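import Mathlib
import Cfsg.Agent.Lib.ColTools

/-!
# Columns of the character table, part 2 (helper7)
-/

set_option autoImplicit false

namespace Cfsg.Agent.Lib.ColTools

open scoped ComplexConjugate
open Cfsg Cfsg.Agent.Lib.CharBasic Module

universe u

variable {G : Type u} [Group G] [Finite G]

/-- sums supported on a list without duplicates -/
theorem sum_list {M : Type*} [AddCommMonoid M] (L : List (IrrCharacter G)) (hL : L.Nodup)
    (f : IrrCharacter G → M) (h : ∀ χ, χ ∉ L → f χ = 0) : ∑ χ, f χ = (L.map f).sum := by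
  classical
  rw [← List.sum_toFinset f hL]
  symm
  apply Finset.sum_subset (Finset.subset_univ _)
  intro χ _ hχ
  exact h χ (by simpa using hχ)

/-- the sum over a list is bounded by the total sum -/
theorem list_le {L : List (IrrCharacter G)} (hL : L.Nodup) (f : IrrCharacter G → ℕ) :
    (L.map f).sum ≤ ∑ χ, f χ := by
  classical
  rw [← List.sum_toFinset f hL]
  exact Finset.sum_le_sum_of_subset (Finset.subset_univ _)

/-- an irreducible character of degree one of a nonabelian simple group is trivial -/
theorem eq_triv_of_deg_one [IsSimpleGroup G] (hG : ¬ IsMulCommutative G) {χ : IrrCharacter G} (h : deg χ = 1) :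
    χ = triv G := by
  have h1 : (χ : G → ℂ) 1 = 1 := by rw [apply_one, h, Nat.cast_one]
  obtain ⟨f, hf⟩ := χ.2.isCharacter.exists_hom h1
  apply Subtype.ext
  funext g
  rw [hf]
  rw [hom_trivial hG f]
  rfl

/-- a nontrivial irreducible character of a nonabelian simple group is `< χ(1)` in absolute value off the identity -/
theorem norm_lt [IsSimpleGroup G] (hG : ¬ IsMulCommutative G) {χ : IrrCharacter G} (hχ : χ ≠ triv G) {g : G}
    (hg : g ≠ 1) : ‖(χ : G → ℂ) g‖ < deg χ := by
  obtain ⟨n, ρ, hρ, hρχ⟩ := χ.2
  have hdeg : (deg χ : ℂ) = (Module.finrank ℂ (Fin n → ℂ) : ℂ) := by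
    rw [← apply_one, ← hρχ, Representation.char_one]
  have hdeg' : deg χ = Module.finrank ℂ (Fin n → ℂ) := by exact_mod_cast hdeg
  have hle := CharValues.norm_character_le ρ g
  rw [hρχ] at hle
  rw [hdeg']
  refine lt_of_le_of_ne hle ?_
  intro heq
  have hinj := CharApps.injective_of_simple ρ hρ (by
    intro h
    apply hχ
    apply Subtype.ext
    rw [← hρχ, h]
    rfl)
  have h1 := (CharValues.norm_character_eq_iff ρ g).1 (by rw [hρχ]; exact heq)
  obtain ⟨c, hc⟩ := h1
  -- `g` is central
  have hcen : g ∈ Subgroup.center G := by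
    rw [Subgroup.mem_center_iff]
    intro h
    apply hinj
    rw [map_mul, map_mul, hc]
    ext v
    simp
  rcases IsSimpleGroup.eq_bot_or_eq_top_of_normal (Subgroup.center G) inferInstance with h2 | h2
  · rw [h2, Subgroup.mem_bot] at hcen
    exact hg hcen
  · apply hG
    refine ⟨⟨fun a b => ?_⟩⟩
    have : b ∈ Subgroup.center G := by rw [h2]; trivial
    exact Subgroup.mem_center_iff.1 this a

end Cfsg.Agent.Lib.ColTools
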