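import Mathlib
import Cfsg.Agent.Lib.ColTools2

/-!
# Columns of the character table, part 3: the block of an element of prime order (helper7)
-/

set_option autoImplicit false

namespace Cfsg.Agent.Lib.ColTools

open scoped ComplexConjugate
open Cfsg Cfsg.Agent.Lib.CharBasic Module

universe u

variable {G : Type u} [Group G] [Finite G]

/-- the column of an element of prime order `p = 3` mod 4 with `|C| = p` and `|N| = p (p - 1) / 2` -/
theorem quad_block {p : ℕ} [Fact p.Prime] (hp : p % 4 = 3) (x : G) (hx : x ^ p = 1)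
    (hconj : ∀ a : ℕ, (a : ZMod p) ≠ 0 → IsSquare (a : ZMod p) → IsConj x (x ^ a))
    (hC : Nat.card (Subgroup.centralizer ({x} : Set G)) = p) (hnr : ¬ IsConj x x⁻¹) :
    ∃ (m : IrrCharacter G → ℤ) (X : IrrCharacter G) (aX : ℤ), cc X ≠ X ∧ X ≠ triv G ∧ cc X ≠ triv G ∧
      m X = 0 ∧ m (cc X) = 0 ∧ m (triv G) = 1 ∧ aX % 2 = 1 ∧
      (∀ χ : IrrCharacter G, χ ≠ X → χ ≠ cc X → (χ : G → ℂ) x = m χ ∧ (χ : G → ℂ) x⁻¹ = m χ) ∧
      ((X : G → ℂ) x + (X : G → ℂ) x⁻¹ = aX) ∧ (4 * ((X : G → ℂ) x * (X : G → ℂ) x⁻¹) = aX ^ 2 + p) ∧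
      (∀ χ : IrrCharacter G, χ ≠ X → χ ≠ cc X → ∃ s : ℤ, 0 ≤ s ∧ (deg χ : ℤ) = m χ + p * s) ∧
      (∃ s : ℤ, 0 ≤ s ∧ 2 * (deg X : ℤ) = aX + p * s) ∧
      2 * ∑ χ, m χ ^ 2 + aX ^ 2 = p ∧
      (∀ g : G, ¬ IsConj g x → ¬ IsConj g x⁻¹ →
        (∑ χ : IrrCharacter G, (m χ : ℂ) * (χ : G → ℂ) g) + aX * (X : G → ℂ) g = 0 ∧
          (X : G → ℂ) g⁻¹ = (X : G → ℂ) g) := by
  classical
  obtain ⟨a, b, h1, h2, h3, h4, h5, h6, h7⟩ := quad_sums hp x hx hconj hC hnr
  have hg2 := gs_sq (p := p) hp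
  have hg0 := gs_ne_zero (p := p) hp
  have hinv : ∀ χ : IrrCharacter G, (cc χ : G → ℂ) x = (χ : G → ℂ) x⁻¹ := fun χ => by
    rw [cc_apply, conj_apply]
  have hinv' : ∀ χ : IrrCharacter G, (cc χ : G → ℂ) x⁻¹ = (χ : G → ℂ) x := fun χ => by
    rw [cc_apply, conj_apply, inv_inv]
  have hacc : ∀ χ, a (cc χ) = a χ := by
    intro χ
    have e1 := h1 (cc χ)
    have e2 := h2 (cc χ)
    rw [hinv] at e1
    rw [hinv'] at e2
    have e3 := h1 χ
    have e4 := h2 χ
    have : (2 : ℂ) * (a (cc χ) : ℂ) = 2 * (a χ : ℂ) := by linear_combination e3 + e4 - e1 - e2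
    have := mul_left_cancel₀ (two_ne_zero) this
    exact_mod_cast this
  have hbcc : ∀ χ, b (cc χ) = - b χ := by
    intro χ
    have e1 := h1 (cc χ)
    have e2 := h2 (cc χ)
    rw [hinv] at e1
    rw [hinv'] at e2
    have e3 := h1 χ
    have e4 := h2 χ
    have : (2 * gs p) * (b (cc χ) : ℂ) = (2 * gs p) * (-(b χ : ℂ)) := by linear_combination e4 - e1 + e2 - e3
    have := mul_left_cancel₀ (mul_ne_zero two_ne_zero hg0) this
    exact_mod_cast this
  have hat : a (triv G) = 2 := by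
    have e1 := h1 (triv G)
    have e2 := h2 (triv G)
    rw [triv_apply] at e1 e2
    have : (2 : ℂ) * (a (triv G) : ℂ) = 2 * 2 := by linear_combination - e1 - e2
    have := mul_left_cancel₀ (two_ne_zero) this
    exact_mod_cast this
  have hbt : b (triv G) = 0 := by
    have e1 := h1 (triv G)
    have e2 := h2 (triv G)
    rw [triv_apply] at e1 e2
    have : (2 * gs p) * (b (triv G) : ℂ) = (2 * gs p) * 0 := by linear_combination - e1 + e2
    have := mul_left_cancel₀ (mul_ne_zero two_ne_zero hg0) this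
    exact_mod_cast this
  obtain ⟨X, hX⟩ : ∃ X, b X ≠ 0 := by
    by_contra hno
    push Not at hno
    simp [hno] at h6
  have hXX : cc X ≠ X := by
    intro h
    have := hbcc X
    rw [h] at this
    omega
  have hX1 : X ≠ triv G := by
    intro h
    rw [h] at hX
    exact hX hbt
  have hX2 : cc X ≠ triv G := by
    intro h
    have := hbcc X
    rw [h, hbt] at this
    omega
  have hb1 : b X ^ 2 + b (cc X) ^ 2 ≤ 2 := by
    rw [← h6]
    have := Finset.sum_le_sum_of_subset_of_nonneg (s := {X, cc X}) (t := Finset.univ) (f := fun χ => b χ ^ 2)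
      (Finset.subset_univ _) (fun χ _ _ => sq_nonneg _)
    rwa [Finset.sum_pair hXX.symm] at this
  have hb2 : b X ^ 2 = 1 := by
    rw [hbcc] at hb1
    have h8 : 0 < b X ^ 2 := by positivity
    nlinarith
  have hb3 : ∀ χ, χ ≠ X → χ ≠ cc X → b χ = 0 := by
    intro χ hχ1 hχ2
    have := Finset.sum_le_sum_of_subset_of_nonneg (s := {χ, X, cc X}) (t := Finset.univ) (f := fun χ => b χ ^ 2)
      (Finset.subset_univ _) (fun χ _ _ => sq_nonneg _)
    rw [Finset.sum_insert (by simp [hχ1, hχ2]), Finset.sum_pair hXX.symm, h6, hbcc, neg_sq, hb2] at this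
    have h8 : b χ ^ 2 ≤ 0 := by linarith
    have h9 : b χ ^ 2 = 0 := le_antisymm h8 (sq_nonneg _)
    exact pow_eq_zero_iff (two_ne_zero) |>.1 h9
  have hev : ∀ χ, χ ≠ X → χ ≠ cc X → a χ = 2 * (a χ / 2) := by
    intro χ hχ1 hχ2
    have := h4 χ
    rw [hb3 χ hχ1 hχ2, add_zero] at this
    omega
  have hodd : a X % 2 = 1 := by
    have := h4 X
    have h8 : b X = 1 ∨ b X = -1 := _root_.sq_eq_one_iff.1 hb2
    rcases h8 with h8 | h8 <;> rw [h8] at this <;> omega
  set m : IrrCharacter G → ℤ := fun χ => if χ = X ∨ χ = cc X then 0 else a χ / 2 with hm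
  have hmX : m X = 0 := by simp [hm]
  have hmX' : m (cc X) = 0 := by simp [hm]
  have hmo : ∀ χ, χ ≠ X → χ ≠ cc X → a χ = 2 * m χ := by
    intro χ hχ1 hχ2
    simp only [hm, hχ1, hχ2, or_self, if_false]
    exact hev χ hχ1 hχ2
  refine ⟨m, X, a X, hXX, hX1, hX2, hmX, hmX', ?_, hodd, ?_, ?_, ?_, ?_, h3 X, ?_, ?_⟩
  · have := hmo (triv G) hX1.symm hX2.symm
    rw [hat] at this
    omega
  · intro χ hχ1 hχ2
    have e1 := h1 χ
    have e2 := h2 χ
    rw [hb3 χ hχ1 hχ2, hmo χ hχ1 hχ2] at e1 e2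
    push_cast at e1 e2
    refine ⟨mul_left_cancel₀ (two_ne_zero (α := ℂ)) (by linear_combination e1), mul_left_cancel₀ (two_ne_zero (α := ℂ)) (by linear_combination e2)⟩
  · have e1 := h1 X
    have e2 := h2 X
    apply mul_left_cancel₀ (two_ne_zero (α := ℂ))
    linear_combination e1 + e2
  · have e1 := h1 X
    have e2 := h2 X
    have e3 : (b X : ℂ) ^ 2 = 1 := by exact_mod_cast hb2
    have : 4 * ((X : G → ℂ) x * (X : G → ℂ) x⁻¹) = (2 * (X : G → ℂ) x) * (2 * (X : G → ℂ) x⁻¹) := by ring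
    rw [this, e1, e2]
    linear_combination (-(gs p ^ 2)) * e3 - hg2
  · intro χ hχ1 hχ2
    obtain ⟨s, hs, hs'⟩ := h3 χ
    rw [hmo χ hχ1 hχ2] at hs'
    have h8 : s % 2 = 0 := by
      have h9 : ((p : ℤ) * s) % 2 = 0 := by omega
      have hp2 : (p : ℤ) % 2 = 1 := by omega
      rw [Int.mul_emod, hp2, one_mul, Int.emod_emod_of_dvd _ (dvd_refl 2)] at h9
      exact h9
    obtain ⟨r, hr⟩ : ∃ r, s = 2 * r := ⟨s / 2, by omega⟩
    refine ⟨r, by omega, ?_⟩
    rw [hr] at hs'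
    linarith
  · have e1 : ∑ χ, a χ ^ 2 = 4 * ∑ χ, m χ ^ 2 + 2 * a X ^ 2 := by
      have e2 : ∀ χ : IrrCharacter G, a χ ^ 2 = 4 * m χ ^ 2 + ((if χ = X then a X ^ 2 else 0) + (if χ = cc X then a X ^ 2 else 0)) := by
        intro χ
        by_cases hχ1 : χ = X
        · rw [hχ1, hmX, if_pos rfl, if_neg hXX.symm]; ring
        · by_cases hχ2 : χ = cc X
          · rw [hχ2, hmX', if_pos rfl, if_neg hXX, hacc]; ring
          · rw [hmo χ hχ1 hχ2, if_neg hχ1, if_neg hχ2]; ring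
      rw [Finset.sum_congr rfl fun χ _ => e2 χ, Finset.sum_add_distrib, Finset.sum_add_distrib, Finset.mul_sum,
        Finset.sum_ite_eq', Finset.sum_ite_eq', if_pos (Finset.mem_univ _), if_pos (Finset.mem_univ _)]
      ring
    rw [h5] at e1
    linarith
  · intro g hg1 hg2'
    obtain ⟨e1, e2⟩ := h7 g hg1 hg2'
    have e3 : (b X : ℂ) * ((X : G → ℂ) g - (cc X : G → ℂ) g) = 0 := by
      rw [← e2]
      have e4 : ∀ χ : IrrCharacter G, (b χ : ℂ) * (χ : G → ℂ) g = (if χ = X then (b X : ℂ) * (X : G → ℂ) g else 0) +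
          (if χ = cc X then - (b X : ℂ) * (cc X : G → ℂ) g else 0) := by
        intro χ
        by_cases hχ1 : χ = X
        · rw [hχ1, if_pos rfl, if_neg hXX.symm]; ring
        · by_cases hχ2 : χ = cc X
          · rw [hχ2, if_pos rfl, if_neg hXX, hbcc]; push_cast; ring
          · rw [hb3 χ hχ1 hχ2, if_neg hχ1, if_neg hχ2]; push_cast; ring
      rw [Finset.sum_congr rfl fun χ _ => e4 χ, Finset.sum_add_distrib,
        Finset.sum_ite_eq', Finset.sum_ite_eq', if_pos (Finset.mem_univ _), if_pos (Finset.mem_univ _)]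
      ring
    have e5 : (cc X : G → ℂ) g = (X : G → ℂ) g := by
      have e6 : (b X : ℂ) ≠ 0 := by exact_mod_cast hX
      exact (sub_eq_zero.1 ((mul_eq_zero.1 e3).resolve_left e6)).symm
    refine ⟨?_, ?_⟩
    · have e6 : ∑ χ : IrrCharacter G, (a χ : ℂ) * (χ : G → ℂ) g = 2 * ((∑ χ : IrrCharacter G, (m χ : ℂ) * (χ : G → ℂ) g) + a X * (X : G → ℂ) g) := by
        have e4 : ∀ χ : IrrCharacter G, (a χ : ℂ) * (χ : G → ℂ) g = 2 * ((m χ : ℂ) * (χ : G → ℂ) g) + ((if χ = X then (a X : ℂ) * (X : G → ℂ) g else 0) +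
            (if χ = cc X then (a X : ℂ) * (cc X : G → ℂ) g else 0)) := by
          intro χ
          by_cases hχ1 : χ = X
          · rw [hχ1, hmX, if_pos rfl, if_neg hXX.symm]; push_cast; ring
          · by_cases hχ2 : χ = cc X
            · rw [hχ2, hmX', if_pos rfl, if_neg hXX, hacc]; push_cast; ring
            · rw [hmo χ hχ1 hχ2, if_neg hχ1, if_neg hχ2]; push_cast; ring
        rw [Finset.sum_congr rfl fun χ _ => e4 χ, Finset.sum_add_distrib, Finset.sum_add_distrib, ← Finset.mul_sum,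
          Finset.sum_ite_eq', Finset.sum_ite_eq', if_pos (Finset.mem_univ _), if_pos (Finset.mem_univ _), e5]
        ring
      rw [e6] at e1
      exact (mul_eq_zero.1 e1).resolve_left two_ne_zero
    · rw [← conj_apply, ← cc_apply, e5]

end Cfsg.Agent.Lib.ColTools
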