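import Mathlib
import Cfsg.Agent.Lib.ColTools3

/-!
# Columns of the character table, part 4: rational elements, vanishing, fixed spaces (helper7)
-/

set_option autoImplicit false

namespace Cfsg.Agent.Lib.ColTools

open scoped ComplexConjugate
open Cfsg Cfsg.Agent.Lib.CharBasic Module

universe u

variable {G : Type u} [Group G] [Finite G]

/-- values on a rational element of prime order -/
theorem rat_val {p : ℕ} [Fact p.Prime] (χ : IrrCharacter G) (x : G) (hx : x ^ p = 1)
    (hconj : ∀ a : ℕ, (a : ZMod p) ≠ 0 → IsConj x (x ^ a)) :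
    ∃ c0 c1 : ℕ, (χ : G → ℂ) x = ((c0 - c1 : ℤ) : ℂ) ∧ (deg χ : ℤ) = c0 + (p - 1) * c1 := by
  classical
  obtain ⟨c, hc⟩ := exists_counts_prime χ.2.isCharacter x hx
  have hinv : ∀ j : ZMod p, j ≠ 0 → c j = c 1 := by
    intro j hj
    have h1 : ((j.val : ℕ) : ZMod p) = j := ZMod.natCast_zmod_val j
    have h2 := counts_mul χ.2.isCharacter x hx hc (a := j.val) (by rw [h1]; exact hj)
      (hconj _ (by rw [h1]; exact hj)) 1
    rwa [h1, mul_one] at h2
  have hsum : ∀ k : ℕ, (χ : G → ℂ) (x ^ k) = (c 1 : ℂ) * ∑ j : ZMod p, ZMod.stdAddChar (j * (k : ZMod p)) +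
      ((c 0 : ℂ) - c 1) := by
    intro k
    rw [hc, Finset.mul_sum]
    have h1 : ∀ j : ZMod p, (c j : ℂ) * ZMod.stdAddChar (j * (k : ZMod p)) =
        (c 1 : ℂ) * ZMod.stdAddChar (j * (k : ZMod p)) + (if j = 0 then ((c 0 : ℂ) - c 1) else 0) := by
      intro j
      by_cases hj : j = 0
      · subst hj
        simp
      · rw [if_neg hj, hinv j hj]; ring
    simp only [h1]
    rw [Finset.sum_add_distrib, Finset.sum_ite_eq' Finset.univ (0 : ZMod p), if_pos (Finset.mem_univ _)]
  have hz : ∀ k : ZMod p, k ≠ 0 → ∑ j : ZMod p, ZMod.stdAddChar (j * k) = 0 := by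
    intro k hk
    rw [AddChar.sum_mulShift _ (ZMod.isPrimitive_stdAddChar p), if_neg hk, Nat.cast_zero]
  refine ⟨c 0, c 1, ?_, ?_⟩
  · have h1 := hsum 1
    rw [pow_one, Nat.cast_one, hz 1 one_ne_zero] at h1
    rw [h1]; push_cast; ring
  · have h1 := hsum 0
    rw [pow_zero, Nat.cast_zero] at h1
    simp only [mul_zero, AddChar.map_zero_eq_one] at h1
    rw [Finset.sum_const, Finset.card_univ, ZMod.card, nsmul_eq_mul, apply_one] at h1
    have h2 : ((deg χ : ℤ) : ℂ) = ((c 0 + (p - 1) * c 1 : ℤ) : ℂ) := by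
      push_cast
      rw [h1]
      ring
    exact_mod_cast h2

/-- the degree of a representation affording an irreducible character -/
theorem deg_eq_finrank (χ : IrrCharacter G) {n : ℕ} (ρ : Representation ℂ G (Fin n → ℂ)) (h : ρ.character = (χ : G → ℂ)) :
    deg χ = Module.finrank ℂ (Fin n → ℂ) := by
  have : (deg χ : ℂ) = (Module.finrank ℂ (Fin n → ℂ) : ℂ) := by
    rw [← apply_one, ← h, Representation.char_one]
  exact_mod_cast this

/-- characters of `p`-defect zero vanish on `p`-singular elements -/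
theorem vanish (χ : IrrCharacter G) (p n : ℕ) (hp : p.Prime) (hn : ¬ p ^ (n + 1) ∣ Nat.card G)
    (hdeg : p ^ n ∣ deg χ) (x : G) (hx : p ∣ orderOf x) : (χ : G → ℂ) x = 0 := by
  obtain ⟨m, ρ, hρ, hρχ⟩ := χ.2
  have h1 := deg_eq_finrank χ ρ hρχ
  rw [h1] at hdeg
  rw [← hρχ]
  exact DefectZeroVanish.character_eq_zero ρ p n hp hn hdeg x hx

/-- the sum over a cyclic group -/
theorem sum_cyclic {χ : G → ℂ} (hχ : IsCharacter G χ) (w : G) {N : ℕ} (hN : w ^ N = 1) (hN0 : N ≠ 0) :
    ∃ n : ℕ, ∑ i ∈ Finset.range N, χ (w ^ i) = N * n := by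
  have : NeZero N := ⟨hN0⟩
  have hζ := Complex.isPrimitiveRoot_exp N hN0
  set ζ := Complex.exp (2 * Real.pi * Complex.I / N) with hζd
  obtain ⟨c, h1, -⟩ := exists_counts hχ w hN hζ hN0
  refine ⟨c 0, ?_⟩
  simp only [h1]
  rw [Finset.sum_comm, Finset.sum_eq_single (0 : Fin N)]
  · simp
  · intro j _ hj
    have h2 : ∀ i ∈ Finset.range N, (c j : ℂ) * ζ ^ (j.val * i) = (c j : ℂ) * (ζ ^ j.val) ^ i := fun i _ => by
      rw [pow_mul]
    rw [Finset.sum_congr rfl h2, ← Finset.mul_sum]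
    have h3 : ζ ^ j.val ≠ 1 := by
      intro h
      have h4 := hζ.dvd_of_pow_eq_one _ h
      have h5 := j.2
      have h6 : j.val ≠ 0 := fun h => hj (Fin.ext (by rw [h]; rfl))
      have := Nat.le_of_dvd (by omega) h4
      omega
    have h4 := geom_sum_mul (ζ ^ j.val) N
    rw [← pow_mul, mul_comm j.val N, pow_mul, hζ.pow_eq_one, one_pow, sub_self] at h4
    rw [(mul_eq_zero.1 h4).resolve_right (sub_ne_zero.2 h3), mul_zero]
  · intro h; exact absurd (Finset.mem_univ _) h

/-- the dimension of the fixed space of a subgroup -/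
theorem sum_subgroup {V : Type*} [AddCommGroup V] [Module ℂ V] [FiniteDimensional ℂ V] (ρ : Representation ℂ G V)
    (H : Subgroup G) [Fintype H] :
    ∑ h : H, ρ.character (h : G) = Nat.card H * Module.finrank ℂ (Representation.invariants (ρ.comp H.subtype)) := by
  have h1 := classInner_one_eq_finrank_invariants (ρ.comp H.subtype : Representation ℂ H V)
  rw [classInner_def] at h1
  have h2 : (Nat.card H : ℂ) ≠ 0 := by exact_mod_cast Nat.card_pos.ne'
  rw [← h1, ← mul_assoc, mul_inv_cancel₀ h2, one_mul]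
  refine Finset.sum_congr rfl fun h _ => ?_
  show ρ.character (h : G) = ρ.character (h : G) * _
  simp

end Cfsg.Agent.Lib.ColTools
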