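import Mathlib

set_option autoImplicit false
set_option linter.all false

/-!
# Arithmetic of the Brauer–Reynolds theorem
-/

namespace Cfsg.Agent.Lib.BRNum

/-- `n` has Brauer's form `F(p,u,h)`. -/
def FForm (p n : ℕ) : Prop := ∃ h u : ℕ, 0 < h ∧ 0 < u ∧ n * (u + 1) = h * u * p + u ^ 2 + u + h

theorem FForm.of_int {p n : ℕ} {h u : ℤ} (hh : 0 < h) (hu : 0 < u)
    (he : (n : ℤ) * (u + 1) = h * u * p + u ^ 2 + u + h) : FForm p n := by
  obtain ⟨a, rfl⟩ := Int.eq_ofNat_of_zero_le hh.le
  obtain ⟨b, rfl⟩ := Int.eq_ofNat_of_zero_le hu.le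
  exact ⟨a, b, by exact_mod_cast hh, by exact_mod_cast hu, by exact_mod_cast he⟩

variable {p e t n : ℕ}

theorem plus (hp : p = e * t + 1) (he : 0 < e) {m m' : ℤ} (hm : 0 < m) (hm' : 0 < m')
    (h : (1 + m * p) * (e + m' * p) = e * (1 + n * p)) : FForm p n := by
  have hp0 : (p : ℤ) ≠ 0 := by rw [hp]; positivity
  have he0 : (e : ℤ) ≠ 0 := by exact_mod_cast he.ne'
  have hpz : (p : ℤ) = e * t + 1 := by rw [hp]; push_cast; ring
  have h1 : e * m + m' * (1 + m * p) = e * (n : ℤ) := by
    apply mul_left_cancel₀ hp0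
    linear_combination h
  obtain ⟨k, hk⟩ : (e : ℤ) ∣ m' * (m + 1) := by
    refine ⟨n - m - m' * m * t, ?_⟩
    rw [hpz] at h1
    linear_combination h1
  have hk0 : 0 < k := by
    have h2 : 0 < (e : ℤ) * k := by rw [← hk]; positivity
    exact pos_of_mul_pos_right h2 (by positivity)
  refine FForm.of_int (h := k) (u := m) hk0 hm ?_
  apply mul_left_cancel₀ he0
  linear_combination (-(m + 1)) * h1 + (1 + m * p) * hk

theorem minus (hp : p = e * t + 1) (he : 0 < e) {m m' : ℤ} (hm : 1 < m) (hm' : 0 < m') (ht : 1 < m' * t)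
    (h : (m * p - 1) * (m' * p - e) = e * (1 + n * p)) : FForm p n := by
  have hp0 : (p : ℤ) ≠ 0 := by rw [hp]; positivity
  have he0 : (e : ℤ) ≠ 0 := by exact_mod_cast he.ne'
  have hpz : (p : ℤ) = e * t + 1 := by rw [hp]; push_cast; ring
  have h1 : m * m' * p - e * m - m' = e * (n : ℤ) := by
    apply mul_left_cancel₀ hp0
    linear_combination h
  obtain ⟨k, hk⟩ : (e : ℤ) ∣ m' * (m - 1) := by
    refine ⟨n + m - m * m' * t, ?_⟩
    rw [hpz] at h1
    linear_combination h1
  have hk0 : 0 < k := by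
    have h2 : 0 < (e : ℤ) * k := by rw [← hk]; exact mul_pos hm' (by linarith)
    exact pos_of_mul_pos_right h2 (by positivity)
  refine FForm.of_int (h := k) (u := m' * t - 1) hk0 (by linarith) ?_
  apply mul_left_cancel₀ he0
  linear_combination (-(m' * t)) * h1 + ((m' * t - 1) * p + 1) * hk + (m' * m - m' + m' ^ 2 * t) * hpz


/-! ### degrees -/

section deg

variable (hp : p = e * t + 1) (he : 0 < e) (het : e < p) (hn : 0 < n) (hF : ¬ FForm p n)
include hp he het hF

/-- positive sign -/
theorem deg_pos {d w k : ℤ} (hw : 0 < w) (hd : d = 1 + k * p) (hk : 0 < k) (h : d * w = e * (1 + n * p)) :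
    w = e ∧ d = 1 + n * p := by
  have hpz : 0 < (p : ℤ) := by rw [hp]; positivity
  have he0 : (e : ℤ) ≠ 0 := by exact_mod_cast he.ne'
  obtain ⟨m', hm'⟩ : (p : ℤ) ∣ w - e := by
    refine ⟨e * n - k * w, ?_⟩
    rw [hd] at h
    linear_combination h
  have hw' : w = e + m' * p := by linear_combination hm'
  have hm0 : 0 ≤ m' := by
    by_contra hcon
    push Not at hcon
    have h1 : m' * p ≤ -1 * p := mul_le_mul_of_nonneg_right (by omega) hpz.le
    have h2 : (e : ℤ) < p := by exact_mod_cast het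
    linarith
  rcases hm0.eq_or_lt with h0 | h0
  · rw [← h0, zero_mul, add_zero] at hw'
    refine ⟨hw', ?_⟩
    rw [hw'] at h
    apply mul_right_cancel₀ he0
    linear_combination h
  · exfalso
    apply hF
    rw [hd, hw'] at h
    exact plus hp he hk h0 h

/-- negative sign -/
theorem deg_neg {d w k : ℤ} (hd0 : 0 < d) (hw : 0 < w) (hd : d = k * p - 1) (h : d * w = e * (1 + n * p)) :
    d = p - 1 ∨ (t ≤ 1 ∧ w = p - e) := by
  have hpz : 0 < (p : ℤ) := by rw [hp]; positivity
  have he0 : (e : ℤ) ≠ 0 := by exact_mod_cast he.ne'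
  have hez : 0 < (e : ℤ) := by exact_mod_cast he
  obtain ⟨m', hm'⟩ : (p : ℤ) ∣ w + e := by
    refine ⟨k * w - e * n, ?_⟩
    rw [hd] at h
    linear_combination -h
  have hw' : w = m' * p - e := by linear_combination hm'
  have hm0 : 0 < m' := by
    have h1 : 0 < m' * p := by linarith
    exact pos_of_mul_pos_left h1 hpz.le
  have hk0 : 0 < k := by
    have h1 : 0 < k * p := by linarith
    exact pos_of_mul_pos_left h1 hpz.le
  by_cases hk1 : k = 1
  · left; rw [hd, hk1]; ring
  · right
    by_cases ht : 1 < m' * t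
    · exfalso
      apply hF
      rw [hd, hw'] at h
      exact minus hp he (m := k) (by omega) hm0 ht h
    · push Not at ht
      have ht0 : 0 < t := by
        rcases Nat.eq_zero_or_pos t with h0 | h0
        · rw [h0, mul_zero, zero_add] at hp; omega
        · exact h0
      have htz : (1 : ℤ) ≤ t := by exact_mod_cast ht0
      have h1 : m' * 1 ≤ m' * t := mul_le_mul_of_nonneg_left htz hm0.le
      have h2 : m' = 1 := by omega
      rw [h2, one_mul] at ht hw'
      exact ⟨by exact_mod_cast ht, hw'⟩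

/-- exceptional, positive sign -/
theorem exc_pos {z w k : ℤ} (hz0 : 0 < z) (hw : 0 < w) (hz : z = k * p + e) (h : z * w = e * (1 + n * p)) :
    z = e ∨ z = e * (1 + n * p) := by
  have hpz : 0 < (p : ℤ) := by rw [hp]; positivity
  have he0 : (e : ℤ) ≠ 0 := by exact_mod_cast he.ne'
  have hez : 0 < (e : ℤ) := by exact_mod_cast he
  have hep : (e : ℤ) < p := by exact_mod_cast het
  have hcop : IsCoprime (p : ℤ) e := by
    refine ⟨1, -t, ?_⟩
    rw [hp]; push_cast; ring
  obtain ⟨m, hm⟩ : (p : ℤ) ∣ w - 1 := by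
    apply hcop.dvd_of_dvd_mul_left
    refine ⟨e * n - k * w, ?_⟩
    rw [hz] at h
    linear_combination h
  have hw' : w = 1 + m * p := by linear_combination hm
  have hm0 : 0 ≤ m := by
    by_contra hcon
    push Not at hcon
    have h1 : m * p ≤ -1 * p := mul_le_mul_of_nonneg_right (by omega) hpz.le
    linarith
  have hk0 : 0 ≤ k := by
    by_contra hcon
    push Not at hcon
    have h1 : k * p ≤ -1 * p := mul_le_mul_of_nonneg_right (by omega) hpz.le
    linarith
  rcases hm0.eq_or_lt with h0 | h0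
  · right
    rw [← h0, zero_mul, add_zero] at hw'
    rw [hw', mul_one] at h
    exact h
  · rcases hk0.eq_or_lt with h1 | h1
    · left; rw [hz, ← h1]; ring
    · exfalso
      apply hF
      rw [hz, hw'] at h
      exact plus hp he h0 h1 (by linear_combination h)

/-- exceptional, negative sign -/
theorem exc_neg (ht : 1 < t) {z w k : ℤ} (hz0 : 0 < z) (hw : 0 < w) (hz : z = k * p - e)
    (h : z * w = e * (1 + n * p)) : w = p - 1 ∧ z * t = 1 + n * p := by
  have hpz : 0 < (p : ℤ) := by rw [hp]; positivity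
  have he0 : (e : ℤ) ≠ 0 := by exact_mod_cast he.ne'
  have hez : 0 < (e : ℤ) := by exact_mod_cast he
  have hep : (e : ℤ) < p := by exact_mod_cast het
  have hpz' : (p : ℤ) = e * t + 1 := by rw [hp]; push_cast; ring
  have hcop : IsCoprime (p : ℤ) e := by
    refine ⟨1, -t, ?_⟩
    rw [hp]; push_cast; ring
  obtain ⟨m, hm⟩ : (p : ℤ) ∣ w + 1 := by
    apply hcop.dvd_of_dvd_mul_left
    refine ⟨k * w - e * n, ?_⟩
    rw [hz] at h
    linear_combination -h
  have hw' : w = m * p - 1 := by linear_combination hm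
  have hk0 : 0 < k := by
    have h1 : 0 < k * p := by linarith
    exact pos_of_mul_pos_left h1 hpz.le
  have hm0 : 0 < m := by
    have h1 : 0 < m * p := by linarith
    exact pos_of_mul_pos_left h1 hpz.le
  have hm1 : m = 1 := by
    by_contra hcon
    apply hF
    rw [hz, hw'] at h
    have htz : (1 : ℤ) < t := by exact_mod_cast ht
    refine minus hp he (m := m) (m' := k) (by omega) hk0 (by nlinarith) (by linear_combination h)
  rw [hm1, one_mul] at hw'
  refine ⟨hw', ?_⟩
  apply mul_left_cancel₀ he0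
  rw [hw'] at h
  linear_combination h - z * hpz'

end deg


/-- numbers in the case of negative exceptional sign -/
theorem numC {p e t n a b z : ℕ} {k : ℤ} (hp : p.Prime) (hpe : p = e * t + 1) (he : 1 < e) (ht : 1 < t) (hn : 0 < n)
    (hz : (z : ℤ) = k * p - e) (h1 : z * t = 1 + n * p) (hrel : -(z : ℤ) = 1 + a * (1 + n * p) - b * ((p : ℤ) - 1))
    (hcs : e = 1 + a + b) (hL : (n + 1) * e ∣ e * p * (1 + n * p)) :
    z + e = p ∧ n + 1 = t ∧ e = a * t + 2 ∧ Even e := by
  have hpz : (p : ℤ) = e * t + 1 := by exact_mod_cast hpe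
  have hp0 : (p : ℤ) ≠ 0 := by exact_mod_cast hp.ne_zero
  have h1z : (z : ℤ) * t = 1 + n * p := by exact_mod_cast h1
  have hn1 : (n : ℤ) + 1 = k * t := by
    apply mul_left_cancel₀ hp0
    rw [hz] at h1z
    linear_combination (-1 : ℤ) * h1z + hpz
  have hak : ((a : ℤ) * t + 1) * k = e - 1 := by
    apply mul_left_cancel₀ hp0
    have h2 : (b : ℤ) = e - 1 - a := by
      have : (e : ℤ) = 1 + a + b := by exact_mod_cast hcs
      linarith
    rw [h2, ← h1z, hz] at hrel
    linear_combination (-1 : ℤ) * hrel - (a : ℤ) * hpz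
  have htz : (0 : ℤ) < t := by exact_mod_cast (by omega : 0 < t)
  have hk0 : 0 < k := by
    have h2 : 0 < k * t := by rw [← hn1]; positivity
    exact pos_of_mul_pos_left h2 htz.le
  obtain ⟨m, rfl⟩ := Int.eq_ofNat_of_zero_le hk0.le
  have hm0 : 0 < m := by exact_mod_cast hk0
  have hn1' : n + 1 = m * t := by exact_mod_cast hn1
  have hak' : (a * t + 1) * m + 1 = e := by
    have : ((a : ℤ) * t + 1) * m + 1 = e := by rw [hak]; ring
    exact_mod_cast this
  have hm1 : m = 1 := by
    -- `m ∣ p z`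
    have h2 : n + 1 ∣ p * (1 + n * p) := by
      obtain ⟨c, hc⟩ := hL
      refine ⟨c, ?_⟩
      apply Nat.eq_of_mul_eq_mul_left (show 0 < e by omega)
      linarith
    have h3 : m ∣ p * z := by
      rw [hn1', ← h1] at h2
      obtain ⟨c, hc⟩ := h2
      refine ⟨c, ?_⟩
      apply Nat.eq_of_mul_eq_mul_right (show 0 < t by omega)
      linarith
    have hmlt : m < p := by
      have h4 : m ≤ (a * t + 1) * m := Nat.le_mul_of_pos_left _ (by omega)
      have h5 : e ≤ e * t := Nat.le_mul_of_pos_right _ (by omega)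
      omega
    have h4 : Nat.Coprime m p := by
      rw [Nat.coprime_comm, Nat.Prime.coprime_iff_not_dvd hp]
      intro h5
      have := Nat.le_of_dvd hm0 h5
      omega
    have h5 : m ∣ z := h4.dvd_of_dvd_mul_left h3
    have h6 : (m : ℤ) ∣ e := by
      have h7 : (m : ℤ) ∣ z := by exact_mod_cast h5
      have h8 : (e : ℤ) = m * p - z := by rw [hz]; ring
      rw [h8]
      exact dvd_sub (dvd_mul_right _ _) h7
    have h7 : m ∣ e := by exact_mod_cast h6
    have h8 : m ∣ 1 := by
      have h9 : m ∣ (a * t + 1) * m := dvd_mul_left _ _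
      rw [← hak'] at h7
      exact (Nat.dvd_add_right h9).1 h7
    exact Nat.dvd_one.1 h8
  subst hm1
  have hz' : z + e = p := by
    have : (z : ℤ) + e = p := by rw [hz]; push_cast; ring
    exact_mod_cast this
  have h3 : e = a * t + 2 := by omega
  refine ⟨hz', by omega, h3, ?_⟩
  by_contra hodd
  rw [Nat.not_even_iff_odd] at hodd
  have hp2 : p ≠ 2 := by
    intro h4
    have : 2 * 2 ≤ e * t := Nat.mul_le_mul (by omega) (by omega)
    omega
  have hpo : Odd p := hp.odd_of_ne_two hp2
  have h4 : Even (e * t) := by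
    rw [hpe] at hpo
    exact Nat.even_add_one.not_left.mp (by simpa using Nat.not_even_iff_odd.2 hpo) 
  have h5 : Even t := by
    rcases Nat.even_mul.1 h4 with h6 | h6
    · exact absurd h6 (Nat.not_even_iff_odd.2 hodd)
    · exact h6
  apply (Nat.not_even_iff_odd.2 hodd)
  rw [h3]
  exact (h5.mul_left a).add even_two

end Cfsg.Agent.Lib.BRNum
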