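import Cfsg.Agent.Lib.BlockTransfer

/-!
# The extended first main theorem
-/

set_option autoImplicit false
set_option linter.all false

namespace Cfsg.Agent.Lib.BlockExtFM

open Cfsg Cfsg.Agent.Lib.BlockRing Cfsg.Agent.Lib.BlockGA Cfsg.Agent.Lib.BlockIdem
open Cfsg.Agent.Lib.CharBasic Cfsg.Agent.Lib.BlockNormP Cfsg.Agent.Lib.BlockHom Cfsg.Agent.Lib.BlockDefect
open Cfsg.Agent.Lib.BlockFirst Cfsg.Agent.Lib.BlockCover Cfsg.Agent.Lib.BlockTransfer
open Cfsg.Agent.Lib.BlockRes (resH coeff_resH brH coeff_brH)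
open Cfsg.Agent.Lib.BlockInd Cfsg.Agent.Lib.Clifford
open scoped ComplexConjugate

universe u

variable {G : Type u} [Group G] [Finite G] {p : ℕ} {M : Ideal AlgInt}

omit [Finite G] in
theorem sup_centralizer_le_normalizer (P : Subgroup G) :
    P ⊔ Subgroup.centralizer (P : Set G) ≤ Subgroup.normalizer (P : Set G) :=
  sup_le Subgroup.le_normalizer (Subgroup.centralizer_le_normalizer _)

theorem conj_mem_sup {P : Subgroup G} {n x : G} (hn : n ∈ Subgroup.normalizer (P : Set G))
    (hx : x ∈ P ⊔ Subgroup.centralizer (P : Set G)) : n * x * n⁻¹ ∈ P ⊔ Subgroup.centralizer (P : Set G) := by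
  have h1 : (P ⊔ Subgroup.centralizer (P : Set G)).map (MulAut.conj n).toMonoidHom ≤
      P ⊔ Subgroup.centralizer (P : Set G) := by
    rw [Subgroup.map_sup]
    refine sup_le_sup ?_ ?_
    · rintro _ ⟨y, hy, rfl⟩
      exact (Subgroup.mem_normalizer_iff.1 hn y).1 hy
    · rintro _ ⟨y, hy, rfl⟩
      exact (BlockRes.conj_mem_centralizer_iff hn).2 hy
  exact h1 ⟨x, hx, rfl⟩

/-- an induced block of a normal subgroup is covered. -/
theorem covers_of_induced [M.IsPrime] {N : Subgroup G} [N.Normal] [Fintype N] {b : Set (IrrCharacter N)}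
    {B : Set (IrrCharacter G)} (h : IsInducedBlock M N b B) : Covers B b := by
  obtain ⟨χ, hχ⟩ := isPBlock_nonempty h.2.1
  obtain ⟨θ, hθ⟩ := isPBlock_nonempty h.1
  obtain ⟨θ', hθ', h1⟩ := passman_mpr h.1 hθ (χ := χ) (fun n => idl_sub_symm (h.2.2 θ hθ χ hχ n))
  exact ⟨χ, hχ, θ', hθ', h1⟩

/-- Let `P` be a defect group of `B` and `b` a block of `L = P C_G(P)` inducing `B`. Then there is a block of
`N_G(P)` with defect group `P` inducing `B` and induced by `b`. -/
theorem exists_intermediate (hM : IsPModular p M) {P : Subgroup G} {B : Set (IrrCharacter G)}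
    (hP : IsDefectGroup p M B P) {b : Set (IrrCharacter ↥(P ⊔ Subgroup.centralizer (P : Set G)))}
    (hb : IsInducedBlock M (P ⊔ Subgroup.centralizer (P : Set G)) b B) :
    ∃ β : Set (IrrCharacter (Subgroup.normalizer (P : Set G))),
      IsInducedBlock M ((P ⊔ Subgroup.centralizer (P : Set G)).subgroupOf (Subgroup.normalizer (P : Set G)))
        (trB (subE (sup_centralizer_le_normalizer P)) b) β ∧
      IsInducedBlock M (Subgroup.normalizer (P : Set G)) β B := by
  haveI := isPrime hM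
  set N := Subgroup.normalizer (P : Set G) with hN
  set L := P ⊔ Subgroup.centralizer (P : Set G) with hL
  have hLN : L ≤ N := sup_centralizer_le_normalizer P
  have hPp : IsPGroup p P := defectGroup_isPGroup hP
  have hPN : P ≤ N := Subgroup.le_normalizer
  have hCN : Subgroup.centralizer (P : Set G) ≤ N := Subgroup.centralizer_le_normalizer _
  haveI hnorm : (P.subgroupOf N).Normal := Subgroup.normal_in_normalizer
  have hPp' : IsPGroup p (P.subgroupOf N) := hPp.of_equiv (Subgroup.subgroupOfEquivOfLe hPN).symm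
  have h1 : P.subgroupOf N ≤ L.subgroupOf N := by
    intro x hx
    rw [Subgroup.mem_subgroupOf] at hx ⊢
    exact (le_sup_left : P ≤ L) hx
  have h2 : Subgroup.centralizer ((P.subgroupOf N : Subgroup N) : Set N) ≤ L.subgroupOf N := by
    intro x hx
    rw [Subgroup.mem_subgroupOf]
    apply (le_sup_right : Subgroup.centralizer (P : Set G) ≤ L)
    rw [Subgroup.mem_centralizer_iff] at hx ⊢
    intro u hu
    exact congrArg Subtype.val (hx ⟨u, hPN hu⟩ (by rwa [SetLike.mem_coe, Subgroup.mem_subgroupOf]))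
  have h3 : L.subgroupOf N ≤ Subgroup.normalizer ((P.subgroupOf N : Subgroup N) : Set N) := by
    rw [Subgroup.normalizer_eq_top]; exact le_top
  obtain ⟨β, hβ⟩ := inducedBlockDefined (G := N) hM hPp' h1 h2 h3 (isPBlock_tr (e := subE hLN) hb.1)
  obtain ⟨B', hB'⟩ := inducedBlockDefined (G := G) (P := P) (H := N) hM hPp hPN hCN le_rfl hβ.2.1
  have h4 := isInducedBlock_trans hLN hβ hB'
  rw [induced_unique hb h4]
  exact ⟨β, hβ, hB'⟩

theorem ext_first_unique (hM : IsPModular p M) {P : Subgroup G} {B : Set (IrrCharacter G)}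
    (hP : IsDefectGroup p M B P) {b b' : Set (IrrCharacter ↥(P ⊔ Subgroup.centralizer (P : Set G)))}
    (hb : IsInducedBlock M (P ⊔ Subgroup.centralizer (P : Set G)) b B)
    (hb' : IsInducedBlock M (P ⊔ Subgroup.centralizer (P : Set G)) b' B) :
    ∃ n ∈ Subgroup.normalizer (P : Set G), ∀ θ ∈ b, ∃ θ' ∈ b',
      ∀ x : ↥(P ⊔ Subgroup.centralizer (P : Set G)),
        ∀ hx : n * (x : G) * n⁻¹ ∈ P ⊔ Subgroup.centralizer (P : Set G),
          (θ' : ↥(P ⊔ Subgroup.centralizer (P : Set G)) → ℂ) x =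
            (θ : ↥(P ⊔ Subgroup.centralizer (P : Set G)) → ℂ) ⟨n * (x : G) * n⁻¹, hx⟩ := by
  classical
  haveI := isPrime hM
  have hPp : IsPGroup p P := defectGroup_isPGroup hP
  obtain ⟨β, hβ, hβB⟩ := exists_intermediate hM hP hb
  obtain ⟨β', hβ', hβB'⟩ := exists_intermediate hM hP hb'
  have hLN := sup_centralizer_le_normalizer P
  have hPN : P ≤ Subgroup.normalizer (P : Set G) := Subgroup.le_normalizer
  have hD := defectGroup_of_induced hM hPN le_rfl hβB hP
  have hD' := defectGroup_of_induced hM hPN le_rfl hβB' hP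
  have heq : β = β' := first_main_unique hM hPp hβB hD hβB' hD'
  subst heq
  haveI hLn : ((P ⊔ Subgroup.centralizer (P : Set G)).subgroupOf (Subgroup.normalizer (P : Set G))).Normal := by
    constructor
    intro x hx n
    rw [Subgroup.mem_subgroupOf] at hx ⊢
    exact conj_mem_sup n.2 hx
  haveI := Fintype.ofFinite ((P ⊔ Subgroup.centralizer (P : Set G)).subgroupOf (Subgroup.normalizer (P : Set G)))
  haveI := Fintype.ofFinite (Subgroup.normalizer (P : Set G))
  obtain ⟨χ, hχ⟩ := isPBlock_nonempty hβ.2.1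
  obtain ⟨θ₀, hθ₀, h1⟩ := covers_all hβ.2.1 (unionOfBlocks_of_isPBlock hβ.1) (covers_of_induced hβ) hχ
  obtain ⟨θ₁, hθ₁, h2⟩ := covers_all hβ.2.1 (unionOfBlocks_of_isPBlock hβ'.1) (covers_of_induced hβ') hχ
  obtain ⟨n, hn⟩ := exists_cj_eq χ.2 θ₀.2 θ₁.2 h1 h2
  refine ⟨n, n.2, fun θ hθ => ?_⟩
  have hθt' : trI (subE hLN) θ ∈ trB (subE hLN) b := trI_mem_trB.2 hθ
  have hsb := sameBlock_of_mem hβ.1 hθ₀ hθt'
  have h3 := sameBlock_cj hsb n
  rw [← hn] at h3
  let η : IrrCharacter ((P ⊔ Subgroup.centralizer (P : Set G)).subgroupOf (Subgroup.normalizer (P : Set G))) :=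
    ⟨cj _ n (trI (subE hLN) θ), isIrrCharacter_cj (trI (subE hLN) θ).2 n⟩
  have hη : η ∈ trB (subE hLN) b' := mem_of_sameBlock hβ'.1 hθ₁ h3
  refine ⟨trI (subE hLN).symm η, mem_trB.1 hη, fun x hx => ?_⟩
  rw [trI_apply]
  rfl

end Cfsg.Agent.Lib.BlockExtFM
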