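import Mathlib
import Cfsg.Agent.Lib.DefOneTrace

set_option autoImplicit false
set_option linter.all false

/-!
# Local structure of a group with a Sylow subgroup of prime order
-/

namespace Cfsg.Agent.Lib.DefOneLoc

open Cfsg.Agent.Lib.DefOneMod Cfsg.Agent.Lib.DefOneTrace

/-- Local data: `C` is the centralizer of the Sylow subgroup `P = ⟨u⟩` of prime order `p`, `N` the
normalizer, `l` the projection of `C` onto `P ≅ ZMod p`, `κ` the action of `N` on `P`. -/
structure Loc {G : Type*} [Group G] (p : ℕ) (P N C : Subgroup G) where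
  u : G
  uP : u ∈ P
  ordu : orderOf u = p
  PC : P ≤ C
  CN : C ≤ N
  l : C → ZMod p
  κ : N → ZMod p
  l_mul : ∀ c d, l (c * d) = l c + l d
  l_reg : ∀ c : C, l c = 0 ↔ ¬ p ∣ orderOf (c : G)
  l_u : l ⟨u, PC uP⟩ = 1
  gen : ∀ x ∈ P, ∃ i : ℕ, x = u ^ i
  fac : ∀ c : C, ∃ x : P, ∃ v : C, (c : G) = x * v ∧ l v = 0
  conj_mem : ∀ n ∈ N, ∀ c ∈ C, n * c * n⁻¹ ∈ C
  κ_mul : ∀ m n, κ (m * n) = κ m * κ n
  κ_conj : ∀ (n : N) (c d : C), (d : G) = n * c * (n : G)⁻¹ → l d = κ n * l c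
  κ_eq : ∀ n : N, κ n = 1 ↔ (n : G) ∈ C
  κ_ne : ∀ n : N, κ n ≠ 0
  ti : ∀ z : G, ∀ c ∈ C, p ∣ orderOf c → z * c * z⁻¹ ∈ C → z ∈ N
  comm : ∀ g, ∀ x ∈ P, x ≠ 1 → (g ∈ C ↔ Commute x g)
  norm : ∀ n ∈ N, ∀ x ∈ P, n * x * n⁻¹ ∈ P

theorem exists_loc {G : Type*} [Group G] [Finite G] {p : ℕ} [hp : Fact p.Prime] (P : Sylow p G)
    (hP : Nat.card P = p) :
    Nonempty (Loc p (P : Subgroup G) (Subgroup.normalizer ((P : Subgroup G) : Set G))
      (Subgroup.centralizer ((P : Subgroup G) : Set G))) := by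
  classical
  obtain ⟨u, K, hD, hpK, hdisj, hTI⟩ := exists_data P hP
  set Q : Subgroup G := (P : Subgroup G) with hQ
  set N := Subgroup.normalizer (Q : Set G) with hN
  set C := Subgroup.centralizer (Q : Set G) with hC
  have hmemC : ∀ g, g ∈ C ↔ ∀ x ∈ Q, x * g = g * x := fun g => Subgroup.mem_centralizer_iff
  have hup : u ^ p = 1 := by rw [← hD.ord, pow_orderOf_eq_one]
  -- the Sylow subgroup is abelian
  have hPcomm : ∀ x ∈ Q, ∀ y ∈ Q, x * y = y * x := by
    intro x hx y hy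
    obtain ⟨i, rfl⟩ := hD.gen x hx
    obtain ⟨j, rfl⟩ := hD.gen y hy
    rw [← pow_add, ← pow_add, add_comm]
  have hPC : Q ≤ C := fun x hx => (hmemC x).2 fun y hy => hPcomm y hy x hx
  have hCN : C ≤ N := Subgroup.centralizer_le_normalizer _
  have hconj : ∀ n ∈ N, ∀ x ∈ Q, n * x * n⁻¹ ∈ Q := fun n hn x hx => (Subgroup.mem_normalizer_iff.1 hn x).1 hx
  have hconj' : ∀ n ∈ N, ∀ x ∈ Q, n⁻¹ * x * n ∈ Q := fun n hn x hx => by
    have := hconj n⁻¹ (N.inv_mem hn) x hx
    rwa [inv_inv] at this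
  have hconjC : ∀ n ∈ N, ∀ c ∈ C, n * c * n⁻¹ ∈ C := by
    intro n hn c hc
    rw [hmemC]
    intro x hx
    have h1 := (hmemC c).1 hc _ (hconj' n hn x hx)
    calc x * (n * c * n⁻¹) = n * ((n⁻¹ * x * n) * c) * n⁻¹ := by group
      _ = n * (c * (n⁻¹ * x * n)) * n⁻¹ := by rw [h1]
      _ = n * c * n⁻¹ * x := by group
  -- log on P
  have hlog : ∀ x ∈ Q, ∃ i : ZMod p, x = u ^ i.val := by
    intro x hx
    obtain ⟨i, rfl⟩ := hD.gen x hx
    refine ⟨(i : ZMod p), ?_⟩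
    rw [ZMod.val_natCast]
    conv_rhs => rw [← hD.ord]
    rw [pow_mod_orderOf]
  have hpowinj : ∀ i j : ZMod p, u ^ i.val = u ^ j.val → i = j := by
    intro i j h
    apply ZMod.val_injective
    exact pow_injOn_Iio_orderOf (by rw [Set.mem_Iio, hD.ord]; exact ZMod.val_lt i)
      (by rw [Set.mem_Iio, hD.ord]; exact ZMod.val_lt j) h
  have hpowmod : ∀ m : ℕ, u ^ m = u ^ ((m : ZMod p)).val := by
    intro m
    rw [ZMod.val_natCast]
    conv_rhs => rw [← hD.ord]
    rw [pow_mod_orderOf]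
  have hpowadd : ∀ i j : ZMod p, u ^ i.val * u ^ j.val = u ^ (i + j).val := by
    intro i j
    rw [← pow_add, hpowmod]
    congr 2
    push_cast
    rw [ZMod.natCast_zmod_val, ZMod.natCast_zmod_val]
  have hpowmul : ∀ i j : ZMod p, (u ^ i.val) ^ j.val = u ^ (i * j).val := by
    intro i j
    rw [← pow_mul, hpowmod]
    congr 2
    push_cast
    rw [ZMod.natCast_zmod_val, ZMod.natCast_zmod_val]
  -- factorization in C
  have hfac : ∀ c : C, ∃ i : ZMod p, ∃ h ∈ K, (c : G) = u ^ i.val * h := by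
    intro c
    obtain ⟨x, hx, h, hh, hn⟩ := hD.fac c (hCN c.2)
    obtain ⟨i, rfl⟩ := hlog x hx
    exact ⟨i, h, hh, hn⟩
  have hfacuniq : ∀ (i j : ZMod p) (h h' : G), h ∈ K → h' ∈ K → u ^ i.val * h = u ^ j.val * h' → i = j ∧ h = h' := by
    intro i j h h' hh hh' he
    have h1 : (u ^ j.val)⁻¹ * u ^ i.val = h' * h⁻¹ := by
      rw [eq_mul_inv_iff_mul_eq, mul_assoc, he, inv_mul_cancel_left]
    have h2 : (u ^ j.val)⁻¹ * u ^ i.val ∈ Q := Q.mul_mem (Q.inv_mem (Q.pow_mem hD.hu _)) (Q.pow_mem hD.hu _)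
    have h3 : (u ^ j.val)⁻¹ * u ^ i.val ∈ K := by rw [h1]; exact K.mul_mem hh' (K.inv_mem hh)
    have h4 := Subgroup.disjoint_def.1 hdisj h2 h3
    have h5 : u ^ i.val = u ^ j.val := by
      rw [inv_mul_eq_one] at h4; exact h4.symm
    have h6 := hpowinj _ _ h5
    subst h6
    exact ⟨rfl, mul_left_cancel he⟩
  choose l h hhK hlc using hfac
  have hhC : ∀ c : C, h c ∈ C := by
    intro c
    have h1 : h c = (u ^ (l c).val)⁻¹ * c := by
      have := hlc c
      rw [eq_inv_mul_iff_mul_eq, ← this]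
    rw [h1]
    exact C.mul_mem (C.inv_mem (hPC (Q.pow_mem hD.hu _))) c.2
  have hl_eq : ∀ (c : C) (i : ZMod p) (h' : G), h' ∈ K → (c : G) = u ^ i.val * h' → l c = i := by
    intro c i h' hh' he
    rw [hlc c] at he
    exact (hfacuniq _ _ _ _ (hhK c) hh' he).1
  have hl_mul : ∀ c d, l (c * d) = l c + l d := by
    intro c d
    apply hl_eq (c * d) (l c + l d) (h c * h d) (K.mul_mem (hhK c) (hhK d))
    rw [Subgroup.coe_mul, hlc c, hlc d, ← hpowadd]
    have h1 := (hmemC _).1 (hhC c) (u ^ (l d).val) (Q.pow_mem hD.hu _)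
    calc u ^ (l c).val * h c * (u ^ (l d).val * h d) = u ^ (l c).val * (h c * u ^ (l d).val) * h d := by group
      _ = u ^ (l c).val * (u ^ (l d).val * h c) * h d := by rw [h1]
      _ = u ^ (l c).val * u ^ (l d).val * (h c * h d) := by group
  have hordK : ∀ h ∈ K, ¬ p ∣ orderOf h := by
    intro h hh hdvd
    apply hpK
    have h1 := orderOf_dvd_natCard (⟨h, hh⟩ : K)
    rw [Subgroup.orderOf_mk] at h1
    exact hdvd.trans h1
  have hord1 : ∀ x ∈ Q, x ≠ 1 → orderOf x = p := by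
    intro x hx hx1
    obtain ⟨i, rfl⟩ := hD.gen x hx
    have h2 : orderOf (u ^ i) ∣ p := by
      rw [← hD.ord]; exact orderOf_pow_dvd i
    rcases (Nat.dvd_prime hp.out).1 h2 with h3 | h3
    · exact absurd (orderOf_eq_one_iff.1 h3) hx1
    · exact h3
  have hl_reg : ∀ c : C, l c = 0 ↔ ¬ p ∣ orderOf (c : G) := by
    intro c
    constructor
    · intro h0
      rw [hlc c, h0, ZMod.val_zero, pow_zero, one_mul]
      exact hordK _ (hhK c)
    · intro hord
      by_contra h0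
      apply hord
      have hx1 : u ^ (l c).val ≠ 1 := by
        intro h1
        apply h0
        apply hpowinj
        rw [h1, ZMod.val_zero, pow_zero]
      have h1 : Commute (u ^ (l c).val) (h c) := (hmemC _).1 (hhC c) _ (Q.pow_mem hD.hu _)
      have h2 : Nat.Coprime (orderOf (u ^ (l c).val)) (orderOf (h c)) := by
        rw [hord1 _ (Q.pow_mem hD.hu _) hx1]
        exact (Nat.Prime.coprime_iff_not_dvd hp.out).2 (hordK _ (hhK c))
      rw [hlc c, h1.orderOf_mul_eq_mul_orderOf_of_coprime h2, hord1 _ (Q.pow_mem hD.hu _) hx1]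
      exact dvd_mul_right _ _
  have hl_u : l ⟨u, hPC hD.hu⟩ = 1 := by
    apply hl_eq _ 1 1 K.one_mem
    rw [mul_one]
    haveI : Fact (1 < p) := ⟨hp.out.one_lt⟩
    rw [ZMod.val_one, pow_one]
  -- kappa
  have hκex : ∀ n : N, ∃ i : ZMod p, n * u * (n : G)⁻¹ = u ^ i.val := fun n => hlog _ (hconj n n.2 u hD.hu)
  choose κ hκ using hκex
  have hκpow : ∀ (n : N) (i : ZMod p), n * u ^ i.val * (n : G)⁻¹ = u ^ (κ n * i).val := by
    intro n i
    rw [← conj_pow, hκ, hpowmul]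
  have hκ_mul : ∀ m n, κ (m * n) = κ m * κ n := by
    intro m n
    apply hpowinj
    rw [← hκ, ← hκpow, ← hκ]
    push_cast
    group
  have hκ_eq : ∀ n : N, κ n = 1 ↔ (n : G) ∈ C := by
    haveI : Fact (1 < p) := ⟨hp.out.one_lt⟩
    intro n
    constructor
    · intro h1
      have h2 := hκ n
      rw [h1, ZMod.val_one, pow_one, mul_inv_eq_iff_eq_mul] at h2
      rw [hmemC]
      intro x hx
      obtain ⟨i, rfl⟩ := hD.gen x hx
      exact ((show Commute (n : G) u from h2).pow_right i).symm.eq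
    · intro hn
      apply hpowinj
      rw [← hκ, ZMod.val_one, pow_one, mul_inv_eq_iff_eq_mul]
      exact ((hmemC _).1 hn u hD.hu).symm
  have hκ_ne : ∀ n : N, κ n ≠ 0 := by
    intro n h0
    have h1 := hκ n
    rw [h0, ZMod.val_zero, pow_zero, mul_inv_eq_one] at h1
    have h2 : u = 1 := mul_left_cancel (h1.trans (mul_one _).symm)
    have h3 := hD.ord
    rw [h2, orderOf_one] at h3
    exact hp.out.one_lt.ne h3
  have hκ_conj : ∀ (n : N) (c d : C), (d : G) = n * c * (n : G)⁻¹ → l d = κ n * l c := by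
    intro n c d hd
    -- the `P`-part of `d`
    have h1 : (d : G) = u ^ (κ n * l c).val * (n * h c * (n : G)⁻¹) := by
      rw [hd, hlc c, ← hκpow]; group
    have h2 : (n * h c * (n : G)⁻¹) ∈ C := hconjC n n.2 _ (hhC c)
    have h3 : l ⟨_, h2⟩ = 0 := by
      rw [hl_reg]
      change ¬ p ∣ orderOf (n * h c * (n : G)⁻¹)
      have h5 : orderOf (n * h c * (n : G)⁻¹) = orderOf (h c) :=
        orderOf_injective (MulAut.conj (n : G)).toMonoidHom (MulAut.conj (n : G)).injective (h c)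
      rw [h5]
      exact hordK _ (hhK c)
    have h4 : d = ⟨u ^ (κ n * l c).val, hPC (Q.pow_mem hD.hu _)⟩ * ⟨_, h2⟩ := Subtype.ext h1
    rw [h4, hl_mul, h3, add_zero]
    apply hl_eq _ _ 1 K.one_mem
    rw [mul_one]
  have hcomm : ∀ g, ∀ x ∈ Q, x ≠ 1 → (g ∈ C ↔ Commute x g) := by
    intro g x hx hx1
    constructor
    · intro hg
      exact (hmemC g).1 hg x hx
    · intro hg
      rw [hmemC]
      have h3 : Subgroup.zpowers x = Q := by
        apply Subgroup.eq_of_le_of_card_ge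
        · rw [Subgroup.zpowers_le]; exact hx
        · rw [Nat.card_zpowers, hord1 x hx hx1]
          exact hP.le
      intro y hy
      rw [← h3] at hy
      obtain ⟨m, rfl⟩ := hy
      exact (hg.zpow_left m).eq
  refine ⟨⟨u, hD.hu, hD.ord, hPC, hCN, l, κ, hl_mul, hl_reg, hl_u, hD.gen, ?_, hconjC, hκ_mul, hκ_conj, hκ_eq,
    hκ_ne, ?_, hcomm, hconj⟩⟩
  · intro c
    refine ⟨⟨u ^ (l c).val, Q.pow_mem hD.hu _⟩, ⟨h c, hhC c⟩, hlc c, ?_⟩
    rw [hl_reg]
    exact hordK _ (hhK c)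
  · intro z c hc hpc hzc
    -- the P-part of c
    by_contra hz
    set c' : C := ⟨c, hc⟩ with hc'
    have h0 : l c' ≠ 0 := by
      rw [Ne, hl_reg]
      push Not
      exact hpc
    have hx1 : u ^ (l c').val ≠ 1 := by
      intro h1
      apply h0
      apply hpowinj
      rw [h1, ZMod.val_zero, pow_zero]
    -- u^l is a power of c
    have hpow : ∃ m : ℕ, c ^ m = u ^ (l c').val := by
      have hcomm' : Commute (u ^ (l c').val) (h c') := (hmemC _).1 (hhC c') _ (Q.pow_mem hD.hu _)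
      have hcop : Nat.Coprime p (orderOf (h c')) := (Nat.Prime.coprime_iff_not_dvd hp.out).2 (hordK _ (hhK c'))
      obtain ⟨m, hm1, hm2⟩ := Nat.chineseRemainder hcop 1 0
      refine ⟨m, ?_⟩
      have h1 : c = u ^ (l c').val * h c' := hlc c'
      rw [h1, hcomm'.mul_pow]
      have h2 : h c' ^ m = 1 := by
        rw [← orderOf_dvd_iff_pow_eq_one]
        exact (Nat.modEq_zero_iff_dvd).1 hm2
      have h3 : (u ^ (l c').val) ^ m = (u ^ (l c').val) ^ 1 := by
        apply pow_eq_pow_iff_modEq.2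
        rw [hord1 _ (Q.pow_mem hD.hu _) hx1]
        exact hm1
      rw [h2, h3, mul_one, pow_one]
    obtain ⟨m, hm⟩ := hpow
    have h1 : z * u ^ (l c').val * z⁻¹ ∈ N := by
      rw [← hm, ← conj_pow]
      exact N.pow_mem (hCN hzc) m
    have h2 := hTI z⁻¹ (fun h => hz (by have := N.inv_mem h; rwa [inv_inv] at this)) _ (Q.pow_mem hD.hu (l c').val) hx1
    rw [inv_inv] at h2
    exact h2 h1

end Cfsg.Agent.Lib.DefOneLoc
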