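import Mathlib
import Cfsg.Agent.Lib.BlockIdem
import Cfsg.Agent.Lib.BlockTwist
import Cfsg.Agent.Lib.BlockSecond2

/-!
# Block orthogonality (elementary)

If the `p`-parts of `g` and `h` are not conjugate then `∑ χ ∈ B, χ g * χ h⁻¹ = 0` for every block `B`.
Consequences: Osima (support of block idempotents), weak block orthogonality, orthogonality of
characters of different blocks over the `p`-regular elements.
-/

set_option autoImplicit false
set_option linter.all false

namespace Cfsg.Agent.Lib.BlockOrth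

open Cfsg Cfsg.Agent.Lib.BlockRing Cfsg.Agent.Lib.BlockGA Cfsg.Agent.Lib.BlockTwist
open Cfsg.Agent.Lib.BlockIdem Cfsg.Agent.Lib.BlockSecond
open scoped ComplexConjugate
open MonoidAlgebra (single)

universe u

section det

variable {n : Type*} [Fintype n] [DecidableEq n] {M : Ideal AlgInt} [hMp : M.IsPrime]

theorem det_sub_one_idl (A : Matrix n n ℂ)
    (hA : ∀ i j, MemLocalIdeal M (A i j - (1 : Matrix n n ℂ) i j)) : MemLocalIdeal M (A.det - 1) := by
  have hAl : ∀ g h, MemLocalRing M (A g h) := by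
    intro g h
    rw [loc_congr (hA g h), Matrix.one_apply]
    split_ifs
    · exact loc_one
    · exact loc_zero
  have h1 : A.det - 1 = A.det - (1 : Matrix n n ℂ).det := by rw [Matrix.det_one]
  rw [h1, Matrix.det_apply, Matrix.det_apply, ← Finset.sum_sub_distrib]
  refine idl_sum fun σ _ => ?_
  rw [← smul_sub]
  have h2 : MemLocalIdeal M (∏ i, A (σ i) i - ∏ i, (1 : Matrix n n ℂ) (σ i) i) := by
    have h3 : ∀ s : Finset n, MemLocalIdeal M (∏ i ∈ s, A (σ i) i - ∏ i ∈ s, (1 : Matrix n n ℂ) (σ i) i) := by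
      intro s
      induction s using Finset.induction_on with
      | empty => simpa using idl_zero
      | insert a s ha ih =>
        rw [Finset.prod_insert ha, Finset.prod_insert ha]
        refine idl_mul_sub_mul (hAl _ _) ?_ (hA _ _) ih
        refine loc_prod fun i _ => ?_
        rw [Matrix.one_apply]
        split_ifs
        · exact loc_one
        · exact loc_zero
    exact h3 Finset.univ
  rcases Int.units_eq_one_or (Equiv.Perm.sign σ) with h | h
  · rw [h, one_smul]; exact h2
  · rw [h, Units.neg_smul, one_smul]; exact idl_neg h2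

variable (M n) in
/-- The endomorphisms of `ℂ^n` preserving the standard lattice over the local ring. -/
def latS : Subring (Module.End ℂ (n → ℂ)) where
  carrier := {f | ∀ v : n → ℂ, (∀ a, MemLocalRing M (v a)) → ∀ a, MemLocalRing M (f v a)}
  mul_mem' := fun {f g} hf hg v hv => hf _ (hg v hv)
  one_mem' := fun v hv => hv
  add_mem' := fun {f g} hf hg v hv a => loc_add (hf v hv a) (hg v hv a)
  zero_mem' := fun v hv a => loc_zero
  neg_mem' := fun {f} hf v hv a => loc_neg (hf v hv a)

variable (M n) in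
/-- The endomorphisms of `ℂ^n` mapping the standard lattice into its multiple by the ideal. -/
def latI : AddSubgroup (Module.End ℂ (n → ℂ)) where
  carrier := {f | ∀ v : n → ℂ, (∀ a, MemLocalRing M (v a)) → ∀ a, MemLocalIdeal M (f v a)}
  add_mem' := fun {f g} hf hg v hv a => idl_add (hf v hv a) (hg v hv a)
  zero_mem' := fun v hv a => idl_zero
  neg_mem' := fun {f} hf v hv a => idl_neg (hf v hv a)

theorem isUnit_one_add {z : Module.End ℂ (n → ℂ)} (hz : z ∈ latI n M) : IsUnit (1 + z) := by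
  have hb : ∀ j : n, ∀ a, MemLocalRing M ((Pi.single j 1 : n → ℂ) a) := by
    intro j a
    by_cases h : a = j
    · subst h; simpa using loc_one
    · rw [Pi.single_eq_of_ne h]; exact loc_zero
  have h1 := det_sub_one_idl (M := M) (LinearMap.toMatrix' (1 + z)) (by
    intro i j
    have h2 := hz (Pi.single j 1) (hb j) i
    have h3 : LinearMap.toMatrix' (1 + z) i j - (1 : Matrix n n ℂ) i j = z (Pi.single j 1) i := by
      rw [map_add, Matrix.add_apply]
      have : (LinearMap.toMatrix' (1 : Module.End ℂ (n → ℂ))) = (1 : Matrix n n ℂ) :=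
        LinearMap.toMatrix'_one
      rw [this, add_sub_cancel_left, LinearMap.toMatrix'_apply]
    rw [h3]; exact h2)
  rw [LinearMap.det_toMatrix'] at h1
  rw [LinearMap.isUnit_iff_isUnit_det, isUnit_iff_ne_zero]
  intro h0
  rw [h0] at h1
  have := idl_neg h1
  simp only [zero_sub, neg_neg] at this
  exact one_not_idl this

end det

variable {G : Type u} [Group G]

section ops

/-- `v ↦ (a ↦ v (g⁻¹ a h))`. -/
noncomputable def πop : G × G →* Module.End ℂ (G → ℂ) where
  toFun gh := LinearMap.funLeft ℂ ℂ (fun a => gh.1⁻¹ * a * gh.2)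
  map_one' := by ext v a; simp [LinearMap.funLeft_apply]
  map_mul' x y := by
    apply LinearMap.ext
    intro v
    funext a
    show v _ = v _
    congr 1
    simp [mul_assoc]

theorem πop_apply (g h : G) (v : G → ℂ) (a : G) : πop (g, h) v a = v (g⁻¹ * a * h) := rfl

noncomputable def πu : G × G →* (Module.End ℂ (G → ℂ))ˣ := MonoidHom.toHomUnits πop

theorem coe_πu (x : G × G) : ((πu x : (Module.End ℂ (G → ℂ))ˣ) : Module.End ℂ (G → ℂ)) = πop x := rfl

theorem coe_πu_inv (x : G × G) : (((πu x)⁻¹ : (Module.End ℂ (G → ℂ))ˣ) : Module.End ℂ (G → ℂ)) = πop x⁻¹ := rfl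

/-- `a ↦ g a h⁻¹` as a permutation. -/
def tw : G × G →* Equiv.Perm G where
  toFun x := (Equiv.mulLeft x.1).trans (Equiv.mulRight x.2⁻¹)
  map_one' := by ext a; simp
  map_mul' x y := by ext a; simp [mul_assoc]

theorem tw_apply (x : G × G) (a : G) : tw x a = x.1 * a * x.2⁻¹ := rfl

theorem tw_inv_apply (x : G × G) (a : G) : (tw x)⁻¹ a = x.1⁻¹ * a * x.2 := by
  rw [← map_inv, tw_apply]; simp

variable [Fintype G]

/-- left multiplication by an element of the group algebra, on coefficient functions -/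
noncomputable def Lop (e : G → ℂ) : Module.End ℂ (G → ℂ) where
  toFun v a := ∑ b, e b * v (b⁻¹ * a)
  map_add' v w := by funext a; simp [mul_add, Finset.sum_add_distrib]
  map_smul' c v := by
    funext a
    simp only [Pi.smul_apply, smul_eq_mul, RingHom.id_apply, Finset.mul_sum]
    exact Finset.sum_congr rfl fun b _ => by ring

theorem Lop_apply (e : G → ℂ) (v : G → ℂ) (a : G) : Lop e v a = ∑ b, e b * v (b⁻¹ * a) := rfl

theorem Lop_eq (e : G → ℂ) (v : G → ℂ) (a : G) : Lop e v a = (ofFun e * ofFun v).coeff a := by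
  rw [coeff_mul_fintype]; rfl

theorem Lop_comm {e : G → ℂ} (he : IsClassFunction G e) (x : G × G) : Commute (Lop e) (πop x) := by
  show Lop e * πop x = πop x * Lop e
  apply LinearMap.ext
  intro v
  funext a
  show ∑ b, e b * v (x.1⁻¹ * (b⁻¹ * a) * x.2) = ∑ b, e b * v (b⁻¹ * (x.1⁻¹ * a * x.2))
  refine (Fintype.sum_equiv (MulAut.conj x.1).toEquiv _ _ fun b => ?_).symm
  show e b * v (b⁻¹ * (x.1⁻¹ * a * x.2)) = e (x.1 * b * x.1⁻¹) * v (x.1⁻¹ * ((x.1 * b * x.1⁻¹)⁻¹ * a) * x.2)
  rw [he]
  congr 2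
  group

end ops

theorem sum_conj_char [Fintype G] {χ : G → ℂ} (hχ : IsIrrCharacter G χ) (x h : G) :
    χ 1 * ∑ a : G, χ (x * (a * h * a⁻¹)) = (Nat.card G : ℂ) * (χ x * χ h) := by
  set z : GA G := ∑ a : G, single (a * h * a⁻¹) (1 : ℂ) with hz
  have hzc : z ∈ Subalgebra.center ℂ (GA G) := by
    rw [Subalgebra.mem_center_iff]
    intro w
    induction w using MonoidAlgebra.induction_linear with
    | zero => simp
    | add a b ha hb => rw [add_mul, mul_add, ha, hb]
    | single y c =>
      rw [hz, Finset.mul_sum, Finset.sum_mul]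
      refine Fintype.sum_equiv (Equiv.mulLeft y) _ _ fun a => ?_
      rw [MonoidAlgebra.single_mul_single, MonoidAlgebra.single_mul_single, mul_one, one_mul]
      congr 1
      simp [mul_assoc]
  have h1 := lin_mul' hχ hzc (single x (1 : ℂ))
  have h2 : lin χ (single x (1 : ℂ) * z) = ∑ a : G, χ (x * (a * h * a⁻¹)) := by
    rw [hz, Finset.mul_sum, lin_sum]
    exact Finset.sum_congr rfl fun a _ => by
      rw [MonoidAlgebra.single_mul_single, lin_single, one_mul, one_mul]
  have h3 : lin χ z = (Nat.card G : ℂ) * χ h := by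
    rw [hz, lin_sum, Finset.sum_congr rfl (g := fun _ => χ h)]
    · rw [Finset.sum_const, nsmul_eq_mul, Finset.card_univ, Nat.card_eq_fintype_card]
    · intro a _
      rw [lin_single, one_mul]
      exact hχ.isClassFunction h a
  rw [← h2, h1, omega, h3, lin_single, one_mul]
  have := hχ.one_ne_zero
  field_simp

section main

variable [Finite G] {p : ℕ} {M : Ideal AlgInt}

/-- Block orthogonality. -/
theorem block_orthogonality (hM : IsPModular p M) {B : Set (IrrCharacter G)} (hB : IsPBlock M B)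
    {g h u v : G} (hu : IsPPart p g u) (hv : IsPPart p h v) (huv : ¬ IsConj u v) :
    ∑ᶠ χ ∈ B, (χ : G → ℂ) g * (χ : G → ℂ) h⁻¹ = 0 := by
  classical
  have := Fintype.ofFinite G
  have := isPrime hM
  have : Fact p.Prime := ⟨hM.1⟩
  obtain ⟨s, hus, hcus, ⟨k, hk⟩, hs⟩ := hu
  obtain ⟨t, hvt, hcvt, ⟨l, hl⟩, ht⟩ := hv
  have hprim := Complex.isPrimitiveRoot_exp p hM.1.ne_zero
  set w := Complex.exp (2 * Real.pi * Complex.I / p) with hw
  have hwp : w ^ p = 1 := hprim.pow_eq_one
  have hw1 : w ≠ 1 := hprim.ne_one hM.1.one_lt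
  set U : G × G := (u, v) with hU
  set T : G × G := (s, t) with hT
  have hUT : Commute U T := Prod.ext hcus.eq hcvt.eq
  have hUp : U ^ p ^ (max k l) = 1 := by
    refine Prod.ext ?_ ?_
    · exact orderOf_dvd_iff_pow_eq_one.1 (by rw [hk]; exact pow_dvd_pow p (le_max_left k l))
    · exact orderOf_dvd_iff_pow_eq_one.1 (by rw [hl]; exact pow_dvd_pow p (le_max_right k l))
  have hTp : T ^ (orderOf s * orderOf t) = 1 := by
    refine Prod.ext ?_ ?_
    · exact orderOf_dvd_iff_pow_eq_one.1 (Dvd.intro _ rfl)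
    · exact orderOf_dvd_iff_pow_eq_one.1 (Dvd.intro_left _ rfl)
  have hm : ¬ p ∣ orderOf s * orderOf t := fun hd => ((Nat.Prime.dvd_mul hM.1).1 hd).elim hs ht
  obtain ⟨κ, h01, hκσ, hκτ, -, hsum⟩ := exists_cut p (tw U) (tw T) (hUT.map tw) (max k l)
    (orderOf s * orderOf t) (by rw [← map_pow, hUp, map_one]) (by rw [← map_pow, hTp, map_one]) hm
  have hnofix : ∀ a, tw U a ≠ a := by
    intro a ha
    apply huv
    rw [isConj_iff]
    refine ⟨a⁻¹, ?_⟩
    rw [tw_apply, mul_inv_eq_iff_eq_mul] at ha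
    simp only [hU] at ha
    rw [mul_assoc, inv_inv, ha]; group
  let j : Module.End ℂ (G → ℂ) := Lop (blockCoeff B)
  have hBl := locA_eB (M := M) hB
  let c : Module.End ℂ (G → ℂ) :=
    { toFun := fun v a => κ a * v a
      map_add' := fun v w => by funext a; simp [mul_add]
      map_smul' := fun r v => by funext a; simp; ring }
  have hcapp : ∀ v a, c v a = κ a * v a := fun _ _ => rfl
  have hpow : ∀ (x : G × G) (i : ℕ), πop x ^ i = πop (x ^ i) := fun x i => (map_pow πop x i).symm
  have hone : ∑ i ∈ Finset.range p, ((πu U : (Module.End ℂ (G → ℂ))ˣ) : Module.End ℂ (G → ℂ)) ^ i * c *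
      (((πu U)⁻¹ : (Module.End ℂ (G → ℂ))ˣ) : Module.End ℂ (G → ℂ)) ^ i = 1 := by
    apply LinearMap.ext
    intro v
    funext a
    rw [LinearMap.sum_apply, Finset.sum_apply]
    have h1 : ∀ i : ℕ, ((((πu U : (Module.End ℂ (G → ℂ))ˣ) : Module.End ℂ (G → ℂ)) ^ i * c *
      (((πu U)⁻¹ : (Module.End ℂ (G → ℂ))ˣ) : Module.End ℂ (G → ℂ)) ^ i) v) a =
        κ (((tw U)⁻¹ ^ i) a) * v a := by
      intro i
      rw [coe_πu, coe_πu_inv, hpow, hpow]
      show κ ((U ^ i).1⁻¹ * a * (U ^ i).2) * v ((U⁻¹ ^ i).1⁻¹ * ((U ^ i).1⁻¹ * a * (U ^ i).2) * (U⁻¹ ^ i).2) = _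
      rw [inv_pow (tw U) i, ← map_pow, tw_inv_apply]
      congr 2
      simp [mul_assoc]
    simp only [h1]
    rw [← Finset.sum_mul, hsum a (hnofix a), one_mul]
    rfl
  have hjj : j * j = j := by
    apply LinearMap.ext
    intro v
    funext a
    show Lop (blockCoeff B) (Lop (blockCoeff B) v) a = Lop (blockCoeff B) v a
    rw [Lop_eq, Lop_eq]
    have h1 : ofFun (Lop (blockCoeff B) v) = ofFun (blockCoeff B) * ofFun v := by
      ext a; rw [coeff_ofFun, Lop_eq]
    rw [h1, ← mul_assoc]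
    have h2 := eB_mul_self B
    rw [eB] at h2
    rw [h2]
  have hjc : ∀ x, Commute j (πop x) := fun x => Lop_comm (isClassFunction_blockCoeff B) x
  have hπl : ∀ x, (πop x : Module.End ℂ (G → ℂ)) ∈ latS G M := fun x v hv a => hv _
  have key := trace_eq_zero (latS G M) (latI G M) (fun z hz => isUnit_one_add hz) p w hwp hw1
    (fun i s hs v hv a => idl_mul_right (idl_sub_one_of_pow hM (k := 1) (by
      rw [pow_one, ← pow_mul, mul_comm, pow_mul, hwp, one_pow])) (hs v hv a))
    (πu U) (hπl _) (hπl _) j (πop T) c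
    (fun v hv a => loc_sum fun b _ => loc_mul (hBl b) (hv _))
    (fun v hv a => loc_mul (by
      rcases h01 a with h | h
      · rw [h]; exact loc_zero
      · rw [h]; exact loc_one) (hv a))
    hjj (hjc _) (hjc _) (hUT.map πop)
    (by
      show c * πop T = πop T * c
      apply LinearMap.ext
      intro v
      funext a
      show κ a * v (T.1⁻¹ * a * T.2) = κ (T.1⁻¹ * a * T.2) * v (T.1⁻¹ * a * T.2)
      rw [← tw_inv_apply, ← hκσ ((tw T)⁻¹ a)]
      congr 2
      exact ((tw T).apply_symm_apply a).symm)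
    (by
      rw [coe_πu, hpow]
      show c * πop (U ^ p) = πop (U ^ p) * c
      apply LinearMap.ext
      intro v
      funext a
      show κ a * v ((U ^ p).1⁻¹ * a * (U ^ p).2) = κ ((U ^ p).1⁻¹ * a * (U ^ p).2) * v ((U ^ p).1⁻¹ * a * (U ^ p).2)
      rw [← tw_inv_apply, ← hκτ ((tw (U ^ p))⁻¹ a), ← map_pow]
      congr 2
      exact ((tw (U ^ p)).apply_symm_apply a).symm)
    (by rw [hone, mul_one, hjj, sub_self]; exact AddSubgroup.zero_mem _)
    (LinearMap.trace ℂ (G → ℂ)) (fun a b => LinearMap.trace_mul_comm ℂ a b)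
  -- compute the trace
  rw [coe_πu, ← map_mul] at key
  have hUTgh : U * T = (g, h) := Prod.ext hus hvt
  rw [hUTgh, LinearMap.trace_eq_matrix_trace ℂ (Pi.basisFun ℂ G), Matrix.trace] at key
  have hdiag : ∀ a : G, Matrix.diag ((LinearMap.toMatrix (Pi.basisFun ℂ G) (Pi.basisFun ℂ G))
      (πop (g, h) * j)) a = blockCoeff B (g⁻¹ * a * h * a⁻¹) := by
    intro a
    rw [Matrix.diag_apply, LinearMap.toMatrix_apply]
    simp only [Pi.basisFun_apply, Pi.basisFun_repr]
    show ∑ b, blockCoeff B b * (Pi.single a (1 : ℂ) : G → ℂ) (b⁻¹ * (g⁻¹ * a * h)) = _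
    rw [Finset.sum_eq_single (g⁻¹ * a * h * a⁻¹)]
    · rw [show (g⁻¹ * a * h * a⁻¹)⁻¹ * (g⁻¹ * a * h) = a by group, Pi.single_eq_same, mul_one]
    · intro b _ hb
      rw [Pi.single_eq_of_ne, mul_zero]
      intro h1
      apply hb
      rw [inv_mul_eq_iff_eq_mul] at h1
      rw [h1]; group
    · intro h1; exact absurd (Finset.mem_univ _) h1
  simp only [hdiag, blockCoeff_eq_sum] at key
  rw [← Finset.mul_sum, Finset.sum_comm] at key
  have hG : (Nat.card G : ℂ) ≠ 0 := by exact_mod_cast Nat.card_pos.ne'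
  have h2 : ∀ χ : IrrCharacter G, (∑ a : G, if χ ∈ B then (χ : G → ℂ) 1 * conj ((χ : G → ℂ) (g⁻¹ * a * h * a⁻¹)) else 0)
      = if χ ∈ B then (Nat.card G : ℂ) * ((χ : G → ℂ) g * (χ : G → ℂ) h⁻¹) else 0 := by
    intro χ
    split_ifs with hχ
    · rw [← Finset.mul_sum]
      have h3 := congrArg conj (sum_conj_char χ.2 g⁻¹ h)
      rw [map_mul, map_mul, map_mul, map_sum, ← χ.2.inv, ← χ.2.inv, ← χ.2.inv, inv_inv, inv_one,
        map_natCast] at h3
      rw [← h3]
      congr 1
      refine Finset.sum_congr rfl fun a _ => ?_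
      simp only [mul_assoc]
    · simp
  simp only [h2] at key
  rw [← Finset.sum_filter, ← Finset.mul_sum, inv_mul_cancel_left₀ hG] at key
  rw [finsum_mem_eq_finite_toFinset_sum _ (Set.toFinite _)]
  rw [← key]
  refine Finset.sum_congr ?_ fun _ _ => rfl
  ext; simp

end main

end Cfsg.Agent.Lib.BlockOrth
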