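import Cfsg.Agent.Lib.BlockCore
import Cfsg.Agent.Lib.StructConst
import Cfsg.Agent.Lib.CharCentral

/-!
# Characters are positive definite functions (helper80)

`starA` is the usual involution of the complex group algebra; `lin_mul_starA` : for an irreducible
character `χ` the number `lin χ (z * starA z)` is a nonnegative real.
-/

set_option autoImplicit false
set_option linter.all false

namespace Cfsg.Agent.Lib.PosDef

open Cfsg Cfsg.Agent.Lib.BlockGA Cfsg.Agent.Lib.BlockCore
open scoped ComplexConjugate

universe u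

variable {G : Type u} [Group G] [Finite G]

/-- the involution of the group algebra -/
noncomputable def starA (z : GA G) : GA G := ofFun fun g => conj (z.coeff g⁻¹)

theorem coeff_starA (z : GA G) (g : G) : (starA z).coeff g = conj (z.coeff g⁻¹) := rfl

theorem starA_add (z w : GA G) : starA (z + w) = starA z + starA w := by
  ext g
  rw [MonoidAlgebra.coeff_add, Finsupp.add_apply, coeff_starA, coeff_starA, coeff_starA,
    MonoidAlgebra.coeff_add, Finsupp.add_apply, map_add]

theorem starA_sub (z w : GA G) : starA (z - w) = starA z - starA w := by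
  ext g
  rw [MonoidAlgebra.coeff_sub, Finsupp.sub_apply, coeff_starA, coeff_starA, coeff_starA,
    MonoidAlgebra.coeff_sub, Finsupp.sub_apply, map_sub]

theorem starA_mul (z w : GA G) : starA (z * w) = starA w * starA z := by
  classical
  have := Fintype.ofFinite G
  ext g
  rw [coeff_starA, coeff_mul_fintype, coeff_mul_fintype, map_sum]
  apply Fintype.sum_equiv (Equiv.mulLeft g)
  intro h
  rw [Equiv.coe_mulLeft, coeff_starA, coeff_starA, map_mul, mul_comm]
  congr 3 <;> group

theorem starA_single (g : G) : starA (MonoidAlgebra.single g (1 : ℂ)) = MonoidAlgebra.single g⁻¹ 1 := by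
  classical
  ext h
  rw [coeff_starA, MonoidAlgebra.coeff_single_apply, MonoidAlgebra.coeff_single_apply]
  by_cases h1 : g = h⁻¹
  · rw [if_pos h1, if_pos (by rw [h1, inv_inv]), map_one]
  · rw [if_neg h1, if_neg (fun h2 => h1 (by rw [← h2, inv_inv])), map_zero]

theorem coeff_normE (N : Subgroup G) [DecidablePred (· ∈ N)] (g : G) :
    (normE N).coeff g = if g ∈ N then (Nat.card N : ℂ)⁻¹ else 0 := by
  rw [normE, coeff_ofFun]
  congr

theorem starA_normE (N : Subgroup G) : starA (normE N) = normE N := by
  classical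
  ext g
  rw [coeff_starA, coeff_normE, coeff_normE]
  have : g⁻¹ ∈ N ↔ g ∈ N := inv_mem_iff
  by_cases h : g ∈ N
  · rw [if_pos h, if_pos (this.2 h), map_inv₀, map_natCast]
  · rw [if_neg h, if_neg (fun h' => h (this.1 h')), map_zero]

theorem single_mul_normE {N : Subgroup G} {n : G} (hn : n ∈ N) :
    MonoidAlgebra.single n (1 : ℂ) * normE N = normE N := by
  classical
  ext g
  rw [MonoidAlgebra.coeff_single_mul_apply, one_mul, coeff_normE, coeff_normE]
  have : n⁻¹ * g ∈ N ↔ g ∈ N := N.mul_mem_cancel_left (N.inv_mem hn)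
  by_cases h : g ∈ N
  · rw [if_pos h, if_pos (this.2 h)]
  · rw [if_neg h, if_neg (fun h' => h (this.1 h'))]

theorem normE_mul_single {N : Subgroup G} {n : G} (hn : n ∈ N) :
    normE N * MonoidAlgebra.single n (1 : ℂ) = normE N := by
  classical
  ext g
  rw [MonoidAlgebra.coeff_mul_single_apply, mul_one, coeff_normE, coeff_normE]
  have : g * n⁻¹ ∈ N ↔ g ∈ N := N.mul_mem_cancel_right (N.inv_mem hn)
  by_cases h : g ∈ N
  · rw [if_pos h, if_pos (this.2 h)]
  · rw [if_neg h, if_neg (fun h' => h (this.1 h'))]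

open Classical in
theorem normE_eq_sum [Fintype G] (N : Subgroup G) :
    normE N = (Nat.card N : ℂ)⁻¹ • ∑ n ∈ Finset.univ.filter (· ∈ N), MonoidAlgebra.single n (1 : ℂ) := by
  ext g
  rw [coeff_normE, MonoidAlgebra.coeff_smul, Finsupp.smul_apply, coeff_finset_sum]
  simp only [MonoidAlgebra.coeff_single_apply, Finset.sum_ite_eq', Finset.mem_filter,
    Finset.mem_univ, true_and, smul_eq_mul, mul_ite, mul_one, mul_zero]

theorem normE_mul_normE {H T : Subgroup G} (h : H ≤ T) : normE H * normE T = normE T := by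
  classical
  have := Fintype.ofFinite G
  rw [normE_eq_sum H, smul_mul_assoc, Finset.sum_mul]
  have h1 : ∀ n ∈ Finset.univ.filter (· ∈ H), MonoidAlgebra.single n (1 : ℂ) * normE T = normE T :=
    fun n hn => single_mul_normE (h (Finset.mem_filter.1 hn).2)
  rw [Finset.sum_congr rfl h1, Finset.sum_const, card_filter_mem, ← Nat.cast_smul_eq_nsmul ℂ, smul_smul,
    inv_mul_cancel₀ (by exact_mod_cast Nat.card_pos.ne'), one_smul]

theorem normE_mul_normE' {H T : Subgroup G} (h : H ≤ T) : normE T * normE H = normE T := by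
  have h1 := congrArg starA (normE_mul_normE h)
  rwa [starA_mul, starA_normE, starA_normE] at h1

open Classical in
theorem lin_normE [Fintype G] (χ : G → ℂ) (N : Subgroup G) :
    lin χ (normE N) = (Nat.card N : ℂ)⁻¹ * ∑ n ∈ Finset.univ.filter (· ∈ N), χ n := by
  rw [normE_eq_sum, lin_smul, lin_sum]
  simp only [lin_single, one_mul]

/-- irreducible characters are positive definite -/
theorem lin_mul_starA {χ : G → ℂ} (hχ : IsIrrCharacter G χ) (z : GA G) :
    ∃ r : ℝ, 0 ≤ r ∧ lin χ (z * starA z) = (r : ℂ) := by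
  classical
  have := Fintype.ofFinite G
  have hconv : ∀ x : G, ∑ w : G, conj (χ w) * χ (x * w) = (Nat.card G : ℂ) * χ x / χ 1 := by
    intro x
    have hcl : IsClassFunction G (fun w => conj (χ w)) := by
      intro g h
      simp only [hχ.isClassFunction g h]
    rw [StructConst.sum_mul_irr hcl hχ x]
    congr 2
    obtain ⟨n, ρ, hρ, rfl⟩ := hχ
    rw [← CharCentral.sum_character_mul_conj ρ]
    exact Finset.sum_congr rfl fun w _ => mul_comm _ _
  obtain ⟨n, hn, hn1⟩ := hχ.exists_degree
  have hG : (Nat.card G : ℂ) ≠ 0 := by exact_mod_cast Nat.card_pos.ne'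
  have h1 := hχ.one_ne_zero
  have hval : ∀ x : G, χ x = (χ 1 / (Nat.card G : ℂ)) * ∑ w : G, conj (χ w) * χ (x * w) := by
    intro x
    rw [hconv]
    field_simp
  refine ⟨((n : ℝ) / Nat.card G) * ∑ t : G, ‖∑ g : G, z.coeff g * χ (g * t)‖ ^ 2, by positivity, ?_⟩
  have e1 : lin χ (z * starA z) = ∑ g : G, ∑ h : G, z.coeff g * conj (z.coeff h) * χ (g * h⁻¹) := by
    rw [lin_apply]
    simp only [coeff_mul_fintype, coeff_starA, Finset.sum_mul]
    rw [Finset.sum_comm]
    refine Finset.sum_congr rfl fun g _ => ?_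
    refine Fintype.sum_equiv ((Equiv.inv G).trans (Equiv.mulRight g)) _ _ fun w => ?_
    simp only [Equiv.trans_apply, Equiv.inv_apply, Equiv.coe_mulRight]
    congr 3 <;> group
  rw [e1]
  have e2 : ∀ g h : G, χ (g * h⁻¹) = (χ 1 / (Nat.card G : ℂ)) * ∑ t : G, χ (g * t) * conj (χ (h * t)) := by
    intro g h
    rw [hval]
    congr 1
    refine Fintype.sum_equiv (Equiv.mulLeft h⁻¹) _ _ fun w => ?_
    simp only [Equiv.coe_mulLeft]
    rw [mul_comm]
    congr 2 <;> group
  simp only [e2]
  rw [hn1]
  push_cast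
  rw [Finset.mul_sum]
  have e3 : ∀ t : G, ((‖∑ g : G, z.coeff g * χ (g * t)‖ : ℂ)) ^ 2 =
      ∑ g : G, ∑ h : G, z.coeff g * conj (z.coeff h) * (χ (g * t) * conj (χ (h * t))) := by
    intro t
    rw [← Complex.mul_conj', map_sum, Finset.sum_mul_sum]
    refine Finset.sum_congr rfl fun g _ => Finset.sum_congr rfl fun h _ => ?_
    rw [map_mul]
    ring
  simp only [e3, Finset.mul_sum]
  symm
  rw [Finset.sum_comm]
  refine Finset.sum_congr rfl fun g _ => ?_
  rw [Finset.sum_comm]
  refine Finset.sum_congr rfl fun h _ => ?_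
  refine Finset.sum_congr rfl fun t _ => ?_
  ring

/-- averages over subgroups are nonnegative reals -/
theorem lin_normE_nonneg {χ : G → ℂ} (hχ : IsIrrCharacter G χ) (N : Subgroup G) :
    ∃ r : ℝ, 0 ≤ r ∧ lin χ (normE N) = (r : ℂ) := by
  have h := lin_mul_starA hχ (normE N)
  rwa [starA_normE, normE_mul_self] at h

/-- averages over subgroups are monotone -/
theorem lin_normE_mono {χ : G → ℂ} (hχ : IsIrrCharacter G χ) {K T : Subgroup G} (h : K ≤ T) :
    ∃ r : ℝ, 0 ≤ r ∧ lin χ (normE K) - lin χ (normE T) = (r : ℂ) := by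
  obtain ⟨r, hr, h1⟩ := lin_mul_starA hχ (normE K - normE T)
  refine ⟨r, hr, ?_⟩
  rw [← h1, starA_sub, starA_normE, starA_normE, sub_mul, mul_sub, mul_sub, normE_mul_self,
    normE_mul_normE h, normE_mul_normE' h, normE_mul_self, sub_self, sub_zero, lin_sub]

/-- the trace of the product of two projections is at least the dimension of the intersection -/
theorem lin_normE_conj {χ : G → ℂ} (hχ : IsIrrCharacter G χ) {H T : Subgroup G} (h : H ≤ T) {k : G}
    (hk : k ∈ T) :
    ∃ r : ℝ, 0 ≤ r ∧ lin χ (MonoidAlgebra.single k 1 * normE H * MonoidAlgebra.single k⁻¹ 1 * normE H) -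
      lin χ (normE T) = (r : ℂ) := by
  obtain ⟨r, hr, h1⟩ := lin_mul_starA hχ (normE H * MonoidAlgebra.single k 1 * normE H - normE T)
  refine ⟨r, hr, ?_⟩
  have h2 : (normE H * MonoidAlgebra.single k 1 * normE H - normE T) *
      (normE H * (MonoidAlgebra.single k⁻¹ 1 * normE H) - normE T) =
      normE H * (MonoidAlgebra.single k 1 * normE H * MonoidAlgebra.single k⁻¹ 1 * normE H) - normE T := by
    have a1 : normE H * normE H = normE H := normE_mul_self H
    have a2 : normE T * normE T = normE T := normE_mul_self T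
    have a3 : normE H * normE T = normE T := normE_mul_normE h
    have a4 : normE T * normE H = normE T := normE_mul_normE' h
    have a5 : MonoidAlgebra.single k (1 : ℂ) * normE T = normE T := single_mul_normE hk
    have a6 : normE T * MonoidAlgebra.single k⁻¹ (1 : ℂ) = normE T := normE_mul_single (T.inv_mem hk)
    rw [sub_mul, mul_sub, mul_sub, a2]
    have b1 : normE H * MonoidAlgebra.single k 1 * normE H * normE T = normE T := by
      rw [mul_assoc, a3, mul_assoc, a5, a3]
    have b2 : normE T * (normE H * (MonoidAlgebra.single k⁻¹ 1 * normE H)) = normE T := by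
      rw [← mul_assoc, a4, ← mul_assoc, a6, a4]
    have b3 : normE H * MonoidAlgebra.single k 1 * normE H *
        (normE H * (MonoidAlgebra.single k⁻¹ 1 * normE H)) =
        normE H * (MonoidAlgebra.single k 1 * normE H * MonoidAlgebra.single k⁻¹ 1 * normE H) := by
      calc normE H * MonoidAlgebra.single k 1 * normE H *
        (normE H * (MonoidAlgebra.single k⁻¹ 1 * normE H)) =
          normE H * MonoidAlgebra.single k 1 * (normE H * normE H) *
            MonoidAlgebra.single k⁻¹ 1 * normE H := by noncomm_ring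
        _ = _ := by rw [a1]; noncomm_ring
    rw [b1, b2, b3, sub_self, sub_zero]
  rw [starA_sub, starA_mul, starA_mul, starA_normE, starA_normE, starA_single, h2, lin_sub,
    lin_mul_comm hχ.isClassFunction] at h1
  rw [← h1]
  congr 2
  rw [mul_assoc _ (normE H) (normE H), normE_mul_self]

end Cfsg.Agent.Lib.PosDef
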