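import Cfsg.Agent.Lib.ExtClosed
import Cfsg.Agent.Lib.PosDef
import Cfsg.Agent.Lib.BlockSection
import Cfsg.Agent.Lib.BlockOrth

/-!
# Extremely closed abelian `p`-subgroups: characters of the principal block (helper80)
-/

set_option autoImplicit false
set_option linter.all false

namespace Cfsg.Agent.Lib.ExtClosedChar

open Cfsg Cfsg.Agent.Lib.BlockGA Cfsg.Agent.Lib.BlockCore Cfsg.Agent.Lib.PosDef
  Cfsg.Agent.Lib.ExtClosed Cfsg.Agent.Lib.ExtClosed.EC Cfsg.Agent.Lib.BlockThird
open scoped ComplexConjugate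
open MonoidAlgebra (single)

universe u

variable {G : Type u} [Group G]

/-- critical configuration -/
structure Crit (p : ℕ) (H : Subgroup G) : Prop where
  ec : EC p H
  bot : pPrimeCore p G = ⊥
  full : ∀ L : Subgroup G, L.Normal → H ≤ L → L = ⊤
  cent : ∀ y ∈ H, y ∈ Subgroup.center G → y = 1
  core : ∀ y ∈ H, y ≠ 1 → ∀ c, Commute y c → ∀ h ∈ H, c * h * c⁻¹ ∈
    (pPrimeCore p (Subgroup.centralizer ({y} : Set G))).map
      (Subgroup.centralizer ({y} : Set G)).subtype ⊔ H

section general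

variable [Finite G]

theorem lin_sum_conj [Fintype G] {χ : G → ℂ} (hχ : IsIrrCharacter G χ) (w w' : GA G) :
    ∑ g : G, lin χ (single g 1 * w * single g⁻¹ 1 * w') =
      (Nat.card G : ℂ) * lin χ w * lin χ w' / χ 1 := by
  classical
  set z : GA G := ∑ g : G, single g 1 * w * single g⁻¹ 1 with hz
  have hzc : z ∈ Subalgebra.center ℂ (GA G) := by
    rw [Subalgebra.mem_center_iff]
    intro b
    induction b using MonoidAlgebra.induction_linear with
    | zero => simp
    | add a b ha hb => rw [add_mul, mul_add, ha, hb]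
    | single h c =>
      rw [hz, Finset.mul_sum, Finset.sum_mul]
      refine Fintype.sum_equiv (Equiv.mulLeft h) _ _ fun g => ?_
      rw [Equiv.coe_mulLeft]
      have e1 : single h c * (single g 1 * w * single g⁻¹ 1) = c • (single (h * g) 1 * w * single g⁻¹ 1) := by
        rw [← mul_assoc, ← mul_assoc, MonoidAlgebra.single_mul_single, mul_one]
        have : (single (h * g) c : GA G) = c • single (h * g) 1 := by
          rw [MonoidAlgebra.smul_single, smul_eq_mul, mul_one]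
        rw [this, smul_mul_assoc, smul_mul_assoc]
      have e2 : single (h * g) 1 * w * single (h * g)⁻¹ 1 * single h c =
          c • (single (h * g) 1 * w * single g⁻¹ 1) := by
        rw [mul_assoc (single (h * g) 1 * w), MonoidAlgebra.single_mul_single, one_mul, mul_inv_rev,
          inv_mul_cancel_right]
        have : (single g⁻¹ c : GA G) = c • single g⁻¹ 1 := by
          rw [MonoidAlgebra.smul_single, smul_eq_mul, mul_one]
        rw [this, mul_smul_comm]
      rw [e1, e2]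
  rw [← lin_sum, ← Finset.sum_mul, ← hz, lin_mul hχ hzc]
  have h1 : lin χ z = (Nat.card G : ℂ) * lin χ w := by
    rw [hz, lin_sum]
    have : ∀ g : G, lin χ (single g 1 * w * single g⁻¹ 1) = lin χ w := by
      intro g
      rw [lin_mul_comm hχ.isClassFunction, ← mul_assoc, MonoidAlgebra.single_mul_single,
        inv_mul_cancel, one_mul]
      have : (single (1 : G) (1 : ℂ) : GA G) = 1 := rfl
      rw [this, one_mul]
    simp only [this, Finset.sum_const, Finset.card_univ, Nat.card_eq_fintype_card, nsmul_eq_mul]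
  rw [omega, h1]
  ring

theorem conj_normE {H : Subgroup G} {n : G} (hn : n ∈ Subgroup.normalizer (H : Set G)) :
    single n (1 : ℂ) * normE H * single n⁻¹ 1 = normE H := by
  classical
  ext g
  rw [MonoidAlgebra.coeff_mul_single_apply, MonoidAlgebra.coeff_single_mul_apply, one_mul, mul_one,
    inv_inv, coeff_normE, coeff_normE]
  have h1 : n⁻¹ * (g * n) ∈ H ↔ g ∈ H := by
    have h2 := (Subgroup.mem_normalizer_iff.1 hn) (n⁻¹ * (g * n))
    rw [h2]
    have : n * (n⁻¹ * (g * n)) * n⁻¹ = g := by group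
    rw [this]
  by_cases h : g ∈ H
  · rw [if_pos h, if_pos (h1.2 h)]
  · rw [if_neg h, if_neg (fun h' => h (h1.1 h'))]

theorem lin_normE' [Fintype G] (χ : G → ℂ) (N : Subgroup G) [Fintype N] :
    (Nat.card N : ℂ) * lin χ (normE N) = ∑ n : N, χ n := by
  classical
  rw [lin_normE, ← mul_assoc, mul_inv_cancel₀ (by exact_mod_cast Nat.card_pos.ne'), one_mul]
  exact Finset.sum_subtype _ (by simp) χ

/-- sum of a function over a product of subgroups with trivial intersection -/
theorem sum_mul_subgroup {O H T : Subgroup G} [Fintype O] [Fintype H] [Fintype T]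
    (hO : O ≤ T) (hH : H ≤ T) (hinf : H ⊓ O = ⊥) (hmul : ∀ t ∈ T, ∃ o ∈ O, ∃ h ∈ H, o * h = t)
    (f : G → ℂ) : ∑ t : T, f t = ∑ h : H, ∑ o : O, f ((o : G) * (h : G)) := by
  rw [← Finset.sum_product', Finset.univ_product_univ]
  symm
  refine Fintype.sum_bijective (fun q : H × O => (⟨(q.2 : G) * (q.1 : G), T.mul_mem (hO q.2.2) (hH q.1.2)⟩ : T))
    ⟨?_, ?_⟩ _ _ (fun q => rfl)
  · rintro ⟨⟨h, hh⟩, ⟨o, ho⟩⟩ ⟨⟨h', hh'⟩, ⟨o', ho'⟩⟩ heq
    have h1 : o * h = o' * h' := congrArg Subtype.val heq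
    have h2 : o'⁻¹ * o = h' * h⁻¹ := by
      calc o'⁻¹ * o = o'⁻¹ * (o * h) * h⁻¹ := by group
        _ = h' * h⁻¹ := by rw [h1]; group
    have h3 : h' * h⁻¹ ∈ H ⊓ O := ⟨H.mul_mem hh' (H.inv_mem hh), h2 ▸ O.mul_mem (O.inv_mem ho') ho⟩
    rw [hinf, Subgroup.mem_bot] at h3
    have h4 : h' = h := mul_inv_eq_one.1 h3
    rw [h3] at h2
    have h5 : o' = o := (inv_mul_eq_one.1 h2)
    subst h4 h5
    rfl
  · rintro ⟨t, ht⟩
    obtain ⟨o, ho, h, hh, rfl⟩ := hmul t ht
    exact ⟨(⟨h, hh⟩, ⟨o, ho⟩), rfl⟩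

end general

section kernel

variable [Finite G] {χ : G → ℂ}

/-- elements of the kernel act trivially -/
theorem char_ker_mul (hχ : IsCharacter G χ) {g : G} (hg : χ g = χ 1) (y : G) : χ (g * y) = χ y := by
  obtain ⟨n, ρ, rfl⟩ := hχ
  rw [ρ.char_one] at hg
  have h1 := (CharValues.character_eq_finrank_iff ρ g).1 hg
  simp only [Representation.character, map_mul, h1]
  rfl

theorem char_comm_of_norm (hχ : IsCharacter G χ) {x : G} (hx : ‖χ x‖ = ‖χ 1‖) (g : G) :
    χ (g * x * g⁻¹ * x⁻¹) = χ 1 := by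
  obtain ⟨n, ρ, rfl⟩ := hχ
  have h0 : ‖ρ.character 1‖ = (Module.finrank ℂ (Fin n → ℂ) : ℝ) := by rw [ρ.char_one]; simp
  rw [h0] at hx
  obtain ⟨ω, hω⟩ := (CharValues.norm_character_eq_iff ρ x).1 hx
  have h1 : ρ (g * x * g⁻¹ * x⁻¹) = ρ 1 := by
    have h2 : ρ (g * x * g⁻¹) = ρ x := by
      rw [map_mul, map_mul, hω]
      have h3 : ρ g * (ω • (LinearMap.id : (Fin n → ℂ) →ₗ[ℂ] (Fin n → ℂ))) * ρ g⁻¹ =
          ω • (ρ g * ρ g⁻¹) := by
        ext v
        simp
      rw [h3, ← map_mul, mul_inv_cancel, map_one]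
      rfl
    rw [map_mul, h2, ← map_mul, mul_inv_cancel]
  simp only [Representation.character, h1]

/-- the kernel as a subgroup -/
def kerS (hχ : IsCharacter G χ) : Subgroup G where
  carrier := {g | χ g = χ 1}
  mul_mem' := fun {a b} ha hb => by
    show χ (a * b) = χ 1
    rw [char_ker_mul hχ ha]; exact hb
  one_mem' := rfl
  inv_mem' := fun {a} ha => by
    show χ a⁻¹ = χ 1
    have h1 : χ (a * a⁻¹) = χ a⁻¹ := char_ker_mul hχ ha a⁻¹
    rw [← h1, mul_inv_cancel]

theorem kerS_normal (hχ : IsCharacter G χ) : (kerS hχ).Normal :=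
  ⟨fun n hn g => by
    show χ (g * n * g⁻¹) = χ 1
    rw [hχ.isClassFunction]
    exact hn⟩

theorem eq_one_of_ker (hχ : IsIrrCharacter G χ) (h : ∀ g, χ g = χ 1) : χ = fun _ => 1 := by
  classical
  have := Fintype.ofFinite G
  have h0 := hχ.one_ne_zero
  have h1 : χ 1 * conj (χ 1) = 1 := by
    have h2 : classInner χ χ = 1 := hχ.classInner_self
    rw [CharBasic.classInner_def] at h2
    have h3 : ∀ g : G, χ g * conj (χ g) = χ 1 * conj (χ 1) := fun g => by rw [h g]
    simp only [h3, Finset.sum_const, Finset.card_univ, nsmul_eq_mul, ← Nat.card_eq_fintype_card] at h2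
    rw [← mul_assoc, inv_mul_cancel₀ (by exact_mod_cast Nat.card_pos.ne'), one_mul] at h2
    exact h2
  obtain ⟨n, hn, hn1⟩ := hχ.exists_degree
  rw [hn1] at h1
  have h4 : (n : ℂ) * n = 1 := by simpa using h1
  have h5 : n * n = 1 := by exact_mod_cast h4
  have h6 : n = 1 := Nat.eq_one_of_mul_eq_one_right h5
  funext g
  rw [h g, hn1, h6, Nat.cast_one]

end kernel

section crit

variable [Finite G] {p : ℕ} [hp : Fact p.Prime] {M : Ideal AlgInt} {H : Subgroup G}

theorem exists_order {y : G} (hE : EC p H) (hy : y ∈ H) : ∃ k : ℕ, orderOf y = p ^ k := by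
  obtain ⟨k, hk⟩ := (IsPGroup.iff_orderOf.1 hE.pg) ⟨y, hy⟩
  exact ⟨k, by rwa [Subgroup.orderOf_mk] at hk⟩

/-- characters of the principal block on `O g · y` -/
theorem val_eq (hM : IsPModular p M) (hC : Crit p H) {χ : IrrCharacter G}
    (hχ : χ ∈ principalBlock M G) {g o y : G} (ho : o ∈ OO p H g) (hy : y ∈ H) (hy1 : y ≠ 1) :
    (χ : G → ℂ) (o * y) = (χ : G → ℂ) y := by
  obtain ⟨c, hc, s, hs, hys, hcs⟩ := hC.ec.exists_conj_coprime ho hy
  have h1 : (χ : G → ℂ) (o * y) = (χ : G → ℂ) (y * s) := by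
    rw [← hcs, χ.2.isClassFunction]
  rw [h1]
  obtain ⟨k, hk⟩ := exists_order hC.ec hy
  obtain ⟨v, hv, hvs⟩ := hC.ec.mem_core hy (hC.core y hy hy1) hs hys
  have hmem : ∀ g, g ∈ Subgroup.centralizer ({y} : Set G) ↔ Commute y g := by
    intro g
    rw [Subgroup.mem_centralizer_singleton_iff]
    exact ⟨fun h => h.symm, fun h => h.symm⟩
  have := pPrimeCore_normal p (Subgroup.centralizer ({y} : Set G))
  have h2 := BlockSection.eq_of_mem_core hM hk hmem (N := pPrimeCore p (Subgroup.centralizer ({y} : Set G)))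
    (by rw [← hp.out.coprime_iff_not_dvd, Nat.coprime_comm]; exact Cores.coprime_card_pPrimeCore p _) hv hχ
  have h3 : ((v : Subgroup.centralizer ({y} : Set G)) : G) = s := hvs
  rw [h3] at h2
  exact h2

/-- the average of a character of the principal block over `T g` -/
theorem lin_normE_TT (hM : IsPModular p M) (hC : Crit p H) {χ : IrrCharacter G}
    (hχ : χ ∈ principalBlock M G) (g : G) :
    (Nat.card H : ℂ) * lin (χ : G → ℂ) (normE (TT H g)) =
      (Nat.card H : ℂ) * lin (χ : G → ℂ) (normE H) - (χ : G → ℂ) 1 +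
        lin (χ : G → ℂ) (normE (OO p H g)) := by
  classical
  have := Fintype.ofFinite G
  have hE := hC.ec
  have h1 := sum_mul_subgroup (OO_le_TT p H g) (le_TT H g) (hE.inf_OO g)
    (fun t ht => hE.exists_mul ht) (χ : G → ℂ)
  have hcard : Nat.card (TT H g) = Nat.card (OO p H g) * Nat.card H := by
    have h := hE.sup_OO g
    rw [sup_comm] at h
    have h2 := SubgroupTools.card_sup_of_disjoint (hE.le_norm_OO g)
      (by rw [disjoint_iff, inf_comm, hE.inf_OO])
    rwa [h] at h2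
  have h2 : ∀ h : H, ∑ o : OO p H g, (χ : G → ℂ) ((o : G) * (h : G)) =
      (Nat.card (OO p H g) : ℂ) * (χ : G → ℂ) h + if h = 1 then
        (∑ o : OO p H g, (χ : G → ℂ) o - (Nat.card (OO p H g) : ℂ) * (χ : G → ℂ) 1) else 0 := by
    intro h
    split_ifs with h1
    · subst h1
      simp
    · have h3 : ∀ o : OO p H g, (χ : G → ℂ) ((o : G) * (h : G)) = (χ : G → ℂ) h := by
        intro o
        exact val_eq hM hC hχ o.2 h.2 (fun h' => h1 (Subtype.ext h'))
      simp only [h3, Finset.sum_const, Finset.card_univ, nsmul_eq_mul, ← Nat.card_eq_fintype_card, add_zero]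
  simp only [h2, Finset.sum_add_distrib, Finset.sum_ite_eq', Finset.mem_univ, if_true,
    ← Finset.mul_sum] at h1
  rw [← lin_normE', ← lin_normE', ← lin_normE', hcard] at h1
  push_cast at h1
  have hO : (Nat.card (OO p H g) : ℂ) ≠ 0 := by exact_mod_cast Nat.card_pos.ne'
  have h4 : (Nat.card (OO p H g) : ℂ) * ((Nat.card H : ℂ) * lin (χ : G → ℂ) (normE (TT H g))) =
      (Nat.card (OO p H g) : ℂ) * ((Nat.card H : ℂ) * lin (χ : G → ℂ) (normE H) - (χ : G → ℂ) 1 +
        lin (χ : G → ℂ) (normE (OO p H g))) := by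
    linear_combination h1
  exact mul_left_cancel₀ hO h4

/-- the basic inequality for the multiplicity of the trivial character of `H` -/
theorem key_ineq (hM : IsPModular p M) (hC : Crit p H) {χ : IrrCharacter G}
    (hχ : χ ∈ principalBlock M G) {P n : ℝ} (hP : lin (χ : G → ℂ) (normE H) = (P : ℂ))
    (hn : (χ : G → ℂ) 1 = (n : ℂ)) (hn0 : 0 < n) :
    0 ≤ (((Nat.card H : ℝ) - 1) * P - n) * (P - n) := by
  classical
  have := Fintype.ofFinite G
  have hE := hC.ec
  have hGpos : (0 : ℝ) < Nat.card G := by exact_mod_cast Nat.card_pos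
  have hHpos : (0 : ℝ) < Nat.card H := by exact_mod_cast Nat.card_pos
  have hH1 : (1 : ℝ) ≤ Nat.card H := by exact_mod_cast Nat.card_pos
  -- lower bound for each `g`
  have hlow : ∀ g : G, ∃ r : ℝ, lin (χ : G → ℂ) (single g 1 * normE H * single g⁻¹ 1 * normE H) = (r : ℂ) ∧
      (Nat.card H : ℝ) * P - n ≤ ((Nat.card H : ℝ) - 1) * r := by
    intro g
    have e1 : single g (1 : ℂ) * normE H * single g⁻¹ 1 =
        single (kk hE g) (1 : ℂ) * normE H * single (kk hE g)⁻¹ 1 := by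
      have h1 : single g (1 : ℂ) = single (kk hE g) (1 : ℂ) * single (nn hE g) (1 : ℂ) := by
        rw [MonoidAlgebra.single_mul_single, hE.kk_mul_nn, one_mul]
      have h2 : single g⁻¹ (1 : ℂ) = single (nn hE g)⁻¹ (1 : ℂ) * single (kk hE g)⁻¹ (1 : ℂ) := by
        rw [MonoidAlgebra.single_mul_single, ← mul_inv_rev, hE.kk_mul_nn, one_mul]
      rw [h1, h2]
      calc single (kk hE g) (1 : ℂ) * single (nn hE g) (1 : ℂ) * normE H *
          (single (nn hE g)⁻¹ (1 : ℂ) * single (kk hE g)⁻¹ (1 : ℂ)) =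
          single (kk hE g) (1 : ℂ) * (single (nn hE g) (1 : ℂ) * normE H * single (nn hE g)⁻¹ (1 : ℂ)) *
            single (kk hE g)⁻¹ (1 : ℂ) := by noncomm_ring
        _ = _ := by rw [conj_normE (hE.nn_mem g)]
    have hkT : kk hE g ∈ TT H g := OO_le_TT p H g (hE.kk_mem g)
    obtain ⟨r₁, hr₁, h1⟩ := lin_normE_conj χ.2 (le_TT H g) hkT
    obtain ⟨r₂, hr₂, h2⟩ := lin_normE_mono χ.2 (OO_le_TT p H g)
    obtain ⟨a, ha, h3⟩ := lin_normE_nonneg χ.2 (TT H g)
    have h4 := lin_normE_TT hM hC hχ g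
    have h5 : lin (χ : G → ℂ) (normE (OO p H g)) = ((r₂ + a : ℝ) : ℂ) := by
      push_cast
      rw [← h2, ← h3]; ring
    refine ⟨r₁ + a, ?_, ?_⟩
    · rw [e1]
      push_cast
      rw [← h1, ← h3]; ring
    · rw [h5, h3, hP, hn] at h4
      have h6 : (Nat.card H : ℝ) * a = (Nat.card H : ℝ) * P - n + (r₂ + a) := by exact_mod_cast h4
      have h7 : 0 ≤ ((Nat.card H : ℝ) - 1) * r₁ := mul_nonneg (by linarith) hr₁
      nlinarith
  choose r hr hrlow using hlow
  have hsum := lin_sum_conj χ.2 (normE H) (normE H)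
  simp only [hr] at hsum
  rw [hP, hn] at hsum
  have h1 : ∑ g : G, r g = (Nat.card G : ℝ) * P * P / n := by exact_mod_cast hsum
  have h2 : (Nat.card G : ℝ) * ((Nat.card H : ℝ) * P - n) ≤ ((Nat.card H : ℝ) - 1) * ∑ g : G, r g := by
    rw [Finset.mul_sum]
    calc (Nat.card G : ℝ) * ((Nat.card H : ℝ) * P - n) = ∑ g : G, ((Nat.card H : ℝ) * P - n) := by
          rw [Finset.sum_const, Finset.card_univ, nsmul_eq_mul, Nat.card_eq_fintype_card]
      _ ≤ ∑ g : G, ((Nat.card H : ℝ) - 1) * r g := Finset.sum_le_sum fun g _ => hrlow g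
  rw [h1] at h2
  have h3 : (Nat.card G : ℝ) * (((Nat.card H : ℝ) * P - n) * n) ≤
      (Nat.card G : ℝ) * (((Nat.card H : ℝ) - 1) * P * P) := by
    have h4 := mul_le_mul_of_nonneg_right h2 hn0.le
    have e : ((Nat.card H : ℝ) - 1) * ((Nat.card G : ℝ) * P * P / n) * n =
        (Nat.card G : ℝ) * (((Nat.card H : ℝ) - 1) * P * P) := by
      field_simp
    rw [e] at h4
    linarith
  have h5 := le_of_mul_le_mul_left h3 hGpos
  nlinarith

/-- `r ≤ 1/m` for nontrivial characters of the principal block -/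
theorem mult_le (hM : IsPModular p M) (hC : Crit p H) {χ : IrrCharacter G}
    (hχ : χ ∈ principalBlock M G) (h1 : χ ≠ triv G) {P n : ℝ} (hP : lin (χ : G → ℂ) (normE H) = (P : ℂ))
    (hn : (χ : G → ℂ) 1 = (n : ℂ)) (hn0 : 0 < n) : ((Nat.card H : ℝ) - 1) * P ≤ n := by
  classical
  have := Fintype.ofFinite G
  have hkey := key_ineq hM hC hχ hP hn hn0
  have hHpos : (0 : ℝ) < Nat.card H := by exact_mod_cast Nat.card_pos
  have hsum : (Nat.card H : ℂ) * lin (χ : G → ℂ) (normE H) = ∑ x : H, (χ : G → ℂ) x := lin_normE' _ _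
  have hre : (Nat.card H : ℝ) * P = ∑ x : H, ((χ : G → ℂ) x).re := by
    rw [hP] at hsum
    have := congrArg Complex.re hsum
    simpa using this
  have hle : ∀ x : H, ((χ : G → ℂ) x).re ≤ n := by
    intro x
    have := (re_le_one χ.2.isCharacter (x : G)).1
    rw [hn] at this
    simpa using this
  have hPn : P ≤ n := by
    have : ∑ x : H, ((χ : G → ℂ) x).re ≤ ∑ x : H, n := Finset.sum_le_sum fun x _ => hle x
    rw [Finset.sum_const, Finset.card_univ, nsmul_eq_mul, ← Nat.card_eq_fintype_card, ← hre] at this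
    exact le_of_mul_le_mul_left this hHpos
  have hPne : P ≠ n := by
    intro hPeq
    apply h1
    -- all values are `χ 1`
    have hall : ∀ x : H, ((χ : G → ℂ) x).re = n := by
      by_contra hcon
      push Not at hcon
      obtain ⟨x, hx⟩ := hcon
      have : ∑ x : H, ((χ : G → ℂ) x).re < ∑ x : H, n :=
        Finset.sum_lt_sum (fun x _ => hle x) ⟨x, Finset.mem_univ _, lt_of_le_of_ne (hle x) hx⟩
      rw [Finset.sum_const, Finset.card_univ, nsmul_eq_mul, ← Nat.card_eq_fintype_card, ← hre, hPeq] at this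
      exact lt_irrefl _ this
    have hker : H ≤ kerS χ.2.isCharacter := by
      intro x hx
      have h2 := hall ⟨x, hx⟩
      exact (re_le_one χ.2.isCharacter x).2 (by rw [hn]; simpa using h2)
    have htop := hC.full _ (kerS_normal χ.2.isCharacter) hker
    apply Subtype.ext
    show (χ : G → ℂ) = fun _ => 1
    apply eq_one_of_ker χ.2
    intro g
    have : g ∈ kerS χ.2.isCharacter := by rw [htop]; trivial
    exact this
  have hlt : P - n < 0 := by
    have := lt_of_le_of_ne hPn hPne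
    linarith
  by_contra hcon
  push Not at hcon
  have : (((Nat.card H : ℝ) - 1) * P - n) * (P - n) < 0 := mul_neg_of_pos_of_neg (by linarith) hlt
  linarith

end crit

section theta

variable [Finite G] {p : ℕ} [hp : Fact p.Prime] {M : Ideal AlgInt} {H : Subgroup G}

/-- the principal block as a finset -/
noncomputable def Bs (M : Ideal AlgInt) (G : Type u) [Group G] [Finite G] : Finset (IrrCharacter G) :=
  (Set.toFinite (principalBlock M G)).toFinset

theorem mem_Bs {χ : IrrCharacter G} : χ ∈ Bs M G ↔ χ ∈ principalBlock M G := by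
  rw [Bs, Set.Finite.mem_toFinset]

theorem triv_mem_Bs (hM : IsPModular p M) : triv G ∈ Bs M G := by
  have := BlockRing.isPrime hM
  rw [mem_Bs]
  exact triv_mem

/-- column products over the principal block -/
noncomputable def Th (M : Ideal AlgInt) (y h : G) : ℂ :=
  ∑ χ ∈ Bs M G, (χ : G → ℂ) y * conj ((χ : G → ℂ) h)

theorem th_eq_zero (hM : IsPModular p M) {g h u v : G} (hu : IsPPart p g u) (hv : IsPPart p h v)
    (huv : ¬ IsConj u v) : Th M g h = 0 := by
  have h1 := BlockOrth.block_orthogonality hM (isPBlock_principal (G := G)) hu hv huv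
  rw [finsum_mem_eq_finite_toFinset_sum _ (Set.toFinite (principalBlock M G))] at h1
  rw [Th, Bs, ← h1]
  refine Finset.sum_congr rfl fun χ _ => ?_
  rw [χ.2.inv]

theorem isPPart_self {y : G} (hy : ∃ k : ℕ, orderOf y = p ^ k) : IsPPart p y y :=
  ⟨1, mul_one y, Commute.one_right y, hy, by rw [orderOf_one]; exact hp.out.one_lt.not_ge ∘ Nat.le_of_dvd one_pos⟩

theorem isPPart_one {o : G} (ho : (orderOf o).Coprime p) : IsPPart p o 1 :=
  ⟨o, one_mul o, Commute.one_left o, ⟨0, by simp⟩, by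
    rw [← hp.out.coprime_iff_not_dvd, Nat.coprime_comm]; exact ho⟩

theorem th_pp (hM : IsPModular p M) {y h : G} (hy : ∃ k : ℕ, orderOf y = p ^ k)
    (hh : ∃ k : ℕ, orderOf h = p ^ k) (hn : ¬ IsConj y h) : Th M y h = 0 :=
  th_eq_zero hM (isPPart_self hy) (isPPart_self hh) hn

theorem th_o (hM : IsPModular p M) {o h : G} (ho : (orderOf o).Coprime p)
    (hh : ∃ k : ℕ, orderOf h = p ^ k) (h1 : h ≠ 1) : Th M o h = 0 :=
  th_eq_zero hM (isPPart_one ho) (isPPart_self hh) (fun h2 => h1 (by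
    obtain ⟨c, hc⟩ := isConj_iff.1 h2
    rw [← hc]; simp))

theorem th_conj_right {y h h' : G} (hc : IsConj h h') : Th M y h = Th M y h' := by
  refine Finset.sum_congr rfl fun χ _ => ?_
  rw [χ.2.isClassFunction.conj_eq hc]

/-- the sum of squares -/
noncomputable def SS (M : Ideal AlgInt) (y : G) : ℝ := ∑ χ ∈ Bs M G, ‖(χ : G → ℂ) y‖ ^ 2

theorem th_self (y : G) : Th M y y = (SS M y : ℂ) := by
  rw [Th, SS]
  push_cast
  refine Finset.sum_congr rfl fun χ _ => ?_
  rw [Complex.mul_conj']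

open Classical in
/-- number of elements of `H` conjugate to `y` -/
noncomputable def dd (H : Subgroup G) (y : G) [Fintype H] : ℕ :=
  (Finset.univ.filter fun h : H => IsConj y h).card

open Classical in
theorem sum_th (hM : IsPModular p M) (hE : EC p H) [Fintype H] {y : G} (hy : y ∈ H) (hy1 : y ≠ 1) :
    ∑ h : H, (if h = 1 then 0 else Th M y h) = ((dd H y : ℝ) * SS M y : ℝ) := by
  have h1 : ∀ h : H, (if h = 1 then 0 else Th M y h) = if IsConj y h then (SS M y : ℂ) else 0 := by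
    intro h
    by_cases hc : IsConj y (h : G)
    · have h2 : h ≠ 1 := by
        rintro rfl
        obtain ⟨c, hc'⟩ := isConj_iff.1 hc.symm
        apply hy1
        rw [← hc']; simp
      rw [if_neg h2, if_pos hc, ← th_self, th_conj_right hc]
    · rw [if_neg hc]
      split_ifs with h2
      · rfl
      · exact th_pp hM (exists_order hE hy) (exists_order hE h.2) hc
  simp only [h1]
  rw [← Finset.sum_filter, Finset.sum_const, nsmul_eq_mul, dd]
  push_cast
  rfl

/-- averaging over the normalizer -/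
theorem sum_nn [Fintype G] (hE : EC p H) [Fintype (Subgroup.normalizer (H : Set G))] (F : G → ℝ) :
    (Nat.card (Subgroup.normalizer (H : Set G)) : ℝ) * ∑ g : G, F (nn hE g) =
      (Nat.card G : ℝ) * ∑ n : Subgroup.normalizer (H : Set G), F n := by
  have h1 : ∀ m : Subgroup.normalizer (H : Set G), ∑ g : G, F (nn hE g) = ∑ g : G, F (nn hE g * m) := by
    intro m
    rw [← Equiv.sum_comp (Equiv.mulRight (m : G))]
    refine Finset.sum_congr rfl fun g _ => ?_
    rw [Equiv.coe_mulRight, hE.nn_mul g m.2]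
  calc (Nat.card (Subgroup.normalizer (H : Set G)) : ℝ) * ∑ g : G, F (nn hE g) =
      ∑ m : Subgroup.normalizer (H : Set G), ∑ g : G, F (nn hE g) := by
        rw [Finset.sum_const, Finset.card_univ, nsmul_eq_mul, Nat.card_eq_fintype_card]
    _ = ∑ m : Subgroup.normalizer (H : Set G), ∑ g : G, F (nn hE g * m) :=
        Finset.sum_congr rfl fun m _ => h1 m
    _ = ∑ g : G, ∑ m : Subgroup.normalizer (H : Set G), F (nn hE g * m) := Finset.sum_comm
    _ = ∑ g : G, ∑ n : Subgroup.normalizer (H : Set G), F n := by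
        refine Finset.sum_congr rfl fun g _ => ?_
        exact Fintype.sum_equiv (Equiv.mulLeft (⟨nn hE g, hE.nn_mem g⟩ : Subgroup.normalizer (H : Set G))) _ _
          (fun m => rfl)
    _ = _ := by rw [Finset.sum_const, Finset.card_univ, nsmul_eq_mul, Nat.card_eq_fintype_card]

open Classical in
/-- orbit-stabilizer -/
theorem dd_mul (hE : EC p H) [Fintype H] [Fintype (Subgroup.normalizer (H : Set G))] {x : G} (hx : x ∈ H) :
    dd H x * (Finset.univ.filter fun n : Subgroup.normalizer (H : Set G) =>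
      (n : G) * x * (n : G)⁻¹ = x).card = Nat.card (Subgroup.normalizer (H : Set G)) := by
  set N := Subgroup.normalizer (H : Set G) with hN
  let φ : N → H := fun n => ⟨(n : G) * x * (n : G)⁻¹, ((Subgroup.mem_normalizer_iff.1 n.2) x).1 hx⟩
  have h1 : ∀ n ∈ (Finset.univ : Finset N), φ n ∈ Finset.univ.filter fun h : H => IsConj x h := by
    intro n _
    rw [Finset.mem_filter]
    exact ⟨Finset.mem_univ _, isConj_iff.2 ⟨n, rfl⟩⟩
  have h2 := Finset.card_eq_sum_card_fiberwise h1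
  have h3 : ∀ y ∈ Finset.univ.filter fun h : H => IsConj x h,
      (Finset.univ.filter fun n : N => φ n = y).card =
      (Finset.univ.filter fun n : N => (n : G) * x * (n : G)⁻¹ = x).card := by
    intro y hy
    obtain ⟨g, hg⟩ := isConj_iff.1 (Finset.mem_filter.1 hy).2
    have h4 := hE.conj_eq_of_mem g hx (by rw [hg]; exact y.2)
    rw [hg] at h4
    set n₀ : N := ⟨nn hE g, hE.nn_mem g⟩ with hn₀
    have hn₀' : (n₀ : G) = nn hE g := rfl
    symm
    apply Finset.card_bij (fun n _ => n₀ * n)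
    · intro n hn
      rw [Finset.mem_filter] at hn ⊢
      refine ⟨Finset.mem_univ _, Subtype.ext ?_⟩
      show (((n₀ * n : N) : G)) * x * (((n₀ * n : N) : G))⁻¹ = y
      have e : (((n₀ * n : N) : G)) * x * (((n₀ * n : N) : G))⁻¹ =
          (n₀ : G) * ((n : G) * x * (n : G)⁻¹) * (n₀ : G)⁻¹ := by
        rw [Subgroup.coe_mul]; group
      rw [e, hn.2, hn₀', ← h4]
    · intro a _ b _ hab
      exact mul_left_cancel hab
    · intro n hn
      rw [Finset.mem_filter] at hn
      refine ⟨n₀⁻¹ * n, ?_, by rw [mul_inv_cancel_left]⟩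
      rw [Finset.mem_filter]
      refine ⟨Finset.mem_univ _, ?_⟩
      have h5 : (n : G) * x * (n : G)⁻¹ = y := congrArg Subtype.val hn.2
      have e : ((n₀⁻¹ * n : N) : G) * x * ((n₀⁻¹ * n : N) : G)⁻¹ =
          (n₀ : G)⁻¹ * ((n : G) * x * (n : G)⁻¹) * (n₀ : G) := by
        rw [Subgroup.coe_mul, Subgroup.coe_inv]; group
      rw [e, h5, h4, ← hn₀']
      group
  rw [Finset.sum_congr rfl h3, Finset.sum_const, smul_eq_mul, Finset.card_univ,
    ← Nat.card_eq_fintype_card] at h2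
  rw [dd]
  convert h2.symm

end theta

section main

variable [Finite G] {p : ℕ} [hp : Fact p.Prime] {M : Ideal AlgInt} {H : Subgroup G}

theorem exists_PP (χ : IrrCharacter G) (H : Subgroup G) :
    ∃ P : ℝ, 0 ≤ P ∧ lin (χ : G → ℂ) (normE H) = (P : ℂ) := lin_normE_nonneg χ.2 H

/-- multiplicity of the trivial character of `H` -/
noncomputable def PP (H : Subgroup G) (χ : IrrCharacter G) : ℝ := Classical.choose (exists_PP χ H)

theorem PP_nonneg (H : Subgroup G) (χ : IrrCharacter G) : 0 ≤ PP H χ :=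
  (Classical.choose_spec (exists_PP χ H)).1

theorem PP_spec (H : Subgroup G) (χ : IrrCharacter G) : lin (χ : G → ℂ) (normE H) = (PP H χ : ℂ) :=
  (Classical.choose_spec (exists_PP χ H)).2

noncomputable def deg (χ : IrrCharacter G) : ℝ := ((Classical.choose χ.2.exists_degree : ℕ) : ℝ)

theorem deg_pos (χ : IrrCharacter G) : 0 < deg χ := by
  rw [deg]
  exact_mod_cast (Classical.choose_spec χ.2.exists_degree).1

theorem deg_spec (χ : IrrCharacter G) : (χ : G → ℂ) 1 = (deg χ : ℂ) := by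
  rw [deg]
  exact_mod_cast (Classical.choose_spec χ.2.exists_degree).2

theorem deg_triv : deg (triv G) = 1 := by
  have h := deg_spec (triv G)
  have h1 : ((triv G : IrrCharacter G) : G → ℂ) 1 = 1 := rfl
  rw [h1] at h
  exact_mod_cast h.symm

open Classical in
theorem sum_H [Fintype G] [Fintype H] (χ : IrrCharacter G) :
    ∑ h : H, (if h = 1 then 0 else (χ : G → ℂ) h) = (((Nat.card H : ℝ) * PP H χ - deg χ : ℝ) : ℂ) := by
  have h1 : ∑ h : H, (χ : G → ℂ) h = (Nat.card H : ℂ) * (PP H χ : ℂ) := by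
    rw [← PP_spec, lin_normE']
  have h2 : ∀ h : H, (if h = 1 then 0 else (χ : G → ℂ) h) =
      (χ : G → ℂ) h - if h = 1 then (χ : G → ℂ) 1 else 0 := by
    intro h
    split_ifs with h3
    · subst h3; simp
    · simp
  simp only [h2, Finset.sum_sub_distrib, Finset.sum_ite_eq', Finset.mem_univ, if_true]
  rw [h1, deg_spec]
  push_cast
  rfl

theorem PP_triv [Fintype G] [Fintype H] : PP H (triv G) = 1 := by
  classical
  have h1 : (Nat.card H : ℂ) * lin ((triv G : IrrCharacter G) : G → ℂ) (normE H) =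
      ∑ h : H, ((triv G : IrrCharacter G) : G → ℂ) h := lin_normE' _ _
  rw [PP_spec] at h1
  simp only [coe_triv, Finset.sum_const, Finset.card_univ, nsmul_eq_mul, mul_one,
    ← Nat.card_eq_fintype_card] at h1
  have h2 : (Nat.card H : ℂ) ≠ 0 := by exact_mod_cast Nat.card_pos.ne'
  have h3 := mul_left_cancel₀ h2 (h1.trans (mul_one _).symm)
  exact_mod_cast h3

open Classical in
/-- the main identity -/
theorem main_identity (hM : IsPModular p M) (hC : Crit p H) [Fintype G] [Fintype H] {x : G} (hx : x ∈ H) :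
    (Nat.card G : ℝ) * ∑ χ ∈ Bs M G, ‖(χ : G → ℂ) x‖ ^ 2 * ((Nat.card H : ℝ) * PP H χ - deg χ) / deg χ =
      ∑ g : G, (fun n : G => if n * x * n⁻¹ = x then (0 : ℝ) else
        (dd H (n * x * n⁻¹ * x⁻¹) : ℝ) * SS M (n * x * n⁻¹ * x⁻¹)) (nn hC.ec g) := by
  have hE := hC.ec
  have h1 : ∀ g : G, ∑ χ ∈ Bs M G, (χ : G → ℂ) (g * x * g⁻¹ * x⁻¹) *
      (∑ h : H, (if h = 1 then 0 else conj ((χ : G → ℂ) h))) =
      (((fun n : G => if n * x * n⁻¹ = x then (0 : ℝ) else
        (dd H (n * x * n⁻¹ * x⁻¹) : ℝ) * SS M (n * x * n⁻¹ * x⁻¹)) (nn hC.ec g) : ℝ) : ℂ) := by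
    intro g
    have h2 : ∑ χ ∈ Bs M G, (χ : G → ℂ) (g * x * g⁻¹ * x⁻¹) *
      (∑ h : H, (if h = 1 then 0 else conj ((χ : G → ℂ) h))) =
        ∑ h : H, if h = 1 then 0 else Th M (g * x * g⁻¹ * x⁻¹) h := by
      simp only [Finset.mul_sum]
      rw [Finset.sum_comm]
      refine Finset.sum_congr rfl fun h _ => ?_
      split_ifs with h3
      · simp
      · rfl
    rw [h2]
    obtain ⟨o, ho, h3⟩ := hE.exists_conj_eq g hx
    set x' := nn hE g * x * (nn hE g)⁻¹ with hx'
    have hx'H : x' ∈ H := hE.nn_conj_mem g hx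
    simp only
    rw [← hx']
    split_ifs with h4
    · have h5 : g * x * g⁻¹ * x⁻¹ = o := by rw [h3, h4]; group
      rw [h5]
      rw [Finset.sum_eq_zero]
      · simp
      · intro h _
        split_ifs with h6
        · rfl
        · exact th_o hM (coprime_orderOf ho) (exists_order hE h.2) (fun h' => h6 (Subtype.ext h'))
    · have h5 : g * x * g⁻¹ * x⁻¹ = o * (x' * x⁻¹) := by rw [h3]; group
      have hy : x' * x⁻¹ ∈ H := H.mul_mem hx'H (H.inv_mem hx)
      have hy1 : x' * x⁻¹ ≠ 1 := fun h => h4 (mul_inv_eq_one.1 h)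
      rw [h5, ← sum_th hM hE hy hy1]
      refine Finset.sum_congr rfl fun h _ => ?_
      split_ifs with h6
      · rfl
      · refine Finset.sum_congr rfl fun χ hχ => ?_
        rw [val_eq hM hC (mem_Bs.1 hχ) ho hy hy1]
  have h2 : (((Nat.card G : ℝ) * ∑ χ ∈ Bs M G,
      ‖(χ : G → ℂ) x‖ ^ 2 * ((Nat.card H : ℝ) * PP H χ - deg χ) / deg χ : ℝ) : ℂ) =
      ∑ g : G, ∑ χ ∈ Bs M G, (χ : G → ℂ) (g * x * g⁻¹ * x⁻¹) *
      (∑ h : H, (if h = 1 then 0 else conj ((χ : G → ℂ) h))) := by
    rw [Finset.sum_comm]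
    push_cast
    rw [Finset.mul_sum]
    refine Finset.sum_congr rfl fun χ _ => ?_
    rw [← Finset.sum_mul]
    have h3 : ∑ g : G, (χ : G → ℂ) (g * x * g⁻¹ * x⁻¹) =
        (Nat.card G : ℂ) * (χ : G → ℂ) x⁻¹ * (χ : G → ℂ) x / (χ : G → ℂ) 1 := by
      rw [← StructConst.sum_conj_mul χ.2]
      refine Finset.sum_congr rfl fun g _ => ?_
      rw [χ.2.isClassFunction.mul_comm]
    have h4 : ∑ h : H, (if h = 1 then 0 else conj ((χ : G → ℂ) h)) =
        (((Nat.card H : ℝ) * PP H χ - deg χ : ℝ) : ℂ) := by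
      have h5 := congrArg conj (sum_H (H := H) χ)
      rw [Complex.conj_ofReal, map_sum] at h5
      rw [← h5]
      refine Finset.sum_congr rfl fun h _ => ?_
      split_ifs <;> simp
    rw [h3, h4, χ.2.inv, deg_spec]
    have h5 : conj ((χ : G → ℂ) x) * (χ : G → ℂ) x = (‖(χ : G → ℂ) x‖ : ℂ) ^ 2 := by
      rw [mul_comm, Complex.mul_conj']
    push_cast
    rw [← h5]
    ring
  have h3 : (((Nat.card G : ℝ) * ∑ χ ∈ Bs M G,
      ‖(χ : G → ℂ) x‖ ^ 2 * ((Nat.card H : ℝ) * PP H χ - deg χ) / deg χ : ℝ) : ℂ) =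
      ((∑ g : G, (fun n : G => if n * x * n⁻¹ = x then (0 : ℝ) else
        (dd H (n * x * n⁻¹ * x⁻¹) : ℝ) * SS M (n * x * n⁻¹ * x⁻¹)) (nn hC.ec g) : ℝ) : ℂ) := by
    rw [h2, Finset.sum_congr rfl fun g _ => h1 g, Complex.ofReal_sum]
  exact_mod_cast h3

open Classical in
theorem dd_pos [Fintype H] {x : G} (hx : x ∈ H) : 0 < dd H x :=
  Finset.card_pos.2 ⟨⟨x, hx⟩, Finset.mem_filter.2 ⟨Finset.mem_univ _, IsConj.refl _⟩⟩

theorem SS_nonneg (y : G) : 0 ≤ SS M y := Finset.sum_nonneg fun _ _ => by positivity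

open Classical in
/-- lower bound -/
theorem lower (hM : IsPModular p M) (hC : Crit p H) [Fintype G] [Fintype H] {x : G} (hx : x ∈ H)
    (hmin : ∀ y ∈ H, y ≠ 1 → (dd H x : ℝ) * SS M x ≤ (dd H y : ℝ) * SS M y) :
    (dd H x : ℝ) * SS M x ≤ (Nat.card H : ℝ) * ∑ χ ∈ Bs M G, ‖(χ : G → ℂ) x‖ ^ 2 * (PP H χ / deg χ) := by
  have hE := hC.ec
  letI : Fintype (Subgroup.normalizer (H : Set G)) := Fintype.ofFinite _
  have h1 := main_identity hM hC hx
  set c : ℝ := (dd H x : ℝ) * SS M x with hc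
  have hc0 : 0 ≤ c := mul_nonneg (Nat.cast_nonneg _) (SS_nonneg _)
  have hG : (0 : ℝ) < Nat.card G := by exact_mod_cast Nat.card_pos
  have hN : (0 : ℝ) < Nat.card (Subgroup.normalizer (H : Set G)) := by exact_mod_cast Nat.card_pos
  -- the number of `n` fixing `x`
  set q : ℕ := (Finset.univ.filter fun n : Subgroup.normalizer (H : Set G) =>
      (n : G) * x * (n : G)⁻¹ = x).card with hq
  have hdq : dd H x * q = Nat.card (Subgroup.normalizer (H : Set G)) := dd_mul hE hx
  have h2 : ∑ g : G, (fun n : G => if n * x * n⁻¹ = x then (0 : ℝ) else c) (nn hE g) ≤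
      ∑ g : G, (fun n : G => if n * x * n⁻¹ = x then (0 : ℝ) else
        (dd H (n * x * n⁻¹ * x⁻¹) : ℝ) * SS M (n * x * n⁻¹ * x⁻¹)) (nn hC.ec g) := by
    refine Finset.sum_le_sum fun g _ => ?_
    simp only
    split_ifs with h3
    · exact le_rfl
    · apply hmin _ (H.mul_mem (hE.nn_conj_mem g hx) (H.inv_mem hx))
      exact fun h => h3 (mul_inv_eq_one.1 h)
  rw [← h1] at h2
  have h3 := sum_nn hE (fun n : G => if n * x * n⁻¹ = x then (0 : ℝ) else c)
  have h4 : ∑ n : Subgroup.normalizer (H : Set G), (fun n : G => if n * x * n⁻¹ = x then (0 : ℝ) else c) n =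
      ((Nat.card (Subgroup.normalizer (H : Set G)) : ℝ) - q) * c := by
    have h5 : ∀ n : Subgroup.normalizer (H : Set G), (fun n : G => if n * x * n⁻¹ = x then (0 : ℝ) else c) n =
        c - if (n : G) * x * (n : G)⁻¹ = x then c else 0 := by
      intro n
      simp only
      split_ifs <;> simp
    simp only [h5, Finset.sum_sub_distrib, Finset.sum_const, Finset.card_univ, nsmul_eq_mul,
      ← Nat.card_eq_fintype_card]
    rw [← Finset.sum_filter, Finset.sum_const, nsmul_eq_mul, ← hq]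
    ring
  rw [h4] at h3
  -- combine
  have h5 : (dd H x : ℝ) * q = Nat.card (Subgroup.normalizer (H : Set G)) := by exact_mod_cast hdq
  have h6 : (Nat.card G : ℝ) * (((dd H x : ℝ) - 1) * SS M x) =
      ∑ g : G, (fun n : G => if n * x * n⁻¹ = x then (0 : ℝ) else c) (nn hE g) := by
    apply mul_left_cancel₀ hN.ne'
    rw [h3, hc, ← h5]
    ring
  rw [← h6] at h2
  have h7 := le_of_mul_le_mul_left h2 hG
  have h8 : ∑ χ ∈ Bs M G, ‖(χ : G → ℂ) x‖ ^ 2 * ((Nat.card H : ℝ) * PP H χ - deg χ) / deg χ =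
      (Nat.card H : ℝ) * (∑ χ ∈ Bs M G, ‖(χ : G → ℂ) x‖ ^ 2 * (PP H χ / deg χ)) - SS M x := by
    rw [SS, Finset.mul_sum, ← Finset.sum_sub_distrib]
    refine Finset.sum_congr rfl fun χ _ => ?_
    have := (deg_pos χ).ne'
    field_simp
  rw [h8] at h7
  linarith

/-- upper bound -/
theorem upper (hM : IsPModular p M) (hC : Crit p H) [Fintype G] [Fintype H] (hH : 1 < Nat.card H) (x : G) :
    ∑ χ ∈ Bs M G, ‖(χ : G → ℂ) x‖ ^ 2 * (PP H χ / deg χ) ≤
      1 + (SS M x - 1) / ((Nat.card H : ℝ) - 1) := by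
  classical
  have hm : (0 : ℝ) < (Nat.card H : ℝ) - 1 := by
    have : (1 : ℝ) < Nat.card H := by exact_mod_cast hH
    linarith
  have ht := triv_mem_Bs (G := G) hM
  rw [SS, ← Finset.add_sum_erase _ _ ht, ← Finset.add_sum_erase (Bs M G) (fun χ => ‖(χ : G → ℂ) x‖ ^ 2) ht]
  have h1 : ‖((triv G : IrrCharacter G) : G → ℂ) x‖ ^ 2 = 1 := by simp
  rw [h1, PP_triv, deg_triv, div_one, mul_one, add_sub_cancel_left, Finset.sum_div]
  apply add_le_add le_rfl
  refine Finset.sum_le_sum fun χ hχ => ?_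
  rw [Finset.mem_erase] at hχ
  have h2 := mult_le hM hC (mem_Bs.1 hχ.2) hχ.1 (PP_spec H χ) (deg_spec χ) (deg_pos χ)
  rw [div_eq_mul_one_div (‖(χ : G → ℂ) x‖ ^ 2)]
  apply mul_le_mul_of_nonneg_left _ (by positivity)
  rw [div_le_div_iff₀ (deg_pos χ) hm, one_mul]
  linarith

end main


section final

variable [Finite G] {p : ℕ} [hp : Fact p.Prime] {M : Ideal AlgInt} {H : Subgroup G}

theorem card_le_SS_one (hM : IsPModular p M) (Q : Subgroup G) (hQ : IsPGroup p Q) :
    (Nat.card Q : ℝ) ≤ SS M (1 : G) := by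
  classical
  have := Fintype.ofFinite G
  have h1 : ∑ c : Q, Th M (1 : G) c = Th M (1 : G) 1 := by
    rw [Finset.sum_eq_single (1 : Q)]
    · rfl
    · intro c _ hc
      apply th_pp hM ⟨0, by simp⟩
      · obtain ⟨k, hk⟩ := (IsPGroup.iff_orderOf.1 hQ) c
        exact ⟨k, by rw [Subgroup.orderOf_coe]; exact hk⟩
      · intro h2
        apply hc
        apply Subtype.ext
        obtain ⟨g, hg⟩ := isConj_iff.1 h2
        rw [← hg]; simp
    · intro h; exact absurd (Finset.mem_univ _) h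
  have h2 : ∑ c : Q, Th M (1 : G) c =
      ((∑ χ ∈ Bs M G, deg χ * ((Nat.card Q : ℝ) * PP Q χ) : ℝ) : ℂ) := by
    simp only [Th]
    rw [Finset.sum_comm]
    push_cast
    refine Finset.sum_congr rfl fun χ _ => ?_
    rw [← Finset.mul_sum, ← map_sum, ← lin_normE', PP_spec, deg_spec]
    simp
  rw [h2, th_self] at h1
  have h3 : SS M (1 : G) = ∑ χ ∈ Bs M G, deg χ * ((Nat.card Q : ℝ) * PP Q χ) := by exact_mod_cast h1.symm
  rw [h3, ← Finset.add_sum_erase _ _ (triv_mem_Bs (G := G) hM), deg_triv, PP_triv, mul_one, one_mul]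
  have h4 : 0 ≤ ∑ χ ∈ (Bs M G).erase (triv G), deg χ * ((Nat.card Q : ℝ) * PP Q χ) :=
    Finset.sum_nonneg fun χ _ => mul_nonneg (deg_pos χ).le (mul_nonneg (Nat.cast_nonneg _) (PP_nonneg Q χ))
  linarith

theorem card_le_SS (hM : IsPModular p M) (hE : EC p H) {x : G} (hx : x ∈ H) :
    (Nat.card H : ℝ) ≤ SS M x := by
  obtain ⟨k, hk⟩ := exists_order hE hx
  set C := Subgroup.centralizer ({x} : Set G) with hC
  have hmem : ∀ g, g ∈ C ↔ Commute x g := by
    intro g
    rw [hC, Subgroup.mem_centralizer_singleton_iff]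
    exact ⟨fun h => h.symm, fun h => h.symm⟩
  have h1p : ¬ p ∣ orderOf (1 : C) := by
    rw [orderOf_one]; exact hp.out.one_lt.not_ge ∘ Nat.le_of_dvd one_pos
  have h1 := BlockSection.principal_section_sum hM hk hmem h1p h1p
  rw [finsum_mem_eq_finite_toFinset_sum _ (Set.toFinite (principalBlock M G)),
    finsum_mem_eq_finite_toFinset_sum _ (Set.toFinite (principalBlock M C))] at h1
  have h2 : Th M x x = Th M (1 : C) 1 := by
    rw [Th, Th, Bs, Bs, ← h1]
    simp
  rw [th_self, th_self] at h2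
  have h3 : SS M x = SS M (1 : C) := by exact_mod_cast h2
  rw [h3]
  have hHC : H ≤ C := fun h hh => (hmem h).2 (hE.comm hx hh)
  have h4 := card_le_SS_one (G := C) hM (H.subgroupOf C) hE.pg.comap_subtype
  rwa [Nat.card_congr (Subgroup.subgroupOfEquivOfLe hHC).toEquiv] at h4

/-- `d = 1` for the minimizing element -/
theorem dd_eq_one (hM : IsPModular p M) (hC : Crit p H) [Fintype H] {x : G} (hx : x ∈ H) (hx1 : x ≠ 1)
    (hmin : ∀ y ∈ H, y ≠ 1 → (dd H x : ℝ) * SS M x ≤ (dd H y : ℝ) * SS M y) : dd H x = 1 := by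
  classical
  letI := Fintype.ofFinite G
  have hE := hC.ec
  by_contra hne
  have hd2 : 2 ≤ dd H x := by
    have := dd_pos hx
    omega
  -- `3 ≤ |H|`
  have hH3 : 3 ≤ Nat.card H := by
    have h1 : dd H x < Nat.card H := by
      rw [dd, Nat.card_eq_fintype_card, ← Finset.card_univ]
      apply Finset.card_lt_card
      rw [Finset.ssubset_univ_iff]
      intro h
      have h2 := Finset.mem_univ (1 : H)
      rw [← h] at h2
      have h3 : IsConj x ((1 : H) : G) := by simpa using h2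
      obtain ⟨g, hg⟩ := isConj_iff.1 h3.symm
      apply hx1
      rw [← hg]; simp
    omega
  set m : ℝ := (Nat.card H : ℝ) - 1 with hm
  have hm2 : 2 ≤ m := by
    have : (3 : ℝ) ≤ Nat.card H := by exact_mod_cast hH3
    rw [hm]; linarith
  have hHm : (Nat.card H : ℝ) = m + 1 := by rw [hm]; ring
  have hlow := lower hM hC hx hmin
  have hup := upper hM hC (H := H) (by omega) x
  have hS := card_le_SS hM hE hx
  rw [← hm] at hup
  rw [hHm] at hlow hS
  set S := SS M x with hSdef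
  set UU := ∑ χ ∈ Bs M G, ‖(χ : G → ℂ) x‖ ^ 2 * (PP H χ / deg χ) with hUU
  have hm0 : 0 < m := by linarith
  have h1 : (dd H x : ℝ) * S ≤ (m + 1) * (1 + (S - 1) / m) :=
    hlow.trans (mul_le_mul_of_nonneg_left hup (by linarith))
  have h2 : (dd H x : ℝ) * S * m ≤ (m + 1) * (m + (S - 1)) := by
    have h3 := mul_le_mul_of_nonneg_right h1 hm0.le
    have e : (m + 1) * (1 + (S - 1) / m) * m = (m + 1) * (m + (S - 1)) := by
      field_simp
    rwa [e] at h3
  have hd2' : dd H x = 2 := by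
    by_contra hne2
    have h3 : (3 : ℝ) ≤ dd H x := by
      have : 3 ≤ dd H x := by omega
      exact_mod_cast this
    have h4 : 3 * S * m ≤ (dd H x : ℝ) * S * m := by
      apply mul_le_mul_of_nonneg_right _ hm0.le
      apply mul_le_mul_of_nonneg_right h3
      linarith
    have h5 : S * (2 * m - 1) ≤ m * m - 1 := by nlinarith
    have h6 : (m + 1) * (2 * m - 1) ≤ S * (2 * m - 1) := mul_le_mul_of_nonneg_right hS (by linarith)
    nlinarith
  rw [hd2'] at h2 hlow
  push_cast at h2 hlow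
  have hSeq : S = m + 1 := by
    have h3 : S * (m - 1) ≤ (m + 1) * (m - 1) := by nlinarith
    have h4 := le_of_mul_le_mul_right h3 (by linarith)
    linarith
  -- equality in `upper`
  have heq : UU = 1 + (S - 1) / m := by
    apply le_antisymm hup
    have h3 : (m + 1) * (1 + (S - 1) / m) ≤ (m + 1) * UU := by
      have e : (m + 1) * (1 + (S - 1) / m) = 2 * S := by
        rw [hSeq]; field_simp; ring
      rw [e]; exact hlow
    exact le_of_mul_le_mul_left h3 (by linarith)
  have hall : ∀ χ ∈ (Bs M G).erase (triv G), ‖(χ : G → ℂ) x‖ ^ 2 * (PP H χ / deg χ) =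
      ‖(χ : G → ℂ) x‖ ^ 2 / m := by
    have ht := triv_mem_Bs (G := G) hM
    have hle : ∀ χ ∈ (Bs M G).erase (triv G), ‖(χ : G → ℂ) x‖ ^ 2 * (PP H χ / deg χ) ≤
      ‖(χ : G → ℂ) x‖ ^ 2 / m := by
      intro χ hχ
      rw [Finset.mem_erase] at hχ
      have h2 := mult_le hM hC (mem_Bs.1 hχ.2) hχ.1 (PP_spec H χ) (deg_spec χ) (deg_pos χ)
      rw [div_eq_mul_one_div (‖(χ : G → ℂ) x‖ ^ 2)]
      apply mul_le_mul_of_nonneg_left _ (by positivity)
      rw [div_le_div_iff₀ (deg_pos χ) hm0, one_mul]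
      rw [← hm] at h2
      linarith
    rw [← Finset.sum_eq_sum_iff_of_le hle]
    have e1 : UU = 1 + ∑ χ ∈ (Bs M G).erase (triv G), ‖(χ : G → ℂ) x‖ ^ 2 * (PP H χ / deg χ) := by
      rw [hUU, ← Finset.add_sum_erase _ _ ht, PP_triv, deg_triv]
      simp
    have e2 : S = 1 + ∑ χ ∈ (Bs M G).erase (triv G), ‖(χ : G → ℂ) x‖ ^ 2 := by
      rw [hSdef, SS, ← Finset.add_sum_erase _ _ ht]
      simp
    rw [← Finset.sum_div]
    have e3 : ∑ χ ∈ (Bs M G).erase (triv G), ‖(χ : G → ℂ) x‖ ^ 2 = S - 1 := by rw [e2]; ring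
    rw [e3]
    rw [e1] at heq
    linarith
  -- the sum over `H`
  have hsum := sum_th hM hE hx hx1
  have hsum2 : ∑ h : H, (if h = 1 then 0 else Th M x h) =
      ∑ χ ∈ Bs M G, (χ : G → ℂ) x * (((Nat.card H : ℝ) * PP H χ - deg χ : ℝ) : ℂ) := by
    have h3 : ∀ χ : IrrCharacter G, ∑ h : H, (if h = 1 then 0 else conj ((χ : G → ℂ) h)) =
        (((Nat.card H : ℝ) * PP H χ - deg χ : ℝ) : ℂ) := by
      intro χ
      have h5 := congrArg conj (sum_H (H := H) χ)
      rw [Complex.conj_ofReal, map_sum] at h5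
      rw [← h5]
      refine Finset.sum_congr rfl fun h _ => ?_
      split_ifs <;> simp
    simp only [← h3, Finset.mul_sum]
    rw [Finset.sum_comm]
    refine Finset.sum_congr rfl fun h _ => ?_
    split_ifs with h4
    · simp
    · rfl
  rw [hsum2, hd2', ← Finset.add_sum_erase _ _ (triv_mem_Bs (G := G) hM), PP_triv, deg_triv] at hsum
  have h3 : ∀ χ ∈ (Bs M G).erase (triv G),
      (χ : G → ℂ) x * (((Nat.card H : ℝ) * PP H χ - deg χ : ℝ) : ℂ) =
        (χ : G → ℂ) x * conj ((χ : G → ℂ) 1) / (m : ℂ) := by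
    intro χ hχ
    rw [deg_spec, Complex.conj_ofReal]
    by_cases h0 : (χ : G → ℂ) x = 0
    · rw [h0]; simp
    · have h4 := hall χ hχ
      have h5 : ‖(χ : G → ℂ) x‖ ^ 2 ≠ 0 := pow_ne_zero 2 (norm_ne_zero_iff.2 h0)
      have h6 : PP H χ / deg χ = 1 / m := by
        apply mul_left_cancel₀ h5
        rw [h4]; ring
      have h7 : PP H χ = deg χ / m := by
        have := (deg_pos χ).ne'
        field_simp at h6 ⊢
        linarith
      have h8 : (Nat.card H : ℝ) * PP H χ - deg χ = deg χ / m := by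
        rw [hHm, h7]
        field_simp
        ring
      rw [h8]
      push_cast
      ring
  rw [Finset.sum_congr rfl h3, ← Finset.sum_div] at hsum
  have h4 : Th M x 1 = 0 := by
    apply th_pp hM (exists_order hE hx) ⟨0, by simp⟩
    intro h5
    obtain ⟨g, hg⟩ := isConj_iff.1 h5.symm
    apply hx1
    rw [← hg]; simp
  rw [Th, ← Finset.add_sum_erase _ _ (triv_mem_Bs (G := G) hM)] at h4
  have h5 : ∑ χ ∈ (Bs M G).erase (triv G), (χ : G → ℂ) x * conj ((χ : G → ℂ) 1) = -1 := by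
    have : ((triv G : IrrCharacter G) : G → ℂ) x * conj (((triv G : IrrCharacter G) : G → ℂ) 1) = 1 := by
      simp
    rw [this] at h4
    linear_combination h4
  rw [h5, hHm, ← hSdef, hSeq] at hsum
  have h6 : ((triv G : IrrCharacter G) : G → ℂ) x = 1 := rfl
  rw [h6] at hsum
  have h7 : 1 * ((m + 1) * 1 - 1) + -1 / m = (2 : ℕ) * (m + 1) := by exact_mod_cast hsum
  have h8 : 0 < 1 / m := by positivity
  have h9 : -1 / m = -(1 / m) := by ring
  rw [h9] at h7
  push_cast at h7
  nlinarith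

end final

end Cfsg.Agent.Lib.ExtClosedChar
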