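import Mathlib
import Cfsg.Agent.Lib.DefOneLoc
import Cfsg.Agent.Lib.ExtClosedChar
import Cfsg.Agent.Lib.BlockPPrime
import Cfsg.Agent.Lib.CharBasic2

set_option autoImplicit false
set_option linter.all false

/-!
# Ordinary characters of the centralizer of a Sylow subgroup of prime order and its blocks
-/

namespace Cfsg.Agent.Lib.DefOneOrd

open Cfsg Cfsg.Agent.Lib.BlockRing Cfsg.Agent.Lib.BlockGA Cfsg.Agent.Lib.BlockIdem
open Cfsg.Agent.Lib.DefOneLoc Cfsg.Agent.Lib.CharBasic
open scoped ComplexConjugate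

universe u

variable {G : Type u} [Group G] [Fintype G] {p : ℕ} [hp : Fact p.Prime] {P N C : Subgroup G}
  (D : Loc p P N C)

instance neZero : NeZero p := ⟨hp.out.ne_zero⟩

/-- the linear characters of `C` trivial on the `p`-regular elements -/
noncomputable def lam (i : ZMod p) : C → ℂ := fun c => ZMod.stdAddChar (i * D.l c)

theorem l_one : D.l 1 = 0 := by
  have := D.l_mul 1 1
  rw [one_mul] at this
  exact left_eq_add.1 this

theorem lam_mul (i : ZMod p) (c d : C) : lam D i (c * d) = lam D i c * lam D i d := by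
  rw [lam, lam, lam, D.l_mul, mul_add, AddChar.map_add_eq_mul]

theorem lam_one (i : ZMod p) : lam D i 1 = 1 := by
  rw [lam, l_one, mul_zero, AddChar.map_zero_eq_one]

theorem lam_zero : lam D 0 = 1 := by
  funext c
  rw [lam, zero_mul, AddChar.map_zero_eq_one]; rfl

/-- as a homomorphism -/
noncomputable def lamHom (i : ZMod p) : C →* ℂ where
  toFun := lam D i
  map_one' := lam_one D i
  map_mul' := lam_mul D i

theorem isCharacter_lam (i : ZMod p) : IsCharacter C (lam D i) := isCharacter_of_hom (lamHom D i)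

theorem lam_of_reg (i : ZMod p) {c : C} (hc : D.l c = 0) : lam D i c = 1 := by
  rw [lam, hc, mul_zero, AddChar.map_zero_eq_one]

theorem conj_lam (i : ZMod p) (c : C) : conj (lam D i c) = lam D (-i) c := by
  have h1 : lam D (-i) c * lam D i c = 1 := by
    rw [lam, lam, ← AddChar.map_add_eq_mul, ← add_mul, neg_add_cancel, zero_mul, AddChar.map_zero_eq_one]
  have h2 : ‖lam D i c‖ = 1 := by
    have h3 : (lam D i c) ^ p = 1 := by
      rw [lam, ← AddChar.map_nsmul_eq_pow, nsmul_eq_mul, CharP.cast_eq_zero, zero_mul, AddChar.map_zero_eq_one]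
    exact Complex.norm_eq_one_of_pow_eq_one h3 hp.out.ne_zero
  have h4 : lam D i c * conj (lam D i c) = 1 := by
    rw [Complex.mul_conj, Complex.normSq_eq_norm_sq, h2]; norm_num
  have h5 : lam D i c ≠ 0 := fun h => by rw [h, norm_zero] at h2; exact zero_ne_one h2
  have h6 : lam D (-i) c = (lam D i c)⁻¹ := eq_inv_of_mul_eq_one_left h1
  rw [h6]
  exact (eq_inv_of_mul_eq_one_right h4)

theorem lam_pow (i : ZMod p) (c : C) : lam D i c ^ p ^ 1 = 1 := by
  rw [pow_one, lam, ← AddChar.map_nsmul_eq_pow, nsmul_eq_mul, CharP.cast_eq_zero, zero_mul, AddChar.map_zero_eq_one]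

theorem sum_lam (c : C) : ∑ i : ZMod p, lam D i c = if D.l c = 0 then (p : ℂ) else 0 := by
  have := AddChar.sum_mulShift (R := ZMod p) (R' := ℂ) (ψ := ZMod.stdAddChar) (D.l c) (ZMod.isPrimitive_stdAddChar p)
  rw [ZMod.card] at this
  exact_mod_cast this

/-- `P` in the kernel -/
def TrivOn (D : Loc p P N C) (θ : C → ℂ) : Prop := ∀ x : C, (x : G) ∈ P → θ x = θ 1

omit hp in
theorem theta_mul {θ : C → ℂ} (hθ : IsCharacter C θ) (ht : TrivOn D θ) {x : C} (hx : (x : G) ∈ P) (c : C) :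
    θ (x * c) = θ c := ExtClosedChar.char_ker_mul hθ (ht x hx) c

variable {M : Ideal AlgInt}

/-- `λ_i θ` as an irreducible character -/
noncomputable def LT (θ : IrrCharacter C) (i : ZMod p) : IrrCharacter C :=
  ⟨(θ : C → ℂ) * lam D i, θ.2.mul_linear (isCharacter_lam D i) (lam_one D i)⟩

theorem LT_apply (θ : IrrCharacter C) (i : ZMod p) (c : C) :
    (LT D θ i : C → ℂ) c = (θ : C → ℂ) c * lam D i c := rfl

theorem LT_zero (θ : IrrCharacter C) : LT D θ 0 = θ := by
  apply Subtype.ext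
  funext c
  rw [LT_apply, lam_zero]
  simp

/-- injectivity -/
theorem LT_inj {θ θ' : IrrCharacter C} (ht : TrivOn D (θ : C → ℂ)) (ht' : TrivOn D (θ' : C → ℂ)) {i j : ZMod p}
    (h : LT D θ i = LT D θ' j) : θ = θ' ∧ i = j := by
  have h1 : ∀ c, (θ : C → ℂ) c * lam D i c = (θ' : C → ℂ) c * lam D j c := fun c =>
    congrFun (congrArg Subtype.val h) c
  have h2 : ∀ c, D.l c = 0 → (θ : C → ℂ) c = (θ' : C → ℂ) c := by
    intro c hc
    have := h1 c
    rwa [lam_of_reg D i hc, lam_of_reg D j hc, mul_one, mul_one] at this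
  have h3 : θ = θ' := by
    apply Subtype.ext
    funext c
    obtain ⟨x, v, hxv, hv⟩ := D.fac c
    have h4 : c = ⟨x, D.PC x.2⟩ * v := Subtype.ext hxv
    rw [h4, theta_mul D θ.2.isCharacter ht (x := ⟨x, D.PC x.2⟩) x.2, theta_mul D θ'.2.isCharacter ht' (x := ⟨x, D.PC x.2⟩) x.2]
    exact h2 v hv
  refine ⟨h3, ?_⟩
  subst h3
  have h4 := h1 ⟨D.u, D.PC D.uP⟩
  have h5 : (θ : C → ℂ) ⟨D.u, D.PC D.uP⟩ ≠ 0 := by
    rw [ht _ D.uP]
    exact θ.2.one_ne_zero
  have h6 := mul_left_cancel₀ h5 h4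
  rw [lam, lam, D.l_u, mul_one, mul_one] at h6
  exact ZMod.injective_stdAddChar h6

/-- the set of the `λ_i θ` -/
def fam (θ : IrrCharacter C) : Set (IrrCharacter C) := Set.range (LT D θ)

variable [Fintype C]

theorem card_C_eq : (Nat.card C : ℂ) = p * ((Finset.univ.filter (fun c : C => D.l c = 0)).card : ℂ) := by
  classical
  have h1 : ∑ c : C, ∑ i : ZMod p, lam D i c = ∑ c : C, if D.l c = 0 then (p : ℂ) else 0 :=
    Finset.sum_congr rfl fun c _ => sum_lam D c
  rw [Finset.sum_comm] at h1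
  have h2 : ∀ i : ZMod p, ∑ c : C, lam D i c = if i = 0 then (Nat.card C : ℂ) else 0 := by
    intro i
    have h3 : ∑ c : C, lam D i c = (Nat.card C : ℂ) * classInner (lam D i) (lam D 0) := by
      rw [classInner_def, ← mul_assoc, mul_inv_cancel₀ (by exact_mod_cast Nat.card_pos.ne'), one_mul]
      refine Finset.sum_congr rfl fun c _ => ?_
      rw [lam_zero]; simp
    rw [h3]
    let triv : IrrCharacter C := ⟨lam D 0, (isCharacter_lam D 0).isIrr_of_one_eq_one (lam_one D 0)⟩
    let li : IrrCharacter C := ⟨lam D i, (isCharacter_lam D i).isIrr_of_one_eq_one (lam_one D i)⟩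
    have h4 := irr_orthonormal li triv
    change classInner (lam D i) (lam D 0) = _ at h4
    rw [h4]
    have h5 : li = triv ↔ i = 0 := by
      constructor
      · intro h
        have h6 : lam D i ⟨D.u, D.PC D.uP⟩ = lam D 0 ⟨D.u, D.PC D.uP⟩ := congrFun (congrArg Subtype.val h) _
        rw [lam, lam, D.l_u, mul_one, mul_one] at h6
        exact ZMod.injective_stdAddChar h6
      · rintro rfl; rfl
    by_cases hi : i = 0
    · rw [if_pos (h5.2 hi), if_pos hi, mul_one]
    · rw [if_neg (fun h => hi (h5.1 h)), if_neg hi, mul_zero]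
  rw [Finset.sum_congr rfl (fun i _ => h2 i)] at h1
  rw [Finset.sum_ite_eq' Finset.univ (0 : ZMod p)] at h1
  rw [if_pos (Finset.mem_univ _)] at h1
  rw [h1, ← Finset.sum_filter, Finset.sum_const, nsmul_eq_mul, mul_comm]


/-- the number of `p`-regular elements of `C` -/
noncomputable def vc (D : Loc p P N C) : ℕ := by
  classical
  exact (Finset.univ.filter (fun c : C => D.l c = 0)).card

theorem card_C : (Nat.card C : ℂ) = p * (vc D : ℂ) := card_C_eq D

theorem card_C_nat : Nat.card C = p * vc D := by exact_mod_cast card_C D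

theorem sum_fam (θ : IrrCharacter C) (ht : TrivOn D (θ : C → ℂ)) (f : IrrCharacter C → ℂ) :
    ∑ᶠ ψ ∈ fam D θ, f ψ = ∑ i : ZMod p, f (LT D θ i) := by
  rw [fam, finsum_mem_range (fun i j h => (LT_inj D ht ht h).2), finsum_eq_sum_of_fintype]

theorem blockCoeff_fam (θ : IrrCharacter C) (ht : TrivOn D (θ : C → ℂ)) (c : C) :
    blockCoeff (fam D θ) c = if D.l c = 0 then (θ : C → ℂ) 1 * conj ((θ : C → ℂ) c) / vc D else 0 := by
  classical
  have hC0 : (Nat.card C : ℂ) ≠ 0 := by exact_mod_cast Nat.card_pos.ne'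
  have hcard := card_C D
  have hp0 : (p : ℂ) ≠ 0 := by exact_mod_cast hp.out.ne_zero
  have hv0 : (vc D : ℂ) ≠ 0 := by
    intro h; rw [h, mul_zero] at hcard; exact hC0 hcard
  rw [blockCoeff, sum_fam D θ ht]
  have h1 : ∀ i : ZMod p, (LT D θ i : C → ℂ) 1 * conj ((LT D θ i : C → ℂ) c) =
      (θ : C → ℂ) 1 * conj ((θ : C → ℂ) c) * lam D (-i) c := by
    intro i
    rw [LT_apply, LT_apply, lam_one, map_mul, conj_lam]; ring
  rw [Finset.sum_congr rfl (fun i _ => h1 i), ← Finset.mul_sum]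
  have h2 : ∑ i : ZMod p, lam D (-i) c = ∑ i : ZMod p, lam D i c := Equiv.sum_comp (Equiv.neg (ZMod p)) (fun i => lam D i c)
  rw [h2, sum_lam, hcard]
  split_ifs with h
  · field_simp
  · ring

theorem not_dvd_vc (hpC : ¬ p ^ 2 ∣ Nat.card C) : ¬ p ∣ vc D := by
  intro h
  apply hpC
  rw [card_C_nat D, pow_two]
  exact mul_dvd_mul_left p h

theorem blockOf_eq_fam (hM : IsPModular p M) (hpC : ¬ p ^ 2 ∣ Nat.card C) (θ : IrrCharacter C)
    (ht : TrivOn D (θ : C → ℂ)) : blockOf M (θ : C → ℂ) = fam D θ := by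
  have := isPrime hM
  have hloc : LocA M (eB (fam D θ)) := by
    intro c
    rw [coeff_eB, blockCoeff_fam D θ ht]
    split_ifs
    · rw [div_eq_mul_inv]
      apply loc_mul (loc_mul (loc_irr θ 1) _) (loc_inv_natCast hM (not_dvd_vc D hpC))
      have h1 : conj ((θ : C → ℂ) c) = (θ : C → ℂ) c⁻¹ := by rw [θ.2.isCharacter.inv]
      rw [h1]; exact loc_irr θ _
    · exact loc_zero
  have hU := BlockPPrime.unionOfBlocks_of_locA hloc
  have hθ : θ ∈ fam D θ := ⟨0, LT_zero D θ⟩
  ext ψ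
  constructor
  · intro hψ
    exact hU θ hθ ψ hψ
  · rintro ⟨i, rfl⟩
    intro c
    have h1 : centralChar (θ : C → ℂ) c - centralChar (LT D θ i : C → ℂ) c =
        - (centralChar (θ : C → ℂ) c * (lam D i c - 1)) := by
      rw [centralChar, centralChar, LT_apply, LT_apply, lam_one]; ring
    rw [h1]
    exact idl_neg (idl_mul_left (loc_centralChar θ.2 c) (idl_sub_one_of_pow hM (lam_pow D i c)))

end Cfsg.Agent.Lib.DefOneOrd
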