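import Mathlib
import Cfsg.Agent.Lib.DefOneOrd
import Cfsg.Agent.Lib.BlockExtFM
import Cfsg.Agent.Lib.BlockDefZero

set_option autoImplicit false
set_option linter.all false

/-!
# Multiplicities in the restriction to the centralizer and their inner products
-/

namespace Cfsg.Agent.Lib.DefOneGram

open Cfsg Cfsg.Agent.Lib.BlockRing Cfsg.Agent.Lib.BlockGA Cfsg.Agent.Lib.BlockIdem
open Cfsg.Agent.Lib.BlockSecond
open Cfsg.Agent.Lib.DefOneLoc Cfsg.Agent.Lib.DefOneOrd Cfsg.Agent.Lib.CharBasic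
open scoped ComplexConjugate
open MonoidAlgebra (single)

universe u

variable {G : Type u} [Group G] [Fintype G] {p : ℕ} [hp : Fact p.Prime] {P N C : Subgroup G}
  (D : Loc p P N C) {M : Ideal AlgInt} [Fintype C]

/-- restriction to `C` -/
def rs (C : Subgroup G) (χ : G → ℂ) : C → ℂ := fun c => χ (c : G)

omit [Fintype G] hp [Fintype C] in
theorem isClassFunction_rs {χ : G → ℂ} (hχ : IsClassFunction G χ) : IsClassFunction C (rs C χ) :=
  fun c d => hχ c d

/-- multiplicity of `λ_i θ` in `χ` -/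
noncomputable def mu (χ : G → ℂ) (θ : IrrCharacter C) (i : ZMod p) : ℂ := classInner (rs C χ) (LT D θ i : C → ℂ)

/-- difference of multiplicities -/
noncomputable def dm (χ : G → ℂ) (θ : IrrCharacter C) (i : ZMod p) : ℂ := mu D χ θ i - mu D χ θ 0

theorem blockPart_fam (χ : G → ℂ) (θ : IrrCharacter C) (ht : TrivOn D (θ : C → ℂ)) (c : C) :
    blockPart (fam D θ) (rs C χ) c = ∑ i : ZMod p, mu D χ θ i * (LT D θ i : C → ℂ) c := by
  rw [blockPart]
  have h0 : (Fintype.ofFinite C) = ‹Fintype C› := Subsingleton.elim _ _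
  rw [h0, sum_fam D θ ht]
  rfl

theorem blockPart_rs {χ : G → ℂ} (hχ : IsClassFunction G χ) (b : Set (IrrCharacter C)) (c : C) :
    blockPart b (rs C χ) c = lin χ (single (c : G) 1 * incH C (eB b)) := by
  rw [blockPart_eq_lin (isClassFunction_rs hχ)]
  have h1 : lin (rs C χ) (eB b * single c 1) = lin χ (incH C (eB b * single c 1)) := (lin_incH χ _).symm
  rw [h1, map_mul, incH_single]
  rw [(commute_incH (eB_mem_center b) c.2).eq]

/-- second main theorem -/
theorem blockPart_eq_zero (hM : IsPModular p M) {b : Set (IrrCharacter C)} (hb : IsPBlock M b)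
    {B : Set (IrrCharacter G)} (hB : IsPBlock M B) (hind : ¬ IsInducedBlock M C b B) {χ : IrrCharacter G}
    (hχ : χ ∈ B) {c : C} (hc : D.l c ≠ 0) : blockPart b (rs C (χ : G → ℂ)) c = 0 := by
  rw [blockPart_rs χ.2.isClassFunction]
  obtain ⟨x, v, hxv, hv⟩ := D.fac c
  have hx1 : (x : G) ≠ 1 := by
    intro h
    apply hc
    rw [h, one_mul] at hxv
    rw [← hv]
    congr 1
    exact Subtype.ext hxv
  have hordx : orderOf (x : G) = p ^ 1 := by
    rw [pow_one]
    obtain ⟨i, hi⟩ := D.gen x x.2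
    have h2 : orderOf (x : G) ∣ p := by
      rw [hi]; exact (orderOf_pow_dvd i).trans (dvd_of_eq D.ordu)
    rcases (Nat.dvd_prime hp.out).1 h2 with h3 | h3
    · exact absurd (orderOf_eq_one_iff.1 h3) hx1
    · exact h3
  rw [hxv]
  exact second_main hM hordx ((D.l_reg v).1 hv) ((D.comm v x x.2 hx1).1 v.2) (fun g => D.comm g x x.2 hx1)
    hb hB hind hχ

theorem exists_of_l (x : ZMod p) : ∃ c : C, (c : G) ∈ P ∧ D.l c = x := by
  refine ⟨⟨D.u, D.PC D.uP⟩ ^ x.val, ?_, ?_⟩
  · change (D.u) ^ x.val ∈ P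
    exact P.pow_mem D.uP _
  · have h1 : ∀ n : ℕ, D.l (⟨D.u, D.PC D.uP⟩ ^ n) = n := by
      intro n
      induction n with
      | zero => rw [pow_zero, l_one, Nat.cast_zero]
      | succ n ih => rw [pow_succ, D.l_mul, ih, D.l_u]; push_cast; rfl
    rw [h1, ZMod.natCast_zmod_val]

/-- Fourier inversion. -/
theorem fourier (m : ZMod p → ℂ) (h : ∀ c : C, D.l c ≠ 0 → ∑ i : ZMod p, m i * lam D i c = 0) (j : ZMod p) :
    m j = m 0 := by
  have hp0 : (p : ℂ) ≠ 0 := by exact_mod_cast hp.out.ne_zero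
  have h1 : ∀ x : ZMod p, x ≠ 0 → ∑ i : ZMod p, m i * ZMod.stdAddChar (i * x) = 0 := by
    intro x hx
    obtain ⟨c, -, hc⟩ := exists_of_l D x
    have := h c (by rw [hc]; exact hx)
    simpa only [lam, hc] using this
  have h2 : ∀ j : ZMod p, (p : ℂ) * m j = ∑ i : ZMod p, m i := by
    intro j
    have h3 : ∑ x : ZMod p, (∑ i : ZMod p, m i * ZMod.stdAddChar (i * x)) * ZMod.stdAddChar (-(j * x)) =
        ∑ i : ZMod p, m i := by
      rw [Finset.sum_eq_single 0]
      · simp
      · intro x _ hx; rw [h1 x hx, zero_mul]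
      · intro h; exact absurd (Finset.mem_univ _) h
    rw [← h3]
    simp only [Finset.sum_mul]
    rw [Finset.sum_comm]
    have h4 : ∀ i : ZMod p, ∑ x : ZMod p, m i * ZMod.stdAddChar (i * x) * ZMod.stdAddChar (-(j * x)) =
        if i = j then (p : ℂ) * m i else 0 := by
      intro i
      have h5 : ∀ x : ZMod p, m i * ZMod.stdAddChar (i * x) * ZMod.stdAddChar (-(j * x)) =
          m i * ZMod.stdAddChar (x * (i - j)) := by
        intro x
        rw [mul_assoc, ← AddChar.map_add_eq_mul]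
        congr 2; ring
      rw [Finset.sum_congr rfl (fun x _ => h5 x), ← Finset.mul_sum,
        AddChar.sum_mulShift (i - j) (ZMod.isPrimitive_stdAddChar p), ZMod.card]
      by_cases hij : i = j
      · rw [if_pos (sub_eq_zero.2 hij), if_pos hij]; push_cast; ring
      · rw [if_neg (fun h => hij (sub_eq_zero.1 h)), if_neg hij]; simp
    rw [Finset.sum_congr rfl (fun i _ => h4 i), Finset.sum_ite_eq' Finset.univ j, if_pos (Finset.mem_univ _)]
  exact mul_left_cancel₀ hp0 ((h2 j).trans (h2 0).symm)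

/-- If the `fam θ`-part of `χ` vanishes on `p`-singular elements, the differences are zero, and conversely. -/
theorem dm_eq_zero_iff (χ : G → ℂ) (θ : IrrCharacter C) (ht : TrivOn D (θ : C → ℂ)) :
    (∀ i, dm D χ θ i = 0) ↔ ∀ c : C, D.l c ≠ 0 → blockPart (fam D θ) (rs C χ) c = 0 := by
  constructor
  · intro h c hc
    rw [blockPart_fam D χ θ ht]
    have h1 : ∀ i, mu D χ θ i = mu D χ θ 0 := fun i => sub_eq_zero.1 (h i)
    have h2 : ∀ i : ZMod p, mu D χ θ i * (LT D θ i : C → ℂ) c = mu D χ θ 0 * (θ : C → ℂ) c * lam D i c := by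
      intro i; rw [h1, LT_apply]; ring
    rw [Finset.sum_congr rfl (fun i _ => h2 i), ← Finset.mul_sum, sum_lam, if_neg hc, mul_zero]
  · intro h i
    rw [dm, sub_eq_zero]
    apply fourier D (fun i => mu D χ θ i)
    intro c hc
    -- evaluate at the `P`-part
    obtain ⟨x, hx, hxl⟩ := exists_of_l D (D.l c)
    have h1 := h x (by rw [hxl]; exact hc)
    rw [blockPart_fam D χ θ ht] at h1
    have h2 : ∀ i : ZMod p, mu D χ θ i * (LT D θ i : C → ℂ) x = (θ : C → ℂ) 1 * (mu D χ θ i * lam D i c) := by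
      intro i; rw [LT_apply, ht x hx, lam, lam, hxl]; ring
    rw [Finset.sum_congr rfl (fun i _ => h2 i), ← Finset.mul_sum] at h1
    exact (mul_eq_zero.1 h1).resolve_left θ.2.one_ne_zero

/-! ### conjugation by `N` -/

/-- conjugate of a function on `C` -/
def cjf (D : Loc p P N C) (n : N) (φ : C → ℂ) : C → ℂ := fun c => φ ⟨n * c * (n : G)⁻¹, D.conj_mem n n.2 c c.2⟩

/-- the automorphism of `C` induced by `n` -/
def cjE (D : Loc p P N C) (n : N) : C ≃* C where
  toFun c := ⟨n * c * (n : G)⁻¹, D.conj_mem n n.2 c c.2⟩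
  invFun c := ⟨(n : G)⁻¹ * c * n, by
    have := D.conj_mem (n : G)⁻¹ (N.inv_mem n.2) c c.2
    rwa [inv_inv] at this⟩
  left_inv c := Subtype.ext (by change (n : G)⁻¹ * (n * c * (n : G)⁻¹) * n = c; group)
  right_inv c := Subtype.ext (by change n * ((n : G)⁻¹ * c * n) * (n : G)⁻¹ = c; group)
  map_mul' c d := Subtype.ext (by change n * (c * d : G) * (n : G)⁻¹ = (n * c * (n : G)⁻¹) * (n * d * (n : G)⁻¹); group)

omit [Fintype G] hp [Fintype C] in
theorem cjf_eq (n : N) (φ : C → ℂ) : cjf D n φ = fun c => φ (cjE D n c) := rfl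

/-- conjugate character -/
def cjI (n : N) (θ : IrrCharacter C) : IrrCharacter C :=
  ⟨cjf D n (θ : C → ℂ), θ.2.comp_surjective (cjE D n).toMonoidHom (cjE D n).surjective⟩

omit [Fintype G] hp [Fintype C] in
theorem cjI_apply (n : N) (θ : IrrCharacter C) (c : C) : (cjI D n θ : C → ℂ) c = (θ : C → ℂ) (cjE D n c) := rfl

omit [Fintype G] [Fintype C] in
theorem l_cjE (n : N) (c : C) : D.l (cjE D n c) = D.κ n * D.l c := D.κ_conj n c _ rfl

theorem trivOn_cjI (n : N) {θ : IrrCharacter C} (ht : TrivOn D (θ : C → ℂ)) : TrivOn D (cjI D n θ : C → ℂ) := by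
  intro x hx
  rw [cjI_apply, cjI_apply, map_one]
  exact ht _ (D.norm n n.2 x hx)

theorem cjI_LT (n : N) (θ : IrrCharacter C) (i : ZMod p) :
    cjf D n (LT D θ i : C → ℂ) = (LT D (cjI D n θ) (i * D.κ n) : C → ℂ) := by
  funext c
  change (θ : C → ℂ) (cjE D n c) * ZMod.stdAddChar (i * D.l (cjE D n c)) =
    (θ : C → ℂ) (cjE D n c) * ZMod.stdAddChar (i * D.κ n * D.l c)
  rw [l_cjE, mul_assoc]

theorem classInner_cjf (n : N) (φ ψ : C → ℂ) : classInner (cjf D n φ) (cjf D n ψ) = classInner φ ψ := by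
  rw [classInner_def, classInner_def]
  congr 1
  exact Equiv.sum_comp (cjE D n).toEquiv (fun c => φ c * conj (ψ c))

theorem mu_cjI (n : N) {χ : G → ℂ} (hχ : IsClassFunction G χ) (θ : IrrCharacter C) (i : ZMod p) :
    mu D χ (cjI D n θ) (i * D.κ n) = mu D χ θ i := by
  have h1 : cjf D n (rs C χ) = rs C χ := by
    funext c
    exact hχ c n
  rw [mu, mu, ← cjI_LT]
  conv_lhs => rw [← h1]
  exact classInner_cjf D n _ _

theorem dm_cjI (n : N) {χ : G → ℂ} (hχ : IsClassFunction G χ) (θ : IrrCharacter C) (i : ZMod p) :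
    dm D χ (cjI D n θ) (i * D.κ n) = dm D χ θ i := by
  have h0 := mu_cjI D n hχ θ 0
  rw [zero_mul] at h0
  rw [dm, dm, mu_cjI D n hχ, h0]


/-! ### blocks of `G` -/

/-- characters outside of the block -/
theorem dm_of_not_mem (hM : IsPModular p M) (hpC : ¬ p ^ 2 ∣ Nat.card C) {θ : IrrCharacter C}
    (ht : TrivOn D (θ : C → ℂ)) {B : Set (IrrCharacter G)} (hind : IsInducedBlock M C (blockOf M (θ : C → ℂ)) B)
    {χ : IrrCharacter G} (hχ : χ ∉ B) (i : ZMod p) : dm D (χ : G → ℂ) θ i = 0 := by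
  have := isPrime hM
  refine (dm_eq_zero_iff D (χ : G → ℂ) θ ht).2 ?_ i
  intro c hc
  rw [← blockOf_eq_fam D hM hpC θ ht]
  apply blockPart_eq_zero D hM (isPBlock_blockOf θ) (isPBlock_blockOf χ) _ (mem_blockOf_self χ) hc
  intro h
  have h1 := BlockInd.induced_unique hind h
  exact hχ (h1 ▸ mem_blockOf_self χ)

/-- a character of the block with zero differences vanishes on the `p`-singular elements of `C` -/
theorem vanish_of_dm (hM : IsPModular p M) (hpC : ¬ p ^ 2 ∣ Nat.card C)
    (hC : C = P ⊔ Subgroup.centralizer (P : Set G)) (hN : N = Subgroup.normalizer (P : Set G))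
    {θ : IrrCharacter C}
    (ht : TrivOn D (θ : C → ℂ)) {B : Set (IrrCharacter G)} (hDG : IsDefectGroup p M B P)
    (hind : IsInducedBlock M C (blockOf M (θ : C → ℂ)) B)
    {χ : IrrCharacter G} (hχ : χ ∈ B) (hdm : ∀ i, dm D (χ : G → ℂ) θ i = 0) {c : C} (hc : D.l c ≠ 0) :
    (χ : G → ℂ) c = 0 := by
  classical
  have := isPrime hM
  have hB : IsPBlock M B := hind.2.1
  have hfin : Fintype {b : Set (IrrCharacter C) // IsPBlock M b} := Fintype.ofFinite _
  have hzero : ∀ b : Set (IrrCharacter C), IsPBlock M b → blockPart b (rs C (χ : G → ℂ)) c = 0 := by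
    intro b hb
    by_cases hbB : IsInducedBlock M C b B
    swap
    · exact blockPart_eq_zero D hM hb hB hbB hχ hc
    -- conjugate
    obtain ⟨n, θ', hθ', hθeq⟩ : ∃ n : N, ∃ θ' : IrrCharacter C, θ' ∈ b ∧ θ' = cjI D n θ := by
      subst hC
      obtain ⟨n, hn, h1⟩ := BlockExtFM.ext_first_unique hM hDG hind hbB
      obtain ⟨θ', hθ', h2⟩ := h1 θ (mem_blockOf_self θ)
      refine ⟨⟨n, by rw [hN]; exact hn⟩, θ', hθ', ?_⟩
      apply Subtype.ext
      funext x
      exact h2 x _
    subst hθeq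
    have h1 : b = fam D (cjI D n θ) := by
      rw [← blockOf_eq_fam D hM hpC _ (trivOn_cjI D n ht)]
      exact eq_blockOf hb hθ'
    rw [h1]
    refine (dm_eq_zero_iff D (χ : G → ℂ) (cjI D n θ) (trivOn_cjI D n ht)).1 ?_ c hc
    intro j
    have h2 := dm_cjI D n χ.2.isClassFunction θ (j * (D.κ n)⁻¹)
    rw [mul_assoc, inv_mul_cancel₀ (D.κ_ne n), mul_one, hdm] at h2
    exact h2
  have h1 : (χ : G → ℂ) c = lin (χ : G → ℂ) (single (c : G) 1 * incH C 1) := by
    rw [map_one, mul_one, lin_single, one_mul]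
  rw [h1, ← sum_eB_blocks (M := M), map_sum, Finset.mul_sum, lin_sum]
  apply Finset.sum_eq_zero
  intro b _
  rw [← blockPart_rs χ.2.isClassFunction]
  exact hzero b b.2

/-! ### the inner products -/

omit hp in
theorem column_card [DecidableEq G] (g h : G) : ∑ χ : IrrCharacter G, (χ : G → ℂ) g * conj ((χ : G → ℂ) h) =
    ∑ z : G, if z * g * z⁻¹ = h then (1 : ℂ) else 0 := by
  classical
  rw [column_orthogonality, Finset.sum_ite, Finset.sum_const_zero, add_zero, Finset.sum_const, nsmul_eq_mul, mul_one]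
  by_cases hc : IsConj g h
  · rw [if_pos hc]
    obtain ⟨z0, hz0⟩ := isConj_iff.1 hc
    have h1 : Nat.card (Subgroup.centralizer ({g} : Set G)) = (Finset.univ.filter (fun z : G => z * g * z⁻¹ = h)).card := by
      rw [← Fintype.card_coe, ← Nat.card_eq_fintype_card]
      refine Nat.card_congr
        { toFun := fun x => ⟨z0 * x, ?_⟩
          invFun := fun z => ⟨z0⁻¹ * z, ?_⟩
          left_inv := ?_
          right_inv := ?_ }
      · have h2 := Subgroup.mem_centralizer_singleton_iff.1 x.2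
        rw [Finset.mem_filter]
        refine ⟨Finset.mem_univ _, ?_⟩
        rw [← hz0]
        have h3 : (x : G) * g * (x : G)⁻¹ = g := by rw [h2]; group
        calc z0 * x * g * (z0 * x)⁻¹ = z0 * (x * g * (x : G)⁻¹) * z0⁻¹ := by group
          _ = z0 * g * z0⁻¹ := by rw [h3]
      · have h2 := (Finset.mem_filter.1 z.2).2
        rw [Subgroup.mem_centralizer_singleton_iff]
        have h3 : (z : G) * g = z0 * g * z0⁻¹ * z := mul_inv_eq_iff_eq_mul.1 (h2.trans hz0.symm)
        rw [mul_assoc, h3]; group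
      · intro x; exact Subtype.ext (by change z0⁻¹ * (z0 * x) = x; group)
      · intro z; exact Subtype.ext (by change z0 * (z0⁻¹ * z) = z; group)
    rw [h1]
  · rw [if_neg hc]
    have h1 : Finset.univ.filter (fun z : G => z * g * z⁻¹ = h) = ∅ := by
      rw [Finset.eq_empty_iff_forall_notMem]
      intro z hz
      exact hc (isConj_iff.2 ⟨z, (Finset.mem_filter.1 hz).2⟩)
    rw [h1]; simp

/-- inner products of restrictions with functions supported on the `p`-singular elements -/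
theorem isometry [Fintype N] (φ₁ φ₂ : C → ℂ) (h₁ : ∀ c, D.l c = 0 → φ₁ c = 0) :
    ∑ χ : IrrCharacter G, classInner (rs C (χ : G → ℂ)) φ₁ * conj (classInner (rs C (χ : G → ℂ)) φ₂) =
      (Nat.card C : ℂ)⁻¹ * ∑ n : N, classInner (cjf D n φ₂) φ₁ := by
  classical
  have hC0 : (Nat.card C : ℂ) ≠ 0 := by exact_mod_cast Nat.card_pos.ne'
  -- expand
  have h2 : ∀ χ : IrrCharacter G, classInner (rs C (χ : G → ℂ)) φ₁ * conj (classInner (rs C (χ : G → ℂ)) φ₂) =
      (Nat.card C : ℂ)⁻¹ * (Nat.card C : ℂ)⁻¹ * ∑ c : C, ∑ d : C, conj (φ₁ c) * φ₂ d *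
        ((χ : G → ℂ) c * conj ((χ : G → ℂ) d)) := by
    intro χ
    rw [classInner_def, classInner_def, map_mul, map_inv₀, Complex.conj_natCast, map_sum,
      mul_mul_mul_comm, Finset.sum_mul_sum]
    congr 1
    refine Finset.sum_congr rfl fun c _ => Finset.sum_congr rfl fun d _ => ?_
    rw [map_mul, Complex.conj_conj]
    simp only [rs]
    ring
  rw [Finset.sum_congr rfl (fun χ _ => h2 χ), ← Finset.mul_sum, Finset.sum_comm]
  have h3 : ∀ c : C, ∑ χ : IrrCharacter G, ∑ d : C, conj (φ₁ c) * φ₂ d * ((χ : G → ℂ) c * conj ((χ : G → ℂ) d)) =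
      ∑ n : N, conj (φ₁ c) * cjf D n φ₂ c := by
    intro c
    rw [Finset.sum_comm]
    have h4 : ∀ d : C, ∑ χ : IrrCharacter G, conj (φ₁ c) * φ₂ d * ((χ : G → ℂ) c * conj ((χ : G → ℂ) d)) =
        ∑ z : G, if z * c * z⁻¹ = (d : G) then conj (φ₁ c) * φ₂ d else 0 := by
      intro d
      rw [← Finset.mul_sum, column_card, Finset.mul_sum]
      refine Finset.sum_congr rfl fun z _ => ?_
      split_ifs <;> simp
    rw [Finset.sum_congr rfl (fun d _ => h4 d), Finset.sum_comm]
    have h5 : ∀ z : G, z ∉ N → ∑ d : C, (if z * c * z⁻¹ = (d : G) then conj (φ₁ c) * φ₂ d else 0) = 0 := by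
      intro z hz
      apply Finset.sum_eq_zero
      intro d _
      split_ifs with h6
      · by_cases hc : D.l c = 0
        · rw [h₁ c hc, map_zero, zero_mul]
        · exfalso
          apply hz
          have h7 : p ∣ orderOf (c : G) := by
            by_contra h8
            exact hc ((D.l_reg c).2 h8)
          exact D.ti z c c.2 h7 (by rw [h6]; exact d.2)
      · rfl
    have h6 : ∀ n : N, ∑ d : C, (if (n : G) * c * (n : G)⁻¹ = (d : G) then conj (φ₁ c) * φ₂ d else 0) =
        conj (φ₁ c) * cjf D n φ₂ c := by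
      intro n
      rw [Finset.sum_eq_single (cjE D n c)]
      · rw [if_pos (show (n : G) * c * (n : G)⁻¹ = ((cjE D n c : C) : G) from rfl)]; rfl
      · intro d _ hd
        rw [if_neg]
        intro h7
        apply hd
        exact Subtype.ext h7.symm
      · intro h; exact absurd (Finset.mem_univ _) h
    rw [← Finset.sum_congr rfl (fun n _ => h6 n)]
    rw [← Fintype.sum_subtype_add_sum_subtype (fun z => z ∈ N) (fun z : G =>
      ∑ d : C, (if z * c * z⁻¹ = (d : G) then conj (φ₁ c) * φ₂ d else 0)),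
      Finset.sum_eq_zero (s := (Finset.univ : Finset {z : G // z ∉ N})) (fun z _ => h5 z.1 z.2), add_zero]
    exact Finset.sum_congr (by ext; simp) fun _ _ => rfl
  rw [Finset.sum_congr rfl (fun c _ => h3 c), Finset.sum_comm, mul_assoc, Finset.mul_sum]
  congr 1
  refine Finset.sum_congr rfl fun n _ => ?_
  rw [classInner_def]
  congr 1
  exact Finset.sum_congr rfl fun c _ => mul_comm _ _


open scoped Classical in
/-- inner products of the columns of differences -/
theorem gram [Fintype N] {θ : IrrCharacter C} (ht : TrivOn D (θ : C → ℂ)) {i j : ZMod p} (hi : i ≠ 0) (hj : j ≠ 0) :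
    ∑ χ : IrrCharacter G, dm D (χ : G → ℂ) θ i * conj (dm D (χ : G → ℂ) θ j) =
      (Nat.card C : ℂ)⁻¹ * ∑ n : N, if cjI D n θ = θ then (1 + if j * D.κ n = i then 1 else 0 : ℂ) else 0 := by
  have h1 : ∀ (χ : G → ℂ) (k : ZMod p), dm D χ θ k = classInner (rs C χ) ((LT D θ k : C → ℂ) - (LT D θ 0 : C → ℂ)) := by
    intro χ k
    rw [dm, mu, mu, classInner_sub_right]
  simp only [h1]
  rw [isometry D]
  · congr 1
    refine Finset.sum_congr rfl fun n _ => ?_
    have h2 : cjf D n ((LT D θ j : C → ℂ) - (LT D θ 0 : C → ℂ)) =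
        (LT D (cjI D n θ) (j * D.κ n) : C → ℂ) - (LT D (cjI D n θ) 0 : C → ℂ) := by
      have h3 := cjI_LT D n θ j
      have h4 := cjI_LT D n θ 0
      rw [zero_mul] at h4
      rw [← h3, ← h4]; rfl
    rw [h2, classInner_sub_left, classInner_sub_right, classInner_sub_right, irr_orthonormal, irr_orthonormal,
      irr_orthonormal, irr_orthonormal]
    have hinj : ∀ a b : ZMod p, LT D (cjI D n θ) a = LT D θ b ↔ cjI D n θ = θ ∧ a = b := by
      intro a b
      constructor
      · exact LT_inj D (trivOn_cjI D n ht) ht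
      · rintro ⟨h, rfl⟩; rw [h]
    simp only [hinj]
    by_cases hθ : cjI D n θ = θ
    · have hjk : j * D.κ n ≠ 0 := mul_ne_zero hj (D.κ_ne n)
      simp only [hθ, true_and, if_true, hjk, if_false, Ne.symm hi]
      ring
    · simp [hθ]
  · intro c hc
    change (LT D θ i : C → ℂ) c - (LT D θ 0 : C → ℂ) c = 0
    rw [LT_apply, LT_apply, lam_of_reg D i hc, lam_of_reg D 0 hc, sub_self]

end Cfsg.Agent.Lib.DefOneGram
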