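import Mathlib
import Cfsg.Agent.Lib.BlockSecond2
import Cfsg.Agent.Lib.BlockOsima
import Cfsg.Agent.Lib.DefOneRes

set_option autoImplicit false
set_option linter.all false

/-!
# The rank of a block on `p`-regular elements is at least the number of simple modules
-/

namespace Cfsg.Agent.Lib.DefOneRank

open Cfsg Cfsg.Agent.Lib.BlockRing Cfsg.Agent.Lib.BlockGA
open Cfsg.Agent.Lib.BlockSecond
open Module Cfsg.Agent.Lib.ModRep Cfsg.Agent.Lib.DefOneMod Cfsg.Agent.Lib.DefOneTrace Cfsg.Agent.Lib.DefOneRes
open scoped ComplexConjugate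
open MonoidAlgebra (single)

universe u

variable {k : Type*} [Field k] {M : Ideal AlgInt} (π : AlgInt →+* k)
variable {G : Type u} [Group G] [Fintype G] {p : ℕ}

theorem opr_single [M.IsPrime] (hπ : ∀ a, π a = 0 ↔ a ∈ M) {V : Type*} [AddCommGroup V] [Module k V]
    (τ : G →* Module.End k V) (g : G) :
    opr M π τ (single g 1) = τ g := by
  classical
  rw [opr, Finset.sum_eq_single g]
  · have h1 : (single g 1 : GA G).coeff g = 1 := by simp
    rw [h1, res_one π hπ, one_smul]
  · intro h _ hg
    have h1 : (single g 1 : GA G).coeff h = 0 := by simp [hg.symm]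
    rw [h1, res_zero π hπ, zero_smul]
  · intro h; exact absurd (Finset.mem_univ _) h

theorem rank_bound (hM : IsPModular p M) (hπ : ∀ a, π a = 0 ↔ a ∈ M) (hsurj : Function.Surjective π)
    [IsAlgClosed k] [CharP k p] {B : Set (IrrCharacter G)} (hB : LocA M (eB B)) {ι : Type} [Fintype ι]
    {n : ι → ℕ} (ρ : ∀ i, G →* Module.End k (Fin (n i) → k)) (hρ : ∀ i, Irr (ρ i))
    (hne : ∀ i j, i ≠ j → ∀ f : (Fin (n i) → k) →ₗ[k] (Fin (n j) → k),
      (∀ g x, f (ρ i g x) = ρ j g (f x)) → f = 0)
    (hBρ : ∀ i, opr M π (ρ i) (eB B) = 1) {τ : Type*} [Fintype τ] (a : τ → (B → ℂ))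
    (ha : LinearIndependent ℂ a) [Fintype B]
    (har : ∀ i g, ¬ p ∣ orderOf g → ∑ χ : B, a i χ * ((χ : IrrCharacter G) : G → ℂ) g = 0) :
    Fintype.card ι + Fintype.card τ ≤ Nat.card B := by
  classical
  have := isPrime hM
  have hp : Fact p.Prime := ⟨hM.1⟩
  -- regular parts
  have hdec : ∀ g : G, ∃ u s : G, u * s = g ∧ Commute u s ∧ (∃ m, u ^ p ^ m = 1) ∧ ¬ p ∣ orderOf s := by
    intro g
    obtain ⟨u, s, h1, h2, h3, h4, -, -⟩ := BlockOsima.exists_p_decomp hM.1 (g := g) (orderOf_pos g).ne'
    exact ⟨u, s, h1, h2, ⟨_, by rw [← h3, pow_orderOf_eq_one]⟩, h4⟩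
  choose uu s hus hcomm huu hs using hdec
  have htr : ∀ i g, LinearMap.trace k _ (ρ i g) = LinearMap.trace k _ (ρ i (s g)) := by
    intro i g
    obtain ⟨m, hm⟩ := huu g
    conv_lhs => rw [← hus g]
    exact trace_mul_pElement (p := p) (ρ i) (hcomm g) hm
  -- lifts
  let lift : k → AlgInt := Function.surjInv hsurj
  have hlift : ∀ c, π (lift c) = c := Function.surjInv_eq hsurj
  let f : ι → G → ℂ := fun i g => ((lift (LinearMap.trace k _ (ρ i g)) : AlgInt) : ℂ)
  have hfloc : ∀ i g, MemLocalRing M (f i g) := fun i g => loc_algInt _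
  have hfres : ∀ i g, resFun M π (f i g) = LinearMap.trace k _ (ρ i g) := fun i g => by
    rw [res_coe π hπ, hlift]
  have hfclass : ∀ i, IsClassFunction G (f i) := by
    intro i g h
    have h1 : LinearMap.trace k _ (ρ i (h * g * h⁻¹)) = LinearMap.trace k _ (ρ i g) := by
      rw [map_mul, LinearMap.trace_mul_comm, ← map_mul]
      congr 2; group
    change ((lift (LinearMap.trace k _ (ρ i (h * g * h⁻¹))) : AlgInt) : ℂ) = _
    rw [h1]
  -- the block projections
  have hlin : ∀ i g, lin (f i) (eB B * single g 1) =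
      ∑ χ : B, classInner (f i) ((χ : IrrCharacter G) : G → ℂ) * ((χ : IrrCharacter G) : G → ℂ) g := by
    intro i g
    rw [← blockPart_eq_lin (hfclass i), blockPart]
    have h0 : (Fintype.ofFinite G) = ‹Fintype G› := Subsingleton.elim _ _
    rw [h0, finsum_mem_eq_finite_toFinset_sum _ (Set.toFinite _)]
    rw [← Finset.sum_subtype (Set.toFinite B).toFinset (p := fun χ => χ ∈ B) (by intro χ; simp)
      (fun χ : IrrCharacter G => classInner (f i) (χ : G → ℂ) * (χ : G → ℂ) g)]
  have hlocs : ∀ g, LocA M (eB B * single g 1 : GA G) := fun g =>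
    locA_mul hB (locA_single loc_one)
  have hloclin : ∀ i g, MemLocalRing M (lin (f i) (eB B * single g 1)) := fun i g =>
    lin_loc (hfloc i) (hlocs g)
  have hres : ∀ i g, resFun M π (lin (f i) (eB B * single g 1)) = LinearMap.trace k _ (ρ i g) := by
    intro i g
    rw [lin_apply, res_sum π hπ (fun x _ => loc_mul (hlocs g x) (hfloc i x))]
    have h1 : opr M π (ρ i) (eB B * single g 1) = ρ i g := by
      rw [opr_mul π hπ _ hB (locA_single loc_one), hBρ, opr_single π hπ, one_mul]
    rw [← h1, opr, map_sum]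
    refine Finset.sum_congr rfl fun x _ => ?_
    rw [res_mul π hπ (hlocs g x) (hfloc i x), hfres, map_smul, smul_eq_mul]
  -- dual elements
  have hdual : ∀ i0 : ι, ∃ r : G → AlgInt, ∀ i, ∑ g : G, π (r g) * LinearMap.trace k _ (ρ i g) = if i = i0 then 1 else 0 := by
    intro i0
    obtain ⟨r, hr⟩ := exists_dual ρ hρ hne i0
    refine ⟨fun g => lift (r.coeff g), fun i => ?_⟩
    rw [← hr i, Finsupp.sum_fintype _ _ (fun g => by simp)]
    refine Finset.sum_congr rfl fun g _ => ?_
    rw [hlift]
  choose r hr using hdual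
  let Φ : (B → ℂ) →ₗ[ℂ] (G → ℂ) :=
    { toFun := fun c g => ∑ χ : B, c χ * ((χ : IrrCharacter G) : G → ℂ) (s g)
      map_add' := fun c d => by
        funext g
        rw [Pi.add_apply, ← Finset.sum_add_distrib]
        exact Finset.sum_congr rfl fun χ _ => by rw [Pi.add_apply, add_mul]
      map_smul' := fun c d => by
        funext g
        rw [Pi.smul_apply, RingHom.id_apply, smul_eq_mul, Finset.mul_sum]
        exact Finset.sum_congr rfl fun χ _ => by rw [Pi.smul_apply, smul_eq_mul, mul_assoc] }
  have hΦ : ∀ c g, Φ c g = ∑ χ : B, c χ * ((χ : IrrCharacter G) : G → ℂ) (s g) := fun c g => rfl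
  let F : ι → (B → ℂ) := fun i χ => classInner (f i) ((χ : IrrCharacter G) : G → ℂ)
  have hΦF : ∀ i g, Φ (F i) g = lin (f i) (eB B * single (s g) 1) := by
    intro i g
    rw [hlin]
    rfl
  have hindep : LinearIndependent ℂ (fun i => Φ (F i)) := by
    rw [Fintype.linearIndependent_iff]
    intro c hc
    let A : Matrix ι ι (locRing M) := fun i j => ⟨∑ g : G, (r i g : ℂ) * lin (f j) (eB B * single (s g) 1),
      loc_sum fun g _ => loc_mul (loc_algInt _) (hloclin j (s g))⟩
    have hA1 : ∀ i j, resHom π hπ (A i j) = if j = i then 1 else 0 := by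
      intro i j
      rw [resHom_apply]
      change resFun M π (∑ g : G, (r i g : ℂ) * lin (f j) (eB B * single (s g) 1)) = _
      rw [res_sum π hπ (fun g _ => loc_mul (loc_algInt _) (hloclin j (s g))), ← hr i j]
      refine Finset.sum_congr rfl fun g _ => ?_
      rw [res_mul π hπ (loc_algInt _) (hloclin j (s g)), res_coe π hπ, hres, ← htr]
    have hA2 : A.map (resHom π hπ) = 1 := by
      ext i j
      rw [Matrix.map_apply, hA1, Matrix.one_apply]
      by_cases h : i = j
      · rw [if_pos h, if_pos h.symm]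
      · rw [if_neg h, if_neg (Ne.symm h)]
    have hdet : A.det ≠ 0 := by
      intro h
      have h1 := RingHom.map_det (resHom π hπ) A
      rw [h, map_zero, RingHom.mapMatrix_apply, hA2, Matrix.det_one] at h1
      exact zero_ne_one h1
    have hdet' : (A.map (locRing M).subtype).det ≠ 0 := by
      rw [← RingHom.mapMatrix_apply, ← RingHom.map_det]
      intro h
      exact hdet (Subtype.ext h)
    have hAc : (A.map (locRing M).subtype).mulVec c = 0 := by
      funext i
      rw [Matrix.mulVec, dotProduct]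
      have h1 : ∀ g, ∑ j, c j * lin (f j) (eB B * single (s g) 1) = 0 := by
        intro g
        have h2 := congrFun hc g
        rw [Finset.sum_apply] at h2
        rw [Pi.zero_apply] at h2
        rw [← h2]
        refine Finset.sum_congr rfl fun j _ => ?_
        rw [Pi.smul_apply, hΦF, smul_eq_mul]
      have h2 : ∀ j, (A.map (locRing M).subtype) i j * c j =
          ∑ g : G, (r i g : ℂ) * (c j * lin (f j) (eB B * single (s g) 1)) := by
        intro j
        change (∑ g : G, (r i g : ℂ) * lin (f j) (eB B * single (s g) 1)) * c j = _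
        rw [Finset.sum_mul]
        exact Finset.sum_congr rfl fun g _ => by ring
      rw [Finset.sum_congr rfl (fun j _ => h2 j), Finset.sum_comm]
      apply Finset.sum_eq_zero
      intro g _
      rw [← Finset.mul_sum, h1, mul_zero]
    have h3 := Matrix.eq_zero_of_mulVec_eq_zero hdet' hAc
    intro i
    rw [h3]; rfl
  have hker : ∀ i, Φ (a i) = 0 := by
    intro i
    funext g
    rw [hΦ]
    exact har i (s g) (hs g)
  have h1 : Fintype.card ι ≤ finrank ℂ (LinearMap.range Φ) := by
    let F' : ι → LinearMap.range Φ := fun i => ⟨Φ (F i), ⟨F i, rfl⟩⟩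
    have h2 : LinearIndependent ℂ F' := LinearIndependent.of_comp (LinearMap.range Φ).subtype hindep
    exact h2.fintype_card_le_finrank
  have h2 : Fintype.card τ ≤ finrank ℂ (LinearMap.ker Φ) := by
    let a' : τ → LinearMap.ker Φ := fun i => ⟨a i, hker i⟩
    have h3 : LinearIndependent ℂ a' := LinearIndependent.of_comp (LinearMap.ker Φ).subtype ha
    exact h3.fintype_card_le_finrank
  have h3 := LinearMap.finrank_range_add_finrank_ker Φ
  rw [Module.finrank_fintype_fun_eq_card] at h3
  rw [Nat.card_eq_fintype_card]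
  omega

end Cfsg.Agent.Lib.DefOneRank
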