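import Mathlib
import Cfsg.Agent.Lib.DefOneGram
import Cfsg.Agent.Lib.DefOneRank

set_option autoImplicit false
set_option linter.all false

/-!
# Simple modules in a block of defect one
-/

namespace Cfsg.Agent.Lib.DefOneBlk

open Cfsg Cfsg.Agent.Lib.BlockRing Cfsg.Agent.Lib.BlockGA Cfsg.Agent.Lib.BlockIdem
open Cfsg.Agent.Lib.BlockSecond Cfsg.Agent.Lib.BlockNormP
open Cfsg.Agent.Lib.DefOneLoc Cfsg.Agent.Lib.DefOneOrd Cfsg.Agent.Lib.CharBasic Cfsg.Agent.Lib.DefOneGram
open Module Cfsg.Agent.Lib.ModRep Cfsg.Agent.Lib.DefOneMod Cfsg.Agent.Lib.DefOneTrace Cfsg.Agent.Lib.DefOneRes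
open scoped ComplexConjugate
open MonoidAlgebra (single)

universe u

section inflate

variable {k : Type*} [Field k] {M : Ideal AlgInt} (π : AlgInt →+* k)
variable {G : Type u} [Group G] [Fintype G] {p : ℕ}

theorem opr_inflate [M.IsPrime] (hπ : ∀ a, π a = 0 ↔ a ∈ M) (R : Subgroup G) [R.Normal] [Fintype (G ⧸ R)]
    {V : Type*} [AddCommGroup V] [Module k V] (σ : G ⧸ R →* Module.End k V) {z : GA G} (hz : LocA M z) :
    opr M π (σ.comp (QuotientGroup.mk' R)) z = opr M π σ (projQ R z) := by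
  classical
  rw [opr, opr]
  have h1 : ∀ y : G ⧸ R, resFun M π ((projQ R z).coeff y) • σ y =
      ∑ x : G, if (x : G ⧸ R) = y then resFun M π (z.coeff x) • σ (x : G ⧸ R) else 0 := by
    intro y
    rw [coeff_projQ, res_sum π hπ, Finset.sum_smul]
    · refine Finset.sum_congr rfl fun x _ => ?_
      split_ifs with h
      · rw [h]
      · rw [res_zero π hπ, zero_smul]
    · intro x _
      split_ifs
      · exact hz x
      · exact loc_zero
  rw [Finset.sum_congr rfl (fun y _ => h1 y), Finset.sum_comm]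
  refine Finset.sum_congr rfl fun x _ => ?_
  rw [Finset.sum_ite_eq Finset.univ (x : G ⧸ R), if_pos (Finset.mem_univ _)]
  rfl

theorem irr_inflate {G' Q' : Type*} [Group G'] [Group Q'] {V : Type*} [AddCommGroup V] [Module k V]
    (f : G' →* Q') (hf : Function.Surjective f) {σ : Q' →* Module.End k V} (h : Irr σ) : Irr (σ.comp f) := by
  refine ⟨h.nt, fun W hW => h.irr W ?_⟩
  intro q w hw
  obtain ⟨g, rfl⟩ := hf q
  exact hW g w hw

end inflate

variable {k : Type} [Field k] {M : Ideal AlgInt} (π : AlgInt →+* k)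
variable {G : Type u} [Group G] [Fintype G] {p : ℕ} [hp : Fact p.Prime] {P N C : Subgroup G}
  (D : Loc p P N C) [Fintype C]

/-- restriction of `Ψ` to `C` -/
def rN (D : Loc p P N C) (Ψ : N → ℂ) : C → ℂ := fun c => Ψ ⟨c, D.CN c.2⟩

/-- the part of `z` supported on `C`, in the group algebra of `N` -/
noncomputable def zN (z : GA G) (N C : Subgroup G) : GA N := by
  classical
  exact ofFun fun n => if (n : G) ∈ C then z.coeff n else 0

omit hp [Fintype C] in
theorem coeff_zN [DecidablePred (· ∈ C)] (z : GA G) (n : N) : (zN z N C).coeff n = if (n : G) ∈ C then z.coeff n else 0 := by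
  rw [zN, coeff_ofFun]
  congr

omit hp in
theorem zN_center (D : Loc p P N C) {z : GA G} (hz : z ∈ Subalgebra.center ℂ (GA G)) :
    zN z N C ∈ Subalgebra.center ℂ (GA N) := by
  classical
  rw [mem_center_iff] at hz ⊢
  intro n h
  change (zN z N C).coeff (h * n * h⁻¹) = (zN z N C).coeff n
  rw [coeff_zN, coeff_zN]
  have h1 : ((h * n * h⁻¹ : N) : G) ∈ C ↔ (n : G) ∈ C := by
    constructor
    · intro h2
      have h3 := D.conj_mem (h : G)⁻¹ (N.inv_mem h.2) _ h2
      have h4 : (h : G)⁻¹ * ((h * n * h⁻¹ : N) : G) * (h : G)⁻¹⁻¹ = n := by push_cast; group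
      rwa [h4] at h3
    · intro h2
      exact D.conj_mem h h.2 n h2
  by_cases h2 : (n : G) ∈ C
  · rw [if_pos h2, if_pos (h1.2 h2)]
    exact hz n h
  · rw [if_neg h2, if_neg (fun h => h2 (h1.1 h))]

omit [Fintype C] hp in
theorem zN_loc [M.IsPrime] {z : GA G} (hz : LocA M z) : LocA M (zN z N C) := by
  classical
  intro n
  rw [coeff_zN]
  split_ifs
  · exact hz n
  · exact loc_zero


omit [Fintype G] hp in
theorem sum_NC [Fintype N] [DecidablePred (· ∈ C)] {V : Type*} [AddCommMonoid V] (f : N → V) :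
    ∑ n : N, (if (n : G) ∈ C then f n else 0) = ∑ c : C, f ⟨c, D.CN c.2⟩ := by
  classical
  rw [← Finset.sum_filter]
  symm
  refine Finset.sum_bij (fun c _ => (⟨c, D.CN c.2⟩ : N)) ?_ ?_ ?_ ?_
  · intro c _
    rw [Finset.mem_filter]
    exact ⟨Finset.mem_univ _, c.2⟩
  · intro c _ d _ h
    exact Subtype.ext (congrArg (fun n : N => (n : G)) h)
  · intro n hn
    exact ⟨⟨n, (Finset.mem_filter.1 hn).2⟩, Finset.mem_univ _, rfl⟩
  · intro c _; rfl

/-- central characters of `Ψ` over `θ` -/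
theorem omega_zN [Fintype N] {Ψ : IrrCharacter N} {θ : IrrCharacter C} (hΨ : classInner (rN D (Ψ : N → ℂ)) (θ : C → ℂ) ≠ 0)
    {z : GA G} (hz : z ∈ Subalgebra.center ℂ (GA G)) :
    omega (Ψ : N → ℂ) (zN z N C) = omega (θ : C → ℂ) (resH C z) := by
  classical
  have hC0 : (Nat.card C : ℂ) ≠ 0 := by exact_mod_cast Nat.card_pos.ne'
  -- values of `Ψ` on `w * c`
  have h1 : ∀ c : C, lin (Ψ : N → ℂ) (zN z N C * single (⟨c, D.CN c.2⟩ : N) 1) =
      omega (Ψ : N → ℂ) (zN z N C) * rN D (Ψ : N → ℂ) c := by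
    intro c
    rw [lin_mul_single Ψ.2 (zN_center D hz)]
    rfl
  have h2 : ∀ c : C, lin (Ψ : N → ℂ) (zN z N C * single (⟨c, D.CN c.2⟩ : N) 1) =
      lin (rN D (Ψ : N → ℂ)) (resH C z * single c 1) := by
    intro c
    rw [lin_mul_single_sum, lin_mul_single_sum]
    have h3 : ∀ n : N, (zN z N C).coeff n * (Ψ : N → ℂ) (n * ⟨c, D.CN c.2⟩) =
        if (n : G) ∈ C then z.coeff n * (Ψ : N → ℂ) (n * ⟨c, D.CN c.2⟩) else 0 := by
      intro n
      rw [coeff_zN]
      split_ifs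
      · rfl
      · rw [zero_mul]
    rw [Finset.sum_congr rfl (fun n _ => h3 n), sum_NC D]
    exact Finset.sum_congr rfl fun d _ => rfl
  have hcl : IsClassFunction C (rN D (Ψ : N → ℂ)) := by
    intro c d
    exact Ψ.2.isClassFunction ⟨c, D.CN c.2⟩ ⟨d, D.CN d.2⟩
  have h4 : ∀ c : C, lin (rN D (Ψ : N → ℂ)) (resH C z * single c 1) =
      ∑ ψ : IrrCharacter C, (classInner (rN D (Ψ : N → ℂ)) (ψ : C → ℂ) * omega (ψ : C → ℂ) (resH C z)) * (ψ : C → ℂ) c := by
    intro c
    have h5 := hcl.expansion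
    conv_lhs => rw [h5]
    rw [lin_sum_left]
    refine Finset.sum_congr rfl fun ψ _ => ?_
    rw [lin_smul_left, lin_mul_single ψ.2 (resH_mem_center hz), mul_assoc]
  have h6 : (fun c : C => omega (Ψ : N → ℂ) (zN z N C) * rN D (Ψ : N → ℂ) c) =
      ∑ ψ : IrrCharacter C, (classInner (rN D (Ψ : N → ℂ)) (ψ : C → ℂ) * omega (ψ : C → ℂ) (resH C z)) • (ψ : C → ℂ) := by
    funext c
    rw [← h1, h2, h4, Finset.sum_apply]
    rfl
  have h7 := congrArg (fun f => classInner f (θ : C → ℂ)) h6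
  beta_reduce at h7
  have h8 : (fun c : C => omega (Ψ : N → ℂ) (zN z N C) * rN D (Ψ : N → ℂ) c) =
      omega (Ψ : N → ℂ) (zN z N C) • rN D (Ψ : N → ℂ) := rfl
  rw [h8, classInner_smul_left] at h7
  have h9 : classInner (∑ ψ : IrrCharacter C, (classInner (rN D (Ψ : N → ℂ)) (ψ : C → ℂ) * omega (ψ : C → ℂ) (resH C z)) • (ψ : C → ℂ))
      (θ : C → ℂ) = classInner (rN D (Ψ : N → ℂ)) (θ : C → ℂ) * omega (θ : C → ℂ) (resH C z) := by
    rw [classInner_sum_left, Finset.sum_eq_single θ]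
    · rw [classInner_smul_left, irr_orthonormal, if_pos rfl, mul_one]
    · intro ψ _ hψ
      rw [classInner_smul_left, irr_orthonormal, if_neg hψ, mul_zero]
    · intro h; exact absurd (Finset.mem_univ _) h
  rw [h9, mul_comm] at h7
  exact mul_left_cancel₀ hΨ h7

/-- A simple module in the block attached to `Ψ`. -/
theorem exists_module [IsAlgClosed k] [CharP k p] (hM : IsPModular p M) (hπ : ∀ a, π a = 0 ↔ a ∈ M) [Fintype N]
    {K : Subgroup G} (hD : Data p P N K D.u) (hpK : ¬ p ∣ Nat.card K) (R : Subgroup N) [R.Normal]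
    (hR : ∀ n : N, n ∈ R ↔ (n : G) ∈ P) (hRidx : ¬ p ∣ Nat.card (N ⧸ R))
    {θ : IrrCharacter C} {B : Set (IrrCharacter G)} (hind : IsInducedBlock M C (blockOf M (θ : C → ℂ)) B)
    (Ψ : IrrCharacter (N ⧸ R)) [Fintype (N ⧸ R)]
    (hΨ : classInner (rN D (fun n : N => (Ψ : N ⧸ R → ℂ) (n : N ⧸ R))) (θ : C → ℂ) ≠ 0) :
    ∃ (n m : ℕ) (ρ : G →* Module.End k (Fin n → k)) (σ : N ⧸ R →* Module.End k (Fin m → k)),
      Irr ρ ∧ Irr (σ.comp (QuotientGroup.mk' R)) ∧ TrivP P (σ.comp (QuotientGroup.mk' R)) ∧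
      HasQ p D.u ρ (σ.comp (QuotientGroup.mk' R)) ∧
      (∀ z : GA (N ⧸ R), z ∈ Subalgebra.center ℂ (GA (N ⧸ R)) → LocA M z →
        opr M π σ z = resFun M π (omega (Ψ : N ⧸ R → ℂ) z) • 1) ∧
      opr M π ρ (eB B) = 1 := by
  classical
  have := isPrime hM
  obtain ⟨m, σ, hσ, hσz⟩ := exists_simple_of_irr π hM hπ hRidx Ψ
  have hσ' : Irr (σ.comp (QuotientGroup.mk' R)) := irr_inflate _ (QuotientGroup.mk'_surjective R) hσ
  have htriv : TrivP P (σ.comp (QuotientGroup.mk' R)) := by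
    intro n hn
    have h1 : (QuotientGroup.mk' R) n = 1 := by
      rw [QuotientGroup.mk'_apply, QuotientGroup.eq_one_iff]
      exact (hR n).2 hn
    rw [MonoidHom.comp_apply, h1, map_one]
  obtain ⟨n, ρ, hρ, hQ⟩ := exists_simple hD hpK (σ.comp (QuotientGroup.mk' R)) hσ' htriv
  refine ⟨n, m, ρ, σ, hρ, hσ', htriv, hQ, hσz, ?_⟩
  have hB : IsPBlock M B := hind.2.1
  have hBc := eB_mem_center B
  have hBl : LocA M (eB B) := locA_eB hB
  -- scalar
  obtain ⟨c, hc⟩ := schur hρ (opr M π ρ (eB B)) (fun g => (opr_central π ρ hBc g).symm)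
  have hcen := central hD ρ (σ.comp (QuotientGroup.mk' R)) hσ' htriv hQ (fun g => resFun M π ((eB B).coeff g))
    (by
      intro g h
      beta_reduce
      congr 1
      exact center_conj hBc (isConj_iff.2 ⟨h⁻¹, by group⟩))
    (c := c) (by
      intro v
      rw [← opr_apply, hc]
      rfl) C (by
      intro g
      constructor
      · intro hg x hx
        by_cases hx1 : x = 1
        · rw [hx1, one_mul, mul_one]
        · exact ((D.comm g x hx hx1).1 hg).eq
      · intro hg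
        have hu1 : D.u ≠ 1 := by
          intro h
          have h1 := D.ordu
          rw [h, orderOf_one] at h1
          exact hp.out.one_lt.ne h1
        exact (D.comm g D.u D.uP hu1).2 (hg _ D.uP)) D.CN
  -- compare
  have h1 : ∀ x, opr M π (σ.comp (QuotientGroup.mk' R)) (zN (eB B) N C) x = c • x := by
    intro x
    rw [← hcen x, opr_apply]
    have h2 : ∀ n : N, resFun M π ((zN (eB B) N C).coeff n) • (σ.comp (QuotientGroup.mk' R)) n x =
        if (n : G) ∈ C then resFun M π ((eB B).coeff n) • (σ.comp (QuotientGroup.mk' R)) n x else 0 := by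
      intro n
      rw [coeff_zN]
      split_ifs
      · rfl
      · rw [res_zero π hπ, zero_smul]
    rw [Finset.sum_congr rfl (fun n _ => h2 n), sum_NC D]
  have hz1 := zN_center D (z := eB B) hBc
  have hz2 : LocA M (zN (eB B) N C) := zN_loc hBl
  rw [opr_inflate π hπ R σ hz2, hσz _ (projQ_mem_center R hz1) (locA_projQ R hz2)] at h1
  rw [omega_projQ] at h1
  let Ψ' : IrrCharacter N := ⟨fun n : N => (Ψ : N ⧸ R → ℂ) (n : N ⧸ R), Ψ.2.inflate R⟩
  have h3 : omega (fun n : N => (Ψ : N ⧸ R → ℂ) (n : N ⧸ R)) (zN (eB B) N C) = omega (θ : C → ℂ) (resH C (eB B)) :=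
    omega_zN D (Ψ := Ψ') hΨ hBc
  obtain ⟨χ, hχ⟩ := isPBlock_nonempty hB
  have h4 := inducedBlock_omega hind (mem_blockOf_self θ) hχ hBc hBl
  rw [omega_eB_mem hχ] at h4
  have h5 : resFun M π (omega (θ : C → ℂ) (resH C (eB B))) = 1 := by
    rw [← res_one π hπ (M := M)]
    exact res_congr π hπ (loc_omega θ.2 (resH_mem_center hBc) (locA_resH hBl)) loc_one h4
  have hnt := hσ.nt
  obtain ⟨x, hx⟩ := exists_ne (0 : Fin m → k)
  have h6 := h1 x
  rw [h3, h5, LinearMap.smul_apply, Module.End.one_apply, one_smul] at h6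
  have h7 : c = 1 := by
    have h8 : (c - 1) • x = 0 := by rw [sub_smul, one_smul, ← h6, sub_self]
    rcases smul_eq_zero.1 h8 with h9 | h9
    · exact sub_eq_zero.1 h9
    · exact absurd h9 hx
  rw [hc, h7, one_smul]

end Cfsg.Agent.Lib.DefOneBlk
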