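import Mathlib

set_option autoImplicit false
set_option linter.all false

/-!
# The combinatorial part of the theory of blocks of defect one
-/

namespace Cfsg.Agent.Lib.DefOneComb

/-- A non-constant integer vector has large variance. -/
theorem variance {τ : Type*} [Fintype τ] (x : τ → ℤ) {i0 j0 : τ} (h : x i0 ≠ x j0) :
    2 * ((Fintype.card τ : ℤ) - 1) ≤ ∑ i, ∑ j, (x i - x j) ^ 2 := by
  classical
  have hne : i0 ≠ j0 := fun h' => h (by rw [h'])
  have hd : 1 ≤ (x i0 - x j0) ^ 2 := by
    have : x i0 - x j0 ≠ 0 := sub_ne_zero.2 h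
    have := sq_pos_of_ne_zero this
    omega
  have hk : ∀ i, 1 ≤ (x i - x i0) ^ 2 + (x i - x j0) ^ 2 := by
    intro i
    by_cases h1 : x i = x i0
    · have h2 : (x i - x j0) ^ 2 = (x i0 - x j0) ^ 2 := by rw [h1]
      rw [h2]
      have := sq_nonneg (x i - x i0)
      omega
    · have h2 : x i - x i0 ≠ 0 := sub_ne_zero.2 h1
      have h3 := sq_pos_of_ne_zero h2
      have := sq_nonneg (x i - x j0)
      omega
  -- split the outer sum
  have hrow : ∀ i, (x i - x i0) ^ 2 + (x i - x j0) ^ 2 ≤ ∑ j, (x i - x j) ^ 2 := by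
    intro i
    have h1 : ∑ j ∈ ({i0, j0} : Finset τ), (x i - x j) ^ 2 ≤ ∑ j, (x i - x j) ^ 2 :=
      Finset.sum_le_sum_of_subset_of_nonneg (Finset.subset_univ _) (fun j _ _ => sq_nonneg _)
    rwa [Finset.sum_pair hne] at h1
  let S : Finset τ := Finset.univ \ {i0, j0}
  have hS : ∑ i, ∑ j, (x i - x j) ^ 2 = ∑ i ∈ S, ∑ j, (x i - x j) ^ 2 +
      (∑ j, (x i0 - x j) ^ 2 + ∑ j, (x j0 - x j) ^ 2) := by
    rw [← Finset.sum_sdiff (Finset.subset_univ ({i0, j0} : Finset τ)), Finset.sum_pair hne]
  have hcardS : (S.card : ℤ) = Fintype.card τ - 2 := by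
    have h1 : S.card = Fintype.card τ - 2 := by
      rw [Finset.card_sdiff_of_subset (Finset.subset_univ _), Finset.card_univ, Finset.card_pair hne]
    have h2 : 2 ≤ Fintype.card τ := by
      rw [← Finset.card_pair hne]
      exact Finset.card_le_univ _
    rw [h1]
    omega
  have h1 : (S.card : ℤ) ≤ ∑ i ∈ S, ∑ j, (x i - x j) ^ 2 := by
    have := Finset.card_nsmul_le_sum S (fun i => ∑ j, (x i - x j) ^ 2) 1 (fun i _ => (hk i).trans (hrow i))
    simpa using this
  have h2 : (Fintype.card τ : ℤ) ≤ ∑ j, (x i0 - x j) ^ 2 + ∑ j, (x j0 - x j) ^ 2 := by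
    rw [← Finset.sum_add_distrib]
    have h3 : ∀ j ∈ (Finset.univ : Finset τ), 1 ≤ (x i0 - x j) ^ 2 + (x j0 - x j) ^ 2 := by
      intro j _
      have h4 := hk j
      have h5 : (x i0 - x j) ^ 2 = (x j - x i0) ^ 2 := by ring
      have h6 : (x j0 - x j) ^ 2 = (x j - x j0) ^ 2 := by ring
      omega
    have := Finset.card_nsmul_le_sum Finset.univ _ 1 h3
    simpa using this
  rw [hS]
  omega

/-- The structure of the matrix of a block of defect one.  `e ≥ 1`, `τ` has `t` elements. -/
theorem main {B τ : Type*} [Fintype B] [Fintype τ] [DecidableEq τ] [Nonempty τ] (e : ℕ) (a : τ → B → ℤ)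
    (hgram : ∀ i j, ∑ χ, a i χ * a j χ = e + if i = j then 1 else 0)
    (hrow : ∀ χ, ∃ i, a i χ ≠ 0) (hcard : e + Fintype.card τ ≤ Fintype.card B) :
    Fintype.card B = e + Fintype.card τ ∧
    ∃ (θ : τ → B) (s : B → ℤ), Function.Injective θ ∧ (∀ χ, s χ = 1 ∨ s χ = -1) ∧
      (∀ χ, χ ∉ Set.range θ → ∀ i, a i χ = s χ) ∧
      (∀ i j, a i (θ j) = if i = j then s (θ j) else 0) := by
  classical
  set t := Fintype.card τ with ht
  have ht1 : 1 ≤ t := Fintype.card_pos
  let R : Finset B := Finset.univ.filter (fun χ => ∃ i j, a i χ ≠ a j χ)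
  let C : Finset B := Finset.univ.filter (fun χ => ¬ ∃ i j, a i χ ≠ a j χ)
  have hRC : R.card + C.card = Fintype.card B := by
    have := Finset.card_filter_add_card_filter_not (s := (Finset.univ : Finset B)) (fun χ => ∃ i j, a i χ ≠ a j χ)
    rw [Finset.card_univ] at this
    exact this
  have hsplit : ∀ f : B → ℤ, ∑ χ, f χ = ∑ χ ∈ R, f χ + ∑ χ ∈ C, f χ := by
    intro f
    exact (Finset.sum_filter_add_sum_filter_not Finset.univ _ f).symm
  -- total variance
  have hvar : ∑ χ, ∑ i, ∑ j, (a i χ - a j χ) ^ 2 = 2 * (t : ℤ) * (t - 1) := by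
    have h1 : ∀ i j, ∑ χ, (a i χ - a j χ) ^ 2 = if i = j then 0 else 2 := by
      intro i j
      have h2 : ∀ χ, (a i χ - a j χ) ^ 2 = a i χ * a i χ + a j χ * a j χ - 2 * (a i χ * a j χ) := fun χ => by ring
      rw [Finset.sum_congr rfl (fun χ _ => h2 χ), Finset.sum_sub_distrib, Finset.sum_add_distrib, ← Finset.mul_sum,
        hgram, hgram, hgram]
      by_cases h : i = j
      · simp [h]; ring
      · simp [h]; ring
    rw [Finset.sum_comm]
    have h3 : ∀ i, ∑ χ, ∑ j, (a i χ - a j χ) ^ 2 = 2 * ((t : ℤ) - 1) := by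
      intro i
      rw [Finset.sum_comm, Finset.sum_congr rfl (fun j _ => h1 i j)]
      have h4 : ∀ j, (if i = j then (0 : ℤ) else 2) = 2 - if i = j then 2 else 0 := by
        intro j; split_ifs <;> ring
      rw [Finset.sum_congr rfl (fun j _ => h4 j), Finset.sum_sub_distrib]
      simp
      ring
    rw [Finset.sum_congr rfl (fun i _ => h3 i)]
    simp
    ring
  have hR : (R.card : ℤ) * (t - 1) ≤ t * (t - 1) := by
    have h1 : (R.card : ℤ) * (2 * ((t : ℤ) - 1)) ≤ ∑ χ ∈ R, ∑ i, ∑ j, (a i χ - a j χ) ^ 2 := by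
      have := Finset.card_nsmul_le_sum R (fun χ => ∑ i, ∑ j, (a i χ - a j χ) ^ 2) (2 * ((t : ℤ) - 1)) (by
        intro χ hχ
        obtain ⟨-, i, j, hij⟩ := Finset.mem_filter.1 hχ
        exact variance (fun i => a i χ) hij)
      rwa [nsmul_eq_mul] at this
    have h2 : ∑ χ ∈ R, ∑ i, ∑ j, (a i χ - a j χ) ^ 2 ≤ ∑ χ, ∑ i, ∑ j, (a i χ - a j χ) ^ 2 := by
      apply Finset.sum_le_sum_of_subset_of_nonneg (Finset.subset_univ _)
      intro χ _ _
      exact Finset.sum_nonneg fun i _ => Finset.sum_nonneg fun j _ => sq_nonneg _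
    rw [hvar] at h2
    nlinarith
  have hR' : R.card ≤ t := by
    rcases Nat.eq_or_lt_of_le ht1 with h | h
    · -- t = 1
      have h1 : R = ∅ := by
        rw [Finset.eq_empty_iff_forall_notMem]
        intro χ hχ
        obtain ⟨-, i, j, hij⟩ := Finset.mem_filter.1 hχ
        apply hij
        have : Subsingleton τ := Fintype.card_le_one_iff_subsingleton.1 (by omega)
        rw [Subsingleton.elim i j]
      rw [h1]; simp
    · by_contra hcon
      push Not at hcon
      have h1 : (t : ℤ) < R.card := by exact_mod_cast hcon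
      have h2 : (0 : ℤ) < t - 1 := by omega
      nlinarith
  -- total squares
  have hsq : ∑ χ, ∑ i, a i χ ^ 2 = t * (e + 1) := by
    rw [Finset.sum_comm]
    have h1 : ∀ i, ∑ χ, a i χ ^ 2 = e + 1 := by
      intro i
      have := hgram i i
      rw [if_pos rfl] at this
      rw [← this]
      exact Finset.sum_congr rfl fun χ _ => by ring
    rw [Finset.sum_congr rfl (fun i _ => h1 i)]
    simp [ht]
  have hCle : ∀ χ ∈ C, (t : ℤ) ≤ ∑ i, a i χ ^ 2 := by
    intro χ hχ
    obtain ⟨-, hc⟩ := Finset.mem_filter.1 hχ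
    push Not at hc
    obtain ⟨i, hi⟩ := hrow χ
    have h1 : ∀ j ∈ (Finset.univ : Finset τ), (1 : ℤ) ≤ a j χ ^ 2 := by
      intro j _
      rw [hc j i]
      have := sq_pos_of_ne_zero hi
      omega
    have := Finset.card_nsmul_le_sum Finset.univ _ 1 h1
    simpa [ht] using this
  have hRle : ∀ χ ∈ R, (1 : ℤ) ≤ ∑ i, a i χ ^ 2 := by
    intro χ _
    obtain ⟨i, hi⟩ := hrow χ
    have h1 := sq_pos_of_ne_zero hi
    have h2 : a i χ ^ 2 ≤ ∑ i, a i χ ^ 2 :=
      Finset.single_le_sum (f := fun i => a i χ ^ 2) (fun j _ => sq_nonneg _) (Finset.mem_univ i)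
    omega
  have hCsum : (C.card : ℤ) * t ≤ ∑ χ ∈ C, ∑ i, a i χ ^ 2 := by
    have := Finset.card_nsmul_le_sum C _ (t : ℤ) hCle
    rwa [nsmul_eq_mul] at this
  have hRsum : (R.card : ℤ) ≤ ∑ χ ∈ R, ∑ i, a i χ ^ 2 := by
    have := Finset.card_nsmul_le_sum R _ (1 : ℤ) hRle
    simpa using this
  have htot := hsplit (fun χ => ∑ i, a i χ ^ 2)
  rw [hsq] at htot
  have hcardz : (e : ℤ) + t ≤ R.card + C.card := by
    have : e + t ≤ R.card + C.card := by omega
    exact_mod_cast this
  have hRz : (R.card : ℤ) ≤ t := by exact_mod_cast hR'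
  obtain ⟨i0⟩ := ‹Nonempty τ›
  rcases Nat.eq_or_lt_of_le ht1 with h | h
  · -- t = 1
    have hsub : Subsingleton τ := Fintype.card_le_one_iff_subsingleton.1 (by omega)
    have hR0 : R = ∅ := by
      rw [Finset.eq_empty_iff_forall_notMem]
      intro χ hχ
      obtain ⟨-, i, j, hij⟩ := Finset.mem_filter.1 hχ
      exact hij (by rw [Subsingleton.elim i j])
    have hCu : C = Finset.univ := by
      rw [Finset.eq_univ_iff_forall]
      intro χ
      by_contra hχ
      have h1 : χ ∈ R := by
        rw [Finset.mem_filter]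
        refine ⟨Finset.mem_univ _, ?_⟩
        by_contra h2
        exact hχ (Finset.mem_filter.2 ⟨Finset.mem_univ _, h2⟩)
      rw [hR0] at h1
      exact absurd h1 (Finset.notMem_empty _)
    have ht1' : (t : ℤ) = 1 := by exact_mod_cast h.symm
    rw [hR0] at htot hRC
    rw [ht1'] at htot hcardz hCsum
    simp only [Finset.sum_empty, zero_add, one_mul, mul_one, Finset.card_empty] at htot hRC hCsum
    rw [hR0, Finset.card_empty] at hcardz
    have hcard' : (C.card : ℤ) = e + 1 := by
      push_cast at hcardz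
      omega
    have hone : ∀ χ, a i0 χ ^ 2 = 1 := by
      intro χ
      have h1 : ∀ χ ∈ C, (1 : ℤ) ≤ ∑ i, a i χ ^ 2 := fun χ hχ => by
        have := hCle χ hχ
        rwa [ht1'] at this
      have h2 : ∑ χ ∈ C, (∑ i, a i χ ^ 2 - 1) = 0 := by
        rw [Finset.sum_sub_distrib]
        simp only [Finset.sum_const, nsmul_eq_mul, mul_one]
        omega
      have h3 := (Finset.sum_eq_zero_iff_of_nonneg (fun χ hχ => by have := h1 χ hχ; omega)).1 h2 χ
        (by rw [hCu]; exact Finset.mem_univ _)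
      have h4 : ∑ i, a i χ ^ 2 = a i0 χ ^ 2 := by
        rw [Finset.sum_eq_single i0]
        · intro j _ hj; exact absurd (Subsingleton.elim _ _) hj
        · intro h; exact absurd (Finset.mem_univ _) h
      omega
    have hBcard : Fintype.card B = e + t := by
      have : (Fintype.card B : ℤ) = e + t := by
        rw [ht1', ← hcard']
        exact_mod_cast hRC.symm
      exact_mod_cast this
    refine ⟨hBcard, ?_⟩
    have hne : Nonempty B := by
      rw [← Fintype.card_pos_iff]; omega
    obtain ⟨χ0⟩ := hne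
    refine ⟨fun _ => χ0, fun χ => a i0 χ, ?_, ?_, ?_, ?_⟩
    · intro i j _
      exact Subsingleton.elim _ _
    · intro χ
      exact sq_eq_one_iff.1 (hone χ)
    · intro χ _ i
      rw [Subsingleton.elim i i0]
    · intro i j
      rw [if_pos (Subsingleton.elim _ _), Subsingleton.elim i i0]
  · -- t ≥ 2
    have ht2 : (2 : ℤ) ≤ t := by exact_mod_cast h
    have hRt : (R.card : ℤ) = t := by
      by_contra hne
      have h1 : (R.card : ℤ) + 1 ≤ t := by omega
      have h2 : (0 : ℤ) ≤ R.card := Int.natCast_nonneg _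
      nlinarith
    have hCe : (C.card : ℤ) = e := by
      have h1 : (e : ℤ) ≤ C.card := by omega
      have h2 : (C.card : ℤ) ≤ e := by
        by_contra hcon
        push Not at hcon
        nlinarith
      omega
    have hBcard : Fintype.card B = e + t := by
      have : (Fintype.card B : ℤ) = e + t := by
        rw [← hRC]; push_cast; omega
      exact_mod_cast this
    have hCeq : ∀ χ ∈ C, ∑ i, a i χ ^ 2 = t := by
      intro χ hχ
      have h2 : ∑ χ ∈ C, (∑ i, a i χ ^ 2 - t) ≤ 0 := by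
        rw [Finset.sum_sub_distrib]
        simp only [Finset.sum_const, nsmul_eq_mul]
        nlinarith
      have h3 : ∑ χ ∈ C, (∑ i, a i χ ^ 2 - t) = 0 := le_antisymm h2
        (Finset.sum_nonneg fun χ hχ => by have := hCle χ hχ; omega)
      have h4 := (Finset.sum_eq_zero_iff_of_nonneg (fun χ hχ => by have := hCle χ hχ; omega)).1 h3 χ hχ
      omega
    have hReq : ∀ χ ∈ R, ∑ i, a i χ ^ 2 = 1 := by
      intro χ hχ
      have h2 : ∑ χ ∈ R, (∑ i, a i χ ^ 2 - 1) ≤ 0 := by
        rw [Finset.sum_sub_distrib]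
        simp only [Finset.sum_const, nsmul_eq_mul]
        nlinarith
      have h3 : ∑ χ ∈ R, (∑ i, a i χ ^ 2 - 1) = 0 := le_antisymm h2
        (Finset.sum_nonneg fun χ hχ => by have := hRle χ hχ; omega)
      have h4 := (Finset.sum_eq_zero_iff_of_nonneg (fun χ hχ => by have := hRle χ hχ; omega)).1 h3 χ hχ
      omega
    have hCone : ∀ χ ∈ C, ∀ i, a i χ = a i0 χ ∧ a i0 χ ^ 2 = 1 := by
      intro χ hχ i
      obtain ⟨-, hc⟩ := Finset.mem_filter.1 hχ
      push Not at hc
      refine ⟨hc _ _, ?_⟩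
      have h1 := hCeq χ hχ
      have h2 : ∀ j, a j χ ^ 2 = a i0 χ ^ 2 := fun j => by rw [hc j i0]
      rw [Finset.sum_congr rfl (fun j _ => h2 j)] at h1
      simp only [Finset.sum_const, Finset.card_univ, nsmul_eq_mul] at h1
      rw [← ht] at h1
      have h3 : (t : ℤ) * (a i0 χ ^ 2 - 1) = 0 := by linarith
      rcases mul_eq_zero.1 h3 with h4 | h4
      · omega
      · omega
    have hRuniq : ∀ χ ∈ R, ∀ i j, i ≠ j → a i χ ≠ 0 → a j χ = 0 := by
      intro χ hχ i j hij hi
      by_contra hj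
      have h1 := hReq χ hχ
      have h2 : ∑ l ∈ ({i, j} : Finset τ), a l χ ^ 2 ≤ ∑ l, a l χ ^ 2 :=
        Finset.sum_le_sum_of_subset_of_nonneg (Finset.subset_univ _) (fun l _ _ => sq_nonneg _)
      rw [Finset.sum_pair hij, h1] at h2
      have h3 := sq_pos_of_ne_zero hi
      have h4 := sq_pos_of_ne_zero hj
      omega
    have hex : ∀ i, ∃ χ ∈ R, a i χ ≠ 0 := by
      intro i
      by_contra hcon
      push Not at hcon
      have h1 : ∑ χ, a i χ ^ 2 = e + 1 := by
        have := hgram i i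
        rw [if_pos rfl] at this
        rw [← this]
        exact Finset.sum_congr rfl fun χ _ => by ring
      rw [hsplit (fun χ => a i χ ^ 2)] at h1
      have h2 : ∑ χ ∈ R, a i χ ^ 2 = 0 := Finset.sum_eq_zero fun χ hχ => by rw [hcon χ hχ]; norm_num
      have h3 : ∑ χ ∈ C, a i χ ^ 2 = C.card := by
        rw [Finset.sum_congr rfl (fun χ hχ => by rw [(hCone χ hχ i).1, (hCone χ hχ i).2])]
        simp
      rw [h2, h3] at h1
      omega
    choose θ hθR hθ using hex
    have hθ0 : ∀ i j, i ≠ j → a i (θ j) = 0 := fun i j hij => hRuniq _ (hθR j) j i (Ne.symm hij) (hθ j)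
    have hθinj : Function.Injective θ := by
      intro i j hij
      by_contra hne
      have := hθ0 i j hne
      rw [← hij] at this
      exact hθ i this
    have hrange : ∀ χ, χ ∉ Set.range θ → χ ∈ C := by
      intro χ hχ
      by_contra hc
      have h1 : χ ∈ R := by
        rw [Finset.mem_filter]
        refine ⟨Finset.mem_univ _, ?_⟩
        by_contra h2
        exact hc (Finset.mem_filter.2 ⟨Finset.mem_univ _, h2⟩)
      have h2 : Finset.univ.image θ = R := by
        apply Finset.eq_of_subset_of_card_le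
        · intro ψ hψ
          obtain ⟨j, -, rfl⟩ := Finset.mem_image.1 hψ
          exact hθR j
        · rw [Finset.card_image_of_injective _ hθinj, Finset.card_univ]
          exact_mod_cast hRt.le
      rw [← h2] at h1
      obtain ⟨j, -, hj⟩ := Finset.mem_image.1 h1
      exact hχ ⟨j, hj⟩
    have hθ1 : ∀ j, a j (θ j) ^ 2 = 1 := by
      intro j
      have h1 := hReq (θ j) (hθR j)
      rw [Finset.sum_eq_single j] at h1
      · exact h1
      · intro i _ hij; rw [hθ0 i j hij]; norm_num
      · intro h; exact absurd (Finset.mem_univ _) h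
    have hsum : ∀ j, ∑ i, a i (θ j) = a j (θ j) := by
      intro j
      rw [Finset.sum_eq_single j]
      · intro i _ hij; exact hθ0 i j hij
      · intro h; exact absurd (Finset.mem_univ _) h
    refine ⟨hBcard, θ, fun χ => if χ ∈ Set.range θ then ∑ i, a i χ else a i0 χ, hθinj, ?_, ?_, ?_⟩
    · intro χ
      beta_reduce
      split_ifs with h1
      · obtain ⟨j, rfl⟩ := h1
        rw [hsum]
        exact sq_eq_one_iff.1 (hθ1 j)
      · exact sq_eq_one_iff.1 (hCone χ (hrange χ h1) i0).2
    · intro χ hχ i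
      beta_reduce
      rw [if_neg hχ]
      exact (hCone χ (hrange χ hχ) i).1
    · intro i j
      beta_reduce
      rw [if_pos (Set.mem_range_self j), hsum]
      split_ifs with h1
      · rw [h1]
      · exact hθ0 i j h1

end Cfsg.Agent.Lib.DefOneComb
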