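import Mathlib
import Cfsg.Agent.Lib.DefOneBlk
import Cfsg.Agent.Lib.DefOneComb

set_option autoImplicit false
set_option linter.all false

/-!
# Blocks whose defect group is a Sylow subgroup of prime order
-/

namespace Cfsg.Agent.Lib.DefOne

open Cfsg Cfsg.Agent.Lib.BlockRing Cfsg.Agent.Lib.BlockGA Cfsg.Agent.Lib.BlockIdem
open Cfsg.Agent.Lib.BlockSecond Cfsg.Agent.Lib.BlockNormP
open Cfsg.Agent.Lib.DefOneLoc Cfsg.Agent.Lib.DefOneOrd Cfsg.Agent.Lib.CharBasic Cfsg.Agent.Lib.DefOneGram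
open Module Cfsg.Agent.Lib.ModRep Cfsg.Agent.Lib.DefOneMod Cfsg.Agent.Lib.DefOneTrace Cfsg.Agent.Lib.DefOneRes
open Cfsg.Agent.Lib.DefOneBlk
open scoped ComplexConjugate
open MonoidAlgebra (single)

universe u

variable {G : Type u} [Group G] [Fintype G] {p : ℕ} [hp : Fact p.Prime] {P N C : Subgroup G}
  (D : Loc p P N C)

/-- the action of `N` on `P` as a homomorphism to the units -/
def κu : N →* (ZMod p)ˣ :=
  (MonoidHom.mk' (fun n : N => (Units.mk0 (D.κ n) (D.κ_ne n) : (ZMod p)ˣ)) (by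
    intro a b
    apply Units.ext
    change D.κ (a * b) = D.κ a * D.κ b
    exact D.κ_mul a b))

omit [Fintype G] in
theorem κu_apply (n : N) : ((κu D n : (ZMod p)ˣ) : ZMod p) = D.κ n := rfl

omit [Fintype G] hp in
theorem cjI_mul (m n : N) (θ : IrrCharacter C) : cjI D (m * n) θ = cjI D n (cjI D m θ) := by
  apply Subtype.ext
  funext c
  rw [cjI_apply, cjI_apply, cjI_apply]
  refine congrArg (θ : C → ℂ) (Subtype.ext ?_)
  change ((m * n : N) : G) * c * ((m * n : N) : G)⁻¹ = m * (n * c * (n : G)⁻¹) * (m : G)⁻¹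
  push_cast
  group

omit [Fintype G] hp in
theorem cjI_of_mem {n : N} (hn : (n : G) ∈ C) (θ : IrrCharacter C) : cjI D n θ = θ := by
  apply Subtype.ext
  funext c
  exact θ.2.isClassFunction c ⟨n, hn⟩

/-- inertia group of `θ` in `N` -/
def inN (θ : IrrCharacter C) : Subgroup N where
  carrier := {n | cjI D n θ = θ}
  one_mem' := cjI_of_mem D C.one_mem θ
  mul_mem' := by
    intro a b ha hb
    change cjI D (a * b) θ = θ
    rw [cjI_mul, ha, hb]
  inv_mem' := by
    intro a ha
    change cjI D a⁻¹ θ = θ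
    have h1 : cjI D (a * a⁻¹) θ = cjI D a⁻¹ (cjI D a θ) := cjI_mul D _ _ _
    rw [ha, mul_inv_cancel] at h1
    rw [← h1]
    exact cjI_of_mem D C.one_mem θ

omit [Fintype G] hp in
theorem mem_inN {n : N} {θ : IrrCharacter C} : n ∈ inN D θ ↔ cjI D n θ = θ := Iff.rfl

/-- image of the inertia group in `Aut P` -/
def HT (θ : IrrCharacter C) : Subgroup (ZMod p)ˣ := (inN D θ).map (κu D)

variable [Fintype C] [Fintype N]

open scoped Classical in
theorem fiber (θ : IrrCharacter C) (a : (ZMod p)ˣ) :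
    ∑ n : N, (if cjI D n θ = θ ∧ κu D n = a then (1 : ℂ) else 0) = if a ∈ HT D θ then (Nat.card C : ℂ) else 0 := by
  by_cases ha : a ∈ HT D θ
  · rw [if_pos ha]
    obtain ⟨n0, hn0, rfl⟩ := ha
    have hn0 : cjI D n0 θ = θ := hn0
    rw [← Finset.sum_filter, Finset.sum_const, nsmul_eq_mul, mul_one, Nat.card_eq_fintype_card]
    congr 1
    rw [← Finset.card_univ]
    symm
    refine Finset.card_bij (fun c _ => n0 * (⟨c, D.CN c.2⟩ : N)) ?_ ?_ ?_
    · intro c _
      rw [Finset.mem_filter]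
      refine ⟨Finset.mem_univ _, ?_, ?_⟩
      · rw [cjI_mul, hn0]
        exact cjI_of_mem D c.2 θ
      · rw [map_mul]
        have : κu D (⟨c, D.CN c.2⟩ : N) = 1 := by
          apply Units.ext
          rw [κu_apply]
          exact (D.κ_eq _).2 c.2
        rw [this, mul_one]
    · intro c _ d _ h
      have h1 := mul_left_cancel h
      exact Subtype.ext (congrArg (fun n : N => (n : G)) h1)
    · intro n hn
      obtain ⟨-, hn1, hn2⟩ := Finset.mem_filter.1 hn
      have h1 : κu D (n0⁻¹ * n) = 1 := by rw [map_mul, map_inv, hn2, inv_mul_cancel]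
      have h2 : ((n0⁻¹ * n : N) : G) ∈ C := by
        rw [← D.κ_eq, ← κu_apply, h1]; rfl
      refine ⟨⟨_, h2⟩, Finset.mem_univ _, ?_⟩
      apply Subtype.ext
      change (n0 : G) * ((n0⁻¹ * n : N) : G) = n
      push_cast
      group
  · rw [if_neg ha]
    apply Finset.sum_eq_zero
    intro n _
    rw [if_neg]
    rintro ⟨h1, h2⟩
    exact ha ⟨n, h1, h2⟩

open scoped Classical in
/-- Gram matrix -/
theorem gram' {θ : IrrCharacter C} (ht : TrivOn D (θ : C → ℂ)) (i j : (ZMod p)ˣ) :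
    ∑ χ : IrrCharacter G, dm D (χ : G → ℂ) θ i * conj (dm D (χ : G → ℂ) θ j) =
      Nat.card (HT D θ) + if j⁻¹ * i ∈ HT D θ then 1 else 0 := by
  have hC0 : (Nat.card C : ℂ) ≠ 0 := by exact_mod_cast Nat.card_pos.ne'
  have := Fintype.ofFinite (HT D θ)
  rw [gram D ht i.ne_zero j.ne_zero]
  have h1 : ∀ n : N, (if cjI D n θ = θ then (1 + if (j : ZMod p) * D.κ n = i then 1 else 0 : ℂ) else 0) =
      ∑ a : (ZMod p)ˣ, (if cjI D n θ = θ ∧ κu D n = a then (1 : ℂ) else 0) +
        if cjI D n θ = θ ∧ κu D n = j⁻¹ * i then (1 : ℂ) else 0 := by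
    intro n
    have h2 : ((j : ZMod p) * D.κ n = i) ↔ κu D n = j⁻¹ * i := by
      rw [← κu_apply, ← Units.val_mul, Units.val_inj]
      constructor
      · intro h; rw [← h, inv_mul_cancel_left]
      · intro h; rw [h, mul_inv_cancel_left]
    by_cases h3 : cjI D n θ = θ
    · simp only [h3, true_and, if_true, h2]
      rw [Finset.sum_ite_eq Finset.univ (κu D n), if_pos (Finset.mem_univ _)]
    · simp [h3]
  rw [Finset.sum_congr rfl (fun n _ => h1 n), Finset.sum_add_distrib, fiber, Finset.sum_comm]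
  rw [Finset.sum_congr rfl (fun a _ => fiber D θ a)]
  have h4 : (Finset.univ.filter (fun a : (ZMod p)ˣ => a ∈ HT D θ)).card = Nat.card (HT D θ) := by
    rw [Nat.card_eq_fintype_card, Fintype.card_subtype]
  have h5 : ∑ a : (ZMod p)ˣ, (if a ∈ HT D θ then (Nat.card C : ℂ) else 0) = Nat.card (HT D θ) * Nat.card C := by
    rw [← Finset.sum_filter, Finset.sum_const, nsmul_eq_mul, h4]
  rw [h5]
  split_ifs
  · field_simp
  · field_simp
    ring

theorem indep_of_gram {B τ : Type*} [Fintype B] [Fintype τ] [DecidableEq τ] (e : ℕ) (a : τ → B → ℂ)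
    (h : ∀ i j, ∑ χ, a i χ * conj (a j χ) = e + if i = j then 1 else 0) : LinearIndependent ℂ a := by
  rw [Fintype.linearIndependent_iff]
  intro c hc
  set S := ∑ i, c i with hS
  have h1 : ∀ j, c j = - (e * S) := by
    intro j
    have h2 : ∑ χ, (∑ i, c i • a i) χ * conj (a j χ) = 0 := by
      rw [hc]; simp
    have h3 : ∑ χ, (∑ i, c i • a i) χ * conj (a j χ) = ∑ i, c i * (e + if i = j then 1 else 0) := by
      have h4 : ∀ χ, (∑ i, c i • a i) χ * conj (a j χ) = ∑ i, c i * (a i χ * conj (a j χ)) := by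
        intro χ
        rw [Finset.sum_apply, Finset.sum_mul]
        exact Finset.sum_congr rfl fun i _ => by rw [Pi.smul_apply, smul_eq_mul, mul_assoc]
      rw [Finset.sum_congr rfl (fun χ _ => h4 χ), Finset.sum_comm]
      refine Finset.sum_congr rfl fun i _ => ?_
      rw [← Finset.mul_sum, h]
    rw [h3] at h2
    have h5 : ∑ i, c i * ((e : ℂ) + if i = j then 1 else 0) = S * e + c j := by
      simp only [mul_add, Finset.sum_add_distrib, ← Finset.sum_mul, mul_ite, mul_one, mul_zero]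
      rw [Finset.sum_ite_eq' Finset.univ j, if_pos (Finset.mem_univ _)]
    rw [h5] at h2
    linear_combination h2
  have h2 : S = - (Fintype.card τ * e * S) := by
    conv_lhs => rw [hS, Finset.sum_congr rfl (fun i _ => h1 i)]
    rw [Finset.sum_const, Finset.card_univ, nsmul_eq_mul]
    ring
  have h3 : ((Fintype.card τ * e + 1 : ℕ) : ℂ) * S = 0 := by
    push_cast
    linear_combination h2
  have h4 : S = 0 := by
    rcases mul_eq_zero.1 h3 with h5 | h5
    · exfalso
      exact absurd h5 (Nat.cast_ne_zero.2 (Nat.succ_ne_zero _))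
    · exact h5
  intro i
  rw [h1, h4]; ring


omit [Fintype N] in
theorem dm_eq_classInner (χ : G → ℂ) (θ : IrrCharacter C) (i : ZMod p) :
    dm D χ θ i = classInner (rs C χ) ((LT D θ i : C → ℂ) - (LT D θ 0 : C → ℂ)) := by
  rw [dm, mu, mu, classInner_sub_right]

omit [Fintype N] in
theorem dm_int (χ : IrrCharacter G) (θ : IrrCharacter C) (i : ZMod p) : ∃ n : ℤ, dm D (χ : G → ℂ) θ i = n := by
  have h1 : IsCharacter C (rs C (χ : G → ℂ)) := χ.2.isCharacter.restrict C
  obtain ⟨a, ha⟩ := h1.classInner_nat (LT D θ i).2.isCharacter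
  obtain ⟨b, hb⟩ := h1.classInner_nat (LT D θ 0).2.isCharacter
  refine ⟨(a : ℤ) - b, ?_⟩
  rw [dm, mu, mu, ha, hb]
  push_cast; rfl

variable {M : Ideal AlgInt}

omit [Fintype N] in
/-- relations on `p`-regular elements -/
theorem relation (hM : IsPModular p M) {B : Set (IrrCharacter G)} (hB : IsPBlock M B) [Fintype B]
    (θ : IrrCharacter C) (i : ZMod p) {g : G} (hg : ¬ p ∣ orderOf g) :
    ∑ χ : B, dm D ((χ : IrrCharacter G) : G → ℂ) θ i * ((χ : IrrCharacter G) : G → ℂ) g = 0 := by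
  classical
  have h1 : ∀ χ : IrrCharacter G, dm D (χ : G → ℂ) θ i = (Nat.card C : ℂ)⁻¹ *
      ∑ c : C, conj ((χ : G → ℂ) c) * ((LT D θ i : C → ℂ) c - (LT D θ 0 : C → ℂ) c) := by
    intro χ
    obtain ⟨n, hn⟩ := dm_int D χ θ i
    have h2 : dm D (χ : G → ℂ) θ i = conj (dm D (χ : G → ℂ) θ i) := by rw [hn]; simp
    rw [h2, dm_eq_classInner, classInner_def, map_mul, map_inv₀, Complex.conj_natCast, map_sum]
    congr 1
    refine Finset.sum_congr rfl fun c _ => ?_
    rw [map_mul, Complex.conj_conj]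
    rfl
  simp only [h1]
  have h2 : ∀ χ : B, (Nat.card C : ℂ)⁻¹ * (∑ c : C, conj (((χ : IrrCharacter G) : G → ℂ) c) *
      ((LT D θ i : C → ℂ) c - (LT D θ 0 : C → ℂ) c)) * ((χ : IrrCharacter G) : G → ℂ) g =
      ∑ c : C, (Nat.card C : ℂ)⁻¹ * ((LT D θ i : C → ℂ) c - (LT D θ 0 : C → ℂ) c) *
        (((χ : IrrCharacter G) : G → ℂ) g * conj (((χ : IrrCharacter G) : G → ℂ) c)) := by
    intro χ
    rw [Finset.mul_sum, Finset.sum_mul]
    exact Finset.sum_congr rfl fun c _ => by ring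
  rw [Finset.sum_congr rfl (fun χ _ => h2 χ), Finset.sum_comm]
  apply Finset.sum_eq_zero
  intro c _
  rw [← Finset.mul_sum]
  by_cases hc : D.l c = 0
  · rw [LT_apply, LT_apply, lam_of_reg D i hc, lam_of_reg D 0 hc, sub_self, mul_zero, zero_mul]
  · have h3 : p ∣ orderOf (c : G) := by
      by_contra h
      exact hc ((D.l_reg c).2 h)
    have h4 := BlockOsima.weak_orthogonality hM hB hg h3
    rw [finsum_mem_eq_finite_toFinset_sum _ (Set.toFinite B)] at h4
    rw [Finset.sum_subtype (Set.toFinite B).toFinset (p := fun χ => χ ∈ B) (by intro χ; simp)] at h4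
    have h5 : ∑ χ : B, ((χ : IrrCharacter G) : G → ℂ) g * conj (((χ : IrrCharacter G) : G → ℂ) c) = 0 := by
      rw [← h4]
    rw [h5, mul_zero]

omit [Fintype N] in
/-- invariance of the differences under the inertia group -/
theorem dm_HT (χ : IrrCharacter G) {θ : IrrCharacter C} {a : (ZMod p)ˣ} (ha : a ∈ HT D θ) (i : ZMod p) :
    dm D (χ : G → ℂ) θ (i * a) = dm D (χ : G → ℂ) θ i := by
  obtain ⟨n, hn, rfl⟩ := ha
  have hn' : cjI D n θ = θ := hn
  have h1 := dm_cjI D n χ.2.isClassFunction θ i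
  rw [hn'] at h1
  exact h1

/-- Structure of a block with defect group `P`. -/
theorem main {k : Type} [Field k] (π : AlgInt →+* k) [IsAlgClosed k] [CharP k p] (hM : IsPModular p M)
    (hπ : ∀ a, π a = 0 ↔ a ∈ M) (hsurj : Function.Surjective π)
    {K : Subgroup G} (hD : Data p P N K D.u) (hpK : ¬ p ∣ Nat.card K) (hTI : TI P N)
    (R : Subgroup N) [R.Normal] [Fintype (N ⧸ R)]
    (hR : ∀ n : N, n ∈ R ↔ (n : G) ∈ P) (hRidx : ¬ p ∣ Nat.card (N ⧸ R)) (hpC : ¬ p ^ 2 ∣ Nat.card C)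
    (hpG : ¬ p ^ 2 ∣ Nat.card G)
    (hC : C = P ⊔ Subgroup.centralizer (P : Set G)) (hN : N = Subgroup.normalizer (P : Set G))
    {θ : IrrCharacter C} (ht : TrivOn D (θ : C → ℂ)) {B : Set (IrrCharacter G)} [Fintype B]
    (hDG : IsDefectGroup p M B P)
    (hind : IsInducedBlock M C (blockOf M (θ : C → ℂ)) B) {ι : Type} [Fintype ι]
    (Ψ : ι → IrrCharacter (N ⧸ R)) (hΨinj : Function.Injective Ψ)
    (hΨ : ∀ i, classInner (rN D (fun n : N => (Ψ i : N ⧸ R → ℂ) (n : N ⧸ R))) (θ : C → ℂ) ≠ 0)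
    (hcard : Nat.card (HT D θ) ≤ Fintype.card ι) [DecidableEq ((ZMod p)ˣ ⧸ HT D θ)]
    [Fintype ((ZMod p)ˣ ⧸ HT D θ)] :
    Fintype.card B = Nat.card (HT D θ) + Fintype.card ((ZMod p)ˣ ⧸ HT D θ) ∧
    ∃ (Y : (ZMod p)ˣ ⧸ HT D θ → B) (s : B → ℤ), Function.Injective Y ∧ (∀ χ, s χ = 1 ∨ s χ = -1) ∧
      (∀ χ, χ ∉ Set.range Y → ∀ i : (ZMod p)ˣ, dm D ((χ : IrrCharacter G) : G → ℂ) θ i = s χ) ∧
      (∀ (i : (ZMod p)ˣ) q, dm D ((Y q : IrrCharacter G) : G → ℂ) θ i =
        if (i : (ZMod p)ˣ ⧸ HT D θ) = q then (s (Y q) : ℂ) else 0) := by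
  classical
  have := isPrime hM
  have hB : IsPBlock M B := hind.2.1
  set e := Nat.card (HT D θ) with he
  let τ := (ZMod p)ˣ ⧸ HT D θ
  -- integral differences
  choose A hA using fun (χ : IrrCharacter G) (i : ZMod p) => dm_int D χ θ i
  let a : τ → B → ℤ := fun q χ => A χ ((Quotient.out q : (ZMod p)ˣ) : ZMod p)
  have hAinv : ∀ (χ : IrrCharacter G) (i : (ZMod p)ˣ), A χ i = A χ ((Quotient.out (i : τ) : (ZMod p)ˣ) : ZMod p) := by
    intro χ i
    have h1 : (i : τ) = ((Quotient.out (i : τ) : (ZMod p)ˣ) : τ) := (QuotientGroup.out_eq' _).symm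
    rw [QuotientGroup.eq] at h1
    have h2 := dm_HT D χ h1 i
    rw [← Units.val_mul, mul_inv_cancel_left, hA, hA] at h2
    exact_mod_cast h2.symm
  have hout : ∀ χ : IrrCharacter G, χ ∉ B → ∀ i, A χ i = 0 := by
    intro χ hχ i
    have := dm_of_not_mem D hM hpC ht hind hχ i
    rw [hA] at this
    exact_mod_cast this
  have hsumB : ∀ f : IrrCharacter G → ℤ, (∀ χ, χ ∉ B → f χ = 0) → ∑ χ : B, f χ = ∑ χ : IrrCharacter G, f χ := by
    intro f hf
    rw [← Fintype.sum_subtype_add_sum_subtype (fun χ => χ ∈ B) f,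
      Finset.sum_eq_zero (s := (Finset.univ : Finset {χ : IrrCharacter G // χ ∉ B})) (fun z _ => hf z.1 z.2), add_zero]
    exact Finset.sum_congr (by ext; simp) fun _ _ => rfl
  have hgramA : ∀ i j : (ZMod p)ˣ, ∑ χ : B, A χ i * A χ j = e + if j⁻¹ * i ∈ HT D θ then 1 else 0 := by
    intro i j
    rw [hsumB (fun χ => A χ i * A χ j) (fun χ hχ => by rw [hout χ hχ, zero_mul])]
    have h1 := gram' D ht i j
    have h2 : ((∑ χ : IrrCharacter G, A χ i * A χ j : ℤ) : ℂ) = ((e + if j⁻¹ * i ∈ HT D θ then 1 else 0 : ℤ) : ℂ) := by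
      push_cast
      rw [he, ← h1]
      refine Finset.sum_congr rfl fun χ _ => ?_
      rw [hA, hA]; simp
    exact_mod_cast h2
  have hgram : ∀ q q' : τ, ∑ χ, a q χ * a q' χ = e + if q = q' then 1 else 0 := by
    intro q q'
    have h1 := hgramA (Quotient.out q) (Quotient.out q')
    have h2 : ((Quotient.out q' : (ZMod p)ˣ)⁻¹ * (Quotient.out q : (ZMod p)ˣ) ∈ HT D θ) ↔ q = q' := by
      rw [← QuotientGroup.eq, QuotientGroup.out_eq', QuotientGroup.out_eq']
      exact eq_comm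
    simp only [h2] at h1
    exact h1
  -- rows are nonzero
  have hrow : ∀ χ : B, ∃ q, a q χ ≠ 0 := by
    intro χ
    by_contra hcon
    push Not at hcon
    have h0 : ∀ i, dm D ((χ : IrrCharacter G) : G → ℂ) θ i = 0 := by
      intro i
      by_cases hi : i = 0
      · rw [hi, dm, sub_self]
      · have h1 := hAinv χ (Units.mk0 i hi)
        have h2 := hcon ((Units.mk0 i hi : (ZMod p)ˣ) : τ)
        rw [hA]
        have h3 : A χ i = 0 := h1.trans h2
        rw [h3]; simp
    have hvan : ∀ c : C, D.l c ≠ 0 → ((χ : IrrCharacter G) : G → ℂ) c = 0 := fun c hc =>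
      vanish_of_dm D hM hpC hC hN ht hDG hind χ.2 h0 hc
    have hPcard : Nat.card P = p := by
      have h5 : P = Subgroup.zpowers D.u := by
        apply le_antisymm
        · intro y hy
          obtain ⟨i, rfl⟩ := D.gen y hy
          exact Subgroup.pow_mem _ (Subgroup.mem_zpowers D.u) i
        · rw [Subgroup.zpowers_le]; exact D.uP
      rw [h5, Nat.card_zpowers, D.ordu]
    have hdvd : p ∣ charDegree ((χ : IrrCharacter G) : G → ℂ) := by
      have h3 := BlockDefZero.card_dvd_of_vanish (χ : IrrCharacter G).2.isCharacter P (fun x hx hx1 => by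
        apply hvan ⟨x, D.PC hx⟩
        intro h4
        rw [D.l_reg] at h4
        apply h4
        change p ∣ orderOf x
        have h5 : orderOf x ∣ p := by
          have h6 := orderOf_dvd_natCard (⟨x, hx⟩ : P)
          rw [Subgroup.orderOf_mk] at h6
          exact h6.trans (dvd_of_eq hPcard)
        rcases (Nat.dvd_prime hp.out).1 h5 with h6 | h6
        · exact absurd (orderOf_eq_one_iff.1 h6) hx1
        · rw [h6])
      rwa [hPcard] at h3
    have hfac : (charDegree ((χ : IrrCharacter G) : G → ℂ)).factorization p = (Nat.card G).factorization p := by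
      have h3 := BlockDefZero.factorization_charDegree_le p (χ : IrrCharacter G).2
      have h4 : 0 < (charDegree ((χ : IrrCharacter G) : G → ℂ)).factorization p :=
        hp.out.factorization_pos_of_dvd (BlockDeg.charDegree_pos (χ : IrrCharacter G).2).ne' hdvd
      have h5 : (Nat.card G).factorization p < 2 := by
        by_contra h6
        push Not at h6
        apply hpG
        exact (hp.out.pow_dvd_iff_le_factorization Nat.card_pos.ne').2 h6
      omega
    have hsing := BlockDefZero.blockOf_eq_singleton hM (χ : IrrCharacter G) hfac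
    have hBsing : B = {(χ : IrrCharacter G)} := by
      rw [← hsing]
      exact eq_blockOf hB χ.2
    have h3 := hgramA 1 1
    rw [inv_one, one_mul, if_pos (Subgroup.one_mem _)] at h3
    have h4 : ∑ χ' : B, A χ' ((1 : (ZMod p)ˣ) : ZMod p) * A χ' ((1 : (ZMod p)ˣ) : ZMod p) = 0 := by
      apply Finset.sum_eq_zero
      intro χ' _
      have h5 : (χ' : IrrCharacter G) = χ := (Set.ext_iff.1 hBsing _).1 χ'.2
      have h6 := h0 ((1 : (ZMod p)ˣ) : ZMod p)
      rw [hA] at h6
      have h7 : A χ ((1 : (ZMod p)ˣ) : ZMod p) = 0 := by exact_mod_cast h6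
      rw [h5, h7, zero_mul]
    rw [h4] at h3
    omega
  -- lower bound for the number of characters
  have hmods : ∀ i, _ := fun i => exists_module π D hM hπ hD hpK R hR hRidx hind (Ψ i) (hΨ i)
  choose n m ρ σ hρ hσ hσt hQ hσz hBρ using hmods
  have hσne : ∀ i j, i ≠ j → ∀ φ : (Fin (m i) → k) →ₗ[k] (Fin (m j) → k),
      (∀ (x : N) v, φ ((σ i).comp (QuotientGroup.mk' R) x v) = (σ j).comp (QuotientGroup.mk' R) x (φ v)) → φ = 0 := by
    intro i j hij φ hφ
    have h1 : ∀ (x : N ⧸ R) v, φ (σ i x v) = σ j x (φ v) := by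
      intro x v
      obtain ⟨y, rfl⟩ := QuotientGroup.mk_surjective x
      exact hφ y v
    have h2 : ∀ z : GA (N ⧸ R), ∀ v, φ (opr M π (σ i) z v) = opr M π (σ j) z (φ v) := by
      intro z v
      rw [opr_apply, opr_apply, map_sum]
      refine Finset.sum_congr rfl fun x _ => ?_
      rw [map_smul, h1]
    have h3 := BlockPPrime.locA_eB_of_not_dvd hM hRidx ({Ψ i} : Set (IrrCharacter (N ⧸ R)))
    apply LinearMap.ext
    intro v
    have h4 := h2 (eB {Ψ i}) v
    rw [hσz i _ (eB_mem_center _) h3, hσz j _ (eB_mem_center _) h3,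
      omega_eB_mem (Set.mem_singleton _), omega_eB_not_mem (by
        rw [Set.mem_singleton_iff]
        intro h
        exact hij (hΨinj h).symm), res_one π hπ, res_zero π hπ] at h4
    simpa using h4
  have hρne : ∀ i j, i ≠ j → ∀ f : (Fin (n i) → k) →ₗ[k] (Fin (n j) → k),
      (∀ g v, f (ρ i g v) = ρ j g (f v)) → f = 0 := by
    intro i j hij f hf
    by_contra hf0
    have hbij := inter_bij (hρ i) (hρ j) hf hf0
    have hQ' : HasQ p D.u (ρ j) ((σ i).comp (QuotientGroup.mk' R)) := by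
      obtain ⟨ι', hι', hr⟩ := hQ i
      have hι'' : ∀ (x : N) v, ι' ((σ i).comp (QuotientGroup.mk' R) x v) = ρ i x (ι' v) := hι'
      refine ⟨f ∘ₗ ι', ?_, ?_⟩
      · intro x v
        rw [LinearMap.comp_apply, LinearMap.comp_apply, hι'', hf]
      · intro hcon
        apply hr
        rintro _ ⟨v, rfl⟩
        obtain ⟨w, hw⟩ := hcon ⟨v, rfl⟩
        obtain ⟨w', rfl⟩ := hbij.2 w
        refine ⟨w', ?_⟩
        apply hbij.1
        have h1 : T p D.u (ρ j) (f w') = f (T p D.u (ρ i) w') := by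
          rw [T, T, LinearMap.sum_apply, LinearMap.sum_apply, map_sum]
          refine Finset.sum_congr rfl fun x _ => ?_
          rw [← map_pow, ← map_pow, hf]
        rw [← h1, hw]
        rfl
    obtain ⟨φ, hφ, hφ0⟩ := unique hD hpK hTI (ρ j) (hρ j) _ (hσ i) (hσt i) hQ' _ (hσt j) (hQ j)
    exact hφ0 (hσne j i (Ne.symm hij) φ hφ)
  have hgramC : ∀ q q' : τ, ∑ χ : B, (a q χ : ℂ) * conj (a q' χ : ℂ) = e + if q = q' then 1 else 0 := by
    intro q q'
    have h1 := hgram q q'
    have h2 : ((∑ χ : B, a q χ * a q' χ : ℤ) : ℂ) = ((e + if q = q' then 1 else 0 : ℤ) : ℂ) := by rw [h1]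
    push_cast at h2
    rw [← h2]
    exact Finset.sum_congr rfl fun χ _ => by simp
  have hindep := indep_of_gram e (fun q χ => (a q χ : ℂ)) hgramC
  have hrank := DefOneRank.rank_bound π hM hπ hsurj (locA_eB hB) ρ hρ hρne hBρ (fun q χ => (a q χ : ℂ)) hindep
    (by
      intro q g hg
      have h1 := relation D hM hB θ ((Quotient.out q : (ZMod p)ˣ) : ZMod p) hg
      rw [← h1]
      refine Finset.sum_congr rfl fun χ _ => ?_
      rw [hA])
  have hle : e + Fintype.card τ ≤ Fintype.card B := by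
    rw [← Nat.card_eq_fintype_card (α := B)]
    omega
  obtain ⟨hcardB, Y, s, hY, hs, hs1, hs2⟩ := DefOneComb.main e a hgram hrow hle
  refine ⟨hcardB, Y, s, hY, hs, ?_, ?_⟩
  · intro χ hχ i
    rw [hA, hAinv]
    have := hs1 χ hχ (i : τ)
    exact_mod_cast this
  · intro i q
    rw [hA, hAinv]
    have h1 := hs2 (i : τ) q
    change A (Y q) _ = _ at h1
    rw [h1]
    split_ifs <;> simp

end Cfsg.Agent.Lib.DefOne
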