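import Cfsg.Agent.Lib.DefPairs
import Cfsg.Agent.Lib.BlockThird

/-!
# Principal blocks and Brauer pairs: defect groups of the principal block, third main theorem
-/

set_option autoImplicit false
set_option linter.all false
set_option synthInstance.maxHeartbeats 400000

namespace Cfsg.Agent.Lib.PrincPairs

open Cfsg Cfsg.Agent.Lib.BlockRing Cfsg.Agent.Lib.BlockGA Cfsg.Agent.Lib.BlockIdem
open Cfsg.Agent.Lib.BlkIdem Cfsg.Agent.Lib.BlockAlg Cfsg.Agent.Lib.PairAlg Cfsg.Agent.Lib.PairMax
open Cfsg.Agent.Lib.BrauerPairs Cfsg.Agent.Lib.NormalPBlk Cfsg.Agent.Lib.DefPairs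
open Cfsg.Agent.Lib.BlockThird

universe u

/-! ### augmentation -/

section aug

variable {k : Type*} [Field k] {G : Type u} [Group G]

/-- the augmentation -/
noncomputable def aug : MonoidAlgebra k G →ₐ[k] k := MonoidAlgebra.lift k k G (1 : G →* k)

theorem aug_eq [Fintype G] (w : MonoidAlgebra k G) : aug w = ∑ x : G, w.coeff x := by
  unfold aug
  rw [MonoidAlgebra.lift_apply]
  rw [Finsupp.sum_fintype]
  · apply Finset.sum_congr rfl
    intro x _
    simp
  · intro x; simp

theorem aug_cj [Finite G] (x : G) (w : MonoidAlgebra k G) : aug (BrauerMap.cj x w) = aug w := by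
  have := Fintype.ofFinite G
  rw [aug_eq, aug_eq]
  simp only [BrauerMap.cj_coeff]
  rw [← Equiv.sum_comp (MulAut.conj x⁻¹).toEquiv (fun y => w.coeff y)]
  apply Finset.sum_congr rfl
  intro y _
  show _ = w.coeff (x⁻¹ * y * x⁻¹⁻¹)
  rw [inv_inv]

theorem aug_br [Finite G] {p : ℕ} [Fact p.Prime] [CharP k p] {P : Subgroup G} (hP : IsPGroup p P)
    {w : MonoidAlgebra k G} (hw : w ∈ BrauerMap.fixAlg k P) : aug (BrauerMap.br P w) = aug w := by
  classical
  have := Fintype.ofFinite G
  rw [aug_eq, aug_eq, BrauerMap.sum_conj_fixed P hP (fun x => w.coeff x)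
    (fun u hu x => BrauerMap.coeff_conj hw hu x)]
  rw [Finset.sum_filter]
  apply Finset.sum_congr rfl
  intro x _
  by_cases hx : x ∈ Subgroup.centralizer (P : Set G)
  · rw [if_pos hx, BrauerMap.br_coeff_mem hx]
  · rw [if_neg hx, BrauerMap.br_coeff_not_mem hx]

theorem aug_nle [Finite G] {p : ℕ} [Fact p.Prime] [CharP k p] {P Q : Subgroup G}
    {f e : MonoidAlgebra k G} (h : NLE p Q f P e) (he : aug e = 1) : aug f = 1 := by
  have h1 := congrArg aug h.br_mul
  rw [map_mul, he, mul_one, aug_br h.pairP.1 (BrauerMap.mem_fixAlg.mpr h.stab)] at h1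
  exact h1

theorem aug_ple [Finite G] {p : ℕ} [Fact p.Prime] [CharP k p] {a b : Subgroup G × MonoidAlgebra k G}
    (h : PLE p a b) (he : aug b.2 = 1) : aug a.2 = 1 := by
  unfold PLE at h
  induction h using Relation.ReflTransGen.head_induction_on with
  | refl => exact he
  | head h1 _ ih => exact aug_nle h1 ih

end aug

section dict

variable {p : ℕ} [hp : Fact p.Prime] {M : Ideal AlgInt} [hMm : M.IsMaximal]
  {G : Type u} [Group G] [Finite G]

omit hp in
theorem aug_redA {z : GA G} (hz : LocA M z) : aug (redA M z) = red M (omega (fun _ : G => (1 : ℂ)) z) := by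
  have := hMm.isPrime
  have := Fintype.ofFinite G
  rw [aug_eq]
  unfold omega
  rw [lin_apply, div_one, red_sum]
  · apply Finset.sum_congr rfl
    intro x _
    rw [redA_coeff, mul_one]
  · intro x _
    rw [mul_one]
    exact hz x

omit hp in
theorem aug_inc (H : Subgroup G) (w : MonoidAlgebra (Kf M) H) : aug (inc H w) = aug w := by
  classical
  have := Fintype.ofFinite G
  have := Fintype.ofFinite H
  rw [aug_eq, aug_eq]
  have h1 : ∑ x : H, w.coeff x = ∑ x : H, (inc H w).coeff (x : G) :=
    Finset.sum_congr rfl fun x _ => (inc_coeff_coe H w x).symm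
  rw [h1]
  have h2 : ∑ x : G, (inc H w).coeff x = ∑ x ∈ Finset.univ.filter (fun x : G => x ∈ H), (inc H w).coeff x := by
    rw [Finset.sum_filter]
    apply Finset.sum_congr rfl
    intro x _
    by_cases hx : x ∈ H
    · rw [if_pos hx]
    · rw [if_neg hx, inc_coeff_not_mem H w hx]
  rw [h2]
  symm
  exact (Finset.sum_subtype _ (fun x => by simp) _).symm

omit hp in
/-- the principal block is detected by the augmentation -/
theorem principal_iff_aug {H : Subgroup G} {b : Set (IrrCharacter H)} (hb : IsPBlock M b) :
    b = principalBlock M H ↔ aug (bid M H b) = 1 := by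
  have := hMm.isPrime
  have h1 : aug (bid M H b) = red M (omega (triv H : H → ℂ) (eB b)) := by
    unfold bid
    rw [aug_inc, aug_redA (locA_eB hb)]
    rfl
  rw [h1]
  constructor
  · rintro rfl
    rw [omega_eB_mem triv_mem, red_one]
  · intro h
    by_contra hne
    have h2 : triv H ∉ b := by
      intro h3
      exact hne (block_eq_of_mem hb isPBlock_principal h3 triv_mem)
    rw [omega_eB_not_mem h2, red_zero] at h
    exact zero_ne_one h

omit hp in
theorem principalG_iff_aug {b : Set (IrrCharacter G)} (hb : IsPBlock M b) :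
    b = principalBlock M G ↔ aug (bidG M b) = 1 := by
  have := hMm.isPrime
  have h1 : aug (bidG M b) = red M (omega (triv G : G → ℂ) (eB b)) := by
    unfold bidG
    rw [aug_redA (locA_eB hb)]
    rfl
  rw [h1]
  constructor
  · rintro rfl
    rw [omega_eB_mem triv_mem, red_one]
  · intro h
    by_contra hne
    have h2 : triv G ∉ b := by
      intro h3
      exact hne (block_eq_of_mem hb isPBlock_principal h3 triv_mem)
    rw [omega_eB_not_mem h2, red_zero] at h
    exact zero_ne_one h

variable [hchar : CharP (Kf M) p]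

/-- the principal pair at `P` is a Brauer pair of the principal block -/
theorem principal_pair {P : Subgroup G} (hP : IsPGroup p P) :
    BrauerMap.br P (bidG M (principalBlock M G)) *
      bid M _ (principalBlock M (Subgroup.centralizer (P : Set G))) =
      bid M _ (principalBlock M (Subgroup.centralizer (P : Set G))) := by
  have := hMm.isPrime
  have hb0 : IsPBlock M (principalBlock M (Subgroup.centralizer (P : Set G))) := isPBlock_principal
  have hpair : BPair p P (bid M _ (principalBlock M (Subgroup.centralizer (P : Set G)))) :=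
    ⟨hP, isBlk_bid hb0⟩
  obtain ⟨B, hB, hBe⟩ := exists_blk_of_pair hasBlocks hpair
  obtain ⟨b, hb, rfl⟩ := exists_bidG hB
  have h1 := congrArg aug hBe
  rw [map_mul, (principal_iff_aug hb0).mp rfl, mul_one,
    aug_br hP (BrauerMap.fixAlg_anti le_top (bidG_mem b).2)] at h1
  have h2 := (principalG_iff_aug hb).mpr h1
  rw [← h2]
  exact hBe

omit hMm hchar in
theorem maxPair_sylow {k : Type*} [Field k] (S : Sylow p G) (e : MonoidAlgebra k G) :
    MaxPair p (S : Subgroup G) e := by
  intro R s h
  exact S.is_maximal' h.pairP.1 h.le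

/-- Brauer's third main theorem in terms of pairs -/
theorem third_main {Q : Subgroup G} (hQ : IsPGroup p Q)
    {e : Set (IrrCharacter (Subgroup.centralizer (Q : Set G)))} (he : IsPBlock M e) :
    BrauerMap.br Q (bidG M (principalBlock M G)) * bid M _ e = bid M _ e ↔
      e = principalBlock M (Subgroup.centralizer (Q : Set G)) := by
  have := hMm.isPrime
  constructor
  · intro h
    obtain ⟨S⟩ := (inferInstance : Nonempty (Sylow p G))
    have hB0 : IsPBlock M (principalBlock M G) := isPBlock_principal
    have hb0 : IsPBlock M (principalBlock M (Subgroup.centralizer ((S : Subgroup G) : Set G))) :=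
      isPBlock_principal
    obtain ⟨x, hx⟩ := (maxPair_sylow S _).conj_into (p := p) hasBlocks (isBlk_bidG hB0)
      ⟨S.isPGroup', isBlk_bid hb0⟩ (principal_pair S.isPGroup') ⟨hQ, isBlk_bid he⟩ h
    have h1 := aug_ple hx ((principal_iff_aug hb0).mp rfl)
    rw [principal_iff_aug he]
    simp only [aug_cj] at h1
    exact h1
  · rintro rfl
    exact principal_pair hQ

end dict

/-! ### defect groups of the principal block -/

section defect

variable {p : ℕ} [hp : Fact p.Prime] {M : Ideal AlgInt} [hMm : M.IsMaximal]
  {G : Type u} [Group G] [Finite G]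

omit hp in
theorem centralChar_triv (g : G) :
    centralChar (triv G : G → ℂ) g = ((Subgroup.centralizer ({g} : Set G)).index : ℂ) := by
  unfold centralChar
  rw [coe_triv]
  simp

theorem card_of_defectGroup_principal (hM : IsPModular p M) {D : Subgroup G}
    (hD : IsDefectGroup p M (principalBlock M G) D) :
    Nat.card D = p ^ (Nat.card G).factorization p := by
  have := hMm.isPrime
  obtain ⟨g, hg, P, rfl⟩ := hD
  have h1 := hg.2.2 (triv G) triv_mem
  rw [centralChar_triv, idl_natCast_iff hM] at h1
  rw [card_map_subtype, P.card_eq_multiplicity]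
  congr 1
  have h2 := (Subgroup.centralizer ({g} : Set G)).card_mul_index
  rw [← h2, Nat.factorization_mul Nat.card_pos.ne' Subgroup.index_ne_zero_of_finite,
    Finsupp.add_apply, Nat.factorization_eq_zero_of_not_dvd h1, add_zero]

theorem isDefectGroup_principal_iff (hM : IsPModular p M) [CharP (Kf M) p] {D : Subgroup G} :
    IsDefectGroup p M (principalBlock M G) D ↔ ∃ S : Sylow p G, (S : Subgroup G) = D := by
  have := hMm.isPrime
  have hB0 : IsPBlock M (principalBlock M G) := isPBlock_principal
  constructor
  · intro h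
    exact ⟨Sylow.ofCard D (card_of_defectGroup_principal hM h), rfl⟩
  · rintro ⟨S, rfl⟩
    obtain ⟨g, hg⟩ := exists_defectClass hB0
    obtain ⟨P⟩ := (inferInstance : Nonempty (Sylow p (Subgroup.centralizer ({g} : Set G))))
    have h1 : IsDefectGroup p M (principalBlock M G) _ := ⟨g, hg, P, rfl⟩
    obtain ⟨x, hx⟩ := MulAction.exists_smul_eq G
      (Sylow.ofCard _ (card_of_defectGroup_principal hM h1) : Sylow p G) S
    rw [isDefectGroup_iff hB0] at h1 ⊢
    have h2 := dg_conj_self h1 (x := x) trivial ((bidG_mem _).2 x trivial)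
    have h3 : (S : Subgroup G) = (((P : Subgroup (Subgroup.centralizer ({g} : Set G))).map
        (Subgroup.centralizer ({g} : Set G)).subtype : Subgroup G)).map (MulAut.conj x).toMonoidHom := by
      rw [← hx]
      ext y
      rw [mem_map_conj_iff, Sylow.coe_subgroup_smul, Subgroup.mem_pointwise_smul_iff_inv_smul_mem]
      have e1 : (MulAut.conj x)⁻¹ • y = x⁻¹ * y * x := by
        show (MulAut.conj x)⁻¹ y = _
        rw [← map_inv, MulAut.conj_apply, inv_inv]
      rw [e1]
      rfl
    rw [h3]
    exact h2

end defect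

end Cfsg.Agent.Lib.PrincPairs
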