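import Mathlib
import Cfsg.Agent.Lib.DefOne
import Cfsg.Agent.Lib.BlockThird
import Cfsg.Agent.Lib.PrincPairs
import Cfsg.Agent.Lib.BlockAlg

set_option autoImplicit false
set_option linter.all false

/-!
# The principal block of a group with a Sylow subgroup of prime order
-/

namespace Cfsg.Agent.Lib.DefOnePrin

open Cfsg Cfsg.Agent.Lib.BlockRing Cfsg.Agent.Lib.BlockGA Cfsg.Agent.Lib.BlockIdem
open Cfsg.Agent.Lib.BlockSecond Cfsg.Agent.Lib.BlockNormP
open Cfsg.Agent.Lib.DefOneLoc Cfsg.Agent.Lib.DefOneOrd Cfsg.Agent.Lib.CharBasic Cfsg.Agent.Lib.DefOneGram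
open Module Cfsg.Agent.Lib.ModRep Cfsg.Agent.Lib.DefOneMod Cfsg.Agent.Lib.DefOneTrace Cfsg.Agent.Lib.DefOneRes
open Cfsg.Agent.Lib.DefOneBlk Cfsg.Agent.Lib.DefOne Cfsg.Agent.Lib.BlockThird
open scoped ComplexConjugate
open MonoidAlgebra (single)

universe u

variable {G : Type u} [Group G] [Fintype G] {p : ℕ} [hp : Fact p.Prime] {P N C : Subgroup G}
  (D : Loc p P N C)

section values

variable [Fintype C]

/-- values of the block part on `p`-singular elements -/
theorem blockPart_sing (χ : G → ℂ) (θ : IrrCharacter C) (ht : TrivOn D (θ : C → ℂ)) {c : C} (hc : D.l c ≠ 0) :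
    blockPart (fam D θ) (rs C χ) c = (θ : C → ℂ) c * ∑ i : ZMod p, dm D χ θ i * lam D i c := by
  rw [blockPart_fam D χ θ ht]
  have h1 : ∀ i : ZMod p, mu D χ θ i * (LT D θ i : C → ℂ) c =
      (θ : C → ℂ) c * (dm D χ θ i * lam D i c) + (θ : C → ℂ) c * mu D χ θ 0 * lam D i c := by
    intro i
    rw [LT_apply, dm]; ring
  rw [Finset.sum_congr rfl (fun i _ => h1 i), Finset.sum_add_distrib, ← Finset.mul_sum, ← Finset.mul_sum,
    sum_lam, if_neg hc, mul_zero, add_zero]

/-- sum over the nonzero characters -/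
theorem sum_units_lam {c : C} (hc : D.l c ≠ 0) : ∑ i : (ZMod p)ˣ, lam D (i : ZMod p) c = -1 := by
  classical
  have h1 := sum_lam D c
  rw [if_neg hc] at h1
  have h2 : ∑ i : ZMod p, lam D i c = lam D 0 c + ∑ i : (ZMod p)ˣ, lam D (i : ZMod p) c := by
    rw [← Finset.add_sum_erase Finset.univ _ (Finset.mem_univ (0 : ZMod p))]
    congr 1
    symm
    refine Finset.sum_bij (fun i _ => (i : ZMod p)) ?_ ?_ ?_ ?_
    · intro i _
      rw [Finset.mem_erase]
      exact ⟨i.ne_zero, Finset.mem_univ _⟩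
    · intro i _ j _ h; exact Units.ext h
    · intro i hi
      exact ⟨Units.mk0 i (Finset.mem_erase.1 hi).1, Finset.mem_univ _, rfl⟩
    · intro i _; rfl
  rw [h2, lam_zero] at h1
  have h3 : (1 : C → ℂ) c = 1 := rfl
  rw [h3] at h1
  linear_combination h1

/-- split off `i = 0` -/
theorem sum_zmod_units (f : ZMod p → ℂ) : ∑ i : ZMod p, f i = f 0 + ∑ i : (ZMod p)ˣ, f (i : ZMod p) := by
  classical
  rw [← Finset.add_sum_erase Finset.univ _ (Finset.mem_univ (0 : ZMod p))]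
  congr 1
  symm
  refine Finset.sum_bij (fun i _ => (i : ZMod p)) ?_ ?_ ?_ ?_
  · intro i _
    rw [Finset.mem_erase]
    exact ⟨i.ne_zero, Finset.mem_univ _⟩
  · intro i _ j _ h; exact Units.ext h
  · intro i hi
    exact ⟨Units.mk0 i (Finset.mem_erase.1 hi).1, Finset.mem_univ _, rfl⟩
  · intro i _; rfl

variable {M : Ideal AlgInt}

/-- characters of the principal block on `p`-singular elements -/
theorem value_principal (hM : IsPModular p M) (hpC : ¬ p ^ 2 ∣ Nat.card C) {χ : IrrCharacter G}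
    (hχ : χ ∈ principalBlock M G) {c : C} (hc : D.l c ≠ 0) :
    (χ : G → ℂ) c = ∑ i : ZMod p, dm D (χ : G → ℂ) (triv C) i * lam D i c := by
  classical
  have := isPrime hM
  have hB : IsPBlock M (principalBlock M G) := isPBlock_principal
  have ht : TrivOn D ((triv C : IrrCharacter C) : C → ℂ) := by
    intro x _
    rw [coe_triv]
  have hfin : Fintype {b : Set (IrrCharacter C) // IsPBlock M b} := Fintype.ofFinite _
  have hbb : principalBlock M C = fam D (triv C) := by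
    rw [← blockOf_eq_fam D hM hpC (triv C) ht]
    rfl
  have hzero : ∀ b : Set (IrrCharacter C), IsPBlock M b → b ≠ principalBlock M C →
      blockPart b (rs C (χ : G → ℂ)) c = 0 := by
    intro b hb hbne
    apply blockPart_eq_zero D hM hb hB _ hχ hc
    intro h
    exact hbne ((BlockThird.induced_principal_iff hM h).2 rfl)
  have h1 : (χ : G → ℂ) c = lin (χ : G → ℂ) (single (c : G) 1 * incH C 1) := by
    rw [map_one, mul_one, lin_single, one_mul]
  rw [h1, ← sum_eB_blocks (M := M), map_sum, Finset.mul_sum, lin_sum]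
  rw [Finset.sum_eq_single ⟨principalBlock M C, isPBlock_principal⟩]
  · rw [← blockPart_rs χ.2.isClassFunction]
    change blockPart (principalBlock M C) (rs C (χ : G → ℂ)) c = _
    rw [hbb, blockPart_sing D _ _ ht hc, coe_triv, one_mul]
  · intro b _ hb
    rw [← blockPart_rs χ.2.isClassFunction]
    exact hzero b b.2 (fun h => hb (Subtype.ext h))
  · intro h; exact absurd (Finset.mem_univ _) h

end values

/-! ### the principal block -/

section principal

variable {M : Ideal AlgInt} (Q : Sylow p G)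

/-- the linear characters of `N / P` trivial on `C` -/
noncomputable def linQ (hN : ∀ n : N, (n : G) ∈ P → κu D n = 1) (φ : (κu D).range →* ℂˣ)
    (R : Subgroup N) [R.Normal] (hR : ∀ n : N, n ∈ R ↔ (n : G) ∈ P) : N ⧸ R →* ℂˣ :=
  QuotientGroup.lift R (φ.comp (κu D).rangeRestrict) (by
    intro n hn
    have h1 : (κu D).rangeRestrict n = 1 := Subtype.ext (hN n ((hR n).1 hn))
    rw [MonoidHom.mem_ker, MonoidHom.comp_apply, h1, map_one])

open scoped Classical in
theorem main_principal (hM : IsPModular p M) (hQ : Nat.card Q = p) :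
    ∃ (D : Loc p (Q : Subgroup G) (Subgroup.normalizer ((Q : Subgroup G) : Set G))
      (Subgroup.centralizer ((Q : Subgroup G) : Set G)))
      (hC : Fintype (Subgroup.centralizer ((Q : Subgroup G) : Set G)))
      (Y : (ZMod p)ˣ ⧸ (κu D).range → principalBlock M G) (s : principalBlock M G → ℤ),
      Nat.card (principalBlock M G) = Nat.card (κu D).range + Nat.card ((ZMod p)ˣ ⧸ (κu D).range) ∧
      Function.Injective Y ∧ (∀ χ, s χ = 1 ∨ s χ = -1) ∧
      (∀ χ, χ ∉ Set.range Y → ∀ i : (ZMod p)ˣ, dm D ((χ : IrrCharacter G) : G → ℂ) (triv _) i = s χ) ∧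
      (∀ (i : (ZMod p)ˣ) q, dm D ((Y q : IrrCharacter G) : G → ℂ) (triv _) i =
        if (i : (ZMod p)ˣ ⧸ (κu D).range) = q then (s (Y q) : ℂ) else 0) := by
  classical
  have hprime := isPrime hM
  have hmax : M.IsMaximal := hM.2.1
  obtain ⟨D⟩ := exists_loc Q hQ
  obtain ⟨u, K, hD0, hpK, hdisj, hTI⟩ := exists_data Q hQ
  set P : Subgroup G := (Q : Subgroup G) with hPdef
  set N := Subgroup.normalizer (P : Set G) with hNdef
  set C := Subgroup.centralizer (P : Set G) with hCdef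
  have hD : Data p P N K D.u := ⟨D.uP, D.ordu, D.gen, hD0.PN, fun n hn => D.norm n hn _ D.uP, hD0.KN, hD0.fac⟩
  haveI : CharP (BlockAlg.Kf M) p := BlockAlg.charP_Kf hM
  haveI : IsAlgClosed (BlockAlg.Kf M) := DefOneRes.isAlgClosed (BlockAlg.mkK M) BlockAlg.mkK_surjective
  letI : Fintype C := Fintype.ofFinite C
  letI : Fintype N := Fintype.ofFinite N
  have hPC : P ≤ C := D.PC
  have hsq : ¬ p ^ 2 ∣ Nat.card G := by
    intro h
    have h1 := Q.card_eq_multiplicity
    rw [hQ] at h1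
    have h2 : (Nat.card G).factorization p = 1 := by
      have h3 : p ^ 1 = p ^ (Nat.card G).factorization p := by rw [pow_one]; exact h1
      exact (Nat.pow_right_injective hp.out.two_le h3).symm
    have h3 := (hp.out.pow_dvd_iff_le_factorization Nat.card_pos.ne').1 h
    omega
  have hsqC : ¬ p ^ 2 ∣ Nat.card C := fun h => hsq (h.trans (Subgroup.card_subgroup_dvd_card C))
  -- the subgroup `R`
  have hRn : (P.subgroupOf N).Normal := by
    refine ⟨fun n hn g => ?_⟩
    rw [Subgroup.mem_subgroupOf] at hn ⊢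
    exact D.norm g g.2 n hn
  have hR : ∀ n : N, n ∈ P.subgroupOf N ↔ (n : G) ∈ P := fun n => Subgroup.mem_subgroupOf
  letI : Fintype (N ⧸ P.subgroupOf N) := Fintype.ofFinite _
  have hRidx : ¬ p ∣ Nat.card (N ⧸ P.subgroupOf N) := by
    intro h
    apply hsq
    have h1 : Nat.card N = Nat.card (N ⧸ P.subgroupOf N) * Nat.card (P.subgroupOf N) :=
      Subgroup.card_eq_card_quotient_mul_card_subgroup _
    have h2 : Nat.card (P.subgroupOf N) = p := by
      rw [← hQ]
      exact Nat.card_congr (Subgroup.subgroupOfEquivOfLe hD0.PN).toEquiv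
    have h3 : p ^ 2 ∣ Nat.card N := by
      rw [h1, h2, pow_two]
      exact mul_dvd_mul_right h p
    exact h3.trans (Subgroup.card_subgroup_dvd_card N)
  have hC' : C = P ⊔ Subgroup.centralizer (P : Set G) := (sup_eq_right.2 hPC).symm
  have ht : TrivOn D ((triv C : IrrCharacter C) : C → ℂ) := by
    intro x _
    rw [coe_triv]
  have hDG : IsDefectGroup p M (principalBlock M G) P := (PrincPairs.isDefectGroup_principal_iff hM).2 ⟨Q, rfl⟩
  have hPp : IsPGroup p P := Q.isPGroup'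
  have hind : IsInducedBlock M C (blockOf M ((triv C : IrrCharacter C) : C → ℂ)) (principalBlock M G) := by
    obtain ⟨B, hB⟩ := BlockHom.inducedBlockDefined (H := C) hM hPp hPC le_rfl D.CN (isPBlock_principal (M := M))
    have h1 := (BlockThird.induced_principal_iff hM hB).1 rfl
    rw [h1] at hB
    exact hB
  -- `HT` is the range
  have hHT : HT D (triv C) = (κu D).range := by
    rw [HT, MonoidHom.range_eq_map]
    congr 1
    rw [eq_top_iff]
    intro n _
    rw [mem_inN]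
    apply Subtype.ext
    funext c
    rw [cjI_apply, coe_triv]
  have hκP : ∀ n : N, (n : G) ∈ P → κu D n = 1 := by
    intro n hn
    apply Units.ext
    rw [κu_apply]
    exact (D.κ_eq n).2 (hPC hn)
  -- the linear characters
  have hfin : Finite ((κu D).range →* ℂˣ) := by
    apply Nat.finite_of_card_ne_zero
    rw [CommGroup.card_monoidHom_of_hasEnoughRootsOfUnity]
    exact Nat.card_pos.ne'
  letI : Fintype ((κu D).range →* ℂˣ) := Fintype.ofFinite _
  let Ψ : ((κu D).range →* ℂˣ) → IrrCharacter (N ⧸ P.subgroupOf N) := fun φ =>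
    ⟨fun x => (linQ D hκP φ (P.subgroupOf N) hR x : ℂ), isIrrCharacter_of_unitsHom _⟩
  have hΨapply : ∀ φ (n : N), (Ψ φ : N ⧸ P.subgroupOf N → ℂ) (n : N ⧸ P.subgroupOf N) = φ ((κu D).rangeRestrict n) :=
    fun φ n => rfl
  have hΨinj : Function.Injective Ψ := by
    intro φ φ' h
    ext x
    obtain ⟨n, hn⟩ := (κu D).rangeRestrict_surjective x
    have h1 := congrFun (congrArg Subtype.val h) (n : N ⧸ P.subgroupOf N)
    rw [hΨapply, hΨapply, hn] at h1
    exact h1
  have hΨ : ∀ φ, classInner (rN D (fun n : N => (Ψ φ : N ⧸ P.subgroupOf N → ℂ) (n : N ⧸ P.subgroupOf N)))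
      ((triv C : IrrCharacter C) : C → ℂ) ≠ 0 := by
    intro φ
    have h1 : rN D (fun n : N => (Ψ φ : N ⧸ P.subgroupOf N → ℂ) (n : N ⧸ P.subgroupOf N)) =
        ((triv C : IrrCharacter C) : C → ℂ) := by
      funext c
      change ((φ ((κu D).rangeRestrict ⟨c, D.CN c.2⟩) : ℂˣ) : ℂ) = 1
      have h2 : (κu D).rangeRestrict ⟨c, D.CN c.2⟩ = 1 := by
        apply Subtype.ext
        apply Units.ext
        exact (D.κ_eq _).2 c.2
      rw [h2, map_one]; rfl
    rw [h1, irr_orthonormal, if_pos rfl]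
    exact one_ne_zero
  letI : Fintype (principalBlock M G) := Fintype.ofFinite _
  letI : Fintype ((ZMod p)ˣ ⧸ HT D (triv C)) := Fintype.ofFinite _
  have hmain := DefOne.main D (BlockAlg.mkK M) hM (fun a => BlockAlg.mkK_eq_zero_iff) BlockAlg.mkK_surjective hD hpK
    hTI (P.subgroupOf N) hR hRidx hsqC hsq hC' rfl ht hDG hind Ψ hΨinj hΨ (by
      rw [hHT, ← Nat.card_eq_fintype_card, CommGroup.card_monoidHom_of_hasEnoughRootsOfUnity])
  refine ⟨D, inferInstance, ?_⟩
  rw [← Nat.card_eq_fintype_card, ← Nat.card_eq_fintype_card] at hmain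
  revert hmain
  generalize_proofs
  generalize HT D (triv C) = H at *
  subst hHT
  rintro ⟨h1, Y, s, h2, h3, h4, h5⟩
  exact ⟨Y, s, h1, h2, h3, h4, fun i q => by rw [h5]; congr⟩

theorem not_sq (hQ : Nat.card Q = p) : ¬ p ^ 2 ∣ Nat.card G := by
  intro h
  have h1 := Q.card_eq_multiplicity
  rw [hQ] at h1
  have h2 : (Nat.card G).factorization p = 1 := by
    have h3 : p ^ 1 = p ^ (Nat.card G).factorization p := by rw [pow_one]; exact h1
    exact (Nat.pow_right_injective hp.out.two_le h3).symm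
  have h3 := (hp.out.pow_dvd_iff_le_factorization Nat.card_pos.ne').1 h
  omega

theorem card_range : Nat.card (κu D).range = C.relIndex N := by
  have h1 : (κu D).ker = C.subgroupOf N := by
    ext n
    rw [MonoidHom.mem_ker, Subgroup.mem_subgroupOf, ← D.κ_eq, ← κu_apply]
    exact Units.val_eq_one.symm
  rw [← Subgroup.index_ker, h1, Subgroup.relIndex]

/-- sum over `P` -/
theorem sum_P (χ : IrrCharacter G) : ∃ m : ℤ, ∑ x : ZMod p, (χ : G → ℂ) (D.u ^ x.val) = p * m := by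
  classical
  have h1 : IsCharacter (Subgroup.zpowers D.u) (fun x => (χ : G → ℂ) x) := χ.2.isCharacter.restrict _
  letI : Fintype (Subgroup.zpowers D.u) := Fintype.ofFinite _
  obtain ⟨m, hm⟩ := h1.classInner_nat isIrrCharacter_fun_one.isCharacter
  refine ⟨m, ?_⟩
  have hcard : Nat.card (Subgroup.zpowers D.u) = p := by rw [Nat.card_zpowers, D.ordu]
  rw [classInner_def, hcard] at hm
  have hp0 : (p : ℂ) ≠ 0 := by exact_mod_cast hp.out.ne_zero
  have h2 : ∑ x : Subgroup.zpowers D.u, (χ : G → ℂ) x * conj (1 : ℂ) = p * m := by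
    have h3 := congrArg (fun z => (p : ℂ) * z) hm
    beta_reduce at h3
    rw [← mul_assoc, mul_inv_cancel₀ hp0, one_mul] at h3
    rw [h3]
  have h3 : ∑ x : Subgroup.zpowers D.u, (χ : G → ℂ) x * conj (1 : ℂ) = ∑ x : ZMod p, (χ : G → ℂ) (D.u ^ x.val) := by
    symm
    refine Finset.sum_bij (fun x _ => (⟨D.u ^ x.val, Subgroup.npow_mem_zpowers _ _⟩ : Subgroup.zpowers D.u)) ?_ ?_ ?_ ?_
    · intro i _; exact Finset.mem_univ _
    · intro i hi j hj h
      have h4 : D.u ^ i.val = D.u ^ j.val := congrArg Subtype.val h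
      apply ZMod.val_injective
      exact pow_injOn_Iio_orderOf (by rw [Set.mem_Iio, D.ordu]; exact ZMod.val_lt i)
        (by rw [Set.mem_Iio, D.ordu]; exact ZMod.val_lt j) h4
    · rintro ⟨x, hx⟩ _
      have h5 : x ∈ Submonoid.powers D.u := mem_powers_iff_mem_zpowers.2 hx
      obtain ⟨n, hn⟩ := h5
      refine ⟨(n : ZMod p), Finset.mem_univ _, ?_⟩
      apply Subtype.ext
      change D.u ^ (n : ZMod p).val = x
      have hn' : D.u ^ n = x := hn
      rw [ZMod.val_natCast, ← hn']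
      have := pow_mod_orderOf D.u n
      rwa [D.ordu] at this
    · intro i _
      change _ = (χ : G → ℂ) (D.u ^ i.val) * conj (1 : ℂ)
      rw [map_one, mul_one]
  rw [← h3, h2]; norm_cast

theorem l_pow (n : ℕ) : D.l ⟨D.u ^ n, C.pow_mem (D.PC D.uP) n⟩ = n := by
  induction n with
  | zero =>
    have h1 : (⟨D.u ^ 0, C.pow_mem (D.PC D.uP) 0⟩ : C) = 1 := Subtype.ext (pow_zero _)
    rw [h1, l_one, Nat.cast_zero]
  | succ n ih =>
    have h1 : (⟨D.u ^ (n + 1), C.pow_mem (D.PC D.uP) (n + 1)⟩ : C) =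
        ⟨D.u ^ n, C.pow_mem (D.PC D.uP) n⟩ * ⟨D.u, D.PC D.uP⟩ := Subtype.ext (pow_succ _ _)
    rw [h1, D.l_mul, ih, D.l_u]; push_cast; rfl

/-- degrees of characters in the principal block -/
theorem degree_principal [Fintype C] (hM : IsPModular p M) (hpC : ¬ p ^ 2 ∣ Nat.card C) {χ : IrrCharacter G}
    (hχ : χ ∈ principalBlock M G) : ∃ m : ℤ, (χ : G → ℂ) 1 = p * m +
      ∑ i : (ZMod p)ˣ, dm D (χ : G → ℂ) (triv C) (i : ZMod p) := by
  obtain ⟨m, hm⟩ := sum_P D χ
  refine ⟨m, ?_⟩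
  rw [sum_zmod_units, ZMod.val_zero, pow_zero] at hm
  have hl : ∀ x : (ZMod p)ˣ, D.l ⟨D.u ^ (x : ZMod p).val, C.pow_mem (D.PC D.uP) _⟩ = x := by
    intro x
    rw [l_pow, ZMod.natCast_zmod_val]
  have h1 : ∀ x : (ZMod p)ˣ, (χ : G → ℂ) (D.u ^ (x : ZMod p).val) =
      ∑ i : (ZMod p)ˣ, dm D (χ : G → ℂ) (triv C) (i : ZMod p) * ZMod.stdAddChar ((i : ZMod p) * (x : ZMod p)) := by
    intro x
    have h2 := value_principal D hM hpC hχ (c := ⟨D.u ^ (x : ZMod p).val, C.pow_mem (D.PC D.uP) _⟩)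
      (by rw [hl]; exact x.ne_zero)
    change (χ : G → ℂ) (D.u ^ (x : ZMod p).val) = _ at h2
    rw [h2, sum_zmod_units, dm, sub_self, zero_mul, zero_add]
    refine Finset.sum_congr rfl fun i _ => ?_
    rw [lam, hl]
  have h2 : ∀ i : (ZMod p)ˣ, ∑ x : (ZMod p)ˣ, (ZMod.stdAddChar ((i : ZMod p) * (x : ZMod p)) : ℂ) = -1 := by
    intro i
    have h3 := sum_units_lam D (c := ⟨D.u ^ (i : ZMod p).val, C.pow_mem (D.PC D.uP) _⟩)
      (by rw [hl]; exact i.ne_zero)
    rw [← h3]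
    refine Finset.sum_congr rfl fun x _ => ?_
    rw [lam, hl, mul_comm]
  rw [Finset.sum_congr rfl (fun x _ => h1 x), Finset.sum_comm] at hm
  have h3 : ∑ i : (ZMod p)ˣ, ∑ x : (ZMod p)ˣ, dm D (χ : G → ℂ) (triv C) (i : ZMod p) *
      ZMod.stdAddChar ((i : ZMod p) * (x : ZMod p)) = - ∑ i : (ZMod p)ˣ, dm D (χ : G → ℂ) (triv C) (i : ZMod p) := by
    rw [← Finset.sum_neg_distrib]
    refine Finset.sum_congr rfl fun i _ => ?_
    rw [← Finset.mul_sum, h2]; ring
  rw [h3] at hm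
  linear_combination hm

open scoped Classical in
theorem result_aux [Fintype C] (hM : IsPModular p M) (hQ : Nat.card P = p) (hsq : ¬ p ^ 2 ∣ Nat.card G) (e : ℕ)
    (he : C.relIndex N = e) (Y : (ZMod p)ˣ ⧸ (κu D).range → principalBlock M G) (s : principalBlock M G → ℤ)
    (hcard : Nat.card (principalBlock M G) = Nat.card (κu D).range + Nat.card ((ZMod p)ˣ ⧸ (κu D).range))
    (hY : Function.Injective Y) (hs : ∀ χ, s χ = 1 ∨ s χ = -1)
    (hs1 : ∀ χ, χ ∉ Set.range Y → ∀ i : (ZMod p)ˣ, dm D ((χ : IrrCharacter G) : G → ℂ) (triv _) i = s χ)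
    (hs2 : ∀ (i : (ZMod p)ˣ) q, dm D ((Y q : IrrCharacter G) : G → ℂ) (triv _) i =
        if (i : (ZMod p)ˣ ⧸ (κu D).range) = q then (s (Y q) : ℂ) else 0) :
    ∃ X Y : Set (IrrCharacter G), principalBlock M G = X ∪ Y ∧ Disjoint X Y ∧ Nat.card X = e ∧
      Nat.card Y = (p - 1) / e ∧ ∃ (εX : IrrCharacter G → ℤ) (ε : ℤ),
        (∀ χ ∈ X, (εX χ = 1 ∨ εX χ = -1) ∧ (charDegree (χ : G → ℂ) : ℤ) ≡ εX χ [ZMOD p] ∧
          ∀ x : G, x ∈ P → x ≠ 1 → ∀ y : G, y ∈ C → ¬ p ∣ orderOf y → (χ : G → ℂ) (x * y) = (εX χ : ℂ)) ∧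
        (ε = 1 ∨ ε = -1) ∧
        (∀ θ ∈ Y, (charDegree (θ : G → ℂ) : ℤ) ≡ ε * (e : ℤ) [ZMOD p]) ∧
        (∀ θ ∈ Y, ∀ θ' ∈ Y, ∀ g : G, ¬ p ∣ orderOf g → (θ : G → ℂ) g = (θ' : G → ℂ) g) ∧
        ∀ θ ∈ Y, ∀ g : G, ¬ p ∣ orderOf g →
          (ε : ℂ) * (θ : G → ℂ) g = ∑ᶠ χ ∈ X, (εX χ : ℂ) * (χ : G → ℂ) g := by
  classical
  have hpC : ¬ p ^ 2 ∣ Nat.card C := fun h => hsq (h.trans (Subgroup.card_subgroup_dvd_card C))
  have hprime := isPrime hM
  have hcr : Nat.card (κu D).range = e := by rw [card_range, he]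
  have hB : IsPBlock M (principalBlock M G) := isPBlock_principal
  have hcq : Nat.card ((ZMod p)ˣ ⧸ (κu D).range) = (p - 1) / e := by
    have h1 := Subgroup.card_eq_card_quotient_mul_card_subgroup (κu D).range
    rw [Nat.card_eq_fintype_card, ZMod.card_units] at h1
    rw [h1, hcr]
    have h2 : 0 < e := by rw [← hcr]; exact Nat.card_pos
    rw [Nat.mul_div_cancel _ h2]
  letI : Fintype (principalBlock M G) := Fintype.ofFinite _
  let Y' : (ZMod p)ˣ ⧸ (κu D).range → IrrCharacter G := fun q => (Y q : IrrCharacter G)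
  have hY' : Function.Injective Y' := fun q q' h => hY (Subtype.ext h)
  let s' : IrrCharacter G → ℤ := fun χ => if h : χ ∈ principalBlock M G then s ⟨χ, h⟩ else 1
  have hs' : ∀ χ : principalBlock M G, s' χ = s χ := fun χ => dif_pos χ.2
  -- relation
  have hrel : ∀ (q : (ZMod p)ˣ ⧸ (κu D).range) (g : G), ¬ p ∣ orderOf g →
      (s (Y q) : ℂ) * (Y' q : G → ℂ) g = ∑ᶠ χ ∈ principalBlock M G \ Set.range Y', ((-s' χ : ℤ) : ℂ) * (χ : G → ℂ) g := by
    intro q g hg
    obtain ⟨i, rfl⟩ := QuotientGroup.mk_surjective q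
    have h1 := relation D hM hB (triv C) (i : ZMod p) hg
    have h2 : ∀ χ : principalBlock M G, dm D ((χ : IrrCharacter G) : G → ℂ) (triv C) i * ((χ : IrrCharacter G) : G → ℂ) g =
        (if χ = Y i then (s (Y i) : ℂ) * (Y' i : G → ℂ) g else 0) +
          (if χ ∉ Set.range Y then (s' χ : ℂ) * ((χ : IrrCharacter G) : G → ℂ) g else 0) := by
      intro χ
      by_cases hχ : χ ∈ Set.range Y
      · obtain ⟨q', rfl⟩ := hχ
        rw [hs2 i q', if_neg (not_not.2 ⟨q', rfl⟩), add_zero]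
        by_cases hq : (i : (ZMod p)ˣ ⧸ (κu D).range) = q'
        · rw [if_pos hq, if_pos (by rw [hq]), hq]
        · rw [if_neg hq, if_neg (fun h => hq (hY h).symm), zero_mul]
      · rw [hs1 χ hχ i, if_pos hχ, if_neg (fun h => hχ ⟨_, h.symm⟩), zero_add, hs']
    rw [Finset.sum_congr rfl (fun χ _ => h2 χ), Finset.sum_add_distrib, Finset.sum_ite_eq' Finset.univ (Y i),
      if_pos (Finset.mem_univ _)] at h1
    have h3 : ∑ᶠ χ ∈ principalBlock M G \ Set.range Y', ((-s' χ : ℤ) : ℂ) * (χ : G → ℂ) g =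
        - ∑ χ : principalBlock M G, (if χ ∉ Set.range Y then (s' χ : ℂ) * ((χ : IrrCharacter G) : G → ℂ) g else 0) := by
      rw [finsum_mem_eq_finite_toFinset_sum _ (Set.toFinite _), ← Finset.sum_filter, ← Finset.sum_neg_distrib]
      refine Finset.sum_bij' (fun χ h => ⟨χ, ((Set.Finite.mem_toFinset _).1 h).1⟩) (fun χ _ => (χ : IrrCharacter G))
        ?_ ?_ ?_ ?_ ?_
      · intro χ hχ
        rw [Finset.mem_filter]
        refine ⟨Finset.mem_univ _, ?_⟩
        rintro ⟨q', hq'⟩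
        exact ((Set.Finite.mem_toFinset _).1 hχ).2 ⟨q', congrArg Subtype.val hq'⟩
      · intro χ hχ
        rw [Set.Finite.mem_toFinset]
        refine ⟨χ.2, ?_⟩
        rintro ⟨q', hq'⟩
        exact (Finset.mem_filter.1 hχ).2 ⟨q', Subtype.ext hq'⟩
      · intro χ hχ; rfl
      · intro χ hχ; rfl
      · intro χ hχ; push_cast; ring
    rw [h3]
    linear_combination h1
  have hsame : ∀ q q', s (Y q) = s (Y q') := by
    intro q q'
    have h1 := (hrel q 1 (by rw [orderOf_one]; exact hp.out.one_lt.ne' ∘ Nat.dvd_one.1)).trans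
      (hrel q' 1 (by rw [orderOf_one]; exact hp.out.one_lt.ne' ∘ Nat.dvd_one.1)).symm
    rw [← BlockDeg.charDegree_cast_irr (Y' q), ← BlockDeg.charDegree_cast_irr (Y' q')] at h1
    have h2 : (s (Y q)) * (charDegree (Y' q : G → ℂ) : ℤ) = s (Y q') * (charDegree (Y' q' : G → ℂ) : ℤ) := by
      exact_mod_cast h1
    have h3 := BlockDeg.charDegree_pos (Y' q).2
    have h4 := BlockDeg.charDegree_pos (Y' q').2
    rcases hs (Y q) with h5 | h5 <;> rcases hs (Y q') with h6 | h6 <;> rw [h5, h6] at h2 ⊢ <;> omega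
  obtain ⟨q0⟩ : Nonempty ((ZMod p)ˣ ⧸ (κu D).range) := inferInstance
  refine ⟨principalBlock M G \ Set.range Y', Set.range Y', ?_, Set.disjoint_sdiff_left, ?_, ?_, fun χ => - s' χ, s (Y q0),
    ?_, hs _, ?_, ?_, ?_⟩
  · rw [Set.diff_union_of_subset]
    rintro _ ⟨q, rfl⟩
    exact (Y q).2
  · rw [Nat.card_coe_set_eq, Set.ncard_diff]
    · rw [← Nat.card_coe_set_eq, hcard, ← Nat.card_coe_set_eq, Nat.card_range_of_injective hY', hcr, Nat.add_sub_cancel]
    · rintro _ ⟨q, rfl⟩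
      exact (Y q).2
  · rw [Nat.card_range_of_injective hY', hcq]
  · rintro χ ⟨hχ, hχY⟩
    have hχY' : (⟨χ, hχ⟩ : principalBlock M G) ∉ Set.range Y := by
      rintro ⟨q, hq⟩
      exact hχY ⟨q, congrArg Subtype.val hq⟩
    have hdm : ∀ i : (ZMod p)ˣ, dm D (χ : G → ℂ) (triv C) i = s' χ := by
      intro i
      rw [hs' ⟨χ, hχ⟩]
      exact hs1 _ hχY' i
    have hsχ : s' χ = 1 ∨ s' χ = -1 := by rw [hs' ⟨χ, hχ⟩]; exact hs _
    refine ⟨?_, ?_, ?_⟩
    · change -s' χ = 1 ∨ -s' χ = -1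
      rcases hsχ with h | h <;> rw [h] <;> simp
    · obtain ⟨m, hm⟩ := degree_principal D hM hpC hχ
      rw [Finset.sum_congr rfl (fun i _ => hdm i), Finset.sum_const, Finset.card_univ, ZMod.card_units, nsmul_eq_mul,
        ← BlockDeg.charDegree_cast_irr χ, Nat.cast_sub hp.out.one_le] at hm
      have h1 : (charDegree (χ : G → ℂ) : ℤ) = p * m + ((p : ℤ) - 1) * s' χ := by
        push_cast at hm
        exact_mod_cast hm
      rw [h1]
      refine (Int.modEq_iff_dvd.2 ⟨-(m + s' χ), ?_⟩)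
      ring
    · intro x hx hx1 y hy hyp
      have hxC : x ∈ C := D.PC hx
      have hly : D.l ⟨y, hy⟩ = 0 := (D.l_reg _).2 hyp
      have hlx : D.l ⟨x, hxC⟩ ≠ 0 := by
        rw [Ne, D.l_reg]
        intro h
        obtain ⟨i, hi⟩ := D.gen x hx
        apply h
        change p ∣ orderOf x
        have h5 : orderOf x ∣ p := by
          have h6 := orderOf_dvd_natCard (⟨x, hx⟩ : P)
          rw [Subgroup.orderOf_mk] at h6
          exact h6.trans (dvd_of_eq hQ)
        rcases (Nat.dvd_prime hp.out).1 h5 with h6 | h6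
        · exact absurd (orderOf_eq_one_iff.1 h6) hx1
        · rw [h6]
      have hc : D.l (⟨x, hxC⟩ * ⟨y, hy⟩) ≠ 0 := by rw [D.l_mul, hly, add_zero]; exact hlx
      have h1 := value_principal D hM hpC hχ hc
      change (χ : G → ℂ) (x * y) = _ at h1
      rw [h1, sum_zmod_units, dm, sub_self, zero_mul, zero_add]
      have h2 : ∀ i : (ZMod p)ˣ, dm D (χ : G → ℂ) (triv C) i * lam D (i : ZMod p) (⟨x, hxC⟩ * ⟨y, hy⟩) =
          s' χ * lam D (i : ZMod p) (⟨x, hxC⟩ * ⟨y, hy⟩) := fun i => by rw [hdm]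
      rw [Finset.sum_congr rfl (fun i _ => h2 i), ← Finset.mul_sum, sum_units_lam D hc]
      push_cast; ring
  · rintro _ ⟨q, rfl⟩
    obtain ⟨m, hm⟩ := degree_principal D hM hpC (Y q).2
    have h1 : ∑ i : (ZMod p)ˣ, dm D ((Y q : IrrCharacter G) : G → ℂ) (triv C) i = (s (Y q) : ℂ) * e := by
      rw [Finset.sum_congr rfl (fun i _ => hs2 i q), ← Finset.sum_filter, Finset.sum_const, nsmul_eq_mul, mul_comm]
      congr 1
      obtain ⟨j, rfl⟩ := QuotientGroup.mk_surjective q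
      rw [← hcr, ← Fintype.card_coe, ← Nat.card_eq_fintype_card]
      congr 1
      refine Nat.card_congr
        { toFun := fun x => ⟨j⁻¹ * x, ?_⟩
          invFun := fun x => ⟨j * x, ?_⟩
          left_inv := ?_
          right_inv := ?_ }
      · have := (Finset.mem_filter.1 x.2).2
        exact QuotientGroup.eq.1 this.symm
      · rw [Finset.mem_filter]
        refine ⟨Finset.mem_univ _, ?_⟩
        apply Eq.symm
        rw [QuotientGroup.eq, inv_mul_cancel_left]
        exact x.2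
      · intro x; exact Subtype.ext (mul_inv_cancel_left _ _)
      · intro x; exact Subtype.ext (inv_mul_cancel_left _ _)
    rw [h1, ← BlockDeg.charDegree_cast_irr (Y' q)] at hm
    have h2 : (charDegree (Y' q : G → ℂ) : ℤ) = p * m + s (Y q) * e := by exact_mod_cast hm
    rw [h2, hsame q q0]
    refine (Int.modEq_iff_dvd.2 ⟨-m, ?_⟩)
    ring
  · rintro _ ⟨q, rfl⟩ _ ⟨q', rfl⟩ g hg
    have h1 := (hrel q g hg).trans (hrel q' g hg).symm
    rw [hsame q q'] at h1
    have h2 : (s (Y q') : ℂ) ≠ 0 := by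
      rcases hs (Y q') with h | h <;> rw [h] <;> simp
    exact mul_left_cancel₀ h2 h1
  · rintro _ ⟨q, rfl⟩ g hg
    rw [← hrel q g hg, hsame q0 q]

theorem result (hM : IsPModular p M) (hQ : Nat.card Q = p) (e : ℕ)
    (he : (Subgroup.centralizer ((Q : Subgroup G) : Set G)).relIndex
      (Subgroup.normalizer ((Q : Subgroup G) : Set G)) = e) :
    ∃ X Y : Set (IrrCharacter G), principalBlock M G = X ∪ Y ∧ Disjoint X Y ∧ Nat.card X = e ∧
      Nat.card Y = (p - 1) / e ∧ ∃ (εX : IrrCharacter G → ℤ) (ε : ℤ),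
        (∀ χ ∈ X, (εX χ = 1 ∨ εX χ = -1) ∧ (charDegree (χ : G → ℂ) : ℤ) ≡ εX χ [ZMOD p] ∧
          ∀ x : G, x ∈ (Q : Subgroup G) → x ≠ 1 → ∀ y : G,
            y ∈ Subgroup.centralizer ((Q : Subgroup G) : Set G) → ¬ p ∣ orderOf y →
              (χ : G → ℂ) (x * y) = (εX χ : ℂ)) ∧
        (ε = 1 ∨ ε = -1) ∧
        (∀ θ ∈ Y, (charDegree (θ : G → ℂ) : ℤ) ≡ ε * (e : ℤ) [ZMOD p]) ∧
        (∀ θ ∈ Y, ∀ θ' ∈ Y, ∀ g : G, ¬ p ∣ orderOf g → (θ : G → ℂ) g = (θ' : G → ℂ) g) ∧
        ∀ θ ∈ Y, ∀ g : G, ¬ p ∣ orderOf g →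
          (ε : ℂ) * (θ : G → ℂ) g = ∑ᶠ χ ∈ X, (εX χ : ℂ) * (χ : G → ℂ) g := by
  obtain ⟨D, hCf, Y, s, hcard, hY, hs, hs1, hs2⟩ := main_principal Q hM hQ
  exact result_aux D hM hQ (not_sq Q hQ) e he Y s hcard hY hs hs1 (fun i q => by rw [hs2])

end principal

end Cfsg.Agent.Lib.DefOnePrin
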