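import Mathlib
import Cfsg.Agent.Lib.DefOnePrin
import Cfsg.Agent.Lib.BRNum
import Cfsg.Agent.Lib.H76Char
import Cfsg.Agent.Lib.FrobThm

set_option autoImplicit false
set_option linter.all false

/-!
# The principal block of a group with a Sylow subgroup of prime order: character data
-/

namespace Cfsg.Agent.Lib.BRB0

open Cfsg Cfsg.Agent.Lib.BlockRing Cfsg.Agent.Lib.BlockGA Cfsg.Agent.Lib.BlockIdem
open Cfsg.Agent.Lib.DefOneLoc Cfsg.Agent.Lib.DefOneOrd Cfsg.Agent.Lib.CharBasic Cfsg.Agent.Lib.DefOneGram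
open Cfsg.Agent.Lib.DefOne Cfsg.Agent.Lib.BlockThird Cfsg.Agent.Lib.DefOnePrin
open scoped ComplexConjugate

universe u

variable {G : Type u} [Group G] [Fintype G] {p : ℕ} [hp : Fact p.Prime] {P N C : Subgroup G}
  (D : Loc p P N C)

/-- the type indexing the exceptional characters -/
abbrev Tau (D : Loc p P N C) : Type := (ZMod p)ˣ ⧸ (κu D).range

open scoped Classical in
/-- Character theoretic data of the principal block. -/
structure B0 [Fintype C] (D : Loc p P N C) where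
  X : Finset (IrrCharacter G)
  Y : Tau D → IrrCharacter G
  δ : IrrCharacter G → ℤ
  s : ℤ
  Yinj : Function.Injective Y
  disj : ∀ q, Y q ∉ X
  cardX : X.card = Nat.card (κu D).range
  δ_pm : ∀ χ ∈ X, δ χ = 1 ∨ δ χ = -1
  s_pm : s = 1 ∨ s = -1
  dmX : ∀ χ ∈ X, ∀ i : (ZMod p)ˣ, dm D (χ : G → ℂ) (triv C) i = - δ χ
  dmY : ∀ q, ∀ i : (ZMod p)ˣ, dm D (Y q : G → ℂ) (triv C) i = if (i : Tau D) = q then (s : ℂ) else 0
  dmO : ∀ χ : IrrCharacter G, χ ∉ X → (∀ q, χ ≠ Y q) → ∀ i : (ZMod p)ˣ, dm D (χ : G → ℂ) (triv C) i = 0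
  valX : ∀ χ ∈ X, ∀ c : C, D.l c ≠ 0 → (χ : G → ℂ) c = δ χ
  valY : ∀ q, ∀ c : C, D.l c ≠ 0 → (Y q : G → ℂ) c =
    s * ∑ i : (ZMod p)ˣ, if (i : Tau D) = q then lam D (i : ZMod p) c else 0
  rel : ∀ q, ∀ g : G, ¬ p ∣ orderOf g → (s : ℂ) * (Y q : G → ℂ) g = ∑ χ ∈ X, (δ χ : ℂ) * (χ : G → ℂ) g
  degX : ∀ χ ∈ X, ∃ k : ℤ, (charDegree (χ : G → ℂ) : ℤ) = k * p + δ χ
  degY : ∀ q, ∃ k : ℤ, (charDegree (Y q : G → ℂ) : ℤ) = k * p + s * Nat.card (κu D).range

variable [Fintype C]

omit [Fintype C] in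
theorem card_fiber (q : Tau D) [DecidableEq (Tau D)] :
    (Finset.univ.filter (fun i : (ZMod p)ˣ => (i : Tau D) = q)).card = Nat.card (κu D).range := by
  classical
  obtain ⟨j, rfl⟩ := QuotientGroup.mk_surjective q
  rw [← Fintype.card_coe, ← Nat.card_eq_fintype_card]
  refine Nat.card_congr
    { toFun := fun x => ⟨j⁻¹ * x, ?_⟩
      invFun := fun x => ⟨j * x, ?_⟩
      left_inv := ?_
      right_inv := ?_ }
  · have := (Finset.mem_filter.1 x.2).2
    exact QuotientGroup.eq.1 this.symm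
  · rw [Finset.mem_filter]
    refine ⟨Finset.mem_univ _, ?_⟩
    apply Eq.symm
    rw [QuotientGroup.eq, inv_mul_cancel_left]
    exact x.2
  · intro x; exact Subtype.ext (mul_inv_cancel_left _ _)
  · intro x; exact Subtype.ext (inv_mul_cancel_left _ _)

open scoped Classical in
theorem exists_B0_aux {M : Ideal AlgInt} (hM : IsPModular p M) (hQ : Nat.card P = p) (hsq : ¬ p ^ 2 ∣ Nat.card G)
    (hpC : ¬ p ^ 2 ∣ Nat.card C)
    (hind : IsInducedBlock M C (blockOf M ((triv C : IrrCharacter C) : C → ℂ)) (principalBlock M G))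
    (Y : Tau D → principalBlock M G) (s : principalBlock M G → ℤ)
    (hcard : Nat.card (principalBlock M G) = Nat.card (κu D).range + Nat.card (Tau D))
    (hY : Function.Injective Y) (hs : ∀ χ, s χ = 1 ∨ s χ = -1)
    (hs1 : ∀ χ, χ ∉ Set.range Y → ∀ i : (ZMod p)ˣ, dm D ((χ : IrrCharacter G) : G → ℂ) (triv _) i = s χ)
    (hs2 : ∀ (i : (ZMod p)ˣ) q, dm D ((Y q : IrrCharacter G) : G → ℂ) (triv _) i =
        if (i : Tau D) = q then (s (Y q) : ℂ) else 0) : Nonempty (B0 D) := by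
  have hprime := isPrime hM
  have hB : IsPBlock M (principalBlock M G) := isPBlock_principal
  have ht : TrivOn D ((triv C : IrrCharacter C) : C → ℂ) := by
    intro x _
    rw [coe_triv]
  letI : Fintype (principalBlock M G) := Fintype.ofFinite _
  let Y' : Tau D → IrrCharacter G := fun q => (Y q : IrrCharacter G)
  have hY' : Function.Injective Y' := fun q q' h => hY (Subtype.ext h)
  let s' : IrrCharacter G → ℤ := fun χ => if h : χ ∈ principalBlock M G then s ⟨χ, h⟩ else 1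
  have hs' : ∀ χ : principalBlock M G, s' χ = s χ := fun χ => dif_pos χ.2
  let X : Finset (IrrCharacter G) := Finset.univ.filter (fun χ => χ ∈ principalBlock M G ∧ χ ∉ Set.range Y')
  have hX : ∀ χ, χ ∈ X ↔ χ ∈ principalBlock M G ∧ χ ∉ Set.range Y' := by
    intro χ
    rw [Finset.mem_filter]
    exact and_iff_right (Finset.mem_univ _)
  have hXdm : ∀ χ ∈ X, ∀ i : (ZMod p)ˣ, dm D (χ : G → ℂ) (triv C) i = s' χ := by
    intro χ hχ i
    obtain ⟨h1, h2⟩ := (hX χ).1 hχ
    rw [hs' ⟨χ, h1⟩]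
    exact hs1 ⟨χ, h1⟩ (by
      rintro ⟨q, hq⟩
      exact h2 ⟨q, congrArg Subtype.val hq⟩) i
  have hdm0 : ∀ χ : G → ℂ, dm D χ (triv C) 0 = 0 := fun χ => by rw [dm, sub_self]
  -- relation
  have hrel : ∀ (q : Tau D) (g : G), ¬ p ∣ orderOf g →
      (s (Y q) : ℂ) * (Y' q : G → ℂ) g = ∑ χ ∈ X, ((-s' χ : ℤ) : ℂ) * (χ : G → ℂ) g := by
    intro q g hg
    obtain ⟨i, rfl⟩ := QuotientGroup.mk_surjective q
    have h1 := relation D hM hB (triv C) (i : ZMod p) hg
    have h2 : ∀ χ : principalBlock M G, dm D ((χ : IrrCharacter G) : G → ℂ) (triv C) i * ((χ : IrrCharacter G) : G → ℂ) g =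
        (if χ = Y i then (s (Y i) : ℂ) * (Y' i : G → ℂ) g else 0) +
          (if χ ∉ Set.range Y then (s' χ : ℂ) * ((χ : IrrCharacter G) : G → ℂ) g else 0) := by
      intro χ
      by_cases hχ : χ ∈ Set.range Y
      · obtain ⟨q', rfl⟩ := hχ
        rw [hs2 i q', if_neg (not_not.2 ⟨q', rfl⟩), add_zero]
        by_cases hq : (i : Tau D) = q'
        · rw [if_pos hq, if_pos (by rw [hq]), hq]
        · rw [if_neg hq, if_neg (fun h => hq (hY h).symm), zero_mul]
      · rw [hs1 χ hχ i, if_pos hχ, if_neg (fun h => hχ ⟨_, h.symm⟩), zero_add, hs']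
    rw [Finset.sum_congr rfl (fun χ _ => h2 χ), Finset.sum_add_distrib, Finset.sum_ite_eq' Finset.univ (Y i),
      if_pos (Finset.mem_univ _)] at h1
    have h3 : ∑ χ ∈ X, ((-s' χ : ℤ) : ℂ) * (χ : G → ℂ) g =
        - ∑ χ : principalBlock M G, (if χ ∉ Set.range Y then (s' χ : ℂ) * ((χ : IrrCharacter G) : G → ℂ) g else 0) := by
      rw [← Finset.sum_filter, ← Finset.sum_neg_distrib]
      refine Finset.sum_bij' (fun χ h => ⟨χ, ((hX χ).1 h).1⟩) (fun χ _ => (χ : IrrCharacter G))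
        ?_ ?_ ?_ ?_ ?_
      · intro χ hχ
        rw [Finset.mem_filter]
        refine ⟨Finset.mem_univ _, ?_⟩
        rintro ⟨q', hq'⟩
        exact ((hX χ).1 hχ).2 ⟨q', congrArg Subtype.val hq'⟩
      · intro χ hχ
        rw [hX]
        refine ⟨χ.2, ?_⟩
        rintro ⟨q', hq'⟩
        exact (Finset.mem_filter.1 hχ).2 ⟨q', Subtype.ext hq'⟩
      · intro χ hχ; rfl
      · intro χ hχ; rfl
      · intro χ hχ; push_cast; ring
    rw [h3]
    linear_combination h1
  have hsame : ∀ q q', s (Y q) = s (Y q') := by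
    intro q q'
    have h1 := (hrel q 1 (by rw [orderOf_one]; exact hp.out.one_lt.ne' ∘ Nat.dvd_one.1)).trans
      (hrel q' 1 (by rw [orderOf_one]; exact hp.out.one_lt.ne' ∘ Nat.dvd_one.1)).symm
    rw [← BlockDeg.charDegree_cast_irr (Y' q), ← BlockDeg.charDegree_cast_irr (Y' q')] at h1
    have h2 : (s (Y q)) * (charDegree (Y' q : G → ℂ) : ℤ) = s (Y q') * (charDegree (Y' q' : G → ℂ) : ℤ) := by
      exact_mod_cast h1
    have h3 := BlockDeg.charDegree_pos (Y' q).2
    have h4 := BlockDeg.charDegree_pos (Y' q').2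
    rcases hs (Y q) with h5 | h5 <;> rcases hs (Y q') with h6 | h6 <;> rw [h5, h6] at h2 ⊢ <;> omega
  obtain ⟨q0⟩ : Nonempty (Tau D) := inferInstance
  have hdeg : ∀ χ : IrrCharacter G, χ ∈ principalBlock M G → ∀ a : ℤ,
      ∑ i : (ZMod p)ˣ, dm D (χ : G → ℂ) (triv C) i = a → ∃ k : ℤ, (charDegree (χ : G → ℂ) : ℤ) = k * p + a := by
    intro χ hχ a ha
    obtain ⟨m, hm⟩ := degree_principal D hM hpC hχ
    rw [ha, ← BlockDeg.charDegree_cast_irr χ] at hm
    refine ⟨m, ?_⟩
    have : (charDegree (χ : G → ℂ) : ℤ) = p * m + a := by exact_mod_cast hm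
    rw [this]; ring
  refine ⟨⟨X, Y', fun χ => - s' χ, s (Y q0), hY', ?_, ?_, ?_, hs _, ?_, ?_, ?_, ?_, ?_, ?_, ?_, ?_⟩⟩
  · intro q h
    exact ((hX _).1 h).2 ⟨q, rfl⟩
  · have h1 : X.card + Nat.card (Tau D) = Nat.card (principalBlock M G) := by
      have h2 : (Finset.univ.filter (fun χ => χ ∈ principalBlock M G)).card = Nat.card (principalBlock M G) := by
        rw [Nat.card_eq_fintype_card, ← Fintype.card_subtype]
      rw [← h2, Nat.card_eq_fintype_card, ← Finset.card_univ, ← Finset.card_image_of_injective Finset.univ hY',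
        ← Finset.card_union_of_disjoint]
      · congr 1
        ext χ
        rw [Finset.mem_union, hX, Finset.mem_image, Finset.mem_filter]
        constructor
        · rintro (h | ⟨q, -, rfl⟩)
          · exact ⟨Finset.mem_univ _, h.1⟩
          · exact ⟨Finset.mem_univ _, (Y q).2⟩
        · rintro ⟨-, h⟩
          by_cases h3 : χ ∈ Set.range Y'
          · obtain ⟨q, hq⟩ := h3
            exact Or.inr ⟨q, Finset.mem_univ _, hq⟩
          · exact Or.inl ⟨h, h3⟩
      · rw [Finset.disjoint_left]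
        rintro χ h1 h2
        obtain ⟨q, -, rfl⟩ := Finset.mem_image.1 h2
        exact ((hX _).1 h1).2 ⟨q, rfl⟩
    omega
  · intro χ hχ
    change -s' χ = 1 ∨ -s' χ = -1
    rw [hs' ⟨χ, ((hX χ).1 hχ).1⟩]
    rcases hs ⟨χ, ((hX χ).1 hχ).1⟩ with h | h <;> rw [h] <;> simp
  · intro χ hχ i
    rw [hXdm χ hχ i]; push_cast; ring
  · intro q i
    change dm D (Y q : G → ℂ) (triv C) i = _
    rw [hs2 i q, hsame q0 q]
  · intro χ hχ hχY i
    by_cases h : χ ∈ principalBlock M G
    · exfalso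
      exact hχ ((hX χ).2 ⟨h, fun ⟨q, hq⟩ => hχY q hq.symm⟩)
    · exact dm_of_not_mem D hM hpC ht hind h i
  · intro χ hχ c hc
    rw [value_principal D hM hpC ((hX χ).1 hχ).1 hc, sum_zmod_units, hdm0, zero_mul, zero_add]
    rw [Finset.sum_congr rfl (fun i _ => by rw [hXdm χ hχ i]), ← Finset.mul_sum, sum_units_lam D hc]
    push_cast; ring
  · intro q c hc
    change (Y q : G → ℂ) c = _
    rw [value_principal D hM hpC (Y q).2 hc, sum_zmod_units, hdm0, zero_mul, zero_add, Finset.mul_sum]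
    refine Finset.sum_congr rfl fun i _ => ?_
    rw [hs2 i q, hsame q0 q]
    split_ifs <;> simp
  · intro q g hg
    rw [hsame q0 q]
    exact hrel q g hg
  · intro χ hχ
    obtain ⟨k, hk⟩ := hdeg χ ((hX χ).1 hχ).1 (((p : ℤ) - 1) * s' χ) (by
      rw [Finset.sum_congr rfl (fun i _ => hXdm χ hχ i), Finset.sum_const, Finset.card_univ, ZMod.card_units,
        nsmul_eq_mul, Nat.cast_sub hp.out.one_le]
      push_cast; ring)
    exact ⟨k + s' χ, by rw [hk]; ring⟩
  · intro q
    apply hdeg _ (Y q).2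
    rw [Finset.sum_congr rfl (fun i _ => hs2 i q), ← Finset.sum_filter, Finset.sum_const, nsmul_eq_mul, card_fiber,
      hsame q0 q]
    push_cast; ring

theorem exists_B0 (Q : Sylow p G) (hQ : Nat.card Q = p) :
    ∃ (D : Loc p (Q : Subgroup G) (Subgroup.normalizer ((Q : Subgroup G) : Set G))
      (Subgroup.centralizer ((Q : Subgroup G) : Set G)))
      (hC : Fintype (Subgroup.centralizer ((Q : Subgroup G) : Set G))), Nonempty (B0 D) := by
  classical
  obtain ⟨M, hM⟩ := H76Char.exists_isPModular p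
  obtain ⟨D, hCf, Y, s, hcard, hY, hs, hs1, hs2⟩ := main_principal Q hM hQ
  refine ⟨D, hCf, ?_⟩
  have hsq := not_sq Q hQ
  refine exists_B0_aux D hM hQ hsq (fun h => hsq (h.trans (Subgroup.card_subgroup_dvd_card _))) ?_ Y s hcard hY hs hs1
    (fun i q => by rw [hs2])
  obtain ⟨B, hB⟩ := BlockHom.inducedBlockDefined (H := Subgroup.centralizer ((Q : Subgroup G) : Set G)) hM
    Q.isPGroup' D.PC le_rfl D.CN (isPBlock_principal (M := M))
  have h1 := (BlockThird.induced_principal_iff hM hB).1 rfl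
  rw [h1] at hB
  exact hB

/-! ### multiplicities -/

variable {D}

theorem dm_const {φ : G → ℂ} {a : ℂ} (hφ : ∀ c : C, D.l c ≠ 0 → φ c = a) {i : ZMod p} (hi : i ≠ 0) :
    dm D φ (triv C) i = -a := by
  classical
  have hne : LT D (triv C) i ≠ triv C := by
    intro h
    have ht : TrivOn D ((triv C : IrrCharacter C) : C → ℂ) := by
      intro x _
      rw [coe_triv]
    rw [← LT_zero D (triv C)] at h
    conv_lhs at h => rw [LT_zero D (triv C)]
    exact hi (LT_inj D ht ht h).2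
  have h1 : classInner (a • ((triv C : IrrCharacter C) : C → ℂ)) ((LT D (triv C) i : C → ℂ) - (LT D (triv C) 0 : C → ℂ)) = -a := by
    rw [classInner_smul_left, classInner_sub_right, LT_zero, irr_orthonormal, irr_orthonormal, if_pos rfl,
      if_neg (fun h => hne h.symm)]
    ring
  rw [dm_eq_classInner, ← h1, classInner_def, classInner_def]
  congr 1
  refine Finset.sum_congr rfl fun c _ => ?_
  by_cases hc : D.l c = 0
  · have h2 : ((LT D (triv C) i : C → ℂ) - (LT D (triv C) 0 : C → ℂ)) c = 0 := by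
      rw [Pi.sub_apply, LT_apply, LT_apply, lam_of_reg D i hc, lam_of_reg D 0 hc, sub_self]
    rw [h2, map_zero, mul_zero, mul_zero]
  · have h2 : rs C φ c = (a • ((triv C : IrrCharacter C) : C → ℂ)) c := by
      change φ c = a * 1
      rw [hφ c hc, mul_one]
    rw [h2]

theorem dm_expand {φ : G → ℂ} (hφ : IsClassFunction G φ) (i : ZMod p) :
    dm D φ (triv C) i = ∑ χ : IrrCharacter G, classInner φ (χ : G → ℂ) * dm D (χ : G → ℂ) (triv C) i := by
  have h1 : rs C φ = ∑ χ : IrrCharacter G, classInner φ (χ : G → ℂ) • rs C (χ : G → ℂ) := by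
    funext c
    have h2 := congrFun hφ.expansion (c : G)
    rw [Finset.sum_apply] at h2 ⊢
    exact h2
  rw [dm_eq_classInner, h1, classInner_sum_left]
  refine Finset.sum_congr rfl fun χ _ => ?_
  rw [classInner_smul_left, ← dm_eq_classInner]

/-- sum over the block -/
theorem B0.sum_dm (B : B0 D) (m : IrrCharacter G → ℂ) (i : (ZMod p)ˣ) :
    ∑ χ : IrrCharacter G, m χ * dm D (χ : G → ℂ) (triv C) i =
      - ∑ χ ∈ B.X, (B.δ χ : ℂ) * m χ + B.s * m (B.Y i) := by
  classical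
  rw [← Finset.sum_subset (Finset.subset_univ (insert (B.Y i) B.X))]
  · rw [Finset.sum_insert (B.disj _), B.dmY, if_pos rfl, ← Finset.sum_neg_distrib,
      Finset.sum_congr rfl (fun χ hχ => by rw [B.dmX χ hχ i])]
    rw [add_comm]
    congr 1
    · exact Finset.sum_congr rfl fun χ _ => by ring
    · ring
  · intro χ _ hχ
    rw [Finset.mem_insert, not_or] at hχ
    by_cases h : ∃ q, χ = B.Y q
    · obtain ⟨q, rfl⟩ := h
      rw [B.dmY, if_neg, mul_zero]
      rintro rfl
      exact hχ.1 rfl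
    · push Not at h
      rw [B.dmO χ hχ.2 h, mul_zero]

/-- multiplicities in a class function constant on the `p`-singular elements of `C` -/
theorem B0.mult (B : B0 D) {φ : G → ℂ} (hφ : IsClassFunction G φ) {a : ℂ} (ha : ∀ c : C, D.l c ≠ 0 → φ c = a)
    (q : Tau D) : ∑ χ ∈ B.X, (B.δ χ : ℂ) * classInner φ (χ : G → ℂ) - B.s * classInner φ (B.Y q : G → ℂ) = a := by
  obtain ⟨i, rfl⟩ := QuotientGroup.mk_surjective q
  have h1 := dm_expand (D := D) hφ (i : ZMod p)
  rw [dm_const ha i.ne_zero, B.sum_dm] at h1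
  linear_combination h1

end Cfsg.Agent.Lib.BRB0
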