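import Mathlib
import Cfsg.Agent.Lib.BRB0

set_option autoImplicit false
set_option linter.all false

/-!
# Degrees in the principal block
-/

namespace Cfsg.Agent.Lib.BRDeg

open Cfsg Cfsg.Agent.Lib.BlockRing Cfsg.Agent.Lib.BlockGA Cfsg.Agent.Lib.BlockIdem
open Cfsg.Agent.Lib.DefOneLoc Cfsg.Agent.Lib.DefOneOrd Cfsg.Agent.Lib.CharBasic Cfsg.Agent.Lib.DefOneGram
open Cfsg.Agent.Lib.DefOne Cfsg.Agent.Lib.BlockThird Cfsg.Agent.Lib.DefOnePrin Cfsg.Agent.Lib.BRB0
open Cfsg.Agent.Lib.BRNum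
open scoped ComplexConjugate

universe u

variable {G : Type u} [Group G] [Fintype G] {p : ℕ} [hp : Fact p.Prime] {P N C : Subgroup G}
  {D : Loc p P N C} [Fintype C]

omit [Fintype G] [Fintype C] in
theorem centralizer_eq {x : G} (hx : x ∈ P) (hx1 : x ≠ 1) (D : Loc p P N C) :
    Subgroup.centralizer ({x} : Set G) = C := by
  ext g
  rw [Subgroup.mem_centralizer_singleton_iff, D.comm g x hx hx1]
  exact ⟨fun h => h.symm, fun h => h.symm⟩

theorem B0.dvdX (B : B0 D) {χ : IrrCharacter G} (hχ : χ ∈ B.X) : charDegree (χ : G → ℂ) ∣ C.index := by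
  have hu1 : D.u ≠ 1 := by
    intro h
    have h1 := D.ordu
    rw [h, orderOf_one] at h1
    exact hp.out.one_lt.ne h1
  have h1 := isIntegral_centralChar χ.2 D.u
  have h2 : (χ : G → ℂ) D.u = B.δ χ := B.valX χ hχ ⟨D.u, D.PC D.uP⟩ (by rw [D.l_u]; exact one_ne_zero)
  rw [centralChar, centralizer_eq D.uP hu1 D, h2, ← BlockDeg.charDegree_cast_irr χ] at h1
  apply CharCentral.nat_dvd_of_isIntegral_div (BlockDeg.charDegree_pos χ.2).ne'
  rcases B.δ_pm χ hχ with h3 | h3
  · rw [h3] at h1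
    push_cast at h1
    rwa [mul_one] at h1
  · rw [h3] at h1
    push_cast at h1
    have h4 := h1.neg
    have h5 : -((C.index : ℂ) * -1 / (charDegree (χ : G → ℂ) : ℂ)) = (C.index : ℂ) / (charDegree (χ : G → ℂ) : ℂ) := by ring
    rwa [h5] at h4

omit [Fintype C] in
/-- sum over representatives -/
theorem sum_tau (q : Tau D) (f : (ZMod p)ˣ → ℂ) [DecidableEq (Tau D)] [Fintype (Tau D)] :
    ∑ q' : Tau D, ∑ i : (ZMod p)ˣ, (if (i : Tau D) = q then f (i * Quotient.out q') else 0) = ∑ i : (ZMod p)ˣ, f i := by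
  classical
  have h1 : ∀ q' : Tau D, ∑ i : (ZMod p)ˣ, (if (i : Tau D) = q then f (i * Quotient.out q') else 0) =
      ∑ i : (ZMod p)ˣ, (if (i : Tau D) = q * q' then f i else 0) := by
    intro q'
    rw [← Equiv.sum_comp (Equiv.mulRight (Quotient.out q' : (ZMod p)ˣ))
      (fun i : (ZMod p)ˣ => if (i : Tau D) = q * q' then f i else 0)]
    refine Finset.sum_congr rfl fun i _ => ?_
    have h2 : ((Equiv.mulRight (Quotient.out q' : (ZMod p)ˣ) i : (ZMod p)ˣ) : Tau D) = (i : Tau D) * q' := by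
      change ((i * (Quotient.out q' : (ZMod p)ˣ) : (ZMod p)ˣ) : Tau D) = _
      rw [QuotientGroup.mk_mul, QuotientGroup.out_eq']
    have h3 : ((i : Tau D) * q' = q * q') ↔ (i : Tau D) = q := mul_left_inj q'
    simp only [h2, h3]
    rfl
  rw [Finset.sum_congr rfl (fun q' _ => h1 q'), Finset.sum_comm]
  refine Finset.sum_congr rfl fun i _ => ?_
  rw [Finset.sum_eq_single (q⁻¹ * (i : Tau D))]
  · rw [if_pos (by rw [mul_inv_cancel_left])]
  · intro q' _ h
    rw [if_neg]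
    intro h2
    apply h
    rw [h2, inv_mul_cancel_left]
  · intro h; exact absurd (Finset.mem_univ _) h

theorem B0.dvdY (B : B0 D) (q : Tau D) : charDegree (B.Y q : G → ℂ) ∣ C.index := by
  classical
  letI : Fintype (Tau D) := Fintype.ofFinite _
  set χ := B.Y q with hχ
  have hl : ∀ x : (ZMod p)ˣ, D.l ⟨D.u ^ (x : ZMod p).val, C.pow_mem (D.PC D.uP) _⟩ = x := by
    intro x
    rw [l_pow, ZMod.natCast_zmod_val]
  have hval : ∀ x : (ZMod p)ˣ, centralChar (χ : G → ℂ) (D.u ^ (x : ZMod p).val) =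
      (C.index : ℂ) * (B.s * ∑ i : (ZMod p)ˣ, if (i : Tau D) = q then
        (ZMod.stdAddChar (((i * x : (ZMod p)ˣ) : ZMod p)) : ℂ) else 0) / charDegree (χ : G → ℂ) := by
    intro x
    have hx1 : D.u ^ (x : ZMod p).val ≠ 1 := by
      intro h
      have h1 := hl x
      have h2 : (⟨D.u ^ (x : ZMod p).val, C.pow_mem (D.PC D.uP) _⟩ : C) = 1 := Subtype.ext h
      rw [h2, l_one] at h1
      exact x.ne_zero h1.symm
    rw [centralChar, centralizer_eq (P.pow_mem D.uP _) hx1 D, BlockDeg.charDegree_cast_irr χ]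
    have h3 := B.valY q ⟨D.u ^ (x : ZMod p).val, C.pow_mem (D.PC D.uP) _⟩ (by rw [hl]; exact x.ne_zero)
    change (χ : G → ℂ) (D.u ^ (x : ZMod p).val) = _ at h3
    rw [h3]
    congr 3
    refine Finset.sum_congr rfl fun i _ => ?_
    rw [lam, hl]
    simp only [Units.val_mul]
  have hsum : ∑ q' : Tau D, centralChar (χ : G → ℂ) (D.u ^ ((Quotient.out q' : (ZMod p)ˣ) : ZMod p).val) =
      (C.index : ℂ) * (-B.s) / charDegree (χ : G → ℂ) := by
    rw [Finset.sum_congr rfl (fun q' _ => hval _), ← Finset.sum_div, ← Finset.mul_sum, ← Finset.mul_sum,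
      sum_tau q (fun i : (ZMod p)ˣ => (ZMod.stdAddChar (i : ZMod p) : ℂ))]
    have h4 := sum_units_lam D (c := ⟨D.u, D.PC D.uP⟩) (by rw [D.l_u]; exact one_ne_zero)
    have h5 : ∀ i : (ZMod p)ˣ, lam D (i : ZMod p) ⟨D.u, D.PC D.uP⟩ = (ZMod.stdAddChar (i : ZMod p) : ℂ) := by
      intro i
      rw [lam, D.l_u, mul_one]
    rw [Finset.sum_congr rfl (fun i _ => h5 i)] at h4
    rw [h4]
    ring
  have hint : IsIntegral ℤ ((C.index : ℂ) * (-B.s) / charDegree (χ : G → ℂ)) := by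
    rw [← hsum]
    exact IsIntegral.sum _ fun q' _ => isIntegral_centralChar χ.2 _
  apply CharCentral.nat_dvd_of_isIntegral_div (BlockDeg.charDegree_pos χ.2).ne'
  rcases B.s_pm with h3 | h3
  · rw [h3] at hint
    push_cast at hint
    have h4 := hint.neg
    have h5 : -((C.index : ℂ) * -1 / (charDegree (χ : G → ℂ) : ℂ)) = (C.index : ℂ) / (charDegree (χ : G → ℂ) : ℂ) := by ring
    rwa [h5] at h4
  · rw [h3] at hint
    push_cast at hint
    rwa [neg_neg, mul_one] at hint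

end Cfsg.Agent.Lib.BRDeg
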