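import Cfsg.Agent.Lib.H55KleinChar

set_option autoImplicit false

/-!
Character theory of groups with a Klein four Sylow 2-subgroup `S`, all involutions conjugate and
`C(t) = S × K`, `|K|` odd; continued.
-/

namespace Cfsg.Agent.Lib.H55KleinChar

open Cfsg Cfsg.Agent.Lib Cfsg.Agent.Lib.H55Invol Cfsg.Agent.Lib.H55Klein Cfsg.Agent.Lib.H55KleinSetup
open Cfsg.Agent.Lib.CharBasic Cfsg.Agent.Lib.StructConst
open scoped ComplexConjugate

universe u

variable {G : Type u} [Group G] [Fintype G] {t : G} {S K : Subgroup G}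

/-- linear characters of perfect groups are trivial -/
theorem eq_one_of_perfect (hG : commutator G = ⊤) {χ : G → ℂ} (hχ : IsCharacter G χ) (h1 : χ 1 = 1) : χ = 1 := by
  ext g
  rw [Pi.one_apply, ← h1]
  apply linear_eq_of_mem_commutator hχ h1
  rw [hG]; trivial

theorem index_le (h : Setup t S K) (hG : commutator G = ⊤) :
    (Subgroup.centralizer ({t} : Set G)).index ≤ 15 := by
  classical
  have := Fintype.ofFinite ↥K
  choose m hm using fun χ : IrrCharacter G => exists_int h χ.2.isCharacter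
  choose d hdpos hd using fun χ : IrrCharacter G => χ.2.exists_degree
  set χ₀ : IrrCharacter G := ⟨1, isIrrCharacter_one⟩ with hχ₀
  have hm0 : m χ₀ = 1 := by
    have h1 := hm χ₀
    have h2 : classInner (Phi G) (χ₀ : G → ℂ) = 1 := classInner_Phi_one h
    rw [h2] at h1
    exact_mod_cast h1.symm
  have hd0 : d χ₀ = 1 := by
    have h1 := hd χ₀
    have h2 : (χ₀ : G → ℂ) 1 = 1 := rfl
    rw [h2] at h1
    exact_mod_cast h1.symm
  have hpars : ∑ χ : IrrCharacter G, m χ ^ 2 = 4 := by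
    have h1 := (Phi_isClassFunction (G := G)).classInner_eq_sum (Phi G)
    rw [classInner_Phi_Phi h] at h1
    simp only [hm, map_intCast] at h1
    have h2 : ((∑ χ : IrrCharacter G, m χ ^ 2 : ℤ) : ℂ) = ((4 : ℤ) : ℂ) := by
      push_cast
      rw [h1]
      apply Finset.sum_congr rfl
      intro χ _
      ring
    exact_mod_cast h2
  rw [← Finset.add_sum_erase _ _ (Finset.mem_univ χ₀), hm0] at hpars
  have hE : ∑ χ ∈ Finset.univ.erase χ₀, m χ ^ 2 = 3 := by linarith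
  have hsmall : ∀ χ ∈ Finset.univ.erase χ₀, m χ = 0 ∨ m χ = 1 ∨ m χ = -1 := by
    intro χ hχ
    have h1 : m χ ^ 2 ≤ 3 := by
      rw [← hE]
      exact Finset.single_le_sum (f := fun χ => m χ ^ 2) (fun χ _ => sq_nonneg _) hχ
    have h2 : m χ < 2 := by nlinarith
    have h3 : -2 < m χ := by nlinarith
    omega
  set T := (Finset.univ.erase χ₀).filter (fun χ => m χ ≠ 0) with hT
  have hTm : ∀ χ ∈ T, m χ = 1 ∨ m χ = -1 := by
    intro χ hχ
    obtain ⟨h1, h2⟩ := Finset.mem_filter.1 hχ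
    rcases hsmall χ h1 with h3 | h3
    · exact absurd h3 h2
    · exact h3
  have hTne : ∀ χ ∈ T, (χ : G → ℂ) ≠ 1 := by
    intro χ hχ h1
    obtain ⟨h2, -⟩ := Finset.mem_filter.1 hχ
    exact (Finset.mem_erase.1 h2).1 (Subtype.ext h1)
  -- sums over all characters reduce to sums over T
  have hred : ∀ f : IrrCharacter G → ℂ, (∀ χ, m χ = 0 → f χ = 0) →
      ∑ χ, f χ = f χ₀ + ∑ χ ∈ T, f χ := by
    intro f hf
    rw [← Finset.add_sum_erase _ _ (Finset.mem_univ χ₀)]
    congr 1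
    rw [hT]
    symm
    apply Finset.sum_subset (Finset.filter_subset _ _)
    intro χ h1 h2
    apply hf
    by_contra h3
    exact h2 (Finset.mem_filter.2 ⟨h1, h3⟩)
  have hcard : T.card = 3 := by
    have h1 : ∑ χ ∈ Finset.univ.erase χ₀, m χ ^ 2 = ∑ χ ∈ T, m χ ^ 2 := by
      rw [hT]
      symm
      apply Finset.sum_subset (Finset.filter_subset _ _)
      intro χ h1 h2
      have h3 : m χ = 0 := by
        by_contra h3
        exact h2 (Finset.mem_filter.2 ⟨h1, h3⟩)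
      rw [h3]; norm_num
    have h2 : ∑ χ ∈ T, m χ ^ 2 = ∑ χ ∈ T, 1 := by
      apply Finset.sum_congr rfl
      intro χ hχ
      rcases hTm χ hχ with h3 | h3 <;> rw [h3] <;> norm_num
    rw [h1, h2, Finset.sum_const, nsmul_eq_mul, mul_one] at hE
    exact_mod_cast hE
  -- degree sum
  have hdeg : ∑ χ ∈ T, (m χ * d χ : ℤ) = -1 := by
    have h1 := (Phi_isClassFunction (G := G)).expansion_apply 1
    have h2 : Phi G 1 = 0 := by
      unfold Phi
      rw [orderOf_one, if_neg (by norm_num)]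
    rw [h2] at h1
    simp only [hm, hd] at h1
    rw [hred (fun χ => (m χ : ℂ) * (d χ : ℂ)) (fun χ hχ => by simp [hχ]), hm0, hd0] at h1
    have h3 : ((∑ χ ∈ T, (m χ * d χ : ℤ) : ℤ) : ℂ) = ((-1 : ℤ) : ℂ) := by
      push_cast
      push_cast at h1
      linear_combination -h1
    exact_mod_cast h3
  have hodd : ∀ χ ∈ T, Odd (m χ) := by
    intro χ hχ
    rcases hTm χ hχ with h3 | h3 <;> rw [h3] <;> decide
  have hval : ∀ χ ∈ T, (χ : G → ℂ) t = m χ := fun χ hχ =>
    value_eq h χ.2 (hTne χ hχ) (hm χ) (hodd χ hχ)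
  have hmod : ∀ χ ∈ T, (m χ * d χ : ℤ) % 4 = 1 := fun χ hχ =>
    degree_mod h χ.2 (hTne χ hχ) (hm χ) (hTm χ hχ) (hd χ)
  have hne1 : ∀ χ ∈ T, (m χ * d χ : ℤ) ≠ 1 := by
    intro χ hχ h1
    have h2 : d χ = 1 := by
      have h3 : (d χ : ℤ) ∣ 1 := ⟨m χ, by rw [← h1]; ring⟩
      have h4 : (d χ : ℤ) = 1 := by
        rcases Int.isUnit_iff.1 (isUnit_of_dvd_one h3) with h5 | h5
        · exact h5
        · have := hdpos χ; omega
      exact_mod_cast h4
    apply hTne χ hχ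
    apply eq_one_of_perfect hG χ.2.isCharacter
    rw [hd, h2]; norm_num
  -- the structure constant equation
  have hform := sum_formula h
  simp only [hm, hd] at hform
  rw [hred (fun χ => (m χ : ℂ) * (χ : G → ℂ) t * conj ((χ : G → ℂ) t) / (d χ : ℂ))
    (fun χ hχ => by simp [hχ]), hm0, hd0] at hform
  have h1t : (χ₀ : G → ℂ) t = 1 := rfl
  rw [h1t] at hform
  have hTsum : ∑ χ ∈ T, ((m χ : ℂ) * (χ : G → ℂ) t * conj ((χ : G → ℂ) t) / (d χ : ℂ)) =
      ∑ χ ∈ T, (((m χ * d χ : ℤ) : ℝ)⁻¹ : ℂ) := by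
    apply Finset.sum_congr rfl
    intro χ hχ
    rw [hval χ hχ, map_intCast]
    have hd' : (d χ : ℂ) ≠ 0 := by exact_mod_cast (hdpos χ).ne'
    rcases hTm χ hχ with h3 | h3
    · rw [h3]; push_cast; field_simp
    · rw [h3]; push_cast; field_simp
  rw [hTsum] at hform
  obtain ⟨x, y, z, hxy, hxz, hyz, hTxyz⟩ := Finset.card_eq_three.1 hcard
  have hx : x ∈ T := by rw [hTxyz]; simp
  have hy : y ∈ T := by rw [hTxyz]; simp
  have hz : z ∈ T := by rw [hTxyz]; simp
  have hsum3 : ∀ (A : Type) [AddCommMonoid A] (f : IrrCharacter G → A), ∑ χ ∈ T, f χ = f x + f y + f z := by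
    intro A _ f
    rw [hTxyz, Finset.sum_insert (by simp [hxy, hxz]), Finset.sum_pair hyz, add_assoc]
  rw [hsum3] at hform hdeg
  set C := Subgroup.centralizer ({t} : Set G) with hC
  have hidx : 0 < C.index := Nat.pos_of_ne_zero Subgroup.index_ne_zero_of_finite
  apply arith (hmod x hx) (hmod y hy) (hmod z hz) (hne1 x hx) (hne1 y hy) (hne1 z hz) hdeg hidx
  have hCG : (Nat.card G : ℝ) = Nat.card ↥C * C.index := by exact_mod_cast (C.card_mul_index).symm
  have hC0 : (Nat.card ↥C : ℝ) ≠ 0 := by exact_mod_cast Nat.card_pos.ne'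
  have hI0 : (C.index : ℝ) ≠ 0 := by exact_mod_cast hidx.ne'
  have hreal : (1 : ℝ) + (((m x * d x : ℤ) : ℝ)⁻¹ + ((m y * d y : ℤ) : ℝ)⁻¹ + ((m z * d z : ℤ) : ℝ)⁻¹) =
      8 * (Nat.card ↥C : ℝ) / Nat.card G := by
    have h5 : (((1 : ℝ) + (((m x * d x : ℤ) : ℝ)⁻¹ + ((m y * d y : ℤ) : ℝ)⁻¹ + ((m z * d z : ℤ) : ℝ)⁻¹) : ℝ) : ℂ) =
        ((8 * (Nat.card ↥C : ℝ) / Nat.card G : ℝ) : ℂ) := by
      push_cast
      push_cast at hform
      rw [← hform]
      simp
    exact_mod_cast h5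
  rw [hCG] at hreal
  have h6 : 8 * (Nat.card ↥C : ℝ) / (Nat.card ↥C * C.index) = 8 / C.index := by
    field_simp
  rw [h6] at hreal
  rw [← hreal]; ring

end Cfsg.Agent.Lib.H55KleinChar
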