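import Mathlib
import Cfsg.Prelude.Def_Characters
import Cfsg.Agent.Lib.CharBasic
import Cfsg.Agent.Lib.IndFun

set_option autoImplicit false

/-!
# Permutation characters as induced functions (helper15)
-/

namespace Cfsg.Agent.Lib.PermInd

open scoped ComplexConjugate

universe u v

variable {G : Type u} [Group G]

/-- The induced function of `1` from a point stabiliser counts fixed points on the orbit. -/
theorem indFun_stabilizer_one [Fintype G] {X : Type v} [MulAction G X] [Finite X] (x0 : X)
    (g : G) : indFun (MulAction.stabilizer G x0) (fun _ => 1) g =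
      (Nat.card {x : X // x ∈ MulAction.orbit G x0 ∧ g • x = x} : ℂ) := by
  classical
  have : Fintype X := Fintype.ofFinite X
  rw [IndFun.indFun_apply]
  have h1 : ∀ y : G, extendByZero (MulAction.stabilizer G x0) (fun _ => (1 : ℂ)) (y⁻¹ * g * y) =
      if g • y • x0 = y • x0 then 1 else 0 := by
    intro y
    have h2 : y⁻¹ * g * y ∈ MulAction.stabilizer G x0 ↔ g • y • x0 = y • x0 := by
      rw [MulAction.mem_stabilizer_iff, mul_smul, mul_smul, inv_smul_eq_iff]
    split_ifs with h
    · exact IndFun.extendByZero_mem _ _ (h2.mpr h)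
    · exact IndFun.extendByZero_not_mem _ _ (fun h' => h (h2.mp h'))
  simp only [h1]
  rw [Finset.sum_boole]
  have h3 : (Finset.univ.filter fun y : G => g • y • x0 = y • x0).card =
      Nat.card {x : X // x ∈ MulAction.orbit G x0 ∧ g • x = x} *
        Nat.card (MulAction.stabilizer G x0) := by
    rw [← Fintype.card_subtype, ← Nat.card_eq_fintype_card]
    let F : {y : G // g • y • x0 = y • x0} → {x : X // x ∈ MulAction.orbit G x0 ∧ g • x = x} :=
      fun y => ⟨y.1 • x0, ⟨y.1, rfl⟩, y.2⟩
    rw [← Nat.card_congr (Equiv.sigmaFiberEquiv F), Nat.card_sigma]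
    have h4 : ∀ x : {x : X // x ∈ MulAction.orbit G x0 ∧ g • x = x},
        Nat.card {y // F y = x} = Nat.card (MulAction.stabilizer G x0) := by
      rintro ⟨x, ⟨z, hz⟩, hgx⟩
      have hz' : z • x0 = x := hz
      apply Nat.card_congr
      refine
        { toFun := fun y => ⟨z⁻¹ * y.1.1, ?_⟩
          invFun := fun s => ⟨⟨z * s.1, ?_⟩, ?_⟩
          left_inv := fun y => ?_
          right_inv := fun s => ?_ }
      · rw [MulAction.mem_stabilizer_iff, mul_smul, inv_smul_eq_iff, hz']
        exact congrArg Subtype.val y.2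
      · rw [mul_smul, MulAction.mem_stabilizer_iff.mp s.2, hz', hgx]
      · apply Subtype.ext
        change (z * s.1) • x0 = x
        rw [mul_smul, MulAction.mem_stabilizer_iff.mp s.2, hz']
      · apply Subtype.ext
        apply Subtype.ext
        simp
      · apply Subtype.ext
        simp
    rw [Finset.sum_congr rfl (fun x _ => h4 x), Finset.sum_const, Finset.card_univ,
      Nat.card_eq_fintype_card (α := {x : X // x ∈ MulAction.orbit G x0 ∧ g • x = x}), smul_eq_mul]
  rw [h3]
  have h5 : (Nat.card (MulAction.stabilizer G x0) : ℂ) ≠ 0 := by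
    exact_mod_cast Nat.card_pos.ne'
  push_cast
  field_simp

/-- The function induced from `1` counts fixed points on cosets. -/
theorem indFun_one_eq_card_fixedBy [Fintype G] (H : Subgroup G) (g : G) :
    indFun H (fun _ => 1) g = (Nat.card (MulAction.fixedBy (G ⧸ H) g) : ℂ) := by
  have h := indFun_stabilizer_one (X := G ⧸ H) ((1 : G) : G ⧸ H) g
  have h1 : MulAction.stabilizer G ((1 : G) : G ⧸ H) = H := MulAction.stabilizer_quotient H
  have h2 : indFun (MulAction.stabilizer G ((1 : G) : G ⧸ H)) (fun _ => 1) g =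
      indFun H (fun _ => 1) g := by rw [h1]
  rw [← h2, h]
  congr 1
  apply Nat.card_congr
  refine
    { toFun := fun x => ⟨x.1, x.2.2⟩
      invFun := fun x => ⟨x.1, by
        rw [MulAction.orbit_eq_univ]; trivial, x.2⟩
      left_inv := fun x => rfl
      right_inv := fun x => rfl }

/-- A permutation character is the sum over the orbits of the functions induced from `1` on
the stabilisers of orbit representatives. -/
theorem card_fixedBy_eq_sum_orbits [Fintype G] {X : Type v} [MulAction G X] [Finite X]
    [Fintype (MulAction.orbitRel.Quotient G X)]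
    (r : MulAction.orbitRel.Quotient G X → X) (hr : ∀ ω, (Quotient.mk'' (r ω) :
      MulAction.orbitRel.Quotient G X) = ω) (g : G) :
    (Nat.card (MulAction.fixedBy X g) : ℂ) =
      ∑ ω : MulAction.orbitRel.Quotient G X,
        indFun (MulAction.stabilizer G (r ω)) (fun _ => 1) g := by
  classical
  have : Fintype X := Fintype.ofFinite X
  simp only [indFun_stabilizer_one]
  let F : MulAction.fixedBy X g → MulAction.orbitRel.Quotient G X := fun x => Quotient.mk'' x.1
  rw [← Nat.card_congr (Equiv.sigmaFiberEquiv F), Nat.card_sigma]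
  push_cast
  apply Finset.sum_congr rfl
  intro ω _
  congr 1
  apply Nat.card_congr
  have key : ∀ x : X, (Quotient.mk'' x : MulAction.orbitRel.Quotient G X) = ω ↔
      x ∈ MulAction.orbit G (r ω) := by
    intro x
    rw [← MulAction.orbitRel_apply, ← Quotient.eq'', hr ω]
  exact
    { toFun := fun x => ⟨x.1.1, (key _).mp x.2, x.1.2⟩
      invFun := fun x => ⟨⟨x.1, x.2.2⟩, (key _).mpr x.2.1⟩
      left_inv := fun x => rfl
      right_inv := fun x => rfl }

/-- The product of two permutation characters `1_H^G * 1_K^G` as a sum of `1_U^G`, `U ≤ H`. -/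
theorem indFun_one_mul_indFun_one [Fintype G] (H K : Subgroup G) :
    ∃ a : Subgroup G → ℕ, (∀ U, a U ≠ 0 → U ≤ H) ∧
      indFun H (fun _ => 1) * indFun K (fun _ => 1) =
        ∑ U : Subgroup G, (a U : ℂ) • indFun U (fun _ => 1) := by
  classical
  let X := (G ⧸ H) × (G ⧸ K)
  have : Fintype (MulAction.orbitRel.Quotient G X) := Fintype.ofFinite _
  have hrep : ∀ ω : MulAction.orbitRel.Quotient G X, ∃ x : X,
      (Quotient.mk'' x : MulAction.orbitRel.Quotient G X) = ω ∧ x.1 = ((1 : G) : G ⧸ H) := by
    intro ω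
    induction ω using Quotient.inductionOn' with
    | h x =>
      obtain ⟨a, ha⟩ := QuotientGroup.mk_surjective x.1
      refine ⟨a⁻¹ • x, ?_, ?_⟩
      · rw [Quotient.eq'', MulAction.orbitRel_apply]
        exact ⟨a⁻¹, rfl⟩
      · change a⁻¹ • x.1 = _
        rw [← ha]
        change ((a⁻¹ * a : G) : G ⧸ H) = _
        rw [inv_mul_cancel]
  choose r hr hr1 using hrep
  refine ⟨fun U => (Finset.univ.filter fun ω => MulAction.stabilizer G (r ω) = U).card, ?_, ?_⟩
  · intro U hU
    obtain ⟨ω, hω⟩ := Finset.card_pos.mp (Nat.pos_of_ne_zero hU)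
    rw [Finset.mem_filter] at hω
    rw [← hω.2]
    intro g hg
    rw [MulAction.mem_stabilizer_iff] at hg
    have h1 : g • (r ω).1 = (r ω).1 := congrArg Prod.fst hg
    rw [hr1] at h1
    have h2 : g ∈ MulAction.stabilizer G ((1 : G) : G ⧸ H) := h1
    rwa [MulAction.stabilizer_quotient] at h2
  · ext g
    rw [Pi.mul_apply, indFun_one_eq_card_fixedBy, indFun_one_eq_card_fixedBy]
    have h1 : (Nat.card (MulAction.fixedBy X g) : ℂ) =
        (Nat.card (MulAction.fixedBy (G ⧸ H) g) : ℂ) *
          (Nat.card (MulAction.fixedBy (G ⧸ K) g) : ℂ) := by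
      rw [← Nat.cast_mul, ← Nat.card_prod]
      congr 1
      apply Nat.card_congr
      exact
        { toFun := fun x => (⟨x.1.1, congrArg Prod.fst x.2⟩, ⟨x.1.2, congrArg Prod.snd x.2⟩)
          invFun := fun x => ⟨(x.1.1, x.2.1), Prod.ext x.1.2 x.2.2⟩
          left_inv := fun x => rfl
          right_inv := fun x => rfl }
    rw [← h1, card_fixedBy_eq_sum_orbits r hr g]
    rw [Finset.sum_apply, ← Finset.sum_fiberwise Finset.univ
      (fun ω => MulAction.stabilizer G (r ω))]
    apply Finset.sum_congr rfl
    intro U _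
    rw [Finset.sum_congr rfl (g := fun _ => indFun U (fun _ => 1) g)]
    · rw [Finset.sum_const, nsmul_eq_mul, Pi.smul_apply, smul_eq_mul]
    · intro ω hω
      rw [(Finset.mem_filter.mp hω).2]

end Cfsg.Agent.Lib.PermInd
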