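import Mathlib
import Cfsg.Agent.Lib.BRDeg
import Cfsg.Agent.Lib.H55KleinChar2
import Cfsg.Agent.Lib.PermInd

set_option autoImplicit false
set_option linter.all false

/-!
# Multiplicities of characters in the principal block
-/

namespace Cfsg.Agent.Lib.BRCore

open Cfsg Cfsg.Agent.Lib.BlockRing Cfsg.Agent.Lib.BlockGA Cfsg.Agent.Lib.BlockIdem
open Cfsg.Agent.Lib.DefOneLoc Cfsg.Agent.Lib.DefOneOrd Cfsg.Agent.Lib.CharBasic Cfsg.Agent.Lib.DefOneGram
open Cfsg.Agent.Lib.DefOne Cfsg.Agent.Lib.BlockThird Cfsg.Agent.Lib.DefOnePrin Cfsg.Agent.Lib.BRB0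
open Cfsg.Agent.Lib.BRNum Cfsg.Agent.Lib.BRDeg
open scoped ComplexConjugate

universe u

section mlt

variable {G : Type u} [Group G] [Fintype G]

open scoped Classical in
/-- multiplicity -/
noncomputable def mlt (φ : G → ℂ) (χ : IrrCharacter G) : ℕ :=
  if h : IsCharacter G φ then (h.classInner_nat χ.2.isCharacter).choose else 0

theorem mlt_spec {φ : G → ℂ} (h : IsCharacter G φ) (χ : IrrCharacter G) :
    classInner φ (χ : G → ℂ) = mlt φ χ := by
  rw [mlt, dif_pos h]
  exact (h.classInner_nat χ.2.isCharacter).choose_spec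

/-- the degree of a character is the sum of the degrees of its constituents -/
theorem degree_sum {φ : G → ℂ} (h : IsCharacter G φ) {d : ℕ} (hd : φ 1 = d) :
    ∑ χ : IrrCharacter G, mlt φ χ * charDegree (χ : G → ℂ) = d := by
  have h1 := congrFun h.isClassFunction.expansion 1
  rw [Finset.sum_apply, hd] at h1
  have h2 : ∀ χ : IrrCharacter G, (classInner φ (χ : G → ℂ) • (χ : G → ℂ)) 1 = (mlt φ χ * charDegree (χ : G → ℂ) : ℕ) := by
    intro χ
    rw [Pi.smul_apply, mlt_spec h, smul_eq_mul, ← BlockDeg.charDegree_cast_irr χ]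
    push_cast; rfl
  rw [Finset.sum_congr rfl (fun χ _ => h2 χ)] at h1
  exact_mod_cast h1.symm

theorem degree_le {φ : G → ℂ} (h : IsCharacter G φ) {d : ℕ} (hd : φ 1 = d) (S : Finset (IrrCharacter G)) :
    ∑ χ ∈ S, mlt φ χ * charDegree (χ : G → ℂ) ≤ d := by
  rw [← degree_sum h hd]
  exact Finset.sum_le_sum_of_subset (Finset.subset_univ _)

theorem classInner_eq_sum {φ φ' : G → ℂ} (h : IsCharacter G φ) (h' : IsCharacter G φ') :
    classInner φ φ' = ∑ χ : IrrCharacter G, ((mlt φ χ * mlt φ' χ : ℕ) : ℂ) := by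
  have h1 := h.isClassFunction.expansion
  conv_lhs => rw [h1]
  rw [classInner_sum_left]
  refine Finset.sum_congr rfl fun χ _ => ?_
  rw [classInner_smul_left, mlt_spec h, ← IndFun.classInner_conj_symm, mlt_spec h', Complex.conj_natCast]
  push_cast; rfl

/-- a character of the degree of one of its constituents -/
theorem mlt_eq_zero_of_deg {φ : G → ℂ} (h : IsCharacter G φ) {χ : IrrCharacter G}
    (hd : φ 1 = charDegree (χ : G → ℂ)) (hχ : mlt φ χ ≠ 0) {ξ : IrrCharacter G} (hξ : ξ ≠ χ) : mlt φ ξ = 0 := by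
  classical
  have h1 := degree_le h hd {χ, ξ}
  rw [Finset.sum_pair hξ.symm] at h1
  have h2 := BlockDeg.charDegree_pos χ.2
  have h3 := BlockDeg.charDegree_pos ξ.2
  have h4 : charDegree (χ : G → ℂ) ≤ mlt φ χ * charDegree (χ : G → ℂ) := Nat.le_mul_of_pos_left _ (Nat.pos_of_ne_zero hχ)
  have h5 : mlt φ ξ * charDegree (ξ : G → ℂ) = 0 := by omega
  rcases Nat.mul_eq_zero.1 h5 with h6 | h6
  · exact h6
  · omega

theorem eq_of_mlt_deg {φ : G → ℂ} (h : IsCharacter G φ) {χ : IrrCharacter G}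
    (hd : φ 1 = charDegree (χ : G → ℂ)) (hχ : mlt φ χ ≠ 0) : φ = (χ : G → ℂ) := by
  have h1 := h.isClassFunction.expansion
  rw [Finset.sum_eq_single χ] at h1
  · rw [h1, mlt_spec h]
    have h2 := congrFun h1 1
    rw [Pi.smul_apply, smul_eq_mul, hd, BlockDeg.charDegree_cast_irr χ] at h2
    have h3 : classInner φ (χ : G → ℂ) = 1 := mul_right_cancel₀ χ.2.one_ne_zero (by rw [← h2, one_mul])
    rw [← mlt_spec h, h3, one_smul]
  · intro ξ _ hξ
    rw [mlt_spec h, mlt_eq_zero_of_deg h hd hχ hξ, Nat.cast_zero, zero_smul]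
  · intro h; exact absurd (Finset.mem_univ _) h

end mlt

variable {G : Type u} [Group G] [Fintype G] {p : ℕ} [hp : Fact p.Prime] {P N C : Subgroup G}
  {D : Loc p P N C} [Fintype C]

theorem deg_triv : charDegree ((triv G : IrrCharacter G) : G → ℂ) = 1 := by
  have h1 := BlockDeg.charDegree_cast_irr (triv G)
  have h2 : ((triv G : IrrCharacter G) : G → ℂ) 1 = 1 := rfl
  rw [h2] at h1
  exact_mod_cast h1

theorem eq_triv_of_deg (hG : commutator G = ⊤) {χ : IrrCharacter G} (h : charDegree (χ : G → ℂ) = 1) : χ = triv G := by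
  apply Subtype.ext
  have h1 := BlockDeg.charDegree_cast_irr χ
  rw [h, Nat.cast_one] at h1
  exact H55KleinChar.eq_one_of_perfect hG χ.2.isCharacter h1.symm

theorem dm_triv (i : (ZMod p)ˣ) : dm D ((triv G : IrrCharacter G) : G → ℂ) (triv C) i = -1 :=
  dm_const (a := 1) (fun c _ => rfl) i.ne_zero

/-- hypotheses on the group -/
structure Ctx (D : Loc p P N C) (n : ℕ) : Prop where
  perf : commutator G = ⊤
  hP : Nat.card P = p
  idx : N.index = 1 + n * p
  hn : 0 < n
  he : 1 < Nat.card (κu D).range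
  hF : ¬ FForm p n
  core : ∀ K : Subgroup G, K.Normal → ¬ p ∣ Nat.card K → K = ⊥

section

variable {n : ℕ} (h : Ctx D n)

omit [Fintype C] in
theorem p_eq (D : Loc p P N C) : p = Nat.card (κu D).range * Nat.card (Tau D) + 1 := by
  have h1 := Subgroup.card_eq_card_quotient_mul_card_subgroup (κu D).range
  rw [Nat.card_eq_fintype_card, ZMod.card_units] at h1
  rw [mul_comm, ← h1]
  have := hp.out.pos
  omega

omit [Fintype C] in
theorem index_C (D : Loc p P N C) : C.index = Nat.card (κu D).range * N.index := by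
  rw [card_range, Subgroup.relIndex_mul_index D.CN]

theorem lt_p (D : Loc p P N C) : Nat.card (κu D).range < p := by
  have h1 := p_eq D
  have h2 : 0 < Nat.card (Tau D) := Nat.card_pos
  have h3 : Nat.card (κu D).range ≤ Nat.card (κu D).range * Nat.card (Tau D) := Nat.le_mul_of_pos_right _ h2
  omega

/-! ### two or more exceptional characters -/

section two

variable (B : B0 D) (ht : 1 < Nat.card (Tau D))
include h ht

omit h in
theorem triv_mem_X : triv G ∈ B.X ∧ B.δ (triv G) = 1 := by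
  have h1 : triv G ∈ B.X := by
    by_contra h1
    by_cases h2 : ∃ q, triv G = B.Y q
    · obtain ⟨q, hq⟩ := h2
      have : Nontrivial (Tau D) := by
        rw [← not_subsingleton_iff_nontrivial]
        intro h3
        have h4 := Finite.card_le_one_iff_subsingleton (α := Tau D) |>.2 h3
        omega
      obtain ⟨q', hq'⟩ := exists_ne q
      obtain ⟨i, hi⟩ := QuotientGroup.mk_surjective q'
      have h3 := B.dmY q i
      rw [← hq, dm_triv, hi, if_neg hq'] at h3
      norm_num at h3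
    · push Not at h2
      have h3 := B.dmO _ h1 h2 1
      rw [dm_triv] at h3
      norm_num at h3
  refine ⟨h1, ?_⟩
  have h2 := B.dmX _ h1 1
  rw [dm_triv] at h2
  have h3 : (B.δ (triv G) : ℂ) = 1 := by linear_combination h2
  exact_mod_cast h3

theorem deg_Xp {χ : IrrCharacter G} (hχ : χ ∈ B.X) (hne : χ ≠ triv G) (hδ : B.δ χ = 1) :
    charDegree (χ : G → ℂ) = 1 + n * p := by
  obtain ⟨k, hk⟩ := B.degX χ hχ
  rw [hδ] at hk
  obtain ⟨w, hw⟩ := BRDeg.B0.dvdX B hχ
  rw [index_C D, h.idx] at hw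
  have h0 := BlockDeg.charDegree_pos χ.2
  have hk0 : 0 < k := by
    by_contra hcon
    push Not at hcon
    have hpz : (0 : ℤ) < p := by exact_mod_cast hp.out.pos
    have h1 : k * p ≤ 0 := mul_nonpos_of_nonpos_of_nonneg hcon hpz.le
    have h2 : charDegree (χ : G → ℂ) = 1 := by omega
    exact hne (eq_triv_of_deg h.perf h2)
  have hw0 : 0 < w := by
    rcases Nat.eq_zero_or_pos w with h1 | h1
    · rw [h1, mul_zero] at hw
      have h2 : 0 < Nat.card (κu D).range := Nat.card_pos
      have h3 : 0 < Nat.card (κu D).range * (1 + n * p) := by positivity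
      omega
    · exact h1
  obtain ⟨-, h2⟩ := deg_pos (p_eq D) Nat.card_pos (lt_p D) h.hF (d := charDegree (χ : G → ℂ)) (w := w) (k := k)
    (by exact_mod_cast hw0) (by rw [hk]; ring) hk0 (by exact_mod_cast hw.symm)
  exact_mod_cast h2

theorem deg_Xm {χ : IrrCharacter G} (hχ : χ ∈ B.X) (hδ : B.δ χ = -1) :
    charDegree (χ : G → ℂ) = p - 1 := by
  obtain ⟨k, hk⟩ := B.degX χ hχ
  rw [hδ] at hk
  obtain ⟨w, hw⟩ := BRDeg.B0.dvdX B hχ
  rw [index_C D, h.idx] at hw
  have h0 := BlockDeg.charDegree_pos χ.2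
  have hw0 : 0 < w := by
    rcases Nat.eq_zero_or_pos w with h1 | h1
    · rw [h1, mul_zero] at hw
      have h2 : 0 < Nat.card (κu D).range := Nat.card_pos
      have h3 : 0 < Nat.card (κu D).range * (1 + n * p) := by positivity
      omega
    · exact h1
  rcases deg_neg (p_eq D) Nat.card_pos (lt_p D) h.hF (d := charDegree (χ : G → ℂ)) (w := w) (k := k)
    (by exact_mod_cast h0) (by exact_mod_cast hw0) (by rw [hk]; ring) (by exact_mod_cast hw.symm) with h2 | ⟨h2, -⟩
  · have := hp.out.one_le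
    omega
  · omega

omit h in
theorem X_cases {χ : IrrCharacter G} (hχ : χ ∈ B.X) : χ = triv G ∨ (χ ≠ triv G ∧ B.δ χ = 1) ∨ (χ ≠ triv G ∧ B.δ χ = -1) := by
  by_cases h1 : χ = triv G
  · exact Or.inl h1
  · rcases B.δ_pm χ hχ with h2 | h2
    · exact Or.inr (Or.inl ⟨h1, h2⟩)
    · exact Or.inr (Or.inr ⟨h1, h2⟩)

open scoped Classical in
/-- positive part -/
noncomputable def Xp (B : B0 D) : Finset (IrrCharacter G) := B.X.filter (fun χ => χ ≠ triv G ∧ B.δ χ = 1)

open scoped Classical in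
/-- negative part -/
noncomputable def Xm (B : B0 D) : Finset (IrrCharacter G) := B.X.filter (fun χ => B.δ χ = -1)

omit h in
theorem sum_split {R : Type*} [CommRing R] (f : IrrCharacter G → R) : ∑ χ ∈ B.X, (B.δ χ : R) * f χ =
    f (triv G) + ∑ χ ∈ Xp B, f χ - ∑ χ ∈ Xm B, f χ := by
  classical
  obtain ⟨h1, h2⟩ := triv_mem_X B ht
  rw [Xp, Xm, Finset.sum_filter, Finset.sum_filter]
  have h3 : f (triv G) = ∑ χ ∈ B.X, if χ = triv G then f χ else 0 := by
    rw [Finset.sum_ite_eq' B.X (triv G), if_pos h1]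
  rw [h3, ← Finset.sum_add_distrib, ← Finset.sum_sub_distrib]
  refine Finset.sum_congr rfl fun χ hχ => ?_
  rcases X_cases B ht hχ with rfl | ⟨h4, h5⟩ | ⟨h4, h5⟩
  · have h6 : ¬ B.δ (triv G) = -1 := by rw [h2]; norm_num
    simp [h2, h6]
  · have h6 : ¬ B.δ χ = -1 := by rw [h5]; norm_num
    simp [h4, h5, h6]
  · have h6 : ¬ B.δ χ = 1 := by rw [h5]; norm_num
    simp [h4, h5, h6]

omit h in
theorem card_split : Nat.card (κu D).range = 1 + (Xp B).card + (Xm B).card := by
  classical
  obtain ⟨h1, h2⟩ := triv_mem_X B ht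
  rw [← B.cardX]
  have h3 : B.X = {triv G} ∪ (Xp B ∪ Xm B) := by
    ext χ
    rw [Finset.mem_union, Finset.mem_union, Finset.mem_singleton, Xp, Xm, Finset.mem_filter, Finset.mem_filter]
    constructor
    · intro hχ
      rcases X_cases B ht hχ with h4 | h4 | h4
      · exact Or.inl h4
      · exact Or.inr (Or.inl ⟨hχ, h4⟩)
      · exact Or.inr (Or.inr ⟨hχ, h4.2⟩)
    · rintro (rfl | h4 | h4)
      · exact h1
      · exact h4.1
      · exact h4.1
  have h4 : Disjoint ({triv G} : Finset (IrrCharacter G)) (Xp B ∪ Xm B) := by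
    rw [Finset.disjoint_singleton_left, Finset.mem_union, Xp, Xm, Finset.mem_filter, Finset.mem_filter]
    rintro (h5 | h5)
    · exact h5.2.1 rfl
    · have := h5.2; rw [h2] at this; norm_num at this
  have h5 : Disjoint (Xp B) (Xm B) := by
    rw [Finset.disjoint_left]
    intro χ h6 h7
    rw [Xp, Finset.mem_filter] at h6
    rw [Xm, Finset.mem_filter] at h7
    have := h7.2
    rw [h6.2.2] at this
    norm_num at this
  conv_lhs => rw [h3]
  rw [Finset.card_union_of_disjoint h4, Finset.card_union_of_disjoint h5, Finset.card_singleton]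
  ring

/-- degrees in the relation -/
theorem relation_deg (q : Tau D) : B.s * (charDegree (B.Y q : G → ℂ) : ℤ) =
    1 + (Xp B).card * (1 + n * p) - (Xm B).card * ((p : ℤ) - 1) := by
  have h1 := B.rel q 1 (by rw [orderOf_one]; exact hp.out.one_lt.ne' ∘ Nat.dvd_one.1)
  rw [← BlockDeg.charDegree_cast_irr (B.Y q)] at h1
  have h2 : ∑ χ ∈ B.X, (B.δ χ : ℂ) * (χ : G → ℂ) 1 = ∑ χ ∈ B.X, (B.δ χ : ℂ) * (charDegree (χ : G → ℂ) : ℂ) :=
    Finset.sum_congr rfl fun χ _ => by rw [BlockDeg.charDegree_cast_irr]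
  rw [h2, sum_split B ht (fun χ => (charDegree (χ : G → ℂ) : ℂ))] at h1
  have h3 : ∑ χ ∈ Xp B, (charDegree (χ : G → ℂ) : ℂ) = (Xp B).card * (1 + n * p) := by
    have h5 : ∀ χ ∈ Xp B, (charDegree (χ : G → ℂ) : ℂ) = (1 + n * p : ℂ) := by
      intro χ hχ
      classical
      rw [Xp, Finset.mem_filter] at hχ
      rw [deg_Xp h B ht hχ.1 hχ.2.1 hχ.2.2]
      push_cast; rfl
    rw [Finset.sum_congr rfl h5, Finset.sum_const, nsmul_eq_mul]
  have h4 : ∑ χ ∈ Xm B, (charDegree (χ : G → ℂ) : ℂ) = (Xm B).card * ((p : ℂ) - 1) := by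
    have h5 : ∀ χ ∈ Xm B, (charDegree (χ : G → ℂ) : ℂ) = ((p : ℂ) - 1) := by
      intro χ hχ
      classical
      rw [Xm, Finset.mem_filter] at hχ
      rw [deg_Xm h B ht hχ.1 hχ.2, Nat.cast_sub hp.out.one_le, Nat.cast_one]
    rw [Finset.sum_congr rfl h5, Finset.sum_const, nsmul_eq_mul]
  rw [h3, h4, deg_triv] at h1
  push_cast at h1
  exact_mod_cast h1

/-- exceptional degree -/
theorem deg_Y (q : Tau D) : (B.s = 1 ∧ charDegree (B.Y q : G → ℂ) = Nat.card (κu D).range) ∨
    (B.s = -1 ∧ charDegree (B.Y q : G → ℂ) * Nat.card (Tau D) = 1 + n * p ∧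
      charDegree (B.Y q : G → ℂ) * (p - 1) = Nat.card (κu D).range * (1 + n * p)) := by
  obtain ⟨k, hk⟩ := B.degY q
  obtain ⟨w, hw⟩ := BRDeg.B0.dvdY B q
  rw [index_C D, h.idx] at hw
  have h0 := BlockDeg.charDegree_pos (B.Y q).2
  have he0 : 0 < Nat.card (κu D).range := Nat.card_pos
  have hw0 : 0 < w := by
    rcases Nat.eq_zero_or_pos w with h1 | h1
    · rw [h1, mul_zero] at hw
      have h3 : 0 < Nat.card (κu D).range * (1 + n * p) := by positivity
      omega
    · exact h1
  rcases B.s_pm with hs | hs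
  · left
    refine ⟨hs, ?_⟩
    rw [hs, one_mul] at hk
    rcases exc_pos (p_eq D) he0 (lt_p D) h.hF (z := charDegree (B.Y q : G → ℂ)) (w := w) (k := k)
      (by exact_mod_cast h0) (by exact_mod_cast hw0) hk (by exact_mod_cast hw.symm) with h1 | h1
    · exact_mod_cast h1
    · exfalso
      have h2 := relation_deg h B ht q
      have h3 := card_split B ht
      rw [hs, one_mul, h1] at h2
      have hpz : (1 : ℤ) ≤ p := by exact_mod_cast hp.out.one_le
      have h4 : (0 : ℤ) ≤ (Xm B).card * ((p : ℤ) - 1) := mul_nonneg (by positivity) (by linarith)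
      have h5 : (Nat.card (κu D).range : ℤ) = 1 + (Xp B).card + (Xm B).card := by exact_mod_cast h3
      have h6 : (1 : ℤ) ≤ n := by exact_mod_cast h.hn
      have h7 : (0 : ℤ) ≤ (Xm B).card * (1 + n * p : ℤ) := by positivity
      have h8 : (Nat.card (κu D).range : ℤ) * (1 + n * p) = (1 + (Xp B).card + (Xm B).card) * (1 + n * p) := by rw [h5]
      nlinarith
  · right
    refine ⟨hs, ?_⟩
    rw [hs] at hk
    obtain ⟨h1, h2⟩ := exc_neg (p_eq D) he0 (lt_p D) h.hF ht (z := charDegree (B.Y q : G → ℂ)) (w := w) (k := k)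
      (by exact_mod_cast h0) (by exact_mod_cast hw0) (by rw [hk]; ring) (by exact_mod_cast hw.symm)
    refine ⟨by exact_mod_cast h2, ?_⟩
    have h3 : w = p - 1 := by
      have := hp.out.one_le
      omega
    rw [← h3]; exact hw.symm

include B in
/-- there is a character of degree `p - 1`. -/
theorem Xm_nonempty : ∃ χ : IrrCharacter G, charDegree (χ : G → ℂ) = p - 1 ∧ ∀ c : C, D.l c ≠ 0 → (χ : G → ℂ) c = -1 := by
  classical
  have h1 : (Xm B).Nonempty := by
    rw [Finset.nonempty_iff_ne_empty]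
    intro hemp
    obtain ⟨q⟩ : Nonempty (Tau D) := inferInstance
    have h2 := relation_deg h B ht q
    have h3 := card_split B ht
    rw [hemp, Finset.card_empty] at h2 h3
    have h0 := BlockDeg.charDegree_pos (B.Y q).2
    have he := h.he
    have h6 : (1 : ℤ) ≤ n * p := by
      have := h.hn
      have h9 := hp.out.pos
      have : 1 ≤ n * p := Nat.one_le_iff_ne_zero.2 (by positivity)
      exact_mod_cast this
    rcases deg_Y h B ht q with ⟨h4, h5⟩ | ⟨h4, h5⟩
    · rw [h4, h5, one_mul] at h2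
      have h7 : ((Xp B).card : ℤ) * (n * p) = 0 := by
        have h8 : (Nat.card (κu D).range : ℤ) = 1 + (Xp B).card + 0 := by exact_mod_cast h3
        rw [h8] at h2
        push_cast at h2
        linarith
      have h8 : (1 : ℤ) ≤ (Xp B).card := by omega
      nlinarith
    · rw [h4] at h2
      have h8 : (0 : ℤ) ≤ (Xp B).card * (1 + n * p : ℤ) := by positivity
      push_cast at h2
      nlinarith
  obtain ⟨χ, hχ⟩ := h1
  rw [Xm, Finset.mem_filter] at hχ
  refine ⟨χ, deg_Xm h B ht hχ.1 hχ.2, fun c hc => ?_⟩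
  rw [B.valX χ hχ.1 c hc, hχ.2]
  push_cast; rfl

include B in
/-- Two characters of degree `1 + np` which are `1` on the `p`-singular elements of `C`, one of them containing the
trivial character and the other one not, are orthogonal (negative exceptional sign). -/
theorem ortho_two (hs : B.s = -1) {φ φ' : G → ℂ} (hφ : IsCharacter G φ) (hφ' : IsCharacter G φ')
    (hd : φ 1 = ((1 + n * p : ℕ) : ℂ)) (hd' : φ' 1 = ((1 + n * p : ℕ) : ℂ)) (h1 : ∀ c : C, D.l c ≠ 0 → φ c = 1)
    (h1' : ∀ c : C, D.l c ≠ 0 → φ' c = 1) (ht0 : mlt φ (triv G) = 0) (ht1 : mlt φ' (triv G) = 1) :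
    classInner φ φ' = 0 := by
  classical
  letI : Fintype (Tau D) := Fintype.ofFinite _
  rw [classInner_eq_sum hφ hφ']
  apply Finset.sum_eq_zero
  intro χ _
  by_contra hcon
  have hne : mlt φ χ ≠ 0 ∧ mlt φ' χ ≠ 0 := by
    constructor <;> (intro h0; apply hcon; rw [h0]; simp)
  obtain ⟨hm, hm'⟩ := hne
  have hχt : χ ≠ triv G := by
    rintro rfl
    exact hm ht0
  -- no constituent in `Xp` for `φ'`
  have hXp' : ∀ ξ ∈ Xp B, mlt φ' ξ = 0 := by
    intro ξ hξ
    rw [Xp, Finset.mem_filter] at hξ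
    by_contra h0
    have h2 := degree_le hφ' hd' {triv G, ξ}
    rw [Finset.sum_pair hξ.2.1.symm, ht1, deg_triv, one_mul, deg_Xp h B ht hξ.1 hξ.2.1 hξ.2.2] at h2
    have h3 : 1 + n * p ≤ mlt φ' ξ * (1 + n * p) := Nat.le_mul_of_pos_left _ (Nat.pos_of_ne_zero h0)
    omega
  -- multiplicity equations
  have hmult : ∀ {ψ : G → ℂ} (hψ : IsCharacter G ψ) (h2 : ∀ c : C, D.l c ≠ 0 → ψ c = 1) (q : Tau D),
      (mlt ψ (triv G) : ℤ) + ∑ ξ ∈ Xp B, (mlt ψ ξ : ℤ) - ∑ ξ ∈ Xm B, (mlt ψ ξ : ℤ) + mlt ψ (B.Y q) = 1 := by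
    intro ψ hψ h2 q
    have h3 := B.mult hψ.isClassFunction h2 q
    rw [Finset.sum_congr rfl (fun ξ _ => by rw [mlt_spec hψ ξ]), sum_split B ht (fun ξ => (mlt ψ ξ : ℂ)), hs,
      mlt_spec hψ] at h3
    have h4 : (((mlt ψ (triv G) : ℤ) + ∑ ξ ∈ Xp B, (mlt ψ ξ : ℤ) - ∑ ξ ∈ Xm B, (mlt ψ ξ : ℤ) + mlt ψ (B.Y q) : ℤ) : ℂ) = ((1 : ℤ) : ℂ) := by
      push_cast
      rw [← h3]
      push_cast
      ring
    exact_mod_cast h4
  have hYsum : ∀ {ψ : G → ℂ} (hψ : IsCharacter G ψ) (hdψ : ψ 1 = ((1 + n * p : ℕ) : ℂ)) (hge : ∀ q, 1 ≤ mlt ψ (B.Y q))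
      (ξ : IrrCharacter G), (∀ q, ξ ≠ B.Y q) → mlt ψ ξ = 0 := by
    intro ψ hψ hdψ hge ξ hξ
    by_contra h0
    have h2 := degree_le hψ hdψ (insert ξ (Finset.univ.image B.Y))
    rw [Finset.sum_insert (by
      intro h3
      obtain ⟨q, -, hq⟩ := Finset.mem_image.1 h3
      exact hξ q hq.symm), Finset.sum_image (fun q _ q' _ hh => B.Yinj hh)] at h2
    have h3 : ∀ q : Tau D, charDegree (B.Y q : G → ℂ) ≤ mlt ψ (B.Y q) * charDegree (B.Y q : G → ℂ) := fun q =>
      Nat.le_mul_of_pos_left _ (hge q)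
    have h4 : ∑ q : Tau D, charDegree (B.Y q : G → ℂ) ≤ ∑ q : Tau D, mlt ψ (B.Y q) * charDegree (B.Y q : G → ℂ) :=
      Finset.sum_le_sum fun q _ => h3 q
    have h5 : ∑ q : Tau D, charDegree (B.Y q : G → ℂ) = 1 + n * p := by
      obtain ⟨q0⟩ : Nonempty (Tau D) := inferInstance
      have h6 : ∀ q : Tau D, charDegree (B.Y q : G → ℂ) = charDegree (B.Y q0 : G → ℂ) := by
        intro q
        have h7 := relation_deg h B ht q
        have h8 := relation_deg h B ht q0
        rw [hs] at h7 h8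
        have h9 : (charDegree (B.Y q : G → ℂ) : ℤ) = charDegree (B.Y q0 : G → ℂ) := by linarith
        exact_mod_cast h9
      rw [Finset.sum_congr rfl (fun q _ => h6 q), Finset.sum_const, Finset.card_univ, smul_eq_mul]
      rcases deg_Y h B ht q0 with ⟨h7, -⟩ | ⟨-, h7, -⟩
      · rw [hs] at h7; norm_num at h7
      · rw [← h7, Nat.card_eq_fintype_card, mul_comm]
    have h6 := BlockDeg.charDegree_pos ξ.2
    have h7 : 0 < mlt ψ ξ * charDegree (ξ : G → ℂ) := Nat.mul_pos (Nat.pos_of_ne_zero h0) h6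
    omega
  by_cases hXp : ∃ ξ ∈ Xp B, mlt φ ξ ≠ 0
  · obtain ⟨ξ, hξ, hξ0⟩ := hXp
    have hξ' := hξ
    rw [Xp, Finset.mem_filter] at hξ'
    have h2 : φ 1 = charDegree (ξ : G → ℂ) := by rw [hd, deg_Xp h B ht hξ'.1 hξ'.2.1 hξ'.2.2]
    have h3 : χ = ξ := by
      by_contra hne
      exact hm (mlt_eq_zero_of_deg hφ h2 hξ0 hne)
    rw [h3] at hm'
    exact hm' (hXp' ξ hξ)
  · push Not at hXp
    have h2 : ∀ q, 1 ≤ mlt φ (B.Y q) := by
      intro q
      have h3 := hmult hφ h1 q
      rw [ht0, Finset.sum_eq_zero (fun ξ hξ => by rw [hXp ξ hξ, Nat.cast_zero])] at h3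
      have h4 : (0 : ℤ) ≤ ∑ ξ ∈ Xm B, (mlt φ ξ : ℤ) := Finset.sum_nonneg fun _ _ => by positivity
      push_cast at h3
      omega
    have h3 : ∃ q, χ = B.Y q := by
      by_contra h4
      push Not at h4
      exact hm (hYsum hφ hd h2 χ h4)
    obtain ⟨q0, rfl⟩ := h3
    have h4 : ∀ q, 1 ≤ mlt φ' (B.Y q) := by
      intro q
      have h5 := hmult hφ' h1' q
      have h6 := hmult hφ' h1' q0
      have h7 : 1 ≤ mlt φ' (B.Y q0) := Nat.one_le_iff_ne_zero.2 hm'
      omega
    have h5 := hYsum hφ' hd' h4 (triv G) (by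
      intro q h6
      exact B.disj q (h6 ▸ (triv_mem_X B ht).1))
    omega

/-- positive exceptional sign -/
theorem case_pos (hs : B.s = 1) (hC : ∀ c : C, D.l c = 0 → c = 1) : n = 1 ∧ Nat.card (Tau D) = 2 := by
  classical
  letI : Fintype (Tau D) := Fintype.ofFinite _
  obtain ⟨q⟩ : Nonempty (Tau D) := inferInstance
  set e := Nat.card (κu D).range with he
  set t := Nat.card (Tau D) with htd
  have hpe := p_eq D
  rw [← he, ← htd] at hpe
  have hz : charDegree (B.Y q : G → ℂ) = e := by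
    rcases deg_Y h B ht q with h1 | h1
    · exact h1.2
    · rw [hs] at h1; norm_num at h1
  set θ : G → ℂ := (B.Y q : G → ℂ) with hθ
  have hθ1 : θ 1 = e := by rw [hθ, ← BlockDeg.charDegree_cast_irr, hz]
  -- the values of `θ` on `C`
  have hval : ∀ c : C, θ c = ∑ i : (ZMod p)ˣ, if (i : Tau D) = q then lam D (i : ZMod p) c else 0 := by
    intro c
    by_cases hc : D.l c = 0
    · rw [hC c hc]
      change θ 1 = _
      rw [hθ1, he, ← card_fiber D q, Finset.card_filter]
      push_cast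
      refine Finset.sum_congr rfl fun i _ => ?_
      split_ifs
      · rw [lam_one]
      · rfl
    · have h1 := B.valY q c hc
      rw [hs] at h1
      push_cast at h1
      rw [one_mul] at h1
      exact h1
  have hcardC : Nat.card C = p := by
    have h1 := card_C_nat D
    have h2 : vc D = 1 := by
      rw [vc, Finset.card_eq_one]
      refine ⟨1, ?_⟩
      ext c
      rw [Finset.mem_filter, Finset.mem_singleton]
      constructor
      · exact fun h3 => hC c h3.2
      · rintro rfl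
        exact ⟨Finset.mem_univ _, l_one D⟩
    rw [h1, h2, mul_one]
  have hlaminn : ∀ i j : ZMod p, classInner (lam D i) (lam D j) = if i = j then 1 else 0 := by
    intro i j
    have ht : TrivOn D ((triv C : IrrCharacter C) : C → ℂ) := by
      intro x _
      rw [coe_triv]
    have h1 : ∀ i : ZMod p, lam D i = (LT D (triv C) i : C → ℂ) := by
      intro i
      funext c
      rw [LT_apply, coe_triv, one_mul]
    rw [h1 i, h1 j, irr_orthonormal]
    have h2 : LT D (triv C) i = LT D (triv C) j ↔ i = j := by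
      constructor
      · intro h3; exact (LT_inj D ht ht h3).2
      · rintro rfl; rfl
    simp only [h2]
  -- the character `θ θ̄`
  set Φ : G → ℂ := fun g => θ g * conj (θ g) with hΦ
  have hΦc : IsCharacter G Φ := by
    have h1 := (B.Y q).2.isCharacter
    exact h1.mul h1.conj
  have hΦ1 : Φ 1 = ((e * e : ℕ) : ℂ) := by
    rw [hΦ]
    beta_reduce
    rw [hθ1, Complex.conj_natCast]; push_cast; rfl
  have hmtriv : mlt Φ (triv G) = 1 := by
    have h1 : classInner Φ ((triv G : IrrCharacter G) : G → ℂ) = 1 := by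
      have h2 := irr_orthonormal (B.Y q) (B.Y q)
      rw [if_pos rfl] at h2
      rw [← h2, classInner_def, classInner_def]
      congr 1
      refine Finset.sum_congr rfl fun g _ => ?_
      rw [coe_triv, map_one, mul_one]
    rw [mlt_spec hΦc] at h1
    exact_mod_cast h1
  -- the inner product with the trivial character on `C`
  have hfix : classInner (rs C Φ) ((triv C : IrrCharacter C) : C → ℂ) = e := by
    have h1 : classInner (rs C Φ) ((triv C : IrrCharacter C) : C → ℂ) = classInner (rs C θ) (rs C θ) := by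
      rw [classInner_def, classInner_def]
      congr 1
      refine Finset.sum_congr rfl fun c _ => ?_
      rw [coe_triv, map_one, mul_one]
      rfl
    have h2 : rs C θ = ∑ i : (ZMod p)ˣ, if (i : Tau D) = q then lam D (i : ZMod p) else 0 := by
      funext c
      rw [Finset.sum_apply]
      change θ c = _
      rw [hval]
      refine Finset.sum_congr rfl fun i _ => ?_
      split_ifs <;> rfl
    rw [h1, h2, classInner_sum_left]
    have h3 : ∀ i : (ZMod p)ˣ, classInner (if (i : Tau D) = q then lam D (i : ZMod p) else 0)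
        (∑ j : (ZMod p)ˣ, if (j : Tau D) = q then lam D (j : ZMod p) else 0) = if (i : Tau D) = q then 1 else 0 := by
      intro i
      rw [classInner_sum_right]
      by_cases hi : (i : Tau D) = q
      · rw [if_pos hi, if_pos hi, Finset.sum_eq_single i]
        · rw [if_pos hi, hlaminn, if_pos rfl]
        · intro j _ hj
          split_ifs
          · rw [hlaminn, if_neg (fun h4 => hj (Units.ext h4.symm))]
          · rw [classInner_zero_right]
        · intro h4; exact absurd (Finset.mem_univ _) h4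
      · rw [if_neg hi, if_neg hi]
        apply Finset.sum_eq_zero
        intro j _
        rw [classInner_zero_left]
    rw [Finset.sum_congr rfl (fun i _ => h3 i), ← Finset.sum_filter, Finset.sum_const, nsmul_eq_mul, mul_one, card_fiber D q]
  -- sum of the differences
  have hdsum : ∑ i : (ZMod p)ˣ, dm D Φ (triv C) i = ((e * e : ℕ) : ℂ) - p * e := by
    have h1 : ∑ i : ZMod p, classInner (rs C Φ) (LT D (triv C) i : C → ℂ) = Φ 1 := by
      rw [← classInner_sum_right, classInner_def, hcardC]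
      have h2 : ∀ c : C, (∑ i : ZMod p, (LT D (triv C) i : C → ℂ)) c = if c = 1 then (p : ℂ) else 0 := by
        intro c
        rw [Finset.sum_apply]
        have h3 : ∀ i : ZMod p, (LT D (triv C) i : C → ℂ) c = lam D i c := by
          intro i
          rw [LT_apply, coe_triv, one_mul]
        rw [Finset.sum_congr rfl (fun i _ => h3 i), sum_lam]
        have h4 : D.l c = 0 ↔ c = 1 := ⟨hC c, by rintro rfl; exact l_one D⟩
        simp only [h4]
      have hp0 : (p : ℂ) ≠ 0 := by exact_mod_cast hp.out.ne_zero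
      rw [Finset.sum_congr rfl (fun c _ => by rw [h2 c]), Finset.sum_eq_single 1]
      · rw [if_pos rfl, Complex.conj_natCast]
        change (p : ℂ)⁻¹ * (Φ 1 * p) = Φ 1
        field_simp
      · intro c _ hc
        rw [if_neg hc, map_zero, mul_zero]
      · intro h4; exact absurd (Finset.mem_univ _) h4
    rw [sum_zmod_units] at h1
    have h2 : ∀ i : (ZMod p)ˣ, dm D Φ (triv C) i = classInner (rs C Φ) (LT D (triv C) (i : ZMod p) : C → ℂ) - e := by
      intro i
      rw [dm, mu, mu, LT_zero, hfix]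
    rw [Finset.sum_congr rfl (fun i _ => h2 i), Finset.sum_sub_distrib, Finset.sum_const, Finset.card_univ,
      ZMod.card_units, nsmul_eq_mul, Nat.cast_sub hp.out.one_le]
    rw [LT_zero, hfix, hΦ1] at h1
    push_cast at h1 ⊢
    linear_combination h1
  -- consequence
  set S := ∑ ξ ∈ Xp B, mlt Φ ξ with hS
  have hineq1 : (e : ℤ) * (p - e) ≤ (p - 1) * (1 + S) := by
    have h1 : ∀ i : (ZMod p)ˣ, dm D Φ (triv C) i = ((-(1 + S - ∑ ξ ∈ Xm B, mlt Φ ξ) + mlt Φ (B.Y i) : ℤ) : ℂ) := by
      intro i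
      rw [dm_expand hΦc.isClassFunction, B.sum_dm (fun χ => classInner Φ (χ : G → ℂ)), hs,
        Finset.sum_congr rfl (fun ξ _ => by rw [mlt_spec hΦc ξ]), sum_split B ht (fun ξ => (mlt Φ ξ : ℂ)),
        mlt_spec hΦc, hmtriv, hS]
      push_cast
      ring
    rw [Finset.sum_congr rfl (fun i _ => h1 i)] at hdsum
    have h2 : ∑ i : (ZMod p)ˣ, (-(1 + S - ∑ ξ ∈ Xm B, mlt Φ ξ) + mlt Φ (B.Y i) : ℤ) = (e * e : ℤ) - p * e := by
      exact_mod_cast hdsum
    have h3 : ∑ i : (ZMod p)ˣ, (-(1 + (S : ℤ))) ≤ ∑ i : (ZMod p)ˣ, (-(1 + S - ∑ ξ ∈ Xm B, mlt Φ ξ) + mlt Φ (B.Y i) : ℤ) := by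
      apply Finset.sum_le_sum
      intro i _
      have h4 : (0 : ℤ) ≤ ∑ ξ ∈ Xm B, (mlt Φ ξ : ℤ) := Finset.sum_nonneg fun _ _ => by positivity
      have h5 : (0 : ℤ) ≤ mlt Φ (B.Y i) := by positivity
      push_cast
      linarith
    rw [Finset.sum_const, Finset.card_univ, ZMod.card_units, nsmul_eq_mul, Nat.cast_sub hp.out.one_le, h2] at h3
    push_cast at h3
    linarith
  have hineq2 : 1 + S * (n + 1) ≤ e := by
    -- decompose the restriction to `C`
    have h1 : classInner (rs C Φ) ((triv C : IrrCharacter C) : C → ℂ) =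
        ∑ χ : IrrCharacter G, (mlt Φ χ : ℂ) * classInner (rs C (χ : G → ℂ)) ((triv C : IrrCharacter C) : C → ℂ) := by
      have h2 : rs C Φ = ∑ χ : IrrCharacter G, classInner Φ (χ : G → ℂ) • rs C (χ : G → ℂ) := by
        funext c
        have h2 := congrFun hΦc.isClassFunction.expansion (c : G)
        rw [Finset.sum_apply] at h2 ⊢
        exact h2
      conv_lhs => rw [h2]
      rw [classInner_sum_left]
      refine Finset.sum_congr rfl fun χ _ => ?_
      rw [classInner_smul_left, mlt_spec hΦc]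
    have h2 : ∀ χ : IrrCharacter G, ∃ m : ℕ, classInner (rs C (χ : G → ℂ)) ((triv C : IrrCharacter C) : C → ℂ) = m :=
      fun χ => (χ.2.isCharacter.restrict C).classInner_nat (triv C).2.isCharacter
    choose f hf using h2
    rw [Finset.sum_congr rfl (fun χ _ => by rw [hf χ]), hfix] at h1
    have h3 : e = ∑ χ : IrrCharacter G, mlt Φ χ * f χ := by exact_mod_cast h1
    have h4 : f (triv G) = 1 := by
      have h5 := hf (triv G)
      have h6 : rs C ((triv G : IrrCharacter G) : G → ℂ) = ((triv C : IrrCharacter C) : C → ℂ) := rfl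
      rw [h6, irr_orthonormal, if_pos rfl] at h5
      exact_mod_cast h5.symm
    have h5 : ∀ ξ ∈ Xp B, f ξ = n + 1 := by
      intro ξ hξ
      rw [Xp, Finset.mem_filter] at hξ
      have h6 := hf ξ
      rw [classInner_def, hcardC] at h6
      have h7 : ∀ c : C, rs C (ξ : G → ℂ) c * conj (((triv C : IrrCharacter C) : C → ℂ) c) =
          1 + if c = 1 then (n * p : ℂ) else 0 := by
        intro c
        rw [coe_triv, map_one, mul_one]
        by_cases hc : c = 1
        · rw [if_pos hc, hc]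
          change (ξ : G → ℂ) 1 = _
          rw [← BlockDeg.charDegree_cast_irr, deg_Xp h B ht hξ.1 hξ.2.1 hξ.2.2]
          push_cast; rfl
        · rw [if_neg hc, add_zero]
          change (ξ : G → ℂ) c = _
          rw [B.valX ξ hξ.1 c (fun h8 => hc (hC c h8)), hξ.2.2, Int.cast_one]
      have hp0 : (p : ℂ) ≠ 0 := by exact_mod_cast hp.out.ne_zero
      rw [Finset.sum_congr rfl (fun c _ => h7 c), Finset.sum_add_distrib, Finset.sum_const, Finset.card_univ,
        Finset.sum_ite_eq' Finset.univ (1 : C), if_pos (Finset.mem_univ _), ← Nat.card_eq_fintype_card, hcardC,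
        nsmul_eq_mul, mul_one] at h6
      have h8 : (p : ℂ) * (f ξ : ℂ) = p * (n + 1) := by
        rw [← h6]; field_simp; ring
      have h9 := mul_left_cancel₀ hp0 h8
      exact_mod_cast h9
    have h6 : ∑ χ ∈ insert (triv G) (Xp B), mlt Φ χ * f χ ≤ e := by
      rw [h3]
      exact Finset.sum_le_sum_of_subset (Finset.subset_univ _)
    rw [Finset.sum_insert (by rw [Xp, Finset.mem_filter]; exact fun h7 => h7.2.1 rfl), hmtriv, h4,
      Finset.sum_congr rfl (fun ξ hξ => by rw [h5 ξ hξ]), ← Finset.sum_mul] at h6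
    rw [hS]
    omega
  -- arithmetic
  have he1 : 1 < e := h.he
  have hn0 : 0 < n := h.hn
  have hpz : (p : ℤ) = e * t + 1 := by rw [hpe]; push_cast; ring
  have h1 : (t : ℤ) * (e - 1) ≥ 0 := by
    have : (1 : ℤ) < e := by exact_mod_cast he1
    positivity
  have h2 : (e : ℤ) * (t * (1 + S)) ≥ e * (e * t + 1 - e) := by
    rw [hpz] at hineq1
    nlinarith
  have h3 : (t : ℤ) * (1 + S) ≥ e * t + 1 - e := by
    have : (0 : ℤ) < e := by positivity
    exact le_of_mul_le_mul_left h2 this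
  have h4 : (1 : ℤ) + S * (n + 1) ≤ e := by exact_mod_cast hineq2
  have h5 : (e - 1 : ℤ) * (n * (t - 1) - 1) ≤ 0 := by
    have h6 : (t : ℤ) * ((n + 1) + S * (n + 1)) ≥ (n + 1) * (e * t + 1 - e) := by
      have h7 := mul_le_mul_of_nonneg_left h3 (show (0 : ℤ) ≤ n + 1 by positivity)
      linarith
    have h7 : (t : ℤ) * (S * (n + 1)) ≤ t * (e - 1) := mul_le_mul_of_nonneg_left (by linarith) (by positivity)
    nlinarith
  have h6 : (n : ℤ) * (t - 1) ≤ 1 := by
    by_contra hcon
    push Not at hcon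
    have h7 : (0 : ℤ) < e - 1 := by
      have : (1 : ℤ) < e := by exact_mod_cast he1
      linarith
    have h8 : 0 < (e - 1 : ℤ) * (n * (t - 1) - 1) := mul_pos h7 (by linarith)
    linarith
  have h7 : (1 : ℤ) ≤ n := by exact_mod_cast hn0
  have h8 : (1 : ℤ) < t := by exact_mod_cast ht
  constructor
  · have h9 : (n : ℤ) * 1 ≤ n * (t - 1) := mul_le_mul_of_nonneg_left (by linarith) (by linarith)
    have : (n : ℤ) ≤ 1 := by linarith
    have h10 : n ≤ 1 := by exact_mod_cast this
    omega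
  · have h9 : 1 * (t - 1) ≤ (n : ℤ) * (t - 1) := mul_le_mul_of_nonneg_right h7 (by linarith)
    have : (t : ℤ) ≤ 2 := by linarith
    have h10 : t ≤ 2 := by exact_mod_cast this
    omega

end two

end

end Cfsg.Agent.Lib.BRCore
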