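import Mathlib
import Cfsg.Agent.Lib.BRCore

set_option autoImplicit false
set_option linter.all false

/-!
# The centralizer of the Sylow subgroup; the case of one exceptional character
-/

namespace Cfsg.Agent.Lib.BROne

open Cfsg Cfsg.Agent.Lib.BlockRing Cfsg.Agent.Lib.BlockGA Cfsg.Agent.Lib.BlockIdem
open Cfsg.Agent.Lib.DefOneLoc Cfsg.Agent.Lib.DefOneOrd Cfsg.Agent.Lib.CharBasic Cfsg.Agent.Lib.DefOneGram
open Cfsg.Agent.Lib.DefOne Cfsg.Agent.Lib.BlockThird Cfsg.Agent.Lib.DefOnePrin Cfsg.Agent.Lib.BRB0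
open Cfsg.Agent.Lib.BRNum Cfsg.Agent.Lib.BRDeg Cfsg.Agent.Lib.BRCore
open scoped ComplexConjugate

universe u

variable {G : Type u} [Group G] [Fintype G] {p : ℕ} [hp : Fact p.Prime] {P N C : Subgroup G}
  {D : Loc p P N C} [Fintype C]

/-- a character of degree `p - 1` which is `-1` on the `p`-singular elements of `C` -/
theorem ker_of_deg (χ : IrrCharacter G) (h1 : charDegree (χ : G → ℂ) = p - 1)
    (h2 : ∀ c : C, D.l c ≠ 0 → (χ : G → ℂ) c = -1) {c : C} (hc : D.l c = 0) : (χ : G → ℂ) c = (χ : G → ℂ) 1 := by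
  classical
  have hχ1 : (χ : G → ℂ) 1 = ((p : ℝ) - 1 : ℝ) := by
    rw [← BlockDeg.charDegree_cast_irr, h1, Nat.cast_sub hp.out.one_le]; push_cast; rfl
  have hchar : IsCharacter C (rs C (χ : G → ℂ)) := χ.2.isCharacter.restrict C
  obtain ⟨k, hk⟩ := hchar.classInner_nat (triv C).2.isCharacter
  have hnorm : ∀ g : G, ‖(χ : G → ℂ) g‖ ≤ (p : ℝ) - 1 := by
    intro g
    obtain ⟨m, ρ, hρ⟩ := χ.2.isCharacter
    have h3 := CharValues.norm_character_le ρ g
    rw [hρ] at h3
    have h4 : (χ : G → ℂ) 1 = Module.finrank ℂ (Fin m → ℂ) := by rw [← hρ, Representation.char_one]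
    rw [hχ1] at h4
    have h5 : ((p : ℝ) - 1) = Module.finrank ℂ (Fin m → ℂ) := by exact_mod_cast h4
    rw [h5]; exact h3
  have hre : ∀ g : G, ((χ : G → ℂ) g).re ≤ (p : ℝ) - 1 := fun g => (Complex.re_le_norm _).trans (hnorm g)
  have hcard := card_C_nat D
  have hvc : (Finset.univ.filter (fun c : C => D.l c = 0)).card = vc D := by
    rw [vc]
  -- sum over C
  have hsum : ∑ c : C, ((χ : G → ℂ) c).re = Nat.card C * k := by
    rw [classInner_def] at hk
    have hC0 : (Nat.card C : ℂ) ≠ 0 := by exact_mod_cast Nat.card_pos.ne'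
    have h3 : ∑ c : C, (χ : G → ℂ) c = Nat.card C * k := by
      rw [← hk, ← mul_assoc, mul_inv_cancel₀ hC0, one_mul]
      refine Finset.sum_congr rfl fun c _ => ?_
      rw [coe_triv, map_one, mul_one]
      rfl
    have h4 := congrArg Complex.re h3
    rw [Complex.re_sum] at h4
    rw [h4]
    have h5 : ((Nat.card C : ℂ) * (k : ℂ)).re = ((((Nat.card C : ℝ) * (k : ℝ) : ℝ)) : ℂ).re := by push_cast; rfl
    rw [h5, Complex.ofReal_re]
  rw [← Finset.sum_filter_add_sum_filter_not Finset.univ (fun c : C => D.l c = 0)] at hsum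
  have h3 : ∑ c ∈ Finset.univ.filter (fun c : C => ¬ D.l c = 0), ((χ : G → ℂ) c).re = -(((p : ℝ) - 1) * vc D) := by
    have h4 : ∀ c ∈ Finset.univ.filter (fun c : C => ¬ D.l c = 0), ((χ : G → ℂ) c).re = -1 := by
      intro c hc
      rw [h2 c (Finset.mem_filter.1 hc).2]; simp
    rw [Finset.sum_congr rfl h4, Finset.sum_const, nsmul_eq_mul]
    have h5 : (Finset.univ.filter (fun c : C => ¬ D.l c = 0)).card + vc D = p * vc D := by
      rw [← hcard, ← hvc, Nat.card_eq_fintype_card, add_comm, Finset.card_filter_add_card_filter_not, Finset.card_univ]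
    have h6 : ((Finset.univ.filter (fun c : C => ¬ D.l c = 0)).card : ℝ) = p * vc D - vc D := by
      have : ((Finset.univ.filter (fun c : C => ¬ D.l c = 0)).card : ℝ) + vc D = p * vc D := by exact_mod_cast h5
      linarith
    rw [h6]; ring
  rw [h3] at hsum
  have h4 : ∑ c ∈ Finset.univ.filter (fun c : C => D.l c = 0), (((p : ℝ) - 1) - ((χ : G → ℂ) c).re) ≤ 0 := by
    rw [Finset.sum_sub_distrib, Finset.sum_const, hvc, nsmul_eq_mul]
    have h5 : (0 : ℝ) ≤ Nat.card C * k := by positivity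
    linarith
  have h5 : ∀ c ∈ Finset.univ.filter (fun c : C => D.l c = 0), 0 ≤ ((p : ℝ) - 1) - ((χ : G → ℂ) c).re := fun c _ => by
    have := hre c; linarith
  have h6 := (Finset.sum_eq_zero_iff_of_nonneg h5).1 (le_antisymm h4 (Finset.sum_nonneg h5)) c
    (Finset.mem_filter.2 ⟨Finset.mem_univ _, hc⟩)
  have h7 : ((χ : G → ℂ) c).re = (p : ℝ) - 1 := by linarith
  rw [hχ1]
  apply Complex.ext
  · rw [h7, Complex.ofReal_re]
  · rw [Complex.ofReal_im]
    have h8 := hnorm c
    have h9 := Complex.sq_norm_sub_sq_re ((χ : G → ℂ) c)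
    rw [h7] at h9
    have h10 : ‖(χ : G → ℂ) c‖ ^ 2 ≤ ((p : ℝ) - 1) ^ 2 := pow_le_pow_left₀ (norm_nonneg _) h8 2
    nlinarith

/-- `C = P` -/
theorem C_trivial {n : ℕ} (h : Ctx D n) (hPS : ∃ Q : Sylow p G, (Q : Subgroup G) = P)
    (χ : IrrCharacter G) (h1 : charDegree (χ : G → ℂ) = p - 1)
    (h2 : ∀ c : C, D.l c ≠ 0 → (χ : G → ℂ) c = -1) (c : C) (hc : D.l c = 0) : c = 1 := by
  obtain ⟨K, hKn, hK⟩ := FrobThm.exists_charKer χ.2.isCharacter
  have hu : D.u ∉ K := by
    rw [hK]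
    have h3 : (χ : G → ℂ) D.u = -1 := h2 ⟨D.u, D.PC D.uP⟩ (by rw [D.l_u]; exact one_ne_zero)
    rw [h3, ← BlockDeg.charDegree_cast_irr, h1, Nat.cast_sub hp.out.one_le]
    intro h4
    have h5 : (p : ℂ) = 0 := by push_cast at h4; linear_combination -h4
    exact hp.out.ne_zero (by exact_mod_cast h5)
  have hpK : ¬ p ∣ Nat.card K := by
    intro hdvd
    obtain ⟨x, hx⟩ := exists_prime_orderOf_dvd_card' p hdvd
    have hxo : orderOf (x : G) = p := by rw [Subgroup.orderOf_coe, hx]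
    have hxp : IsPGroup p (Subgroup.zpowers (x : G)) := by
      rw [IsPGroup.iff_card]
      exact ⟨1, by rw [Nat.card_zpowers, hxo, pow_one]⟩
    obtain ⟨S, hS⟩ := hxp.exists_le_sylow
    obtain ⟨Q, hQ⟩ := hPS
    obtain ⟨g, hg⟩ := MulAction.exists_smul_eq G S Q
    have hcS : Nat.card (S : Subgroup G) = p := by
      rw [Nat.card_congr (Sylow.equiv S Q).toEquiv, hQ]
      exact h.hP
    have h3 : Subgroup.zpowers (x : G) = S := by
      apply Subgroup.eq_of_le_of_card_ge hS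
      rw [Nat.card_zpowers, hxo]
      exact hcS.le
    have h4 : ∀ y ∈ (S : Subgroup G), y ∈ K := by
      intro y hy
      rw [← h3] at hy
      obtain ⟨i, rfl⟩ := hy
      exact K.zpow_mem x.2 i
    apply hu
    have h5 : D.u ∈ (Q : Subgroup G) := by rw [hQ]; exact D.uP
    rw [← hg, Sylow.coe_subgroup_smul, Subgroup.mem_pointwise_smul_iff_inv_smul_mem] at h5
    have h6 := h4 _ h5
    have h7 := hKn.conj_mem _ h6 g
    have h8 : g * ((MulAut.conj g)⁻¹ • D.u) * g⁻¹ = D.u := by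
      rw [← map_inv, MulAut.smul_def, MulAut.conj_apply]; group
    rwa [h8] at h7
  have hKbot := h.core K hKn hpK
  have h3 : (c : G) ∈ K := by
    rw [hK]
    exact ker_of_deg χ h1 h2 hc
  rw [hKbot, Subgroup.mem_bot] at h3
  exact Subtype.ext h3

/-- character data when there is one exceptional character (which is then not exceptional at all) -/
structure S1 (D : Loc p P N C) where
  X : Finset (IrrCharacter G)
  δ : IrrCharacter G → ℤ
  cardX : X.card = Nat.card (κu D).range + 1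
  δ_pm : ∀ χ ∈ X, δ χ = 1 ∨ δ χ = -1
  valX : ∀ χ ∈ X, ∀ c : C, D.l c ≠ 0 → (χ : G → ℂ) c = δ χ
  rel : ∑ χ ∈ X, (δ χ : ℂ) * (χ : G → ℂ) 1 = 0
  degX : ∀ χ ∈ X, ∃ k : ℤ, (charDegree (χ : G → ℂ) : ℤ) = k * p + δ χ
  dvdX : ∀ χ ∈ X, charDegree (χ : G → ℂ) ∣ C.index
  mult : ∀ φ : G → ℂ, IsClassFunction G φ → ∀ a : ℂ, (∀ c : C, D.l c ≠ 0 → φ c = a) →
    ∑ χ ∈ X, (δ χ : ℂ) * classInner φ (χ : G → ℂ) = a
  htriv : triv G ∈ X ∧ δ (triv G) = 1

theorem exists_S1 (B : B0 D) (ht : Nat.card (Tau D) = 1) : Nonempty (S1 D) := by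
  classical
  obtain ⟨q⟩ : Nonempty (Tau D) := inferInstance
  have hsub : Subsingleton (Tau D) := Finite.card_le_one_iff_subsingleton.1 ht.le
  have hall : ∀ i : (ZMod p)ˣ, (i : Tau D) = q := fun i => Subsingleton.elim _ _
  have hdm : ∀ i : (ZMod p)ˣ, dm D (B.Y q : G → ℂ) (triv C) i = B.s := by
    intro i
    rw [B.dmY, if_pos (hall i)]
  let δ : IrrCharacter G → ℤ := fun χ => if χ = B.Y q then -B.s else B.δ χ
  have hδY : δ (B.Y q) = -B.s := if_pos rfl
  have hδX : ∀ χ ∈ B.X, δ χ = B.δ χ := fun χ hχ => if_neg (fun (h : χ = B.Y q) => B.disj q (h ▸ hχ))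
  have hsum : ∀ f : IrrCharacter G → ℂ, ∑ χ ∈ insert (B.Y q) B.X, (δ χ : ℂ) * f χ =
      ∑ χ ∈ B.X, (B.δ χ : ℂ) * f χ - B.s * f (B.Y q) := by
    intro f
    rw [Finset.sum_insert (B.disj q), hδY, Finset.sum_congr rfl (fun χ hχ => by rw [hδX χ hχ])]
    push_cast; ring
  refine ⟨⟨insert (B.Y q) B.X, δ, ?_, ?_, ?_, ?_, ?_, ?_, ?_, ?_⟩⟩
  · rw [Finset.card_insert_of_notMem (B.disj q), B.cardX]
  · intro χ hχ
    rcases Finset.mem_insert.1 hχ with rfl | hχ
    · rw [hδY]
      rcases B.s_pm with h | h <;> rw [h] <;> simp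
    · rw [hδX χ hχ]; exact B.δ_pm χ hχ
  · intro χ hχ c hc
    rcases Finset.mem_insert.1 hχ with rfl | hχ
    · rw [B.valY q c hc, hδY]
      have h1 : ∑ i : (ZMod p)ˣ, (if (i : Tau D) = q then lam D (i : ZMod p) c else 0) = -1 := by
        rw [← sum_units_lam D hc]
        exact Finset.sum_congr rfl fun i _ => if_pos (hall i)
      rw [h1]; push_cast; ring
    · rw [hδX χ hχ]; exact B.valX χ hχ c hc
  · rw [hsum]
    have h1 := B.rel q 1 (by rw [orderOf_one]; exact hp.out.one_lt.ne' ∘ Nat.dvd_one.1)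
    rw [← h1, sub_self]
  · intro χ hχ
    rcases Finset.mem_insert.1 hχ with rfl | hχ
    · obtain ⟨k, hk⟩ := B.degY q
      have h1 := p_eq D
      rw [ht, mul_one] at h1
      refine ⟨k + B.s, ?_⟩
      have h2 : (Nat.card (κu D).range : ℤ) = p - 1 := by
        have : (p : ℤ) = Nat.card (κu D).range + 1 := by exact_mod_cast h1
        linarith
      rw [hk, hδY, h2]; ring
    · rw [hδX χ hχ]; exact B.degX χ hχ
  · intro χ hχ
    rcases Finset.mem_insert.1 hχ with rfl | hχ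
    · exact BRDeg.B0.dvdY B q
    · exact BRDeg.B0.dvdX B hχ
  · intro φ hφ a ha
    rw [hsum]
    exact B.mult hφ ha q
  · by_cases h1 : triv G ∈ B.X
    · refine ⟨Finset.mem_insert_of_mem h1, ?_⟩
      rw [hδX _ h1]
      have h2 := B.dmX _ h1 1
      rw [dm_triv] at h2
      have h3 : (B.δ (triv G) : ℂ) = 1 := by linear_combination h2
      exact_mod_cast h3
    · by_cases h2 : triv G = B.Y q
      · refine ⟨by rw [h2]; exact Finset.mem_insert_self _ _, ?_⟩
        have h3 := hdm 1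
        rw [← h2, dm_triv] at h3
        rw [h2, hδY]
        have h4 : (-B.s : ℂ) = 1 := by linear_combination h3
        exact_mod_cast h4
      · exfalso
        have h3 := B.dmO _ h1 (fun q' => by rw [Subsingleton.elim q' q]; exact h2) 1
        rw [dm_triv] at h3
        norm_num at h3

section one

variable {n : ℕ} (h : Ctx D n) (S : S1 D) (ht : Nat.card (Tau D) = 1)
include h

theorem S1.deg_pos' {χ : IrrCharacter G} (hχ : χ ∈ S.X) (hne : χ ≠ triv G) (hδ : S.δ χ = 1) :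
    charDegree (χ : G → ℂ) = 1 + n * p := by
  obtain ⟨k, hk⟩ := S.degX χ hχ
  rw [hδ] at hk
  obtain ⟨w, hw⟩ := S.dvdX χ hχ
  rw [index_C D, h.idx] at hw
  have h0 := BlockDeg.charDegree_pos χ.2
  have hk0 : 0 < k := by
    by_contra hcon
    push Not at hcon
    have hpz : (0 : ℤ) < p := by exact_mod_cast hp.out.pos
    have h1 : k * p ≤ 0 := mul_nonpos_of_nonpos_of_nonneg hcon hpz.le
    have h2 : charDegree (χ : G → ℂ) = 1 := by omega
    exact hne (eq_triv_of_deg h.perf h2)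
  have hw0 : 0 < w := by
    rcases Nat.eq_zero_or_pos w with h1 | h1
    · rw [h1, mul_zero] at hw
      have h2 : 0 < Nat.card (κu D).range := Nat.card_pos
      have h3 : 0 < Nat.card (κu D).range * (1 + n * p) := by positivity
      omega
    · exact h1
  obtain ⟨-, h2⟩ := deg_pos (p_eq D) Nat.card_pos (lt_p D) h.hF (d := charDegree (χ : G → ℂ)) (w := w) (k := k)
    (by exact_mod_cast hw0) (by rw [hk]; ring) hk0 (by exact_mod_cast hw.symm)
  exact_mod_cast h2

include ht in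
theorem S1.deg_neg' {χ : IrrCharacter G} (hχ : χ ∈ S.X) (hδ : S.δ χ = -1) :
    charDegree (χ : G → ℂ) = p - 1 ∨ charDegree (χ : G → ℂ) = (p - 1) * (1 + n * p) := by
  obtain ⟨k, hk⟩ := S.degX χ hχ
  rw [hδ] at hk
  obtain ⟨w, hw⟩ := S.dvdX χ hχ
  rw [index_C D, h.idx] at hw
  have h0 := BlockDeg.charDegree_pos χ.2
  have h1 := p_eq D
  rw [ht, mul_one] at h1
  have hw0 : 0 < w := by
    rcases Nat.eq_zero_or_pos w with h1 | h1
    · rw [h1, mul_zero] at hw
      have h2 : 0 < Nat.card (κu D).range := Nat.card_pos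
      have h3 : 0 < Nat.card (κu D).range * (1 + n * p) := by positivity
      omega
    · exact h1
  rcases deg_neg (p_eq D) Nat.card_pos (lt_p D) h.hF (d := charDegree (χ : G → ℂ)) (w := w) (k := k)
    (by exact_mod_cast h0) (by exact_mod_cast hw0) (by rw [hk]; ring) (by exact_mod_cast hw.symm) with h2 | ⟨-, h2⟩
  · have := hp.out.one_le
    left; omega
  · right
    have h3 : w = 1 := by omega
    rw [h3, mul_one] at hw
    rw [← hw]
    congr 1
    omega

include ht S in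
theorem S1.exists_neg : ∃ χ : IrrCharacter G, charDegree (χ : G → ℂ) = p - 1 ∧ ∀ c : C, D.l c ≠ 0 → (χ : G → ℂ) c = -1 := by
  classical
  by_contra hcon
  push Not at hcon
  -- all negative characters have large degree
  have hneg : ∀ χ ∈ S.X, S.δ χ = -1 → charDegree (χ : G → ℂ) = (p - 1) * (1 + n * p) := by
    intro χ hχ hδ
    rcases S.deg_neg' h ht hχ hδ with h1 | h1
    · exfalso
      obtain ⟨c, hc, hc'⟩ := hcon χ h1
      apply hc'
      rw [S.valX χ hχ c hc, hδ]; push_cast; rfl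
    · exact h1
  have hrel := S.rel
  have h1 : ∑ χ ∈ S.X, (S.δ χ) * (charDegree (χ : G → ℂ) : ℤ) = 0 := by
    have h2 : ((∑ χ ∈ S.X, (S.δ χ) * (charDegree (χ : G → ℂ) : ℤ) : ℤ) : ℂ) = 0 := by
      rw [← hrel]
      push_cast
      exact Finset.sum_congr rfl fun χ _ => by rw [BlockDeg.charDegree_cast_irr]
    exact_mod_cast h2
  have hpe := p_eq D
  rw [ht, mul_one] at hpe
  have hp2 := hp.out.two_le
  have he := h.he
  have hn := h.hn
  by_cases hex : ∃ χ ∈ S.X, S.δ χ = -1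
  · obtain ⟨χ₀, hχ₀, hδ₀⟩ := hex
    -- bound the others
    have h3 : ∀ χ ∈ S.X.erase χ₀, (S.δ χ) * (charDegree (χ : G → ℂ) : ℤ) ≤
        if χ = triv G then 1 else (1 + n * p : ℤ) := by
      intro χ hχ
      have hχ' := (Finset.mem_erase.1 hχ).2
      rcases S.δ_pm χ hχ' with h4 | h4
      · rw [h4, one_mul]
        split_ifs with h5
        · rw [h5, deg_triv]; norm_num
        · rw [S.deg_pos' h hχ' h5 h4]; push_cast; exact le_refl _
      · rw [h4]
        have h5 : (0 : ℤ) ≤ charDegree (χ : G → ℂ) := by positivity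
        split_ifs
        · linarith
        · have : (0 : ℤ) ≤ n * p := by positivity
          linarith
    have h4 := Finset.sum_le_sum h3
    have h5 := Finset.add_sum_erase S.X (fun χ => (S.δ χ) * (charDegree (χ : G → ℂ) : ℤ)) hχ₀
    rw [h1] at h5
    beta_reduce at h5
    rw [hδ₀, hneg χ₀ hχ₀ hδ₀] at h5
    have htr : triv G ∈ S.X.erase χ₀ := by
      rw [Finset.mem_erase]
      refine ⟨?_, S.htriv.1⟩
      rintro h6
      rw [← h6, S.htriv.2] at hδ₀
      norm_num at hδ₀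
    have h6 : ∑ χ ∈ S.X.erase χ₀, (if χ = triv G then 1 else (1 + n * p : ℤ)) =
        1 + ((S.X.erase χ₀).card - 1 : ℤ) * (1 + n * p) := by
      rw [← Finset.add_sum_erase _ _ htr, if_pos rfl]
      congr 1
      rw [Finset.sum_congr rfl (fun χ hχ => if_neg (Finset.mem_erase.1 hχ).1), Finset.sum_const, nsmul_eq_mul,
        Finset.card_erase_of_mem htr, Nat.cast_sub (Finset.card_pos.2 ⟨_, htr⟩)]
      push_cast; rfl
    rw [h6, Finset.card_erase_of_mem hχ₀, S.cardX, Nat.add_sub_cancel] at h4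
    have h7 : (((p - 1) * (1 + n * p) : ℕ) : ℤ) = ((p : ℤ) - 1) * (1 + n * p) := by
      rw [Nat.cast_mul, Nat.cast_sub hp.out.one_le]; push_cast; ring
    rw [h7] at h5
    have h8 : (Nat.card (κu D).range : ℤ) = p - 1 := by
      have : (p : ℤ) = Nat.card (κu D).range + 1 := by exact_mod_cast hpe
      linarith
    rw [h8] at h4
    have h9 : (1 : ℤ) ≤ n * p := by
      have h9 := hp.out.pos
      have : 1 ≤ n * p := Nat.one_le_iff_ne_zero.2 (by positivity)
      exact_mod_cast this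
    nlinarith
  · push Not at hex
    have h3 : ∀ χ ∈ S.X, 0 < (S.δ χ) * (charDegree (χ : G → ℂ) : ℤ) := by
      intro χ hχ
      rcases S.δ_pm χ hχ with h4 | h4
      · rw [h4, one_mul]
        exact_mod_cast BlockDeg.charDegree_pos χ.2
      · exact absurd h4 (hex χ hχ)
    have h4 := Finset.sum_pos h3 ⟨_, S.htriv.1⟩
    omega

include ht S in
/-- a character of degree `1 + np` which is `1` on the `p`-singular elements and does not contain the trivial character
is irreducible -/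
theorem S1.irr {φ : G → ℂ} (hφ : IsCharacter G φ) (hd : φ 1 = ((1 + n * p : ℕ) : ℂ))
    (h1 : ∀ c : C, D.l c ≠ 0 → φ c = 1) (ht0 : mlt φ (triv G) = 0) :
    ∃ χ : IrrCharacter G, φ = (χ : G → ℂ) := by
  classical
  have h2 := S.mult φ hφ.isClassFunction 1 h1
  have h3 : ∑ χ ∈ S.X, (S.δ χ) * (mlt φ χ : ℤ) = 1 := by
    have h4 : ((∑ χ ∈ S.X, (S.δ χ) * (mlt φ χ : ℤ) : ℤ) : ℂ) = 1 := by
      rw [← h2]
      push_cast
      exact Finset.sum_congr rfl fun χ _ => by rw [mlt_spec hφ]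
    exact_mod_cast h4
  obtain ⟨χ, hχ, hpos⟩ : ∃ χ ∈ S.X, 0 < (S.δ χ) * (mlt φ χ : ℤ) := by
    by_contra hcon
    push Not at hcon
    have := Finset.sum_nonpos hcon
    omega
  have hm : mlt φ χ ≠ 0 := by
    intro h4
    rw [h4] at hpos
    simp at hpos
  have hδ : S.δ χ = 1 := by
    rcases S.δ_pm χ hχ with h4 | h4
    · exact h4
    · rw [h4] at hpos
      have : (0 : ℤ) ≤ mlt φ χ := by positivity
      omega
  have hne : χ ≠ triv G := by
    rintro rfl
    exact hm ht0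
  exact ⟨χ, eq_of_mlt_deg hφ (by rw [hd, S.deg_pos' h hχ hne hδ]) hm⟩

end one

/-- characters of degree `1 + np`, one irreducible not containing the trivial character, are orthogonal -/
theorem ortho_irr {d : ℕ} {φ' : G → ℂ} (χ : IrrCharacter G) (hφ' : IsCharacter G φ')
    (hd : (χ : G → ℂ) 1 = d) (hd' : φ' 1 = d)
    (hχ : χ ≠ triv G) (ht1 : mlt φ' (triv G) = 1) : classInner (χ : G → ℂ) φ' = 0 := by
  classical
  rw [← IndFun.classInner_conj_symm, mlt_spec hφ', Complex.conj_natCast, Nat.cast_eq_zero]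
  by_contra h0
  have h2 := degree_le hφ' hd' {triv G, χ}
  rw [Finset.sum_pair hχ.symm, ht1, deg_triv, one_mul] at h2
  have h3 : charDegree (χ : G → ℂ) = d := by
    rw [← BlockDeg.charDegree_cast_irr] at hd
    exact_mod_cast hd
  rw [h3] at h2
  have h4 : d ≤ mlt φ' χ * d := Nat.le_mul_of_pos_left _ (Nat.pos_of_ne_zero h0)
  omega

end Cfsg.Agent.Lib.BROne
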