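import Cfsg.Agent.Lib.GaloisMean
import Cfsg.Agent.Lib.DefectZeroVanish
import Cfsg.Agent.Lib.DefectZero

/-!
# Counting with characters (helper83)

Lower bounds for `∑ |χ(g)|²` over the elements of prime order `q`, used to exclude characters of
`p`-defect zero.
-/

set_option autoImplicit false
set_option linter.all false

namespace Cfsg.Agent.Lib.DefZeroCount
open Cfsg
open Cfsg.Agent.Lib.CharBasic Cfsg.Agent.Lib.CharGalois Cfsg.Agent.Lib.CharCentral
open Cfsg.Agent.Lib.GaloisMean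
open scoped ComplexConjugate

universe u
variable {G : Type u} [Group G] [Finite G]

/-- the norm of an irreducible character -/
lemma sum_norm_sq [Fintype G] {χ : G → ℂ} (hχ : IsIrrCharacter G χ) :
    ∑ g : G, ‖χ g‖ ^ 2 = (Nat.card G : ℝ) := by
  have hcardG : (0 : ℝ) < Nat.card G := by exact_mod_cast Nat.card_pos
  have h1 := hχ.classInner_self
  rw [classInner_self] at h1
  have h2 : (Nat.card G : ℝ)⁻¹ * ∑ g : G, ‖χ g‖ ^ 2 = 1 := by exact_mod_cast h1
  field_simp at h2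
  exact h2

/-- For an abelian group `P` and a character of degree `a = |P| k + r`: lower bound for the norm -/
lemma card_mul_norm_ge {P : Type u} [Group P] [Fintype P] (hab : ∀ a b : P, a * b = b * a)
    {θ : P → ℂ} (hθ : IsCharacter P θ) {a k r : ℕ} (ha : θ 1 = a) (hk : a = Nat.card P * k + r) :
    ((a : ℝ) ^ 2 + r * (Nat.card P - r)) ≤ ∑ x : P, ‖θ x‖ ^ 2 := by
  classical
  have hcard : (0 : ℝ) < Nat.card P := by exact_mod_cast Nat.card_pos
  obtain ⟨c, hc, hs⟩ := hθ.exists_coeff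
  have h1 : ((∑ ψ : IrrCharacter P, c ψ : ℕ) : ℂ) = a := by
    rw [← ha, hs]
    simp only [Finset.sum_apply, Pi.smul_apply, smul_eq_mul]
    push_cast
    refine Finset.sum_congr rfl fun ψ _ => ?_
    rw [ψ.2.one_eq_one_of_comm hab, mul_one]
  have h1' : ∑ ψ : IrrCharacter P, c ψ = a := by exact_mod_cast h1
  have h2 : classInner θ θ = ((∑ ψ : IrrCharacter P, c ψ * c ψ : ℕ) : ℂ) := by
    have := classInner_eq_sum_coeff hθ.isClassFunction (c := fun ψ => (c ψ : ℤ))
      (d := fun ψ => (c ψ : ℤ)) (φ := θ) (fun χ => by simpa using hc χ) (fun χ => by simpa using hc χ)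
    rw [this]; push_cast; rfl
  rw [classInner_self] at h2
  have h3 : (Nat.card P : ℝ)⁻¹ * ∑ g : P, ‖θ g‖ ^ 2 = ((∑ ψ : IrrCharacter P, c ψ * c ψ : ℕ) : ℝ) := by
    exact_mod_cast h2
  have h4 : ∑ g : P, ‖θ g‖ ^ 2 = Nat.card P * ((∑ ψ : IrrCharacter P, c ψ * c ψ : ℕ) : ℝ) := by
    rw [← h3]; field_simp
  -- number of characters
  have h5 : Fintype.card (IrrCharacter P) ≤ Nat.card P := by
    rw [← Nat.card_eq_fintype_card, card_irr]
    exact Nat.card_le_card_of_surjective ConjClasses.mk ConjClasses.mk_surjective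
  -- the integral inequality
  have h6 : ((2 * k + 1 : ℤ) * a - Nat.card P * (k * (k + 1))) ≤ ∑ ψ : IrrCharacter P, (c ψ : ℤ) * c ψ := by
    have h7 : 0 ≤ ∑ ψ : IrrCharacter P, ((c ψ : ℤ) - k) * ((c ψ : ℤ) - k - 1) := by
      refine Finset.sum_nonneg fun ψ _ => ?_
      rcases le_or_gt ((c ψ : ℤ)) k with h | h
      · exact mul_nonneg_of_nonpos_of_nonpos (by linarith) (by linarith)
      · exact mul_nonneg (by linarith) (by linarith)
    have h8 : ∑ ψ : IrrCharacter P, ((c ψ : ℤ) - k) * ((c ψ : ℤ) - k - 1) =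
        ∑ ψ : IrrCharacter P, (c ψ : ℤ) * c ψ - (2 * k + 1) * ∑ ψ : IrrCharacter P, (c ψ : ℤ) +
          Fintype.card (IrrCharacter P) * (k * (k + 1)) := by
      rw [Finset.mul_sum, ← Finset.sum_sub_distrib, ← Finset.card_univ, ← nsmul_eq_mul,
        ← Finset.sum_const, ← Finset.sum_add_distrib]
      refine Finset.sum_congr rfl fun ψ _ => ?_
      ring
    rw [h8] at h7
    have h9 : ∑ ψ : IrrCharacter P, (c ψ : ℤ) = a := by exact_mod_cast h1'
    rw [h9] at h7
    have h10 : (Fintype.card (IrrCharacter P) : ℤ) * (k * (k + 1)) ≤ Nat.card P * (k * (k + 1)) := by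
      apply mul_le_mul_of_nonneg_right
      · exact_mod_cast h5
      · positivity
    linarith
  have h11 : ((2 * k + 1 : ℝ) * a - Nat.card P * (k * (k + 1))) ≤
      ((∑ ψ : IrrCharacter P, c ψ * c ψ : ℕ) : ℝ) := by
    have : (((2 * k + 1 : ℤ) * a - Nat.card P * (k * (k + 1)) : ℤ) : ℝ) ≤
        ((∑ ψ : IrrCharacter P, (c ψ : ℤ) * c ψ : ℤ) : ℝ) := by exact_mod_cast h6
    push_cast at this ⊢
    exact this
  rw [h4]
  have hk' : (a : ℝ) = Nat.card P * k + r := by exact_mod_cast hk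
  calc (a : ℝ) ^ 2 + r * (Nat.card P - r)
      = Nat.card P * ((2 * k + 1 : ℝ) * a - Nat.card P * (k * (k + 1))) := by rw [hk']; ring
    _ ≤ _ := mul_le_mul_of_nonneg_left h11 hcard.le

/-- the bound for the powers of an element of order `q` -/
lemma sum_pow_ge {χ : G → ℂ} (hχ : IsCharacter G χ) {a q k r : ℕ} (ha : χ 1 = a) {g : G}
    (hg : orderOf g = q) (hk : a = q * k + r) :
    ((a : ℝ) ^ 2 + r * (q - r)) ≤ ∑ i ∈ Finset.range q, ‖χ (g ^ i)‖ ^ 2 := by
  classical
  haveI := Fintype.ofFinite (Subgroup.zpowers g)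
  have hcard : Nat.card (Subgroup.zpowers g) = q := by rw [Nat.card_zpowers, hg]
  have h := card_mul_norm_ge (P := Subgroup.zpowers g) (by
    rintro ⟨x, hx⟩ ⟨y, hy⟩
    apply Subtype.ext
    obtain ⟨m, rfl⟩ := Subgroup.mem_zpowers_iff.1 hx
    obtain ⟨n, rfl⟩ := Subgroup.mem_zpowers_iff.1 hy
    show g ^ m * g ^ n = g ^ n * g ^ m
    rw [← zpow_add, ← zpow_add, add_comm]) (hχ.restrict (Subgroup.zpowers g)) (a := a) (k := k)
    (r := r) ha (by rw [hcard]; exact hk)
  rw [hcard] at h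
  refine h.trans (le_of_eq ?_)
  rw [← hg, Finset.sum_range (fun i => ‖χ (g ^ i)‖ ^ 2)]
  rw [← Equiv.sum_comp (finEquivZPowers (isOfFinOrder_of_finite g))]
  refine Finset.sum_congr rfl fun i _ => ?_
  rw [finEquivZPowers_apply]

/-- the elements of order `q` -/
noncomputable def ordSet (G : Type u) [Group G] [Fintype G] (q : ℕ) : Finset G := by
  classical exact Finset.univ.filter (fun g => orderOf g = q)

lemma mem_ordSet [Fintype G] {q : ℕ} {g : G} : g ∈ ordSet G q ↔ orderOf g = q := by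
  classical
  simp [ordSet]

lemma orderOf_pow_prime {q : ℕ} (hq : q.Prime) {g : G} (hg : orderOf g = q) {k : ℕ}
    (hk : ¬ q ∣ k) : orderOf (g ^ k) = q := by
  rw [orderOf_pow, hg]
  have : Nat.gcd q k = 1 := (Nat.Prime.coprime_iff_not_dvd hq).2 hk
  rw [this, Nat.div_one]

/-- reindexing the elements of order `q` by a power prime to `q` -/
lemma sum_ordSet_pow [Fintype G] {q : ℕ} (hq : q.Prime) {k : ℕ} (hk : ¬ q ∣ k) {R : Type*}
    [AddCommMonoid R] (f : G → R) : ∑ g ∈ ordSet G q, f (g ^ k) = ∑ g ∈ ordSet G q, f g := by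
  classical
  have hco : Nat.Coprime k q := ((Nat.Prime.coprime_iff_not_dvd hq).2 hk).symm
  obtain ⟨m, -, hm⟩ := Nat.exists_mul_mod_eq_one_of_coprime hco hq.one_lt
  have hinj : Set.InjOn (fun g : G => g ^ k) (ordSet G q : Set G) := by
    intro g hg h hh hgh
    have key : ∀ x : G, orderOf x = q → (x ^ k) ^ m = x := by
      intro x hx
      rw [← pow_mul, ← pow_mod_orderOf, hx, hm, pow_one]
    have h1 := key g (mem_ordSet.1 hg)
    have h2 := key h (mem_ordSet.1 hh)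
    have h3 : g ^ k = h ^ k := hgh
    rw [← h1, ← h2, h3]
  have hmaps : ∀ g ∈ ordSet G q, g ^ k ∈ ordSet G q := fun g hg =>
    mem_ordSet.2 (orderOf_pow_prime hq (mem_ordSet.1 hg) hk)
  have himg : (ordSet G q).image (fun g => g ^ k) = ordSet G q := by
    apply Finset.eq_of_subset_of_card_le
    · intro x hx
      obtain ⟨g, hg, rfl⟩ := Finset.mem_image.1 hx
      exact hmaps g hg
    · rw [Finset.card_image_of_injOn hinj]
  conv_rhs => rw [← himg]
  rw [Finset.sum_image (fun a ha b hb h => hinj ha hb h)]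

/-- the bound for all elements of order `q` -/
theorem sum_order_ge [Fintype G] {χ : G → ℂ} (hχ : IsCharacter G χ) {a q k r : ℕ} (hq : q.Prime)
    (ha : χ 1 = a) (hk : a = q * k + r) :
    ((ordSet G q).card : ℝ) * (r * (q - r)) ≤ (q - 1) * ∑ g ∈ ordSet G q, ‖χ g‖ ^ 2 := by
  classical
  have h1 : ∀ g ∈ ordSet G q, ((r : ℝ) * (q - r)) ≤ ∑ i ∈ (Finset.range q).erase 0, ‖χ (g ^ i)‖ ^ 2 := by
    intro g hg
    have h2 := sum_pow_ge hχ ha (mem_ordSet.1 hg) hk
    rw [← Finset.add_sum_erase _ _ (Finset.mem_range.2 hq.pos), pow_zero, ha] at h2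
    have h3 : ‖(a : ℂ)‖ = a := by simp
    rw [h3] at h2
    linarith
  have h4 : ∑ g ∈ ordSet G q, ∑ i ∈ (Finset.range q).erase 0, ‖χ (g ^ i)‖ ^ 2 =
      (q - 1) * ∑ g ∈ ordSet G q, ‖χ g‖ ^ 2 := by
    rw [Finset.sum_comm]
    have h5 : ∀ i ∈ (Finset.range q).erase 0, ∑ g ∈ ordSet G q, ‖χ (g ^ i)‖ ^ 2 =
        ∑ g ∈ ordSet G q, ‖χ g‖ ^ 2 := by
      intro i hi
      rw [Finset.mem_erase, Finset.mem_range] at hi
      exact sum_ordSet_pow hq (Nat.not_dvd_of_pos_of_lt (Nat.pos_of_ne_zero hi.1) hi.2)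
        (fun g => ‖χ g‖ ^ 2)
    rw [Finset.sum_congr rfl h5, Finset.sum_const, Finset.card_erase_of_mem
      (Finset.mem_range.2 hq.pos), Finset.card_range, nsmul_eq_mul, Nat.cast_sub hq.one_le,
      Nat.cast_one]
  rw [← h4, ← nsmul_eq_mul, ← Finset.sum_const]
  exact Finset.sum_le_sum h1

/-- a character whose degree is prime to `q` does not vanish on elements of order `q` -/
theorem ne_zero_of_order {χ : G → ℂ} (hχ : IsCharacter G χ) {a q : ℕ} (hq : q.Prime)
    (ha : χ 1 = a) (hqa : ¬ q ∣ a) {g : G} (hg : orderOf g = q) : χ g ≠ 0 := by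
  intro h0
  have h1 : ∀ i, ¬ q ∣ i → χ (g ^ i) = 0 := by
    intro i hi
    obtain ⟨σ, hσ⟩ := exists_ringHom_pow (n := orderOf g) (orderOf_pos g)
      (k := i) (by rw [hg]; exact ((Nat.Prime.coprime_iff_not_dvd hq).2 hi).symm)
    rw [← map_apply_eq hχ σ i g hσ, h0, map_zero]
  have h2 := sum_pow_ge hχ ha hg (k := a / q) (r := a % q) (by rw [Nat.div_add_mod])
  rw [← Finset.add_sum_erase _ _ (Finset.mem_range.2 hq.pos), pow_zero, ha] at h2
  have h3 : ∑ i ∈ (Finset.range q).erase 0, ‖χ (g ^ i)‖ ^ 2 = 0 := by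
    refine Finset.sum_eq_zero fun i hi => ?_
    rw [Finset.mem_erase, Finset.mem_range] at hi
    rw [h1 i (Nat.not_dvd_of_pos_of_lt (Nat.pos_of_ne_zero hi.1) hi.2)]
    simp
  have h4 : ‖(a : ℂ)‖ = a := by simp
  rw [h3, h4, add_zero] at h2
  have hr : 0 < a % q := Nat.pos_of_ne_zero (fun h => hqa (Nat.dvd_of_mod_eq_zero h))
  have hr' : a % q < q := Nat.mod_lt _ hq.pos
  have h5 : (0 : ℝ) < (a % q : ℕ) := by exact_mod_cast hr
  have h6 : ((a % q : ℕ) : ℝ) < q := by exact_mod_cast hr'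
  nlinarith [mul_pos h5 (sub_pos.2 h6)]

/-- Galois mean for a scaled family -/
theorem exists_int_prod' {f : G → ℂ} (S : Finset G)
    (hS : ∀ k : ℕ, k.Coprime (Nat.card G) → ∀ g ∈ S, g ^ k ∈ S)
    (hint : ∀ g ∈ S, IsIntegral ℤ (f g))
    (hgal : ∀ (σ : ℂ →+* ℂ) (k : ℕ), k.Coprime (Nat.card G) →
      (∀ μ : ℂ, μ ^ Nat.card G = 1 → σ μ = μ ^ k) → ∀ g, σ (f g) = f (g ^ k)) :
    ∃ n : ℤ, ∏ g ∈ S, f g = (n : ℂ) := by
  classical
  have hint' : IsIntegral ℤ (∏ g ∈ S, f g) := IsIntegral.prod _ hint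
  obtain ⟨q, hq⟩ := exists_rat_of_fixed (hint'.tower_top) (fun σ => by
    obtain ⟨k, hk, hσ⟩ := exists_pow_of_ringHom (n := Nat.card G) Nat.card_pos σ
    rw [map_prod]
    simp only [hgal σ k hk hσ]
    have hinj : Function.Injective (fun g : G => g ^ k) := by
      intro a b hab
      exact (powCoprime (G := G) (n := k) hk.symm).injective (by simpa using hab)
    have himg : S.image (fun g : G => g ^ k) = S := by
      apply Finset.eq_of_subset_of_card_le
      · intro x hx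
        rw [Finset.mem_image] at hx
        obtain ⟨g, hg, rfl⟩ := hx
        exact hS k hk g hg
      · rw [Finset.card_image_of_injective _ hinj]
    conv_rhs => rw [← himg]
    rw [Finset.prod_image (fun a _ b _ h => hinj h)])
  exact exists_int_of_isIntegral_rat hint' q hq

/-- if `χ(g)/c` is integral for all `g` of order `q`, and `q` does not divide the degree, then
`∑_{order q} |χ(g)|² ≥ c² n_q`. -/
theorem sum_order_ge_of_dvd [Fintype G] {χ : G → ℂ} (hχ : IsCharacter G χ) {a q c : ℕ}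
    (hq : q.Prime) (ha : χ 1 = a) (hqa : ¬ q ∣ a) (hc : 0 < c)
    (hint : ∀ g : G, orderOf g = q → IsIntegral ℤ (χ g / c)) :
    ((ordSet G q).card : ℝ) * (c : ℝ) ^ 2 ≤ ∑ g ∈ ordSet G q, ‖χ g‖ ^ 2 := by
  classical
  have hc0 : (c : ℝ) ≠ 0 := by exact_mod_cast hc.ne'
  have hc0' : (c : ℂ) ≠ 0 := by exact_mod_cast hc.ne'
  rcases Finset.eq_empty_or_nonempty (ordSet G q) with hemp | ⟨g0, hg0⟩
  · rw [hemp]; simp
  have hqG : q ∣ Nat.card G := by
    rw [← mem_ordSet.1 hg0]; exact orderOf_dvd_natCard g0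
  set f : G → ℂ := fun g => (χ g / c) * (conj (χ g) / c) with hf
  have hgal : ∀ (σ : ℂ →+* ℂ) (k : ℕ), k.Coprime (Nat.card G) →
      (∀ μ : ℂ, μ ^ Nat.card G = 1 → σ μ = μ ^ k) → ∀ g, σ (f g) = f (g ^ k) := by
    intro σ k hk hσ g
    have h1 : ∀ {ψ : G → ℂ}, IsCharacter G ψ → σ (ψ g) = ψ (g ^ k) := by
      intro ψ hψ
      apply map_apply_eq hψ σ k g
      intro μ hμ
      apply hσ
      obtain ⟨m, hm⟩ := orderOf_dvd_natCard g
      rw [hm, pow_mul, hμ, one_pow]
    have h2 := h1 hχ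
    have h3 := h1 hχ.conj
    simp only [hf, map_mul, map_div₀, map_natCast]
    rw [h2, h3]
  have hfr : ∀ g, f g = (((‖χ g‖ / c) ^ 2 : ℝ) : ℂ) := by
    intro g
    simp only [hf]
    rw [div_mul_div_comm, Complex.mul_conj, Complex.normSq_eq_norm_sq]
    push_cast
    rw [div_pow, sq (c : ℂ)]
  have hclosed : ∀ k : ℕ, k.Coprime (Nat.card G) → ∀ g ∈ ordSet G q, g ^ k ∈ ordSet G q := by
    intro k hk g hg
    rw [mem_ordSet] at hg ⊢
    apply orderOf_pow_prime hq hg
    intro hd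
    have := Nat.dvd_gcd hd hqG
    rw [hk] at this
    exact hq.one_lt.ne' (Nat.dvd_one.1 this)
  obtain ⟨n, hn⟩ := exists_int_prod' (f := f) (ordSet G q) hclosed (by
    intro g hg
    have h1 := hint g (mem_ordSet.1 hg)
    refine h1.mul ?_
    have h2 : conj (χ g) / c = χ g⁻¹ / c := by rw [hχ.inv]
    rw [h2]
    apply hint
    rw [orderOf_inv]; exact mem_ordSet.1 hg) hgal
  have hpos : ∀ g ∈ ordSet G q, 0 < (‖χ g‖ / c) ^ 2 := by
    intro g hg
    have h1 := norm_pos_iff.2 (ne_zero_of_order hχ hq ha hqa (mem_ordSet.1 hg))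
    have : (0 : ℝ) < c := by exact_mod_cast hc
    positivity
  have h1 : (∏ g ∈ ordSet G q, (‖χ g‖ / c) ^ 2) = (n : ℝ) := by
    have h2 : ((∏ g ∈ ordSet G q, (‖χ g‖ / c) ^ 2 : ℝ) : ℂ) = ((n : ℝ) : ℂ) := by
      rw [Complex.ofReal_prod, Complex.ofReal_intCast, ← hn]
      exact Finset.prod_congr rfl fun g _ => (hfr g).symm
    exact_mod_cast h2
  have h3 : 0 < ∏ g ∈ ordSet G q, (‖χ g‖ / c) ^ 2 := Finset.prod_pos hpos
  have h4 : 1 ≤ ∏ g ∈ ordSet G q, (‖χ g‖ / c) ^ 2 := by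
    rw [h1] at h3 ⊢
    have : 0 < n := by exact_mod_cast h3
    exact_mod_cast this
  have h5 : 0 ≤ ∑ g ∈ ordSet G q, Real.log ((‖χ g‖ / c) ^ 2) := by
    rw [← Real.log_prod (fun g hg => (hpos g hg).ne')]
    exact Real.log_nonneg h4
  have h6 : ∑ g ∈ ordSet G q, Real.log ((‖χ g‖ / c) ^ 2) ≤ ∑ g ∈ ordSet G q, ((‖χ g‖ / c) ^ 2 - 1) :=
    Finset.sum_le_sum fun g hg => Real.log_le_sub_one_of_pos (hpos g hg)
  have h7 : ∑ g ∈ ordSet G q, ((‖χ g‖ / c) ^ 2 - 1) =
      (∑ g ∈ ordSet G q, ‖χ g‖ ^ 2) / (c : ℝ) ^ 2 - (ordSet G q).card := by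
    rw [Finset.sum_sub_distrib, Finset.sum_div]
    simp [div_pow]
  have h8 : ((ordSet G q).card : ℝ) ≤ (∑ g ∈ ordSet G q, ‖χ g‖ ^ 2) / (c : ℝ) ^ 2 := by linarith
  rw [le_div_iff₀ (by positivity)] at h8
  exact h8

/-- defect zero characters vanish on `p`-singular elements -/
theorem vanish {p : ℕ} (hp : p.Prime) {χ : G → ℂ} (hχ : IsIrrCharacter G χ)
    (hd : (Nat.card G).factorization p ≤ (charDegree χ).factorization p) {x : G}
    (hx : p ∣ orderOf x) : χ x = 0 := by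
  have h0 := DefectZero.charDegree_eq hχ.isCharacter
  have hpos := DefectZero.charDegree_pos hχ
  obtain ⟨n, ρ, hρ, rfl⟩ := hχ
  have := hρ
  refine DefectZeroVanish.character_eq_zero ρ p ((Nat.card G).factorization p) hp ?_ ?_ x hx
  · exact Nat.pow_succ_factorization_not_dvd Nat.card_pos.ne' hp
  · rw [Representation.char_one] at h0
    have h1 : charDegree ρ.character = Module.finrank ℂ (Fin n → ℂ) := by exact_mod_cast h0
    rw [← h1]
    exact (pow_dvd_pow p hd).trans (Nat.ordProj_dvd _ _)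

lemma dvd_orderOf_mul {p : ℕ} (hp : p.Prime) {P : Subgroup G} (hP : IsPGroup p P) {u g : G}
    (hu : u ∈ P) (hu1 : u ≠ 1) (hug : Commute u g) (hg : ¬ p ∣ orderOf g) : p ∣ orderOf (u * g) := by
  by_contra hn
  apply hu1
  obtain ⟨k, hk⟩ := hP ⟨u, hu⟩
  have hk' : u ^ p ^ k = 1 := congrArg Subtype.val hk
  have h1 : u ^ (orderOf (u * g) * orderOf g) = 1 := by
    have h2 : (u * g) ^ (orderOf (u * g) * orderOf g) = 1 := by
      rw [pow_mul, pow_orderOf_eq_one, one_pow]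
    rw [hug.mul_pow, mul_comm (orderOf (u * g)) (orderOf g), pow_mul g, pow_orderOf_eq_one,
      one_pow, mul_one] at h2
    rw [mul_comm]; exact h2
  have h3 : Nat.gcd (p ^ k) (orderOf (u * g) * orderOf g) = 1 := by
    apply Nat.Coprime.pow_left
    rw [Nat.Prime.coprime_iff_not_dvd hp, hp.dvd_mul]
    push Not
    exact ⟨hn, hg⟩
  have h4 : orderOf u ∣ 1 := by
    rw [← h3]
    exact Nat.dvd_gcd (orderOf_dvd_of_pow_eq_one hk') (orderOf_dvd_of_pow_eq_one h1)
  exact orderOf_eq_one_iff.1 (Nat.dvd_one.1 h4)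

/-- divisibility of values of characters vanishing on `p`-singular elements -/
theorem div_integral {p : ℕ} (hp : p.Prime) {χ : G → ℂ} (hχ : IsCharacter G χ)
    (hv : ∀ x : G, p ∣ orderOf x → χ x = 0) {P : Subgroup G} (hP : IsPGroup p P) {g : G}
    (hg : ¬ p ∣ orderOf g) (hPg : ∀ u ∈ P, Commute u g) : IsIntegral ℤ (χ g / Nat.card P) := by
  classical
  have hcomm : ∀ (m : P) (n : Subgroup.zpowers g), Commute (P.subtype m) ((Subgroup.zpowers g).subtype n) := by
    rintro ⟨m, hm⟩ ⟨n, hn⟩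
    obtain ⟨k, rfl⟩ := Subgroup.mem_zpowers_iff.1 hn
    exact (hPg m hm).zpow_right k
  let φ : P × Subgroup.zpowers g →* G := MonoidHom.noncommCoprod P.subtype (Subgroup.zpowers g).subtype hcomm
  have hφ : ∀ x : P × Subgroup.zpowers g, φ x = (x.1 : G) * (x.2 : G) := fun x => rfl
  have hθ : IsCharacter (P × Subgroup.zpowers g) (fun x => χ (φ x)) := hχ.comp φ
  let N : Subgroup (P × Subgroup.zpowers g) := Subgroup.prod ⊤ ⊥
  haveI : N.Normal := inferInstance
  haveI := Fintype.ofFinite N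
  haveI := Fintype.ofFinite P
  have hav := isCharacter_avg N hθ
  let g' : P × Subgroup.zpowers g := (1, ⟨g, Subgroup.mem_zpowers g⟩)
  have hint : IsIntegral ℤ ((Nat.card N : ℂ)⁻¹ * ∑ n : N, χ (φ ((n : P × Subgroup.zpowers g) * g'))) := by
    obtain ⟨n, ρ, hρ⟩ := hav
    have h1 := congrFun hρ g'
    rw [← h1]
    exact CharValues.isIntegral_character ρ _
  let e : P ≃ N :=
    { toFun := fun u => ⟨(u, 1), by simp [N, Subgroup.mem_prod]⟩
      invFun := fun n => (n : P × Subgroup.zpowers g).1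
      left_inv := fun u => rfl
      right_inv := by
        rintro ⟨⟨u, v⟩, hn⟩
        have : v = 1 := by
          have := (Subgroup.mem_prod.1 hn).2
          simpa using this
        subst this
        rfl }
  have hcard : Nat.card N = Nat.card P := (Nat.card_congr e).symm
  have hsum : ∑ n : N, χ (φ ((n : P × Subgroup.zpowers g) * g')) = χ g := by
    rw [← Equiv.sum_comp e]
    rw [Finset.sum_eq_single (1 : P)]
    · rw [hφ]
      show χ ((((1 : P) * 1 : P) : G) * ((1 * (⟨g, Subgroup.mem_zpowers g⟩ : Subgroup.zpowers g) :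
          Subgroup.zpowers g) : G)) = _
      simp
    · intro u _ hu
      rw [hφ]
      have e1 : ((((e u : N) : P × Subgroup.zpowers g) * g').1 : G) *
          ((((e u : N) : P × Subgroup.zpowers g) * g').2 : G) = (u : G) * g := by
        show ((u * 1 : P) : G) * ((1 * (⟨g, Subgroup.mem_zpowers g⟩ : Subgroup.zpowers g) :
          Subgroup.zpowers g) : G) = _
        simp
      rw [e1]
      exact hv _ (dvd_orderOf_mul hp hP u.2 (fun h => hu (Subtype.ext h)) (hPg _ u.2) hg)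
    · intro h; exact absurd (Finset.mem_univ _) h
  rw [hcard, hsum] at hint
  rw [div_eq_inv_mul]; exact hint

end Cfsg.Agent.Lib.DefZeroCount
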