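import Cfsg.Agent.Lib.CharBasic2
import Cfsg.Agent.Lib.CharMisc
import Cfsg.Agent.Lib.LinChar
import Cfsg.Agent.Lib.CharCentral
import Cfsg.Agent.Lib.DefectZero
import Cfsg.Agent.Lib.DefZeroCount
import Cfsg.Agent.Lib.NilChar
import Cfsg.Agent.Lib.FrobGroup
import Cfsg.Prelude.Def_Blocks

/-!
# Codegrees of irreducible characters (helper1)
-/

set_option autoImplicit false
set_option linter.all false

namespace Cfsg.Agent.Lib.Codegree

open Cfsg Cfsg.Agent.Lib.CharBasic Cfsg.Agent.Lib.DefectZero
open scoped ComplexConjugate commutatorElement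

universe u

variable {G : Type u} [Group G]

section kernel

variable [Finite G] {χ : G → ℂ}

theorem char_ker_mul (hχ : IsCharacter G χ) {g : G} (hg : χ g = χ 1) (y : G) : χ (g * y) = χ y := by
  obtain ⟨n, ρ, rfl⟩ := hχ
  rw [ρ.char_one] at hg
  have h1 := (CharValues.character_eq_finrank_iff ρ g).1 hg
  simp only [Representation.character, map_mul, h1]
  rfl

/-- the kernel as a subgroup -/
def kerS (hχ : IsCharacter G χ) : Subgroup G where
  carrier := {g | χ g = χ 1}
  mul_mem' := fun {a b} ha hb => by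
    show χ (a * b) = χ 1
    rw [char_ker_mul hχ ha]; exact hb
  one_mem' := rfl
  inv_mem' := fun {a} ha => by
    show χ a⁻¹ = χ 1
    have h1 : χ (a * a⁻¹) = χ a⁻¹ := char_ker_mul hχ ha a⁻¹
    rw [← h1, mul_inv_cancel]

theorem mem_kerS (hχ : IsCharacter G χ) {g : G} : g ∈ kerS hχ ↔ χ g = χ 1 := Iff.rfl

theorem kerS_normal (hχ : IsCharacter G χ) : (kerS hχ).Normal :=
  ⟨fun n hn g => by
    show χ (g * n * g⁻¹) = χ 1
    rw [hχ.isClassFunction]
    exact hn⟩

/-- The deflation of an irreducible character to the quotient by its kernel. -/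
theorem cod_data (hχ : IsIrrCharacter G χ) : ∃ (K : Subgroup G) (_ : K.Normal) (ψ : G ⧸ K → ℂ),
    (∀ g, g ∈ K ↔ χ g = χ 1) ∧ IsIrrCharacter (G ⧸ K) ψ ∧ (∀ g : G, ψ g = χ g) ∧
    (∀ x, ψ x = ψ 1 → x = 1) ∧ charDegree ψ = charDegree χ ∧
    Nat.card (G ⧸ K) =
      (Nat.card G / (Nat.card {g : G // χ g = χ 1} * charDegree χ)) * charDegree ψ := by
  have hc := hχ.isCharacter
  have hN := kerS_normal hc
  obtain ⟨ψ, hψ, hψv⟩ := hχ.deflate (kerS hc) (fun n hn => hn)
  have h1 : ψ 1 = χ 1 := hψv 1
  have hdeg : charDegree ψ = charDegree χ := by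
    unfold charDegree; rw [h1]
  refine ⟨kerS hc, hN, ψ, fun g => Iff.rfl, hψ, hψv, ?_, hdeg, ?_⟩
  · intro x hx
    induction x using QuotientGroup.induction_on with
    | H g =>
      rw [hψv, h1] at hx
      exact (QuotientGroup.eq_one_iff g).2 hx
  · have h2 : Nat.card {g : G // χ g = χ 1} = Nat.card (kerS hc) := rfl
    have h3 := (kerS hc).card_eq_card_quotient_mul_card_subgroup
    have h4 : charDegree ψ ∣ Nat.card (G ⧸ kerS hc) := charDegree_dvd hψ
    rw [h2, h3, mul_comm (Nat.card (G ⧸ kerS hc)), Nat.mul_div_mul_left _ _ Nat.card_pos, ← hdeg,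
      Nat.div_mul_cancel h4]

/-- a prime divides the group order iff it divides a codegree -/
theorem dvd_card_iff {p : ℕ} (hp : p.Prime) : p ∣ Nat.card G ↔ ∃ χ : IrrCharacter G,
    p ∣ (Nat.card G / (Nat.card {g : G // (χ : G → ℂ) g = (χ : G → ℂ) 1} *
      charDegree (χ : G → ℂ))) := by
  classical
  constructor
  · intro hd
    by_contra hno
    push Not at hno
    haveI := Fact.mk hp
    obtain ⟨x, hx⟩ := exists_prime_orderOf_dvd_card' p hd
    have hx1 : x ≠ 1 := by
      rintro rfl
      rw [orderOf_one] at hx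
      exact hp.one_lt.ne hx
    have h0 := sum_degree_mul x hx1
    have hterm : ∀ χ : IrrCharacter G, ∃ n : ℕ, (χ : G → ℂ) 1 * (χ : G → ℂ) x = n ∧
        ((χ : G → ℂ) = (fun _ => 1) → n = 1) := by
      intro χ
      obtain ⟨K, hKn, ψ, hmem, hψ, hψv, hfaith, hdeg, hcard⟩ := cod_data χ.2
      obtain ⟨m, hm0, hm⟩ := χ.2.exists_degree
      by_cases hxK : (χ : G → ℂ) x = (χ : G → ℂ) 1
      · refine ⟨m * m, by rw [hxK, hm]; push_cast; ring, fun h => ?_⟩
        rw [h] at hm
        have h' : (m : ℂ) = 1 := hm.symm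
        have : m = 1 := by exact_mod_cast h'
        rw [this]
      · refine ⟨0, ?_, fun h => absurd (by rw [h]) hxK⟩
        have hv : ψ (x : G ⧸ K) = 0 := by
          apply DefZeroCount.vanish hp hψ
          · have h5 := hno χ
            rw [hcard, Nat.factorization_mul, Finsupp.add_apply,
              Nat.factorization_eq_zero_of_not_dvd h5, zero_add]
            · intro h6
              rw [h6, zero_mul] at hcard
              exact Nat.card_pos.ne' hcard
            · exact (charDegree_pos hψ).ne'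
          · have h6 : (x : G ⧸ K) ^ p = 1 := by
              rw [← QuotientGroup.mk_pow, ← hx, pow_orderOf_eq_one, QuotientGroup.mk_one]
            have h7 : (x : G ⧸ K) ≠ 1 := by
              intro h8
              apply hxK
              rw [← hmem]
              exact (QuotientGroup.eq_one_iff x).1 h8
            rw [orderOf_eq_prime h6 h7]
        rw [← hψv x, hv, mul_zero, Nat.cast_zero]
    choose n hn hn1 using hterm
    have h1 : (∑ χ : IrrCharacter G, (n χ : ℂ)) = 0 := by
      rw [← h0]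
      exact Finset.sum_congr rfl fun χ _ => (hn χ).symm
    have h2 : (∑ χ : IrrCharacter G, n χ) = 0 := by exact_mod_cast h1
    rw [Finset.sum_eq_zero_iff] at h2
    have h3 := h2 ⟨fun _ => 1, isIrrCharacter_fun_one⟩ (Finset.mem_univ _)
    rw [hn1 _ rfl] at h3
    exact one_ne_zero h3
  · rintro ⟨χ, hχ⟩
    obtain ⟨K, hKn, ψ, hmem, hψ, hψv, hfaith, hdeg, hcard⟩ := cod_data χ.2
    have h1 : p ∣ Nat.card (G ⧸ K) := by
      rw [hcard]
      exact dvd_mul_of_dvd_left hχ _
    rw [K.card_eq_card_quotient_mul_card_subgroup]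
    exact dvd_mul_of_dvd_left h1 _

/-- codegrees divide the group order -/
theorem cod_dvd (hχ : IsIrrCharacter G χ) :
    (Nat.card G / (Nat.card {g : G // χ g = χ 1} * charDegree χ)) ∣ Nat.card G := by
  obtain ⟨K, hKn, ψ, hmem, hψ, hψv, hfaith, hdeg, hcard⟩ := cod_data hχ
  have h1 : (Nat.card G / (Nat.card {g : G // χ g = χ 1} * charDegree χ)) ∣ Nat.card (G ⧸ K) := by
    rw [hcard]
    exact dvd_mul_right _ _
  exact h1.trans (Subgroup.card_quotient_dvd_card K)

end kernel

section prime

variable [Finite G] {χ : G → ℂ}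

theorem sum_charDegree_sq : ∑ ψ : IrrCharacter G, charDegree (ψ : G → ℂ) ^ 2 = Nat.card G := by
  have h := sum_degree_sq (G := G)
  have h2 : ((∑ ψ : IrrCharacter G, charDegree (ψ : G → ℂ) ^ 2 : ℕ) : ℂ) = (Nat.card G : ℂ) := by
    rw [← h]
    push_cast
    exact Finset.sum_congr rfl fun ψ _ => by rw [charDegree_eq ψ.2.isCharacter]
  exact_mod_cast h2

theorem prime_codegree (hχ : IsIrrCharacter G χ) {p : ℕ} (hp : p.Prime)
    (hcod : Nat.card G = p * charDegree χ) (hfaith : ∀ g, χ g = χ 1 → g = 1) :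
    ∃ P : Subgroup G, P.Normal ∧ Nat.card P = p ∧ P.index < p ∧ 0 < P.index ∧
      Subgroup.centralizer (P : Set G) = P := by
  classical
  haveI := Fact.mk hp
  set m := charDegree χ with hm
  have hmpos : 0 < m := charDegree_pos hχ
  have hlt : m < p := by
    by_contra hge
    push Not at hge
    have h1 := sum_charDegree_sq (G := G)
    by_cases h0 : (⟨χ, hχ⟩ : IrrCharacter G) = ⟨fun _ => 1, isIrrCharacter_fun_one⟩
    · have h2 : χ = fun _ => 1 := congrArg Subtype.val h0
      have h3 : (m : ℂ) = 1 := by rw [hm, charDegree_eq hχ.isCharacter, h2]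
      have h4 : m = 1 := by exact_mod_cast h3
      have := hp.two_le
      omega
    · have h2 : charDegree χ ^ 2 + charDegree (fun _ : G => (1 : ℂ)) ^ 2 ≤ Nat.card G := by
        rw [← h1]
        have h3 := Finset.sum_le_sum_of_subset (f := fun ψ : IrrCharacter G =>
          charDegree (ψ : G → ℂ) ^ 2) (Finset.subset_univ
          {(⟨χ, hχ⟩ : IrrCharacter G), ⟨fun _ => 1, isIrrCharacter_fun_one⟩})
        rwa [Finset.sum_pair h0] at h3
      have h3 : 0 < charDegree (fun _ : G => (1 : ℂ)) := charDegree_pos isIrrCharacter_fun_one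
      have h4 : 0 < charDegree (fun _ : G => (1 : ℂ)) ^ 2 := pow_pos h3 2
      rw [hcod, ← hm] at h2
      have h5 : p * m ≤ m ^ 2 := by rw [sq]; exact Nat.mul_le_mul_right m hge
      omega
  obtain ⟨P⟩ : Nonempty (Sylow p G) := inferInstance
  have hndvd : ¬ p ∣ m := fun h => absurd (Nat.le_of_dvd hmpos h) (by omega)
  have hcardP : Nat.card (P : Subgroup G) = p := by
    rw [P.card_eq_multiplicity, hcod, Nat.factorization_mul hp.ne_zero hmpos.ne',
      Finsupp.add_apply, hp.factorization_self, Nat.factorization_eq_zero_of_not_dvd hndvd,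
      add_zero, pow_one]
  have hidx : (P : Subgroup G).index = m := by
    have h1 := (P : Subgroup G).card_mul_index
    rw [hcardP, hcod] at h1
    exact Nat.eq_of_mul_eq_mul_left hp.pos h1
  have hone : Nat.card (Sylow p G) = 1 := by
    have h1 : Nat.card (Sylow p G) ∣ m := by rw [← hidx]; exact P.card_dvd_index
    have h2 := card_sylow_modEq_one p G
    have h3 := Nat.le_of_dvd hmpos h1
    have h4 : Nat.card (Sylow p G) % p = 1 % p := h2
    rw [Nat.mod_eq_of_lt (by omega), Nat.mod_eq_of_lt hp.one_lt] at h4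
    exact h4
  have hnorm : (P : Subgroup G).Normal := by
    haveI : Subsingleton (Sylow p G) := (Nat.card_eq_one_iff_unique.1 hone).1
    exact Sylow.normal_of_subsingleton P
  refine ⟨P, hnorm, hcardP, by rw [hidx]; exact hlt, by rw [hidx]; exact hmpos, ?_⟩
  have hPc : ∀ a ∈ (P : Subgroup G), ∀ b ∈ (P : Subgroup G), a * b = b * a := by
    haveI : IsCyclic (P : Subgroup G) := isCyclic_of_prime_card hcardP
    intro a ha b hb
    have := (IsCyclic.commGroup (α := (P : Subgroup G))).mul_comm ⟨a, ha⟩ ⟨b, hb⟩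
    exact congrArg Subtype.val this
  apply le_antisymm
  · intro x hx
    by_contra hxP
    set s : Set G := insert x (P : Set G) with hs
    have hss : s ⊆ Subgroup.centralizer s := by
      intro a ha
      rw [SetLike.mem_coe, Subgroup.mem_centralizer_iff]
      intro b hb
      rcases ha with rfl | ha <;> rcases hb with rfl | hb
      · rfl
      · exact (Subgroup.mem_centralizer_iff.1 hx) b hb
      · exact ((Subgroup.mem_centralizer_iff.1 hx) a ha).symm
      · exact hPc b hb a ha
    have h1 : Subgroup.closure s ≤ Subgroup.centralizer (Subgroup.closure s : Set G) := by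
      rw [Subgroup.centralizer_closure]
      exact (Subgroup.closure_le _).2 hss
    have h2 : ∀ a ∈ Subgroup.closure s, ∀ b ∈ Subgroup.closure s, a * b = b * a :=
      fun a ha b hb => (Subgroup.mem_centralizer_iff.1 (h1 hb)) a ha
    obtain ⟨n, ρ, hρ, hρχ⟩ := hχ
    haveI := hρ
    have h3 := CharMisc.finrank_le_index ρ (Subgroup.closure s) h2
    have h4 : Module.finrank ℂ (Fin n → ℂ) = m := by
      have h5 : ρ.character 1 = (Module.finrank ℂ (Fin n → ℂ) : ℂ) := ρ.char_one
      rw [hρχ, ← charDegree_eq ⟨n, ρ, hρχ⟩, ← hm] at h5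
      exact_mod_cast h5.symm
    rw [h4] at h3
    have hPs : (P : Subgroup G) < Subgroup.closure s := by
      refine lt_of_le_of_ne (fun y hy => Subgroup.subset_closure (Or.inr hy)) fun h => hxP ?_
      rw [h]
      exact Subgroup.subset_closure (Or.inl rfl)
    have h5 : (Subgroup.closure s).index < (P : Subgroup G).index :=
      Subgroup.index_strictAnti hPs
    omega
  · intro x hx
    rw [Subgroup.mem_centralizer_iff]
    exact fun y hy => hPc y hy x hx

theorem frobenius_or_cyclic (hχ : IsIrrCharacter G χ) {p : ℕ} (hp : p.Prime)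
    (hcod : Nat.card G = p * charDegree χ) (hfaith : ∀ g, χ g = χ 1 → g = 1) :
    (IsCyclic G ∧ Nat.card G = p) ∨
      ∃ H : Subgroup G, IsFrobeniusComplement H ∧ Nat.card ↥(frobeniusKernel H) = p := by
  haveI := Fact.mk hp
  obtain ⟨P, hPn, hPc, hlt, hpos, hcent⟩ := prime_codegree hχ hp hcod hfaith
  by_cases hP : P = ⊤
  · left
    have h1 : Nat.card G = p := by rw [← hPc, hP, Subgroup.card_top]
    exact ⟨isCyclic_of_prime_card h1, h1⟩
  right
  have hcop : Nat.Coprime (Nat.card P) P.index := by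
    rw [hPc, hp.coprime_iff_not_dvd]
    exact fun h => absurd (Nat.le_of_dvd hpos h) (by omega)
  obtain ⟨H, hH⟩ := Subgroup.exists_right_complement'_of_coprime hcop
  have hPb : P ≠ ⊥ := by
    rintro rfl
    rw [Subgroup.card_bot] at hPc
    exact hp.one_lt.ne hPc
  have hHb : H ≠ ⊥ := by
    rintro rfl
    exact hP (Subgroup.isComplement'_bot_right.1 hH)
  have hF : IsFrobeniusComplement H := by
    rw [FrobGroup.isFrobeniusComplement_iff hH hPb hHb]
    intro h hh hh1
    by_contra hne
    have h1 : Nat.card ↥(P ⊓ Subgroup.centralizer {h}) ∣ p := by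
      rw [← hPc]
      exact Subgroup.card_dvd_of_le inf_le_left
    rcases (Nat.dvd_prime hp).1 h1 with h2 | h2
    · exact hne (Subgroup.card_eq_one.1 h2)
    · have h3 : P ⊓ Subgroup.centralizer {h} = P :=
        Subgroup.eq_of_le_of_card_ge inf_le_left (by rw [h2, hPc])
      have h4 : h ∈ P := by
        rw [← hcent, Subgroup.mem_centralizer_iff]
        intro y hy
        have h5 : y ∈ P ⊓ Subgroup.centralizer {h} := by rw [h3]; exact hy
        exact Subgroup.mem_centralizer_singleton_iff.1 h5.2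
      have h5 : h ∈ P ⊓ H := ⟨h4, hh⟩
      rw [hH.disjoint.eq_bot, Subgroup.mem_bot] at h5
      exact hh1 h5
  refine ⟨H, hF, ?_⟩
  rw [FrobGroup.kernel_eq_of_complement hH hF]
  exact hPc

/-- a perfect group has no irreducible character of prime codegree -/
theorem not_perfect_of_prime (hχ : IsIrrCharacter G χ)
    (hcod : (Nat.card G / (Nat.card {g : G // χ g = χ 1} * charDegree χ)).Prime)
    (hperf : commutator G = ⊤) : False := by
  obtain ⟨K, hKn, ψ, hmem, hψ, hψv, hfaith, hdeg, hcard⟩ := cod_data hχ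
  set p := Nat.card G / (Nat.card {g : G // χ g = χ 1} * charDegree χ) with hp
  haveI := Fact.mk hcod
  obtain ⟨P, hPn, hPc, hlt, hpos, hcent⟩ := prime_codegree hψ hcod hcard hfaith
  have hperf' : commutator (G ⧸ K) = ⊤ := by
    have h1 := Subgroup.map_commutator (⊤ : Subgroup G) ⊤ (QuotientGroup.mk' K)
    have h2 : (⊤ : Subgroup G).map (QuotientGroup.mk' K) = ⊤ :=
      Subgroup.map_top_of_surjective _ (QuotientGroup.mk'_surjective K)
    rw [h2] at h1
    have h3 : ⁅(⊤ : Subgroup G), ⊤⁆ = ⊤ := hperf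
    rw [h3, h2] at h1
    exact h1.symm
  haveI hcyc : IsCyclic P := isCyclic_of_prime_card hPc
  have h1 : commutator (G ⧸ K) ≤ P := by
    rw [← hcent, commutator_def, Subgroup.commutator_le]
    intro a _ b _
    have hcomm : ∀ f g : MulAut P, f * g = g * f := by
      intro f g
      apply (IsCyclic.mulAutMulEquiv P).injective
      rw [map_mul, map_mul, mul_comm]
    have h2 : MulAut.conjNormal (H := P) ⁅a, b⁆ = 1 := by
      rw [map_commutatorElement, commutatorElement_def, hcomm (MulAut.conjNormal a)]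
      group
    rw [Subgroup.mem_centralizer_iff]
    intro y hy
    have h3 : (MulAut.conjNormal (H := P) ⁅a, b⁆) ⟨y, hy⟩ = ⟨y, hy⟩ := by rw [h2]; rfl
    have h4 := congrArg Subtype.val h3
    rw [MulAut.conjNormal_apply] at h4
    change ⁅a, b⁆ * y * ⁅a, b⁆⁻¹ = y at h4
    have h5 : ⁅a, b⁆ * y * ⁅a, b⁆⁻¹ * ⁅a, b⁆ = y * ⁅a, b⁆ := by rw [h4]
    rw [inv_mul_cancel_right] at h5
    exact h5.symm
  rw [hperf', top_le_iff] at h1
  have h2 : ∀ a b : G ⧸ K, a * b = b * a := by
    intro a b
    have ha : a ∈ P := by rw [h1]; trivial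
    have hb : b ∈ P := by rw [h1]; trivial
    have := (IsCyclic.commGroup (α := P)).mul_comm ⟨a, ha⟩ ⟨b, hb⟩
    exact congrArg Subtype.val this
  have h3 : commutator (G ⧸ K) = ⊥ := by
    rw [commutator_def, Subgroup.commutator_eq_bot_iff_le_centralizer]
    intro a _
    rw [Subgroup.mem_centralizer_iff]
    exact fun b _ => h2 b a
  rw [hperf'] at h3
  have h4 : Nat.card (G ⧸ K) = 1 := by
    rw [← Subgroup.card_top (G := G ⧸ K), h3, Subgroup.card_bot]
  have h5 : p ∣ Nat.card (G ⧸ K) := by rw [hcard]; exact dvd_mul_right _ _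
  rw [h4] at h5
  exact hcod.one_lt.ne' (Nat.dvd_one.1 h5)

end prime

section linear

variable [Finite G]

theorem exists_prime_codegree (h : commutator G ≠ ⊤) : ∃ χ : IrrCharacter G,
    (Nat.card G / (Nat.card {g : G // (χ : G → ℂ) g = (χ : G → ℂ) 1} *
      charDegree (χ : G → ℂ))).Prime := by
  obtain ⟨N, hN, hle⟩ := (eq_top_or_exists_le_coatom (commutator G)).resolve_left h
  have hNn : N.Normal := by
    refine ⟨fun n hn g => ?_⟩
    have h1 : ⁅g, n⁆ ∈ N := hle (Subgroup.commutator_mem_commutator trivial trivial)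
    have h2 : g * n * g⁻¹ = ⁅g, n⁆ * n := by rw [commutatorElement_def]; group
    rw [h2]
    exact N.mul_mem h1 hn
  have hA : ∀ a b : G ⧸ N, a * b = b * a := by
    intro a b
    induction a using QuotientGroup.induction_on with
    | H a =>
    induction b using QuotientGroup.induction_on with
    | H b =>
      rw [← QuotientGroup.mk_mul, ← QuotientGroup.mk_mul, QuotientGroup.eq]
      have h1 : ⁅b⁻¹, a⁻¹⁆ ∈ N := hle (Subgroup.commutator_mem_commutator trivial trivial)
      have h2 : (a * b)⁻¹ * (b * a) = ⁅b⁻¹, a⁻¹⁆ := by rw [commutatorElement_def]; group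
      rw [h2]; exact h1
  have hne : Nontrivial (G ⧸ N) := by
    rw [QuotientGroup.nontrivial_iff]
    exact hN.1
  obtain ⟨q, hq, hqd⟩ := Nat.exists_prime_and_dvd
    (show Nat.card (G ⧸ N) ≠ 1 from (Finite.one_lt_card).ne')
  haveI := Fact.mk hq
  obtain ⟨x, hx⟩ := exists_prime_orderOf_dvd_card' q hqd
  have htop : Subgroup.zpowers x = ⊤ := by
    have h1 : N ≤ (Subgroup.zpowers x).comap (QuotientGroup.mk' N) := by
      intro n hn
      rw [Subgroup.mem_comap]
      have : QuotientGroup.mk' N n = 1 := (QuotientGroup.eq_one_iff n).2 hn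
      rw [this]; exact one_mem _
    have h2 : (Subgroup.zpowers x).comap (QuotientGroup.mk' N) ≠ N := by
      intro h3
      obtain ⟨y, hy⟩ := QuotientGroup.mk'_surjective N x
      have h4 : y ∈ (Subgroup.zpowers x).comap (QuotientGroup.mk' N) := by
        rw [Subgroup.mem_comap, hy]; exact Subgroup.mem_zpowers x
      rw [h3] at h4
      have h5 : x = 1 := by rw [← hy]; exact (QuotientGroup.eq_one_iff y).2 h4
      rw [h5, orderOf_one] at hx
      exact hq.one_lt.ne hx
    have h3 : (Subgroup.zpowers x).comap (QuotientGroup.mk' N) = ⊤ :=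
      hN.2 _ (lt_of_le_of_ne h1 (Ne.symm h2))
    rw [eq_top_iff]
    intro z _
    obtain ⟨y, hy⟩ := QuotientGroup.mk'_surjective N z
    have h4 : y ∈ (Subgroup.zpowers x).comap (QuotientGroup.mk' N) := by rw [h3]; trivial
    rw [← hy]; exact h4
  have hcard : Nat.card (G ⧸ N) = q := by
    rw [← Subgroup.card_top (G := G ⧸ N), ← htop, Nat.card_zpowers, hx]
  have hx1 : x ≠ 1 := by
    rintro rfl
    rw [orderOf_one] at hx
    exact hq.one_lt.ne hx
  obtain ⟨θ, hθ⟩ := LinChar.exists_ne_one hA hx1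
  have hinj : ∀ z, θ z = 1 → z = 1 := by
    intro z hz
    by_contra hz1
    have h1 : orderOf z = q := by
      have h2 : orderOf z ∣ q := by rw [← hcard]; exact _root_.orderOf_dvd_natCard z
      rcases (Nat.dvd_prime hq).1 h2 with h3 | h3
      · exact absurd (orderOf_eq_one_iff.1 h3) hz1
      · exact h3
    have h2 : Subgroup.zpowers z = ⊤ :=
      Subgroup.eq_top_of_card_eq _ (by rw [Nat.card_zpowers, h1, hcard])
    have h3 : x ∈ Subgroup.zpowers z := by rw [h2]; trivial
    obtain ⟨k, rfl⟩ := Subgroup.mem_zpowers_iff.1 h3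
    apply hθ
    rw [map_zpow, hz, one_zpow]
  let f : G →* ℂˣ := θ.comp (QuotientGroup.mk' N)
  refine ⟨⟨fun g => (f g : ℂ), isIrrCharacter_of_unitsHom f⟩, ?_⟩
  have h1 : charDegree (fun g => ((f g : ℂˣ) : ℂ)) = 1 := by
    have h2 := charDegree_eq (isCharacter_of_unitsHom f)
    rw [map_one, Units.val_one] at h2
    exact_mod_cast h2
  have h2 : Nat.card {g : G // ((f g : ℂˣ) : ℂ) = ((f 1 : ℂˣ) : ℂ)} = Nat.card N := by
    apply Nat.card_congr
    apply Equiv.subtypeEquivRight
    intro g
    rw [Units.val_inj, map_one]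
    constructor
    · intro h3
      exact (QuotientGroup.eq_one_iff g).1 (hinj _ h3)
    · intro h3
      have h4 : QuotientGroup.mk' N g = 1 := (QuotientGroup.eq_one_iff g).2 h3
      change θ (QuotientGroup.mk' N g) = 1
      rw [h4, map_one]
  change (Nat.card G / (Nat.card {g : G // ((f g : ℂˣ) : ℂ) = ((f 1 : ℂˣ) : ℂ)} *
      charDegree (fun g => ((f g : ℂˣ) : ℂ)))).Prime
  rw [h1, h2, mul_one, N.card_eq_card_quotient_mul_card_subgroup,
    Nat.mul_div_cancel _ Nat.card_pos, hcard]
  exact hq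

end linear

section sylow

variable [Fintype G] {χ : G → ℂ}

theorem ppower_of_induced {p : ℕ} [hp : Fact p.Prime] (hχ : IsIrrCharacter G χ) (P : Sylow p G)
    {θ : ↥(P : Subgroup G) → ℂ} (hθ : IsCharacter ↥(P : Subgroup G) θ)
    (h : χ = indFun (P : Subgroup G) θ) : ∃ k : ℕ, Nat.card G = p ^ k * charDegree χ := by
  obtain ⟨t, ht⟩ := hθ.exists_degree
  have h1 : charDegree χ = (P : Subgroup G).index * t := by
    have h2 := charDegree_eq hχ.isCharacter
    rw [h, IndFun.indFun_one, ht, ← h] at h2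
    exact_mod_cast h2
  have hpos : 0 < (P : Subgroup G).index := Nat.pos_of_ne_zero Subgroup.index_ne_zero_of_finite
  obtain ⟨a, ha⟩ := P.isPGroup'.exists_card_eq
  have hdvd := charDegree_dvd hχ
  rw [h1, ← (P : Subgroup G).card_mul_index, ha, mul_comm (p ^ a)] at hdvd
  have h3 : t ∣ p ^ a := Nat.dvd_of_mul_dvd_mul_left hpos hdvd
  obtain ⟨j, hj, rfl⟩ := (Nat.dvd_prime_pow hp.out).1 h3
  refine ⟨a - j, ?_⟩
  rw [h1, ← (P : Subgroup G).card_mul_index, ha, mul_comm _ (p ^ j), ← mul_assoc, ← pow_add,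
    Nat.sub_add_cancel hj]

theorem induced_of_ppower {p : ℕ} [hp : Fact p.Prime] (hχ : IsIrrCharacter G χ) (P : Sylow p G)
    {k : ℕ} (hk : Nat.card G = p ^ k * charDegree χ) :
    ∃ θ : ↥(P : Subgroup G) → ℂ, IsIrrCharacter ↥(P : Subgroup G) θ ∧
      χ = indFun (P : Subgroup G) θ := by
  classical
  haveI : Fintype (P : Subgroup G) := Fintype.ofFinite _
  obtain ⟨a, ha⟩ := P.isPGroup'.exists_card_eq
  set m := (P : Subgroup G).index with hm
  have hpos : 0 < m := Nat.pos_of_ne_zero Subgroup.index_ne_zero_of_finite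
  have hpm : ¬ p ∣ m := P.not_dvd_index
  have hG : Nat.card G = p ^ a * m := by rw [← ha, hm, (P : Subgroup G).card_mul_index]
  have hka : k ≤ a := by
    by_contra hlt
    push Not at hlt
    have h1 : p ^ k ∣ p ^ a * m := by rw [← hG, hk]; exact dvd_mul_right _ _
    have h2 : p ^ k ∣ p ^ a :=
      (Nat.Coprime.dvd_of_dvd_mul_right
        (Nat.Coprime.pow_left k ((Nat.Prime.coprime_iff_not_dvd hp.out).2 hpm)) h1)
    have h3 := (Nat.pow_dvd_pow_iff_le_right hp.out.one_lt).1 h2
    omega
  have hd : charDegree χ = p ^ (a - k) * m := by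
    have h1 : p ^ k * charDegree χ = p ^ k * (p ^ (a - k) * m) := by
      rw [← hk, hG, ← mul_assoc, ← pow_add, Nat.add_sub_cancel' hka]
    exact Nat.eq_of_mul_eq_mul_left (pow_pos hp.out.pos k) h1
  obtain ⟨c, hc, hs⟩ := (hχ.isCharacter.restrict (P : Subgroup G)).exists_coeff
  have hex : ∃ θ : IrrCharacter (P : Subgroup G), c θ ≠ 0 ∧
      ¬ p ^ (a - k + 1) ∣ charDegree (θ : ↥(P : Subgroup G) → ℂ) := by
    by_contra hno
    push Not at hno
    have h1 := congrFun hs 1
    simp only [Finset.sum_apply, Pi.smul_apply, smul_eq_mul, OneMemClass.coe_one] at h1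
    have h2 : charDegree χ = ∑ θ : IrrCharacter (P : Subgroup G),
        c θ * charDegree (θ : ↥(P : Subgroup G) → ℂ) := by
      have h3 : ((charDegree χ : ℕ) : ℂ) = ((∑ θ : IrrCharacter (P : Subgroup G),
        c θ * charDegree (θ : ↥(P : Subgroup G) → ℂ) : ℕ) : ℂ) := by
        rw [charDegree_eq hχ.isCharacter, h1]
        push_cast
        exact Finset.sum_congr rfl fun θ _ => by rw [charDegree_eq θ.2.isCharacter]
      exact_mod_cast h3
    have h3 : p ^ (a - k + 1) ∣ charDegree χ := by
      rw [h2]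
      apply Finset.dvd_sum
      intro θ _
      by_cases h0 : c θ = 0
      · rw [h0, zero_mul]; exact dvd_zero _
      · exact dvd_mul_of_dvd_right (hno θ h0) _
    rw [hd, pow_succ] at h3
    exact hpm (Nat.dvd_of_mul_dvd_mul_left (pow_pos hp.out.pos _) h3)
  obtain ⟨θ, hθ0, hθd⟩ := hex
  have h1 : charDegree (θ : ↥(P : Subgroup G) → ℂ) ∣ p ^ a := by
    rw [← ha]; exact charDegree_dvd θ.2
  obtain ⟨e, he, hde⟩ := (Nat.dvd_prime_pow hp.out).1 h1
  have hele : e ≤ a - k := by
    by_contra hlt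
    push Not at hlt
    apply hθd
    rw [hde]
    exact pow_dvd_pow p hlt
  have hind : IsCharacter G (indFun (P : Subgroup G) (θ : ↥(P : Subgroup G) → ℂ)) :=
    θ.2.isCharacter.indFun _
  have hne : classInner (indFun (P : Subgroup G) (θ : ↥(P : Subgroup G) → ℂ)) χ ≠ 0 := by
    rw [IndFun.frobenius_reciprocity _ _ _ hχ.isClassFunction, ← conj_classInner, hc θ]
    simp only [Complex.conj_natCast, ne_eq, Nat.cast_eq_zero]
    exact hθ0
  have hsub := hind.sub_constituent hχ hne
  have h2 : indFun (P : Subgroup G) (θ : ↥(P : Subgroup G) → ℂ) 1 = ((m * p ^ e : ℕ) : ℂ) := by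
    rw [IndFun.indFun_one, ← charDegree_eq θ.2.isCharacter, hde]
    push_cast; rfl
  have h3 := degree_le_of_constituent hind hχ hne h2 (charDegree_eq hχ.isCharacter).symm
  have h4 : m * p ^ e = charDegree χ := by
    apply le_antisymm _ h3
    rw [hd, mul_comm]
    exact Nat.mul_le_mul_right m (Nat.pow_le_pow_right hp.out.pos hele)
  have h5 := hsub.eq_zero_of_one_eq_zero (by
    rw [Pi.sub_apply, h2, h4, charDegree_eq hχ.isCharacter, sub_self])
  exact ⟨θ, θ.2, (sub_eq_zero.1 h5).symm⟩

end sylow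

section simple

/-- the order of a simple group divides the order of any group with all its codegrees -/
theorem card_dvd_of_codegrees {S : Type*} [Group S] [Finite S] (hS : IsSimpleGroup S)
    {n : ℕ} (hsub : ∀ χ : IrrCharacter S,
      (Nat.card S / (Nat.card {g : S // (χ : S → ℂ) g = (χ : S → ℂ) 1} *
        charDegree (χ : S → ℂ))) ∣ n) : Nat.card S ∣ n := by
  classical
  rcases Nat.eq_zero_or_pos n with rfl | hn
  · exact dvd_zero _
  rw [← Nat.factorization_le_iff_dvd Nat.card_pos.ne' hn.ne']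
  intro p
  by_cases hp : p.Prime
  swap
  · rw [Nat.factorization_eq_zero_of_not_prime _ hp]; exact Nat.zero_le _
  by_cases hpd : p ∣ Nat.card S
  swap
  · rw [Nat.factorization_eq_zero_of_not_dvd hpd]; exact Nat.zero_le _
  -- a nontrivial character of degree prime to p
  have hex : ∃ χ : IrrCharacter S, (χ : S → ℂ) ≠ (fun _ => 1) ∧ ¬ p ∣ charDegree (χ : S → ℂ) := by
    by_contra hno
    push Not at hno
    have h1 := sum_charDegree_sq (G := S)
    rw [← Finset.add_sum_erase _ _
      (Finset.mem_univ (⟨fun _ => 1, isIrrCharacter_fun_one⟩ : IrrCharacter S))] at h1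
    have h2 : p ∣ ∑ ψ ∈ Finset.univ.erase (⟨fun _ => 1, isIrrCharacter_fun_one⟩ : IrrCharacter S),
        charDegree (ψ : S → ℂ) ^ 2 := by
      apply Finset.dvd_sum
      intro ψ hψ
      rw [Finset.mem_erase] at hψ
      have h3 := hno ψ (fun h => hψ.1 (Subtype.ext h))
      exact dvd_pow h3 (by norm_num)
    rw [← h1] at hpd
    have h3 := (Nat.dvd_add_left h2).1 hpd
    have h4 : charDegree (fun _ : S => (1 : ℂ)) = 1 := by
      have := charDegree_eq (isIrrCharacter_fun_one (G := S)).isCharacter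
      exact_mod_cast this
    rw [h4, one_pow] at h3
    exact hp.one_lt.ne' (Nat.dvd_one.1 h3)
  obtain ⟨χ, hχ1, hχp⟩ := hex
  have hker : Nat.card {g : S // (χ : S → ℂ) g = (χ : S → ℂ) 1} = 1 := by
    have h1 := (kerS_normal χ.2.isCharacter).eq_bot_or_eq_top
    have h2 : Nat.card {g : S // (χ : S → ℂ) g = (χ : S → ℂ) 1} =
        Nat.card (kerS χ.2.isCharacter) := rfl
    rcases h1 with h1 | h1
    · rw [h2, h1, Subgroup.card_bot]
    · exfalso
      apply hχ1
      have h3 : ∀ g, (χ : S → ℂ) g = (χ : S → ℂ) 1 := by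
        intro g
        have : g ∈ kerS χ.2.isCharacter := by rw [h1]; trivial
        exact this
      have h4 : (χ : S → ℂ) 1 = 1 :=
        NilChar.linear_of_const χ.2 (fun n _ => h3 n)
      funext g
      rw [h3 g, h4]
  have h1 := hsub χ
  rw [hker, one_mul] at h1
  have h2 := charDegree_dvd χ.2
  have h3 : (Nat.card S / charDegree (χ : S → ℂ)).factorization p = (Nat.card S).factorization p := by
    rw [Nat.factorization_div h2, Finsupp.tsub_apply, Nat.factorization_eq_zero_of_not_dvd hχp,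
      tsub_zero]
  rw [← h3]
  exact (Nat.factorization_le_iff_dvd (Nat.div_pos (Nat.le_of_dvd Nat.card_pos h2)
    (charDegree_pos χ.2)).ne' hn.ne').2 h1 p

end simple

end Cfsg.Agent.Lib.Codegree
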