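import Mathlib
import Cfsg.Agent.Lib.BROne
import Cfsg.Agent.Lib.Codegree

/-!
# The principal block of a simple group with a Sylow subgroup of prime order: packaged data (helper54)
-/

set_option autoImplicit false
set_option linter.all false

namespace Cfsg.Agent.Lib.PBData

open Cfsg Cfsg.Agent.Lib.BlockRing Cfsg.Agent.Lib.BlockGA Cfsg.Agent.Lib.BlockIdem
open Cfsg.Agent.Lib.DefOneLoc Cfsg.Agent.Lib.DefOneOrd Cfsg.Agent.Lib.CharBasic Cfsg.Agent.Lib.DefOneGram
open Cfsg.Agent.Lib.DefOne Cfsg.Agent.Lib.BlockThird Cfsg.Agent.Lib.DefOnePrin Cfsg.Agent.Lib.BRB0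
open Cfsg.Agent.Lib.BRNum Cfsg.Agent.Lib.BRDeg Cfsg.Agent.Lib.BRCore
open scoped ComplexConjugate

universe u

variable {G : Type u} [Group G] [Fintype G] {p : ℕ} [hp : Fact p.Prime] {P N C : Subgroup G}
  {D : Loc p P N C} [Fintype C]

/-- characters whose multiplicity differences vanish are zero on the `p`-singular elements, if `C = P` -/
theorem vanish (hinj : ∀ c : C, D.l c = 0 → c = 1) {χ : G → ℂ}
    (hdm : ∀ i : (ZMod p)ˣ, dm D χ (triv C) i = 0) {c : C} (hc : D.l c ≠ 0) : χ c = 0 := by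
  classical
  have hinj' : ∀ a b : C, D.l a = D.l b → a = b := by
    intro a b h
    have h1 : D.l (a * b⁻¹) = 0 := by
      have h2 := D.l_mul (a * b⁻¹) b
      rw [inv_mul_cancel_right] at h2
      rw [h] at h2
      simpa using h2
    exact mul_inv_eq_one.1 (hinj _ h1)
  have hmu : ∀ i : ZMod p, mu D χ (triv C) i = mu D χ (triv C) 0 := by
    intro i
    by_cases hi : i = 0
    · rw [hi]
    · have := hdm (Units.mk0 i hi)
      exact sub_eq_zero.1 this
  have h1 : ∑ i : ZMod p, mu D χ (triv C) i * lam D i c = 0 := by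
    rw [Finset.sum_congr rfl (fun i _ => by rw [hmu i]), ← Finset.mul_sum, sum_lam, if_neg hc, mul_zero]
  have hC0 : (Nat.card C : ℂ) ≠ 0 := by exact_mod_cast Nat.card_pos.ne'
  have h2 : ∀ i : ZMod p, mu D χ (triv C) i * lam D i c =
      (Nat.card C : ℂ)⁻¹ * ∑ d : C, χ d * (conj (lam D i d) * lam D i c) := by
    intro i
    rw [mu, classInner_def, mul_assoc, Finset.sum_mul]
    congr 1
    refine Finset.sum_congr rfl fun d _ => ?_
    rw [LT_apply, coe_triv]
    change χ d * conj (1 * lam D i d) * lam D i c = _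
    rw [one_mul, mul_assoc]
  rw [Finset.sum_congr rfl (fun i _ => h2 i), ← Finset.mul_sum, Finset.sum_comm] at h1
  have h3 : ∀ d : C, ∑ i : ZMod p, χ d * (conj (lam D i d) * lam D i c) = if d = c then (p : ℂ) * χ c else 0 := by
    intro d
    have h4 : ∀ i : ZMod p, conj (lam D i d) * lam D i c = lam D i (c * d⁻¹) := by
      intro i
      have h5 : lam D i d * conj (lam D i d) = 1 := by
        rw [conj_lam, lam, lam, ← AddChar.map_add_eq_mul, neg_mul, add_neg_cancel, AddChar.map_zero_eq_one]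
      have h6 : lam D i d * lam D i d⁻¹ = 1 := by rw [← lam_mul, mul_inv_cancel, lam_one]
      have h7 : conj (lam D i d) = lam D i d⁻¹ := by
        have h8 : lam D i d ≠ 0 := left_ne_zero_of_mul_eq_one h6
        exact mul_left_cancel₀ h8 (h5.trans h6.symm)
      rw [h7, lam_mul, mul_comm]
    rw [← Finset.mul_sum, Finset.sum_congr rfl (fun i _ => h4 i), sum_lam]
    by_cases hd : d = c
    · rw [if_pos hd, if_pos, hd, mul_comm]
      rw [hd, mul_inv_cancel]; exact l_one D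
    · rw [if_neg hd, if_neg, mul_zero]
      intro h
      exact hd (mul_inv_eq_one.1 (hinj _ h)).symm
  rw [Finset.sum_congr rfl (fun d _ => h3 d), Finset.sum_ite_eq' Finset.univ c, if_pos (Finset.mem_univ _)] at h1
  have hp0 : (p : ℂ) ≠ 0 := by exact_mod_cast hp.out.ne_zero
  have := mul_eq_zero.1 h1
  rcases this with h | h
  · exact absurd h (inv_ne_zero hC0)
  · exact (mul_eq_zero.1 h).resolve_left hp0

/-- two functions of characters agree if the characters agree on `p`-regular elements -/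
def RegFun (p : ℕ) (f : IrrCharacter G → ℂ) : Prop :=
  ∀ χ χ' : IrrCharacter G, (∀ g : G, ¬ p ∣ orderOf g → (χ : G → ℂ) g = (χ' : G → ℂ) g) → f χ = f χ'

/-- the exceptional characters agree on `p`-regular elements -/
theorem Y_eq (B : B0 D) (q q' : Tau D) (g : G) (hg : ¬ p ∣ orderOf g) :
    (B.Y q : G → ℂ) g = (B.Y q' : G → ℂ) g := by
  have h1 := (B.rel q g hg).trans (B.rel q' g hg).symm
  apply mul_left_cancel₀ _ h1
  rcases B.s_pm with h | h <;> rw [h] <;> norm_num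

/-- sum of the exceptional characters over `p`-singular elements -/
theorem sum_Y (B : B0 D) [Fintype (Tau D)] {c : C} (hc : D.l c ≠ 0) :
    ∑ q : Tau D, (B.Y q : G → ℂ) c = - B.s := by
  classical
  rw [Finset.sum_congr rfl (fun q _ => B.valY q c hc), ← Finset.mul_sum, Finset.sum_comm]
  have h1 : ∀ i : (ZMod p)ˣ, ∑ q : Tau D, (if (i : Tau D) = q then lam D (i : ZMod p) c else 0) = lam D (i : ZMod p) c := by
    intro i
    rw [Finset.sum_ite_eq, if_pos (Finset.mem_univ _)]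
  rw [Finset.sum_congr rfl (fun i _ => h1 i), sum_units_lam D hc]
  ring

theorem B0.col (B : B0 D) (hinj : ∀ c : C, D.l c = 0 → c = 1) {f : IrrCharacter G → ℂ} (hf : RegFun p f)
    (q : Tau D) {c : C} (hc : D.l c ≠ 0) :
    ∑ χ : IrrCharacter G, f χ * conj ((χ : G → ℂ) c) = ∑ χ ∈ B.X, (B.δ χ : ℂ) * f χ - B.s * f (B.Y q) := by
  classical
  letI : Fintype (Tau D) := Fintype.ofFinite _
  rw [← Finset.sum_subset (Finset.subset_univ (B.X ∪ Finset.univ.image B.Y))]
  · rw [Finset.sum_union, Finset.sum_image (fun a _ b _ h => B.Yinj h)]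
    · have h1 : ∑ χ ∈ B.X, f χ * conj ((χ : G → ℂ) c) = ∑ χ ∈ B.X, (B.δ χ : ℂ) * f χ := by
        refine Finset.sum_congr rfl fun χ hχ => ?_
        rw [B.valX χ hχ c hc, map_intCast, mul_comm]
      have h2 : ∑ q' : Tau D, f (B.Y q') * conj ((B.Y q' : G → ℂ) c) = - B.s * f (B.Y q) := by
        have h3 : ∀ q' : Tau D, f (B.Y q') * conj ((B.Y q' : G → ℂ) c) = f (B.Y q) * conj ((B.Y q' : G → ℂ) c) := by
          intro q'
          rw [hf _ _ (fun g hg => Y_eq B q' q g hg)]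
        rw [Finset.sum_congr rfl (fun q' _ => h3 q'), ← Finset.mul_sum, ← map_sum, sum_Y B hc, map_neg,
          map_intCast]
        ring
      rw [h1, h2]; ring
    · rw [Finset.disjoint_left]
      rintro χ h1 h2
      obtain ⟨q', -, rfl⟩ := Finset.mem_image.1 h2
      exact B.disj q' h1
  · intro χ _ hχ
    rw [Finset.mem_union, not_or] at hχ
    have h1 : (χ : G → ℂ) c = 0 := by
      apply vanish (D := D) hinj _ hc
      intro i
      apply B.dmO χ hχ.1
      rintro q' rfl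
      exact hχ.2 (Finset.mem_image.2 ⟨q', Finset.mem_univ _, rfl⟩)
    rw [h1, map_zero, mul_zero]

/-- Uniform data: nontrivial characters `X` with `χ(1) ≡ σ χ (mod p)`, and one more character `η`. -/
structure PB (D : Loc p P N C) where
  X : Finset (IrrCharacter G)
  η : IrrCharacter G
  σ : IrrCharacter G → ℤ
  hX : triv G ∉ X
  hη : η ≠ triv G
  hηX : η ∉ X
  cardX : X.card + 1 = Nat.card (κu D).range
  pm : ∀ χ, σ χ = 1 ∨ σ χ = -1
  deg : ∀ χ ∈ X, ∃ k : ℤ, (charDegree (χ : G → ℂ) : ℤ) = k * p + σ χ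
  dvd : ∀ χ, χ ∈ X ∨ χ = η → charDegree (χ : G → ℂ) ∣ C.index
  rel : ∀ g : G, ¬ p ∣ orderOf g → 1 + ∑ χ ∈ X, (σ χ : ℂ) * (χ : G → ℂ) g + σ η * (η : G → ℂ) g = 0
  val : ∀ χ ∈ X, ∀ c : C, D.l c ≠ 0 → (χ : G → ℂ) c = σ χ
  cst : ∀ χ, χ ∈ X ∨ χ = η → ∀ c d : C, D.l c ≠ 0 → D.l c = D.l d → (χ : G → ℂ) c = (χ : G → ℂ) d
  sq : 1 + ∑ χ ∈ X, charDegree (χ : G → ℂ) ^ 2 + Nat.card (Tau D) * charDegree (η : G → ℂ) ^ 2 ≤ Nat.card G
  col : (∀ c : C, D.l c = 0 → c = 1) → ∀ f : IrrCharacter G → ℂ, RegFun p f → ∀ c : C, D.l c ≠ 0 →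
    ∑ χ : IrrCharacter G, f χ * conj ((χ : G → ℂ) c) = f (triv G) + ∑ χ ∈ X, (σ χ : ℂ) * f χ + σ η * f η

theorem Y_cst (B : B0 D) (q : Tau D) (c d : C) (hc : D.l c ≠ 0) (h : D.l c = D.l d) :
    (B.Y q : G → ℂ) c = (B.Y q : G → ℂ) d := by
  classical
  rw [B.valY q c hc, B.valY q d (by rw [← h]; exact hc)]
  simp only [lam, h]

theorem sum_deg_sq (B : B0 D) (q : Tau D) :
    ∑ χ ∈ B.X, charDegree (χ : G → ℂ) ^ 2 + Nat.card (Tau D) * charDegree (B.Y q : G → ℂ) ^ 2 ≤ Nat.card G := by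
  classical
  letI : Fintype (Tau D) := Fintype.ofFinite _
  rw [← Codegree.sum_charDegree_sq (G := G)]
  have h1 : ∑ χ ∈ B.X ∪ Finset.univ.image B.Y, charDegree (χ : G → ℂ) ^ 2 ≤
      ∑ χ : IrrCharacter G, charDegree (χ : G → ℂ) ^ 2 := Finset.sum_le_sum_of_subset (Finset.subset_univ _)
  refine le_trans (le_of_eq ?_) h1
  rw [Finset.sum_union, Finset.sum_image (fun a _ b _ h => B.Yinj h)]
  · congr 1
    have h2 : ∀ q' : Tau D, charDegree (B.Y q' : G → ℂ) ^ 2 = charDegree (B.Y q : G → ℂ) ^ 2 := by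
      intro q'
      have h3 := Y_eq B q' q 1 (by rw [orderOf_one]; exact hp.out.one_lt.ne' ∘ Nat.dvd_one.1)
      rw [← BlockDeg.charDegree_cast_irr, ← BlockDeg.charDegree_cast_irr] at h3
      have h4 : charDegree (B.Y q' : G → ℂ) = charDegree (B.Y q : G → ℂ) := by exact_mod_cast h3
      rw [h4]
    rw [Finset.sum_congr rfl (fun q' _ => h2 q'), Finset.sum_const, Finset.card_univ, smul_eq_mul,
      Nat.card_eq_fintype_card]
  · rw [Finset.disjoint_left]
    rintro χ h1 h2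
    obtain ⟨q', -, rfl⟩ := Finset.mem_image.1 h2
    exact B.disj q' h1

/-- two or more exceptional characters -/
theorem exists_PB_two (B : B0 D) (ht : 1 < Nat.card (Tau D)) : Nonempty (PB D) := by
  classical
  obtain ⟨q⟩ : Nonempty (Tau D) := inferInstance
  obtain ⟨h1, h2⟩ := triv_mem_X B ht
  let σ : IrrCharacter G → ℤ := fun χ => if χ = B.Y q then -B.s else if χ ∈ B.X then B.δ χ else 1
  have hσX : ∀ χ ∈ B.X, σ χ = B.δ χ := fun χ hχ => by
    simp only [σ]
    rw [if_neg (fun (h : χ = B.Y q) => B.disj q (h ▸ hχ)), if_pos hχ]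
  have hσY : σ (B.Y q) = - B.s := by simp only [σ]; rw [if_pos trivial]
  have hsum : ∀ f : IrrCharacter G → ℂ, ∑ χ ∈ B.X, (B.δ χ : ℂ) * f χ =
      f (triv G) + ∑ χ ∈ B.X.erase (triv G), (σ χ : ℂ) * f χ := by
    intro f
    rw [← Finset.add_sum_erase B.X _ h1, h2, Int.cast_one, one_mul]
    congr 1
    exact Finset.sum_congr rfl fun χ hχ => by rw [hσX χ (Finset.mem_of_mem_erase hχ)]
  refine ⟨⟨B.X.erase (triv G), B.Y q, σ, Finset.notMem_erase _ _, ?_, ?_, ?_, ?_, ?_, ?_, ?_, ?_, ?_, ?_, ?_⟩⟩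
  · intro h; exact B.disj q (h ▸ h1)
  · intro h; exact B.disj q (Finset.mem_of_mem_erase h)
  · rw [Finset.card_erase_add_one h1, B.cardX]
  · intro χ
    simp only [σ]
    split_ifs with h3 h4
    · rcases B.s_pm with h | h <;> rw [h] <;> simp
    · exact B.δ_pm χ h4
    · exact Or.inl rfl
  · intro χ hχ
    rw [hσX χ (Finset.mem_of_mem_erase hχ)]
    exact B.degX χ (Finset.mem_of_mem_erase hχ)
  · rintro χ (hχ | rfl)
    · exact BRDeg.B0.dvdX B (Finset.mem_of_mem_erase hχ)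
    · exact BRDeg.B0.dvdY B q
  · intro g hg
    have h3 := B.rel q g hg
    rw [hsum (fun χ => (χ : G → ℂ) g)] at h3
    have h4 : ((triv G : IrrCharacter G) : G → ℂ) g = 1 := rfl
    rw [h4] at h3
    rw [hσY]; push_cast
    linear_combination -h3
  · intro χ hχ c hc
    rw [hσX χ (Finset.mem_of_mem_erase hχ)]
    exact B.valX χ (Finset.mem_of_mem_erase hχ) c hc
  · rintro χ (hχ | rfl) c d hc hcd
    · rw [B.valX χ (Finset.mem_of_mem_erase hχ) c hc, B.valX χ (Finset.mem_of_mem_erase hχ) d (by rw [← hcd]; exact hc)]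
    · exact Y_cst B q c d hc hcd
  · refine le_trans (le_of_eq ?_) (sum_deg_sq B q)
    rw [← Finset.add_sum_erase B.X _ h1, deg_triv, one_pow]
  · intro hinj f hf c hc
    rw [B0.col B hinj hf q hc, hsum, hσY]; push_cast; ring

/-- one exceptional character -/
theorem exists_PB_one (B : B0 D) (ht : Nat.card (Tau D) = 1) : Nonempty (PB D) := by
  classical
  obtain ⟨q⟩ : Nonempty (Tau D) := inferInstance
  have hsub : Subsingleton (Tau D) := Finite.card_le_one_iff_subsingleton.1 ht.le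
  have hall : ∀ i : (ZMod p)ˣ, (i : Tau D) = q := fun i => Subsingleton.elim _ _
  let σ : IrrCharacter G → ℤ := fun χ => if χ = B.Y q then -B.s else if χ ∈ B.X then B.δ χ else 1
  have hσX : ∀ χ ∈ B.X, σ χ = B.δ χ := fun χ hχ => by
    simp only [σ]
    rw [if_neg (fun (h : χ = B.Y q) => B.disj q (h ▸ hχ)), if_pos hχ]
  have hσY : σ (B.Y q) = - B.s := by simp only [σ]; rw [if_pos trivial]
  -- values on singular elements
  set W : Finset (IrrCharacter G) := insert (B.Y q) B.X with hW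
  have hval : ∀ χ ∈ W, ∀ c : C, D.l c ≠ 0 → (χ : G → ℂ) c = σ χ := by
    intro χ hχ c hc
    rcases Finset.mem_insert.1 hχ with rfl | hχ
    · rw [B.valY q c hc, hσY]
      have h1 : ∑ i : (ZMod p)ˣ, (if (i : Tau D) = q then lam D (i : ZMod p) c else 0) = -1 := by
        rw [← sum_units_lam D hc]
        exact Finset.sum_congr rfl fun i _ => if_pos (hall i)
      rw [h1]; push_cast; ring
    · rw [B.valX χ hχ c hc, hσX χ hχ]
  have hdeg : ∀ χ ∈ W, ∃ k : ℤ, (charDegree (χ : G → ℂ) : ℤ) = k * p + σ χ := by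
    intro χ hχ
    rcases Finset.mem_insert.1 hχ with rfl | hχ
    · obtain ⟨k, hk⟩ := B.degY q
      have h1 := p_eq D
      rw [ht, mul_one] at h1
      refine ⟨k + B.s, ?_⟩
      have h2 : (Nat.card (κu D).range : ℤ) = p - 1 := by
        have : (p : ℤ) = Nat.card (κu D).range + 1 := by exact_mod_cast h1
        linarith
      rw [hk, hσY, h2]; ring
    · rw [hσX χ hχ]; exact B.degX χ hχ
  have hdvd : ∀ χ ∈ W, charDegree (χ : G → ℂ) ∣ C.index := by
    intro χ hχ
    rcases Finset.mem_insert.1 hχ with rfl | hχ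
    · exact BRDeg.B0.dvdY B q
    · exact BRDeg.B0.dvdX B hχ
  have htriv : triv G ∈ W ∧ σ (triv G) = 1 := by
    have h3 : triv G ∈ W := by
      by_contra h3
      rw [hW, Finset.mem_insert, not_or] at h3
      have h4 := B.dmO _ h3.2 (fun q' => by rw [Subsingleton.elim q' q]; exact h3.1) 1
      rw [dm_triv] at h4
      norm_num at h4
    refine ⟨h3, ?_⟩
    have h5 : D.l ⟨D.u, D.PC D.uP⟩ ≠ 0 := by rw [D.l_u]; exact one_ne_zero
    have h4 := hval _ h3 ⟨D.u, D.PC D.uP⟩ h5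
    have h6 : ((triv G : IrrCharacter G) : G → ℂ) (⟨D.u, D.PC D.uP⟩ : C) = 1 := rfl
    rw [h6] at h4
    exact_mod_cast h4.symm
  have hcW : W.card = Nat.card (κu D).range + 1 := by
    rw [hW, Finset.card_insert_of_notMem (B.disj q), B.cardX]
  have he : 0 < Nat.card (κu D).range := Nat.card_pos
  have hWsum : ∀ f : IrrCharacter G → ℂ, ∑ χ ∈ B.X, (B.δ χ : ℂ) * f χ - B.s * f (B.Y q) = ∑ χ ∈ W, (σ χ : ℂ) * f χ := by
    intro f
    rw [hW, Finset.sum_insert (B.disj q), hσY, Finset.sum_congr rfl (fun χ hχ => by rw [← hσX χ hχ])]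
    push_cast; ring
  have hrel : ∀ g : G, ¬ p ∣ orderOf g → ∑ χ ∈ W, (σ χ : ℂ) * (χ : G → ℂ) g = 0 := by
    intro g hg
    rw [← hWsum, ← B.rel q g hg, sub_self]
  -- choose `η`
  obtain ⟨η, hηW⟩ : (W.erase (triv G)).Nonempty := by
    rw [← Finset.card_pos, Finset.card_erase_of_mem htriv.1, hcW]; omega
  have hη1 := (Finset.mem_erase.1 hηW).1
  have hη2 := (Finset.mem_erase.1 hηW).2
  set X := (W.erase (triv G)).erase η with hXdef
  have hXW : ∀ χ ∈ X, χ ∈ W := fun χ hχ => Finset.mem_of_mem_erase (Finset.mem_of_mem_erase hχ)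
  have hsum : ∀ f : IrrCharacter G → ℂ, ∑ χ ∈ W, (σ χ : ℂ) * f χ =
      f (triv G) + ∑ χ ∈ X, (σ χ : ℂ) * f χ + σ η * f η := by
    intro f
    rw [← Finset.add_sum_erase W _ htriv.1, ← Finset.add_sum_erase (W.erase (triv G)) _ hηW, htriv.2,
      Int.cast_one, one_mul]
    ring
  refine ⟨⟨X, η, σ, ?_, hη1, Finset.notMem_erase _ _, ?_, ?_, fun χ hχ => hdeg χ (hXW χ hχ), ?_, ?_,
    fun χ hχ => hval χ (hXW χ hχ), ?_, ?_, ?_⟩⟩
  · intro h
    exact (Finset.notMem_erase (triv G) W) (Finset.mem_of_mem_erase h)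
  · rw [Finset.card_erase_of_mem hηW, Finset.card_erase_of_mem htriv.1, hcW]; omega
  · intro χ
    simp only [σ]
    split_ifs with h3 h4
    · rcases B.s_pm with h | h <;> rw [h] <;> simp
    · exact B.δ_pm χ h4
    · exact Or.inl rfl
  · rintro χ (hχ | rfl)
    · exact hdvd χ (hXW χ hχ)
    · exact hdvd _ hη2
  · intro g hg
    have h3 := hrel g hg
    rw [hsum (fun χ => (χ : G → ℂ) g)] at h3
    exact h3
  · rintro χ (hχ | rfl) c d hc hcd
    · rw [hval χ (hXW χ hχ) c hc, hval χ (hXW χ hχ) d (by rw [← hcd]; exact hc)]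
    · rw [hval _ hη2 c hc, hval _ hη2 d (by rw [← hcd]; exact hc)]
  · refine le_trans (le_of_eq ?_) (sum_deg_sq B q)
    rw [ht, one_mul, one_mul]
    have h3 : ∑ χ ∈ W, charDegree (χ : G → ℂ) ^ 2 = charDegree (B.Y q : G → ℂ) ^ 2 + ∑ χ ∈ B.X, charDegree (χ : G → ℂ) ^ 2 := by
      rw [hW, Finset.sum_insert (B.disj q)]
    rw [← Finset.add_sum_erase W _ htriv.1, ← Finset.add_sum_erase (W.erase (triv G)) _ hηW, deg_triv, one_pow] at h3
    rw [← hXdef] at h3
    omega
  · intro hinj f hf c hc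
    rw [B0.col B hinj hf q hc, hWsum, hsum]

theorem exists_PB (Q : Sylow p G) (hQ : Nat.card Q = p) :
    ∃ (D : Loc p (Q : Subgroup G) (Subgroup.normalizer ((Q : Subgroup G) : Set G))
      (Subgroup.centralizer ((Q : Subgroup G) : Set G)))
      (hC : Fintype (Subgroup.centralizer ((Q : Subgroup G) : Set G))), Nonempty (PB D) := by
  obtain ⟨D, hC, ⟨B⟩⟩ := exists_B0 Q hQ
  refine ⟨D, hC, ?_⟩
  rcases Nat.lt_or_ge 1 (Nat.card (Tau D)) with h | h
  · exact exists_PB_two B h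
  · have h0 : 0 < Nat.card (Tau D) := Nat.card_pos
    exact exists_PB_one B (by omega)

end Cfsg.Agent.Lib.PBData
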