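import Mathlib
import Cfsg.Agent.Lib.DetChar

/-!
# Eigenvalues of a group element in a character (helper54)
-/

set_option autoImplicit false
set_option linter.all false

namespace Cfsg.Agent.Lib.CharSpec54

open Cfsg Cfsg.Agent.Lib.CharBasic Cfsg.Agent.Lib.DetChar Subgroup
open scoped ComplexConjugate

universe u

variable {G : Type u} [Group G]

theorem comm_zpowers (y : G) (a b : zpowers y) : a * b = b * a := by
  obtain ⟨i, hi⟩ := a.2
  obtain ⟨j, hj⟩ := b.2
  apply Subtype.ext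
  rw [Subgroup.coe_mul, Subgroup.coe_mul, ← hi, ← hj]
  change y ^ i * y ^ j = y ^ j * y ^ i
  rw [← zpow_add, ← zpow_add, add_comm]

theorem irr_one_of_zpowers [Finite G] (y : G) (ψ : IrrCharacter (zpowers y)) : (ψ : zpowers y → ℂ) 1 = 1 :=
  ψ.2.one_eq_one_of_comm (comm_zpowers y)

theorem detChar_zero [Finite G] (g : G) : detChar (0 : G → ℂ) g = 1 := by
  obtain ⟨n, ρ, hρ⟩ := isCharacter_zero (G := G)
  rw [← hρ, detChar_character]
  have h2 : n = 0 := by
    have h3 := congrFun hρ 1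
    rw [Representation.char_one] at h3
    simpa using h3
  subst h2
  have h4 : ρ g = 1 := by
    apply LinearMap.ext
    intro v
    exact Subsingleton.elim _ _
  rw [h4, map_one]

theorem detChar_linear [Finite G] {χ : G → ℂ} (hχ : IsCharacter G χ) (h1 : χ 1 = 1) (g : G) : detChar χ g = χ g := by
  obtain ⟨n, ρ, rfl⟩ := hχ
  rw [detChar_character]
  rw [Representation.char_one] at h1
  have hn : n = 1 := by simpa using h1
  subst hn
  change LinearMap.det (ρ g) = LinearMap.trace ℂ _ (ρ g)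
  rw [LinearMap.trace_eq_matrix_trace ℂ (Pi.basisFun ℂ (Fin 1)),
    ← LinearMap.det_toMatrix (Pi.basisFun ℂ (Fin 1)), Matrix.det_fin_one, Matrix.trace_fin_one]

theorem detChar_sum [Finite G] (hlin : ∀ ψ : IrrCharacter G, (ψ : G → ℂ) 1 = 1) (M : Multiset (IrrCharacter G)) (g : G) :
    detChar (M.map (fun ψ : IrrCharacter G => (ψ : G → ℂ))).sum g =
      (M.map (fun ψ : IrrCharacter G => (ψ : G → ℂ) g)).prod ∧
      IsCharacter G (M.map (fun ψ : IrrCharacter G => (ψ : G → ℂ))).sum := by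
  induction M using Multiset.induction_on with
  | empty =>
    refine ⟨?_, ?_⟩
    · rw [Multiset.map_zero, Multiset.sum_zero, Multiset.map_zero, Multiset.prod_zero, detChar_zero]
    · rw [Multiset.map_zero, Multiset.sum_zero]; exact isCharacter_zero
  | cons ψ M ih =>
    obtain ⟨ih1, ih2⟩ := ih
    rw [Multiset.map_cons, Multiset.sum_cons, Multiset.map_cons, Multiset.prod_cons]
    refine ⟨?_, ψ.2.isCharacter.add ih2⟩
    rw [detChar_add ψ.2.isCharacter ih2, ih1, detChar_linear ψ.2.isCharacter (hlin ψ)]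

theorem sum_apply' {ι : Type*} (M : Multiset ι) (f : ι → G → ℂ) (g : G) :
    (M.map f).sum g = (M.map (fun i => f i g)).sum := by
  induction M using Multiset.induction_on with
  | empty => simp
  | cons a M ih => rw [Multiset.map_cons, Multiset.sum_cons, Multiset.map_cons, Multiset.sum_cons, Pi.add_apply, ih]

theorem exists_multiset' [Finite G] {χ : G → ℂ} (hχ : IsCharacter G χ) :
    ∃ M : Multiset (IrrCharacter G), χ = (M.map (fun ψ : IrrCharacter G => (ψ : G → ℂ))).sum := by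
  obtain ⟨M, hM⟩ := hχ.exists_multiset
  refine ⟨M, hM.trans ?_⟩
  congr 1
  rw [Multiset.map_id']
  exact Multiset.bind_singleton M _

/-- The multiset of linear constituents of the restriction to a cyclic subgroup. -/
theorem exists_lin [Finite G] {χ : G → ℂ} (hχ : IsCharacter G χ) (y : G) :
    ∃ M : Multiset (IrrCharacter (zpowers y)),
      (fun z : zpowers y => χ z) = (M.map (fun ψ : IrrCharacter (zpowers y) => (ψ : zpowers y → ℂ))).sum ∧
      (M.card : ℂ) = χ 1 ∧
      detChar χ y = (M.map (fun ψ : IrrCharacter (zpowers y) => (ψ : zpowers y → ℂ) ⟨y, mem_zpowers y⟩)).prod := by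
  obtain ⟨M, hM⟩ := exists_multiset' (hχ.restrict (zpowers y))
  refine ⟨M, hM, ?_, ?_⟩
  · have h1 := congrFun hM 1
    rw [sum_apply'] at h1
    rw [Multiset.map_congr rfl (fun ψ _ => irr_one_of_zpowers y ψ), Multiset.map_const', Multiset.sum_replicate,
      nsmul_eq_mul, mul_one] at h1
    exact h1.symm
  · have h1 := detChar_restrict hχ (zpowers y) ⟨y, mem_zpowers y⟩
    rw [← h1, hM]
    exact (detChar_sum (irr_one_of_zpowers y) M _).1

/-- The eigenvalues of an element. -/
theorem spectrum [Finite G] {χ : G → ℂ} (hχ : IsCharacter G χ) (y : G) :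
    ∃ E : Multiset ℂ, (∀ k : ℕ, χ (y ^ k) = (E.map (fun μ => μ ^ k)).sum) ∧ (∀ μ ∈ E, μ ^ orderOf y = 1) ∧
      (E.card : ℂ) = χ 1 ∧ detChar χ y = E.prod := by
  obtain ⟨M, hM, hc, hd⟩ := exists_lin hχ y
  have hpow : ∀ (ψ : IrrCharacter (zpowers y)) (k : ℕ), (ψ : zpowers y → ℂ) (⟨y, mem_zpowers y⟩ ^ k) =
      ((ψ : zpowers y → ℂ) ⟨y, mem_zpowers y⟩) ^ k := by
    intro ψ k
    obtain ⟨f, hf⟩ := ψ.2.isCharacter.exists_hom (irr_one_of_zpowers y ψ)
    rw [hf, hf, map_pow, Units.val_pow_eq_pow_val]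
  refine ⟨M.map (fun ψ : IrrCharacter (zpowers y) => (ψ : zpowers y → ℂ) ⟨y, mem_zpowers y⟩), ?_, ?_, ?_, hd⟩
  · intro k
    have h1 := congrFun hM (⟨y, mem_zpowers y⟩ ^ k)
    rw [sum_apply'] at h1
    rw [Multiset.map_map]
    have h2 : χ (y ^ k) = (M.map (fun ψ : IrrCharacter (zpowers y) => (ψ : zpowers y → ℂ) (⟨y, mem_zpowers y⟩ ^ k))).sum := h1
    rw [h2]
    congr 1
    exact Multiset.map_congr rfl fun ψ _ => hpow ψ k
  · intro μ hμ
    obtain ⟨ψ, -, rfl⟩ := Multiset.mem_map.1 hμ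
    rw [← hpow]
    have h1 : (⟨y, mem_zpowers y⟩ : zpowers y) ^ orderOf y = 1 := Subtype.ext (pow_orderOf_eq_one y)
    rw [h1, irr_one_of_zpowers]
  · rw [Multiset.card_map, hc]

theorem detChar_eq_one [Finite G] (hG : commutator G = ⊤) {χ : G → ℂ} (hχ : IsCharacter G χ) (g : G) :
    detChar χ g = 1 := by
  obtain ⟨δ, hδ⟩ := exists_detHom hχ
  rw [hδ]
  have h1 : δ g = 1 := by
    have h2 : commutator G ≤ δ.ker := Abelianization.commutator_subset_ker δ
    rw [hG] at h2
    exact h2 (Subgroup.mem_top g)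
  rw [h1, Units.val_one]

end Cfsg.Agent.Lib.CharSpec54
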