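import Mathlib
import Cfsg.Prelude.Def_Characters
import Cfsg.Prelude.Def_Blocks
import Cfsg.Agent.Lib.CharBasic
import Cfsg.Agent.Lib.CharBasic2
import Cfsg.Agent.Lib.CharCentral
import Cfsg.Agent.Lib.BlockOrth
import Cfsg.Agent.Lib.Burnside
import Cfsg.Agent.Lib.H76Char
import Cfsg.Agent.Lib.DefectZeroVanish

set_option autoImplicit false

/-!
# Simple groups of order `p^a q^b r` (helper15)
-/

namespace Cfsg.Agent.Lib.SimplePQR

open scoped ComplexConjugate
open CharBasic

universe u

variable {G : Type u} [Group G]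

/-- In a simple group with trivial centre, an irreducible nonprincipal character vanishes at each
nontrivial element whose class size is prime to its degree. -/
theorem eq_zero_of_coprime [Finite G] [IsSimpleGroup G] (hZ : Subgroup.center G = ⊥) {χ : G → ℂ}
    (hχ : IsIrrCharacter G χ) (hne : χ ≠ 1) {n : ℕ} (hn : χ 1 = n) {g : G} (hg : g ≠ 1)
    (hcop : Nat.Coprime n (Subgroup.centralizer ({g} : Set G)).index) : χ g = 0 := by
  obtain ⟨m, ρ, hρ, rfl⟩ := hχ
  have hm : Module.finrank ℂ (Fin m → ℂ) = n := by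
    rw [Representation.char_one] at hn
    exact_mod_cast hn
  rw [← hm] at hcop
  refine (CharCentral.zero_or_norm_eq_of_coprime ρ g hcop).resolve_right ?_
  intro h1
  obtain ⟨ω, hω⟩ := (CharValues.norm_character_eq_iff ρ g).mp h1
  have hker : MonoidHom.ker ρ = ⊥ := by
    rcases IsSimpleGroup.eq_bot_or_eq_top_of_normal (MonoidHom.ker ρ) inferInstance with h | h
    · exact h
    · exfalso
      apply hne
      apply Burnside.character_eq_one_of_trivial ρ
      intro x
      have : x ∈ MonoidHom.ker ρ := by rw [h]; exact Subgroup.mem_top x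
      exact this
  have hcent : g ∉ Subgroup.center G := by
    rw [hZ]; exact fun h => hg (Subgroup.mem_bot.mp h)
  apply hcent
  rw [Subgroup.mem_center_iff]
  intro x
  have hinj : Function.Injective ρ := (MonoidHom.ker_eq_bot_iff ρ).mp hker
  apply hinj
  rw [map_mul, map_mul, hω]
  ext v
  simp

/-- A nontrivial `p`-element whose class size is prime to `p`. -/
theorem exists_central_pElement [Finite G] {p : ℕ} [hp : Fact p.Prime] (hdvd : p ∣ Nat.card G) :
    ∃ z : G, z ≠ 1 ∧ Nat.Coprime p (Subgroup.centralizer ({z} : Set G)).index := by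
  obtain ⟨P⟩ : Nonempty (Sylow p G) := inferInstance
  have hnt : Nontrivial P := by
    rw [← Finite.one_lt_card_iff_nontrivial]
    obtain ⟨k, hk⟩ := IsPGroup.iff_card.mp P.2
    have h1 : Nat.card P ≠ 1 := by
      intro h
      have h2 := P.card_eq_multiplicity
      have h3 : 0 < (Nat.card G).factorization p :=
        hp.out.factorization_pos_of_dvd Nat.card_pos.ne' hdvd
      rw [h] at h2
      exact (Nat.one_lt_pow h3.ne' hp.out.one_lt).ne h2
    have := Nat.card_pos (α := P)
    omega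
  have hc := P.2.center_nontrivial
  obtain ⟨z, hz⟩ := exists_ne (1 : Subgroup.center P)
  refine ⟨((z : P) : G), fun h => hz (Subtype.ext (Subtype.ext h)), ?_⟩
  rw [Nat.Prime.coprime_iff_not_dvd hp.out]
  intro h
  apply P.not_dvd_index
  refine h.trans (Subgroup.index_dvd_of_le ?_)
  intro x hx
  rw [Subgroup.mem_centralizer_singleton_iff]
  have h1 := Subgroup.mem_center_iff.mp z.2 ⟨x, hx⟩
  exact congrArg Subtype.val h1

/-- A nonprincipal character of the principal `p`-block of a nonabelian simple group of order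
divisible by `p` is not of `p`-power degree. -/
theorem not_pow_degree [Finite G] [IsSimpleGroup G] (hZ : Subgroup.center G = ⊥) {p : ℕ}
    [hp : Fact p.Prime] (hdvd : p ∣ Nat.card G) {M : Ideal AlgInt} (hM : IsPModular p M)
    {χ : IrrCharacter G} (hχ : χ ∈ principalBlock M G) (hne : (χ : G → ℂ) ≠ 1) (k : ℕ) :
    (χ : G → ℂ) 1 ≠ (p : ℂ) ^ k := by
  intro hdeg
  obtain ⟨z, hz, hcop⟩ := exists_central_pElement (G := G) hdvd
  have h0 : (χ : G → ℂ) z = 0 :=
    eq_zero_of_coprime hZ χ.2 hne (n := p ^ k) (by rw [hdeg]; push_cast; rfl) hz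
      (Nat.Coprime.pow_left k hcop)
  have h1 : MemLocalIdeal M (centralChar (fun _ : G => (1 : ℂ)) z - centralChar (χ : G → ℂ) z) :=
    hχ z
  have h2 : centralChar (fun _ : G => (1 : ℂ)) z - centralChar (χ : G → ℂ) z =
      ((Subgroup.centralizer ({z} : Set G)).index : ℂ) := by
    unfold centralChar
    rw [h0]; simp
  rw [h2, BlockRing.idl_natCast_iff hM] at h1
  exact (Nat.Prime.coprime_iff_not_dvd hp.out).mp hcop h1

theorem no_element [Finite G] [IsSimpleGroup G] (hZ : Subgroup.center G = ⊥) (p q r a b : ℕ)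
    (hp : p.Prime) (hq : q.Prime) (hr : r.Prime) (hpr : p ≠ r) (hqr : q ≠ r)
    (hcard : Nat.card G = p ^ a * q ^ b * r) (x s : G) (hx : orderOf x = p) (hs : orderOf s = r)
    (hxs : Commute x s) : False := by
  classical
  have := Fintype.ofFinite G
  have : Fact p.Prime := ⟨hp⟩
  obtain ⟨M, hM⟩ := H76Char.exists_isPModular p
  have hpG : p ∣ Nat.card G := hx ▸ orderOf_dvd_natCard x
  have hr2 : ¬ r ^ (1 + 1) ∣ Nat.card G := by
    intro h
    rw [hcard, pow_succ, pow_one] at h
    have h1 : r ∣ p ^ a * q ^ b := Nat.dvd_of_mul_dvd_mul_right hr.pos h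
    rcases (Nat.Prime.dvd_mul hr).mp h1 with h2 | h2
    · exact hpr.symm ((Nat.prime_dvd_prime_iff_eq hr hp).mp (hr.dvd_of_dvd_pow h2))
    · exact hqr.symm ((Nat.prime_dvd_prime_iff_eq hr hq).mp (hr.dvd_of_dvd_pow h2))
  have hord : orderOf (x * s) = p * r := by
    rw [hxs.orderOf_mul_eq_mul_orderOf_of_coprime, hx, hs]
    rw [hx, hs]; exact (Nat.coprime_primes hp hr).mpr hpr
  have horth := BlockOrth.block_orthogonality hM (B := principalBlock M G)
    ⟨⟨_, isIrrCharacter_fun_one⟩, rfl⟩ (g := x * s) (h := 1) (u := x) (v := 1)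
    ⟨s, rfl, hxs, ⟨1, by rw [hx, pow_one]⟩, by
      rw [hs]; intro h; exact hpr ((Nat.prime_dvd_prime_iff_eq hp hr).mp h)⟩
    ⟨1, by simp, Commute.refl 1, ⟨0, by simp⟩, by
      rw [orderOf_one]; exact fun h => hp.one_lt.ne' (Nat.dvd_one.mp h)⟩
    (by
      intro h
      have h1 := isConj_one_left.mp h
      rw [h1, orderOf_one] at hx
      exact hp.one_lt.ne hx)
  have hfin : (principalBlock M G).Finite := Set.toFinite _
  rw [finsum_mem_eq_finite_toFinset_sum _ hfin] at horth
  let one' : IrrCharacter G := ⟨fun _ => 1, isIrrCharacter_fun_one⟩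
  have hprime := BlockRing.isPrime hM
  have h1B : one' ∈ hfin.toFinset := by
    rw [Set.Finite.mem_toFinset]
    intro g
    rw [show centralChar (fun _ : G => (1 : ℂ)) g - centralChar (one' : G → ℂ) g = 0 from sub_self _]
    exact BlockRing.idl_zero
  rw [← Finset.add_sum_erase _ _ h1B] at horth
  have hterm : ∀ χ ∈ hfin.toFinset.erase one', ∃ w : ℂ, IsIntegral ℤ w ∧
      (χ : G → ℂ) (x * s) * (χ : G → ℂ) 1⁻¹ = q * w := by
    intro χ hχ
    rw [Finset.mem_erase, Set.Finite.mem_toFinset] at hχ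
    by_cases h0 : (χ : G → ℂ) (x * s) = 0
    · exact ⟨0, isIntegral_zero, by rw [h0]; ring⟩
    obtain ⟨d, hd0, hd⟩ := χ.2.exists_degree
    have hdG : d ∣ Nat.card G := by
      obtain ⟨n, ρ, hρ, h⟩ := χ.2
      have h1 := CharCentral.finrank_dvd_card ρ
      rw [← h, Representation.char_one] at hd
      have h2 : Module.finrank ℂ (Fin n → ℂ) = d := by exact_mod_cast hd
      rwa [h2] at h1
    have hrd : ¬ r ∣ d := by
      intro h
      apply h0
      obtain ⟨n, ρ, hρ, h'⟩ := χ.2
      rw [← h', Representation.char_one] at hd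
      have h2 : Module.finrank ℂ (Fin n → ℂ) = d := by exact_mod_cast hd
      rw [← h']
      exact DefectZeroVanish.character_eq_zero ρ r 1 hr hr2 (by rw [pow_one, h2]; exact h) (x * s)
        (by rw [hord]; exact dvd_mul_left _ _)
    by_cases hqd : q ∣ d
    · obtain ⟨e, rfl⟩ := hqd
      refine ⟨(χ : G → ℂ) (x * s) * e, ?_, ?_⟩
      · exact (H76Char.isIntegral_of_isCharacter χ.2.isCharacter _).mul
          (DefectZeroVanish.isIntegral_nat e)
      · rw [inv_one, hd]; push_cast; ring
    · exfalso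
      rw [hcard] at hdG
      have h1 : d ∣ p ^ a * q ^ b :=
        (Nat.Coprime.dvd_of_dvd_mul_right ((Nat.Prime.coprime_iff_not_dvd hr).mpr hrd).symm hdG)
      have h2 : d ∣ p ^ a := Nat.Coprime.dvd_of_dvd_mul_right
        (Nat.Coprime.pow_right b ((Nat.Prime.coprime_iff_not_dvd hq).mpr hqd).symm) h1
      obtain ⟨k, -, hk⟩ := (Nat.dvd_prime_pow hp).mp h2
      refine not_pow_degree hZ hpG hM hχ.2 (fun h => hχ.1 (Subtype.ext h)) k ?_
      rw [hd, hk]; push_cast; rfl
  choose! w hw1 hw2 using hterm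
  rw [Finset.sum_congr rfl hw2, ← Finset.mul_sum] at horth
  have hW : IsIntegral ℤ (∑ χ ∈ hfin.toFinset.erase one', w χ) := IsIntegral.sum _ hw1
  have h2 : (one' : G → ℂ) (x * s) * (one' : G → ℂ) 1⁻¹ = 1 := one_mul 1
  rw [h2] at horth
  have hq0 : (q : ℂ) ≠ 0 := by exact_mod_cast hq.ne_zero
  obtain ⟨m, hm⟩ := CharCentral.exists_int_of_isIntegral_rat hW (-(1 : ℚ) / q) (by
    push_cast; field_simp; linear_combination horth)
  rw [hm] at horth
  have h3 : (1 : ℤ) = q * (-m) := by
    have : (1 : ℂ) = q * (-m) := by linear_combination horth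
    exact_mod_cast this
  have h4 : (q : ℤ) ∣ 1 := ⟨-m, h3⟩
  have h5 : q ∣ 1 := by exact_mod_cast h4
  exact hq.one_lt.ne' (Nat.dvd_one.mp h5)

end Cfsg.Agent.Lib.SimplePQR
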