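import Cfsg.Agent.Lib.TwoDeg

/-!
# Taketa's argument
-/

set_option autoImplicit false
set_option linter.all false

namespace Cfsg.Agent.Lib.Taketa

open Cfsg Subgroup Module Cfsg.Agent.Lib Cfsg.Agent.Lib.CharBasic Cfsg.Agent.Lib.Clifford
  Cfsg.Agent.Lib.CliffordCorr
open scoped ComplexConjugate Pointwise commutatorElement

universe u

variable {G : Type u} [Group G]

/-- an element in the kernel of the permutation character -/
theorem conj_mem_of_perm [Fintype G] (H : Subgroup G) {x : G}
    (hx : indFun H (1 : H → ℂ) x = indFun H (1 : H → ℂ) 1) (g : G) : g⁻¹ * x * g ∈ H := by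
  classical
  have h3 : ∀ g : G, extendByZero H (1 : H → ℂ) (g⁻¹ * x * g) = if g⁻¹ * x * g ∈ H then 1 else 0 := by
    intro g
    split_ifs with h
    · rw [IndFun.extendByZero_mem H _ h]; rfl
    · rw [IndFun.extendByZero_not_mem H _ h]
  rw [IndFun.indFun_one, IndFun.indFun_apply] at hx
  simp only [h3, Pi.one_apply, mul_one] at hx
  rw [← Finset.sum_filter, Finset.sum_const, nsmul_eq_mul, mul_one,
    inv_mul_eq_iff_eq_mul₀ (by exact_mod_cast Nat.card_pos.ne')] at hx
  have h5 : (Finset.univ.filter (fun g : G => g⁻¹ * x * g ∈ H)).card = Fintype.card G := by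
    have := H.card_mul_index
    rw [Nat.card_eq_fintype_card (α := G)] at this
    rw [← this]
    exact_mod_cast hx
  rw [← Finset.card_univ] at h5
  have h6 := Finset.eq_univ_of_card _ (by rw [h5, Finset.card_univ])
  have h7 : g ∈ Finset.univ.filter (fun g : G => g⁻¹ * x * g ∈ H) := by rw [h6]; exact Finset.mem_univ _
  exact (Finset.mem_filter.1 h7).2

theorem sq_le_card [Finite G] {χ : G → ℂ} (hχ : IsIrrCharacter G χ) {d : ℕ} (hd : χ 1 = d) :
    d * d ≤ Nat.card G := by
  classical
  letI := Fintype.ofFinite G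
  have h1 := hχ.classInner_self
  rw [classInner_def, inv_mul_eq_one₀ (by exact_mod_cast Nat.card_pos.ne')] at h1
  have h2 : ∀ g : G, χ g * conj (χ g) = ((‖χ g‖ ^ 2 : ℝ) : ℂ) := by
    intro g
    rw [Complex.mul_conj, Complex.normSq_eq_norm_sq]
  simp only [h2] at h1
  rw [← Complex.ofReal_sum] at h1
  have h3 : (Nat.card G : ℝ) = ∑ g : G, ‖χ g‖ ^ 2 := by exact_mod_cast h1
  have h4 : ‖χ 1‖ ^ 2 ≤ ∑ g : G, ‖χ g‖ ^ 2 :=
    Finset.single_le_sum (f := fun g => ‖χ g‖ ^ 2) (fun g _ => by positivity) (Finset.mem_univ 1)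
  rw [← h3, hd, Complex.norm_natCast] at h4
  have h5 : ((d * d : ℕ) : ℝ) ≤ (Nat.card G : ℝ) := by push_cast; nlinarith
  exact_mod_cast h5

/-- **Taketa's argument** -/
theorem step [Fintype G] (D : Subgroup G) [D.Normal] (H : Subgroup G) (lam : H →* ℂˣ)
    (hD : ∀ ψ : G → ℂ, IsIrrCharacter G ψ → ∀ d : ℕ, ψ 1 = d → d < H.index → ∀ x ∈ D, ψ x = ψ 1) :
    ∀ x ∈ ⁅D, D⁆, indFun H (fun h => (lam h : ℂ)) x = indFun H (fun h => (lam h : ℂ)) 1 := by
  classical
  letI := Fintype.ofFinite H
  have hperm : IsCharacter G (indFun H (1 : H → ℂ)) := IsCharacter.indFun H isIrrCharacter_one.isCharacter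
  have h1 : ∀ x ∈ D, indFun H (1 : H → ℂ) x = indFun H (1 : H → ℂ) 1 := by
    intro x hx
    rw [hperm.isClassFunction.expansion_apply x, hperm.isClassFunction.expansion_apply 1]
    refine Finset.sum_congr rfl fun ψ _ => ?_
    by_cases h0 : classInner (indFun H (1 : H → ℂ)) (ψ : G → ℂ) = 0
    · rw [h0, zero_mul, zero_mul]
    congr 1
    by_cases hψ1 : (ψ : G → ℂ) = 1
    · rw [hψ1]; rfl
    -- `ψ` is a constituent of `π - 1`
    have h2 : classInner (indFun H (1 : H → ℂ)) (1 : G → ℂ) ≠ 0 := by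
      rw [IndFun.frobenius_reciprocity H _ _ (isIrrCharacter_one (G := G)).isClassFunction]
      have : (fun h : H => (1 : G → ℂ) h) = (1 : H → ℂ) := rfl
      rw [this, (isIrrCharacter_one (G := H)).classInner_self]
      exact one_ne_zero
    have h3 := hperm.sub_constituent isIrrCharacter_one h2
    have h4 : classInner (indFun H (1 : H → ℂ) - 1) (ψ : G → ℂ) ≠ 0 := by
      rw [classInner_sub_left, (isIrrCharacter_one (G := G)).classInner_eq_zero ψ.2 (fun h => hψ1 h.symm), sub_zero]
      exact h0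
    obtain ⟨d, hd, hd1⟩ := ψ.2.exists_degree
    obtain ⟨e, he⟩ := h3.exists_degree
    have h5 : d ≤ e := CharBasic.degree_le_of_constituent h3 ψ.2 h4 he hd1
    have h6 : H.index = e + 1 := by
      rw [Pi.sub_apply, IndFun.indFun_one, Pi.one_apply, Pi.one_apply, mul_one] at he
      have : (H.index : ℂ) = ((e + 1 : ℕ) : ℂ) := by push_cast; rw [← he]; ring
      exact_mod_cast this
    exact hD ψ ψ.2 d hd1 (by omega) x hx
  have hDH : ∀ x ∈ D, ∀ g : G, g⁻¹ * x * g ∈ H := fun x hx g => conj_mem_of_perm H (h1 x hx) g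
  have hDle : D ≤ H := by
    intro x hx
    simpa using hDH x hx 1
  have hker : ∀ x ∈ ⁅D, D⁆, ∀ hx : x ∈ H, lam ⟨x, hx⟩ = 1 := by
    have h2 : ⁅D, D⁆ ≤ (lam.ker).map H.subtype := by
      rw [Subgroup.commutator_le]
      intro a ha b hb
      refine ⟨⁅(⟨a, hDle ha⟩ : H), (⟨b, hDle hb⟩ : H)⁆, ?_, rfl⟩
      show lam _ = 1
      rw [map_commutatorElement, commutatorElement_eq_one_iff_mul_comm]
      exact mul_comm _ _
    intro x hx hxH
    obtain ⟨y, hy, hyx⟩ := h2 hx
    have : y = ⟨x, hxH⟩ := Subtype.ext hyx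
    rw [← this]; exact hy
  intro x hx
  rw [IndFun.indFun_apply, IndFun.indFun_apply]
  congr 1
  refine Finset.sum_congr rfl fun g _ => ?_
  have hg : g⁻¹ * x * g ∈ ⁅D, D⁆ := by
    have := (inferInstance : (⁅D, D⁆ : Subgroup G).Normal).conj_mem x hx g⁻¹
    rwa [inv_inv] at this
  have hgH : g⁻¹ * x * g ∈ H := hDle (Subgroup.commutator_le_left D D hg)
  have h1H : g⁻¹ * 1 * g ∈ H := by simp [H.one_mem]
  rw [IndFun.extendByZero_mem H _ hgH, IndFun.extendByZero_mem H _ h1H, hker _ hg hgH]
  have : (⟨g⁻¹ * 1 * g, h1H⟩ : H) = 1 := by ext; simp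
  rw [this, map_one]

/-- Two degrees: the commutator subgroup is abelian. -/
theorem two [Finite G] {m : ℕ} (h : TwoDeg.TwoDeg m G) (hm : m ≠ 1)
    (hex : ∃ χ : G → ℂ, IsIrrCharacter G χ ∧ χ 1 = (m : ℂ)) : ⁅commutator G, commutator G⁆ = ⊥ := by
  classical
  letI := Fintype.ofFinite G
  have hm0 : m ≠ 0 := by
    obtain ⟨χ, hχ, hχm⟩ := hex
    rintro rfl
    exact hχ.one_ne_zero (by rw [hχm]; simp)
  rcases h.main hm hex with ⟨A, hA, hAab, hAi⟩ | hnil
  · -- `G/A` is abelian
    have hle : commutator G ≤ A := by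
      have hab := comm_of_forall_irr_linear (G := G ⧸ A) (by
        intro χ hχ
        rcases (h.quot A) χ hχ with h1 | h1
        · exact h1
        · exfalso
          have h2 := sq_le_card hχ h1
          have h3 : Nat.card (G ⧸ A) = m := hAi
          rw [h3] at h2
          have h4 : m * m ≤ m * 1 := by rw [mul_one]; exact h2
          have h5 := Nat.le_of_mul_le_mul_left h4 (Nat.pos_of_ne_zero hm0)
          omega)
      rw [commutator_def, Subgroup.commutator_le]
      intro a _ b _
      rw [commutatorElement_def, ← QuotientGroup.eq_one_iff]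
      rw [QuotientGroup.mk_mul, QuotientGroup.mk_mul, QuotientGroup.mk_mul,
        hab (QuotientGroup.mk a) (QuotientGroup.mk b), QuotientGroup.mk_inv, QuotientGroup.mk_inv]
      group
    rw [Subgroup.commutator_eq_bot_iff_le_centralizer]
    intro x hx
    rw [Subgroup.mem_centralizer_iff]
    intro y hy
    exact hAab y (hle hy) x (hle hx)
  · rw [eq_bot_iff]
    intro x hx
    rw [Subgroup.mem_bot]
    have hlin : ∀ ψ : G → ℂ, IsIrrCharacter G ψ → ψ 1 = 1 → ∀ y ∈ commutator G, ψ y = ψ 1 := by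
      intro ψ hψ hψ1 y hy
      rw [hψ1]
      exact hψ.isCharacter.eq_one_on_commutator hψ1 hy
    have h1 : IsConj x 1 := by
      rw [isConj_iff_forall_irr]
      intro χ
      rcases h χ χ.2 with h2 | h2
      · exact hlin _ χ.2 h2 x (Subgroup.commutator_le_left _ _ hx)
      · obtain ⟨H, lam, hHl⟩ := MGroups.monomial_of_nilpotent hnil χ.2
        have hidx : H.index = m := by
          rw [hHl, IndFun.indFun_one, map_one, Units.val_one, mul_one] at h2
          exact_mod_cast h2
        have := step (commutator G) H lam (by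
          intro ψ hψ d hd hdm y hy
          apply hlin ψ hψ _ y hy
          rcases h ψ hψ with h3 | h3
          · exact h3
          · exfalso
            rw [hd] at h3
            have : d = m := by exact_mod_cast h3
            omega) x hx
        rw [hHl]
        exact this
    exact isConj_one_left.1 h1

end Cfsg.Agent.Lib.Taketa
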