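import Cfsg.Prelude.Def_Transfer
import Cfsg.Agent.Lib.SimplePQR
import Cfsg.Agent.Lib.Taketa
import Cfsg.Agent.S4441

/-!
# Degrees of simple groups: prime degrees
-/

set_option autoImplicit false
set_option linter.all false

namespace Cfsg.Agent.Lib.SimpleDeg

open Cfsg Subgroup Module Cfsg.Agent.Lib Cfsg.Agent.Lib.CharBasic Cfsg.Agent.Lib.TwoDeg
open scoped ComplexConjugate Pointwise commutatorElement

universe u

variable {G : Type u} [Group G]

theorem center_eq_bot [IsSimpleGroup G] (hab : ¬ ∀ a b : G, a * b = b * a) : center G = ⊥ := by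
  rcases IsSimpleGroup.eq_bot_or_eq_top_of_normal (center G) inferInstance with h | h
  · exact h
  · exfalso
    apply hab
    intro a b
    have : b ∈ center G := by rw [h]; trivial
    exact (Subgroup.mem_center_iff.1 this) a

theorem not_comm [IsSimpleGroup G] (hZ : center G = ⊥) : ¬ ∀ a b : G, a * b = b * a := by
  intro h
  obtain ⟨x, hx⟩ := exists_ne (1 : G)
  have h1 : x ∈ center G := Subgroup.mem_center_iff.2 (fun g => h g x)
  rw [hZ, Subgroup.mem_bot] at h1
  exact hx h1

theorem perfect [IsSimpleGroup G] (hZ : center G = ⊥) : commutator G = ⊤ := by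
  rcases IsSimpleGroup.eq_bot_or_eq_top_of_normal (commutator G) inferInstance with h | h
  · exfalso
    apply not_comm hZ
    intro a b
    have h1 : ⁅a, b⁆ ∈ commutator G := Subgroup.commutator_mem_commutator (mem_top a) (mem_top b)
    rw [h, Subgroup.mem_bot, commutatorElement_eq_one_iff_mul_comm] at h1
    exact h1
  · exact h

theorem deg_ne_one [Finite G] [IsSimpleGroup G] (hZ : center G = ⊥) {χ : G → ℂ} (hχ : IsIrrCharacter G χ)
    (hne : χ ≠ 1) : χ 1 ≠ 1 := by
  intro h1
  apply hne
  funext g
  have hg : g ∈ commutator G := by rw [perfect hZ]; trivial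
  exact hχ.isCharacter.eq_one_on_commutator h1 hg

theorem faithful [Finite G] [IsSimpleGroup G] (hZ : center G = ⊥) {χ : G → ℂ} (hχ : IsIrrCharacter G χ)
    (hne : χ ≠ 1) {g : G} (hg : χ g = χ 1) : g = 1 := by
  rcases IsSimpleGroup.eq_bot_or_eq_top_of_normal (GalConj.K ⟨χ, hχ⟩) inferInstance with h | h
  · have : g ∈ GalConj.K ⟨χ, hχ⟩ := GalConj.mem_K.2 hg
    rw [h] at this
    exact this
  · exfalso
    apply deg_ne_one hZ hχ hne
    exact GalConj.lin_of_ker (χ := ⟨χ, hχ⟩) (by rw [h]; exact le_top)

theorem exists_ne_one [Finite G] [IsSimpleGroup G] (hZ : center G = ⊥) :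
    ∃ χ : IrrCharacter G, (χ : G → ℂ) ≠ 1 := by
  by_contra hcon
  push Not at hcon
  exact not_comm hZ (comm_of_forall_irr_linear (fun χ hχ => by
    have h1 : χ = 1 := hcon ⟨χ, hχ⟩
    rw [h1]; rfl))

theorem no_complement [Finite G] [IsSimpleGroup G] (hZ : center G = ⊥) {p : ℕ} (hp : p.Prime)
    (hd : p ∣ Nat.card G) (h : HasNormalPComplement p G) : False := by
  haveI : Fact p.Prime := ⟨hp⟩
  obtain ⟨N, hN, h1, k, hk⟩ := PNilp.hasNormalPComplement_iff.1 h
  rcases IsSimpleGroup.eq_bot_or_eq_top_of_normal N hN with h2 | h2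
  · have h3 : IsPGroup p G := by
      rw [IsPGroup.iff_card]
      exact ⟨k, by rw [← hk, h2, Subgroup.index_bot]⟩
    have h4 : Nontrivial G := inferInstance
    have h5 := h3.center_nontrivial
    rw [hZ] at h5
    exact (Subgroup.nontrivial_iff_ne_bot _).1 h5 rfl
  · apply h1
    rw [h2, Subgroup.card_top]
    exact hd

theorem no_burnside [Finite G] [IsSimpleGroup G] (hZ : center G = ⊥) {p : ℕ} [hp : Fact p.Prime]
    (hd : p ∣ Nat.card G) (P : Sylow p G)
    (h : normalizer ((P : Subgroup G) : Set G) ≤ centralizer ((P : Subgroup G) : Set G)) : False := by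
  apply no_complement hZ hp.out hd
  exact ⟨P, (MonoidHom.transferSylow P h).ker, inferInstance, MonoidHom.ker_transferSylow_isComplement' P h⟩

/-- a prime degree gives a Sylow subgroup of prime order -/
theorem sylow_of_prime_degree [Finite G] [IsSimpleGroup G] (hZ : center G = ⊥) {p : ℕ} [hp : Fact p.Prime]
    {χ : G → ℂ} (hχ : IsIrrCharacter G χ) (hdeg : χ 1 = p) (P : Sylow p G) : Nat.card P = p := by
  classical
  have hne : χ ≠ 1 := by
    rintro rfl
    rw [Pi.one_apply] at hdeg
    have : (1 : ℕ) = p := by exact_mod_cast hdeg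
    exact hp.out.one_lt.ne this
  have hd : p ∣ Nat.card G := CharApps.irr_degree_dvd_card hχ hdeg
  letI := Fintype.ofFinite (P : Subgroup G)
  -- `χ` vanishes on the centre of `P`
  have hv : ∀ z : (P : Subgroup G), z ∈ center (P : Subgroup G) → z ≠ 1 → χ (z : G) = 0 := by
    intro z hz hz1
    apply SimplePQR.eq_zero_of_coprime hZ hχ hne hdeg (fun h => hz1 (Subtype.ext h))
    rw [Nat.Prime.coprime_iff_not_dvd hp.out]
    intro h
    apply P.not_dvd_index
    refine h.trans (Subgroup.index_dvd_of_le ?_)
    intro x hx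
    rw [Subgroup.mem_centralizer_singleton_iff]
    have h1 := Subgroup.mem_center_iff.mp hz ⟨x, hx⟩
    exact congrArg Subtype.val h1
  have hPnt : Nontrivial P := by
    rw [← Finite.one_lt_card_iff_nontrivial]
    by_contra hle
    have h1 : Nat.card P = 1 := by
      have := Nat.card_pos (α := P)
      omega
    have h2 : (P : Subgroup G) = ⊥ := Subgroup.card_eq_one.1 h1
    apply P.not_dvd_index
    rw [h2, Subgroup.index_bot]
    exact hd
  have hres := hχ.isCharacter.restrict (P : Subgroup G)
  -- the centre has order dividing `p`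
  have hZc : Nat.card (center P) ∣ p := by
    letI := Fintype.ofFinite (center P)
    have h1 := (hres.restrict (center P)).classInner_nat (isCharacter_one (G := center P))
    obtain ⟨n, hn⟩ := h1
    rw [classInner_def] at hn
    have h2 : ∑ z : center P, χ ((z : P) : G) * conj ((1 : center P → ℂ) z) = p := by
      rw [Finset.sum_eq_single (1 : center P)]
      · simp [hdeg]
      · intro z _ hz
        rw [hv z z.2 (fun h => hz (Subtype.ext h)), zero_mul]
      · intro h; exact absurd (Finset.mem_univ _) h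
    rw [h2, inv_mul_eq_iff_eq_mul₀ (by exact_mod_cast Nat.card_pos.ne')] at hn
    have h3 : p = Nat.card (center P) * n := by exact_mod_cast hn
    exact Dvd.intro n h3.symm
  -- all constituents of `χ_P` are linear
  have hlin : ∀ ψ : IrrCharacter (P : Subgroup G), classInner (fun x : (P : Subgroup G) => χ x) (ψ : ↥(P : Subgroup G) → ℂ) ≠ 0 →
      (ψ : ↥(P : Subgroup G) → ℂ) 1 = 1 := by
    intro ψ hψ
    obtain ⟨d, hd0, hd1⟩ := ψ.2.exists_degree
    have h1 : d ≤ p := CharBasic.degree_le_of_constituent hres ψ.2 hψ (by exact hdeg) hd1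
    have h2 : d ∣ Nat.card P := CharApps.irr_degree_dvd_card ψ.2 hd1
    obtain ⟨k, hk⟩ := IsPGroup.iff_card.1 P.2
    rw [hk, Nat.dvd_prime_pow hp.out] at h2
    obtain ⟨j, -, rfl⟩ := h2
    rcases Nat.eq_zero_or_pos j with rfl | hj
    · rw [hd1]; simp
    · exfalso
      have h3 : j = 1 := by
        have : p ^ j ≤ p ^ 1 := by rw [pow_one]; exact h1
        have := (Nat.pow_le_pow_iff_right hp.out.one_lt).1 this
        omega
      subst h3
      rw [pow_one] at hd1
      -- then `χ_P = ψ`
      have h4 := hres.sub_constituent ψ.2 hψ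
      have h5 : ∀ x : P, χ x = (ψ : P → ℂ) x := by
        intro x
        have := Garrison.zero_of_deg h4 (by
          rw [Pi.sub_apply, hd1]
          have : χ ((1 : P) : G) = p := hdeg
          rw [this, sub_self]; simp) x
        rw [Pi.sub_apply] at this
        exact sub_eq_zero.1 this
      have h6 := P.2.center_nontrivial
      obtain ⟨z, hz⟩ := exists_ne (1 : center P)
      have h7 := GalConj.norm_center ψ.2 z.2
      rw [← h5, hv z z.2 (fun h => hz (Subtype.ext h)), zero_mul] at h7
      exact mul_ne_zero ψ.2.one_ne_zero ψ.2.one_ne_zero h7.symm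
  -- `P` is abelian
  have hPab : ∀ x y : (P : Subgroup G), x * y = y * x := by
    intro x y
    have h1 : ⁅x, y⁆ ∈ commutator (P : Subgroup G) := Subgroup.commutator_mem_commutator (mem_top x) (mem_top y)
    have h2 : χ ((⁅x, y⁆ : (P : Subgroup G)) : G) = χ 1 := by
      have h3 := hres.isClassFunction.expansion_apply ⁅x, y⁆
      have h4 := hres.isClassFunction.expansion_apply 1
      have h5 : χ ((1 : (P : Subgroup G)) : G) = χ 1 := rfl
      rw [← h5]
      refine h3.trans (Eq.trans ?_ h4.symm)
      refine Finset.sum_congr rfl fun ψ _ => ?_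
      by_cases h0 : classInner (fun x : (P : Subgroup G) => χ x) (ψ : ↥(P : Subgroup G) → ℂ) = 0
      · rw [h0, zero_mul, zero_mul]
      congr 1
      rw [hlin ψ h0, ψ.2.isCharacter.eq_one_on_commutator (hlin ψ h0) h1]
    have h3 := faithful hZ hχ hne h2
    have h4 : ⁅x, y⁆ = 1 := Subtype.ext h3
    exact commutatorElement_eq_one_iff_mul_comm.1 h4
  have hcen : center P = ⊤ := by
    rw [eq_top_iff]
    intro x _
    exact Subgroup.mem_center_iff.2 (fun y => hPab y x)
  rw [hcen, Subgroup.card_top] at hZc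
  rcases (Nat.dvd_prime hp.out).1 hZc with h1 | h1
  · exact absurd h1 (Finite.one_lt_card_iff_nontrivial.2 hPnt).ne'
  · exact h1

theorem dvd_card_of_sylow [Finite G] {p : ℕ} [hp : Fact p.Prime] (P : Sylow p G) (h : Nat.card P = p) :
    p ∣ Nat.card G := by
  have : Nat.card (P : Subgroup G) ∣ Nat.card G := Subgroup.card_subgroup_dvd_card _
  have h2 : Nat.card (P : Subgroup G) = p := h
  rwa [h2] at this

/-- no Sylow `2`-subgroup of order `2` in a simple group -/
theorem no_two [Finite G] [IsSimpleGroup G] (hZ : center G = ⊥) (P : Sylow 2 G) (h : Nat.card P = 2) : False := by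
  haveI : Fact (Nat.Prime 2) := ⟨Nat.prime_two⟩
  apply no_burnside hZ (dvd_card_of_sylow P h) P
  intro g hg
  rw [Subgroup.mem_centralizer_iff]
  intro x hx
  have h1 : g * x * g⁻¹ ∈ (P : Subgroup G) := (Subgroup.mem_normalizer_iff.1 hg x).1 hx
  by_cases hx1 : x = 1
  · rw [hx1]; simp
  have h2 : Nat.card (P : Subgroup G) = 2 := h
  have h3 : ∀ y z : (P : Subgroup G), y ≠ 1 → z ≠ 1 → y = z := by
    intro y z hy hz
    by_contra hyz
    have h4 : ({1, y, z} : Set (P : Subgroup G)).ncard = 3 := by
      rw [Set.ncard_eq_three]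
      exact ⟨1, y, z, Ne.symm hy, Ne.symm hz, hyz, rfl⟩
    have h5 := Set.ncard_le_card ({1, y, z} : Set (P : Subgroup G))
    omega
  have h4 := h3 ⟨g * x * g⁻¹, h1⟩ ⟨x, hx⟩ (by
    intro h'
    apply hx1
    have := congrArg Subtype.val h'
    simp only [Subgroup.coe_one] at this
    rw [mul_inv_eq_one] at this
    exact mul_eq_left.1 this) (fun h' => hx1 (congrArg Subtype.val h'))
  have h5 := congrArg Subtype.val h4
  simp only at h5
  rw [mul_inv_eq_iff_eq_mul] at h5
  exact h5.symm

theorem no_simple [Finite G] [IsSimpleGroup G] (hZ : center G = ⊥)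
    (h : ∀ χ : G → ℂ, IsIrrCharacter G χ → ∀ d : ℕ, χ 1 = d → d ≠ 1 → d.Prime) : False := by
  classical
  letI := Fintype.ofFinite G
  obtain ⟨χ1, hχ1⟩ := exists_ne_one (G := G) hZ
  haveI : Nonempty (IrrCharacter G) := ⟨χ1⟩
  obtain ⟨χ0, hmax⟩ := Finite.exists_max (fun χ : IrrCharacter G => charDegree (χ : G → ℂ))
  set p := charDegree (χ0 : G → ℂ) with hpdef
  have hχ0 : (χ0 : G → ℂ) 1 = p := (BlockDeg.charDegree_cast_irr χ0).symm
  have hp1 : p ≠ 1 := by
    intro h1
    have h2 := hmax χ1
    rw [h1] at h2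
    have h3 := BlockDeg.charDegree_pos χ1.2
    have h4 : charDegree (χ1 : G → ℂ) = 1 := by omega
    apply deg_ne_one hZ χ1.2 hχ1
    rw [← BlockDeg.charDegree_cast_irr χ1, h4, Nat.cast_one]
  have hp : p.Prime := h χ0 χ0.2 p hχ0 hp1
  haveI : Fact p.Prime := ⟨hp⟩
  obtain ⟨P⟩ : Nonempty (Sylow p G) := inferInstance
  have hP := sylow_of_prime_degree hZ χ0.2 hχ0 P
  by_cases hp2 : p = 2
  · -- all degrees are 1 or 2
    apply no_complement hZ hp (dvd_card_of_sylow P hP)
    apply TwoDeg.complement (m := p) _ hp dvd_rfl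
    intro χ hχ
    have h1 := hmax ⟨χ, hχ⟩
    have h2 := BlockDeg.charDegree_cast hχ.isCharacter
    simp only [← hpdef] at h1
    have h3 := BlockDeg.charDegree_pos hχ
    rcases (by omega : charDegree χ = 1 ∨ charDegree χ = p) with h4 | h4
    · left; rw [← h2, h4, Nat.cast_one]
    · right; rw [← h2, h4]
  obtain ⟨M, hM⟩ := H76Char.exists_isPModular p
  obtain ⟨X, Y, -, -, hX, -, εX, ε, hXall, -⟩ := Cfsg.Agent.S4441.result p M hM hp2 P hP _ rfl
  set e := (centralizer ((P : Subgroup G) : Set G)).relIndex (normalizer ((P : Subgroup G) : Set G)) with he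
  have hX1 : ∀ χ ∈ X, (χ : G → ℂ) = 1 := by
    intro χ hχ
    by_contra hne
    obtain ⟨h1, h2, -⟩ := hXall χ hχ
    set d := charDegree (χ : G → ℂ) with hd
    have hd1 : (χ : G → ℂ) 1 = d := (BlockDeg.charDegree_cast_irr χ).symm
    have hdne : d ≠ 1 := by
      intro h3
      apply deg_ne_one hZ χ.2 hne
      rw [hd1, h3, Nat.cast_one]
    have hdp : d.Prime := h χ χ.2 d hd1 hdne
    have hdle : d ≤ p := hmax χ
    have hd2 := hdp.two_le
    have hp3 : 3 ≤ p := by have := hp.two_le; omega
    rcases h1 with h1 | h1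
    · rw [h1] at h2
      have h3 : (p : ℤ) ∣ (d : ℤ) - 1 := (Int.modEq_iff_dvd.1 h2.symm)
      obtain ⟨k, hk⟩ := h3
      have hk0 : 0 < k := by
        by_contra hk0
        push Not at hk0
        have : (p : ℤ) * k ≤ 0 := mul_nonpos_of_nonneg_of_nonpos (by positivity) hk0
        omega
      have : (p : ℤ) * 1 ≤ p * k := mul_le_mul_of_nonneg_left hk0 (by positivity)
      omega
    · rw [h1] at h2
      have h3 : (p : ℤ) ∣ (d : ℤ) - (-1) := (Int.modEq_iff_dvd.1 h2.symm)
      obtain ⟨k, hk⟩ := h3
      have hk0 : 0 < k := by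
        by_contra hk0
        push Not at hk0
        have : (p : ℤ) * k ≤ 0 := mul_nonpos_of_nonneg_of_nonpos (by positivity) hk0
        omega
      have hk2 : k < 2 := by
        by_contra hk2
        push Not at hk2
        have : (p : ℤ) * 2 ≤ p * k := mul_le_mul_of_nonneg_left hk2 (by positivity)
        omega
      have hk1 : k = 1 := by omega
      rw [hk1] at hk
      have hdp1 : d + 1 = p := by omega
      -- `d` is even, so `d = 2`
      have hpodd := hp.eq_two_or_odd'.resolve_left hp2
      have hdeven : Even d := by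
        rcases Nat.even_or_odd d with h4 | h4
        · exact h4
        · exfalso
          have := h4.add_one
          rw [hdp1] at this
          exact (Nat.not_even_iff_odd.2 hpodd) this
      have hd2' : d = 2 := (hdp.even_iff.1 hdeven)
      haveI : Fact (Nat.Prime 2) := ⟨Nat.prime_two⟩
      obtain ⟨S⟩ : Nonempty (Sylow 2 G) := inferInstance
      exact no_two hZ S (sylow_of_prime_degree hZ χ.2 (by rw [hd1, hd2']) S)
  have hXle : Nat.card X ≤ 1 := by
    rw [Finite.card_le_one_iff_subsingleton]
    refine ⟨fun a b => Subtype.ext (Subtype.ext ?_)⟩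
    rw [hX1 a a.2, hX1 b b.2]
  have he0 : e ≠ 0 := by
    rw [he, Subgroup.relIndex]
    exact Subgroup.index_ne_zero_of_finite
  have he1 : e = 1 := by rw [hX] at hXle; omega
  apply no_burnside hZ (dvd_card_of_sylow P hP) P
  rw [he, Subgroup.relIndex_eq_one] at he1
  exact he1

/-- the groups whose nonlinear degrees are primes are solvable -/
theorem solvable (n : ℕ) : ∀ (G : Type u) [Group G] [Finite G], Nat.card G = n →
    (∀ χ : G → ℂ, IsIrrCharacter G χ → ∀ d : ℕ, χ 1 = d → d ≠ 1 → d.Prime) → Group.IsSolvable G := by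
  induction n using Nat.strong_induction_on with
  | _ n ih =>
    intro G _ _ hn h
    classical
    letI := Fintype.ofFinite G
    by_cases hN : ∃ N : Subgroup G, N.Normal ∧ N ≠ ⊥ ∧ N ≠ ⊤
    · obtain ⟨N, hN, hN1, hN2⟩ := hN
      letI := Fintype.ofFinite N
      have hs1 : Group.IsSolvable N := by
        apply ih (Nat.card N) _ N rfl
        · intro ν hν d hd hd1
          obtain ⟨χ, hχ, hχν⟩ := exists_over N hν
          obtain ⟨m, hm, hm1⟩ := hχ.exists_degree
          have h1 := dvd_of_over N hν hχ hχν hd hm1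
          have hm2 : m ≠ 1 := by
            rintro rfl
            exact hd1 (Nat.dvd_one.1 h1)
          have h2 := h χ hχ m hm1 hm2
          rcases (Nat.dvd_prime h2).1 h1 with h3 | h3
          · exact absurd h3 hd1
          · rw [h3]; exact h2
        · rw [← hn, ← N.card_mul_index]
          have h1 : N.index ≠ 1 := fun h' => hN2 (Subgroup.index_eq_one.1 h')
          have h2 : N.index ≠ 0 := Subgroup.index_ne_zero_of_finite
          have h3 : 0 < Nat.card N := Nat.card_pos
          have h4 : 1 < N.index := by omega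
          exact (Nat.lt_mul_iff_one_lt_right h3).2 h4
      have hs2 : Group.IsSolvable (G ⧸ N) := by
        apply ih (Nat.card (G ⧸ N)) _ (G ⧸ N) rfl
        · intro χ hχ d hd hd1
          exact h _ (hχ.inflate N) d hd hd1
        · rw [← hn, ← N.card_mul_index]
          have h1 : Nat.card N ≠ 1 := fun h' => hN1 (Subgroup.card_eq_one.1 h')
          have h2 : N.index ≠ 0 := Subgroup.index_ne_zero_of_finite
          have h3 : 0 < Nat.card N := Nat.card_pos
          have h4 : 1 < Nat.card N := by omega
          have h5 : Nat.card (G ⧸ N) = N.index := rfl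
          rw [h5]
          exact (Nat.lt_mul_iff_one_lt_left (by omega)).2 h4
      exact Group.isSolvable_of_ker_le_range N.subtype (QuotientGroup.mk' N) (by
        rw [QuotientGroup.ker_mk', Subgroup.range_subtype])
    · by_cases hab : ∀ a b : G, a * b = b * a
      · exact Group.isSolvable_of_comm hab
      · exfalso
        haveI : Nontrivial G := by
          by_contra hnt
          rw [not_nontrivial_iff_subsingleton] at hnt
          exact hab fun a b => Subsingleton.elim _ _
        haveI : IsSimpleGroup G := ⟨fun N hNn => by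
          by_contra hcon
          push Not at hcon
          exact hN ⟨N, hNn, hcon.1, hcon.2⟩⟩
        exact no_simple (center_eq_bot hab) h

end Cfsg.Agent.Lib.SimpleDeg
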