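import Mathlib
import Cfsg.Agent.Lib.CharSpec54
import Cfsg.Agent.Lib.SimpleDeg

/-!
# Characters constant on `p`-singular cosets have degree at least `2p` (helper54)
-/

set_option autoImplicit false
set_option linter.all false

namespace Cfsg.Agent.Lib.PBTwoP

open Cfsg Cfsg.Agent.Lib.CharBasic Cfsg.Agent.Lib.DetChar Subgroup Cfsg.Agent.Lib.CharSpec54
open scoped ComplexConjugate

universe u

variable {G : Type u} [Group G]

theorem sum_conj_irr [Fintype G] {ψ : G → ℂ} (hψ : IsIrrCharacter G ψ) (hne : ψ ≠ 1) : ∑ y : G, conj (ψ y) = 0 := by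
  have h1 := (isIrrCharacter_one (G := G)).classInner_eq_zero hψ (Ne.symm hne)
  rw [classInner_def] at h1
  rcases mul_eq_zero.1 h1 with h2 | h2
  · exfalso
    exact inv_ne_zero (by exact_mod_cast Nat.card_pos.ne') h2
  · rw [← h2]
    exact Finset.sum_congr rfl fun y _ => by rw [Pi.one_apply, one_mul]

/-- multiplicities of nontrivial characters of `Y` are divisible by `|P|` -/
theorem mult_dvd [Fintype G] {χ : G → ℂ} (hχ : IsCharacter G χ) (P Y : Subgroup G) [Fintype Y]
    (hcomm : ∀ x ∈ P, ∀ y ∈ Y, Commute x y)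
    (hval : ∀ x ∈ P, x ≠ 1 → ∀ y ∈ Y, χ (x * y) = χ x) {ψ : Y → ℂ} (hψ : IsIrrCharacter Y ψ) (hne : ψ ≠ 1) :
    ∃ k : ℕ, classInner (fun y : Y => χ y) ψ = Nat.card P * k := by
  classical
  letI : Fintype P := Fintype.ofFinite _
  let f : P × Y →* G := MonoidHom.noncommCoprod P.subtype Y.subtype (fun x y => hcomm x x.2 y y.2)
  have hf : ∀ z : P × Y, f z = (z.1 : G) * (z.2 : G) := fun z => rfl
  have h1 : IsCharacter (P × Y) (fun z => χ (f z)) := hχ.comp f
  have h2 : IsIrrCharacter (P × Y) (fun z : P × Y => ψ (MonoidHom.snd P Y z)) :=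
    hψ.comp_surjective (MonoidHom.snd P Y) Prod.snd_surjective
  obtain ⟨k, hk⟩ := h1.classInner_nat h2.isCharacter
  refine ⟨k, ?_⟩
  rw [classInner_def, Fintype.sum_prod_type, Nat.card_prod] at hk
  have hP0 : (Nat.card P : ℂ) ≠ 0 := by exact_mod_cast Nat.card_pos.ne'
  have hY0 : (Nat.card Y : ℂ) ≠ 0 := by exact_mod_cast Nat.card_pos.ne'
  rw [Finset.sum_eq_single (1 : P)] at hk
  · rw [classInner_def]
    have h3 : ∑ y : Y, χ (f (1, y)) * conj (ψ (MonoidHom.snd P Y (1, y))) = ∑ y : Y, χ y * conj (ψ y) := by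
      refine Finset.sum_congr rfl fun y _ => ?_
      rw [hf]
      simp
    rw [h3] at hk
    rw [← hk]
    push_cast
    field_simp
  · intro x _ hx
    have h4 : ∀ y : Y, χ (f (x, y)) * conj (ψ (MonoidHom.snd P Y (x, y))) = χ x * conj (ψ y) := by
      intro y
      rw [hf]
      change χ ((x : G) * (y : G)) * conj (ψ y) = _
      rw [hval x x.2 (fun h => hx (Subtype.ext h)) y y.2]
    rw [Finset.sum_congr rfl (fun y _ => h4 y), ← Finset.mul_sum, sum_conj_irr hψ hne, mul_zero]
  · intro h; exact absurd (Finset.mem_univ _) h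

open scoped Classical in
theorem classInner_multiset [Fintype G] (M : Multiset (IrrCharacter G)) (ψ : IrrCharacter G) :
    classInner (M.map (fun ξ : IrrCharacter G => (ξ : G → ℂ))).sum (ψ : G → ℂ) = M.count ψ := by
  induction M using Multiset.induction_on with
  | empty => rw [Multiset.map_zero, Multiset.sum_zero, classInner_zero_left, Multiset.count_zero, Nat.cast_zero]
  | cons ξ M ih =>
    rw [Multiset.map_cons, Multiset.sum_cons, classInner_add_left, ih, irr_orthonormal, Multiset.count_cons]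
    by_cases h : ξ = ψ
    · rw [if_pos h, if_pos h.symm]; push_cast; ring
    · rw [if_neg h, if_neg (Ne.symm h)]; push_cast; ring

theorem deg_ge [Finite G] (hG : commutator G = ⊤) {χ : G → ℂ} (hχ : IsCharacter G χ) {p : ℕ} (hp : p.Prime)
    (P : Subgroup G) (hP : Nat.card P = p) (y : G) (hcop : ¬ p ∣ orderOf y) (hcomm : ∀ x ∈ P, Commute x y)
    (hval : ∀ x ∈ P, x ≠ 1 → ∀ z ∈ zpowers y, χ (x * z) = χ x) (hker : χ y ≠ χ 1) {d : ℕ} (hd : χ 1 = d) :
    2 * p ≤ d := by
  classical
  letI := Fintype.ofFinite G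
  letI : Fintype (zpowers y) := Fintype.ofFinite _
  by_contra hlt
  push Not at hlt
  obtain ⟨M, hM, hc, hdet⟩ := exists_lin hχ y
  have hMd : M.card = d := by rw [hd] at hc; exact_mod_cast hc
  rw [detChar_eq_one hG hχ] at hdet
  have hcomm' : ∀ x ∈ P, ∀ z ∈ zpowers y, Commute x z := by
    rintro x hx z ⟨i, rfl⟩
    exact (hcomm x hx).zpow_right i
  have hcount : ∀ ψ : IrrCharacter (zpowers y), (ψ : zpowers y → ℂ) ≠ 1 → p ∣ M.count ψ := by
    intro ψ hψ
    obtain ⟨k, hk⟩ := mult_dvd hχ P (zpowers y) hcomm' hval ψ.2 hψ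
    rw [hM, classInner_multiset, hP] at hk
    exact ⟨k, by exact_mod_cast hk⟩
  set M' := M.filter (fun ψ : IrrCharacter (zpowers y) => (ψ : zpowers y → ℂ) ≠ 1) with hM'
  have hM'le : M'.card ≤ M.card := Multiset.card_le_card (Multiset.filter_le _ _)
  have hprodM : (M.map (fun ψ : IrrCharacter (zpowers y) => (ψ : zpowers y → ℂ) ⟨y, mem_zpowers y⟩)).prod =
      (M'.map (fun ψ : IrrCharacter (zpowers y) => (ψ : zpowers y → ℂ) ⟨y, mem_zpowers y⟩)).prod := by
    conv_lhs => rw [← Multiset.filter_add_not (fun ψ : IrrCharacter (zpowers y) => (ψ : zpowers y → ℂ) ≠ 1) M]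
    rw [Multiset.map_add, Multiset.prod_add]
    have h1 : ((M.filter (fun ψ : IrrCharacter (zpowers y) => ¬ (ψ : zpowers y → ℂ) ≠ 1)).map
        (fun ψ : IrrCharacter (zpowers y) => (ψ : zpowers y → ℂ) ⟨y, mem_zpowers y⟩)).prod = 1 := by
      apply Multiset.prod_eq_one
      intro x hx
      obtain ⟨ψ, hψ, rfl⟩ := Multiset.mem_map.1 hx
      have h2 := (Multiset.mem_filter.1 hψ).2
      rw [not_not] at h2
      rw [h2, Pi.one_apply]
    rw [h1, mul_one]
  by_cases hemp : M' = 0
  · -- all constituents are trivial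
    apply hker
    have h1 : ∀ ψ ∈ M, (ψ : zpowers y → ℂ) = 1 := by
      intro ψ hψ
      by_contra h
      have : ψ ∈ M' := Multiset.mem_filter.2 ⟨hψ, h⟩
      rw [hemp] at this
      exact Multiset.notMem_zero _ this
    have h2 : ∀ z : zpowers y, χ z = M.card := by
      intro z
      have h3 := congrFun hM z
      rw [sum_apply'] at h3
      have h4 : χ z = (M.map (fun ψ : IrrCharacter (zpowers y) => (ψ : zpowers y → ℂ) z)).sum := h3
      rw [h4, Multiset.map_congr rfl (fun ψ hψ => by rw [h1 ψ hψ, Pi.one_apply]), Multiset.map_const',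
        Multiset.sum_replicate, nsmul_eq_mul, mul_one]
    have h3 := h2 ⟨y, mem_zpowers y⟩
    have h4 := h2 1
    exact h3.trans h4.symm
  · obtain ⟨ψ, hψ⟩ := Multiset.exists_mem_of_ne_zero hemp
    have hψ1 := (Multiset.mem_filter.1 hψ).2
    have hcge : ∀ ξ ∈ M', p ≤ M'.count ξ := by
      intro ξ hξ
      have h1 := (Multiset.mem_filter.1 hξ).2
      have h2 : M'.count ξ = M.count ξ := Multiset.count_filter_of_pos h1
      rw [h2]
      have h3 : 0 < M.count ξ := Multiset.count_pos.2 (Multiset.mem_filter.1 hξ).1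
      exact Nat.le_of_dvd h3 (hcount ξ h1)
    have hall : ∀ ξ ∈ M', ξ = ψ := by
      intro ξ hξ
      by_contra hne
      have h1 := hcge ξ hξ
      have h2 := hcge ψ hψ
      have h3 : Multiset.replicate (M'.count ξ) ξ + Multiset.replicate (M'.count ψ) ψ ≤ M' := by
        rw [Multiset.le_iff_count]
        intro a
        rw [Multiset.count_add, Multiset.count_replicate, Multiset.count_replicate]
        split_ifs with h4 h5
        · exact absurd (h4.trans h5.symm) hne
        · rw [h4]; omega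
        · rename_i h5; rw [h5]; omega
        · omega
      have h4 := Multiset.card_le_card h3
      rw [Multiset.card_add, Multiset.card_replicate, Multiset.card_replicate] at h4
      omega
    have hrep : M' = Multiset.replicate M'.card ψ := Multiset.eq_replicate_card.2 hall
    have hcard : M'.card = M'.count ψ := by
      conv_rhs => rw [hrep]
      rw [Multiset.count_replicate_self]
    have h1 : M'.count ψ = M.count ψ := Multiset.count_filter_of_pos hψ1
    have h2 := hcge ψ hψ
    obtain ⟨k, hk⟩ := hcount ψ hψ1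
    have hk1 : k = 1 := by
      have h3 : M.count ψ ≤ d := by rw [← hMd]; exact Multiset.count_le_card _ _
      rcases Nat.lt_or_ge k 2 with h4 | h4
      · interval_cases k
        · rw [mul_zero] at hk
          have := hp.pos
          omega
        · rfl
      · exfalso
        have : p * 2 ≤ p * k := Nat.mul_le_mul_left p h4
        omega
    have hcp : M'.card = p := by rw [hcard, h1, hk, hk1, mul_one]
    rw [hprodM, hrep, Multiset.map_replicate, Multiset.prod_replicate, hcp] at hdet
    obtain ⟨f, hf⟩ := ψ.2.isCharacter.exists_hom (irr_one_of_zpowers y ψ)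
    have h3 : (f ⟨y, mem_zpowers y⟩) ^ p = 1 := by
      apply Units.ext
      rw [Units.val_pow_eq_pow_val, ← hf, ← hdet, Units.val_one]
    have h4 : (f ⟨y, mem_zpowers y⟩) ^ orderOf y = 1 := by
      rw [← map_pow]
      have : (⟨y, mem_zpowers y⟩ : zpowers y) ^ orderOf y = 1 := Subtype.ext (pow_orderOf_eq_one y)
      rw [this, map_one]
    have h5 : f ⟨y, mem_zpowers y⟩ = 1 := by
      have h6 : orderOf (f ⟨y, mem_zpowers y⟩) ∣ 1 := by
        have h7 := Nat.dvd_gcd (orderOf_dvd_of_pow_eq_one h3) (orderOf_dvd_of_pow_eq_one h4)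
        rwa [((Nat.Prime.coprime_iff_not_dvd hp).2 hcop)] at h7
      exact orderOf_eq_one_iff.1 (Nat.dvd_one.1 h6)
    apply hψ1
    funext z
    rw [hf, Pi.one_apply]
    obtain ⟨z, i, rfl⟩ := z
    have h6 : (⟨(fun x => y ^ x) i, ⟨i, rfl⟩⟩ : zpowers y) = ⟨y, mem_zpowers y⟩ ^ i := Subtype.ext rfl
    rw [h6, map_zpow, h5, one_zpow, Units.val_one]

end Cfsg.Agent.Lib.PBTwoP
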