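import Mathlib
import Cfsg.Agent.Lib.PBData
import Cfsg.Agent.Lib.PBTwoP
import Cfsg.Agent.Lib.SmallSimple3

/-!
# Degrees in the principal block of a simple group: a numerical test (helper54)
-/

set_option autoImplicit false
set_option linter.all false

namespace Cfsg.Agent.Lib.PBNum

open Cfsg Subgroup Cfsg.Agent.Lib.DefOneLoc Cfsg.Agent.Lib.DefOneOrd Cfsg.Agent.Lib.CharBasic
open Cfsg.Agent.Lib.DefOneGram Cfsg.Agent.Lib.DefOne Cfsg.Agent.Lib.BRB0 Cfsg.Agent.Lib.BRCore
open Cfsg.Agent.Lib.PBData Cfsg.Agent.Lib.DefOnePrin Cfsg.Agent.Lib.BlockThird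
open scoped ComplexConjugate

universe u

/-- Exhaustive search over multisets of size `k` of elements of `L`, with a bound on the sum of squares. -/
def srch (ok : ℤ → ℕ → Bool) (N : ℕ) : ℕ → List ℤ → ℕ → ℤ → ℕ → Bool
  | 0, _, _, _, _ => true
  | _ + 1, _, 0, sm, sq => ok sm sq
  | _ + 1, [], _ + 1, _, _ => false
  | f + 1, d :: L, k + 1, sm, sq =>
    (Nat.ble (sq + d.natAbs ^ 2) N && srch ok N f (d :: L) k (sm + d) (sq + d.natAbs ^ 2)) || srch ok N f L (k + 1) sm sq

theorem srch_of (ok : ℤ → ℕ → Bool) (N : ℕ) : ∀ (f : ℕ) (L : List ℤ) (k : ℕ) (sm : ℤ) (sq : ℕ) (M : Multiset ℤ),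
    M.card = k → (∀ x ∈ M, x ∈ L) → sq + (M.map (fun d : ℤ => d.natAbs ^ 2)).sum ≤ N →
    ok (sm + M.sum) (sq + (M.map (fun d : ℤ => d.natAbs ^ 2)).sum) = true → srch ok N f L k sm sq = true := by
  intro f
  induction f with
  | zero => intros; simp [srch]
  | succ f ih =>
    intro L k sm sq M hk hL hN hok
    cases k with
    | zero =>
      have : M = 0 := Multiset.card_eq_zero.1 hk
      subst this
      rw [srch]
      simpa using hok
    | succ k =>
      cases L with
      | nil =>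
        exfalso
        have : M ≠ 0 := by rintro rfl; simp at hk
        obtain ⟨x, hx⟩ := Multiset.exists_mem_of_ne_zero this
        exact List.not_mem_nil (hL x hx)
      | cons d L =>
        rw [srch, Bool.or_eq_true, Bool.and_eq_true]
        by_cases hd : d ∈ M
        · left
          obtain ⟨M', rfl⟩ := Multiset.exists_cons_of_mem hd
          rw [Multiset.card_cons] at hk
          rw [Multiset.map_cons, Multiset.sum_cons, Multiset.sum_cons] at *
          refine ⟨?_, ?_⟩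
          · apply Nat.ble_eq_true_of_le; omega
          · apply ih (d :: L) k (sm + d) (sq + d.natAbs ^ 2) M' (by omega)
            · intro x hx
              exact hL x (Multiset.mem_cons_of_mem hx)
            · omega
            · rw [add_assoc, add_assoc]; exact hok
        · right
          apply ih L (k + 1) sm sq M hk _ hN hok
          intro x hx
          rcases List.mem_cons.1 (hL x hx) with h | h
          · exact absurd (h ▸ hx) hd
          · exact h

/-- candidates for signed degrees -/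
def cands (p idx B lo : ℕ) : List ℤ :=
  (List.range (B + 1)).flatMap fun d =>
    if Nat.ble lo d && idx % d == 0 then
      (if d % p == 1 then [(d : ℤ)] else []) ++ (if d % p == p - 1 then [-(d : ℤ)] else [])
    else []

theorem mem_cands {p idx B lo d : ℕ} (h1 : lo ≤ d) (h2 : d ≤ B) (h3 : d ∣ idx) {s : ℤ}
    (hs : (s = 1 ∧ d % p = 1) ∨ (s = -1 ∧ d % p = p - 1)) : s * d ∈ cands p idx B lo := by
  rw [cands, List.mem_flatMap]
  refine ⟨d, List.mem_range.2 (by omega), ?_⟩
  rw [if_pos (by rw [Bool.and_eq_true]; exact ⟨Nat.ble_eq_true_of_le h1, beq_iff_eq.2 (Nat.mod_eq_zero_of_dvd h3)⟩)]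
  rw [List.mem_append]
  rcases hs with ⟨rfl, hs⟩ | ⟨rfl, hs⟩
  · left
    rw [if_pos (beq_iff_eq.2 hs)]; simp
  · right
    rw [if_pos (beq_iff_eq.2 hs)]; simp

/-- the last test -/
def okf (N idx t lo : ℕ) (sm : ℤ) (sq : ℕ) : Bool :=
  Nat.ble lo sm.natAbs && (idx % sm.natAbs == 0 && Nat.ble (sq + t * sm.natAbs ^ 2) N)

/-- the numerical test -/
def blk (N p e n c B : ℕ) : Bool :=
  srch (okf N (e * n) ((p - 1) / e) (if c == 1 then 2 else 2 * p)) N 60
    (cands p (e * n) B (if c == 1 then 2 else 2 * p)) (e - 1) 1 1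

section

variable {G : Type u} [Group G] [Fintype G] {p : ℕ} [hp : Fact p.Prime]

theorem triv_ne {χ : IrrCharacter G} (h : χ ≠ triv G) : (χ : G → ℂ) ≠ 1 :=
  fun h' => h (Subtype.ext h')

theorem two_le_deg [IsSimpleGroup G] (hG : ¬ IsMulCommutative G) {χ : IrrCharacter G} (h : χ ≠ triv G) :
    2 ≤ charDegree (χ : G → ℂ) := by
  have hZ := SimpleDeg.center_eq_bot (G := G) (fun h => hG ⟨⟨h⟩⟩)
  have h1 := SimpleDeg.deg_ne_one hZ χ.2 (triv_ne h)
  have h2 := BlockDeg.charDegree_pos χ.2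
  have h3 : charDegree (χ : G → ℂ) ≠ 1 := by
    intro h4
    apply h1
    rw [← BlockDeg.charDegree_cast_irr, h4, Nat.cast_one]
  omega

variable {Q : Sylow p G} [Fintype (centralizer ((Q : Subgroup G) : Set G))]
  {D : Loc p (Q : Subgroup G) (normalizer ((Q : Subgroup G) : Set G)) (centralizer ((Q : Subgroup G) : Set G))}

theorem two_p_le [IsSimpleGroup G] (hG : ¬ IsMulCommutative G) (hQ : Nat.card Q = p) (B : PB D)
    {y : centralizer ((Q : Subgroup G) : Set G)} (hy : D.l y = 0) (hy1 : y ≠ 1) {χ : IrrCharacter G}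
    (hχ : χ ∈ B.X ∨ χ = B.η) : 2 * p ≤ charDegree (χ : G → ℂ) := by
  have hZ := SimpleDeg.center_eq_bot (G := G) (fun h => hG ⟨⟨h⟩⟩)
  have hne : χ ≠ triv G := by
    rcases hχ with h | h
    · rintro rfl; exact B.hX h
    · rw [h]; exact B.hη
  have hl : ∀ z ∈ zpowers (y : G), ∃ hz : z ∈ centralizer ((Q : Subgroup G) : Set G), D.l ⟨z, hz⟩ = 0 := by
    rintro z ⟨i, rfl⟩
    refine ⟨Subgroup.zpow_mem _ y.2 i, ?_⟩
    let L : centralizer ((Q : Subgroup G) : Set G) →* Multiplicative (ZMod p) :=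
      { toFun := fun c => Multiplicative.ofAdd (D.l c)
        map_one' := by rw [l_one]; rfl
        map_mul' := fun a b => by rw [D.l_mul]; rfl }
    have h1 : L (y ^ i) = 1 := by
      rw [map_zpow]
      have : L y = 1 := by change Multiplicative.ofAdd (D.l y) = 1; rw [hy]; rfl
      rw [this, one_zpow]
    exact h1
  apply PBTwoP.deg_ge (SimpleDeg.perfect hZ) χ.2.isCharacter hp.out (Q : Subgroup G) hQ (y : G)
    ((D.l_reg y).1 hy)
  · intro x hx
    exact (Subgroup.mem_centralizer_iff.1 y.2 x hx)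
  · intro x hx hx1 z hz
    obtain ⟨hzC, hz0⟩ := hl z hz
    have hxl : D.l ⟨x, D.PC hx⟩ ≠ 0 := by
      rw [Ne, D.l_reg, not_not]
      change p ∣ orderOf x
      have h1 : orderOf x ∣ p := by
        have := Subgroup.orderOf_dvd_natCard (Q : Subgroup G) hx
        rwa [hQ] at this
      rcases (Nat.dvd_prime hp.out).1 h1 with h2 | h2
      · exact absurd (orderOf_eq_one_iff.1 h2) hx1
      · rw [h2]
    have h2 := B.cst χ hχ (⟨x, D.PC hx⟩ * ⟨z, hzC⟩) ⟨x, D.PC hx⟩ (by rw [D.l_mul, hz0, add_zero]; exact hxl)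
      (by rw [D.l_mul, hz0, add_zero])
    exact h2
  · intro h
    apply hy1
    exact Subtype.ext (SimpleDeg.faithful hZ χ.2 (triv_ne hne) h)
  · exact (BlockDeg.charDegree_cast_irr χ).symm

theorem exists_reg {c : ℕ} (hC : Nat.card (centralizer ((Q : Subgroup G) : Set G)) = p * c) (hc : c ≠ 1) :
    ∃ y : centralizer ((Q : Subgroup G) : Set G), D.l y = 0 ∧ y ≠ 1 := by
  classical
  have h1 := card_C_nat D
  rw [hC] at h1
  have h2 := Nat.eq_of_mul_eq_mul_left hp.out.pos h1
  rw [vc] at h2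
  have h3 : 1 < (Finset.univ.filter (fun c : centralizer ((Q : Subgroup G) : Set G) => D.l c = 0)).card := by
    have h4 : 0 < Nat.card (centralizer ((Q : Subgroup G) : Set G)) := Nat.card_pos
    have h5 : 0 < c := by
      rcases Nat.eq_zero_or_pos c with h | h
      · rw [hC, h, mul_zero] at h4; omega
      · exact h
    omega
  obtain ⟨y, hy, hy1⟩ := Finset.exists_mem_ne h3 1
  exact ⟨y, (Finset.mem_filter.1 hy).2, hy1⟩

theorem card_range_eq {e c : ℕ} (hN : Nat.card (normalizer ((Q : Subgroup G) : Set G)) = p * (e * c))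
    (hC : Nat.card (centralizer ((Q : Subgroup G) : Set G)) = p * c) : Nat.card (κu D).range = e := by
  rw [card_range]
  have h1 := SmallSimple.relIndex_mul_card_of_le D.CN
  rw [hN, hC] at h1
  have h2 : 0 < p * c := by rw [← hC]; exact Nat.card_pos
  exact Nat.eq_of_mul_eq_mul_right h2 (by rw [h1]; ring)

theorem index_eq {e c : ℕ} (hN : Nat.card (normalizer ((Q : Subgroup G) : Set G)) = p * (e * c))
    (hC : Nat.card (centralizer ((Q : Subgroup G) : Set G)) = p * c) (D : Loc p (Q : Subgroup G) (normalizer ((Q : Subgroup G) : Set G)) (centralizer ((Q : Subgroup G) : Set G))) :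
    (centralizer ((Q : Subgroup G) : Set G)).index = e * Nat.card (Sylow p G) := by
  rw [index_C D, card_range_eq hN hC, Q.card_eq_index_normalizer]
  rfl

theorem tau_eq {e c : ℕ} (hN : Nat.card (normalizer ((Q : Subgroup G) : Set G)) = p * (e * c))
    (hC : Nat.card (centralizer ((Q : Subgroup G) : Set G)) = p * c) : Nat.card (Tau D) = (p - 1) / e := by
  have h1 := p_eq D
  rw [card_range_eq hN hC] at h1
  have h2 : 0 < e := by
    rcases Nat.eq_zero_or_pos e with h | h
    · rw [h, zero_mul, zero_add] at h1; exact absurd h1 hp.out.one_lt.ne'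
    · exact h
  have h3 : p - 1 = e * Nat.card (Tau D) := by omega
  rw [h3, Nat.mul_div_cancel_left _ h2]

omit [Fintype G] [Fintype (centralizer ((Q : Subgroup G) : Set G))] in
theorem mod_of_deg {d : ℕ} {k s : ℤ} (h : (d : ℤ) = k * p + s) (hs : s = 1 ∨ s = -1) :
    (s = 1 ∧ d % p = 1) ∨ (s = -1 ∧ d % p = p - 1) := by
  have hp2 := hp.out.two_le
  rcases hs with hs | hs
  · left
    refine ⟨hs, ?_⟩
    have h1 : ((d % p : ℕ) : ℤ) = 1 := by
      rw [Int.natCast_mod, h, hs, add_comm, Int.add_mul_emod_self_right]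
      exact Int.emod_eq_of_lt (by norm_num) (by exact_mod_cast hp.out.one_lt)
    exact_mod_cast h1
  · right
    refine ⟨hs, ?_⟩
    have h1 : ((d % p : ℕ) : ℤ) = p - 1 := by
      rw [Int.natCast_mod, h, hs, show k * (p : ℤ) + -1 = (p - 1) + (k - 1) * p by ring, Int.add_mul_emod_self_right]
      exact Int.emod_eq_of_lt (by omega) (by omega)
    omega

/-- signed degree -/
noncomputable def sd (B : PB D) (χ : IrrCharacter G) : ℤ := B.σ χ * charDegree (χ : G → ℂ)

theorem natAbs_sd (B : PB D) (χ : IrrCharacter G) : (sd B χ).natAbs = charDegree (χ : G → ℂ) := by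
  rw [sd, Int.natAbs_mul, Int.natAbs_natCast]
  rcases B.pm χ with h | h <;> rw [h] <;> simp

theorem sum_sd (B : PB D) : 1 + ∑ χ ∈ B.X, sd B χ + sd B B.η = 0 := by
  have h1 := B.rel 1 (by rw [orderOf_one]; exact hp.out.one_lt.ne' ∘ Nat.dvd_one.1)
  rw [← BlockDeg.charDegree_cast_irr B.η] at h1
  have h2 : ∑ χ ∈ B.X, (B.σ χ : ℂ) * (χ : G → ℂ) 1 = ((∑ χ ∈ B.X, sd B χ : ℤ) : ℂ) := by
    push_cast
    refine Finset.sum_congr rfl fun χ _ => ?_
    rw [sd, ← BlockDeg.charDegree_cast_irr χ]; push_cast; rfl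
  rw [h2] at h1
  have h3 : ((1 + ∑ χ ∈ B.X, sd B χ + sd B B.η : ℤ) : ℂ) = 0 := by
    push_cast
    push_cast at h1
    rw [← h1]
    congr 1
    rw [sd]; push_cast; rfl
  exact_mod_cast h3

theorem blk_of' [IsSimpleGroup G] (hG : ¬ IsMulCommutative G) (hQ : Nat.card Q = p) (B : PB D) {e c N b : ℕ}
    (hN : Nat.card (normalizer ((Q : Subgroup G) : Set G)) = p * (e * c))
    (hC : Nat.card (centralizer ((Q : Subgroup G) : Set G)) = p * c) (hcard : Nat.card G = N) (hb : N < (b + 1) ^ 2) :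
    blk N p e (Nat.card (Sylow p G)) c b = true := by
  rw [blk]
  set lo := if (c == 1) = true then 2 else 2 * p with hlo
  have hlo' : ∀ χ : IrrCharacter G, χ ∈ B.X ∨ χ = B.η → lo ≤ charDegree (χ : G → ℂ) := by
    intro χ hχ
    have hne : χ ≠ triv G := by
      rcases hχ with h | h
      · rintro rfl; exact B.hX h
      · rw [h]; exact B.hη
    rw [hlo]
    split_ifs with h
    · exact two_le_deg hG hne
    · obtain ⟨y, hy, hy1⟩ := exists_reg (D := D) hC (by simpa using h)
      exact two_p_le hG hQ B hy hy1 hχ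
  have hsq := B.sq
  rw [hcard, tau_eq hN hC] at hsq
  have he := B.cardX
  rw [card_range_eq hN hC] at he
  have hdle : ∀ χ ∈ B.X, charDegree (χ : G → ℂ) ≤ b := by
    intro χ hχ
    by_contra hcon
    push Not at hcon
    have h1 : charDegree (χ : G → ℂ) ^ 2 ≤ ∑ χ ∈ B.X, charDegree (χ : G → ℂ) ^ 2 :=
      Finset.single_le_sum (f := fun χ : IrrCharacter G => charDegree (χ : G → ℂ) ^ 2) (fun _ _ => Nat.zero_le _) hχ
    have h2 : (b + 1) ^ 2 ≤ charDegree (χ : G → ℂ) ^ 2 := Nat.pow_le_pow_left hcon 2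
    omega
  have hsum1 : (B.X.val.map (fun χ => sd B χ)).sum = ∑ χ ∈ B.X, sd B χ := rfl
  have hsum2 : ((B.X.val.map (fun χ => sd B χ)).map (fun d : ℤ => d.natAbs ^ 2)).sum =
      ∑ χ ∈ B.X, charDegree (χ : G → ℂ) ^ 2 := by
    rw [Multiset.map_map]
    change ∑ χ ∈ B.X, _ = _
    refine Finset.sum_congr rfl fun χ _ => ?_
    rw [Function.comp_apply, natAbs_sd]
  have hη : (1 + ∑ χ ∈ B.X, sd B χ).natAbs = charDegree (B.η : G → ℂ) := by
    have h1 := sum_sd B
    have h2 : 1 + ∑ χ ∈ B.X, sd B χ = - sd B B.η := by linarith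
    rw [h2, Int.natAbs_neg, natAbs_sd]
  apply srch_of _ _ _ _ _ _ _ (B.X.val.map (fun χ => sd B χ))
  · rw [Multiset.card_map]
    change B.X.card = _
    omega
  · intro x hx
    obtain ⟨χ, hχ, rfl⟩ := Multiset.mem_map.1 hx
    have hχ' : χ ∈ B.X := hχ
    obtain ⟨k, hk⟩ := B.deg χ hχ'
    exact mem_cands (hlo' χ (Or.inl hχ')) (hdle χ hχ') (by rw [← index_eq hN hC D]; exact B.dvd χ (Or.inl hχ'))
      (mod_of_deg hk (B.pm χ))
  · rw [hsum2]; omega
  · rw [hsum1, hsum2, okf, hη, Bool.and_eq_true, Bool.and_eq_true]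
    refine ⟨Nat.ble_eq_true_of_le (hlo' _ (Or.inr rfl)), ?_, Nat.ble_eq_true_of_le hsq⟩
    rw [beq_iff_eq]
    apply Nat.mod_eq_zero_of_dvd
    rw [← index_eq hN hC D]
    exact B.dvd _ (Or.inr rfl)

end

theorem blk_of {G : Type u} [Group G] [Finite G] {p : ℕ} [hp : Fact p.Prime] [IsSimpleGroup G]
    (hG : ¬ IsMulCommutative G) (Q : Sylow p G) (hQ : Nat.card Q = p) {e c N b : ℕ}
    (hN : Nat.card (normalizer ((Q : Subgroup G) : Set G)) = p * (e * c))
    (hC : Nat.card (centralizer ((Q : Subgroup G) : Set G)) = p * c) (hcard : Nat.card G = N) (hb : N < (b + 1) ^ 2) :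
    blk N p e (Nat.card (Sylow p G)) c b = true := by
  letI := Fintype.ofFinite G
  obtain ⟨D, hCf, ⟨B⟩⟩ := exists_PB Q hQ
  exact blk_of' hG hQ B hN hC hcard hb

end Cfsg.Agent.Lib.PBNum
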