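import Cfsg.Agent.Lib.SylEven

/-! Numerical data for a Sylow subgroup of prime order in a nonabelian simple group, packaged. -/

set_option autoImplicit false

namespace Cfsg.Agent.Lib.SylEven

open Subgroup Cfsg.Agent.Lib.SmallSimple

theorem data {G : Type*} [Group G] [Finite G] [IsSimpleGroup G] (hG : ¬ IsMulCommutative G) {p M : ℕ}
    [hp : Fact p.Prime] (h : Nat.card G = p * M) (hM : ¬ p ∣ M) (P : Sylow p G) :
    Nat.card (P : Subgroup G) = p ∧ ∃ e c : ℕ, Nat.card (normalizer ((P : Subgroup G) : Set G)) = p * (e * c) ∧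
      Nat.card (centralizer ((P : Subgroup G) : Set G)) = p * c ∧ e ∣ p - 1 ∧ e ≠ 1 ∧
      e * c * Nat.card (Sylow p G) = M ∧ Nat.card (Sylow p G) % p = 1 ∧ Nat.card (Sylow p G) ≠ 1 := by
  have hf : Nat.card G = p ^ 1 * M := by rw [h, pow_one]
  have hPc : Nat.card (P : Subgroup G) = p := by
    rw [sylow_card_of hf hM P, pow_one]
  obtain ⟨e, c, hNc, hCc, he, he1⟩ := nc_data hG P hPc
  refine ⟨hPc, e, c, by rw [hNc]; ring, hCc, he, he1, ?_, nsyl_mod p G, nsyl_ne_one hG ⟨M, h⟩⟩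
  have hN := card_normalizer_mul_nsyl P
  rw [hNc, h] at hN
  apply Nat.eq_of_mul_eq_mul_left hp.out.pos
  rw [← hN]; ring

end Cfsg.Agent.Lib.SylEven
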