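import Mathlib
import Cfsg.Agent.Lib.PBNum
import Cfsg.Agent.Lib.SylData

/-!
# The possible `(n_p, e)` for a Sylow subgroup of prime order in a simple group (helper54)
-/

set_option autoImplicit false
set_option linter.all false

namespace Cfsg.Agent.Lib.PBNum

open Cfsg Subgroup Cfsg.Agent.Lib.SmallSimple Cfsg.Agent.Lib.SylEven

universe u

/-- all `(n, e)` passing the numerical tests for a simple group of order `p * M` -/
def opts (p M b : ℕ) : List (ℕ × ℕ) :=
  (List.range (M / p + 1)).flatMap fun j =>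
    if j != 0 && (M % (1 + p * j) == 0 && (Nat.blt 12 (1 + p * j) || (1 + p * j).factorial % (2 * (p * M)) == 0)) then
      (List.range p).flatMap fun e =>
        if Nat.ble 2 e && ((p - 1) % e == 0 && ((M / (1 + p * j)) % e == 0 &&
          ((p == 2 || (1 + p * j != p + 1 || (p * (p - 1)) % (2 * (p * (M / (1 + p * j)))) == 0)) &&
            blk (p * M) p e (1 + p * j) (M / (1 + p * j) / e) b)))
        then [(1 + p * j, e)] else []
    else []

theorem data {G : Type u} [Group G] [Finite G] [IsSimpleGroup G] (hG : ¬ IsMulCommutative G) {p M : ℕ} (b : ℕ)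
    [hp : Fact p.Prime] (h : Nat.card G = p * M) (hM : ¬ p ∣ M) (hb : p * M < (b + 1) ^ 2) (P : Sylow p G) :
    Nat.card (P : Subgroup G) = p ∧ ∃ e c : ℕ, Nat.card (normalizer ((P : Subgroup G) : Set G)) = p * (e * c) ∧
      Nat.card (centralizer ((P : Subgroup G) : Set G)) = p * c ∧ e ∣ p - 1 ∧ e ≠ 1 ∧
      e * c * Nat.card (Sylow p G) = M ∧ (Nat.card (Sylow p G), e) ∈ opts p M b := by
  obtain ⟨hPc, e, c, hN, hC, he, he1, hecn, hmod, hn1⟩ := SylEven.data hG h hM P
  refine ⟨hPc, e, c, hN, hC, he, he1, hecn, ?_⟩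
  have hblk := blk_of hG P hPc hN hC h hb
  have hpp := hp.out
  set n := Nat.card (Sylow p G) with hn
  have hM0 : 0 < M := Nat.pos_of_ne_zero (by rintro rfl; exact hM (dvd_zero p))
  have hn0 : 0 < n := Nat.card_pos
  have hec0 : 0 < e * c := by
    rcases Nat.eq_zero_or_pos (e * c) with h0 | h0
    · rw [h0, zero_mul] at hecn; omega
    · exact h0
  have he0 : 0 < e := Nat.pos_of_mul_pos_right hec0 |> fun _ => Nat.pos_of_ne_zero (by rintro rfl; simp at hec0)
  have hdiv : M / n = e * c := by rw [← hecn]; exact Nat.mul_div_cancel _ hn0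
  have hj : n = 1 + p * (n / p) := by
    have := Nat.mod_add_div n p
    rw [hmod] at this
    exact this.symm
  have hj0 : n / p ≠ 0 := by
    intro h0
    rw [h0, mul_zero, add_zero] at hj
    exact hn1 hj
  have hnM : n ≤ M := by
    rw [← hecn]
    exact Nat.le_mul_of_pos_left _ hec0
  rw [opts, List.mem_flatMap]
  refine ⟨n / p, List.mem_range.2 (Nat.lt_succ_of_le (Nat.div_le_div_right hnM)), ?_⟩
  simp only [← hj]
  rw [if_pos, List.mem_flatMap]
  · refine ⟨e, List.mem_range.2 ?_, ?_⟩
    · have h1 := Nat.le_of_dvd (by have := hpp.two_le; omega) he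
      have := hpp.two_le
      omega
    rw [if_pos]
    · exact List.mem_singleton.2 rfl
    rw [Bool.and_eq_true, Bool.and_eq_true, Bool.and_eq_true, Bool.and_eq_true]
    refine ⟨Nat.ble_eq_true_of_le (by omega), ?_, ?_, ?_, ?_⟩
    · rw [beq_iff_eq]; exact Nat.mod_eq_zero_of_dvd he
    · rw [beq_iff_eq, hdiv]; exact Nat.mul_mod_right _ _
    · rw [Bool.or_eq_true, Bool.or_eq_true]
      by_cases hp2 : p = 2
      · left; rw [beq_iff_eq]; exact hp2
      right
      by_cases hnp : n = p + 1
      · right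
        rw [beq_iff_eq]
        apply Nat.mod_eq_zero_of_dvd
        have h1 := normalizer_dvd_of_nsyl hG hp2 hnp ⟨M, h⟩ P
        rwa [hN, ← hdiv] at h1
      · left
        rw [bne_iff_ne]; exact hnp
    · rw [hdiv, Nat.mul_div_cancel_left _ he0]
      exact hblk
  · rw [Bool.and_eq_true, Bool.and_eq_true]
    refine ⟨by rw [bne_iff_ne]; exact hj0, ?_, ?_⟩
    · rw [beq_iff_eq]
      exact Nat.mod_eq_zero_of_dvd (Dvd.intro_left _ hecn)
    · rw [Bool.or_eq_true]
      right
      rw [beq_iff_eq, ← h]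
      exact Nat.mod_eq_zero_of_dvd (two_mul_card_dvd_factorial_nsyl hG ⟨M, h⟩)

end Cfsg.Agent.Lib.PBNum
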