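import Mathlib
import Cfsg.Agent.Lib.PBOpts

/-!
# The degrees in the principal block of a simple group: lists of solutions (helper54)
-/

set_option autoImplicit false
set_option linter.all false

namespace Cfsg.Agent.Lib.PBNum

open Cfsg Subgroup Cfsg.Agent.Lib.DefOneLoc Cfsg.Agent.Lib.DefOneOrd Cfsg.Agent.Lib.CharBasic
open Cfsg.Agent.Lib.DefOneGram Cfsg.Agent.Lib.DefOne Cfsg.Agent.Lib.BRB0 Cfsg.Agent.Lib.BRCore
open Cfsg.Agent.Lib.PBData Cfsg.Agent.Lib.DefOnePrin Cfsg.Agent.Lib.BlockThird Cfsg.Agent.Lib.SmallSimple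

universe u

/-- all multisets of size `k` of elements of `L` passing the test -/
def srchL (ok : ℤ → ℕ → Bool) (N : ℕ) : ℕ → List ℤ → ℕ → ℤ → ℕ → List (List ℤ)
  | 0, _, _, _, _ => []
  | _ + 1, _, 0, sm, sq => if ok sm sq then [[]] else []
  | _ + 1, [], _ + 1, _, _ => []
  | f + 1, d :: L, k + 1, sm, sq =>
    (if Nat.ble (sq + d.natAbs ^ 2) N then (srchL ok N f (d :: L) k (sm + d) (sq + d.natAbs ^ 2)).map (fun l => d :: l)
      else []) ++ srchL ok N f L (k + 1) sm sq

theorem srchL_of (ok : ℤ → ℕ → Bool) (N : ℕ) : ∀ (f : ℕ) (L : List ℤ) (k : ℕ) (sm : ℤ) (sq : ℕ) (M : Multiset ℤ),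
    k + L.length < f → M.card = k → (∀ x ∈ M, x ∈ L) → sq + (M.map (fun d : ℤ => d.natAbs ^ 2)).sum ≤ N →
    ok (sm + M.sum) (sq + (M.map (fun d : ℤ => d.natAbs ^ 2)).sum) = true →
    ∃ l ∈ srchL ok N f L k sm sq, (l : Multiset ℤ) = M := by
  intro f
  induction f with
  | zero => intro L k sm sq M hf; omega
  | succ f ih =>
    intro L k sm sq M hf hk hL hN hok
    cases k with
    | zero =>
      have : M = 0 := Multiset.card_eq_zero.1 hk
      subst this
      have h1 : ok sm sq = true := by simpa using hok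
      refine ⟨[], ?_, rfl⟩
      rw [srchL, if_pos h1]
      exact List.mem_singleton.2 rfl
    | succ k =>
      cases L with
      | nil =>
        exfalso
        have : M ≠ 0 := by rintro rfl; simp at hk
        obtain ⟨x, hx⟩ := Multiset.exists_mem_of_ne_zero this
        exact List.not_mem_nil (hL x hx)
      | cons d L =>
        rw [List.length_cons] at hf
        by_cases hd : d ∈ M
        · obtain ⟨M', rfl⟩ := Multiset.exists_cons_of_mem hd
          rw [Multiset.card_cons] at hk
          rw [Multiset.map_cons, Multiset.sum_cons] at hN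
          rw [Multiset.map_cons, Multiset.sum_cons, Multiset.sum_cons] at hok
          obtain ⟨l, hl, hl'⟩ := ih (d :: L) k (sm + d) (sq + d.natAbs ^ 2) M' (by rw [List.length_cons]; omega) (by omega)
            (fun x hx => hL x (Multiset.mem_cons_of_mem hx)) (by omega) (by rw [add_assoc, add_assoc]; exact hok)
          refine ⟨d :: l, ?_, ?_⟩
          · rw [srchL, List.mem_append]
            left
            rw [if_pos (Nat.ble_eq_true_of_le (by omega))]
            exact List.mem_map.2 ⟨l, hl, rfl⟩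
          · rw [← Multiset.cons_coe, hl']
        · obtain ⟨l, hl, hl'⟩ := ih L (k + 1) sm sq M (by omega) hk (by
            intro x hx
            rcases List.mem_cons.1 (hL x hx) with h | h
            · exact absurd (h ▸ hx) hd
            · exact h) hN hok
          refine ⟨l, ?_, hl'⟩
          rw [srchL, List.mem_append]
          exact Or.inr hl

/-- filtered last test -/
def okF (flt : ℕ → Bool) (N idx t lo : ℕ) (sm : ℤ) (sq : ℕ) : Bool := flt sm.natAbs && okf N idx t lo sm sq

/-- the solutions -/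
def sols (flt : ℕ → Bool) (N p e n c B : ℕ) : List (List ℤ) :=
  srchL (okF flt N (e * n) ((p - 1) / e) (if c == 1 then 2 else 2 * p)) N 80
    ((cands p (e * n) B (if c == 1 then 2 else 2 * p)).filter (fun d => flt d.natAbs)) (e - 1) 1 1

/-- all `(n, e, solution)` passing the numerical tests for a simple group of order `p * M` -/
def optsL (flt : ℕ → Bool) (p M b : ℕ) : List (ℕ × ℕ × List ℤ) :=
  (List.range (M / p + 1)).flatMap fun j =>
    if j != 0 && (M % (1 + p * j) == 0 && (Nat.blt 12 (1 + p * j) || (1 + p * j).factorial % (2 * (p * M)) == 0)) then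
      (List.range p).flatMap fun e =>
        if Nat.ble 2 e && ((p - 1) % e == 0 && ((M / (1 + p * j)) % e == 0 &&
          ((p == 2 || (1 + p * j != p + 1 || (p * (p - 1)) % (2 * (p * (M / (1 + p * j)))) == 0)))))
        then (sols flt (p * M) p e (1 + p * j) (M / (1 + p * j) / e) b).map (fun l => (1 + p * j, e, l)) else []
    else []

section

variable {G : Type u} [Group G] [Fintype G] {p : ℕ} [hp : Fact p.Prime]
variable {Q : Sylow p G} [Fintype (centralizer ((Q : Subgroup G) : Set G))]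
  {D : Loc p (Q : Subgroup G) (normalizer ((Q : Subgroup G) : Set G)) (centralizer ((Q : Subgroup G) : Set G))}

/-- the multiset of signed degrees -/
noncomputable def sds (B : PB D) : Multiset ℤ := B.X.val.map (fun χ => sd B χ)

theorem sds_sum (B : PB D) : (sds B).sum = ∑ χ ∈ B.X, sd B χ := rfl

theorem sds_card (B : PB D) : (sds B).card = B.X.card := by rw [sds, Multiset.card_map]; rfl

theorem mem_sds (B : PB D) {d : ℤ} : d ∈ sds B ↔ ∃ χ ∈ B.X, sd B χ = d := by
  rw [sds, Multiset.mem_map]; rfl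

theorem sd_eta (B : PB D) : sd B B.η = - (1 + (sds B).sum) := by
  have := sum_sd B
  rw [sds_sum]; linarith

theorem sds_sq (B : PB D) : ((sds B).map (fun d : ℤ => d.natAbs ^ 2)).sum = ∑ χ ∈ B.X, charDegree (χ : G → ℂ) ^ 2 := by
  rw [sds, Multiset.map_map]
  change ∑ χ ∈ B.X, _ = _
  refine Finset.sum_congr rfl fun χ _ => ?_
  rw [Function.comp_apply, natAbs_sd]

theorem sols_of [IsSimpleGroup G] (hG : ¬ IsMulCommutative G) (hQ : Nat.card Q = p) (B : PB D) {e c N b : ℕ}
    (hN : Nat.card (normalizer ((Q : Subgroup G) : Set G)) = p * (e * c))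
    (hC : Nat.card (centralizer ((Q : Subgroup G) : Set G)) = p * c) (hcard : Nat.card G = N) (hb : N < (b + 1) ^ 2)
    (flt : ℕ → Bool) (hflt : ∀ χ : IrrCharacter G, χ ≠ triv G → flt (charDegree (χ : G → ℂ)) = true)
    (hlen : e - 1 + ((cands p (e * Nat.card (Sylow p G)) b (if c == 1 then 2 else 2 * p)).filter
      (fun d => flt d.natAbs)).length < 80) :
    ∃ l ∈ sols flt N p e (Nat.card (Sylow p G)) c b, (l : Multiset ℤ) = sds B := by
  rw [sols]
  set lo := if (c == 1) = true then 2 else 2 * p with hlo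
  have hlo' : ∀ χ : IrrCharacter G, χ ∈ B.X ∨ χ = B.η → lo ≤ charDegree (χ : G → ℂ) := by
    intro χ hχ
    have hne : χ ≠ triv G := by
      rcases hχ with h | h
      · rintro rfl; exact B.hX h
      · rw [h]; exact B.hη
    rw [hlo]
    split_ifs with h
    · exact two_le_deg hG hne
    · obtain ⟨y, hy, hy1⟩ := exists_reg (D := D) hC (by simpa using h)
      exact two_p_le hG hQ B hy hy1 hχ
  have hsq := B.sq
  rw [hcard, tau_eq hN hC] at hsq
  have he := B.cardX
  rw [card_range_eq hN hC] at he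
  have hdle : ∀ χ ∈ B.X, charDegree (χ : G → ℂ) ≤ b := by
    intro χ hχ
    by_contra hcon
    push Not at hcon
    have h1 : charDegree (χ : G → ℂ) ^ 2 ≤ ∑ χ ∈ B.X, charDegree (χ : G → ℂ) ^ 2 :=
      Finset.single_le_sum (f := fun χ : IrrCharacter G => charDegree (χ : G → ℂ) ^ 2) (fun _ _ => Nat.zero_le _) hχ
    have h2 : (b + 1) ^ 2 ≤ charDegree (χ : G → ℂ) ^ 2 := Nat.pow_le_pow_left hcon 2
    omega
  have hη : (1 + (sds B).sum).natAbs = charDegree (B.η : G → ℂ) := by
    have h1 := sd_eta B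
    have h2 : 1 + (sds B).sum = - sd B B.η := by linarith
    rw [h2, Int.natAbs_neg, natAbs_sd]
  apply srchL_of
  · exact hlen
  · rw [sds_card]; omega
  · intro x hx
    obtain ⟨χ, hχ, rfl⟩ := (mem_sds B).1 hx
    obtain ⟨k, hk⟩ := B.deg χ hχ
    rw [List.mem_filter]
    refine ⟨mem_cands (hlo' χ (Or.inl hχ)) (hdle χ hχ) (by rw [← index_eq hN hC D]; exact B.dvd χ (Or.inl hχ))
      (mod_of_deg hk (B.pm χ)), ?_⟩
    rw [natAbs_sd]
    exact hflt χ (by rintro rfl; exact B.hX hχ)
  · rw [sds_sq]; omega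
  · rw [sds_sq, okF, okf, hη, Bool.and_eq_true, Bool.and_eq_true, Bool.and_eq_true]
    refine ⟨hflt _ B.hη, Nat.ble_eq_true_of_le (hlo' _ (Or.inr rfl)), ?_, Nat.ble_eq_true_of_le hsq⟩
    rw [beq_iff_eq]
    apply Nat.mod_eq_zero_of_dvd
    rw [← index_eq hN hC D]
    exact B.dvd _ (Or.inr rfl)

/-- number of candidates is small: a uniform check -/
def lenOk (flt : ℕ → Bool) (p M b : ℕ) : Bool :=
  (List.range (M / p + 1)).all fun j =>
    !(M % (1 + p * j) == 0) || (List.range p).all fun e =>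
      !(Nat.ble 2 e && ((p - 1) % e == 0 && (M / (1 + p * j)) % e == 0)) ||
      Nat.blt (e - 1 + ((cands p (e * (1 + p * j)) b (if M / (1 + p * j) / e == 1 then 2 else 2 * p)).filter
        (fun d => flt d.natAbs)).length) 80

theorem dataL [IsSimpleGroup G] (hG : ¬ IsMulCommutative G) {M : ℕ} (b : ℕ) (flt : ℕ → Bool)
    (h : Nat.card G = p * M) (hM : ¬ p ∣ M) (hb : p * M < (b + 1) ^ 2) (B : PB D)
    (hflt : ∀ χ : IrrCharacter G, χ ≠ triv G → flt (charDegree (χ : G → ℂ)) = true) (hlen : lenOk flt p M b = true) :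
    Nat.card (Q : Subgroup G) = p ∧ ∃ (e c : ℕ) (l : List ℤ), Nat.card (normalizer ((Q : Subgroup G) : Set G)) = p * (e * c) ∧
      Nat.card (centralizer ((Q : Subgroup G) : Set G)) = p * c ∧ e ∣ p - 1 ∧ e ≠ 1 ∧
      e * c * Nat.card (Sylow p G) = M ∧ (Nat.card (Sylow p G), e, l) ∈ optsL flt p M b ∧ (l : Multiset ℤ) = sds B := by
  obtain ⟨hPc, e, c, hN, hC, he, he1, hecn, hmod, hn1⟩ := SylEven.data hG h hM Q
  have hpp := hp.out
  set n := Nat.card (Sylow p G) with hn
  have hM0 : 0 < M := Nat.pos_of_ne_zero (by rintro rfl; exact hM (dvd_zero p))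
  have hn0 : 0 < n := Nat.card_pos
  have hec0 : 0 < e * c := by
    rcases Nat.eq_zero_or_pos (e * c) with h0 | h0
    · rw [h0, zero_mul] at hecn; omega
    · exact h0
  have he0 : 0 < e := Nat.pos_of_ne_zero (by rintro rfl; simp at hec0)
  have hdiv : M / n = e * c := by rw [← hecn]; exact Nat.mul_div_cancel _ hn0
  have hdiv2 : M / n / e = c := by rw [hdiv, Nat.mul_div_cancel_left _ he0]
  have hj : n = 1 + p * (n / p) := by
    have := Nat.mod_add_div n p
    rw [hmod] at this
    exact this.symm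
  have hj0 : n / p ≠ 0 := by
    intro h0
    rw [h0, mul_zero, add_zero] at hj
    exact hn1 hj
  have hnM : n ≤ M := by
    rw [← hecn]
    exact Nat.le_mul_of_pos_left _ hec0
  have hjr : n / p ∈ List.range (M / p + 1) := List.mem_range.2 (Nat.lt_succ_of_le (Nat.div_le_div_right hnM))
  have her : e ∈ List.range p := by
    rw [List.mem_range]
    have h1 := Nat.le_of_dvd (by have := hpp.two_le; omega) he
    have := hpp.two_le
    omega
  have h1 : (p - 1) % e = 0 := Nat.mod_eq_zero_of_dvd he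
  have h2 : (M / n) % e = 0 := by rw [hdiv]; exact Nat.mul_mod_right _ _
  have h3 : M % n = 0 := Nat.mod_eq_zero_of_dvd (Dvd.intro_left _ hecn)
  have hlen' : e - 1 + ((cands p (e * n) b (if c == 1 then 2 else 2 * p)).filter (fun d => flt d.natAbs)).length < 80 := by
    rw [lenOk, List.all_eq_true] at hlen
    have h4 := hlen (n / p) hjr
    rw [← hj, Bool.or_eq_true] at h4
    rcases h4 with h4 | h4
    · exfalso
      rw [h3] at h4
      simp at h4
    · rw [List.all_eq_true] at h4
      have h5 := h4 e her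
      rw [Bool.or_eq_true] at h5
      rcases h5 with h5 | h5
      · exfalso
        rw [h1, h2, Nat.ble_eq_true_of_le (by omega : 2 ≤ e)] at h5
        simp at h5
      · rw [hdiv2, Nat.blt_eq] at h5
        exact h5
  obtain ⟨l, hl, hl'⟩ := sols_of hG hPc B hN hC h hb flt hflt hlen'
  refine ⟨hPc, e, c, l, hN, hC, he, he1, hecn, ?_, hl'⟩
  rw [optsL, List.mem_flatMap]
  refine ⟨n / p, hjr, ?_⟩
  simp only [← hj]
  rw [if_pos, List.mem_flatMap]
  · refine ⟨e, her, ?_⟩
    rw [if_pos]
    · rw [List.mem_map]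
      exact ⟨l, by rw [hdiv2]; exact hl, rfl⟩
    rw [Bool.and_eq_true, Bool.and_eq_true, Bool.and_eq_true]
    refine ⟨Nat.ble_eq_true_of_le (by omega), ?_, ?_, ?_⟩
    · rw [beq_iff_eq]; exact h1
    · rw [beq_iff_eq]; exact h2
    · rw [Bool.or_eq_true, Bool.or_eq_true]
      by_cases hp2 : p = 2
      · left; rw [beq_iff_eq]; exact hp2
      right
      by_cases hnp : n = p + 1
      · right
        rw [beq_iff_eq]
        apply Nat.mod_eq_zero_of_dvd
        have h1 := normalizer_dvd_of_nsyl hG hp2 hnp ⟨M, h⟩ Q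
        rwa [hN, ← hdiv] at h1
      · left
        rw [bne_iff_ne]; exact hnp
  · rw [Bool.and_eq_true, Bool.and_eq_true]
    refine ⟨by rw [bne_iff_ne]; exact hj0, ?_, ?_⟩
    · rw [beq_iff_eq]; exact h3
    · rw [Bool.or_eq_true]
      right
      rw [beq_iff_eq, ← h]
      exact Nat.mod_eq_zero_of_dvd (two_mul_card_dvd_factorial_nsyl hG ⟨M, h⟩)

end

end Cfsg.Agent.Lib.PBNum
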