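import Mathlib
import Cfsg.Agent.Lib.PBData

/-!
# The principal block of a simple group with a Sylow subgroup of prime order: extended data (helper54)
-/

set_option autoImplicit false
set_option linter.all false

namespace Cfsg.Agent.Lib.PBExt

open Cfsg Cfsg.Agent.Lib.BlockRing Cfsg.Agent.Lib.BlockGA Cfsg.Agent.Lib.BlockIdem
open Cfsg.Agent.Lib.DefOneLoc Cfsg.Agent.Lib.DefOneOrd Cfsg.Agent.Lib.CharBasic Cfsg.Agent.Lib.DefOneGram
open Cfsg.Agent.Lib.DefOne Cfsg.Agent.Lib.BlockThird Cfsg.Agent.Lib.DefOnePrin Cfsg.Agent.Lib.BRB0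
open Cfsg.Agent.Lib.BRNum Cfsg.Agent.Lib.BRDeg Cfsg.Agent.Lib.BRCore Cfsg.Agent.Lib.PBData
open scoped ComplexConjugate

universe u

variable {G : Type u} [Group G] [Fintype G] {p : ℕ} [hp : Fact p.Prime] {P N C : Subgroup G}
  {D : Loc p P N C} [Fintype C]

/-- a character vanishing on the nontrivial `p`-elements of `C = P` has degree divisible by `p` -/
theorem dvd_of_vanish (hinj : ∀ c : C, D.l c = 0 → c = 1) (χ : IrrCharacter G)
    (h : ∀ c : C, D.l c ≠ 0 → (χ : G → ℂ) c = 0) : p ∣ charDegree (χ : G → ℂ) := by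
  classical
  have hchar : IsCharacter C (rs C (χ : G → ℂ)) := χ.2.isCharacter.restrict C
  obtain ⟨k, hk⟩ := hchar.classInner_nat (triv C).2.isCharacter
  rw [classInner_def] at hk
  have hC0 : (Nat.card C : ℂ) ≠ 0 := by exact_mod_cast Nat.card_pos.ne'
  have h3 : ∑ c : C, (χ : G → ℂ) c = Nat.card C * k := by
    rw [← hk, ← mul_assoc, mul_inv_cancel₀ hC0, one_mul]
    refine Finset.sum_congr rfl fun c _ => ?_
    rw [coe_triv, map_one, mul_one]
    rfl
  have h4 : ∑ c : C, (χ : G → ℂ) c = (χ : G → ℂ) 1 := by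
    rw [Finset.sum_eq_single (1 : C)]
    · rfl
    · intro c _ hc
      exact h c fun h0 => hc (hinj c h0)
    · intro h; exact absurd (Finset.mem_univ _) h
  rw [h4, ← BlockDeg.charDegree_cast_irr] at h3
  have h5 : charDegree (χ : G → ℂ) = Nat.card C * k := by exact_mod_cast h3
  rw [h5]
  apply Dvd.dvd.mul_right
  rw [card_C_nat D]
  exact Dvd.intro _ rfl

/-- Extended data -/
structure PBE (D : Loc p P N C) extends PB D where
  E : Finset (IrrCharacter G)
  ηE : η ∈ E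
  cardE : E.card = Nat.card (Tau D)
  hE : triv G ∉ E
  dE : Disjoint X E
  eqE : ∀ χ ∈ E, ∀ g : G, ¬ p ∣ orderOf g → (χ : G → ℂ) g = (η : G → ℂ) g
  all : (∀ c : C, D.l c = 0 → c = 1) → ∀ χ : IrrCharacter G, ¬ p ∣ charDegree (χ : G → ℂ) →
    χ = triv G ∨ χ ∈ X ∨ χ ∈ E

/-- two or more exceptional characters -/
theorem exists_PBE_two (B : B0 D) (ht : 1 < Nat.card (Tau D)) : Nonempty (PBE D) := by
  classical
  letI : Fintype (Tau D) := Fintype.ofFinite _
  obtain ⟨q⟩ : Nonempty (Tau D) := inferInstance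
  obtain ⟨h1, h2⟩ := triv_mem_X B ht
  let σ : IrrCharacter G → ℤ := fun χ => if χ = B.Y q then -B.s else if χ ∈ B.X then B.δ χ else 1
  have hσX : ∀ χ ∈ B.X, σ χ = B.δ χ := fun χ hχ => by
    simp only [σ]
    rw [if_neg (fun (h : χ = B.Y q) => B.disj q (h ▸ hχ)), if_pos hχ]
  have hσY : σ (B.Y q) = - B.s := by simp only [σ]; rw [if_pos trivial]
  have hsum : ∀ f : IrrCharacter G → ℂ, ∑ χ ∈ B.X, (B.δ χ : ℂ) * f χ =
      f (triv G) + ∑ χ ∈ B.X.erase (triv G), (σ χ : ℂ) * f χ := by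
    intro f
    rw [← Finset.add_sum_erase B.X _ h1, h2, Int.cast_one, one_mul]
    congr 1
    exact Finset.sum_congr rfl fun χ hχ => by rw [hσX χ (Finset.mem_of_mem_erase hχ)]
  refine ⟨⟨⟨B.X.erase (triv G), B.Y q, σ, Finset.notMem_erase _ _, ?_, ?_, ?_, ?_, ?_, ?_, ?_, ?_, ?_, ?_, ?_⟩,
    Finset.univ.image B.Y, Finset.mem_image_of_mem _ (Finset.mem_univ _), ?_, ?_, ?_, ?_, ?_⟩⟩
  · intro h; exact B.disj q (h ▸ h1)
  · intro h; exact B.disj q (Finset.mem_of_mem_erase h)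
  · rw [Finset.card_erase_add_one h1, B.cardX]
  · intro χ
    simp only [σ]
    split_ifs with h3 h4
    · rcases B.s_pm with h | h <;> rw [h] <;> simp
    · exact B.δ_pm χ h4
    · exact Or.inl rfl
  · intro χ hχ
    rw [hσX χ (Finset.mem_of_mem_erase hχ)]
    exact B.degX χ (Finset.mem_of_mem_erase hχ)
  · rintro χ (hχ | rfl)
    · exact BRDeg.B0.dvdX B (Finset.mem_of_mem_erase hχ)
    · exact BRDeg.B0.dvdY B q
  · intro g hg
    have h3 := B.rel q g hg
    rw [hsum (fun χ => (χ : G → ℂ) g)] at h3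
    have h4 : ((triv G : IrrCharacter G) : G → ℂ) g = 1 := rfl
    rw [h4] at h3
    rw [hσY]; push_cast
    linear_combination -h3
  · intro χ hχ c hc
    rw [hσX χ (Finset.mem_of_mem_erase hχ)]
    exact B.valX χ (Finset.mem_of_mem_erase hχ) c hc
  · rintro χ (hχ | rfl) c d hc hcd
    · rw [B.valX χ (Finset.mem_of_mem_erase hχ) c hc, B.valX χ (Finset.mem_of_mem_erase hχ) d (by rw [← hcd]; exact hc)]
    · exact Y_cst B q c d hc hcd
  · refine le_trans (le_of_eq ?_) (sum_deg_sq B q)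
    rw [← Finset.add_sum_erase B.X _ h1, deg_triv, one_pow]
  · intro hinj f hf c hc
    rw [B0.col B hinj hf q hc, hsum, hσY]; push_cast; ring
  · rw [Finset.card_image_of_injective _ B.Yinj, Finset.card_univ, Nat.card_eq_fintype_card]
  · intro h
    obtain ⟨q', -, hq'⟩ := Finset.mem_image.1 h
    exact B.disj q' (hq' ▸ h1)
  · rw [Finset.disjoint_left]
    intro χ hχ h
    obtain ⟨q', -, rfl⟩ := Finset.mem_image.1 h
    exact B.disj q' (Finset.mem_of_mem_erase hχ)
  · intro χ hχ g hg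
    obtain ⟨q', -, rfl⟩ := Finset.mem_image.1 hχ
    exact Y_eq B q' q g hg
  · intro hinj χ hχ
    by_contra hcon
    push Not at hcon
    obtain ⟨e1, e2, e3⟩ := hcon
    apply hχ
    apply dvd_of_vanish hinj
    intro c hc
    apply vanish (D := D) hinj _ hc
    intro i
    apply B.dmO χ
    · intro h; exact e2 (Finset.mem_erase.2 ⟨e1, h⟩)
    · rintro q' rfl
      exact e3 (Finset.mem_image_of_mem _ (Finset.mem_univ _))

/-- one exceptional character -/
theorem exists_PBE_one (B : B0 D) (ht : Nat.card (Tau D) = 1) : Nonempty (PBE D) := by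
  classical
  obtain ⟨q⟩ : Nonempty (Tau D) := inferInstance
  have hsub : Subsingleton (Tau D) := Finite.card_le_one_iff_subsingleton.1 ht.le
  have hall : ∀ i : (ZMod p)ˣ, (i : Tau D) = q := fun i => Subsingleton.elim _ _
  let σ : IrrCharacter G → ℤ := fun χ => if χ = B.Y q then -B.s else if χ ∈ B.X then B.δ χ else 1
  have hσX : ∀ χ ∈ B.X, σ χ = B.δ χ := fun χ hχ => by
    simp only [σ]
    rw [if_neg (fun (h : χ = B.Y q) => B.disj q (h ▸ hχ)), if_pos hχ]
  have hσY : σ (B.Y q) = - B.s := by simp only [σ]; rw [if_pos trivial]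
  -- values on singular elements
  set W : Finset (IrrCharacter G) := insert (B.Y q) B.X with hW
  have hval : ∀ χ ∈ W, ∀ c : C, D.l c ≠ 0 → (χ : G → ℂ) c = σ χ := by
    intro χ hχ c hc
    rcases Finset.mem_insert.1 hχ with rfl | hχ
    · rw [B.valY q c hc, hσY]
      have h1 : ∑ i : (ZMod p)ˣ, (if (i : Tau D) = q then lam D (i : ZMod p) c else 0) = -1 := by
        rw [← sum_units_lam D hc]
        exact Finset.sum_congr rfl fun i _ => if_pos (hall i)
      rw [h1]; push_cast; ring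
    · rw [B.valX χ hχ c hc, hσX χ hχ]
  have hdeg : ∀ χ ∈ W, ∃ k : ℤ, (charDegree (χ : G → ℂ) : ℤ) = k * p + σ χ := by
    intro χ hχ
    rcases Finset.mem_insert.1 hχ with rfl | hχ
    · obtain ⟨k, hk⟩ := B.degY q
      have h1 := p_eq D
      rw [ht, mul_one] at h1
      refine ⟨k + B.s, ?_⟩
      have h2 : (Nat.card (κu D).range : ℤ) = p - 1 := by
        have : (p : ℤ) = Nat.card (κu D).range + 1 := by exact_mod_cast h1
        linarith
      rw [hk, hσY, h2]; ring
    · rw [hσX χ hχ]; exact B.degX χ hχ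
  have hdvd : ∀ χ ∈ W, charDegree (χ : G → ℂ) ∣ C.index := by
    intro χ hχ
    rcases Finset.mem_insert.1 hχ with rfl | hχ
    · exact BRDeg.B0.dvdY B q
    · exact BRDeg.B0.dvdX B hχ
  have htriv : triv G ∈ W ∧ σ (triv G) = 1 := by
    have h3 : triv G ∈ W := by
      by_contra h3
      rw [hW, Finset.mem_insert, not_or] at h3
      have h4 := B.dmO _ h3.2 (fun q' => by rw [Subsingleton.elim q' q]; exact h3.1) 1
      rw [dm_triv] at h4
      norm_num at h4
    refine ⟨h3, ?_⟩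
    have h5 : D.l ⟨D.u, D.PC D.uP⟩ ≠ 0 := by rw [D.l_u]; exact one_ne_zero
    have h4 := hval _ h3 ⟨D.u, D.PC D.uP⟩ h5
    have h6 : ((triv G : IrrCharacter G) : G → ℂ) (⟨D.u, D.PC D.uP⟩ : C) = 1 := rfl
    rw [h6] at h4
    exact_mod_cast h4.symm
  have hcW : W.card = Nat.card (κu D).range + 1 := by
    rw [hW, Finset.card_insert_of_notMem (B.disj q), B.cardX]
  have he : 0 < Nat.card (κu D).range := Nat.card_pos
  have hWsum : ∀ f : IrrCharacter G → ℂ, ∑ χ ∈ B.X, (B.δ χ : ℂ) * f χ - B.s * f (B.Y q) = ∑ χ ∈ W, (σ χ : ℂ) * f χ := by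
    intro f
    rw [hW, Finset.sum_insert (B.disj q), hσY, Finset.sum_congr rfl (fun χ hχ => by rw [← hσX χ hχ])]
    push_cast; ring
  have hrel : ∀ g : G, ¬ p ∣ orderOf g → ∑ χ ∈ W, (σ χ : ℂ) * (χ : G → ℂ) g = 0 := by
    intro g hg
    rw [← hWsum, ← B.rel q g hg, sub_self]
  -- choose `η`
  obtain ⟨η, hηW⟩ : (W.erase (triv G)).Nonempty := by
    rw [← Finset.card_pos, Finset.card_erase_of_mem htriv.1, hcW]; omega
  have hη1 := (Finset.mem_erase.1 hηW).1
  have hη2 := (Finset.mem_erase.1 hηW).2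
  set X := (W.erase (triv G)).erase η with hXdef
  have hXW : ∀ χ ∈ X, χ ∈ W := fun χ hχ => Finset.mem_of_mem_erase (Finset.mem_of_mem_erase hχ)
  have hsum : ∀ f : IrrCharacter G → ℂ, ∑ χ ∈ W, (σ χ : ℂ) * f χ =
      f (triv G) + ∑ χ ∈ X, (σ χ : ℂ) * f χ + σ η * f η := by
    intro f
    rw [← Finset.add_sum_erase W _ htriv.1, ← Finset.add_sum_erase (W.erase (triv G)) _ hηW, htriv.2,
      Int.cast_one, one_mul]
    ring
  refine ⟨⟨⟨X, η, σ, ?_, hη1, Finset.notMem_erase _ _, ?_, ?_, fun χ hχ => hdeg χ (hXW χ hχ), ?_, ?_,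
    fun χ hχ => hval χ (hXW χ hχ), ?_, ?_, ?_⟩, {η}, Finset.mem_singleton_self _, ?_, ?_, ?_, ?_, ?_⟩⟩
  · intro h
    exact (Finset.notMem_erase (triv G) W) (Finset.mem_of_mem_erase h)
  · rw [Finset.card_erase_of_mem hηW, Finset.card_erase_of_mem htriv.1, hcW]; omega
  · intro χ
    simp only [σ]
    split_ifs with h3 h4
    · rcases B.s_pm with h | h <;> rw [h] <;> simp
    · exact B.δ_pm χ h4
    · exact Or.inl rfl
  · rintro χ (hχ | rfl)
    · exact hdvd χ (hXW χ hχ)
    · exact hdvd _ hη2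
  · intro g hg
    have h3 := hrel g hg
    rw [hsum (fun χ => (χ : G → ℂ) g)] at h3
    exact h3
  · rintro χ (hχ | rfl) c d hc hcd
    · rw [hval χ (hXW χ hχ) c hc, hval χ (hXW χ hχ) d (by rw [← hcd]; exact hc)]
    · rw [hval _ hη2 c hc, hval _ hη2 d (by rw [← hcd]; exact hc)]
  · refine le_trans (le_of_eq ?_) (sum_deg_sq B q)
    rw [ht, one_mul, one_mul]
    have h3 : ∑ χ ∈ W, charDegree (χ : G → ℂ) ^ 2 = charDegree (B.Y q : G → ℂ) ^ 2 + ∑ χ ∈ B.X, charDegree (χ : G → ℂ) ^ 2 := by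
      rw [hW, Finset.sum_insert (B.disj q)]
    rw [← Finset.add_sum_erase W _ htriv.1, ← Finset.add_sum_erase (W.erase (triv G)) _ hηW, deg_triv, one_pow] at h3
    rw [← hXdef] at h3
    omega
  · intro hinj f hf c hc
    rw [B0.col B hinj hf q hc, hWsum, hsum]
  · rw [Finset.card_singleton, ht]
  · rw [Finset.mem_singleton]; exact fun h => hη1 h.symm
  · rw [Finset.disjoint_singleton_right]; exact Finset.notMem_erase _ _
  · intro χ hχ g hg
    rw [Finset.mem_singleton.1 hχ]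
  · intro hinj χ hχ
    by_contra hcon
    push Not at hcon
    obtain ⟨e1, e2, e3⟩ := hcon
    rw [Finset.mem_singleton] at e3
    have e4 : χ ∉ W := by
      intro h
      apply e2
      change χ ∈ (W.erase (triv G)).erase η
      rw [Finset.mem_erase, Finset.mem_erase]
      exact ⟨e3, e1, h⟩
    rw [hW, Finset.mem_insert, not_or] at e4
    apply hχ
    apply dvd_of_vanish hinj
    intro c hc
    apply vanish (D := D) hinj _ hc
    intro i
    apply B.dmO χ e4.2
    intro q'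
    rw [Subsingleton.elim q' q]
    exact e4.1

theorem exists_PBE (Q : Sylow p G) (hQ : Nat.card Q = p) :
    ∃ (D : Loc p (Q : Subgroup G) (Subgroup.normalizer ((Q : Subgroup G) : Set G))
      (Subgroup.centralizer ((Q : Subgroup G) : Set G)))
      (hC : Fintype (Subgroup.centralizer ((Q : Subgroup G) : Set G))), Nonempty (PBE D) := by
  obtain ⟨D, hC, ⟨B⟩⟩ := exists_B0 Q hQ
  refine ⟨D, hC, ?_⟩
  rcases Nat.lt_or_ge 1 (Nat.card (Tau D)) with h | h
  · exact exists_PBE_two B h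
  · have h0 : 0 < Nat.card (Tau D) := Nat.card_pos
    exact exists_PBE_one B (by omega)

theorem hinj_of (hC : Nat.card C = p) : ∀ c : C, D.l c = 0 → c = 1 := by
  intro c hc
  have h1 := (D.l_reg c).1 hc
  have h2 : orderOf c ∣ p := by rw [← hC]; exact orderOf_dvd_natCard c
  rw [Subgroup.orderOf_coe] at h1
  rcases (Nat.dvd_prime hp.out).1 h2 with h3 | h3
  · exact orderOf_eq_one_iff.1 h3
  · exact absurd (by rw [h3]) h1

end Cfsg.Agent.Lib.PBExt
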