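import Mathlib
import Cfsg.Agent.Lib.PBExt
import Cfsg.Agent.Lib.StructConst

/-!
# Products of two conjugate involutions of order `p` (helper54)
-/

set_option autoImplicit false
set_option linter.all false

namespace Cfsg.Agent.Lib.PBStruct

open Cfsg Cfsg.Agent.Lib.BlockRing Cfsg.Agent.Lib.BlockGA Cfsg.Agent.Lib.BlockIdem
open Cfsg.Agent.Lib.DefOneLoc Cfsg.Agent.Lib.DefOneOrd Cfsg.Agent.Lib.CharBasic Cfsg.Agent.Lib.DefOneGram
open Cfsg.Agent.Lib.DefOne Cfsg.Agent.Lib.BlockThird Cfsg.Agent.Lib.DefOnePrin Cfsg.Agent.Lib.BRB0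
open Cfsg.Agent.Lib.BRNum Cfsg.Agent.Lib.BRDeg Cfsg.Agent.Lib.BRCore Cfsg.Agent.Lib.PBData
open Cfsg.Agent.Lib.PBExt
open scoped ComplexConjugate

universe u

section

variable {G : Type u} [Group G] [Fintype G]

open scoped Classical in
theorem sumF (w z : G) (hw : w * w = 1) :
    ∑ a : G, ∑ b : G, (if a * w * a⁻¹ * (b * w * b⁻¹)⁻¹ = z then (1 : ℂ) else 0) =
      Nat.card G * ∑ χ : IrrCharacter G, ((χ : G → ℂ) w ^ 2 / (χ : G → ℂ) 1) * conj ((χ : G → ℂ) z) := by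
  have h := StructConst.sum_sum_conj (fun g : G => if g = z then (1 : ℂ) else 0) w w
  have hG0 : (Nat.card G : ℂ) ≠ 0 := by exact_mod_cast Nat.card_pos.ne'
  have hwi : w⁻¹ = w := inv_eq_of_mul_eq_one_left hw
  rw [h, Finset.mul_sum, Finset.mul_sum]
  refine Finset.sum_congr rfl fun χ _ => ?_
  have h1 : conj ((χ : G → ℂ) w) = (χ : G → ℂ) w := by
    rw [← χ.2.inv w, hwi]
  have h2 : classInner (fun g : G => if g = z then (1 : ℂ) else 0) (χ : G → ℂ) = (Nat.card G : ℂ)⁻¹ * conj ((χ : G → ℂ) z) := by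
    rw [classInner_def]
    congr 1
    rw [Finset.sum_eq_single z]
    · simp
    · intro g _ hg; simp [hg]
    · intro h; exact absurd (Finset.mem_univ _) h
  rw [h1, h2]
  field_simp

open scoped Classical in
theorem count_conj (w x : G) : (∑ b : G, (if b * w * b⁻¹ = x then (1 : ℂ) else 0)) =
    if IsConj w x then (Nat.card (Subgroup.centralizer ({w} : Set G)) : ℂ) else 0 := by
  rw [Finset.sum_boole]
  split_ifs with h
  · obtain ⟨g, hg⟩ := isConj_iff.1 h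
    congr 1
    rw [← Fintype.card_coe, ← Nat.card_eq_fintype_card]
    refine Nat.card_congr
      { toFun := fun b => ⟨g⁻¹ * b.1, ?_⟩
        invFun := fun c => ⟨g * c.1, ?_⟩
        left_inv := fun b => Subtype.ext (by simp)
        right_inv := fun c => Subtype.ext (by simp) }
    · have hb := (Finset.mem_filter.1 b.2).2
      rw [Subgroup.mem_centralizer_singleton_iff]
      calc g⁻¹ * b.1 * w = g⁻¹ * (b.1 * w * (b.1)⁻¹) * b.1 := by group
        _ = g⁻¹ * (g * w * g⁻¹) * b.1 := by rw [hb, hg]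
        _ = w * (g⁻¹ * b.1) := by group
    · have hc := Subgroup.mem_centralizer_singleton_iff.1 c.2
      rw [Finset.mem_filter]
      refine ⟨Finset.mem_univ _, ?_⟩
      rw [← hg]
      calc g * c.1 * w * (g * c.1)⁻¹ = g * (c.1 * w) * (c.1)⁻¹ * g⁻¹ := by group
        _ = g * (w * c.1) * (c.1)⁻¹ * g⁻¹ := by rw [hc]
        _ = g * w * g⁻¹ := by group
  · rw [Nat.cast_eq_zero, Finset.card_eq_zero, Finset.filter_eq_empty_iff]
    intro b _ hb
    exact h (isConj_iff.2 ⟨b, hb⟩)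

end

variable {G : Type u} [Group G] [Fintype G] {p : ℕ} [hp : Fact p.Prime] {P N C : Subgroup G}
  {D : Loc p P N C} [Fintype C]

theorem l_u_ne (D : Loc p P N C) : D.l ⟨D.u, D.PC D.uP⟩ ≠ 0 := by rw [D.l_u]; exact one_ne_zero

theorem reg_of_invol (hp2 : p ≠ 2) {w : G} (hw : w * w = 1) : ¬ p ∣ orderOf w := by
  intro h
  have h1 : orderOf w ∣ 2 := orderOf_dvd_of_pow_eq_one (by rw [pow_two]; exact hw)
  have h2 := (Nat.prime_dvd_prime_iff_eq hp.out Nat.prime_two).1 (h.trans h1)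
  exact hp2 h2

/-- the sum over the block -/
theorem sum_block (B : PB D) (hinj : ∀ c : C, D.l c = 0 → c = 1) (hp2 : p ≠ 2) {w : G} (hw : w * w = 1) :
    ∑ χ : IrrCharacter G, ((χ : G → ℂ) w ^ 2 / (χ : G → ℂ) 1) * conj ((χ : G → ℂ) D.u) =
      1 + ∑ χ ∈ B.X, (B.σ χ : ℂ) * ((χ : G → ℂ) w ^ 2 / (χ : G → ℂ) 1) +
        B.σ B.η * ((B.η : G → ℂ) w ^ 2 / (B.η : G → ℂ) 1) := by
  have h := B.col hinj (fun χ => (χ : G → ℂ) w ^ 2 / (χ : G → ℂ) 1) (by
    intro χ χ' h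
    change (χ : G → ℂ) w ^ 2 / (χ : G → ℂ) 1 = (χ' : G → ℂ) w ^ 2 / (χ' : G → ℂ) 1
    rw [h w (reg_of_invol hp2 hw), h 1 (by rw [orderOf_one]; exact hp.out.one_lt.ne' ∘ Nat.dvd_one.1)])
    ⟨D.u, D.PC D.uP⟩ (l_u_ne D)
  have h2 : ((triv G : IrrCharacter G) : G → ℂ) w ^ 2 / ((triv G : IrrCharacter G) : G → ℂ) 1 = 1 := by
    change (1 : ℂ) ^ 2 / 1 = 1
    norm_num
  simp only [h2] at h
  exact h

open scoped Classical in
theorem inv_of_eq {w z a b : G} (hw : w * w = 1) (h : a * w * a⁻¹ * (b * w * b⁻¹)⁻¹ = z) :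
    a * w * a⁻¹ * z * (a * w * a⁻¹)⁻¹ = z⁻¹ := by
  have h1 : (a * w * a⁻¹) * (a * w * a⁻¹) = 1 := by
    calc (a * w * a⁻¹) * (a * w * a⁻¹) = a * (w * w) * a⁻¹ := by group
      _ = 1 := by rw [hw]; group
  have h2 : (b * w * b⁻¹) * (b * w * b⁻¹) = 1 := by
    calc (b * w * b⁻¹) * (b * w * b⁻¹) = b * (w * w) * b⁻¹ := by group
      _ = 1 := by rw [hw]; group
  set x := a * w * a⁻¹
  set y := b * w * b⁻¹
  have h1' : x⁻¹ = x := inv_eq_of_mul_eq_one_left h1
  have h2' : y⁻¹ = y := inv_eq_of_mul_eq_one_left h2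
  rw [h2'] at h
  rw [← h, mul_inv_rev x y, h1', h2']
  calc x * (x * y) * x = (x * x) * (y * x) := by group
    _ = y * x := by rw [h1, one_mul]

/-- no conjugate of `w` inverts `u` -/
theorem F_zero (B : PB D) (hinj : ∀ c : C, D.l c = 0 → c = 1) (hp2 : p ≠ 2) {w : G} (hw : w * w = 1)
    (h0 : ∀ x, IsConj w x → x * D.u * x⁻¹ ≠ D.u⁻¹) :
    1 + ∑ χ ∈ B.X, (B.σ χ : ℂ) * ((χ : G → ℂ) w ^ 2 / (χ : G → ℂ) 1) +
        B.σ B.η * ((B.η : G → ℂ) w ^ 2 / (B.η : G → ℂ) 1) = 0 := by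
  classical
  rw [← sum_block B hinj hp2 hw]
  have h := sumF w D.u hw
  have hG0 : (Nat.card G : ℂ) ≠ 0 := by exact_mod_cast Nat.card_pos.ne'
  rw [Finset.sum_eq_zero] at h
  · exact (mul_eq_zero.1 h.symm).resolve_left hG0
  · intro a _
    apply Finset.sum_eq_zero
    intro b _
    rw [if_neg]
    intro hab
    exact h0 _ (isConj_iff.2 ⟨a, rfl⟩) (inv_of_eq hw hab)

/-- `w` inverts `u` -/
theorem F_one (B : PB D) (hinj : ∀ c : C, D.l c = 0 → c = 1) (hp2 : p ≠ 2) {w : G} (hw : w * w = 1)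
    (h0 : w * D.u * w⁻¹ = D.u⁻¹) :
    (Nat.card G : ℂ) * (1 + ∑ χ ∈ B.X, (B.σ χ : ℂ) * ((χ : G → ℂ) w ^ 2 / (χ : G → ℂ) 1) +
        B.σ B.η * ((B.η : G → ℂ) w ^ 2 / (B.η : G → ℂ) 1)) =
      (Nat.card (Subgroup.centralizer ({w} : Set G)) : ℂ) ^ 2 * p := by
  classical
  rw [← sum_block B hinj hp2 hw, ← sumF w D.u hw]
  have hwi : w⁻¹ = w := inv_eq_of_mul_eq_one_left hw
  have hup : D.u ^ p = 1 := orderOf_dvd_iff_pow_eq_one.1 (by rw [D.ordu])
  have hodd : Odd p := hp.out.odd_of_ne_two hp2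
  obtain ⟨k, hk⟩ := hodd
  have hwu : ∀ i : ℕ, w * D.u ^ i * w⁻¹ = (D.u ^ i)⁻¹ := by
    intro i
    rw [← conj_pow, h0, inv_pow]
  -- elements inverting `u`
  have hinv : ∀ x : G, x * D.u * x⁻¹ = D.u⁻¹ ↔ ∃ i : ℕ, i < p ∧ x = D.u ^ i * w := by
    intro x
    constructor
    · intro hx
      have h1 : Commute D.u (x * w) := by
        rw [commute_iff_eq]
        have e1 : x * w * D.u = D.u * (x * w) := by
          calc x * w * D.u = x * (w * D.u * w⁻¹) * w := by group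
            _ = x * D.u⁻¹ * w := by rw [h0]
            _ = (x * D.u * x⁻¹)⁻¹ * x * w := by group
            _ = D.u * (x * w) := by rw [hx]; group
        exact e1.symm
      have hune : D.u ≠ 1 := by
        intro h2
        have h3 := D.ordu
        rw [h2, orderOf_one] at h3
        exact hp.out.one_lt.ne h3
      have h2 : x * w ∈ C := (D.comm _ D.u D.uP hune).2 h1
      obtain ⟨y, v, hy, hv⟩ := D.fac ⟨x * w, h2⟩
      have hv1 := hinj v hv
      rw [hv1] at hy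
      have hy' : x * w = y := by
        have : (x * w : G) = y * ((1 : C) : G) := hy
        rw [this]; simp
      obtain ⟨i, hi⟩ := D.gen y y.2
      refine ⟨i % p, Nat.mod_lt _ hp.out.pos, ?_⟩
      have hi' : D.u ^ (i % p) = D.u ^ i := by
        conv_rhs => rw [← Nat.mod_add_div i p, pow_add, pow_mul, hup, one_pow, mul_one]
      rw [hi', ← hi, ← hy', mul_assoc, hw, mul_one]
    · rintro ⟨i, -, rfl⟩
      calc D.u ^ i * w * D.u * (D.u ^ i * w)⁻¹ = D.u ^ i * (w * D.u * w⁻¹) * (D.u ^ i)⁻¹ := by group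
        _ = D.u⁻¹ := by rw [h0]; group
  -- they are conjugate to `w`
  have hcj : ∀ i : ℕ, IsConj w (D.u ^ i * w) := by
    intro i
    rw [isConj_iff]
    refine ⟨D.u ^ (i * (k + 1)), ?_⟩
    have e1 : w * (D.u ^ (i * (k + 1)))⁻¹ = D.u ^ (i * (k + 1)) * w := by
      have := hwu (i * (k + 1))
      calc w * (D.u ^ (i * (k + 1)))⁻¹ = w * (w * D.u ^ (i * (k + 1)) * w⁻¹) := by rw [this]
        _ = (w * w) * D.u ^ (i * (k + 1)) * w⁻¹ := by group
        _ = D.u ^ (i * (k + 1)) * w := by rw [hw, one_mul, hwi]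
    rw [mul_assoc, e1, ← mul_assoc, ← pow_add]
    congr 1
    have e2 : i * (k + 1) + i * (k + 1) = i + p * i := by rw [hk]; ring
    rw [e2, pow_add, pow_mul, hup, one_pow, mul_one]
  have hconj_inv : ∀ a : G, (∑ b : G, (if a * w * a⁻¹ * (b * w * b⁻¹)⁻¹ = D.u then (1 : ℂ) else 0)) =
      (Nat.card (Subgroup.centralizer ({w} : Set G)) : ℂ) *
        (if a * w * a⁻¹ * D.u * (a * w * a⁻¹)⁻¹ = D.u⁻¹ then (1 : ℂ) else 0) := by
    intro a
    by_cases ha : a * w * a⁻¹ * D.u * (a * w * a⁻¹)⁻¹ = D.u⁻¹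
    · rw [if_pos ha, mul_one]
      obtain ⟨i, hi, hi'⟩ := (hinv _).1 ha
      have e1 : ∀ b : G, (a * w * a⁻¹ * (b * w * b⁻¹)⁻¹ = D.u) ↔ (b * w * b⁻¹ = D.u⁻¹ * (a * w * a⁻¹)) := by
        intro b
        constructor
        · intro h
          rw [← h]; group
        · intro h
          rw [h]; group
      rw [Finset.sum_congr rfl (fun b _ => if_congr (e1 b) rfl rfl), count_conj, if_pos]
      rw [hi']
      have e2 : D.u⁻¹ * (D.u ^ i * w) = D.u ^ (i + (p - 1)) * w := by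
        have hup1 : D.u ^ (p - 1) = D.u⁻¹ := by
          rw [eq_inv_iff_mul_eq_one, ← pow_succ, Nat.sub_add_cancel hp.out.one_le, hup]
        rw [add_comm, pow_add, hup1, mul_assoc]
      rw [e2]
      exact hcj _
    · rw [if_neg ha, mul_zero]
      apply Finset.sum_eq_zero
      intro b _
      rw [if_neg]
      intro hab
      exact ha (inv_of_eq hw hab)
  rw [Finset.sum_congr rfl (fun a _ => hconj_inv a), ← Finset.mul_sum]
  have h2 : ∀ a : G, (if a * w * a⁻¹ * D.u * (a * w * a⁻¹)⁻¹ = D.u⁻¹ then (1 : ℂ) else 0) =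
      ∑ i ∈ Finset.range p, (if a * w * a⁻¹ = D.u ^ i * w then (1 : ℂ) else 0) := by
    intro a
    by_cases ha : a * w * a⁻¹ * D.u * (a * w * a⁻¹)⁻¹ = D.u⁻¹
    · rw [if_pos ha]
      obtain ⟨i, hi, hi'⟩ := (hinv _).1 ha
      rw [Finset.sum_eq_single i]
      · rw [if_pos hi']
      · intro j hj hji
        rw [if_neg]
        rw [hi']
        intro h
        have h3 := mul_right_cancel h
        have h4 : i ≡ j [MOD orderOf D.u] := pow_eq_pow_iff_modEq.1 h3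
        rw [D.ordu] at h4
        exact hji (Nat.ModEq.eq_of_lt_of_lt h4 hi (Finset.mem_range.1 hj)).symm
      · intro h; exact absurd (Finset.mem_range.2 hi) h
    · rw [if_neg ha]
      symm
      apply Finset.sum_eq_zero
      intro i hi
      rw [if_neg]
      intro h
      exact ha ((hinv _).2 ⟨i, Finset.mem_range.1 hi, h⟩)
  rw [Finset.sum_congr rfl (fun a _ => h2 a), Finset.sum_comm]
  rw [Finset.sum_congr rfl (fun i _ => by rw [count_conj w (D.u ^ i * w), if_pos (hcj i)])]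
  rw [Finset.sum_const, Finset.card_range, nsmul_eq_mul]
  ring

end Cfsg.Agent.Lib.PBStruct
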