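import Mathlib
import Cfsg.Agent.Lib.PBSol
import Cfsg.Agent.Lib.PBStruct
import Cfsg.Agent.Lib.ColTools4

/-!
# The signed degrees in the principal block: extraction of characters (helper54)
-/

set_option autoImplicit false
set_option linter.all false

namespace Cfsg.Agent.Lib.PBFull

open Cfsg Subgroup Cfsg.Agent.Lib.DefOneLoc Cfsg.Agent.Lib.DefOneOrd Cfsg.Agent.Lib.CharBasic
open Cfsg.Agent.Lib.DefOneGram Cfsg.Agent.Lib.DefOne Cfsg.Agent.Lib.BRB0 Cfsg.Agent.Lib.BRCore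
open Cfsg.Agent.Lib.PBData Cfsg.Agent.Lib.DefOnePrin Cfsg.Agent.Lib.BlockThird Cfsg.Agent.Lib.SmallSimple
open Cfsg.Agent.Lib.PBNum Cfsg.Agent.Lib.PBExt Cfsg.Agent.Lib.PBStruct
open scoped ComplexConjugate

universe u

section Mul

variable {α β : Type*}

theorem ext1 {s : Multiset α} {f : α → β} {a : β} {t : Multiset β} (h : s.map f = a ::ₘ t) :
    ∃ x s', s = x ::ₘ s' ∧ f x = a ∧ s'.map f = t := by
  classical
  obtain ⟨x, hx, hxa, hs⟩ := (Multiset.map_eq_cons f s t a).2 h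
  exact ⟨x, s.erase x, (Multiset.cons_erase hx).symm, hxa, hs⟩

theorem ext2 {s : Multiset α} {f : α → β} {a b : β} (h : s.map f = a ::ₘ b ::ₘ 0) :
    ∃ x y, s = x ::ₘ y ::ₘ 0 ∧ f x = a ∧ f y = b := by
  obtain ⟨x, s1, rfl, hx, h1⟩ := ext1 h
  obtain ⟨y, s2, rfl, hy, h2⟩ := ext1 h1
  rw [Multiset.map_eq_zero] at h2
  subst h2
  exact ⟨x, y, rfl, hx, hy⟩

theorem ext4 {s : Multiset α} {f : α → β} {a b c d : β} (h : s.map f = a ::ₘ b ::ₘ c ::ₘ d ::ₘ 0) :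
    ∃ x y z t, s = x ::ₘ y ::ₘ z ::ₘ t ::ₘ 0 ∧ f x = a ∧ f y = b ∧ f z = c ∧ f t = d := by
  obtain ⟨x, s1, rfl, hx, h1⟩ := ext1 h
  obtain ⟨y, s2, rfl, hy, h2⟩ := ext1 h1
  obtain ⟨z, t, rfl, hz, ht⟩ := ext2 h2
  exact ⟨x, y, z, t, rfl, hx, hy, hz, ht⟩

end Mul

section

variable {G : Type u} [Group G] [Fintype G] {p : ℕ} [hp : Fact p.Prime]
variable {Q : Sylow p G} [Fintype (centralizer ((Q : Subgroup G) : Set G))]
  {D : Loc p (Q : Subgroup G) (normalizer ((Q : Subgroup G) : Set G)) (centralizer ((Q : Subgroup G) : Set G))}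

/-- all signed degrees of nontrivial characters -/
noncomputable def full (B : PB D) : Multiset ℤ := (B.η ::ₘ B.X.val).map (fun χ => sd B χ)

theorem full_eq (B : PB D) {l : List ℤ} (hl : (l : Multiset ℤ) = sds B) :
    full B = (-(1 + l.sum)) ::ₘ (l : Multiset ℤ) := by
  rw [full, Multiset.map_cons, hl, sds, ← sds, sd_eta, ← hl, Multiset.sum_coe]

theorem one_reg : ¬ p ∣ orderOf (1 : G) := by
  rw [orderOf_one]; exact hp.out.one_lt.ne' ∘ Nat.dvd_one.1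

theorem deg_eq_of_mem_E (B : PBE D) {χ : IrrCharacter G} (h : χ ∈ B.E) :
    charDegree (χ : G → ℂ) = charDegree (B.η : G → ℂ) := by
  have h1 := B.eqE χ h 1 one_reg
  rw [← BlockDeg.charDegree_cast_irr, ← BlockDeg.charDegree_cast_irr] at h1
  exact_mod_cast h1

theorem mem_full (B : PBE D) (hinj : ∀ c : centralizer ((Q : Subgroup G) : Set G), D.l c = 0 → c = 1)
    {l : List ℤ} (hl : (l : Multiset ℤ) = sds B.toPB) {χ : IrrCharacter G} (h1 : χ ≠ triv G)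
    (h2 : ¬ p ∣ charDegree (χ : G → ℂ)) : charDegree (χ : G → ℂ) ∈ (1 + l.sum).natAbs :: l.map Int.natAbs := by
  rw [List.mem_cons]
  rcases B.all hinj χ h2 with h | h | h
  · exact absurd h h1
  · right
    rw [List.mem_map]
    refine ⟨sd B.toPB χ, ?_, natAbs_sd _ _⟩
    have h3 : sd B.toPB χ ∈ sds B.toPB := (mem_sds B.toPB).2 ⟨χ, h, rfl⟩
    rw [← hl] at h3
    exact h3
  · left
    rw [deg_eq_of_mem_E B h, ← natAbs_sd B.toPB, sd_eta, Int.natAbs_neg, ← hl, Multiset.sum_coe]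

/-- the block sum over the full multiset -/
theorem sum_full (B : PB D) (F : IrrCharacter G → ℂ) :
    ∑ χ ∈ B.X, (B.σ χ : ℂ) * F χ + B.σ B.η * F B.η =
      ((B.η ::ₘ B.X.val).map (fun χ => (B.σ χ : ℂ) * F χ)).sum := by
  rw [Multiset.map_cons, Multiset.sum_cons, add_comm]
  rfl

theorem sigma_of (B : PB D) {χ : IrrCharacter G} {d : ℤ} (h : sd B χ = d) (hd : d ≠ 0) :
    charDegree (χ : G → ℂ) = d.natAbs ∧ B.σ χ = d.sign := by
  have h1 := natAbs_sd B χ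
  rw [h] at h1
  refine ⟨h1.symm, ?_⟩
  have h2 : (0 : ℤ) < charDegree (χ : G → ℂ) := by
    rw [← h1]
    omega
  rw [← h, sd]
  rcases B.pm χ with h3 | h3
  · rw [h3, one_mul, Int.sign_eq_one_of_pos h2]
  · rw [h3, neg_one_mul, Int.sign_neg, Int.sign_eq_one_of_pos h2]

/-- an element inverting `u` normalizes the Sylow subgroup -/
theorem mem_norm {x : G} (hx : x * D.u * x⁻¹ = D.u⁻¹) : x ∈ normalizer ((Q : Subgroup G) : Set G) := by
  apply D.ti x D.u (D.PC D.uP)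
  · rw [D.ordu]
  · rw [hx]; exact inv_mem (D.PC D.uP)

theorem not_inv_of_odd {x : G} (h2 : orderOf x = 2) (hodd : ¬ 2 ∣ Nat.card (normalizer ((Q : Subgroup G) : Set G))) :
    x * D.u * x⁻¹ ≠ D.u⁻¹ := by
  intro hx
  apply hodd
  have h1 := mem_norm hx
  have h3 := Subgroup.orderOf_dvd_natCard _ h1
  rwa [h2] at h3

end

end Cfsg.Agent.Lib.PBFull
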