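import Mathlib
import Cfsg.Agent.Lib.PBFull

/-!
# The characters of a simple group of order 2520 (helper54)
-/

set_option autoImplicit false
set_option linter.all false

namespace Cfsg.Agent.Lib.A7Chars

open Cfsg Subgroup Cfsg.Agent.Lib.DefOneLoc Cfsg.Agent.Lib.DefOneOrd Cfsg.Agent.Lib.CharBasic
open Cfsg.Agent.Lib.DefOneGram Cfsg.Agent.Lib.DefOne Cfsg.Agent.Lib.BRB0 Cfsg.Agent.Lib.BRCore
open Cfsg.Agent.Lib.PBData Cfsg.Agent.Lib.DefOnePrin Cfsg.Agent.Lib.BlockThird Cfsg.Agent.Lib.SmallSimple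
open Cfsg.Agent.Lib.PBNum Cfsg.Agent.Lib.PBExt Cfsg.Agent.Lib.PBStruct Cfsg.Agent.Lib.PBFull
open scoped ComplexConjugate

universe u

instance fact7 : Fact (Nat.Prime 7) := ⟨by norm_num⟩
instance fact5 : Fact (Nat.Prime 5) := ⟨by norm_num⟩

def f5 (d : ℕ) : Bool := d % 7 == 0 || [3,4,6,8,10,15,20,24].contains d
def f7 (d : ℕ) : Bool := d % 5 == 0 || [4,6,24,14,21].contains d
def f5' (d : ℕ) : Bool := d % 7 == 0 || [4,6,15,20,10].contains d

theorem opts7 : optsL (fun _ => true) 7 360 50 = [(120, 3, [-6, 8]), (120, 3, [-6, 15]), (120, 3, [8, 15]),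
    (120, 3, [15, -20])] := by decide +kernel

theorem opts5 : optsL f5 5 504 50 = [(126, 4, [-4, -4, -14]), (126, 4, [-4, -4, 21]), (126, 4, [-4, 6, 21]),
    (126, 4, [-4, 6, -24]), (126, 4, [-4, -14, 21]), (126, 4, [-4, 21, -24]), (126, 4, [6, -14, -14]),
    (126, 4, [6, -14, 21]), (126, 4, [6, 21, -24]), (126, 4, [-14, -14, 21])] := by decide +kernel

theorem opts7' : optsL f7 7 360 50 = [(120, 3, [-6, 15]), (120, 3, [15, -20])] := by decide +kernel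

theorem opts5' : optsL f5' 5 504 50 = [(126, 4, [-4, -4, -14]), (126, 4, [-4, -4, 21]), (126, 4, [-4, -14, 21]),
    (126, 4, [6, -14, -14]), (126, 4, [6, -14, 21]), (126, 4, [-14, -14, 21])] := by decide +kernel

section

variable {G : Type u} [Group G] [Fintype G] [IsSimpleGroup G] (hG : ¬ IsMulCommutative G)
  (h : Nat.card G = 2520)

include hG h

variable {Q7 : Sylow 7 G} [Fintype (centralizer ((Q7 : Subgroup G) : Set G))]
  {D7 : Loc 7 (Q7 : Subgroup G) (normalizer ((Q7 : Subgroup G) : Set G)) (centralizer ((Q7 : Subgroup G) : Set G))}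
  {Q5 : Sylow 5 G} [Fintype (centralizer ((Q5 : Subgroup G) : Set G))]
  {D5 : Loc 5 (Q5 : Subgroup G) (normalizer ((Q5 : Subgroup G) : Set G)) (centralizer ((Q5 : Subgroup G) : Set G))}

/-- first stage -/
theorem stage1 (B7 : PBE D7) : Nat.card (normalizer ((Q7 : Subgroup G) : Set G)) = 21 ∧
    Nat.card (centralizer ((Q7 : Subgroup G) : Set G)) = 7 ∧
    (∀ χ : IrrCharacter G, χ ≠ triv G → f5 (charDegree (χ : G → ℂ)) = true) := by
  obtain ⟨hQ, e, c, l, hN, hC, he, he1, hecn, hmem, hl⟩ := dataL hG (M := 360) 50 (fun _ => true) (by rw [h])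
    (by norm_num) (by norm_num) B7.toPB (fun _ _ => rfl) (by decide +kernel)
  rw [opts7] at hmem
  have hec : e = 3 ∧ c = 1 ∧ (l = [-6, 8] ∨ l = [-6, 15] ∨ l = [8, 15] ∨ l = [15, -20]) := by
    simp only [List.mem_cons, Prod.mk.injEq, List.not_mem_nil, or_false] at hmem
    rcases hmem with ⟨h1, h2, h3⟩ | ⟨h1, h2, h3⟩ | ⟨h1, h2, h3⟩ | ⟨h1, h2, h3⟩ <;>
    · rw [h1, h2] at hecn
      exact ⟨h2, by omega, by simp [h3]⟩
  obtain ⟨rfl, rfl, hl'⟩ := hec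
  refine ⟨hN, hC, fun χ hχ => ?_⟩
  by_cases h7 : 7 ∣ charDegree (χ : G → ℂ)
  · rw [f5, Nat.mod_eq_zero_of_dvd h7]; rfl
  · have h1 := mem_full B7 (hinj_of (by rw [hC])) hl hχ h7
    rcases hl' with rfl | rfl | rfl | rfl <;>
    · revert h1
      generalize charDegree (χ : G → ℂ) = d
      revert d
      decide

/-- second stage -/
theorem stage2 (B7 : PBE D7) (B5 : PBE D5) : Nat.card (normalizer ((Q5 : Subgroup G) : Set G)) = 20 ∧
    Nat.card (centralizer ((Q5 : Subgroup G) : Set G)) = 5 ∧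
    (∀ χ : IrrCharacter G, χ ≠ triv G → f7 (charDegree (χ : G → ℂ)) = true) := by
  obtain ⟨-, -, hf⟩ := stage1 hG h B7
  obtain ⟨hQ, e, c, l, hN, hC, he, he1, hecn, hmem, hl⟩ := dataL hG (M := 504) 50 f5 (by rw [h])
    (by norm_num) (by norm_num) B5.toPB hf (by decide +kernel)
  rw [opts5] at hmem
  have hec : e = 4 ∧ c = 1 ∧ (l ∈ [[-4, -4, -14], [-4, -4, 21], [-4, 6, 21], [-4, 6, -24],
    [-4, -14, 21], [-4, 21, -24], [6, -14, -14], [6, -14, 21], [6, 21, -24], [-14, -14, 21]]) := by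
    simp only [List.mem_cons, Prod.mk.injEq, List.not_mem_nil, or_false] at hmem ⊢
    rcases hmem with ⟨h1, h2, h3⟩ | ⟨h1, h2, h3⟩ | ⟨h1, h2, h3⟩ | ⟨h1, h2, h3⟩ | ⟨h1, h2, h3⟩ | ⟨h1, h2, h3⟩ |
      ⟨h1, h2, h3⟩ | ⟨h1, h2, h3⟩ | ⟨h1, h2, h3⟩ | ⟨h1, h2, h3⟩ <;>
    · rw [h1, h2] at hecn
      exact ⟨h2, by omega, by simp [h3]⟩
  obtain ⟨rfl, rfl, hl'⟩ := hec
  refine ⟨hN, hC, fun χ hχ => ?_⟩
  by_cases h7 : 5 ∣ charDegree (χ : G → ℂ)
  · rw [f7, Nat.mod_eq_zero_of_dvd h7]; rfl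
  · have h1 := mem_full B5 (hinj_of (by rw [hC])) hl hχ h7
    simp only [List.mem_cons, List.not_mem_nil, or_false] at hl'
    rcases hl' with rfl | rfl | rfl | rfl | rfl | rfl | rfl | rfl | rfl | rfl <;>
    · revert h1
      generalize charDegree (χ : G → ℂ) = d
      revert d
      decide

/-- third stage -/
theorem stage3 (B7 : PBE D7) (B5 : PBE D5) : ∃ l : List ℤ, (l = [-6, 15] ∨ l = [15, -20]) ∧
    (l : Multiset ℤ) = sds B7.toPB := by
  obtain ⟨-, -, hf⟩ := stage2 hG h B7 B5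
  obtain ⟨hQ, e, c, l, hN, hC, he, he1, hecn, hmem, hl⟩ := dataL hG (M := 360) 50 f7 (by rw [h])
    (by norm_num) (by norm_num) B7.toPB hf (by decide +kernel)
  rw [opts7'] at hmem
  refine ⟨l, ?_, hl⟩
  simp only [List.mem_cons, Prod.mk.injEq, List.not_mem_nil, or_false] at hmem
  rcases hmem with ⟨h1, h2, h3⟩ | ⟨h1, h2, h3⟩
  · exact Or.inl h3
  · exact Or.inr h3

/-- fourth stage -/
theorem stage4 (B7 : PBE D7) (B5 : PBE D5) : full B5.toPB = 6 ::ₘ (-14) ::ₘ (-14) ::ₘ 21 ::ₘ 0 ∨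
    (∀ χ : IrrCharacter G, χ ≠ triv G → ¬ 5 ∣ charDegree (χ : G → ℂ) → charDegree (χ : G → ℂ) ≠ 6) := by
  obtain ⟨l7, hl7, hl7'⟩ := stage3 hG h B7 B5
  obtain ⟨-, hC7, -⟩ := stage1 hG h B7
  have hf : ∀ χ : IrrCharacter G, χ ≠ triv G → f5' (charDegree (χ : G → ℂ)) = true := by
    intro χ hχ
    by_cases h7 : 7 ∣ charDegree (χ : G → ℂ)
    · rw [f5', Nat.mod_eq_zero_of_dvd h7]; rfl
    · have h1 := mem_full B7 (hinj_of hC7) hl7' hχ h7
      rcases hl7 with rfl | rfl <;>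
      · revert h1
        generalize charDegree (χ : G → ℂ) = d
        revert d
        decide
  obtain ⟨hQ, e, c, l, hN, hC, he, he1, hecn, hmem, hl⟩ := dataL hG (M := 504) 50 f5' (by rw [h])
    (by norm_num) (by norm_num) B5.toPB hf (by decide +kernel)
  obtain ⟨-, hC5, -⟩ := stage2 hG h B7 B5
  rw [opts5'] at hmem
  have hl' : l ∈ [[-4, -4, -14], [-4, -4, 21], [-4, -14, 21]] ∨ l ∈ [[6, -14, -14], [6, -14, 21], [-14, -14, 21]] := by
    simp only [List.mem_cons, Prod.mk.injEq, List.not_mem_nil, or_false] at hmem ⊢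
    rcases hmem with ⟨h1, h2, h3⟩ | ⟨h1, h2, h3⟩ | ⟨h1, h2, h3⟩ | ⟨h1, h2, h3⟩ | ⟨h1, h2, h3⟩ | ⟨h1, h2, h3⟩ <;>
      simp [h3]
  simp only [List.mem_cons, List.not_mem_nil, or_false] at hl'
  rcases hl' with hl' | hl'
  · right
    intro χ hχ h5 hd
    have h1 := mem_full B5 (hinj_of hC5) hl hχ h5
    rw [hd] at h1
    rcases hl' with rfl | rfl | rfl <;> norm_num at h1
  · left
    rw [full_eq _ hl]
    rcases hl' with rfl | rfl | rfl <;> decide

end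

end Cfsg.Agent.Lib.A7Chars
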