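import Mathlib
import Cfsg.Agent.Lib.PBTwoP

/-!
# Values of characters at involutions (helper54)
-/

set_option autoImplicit false
set_option linter.all false

namespace Cfsg.Agent.Lib.PBInvol

open Cfsg Cfsg.Agent.Lib.CharBasic Cfsg.Agent.Lib.DetChar Subgroup Cfsg.Agent.Lib.CharSpec54
open Cfsg.Agent.Lib.PBTwoP
open scoped ComplexConjugate

universe u

variable {G : Type u} [Group G]

theorem irr_zpowers_val [Finite G] {y : G} (hy : orderOf y = 2) (ψ : IrrCharacter (zpowers y)) (hψ : (ψ : zpowers y → ℂ) ≠ 1) :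
    (ψ : zpowers y → ℂ) ⟨y, mem_zpowers y⟩ = -1 := by
  obtain ⟨f, hf⟩ := ψ.2.isCharacter.exists_hom (irr_one_of_zpowers y ψ)
  rw [hf]
  have h1 : ((f ⟨y, mem_zpowers y⟩ : ℂˣ) : ℂ) ^ 2 = 1 := by
    rw [← Units.val_pow_eq_pow_val, ← map_pow]
    have : (⟨y, mem_zpowers y⟩ : zpowers y) ^ 2 = 1 := Subtype.ext (by rw [← hy]; exact pow_orderOf_eq_one y)
    rw [this, map_one, Units.val_one]
  have h1' : (((f ⟨y, mem_zpowers y⟩ : ℂˣ) : ℂ) - 1) * (((f ⟨y, mem_zpowers y⟩ : ℂˣ) : ℂ) + 1) = 0 := by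
    linear_combination h1
  rcases mul_eq_zero.1 h1' with h2 | h2
  · exfalso
    apply hψ
    have h5 : f ⟨y, mem_zpowers y⟩ = 1 := Units.ext (by rw [Units.val_one]; linear_combination h2)
    funext z
    rw [hf, Pi.one_apply]
    obtain ⟨z, i, rfl⟩ := z
    have h6 : (⟨(fun x => y ^ x) i, ⟨i, rfl⟩⟩ : zpowers y) = ⟨y, mem_zpowers y⟩ ^ i := Subtype.ext rfl
    rw [h6, map_zpow, h5, one_zpow, Units.val_one]
  · linear_combination h2

open scoped Classical in
/-- the number of eigenvalues `-1` -/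
theorem inv_aux [Finite G] (hG : commutator G = ⊤) {χ : G → ℂ} (hχ : IsCharacter G χ) {y : G} (hy : orderOf y = 2)
    {d : ℕ} (hd : χ 1 = d) : ∃ (M M' : Multiset (IrrCharacter (zpowers y))) (k : ℕ),
      (fun z : zpowers y => χ z) = (M.map (fun ψ : IrrCharacter (zpowers y) => (ψ : zpowers y → ℂ))).sum ∧
      (∀ ψ ∈ M', (ψ : zpowers y → ℂ) ≠ 1) ∧ (∀ (inst : DecidableEq (IrrCharacter (zpowers y)))
        (ψ : IrrCharacter (zpowers y)), (ψ : zpowers y → ℂ) ≠ 1 → M'.count ψ = M.count ψ) ∧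
      M'.card = 2 * k ∧ χ y = (d : ℂ) - 4 * k ∧ 2 * k ≤ d := by
  obtain ⟨M, hM, hc, hdet⟩ := exists_lin hχ y
  have hMd : M.card = d := by rw [hd] at hc; exact_mod_cast hc
  rw [detChar_eq_one hG hχ] at hdet
  set M' := M.filter (fun ψ : IrrCharacter (zpowers y) => (ψ : zpowers y → ℂ) ≠ 1) with hM'
  set M'' := M.filter (fun ψ : IrrCharacter (zpowers y) => ¬ (ψ : zpowers y → ℂ) ≠ 1) with hM''
  have hadd : M' + M'' = M := Multiset.filter_add_not _ M
  have hcard : M'.card + M''.card = d := by rw [← hMd, ← hadd, Multiset.card_add]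
  have hv' : M'.map (fun ψ : IrrCharacter (zpowers y) => (ψ : zpowers y → ℂ) ⟨y, mem_zpowers y⟩) =
      Multiset.replicate M'.card (-1) := by
    rw [← Multiset.map_const']
    exact Multiset.map_congr rfl fun ψ hψ => irr_zpowers_val hy ψ (Multiset.mem_filter.1 hψ).2
  have hv'' : M''.map (fun ψ : IrrCharacter (zpowers y) => (ψ : zpowers y → ℂ) ⟨y, mem_zpowers y⟩) =
      Multiset.replicate M''.card 1 := by
    rw [← Multiset.map_const']
    exact Multiset.map_congr rfl fun ψ hψ => by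
      have h2 := (Multiset.mem_filter.1 hψ).2
      rw [not_not] at h2
      rw [h2, Pi.one_apply]
  have hprod : ((-1 : ℂ)) ^ M'.card = 1 := by
    rw [← hadd, Multiset.map_add, Multiset.prod_add, hv', hv'', Multiset.prod_replicate, Multiset.prod_replicate,
      one_pow, mul_one] at hdet
    exact hdet.symm
  have heven : Even M'.card := by
    rcases Nat.even_or_odd M'.card with h | h
    · exact h
    · rw [h.neg_one_pow] at hprod; norm_num at hprod
  obtain ⟨k, hk⟩ := heven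
  refine ⟨M, M', k, hM, fun ψ hψ => (Multiset.mem_filter.1 hψ).2, ?_, by rw [hk]; ring, ?_, by omega⟩
  · intro inst ψ hψ
    have := Multiset.count_filter_of_pos (s := M) (p := fun ψ : IrrCharacter (zpowers y) => (ψ : zpowers y → ℂ) ≠ 1) hψ
    convert this
  have h3 := congrFun hM ⟨y, mem_zpowers y⟩
  rw [sum_apply', ← hadd, Multiset.map_add, Multiset.sum_add, hv', hv'', Multiset.sum_replicate,
    Multiset.sum_replicate] at h3
  have h4 : χ y = M'.card • (-1 : ℂ) + M''.card • (1 : ℂ) := h3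
  have h5 : (M''.card : ℂ) = d - M'.card := by
    have : (M'.card : ℂ) + M''.card = d := by exact_mod_cast hcard
    linear_combination this
  rw [h4, nsmul_eq_mul, nsmul_eq_mul, h5, hk]
  push_cast; ring

theorem inv_val [Finite G] (hG : commutator G = ⊤) {χ : G → ℂ} (hχ : IsCharacter G χ) {y : G} (hy : orderOf y = 2)
    {d : ℕ} (hd : χ 1 = d) : ∃ k : ℕ, χ y = (d : ℂ) - 4 * k ∧ 2 * k ≤ d := by
  obtain ⟨M, M', k, -, -, -, -, h1, h2⟩ := inv_aux hG hχ hy hd
  exact ⟨k, h1, h2⟩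

open scoped Classical in
theorem inv_val_mod [Finite G] (hG : commutator G = ⊤) {χ : G → ℂ} (hχ : IsCharacter G χ) {p : ℕ} (hp : p.Prime)
    (hp2 : p ≠ 2) (P : Subgroup G) (hP : Nat.card P = p) {y : G} (hy : orderOf y = 2) (hcomm : ∀ x ∈ P, Commute x y)
    (hval : ∀ x ∈ P, x ≠ 1 → ∀ z ∈ zpowers y, χ (x * z) = χ x) {d : ℕ} (hd : χ 1 = d) :
    ∃ k : ℕ, χ y = (d : ℂ) - 4 * (p * k : ℕ) ∧ 2 * (p * k) ≤ d := by
  letI := Fintype.ofFinite G
  letI : Fintype (zpowers y) := Fintype.ofFinite _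
  obtain ⟨M, M', k, hM, hM'1, hM'2, hk, h1, h2⟩ := inv_aux hG hχ hy hd
  have hcomm' : ∀ x ∈ P, ∀ z ∈ zpowers y, Commute x z := by
    rintro x hx z ⟨i, rfl⟩
    exact (hcomm x hx).zpow_right i
  have hcount : ∀ ψ : IrrCharacter (zpowers y), (ψ : zpowers y → ℂ) ≠ 1 → p ∣ M.count ψ := by
    intro ψ hψ
    obtain ⟨k, hk⟩ := mult_dvd hχ P (zpowers y) hcomm' hval ψ.2 hψ
    rw [hM, classInner_multiset, hP] at hk
    exact ⟨k, by exact_mod_cast hk⟩
  have hpk : p ∣ 2 * k := by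
    rw [← hk]
    by_cases hemp : M' = 0
    · rw [hemp, Multiset.card_zero]; exact dvd_zero p
    · obtain ⟨ψ, hψ⟩ := Multiset.exists_mem_of_ne_zero hemp
      have hψ1 := hM'1 ψ hψ
      have hall : ∀ ξ ∈ M', ξ = ψ := by
        intro ξ hξ
        have hξ1 := hM'1 ξ hξ
        apply Subtype.ext
        funext z
        obtain ⟨f, hf⟩ := ψ.2.isCharacter.exists_hom (irr_one_of_zpowers y ψ)
        obtain ⟨f', hf'⟩ := ξ.2.isCharacter.exists_hom (irr_one_of_zpowers y ξ)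
        have e1 := irr_zpowers_val hy ψ hψ1
        have e2 := irr_zpowers_val hy ξ hξ1
        rw [hf] at e1
        rw [hf'] at e2
        have e3 : f' ⟨y, mem_zpowers y⟩ = f ⟨y, mem_zpowers y⟩ := Units.ext (e2.trans e1.symm)
        rw [hf, hf']
        obtain ⟨z, i, rfl⟩ := z
        have h6 : (⟨(fun x => y ^ x) i, ⟨i, rfl⟩⟩ : zpowers y) = ⟨y, mem_zpowers y⟩ ^ i := Subtype.ext rfl
        rw [h6, map_zpow, map_zpow, e3]
      have hrep : M' = Multiset.replicate M'.card ψ := Multiset.eq_replicate_card.2 hall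
      have hcard : M'.card = M'.count ψ := by
        conv_rhs => rw [hrep]
        rw [Multiset.count_replicate_self]
      rw [hcard, hM'2 _ ψ hψ1]
      exact hcount ψ hψ1
  obtain ⟨j, hj⟩ : p ∣ k := (Nat.Coprime.dvd_mul_left ((Nat.coprime_primes hp Nat.prime_two).2 hp2)).1 hpk
  refine ⟨j, ?_, by omega⟩
  rw [h1, hj]

end Cfsg.Agent.Lib.PBInvol
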