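import Mathlib
import Cfsg.Agent.Lib.A7Chars
import Cfsg.Agent.Lib.PBInvol

/-!
# The characters of a simple group of order 2520, part 2 (helper54)
-/

set_option autoImplicit false
set_option linter.all false

namespace Cfsg.Agent.Lib.A7Table

open Cfsg Subgroup Cfsg.Agent.Lib.DefOneLoc Cfsg.Agent.Lib.DefOneOrd Cfsg.Agent.Lib.CharBasic
open Cfsg.Agent.Lib.DefOneGram Cfsg.Agent.Lib.DefOne Cfsg.Agent.Lib.BRB0 Cfsg.Agent.Lib.BRCore
open Cfsg.Agent.Lib.PBData Cfsg.Agent.Lib.DefOnePrin Cfsg.Agent.Lib.BlockThird Cfsg.Agent.Lib.SmallSimple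
open Cfsg.Agent.Lib.PBNum Cfsg.Agent.Lib.PBExt Cfsg.Agent.Lib.PBStruct Cfsg.Agent.Lib.PBFull
open Cfsg.Agent.Lib.A7Chars
open scoped ComplexConjugate

universe u

section

variable {G : Type u} [Group G] [Fintype G]

theorem deg_eq (χ : IrrCharacter G) : ColTools.deg χ = charDegree (χ : G → ℂ) := by
  have h1 := ColTools.apply_one χ
  rw [← BlockDeg.charDegree_cast_irr] at h1
  exact_mod_cast h1.symm

theorem ne_triv_of {χ : IrrCharacter G} {d : ℕ} (hd : charDegree (χ : G → ℂ) = d) (h1 : d ≠ 1) : χ ≠ triv G := by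
  rintro rfl
  rw [deg_triv] at hd
  exact h1 hd.symm

theorem ne_of_deg {χ ψ : IrrCharacter G} {d e : ℕ} (hd : charDegree (χ : G → ℂ) = d)
    (he : charDegree (ψ : G → ℂ) = e) (h1 : d ≠ e) : χ ≠ ψ := by
  rintro rfl
  exact h1 (hd.symm.trans he)

/-- values at involutions -/
theorem invol_val [IsSimpleGroup G] (hG : ¬ IsMulCommutative G) {χ : IrrCharacter G} {d : ℕ}
    (hd : charDegree (χ : G → ℂ) = d) (hd1 : d ≠ 1) {w : G} (hw : orderOf w = 2) :
    ∃ k : ℕ, (χ : G → ℂ) w = ((d - 4 * k : ℤ) : ℂ) ∧ 0 < k ∧ 2 * k < d := by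
  have hZ := SimpleDeg.center_eq_bot (G := G) (fun h => hG ⟨⟨h⟩⟩)
  have hne := ne_triv_of hd hd1
  obtain ⟨k, hk, hk2⟩ := PBInvol.inv_val (SimpleDeg.perfect hZ) χ.2.isCharacter (y := w) hw (d := d) (by
    rw [← hd, BlockDeg.charDegree_cast_irr])
  have hw1 : w ≠ 1 := by rintro rfl; rw [orderOf_one] at hw; norm_num at hw
  have hn := ColTools.norm_lt hG hne hw1
  rw [deg_eq, hd, hk] at hn
  refine ⟨k, by rw [hk]; push_cast; ring, ?_, ?_⟩
  · rcases Nat.eq_zero_or_pos k with h0 | h0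
    · exfalso
      rw [h0] at hn
      norm_num at hn
    · exact h0
  · rcases Nat.lt_or_ge (2 * k) d with h0 | h0
    · exact h0
    · exfalso
      have h1 : d = 2 * k := by omega
      have h2 : ((d : ℂ) - 4 * k) = -(d : ℂ) := by rw [h1]; push_cast; ring
      rw [h2, norm_neg] at hn
      norm_num at hn

theorem exists_invol (h : 2 ∣ Nat.card G) : ∃ w : G, orderOf w = 2 := by
  rw [Nat.card_eq_fintype_card] at h
  exact exists_prime_orderOf_dvd_card 2 h

end

/-- The character data of a simple group of order 2520 -/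
structure A7D {G : Type u} [Group G] [Fintype G] (u : G) where
  c6 : IrrCharacter G
  c14 : IrrCharacter G
  c14' : IrrCharacter G
  c21 : IrrCharacter G
  c15 : IrrCharacter G
  c10 : IrrCharacter G
  c10' : IrrCharacter G
  c35 : IrrCharacter G
  d6 : charDegree (c6 : G → ℂ) = 6
  d14 : charDegree (c14 : G → ℂ) = 14
  d14' : charDegree (c14' : G → ℂ) = 14
  d21 : charDegree (c21 : G → ℂ) = 21
  d15 : charDegree (c15 : G → ℂ) = 15
  d10 : charDegree (c10 : G → ℂ) = 10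
  d10' : charDegree (c10' : G → ℂ) = 10
  d35 : charDegree (c35 : G → ℂ) = 35
  nodup : [triv G, c6, c14, c14', c21, c15, c10, c10', c35].Nodup
  all : ∀ χ : IrrCharacter G, χ ∈ [triv G, c6, c14, c14', c21, c15, c10, c10', c35]
  rel5 : ∀ g : G, ¬ 5 ∣ orderOf g → 1 + (c6 : G → ℂ) g - (c14 : G → ℂ) g - (c14' : G → ℂ) g + (c21 : G → ℂ) g = 0
  rel7 : ∀ g : G, ¬ 7 ∣ orderOf g → 1 - (c6 : G → ℂ) g + (c15 : G → ℂ) g - (c10 : G → ℂ) g = 0
  e10 : ∀ g : G, ¬ 7 ∣ orderOf g → (c10' : G → ℂ) g = (c10 : G → ℂ) g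
  F7 : ∀ w : G, orderOf w = 2 → 1 - (c6 : G → ℂ) w ^ 2 / 6 + (c15 : G → ℂ) w ^ 2 / 15 - (c10 : G → ℂ) w ^ 2 / 10 = 0
  F5z : ∀ w : G, orderOf w = 2 → (∀ x, IsConj w x → x * u * x⁻¹ ≠ u⁻¹) →
    1 + (c6 : G → ℂ) w ^ 2 / 6 - (c14 : G → ℂ) w ^ 2 / 14 - (c14' : G → ℂ) w ^ 2 / 14 + (c21 : G → ℂ) w ^ 2 / 21 = 0
  F5o : ∀ w : G, orderOf w = 2 → w * u * w⁻¹ = u⁻¹ →
    504 * (1 + (c6 : G → ℂ) w ^ 2 / 6 - (c14 : G → ℂ) w ^ 2 / 14 - (c14' : G → ℂ) w ^ 2 / 14 + (c21 : G → ℂ) w ^ 2 / 21) =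
      (Nat.card (Subgroup.centralizer ({w} : Set G)) : ℂ) ^ 2

section

variable {G : Type u} [Group G] [Fintype G] [IsSimpleGroup G] (hG : ¬ IsMulCommutative G)
  (h : Nat.card G = 2520)

include hG h

variable {Q7 : Sylow 7 G} [Fintype (centralizer ((Q7 : Subgroup G) : Set G))]
  {D7 : Loc 7 (Q7 : Subgroup G) (normalizer ((Q7 : Subgroup G) : Set G)) (centralizer ((Q7 : Subgroup G) : Set G))}
  {Q5 : Sylow 5 G} [Fintype (centralizer ((Q5 : Subgroup G) : Set G))]
  {D5 : Loc 5 (Q5 : Subgroup G) (normalizer ((Q5 : Subgroup G) : Set G)) (centralizer ((Q5 : Subgroup G) : Set G))}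

theorem F7' (B7 : PBE D7) {w : G} (hw : orderOf w = 2) :
    1 + ((B7.η ::ₘ B7.X.val).map (fun χ => (B7.σ χ : ℂ) * ((χ : G → ℂ) w ^ 2 / (χ : G → ℂ) 1))).sum = 0 := by
  obtain ⟨hN, hC, -⟩ := stage1 hG h B7
  have hw2 : w * w = 1 := by rw [← pow_two, ← hw, pow_orderOf_eq_one]
  have h1 := F_zero B7.toPB (hinj_of hC) (by norm_num) hw2 (by
    intro x hx
    obtain ⟨g, rfl⟩ := isConj_iff.1 hx
    apply not_inv_of_odd
    · rw [show g * w * g⁻¹ = MulAut.conj g w from rfl, MulEquiv.orderOf_eq, hw]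
    · rw [hN]; norm_num)
  rw [← sum_full, ← add_assoc]
  exact h1

theorem R7' (B7 : PBE D7) {g : G} (hg : ¬ 7 ∣ orderOf g) :
    1 + ((B7.η ::ₘ B7.X.val).map (fun χ => (B7.σ χ : ℂ) * (χ : G → ℂ) g)).sum = 0 := by
  rw [← sum_full, ← add_assoc]
  exact B7.rel g hg

theorem R5' (B5 : PBE D5) {g : G} (hg : ¬ 5 ∣ orderOf g) :
    1 + ((B5.η ::ₘ B5.X.val).map (fun χ => (B5.σ χ : ℂ) * (χ : G → ℂ) g)).sum = 0 := by
  rw [← sum_full, ← add_assoc]
  exact B5.rel g hg

theorem not_B (B7 : PBE D7) (hl : (([15, -20] : List ℤ) : Multiset ℤ) = sds B7.toPB) : False := by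
  have hl2 : (B7.X.val).map (fun χ => sd B7.toPB χ) = 15 ::ₘ (-20) ::ₘ 0 := by
    change sds B7.toPB = _
    rw [← hl]; rfl
  obtain ⟨a, b, hX, ha, hb⟩ := ext2 hl2
  have hη : sd B7.toPB B7.η = 4 := by rw [sd_eta, ← hl]; decide
  obtain ⟨ha1, ha2⟩ := sigma_of _ ha (by norm_num)
  obtain ⟨hb1, hb2⟩ := sigma_of _ hb (by norm_num)
  obtain ⟨hη1, hη2⟩ := sigma_of _ hη (by norm_num)
  replace ha2 : B7.σ a = 1 := ha2
  replace hb2 : B7.σ b = -1 := hb2
  replace hη2 : B7.σ B7.η = 1 := hη2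
  obtain ⟨w, hw⟩ := exists_invol (G := G) (by rw [h]; norm_num)
  have h1 := F7' hG h B7 hw
  have h2 := R7' hG h B7 (g := w) (by rw [hw]; norm_num)
  rw [hX] at h1 h2
  simp only [Multiset.map_cons, Multiset.map_zero, Multiset.sum_cons, Multiset.sum_zero, ha2, hb2, hη2,
    ← BlockDeg.charDegree_cast_irr, ha1, hb1, hη1] at h1 h2
  obtain ⟨k1, e1, f1, g1⟩ := invol_val hG ha1 (by norm_num) hw
  obtain ⟨k2, e2, f2, g2⟩ := invol_val hG hb1 (by norm_num) hw
  obtain ⟨k3, e3, f3, g3⟩ := invol_val hG hη1 (by norm_num) hw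
  have hk3 : k3 = 1 := by norm_num at g3; omega
  rw [hk3] at e3
  rw [e1, e2, e3] at h1 h2
  norm_num at h1 h2
  set x : ℂ := 15 - 4 * (k1 : ℂ) with hx
  have h3 : (20 - 4 * (k2 : ℂ)) = 1 + x := by linear_combination -h2
  rw [h3] at h1
  have h4 : (x - 3) ^ 2 + 48 = 0 := by
    have : x ^ 2 - 6 * x + 57 = 0 := by linear_combination 60 * h1
    linear_combination this
  have h5 : x = ((15 - 4 * (k1 : ℤ) : ℤ) : ℂ) := by rw [hx]; push_cast; ring
  rw [h5] at h4
  have h6 : ((15 - 4 * (k1 : ℤ) : ℤ) - 3) ^ 2 + 48 = 0 := by exact_mod_cast h4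
  nlinarith [sq_nonneg ((15 - 4 * (k1 : ℤ) : ℤ) - 3)]

theorem exists_A7D (B7 : PBE D7) (B5 : PBE D5) : Nonempty (A7D D5.u) := by
  classical
  obtain ⟨l, hl, hl'⟩ := stage3 hG h B7 B5
  rcases hl with rfl | rfl
  swap
  · exact (not_B hG h B7 hl').elim
  obtain ⟨hN7, hC7, -⟩ := stage1 hG h B7
  obtain ⟨hN5, hC5, -⟩ := stage2 hG h B7 B5
  have hl2 : (B7.X.val).map (fun χ => sd B7.toPB χ) = (-6) ::ₘ 15 ::ₘ 0 := by
    change sds B7.toPB = _
    rw [← hl']; rfl
  obtain ⟨a, b, hX, ha, hb⟩ := ext2 hl2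
  have hη : sd B7.toPB B7.η = -10 := by rw [sd_eta, ← hl']; decide
  obtain ⟨ha1, ha2⟩ := sigma_of _ ha (by norm_num)
  obtain ⟨hb1, hb2⟩ := sigma_of _ hb (by norm_num)
  obtain ⟨hη1, hη2⟩ := sigma_of _ hη (by norm_num)
  replace ha2 : B7.σ a = -1 := ha2
  replace hb2 : B7.σ b = 1 := hb2
  replace hη2 : B7.σ B7.η = -1 := hη2
  have ha1' : charDegree (a : G → ℂ) = 6 := ha1
  have hb1' : charDegree (b : G → ℂ) = 15 := hb1
  have hη1' : charDegree (B7.η : G → ℂ) = 10 := hη1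
  -- the 5-block
  have h5 : full B5.toPB = 6 ::ₘ (-14) ::ₘ (-14) ::ₘ 21 ::ₘ 0 := by
    rcases stage4 hG h B7 B5 with h5 | h5
    · exact h5
    · exact absurd ha1' (h5 a (ne_triv_of ha1' (by norm_num)) (by rw [ha1']; norm_num))
  rw [full] at h5
  obtain ⟨c6, c14, c14', c21, hW, h6, h14, h14', h21⟩ := ext4 h5
  obtain ⟨h6a, h6b⟩ := sigma_of _ h6 (by norm_num)
  obtain ⟨h14a, h14b⟩ := sigma_of _ h14 (by norm_num)
  obtain ⟨h14a', h14b'⟩ := sigma_of _ h14' (by norm_num)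
  obtain ⟨h21a, h21b⟩ := sigma_of _ h21 (by norm_num)
  replace h6b : B5.σ c6 = 1 := h6b
  replace h14b : B5.σ c14 = -1 := h14b
  replace h14b' : B5.σ c14' = -1 := h14b'
  replace h21b : B5.σ c21 = 1 := h21b
  have d6 : charDegree (c6 : G → ℂ) = 6 := h6a
  have d14 : charDegree (c14 : G → ℂ) = 14 := h14a
  have d14' : charDegree (c14' : G → ℂ) = 14 := h14a'
  have d21 : charDegree (c21 : G → ℂ) = 21 := h21a
  have hnd : (B5.η ::ₘ B5.X.val).Nodup := Multiset.nodup_cons.2 ⟨B5.hηX, B5.X.nodup⟩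
  have hE5 : B5.E = {B5.η} := by
    have h1 := B5.cardE
    rw [tau_eq (e := 4) (c := 1) (by rw [hN5]) (by rw [hC5])] at h1
    norm_num at h1
    obtain ⟨x, hx⟩ := Finset.card_eq_one.1 h1
    have h2 := B5.ηE
    rw [hx, Finset.mem_singleton] at h2
    rw [hx, h2]
  have hmem5 : ∀ χ : IrrCharacter G, χ ≠ triv G → ¬ 5 ∣ charDegree (χ : G → ℂ) → χ ∈ B5.η ::ₘ B5.X.val := by
    intro χ hχ h5
    rw [Multiset.mem_cons]
    rcases B5.all (hinj_of hC5) χ h5 with h1 | h1 | h1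
    · exact absurd h1 hχ
    · exact Or.inr h1
    · rw [hE5, Finset.mem_singleton] at h1
      exact Or.inl h1
  rw [hW] at hnd hmem5
  have hac : a = c6 := by
    have h1 := hmem5 a (ne_triv_of ha1' (by norm_num)) (by rw [ha1']; norm_num)
    simp only [Multiset.mem_cons, Multiset.notMem_zero, or_false] at h1
    rcases h1 with h1 | h1 | h1 | h1
    · exact h1
    · exact absurd h1 (ne_of_deg ha1' d14 (by norm_num))
    · exact absurd h1 (ne_of_deg ha1' d14' (by norm_num))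
    · exact absurd h1 (ne_of_deg ha1' d21 (by norm_num))
  -- the exceptional characters
  have hE7 : B7.E.card = 2 := by
    rw [B7.cardE, tau_eq (e := 3) (c := 1) (by rw [hN7]) (by rw [hC7])]
  obtain ⟨x, y, hxy, hE7'⟩ := Finset.card_eq_two.1 hE7
  have hxE : x ∈ B7.E := by rw [hE7']; simp
  have hyE : y ∈ B7.E := by rw [hE7']; simp
  have dx : charDegree (x : G → ℂ) = 10 := by rw [deg_eq_of_mem_E B7 hxE, hη1']
  have dy : charDegree (y : G → ℂ) = 10 := by rw [deg_eq_of_mem_E B7 hyE, hη1']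
  have hc14 : c14 ≠ c14' := by
    rintro rfl
    rw [Multiset.nodup_cons, Multiset.nodup_cons] at hnd
    exact hnd.2.1 (Multiset.mem_cons_self _ _)
  have hmem7 : ∀ χ : IrrCharacter G, χ ≠ triv G → ¬ 7 ∣ charDegree (χ : G → ℂ) → χ = c6 ∨ χ = b ∨ χ = x ∨ χ = y := by
    intro χ hχ h7
    rcases B7.all (hinj_of hC7) χ h7 with h1 | h1 | h1
    · exact absurd h1 hχ
    · have h2 : χ ∈ B7.X.val := h1
      rw [hX] at h2
      simp only [Multiset.mem_cons, Multiset.notMem_zero, or_false] at h2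
      rcases h2 with h2 | h2
      · left; rw [h2, hac]
      · right; left; exact h2
    · rw [hE7', Finset.mem_insert, Finset.mem_singleton] at h1
      tauto
  -- eight characters
  have hnd8 : [triv G, c6, c14, c14', c21, b, x, y].Nodup := by
    have t1 := ne_triv_of d6 (by norm_num)
    have t2 := ne_triv_of d14 (by norm_num)
    have t3 := ne_triv_of d14' (by norm_num)
    have t4 := ne_triv_of d21 (by norm_num)
    have t5 := ne_triv_of hb1' (by norm_num)
    have t6 := ne_triv_of dx (by norm_num)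
    have t7 := ne_triv_of dy (by norm_num)
    simp only [List.nodup_cons, List.mem_cons, List.not_mem_nil, or_false, not_or, List.nodup_nil, and_true, not_false_eq_true]
    exact ⟨⟨t1.symm, t2.symm, t3.symm, t4.symm, t5.symm, t6.symm, t7.symm⟩,
      ⟨ne_of_deg d6 d14 (by norm_num), ne_of_deg d6 d14' (by norm_num), ne_of_deg d6 d21 (by norm_num),
        ne_of_deg d6 hb1' (by norm_num), ne_of_deg d6 dx (by norm_num), ne_of_deg d6 dy (by norm_num)⟩,
      ⟨hc14, ne_of_deg d14 d21 (by norm_num), ne_of_deg d14 hb1' (by norm_num), ne_of_deg d14 dx (by norm_num),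
        ne_of_deg d14 dy (by norm_num)⟩,
      ⟨ne_of_deg d14' d21 (by norm_num), ne_of_deg d14' hb1' (by norm_num), ne_of_deg d14' dx (by norm_num),
        ne_of_deg d14' dy (by norm_num)⟩,
      ⟨ne_of_deg d21 hb1' (by norm_num), ne_of_deg d21 dx (by norm_num), ne_of_deg d21 dy (by norm_num)⟩,
      ⟨ne_of_deg hb1' dx (by norm_num), ne_of_deg hb1' dy (by norm_num)⟩, hxy⟩
  set L := [triv G, c6, c14, c14', c21, b, x, y] with hL
  have hrest : ∀ χ : IrrCharacter G, χ ∉ L → 35 ∣ charDegree (χ : G → ℂ) := by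
    intro χ hχ
    rw [hL] at hχ
    simp only [List.mem_cons, List.not_mem_nil, or_false, not_or] at hχ
    have h5 : 5 ∣ charDegree (χ : G → ℂ) := by
      by_contra hcon
      have h1 := hmem5 χ hχ.1 hcon
      simp only [Multiset.mem_cons, Multiset.notMem_zero, or_false] at h1
      tauto
    have h7 : 7 ∣ charDegree (χ : G → ℂ) := by
      by_contra hcon
      have h1 := hmem7 χ hχ.1 hcon
      tauto
    exact Nat.Coprime.mul_dvd_of_dvd_of_dvd (by norm_num) h5 h7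
  have hsum := Codegree.sum_charDegree_sq (G := G)
  rw [h, ← Finset.sum_add_sum_compl L.toFinset, List.sum_toFinset _ hnd8, hL] at hsum
  simp only [List.map_cons, List.map_nil, List.sum_cons, List.sum_nil, deg_triv, d6, d14, d14', d21, hb1', dx, dy] at hsum
  rw [← hL] at hsum
  have hsum' : ∑ χ ∈ L.toFinsetᶜ, charDegree (χ : G → ℂ) ^ 2 = 1225 := by omega
  have hge : ∀ χ ∈ L.toFinsetᶜ, 1225 ≤ charDegree (χ : G → ℂ) ^ 2 := by
    intro χ hχ
    rw [Finset.mem_compl, List.mem_toFinset] at hχ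
    have h1 := Nat.le_of_dvd (BlockDeg.charDegree_pos χ.2) (hrest χ hχ)
    nlinarith
  have hcard : (L.toFinsetᶜ).card = 1 := by
    have h1 := Finset.card_nsmul_le_sum _ _ _ hge
    rw [hsum', smul_eq_mul] at h1
    have h2 : (L.toFinsetᶜ).card ≠ 0 := by
      intro h0
      rw [Finset.card_eq_zero] at h0
      rw [h0, Finset.sum_empty] at hsum'
      norm_num at hsum'
    omega
  obtain ⟨c35, hc35⟩ := Finset.card_eq_one.1 hcard
  rw [hc35, Finset.sum_singleton] at hsum'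
  have d35 : charDegree (c35 : G → ℂ) = 35 := by
    have h1 : charDegree (c35 : G → ℂ) ^ 2 = 35 ^ 2 := by rw [hsum']; norm_num
    exact Nat.pow_left_injective (by norm_num : (2:ℕ) ≠ 0) h1
  have hmem35 : c35 ∉ L := by
    have : c35 ∈ L.toFinsetᶜ := by rw [hc35]; exact Finset.mem_singleton_self _
    rwa [Finset.mem_compl, List.mem_toFinset] at this
  refine ⟨⟨c6, c14, c14', c21, b, x, y, c35, d6, d14, d14', d21, hb1', dx, dy, d35, ?_, ?_, ?_, ?_, ?_, ?_, ?_, ?_⟩⟩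
  · have h1 : [triv G, c6, c14, c14', c21, b, x, y, c35] = L ++ [c35] := rfl
    rw [h1, List.nodup_append]
    refine ⟨hnd8, List.nodup_singleton _, ?_⟩
    intro χ hχ ψ hψ
    rw [List.mem_singleton.1 hψ]
    rintro rfl
    exact hmem35 hχ
  · intro χ
    have h1 : [triv G, c6, c14, c14', c21, b, x, y, c35] = L ++ [c35] := rfl
    rw [h1, List.mem_append, List.mem_singleton]
    by_cases hχ : χ ∈ L
    · exact Or.inl hχ
    · right
      have : χ ∈ L.toFinsetᶜ := by rw [Finset.mem_compl, List.mem_toFinset]; exact hχ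
      rw [hc35] at this
      exact Finset.mem_singleton.1 this
  · intro g hg
    have h1 := R5' hG h B5 hg
    rw [hW] at h1
    simp only [Multiset.map_cons, Multiset.map_zero, Multiset.sum_cons, Multiset.sum_zero, h6b, h14b, h14b', h21b] at h1
    norm_num at h1
    linear_combination h1
  · intro g hg
    have h1 := R7' hG h B7 hg
    rw [hX, hac] at h1
    rw [hac] at ha2
    simp only [Multiset.map_cons, Multiset.map_zero, Multiset.sum_cons, Multiset.sum_zero, ha2, hb2, hη2] at h1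
    norm_num at h1
    rw [B7.eqE x hxE g hg]
    linear_combination h1
  · intro g hg
    rw [B7.eqE x hxE g hg, B7.eqE y hyE g hg]
  · intro w hw
    have h1 := F7' hG h B7 hw
    rw [hX, hac] at h1
    rw [hac] at ha2
    simp only [Multiset.map_cons, Multiset.map_zero, Multiset.sum_cons, Multiset.sum_zero, ha2, hb2, hη2,
      ← BlockDeg.charDegree_cast_irr, d6, hb1', hη1'] at h1
    norm_num at h1
    rw [B7.eqE x hxE w (by rw [hw]; norm_num)]
    linear_combination h1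
  · intro w hw h0
    have hw2 : w * w = 1 := by rw [← pow_two, ← hw, pow_orderOf_eq_one]
    have h1 := F_zero B5.toPB (hinj_of hC5) (by norm_num) hw2 h0
    rw [add_assoc, sum_full, hW] at h1
    simp only [Multiset.map_cons, Multiset.map_zero, Multiset.sum_cons, Multiset.sum_zero, h6b, h14b, h14b', h21b,
      ← BlockDeg.charDegree_cast_irr, d6, d14, d14', d21] at h1
    norm_num at h1
    linear_combination h1
  · intro w hw h0
    have hw2 : w * w = 1 := by rw [← pow_two, ← hw, pow_orderOf_eq_one]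
    have h1 := F_one B5.toPB (hinj_of hC5) (by norm_num) hw2 h0
    rw [add_assoc, sum_full, hW] at h1
    simp only [Multiset.map_cons, Multiset.map_zero, Multiset.sum_cons, Multiset.sum_zero, h6b, h14b, h14b', h21b,
      ← BlockDeg.charDegree_cast_irr, d6, d14, d14', d21, h] at h1
    generalize (Nat.card (Subgroup.centralizer ({w} : Set G)) : ℂ) = n at h1 ⊢
    norm_num at h1
    linear_combination h1 / 5

end

end Cfsg.Agent.Lib.A7Table
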