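import Mathlib
import Cfsg.Agent.Lib.DefOnePrin
import Cfsg.Agent.Lib.CliffordCorr
import Cfsg.Agent.Lib.CliffordExt

set_option autoImplicit false
set_option linter.all false

/-!
# Blocks with a Sylow subgroup of prime order as defect group: the general case
-/

namespace Cfsg.Agent.Lib.DefOneGen

open Cfsg Cfsg.Agent.Lib.BlockRing Cfsg.Agent.Lib.BlockGA Cfsg.Agent.Lib.BlockIdem
open Cfsg.Agent.Lib.BlockSecond Cfsg.Agent.Lib.BlockNormP
open Cfsg.Agent.Lib.DefOneLoc Cfsg.Agent.Lib.DefOneOrd Cfsg.Agent.Lib.CharBasic Cfsg.Agent.Lib.DefOneGram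
open Module Cfsg.Agent.Lib.ModRep Cfsg.Agent.Lib.DefOneMod Cfsg.Agent.Lib.DefOneTrace Cfsg.Agent.Lib.DefOneRes
open Cfsg.Agent.Lib.DefOneBlk Cfsg.Agent.Lib.DefOne Cfsg.Agent.Lib.Clifford
open scoped ComplexConjugate
open MonoidAlgebra (single)

universe u

variable {G : Type u} [Group G] [Fintype G] {p : ℕ} [hp : Fact p.Prime] {P N C : Subgroup G}
  (D : Loc p P N C)

section Psi

omit [Fintype G] hp in
theorem normal_sub (D : Loc p P N C) : (C.subgroupOf N).Normal :=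
  ⟨fun n hn g => by
    rw [Subgroup.mem_subgroupOf] at hn ⊢
    exact D.conj_mem g g.2 n hn⟩

theorem ker_κu : (κu D).ker = C.subgroupOf N := by
  ext n
  rw [MonoidHom.mem_ker, Subgroup.mem_subgroupOf, ← D.κ_eq, ← κu_apply]
  exact Units.val_eq_one.symm

/-- the characters of `N / P` over `θ` -/
theorem exists_Psi [Fintype C] (R : Subgroup N) [R.Normal] (hR : ∀ n : N, n ∈ R ↔ (n : G) ∈ P)
    {θ : IrrCharacter C} (ht : TrivOn D (θ : C → ℂ)) :
    ∃ Ψ : (HT D θ →* ℂˣ) → IrrCharacter (N ⧸ R), Function.Injective Ψ ∧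
      ∀ i, classInner (rN D (fun n : N => (Ψ i : N ⧸ R → ℂ) (n : N ⧸ R))) (θ : C → ℂ) ≠ 0 := by
  classical
  haveI hn1 : (C.subgroupOf N).Normal := normal_sub D
  let e : C.subgroupOf N ≃* C := Subgroup.subgroupOfEquivOfLe D.CN
  let θ' : C.subgroupOf N → ℂ := fun x => (θ : C → ℂ) (e x)
  have hθ' : IsIrrCharacter (C.subgroupOf N) θ' := θ.2.comp_surjective e.toMonoidHom e.surjective
  letI : Fintype N := Fintype.ofFinite N
  letI : Fintype (C.subgroupOf N) := Fintype.ofFinite _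
  have hTθ : ∀ n : N, n ∈ inN D θ ↔ Clifford.cj (C.subgroupOf N) n θ' = θ' := by
    intro n
    rw [mem_inN]
    constructor
    · intro h
      funext c
      have h1 := congrFun (congrArg Subtype.val h) (e c)
      exact h1
    · intro h
      apply Subtype.ext
      funext c
      have h1 := congrFun h (e.symm c)
      rw [Clifford.cj_apply] at h1
      change (θ : C → ℂ) _ = (θ : C → ℂ) _ at h1
      rw [MulEquiv.apply_symm_apply] at h1
      rw [← h1]
      exact congrArg (θ : C → ℂ) (Subtype.ext rfl)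
  have hCT : C.subgroupOf N ≤ inN D θ := fun n hn => cjI_of_mem D hn θ
  -- the extension
  haveI hn2 : ((C.subgroupOf N).subgroupOf (inN D θ)).Normal := hn1.subgroupOf _
  let e2 : (C.subgroupOf N).subgroupOf (inN D θ) ≃* C.subgroupOf N := Subgroup.subgroupOfEquivOfLe hCT
  have hθ2 : IsIrrCharacter ((C.subgroupOf N).subgroupOf (inN D θ)) (fun x => θ' (e2 x)) :=
    hθ'.comp_surjective e2.toMonoidHom e2.surjective
  -- the quotient map
  let q : inN D θ →* HT D θ := ((κu D).comp (inN D θ).subtype).codRestrict (HT D θ) (fun t => ⟨t, t.2, rfl⟩)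
  have hqsurj : Function.Surjective q := by
    rintro ⟨_, t, ht, rfl⟩
    exact ⟨⟨t, ht⟩, rfl⟩
  have hqker : q.ker = (C.subgroupOf N).subgroupOf (inN D θ) := by
    ext t
    rw [MonoidHom.mem_ker, Subgroup.mem_subgroupOf, ← ker_κu D, MonoidHom.mem_ker]
    exact ⟨fun h => congrArg Subtype.val h, fun h => Subtype.ext h⟩
  have hcyc : IsCyclic (inN D θ ⧸ (C.subgroupOf N).subgroupOf (inN D θ)) := by
    have h1 : IsCyclic (inN D θ ⧸ q.ker) :=
      isCyclic_of_injective (QuotientGroup.kerLift q) (QuotientGroup.kerLift_injective q)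
    exact isCyclic_of_surjective (QuotientGroup.quotientMulEquivOfEq hqker)
      (QuotientGroup.quotientMulEquivOfEq hqker).surjective
  obtain ⟨χ₀, hχ₀, hext⟩ := CliffordExt.exists_extension_of_cyclic hcyc hθ2 (by
    intro g
    funext c
    have h1 := congrFun ((hTθ g).1 g.2) (e2 c)
    exact h1)
  -- the twisted extensions
  let lin : (HT D θ →* ℂˣ) → inN D θ → ℂ := fun φ t => (φ (q t) : ℂ)
  have hlin : ∀ φ, IsIrrCharacter (inN D θ) (lin φ) := fun φ => isIrrCharacter_of_unitsHom (φ.comp q)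
  have hlin1 : ∀ φ, lin φ 1 = 1 := by
    intro φ
    change ((φ (q 1) : ℂˣ) : ℂ) = 1
    rw [map_one, map_one]; rfl
  let ψ : (HT D θ →* ℂˣ) → inN D θ → ℂ := fun φ => χ₀ * lin φ
  have hψ : ∀ φ, IsIrrCharacter (inN D θ) (ψ φ) := fun φ => hχ₀.mul_linear (hlin φ).isCharacter (hlin1 φ)
  have hqC : ∀ (t : inN D θ), (t : N) ∈ C.subgroupOf N → q t = 1 := by
    intro t ht
    have h1 : t ∈ (C.subgroupOf N).subgroupOf (inN D θ) := ht
    rw [← hqker] at h1
    exact h1
  have hψres : ∀ φ, CliffordCorr.resTo (C.subgroupOf N) (inN D θ) hCT (ψ φ) = θ' := by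
    intro φ
    funext c
    change χ₀ ⟨c, hCT c.2⟩ * ((φ (q ⟨c, hCT c.2⟩) : ℂˣ) : ℂ) = θ' c
    rw [hqC ⟨c, hCT c.2⟩ c.2, map_one, Units.val_one, mul_one]
    exact hext ⟨⟨c, hCT c.2⟩, c.2⟩
  have hψne : ∀ φ, classInner (CliffordCorr.resTo (C.subgroupOf N) (inN D θ) hCT (ψ φ)) θ' ≠ 0 := by
    intro φ
    rw [hψres, hθ'.classInner_self]
    exact one_ne_zero
  have hψinj : Function.Injective ψ := by
    intro φ φ' h
    -- Gallagher
    haveI := Fintype.ofFinite (inN D θ)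
    have h1 := CliffordCorr.gallagher (G := inN D θ) (N := (C.subgroupOf N).subgroupOf (inN D θ))
      (φ := fun _ => 1) (ϑ := fun x => θ' (e2 x)) (χ := χ₀) isIrrCharacter_fun_one (fun g => rfl)
      (by
        intro g
        funext c
        exact congrFun ((hTθ g).1 g.2) (e2 c)) (by
        have h2 : ((fun _ => 1 : (C.subgroupOf N).subgroupOf (inN D θ) → ℂ) * fun x => θ' (e2 x)) =
          fun x => θ' (e2 x) := by
          funext x; simp
        rw [h2]; exact hθ2) hχ₀ hext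
    have hmem : ∀ φ, lin φ ∈ {β : inN D θ → ℂ | IsIrrCharacter (inN D θ) β ∧
        classInner (indFun ((C.subgroupOf N).subgroupOf (inN D θ)) (fun _ => 1)) β ≠ 0} := by
      intro φ
      refine ⟨hlin φ, ?_⟩
      letI : Fintype ((C.subgroupOf N).subgroupOf (inN D θ)) := Fintype.ofFinite _
      rw [IndFun.frobenius_reciprocity _ _ _ (hlin φ).isClassFunction]
      have h3 : (fun x : (C.subgroupOf N).subgroupOf (inN D θ) => lin φ x) = fun _ => 1 := by
        funext x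
        change ((φ (q x) : ℂˣ) : ℂ) = 1
        rw [hqC x x.2, map_one]; rfl
      rw [h3, isIrrCharacter_fun_one.classInner_self]
      exact one_ne_zero
    have h4 := h1.injOn (hmem φ) (hmem φ') (by
      change lin φ * χ₀ = lin φ' * χ₀
      rw [mul_comm, mul_comm (lin φ')]
      exact h)
    ext x
    obtain ⟨t, rfl⟩ := hqsurj x
    exact congrFun h4 t
  -- induction
  let Φ : (HT D θ →* ℂˣ) → N → ℂ := fun φ => indFun (inN D θ) (ψ φ)
  have hΦ : ∀ φ, IsIrrCharacter N (Φ φ) ∧ classInner (fun n : C.subgroupOf N => Φ φ n) θ' =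
      classInner (CliffordCorr.resTo (C.subgroupOf N) (inN D θ) hCT (ψ φ)) θ' := fun φ =>
    CliffordCorr.corr_irr hCT hθ' hTθ (hψ φ) (hψne φ)
  have hΦinj : Function.Injective Φ := fun φ φ' h =>
    hψinj (CliffordCorr.corr_inj hCT hθ' hTθ (hψ φ) (hψ φ') (hψne φ) (hψne φ') h)
  have hΦR : ∀ φ, ∀ n ∈ R, Φ φ n = Φ φ 1 := by
    intro φ n hn
    change indFun (inN D θ) (ψ φ) n = indFun (inN D θ) (ψ φ) 1
    rw [IndFun.indFun_apply, IndFun.indFun_apply]
    congr 1
    refine Finset.sum_congr rfl fun x _ => ?_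
    have h1 : x⁻¹ * n * x ∈ R := by
      have := (inferInstance : R.Normal).conj_mem n hn x⁻¹
      rwa [inv_inv] at this
    have h2 : ∀ r ∈ R, extendByZero (inN D θ) (ψ φ) r = (θ : C → ℂ) 1 := by
      intro r hr
      have hrP : (r : G) ∈ P := (hR r).1 hr
      have hrC : r ∈ C.subgroupOf N := D.PC hrP
      rw [IndFun.extendByZero_mem _ _ (hCT hrC)]
      have h3 := congrFun (hψres φ) ⟨r, hrC⟩
      change ψ φ ⟨r, hCT hrC⟩ = (θ : C → ℂ) (e ⟨r, hrC⟩) at h3
      rw [h3]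
      exact ht _ hrP
    rw [h2 _ h1, mul_one, inv_mul_cancel, h2 1 R.one_mem]
  choose Ψ hΨ1 hΨ2 using fun φ => (hΦ φ).1.deflate R (hΦR φ)
  refine ⟨fun φ => ⟨Ψ φ, hΨ1 φ⟩, ?_, ?_⟩
  · intro φ φ' h
    apply hΦinj
    funext n
    rw [← hΨ2, ← hΨ2]
    exact congrFun (congrArg Subtype.val h) (n : N ⧸ R)
  · intro φ
    have h1 : rN D (fun n : N => Ψ φ (n : N ⧸ R)) = rN D (Φ φ) := by
      funext c
      exact hΨ2 φ _
    change classInner (rN D (fun n : N => Ψ φ (n : N ⧸ R))) (θ : C → ℂ) ≠ 0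
    rw [h1]
    have h2 := classInner_comp_equiv e (rN D (Φ φ)) (θ : C → ℂ)
    rw [← h2]
    have h3 := (hΦ φ).2
    change classInner (fun n : C.subgroupOf N => Φ φ n) θ' ≠ 0
    rw [h3]
    exact hψne φ

end Psi

section main

variable {M : Ideal AlgInt}

open scoped Classical in
theorem main_general (Q : Sylow p G) (hPQ : P = Q) (hN : N = Subgroup.normalizer (P : Set G))
    (hC : C = Subgroup.centralizer (P : Set G)) (hM : IsPModular p M) (hQ : Nat.card P = p)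
    [Fintype C] {θ : IrrCharacter C} (ht : TrivOn D (θ : C → ℂ)) {B : Set (IrrCharacter G)}
    (hDG : IsDefectGroup p M B P) (hind : IsInducedBlock M C (blockOf M (θ : C → ℂ)) B) :
      Nat.card B = Nat.card (HT D θ) + Nat.card ((ZMod p)ˣ ⧸ HT D θ) ∧
      ∃ (Y : (ZMod p)ˣ ⧸ HT D θ → B) (s : B → ℤ),
      Function.Injective Y ∧ (∀ χ, s χ = 1 ∨ s χ = -1) ∧
      (∀ χ, χ ∉ Set.range Y → ∀ i : (ZMod p)ˣ, dm D ((χ : IrrCharacter G) : G → ℂ) θ i = s χ) ∧
      (∀ (i : (ZMod p)ˣ) q, dm D ((Y q : IrrCharacter G) : G → ℂ) θ i =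
        if (i : (ZMod p)ˣ ⧸ HT D θ) = q then (s (Y q) : ℂ) else 0) := by
  classical
  have hprime := isPrime hM
  have hmax : M.IsMaximal := hM.2.1
  have hQ' : Nat.card Q = p := by
    have h := hQ
    rw [hPQ] at h
    exact h
  obtain ⟨u, K, hD0, hpK, hdisj, hTI⟩ := exists_data Q hQ'
  rw [← hPQ, ← hN] at hD0 hTI
  have hD : Data p P N K D.u := ⟨D.uP, D.ordu, D.gen, hD0.PN, fun n hn => D.norm n hn _ D.uP, hD0.KN, hD0.fac⟩
  haveI : CharP (BlockAlg.Kf M) p := BlockAlg.charP_Kf hM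
  haveI : IsAlgClosed (BlockAlg.Kf M) := DefOneRes.isAlgClosed (BlockAlg.mkK M) BlockAlg.mkK_surjective
  letI : Fintype N := Fintype.ofFinite N
  have hPC : P ≤ C := D.PC
  have hsq : ¬ p ^ 2 ∣ Nat.card G := DefOnePrin.not_sq Q hQ'
  have hsqC : ¬ p ^ 2 ∣ Nat.card C := fun h => hsq (h.trans (Subgroup.card_subgroup_dvd_card C))
  have hRn : (P.subgroupOf N).Normal := by
    refine ⟨fun n hn g => ?_⟩
    rw [Subgroup.mem_subgroupOf] at hn ⊢
    exact D.norm g g.2 n hn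
  have hR : ∀ n : N, n ∈ P.subgroupOf N ↔ (n : G) ∈ P := fun n => Subgroup.mem_subgroupOf
  letI : Fintype (N ⧸ P.subgroupOf N) := Fintype.ofFinite _
  have hRidx : ¬ p ∣ Nat.card (N ⧸ P.subgroupOf N) := by
    intro h
    apply hsq
    have h1 : Nat.card N = Nat.card (N ⧸ P.subgroupOf N) * Nat.card (P.subgroupOf N) :=
      Subgroup.card_eq_card_quotient_mul_card_subgroup _
    have h2 : Nat.card (P.subgroupOf N) = p := by
      rw [← hQ]
      exact Nat.card_congr (Subgroup.subgroupOfEquivOfLe hD0.PN).toEquiv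
    have h3 : p ^ 2 ∣ Nat.card N := by
      rw [h1, h2, pow_two]
      exact mul_dvd_mul_right h p
    exact h3.trans (Subgroup.card_subgroup_dvd_card N)
  have hC' : C = P ⊔ Subgroup.centralizer (P : Set G) := by
    rw [hC] at hPC ⊢
    exact (sup_eq_right.2 hPC).symm
  have hfin : Finite (HT D θ →* ℂˣ) := by
    apply Nat.finite_of_card_ne_zero
    rw [CommGroup.card_monoidHom_of_hasEnoughRootsOfUnity]
    exact Nat.card_pos.ne'
  letI : Fintype (HT D θ →* ℂˣ) := Fintype.ofFinite _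
  obtain ⟨Ψ, hΨinj, hΨ⟩ := exists_Psi D (P.subgroupOf N) hR ht
  letI : Fintype B := Fintype.ofFinite _
  letI : Fintype ((ZMod p)ˣ ⧸ HT D θ) := Fintype.ofFinite _
  have hmain := DefOne.main D (BlockAlg.mkK M) hM (fun a => BlockAlg.mkK_eq_zero_iff) BlockAlg.mkK_surjective hD hpK
    hTI (P.subgroupOf N) hR hRidx hsqC hsq hC' hN ht hDG hind Ψ hΨinj hΨ (by
      rw [← Nat.card_eq_fintype_card, CommGroup.card_monoidHom_of_hasEnoughRootsOfUnity])
  rw [← Nat.card_eq_fintype_card, ← Nat.card_eq_fintype_card] at hmain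
  exact hmain

theorem card_P (D : Loc p P N C) : Nat.card P = p := by
  have h5 : P = Subgroup.zpowers D.u := by
    apply le_antisymm
    · intro y hy
      obtain ⟨i, rfl⟩ := D.gen y hy
      exact Subgroup.pow_mem _ (Subgroup.mem_zpowers D.u) i
    · rw [Subgroup.zpowers_le]; exact D.uP
  rw [h5, Nat.card_zpowers, D.ordu]

/-- values on the `p`-singular elements of `C` -/
theorem value_general [Fintype C] [Fintype N] (hM : IsPModular p M) (hpC : ¬ p ^ 2 ∣ Nat.card C)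
    (hC : C = P ⊔ Subgroup.centralizer (P : Set G)) (hN : N = Subgroup.normalizer (P : Set G))
    {θ : IrrCharacter C} (ht : TrivOn D (θ : C → ℂ)) {B : Set (IrrCharacter G)}
    (hDG : IsDefectGroup p M B P) (hind : IsInducedBlock M C (blockOf M (θ : C → ℂ)) B)
    {χ : IrrCharacter G} (hχ : χ ∈ B) {c : C} (hc : D.l c ≠ 0) :
    (Nat.card (inN D θ) : ℂ) * (χ : G → ℂ) c =
      ∑ n : N, (cjI D n θ : C → ℂ) c * ∑ i : ZMod p, dm D (χ : G → ℂ) θ i * lam D (i * D.κ n) c := by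
  classical
  have := isPrime hM
  have hB : IsPBlock M B := hind.2.1
  have hfin : Fintype {b : Set (IrrCharacter C) // IsPBlock M b} := Fintype.ofFinite _
  let F : {b : Set (IrrCharacter C) // IsPBlock M b} → ℂ := fun b => blockPart (b : Set (IrrCharacter C)) (rs C (χ : G → ℂ)) c
  let β : N → {b : Set (IrrCharacter C) // IsPBlock M b} := fun n => ⟨blockOf M (cjI D n θ : C → ℂ), isPBlock_blockOf _⟩
  have hFβ : ∀ n, F (β n) = (cjI D n θ : C → ℂ) c * ∑ i : ZMod p, dm D (χ : G → ℂ) θ i * lam D (i * D.κ n) c := by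
    intro n
    change blockPart (blockOf M (cjI D n θ : C → ℂ)) (rs C (χ : G → ℂ)) c = _
    rw [blockOf_eq_fam D hM hpC _ (trivOn_cjI D n ht), DefOnePrin.blockPart_sing D _ _ (trivOn_cjI D n ht) hc]
    congr 1
    have h1 : ∀ i : ZMod p, dm D (χ : G → ℂ) θ i * lam D (i * D.κ n) c =
        dm D (χ : G → ℂ) (cjI D n θ) (i * D.κ n) * lam D (i * D.κ n) c := by
      intro i
      rw [dm_cjI D n χ.2.isClassFunction]
    rw [Finset.sum_congr rfl (fun i _ => h1 i)]
    exact (Equiv.sum_comp (Equiv.mulRight₀ (D.κ n) (D.κ_ne n)) (fun j => dm D (χ : G → ℂ) (cjI D n θ) j * lam D j c)).symm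
  have hfib : ∀ b, ((Finset.univ.filter (fun n : N => β n = b)).card : ℂ) * F b = (Nat.card (inN D θ) : ℂ) * F b := by
    intro b
    by_cases hb : ∃ n₀, β n₀ = b
    · obtain ⟨n₀, rfl⟩ := hb
      congr 2
      rw [Nat.card_eq_fintype_card, ← Finset.card_univ]
      symm
      refine Finset.card_bij (fun t _ => (t : N) * n₀) ?_ ?_ ?_
      · intro t _
        rw [Finset.mem_filter]
        refine ⟨Finset.mem_univ _, ?_⟩
        apply Subtype.ext
        change blockOf M (cjI D (t * n₀) θ : C → ℂ) = blockOf M (cjI D n₀ θ : C → ℂ)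
        rw [cjI_mul, (mem_inN D).1 t.2]
      · intro t _ t' _ h
        exact Subtype.ext (mul_right_cancel h)
      · intro n hn
        have h1 := (Finset.mem_filter.1 hn).2
        have h2 : blockOf M (cjI D n θ : C → ℂ) = blockOf M (cjI D n₀ θ : C → ℂ) := congrArg Subtype.val h1
        rw [blockOf_eq_fam D hM hpC _ (trivOn_cjI D n ht), blockOf_eq_fam D hM hpC _ (trivOn_cjI D n₀ ht)] at h2
        have h3 : cjI D n θ ∈ fam D (cjI D n₀ θ) := by
          rw [← h2]; exact ⟨0, LT_zero D _⟩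
        obtain ⟨i, hi⟩ := h3
        have h4 : LT D (cjI D n₀ θ) i = LT D (cjI D n θ) 0 := by
          change LT D (cjI D n₀ θ) i = cjI D n θ at hi
          rw [hi, LT_zero]
        have h5 := (LT_inj D (trivOn_cjI D n₀ ht) (trivOn_cjI D n ht) h4).1
        refine ⟨⟨n * n₀⁻¹, ?_⟩, Finset.mem_univ _, ?_⟩
        · rw [mem_inN, cjI_mul, ← h5, ← cjI_mul, mul_inv_cancel]
          exact cjI_of_mem D C.one_mem θ
        · change n * n₀⁻¹ * n₀ = n
          group
    · have h0 : F b = 0 := by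
        change blockPart (b : Set (IrrCharacter C)) (rs C (χ : G → ℂ)) c = 0
        apply blockPart_eq_zero D hM b.2 hB _ hχ hc
        intro hbB
        apply hb
        subst hC
        obtain ⟨n, hn, h1⟩ := BlockExtFM.ext_first_unique hM hDG hind hbB
        obtain ⟨θ', hθ', h2⟩ := h1 θ (mem_blockOf_self θ)
        refine ⟨⟨n, by rw [hN]; exact hn⟩, ?_⟩
        apply Subtype.ext
        have h3 : θ' = cjI D ⟨n, by rw [hN]; exact hn⟩ θ := by
          apply Subtype.ext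
          funext x
          exact h2 x _
        rw [h3] at hθ'
        exact (eq_blockOf b.2 hθ').symm
      rw [h0, mul_zero, mul_zero]
  have h1 : (χ : G → ℂ) c = ∑ b, F b := by
    have h1 : (χ : G → ℂ) c = lin (χ : G → ℂ) (single (c : G) 1 * incH C 1) := by
      rw [map_one, mul_one, lin_single, one_mul]
    rw [h1, ← sum_eB_blocks (M := M), map_sum, Finset.mul_sum, lin_sum]
    refine Finset.sum_congr rfl fun b _ => ?_
    rw [← blockPart_rs χ.2.isClassFunction]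
  rw [h1, Finset.mul_sum, ← Finset.sum_congr rfl (fun b _ => hfib b), ← Finset.sum_congr rfl (fun n _ => hFβ n)]
  rw [← Finset.sum_fiberwise_of_maps_to (s := Finset.univ) (t := Finset.univ) (g := β) (fun n _ => Finset.mem_univ _)]
  refine Finset.sum_congr rfl fun b _ => ?_
  rw [Finset.sum_congr rfl (fun n hn => by rw [(Finset.mem_filter.1 hn).2] : ∀ n ∈ Finset.univ.filter (fun n : N => β n = b),
    F (β n) = F b), Finset.sum_const, nsmul_eq_mul]

/-- a character of the block is determined on `p`-singular elements by the differences -/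
theorem eq_sing_of_dm [Fintype C] (Q : Sylow p G) (hPQ : P = Q) (hM : IsPModular p M) (hpC : ¬ p ^ 2 ∣ Nat.card C)
    (hC : C = P ⊔ Subgroup.centralizer (P : Set G)) (hN : N = Subgroup.normalizer (P : Set G))
    {θ : IrrCharacter C} (ht : TrivOn D (θ : C → ℂ)) {B : Set (IrrCharacter G)}
    (hDG : IsDefectGroup p M B P) (hind : IsInducedBlock M C (blockOf M (θ : C → ℂ)) B)
    {χ χ' : IrrCharacter G} (hχ : χ ∈ B) (hχ' : χ' ∈ B)
    (h : ∀ i : (ZMod p)ˣ, dm D (χ : G → ℂ) θ i = dm D (χ' : G → ℂ) θ i)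
    {c : C} (hc : D.l c ≠ 0) : (χ : G → ℂ) c = (χ' : G → ℂ) c := by
  classical
  letI : Fintype N := Fintype.ofFinite N
  have h0 : (Nat.card (inN D θ) : ℂ) ≠ 0 := by exact_mod_cast Nat.card_pos.ne'
  apply mul_left_cancel₀ h0
  rw [value_general D hM hpC hC hN ht hDG hind hχ hc, value_general D hM hpC hC hN ht hDG hind hχ' hc]
  refine Finset.sum_congr rfl fun n _ => ?_
  congr 1
  refine Finset.sum_congr rfl fun i _ => ?_
  congr 1
  by_cases hi : i = 0
  · rw [hi, dm, dm, sub_self, sub_self]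
  · exact h (Units.mk0 i hi)

/-- degrees of characters in the block -/
theorem degree_general [Fintype C] (hM : IsPModular p M) (hpC : ¬ p ^ 2 ∣ Nat.card C)
    (hC : C = P ⊔ Subgroup.centralizer (P : Set G)) (hN : N = Subgroup.normalizer (P : Set G))
    {θ : IrrCharacter C} (ht : TrivOn D (θ : C → ℂ)) {B : Set (IrrCharacter G)}
    (hDG : IsDefectGroup p M B P) (hind : IsInducedBlock M C (blockOf M (θ : C → ℂ)) B)
    {χ : IrrCharacter G} (hχ : χ ∈ B) : ∃ m : ℤ, (χ : G → ℂ) 1 = p * m +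
      ((inN D θ).index : ℂ) * (θ : C → ℂ) 1 * ∑ i : (ZMod p)ˣ, dm D (χ : G → ℂ) θ (i : ZMod p) := by
  classical
  letI : Fintype N := Fintype.ofFinite N
  obtain ⟨m, hm⟩ := DefOnePrin.sum_P D χ
  refine ⟨m, ?_⟩
  have h0 : (Nat.card (inN D θ) : ℂ) ≠ 0 := by exact_mod_cast Nat.card_pos.ne'
  have hidx : (Nat.card N : ℂ) = Nat.card (inN D θ) * ((inN D θ).index : ℂ) := by
    rw [← Subgroup.card_mul_index (inN D θ)]; push_cast; ring
  rw [DefOnePrin.sum_zmod_units, ZMod.val_zero, pow_zero] at hm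
  have hl : ∀ x : (ZMod p)ˣ, D.l ⟨D.u ^ (x : ZMod p).val, C.pow_mem (D.PC D.uP) _⟩ = x := by
    intro x
    rw [DefOnePrin.l_pow, ZMod.natCast_zmod_val]
  have h1 : ∀ x : (ZMod p)ˣ, (Nat.card (inN D θ) : ℂ) * (χ : G → ℂ) (D.u ^ (x : ZMod p).val) =
      ∑ n : N, (θ : C → ℂ) 1 * ∑ i : (ZMod p)ˣ, dm D (χ : G → ℂ) θ (i : ZMod p) *
        ZMod.stdAddChar ((i : ZMod p) * D.κ n * (x : ZMod p)) := by
    intro x
    have h2 := value_general D hM hpC hC hN ht hDG hind hχ (c := ⟨D.u ^ (x : ZMod p).val, C.pow_mem (D.PC D.uP) _⟩)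
      (by rw [hl]; exact x.ne_zero)
    change _ * (χ : G → ℂ) (D.u ^ (x : ZMod p).val) = _ at h2
    rw [h2]
    refine Finset.sum_congr rfl fun n _ => ?_
    congr 1
    · rw [trivOn_cjI D n ht _ (P.pow_mem D.uP _)]
      rw [cjI_apply, map_one]
    · rw [DefOnePrin.sum_zmod_units, dm, sub_self, zero_mul, zero_add]
      refine Finset.sum_congr rfl fun i _ => ?_
      rw [lam, hl]
  have h2 : ∀ (n : N) (i : (ZMod p)ˣ), ∑ x : (ZMod p)ˣ, (ZMod.stdAddChar ((i : ZMod p) * D.κ n * (x : ZMod p)) : ℂ) = -1 := by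
    intro n i
    have hne : (i : ZMod p) * D.κ n ≠ 0 := mul_ne_zero i.ne_zero (D.κ_ne n)
    have h3 := DefOnePrin.sum_units_lam D (c := ⟨D.u ^ ((i : ZMod p) * D.κ n).val, C.pow_mem (D.PC D.uP) _⟩)
      (by rw [DefOnePrin.l_pow, ZMod.natCast_zmod_val]; exact hne)
    rw [← h3]
    refine Finset.sum_congr rfl fun x _ => ?_
    rw [lam, DefOnePrin.l_pow, ZMod.natCast_zmod_val, mul_comm]
  have h3 : (Nat.card (inN D θ) : ℂ) * ∑ x : (ZMod p)ˣ, (χ : G → ℂ) (D.u ^ (x : ZMod p).val) =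
      - (Nat.card N : ℂ) * (θ : C → ℂ) 1 * ∑ i : (ZMod p)ˣ, dm D (χ : G → ℂ) θ (i : ZMod p) := by
    rw [Finset.mul_sum, Finset.sum_congr rfl (fun x _ => h1 x), Finset.sum_comm]
    have h4 : ∀ n : N, ∑ x : (ZMod p)ˣ, (θ : C → ℂ) 1 * ∑ i : (ZMod p)ˣ, dm D (χ : G → ℂ) θ (i : ZMod p) *
        ZMod.stdAddChar ((i : ZMod p) * D.κ n * (x : ZMod p)) =
        - ((θ : C → ℂ) 1 * ∑ i : (ZMod p)ˣ, dm D (χ : G → ℂ) θ (i : ZMod p)) := by
      intro n
      rw [← Finset.mul_sum, Finset.sum_comm]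
      have h5 : ∀ i : (ZMod p)ˣ, ∑ x : (ZMod p)ˣ, dm D (χ : G → ℂ) θ (i : ZMod p) *
          ZMod.stdAddChar ((i : ZMod p) * D.κ n * (x : ZMod p)) = - dm D (χ : G → ℂ) θ (i : ZMod p) := by
        intro i
        rw [← Finset.mul_sum, h2]; ring
      rw [Finset.sum_congr rfl (fun i _ => h5 i), Finset.sum_neg_distrib]
      ring
    rw [Finset.sum_congr rfl (fun n _ => h4 n), Finset.sum_const, Finset.card_univ, nsmul_eq_mul,
      ← Nat.card_eq_fintype_card]
    ring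
  rw [hidx] at h3
  have h4 : ∑ x : (ZMod p)ˣ, (χ : G → ℂ) (D.u ^ (x : ZMod p).val) =
      - ((inN D θ).index : ℂ) * (θ : C → ℂ) 1 * ∑ i : (ZMod p)ˣ, dm D (χ : G → ℂ) θ (i : ZMod p) := by
    apply mul_left_cancel₀ h0
    rw [h3]; ring
  rw [h4] at hm
  linear_combination hm

theorem card_inN (θ : IrrCharacter C) : Nat.card (inN D θ) = Nat.card (HT D θ) * Nat.card C := by
  classical
  let q : inN D θ →* HT D θ := ((κu D).comp (inN D θ).subtype).codRestrict (HT D θ) (fun t => ⟨t, t.2, rfl⟩)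
  have hqsurj : Function.Surjective q := by
    rintro ⟨_, t, ht, rfl⟩
    exact ⟨⟨t, ht⟩, rfl⟩
  have hCT : C.subgroupOf N ≤ inN D θ := fun n hn => cjI_of_mem D hn θ
  have hqker : q.ker = (C.subgroupOf N).subgroupOf (inN D θ) := by
    ext t
    rw [MonoidHom.mem_ker, Subgroup.mem_subgroupOf, ← ker_κu D, MonoidHom.mem_ker]
    exact ⟨fun h => congrArg Subtype.val h, fun h => Subtype.ext h⟩
  rw [Subgroup.card_eq_card_quotient_mul_card_subgroup q.ker,
    Nat.card_congr (QuotientGroup.quotientKerEquivOfSurjective q hqsurj).toEquiv, hqker,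
    Nat.card_congr (Subgroup.subgroupOfEquivOfLe hCT).toEquiv,
    Nat.card_congr (Subgroup.subgroupOfEquivOfLe D.CN).toEquiv]

theorem relIndex_map (θ : IrrCharacter C) : C.relIndex ((inN D θ).map N.subtype) = Nat.card (HT D θ) := by
  have hCT : C ≤ (inN D θ).map N.subtype := fun c hc => ⟨⟨c, D.CN hc⟩, cjI_of_mem D hc θ, rfl⟩
  have h1 : Nat.card C * C.relIndex ((inN D θ).map N.subtype) = Nat.card ((inN D θ).map N.subtype) := by
    rw [← Nat.card_congr (Subgroup.subgroupOfEquivOfLe hCT).toEquiv, Subgroup.relIndex, Subgroup.card_mul_index]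
  have h2 : Nat.card ((inN D θ).map N.subtype) = Nat.card (inN D θ) :=
    Nat.card_congr ((inN D θ).equivMapOfInjective N.subtype N.subtype_injective).symm.toEquiv
  rw [h2, card_inN, mul_comm] at h1
  exact Nat.eq_of_mul_eq_mul_right Nat.card_pos h1

theorem relIndex_N (θ : IrrCharacter C) : C.relIndex N = Nat.card (HT D θ) * (inN D θ).index := by
  have h1 : Nat.card C * C.relIndex N = Nat.card N := by
    rw [← Nat.card_congr (Subgroup.subgroupOfEquivOfLe D.CN).toEquiv, Subgroup.relIndex, Subgroup.card_mul_index]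
  rw [← Subgroup.card_mul_index (inN D θ), card_inN] at h1
  apply Nat.eq_of_mul_eq_mul_left (Nat.card_pos (α := C))
  rw [h1]; ring

theorem card_quot (θ : IrrCharacter C) : Nat.card (HT D θ) ∣ p - 1 ∧
    Nat.card ((ZMod p)ˣ ⧸ HT D θ) = (p - 1) / Nat.card (HT D θ) := by
  have h1 := Subgroup.card_eq_card_quotient_mul_card_subgroup (HT D θ)
  rw [Nat.card_eq_fintype_card, ZMod.card_units] at h1
  refine ⟨⟨_, by rw [h1, mul_comm]⟩, ?_⟩
  have h2 : 0 < Nat.card (HT D θ) := Nat.card_pos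
  rw [h1, Nat.mul_div_cancel _ h2]

open scoped Classical in
/-- the linear relation between exceptional and non-exceptional characters -/
theorem rel_general [Fintype C] (hM : IsPModular p M) {B : Set (IrrCharacter G)} (hB : IsPBlock M B)
    {θ : IrrCharacter C} (Y : (ZMod p)ˣ ⧸ HT D θ → B) (s : B → ℤ) (hY : Function.Injective Y)
    (hs1 : ∀ χ, χ ∉ Set.range Y → ∀ i : (ZMod p)ˣ, dm D ((χ : IrrCharacter G) : G → ℂ) θ i = s χ)
    (hs2 : ∀ (i : (ZMod p)ˣ) q, dm D ((Y q : IrrCharacter G) : G → ℂ) θ i =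
        if (i : (ZMod p)ˣ ⧸ HT D θ) = q then (s (Y q) : ℂ) else 0)
    (q : (ZMod p)ˣ ⧸ HT D θ) {g : G} (hg : ¬ p ∣ orderOf g) :
    (∑ᶠ χ ∈ B \ Set.range (fun q => (Y q : IrrCharacter G)),
      ((if h : χ ∈ B then s ⟨χ, h⟩ else 1 : ℤ) : ℂ) * (χ : G → ℂ) g) +
      (s (Y q) : ℂ) * ((Y q : IrrCharacter G) : G → ℂ) g = 0 := by
  letI : Fintype B := Fintype.ofFinite _
  set s' : IrrCharacter G → ℤ := fun χ => if h : χ ∈ B then s ⟨χ, h⟩ else 1 with hs'def
  have hs' : ∀ χ : B, s' χ = s χ := fun χ => dif_pos χ.2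
  obtain ⟨i, rfl⟩ := QuotientGroup.mk_surjective q
  have h1 := relation D hM hB θ (i : ZMod p) hg
  have h2 : ∀ χ : B, dm D ((χ : IrrCharacter G) : G → ℂ) θ i * ((χ : IrrCharacter G) : G → ℂ) g =
      (if χ = Y i then (s (Y i) : ℂ) * ((Y i : IrrCharacter G) : G → ℂ) g else 0) +
        (if χ ∉ Set.range Y then (s' χ : ℂ) * ((χ : IrrCharacter G) : G → ℂ) g else 0) := by
    intro χ
    by_cases hχ : χ ∈ Set.range Y
    · obtain ⟨q', rfl⟩ := hχ
      rw [hs2 i q', if_neg (not_not.2 ⟨q', rfl⟩), add_zero]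
      by_cases hq : (i : (ZMod p)ˣ ⧸ HT D θ) = q'
      · rw [if_pos hq, if_pos (by rw [hq]), hq]
      · rw [if_neg hq, if_neg (fun h => hq (hY h).symm), zero_mul]
    · rw [hs1 χ hχ i, if_pos hχ, if_neg (fun h => hχ ⟨_, h.symm⟩), zero_add, hs']
  rw [Finset.sum_congr rfl (fun χ _ => h2 χ), Finset.sum_add_distrib, Finset.sum_ite_eq' Finset.univ (Y i),
    if_pos (Finset.mem_univ _)] at h1
  have h3 : ∑ᶠ χ ∈ B \ Set.range (fun q => (Y q : IrrCharacter G)), ((s' χ : ℤ) : ℂ) * (χ : G → ℂ) g =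
      ∑ χ : B, (if χ ∉ Set.range Y then (s' χ : ℂ) * ((χ : IrrCharacter G) : G → ℂ) g else 0) := by
    rw [finsum_mem_eq_finite_toFinset_sum _ (Set.toFinite _), ← Finset.sum_filter]
    refine Finset.sum_bij' (fun χ h => ⟨χ, ((Set.Finite.mem_toFinset _).1 h).1⟩) (fun χ _ => (χ : IrrCharacter G))
      ?_ ?_ ?_ ?_ ?_
    · intro χ hχ
      rw [Finset.mem_filter]
      refine ⟨Finset.mem_univ _, ?_⟩
      rintro ⟨q', hq'⟩
      exact ((Set.Finite.mem_toFinset _).1 hχ).2 ⟨q', congrArg Subtype.val hq'⟩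
    · intro χ hχ
      rw [Set.Finite.mem_toFinset]
      refine ⟨χ.2, ?_⟩
      rintro ⟨q', hq'⟩
      exact (Finset.mem_filter.1 hχ).2 ⟨q', Subtype.ext hq'⟩
    · intro χ hχ; rfl
    · intro χ hχ; rfl
    · intro χ hχ; rfl
  have h4 : ∑ᶠ χ ∈ B \ Set.range (fun q => (Y q : IrrCharacter G)), ((s' χ : ℤ) : ℂ) * (χ : G → ℂ) g +
      (s (Y i) : ℂ) * ((Y i : IrrCharacter G) : G → ℂ) g = 0 := by
    rw [h3]
    linear_combination h1
  exact h4

open scoped Classical in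
theorem same_sign [Fintype C] (hM : IsPModular p M) {B : Set (IrrCharacter G)} (hB : IsPBlock M B)
    {θ : IrrCharacter C} (Y : (ZMod p)ˣ ⧸ HT D θ → B) (s : B → ℤ) (hY : Function.Injective Y)
    (hs : ∀ χ, s χ = 1 ∨ s χ = -1)
    (hs1 : ∀ χ, χ ∉ Set.range Y → ∀ i : (ZMod p)ˣ, dm D ((χ : IrrCharacter G) : G → ℂ) θ i = s χ)
    (hs2 : ∀ (i : (ZMod p)ˣ) q, dm D ((Y q : IrrCharacter G) : G → ℂ) θ i =
        if (i : (ZMod p)ˣ ⧸ HT D θ) = q then (s (Y q) : ℂ) else 0)
    (q q' : (ZMod p)ˣ ⧸ HT D θ) : s (Y q) = s (Y q') := by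
  have h1 := (rel_general D hM hB Y s hY hs1 hs2 q (g := 1) (by rw [orderOf_one]; exact hp.out.one_lt.ne' ∘ Nat.dvd_one.1)).trans
    (rel_general D hM hB Y s hY hs1 hs2 q' (g := 1) (by rw [orderOf_one]; exact hp.out.one_lt.ne' ∘ Nat.dvd_one.1)).symm
  have h1' := add_left_cancel h1
  rw [← BlockDeg.charDegree_cast_irr (Y q : IrrCharacter G), ← BlockDeg.charDegree_cast_irr (Y q' : IrrCharacter G)] at h1'
  have h2 : (s (Y q)) * (charDegree ((Y q : IrrCharacter G) : G → ℂ) : ℤ) =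
      s (Y q') * (charDegree ((Y q' : IrrCharacter G) : G → ℂ) : ℤ) := by
    exact_mod_cast h1'
  have h3 := BlockDeg.charDegree_pos (Y q : IrrCharacter G).2
  have h4 := BlockDeg.charDegree_pos (Y q' : IrrCharacter G).2
  rcases hs (Y q) with h5 | h5 <;> rcases hs (Y q') with h6 | h6 <;> rw [h5, h6] at h2 ⊢ <;> omega

open scoped Classical in
theorem card_fiber (θ : IrrCharacter C) (q : (ZMod p)ˣ ⧸ HT D θ) :
    (Finset.univ.filter (fun i : (ZMod p)ˣ => (i : (ZMod p)ˣ ⧸ HT D θ) = q)).card = Nat.card (HT D θ) := by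
  obtain ⟨j, rfl⟩ := QuotientGroup.mk_surjective q
  rw [← Fintype.card_coe, ← Nat.card_eq_fintype_card]
  refine Nat.card_congr
    { toFun := fun x => ⟨j⁻¹ * x, ?_⟩
      invFun := fun x => ⟨j * x, ?_⟩
      left_inv := ?_
      right_inv := ?_ }
  · have := (Finset.mem_filter.1 x.2).2
    exact QuotientGroup.eq.1 this.symm
  · rw [Finset.mem_filter]
    refine ⟨Finset.mem_univ _, ?_⟩
    apply Eq.symm
    rw [QuotientGroup.eq, inv_mul_cancel_left]
    exact x.2
  · intro x; exact Subtype.ext (mul_inv_cancel_left _ _)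
  · intro x; exact Subtype.ext (inv_mul_cancel_left _ _)

theorem result_general (Q : Sylow p G) (hPQ : P = Q) (hN : N = Subgroup.normalizer (P : Set G))
    (hC : C = Subgroup.centralizer (P : Set G)) (hM : IsPModular p M) (hQ : Nat.card P = p)
    {θ : IrrCharacter C} (ht : TrivOn D (θ : C → ℂ)) {B : Set (IrrCharacter G)}
    (hDG : IsDefectGroup p M B P) (hind : IsInducedBlock M C (blockOf M (θ : C → ℂ)) B)
    (T : Subgroup G) (hT : T = (inN D θ).map N.subtype) (e f : ℕ) (he : C.relIndex T = e) (hf : C.relIndex N = f) :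
    e ∣ p - 1 ∧ Nat.card B = e + (p - 1) / e ∧
      ∃ X Y : Set (IrrCharacter G), B = X ∪ Y ∧ Disjoint X Y ∧ Nat.card X = e ∧ Nat.card Y = (p - 1) / e ∧
        (∀ χ ∈ X, (charDegree (χ : G → ℂ) : ℤ) ≡ ((f / e * charDegree (θ : C → ℂ) : ℕ) : ℤ) [ZMOD p] ∨
          (charDegree (χ : G → ℂ) : ℤ) ≡ -((f / e * charDegree (θ : C → ℂ) : ℕ) : ℤ) [ZMOD p]) ∧
        (∃ ε : ℤ, (ε = 1 ∨ ε = -1) ∧ ∀ ψ ∈ Y,
          (charDegree (ψ : G → ℂ) : ℤ) ≡ ε * ((f * charDegree (θ : C → ℂ) : ℕ) : ℤ) [ZMOD p]) ∧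
        ∀ ψ ∈ Y, ∀ ψ' ∈ Y, ∀ g : G, ¬ p ∣ orderOf g → (ψ : G → ℂ) g = (ψ' : G → ℂ) g := by
  classical
  letI : Fintype C := Fintype.ofFinite C
  obtain ⟨hcard, Y, s, hY, hs, hs1, hs2⟩ := main_general D Q hPQ hN hC hM hQ ht hDG hind
  have hQ' : Nat.card Q = p := by
    have h := hQ
    rw [hPQ] at h
    exact h
  have hsq : ¬ p ^ 2 ∣ Nat.card G := DefOnePrin.not_sq Q hQ'
  have hpC : ¬ p ^ 2 ∣ Nat.card C := fun h => hsq (h.trans (Subgroup.card_subgroup_dvd_card C))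
  have hC' : C = P ⊔ Subgroup.centralizer (P : Set G) := by
    have h := D.PC
    rw [hC] at h ⊢
    exact (sup_eq_right.2 h).symm
  have hB : IsPBlock M B := hind.2.1
  have he' : Nat.card (HT D θ) = e := by rw [← he, hT, relIndex_map]
  have hepos : 0 < e := by rw [← he']; exact Nat.card_pos
  have hfe : f = e * (inN D θ).index := by rw [← hf, relIndex_N D θ, he']
  have hfe' : f / e = (inN D θ).index := by rw [hfe, Nat.mul_div_cancel_left _ hepos]
  obtain ⟨hdvd, hcq⟩ := card_quot D θ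
  rw [he'] at hdvd hcq hcard
  rw [hcq] at hcard
  let Y' : (ZMod p)ˣ ⧸ HT D θ → IrrCharacter G := fun q => (Y q : IrrCharacter G)
  have hY' : Function.Injective Y' := fun q q' h => hY (Subtype.ext h)
  have hYB : Set.range Y' ⊆ B := by
    rintro _ ⟨q, rfl⟩
    exact (Y q).2
  obtain ⟨q0⟩ : Nonempty ((ZMod p)ˣ ⧸ HT D θ) := inferInstance
  have hθ1 := BlockDeg.charDegree_cast_irr θ
  refine ⟨hdvd, hcard, B \ Set.range Y', Set.range Y', ?_, Set.disjoint_sdiff_left, ?_, ?_, ?_, ⟨s (Y q0), hs _, ?_⟩, ?_⟩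
  · rw [Set.diff_union_of_subset hYB]
  · rw [Nat.card_coe_set_eq, Set.ncard_diff hYB, ← Nat.card_coe_set_eq, hcard, ← Nat.card_coe_set_eq,
      Nat.card_range_of_injective hY', hcq, Nat.add_sub_cancel]
  · rw [Nat.card_range_of_injective hY', hcq]
  · rintro χ ⟨hχ, hχY⟩
    have hχY' : (⟨χ, hχ⟩ : B) ∉ Set.range Y := by
      rintro ⟨q, hq⟩
      exact hχY ⟨q, congrArg Subtype.val hq⟩
    have hdm : ∀ i : (ZMod p)ˣ, dm D (χ : G → ℂ) θ i = s ⟨χ, hχ⟩ := hs1 ⟨χ, hχ⟩ hχY'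
    obtain ⟨m, hm⟩ := degree_general D hM hpC hC' hN ht hDG hind hχ
    rw [Finset.sum_congr rfl (fun i _ => hdm i), Finset.sum_const, Finset.card_univ, ZMod.card_units, nsmul_eq_mul,
      ← BlockDeg.charDegree_cast_irr χ, ← hθ1, Nat.cast_sub hp.out.one_le] at hm
    have h1 : (charDegree (χ : G → ℂ) : ℤ) = p * m + (inN D θ).index * charDegree (θ : C → ℂ) * (((p : ℤ) - 1) * s ⟨χ, hχ⟩) := by
      push_cast at hm
      exact_mod_cast hm
    rw [hfe']
    rcases hs ⟨χ, hχ⟩ with h2 | h2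
    · right
      rw [h1, h2]
      refine (Int.modEq_iff_dvd.2 ⟨-(m + (inN D θ).index * charDegree (θ : C → ℂ)), ?_⟩)
      push_cast; ring
    · left
      rw [h1, h2]
      refine (Int.modEq_iff_dvd.2 ⟨-(m - (inN D θ).index * charDegree (θ : C → ℂ)), ?_⟩)
      push_cast; ring
  · rintro _ ⟨q, rfl⟩
    obtain ⟨m, hm⟩ := degree_general D hM hpC hC' hN ht hDG hind (Y q).2
    have h1 : ∑ i : (ZMod p)ˣ, dm D ((Y q : IrrCharacter G) : G → ℂ) θ i = (s (Y q) : ℂ) * e := by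
      rw [Finset.sum_congr rfl (fun i _ => hs2 i q), ← Finset.sum_filter, Finset.sum_const, nsmul_eq_mul, mul_comm,
        card_fiber, he']
    rw [h1, ← BlockDeg.charDegree_cast_irr (Y' q), ← hθ1] at hm
    have h2 : (charDegree (Y' q : G → ℂ) : ℤ) = p * m + (inN D θ).index * charDegree (θ : C → ℂ) * (s (Y q) * e) := by
      exact_mod_cast hm
    rw [h2, same_sign D hM hB Y s hY hs hs1 hs2 q q0, hfe]
    refine (Int.modEq_iff_dvd.2 ⟨-m, ?_⟩)
    push_cast; ring
  · rintro _ ⟨q, rfl⟩ _ ⟨q', rfl⟩ g hg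
    have h1 := (rel_general D hM hB Y s hY hs1 hs2 q hg).trans (rel_general D hM hB Y s hY hs1 hs2 q' hg).symm
    have h1' := add_left_cancel h1
    rw [same_sign D hM hB Y s hY hs hs1 hs2 q q'] at h1'
    have h2 : (s (Y q') : ℂ) ≠ 0 := by
      rcases hs (Y q') with h | h <;> rw [h] <;> simp
    exact mul_left_cancel₀ h2 h1'

end main

end Cfsg.Agent.Lib.DefOneGen
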