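import Mathlib
import Cfsg.Agent.Lib.CharGalois

set_option autoImplicit false
set_option linter.all false

/-!
# Automorphisms of the complex numbers with prescribed action on roots of unity
-/

namespace Cfsg.Agent.Lib.GalAutC

/-- Every automorphism of a subfield of `ℂ` extends to an automorphism of `ℂ`. -/
theorem exists_extension_of_auto {F : Type*} [Field F] [Algebra F ℂ] (τ : F ≃+* F) :
    ∃ σ : ℂ ≃+* ℂ, ∀ x : F, σ (algebraMap F ℂ x) = algebraMap F ℂ (τ x) := by
  obtain ⟨s, hs⟩ := exists_isTranscendenceBasis F ℂ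
  let x : s → ℂ := (↑)
  let A := Algebra.adjoin F (Set.range x)
  haveI : IsAlgClosure A ℂ := IsAlgClosed.isAlgClosure_of_transcendence_basis x hs
  let e : MvPolynomial s F ≃ₐ[F] A := hs.1.aevalEquiv
  let e' : A ≃+* A := (e.symm.toRingEquiv.trans (MvPolynomial.mapEquiv s τ)).trans e.toRingEquiv
  refine ⟨IsAlgClosure.equivOfEquiv ℂ ℂ e', fun a => ?_⟩
  have h1 : algebraMap F ℂ a = algebraMap A ℂ (algebraMap F A a) := rfl
  rw [h1, IsAlgClosure.equivOfEquiv_algebraMap]
  have h2 : e' (algebraMap F A a) = algebraMap F A (τ a) := by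
    change e (MvPolynomial.mapEquiv s τ (e.symm (algebraMap F A a))) = _
    rw [AlgEquiv.commutes]
    have h3 : MvPolynomial.mapEquiv s τ (algebraMap F (MvPolynomial s F) a) =
        algebraMap F (MvPolynomial s F) (τ a) := by
      rw [MvPolynomial.algebraMap_eq]
      simp
    rw [h3, AlgEquiv.commutes]
  rw [h2]; rfl

/-- For `k` prime to `n` there is an automorphism of `ℂ` raising all `n`-th roots of unity to the
`k`-th power. -/
theorem exists_ringEquiv_pow {n : ℕ} (hn : 0 < n) {k : ℕ} (hk : k.Coprime n) :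
    ∃ σ : ℂ ≃+* ℂ, ∀ μ : ℂ, μ ^ n = 1 → σ μ = μ ^ k := by
  have hn0 : NeZero n := ⟨hn.ne'⟩
  set ζ : ℂ := Complex.exp (2 * Real.pi * Complex.I / n) with hζdef
  have hζ : IsPrimitiveRoot ζ n := Complex.isPrimitiveRoot_exp n hn.ne'
  have hint : IsIntegral ℤ ζ := hζ.isIntegral hn
  have hintQ : IsIntegral ℚ ζ := hint.tower_top
  let K := IntermediateField.adjoin ℚ ({ζ} : Set ℂ)
  let pb : PowerBasis ℚ K := IntermediateField.adjoin.powerBasis hintQ
  have hgen : (pb.gen : ℂ) = ζ := by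
    simp [pb]
  have hroot : Polynomial.aeval (pb.gen ^ k) (minpoly ℚ pb.gen) = 0 := by
    have h1 : minpoly ℚ pb.gen = minpoly ℚ ζ := by
      rw [← hgen]
      exact (minpoly.algebraMap_eq (algebraMap K ℂ).injective pb.gen).symm
    have h2 : minpoly ℚ ζ = (minpoly ℤ ζ).map (algebraMap ℤ ℚ) :=
      minpoly.isIntegrallyClosed_eq_field_fractions' ℚ hint
    have h3 : algebraMap K ℂ (Polynomial.aeval (pb.gen ^ k) (minpoly ℚ pb.gen)) = 0 := by
      rw [← Polynomial.aeval_algebraMap_apply, h1, h2, Polynomial.aeval_map_algebraMap]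
      have h4 : algebraMap K ℂ (pb.gen ^ k) = ζ ^ k := by
        rw [map_pow]; congr 1
      rw [h4, hζ.minpoly_eq_pow_coprime hk]
      exact minpoly.aeval ℤ (ζ ^ k)
    exact (algebraMap K ℂ).injective (by rw [h3, map_zero])
  let φ : K →ₐ[ℚ] K := pb.lift (pb.gen ^ k) hroot
  haveI : FiniteDimensional ℚ K := pb.finite
  have hφ : Function.Bijective φ := by
    have h1 : Function.Injective φ := φ.toRingHom.injective
    exact ⟨h1, (LinearMap.injective_iff_surjective (f := φ.toLinearMap)).1 h1⟩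
  obtain ⟨σ, hσ⟩ := exists_extension_of_auto (F := K) (RingEquiv.ofBijective φ hφ)
  have hσζ : σ ζ = ζ ^ k := by
    have h1 := hσ pb.gen
    have h2 : (RingEquiv.ofBijective φ hφ) pb.gen = pb.gen ^ k := pb.lift_gen _ hroot
    rw [h2, map_pow] at h1
    have h3 : algebraMap K ℂ pb.gen = ζ := hgen
    rwa [h3] at h1
  refine ⟨σ, fun μ hμ => ?_⟩
  obtain ⟨i, _, hi⟩ := hζ.eq_pow_of_pow_eq_one hμ
  rw [← hi, map_pow, hσζ, ← pow_mul, ← pow_mul, mul_comm]

end Cfsg.Agent.Lib.GalAutC
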