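import Mathlib
import Cfsg.Agent.Lib.DefOneGen
import Cfsg.Agent.Lib.GalAutC

set_option autoImplicit false
set_option linter.all false

/-!
# Blocks with a Sylow subgroup of prime order as defect group: Galois action
-/

namespace Cfsg.Agent.Lib.DefOneGalois

open Cfsg Cfsg.Agent.Lib.BlockRing Cfsg.Agent.Lib.BlockGA Cfsg.Agent.Lib.BlockIdem
open Cfsg.Agent.Lib.BlockSecond Cfsg.Agent.Lib.BlockNormP
open Cfsg.Agent.Lib.DefOneLoc Cfsg.Agent.Lib.DefOneOrd Cfsg.Agent.Lib.CharBasic Cfsg.Agent.Lib.DefOneGram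
open Cfsg.Agent.Lib.DefOneBlk Cfsg.Agent.Lib.DefOne Cfsg.Agent.Lib.DefOneGen
open scoped ComplexConjugate

universe u

variable {G : Type u} [Group G] [Fintype G] {p : ℕ} [hp : Fact p.Prime] {P N C : Subgroup G}
  (D : Loc p P N C)

/-- Galois conjugate of an irreducible character -/
noncomputable def gal {H : Type u} [Group H] [Finite H] (σ : ℂ →+* ℂ) (χ : IrrCharacter H) : IrrCharacter H :=
  ⟨fun g => σ ((χ : H → ℂ) g), CharGalois.isIrrCharacter_map χ.2 σ⟩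

theorem gal_apply {H : Type u} [Group H] [Finite H] (σ : ℂ →+* ℂ) (χ : IrrCharacter H) (g : H) :
    (gal σ χ : H → ℂ) g = σ ((χ : H → ℂ) g) := rfl

theorem classInner_map {H : Type u} [Group H] [Fintype H] (σ : ℂ →+* ℂ) {a b : H → ℂ}
    (ha : IsCharacter H a) (hb : IsCharacter H b) :
    classInner (fun g => σ (a g)) (fun g => σ (b g)) = classInner a b := by
  obtain ⟨n, hn⟩ := ha.classInner_nat hb
  rw [hn, ← map_natCast σ n, ← hn, classInner_def, classInner_def, map_mul, map_inv₀, map_natCast, map_sum]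
  congr 1
  refine Finset.sum_congr rfl fun g _ => ?_
  rw [map_mul]
  congr 1
  rw [← (CharGalois.isCharacter_map hb σ).inv, ← hb.inv]

theorem map_reg {H : Type u} [Group H] [Finite H] {n : ℕ} (σ : ℂ →+* ℂ) (hσ : ∀ μ : ℂ, μ ^ n = 1 → σ μ = μ)
    {χ : H → ℂ} (hχ : IsCharacter H χ) {g : H} (hg : orderOf g ∣ n) : σ (χ g) = χ g := by
  have h1 := CharGalois.map_apply_eq hχ σ 1 g (fun μ hμ => by
    rw [pow_one]
    apply hσ
    obtain ⟨m, hm⟩ := hg
    rw [hm, pow_mul, hμ, one_pow])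
  rwa [pow_one] at h1

section

variable {g' : ℕ} (hG : Nat.card G = p * g') (σ : ℂ →+* ℂ) (hσ : ∀ μ : ℂ, μ ^ g' = 1 → σ μ = μ)
  {k : (ZMod p)ˣ} (hk : ∀ x : ZMod p, σ (ZMod.stdAddChar x) = ZMod.stdAddChar ((k : ZMod p) * x))

include hG in
theorem orderOf_dvd {g : G} (hg : ¬ p ∣ orderOf g) : orderOf g ∣ g' := by
  have h1 : orderOf g ∣ p * g' := by rw [← hG]; exact orderOf_dvd_natCard g
  exact (Nat.Coprime.dvd_of_dvd_mul_left (((Nat.Prime.coprime_iff_not_dvd hp.out).2 hg).symm) h1)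

include hG hσ in
theorem gal_reg (χ : IrrCharacter G) {g : G} (hg : ¬ p ∣ orderOf g) : (gal σ χ : G → ℂ) g = (χ : G → ℂ) g :=
  map_reg σ hσ χ.2.isCharacter (orderOf_dvd hG hg)

include hG hσ hk in
theorem gal_LT [Fintype C] {θ : IrrCharacter C} (ht : TrivOn D (θ : C → ℂ)) (i : ZMod p) :
    (LT D θ ((k : ZMod p) * i) : C → ℂ) = fun c => σ ((LT D θ i : C → ℂ) c) := by
  funext c
  rw [LT_apply, LT_apply, map_mul, lam, lam, hk, mul_assoc]
  congr 1
  obtain ⟨x, v, hxv, hv⟩ := D.fac c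
  have h4 : c = ⟨x, D.PC x.2⟩ * v := Subtype.ext hxv
  rw [h4, theta_mul D θ.2.isCharacter ht (x := ⟨x, D.PC x.2⟩) x.2]
  symm
  apply map_reg σ hσ θ.2.isCharacter
  have h5 := orderOf_dvd hG ((D.l_reg v).1 hv)
  rwa [Subgroup.orderOf_coe] at h5

include hG hσ hk in
theorem gal_dm [Fintype C] {θ : IrrCharacter C} (ht : TrivOn D (θ : C → ℂ)) (χ : IrrCharacter G) (i : ZMod p) :
    dm D (gal σ χ : G → ℂ) θ ((k : ZMod p) * i) = dm D (χ : G → ℂ) θ i := by
  have h1 : ∀ i : ZMod p, mu D (gal σ χ : G → ℂ) θ ((k : ZMod p) * i) = mu D (χ : G → ℂ) θ i := by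
    intro i
    rw [mu, mu, gal_LT D hG σ hσ hk ht i]
    exact classInner_map σ (χ.2.isCharacter.restrict C) (LT D θ i).2.isCharacter
  have h2 := h1 0
  rw [mul_zero] at h2
  rw [dm, dm, h1, h2]

end

/-- every `p`-singular element is conjugate to an element of `C` -/
theorem exists_conj_C (Q : Sylow p G) (hPQ : P = Q) {g : G} (hg : p ∣ orderOf g) :
    ∃ (z : G) (c : C), (c : G) = z * g * z⁻¹ ∧ D.l c ≠ 0 := by
  obtain ⟨m, hm⟩ := hg
  have hm0 : m ≠ 0 := by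
    rintro rfl
    have := orderOf_pos g
    omega
  have hx : orderOf (g ^ m) = p := by
    rw [orderOf_pow' g hm0, hm, Nat.gcd_mul_left_left, Nat.mul_div_cancel _ (Nat.pos_of_ne_zero hm0)]
  have hpx : IsPGroup p (Subgroup.zpowers (g ^ m)) := by
    apply IsPGroup.of_card (n := 1)
    rw [Nat.card_zpowers, hx, pow_one]
  obtain ⟨R, hR⟩ := hpx.exists_le_sylow
  obtain ⟨z, hz⟩ := MulAction.exists_smul_eq G R Q
  have hzx : z * g ^ m * z⁻¹ ∈ P := by
    rw [hPQ, ← hz]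
    exact ⟨g ^ m, hR (Subgroup.mem_zpowers _), rfl⟩
  have hzx1 : z * g ^ m * z⁻¹ ≠ 1 := by
    intro h
    have h1 : g ^ m = 1 := by
      have h2 : g ^ m = z⁻¹ * (z * g ^ m * z⁻¹) * z := by group
      rw [h2, h]; group
    rw [h1, orderOf_one] at hx
    exact hp.out.one_lt.ne hx
  have hC : z * g * z⁻¹ ∈ C := by
    rw [D.comm _ _ hzx hzx1, ← conj_pow]
    exact (Commute.refl _).pow_left m
  refine ⟨z, ⟨_, hC⟩, rfl, ?_⟩
  rw [Ne, D.l_reg, not_not]
  change p ∣ orderOf (z * g * z⁻¹)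
  have h5 : orderOf (z * g * z⁻¹) = orderOf g :=
    orderOf_injective (MulAut.conj z).toMonoidHom (MulAut.conj z).injective g
  rw [h5, hm]
  exact dvd_mul_right _ _

variable {M : Ideal AlgInt}

section

variable {g' : ℕ} (hG : Nat.card G = p * g') (σ : ℂ →+* ℂ) (hσ : ∀ μ : ℂ, μ ^ g' = 1 → σ μ = μ)
  {k : (ZMod p)ˣ} (hk : ∀ x : ZMod p, σ (ZMod.stdAddChar x) = ZMod.stdAddChar ((k : ZMod p) * x))

include hG hσ hk in
theorem gal_mem [Fintype C] (hM : IsPModular p M) (hpC : ¬ p ^ 2 ∣ Nat.card C) {θ : IrrCharacter C}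
    (ht : TrivOn D (θ : C → ℂ)) {B : Set (IrrCharacter G)} (hind : IsInducedBlock M C (blockOf M (θ : C → ℂ)) B)
    {χ : IrrCharacter G} {i : ZMod p} (h : dm D (χ : G → ℂ) θ i ≠ 0) : gal σ χ ∈ B := by
  by_contra hcon
  apply h
  rw [← gal_dm D hG σ hσ hk ht χ i]
  exact dm_of_not_mem D hM hpC ht hind hcon _

include hG hσ hk in
theorem gal_eq_of_const [Fintype C] (Q : Sylow p G) (hPQ : P = Q) (hM : IsPModular p M) (hpC : ¬ p ^ 2 ∣ Nat.card C)
    (hC : C = P ⊔ Subgroup.centralizer (P : Set G)) (hN : N = Subgroup.normalizer (P : Set G))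
    {θ : IrrCharacter C} (ht : TrivOn D (θ : C → ℂ)) {B : Set (IrrCharacter G)}
    (hDG : IsDefectGroup p M B P) (hind : IsInducedBlock M C (blockOf M (θ : C → ℂ)) B)
    {χ : IrrCharacter G} (hχ : χ ∈ B) {s : ℂ} (hs : s ≠ 0)
    (h : ∀ i : (ZMod p)ˣ, dm D (χ : G → ℂ) θ i = s) : gal σ χ = χ := by
  have hmem : gal σ χ ∈ B := gal_mem D hG σ hσ hk hM hpC ht hind (χ := χ) (i := ((1 : (ZMod p)ˣ) : ZMod p))
    (by rw [h]; exact hs)
  have hdm : ∀ i : (ZMod p)ˣ, dm D (gal σ χ : G → ℂ) θ i = s := by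
    intro i
    have h1 := gal_dm D hG σ hσ hk ht χ ((k⁻¹ * i : (ZMod p)ˣ) : ZMod p)
    rw [h, ← Units.val_mul, mul_inv_cancel_left] at h1
    exact h1
  apply Subtype.ext
  funext g
  by_cases hg : p ∣ orderOf g
  · obtain ⟨z, c, hc, hlc⟩ := exists_conj_C D Q hPQ hg
    have h1 := eq_sing_of_dm D Q hPQ hM hpC hC hN ht hDG hind hmem hχ (fun i => by rw [hdm, h]) hlc
    rw [hc] at h1
    rw [(gal σ χ).2.isClassFunction, χ.2.isClassFunction] at h1
    exact h1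
  · exact gal_reg hG σ hσ χ hg

end

open scoped Classical in
theorem main_galois (Q : Sylow p G) (hPQ : P = Q) (hN : N = Subgroup.normalizer (P : Set G))
    (hC : C = Subgroup.centralizer (P : Set G)) (hM : IsPModular p M) (hQ : Nat.card P = p)
    {g' : ℕ} (hG : Nat.card G = p * g')
    {θ : IrrCharacter C} (ht : TrivOn D (θ : C → ℂ)) {B : Set (IrrCharacter G)}
    (hDG : IsDefectGroup p M B P) (hind : IsInducedBlock M C (blockOf M (θ : C → ℂ)) B) :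
    ∃ Y : Set (IrrCharacter G), Y ⊆ B ∧ Y.Nonempty ∧
      (∀ θ ∈ Y, ∀ ψ : IrrCharacter G, (∃ σ : ℂ ≃+* ℂ, (∀ μ : ℂ, μ ^ g' = 1 → σ μ = μ) ∧
        (ψ : G → ℂ) = fun g => σ ((θ : G → ℂ) g)) ↔ ψ ∈ Y) ∧
      (∀ χ ∈ B, χ ∉ Y → ∀ ψ : IrrCharacter G, (∃ σ : ℂ ≃+* ℂ, (∀ μ : ℂ, μ ^ g' = 1 → σ μ = μ) ∧
        (ψ : G → ℂ) = fun g => σ ((χ : G → ℂ) g)) → ψ = χ) ∧
      Nat.card Y ∣ p - 1 ∧ Nat.card B = Nat.card Y + (p - 1) / Nat.card Y ∧
      ∃ δ : IrrCharacter G → ℤ, (∀ χ ∈ B, δ χ = 1 ∨ δ χ = -1) ∧ ∀ x : G, ¬ p ∣ orderOf x → ∀ θ ∈ Y,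
        (∑ᶠ χ ∈ B \ Y, (δ χ : ℂ) * (χ : G → ℂ) x) + (δ θ : ℂ) * (θ : G → ℂ) x = 0 := by
  letI : Fintype C := Fintype.ofFinite C
  obtain ⟨hcard, Y, s, hY, hs, hs1, hs2⟩ := main_general D Q hPQ hN hC hM hQ ht hDG hind
  have hQ' : Nat.card Q = p := by
    have h := hQ
    rw [hPQ] at h
    exact h
  have hsq : ¬ p ^ 2 ∣ Nat.card G := DefOnePrin.not_sq Q hQ'
  have hpC : ¬ p ^ 2 ∣ Nat.card C := fun h => hsq (h.trans (Subgroup.card_subgroup_dvd_card C))
  have hC' : C = P ⊔ Subgroup.centralizer (P : Set G) := by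
    have h := D.PC
    rw [hC] at h ⊢
    exact (sup_eq_right.2 h).symm
  have hB : IsPBlock M B := hind.2.1
  obtain ⟨hdvd, hcq⟩ := card_quot D θ
  let Y' : (ZMod p)ˣ ⧸ HT D θ → IrrCharacter G := fun q => (Y q : IrrCharacter G)
  have hY' : Function.Injective Y' := fun q q' h => hY (Subtype.ext h)
  have hYB : Set.range Y' ⊆ B := by
    rintro _ ⟨q, rfl⟩
    exact (Y q).2
  have hcardY : Nat.card (Set.range Y') = (p - 1) / Nat.card (HT D θ) := by
    rw [Nat.card_range_of_injective hY', hcq]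
  have hsne : ∀ χ, (s χ : ℂ) ≠ 0 := by
    intro χ
    rcases hs χ with h | h <;> rw [h] <;> simp
  have hnon : ∀ χ ∈ B, χ ∉ Set.range Y' → ∃ s₀ : ℂ, s₀ ≠ 0 ∧ ∀ i : (ZMod p)ˣ, dm D (χ : G → ℂ) θ i = s₀ := by
    intro χ hχ hχY
    refine ⟨s ⟨χ, hχ⟩, hsne _, hs1 ⟨χ, hχ⟩ ?_⟩
    rintro ⟨q, hq⟩
    exact hχY ⟨q, congrArg Subtype.val hq⟩
  -- Galois automorphisms
  have hkex : ∀ σ : ℂ →+* ℂ, ∃ k : (ZMod p)ˣ, ∀ x : ZMod p, σ (ZMod.stdAddChar x) = ZMod.stdAddChar ((k : ZMod p) * x) := by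
    intro σ
    obtain ⟨m, hm, hσm⟩ := CharGalois.exists_pow_of_ringHom hp.out.pos σ
    refine ⟨ZMod.unitOfCoprime m hm, fun x => ?_⟩
    rw [hσm, ← AddChar.map_nsmul_eq_pow, nsmul_eq_mul, ZMod.coe_unitOfCoprime]
    rw [← AddChar.map_nsmul_eq_pow, nsmul_eq_mul, CharP.cast_eq_zero, zero_mul, AddChar.map_zero_eq_one]
  have hYgal : ∀ (q : (ZMod p)ˣ ⧸ HT D θ) (σ : ℂ →+* ℂ), (∀ μ : ℂ, μ ^ g' = 1 → σ μ = μ) →
      gal σ (Y' q) ∈ Set.range Y' := by
    intro q σ hσ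
    obtain ⟨k, hk⟩ := hkex σ
    obtain ⟨i, rfl⟩ := QuotientGroup.mk_surjective q
    have hne : dm D (Y' i : G → ℂ) θ i ≠ 0 := by
      have h1 := hs2 i i
      rw [if_pos rfl] at h1
      rw [h1]; exact hsne _
    have hmem : gal σ (Y' i) ∈ B := gal_mem D hG σ hσ hk hM hpC ht hind hne
    by_contra hcon
    obtain ⟨s₀, hs0, h1⟩ := hnon _ hmem hcon
    apply hcon
    refine ⟨i, ?_⟩
    symm
    apply gal_eq_of_const D hG σ hσ hk Q hPQ hM hpC hC' hN ht hDG hind (Y i).2 hs0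
    intro j
    have h2 := gal_dm D hG σ hσ hk ht (Y' i) j
    rw [← Units.val_mul, h1] at h2
    exact h2.symm
  have hmap : ∀ {χ ψ : IrrCharacter G} {σ : ℂ ≃+* ℂ}, (ψ : G → ℂ) = (fun g => σ ((χ : G → ℂ) g)) →
      ψ = gal (σ : ℂ →+* ℂ) χ := by
    intro χ ψ σ h
    apply Subtype.ext
    rw [h]; rfl
  obtain ⟨q0⟩ : Nonempty ((ZMod p)ˣ ⧸ HT D θ) := inferInstance
  refine ⟨Set.range Y', hYB, ⟨Y' q0, q0, rfl⟩, ?_, ?_, ?_, ?_, fun χ => if h : χ ∈ B then s ⟨χ, h⟩ else 1, ?_, ?_⟩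
  · rintro _ ⟨q, rfl⟩ ψ
    constructor
    · rintro ⟨σ, hσ, hψ⟩
      rw [hmap hψ]
      exact hYgal q _ hσ
    · rintro ⟨q', rfl⟩
      obtain ⟨i, rfl⟩ := QuotientGroup.mk_surjective q
      obtain ⟨i', rfl⟩ := QuotientGroup.mk_surjective q'
      have hcop : Nat.Coprime g' p := by
        rw [Nat.coprime_comm, Nat.Prime.coprime_iff_not_dvd hp.out]
        intro h
        apply hsq
        rw [hG, pow_two]
        exact mul_dvd_mul_left p h
      obtain ⟨m, hm1, hm2⟩ := Nat.chineseRemainder hcop 1 ((i' * i⁻¹ : (ZMod p)ˣ) : ZMod p).val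
      have hmp : (m : ZMod p) = ((i' * i⁻¹ : (ZMod p)ˣ) : ZMod p) := by
        rw [(ZMod.natCast_eq_natCast_iff m _ p).2 hm2, ZMod.natCast_zmod_val]
      have hmcop : Nat.Coprime m (Nat.card G) := by
        rw [hG]
        apply Nat.Coprime.mul_right
        · rw [← ZMod.isUnit_iff_coprime, hmp]
          exact Units.isUnit _
        · have h1 : Nat.Coprime 1 g' := Nat.coprime_one_left g'
          rw [Nat.Coprime, hm1.gcd_eq]
          exact h1
      obtain ⟨σ, hσ⟩ := GalAutC.exists_ringEquiv_pow (n := Nat.card G) Nat.card_pos hmcop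
      have hσ1 : ∀ μ : ℂ, μ ^ g' = 1 → σ μ = μ := by
        intro μ hμ
        rw [hσ μ (by rw [hG, mul_comm, pow_mul, hμ, one_pow])]
        have h2 : orderOf μ ∣ g' := orderOf_dvd_of_pow_eq_one hμ
        have h3 : μ ^ m = μ ^ 1 := by
          have h4 : m % orderOf μ = 1 % orderOf μ := hm1.of_dvd h2
          rw [← pow_mod_orderOf μ m, h4, pow_mod_orderOf]
        rw [h3, pow_one]
      have hσk : ∀ x : ZMod p, (σ : ℂ →+* ℂ) (ZMod.stdAddChar x) =
          ZMod.stdAddChar (((i' * i⁻¹ : (ZMod p)ˣ) : ZMod p) * x) := by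
        intro x
        change σ (ZMod.stdAddChar x) = _
        have h2 : (ZMod.stdAddChar x : ℂ) ^ p = 1 := by
          rw [← AddChar.map_nsmul_eq_pow, nsmul_eq_mul, CharP.cast_eq_zero, zero_mul, AddChar.map_zero_eq_one]
        rw [hσ _ (by rw [hG, pow_mul, h2, one_pow]), ← AddChar.map_nsmul_eq_pow, nsmul_eq_mul, hmp]
      refine ⟨σ, hσ1, ?_⟩
      obtain ⟨q'', hq''⟩ := hYgal (i : (ZMod p)ˣ ⧸ HT D θ) (σ : ℂ →+* ℂ) hσ1
      have h3 := gal_dm D hG (σ : ℂ →+* ℂ) hσ1 hσk ht (Y' i) i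
      rw [← Units.val_mul, inv_mul_cancel_right, ← hq''] at h3
      have h4 := hs2 i i
      rw [if_pos rfl] at h4
      have h5 := hs2 i' q''
      change dm D (Y' q'' : G → ℂ) θ i' = _ at h5
      change dm D (Y' i : G → ℂ) θ i = _ at h4
      rw [h3, h4] at h5
      by_cases h6 : (i' : (ZMod p)ˣ ⧸ HT D θ) = q''
      · rw [h6, hq'']; rfl
      · rw [if_neg h6] at h5
        exact absurd h5 (hsne _)
  · rintro χ hχ hχY ψ ⟨σ, hσ, hψ⟩
    rw [hmap hψ]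
    obtain ⟨k, hk⟩ := hkex (σ : ℂ →+* ℂ)
    obtain ⟨s₀, hs0, h1⟩ := hnon _ hχ hχY
    exact gal_eq_of_const D hG _ hσ hk Q hPQ hM hpC hC' hN ht hDG hind hχ hs0 h1
  · rw [hcardY]
    exact Nat.div_dvd_of_dvd hdvd
  · rw [hcardY, hcard, hcq, add_comm]
    congr 1
    rw [Nat.div_div_self hdvd (by have := hp.out.two_le; omega)]
  · intro χ hχ
    change (if h : χ ∈ B then s ⟨χ, h⟩ else 1) = 1 ∨ (if h : χ ∈ B then s ⟨χ, h⟩ else 1) = -1
    rw [dif_pos hχ]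
    exact hs _
  · rintro x hx _ ⟨q, rfl⟩
    have h1 := rel_general D hM hB Y s hY hs1 hs2 q hx
    change _ + ((if h : Y' q ∈ B then s ⟨Y' q, h⟩ else 1 : ℤ) : ℂ) * _ = 0
    rw [dif_pos (Y q).2]
    exact h1

/-- twisting an irreducible character of `C` to have `P` in its kernel -/
theorem exists_trivOn [Fintype C] (hPcomm : ∀ c ∈ C, Commute D.u c) (ψ : IrrCharacter C) :
    ∃ i : ZMod p, TrivOn D (LT D ψ i : C → ℂ) := by
  obtain ⟨n, ρ, hρ, hψ⟩ := ψ.2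
  let z : C := ⟨D.u, D.PC D.uP⟩
  obtain ⟨ω, hω⟩ := CharCentral.exists_scalar_of_commute ρ (ρ z) (by
    intro g v
    rw [← Module.End.mul_apply, ← Module.End.mul_apply, ← map_mul, ← map_mul]
    congr 2
    exact Subtype.ext (hPcomm g g.2))
  have hpow : ∀ j : ℕ, ρ (z ^ j) = (ω ^ j) • (LinearMap.id : (Fin n → ℂ) →ₗ[ℂ] (Fin n → ℂ)) := by
    intro j
    induction j with
    | zero => rw [pow_zero, map_one, pow_zero, one_smul]; rfl
    | succ j ih =>
      rw [pow_succ, map_mul, ih, hω, pow_succ]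
      ext v
      simp only [LinearMap.smul_apply, LinearMap.id_apply, Module.End.mul_apply, smul_smul, mul_comm, LinearMap.map_smul,
        LinearMap.comp_apply]
  have hval : ∀ j : ℕ, (ψ : C → ℂ) (z ^ j) = ω ^ j * (ψ : C → ℂ) 1 := by
    intro j
    rw [← hψ]
    change LinearMap.trace ℂ _ (ρ (z ^ j)) = ω ^ j * LinearMap.trace ℂ _ (ρ 1)
    rw [hpow, map_smul, smul_eq_mul, map_one]
    rfl
  have hzp : z ^ p = 1 := by
    apply Subtype.ext
    change D.u ^ p = 1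
    exact orderOf_dvd_iff_pow_eq_one.1 (dvd_of_eq D.ordu)
  have hωp : ω ^ p = 1 := by
    have h1 := hval p
    rw [hzp] at h1
    have h2 : (ω ^ p - 1) * (ψ : C → ℂ) 1 = 0 := by rw [sub_mul, ← h1]; ring
    rcases mul_eq_zero.1 h2 with h3 | h3
    · exact sub_eq_zero.1 h3
    · exact absurd h3 ψ.2.one_ne_zero
  have hprim : IsPrimitiveRoot (ZMod.stdAddChar (1 : ZMod p) : ℂ) p := by
    have h1 := Complex.isPrimitiveRoot_exp p hp.out.ne_zero
    have h2 := ZMod.stdAddChar_coe (N := p) 1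
    rw [Int.cast_one, Int.cast_one, mul_one] at h2
    rw [h2]; exact h1
  obtain ⟨t, -, ht⟩ := hprim.eq_pow_of_pow_eq_one hωp
  rw [← AddChar.map_nsmul_eq_pow, nsmul_eq_mul, mul_one] at ht
  refine ⟨-(t : ZMod p), ?_⟩
  intro x hx
  obtain ⟨j, hj⟩ := D.gen x hx
  have hxz : x = z ^ j := Subtype.ext hj
  rw [LT_apply, LT_apply, lam_one, mul_one, hxz, hval, ← ht, lam]
  have hl : D.l (z ^ j) = j := DefOnePrin.l_pow D j
  rw [hl, ← AddChar.map_nsmul_eq_pow, nsmul_eq_mul, mul_right_comm, ← AddChar.map_add_eq_mul]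
  have h3 : (j : ZMod p) * t + -(t : ZMod p) * j = 0 := by ring
  rw [h3, AddChar.map_zero_eq_one, one_mul]

/-- existence of the local data for a block of positive defect -/
theorem exists_local (hM : IsPModular p M) (hsq : ¬ p ^ 2 ∣ Nat.card G) {B : Set (IrrCharacter G)}
    (hB : IsPBlock M B) (hd : 0 < blockDefect p B) :
    ∃ (Q : Sylow p G) (D : Loc p (Q : Subgroup G) (Subgroup.normalizer ((Q : Subgroup G) : Set G))
      (Subgroup.centralizer ((Q : Subgroup G) : Set G)))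
      (θ : IrrCharacter (Subgroup.centralizer ((Q : Subgroup G) : Set G))),
      Nat.card Q = p ∧ IsDefectGroup p M B Q ∧
      TrivOn D (θ : Subgroup.centralizer ((Q : Subgroup G) : Set G) → ℂ) ∧
      IsInducedBlock M (Subgroup.centralizer ((Q : Subgroup G) : Set G))
        (blockOf M (θ : Subgroup.centralizer ((Q : Subgroup G) : Set G) → ℂ)) B := by
  classical
  have := isPrime hM
  obtain ⟨D₀, hD₀⟩ := BlockDefect.exists_defectGroup hM hB
  have hcard := BlockDefect.defectGroup_card hM hB hD₀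
  have hd1 : blockDefect p B = 1 := by
    by_contra hne
    apply hsq
    have h1 : p ^ 2 ∣ p ^ blockDefect p B := pow_dvd_pow p (by omega)
    rw [← hcard] at h1
    exact h1.trans (Subgroup.card_subgroup_dvd_card D₀)
  rw [hd1, pow_one] at hcard
  have hpg : IsPGroup p D₀ := BlockDefect.defectGroup_isPGroup hD₀
  obtain ⟨Q, hQ⟩ := hpg.exists_le_sylow
  have hQcard : Nat.card Q = p := by
    obtain ⟨n, hn⟩ := (IsPGroup.iff_card.1 Q.isPGroup')
    have h1 : Nat.card D₀ ∣ Nat.card Q := Subgroup.card_dvd_of_le hQ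
    rw [hn, hcard] at h1
    have hn0 : n ≠ 0 := by
      rintro rfl
      rw [pow_zero] at h1
      exact hp.out.one_lt.ne' (Nat.dvd_one.1 h1)
    have hn2 : n < 2 := by
      by_contra h2
      apply hsq
      have h3 : p ^ 2 ∣ p ^ n := pow_dvd_pow p (by omega)
      rw [← hn] at h3
      exact h3.trans (Subgroup.card_subgroup_dvd_card _)
    have : n = 1 := by omega
    rw [hn, this, pow_one]
  have hDQ : D₀ = Q := by
    apply Subgroup.eq_of_le_of_card_ge hQ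
    rw [hcard, hQcard]
  rw [hDQ] at hD₀
  obtain ⟨D⟩ := exists_loc Q hQcard
  obtain ⟨g, hg, P', hP'⟩ := hD₀
  have hgC : g ∈ Subgroup.centralizer ((Q : Subgroup G) : Set G) := by
    rw [Subgroup.mem_centralizer_iff]
    intro x hx
    have hx' : x ∈ (Q : Subgroup G) := hx
    rw [hP'] at hx'
    obtain ⟨y, -, rfl⟩ := hx'
    have h1 := Subgroup.mem_centralizer_singleton_iff.1 y.2
    exact h1
  obtain ⟨b, hb⟩ := BlockFirst.exists_inducing_block hM Q.isPGroup' D.PC le_rfl D.CN hB hgC hg.2.1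
  obtain ⟨ψ, hψ⟩ := isPBlock_nonempty hb.1
  letI : Fintype (Subgroup.centralizer ((Q : Subgroup G) : Set G)) := Fintype.ofFinite _
  have hpC : ¬ p ^ 2 ∣ Nat.card (Subgroup.centralizer ((Q : Subgroup G) : Set G)) :=
    fun h => hsq (h.trans (Subgroup.card_subgroup_dvd_card _))
  obtain ⟨i, hi⟩ := exists_trivOn D (fun c hc => (Subgroup.mem_centralizer_iff.1 hc _ D.uP)) ψ
  refine ⟨Q, D, LT D ψ i, hQcard, ⟨g, hg, P', hP'⟩, hi, ?_⟩
  have hmem : ψ ∈ blockOf M (LT D ψ i : Subgroup.centralizer ((Q : Subgroup G) : Set G) → ℂ) := by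
    rw [blockOf_eq_fam D hM hpC _ hi]
    refine ⟨-i, ?_⟩
    apply Subtype.ext
    funext c
    rw [LT_apply, LT_apply, lam, lam, mul_assoc, ← AddChar.map_add_eq_mul, ← add_mul, add_neg_cancel, zero_mul,
      AddChar.map_zero_eq_one, mul_one]
  have h1 : b = blockOf M (LT D ψ i : Subgroup.centralizer ((Q : Subgroup G) : Set G) → ℂ) := by
    rw [eq_blockOf hb.1 hψ, eq_blockOf (isPBlock_blockOf (LT D ψ i)) hmem]
  rw [← h1]
  exact hb

open scoped Classical in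
theorem result (hM : IsPModular p M) (hdiv : p ∣ Nat.card G) (hsq : ¬ p ^ 2 ∣ Nat.card G) (B : Set (IrrCharacter G))
    (hB : IsPBlock M B) (hd : 0 < blockDefect p B) :
    ∃ Y : Set (IrrCharacter G), Y ⊆ B ∧ Y.Nonempty ∧
      (∀ θ ∈ Y, ∀ ψ : IrrCharacter G, (∃ σ : ℂ ≃+* ℂ,
        σ (Complex.exp (2 * Real.pi * Complex.I / ((Nat.card G / p ^ (Nat.card G).factorization p) : ℕ))) =
          Complex.exp (2 * Real.pi * Complex.I / ((Nat.card G / p ^ (Nat.card G).factorization p) : ℕ)) ∧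
        (ψ : G → ℂ) = fun g => σ ((θ : G → ℂ) g)) ↔ ψ ∈ Y) ∧
      (∀ χ ∈ B, χ ∉ Y → ∀ ψ : IrrCharacter G, (∃ σ : ℂ ≃+* ℂ,
        σ (Complex.exp (2 * Real.pi * Complex.I / ((Nat.card G / p ^ (Nat.card G).factorization p) : ℕ))) =
          Complex.exp (2 * Real.pi * Complex.I / ((Nat.card G / p ^ (Nat.card G).factorization p) : ℕ)) ∧
        (ψ : G → ℂ) = fun g => σ ((χ : G → ℂ) g)) → ψ = χ) ∧
      Nat.card Y ∣ p - 1 ∧ Nat.card B = Nat.card Y + (p - 1) / Nat.card Y ∧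
      ∃ δ : IrrCharacter G → ℤ, (∀ χ ∈ B, δ χ = 1 ∨ δ χ = -1) ∧ ∀ x : G, ¬ p ∣ orderOf x → ∀ θ ∈ Y,
        (∑ᶠ χ ∈ B \ Y, (δ χ : ℂ) * (χ : G → ℂ) x) + (δ θ : ℂ) * (θ : G → ℂ) x = 0 := by
  obtain ⟨Q, D, θ, hQ, hDG, ht, hind⟩ := exists_local hM hsq hB hd
  have hfac : (Nat.card G).factorization p = 1 := by
    have h1 : 0 < (Nat.card G).factorization p := hp.out.factorization_pos_of_dvd Nat.card_pos.ne' hdiv
    have h2 : (Nat.card G).factorization p < 2 := by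
      by_contra h
      push Not at h
      exact hsq ((hp.out.pow_dvd_iff_le_factorization Nat.card_pos.ne').2 h)
    omega
  rw [hfac, pow_one]
  have hG : Nat.card G = p * (Nat.card G / p) := (Nat.mul_div_cancel' hdiv).symm
  have hg0 : 0 < Nat.card G / p := Nat.div_pos (Nat.le_of_dvd Nat.card_pos hdiv) hp.out.pos
  have hprim := Complex.isPrimitiveRoot_exp (Nat.card G / p) hg0.ne'
  have key : ∀ σ : ℂ ≃+* ℂ, (σ (Complex.exp (2 * Real.pi * Complex.I / ((Nat.card G / p : ℕ) : ℂ))) =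
      Complex.exp (2 * Real.pi * Complex.I / ((Nat.card G / p : ℕ) : ℂ))) ↔ ∀ μ : ℂ, μ ^ (Nat.card G / p) = 1 → σ μ = μ := by
    intro σ
    haveI : NeZero (Nat.card G / p) := ⟨hg0.ne'⟩
    constructor
    · intro h μ hμ
      obtain ⟨j, -, rfl⟩ := hprim.eq_pow_of_pow_eq_one hμ
      rw [map_pow, h]
    · intro h
      exact h _ hprim.pow_eq_one
  simp only [key]
  exact main_galois D Q rfl rfl rfl hM hQ hG ht hDG hind

end Cfsg.Agent.Lib.DefOneGalois
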