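import Mathlib
import Cfsg.Agent.Lib.PBSol
import Cfsg.Agent.Lib.PBInvol
import Cfsg.Agent.Lib.DefOneGalois
import Cfsg.Agent.Lib.DefZeroCount

/-!
# Degrees modulo `p` when the `p'`-core of the centralizer is cyclic of order four (helper54)
-/

set_option autoImplicit false
set_option linter.all false

namespace Cfsg.Agent.Lib.PBMod

open Cfsg Cfsg.Agent.Lib.BlockRing Cfsg.Agent.Lib.BlockGA Cfsg.Agent.Lib.BlockIdem
open Cfsg.Agent.Lib.DefOneLoc Cfsg.Agent.Lib.DefOneOrd Cfsg.Agent.Lib.CharBasic Cfsg.Agent.Lib.DefOneGram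
open Cfsg.Agent.Lib.DefOneBlk Cfsg.Agent.Lib.DefOne Cfsg.Agent.Lib.DefOneGen Cfsg.Agent.Lib.DefOneGalois
open Cfsg.Agent.Lib.PBNum
open scoped ComplexConjugate

universe u

variable {G : Type u} [Group G] [Fintype G] {p : ℕ} [hp : Fact p.Prime] {P N C : Subgroup G}
  (D : Loc p P N C)

/-- the projection to `P` as a homomorphism -/
def lhom : C →* Multiplicative (ZMod p) where
  toFun c := Multiplicative.ofAdd (D.l c)
  map_one' := by rw [l_one]; rfl
  map_mul' a b := by rw [D.l_mul]; rfl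

theorem mem_ker (c : C) : c ∈ (lhom D).ker ↔ D.l c = 0 := by
  rw [MonoidHom.mem_ker]; exact Iff.rfl

theorem card_ker {m : ℕ} (hC : Nat.card C = p * m) : Nat.card (lhom D).ker = m := by
  classical
  letI := Fintype.ofFinite C
  have h1 := card_C_nat D
  rw [hC] at h1
  have h2 := Nat.eq_of_mul_eq_mul_left hp.out.pos h1
  rw [h2, vc, Nat.card_eq_fintype_card, ← Fintype.card_coe]
  apply Fintype.card_congr
  exact
    { toFun := fun c => ⟨c.1, Finset.mem_filter.2 ⟨Finset.mem_univ _, (mem_ker D c.1).1 c.2⟩⟩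
      invFun := fun c => ⟨c.1, (mem_ker D c.1).2 (Finset.mem_filter.1 c.2).2⟩
      left_inv := fun _ => rfl
      right_inv := fun _ => rfl }

variable (hC : Nat.card C = p * 4) {k : C} (hk : D.l k = 0) (hok : orderOf k = 4)

include hC hk hok in
theorem ker_eq : (lhom D).ker = Subgroup.zpowers k := by
  symm
  apply Subgroup.eq_of_le_of_card_ge
  · rw [Subgroup.zpowers_le]; exact (mem_ker D k).2 hk
  · rw [card_ker D hC, Nat.card_zpowers, hok]

include hC hk hok in
theorem conj_k (n : N) : cjE D n k = k ∨ cjE D n k = k⁻¹ := by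
  have h1 : cjE D n k ∈ (lhom D).ker := by
    rw [mem_ker, l_cjE, hk, mul_zero]
  rw [ker_eq D hC hk hok] at h1
  have h2 : orderOf (cjE D n k) = 4 := by rw [← hok]; exact (cjE D n).orderOf_eq k
  obtain ⟨i, hi⟩ := Subgroup.mem_zpowers_iff.1 h1
  obtain ⟨j, hj, hj'⟩ : ∃ j : ℕ, j < 4 ∧ cjE D n k = k ^ j := by
    refine ⟨(i % 4).toNat, by omega, ?_⟩
    rw [← hi, ← zpow_mod_orderOf, hok, ← zpow_natCast, Int.toNat_of_nonneg (by omega)]
    norm_num
  interval_cases j
  · exfalso; rw [pow_zero] at hj'; rw [hj', orderOf_one] at h2; norm_num at h2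
  · left; rw [hj', pow_one]
  · exfalso
    rw [hj', orderOf_pow' k (by norm_num), hok] at h2
    norm_num at h2
  · right
    rw [hj', eq_inv_iff_mul_eq_one, ← pow_succ]
    have h3 : k ^ 4 = 1 := by rw [← hok]; exact pow_orderOf_eq_one k
    exact h3

include hC hk hok in
theorem cent_le [Fintype C] {θ : IrrCharacter C} (ht : TrivOn D (θ : C → ℂ)) (n : N) (hn : cjE D n k = k) :
    n ∈ inN D θ := by
  rw [mem_inN]
  apply Subtype.ext
  funext c
  rw [cjI_apply]
  obtain ⟨x, v, hxv, hv⟩ := D.fac c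
  have h4 : c = ⟨x, D.PC x.2⟩ * v := Subtype.ext hxv
  have hvk : v ∈ Subgroup.zpowers k := by
    rw [← ker_eq D hC hk hok, mem_ker]; exact hv
  obtain ⟨i, hi⟩ := Subgroup.mem_zpowers_iff.1 hvk
  have h5 : cjE D n v = v := by rw [← hi, map_zpow, hn]
  rw [h4, map_mul, h5, theta_mul D θ.2.isCharacter ht (x := ⟨x, D.PC x.2⟩) x.2,
    theta_mul D θ.2.isCharacter ht (x := cjE D n ⟨x, D.PC x.2⟩) (D.norm n n.2 x x.2)]

include hC hk hok in
theorem index_dvd [Fintype C] {θ : IrrCharacter C} (ht : TrivOn D (θ : C → ℂ)) : (inN D θ).index = 1 ∨ (inN D θ).index = 2 := by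
  by_cases h : inN D θ = ⊤
  · left; rw [h, Subgroup.index_top]
  right
  obtain ⟨a, ha⟩ : ∃ a : N, a ∉ inN D θ := by
    by_contra hcon
    push Not at hcon
    exact h (Subgroup.eq_top_iff' _ |>.2 hcon)
  rw [Subgroup.index_eq_two_iff]
  refine ⟨a, fun b => ?_⟩
  have ha' : cjE D a k = k⁻¹ := by
    rcases conj_k D hC hk hok a with h1 | h1
    · exact absurd (cent_le D hC hk hok ht a h1) ha
    · exact h1
  have hmul : ∀ x y : N, cjE D (x * y) k = cjE D x (cjE D y k) := by
    intro x y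
    apply Subtype.ext
    change (x * y : G) * k * (x * y : G)⁻¹ = x * (y * k * (y : G)⁻¹) * (x : G)⁻¹
    group
  rcases conj_k D hC hk hok b with h1 | h1
  · -- `b` centralizes
    have hb := cent_le D hC hk hok ht b h1
    right
    refine ⟨hb, ?_⟩
    intro h2
    exact ha (by
      have := (inN D θ).mul_mem ((inN D θ).inv_mem hb) h2
      rwa [inv_mul_cancel_left] at this)
  · -- `b` inverts
    have hba : cjE D (b * a) k = k := by rw [hmul, ha', map_inv, h1, inv_inv]
    have hba' := cent_le D hC hk hok ht _ hba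
    left
    refine ⟨hba', ?_⟩
    intro h2
    exact ha (by
      have := (inN D θ).mul_mem ((inN D θ).inv_mem h2) hba'
      rwa [inv_mul_cancel_left] at this)

include hC hk hok in
theorem theta_one (θ : IrrCharacter C) (hPc : ∀ c ∈ C, ∀ x ∈ P, x * c = c * x) : (θ : C → ℂ) 1 = 1 := by
  apply θ.2.one_eq_one_of_comm
  intro a b
  obtain ⟨x, v, hxv, hv⟩ := D.fac a
  obtain ⟨y, w, hyw, hw⟩ := D.fac b
  have hvk : v ∈ Subgroup.zpowers k := by
    rw [← ker_eq D hC hk hok, mem_ker]; exact hv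
  have hwk : w ∈ Subgroup.zpowers k := by
    rw [← ker_eq D hC hk hok, mem_ker]; exact hw
  obtain ⟨i, hi⟩ := Subgroup.mem_zpowers_iff.1 hvk
  obtain ⟨j, hj⟩ := Subgroup.mem_zpowers_iff.1 hwk
  have hvw : (v : G) * w = w * v := by
    rw [← Subgroup.coe_mul, ← Subgroup.coe_mul]
    congr 1
    rw [← hi, ← hj, ← zpow_add, ← zpow_add, add_comm]
  apply Subtype.ext
  rw [Subgroup.coe_mul, Subgroup.coe_mul, hxv, hyw]
  have e1 := hPc v v.2 y y.2
  have e2 := hPc w w.2 x x.2
  have e3 := hPc y (D.PC y.2) x x.2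
  calc (x : G) * v * (y * w) = x * (v * y) * w := by group
    _ = x * (y * v) * w := by rw [e1]
    _ = (x * y) * (v * w) := by group
    _ = (y * x) * (w * v) := by rw [e3, hvw]
    _ = y * (x * w) * v := by group
    _ = y * (w * x) * v := by rw [e2]
    _ = y * w * (x * v) := by group

end Cfsg.Agent.Lib.PBMod
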