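import Mathlib
import Cfsg.Agent.Lib.PBFull
import Cfsg.Agent.Lib.PBMod

/-!
# Local consequences of `C(P) = P` (helper54)
-/

set_option autoImplicit false
set_option linter.all false

namespace Cfsg.Agent.Lib.PBLocal

open Cfsg Subgroup Cfsg.Agent.Lib.DefOneLoc Cfsg.Agent.Lib.DefOneOrd Cfsg.Agent.Lib.CharBasic
open Cfsg.Agent.Lib.DefOneGram Cfsg.Agent.Lib.DefOne Cfsg.Agent.Lib.BRB0 Cfsg.Agent.Lib.BRCore
open Cfsg.Agent.Lib.PBData Cfsg.Agent.Lib.DefOnePrin Cfsg.Agent.Lib.BlockThird Cfsg.Agent.Lib.SmallSimple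
open Cfsg.Agent.Lib.PBNum Cfsg.Agent.Lib.PBExt Cfsg.Agent.Lib.PBStruct Cfsg.Agent.Lib.PBFull

universe u

section

variable {G : Type u} [Group G] {p : ℕ} [hp : Fact p.Prime] {P N C : Subgroup G} (D : Loc p P N C)

include D in
theorem u_ne_one : D.u ≠ 1 := by
  intro h2
  have h3 := D.ordu
  rw [h2, orderOf_one] at h3
  exact hp.out.one_lt.ne h3

theorem u_pow : D.u ^ p = 1 := orderOf_dvd_iff_pow_eq_one.1 (by rw [D.ordu])

/-- two involutions inverting `u` are conjugate -/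
theorem conj_of_inv (hinj : ∀ c : C, D.l c = 0 → c = 1) (hp2 : p ≠ 2) {w x : G} (hw : w * w = 1)
    (h0 : w * D.u * w⁻¹ = D.u⁻¹) (hx : x * D.u * x⁻¹ = D.u⁻¹) : IsConj w x := by
  have hwi : w⁻¹ = w := inv_eq_of_mul_eq_one_left hw
  have hup := u_pow D
  obtain ⟨k, hk⟩ := hp.out.odd_of_ne_two hp2
  have hwu : ∀ i : ℕ, w * D.u ^ i * w⁻¹ = (D.u ^ i)⁻¹ := by
    intro i
    rw [← conj_pow, h0, inv_pow]
  have h1 : Commute D.u (x * w) := by
    rw [commute_iff_eq]
    have e1 : x * w * D.u = D.u * (x * w) := by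
      calc x * w * D.u = x * (w * D.u * w⁻¹) * w := by group
        _ = x * D.u⁻¹ * w := by rw [h0]
        _ = (x * D.u * x⁻¹)⁻¹ * x * w := by group
        _ = D.u * (x * w) := by rw [hx]; group
    exact e1.symm
  have h2 : x * w ∈ C := (D.comm _ D.u D.uP (u_ne_one D)).2 h1
  obtain ⟨y, v, hy, hv⟩ := D.fac ⟨x * w, h2⟩
  have hv1 := hinj v hv
  rw [hv1] at hy
  have hy' : x * w = y := by
    have : (x * w : G) = y * ((1 : C) : G) := hy
    rw [this]; simp
  obtain ⟨i, hi⟩ := D.gen y y.2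
  have hx' : x = D.u ^ i * w := by
    rw [← hi, ← hy', mul_assoc, hw, mul_one]
  rw [hx', isConj_iff]
  refine ⟨D.u ^ (i * (k + 1)), ?_⟩
  have e1 : w * (D.u ^ (i * (k + 1)))⁻¹ = D.u ^ (i * (k + 1)) * w := by
    have := hwu (i * (k + 1))
    calc w * (D.u ^ (i * (k + 1)))⁻¹ = w * (w * D.u ^ (i * (k + 1)) * w⁻¹) := by rw [this]
      _ = (w * w) * D.u ^ (i * (k + 1)) * w⁻¹ := by group
      _ = D.u ^ (i * (k + 1)) * w := by rw [hw, one_mul, hwi]
  rw [mul_assoc, e1, ← mul_assoc, ← pow_add]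
  congr 1
  have e2 : i * (k + 1) + i * (k + 1) = i + p * i := by rw [hk]; ring
  rw [e2, pow_add, pow_mul, hup, one_pow, mul_one]

end

section

variable {G : Type u} [Group G] [Fintype G] {p : ℕ} [hp : Fact p.Prime]
variable {Q : Sylow p G}
  (D : Loc p (Q : Subgroup G) (normalizer ((Q : Subgroup G) : Set G)) (centralizer ((Q : Subgroup G) : Set G)))

include D in
/-- the centralizer of a `p'`-element has order prime to `p` -/
theorem not_dvd_cent (hC : Nat.card (centralizer ((Q : Subgroup G) : Set G)) = p) {w : G} (hw : w ≠ 1)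
    (hwp : ¬ p ∣ orderOf w) : ¬ p ∣ Nat.card (centralizer ({w} : Set G)) := by
  intro h
  obtain ⟨x, hx⟩ := exists_prime_orderOf_dvd_card' (G := centralizer ({w} : Set G)) p h
  have hx' : orderOf (x : G) = p := by rw [Subgroup.orderOf_coe]; exact hx
  have hcomm : Commute (x : G) w := Subgroup.mem_centralizer_singleton_iff.1 x.2
  have hpg : IsPGroup p (zpowers (x : G)) := by
    apply IsPGroup.of_card (n := 1)
    rw [Nat.card_zpowers, hx', pow_one]
  obtain ⟨Q', hQ'⟩ := hpg.exists_le_sylow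
  obtain ⟨g, hg⟩ := MulAction.exists_smul_eq G Q' Q
  have hxQ' : (x : G) ∈ Q' := hQ' (mem_zpowers _)
  have hgx : g * x * g⁻¹ ∈ (Q : Subgroup G) := by
    rw [← hg]
    exact Subgroup.smul_mem_pointwise_smul (x : G) (MulAut.conj g) (Q' : Subgroup G) hxQ'
  have hne : g * x * g⁻¹ ≠ 1 := by
    intro h1
    have h2 : (x : G) = 1 := by
      have := congrArg (fun y => g⁻¹ * y * g) h1
      simpa [mul_assoc] using this
    rw [h2, orderOf_one] at hx'
    exact hp.out.one_lt.ne hx'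
  have h1 : g * w * g⁻¹ ∈ centralizer ((Q : Subgroup G) : Set G) := by
    rw [D.comm _ _ hgx hne, commute_iff_eq]
    calc g * x * g⁻¹ * (g * w * g⁻¹) = g * (x * w) * g⁻¹ := by group
      _ = g * (w * x) * g⁻¹ := by rw [hcomm.eq]
      _ = g * w * g⁻¹ * (g * x * g⁻¹) := by group
  have h2 := Subgroup.orderOf_dvd_natCard _ h1
  rw [hC, show g * w * g⁻¹ = MulAut.conj g w from rfl, MulEquiv.orderOf_eq] at h2
  rcases (Nat.dvd_prime hp.out).1 h2 with h3 | h3
  · exact hw (orderOf_eq_one_iff.1 h3)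
  · exact hwp (by rw [h3])

include D in
/-- the order of an element divisible by `p` is `p` -/
theorem orderOf_eq_of_dvd (hC : Nat.card (centralizer ((Q : Subgroup G) : Set G)) = p) {g : G}
    (hg : p ∣ orderOf g) : orderOf g = p := by
  obtain ⟨m, hm⟩ := hg
  have hg0 : 0 < orderOf g := orderOf_pos g
  have hm0 : m ≠ 0 := by rintro rfl; omega
  by_cases hm1 : m = 1
  · rw [hm, hm1, mul_one]
  exfalso
  have hgm : orderOf (g ^ m) = p := by
    rw [orderOf_pow_of_dvd hm0 (by rw [hm]; exact Dvd.intro_left _ rfl), hm, Nat.mul_div_cancel _ (Nat.pos_of_ne_zero hm0)]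
  have hpg : IsPGroup p (zpowers (g ^ m)) := by
    apply IsPGroup.of_card (n := 1)
    rw [Nat.card_zpowers, hgm, pow_one]
  obtain ⟨Q', hQ'⟩ := hpg.exists_le_sylow
  obtain ⟨k, hk⟩ := MulAction.exists_smul_eq G Q' Q
  have hxQ' : g ^ m ∈ Q' := hQ' (mem_zpowers _)
  have hgx : k * g ^ m * k⁻¹ ∈ (Q : Subgroup G) := by
    rw [← hk]
    exact Subgroup.smul_mem_pointwise_smul (g ^ m) (MulAut.conj k) (Q' : Subgroup G) hxQ'
  have hne : k * g ^ m * k⁻¹ ≠ 1 := by
    intro h1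
    have h2 : g ^ m = 1 := by
      have := congrArg (fun y => k⁻¹ * y * k) h1
      simpa [mul_assoc] using this
    rw [h2, orderOf_one] at hgm
    exact hp.out.one_lt.ne hgm
  have h1 : k * g * k⁻¹ ∈ centralizer ((Q : Subgroup G) : Set G) := by
    rw [D.comm _ _ hgx hne, commute_iff_eq]
    have : Commute (g ^ m) g := (Commute.refl g).pow_left m
    calc k * g ^ m * k⁻¹ * (k * g * k⁻¹) = k * (g ^ m * g) * k⁻¹ := by group
      _ = k * (g * g ^ m) * k⁻¹ := by rw [this.eq]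
      _ = k * g * k⁻¹ * (k * g ^ m * k⁻¹) := by group
  have h2 := Subgroup.orderOf_dvd_natCard _ h1
  rw [hC, show k * g * k⁻¹ = MulAut.conj k g from rfl, MulEquiv.orderOf_eq, hm] at h2
  have h3 := Nat.le_of_dvd hp.out.pos h2
  have h4 : 2 ≤ m := by omega
  have := hp.out.pos
  nlinarith

/-- an element acting as a given unit -/
theorem exists_kappa {e : ℕ} (he : Nat.card (κu D).range = e) (hep : e = p - 1) (a : (ZMod p)ˣ) :
    ∃ n : normalizer ((Q : Subgroup G) : Set G), D.κ n = a := by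
  have h1 : (κu D).range = ⊤ := by
    apply Subgroup.eq_top_of_card_eq
    rw [he, hep, Nat.card_eq_fintype_card, ZMod.card_units]
  have h2 : a ∈ (κu D).range := by rw [h1]; trivial
  obtain ⟨n, hn⟩ := h2
  refine ⟨n, ?_⟩
  rw [← hn]; rfl

end

end Cfsg.Agent.Lib.PBLocal
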