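import Mathlib
import Cfsg.Agent.Lib.A7Table
import Cfsg.Agent.Lib.PBLocal

/-!
# Values of the characters of a simple group of order 2520 (helper54)
-/

set_option autoImplicit false
set_option linter.all false

namespace Cfsg.Agent.Lib.A7Table

open Cfsg Subgroup Cfsg.Agent.Lib.DefOneLoc Cfsg.Agent.Lib.DefOneOrd Cfsg.Agent.Lib.CharBasic
open Cfsg.Agent.Lib.DefOneGram Cfsg.Agent.Lib.DefOne Cfsg.Agent.Lib.BRB0 Cfsg.Agent.Lib.BRCore
open Cfsg.Agent.Lib.PBData Cfsg.Agent.Lib.DefOnePrin Cfsg.Agent.Lib.BlockThird Cfsg.Agent.Lib.SmallSimple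
open Cfsg.Agent.Lib.PBNum Cfsg.Agent.Lib.PBExt Cfsg.Agent.Lib.PBStruct Cfsg.Agent.Lib.PBFull
open Cfsg.Agent.Lib.A7Chars Cfsg.Agent.Lib.A7Table
open scoped ComplexConjugate

universe u

section

variable {G : Type u} [Group G] [Fintype G] {u : G} (A : A7D u)

theorem A7D.list_eq : ∀ χ : IrrCharacter G, χ = triv G ∨ χ = A.c6 ∨ χ = A.c14 ∨ χ = A.c14' ∨ χ = A.c21 ∨ χ = A.c15 ∨
    χ = A.c10 ∨ χ = A.c10' ∨ χ = A.c35 := by
  intro χ
  have := A.all χ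
  simpa using this

theorem A7D.sum {M : Type*} [AddCommMonoid M] (F : IrrCharacter G → M) :
    ∑ χ, F χ = F (triv G) + (F A.c6 + (F A.c14 + (F A.c14' + (F A.c21 + (F A.c15 + (F A.c10 + (F A.c10' + F A.c35))))))) := by
  rw [ColTools.sum_list _ A.nodup F (fun χ hχ => absurd (A.all χ) hχ)]
  simp

include A in
theorem A7D.card : Nat.card (IrrCharacter G) = 9 := by
  rw [Nat.card_eq_fintype_card, ← Finset.card_univ, Finset.card_eq_sum_ones]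
  rw [A.sum (fun _ => 1)]
  norm_num

theorem deg_cc' (χ : IrrCharacter G) : charDegree (ColTools.cc χ : G → ℂ) = charDegree (χ : G → ℂ) := by
  have h1 := ColTools.deg_cc χ
  rwa [deg_eq, deg_eq] at h1

theorem A7D.d1 : charDegree (triv G : G → ℂ) = 1 := deg_triv

theorem A7D.uniq (χ : IrrCharacter G) {d : ℕ} (hd : charDegree (χ : G → ℂ) = d) :
    (d = 6 → χ = A.c6) ∧ (d = 21 → χ = A.c21) ∧ (d = 15 → χ = A.c15) ∧ (d = 35 → χ = A.c35) ∧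
      (d = 10 → χ = A.c10 ∨ χ = A.c10') := by
  have e1 := A.d6
  have e2 := A.d14
  have e3 := A.d14'
  have e4 := A.d21
  have e5 := A.d15
  have e6 := A.d10
  have e7 := A.d10'
  have e8 := A.d35
  have e9 : charDegree (triv G : G → ℂ) = 1 := deg_triv
  rcases A.list_eq χ with h | h | h | h | h | h | h | h | h
  · rw [h, e9] at hd
    refine ⟨?_, ?_, ?_, ?_, ?_⟩ <;> intro h1 <;> omega
  · rw [h, e1] at hd
    refine ⟨?_, ?_, ?_, ?_, ?_⟩ <;> intro h1 <;> first | exact h | omega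
  · rw [h, e2] at hd
    refine ⟨?_, ?_, ?_, ?_, ?_⟩ <;> intro h1 <;> first | exact h | omega
  · rw [h, e3] at hd
    refine ⟨?_, ?_, ?_, ?_, ?_⟩ <;> intro h1 <;> first | exact h | omega
  · rw [h, e4] at hd
    refine ⟨?_, ?_, ?_, ?_, ?_⟩ <;> intro h1 <;> first | exact h | omega
  · rw [h, e5] at hd
    refine ⟨?_, ?_, ?_, ?_, ?_⟩ <;> intro h1 <;> first | exact h | omega
  · rw [h, e6] at hd
    refine ⟨?_, ?_, ?_, ?_, ?_⟩ <;> intro h1 <;> first | exact Or.inl h | omega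
  · rw [h, e7] at hd
    refine ⟨?_, ?_, ?_, ?_, ?_⟩ <;> intro h1 <;> first | exact Or.inr h | omega
  · rw [h, e8] at hd
    refine ⟨?_, ?_, ?_, ?_, ?_⟩ <;> intro h1 <;> first | exact h | omega

theorem real_of_cc {χ : IrrCharacter G} (h : ColTools.cc χ = χ) (g : G) : conj ((χ : G → ℂ) g) = (χ : G → ℂ) g := by
  conv_rhs => rw [← h, ColTools.cc_apply]

theorem A7D.real6 (g : G) : conj ((A.c6 : G → ℂ) g) = (A.c6 : G → ℂ) g :=
  real_of_cc ((A.uniq _ (deg_cc' _)).1 A.d6) g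

theorem A7D.real21 (g : G) : conj ((A.c21 : G → ℂ) g) = (A.c21 : G → ℂ) g :=
  real_of_cc ((A.uniq _ (deg_cc' _)).2.1 A.d21) g

theorem A7D.real10 (g : G) (hg : ¬ 7 ∣ orderOf g) : conj ((A.c10 : G → ℂ) g) = (A.c10 : G → ℂ) g := by
  have h1 := (A.uniq (ColTools.cc A.c10) (deg_cc' _)).2.2.2.2 A.d10
  rw [← ColTools.cc_apply]
  rcases h1 with h1 | h1
  · rw [h1]
  · rw [h1, A.e10 g hg]

/-- values on elements of order prime to 5 and 7 -/
theorem A7D.reg {g : G} (h5 : ¬ 5 ∣ orderOf g) (h7 : ¬ 7 ∣ orderOf g) (hg : g ≠ 1) :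
    (A.c14 : G → ℂ) g + (A.c14' : G → ℂ) g = 1 + (A.c6 : G → ℂ) g + (A.c21 : G → ℂ) g ∧
    (A.c15 : G → ℂ) g = (A.c6 : G → ℂ) g + (A.c10 : G → ℂ) g - 1 ∧
    (A.c10' : G → ℂ) g = (A.c10 : G → ℂ) g ∧
    (A.c35 : G → ℂ) g = - ((A.c6 : G → ℂ) g + (A.c10 : G → ℂ) g + (A.c21 : G → ℂ) g) := by
  have h1 := A.rel5 g h5
  have h2 := A.rel7 g h7
  have h3 := A.e10 g h7
  have h4 := ColTools.col_orth_ne (G := G) (g := g) (h := 1) (by
    intro h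
    exact hg (isConj_one_left.1 h))
  rw [inv_one, A.sum (fun χ => (χ : G → ℂ) g * (χ : G → ℂ) 1)] at h4
  simp only [← BlockDeg.charDegree_cast_irr, A.d6, A.d14, A.d14', A.d21, A.d15, A.d10, A.d10', A.d35] at h4
  have h5 : ((triv G : IrrCharacter G) : G → ℂ) g = 1 := rfl
  rw [deg_triv, h5, h3] at h4
  norm_num at h4
  refine ⟨by linear_combination -h1, by linear_combination h2, h3, ?_⟩
  linear_combination h4 / 35 + (2/5 : ℂ) * h1 - (3/7 : ℂ) * h2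

/-- the norm of a column -/
theorem A7D.norm (g : G) (h7 : ¬ 7 ∣ orderOf g) : (Nat.card (Subgroup.centralizer ({g} : Set G)) : ℝ) =
    1 + ‖(A.c6 : G → ℂ) g‖ ^ 2 + ‖(A.c14 : G → ℂ) g‖ ^ 2 + ‖(A.c14' : G → ℂ) g‖ ^ 2 + ‖(A.c21 : G → ℂ) g‖ ^ 2 +
      ‖(A.c15 : G → ℂ) g‖ ^ 2 + 2 * ‖(A.c10 : G → ℂ) g‖ ^ 2 + ‖(A.c35 : G → ℂ) g‖ ^ 2 := by
  have h1 := ColTools.col_norm g
  rw [A.sum (fun χ => ‖(χ : G → ℂ) g‖ ^ 2)] at h1
  have h5 : ((triv G : IrrCharacter G) : G → ℂ) g = 1 := rfl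
  simp only [h5, A.e10 g h7, norm_one] at h1
  rw [← h1]; ring

def nrm (x b b' a z : ℤ) : ℤ := 1 + x ^ 2 + b ^ 2 + b' ^ 2 + a ^ 2 + (x + z - 1) ^ 2 + 2 * z ^ 2 + (x + z + a) ^ 2

def f5v (x b b' a : ℤ) : ℤ := 504 + 84 * x ^ 2 - 36 * b ^ 2 - 36 * b' ^ 2 + 24 * a ^ 2

def f7v (x z : ℤ) : ℤ := 30 - 5 * x ^ 2 + 2 * (x + z - 1) ^ 2 - 3 * z ^ 2

def chk (k6 k10 k21 k14 k14' : ℕ) : Bool :=
  (k6 == 0 || (k10 == 0 || (k21 == 0 || (k14 == 0 || k14' == 0)))) ||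
  ((14 - 4 * (k14 : ℤ)) + (14 - 4 * (k14' : ℤ)) != 1 + (6 - 4 * (k6 : ℤ)) + (21 - 4 * (k21 : ℤ)) ||
  (f7v (6 - 4 * k6) (10 - 4 * k10) != 0 ||
  (72 % (nrm (6 - 4 * k6) (14 - 4 * k14) (14 - 4 * k14') (21 - 4 * k21) (10 - 4 * k10)) != 0 ||
  (f5v (6 - 4 * k6) (14 - 4 * k14) (14 - 4 * k14') (21 - 4 * k21) != 0 &&
   f5v (6 - 4 * k6) (14 - 4 * k14) (14 - 4 * k14') (21 - 4 * k21) !=
    nrm (6 - 4 * k6) (14 - 4 * k14) (14 - 4 * k14') (21 - 4 * k21) (10 - 4 * k10) ^ 2)))) ||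
  ((k6 == 1 && (k10 == 3 && (k21 == 5 && (k14 == 3 && k14' == 3)))) ||
   ((k6 == 2 && (k10 == 2 && (k21 == 5 && (k14 == 3 && k14' == 4)))) ||
    (k6 == 2 && (k10 == 2 && (k21 == 5 && (k14 == 4 && k14' == 3))))))

/-- the finite check for involutions -/
theorem check_invol : ((List.range 3).all fun k6 => (List.range 5).all fun k10 => (List.range 11).all fun k21 =>
    (List.range 7).all fun k14 => (List.range 7).all fun k14' => chk k6 k10 k21 k14 k14') = true := by decide +kernel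

theorem check_invol' {k6 k10 k21 k14 k14' : ℕ} (h1 : k6 < 3) (h2 : k10 < 5) (h3 : k21 < 11) (h4 : k14 < 7)
    (h5 : k14' < 7) (p1 : 0 < k6) (p2 : 0 < k10) (p3 : 0 < k21) (p4 : 0 < k14) (p5 : 0 < k14')
    (e1 : (14 - 4 * (k14 : ℤ)) + (14 - 4 * (k14' : ℤ)) = 1 + (6 - 4 * (k6 : ℤ)) + (21 - 4 * (k21 : ℤ)))
    (e2 : f7v (6 - 4 * k6) (10 - 4 * k10) = 0)
    (e3 : nrm (6 - 4 * k6) (14 - 4 * k14) (14 - 4 * k14') (21 - 4 * k21) (10 - 4 * k10) ∣ 72)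
    (e4 : f5v (6 - 4 * k6) (14 - 4 * k14) (14 - 4 * k14') (21 - 4 * k21) = 0 ∨
      f5v (6 - 4 * k6) (14 - 4 * k14) (14 - 4 * k14') (21 - 4 * k21) =
      nrm (6 - 4 * k6) (14 - 4 * k14) (14 - 4 * k14') (21 - 4 * k21) (10 - 4 * k10) ^ 2) :
    (k6 = 1 ∧ k10 = 3 ∧ k21 = 5 ∧ k14 = 3 ∧ k14' = 3) ∨ (k6 = 2 ∧ k10 = 2 ∧ k21 = 5 ∧ k14 = 3 ∧ k14' = 4) ∨
      (k6 = 2 ∧ k10 = 2 ∧ k21 = 5 ∧ k14 = 4 ∧ k14' = 3) := by
  have h := check_invol
  simp only [List.all_eq_true, List.mem_range] at h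
  have h := h k6 h1 k10 h2 k21 h3 k14 h4 k14' h5
  have e3' := Int.emod_eq_zero_of_dvd e3
  simp only [chk, Bool.or_eq_true, beq_iff_eq, bne_iff_ne, Bool.and_eq_true, e1, e2, e3', ne_eq, not_true_eq_false,
    false_or] at h
  rcases h with h | h
  · exfalso
    rcases h with h | h
    · omega
    · rcases e4 with e4 | e4
      · exact h.1 e4
      · exact h.2 e4
  · exact h

theorem card_cent_conj {w x : G} (h : IsConj w x) :
    Nat.card (Subgroup.centralizer ({w} : Set G)) = Nat.card (Subgroup.centralizer ({x} : Set G)) := by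
  obtain ⟨g, rfl⟩ := isConj_iff.1 h
  refine Nat.card_congr
    { toFun := fun c => ⟨g * c.1 * g⁻¹, ?_⟩
      invFun := fun c => ⟨g⁻¹ * c.1 * g, ?_⟩
      left_inv := fun c => Subtype.ext (by group)
      right_inv := fun c => Subtype.ext (by group) }
  · have hc := Subgroup.mem_centralizer_singleton_iff.1 c.2
    rw [Subgroup.mem_centralizer_singleton_iff]
    calc g * c.1 * g⁻¹ * (g * w * g⁻¹) = g * (c.1 * w) * g⁻¹ := by group
      _ = g * (w * c.1) * g⁻¹ := by rw [hc]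
      _ = g * w * g⁻¹ * (g * c.1 * g⁻¹) := by group
  · have hc := Subgroup.mem_centralizer_singleton_iff.1 c.2
    rw [Subgroup.mem_centralizer_singleton_iff]
    calc g⁻¹ * c.1 * g * w = g⁻¹ * (c.1 * (g * w * g⁻¹)) * g := by group
      _ = g⁻¹ * (g * w * g⁻¹ * c.1) * g := by rw [hc]
      _ = w * (g⁻¹ * c.1 * g) := by group

theorem val_conj (χ : IrrCharacter G) {w x : G} (h : IsConj w x) : (χ : G → ℂ) w = (χ : G → ℂ) x := by
  obtain ⟨g, hg⟩ := isConj_iff.1 h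
  rw [← hg]
  exact (χ.2.isClassFunction w g).symm

theorem norm_int_sq (x : ℤ) : ‖((x : ℤ) : ℂ)‖ ^ 2 = (x : ℝ) ^ 2 := by
  rw [Complex.norm_intCast, sq_abs]

/-- the involutions -/
theorem A7D.invol [IsSimpleGroup G] (hG : ¬ IsMulCommutative G) {w : G} (hw : orderOf w = 2)
    (h72 : Nat.card (Subgroup.centralizer ({w} : Set G)) ∣ 72) :
    (∃ x, IsConj w x ∧ x * u * x⁻¹ = u⁻¹) ∧ Nat.card (Subgroup.centralizer ({w} : Set G)) = 24 ∧
    (((A.c6 : G → ℂ) w = 2 ∧ (A.c10 : G → ℂ) w = -2 ∧ (A.c21 : G → ℂ) w = 1 ∧ (A.c14 : G → ℂ) w = 2 ∧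
      (A.c14' : G → ℂ) w = 2) ∨
     ((A.c6 : G → ℂ) w = -2 ∧ (A.c10 : G → ℂ) w = 2 ∧ (A.c21 : G → ℂ) w = 1 ∧
      (((A.c14 : G → ℂ) w = 2 ∧ (A.c14' : G → ℂ) w = -2) ∨ ((A.c14 : G → ℂ) w = -2 ∧ (A.c14' : G → ℂ) w = 2)))) := by
  obtain ⟨k6, v6, p6, q6⟩ := invol_val hG A.d6 (by norm_num) hw
  obtain ⟨k10, v10, p10, q10⟩ := invol_val hG A.d10 (by norm_num) hw
  obtain ⟨k21, v21, p21, q21⟩ := invol_val hG A.d21 (by norm_num) hw
  obtain ⟨k14, v14, p14, q14⟩ := invol_val hG A.d14 (by norm_num) hw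
  obtain ⟨k14', v14', p14', q14'⟩ := invol_val hG A.d14' (by norm_num) hw
  have h5 : ¬ 5 ∣ orderOf w := by rw [hw]; norm_num
  have h7 : ¬ 7 ∣ orderOf w := by rw [hw]; norm_num
  have hw1 : w ≠ 1 := by rintro rfl; rw [orderOf_one] at hw; norm_num at hw
  obtain ⟨r1, r2, r3, r4⟩ := A.reg h5 h7 hw1
  have hF7 := A.F7 w hw
  have hn := A.norm w h7
  push_cast at v6 v10 v21 v14 v14'
  set x : ℤ := 6 - 4 * (k6 : ℤ) with hx
  set z : ℤ := 10 - 4 * (k10 : ℤ) with hz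
  set a : ℤ := 21 - 4 * (k21 : ℤ) with ha
  set b : ℤ := 14 - 4 * (k14 : ℤ) with hb
  set b' : ℤ := 14 - 4 * (k14' : ℤ) with hb'
  have v6' : (A.c6 : G → ℂ) w = (x : ℂ) := by rw [v6, hx]; push_cast; ring
  have v10' : (A.c10 : G → ℂ) w = (z : ℂ) := by rw [v10, hz]; push_cast; ring
  have v21' : (A.c21 : G → ℂ) w = (a : ℂ) := by rw [v21, ha]; push_cast; ring
  have v14a : (A.c14 : G → ℂ) w = (b : ℂ) := by rw [v14, hb]; push_cast; ring
  have v14b : (A.c14' : G → ℂ) w = (b' : ℂ) := by rw [v14', hb']; push_cast; ring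
  have r2' : (A.c15 : G → ℂ) w = ((x + z - 1 : ℤ) : ℂ) := by rw [r2, v6', v10']; push_cast; ring
  have r4' : (A.c35 : G → ℂ) w = ((-(x + z + a) : ℤ) : ℂ) := by rw [r4, v6', v10', v21']; push_cast; ring
  have e1 : b + b' = 1 + x + a := by
    rw [v14a, v14b, v6', v21'] at r1
    exact_mod_cast r1
  have e2 : f7v x z = 0 := by
    rw [v6', r2', v10'] at hF7
    have h1 : ((f7v x z : ℤ) : ℂ) = 0 := by
      rw [f7v]
      push_cast at hF7 ⊢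
      linear_combination 30 * hF7
    exact_mod_cast h1
  have e3 : nrm x b b' a z = Nat.card (Subgroup.centralizer ({w} : Set G)) := by
    rw [v6', v14a, v14b, v21', r2', v10', r4'] at hn
    simp only [norm_int_sq] at hn
    have h1 : ((nrm x b b' a z : ℤ) : ℝ) = ((Nat.card (Subgroup.centralizer ({w} : Set G)) : ℤ) : ℝ) := by
      rw [nrm]
      push_cast at hn ⊢
      rw [hn]; ring
    exact_mod_cast h1
  have e3' : nrm x b b' a z ∣ 72 := by rw [e3]; exact_mod_cast h72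
  have e4 : (∃ y, IsConj w y ∧ y * u * y⁻¹ = u⁻¹) ∧ f5v x b b' a = nrm x b b' a z ^ 2 ∨ f5v x b b' a = 0 := by
    by_cases hc : ∃ y, IsConj w y ∧ y * u * y⁻¹ = u⁻¹
    · left
      refine ⟨hc, ?_⟩
      obtain ⟨y, hy, hy'⟩ := hc
      have hy2 : orderOf y = 2 := by
        obtain ⟨g, hg⟩ := isConj_iff.1 hy
        rw [← hg, show g * w * g⁻¹ = MulAut.conj g w from rfl, MulEquiv.orderOf_eq, hw]
      have h1 := A.F5o y hy2 hy'
      rw [← val_conj A.c6 hy, ← val_conj A.c14 hy, ← val_conj A.c14' hy, ← val_conj A.c21 hy, ← card_cent_conj hy,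
        v6', v14a, v14b, v21'] at h1
      have h2 : ((f5v x b b' a : ℤ) : ℂ) = ((nrm x b b' a z ^ 2 : ℤ) : ℂ) := by
        rw [e3, f5v]
        push_cast at h1 ⊢
        rw [← h1]; ring
      exact_mod_cast h2
    · right
      push Not at hc
      have h1 := A.F5z w hw hc
      rw [v6', v14a, v14b, v21'] at h1
      have h2 : ((f5v x b b' a : ℤ) : ℂ) = 0 := by
        rw [f5v]
        push_cast at h1 ⊢
        linear_combination 504 * h1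
      exact_mod_cast h2
  have hk := check_invol' (k6 := k6) (k10 := k10) (k21 := k21) (k14 := k14) (k14' := k14') (by omega) (by omega)
    (by omega) (by omega) (by omega) p6 p10 p21 p14 p14' e1 e2 e3' (by
      rcases e4 with e4 | e4
      · exact Or.inr e4.2
      · exact Or.inl e4)
  have hne : f5v x b b' a ≠ 0 := by
    rw [hx, hb, hb', ha]
    rcases hk with ⟨rfl, rfl, rfl, rfl, rfl⟩ | ⟨rfl, rfl, rfl, rfl, rfl⟩ | ⟨rfl, rfl, rfl, rfl, rfl⟩ <;> decide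
  have hc := (e4.resolve_right hne).1
  refine ⟨hc, ?_, ?_⟩
  · have h1 : (Nat.card (Subgroup.centralizer ({w} : Set G)) : ℤ) = 24 := by
      rw [← e3, hx, hb, hb', ha, hz]
      rcases hk with ⟨rfl, rfl, rfl, rfl, rfl⟩ | ⟨rfl, rfl, rfl, rfl, rfl⟩ | ⟨rfl, rfl, rfl, rfl, rfl⟩ <;> decide
    exact_mod_cast h1
  · rw [v6', v10', v21', v14a, v14b]
    rcases hk with ⟨rfl, rfl, rfl, rfl, rfl⟩ | ⟨rfl, rfl, rfl, rfl, rfl⟩ | ⟨rfl, rfl, rfl, rfl, rfl⟩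
    · left
      rw [hx, hz, ha, hb, hb']
      norm_num
    · right
      rw [hx, hz, ha, hb, hb']
      norm_num
    · right
      rw [hx, hz, ha, hb, hb']
      norm_num

/-- the values at elements of order four -/
theorem val4 [IsSimpleGroup G] (hG : ¬ IsMulCommutative G) {χ : IrrCharacter G} {d : ℕ}
    (hd : charDegree (χ : G → ℂ) = d) {g : G} (hg : g ^ 4 = 1) (hr : conj ((χ : G → ℂ) g) = (χ : G → ℂ) g) {x : ℤ}
    (hx : (χ : G → ℂ) (g ^ 2) = x) : ∃ n j : ℕ, (χ : G → ℂ) g = ((n - 2 * j : ℤ) : ℂ) ∧ 2 * (n + 2 * j : ℤ) = d + x := by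
  obtain ⟨n0, n1, n2, n3, h1, h2, h3, h4⟩ := ColTools.val_four χ.2.isCharacter g hg
  rw [← BlockDeg.charDegree_cast_irr, hd] at h1
  rw [hx] at h3
  have h4 := h4 (ColTools.hom_trivial hG)
  rw [h2] at hr
  have h5 : (n1 : ℤ) = n3 := by
    have := congrArg Complex.im hr
    simp at this
    have h6 : ((n1 : ℝ) : ℝ) = n3 := by linarith
    exact_mod_cast h6
  have h5' : n1 = n3 := by exact_mod_cast h5
  subst h5'
  have h6 : n2 % 2 = 0 := by omega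
  obtain ⟨j, hj⟩ : ∃ j, n2 = 2 * j := ⟨n2 / 2, by omega⟩
  refine ⟨n0, j, ?_, ?_⟩
  · rw [h2, hj]; push_cast; ring
  · have h7 : (d : ℤ) = n0 + n1 + n2 + n1 := by exact_mod_cast h1
    have h8 : x = n0 - n1 + n2 - n1 := by exact_mod_cast h3
    rw [h7, h8, hj]; push_cast; ring

theorem parallelogram (a b : ℂ) : 2 * (‖a‖ ^ 2 + ‖b‖ ^ 2) = ‖a + b‖ ^ 2 + ‖a - b‖ ^ 2 := by
  rw [← Complex.normSq_eq_norm_sq, ← Complex.normSq_eq_norm_sq, ← Complex.normSq_eq_norm_sq, ← Complex.normSq_eq_norm_sq,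
    Complex.normSq_apply, Complex.normSq_apply, Complex.normSq_apply, Complex.normSq_apply]
  simp only [Complex.add_re, Complex.add_im, Complex.sub_re, Complex.sub_im]
  ring

theorem A7D.four [IsSimpleGroup G] (hG : ¬ IsMulCommutative G) {f : G} (hf : orderOf f = 4)
    (h72 : Nat.card (Subgroup.centralizer ({f ^ 2} : Set G)) ∣ 72) :
    (A.c6 : G → ℂ) f = 0 ∧ (A.c6 : G → ℂ) (f ^ 2) = 2 := by
  have hf4 : f ^ 4 = 1 := by rw [← hf, pow_orderOf_eq_one]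
  have hw : orderOf (f ^ 2) = 2 := by rw [orderOf_pow' f (by norm_num), hf]; norm_num
  have hf1 : f ≠ 1 := by rintro rfl; rw [orderOf_one] at hf; norm_num at hf
  obtain ⟨hinv, hcard, hcase⟩ := A.invol hG hw h72
  have h5 : ¬ 5 ∣ orderOf f := by rw [hf]; norm_num
  have h7 : ¬ 7 ∣ orderOf f := by rw [hf]; norm_num
  have h5w : ¬ 5 ∣ orderOf (f ^ 2) := by rw [hw]; norm_num
  have h7w : ¬ 7 ∣ orderOf (f ^ 2) := by rw [hw]; norm_num
  have hw1 : f ^ 2 ≠ 1 := by intro h; rw [h, orderOf_one] at hw; norm_num at hw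
  obtain ⟨r1, r2, r3, r4⟩ := A.reg h5 h7 hf1
  obtain ⟨t1, t2, t3, t4⟩ := A.reg h5w h7w hw1
  have hn := A.norm f h7
  have hle : Nat.card (Subgroup.centralizer ({f} : Set G)) ≤ 24 := by
    rw [← hcard]
    apply Nat.card_le_card_of_injective (Subgroup.inclusion (K := Subgroup.centralizer ({f ^ 2} : Set G)) (by
      intro c hc
      rw [Subgroup.mem_centralizer_singleton_iff] at hc ⊢
      exact (Commute.pow_right (show Commute c f from hc) 2).eq))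
    exact Subgroup.inclusion_injective _
  have hle' : (Nat.card (Subgroup.centralizer ({f} : Set G)) : ℝ) ≤ 24 := by exact_mod_cast hle
  have horth := ColTools.col_orth_ne (G := G) (g := f) (h := (f ^ 2)⁻¹) (by
    intro h
    obtain ⟨g, hg⟩ := isConj_iff.1 h
    have : orderOf f = orderOf ((f ^ 2)⁻¹) := by
      rw [← hg, show g * f * g⁻¹ = MulAut.conj g f from rfl, MulEquiv.orderOf_eq]
    rw [orderOf_inv, hf, hw] at this
    norm_num at this)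
  rw [inv_inv, A.sum (fun χ => (χ : G → ℂ) f * (χ : G → ℂ) (f ^ 2))] at horth
  have ht1 : ((triv G : IrrCharacter G) : G → ℂ) f = 1 := rfl
  have ht2 : ((triv G : IrrCharacter G) : G → ℂ) (f ^ 2) = 1 := rfl
  rw [ht1, ht2, r3, t3, r4, t4, r2, t2] at horth
  rcases hcase with ⟨w6, w10, w21, w14, w14'⟩ | ⟨w6, w10, w21, hw14⟩
  · refine ⟨?_, w6⟩
    obtain ⟨n, j, v6, e6⟩ := val4 hG A.d6 hf4 (A.real6 f) (x := 2) (by rw [w6]; norm_num)
    obtain ⟨n', j', v10, e10⟩ := val4 hG A.d10 hf4 (A.real10 f h7) (x := -2) (by rw [w10]; norm_num)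
    obtain ⟨n'', j'', v21, e21⟩ := val4 hG A.d21 hf4 (A.real21 f) (x := 1) (by rw [w21]; norm_num)
    have h1 := parallelogram ((A.c14 : G → ℂ) f) ((A.c14' : G → ℂ) f)
    have r1' : (A.c14 : G → ℂ) f + (A.c14' : G → ℂ) f = ((1 + (n - 2 * j : ℤ) + (n'' - 2 * j'' : ℤ) : ℤ) : ℂ) := by
      rw [r1, v6, v21]; push_cast; ring
    have r2' : (A.c15 : G → ℂ) f = (((n - 2 * j : ℤ) + (n' - 2 * j' : ℤ) - 1 : ℤ) : ℂ) := by
      rw [r2, v6, v10]; push_cast; ring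
    have r4' : (A.c35 : G → ℂ) f = ((-((n - 2 * j : ℤ) + (n' - 2 * j' : ℤ) + (n'' - 2 * j'' : ℤ)) : ℤ) : ℂ) := by
      rw [r4, v6, v10, v21]; push_cast; ring
    have ho : (n' - 2 * j' : ℤ) = 1 + (n - 2 * j : ℤ) + (n'' - 2 * j'' : ℤ) := by
      rw [w6, w10, w21, w14, w14', v6, v10, v21] at horth
      have h2 : ((n' - 2 * j' : ℤ) : ℂ) = ((1 + (n - 2 * j : ℤ) + (n'' - 2 * j'' : ℤ) : ℤ) : ℂ) := by
        push_cast at horth r1' ⊢
        linear_combination -(1/4 : ℂ) * horth + (1/2 : ℂ) * r1'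
      exact_mod_cast h2
    rw [r1', norm_int_sq] at h1
    rw [v6, v10, v21, r2', r4'] at hn
    simp only [norm_int_sq] at hn
    have hI : (2 * (1 + (n - 2 * j : ℤ) ^ 2 + (n'' - 2 * j'' : ℤ) ^ 2 + ((n - 2 * j : ℤ) + (n' - 2 * j' : ℤ) - 1) ^ 2 +
        2 * (n' - 2 * j' : ℤ) ^ 2 + ((n - 2 * j : ℤ) + (n' - 2 * j' : ℤ) + (n'' - 2 * j'' : ℤ)) ^ 2) +
        (1 + (n - 2 * j : ℤ) + (n'' - 2 * j'' : ℤ)) ^ 2 : ℤ) ≤ 48 := by
      have h2 := sq_nonneg ‖(A.c14 : G → ℂ) f - (A.c14' : G → ℂ) f‖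
      have h3 : ((2 * (1 + (n - 2 * j : ℤ) ^ 2 + (n'' - 2 * j'' : ℤ) ^ 2 + ((n - 2 * j : ℤ) + (n' - 2 * j' : ℤ) - 1) ^ 2 +
        2 * (n' - 2 * j' : ℤ) ^ 2 + ((n - 2 * j : ℤ) + (n' - 2 * j' : ℤ) + (n'' - 2 * j'' : ℤ)) ^ 2) +
        (1 + (n - 2 * j : ℤ) + (n'' - 2 * j'' : ℤ)) ^ 2 : ℤ) : ℝ) ≤ ((48 : ℤ) : ℝ) := by
        push_cast at hn h1 hle' ⊢
        linarith
      exact_mod_cast h3
    have hs : (n - 2 * j : ℤ) = 0 := by
      have g1 : j ≤ 2 := by omega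
      have g2 : j' ≤ 2 := by omega
      have f1 : (n : ℤ) = 4 - 2 * j := by omega
      have f2 : (n' : ℤ) = 4 - 2 * j' := by omega
      have f3 : (n'' : ℤ) = 11 - 2 * j'' := by omega
      have f4 : (n'' - 2 * j'' : ℤ) = (n' - 2 * j' : ℤ) - 1 - (n - 2 * j : ℤ) := by omega
      rw [f4, f1, f2] at hI
      rw [f1]
      interval_cases j <;> interval_cases j' <;> first | rfl | (exfalso; revert hI; norm_num)
    rw [v6, hs]; norm_num
  · exfalso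
    obtain ⟨n, j, v6, e6⟩ := val4 hG A.d6 hf4 (A.real6 f) (x := -2) (by rw [w6]; norm_num)
    obtain ⟨n', j', v10, e10⟩ := val4 hG A.d10 hf4 (A.real10 f h7) (x := 2) (by rw [w10]; norm_num)
    obtain ⟨n'', j'', v21, e21⟩ := val4 hG A.d21 hf4 (A.real21 f) (x := 1) (by rw [w21]; norm_num)
    have h1 := parallelogram ((A.c14 : G → ℂ) f) ((A.c14' : G → ℂ) f)
    have r1' : (A.c14 : G → ℂ) f + (A.c14' : G → ℂ) f = ((1 + (n - 2 * j : ℤ) + (n'' - 2 * j'' : ℤ) : ℤ) : ℂ) := by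
      rw [r1, v6, v21]; push_cast; ring
    have r2' : (A.c15 : G → ℂ) f = (((n - 2 * j : ℤ) + (n' - 2 * j' : ℤ) - 1 : ℤ) : ℂ) := by
      rw [r2, v6, v10]; push_cast; ring
    have r4' : (A.c35 : G → ℂ) f = ((-((n - 2 * j : ℤ) + (n' - 2 * j' : ℤ) + (n'' - 2 * j'' : ℤ)) : ℤ) : ℂ) := by
      rw [r4, v6, v10, v21]; push_cast; ring
    have ho : ‖(A.c14 : G → ℂ) f - (A.c14' : G → ℂ) f‖ ^ 2 =
        (((n - 2 * j : ℤ) - 1 - (n'' - 2 * j'' : ℤ) - 2 * (n' - 2 * j' : ℤ) : ℤ) : ℝ) ^ 2 := by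
      rcases hw14 with ⟨w14, w14'⟩ | ⟨w14, w14'⟩
      · rw [w6, w10, w21, w14, w14', v6, v10, v21] at horth
        have h2 : (A.c14 : G → ℂ) f - (A.c14' : G → ℂ) f =
          (((n - 2 * j : ℤ) - 1 - (n'' - 2 * j'' : ℤ) - 2 * (n' - 2 * j' : ℤ) : ℤ) : ℂ) := by
          push_cast at horth ⊢
          linear_combination (1/2 : ℂ) * horth
        rw [h2, norm_int_sq]
      · rw [w6, w10, w21, w14, w14', v6, v10, v21] at horth
        have h2 : (A.c14 : G → ℂ) f - (A.c14' : G → ℂ) f =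
          ((-((n - 2 * j : ℤ) - 1 - (n'' - 2 * j'' : ℤ) - 2 * (n' - 2 * j' : ℤ)) : ℤ) : ℂ) := by
          push_cast at horth ⊢
          linear_combination -(1/2 : ℂ) * horth
        rw [h2, norm_int_sq]
        push_cast; ring
    rw [r1', norm_int_sq, ho] at h1
    rw [v6, v10, v21, r2', r4'] at hn
    simp only [norm_int_sq] at hn
    have hI : (2 * (1 + (n - 2 * j : ℤ) ^ 2 + (n'' - 2 * j'' : ℤ) ^ 2 + ((n - 2 * j : ℤ) + (n' - 2 * j' : ℤ) - 1) ^ 2 +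
        2 * (n' - 2 * j' : ℤ) ^ 2 + ((n - 2 * j : ℤ) + (n' - 2 * j' : ℤ) + (n'' - 2 * j'' : ℤ)) ^ 2) +
        (1 + (n - 2 * j : ℤ) + (n'' - 2 * j'' : ℤ)) ^ 2 +
        ((n - 2 * j : ℤ) - 1 - (n'' - 2 * j'' : ℤ) - 2 * (n' - 2 * j' : ℤ)) ^ 2 : ℤ) ≤ 48 := by
      have h3 : ((2 * (1 + (n - 2 * j : ℤ) ^ 2 + (n'' - 2 * j'' : ℤ) ^ 2 + ((n - 2 * j : ℤ) + (n' - 2 * j' : ℤ) - 1) ^ 2 +
        2 * (n' - 2 * j' : ℤ) ^ 2 + ((n - 2 * j : ℤ) + (n' - 2 * j' : ℤ) + (n'' - 2 * j'' : ℤ)) ^ 2) +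
        (1 + (n - 2 * j : ℤ) + (n'' - 2 * j'' : ℤ)) ^ 2 +
        ((n - 2 * j : ℤ) - 1 - (n'' - 2 * j'' : ℤ) - 2 * (n' - 2 * j' : ℤ)) ^ 2 : ℤ) : ℝ) ≤ ((48 : ℤ) : ℝ) := by
        push_cast at hn h1 hle' ⊢
        linarith
      exact_mod_cast h3
    have g1 : j ≤ 1 := by omega
    have g2 : j' ≤ 3 := by omega
    have g3 : j'' ≤ 5 := by omega
    have f1 : (n : ℤ) = 2 - 2 * j := by omega
    have f2 : (n' : ℤ) = 6 - 2 * j' := by omega
    have f3 : (n'' : ℤ) = 11 - 2 * j'' := by omega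
    rw [f1, f2, f3] at hI
    interval_cases j <;> interval_cases j' <;> interval_cases j'' <;> revert hI <;> norm_num

end

end Cfsg.Agent.Lib.A7Table
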