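import Mathlib
import Cfsg.Agent.Lib.A7Vals

/-!
# A simple group of order 2520: elements (helper54)
-/

set_option autoImplicit false
set_option linter.all false

namespace Cfsg.Agent.Lib.A7Table

open Cfsg Subgroup Cfsg.Agent.Lib.DefOneLoc Cfsg.Agent.Lib.DefOneOrd Cfsg.Agent.Lib.CharBasic
open Cfsg.Agent.Lib.DefOneGram Cfsg.Agent.Lib.DefOne Cfsg.Agent.Lib.BRB0 Cfsg.Agent.Lib.BRCore
open Cfsg.Agent.Lib.PBData Cfsg.Agent.Lib.DefOnePrin Cfsg.Agent.Lib.BlockThird Cfsg.Agent.Lib.SmallSimple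
open Cfsg.Agent.Lib.PBNum Cfsg.Agent.Lib.PBExt Cfsg.Agent.Lib.PBStruct Cfsg.Agent.Lib.PBFull
open Cfsg.Agent.Lib.A7Chars Cfsg.Agent.Lib.PBLocal
open scoped ComplexConjugate

universe u

/-- elements of a simple group of order 2520 -/
structure A7C (G : Type u) [Group G] [Fintype G] where
  u : G
  v : G
  f : G
  A : A7D u
  hu : orderOf u = 5
  hv : orderOf v = 7
  hf : orderOf f = 4
  hv2 : ¬ IsConj v v⁻¹
  n5 : ∀ w : G, w ≠ 1 → ¬ 5 ∣ orderOf w → ¬ 5 ∣ Nat.card (centralizer ({w} : Set G))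
  n7 : ∀ w : G, w ≠ 1 → ¬ 7 ∣ orderOf w → ¬ 7 ∣ Nat.card (centralizer ({w} : Set G))
  card2 : ∀ w : G, orderOf w = 2 → Nat.card (centralizer ({w} : Set G)) = 24
  val2 : ∀ w : G, orderOf w = 2 → (A.c6 : G → ℂ) w = 2
  val4 : ∀ g : G, orderOf g = 4 → (A.c6 : G → ℂ) g = 0
  conj2 : ∀ w w' : G, orderOf w = 2 → orderOf w' = 2 → IsConj w w'

section

variable {G : Type u} [Group G] [Fintype G] [IsSimpleGroup G] (hG : ¬ IsMulCommutative G)
  (h : Nat.card G = 2520)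

theorem order_conj {w x : G} (hw : IsConj w x) : orderOf w = orderOf x := by
  obtain ⟨g, hg⟩ := isConj_iff.1 hw
  rw [← hg, show g * w * g⁻¹ = MulAut.conj g w from rfl, MulEquiv.orderOf_eq]

/-- the element of order four -/
theorem exists_f {Q5 : Sylow 5 G}
    (D5 : Loc 5 (Q5 : Subgroup G) (normalizer ((Q5 : Subgroup G) : Set G)) (centralizer ((Q5 : Subgroup G) : Set G)))
    (hN : Nat.card (normalizer ((Q5 : Subgroup G) : Set G)) = 20)
    (hC : Nat.card (centralizer ((Q5 : Subgroup G) : Set G)) = 5) : ∃ f : G, orderOf f = 4 := by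
  letI : Fintype (centralizer ((Q5 : Subgroup G) : Set G)) := Fintype.ofFinite _
  have hinj := hinj_of (D := D5) hC
  have he := card_range_eq (D := D5) (e := 4) (c := 1) (by rw [hN]) (by rw [hC])
  obtain ⟨n, hn⟩ := exists_kappa D5 he rfl (ZMod.unitOfCoprime 2 (by norm_num))
  rw [ZMod.coe_unitOfCoprime] at hn
  have h4 : D5.κ (n ^ 4) = 1 := by
    have e1 : n ^ 4 = n * n * n * n := by simp only [pow_succ, pow_zero, one_mul]
    rw [e1, D5.κ_mul, D5.κ_mul, D5.κ_mul, hn]; decide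
  have h2 : D5.κ (n ^ 2) ≠ 1 := by
    rw [pow_two, D5.κ_mul, hn]; decide
  have hmem : ((n ^ 4 : normalizer ((Q5 : Subgroup G) : Set G)) : G) ∈ centralizer ((Q5 : Subgroup G) : Set G) :=
    (D5.κ_eq _).1 h4
  have hn4 : (n : G) ^ 4 = 1 := by
    have hmem' : (n : G) ^ 4 ∈ centralizer ((Q5 : Subgroup G) : Set G) := by
      have : ((n ^ 4 : normalizer ((Q5 : Subgroup G) : Set G)) : G) = (n : G) ^ 4 := by push_cast; rfl
      rwa [this] at hmem
    -- conjugation by n fixes n^4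
    have h5 := D5.κ_conj n ⟨(n : G) ^ 4, hmem'⟩ ⟨(n : G) ^ 4, hmem'⟩ (by
      change (n : G) ^ 4 = (n : G) * (n : G) ^ 4 * (n : G)⁻¹
      group)
    rw [hn] at h5
    have h6 : D5.l ⟨(n : G) ^ 4, hmem'⟩ = 0 := by
      have h7 : ((2 : ℕ) : ZMod 5) * D5.l ⟨(n : G) ^ 4, hmem'⟩ - D5.l ⟨(n : G) ^ 4, hmem'⟩ = 0 := by
        rw [← h5, sub_self]
      have h8 : ((2 : ℕ) : ZMod 5) * D5.l ⟨(n : G) ^ 4, hmem'⟩ - D5.l ⟨(n : G) ^ 4, hmem'⟩ = D5.l ⟨(n : G) ^ 4, hmem'⟩ := by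
        push_cast; ring
      rw [h8] at h7
      exact h7
    have h7 := hinj _ h6
    exact congrArg Subtype.val h7
  refine ⟨n, ?_⟩
  have h5 : orderOf (n : G) ∣ 4 := orderOf_dvd_of_pow_eq_one hn4
  have h6 : ¬ orderOf (n : G) ∣ 2 := by
    intro h6
    apply h2
    have h7 := orderOf_dvd_iff_pow_eq_one.1 h6
    have h8 : n ^ 2 = 1 := Subtype.ext h7
    rw [h8, D5.κ_eq]
    exact one_mem _
  have h7 : orderOf (n : G) ≤ 4 := Nat.le_of_dvd (by norm_num) h5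
  interval_cases hh : orderOf (n : G)
  · norm_num at h5
  · norm_num at h6
  · norm_num at h6
  · norm_num at h5
  · rfl

include hG h in
theorem exists_A7C : Nonempty (A7C G) := by
  classical
  obtain ⟨Q7⟩ : Nonempty (Sylow 7 G) := inferInstance
  obtain ⟨Q5⟩ : Nonempty (Sylow 5 G) := inferInstance
  have hQ7 : Nat.card Q7 = 7 := (SylEven.data hG (p := 7) (M := 360) (by rw [h]) (by norm_num) Q7).1
  have hQ5 : Nat.card Q5 = 5 := (SylEven.data hG (p := 5) (M := 504) (by rw [h]) (by norm_num) Q5).1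
  obtain ⟨D7, i7, ⟨B7⟩⟩ := exists_PBE Q7 hQ7
  obtain ⟨D5, i5, ⟨B5⟩⟩ := exists_PBE Q5 hQ5
  obtain ⟨hN7, hC7, -⟩ := stage1 hG h B7
  obtain ⟨hN5, hC5, -⟩ := stage2 hG h B7 B5
  obtain ⟨A⟩ := exists_A7D hG h B7 B5
  obtain ⟨f, hf⟩ := exists_f D5 hN5 hC5
  have n5 : ∀ w : G, w ≠ 1 → ¬ 5 ∣ orderOf w → ¬ 5 ∣ Nat.card (centralizer ({w} : Set G)) :=
    fun w h1 h2 => not_dvd_cent D5 hC5 h1 h2
  have n7 : ∀ w : G, w ≠ 1 → ¬ 7 ∣ orderOf w → ¬ 7 ∣ Nat.card (centralizer ({w} : Set G)) :=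
    fun w h1 h2 => not_dvd_cent D7 hC7 h1 h2
  have h72 : ∀ w : G, orderOf w = 2 → Nat.card (centralizer ({w} : Set G)) ∣ 72 := by
    intro w hw
    have hw1 : w ≠ 1 := by rintro rfl; rw [orderOf_one] at hw; norm_num at hw
    have h1 : Nat.card (centralizer ({w} : Set G)) ∣ 72 * 35 := by
      rw [show 72 * 35 = 2520 by norm_num, ← h]; exact Subgroup.card_subgroup_dvd_card _
    have h2 := n5 w hw1 (by rw [hw]; norm_num)
    have h3 := n7 w hw1 (by rw [hw]; norm_num)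
    have h4 : Nat.Coprime (Nat.card (centralizer ({w} : Set G))) 35 := by
      rw [show 35 = 5 * 7 by norm_num]
      exact Nat.Coprime.mul_right ((Nat.coprime_comm.1 ((Nat.Prime.coprime_iff_not_dvd (by norm_num)).2 h2)))
        ((Nat.coprime_comm.1 ((Nat.Prime.coprime_iff_not_dvd (by norm_num)).2 h3)))
    exact Nat.Coprime.dvd_of_dvd_mul_right h4 h1
  have hf2 : orderOf (f ^ 2) = 2 := by rw [orderOf_pow' f (by norm_num), hf]; norm_num
  have hinv : ∀ w : G, orderOf w = 2 → ∃ x, IsConj w x ∧ x * D5.u * x⁻¹ = D5.u⁻¹ :=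
    fun w hw => (A.invol hG hw (h72 w hw)).1
  have conj2 : ∀ w w' : G, orderOf w = 2 → orderOf w' = 2 → IsConj w w' := by
    intro w w' hw hw'
    obtain ⟨x, hx, hx'⟩ := hinv w hw
    obtain ⟨y, hy, hy'⟩ := hinv w' hw'
    have hx2 : x * x = 1 := by
      rw [← pow_two]
      apply orderOf_dvd_iff_pow_eq_one.1
      rw [← order_conj hx, hw]
    exact (hx.trans (conj_of_inv D5 (hinj_of hC5) (by norm_num) hx2 hx' hy')).trans hy.symm
  have val2 : ∀ w : G, orderOf w = 2 → (A.c6 : G → ℂ) w = 2 := by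
    intro w hw
    rw [val_conj A.c6 (conj2 w (f ^ 2) hw hf2)]
    exact (A.four hG hf (h72 _ hf2)).2
  refine ⟨⟨D5.u, D7.u, f, A, D5.ordu, D7.ordu, hf, ?_, n5, n7, fun w hw => (A.invol hG hw (h72 w hw)).2.1, val2, ?_, conj2⟩⟩
  · intro hcon
    obtain ⟨g, hg⟩ := isConj_iff.1 hcon
    have h1 := mem_norm hg
    have h2 : g ^ 21 = 1 := by
      apply orderOf_dvd_iff_pow_eq_one.1
      rw [← hN7]
      exact Subgroup.orderOf_dvd_natCard _ h1
    have h3 : ∀ k : ℕ, g ^ (2 * k + 1) * D7.u * (g ^ (2 * k + 1))⁻¹ = D7.u⁻¹ := by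
      intro k
      induction k with
      | zero => simpa using hg
      | succ k ih =>
        have e1 : g ^ (2 * (k + 1) + 1) = g * (g * g ^ (2 * k + 1)) := by
          rw [← pow_succ', ← pow_succ']
          congr 1
        rw [e1]
        calc g * (g * g ^ (2 * k + 1)) * D7.u * (g * (g * g ^ (2 * k + 1)))⁻¹
            = g * (g * (g ^ (2 * k + 1) * D7.u * (g ^ (2 * k + 1))⁻¹) * g⁻¹) * g⁻¹ := by group
          _ = g * (g * D7.u * g⁻¹)⁻¹ * g⁻¹ := by rw [ih]; group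
          _ = D7.u⁻¹ := by rw [hg, inv_inv, hg]
    have h4 := h3 10
    norm_num [h2] at h4
    have h5 : D7.u ^ 2 = 1 := by
      rw [pow_two]
      nth_rewrite 1 [h4]
      group
    have h6 := orderOf_dvd_of_pow_eq_one h5
    rw [D7.ordu] at h6
    norm_num at h6
  · intro g hg
    have hg2 : orderOf (g ^ 2) = 2 := by rw [orderOf_pow' g (by norm_num), hg]; norm_num
    exact (A.four hG hg (h72 _ hg2)).1

end

end Cfsg.Agent.Lib.A7Table
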