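import Mathlib
import Cfsg.Agent.Lib.SmallSimple

/-!
# Fusion of a normal subgroup of order nine (helper54)
-/

set_option autoImplicit false
set_option linter.all false

namespace Cfsg.Agent.Lib.A7Nine

open Subgroup Cfsg.Agent.Lib.SmallSimple

variable {M : Type*} [Group M] [Finite M] (S : Subgroup M) [S.Normal]

instance fact3 : Fact (Nat.Prime 3) := ⟨by norm_num⟩

theorem comm9 (hS : Nat.card S = 9) {a b : M} (ha : a ∈ S) (hb : b ∈ S) : a * b = b * a := by
  have h1 : IsMulCommutative S := IsPGroup.isMulCommutative_of_card_eq_prime_sq (p := 3) (by rw [hS]; norm_num)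
  have h2 := h1.is_comm.comm (⟨a, ha⟩ : S) ⟨b, hb⟩
  exact congrArg Subtype.val h2

theorem nine_dvd (hS : Nat.card S = 9) {s : M} (hs : s ∈ S) : 9 ∣ Nat.card (centralizer ({s} : Set M)) := by
  rw [← hS]
  apply Subgroup.card_dvd_of_le
  intro x hx
  rw [mem_centralizer_singleton_iff]
  exact comm9 S hS hx hs

theorem order_dvd (hS : Nat.card S = 9) {s : M} (hs : s ∈ S) : orderOf s ∣ 9 := by
  rw [← hS]; exact Subgroup.orderOf_dvd_natCard S hs

/-- The main count. -/
theorem main (hS : Nat.card S = 9) (h5 : ∀ s ∈ S, s ≠ 1 → ¬ 5 ∣ Nat.card (centralizer ({s} : Set M)))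
    (h7 : ∀ s ∈ S, s ≠ 1 → ¬ 7 ∣ Nat.card (centralizer ({s} : Set M))) (hM : Nat.card M ∣ 2520)
    (hmod : (2520 / Nat.card M) % 3 = 1)
    (h3 : ∀ a b c : M, a ∈ S → b ∈ S → c ∈ S → a ≠ 1 → b ≠ 1 → c ≠ 1 → IsConj a b ∨ IsConj a c ∨ IsConj b c) :
    Nat.card M = 36 ∧ (∀ s ∈ S, s ≠ 1 → centralizer ({s} : Set M) = S) ∧
    ∃ a b : M, a ∈ S ∧ b ∈ S ∧ a ≠ 1 ∧ b ≠ 1 ∧ ¬ IsConj a b := by
  classical
  letI : Fintype M := Fintype.ofFinite M
  set X : Finset M := Finset.univ.filter (fun y => y ∈ S ∧ y ≠ 1) with hX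
  have hmemX : ∀ y, y ∈ X ↔ y ∈ S ∧ y ≠ 1 := fun y => by rw [hX, Finset.mem_filter]; simp
  have hX8 : X.card = 8 := by
    have h1 : X = (Finset.univ.filter (fun y => y ∈ S)).erase 1 := by
      ext y
      rw [hmemX, Finset.mem_erase, Finset.mem_filter]
      constructor
      · rintro ⟨h1, h2⟩; exact ⟨h2, Finset.mem_univ _, h1⟩
      · rintro ⟨h1, -, h2⟩; exact ⟨h2, h1⟩
    rw [h1, Finset.card_erase_of_mem (by rw [Finset.mem_filter]; exact ⟨Finset.mem_univ _, one_mem S⟩)]
    have h2 : (Finset.univ.filter (fun y => y ∈ S)).card = Nat.card S := by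
      rw [Nat.card_eq_fintype_card, Fintype.card_subtype]
    rw [h2, hS]
  set cl : M → Finset M := fun s => Finset.univ.filter (fun y => IsConj s y) with hcl
  have hk : ∀ s, (cl s).card * Nat.card (centralizer ({s} : Set M)) = Nat.card M := by
    intro s
    rw [← card_isConj_mul_card_centralizer s]
    congr 1
    rw [Nat.card_eq_fintype_card, Fintype.card_subtype]
  have hself : ∀ s, s ∈ cl s := fun s => Finset.mem_filter.2 ⟨Finset.mem_univ _, IsConj.refl s⟩
  have hsub : ∀ s ∈ X, cl s ⊆ X := by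
    intro s hs y hy
    rw [hmemX] at hs ⊢
    have hy' : IsConj s y := by rw [hcl] at hy; simpa using hy
    obtain ⟨g, rfl⟩ := isConj_iff.1 hy'
    refine ⟨Subgroup.Normal.conj_mem inferInstance s hs.1 g, ?_⟩
    intro h
    apply hs.2
    have := congrArg (fun y => g⁻¹ * y * g) h
    simpa [mul_assoc] using this
  have hkpos : ∀ s, 0 < (cl s).card := fun s => Finset.card_pos.2 ⟨s, hself s⟩
  have hk8 : ∀ s ∈ X, (cl s).card ≤ 8 := fun s hs => by rw [← hX8]; exact Finset.card_le_card (hsub s hs)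
  have hdisj : ∀ s t, t ∉ cl s → Disjoint (cl s) (cl t) := by
    intro s t hst
    rw [Finset.disjoint_left]
    intro y h1 h2
    apply hst
    have h1' : IsConj s y := by rw [hcl] at h1; simpa using h1
    have h2' : IsConj t y := by rw [hcl] at h2; simpa using h2
    have : IsConj s t := h1'.trans h2'.symm
    rw [hcl]; simpa using this
  have htwo : ∀ s ∈ X, ∀ t ∈ X, t ∉ cl s → (cl s).card + (cl t).card ≤ 8 := by
    intro s hs t ht hst
    rw [← Finset.card_union_of_disjoint (hdisj s t hst), ← hX8]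
    exact Finset.card_le_card (Finset.union_subset (hsub s hs) (hsub t ht))
  have hXne : X.Nonempty := by rw [← Finset.card_pos, hX8]; norm_num
  -- 5 and 7 do not divide |M|
  have hbig : ∀ m : ℕ, 5 ≤ m → ¬ m ∣ 8 → ¬ ∀ s ∈ X, m ∣ (cl s).card := by
    intro m hm hm8 hall
    obtain ⟨s, hs⟩ := hXne
    have h1 := Nat.le_of_dvd (hkpos s) (hall s hs)
    have h2 : cl s ≠ X := by
      intro h2
      have := hall s hs
      rw [h2, hX8] at this
      exact hm8 this
    obtain ⟨t, htX, hts⟩ : ∃ t ∈ X, t ∉ cl s := by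
      by_contra hcon
      push Not at hcon
      exact h2 (Finset.Subset.antisymm (hsub s hs) hcon)
    have h3 := Nat.le_of_dvd (hkpos t) (hall t htX)
    have h4 := htwo s hs t htX hts
    omega
  have hM5 : ¬ 5 ∣ Nat.card M := by
    intro hd
    apply hbig 5 (by norm_num) (by norm_num)
    intro s hs
    have h1 := hk s
    rw [← h1] at hd
    have hs' := (hmemX s).1 hs
    exact ((Nat.Prime.dvd_mul (by norm_num)).1 hd).resolve_right (h5 s hs'.1 hs'.2)
  have hM7 : ¬ 7 ∣ Nat.card M := by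
    intro hd
    apply hbig 7 (by norm_num) (by norm_num)
    intro s hs
    have h1 := hk s
    rw [← h1] at hd
    have hs' := (hmemX s).1 hs
    exact ((Nat.Prime.dvd_mul (by norm_num)).1 hd).resolve_right (h7 s hs'.1 hs'.2)
  have hM72 : Nat.card M ∣ 72 := by
    have h1 : Nat.card M ∣ 72 * 35 := by rw [show 72 * 35 = 2520 by norm_num]; exact hM
    have h4 : Nat.Coprime (Nat.card M) 35 := by
      rw [show 35 = 5 * 7 by norm_num]
      exact Nat.Coprime.mul_right ((Nat.coprime_comm.1 ((Nat.Prime.coprime_iff_not_dvd (by norm_num)).2 hM5)))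
        ((Nat.coprime_comm.1 ((Nat.Prime.coprime_iff_not_dvd (by norm_num)).2 hM7)))
    exact Nat.Coprime.dvd_of_dvd_mul_right h4 h1
  have hM9 : 9 ∣ Nat.card M := by rw [← hS]; exact Subgroup.card_subgroup_dvd_card S
  have hMv : Nat.card M = 9 ∨ Nat.card M = 36 := by
    obtain ⟨j, hj⟩ := hM9
    rw [hj] at hM72 hmod ⊢
    have h8 : j ∣ 8 := by
      obtain ⟨i, hi⟩ := hM72
      exact ⟨i, by rw [mul_assoc] at hi; omega⟩
    have h9 : j ≤ 8 := Nat.le_of_dvd (by norm_num) h8
    interval_cases j <;> revert h8 hmod <;> norm_num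
  have hk4 : ∀ s ∈ X, (cl s).card ≤ 4 := by
    intro s hs
    have h1 := hk s
    have hs' := (hmemX s).1 hs
    obtain ⟨i, hi⟩ := nine_dvd S hS hs'.1
    rw [hi] at h1
    have hi0 : i ≠ 0 := by rintro rfl; rw [mul_zero] at hi; have := Nat.card_pos (α := centralizer ({s} : Set M)); omega
    have h2 : (cl s).card ≤ (cl s).card * i := Nat.le_mul_of_pos_right _ (Nat.pos_of_ne_zero hi0)
    rcases hMv with h3 | h3
    · rw [h3] at h1
      have : (cl s).card * i = 1 := by nlinarith
      omega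
    · rw [h3] at h1
      have : (cl s).card * i = 4 := by nlinarith
      omega
  have hclX : ∀ s ∈ X, (cl s).card = 4 := by
    intro s hs
    by_contra hcon
    have h1 := hk4 s hs
    have h2 : (cl s).card ≤ 3 := by omega
    obtain ⟨t, htX, hts⟩ : ∃ t ∈ X, t ∉ cl s := by
      by_contra hcon
      push Not at hcon
      have := Finset.card_le_card (show X ⊆ cl s from hcon)
      omega
    have h3' := hk4 t htX
    obtain ⟨r, hrX, hrs⟩ : ∃ r ∈ X, r ∉ cl s ∪ cl t := by
      by_contra hcon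
      push Not at hcon
      have h4 := Finset.card_le_card (show X ⊆ cl s ∪ cl t from hcon)
      have h5 := Finset.card_union_le (cl s) (cl t)
      omega
    rw [Finset.mem_union, not_or] at hrs
    have hs' := (hmemX s).1 hs
    have ht' := (hmemX t).1 htX
    have hr' := (hmemX r).1 hrX
    have n1 : ¬ IsConj s t := by intro h; apply hts; rw [hcl]; simpa using h
    have n2 : ¬ IsConj s r := by intro h; apply hrs.1; rw [hcl]; simpa using h
    have n3 : ¬ IsConj t r := by intro h; apply hrs.2; rw [hcl]; simpa using h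
    rcases h3 s t r hs'.1 ht'.1 hr'.1 hs'.2 ht'.2 hr'.2 with h | h | h
    · exact n1 h
    · exact n2 h
    · exact n3 h
  have hM36 : Nat.card M = 36 := by
    rcases hMv with h | h
    · exfalso
      obtain ⟨s, hs⟩ := hXne
      have h1 := hk s
      rw [hclX s hs, h] at h1
      omega
    · exact h
  refine ⟨hM36, ?_, ?_⟩
  · intro s hs hs1
    have hsX : s ∈ X := (hmemX s).2 ⟨hs, hs1⟩
    have h1 := hk s
    rw [hclX s hsX, hM36] at h1
    symm
    apply Subgroup.eq_of_le_of_card_ge
    · intro x hx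
      rw [mem_centralizer_singleton_iff]
      exact comm9 S hS hx hs
    · rw [hS]; omega
  · obtain ⟨s, hs⟩ := hXne
    obtain ⟨t, htX, hts⟩ : ∃ t ∈ X, t ∉ cl s := by
      by_contra hcon
      push Not at hcon
      have := Finset.card_le_card (show X ⊆ cl s from hcon)
      have := hclX s hs
      omega
    have hs' := (hmemX s).1 hs
    have ht' := (hmemX t).1 htX
    refine ⟨s, t, hs'.1, ht'.1, hs'.2, ht'.2, ?_⟩
    intro h; apply hts; rw [hcl]; simpa using h

/-- elements outside are 2-elements, and one of them has order four -/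
theorem four (hS : Nat.card S = 9) (hM : Nat.card M = 36) (hC : ∀ s ∈ S, s ≠ 1 → centralizer ({s} : Set M) = S) :
    (∀ g : M, g ∉ S → orderOf g = 2 ∨ orderOf g = 4) ∧ ∃ g : M, g ∉ S ∧ orderOf g = 4 := by
  classical
  have hidx : S.index = 4 := by
    have := S.card_mul_index
    rw [hS, hM] at this
    omega
  have h1 : ∀ g : M, g ∉ S → g ^ 4 = 1 := by
    intro g hg
    by_contra hcon
    have h2 : g ^ 4 ∈ S := by rw [← hidx]; exact Subgroup.pow_index_mem S g
    have h3 := hC _ h2 hcon
    apply hg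
    rw [← h3, mem_centralizer_singleton_iff]
    exact (Commute.pow_right (Commute.refl g) 4).eq
  have h2 : ∀ g : M, g ∉ S → orderOf g = 2 ∨ orderOf g = 4 := by
    intro g hg
    have h3 : orderOf g ∣ 4 := orderOf_dvd_of_pow_eq_one (h1 g hg)
    have h4 : orderOf g ≤ 4 := Nat.le_of_dvd (by norm_num) h3
    have h5 : orderOf g ≠ 1 := by
      intro h
      rw [orderOf_eq_one_iff] at h
      exact hg (h ▸ one_mem S)
    have h6 : orderOf g ≠ 0 := (orderOf_pos g).ne'
    interval_cases orderOf g <;> simp_all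
  refine ⟨h2, ?_⟩
  by_contra hcon
  push Not at hcon
  have h3 : ∀ g : M, g ∉ S → orderOf g = 2 := fun g hg => (h2 g hg).resolve_right (hcon g hg)
  -- involutions invert S
  have h4 : ∀ g : M, g ∉ S → ∀ s ∈ S, g * s * g⁻¹ = s⁻¹ := by
    intro g hg s hs
    have hgg : g * g = 1 := by rw [← pow_two, ← h3 g hg, pow_orderOf_eq_one]
    have hmem : g * s * g⁻¹ ∈ S := Subgroup.Normal.conj_mem inferInstance s hs g
    have hgi : g⁻¹ = g := inv_eq_of_mul_eq_one_left hgg
    have h5 : s * (g * s * g⁻¹) = 1 := by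
      by_contra hne
      have h6 : s * (g * s * g⁻¹) ∈ S := mul_mem hs hmem
      have h7 := hC _ h6 hne
      apply hg
      rw [← h7, mem_centralizer_singleton_iff]
      rw [hgi]
      calc g * (s * (g * s * g)) = (g * s * g) * (g * g)⁻¹ * (g * g * s * g) := by group
        _ = (g * s * g) * s * g := by rw [hgg]; group
        _ = s * (g * s * g) * g := by
          rw [hgi] at hmem
          rw [comm9 S hS hmem hs]
    exact (inv_eq_of_mul_eq_one_right h5).symm
  have hne : S ≠ ⊤ := by
    intro h; rw [h, Subgroup.card_top, hM] at hS; omega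
  obtain ⟨g, -, hg⟩ := Set.exists_of_ssubset (show (S : Set M) ⊂ Set.univ by
    rw [Set.ssubset_univ_iff]; intro h; apply hne; exact SetLike.coe_injective h)
  have hg' : g ∉ S := hg
  have h5 : ∀ k : M, k ∉ S → g * k ∈ S := by
    intro k hk
    obtain ⟨s, hs, hs1⟩ : ∃ s ∈ S, s ≠ 1 := by
      have h9 : 1 < Nat.card S := by rw [hS]; norm_num
      have : Nontrivial S := Finite.one_lt_card_iff_nontrivial.1 h9
      obtain ⟨s, hs⟩ := exists_ne (1 : S)
      exact ⟨s, s.2, fun h => hs (Subtype.ext h)⟩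
    rw [← hC s hs hs1, mem_centralizer_singleton_iff]
    have e1 := h4 k hk s hs
    have e2 := h4 g hg' s⁻¹ (inv_mem hs)
    rw [inv_inv] at e2
    calc g * k * s = g * (k * s * k⁻¹) * k := by group
      _ = g * s⁻¹ * k := by rw [e1]
      _ = (g * s⁻¹ * g⁻¹) * g * k := by group
      _ = s * (g * k) := by rw [e2]; group
  -- index two
  have h6 : S.index = 2 := by
    rw [Subgroup.index_eq_two_iff]
    refine ⟨g⁻¹, fun b => ?_⟩
    by_cases hb : b ∈ S
    · right
      refine ⟨hb, ?_⟩
      intro hbg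
      apply hg'
      have := (Subgroup.mul_mem_cancel_left S hb).1 hbg
      exact (inv_mem_iff.1 this)
    · left
      refine ⟨?_, hb⟩
      have hbi : b⁻¹ ∉ S := fun h => hb (inv_mem_iff.1 h)
      have := inv_mem (h5 _ hbi)
      simpa using this
  omega

end Cfsg.Agent.Lib.A7Nine
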