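import Mathlib
import Cfsg.Agent.Lib.A7Ctx
import Cfsg.Agent.Lib.A7Nine
import Cfsg.Agent.Lib.ZStarU
import Cfsg.Agent.S0991

/-!
# A simple group of order 2520: a subgroup of index seven (helper54)
-/

set_option autoImplicit false
set_option linter.all false

namespace Cfsg.Agent.Lib.A7Grp

open Cfsg Subgroup Cfsg.Agent.Lib.CharBasic Cfsg.Agent.Lib.SmallSimple Cfsg.Agent.Lib.A7Table
open scoped ComplexConjugate

universe u

variable {G : Type u} [Group G] [Fintype G] (K : A7C G)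

theorem ord_conj {w x : G} (hw : IsConj w x) : orderOf w = orderOf x := by
  obtain ⟨g, hg⟩ := isConj_iff.1 hw
  rw [← hg, show g * w * g⁻¹ = MulAut.conj g w from rfl, MulEquiv.orderOf_eq]

include K in
theorem length_le (L : List G) (hL : L.Pairwise (fun a b => ¬ IsConj a b)) : L.length ≤ 9 := by
  classical
  have h1 : (L.map ConjClasses.mk).Nodup := by
    rw [List.Nodup, List.pairwise_map]
    exact hL.imp fun h h' => h (ConjClasses.mk_eq_mk_iff_isConj.1 h')
  letI : Fintype (ConjClasses G) := Fintype.ofFinite _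
  have h2 := List.Nodup.length_le_card h1
  rw [List.length_map, ← Nat.card_eq_fintype_card, ← card_irr, K.A.card] at h2
  exact h2

include K in
theorem exists_six : ∃ t : G, orderOf t = 6 := by
  have hf2 : orderOf (K.f ^ 2) = 2 := by rw [orderOf_pow' K.f (by norm_num), K.hf]; norm_num
  have hc := K.card2 _ hf2
  haveI : Fact (Nat.Prime 3) := ⟨by norm_num⟩
  obtain ⟨y, hy⟩ := exists_prime_orderOf_dvd_card' (G := centralizer ({K.f ^ 2} : Set G)) 3 (by rw [hc]; norm_num)
  have hy' : orderOf (y : G) = 3 := by rw [Subgroup.orderOf_coe]; exact hy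
  have hcomm : Commute (y : G) (K.f ^ 2) := Subgroup.mem_centralizer_singleton_iff.1 y.2
  refine ⟨y * K.f ^ 2, ?_⟩
  rw [hcomm.orderOf_mul_eq_mul_orderOf_of_coprime (by rw [hy', hf2]; norm_num), hy', hf2]

include K in
theorem three {r1 r2 r3 : G} (h1 : orderOf r1 ∉ ({1, 2, 4, 5, 6, 7} : Set ℕ)) (h2 : orderOf r2 ∉ ({1, 2, 4, 5, 6, 7} : Set ℕ))
    (h3 : orderOf r3 ∉ ({1, 2, 4, 5, 6, 7} : Set ℕ)) (h12 : ¬ IsConj r1 r2) (h13 : ¬ IsConj r1 r3)
    (h23 : ¬ IsConj r2 r3) : False := by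
  obtain ⟨t, ht⟩ := exists_six K
  have hf2 : orderOf (K.f ^ 2) = 2 := by rw [orderOf_pow' K.f (by norm_num), K.hf]; norm_num
  have hne : ∀ a b : G, orderOf a ≠ orderOf b → ¬ IsConj a b := fun a b h h' => h (ord_conj h')
  have hvi : orderOf K.v⁻¹ = 7 := by rw [orderOf_inv, K.hv]
  have ho1 : orderOf (1 : G) = 1 := orderOf_one
  simp only [Set.mem_insert_iff, Set.mem_singleton_iff, not_or] at h1 h2 h3
  have hL := length_le K [1, K.f ^ 2, K.f, K.u, K.v, K.v⁻¹, t, r1, r2, r3] (by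
    have hu := K.hu
    have hv := K.hv
    have hf := K.hf
    simp only [List.pairwise_cons, List.mem_cons, List.not_mem_nil, or_false, forall_eq_or_imp, forall_eq,
      List.Pairwise.nil, and_true, IsEmpty.forall_iff, implies_true]
    refine ⟨⟨?_, ?_, ?_, ?_, ?_, ?_, ?_, ?_, ?_⟩, ⟨?_, ?_, ?_, ?_, ?_, ?_, ?_, ?_⟩, ⟨?_, ?_, ?_, ?_, ?_, ?_, ?_⟩,
      ⟨?_, ?_, ?_, ?_, ?_, ?_⟩, ⟨K.hv2, ?_, ?_, ?_, ?_⟩, ⟨?_, ?_, ?_, ?_⟩, ⟨?_, ?_, ?_⟩, ⟨h12, h13⟩, h23⟩
    all_goals
      apply hne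
      omega)
  simp at hL

variable [IsSimpleGroup G] (hG : ¬ IsMulCommutative G) (h : Nat.card G = 2520)

include K h in
/-- the normalizer of a Sylow 3-subgroup -/
theorem norm3 (S : Sylow 3 G) : Nat.card (S : Subgroup G) = 9 ∧
    Nat.card (normalizer ((S : Subgroup G) : Set G)) = 36 ∧
    (∀ g ∈ normalizer ((S : Subgroup G) : Set G), g ∉ (S : Subgroup G) → orderOf g = 2 ∨ orderOf g = 4) ∧
    (∃ g ∈ normalizer ((S : Subgroup G) : Set G), g ∉ (S : Subgroup G) ∧ orderOf g = 4) ∧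
    ∃ a b : G, a ∈ (S : Subgroup G) ∧ b ∈ (S : Subgroup G) ∧ a ≠ 1 ∧ b ≠ 1 ∧ ¬ IsConj a b := by
  classical
  haveI : Fact (Nat.Prime 3) := ⟨by norm_num⟩
  have hS9 : Nat.card (S : Subgroup G) = 9 := by
    have h1 := S.card_eq_multiplicity
    rw [h] at h1
    have h2 : (2520 : ℕ).factorization 3 = 2 := by
      rw [show (2520 : ℕ) = 3 ^ 2 * 280 by norm_num, Nat.factorization_mul (by norm_num) (by norm_num),
        Nat.Prime.factorization_pow (by norm_num)]
      simp [Nat.factorization_eq_zero_of_not_dvd]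
    rw [h2] at h1
    exact h1
  set N := normalizer ((S : Subgroup G) : Set G) with hN
  have hSN : (S : Subgroup G) ≤ N := Subgroup.le_normalizer
  set S' : Subgroup N := (S : Subgroup G).subgroupOf N with hS'
  have hS'n : S'.Normal := Subgroup.normal_in_normalizer
  have hS'9 : Nat.card S' = 9 := by
    rw [← hS9]
    exact Nat.card_congr (Subgroup.subgroupOfEquivOfLe hSN).toEquiv
  have hmem : ∀ x : N, x ∈ S' ↔ (x : G) ∈ (S : Subgroup G) := fun x => Subgroup.mem_subgroupOf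
  have hord : ∀ x : G, x ∈ (S : Subgroup G) → x ≠ 1 → orderOf x = 3 ∨ orderOf x = 9 := by
    intro x hx hx1
    have h1 : orderOf x ∣ 9 := by rw [← hS9]; exact Subgroup.orderOf_dvd_natCard _ hx
    have h2 : orderOf x ∣ 3 ^ 2 := by norm_num; exact h1
    obtain ⟨k, hk, hk'⟩ := (Nat.dvd_prime_pow (by norm_num)).1 h2
    have hk0 : k ≠ 0 := by rintro rfl; exact hx1 (orderOf_eq_one_iff.1 (by simpa using hk'))
    interval_cases k
    · exact absurd rfl hk0
    · left; simpa using hk'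
    · right; simpa using hk'
  have hcen : ∀ x : N, Nat.card (centralizer ({x} : Set N)) ∣ Nat.card (centralizer ({(x : G)} : Set G)) := by
    intro x
    rw [← Subgroup.card_map_of_injective (K := centralizer ({x} : Set N)) N.subtype_injective]
    apply Subgroup.card_dvd_of_le
    rintro y ⟨z, hz, rfl⟩
    rw [mem_centralizer_singleton_iff]
    have := mem_centralizer_singleton_iff.1 hz
    exact congrArg Subtype.val this
  have hne1 : ∀ x : N, x ≠ 1 → (x : G) ≠ 1 := fun x hx h => hx (Subtype.ext h)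
  have hSc : IsMulCommutative (S : Subgroup G) := IsPGroup.isMulCommutative_of_card_eq_prime_sq (p := 3) (by rw [hS9]; norm_num)
  have hfus : ∀ a b : N, a ∈ S' → b ∈ S' → IsConj (a : G) (b : G) → IsConj a b := by
    intro a b ha hb hab
    obtain ⟨g, hg⟩ := isConj_iff.1 hab
    obtain ⟨n, hn, hn'⟩ := S.conj_eq_normalizer_conj_of_mem (a : G) g⁻¹ ((hmem a).1 ha) (by
      rw [inv_inv, hg]; exact (hmem b).1 hb)
    rw [isConj_iff]
    refine ⟨⟨n⁻¹, N.inv_mem hn⟩, ?_⟩
    apply Subtype.ext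
    have e1 : (g⁻¹)⁻¹ * (a : G) * g⁻¹ = (b : G) := by rw [inv_inv, hg]
    rw [e1] at hn'
    rw [hn']
    change n⁻¹ * (a : G) * (n⁻¹)⁻¹ = n⁻¹ * a * n
    rw [inv_inv]
  have hn3 := card_sylow_modEq_one 3 G
  rw [S.card_eq_index_normalizer] at hn3
  have hidx := N.card_mul_index
  rw [h] at hidx
  have hmain := A7Nine.main S' hS'9 (by
      intro s hs hs1 hd
      have h1 := hord _ ((hmem s).1 hs) (hne1 s hs1)
      exact K.n5 (s : G) (hne1 s hs1) (by rcases h1 with h1 | h1 <;> rw [h1] <;> norm_num) (hd.trans (hcen s)))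
    (by
      intro s hs hs1 hd
      have h1 := hord _ ((hmem s).1 hs) (hne1 s hs1)
      exact K.n7 (s : G) (hne1 s hs1) (by rcases h1 with h1 | h1 <;> rw [h1] <;> norm_num) (hd.trans (hcen s)))
    (Dvd.intro _ hidx) (by
      have h1 : 2520 / Nat.card N = N.index := by
        rw [← hidx]; exact Nat.mul_div_cancel_left _ Nat.card_pos
      rw [h1]
      exact hn3) (by
      intro a b c ha hb hc ha1 hb1 hc1
      by_contra hcon
      push Not at hcon
      obtain ⟨e1, e2, e3⟩ := hcon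
      have h1 := hord _ ((hmem a).1 ha) (hne1 a ha1)
      have h2 := hord _ ((hmem b).1 hb) (hne1 b hb1)
      have h3 := hord _ ((hmem c).1 hc) (hne1 c hc1)
      exact three K (r1 := a) (r2 := b) (r3 := c) (by rcases h1 with h1 | h1 <;> rw [h1] <;> simp)
        (by rcases h2 with h1 | h1 <;> rw [h1] <;> simp) (by rcases h3 with h1 | h1 <;> rw [h1] <;> simp)
        (fun h => e1 (hfus a b ha hb h)) (fun h => e2 (hfus a c ha hc h)) (fun h => e3 (hfus b c hb hc h)))
  obtain ⟨hM, hC, a, b, ha, hb, ha1, hb1, hab⟩ := hmain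
  obtain ⟨h4, g, hg, hg4⟩ := A7Nine.four S' hS'9 hM hC
  refine ⟨hS9, hM, ?_, ⟨g, g.2, fun h => hg ((hmem g).2 h), by rw [Subgroup.orderOf_coe]; exact hg4⟩,
    ⟨a, b, (hmem a).1 ha, (hmem b).1 hb, hne1 a ha1, hne1 b hb1, fun h => hab (hfus a b ha hb h)⟩⟩
  intro x hx hxS
  have := h4 ⟨x, hx⟩ (fun h => hxS ((hmem _).1 h))
  rwa [← Subgroup.orderOf_coe] at this

include K h in
/-- no elements of order eight -/
theorem no_eight {g : G} (hg : orderOf g = 8) : False := by
  classical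
  obtain ⟨S⟩ : Nonempty (Sylow 3 G) := inferInstance
  obtain ⟨hS9, -, -, -, a, b, ha, hb, ha1, hb1, hab⟩ := norm3 K h S
  have hord : ∀ x : G, x ∈ (S : Subgroup G) → x ≠ 1 → orderOf x = 3 ∨ orderOf x = 9 := by
    intro x hx hx1
    have h1 : orderOf x ∣ 9 := by rw [← hS9]; exact Subgroup.orderOf_dvd_natCard _ hx
    have h2 : orderOf x ∣ 3 ^ 2 := by norm_num; exact h1
    obtain ⟨k, hk, hk'⟩ := (Nat.dvd_prime_pow (by norm_num)).1 h2
    have hk0 : k ≠ 0 := by rintro rfl; exact hx1 (orderOf_eq_one_iff.1 (by simpa using hk'))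
    interval_cases k
    · exact absurd rfl hk0
    · left; simpa using hk'
    · right; simpa using hk'
  have h1 := hord a ha ha1
  have h2 := hord b hb hb1
  have hne : ∀ a b : G, orderOf a ≠ orderOf b → ¬ IsConj a b := fun a b h h' => h (ord_conj h')
  exact three K (r1 := a) (r2 := b) (r3 := g) (by rcases h1 with h1 | h1 <;> rw [h1] <;> simp)
    (by rcases h2 with h1 | h1 <;> rw [h1] <;> simp) (by rw [hg]; simp) hab
    (hne _ _ (by rcases h1 with h1 | h1 <;> rw [h1, hg] <;> norm_num))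
    (hne _ _ (by rcases h2 with h1 | h1 <;> rw [h1, hg] <;> norm_num))

include hG in
/-- a second involution in a Sylow 2-subgroup -/
theorem second_invol (T : Sylow 2 G) {v : G} (hv : v ∈ (T : Subgroup G)) (hv2 : orderOf v = 2) :
    ∃ s ∈ (T : Subgroup G), orderOf s = 2 ∧ s ≠ v := by
  by_contra hcon
  push Not at hcon
  have hz := Cfsg.Agent.Lib.ZStarU.inZStar_of_sylow T hv (by
    intro g hg
    apply hcon _ hg
    rw [show g * v * g⁻¹ = MulAut.conj g v from rfl, MulEquiv.orderOf_eq, hv2])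
  have hcore : pPrimeCore 2 G = ⊥ := by
    have hn : (pPrimeCore 2 G).Normal := inferInstance
    rcases IsSimpleGroup.eq_bot_or_eq_top_of_normal _ hn with h | h
    · exact h
    · exfalso
      rw [Cfsg.Agent.Lib.Cores.pPrimeCore_eq_top_iff] at h
      have h10 : orderOf v ∣ Nat.card G := orderOf_dvd_natCard v
      rw [hv2] at h10
      have := Nat.Coprime.eq_one_of_dvd h.symm h10
      norm_num at this
  have hcen : v ∈ center G := by
    rw [mem_center_iff]
    intro g
    have h1 := hz g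
    rw [hcore, Subgroup.mem_bot] at h1
    calc g * v = (g * v * g⁻¹ * v⁻¹) * (v * g) := by group
      _ = v * g := by rw [h1, one_mul]
  rw [SimpleDeg.center_eq_bot (G := G) (fun h => hG ⟨⟨h⟩⟩), Subgroup.mem_bot] at hcen
  rw [hcen, orderOf_one] at hv2
  norm_num at hv2

end Cfsg.Agent.Lib.A7Grp
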