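import Mathlib
import Cfsg.Agent.Lib.A7Grp

/-!
# A simple group of order 2520: a common fixed vector (helper54)
-/

set_option autoImplicit false
set_option linter.all false

namespace Cfsg.Agent.Lib.A7Fix

open Cfsg Subgroup Cfsg.Agent.Lib.CharBasic Cfsg.Agent.Lib.SmallSimple Cfsg.Agent.Lib.A7Table Cfsg.Agent.Lib.A7Grp
open Representation Module Cfsg.Agent.Lib.BlockThird Cfsg.Agent.Lib.DefOnePrin Cfsg.Agent.Lib.PBData
open scoped ComplexConjugate

universe u

section

variable {G : Type u} [Group G] [Fintype G]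

open scoped Classical in
/-- elements of a subgroup -/
noncomputable def F (H : Subgroup G) : Finset G := Finset.univ.filter (fun x => x ∈ H)

theorem mem_F {H : Subgroup G} {x : G} : x ∈ F H ↔ x ∈ H := by
  classical
  rw [F, Finset.mem_filter]; simp

theorem card_F (H : Subgroup G) : (F H).card = Nat.card H := by
  classical
  rw [F, Nat.card_eq_fintype_card, Fintype.card_subtype]

/-- the fixed space -/
noncomputable def Inv {V : Type*} [AddCommGroup V] [Module ℂ V] (ρ : Representation ℂ G V) (H : Subgroup G) : Submodule ℂ V :=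
  invariants (ρ.comp H.subtype)

theorem mem_Inv {V : Type*} [AddCommGroup V] [Module ℂ V] (ρ : Representation ℂ G V) (H : Subgroup G) (v : V) :
    v ∈ Inv ρ H ↔ ∀ g ∈ H, ρ g v = v := by
  rw [Inv, mem_invariants]
  constructor
  · intro h g hg; exact h ⟨g, hg⟩
  · intro h g; exact h g g.2

theorem sum_F {V : Type*} [AddCommGroup V] [Module ℂ V] [FiniteDimensional ℂ V] (ρ : Representation ℂ G V)
    (H : Subgroup G) : ∑ x ∈ F H, ρ.character x = Nat.card H * finrank ℂ (Inv ρ H) := by
  classical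
  letI : Fintype H := Fintype.ofFinite _
  rw [Inv, ← ColTools.sum_subgroup ρ H]
  rw [Finset.sum_subtype (F H) (p := fun x => x ∈ H) (fun x => mem_F)]

end

variable {G : Type u} [Group G] [Fintype G] (K : A7C G)

open scoped Classical in
/-- the number of involutions -/
noncomputable def nI (s : Finset G) : ℕ := (s.filter (fun x => orderOf x = 2)).card

theorem sum_val (s : Finset G) (hs : ∀ x ∈ s, orderOf x = 2 ∨ orderOf x = 4) :
    ∑ x ∈ s, (K.A.c6 : G → ℂ) x = ((2 * nI s : ℕ) : ℂ) := by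
  classical
  have h1 : ∀ x ∈ s, (K.A.c6 : G → ℂ) x = if orderOf x = 2 then 2 else 0 := by
    intro x hx
    rcases hs x hx with h | h
    · rw [if_pos h, K.val2 x h]
    · rw [if_neg (by rw [h]; norm_num), K.val4 x h]
  rw [Finset.sum_congr rfl h1, ← Finset.sum_filter, Finset.sum_const, nI, nsmul_eq_mul]
  push_cast; ring

theorem c6_one : (K.A.c6 : G → ℂ) 1 = 6 := by
  rw [← BlockDeg.charDegree_cast_irr, K.A.d6]; norm_num

theorem sum_two (H : Subgroup G) (hH : ∀ x ∈ H, x ≠ 1 → orderOf x = 2 ∨ orderOf x = 4) :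
    ∑ x ∈ F H, (K.A.c6 : G → ℂ) x = ((6 + 2 * nI (F H) : ℕ) : ℂ) := by
  classical
  have h1 : (1 : G) ∈ F H := mem_F.2 (one_mem H)
  rw [← Finset.add_sum_erase _ _ h1, sum_val K _ (by
    intro x hx
    rw [Finset.mem_erase, mem_F] at hx
    exact hH x hx.2 hx.1), c6_one]
  have h2 : nI ((F H).erase 1) = nI (F H) := by
    rw [nI, nI]
    congr 1
    ext x
    rw [Finset.mem_filter, Finset.mem_filter, Finset.mem_erase]
    constructor
    · rintro ⟨⟨-, h3⟩, h4⟩; exact ⟨h3, h4⟩
    · rintro ⟨h3, h4⟩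
      refine ⟨⟨?_, h3⟩, h4⟩
      rintro rfl
      rw [orderOf_one] at h4; norm_num at h4
  rw [h2]; push_cast; ring

/-- bound for the number of involutions -/
theorem nI_le (H : Subgroup G) {f : G} (hf : f ∈ H) (hf4 : orderOf f = 4) : nI (F H) + 3 ≤ Nat.card H := by
  classical
  have hfi : f ≠ f⁻¹ := by
    intro h
    have : f ^ 2 = 1 := by rw [pow_two]; nth_rewrite 1 [h]; group
    have := orderOf_dvd_of_pow_eq_one this
    rw [hf4] at this; norm_num at this
  have hf1 : f ≠ 1 := by rintro rfl; rw [orderOf_one] at hf4; norm_num at hf4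
  have hsub : ({1, f, f⁻¹} : Finset G) ⊆ F H := by
    intro x hx
    simp only [Finset.mem_insert, Finset.mem_singleton] at hx
    rw [mem_F]
    rcases hx with rfl | rfl | rfl
    · exact one_mem H
    · exact hf
    · exact inv_mem hf
  have hcard : ({1, f, f⁻¹} : Finset G).card = 3 := by
    rw [Finset.card_insert_of_notMem, Finset.card_pair hfi]
    simp only [Finset.mem_insert, Finset.mem_singleton, not_or]
    exact ⟨hf1.symm, fun h => hf1 (by rw [← inv_inv f, ← h, inv_one])⟩
  have h1 : (F H).filter (fun x => orderOf x = 2) ⊆ F H \ {1, f, f⁻¹} := by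
    intro x hx
    rw [Finset.mem_filter] at hx
    rw [Finset.mem_sdiff]
    refine ⟨hx.1, ?_⟩
    simp only [Finset.mem_insert, Finset.mem_singleton, not_or]
    refine ⟨?_, ?_, ?_⟩
    · rintro rfl; rw [orderOf_one] at hx; norm_num at hx
    · rintro rfl; rw [hf4] at hx; norm_num at hx
    · rintro rfl; rw [orderOf_inv, hf4] at hx; norm_num at hx
  have h2 := Finset.card_le_card h1
  rw [Finset.card_sdiff_of_subset hsub, hcard, card_F] at h2
  have h3 : 3 ≤ Nat.card H := by rw [← hcard, ← card_F]; exact Finset.card_le_card hsub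
  rw [nI]; omega

variable [IsSimpleGroup G] (hG : ¬ IsMulCommutative G) (h : Nat.card G = 2520)

include hG h in
theorem exists_sub : ∃ (S : Sylow 3 G) (X : Subgroup G), X ≠ ⊤ ∧ normalizer ((S : Subgroup G) : Set G) ≤ X ∧
    8 ∣ Nat.card X ∧ Nat.card (S : Subgroup G) = 9 ∧ Nat.card (normalizer ((S : Subgroup G) : Set G)) = 36 := by
  classical
  obtain ⟨K⟩ := exists_A7C hG h
  haveI : Fact (Nat.Prime 3) := ⟨by norm_num⟩
  obtain ⟨S⟩ : Nonempty (Sylow 3 G) := inferInstance
  obtain ⟨hS9, hN36, hout, ⟨f, hfN, hfS, hf4⟩, -⟩ := norm3 K h S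
  set N := normalizer ((S : Subgroup G) : Set G) with hN
  obtain ⟨m, ρ, hρ, hρχ⟩ := K.A.c6.2
  have hSN : (S : Subgroup G) ≤ N := Subgroup.le_normalizer
  -- the normalizer
  have hdN : 0 < finrank ℂ (Inv ρ N) := by
    have h1 := sum_F ρ N
    have h2 := sum_F ρ (S : Subgroup G)
    rw [hρχ] at h1 h2
    have h3 : F (S : Subgroup G) ⊆ F N := fun x hx => mem_F.2 (hSN (mem_F.1 hx))
    rw [← Finset.sum_sdiff h3, h2, sum_val K _ (by
      intro x hx
      rw [Finset.mem_sdiff, mem_F, mem_F] at hx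
      exact hout x hx.1 hx.2), hN36, hS9] at h1
    have h4 : 2 * nI (F N \ F (S : Subgroup G)) + 9 * finrank ℂ (Inv ρ (S : Subgroup G)) = 36 * finrank ℂ (Inv ρ N) := by
      exact_mod_cast h1
    have h5 : 0 < nI (F N \ F (S : Subgroup G)) := by
      rw [nI, Finset.card_pos]
      refine ⟨f ^ 2, ?_⟩
      have hf2 : orderOf (f ^ 2) = 2 := by rw [orderOf_pow' f (by norm_num), hf4]; norm_num
      rw [Finset.mem_filter, Finset.mem_sdiff, mem_F, mem_F]
      refine ⟨⟨pow_mem hfN 2, ?_⟩, hf2⟩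
      intro hmem
      have := Subgroup.orderOf_dvd_natCard _ hmem
      rw [hf2, hS9] at this
      norm_num at this
    omega
  -- the cyclic group
  have hf2 : orderOf (f ^ 2) = 2 := by rw [orderOf_pow' f (by norm_num), hf4]; norm_num
  have hcard4 : Nat.card (zpowers f) = 4 := by rw [Nat.card_zpowers, hf4]
  have hdvd4 : ∀ x ∈ zpowers f, x ≠ 1 → orderOf x = 2 ∨ orderOf x = 4 := by
    intro x hx hx1
    have h1 : orderOf x ∣ 4 := by rw [← hcard4]; exact Subgroup.orderOf_dvd_natCard _ hx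
    have h2 : orderOf x ∣ 2 ^ 2 := by norm_num; exact h1
    obtain ⟨k, hk, hk'⟩ := (Nat.dvd_prime_pow (by norm_num)).1 h2
    have hk0 : k ≠ 0 := by rintro rfl; exact hx1 (orderOf_eq_one_iff.1 (by simpa using hk'))
    interval_cases k
    · exact absurd rfl hk0
    · left; simpa using hk'
    · right; simpa using hk'
  have hd4 : finrank ℂ (Inv ρ (zpowers f)) = 2 := by
    have h1 := sum_F ρ (zpowers f)
    rw [hρχ, sum_two K _ hdvd4, hcard4] at h1
    have h2 : 6 + 2 * nI (F (zpowers f)) = 4 * finrank ℂ (Inv ρ (zpowers f)) := by exact_mod_cast h1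
    have h3 := nI_le (zpowers f) (mem_zpowers f) hf4
    rw [hcard4] at h3
    have h4 : 0 < nI (F (zpowers f)) := by
      rw [nI, Finset.card_pos]
      exact ⟨f ^ 2, Finset.mem_filter.2 ⟨mem_F.2 (pow_mem (mem_zpowers f) 2), hf2⟩⟩
    omega
  -- the Sylow 2-subgroup
  have hpg : IsPGroup 2 (zpowers f) := by
    apply IsPGroup.of_card (n := 2)
    rw [hcard4]; norm_num
  obtain ⟨T, hT⟩ := hpg.exists_le_sylow
  have hfT : f ∈ (T : Subgroup G) := hT (mem_zpowers f)
  have hT8 : Nat.card (T : Subgroup G) = 8 := by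
    have h1 := T.card_eq_multiplicity
    rw [h] at h1
    have h2 : (2520 : ℕ).factorization 2 = 3 := by
      rw [show (2520 : ℕ) = 2 ^ 3 * 315 by norm_num, Nat.factorization_mul (by norm_num) (by norm_num),
        Nat.Prime.factorization_pow (by norm_num)]
      simp [Nat.factorization_eq_zero_of_not_dvd]
    rw [h2] at h1
    exact h1
  have hdvd8 : ∀ x ∈ (T : Subgroup G), x ≠ 1 → orderOf x = 2 ∨ orderOf x = 4 := by
    intro x hx hx1
    have h1 : orderOf x ∣ 8 := by rw [← hT8]; exact Subgroup.orderOf_dvd_natCard _ hx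
    have h2 : orderOf x ∣ 2 ^ 3 := by norm_num; exact h1
    obtain ⟨k, hk, hk'⟩ := (Nat.dvd_prime_pow (by norm_num)).1 h2
    have hk0 : k ≠ 0 := by rintro rfl; exact hx1 (orderOf_eq_one_iff.1 (by simpa using hk'))
    interval_cases k
    · exact absurd rfl hk0
    · left; simpa using hk'
    · right; simpa using hk'
    · exact (no_eight K h (by simpa using hk')).elim
  obtain ⟨s, hsT, hs2, hsf⟩ := second_invol hG T (pow_mem hfT 2) hf2
  have hd8 : finrank ℂ (Inv ρ (T : Subgroup G)) = 2 := by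
    have h1 := sum_F ρ (T : Subgroup G)
    rw [hρχ, sum_two K _ hdvd8, hT8] at h1
    have h2 : 6 + 2 * nI (F (T : Subgroup G)) = 8 * finrank ℂ (Inv ρ (T : Subgroup G)) := by exact_mod_cast h1
    have h3 := nI_le (T : Subgroup G) hfT hf4
    rw [hT8] at h3
    have h4 : 2 ≤ nI (F (T : Subgroup G)) := by
      rw [nI]
      refine le_trans (le_of_eq (Finset.card_pair hsf).symm) (Finset.card_le_card ?_)
      intro x hx
      rw [Finset.mem_insert, Finset.mem_singleton] at hx
      rcases hx with rfl | rfl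
      · exact Finset.mem_filter.2 ⟨mem_F.2 hsT, hs2⟩
      · exact Finset.mem_filter.2 ⟨mem_F.2 (pow_mem hfT 2), hf2⟩
    omega
  have hmono : ∀ H L : Subgroup G, H ≤ L → Inv ρ L ≤ Inv ρ H := by
    intro H L hHL v hv
    rw [mem_Inv] at hv ⊢
    exact fun g hg => hv g (hHL hg)
  have hTf : Inv ρ (T : Subgroup G) = Inv ρ (zpowers f) :=
    Submodule.eq_of_le_of_finrank_eq (hmono _ _ hT) (by rw [hd8, hd4])
  have hNf : Inv ρ N ≤ Inv ρ (T : Subgroup G) := by
    rw [hTf]
    exact hmono _ _ (by rw [Subgroup.zpowers_le]; exact hfN)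
  obtain ⟨v, hvN, hv0⟩ : ∃ v ∈ Inv ρ N, v ≠ 0 := by
    apply Submodule.exists_mem_ne_zero_of_ne_bot
    intro hbot
    rw [hbot, finrank_bot] at hdN
    exact lt_irrefl _ hdN
  have hvT := hNf hvN
  rw [mem_Inv] at hvN hvT
  let X : Subgroup G :=
    { carrier := {g | ρ g v = v}
      one_mem' := by change ρ 1 v = v; rw [map_one]; rfl
      mul_mem' := by
        intro a b ha hb
        change ρ (a * b) v = v
        rw [map_mul, Module.End.mul_apply, show ρ b v = v from hb, show ρ a v = v from ha]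
      inv_mem' := by
        intro a ha
        change ρ a⁻¹ v = v
        have h1 : ρ a v = v := ha
        conv_lhs => rw [← h1]
        rw [← Module.End.mul_apply, ← map_mul, inv_mul_cancel, map_one]; rfl }
  refine ⟨S, X, ?_, fun g hg => hvN g hg, ?_, hS9, hN36⟩
  · intro htop
    have h1 : v ∈ Inv ρ (⊤ : Subgroup G) := by
      rw [mem_Inv]
      intro g _
      have : g ∈ X := by rw [htop]; trivial
      exact this
    have h2 := sum_F ρ (⊤ : Subgroup G)
    have h3 : F (⊤ : Subgroup G) = Finset.univ := by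
      ext x; rw [mem_F]; simp
    have h4 : ∑ x : G, (K.A.c6 : G → ℂ) x = 0 := by
      have hne : K.A.c6 ≠ triv G := ne_triv_of K.A.d6 (by norm_num)
      have h5 := IsIrrCharacter.classInner_eq_zero K.A.c6.2 (triv G).2 (fun h => hne (Subtype.ext h))
      rw [classInner_def] at h5
      have hG0 : (Nat.card G : ℂ) ≠ 0 := by exact_mod_cast Nat.card_pos.ne'
      have h6 := (mul_eq_zero.1 h5).resolve_left (inv_ne_zero hG0)
      rw [← h6]
      refine Finset.sum_congr rfl fun x _ => ?_
      change _ = (K.A.c6 : G → ℂ) x * conj (1 : ℂ)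
      rw [map_one, mul_one]
    rw [hρχ, h3, h4] at h2
    have h5 : (Nat.card (⊤ : Subgroup G) : ℂ) ≠ 0 := by exact_mod_cast Nat.card_pos.ne'
    have h6 := (mul_eq_zero.1 h2.symm).resolve_left h5
    have h7 : finrank ℂ (Inv ρ (⊤ : Subgroup G)) = 0 := by exact_mod_cast h6
    rw [Submodule.finrank_eq_zero] at h7
    rw [h7, Submodule.mem_bot] at h1
    exact hv0 h1
  · rw [← hT8]
    exact Subgroup.card_dvd_of_le (fun g hg => hvT g hg)

end Cfsg.Agent.Lib.A7Fix
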