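import Cfsg.Agent.Lib.A8Mod

set_option autoImplicit false
set_option linter.all false
set_option maxRecDepth 100000

/-! Involutions of `A8`. -/

namespace Cfsg.Agent.Lib.A8Mod

open Equiv Equiv.Perm

/-- the cycle type of an involution -/
theorem ct_inv {x : Perm (Fin 8)} (h2 : x * x = 1) (h1 : x ≠ 1) : ∃ n, 0 < n ∧ x.cycleType = Multiset.replicate n 2 ∧
    x.support.card = 2 * n := by
  have ho : orderOf x = 2 := orderOf_eq_prime (by rw [pow_two]; exact h2) h1
  obtain ⟨n, hn⟩ := cycleType_prime_order (σ := x) (by rw [ho]; norm_num)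
  rw [ho] at hn
  refine ⟨n + 1, Nat.succ_pos _, hn, ?_⟩
  rw [← sum_cycleType, hn, Multiset.sum_replicate, smul_eq_mul, mul_comm]

theorem conj_fix {x z o : Perm (Fin 8)} (hx : sign x = 1) (h : x.cycleType = z.cycleType) (ho : sign o = -1)
    (hoz : o * z = z * o) : ∃ g : Perm (Fin 8), sign g = 1 ∧ g * z * g⁻¹ = x := by
  obtain ⟨g, hg⟩ := isConj_iff.1 (isConj_iff_cycleType_eq.2 h.symm)
  rcases Int.units_eq_one_or (sign g) with h1 | h1
  · exact ⟨g, h1, hg⟩
  · refine ⟨g * o, by rw [Perm.sign_mul, h1, ho]; rfl, ?_⟩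
    rw [← hg]
    calc g * o * z * (g * o)⁻¹ = g * (o * z) * o⁻¹ * g⁻¹ := by group
      _ = g * (z * o) * o⁻¹ * g⁻¹ := by rw [hoz]
      _ = g * z * g⁻¹ := by group

theorem ps_type : ps.cycleType = Multiset.replicate 4 2 := by
  obtain ⟨n, -, h1, h2⟩ := ct_inv (x := ps) (by decide +kernel) (by decide +kernel)
  have : ps.support.card = 8 := by decide +kernel
  rw [this] at h2
  have hn : n = 4 := by omega
  rw [h1, hn]

theorem pac_type : (pa * pc).cycleType = Multiset.replicate 2 2 := by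
  obtain ⟨n, -, h1, h2⟩ := ct_inv (x := pa * pc) (by decide +kernel) (by decide +kernel)
  have : (pa * pc).support.card = 4 := by decide +kernel
  rw [this] at h2
  have hn : n = 2 := by omega
  rw [h1, hn]

theorem odd_sign {n : ℕ} {x : Perm (Fin 8)} (h : x.cycleType = Multiset.replicate n 2) (hs : sign x = 1) : Even n := by
  rw [sign_of_cycleType, h, Multiset.sum_replicate, Multiset.card_replicate, smul_eq_mul] at hs
  by_contra hne
  rw [Nat.not_even_iff_odd] at hne
  have h1 : Odd (n * 2 + n) := by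
    obtain ⟨m, rfl⟩ := hne
    exact ⟨3 * m + 1, by ring⟩
  rw [h1.neg_one_pow] at hs
  exact absurd hs (by decide)

/-- the two classes -/
theorem class_fpf {x : A8} (h2 : (x : Perm (Fin 8)) * x = 1) (h : ∀ i, (x : Perm (Fin 8)) i ≠ i) : ∃ g : A8, g * sE * g⁻¹ = x := by
  have h1 : (x : Perm (Fin 8)) ≠ 1 := by
    intro h1
    exact h 0 (by rw [h1]; rfl)
  obtain ⟨n, -, h3, h4⟩ := ct_inv h2 h1
  have h5 : (x : Perm (Fin 8)).support = Finset.univ := by
    ext i; simpa using h i
  rw [h5, Finset.card_univ, Fintype.card_fin] at h4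
  have hn : n = 4 := by omega
  have hx := mem_alternatingGroup.1 x.2
  obtain ⟨g, hg, hgx⟩ := conj_fix (z := ps) (o := swap 0 1) hx (by rw [h3, hn, ps_type]) (by decide +kernel) (by decide +kernel)
  exact ⟨⟨g, mem_alternatingGroup.2 hg⟩, Subtype.ext hgx⟩

theorem class_not {x : A8} (h2 : (x : Perm (Fin 8)) * x = 1) (h1 : x ≠ 1) {i : Fin 8} (h : (x : Perm (Fin 8)) i = i) :
    ∃ g : A8, g * (aE * cE) * g⁻¹ = x := by
  have h1 : (x : Perm (Fin 8)) ≠ 1 := fun h => h1 (Subtype.ext h)
  obtain ⟨n, hn0, h3, h4⟩ := ct_inv h2 h1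
  have h5 : (x : Perm (Fin 8)).support.card < 8 := by
    have h6 : (x : Perm (Fin 8)).support ⊂ Finset.univ := by
      rw [Finset.ssubset_univ_iff]
      intro h7
      have : i ∈ (x : Perm (Fin 8)).support := by rw [h7]; exact Finset.mem_univ i
      exact (mem_support.1 this) h
    have := Finset.card_lt_card h6
    simpa using this
  have hx := mem_alternatingGroup.1 x.2
  have hev := odd_sign h3 hx
  have hn : n = 2 := by
    obtain ⟨m, rfl⟩ := hev
    omega
  obtain ⟨g, hg, hgx⟩ := conj_fix (z := pa * pc) (o := swap 4 5) hx (by rw [h3, hn, pac_type]) (by decide +kernel) (by decide +kernel)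
  exact ⟨⟨g, mem_alternatingGroup.2 hg⟩, Subtype.ext hgx⟩

theorem sE_fpf : ∀ i, (sE : Perm (Fin 8)) i ≠ i := by
  show ∀ i, ps i ≠ i
  decide +kernel

end Cfsg.Agent.Lib.A8Mod
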