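import Cfsg.Agent.Lib.A8Mod

set_option autoImplicit false
set_option linter.all false
set_option maxRecDepth 100000

/-! The presentation of `A8`. -/

namespace Cfsg.Agent.Lib.M12A

open Cfsg.Agent.Lib.H10Enum Cfsg.Agent.Lib.M12Tab Cfsg.Agent.Lib.M12DataA Cfsg.Agent.Lib.JTw Cfsg.Agent.Lib.J2Pres
open Cfsg.Agent.Lib.M12B (allB allB_spec exB exB_spec memB memB_iff)

section
variable {G : Type*} [Group G] {s a b c d p t y w : G}

theorem Rel.v_cm (h : Rel s a b c d p t) {i j : ℕ} (hi : i < 192) (hj : j < 192) :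
    v s a b c d p t (cm i j) = v s a b c d p t i * v s a b c d p t j * (v s a b c d p t i)⁻¹ * (v s a b c d p t j)⁻¹ := by
  have hlt : ∀ {i j : ℕ}, i < 192 → j < 192 → mm i j < 192 := fun hi hj => (h.table _ hi _ hj).1
  unfold cm
  rw [h.v_mm (hlt (hlt hi hj) (iv_spec hi).1) (iv_spec hj).1, h.v_mm (hlt hi hj) (iv_spec hi).1, h.v_mm hi hj,
    h.v_iv hi, h.v_iv hj]

theorem Rel.ne_one (h : Rel s a b c d p t) (s1 : s ≠ 1) {k : ℕ} (hk : k < 192) (h0 : k ≠ 0) : v s a b c d p t k ≠ 1 := by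
  intro h'
  have hlt : ∀ {i j : ℕ}, i < 192 → j < 192 → mm i j < 192 := fun hi hj => (h.table _ hi _ hj).1
  have cm_lt : ∀ {i j : ℕ}, i < 192 → j < 192 → cm i j < 192 := fun hi hj =>
    hlt (hlt (hlt hi hj) (iv_spec hi).1) (iv_spec hj).1
  have v1 : v s a b c d p t 1 = s := h.v_gen.1
  have hw := allB_spec 192 wit_ok k hk
  rw [Bool.or_eq_true, Bool.or_eq_true, Bool.and_eq_true, Bool.and_eq_true, Bool.or_eq_true] at hw
  rcases hw with hw | hw | ⟨h1, h2, hw⟩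
  · exact h0 (Nat.eq_of_beq_eq_true hw)
  · rw [Nat.eq_of_beq_eq_true hw, v1] at h'; exact s1 h'
  · have l1 : e8 w1 k < 192 := Nat.lt_of_lt_of_le (Nat.lt_succ_self _) (Nat.le_of_ble_eq_true h1)
    have l2 : e8 w2 k < 192 := Nat.lt_of_lt_of_le (Nat.lt_succ_self _) (Nat.le_of_ble_eq_true h2)
    have e1 := h.v_cm hk l1
    have e2 := h.v_cm (cm_lt hk l1) l2
    rw [h'] at e1
    have e3 : v s a b c d p t (cm k (e8 w1 k)) = 1 := by rw [e1]; group
    rw [e3] at e2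
    have e4 : v s a b c d p t (cm (cm k (e8 w1 k)) (e8 w2 k)) = 1 := by rw [e2]; group
    rcases hw with hw | hw
    · rw [Nat.eq_of_beq_eq_true hw, v1] at e3; exact s1 e3
    · rw [Nat.eq_of_beq_eq_true hw, v1] at e4; exact s1 e4

theorem Rel.inj (h : Rel s a b c d p t) (s1 : s ≠ 1) {i j : ℕ} (hi : i < 192) (hj : j < 192)
    (he : v s a b c d p t i = v s a b c d p t j) : i = j := by
  have h1 : v s a b c d p t (mm (iv i) j) = 1 := by rw [h.v_mm (iv_spec hi).1 hj, h.v_iv hi, he, inv_mul_cancel]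
  have h2 : mm (iv i) j = 0 := by
    by_contra h0
    exact h.ne_one s1 (h.table _ (iv_spec hi).1 _ hj).1 h0 h1
  have h3 : ∀ i' < 192, ∀ j' < 192, mm (iv i') j' = 0 → i' = j' := by
    have : allB (fun i' => allB (fun j' => cond (Nat.beq (mm (iv i') j') 0) (Nat.beq i' j') true) 192) 192 = true := by
      decide +kernel
    intro i' hi' j' hj' h4
    have h5 := allB_spec 192 (allB_spec 192 this i' hi') j' hj'
    rw [h4] at h5
    exact Nat.eq_of_beq_eq_true h5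
  exact h3 i hi j hj h2

theorem Rel.card7 (h : Rel s a b c d p t) (s1 : s ≠ 1) : Nat.card (H7 s a b c d p t) = 192 := by
  obtain ⟨hf, hc⟩ := h.bound7
  apply le_antisymm hc
  let f : Fin 192 → H7 s a b c d p t := fun i => ⟨v s a b c d p t i, h.v_mem i i.2⟩
  have hf : Function.Injective f := fun i j h' => Fin.ext (h.inj s1 i.2 j.2 (congrArg Subtype.val h'))
  have := Nat.card_le_card_of_injective f hf
  simpa using this

end

end Cfsg.Agent.Lib.M12A

namespace Cfsg.Agent.Lib.A8Mod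

open Cfsg.Agent.Lib.M12A

theorem card_A8 : Nat.card A8 = 20160 := by
  rw [nat_card_alternatingGroup]
  simp [Nat.factorial]

instance simpleA8 : IsSimpleGroup A8 := alternatingGroup.isSimpleGroup (by simp)

theorem gen_top : H9 sE aE bE cE dE pE tE yE wE = ⊤ := by
  set M := H9 sE aE bE cE dE pE tE yE wE with hM
  by_contra hne
  have h1 := BrauerFowler.card_le_factorial_index M hne
  rw [card_A8] at h1
  have hle : H7 sE aE bE cE dE pE tE ≤ M := H7_le_H8.trans H8_le_H9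
  have d1 : 192 ∣ Nat.card M := by
    rw [← relE.card7 sE_ne]
    exact Subgroup.card_dvd_of_le hle
  have ma : aE ∈ M := g9_mem 2
  have mp : pE ∈ M := g9_mem 6
  have my : yE ∈ M := g9_mem 8
  have mw : wE ∈ M := g9_mem 9
  have d5 : 5 ∣ Nat.card M := by
    have h := orderOf_dvd_natCard (⟨pE * yE * wE, M.mul_mem (M.mul_mem mp my) mw⟩ : M)
    rw [← Subgroup.orderOf_coe] at h
    simpa [ord5] using h
  have d7 : 7 ∣ Nat.card M := by
    have h := orderOf_dvd_natCard (⟨aE * pE * wE, M.mul_mem (M.mul_mem ma mp) mw⟩ : M)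
    rw [← Subgroup.orderOf_coe] at h
    simpa [ord7] using h
  have d35 : 6720 ∣ Nat.card M := by
    have h2 : 192 * 5 ∣ Nat.card M := (Nat.Coprime.mul_dvd_of_dvd_of_dvd (by norm_num) d1 d5)
    exact (Nat.Coprime.mul_dvd_of_dvd_of_dvd (by norm_num : Nat.Coprime (192 * 5) 7) h2 d7)
  have h3 := M.card_mul_index
  rw [card_A8] at h3
  have h4 : M.index ≤ 3 := by
    have h5 := Nat.le_of_dvd Nat.card_pos d35
    by_contra h6
    push Not at h6
    have : 6720 * 4 ≤ Nat.card M * M.index := Nat.mul_le_mul h5 h6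
    omega
  have h5 : M.index.factorial ≤ Nat.factorial 3 := Nat.factorial_le h4
  have h6 : Nat.factorial 3 = 6 := rfl
  omega

section
variable {G : Type*} [Group G] {s a b c d p t y w : G}

theorem yrel_map {H : Type*} [Group H] (f : G →* H) (h : YRel s a b c d t y) : YRel (f s) (f a) (f b) (f c) (f d) (f t) (f y) where
  y3 := by simpa using congrArg f h.y3
  ys := by simpa using congrArg f h.ys
  ya := by simpa using congrArg f h.ya
  yb := by simpa using congrArg f h.yb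
  yd := by simpa using congrArg f h.yd
  yc := by simpa using congrArg f h.yc
  yt := by simpa using congrArg f h.yt

/-- all relations -/
structure Full (s a b c d p t y w : G) : Prop where
  hr : Rel s a b c d p t
  hy : YRel s a b c d t y
  hw : YRel s c d a b t w
  hp : p * y * p * y * p * y * p * y = 1
  hq : p * w * p * w * p * w * p * w = 1
  he : y * w * y⁻¹ * w⁻¹ = 1

theorem Full.prod {H : Type*} [Group H] {s' a' b' c' d' p' t' y' w' : H} (h : Full s a b c d p t y w)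
    (h' : Full s' a' b' c' d' p' t' y' w') :
    Full (s, s') (a, a') (b, b') (c, c') (d, d') (p, p') (t, t') (y, y') (w, w') := by
  refine ⟨?_, ?_, ?_, Prod.ext h.hp h'.hp, Prod.ext h.hq h'.hq, Prod.ext h.he h'.he⟩
  · exact ⟨Prod.ext h.hr.ss h'.hr.ss, Prod.ext h.hr.aa h'.hr.aa, Prod.ext h.hr.bb h'.hr.bb, Prod.ext h.hr.cc h'.hr.cc,
      Prod.ext h.hr.dd h'.hr.dd, Prod.ext h.hr.tt h'.hr.tt, Prod.ext h.hr.r0 h'.hr.r0, Prod.ext h.hr.r1 h'.hr.r1,
      Prod.ext h.hr.r2 h'.hr.r2, Prod.ext h.hr.r3 h'.hr.r3, Prod.ext h.hr.r4 h'.hr.r4, Prod.ext h.hr.r5 h'.hr.r5,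
      Prod.ext h.hr.r6 h'.hr.r6, Prod.ext h.hr.r7 h'.hr.r7, Prod.ext h.hr.r8 h'.hr.r8, Prod.ext h.hr.r9 h'.hr.r9,
      Prod.ext h.hr.r10 h'.hr.r10, Prod.ext h.hr.r11 h'.hr.r11, Prod.ext h.hr.r12 h'.hr.r12, Prod.ext h.hr.r13 h'.hr.r13,
      Prod.ext h.hr.r14 h'.hr.r14, Prod.ext h.hr.r15 h'.hr.r15, Prod.ext h.hr.r16 h'.hr.r16, Prod.ext h.hr.r17 h'.hr.r17,
      Prod.ext h.hr.r18 h'.hr.r18, Prod.ext h.hr.r19 h'.hr.r19, Prod.ext h.hr.r20 h'.hr.r20, Prod.ext h.hr.r21 h'.hr.r21⟩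
  · exact ⟨Prod.ext h.hy.y3 h'.hy.y3, Prod.ext h.hy.ys h'.hy.ys, Prod.ext h.hy.ya h'.hy.ya, Prod.ext h.hy.yb h'.hy.yb,
      Prod.ext h.hy.yd h'.hy.yd, Prod.ext h.hy.yc h'.hy.yc, Prod.ext h.hy.yt h'.hy.yt⟩
  · exact ⟨Prod.ext h.hw.y3 h'.hw.y3, Prod.ext h.hw.ys h'.hw.ys, Prod.ext h.hw.ya h'.hw.ya, Prod.ext h.hw.yb h'.hw.yb,
      Prod.ext h.hw.yd h'.hw.yd, Prod.ext h.hw.yc h'.hw.yc, Prod.ext h.hw.yt h'.hw.yt⟩

theorem fullE : Full sE aE bE cE dE pE tE yE wE := ⟨relE, yE_rel, wE_rel, pyE, pwE, ywE⟩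

/-- the group generated by such elements is `A8` -/
theorem Full.iso (h : Full s a b c d p t y w) (s1 : s ≠ 1) :
    ∃ psi : H9 s a b c d p t y w ≃* A8, ∀ k, psi ⟨gl9 s a b c d p t y w k, g9_mem k⟩ = gl9 sE aE bE cE dE pE tE yE wE k := by
  have hP := h.prod fullE
  obtain ⟨hf, hc⟩ := hP.hr.bound9 hP.hy hP.hw hP.hp hP.hq hP.he
  set D := H9 (s, sE) (a, aE) (b, bE) (c, cE) (d, dE) (p, pE) (t, tE) (y, yE) (w, wE) with hD
  have gl_prod : ∀ k, gl9 (s, sE) (a, aE) (b, bE) (c, cE) (d, dE) (p, pE) (t, tE) (y, yE) (w, wE) k =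
      (gl9 s a b c d p t y w k, gl9 sE aE bE cE dE pE tE yE wE k) := by
    intro k
    match k with
    | 0 | 1 | 2 | 3 | 4 | 5 | 6 | 7 | 8 | 9 => rfl
    | _ + 10 => rfl
  let p2 : D →* A8 := (MonoidHom.snd G A8).comp D.subtype
  have hrange : D.map (MonoidHom.fst G A8) = H9 s a b c d p t y w := by
    rw [hD, H9, MonoidHom.map_closure, H9]
    congr 1
    ext x
    constructor
    · rintro ⟨_, ⟨i, hi, rfl⟩, rfl⟩
      exact ⟨i, hi, by rw [gl_prod]; rfl⟩
    · rintro ⟨i, hi, rfl⟩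
      exact ⟨_, ⟨i, hi, rfl⟩, by rw [gl_prod]; rfl⟩
  have hmem : ∀ x : D, (x : G × A8).1 ∈ H9 s a b c d p t y w := by
    intro x
    rw [← hrange]
    exact ⟨_, x.2, rfl⟩
  let p1 : D →* H9 s a b c d p t y w := ((MonoidHom.fst G A8).comp D.subtype).codRestrict _ hmem
  have hs1 : Function.Surjective p1 := by
    rintro ⟨x, hx⟩
    rw [← hrange] at hx
    obtain ⟨z, hz, hzx⟩ := hx
    exact ⟨⟨z, hz⟩, Subtype.ext hzx⟩
  have hs2 : Function.Surjective p2 := by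
    rw [← MonoidHom.range_eq_top, eq_top_iff, ← gen_top, H9, Subgroup.closure_le]
    rintro x ⟨i, hi, rfl⟩
    refine ⟨⟨_, g9_mem i⟩, ?_⟩
    show (gl9 (s, sE) (a, aE) (b, bE) (c, cE) (d, dE) (p, pE) (t, tE) (y, yE) (w, wE) i).2 = _
    rw [gl_prod]
  have hcard : Nat.card D = 20160 := by
    apply le_antisymm (hc.trans (by norm_num))
    rw [← card_A8]
    exact Nat.card_le_card_of_surjective _ hs2
  have hb2 : Function.Bijective p2 := by
    rw [Nat.bijective_iff_surjective_and_card]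
    exact ⟨hs2, by rw [hcard, card_A8]⟩
  let e2 : D ≃* A8 := MulEquiv.ofBijective p2 hb2
  haveI hsimp : IsSimpleGroup D := e2.isSimpleGroup
  have hker : p1.ker = ⊥ := by
    rcases hsimp.eq_bot_or_eq_top_of_normal p1.ker inferInstance with h0 | h0
    · exact h0
    · exfalso
      have : (⟨_, g9_mem 1⟩ : D) ∈ p1.ker := by rw [h0]; trivial
      exact s1 (congrArg Subtype.val this)
  have hb1 : Function.Bijective p1 := ⟨(MonoidHom.ker_eq_bot_iff _).1 hker, hs1⟩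
  let e1 : D ≃* H9 s a b c d p t y w := MulEquiv.ofBijective p1 hb1
  refine ⟨e1.symm.trans e2, fun k => ?_⟩
  have hk : e1 ⟨_, g9_mem k⟩ = ⟨gl9 s a b c d p t y w k, g9_mem k⟩ := by
    apply Subtype.ext
    show (gl9 (s, sE) (a, aE) (b, bE) (c, cE) (d, dE) (p, pE) (t, tE) (y, yE) (w, wE) k).1 = _
    rw [gl_prod]
  rw [← hk, MulEquiv.trans_apply, MulEquiv.symm_apply_apply]
  show (gl9 (s, sE) (a, aE) (b, bE) (c, cE) (d, dE) (p, pE) (t, tE) (y, yE) (w, wE) k).2 = _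
  rw [gl_prod]

end

end Cfsg.Agent.Lib.A8Mod
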