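import Cfsg.Agent.Lib.M12TB2
import Cfsg.Agent.Lib.BrauerFowler

set_option autoImplicit false
set_option linter.all false
set_option maxRecDepth 100000

/-! The model of the presentation in `A8`. -/

namespace Cfsg.Agent.Lib.A8Mod

open Cfsg.Agent.Lib.M12A Cfsg.Agent.Lib.M12Tab Cfsg.Agent.Lib.M12DataA
open Cfsg.Agent.Lib.M12B (allB allB_spec exB exB_spec memB memB_iff)

def P8 (f g : Fin 8 → Fin 8) (h : (∀ i, g (f i) = i) ∧ (∀ i, f (g i) = i)) : Equiv.Perm (Fin 8) := ⟨f, g, h.1, h.2⟩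

def ps : Equiv.Perm (Fin 8) := P8 ![1, 0, 3, 2, 5, 4, 7, 6] ![1, 0, 3, 2, 5, 4, 7, 6] (by decide)
def pa : Equiv.Perm (Fin 8) := P8 ![3, 2, 1, 0, 6, 7, 4, 5] ![3, 2, 1, 0, 6, 7, 4, 5] (by decide)
def pb : Equiv.Perm (Fin 8) := P8 ![5, 4, 6, 7, 1, 0, 2, 3] ![5, 4, 6, 7, 1, 0, 2, 3] (by decide)
def pc : Equiv.Perm (Fin 8) := P8 ![2, 3, 0, 1, 6, 7, 4, 5] ![2, 3, 0, 1, 6, 7, 4, 5] (by decide)
def pd : Equiv.Perm (Fin 8) := P8 ![4, 5, 6, 7, 0, 1, 2, 3] ![4, 5, 6, 7, 0, 1, 2, 3] (by decide)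
def pp : Equiv.Perm (Fin 8) := P8 ![0, 1, 4, 5, 6, 7, 2, 3] ![0, 1, 6, 7, 2, 3, 4, 5] (by decide)
def pt : Equiv.Perm (Fin 8) := P8 ![1, 0, 3, 2, 7, 6, 5, 4] ![1, 0, 3, 2, 7, 6, 5, 4] (by decide)
def py : Equiv.Perm (Fin 8) := P8 ![1, 2, 0, 3, 6, 4, 5, 7] ![2, 0, 1, 3, 5, 6, 4, 7] (by decide)
def pw : Equiv.Perm (Fin 8) := P8 ![2, 0, 1, 3, 6, 4, 5, 7] ![1, 2, 0, 3, 5, 6, 4, 7] (by decide)
theorem sgs : Equiv.Perm.sign ps = 1 := by decide +kernel
theorem sga : Equiv.Perm.sign pa = 1 := by decide +kernel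
theorem sgb : Equiv.Perm.sign pb = 1 := by decide +kernel
theorem sgc : Equiv.Perm.sign pc = 1 := by decide +kernel
theorem sgd : Equiv.Perm.sign pd = 1 := by decide +kernel
theorem sgp : Equiv.Perm.sign pp = 1 := by decide +kernel
theorem sgt : Equiv.Perm.sign pt = 1 := by decide +kernel
theorem sgy : Equiv.Perm.sign py = 1 := by decide +kernel
theorem sgw : Equiv.Perm.sign pw = 1 := by decide +kernel

abbrev A8 := alternatingGroup (Fin 8)

def sE : A8 := ⟨ps, Equiv.Perm.mem_alternatingGroup.2 sgs⟩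
def aE : A8 := ⟨pa, Equiv.Perm.mem_alternatingGroup.2 sga⟩
def bE : A8 := ⟨pb, Equiv.Perm.mem_alternatingGroup.2 sgb⟩
def cE : A8 := ⟨pc, Equiv.Perm.mem_alternatingGroup.2 sgc⟩
def dE : A8 := ⟨pd, Equiv.Perm.mem_alternatingGroup.2 sgd⟩
def pE : A8 := ⟨pp, Equiv.Perm.mem_alternatingGroup.2 sgp⟩
def tE : A8 := ⟨pt, Equiv.Perm.mem_alternatingGroup.2 sgt⟩
def yE : A8 := ⟨py, Equiv.Perm.mem_alternatingGroup.2 sgy⟩
def wE : A8 := ⟨pw, Equiv.Perm.mem_alternatingGroup.2 sgw⟩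

theorem relE : Rel sE aE bE cE dE pE tE := by
  constructor <;> exact Subtype.ext (by decide +kernel)

theorem yE_rel : YRel sE aE bE cE dE tE yE := by
  constructor <;> exact Subtype.ext (by decide +kernel)

theorem wE_rel : YRel sE cE dE aE bE tE wE := by
  constructor <;> exact Subtype.ext (by decide +kernel)

theorem pyE : pE * yE * pE * yE * pE * yE * pE * yE = 1 := Subtype.ext (by decide +kernel)
theorem pwE : pE * wE * pE * wE * pE * wE * pE * wE = 1 := Subtype.ext (by decide +kernel)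
theorem ywE : yE * wE * yE⁻¹ * wE⁻¹ = 1 := Subtype.ext (by decide +kernel)

theorem sE_ne : sE ≠ 1 := fun h => by
  have h1 := congrArg Subtype.val h
  revert h1
  show ps ≠ 1
  decide +kernel

theorem ord5 : orderOf (pE * yE * wE) = 5 := by
  haveI : Fact (Nat.Prime 5) := ⟨by norm_num⟩
  refine orderOf_eq_prime ?_ ?_
  · exact Subtype.ext (by decide +kernel)
  · intro h
    have h1 := congrArg Subtype.val h
    revert h1
    show pp * py * pw ≠ 1
    decide +kernel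

theorem ord7 : orderOf (aE * pE * wE) = 7 := by
  haveI : Fact (Nat.Prime 7) := ⟨by norm_num⟩
  refine orderOf_eq_prime ?_ ?_
  · exact Subtype.ext (by decide +kernel)
  · intro h
    have h1 := congrArg Subtype.val h
    revert h1
    show pa * pp * pw ≠ 1
    decide +kernel

end Cfsg.Agent.Lib.A8Mod
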