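import Cfsg.Agent.Lib.AbFree3

/-!
# Free inertial actions: cyclic groups and 2-groups of rank two (helper77)
-/

set_option autoImplicit false
set_option linter.all false

namespace Cfsg.Agent.Lib.AbSec

open Cfsg Cfsg.Agent.Lib.BlockRing Cfsg.Agent.Lib.BlockGA Cfsg.Agent.Lib.BlockIdem
open Cfsg.Agent.Lib.BlkIdem Cfsg.Agent.Lib.BlockAlg Cfsg.Agent.Lib.PairAlg Cfsg.Agent.Lib.PairMax
open Cfsg.Agent.Lib.BrauerPairs Cfsg.Agent.Lib.NormalPBlk Cfsg.Agent.Lib.DefPairs
open Cfsg.Agent.Lib.BlkTransport Cfsg.Agent.Lib.BlkFus Cfsg.Agent.Lib.InducedPair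
open Cfsg.Agent.Lib.AbFusion Cfsg.Agent.Lib.AbCount

universe u v

variable {p : ℕ} [hp : Fact p.Prime] {M : Ideal AlgInt} [hMm : M.IsMaximal] [hchar : CharP (Kf M) p]
  {G : Type u} [Group G] [Finite G] {B : Set (IrrCharacter G)} {P : Subgroup G} {c : MonoidAlgebra (Kf M) G}

theorem Cn_normal (h : AbMax p B P c) : ((Cn P).subgroupOf (TT P c)).Normal := by
  refine ⟨fun n hn g => ?_⟩
  rw [Subgroup.mem_subgroupOf] at hn ⊢
  have hg : (g : G) ∈ Subgroup.normalizer (P : Set G) := g.2.1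
  rw [Subgroup.coe_mul, Subgroup.coe_mul, Subgroup.coe_inv]
  rw [Subgroup.mem_centralizer_iff] at hn ⊢
  intro x hx
  have h1 : (g : G)⁻¹ * x * g ∈ P := conj_mem_of_TT' g.2 hx
  have h2 := hn _ h1
  calc x * ((g : G) * n * (g : G)⁻¹) = g * (((g : G)⁻¹ * x * g) * n) * (g : G)⁻¹ := by group
    _ = g * (n * ((g : G)⁻¹ * x * g)) * (g : G)⁻¹ := by rw [h2]
    _ = _ := by group

theorem pow_ei_mem (h : AbMax p B P c) {t : G} (ht : t ∈ TT P c) : t ^ ei P c ∈ Cn P := by
  haveI := Cn_normal h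
  have h1 := Subgroup.pow_index_mem ((Cn P).subgroupOf (TT P c)) ⟨t, ht⟩
  rw [Subgroup.mem_subgroupOf] at h1
  exact h1

theorem not_dvd_ei (h : AbMax p B P c) : ¬ p ∣ ei P c := h.not_dvd_relIndex

/-- an element of the stabilizer acting trivially on the elements of order `p` is in the centralizer -/
theorem triv_of_omega (h : AbMax p B P c) {t : G} (ht : t ∈ TT P c)
    (hom : ∀ x ∈ P, x ^ p = 1 → t * x * t⁻¹ = x) : t ∈ Cn P := by
  have hcomm : ∀ x ∈ P, ∀ y ∈ P, x * y = y * x := fun x hx y hy =>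
    (Subgroup.mem_centralizer_iff.1 (h.ab hy) x hx)
  have key : ∀ k : ℕ, ∀ x ∈ P, x ^ (p ^ k) = 1 → t * x * t⁻¹ = x := by
    intro k
    induction k with
    | zero =>
      intro x _ hx1
      rw [pow_zero, pow_one] at hx1
      rw [hx1]; group
    | succ k ih =>
      intro x hx hxk
      have h1 : t * x ^ p * t⁻¹ = x ^ p := ih _ (pow_mem hx p) (by rw [← pow_mul, ← pow_succ']; exact hxk)
      obtain ⟨z, hz⟩ : ∃ z, z = x⁻¹ * (t * x * t⁻¹) := ⟨_, rfl⟩
      have hzP : z ∈ P := hz ▸ mul_mem (inv_mem hx) (conj_mem_of_TT ht hx)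
      have hzp : z ^ p = 1 := by
        have hc : Commute x⁻¹ (t * x * t⁻¹) := hcomm _ (inv_mem hx) _ (conj_mem_of_TT ht hx)
        rw [hz, hc.mul_pow, conj_pow, h1, inv_pow, inv_mul_cancel]
      have htz := hom z hzP hzp
      have htx : t * x * t⁻¹ = x * z := by rw [hz]; group
      have hn : ∀ n : ℕ, t ^ n * x * (t ^ n)⁻¹ = x * z ^ n := by
        intro n
        induction n with
        | zero => simp
        | succ n ihn =>
          have e1 : t ^ (n + 1) * x * (t ^ (n + 1))⁻¹ = t * (t ^ n * x * (t ^ n)⁻¹) * t⁻¹ := by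
            rw [pow_succ']; group
          have e2 : t * (x * z ^ n) * t⁻¹ = (t * x * t⁻¹) * (t * z ^ n * t⁻¹) := by group
          rw [e1, ihn, e2, htx, ← conj_pow, htz, pow_succ', mul_assoc]
      have h2 := hn (ei P c)
      have h3 := Subgroup.mem_centralizer_iff.1 (pow_ei_mem h ht) x hx
      rw [← h3, mul_inv_cancel_right] at h2
      have h4 : z ^ ei P c = 1 := (mul_eq_left.1 h2.symm)
      have h5 : orderOf z = 1 := by
        have a1 := orderOf_dvd_of_pow_eq_one hzp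
        have a2 := orderOf_dvd_of_pow_eq_one h4
        rcases (Nat.dvd_prime hp.out).1 a1 with h6 | h6
        · exact h6
        · rw [h6] at a2
          exact absurd a2 (not_dvd_ei h)
      rw [orderOf_eq_one_iff] at h5
      rw [htx, h5, mul_one]
  rw [Subgroup.mem_centralizer_iff]
  intro x hx
  obtain ⟨k, hk⟩ := orderOf_mem h.pair.1 hx
  have := key k x hx (by rw [← hk]; exact pow_orderOf_eq_one x)
  rw [mul_inv_eq_iff_eq_mul] at this
  exact this.symm

/-- a nontrivial element has a power of order `p` -/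
theorem exists_pow_orderOf (h : AbMax p B P c) {x : G} (hx : x ∈ P) (hx1 : x ≠ 1) :
    ∃ n : ℕ, orderOf (x ^ n) = p := by
  obtain ⟨k, hk⟩ := orderOf_mem h.pair.1 hx
  cases k with
  | zero =>
    rw [pow_zero, orderOf_eq_one_iff] at hk
    exact absurd hk hx1
  | succ k =>
    refine ⟨p ^ k, ?_⟩
    rw [orderOf_pow, hk, pow_succ, Nat.gcd_eq_right (dvd_mul_right _ _),
      Nat.mul_div_cancel_left _ (pow_pos hp.out.pos k)]

/-- cyclic groups -/
theorem free_of_cyclic (h : AbMax p B P c) (hP : P ≠ ⊥) (hcyc : IsCyclic P) : FreeMax p B P c := by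
  refine ⟨h, hP, ?_⟩
  intro t ht x hx hx1 htx
  apply triv_of_omega h ht
  intro y hy hyp
  obtain ⟨n, hn⟩ := exists_pow_orderOf h hx hx1
  have hz : t * x ^ n * t⁻¹ = x ^ n := by rw [← conj_pow, htx]
  -- `y` is a power of `x ^ n`
  by_cases hy1 : y = 1
  · rw [hy1]; group
  have hyo : orderOf y = p := orderOf_eq_prime hyp hy1
  have h1 : y ∈ Subgroup.zpowers (x ^ n) := by
    haveI := hcyc
    haveI := Fintype.ofFinite P
    classical
    have hle := IsCyclic.card_pow_eq_one_le (α := P) hp.out.pos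
    obtain ⟨w, hw⟩ : ∃ w : P, w = ⟨x ^ n, pow_mem hx n⟩ := ⟨_, rfl⟩
    have hwo : orderOf w = p := by rw [hw, Subgroup.orderOf_mk, hn]
    have hsub : (Subgroup.zpowers w : Set P).toFinset ⊆ Finset.univ.filter fun a : P => a ^ p = 1 := by
      intro a ha
      rw [Set.mem_toFinset] at ha
      obtain ⟨j, rfl⟩ := Subgroup.mem_zpowers_iff.1 ha
      refine Finset.mem_filter.2 ⟨Finset.mem_univ _, ?_⟩
      rw [← zpow_natCast, ← zpow_mul, mul_comm, zpow_mul, zpow_natCast, ← hwo, pow_orderOf_eq_one, one_zpow]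
    have hcard : (Subgroup.zpowers w : Set P).toFinset.card = p := by
      rw [Set.toFinset_card, ← Nat.card_eq_fintype_card]
      exact (Nat.card_zpowers w).trans hwo
    have heq := Finset.eq_of_subset_of_card_le hsub (by rw [hcard]; exact hle)
    have hmem : (⟨y, hy⟩ : P) ∈ (Subgroup.zpowers w : Set P).toFinset := by
      rw [heq]
      refine Finset.mem_filter.2 ⟨Finset.mem_univ _, ?_⟩
      apply Subtype.ext
      simpa using hyp
    rw [Set.mem_toFinset] at hmem
    obtain ⟨j, hj⟩ := Subgroup.mem_zpowers_iff.1 hmem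
    refine Subgroup.mem_zpowers_iff.2 ⟨j, ?_⟩
    have := congrArg Subtype.val hj
    rw [hw] at this
    simpa using this
  obtain ⟨j, rfl⟩ := Subgroup.mem_zpowers_iff.1 h1
  rw [← conj_zpow, hz]

/-- a nontrivial 2-group with four solutions of `x^2=1` -/
theorem free_of_omega_four [Fact (Nat.Prime 2)] [CharP (Kf M) 2] (h : AbMax 2 B P c) (hP : P ≠ ⊥)
    (h4 : Nat.card {x : P // x ^ 2 = 1} = 4) : FreeMax 2 B P c := by
  refine ⟨h, hP, ?_⟩
  intro t ht x hx hx1 htx
  apply triv_of_omega h ht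
  obtain ⟨n, hn⟩ := exists_pow_orderOf h hx hx1
  obtain ⟨z, hz⟩ : ∃ z, z = x ^ n := ⟨_, rfl⟩
  rw [← hz] at hn
  have hzP : z ∈ P := hz ▸ pow_mem hx n
  have htz : t * z * t⁻¹ = z := by rw [hz, ← conj_pow, htx]
  have hz1 : z ≠ 1 := by
    intro h'
    rw [h', orderOf_one] at hn
    omega
  have hz2 : z ^ 2 = 1 := by rw [← hn]; exact pow_orderOf_eq_one z
  intro y hy hy2
  by_cases hy1 : y = 1
  · rw [hy1]; group
  by_cases hyz : y = z
  · rw [hyz]; exact htz
  have hcomm : ∀ x ∈ P, ∀ y ∈ P, x * y = y * x := fun x hx y hy =>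
    (Subgroup.mem_centralizer_iff.1 (h.ab hy) x hx)
  -- the square of `t` fixes `y`
  have hall : ∀ w ∈ P, w ^ 2 = 1 → w = 1 ∨ w = z ∨ w = y ∨ w = z * y := by
    intro w hw hw2
    by_contra hcon
    push Not at hcon
    have hc : Commute z y := hcomm z hzP y hy
    let f : Fin 5 → {x : P // x ^ 2 = 1} := ![⟨⟨1, one_mem _⟩, by apply Subtype.ext; simp⟩,
      ⟨⟨z, hzP⟩, by apply Subtype.ext; simpa using hz2⟩, ⟨⟨y, hy⟩, by apply Subtype.ext; simpa using hy2⟩,
      ⟨⟨z * y, mul_mem hzP hy⟩, by apply Subtype.ext; simp [hc.mul_pow, hz2, hy2]⟩,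
      ⟨⟨w, hw⟩, by apply Subtype.ext; simpa using hw2⟩]
    have hzy1 : z * y ≠ 1 := by
      intro h'
      apply hyz
      have : z * z = 1 := by rw [← sq]; exact hz2
      exact mul_left_cancel (h'.trans this.symm)
    have hzyz : z * y ≠ z := fun h' => hy1 (mul_eq_left.1 h')
    have hzyy : z * y ≠ y := fun h' => hz1 (mul_eq_right.1 h')
    have hf : Function.Injective f := by
      intro i j hij
      have hij' : ((f i).1 : G) = (f j).1 := by rw [hij]
      fin_cases i <;> fin_cases j <;> simp [f] at hij' <;> first | rfl | (exfalso; first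
        | exact hz1 hij' | exact hz1 hij'.symm | exact hy1 hij' | exact hy1 hij'.symm
        | exact hzy1 hij' | exact hzy1 hij'.symm | exact hcon.1 hij' | exact hcon.1 hij'.symm
        | exact hyz hij' | exact hyz hij'.symm | exact hzyz hij' | exact hzyz hij'.symm
        | exact hcon.2.1 hij' | exact hcon.2.1 hij'.symm | exact hzyy hij' | exact hzyy hij'.symm
        | exact hcon.2.2.1 hij' | exact hcon.2.2.1 hij'.symm | exact hcon.2.2.2 hij' | exact hcon.2.2.2 hij'.symm)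
    have := Nat.card_le_card_of_injective f hf
    rw [h4, Nat.card_eq_fintype_card, Fintype.card_fin] at this
    omega
  have hty : t * y * t⁻¹ = y ∨ t * y * t⁻¹ = z * y := by
    have h1 : t * y * t⁻¹ ∈ P := conj_mem_of_TT ht hy
    have h2 : (t * y * t⁻¹) ^ 2 = 1 := by rw [conj_pow, hy2]; group
    rcases hall _ h1 h2 with h3 | h3 | h3 | h3
    · exfalso
      apply hy1
      have : y = t⁻¹ * (t * y * t⁻¹) * t := by group
      rw [this, h3]; group
    · exfalso
      apply hyz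
      calc y = t⁻¹ * (t * y * t⁻¹) * t := by group
        _ = t⁻¹ * (t * z * t⁻¹) * t := by rw [h3, htz]
        _ = z := by group
    · exact Or.inl h3
    · exact Or.inr h3
  rcases hty with h3 | h3
  · exact h3
  · exfalso
    have ht2 : t ^ 2 * y * (t ^ 2)⁻¹ = y := by
      have e1 : t ^ 2 * y * (t ^ 2)⁻¹ = t * (t * y * t⁻¹) * t⁻¹ := by rw [sq]; group
      have e2 : t * (z * y) * t⁻¹ = (t * z * t⁻¹) * (t * y * t⁻¹) := by group
      have : z * z = 1 := by rw [← sq]; exact hz2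
      rw [e1, h3, e2, htz, h3, ← mul_assoc, this, one_mul]
    have ht2n : ∀ n : ℕ, (t ^ 2) ^ n * y * ((t ^ 2) ^ n)⁻¹ = y := by
      intro n
      induction n with
      | zero => simp
      | succ n ih =>
        have e1 : (t ^ 2) ^ (n + 1) * y * ((t ^ 2) ^ (n + 1))⁻¹ =
            t ^ 2 * ((t ^ 2) ^ n * y * ((t ^ 2) ^ n)⁻¹) * (t ^ 2)⁻¹ := by rw [pow_succ']; group
        rw [e1, ih, ht2]
    have hodd : ¬ 2 ∣ ei P c := not_dvd_ei h
    obtain ⟨m, hm⟩ : ∃ m, ei P c = 2 * m + 1 := ⟨ei P c / 2, by omega⟩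
    have h5 := Subgroup.mem_centralizer_iff.1 (pow_ei_mem h ht) y hy
    have h6 : t ^ ei P c * y * (t ^ ei P c)⁻¹ = y := by rw [← h5]; group
    have h7 : t ^ ei P c * y * (t ^ ei P c)⁻¹ = t * y * t⁻¹ := by
      have e1 : t ^ ei P c * y * (t ^ ei P c)⁻¹ = t * ((t ^ 2) ^ m * y * ((t ^ 2) ^ m)⁻¹) * t⁻¹ := by
        rw [hm, ← pow_mul, pow_succ']; group
      rw [e1, ht2n]
    rw [h7, h3] at h6
    exact hz1 (mul_eq_right.1 h6)

end Cfsg.Agent.Lib.AbSec
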