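import Mathlib
import Cfsg.Prelude.Def_Characters
import Cfsg.Prelude.Def_Transfer
import Cfsg.Agent.Lib.CharBasic
import Cfsg.Agent.Lib.CharBasic2
import Cfsg.Agent.Lib.IndFun
import Cfsg.Agent.Lib.TIFN
import Cfsg.Agent.Lib.Clifford
import Cfsg.Agent.Lib.Coherence

set_option autoImplicit false

/-!
# Exceptional characters, abelian T.I. subgroup (helper15)
-/

namespace Cfsg.Agent.Lib.TIFN

open scoped ComplexConjugate
open CharBasic

universe u v

section Family

variable {X : Type u} [Group X]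

/-- A generalized character of norm two and degree zero is a difference of two distinct
irreducible characters. -/
theorem norm_two_degree_zero [Fintype X] {θ : X → ℂ} (h : IsGeneralizedCharacter X θ)
    (h1 : classInner θ θ = 2) (h0 : θ 1 = 0) :
    ∃ α β : X → ℂ, IsIrrCharacter X α ∧ IsIrrCharacter X β ∧ α ≠ β ∧ θ = α - β := by
  obtain ⟨α, β, hα, hβ, hαβ, rfl⟩ := Coherence.norm_two_decomp h h1
  have hpos : ∀ {χ : X → ℂ}, IsIrrCharacter X χ → 0 < (χ 1).re := by
    intro χ hχ
    obtain ⟨n, hn, hn'⟩ := hχ.exists_degree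
    rw [hn']
    simpa using hn
  rcases hα with hα | hα <;> rcases hβ with hβ | hβ
  · exfalso
    have := congrArg Complex.re h0
    simp only [Pi.add_apply, Complex.add_re, Complex.zero_re] at this
    linarith [hpos hα, hpos hβ]
  · refine ⟨α, -β, hα, hβ, ?_, by rw [sub_neg_eq_add]⟩
    intro h2
    rw [h2, classInner_neg_left, neg_eq_zero] at hαβ
    have := hβ.classInner_self
    rw [classInner_neg_left, classInner_neg_right, neg_neg, hαβ] at this
    exact zero_ne_one this
  · refine ⟨β, -α, hβ, hα, ?_, by rw [sub_neg_eq_add, add_comm]⟩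
    intro h2
    rw [h2, classInner_neg_right, neg_eq_zero] at hαβ
    have := hα.classInner_self
    rw [classInner_neg_left, classInner_neg_right, neg_neg, hαβ] at this
    exact zero_ne_one this
  · exfalso
    have := congrArg Complex.re h0
    simp only [Pi.add_apply, Complex.add_re, Complex.zero_re] at this
    have h3 := hpos hα
    have h4 := hpos hβ
    simp only [Pi.neg_apply, Complex.neg_re] at h3 h4
    linarith

open scoped Classical in
theorem classInner_sub_sub [Fintype X] {a b c d : X → ℂ} (ha : IsIrrCharacter X a)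
    (hb : IsIrrCharacter X b) (hc : IsIrrCharacter X c) (hd : IsIrrCharacter X d) :
    classInner (a - b) (c - d) = (if a = c then 1 else 0) - (if a = d then 1 else 0) -
      (if b = c then 1 else 0) + (if b = d then 1 else 0) := by
  rw [classInner_sub_left, classInner_sub_right, classInner_sub_right, ha.classInner_eq hc,
    ha.classInner_eq hd, hb.classInner_eq hc, hb.classInner_eq hd]
  ring

theorem eq_or_eq_of_inner_one [Fintype X] {a b c d : X → ℂ} (ha : IsIrrCharacter X a)
    (hb : IsIrrCharacter X b) (hc : IsIrrCharacter X c) (hd : IsIrrCharacter X d)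
    (h : classInner (a - b) (c - d) = 1) : a = c ∨ b = d := by
  classical
  rw [classInner_sub_sub ha hb hc hd] at h
  by_contra hcon
  push Not at hcon
  rw [if_neg hcon.1, if_neg hcon.2] at h
  split_ifs at h <;> norm_num at h

theorem exceptional_family [Fintype X] {ι : Type v} (v : ι → ι → X → ℂ)
    (hgen : ∀ i j, IsGeneralizedCharacter X (v i j)) (h1 : ∀ i j, v i j 1 = 0)
    (hadd : ∀ i j k, v i j + v j k = v i k)
    (hnorm : ∀ i j, i ≠ j → classInner (v i j) (v i j) = 2)
    (hinner : ∀ i j k, i ≠ j → i ≠ k → j ≠ k → classInner (v i j) (v i k) = 1)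
    (hcard : ∃ i j : ι, i ≠ j) :
    ∃ (ε : ℂ) (f : ι → IrrCharacter X), (ε = 1 ∨ ε = -1) ∧ Function.Injective f ∧
      ∀ i j, v i j = ε • ((f i : X → ℂ) - (f j : X → ℂ)) := by
  classical
  obtain ⟨i0, j0, hij⟩ := hcard
  have hdec : ∀ j, i0 ≠ j → ∃ α β : X → ℂ, IsIrrCharacter X α ∧ IsIrrCharacter X β ∧ α ≠ β ∧
      v i0 j = α - β := fun j hj => norm_two_degree_zero (hgen _ _) (hnorm _ _ hj) (h1 _ _)
  have hself : ∀ i, v i i = 0 := by
    intro i
    have := hadd i i i
    simpa using this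
  have hswap : ∀ i j, v i j = v i0 j - v i0 i := by
    intro i j
    have h2 := hadd i0 i j
    rw [← h2]; abel
  have hfin : ∀ (ε : ℂ) (f : ι → IrrCharacter X), (ε = 1 ∨ ε = -1) →
      (∀ j, v i0 j = ε • ((f i0 : X → ℂ) - (f j : X → ℂ))) →
      ∃ (ε : ℂ) (f : ι → IrrCharacter X), (ε = 1 ∨ ε = -1) ∧ Function.Injective f ∧
      ∀ i j, v i j = ε • ((f i : X → ℂ) - (f j : X → ℂ)) := by
    intro ε f hε hf
    have hall : ∀ i j, v i j = ε • ((f i : X → ℂ) - (f j : X → ℂ)) := by
      intro i j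
      rw [hswap, hf, hf, ← smul_sub]
      congr 1
      abel
    refine ⟨ε, f, hε, ?_, hall⟩
    intro i j hfij
    by_contra hne
    have h2 := hnorm i j hne
    rw [hall i j, hfij, sub_self, smul_zero, classInner_zero_left] at h2
    norm_num at h2
  obtain ⟨α0, β0, hα0, hβ0, hαβ0, hv0⟩ := hdec j0 hij
  by_cases hcase : ∀ j, i0 ≠ j → ∃ β : X → ℂ, IsIrrCharacter X β ∧ v i0 j = α0 - β
  · choose! b hb hvb using hcase
    refine hfin 1 (fun j => if hj : i0 = j then ⟨α0, hα0⟩ else ⟨b j, hb j hj⟩) (Or.inl rfl) ?_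
    intro j
    by_cases hj : i0 = j
    · subst hj
      simp [hself]
    · simp only [dif_pos, dif_neg hj, one_smul]
      exact hvb j hj
  · push Not at hcase
    obtain ⟨j1, hj1, hno⟩ := hcase
    obtain ⟨α1, β1, hα1, hβ1, hαβ1, hv1⟩ := hdec j1 hj1
    have hα01 : α0 ≠ α1 := by
      intro h
      exact hno β1 hβ1 (by rw [hv1, h])
    have hj01 : j0 ≠ j1 := by
      intro h
      exact hno β0 hβ0 (by rw [← h, hv0])
    have hβ01 : β0 = β1 := by
      have h2 := hinner i0 j0 j1 hij hj1 hj01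
      rw [hv0, hv1] at h2
      exact (eq_or_eq_of_inner_one hα0 hβ0 hα1 hβ1 h2).resolve_left hα01
    have hcase2 : ∀ j, i0 ≠ j → ∃ α : X → ℂ, IsIrrCharacter X α ∧ v i0 j = α - β0 := by
      intro j hj
      by_cases hjj0 : j = j0
      · subst hjj0; exact ⟨α0, hα0, hv0⟩
      by_cases hjj1 : j = j1
      · subst hjj1; exact ⟨α1, hα1, by rw [hv1, hβ01]⟩
      obtain ⟨α, β, hα, hβ, hαβ, hv⟩ := hdec j hj
      refine ⟨α, hα, ?_⟩
      have h2 := hinner i0 j j0 hj hij hjj0
      have h3 := hinner i0 j j1 hj hj1 hjj1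
      rw [hv, hv0] at h2
      rw [hv, hv1] at h3
      rcases eq_or_eq_of_inner_one hα hβ hα0 hβ0 h2 with h4 | h4
      · rcases eq_or_eq_of_inner_one hα hβ hα1 hβ1 h3 with h5 | h5
        · exact absurd (h4.symm.trans h5) hα01
        · rw [hv, h5, hβ01]
      · rw [hv, h4]
    choose! a ha hva using hcase2
    refine hfin (-1) (fun j => if hj : i0 = j then ⟨β0, hβ0⟩ else ⟨a j, ha j hj⟩) (Or.inr rfl) ?_
    intro j
    by_cases hj : i0 = j
    · subst hj
      simp [hself]
    · simp only [dif_pos, dif_neg hj]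
      rw [hva j hj, neg_one_smul, neg_sub]

end Family

section Abelian

variable {L : Type u} [Group L]

/-- Induction of a nontrivial irreducible character of an abelian Frobenius kernel is
irreducible. -/
theorem isIrr_indFun [Fintype L] (K : Subgroup L) [hK : K.Normal]
    (hC : ∀ k ∈ K, k ≠ 1 → Subgroup.centralizer ({k} : Set L) ≤ K)
    (hab : ∀ a ∈ K, ∀ b ∈ K, a * b = b * a) {θ : K → ℂ} (hθ : IsIrrCharacter K θ)
    (hθ1 : θ ≠ 1) : IsIrrCharacter L (indFun K θ) := by
  classical
  have hlin : θ 1 = 1 := hθ.one_eq_one_of_comm (fun a b => Subtype.ext (hab a a.2 b b.2))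
  have hin : Clifford.inertia K θ = K := by
    apply le_antisymm
    · intro x hx
      by_contra hxK
      apply hθ1
      -- the map k ↦ k⁻¹ * (x k x⁻¹) is bijective on K
      let F : K → K := fun k => k⁻¹ * ⟨x * k * x⁻¹, hK.conj_mem _ k.2 x⟩
      have hinj : Function.Injective F := by
        intro a b hab'
        have h1 : (a : L)⁻¹ * (x * a * x⁻¹) = (b : L)⁻¹ * (x * b * x⁻¹) :=
          congrArg Subtype.val hab'
        by_contra hne
        -- c = b * a⁻¹ is centralised by x
        have hcomm : ∀ u ∈ K, ∀ w ∈ K, u * w = w * u := hab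
        have h2 : (b : L) * (a : L)⁻¹ ≠ 1 := fun h => hne (Subtype.ext (mul_inv_eq_one.mp h).symm)
        apply hxK
        apply hC _ (K.mul_mem b.2 (K.inv_mem a.2)) h2
        rw [Subgroup.mem_centralizer_iff]
        intro y hy
        rw [Set.mem_singleton_iff] at hy
        rw [hy]
        -- x (b a⁻¹) x⁻¹ = b a⁻¹
        have hxa : x * (a : L) * x⁻¹ ∈ K := hK.conj_mem _ a.2 x
        have hxb : x * (b : L) * x⁻¹ ∈ K := hK.conj_mem _ b.2 x
        have h3 : x * b * x⁻¹ = b * ((a : L)⁻¹ * (x * a * x⁻¹)) := by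
          rw [h1]; group
        have h4 : x * ((b : L) * (a : L)⁻¹) * x⁻¹ = (b : L) * (a : L)⁻¹ := by
          calc x * ((b : L) * (a : L)⁻¹) * x⁻¹ = (x * b * x⁻¹) * (x * a * x⁻¹)⁻¹ := by group
            _ = (b * ((a : L)⁻¹ * (x * a * x⁻¹))) * (x * a * x⁻¹)⁻¹ := by rw [h3]
            _ = (b : L) * (a : L)⁻¹ := by group
        exact (mul_inv_eq_iff_eq_mul.mp h4).symm
      have hsurj : Function.Surjective F := Finite.surjective_of_injective hinj
      funext k
      obtain ⟨m, hm⟩ := hsurj k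
      rw [← hm]
      change θ (m⁻¹ * ⟨x * m * x⁻¹, hK.conj_mem _ m.2 x⟩) = 1
      rw [hθ.isCharacter.map_mul_of_linear hlin, Clifford.mem_inertia'.mp hx m,
        ← hθ.isCharacter.map_mul_of_linear hlin, inv_mul_cancel, hlin]
    · exact Clifford.le_inertia hθ.isClassFunction
  apply (hθ.isCharacter.indFun K).isIrr_of_norm_one
  have h1 := Clifford.classInner_indFun_self (G := L) hθ
  rw [hin] at h1
  have h2 : (Nat.card K : ℂ) ≠ 0 := by exact_mod_cast Nat.card_pos.ne'
  exact mul_left_cancel₀ h2 (by rw [h1, mul_one])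

/-- An irreducible character nontrivial on an abelian Frobenius kernel is induced. -/
theorem eq_indFun [Fintype L] (K : Subgroup L) [hK : K.Normal] [Fintype K]
    (hC : ∀ k ∈ K, k ≠ 1 → Subgroup.centralizer ({k} : Set L) ≤ K)
    (hab : ∀ a ∈ K, ∀ b ∈ K, a * b = b * a) {χ : L → ℂ} (hχ : IsIrrCharacter L χ)
    (hne : ∃ k ∈ K, χ k ≠ χ 1) :
    ∃ θ : K → ℂ, IsIrrCharacter K θ ∧ θ ≠ 1 ∧ θ 1 = 1 ∧ χ = indFun K θ := by
  classical
  have hχK := hχ.isCharacter.restrict K
  have h1 : ∃ θ : IrrCharacter K, (θ : K → ℂ) ≠ 1 ∧ classInner (fun x : K => χ x) θ ≠ 0 := by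
    by_contra hcon
    push Not at hcon
    obtain ⟨k, hk, hk1⟩ := hne
    apply hk1
    have h9 : ∀ x : K, χ x = classInner (fun x : K => χ x) 1 := by
      intro x
      have h8 := hχK.isClassFunction.expansion_apply x
      rw [Finset.sum_eq_single ⟨1, isIrrCharacter_one⟩] at h8
      · simpa using h8
      · intro θ _ hθ
        rw [hcon θ (fun h => hθ (Subtype.ext h)), zero_mul]
      · intro h; exact absurd (Finset.mem_univ _) h
    exact (h9 ⟨k, hk⟩).trans (h9 1).symm
  obtain ⟨θ, hθ1, hθ⟩ := h1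
  refine ⟨θ, θ.2, hθ1, θ.2.one_eq_one_of_comm (fun a b => Subtype.ext (hab a a.2 b b.2)), ?_⟩
  by_contra hcon
  apply hθ
  have h2 := hχ.classInner_eq_zero (isIrr_indFun K hC hab θ.2 hθ1) hcon
  rw [← conj_classInner, IndFun.frobenius_reciprocity K θ χ hχ.isClassFunction,
    conj_classInner] at h2
  exact h2

/-- `∑ χ(1)² = |L| - |L/K|` over the irreducible characters nontrivial on `K`. -/
theorem sum_sq_nontrivial [Finite L] (K : Subgroup L) [hK : K.Normal]
    [Fintype {χ : IrrCharacter L // ∃ k ∈ K, (χ : L → ℂ) k ≠ (χ : L → ℂ) 1}] :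
    ∑ χ : {χ : IrrCharacter L // ∃ k ∈ K, (χ : L → ℂ) k ≠ (χ : L → ℂ) 1},
      ((χ : IrrCharacter L) : L → ℂ) 1 ^ 2 = (Nat.card L : ℂ) - (K.index : ℂ) := by
  classical
  have h1 := sum_degree_sq (G := L)
  have h2 := sum_degree_sq (G := L ⧸ K)
  have h3 : ∑ ψ : IrrCharacter (L ⧸ K), (ψ : L ⧸ K → ℂ) 1 ^ 2 =
      ∑ ψ ∈ Finset.univ.filter (fun ψ : IrrCharacter L =>
        ∀ k ∈ K, (ψ : L → ℂ) k = (ψ : L → ℂ) 1), (ψ : L → ℂ) 1 ^ 2 := by
    exact (Equiv.sum_comp (irrQuotEquiv K) (fun ψ => ((ψ : IrrCharacter L) : L → ℂ) 1 ^ 2)).trans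
      (Finset.sum_subtype (Finset.univ.filter (fun ψ : IrrCharacter L =>
        ∀ k ∈ K, (ψ : L → ℂ) k = (ψ : L → ℂ) 1)) (p := fun ψ : IrrCharacter L =>
        ∀ k ∈ K, (ψ : L → ℂ) k = (ψ : L → ℂ) 1) (by simp)
        (fun ψ : IrrCharacter L => (ψ : L → ℂ) 1 ^ 2)).symm
  rw [h3] at h2
  rw [← Finset.sum_filter_add_sum_filter_not Finset.univ
    (fun ψ : IrrCharacter L => ∀ k ∈ K, (ψ : L → ℂ) k = (ψ : L → ℂ) 1), h2] at h1
  rw [← h1, Subgroup.index_eq_card, add_sub_cancel_left]
  symm
  rw [Finset.sum_subtype (p := fun ψ : IrrCharacter L =>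
    ∃ k ∈ K, (ψ : L → ℂ) k ≠ (ψ : L → ℂ) 1)]
  intro ψ
  simp

end Abelian

section Main

variable {G : Type u} [Group G] [Fintype G]

theorem abelian_exceptional (K : Subgroup G)
    (hTI : ∀ g : G, g ∉ Subgroup.normalizer (K : Set G) → ∀ k ∈ K, g * k * g⁻¹ ∈ K → k = 1)
    (hC : ∀ k ∈ K, k ≠ 1 → Subgroup.centralizer ({k} : Set G) ≤ K)
    (hab : ∀ a ∈ K, ∀ b ∈ K, a * b = b * a) :
    (Nat.card {χ : IrrCharacter (Subgroup.normalizer (K : Set G)) //
      ∃ k : Subgroup.normalizer (K : Set G), (k : G) ∈ K ∧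
        (χ : ↥(Subgroup.normalizer (K : Set G)) → ℂ) k ≠
          (χ : ↥(Subgroup.normalizer (K : Set G)) → ℂ) 1} = 1 ∧
      ∃ p : ℕ, p.Prime ∧ IsElementaryAbelian p K ∧
        Nat.card K = (K.subgroupOf (Subgroup.normalizer (K : Set G))).index + 1) ∨
    ∃ (ε : ℂ) (f : {χ : IrrCharacter (Subgroup.normalizer (K : Set G)) //
        ∃ k : Subgroup.normalizer (K : Set G), (k : G) ∈ K ∧
          (χ : ↥(Subgroup.normalizer (K : Set G)) → ℂ) k ≠
            (χ : ↥(Subgroup.normalizer (K : Set G)) → ℂ) 1} → IrrCharacter G),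
      (ε = 1 ∨ ε = -1) ∧ Function.Injective f ∧
        ∀ χ ξ, indFun (Subgroup.normalizer (K : Set G))
          ((χ.1 : ↥(Subgroup.normalizer (K : Set G)) → ℂ) -
            (ξ.1 : ↥(Subgroup.normalizer (K : Set G)) → ℂ)) =
          ε • ((f χ : G → ℂ) - (f ξ : G → ℂ)) := by
  classical
  let N : Subgroup G := Subgroup.normalizer (K : Set G)
  have hKN : K ≤ N := Subgroup.le_normalizer
  let K' : Subgroup N := K.subgroupOf N
  have hn : K'.Normal := by
    change (K.subgroupOf N).Normal
    rw [Subgroup.normal_subgroupOf_iff_le_normalizer hKN]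
  have hC' : ∀ k ∈ K', k ≠ 1 → Subgroup.centralizer ({k} : Set N) ≤ K' := by
    intro k hk hk1 c hc
    rw [Subgroup.mem_subgroupOf]
    apply hC k hk (fun h => hk1 (Subtype.ext h))
    rw [Subgroup.mem_centralizer_iff] at hc ⊢
    intro y hy
    rw [Set.mem_singleton_iff] at hy
    rw [hy]
    exact congrArg Subtype.val (hc k (Set.mem_singleton k))
  have hab' : ∀ a ∈ K', ∀ b ∈ K', a * b = b * a := fun a ha b hb => Subtype.ext (hab a ha b hb)
  have : Fintype K' := Fintype.ofFinite K'
  have : Fintype N := Fintype.ofFinite N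
  let R : Type _ := {χ : IrrCharacter N // ∃ k : N, (k : G) ∈ K ∧ (χ : N → ℂ) k ≠ (χ : N → ℂ) 1}
  have hdeg : ∀ χ : R, ((χ : IrrCharacter N) : N → ℂ) 1 = (K'.index : ℂ) := by
    rintro ⟨χ, k, hk, hk1⟩
    obtain ⟨θ, hθ, hθ1, hθd, hχ⟩ := eq_indFun K' hC' hab' χ.2 ⟨k, hk, hk1⟩
    change (χ : N → ℂ) 1 = _
    rw [hχ, IndFun.indFun_one, hθd, mul_one]
  have hvan : ∀ (χ : R) (x : N), (x : G) ∉ K → ((χ : IrrCharacter N) : N → ℂ) x = 0 := by
    rintro ⟨χ, k, hk, hk1⟩ x hx
    exact vanish_off K' hC' χ.2 ⟨k, hk, hk1⟩ hx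
  have : Finite R := inferInstance
  by_cases h1 : Nat.card R = 1
  · left
    refine ⟨h1, ?_⟩
    have hR : Fintype R := Fintype.ofFinite R
    have hsum := sum_sq_nontrivial K' (L := N) (hK := hn)
    have hconst : ∀ χ : {χ : IrrCharacter N // ∃ k ∈ K', (χ : N → ℂ) k ≠ (χ : N → ℂ) 1},
        ((χ : IrrCharacter N) : N → ℂ) 1 ^ 2 = (K'.index : ℂ) ^ 2 := by
      intro χ
      rw [hdeg χ]
    rw [Finset.sum_congr rfl (fun χ _ => hconst χ), Finset.sum_const, Finset.card_univ,
      ← Nat.card_eq_fintype_card] at hsum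
    have h1' : Nat.card {χ : IrrCharacter N // ∃ k ∈ K', (χ : N → ℂ) k ≠ (χ : N → ℂ) 1} = 1 := h1
    rw [h1', one_smul, ← Subgroup.card_mul_index K'] at hsum
    have he : (K'.index : ℂ) ≠ 0 := by exact_mod_cast Subgroup.index_ne_zero_of_finite
    have h2 : (Nat.card K' : ℂ) = (K'.index : ℂ) + 1 := by
      push_cast at hsum
      have : (K'.index : ℂ) * ((K'.index : ℂ) + 1 - Nat.card K') = 0 := by
        linear_combination hsum
      have := (mul_eq_zero.mp this).resolve_left he
      linear_combination -this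
    have h3 : Nat.card K' = K'.index + 1 := by exact_mod_cast h2
    have h4 : Nat.card K' = Nat.card K := Nat.card_congr (Subgroup.subgroupOfEquivOfLe hKN).toEquiv
    -- all nonidentity elements of K' are conjugate in N
    have hconj : ∀ k ∈ K', k ≠ 1 → ∀ x ∈ K', x ≠ 1 → IsConj k x := by
      intro k hk hk1 x hx hx1
      have h5 : Subgroup.centralizer ({k} : Set N) = K' := by
        apply le_antisymm (hC' k hk hk1)
        intro c hc
        rw [Subgroup.mem_centralizer_iff]
        intro y hy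
        rw [Set.mem_singleton_iff] at hy
        rw [hy]
        exact hab' k hk c hc
      have h6 := card_isConj k
      rw [h5] at h6
      let F : {x : N // IsConj k x} → {x : K' // x ≠ 1} := fun y => ⟨⟨y.1, by
        obtain ⟨c, hc⟩ := isConj_iff.mp y.2
        rw [← hc]; exact hn.conj_mem k hk c⟩, by
        intro h
        have h7 : y.1 = 1 := congrArg Subtype.val h
        have h8 := y.2
        rw [h7] at h8
        exact hk1 (isConj_one_left.mp h8)⟩
      have hF : Function.Injective F := by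
        intro a b hab2
        exact Subtype.ext (congrArg (fun z => ((z.1 : K') : N)) hab2)
      have h7 : Nat.card {x : K' // x ≠ 1} = K'.index := by
        rw [Nat.card_eq_fintype_card, Fintype.card_subtype_compl, ← Nat.card_eq_fintype_card,
          ← Nat.card_eq_fintype_card, h3]
        simp
      have h8 : Function.Bijective F :=
        (Nat.bijective_iff_injective_and_card F).mpr ⟨hF, by rw [h6, h7]⟩
      obtain ⟨y, hy⟩ := h8.2 ⟨⟨x, hx⟩, fun h => hx1 (congrArg Subtype.val h)⟩
      have h9 : y.1 = x := congrArg (fun z => ((z.1 : K') : N)) hy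
      rw [← h9]; exact y.2
    have h5 : Nat.card K' ≠ 1 := by
      rw [h3]
      have : K'.index ≠ 0 := Subgroup.index_ne_zero_of_finite
      omega
    obtain ⟨p, hp, hpd⟩ := Nat.exists_prime_and_dvd h5
    have : Fact p.Prime := ⟨hp⟩
    obtain ⟨k, hko⟩ := exists_prime_orderOf_dvd_card' p hpd
    have hk1 : (k : N) ≠ 1 := by
      intro h
      have : k = 1 := Subtype.ext h
      rw [this, orderOf_one] at hko
      exact hp.one_lt.ne hko
    refine ⟨p, hp, ⟨⟨⟨fun a b => Subtype.ext (hab a a.2 b b.2)⟩⟩, ?_⟩, ?_⟩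
    · intro a ha
      by_cases ha1 : a = 1
      · rw [ha1, one_pow]
      have h6 := hconj k k.2 hk1 ⟨a, hKN ha⟩ ha (fun h => ha1 (congrArg Subtype.val h))
      obtain ⟨c, hc⟩ := isConj_iff.mp h6
      have h7 : (k : N) ^ p = 1 := by
        have : k ^ p = 1 := by rw [← hko]; exact pow_orderOf_eq_one k
        exact congrArg Subtype.val this
      have h8 : (⟨a, hKN ha⟩ : N) ^ p = 1 := by
        rw [← hc, conj_pow, h7]; simp
      exact congrArg Subtype.val h8
    · rw [← h4]; exact h3
  · right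
    by_cases h2 : ∃ i j : R, i ≠ j
    · have hτ : ∀ (a b c d : R), classInner
          (indFun N (((a : IrrCharacter N) : N → ℂ) - ((b : IrrCharacter N) : N → ℂ)))
          (indFun N (((c : IrrCharacter N) : N → ℂ) - ((d : IrrCharacter N) : N → ℂ))) =
          classInner (((a : IrrCharacter N) : N → ℂ) - ((b : IrrCharacter N) : N → ℂ))
            (((c : IrrCharacter N) : N → ℂ) - ((d : IrrCharacter N) : N → ℂ)) := by
        intro a b c d
        apply IndFun.classInner_indFun_ti (K : Set G) N hTI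
        · intro x hx
          simp only [Pi.sub_apply, hvan a x hx, hvan b x hx, sub_zero]
        · exact c.1.2.isClassFunction.sub d.1.2.isClassFunction
        · intro x hx
          simp only [Pi.sub_apply, hvan c x hx, hvan d x hx, sub_zero]
        · simp only [Pi.sub_apply, hdeg a, hdeg b, sub_self]
      refine exceptional_family (X := G) (ι := R)
        (fun a b => indFun N (((a : IrrCharacter N) : N → ℂ) - ((b : IrrCharacter N) : N → ℂ)))
        ?_ ?_ ?_ ?_ ?_ h2
      · intro i j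
        exact (i.1.2.isGeneralized.sub j.1.2.isGeneralized).indFun N
      · intro i j
        rw [IndFun.indFun_one]
        simp only [Pi.sub_apply, hdeg i, hdeg j, sub_self, mul_zero]
      · intro i j k
        rw [← IndFun.indFun_add]
        congr 1
        abel
      · intro i j hij
        have hij' : ((i : IrrCharacter N) : N → ℂ) ≠ ((j : IrrCharacter N) : N → ℂ) :=
          fun h => hij (Subtype.ext (Subtype.ext h))
        rw [hτ, classInner_sub_sub i.1.2 j.1.2 i.1.2 j.1.2, if_pos rfl, if_pos rfl,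
          if_neg hij', if_neg (Ne.symm hij')]
        norm_num
      · intro i j k hij hik hjk
        have hij' : ((i : IrrCharacter N) : N → ℂ) ≠ ((j : IrrCharacter N) : N → ℂ) :=
          fun h => hij (Subtype.ext (Subtype.ext h))
        have hik' : ((i : IrrCharacter N) : N → ℂ) ≠ ((k : IrrCharacter N) : N → ℂ) :=
          fun h => hik (Subtype.ext (Subtype.ext h))
        have hjk' : ((j : IrrCharacter N) : N → ℂ) ≠ ((k : IrrCharacter N) : N → ℂ) :=
          fun h => hjk (Subtype.ext (Subtype.ext h))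
        rw [hτ, classInner_sub_sub i.1.2 j.1.2 i.1.2 k.1.2, if_pos rfl, if_neg hik',
          if_neg (Ne.symm hij'), if_neg hjk']
        norm_num
    · have hempty : IsEmpty R := by
        by_contra hne
        rw [not_isEmpty_iff] at hne
        apply h1
        push Not at h2
        rw [Nat.card_eq_one_iff_unique]
        exact ⟨⟨fun a b => h2 a b⟩, hne⟩
      exact ⟨1, fun x => (hempty.false x).elim, Or.inl rfl, fun x => (hempty.false x).elim,
        fun x => (hempty.false x).elim⟩

end Main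

end Cfsg.Agent.Lib.TIFN
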