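import Cfsg.Agent.Lib.StructConst
import Cfsg.Agent.Lib.TIFN
import Cfsg.Agent.Lib.TIFN2
import Cfsg.Agent.Lib.TIFN3

set_option autoImplicit false

/-!
# An abelian T.I. subgroup containing involutions, one class of involutions (helper68)

`sq_eq_one`: if `A` is an abelian T.I. subgroup of even order containing the centralizers of its
nonidentity elements, whose involutions are conjugate in `N(A)`, and `|G| > |A|²`, then `A` is an
elementary abelian 2-group.
-/

namespace Cfsg.Agent.Lib.AbTI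

open scoped ComplexConjugate
open Cfsg Cfsg.Agent.Lib.CharBasic Cfsg.Agent.Lib.TIFN

universe u

section Formula

variable {G : Type u} [Group G] [Finite G]

omit [Finite G] in
theorem inv_of_order_two {t : G} (ht : orderOf t = 2) : t⁻¹ = t := by
  rw [inv_eq_iff_mul_eq_one, ← sq, ← ht, pow_orderOf_eq_one]

omit [Finite G] in
theorem mul_self_of_order_two {t : G} (ht : orderOf t = 2) : t * t = 1 := by
  rw [← sq, ← ht, pow_orderOf_eq_one]

theorem term_eq (t g : G) (χ : IrrCharacter G) :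
    (χ : G → ℂ) t ^ 2 / (χ : G → ℂ) 1 * (χ : G → ℂ) g =
      (Nat.card G : ℂ)⁻¹ * ∑ᶠ a : G, (χ : G → ℂ) (t * a * t * a⁻¹) * conj ((χ : G → ℂ) g⁻¹) := by
  classical
  have := Fintype.ofFinite G
  have hG : (Nat.card G : ℂ) ≠ 0 := by exact_mod_cast Nat.card_pos.ne'
  rw [finsum_eq_sum_of_fintype, ← Finset.sum_mul]
  have h1 := StructConst.sum_conj_mul χ.2 t t
  have h2 : ∑ a : G, (χ : G → ℂ) (t * a * t * a⁻¹) = ∑ b : G, (χ : G → ℂ) (t * (b * t * b⁻¹)) :=
    Finset.sum_congr rfl (fun a _ => by rw [mul_assoc, mul_assoc, mul_assoc])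
  rw [h2, h1, ← χ.2.isCharacter.inv, inv_inv]
  field_simp

/-- The class function `Σ χ(t)²/χ(1) χ` vanishes at elements not inverted by a conjugate of `t`. -/
theorem sum_eq_zero {t g : G} (ht : orderOf t = 2)
    (hno : ∀ h : G, (h * t * h⁻¹) * g * (h * t * h⁻¹)⁻¹ ≠ g⁻¹) :
    ∑ χ : IrrCharacter G, (χ : G → ℂ) t ^ 2 / (χ : G → ℂ) 1 * (χ : G → ℂ) g = 0 := by
  classical
  have := Fintype.ofFinite G
  simp only [term_eq, finsum_eq_sum_of_fintype]
  rw [← Finset.mul_sum, Finset.sum_comm]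
  have h2 : ∀ a : G, ∑ χ : IrrCharacter G, (χ : G → ℂ) (t * a * t * a⁻¹) * conj ((χ : G → ℂ) g⁻¹) = 0 := by
    intro a
    rw [column_orthogonality, if_neg]
    intro hc
    obtain ⟨h, hh⟩ := isConj_iff.mp hc
    apply hno h
    have hti := inv_of_order_two ht
    have hg : g = h * (t * a * t * a⁻¹)⁻¹ * h⁻¹ := by
      have := congrArg (fun x => x⁻¹) hh
      simp only [inv_inv] at this
      rw [← this]; group
    rw [← hh, hg]
    simp only [mul_inv_rev, inv_inv, hti]
    have htt : t * t = 1 := by rw [← sq, ← ht, pow_orderOf_eq_one]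
    calc h * t * h⁻¹ * (h * (a * (t * (a⁻¹ * t))) * h⁻¹) * (h * (t * h⁻¹))
        = h * t * (a * (t * (a⁻¹ * (t * t)))) * h⁻¹ := by group
      _ = _ := by rw [htt]; group
  simp only [h2, Finset.sum_const_zero, mul_zero]

omit [Finite G] in
theorem card_fiber (t s a0 : G) (h : a0 * t * a0⁻¹ = s) :
    Nat.card {a : G // a * t * a⁻¹ = s} = Nat.card (Subgroup.centralizer ({t} : Set G)) := by
  apply Nat.card_congr
  refine ⟨fun a => ⟨a0⁻¹ * a.1, ?_⟩, fun c => ⟨a0 * c.1, ?_⟩, ?_, ?_⟩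
  · rw [Subgroup.mem_centralizer_singleton_iff]
    have h1 : a.1 * t * a.1⁻¹ = a0 * t * a0⁻¹ := by rw [a.2, h]
    have h2 : a.1 * t = a0 * t * a0⁻¹ * a.1 := by rw [← h1]; group
    calc a0⁻¹ * a.1 * t = a0⁻¹ * (a.1 * t) := by group
      _ = t * (a0⁻¹ * a.1) := by rw [h2]; group
  · have h1 := Subgroup.mem_centralizer_singleton_iff.1 c.2
    calc a0 * c.1 * t * (a0 * c.1)⁻¹ = a0 * (c.1 * t) * c.1⁻¹ * a0⁻¹ := by group
      _ = a0 * t * a0⁻¹ := by rw [h1]; group
      _ = s := h
  · intro a; exact Subtype.ext (by simp)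
  · intro c; exact Subtype.ext (by simp)

/-- the number of `a` with `t · t^a` conjugate to `t` -/
theorem card_pairs {t : G} (ht : orderOf t = 2)
    (hcomm : ∀ a ∈ Subgroup.centralizer ({t} : Set G), ∀ b ∈ Subgroup.centralizer ({t} : Set G),
      a * b = b * a)
    (hconj : ∀ s ∈ Subgroup.centralizer ({t} : Set G), orderOf s = 2 → IsConj t s) :
    Nat.card {a : G // IsConj (t * a * t * a⁻¹) t⁻¹} =
      (Nat.card {s : G // s ∈ Subgroup.centralizer ({t} : Set G) ∧ orderOf s = 2} - 1) *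
        Nat.card (Subgroup.centralizer ({t} : Set G)) := by
  classical
  have := Fintype.ofFinite G
  have hti : t⁻¹ = t := inv_of_order_two ht
  have htt : t * t = 1 := by rw [← sq, ← ht, pow_orderOf_eq_one]
  have ht1 : t ≠ 1 := by rintro rfl; simp at ht
  have key : ∀ a : G, IsConj (t * a * t * a⁻¹) t⁻¹ ↔
      ((a * t * a⁻¹) ∈ Subgroup.centralizer ({t} : Set G) ∧ orderOf (a * t * a⁻¹) = 2 ∧
        a * t * a⁻¹ ≠ t) := by
    intro a
    have hoa : orderOf (a * t * a⁻¹) = 2 := by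
      rw [← ht]
      exact orderOf_injective (MulAut.conj a).toMonoidHom (MulAut.conj a).injective t
    set s := a * t * a⁻¹ with hs
    have hsi : s⁻¹ = s := inv_of_order_two hoa
    have hss : s * s = 1 := by rw [← sq, ← hoa, pow_orderOf_eq_one]
    have e : t * a * t * a⁻¹ = t * s := by rw [hs]; group
    rw [e, hti]
    constructor
    · intro h
      obtain ⟨c, hc⟩ := isConj_iff.1 h.symm
      have ho : orderOf (t * s) = 2 := by
        rw [← hc, ← ht]
        exact orderOf_injective (MulAut.conj c).toMonoidHom (MulAut.conj c).injective t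
      have h1 : (t * s) * (t * s) = 1 := by rw [← sq, ← ho, pow_orderOf_eq_one]
      refine ⟨?_, hoa, ?_⟩
      · rw [Subgroup.mem_centralizer_singleton_iff]
        calc s * t = t * (t * s * (t * s)) * s := by
              calc s * t = (t * t) * (s * t) * (s * s) := by rw [htt, hss]; group
                _ = t * (t * s * (t * s)) * s := by group
          _ = t * s := by rw [h1]; group
      · intro h2
        rw [h2, htt] at ho
        simp at ho
    · rintro ⟨h1, -, h3⟩
      have h2 := Subgroup.mem_centralizer_singleton_iff.1 h1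
      apply (hconj _ _ _).symm
      · rw [Subgroup.mem_centralizer_singleton_iff]
        rw [mul_assoc, h2]
      · rw [orderOf_eq_prime_iff (p := 2)]
        constructor
        · rw [sq]
          calc t * s * (t * s) = t * (s * t) * s := by group
            _ = t * t * (s * s) := by rw [h2]; group
            _ = 1 := by rw [htt, hss, mul_one]
        · intro h4
          apply h3
          have : s = t⁻¹ := (inv_eq_of_mul_eq_one_right h4).symm
          rw [this, hti]
  have e1 : {a : G // IsConj (t * a * t * a⁻¹) t⁻¹} ≃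
      Σ s : {s : {s : G // s ∈ Subgroup.centralizer ({t} : Set G) ∧ orderOf s = 2} // s.1 ≠ t},
        {a : G // a * t * a⁻¹ = s.1.1} :=
    { toFun := fun a => ⟨⟨⟨a.1 * t * a.1⁻¹, ((key a.1).1 a.2).1, ((key a.1).1 a.2).2.1⟩,
          ((key a.1).1 a.2).2.2⟩, ⟨a.1, rfl⟩⟩
      invFun := fun p => ⟨p.2.1, (key _).2 (by
        rw [p.2.2]; exact ⟨p.1.1.2.1, p.1.1.2.2, p.1.2⟩)⟩
      left_inv := fun a => rfl
      right_inv := by
        rintro ⟨⟨⟨s, h1, h2⟩, h3⟩, a, h4⟩
        dsimp only at h4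
        subst h4
        rfl }
  rw [Nat.card_congr e1, Nat.card_sigma]
  have h2 : ∀ s : {s : {s : G // s ∈ Subgroup.centralizer ({t} : Set G) ∧ orderOf s = 2} //
      s.1 ≠ t}, Nat.card {a : G // a * t * a⁻¹ = s.1.1} =
        Nat.card (Subgroup.centralizer ({t} : Set G)) := by
    rintro ⟨⟨s, h1, h2⟩, h3⟩
    obtain ⟨c, hc⟩ := isConj_iff.1 (hconj s h1 h2)
    exact card_fiber t s c hc
  rw [Finset.sum_congr rfl (fun s _ => h2 s), Finset.sum_const, smul_eq_mul, Finset.card_univ,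
    ← Nat.card_eq_fintype_card]
  congr 1
  have htm : t ∈ Subgroup.centralizer ({t} : Set G) ∧ orderOf t = 2 :=
    ⟨Subgroup.mem_centralizer_singleton_iff.2 rfl, ht⟩
  have e2 : {s : {s : G // s ∈ Subgroup.centralizer ({t} : Set G) ∧ orderOf s = 2} // s.1 ≠ t} ≃
      {s : {s : G // s ∈ Subgroup.centralizer ({t} : Set G) ∧ orderOf s = 2} // ¬ (s = ⟨t, htm⟩)} :=
    Equiv.subtypeEquivRight (fun s => by
      constructor
      · intro h1 h2; exact h1 (congrArg Subtype.val h2)
      · intro h1 h2; exact h1 (Subtype.ext h2))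
  rw [Nat.card_congr e2, Nat.card_eq_fintype_card, Fintype.card_subtype_compl,
    Fintype.card_subtype_eq, ← Nat.card_eq_fintype_card]

theorem card_centralizer_of_isConj {a b : G} (h : IsConj a b) :
    Nat.card (Subgroup.centralizer ({a} : Set G)) = Nat.card (Subgroup.centralizer ({b} : Set G)) := by
  have h5 := card_isConj_mul_card_centralizer a
  have h6 := card_isConj_mul_card_centralizer b
  have h7 : Nat.card {x : G // IsConj a x} = Nat.card {x : G // IsConj b x} := by
    apply Nat.card_congr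
    apply Equiv.subtypeEquivRight
    intro x
    exact ⟨fun h8 => h.symm.trans h8, fun h8 => h.trans h8⟩
  rw [h7, ← h6] at h5
  have h8 : 0 < Nat.card {x : G // IsConj b x} := by
    have : Nonempty {x : G // IsConj b x} := ⟨⟨b, IsConj.refl b⟩⟩
    exact Nat.card_pos
  exact Nat.eq_of_mul_eq_mul_left h8 h5

theorem sum_at_t {t : G} (ht : orderOf t = 2)
    (hcomm : ∀ a ∈ Subgroup.centralizer ({t} : Set G), ∀ b ∈ Subgroup.centralizer ({t} : Set G),
      a * b = b * a)
    (hconj : ∀ s ∈ Subgroup.centralizer ({t} : Set G), orderOf s = 2 → IsConj t s) :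
    (Nat.card G : ℂ) * ∑ χ : IrrCharacter G, (χ : G → ℂ) t ^ 2 / (χ : G → ℂ) 1 * (χ : G → ℂ) t =
      ((Nat.card {s : G // s ∈ Subgroup.centralizer ({t} : Set G) ∧ orderOf s = 2} - 1 : ℕ) : ℂ) *
        Nat.card (Subgroup.centralizer ({t} : Set G)) ^ 2 := by
  classical
  have := Fintype.ofFinite G
  have hti : t⁻¹ = t := inv_of_order_two ht
  have hG : (Nat.card G : ℂ) ≠ 0 := by exact_mod_cast Nat.card_pos.ne'
  simp only [term_eq, finsum_eq_sum_of_fintype]
  rw [← Finset.mul_sum, Finset.sum_comm, mul_inv_cancel_left₀ hG]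
  have h2 : ∀ a : G, ∑ χ : IrrCharacter G, (χ : G → ℂ) (t * a * t * a⁻¹) *
      conj ((χ : G → ℂ) t⁻¹) = if IsConj (t * a * t * a⁻¹) t⁻¹ then
        (Nat.card (Subgroup.centralizer ({t} : Set G)) : ℂ) else 0 := by
    intro a
    rw [column_orthogonality]
    by_cases h : IsConj (t * a * t * a⁻¹) t⁻¹
    · rw [if_pos h, if_pos h, card_centralizer_of_isConj h, hti]
    · rw [if_neg h, if_neg h]
  simp only [h2]
  rw [← Finset.sum_filter, Finset.sum_const, nsmul_eq_mul]
  have h3 : ((Finset.univ.filter (fun a : G => IsConj (t * a * t * a⁻¹) t⁻¹)).card : ℂ) =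
      (Nat.card {a : G // IsConj (t * a * t * a⁻¹) t⁻¹} : ℂ) := by
    rw [Nat.card_eq_fintype_card, Fintype.card_subtype]
  rw [h3, card_pairs ht hcomm hconj]
  push_cast
  ring

end Formula


section Main

variable {G : Type u} [Group G] [Fintype G]

/-- the irreducible characters of `N` that are nontrivial on `A` -/
abbrev Rel (A : Subgroup G) : Type u :=
  {χ : IrrCharacter (Subgroup.normalizer (A : Set G)) //
      ∃ k : Subgroup.normalizer (A : Set G), (k : G) ∈ A ∧
        (χ : ↥(Subgroup.normalizer (A : Set G)) → ℂ) k ≠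
          (χ : ↥(Subgroup.normalizer (A : Set G)) → ℂ) 1}

variable (A : Subgroup G)
  (hTI : ∀ g : G, g ∉ Subgroup.normalizer (A : Set G) → ∀ k ∈ A, g * k * g⁻¹ ∈ A → k = 1)
  (hC : ∀ k ∈ A, k ≠ 1 → Subgroup.centralizer ({k} : Set G) ≤ A)
  (hab : ∀ a ∈ A, ∀ b ∈ A, a * b = b * a)

include hC hab in
theorem rel_deg (χ : Rel A) : (χ.1 : ↥(Subgroup.normalizer (A : Set G)) → ℂ) 1 =
    ((A.subgroupOf (Subgroup.normalizer (A : Set G))).index : ℂ) := by
  classical
  have : Fintype (A.subgroupOf (Subgroup.normalizer (A : Set G))) := Fintype.ofFinite _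
  have : Fintype (Subgroup.normalizer (A : Set G)) := Fintype.ofFinite _
  have hn := normal_subgroupOf_normalizer' A
  obtain ⟨χ, k, hk, hk1⟩ := χ
  obtain ⟨θ, hθ, hθ1, hθd, hχ⟩ := eq_indFun (A.subgroupOf (Subgroup.normalizer (A : Set G)))
    (centralizer_le_subgroupOf A hC) (fun a ha b hb => Subtype.ext (hab a ha b hb)) χ.2 ⟨k, hk, hk1⟩
  change (χ : ↥(Subgroup.normalizer (A : Set G)) → ℂ) 1 = _
  rw [hχ, IndFun.indFun_one, hθd, mul_one]

include hC hab in
theorem card_rel : Nat.card (Rel A) * (A.subgroupOf (Subgroup.normalizer (A : Set G))).index + 1 =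
    Nat.card A := by
  classical
  have hn := normal_subgroupOf_normalizer' A
  set N := Subgroup.normalizer (A : Set G) with hN
  set K' := A.subgroupOf N with hK'
  have hcK : Nat.card K' = Nat.card A :=
    Nat.card_congr (Subgroup.subgroupOfEquivOfLe Subgroup.le_normalizer).toEquiv
  have : Fintype (Rel A) := Fintype.ofFinite _
  have hR : Fintype {χ : IrrCharacter N // ∃ k ∈ K', (χ : N → ℂ) k ≠ (χ : N → ℂ) 1} :=
    Fintype.ofFinite _
  have hsum := sum_sq_nontrivial K' (L := N)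
  have hconst : ∀ χ : {χ : IrrCharacter N // ∃ k ∈ K', (χ : N → ℂ) k ≠ (χ : N → ℂ) 1},
      (χ.1 : N → ℂ) 1 ^ 2 = (K'.index : ℂ) ^ 2 := by
    intro χ
    have := rel_deg A hC hab ⟨χ.1, χ.2⟩
    exact congrArg (fun z => z ^ 2) this
  rw [Finset.sum_congr rfl (fun χ _ => hconst χ), Finset.sum_const, Finset.card_univ,
    ← Nat.card_eq_fintype_card] at hsum
  have he : (K'.index : ℂ) ≠ 0 := by exact_mod_cast Subgroup.index_ne_zero_of_finite
  have h1 : Nat.card {χ : IrrCharacter N // ∃ k ∈ K', (χ : N → ℂ) k ≠ (χ : N → ℂ) 1} =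
    Nat.card (Rel A) := rfl
  rw [h1, ← Subgroup.card_mul_index K', hcK, nsmul_eq_mul] at hsum
  push_cast at hsum
  have h2 : (K'.index : ℂ) * (Nat.card (Rel A) * K'.index + 1 - Nat.card A) = 0 := by
    linear_combination hsum
  have h3 := (mul_eq_zero.mp h2).resolve_left he
  have h4 : (Nat.card (Rel A) : ℂ) * K'.index + 1 = Nat.card A := by linear_combination h3
  exact_mod_cast h4

include hC hab in
/-- splitting a sum over `Irr N` -/
theorem sum_split [instR : Fintype (Rel A)] {t : G} (htA : t ∈ A) (ht1 : t ≠ 1) :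
    (∑ χ : Rel A, (χ.1 : ↥(Subgroup.normalizer (A : Set G)) → ℂ)
      ⟨t, Subgroup.le_normalizer htA⟩ = -1) ∧
    (∑ χ : Rel A, (χ.1 : ↥(Subgroup.normalizer (A : Set G)) → ℂ)
      ⟨t, Subgroup.le_normalizer htA⟩ *
      conj ((χ.1 : ↥(Subgroup.normalizer (A : Set G)) → ℂ)
      ⟨t, Subgroup.le_normalizer htA⟩) = (Nat.card A : ℂ) -
        (A.subgroupOf (Subgroup.normalizer (A : Set G))).index) := by
  classical
  have hn := normal_subgroupOf_normalizer' A
  set N := Subgroup.normalizer (A : Set G) with hN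
  set K' := A.subgroupOf N with hK'
  set t' : N := ⟨t, Subgroup.le_normalizer htA⟩ with ht'
  have ht'1 : t' ≠ 1 := fun h => ht1 (congrArg Subtype.val h)
  have hcK : Nat.card K' = Nat.card A :=
    Nat.card_congr (Subgroup.subgroupOfEquivOfLe Subgroup.le_normalizer).toEquiv
  have he : (K'.index : ℂ) ≠ 0 := by exact_mod_cast Subgroup.index_ne_zero_of_finite
  -- the predicate
  let P : IrrCharacter N → Prop := fun χ => ∃ k : N, (k : G) ∈ A ∧ (χ : N → ℂ) k ≠ (χ : N → ℂ) 1
  have hPsub : ∀ F : IrrCharacter N → ℂ, ∑ χ ∈ Finset.univ.filter P, F χ = ∑ χ : Rel A, F χ.1 := by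
    intro F
    rw [Finset.sum_subtype (p := P)]
    intro ψ
    simp
  have hnot : ∀ χ : IrrCharacter N, ¬ P χ → ∀ k : N, (k : G) ∈ A → (χ : N → ℂ) k = (χ : N → ℂ) 1 := by
    intro χ h k hk
    by_contra h2
    exact h ⟨k, hk, h2⟩
  have hdeg : ∑ χ : Rel A, (χ.1 : N → ℂ) 1 ^ 2 = (Nat.card N : ℂ) - K'.index := by
    exact @sum_sq_nontrivial N _ _ K' hn instR
  have hall := sum_degree_sq (G := N)
  rw [← Finset.sum_filter_add_sum_filter_not Finset.univ P, hPsub (fun χ => (χ : N → ℂ) 1 ^ 2), hdeg]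
    at hall
  have hrest : ∑ χ ∈ Finset.univ.filter (fun χ => ¬ P χ), (χ : N → ℂ) 1 ^ 2 = K'.index := by
    linear_combination hall
  constructor
  · have h1 := sum_degree_mul (G := N) t' ht'1
    rw [← Finset.sum_filter_add_sum_filter_not Finset.univ P,
      hPsub (fun χ => (χ : N → ℂ) 1 * (χ : N → ℂ) t')] at h1
    have h2 : ∑ χ ∈ Finset.univ.filter (fun χ => ¬ P χ), (χ : N → ℂ) 1 * (χ : N → ℂ) t' =
        K'.index := by
      rw [← hrest]
      apply Finset.sum_congr rfl
      intro χ hχ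
      rw [hnot χ (Finset.mem_filter.1 hχ).2 t' htA, sq]
    have h3 : ∑ χ : Rel A, (χ.1 : N → ℂ) 1 * (χ.1 : N → ℂ) t' =
        K'.index * ∑ χ : Rel A, (χ.1 : N → ℂ) t' := by
      rw [Finset.mul_sum]
      apply Finset.sum_congr rfl
      intro χ _
      rw [rel_deg A hC hab χ]
    rw [h2, h3] at h1
    have h4 : (K'.index : ℂ) * (∑ χ : Rel A, (χ.1 : N → ℂ) t' + 1) = 0 := by
      linear_combination h1
    have h5 := (mul_eq_zero.mp h4).resolve_left he
    linear_combination h5
  · have h1 := column_orthogonality (G := N) t' t'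
    rw [if_pos (IsConj.refl _)] at h1
    have hcc : Nat.card (Subgroup.centralizer ({t'} : Set N)) = Nat.card A := by
      rw [← hcK]
      have h9 : Subgroup.centralizer ({t'} : Set N) = K' := by
        apply le_antisymm (centralizer_le_subgroupOf A hC t' htA ht'1)
        intro c hc
        rw [Subgroup.mem_centralizer_singleton_iff]
        exact Subtype.ext (hab c hc t htA)
      rw [h9]
    rw [hcc, ← Finset.sum_filter_add_sum_filter_not Finset.univ P,
      hPsub (fun χ => (χ : N → ℂ) t' * conj ((χ : N → ℂ) t'))] at h1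
    have h2 : ∑ χ ∈ Finset.univ.filter (fun χ => ¬ P χ), (χ : N → ℂ) t' * conj ((χ : N → ℂ) t') =
        K'.index := by
      rw [← hrest]
      apply Finset.sum_congr rfl
      intro χ hχ
      rw [hnot χ (Finset.mem_filter.1 hχ).2 t' htA]
      obtain ⟨n, -, hn⟩ := χ.2.exists_degree
      rw [hn]; simp [sq]
    rw [h2] at h1
    linear_combination h1

theorem recip {ψ : G → ℂ} (hψ : IsClassFunction G ψ) (N : Subgroup G) [Fintype N] (θ : N → ℂ) :
    classInner (fun x : N => ψ x) θ = classInner ψ (indFun N θ) := by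
  rw [← conj_classInner (indFun N θ), IndFun.frobenius_reciprocity N θ ψ hψ, conj_classInner]

include hC hab in
/-- a class function of `N` having the same inner product with all relevant characters is constant
on `A \ {1}`. -/
theorem const_of [Fintype (Subgroup.normalizer (A : Set G))] (ξ₀ : Rel A)
    {F : Subgroup.normalizer (A : Set G) → ℂ} (hF : IsClassFunction _ F)
    (h : ∀ ξ : Rel A, classInner F (ξ.1 : ↥(Subgroup.normalizer (A : Set G)) → ℂ) =
      classInner F (ξ₀.1 : ↥(Subgroup.normalizer (A : Set G)) → ℂ)) :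
    ∃ C : ℂ, (∀ k : Subgroup.normalizer (A : Set G), (k : G) ∈ A → k ≠ 1 → F k = C) ∧
      (IsGeneralizedCharacter _ F → ∃ m : ℤ, C = m) := by
  classical
  have hn := normal_subgroupOf_normalizer' A
  have : Fintype (A.subgroupOf (Subgroup.normalizer (A : Set G))) := Fintype.ofFinite _
  have he : ((A.subgroupOf (Subgroup.normalizer (A : Set G))).index : ℂ) ≠ 0 := by
    exact_mod_cast Subgroup.index_ne_zero_of_finite
  set c := classInner F (ξ₀.1 : ↥(Subgroup.normalizer (A : Set G)) → ℂ) with hc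
  have h1 := const_of_proportional (A.subgroupOf (Subgroup.normalizer (A : Set G))) F hF
    (c / (A.subgroupOf (Subgroup.normalizer (A : Set G))).index) (by
      intro χ hχ hk
      have h2 := h ⟨⟨χ, hχ⟩, hk⟩
      have h3 := rel_deg A hC hab ⟨⟨χ, hχ⟩, hk⟩
      change χ 1 = _ at h3
      rw [h3, div_mul_cancel₀ _ he]
      exact h2)
  refine ⟨_, fun k hk hk1 => h1 ⟨k, hk⟩ (fun h => hk1 (congrArg Subtype.val h)), ?_⟩
  intro hgen
  rw [div_mul_cancel₀ _ he]
  obtain ⟨m1, hm1⟩ := hgen.classInner_int ξ₀.1.2.isGeneralized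
  obtain ⟨m2, hm2⟩ := (hgen.restrict (A.subgroupOf (Subgroup.normalizer (A : Set G)))).classInner_int
    isGeneralized_one
  refine ⟨m2 - m1, ?_⟩
  push_cast
  rw [← hm1, ← hm2]

omit [Fintype G] in
include hab in
/-- number of involutions plus one divides `|A|`, and is even -/
theorem card_inv_dvd [Finite G] {t : G} (htA : t ∈ A) (ht : orderOf t = 2) :
    (Nat.card {s : G // s ∈ A ∧ orderOf s = 2} + 1) ∣ Nat.card A ∧
      Even (Nat.card {s : G // s ∈ A ∧ orderOf s = 2} + 1) := by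
  classical
  have := Fintype.ofFinite G
  let V : Subgroup G :=
    { carrier := {x | x ∈ A ∧ x * x = 1}
      mul_mem' := by
        rintro a b ⟨ha, ha1⟩ ⟨hb, hb1⟩
        refine ⟨A.mul_mem ha hb, ?_⟩
        calc a * b * (a * b) = a * (b * a) * b := by group
          _ = (a * a) * (b * b) := by rw [hab b hb a ha]; group
          _ = 1 := by rw [ha1, hb1, mul_one]
      one_mem' := ⟨A.one_mem, by simp⟩
      inv_mem' := by
        rintro a ⟨ha, ha1⟩
        refine ⟨A.inv_mem ha, ?_⟩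
        rw [← mul_inv_rev, ha1, inv_one] }
  have hVA : V ≤ A := fun x hx => hx.1
  have hcard : Nat.card V = Nat.card {s : G // s ∈ A ∧ orderOf s = 2} + 1 := by
    have e : {s : G // s ∈ A ∧ orderOf s = 2} ≃ {x : V // ¬ x = 1} :=
      { toFun := fun s => ⟨⟨s.1, s.2.1, mul_self_of_order_two s.2.2⟩, by
          intro h
          have h1 : s.1 = 1 := congrArg Subtype.val h
          have h2 := s.2.2
          rw [h1] at h2; simp at h2⟩
        invFun := fun x => ⟨x.1.1, x.1.2.1, by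
          rw [orderOf_eq_prime_iff (p := 2), sq]
          exact ⟨x.1.2.2, fun h => x.2 (Subtype.ext h)⟩⟩
        left_inv := fun s => rfl
        right_inv := fun x => rfl }
    rw [Nat.card_congr e, Nat.card_eq_fintype_card, Nat.card_eq_fintype_card,
      Fintype.card_subtype_compl, Fintype.card_subtype_eq]
    have : 0 < Fintype.card V := Fintype.card_pos
    omega
  rw [← hcard]
  refine ⟨Subgroup.card_dvd_of_le hVA, ?_⟩
  have h1 : orderOf (⟨t, htA, mul_self_of_order_two ht⟩ : V) = 2 :=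
    (Subgroup.orderOf_coe _).symm.trans ht
  rw [even_iff_two_dvd, ← h1]
  exact orderOf_dvd_natCard _

omit [Fintype G] in
include hC hab in
/-- the index of `A` in its normalizer is the number of involutions of `A` -/
theorem index_eq [Finite G] {t : G} (htA : t ∈ A) (ht : orderOf t = 2)
    (hfus : ∀ s ∈ A, orderOf s = 2 → ∃ g ∈ Subgroup.normalizer (A : Set G), g * t * g⁻¹ = s) :
    (A.subgroupOf (Subgroup.normalizer (A : Set G))).index =
      Nat.card {s : G // s ∈ A ∧ orderOf s = 2} := by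
  have hn := normal_subgroupOf_normalizer' A
  set N := Subgroup.normalizer (A : Set G) with hN
  set K' := A.subgroupOf N with hK'
  set t' : N := ⟨t, Subgroup.le_normalizer htA⟩ with ht'
  have ht1 : t ≠ 1 := by rintro rfl; simp at ht
  have ht'1 : t' ≠ 1 := fun h => ht1 (congrArg Subtype.val h)
  have h9 : Subgroup.centralizer ({t'} : Set N) = K' := by
    apply le_antisymm (centralizer_le_subgroupOf A hC t' htA ht'1)
    intro c hc
    rw [Subgroup.mem_centralizer_singleton_iff]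
    exact Subtype.ext (hab c hc t htA)
  have h1 := card_isConj_mul_card_centralizer t'
  rw [h9, mul_comm, ← Subgroup.card_mul_index K'] at h1
  have h2 := Nat.eq_of_mul_eq_mul_left (Nat.card_pos) h1
  rw [← h2]
  apply Nat.card_congr
  exact
    { toFun := fun x => ⟨x.1.1, by
        obtain ⟨c, hc⟩ := isConj_iff.1 x.2
        rw [← hc]
        exact hn.conj_mem t' htA c, by
        obtain ⟨c, hc⟩ := isConj_iff.1 x.2
        rw [← hc, ← ht]
        exact orderOf_injective (MulAut.conj (c : G)).toMonoidHom (MulAut.conj (c : G)).injective t⟩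
      invFun := fun s => ⟨⟨s.1, Subgroup.le_normalizer s.2.1⟩, by
        obtain ⟨g, hg, hgs⟩ := hfus s.1 s.2.1 s.2.2
        exact isConj_iff.2 ⟨⟨g, hg⟩, Subtype.ext hgs⟩⟩
      left_inv := fun x => rfl
      right_inv := fun s => rfl }

include hTI hC hab in
/-- The exceptional characters, with their values on `A`. -/
theorem exc [Fintype (Subgroup.normalizer (A : Set G))] (h2 : 2 ≤ Nat.card (Rel A)) :
    ∃ (ε : ℂ) (f : Rel A → IrrCharacter G) (m : ℤ) (z : ℕ), (ε = 1 ∨ ε = -1) ∧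
      Function.Injective f ∧ (∀ χ, (f χ : G → ℂ) 1 = z) ∧
      (∀ (χ : Rel A) (k : Subgroup.normalizer (A : Set G)), (k : G) ∈ A → k ≠ 1 →
        (f χ : G → ℂ) k = ε * ((χ.1 : ↥(Subgroup.normalizer (A : Set G)) → ℂ) k + m)) ∧
      (∀ ψ : IrrCharacter G, (∀ χ, ψ ≠ f χ) → ∃ C : ℂ, ∀ k ∈ A, k ≠ 1 → (ψ : G → ℂ) k = C) ∧
      (∀ χ, f χ ≠ ⟨1, isIrrCharacter_one⟩) := by
  classical
  have hn := normal_subgroupOf_normalizer' A
  set N := Subgroup.normalizer (A : Set G) with hN
  set K' := A.subgroupOf N with hK'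
  have hcK : Nat.card K' = Nat.card A :=
    Nat.card_congr (Subgroup.subgroupOfEquivOfLe Subgroup.le_normalizer).toEquiv
  have he : (K'.index : ℂ) ≠ 0 := by exact_mod_cast Subgroup.index_ne_zero_of_finite
  have hcr := card_rel A hC hab
  have : Fintype (Rel A) := Fintype.ofFinite _
  obtain ⟨ε, f, hε, hfi, hf⟩ : ∃ (ε : ℂ) (f : Rel A → IrrCharacter G), (ε = 1 ∨ ε = -1) ∧
      Function.Injective f ∧ ∀ χ ξ : Rel A, indFun N ((χ.1 : N → ℂ) - (ξ.1 : N → ℂ)) =
        ε • ((f χ : G → ℂ) - (f ξ : G → ℂ)) := by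
    rcases abelian_exceptional A hTI hC hab with h | h
    · exfalso
      have h3 := h.1
      change Nat.card (Rel A) = 1 at h3
      omega
    · exact h
  have hεε : ε * ε = 1 := by rcases hε with h | h <;> simp [h]
  have hεc : conj ε = ε := by rcases hε with h | h <;> simp [h]
  obtain ⟨χ₀, χ₁, hχ01⟩ : ∃ a b : Rel A, a ≠ b := by
    rw [Nat.card_eq_fintype_card] at h2
    exact Fintype.exists_pair_of_one_lt_card (by omega)
  have hvan : ∀ (χ : Rel A) (y : N), (y : G) ∉ A → (χ.1 : N → ℂ) y = 0 := by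
    rintro ⟨χ, k, hk, hk1⟩ y hy
    exact vanish_off K' (centralizer_le_subgroupOf A hC) χ.2 ⟨k, hk, hk1⟩ hy
  have hdiffcf : ∀ χ ξ : Rel A, IsClassFunction N ((χ.1 : N → ℂ) - (ξ.1 : N → ℂ)) :=
    fun χ ξ => χ.1.2.isClassFunction.sub ξ.1.2.isClassFunction
  have hdiff1 : ∀ χ ξ : Rel A, ((χ.1 : N → ℂ) - (ξ.1 : N → ℂ)) 1 = 0 := by
    intro χ ξ
    have h3 := rel_deg A hC hab χ
    have h4 := rel_deg A hC hab ξ
    rw [Pi.sub_apply, h3, h4, sub_self]
  have hdiff : ∀ (χ ξ : Rel A) (k : N), ε * ((f χ : G → ℂ) k - (f ξ : G → ℂ) k) =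
      (χ.1 : N → ℂ) k - (ξ.1 : N → ℂ) k := by
    intro χ ξ k
    have h3 := congrFun (hf χ ξ) (k : G)
    rw [indFun_eq A hTI hC _ (hdiffcf χ ξ) (fun y hy => by
      rw [Pi.sub_apply, hvan χ y hy, hvan ξ y hy, sub_self]) (hdiff1 χ ξ)] at h3
    simp only [Pi.sub_apply, Pi.smul_apply, smul_eq_mul] at h3
    exact h3.symm
  -- degrees
  have hdeg : ∀ χ ξ : Rel A, (f χ : G → ℂ) 1 = (f ξ : G → ℂ) 1 := by
    intro χ ξ
    have h3 := congrFun (hf χ ξ) 1
    rw [IndFun.indFun_one, hdiff1, mul_zero, Pi.smul_apply, smul_eq_mul, Pi.sub_apply] at h3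
    have hε0 : ε ≠ 0 := by rintro rfl; simp at hεε
    have h4 := (mul_eq_zero.1 h3.symm).resolve_left hε0
    exact sub_eq_zero.1 h4
  obtain ⟨z, -, hz⟩ := (f χ₀).2.exists_degree
  -- inner products
  have hinner : ∀ (ψ : IrrCharacter G) (χ ξ : Rel A),
      classInner (fun y : N => (ψ : G → ℂ) y) ((χ.1 : N → ℂ) - (ξ.1 : N → ℂ)) =
        ε * (classInner (ψ : G → ℂ) (f χ : G → ℂ) - classInner (ψ : G → ℂ) (f ξ : G → ℂ)) := by
    intro ψ χ ξ
    rw [recip ψ.2.isClassFunction, hf, classInner_smul_right, hεc, classInner_sub_right]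
  have hgencf : ∀ χ : Rel A, IsGeneralizedCharacter N (fun y : N => ε * (f χ : G → ℂ) y -
      (χ.1 : N → ℂ) y) := by
    intro χ
    have h3 : IsGeneralizedCharacter N (fun y : N => (f χ : G → ℂ) y) :=
      (f χ).2.isGeneralized.restrict N
    rcases hε with h | h
    · have := h3.sub χ.1.2.isGeneralized
      convert this using 1
      funext y
      simp [h]
    · have := (h3.neg).sub χ.1.2.isGeneralized
      convert this using 1
      funext y
      simp [h]
  have hconst : ∀ χ : Rel A, ∃ m : ℤ, ∀ k : N, (k : G) ∈ A → k ≠ 1 →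
      ε * (f χ : G → ℂ) k - (χ.1 : N → ℂ) k = m := by
    intro χ
    obtain ⟨C, hC1, hC2⟩ := const_of A hC hab χ₀ (hgencf χ).isClassFunction (by
      intro ξ
      have h3 := hinner (f χ) ξ χ₀
      have e1 : (fun y : N => ε * (f χ : G → ℂ) y - (χ.1 : N → ℂ) y) =
        ε • (fun y : N => (f χ : G → ℂ) y) - (χ.1 : N → ℂ) := by
        funext y; simp
      rw [e1, classInner_sub_left, classInner_smul_left, classInner_sub_left,
        classInner_smul_left]
      rw [classInner_sub_right] at h3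
      have h4 : classInner (f χ : G → ℂ) (f ξ : G → ℂ) = classInner (χ.1 : N → ℂ) (ξ.1 : N → ℂ) := by
        rw [irr_orthonormal, irr_orthonormal]
        by_cases h : χ = ξ
        · rw [h]; simp
        · rw [if_neg (fun h' => h (hfi h')), if_neg (fun h' => h (Subtype.ext h'))]
      have h5 : classInner (f χ : G → ℂ) (f χ₀ : G → ℂ) = classInner (χ.1 : N → ℂ) (χ₀.1 : N → ℂ) := by
        rw [irr_orthonormal, irr_orthonormal]
        by_cases h : χ = χ₀
        · rw [h]; simp
        · rw [if_neg (fun h' => h (hfi h')), if_neg (fun h' => h (Subtype.ext h'))]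
      rw [h4, h5] at h3
      linear_combination ε * h3 + (classInner (χ.1 : N → ℂ) (ξ.1 : N → ℂ) -
        classInner (χ.1 : N → ℂ) (χ₀.1 : N → ℂ)) * hεε)
    obtain ⟨m, hm⟩ := hC2 (hgencf χ)
    exact ⟨m, fun k hk hk1 => by rw [← hm]; exact hC1 k hk hk1⟩
  obtain ⟨m, hm⟩ := hconst χ₀
  have hval : ∀ (χ : Rel A) (k : N), (k : G) ∈ A → k ≠ 1 →
      (f χ : G → ℂ) k = ε * ((χ.1 : N → ℂ) k + m) := by
    intro χ k hk hk1
    have h3 := hm k hk hk1
    have h4 := hdiff χ χ₀ k
    linear_combination ε * h3 + ε * h4 + (-(f χ : G → ℂ) k) * hεε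
  refine ⟨ε, f, m, z, hε, hfi, fun χ => by rw [hdeg χ χ₀, hz], hval, ?_, ?_⟩
  · intro ψ hψ
    obtain ⟨C, hC1, -⟩ := const_of A hC hab χ₀ (F := fun y : N => (ψ : G → ℂ) y)
      (ψ.2.isClassFunction.restrict N) (by
        intro ξ
        have h3 := hinner ψ ξ χ₀
        rw [irr_orthonormal, irr_orthonormal, if_neg (hψ ξ), if_neg (hψ χ₀),
          classInner_sub_right, sub_self, mul_zero] at h3
        exact sub_eq_zero.1 h3)
    exact ⟨C, fun k hk hk1 => hC1 ⟨k, Subgroup.le_normalizer hk⟩ hk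
      (fun h => hk1 (congrArg Subtype.val h))⟩
  · intro χ hχ
    -- `χ` is constant on `A \ {1}`
    have h3 : ∀ k : N, (k : G) ∈ A → k ≠ 1 → (χ.1 : N → ℂ) k = ε - m := by
      intro k hk hk1
      have h4 := hval χ k hk hk1
      rw [hχ] at h4
      simp only [Pi.one_apply] at h4
      linear_combination (-ε) * h4 + (-(χ.1 : N → ℂ) k - m) * hεε
    have h4 : classInner (χ.1 : N → ℂ) (1 : N → ℂ) = 0 := by
      have := irr_orthonormal χ.1 ⟨1, isIrrCharacter_one⟩
      rw [if_neg] at this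
      · exact this
      · intro h5
        obtain ⟨k, hk, hk1⟩ := χ.2
        rw [h5] at hk1
        exact hk1 rfl
    have h5 : ∑ y : N, (χ.1 : N → ℂ) y = 0 := by
      rw [classInner_def] at h4
      have h6 : ((Nat.card N : ℂ))⁻¹ ≠ 0 := inv_ne_zero (by exact_mod_cast Nat.card_pos.ne')
      have h7 := (mul_eq_zero.1 h4).resolve_left h6
      rw [← h7]
      apply Finset.sum_congr rfl
      intro y _
      simp
    have h6 : ∑ y : N, (χ.1 : N → ℂ) y = K'.index + (Nat.card A - 1 : ℂ) * (ε - m) := by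
      rw [← Finset.sum_filter_add_sum_filter_not Finset.univ (fun y : N => (y : G) ∈ A)]
      have h7 : ∑ y ∈ Finset.univ.filter (fun y : N => ¬ (y : G) ∈ A), (χ.1 : N → ℂ) y = 0 :=
        Finset.sum_eq_zero (fun y hy => hvan χ y (Finset.mem_filter.1 hy).2)
      rw [h7, add_zero, ← Finset.add_sum_erase _ _ (a := (1 : N)) (by simp [A.one_mem])]
      rw [rel_deg A hC hab χ]
      congr 1
      have h8 : ∀ y ∈ (Finset.univ.filter (fun y : N => (y : G) ∈ A)).erase 1,
          (χ.1 : N → ℂ) y = ε - m := by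
        intro y hy
        rw [Finset.mem_erase, Finset.mem_filter] at hy
        exact h3 y hy.2.2 hy.1
      rw [Finset.sum_congr rfl h8, Finset.sum_const, nsmul_eq_mul]
      congr 1
      rw [Finset.card_erase_of_mem (by simp [A.one_mem])]
      have h9 : (Finset.univ.filter (fun y : N => (y : G) ∈ A)).card = Nat.card A := by
        rw [← hcK, Nat.card_eq_fintype_card, ← Fintype.card_subtype]
        rfl
      rw [h9]
      have h10 : 1 ≤ Nat.card A := Nat.card_pos
      push_cast [h10]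
      ring
    rw [h5] at h6
    -- `a - 1 = ω e`
    have h7 : (Nat.card A : ℂ) - 1 = Nat.card (Rel A) * K'.index := by
      rw [← hcr]; push_cast; ring
    rw [h7] at h6
    have h8 : (K'.index : ℂ) * (1 + Nat.card (Rel A) * (ε - m)) = 0 := by
      linear_combination -h6
    have h9 := (mul_eq_zero.1 h8).resolve_left he
    obtain ⟨e', he'⟩ : ∃ e' : ℤ, ε = e' := by
      rcases hε with h | h
      · exact ⟨1, by simp [h]⟩
      · exact ⟨-1, by simp [h]⟩
    rw [he'] at h9
    have h10 : (1 : ℤ) + Nat.card (Rel A) * (e' - m) = 0 := by exact_mod_cast h9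
    have h11 : (Nat.card (Rel A) : ℤ) ∣ 1 := ⟨-(e' - m), by linear_combination h10⟩
    have h12 := Int.le_of_dvd one_pos h11
    omega

set_option maxHeartbeats 2000000 in
include hTI hC hab in
/-- the contradiction -/
theorem false_of {t : G} (htA : t ∈ A) (ht : orderOf t = 2)
    (hfus : ∀ s ∈ A, orderOf s = 2 → ∃ g ∈ Subgroup.normalizer (A : Set G), g * t * g⁻¹ = s)
    {s₀ : G} (hs₀ : s₀ ∈ A) (hs₀2 : orderOf s₀ = 2) (hs₀t : s₀ ≠ t)
    (hbig : Nat.card A ^ 2 < Nat.card G) {x : G} (hx : x ∈ A) (hx2 : x * x ≠ 1) : False := by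
  classical
  have hn := normal_subgroupOf_normalizer' A
  set N := Subgroup.normalizer (A : Set G) with hN
  set K' := A.subgroupOf N with hK'
  have : Fintype N := Fintype.ofFinite _
  have : Fintype (Rel A) := Fintype.ofFinite _
  set t' : N := ⟨t, Subgroup.le_normalizer htA⟩ with ht'
  set x' : N := ⟨x, Subgroup.le_normalizer hx⟩ with hx'
  have ht1 : t ≠ 1 := by rintro rfl; simp at ht
  have hx1 : x ≠ 1 := by rintro rfl; simp at hx2
  have ht'1 : t' ≠ 1 := fun h => ht1 (congrArg Subtype.val h)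
  have hx'1 : x' ≠ 1 := fun h => hx1 (congrArg Subtype.val h)
  have ht'2 : orderOf t' = 2 := (Subgroup.orderOf_coe _).symm.trans ht
  have hcK : Nat.card K' = Nat.card A :=
    Nat.card_congr (Subgroup.subgroupOfEquivOfLe Subgroup.le_normalizer).toEquiv
  obtain ⟨hdvd, heven⟩ := card_inv_dvd A hab htA ht
  have hindex := index_eq A hC hab htA ht hfus
  set n := Nat.card {s : G // s ∈ A ∧ orderOf s = 2} with hn'
  -- at least two involutions
  have hn2 : 2 ≤ n := by
    have : ({⟨t, htA, ht⟩, ⟨s₀, hs₀, hs₀2⟩} : Finset {s : G // s ∈ A ∧ orderOf s = 2}).card ≤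
        Fintype.card {s : G // s ∈ A ∧ orderOf s = 2} := Finset.card_le_univ _
    rw [Finset.card_pair (fun h => hs₀t (congrArg Subtype.val h).symm)] at this
    rwa [hn', Nat.card_eq_fintype_card]
  have hodd : ¬ 2 ∣ n := by
    rintro ⟨k, hk⟩
    obtain ⟨l, hl⟩ := heven
    omega
  -- centralizers
  have hCt : Subgroup.centralizer ({t} : Set G) = A := by
    apply le_antisymm (hC t htA ht1)
    intro c hc
    rw [Subgroup.mem_centralizer_singleton_iff]
    exact hab c hc t htA
  have hCt' : Subgroup.centralizer ({t'} : Set N) = K' := by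
    apply le_antisymm (centralizer_le_subgroupOf A hC t' htA ht'1)
    intro c hc
    rw [Subgroup.mem_centralizer_singleton_iff]
    exact Subtype.ext (hab c hc t htA)
  -- an involution inverting x is in A
  have hinv : ∀ w : G, orderOf w = 2 → w * x * w⁻¹ ≠ x⁻¹ := by
    intro w hw h
    have hwN : w ∈ N := by
      by_contra hcon
      exact hx1 (hTI w hcon x hx (by rw [h]; exact A.inv_mem hx))
    have hwA : w ∈ A := by
      by_contra hwA
      apply hodd
      rw [← hindex, Subgroup.index_eq_card]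
      have h1 : orderOf (QuotientGroup.mk' K' ⟨w, hwN⟩) = 2 := by
        rw [orderOf_eq_prime_iff (p := 2)]
        constructor
        · rw [← map_pow]
          have : (⟨w, hwN⟩ : N) ^ 2 = 1 := Subtype.ext (by
            show w ^ 2 = 1
            rw [← hw, pow_orderOf_eq_one])
          rw [this, map_one]
        · intro h2
          rw [QuotientGroup.mk'_apply, QuotientGroup.eq_one_iff] at h2
          exact hwA h2
      rw [← h1]
      exact orderOf_dvd_natCard _
    apply hx2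
    rw [hab w hwA x hx, mul_inv_cancel_right] at h
    exact mul_eq_one_iff_eq_inv.2 h
  have hcx : ∑ χ : IrrCharacter G, (χ : G → ℂ) t ^ 2 / (χ : G → ℂ) 1 * (χ : G → ℂ) x = 0 := by
    apply sum_eq_zero ht
    intro h
    apply hinv
    rw [← ht]
    exact orderOf_injective (MulAut.conj h).toMonoidHom (MulAut.conj h).injective t
  have hcx' : ∑ χ : IrrCharacter N, (χ : N → ℂ) t' ^ 2 / (χ : N → ℂ) 1 * (χ : N → ℂ) x' = 0 := by
    apply sum_eq_zero ht'2
    intro h h2
    apply hinv (h * t' * h⁻¹ : N)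
    · rw [← ht]
      exact orderOf_injective (MulAut.conj (h : G)).toMonoidHom (MulAut.conj (h : G)).injective t
    · exact congrArg Subtype.val h2
  have hct := sum_at_t (G := G) ht (by rw [hCt]; exact hab) (by
    rw [hCt]
    intro s hs hs2
    obtain ⟨g, -, hg⟩ := hfus s hs hs2
    exact isConj_iff.2 ⟨g, hg⟩)
  have hct' := sum_at_t (G := N) ht'2 (by
      rw [hCt']; exact fun a ha b hb => Subtype.ext (hab a ha b hb)) (by
    rw [hCt']
    intro s hs hs2
    obtain ⟨g, hgN, hg⟩ := hfus s hs (by rw [← hs2]; exact Subgroup.orderOf_coe _)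
    exact isConj_iff.2 ⟨⟨g, hgN⟩, Subtype.ext hg⟩)
  rw [hCt] at hct
  rw [hCt', hcK] at hct'
  have hnN : Nat.card {s : N // s ∈ K' ∧ orderOf s = 2} = n := by
    apply Nat.card_congr
    exact
      { toFun := fun s => ⟨s.1.1, s.2.1, (Subgroup.orderOf_coe _).trans s.2.2⟩
        invFun := fun s => ⟨⟨s.1, Subgroup.le_normalizer s.2.1⟩, s.2.1,
          (Subgroup.orderOf_coe _).symm.trans s.2.2⟩
        left_inv := fun _ => rfl
        right_inv := fun _ => rfl }
  rw [hnN] at hct'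
  set a := Nat.card A with ha
  have hapos : 0 < a := Nat.card_pos
  have haC : (a : ℂ) ≠ 0 := by exact_mod_cast hapos.ne'
  have hcr : Nat.card (Rel A) * n + 1 = a := by rw [← hindex]; exact card_rel A hC hab
  set ω := Nat.card (Rel A) with hω
  have hNcard : Nat.card N = a * n := by
    rw [← Subgroup.card_mul_index K', hcK, hindex]
  have hnC : (n : ℂ) ≠ 0 := by exact_mod_cast (by omega : n ≠ 0)
  have hn1C : ((n - 1 : ℕ) : ℂ) ≠ 0 := by exact_mod_cast (by omega : n - 1 ≠ 0)
  -- `a ≥ n + 2`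
  have han : n + 2 ≤ a := by
    have e1 : {s : G // s ∈ A ∧ orderOf s = 2} ≃ {y : A // orderOf y = 2} :=
      { toFun := fun s => ⟨⟨s.1, s.2.1⟩, (Subgroup.orderOf_coe _).symm.trans s.2.2⟩
        invFun := fun y => ⟨y.1.1, y.1.2, (Subgroup.orderOf_coe _).trans y.2⟩
        left_inv := fun _ => rfl
        right_inv := fun _ => rfl }
    have h1 : n = Fintype.card {y : A // orderOf y = 2} := by
      rw [hn', Nat.card_congr e1, Nat.card_eq_fintype_card]
    have h2 : Fintype.card A = Fintype.card {y : A // orderOf y = 2} +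
        Fintype.card {y : A // ¬ orderOf y = 2} := by
      rw [Fintype.card_subtype_compl]
      have := Fintype.card_subtype_le (fun y : A => orderOf y = 2)
      omega
    have h3 : 2 ≤ Fintype.card {y : A // ¬ orderOf y = 2} := by
      have h4 : ({⟨1, by simp⟩, ⟨⟨x, hx⟩, by
          intro h5
          have h6 : orderOf x = 2 := (Subgroup.orderOf_coe (⟨x, hx⟩ : A)).trans h5
          exact hx2 (mul_self_of_order_two h6)⟩} :
          Finset {y : A // ¬ orderOf y = 2}).card ≤ _ := Finset.card_le_univ _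
      rw [Finset.card_pair] at h4
      · exact h4
      · intro h5
        have h6 : (1 : A) = ⟨x, hx⟩ := congrArg Subtype.val h5
        exact hx1 (congrArg Subtype.val h6).symm
    rw [ha, Nat.card_eq_fintype_card, h2, ← h1]
    omega
  -- `ω ≥ n + 2`
  have hω2 : n + 2 ≤ ω := by
    have h1 : ω ≠ 0 := by
      intro h; rw [h] at hcr; omega
    have h2 : ω ≠ 1 := by
      intro h; rw [h] at hcr; omega
    have h3 : (n + 1) ∣ (ω - 1) := by
      have h4 : (n + 1) ∣ ω * (n + 1) := Dvd.intro_left _ rfl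
      have h5 : ω * (n + 1) = a + (ω - 1) := by
        rw [← hcr, Nat.mul_add]; omega
      rw [h5] at h4
      exact (Nat.dvd_add_right hdvd).1 h4
    have h4 := Nat.le_of_dvd (by omega) h3
    omega
  -- the sum over the relevant characters in N
  have hV : ∑ χ : Rel A, (χ.1 : N → ℂ) t' ^ 2 * ((χ.1 : N → ℂ) t' - (χ.1 : N → ℂ) x') =
      ((n - 1 : ℕ) : ℂ) * a := by
    let P : IrrCharacter N → Prop := fun χ => ∃ k : N, (k : G) ∈ A ∧
      (χ : N → ℂ) k ≠ (χ : N → ℂ) 1
    have h1 : ∑ χ : IrrCharacter N, (χ : N → ℂ) t' ^ 2 / (χ : N → ℂ) 1 *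
        ((χ : N → ℂ) t' - (χ : N → ℂ) x') = ((n - 1 : ℕ) : ℂ) * a ^ 2 / (a * n) := by
      rw [eq_div_iff (mul_ne_zero haC hnC), ← hct', hNcard]
      have h2 : ∑ χ : IrrCharacter N, (χ : N → ℂ) t' ^ 2 / (χ : N → ℂ) 1 *
        ((χ : N → ℂ) t' - (χ : N → ℂ) x') = ∑ χ : IrrCharacter N, (χ : N → ℂ) t' ^ 2 /
          (χ : N → ℂ) 1 * (χ : N → ℂ) t' - ∑ χ : IrrCharacter N, (χ : N → ℂ) t' ^ 2 /
          (χ : N → ℂ) 1 * (χ : N → ℂ) x' := by
        rw [← Finset.sum_sub_distrib]
        exact Finset.sum_congr rfl (fun χ _ => by ring)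
      rw [h2, hcx', sub_zero]
      push_cast
      ring
    have h3 : ∑ χ : IrrCharacter N, (χ : N → ℂ) t' ^ 2 / (χ : N → ℂ) 1 *
        ((χ : N → ℂ) t' - (χ : N → ℂ) x') = ∑ χ : Rel A, (χ.1 : N → ℂ) t' ^ 2 / (n : ℂ) *
        ((χ.1 : N → ℂ) t' - (χ.1 : N → ℂ) x') := by
      rw [← Finset.sum_filter_add_sum_filter_not Finset.univ P]
      have h4 : ∑ χ ∈ Finset.univ.filter (fun χ => ¬ P χ), (χ : N → ℂ) t' ^ 2 / (χ : N → ℂ) 1 *
        ((χ : N → ℂ) t' - (χ : N → ℂ) x') = 0 := by
        apply Finset.sum_eq_zero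
        intro χ hχ
        have h5 := (Finset.mem_filter.1 hχ).2
        have h6 : ∀ k : N, (k : G) ∈ A → (χ : N → ℂ) k = (χ : N → ℂ) 1 := by
          intro k hk
          by_contra h7
          exact h5 ⟨k, hk, h7⟩
        rw [h6 t' htA, h6 x' hx, sub_self, mul_zero]
      rw [h4, add_zero, Finset.sum_subtype (p := P)]
      · apply Finset.sum_congr rfl
        intro χ _
        have h7 := rel_deg A hC hab χ
        rw [hindex] at h7
        rw [h7]
      · intro ψ; simp
    rw [h3] at h1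
    have h8 : ∑ χ : Rel A, (χ.1 : N → ℂ) t' ^ 2 / (n : ℂ) *
        ((χ.1 : N → ℂ) t' - (χ.1 : N → ℂ) x') = (n : ℂ)⁻¹ * ∑ χ : Rel A, (χ.1 : N → ℂ) t' ^ 2 *
        ((χ.1 : N → ℂ) t' - (χ.1 : N → ℂ) x') := by
      rw [Finset.mul_sum]
      exact Finset.sum_congr rfl (fun χ _ => by ring)
    rw [h8] at h1
    field_simp at h1
    linear_combination h1
  obtain ⟨ε, f, m, z, hε, hfi, hfz, hval, hnon, hne1⟩ := exc A hTI hC hab (by omega)
  have hεε : ε * ε = 1 := by rcases hε with h | h <;> simp [h]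
  have hεc : conj ε = ε := by rcases hε with h | h <;> simp [h]
  obtain ⟨hs1, hs2⟩ := sum_split A hC hab htA ht1
  rw [hindex, ← ha] at hs2
  -- `m = 0`
  have hm0 : m = 0 := by
    have h1 := column_orthogonality (G := G) t t
    rw [if_pos (IsConj.refl _), hCt] at h1
    -- as real sums
    have hsq : ∀ z : ℂ, z * conj z = ((‖z‖ ^ 2 : ℝ) : ℂ) := fun z => by
      rw [Complex.mul_conj, Complex.normSq_eq_norm_sq]
    have h2 : ∑ ψ : IrrCharacter G, ‖(ψ : G → ℂ) t‖ ^ 2 = (a : ℝ) := by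
      simp only [hsq] at h1
      exact_mod_cast h1
    have h3 : ∑ χ : Rel A, ‖(f χ : G → ℂ) t‖ ^ 2 + 1 ≤ (a : ℝ) := by
      rw [← h2]
      have h4 : ∑ χ : Rel A, ‖(f χ : G → ℂ) t‖ ^ 2 =
          ∑ ψ ∈ Finset.univ.image f, ‖(ψ : G → ℂ) t‖ ^ 2 := by
        rw [Finset.sum_image (fun a _ b _ h => hfi h)]
      have h5 : (⟨1, isIrrCharacter_one⟩ : IrrCharacter G) ∉ Finset.univ.image f := by
        intro h
        obtain ⟨χ, -, hχ⟩ := Finset.mem_image.1 h
        exact hne1 χ hχ
      have h6 : ∑ ψ ∈ insert (⟨1, isIrrCharacter_one⟩ : IrrCharacter G) (Finset.univ.image f),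
          ‖(ψ : G → ℂ) t‖ ^ 2 ≤ ∑ ψ : IrrCharacter G, ‖(ψ : G → ℂ) t‖ ^ 2 :=
        Finset.sum_le_sum_of_subset_of_nonneg (Finset.subset_univ _)
          (fun _ _ _ => by positivity)
      rw [Finset.sum_insert h5] at h6
      simp only [Pi.one_apply, norm_one, one_pow] at h6
      rw [h4]
      linarith
    have h4 : ((∑ χ : Rel A, ‖(f χ : G → ℂ) t‖ ^ 2 : ℝ) : ℂ) =
        (a : ℂ) - n - 2 * m + m ^ 2 * ω := by
      push_cast
      have h5 : ∀ χ : Rel A, ((‖(f χ : G → ℂ) t‖ : ℂ)) ^ 2 = (χ.1 : N → ℂ) t' *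
          conj ((χ.1 : N → ℂ) t') + m * (χ.1 : N → ℂ) t' + m * conj ((χ.1 : N → ℂ) t') + m ^ 2 := by
        intro χ
        have h6 := hsq ((f χ : G → ℂ) t)
        push_cast at h6
        rw [← h6]
        have h7 := hval χ t' htA ht'1
        change (f χ : G → ℂ) t = _ at h7
        rw [h7, map_mul, map_add, hεc, map_intCast]
        linear_combination ((χ.1 : N → ℂ) t' + m) * (conj ((χ.1 : N → ℂ) t') + m) * hεε
      simp only [h5]
      rw [Finset.sum_add_distrib, Finset.sum_add_distrib, Finset.sum_add_distrib,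
        ← Finset.mul_sum, ← Finset.mul_sum, hs1, hs2, ← map_sum, hs1, Finset.sum_const,
        Finset.card_univ, nsmul_eq_mul, hω, Nat.card_eq_fintype_card (α := Rel A), map_neg, map_one]
      ring
    have h5 : ∑ χ : Rel A, ‖(f χ : G → ℂ) t‖ ^ 2 = (a : ℝ) - n - 2 * m + m ^ 2 * ω := by
      have h6 := h4
      exact_mod_cast h6
    rw [h5] at h3
    have h6 : ((a : ℤ) - n - 2 * m + m ^ 2 * ω) + 1 ≤ a := by exact_mod_cast h3
    have h7 : (n : ℤ) + 2 ≤ ω := by exact_mod_cast hω2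
    have h8 : (2 : ℤ) ≤ n := by exact_mod_cast hn2
    by_contra hm
    rcases lt_or_gt_of_ne hm with h9 | h9
    · have h10 : m ≤ -1 := by linarith
      have h11 : (1 : ℤ) ≤ m ^ 2 := by nlinarith
      have h12 : (ω : ℤ) ≤ m ^ 2 * ω := by nlinarith
      linarith
    · have h10 : (1 : ℤ) ≤ m := h9
      have h11 : m * (m * ω - 2) ≤ n - 1 := by linarith [h6]
      have h12 : (n : ℤ) ≤ m * ω - 2 := by nlinarith
      have h13 : m * ω - 2 ≤ m * (m * ω - 2) := by nlinarith
      linarith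
  subst hm0
  simp only [Int.cast_zero, add_zero] at hval
  -- the sum in `G`
  have hS : ∑ ψ : IrrCharacter G, (ψ : G → ℂ) t ^ 2 / (ψ : G → ℂ) 1 *
      ((ψ : G → ℂ) t - (ψ : G → ℂ) x) = ε / z * (((n - 1 : ℕ) : ℂ) * a) := by
    rw [← hV, Finset.mul_sum]
    have h1 : ∑ χ : Rel A, ε / (z : ℂ) * ((χ.1 : N → ℂ) t' ^ 2 *
        ((χ.1 : N → ℂ) t' - (χ.1 : N → ℂ) x')) = ∑ χ : Rel A, (f χ : G → ℂ) t ^ 2 /
        (f χ : G → ℂ) 1 * ((f χ : G → ℂ) t - (f χ : G → ℂ) x) := by
      apply Finset.sum_congr rfl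
      intro χ _
      have h7 := hval χ t' htA ht'1
      change (f χ : G → ℂ) t = _ at h7
      have h8 := hval χ x' hx hx'1
      change (f χ : G → ℂ) x = _ at h8
      rw [h7, h8, hfz]
      have h9 : (ε * (χ.1 : N → ℂ) t') ^ 2 = (χ.1 : N → ℂ) t' ^ 2 := by
        linear_combination (χ.1 : N → ℂ) t' ^ 2 * hεε
      rw [h9]
      ring
    rw [h1]
    have h2 : ∑ χ : Rel A, (f χ : G → ℂ) t ^ 2 / (f χ : G → ℂ) 1 *
        ((f χ : G → ℂ) t - (f χ : G → ℂ) x) = ∑ ψ ∈ Finset.univ.image f,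
        (ψ : G → ℂ) t ^ 2 / (ψ : G → ℂ) 1 * ((ψ : G → ℂ) t - (ψ : G → ℂ) x) := by
      rw [Finset.sum_image (fun a _ b _ h => hfi h)]
    rw [h2]
    symm
    apply Finset.sum_subset (Finset.subset_univ _)
    intro ψ _ hψ
    obtain ⟨C, hC'⟩ := hnon ψ (fun χ h => hψ (Finset.mem_image.2 ⟨χ, Finset.mem_univ _, h.symm⟩))
    rw [hC' t htA ht1, hC' x hx hx1, sub_self, mul_zero]
  have hS2 : (Nat.card G : ℂ) * (ε / z * (((n - 1 : ℕ) : ℂ) * a)) = ((n - 1 : ℕ) : ℂ) * a ^ 2 := by
    rw [← hS]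
    have h2 : ∑ χ : IrrCharacter G, (χ : G → ℂ) t ^ 2 / (χ : G → ℂ) 1 *
        ((χ : G → ℂ) t - (χ : G → ℂ) x) = ∑ χ : IrrCharacter G, (χ : G → ℂ) t ^ 2 /
          (χ : G → ℂ) 1 * (χ : G → ℂ) t - ∑ χ : IrrCharacter G, (χ : G → ℂ) t ^ 2 /
          (χ : G → ℂ) 1 * (χ : G → ℂ) x := by
      rw [← Finset.sum_sub_distrib]
      exact Finset.sum_congr rfl (fun χ _ => by ring)
    rw [h2, hcx, sub_zero]
    exact hct
  obtain ⟨χ₀⟩ : Nonempty (Rel A) := by
    apply (Nat.card_pos_iff.1 (by omega : 0 < Nat.card (Rel A))).1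
  have hz0 : (z : ℂ) ≠ 0 := by
    rw [← hfz χ₀]; exact (f χ₀).2.one_ne_zero
  have hza : (Nat.card G : ℂ) * ε = z * a := by
    field_simp at hS2
    linear_combination hS2
  have hsq : Nat.card G ^ 2 = z ^ 2 * a ^ 2 := by
    have h3 : ((Nat.card G : ℂ)) ^ 2 = (z : ℂ) ^ 2 * a ^ 2 := by
      linear_combination ((Nat.card G : ℂ) * ε + z * a) * hza - (Nat.card G : ℂ) ^ 2 * hεε
    exact_mod_cast h3
  have hz2 : z ^ 2 ≤ Nat.card G := by
    have h1 := sum_degree_sq (G := G)
    choose d hd1 hd2 using fun ψ : IrrCharacter G => ψ.2.exists_degree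
    have h2 : ∑ ψ : IrrCharacter G, d ψ ^ 2 = Nat.card G := by
      have : ((∑ ψ : IrrCharacter G, d ψ ^ 2 : ℕ) : ℂ) = (Nat.card G : ℂ) := by
        rw [← h1]
        push_cast
        exact Finset.sum_congr rfl (fun ψ _ => by rw [hd2])
      exact_mod_cast this
    have h3 : d (f χ₀) = z := by
      have := hfz χ₀
      rw [hd2] at this
      exact_mod_cast this
    rw [← h2, ← h3]
    exact Finset.single_le_sum (f := fun ψ => d ψ ^ 2) (fun _ _ => Nat.zero_le _)
      (Finset.mem_univ (f χ₀))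
  have h10 : Nat.card G ^ 2 ≤ Nat.card G * a ^ 2 := by
    rw [hsq]; exact Nat.mul_le_mul_right _ hz2
  rw [sq] at h10
  have h11 := Nat.le_of_mul_le_mul_left h10 Nat.card_pos
  omega

include hTI hC hab in
/-- An abelian T.I. subgroup `A` containing the centralizers of its nonidentity elements, with at
least two involutions, all conjugate in `N(A)`, is an elementary abelian 2-group, if
`|A|² < |G|`. -/
theorem sq_eq_one {t : G} (htA : t ∈ A) (ht : orderOf t = 2)
    (hfus : ∀ s ∈ A, orderOf s = 2 → ∃ g ∈ Subgroup.normalizer (A : Set G), g * t * g⁻¹ = s)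
    {s₀ : G} (hs₀ : s₀ ∈ A) (hs₀2 : orderOf s₀ = 2) (hs₀t : s₀ ≠ t)
    (hbig : Nat.card A ^ 2 < Nat.card G) : ∀ x ∈ A, x * x = 1 := by
  intro x hx
  by_contra hx2
  exact false_of A hTI hC hab htA ht hfus hs₀ hs₀2 hs₀t hbig hx hx2

end Main

end Cfsg.Agent.Lib.AbTI
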