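import Cfsg.Agent.Lib.ElemCent3
import Cfsg.Agent.Lib.AbTI
import Cfsg.Agent.Lib.UniqueInvolution

/-!
# Groups in which the centralizer of every involution is abelian, part 1 (helper68)
-/

set_option autoImplicit false

namespace Cfsg.Agent.Lib.AbCent

open MulAction Cfsg.Agent.Lib.InvAct Cfsg.Agent.Lib.StrongEmbPt
open Cfsg.Agent.Lib.ElemCent (Pts base inverts_of_fpf mem_sylow_of_normalizer)

variable {G : Type*} [Group G] [Finite G] (T : Sylow 2 G)
  (hnc : ¬ IsCyclic (T : Subgroup G)) (hnn : ¬ (T : Subgroup G).Normal)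
  (hC : ∀ t : G, orderOf t = 2 → ∀ a ∈ Subgroup.centralizer ({t} : Set G),
    ∀ b ∈ Subgroup.centralizer ({t} : Set G), a * b = b * a)

/-- the centralizer of the Sylow 2-subgroup -/
abbrev AA (T : Sylow 2 G) : Subgroup G := Subgroup.centralizer ((T : Subgroup G) : Set G)

/-- the normalizer of the Sylow 2-subgroup -/
abbrev MM (T : Sylow 2 G) : Subgroup G := Subgroup.normalizer ((T : Subgroup G) : Set G)

theorem AA_le_MM : AA T ≤ MM T := by
  intro x hx
  apply Cfsg.Agent.Lib.SylowTools.mem_normalizer_of_forall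
  intro y hy
  have := Subgroup.mem_centralizer_iff.1 hx y hy
  rw [← this, mul_inv_cancel_right]
  exact hy

include hnc in
theorem exists_central : ∃ z ∈ (T : Subgroup G), orderOf z = 2 ∧
    (T : Subgroup G) ≤ Subgroup.centralizer ({z} : Set G) := by
  have : Fact (Nat.Prime 2) := ⟨Nat.prime_two⟩
  have hnt : Nontrivial (T : Subgroup G) := by
    by_contra h
    rw [not_nontrivial_iff_subsingleton] at h
    exact hnc inferInstance
  have h1 : Nontrivial (Subgroup.center (T : Subgroup G)) := T.2.center_nontrivial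
  have h2 : Even (Nat.card (Subgroup.center (T : Subgroup G))) := by
    have h3 : IsPGroup 2 (Subgroup.center (T : Subgroup G)) := T.2.to_subgroup _
    obtain ⟨n, hn⟩ := h3.exists_card_eq
    rw [hn]
    have hn0 : n ≠ 0 := by
      rintro rfl
      rw [pow_zero, Nat.card_eq_one_iff_unique] at hn
      exact not_subsingleton _ hn.1
    exact (Nat.even_pow).2 ⟨even_two, hn0⟩
  obtain ⟨z, hz, hzo⟩ := exists_involution h2
  have hzo' : orderOf (z : G) = 2 := by rw [Subgroup.orderOf_coe]; exact hzo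
  refine ⟨z, z.2, hzo', ?_⟩
  intro y hy
  rw [Subgroup.mem_centralizer_singleton_iff]
  have := Subgroup.mem_center_iff.1 hz ⟨y, hy⟩
  exact congrArg Subtype.val this

include hC hnc in
theorem sylow_comm {x y : G} (hx : x ∈ (T : Subgroup G)) (hy : y ∈ (T : Subgroup G)) :
    x * y = y * x := by
  obtain ⟨z, -, hzo, hz⟩ := exists_central T hnc
  exact hC z hzo x (hz hx) y (hz hy)

include hC hnc in
theorem le_AA : (T : Subgroup G) ≤ AA T := by
  intro x hx
  rw [Subgroup.mem_centralizer_iff]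
  intro y hy
  exact sylow_comm T hnc hC hy hx

include hC hnc in
theorem centralizer_eq {x : G} (hx : x ∈ (T : Subgroup G)) (h2 : orderOf x = 2) :
    Subgroup.centralizer ({x} : Set G) = AA T := by
  apply le_antisymm
  · intro c hc
    rw [Subgroup.mem_centralizer_iff]
    intro y hy
    exact hC x h2 y (by
      rw [Subgroup.mem_centralizer_singleton_iff]; exact sylow_comm T hnc hC hy hx) c hc
  · intro c hc
    rw [Subgroup.mem_centralizer_singleton_iff]
    exact (Subgroup.mem_centralizer_iff.1 hc x hx).symm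

include hC hnc in
theorem AA_comm {a b : G} (ha : a ∈ AA T) (hb : b ∈ AA T) : a * b = b * a := by
  obtain ⟨z, hzT, hzo, -⟩ := exists_central T hnc
  rw [← centralizer_eq T hnc hC hzT hzo] at ha hb
  exact hC z hzo a ha b hb

include hC hnc in
theorem mem_normalizer {x g : G} (hx : x ∈ (T : Subgroup G)) (h2 : orderOf x = 2)
    (hg : g * x * g⁻¹ ∈ (T : Subgroup G)) : g ∈ MM T := by
  have : Fact (Nat.Prime 2) := ⟨Nat.prime_two⟩
  have h3 : orderOf (g * x * g⁻¹) = 2 := by rw [Cfsg.Agent.Lib.SylowTools.orderOf_conj', h2]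
  have h4 : (T : Subgroup G).map (MulAut.conj g).toMonoidHom ≤ MM T := by
    rintro _ ⟨y, hy, rfl⟩
    apply AA_le_MM
    rw [← centralizer_eq T hnc hC hg h3, Subgroup.mem_centralizer_singleton_iff]
    have := sylow_comm T hnc hC hy hx
    show g * y * g⁻¹ * (g * x * g⁻¹) = g * x * g⁻¹ * (g * y * g⁻¹)
    calc g * y * g⁻¹ * (g * x * g⁻¹) = g * (y * x) * g⁻¹ := by group
      _ = g * (x * y) * g⁻¹ := by rw [this]
      _ = g * x * g⁻¹ * (g * y * g⁻¹) := by group
  have h5 : IsPGroup 2 ((T : Subgroup G).map (MulAut.conj g).toMonoidHom) := T.2.map _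
  have h6 : (T : Subgroup G).map (MulAut.conj g).toMonoidHom ⊓ MM T = _ :=
    h5.inf_normalizer_sylow T
  rw [inf_eq_left.2 h4] at h6
  apply Cfsg.Agent.Lib.SylowTools.mem_normalizer_of_forall
  intro y hy
  have h7 : g * y * g⁻¹ ∈ (T : Subgroup G).map (MulAut.conj g).toMonoidHom := ⟨y, hy, rfl⟩
  rw [h6] at h7
  exact h7.2

include hC hnc hnn in
theorem stronglyEmbedded : Cfsg.IsStronglyEmbedded (MM T) := by
  apply of_fix
  · intro h
    exact hnn (Subgroup.normalizer_eq_top_iff.1 h)
  · obtain ⟨z, hzT, hz, -⟩ := exists_central T hnc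
    have hzN : z ∈ MM T := Subgroup.le_normalizer hzT
    have : orderOf (⟨z, hzN⟩ : MM T) ∣ Nat.card (MM T) := orderOf_dvd_natCard _
    rw [Subgroup.orderOf_mk, hz] at this
    exact even_iff_two_dvd.2 this
  · intro x g hx hxN hgN
    have hxT := mem_sylow_of_normalizer T hx hxN
    have hgT := mem_sylow_of_normalizer T (x := g * x * g⁻¹)
      (by rw [Cfsg.Agent.Lib.SylowTools.orderOf_conj', hx]) hgN
    exact mem_normalizer T hnc hC hxT hx hgT

include hnc hnn hC in
theorem uf : UniqueFix G (Pts T) := uniqueFix (stronglyEmbedded T hnc hnn hC)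

theorem invFix_base : invSwap G (base T) (base T) = {t | t ∈ (T : Subgroup G) ∧ orderOf t = 2} := by
  ext t
  constructor
  · rintro ⟨h1, h2⟩
    exact ⟨mem_sylow_of_normalizer T h1 ((smul_one_eq_iff t).1 h2), h1⟩
  · rintro ⟨h1, h2⟩
    refine ⟨h2, ?_⟩
    rw [smul_one_eq_iff]
    exact Subgroup.le_normalizer h1

include hnn in
theorem exists_ne_base : ∃ y : Pts T, base T ≠ y := by
  by_contra hcon
  push Not at hcon
  apply hnn
  rw [← Subgroup.normalizer_eq_top_iff, eq_top_iff]
  intro g _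
  have := hcon (QuotientGroup.mk g)
  rw [QuotientGroup.eq] at this
  simpa using this

include hnc hnn hC in
theorem isConj_inv {s t : G} (hs : orderOf s = 2) (ht : orderOf t = 2) : IsConj s t := by
  obtain ⟨y, hy⟩ := exists_ne_base T hnn
  exact isConj_involutions (uf T hnc hnn hC) hy hs ht

include hnc hnn hC in
/-- involutions of `T` are conjugate in `N(T)` -/
theorem exists_conj {s t : G} (hsT : s ∈ (T : Subgroup G)) (hs : orderOf s = 2)
    (htT : t ∈ (T : Subgroup G)) (ht : orderOf t = 2) : ∃ g ∈ MM T, g * s * g⁻¹ = t := by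
  obtain ⟨g, hg⟩ := isConj_iff.1 (isConj_inv T hnc hnn hC hs ht)
  exact ⟨g, mem_normalizer T hnc hC hsT hs (by rw [hg]; exact htT), hg⟩

include hC hnc in
theorem MM_le_normalizer_AA : MM T ≤ Subgroup.normalizer (AA T : Set G) := by
  intro m hm
  apply Cfsg.Agent.Lib.SylowTools.mem_normalizer_of_forall
  intro a ha
  rw [Subgroup.mem_centralizer_iff] at ha ⊢
  intro y hy
  have h1 : m⁻¹ * y * m ∈ (T : Subgroup G) := by
    have := (Subgroup.mem_normalizer_iff.1 ((MM T).inv_mem hm) y).1 hy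
    simpa using this
  have h2 := ha _ h1
  calc y * (m * a * m⁻¹) = m * (m⁻¹ * y * m * a) * m⁻¹ := by group
    _ = m * (a * (m⁻¹ * y * m)) * m⁻¹ := by rw [h2]
    _ = m * a * m⁻¹ * y := by group

include hC hnc in
/-- a second involution -/
theorem exists_second {t : G} (htT : t ∈ (T : Subgroup G)) (ht : orderOf t = 2) :
    ∃ s ∈ (T : Subgroup G), orderOf s = 2 ∧ s ≠ t := by
  have : Fact (Nat.Prime 2) := ⟨Nat.prime_two⟩
  by_contra hcon
  push Not at hcon
  apply hnc
  have h1 := Cfsg.Agent.Lib.UniqueInvolution.cyclic_of_comm (p := 2) (A := (T : Subgroup G)) T.2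
    (fun x y => Subtype.ext (sylow_comm T hnc hC x.2 y.2)) (by
      intro x y hx hy
      have h2 := hcon x x.2 (by rw [Subgroup.orderOf_coe]; exact hx)
      have h3 := hcon y y.2 (by rw [Subgroup.orderOf_coe]; exact hy)
      have : y = x := Subtype.ext (h3.trans h2.symm)
      rw [this]
      exact Subgroup.mem_zpowers x)
  obtain ⟨a, ha⟩ := h1
  exact ⟨⟨a, ha⟩⟩

include hnc hnn hC in
/-- order of `N(T)` -/
theorem card_MM {t : G} (htT : t ∈ (T : Subgroup G)) (ht : orderOf t = 2) :
    Nat.card (MM T) = (invSwap G (base T) (base T)).ncard * Nat.card (AA T) := by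
  rw [card_conj_orbit (MM T) t, invFix_base, centralizer_eq T hnc hC htT ht,
    inf_eq_right.2 (AA_le_MM T)]
  congr 2
  ext s
  constructor
  · rintro ⟨k, hk, rfl⟩
    refine ⟨(Subgroup.mem_normalizer_iff.1 hk t).1 htT, ?_⟩
    rw [Cfsg.Agent.Lib.SylowTools.orderOf_conj', ht]
  · rintro ⟨h1, h2⟩
    exact exists_conj T hnc hnn hC htT ht h1 h2

end Cfsg.Agent.Lib.AbCent
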