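import Cfsg.Agent.Lib.AbCent1

/-!
# Groups in which the centralizer of every involution is abelian, part 2 (helper68)

The case in which `C(T)` is a T.I. subgroup.
-/

set_option autoImplicit false

namespace Cfsg.Agent.Lib.AbCent

open MulAction Cfsg.Agent.Lib.InvAct Cfsg.Agent.Lib.StrongEmbPt
open Cfsg.Agent.Lib.ElemCent (Pts base inverts_of_fpf mem_sylow_of_normalizer)

variable {G : Type*} [Group G] [Finite G] (T : Sylow 2 G)
  (hnc : ¬ IsCyclic (T : Subgroup G)) (hnn : ¬ (T : Subgroup G).Normal)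
  (hC : ∀ t : G, orderOf t = 2 → ∀ a ∈ Subgroup.centralizer ({t} : Set G),
    ∀ b ∈ Subgroup.centralizer ({t} : Set G), a * b = b * a)
  (hTI : ∀ g : G, g ∉ MM T → ∀ k ∈ AA T, g * k * g⁻¹ ∈ AA T → k = 1)

include hC hnc hTI in
theorem normalizer_AA : Subgroup.normalizer (AA T : Set G) = MM T := by
  apply le_antisymm _ (MM_le_normalizer_AA T hnc hC)
  intro g hg
  by_contra hgM
  obtain ⟨z, hzT, hz, -⟩ := exists_central T hnc
  have h1 := hTI g hgM z (le_AA T hnc hC hzT)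
    ((Subgroup.mem_normalizer_iff.1 hg z).1 (le_AA T hnc hC hzT))
  rw [h1] at hz
  simp at hz

include hTI in
theorem cent_le {x : G} (hx : x ∈ AA T) (hx1 : x ≠ 1) : Subgroup.centralizer ({x} : Set G) ≤ MM T := by
  intro c hc
  by_contra hcM
  apply hx1
  apply hTI c hcM x hx
  rw [Subgroup.mem_centralizer_singleton_iff.1 hc, mul_inv_cancel_right]
  exact hx

include hnc hnn hC hTI in
/-- if `1 ≠ y ∈ C(u)` and `c ∈ C(y)` then `c` normalizes `C(u)` -/
theorem conj_comm {u y c : G} (hu : orderOf u = 2) (hy : y * u = u * y) (hy1 : y ≠ 1)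
    (hc : c * y = y * c) : (c * u * c⁻¹) * u = u * (c * u * c⁻¹) := by
  obtain ⟨t, htT, ht, -⟩ := exists_central T hnc
  obtain ⟨g, hg⟩ := isConj_iff.1 (isConj_inv T hnc hnn hC ht hu)
  have hu' : u = g * t * g⁻¹ := hg.symm
  have h1 : g⁻¹ * y * g ∈ AA T := by
    rw [← centralizer_eq T hnc hC htT ht, Subgroup.mem_centralizer_singleton_iff]
    calc g⁻¹ * y * g * t = g⁻¹ * (y * (g * t * g⁻¹)) * g := by group
      _ = g⁻¹ * ((g * t * g⁻¹) * y) * g := by rw [hg, hy]
      _ = t * (g⁻¹ * y * g) := by group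
  have h2 : g⁻¹ * c * g ∈ MM T := by
    apply cent_le T hTI h1
    · intro h
      apply hy1
      have : y = g * (g⁻¹ * y * g) * g⁻¹ := by group
      rw [this, h]; simp
    · rw [Subgroup.mem_centralizer_singleton_iff]
      calc g⁻¹ * c * g * (g⁻¹ * y * g) = g⁻¹ * (c * y) * g := by group
        _ = g⁻¹ * (y * c) * g := by rw [hc]
        _ = g⁻¹ * y * g * (g⁻¹ * c * g) := by group
  have h3 : (g⁻¹ * c * g) * t * (g⁻¹ * c * g)⁻¹ ∈ (T : Subgroup G) :=
    (Subgroup.mem_normalizer_iff.1 h2 t).1 htT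
  have h4 := sylow_comm T hnc hC h3 htT
  have h5 : c * u * c⁻¹ = g * ((g⁻¹ * c * g) * t * (g⁻¹ * c * g)⁻¹) * g⁻¹ := by
    rw [hu']; group
  rw [h5, hu']
  calc g * ((g⁻¹ * c * g) * t * (g⁻¹ * c * g)⁻¹) * g⁻¹ * (g * t * g⁻¹)
      = g * (((g⁻¹ * c * g) * t * (g⁻¹ * c * g)⁻¹) * t) * g⁻¹ := by group
    _ = g * (t * ((g⁻¹ * c * g) * t * (g⁻¹ * c * g)⁻¹)) * g⁻¹ := by rw [h4]
    _ = _ := by group

theorem eq_one_of_odd_sq {G : Type*} [Group G] [Finite G] {e : G} (he : Odd (orderOf e))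
    (h : e ^ 2 = 1) : e = 1 := by
  have h1 := orderOf_dvd_of_pow_eq_one h
  rcases (Nat.dvd_prime Nat.prime_two).1 h1 with h2 | h2
  · exact orderOf_eq_one_iff.1 h2
  · rw [h2] at he
    exact absurd he (by decide)

include hnc hnn hC hTI in
/-- `C(e) ∩ C(u) = 1` if `u` inverts `e ≠ 1` of odd order. -/
theorem cent_inf {u e y : G} (hu : orderOf u = 2) (he : Odd (orderOf e))
    (hinv : u * e * u⁻¹ = e⁻¹) (hye : y * e = e * y) (hyu : y * u = u * y) (he1 : e ≠ 1) :
    y = 1 := by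
  by_contra hy1
  have h1 := conj_comm T hnc hnn hC hTI hu hyu hy1 hye.symm
  have hui : u⁻¹ = u := inv_eq_self_of_orderOf_eq_two hu
  have huu : u * u = 1 := (orderOf_two_iff.1 hu).1
  have h2 : u * e = e⁻¹ * u := mul_inv_eq_iff_eq_mul.1 hinv
  have h3 : u * e⁻¹ = e * u := by
    have : e⁻¹ * u = u * e := h2.symm
    calc u * e⁻¹ = e * (e⁻¹ * u) * e⁻¹ := by group
      _ = e * (u * e) * e⁻¹ := by rw [this]
      _ = e * u := by group
  have h4 : e * u * e⁻¹ = e ^ 2 * u := by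
    rw [mul_assoc, h3, sq]; group
  rw [h4] at h1
  have h5 : e ^ 2 = e⁻¹ ^ 2 := by
    calc e ^ 2 = e ^ 2 * u * u := by rw [mul_assoc, huu, mul_one]
      _ = u * (e ^ 2 * u) := h1
      _ = (u * e) * e * u := by rw [sq]; group
      _ = (e⁻¹ * u) * e * u := by rw [h2]
      _ = e⁻¹ * (u * e) * u := by group
      _ = e⁻¹ * (e⁻¹ * u) * u := by rw [h2]
      _ = e⁻¹ * e⁻¹ * (u * u) := by group
      _ = e⁻¹ ^ 2 := by rw [huu, mul_one, sq]
  have h6 : (e ^ 2) ^ 2 = 1 := by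
    calc (e ^ 2) ^ 2 = e ^ 2 * e ^ 2 := sq _
      _ = e⁻¹ ^ 2 * e ^ 2 := by nth_rewrite 1 [h5]; rfl
      _ = 1 := by group
  apply he1
  apply eq_one_of_odd_sq he
  apply eq_one_of_odd_sq _ h6
  exact he.of_dvd_nat (orderOf_pow_dvd 2)

include hnc hnn hC hTI in
/-- `C(e)` is inverted by `u` if `u` inverts `e ≠ 1` of odd order. -/
theorem cent_inverted {u e : G} (hu : orderOf u = 2) (he : Odd (orderOf e))
    (hinv : u * e * u⁻¹ = e⁻¹) (he1 : e ≠ 1) :
    ∀ c ∈ Subgroup.centralizer ({e} : Set G), u * c * u⁻¹ = c⁻¹ := by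
  apply inverts_of_fpf hu
  · intro k hk
    rw [Subgroup.mem_centralizer_singleton_iff] at hk ⊢
    have hui : u⁻¹ = u := inv_eq_self_of_orderOf_eq_two hu
    have h1 : e = u * e⁻¹ * u⁻¹ := by
      calc e = (e⁻¹)⁻¹ := (inv_inv e).symm
        _ = (u * e * u⁻¹)⁻¹ := by rw [hinv]
        _ = _ := by group
    have h2 : k * e⁻¹ = e⁻¹ * k := by
      calc k * e⁻¹ = e⁻¹ * (e * k) * e⁻¹ := by group
        _ = e⁻¹ * (k * e) * e⁻¹ := by rw [hk]
        _ = e⁻¹ * k := by group
    rw [h1]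
    calc u * k * u⁻¹ * (u * e⁻¹ * u⁻¹) = u * (k * e⁻¹) * u⁻¹ := by group
      _ = u * (e⁻¹ * k) * u⁻¹ := by rw [h2]
      _ = _ := by group
  · intro k hk huk
    exact cent_inf T hnc hnn hC hTI hu he hinv (Subgroup.mem_centralizer_singleton_iff.1 hk)
      huk.symm he1

include hnc hnn hC in
theorem odd_inf {g : G} (hg : g ∉ MM T) {x : G} (hx : x ∈ MM T) (hgx : g * x * g⁻¹ ∈ MM T) :
    Odd (orderOf x) := by
  have h1 := (stronglyEmbedded T hnc hnn hC).2.2 g⁻¹ (fun h => hg (by simpa using (MM T).inv_mem h))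
  have h2 : x ∈ MM T ⊓ (MM T).map (MulAut.conj g⁻¹).toMonoidHom :=
    ⟨hx, ⟨_, hgx, by simp [mul_assoc]⟩⟩
  apply h1.of_dvd_nat
  rw [← Subgroup.orderOf_mk x h2]
  exact orderOf_dvd_natCard _

include hnc hnn hC hTI in
/-- `K ∩ A = 1` -/
theorem inf_AA {u x : G} (hu : orderOf u = 2) (huM : u ∉ MM T) (hx : x ∈ AA T)
    (hxu : u * x * u⁻¹ ∈ MM T) : x = 1 := by
  by_contra hx1
  have hui : u⁻¹ = u := inv_eq_self_of_orderOf_eq_two hu
  have huu : u * u = 1 := (orderOf_two_iff.1 hu).1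
  set v := u * x * u⁻¹ with hv
  have hxv : x = u * v * u⁻¹ := by
    rw [hv, hui]
    calc x = (u * u) * x * (u * u) := by rw [huu]; simp
      _ = _ := by group
  have hN := MM_le_normalizer_AA T hnc hC
  -- the commutator lies in `A` and in `A^u`
  have hcomm : x * v * x⁻¹ * v⁻¹ = 1 := by
    apply hTI u huM
    · have h1 : v * x⁻¹ * v⁻¹ ∈ AA T :=
        (Subgroup.mem_normalizer_iff.1 (hN hxu) _).1 ((AA T).inv_mem hx)
      have : x * v * x⁻¹ * v⁻¹ = x * (v * x⁻¹ * v⁻¹) := by group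
      rw [this]
      exact (AA T).mul_mem hx h1
    · have h1 : v * x * v⁻¹ ∈ AA T := (Subgroup.mem_normalizer_iff.1 (hN hxu) _).1 hx
      have h2 : u * (x * v * x⁻¹ * v⁻¹) * u⁻¹ = (v * x * v⁻¹) * x⁻¹ := by
        have e1 : u * v * u⁻¹ = x := hxv.symm
        calc u * (x * v * x⁻¹ * v⁻¹) * u⁻¹ = (u * x * u⁻¹) * (u * v * u⁻¹) * (u * x * u⁻¹)⁻¹ *
              (u * v * u⁻¹)⁻¹ := by group
          _ = _ := by rw [e1, ← hv]
      rw [h2]
      exact (AA T).mul_mem h1 ((AA T).inv_mem hx)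
  have hcom : x * v = v * x := by
    have := mul_inv_eq_one.1 hcomm
    exact mul_inv_eq_iff_eq_mul.1 this
  have hxM : x ∈ MM T := AA_le_MM T hx
  obtain ⟨e, he⟩ : ∃ e, e = x⁻¹ * v := ⟨_, rfl⟩
  obtain ⟨y, hy⟩ : ∃ y, y = x * v := ⟨_, rfl⟩
  have huv : u * v * u⁻¹ = x := hxv.symm
  have hue : u * e * u⁻¹ = e⁻¹ := by
    calc u * e * u⁻¹ = (u * x * u⁻¹)⁻¹ * (u * v * u⁻¹) := by rw [he]; group
      _ = v⁻¹ * x := by rw [huv, ← hv]
      _ = e⁻¹ := by rw [he]; group
  have huy : u * y = y * u := by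
    have : u * y * u⁻¹ = y := by
      calc u * y * u⁻¹ = (u * x * u⁻¹) * (u * v * u⁻¹) := by rw [hy]; group
        _ = v * x := by rw [huv, ← hv]
        _ = y := by rw [hy, hcom]
    exact mul_inv_eq_iff_eq_mul.1 this
  have hxi : x⁻¹ * v = v * x⁻¹ := by
    calc x⁻¹ * v = x⁻¹ * (v * x) * x⁻¹ := by group
      _ = x⁻¹ * (x * v) * x⁻¹ := by rw [hcom]
      _ = v * x⁻¹ := by group
  have hye : y * e = e * y := by
    calc y * e = x * (v * x⁻¹) * v := by rw [hy, he]; group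
      _ = x * (x⁻¹ * v) * v := by rw [hxi]
      _ = v * v := by group
      _ = x⁻¹ * (v * x) * v := by rw [← hcom]; group
      _ = x⁻¹ * v * (x * v) := by group
      _ = e * y := by rw [hy, he]
  have heM : e ∈ MM T := by rw [he]; exact (MM T).mul_mem ((MM T).inv_mem hxM) hxu
  have hodd : Odd (orderOf e) := odd_inf T hnc hnn hC huM heM (by
    rw [hue]; exact (MM T).inv_mem heM)
  have he1 : e ≠ 1 := by
    intro h
    apply hx1
    apply hTI u huM x hx
    have : v = x := by rw [he] at h; exact (inv_mul_eq_one.1 h).symm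
    rw [← hv, this]; exact hx
  have hy1 := cent_inf T hnc hnn hC hTI hu hodd hue hye huy.symm he1
  apply hx1
  apply hTI u huM x hx
  have : v = x⁻¹ := by rw [hy] at hy1; exact (inv_eq_of_mul_eq_one_right hy1).symm
  rw [← hv, this]; exact (AA T).inv_mem hx

include hnc hnn hC in
theorem exists_inv_not_mem : ∃ u : G, orderOf u = 2 ∧ u ∉ MM T := by
  obtain ⟨z, hzT, hz, -⟩ := exists_central T hnc
  obtain ⟨g, hg⟩ : ∃ g : G, g ∉ MM T := by
    by_contra hcon
    push Not at hcon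
    exact hnn (Subgroup.normalizer_eq_top_iff.1 (eq_top_iff.2 (fun x _ => hcon x)))
  refine ⟨g * z * g⁻¹, by rw [Cfsg.Agent.Lib.SylowTools.orderOf_conj', hz], ?_⟩
  intro h
  apply hg
  exact mem_normalizer T hnc hC hzT hz (mem_sylow_of_normalizer T
    (by rw [Cfsg.Agent.Lib.SylowTools.orderOf_conj', hz]) h)

include hnc hnn hC hTI in
/-- For an involution `u ∉ M`: `u` inverts `K = M ∩ M^u` and `M = K A`. -/
theorem exists_factor {u : G} (hu : orderOf u = 2) (huM : u ∉ MM T) :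
    (∀ k ∈ MM T, u * k * u⁻¹ ∈ MM T → u * k * u⁻¹ = k⁻¹) ∧
      ∀ m ∈ MM T, ∃ k ∈ MM T, u * k * u⁻¹ ∈ MM T ∧ ∃ a ∈ AA T, m = k * a := by
  classical
  have hui : u⁻¹ = u := inv_eq_self_of_orderOf_eq_two hu
  have huu : u * u = 1 := (orderOf_two_iff.1 hu).1
  set x : Pts T := base T with hx
  set y : Pts T := u • base T with hy
  have hxy : x ≠ y := by
    intro h
    apply huM
    rw [← smul_one_eq_iff]
    exact h.symm
  have hus : u ∈ invSwap G x y := ⟨hu, rfl⟩
  have hmemx : ∀ g : G, g ∈ stabilizer G x ↔ g ∈ MM T := by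
    intro g
    rw [mem_stabilizer_iff]
    exact smul_one_eq_iff g
  have hmemy : ∀ g : G, g ∈ stabilizer G y ↔ u * g * u⁻¹ ∈ MM T := by
    intro g
    rw [mem_stabilizer_iff, ← smul_one_eq_iff (H := MM T) (u * g * u⁻¹), hui, mul_smul, mul_smul]
    constructor
    · intro h
      have h' : g • u • base T = u • base T := h
      show u • g • u • base T = base T
      rw [h', smul_smul, huu, one_smul]
    · intro h
      have h' : u • g • u • base T = base T := h
      show g • u • base T = u • base T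
      have h2 := congrArg (fun z => u • z) h'
      simp only [smul_smul] at h2 ⊢
      rw [← h2, ← mul_assoc, huu, one_mul]
  obtain ⟨t, htT, ht, -⟩ := exists_central T hnc
  have hc1 := card_two_point' (uf T hnc hnn hC) hxy hus
  have hc2 := card_MM T hnc hnn hC htT ht
  -- injectivity of K × A → M
  let K : Subgroup G := stabilizer G x ⊓ stabilizer G y
  have hKM : K ≤ MM T := fun k hk => (hmemx k).1 hk.1
  let f : K × AA T → MM T := fun p => ⟨p.1 * p.2, (MM T).mul_mem (hKM p.1.2) (AA_le_MM T p.2.2)⟩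
  have hf : Function.Injective f := by
    rintro ⟨k, a⟩ ⟨k', a'⟩ h
    have h1 : (k : G) * a = k' * a' := congrArg Subtype.val h
    have h2 : (k' : G)⁻¹ * k = a' * (a : G)⁻¹ := by
      calc (k' : G)⁻¹ * k = (k' : G)⁻¹ * (k * a) * (a : G)⁻¹ := by group
        _ = (k' : G)⁻¹ * (k' * a') * (a : G)⁻¹ := by rw [h1]
        _ = _ := by group
    have h3 : (k' : G)⁻¹ * k ∈ K := K.mul_mem (K.inv_mem k'.2) k.2
    have h4 : (k' : G)⁻¹ * k = 1 := by
      apply inf_AA T hnc hnn hC hTI hu huM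
      · rw [h2]; exact (AA T).mul_mem a'.2 ((AA T).inv_mem a.2)
      · exact (hmemy _).1 h3.2
    have h5 : (k : G) = k' := (inv_mul_eq_one.1 h4).symm
    rw [h4] at h2
    have h6 : (a : G) = a' := (mul_inv_eq_one.1 h2.symm).symm
    rw [Subtype.ext h5, Subtype.ext h6]
  have hle := Nat.card_le_card_of_injective f hf
  rw [Nat.card_prod] at hle
  have hKcard : Nat.card K = (invSwap G x x).ncard *
    Nat.card ↥(stabilizer G x ⊓ Subgroup.centralizer ({u} : Set G)) := hc1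
  have hpos1 : 0 < (invSwap G x x).ncard := by
    rw [Set.ncard_pos, hx, invFix_base]
    exact ⟨t, htT, ht⟩
  have hpos2 : 0 < Nat.card (AA T) := Nat.card_pos
  have hpos3 : 0 < Nat.card ↥(stabilizer G x ⊓ Subgroup.centralizer ({u} : Set G)) := Nat.card_pos
  have hone : Nat.card ↥(stabilizer G x ⊓ Subgroup.centralizer ({u} : Set G)) = 1 := by
    rw [hKcard, hc2] at hle
    have h1 : (invSwap G x x).ncard * Nat.card (AA T) *
        Nat.card ↥(stabilizer G x ⊓ Subgroup.centralizer ({u} : Set G)) ≤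
        (invSwap G x x).ncard * Nat.card (AA T) * 1 := by
      calc _ = (invSwap G x x).ncard * Nat.card ↥(stabilizer G x ⊓
              Subgroup.centralizer ({u} : Set G)) * Nat.card (AA T) := by ring
        _ ≤ (invSwap G x x).ncard * Nat.card (AA T) := hle
        _ = _ := by ring
    have h2 := Nat.le_of_mul_le_mul_left h1 (Nat.mul_pos hpos1 hpos2)
    omega
  have hbot : stabilizer G x ⊓ Subgroup.centralizer ({u} : Set G) = ⊥ :=
    Subgroup.card_eq_one.1 hone
  constructor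
  · intro k hk huk
    have h1 : ∀ k ∈ K, u * k * u⁻¹ = k⁻¹ := by
      apply inverts_of_fpf hu
      · intro k hk
        refine ⟨(hmemx _).2 ((hmemy _).1 hk.2), (hmemy _).2 ?_⟩
        have : u * (u * k * u⁻¹) * u⁻¹ = k := by
          rw [hui]
          calc u * (u * k * u) * u = (u * u) * k * (u * u) := by group
            _ = k := by rw [huu]; simp
        rw [this]
        exact (hmemx _).1 hk.1
      · intro k hk huk
        have h2 : k ∈ stabilizer G x ⊓ Subgroup.centralizer ({u} : Set G) :=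
          ⟨hk.1, Subgroup.mem_centralizer_singleton_iff.2 huk.symm⟩
        rw [hbot] at h2
        exact h2
    exact h1 k ⟨(hmemx k).2 hk, (hmemy k).2 huk⟩
  · have hsurj : Function.Surjective f := by
      have hcard : Nat.card (K × AA T) = Nat.card (MM T) := by
        rw [Nat.card_prod, hKcard, hone, mul_one, hc2]
      exact ((Nat.bijective_iff_injective_and_card f).2 ⟨hf, hcard⟩).2
    intro m hm
    obtain ⟨⟨k, a⟩, hka⟩ := hsurj ⟨m, hm⟩
    refine ⟨k, hKM k.2, (hmemy _).1 k.2.2, a, a.2, ?_⟩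
    exact (congrArg Subtype.val hka).symm

include hnc hnn hC hTI in
theorem cent_le_AA {x : G} (hx : x ∈ AA T) (hx1 : x ≠ 1) :
    Subgroup.centralizer ({x} : Set G) ≤ AA T := by
  obtain ⟨u, hu, huM⟩ := exists_inv_not_mem T hnc hnn hC
  obtain ⟨h1, h2⟩ := exists_factor T hnc hnn hC hTI hu huM
  intro c hc
  have hcM := cent_le T hTI hx hx1 hc
  obtain ⟨k, hk, huk, a, ha, hcka⟩ := h2 c hcM
  by_cases hk1 : k = 1
  · rw [hcka, hk1, one_mul]; exact ha
  exfalso
  have h3 := h1 k hk huk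
  have h4 : Odd (orderOf k) := odd_inf T hnc hnn hC huM hk huk
  have h5 := cent_inverted T hnc hnn hC hTI hu h4 h3 hk1 x (by
    rw [Subgroup.mem_centralizer_singleton_iff] at hc ⊢
    have h6 : k = c * a⁻¹ := by rw [hcka]; group
    have h7 : a⁻¹ * x = x * a⁻¹ := AA_comm T hnc hC ((AA T).inv_mem ha) hx
    rw [h6]
    calc x * (c * a⁻¹) = (x * c) * a⁻¹ := by group
      _ = (c * x) * a⁻¹ := by rw [hc]
      _ = c * (x * a⁻¹) := by group
      _ = c * (a⁻¹ * x) := by rw [h7]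
      _ = c * a⁻¹ * x := by group)
  apply hx1
  apply hTI u huM x hx
  rw [h5]; exact (AA T).inv_mem hx

include hnc hnn hC hTI in
/-- In the T.I. case `C(T)` is elementary abelian. -/
theorem AA_sq {x : G} (hx : x ∈ AA T) : x * x = 1 := by
  classical
  have := Fintype.ofFinite G
  obtain ⟨t, htT, ht, -⟩ := exists_central T hnc
  obtain ⟨s, hsT, hs, hst⟩ := exists_second T hnc hC htT ht
  have hN := normalizer_AA T hnc hC hTI
  apply Cfsg.Agent.Lib.AbTI.sq_eq_one (AA T) (t := t) (s₀ := s)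
  · intro g hg
    rw [hN] at hg
    exact hTI g hg
  · intro k hk hk1
    exact cent_le_AA T hnc hnn hC hTI hk hk1
  · exact fun a ha b hb => AA_comm T hnc hC ha hb
  · exact le_AA T hnc hC htT
  · exact ht
  · intro r hr hr2
    have hrT : r ∈ (T : Subgroup G) := mem_sylow_of_normalizer T hr2 (AA_le_MM T hr)
    rw [hN]
    exact exists_conj T hnc hnn hC htT ht hrT hr2
  · exact le_AA T hnc hC hsT
  · exact hs
  · exact hst
  · -- `|A|² < |G|`
    obtain ⟨u, hu, huM⟩ := exists_inv_not_mem T hnc hnn hC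
    have hui : u⁻¹ = u := inv_eq_self_of_orderOf_eq_two hu
    have huu : u * u = 1 := (orderOf_two_iff.1 hu).1
    let f : AA T × AA T → {g : G // g ≠ 1} := fun p => ⟨p.1 * u * p.2, by
      intro h
      apply huM
      have : u = (p.1 : G)⁻¹ * (p.2 : G)⁻¹ := by
        calc u = (p.1 : G)⁻¹ * (p.1 * u * p.2) * (p.2 : G)⁻¹ := by group
          _ = _ := by rw [h]; group
      rw [this]
      exact AA_le_MM T ((AA T).mul_mem ((AA T).inv_mem p.1.2) ((AA T).inv_mem p.2.2))⟩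
    have hf : Function.Injective f := by
      rintro ⟨a, b⟩ ⟨a', b'⟩ h
      have h1 : (a : G) * u * b = a' * u * b' := congrArg Subtype.val h
      have h2 : u * ((b : G) * (b' : G)⁻¹) * u⁻¹ = (a : G)⁻¹ * a' := by
        calc u * ((b : G) * (b' : G)⁻¹) * u⁻¹ = (a : G)⁻¹ * (a * u * b) * (b' : G)⁻¹ * u⁻¹ := by group
          _ = (a : G)⁻¹ * (a' * u * b') * (b' : G)⁻¹ * u⁻¹ := by rw [h1]
          _ = _ := by group
      have h3 : (b : G) * (b' : G)⁻¹ = 1 := by
        apply hTI u huM _ ((AA T).mul_mem b.2 ((AA T).inv_mem b'.2))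
        rw [h2]; exact (AA T).mul_mem ((AA T).inv_mem a.2) a'.2
      have h4 : (b : G) = b' := mul_inv_eq_one.1 h3
      rw [h3] at h2
      have h5 : (a : G) = a' := by
        have : (a : G)⁻¹ * a' = 1 := by rw [← h2]; group
        exact inv_mul_eq_one.1 this
      rw [Subtype.ext h4, Subtype.ext h5]
    have h1 := Nat.card_le_card_of_injective f hf
    rw [Nat.card_prod, ← sq] at h1
    have h2 : Nat.card {g : G // g ≠ 1} < Nat.card G := by
      rw [Nat.card_eq_fintype_card, Nat.card_eq_fintype_card]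
      exact Fintype.card_subtype_lt (x := 1) (by simp)
    exact lt_of_le_of_lt h1 h2
  · exact hx

end Cfsg.Agent.Lib.AbCent
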