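import Cfsg.Agent.Lib.AbCent2
import Cfsg.Agent.Lib.SchurZassenhaus

/-!
# Groups in which the centralizer of every involution is abelian, part 3 (helper68)

If all involution centralizers are elementary abelian, no subgroup of odd order is transitive on the
involutions.
-/

set_option autoImplicit false

namespace Cfsg.Agent.Lib.AbCent

open MulAction Cfsg.Agent.Lib.InvAct Cfsg.Agent.Lib.StrongEmbPt
open Cfsg.Agent.Lib.ElemCent (Pts base)

open scoped Pointwise in
theorem no_odd_transitive {G : Type*} [Group G] [Finite G] (T : Sylow 2 G)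
    (hnc : ¬ IsCyclic (T : Subgroup G)) (hnn : ¬ (T : Subgroup G).Normal)
    (hC : ∀ t : G, orderOf t = 2 → IsMulCommutative (Subgroup.centralizer ({t} : Set G)) ∧
      ∀ c ∈ Subgroup.centralizer ({t} : Set G), c ^ 2 = 1)
    (R : Subgroup G) (hR : Odd (Nat.card R))
    (htr : ∀ s t : G, orderOf s = 2 → orderOf t = 2 → ∃ r ∈ R, r * s * r⁻¹ = t) : False := by
  have huf := Cfsg.Agent.Lib.ElemCent.uf T hnc hnn hC
  have h2odd : ∀ r ∈ R, Odd (orderOf r) := by
    intro r hr
    apply hR.of_dvd_nat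
    rw [← Subgroup.orderOf_mk r hr]
    exact orderOf_dvd_natCard _
  set x : Pts T := base T with hx
  -- an element conjugating fixed points
  have hfix : ∀ {s t r : G} {a b : Pts T}, orderOf t = 2 → s • a = a → t • b = b →
      r * s * r⁻¹ = t → r • a = b := by
    intro s t r a b ht hs htb hr
    apply eq_of_fix huf ht _ htb
    rw [← hr, smul_smul, inv_mul_cancel_right, ← smul_smul, hs]
  have hfixT : ∀ y : Pts T, ∃ t : G, orderOf t = 2 ∧ t • y = y := by
    intro y
    obtain ⟨t, ht⟩ := Cfsg.Agent.Lib.ElemCent.exists_invSwap T hnc hnn hC y y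
    exact ⟨t, ht.1, ht.2⟩
  obtain ⟨t, ht, htx⟩ := hfixT x
  have htr2 : ∀ y : Pts T, ∃ r ∈ R, r • x = y := by
    intro y
    obtain ⟨s, hs, hsy⟩ := hfixT y
    obtain ⟨r, hr, hrs⟩ := htr t s ht hs
    exact ⟨r, hr, hfix hs htx hsy hrs⟩
  -- order of `R_x`
  let Rx : Subgroup G := R ⊓ stabilizer G x
  have hRxodd : Odd (Nat.card Rx) := hR.of_dvd_nat (Subgroup.card_dvd_of_le inf_le_left)
  have hcardRx : Nat.card Rx = Nat.card T - 1 := by
    have h1 := card_conj_orbit Rx t
    have h2 : {v : G | ∃ k ∈ Rx, k * t * k⁻¹ = v} = invSwap G x x := by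
      ext v
      constructor
      · rintro ⟨k, ⟨hk, hkx⟩, rfl⟩
        refine ⟨by rw [Cfsg.Agent.Lib.SylowTools.orderOf_conj', ht], ?_⟩
        have hkx' : k • x = x := hkx
        have hkx2 : k⁻¹ • x = x := by rw [inv_smul_eq_iff, hkx']
        rw [← smul_smul, ← smul_smul, hkx2, htx, hkx']
      · rintro ⟨hv, hvx⟩
        obtain ⟨r, hr, hrv⟩ := htr t v ht hv
        exact ⟨r, ⟨hr, hfix hv htx hvx hrv⟩, hrv⟩
    have h3 : Rx ⊓ Subgroup.centralizer ({t} : Set G) = ⊥ := by
      rw [eq_bot_iff]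
      rintro c ⟨hc, hct⟩
      exact eq_one_of_odd_sq (h2odd c hc.1) ((hC t ht).2 c hct)
    rw [h2, h3, Subgroup.card_bot, mul_one, Cfsg.Agent.Lib.ElemCent.ncard_invFix T hnc hC] at h1
    exact h1
  obtain ⟨y0, hy0⟩ := Cfsg.Agent.Lib.ElemCent.exists_ne_base T hnc hnn hC
  let D : Subgroup G := stabilizer G x ⊓ stabilizer G y0
  have hcardD : Nat.card D = Nat.card T - 1 := Cfsg.Agent.Lib.ElemCent.card_two T hnc hnn hC hy0
  have hcardN := Cfsg.Agent.Lib.ElemCent.card_normalizer T hnc hnn hC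
  have h4 := Cfsg.Agent.Lib.ElemCent.four_le_card T hnc hC
  have hstab : stabilizer G x = Subgroup.normalizer ((T : Subgroup G) : Set G) := by
    ext g
    rw [mem_stabilizer_iff]
    exact smul_one_eq_iff g
  have hRxN : Rx ≤ Subgroup.normalizer ((T : Subgroup G) : Set G) := by
    rw [← hstab]; exact inf_le_right
  have hDN : D ≤ Subgroup.normalizer ((T : Subgroup G) : Set G) := by
    rw [← hstab]; exact inf_le_left
  have hcop : (Nat.card T).Coprime (Nat.card T - 1) := by
    have : Nat.card T = (Nat.card T - 1) + 1 := by omega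
    rw [this]
    simp
  have hsup : ∀ K : Subgroup G, K ≤ Subgroup.normalizer ((T : Subgroup G) : Set G) →
      Nat.card K = Nat.card T - 1 →
      (T : Subgroup G) ⊔ K = Subgroup.normalizer ((T : Subgroup G) : Set G) := by
    intro K hK hcK
    apply Subgroup.eq_of_le_of_card_ge (sup_le Subgroup.le_normalizer hK)
    rw [hcardN]
    apply Nat.le_of_dvd Nat.card_pos
    apply Nat.Coprime.mul_dvd_of_dvd_of_dvd hcop
    · exact Subgroup.card_dvd_of_le le_sup_left
    · rw [← hcK]; exact Subgroup.card_dvd_of_le le_sup_right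
  have hsolv : Group.IsSolvable (T : Subgroup G) := by
    have hcomm : ∀ a b : (T : Subgroup G), a * b = b * a := fun a b => Subtype.ext
      (Cfsg.Agent.Lib.ElemCent.sylow_comm T hnc hC a.2 b.2)
    exact isSolvable_of_comm hcomm
  obtain ⟨a, haT, hconj⟩ := Cfsg.Agent.Lib.SchurZassenhaus.conj_of_solvable (N := (T : Subgroup G))
    (H := Rx) (K := D) hRxN hDN (by rw [hsup Rx hRxN hcardRx, hsup D hDN hcardD])
    (by rw [hcardRx]; exact hcop) (by rw [hcardD]; exact hcop) (Or.inl hsolv)
  have hax : a • x = x := by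
    have : a ∈ stabilizer G x := by rw [hstab]; exact Subgroup.le_normalizer haT
    exact this
  set y : Pts T := a⁻¹ • y0 with hy
  have hyx : y ≠ x := by
    intro h
    apply hy0
    have : a • y = y0 := by rw [hy, smul_smul, mul_inv_cancel, one_smul]
    rw [← this, h, hax]
  have hRxy : ∀ k ∈ Rx, k • y = y := by
    intro k hk
    have h5 : a * k * a⁻¹ ∈ D := by
      rw [← hconj, Subgroup.mem_pointwise_smul_iff_inv_smul_mem]
      have : (MulAut.conj a)⁻¹ • (a * k * a⁻¹) = k := by
        rw [MulAut.smul_def, ← map_inv, MulAut.conj_apply]; group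
      rw [this]; exact hk
    have h6 : (a * k * a⁻¹) • y0 = y0 := h5.2
    rw [hy]
    have h7 := congrArg (fun z => a⁻¹ • z) h6
    simp only [smul_smul] at h7 ⊢
    rw [← h7]
    congr 1
    group
  obtain ⟨r, hr, hrx⟩ := htr2 y
  -- `r` normalizes `R_x`
  have hrnorm : ∀ k ∈ Rx, r⁻¹ * k * r ∈ Rx := by
    intro k hk
    refine ⟨R.mul_mem (R.mul_mem (R.inv_mem hr) hk.1) hr, ?_⟩
    show (r⁻¹ * k * r) • x = x
    rw [← smul_smul, ← smul_smul, hrx, hRxy k hk, ← hrx, inv_smul_smul]
  obtain ⟨k, hk, hk1⟩ : ∃ k ∈ Rx, k ≠ 1 := by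
    by_contra hcon
    push Not at hcon
    have : Rx = ⊥ := (Subgroup.eq_bot_iff_forall Rx).2 hcon
    rw [this, Subgroup.card_bot] at hcardRx
    omega
  have hkry : k • r • y = r • y := by
    have h5 := hRxy _ (hrnorm k hk)
    have h6 := congrArg (fun z => r • z) h5
    simp only [smul_smul] at h6 ⊢
    rw [← h6]
    congr 1
    group
  have hry : r • y = x := by
    by_contra h5
    have h6 : r • y ≠ y := by
      intro h7
      apply hyx
      have : r • y = r • x := by rw [h7, hrx]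
      exact smul_left_cancel r this
    exact hk1 (Cfsg.Agent.Lib.ElemCent.eq_one_of_three T hnc hnn hC hyx.symm (Ne.symm h5)
      (Ne.symm h6) hk.2 (hRxy k hk) hkry)
  -- `r²` fixes `x`, `r` has odd order
  obtain ⟨m, hm⟩ := h2odd r hr
  have hr2 : (r * r) • x = x := by rw [← smul_smul, hrx, hry]
  have hrm : (r * r) ^ (m + 1) = r := by
    rw [← sq, ← pow_mul]
    have : 2 * (m + 1) = (2 * m + 1) + 1 := by ring
    rw [this, ← hm, pow_succ, pow_orderOf_eq_one, one_mul]
  have hrx' : r • x = x := by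
    have h5 : (r * r) ^ (m + 1) ∈ stabilizer G x := Subgroup.pow_mem _ hr2 _
    rw [hrm] at h5
    exact h5
  exact hyx (hrx ▸ hrx')

end Cfsg.Agent.Lib.AbCent
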