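import Cfsg.Agent.Lib.AbCent3

/-!
# Groups in which the centralizer of every involution is abelian, part 4 (helper68)

The case in which `C(T)` is not a T.I. subgroup (induction).
-/

set_option autoImplicit false

namespace Cfsg.Agent.Lib.AbCent

open MulAction Cfsg.Agent.Lib.InvAct Cfsg.Agent.Lib.StrongEmbPt
open Cfsg.Agent.Lib.ElemCent (Pts base mem_sylow_of_normalizer)

universe u

/-- centralizers of involutions are abelian -/
abbrev HC (G : Type u) [Group G] : Prop :=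
  ∀ t : G, orderOf t = 2 → ∀ a ∈ Subgroup.centralizer ({t} : Set G),
    ∀ b ∈ Subgroup.centralizer ({t} : Set G), a * b = b * a

/-- the conclusion: `G = L × D`, `D` abelian of odd order, involution centralizers of `L`
elementary abelian. -/
def Split {G : Type u} [Group G] (T : Sylow 2 G) : Prop :=
  ∃ L D : Subgroup G, (∀ l ∈ L, ∀ d ∈ D, l * d = d * l) ∧ (∀ a ∈ D, ∀ b ∈ D, a * b = b * a) ∧
    L ⊓ D = ⊥ ∧ L ⊔ D = ⊤ ∧ Odd (Nat.card D) ∧ (T : Subgroup G) ≤ L ∧
    ∀ t ∈ L, orderOf t = 2 → ∀ c ∈ L, c * t = t * c → c * c = 1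

/-- the induction hypothesis -/
def IH (n : ℕ) : Prop := ∀ (H : Type u) [Group H] [Finite H], Nat.card H < n → HC H →
  ∀ T : Sylow 2 H, ¬ IsCyclic (T : Subgroup H) → ¬ (T : Subgroup H).Normal → Split T

theorem exists_mul_of_commute {G : Type u} [Group G] {L D : Subgroup G}
    (h : ∀ l ∈ L, ∀ d ∈ D, l * d = d * l) {x : G} (hx : x ∈ L ⊔ D) :
    ∃ l ∈ L, ∃ d ∈ D, x = l * d := by
  let P : Subgroup G :=
    { carrier := {x | ∃ l ∈ L, ∃ d ∈ D, x = l * d}
      mul_mem' := by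
        rintro _ _ ⟨l, hl, d, hd, rfl⟩ ⟨l', hl', d', hd', rfl⟩
        refine ⟨l * l', L.mul_mem hl hl', d * d', D.mul_mem hd hd', ?_⟩
        calc l * d * (l' * d') = l * (d * l') * d' := by group
          _ = l * (l' * d) * d' := by rw [h l' hl' d hd]
          _ = _ := by group
      one_mem' := ⟨1, L.one_mem, 1, D.one_mem, by simp⟩
      inv_mem' := by
        rintro _ ⟨l, hl, d, hd, rfl⟩
        refine ⟨l⁻¹, L.inv_mem hl, d⁻¹, D.inv_mem hd, ?_⟩
        rw [h l hl d hd]; group }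
  have h1 : L ⊔ D ≤ P := sup_le (fun l hl => ⟨l, hl, 1, D.one_mem, by simp⟩)
    (fun d hd => ⟨1, L.one_mem, d, hd, by simp⟩)
  exact h1 hx

theorem HC.sub {G : Type u} [Group G] (hC : HC G) (C : Subgroup G) : HC C := by
  intro t ht a ha b hb
  rw [Subgroup.mem_centralizer_singleton_iff] at ha hb
  apply Subtype.ext
  exact hC t (by rw [Subgroup.orderOf_coe]; exact ht) a
    (Subgroup.mem_centralizer_singleton_iff.2 (congrArg Subtype.val ha)) b
    (Subgroup.mem_centralizer_singleton_iff.2 (congrArg Subtype.val hb))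

variable {G : Type u} [Group G] [Finite G] (T : Sylow 2 G)
  (hnc : ¬ IsCyclic (T : Subgroup G)) (hnn : ¬ (T : Subgroup G).Normal) (hC : HC G)

omit [Finite G] in
include hnc in
theorem sub_not_cyclic {C : Subgroup G} (hTC : (T : Subgroup G) ≤ C) :
    ¬ IsCyclic ((T.subtype hTC : Sylow 2 C) : Subgroup C) := by
  intro h
  apply hnc
  have e : ((T : Subgroup G).subgroupOf C) ≃* (T : Subgroup G) :=
    Subgroup.subgroupOfEquivOfLe hTC
  have h2 : IsCyclic ((T : Subgroup G).subgroupOf C) := h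
  exact isCyclic_of_surjective e e.surjective

omit [Finite G] in
theorem sub_not_normal {C : Subgroup G} (hTC : (T : Subgroup G) ≤ C) {c : G} (hc : c ∈ C)
    (hcM : c ∉ MM T) : ¬ ((T.subtype hTC : Sylow 2 C) : Subgroup C).Normal := by
  intro h
  apply hcM
  have h2 : ((T : Subgroup G).subgroupOf C).Normal := h
  rw [Subgroup.normal_subgroupOf_iff_le_normalizer hTC] at h2
  exact h2 hc

include hnc hC in
theorem split_sub (hIH : IH.{u} (Nat.card G)) {C : Subgroup G} (hTC : (T : Subgroup G) ≤ C)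
    (hCtop : C ≠ ⊤) {c : G} (hc : c ∈ C) (hcM : c ∉ MM T) :
    ∃ L D : Subgroup G, L ≤ C ∧ D ≤ C ∧ (∀ l ∈ L, ∀ d ∈ D, l * d = d * l) ∧
      (∀ a ∈ D, ∀ b ∈ D, a * b = b * a) ∧ L ⊓ D = ⊥ ∧ (∀ c ∈ C, ∃ l ∈ L, ∃ d ∈ D, c = l * d) ∧
      Odd (Nat.card D) ∧ (T : Subgroup G) ≤ L ∧
      ∀ t ∈ L, orderOf t = 2 → ∀ c ∈ L, c * t = t * c → c * c = 1 := by
  have hcard : Nat.card C < Nat.card G := by
    have h1 := Subgroup.card_le_card_group C
    have h2 : Nat.card C ≠ Nat.card G := fun h => hCtop (Subgroup.eq_top_of_card_eq C h)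
    omega
  obtain ⟨L, D, h1, h2, h3, h4, h5, h6, h7⟩ := hIH C hcard (hC.sub C) (T.subtype hTC)
    (sub_not_cyclic T hnc hTC) (sub_not_normal T hTC hc hcM)
  refine ⟨L.map C.subtype, D.map C.subtype, Subgroup.map_subtype_le L, Subgroup.map_subtype_le D,
    ?_, ?_, ?_, ?_, ?_, ?_, ?_⟩
  · rintro _ ⟨l, hl, rfl⟩ _ ⟨d, hd, rfl⟩
    exact congrArg Subtype.val (h1 l hl d hd)
  · rintro _ ⟨l, hl, rfl⟩ _ ⟨d, hd, rfl⟩
    exact congrArg Subtype.val (h2 l hl d hd)
  · rw [← Subgroup.map_inf _ _ _ C.subtype_injective, h3, Subgroup.map_bot]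
  · intro c hc
    have h8 : (⟨c, hc⟩ : C) ∈ L ⊔ D := by rw [h4]; exact Subgroup.mem_top _
    obtain ⟨l, hl, d, hd, h9⟩ := exists_mul_of_commute h1 h8
    exact ⟨l, ⟨l, hl, rfl⟩, d, ⟨d, hd, rfl⟩, congrArg Subtype.val h9⟩
  · rwa [Subgroup.card_map_of_injective C.subtype_injective]
  · intro t ht
    exact ⟨⟨t, hTC ht⟩, h6 ht, rfl⟩
  · rintro _ ⟨t, ht, rfl⟩ ht2 _ ⟨c, hc, rfl⟩ hct
    have := h7 t ht (by rw [← ht2]; exact (Subgroup.orderOf_coe t).symm) c hc (Subtype.ext hct)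
    exact congrArg Subtype.val this

omit [Finite G] in
theorem odd_card_of_no_involution {K : Subgroup G} [Finite G] (h : ∀ z ∈ K, orderOf z ≠ 2) :
    Odd (Nat.card K) := by
  rw [← Nat.not_even_iff_odd]
  intro heven
  obtain ⟨t, htK, ht⟩ := exists_involution heven
  exact h t htK ht

include hnc hnn hC in
/-- the contradiction in the non T.I. case -/
theorem not_ti_false (hIH : IH.{u} (Nat.card G))
    (hZ : ∀ x : G, Odd (orderOf x) → x ∈ Subgroup.center G → x = 1)
    {x g : G} (hg : g ∉ MM T) (hx : x ∈ AA T) (hgx : g⁻¹ * x * g ∈ AA T) (hx1 : x ≠ 1) : False := by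
  classical
  obtain ⟨t, htT, ht, -⟩ := exists_central T hnc
  have hgi : g⁻¹ ∉ MM T := fun h => hg (by simpa using (MM T).inv_mem h)
  have hxodd : Odd (orderOf x) := odd_inf T hnc hnn hC hgi (AA_le_MM T hx)
    (by rw [inv_inv]; exact AA_le_MM T hgx)
  let H : Subgroup G := Subgroup.centralizer ({x} : Set G)
  have hAH : AA T ≤ H := by
    intro a ha
    rw [Subgroup.mem_centralizer_singleton_iff]
    exact AA_comm T hnc hC ha hx
  have hTH : (T : Subgroup G) ≤ H := (le_AA T hnc hC).trans hAH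
  have hHtop : H ≠ ⊤ := by
    intro h
    apply hx1
    apply hZ x hxodd
    rw [Subgroup.mem_center_iff]
    intro y
    have : y ∈ H := by rw [h]; exact Subgroup.mem_top y
    exact Subgroup.mem_centralizer_singleton_iff.1 this
  -- an element of `H` outside `M`
  have hc0H : g * t * g⁻¹ ∈ H := by
    rw [Subgroup.mem_centralizer_singleton_iff]
    have h1 := AA_comm T hnc hC (le_AA T hnc hC htT) hgx
    calc g * t * g⁻¹ * x = g * (t * (g⁻¹ * x * g)) * g⁻¹ := by group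
      _ = g * (g⁻¹ * x * g * t) * g⁻¹ := by rw [h1]
      _ = x * (g * t * g⁻¹) := by group
  have hc0M : g * t * g⁻¹ ∉ MM T := by
    intro h
    apply hg
    exact mem_normalizer T hnc hC htT ht (mem_sylow_of_normalizer T
      (by rw [Cfsg.Agent.Lib.SylowTools.orderOf_conj', ht]) h)
  obtain ⟨L, D, hLH, hDH, hLD, hDD, hinf, hdec, hDodd, hTL, hel⟩ :=
    split_sub T hnc hC hIH hTH hHtop hc0H hc0M
  -- `D` commutes with `H`
  have hHD : ∀ h ∈ H, ∀ d ∈ D, h * d = d * h := by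
    intro h hh d hd
    obtain ⟨l, hl, δ, hδ, rfl⟩ := hdec h hh
    rw [mul_assoc, hDD δ hδ d hd, ← mul_assoc, hLD l hl d hd, mul_assoc]
  have hDA : D ≤ AA T := by
    intro d hd
    rw [Subgroup.mem_centralizer_iff]
    intro y hy
    exact hLD y (hTL hy) d hd
  obtain ⟨l₀, hl₀, d₀, hd₀, hld⟩ := hdec _ hc0H
  have hl₀M : l₀ ∉ MM T := by
    intro h
    apply hc0M
    rw [hld]
    exact (MM T).mul_mem h (AA_le_MM T (hDA hd₀))
  -- involutions of `H` are conjugate in `H`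
  have hconjH : ∀ w ∈ H, orderOf w = 2 → ∃ h ∈ H, h * w * h⁻¹ = t := by
    intro w hw hw2
    have h1 := isConj_inv (T.subtype hTH) (sub_not_cyclic T hnc hTH)
      (sub_not_normal T hTH hc0H hc0M) (hC.sub H) (s := ⟨w, hw⟩) (t := ⟨t, hTH htT⟩)
      (by rw [← hw2]; exact (Subgroup.orderOf_coe _).symm)
      (by rw [← ht]; exact (Subgroup.orderOf_coe _).symm)
    obtain ⟨h, hh⟩ := isConj_iff.1 h1
    exact ⟨h, h.2, congrArg Subtype.val hh⟩
  have hse : Cfsg.IsStronglyEmbedded H := by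
    apply of_fix hHtop
    · have : orderOf (⟨t, hTH htT⟩ : H) ∣ Nat.card H := orderOf_dvd_natCard _
      rw [Subgroup.orderOf_mk, ht] at this
      exact even_iff_two_dvd.2 this
    · intro w k hw hwH hkw
      obtain ⟨a, ha, haw⟩ := hconjH w hwH hw
      obtain ⟨b, hb, hbw⟩ := hconjH _ hkw (by
        rw [Cfsg.Agent.Lib.SylowTools.orderOf_conj', hw])
      have h1 : b * k * a⁻¹ ∈ AA T := by
        rw [← centralizer_eq T hnc hC htT ht, Subgroup.mem_centralizer_singleton_iff]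
        have h2 : (b * k * a⁻¹) * t * (b * k * a⁻¹)⁻¹ = t := by
          calc (b * k * a⁻¹) * t * (b * k * a⁻¹)⁻¹
              = b * (k * (a⁻¹ * t * a) * k⁻¹) * b⁻¹ := by group
            _ = b * (k * w * k⁻¹) * b⁻¹ := by rw [← haw]; group
            _ = t := hbw
        exact mul_inv_eq_iff_eq_mul.1 h2
      have h3 : k = b⁻¹ * (b * k * a⁻¹) * a := by group
      rw [h3]
      exact H.mul_mem (H.mul_mem (H.inv_mem hb) (hAH h1)) ha
  -- the action on `G ⧸ H`
  have huf : UniqueFix G (G ⧸ H) := uniqueFix hse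
  obtain ⟨k₀, hk₀⟩ : ∃ k : G, k ∉ H := by
    by_contra hcon
    push Not at hcon
    exact hHtop (eq_top_iff.2 (fun z _ => hcon z))
  let b : G ⧸ H := QuotientGroup.mk 1
  let y : G ⧸ H := QuotientGroup.mk k₀
  have hby : b ≠ y := by
    intro h
    apply hk₀
    have := QuotientGroup.eq.1 h
    simpa using this
  let R : Subgroup G := stabilizer G b ⊓ stabilizer G y
  have hRH : R ≤ H := by
    intro r hr
    exact (smul_one_eq_iff r).1 hr.1
  have hRodd : ∀ z ∈ R, Odd (orderOf z) := by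
    have h1 : Odd (Nat.card R) := odd_card_of_no_involution (fun z hz hz2 =>
      not_mem_both huf hby hz2 hz.1 hz.2)
    intro z hz
    apply h1.of_dvd_nat
    rw [← Subgroup.orderOf_mk z hz]
    exact orderOf_dvd_natCard _
  have hDodd' : ∀ z ∈ D, Odd (orderOf z) := by
    intro z hz
    apply hDodd.of_dvd_nat
    rw [← Subgroup.orderOf_mk z hz]
    exact orderOf_dvd_natCard _
  -- `R ⊔ D` has odd order
  have hRD : ∀ z ∈ R ⊔ D, Odd (orderOf z) := by
    intro z hz
    obtain ⟨r, hr, d, hd, rfl⟩ := exists_mul_of_commute (fun r hr d hd => hHD r (hRH hr) d hd) hz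
    have h1 : Commute r d := hHD r (hRH hr) d hd
    apply Odd.of_dvd_nat _ h1.orderOf_mul_dvd_lcm
    exact ((hRodd r hr).mul (hDodd' d hd)).of_dvd_nat (Nat.lcm_dvd_mul _ _)
  -- apply the lemma to `L`
  refine no_odd_transitive (G := L) (T.subtype hTL) (sub_not_cyclic T hnc hTL)
    (sub_not_normal T hTL hl₀ hl₀M) ?_ ((R ⊔ D).subgroupOf L) ?_ ?_
  · intro s hs
    have h1 : ∀ c ∈ Subgroup.centralizer ({s} : Set L), c ^ 2 = 1 := by
      intro c hc
      rw [Subgroup.mem_centralizer_singleton_iff] at hc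
      have := hel s s.2 (by rw [Subgroup.orderOf_coe]; exact hs) c c.2 (congrArg Subtype.val hc)
      rw [sq]
      exact Subtype.ext this
    refine ⟨⟨⟨?_⟩⟩, h1⟩
    rintro ⟨a, ha⟩ ⟨c, hc⟩
    exact Subtype.ext (hC.sub L s hs a ha c hc)
  · apply odd_card_of_no_involution (G := L)
    intro z hz hz2
    have h1 := hRD z hz
    rw [Subgroup.orderOf_coe, hz2] at h1
    exact absurd h1 (by decide)
  · intro s s' hs hs'
    have h1 : (s : G) ∈ invSwap G b b := ⟨by rw [Subgroup.orderOf_coe]; exact hs,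
      (smul_one_eq_iff _).2 (hLH s.2)⟩
    have h2 : (s' : G) ∈ invSwap G b b := ⟨by rw [Subgroup.orderOf_coe]; exact hs',
      (smul_one_eq_iff _).2 (hLH s'.2)⟩
    obtain ⟨r, hrb, hry, hr⟩ := exists_conj_fix huf hby h1 h2
    have hrR : r ∈ R := ⟨hrb, hry⟩
    obtain ⟨l, hl, d, hd, hrld⟩ := hdec r (hRH hrR)
    refine ⟨⟨l, hl⟩, ?_, ?_⟩
    · have h3 : l = r * d⁻¹ := by rw [hrld]; group
      show l ∈ R ⊔ D
      rw [h3]
      exact (R ⊔ D).mul_mem ((le_sup_left : R ≤ R ⊔ D) hrR)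
        ((le_sup_right : D ≤ R ⊔ D) (D.inv_mem hd))
    · apply Subtype.ext
      show l * s * l⁻¹ = s'
      have h3 : d * (s : G) = s * d := (hLD s s.2 d hd).symm
      rw [← hr, hrld]
      calc l * s * l⁻¹ = l * (s * d) * d⁻¹ * l⁻¹ := by group
        _ = l * (d * s) * d⁻¹ * l⁻¹ := by rw [h3]
        _ = l * d * s * (l * d)⁻¹ := by group

include hnc hnn hC in
theorem ti_of (hIH : IH.{u} (Nat.card G))
    (hZ : ∀ x : G, Odd (orderOf x) → x ∈ Subgroup.center G → x = 1) :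
    ∀ g : G, g ∉ MM T → ∀ k ∈ AA T, g * k * g⁻¹ ∈ AA T → k = 1 := by
  intro g hg k hk hgk
  by_contra hk1
  refine not_ti_false T hnc hnn hC hIH hZ (g := g) (x := g * k * g⁻¹) hg hgk ?_ ?_
  · have : g⁻¹ * (g * k * g⁻¹) * g = k := by group
    rw [this]; exact hk
  · intro h
    apply hk1
    have : k = g⁻¹ * (g * k * g⁻¹) * g := by group
    rw [this, h]; simp

include hnc hnn hC in
/-- no odd central elements: involution centralizers are elementary abelian -/
theorem elementary_of (hIH : IH.{u} (Nat.card G))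
    (hZ : ∀ x : G, Odd (orderOf x) → x ∈ Subgroup.center G → x = 1) :
    ∀ t : G, orderOf t = 2 → ∀ c : G, c * t = t * c → c * c = 1 := by
  have hTI := ti_of T hnc hnn hC hIH hZ
  obtain ⟨t, htT, ht, -⟩ := exists_central T hnc
  intro s hs c hc
  obtain ⟨g, hg⟩ := isConj_iff.1 (isConj_inv T hnc hnn hC hs ht)
  have h1 : g * c * g⁻¹ ∈ AA T := by
    rw [← centralizer_eq T hnc hC htT ht, Subgroup.mem_centralizer_singleton_iff, ← hg]
    calc g * c * g⁻¹ * (g * s * g⁻¹) = g * (c * s) * g⁻¹ := by group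
      _ = g * (s * c) * g⁻¹ := by rw [hc]
      _ = g * s * g⁻¹ * (g * c * g⁻¹) := by group
  have h2 := AA_sq T hnc hnn hC hTI h1
  have h3 : c * c = g⁻¹ * (g * c * g⁻¹ * (g * c * g⁻¹)) * g := by group
  rw [h3, h2]; simp

end Cfsg.Agent.Lib.AbCent
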