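import Cfsg.Agent.Lib.SchurSL2
import Cfsg.Agent.S0144
import Mathlib.GroupTheory.Transfer

/-!
# Miscellaneous facts on `SL(2,q)`, `q` even, and nonsolvable groups (helper81)
-/

set_option autoImplicit false
open Cfsg

namespace Cfsg.Agent.Lib.SL2EvenMisc

open Subgroup Matrix
open scoped MatrixGroups

universe u

/-- A nonsolvable group has order divisible by three primes. -/
theorem exists_three_primes {G : Type u} [Group G] [Finite G] (hns : ¬ Group.IsSolvable G) :
    ∃ p q r : ℕ, p.Prime ∧ q.Prime ∧ r.Prime ∧ p ≠ q ∧ p ≠ r ∧ q ≠ r ∧ p ∣ Nat.card G ∧ q ∣ Nat.card G ∧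
      r ∣ Nat.card G := by
  have hn0 : Nat.card G ≠ 0 := Nat.card_pos.ne'
  have hn1 : Nat.card G ≠ 1 := by
    intro h
    apply hns
    have : Subsingleton G := (Nat.card_eq_one_iff_unique.mp h).1
    infer_instance
  obtain ⟨p, hp, hpn⟩ := Nat.exists_prime_and_dvd hn1
  have hm0 : ordCompl[p] (Nat.card G) ≠ 0 := (Nat.ordCompl_pos p hn0).ne'
  have hm1 : ordCompl[p] (Nat.card G) ≠ 1 := by
    intro h
    apply hns
    have h1 := Nat.ordProj_mul_ordCompl_eq_self (Nat.card G) p
    rw [h, mul_one] at h1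
    exact Cfsg.Agent.S0144.result p p ((Nat.card G).factorization p) 0 hp hp
      (by rw [pow_zero, mul_one]; exact h1.symm)
  obtain ⟨q, hq, hqm⟩ := Nat.exists_prime_and_dvd hm1
  have hqn : q ∣ Nat.card G := hqm.trans (Nat.ordCompl_dvd _ _)
  have hpq : p ≠ q := by
    rintro rfl
    exact Nat.not_dvd_ordCompl hp hn0 hqm
  have hl1 : ordCompl[q] (ordCompl[p] (Nat.card G)) ≠ 1 := by
    intro h
    apply hns
    have h1 := Nat.ordProj_mul_ordCompl_eq_self (Nat.card G) p
    have h2 := Nat.ordProj_mul_ordCompl_eq_self (ordCompl[p] (Nat.card G)) q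
    rw [h, mul_one] at h2
    rw [← h2] at h1
    exact Cfsg.Agent.S0144.result p q _ _ hp hq h1.symm
  obtain ⟨r, hr, hrl⟩ := Nat.exists_prime_and_dvd hl1
  have hrm : r ∣ ordCompl[p] (Nat.card G) := hrl.trans (Nat.ordCompl_dvd _ _)
  refine ⟨p, q, r, hp, hq, hr, hpq, ?_, ?_, hpn, hqn, hrm.trans (Nat.ordCompl_dvd _ _)⟩
  · rintro rfl
    exact Nat.not_dvd_ordCompl hp hn0 hrm
  · rintro rfl
    exact Nat.not_dvd_ordCompl hq hm0 hrl

/-- A group with a cyclic Sylow `2`-subgroup has a normal `2`-complement. -/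
theorem exists_two_complement {G : Type u} [Group G] [Finite G] (T : Sylow 2 G) (hT : IsCyclic (T : Subgroup G)) :
    ∃ N : Subgroup G, N.Normal ∧ N.IsComplement' (T : Subgroup G) := by
  by_cases h2 : 2 ∣ Nat.card G
  · have hmin : (Nat.card G).minFac = 2 := (Nat.minFac_eq_two_iff _).mpr h2
    have h := IsCyclic.isComplement' hmin (P := T) hT
    exact ⟨_, inferInstance, h⟩
  · refine ⟨⊤, inferInstance, ?_⟩
    have h1 : (T : Subgroup G) = ⊥ := by
      apply Subgroup.card_eq_one.mp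
      obtain ⟨k, hk⟩ := T.2.exists_card_eq
      rcases Nat.eq_zero_or_pos k with h0 | h0
      · rw [hk, h0, pow_zero]
      · exfalso
        apply h2
        exact (dvd_pow_self 2 h0.ne').trans (hk ▸ Subgroup.card_subgroup_dvd_card (T : Subgroup G))
    rw [h1]
    exact Subgroup.isComplement'_top_bot

section SL2

variable {F : Type u} [Field F]

theorem center_eq_bot_of_char_two [CharP F 2] : Subgroup.center SL(2, F) = ⊥ := by
  rw [eq_bot_iff]
  intro g hg
  rw [Matrix.SpecialLinearGroup.mem_center_iff] at hg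
  obtain ⟨r, hr, hrg⟩ := hg
  rw [mem_bot]
  have hr1 : r = 1 := by
    have h2 : (r - 1) ^ 2 = 0 := by
      have h3 : (2 : F) = 0 := CharP.cast_eq_zero F 2
      have h4 : r ^ 2 = 1 := by simpa using hr
      linear_combination h4 - (r - 1) * h3
    exact sub_eq_zero.mp (pow_eq_zero_iff two_ne_zero |>.mp h2)
  apply Subtype.ext
  rw [← hrg, hr1]
  simp

/-- the isomorphism of `SL(2,F)` with `PSL(2,F)`, characteristic two. -/
theorem exists_psl_equiv [CharP F 2] :
    Nonempty (SL(2, F) ≃* Matrix.ProjectiveSpecialLinearGroup (Fin 2) F) := by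
  refine ⟨MulEquiv.ofBijective (QuotientGroup.mk' (Subgroup.center SL(2, F))) ⟨?_, QuotientGroup.mk'_surjective _⟩⟩
  rw [← MonoidHom.ker_eq_bot_iff, QuotientGroup.ker_mk']
  exact center_eq_bot_of_char_two

end SL2

end Cfsg.Agent.Lib.SL2EvenMisc
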