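import Cfsg.Agent.Lib.AbCent4
import Cfsg.Agent.Lib.ClSL2Syl
import Cfsg.Agent.Lib.SL2EvenMisc

/-!
# Groups in which the centralizer of every involution is abelian, part 5 (helper68)

Central extensions of `PSL(2,F)`, `|F|` even, by groups of odd order split.
-/

set_option autoImplicit false

namespace Cfsg.Agent.Lib.AbCent

universe u v

/-- A central extension, with kernel of odd order, of a perfect group with cyclic Sylow `p`-subgroups
for `p ≠ 2` splits. -/
theorem split_central {X : Type u} [Group X] [Finite X] {P : Type v} [Group P] [Finite P]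
    (π : X →* P) (hπ : Function.Surjective π) (hker : π.ker ≤ Subgroup.center X)
    (hodd : Odd (Nat.card π.ker)) (hperf : commutator P = ⊤)
    (hcyc : ∀ p : ℕ, ∀ _ : Fact p.Prime, p ≠ 2 → ∀ Q : Sylow p P, IsCyclic (Q : Subgroup P)) :
    commutator X ⊓ π.ker = ⊥ ∧ commutator X ⊔ π.ker = ⊤ := by
  constructor
  · by_contra hne
    have h1 : Nat.card ↥(commutator X ⊓ π.ker) ≠ 1 := fun h => hne (Subgroup.card_eq_one.1 h)
    obtain ⟨p, hp, hpd⟩ := Nat.exists_prime_and_dvd h1
    have hpf : Fact p.Prime := ⟨hp⟩
    have hp2 : p ≠ 2 := by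
      rintro rfl
      have h2 : 2 ∣ Nat.card π.ker := hpd.trans (Subgroup.card_dvd_of_le inf_le_right)
      rw [← Nat.not_even_iff_odd, even_iff_two_dvd] at hodd
      exact hodd h2
    obtain ⟨⟨z, hz1, hz2⟩, hzo⟩ := exists_prime_orderOf_dvd_card' p hpd
    have hzo' : orderOf z = p := by rw [← hzo]; exact (Subgroup.orderOf_mk z _).symm
    have hzc : ∀ g : X, g * z = z * g := Subgroup.mem_center_iff.1 (hker hz2)
    have hzp : IsPGroup p (Subgroup.zpowers z) := by
      apply IsPGroup.of_card (n := 1)
      rw [Nat.card_zpowers, hzo', pow_one]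
    obtain ⟨Q, hQ⟩ := hzp.exists_le_sylow
    have hzQ : z ∈ (Q : Subgroup X) := hQ (Subgroup.mem_zpowers z)
    -- `Q` is commutative
    have hQcomm : ∀ a b : (Q : Subgroup X), a * b = b * a := by
      let f : (Q : Subgroup X) →* ((Q : Subgroup X).map π) := (π.subgroupMap (Q : Subgroup X))
      have hmapp : IsPGroup p ((Q : Subgroup X).map π) := Q.2.map π
      obtain ⟨Q', hQ'⟩ := hmapp.exists_le_sylow
      have hc1 : IsCyclic (Q' : Subgroup P) := hcyc p hpf hp2 Q'
      have hc2 : IsCyclic ((Q : Subgroup X).map π) :=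
        isCyclic_of_injective (Subgroup.inclusion hQ') (Subgroup.inclusion_injective hQ')
      apply commutative_of_cyclic_center_quotient f
      intro a ha
      have h3 : π (a : X) = 1 := congrArg Subtype.val (MonoidHom.mem_ker.1 ha)
      have h4 := hker (MonoidHom.mem_ker.2 h3)
      rw [Subgroup.mem_center_iff] at h4 ⊢
      intro g
      exact Subtype.ext (h4 g)
    let τ : X →* Abelianization (Q : Subgroup X) :=
      MonoidHom.transfer (Abelianization.of : (Q : Subgroup X) →* Abelianization (Q : Subgroup X))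
    have hτz : τ z = 1 := by
      have : commutator X ≤ τ.ker := Abelianization.commutator_subset_ker τ
      exact MonoidHom.mem_ker.1 (this hz1)
    have hpow := MonoidHom.transfer_eq_pow
      (Abelianization.of : (Q : Subgroup X) →* Abelianization (Q : Subgroup X)) z (by
        intro k g₀ _
        have h5 : Commute g₀ (z ^ k) := (show Commute g₀ z from hzc g₀).pow_right k
        rw [mul_assoc, ← h5.eq, inv_mul_cancel_left])
    have h6 : (Abelianization.of : (Q : Subgroup X) →* Abelianization (Q : Subgroup X))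
        ⟨z ^ (Q : Subgroup X).index, (Q : Subgroup X).pow_mem hzQ _⟩ = 1 := by
      rw [← hτz]; exact hpow.symm
    have h7 : (⟨z ^ (Q : Subgroup X).index, (Q : Subgroup X).pow_mem hzQ _⟩ : (Q : Subgroup X)) ∈
        commutator (Q : Subgroup X) := by
      rw [← Abelianization.ker_of]
      exact MonoidHom.mem_ker.2 h6
    have h8 : commutator (Q : Subgroup X) = ⊥ := by
      rw [commutator_def, Subgroup.commutator_eq_bot_iff_le_centralizer]
      intro a _
      rw [Subgroup.mem_centralizer_iff]
      intro b _
      exact hQcomm b a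
    rw [h8, Subgroup.mem_bot] at h7
    have h9 : z ^ (Q : Subgroup X).index = 1 := congrArg Subtype.val h7
    have h10 := orderOf_dvd_of_pow_eq_one h9
    rw [hzo'] at h10
    exact Q.not_dvd_index h10
  · rw [eq_top_iff]
    intro x _
    have h1 : (commutator X).map π = ⊤ := by
      rw [commutator_def, Subgroup.map_commutator, Subgroup.map_top_of_surjective π hπ,
        ← commutator_def, hperf]
    have h2 : π x ∈ (commutator X).map π := by rw [h1]; exact Subgroup.mem_top _
    obtain ⟨c, hc, hcx⟩ := h2
    have h3 : c⁻¹ * x ∈ π.ker := by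
      rw [MonoidHom.mem_ker, map_mul, map_inv, hcx, inv_mul_cancel]
    have h4 : x = c * (c⁻¹ * x) := by group
    rw [h4]
    exact (commutator X ⊔ π.ker).mul_mem ((le_sup_left : commutator X ≤ _) hc)
      ((le_sup_right : π.ker ≤ _) h3)

open Matrix in
open scoped MatrixGroups in
/-- Facts on `PSL(2,F)`, `|F| ≥ 4` even. -/
theorem psl_facts {F : Type v} [Field F] [Fintype F] (h2 : CharP F 2) (h4 : 4 ≤ Fintype.card F) :
    commutator (Matrix.ProjectiveSpecialLinearGroup (Fin 2) F) = ⊤ ∧
    ∀ p : ℕ, ∀ _ : Fact p.Prime, p ≠ 2 →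
      ∀ Q : Sylow p (Matrix.ProjectiveSpecialLinearGroup (Fin 2) F),
        IsCyclic (Q : Subgroup (Matrix.ProjectiveSpecialLinearGroup (Fin 2) F)) := by
  classical
  obtain ⟨e⟩ := SL2EvenMisc.exists_psl_equiv (F := F)
  constructor
  · have h5 : ∃ a : F, a ≠ 0 ∧ a ^ 2 ≠ 1 := by
      by_contra hcon
      push Not at hcon
      have h6 : (Finset.univ : Finset F) ⊆ {0, 1} := by
        intro a _
        by_cases ha : a = 0
        · simp [ha]
        · have h7 := hcon a ha
          have h8 : (a - 1) ^ 2 = 0 := by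
            have h9 : (2 : F) = 0 := CharP.cast_eq_zero F 2
            linear_combination h7 - (a - 1) * h9
          have h10 : a = 1 := sub_eq_zero.1 (pow_eq_zero_iff two_ne_zero |>.1 h8)
          simp [h10]
      have h7 := Finset.card_le_card h6
      have h8 : ({0, 1} : Finset F).card ≤ 2 := Finset.card_le_two
      rw [Finset.card_univ] at h7
      omega
    have hperf : commutator SL(2, F) = ⊤ := ClSLn.commutator_SL_eq_top' (fun _ => h5)
    have : Group.IsPerfect SL(2, F) := ⟨hperf⟩
    have hp : Group.IsPerfect (Matrix.ProjectiveSpecialLinearGroup (Fin 2) F) := inferInstance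
    exact hp.commutator_eq_top
  · intro p hp hp2 Q
    have h1 : IsCyclic ((Q.mapSurjective (f := e.symm.toMonoidHom) e.symm.surjective : Sylow p SL(2, F)) :
        Subgroup SL(2, F)) := ClSL2Syl.sylow_SL2_isCyclic 2 p hp2 hp2 _
    have h2 : IsCyclic ((Q : Subgroup (Matrix.ProjectiveSpecialLinearGroup (Fin 2) F)).map
      e.symm.toMonoidHom) := h1
    have e2 := (Q : Subgroup (Matrix.ProjectiveSpecialLinearGroup (Fin 2) F)).equivMapOfInjective e.symm.toMonoidHom e.symm.injective
    exact isCyclic_of_surjective e2.symm e2.symm.surjective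

end Cfsg.Agent.Lib.AbCent
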