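import Cfsg.Agent.Lib.AbCent5

/-!
# Groups in which the centralizer of every involution is abelian, part 6 (helper68)

The induction, and the final theorem.
-/

set_option autoImplicit false

namespace Cfsg.Agent.Lib.AbCent

universe u v

/-- an element of odd-order central subgroup which is a 2-element is trivial (power form) -/
theorem eq_one_of_pow_card {G : Type u} [Group G] [Finite G] (T : Sylow 2 G) {n : G}
    (hn : Odd (orderOf n)) (h : n ^ Nat.card (T : Subgroup G) = 1) : n = 1 := by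
  have : Fact (Nat.Prime 2) := ⟨Nat.prime_two⟩
  obtain ⟨k, hk⟩ := T.2.exists_card_eq
  have h1 : orderOf n ∣ 2 ^ k := by
    rw [← hk]; exact orderOf_dvd_of_pow_eq_one h
  have h2 : Nat.Coprime (orderOf n) (2 ^ k) := by
    apply Nat.Coprime.pow_right
    exact hn.coprime_two_right
  exact orderOf_eq_one_iff.1 (Nat.eq_one_of_dvd_coprimes h2 dvd_rfl h1)

theorem pow_card_eq_one {G : Type u} [Group G] [Finite G] (T : Subgroup G) {t : G}
    (ht : t ∈ T) : t ^ Nat.card T = 1 := by
  have h1 := pow_card_eq_one' (G := T) (x := ⟨t, ht⟩)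
  exact congrArg Subtype.val h1

/-- `HC` passes to the quotient by a central subgroup of odd order. -/
theorem HC.quot {G : Type u} [Group G] [Finite G] (hC : HC G) (N : Subgroup G) [N.Normal]
    (hNc : N ≤ Subgroup.center G) (hNodd : ∀ n ∈ N, Odd (orderOf n)) : HC (G ⧸ N) := by
  have hNcard : Odd (Nat.card N) := odd_card_of_no_involution (fun z hz h2 => by
    have := hNodd z hz
    rw [h2] at this
    exact absurd this (by decide))
  intro tb htb
  obtain ⟨x, rfl⟩ := QuotientGroup.mk'_surjective N tb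
  have hx2 : x ^ 2 ∈ N := by
    have h1 : (QuotientGroup.mk' N x) ^ 2 = 1 := by rw [← htb]; exact pow_orderOf_eq_one _
    rw [← map_pow] at h1
    rw [← QuotientGroup.ker_mk' N]
    exact MonoidHom.mem_ker.2 h1
  obtain ⟨t, ht⟩ : ∃ t, t = x ^ Nat.card N := ⟨_, rfl⟩
  have ht2 : t ^ 2 = 1 := by
    rw [ht, ← pow_mul, mul_comm, pow_mul]
    exact pow_card_eq_one N hx2
  have htx : QuotientGroup.mk' N t = QuotientGroup.mk' N x := by
    rw [ht, map_pow]
    obtain ⟨k, hk⟩ := hNcard
    rw [hk, pow_add, pow_one, pow_mul]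
    have h1 : (QuotientGroup.mk' N x) ^ 2 = 1 := by rw [← htb]; exact pow_orderOf_eq_one _
    rw [h1, one_pow, one_mul]
  have ht1 : t ≠ 1 := by
    intro h
    rw [h, map_one] at htx
    rw [← htx, orderOf_one] at htb
    exact absurd htb (by decide)
  have hto : orderOf t = 2 := orderOf_eq_prime ht2 ht1
  have key : ∀ a : G, QuotientGroup.mk' N a * QuotientGroup.mk' N x =
      QuotientGroup.mk' N x * QuotientGroup.mk' N a → a ∈ Subgroup.centralizer ({t} : Set G) := by
    intro a ha
    rw [← htx, ← map_mul, ← map_mul] at ha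
    have h1 : (t * a)⁻¹ * (a * t) ∈ N := by
      rw [← QuotientGroup.ker_mk' N]
      rw [MonoidHom.mem_ker, map_mul, map_inv, ha, inv_mul_cancel]
    obtain ⟨n, hn⟩ : ∃ n, n = (t * a)⁻¹ * (a * t) := ⟨_, rfl⟩
    rw [← hn] at h1
    have hnc : ∀ g : G, g * n = n * g := Subgroup.mem_center_iff.1 (hNc h1)
    have h2 : a * t * a⁻¹ = t * n := by
      have h3 : a * t = t * a * n := by rw [hn]; group
      rw [h3, mul_assoc t a n, hnc a]; group
    have htt : t * t = 1 := by rw [← sq]; exact ht2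
    have h3 : n * n = 1 := by
      have h4 : (t * n) * (t * n) = 1 := by
        rw [← h2]
        calc a * t * a⁻¹ * (a * t * a⁻¹) = a * (t * t) * a⁻¹ := by group
          _ = 1 := by rw [htt]; group
      calc n * n = 1 * (n * n) := by rw [one_mul]
        _ = t * t * (n * n) := by rw [htt]
        _ = t * (t * n) * n := by group
        _ = t * (n * t) * n := by rw [hnc t]
        _ = (t * n) * (t * n) := by group
        _ = 1 := h4
    have h4 : n = 1 := by
      have h5 : orderOf n ∣ 2 := orderOf_dvd_of_pow_eq_one (by rw [sq]; exact h3)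
      have h6 := hNodd n h1
      rcases (Nat.dvd_prime Nat.prime_two).1 h5 with h7 | h7
      · exact orderOf_eq_one_iff.1 h7
      · rw [h7] at h6
        exact absurd h6 (by decide)
    rw [Subgroup.mem_centralizer_singleton_iff]
    rw [h4, mul_one] at h2
    exact mul_inv_eq_iff_eq_mul.1 h2
  intro a ha b hb
  obtain ⟨a, rfl⟩ := QuotientGroup.mk'_surjective N a
  obtain ⟨b, rfl⟩ := QuotientGroup.mk'_surjective N b
  rw [Subgroup.mem_centralizer_singleton_iff] at ha hb
  rw [← map_mul, hC t hto a (key a ha) b (key b hb), map_mul]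

section quot

variable {G : Type u} [Group G] [Finite G] (T : Sylow 2 G) (N : Subgroup G) [N.Normal]
  (hNc : N ≤ Subgroup.center G) (hNodd : ∀ n ∈ N, Odd (orderOf n))

include hNodd in
theorem quot_not_cyclic (hnc : ¬ IsCyclic (T : Subgroup G)) :
    ¬ IsCyclic ((T.mapSurjective (QuotientGroup.mk'_surjective N) : Sylow 2 (G ⧸ N)) :
      Subgroup (G ⧸ N)) := by
  intro h
  apply hnc
  have h2 : IsCyclic ((T : Subgroup G).map (QuotientGroup.mk' N)) := h
  have hinj : Function.Injective ((QuotientGroup.mk' N).subgroupMap (T : Subgroup G)) := by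
    rw [injective_iff_map_eq_one]
    rintro ⟨a, ha⟩ h3
    have h4 : QuotientGroup.mk' N a = 1 := congrArg Subtype.val h3
    have h5 : a ∈ N := by
      rw [← QuotientGroup.ker_mk' N]; exact MonoidHom.mem_ker.2 h4
    have h6 : a = 1 := eq_one_of_pow_card T (hNodd a h5) (pow_card_eq_one _ ha)
    exact Subtype.ext h6
  exact isCyclic_of_injective _ hinj

include hNc hNodd in
theorem quot_not_normal (hnn : ¬ (T : Subgroup G).Normal) :
    ¬ ((T.mapSurjective (QuotientGroup.mk'_surjective N) : Sylow 2 (G ⧸ N)) :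
      Subgroup (G ⧸ N)).Normal := by
  intro h
  have h2 : ((T : Subgroup G).map (QuotientGroup.mk' N)).Normal := h
  apply hnn
  constructor
  intro t ht g
  have h3 := h2.conj_mem (QuotientGroup.mk' N t) ⟨t, ht, rfl⟩ (QuotientGroup.mk' N g)
  obtain ⟨t', ht', h4⟩ := h3
  have h5 : t'⁻¹ * (g * t * g⁻¹) ∈ N := by
    rw [← QuotientGroup.ker_mk' N, MonoidHom.mem_ker, map_mul, map_inv, h4, map_mul, map_mul,
      map_inv]
    group
  obtain ⟨n, hn⟩ : ∃ n, n = t'⁻¹ * (g * t * g⁻¹) := ⟨_, rfl⟩
  rw [← hn] at h5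
  have hnc : ∀ g : G, g * n = n * g := Subgroup.mem_center_iff.1 (hNc h5)
  have h6 : g * t * g⁻¹ = t' * n := by rw [hn]; group
  have h7 : n ^ Nat.card (T : Subgroup G) = 1 := by
    have h8 : (t' * n) ^ Nat.card (T : Subgroup G) = 1 := by
      rw [← h6, conj_pow, pow_card_eq_one _ ht]; group
    rw [(show Commute t' n from hnc t').mul_pow, pow_card_eq_one _ ht', one_mul] at h8
    exact h8
  rw [h6, eq_one_of_pow_card T (hNodd n h5) h7, mul_one]
  exact ht'

end quot

/-- in a group of the conclusion type, `L` is `PSL(2,F)` -/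
theorem psl_of_el {G : Type u} [Group G] [Finite G] (T : Sylow 2 G) (hC : HC G)
    (hnc : ¬ IsCyclic (T : Subgroup G)) (hnn : ¬ (T : Subgroup G).Normal)
    (hel : ∀ t : G, orderOf t = 2 → ∀ c : G, c * t = t * c → c * c = 1) :
    ∃ (F : Type) (_ : Field F) (_ : Fintype F), CharP F 2 ∧ 4 ≤ Fintype.card F ∧
      Nonempty (G ≃* Matrix.ProjectiveSpecialLinearGroup (Fin 2) F) := by
  have : Fact (Nat.Prime 2) := ⟨Nat.prime_two⟩
  obtain ⟨F, iF, iFt, hcard, he⟩ := Cfsg.Agent.Lib.ElemCent.psl_two T hnc hnn (by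
    intro t ht
    refine ⟨⟨⟨?_⟩⟩, ?_⟩
    · rintro ⟨a, ha⟩ ⟨b, hb⟩
      exact Subtype.ext (hC t ht a ha b hb)
    · intro c hc
      rw [Subgroup.mem_centralizer_singleton_iff] at hc
      rw [sq]
      exact hel t ht c hc)
  obtain ⟨k, hk⟩ := T.2.exists_card_eq
  have hk0 : k ≠ 0 := by
    rintro rfl
    apply hnc
    rw [pow_zero, Nat.card_eq_one_iff_unique] at hk
    have := hk.1
    infer_instance
  have hk1 : k ≠ 1 := by
    rintro rfl
    apply hnc
    rw [pow_one] at hk
    exact isCyclic_of_prime_card hk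
  refine ⟨F, iF, iFt, ?_, ?_, he⟩
  · obtain ⟨p, hp⟩ := CharP.exists F
    have hpp : Nat.Prime p := CharP.char_is_prime F p
    have : Fact p.Prime := ⟨hpp⟩
    obtain ⟨n, hp', hn⟩ := FiniteField.card F p
    have h1 : p ∣ 2 ^ k := by
      have h2 : Fintype.card F = 2 ^ k := hcard.trans hk
      rw [← h2, hn]
      exact dvd_pow_self p n.ne_zero
    have h2 : p = 2 := (Nat.prime_dvd_prime_iff_eq hpp Nat.prime_two).1 (hpp.dvd_of_dvd_pow h1)
    rw [← h2]
    exact hp
  · have h2 : Fintype.card F = 2 ^ k := hcard.trans hk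
    rw [h2]
    calc 4 = 2 ^ 2 := by norm_num
      _ ≤ 2 ^ k := Nat.pow_le_pow_right (by norm_num) (by omega)

/-- a Sylow subgroup of `L` is not normal if `G = L × D` and `T` is not normal. -/
theorem exists_not_mem_MM {G : Type u} [Group G] [Finite G] (T : Sylow 2 G)
    (hnn : ¬ (T : Subgroup G).Normal) {L D : Subgroup G} (h1 : ∀ l ∈ L, ∀ d ∈ D, l * d = d * l)
    (h4 : L ⊔ D = ⊤) (h6 : (T : Subgroup G) ≤ L) : ∃ l ∈ L, l ∉ MM T := by
  by_contra hcon
  push Not at hcon
  apply hnn
  have h5 : L ⊔ D ≤ MM T := by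
    apply sup_le hcon
    intro d hd
    apply AA_le_MM T
    rw [Subgroup.mem_centralizer_iff]
    intro y hy
    exact h1 y (h6 hy) d hd
  rw [h4, top_le_iff] at h5
  exact Subgroup.normalizer_eq_top_iff.1 h5

end Cfsg.Agent.Lib.AbCent
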