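import Cfsg.Agent.Lib.AbCent6

/-!
# Groups in which the centralizer of every involution is abelian, part 7 (helper68)

The induction, and the final theorem.
-/

set_option autoImplicit false

namespace Cfsg.Agent.Lib.AbCent

universe u v

theorem split_of_quot {G : Type u} [Group G] [Finite G] (T : Sylow 2 G) (hC : HC G)
    (hnc : ¬ IsCyclic (T : Subgroup G)) (N : Subgroup G) [N.Normal]
    (hNc : N ≤ Subgroup.center G) (hNodd : ∀ n ∈ N, Odd (orderOf n))
    (hnn : ¬ (T : Subgroup G).Normal)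
    (hS : Split (T.mapSurjective (QuotientGroup.mk'_surjective N) : Sylow 2 (G ⧸ N))) :
    Split T := by
  classical
  have hfact : Fact (Nat.Prime 2) := ⟨Nat.prime_two⟩
  obtain ⟨π, hπdef⟩ : ∃ π : G →* G ⧸ N, π = QuotientGroup.mk' N := ⟨_, rfl⟩
  have hπs : Function.Surjective π := by rw [hπdef]; exact QuotientGroup.mk'_surjective N
  have hker : ∀ x, π x = 1 → x ∈ N := by
    intro x hx
    rw [← QuotientGroup.ker_mk' N, ← hπdef]
    exact MonoidHom.mem_ker.2 hx
  have hker' : ∀ x ∈ N, π x = 1 := by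
    intro x hx
    rw [← QuotientGroup.ker_mk' N, ← hπdef] at hx
    exact MonoidHom.mem_ker.1 hx
  have hcen : ∀ n ∈ N, ∀ g : G, g * n = n * g := fun n hn => Subgroup.mem_center_iff.1 (hNc hn)
  have hpowN : ∀ n ∈ N, n ^ Nat.card (T : Subgroup G) = 1 → n = 1 :=
    fun n hn h => eq_one_of_pow_card T (hNodd n hn) h
  obtain ⟨T', hT'⟩ : ∃ T' : Sylow 2 (G ⧸ N),
      T' = (T.mapSurjective (QuotientGroup.mk'_surjective N) : Sylow 2 (G ⧸ N)) := ⟨_, rfl⟩
  rw [← hT'] at hS
  have hT'nc : ¬ IsCyclic (T' : Subgroup (G ⧸ N)) := by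
    rw [hT']; exact quot_not_cyclic T N hNodd hnc
  have hT'nn : ¬ (T' : Subgroup (G ⧸ N)).Normal := by
    rw [hT']; exact quot_not_normal T N hNc hNodd hnn
  have hTT' : ∀ t ∈ (T : Subgroup G), π t ∈ (T' : Subgroup (G ⧸ N)) := by
    intro t ht
    rw [hT', hπdef]
    exact ⟨t, ht, rfl⟩
  obtain ⟨L', D', h1, h2, h3, h4, h5, h6, h7⟩ := hS
  let D1 : Subgroup G := D'.comap π
  let L1 : Subgroup G := L'.comap π
  have hND : N ≤ D1 := by
    intro n hn
    show π n ∈ D'
    rw [hker' n hn]; exact D'.one_mem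
  have hNL : N ≤ L1 := by
    intro n hn
    show π n ∈ L'
    rw [hker' n hn]; exact L'.one_mem
  have hTL1 : (T : Subgroup G) ≤ L1 := fun t ht => h6 (hTT' t ht)
  -- `T` centralizes `D1`
  have hD1A : D1 ≤ AA T := by
    intro d hd
    rw [Subgroup.mem_centralizer_iff]
    intro t ht
    have hc := h1 (π t) (hTL1 ht) (π d) hd
    have hn : t⁻¹ * (d * t * d⁻¹) ∈ N := by
      apply hker
      rw [map_mul, map_inv, map_mul, map_mul, ← hc, map_inv]
      group
    have h8 : (t⁻¹ * (d * t * d⁻¹)) = 1 := by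
      obtain ⟨n, hn'⟩ : ∃ n, n = t⁻¹ * (d * t * d⁻¹) := ⟨_, rfl⟩
      rw [← hn'] at hn ⊢
      apply hpowN n hn
      have h9 : t * n = d * t * d⁻¹ := by rw [hn']; group
      have h10 : (t * n) ^ Nat.card (T : Subgroup G) = 1 := by
        rw [h9, conj_pow, pow_card_eq_one _ ht]; group
      rw [(show Commute t n from hcen n hn t).mul_pow, pow_card_eq_one _ ht, one_mul] at h10
      exact h10
    have h9 : d * t * d⁻¹ = t := by
      calc d * t * d⁻¹ = t * (t⁻¹ * (d * t * d⁻¹)) := by group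
        _ = t := by rw [h8, mul_one]
    exact (mul_inv_eq_iff_eq_mul.1 h9).symm
  have hD1odd : Odd (Nat.card D1) := by
    apply odd_card_of_no_involution
    intro z hz hz2
    have h8 : π z ^ 2 = 1 := by rw [← map_pow, ← hz2, pow_orderOf_eq_one, map_one]
    have h9 : π z = 1 := by
      by_contra hne
      have h10 := orderOf_eq_prime h8 hne
      have hz' : π z ∈ D' := hz
      have h11 : orderOf (⟨π z, hz'⟩ : D') ∣ Nat.card D' := orderOf_dvd_natCard _
      rw [Subgroup.orderOf_mk, h10] at h11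
      rw [← Nat.not_even_iff_odd, even_iff_two_dvd] at h5
      exact h5 h11
    have h10 := hNodd z (hker z h9)
    rw [hz2] at h10
    exact absurd h10 (by decide)
  -- `L'` is `PSL(2,F)`
  obtain ⟨l₀, hl₀, hl₀M⟩ := exists_not_mem_MM T' hT'nn h1 h4 h6
  have hCq : HC (G ⧸ N) := hC.quot N hNc hNodd
  obtain ⟨F, iF, iFt, hchar, h4F, ⟨e⟩⟩ := psl_of_el (T'.subtype h6) (hCq.sub L')
    (sub_not_cyclic T' hT'nc h6) (sub_not_normal T' h6 hl₀ hl₀M) (by
      intro t ht c hc
      have := h7 t t.2 (by rw [Subgroup.orderOf_coe]; exact ht) c c.2 (congrArg Subtype.val hc)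
      exact Subtype.ext this)
  obtain ⟨hperf, hcyc⟩ := psl_facts hchar h4F
  -- the central extension
  let ρ : L1 →* L' := π.subgroupComap L'
  have hρ : ∀ x : L1, ((ρ x : L') : G ⧸ N) = π x := fun x => rfl
  have hρs : Function.Surjective ρ := by
    rintro ⟨y, hy⟩
    obtain ⟨x, hx⟩ := hπs y
    refine ⟨⟨x, ?_⟩, ?_⟩
    · show π x ∈ L'
      rw [hx]; exact hy
    · apply Subtype.ext
      rw [hρ]
      exact hx
  let σ : L1 →* Matrix.ProjectiveSpecialLinearGroup (Fin 2) F := e.toMonoidHom.comp ρ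
  have hσs : Function.Surjective σ := e.surjective.comp hρs
  have hσker : ∀ x : L1, x ∈ σ.ker ↔ (x : G) ∈ N := by
    intro x
    rw [MonoidHom.mem_ker]
    constructor
    · intro h
      apply hker
      have h8 : ρ x = 1 := by
        apply e.injective
        rw [map_one]; exact h
      rw [← hρ, h8]; rfl
    · intro h
      have h8 : ρ x = 1 := Subtype.ext (hker' x h)
      show e (ρ x) = 1
      rw [h8, map_one]
  have hσc : σ.ker ≤ Subgroup.center L1 := by
    intro x hx
    rw [Subgroup.mem_center_iff]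
    intro g
    exact Subtype.ext (hcen x ((hσker x).1 hx) g)
  have hσodd : Odd (Nat.card σ.ker) := by
    apply odd_card_of_no_involution
    intro z hz hz2
    have h8 := hNodd z ((hσker z).1 hz)
    rw [Subgroup.orderOf_coe, hz2] at h8
    exact absurd h8 (by decide)
  obtain ⟨hs1, hs2⟩ := split_central σ hσs hσc hσodd hperf hcyc
  let L : Subgroup G := (commutator L1).map L1.subtype
  have hLL1 : L ≤ L1 := Subgroup.map_subtype_le _
  have hLN : ∀ x ∈ L, x ∈ N → x = 1 := by
    rintro _ ⟨x, hx, rfl⟩ hxN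
    have h8 : x ∈ commutator L1 ⊓ σ.ker := ⟨hx, (hσker x).2 hxN⟩
    rw [hs1, Subgroup.mem_bot] at h8
    rw [h8]; rfl
  have hL1dec : ∀ x ∈ L1, ∃ c ∈ L, ∃ n ∈ N, x = c * n := by
    intro x hx
    have h8 : (⟨x, hx⟩ : L1) ∈ commutator L1 ⊔ σ.ker := by rw [hs2]; exact Subgroup.mem_top _
    obtain ⟨c, hc, n, hn, h9⟩ := exists_mul_of_commute (fun l _ d hd =>
      Subgroup.mem_center_iff.1 (hσc hd) l) h8
    exact ⟨c, ⟨c, hc, rfl⟩, n, (hσker n).1 hn, congrArg Subtype.val h9⟩
  refine ⟨L, D1, ?_, ?_, ?_, ?_, hD1odd, ?_, ?_⟩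
  · -- commuting
    have hcomm1 : ⁅L1, D1⁆ ≤ N := by
      rw [Subgroup.commutator_le]
      intro l hl d hd
      apply hker
      rw [map_commutatorElement, commutatorElement_eq_one_iff_commute]
      exact h1 _ hl _ hd
    have h8 : ⁅⁅L1, D1⁆, L1⁆ = ⊥ := by
      rw [Subgroup.commutator_eq_bot_iff_le_centralizer]
      intro x hx
      rw [Subgroup.mem_centralizer_iff]
      intro y _
      exact hcen x (hcomm1 hx) y
    have h9 : ⁅⁅D1, L1⁆, L1⁆ = ⊥ := by rw [Subgroup.commutator_comm D1 L1]; exact h8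
    have h10 := Subgroup.commutator_commutator_eq_bot_of_rotate h8 h9
    have h11 : L = ⁅L1, L1⁆ := by
      show (commutator L1).map L1.subtype = _
      rw [commutator_def, Subgroup.map_commutator]
      simp [← MonoidHom.range_eq_map]
    intro l hl d hd
    rw [Subgroup.commutator_eq_bot_iff_le_centralizer, ← h11] at h10
    exact (Subgroup.mem_centralizer_iff.1 (h10 hl) d hd).symm
  · intro a ha b hb
    exact AA_comm T hnc hC (hD1A ha) (hD1A hb)
  · rw [eq_bot_iff]
    intro x hx
    rw [Subgroup.mem_bot]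
    apply hLN x hx.1
    apply hker
    have h8 : π x ∈ L' ⊓ D' := ⟨hLL1 hx.1, hx.2⟩
    rw [h3, Subgroup.mem_bot] at h8
    exact h8
  · rw [eq_top_iff]
    intro g _
    have h8 : π g ∈ L' ⊔ D' := by rw [h4]; exact Subgroup.mem_top _
    obtain ⟨l, hl, d, hd, h9⟩ := exists_mul_of_commute h1 h8
    obtain ⟨l, rfl⟩ := hπs l
    obtain ⟨d, rfl⟩ := hπs d
    have h10 : (l * d)⁻¹ * g ∈ N := by
      apply hker
      rw [map_mul, map_inv, map_mul, h9, inv_mul_cancel]
    obtain ⟨c, hc, n, hn, hln⟩ := hL1dec l hl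
    have h11 : g = c * (n * (d * ((l * d)⁻¹ * g))) := by
      calc g = l * (d * ((l * d)⁻¹ * g)) := by group
        _ = c * (n * (d * ((l * d)⁻¹ * g))) := by
          conv_lhs => rw [hln]
          rw [mul_assoc c n, ← hln]
    rw [h11]
    exact (L ⊔ D1).mul_mem ((le_sup_left : L ≤ _) hc) ((le_sup_right : D1 ≤ _)
      (D1.mul_mem (hND hn) (D1.mul_mem hd (hND h10))))
  · intro t ht
    obtain ⟨c, hc, n, hn, htc⟩ := hL1dec t (hTL1 ht)
    have h8 : t ^ Nat.card (T : Subgroup G) = 1 := pow_card_eq_one _ ht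
    rw [htc, (show Commute c n from hcen n hn c).mul_pow] at h8
    have h9 : c ^ Nat.card (T : Subgroup G) = 1 := by
      apply hLN _ (L.pow_mem hc _)
      rw [mul_eq_one_iff_eq_inv] at h8
      rw [h8]
      exact N.inv_mem (N.pow_mem hn _)
    rw [h9, one_mul] at h8
    rw [htc, hpowN n hn h8, mul_one]
    exact hc
  · intro t ht ht2 c hc hct
    have h8 : orderOf (π t) = 2 := by
      apply orderOf_eq_prime
      · rw [← map_pow, ← ht2, pow_orderOf_eq_one, map_one]
      · intro h
        have := hLN t ht (hker t h)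
        rw [this, orderOf_one] at ht2
        exact absurd ht2 (by decide)
    have h9 := h7 (π t) (hLL1 ht) h8 (π c) (hLL1 hc) (by rw [← map_mul, hct, map_mul])
    apply hLN _ (L.mul_mem hc hc)
    apply hker
    rw [map_mul]; exact h9

/-- the main theorem -/
theorem split_all (n : ℕ) : ∀ (H : Type u) [Group H] [Finite H], Nat.card H = n → HC H →
    ∀ T : Sylow 2 H, ¬ IsCyclic (T : Subgroup H) → ¬ (T : Subgroup H).Normal → Split T := by
  induction n using Nat.strong_induction_on with
  | _ n ih =>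
    intro G _ _ hcard hC T hnc hnn
    have hIH : IH.{u} (Nat.card G) := by
      intro K _ _ hK
      rw [hcard] at hK
      exact ih _ hK K rfl
    by_cases hZ : ∀ x : G, Odd (orderOf x) → x ∈ Subgroup.center G → x = 1
    · have hel := elementary_of T hnc hnn hC hIH hZ
      refine ⟨⊤, ⊥, ?_, ?_, by simp, by simp, by simp, le_top, fun t _ ht c _ hc => hel t ht c hc⟩
      · rintro l - d hd
        rw [Subgroup.mem_bot] at hd
        rw [hd]; simp
      · intro a ha b hb
        rw [Subgroup.mem_bot] at ha hb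
        rw [ha, hb]
    · push Not at hZ
      obtain ⟨z, hzodd, hzc, hz1⟩ := hZ
      have hNle : Subgroup.zpowers z ≤ Subgroup.center G := by
        rw [Subgroup.zpowers_le]; exact hzc
      have hnormal : (Subgroup.zpowers z).Normal := by
        constructor
        intro x hx g
        have := Subgroup.mem_center_iff.1 (hNle hx) g
        rw [this, mul_inv_cancel_right]
        exact hx
      have hNodd : ∀ x ∈ Subgroup.zpowers z, Odd (orderOf x) := by
        rintro _ ⟨k, rfl⟩
        apply hzodd.of_dvd_nat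
        apply orderOf_dvd_of_pow_eq_one
        show (z ^ k) ^ orderOf z = 1
        rw [← zpow_natCast, ← zpow_mul, mul_comm, zpow_mul, zpow_natCast, pow_orderOf_eq_one,
          one_zpow]
      have hlt : Nat.card (G ⧸ Subgroup.zpowers z) < Nat.card G := by
        rw [Subgroup.card_eq_card_quotient_mul_card_subgroup (Subgroup.zpowers z)]
        have h1 : 1 < Nat.card (Subgroup.zpowers z) := by
          rw [Nat.card_zpowers]
          have := orderOf_pos z
          have : orderOf z ≠ 1 := fun h => hz1 (orderOf_eq_one_iff.1 h)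
          omega
        exact lt_mul_of_one_lt_right Nat.card_pos h1
      exact split_of_quot T hC hnc (Subgroup.zpowers z) hNle hNodd hnn
        (hIH _ hlt (hC.quot _ hNle hNodd) _ (quot_not_cyclic T _ hNodd hnc)
          (quot_not_normal T _ hNle hNodd hnn))

/-- the final statement -/
theorem final {G : Type u} [Group G] [Finite G]
    (h : ∀ t : G, orderOf t = 2 → IsMulCommutative ↥(Subgroup.centralizer ({t} : Set G))) :
    (∀ P : Sylow 2 G, IsCyclic ↥P) ∨ (∀ P : Sylow 2 G, (P : Subgroup G).Normal) ∨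
    (∃ (F : Type) (_ : Field F) (_ : Fintype F) (A : Type) (_ : CommGroup A) (_ : Finite A),
      CharP F 2 ∧ Odd (Nat.card A) ∧ Nonempty (G ≃* Matrix.SpecialLinearGroup (Fin 2) F × A)) := by
  classical
  have hfact : Fact (Nat.Prime 2) := ⟨Nat.prime_two⟩
  have hC : HC G := by
    intro t ht a ha b hb
    have h1 := h t ht
    exact congrArg Subtype.val (mul_comm' (⟨a, ha⟩ : Subgroup.centralizer ({t} : Set G)) ⟨b, hb⟩)
  by_cases h1 : ∀ P : Sylow 2 G, IsCyclic ↥P
  · exact Or.inl h1
  right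
  by_cases h2 : ∀ P : Sylow 2 G, (P : Subgroup G).Normal
  · exact Or.inl h2
  right
  push Not at h1 h2
  obtain ⟨T, hT⟩ := h1
  obtain ⟨T₂, hT₂⟩ := h2
  have hnn : ¬ (T : Subgroup G).Normal := by
    intro hn
    have := Sylow.unique_of_normal T hn
    apply hT₂
    rw [Subsingleton.elim T₂ T]
    exact hn
  obtain ⟨L, D, hLD, hDD, hinf, hsup, hodd, hTL, hel⟩ := split_all _ G rfl hC T hT hnn
  obtain ⟨l₀, hl₀, hl₀M⟩ := exists_not_mem_MM T hnn hLD hsup hTL
  obtain ⟨F, iF, iFt, hchar, -, ⟨e⟩⟩ := psl_of_el (T.subtype hTL) (hC.sub L)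
    (sub_not_cyclic T hT hTL) (sub_not_normal T hTL hl₀ hl₀M) (by
      intro t ht c hc
      have := hel t t.2 (by rw [Subgroup.orderOf_coe]; exact ht) c c.2 (congrArg Subtype.val hc)
      exact Subtype.ext this)
  obtain ⟨e₂⟩ := SL2EvenMisc.exists_psl_equiv (F := F)
  obtain ⟨A, iA, iAf, ⟨eA⟩⟩ := Finite.exists_type_univ_nonempty_mulEquiv.{u, 0} D
  have hcommA : ∀ a b : A, a * b = b * a := by
    intro a b
    apply eA.symm.injective
    rw [map_mul, map_mul]
    exact Subtype.ext (hDD _ (eA.symm a).2 _ (eA.symm b).2)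
  refine ⟨F, iF, iFt, A, { iA with mul_comm := hcommA }, inferInstance, hchar, ?_, ?_⟩
  · rwa [← Nat.card_congr eA.toEquiv]
  · let f : L × D →* G :=
      { toFun := fun x => x.1 * x.2
        map_one' := by simp
        map_mul' := by
          rintro ⟨l, d⟩ ⟨l', d'⟩
          show (l : G) * l' * (d * d') = l * d * (l' * d')
          calc (l : G) * l' * (d * d') = l * (l' * d) * d' := by group
            _ = l * (d * l') * d' := by rw [hLD l' l'.2 d d.2]
            _ = _ := by group }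
    have hf : Function.Bijective f := by
      constructor
      · rw [injective_iff_map_eq_one]
        rintro ⟨l, d⟩ hx
        have h3 : (l : G) * d = 1 := hx
        have h4 : (l : G) = (d : G)⁻¹ := mul_eq_one_iff_eq_inv.1 h3
        have h5 : (l : G) ∈ L ⊓ D := ⟨l.2, by rw [h4]; exact D.inv_mem d.2⟩
        rw [hinf, Subgroup.mem_bot] at h5
        have h6 : (d : G) = 1 := by rw [h5, one_mul] at h3; exact h3
        exact Prod.ext (Subtype.ext h5) (Subtype.ext h6)
      · intro g
        have h3 : g ∈ L ⊔ D := by rw [hsup]; exact Subgroup.mem_top _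
        obtain ⟨l, hl, d, hd, rfl⟩ := exists_mul_of_commute hLD h3
        exact ⟨(⟨l, hl⟩, ⟨d, hd⟩), rfl⟩
    let E : L × D ≃* G := MulEquiv.ofBijective f hf
    exact ⟨E.symm.trans (MulEquiv.prodCongr (e.trans e₂.symm) eA)⟩

end Cfsg.Agent.Lib.AbCent
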