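import Cfsg.Agent.Lib.AbLS4

/-!
# Blocks with abelian defect groups: orthogonality of the columns (helper77)
-/

set_option autoImplicit false
set_option linter.all false

namespace Cfsg.Agent.Lib.AbSec

open Cfsg Cfsg.Agent.Lib.BlockRing Cfsg.Agent.Lib.BlockGA Cfsg.Agent.Lib.BlockIdem
open Cfsg.Agent.Lib.BlkIdem Cfsg.Agent.Lib.BlockAlg Cfsg.Agent.Lib.PairAlg Cfsg.Agent.Lib.PairMax
open Cfsg.Agent.Lib.BrauerPairs Cfsg.Agent.Lib.NormalPBlk Cfsg.Agent.Lib.DefPairs
open Cfsg.Agent.Lib.BlkTransport Cfsg.Agent.Lib.BlkFus Cfsg.Agent.Lib.InducedPair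
open Cfsg.Agent.Lib.BlockCount Cfsg.Agent.Lib.BlockPair Cfsg.Agent.Lib.PairCount
open Cfsg.Agent.Lib.AbFusion Cfsg.Agent.Lib.AbCount Cfsg.Agent.Lib.BlockSecond
open Cfsg.Agent.Lib.CharBasic Cfsg.Agent.Lib.Contrib Cfsg.Agent.Lib.AbFT Cfsg.Agent.Lib.AbWeis
open MonoidAlgebra (single)
open scoped ComplexConjugate Classical

universe u v

section general

variable {G : Type u} [Group G] [Finite G]

theorem conj_sum_comm [Fintype G] (F : G → ℂ) (y : G) : ∑ g : G, F (y * g * y⁻¹) = ∑ g : G, F g :=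
  Fintype.sum_equiv (MulAut.conj y).toEquiv _ _ fun g => rfl

/-- second orthogonality for elements of the group algebra -/
theorem col_gen [Fintype G] (z : GA G) (x : G) :
    ∑ χ : IrrCharacter G, lin (χ : G → ℂ) z * conj ((χ : G → ℂ) x) = ∑ y : G, z.coeff (y * x * y⁻¹) := by
  obtain ⟨F, hF⟩ : ∃ F : G → ℂ, F = fun x => ∑ y : G, conj (z.coeff (y * x * y⁻¹)) := ⟨_, rfl⟩
  have hcl : IsClassFunction G F := by
    intro g h
    rw [hF]
    simp only
    refine Fintype.sum_equiv (Equiv.mulRight h) _ _ fun y => ?_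
    simp only [Equiv.coe_mulRight]
    congr 2
    group
  have h1 := hcl.expansion_apply x
  have h2 : ∀ χ : IrrCharacter G, classInner F (χ : G → ℂ) = conj (lin (χ : G → ℂ) z) := by
    intro χ
    rw [classInner_def, hF, lin_apply, map_sum]
    have h3 : ∀ g : G, (∑ y : G, conj (z.coeff (y * g * y⁻¹))) * conj ((χ : G → ℂ) g) =
        ∑ y : G, conj (z.coeff (y * g * y⁻¹)) * conj ((χ : G → ℂ) (y * g * y⁻¹)) := by
      intro g
      rw [Finset.sum_mul]
      refine Finset.sum_congr rfl fun y _ => ?_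
      rw [χ.2.isClassFunction g y]
    rw [Finset.sum_congr rfl fun g _ => h3 g, Finset.sum_comm]
    have h4 : ∀ y : G, ∑ g : G, conj (z.coeff (y * g * y⁻¹)) * conj ((χ : G → ℂ) (y * g * y⁻¹)) =
        ∑ g : G, conj (z.coeff g) * conj ((χ : G → ℂ) g) :=
      fun y => conj_sum_comm (fun g => conj (z.coeff g) * conj ((χ : G → ℂ) g)) y
    rw [Finset.sum_congr rfl fun y _ => h4 y, Finset.sum_const, Finset.card_univ, nsmul_eq_mul,
      ← Nat.card_eq_fintype_card, ← mul_assoc, inv_mul_cancel₀ (Nat.cast_ne_zero.2 Nat.card_pos.ne'), one_mul]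
    exact Finset.sum_congr rfl fun g _ => (map_mul _ _ _).symm
  have h5 := congrArg conj h1
  rw [map_sum, hF] at h5
  simp only [map_sum, Complex.conj_conj] at h5
  rw [h5]
  refine Finset.sum_congr rfl fun χ _ => ?_
  rw [← hF, h2, map_mul, Complex.conj_conj]

theorem col_gen2 [Fintype G] (z w : GA G) :
    ∑ χ : IrrCharacter G, lin (χ : G → ℂ) z * conj (lin (χ : G → ℂ) w) =
      ∑ y : G, ∑ g : G, z.coeff g * conj ((BrauerMap.cj y w).coeff g) := by
  have h1 : ∀ χ : IrrCharacter G, lin (χ : G → ℂ) z * conj (lin (χ : G → ℂ) w) =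
      ∑ x : G, conj (w.coeff x) * (lin (χ : G → ℂ) z * conj ((χ : G → ℂ) x)) := by
    intro χ
    rw [lin_apply (χ : G → ℂ) w, map_sum, Finset.mul_sum]
    exact Finset.sum_congr rfl fun g _ => by rw [map_mul]; ring
  rw [Finset.sum_congr rfl fun χ _ => h1 χ, Finset.sum_comm]
  have h2 : ∀ x : G, ∑ χ : IrrCharacter G, conj (w.coeff x) * (lin (χ : G → ℂ) z * conj ((χ : G → ℂ) x)) =
      ∑ y : G, conj (w.coeff x) * z.coeff (y * x * y⁻¹) := by
    intro x
    rw [← Finset.mul_sum, col_gen, Finset.mul_sum]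
  rw [Finset.sum_congr rfl fun x _ => h2 x, Finset.sum_comm]
  refine Finset.sum_congr rfl fun y _ => ?_
  rw [← conj_sum_comm (fun g => z.coeff g * conj ((BrauerMap.cj y w).coeff g)) y]
  refine Finset.sum_congr rfl fun x _ => ?_
  rw [BrauerMap.cj_coeff]
  have e : y⁻¹ * (y * x * y⁻¹) * y = x := by group
  rw [e]
  ring

/-- block idempotents are self-adjoint -/
theorem cid_coeff_inv {H : Subgroup G} (b : Set (IrrCharacter H)) (g : G) :
    (cid H b).coeff g⁻¹ = conj ((cid H b).coeff g) := by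
  haveI := Fintype.ofFinite H
  by_cases hg : g ∈ H
  · have h1 := cid_coeff_coe H b ⟨g, hg⟩
    have h2 := cid_coeff_coe H b ⟨g, hg⟩⁻¹
    simp only [Subgroup.coe_inv] at h1 h2
    rw [h1, h2, blockCoeff_eq_sum, blockCoeff_eq_sum, map_mul, map_inv₀, Complex.conj_natCast, map_sum]
    congr 1
    refine Finset.sum_congr rfl fun χ _ => ?_
    split_ifs
    · rw [χ.2.isCharacter.inv, map_mul]
      congr 1
      obtain ⟨n, -, hn⟩ := χ.2.exists_degree
      rw [hn, Complex.conj_natCast]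
    · rw [map_zero]
  · rw [cid_coeff_not_mem _ _ hg, cid_coeff_not_mem _ _ (fun h => hg (by simpa using h)), map_zero]

theorem inner_cid [Fintype G] {H : Subgroup G} (b b' : Set (IrrCharacter H)) :
    ∑ g : G, (cid H b).coeff g * conj ((cid H b').coeff g) = (cid H b * cid H b').coeff 1 := by
  rw [coeff_mul_fintype]
  refine Finset.sum_congr rfl fun g _ => ?_
  rw [mul_one, cid_coeff_inv]

end general

variable {p : ℕ} [hp : Fact p.Prime] {M : Ideal AlgInt} [hMm : M.IsMaximal] [hchar : CharP (Kf M) p]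
  {G : Type u} [Group G] [Finite G] {B : Set (IrrCharacter G)} {P : Subgroup G} {c : MonoidAlgebra (Kf M) G}

theorem mem_Cn_zpowers {v g : G} : g ∈ Cn (Subgroup.zpowers v) ↔ Commute v g := by
  show g ∈ Subgroup.centralizer ((Subgroup.zpowers v : Subgroup G) : Set G) ↔ _
  rw [SubsecNorm.centralizer_zpowers, Subgroup.mem_centralizer_singleton_iff]
  exact ⟨fun h => h.symm, fun h => h.symm⟩

/-- the support of `v * e_v` -/
theorem supp_veh (hM : IsPModular p M) (h : AbMax p B P c) {v : G} (hv : v ∈ P) {g : G}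
    (hg : (single v (1 : ℂ) * eh p P c (Subgroup.zpowers v)).coeff g ≠ 0) :
    Commute v (v⁻¹ * g) ∧ ¬ p ∣ orderOf (v⁻¹ * g) := by
  rw [MonoidAlgebra.coeff_single_mul_apply, one_mul] at hg
  constructor
  · rw [← mem_Cn_zpowers]
    by_contra h'
    exact hg (eh_supp h')
  · intro h'
    exact hg (eh_reg hM h.pair (zpowers_le_of hv) h')

theorem ppart_unique (h : AbMax p B P c) {v w g : G} (hv : ∃ k : ℕ, orderOf v = p ^ k) (hw : ∃ k : ℕ, orderOf w = p ^ k)
    (h1 : Commute v (v⁻¹ * g)) (h1' : ¬ p ∣ orderOf (v⁻¹ * g)) (h2 : Commute w (w⁻¹ * g))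
    (h2' : ¬ p ∣ orderOf (w⁻¹ * g)) : v = w := by
  obtain ⟨k, hk⟩ := hv
  obtain ⟨k', hk'⟩ := hw
  exact (eq_of_comm_of_orders hp.out h1 h2 (by group) hk hk' h1' h2').1

/-- **Orthogonality of the columns of the generalized decomposition matrix.** -/
theorem col_main (hM : IsPModular p M) (h : AbMax p B P c) [Fintype G] {v w : G} (hv : v ∈ P) (hw : w ∈ P) :
    ∑ χ : IrrCharacter G, lin (χ : G → ℂ) (single v 1 * eh p P c (Subgroup.zpowers v)) *
        conj (lin (χ : G → ℂ) (single w 1 * eh p P c (Subgroup.zpowers w))) =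
      if ∃ t ∈ TT P c, t * w * t⁻¹ = v then
        (Nat.card (Cn (Subgroup.zpowers v)) : ℂ) * (eh p P c (Subgroup.zpowers v)).coeff 1 else 0 := by
  rw [col_gen2]
  have hPp : IsPGroup p P := h.pair.1
  have hord : ∀ {x : G}, x ∈ P → ∃ k : ℕ, orderOf x = p ^ k := fun hx => orderOf_mem hPp hx
  -- the terms
  have hterm : ∀ y : G, ∑ g : G, (single v (1 : ℂ) * eh p P c (Subgroup.zpowers v)).coeff g *
      conj ((BrauerMap.cj y (single w (1 : ℂ) * eh p P c (Subgroup.zpowers w))).coeff g) =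
      if y⁻¹ * v * y = w ∧ ∃ z ∈ Cn (Subgroup.zpowers v), ∃ t ∈ TT P c, y = z * t then
        (eh p P c (Subgroup.zpowers v)).coeff 1 else 0 := by
    intro y
    by_cases hy : y⁻¹ * v * y = w
    · have hyw : y * w * y⁻¹ = v := by rw [← hy]; group
      have e1 : BrauerMap.cj y (single w (1 : ℂ) * eh p P c (Subgroup.zpowers w)) =
          single v 1 * BrauerMap.cj y (eh p P c (Subgroup.zpowers w)) := by
        rw [map_mul, cj_single, hyw]
      have e2 : ∑ g : G, (single v (1 : ℂ) * eh p P c (Subgroup.zpowers v)).coeff g *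
          conj ((BrauerMap.cj y (single w (1 : ℂ) * eh p P c (Subgroup.zpowers w))).coeff g) =
          ∑ g : G, (eh p P c (Subgroup.zpowers v)).coeff g *
            conj ((BrauerMap.cj y (eh p P c (Subgroup.zpowers w))).coeff g) := by
        rw [e1]
        refine Fintype.sum_equiv (Equiv.mulLeft v⁻¹) _ _ fun g => ?_
        rw [MonoidAlgebra.coeff_single_mul_apply, MonoidAlgebra.coeff_single_mul_apply, one_mul, one_mul]
        rfl
      rw [e2]
      have hbw : IsBlk (Cn (Subgroup.zpowers v)) (BrauerMap.cj y (pr p P c (Subgroup.zpowers w))) := by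
        refine ((pr_pair h.pair (zpowers_le_of hw)).2.cj (x := y) ?_)
        intro g
        rw [mem_Cn_zpowers, mem_Cn_zpowers, ← hyw]
        constructor
        · intro h'
          have := h'.eq
          show w * (y⁻¹ * g * y) = (y⁻¹ * g * y) * w
          calc w * (y⁻¹ * g * y) = y⁻¹ * ((y * w * y⁻¹) * g) * y := by group
            _ = y⁻¹ * (g * (y * w * y⁻¹)) * y := by rw [this]
            _ = _ := by group
        · intro h'
          have := h'.eq
          show (y * w * y⁻¹) * g = g * (y * w * y⁻¹)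
          calc (y * w * y⁻¹) * g = y * (w * (y⁻¹ * g * y)) * y⁻¹ := by group
            _ = y * ((y⁻¹ * g * y) * w) * y⁻¹ := by rw [this]
            _ = _ := by group
      have hC1 : Subgroup.centralizer ({v} : Set G) = Cn (Subgroup.zpowers v) :=
        (SubsecNorm.centralizer_zpowers v).symm
      have e3 := cid_blkOf_cj (y := y) hw h
      rw [hyw, hC1] at e3
      obtain ⟨b', hb'⟩ : ∃ b', b' = blkOf M (Cn (Subgroup.zpowers v)) (BrauerMap.cj y (pr p P c (Subgroup.zpowers w))) :=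
        ⟨_, rfl⟩
      have hspec := blkOf_spec hbw
      rw [← hb'] at e3 hspec
      rw [← e3, eh, inner_cid]
      have hfib := mem_fiber_iff h (u := v) (y0 := 1) (by simpa using hv) y
      simp only [inv_one, one_mul, mul_one, BrauerMap.cj_one, hy] at hfib
      rw [hC1] at hfib
      by_cases hbb : b' = bQ p P c (Subgroup.zpowers v)
      · have h4 : BrauerMap.cj y (pr p P c (Subgroup.zpowers w)) = pr p P c (Subgroup.zpowers v) := by
          rw [← hspec.2, hbb]
          exact bid_bQ h.pair (zpowers_le_of hv)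
        rw [hbb, cid_mul_self, if_pos ⟨hy, hfib.1 ⟨hw, h4⟩⟩]
      · have h4 : cid (Cn (Subgroup.zpowers v)) (bQ p P c (Subgroup.zpowers v)) * cid (Cn (Subgroup.zpowers v)) b' = 0 :=
          cid_mul_cid (isPBlock_bQ h.pair (zpowers_le_of hv)) hspec.1 (Ne.symm hbb)
        rw [if_neg]
        · rw [h4]; rfl
        · rintro ⟨-, h5⟩
          have h6 := (hfib.2 h5).2
          apply hbb
          rw [hb', h6]
    · rw [if_neg (fun h' => hy h'.1)]
      apply Finset.sum_eq_zero
      intro g _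
      by_contra hne
      have h1 := left_ne_zero_of_mul hne
      have h2 : (BrauerMap.cj y (single w (1 : ℂ) * eh p P c (Subgroup.zpowers w))).coeff g ≠ 0 := by
        intro h'
        exact hne (by rw [h', map_zero, mul_zero])
      rw [BrauerMap.cj_coeff] at h2
      obtain ⟨a1, a2⟩ := supp_veh hM h hv h1
      obtain ⟨b1, b2⟩ := supp_veh hM h hw h2
      have e1 : (y * w * y⁻¹)⁻¹ * g = y * (w⁻¹ * (y⁻¹ * g * y)) * y⁻¹ := by group
      have b1' : Commute (y * w * y⁻¹) ((y * w * y⁻¹)⁻¹ * g) := by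
        rw [e1]
        have := b1.eq
        show y * w * y⁻¹ * (y * (w⁻¹ * (y⁻¹ * g * y)) * y⁻¹) = y * (w⁻¹ * (y⁻¹ * g * y)) * y⁻¹ * (y * w * y⁻¹)
        calc y * w * y⁻¹ * (y * (w⁻¹ * (y⁻¹ * g * y)) * y⁻¹) = y * (w * (w⁻¹ * (y⁻¹ * g * y))) * y⁻¹ := by group
          _ = y * ((w⁻¹ * (y⁻¹ * g * y)) * w) * y⁻¹ := by rw [this]
          _ = _ := by group
      have b2' : ¬ p ∣ orderOf ((y * w * y⁻¹)⁻¹ * g) := by
        rw [e1, orderOf_conj_dvd]
        exact b2
      have hw' : ∃ k : ℕ, orderOf (y * w * y⁻¹) = p ^ k := by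
        obtain ⟨k, hk⟩ := hord hw
        exact ⟨k, by rw [← hk]; simpa using orderOf_injective (MulAut.conj y).toMonoidHom (MulAut.conj y).injective w⟩
      have := ppart_unique h (hord hv) hw' a1 a2 b1' b2'
      apply hy
      rw [this]; group
  rw [Finset.sum_congr rfl fun y _ => hterm y]
  by_cases hex : ∃ t ∈ TT P c, t * w * t⁻¹ = v
  · rw [if_pos hex]
    obtain ⟨t0, ht0, htw⟩ := hex
    have h1 : ∀ z : G, (if (z * t0)⁻¹ * v * (z * t0) = w ∧ ∃ z' ∈ Cn (Subgroup.zpowers v), ∃ t ∈ TT P c,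
        z * t0 = z' * t then (eh p P c (Subgroup.zpowers v)).coeff 1 else 0) =
        if z ∈ Cn (Subgroup.zpowers v) then (eh p P c (Subgroup.zpowers v)).coeff 1 else 0 := by
      intro z
      by_cases hz : z ∈ Cn (Subgroup.zpowers v)
      · rw [if_pos hz, if_pos]
        refine ⟨?_, z, hz, t0, ht0, rfl⟩
        have h2 := (mem_Cn_zpowers.1 hz).eq
        have : (z * t0)⁻¹ * v * (z * t0) = t0⁻¹ * (z⁻¹ * (v * z)) * t0 := by group
        rw [this, h2, ← htw]
        group
      · rw [if_neg hz, if_neg]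
        rintro ⟨h2, -⟩
        apply hz
        rw [mem_Cn_zpowers]
        show v * z = z * v
        have h3 : t0⁻¹ * (z⁻¹ * v * z) * t0 = t0⁻¹ * v * t0 := by
          have e1 : t0⁻¹ * (z⁻¹ * v * z) * t0 = (z * t0)⁻¹ * v * (z * t0) := by group
          rw [e1, h2, ← htw]; group
        have h4 : z⁻¹ * v * z = v := mul_left_cancel (mul_right_cancel h3)
        calc v * z = z * (z⁻¹ * v * z) := by group
          _ = z * v := by rw [h4]
    rw [← Fintype.sum_equiv (Equiv.mulRight t0) _ _ (fun z => (h1 z).symm), ← Finset.sum_filter, Finset.sum_const,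
      nsmul_eq_mul]
    congr 2
    rw [Nat.card_eq_fintype_card, Fintype.card_subtype]
  · rw [if_neg hex]
    apply Finset.sum_eq_zero
    intro y _
    rw [if_neg]
    rintro ⟨h1, z, hz, t, ht, rfl⟩
    apply hex
    refine ⟨t, ht, ?_⟩
    have h2 := (mem_Cn_zpowers.1 hz).eq
    rw [← h1]
    calc t * ((z * t)⁻¹ * v * (z * t)) * t⁻¹ = z⁻¹ * (v * z) := by group
      _ = v := by rw [h2]; group

end Cfsg.Agent.Lib.AbSec
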