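import Cfsg.Agent.Lib.FrobBlk

/-!
# Integral vectors with Gram matrix `e J + 1` (helper77)
-/

set_option autoImplicit false
set_option linter.all false

namespace Cfsg.Agent.Lib.AbComb

open scoped Classical

open Cfsg.Agent.Lib.FrobBlk

variable {X : Type*} [Fintype X]

theorem card_le_sum_sq (O : Finset X) (v : X → ℤ) (h : ∀ x ∈ O, v x ≠ 0) : (O.card : ℤ) ≤ ∑ x ∈ O, v x ^ 2 := by
  rw [Finset.cast_card]
  apply Finset.sum_le_sum
  intro x hx
  have := h x hx
  have : 0 < v x ^ 2 := by positivity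
  omega

theorem sq_le_one {n : ℤ} (h : n ^ 2 ≤ 3) : n = 0 ∨ n = 1 ∨ n = -1 := by
  have h1 : n < 2 := by nlinarith
  have h2 : -2 < n := by nlinarith
  omega

/-- equality if the sum of squares is small -/
theorem card_eq_sum_sq (O : Finset X) (v : X → ℤ) (h : ∀ x ∈ O, v x ≠ 0) (h3 : ∑ x ∈ O, v x ^ 2 ≤ 3) :
    (O.card : ℤ) = ∑ x ∈ O, v x ^ 2 := by
  rw [Finset.cast_card]
  apply Finset.sum_congr rfl
  intro x hx
  have h4 : v x ^ 2 ≤ ∑ x ∈ O, v x ^ 2 := Finset.single_le_sum (fun y _ => sq_nonneg (v y)) hx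
  rcases sq_le_one (h4.trans h3) with h5 | h5 | h5
  · exact absurd h5 (h x hx)
  · rw [h5]; norm_num
  · rw [h5]; norm_num

/-- all entries are `±1` if the sum of squares equals the size of the support -/
theorem unit_of_eq (O : Finset X) (v : X → ℤ) (h : ∀ x ∈ O, v x ≠ 0) (h3 : ∑ x ∈ O, v x ^ 2 = O.card) :
    ∀ x ∈ O, v x = 1 ∨ v x = -1 := by
  intro x hx
  by_contra hcon
  have h0 := h x hx
  have h1 : ∀ y ∈ O, (1 : ℤ) ≤ v y ^ 2 := by
    intro y hy
    have := h y hy
    have : 0 < v y ^ 2 := by positivity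
    omega
  have h2 : (1 : ℤ) < v x ^ 2 := by
    push Not at hcon
    have : v x < -1 ∨ 1 < v x := by omega
    rcases this with h5 | h5 <;> nlinarith
  have h4 : ∑ y ∈ O, (1 : ℤ) < ∑ y ∈ O, v y ^ 2 := Finset.sum_lt_sum h1 ⟨x, hx, h2⟩
  rw [h3, Finset.sum_const, nsmul_eq_mul, mul_one] at h4
  exact lt_irrefl _ h4

/-- the shape of a family with Gram matrix `e J + 1` with at least two members -/
theorem shape (F : Finset (X → ℤ)) (e : ℕ) (he : 1 ≤ e) (hF : 2 ≤ F.card)
    (h1 : ∀ v ∈ F, ∑ x, v x * v x = e + 1) (h2 : ∀ v ∈ F, ∀ w ∈ F, v ≠ w → ∑ x, v x * w x = e)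
    (deg : X → ℤ) (hdeg : ∀ x, 0 < deg x) (hd : ∀ v ∈ F, ∑ x, deg x * v x = 0) :
    ∃ (s d : ℤ) (c : (X → ℤ) → X) (O : Finset X), (s = 1 ∨ s = -1) ∧ Set.InjOn c F ∧
      (∀ v ∈ F, ∀ w ∈ F, v ≠ w → v (c w) = d) ∧ (∀ v ∈ F, v (c v) = d + s) ∧
      (∀ v ∈ F, ∀ w ∈ F, ∀ x, x ∉ F.image c → v x = w x) ∧
      (∀ x, x ∈ O ↔ x ∉ F.image c ∧ ∃ v ∈ F, v x ≠ 0) ∧
      (∀ v ∈ F, ∑ x ∈ O, v x ^ 2 = e - 2 * s * d - F.card * d ^ 2) ∧
      (∀ v ∈ F, ∀ x ∈ O, v x ≠ 0) ∧
      (Finset.univ.filter fun x => ∃ v ∈ F, v x ≠ 0).card = F.card + O.card := by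
  obtain ⟨s, hs, c, hc, hx⟩ := coherent F e hF h1 h2 deg hdeg hd
  obtain ⟨d, hd1, hd2, hd3, hd4⟩ := coherent' F e hF h1 hs hc hx
  have hss : s ^ 2 = 1 := by rcases hs with rfl | rfl <;> norm_num
  refine ⟨s, d, c, Finset.univ.filter (fun x => x ∉ F.image c ∧ ∃ v ∈ F, v x ≠ 0), hs, hc, hd1, hd2, hd3,
    fun x => by simp only [Finset.mem_filter, Finset.mem_univ, true_and], ?_, ?_, ?_⟩
  · intro v hv
    have h3 := hd4 v hv
    have h4 : ∑ x ∈ Finset.univ.filter (fun x => x ∉ F.image c ∧ ∃ v ∈ F, v x ≠ 0), v x ^ 2 =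
        ∑ x ∈ Finset.univ.filter (fun x => x ∉ F.image c), v x ^ 2 := by
      rw [Finset.filter_and, Finset.inter_comm]
      apply Finset.sum_subset Finset.inter_subset_right
      intro x hx1 hx2
      have hx3 : ¬ ∃ v ∈ F, v x ≠ 0 := by
        intro h5
        exact hx2 (Finset.mem_inter.2 ⟨Finset.mem_filter.2 ⟨Finset.mem_univ _, h5⟩, hx1⟩)
      push Not at hx3
      rw [hx3 v hv]
      norm_num
    rw [h4]
    linear_combination h3 - hss
  · intro v hv x hx
    obtain ⟨-, hx1, w, hw, hwx⟩ := Finset.mem_filter.1 hx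
    rw [hd3 v hv w hw x hx1]
    exact hwx
  · have h5 : (Finset.univ.filter fun x => ∃ v ∈ F, v x ≠ 0) =
        F.image c ∪ Finset.univ.filter (fun x => x ∉ F.image c ∧ ∃ v ∈ F, v x ≠ 0) := by
      ext x
      simp only [Finset.mem_filter, Finset.mem_univ, true_and, Finset.mem_union]
      constructor
      · intro h
        by_cases hxF : x ∈ F.image c
        · exact Or.inl hxF
        · exact Or.inr ⟨hxF, h⟩
      · rintro (h | h)
        · obtain ⟨w, hw, rfl⟩ := Finset.mem_image.1 h
          by_cases hd0 : d = 0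
          · refine ⟨w, hw, ?_⟩
            rw [hd2 w hw, hd0]
            rcases hs with rfl | rfl <;> norm_num
          · obtain ⟨v, hv, hvw⟩ := Finset.exists_mem_ne (show 1 < F.card by omega) w
            exact ⟨v, hv, by rw [hd1 v hv w hw hvw]; exact hd0⟩
        · exact h.2
    rw [h5, Finset.card_union_of_disjoint, Finset.card_image_of_injOn hc]
    rw [Finset.disjoint_left]
    intro x hx1 hx2
    exact (Finset.mem_filter.1 hx2).2.1 hx1

/-- arithmetic: the number of remaining coordinates -/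
theorem arith1 {e m s d q : ℤ} (hs : s = 1 ∨ s = -1) (hm : 2 ≤ m) (hq : q = e - 2 * s * d - m * d ^ 2) :
    q ≤ e ∧ (q = e → d = 0 ∨ (m = 2 ∧ d = -s)) := by
  have hs2 : s ^ 2 = 1 := by rcases hs with rfl | rfl <;> norm_num
  have key : 2 * s * d + m * d ^ 2 = (m - 2) * d ^ 2 + 2 * (d * (d + s)) := by ring
  have h1 : 0 ≤ d * (d + s) := by
    rcases hs with rfl | rfl
    · rcases le_or_gt 0 d with h | h
      · positivity
      · nlinarith
    · rcases le_or_gt d 0 with h | h
      · nlinarith
      · nlinarith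
  have h2 : 0 ≤ (m - 2) * d ^ 2 := mul_nonneg (by omega) (sq_nonneg d)
  constructor
  · rw [hq]; linarith
  · intro h3
    by_cases hd : d = 0
    · exact Or.inl hd
    · right
      have h4 : 0 < d ^ 2 := by positivity
      have h5 : (m - 2) * d ^ 2 = 0 ∧ d * (d + s) = 0 := by constructor <;> linarith
      have h6 : m - 2 = 0 := by
        rcases mul_eq_zero.1 h5.1 with h | h
        · exact h
        · exact absurd h h4.ne'
      have h7 : d + s = 0 := by
        rcases mul_eq_zero.1 h5.2 with h | h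
        · exact absurd h hd
        · exact h
      exact ⟨by omega, by omega⟩

/-- the bound for the size of the support -/
theorem card_le (F : Finset (X → ℤ)) (e : ℕ) (he : 1 ≤ e) (hF : 1 ≤ F.card)
    (h1 : ∀ v ∈ F, ∑ x, v x * v x = e + 1) (h2 : ∀ v ∈ F, ∀ w ∈ F, v ≠ w → ∑ x, v x * w x = e)
    (deg : X → ℤ) (hdeg : ∀ x, 0 < deg x) (hd : ∀ v ∈ F, ∑ x, deg x * v x = 0) :
    (Finset.univ.filter fun x => ∃ v ∈ F, v x ≠ 0).card ≤ e + F.card := by
  rcases hF.eq_or_lt with hF1 | hF2
  · obtain ⟨v, rfl⟩ := Finset.card_eq_one.1 hF1.symm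
    have h3 := h1 v (Finset.mem_singleton_self v)
    have h4 := card_le_sum_sq (Finset.univ.filter fun x => ∃ w ∈ ({v} : Finset (X → ℤ)), w x ≠ 0) v (by
      intro x hx
      obtain ⟨-, w, hw, hwx⟩ := Finset.mem_filter.1 hx
      rwa [Finset.mem_singleton.1 hw] at hwx)
    have h5 : ∑ x ∈ (Finset.univ.filter fun x => ∃ w ∈ ({v} : Finset (X → ℤ)), w x ≠ 0), v x ^ 2 ≤ ∑ x, v x * v x := by
      rw [Finset.sum_congr rfl fun x _ => (sq (v x)).symm]
      exact Finset.sum_le_univ_sum_of_nonneg fun x => sq_nonneg _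
    rw [Finset.card_singleton]
    have : ((Finset.univ.filter fun x => ∃ w ∈ ({v} : Finset (X → ℤ)), w x ≠ 0).card : ℤ) ≤ e + 1 := by
      rw [← h3]; exact h4.trans h5
    exact_mod_cast this
  · obtain ⟨s, d, c, O, hs, hc, hd1, hd2, hd3, hO, hq, hO2, hcard⟩ := shape F e he hF2 h1 h2 deg hdeg hd
    rw [hcard]
    obtain ⟨v, hv⟩ := Finset.card_pos.1 (show 0 < F.card by omega)
    have h3 := card_le_sum_sq O v (hO2 v hv)
    have h4 := (arith1 hs (show (2 : ℤ) ≤ F.card by exact_mod_cast hF2) (hq v hv)).1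
    have h5 : (O.card : ℤ) ≤ e := h3.trans h4
    have h6 : O.card ≤ e := by exact_mod_cast h5
    omega

/-- equality for `e ≤ 3` outside of the exceptional cases -/
theorem card_eq (F : Finset (X → ℤ)) (e : ℕ) (he : 1 ≤ e) (hF : 1 ≤ F.card) (he3 : e ≤ 3)
    (hex : ¬ (3 ≤ F.card ∧ F.card ≤ e + 1))
    (h1 : ∀ v ∈ F, ∑ x, v x * v x = e + 1) (h2 : ∀ v ∈ F, ∀ w ∈ F, v ≠ w → ∑ x, v x * w x = e)
    (deg : X → ℤ) (hdeg : ∀ x, 0 < deg x) (hd : ∀ v ∈ F, ∑ x, deg x * v x = 0) :
    (Finset.univ.filter fun x => ∃ v ∈ F, v x ≠ 0).card = e + F.card := by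
  rcases hF.eq_or_lt with hF1 | hF2
  · obtain ⟨v, rfl⟩ := Finset.card_eq_one.1 hF1.symm
    have h3 := h1 v (Finset.mem_singleton_self v)
    have hnz : ∀ x ∈ (Finset.univ.filter fun x => ∃ w ∈ ({v} : Finset (X → ℤ)), w x ≠ 0), v x ≠ 0 := by
      intro x hx
      obtain ⟨-, w, hw, hwx⟩ := Finset.mem_filter.1 hx
      rwa [Finset.mem_singleton.1 hw] at hwx
    have h5 : ∑ x ∈ (Finset.univ.filter fun x => ∃ w ∈ ({v} : Finset (X → ℤ)), w x ≠ 0), v x ^ 2 = e + 1 := by
      rw [← h3, Finset.sum_congr rfl fun x _ => sq (v x)]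
      apply Finset.sum_subset (Finset.subset_univ _)
      intro x _ hx
      have : v x = 0 := by
        by_contra h'
        exact hx (Finset.mem_filter.2 ⟨Finset.mem_univ _, v, Finset.mem_singleton_self v, h'⟩)
      rw [this, mul_zero]
    rw [Finset.card_singleton]
    have hunit : ∀ x ∈ (Finset.univ.filter fun x => ∃ w ∈ ({v} : Finset (X → ℤ)), w x ≠ 0), v x ^ 2 = 1 := by
      intro x hx
      have h6 : v x ^ 2 ≤ 4 := by
        have := Finset.single_le_sum (f := fun y => v y ^ 2) (fun y _ => sq_nonneg (v y)) hx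
        rw [h5] at this
        have h7 : ((e : ℤ) + 1) ≤ 4 := by exact_mod_cast (by omega : e + 1 ≤ 4)
        exact this.trans h7
      have h0 := hnz x hx
      have h8 : v x ≤ 2 := by nlinarith
      have h9 : -2 ≤ v x := by nlinarith
      by_cases h10 : v x = 2 ∨ v x = -2
      · exfalso
        have h11 : v x ^ 2 = 4 := by rcases h10 with h | h <;> rw [h] <;> norm_num
        have h12 : ∀ y, y ≠ x → v y = 0 := by
          intro y hy
          by_contra hyn
          have hym : y ∈ (Finset.univ.filter fun x => ∃ w ∈ ({v} : Finset (X → ℤ)), w x ≠ 0) :=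
            Finset.mem_filter.2 ⟨Finset.mem_univ _, v, Finset.mem_singleton_self v, hyn⟩
          have h13 : v x ^ 2 + v y ^ 2 ≤ e + 1 := by
            rw [← h5, ← Finset.add_sum_erase _ _ hx]
            have := Finset.single_le_sum (f := fun y => v y ^ 2) (fun y _ => sq_nonneg (v y))
              (Finset.mem_erase.2 ⟨hy, hym⟩)
            linarith
          have h14 : 0 < v y ^ 2 := by positivity
          have h15 : ((e : ℤ)) ≤ 3 := by exact_mod_cast he3
          omega
        have h16 := hd v (Finset.mem_singleton_self v)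
        rw [Finset.sum_eq_single x (fun y _ hy => by rw [h12 y hy, mul_zero]) (fun h' => absurd (Finset.mem_univ _) h')] at h16
        rcases mul_eq_zero.1 h16 with h | h
        · exact (hdeg x).ne' h
        · exact h0 h
      · have : v x = 1 ∨ v x = -1 := by omega
        rcases this with h | h <;> rw [h] <;> norm_num
    rw [Finset.sum_congr rfl hunit, Finset.sum_const, nsmul_eq_mul, mul_one] at h5
    exact_mod_cast h5
  · obtain ⟨s, d, c, O, hs, hc, hd1, hd2, hd3, hO, hq, hO2, hcard⟩ := shape F e he hF2 h1 h2 deg hdeg hd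
    rw [hcard]
    obtain ⟨v, hv⟩ := Finset.card_pos.1 (show 0 < F.card by omega)
    have hm : (2 : ℤ) ≤ F.card := by exact_mod_cast hF2
    have he3' : (e : ℤ) ≤ 3 := by exact_mod_cast he3
    have hqv := hq v hv
    have h4 := arith1 hs hm hqv
    have h5 := card_eq_sum_sq O v (hO2 v hv) (h4.1.trans he3')
    have hq0 : 0 ≤ ∑ x ∈ O, v x ^ 2 := Finset.sum_nonneg fun x _ => sq_nonneg _
    by_cases hd0 : d = 0
    · rw [hd0] at hqv
      have : (O.card : ℤ) = e := by rw [h5, hqv]; ring
      have : O.card = e := by exact_mod_cast this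
      omega
    · -- `d ≠ 0`
      have hds : d = -s := by
        have hs2 : s ^ 2 = 1 := by rcases hs with rfl | rfl <;> norm_num
        have h6 : 0 ≤ (e : ℤ) - 2 * s * d - F.card * d ^ 2 := by rw [← hqv]; exact hq0
        have h7 : (2 : ℤ) * d ^ 2 ≤ F.card * d ^ 2 := mul_le_mul_of_nonneg_right hm (sq_nonneg d)
        have h8 : 2 * (d * (d + s)) ≤ 3 := by nlinarith
        rcases hs with rfl | rfl
        · have h9 : -2 < d := by nlinarith
          have h10 : d < 1 := by nlinarith
          omega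
        · have h9 : d < 2 := by nlinarith
          have h10 : -1 < d := by nlinarith
          omega
      have hd2' : d ^ 2 = 1 := by
        rw [hds]
        rcases hs with rfl | rfl <;> norm_num
      have hsd : s * d = -1 := by
        rw [hds]
        rcases hs with rfl | rfl <;> norm_num
      have hq1 : (O.card : ℤ) = e + 2 - F.card := by
        rw [h5, hqv, hd2']
        linear_combination (-2) * hsd
      by_cases hm2 : F.card = 2
      · rw [hm2] at hq1 ⊢
        push_cast at hq1
        have : (O.card : ℤ) = e := by linear_combination hq1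
        have : O.card = e := by exact_mod_cast this
        omega
      · have h11 : e + 2 ≤ F.card := by
          by_contra hcon
          exact hex ⟨by omega, by omega⟩
        have h12 : F.card ≤ e + 2 := by
          have : (0 : ℤ) ≤ e + 2 - F.card := by rw [← hq1]; exact Int.natCast_nonneg _
          have : (F.card : ℤ) ≤ e + 2 := by linarith
          exact_mod_cast this
        have h13 : O.card = 0 := by
          have : (O.card : ℤ) = 0 := by
            rw [hq1]
            have : (F.card : ℤ) = e + 2 := by exact_mod_cast le_antisymm h12 h11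
            rw [this]; ring
          exact_mod_cast this
        -- all values of `v` are `d` or `0`
        exfalso
        have hO0 : O = ∅ := Finset.card_eq_zero.1 h13
        have hval : ∀ x, v x * d = 0 ∨ v x * d = 1 := by
          intro x
          by_cases hx : x ∈ F.image c
          · obtain ⟨w, hw, rfl⟩ := Finset.mem_image.1 hx
            by_cases hvw : v = w
            · left
              rw [← hvw, hd2 v hv, hds]
              ring
            · right
              rw [hd1 v hv w hw hvw, ← hd2']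
              ring
          · left
            have : v x = 0 := by
              by_contra hne
              have : x ∈ O := (hO x).2 ⟨hx, v, hv, hne⟩
              rw [hO0] at this
              exact absurd this (Finset.notMem_empty x)
            rw [this, zero_mul]
        obtain ⟨w, hw, hwv⟩ := Finset.exists_mem_ne (show 1 < F.card by omega) v
        have h14 : ∑ x, deg x * (v x * d) = 0 := by
          rw [Finset.sum_congr rfl fun x _ => (mul_assoc (deg x) (v x) d).symm, ← Finset.sum_mul, hd v hv, zero_mul]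
        have h15 : 0 < ∑ x, deg x * (v x * d) := by
          apply Finset.sum_pos'
          · intro x _
            rcases hval x with h | h <;> rw [h]
            · rw [mul_zero]
            · rw [mul_one]; exact (hdeg x).le
          · refine ⟨c w, Finset.mem_univ _, ?_⟩
            rw [hd1 v hv w hw (Ne.symm hwv)]
            have : d * d = 1 := by rw [← hd2']; ring
            rw [this, mul_one]
            exact hdeg _
        exact h15.ne' h14

end Cfsg.Agent.Lib.AbComb
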