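import Cfsg.Agent.Lib.Subsec4

/-!
# The lattice spanned by the `p`-regular parts of the characters of a block
-/

set_option autoImplicit false
set_option linter.all false

namespace Cfsg.Agent.Lib.BlockLattice

open Cfsg Cfsg.Agent.Lib.BlockRing Cfsg.Agent.Lib.BlockGA Cfsg.Agent.Lib.BlockIdem
open Cfsg.Agent.Lib.BlockOsima Cfsg.Agent.Lib.BlockPair Cfsg.Agent.Lib.Contrib
open Cfsg.Agent.Lib.CharBasic Cfsg.Agent.Lib.BlockSecond Cfsg.Agent.Lib.BlockCount
open Cfsg.Agent.Lib.BlockDeg Cfsg.Agent.Lib.Contrib2 Cfsg.Agent.Lib.Subsec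
open scoped ComplexConjugate Classical

universe u

variable {G : Type u} [Group G] [Finite G] {p : ℕ} {M : Ideal AlgInt}

/-- The `ℤ`-span of the `p`-regular parts. -/
noncomputable def Lat (p : ℕ) (B : Set (IrrCharacter G)) : Submodule ℤ (G → ℂ) :=
  Submodule.span ℤ ((fun χ : IrrCharacter G => preg p (χ : G → ℂ)) '' B)

variable {B : Set (IrrCharacter G)}

omit [Finite G] in
theorem preg_mem {χ : IrrCharacter G} (hχ : χ ∈ B) : preg p (χ : G → ℂ) ∈ Lat p B :=
  Submodule.subset_span ⟨χ, hχ, rfl⟩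

omit [Finite G] in
theorem lat_rsp {f : G → ℂ} (hf : f ∈ Lat p B) : f ∈ rsp p B := by
  induction hf using Submodule.span_induction with
  | mem x hx => exact Submodule.subset_span hx
  | zero => exact Submodule.zero_mem _
  | add x y _ _ hx hy => exact Submodule.add_mem _ hx hy
  | smul a x _ hx =>
    have : a • x = (a : ℂ) • x := by
      ext g; simp
    rw [this]
    exact Submodule.smul_mem _ _ hx

theorem lat_induction {P : (G → ℂ) → Prop} (h1 : ∀ χ ∈ B, P (preg p (χ : G → ℂ))) (h0 : P 0)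
    (ha : ∀ f g, f ∈ Lat p B → g ∈ Lat p B → P f → P g → P (f + g))
    (hs : ∀ (a : ℤ) f, f ∈ Lat p B → P f → P ((a : ℂ) • f)) {f : G → ℂ} (hf : f ∈ Lat p B) : P f := by
  induction hf using Submodule.span_induction with
  | mem x hx => obtain ⟨χ, hχ, rfl⟩ := hx; exact h1 χ hχ
  | zero => exact h0
  | add x y hx' hy' hx hy => exact ha x y hx' hy' hx hy
  | smul a x hx' hx =>
    have : a • x = (a : ℂ) • x := by
      ext g; simp
    rw [this]
    exact hs a x hx' hx

/-- inner products are integers divided by `p ^ d` -/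
theorem lat_int [Fintype G] (hM : IsPModular p M) (hB : IsPBlock M B) {f g : G → ℂ} (hf : f ∈ Lat p B)
    (hg : g ∈ Lat p B) : ∃ m : ℤ, (m : ℂ) = (p : ℂ) ^ blockDefect p B * classInner f g := by
  refine lat_induction (P := fun f => ∃ m : ℤ, (m : ℂ) = (p : ℂ) ^ blockDefect p B * classInner f g) ?_ ?_ ?_ ?_ hf
  · intro χ hχ
    refine lat_induction (P := fun g => ∃ m : ℤ, (m : ℂ) = (p : ℂ) ^ blockDefect p B * classInner (preg p (χ : G → ℂ)) g)
      ?_ ?_ ?_ ?_ hg
    · intro ψ hψ
      obtain ⟨m, hm, -⟩ := exists_int hM hB hχ hψ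
      exact ⟨m, by rw [hm, inner_preg_preg]⟩
    · exact ⟨0, by rw [classInner_zero_right]; simp⟩
    · rintro f g - - ⟨m, hm⟩ ⟨n, hn⟩
      exact ⟨m + n, by rw [classInner_add_right, mul_add, ← hm, ← hn]; push_cast; rfl⟩
    · rintro a f - ⟨m, hm⟩
      refine ⟨a * m, ?_⟩
      rw [classInner_smul_right, Int.cast_mul, hm, map_intCast]
      ring
  · exact ⟨0, by rw [classInner_zero_left]; simp⟩
  · rintro f g - - ⟨m, hm⟩ ⟨n, hn⟩
    exact ⟨m + n, by rw [classInner_add_left, mul_add, ← hm, ← hn]; push_cast; rfl⟩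
  · rintro a f - ⟨m, hm⟩
    refine ⟨a * m, ?_⟩
    rw [classInner_smul_left, Int.cast_mul, hm]
    ring

/-- values at one -/
theorem lat_one (hp : p.Prime) {f : G → ℂ} (hf : f ∈ Lat p B) :
    ∃ m : ℤ, f 1 = (p : ℂ) ^ ((Nat.card G).factorization p - blockDefect p B) * m := by
  refine lat_induction (P := fun f => ∃ m : ℤ, f 1 =
    (p : ℂ) ^ ((Nat.card G).factorization p - blockDefect p B) * m) ?_ ?_ ?_ ?_ hf
  · intro χ hχ
    have h1 := card_le_blockDefect_add (p := p) hχ
    have h2 : p ^ ((Nat.card G).factorization p - blockDefect p B) ∣ charDegree (χ : G → ℂ) := by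
      rw [hp.pow_dvd_iff_le_factorization (charDegree_pos χ.2).ne']
      unfold nuDeg at h1
      omega
    obtain ⟨m, hm⟩ := h2
    refine ⟨m, ?_⟩
    unfold preg
    rw [if_neg, ← charDegree_cast_irr, hm]
    · push_cast; rfl
    · rw [orderOf_one]
      exact fun h => hp.one_lt.not_ge (Nat.le_of_dvd one_pos h)
  · exact ⟨0, by simp⟩
  · rintro f g - - ⟨m, hm⟩ ⟨n, hn⟩
    exact ⟨m + n, by rw [Pi.add_apply, hm, hn]; push_cast; ring⟩
  · rintro a f - ⟨m, hm⟩
    exact ⟨a * m, by rw [Pi.smul_apply, smul_eq_mul, hm]; push_cast; ring⟩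

theorem lat_integral {f : G → ℂ} (hf : f ∈ Lat p B) (y : G) : IsIntegral ℤ (f y) := by
  refine lat_induction (P := fun f => IsIntegral ℤ (f y)) ?_ isIntegral_zero ?_ ?_ hf
  · intro χ hχ
    unfold preg
    split_ifs
    · exact isIntegral_zero
    · obtain ⟨n, ρ, hρ⟩ := χ.2.isCharacter
      rw [← hρ]
      exact CharValues.isIntegral_character ρ y
  · intro f g _ _ hf hg
    exact hf.add hg
  · intro a f _ hf
    exact (isIntegral_algebraMap (R := ℤ) (x := a)).mul hf

theorem lat_preg {f : G → ℂ} (hf : f ∈ rsp p B) : preg p f = f := by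
  funext y
  unfold preg
  split_ifs with h
  · exact (rsp_reg hf h).symm
  · rfl

/-- A lattice vector of degree zero is orthogonal to the lattice modulo `p`. -/
theorem lat_idl [Fintype G] (hM : IsPModular p M) (hB : IsPBlock M B) {f g : G → ℂ} (hf : f ∈ Lat p B)
    (h1 : MemLocalIdeal M ((p : ℂ) ^ blockDefect p B * f 1 / (Nat.card G : ℂ))) (hg : g ∈ Lat p B) :
    MemLocalIdeal M ((p : ℂ) ^ blockDefect p B * classInner f g) := by
  haveI := isPrime hM
  have hfr := lat_rsp hf
  refine lat_induction (P := fun g => MemLocalIdeal M ((p : ℂ) ^ blockDefect p B * classInner f g)) ?_ ?_ ?_ ?_ hg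
  · intro χ hχ
    have h := key_congr hM hB hχ (rsp_classFunction hfr) (fun g _ => loc_of_isIntegral (lat_integral hf g))
      (fun θ hθ => by rw [lat_preg hfr]; exact inner_not_mem hM hB hfr hθ)
    rw [lat_preg hfr] at h
    rw [inner_preg_right hfr]
    refine (idl_congr h).2 (idl_mul_left (loc_omega χ.2 (pel_mem_center χ.2.isClassFunction) (locA_pel χ.2.isCharacter)) h1)
  · rw [classInner_zero_right, mul_zero]; exact idl_zero
  · intro f g _ _ hf hg
    rw [classInner_add_right, mul_add]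
    exact idl_add hf hg
  · intro a f _ hf
    rw [classInner_smul_right, map_intCast, mul_left_comm]
    exact idl_mul_left (loc_intCast a) hf

instance lat_finite : Module.Finite ℤ (Lat p B) :=
  Module.Finite.span_of_finite ℤ (Set.Finite.image _ (Set.toFinite B))

/-- A `ℤ`-basis of the lattice is a `ℂ`-basis of its complex span. -/
theorem exists_basis (hM : IsPModular p M) (hB : IsPBlock M B) :
    ∃ φ : Fin (blockRank p B) → (G → ℂ), (∀ i, φ i ∈ Lat p B) ∧
      (∀ f ∈ Lat p B, ∃ c : Fin (blockRank p B) → ℤ, f = ∑ i, (c i : ℂ) • φ i) ∧ LinearIndependent ℂ φ := by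
  letI := Fintype.ofFinite G
  have hp0 : (p : ℂ) ≠ 0 := by exact_mod_cast hM.1.ne_zero
  set n := Module.finrank ℤ (Lat p B) with hn
  let e : Module.Basis (Fin n) ℤ (Lat p B) := Module.finBasis ℤ (Lat p B)
  set φ : Fin n → (G → ℂ) := fun i => (e i : G → ℂ) with hφ
  have hφL : ∀ i, φ i ∈ Lat p B := fun i => (e i).2
  have hspan : ∀ f ∈ Lat p B, ∃ c : Fin n → ℤ, f = ∑ i, (c i : ℂ) • φ i := by
    intro f hf
    refine ⟨fun i => e.repr ⟨f, hf⟩ i, ?_⟩
    have h1 := congrArg Subtype.val (e.sum_repr ⟨f, hf⟩)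
    rw [AddSubmonoidClass.coe_finset_sum] at h1
    refine h1.symm.trans ?_
    refine Finset.sum_congr rfl fun i _ => ?_
    ext g
    simp [hφ]
  choose A hA using fun i j => lat_int hM hB (hφL i) (hφL j)
  set A' : Matrix (Fin n) (Fin n) ℤ := Matrix.of A with hA'
  have hdet : A'.det ≠ 0 := by
    intro hd
    obtain ⟨v, hv0, hv⟩ := Matrix.exists_mulVec_eq_zero_iff.2 hd
    apply hv0
    set w : G → ℂ := ∑ i, (v i : ℂ) • φ i with hw
    have h1 : ∀ i, classInner (φ i) w = 0 := by
      intro i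
      have h2 := congrFun hv i
      rw [Matrix.mulVec, dotProduct] at h2
      have h3 : (p : ℂ) ^ blockDefect p B * classInner (φ i) w = 0 := by
        rw [hw, classInner_sum_right, Finset.mul_sum]
        have h4 : ((∑ j, A' i j * v j : ℤ) : ℂ) = 0 := by rw [h2]; simp
        push_cast at h4
        rw [← h4]
        refine Finset.sum_congr rfl fun j _ => ?_
        rw [classInner_smul_right, map_intCast]
        show _ = (A i j : ℂ) * v j
        rw [hA]
        ring
      exact (mul_eq_zero.1 h3).resolve_left (pow_ne_zero _ hp0)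
    have h2 : classInner w w = 0 := by
      nth_rewrite 1 [hw]
      rw [classInner_sum_left]
      exact Finset.sum_eq_zero fun i _ => by rw [classInner_smul_left, h1, mul_zero]
    have h3 : w = 0 := classInner_self_eq_zero.1 h2
    have h4 : ∑ i, v i • e i = 0 := by
      apply Subtype.ext
      rw [AddSubmonoidClass.coe_finset_sum]
      show _ = (0 : G → ℂ)
      rw [← h3, hw]
      refine Finset.sum_congr rfl fun i _ => ?_
      ext g
      simp [hφ]
    funext i
    exact (Fintype.linearIndependent_iff.1 e.linearIndependent v h4) i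
  have hli : LinearIndependent ℂ φ := by
    rw [Fintype.linearIndependent_iff]
    intro c hc
    have h1 : ∀ i, ∑ j, (A' i j : ℂ) * conj (c j) = 0 := by
      intro i
      have h2 : (p : ℂ) ^ blockDefect p B * classInner (φ i) (∑ j, c j • φ j) = 0 := by
        rw [hc, classInner_zero_right, mul_zero]
      rw [classInner_sum_right, Finset.mul_sum] at h2
      rw [← h2]
      refine Finset.sum_congr rfl fun j _ => ?_
      rw [classInner_smul_right]
      show (A i j : ℂ) * conj (c j) = _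
      rw [hA]
      ring
    by_contra hne
    push Not at hne
    obtain ⟨i, hi⟩ := hne
    have h3 : (A'.map (Int.castRingHom ℂ)).det = 0 := by
      rw [← Matrix.exists_mulVec_eq_zero_iff]
      refine ⟨fun j => conj (c j), ?_, ?_⟩
      · intro h
        apply hi
        have := congrFun h i
        simpa using this
      · funext i
        exact h1 i
    rw [← RingHom.mapMatrix_apply, ← RingHom.map_det] at h3
    apply hdet
    have : ((A'.det : ℤ) : ℂ) = 0 := h3
    exact_mod_cast this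
  have hnr : n = blockRank p B := by
    have h1 : Submodule.span ℂ (Set.range φ) = rsp p B := by
      apply le_antisymm
      · rw [Submodule.span_le]
        rintro _ ⟨i, rfl⟩
        exact lat_rsp (hφL i)
      · unfold rsp
        rw [Submodule.span_le]
        rintro _ ⟨χ, hχ, rfl⟩
        obtain ⟨c, hc⟩ := hspan _ (preg_mem hχ)
        show preg p (χ : G → ℂ) ∈ _
        rw [hc]
        exact Submodule.sum_mem _ fun i _ => Submodule.smul_mem _ _ (Submodule.subset_span ⟨i, rfl⟩)
    have h2 := finrank_span_eq_card hli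
    rw [h1, Fintype.card_fin] at h2
    rw [blockRank_eq, h2]
  rw [← hnr]
  exact ⟨φ, hφL, hspan, hli⟩

/-! ### the integral form -/

/-- The integer `p ^ d [f, g]`. -/
noncomputable def ei (p : ℕ) (B : Set (IrrCharacter G)) (f g : G → ℂ) : ℤ :=
  if h : ∃ m : ℤ, (m : ℂ) = (p : ℂ) ^ blockDefect p B * @classInner _ _ (Fintype.ofFinite G) f g then h.choose else 0

theorem ei_spec [Fintype G] (hM : IsPModular p M) (hB : IsPBlock M B) {f g : G → ℂ} (hf : f ∈ Lat p B)
    (hg : g ∈ Lat p B) : (ei p B f g : ℂ) = (p : ℂ) ^ blockDefect p B * classInner f g := by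
  have h : ∃ m : ℤ, (m : ℂ) = (p : ℂ) ^ blockDefect p B * @classInner _ _ (Fintype.ofFinite G) f g :=
    @lat_int _ _ _ _ _ _ (Fintype.ofFinite G) hM hB f g hf hg
  have h2 := h.choose_spec
  unfold ei
  rw [dif_pos h, h2]
  congr!

theorem ei_comm (hM : IsPModular p M) (hB : IsPBlock M B) {f g : G → ℂ} (hf : f ∈ Lat p B)
    (hg : g ∈ Lat p B) : ei p B f g = ei p B g f := by
  letI := Fintype.ofFinite G
  have h1 : ((ei p B f g : ℤ) : ℂ) = (ei p B g f : ℤ) := by
    rw [ei_spec hM hB hg hf, ← IndFun.classInner_conj_symm f g]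
    have h2 := congrArg (starRingEnd ℂ) (ei_spec hM hB hf hg)
    rw [map_intCast, map_mul, map_pow, Complex.conj_natCast] at h2
    exact h2
  exact_mod_cast h1

theorem ei_add_left (hM : IsPModular p M) (hB : IsPBlock M B) {f f' g : G → ℂ} (hf : f ∈ Lat p B)
    (hf' : f' ∈ Lat p B) (hg : g ∈ Lat p B) : ei p B (f + f') g = ei p B f g + ei p B f' g := by
  letI := Fintype.ofFinite G
  have h1 : ((ei p B (f + f') g : ℤ) : ℂ) = ((ei p B f g + ei p B f' g : ℤ) : ℂ) := by
    push_cast
    rw [ei_spec hM hB (Submodule.add_mem _ hf hf') hg, ei_spec hM hB hf hg, ei_spec hM hB hf' hg,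
      classInner_add_left, mul_add]
  exact_mod_cast h1

theorem ei_neg_left (hM : IsPModular p M) (hB : IsPBlock M B) {f g : G → ℂ} (hf : f ∈ Lat p B)
    (hg : g ∈ Lat p B) : ei p B (-f) g = - ei p B f g := by
  letI := Fintype.ofFinite G
  have h1 : ((ei p B (-f) g : ℤ) : ℂ) = ((- ei p B f g : ℤ) : ℂ) := by
    push_cast
    rw [ei_spec hM hB (Submodule.neg_mem _ hf) hg, ei_spec hM hB hf hg, IndFun.classInner_neg_left, mul_neg]
  exact_mod_cast h1

theorem ei_add_right (hM : IsPModular p M) (hB : IsPBlock M B) {f g g' : G → ℂ} (hf : f ∈ Lat p B)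
    (hg : g ∈ Lat p B) (hg' : g' ∈ Lat p B) : ei p B f (g + g') = ei p B f g + ei p B f g' := by
  rw [ei_comm hM hB hf (Submodule.add_mem _ hg hg'), ei_add_left hM hB hg hg' hf, ei_comm hM hB hf hg,
    ei_comm hM hB hf hg']

theorem ei_neg_right (hM : IsPModular p M) (hB : IsPBlock M B) {f g : G → ℂ} (hf : f ∈ Lat p B)
    (hg : g ∈ Lat p B) : ei p B f (-g) = - ei p B f g := by
  rw [ei_comm hM hB hf (Submodule.neg_mem _ hg), ei_neg_left hM hB hg hf, ei_comm hM hB hf hg]

theorem ei_pos (hM : IsPModular p M) (hB : IsPBlock M B) {f : G → ℂ} (hf : f ∈ Lat p B) (h0 : f ≠ 0) :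
    0 < ei p B f f := by
  letI := Fintype.ofFinite G
  have h1 := ei_spec hM hB hf hf
  have h2 : classInner f f = (((Nat.card G : ℝ)⁻¹ * ∑ g : G, Complex.normSq (f g) : ℝ) : ℂ) := by
    rw [classInner]
    push_cast
    congr 1
    exact Finset.sum_congr rfl fun g _ => by rw [Complex.mul_conj]
  have h3 : (ei p B f f : ℝ) = (p : ℝ) ^ blockDefect p B * ((Nat.card G : ℝ)⁻¹ * ∑ g : G, Complex.normSq (f g)) := by
    rw [h2] at h1
    have : ((ei p B f f : ℝ) : ℂ) =
        (((p : ℝ) ^ blockDefect p B * ((Nat.card G : ℝ)⁻¹ * ∑ g : G, Complex.normSq (f g)) : ℝ) : ℂ) := by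
      push_cast at h1 ⊢
      exact h1
    exact Complex.ofReal_injective this
  obtain ⟨g, hg⟩ : ∃ g, f g ≠ 0 := by
    by_contra hcon
    push Not at hcon
    exact h0 (funext hcon)
  have h4 : 0 < ∑ g : G, Complex.normSq (f g) :=
    lt_of_lt_of_le (Complex.normSq_pos.2 hg)
      (Finset.single_le_sum (f := fun g => Complex.normSq (f g)) (fun _ _ => Complex.normSq_nonneg _) (Finset.mem_univ g))
  have h5 : (0 : ℝ) < ei p B f f := by
    rw [h3]
    have : (0 : ℝ) < Nat.card G := by exact_mod_cast Nat.card_pos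
    have : (0 : ℝ) < p := by exact_mod_cast hM.1.pos
    positivity
  exact_mod_cast h5

/-- `(f, g)` is a basis of the lattice. -/
def IsPair (p : ℕ) (B : Set (IrrCharacter G)) (f g : G → ℂ) : Prop :=
  f ∈ Lat p B ∧ g ∈ Lat p B ∧ (∀ x ∈ Lat p B, ∃ a c : ℤ, x = (a : ℂ) • f + (c : ℂ) • g) ∧
    (∀ a c : ℂ, a • f + c • g = 0 → a = 0 ∧ c = 0)

omit [Finite G] in
theorem IsPair.swap {f g : G → ℂ} (h : IsPair p B f g) : IsPair p B g f := by
  obtain ⟨h1, h2, h3, h4⟩ := h
  refine ⟨h2, h1, fun x hx => ?_, fun a c hac => ?_⟩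
  · obtain ⟨a, c, hac⟩ := h3 x hx
    exact ⟨c, a, by rw [hac, add_comm]⟩
  · have := h4 c a (by rw [add_comm]; exact hac)
    exact ⟨this.2, this.1⟩

omit [Finite G] in
theorem IsPair.neg_left {f g : G → ℂ} (h : IsPair p B f g) : IsPair p B (-f) g := by
  obtain ⟨h1, h2, h3, h4⟩ := h
  refine ⟨Submodule.neg_mem _ h1, h2, fun x hx => ?_, fun a c hac => ?_⟩
  · obtain ⟨a, c, hac⟩ := h3 x hx
    exact ⟨-a, c, by rw [hac]; push_cast; rw [neg_smul_neg]⟩
  · have := h4 (-a) c (by rw [neg_smul, ← smul_neg]; exact hac)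
    exact ⟨neg_eq_zero.1 this.1, this.2⟩

omit [Finite G] in
theorem IsPair.add_left {f g : G → ℂ} (h : IsPair p B f g) : IsPair p B (f + g) g := by
  obtain ⟨h1, h2, h3, h4⟩ := h
  refine ⟨Submodule.add_mem _ h1 h2, h2, fun x hx => ?_, fun a c hac => ?_⟩
  · obtain ⟨a, c, hac⟩ := h3 x hx
    refine ⟨a, c - a, ?_⟩
    rw [hac]
    push_cast
    module
  · have := h4 a (a + c) (by rw [← hac]; module)
    refine ⟨this.1, ?_⟩
    have h5 := this.2
    rw [this.1, zero_add] at h5
    exact h5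

omit [Finite G] in
theorem IsPair.ne_zero {f g : G → ℂ} (h : IsPair p B f g) : f ≠ 0 := by
  rintro rfl
  have := h.2.2.2 1 0 (by simp)
  exact one_ne_zero this.1

theorem exists_pair (hM : IsPModular p M) (hB : IsPBlock M B) (hl : blockRank p B = 2) :
    ∃ f g, IsPair p B f g := by
  have h := exists_basis hM hB
  rw [hl] at h
  obtain ⟨φ, h1, h2, h3⟩ := h
  refine ⟨φ 0, φ 1, h1 0, h1 1, fun x hx => ?_, fun a c hac => ?_⟩
  · obtain ⟨c, hc⟩ := h2 x hx
    exact ⟨c 0, c 1, by rw [hc, Fin.sum_univ_two]⟩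
  · have h4 := Fintype.linearIndependent_iff.1 h3 ![a, c] (by simpa [Fin.sum_univ_two] using hac)
    exact ⟨by simpa using h4 0, by simpa using h4 1⟩

/-- Gauss reduction of the integral form. -/
theorem gauss (hM : IsPModular p M) (hB : IsPBlock M B) (hl : blockRank p B = 2) :
    ∃ f g, IsPair p B f g ∧ ei p B f g ≤ 0 ∧ -(2 * ei p B f g) ≤ ei p B g g ∧ ei p B g g ≤ ei p B f f := by
  have hex : ∃ f g, IsPair p B f g ∧ ∀ f' g', IsPair p B f' g' →
      ei p B f f + ei p B g g ≤ ei p B f' f' + ei p B g' g' := by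
    obtain ⟨f₀, g₀, h₀⟩ := exists_pair hM hB hl
    have hpos : ∀ f g, IsPair p B f g → 0 ≤ ei p B f f + ei p B g g := by
      intro f g h
      have h1 := ei_pos hM hB h.1 h.ne_zero
      have h2 := ei_pos hM hB h.2.1 h.swap.ne_zero
      omega
    let S : Set ℕ := {n | ∃ f g, IsPair p B f g ∧ (n : ℤ) = ei p B f f + ei p B g g}
    have hS : S.Nonempty := ⟨(ei p B f₀ f₀ + ei p B g₀ g₀).toNat, f₀, g₀, h₀, Int.toNat_of_nonneg (hpos _ _ h₀)⟩
    obtain ⟨f, g, h, hn⟩ := Nat.sInf_mem hS
    refine ⟨f, g, h, fun f' g' h' => ?_⟩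
    rw [← hn, ← Int.toNat_of_nonneg (hpos _ _ h')]
    have := Nat.sInf_le (s := S) (m := (ei p B f' f' + ei p B g' g').toNat)
      ⟨f', g', h', Int.toNat_of_nonneg (hpos _ _ h')⟩
    exact_mod_cast this
  obtain ⟨f, g, h, hmin⟩ := hex
  -- the basic inequality
  have key : ∀ f g, IsPair p B f g → (∀ f' g', IsPair p B f' g' →
      ei p B f f + ei p B g g ≤ ei p B f' f' + ei p B g' g') → -(2 * ei p B f g) ≤ ei p B g g := by
    intro f g h hmin
    have h1 := hmin _ _ h.add_left
    have hfg := Submodule.add_mem _ h.1 h.2.1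
    rw [ei_add_left hM hB h.1 h.2.1 hfg, ei_add_right hM hB h.1 h.1 h.2.1, ei_add_right hM hB h.2.1 h.1 h.2.1,
      ei_comm hM hB h.2.1 h.1] at h1
    omega
  have hneg : ∀ f g, IsPair p B f g → (∀ f' g', IsPair p B f' g' →
      ei p B f f + ei p B g g ≤ ei p B f' f' + ei p B g' g') → (∀ f' g', IsPair p B f' g' →
      ei p B (-f) (-f) + ei p B g g ≤ ei p B f' f' + ei p B g' g') := by
    intro f g h hmin f' g' h'
    rw [ei_neg_left hM hB h.1 (Submodule.neg_mem _ h.1), ei_neg_right hM hB h.1 h.1, neg_neg]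
    exact hmin f' g' h'
  have hswap : ∀ f g, (∀ f' g', IsPair p B f' g' →
      ei p B f f + ei p B g g ≤ ei p B f' f' + ei p B g' g') → (∀ f' g', IsPair p B f' g' →
      ei p B g g + ei p B f f ≤ ei p B f' f' + ei p B g' g') := by
    intro f g hmin f' g' h'
    have := hmin f' g' h'
    omega
  -- sign
  have hsign : ∀ f g, IsPair p B f g → (∀ f' g', IsPair p B f' g' →
      ei p B f f + ei p B g g ≤ ei p B f' f' + ei p B g' g') → ei p B g g ≤ ei p B f f →
      ∃ f g, IsPair p B f g ∧ ei p B f g ≤ 0 ∧ -(2 * ei p B f g) ≤ ei p B g g ∧ ei p B g g ≤ ei p B f f := by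
    intro f g h hmin hle
    rcases le_or_gt (ei p B f g) 0 with h1 | h1
    · exact ⟨f, g, h, h1, key f g h hmin, hle⟩
    · refine ⟨-f, g, h.neg_left, ?_, key _ _ h.neg_left (hneg f g h hmin), ?_⟩
      · rw [ei_neg_left hM hB h.1 h.2.1]; omega
      · rw [ei_neg_left hM hB h.1 (Submodule.neg_mem _ h.1), ei_neg_right hM hB h.1 h.1, neg_neg]
        exact hle
  rcases le_total (ei p B g g) (ei p B f f) with hle | hle
  · exact hsign f g h hmin hle
  · exact hsign g f h.swap (hswap f g hmin) hle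

/-- if the form represents one on a reduced basis, the other entry is divisible by `p` -/
theorem dvd_of_eq_one (hM : IsPModular p M) (hB : IsPBlock M B) {f g : G → ℂ} (h : IsPair p B f g)
    (h0 : ei p B f g = 0) (h1 : ei p B g g = 1) : (p : ℤ) ∣ ei p B f f := by
  letI := Fintype.ofFinite G
  haveI := isPrime hM
  have hp := hM.1
  have hp0 : (p : ℂ) ≠ 0 := by exact_mod_cast hp.ne_zero
  have hpZ : Prime (p : ℤ) := Nat.prime_iff_prime_int.1 hp
  obtain ⟨f', hf'⟩ := lat_one hp h.1
  obtain ⟨g', hg'⟩ := lat_one hp h.2.1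
  set t : ℂ := (p : ℂ) ^ ((Nat.card G).factorization p - blockDefect p B) with ht
  set F : G → ℂ := (g' : ℂ) • f + (-f' : ℂ) • g with hF
  have hsm : ∀ (a : ℤ) (x : G → ℂ), x ∈ Lat p B → (a : ℂ) • x ∈ Lat p B := by
    intro a x hx
    have e : (a : ℂ) • x = a • x := by ext y; simp
    rw [e]
    exact Submodule.smul_mem _ _ hx
  have hFm : F ∈ Lat p B := by
    have h2 := hsm (-f') g h.2.1
    push_cast at h2
    exact Submodule.add_mem _ (hsm g' f h.1) h2
  have hF1 : F 1 = 0 := by
    rw [hF, Pi.add_apply, Pi.smul_apply, Pi.smul_apply, smul_eq_mul, smul_eq_mul, hf', hg']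
    ring
  have hF2 : MemLocalIdeal M ((p : ℂ) ^ blockDefect p B * F 1 / (Nat.card G : ℂ)) := by
    rw [hF1, mul_zero, zero_div]; exact idl_zero
  have ef := ei_spec hM hB h.1 h.1
  have eg := ei_spec hM hB h.2.1 h.2.1
  have efg := ei_spec hM hB h.1 h.2.1
  have egf := ei_spec hM hB h.2.1 h.1
  rw [ei_comm hM hB h.2.1 h.1, h0] at egf
  rw [h0] at efg
  rw [h1] at eg
  -- orthogonality to g: p | f'
  have k1 := lat_idl hM hB hFm hF2 h.2.1
  have k2 := lat_idl hM hB hFm hF2 h.1
  have e1 : (p : ℂ) ^ blockDefect p B * classInner F g = ((-f' : ℤ) : ℂ) := by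
    rw [hF, classInner_add_left, classInner_smul_left, classInner_smul_left, mul_add, mul_left_comm, ← efg,
      mul_left_comm, ← eg]
    push_cast
    ring
  have e2 : (p : ℂ) ^ blockDefect p B * classInner F f = ((g' * ei p B f f : ℤ) : ℂ) := by
    rw [hF, classInner_add_left, classInner_smul_left, classInner_smul_left, mul_add, mul_left_comm, ← ef,
      mul_left_comm, ← egf]
    push_cast
    ring
  rw [e1, idl_intCast_iff hM, dvd_neg] at k1
  rw [e2, idl_intCast_iff hM] at k2
  rcases hpZ.dvd_mul.1 k2 with hg'd | hd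
  · exfalso
    -- all degrees divisible by too much
    obtain ⟨χ, hχ, hh⟩ := BlockDeg.exists_height_zero (p := p) (isPBlock_nonempty hB)
    obtain ⟨a, c, hac⟩ := h.2.2.1 _ (preg_mem hχ)
    have h2 := congrFun hac 1
    have h3 : preg p (χ : G → ℂ) 1 = (χ : G → ℂ) 1 := by
      unfold preg
      rw [if_neg]
      rw [orderOf_one]
      exact fun h => hp.one_lt.not_ge (Nat.le_of_dvd one_pos h)
    rw [h3, Pi.add_apply, Pi.smul_apply, Pi.smul_apply, smul_eq_mul, smul_eq_mul, hf', hg'] at h2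
    have hu := un_loc hM hχ
    have hda : (Nat.card G).factorization p = blockDefect p B + ((Nat.card G).factorization p - blockDefect p B) := by
      have h4 := height_add (p := p) hp hχ
      have h5 := card_le_blockDefect_add (p := p) hχ
      rw [hh] at h4
      omega
    obtain ⟨m, hm, hHm⟩ : ∃ m, ¬ p ∣ m ∧ Nat.card G = p ^ (Nat.card G).factorization p * m :=
      ⟨_, Nat.not_dvd_ordCompl hp Nat.card_pos.ne', (Nat.ordProj_mul_ordCompl_eq_self _ _).symm⟩
    have hm0 : (m : ℂ) ≠ 0 := by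
      intro h
      apply hm
      have : m = 0 := by exact_mod_cast h
      rw [this]; exact dvd_zero p
    have ht0 : t ≠ 0 := pow_ne_zero _ hp0
    have hcard : (Nat.card G : ℂ) = (p : ℂ) ^ blockDefect p B * t * m := by
      conv_lhs => rw [hHm, hda]
      push_cast
      rw [pow_add]
    have e3 : (m : ℂ) * un p B (χ : G → ℂ) = ((a * f' + c * g' : ℤ) : ℂ) := by
      unfold un
      rw [hh, h2, hcard, pow_zero]
      push_cast
      field_simp
    have hmu : ¬ MemLocalIdeal M (m : ℂ) := fun h => hm ((idl_natCast_iff hM m).1 h)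
    apply not_idl_mul (loc_natCast m) hmu hu.2
    rw [e3, idl_intCast_iff hM]
    exact dvd_add (k1.mul_left a) (hg'd.mul_left c)
  · exact hd

end Cfsg.Agent.Lib.BlockLattice
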