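import Cfsg.Agent.Lib.SubsecCount
import Cfsg.Agent.Lib.BlockLattice

/-!
# Major subsections of rank two
-/

set_option autoImplicit false
set_option linter.all false

namespace Cfsg.Agent.Lib.Subsec

open Cfsg Cfsg.Agent.Lib.BlockRing Cfsg.Agent.Lib.BlockGA Cfsg.Agent.Lib.BlockIdem
open Cfsg.Agent.Lib.BlockOsima Cfsg.Agent.Lib.BlockPair Cfsg.Agent.Lib.Contrib
open Cfsg.Agent.Lib.CharBasic Cfsg.Agent.Lib.BlockSecond Cfsg.Agent.Lib.BlockCount
open Cfsg.Agent.Lib.BlockDeg Cfsg.Agent.Lib.Contrib2 Cfsg.Agent.Lib.CycAvg Cfsg.Agent.Lib.BlockLattice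
open scoped ComplexConjugate Classical

universe u

variable {G : Type u} [Group G] [Finite G] {p : ℕ} {M : Ideal AlgInt}
variable {z : G} {b : Set (IrrCharacter (Cz z))} {B : Set (IrrCharacter G)}

theorem D_coords {N : ℕ} (hN : z ^ N = 1) {f g : Cz z → ℂ} (h : IsPair p b f g) (χ : IrrCharacter G) :
    ∃ x y : ℂ, x ∈ Z N ∧ y ∈ Z N ∧ D p z b (χ : G → ℂ) = x • f + y • g := by
  have h1 : ∀ ξ ∈ fs b, ∃ a c : ℤ, preg p (ξ : Cz z → ℂ) = (a : ℂ) • f + (c : ℂ) • g := fun ξ hξ =>
    h.2.2.1 _ (preg_mem (mem_fs.1 hξ))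
  choose! a c hac using h1
  refine ⟨∑ ξ ∈ fs b, coef z (χ : G → ℂ) (ξ : Cz z → ℂ) * a ξ, ∑ ξ ∈ fs b, coef z (χ : G → ℂ) (ξ : Cz z → ℂ) * c ξ,
    (Z N).sum_mem fun ξ _ => (Z N).mul_mem (coef_mem hN χ ξ) (intCast_mem _ _),
    (Z N).sum_mem fun ξ _ => (Z N).mul_mem (coef_mem hN χ ξ) (intCast_mem _ _), ?_⟩
  rw [D_eq_sum, Finset.sum_smul, Finset.sum_smul, ← Finset.sum_add_distrib]
  refine Finset.sum_congr rfl fun ξ hξ => ?_
  rw [hac ξ hξ, smul_add, smul_smul, smul_smul]

/-- The quadratic relations for the coordinates of the functions `D`. -/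
theorem coords_sums (hM : IsPModular p M) {k : ℕ} (hz : orderOf z = p ^ k) (hind : IsInducedBlock M (Cz z) b B)
    {f g : Cz z → ℂ} (h : IsPair p b f g) {x y : IrrCharacter G → ℂ}
    (hD : ∀ χ : IrrCharacter G, D p z b (χ : G → ℂ) = x χ • f + y χ • g)
    (hΔ : ei p b f f * ei p b g g - ei p b f g ^ 2 ≠ 0) :
    (∑ χ ∈ fs B, x χ * conj (x χ) = (p : ℂ) ^ blockDefect p b * ei p b g g /
      ((ei p b f f * ei p b g g - ei p b f g ^ 2 : ℤ) : ℂ)) ∧
    (∑ χ ∈ fs B, y χ * conj (y χ) = (p : ℂ) ^ blockDefect p b * ei p b f f /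
      ((ei p b f f * ei p b g g - ei p b f g ^ 2 : ℤ) : ℂ)) ∧
    (∑ χ ∈ fs B, conj (x χ) * y χ = - ((p : ℂ) ^ blockDefect p b * ei p b f g /
      ((ei p b f f * ei p b g g - ei p b f g ^ 2 : ℤ) : ℂ))) := by
  letI := Fintype.ofFinite G
  letI := Fintype.ofFinite (Cz z)
  have hb := hind.1
  have ef := ei_spec hM hb h.1 h.1
  have eg := ei_spec hM hb h.2.1 h.2.1
  have efg := ei_spec hM hb h.1 h.2.1
  have egf := ei_spec hM hb h.2.1 h.1
  rw [ei_comm hM hb h.2.1 h.1] at egf
  have hfr := lat_rsp h.1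
  have hgr := lat_rsp h.2.1
  set a := ei p b f f with ha
  set c := ei p b g g with hc
  set e := ei p b f g with he
  set Δ : ℂ := ((a * c - e ^ 2 : ℤ) : ℂ) with hΔ'
  have hΔ0 : Δ ≠ 0 := by rw [hΔ']; exact_mod_cast hΔ
  have hΔe : Δ = a * c - e ^ 2 := by rw [hΔ']; push_cast; ring
  have hcΔ : conj Δ = Δ := by rw [hΔ', map_intCast]
  set q : ℂ := (p : ℂ) ^ blockDefect p b with hq
  have hcq : conj q = q := by rw [hq, map_pow, Complex.conj_natCast]
  set F : Cz z → ℂ := (q * c / Δ) • f + (-(q * e / Δ)) • g with hF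
  set E : Cz z → ℂ := (-(q * e / Δ)) • f + (q * a / Δ) • g with hE
  have hFr : F ∈ rsp p b := Submodule.add_mem _ (Submodule.smul_mem _ _ hfr) (Submodule.smul_mem _ _ hgr)
  have hEr : E ∈ rsp p b := Submodule.add_mem _ (Submodule.smul_mem _ _ hfr) (Submodule.smul_mem _ _ hgr)
  have fF : classInner f F = 1 := by
    rw [hF, classInner_add_right, classInner_smul_right, classInner_smul_right]
    simp only [map_neg, map_div₀, map_mul, hcΔ, hcq, map_intCast]
    have : q * c / Δ * classInner f f + -(q * e / Δ) * classInner f g =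
        (c * (q * classInner f f) - e * (q * classInner f g)) / Δ := by ring
    rw [this, ← ef, ← efg, div_eq_one_iff_eq hΔ0, hΔe]
    ring
  have gF : classInner g F = 0 := by
    rw [hF, classInner_add_right, classInner_smul_right, classInner_smul_right]
    simp only [map_neg, map_div₀, map_mul, hcΔ, hcq, map_intCast]
    have : q * c / Δ * classInner g f + -(q * e / Δ) * classInner g g =
        (c * (q * classInner g f) - e * (q * classInner g g)) / Δ := by ring
    rw [this, ← eg, ← egf, div_eq_zero_iff]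
    left
    ring
  have fE : classInner f E = 0 := by
    rw [hE, classInner_add_right, classInner_smul_right, classInner_smul_right]
    simp only [map_neg, map_div₀, map_mul, hcΔ, hcq, map_intCast]
    have : -(q * e / Δ) * classInner f f + q * a / Δ * classInner f g =
        (-e * (q * classInner f f) + a * (q * classInner f g)) / Δ := by ring
    rw [this, ← ef, ← efg, div_eq_zero_iff]
    left
    ring
  have gE : classInner g E = 1 := by
    rw [hE, classInner_add_right, classInner_smul_right, classInner_smul_right]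
    simp only [map_neg, map_div₀, map_mul, hcΔ, hcq, map_intCast]
    have : -(q * e / Δ) * classInner g f + q * a / Δ * classInner g g =
        (-e * (q * classInner g f) + a * (q * classInner g g)) / Δ := by ring
    rw [this, ← eg, ← egf, div_eq_one_iff_eq hΔ0, hΔe]
    ring
  have DF : ∀ χ : IrrCharacter G, classInner (D p z b (χ : G → ℂ)) F = x χ := by
    intro χ
    rw [hD, classInner_add_left, classInner_smul_left, classInner_smul_left, fF, gF]
    ring
  have DE : ∀ χ : IrrCharacter G, classInner (D p z b (χ : G → ℂ)) E = y χ := by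
    intro χ
    rw [hD, classInner_add_left, classInner_smul_left, classInner_smul_left, fE, gE]
    ring
  have FD : ∀ χ : IrrCharacter G, classInner F (D p z b (χ : G → ℂ)) = conj (x χ) := by
    intro χ
    rw [← DF, IndFun.classInner_conj_symm]
  have ED : ∀ χ : IrrCharacter G, classInner E (D p z b (χ : G → ℂ)) = conj (y χ) := by
    intro χ
    rw [← DE, IndFun.classInner_conj_symm]
  refine ⟨?_, ?_, ?_⟩
  · have h1 := sec_inner hM hz hind hFr hFr
    simp only [FD, DF] at h1
    have h2 : classInner F F = q * c / Δ := by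
      nth_rewrite 1 [hF]
      rw [classInner_add_left, classInner_smul_left, classInner_smul_left, fF, gF]
      ring
    rw [← h2, ← h1]
    exact Finset.sum_congr rfl fun χ _ => mul_comm _ _
  · have h1 := sec_inner hM hz hind hEr hEr
    simp only [ED, DE] at h1
    have h2 : classInner E E = q * a / Δ := by
      nth_rewrite 1 [hE]
      rw [classInner_add_left, classInner_smul_left, classInner_smul_left, fE, gE]
      ring
    rw [← h2, ← h1]
    exact Finset.sum_congr rfl fun χ _ => mul_comm _ _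
  · have h1 := sec_inner hM hz hind hFr hEr
    simp only [FD, DE] at h1
    have h2 : classInner F E = - (q * e / Δ) := by
      rw [hF, classInner_add_left, classInner_smul_left, classInner_smul_left, fE, gE]
      ring
    rw [← h2, ← h1]

theorem av_real_eq {N : ℕ} [NeZero N] {ι : Type*} (s : Finset ι) (x : ι → ℂ) (hx : ∀ i, x i ∈ Z N) {r : ℚ}
    (h : ∑ i ∈ s, x i * conj (x i) = (r : ℂ)) : ∑ i ∈ s, avn N (x i) = (r : ℝ) := by
  have h1 := congrArg (av N) h
  rw [av_sum, av_ratCast] at h1
  have h2 : ((∑ i ∈ s, avn N (x i) : ℝ) : ℂ) = ((r : ℝ) : ℂ) := by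
    push_cast
    rw [← h1]
    exact Finset.sum_congr rfl fun i _ => (av_mul_conj (hx i)).symm
  exact Complex.ofReal_injective h2

/-- **Major subsections with `l(b) = 2`**: `k(B) ≤ p ^ d`. -/
theorem card_le_of_rank_two (hM : IsPModular p M) {k : ℕ} [NeZero (p ^ (k + 1))] (hz : orderOf z = p ^ k)
    (hind : IsInducedBlock M (Cz z) b B)
    (hd : blockDefect p b = blockDefect p B) (hl : blockRank p b = 2) : Nat.card B ≤ p ^ blockDefect p b := by
  haveI := isPrime hM
  have hp := hM.1
  have hb := hind.1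
  have hzN := pow_of_orderOf hz
  set N := p ^ (k + 1) with hN
  obtain ⟨f, g, h, e1, e2, e3⟩ := gauss hM hb hl
  choose x y hxm hym hD using fun χ : IrrCharacter G => D_coords (b := b) hzN h χ
  have ha := ei_pos hM hb h.1 h.ne_zero
  have hc := ei_pos hM hb h.2.1 h.swap.ne_zero
  set a := ei p b f f with haE
  set c := ei p b g g with hcE
  set e := ei p b f g with heE
  have hΔpos : 0 < a * c - e ^ 2 := by nlinarith
  have hsums := coords_sums hM hz hind h hD (by rw [← haE, ← hcE, ← heE]; exact hΔpos.ne')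
  rw [← haE, ← hcE, ← heE] at hsums
  obtain ⟨s1, s2, s3⟩ := hsums
  set Δ : ℤ := a * c - e ^ 2 with hΔ
  set d := blockDefect p b with hdd
  have hq0 : (0 : ℝ) < (p : ℝ) ^ d := by
    have : (0 : ℝ) < p := by exact_mod_cast hp.pos
    positivity
  have hΔR : (0 : ℝ) < (Δ : ℝ) := by exact_mod_cast hΔpos
  have SX : ∑ χ ∈ fs B, avn N (x χ) = (p : ℝ) ^ d * c / Δ := by
    have := av_real_eq (N := N) (fs B) x hxm (r := (p : ℚ) ^ d * c / Δ) (by rw [s1]; push_cast; rfl)
    rw [this]; push_cast; rfl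
  have SY : ∑ χ ∈ fs B, avn N (y χ) = (p : ℝ) ^ d * a / Δ := by
    have := av_real_eq (N := N) (fs B) y hym (r := (p : ℚ) ^ d * a / Δ) (by rw [s2]; push_cast; rfl)
    rw [this]; push_cast; rfl
  have SW : ∑ χ ∈ fs B, avn N (x χ - y χ) = (p : ℝ) ^ d * (a + c + 2 * e) / Δ := by
    have h1 : ∑ χ ∈ fs B, (x χ - y χ) * conj (x χ - y χ) = ((((p : ℚ) ^ d * (a + c + 2 * e) / Δ : ℚ)) : ℂ) := by
      have h2 : ∀ χ, (x χ - y χ) * conj (x χ - y χ) = x χ * conj (x χ) + y χ * conj (y χ) -
          conj (x χ) * y χ - conj (conj (x χ) * y χ) := by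
        intro χ
        rw [map_mul, map_sub, Complex.conj_conj]
        ring
      simp only [h2, Finset.sum_sub_distrib, Finset.sum_add_distrib]
      rw [← map_sum, s1, s2, s3]
      simp only [map_neg, map_div₀, map_mul, map_pow, Complex.conj_natCast, map_intCast]
      push_cast
      ring
    have := av_real_eq (N := N) (fs B) (fun χ => x χ - y χ) (fun χ => (Z N).sub_mem (hxm χ) (hym χ)) h1
    rw [this]; push_cast; rfl
  have hcard : ∑ χ ∈ fs B, (1 : ℝ) = Nat.card B := by
    rw [Finset.sum_const, nsmul_eq_mul, mul_one, card_fs]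
  -- nonzero rows
  have hrow : ∀ χ ∈ fs B, ¬ (x χ = 0 ∧ y χ = 0) := by
    rintro χ hχ ⟨hx0, hy0⟩
    obtain ⟨χ₀, hχ₀, h0⟩ := BlockDeg.exists_height_zero (p := p) (isPBlock_nonempty hind.2.1)
    apply al_ne_zero hM hz hind hd (mem_fs.1 hχ) hχ₀ h0
    letI := Fintype.ofFinite G
    letI := Fintype.ofFinite (Cz z)
    rw [al_eq, hD χ, hx0, hy0, zero_smul, zero_smul, add_zero, classInner_zero_left, mul_zero]
  have hav : ∀ w ∈ Z N, w ≠ 0 → 1 ≤ avn N w := fun w hw h0 => one_le_avn hw h0
  rcases Int.lt_or_le 1 c with hc2 | hc1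
  · -- the generic case
    have h1 : ∑ χ ∈ fs B, (2 : ℝ) ≤ ∑ χ ∈ fs B, (avn N (x χ) + avn N (y χ) + avn N (x χ - y χ)) := by
      refine Finset.sum_le_sum fun χ hχ => ?_
      have n1 := avn_nonneg (N := N) (x χ)
      have n2 := avn_nonneg (N := N) (y χ)
      have n3 := avn_nonneg (N := N) (x χ - y χ)
      by_cases hx0 : x χ = 0
      · have hy0 : y χ ≠ 0 := fun h => hrow χ hχ ⟨hx0, h⟩
        have m2 := hav _ (hym χ) hy0
        have m3 := hav _ ((Z N).sub_mem (hxm χ) (hym χ)) (by rw [hx0, zero_sub]; exact neg_ne_zero.2 hy0)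
        linarith
      · have m1 := hav _ (hxm χ) hx0
        by_cases hy0 : y χ = 0
        · have m3 := hav _ ((Z N).sub_mem (hxm χ) (hym χ)) (by rw [hy0, sub_zero]; exact hx0)
          linarith
        · have m2 := hav _ (hym χ) hy0
          linarith
    rw [Finset.sum_add_distrib, Finset.sum_add_distrib, SX, SY, SW] at h1
    have h2 : ∑ χ ∈ fs B, (2 : ℝ) = 2 * Nat.card B := by
      rw [Finset.sum_const, nsmul_eq_mul, card_fs]; ring
    rw [h2] at h1
    have h3 : a + c + e ≤ Δ := by
      rw [hΔ]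
      have t0 : 0 ≤ -e := by omega
      rcases Int.lt_or_le 0 (-e) with ht | ht
      · have t2 : -(2 * e) ≤ a := by omega
        nlinarith
      · have : e = 0 := by omega
        rw [this]
        nlinarith
    have h3R : (a : ℝ) + c + e ≤ Δ := by exact_mod_cast h3
    have h4 : (p : ℝ) ^ d * c / Δ + (p : ℝ) ^ d * a / Δ + (p : ℝ) ^ d * (a + c + 2 * e) / Δ =
        2 * ((p : ℝ) ^ d * ((a + c + e) / Δ)) := by ring
    rw [h4] at h1
    have h5 : ((a : ℝ) + c + e) / Δ ≤ 1 := by
      rw [div_le_one hΔR]; exact h3R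
    have h6 : (Nat.card B : ℝ) ≤ (p : ℝ) ^ d := by
      have := mul_le_mul_of_nonneg_left h5 hq0.le
      linarith
    exact_mod_cast h6
  · have hc1' : c = 1 := by omega
    have he0 : e = 0 := by omega
    have hpa : (p : ℤ) ∣ a := dvd_of_eq_one hM hb h (by rw [← heE]; exact he0) (by rw [← hcE]; exact hc1')
    have hΔa : Δ = a := by rw [hΔ, hc1', he0]; ring
    rw [hΔa] at SX SY hΔR
    have hpa' : (p : ℤ) ≤ a := Int.le_of_dvd ha hpa
    have hpaR : (p : ℝ) ≤ a := by exact_mod_cast hpa'
    have SX' : ∑ χ ∈ fs B, avn N (x χ) ≤ (p : ℝ) ^ d / p := by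
      rw [SX, hc1']
      have hp0 : (0 : ℝ) < p := by exact_mod_cast hp.pos
      rw [div_le_div_iff₀ hΔR hp0]
      push_cast
      nlinarith
    have SY' : ∑ χ ∈ fs B, avn N (y χ) = (p : ℝ) ^ d := by
      rw [SY, mul_div_assoc, div_self hΔR.ne', mul_one]
    by_cases hA : ∃ χ ∈ B, y χ = 0
    · obtain ⟨χA, hχA, hyA⟩ := hA
      -- the contributions in coordinates
      letI := Fintype.ofFinite G
      letI := Fintype.ofFinite (Cz z)
      have hal : ∀ χ ψ : IrrCharacter G, al p z b (χ : G → ℂ) (ψ : G → ℂ) =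
          a * (x χ * conj (x ψ)) + y χ * conj (y ψ) := by
        intro χ ψ
        have ef := ei_spec hM hb h.1 h.1
        have eg := ei_spec hM hb h.2.1 h.2.1
        have efg := ei_spec hM hb h.1 h.2.1
        have egf := ei_spec hM hb h.2.1 h.1
        rw [ei_comm hM hb h.2.1 h.1, ← heE, he0] at egf
        rw [← heE, he0] at efg
        rw [← hcE, hc1'] at eg
        rw [← haE] at ef
        have hfg0 : classInner f g = 0 := by
          have : (p : ℂ) ^ d ≠ 0 := pow_ne_zero _ (by exact_mod_cast hp.ne_zero)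
          exact (mul_eq_zero.1 (by rw [← efg, Int.cast_zero])).resolve_left this
        have hgf0 : classInner g f = 0 := by
          have : (p : ℂ) ^ d ≠ 0 := pow_ne_zero _ (by exact_mod_cast hp.ne_zero)
          exact (mul_eq_zero.1 (by rw [← egf, Int.cast_zero])).resolve_left this
        rw [al_eq, hD χ, hD ψ, classInner_add_left, classInner_smul_left, classInner_smul_left,
          classInner_add_right, classInner_add_right, classInner_smul_right, classInner_smul_right,
          classInner_smul_right, classInner_smul_right, hfg0, hgf0, ef]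
        have e5 : (p : ℂ) ^ d * classInner g g = 1 := by rw [← eg]; simp
        linear_combination (y χ * conj (y ψ)) * e5
      have hN0 : 0 < p ^ (k + 1) := pow_pos hp.pos _
      have haI : MemLocalIdeal M (a : ℂ) := (idl_intCast_iff hM a).2 hpa
      have hyu : ∀ ψ ∈ B, blockHeight p B (ψ : G → ℂ) = 0 → ¬ MemLocalIdeal M (conj (y ψ)) := by
        intro ψ hψ h0 hcon
        apply al_unit hM hzN hind hd hψ hψ h0 h0
        rw [hal]
        refine idl_add (idl_mul_right haI ?_) (idl_mul_left (loc_of_mem hN0 (hym ψ)) hcon)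
        exact loc_mul (loc_of_mem hN0 (hxm ψ)) (loc_of_mem hN0 (conj_mem (hxm ψ)))
      obtain ⟨ψ₀, hψ₀, h0⟩ := BlockDeg.exists_height_zero (p := p) (isPBlock_nonempty hind.2.1)
      have hp0 : (0 : ℝ) < p := by exact_mod_cast hp.pos
      have key : ∀ χ ∈ fs B, (1 : ℝ) ≤ avn N (x χ) + avn N (y χ) / (p : ℝ) ^ 2 := by
        intro χ hχ
        have n1 := avn_nonneg (N := N) (x χ)
        have n2 := avn_nonneg (N := N) (y χ)
        by_cases hx0 : x χ = 0
        · have hy0 : y χ ≠ 0 := fun h => hrow χ hχ ⟨hx0, h⟩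
          have hχB := mem_fs.1 hχ
          -- positive height
          have hht : blockHeight p B (χ : G → ℂ) ≠ 0 := by
            intro hh
            apply al_ne_zero hM hz hind hd hχA hχB hh
            rw [hal, hyA, hx0]
            simp
          have h2 := al_loc hM hzN hb hd hχB ψ₀
          rw [hal, hx0, zero_mul, mul_zero, zero_add] at h2
          have h3 : MemLocalRing M (y χ / (p : ℂ) ^ blockHeight p B (χ : G → ℂ)) := by
            have hu := hyu ψ₀ hψ₀ h0
            have hinv := loc_inv (loc_of_mem hN0 (conj_mem (hym ψ₀))) hu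
            have h4 := loc_mul h2 hinv
            have hne := ne_zero_of_not_idl hu
            have e6 : y χ * conj (y ψ₀) / (p : ℂ) ^ blockHeight p B (χ : G → ℂ) * (conj (y ψ₀))⁻¹ =
                y χ / (p : ℂ) ^ blockHeight p B (χ : G → ℂ) := by field_simp
            rwa [e6] at h4
          have h5 := pow_le_avn hM _ (hym χ) hy0 h3
          have h6 : (p : ℝ) ^ 2 ≤ (p : ℝ) ^ (2 * blockHeight p B (χ : G → ℂ)) := by
            apply pow_le_pow_right₀
            · exact_mod_cast hp.one_le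
            · omega
          have h7 : (1 : ℝ) ≤ avn N (y χ) / (p : ℝ) ^ 2 := by
            rw [le_div_iff₀ (by positivity), one_mul]
            exact h6.trans h5
          linarith
        · have m1 := hav _ (hxm χ) hx0
          have : 0 ≤ avn N (y χ) / (p : ℝ) ^ 2 := by positivity
          linarith
      have h1 := Finset.sum_le_sum key
      rw [hcard, Finset.sum_add_distrib, ← Finset.sum_div, SY'] at h1
      have hp2 : (2 : ℝ) ≤ p := by exact_mod_cast hp.two_le
      have h2 : (p : ℝ) ^ d / p + (p : ℝ) ^ d / (p : ℝ) ^ 2 ≤ (p : ℝ) ^ d := by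
        have e7 : (p : ℝ) ^ d / p + (p : ℝ) ^ d / (p : ℝ) ^ 2 = (p : ℝ) ^ d * (1 / p + 1 / (p : ℝ) ^ 2) := by ring
        have e8 : 1 / (p : ℝ) + 1 / (p : ℝ) ^ 2 ≤ 1 := by
          have : 1 / (p : ℝ) ≤ 1 / 2 := by
            apply one_div_le_one_div_of_le <;> linarith
          have : 1 / (p : ℝ) ^ 2 ≤ 1 / 4 := by
            apply one_div_le_one_div_of_le
            · norm_num
            · nlinarith
          linarith
        rw [e7]
        have := mul_le_mul_of_nonneg_left e8 hq0.le
        linarith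
      have h3 : (Nat.card B : ℝ) ≤ (p : ℝ) ^ d := by linarith
      exact_mod_cast h3
    · push Not at hA
      have h1 : ∑ χ ∈ fs B, (1 : ℝ) ≤ ∑ χ ∈ fs B, avn N (y χ) :=
        Finset.sum_le_sum fun χ hχ => hav _ (hym χ) (hA χ (mem_fs.1 hχ))
      rw [hcard, SY'] at h1
      exact_mod_cast h1

end Cfsg.Agent.Lib.Subsec
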