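import Cfsg.Agent.Lib.PairCount
import Cfsg.Agent.Lib.SubsecTwo

/-!
# Blocks with abelian defect groups: the number of characters through the elements of the defect group
-/

set_option autoImplicit false
set_option linter.all false

namespace Cfsg.Agent.Lib.AbCount

open Cfsg Cfsg.Agent.Lib.BlockRing Cfsg.Agent.Lib.BlockGA Cfsg.Agent.Lib.BlockIdem
open Cfsg.Agent.Lib.BlkIdem Cfsg.Agent.Lib.BlockAlg Cfsg.Agent.Lib.PairAlg Cfsg.Agent.Lib.PairMax
open Cfsg.Agent.Lib.BrauerPairs Cfsg.Agent.Lib.NormalPBlk Cfsg.Agent.Lib.DefPairs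
open Cfsg.Agent.Lib.BlkTransport Cfsg.Agent.Lib.BlkFus Cfsg.Agent.Lib.InducedPair
open Cfsg.Agent.Lib.BlockCount Cfsg.Agent.Lib.BlockPair Cfsg.Agent.Lib.PairCount
open Cfsg.Agent.Lib.AbFusion

universe u v

variable {p : ℕ} [hp : Fact p.Prime] {M : Ideal AlgInt} [hMm : M.IsMaximal] [hchar : CharP (Kf M) p]
  {G : Type u} [Group G] [Finite G]

/-- `(P, c)` is a maximal Brauer pair of `B` with `P` abelian. -/
structure AbMax (p : ℕ) (B : Set (IrrCharacter G)) (P : Subgroup G) (c : MonoidAlgebra (Kf M) G) : Prop where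
  blk : IsPBlock M B
  pair : BPair p P c
  max : MaxPair p P c
  br : BrauerMap.br P (bidG M B) * c = c
  ab : P ≤ Subgroup.centralizer (P : Set G)

/-- The pair on `Q` below `(P,c)`. -/
noncomputable def pr (p : ℕ) (P : Subgroup G) (c : MonoidAlgebra (Kf M) G) (Q : Subgroup G) :
    MonoidAlgebra (Kf M) G := by
  classical
  exact if h : ∃ f, PLE p (Q, f) (P, c) then h.choose else 0

variable {B : Set (IrrCharacter G)} {P : Subgroup G} {c : MonoidAlgebra (Kf M) G}

theorem pr_spec (hPc : BPair p P c) {Q : Subgroup G} (hQ : Q ≤ P) : PLE p (Q, pr p P c Q) (P, c) := by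
  unfold pr
  have h : ∃ f, PLE p (Q, f) (P, c) := exists_sub hasBlocks hPc hQ
  rw [dif_pos h]
  exact h.choose_spec

theorem pr_eq (hPc : BPair p P c) {Q : Subgroup G} {f : MonoidAlgebra (Kf M) G} (h : PLE p (Q, f) (P, c)) :
    pr p P c Q = f :=
  unique_sub hasBlocks hPc (pr_spec hPc h.le) h

theorem pr_pair (hPc : BPair p P c) {Q : Subgroup G} (hQ : Q ≤ P) : BPair p Q (pr p P c Q) :=
  (pr_spec hPc hQ).pair hPc

/-- the pairs on subgroups with the same centralizer agree -/
theorem pr_congr (hPc : BPair p P c) {Q Q' : Subgroup G} (hQ : Q ≤ Q') (hQ' : Q' ≤ P)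
    (hC : Subgroup.centralizer (Q : Set G) = Subgroup.centralizer (Q' : Set G))
    (hab : P ≤ Subgroup.centralizer (P : Set G)) : pr p P c Q = pr p P c Q' := by
  have h1 := pr_spec hPc (hQ.trans hQ')
  have h2 := pr_spec hPc hQ'
  have h3 := PLE.of_le hasBlocks hPc h1 h2 hQ
  have hN : Q' ≤ Subgroup.normalizer (Q : Set G) := by
    refine le_trans ?_ (centralizer_le_normalizer Q)
    exact hQ'.trans (hab.trans (Subgroup.centralizer_le (SetLike.coe_subset_coe.2 (hQ.trans hQ'))))
  have h4 := PLE.nle hasBlocks (pr_pair hPc hQ') h3 hN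
  have h5 := h4.br_mul
  have h6 : BrauerMap.br Q' (pr p P c Q) = pr p P c Q := by
    apply BrauerMap.br_eq_self
    have := (pr_pair hPc (hQ.trans hQ')).2.mem.1
    rwa [hC] at this
  rw [h6] at h5
  by_contra hne
  have hb1 : IsBlk (Subgroup.centralizer (Q' : Set G)) (pr p P c Q) := by
    have := (pr_pair hPc (hQ.trans hQ')).2
    rwa [hC] at this
  have h7 := hb1.orth (pr_pair hPc hQ').2 hne
  rw [h7] at h5
  exact (pr_pair hPc hQ').2.ne_zero h5.symm

/-- the number of Brauer characters of the block of `C(Q)` below `(P, c)` -/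
noncomputable def lq (p : ℕ) (P : Subgroup G) (c : MonoidAlgebra (Kf M) G) (Q : Subgroup G) : ℕ :=
  lr p (Subgroup.centralizer (Q : Set G)) (pr p P c Q)

theorem lq_congr (hPc : BPair p P c) {Q Q' : Subgroup G} (hQ : Q ≤ Q') (hQ' : Q' ≤ P)
    (hC : Subgroup.centralizer (Q : Set G) = Subgroup.centralizer (Q' : Set G))
    (hab : P ≤ Subgroup.centralizer (P : Set G)) : lq p P c Q = lq p P c Q' := by
  rw [lq, lq, pr_congr hPc hQ hQ' hC hab, hC]

theorem orderOf_mem (hP : IsPGroup p P) {x : G} (hx : x ∈ P) : ∃ k : ℕ, orderOf x = p ^ k := by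
  obtain ⟨k, hk⟩ := (IsPGroup.iff_orderOf.1 hP) ⟨x, hx⟩
  exact ⟨k, by rw [← hk, Subgroup.orderOf_mk]⟩

theorem zpowers_le_of {x : G} (hx : x ∈ P) : Subgroup.zpowers x ≤ P := Subgroup.zpowers_le.2 hx

theorem AbMax.belt (h : AbMax p B P c) {x : G} (hx : x ∈ P) :
    BElt p (bidG M B) x (pr p P c (Subgroup.zpowers x)) := by
  have h1 := pr_pair h.pair (zpowers_le_of hx)
  refine ⟨orderOf_mem h.pair.1 hx, ?_, ?_⟩
  · have := h1.2
    rwa [SubsecNorm.centralizer_zpowers] at this
  · exact ple_blk_down' hasBlocks (isBlk_bidG h.blk) (pr_spec h.pair (zpowers_le_of hx)) h1 h.br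

theorem lq_zpowers (x : G) : lq p P c (Subgroup.zpowers x) =
    lr p (Subgroup.centralizer ({x} : Set G)) (pr p P c (Subgroup.zpowers x)) := by
  rw [lq, SubsecNorm.centralizer_zpowers]

/-- **The number of characters of a block with abelian defect group.** -/
theorem AbMax.card_eq (hM : IsPModular p M) (h : AbMax p B P c) (R : Finset G) (hR : ∀ r ∈ R, r ∈ P)
    (hRrep : ∀ x ∈ P, ∃! r, r ∈ R ∧ ∃ t ∈ stab (Subgroup.normalizer (P : Set G)) c, t * x * t⁻¹ = r) :
    Nat.card B = ∑ r ∈ R, lq p P c (Subgroup.zpowers r) := by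
  classical
  rw [← Finset.sum_coe_sort]
  simp only [lq_zpowers]
  refine card_eq_sum hM h.blk (fun i : R => (i : G)) (fun i : R => pr p P c (Subgroup.zpowers (i : G)))
    (fun i => h.belt (hR i i.2)) ?_
  intro x f' hx
  have hbx : BPair p (Subgroup.zpowers x) f' := ⟨isPGroup_zpowers hx.pel, by
    have := hx.blk
    rwa [← SubsecNorm.centralizer_zpowers] at this⟩
  obtain ⟨g, hg⟩ := h.max.conj_into hasBlocks (isBlk_bidG h.blk) h.pair h.br hbx hx.br
  rw [map_zpowers] at hg
  have hgP : g * x * g⁻¹ ∈ P := hg.le (Subgroup.mem_zpowers _)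
  obtain ⟨r, ⟨hr, t, ht, htr⟩, huniq⟩ := hRrep _ hgP
  refine ⟨⟨r, hr⟩, ⟨t * g, ?_, ?_⟩, ?_⟩
  · show t * g * x * (t * g)⁻¹ = r
    rw [← htr]; group
  · show BrauerMap.cj (t * g) f' = pr p P c (Subgroup.zpowers r)
    symm
    apply pr_eq h.pair
    have h2 := hg.cj t
    simp only at h2
    rw [map_zpowers, htr, ← BrauerMap.cj_mul, ht.2] at h2
    have e1 : P.map (MulAut.conj t).toMonoidHom = P := cg_of_mem_normalizer ht.1
    rwa [e1] at h2
  · rintro ⟨s, hs⟩ ⟨g', hg', hg2'⟩
    simp only at hg' hg2'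
    apply Subtype.ext
    show s = r
    -- both are conjugate
    have key : ∃ t' ∈ stab (Subgroup.normalizer (P : Set G)) c, t' * (g * x * g⁻¹) * t'⁻¹ = s := by
      set y := g' * g⁻¹ with hy
      have e1 : cg y (Subgroup.zpowers (g * x * g⁻¹)) = Subgroup.zpowers s := by
        show (Subgroup.zpowers (g * x * g⁻¹)).map (MulAut.conj y).toMonoidHom = _
        rw [map_zpowers, ← hg', hy]
        congr 1
        group
      have e2 : BrauerMap.cj y (BrauerMap.cj g f') = pr p P c (Subgroup.zpowers s) := by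
        rw [← BrauerMap.cj_mul, hy, inv_mul_cancel_right, hg2']
      have h3 : PLE p (cg y (Subgroup.zpowers (g * x * g⁻¹)), BrauerMap.cj y (BrauerMap.cj g f')) (P, c) := by
        rw [e1, e2]
        exact pr_spec h.pair (zpowers_le_of (hR s hs))
      obtain ⟨z, hz, hzy⟩ := ab_factor h.pair h.max h.ab hg h3
      refine ⟨z * y, hzy, ?_⟩
      rw [e1, SubsecNorm.centralizer_zpowers, Subgroup.mem_centralizer_singleton_iff] at hz
      have e3 : y * (g * x * g⁻¹) * y⁻¹ = s := by rw [← hg', hy]; group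
      have e4 : z * y * (g * x * g⁻¹) * (z * y)⁻¹ = z * (y * (g * x * g⁻¹) * y⁻¹) * z⁻¹ := by group
      rw [e4, e3, hz]
      group
    exact huniq s ⟨hs, key⟩

/-! ### the whole group -/

theorem bid_top (B : Set (IrrCharacter G)) :
    bid M (⊤ : Subgroup G) (irrMap (Subgroup.topEquiv (G := G)).symm '' B) = bidG M B := by
  apply BrauerMap.ext_coeff; intro g
  have h1 := bid_coeff_coe (M := M) (⊤ : Subgroup G) (irrMap (Subgroup.topEquiv (G := G)).symm '' B) ⟨g, trivial⟩
  rw [show (((⟨g, trivial⟩ : (⊤ : Subgroup G))) : G) = g from rfl] at h1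
  rw [h1, bidG_coeff]
  have h2 := blockCoeff_irrMap (Subgroup.topEquiv (G := G)).symm B g
  congr 1

theorem lr_top {B : Set (IrrCharacter G)} (hB : IsPBlock M B) :
    lr p (⊤ : Subgroup G) (bidG M B) = blockRank p B := by
  rw [← bid_top, lr_bid (isPBlock_irrMap _ hB), blockRank_irrMap]

theorem AbMax.pr_of_central (h : AbMax p B P c) {Q : Subgroup G} (hQ : Q ≤ P)
    (hC : Subgroup.centralizer (Q : Set G) = ⊤) : pr p P c Q = bidG M B := by
  have h1 := pr_pair h.pair hQ
  have h2 : BrauerMap.br Q (bidG M B) * pr p P c Q = pr p P c Q :=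
    ple_blk_down' hasBlocks (isBlk_bidG h.blk) (pr_spec h.pair hQ) h1 h.br
  have h3 : BrauerMap.br Q (bidG M B) = bidG M B := by
    apply BrauerMap.br_eq_self
    rw [hC]
    exact (bidG_mem B).1
  rw [h3] at h2
  have h4 := h1.2
  rw [hC] at h4
  by_contra hne
  have h5 := (isBlk_bidG (M := M) h.blk).orth h4 (Ne.symm hne)
  rw [h5] at h2
  exact h4.ne_zero h2.symm

theorem AbMax.lq_of_central (h : AbMax p B P c) {Q : Subgroup G} (hQ : Q ≤ P)
    (hC : Subgroup.centralizer (Q : Set G) = ⊤) : lq p P c Q = blockRank p B := by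
  rw [lq, h.pr_of_central hQ hC, hC, lr_top h.blk]

theorem AbMax.lq_bot (h : AbMax p B P c) : lq p P c ⊥ = blockRank p B := by
  apply h.lq_of_central bot_le
  rw [eq_top_iff]
  intro g _
  rw [Subgroup.mem_centralizer_iff]
  intro x hx
  rw [Subgroup.coe_bot, Set.mem_singleton_iff] at hx
  rw [hx, one_mul, mul_one]

theorem AbMax.isDefectGroup (h : AbMax p B P c) : IsDefectGroup p M B P := by
  rw [isDefectGroup_iff h.blk]
  refine ⟨h.pair.1, le_top, ?_, h.max.defIn hasBlocks (isBlk_bidG h.blk) h.pair h.br⟩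
  intro h0
  have := h.br
  rw [h0, zero_mul] at this
  exact h.pair.2.ne_zero this.symm

theorem AbMax.card_P (hM : IsPModular p M) (h : AbMax p B P c) : Nat.card P = p ^ blockDefect p B :=
  BlockDefect.defectGroup_card hM h.blk h.isDefectGroup

/-! ### passing to the centralizer of an element -/

/-- the block of `C(u)` -/
noncomputable abbrev bu (p : ℕ) (P : Subgroup G) (c : MonoidAlgebra (Kf M) G) (u : G) :
    Set (IrrCharacter (Subgroup.centralizer ({u} : Set G))) :=
  blkOf M (Subgroup.centralizer ({u} : Set G)) (pr p P c (Subgroup.zpowers u))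

theorem AbMax.P_le (h : AbMax p B P c) {u : G} (hu : u ∈ P) : P ≤ Subgroup.centralizer ({u} : Set G) := by
  intro x hx
  rw [Subgroup.mem_centralizer_singleton_iff]
  exact (Subgroup.mem_centralizer_iff.1 (h.ab hx) u hu).symm

omit [Finite G] in
theorem C_le {u : G} (hu : u ∈ P) : Subgroup.centralizer (P : Set G) ≤ Subgroup.centralizer ({u} : Set G) :=
  Subgroup.centralizer_le (Set.singleton_subset_iff.2 hu)

theorem AbMax.isInduced (hM : IsPModular p M) (h : AbMax p B P c) {u : G} (hu : u ∈ P) :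
    IsInducedBlock M (Subgroup.centralizer ({u} : Set G)) (bu p P c u) B := by
  have h1 := h.belt hu
  obtain ⟨h2, h3⟩ := blkOf_spec h1.blk
  rw [belt_iff h.blk h1.pel h2, h3]
  exact h1

theorem AbMax.res (h : AbMax p B P c) {u : G} (hu : u ∈ P) :
    AbMax p (bu p P c u) (P.subgroupOf (Subgroup.centralizer ({u} : Set G)))
      (res (Subgroup.centralizer ({u} : Set G)) c) := by
  set H := Subgroup.centralizer ({u} : Set G) with hH
  have hPH : P ≤ H := h.P_le hu
  have hCH : Subgroup.centralizer (P : Set G) ≤ H := C_le hu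
  have h1 := h.belt hu
  obtain ⟨h2, h3⟩ := blkOf_spec h1.blk
  have hinc : inc H (BlockAlg.res H c) = c := inc_res H (BrauerMap.suppAlg_mono hCH h.pair.2.mem.1)
  refine ⟨h2, ?_, ?_, ?_, ?_⟩
  · rw [← bpair_inc_iff hPH hCH, hinc]
    exact h.pair
  · apply maxPair_inc hPH hCH
    rw [hinc]
    exact h.max
  · apply inc_injective (M := M) H
    rw [map_mul, inc_br hPH, hinc]
    have h4 : inc H (bidG M (bu p P c u)) = bid M H (bu p P c u) := rfl
    rw [h4, h3]
    have hN : P ≤ Subgroup.normalizer ((Subgroup.zpowers u : Subgroup G) : Set G) := by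
      refine le_trans ?_ (centralizer_le_normalizer _)
      rw [SubsecNorm.centralizer_zpowers]
      exact hPH
    exact (PLE.nle hasBlocks h.pair (pr_spec h.pair (zpowers_le_of hu)) hN).br_mul
  · intro x hx
    rw [Subgroup.mem_centralizer_iff]
    intro y hy
    apply Subtype.ext
    exact Subgroup.mem_centralizer_iff.1 (h.ab (Subgroup.mem_subgroupOf.1 hx)) (y : G) (Subgroup.mem_subgroupOf.1 hy)

end Cfsg.Agent.Lib.AbCount
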