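import Cfsg.Agent.Lib.AbCount

/-!
# Blocks with abelian defect groups and trivial inertial quotient
-/

set_option autoImplicit false
set_option linter.all false

namespace Cfsg.Agent.Lib.AbCount

open Cfsg Cfsg.Agent.Lib.BlockRing Cfsg.Agent.Lib.BlockGA Cfsg.Agent.Lib.BlockIdem
open Cfsg.Agent.Lib.BlkIdem Cfsg.Agent.Lib.BlockAlg Cfsg.Agent.Lib.PairAlg Cfsg.Agent.Lib.PairMax
open Cfsg.Agent.Lib.BrauerPairs Cfsg.Agent.Lib.NormalPBlk Cfsg.Agent.Lib.DefPairs
open Cfsg.Agent.Lib.BlkTransport Cfsg.Agent.Lib.BlkFus Cfsg.Agent.Lib.InducedPair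
open Cfsg.Agent.Lib.BlockCount Cfsg.Agent.Lib.BlockPair Cfsg.Agent.Lib.PairCount
open Cfsg.Agent.Lib.AbFusion

universe u v

variable {p : ℕ} [hp : Fact p.Prime] {M : Ideal AlgInt} [hMm : M.IsMaximal] [hchar : CharP (Kf M) p]
  {G : Type u} [Group G] [Finite G] {B : Set (IrrCharacter G)} {P : Subgroup G} {c : MonoidAlgebra (Kf M) G}

theorem AbMax.inc_res_c (h : AbMax p B P c) {u : G} (hu : u ∈ P) :
    inc (Subgroup.centralizer ({u} : Set G)) (BlockAlg.res (Subgroup.centralizer ({u} : Set G)) c) = c :=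
  inc_res _ (BrauerMap.suppAlg_mono (C_le hu) h.pair.2.mem.1)

theorem AbMax.pr_res (h : AbMax p B P c) {u : G} (hu : u ∈ P) {Q : Subgroup G} (hQ : Q ≤ P) (huQ : u ∈ Q) :
    pr p (P.subgroupOf (Subgroup.centralizer ({u} : Set G))) (BlockAlg.res (Subgroup.centralizer ({u} : Set G)) c)
      (Q.subgroupOf (Subgroup.centralizer ({u} : Set G))) =
      BlockAlg.res (Subgroup.centralizer ({u} : Set G)) (pr p P c Q) := by
  apply pr_eq (h.res hu).pair
  exact ple_inc (pr_spec h.pair hQ) (h.P_le hu) (C_le huQ)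

theorem AbMax.lq_res (h : AbMax p B P c) {u : G} (hu : u ∈ P) {Q : Subgroup G} (hQ : Q ≤ P) (huQ : u ∈ Q) :
    lq p (P.subgroupOf (Subgroup.centralizer ({u} : Set G))) (BlockAlg.res (Subgroup.centralizer ({u} : Set G)) c)
      (Q.subgroupOf (Subgroup.centralizer ({u} : Set G))) = lq p P c Q := by
  rw [lq, h.pr_res hu hQ huQ, centralizer_subgroupOf (hQ.trans (h.P_le hu)), lr_sub (C_le huQ) (pr_pair h.pair hQ).2,
    ← lq]

theorem AbMax.lq_res_elt (h : AbMax p B P c) {u : G} (hu : u ∈ P)
    (v : Subgroup.centralizer ({u} : Set G)) (hv : (v : G) ∈ P) :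
    lq p (P.subgroupOf (Subgroup.centralizer ({u} : Set G))) (BlockAlg.res (Subgroup.centralizer ({u} : Set G)) c)
      (Subgroup.zpowers v) = lq p P c (Subgroup.zpowers (v : G) ⊔ Subgroup.zpowers u) := by
  have hQ : Subgroup.zpowers (v : G) ⊔ Subgroup.zpowers u ≤ P :=
    sup_le (zpowers_le_of hv) (zpowers_le_of hu)
  have huQ : u ∈ Subgroup.zpowers (v : G) ⊔ Subgroup.zpowers u :=
    (le_sup_right : Subgroup.zpowers u ≤ _) (Subgroup.mem_zpowers u)
  rw [← h.lq_res hu hQ huQ]
  apply lq_congr (h.res hu).pair _ _ _ (h.res hu).ab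
  · rw [Subgroup.zpowers_le, Subgroup.mem_subgroupOf]
    exact (le_sup_left : Subgroup.zpowers (v : G) ≤ _) (Subgroup.mem_zpowers _)
  · intro x hx
    exact Subgroup.mem_subgroupOf.2 (hQ (Subgroup.mem_subgroupOf.1 hx))
  · apply le_antisymm
    · intro x hx
      rw [SubsecNorm.centralizer_zpowers, Subgroup.mem_centralizer_singleton_iff] at hx
      rw [centralizer_subgroupOf (hQ.trans (h.P_le hu)), Subgroup.mem_subgroupOf]
      have h1 : (x : G) * (v : G) = (v : G) * (x : G) := congrArg Subtype.val hx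
      have h2 : (x : G) * u = u * (x : G) := Subgroup.mem_centralizer_singleton_iff.1 x.2
      have h3 : Subgroup.zpowers (v : G) ⊔ Subgroup.zpowers u ≤ Subgroup.centralizer ({(x : G)} : Set G) := by
        apply sup_le
        · rw [Subgroup.zpowers_le, Subgroup.mem_centralizer_singleton_iff]
          exact h1.symm
        · rw [Subgroup.zpowers_le, Subgroup.mem_centralizer_singleton_iff]
          exact h2.symm
      rw [Subgroup.mem_centralizer_iff]
      intro y hy
      exact Subgroup.mem_centralizer_singleton_iff.1 (h3 hy)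
    · apply Subgroup.centralizer_le
      intro y hy
      have hy' : y ∈ Subgroup.zpowers v := hy
      show (y : G) ∈ Subgroup.zpowers (v : G) ⊔ Subgroup.zpowers u
      obtain ⟨n, rfl⟩ := Subgroup.mem_zpowers_iff.1 hy'
      apply (le_sup_left : Subgroup.zpowers (v : G) ≤ _)
      exact Subgroup.mem_zpowers_iff.2 ⟨n, by simp⟩

theorem AbMax.mem_stab_res (h : AbMax p B P c) {u : G} (hu : u ∈ P)
    {t : Subgroup.centralizer ({u} : Set G)} :
    t ∈ stab (Subgroup.normalizer ((P.subgroupOf (Subgroup.centralizer ({u} : Set G)) :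
        Subgroup (Subgroup.centralizer ({u} : Set G))) : Set (Subgroup.centralizer ({u} : Set G))))
        (BlockAlg.res (Subgroup.centralizer ({u} : Set G)) c) ↔
      (t : G) ∈ stab (Subgroup.normalizer (P : Set G)) c := by
  rw [mem_stab, mem_stab, mem_normalizer_subgroupOf (h.P_le hu)]
  refine and_congr_right fun _ => ?_
  rw [← (inc_injective (M := M) (Subgroup.centralizer ({u} : Set G))).eq_iff, inc_cj, h.inc_res_c hu]

theorem AbMax.blockDefect_eq (hM : IsPModular p M) (h : AbMax p B P c) {u : G} (hu : u ∈ P) :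
    blockDefect p (bu p P c u) = blockDefect p B := by
  have h1 := h.card_P hM
  have h2 := (h.res hu).card_P hM
  have h3 : Nat.card (P.subgroupOf (Subgroup.centralizer ({u} : Set G))) = Nat.card P :=
    Nat.card_congr (Subgroup.subgroupOfEquivOfLe (h.P_le hu)).toEquiv
  rw [h3, h1] at h2
  exact (Nat.pow_right_injective hp.out.two_le h2).symm

/-- if some `b_u` has rank one then `k(B) ≤ |P|` -/
theorem AbMax.card_le (hM : IsPModular p M) (h : AbMax p B P c) {u : G} (hu : u ∈ P)
    (hl : blockRank p (bu p P c u) = 1) : Nat.card B ≤ Nat.card P := by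
  obtain ⟨k, hk⟩ := orderOf_mem h.pair.1 hu
  have h1 := Subsec.card_le_rank_mul hM hk (h.isInduced hM hu) (h.blockDefect_eq hM hu)
  rw [hl, mul_one, h.blockDefect_eq hM hu, ← h.card_P hM] at h1
  exact h1

theorem AbMax.lq_pos (h : AbMax p B P c) {u : G} (hu : u ∈ P) : 1 ≤ lq p P c (Subgroup.zpowers u) := by
  rw [lq_zpowers, lr]
  exact BlockSmall.blockRank_pos hp.out (isPBlock_nonempty (blkOf_spec (h.belt hu).blk).1)

/-- **Blocks with abelian defect group and trivial inertial quotient.** -/
theorem AbMax.nilpotent (hM : IsPModular p M) : ∀ (n : ℕ) {G : Type u} [Group G] [Finite G]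
    {B : Set (IrrCharacter G)} {P : Subgroup G} {c : MonoidAlgebra (Kf M) G}, Nat.card G ≤ n → AbMax p B P c →
    (∀ t ∈ stab (Subgroup.normalizer (P : Set G)) c, ∀ x ∈ P, t * x * t⁻¹ = x) →
    blockRank p B = 1 ∧ Nat.card B = Nat.card P := by
  classical
  intro n
  induction n with
  | zero =>
    intro G _ _ B P c hn
    have := Nat.card_pos (α := G)
    omega
  | succ n ih =>
    intro G _ _ B P c hn h hT
    have := Fintype.ofFinite G
    set R : Finset G := Finset.univ.filter (fun x => x ∈ P) with hR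
    have hRm : ∀ x, x ∈ R ↔ x ∈ P := fun x => by rw [hR, Finset.mem_filter]; simp
    have hcR : R.card = Nat.card P := by
      rw [hR, Nat.card_eq_fintype_card, Fintype.card_subtype]
    have hcount := h.card_eq hM R (fun r hr => (hRm r).1 hr) (by
      intro x hx
      refine ⟨x, ⟨(hRm x).2 hx, 1, one_mem _, by group⟩, ?_⟩
      rintro y ⟨_, t, ht, hty⟩
      rw [← hty, hT t ht x hx])
    by_cases hcen : ∀ u ∈ P, Subgroup.centralizer ({u} : Set G) = ⊤
    · -- `P` is central
      have hCP : Subgroup.centralizer (P : Set G) = ⊤ := by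
        rw [eq_top_iff]
        intro g _
        rw [Subgroup.mem_centralizer_iff]
        intro x hx
        have h1 : g ∈ Subgroup.centralizer ({x} : Set G) := by rw [hcen x hx]; trivial
        exact (Subgroup.mem_centralizer_singleton_iff.1 h1).symm
      have h1 := BlockPC.card_block hM h.pair.1 (by rw [hCP]; exact sup_top_eq _) h.blk h.isDefectGroup
      have h2 : Nat.card (ConjClasses P) = Nat.card P := by
        have : Function.Bijective (ConjClasses.mk : P → ConjClasses P) := by
          refine ⟨?_, ConjClasses.mk_surjective⟩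
          intro x y hxy
          rw [ConjClasses.mk_eq_mk_iff_isConj] at hxy
          obtain ⟨z, hz⟩ := isConj_iff.1 hxy
          apply Subtype.ext
          have e1 : (z : G) * x * (z : G)⁻¹ = y := congrArg Subtype.val hz
          have e2 := Subgroup.mem_centralizer_iff.1 (h.ab z.2) x x.2
          rw [← e1, ← e2]
          group
        exact (Nat.card_eq_of_bijective _ this).symm
      rw [h2] at h1
      refine ⟨?_, h1⟩
      have h3 : ∀ r ∈ R, lq p P c (Subgroup.zpowers r) = blockRank p B := by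
        intro r hr
        apply h.lq_of_central (zpowers_le_of ((hRm r).1 hr))
        rw [SubsecNorm.centralizer_zpowers]
        exact hcen r ((hRm r).1 hr)
      rw [Finset.sum_congr rfl h3, Finset.sum_const, smul_eq_mul, hcR, h1] at hcount
      have h4 : 0 < Nat.card P := Nat.card_pos
      exact Nat.eq_of_mul_eq_mul_left h4 (by rw [mul_one]; exact hcount.symm)
    · push Not at hcen
      obtain ⟨u, hu, huc⟩ := hcen
      have hlt : Nat.card (Subgroup.centralizer ({u} : Set G)) < Nat.card G := by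
        rcases lt_or_eq_of_le (Subgroup.card_le_card_group (Subgroup.centralizer ({u} : Set G))) with h1 | h1
        · exact h1
        · exact absurd (Subgroup.eq_top_of_card_eq _ h1) huc
      have h1 := ih (by omega) (h.res hu) (by
        intro t ht x hx
        rw [h.mem_stab_res hu] at ht
        apply Subtype.ext
        exact hT _ ht (x : G) (Subgroup.mem_subgroupOf.1 hx))
      have h2 := h.card_le hM hu h1.1
      have h3 : ∀ r ∈ R, 1 ≤ lq p P c (Subgroup.zpowers r) := fun r hr => h.lq_pos ((hRm r).1 hr)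
      have h4 : Nat.card P ≤ Nat.card B := by
        rw [hcount, ← hcR]
        calc R.card = ∑ r ∈ R, 1 := by simp
          _ ≤ _ := Finset.sum_le_sum h3
      have h5 : Nat.card B = Nat.card P := le_antisymm h2 h4
      refine ⟨?_, h5⟩
      have h6 : ∑ r ∈ R, 1 = ∑ r ∈ R, lq p P c (Subgroup.zpowers r) := by
        rw [← hcount, h5, ← hcR]; simp
      have h7 := (Finset.sum_eq_sum_iff_of_le h3).1 h6 1 ((hRm 1).2 (one_mem P))
      rw [Subgroup.zpowers_one_eq_bot, h.lq_bot] at h7
      exact h7.symm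

end Cfsg.Agent.Lib.AbCount
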