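import Cfsg.Agent.Lib.AbCount2
import Cfsg.Agent.Lib.SubsecHZ

/-!
# Blocks with Klein four defect groups
-/

set_option autoImplicit false
set_option linter.all false

namespace Cfsg.Agent.Lib.AbCount

open Cfsg Cfsg.Agent.Lib.BlockRing Cfsg.Agent.Lib.BlockGA Cfsg.Agent.Lib.BlockIdem
open Cfsg.Agent.Lib.BlkIdem Cfsg.Agent.Lib.BlockAlg Cfsg.Agent.Lib.PairAlg Cfsg.Agent.Lib.PairMax
open Cfsg.Agent.Lib.BrauerPairs Cfsg.Agent.Lib.NormalPBlk Cfsg.Agent.Lib.DefPairs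
open Cfsg.Agent.Lib.BlkTransport Cfsg.Agent.Lib.BlkFus Cfsg.Agent.Lib.InducedPair
open Cfsg.Agent.Lib.BlockCount Cfsg.Agent.Lib.BlockPair Cfsg.Agent.Lib.PairCount
open Cfsg.Agent.Lib.AbFusion Cfsg.Agent.Lib.Subsec Cfsg.Agent.Lib.CharBasic
open scoped ComplexConjugate

universe u v

variable {p : ℕ} [hp : Fact p.Prime] {M : Ideal AlgInt} [hMm : M.IsMaximal] [hchar : CharP (Kf M) p]
  {G : Type u} [Group G] [Finite G] {B : Set (IrrCharacter G)} {P : Subgroup G}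

theorem AbMax.of (hB : IsPBlock M B) (hPD : IsDefectGroup p M B P) (hab : ∀ x ∈ P, ∀ y ∈ P, x * y = y * x)
    {c : Set (IrrCharacter (Subgroup.centralizer (P : Set G)))}
    (hc : IsInducedBlock M (Subgroup.centralizer (P : Set G)) c B) : AbMax p B P (bid M _ c) := by
  have hPp : IsPGroup p P := BlockDefect.defectGroup_isPGroup hPD
  have hbr := (isInducedBlock_iff_br (p := p) rfl hPp hc.1 hB).1 hc
  refine ⟨hB, ⟨hPp, isBlk_bid hc.1⟩, AbDefect.maxPair_of_defectGroup hB hPD hbr, hbr, ?_⟩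
  intro x hx
  rw [Subgroup.mem_centralizer_iff]
  intro y hy
  exact hab y hy x hx

omit hp hchar in
theorem mem_T_iff {c : Set (IrrCharacter (Subgroup.centralizer (P : Set G)))} (hc : IsPBlock M c)
    {T : Subgroup G} (hT : ∀ g : G, g ∈ T ↔ (g ∈ Subgroup.normalizer (P : Set G) ∧
      StabilizesBlock (Subgroup.centralizer (P : Set G)) c g)) :
    T = stab (Subgroup.normalizer (P : Set G)) (bid M _ c) := by
  ext g
  rw [hT, mem_stab]
  refine and_congr_right fun hg => ?_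
  exact stabilizesBlock_iff (normalizer_le_normalizer_centralizer P hg) hc

/-- the inertial index is prime to `p` -/
theorem AbMax.not_dvd_relIndex {c : MonoidAlgebra (Kf M) G} (h : AbMax p B P c) :
    ¬ p ∣ (Subgroup.centralizer (P : Set G)).relIndex (stab (Subgroup.normalizer (P : Set G)) c) := by
  set T := stab (Subgroup.normalizer (P : Set G)) c with hT
  set C := Subgroup.centralizer (P : Set G) with hC
  have hn : (C.subgroupOf T).Normal := by
    constructor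
    intro n hn g
    rw [Subgroup.mem_subgroupOf] at hn ⊢
    have h1 := normalizer_le_normalizer_centralizer P (stab_le _ _ g.2)
    exact (Subgroup.mem_normalizer_iff.1 h1 _).1 hn
  intro hdvd
  have h2 : p ∣ Nat.card (T ⧸ C.subgroupOf T) := hdvd
  obtain ⟨q, hq⟩ := exists_prime_orderOf_dvd_card' p h2
  obtain ⟨g, rfl⟩ := QuotientGroup.mk_surjective q
  have h3 : (g : G) ^ p ^ 1 ∈ C := by
    have h4 := pow_orderOf_eq_one (QuotientGroup.mk g : T ⧸ C.subgroupOf T)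
    rw [hq, ← QuotientGroup.mk_pow, QuotientGroup.eq_one_iff, Subgroup.mem_subgroupOf] at h4
    rw [pow_one]
    simpa using h4
  have h5 := AbDefect.mem_centralizer_of_pow h.pair h.max h.ab g.2 h3
  have h6 : (QuotientGroup.mk g : T ⧸ C.subgroupOf T) = 1 :=
    (QuotientGroup.eq_one_iff g).2 (Subgroup.mem_subgroupOf.2 h5)
  rw [h6, orderOf_one] at hq
  exact hp.out.ne_one hq.symm

/-! ### rank one -/

omit hp hMm hchar in
theorem al_rank_one {z : G} {b : Set (IrrCharacter (Cz z))} (hl : blockRank p b = 1) (χ ψ : G → ℂ) :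
    al p z b χ χ * al p z b ψ ψ = al p z b χ ψ * al p z b ψ χ := by
  have := Fintype.ofFinite G
  have := Fintype.ofFinite (Cz z)
  rw [blockRank_eq] at hl
  obtain ⟨v, hv, hspan⟩ := finrank_eq_one_iff'.1 hl
  obtain ⟨a, ha⟩ := hspan ⟨D p z b χ, D_mem z b χ⟩
  obtain ⟨a', ha'⟩ := hspan ⟨D p z b ψ, D_mem z b ψ⟩
  have e1 : D p z b χ = a • (v : Cz z → ℂ) := (congrArg Subtype.val ha).symm
  have e2 : D p z b ψ = a' • (v : Cz z → ℂ) := (congrArg Subtype.val ha').symm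
  simp only [al_eq, e1, e2, classInner_smul_left, classInner_smul_right]
  ring

omit hp hMm hchar in
theorem int_of_Z2 {x : ℂ} (hx : x ∈ CycAvg.Z 2) : ∃ m : ℤ, x = m := by
  refine CycAvg.ind (P := fun x => ∃ m : ℤ, x = m) ?_ ⟨0, by simp⟩ ?_ ?_ hx
  · intro μ hμ
    rcases mul_self_eq_one_iff.1 (show μ * μ = 1 by rw [← sq]; exact hμ) with h | h
    · exact ⟨1, by rw [h]; simp⟩
    · exact ⟨-1, by rw [h]; simp⟩
  · rintro x y _ _ ⟨m, rfl⟩ ⟨n, rfl⟩
    exact ⟨m + n, by push_cast; ring⟩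
  · rintro x _ ⟨m, rfl⟩
    exact ⟨-m, by push_cast; ring⟩

omit hp hMm hchar in
theorem four_of_rank_one (hM : IsPModular 2 M) {z : G} (hz : orderOf z = 2 ^ 1) {b : Set (IrrCharacter (Cz z))}
    (hind : IsInducedBlock M (Cz z) b B) (hd : blockDefect 2 b = blockDefect 2 B) (hd2 : blockDefect 2 b = 2)
    (hl : blockRank 2 b = 1) (hk : 2 ≤ Nat.card B) : Nat.card B = 4 := by
  classical
  haveI := isPrime hM
  have := Fintype.ofFinite G
  have := Fintype.ofFinite (Cz z)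
  have hz2 : z ^ 2 = 1 := by rw [pow_one] at hz; rw [← hz]; exact pow_orderOf_eq_one z
  obtain ⟨χ₀, hχ₀, h0⟩ := BlockDeg.exists_height_zero (p := 2) (isPBlock_nonempty hind.2.1)
  choose m hm using fun χ ψ : IrrCharacter G => int_of_Z2 (al_mem hM hz2 hind.1 χ ψ)
  -- symmetry
  have hsym : ∀ χ ψ, m χ ψ = m ψ χ := by
    intro χ ψ
    have h1 := al_conj (p := 2) z b (χ : G → ℂ) (ψ : G → ℂ)
    rw [hm, hm, map_intCast] at h1
    exact_mod_cast h1
  have hsq : ∀ χ ψ, m χ χ * m ψ ψ = m χ ψ ^ 2 := by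
    intro χ ψ
    have h1 := al_rank_one (p := 2) hl (χ : G → ℂ) (ψ : G → ℂ)
    rw [hm, hm, hm, hm, hsym ψ χ] at h1
    rw [sq]
    exact_mod_cast h1
  have hnn : ∀ χ, 0 ≤ m χ χ := by
    intro χ
    have h1 := al_eq (p := 2) z b (χ : G → ℂ) (χ : G → ℂ)
    rw [hm] at h1
    have h2 : (0 : ℝ) ≤ (m χ χ : ℝ) := by
      have h3 := congrArg Complex.re h1
      rw [Complex.intCast_re] at h3
      rw [h3]
      have h4 : classInner (D 2 z b (χ : G → ℂ)) (D 2 z b (χ : G → ℂ)) =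
          (((Nat.card (Cz z) : ℝ)⁻¹ * ∑ y : Cz z, ‖D 2 z b (χ : G → ℂ) y‖ ^ 2 : ℝ) : ℂ) := by
        unfold classInner
        push_cast
        congr 1
        refine Finset.sum_congr rfl fun y _ => ?_
        rw [Complex.mul_conj, Complex.normSq_eq_norm_sq]
        push_cast
        rfl
      rw [h4]
      have h5 : (((2 : ℕ) : ℂ) ^ blockDefect 2 b * (((Nat.card (Cz z) : ℝ)⁻¹ * ∑ y : Cz z, ‖D 2 z b (χ : G → ℂ) y‖ ^ 2 : ℝ) : ℂ)) =
          (((2 : ℝ) ^ blockDefect 2 b * ((Nat.card (Cz z) : ℝ)⁻¹ * ∑ y : Cz z, ‖D 2 z b (χ : G → ℂ) y‖ ^ 2) : ℝ) : ℂ) := by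
        push_cast; ring
      rw [h5, Complex.ofReal_re]
      positivity
    exact_mod_cast h2
  have hne : ∀ χ ∈ fs B, m χ χ ≠ 0 := by
    intro χ hχ h
    have h1 := al_ne_zero hM hz hind hd (mem_fs.1 hχ) hχ₀ h0
    rw [hm] at h1
    apply h1
    have h2 := hsq χ χ₀
    rw [h, zero_mul] at h2
    have h3 : m χ χ₀ = 0 := by
      have := h2.symm
      simpa using this
    rw [h3]; simp
  have hpos : ∀ χ ∈ fs B, 1 ≤ m χ χ := fun χ hχ => by
    have h1 := hnn χ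
    have h2 := hne χ hχ
    omega
  have hodd : ¬ (2 : ℤ) ∣ m χ₀ χ₀ := by
    intro h
    apply al_unit hM (pow_of_orderOf hz) hind hd hχ₀ hχ₀ h0 h0
    rw [hm]
    exact (idl_intCast_iff hM _).2 (by exact_mod_cast h)
  have htr : ∑ χ ∈ fs B, m χ χ = 4 := by
    have h1 := al_trace hM hz hind
    simp only [hm] at h1
    rw [hd2, hl] at h1
    have h2 : ((∑ χ ∈ fs B, m χ χ : ℤ) : ℂ) = ((4 : ℤ) : ℂ) := by
      push_cast
      rw [h1]; norm_num
    exact_mod_cast h2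
  have hcard : (fs B).card = Nat.card B := card_fs B
  have hmem0 : χ₀ ∈ fs B := mem_fs.2 hχ₀
  have hsplit : m χ₀ χ₀ + ∑ χ ∈ (fs B).erase χ₀, m χ χ = 4 := by
    rw [← htr]; exact Finset.add_sum_erase (fs B) (fun χ => m χ χ) hmem0
  have hce : ((fs B).erase χ₀).card = Nat.card B - 1 := by
    rw [Finset.card_erase_of_mem hmem0, hcard]
  have hge : ∀ χ ∈ (fs B).erase χ₀, m χ χ + (((fs B).erase χ₀).card - 1 : ℕ) ≤ ∑ χ ∈ (fs B).erase χ₀, m χ χ := by
    intro χ hχ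
    rw [← Finset.add_sum_erase ((fs B).erase χ₀) (fun χ => m χ χ) hχ]
    have h1 : ((((fs B).erase χ₀).erase χ).card : ℤ) ≤ ∑ χ ∈ ((fs B).erase χ₀).erase χ, m χ χ := by
      rw [Finset.cast_card]
      refine Finset.sum_le_sum fun ψ hψ => ?_
      exact hpos ψ (Finset.mem_of_mem_erase (Finset.mem_of_mem_erase hψ))
    rw [Finset.card_erase_of_mem hχ] at h1
    linarith
  obtain ⟨χ₁, hχ₁⟩ : ((fs B).erase χ₀).Nonempty := by
    rw [← Finset.card_pos, hce]; omega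
  have h00 := hpos χ₀ hmem0
  have h11 := hpos χ₁ (Finset.mem_of_mem_erase hχ₁)
  have hle1 := hge χ₁ hχ₁
  have hm0 : m χ₀ χ₀ = 1 ∨ m χ₀ χ₀ = 3 := by omega
  rcases hm0 with h1 | h3
  · have hall : ∀ χ ∈ (fs B).erase χ₀, m χ χ = 1 := by
      intro χ hχ
      have e1 := hge χ hχ
      have e2 := hsq χ₀ χ
      rw [h1, one_mul] at e2
      have e3 := hpos χ (Finset.mem_of_mem_erase hχ)
      have e4 : m χ χ ≤ 3 := by omega
      have e5 : m χ₀ χ ≤ 1 := by nlinarith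
      have e6 : -1 ≤ m χ₀ χ := by nlinarith
      have e7 : m χ₀ χ = -1 ∨ m χ₀ χ = 0 ∨ m χ₀ χ = 1 := by omega
      rcases e7 with h | h | h <;> rw [h] at e2 <;> norm_num at e2 <;> omega
    rw [Finset.sum_congr rfl hall, h1] at hsplit
    simp at hsplit
    have : (((fs B).erase χ₀).card : ℤ) = 3 := by
      simp
      linarith
    omega
  · exfalso
    have e1 : m χ₁ χ₁ = 1 := by omega
    have e2 := hsq χ₀ χ₁
    rw [h3, e1] at e2
    have e5 : m χ₀ χ₁ ≤ 1 := by nlinarith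
    have e6 : -1 ≤ m χ₀ χ₁ := by nlinarith
    have e7 : m χ₀ χ₁ = -1 ∨ m χ₀ χ₁ = 0 ∨ m χ₀ χ₁ = 1 := by omega
    rcases e7 with h | h | h <;> rw [h] at e2 <;> norm_num at e2

end Cfsg.Agent.Lib.AbCount
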