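import Cfsg.Agent.Lib.AbAct
import Cfsg.Agent.Lib.AbCount3

/-!
# Free action: counts, modulo the rank of blocks with cyclic defect group (helper77)
-/

set_option autoImplicit false
set_option linter.all false

namespace Cfsg.Agent.Lib.AbSec

open Cfsg Cfsg.Agent.Lib.BlockRing Cfsg.Agent.Lib.BlockGA Cfsg.Agent.Lib.BlockIdem
open Cfsg.Agent.Lib.BlkIdem Cfsg.Agent.Lib.BlockAlg Cfsg.Agent.Lib.PairAlg Cfsg.Agent.Lib.PairMax
open Cfsg.Agent.Lib.BrauerPairs Cfsg.Agent.Lib.NormalPBlk Cfsg.Agent.Lib.DefPairs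
open Cfsg.Agent.Lib.BlkTransport Cfsg.Agent.Lib.BlkFus Cfsg.Agent.Lib.InducedPair
open Cfsg.Agent.Lib.PairCount
open Cfsg.Agent.Lib.AbFusion Cfsg.Agent.Lib.AbCount

universe u

variable {p : ℕ} [hp : Fact p.Prime] {M : Ideal AlgInt} [hMm : M.IsMaximal] [hchar : CharP (Kf M) p]
  {G : Type u} [Group G] [Finite G] {B : Set (IrrCharacter G)} {P : Subgroup G} {c : MonoidAlgebra (Kf M) G}

/-- the block of the centralizer -/
theorem AbMax_exists_block (h : AbMax p B P c) :
    IsInducedBlock M (Subgroup.centralizer (P : Set G)) (blkOf M (Subgroup.centralizer (P : Set G)) c) B ∧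
      bid M _ (blkOf M (Subgroup.centralizer (P : Set G)) c) = c := by
  obtain ⟨h1, h2⟩ := blkOf_spec h.pair.2
  refine ⟨?_, h2⟩
  rw [isInducedBlock_iff_br (p := p) rfl h.pair.1 h1 h.blk, h2]
  exact h.br

theorem counts_of_free (hM : IsPModular p M) (h : FreeMax p B P c)
    (hcycl : IsCyclic P → blockRank p B = ei P c) :
    Nat.card B ≤ ei P c + (Nat.card P - 1) / ei P c ∧ blockRank p B ≤ ei P c ∧
      (Nat.card B = ei P c + (Nat.card P - 1) / ei P c ↔ blockRank p B = ei P c) ∧
      (ei P c ≤ 3 → Nat.card B = ei P c + (Nat.card P - 1) / ei P c ∧ blockRank p B = ei P c) := by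
  obtain ⟨m, hm1, hem, hkl, hle, heq⟩ := free_main hM h
  have he0 : 0 < ei P c := Nat.pos_of_ne_zero (by
    intro h0
    rw [h0, zero_mul] at hem
    have := Subgroup.one_lt_card_iff_ne_bot P |>.2 h.ne
    omega)
  have hm : (Nat.card P - 1) / ei P c = m := by
    rw [← hem, Nat.mul_div_cancel_left _ he0]
  rw [hm]
  refine ⟨hle, by omega, by omega, fun he3 => ?_⟩
  have hP1 : 1 < Nat.card P := (Subgroup.one_lt_card_iff_ne_bot P).2 h.ne
  suffices hl : blockRank p B = ei P c by omega
  by_cases hexc : 3 ≤ m ∧ m ≤ ei P c + 1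
  · have hcard : Nat.card P = 7 ∨ Nat.card P = 10 ∨ Nat.card P = 13 := by
      obtain ⟨h1, h2⟩ := hexc
      have h3 : ei P c = 2 ∨ ei P c = 3 := by omega
      rcases h3 with h3 | h3
      · rw [h3] at hem h2
        left
        have : m = 3 := by omega
        subst this
        omega
      · rw [h3] at hem h2
        right
        have : m = 3 ∨ m = 4 := by omega
        rcases this with rfl | rfl
        · left; omega
        · right; omega
    rcases hcard with hc | hc | hc
    · haveI : Fact (Nat.Prime 7) := ⟨by norm_num⟩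
      exact hcycl (isCyclic_of_prime_card hc)
    · exfalso
      obtain ⟨k, hk⟩ := (IsPGroup.iff_card.1 h.max.pair.1)
      rw [hc] at hk
      have h2 : 2 ∣ p ^ k := ⟨5, by omega⟩
      have h5 : 5 ∣ p ^ k := ⟨2, by omega⟩
      have h2' := (Nat.prime_dvd_prime_iff_eq Nat.prime_two hp.out).1 (Nat.prime_two.dvd_of_dvd_pow h2)
      have h5' := (Nat.prime_dvd_prime_iff_eq Nat.prime_five hp.out).1 (Nat.prime_five.dvd_of_dvd_pow h5)
      omega
    · haveI : Fact (Nat.Prime 13) := ⟨by norm_num⟩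
      exact hcycl (isCyclic_of_prime_card hc)
  · have := heq he3 hexc
    omega

end Cfsg.Agent.Lib.AbSec
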