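import Cfsg.Agent.Lib.CycG11

set_option autoImplicit false
set_option linter.all false

/-!
# Blocks with cyclic defect group: at least `e` simple modules (helper78)
-/

namespace Cfsg.Agent.Lib.CycG12

open Cfsg Cfsg.Agent.Lib.BlockRing Cfsg.Agent.Lib.BlockGA Cfsg.Agent.Lib.BlockAlg
open Cfsg.Agent.Lib.BlkIdem Cfsg.Agent.Lib.PairAlg Cfsg.Agent.Lib.PairMax Cfsg.Agent.Lib.BrauerPairs
open Cfsg.Agent.Lib.CycG2 Cfsg.Agent.Lib.CycG3 Cfsg.Agent.Lib.CycG4 Cfsg.Agent.Lib.CycG5 Cfsg.Agent.Lib.CycG6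
open Cfsg.Agent.Lib.CycG7 Cfsg.Agent.Lib.CycG8 Cfsg.Agent.Lib.CycG9 Cfsg.Agent.Lib.AbCount Cfsg.Agent.Lib.CycG10
open Cfsg.Agent.Lib.CycG11 Cfsg.Agent.Lib.DefOneMod
open Cfsg.Agent.Lib.BlockIdem Cfsg.Agent.Lib.BrauerMap Cfsg.Agent.Lib.BlkTransport Cfsg.Agent.Lib.PairCount
open Module Cfsg.Agent.Lib.ModRep
open MonoidAlgebra (single)

universe u

section main

variable {p : ℕ} [hp : Fact p.Prime] {M : Ideal AlgInt} [hMm : M.IsMaximal] [hchar : CharP (Kf M) p]
  {G : Type u} [Group G] [Finite G] {B : Set (IrrCharacter G)} {P : Subgroup G} {c : MonoidAlgebra (Kf M) G}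

omit hp hchar in
/-- the action of an element of the subalgebra -/
theorem opT_inc {C T : Subgroup G} (CT : C ≤ T) {V : Type*} [AddCommGroup V] [Module (Kf M) V]
    (σ : T →* Module.End (Kf M) V) (z : MonoidAlgebra (Kf M) C) :
    opT σ (inc C z) = op (σ.comp (Subgroup.inclusion CT)) z := by
  classical
  have := Fintype.ofFinite T
  have := Fintype.ofFinite C
  have := Fintype.ofFinite G
  apply LinearMap.ext
  intro v
  rw [opT_apply, op_apply]
  let F : G → V := fun g => if hg : g ∈ T then (inc C z).coeff g • σ ⟨g, hg⟩ v else 0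
  have h3 : ∀ t : T, (inc C z).coeff (t : G) • σ t v = F t := fun t => by
    change _ = dite _ _ _
    rw [dif_pos t.2]
  have h4 : ∀ y : C, z.coeff y • (σ.comp (Subgroup.inclusion CT)) y v = F y := fun y => by
    change _ = dite _ _ _
    rw [dif_pos (CT y.2), inc_coeff_coe]; rfl
  rw [Finset.sum_congr rfl (fun t _ => h3 t), Finset.sum_congr rfl (fun y _ => h4 y)]
  rw [← Finset.sum_subtype (Finset.univ.filter (fun s : G => s ∈ T)) (p := fun s => s ∈ T) (by intro s; simp) F,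
    ← Finset.sum_subtype (Finset.univ.filter (fun s : G => s ∈ C)) (p := fun s => s ∈ C) (by intro s; simp) F]
  symm
  apply Finset.sum_subset
  · intro s hs
    rw [Finset.mem_filter] at hs ⊢
    exact ⟨hs.1, CT hs.2⟩
  · intro s hs hs'
    rw [Finset.mem_filter] at hs hs'
    have h5 : s ∉ C := fun h => hs' ⟨Finset.mem_univ _, h⟩
    change dite _ _ _ = _
    rw [dif_pos hs.2, inc_coeff_not_mem C z h5, zero_smul]

omit hp hchar in
/-- the trace element -/
theorem inc_zt {C T : Subgroup G} (CT : C ≤ T) {V : Type*} [AddCommGroup V] [Module (Kf M) V]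
    (σ : T →* Module.End (Kf M) V) {σ₀ : C →* Module.End (Kf M) V} (hσ : σ.comp (Subgroup.inclusion CT) = σ₀) :
    inc C (zt (trF σ₀)) = chE C σ CT := by
  apply ext_coeff
  intro g
  by_cases hg : g ∈ C
  · have h1 := inc_coeff_coe C (zt (trF σ₀)) ⟨g, hg⟩
    have h2 := chE_coeff CT σ ⟨g, hg⟩
    rw [h1, h2, zt_coeff, trF_apply, op_single, one_smul, ← hσ]
    rfl
  · rw [inc_coeff_not_mem C _ hg, chE_supp CT σ g hg]

omit hMm hchar [Finite G] in
/-- central elements of `p`-power order act trivially on irreducible representations in characteristic `p` -/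
theorem central_trivial {K : Type*} [Field K] [IsAlgClosed K] [CharP K p] {V : Type*} [AddCommGroup V] [Module K V]
    [FiniteDimensional K V] {ρ : G →* Module.End K V} (hρ : Irr ρ) {z : G} (hz : ∀ g, z * g = g * z) {k : ℕ}
    (hk : z ^ p ^ k = 1) : ρ z = 1 := by
  obtain ⟨s, hs⟩ := schur hρ (ρ z) (by
    intro g
    rw [← map_mul, ← map_mul, hz])
  have := hρ.nt
  have h1 : (ρ z) ^ p ^ k = 1 := by rw [← map_pow, hk, map_one]
  rw [hs, smul_pow, one_pow] at h1
  have h2 : s ^ p ^ k = 1 := by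
    have h3 : (s ^ p ^ k) • (1 : Module.End K V) = (1 : K) • 1 := by rw [h1, one_smul]
    exact smul_left_injective K (one_ne_zero (α := Module.End K V)) h3
  have h3 : (s - 1) ^ p ^ k = 0 := by
    rw [sub_pow_char_pow, one_pow, h2, sub_self]
  have h4 : s = 1 := by
    have := pow_eq_zero_iff (pow_ne_zero k hp.out.ne_zero) |>.1 h3
    exact sub_eq_zero.1 this
  rw [hs, h4, one_smul]

/-- **At least `e` simple modules.** -/
theorem le_rank_aux (hM : IsPModular p M) (h : AbMax p B P c) (hcyc : IsCyclic P) (hP1 : P ≠ ⊥) :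
    (Subgroup.centralizer (P : Set G)).relIndex (stab (Subgroup.normalizer (P : Set G)) c) ≤ blockRank p B := by
  classical
  haveI : IsAlgClosed (Kf M) := H25BpTw.isAlgClosed_Kf
  have := Fintype.ofFinite G
  obtain ⟨Q, hQ, hcQ, hQx⟩ := exists_Q h.pair.1 hcyc hP1
  have hQ1 : Q ≠ ⊥ := by
    rintro rfl
    rw [Subgroup.card_bot] at hcQ
    exact hp.out.one_lt.ne hcQ
  rw [← h.relIndex_eq hQ (cyclic_normalizes hcyc hQ) (fun t ht htQ => h.cyclic_free hcyc hQ hQ1 ht htQ)]
  set C := Subgroup.centralizer (Q : Set G) with hC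
  set f := pr p P c Q with hf
  set T := stab (Subgroup.normalizer (Q : Set G)) f with hT
  obtain ⟨x, q, n, σ₀, i, N, a, b, hq, hU, hL⟩ : ∃ (x : MonoidAlgebra (Kf M) C) (q n : ℕ)
      (σ : C →* Module.End (Kf M) (Fin n → Kf M)) (i : MonoidAlgebra (Kf M) G) (N : ℕ)
      (a b : Fin N → MonoidAlgebra (Kf M) G),
      1 ≤ q ∧ Uni (bidG M (bQ p P c Q)) x q σ ∧ Loc C T f (inc C x) i a b := exists_loc hM h hcyc hQ hQ1
  have hCT : C ≤ T := CT_le h hQ
  have hidx : ¬ p ∣ C.relIndex T := CT_idx h hcyc hQ hQ1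
  have hinc : inc C (bidG M (bQ p P c Q)) = f := inc_b h hQ
  have hblkf : IsBlk C f := (pr_pair h.pair hQ).2
  have hsepN := @sep_Q p _ G _ _ P h.pair.1 Q hQ hcQ hQx
  have hres : AbMax p (bQ p P c Q) (P.subgroupOf C) (BlockAlg.res C c) := h.resQ hQ
  have hnrm : (C.subgroupOf T).Normal := CT_normal
  have hTc : IsCyclic (T ⧸ C.subgroupOf T) := T_cyclic h hQ hcQ hnrm
  have hbrQ : br Q (bidG M B) * f = f :=
    ple_blk_down' hasBlocks (isBlk_bidG h.blk) (pr_spec h.pair hQ) (pr_pair h.pair hQ) h.br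
  have hdef : DefIn p T P f := defIn_loc h hQ hCT hnrm hidx
  have hTn : ∀ t ∈ T, cj t f = f := fun t ht => ht.2
  have hnl := hres.nilpotent hM (Nat.card C) le_rfl (by
    intro t ht x hx
    have h1 := (h.mem_stab_resQ hQ).1 ht
    have h2 := h.cyclic_free hcyc hQ hQ1 h1 t.2
    have h3 := Subgroup.mem_centralizer_iff.1 h2 (x : G) (Subgroup.mem_subgroupOf.1 hx)
    apply Subtype.ext
    change (t : G) * (x : G) * (t : G)⁻¹ = x
    rw [← h3]; group)
  have hQC : Q ≤ C := fun x hx => h.P_leQ hQ (hQ hx)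
  have hPT : P ≤ T := (h.P_leQ hQ).trans hCT
  have hQp : IsPGroup p Q := h.pair.1.to_le hQ
  have hff : f * f = f := hblkf.idem
  -- the representation of `N = C.subgroupOf T`
  let e₁ : C.subgroupOf T ≃* C := Subgroup.subgroupOfEquivOfLe hCT
  have he₁ : ∀ m : C.subgroupOf T, ((e₁ m : C) : G) = ((m : T) : G) := fun m => rfl
  let σN : C.subgroupOf T →* Module.End (Kf M) (Fin n → Kf M) := σ₀.comp e₁.toMonoidHom
  have hσN : Irr σN := irr_comp hU.irr e₁.toMonoidHom e₁.surjective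
  have hinv : ∀ g : T, ∃ A : (Fin n → Kf M) →ₗ[Kf M] (Fin n → Kf M),
      (∀ (m : C.subgroupOf T) v, A (σN m v) = σN (MulAut.conjNormal g m) (A v)) ∧ Function.Bijective A := by
    intro g
    let ψ : C ≃* C := (e₁.symm.trans (MulAut.conjNormal g)).trans e₁
    have hψ : ∀ y : C, ((ψ y : C) : G) = (g : G) * y * (g : G)⁻¹ := fun y => rfl
    let τ : C →* Module.End (Kf M) (Fin n → Kf M) := σ₀.comp ψ.toMonoidHom
    have hτ : Irr τ := irr_comp hU.irr ψ.toMonoidHom ψ.surjective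
    have hτf : op τ (bidG M (bQ p P c Q)) = 1 := by
      have := Fintype.ofFinite C
      rw [← hU.fσ]
      apply LinearMap.ext
      intro v
      rw [op_apply, op_apply]
      conv_rhs => rw [← Equiv.sum_comp ψ.toEquiv]
      refine Finset.sum_congr rfl fun y _ => ?_
      have h1 : (bidG M (bQ p P c Q)).coeff (ψ.toEquiv y) = (bidG M (bQ p P c Q)).coeff y := by
        rw [← inc_coeff_coe, ← inc_coeff_coe, hinc]
        have h2 := coeff_eq_of_eq (hTn g g.2) ((ψ.toEquiv y : C) : G)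
        rw [cj_coeff] at h2
        rw [← h2]
        congr 1
        change (g : G)⁻¹ * ((g : G) * y * (g : G)⁻¹) * (g : G) = y
        group
      rw [h1]
      rfl
    obtain ⟨A, hA, hAb⟩ := simple_unique hM hres.blk hnl.1 hU.irr hU.fσ hτ hτf
    refine ⟨A, ?_, hAb⟩
    intro m v
    exact hA (e₁ m) v
  obtain ⟨σ, hσr, hσne⟩ := extend_e hTc σN hσN hinv (by
    change ((C.relIndex T : ℕ) : Kf M) ≠ 0
    rw [Ne, CharP.cast_eq_zero_iff (Kf M) p]
    exact hidx)
  have hσ₀ : ∀ j, (σ j).comp (Subgroup.inclusion hCT) = σ₀ := by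
    intro j
    apply MonoidHom.ext
    intro y
    have := hσr j (e₁.symm y)
    change σ j ((e₁.symm y : C.subgroupOf T) : T) = σ₀ y
    rw [this]
    change σ₀ (e₁ (e₁.symm y)) = σ₀ y
    rw [e₁.apply_symm_apply]
  have hirr : ∀ j, Irr ((σ j).comp (Subgroup.inclusion hCT)) := fun j => by rw [hσ₀]; exact hU.irr
  have hoT : ∀ j (z : MonoidAlgebra (Kf M) C), opT (σ j) (inc C z) = op σ₀ z := fun j z => by
    rw [opT_inc hCT, hσ₀]
  have hxj : ∀ j, opT (σ j) (inc C x) = 0 := fun j => by rw [hoT, hU.op_x]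
  have hfj : ∀ j, opT (σ j) f = 1 := fun j => by rw [← hinc, hoT, hU.fσ]
  have hnt : Nontrivial (Fin n → Kf M) := hU.irr.nt
  have hQtriv : ∀ j, ∀ t : T, (t : G) ∈ Q → σ j t = 1 := by
    intro j t ht
    have h1 : σ j t = σ₀ ⟨t, hQC ht⟩ := by rw [← hσ₀ j]; rfl
    obtain ⟨k, hk⟩ := hQp ⟨(t : G), ht⟩
    rw [h1]
    apply central_trivial (p := p) hU.irr (k := k)
    · intro g
      apply Subtype.ext
      exact Subgroup.mem_centralizer_iff.1 g.2 (t : G) ht
    · have hk2 : (t : G) ^ p ^ k = 1 := by simpa using congrArg Subtype.val hk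
      exact Subtype.ext hk2
  have hbrj : ∀ j, opT (σ j) (br Q (bidG M B)) = 1 := by
    intro j
    have h1 := opT_mul (σ j) (br Q (bidG M B)) (suppAlg_mono hCT hblkf.mem.1 : f ∈ suppAlg (Kf M) T)
    rw [hbrQ, hfj, mul_one] at h1
    exact h1.symm
  have hblkB := isBlk_bidG (M := M) h.blk
  have hex : ∀ j, ∃ (m : ℕ) (ρ' : G →* Module.End (Kf M) (Fin m → Kf M)), Irr ρ' ∧ op ρ' (bidG M B) = 1 ∧
      HasN ρ' (σ j) := fun j =>
    exists_simple hQp (hQC.trans hCT) hQ1 (σ j) (hQtriv j) hblkB.idem hblkB.mem.2 (hbrj j)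
  choose m ρ hρ hρB hρN using hex
  -- the trace element
  obtain ⟨c', hc', hc't⟩ := exists_tr hPT h.pair.1 _ f (fun t ht => hTn t ht) hdef le_rfl
  have hsep : ∀ g ∉ T, (∀ x ∈ P, g⁻¹ * x * g ∈ P → x = 1) ∨ cj g f * f = 0 := by
    intro g hg
    by_cases hgN : g ∈ Subgroup.normalizer (Q : Set G)
    · right
      apply (isBlk_cj_of_normalizer hgN hblkf).orth hblkf
      intro heq
      exact hg ⟨hgN, heq⟩
    · left
      exact hsepN hgN
  obtain ⟨l, hl0, hl⟩ := hU.trace_form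
  have hmj : ∀ j, (inc C x) ^ q = l⁻¹ • chE C (σ j) hL.CT := by
    intro j
    rw [← inc_zt hCT (σ j) (hσ₀ j), hl, map_smul, smul_smul, inv_mul_cancel₀ hl0, one_smul, map_pow]
  have key := card_simple_le (p := p) hM h.blk ρ hρ (by
    intro i' j hij φ hφ
    by_contra hφ0
    have hbij := DefOneTrace.inter_bij (hρ i') (hρ j) hφ hφ0
    have hNi : HasN (ρ j) (σ i') := by
      have h1 := hasN_conj (LinearEquiv.ofBijective φ hbij) (hρN i')
      have h2 : conjRep (LinearEquiv.ofBijective φ hbij) (ρ i') = ρ j := by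
        apply MonoidHom.ext
        intro g
        apply LinearMap.ext
        intro w
        obtain ⟨v, rfl⟩ := hbij.2 w
        change φ (ρ i' g ((LinearEquiv.ofBijective φ hbij).symm (LinearEquiv.ofBijective φ hbij v))) = _
        rw [LinearEquiv.symm_apply_apply, hφ]
      rw [h2] at h1
      exact h1
    obtain ⟨ψ, hψ, hψ0⟩ := hL.unique hPT hc' hc't hff hsep (ρ j) (hρ j) (σ j) (σ i') (hirr j) (hxj j) (hxj i')
      (hfj j) (hfj i') (hmj j) (hρN j) hNi
    exact hψ0 (hσne i' j hij ψ hψ)) hρB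
  rw [Fintype.card_fin] at key
  exact key

end main

end Cfsg.Agent.Lib.CycG12
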