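import Cfsg.Agent.Lib.AbCyc0
import Cfsg.Agent.Lib.CycG12

/-!
# Blocks with cyclic defect group: the rank is the inertial index (helper77)
-/

set_option autoImplicit false
set_option linter.all false

namespace Cfsg.Agent.Lib.AbSec

open Cfsg Cfsg.Agent.Lib.BlockRing Cfsg.Agent.Lib.BlockGA Cfsg.Agent.Lib.BlockIdem
open Cfsg.Agent.Lib.BlkIdem Cfsg.Agent.Lib.BlockAlg Cfsg.Agent.Lib.PairAlg Cfsg.Agent.Lib.PairMax
open Cfsg.Agent.Lib.BrauerPairs Cfsg.Agent.Lib.NormalPBlk Cfsg.Agent.Lib.DefPairs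
open Cfsg.Agent.Lib.BlkTransport Cfsg.Agent.Lib.BlkFus Cfsg.Agent.Lib.InducedPair
open Cfsg.Agent.Lib.PairCount
open Cfsg.Agent.Lib.AbFusion Cfsg.Agent.Lib.AbCount

universe u

variable {p : ℕ} [hp : Fact p.Prime] {M : Ideal AlgInt} [hMm : M.IsMaximal] [hchar : CharP (Kf M) p]
  {G : Type u} [Group G] [Finite G] {B : Set (IrrCharacter G)} {P : Subgroup G} {c : MonoidAlgebra (Kf M) G}

theorem rank_cyclic (hM : IsPModular p M) (h : AbMax p B P c) (hP : P ≠ ⊥) (hcyc : IsCyclic P) :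
    blockRank p B = ei P c := by
  obtain ⟨m, hm1, -, hkl, hle, -⟩ := free_main hM (free_of_cyclic h hP hcyc)
  have h1 : ei P c ≤ blockRank p B := CycG12.le_rank_aux hM h hcyc hP
  omega

end Cfsg.Agent.Lib.AbSec
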