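import Cfsg.Agent.Lib.AbPim6
import Mathlib.RingTheory.Idempotents

/-!
# Blocks whose characters have equal degrees: one simple module (helper77)
-/

set_option autoImplicit false
set_option linter.all false
set_option synthInstance.maxHeartbeats 400000

namespace Cfsg.Agent.Lib.AbPim

open Cfsg Cfsg.Agent.Lib.BlockRing Cfsg.Agent.Lib.BlockGA Cfsg.Agent.Lib.BlockIdem
open Cfsg.Agent.Lib.BlockAlg Cfsg.Agent.Lib.CharBasic Cfsg.Agent.Lib.H76Alg
open Cfsg.Agent.Lib.BlockPair Cfsg.Agent.Lib.BlockCount Cfsg.Agent.Lib.BlockSecond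
open Cfsg.Agent.Lib.H76BDim
open MonoidAlgebra (single)
open scoped ComplexConjugate

universe u

variable {G : Type u} [Group G] [Finite G] {M : Ideal AlgInt} [hMm : M.IsMaximal] {B : Set (IrrCharacter G)}
  {p : ℕ} {hB : IsPBlock M B}

/-- the complement of a block idempotent element -/
theorem BId.compl {E : GA G} (hB : IsPBlock M B) (h : BId M B E) : BId M B (BlockGA.eB B - E) := by
  haveI := hMm.isPrime
  have hc := center_comm (eB_mem_center B) E
  have h1 : E * BlockGA.eB B = E := by rw [← hc, h.le]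
  refine ⟨locA_sub (locA_eB hB) h.loc, ?_, ?_⟩
  · rw [mul_sub, sub_mul, sub_mul, eB_mul_self, h.le, h1, h.idem]
    abel
  · rw [mul_sub, eB_mul_self, h.le]

theorem im_compl {E : GA G} (hB : IsPBlock M B) (h : BId M B E) : im hB (eB B - E) = 1 - im hB E := by
  haveI := hMm.isPrime
  rw [← im_eB (hB := hB), im, im, im, redA_sub (locA_eB hB) h.loc, map_sub]

/-- no proper union of components is orthogonal to its complement -/
theorem PD.connected (P : PD hB) (i j : Fin P.n) (hij : i ≠ j)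
    (horth : ∀ l, l ≠ i → ∑ χ : IrrCharacter G, lin (χ : G → ℂ) (P.F i) * lin (χ : G → ℂ) (P.F l) = 0) : False := by
  classical
  haveI := hMm.isPrime
  haveI := P.hd
  obtain ⟨ε, hε, hεφ⟩ := exists_isIdempotentElem_eq_of_ker_isNilpotent (P.φ : _ →+* _)
    (fun x hx => P.hn x ((RingHom.mem_ker).1 hx))
    (Pi.single i 1 : ∀ i, Matrix (Fin (P.d i)) (Fin (P.d i)) (Kf M)) (by
      obtain ⟨a, ha⟩ := P.hs (Pi.single i 1)
      exact ⟨a, ha⟩) (by
      show Pi.single i 1 * Pi.single i 1 = Pi.single i 1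
      rw [← Pi.single_mul, mul_one])
  have hεφ' : P.φ ε = Pi.single i 1 := hεφ
  obtain ⟨E, hE, hEε⟩ := exists_lift (hB := hB) ε hε
  have hE' := hE.compl hB
  have hEε' : im hB (eB B - E) = 1 - ε := by rw [im_compl hB hE, hEε]
  have hr : ∀ l, l ≠ i → P.r E l = 0 := by
    intro l hl
    show rk P.φ (im hB E) l = 0
    apply rk_zero
    rw [hEε, hεφ', Pi.single_eq_of_ne hl]
  have hr' : P.r (eB B - E) i = 0 := by
    show rk P.φ (im hB (eB B - E)) i = 0
    apply rk_zero
    rw [hEε', map_sub, map_one, hεφ', Pi.sub_apply, Pi.single_eq_same, Pi.one_apply, sub_self]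
  have hsum : ∑ χ : IrrCharacter G, lin (χ : G → ℂ) E * lin (χ : G → ℂ) (eB B - E) = 0 := by
    have h1 : ∀ χ : IrrCharacter G, lin (χ : G → ℂ) E * lin (χ : G → ℂ) (eB B - E) =
        ∑ l, (P.r E i : ℂ) * (P.r (eB B - E) l : ℂ) *
          (lin (χ : G → ℂ) (P.F i) * lin (χ : G → ℂ) (P.F l)) := by
      intro χ
      rw [P.lin_eq hE χ, P.lin_eq hE' χ, Finset.sum_eq_single i, Finset.mul_sum]
      · exact Finset.sum_congr rfl fun l _ => by ring
      · intro l _ hl
        rw [hr l hl, Nat.cast_zero, zero_mul]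
      · intro h; exact absurd (Finset.mem_univ _) h
    rw [Finset.sum_congr rfl fun χ _ => h1 χ, Finset.sum_comm]
    apply Finset.sum_eq_zero
    intro l _
    rw [← Finset.mul_sum]
    by_cases hl : l = i
    · rw [hl, hr', Nat.cast_zero, mul_zero, zero_mul]
    · rw [horth l hl, mul_zero]
  have h0 : ∀ {e f : Cor (Kf M) (bI hB)}, e * e = e → f * f = f → Module.finrank (Kf M) (PW (Kf M) e f) = 0 →
      ∀ a, e * a * f = 0 := by
    intro e f he hf h a
    have h2 : PW (Kf M) e f = ⊥ := Submodule.finrank_eq_zero.1 h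
    have h3 := mul_mem_PW he hf a (K := Kf M)
    rw [h2] at h3
    exact (Submodule.mem_bot _).1 h3
  have hεε : ε * ε = ε := hε
  have h1ε : (1 - ε) * (1 - ε) = 1 - ε := one_sub_idem hεε
  have hA : ∀ a, ε * a * (1 - ε) = 0 := by
    apply h0 hεε h1ε
    have h1 := pairing hB hE hE'
    rw [hsum, hEε, hEε'] at h1
    exact_mod_cast h1
  have hB' : ∀ a, (1 - ε) * a * ε = 0 := by
    apply h0 h1ε hεε
    have h1 := pairing hB hE' hE
    rw [Finset.sum_congr rfl fun χ _ => mul_comm _ _, hsum, hEε, hEε'] at h1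
    exact_mod_cast h1
  have hcen : ∀ a, ε * a = a * ε := by
    intro a
    have h1 := hA a
    have h2 := hB' a
    rw [mul_sub, mul_one, sub_eq_zero] at h1
    rw [sub_mul, one_mul, sub_mul, sub_eq_zero] at h2
    rw [h1, h2]
  obtain ⟨c, hc⟩ := centre_local hB ε hcen
  have h2 : IsNilpotent (P.φ (ε - c • 1)) := hc.map P.φ
  rw [map_sub, map_smul, map_one, hεφ'] at h2
  obtain ⟨m, hm⟩ := h2
  have h3 := congrFun hm i
  have h4 := congrFun hm j
  rw [Pi.pow_apply, Pi.sub_apply, Pi.single_eq_same, Pi.smul_apply, Pi.one_apply, Pi.zero_apply] at h3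
  rw [Pi.pow_apply, Pi.sub_apply, Pi.single_eq_of_ne hij.symm, Pi.smul_apply, Pi.one_apply, Pi.zero_apply] at h4
  have h5 : ((1 : Kf M) - c) ^ m = 0 := by
    have h6 : (1 : Matrix (Fin (P.d i)) (Fin (P.d i)) (Kf M)) - c • 1 = (1 - c) • 1 := by rw [sub_smul, one_smul]
    rw [h6, smul_pow, one_pow] at h3
    have h7 := congrFun (congrFun h3 0) 0
    rw [Matrix.smul_apply, Matrix.one_apply_eq, smul_eq_mul, mul_one] at h7
    exact h7
  have h6 : (-c) ^ m = 0 := by
    have h7 : (0 : Matrix (Fin (P.d j)) (Fin (P.d j)) (Kf M)) - c • 1 = (-c) • 1 := by rw [zero_sub, neg_smul]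
    rw [h7, smul_pow, one_pow] at h4
    have h8 := congrFun (congrFun h4 0) 0
    rw [Matrix.smul_apply, Matrix.one_apply_eq, smul_eq_mul, mul_one] at h8
    exact h8
  have h8 : (1 : Kf M) - c = 0 := eq_zero_of_pow_eq_zero h5
  have h9 : -c = 0 := eq_zero_of_pow_eq_zero h6
  rw [neg_eq_zero] at h9
  rw [h9, sub_zero] at h8
  exact one_ne_zero h8

/-- **Equal degrees: one projective indecomposable, with all multiplicities one.** -/
theorem PD.equal_degrees (hM : IsPModular p M) (P : PD hB) {n : ℕ} (hn : ∀ χ ∈ B, charDegree (χ : G → ℂ) = n) :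
    ∃ i : Fin P.n, (∀ j, j = i) ∧ P.d i = n ∧ ∀ χ ∈ B, lin (χ : G → ℂ) (P.F i) = 1 := by
  classical
  obtain ⟨χ₀, hχ₀⟩ := isPBlock_nonempty hB
  have hn0 : n ≠ 0 := by
    rw [← hn χ₀ hχ₀]
    exact (DefectZero.charDegree_pos χ₀.2).ne'
  have hn0' : (n : ℂ) ≠ 0 := Nat.cast_ne_zero.2 hn0
  choose X hX using P.dvd_d hM hn0 (fun χ hχ => by rw [hn χ hχ])
  choose m hm using fun (χ : IrrCharacter G) (j : Fin P.n) => lin_nat (P.hF j).idem χ
  have hX0 : ∀ j, 1 ≤ X j := by
    intro j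
    haveI := P.hd j
    rw [Nat.one_le_iff_ne_zero]
    intro h
    have h1 := hX j
    rw [h, mul_zero] at h1
    exact NeZero.ne (P.d j) h1
  have hsum : ∀ χ ∈ B, ∑ j, X j * m χ j = 1 := by
    intro χ hχ
    have h1 := P.deg hχ
    rw [deg_cast, hn χ hχ] at h1
    have h2 : (n : ℂ) * ((∑ j, X j * m χ j : ℕ) : ℂ) = n * 1 := by
      rw [mul_one]
      refine Eq.trans ?_ h1.symm
      push_cast
      rw [Finset.mul_sum]
      refine Finset.sum_congr rfl fun j _ => ?_
      rw [hX, hm]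
      push_cast
      ring
    exact_mod_cast mul_left_cancel₀ hn0' h2
  have hex : ∀ χ ∈ B, ∃ i, X i = 1 ∧ m χ i = 1 ∧ ∀ j, j ≠ i → m χ j = 0 := by
    intro χ hχ
    have h1 := hsum χ hχ
    have h2 : ∃ i, X i * m χ i ≠ 0 := by
      by_contra hcon
      push Not at hcon
      rw [Finset.sum_eq_zero fun j _ => hcon j] at h1
      exact absurd h1 (by norm_num)
    obtain ⟨i, hi⟩ := h2
    have h3 : X i * m χ i ≤ 1 := by
      rw [← h1]
      exact Finset.single_le_sum (f := fun j => X j * m χ j) (fun _ _ => Nat.zero_le _) (Finset.mem_univ i)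
    have h4 : X i * m χ i = 1 := by omega
    refine ⟨i, Nat.eq_one_of_mul_eq_one_right h4, Nat.eq_one_of_mul_eq_one_left h4, ?_⟩
    intro j hj
    have h5 : X i * m χ i + X j * m χ j ≤ 1 := by
      rw [← h1]
      have h6 := Finset.add_le_sum (s := Finset.univ) (f := fun j => X j * m χ j) (fun _ _ => Nat.zero_le _)
        (Finset.mem_univ i) (Finset.mem_univ j) hj.symm
      exact h6
    have h6 : X j * m χ j = 0 := by omega
    exact (Nat.mul_eq_zero.1 h6).resolve_left (by have := hX0 j; omega)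
  obtain ⟨i, hi1, hi2, hi3⟩ := hex χ₀ hχ₀
  have huniq : ∀ j, j = i := by
    intro j
    by_contra hij
    refine P.connected i j (Ne.symm hij) ?_
    intro l hl
    apply Finset.sum_eq_zero
    intro χ _
    by_cases hχ : χ ∈ B
    · obtain ⟨i', -, -, h3⟩ := hex χ hχ
      by_cases h : l = i'
      · rw [hm χ i, h3 i (by rw [← h]; exact hl.symm), Nat.cast_zero, zero_mul]
      · rw [hm χ l, h3 l h, Nat.cast_zero, mul_zero]
    · rw [(P.hF i).lin_eq_zero hχ, zero_mul]
  refine ⟨i, huniq, ?_, ?_⟩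
  · rw [hX, hi1, mul_one]
  · intro χ hχ
    obtain ⟨i', -, h2, -⟩ := hex χ hχ
    rw [huniq i'] at h2
    rw [hm, h2, Nat.cast_one]

end Cfsg.Agent.Lib.AbPim
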