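import Cfsg.Agent.Lib.AbEq1

/-!
# Blocks whose characters have equal degrees: self-duality of the lattice of values (helper77)
-/

set_option autoImplicit false
set_option linter.all false
set_option synthInstance.maxHeartbeats 400000

namespace Cfsg.Agent.Lib.AbPim

open Cfsg Cfsg.Agent.Lib.BlockRing Cfsg.Agent.Lib.BlockGA Cfsg.Agent.Lib.BlockIdem
open Cfsg.Agent.Lib.BlockAlg Cfsg.Agent.Lib.CharBasic Cfsg.Agent.Lib.H76Alg
open Cfsg.Agent.Lib.BlockPair Cfsg.Agent.Lib.BlockCount Cfsg.Agent.Lib.BlockSecond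
open Cfsg.Agent.Lib.H76BDim
open MonoidAlgebra (single)
open scoped ComplexConjugate

universe u

section mat

theorem single_triple {k : Type*} [Field k] {f : ℕ} [NeZero f] (a : Fin f) :
    (Matrix.single a 0 1 : Matrix (Fin f) (Fin f) k) * Matrix.single 0 0 1 * Matrix.single 0 a 1 = Matrix.single a a 1 := by
  rw [Matrix.single_mul_single_same, Matrix.single_mul_single_same, mul_one, mul_one]

variable {M : Ideal AlgInt} [hMm : M.IsMaximal]

theorem inv_loc {ι : Type*} [Fintype ι] [DecidableEq ι] (T : Matrix ι ι ℂ) (h : ∀ i j, MemLocalRing M (T i j))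
    (h1 : (Matrix.of fun i j => red M (T i j)).det ≠ 0) : T.det ≠ 0 ∧ ∀ i j, MemLocalRing M (T⁻¹ i j) := by
  haveI := hMm.isPrime
  let T' : Matrix ι ι (locS M) := Matrix.of fun i j => ⟨T i j, h i j⟩
  have h2 : T'.map (locS M).subtype = T := by
    ext i j
    rfl
  have h3 : T'.map (redH M) = Matrix.of fun i j => red M (T i j) := by
    ext i j
    rfl
  have h4 : (T'.det : ℂ) = T.det := by
    rw [← h2]
    exact RingHom.map_det (locS M).subtype T'
  have h5 : redH M T'.det ≠ 0 := by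
    have := RingHom.map_det (redH M) T'
    rw [this]
    show (T'.map (redH M)).det ≠ 0
    rw [h3]
    exact h1
  have h6 : red M T.det ≠ 0 := by
    rw [← h4]
    exact h5
  have hl : MemLocalRing M T.det := by
    rw [← h4]
    exact T'.det.2
  have h7 : ¬ MemLocalIdeal M T.det := fun h8 => h6 (red_eq_zero h8)
  have h8 : T.det ≠ 0 := ne_zero_of_not_idl h7
  refine ⟨h8, fun i j => ?_⟩
  rw [Matrix.inv_def, Matrix.smul_apply, smul_eq_mul, Ring.inverse_eq_inv']
  apply loc_mul (loc_inv hl h7)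
  have h9 : T.adjugate = T'.adjugate.map (locS M).subtype := by
    rw [← h2]
    exact (RingHom.map_adjugate (locS M).subtype T').symm
  rw [h9]
  exact (T'.adjugate i j).2

end mat

variable {G : Type u} [Group G] [Finite G] {M : Ideal AlgInt} [hMm : M.IsMaximal] {B : Set (IrrCharacter G)}
  {p : ℕ} {hB : IsPBlock M B}

/-- the idempotent is full when there is only one component -/
theorem PD.full (P : PD hB) {i : Fin P.n} (hi : ∀ j, j = i) {z : MonoidAlgebra (Kf M) G}
    (hz : z ∈ ZW (Kf M) (redA M (eB B))) (h : z * redA M (P.F i) = 0) : z = 0 := by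
  classical
  haveI := P.hd
  choose r hr using fun a : Fin (P.d i) => P.hs (Pi.single i (Matrix.single a 0 1))
  choose s hs using fun a : Fin (P.d i) => P.hs (Pi.single i (Matrix.single 0 a 1))
  obtain ⟨u, hu⟩ : ∃ u, u = ∑ a, r a * im hB (P.F i) * s a := ⟨_, rfl⟩
  have hφu : P.φ u = 1 := by
    rw [hu, map_sum]
    have h1 : ∀ a, P.φ (r a * im hB (P.F i) * s a) = Pi.single i (Matrix.single a a 1) := by
      intro a
      have h2 := single_triple (k := Kf M) a
      rw [map_mul, map_mul, hr, hs, P.hg, ← Pi.single_mul, ← Pi.single_mul, h2]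
    rw [Finset.sum_congr rfl fun a _ => h1 a]
    funext j
    obtain rfl := hi j
    rw [Finset.sum_apply, Pi.one_apply]
    ext x y
    rw [Matrix.sum_apply]
    simp only [Pi.single_eq_same]
    rw [Matrix.one_apply]
    split_ifs with hxy
    · subst hxy
      rw [Finset.sum_eq_single x]
      · rw [Matrix.single_apply_same]
      · intro b _ hb
        rw [Matrix.single_apply_of_ne]
        rintro ⟨rfl, -⟩
        exact hb rfl
      · intro h; exact absurd (Finset.mem_univ _) h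
    · apply Finset.sum_eq_zero
      intro b _
      rw [Matrix.single_apply_of_ne]
      rintro ⟨rfl, rfl⟩
      exact hxy rfl
  have hunit : IsUnit u := by
    have h1 : IsNilpotent (u - 1) := P.hn _ (by rw [map_sub, hφu, map_one, sub_self])
    have h2 := h1.isUnit_one_add
    rwa [add_sub_cancel] at h2
  have hzz : inc (prj z : Cor (Kf M) (bI hB)) = z := by
    rw [inc_prj, bI_e, hz.2, ← hz.1, hz.2]
  have hz0 : (prj z : Cor (Kf M) (bI hB)) * im hB (P.F i) = 0 := by
    apply inc_inj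
    rw [inc_mul, hzz, inc_im hB (P.hF i), h, map_zero]
  have hzc : ∀ a : Cor (Kf M) (bI hB), prj z * a = a * prj z := by
    intro a
    apply inc_inj
    rw [inc_mul, inc_mul, hzz, hz.1]
  have hzu : (prj z : Cor (Kf M) (bI hB)) * u = 0 := by
    rw [hu, Finset.mul_sum]
    apply Finset.sum_eq_zero
    intro a _
    rw [← mul_assoc, ← mul_assoc, hzc (r a), mul_assoc (r a), hz0, mul_zero, zero_mul]
  have h1 : (prj z : Cor (Kf M) (bI hB)) = 0 := (hunit.mul_left_eq_zero).1 hzu
  rw [← hzz, h1, map_zero]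

theorem sum_B [Fintype B] {f : IrrCharacter G → ℂ} (hf : ∀ χ, χ ∉ B → f χ = 0) :
    ∑ χ : IrrCharacter G, f χ = ∑ χ : B, f χ := by
  classical
  rw [Finset.sum_set_coe B]
  symm
  apply Finset.sum_subset (Finset.subset_univ _)
  intro χ _ h
  exact hf χ (fun h1 => h (Set.mem_toFinset.2 h1))

/-- **Self-duality.** -/
theorem PD.lattice (hM : IsPModular p M) (P : PD hB) {n : ℕ} (hn : ∀ χ ∈ B, charDegree (χ : G → ℂ) = n)
    {y y' : GA G} (hy : LocA M y) (hy' : LocA M y') (hyB : ∀ χ : IrrCharacter G, χ ∉ B → lin (χ : G → ℂ) y = 0) :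
    MemLocalRing M ((n : ℂ) / (Nat.card G : ℂ) * ∑ χ : IrrCharacter G, lin (χ : G → ℂ) y *
      lin (χ : G → ℂ) y') := by
  classical
  haveI := hMm.isPrime
  obtain ⟨i, hi, hd, hF⟩ := P.equal_degrees hM hn
  obtain ⟨F, hFdef⟩ : ∃ F, F = P.F i := ⟨_, rfl⟩
  have hFB : BId M B F := by rw [hFdef]; exact P.hF i
  rw [← hFdef] at hF
  haveI : Fintype B := Fintype.ofFinite _
  have hn0 : n ≠ 0 := by
    obtain ⟨χ₀, hχ₀⟩ := isPBlock_nonempty hB
    rw [← hn χ₀ hχ₀]
    exact (DefectZero.charDegree_pos χ₀.2).ne'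
  have hG0 : (Nat.card G : ℂ) ≠ 0 := Nat.cast_ne_zero.2 Nat.card_pos.ne'
  obtain ⟨c, hc⟩ : ∃ c : ℂ, c = (n : ℂ) / (Nat.card G : ℂ) := ⟨_, rfl⟩
  have hc0 : c ≠ 0 := by
    rw [hc]
    exact div_ne_zero (Nat.cast_ne_zero.2 hn0) hG0
  -- the coefficient at 1
  have hco : ∀ w : GA G, (∀ χ : IrrCharacter G, χ ∉ B → lin (χ : G → ℂ) w = 0) →
      w.coeff 1 = c * ∑ χ : B, lin ((χ : IrrCharacter G) : G → ℂ) w := by
    intro w hw
    have h1 := sum_lin w
    have h2 : ∑ χ : IrrCharacter G, (χ : G → ℂ) 1 * lin (χ : G → ℂ) w =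
        (n : ℂ) * ∑ χ : B, lin ((χ : IrrCharacter G) : G → ℂ) w := by
      rw [sum_B (B := B) (fun χ hχ => by rw [hw χ hχ, mul_zero]), Finset.mul_sum]
      refine Finset.sum_congr rfl fun χ _ => ?_
      rw [deg_cast, hn χ.1 χ.2]
    rw [h2] at h1
    have h3 : w.coeff 1 = (Nat.card G : ℂ)⁻¹ * ((Nat.card G : ℂ) * w.coeff 1) := by
      rw [← mul_assoc, inv_mul_cancel₀ hG0, one_mul]
    rw [h3, ← h1, hc]
    ring
  -- a basis of the centre
  obtain ⟨b⟩ : Nonempty (Module.Basis B (Kf M) (ZW (Kf M) (redA M (eB B)))) := by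
    have h1 := Module.finBasisOfFinrankEq (Kf M) (ZW (Kf M) (redA M (eB B))) (finrank_ZW_block hB)
    exact ⟨h1.reindex (Finite.equivFin B).symm⟩
  have hlift : ∀ χ : B, ∃ z : GA G, z ∈ Subalgebra.center ℂ (GA G) ∧ LocA M z ∧
      redA M z = (b χ : MonoidAlgebra (Kf M) G) ∧ eB B * z = z := by
    intro χ
    have hu := (b χ).2
    have hcu : lftA (b χ : MonoidAlgebra (Kf M) G) ∈ Subalgebra.center ℂ (GA G) :=
      lftA_center (fun g h => central_iff.mp hu.1 g h)
    refine ⟨eB B * lftA (b χ : MonoidAlgebra (Kf M) G), ?_, locA_mul (locA_eB hB) (locA_lftA _), ?_, ?_⟩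
    · exact Subalgebra.mul_mem _ (eB_mem_center B) hcu
    · rw [redA_mul (locA_eB hB) (locA_lftA _), redA_lftA]
      exact hu.2
    · rw [← mul_assoc, eB_mul_self]
  choose z hzc hzl hzr hzB using hlift
  have hom0 : ∀ (i : B) (χ : IrrCharacter G), χ ∉ B → omega (χ : G → ℂ) (z i) = 0 := by
    intro i χ hχ
    rw [← hzB, omega_mul χ.2 (eB_mem_center B), omega_eB_not_mem hχ, zero_mul]
  obtain ⟨W, hW⟩ : ∃ W : Matrix B B ℂ, W = Matrix.of fun i (χ : B) => omega ((χ : IrrCharacter G) : G → ℂ) (z i) := ⟨_, rfl⟩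
  obtain ⟨T, hT⟩ : ∃ T : Matrix B B ℂ, T = c • (W * W.transpose) := ⟨_, rfl⟩
  have hTe : ∀ i j, T i j = (z i * z j * F).coeff 1 := by
    intro i j
    rw [hco _ (by
      intro χ hχ
      rw [mul_assoc, lin_mul χ.2 (hzc i), hom0 i χ hχ, zero_mul]), hT, Matrix.smul_apply, Matrix.mul_apply, smul_eq_mul]
    congr 1
    refine Finset.sum_congr rfl fun χ _ => ?_
    rw [Matrix.transpose_apply, hW, Matrix.of_apply, Matrix.of_apply, mul_assoc, lin_mul χ.1.2 (hzc i),
      lin_mul χ.1.2 (hzc j), hF χ.1 χ.2, mul_one]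
  have hTl : ∀ i j, MemLocalRing M (T i j) := by
    intro i j
    rw [hTe]
    exact locA_mul (locA_mul (hzl i) (hzl j)) hFB.loc 1
  have hFbar := red_idem hFB.loc hFB.idem
  have hFe : redA M (eB B) * redA M F = redA M F := by rw [← redA_mul (locA_eB hB) hFB.loc, hFB.le]
  -- the corner is the image of the centre
  have hPW : ∀ a ∈ PW (Kf M) (redA M F) (redA M F), ∃ x : ZW (Kf M) (redA M (eB B)),
      (x : MonoidAlgebra (Kf M) G) * redA M F = a := by
    have hL : ∃ L : ZW (Kf M) (redA M (eB B)) →ₗ[Kf M] MonoidAlgebra (Kf M) G,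
        ∀ x, L x = (x : MonoidAlgebra (Kf M) G) * redA M F :=
      ⟨(LinearMap.mulRight (Kf M) (redA M F)) ∘ₗ (ZW (Kf M) (redA M (eB B))).subtype, fun x => rfl⟩
    obtain ⟨L, hL⟩ := hL
    have hinj : Function.Injective L := by
      rw [← LinearMap.ker_eq_bot, LinearMap.ker_eq_bot']
      intro x hx
      apply Subtype.ext
      apply P.full hi x.2
      rw [← hFdef, ← hL, hx]
    have hle : LinearMap.range L ≤ PW (Kf M) (redA M F) (redA M F) := by
      rintro _ ⟨x, rfl⟩
      rw [hL]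
      refine ⟨?_, ?_⟩
      · rw [← mul_assoc, x.2.1, mul_assoc, hFbar]
      · rw [mul_assoc, hFbar]
    have hdim : Module.finrank (Kf M) (PW (Kf M) (redA M F) (redA M F)) = Nat.card B := by
      have h1 := H76BDim.finrank_PW hFB.loc hFB.loc hFB.idem hFB.idem
      have h2 := finrank_PW_complex hFB.idem hFB.idem
      rw [← h1] at h2
      rw [sum_B (B := B) (fun χ hχ => by rw [hFB.lin_eq_zero hχ, mul_zero]),
        Finset.sum_congr rfl fun χ _ => by rw [hF χ.1 χ.2]] at h2
      rw [Finset.sum_const, Finset.card_univ, mul_one, nsmul_eq_mul, mul_one, ← Nat.card_eq_fintype_card] at h2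
      exact_mod_cast h2
    have heq : LinearMap.range L = PW (Kf M) (redA M F) (redA M F) := by
      apply Submodule.eq_of_le_of_finrank_eq hle
      rw [LinearMap.finrank_range_of_inj hinj, finrank_ZW_block hB, hdim]
    intro a ha
    rw [← heq] at ha
    obtain ⟨x, hx⟩ := ha
    exact ⟨x, by rw [← hL, hx]⟩
  have hTd : (Matrix.of fun i j => red M (T i j)).det ≠ 0 := by
    intro h0
    obtain ⟨v, hv0, hv⟩ := Matrix.exists_vecMul_eq_zero_iff.2 h0
    obtain ⟨w, hw⟩ : ∃ w : ZW (Kf M) (redA M (eB B)), w = ∑ i, v i • b i := ⟨_, rfl⟩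
    have h1 : ∀ x : ZW (Kf M) (redA M (eB B)),
        c1 (Kf M) G ((w : MonoidAlgebra (Kf M) G) * (x : MonoidAlgebra (Kf M) G) * redA M F) = 0 := by
      have h2 : ∀ j, c1 (Kf M) G ((w : MonoidAlgebra (Kf M) G) * (b j : MonoidAlgebra (Kf M) G) * redA M F) = 0 := by
        intro j
        have h3 := congrFun hv j
        rw [Matrix.vecMul, dotProduct] at h3
        rw [hw]
        push_cast
        rw [Finset.sum_mul, Finset.sum_mul, map_sum]
        rw [Pi.zero_apply] at h3
        rw [← h3]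
        refine Finset.sum_congr rfl fun i _ => ?_
        rw [Matrix.of_apply, hTe, smul_mul_assoc, smul_mul_assoc, map_smul, smul_eq_mul]
        congr 1
        rw [← hzr, ← hzr, ← redA_mul (hzl i) (hzl j), ← redA_mul (locA_mul (hzl i) (hzl j)) hFB.loc]
        rfl
      intro x
      rw [← b.sum_repr x]
      push_cast
      rw [Finset.mul_sum, Finset.sum_mul, map_sum]
      apply Finset.sum_eq_zero
      intro i _
      rw [mul_smul_comm, smul_mul_assoc, map_smul, h2, smul_zero]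
    have h2 : (w : MonoidAlgebra (Kf M) G) * redA M F = 0 := by
      apply c1_nd
      intro a
      obtain ⟨x, hx⟩ := hPW (redA M F * a * redA M F) (mul_mem_PW hFbar hFbar a)
      have h3 : c1 (Kf M) G ((w : MonoidAlgebra (Kf M) G) * redA M F * a) =
          c1 (Kf M) G ((w : MonoidAlgebra (Kf M) G) * (redA M F * a * redA M F)) := by
        have e1 : (w : MonoidAlgebra (Kf M) G) * redA M F * a =
            redA M F * ((w : MonoidAlgebra (Kf M) G) * (redA M F * a)) := by
          rw [← mul_assoc (redA M F) (w : MonoidAlgebra (Kf M) G), w.2.1 (redA M F), mul_assoc (w : MonoidAlgebra (Kf M) G),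
            mul_assoc (w : MonoidAlgebra (Kf M) G), ← mul_assoc (redA M F) (redA M F), hFbar]
        rw [e1, c1_comm]
        congr 1
        simp only [mul_assoc]
      rw [h3, ← hx, ← mul_assoc]
      exact h1 x
    have h3 : (w : MonoidAlgebra (Kf M) G) = 0 := by
      apply P.full hi w.2
      rw [← hFdef]
      exact h2
    have h4 : w = 0 := Subtype.ext h3
    apply hv0
    rw [hw] at h4
    funext i
    exact (Fintype.linearIndependent_iff.1 b.linearIndependent v h4 i)
  obtain ⟨hTdet, hTinv⟩ := inv_loc T hTl hTd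
  have hWdet : IsUnit W.det := by
    rw [isUnit_iff_ne_zero]
    intro h0
    apply hTdet
    rw [hT, Matrix.det_smul, Matrix.det_mul, h0, zero_mul, mul_zero]
  obtain ⟨vy, hvy⟩ : ∃ vy : B → ℂ, vy = fun (χ : B) => lin ((χ : IrrCharacter G) : G → ℂ) y := ⟨_, rfl⟩
  obtain ⟨vy', hvy'⟩ : ∃ vy' : B → ℂ, vy' = fun (χ : B) => lin ((χ : IrrCharacter G) : G → ℂ) y' := ⟨_, rfl⟩
  have ht : ∀ (x : GA G), LocA M x → ∀ i, MemLocalRing M ((c • Matrix.mulVec W
      (fun χ => lin ((χ : IrrCharacter G) : G → ℂ) x)) i) := by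
    intro x hx i
    have h1 : (c • Matrix.mulVec W (fun χ => lin ((χ : IrrCharacter G) : G → ℂ) x)) i = (z i * x).coeff 1 := by
      rw [hco _ (by
        intro χ hχ
        rw [lin_mul χ.2 (hzc i), hom0 i χ hχ, zero_mul]), Pi.smul_apply, Matrix.mulVec, dotProduct, smul_eq_mul]
      congr 1
      refine Finset.sum_congr rfl fun χ _ => ?_
      rw [hW, Matrix.of_apply, lin_mul χ.1.2 (hzc i)]
    rw [h1]
    exact locA_mul (hzl i) hx 1
  obtain ⟨w, hw⟩ : ∃ w : B → ℂ, w = Matrix.mulVec T⁻¹ (c • Matrix.mulVec W vy') := ⟨_, rfl⟩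
  have hwl : ∀ i, MemLocalRing M (w i) := by
    intro i
    rw [hw, Matrix.mulVec, dotProduct]
    apply loc_sum
    intro j _
    apply loc_mul (hTinv i j)
    rw [hvy']
    exact ht y' hy' j
  have hTw : Matrix.mulVec T w = c • Matrix.mulVec W vy' := by
    rw [hw, Matrix.mulVec_mulVec, Matrix.mul_nonsing_inv _ (isUnit_iff_ne_zero.2 hTdet), Matrix.one_mulVec]
  have hWw : Matrix.mulVec W.transpose w = vy' := by
    have h1 : c • Matrix.mulVec W (Matrix.mulVec W.transpose w) = c • Matrix.mulVec W vy' := by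
      rw [← hTw, hT, Matrix.smul_mulVec, Matrix.mulVec_mulVec]
    have h2 := smul_right_injective (B → ℂ) hc0 h1
    have h3 := congrArg (Matrix.mulVec W⁻¹) h2
    rw [Matrix.mulVec_mulVec, Matrix.nonsing_inv_mul _ hWdet, Matrix.one_mulVec, Matrix.mulVec_mulVec,
      Matrix.nonsing_inv_mul _ hWdet, Matrix.one_mulVec] at h3
    exact h3
  have hfin : (n : ℂ) / (Nat.card G : ℂ) * ∑ χ : IrrCharacter G, lin (χ : G → ℂ) y * lin (χ : G → ℂ) y' =
      dotProduct (c • Matrix.mulVec W vy) w := by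
    rw [← hc, sum_B (B := B) (fun χ hχ => by rw [hyB χ hχ, zero_mul])]
    have h1 : ∑ χ : B, lin ((χ : IrrCharacter G) : G → ℂ) y * lin ((χ : IrrCharacter G) : G → ℂ) y' =
        dotProduct vy vy' := by
      rw [dotProduct, hvy, hvy']
    rw [h1, ← hWw, Matrix.dotProduct_mulVec, Matrix.vecMul_transpose, smul_dotProduct, smul_eq_mul]
  rw [hfin, dotProduct]
  apply loc_sum
  intro i _
  apply loc_mul _ (hwl i)
  rw [hvy]
  exact ht y hy i

end Cfsg.Agent.Lib.AbPim
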