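import Cfsg.Agent.Lib.AbPim6

/-!
# Projective indecomposables and local blocks (helper77)
-/

set_option autoImplicit false
set_option linter.all false
set_option synthInstance.maxHeartbeats 400000

namespace Cfsg.Agent.Lib.AbPim

open Cfsg Cfsg.Agent.Lib.BlockRing Cfsg.Agent.Lib.BlockGA Cfsg.Agent.Lib.BlockIdem
open Cfsg.Agent.Lib.BlockAlg Cfsg.Agent.Lib.CharBasic Cfsg.Agent.Lib.H76Alg
open Cfsg.Agent.Lib.BlockPair Cfsg.Agent.Lib.BlockCount Cfsg.Agent.Lib.BlockSecond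
open Cfsg.Agent.Lib.H76BDim
open MonoidAlgebra (single)
open scoped ComplexConjugate

universe u

variable {G : Type u} [Group G] [Finite G] {M : Ideal AlgInt} [hMm : M.IsMaximal] {B : Set (IrrCharacter G)}
  {p : ℕ} {hB : IsPBlock M B}

theorem PD.span_Ph (hM : IsPModular p M) (P : PD hB) : Submodule.span ℂ (Set.range P.Ph) = rsp p B := by
  haveI := Fintype.ofFinite G
  symm
  apply Submodule.eq_of_le_of_finrank_le (P.rsp_le hM)
  have h1 := finrank_range_le_card (R := ℂ) P.Ph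
  rw [Fintype.card_fin] at h1
  rw [← blockRank_eq, ← P.n_eq hM]
  exact h1

/-- projective characters vanish on `p`-singular elements -/
theorem PD.Ph_sing (hM : IsPModular p M) (P : PD hB) (j : Fin P.n) {g : G} (hg : p ∣ orderOf g) : P.Ph j g = 0 :=
  rsp_reg (B := B) (by rw [← P.span_Ph hM]; exact Submodule.subset_span ⟨j, rfl⟩) hg

theorem PD.Ph_cf (P : PD hB) (j : Fin P.n) : IsClassFunction G (P.Ph j) := by
  classical
  intro g h
  rw [PD.Ph, Finset.sum_apply, Finset.sum_apply]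
  refine Finset.sum_congr rfl fun χ _ => ?_
  rw [Pi.smul_apply, Pi.smul_apply, χ.2.isClassFunction]

theorem PD.conj_lin (P : PD hB) (j : Fin P.n) (χ : IrrCharacter G) :
    conj (lin (χ : G → ℂ) (P.F j)) = lin (χ : G → ℂ) (P.F j) := by
  obtain ⟨m, hm⟩ := lin_nat (P.hF j).idem χ
  rw [hm, Complex.conj_natCast]

theorem PD.lin_F (P : PD hB) [Fintype G] (j : Fin P.n) {α : G → ℂ} (hα : IsClassFunction G α) :
    lin α (P.F j) = classInner α (P.Ph j) := by
  rw [PD.Ph, classInner_sum_right]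
  conv_lhs => rw [hα.expansion]
  rw [lin_sum_left]
  refine Finset.sum_congr rfl fun χ _ => ?_
  rw [lin_smul_left, classInner_smul_right, P.conj_lin, mul_comm]

theorem PD.lin_F_eq_zero (hM : IsPModular p M) (P : PD hB) (j : Fin P.n) {α : G → ℂ} (hα : IsClassFunction G α)
    (h : ∀ g, ¬ p ∣ orderOf g → α g = 0) : lin α (P.F j) = 0 := by
  haveI := Fintype.ofFinite G
  rw [P.lin_F j hα, classInner_def]
  rw [Finset.sum_eq_zero, mul_zero]
  intro g _
  by_cases hg : p ∣ orderOf g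
  · rw [P.Ph_sing hM j hg, map_zero, mul_zero]
  · rw [h g hg, zero_mul]

/-- the lattice of projective characters is pure -/
theorem PD.pure (hM : IsPModular p M) (P : PD hB) (y : Fin P.n → ℤ)
    (h : ∀ χ : IrrCharacter G, χ ∈ B → ∃ t : ℤ, ∑ j, (y j : ℂ) * lin (χ : G → ℂ) (P.F j) = p * t) (j : Fin P.n) :
    (p : ℤ) ∣ y j := by
  classical
  haveI := Fintype.ofFinite G
  have hp0 : (p : ℂ) ≠ 0 := Nat.cast_ne_zero.2 hM.1.ne_zero
  have h' : ∀ χ : IrrCharacter G, ∃ t : ℤ, ∑ j, (y j : ℂ) * lin (χ : G → ℂ) (P.F j) = p * t := by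
    intro χ
    by_cases hχ : χ ∈ B
    · exact h χ hχ
    · refine ⟨0, ?_⟩
      rw [Finset.sum_eq_zero (fun j _ => by rw [(P.hF j).lin_eq_zero hχ, mul_zero])]
      push_cast
      rw [mul_zero]
  choose t ht using h'
  obtain ⟨f, hf⟩ : ∃ f : G → ℂ, f = ∑ χ : IrrCharacter G, (t χ : ℂ) • (χ : G → ℂ) := ⟨_, rfl⟩
  have hfg : IsGeneralizedCharacter G f := by
    rw [hf]
    apply isGeneralized_sum
    intro χ _
    have h1 := χ.2.isGeneralized.zsmul (t χ)
    rwa [← Int.cast_smul_eq_zsmul ℂ] at h1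
  have hpf : (p : ℂ) • f = ∑ j, (y j : ℂ) • P.Ph j := by
    rw [hf, Finset.smul_sum]
    have h1 : ∀ j, (y j : ℂ) • P.Ph j = ∑ χ : IrrCharacter G, ((y j : ℂ) * lin (χ : G → ℂ) (P.F j)) • (χ : G → ℂ) := by
      intro j
      rw [PD.Ph, Finset.smul_sum]
      exact Finset.sum_congr rfl fun χ _ => smul_smul _ _ _
    rw [Finset.sum_congr rfl fun j _ => h1 j, Finset.sum_comm]
    refine Finset.sum_congr rfl fun χ _ => ?_
    rw [← Finset.sum_smul, ht χ, smul_smul]
  have h0 : ∀ g, p ∣ orderOf g → f g = 0 := by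
    intro g hg
    have h1 := congrFun hpf g
    rw [Pi.smul_apply, smul_eq_mul, Finset.sum_apply, Finset.sum_eq_zero (fun j _ => by
      rw [Pi.smul_apply, P.Ph_sing hM j hg, smul_zero])] at h1
    exact (mul_eq_zero.1 h1).resolve_left hp0
  obtain ⟨c, hc⟩ := P.gen hM hfg h0
  have hft : ∀ χ : IrrCharacter G, classInner f (χ : G → ℂ) = t χ := by
    intro χ
    rw [hf, classInner_sum_left, Finset.sum_eq_single χ]
    · rw [classInner_smul_left, χ.2.classInner_self, mul_one]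
    · intro ψ _ hψ
      rw [classInner_smul_left, ψ.2.classInner_eq_zero χ.2, mul_zero]
      intro h
      exact hψ (Subtype.ext h)
    · intro h; exact absurd (Finset.mem_univ _) h
  have h6 := P.indep hM _ (fun j => y j - p * c j) le_rfl (by
    intro χ
    by_cases hχ : χ ∈ B
    · have h7 : ∑ j, ((y j - p * c j : ℤ) : ℂ) * lin (χ : G → ℂ) (P.F j) =
          ∑ j, (y j : ℂ) * lin (χ : G → ℂ) (P.F j) - p * ∑ j, (c j : ℂ) * lin (χ : G → ℂ) (P.F j) := by
        rw [Finset.mul_sum, ← Finset.sum_sub_distrib]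
        refine Finset.sum_congr rfl fun j _ => ?_
        push_cast
        ring
      rw [h7, ← hc χ hχ, hft, ht, sub_self]
    · apply Finset.sum_eq_zero
      intro j _
      rw [(P.hF j).lin_eq_zero hχ, mul_zero])
  have h8 := congrFun h6 j
  simp only [Pi.zero_apply] at h8
  exact ⟨c j, by linarith⟩

/-- **If the projective characters are divisible by `|D|` there is one simple module.** -/
theorem PD.n_le_one (hM : IsPModular p M) (P : PD hB)
    (hdiv : ∀ j g, MemLocalRing M (P.Ph j g / (p : ℂ) ^ blockDefect p B)) : P.n ≤ 1 := by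
  classical
  haveI := Fintype.ofFinite G
  haveI := hMm.isPrime
  haveI hch : CharP (Kf M) p := charP_Kf hM
  haveI : Fact p.Prime := ⟨hM.1⟩
  have hG0 : (Nat.card G : ℂ) ≠ 0 := Nat.cast_ne_zero.2 Nat.card_pos.ne'
  have hp0 : (p : ℂ) ≠ 0 := Nat.cast_ne_zero.2 hM.1.ne_zero
  obtain ⟨q, hq⟩ : ∃ q : ℂ, q = (p : ℂ) ^ blockDefect p B := ⟨_, rfl⟩
  have hq0 : q ≠ 0 := by rw [hq]; exact pow_ne_zero _ hp0
  rw [← hq] at hdiv
  choose m hm using fun (χ : IrrCharacter G) (j : Fin P.n) => lin_nat (P.hF j).idem χ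
  obtain ⟨z, hz⟩ : ∃ z : Fin P.n → GA G, z = fun j => ofFun (fun g => P.Ph j g⁻¹ / q) := ⟨_, rfl⟩
  have hzc : ∀ j, z j ∈ Subalgebra.center ℂ (GA G) := by
    intro j
    rw [hz]
    apply ofFun_mem_center
    intro g h
    show P.Ph j (h * g * h⁻¹)⁻¹ / q = P.Ph j g⁻¹ / q
    have h1 : (h * g * h⁻¹)⁻¹ = h * g⁻¹ * h⁻¹ := by group
    rw [h1, P.Ph_cf j]
  have hzl : ∀ j, LocA M (z j) := by
    intro j g
    rw [hz]
    exact hdiv j g⁻¹
  have hinv : ∀ j g, P.Ph j g⁻¹ = conj (P.Ph j g) := by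
    intro j g
    rw [PD.Ph, Finset.sum_apply, Finset.sum_apply, map_sum]
    refine Finset.sum_congr rfl fun χ _ => ?_
    rw [Pi.smul_apply, Pi.smul_apply, smul_eq_mul, smul_eq_mul, map_mul, P.conj_lin, χ.2.inv]
  have hlin : ∀ j (ψ : IrrCharacter G), lin (ψ : G → ℂ) (z j) = (Nat.card G : ℂ) * lin (ψ : G → ℂ) (P.F j) / q := by
    intro j ψ
    rw [P.lin_F j ψ.2.isClassFunction, classInner_def, hz, lin_apply, mul_div_assoc, mul_div_assoc]
    have h1 : ∀ g : G, (ofFun (fun g => P.Ph j g⁻¹ / q)).coeff g * (ψ : G → ℂ) g =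
        ((ψ : G → ℂ) g * conj (P.Ph j g)) / q := by
      intro g
      rw [coeff_ofFun, hinv]
      ring
    rw [Finset.sum_congr rfl fun g _ => h1 g, ← Finset.sum_div, ← mul_assoc (Nat.card G : ℂ), mul_inv_cancel₀ hG0,
      one_mul]
  obtain ⟨s, hs⟩ : ∃ s : IrrCharacter G → ℂ, s = fun (ψ : IrrCharacter G) => q * (ψ : G → ℂ) 1 / (Nat.card G : ℂ) := ⟨_, rfl⟩
  have hls : ∀ j (ψ : IrrCharacter G), lin (ψ : G → ℂ) (P.F j) = s ψ * omega (ψ : G → ℂ) (z j) := by
    intro j ψ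
    rw [omega, hlin, hs]
    have := ψ.2.one_ne_zero
    field_simp
  have hsl : ∀ ψ ∈ B, MemLocalRing M (s ψ) := by
    intro ψ hψ
    rw [hs]
    have h1 : q * (ψ : G → ℂ) 1 / (Nat.card G : ℂ) =
        ((p ^ blockDefect p B * charDegree (ψ : G → ℂ) : ℕ) : ℂ) / (Nat.card G : ℂ) := by
      rw [hq, deg_cast]
      push_cast
      rfl
    show MemLocalRing M (q * (ψ : G → ℂ) 1 / (Nat.card G : ℂ))
    have hd0 := (DefectZero.charDegree_pos ψ.2).ne'
    have hpp : p ^ blockDefect p B ≠ 0 := pow_ne_zero _ hM.1.ne_zero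
    rw [h1, loc_div_natCast_iff hM (mul_ne_zero hpp hd0) Nat.card_pos.ne',
      Nat.factorization_mul hpp hd0, Finsupp.add_apply, Nat.Prime.factorization_pow hM.1, Finsupp.single_eq_same,
      BlockDefect.blockDefect_eq]
    have h2 : BlockDefect.vmin p B ≤ (charDegree (ψ : G → ℂ)).factorization p := BlockDefect.vmin_le hψ
    omega
  obtain ⟨χ₀, hχ₀⟩ := isPBlock_nonempty hB
  have hred : ∀ j, ∀ ψ ∈ B, ((m ψ j : ℕ) : Kf M) = red M (s ψ) * red M (omega (χ₀ : G → ℂ) (z j)) := by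
    intro j ψ hψ
    have h1 : red M (omega (ψ : G → ℂ) (z j)) = red M (omega (χ₀ : G → ℂ) (z j)) := by
      have h2 := sameBlock_omega ψ.2.isClassFunction χ₀.2.isClassFunction (sameBlock_of_mem hB hψ hχ₀) (hzc j) (hzl j)
      have h3 := red_eq_zero h2
      rw [red_sub (loc_omega ψ.2 (hzc j) (hzl j)) (loc_omega χ₀.2 (hzc j) (hzl j)), sub_eq_zero] at h3
      exact h3
    have h2 : red M (((m ψ j : ℤ) : ℂ)) = ((m ψ j : ℤ) : Kf M) := red_int _
    have h3 : (((m ψ j : ℤ) : ℂ)) = lin (ψ : G → ℂ) (P.F j) := by rw [hm]; push_cast; rfl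
    rw [h3, hls, red_mul (hsl ψ hψ) (loc_omega ψ.2 (hzc j) (hzl j)), h1] at h2
    rw [h2]
    push_cast
    rfl
  by_contra hn
  push Not at hn
  obtain ⟨i, hi⟩ : ∃ i : Fin P.n, i = ⟨0, by omega⟩ := ⟨_, rfl⟩
  obtain ⟨j, hj⟩ : ∃ j : Fin P.n, j = ⟨1, by omega⟩ := ⟨_, rfl⟩
  have hij : i ≠ j := by
    rw [hi, hj]
    intro h
    exact absurd (congrArg Fin.val h) (by norm_num)
  obtain ⟨ψ, hψ, hψj⟩ : ∃ ψ ∈ B, ¬ p ∣ m ψ j := by
    by_contra hcon
    push Not at hcon
    have h1 := P.pure hM (Pi.single j 1) (by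
      intro χ hχ
      obtain ⟨t, ht⟩ := hcon χ hχ
      refine ⟨t, ?_⟩
      rw [Finset.sum_eq_single j]
      · rw [Pi.single_eq_same, hm, ht]
        push_cast
        ring
      · intro l _ hl
        rw [Pi.single_eq_of_ne hl, Int.cast_zero, zero_mul]
      · intro h; exact absurd (Finset.mem_univ _) h) j
    rw [Pi.single_eq_same] at h1
    have h2 : (p : ℤ) ∣ ((1 : ℕ) : ℤ) := by exact_mod_cast h1
    exact hM.1.one_lt.ne' (Nat.dvd_one.1 (Int.natCast_dvd_natCast.1 h2))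
  have h1 := P.pure hM (Pi.single i (m ψ j : ℤ) - Pi.single j (m ψ i : ℤ)) (by
    intro χ hχ
    have h2 : ∑ l, (((Pi.single i (m ψ j : ℤ) - Pi.single j (m ψ i : ℤ) : Fin P.n → ℤ) l : ℤ) : ℂ) *
        lin (χ : G → ℂ) (P.F l) = (((m ψ j * m χ i : ℤ) - (m ψ i * m χ j : ℤ) : ℤ) : ℂ) := by
      have h3 : ∀ l, (((Pi.single i (m ψ j : ℤ) - Pi.single j (m ψ i : ℤ) : Fin P.n → ℤ) l : ℤ) : ℂ) *
          lin (χ : G → ℂ) (P.F l) = (if l = i then (m ψ j : ℂ) * m χ i else 0) - (if l = j then (m ψ i : ℂ) * m χ j else 0) := by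
        intro l
        rw [Pi.sub_apply, Pi.single_apply, Pi.single_apply, hm]
        push_cast
        rw [sub_mul]
        congr 1
        · split_ifs with h
          · rw [h]
          · rw [zero_mul]
        · split_ifs with h
          · rw [h]
          · rw [zero_mul]
      rw [Finset.sum_congr rfl fun l _ => h3 l, Finset.sum_sub_distrib, Finset.sum_ite_eq' Finset.univ i,
        Finset.sum_ite_eq' Finset.univ j, if_pos (Finset.mem_univ _), if_pos (Finset.mem_univ _)]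
      push_cast
      rfl
    rw [h2]
    have h4 : ((((m ψ j * m χ i : ℤ) - (m ψ i * m χ j : ℤ) : ℤ)) : Kf M) = 0 := by
      push_cast
      rw [hred j ψ hψ, hred i χ hχ, hred i ψ hψ, hred j χ hχ]
      ring
    obtain ⟨t, ht⟩ := (CharP.intCast_eq_zero_iff (Kf M) p _).1 h4
    refine ⟨t, ?_⟩
    rw [ht]
    push_cast
    rfl) i
  rw [Pi.sub_apply, Pi.single_eq_same, Pi.single_eq_of_ne hij, sub_zero] at h1
  exact hψj (Int.natCast_dvd_natCast.1 h1)

end Cfsg.Agent.Lib.AbPim
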