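import Cfsg.Agent.Lib.AbCount3

/-!
# Blocks with Klein four defect groups: the main theorem
-/

set_option autoImplicit false
set_option linter.all false

namespace Cfsg.Agent.Lib.AbCount

open Cfsg Cfsg.Agent.Lib.BlockRing Cfsg.Agent.Lib.BlockGA Cfsg.Agent.Lib.BlockIdem
open Cfsg.Agent.Lib.BlkIdem Cfsg.Agent.Lib.BlockAlg Cfsg.Agent.Lib.PairAlg Cfsg.Agent.Lib.PairMax
open Cfsg.Agent.Lib.BrauerPairs Cfsg.Agent.Lib.NormalPBlk Cfsg.Agent.Lib.DefPairs
open Cfsg.Agent.Lib.BlkTransport Cfsg.Agent.Lib.BlkFus Cfsg.Agent.Lib.InducedPair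
open Cfsg.Agent.Lib.BlockCount Cfsg.Agent.Lib.BlockPair Cfsg.Agent.Lib.PairCount
open Cfsg.Agent.Lib.AbFusion Cfsg.Agent.Lib.Subsec Cfsg.Agent.Lib.CharBasic
open scoped ComplexConjugate

universe u v

variable {M : Ideal AlgInt} [hMm : M.IsMaximal] [hchar : CharP (Kf M) 2]
  {G : Type u} [Group G] [Finite G] {B : Set (IrrCharacter G)} {P : Subgroup G} {c : MonoidAlgebra (Kf M) G}

omit [Finite G] in
theorem klein_eq (hV : IsKleinFour P) {x y z : G} (hx : x ∈ P) (hy : y ∈ P) (hz : z ∈ P) (hx1 : x ≠ 1)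
    (hy1 : y ≠ 1) (hz1 : z ≠ 1) (hxy : x ≠ y) (hzx : z ≠ x) (hzy : z ≠ y) : z = x * y := by
  have h := IsKleinFour.eq_mul_of_ne_all (G := P) (x := ⟨x, hx⟩) (y := ⟨y, hy⟩) (z := ⟨z, hz⟩)
  have h1 := h (fun h => hx1 (congrArg Subtype.val h)) (fun h => hy1 (congrArg Subtype.val h))
    (fun h => hxy (congrArg Subtype.val h)) (fun h => hz1 (congrArg Subtype.val h))
    (fun h => hzx (congrArg Subtype.val h)) (fun h => hzy (congrArg Subtype.val h))
  exact congrArg Subtype.val h1

omit [Finite G] in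
theorem klein_sq (hV : IsKleinFour P) {x : G} (hx : x ∈ P) : x * x = 1 :=
  congrArg Subtype.val (IsKleinFour.mul_self (⟨x, hx⟩ : P))

/-- elements of the stabilizer fixing one involution centralize `P` -/
theorem AbMax.klein_fix [Fact (Nat.Prime 2)] (h : AbMax 2 B P c) (hV : IsKleinFour P) {u : G} (hu : u ∈ P) (hu1 : u ≠ 1)
    {t : G} (ht : t ∈ stab (Subgroup.normalizer (P : Set G)) c) (htu : t * u * t⁻¹ = u) :
    t ∈ Subgroup.centralizer (P : Set G) := by
  have hN : ∀ x ∈ P, t * x * t⁻¹ ∈ P := fun x hx => (Subgroup.mem_normalizer_iff.1 (stab_le _ _ ht) x).1 hx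
  have hcomm : ∀ x ∈ P, ∀ y ∈ P, x * y = y * x := fun x hx y hy => (Subgroup.mem_centralizer_iff.1 (h.ab hx) y hy).symm
  apply AbDefect.mem_centralizer_of_pow h.pair h.max h.ab ht (n := 1)
  rw [pow_one, Subgroup.mem_centralizer_iff]
  intro x hx
  -- `t ^ 2` fixes `x`
  suffices hh : t * (t * x * t⁻¹) * t⁻¹ = x by
    have : t ^ 2 * x = x * t ^ 2 := by
      calc t ^ 2 * x = (t * (t * x * t⁻¹) * t⁻¹) * t ^ 2 := by rw [sq]; group
        _ = x * t ^ 2 := by rw [hh]
    exact this.symm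
  by_cases hx1 : x = 1
  · rw [hx1]; group
  by_cases hxu : x = u
  · rw [hxu, htu, htu]
  by_cases hfix : t * x * t⁻¹ = x
  · rw [hfix, hfix]
  have h1 : t * x * t⁻¹ ≠ 1 := by
    intro h2
    apply hx1
    have : x = t⁻¹ * (t * x * t⁻¹) * t := by group
    rw [this, h2]; group
  have h2 : t * x * t⁻¹ ≠ u := by
    intro h2
    apply hxu
    have e1 : x = t⁻¹ * (t * x * t⁻¹) * t := by group
    have e2 : u = t⁻¹ * (t * u * t⁻¹) * t := by group
    rw [e1, h2]
    rw [htu] at e2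
    exact e2.symm
  have h3 := klein_eq hV hu hx (hN x hx) hu1 hx1 h1 (Ne.symm hxu) h2 hfix
  rw [h3]
  have : t * (u * x) * t⁻¹ = (t * u * t⁻¹) * (t * x * t⁻¹) := by group
  rw [this, htu, h3, ← mul_assoc, klein_sq hV hu, one_mul]

theorem AbMax.klein_rank [Fact (Nat.Prime 2)] (hM : IsPModular 2 M) (h : AbMax 2 B P c) (hV : IsKleinFour P)
    {u : G} (hu : u ∈ P) (hu1 : u ≠ 1) : blockRank 2 (bu 2 P c u) = 1 := by
  refine (AbMax.nilpotent hM _ le_rfl (h.res hu) ?_).1
  intro t ht x hx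
  rw [h.mem_stab_res hu] at ht
  have h1 : (t : G) * u * (t : G)⁻¹ = u := by
    have := Subgroup.mem_centralizer_singleton_iff.1 t.2
    rw [this]; group
  have h2 := h.klein_fix hV hu hu1 ht h1
  apply Subtype.ext
  show (t : G) * x * (t : G)⁻¹ = x
  have h3 := Subgroup.mem_centralizer_iff.1 h2 (x : G) (Subgroup.mem_subgroupOf.1 hx)
  rw [← h3]; group

theorem AbMax.klein [Fact (Nat.Prime 2)] (hM : IsPModular 2 M) (h : AbMax 2 B P c) (hV : IsKleinFour P) (e : ℕ)
    (he : (Subgroup.centralizer (P : Set G)).relIndex (stab (Subgroup.normalizer (P : Set G)) c) = e) :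
    (e = 1 ∨ e = 3) ∧ Nat.card B = 4 ∧ blockRank 2 B = e := by
  classical
  have := Fintype.ofFinite G
  set T := stab (Subgroup.normalizer (P : Set G)) c with hT
  set C := Subgroup.centralizer (P : Set G) with hC
  have hP4 : Nat.card P = 4 := hV.card_four
  have hodd : ¬ 2 ∣ e := by rw [← he]; exact h.not_dvd_relIndex
  have hN : ∀ t ∈ T, ∀ x ∈ P, t * x * t⁻¹ ∈ P := fun t ht x hx =>
    (Subgroup.mem_normalizer_iff.1 (stab_le _ _ ht) x).1 hx
  obtain ⟨u', hu'⟩ : ∃ x : P, x ≠ 1 := by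
    have : Nontrivial P := Finite.one_lt_card_iff_nontrivial.1 (by rw [hP4]; norm_num)
    exact exists_ne 1
  obtain ⟨u, hu⟩ := u'
  have hu1 : u ≠ 1 := fun h => hu' (Subtype.ext h)
  -- the orbit map
  have hconj : ∀ t : G, t * u * t⁻¹ ≠ 1 := by
    intro t h2
    apply hu1
    have : u = t⁻¹ * (t * u * t⁻¹) * t := by group
    rw [this, h2]; group
  let f : T ⧸ C.subgroupOf T → {x : P // x ≠ 1} := fun q =>
    ⟨⟨(q.out : G) * u * (q.out : G)⁻¹, hN _ q.out.2 u hu⟩, fun h2 => hconj _ (congrArg Subtype.val h2)⟩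
  have hf : Function.Injective f := by
    intro q r hqr
    have h1 : (q.out : G) * u * (q.out : G)⁻¹ = (r.out : G) * u * (r.out : G)⁻¹ :=
      congrArg (fun x : {x : P // x ≠ 1} => ((x : P) : G)) hqr
    have h2 : ((r.out⁻¹ * q.out : T) : G) ∈ C := by
      apply h.klein_fix hV hu hu1 (r.out⁻¹ * q.out : T).2
      show ((r.out : G)⁻¹ * (q.out : G)) * u * ((r.out : G)⁻¹ * (q.out : G))⁻¹ = u
      calc ((r.out : G)⁻¹ * (q.out : G)) * u * ((r.out : G)⁻¹ * (q.out : G))⁻¹
          = (r.out : G)⁻¹ * ((q.out : G) * u * (q.out : G)⁻¹) * (r.out : G) := by group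
        _ = u := by rw [h1]; group
    rw [← QuotientGroup.out_eq' q, ← QuotientGroup.out_eq' r]
    symm
    exact QuotientGroup.eq.2 (Subgroup.mem_subgroupOf.2 h2)
  have hc3 : Nat.card {x : P // x ≠ 1} = 3 := by
    have := Fintype.ofFinite P
    rw [Nat.card_eq_fintype_card, Fintype.card_subtype_compl (· = (1 : P)), Fintype.card_subtype_eq,
      ← Nat.card_eq_fintype_card, hP4]
  have hle : e ≤ 3 := by
    rw [← he, ← hc3]
    exact Nat.card_le_card_of_injective f hf
  have h0 : e ≠ 0 := by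
    rw [← he]
    exact Subgroup.index_ne_zero_of_finite
  have he13 : e = 1 ∨ e = 3 := by omega
  refine ⟨he13, ?_⟩
  rcases he13 with rfl | rfl
  · have hTC : T ≤ C := Subgroup.relIndex_eq_one.1 he
    have h1 := AbMax.nilpotent hM _ le_rfl h (by
      intro t ht x hx
      have h3 := Subgroup.mem_centralizer_iff.1 (hTC ht) x hx
      rw [← h3]; group)
    exact ⟨by rw [h1.2, hP4], h1.1⟩
  · have hsurj : Function.Surjective f := by
      apply ((Nat.bijective_iff_injective_and_card f).2 ⟨hf, ?_⟩).2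
      rw [hc3]; exact he
    have hcount := h.card_eq hM {1, u} (by
      intro r hr
      rw [Finset.mem_insert, Finset.mem_singleton] at hr
      rcases hr with rfl | rfl
      · exact one_mem _
      · exact hu) (by
      intro x hx
      by_cases hx1 : x = 1
      · subst hx1
        refine ⟨1, ⟨by simp, 1, one_mem _, by group⟩, ?_⟩
        rintro y ⟨_, t, _, hy⟩
        rw [← hy]; group
      · obtain ⟨q, hq⟩ := hsurj ⟨⟨x, hx⟩, fun h2 => hx1 (congrArg Subtype.val h2)⟩
        have h1 : (q.out : G) * u * (q.out : G)⁻¹ = x :=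
          congrArg (fun x : {x : P // x ≠ 1} => ((x : P) : G)) hq
        refine ⟨u, ⟨by simp, (q.out : G)⁻¹, inv_mem q.out.2, by rw [← h1]; group⟩, ?_⟩
        rintro y ⟨hy, t, _, hty⟩
        rw [Finset.mem_insert, Finset.mem_singleton] at hy
        rcases hy with rfl | rfl
        · exfalso
          apply hx1
          have : x = t⁻¹ * (t * x * t⁻¹) * t := by group
          rw [this, hty]; group
        · rfl)
    rw [Finset.sum_pair (Ne.symm hu1), Subgroup.zpowers_one_eq_bot, h.lq_bot, lq_zpowers] at hcount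
    have hl := h.klein_rank hM hV hu hu1
    have e1 : lr 2 (Subgroup.centralizer ({u} : Set G)) (pr 2 P c (Subgroup.zpowers u)) = 1 := hl
    rw [e1] at hcount
    have hpos : 1 ≤ blockRank 2 B := BlockSmall.blockRank_pos Nat.prime_two (isPBlock_nonempty h.blk)
    have hdB : blockDefect 2 B = 2 := by
      have h1 := h.card_P hM
      rw [hP4] at h1
      exact (Nat.pow_right_injective le_rfl (show 2 ^ 2 = 2 ^ blockDefect 2 B by rw [← h1])).symm
    have hou : orderOf u = 2 ^ 1 := by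
      rw [pow_one]
      exact orderOf_eq_prime (by rw [sq]; exact klein_sq hV hu) hu1
    have h4 := four_of_rank_one hM hou (h.isInduced hM hu) (h.blockDefect_eq hM hu)
      (by rw [h.blockDefect_eq hM hu, hdB]) hl (by omega)
    exact ⟨h4, by omega⟩

end Cfsg.Agent.Lib.AbCount
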