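import Cfsg.Agent.Lib.AbLocal
import Cfsg.Agent.Lib.AbKlein

/-!
# Abelian defect groups: the inertial quotient is trivial if `k(B) = |P|` and `l(B) = 1`
-/

set_option autoImplicit false
set_option linter.all false

namespace Cfsg.Agent.Lib.H76Nil

open Cfsg Cfsg.Agent.Lib.BlockRing Cfsg.Agent.Lib.BlockGA Cfsg.Agent.Lib.BlockIdem
open Cfsg.Agent.Lib.BlkIdem Cfsg.Agent.Lib.BlockAlg Cfsg.Agent.Lib.PairAlg Cfsg.Agent.Lib.PairMax
open Cfsg.Agent.Lib.BrauerPairs Cfsg.Agent.Lib.NormalPBlk Cfsg.Agent.Lib.DefPairs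
open Cfsg.Agent.Lib.BlkTransport Cfsg.Agent.Lib.BlkFus Cfsg.Agent.Lib.InducedPair
open Cfsg.Agent.Lib.BlockCount Cfsg.Agent.Lib.BlockPair Cfsg.Agent.Lib.PairCount
open Cfsg.Agent.Lib.AbFusion Cfsg.Agent.Lib.BlkNil Cfsg.Agent.Lib.AbCount

universe u v

theorem exists_orbit_reps {G : Type u} [Group G] [Finite G] {P : Subgroup G} (T : Subgroup G)
    (hT : ∀ t ∈ T, ∀ x ∈ P, t * x * t⁻¹ ∈ P) :
    ∃ R : Finset G, (∀ r ∈ R, r ∈ P) ∧ ∀ x ∈ P, ∃! r, r ∈ R ∧ ∃ t ∈ T, t * x * t⁻¹ = r := by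
  classical
  have := Fintype.ofFinite G
  let s : Setoid P :=
    { r := fun a b => ∃ t ∈ T, t * (a : G) * t⁻¹ = b
      iseqv :=
        { refl := fun a => ⟨1, one_mem _, by group⟩
          symm := by
            rintro a b ⟨t, ht, h⟩
            exact ⟨t⁻¹, inv_mem ht, by rw [← h]; group⟩
          trans := by
            rintro a b c ⟨t, ht, h⟩ ⟨t', ht', h'⟩
            exact ⟨t' * t, mul_mem ht' ht, by rw [← h', ← h]; group⟩ } }
  have : Fintype (Quotient s) := Fintype.ofFinite _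
  refine ⟨Finset.univ.image (fun q : Quotient s => ((Quotient.out q : P) : G)), ?_, ?_⟩
  · intro r hr
    obtain ⟨q, -, rfl⟩ := Finset.mem_image.1 hr
    exact (Quotient.out q).2
  · intro x hx
    refine ⟨((Quotient.out (Quotient.mk s ⟨x, hx⟩) : P) : G), ⟨Finset.mem_image_of_mem _ (Finset.mem_univ _), ?_⟩, ?_⟩
    · have h1 : s.r (Quotient.out (Quotient.mk s ⟨x, hx⟩)) ⟨x, hx⟩ := Quotient.mk_out (s := s) ⟨x, hx⟩
      obtain ⟨t, ht, h⟩ := s.iseqv.symm h1
      exact ⟨t, ht, h⟩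
    · rintro r ⟨hr, t, ht, hr2⟩
      obtain ⟨q, -, rfl⟩ := Finset.mem_image.1 hr
      have h2 : Quotient.mk s ⟨x, hx⟩ = q := by
        rw [← Quotient.out_eq q]
        exact Quotient.sound (s := s) ⟨t, ht, hr2⟩
      rw [h2]

variable {p : ℕ} [hp : Fact p.Prime] {M : Ideal AlgInt} [hMm : M.IsMaximal] [hchar : CharP (Kf M) p]
  {G : Type u} [Group G] [Finite G] {B : Set (IrrCharacter G)} {P : Subgroup G} {c : MonoidAlgebra (Kf M) G}

theorem exists_abMax (hB : IsPBlock M B) (hD : IsDefectGroup p M B P) (hab : ∀ x ∈ P, ∀ y ∈ P, x * y = y * x) :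
    ∃ c : MonoidAlgebra (Kf M) G, AbMax p B P c := by
  have hDG := (BrauerPairs.isDefectGroup_iff hB).mp hD
  have hfix : bidG M B ∈ BrauerMap.fixAlg (Kf M) P := by
    intro x _
    exact (bidG_mem B).2 x (Subgroup.mem_top x)
  have hz : BrauerMap.br P (bidG M B) ∈ BrauerMap.ZAlg (Kf M) (Subgroup.centralizer (P : Set G)) := by
    refine ⟨BrauerMap.br_mem_suppAlg _ _, ?_⟩
    exact BrauerMap.br_mem_fixAlg (centralizer_le_normalizer P) (fun x _ => (bidG_mem B).2 x (Subgroup.mem_top x))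
  have hzz : BrauerMap.br P (bidG M B) * BrauerMap.br P (bidG M B) = BrauerMap.br P (bidG M B) := by
    rw [← BrauerMap.br_mul hDG.pg hfix hfix, bidG_mul_self hB]
  obtain ⟨e, he, hze⟩ := exists_blk_of_idem hasBlocks hz hzz hDG.ne
  refine ⟨e, hB, ⟨hDG.pg, he⟩, AbDefect.maxPair_of_defectGroup hB hD hze, hze, ?_⟩
  intro x hx
  rw [Subgroup.mem_centralizer_iff]
  intro y hy
  exact hab y hy x hx

/-- if all the local ranks are one, `k(B) = |P|` forces the inertial quotient to be trivial -/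
theorem trivial_of_card (hM : IsPModular p M) (h : AbMax p B P c) (hk : Nat.card B = Nat.card P)
    (hu : ∀ u ∈ P, lq p P c (Subgroup.zpowers u) = 1) :
    ∀ t ∈ stab (Subgroup.normalizer (P : Set G)) c, t ∈ Subgroup.centralizer (P : Set G) := by
  classical
  have := Fintype.ofFinite G
  have hN : ∀ t ∈ stab (Subgroup.normalizer (P : Set G)) c, ∀ x ∈ P, t * x * t⁻¹ ∈ P := fun t ht x hx =>
    (Subgroup.mem_normalizer_iff.1 (stab_le _ _ ht) x).1 hx
  obtain ⟨R, hR, hRrep⟩ := exists_orbit_reps (P := P) (stab (Subgroup.normalizer (P : Set G)) c) hN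
  have h1 := h.card_eq hM R hR hRrep
  rw [Finset.sum_congr rfl (fun r hr => hu r (hR r hr)), Finset.sum_const, smul_eq_mul, mul_one, hk] at h1
  have h2 : ∀ x ∈ P, x ∈ R := by
    have h3 : R = Finset.univ.filter (fun x => x ∈ P) := by
      apply Finset.eq_of_subset_of_card_le
      · intro r hr
        rw [Finset.mem_filter]
        exact ⟨Finset.mem_univ _, hR r hr⟩
      · rw [← h1, Nat.card_eq_fintype_card, Fintype.card_subtype]
    intro x hx
    rw [h3, Finset.mem_filter]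
    exact ⟨Finset.mem_univ _, hx⟩
  intro t ht
  rw [Subgroup.mem_centralizer_iff]
  intro x hx
  have hy := hN t ht x hx
  have h4 : x = t * x * t⁻¹ := (hRrep x hx).unique ⟨h2 x hx, 1, one_mem _, by group⟩ ⟨h2 _ hy, t, ht, rfl⟩
  calc x * t = (t * x * t⁻¹) * t := by rw [← h4]
    _ = t * x := by group

/-- cyclic defect group: the local ranks are one -/
theorem lq_cyclic (hM : IsPModular p M) (h : AbMax p B P c) (hcyc : IsCyclic P) {u : G} (hu : u ∈ P) (hu1 : u ≠ 1) :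
    lq p P c (Subgroup.zpowers u) = 1 := by
  rw [lq_zpowers, lr]
  refine (AbMax.nilpotent hM _ le_rfl (h.res hu) ?_).1
  intro t ht x hx
  rw [h.mem_stab_res hu] at ht
  have hQ1 : Subgroup.zpowers u ≠ ⊥ := by
    rw [Ne, Subgroup.zpowers_eq_bot]; exact hu1
  have h2 := h.cyclic_free hcyc (zpowers_le_of hu) hQ1 ht (by
    rw [SubsecNorm.centralizer_zpowers]; exact t.2)
  apply Subtype.ext
  show (t : G) * x * (t : G)⁻¹ = x
  have h3 := Subgroup.mem_centralizer_iff.1 h2 (x : G) (Subgroup.mem_subgroupOf.1 hx)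
  rw [← h3]; group

end Cfsg.Agent.Lib.H76Nil
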