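import Cfsg.Agent.Lib.AbEq2
import Cfsg.Agent.Lib.AbEq3
import Cfsg.Agent.Lib.H76Nil
import Cfsg.Agent.Lib.AbNil1

/-!
# Blocks whose characters have equal degrees are nilpotent (helper77)
-/

set_option autoImplicit false
set_option linter.all false
set_option synthInstance.maxHeartbeats 400000

namespace Cfsg.Agent.Lib.AbPim

open Cfsg Cfsg.Agent.Lib.BlockRing Cfsg.Agent.Lib.BlockGA Cfsg.Agent.Lib.BlockIdem
open Cfsg.Agent.Lib.BlockAlg Cfsg.Agent.Lib.CharBasic Cfsg.Agent.Lib.H76Alg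
open Cfsg.Agent.Lib.BlockPair Cfsg.Agent.Lib.BlockCount Cfsg.Agent.Lib.BlockSecond
open Cfsg.Agent.Lib.H76BDim
open MonoidAlgebra (single)
open scoped ComplexConjugate

universe u

section transfer

variable {G : Type u} [Group G] [Finite G] {M : Ideal AlgInt} [hMm : M.IsMaximal] {B : Set (IrrCharacter G)}
  {p : ℕ} {H : Subgroup G} {b : Set (IrrCharacter H)} {hb : IsPBlock M b}

/-- a class function on the centralizer, from characters of the group -/
theorem PD.transfer (hM : IsPModular p M) (Q : PD hb) {u : G} {k : ℕ} (hu : orderOf u = p ^ k)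
    (hH : ∀ g, g ∈ H ↔ Commute u g) (j : Fin Q.n) {h : H} (hh : ¬ p ∣ orderOf h) :
    Q.Ph j h = ∑ χ : IrrCharacter G, (χ : G → ℂ) (u * h) * lin (χ : G → ℂ) (single u⁻¹ 1 * incH H (Q.F j)) := by
  classical
  haveI := Fintype.ofFinite G
  haveI := Fintype.ofFinite H
  have hp := hM.1
  obtain ⟨α, hα⟩ : ∃ α : H → ℂ, α = fun (c : H) => ∑ χ : IrrCharacter G, (χ : G → ℂ) (u * h) * (χ : G → ℂ) (u⁻¹ * (c : G)) :=
    ⟨_, rfl⟩
  obtain ⟨β, hβ⟩ : ∃ β : H → ℂ, β = fun (c : H) => ∑ ψ : IrrCharacter H, (ψ : H → ℂ) h * (ψ : H → ℂ) c := ⟨_, rfl⟩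
  have hcf : ∀ χ : IrrCharacter G, IsClassFunction H (fun c : H => (χ : G → ℂ) (u⁻¹ * (c : G))) := fun χ =>
    isClassFunction_section χ.2.isClassFunction (fun g hg => ((hH g).1 hg).inv_left)
  have hαcf : IsClassFunction H α := by
    intro c x
    rw [hα]
    refine Finset.sum_congr rfl fun χ _ => ?_
    exact congrArg ((χ : G → ℂ) (u * h) * ·) (hcf χ c x)
  have hβcf : IsClassFunction H β := by
    intro c x
    rw [hβ]
    refine Finset.sum_congr rfl fun χ _ => ?_
    exact congrArg ((χ : H → ℂ) h * ·) (χ.2.isClassFunction c x)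
  have hαF : lin α (Q.F j) = ∑ χ : IrrCharacter G, (χ : G → ℂ) (u * h) *
      lin (χ : G → ℂ) (single u⁻¹ 1 * incH H (Q.F j)) := by
    have h1 : α = ∑ χ : IrrCharacter G, (χ : G → ℂ) (u * h) • (fun c : H => (χ : G → ℂ) (u⁻¹ * (c : G))) := by
      funext c
      rw [hα, Finset.sum_apply]
      rfl
    rw [h1, lin_sum_left]
    refine Finset.sum_congr rfl fun χ _ => ?_
    rw [lin_smul_left, lin_single_mul_eq, lin_incH]
  have hβF : lin β (Q.F j) = Q.Ph j h := by
    have h1 : β = ∑ ψ : IrrCharacter H, (ψ : H → ℂ) h • (ψ : H → ℂ) := by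
      funext c
      rw [hβ, Finset.sum_apply]
      rfl
    rw [h1, lin_sum_left, PD.Ph, Finset.sum_apply]
    refine Finset.sum_congr rfl fun ψ _ => ?_
    rw [lin_smul_left, Pi.smul_apply, smul_eq_mul, mul_comm]
  have heq : ∀ c : H, ¬ p ∣ orderOf c → α c = β c := by
    intro c hc
    rw [hα, hβ]
    show ∑ χ : IrrCharacter G, (χ : G → ℂ) (u * h) * (χ : G → ℂ) (u⁻¹ * (c : G)) =
      ∑ ψ : IrrCharacter H, (ψ : H → ℂ) h * (ψ : H → ℂ) c
    rw [← card_fix, ← card_fix]
    have h1 : ∀ g : G, u * (h : G) * g * (u⁻¹ * (c : G)) = g → g ∈ H := by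
      intro g hg
      rw [hH]
      have hcu : Commute u (c : G) := (hH c).1 c.2
      have hhu : Commute u (h : G) := (hH h).1 h.2
      have h2 : u * (h : G) = (g * u * g⁻¹) * (g * (c : G)⁻¹ * g⁻¹) := by
        have h3 : u * (h : G) = g * (u⁻¹ * (c : G))⁻¹ * g⁻¹ := by
          rw [eq_mul_inv_iff_mul_eq, eq_mul_inv_iff_mul_eq]
          exact hg
        rw [h3, mul_inv_rev, inv_inv]
        have h4 : (c : G)⁻¹ * u = u * (c : G)⁻¹ := (hcu.inv_right).eq.symm
        rw [h4]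
        group
      have h3 : Commute (g * u * g⁻¹) (g * (c : G)⁻¹ * g⁻¹) := by
        show (g * u * g⁻¹) * (g * (c : G)⁻¹ * g⁻¹) = (g * (c : G)⁻¹ * g⁻¹) * (g * u * g⁻¹)
        have h4 : u * (c : G)⁻¹ = (c : G)⁻¹ * u := (hcu.inv_right).eq
        calc (g * u * g⁻¹) * (g * (c : G)⁻¹ * g⁻¹) = g * (u * (c : G)⁻¹) * g⁻¹ := by group
          _ = g * ((c : G)⁻¹ * u) * g⁻¹ := by rw [h4]
          _ = _ := by group
      have h4 : ∀ x : G, orderOf (g * x * g⁻¹) = orderOf x := fun x => by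
        have := (MulAut.conj g).orderOf_eq x
        rw [MulAut.conj_apply] at this
        exact this
      have h5 := (eq_of_comm_of_orders hp hhu h3 h2 hu (by rw [h4]; exact hu)
        (by rw [Subgroup.orderOf_coe]; exact hh)
        (by rw [h4, orderOf_inv, Subgroup.orderOf_coe]; exact hc)).1
      show u * g = g * u
      nth_rewrite 1 [h5]
      group
    symm
    have h2 : ∑ g : H, (if h * g * c = g then (1 : ℂ) else 0) =
        ∑ g ∈ Finset.univ.filter (fun g : G => g ∈ H), (if u * (h : G) * g * (u⁻¹ * (c : G)) = g then (1 : ℂ) else 0) := by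
      rw [← Finset.sum_subtype_eq_sum_filter]
      refine Finset.sum_bij (fun g _ => (⟨g, g.2⟩ : {x // x ∈ H})) ?_ ?_ ?_ ?_
      · intro a _
        exact Finset.mem_subtype.2 (Finset.mem_univ _)
      · intro a _ b _ hab
        exact hab
      · intro x _
        exact ⟨x, Finset.mem_univ _, rfl⟩
      · intro g _
        have h3 : (u * (h : G) * g * (u⁻¹ * (c : G)) = g) ↔ (h * g * c = g) := by
          have h4 : u * (h : G) * g * (u⁻¹ * (c : G)) = ((h * g * c : H) : G) := by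
            have h5 : Commute u ((h * g : H) : G) := (hH _).1 (h * g).2
            push_cast at h5 ⊢
            calc u * (h : G) * g * (u⁻¹ * (c : G)) = (u * ((h : G) * g)) * u⁻¹ * c := by group
              _ = ((h : G) * g) * u * u⁻¹ * c := by rw [h5.eq]
              _ = _ := by group
          rw [h4]
          exact ⟨fun h => Subtype.ext h, fun h => by rw [h]⟩
        by_cases h4 : h * g * c = g
        · rw [if_pos h4, if_pos (h3.2 h4)]
        · rw [if_neg h4, if_neg (fun h5 => h4 (h3.1 h5))]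
    rw [h2]
    apply Finset.sum_subset (Finset.filter_subset _ _)
    intro g _ hg
    rw [if_neg]
    intro h3
    exact hg (Finset.mem_filter.2 ⟨Finset.mem_univ _, h1 g h3⟩)
  rw [← hαF, ← hβF]
  have h1 := Q.lin_F_eq_zero hM j (α := α + (-1 : ℂ) • β) (by
    intro c x
    rw [Pi.add_apply, Pi.add_apply, Pi.smul_apply, Pi.smul_apply, hαcf, hβcf]) (by
    intro c hc
    rw [Pi.add_apply, Pi.smul_apply, heq c hc, smul_eq_mul]
    ring)
  rw [lin_add_left, lin_smul_left] at h1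
  linear_combination -h1

/-- **Second main theorem** for projective indecomposables. -/
theorem PD.second (hM : IsPModular p M) (Q : PD hb) (hind : IsInducedBlock M H b B) {u : G} {k : ℕ}
    (hu : orderOf u = p ^ k) (hH : ∀ g, g ∈ H ↔ Commute u g) (j : Fin Q.n) {χ : IrrCharacter G} (hχ : χ ∉ B) :
    lin (χ : G → ℂ) (single u 1 * incH H (Q.F j)) = 0 := by
  classical
  haveI := Fintype.ofFinite G
  haveI := Fintype.ofFinite H
  have hcf : IsClassFunction H (fun c : H => (χ : G → ℂ) (u * (c : G))) :=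
    isClassFunction_section χ.2.isClassFunction (fun g hg => (hH g).1 hg)
  have h1 : lin (fun c : H => (χ : G → ℂ) (u * (c : G))) (Q.F j) =
      lin (blockPart b (fun c : H => (χ : G → ℂ) (u * (c : G)))) (Q.F j) := by
    conv_lhs => rw [← (Q.hF j).le, eq_sum_single (Q.F j), Finset.mul_sum, lin_sum]
    rw [lin_apply]
    refine Finset.sum_congr rfl fun c _ => ?_
    rw [blockPart_eq_lin hcf, show single c ((Q.F j).coeff c) = ((Q.F j).coeff c) • (single c 1 : GA H) by
      rw [MonoidAlgebra.smul_single, smul_eq_mul, mul_one], mul_smul_comm, lin_smul]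
  rw [lin_single_mul_eq, lin_incH, h1]
  apply Q.lin_F_eq_zero hM
  · intro c x
    exact finsum_mem_congr rfl fun ξ hξ => by rw [ξ.2.isClassFunction]
  · intro c hc
    rw [blockPart_section χ.2.isClassFunction (fun g hg => (hH g).1 hg)]
    exact second_main_idem hM hind hu (by rwa [Subgroup.orderOf_coe]) ((hH c).1 c.2) (fun g hg => (hH g).2 hg) hχ

end transfer

section main

open Cfsg.Agent.Lib.BlkIdem Cfsg.Agent.Lib.PairAlg Cfsg.Agent.Lib.PairMax
open Cfsg.Agent.Lib.BrauerPairs Cfsg.Agent.Lib.NormalPBlk Cfsg.Agent.Lib.DefPairs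
open Cfsg.Agent.Lib.BlkTransport Cfsg.Agent.Lib.BlkFus Cfsg.Agent.Lib.InducedPair
open Cfsg.Agent.Lib.PairCount Cfsg.Agent.Lib.AbFusion Cfsg.Agent.Lib.AbCount

variable {p : ℕ} [hp : Fact p.Prime] {M : Ideal AlgInt} [hMm : M.IsMaximal] [hchar : CharP (Kf M) p]
  {G : Type u} [Group G] [Finite G] {B : Set (IrrCharacter G)} {P : Subgroup G} {c : MonoidAlgebra (Kf M) G}

/-- equal degrees: all local ranks are one -/
theorem lq_one (hM : IsPModular p M) (h : AbMax p B P c) {n : ℕ} (hn : ∀ χ ∈ B, charDegree (χ : G → ℂ) = n)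
    {u : G} (hu : u ∈ P) : lq p P c (Subgroup.zpowers u) = 1 := by
  haveI := hMm.isPrime
  obtain ⟨k, hk⟩ := orderOf_mem h.pair.1 hu
  obtain ⟨H, hHdef⟩ : ∃ H : Subgroup G, H = Subgroup.centralizer ({u} : Set G) := ⟨_, rfl⟩
  have hH : ∀ g, g ∈ Subgroup.centralizer ({u} : Set G) ↔ Commute u g := fun g => by
    rw [Subgroup.mem_centralizer_singleton_iff]
    exact ⟨fun h => h.symm, fun h => h.symm⟩
  have hH' : ∀ g, g ∈ Subgroup.centralizer ({u} : Set G) ↔ Commute u⁻¹ g := fun g => by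
    rw [hH]
    exact ⟨fun h => h.inv_left, fun h => by simpa using h.inv_left⟩
  have hind := h.isInduced hM hu
  have hb := hind.1
  obtain ⟨Q⟩ := exists_PD hb
  obtain ⟨P₀⟩ := exists_PD h.blk
  obtain ⟨χ₀, hχ₀, hv⟩ := BlockDefect.exists_vmin (p := p) (isPBlock_nonempty h.blk)
  have hn0 : n ≠ 0 := by
    rw [← hn χ₀ hχ₀]
    exact (DefectZero.charDegree_pos χ₀.2).ne'
  have hG0 : (Nat.card G : ℂ) ≠ 0 := Nat.cast_ne_zero.2 Nat.card_pos.ne'
  have hp0 : (p : ℂ) ≠ 0 := Nat.cast_ne_zero.2 hM.1.ne_zero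
  have hn0' : (n : ℂ) ≠ 0 := Nat.cast_ne_zero.2 hn0
  have hloc : MemLocalRing M ((Nat.card G : ℂ) / ((n : ℂ) * (p : ℂ) ^ blockDefect p B)) := by
    have h1 : ((n : ℂ) * (p : ℂ) ^ blockDefect p B) = ((n * p ^ blockDefect p B : ℕ) : ℂ) := by push_cast; rfl
    have hpp : p ^ blockDefect p B ≠ 0 := pow_ne_zero _ hM.1.ne_zero
    rw [h1, loc_div_natCast_iff hM Nat.card_pos.ne' (mul_ne_zero hn0 hpp),
      Nat.factorization_mul hn0 hpp, Finsupp.add_apply, Nat.Prime.factorization_pow hM.1, Finsupp.single_eq_same,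
      BlockDefect.blockDefect_eq]
    have h2 : BlockDefect.vdeg p χ₀ = n.factorization p := by rw [BlockDefect.vdeg, hn χ₀ hχ₀]
    have h3 := BlockDefect.vmin_le_fact hM h.blk
    omega
  have hle : Q.n ≤ 1 := by
    apply Q.n_le_one hM
    intro j g
    by_cases hg : p ∣ orderOf g
    · rw [Q.Ph_sing hM j hg, zero_div]
      exact loc_zero
    · rw [Q.transfer hM hk hH j hg, h.blockDefect_eq hM hu]
      have h1 := P₀.lattice hM hn (y := single u⁻¹ 1 * incH _ (Q.F j)) (y' := single (u * (g : G)) 1)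
        (locA_mul (locA_single loc_one) (locA_incH (Q.hF j).loc)) (locA_single loc_one)
        (fun χ hχ => Q.second hM hind (u := u⁻¹) (by rw [orderOf_inv]; exact hk) hH' j hχ)
      have h2 := loc_mul h1 hloc
      have h3 : (n : ℂ) / (Nat.card G : ℂ) * (∑ χ : IrrCharacter G, lin (χ : G → ℂ) (single u⁻¹ 1 * incH _ (Q.F j)) *
          lin (χ : G → ℂ) (single (u * (g : G)) 1)) * ((Nat.card G : ℂ) / ((n : ℂ) * (p : ℂ) ^ blockDefect p B)) =
          (∑ χ : IrrCharacter G, (χ : G → ℂ) (u * (g : G)) * lin (χ : G → ℂ) (single u⁻¹ 1 * incH _ (Q.F j))) /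
            (p : ℂ) ^ blockDefect p B := by
        have h4 : ∑ χ : IrrCharacter G, lin (χ : G → ℂ) (single u⁻¹ 1 * incH _ (Q.F j)) *
            lin (χ : G → ℂ) (single (u * (g : G)) 1) =
            ∑ χ : IrrCharacter G, (χ : G → ℂ) (u * (g : G)) * lin (χ : G → ℂ) (single u⁻¹ 1 * incH _ (Q.F j)) := by
          refine Finset.sum_congr rfl fun χ _ => ?_
          rw [lin_single, one_mul, mul_comm]
        rw [h4]
        field_simp
      rw [h3] at h2
      exact h2
  rw [Q.n_eq hM] at hle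
  have h1 := h.lq_pos hu
  rw [lq_zpowers, lr] at h1 ⊢
  exact le_antisymm hle h1

/-- equal degrees and heights zero: `k(B) = |D|` -/
theorem card_of_equal (hM : IsPModular p M) (hB : IsPBlock M B) {n : ℕ} (hn : ∀ χ ∈ B, charDegree (χ : G → ℂ) = n)
    (h0 : ∀ χ ∈ B, blockHeight p B (χ : G → ℂ) = 0) : Nat.card B = p ^ blockDefect p B := by
  obtain ⟨P₀⟩ := exists_PD hB
  obtain ⟨i, hi, -, -⟩ := P₀.equal_degrees hM hn
  have hl : blockRank p B = 1 := by
    rw [← P₀.n_eq hM]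
    have h1 : Subsingleton (Fin P₀.n) := ⟨fun a b => by rw [hi a, hi b]⟩
    have h2 := Fin.subsingleton_iff_le_one.1 h1
    have h3 : 0 < P₀.n := i.pos
    omega
  obtain ⟨f, a, hf, ha, hdeg, hsum, hcon, hht⟩ := H76Rank1.rank_one hM hB hl
  obtain ⟨χ₀, hχ₀⟩ := isPBlock_nonempty hB
  have hconst : ∀ χ ∈ B, a χ = a χ₀ := by
    intro χ hχ
    have h1 := hdeg χ hχ
    have h2 := hdeg χ₀ hχ₀
    rw [deg_cast, hn χ hχ] at h1
    rw [deg_cast, hn χ₀ hχ₀, h1] at h2
    have h3 : a χ * f = a χ₀ * f := by exact_mod_cast h2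
    exact Nat.eq_of_mul_eq_mul_right hf h3
  have hfin : B.Finite := Set.toFinite B
  have h4 : Nat.card B * a χ₀ ^ 2 = p ^ blockDefect p B := by
    rw [← hsum, finsum_mem_congr rfl (fun χ hχ => by rw [hconst χ hχ]), finsum_mem_eq_finite_toFinset_sum _ hfin,
      Finset.sum_const, smul_eq_mul, Nat.card_coe_set_eq, Set.ncard_eq_toFinset_card B hfin]
  have h5 : a χ₀ ∣ p ^ blockDefect p B := by
    rw [← h4, pow_two, ← mul_assoc]
    exact Dvd.intro_left _ rfl
  obtain ⟨e, -, he⟩ := (Nat.dvd_prime_pow hM.1).1 h5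
  have h6 : e = 0 := by
    by_contra hne
    apply hht χ₀ hχ₀ (h0 χ₀ hχ₀)
    rw [he]
    exact dvd_pow_self p hne
  rw [← h4, he, h6, pow_zero, one_pow, mul_one]

/-- **Okuyama-Tsushima**, for abelian defect groups and heights zero. -/
theorem nilpotent_of_equal (hM : IsPModular p M) (h : AbMax p B P c) {n : ℕ}
    (hn : ∀ χ ∈ B, charDegree (χ : G → ℂ) = n) (h0 : ∀ χ ∈ B, blockHeight p B (χ : G → ℂ) = 0) :
    IsNilpotentBlock p M B := by
  apply h.isNilpotentBlock
  apply H76Nil.trivial_of_card hM h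
  · rw [card_of_equal hM h.blk hn h0, h.card_P hM]
  · intro u hu
    exact lq_one hM h hn hu

theorem equal_of_nilpotent (hM : IsPModular p M) (h : AbMax p B P c) (hn : IsNilpotentBlock p M B) :
    ∃ d : ℕ, ∀ χ ∈ B, charDegree (χ : G → ℂ) = d := by
  have h1 := AbMax.nilpotent hM _ le_rfl h (fun t ht x hx => by
    have h1 := AbSec.TT_le_of_nilpotent hM h hn ht
    rw [Subgroup.mem_centralizer_iff] at h1
    rw [← h1 x hx]
    group)
  obtain ⟨f, a, hf, ha, hdeg, hsum, hcon, -⟩ := H76Rank1.rank_one hM h.blk h1.1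
  have hfin : B.Finite := Set.toFinite B
  have hk : Nat.card B = p ^ blockDefect p B := by rw [h1.2, h.card_P hM]
  have ha1 : ∀ χ ∈ B, a χ = 1 := by
    intro χ hχ
    by_contra hne
    have h2 : 1 < a χ := lt_of_le_of_ne (ha χ hχ) (Ne.symm hne)
    have h3 : ∑ᶠ χ ∈ B, a χ ^ 2 > ∑ᶠ χ ∈ B, 1 := by
      rw [finsum_mem_eq_finite_toFinset_sum _ hfin, finsum_mem_eq_finite_toFinset_sum _ hfin]
      apply Finset.sum_lt_sum
      · intro i hi
        have := ha i (hfin.mem_toFinset.1 hi)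
        nlinarith
      · exact ⟨χ, hfin.mem_toFinset.2 hχ, by nlinarith⟩
    rw [hsum, ← hk, finsum_mem_eq_finite_toFinset_sum _ hfin, Finset.sum_const, smul_eq_mul, mul_one,
      ← Set.ncard_eq_toFinset_card B hfin] at h3
    exact absurd h3 (by rw [Nat.card_coe_set_eq]; exact lt_irrefl _)
  refine ⟨f, fun χ hχ => ?_⟩
  have h2 := hdeg χ hχ
  rw [ha1 χ hχ, deg_cast, Nat.cast_one, one_mul] at h2
  exact_mod_cast h2

end main

end Cfsg.Agent.Lib.AbPim
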