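import Cfsg.Agent.Lib.LinChar

/-!
# Integral combinations of the linear characters of a finite abelian group (helper77)
-/

set_option autoImplicit false
set_option linter.all false

namespace Cfsg.Agent.Lib.AbFT

open scoped ComplexConjugate Classical

universe u v

variable {A : Type u} [Group A] [Finite A]

/-- the coefficients of a function at the linear characters -/
noncomputable def ft (f : A → ℂ) (θ : A →* ℂˣ) : ℂ :=
  haveI := Fintype.ofFinite A
  (Nat.card A : ℂ)⁻¹ * ∑ a : A, f a * conj (θ a : ℂ)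

theorem ft_def [Fintype A] (f : A → ℂ) (θ : A →* ℂˣ) :
    ft f θ = (Nat.card A : ℂ)⁻¹ * ∑ a : A, f a * conj (θ a : ℂ) := by
  rw [ft]
  congr!

theorem card_ne : (Nat.card A : ℂ) ≠ 0 := Nat.cast_ne_zero.2 Nat.card_pos.ne'

theorem ft_add (f g : A → ℂ) (θ : A →* ℂˣ) : ft (f + g) θ = ft f θ + ft g θ := by
  haveI := Fintype.ofFinite A
  simp only [ft_def, Pi.add_apply, add_mul, Finset.sum_add_distrib, mul_add]

theorem ft_smul (r : ℂ) (f : A → ℂ) (θ : A →* ℂˣ) : ft (r • f) θ = r * ft f θ := by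
  haveI := Fintype.ofFinite A
  simp only [ft_def, Pi.smul_apply, smul_eq_mul, mul_assoc, ← Finset.mul_sum]
  ring

theorem ft_neg (f : A → ℂ) (θ : A →* ℂˣ) : ft (-f) θ = -ft f θ := by
  rw [show -f = (-1 : ℂ) • f by simp, ft_smul]; ring

theorem ft_sub (f g : A → ℂ) (θ : A →* ℂˣ) : ft (f - g) θ = ft f θ - ft g θ := by
  rw [sub_eq_add_neg, ft_add, ft_neg]; ring

theorem ft_zero (θ : A →* ℂˣ) : ft (0 : A → ℂ) θ = 0 := by
  haveI := Fintype.ofFinite A
  simp [ft_def]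

theorem ft_sum {ι : Type*} (s : Finset ι) (f : ι → A → ℂ) (θ : A →* ℂˣ) :
    ft (∑ i ∈ s, f i) θ = ∑ i ∈ s, ft (f i) θ := by
  induction s using Finset.induction_on with
  | empty => simp [ft_zero]
  | insert i s hi ih => rw [Finset.sum_insert hi, Finset.sum_insert hi, ft_add, ih]

theorem ft_char (θ' θ : A →* ℂˣ) : ft (fun a => (θ' a : ℂ)) θ = if θ' = θ then 1 else 0 := by
  haveI := Fintype.ofFinite A
  rw [ft_def, LinChar.sum_mul_conj]
  split_ifs
  · exact inv_mul_cancel₀ card_ne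
  · exact mul_zero _

/-- integral combinations of linear characters (for abelian groups) -/
def IntF (f : A → ℂ) : Prop := ∀ θ : A →* ℂˣ, ∃ n : ℤ, ft f θ = n

theorem IntF.zero : IntF (0 : A → ℂ) := fun θ => ⟨0, by rw [ft_zero, Int.cast_zero]⟩

theorem IntF.add {f g : A → ℂ} (hf : IntF f) (hg : IntF g) : IntF (f + g) := by
  intro θ
  obtain ⟨n, hn⟩ := hf θ
  obtain ⟨m, hm⟩ := hg θ
  exact ⟨n + m, by rw [ft_add, hn, hm, Int.cast_add]⟩

theorem IntF.neg {f : A → ℂ} (hf : IntF f) : IntF (-f) := by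
  intro θ
  obtain ⟨n, hn⟩ := hf θ
  exact ⟨-n, by rw [ft_neg, hn, Int.cast_neg]⟩

theorem IntF.sub {f g : A → ℂ} (hf : IntF f) (hg : IntF g) : IntF (f - g) := by
  rw [sub_eq_add_neg]
  exact hf.add hg.neg

theorem IntF.smul {f : A → ℂ} (hf : IntF f) (m : ℤ) : IntF ((m : ℂ) • f) := by
  intro θ
  obtain ⟨n, hn⟩ := hf θ
  exact ⟨m * n, by rw [ft_smul, hn, Int.cast_mul]⟩

theorem IntF.sum {ι : Type*} (s : Finset ι) {f : ι → A → ℂ} (h : ∀ i ∈ s, IntF (f i)) :
    IntF (∑ i ∈ s, f i) := by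
  induction s using Finset.induction_on with
  | empty => rw [Finset.sum_empty]; exact IntF.zero
  | insert i s hi ih =>
    rw [Finset.sum_insert hi]
    exact (h i (Finset.mem_insert_self i s)).add (ih fun j hj => h j (Finset.mem_insert_of_mem hj))

theorem IntF.char (θ : A →* ℂˣ) : IntF (fun a => (θ a : ℂ)) := by
  intro θ'
  rw [ft_char]
  split_ifs
  · exact ⟨1, by simp⟩
  · exact ⟨0, by simp⟩

theorem inversion (hA : ∀ a b : A, a * b = b * a) [Fintype (A →* ℂˣ)] (f : A → ℂ) (a : A) :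
    f a = ∑ θ : A →* ℂˣ, ft f θ * (θ a : ℂ) := by
  haveI := Fintype.ofFinite A
  have h1 : ∑ θ : A →* ℂˣ, ft f θ * (θ a : ℂ) =
      (Nat.card A : ℂ)⁻¹ * ∑ b : A, f b * ∑ θ : A →* ℂˣ, (θ (a * b⁻¹) : ℂ) := by
    simp only [ft_def, Finset.mul_sum, Finset.sum_mul]
    rw [Finset.sum_comm]
    refine Finset.sum_congr rfl fun b _ => Finset.sum_congr rfl fun θ _ => ?_
    rw [LinChar.conj_coe, map_mul, map_inv, Units.val_mul]
    ring
  rw [h1]
  have h2 : ∀ b : A, f b * ∑ θ : A →* ℂˣ, (θ (a * b⁻¹) : ℂ) = if a = b then f b * (Nat.card A : ℂ) else 0 := by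
    intro b
    rw [LinChar.sum_chars hA, mul_inv_eq_one]
    split_ifs
    · rfl
    · rw [mul_zero]
  rw [Finset.sum_congr rfl fun b _ => h2 b, Finset.sum_ite_eq, if_pos (Finset.mem_univ a)]
  have := card_ne (A := A)
  field_simp

theorem parseval (hA : ∀ a b : A, a * b = b * a) [Fintype A] [Fintype (A →* ℂˣ)] (f g : A → ℂ) :
    (Nat.card A : ℂ)⁻¹ * ∑ a : A, f a * conj (g a) = ∑ θ : A →* ℂˣ, ft f θ * conj (ft g θ) := by
  have h1 : ∀ a : A, f a * conj (g a) = ∑ θ : A →* ℂˣ, conj (ft g θ) * (f a * conj (θ a : ℂ)) := by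
    intro a
    conv_lhs => rw [inversion hA g a]
    rw [map_sum, Finset.mul_sum]
    refine Finset.sum_congr rfl fun θ _ => ?_
    rw [map_mul]
    ring
  rw [Finset.sum_congr rfl fun a _ => h1 a, Finset.sum_comm, Finset.mul_sum]
  refine Finset.sum_congr rfl fun θ _ => ?_
  rw [← Finset.mul_sum, ft_def f θ]
  ring

/-- the function induced from a linear character of a subgroup -/
noncomputable def ind (H : Subgroup A) (w : H →* ℂˣ) : A → ℂ :=
  fun a => if h : a ∈ H then (H.index : ℂ) * (w ⟨a, h⟩ : ℂ) else 0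

theorem sum_dite_mem [Fintype A] (H : Subgroup A) [Fintype H] (F : (a : A) → a ∈ H → ℂ) :
    ∑ a : A, (if h : a ∈ H then F a h else 0) = ∑ a : H, F a a.2 := by
  rw [← Finset.sum_filter_add_sum_filter_not Finset.univ (fun a => a ∈ H)]
  have h1 : ∑ a ∈ Finset.univ.filter (fun a => ¬ a ∈ H), (if h : a ∈ H then F a h else 0) = 0 := by
    apply Finset.sum_eq_zero
    intro a ha
    rw [dif_neg (Finset.mem_filter.1 ha).2]
  rw [h1, add_zero]
  refine (Finset.sum_bij (fun (a : H) _ => (a : A)) ?_ ?_ ?_ ?_).symm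
  · intro a _
    exact Finset.mem_filter.2 ⟨Finset.mem_univ _, a.2⟩
  · intro a _ b _ h
    exact Subtype.ext h
  · intro a ha
    exact ⟨⟨a, (Finset.mem_filter.1 ha).2⟩, Finset.mem_univ _, rfl⟩
  · intro a _
    rw [dif_pos a.2]

theorem ft_ind (H : Subgroup A) (w : H →* ℂˣ) (θ : A →* ℂˣ) :
    ft (ind H w) θ = if w = θ.comp H.subtype then 1 else 0 := by
  haveI := Fintype.ofFinite A
  haveI := Fintype.ofFinite H
  rw [ft_def]
  have h1 : ∀ a : A, ind H w a * conj (θ a : ℂ) =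
      if h : a ∈ H then (H.index : ℂ) * ((w ⟨a, h⟩ : ℂ) * conj ((θ.comp H.subtype) ⟨a, h⟩ : ℂ)) else 0 := by
    intro a
    rw [ind]
    split_ifs with h
    · rw [mul_assoc]; rfl
    · rw [zero_mul]
  rw [Finset.sum_congr rfl fun a _ => h1 a, sum_dite_mem H (fun a h => (H.index : ℂ) * ((w ⟨a, h⟩ : ℂ) *
    conj ((θ.comp H.subtype) ⟨a, h⟩ : ℂ))), ← Finset.mul_sum, LinChar.sum_mul_conj]
  have h2 : (Nat.card H : ℂ) * (H.index : ℂ) = Nat.card A := by
    exact_mod_cast Subgroup.card_mul_index H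
  split_ifs
  · rw [mul_comm (H.index : ℂ), h2]
    exact inv_mul_cancel₀ card_ne
  · rw [mul_zero, mul_zero]

theorem IntF.ind (H : Subgroup A) (w : H →* ℂˣ) : IntF (AbFT.ind H w) := by
  intro θ
  rw [ft_ind]
  split_ifs
  · exact ⟨1, by simp⟩
  · exact ⟨0, by simp⟩

theorem index_mul_card (H : Subgroup A) : (H.index : ℤ) * (Nat.card H : ℤ) = Nat.card A := by
  exact_mod_cast Subgroup.index_mul_card H

theorem sum_split [Fintype A] (H : Subgroup A) [Fintype H] (F : A → ℂ) :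
    ∑ a : A, F a = ∑ a ∈ Finset.univ.filter (fun a => a ∉ H), F a + ∑ a : H, F a := by
  rw [← Finset.sum_filter_add_sum_filter_not Finset.univ (fun a => a ∈ H), add_comm]
  congr 1
  rw [← sum_dite_mem H (fun a _ => F a), Finset.sum_filter]
  refine Finset.sum_congr rfl fun a _ => ?_
  by_cases h : a ∈ H
  · rw [if_pos h, dif_pos h]
  · rw [if_neg h, dif_neg h]

/-- the arithmetic core -/
theorem core_arith {n S N : ℤ} (hn : 2 ≤ n) (h1 : n * S = n - 1 + N ^ 2) (h2 : |N| ≤ S) (h3 : 2 * |N| ≤ n) :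
    |N| = 1 := by
  obtain ⟨k, hk⟩ : ∃ k : ℤ, k = |N| := ⟨_, rfl⟩
  have hk2 : N ^ 2 = k ^ 2 := by rw [hk, sq_abs]
  rw [hk2] at h1
  rw [← hk] at h2 h3 ⊢
  have hk0 : 0 ≤ k := hk ▸ abs_nonneg N
  have h4 : n * k ≤ n * S := mul_le_mul_of_nonneg_left h2 (by omega)
  rw [h1] at h4
  have h5 : (k - 1) * n ≤ (k - 1) * (k + 1) := by nlinarith
  by_contra hne
  rcases lt_or_gt_of_ne hne with h | h
  · have hk00 : k = 0 := by omega
    subst hk00
    have h6 : n ∣ 1 := ⟨1 - S, by linear_combination h1⟩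
    have := Int.le_of_dvd one_pos h6
    omega
  · have h6 : n ≤ k + 1 := le_of_mul_le_mul_left h5 (by omega)
    omega

theorem int_sum_bound {ι : Type*} (s : Finset ι) (a : ι → ℤ) : |∑ i ∈ s, a i| ≤ ∑ i ∈ s, a i ^ 2 := by
  refine (Finset.abs_sum_le_sum_abs _ _).trans (Finset.sum_le_sum fun i _ => ?_)
  rw [← sq_abs]
  rcases (abs_nonneg (a i)).eq_or_lt with h | h
  · rw [← h]; norm_num
  · nlinarith

/-- **The core of the construction of local systems.** -/
theorem core (hA : ∀ a b : A, a * b = b * a) [Fintype A] {H : Subgroup A} (hH : H ≠ ⊤) {ρ : A → ℂ}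
    (hρ : IntF ρ) (w : H →* ℂˣ) (N : ℤ) (hN : ∀ h : H, ρ h = N * (w h : ℂ))
    (hnorm : ∑ a ∈ Finset.univ.filter (fun a => a ∉ H), ρ a * conj (ρ a) = (Nat.card A : ℂ) - Nat.card H) :
    ∃ s : ℤ, (s = 1 ∨ s = -1) ∧ (H.index ≤ 2 → s = 1) ∧ (H.index : ℤ) ∣ N - s := by
  haveI := Fintype.ofFinite H
  haveI := LinChar.finite_hom hA
  haveI := Fintype.ofFinite (A →* ℂˣ)
  have hn1 : H.index ≠ 1 := fun h => hH (Subgroup.index_eq_one.1 h)
  have hn0 : H.index ≠ 0 := Subgroup.FiniteIndex.index_ne_zero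
  obtain ⟨n, hn⟩ : ∃ n : ℤ, n = (H.index : ℤ) := ⟨_, rfl⟩
  have hn2 : 2 ≤ n := by omega
  -- choose the representative
  obtain ⟨m, N', hN', hbd⟩ : ∃ m N' : ℤ, N' = N - m * n ∧ 2 * |N'| ≤ n := by
    have h1 := Int.emod_nonneg N (show n ≠ 0 by omega)
    have h2 := Int.emod_lt_of_pos N (show 0 < n by omega)
    have h3 := Int.emod_add_mul_ediv N n
    by_cases h : 2 * (N % n) ≤ n
    · refine ⟨N / n, N % n, by linear_combination h3, ?_⟩
      rw [abs_of_nonneg h1]; exact h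
    · refine ⟨N / n + 1, N % n - n, by linear_combination h3, ?_⟩
      rw [abs_of_neg (by omega)]
      omega
  -- the corrected function
  obtain ⟨ρ', hρ'⟩ : ∃ ρ' : A → ℂ, ρ' = ρ - (m : ℂ) • ind H w := ⟨_, rfl⟩
  have hint : IntF ρ' := by rw [hρ']; exact hρ.sub ((IntF.ind H w).smul m)
  have hoff : ∀ a, a ∉ H → ρ' a = ρ a := by
    intro a ha
    rw [hρ', Pi.sub_apply, Pi.smul_apply, ind, dif_neg ha, smul_zero, sub_zero]
  have hon : ∀ a : H, ρ' a = N' * (w a : ℂ) := by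
    intro a
    rw [hρ', Pi.sub_apply, Pi.smul_apply, ind, dif_pos a.2, hN, hN', smul_eq_mul, hn]
    push_cast
    ring
  choose a ha using hint
  have hpar := parseval hA ρ' ρ'
  have hS : ∑ θ : A →* ℂˣ, ft ρ' θ * conj (ft ρ' θ) = ((∑ θ : A →* ℂˣ, a θ ^ 2 : ℤ) : ℂ) := by
    push_cast
    refine Finset.sum_congr rfl fun θ _ => ?_
    rw [ha, map_intCast]
    ring
  have hw : ∀ h : H, (w h : ℂ) * conj (w h : ℂ) = 1 := by
    intro h
    rw [LinChar.conj_coe, ← Units.val_mul, mul_inv_cancel, Units.val_one]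
  have hL : ∑ x : A, ρ' x * conj (ρ' x) = (Nat.card A : ℂ) - Nat.card H + Nat.card H * (N' : ℂ) ^ 2 := by
    rw [sum_split H]
    congr 1
    · rw [← hnorm]
      refine Finset.sum_congr rfl fun x hx => ?_
      rw [hoff x (Finset.mem_filter.1 hx).2]
    · have : ∀ x : H, ρ' x * conj (ρ' x) = (N' : ℂ) ^ 2 := by
        intro x
        rw [hon, map_mul, map_intCast]
        linear_combination (N' : ℂ) ^ 2 * hw x
      rw [Finset.sum_congr rfl fun x _ => this x, Finset.sum_const, Finset.card_univ, nsmul_eq_mul,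
        Nat.card_eq_fintype_card]
  rw [hS, hL] at hpar
  have hcA := card_ne (A := A)
  have hmain : n * (∑ θ : A →* ℂˣ, a θ ^ 2) = n - 1 + N' ^ 2 := by
    have h1 : ((Nat.card A : ℤ) : ℂ) * ((∑ θ : A →* ℂˣ, a θ ^ 2 : ℤ) : ℂ) =
        (((Nat.card A : ℤ) - Nat.card H + Nat.card H * N' ^ 2 : ℤ) : ℂ) := by
      rw [← hpar]
      push_cast
      rw [← mul_assoc, mul_inv_cancel₀ hcA, one_mul]
    have h2 : (Nat.card A : ℤ) * (∑ θ : A →* ℂˣ, a θ ^ 2) = (Nat.card A : ℤ) - Nat.card H + Nat.card H * N' ^ 2 := by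
      exact_mod_cast h1
    have h3 := index_mul_card H
    rw [← hn] at h3
    rw [← h3] at h2
    have h4 : (Nat.card H : ℤ) ≠ 0 := by exact_mod_cast Nat.card_pos.ne'
    apply mul_left_cancel₀ h4
    linear_combination h2
  have hsum : N' = ∑ θ : A →* ℂˣ, a θ := by
    have h1 := inversion hA ρ' 1
    have h2 := hon 1
    rw [map_one, Units.val_one, mul_one, Subgroup.coe_one] at h2
    rw [h2] at h1
    have : ∀ θ : A →* ℂˣ, ft ρ' θ * (θ 1 : ℂ) = ((a θ : ℤ) : ℂ) := by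
      intro θ
      rw [ha, map_one, Units.val_one, mul_one]
    rw [Finset.sum_congr rfl fun θ _ => this θ] at h1
    exact_mod_cast h1
  have habs : |N'| = 1 := by
    refine core_arith hn2 hmain ?_ hbd
    conv_lhs => rw [hsum]
    exact int_sum_bound _ _
  rw [← hn]
  by_cases h2 : n = 2
  · refine ⟨1, Or.inl rfl, fun _ => rfl, ?_⟩
    rcases (abs_eq (by norm_num : (0 : ℤ) ≤ 1)).1 habs with h | h
    · exact ⟨m, by rw [← sub_eq_zero]; linear_combination h - hN'⟩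
    · exact ⟨m - 1, by rw [← sub_eq_zero]; linear_combination h - hN' + h2⟩
  · refine ⟨N', (abs_eq (by norm_num : (0 : ℤ) ≤ 1)).1 habs, fun h => absurd h (by omega), m, ?_⟩
    rw [hN']; ring

/-- changing the values on a subgroup -/
theorem core2 {H : Subgroup A} {ρ : A → ℂ} (hρ : IntF ρ) (w : H →* ℂˣ) (N s : ℤ)
    (hN : ∀ h : H, ρ h = N * (w h : ℂ)) (hs : (H.index : ℤ) ∣ N - s) {η : A → ℂ}
    (hη1 : ∀ a, a ∉ H → η a = ρ a) (hη2 : ∀ a : H, η a = s * (w a : ℂ)) : IntF η := by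
  obtain ⟨m, hm⟩ := hs
  have : η = ρ - (m : ℂ) • ind H w := by
    funext a
    rw [Pi.sub_apply, Pi.smul_apply, ind]
    by_cases ha : a ∈ H
    · have h1 := hη2 ⟨a, ha⟩
      have h2 := hN ⟨a, ha⟩
      simp only at h1 h2
      have h3 : ((N : ℂ) - s) = (H.index : ℂ) * m := by exact_mod_cast hm
      rw [dif_pos ha, h1, h2, smul_eq_mul]
      linear_combination -(w ⟨a, ha⟩ : ℂ) * h3
    · rw [dif_neg ha, smul_zero, sub_zero, hη1 a ha]
  rw [this]
  exact hρ.sub ((IntF.ind H w).smul m)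

/-- integral functions supported on a subgroup -/
theorem index_dvd (hA : ∀ a b : A, a * b = b * a) {H : Subgroup A} {δ : A → ℂ} (hδ : IntF δ)
    (hoff : ∀ a, a ∉ H → δ a = 0) (w : H →* ℂˣ) (N : ℤ) (hN : ∀ h : H, δ h = N * (w h : ℂ)) :
    (H.index : ℤ) ∣ N := by
  haveI := Fintype.ofFinite A
  haveI := Fintype.ofFinite H
  obtain ⟨θ, hθ⟩ := LinChar.exists_extend hA H w
  obtain ⟨m, hm⟩ := hδ θ
  have h1 : ft δ θ = (Nat.card A : ℂ)⁻¹ * (Nat.card H * N) := by
    rw [ft_def]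
    congr 1
    have h2 : ∀ a : A, δ a * conj (θ a : ℂ) = if h : a ∈ H then (N : ℂ) else 0 := by
      intro a
      split_ifs with h
      · have := hN ⟨a, h⟩
        simp only at this
        have e := hθ ⟨a, h⟩
        simp only at e
        rw [this, ← e, mul_assoc, LinChar.conj_coe, ← Units.val_mul, mul_inv_cancel, Units.val_one, mul_one]
      · rw [hoff a h, zero_mul]
    rw [Finset.sum_congr rfl fun a _ => h2 a, sum_dite_mem H (fun _ _ => (N : ℂ)), Finset.sum_const,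
      Finset.card_univ, nsmul_eq_mul, Nat.card_eq_fintype_card (α := H)]
  rw [h1] at hm
  have h3 := index_mul_card H
  have hcA := card_ne (A := A)
  have h4 : ((Nat.card H : ℤ) : ℂ) * N = ((H.index : ℤ) : ℂ) * ((Nat.card H : ℤ) : ℂ) * m := by
    have : ((Nat.card A : ℤ) : ℂ) = ((H.index : ℤ) : ℂ) * ((Nat.card H : ℤ) : ℂ) := by exact_mod_cast h3.symm
    rw [← this]
    rw [← hm]
    push_cast
    field_simp
  have h5 : (Nat.card H : ℤ) * N = (H.index : ℤ) * (Nat.card H : ℤ) * m := by exact_mod_cast h4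
  have h6 : (Nat.card H : ℤ) ≠ 0 := by exact_mod_cast Nat.card_pos.ne'
  exact ⟨m, mul_left_cancel₀ h6 (by linear_combination h5)⟩

end Cfsg.Agent.Lib.AbFT
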