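import Cfsg.Agent.Lib.AbCol

/-!
# Blocks with abelian defect groups and free inertial action: the functions `ρ_χ` (helper77)
-/

set_option autoImplicit false
set_option linter.all false

namespace Cfsg.Agent.Lib.AbSec

open Cfsg Cfsg.Agent.Lib.BlockRing Cfsg.Agent.Lib.BlockGA Cfsg.Agent.Lib.BlockIdem
open Cfsg.Agent.Lib.BlkIdem Cfsg.Agent.Lib.BlockAlg Cfsg.Agent.Lib.PairAlg Cfsg.Agent.Lib.PairMax
open Cfsg.Agent.Lib.BrauerPairs Cfsg.Agent.Lib.NormalPBlk Cfsg.Agent.Lib.DefPairs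
open Cfsg.Agent.Lib.BlkTransport Cfsg.Agent.Lib.BlkFus Cfsg.Agent.Lib.InducedPair
open Cfsg.Agent.Lib.BlockCount Cfsg.Agent.Lib.BlockPair Cfsg.Agent.Lib.PairCount
open Cfsg.Agent.Lib.AbFusion Cfsg.Agent.Lib.AbCount Cfsg.Agent.Lib.BlockSecond
open Cfsg.Agent.Lib.CharBasic Cfsg.Agent.Lib.Contrib Cfsg.Agent.Lib.AbFT Cfsg.Agent.Lib.AbWeis
open MonoidAlgebra (single)
open scoped ComplexConjugate Classical

universe u v

variable {p : ℕ} [hp : Fact p.Prime] {M : Ideal AlgInt} [hMm : M.IsMaximal] [hchar : CharP (Kf M) p]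
  {G : Type u} [Group G] [Finite G] {B : Set (IrrCharacter G)} {P : Subgroup G} {c : MonoidAlgebra (Kf M) G}

/-- a maximal pair with abelian nontrivial `P` and free inertial action -/
structure FreeMax (p : ℕ) (B : Set (IrrCharacter G)) (P : Subgroup G) (c : MonoidAlgebra (Kf M) G) : Prop where
  max : AbMax p B P c
  ne : P ≠ ⊥
  free : ∀ t ∈ TT P c, ∀ x ∈ P, x ≠ 1 → t * x * t⁻¹ = x → t ∈ Cn P

theorem FreeMax.fr (h : FreeMax p B P c) {R : Subgroup G} (hR : R ≤ P) (hne : R ≠ ⊥) : TT P c ⊓ Cn R ≤ Cn P := by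
  intro t ht
  obtain ⟨x, hx, hx1⟩ : ∃ x ∈ R, x ≠ 1 := by
    by_contra hcon
    push Not at hcon
    exact hne ((Subgroup.eq_bot_iff_forall R).2 hcon)
  apply h.free t (Subgroup.mem_inf.1 ht).1 x (hR hx) hx1
  have := Subgroup.mem_centralizer_iff.1 (Subgroup.mem_inf.1 ht).2 x hx
  rw [← this, mul_inv_cancel_right]

theorem Cn_le_TT (h : AbMax p B P c) : Cn P ≤ TT P c := by
  intro g hg
  refine ⟨?_, h.pair.2.mem.2 g hg⟩
  exact mem_normalizer_of_cg (cg_of_mem_centralizer hg)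

/-- the inertial index -/
noncomputable def ei (P : Subgroup G) (c : MonoidAlgebra (Kf M) G) : ℕ := (Cn P).relIndex (TT P c)

theorem ei_ne_zero : ei P c ≠ 0 := Subgroup.FiniteIndex.index_ne_zero

theorem card_TT (h : AbMax p B P c) : Nat.card (TT P c) = ei P c * Nat.card (Cn P) := by
  have h1 := Subgroup.card_mul_index ((Cn P).subgroupOf (TT P c))
  rw [card_subgroupOf_eq (Cn_le_TT h)] at h1
  rw [← h1, ei, Subgroup.relIndex, mul_comm]

theorem zpowers_ne_bot {v : G} (hv : v ≠ 1) : Subgroup.zpowers v ≠ ⊥ := by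
  rwa [Ne, Subgroup.zpowers_eq_bot]

/-- the functions `ρ_χ` and the signs -/
structure RhoSys (p : ℕ) (P : Subgroup G) (c : MonoidAlgebra (Kf M) G) (ε : Subgroup G → ℤ)
    (ρ : IrrCharacter G → P → ℂ) : Prop where
  sgn : ∀ R, ε R = 1 ∨ ε R = -1
  stab : ∀ t ∈ TT P c, ∀ R : Subgroup G, R ≤ P → R ≠ ⊥ → ε (cg t R) = ε R
  int : ∀ χ, IntF (ρ χ)
  val : ∀ χ, ∀ v : P, v ≠ 1 → ρ χ v = (ε (Subgroup.zpowers (v : G)) : ℂ) *
    Dh p P c (Subgroup.zpowers (v : G)) (χ : G → ℂ) v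

theorem exists_rhoSys (hM : IsPModular p M) (h : FreeMax p B P c) :
    ∃ ε ρ, RhoSys (M := M) p P c ε ρ := by
  obtain ⟨ε, h1, h2, h3⟩ := exists_ls hM h.max
  obtain ⟨μ, hμ1, hμ⟩ := exists_mu (⊥ : Subgroup G)
  refine ⟨ε, fun χ => -∑ R ∈ (ivl ⊥ P).erase ⊥, (μ R : ℂ) • eta p P c ε R (χ : G → ℂ), h1, ?_, ?_, ?_⟩
  · intro t ht R hR hne
    exact ls_stable hM h.max h1 h2 h3 hR (h.fr hR hne) ht
  · intro χ
    apply IntF.neg
    apply IntF.sum
    intro R hR
    rw [mem_erase_ivl] at hR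
    exact (h3 R hR.2 (h.fr hR.2 hR.1.ne') _ (χ.2.isGeneralized.comp (Cn R).subtype)).smul (μ R)
  · intro χ v hv
    rw [Pi.neg_apply, Finset.sum_apply]
    have hv' : (v : G) ∉ (⊥ : Subgroup G) := by
      rw [Subgroup.mem_bot]
      exact fun h' => hv (Subtype.ext h')
    have := weis1 (bot_le : (⊥ : Subgroup G) ≤ P) hμ1 hμ v.2 hv' (fun S => (ε S : ℂ) * Dh p P c S (χ : G → ℂ) v)
    rw [bot_sup_eq] at this
    exact this

section rho

variable {ε : Subgroup G → ℤ} {ρ : IrrCharacter G → P → ℂ}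

theorem RhoSys.stable (hM : IsPModular p M) (h : FreeMax p B P c) (hr : RhoSys (M := M) p P c ε ρ)
    (χ : IrrCharacter G) {t : G} (ht : t ∈ TT P c) (v : P) : ρ χ (autP ht v) = ρ χ v := by
  by_cases hv : v = 1
  · rw [hv, map_one]
  · have hv' : (v : G) ≠ 1 := fun h' => hv (Subtype.ext h')
    have hv2 : autP ht v ≠ 1 := by
      intro h'
      apply hv
      apply (autP_bij ht).1
      rw [h', map_one]
    rw [hr.val χ _ hv2, hr.val χ v hv, autP_apply, ← cg_zpowers, hr.stab t ht _ (zpowers_le_of v.2) (zpowers_ne_bot hv'),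
      Dh_classFun hM h.max ht (zpowers_le_of v.2) (h.fr (zpowers_le_of v.2) (zpowers_ne_bot hv')) χ.2.isClassFunction]

/-- characters outside the block do not contribute -/
theorem bl_zero (hM : IsPModular p M) (h : AbMax p B P c) {χ : IrrCharacter G} (hχ : χ ∉ B) {v : G} (hv : v ∈ P) :
    bl p P c (Subgroup.zpowers v) (χ : G → ℂ) v = 0 := by
  haveI : M.IsPrime := hMm.isPrime
  obtain ⟨k, hk⟩ := orderOf_mem h.pair.1 hv
  have h0 := h.isInduced hM hv
  have h1 := lin_eq_zero_of_not_induced (B := blockOf M (χ : G → ℂ)) hM (isPBlock_blockOf χ)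
    (f := (χ : G → ℂ)) (Submodule.subset_span ⟨χ, mem_blockOf_self χ, rfl⟩) hk (x := 1) not_dvd_one
    (Commute.one_right _) (b := bu p P c v) h0.1 (by
      intro h3
      have h5 : B = blockOf M (χ : G → ℂ) := BlockInd.induced_unique h0 h3
      exact hχ (h5 ▸ mem_blockOf_self χ))
  rw [mul_one] at h1
  rw [bl]
  convert h1 using 2
  congr 1
  show cid _ (blkOf M _ _) = incH _ (eB (blkOf M _ _))
  have hC := SubsecNorm.centralizer_zpowers v
  rw [hC]
  rfl

theorem RhoSys.zero (hM : IsPModular p M) (h : FreeMax p B P c) (hr : RhoSys (M := M) p P c ε ρ)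
    {χ : IrrCharacter G} (hχ : χ ∉ B) {v : P} (hv : v ≠ 1) : ρ χ v = 0 := by
  rw [hr.val χ v hv, Dh, bl_zero hM h.max hχ v.2, zero_div, mul_zero]

theorem sgn_mul_self (hr : RhoSys (M := M) p P c ε ρ) (R : Subgroup G) : (ε R : ℂ) * (ε R : ℂ) = 1 := by
  rcases hr.sgn R with h | h <;> rw [h] <;> norm_num

/-- columns -/
theorem RhoSys.col (hM : IsPModular p M) (h : FreeMax p B P c) (hr : RhoSys (M := M) p P c ε ρ) [Fintype G]
    {v w : P} (hv : v ≠ 1) (hw : w ≠ 1) :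
    ∑ χ : IrrCharacter G, ρ χ v * conj (ρ χ w) =
      if ∃ t ∈ TT P c, t * (w : G) * t⁻¹ = v then (Nat.card P : ℂ) else 0 := by
  have hv' : (v : G) ≠ 1 := fun h' => hv (Subtype.ext h')
  have hw' : (w : G) ≠ 1 := fun h' => hw (Subtype.ext h')
  have hNv := nil_of_fr hM h.max (zpowers_le_of v.2) (h.fr (zpowers_le_of v.2) (zpowers_ne_bot hv'))
  have hNw := nil_of_fr hM h.max (zpowers_le_of w.2) (h.fr (zpowers_le_of w.2) (zpowers_ne_bot hw'))
  obtain ⟨n, hn0, hn⟩ := ph_one_nat hM h.max (zpowers_le_of v.2) hNv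
  obtain ⟨m, hm0, hm⟩ := ph_one_nat hM h.max (zpowers_le_of w.2) hNw
  have h1 := col_main hM h.max v.2 w.2
  have h2 : ∀ χ : IrrCharacter G, ρ χ v * conj (ρ χ w) =
      ((ε (Subgroup.zpowers (v : G)) : ℂ) * (ε (Subgroup.zpowers (w : G)) : ℂ) / ((n : ℂ) * m)) *
      (lin (χ : G → ℂ) (single (v : G) 1 * eh p P c (Subgroup.zpowers (v : G))) *
        conj (lin (χ : G → ℂ) (single (w : G) 1 * eh p P c (Subgroup.zpowers (w : G))))) := by
    intro χ
    rw [hr.val χ v hv, hr.val χ w hw, Dh, Dh, hn, hm, map_mul, map_div₀, map_intCast, Complex.conj_natCast, bl, bl]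
    ring
  rw [Finset.sum_congr rfl fun χ _ => h2 χ, ← Finset.mul_sum, h1]
  split_ifs with hex
  · obtain ⟨t, ht, htw⟩ := hex
    have e1 : cg t (Subgroup.zpowers (w : G)) = Subgroup.zpowers (v : G) := by rw [cg_zpowers, htw]
    have e2 : ε (Subgroup.zpowers (v : G)) = ε (Subgroup.zpowers (w : G)) := by
      rw [← e1]
      exact hr.stab t ht _ (zpowers_le_of w.2) (zpowers_ne_bot hw')
    have e3 : (n : ℂ) = m := by
      rw [← hn, ← hm, ← e1]
      exact ph_cg hM h.max ht (zpowers_le_of w.2) (h.fr (zpowers_le_of w.2) (zpowers_ne_bot hw'))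
    rw [ph_sq hM h.max (zpowers_le_of v.2) hNv, hn, e2, sgn_mul_self hr, ← e3]
    have : (n : ℂ) ≠ 0 := Nat.cast_ne_zero.2 hn0
    field_simp
  · rw [mul_zero]

/-- `p`-singular columns are orthogonal to the `p`-regular ones -/
theorem RhoSys.col_reg (hM : IsPModular p M) (h : FreeMax p B P c) (hr : RhoSys (M := M) p P c ε ρ) [Fintype G]
    {v : P} (hv : v ≠ 1) {x : G} (hx : ¬ p ∣ orderOf x) :
    ∑ χ : IrrCharacter G, ρ χ v * conj ((χ : G → ℂ) x) = 0 := by
  have hv' : (v : G) ≠ 1 := fun h' => hv (Subtype.ext h')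
  have h2 : ∀ χ : IrrCharacter G, ρ χ v * conj ((χ : G → ℂ) x) =
      ((ε (Subgroup.zpowers (v : G)) : ℂ) / ph p P c (Subgroup.zpowers (v : G)) 1) *
      (lin (χ : G → ℂ) (single (v : G) 1 * eh p P c (Subgroup.zpowers (v : G))) * conj ((χ : G → ℂ) x)) := by
    intro χ
    rw [hr.val χ v hv, Dh, bl]
    ring
  rw [Finset.sum_congr rfl fun χ _ => h2 χ, ← Finset.mul_sum, col_gen]
  have h3 : ∀ y : G, (single (v : G) (1 : ℂ) * eh p P c (Subgroup.zpowers (v : G))).coeff (y * x * y⁻¹) = 0 := by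
    intro y
    by_contra hne
    obtain ⟨a1, a2⟩ := supp_veh hM h.max v.2 hne
    have hx' : ¬ p ∣ orderOf (y * x * y⁻¹) := by rwa [orderOf_conj_dvd]
    have := ppart_unique h.max (w := 1) (orderOf_mem h.max.pair.1 v.2) ⟨0, by simp⟩ a1 a2 (Commute.one_left _)
      (by rw [inv_one, one_mul]; exact hx')
    exact hv' this
  rw [Finset.sum_congr rfl fun y _ => h3 y, Finset.sum_const_zero, mul_zero]

theorem eh_bot (h : AbMax p B P c) {Q : Subgroup G} (hQ : Q = ⊥) : eh p P c Q = eB B := by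
  subst hQ
  haveI : M.IsPrime := hMm.isPrime
  have hC : Subgroup.centralizer ((⊥ : Subgroup G) : Set G) = ⊤ := by
    ext x
    simp [Subgroup.mem_centralizer_iff]
  symm
  apply eq_eh h.pair bot_le
  · rw [hC]
    refine BrauerMap.mem_ZAlg.2 ⟨BrauerMap.mem_suppAlg_top _, ?_⟩
    rw [BrauerMap.mem_fixAlg_iff_coeff]
    intro x _ g
    exact (mem_center_iff.1 (eB_mem_center B)) g x
  · exact eB_mul_self B
  · exact locA_eB h.blk
  · rw [h.pr_of_central bot_le hC]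
    rfl

/-- rows -/
theorem RhoSys.row (hM : IsPModular p M) (h : FreeMax p B P c) (hr : RhoSys (M := M) p P c ε ρ) [Fintype G]
    [Fintype P] {χ ψ : IrrCharacter G} (hχ : χ ∈ B) (hψ : ψ ∈ B) :
    (Nat.card P : ℂ) * (ei P c : ℂ) * classInner (χ : G → ℂ) (ψ : G → ℂ) =
      (Nat.card P : ℂ) * (ei P c : ℂ) * contrib p (χ : G → ℂ) (ψ : G → ℂ) +
        ∑ v ∈ Finset.univ.filter (fun v : P => v ≠ 1), ρ χ v * conj (ρ ψ v) := by
  have hχs : (χ : G → ℂ) ∈ spn B := Submodule.subset_span ⟨χ, hχ, rfl⟩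
  have hψs : (ψ : G → ℂ) ∈ spn B := Submodule.subset_span ⟨ψ, hψ, rfl⟩
  rw [sec_formula hM h.max hχs ψ.2.isClassFunction, sum_mem_eq P, ← Finset.add_sum_erase _ _ (Finset.mem_univ (1 : P)),
    mul_add]
  have hcT := card_TT h.max
  have hC0 : (Nat.card (Cn P) : ℂ) ≠ 0 := Nat.cast_ne_zero.2 Nat.card_pos.ne'
  have hP0 : (Nat.card P : ℂ) ≠ 0 := Nat.cast_ne_zero.2 Nat.card_pos.ne'
  have he0 : (ei P c : ℂ) ≠ 0 := Nat.cast_ne_zero.2 ei_ne_zero
  congr 1
  · -- the trivial section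
    have hC1 : Subgroup.centralizer ({((1 : P) : G)} : Set G) = ⊤ := by
      ext x; simp [Subgroup.mem_centralizer_iff]
    rw [hC1, inf_top_eq, div_self (Nat.cast_ne_zero.2 Nat.card_pos.ne'), one_mul, contrib, pair_def,
      Subgroup.card_top, SB_eq]
    congr 2
    refine Finset.sum_congr rfl fun s _ => ?_
    by_cases hs : p ∣ orderOf s
    · rw [if_neg (fun h' => h'.2 hs), if_pos hs]
    · rw [if_pos ⟨Subgroup.mem_top s, hs⟩, if_neg hs, eh_bot h.max (by rw [Subgroup.coe_one, Subgroup.zpowers_one_eq_bot]),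
        lin_irr_eB, if_pos hχ, lin_irr_eB, if_pos hψ, lin_single, lin_single, Subgroup.coe_one, one_mul, one_mul, one_mul,
        ψ.2.isCharacter.inv]
  · rw [Finset.mul_sum]
    have : (Finset.univ.erase (1 : P)) = Finset.univ.filter (fun v : P => v ≠ 1) := by
      ext v; simp
    rw [this]
    refine Finset.sum_congr rfl fun v hv => ?_
    have hv1 : v ≠ 1 := (Finset.mem_filter.1 hv).2
    have hv' : (v : G) ≠ 1 := fun h' => hv1 (Subtype.ext h')
    have hfr := h.fr (zpowers_le_of v.2) (zpowers_ne_bot hv')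
    have hN := nil_of_fr hM h.max (zpowers_le_of v.2) hfr
    have hcl : ∀ {R : Subgroup G} (θ : IrrCharacter G), IsClassFunction (Cn R) (fun x : Cn R => (θ : G → ℂ) x) :=
      fun θ => θ.2.isClassFunction.restrict _
    have hJ := JJ_eq hM h.max (zpowers_le_of v.2) hN (hcl χ) (hcl ψ) (Subgroup.mem_zpowers (v : G))
    have hTC0 : TT P c ⊓ Cn (Subgroup.zpowers (v : G)) = Cn P :=
      le_antisymm hfr (le_inf (Cn_le_TT h.max)
        (Subgroup.centralizer_le (SetLike.coe_subset_coe.2 (zpowers_le_of v.2))))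
    have hTC : Nat.card (TT P c ⊓ Subgroup.centralizer ({(v : G)} : Set G) : Subgroup G) = Nat.card (Cn P) := by
      rw [← SubsecNorm.centralizer_zpowers, ← hTC0]
    have hJJ : ((Nat.card (Subgroup.centralizer ({(v : G)} : Set G)) : ℂ)⁻¹ *
        SB p (Subgroup.centralizer ({(v : G)} : Set G)) v (eh p P c (Subgroup.zpowers (v : G))) χ ψ) =
        JJ p P c (Subgroup.zpowers (v : G)) v χ ψ := by
      rw [JJ, ← SubsecNorm.centralizer_zpowers]
    rw [hTC, hJJ, hJ, hcT, hr.val χ v hv1, hr.val ψ v hv1, map_mul, map_intCast]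
    have := sgn_mul_self hr (Subgroup.zpowers (v : G))
    push_cast
    field_simp
    linear_combination (-(Dh p P c (Subgroup.zpowers (v : G)) (χ : G → ℂ) v *
      conj (Dh p P c (Subgroup.zpowers (v : G)) (ψ : G → ℂ) v))) * this

end rho

end Cfsg.Agent.Lib.AbSec
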