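import Cfsg.Agent.Lib.AbFree1
import Cfsg.Agent.Lib.Subsec

/-!
# Blocks with abelian defect groups and free inertial action: the vectors `y_θ` (helper77)
-/

set_option autoImplicit false
set_option linter.all false

namespace Cfsg.Agent.Lib.AbSec

open Cfsg Cfsg.Agent.Lib.BlockRing Cfsg.Agent.Lib.BlockGA Cfsg.Agent.Lib.BlockIdem
open Cfsg.Agent.Lib.BlkIdem Cfsg.Agent.Lib.BlockAlg Cfsg.Agent.Lib.PairAlg Cfsg.Agent.Lib.PairMax
open Cfsg.Agent.Lib.BrauerPairs Cfsg.Agent.Lib.NormalPBlk Cfsg.Agent.Lib.DefPairs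
open Cfsg.Agent.Lib.BlkTransport Cfsg.Agent.Lib.BlkFus Cfsg.Agent.Lib.InducedPair
open Cfsg.Agent.Lib.BlockCount Cfsg.Agent.Lib.BlockPair Cfsg.Agent.Lib.PairCount
open Cfsg.Agent.Lib.AbFusion Cfsg.Agent.Lib.AbCount Cfsg.Agent.Lib.BlockSecond
open Cfsg.Agent.Lib.CharBasic Cfsg.Agent.Lib.Contrib Cfsg.Agent.Lib.AbFT Cfsg.Agent.Lib.AbWeis
open MonoidAlgebra (single)
open scoped ComplexConjugate Classical

universe u v

/-- the indicator of a proposition -/
noncomputable def iv (q : Prop) : ℂ := if q then 1 else 0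

theorem iv_pos {q : Prop} (h : q) : iv q = 1 := if_pos h
theorem iv_neg {q : Prop} (h : ¬ q) : iv q = 0 := if_neg h
theorem iv_congr {q r : Prop} (h : q ↔ r) : iv q = iv r := by rw [propext h]

theorem fiber_count {T : Type*} [Group T] [Fintype T] (C : Subgroup T) {X : Type*} (f : T → X)
    (hf : ∀ t t', f t = f t' ↔ t * t'⁻¹ ∈ C) (y : X) :
    ∑ t : T, iv (f t = y) = (Nat.card C : ℂ) * iv (∃ t, f t = y) := by
  by_cases h : ∃ t, f t = y
  · rw [iv_pos h]
    obtain ⟨t0, rfl⟩ := h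
    have h1 : ∀ s : T, iv (f (s * t0) = f t0) = if s ∈ C then 1 else 0 := by
      intro s
      have : f (s * t0) = f t0 ↔ s ∈ C := by rw [hf, mul_inv_cancel_right]
      by_cases hs : s ∈ C
      · rw [if_pos hs, iv_pos (this.2 hs)]
      · rw [if_neg hs, iv_neg (fun h' => hs (this.1 h'))]
    rw [← Fintype.sum_equiv (Equiv.mulRight t0) _ _ (fun s => (h1 s).symm), ← Finset.sum_filter,
      Finset.sum_const, nsmul_eq_mul, mul_one, mul_one, Nat.card_eq_fintype_card, Fintype.card_subtype]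
  · rw [iv_neg h, mul_zero]
    apply Finset.sum_eq_zero
    intro t _
    rw [iv_neg (fun h' => h ⟨t, h'⟩)]

variable {p : ℕ} [hp : Fact p.Prime] {M : Ideal AlgInt} [hMm : M.IsMaximal] [hchar : CharP (Kf M) p]
  {G : Type u} [Group G] [Finite G] {B : Set (IrrCharacter G)} {P : Subgroup G} {c : MonoidAlgebra (Kf M) G}

/-- the action of the stabilizer on `P` -/
noncomputable def au (t : TT P c) : P →* P := autP t.2

theorem au_apply (t : TT P c) (v : P) : ((au t v : P) : G) = t * v * (t : G)⁻¹ := rfl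

theorem au_mul (s t : TT P c) : au (s * t) = (au s).comp (au t) := by
  apply MonoidHom.ext
  intro v
  apply Subtype.ext
  rw [MonoidHom.comp_apply, au_apply, au_apply, au_apply, Subgroup.coe_mul]
  group

theorem au_bij (t : TT P c) : Function.Bijective (au t) := autP_bij t.2

theorem comp_au_inj (t : TT P c) {θ θ' : P →* ℂˣ} (h : θ.comp (au t) = θ'.comp (au t)) : θ = θ' := by
  apply MonoidHom.ext
  intro v
  obtain ⟨w, rfl⟩ := (au_bij t).2 v
  exact DFunLike.congr_fun h w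

theorem au_eq_id {t : TT P c} (ht : (t : G) ∈ Cn P) : au t = MonoidHom.id P := by
  apply MonoidHom.ext
  intro v
  apply Subtype.ext
  rw [au_apply, MonoidHom.id_apply, ← Subgroup.mem_centralizer_iff.1 ht v v.2, mul_inv_cancel_right]

theorem P_comm (h : AbMax p B P c) (a b : P) : a * b = b * a :=
  Subtype.ext (Subgroup.mem_centralizer_iff.1 (h.ab b.2) a a.2)

/-- freeness on `P` -/
theorem FreeMax.free_P (h : FreeMax p B P c) {w : P} (hw : w ≠ 1) (t t' : TT P c) :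
    (t : G)⁻¹ * w * t = (t' : G)⁻¹ * w * t' ↔ t * t'⁻¹ ∈ (Cn P).subgroupOf (TT P c) := by
  rw [Subgroup.mem_subgroupOf, Subgroup.coe_mul, Subgroup.coe_inv]
  have hw' : (w : G) ≠ 1 := fun h' => hw (Subtype.ext h')
  constructor
  · intro he
    apply h.free _ (mul_mem t.2 (inv_mem t'.2)) w w.2 hw'
    calc (t : G) * (t' : G)⁻¹ * w * ((t : G) * (t' : G)⁻¹)⁻¹ = t * ((t' : G)⁻¹ * w * t') * (t : G)⁻¹ := by group
      _ = t * ((t : G)⁻¹ * w * t) * (t : G)⁻¹ := by rw [he]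
      _ = w := by group
  · intro hz
    have h1 := Subgroup.mem_centralizer_iff.1 hz w w.2
    calc (t : G)⁻¹ * w * t = (t : G)⁻¹ * (w * ((t : G) * (t' : G)⁻¹)) * t' := by group
      _ = (t : G)⁻¹ * ((t : G) * (t' : G)⁻¹ * w) * t' := by rw [h1]
      _ = _ := by group

/-- freeness on the dual of `P` -/
theorem FreeMax.free_dual' (h : FreeMax p B P c) {θ : P →* ℂˣ} (hθ : θ ≠ 1) {t : TT P c}
    (ht : θ.comp (au t) = θ) : (t : G) ∈ Cn P := by
  by_contra hc
  apply hθ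
  have hA := P_comm h.max
  obtain ⟨φ, hφ⟩ : ∃ φ : P →* P, ∀ v, φ v = v⁻¹ * au t v :=
    ⟨{ toFun := fun v => v⁻¹ * au t v
       map_one' := by simp
       map_mul' := by
        intro v w
        rw [map_mul, mul_inv_rev, mul_assoc, mul_assoc]
        rw [hA w⁻¹ _, mul_assoc, mul_assoc]
        congr 1
        rw [hA (au t w) w⁻¹] }, fun v => rfl⟩
  have hinj : Function.Injective φ := by
    rw [injective_iff_map_eq_one]
    intro v hv
    rw [hφ, inv_mul_eq_one] at hv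
    by_contra hv1
    apply hc
    apply h.free t t.2 v v.2 (fun h' => hv1 (Subtype.ext h'))
    rw [← au_apply, ← hv]
  have hsur := Finite.surjective_of_injective hinj
  apply MonoidHom.ext
  intro x
  obtain ⟨v, rfl⟩ := hsur x
  rw [hφ, map_mul, map_inv, MonoidHom.one_apply, inv_mul_eq_one]
  exact (DFunLike.congr_fun ht v).symm

theorem FreeMax.free_dual (h : FreeMax p B P c) {θ : P →* ℂˣ} (hθ : θ ≠ 1) (t t' : TT P c) :
    θ.comp (au t) = θ.comp (au t') ↔ t * t'⁻¹ ∈ (Cn P).subgroupOf (TT P c) := by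
  have e : t = t * t'⁻¹ * t' := by group
  constructor
  · intro he
    rw [Subgroup.mem_subgroupOf]
    apply h.free_dual' hθ
    apply comp_au_inj t'
    rw [MonoidHom.comp_assoc, ← au_mul, ← e, he]
  · intro hz
    rw [Subgroup.mem_subgroupOf] at hz
    conv_lhs => rw [e, au_mul, au_eq_id hz, MonoidHom.id_comp]

/-- conjugacy of linear characters -/
def rel (P : Subgroup G) (c : MonoidAlgebra (Kf M) G) (θ θ' : P →* ℂˣ) : Prop := ∃ t : TT P c, θ.comp (au t) = θ'

section rho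

variable {ε : Subgroup G → ℤ} {ρ : IrrCharacter G → P → ℂ}

/-- the coefficients of the vectors `y_θ` -/
noncomputable def yc (ρ : IrrCharacter G → P → ℂ) (θ : P →* ℂˣ) (χ : IrrCharacter G) : ℂ := ft (ρ χ) 1 - ft (ρ χ) θ

theorem yc_int (hr : RhoSys (M := M) p P c ε ρ) (θ : P →* ℂˣ) (χ : IrrCharacter G) : ∃ n : ℤ, yc ρ θ χ = n := by
  obtain ⟨n, hn⟩ := hr.int χ 1
  obtain ⟨m, hm⟩ := hr.int χ θ
  exact ⟨n - m, by rw [yc, hn, hm, Int.cast_sub]⟩

theorem yc_eq [Fintype P] (θ : P →* ℂˣ) (χ : IrrCharacter G) :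
    yc ρ θ χ = (Nat.card P : ℂ)⁻¹ * ∑ v ∈ Finset.univ.filter (fun v : P => v ≠ 1), ρ χ v * (1 - conj (θ v : ℂ)) := by
  have h1 : ∑ v ∈ Finset.univ.filter (fun v : P => v ≠ 1), ρ χ v * (1 - conj (θ v : ℂ)) =
      ∑ v : P, ρ χ v * (1 - conj (θ v : ℂ)) := by
    rw [Finset.sum_filter]
    refine Finset.sum_congr rfl fun v _ => ?_
    by_cases hv : v = 1
    · rw [if_neg (fun h' => h' hv), hv, map_one, Units.val_one, map_one, sub_self, mul_zero]
    · rw [if_pos hv]
  rw [h1, yc, ft_def, ft_def, ← mul_sub, ← Finset.sum_sub_distrib]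
  congr 1
  refine Finset.sum_congr rfl fun v _ => ?_
  rw [MonoidHom.one_apply, Units.val_one, map_one]
  ring

theorem yc_rel (hM : IsPModular p M) (h : FreeMax p B P c) (hr : RhoSys (M := M) p P c ε ρ) {θ θ' : P →* ℂˣ}
    (hθ : rel P c θ θ') (χ : IrrCharacter G) : yc ρ θ' χ = yc ρ θ χ := by
  obtain ⟨t, rfl⟩ := hθ
  rw [yc, yc]
  congr 1
  rw [← ft_comp (ρ χ) (au t) (au_bij t) θ]
  congr 1
  funext v
  exact (hr.stable hM h χ t.2 v).symm

theorem yc_zero (hM : IsPModular p M) (h : FreeMax p B P c) (hr : RhoSys (M := M) p P c ε ρ) (θ : P →* ℂˣ)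
    {χ : IrrCharacter G} (hχ : χ ∉ B) : yc ρ θ χ = 0 := by
  haveI := Fintype.ofFinite P
  rw [yc_eq]
  rw [Finset.sum_eq_zero, mul_zero]
  intro v hv
  rw [hr.zero hM h hχ (Finset.mem_filter.1 hv).2, zero_mul]

/-- orthogonality to the `p`-regular columns -/
theorem yc_reg (hM : IsPModular p M) (h : FreeMax p B P c) (hr : RhoSys (M := M) p P c ε ρ) (θ : P →* ℂˣ)
    {x : G} (hx : ¬ p ∣ orderOf x) : ∑ χ : IrrCharacter G, yc ρ θ χ * conj ((χ : G → ℂ) x) = 0 := by
  haveI := Fintype.ofFinite P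
  haveI := Fintype.ofFinite G
  have h1 : ∀ χ : IrrCharacter G, yc ρ θ χ * conj ((χ : G → ℂ) x) = (Nat.card P : ℂ)⁻¹ *
      ∑ v ∈ Finset.univ.filter (fun v : P => v ≠ 1), (1 - conj (θ v : ℂ)) * (ρ χ v * conj ((χ : G → ℂ) x)) := by
    intro χ
    rw [yc_eq, mul_assoc, Finset.sum_mul]
    congr 1
    exact Finset.sum_congr rfl fun v _ => by ring
  rw [Finset.sum_congr rfl fun χ _ => h1 χ, ← Finset.mul_sum, Finset.sum_comm]
  have h2 : ∀ v ∈ Finset.univ.filter (fun v : P => v ≠ 1),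
      ∑ χ : IrrCharacter G, (1 - conj (θ v : ℂ)) * (ρ χ v * conj ((χ : G → ℂ) x)) = 0 := by
    intro v hv
    rw [← Finset.mul_sum, hr.col_reg hM h (Finset.mem_filter.1 hv).2 hx, mul_zero]
  rw [Finset.sum_congr rfl h2, Finset.sum_const_zero, mul_zero]

/-- the number of elements of the stabilizer moving one character to another -/
theorem count_dual (h : FreeMax p B P c) [Fintype (TT P c)] {θ : P →* ℂˣ} (hθ : θ ≠ 1) (θ' : P →* ℂˣ) :
    ∑ t : TT P c, iv (θ.comp (au t) = θ') = (Nat.card (Cn P) : ℂ) * iv (rel P c θ θ') := by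
  rw [fiber_count ((Cn P).subgroupOf (TT P c)) (fun t : TT P c => θ.comp (au t)) (fun t t' => h.free_dual hθ t t') θ',
    card_subgroupOf_eq (Cn_le_TT h.max)]
  rfl

theorem count_P (h : FreeMax p B P c) [Fintype (TT P c)] {v w : P} (hv : v ≠ 1) :
    (Nat.card (Cn P) : ℂ) * iv (∃ t ∈ TT P c, t * (w : G) * t⁻¹ = v) = ∑ t : TT P c, iv (au t w = v) := by
  have h1 := fiber_count ((Cn P).subgroupOf (TT P c)) (fun t : TT P c => (t : G)⁻¹ * v * t)
    (fun t t' => h.free_P hv t t') (w : G)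
  rw [card_subgroupOf_eq (Cn_le_TT h.max)] at h1
  have h2 : ∀ t : TT P c, iv ((t : G)⁻¹ * v * t = w) = iv (au t w = v) := by
    intro t
    apply iv_congr
    constructor
    · intro he
      apply Subtype.ext
      rw [au_apply, ← he]
      group
    · intro he
      rw [← he, au_apply]
      group
  rw [← Finset.sum_congr rfl fun t _ => h2 t, h1]
  congr 1
  apply iv_congr
  constructor
  · rintro ⟨t, ht, he⟩
    exact ⟨⟨t, ht⟩, by rw [← he]; group⟩
  · rintro ⟨t, ht⟩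
    exact ⟨t, t.2, by rw [← ht]; group⟩

/-- **The Gram matrix of the vectors `y_θ`.** -/
theorem yc_gram (hM : IsPModular p M) (h : FreeMax p B P c) (hr : RhoSys (M := M) p P c ε ρ) {θ θ' : P →* ℂˣ}
    (hθ : θ ≠ 1) (hθ' : θ' ≠ 1) :
    ∑ χ : IrrCharacter G, yc ρ θ χ * yc ρ θ' χ = (ei P c : ℂ) + iv (rel P c θ θ') := by
  haveI := Fintype.ofFinite P
  haveI := Fintype.ofFinite G
  haveI := Fintype.ofFinite (TT P c)
  have hP0 : (Nat.card P : ℂ) ≠ 0 := Nat.cast_ne_zero.2 Nat.card_pos.ne'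
  have hC0 : (Nat.card (Cn P) : ℂ) ≠ 0 := Nat.cast_ne_zero.2 Nat.card_pos.ne'
  have hconj : ∀ χ : IrrCharacter G, yc ρ θ χ * yc ρ θ' χ = yc ρ θ χ * conj (yc ρ θ' χ) := by
    intro χ
    obtain ⟨n, hn⟩ := yc_int hr θ' χ
    rw [hn, map_intCast]
  have h1 : ∀ χ : IrrCharacter G, yc ρ θ χ * yc ρ θ' χ = (Nat.card P : ℂ)⁻¹ * (Nat.card P : ℂ)⁻¹ *
      ∑ v ∈ Finset.univ.filter (fun v : P => v ≠ 1), ∑ w ∈ Finset.univ.filter (fun v : P => v ≠ 1),
        ((1 - conj (θ v : ℂ)) * (1 - (θ' w : ℂ))) * (ρ χ v * conj (ρ χ w)) := by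
    intro χ
    rw [hconj, yc_eq, yc_eq, map_mul, map_inv₀, Complex.conj_natCast, map_sum, mul_mul_mul_comm, Finset.sum_mul_sum]
    congr 1
    refine Finset.sum_congr rfl fun v _ => Finset.sum_congr rfl fun w _ => ?_
    rw [map_mul, map_sub, map_one, Complex.conj_conj]
    ring
  rw [Finset.sum_congr rfl fun χ _ => h1 χ, ← Finset.mul_sum, Finset.sum_comm]
  have h2 : ∀ v ∈ Finset.univ.filter (fun v : P => v ≠ 1),
      ∑ χ : IrrCharacter G, ∑ w ∈ Finset.univ.filter (fun v : P => v ≠ 1),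
        ((1 - conj (θ v : ℂ)) * (1 - (θ' w : ℂ))) * (ρ χ v * conj (ρ χ w)) =
      ∑ w ∈ Finset.univ.filter (fun v : P => v ≠ 1), (Nat.card P : ℂ) * (Nat.card (Cn P) : ℂ)⁻¹ *
        ∑ t : TT P c, iv (au t w = v) * ((1 - conj (θ v : ℂ)) * (1 - (θ' w : ℂ))) := by
    intro v hv
    rw [Finset.sum_comm]
    refine Finset.sum_congr rfl fun w hw => ?_
    have hv1 := (Finset.mem_filter.1 hv).2
    have hw1 := (Finset.mem_filter.1 hw).2
    rw [← Finset.mul_sum, hr.col hM h hv1 hw1, ← Finset.sum_mul, ← count_P h hv1]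
    by_cases hex : ∃ t ∈ TT P c, t * (w : G) * t⁻¹ = v
    · rw [if_pos hex, iv_pos hex]
      field_simp
    · rw [if_neg hex, iv_neg hex]
      ring
  rw [Finset.sum_congr rfl h2, Finset.sum_comm]
  have h3 : ∀ w ∈ Finset.univ.filter (fun v : P => v ≠ 1),
      ∑ v ∈ Finset.univ.filter (fun v : P => v ≠ 1), (Nat.card P : ℂ) * (Nat.card (Cn P) : ℂ)⁻¹ *
        ∑ t : TT P c, iv (au t w = v) * ((1 - conj (θ v : ℂ)) * (1 - (θ' w : ℂ))) =
      (Nat.card P : ℂ) * (Nat.card (Cn P) : ℂ)⁻¹ * ∑ t : TT P c, (1 - conj ((θ.comp (au t)) w : ℂ)) * (1 - (θ' w : ℂ)) := by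
    intro w hw
    rw [← Finset.mul_sum, Finset.sum_comm]
    congr 1
    refine Finset.sum_congr rfl fun t _ => ?_
    rw [Finset.sum_eq_single (au t w)]
    · rw [iv_pos rfl, one_mul]
      rfl
    · intro v _ hv
      rw [iv_neg (Ne.symm hv), zero_mul]
    · intro h'
      exfalso
      apply h'
      refine Finset.mem_filter.2 ⟨Finset.mem_univ _, fun h' => (Finset.mem_filter.1 hw).2 ?_⟩
      apply (au_bij t).1
      rw [h', map_one]
  rw [Finset.sum_congr rfl h3, ← Finset.mul_sum, Finset.sum_comm]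
  have h4 : ∀ t : TT P c, ∑ w ∈ Finset.univ.filter (fun v : P => v ≠ 1),
      (1 - conj ((θ.comp (au t)) w : ℂ)) * (1 - (θ' w : ℂ)) = (Nat.card P : ℂ) +
        (Nat.card P : ℂ) * iv (θ.comp (au t) = θ') := by
    intro t
    have e1 : ∑ w ∈ Finset.univ.filter (fun v : P => v ≠ 1),
        (1 - conj ((θ.comp (au t)) w : ℂ)) * (1 - (θ' w : ℂ)) =
        ∑ w : P, (1 - conj ((θ.comp (au t)) w : ℂ)) * (1 - (θ' w : ℂ)) := by
      rw [Finset.sum_filter]
      refine Finset.sum_congr rfl fun w _ => ?_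
      by_cases hw : w = 1
      · rw [if_neg (fun h' => h' hw), hw, map_one θ', Units.val_one, sub_self, mul_zero]
      · rw [if_pos hw]
    have hne : θ.comp (au t) ≠ 1 := by
      intro h'
      apply hθ
      apply comp_au_inj t
      rw [h']
      rfl
    rw [e1]
    have e2 : ∀ w : P, (1 - conj ((θ.comp (au t)) w : ℂ)) * (1 - (θ' w : ℂ)) =
        1 - (θ' w : ℂ) - conj ((θ.comp (au t)) w : ℂ) + (θ' w : ℂ) * conj ((θ.comp (au t)) w : ℂ) := by
      intro w; ring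
    rw [Finset.sum_congr rfl fun w _ => e2 w, Finset.sum_add_distrib, Finset.sum_sub_distrib, Finset.sum_sub_distrib,
      LinChar.sum_mul_conj, LinChar.sum_hom, if_neg hθ', ← map_sum, LinChar.sum_hom, if_neg hne, map_zero,
      Finset.sum_const, Finset.card_univ, nsmul_eq_mul, mul_one, ← Nat.card_eq_fintype_card, sub_zero, sub_zero]
    congr 1
    by_cases hc : θ.comp (au t) = θ'
    · rw [iv_pos hc, if_pos hc.symm, mul_one]
    · rw [iv_neg hc, if_neg (fun h' => hc h'.symm), mul_zero]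
  rw [Finset.sum_congr rfl fun t _ => h4 t, Finset.sum_add_distrib, ← Finset.mul_sum, count_dual h hθ, Finset.sum_const,
    Finset.card_univ, nsmul_eq_mul, ← Nat.card_eq_fintype_card, card_TT h.max]
  push_cast
  field_simp

end rho

end Cfsg.Agent.Lib.AbSec
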