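import Cfsg.Agent.Lib.AbFree2
import Cfsg.Agent.Lib.AbComb

/-!
# Blocks with abelian defect groups and free inertial action: numbers of characters (helper77)
-/

set_option autoImplicit false
set_option linter.all false

namespace Cfsg.Agent.Lib.AbSec

open Cfsg Cfsg.Agent.Lib.BlockRing Cfsg.Agent.Lib.BlockGA Cfsg.Agent.Lib.BlockIdem
open Cfsg.Agent.Lib.BlkIdem Cfsg.Agent.Lib.BlockAlg Cfsg.Agent.Lib.PairAlg Cfsg.Agent.Lib.PairMax
open Cfsg.Agent.Lib.BrauerPairs Cfsg.Agent.Lib.NormalPBlk Cfsg.Agent.Lib.DefPairs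
open Cfsg.Agent.Lib.BlkTransport Cfsg.Agent.Lib.BlkFus Cfsg.Agent.Lib.InducedPair
open Cfsg.Agent.Lib.BlockCount Cfsg.Agent.Lib.BlockPair Cfsg.Agent.Lib.PairCount
open Cfsg.Agent.Lib.AbFusion Cfsg.Agent.Lib.AbCount Cfsg.Agent.Lib.BlockSecond
open Cfsg.Agent.Lib.CharBasic Cfsg.Agent.Lib.Contrib Cfsg.Agent.Lib.AbFT Cfsg.Agent.Lib.AbWeis
open MonoidAlgebra (single)
open scoped ComplexConjugate Classical

universe u v

variable {p : ℕ} [hp : Fact p.Prime] {M : Ideal AlgInt} [hMm : M.IsMaximal] [hchar : CharP (Kf M) p]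
  {G : Type u} [Group G] [Finite G] {B : Set (IrrCharacter G)} {P : Subgroup G} {c : MonoidAlgebra (Kf M) G}
  {ε : Subgroup G → ℤ} {ρ : IrrCharacter G → P → ℂ}

theorem rel_refl (θ : P →* ℂˣ) : rel P c θ θ := by
  refine ⟨1, ?_⟩
  have : (au (1 : TT P c)) = MonoidHom.id P := by
    apply au_eq_id
    rw [Subgroup.coe_one]
    exact one_mem _
  rw [this, MonoidHom.comp_id]

theorem rel_ne_one {θ θ' : P →* ℂˣ} (h : rel P c θ θ') (hθ : θ ≠ 1) : θ' ≠ 1 := by
  obtain ⟨t, rfl⟩ := h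
  intro h'
  apply hθ
  apply comp_au_inj t
  rw [h']
  rfl

/-- the size of an orbit of nontrivial characters -/
theorem card_rel (h : FreeMax p B P c) [Fintype (P →* ℂˣ)] {θ : P →* ℂˣ} (hθ : θ ≠ 1) :
    ∑ θ' : P →* ℂˣ, iv (rel P c θ θ') = (ei P c : ℂ) := by
  haveI := Fintype.ofFinite (TT P c)
  have hC0 : (Nat.card (Cn P) : ℂ) ≠ 0 := Nat.cast_ne_zero.2 Nat.card_pos.ne'
  apply mul_left_cancel₀ hC0
  rw [Finset.mul_sum, ← Finset.sum_congr rfl fun θ' _ => count_dual h hθ θ', Finset.sum_comm]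
  have h1 : ∀ t : TT P c, ∑ θ' : P →* ℂˣ, iv (θ.comp (au t) = θ') = 1 := by
    intro t
    rw [Finset.sum_eq_single (θ.comp (au t)) (fun θ' _ hne => iv_neg (Ne.symm hne))
      (fun h' => absurd (Finset.mem_univ _) h'), iv_pos rfl]
  rw [Finset.sum_congr rfl fun t _ => h1 t, Finset.sum_const, Finset.card_univ, nsmul_eq_mul, mul_one,
    ← Nat.card_eq_fintype_card, card_TT h.max]
  push_cast
  ring

/-- the integral vectors `y_θ` -/
noncomputable def yz (ρ : IrrCharacter G → P → ℂ) (θ : P →* ℂˣ) : IrrCharacter G → ℤ := fun χ =>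
  if h : ∃ n : ℤ, yc ρ θ χ = n then h.choose else 0

theorem yz_spec (hr : RhoSys (M := M) p P c ε ρ) (θ : P →* ℂˣ) (χ : IrrCharacter G) :
    ((yz ρ θ χ : ℤ) : ℂ) = yc ρ θ χ := by
  rw [yz, dif_pos (yc_int hr θ χ)]
  exact (yc_int hr θ χ).choose_spec.symm

theorem yz_gram (hM : IsPModular p M) (h : FreeMax p B P c) (hr : RhoSys (M := M) p P c ε ρ) {θ θ' : P →* ℂˣ}
    (hθ : θ ≠ 1) (hθ' : θ' ≠ 1) :
    ((∑ χ : IrrCharacter G, yz ρ θ χ * yz ρ θ' χ : ℤ) : ℂ) = (ei P c : ℂ) + iv (rel P c θ θ') := by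
  rw [← yc_gram hM h hr hθ hθ']
  push_cast
  refine Finset.sum_congr rfl fun χ _ => ?_
  rw [yz_spec hr, yz_spec hr]

theorem yz_eq_iff (hM : IsPModular p M) (h : FreeMax p B P c) (hr : RhoSys (M := M) p P c ε ρ) {θ θ' : P →* ℂˣ}
    (hθ : θ ≠ 1) (hθ' : θ' ≠ 1) : yz ρ θ = yz ρ θ' ↔ rel P c θ θ' := by
  constructor
  · intro he
    by_contra hne
    have h1 := yz_gram hM h hr hθ hθ'
    have h2 := yz_gram hM h hr hθ hθ
    rw [← he, h2, iv_pos (rel_refl θ), iv_neg hne] at h1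
    norm_num at h1
  · intro he
    funext χ
    have : ((yz ρ θ χ : ℤ) : ℂ) = yz ρ θ' χ := by
      rw [yz_spec hr, yz_spec hr, yc_rel hM h hr he]
    exact_mod_cast this

/-- the number of characters exceeds the rank by `(|P|-1)/e` -/
theorem k_sub_l (hM : IsPModular p M) (h : FreeMax p B P c) (hr : RhoSys (M := M) p P c ε ρ) :
    (ei P c : ℂ) * Nat.card B = (ei P c : ℂ) * blockRank p B + ((Nat.card P : ℂ) - 1) := by
  haveI := Fintype.ofFinite P
  haveI := Fintype.ofFinite G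
  have hP0 : (Nat.card P : ℂ) ≠ 0 := Nat.cast_ne_zero.2 Nat.card_pos.ne'
  have h1 := Subsec.trace_contrib hM h.max.blk
  have h2 : ∑ χ ∈ Subsec.fs B, (Nat.card P : ℂ) * (ei P c : ℂ) * classInner (χ : G → ℂ) (χ : G → ℂ) =
      ∑ χ ∈ Subsec.fs B, ((Nat.card P : ℂ) * (ei P c : ℂ) * contrib p (χ : G → ℂ) (χ : G → ℂ) +
        ∑ v ∈ Finset.univ.filter (fun v : P => v ≠ 1), ρ χ v * conj (ρ χ v)) :=
    Finset.sum_congr rfl fun χ hχ => hr.row hM h (Subsec.mem_fs.1 hχ) (Subsec.mem_fs.1 hχ)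
  have h5 : ∀ χ ∈ Subsec.fs B, (Nat.card P : ℂ) * (ei P c : ℂ) * classInner (χ : G → ℂ) (χ : G → ℂ) =
      (Nat.card P : ℂ) * (ei P c : ℂ) := by
    intro χ _
    rw [χ.2.classInner_self, mul_one]
  rw [Finset.sum_congr rfl h5, Finset.sum_const, Finset.sum_add_distrib, ← Finset.mul_sum, h1, Finset.sum_comm] at h2
  have h3 : ∀ v ∈ Finset.univ.filter (fun v : P => v ≠ 1), ∑ χ ∈ Subsec.fs B, ρ χ v * conj (ρ χ v) = (Nat.card P : ℂ) := by
    intro v hv
    have hv1 := (Finset.mem_filter.1 hv).2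
    have h4 := hr.col hM h hv1 hv1
    rw [if_pos ⟨1, one_mem _, by simp⟩] at h4
    rw [← h4]
    apply Finset.sum_subset (Finset.subset_univ _)
    intro χ _ hχ
    rw [hr.zero hM h (fun h' => hχ (Subsec.mem_fs.2 h')) hv1, zero_mul]
  rw [Finset.sum_congr rfl h3] at h2
  have h6 : ((Subsec.fs B).card : ℂ) = Nat.card B := by
    norm_cast
    rw [Nat.card_coe_set_eq, Set.ncard_eq_toFinset_card B (Set.toFinite B)]
  have h7 : ((Finset.univ.filter (fun v : P => v ≠ 1)).card : ℂ) = (Nat.card P : ℂ) - 1 := by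
    have : Finset.univ.filter (fun v : P => v ≠ 1) = Finset.univ.erase 1 := by ext v; simp
    rw [this, Finset.card_erase_of_mem (Finset.mem_univ _), Finset.card_univ, ← Nat.card_eq_fintype_card,
      Nat.cast_sub Nat.card_pos, Nat.cast_one]
  rw [Finset.sum_const, nsmul_eq_mul, nsmul_eq_mul, h6, h7] at h2
  apply mul_left_cancel₀ hP0
  linear_combination h2

/-- every character of the block occurs in some `y_θ` -/
theorem exists_yc_ne (hM : IsPModular p M) (h : FreeMax p B P c) (hr : RhoSys (M := M) p P c ε ρ)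
    {χ : IrrCharacter G} (hχ : χ ∈ B) : ∃ θ : P →* ℂˣ, θ ≠ 1 ∧ yc ρ θ χ ≠ 0 := by
  by_contra hcon
  push Not at hcon
  haveI := Fintype.ofFinite P
  haveI := Fintype.ofFinite G
  haveI := LinChar.finite_hom (P_comm h.max)
  haveI := Fintype.ofFinite (P →* ℂˣ)
  have h1 : ∀ θ : P →* ℂˣ, ft (ρ χ) θ = ft (ρ χ) 1 := by
    intro θ
    by_cases hθ : θ = 1
    · rw [hθ]
    · have := hcon θ hθ
      rw [yc, sub_eq_zero] at this
      exact this.symm
  have h2 : ∀ v : P, v ≠ 1 → ρ χ v = 0 := by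
    intro v hv
    rw [inversion (P_comm h.max) (ρ χ) v]
    have : ∀ θ : P →* ℂˣ, ft (ρ χ) θ * (θ v : ℂ) = ft (ρ χ) 1 * (θ v : ℂ) := fun θ => by rw [h1]
    rw [Finset.sum_congr rfl fun θ _ => this θ, ← Finset.mul_sum, LinChar.sum_chars (P_comm h.max), if_neg hv, mul_zero]
  have h3 := hr.row hM h hχ hχ
  rw [χ.2.classInner_self, Finset.sum_eq_zero (s := Finset.univ.filter (fun v : P => v ≠ 1))
    (fun v hv => by rw [h2 v (Finset.mem_filter.1 hv).2, zero_mul]), add_zero, mul_one] at h3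
  have hP0 : (Nat.card P : ℂ) ≠ 0 := Nat.cast_ne_zero.2 Nat.card_pos.ne'
  have he0 : (ei P c : ℂ) ≠ 0 := Nat.cast_ne_zero.2 ei_ne_zero
  have h4 : contrib p (χ : G → ℂ) (χ : G → ℂ) = 1 := by
    apply mul_left_cancel₀ (mul_ne_zero hP0 he0)
    rw [mul_one]
    exact h3.symm
  obtain ⟨m, hm1, -, -, -, -, -, -, -, hm2⟩ := exists_matrix hM h.max.blk
  have h5 := hm1 χ hχ χ hχ
  rw [h4, mul_one] at h5
  have h6 := hm2 χ hχ (by exact_mod_cast h5)
  have h7 := h.max.card_P hM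
  rw [h6, pow_zero] at h7
  exact h.ne (Subgroup.eq_bot_of_card_le P h7.le)

/-- **Numbers of characters for free inertial action.** -/
theorem free_main (hM : IsPModular p M) (h : FreeMax p B P c) :
    ∃ m : ℕ, 1 ≤ m ∧ ei P c * m = Nat.card P - 1 ∧ Nat.card B = blockRank p B + m ∧ Nat.card B ≤ ei P c + m ∧
      (ei P c ≤ 3 → ¬ (3 ≤ m ∧ m ≤ ei P c + 1) → Nat.card B = ei P c + m) := by
  obtain ⟨ε, ρ, hr⟩ := exists_rhoSys hM h
  haveI := Fintype.ofFinite P
  haveI := Fintype.ofFinite G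
  haveI := LinChar.finite_hom (P_comm h.max)
  haveI := Fintype.ofFinite (P →* ℂˣ)
  obtain ⟨S, hS⟩ : ∃ S : Finset (P →* ℂˣ), S = Finset.univ.filter (fun θ => θ ≠ 1) := ⟨_, rfl⟩
  have hSm : ∀ θ, θ ∈ S ↔ θ ≠ 1 := fun θ => by rw [hS]; simp
  obtain ⟨F, hF⟩ : ∃ F : Finset (IrrCharacter G → ℤ), F = S.image (yz ρ) := ⟨_, rfl⟩
  have hScard : (S.card : ℂ) = (Nat.card P : ℂ) - 1 := by
    have : S = Finset.univ.erase 1 := by rw [hS]; ext v; simp
    rw [this, Finset.card_erase_of_mem (Finset.mem_univ _), Finset.card_univ, ← Nat.card_eq_fintype_card,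
      LinChar.card_hom (P_comm h.max), Nat.cast_sub Nat.card_pos, Nat.cast_one]
  have hfib : ∀ v ∈ F, ((S.filter (fun θ => yz ρ θ = v)).card : ℂ) = ei P c := by
    intro v hv
    rw [hF, Finset.mem_image] at hv
    obtain ⟨θ0, hθ0, rfl⟩ := hv
    rw [hSm] at hθ0
    rw [← card_rel h hθ0, Finset.cast_card, Finset.sum_filter, hS, Finset.sum_filter]
    refine Finset.sum_congr rfl fun θ _ => ?_
    by_cases hθ : θ = 1
    · rw [if_neg (fun h' => h' hθ), iv_neg]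
      intro h'
      exact rel_ne_one h' hθ0 hθ
    · rw [if_pos hθ]
      by_cases hr' : rel P c θ0 θ
      · rw [if_pos ((yz_eq_iff hM h hr hθ0 hθ).2 hr').symm, iv_pos hr']
      · rw [if_neg (fun h' => hr' ((yz_eq_iff hM h hr hθ0 hθ).1 h'.symm)), iv_neg hr']
  have hcount : (ei P c : ℂ) * F.card = (Nat.card P : ℂ) - 1 := by
    rw [← hScard, Finset.card_eq_sum_card_fiberwise (f := yz ρ) (t := F)
      (fun θ hθ => by rw [hF]; exact Finset.mem_image_of_mem _ hθ)]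
    push_cast
    rw [Finset.sum_congr rfl hfib, Finset.sum_const, nsmul_eq_mul, mul_comm]
  have hP2 : 2 ≤ Nat.card P := by
    by_contra hcon
    exact h.ne (Subgroup.eq_bot_of_card_le P (by omega))
  have hcount' : ei P c * F.card = Nat.card P - 1 := by
    have : ((ei P c * F.card : ℕ) : ℂ) = ((Nat.card P - 1 : ℕ) : ℂ) := by
      push_cast [Nat.cast_sub (show 1 ≤ Nat.card P by omega)]
      exact hcount
    exact_mod_cast this
  have hm1 : 1 ≤ F.card := by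
    rcases Nat.eq_zero_or_pos F.card with h0 | h0
    · rw [h0, mul_zero] at hcount'
      omega
    · exact h0
  have hkl : Nat.card B = blockRank p B + F.card := by
    have h1 := k_sub_l hM h hr
    rw [← hcount] at h1
    have he0 : (ei P c : ℂ) ≠ 0 := Nat.cast_ne_zero.2 ei_ne_zero
    have h2 : (Nat.card B : ℂ) = blockRank p B + F.card := by
      apply mul_left_cancel₀ he0
      rw [h1]; ring
    exact_mod_cast h2
  -- the combinatorial data
  have g1 : ∀ v ∈ F, ∑ x, v x * v x = (ei P c : ℤ) + 1 := by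
    intro v hv
    rw [hF, Finset.mem_image] at hv
    obtain ⟨θ, hθ, rfl⟩ := hv
    rw [hSm] at hθ
    have := yz_gram hM h hr hθ hθ
    rw [iv_pos (rel_refl θ)] at this
    exact_mod_cast this
  have g2 : ∀ v ∈ F, ∀ w ∈ F, v ≠ w → ∑ x, v x * w x = (ei P c : ℤ) := by
    intro v hv w hw hvw
    rw [hF, Finset.mem_image] at hv hw
    obtain ⟨θ, hθ, rfl⟩ := hv
    obtain ⟨θ', hθ', rfl⟩ := hw
    rw [hSm] at hθ hθ'
    have := yz_gram hM h hr hθ hθ'
    rw [iv_neg (fun h' => hvw ((yz_eq_iff hM h hr hθ hθ').2 h')), add_zero] at this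
    exact_mod_cast this
  have hdegex : ∀ χ : IrrCharacter G, ∃ n : ℤ, 0 < n ∧ (χ : G → ℂ) 1 = n := by
    intro χ
    obtain ⟨n, hn0, hn⟩ := χ.2.exists_degree
    exact ⟨n, by exact_mod_cast hn0, by rw [hn]; norm_cast⟩
  choose deg hdeg hdegv using hdegex
  have g3 : ∀ v ∈ F, ∑ x, deg x * v x = 0 := by
    intro v hv
    rw [hF, Finset.mem_image] at hv
    obtain ⟨θ, hθ, rfl⟩ := hv
    have h1 := yc_reg hM h hr θ (x := 1) not_dvd_one
    have h2 : ((∑ x, deg x * yz ρ θ x : ℤ) : ℂ) = 0 := by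
      rw [← h1]
      push_cast
      refine Finset.sum_congr rfl fun χ _ => ?_
      rw [yz_spec hr, hdegv, map_intCast]
      ring
    exact_mod_cast h2
  have hsupp : (Finset.univ.filter fun x : IrrCharacter G => ∃ v ∈ F, v x ≠ 0).card = Nat.card B := by
    rw [Nat.card_coe_set_eq, Set.ncard_eq_toFinset_card B (Set.toFinite B)]
    congr 1
    ext χ
    simp only [Finset.mem_filter, Finset.mem_univ, true_and, Set.Finite.mem_toFinset]
    constructor
    · rintro ⟨v, hv, hne⟩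
      rw [hF, Finset.mem_image] at hv
      obtain ⟨θ, hθ, rfl⟩ := hv
      by_contra hχ
      apply hne
      have h1 := yc_zero hM h hr θ hχ
      rw [← yz_spec hr] at h1
      exact_mod_cast h1
    · intro hχ
      obtain ⟨θ, hθ, hne⟩ := exists_yc_ne hM h hr hχ
      refine ⟨yz ρ θ, by rw [hF]; exact Finset.mem_image_of_mem _ ((hSm θ).2 hθ), fun h' => hne ?_⟩
      rw [← yz_spec hr, h', Int.cast_zero]
  have he1 : 1 ≤ ei P c := Nat.pos_of_ne_zero ei_ne_zero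
  refine ⟨F.card, hm1, hcount', hkl, ?_, ?_⟩
  · rw [← hsupp]
    exact AbComb.card_le F (ei P c) he1 hm1 g1 g2 deg hdeg g3
  · intro he3 hex
    rw [← hsupp]
    exact AbComb.card_eq F (ei P c) he1 hm1 he3 hex g1 g2 deg hdeg g3

end Cfsg.Agent.Lib.AbSec
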