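import Mathlib

/-!
# Weisner's theorem for intervals of subgroups (helper77)
-/

set_option autoImplicit false
set_option linter.all false

namespace Cfsg.Agent.Lib.AbWeis

open scoped Classical

universe u

variable {G : Type u} [Group G] [Finite G]

/-- the interval of subgroups -/
noncomputable def ivl (Q P : Subgroup G) : Finset (Subgroup G) :=
  (Set.toFinite {R : Subgroup G | Q ≤ R ∧ R ≤ P}).toFinset

theorem mem_ivl {Q P R : Subgroup G} : R ∈ ivl Q P ↔ Q ≤ R ∧ R ≤ P := by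
  rw [ivl, Set.Finite.mem_toFinset, Set.mem_setOf_eq]

/-- the Möbius function of the lattice of subgroups, with its basic property -/
theorem exists_mu (Q : Subgroup G) : ∃ μ : Subgroup G → ℤ, μ Q = 1 ∧
    ∀ S : Subgroup G, Q < S → ∑ R ∈ ivl Q S, μ R = 0 := by
  haveI := Fintype.ofFinite (Subgroup G)
  letI : LocallyFiniteOrder (Subgroup G) := Fintype.toLocallyFiniteOrder
  refine ⟨fun R => IncidenceAlgebra.mu ℤ Q R, IncidenceAlgebra.mu_self Q, ?_⟩
  intro S hS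
  have h := IncidenceAlgebra.sum_Icc_mu_right (𝕜 := ℤ) Q S
  rw [if_neg hS.ne] at h
  rw [← h]
  apply Finset.sum_congr _ fun _ _ => rfl
  ext R
  rw [mem_ivl, Finset.mem_Icc]

/-- **Weisner's theorem.** -/
theorem weisner {Q : Subgroup G} {μ : Subgroup G → ℤ}
    (hμ : ∀ S : Subgroup G, Q < S → ∑ R ∈ ivl Q S, μ R = 0) {V : Subgroup G}
    (hV : ¬ V ≤ Q) (S : Subgroup G) :
    ∑ R ∈ (ivl Q S).filter (fun R => R ⊔ V = S), μ R = 0 := by
  induction S using WellFoundedLT.induction with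
  | ind S ih =>
    by_cases hVS : Q ⊔ V ≤ S
    · have h1 := hμ S (lt_of_lt_of_le (lt_of_le_of_ne le_sup_left fun h => hV
        ((le_sup_right : V ≤ Q ⊔ V).trans_eq h.symm)) hVS)
      have h2 : ∑ R ∈ ivl Q S, μ R =
          ∑ w ∈ ivl ⊥ S, ∑ R ∈ (ivl Q S).filter (fun R => R ⊔ V = w), μ R := by
        refine (Finset.sum_fiberwise_of_maps_to (g := fun R : Subgroup G => R ⊔ V) ?_ _).symm
        intro R hR
        have := mem_ivl.1 hR
        exact mem_ivl.2 ⟨bot_le, sup_le this.2 (le_sup_right.trans hVS)⟩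
      rw [h2, ← Finset.add_sum_erase _ _ (mem_ivl.2 ⟨bot_le, le_rfl⟩)] at h1
      have h3 : ∀ w : Subgroup G, w ≤ S →
          (ivl Q S).filter (fun R => R ⊔ V = w) = (ivl Q w).filter (fun R => R ⊔ V = w) := by
        intro w hw
        ext R
        simp only [Finset.mem_filter, mem_ivl]
        constructor
        · rintro ⟨⟨a, -⟩, b⟩
          exact ⟨⟨a, le_sup_left.trans b.le⟩, b⟩
        · rintro ⟨⟨a, c⟩, b⟩
          exact ⟨⟨a, c.trans hw⟩, b⟩
      rw [Finset.sum_eq_zero (s := (ivl ⊥ S).erase S), add_zero] at h1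
      · exact h1
      · intro w hw
        rw [Finset.mem_erase, mem_ivl] at hw
        rw [h3 w hw.2.2]
        exact ih w (lt_of_le_of_ne hw.2.2 hw.1)
    · apply Finset.sum_eq_zero
      intro R hR
      rw [Finset.mem_filter, mem_ivl] at hR
      exact absurd (sup_le (hR.1.1.trans hR.1.2) (le_sup_right.trans hR.2.le)) hVS

/-- the form of Weisner's theorem which is used -/
theorem weis0 {Q P : Subgroup G} {μ : Subgroup G → ℤ}
    (hμ : ∀ S : Subgroup G, Q < S → ∑ R ∈ ivl Q S, μ R = 0) {V : Subgroup G}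
    (hV : ¬ V ≤ Q) (hVP : V ≤ P) (Ψ : Subgroup G → ℂ) :
    ∑ R ∈ ivl Q P, (μ R : ℂ) * Ψ (R ⊔ V) = 0 := by
  have h2 : ∑ R ∈ ivl Q P, (μ R : ℂ) * Ψ (R ⊔ V) =
      ∑ w ∈ ivl ⊥ P, ∑ R ∈ (ivl Q P).filter (fun R => R ⊔ V = w), (μ R : ℂ) * Ψ (R ⊔ V) := by
    refine (Finset.sum_fiberwise_of_maps_to (g := fun R : Subgroup G => R ⊔ V) ?_ _).symm
    intro R hR
    have := mem_ivl.1 hR
    exact mem_ivl.2 ⟨bot_le, sup_le this.2 hVP⟩
  rw [h2]
  apply Finset.sum_eq_zero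
  intro w hw
  have h3 : (ivl Q P).filter (fun R => R ⊔ V = w) = (ivl Q w).filter (fun R => R ⊔ V = w) := by
    ext R
    simp only [Finset.mem_filter, mem_ivl]
    constructor
    · rintro ⟨⟨a, -⟩, b⟩
      exact ⟨⟨a, le_sup_left.trans b.le⟩, b⟩
    · rintro ⟨⟨a, c⟩, b⟩
      exact ⟨⟨a, c.trans (mem_ivl.1 hw).2⟩, b⟩
  have h4 : ∀ R ∈ (ivl Q P).filter (fun R => R ⊔ V = w), (μ R : ℂ) * Ψ (R ⊔ V) = (μ R : ℂ) * Ψ w := by
    intro R hR
    rw [(Finset.mem_filter.1 hR).2]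
  rw [Finset.sum_congr rfl h4, ← Finset.sum_mul, h3]
  have h5 := weisner hμ hV w
  have h6 : ∑ R ∈ (ivl Q w).filter (fun R => R ⊔ V = w), (μ R : ℂ) = 0 := by
    exact_mod_cast h5
  rw [h6, zero_mul]

/-- splitting off the bottom of the interval -/
theorem ivl_erase {Q P : Subgroup G} (hQ : Q ≤ P) (f : Subgroup G → ℂ) :
    ∑ R ∈ ivl Q P, f R = f Q + ∑ R ∈ (ivl Q P).erase Q, f R :=
  (Finset.add_sum_erase _ _ (mem_ivl.2 ⟨le_rfl, hQ⟩)).symm

theorem mem_erase_ivl {Q P R : Subgroup G} : R ∈ (ivl Q P).erase Q ↔ Q < R ∧ R ≤ P := by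
  rw [Finset.mem_erase, mem_ivl]
  constructor
  · rintro ⟨a, b, c⟩
    exact ⟨lt_of_le_of_ne b (Ne.symm a), c⟩
  · rintro ⟨a, b⟩
    exact ⟨a.ne', a.le, b⟩

/-- the combination used for the construction of local systems -/
theorem weis1 {Q P : Subgroup G} (hQ : Q ≤ P) {μ : Subgroup G → ℤ} (hμ1 : μ Q = 1)
    (hμ : ∀ S : Subgroup G, Q < S → ∑ R ∈ ivl Q S, μ R = 0) {v : G} (hv : v ∈ P)
    (hvQ : v ∉ Q) (Ψ : Subgroup G → ℂ) :
    -∑ R ∈ (ivl Q P).erase Q, (μ R : ℂ) * Ψ (R ⊔ Subgroup.zpowers v) = Ψ (Q ⊔ Subgroup.zpowers v) := by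
  have h := weis0 (P := P) hμ (V := Subgroup.zpowers v) (fun h => hvQ (h (Subgroup.mem_zpowers v)))
    (Subgroup.zpowers_le.2 hv) Ψ
  rw [ivl_erase hQ, hμ1, Int.cast_one, one_mul] at h
  linear_combination -h

end Cfsg.Agent.Lib.AbWeis
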