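import Cfsg.Agent.Lib.AbSec4
import Cfsg.Agent.Lib.AbWeis
import Cfsg.Agent.Lib.H76Rank1
import Cfsg.Agent.Lib.CharBasic2

/-!
# Blocks with abelian defect groups: local components of characters (helper77)
-/

set_option autoImplicit false
set_option linter.all false

namespace Cfsg.Agent.Lib.AbSec

open Cfsg Cfsg.Agent.Lib.BlockRing Cfsg.Agent.Lib.BlockGA Cfsg.Agent.Lib.BlockIdem
open Cfsg.Agent.Lib.BlkIdem Cfsg.Agent.Lib.BlockAlg Cfsg.Agent.Lib.PairAlg Cfsg.Agent.Lib.PairMax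
open Cfsg.Agent.Lib.BrauerPairs Cfsg.Agent.Lib.NormalPBlk Cfsg.Agent.Lib.DefPairs
open Cfsg.Agent.Lib.BlkTransport Cfsg.Agent.Lib.BlkFus Cfsg.Agent.Lib.InducedPair
open Cfsg.Agent.Lib.BlockCount Cfsg.Agent.Lib.BlockPair Cfsg.Agent.Lib.PairCount
open Cfsg.Agent.Lib.AbFusion Cfsg.Agent.Lib.AbCount Cfsg.Agent.Lib.BlockSecond
open Cfsg.Agent.Lib.CharBasic Cfsg.Agent.Lib.Contrib
open MonoidAlgebra (single)
open scoped ComplexConjugate Classical

universe u v

section general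

variable {H : Type u} [Group H] [Finite H]

theorem lin_irr_eB (b : Set (IrrCharacter H)) (ξ : IrrCharacter H) (z : GA H) :
    lin (ξ : H → ℂ) (z * eB b) = if ξ ∈ b then lin (ξ : H → ℂ) z else 0 := by
  rw [lin_mul' ξ.2 (eB_mem_center b), omega_eB]
  split_ifs <;> simp

theorem single_mem_center {v : H} (hv : ∀ g : H, Commute v g) : single v (1 : ℂ) ∈ Subalgebra.center ℂ (GA H) := by
  rw [Subalgebra.mem_center_iff]
  intro z
  exact (commute_single_of_supp (BrauerMap.mem_suppAlg_top z) fun g _ => hv g).eq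

theorem irr_central_mul (ξ : IrrCharacter H) {v : H} (hv : ∀ g : H, Commute v g) (s : H) :
    (ξ : H → ℂ) (v * s) = omega (ξ : H → ℂ) (single v 1) * (ξ : H → ℂ) s := by
  have h := lin_mul ξ.2 (single_mem_center hv) (single s 1)
  rw [MonoidAlgebra.single_mul_single, one_mul, lin_single, lin_single, one_mul, one_mul] at h
  exact h

/-- the integral span of a set of characters -/
def zsp (b : Set (IrrCharacter H)) : AddSubgroup (H → ℂ) :=
  AddSubgroup.closure ((fun ξ : IrrCharacter H => (ξ : H → ℂ)) '' b)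

theorem zsp_le_spn {b : Set (IrrCharacter H)} {f : H → ℂ} (hf : f ∈ zsp b) : f ∈ spn b := by
  refine AddSubgroup.closure_induction (fun x hx => Submodule.subset_span hx) (Submodule.zero_mem _)
    (fun x y _ _ hx hy => Submodule.add_mem _ hx hy) (fun x _ hx => Submodule.neg_mem _ hx) hf

theorem zsp_irr {b : Set (IrrCharacter H)} {ξ : IrrCharacter H} (h : ξ ∈ b) : (ξ : H → ℂ) ∈ zsp b :=
  AddSubgroup.subset_closure ⟨ξ, h, rfl⟩

theorem zsp_isGeneralized {b : Set (IrrCharacter H)} {f : H → ℂ} (hf : f ∈ zsp b) :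
    IsGeneralizedCharacter H f := by
  refine AddSubgroup.closure_induction ?_ ?_ ?_ ?_ hf
  · rintro _ ⟨ξ, -, rfl⟩
    exact ξ.2.isGeneralized
  · exact isGeneralized_zero
  · intro x y _ _ hx hy
    exact hx.add hy
  · intro x _ hx
    exact hx.neg

/-- restrictions to p-regular elements in a block with one Brauer character and `p^d` characters -/
theorem reg_eq_gen {p : ℕ} {M : Ideal AlgInt} (hM : IsPModular p M) (hp : p.Prime) {b : Set (IrrCharacter H)} (hb : IsPBlock M b)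
    (hl : blockRank p b = 1) (hk : Nat.card b = p ^ blockDefect p b) {ξ ξ' : IrrCharacter H}
    (hξ : ξ ∈ b) (hξ' : ξ' ∈ b) :
    (∀ s : H, ¬ p ∣ orderOf s → (ξ : H → ℂ) s = (ξ' : H → ℂ) s) ∧
      contrib p (ξ : H → ℂ) (ξ' : H → ℂ) = ((Nat.card b : ℕ) : ℂ)⁻¹ := by
  obtain ⟨f, a, hf, ha, hdeg, hsum, hcon, -⟩ := H76Rank1.rank_one hM hb hl
  have hfin : b.Finite := Set.toFinite b
  have ha1 : ∀ χ ∈ b, a χ = 1 := by
    intro χ hχ
    by_contra hne
    have h2 : 1 < a χ := lt_of_le_of_ne (ha χ hχ) (Ne.symm hne)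
    have h3 : ∑ᶠ χ ∈ b, a χ ^ 2 > ∑ᶠ χ ∈ b, 1 := by
      rw [finsum_mem_eq_finite_toFinset_sum _ hfin, finsum_mem_eq_finite_toFinset_sum _ hfin]
      apply Finset.sum_lt_sum
      · intro i hi
        have := ha i (hfin.mem_toFinset.1 hi)
        nlinarith
      · exact ⟨χ, hfin.mem_toFinset.2 hχ, by nlinarith⟩
    rw [hsum, ← hk, finsum_mem_eq_finite_toFinset_sum _ hfin, Finset.sum_const, smul_eq_mul, mul_one,
      ← Set.ncard_eq_toFinset_card b hfin] at h3
    exact absurd h3 (by rw [Nat.card_coe_set_eq]; exact lt_irrefl _)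
  constructor
  · intro s hs
    have h1 := congrFun (H76Rank1.preg_prop hp hl hξ hξ') s
    have hdeg' : (ξ' : H → ℂ) 1 ≠ 0 := by
      rw [hdeg ξ' hξ', ha1 ξ' hξ']
      simp [hf.ne']
    rw [hdeg ξ hξ, hdeg ξ' hξ', ha1 ξ hξ, ha1 ξ' hξ', div_self (by simp [hf.ne']), one_smul, preg, if_neg hs,
      preg, if_neg hs] at h1
    exact h1
  · have h1 := hcon ξ hξ ξ' hξ'
    rw [ha1 ξ hξ, ha1 ξ' hξ', Nat.cast_one, one_mul] at h1
    rw [hk, Nat.cast_pow]
    exact eq_inv_of_mul_eq_one_right h1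

end general

variable {p : ℕ} [hp : Fact p.Prime] {M : Ideal AlgInt} [hMm : M.IsMaximal] [hchar : CharP (Kf M) p]
  {G : Type u} [Group G] [Finite G] {B : Set (IrrCharacter G)} {P : Subgroup G} {c : MonoidAlgebra (Kf M) G}

/-- the component of `f` in the local block at `R` -/
noncomputable def bl (p : ℕ) (P : Subgroup G) (c : MonoidAlgebra (Kf M) G) (R : Subgroup G) (f : G → ℂ) :
    G → ℂ :=
  fun x => lin f (single x 1 * eh p P c R)

theorem lin_bl (R : Subgroup G) (f : G → ℂ) (z : GA G) : lin (bl p P c R f) z = lin f (z * eh p P c R) := by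
  haveI := Fintype.ofFinite G
  conv_rhs => rw [eq_sum_single z]
  rw [Finset.sum_mul, lin_sum, lin_apply]
  refine Finset.sum_congr rfl fun g _ => ?_
  rw [bl, ← lin_smul, ← smul_mul_assoc, MonoidAlgebra.smul_single, smul_eq_mul, mul_one]

theorem bl_coe (R : Subgroup G) (f : G → ℂ) (x : Cn R) :
    bl p P c R f (x : G) = lin (fun y : Cn R => f y) (single x 1 * eB (bQ p P c R)) := by
  rw [← lin_incH, map_mul, incH_single]
  rfl

theorem bl_add (R : Subgroup G) (f g : G → ℂ) : bl p P c R (f + g) = bl p P c R f + bl p P c R g := by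
  funext x
  rw [Pi.add_apply, bl, lin_add_left]
  rfl

theorem bl_neg (R : Subgroup G) (f : G → ℂ) : bl p P c R (-f) = -bl p P c R f := by
  funext x
  rw [Pi.neg_apply, bl, bl, show -f = (-1 : ℂ) • f by simp, lin_smul_left]
  ring

/-- the value of the local component only depends on the restriction to `C(R)` -/
theorem bl_congr {R : Subgroup G} {f g : G → ℂ} (h : ∀ x ∈ Cn R, f x = g x) {x : G} (hx : x ∈ Cn R) :
    bl p P c R f x = bl p P c R g x := by
  have h1 := bl_coe (p := p) (P := P) (c := c) R f ⟨x, hx⟩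
  have h2 := bl_coe (p := p) (P := P) (c := c) R g ⟨x, hx⟩
  simp only at h1 h2
  rw [h1, h2]
  congr 1
  funext y
  exact h y y.2

theorem bl_expand (R : Subgroup G) (f : G → ℂ) [Fintype (Cn R)] (a : IrrCharacter (Cn R) → ℂ)
    (h : (fun x : Cn R => f x) = ∑ ξ : IrrCharacter (Cn R), a ξ • (ξ : Cn R → ℂ)) :
    (fun x : Cn R => bl p P c R f x) =
      ∑ ξ : IrrCharacter (Cn R), if ξ ∈ bQ p P c R then a ξ • (ξ : Cn R → ℂ) else 0 := by
  funext x
  rw [bl_coe, h, lin_sum_left, Finset.sum_apply]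
  refine Finset.sum_congr rfl fun ξ _ => ?_
  rw [lin_smul_left, lin_irr_eB]
  by_cases hξ : ξ ∈ bQ p P c R
  · rw [if_pos hξ, if_pos hξ, lin_single, one_mul, Pi.smul_apply, smul_eq_mul]
  · rw [if_neg hξ, if_neg hξ, mul_zero, Pi.zero_apply]

theorem bl_mem_spn {R : Subgroup G} {f : G → ℂ} (hf : IsClassFunction (Cn R) (fun x : Cn R => f x)) :
    (fun x : Cn R => bl p P c R f x) ∈ spn (bQ p P c R) := by
  haveI := Fintype.ofFinite (Cn R)
  rw [bl_expand R f _ hf.expansion]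
  apply Submodule.sum_mem
  intro ξ _
  split_ifs with h
  · exact Submodule.smul_mem _ _ (Submodule.subset_span ⟨ξ, h, rfl⟩)
  · exact Submodule.zero_mem _

theorem bl_mem_zsp {R : Subgroup G} {f : G → ℂ} (hf : IsGeneralizedCharacter (Cn R) (fun x : Cn R => f x)) :
    (fun x : Cn R => bl p P c R f x) ∈ zsp (bQ p P c R) := by
  haveI := Fintype.ofFinite (Cn R)
  obtain ⟨a, -, ha⟩ := hf.exists_coeff
  rw [bl_expand R f _ ha]
  apply AddSubgroup.sum_mem
  intro ξ _
  split_ifs with h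
  · rw [show ((a ξ : ℤ) : ℂ) • (ξ : Cn R → ℂ) = a ξ • (ξ : Cn R → ℂ) by
      funext x; simp]
    exact AddSubgroup.zsmul_mem _ (zsp_irr h) _
  · exact AddSubgroup.zero_mem _

/-- characters in the span of the block are unchanged -/
theorem bl_eq_self {R : Subgroup G} {f : G → ℂ} (hf : (fun x : Cn R => f x) ∈ spn (bQ p P c R)) {x : G}
    (hx : x ∈ Cn R) : bl p P c R f x = f x := by
  have h1 := bl_coe (p := p) (P := P) (c := c) R f ⟨x, hx⟩
  simp only at h1
  rw [h1]
  have : ∀ F ∈ spn (bQ p P c R), ∀ y : Cn R, lin F (single y 1 * eB (bQ p P c R)) = F y := by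
    intro F hF y
    refine Submodule.span_induction ?_ ?_ ?_ ?_ hF
    · rintro _ ⟨ξ, hξ, rfl⟩
      rw [lin_irr_eB, if_pos hξ, lin_single, one_mul]
    · show lin (0 : Cn R → ℂ) _ = 0
      simp [lin]
    · intro F F' _ _ h h'
      rw [lin_add_left, h, h', Pi.add_apply]
    · intro a F _ h
      rw [lin_smul_left, h, Pi.smul_apply, smul_eq_mul]
  exact this _ hf ⟨x, hx⟩

/-- the local blocks with one Brauer character and `|P|` characters -/
def Nil (p : ℕ) (P : Subgroup G) (c : MonoidAlgebra (Kf M) G) (R : Subgroup G) : Prop :=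
  blockRank p (bQ p P c R) = 1 ∧ Nat.card (bQ p P c R) = Nat.card P

theorem nil_of_fr (hM : IsPModular p M) (h : AbMax p B P c) {R : Subgroup G} (hR : R ≤ P)
    (hF : TT P c ⊓ Cn R ≤ Cn P) : Nil p P c R := by
  have h1 := AbMax.nilpotent hM _ le_rfl (h.resQ hR) (fun t ht x hx => by
    have h2 := (h.mem_stab_resQ hR).1 ht
    have h3 : (t : G) ∈ Cn P := hF ⟨h2, t.2⟩
    have h4 := Subgroup.mem_centralizer_iff.1 h3 x (Subgroup.mem_subgroupOf.1 hx)
    rw [mul_inv_eq_iff_eq_mul]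
    exact Subtype.ext h4.symm)
  rw [card_subgroupOf_eq (h.P_leQ hR)] at h1
  exact h1

theorem card_bQ_eq (hM : IsPModular p M) (h : AbMax p B P c) {R : Subgroup G} (hR : R ≤ P)
    (hN : Nil p P c R) : Nat.card (bQ p P c R) = p ^ blockDefect p (bQ p P c R) := by
  rw [hN.2, ← (h.resQ hR).card_P hM, card_subgroupOf_eq (h.P_leQ hR)]

/-- the Brauer character of the local block, extended by zero -/
noncomputable def ph (p : ℕ) (P : Subgroup G) (c : MonoidAlgebra (Kf M) G) (R : Subgroup G) : G → ℂ :=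
  fun x => if h : (bQ p P c R).Nonempty ∧ x ∈ Cn R then ((h.1.some : IrrCharacter (Cn R)) : Cn R → ℂ) ⟨x, h.2⟩ else 0

theorem ph_coe (hM : IsPModular p M) (h : AbMax p B P c) {R : Subgroup G} (hR : R ≤ P)
    (hN : Nil p P c R) {ξ : IrrCharacter (Cn R)} (hξ : ξ ∈ bQ p P c R) (s : Cn R) (hs : ¬ p ∣ orderOf (s : G)) :
    ph p P c R s = (ξ : Cn R → ℂ) s := by
  have hne : (bQ p P c R).Nonempty := ⟨ξ, hξ⟩
  rw [ph, dif_pos ⟨hne, s.2⟩]
  rw [Subgroup.orderOf_coe] at hs
  exact (reg_eq_gen hM hp.out (isPBlock_bQ h.pair hR) hN.1 (card_bQ_eq hM h hR hN) hne.some_mem hξ).1 s hs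

theorem not_dvd_one : ¬ p ∣ orderOf (1 : G) := by
  rw [orderOf_one]
  exact hp.out.one_lt.ne' ∘ Nat.dvd_one.1

theorem irr_one_ne_zero {H : Type u} [Group H] [Finite H] (ξ : IrrCharacter H) : (ξ : H → ℂ) 1 ≠ 0 := by
  obtain ⟨n, hn0, hn⟩ := ξ.2.exists_degree
  rw [hn]
  exact Nat.cast_ne_zero.2 (by omega)

theorem ph_one_ne (hM : IsPModular p M) (h : AbMax p B P c) {R : Subgroup G} (hR : R ≤ P)
    (hN : Nil p P c R) : ph p P c R 1 ≠ 0 := by
  obtain ⟨ξ, hξ⟩ := isPBlock_nonempty (isPBlock_bQ h.pair hR)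
  have := ph_coe hM h hR hN hξ 1 (not_dvd_one)
  rw [Subgroup.coe_one] at this
  rw [this]
  exact irr_one_ne_zero ξ

/-- the normalized local component -/
noncomputable def Dh (p : ℕ) (P : Subgroup G) (c : MonoidAlgebra (Kf M) G) (R : Subgroup G) (f : G → ℂ) (v : G) : ℂ :=
  bl p P c R f v / ph p P c R 1

theorem bl_mul (hM : IsPModular p M) (h : AbMax p B P c) {R : Subgroup G} (hR : R ≤ P)
    (hN : Nil p P c R) {f : G → ℂ} (hf : IsClassFunction (Cn R) (fun x : Cn R => f x)) {v : G} (hv : v ∈ R)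
    {s : G} (hs : s ∈ Cn R) (hsp : ¬ p ∣ orderOf s) :
    bl p P c R f (v * s) = Dh p P c R f v * ph p P c R s := by
  have hvC : v ∈ Cn R := h.P_leQ hR (hR hv)
  have hcom : ∀ g : Cn R, Commute (⟨v, hvC⟩ : Cn R) g := by
    intro g
    have := Subgroup.mem_centralizer_iff.1 g.2 v hv
    exact Subtype.ext this
  have key : ∀ F ∈ spn (bQ p P c R), F (⟨v, hvC⟩ * ⟨s, hs⟩) * ph p P c R 1 = F ⟨v, hvC⟩ * ph p P c R s := by
    intro F hF
    refine Submodule.span_induction ?_ ?_ ?_ ?_ hF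
    · rintro _ ⟨ξ, hξ, rfl⟩
      have h1 := ph_coe hM h hR hN hξ 1 (not_dvd_one)
      have h2 := ph_coe hM h hR hN hξ ⟨s, hs⟩ hsp
      rw [Subgroup.coe_one] at h1
      simp only at h2
      rw [h1, h2]
      have h3 := irr_central_mul ξ hcom ⟨s, hs⟩
      have h4 := irr_central_mul ξ hcom 1
      rw [mul_one] at h4
      simp only
      rw [h3, h4]
      ring
    · simp
    · intro F F' _ _ e e'
      rw [Pi.add_apply, Pi.add_apply, add_mul, add_mul, e, e']
    · intro a F _ e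
      rw [Pi.smul_apply, Pi.smul_apply, smul_eq_mul, smul_eq_mul, mul_assoc, mul_assoc, e]
  have h1 := key _ (bl_mem_spn hf)
  simp only [Subgroup.coe_mul] at h1
  rw [Dh, div_mul_eq_mul_div, eq_div_iff (ph_one_ne hM h hR hN)]
  exact h1

theorem JJ_eq (hM : IsPModular p M) (h : AbMax p B P c) {R : Subgroup G} (hR : R ≤ P)
    (hN : Nil p P c R) {f g : G → ℂ} (hf : IsClassFunction (Cn R) (fun x : Cn R => f x))
    (hg : IsClassFunction (Cn R) (fun x : Cn R => g x)) {v : G} (hv : v ∈ R) :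
    JJ p P c R v f g = (Nat.card P : ℂ)⁻¹ * (Dh p P c R f v * conj (Dh p P c R g v)) := by
  haveI := Fintype.ofFinite (Cn R)
  obtain ⟨ξ, hξ⟩ := isPBlock_nonempty (isPBlock_bQ h.pair hR)
  have hc := (reg_eq_gen hM hp.out (isPBlock_bQ h.pair hR) hN.1 (card_bQ_eq hM h hR hN) hξ hξ).2
  rw [hN.2, contrib, pair_def] at hc
  rw [JJ, SB_eq_subtype]
  have e1 : ∀ s : Cn R, (if ¬ p ∣ orderOf (s : G) then
      lin f (single (v * (s : G)) 1 * eh p P c R) * conj (lin g (single (v * (s : G)) 1 * eh p P c R)) else 0) =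
      (if p ∣ orderOf s then 0 else (ξ : Cn R → ℂ) s * (ξ : Cn R → ℂ) s⁻¹) *
        (Dh p P c R f v * conj (Dh p P c R g v)) := by
    intro s
    rw [ite_not, Subgroup.orderOf_coe]
    by_cases hs : p ∣ orderOf s
    · rw [if_pos hs, if_pos hs, zero_mul]
    · rw [if_neg hs, if_neg hs]
      have hs' : ¬ p ∣ orderOf (s : G) := by rwa [Subgroup.orderOf_coe]
      have h1 := bl_mul hM h hR hN hf hv s.2 hs'
      have h2 := bl_mul hM h hR hN hg hv s.2 hs'
      rw [bl] at h1 h2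
      rw [h1, h2, ph_coe hM h hR hN hξ s hs', map_mul, ξ.2.isCharacter.inv]
      ring
  rw [Finset.sum_congr rfl fun s _ => e1 s, ← Finset.sum_mul, ← mul_assoc, ← hc]

theorem Dh_congr {R : Subgroup G} {f g : G → ℂ} (h : ∀ x ∈ Cn R, f x = g x) {x : G} (hx : x ∈ Cn R) :
    Dh p P c R f x = Dh p P c R g x := by
  rw [Dh, Dh, bl_congr h hx]

end Cfsg.Agent.Lib.AbSec
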