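import Cfsg.Agent.Lib.AbLS1
import Cfsg.Agent.Lib.AbFT

/-!
# Blocks with abelian defect groups: the local system of signs (helper77)
-/

set_option autoImplicit false
set_option linter.all false

namespace Cfsg.Agent.Lib.AbSec

open Cfsg Cfsg.Agent.Lib.BlockRing Cfsg.Agent.Lib.BlockGA Cfsg.Agent.Lib.BlockIdem
open Cfsg.Agent.Lib.BlkIdem Cfsg.Agent.Lib.BlockAlg Cfsg.Agent.Lib.PairAlg Cfsg.Agent.Lib.PairMax
open Cfsg.Agent.Lib.BrauerPairs Cfsg.Agent.Lib.NormalPBlk Cfsg.Agent.Lib.DefPairs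
open Cfsg.Agent.Lib.BlkTransport Cfsg.Agent.Lib.BlkFus Cfsg.Agent.Lib.InducedPair
open Cfsg.Agent.Lib.BlockCount Cfsg.Agent.Lib.BlockPair Cfsg.Agent.Lib.PairCount
open Cfsg.Agent.Lib.AbFusion Cfsg.Agent.Lib.AbCount Cfsg.Agent.Lib.BlockSecond
open Cfsg.Agent.Lib.CharBasic Cfsg.Agent.Lib.Contrib Cfsg.Agent.Lib.AbFT Cfsg.Agent.Lib.AbWeis
open MonoidAlgebra (single)
open scoped ComplexConjugate Classical

universe u v

variable {p : ℕ} [hp : Fact p.Prime] {M : Ideal AlgInt} [hMm : M.IsMaximal] [hchar : CharP (Kf M) p]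
  {G : Type u} [Group G] [Finite G] {B : Set (IrrCharacter G)} {P : Subgroup G} {c : MonoidAlgebra (Kf M) G}

theorem bl_bl (hM : IsPModular p M) (h : AbMax p B P c) {R : Subgroup G} {v : G} (hR : R ≤ P) (hv : v ∈ P)
    {f : G → ℂ} (hf : IsClassFunction (Cn R) (fun x : Cn R => f x)) {s : G}
    (hs : s ∈ Cn (R ⊔ Subgroup.zpowers v)) (hsp : ¬ p ∣ orderOf s) :
    bl p P c (R ⊔ Subgroup.zpowers v) (bl p P c R f) (v * s) = bl p P c (R ⊔ Subgroup.zpowers v) f (v * s) := by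
  rw [bl, lin_bl, mul_assoc, bl]
  exact rsm hM h.pair h.ab le_rfl le_sup_left (sup_le hR (zpowers_le_of hv))
    ((le_sup_right : Subgroup.zpowers v ≤ _) (Subgroup.mem_zpowers v))
    (fun g hg hc => mem_Cn_sup_zpowers.2 ⟨hg, hc⟩) hf hs hsp

theorem Dh_bl (hM : IsPModular p M) (h : AbMax p B P c) {R : Subgroup G} {v : G} (hR : R ≤ P) (hv : v ∈ P)
    {f : G → ℂ} (hf : IsClassFunction (Cn R) (fun x : Cn R => f x)) :
    Dh p P c (R ⊔ Subgroup.zpowers v) (bl p P c R f) v = Dh p P c (R ⊔ Subgroup.zpowers v) f v := by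
  have h1 := bl_bl hM h hR hv hf (one_mem _) (not_dvd_one (p := p))
  rw [mul_one] at h1
  rw [Dh, Dh, h1]

theorem Dh_add (R : Subgroup G) (f g : G → ℂ) (v : G) :
    Dh p P c R (f + g) v = Dh p P c R f v + Dh p P c R g v := by
  rw [Dh, Dh, Dh, bl_add, Pi.add_apply, add_div]

theorem Dh_neg (R : Subgroup G) (f : G → ℂ) (v : G) : Dh p P c R (-f) v = -Dh p P c R f v := by
  rw [Dh, Dh, bl_neg, Pi.neg_apply, neg_div]

/-- up-closedness of the region where everything is nilpotent -/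
theorem fr_mono {Q R : Subgroup G} (hQR : Q ≤ R) (hF : TT P c ⊓ Cn Q ≤ Cn P) : TT P c ⊓ Cn R ≤ Cn P :=
  (inf_le_inf_left _ (Subgroup.centralizer_le (SetLike.coe_subset_coe.2 hQR))).trans hF

theorem AL_eq {Q R : Subgroup G} (hQR : Q ≤ R) (hRP : R ≤ P) (hF : TT P c ⊓ Cn Q ≤ Cn P) :
    AL P c R = AL P c Q := by
  have : TT P c ⊓ Cn R = TT P c ⊓ Cn Q := by
    apply le_antisymm
    · exact inf_le_inf_left _ (Subgroup.centralizer_le (SetLike.coe_subset_coe.2 hQR))
    · exact le_inf inf_le_left (hF.trans (Subgroup.centralizer_le (SetLike.coe_subset_coe.2 hRP)))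
  rw [AL, AL, this]

/-- the norm formula -/
theorem norm_Q (hM : IsPModular p M) (h : AbMax p B P c) {Q : Subgroup G} (hQ : Q ≤ P)
    (hF : TT P c ⊓ Cn Q ≤ Cn P) [Fintype P] [Fintype (Cn Q)] {f g : G → ℂ}
    (hf : (fun x : Cn Q => f x) ∈ spn (bQ p P c Q)) (hg : IsClassFunction (Cn Q) (fun x : Cn Q => g x)) :
    (Nat.card P : ℂ) * classInner (fun x : Cn Q => f x) (fun x : Cn Q => g x) =
      ∑ v : P, Dh p P c (Q ⊔ Subgroup.zpowers (v : G)) f v * conj (Dh p P c (Q ⊔ Subgroup.zpowers (v : G)) g v) := by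
  haveI := Fintype.ofFinite G
  have h1 := sec_Q hM h hQ hf hg
  rw [sum_mem_eq P] at h1
  have hAL := AL_ne_zero (P := P) (c := c) Q
  have hres : ∀ {R : Subgroup G} {F : G → ℂ}, Q ≤ R → IsClassFunction (Cn Q) (fun x : Cn Q => F x) →
      IsClassFunction (Cn R) (fun x : Cn R => F x) := by
    intro R F hQR hF' a b
    have hle : Cn R ≤ Cn Q := Subgroup.centralizer_le (SetLike.coe_subset_coe.2 hQR)
    exact hF' ⟨a, hle a.2⟩ ⟨b, hle b.2⟩
  have h2 : ∀ v : P, AL P c (Q ⊔ Subgroup.zpowers (v : G)) * JJ p P c (Q ⊔ Subgroup.zpowers (v : G)) v f g =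
      AL P c Q * ((Nat.card P : ℂ)⁻¹ * (Dh p P c (Q ⊔ Subgroup.zpowers (v : G)) f v *
        conj (Dh p P c (Q ⊔ Subgroup.zpowers (v : G)) g v))) := by
    intro v
    have hR : Q ⊔ Subgroup.zpowers (v : G) ≤ P := sup_le hQ (zpowers_le_of v.2)
    rw [AL_eq le_sup_left hR hF, JJ_eq hM h hR (nil_of_fr hM h hR (fr_mono le_sup_left hF))
      (hres le_sup_left (spn_classFunction hf)) (hres le_sup_left hg)
      ((le_sup_right : Subgroup.zpowers (v : G) ≤ _) (Subgroup.mem_zpowers _))]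
  rw [Finset.sum_congr rfl fun v _ => h2 v, ← Finset.mul_sum, ← Finset.mul_sum] at h1
  have h3 := mul_left_cancel₀ hAL h1
  rw [h3, ← mul_assoc, mul_inv_cancel₀ (Nat.cast_ne_zero.2 Nat.card_pos.ne'), one_mul]

/-- the central character of `ξ` on `Q` -/
noncomputable def wch {Q : Subgroup G} (hQC : Q ≤ Cn Q) (ξ : IrrCharacter (Cn Q)) : Q →* ℂˣ :=
  MonoidHom.toHomUnits
    { toFun := fun v : Q => omega (ξ : Cn Q → ℂ) (single (⟨v, hQC v.2⟩ : Cn Q) 1)
      map_one' := by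
        have : (⟨((1 : Q) : G), hQC (1 : Q).2⟩ : Cn Q) = 1 := rfl
        rw [this, ← MonoidAlgebra.one_def]
        exact omega_one (irr_one_ne_zero ξ)
      map_mul' := by
        intro v w
        have hv : single (⟨(v : G), hQC v.2⟩ : Cn Q) (1 : ℂ) ∈ Subalgebra.center ℂ (GA (Cn Q)) :=
          single_mem_center fun g => Subtype.ext (Subgroup.mem_centralizer_iff.1 g.2 v v.2)
        rw [← omega_mul ξ.2 hv, MonoidAlgebra.single_mul_single, one_mul]
        rfl }

theorem wch_mul {Q : Subgroup G} (hQC : Q ≤ Cn Q) (ξ : IrrCharacter (Cn Q)) (v : Q) (x : Cn Q) :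
    (ξ : Cn Q → ℂ) (⟨v, hQC v.2⟩ * x) = (wch hQC ξ v : ℂ) * (ξ : Cn Q → ℂ) x := by
  rw [irr_central_mul ξ fun g => Subtype.ext (Subgroup.mem_centralizer_iff.1 g.2 v v.2)]
  rfl

theorem lin_single_mul {v : G} {w : ℂ} {F : G → ℂ} {z : GA G} (h : ∀ x, z.coeff x ≠ 0 → F (v * x) = w * F x) :
    lin F (single v 1 * z) = w * lin F z := by
  haveI := Fintype.ofFinite G
  conv_lhs => rw [eq_sum_single z]
  rw [Finset.mul_sum, lin_sum, lin_apply, Finset.mul_sum]
  refine Finset.sum_congr rfl fun x _ => ?_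
  rw [MonoidAlgebra.single_mul_single, one_mul, lin_single]
  by_cases hx : z.coeff x = 0
  · rw [hx]; ring
  · rw [h x hx]; ring

/-- the function attached to a system of signs -/
noncomputable def eta (p : ℕ) (P : Subgroup G) (c : MonoidAlgebra (Kf M) G) (ε : Subgroup G → ℤ) (Q : Subgroup G)
    (f : G → ℂ) : P → ℂ :=
  fun v => (ε (Q ⊔ Subgroup.zpowers (v : G)) : ℂ) * Dh p P c (Q ⊔ Subgroup.zpowers (v : G)) f v

/-- the local system condition at `Q` -/
def LSat (p : ℕ) (P : Subgroup G) (c : MonoidAlgebra (Kf M) G) (ε : Subgroup G → ℤ) (Q : Subgroup G) : Prop :=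
  ∀ f : G → ℂ, IsGeneralizedCharacter (Cn Q) (fun x : Cn Q => f x) → IntF (eta p P c ε Q f)

theorem eta_add (ε : Subgroup G → ℤ) (Q : Subgroup G) (f g : G → ℂ) :
    eta p P c ε Q (f + g) = eta p P c ε Q f + eta p P c ε Q g := by
  funext v
  rw [Pi.add_apply, eta, eta, eta, Dh_add, mul_add]

theorem eta_neg (ε : Subgroup G → ℤ) (Q : Subgroup G) (f : G → ℂ) :
    eta p P c ε Q (-f) = -eta p P c ε Q f := by
  funext v
  rw [Pi.neg_apply, eta, eta, Dh_neg, mul_neg]

theorem eta_congr (ε : Subgroup G → ℤ) {Q : Subgroup G} (h : AbMax p B P c) (hQ : Q ≤ P) {f g : G → ℂ}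
    (hfg : ∀ x ∈ Cn Q, f x = g x) : eta p P c ε Q f = eta p P c ε Q g := by
  funext v
  rw [eta, eta]
  congr 1
  apply Dh_congr
  · intro x hx
    exact hfg x (Subgroup.centralizer_le (SetLike.coe_subset_coe.2 le_sup_left) hx)
  · exact h.P_leQ (sup_le hQ (zpowers_le_of v.2)) v.2

theorem eta_bl (hM : IsPModular p M) (h : AbMax p B P c) (ε : Subgroup G → ℤ) {Q : Subgroup G} (hQ : Q ≤ P)
    {f : G → ℂ} (hf : IsClassFunction (Cn Q) (fun x : Cn Q => f x)) :
    eta p P c ε Q (bl p P c Q f) = eta p P c ε Q f := by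
  funext v
  rw [eta, eta, Dh_bl hM h hQ v.2 hf]

/-- it is enough to check the condition on the characters of the block -/
theorem LSat_of_irr (hM : IsPModular p M) (h : AbMax p B P c) (ε : Subgroup G → ℤ) {Q : Subgroup G} (hQ : Q ≤ P)
    (hirr : ∀ ξ ∈ bQ p P c Q, IntF (eta p P c ε Q (extendByZero (Cn Q) (ξ : Cn Q → ℂ)))) :
    LSat p P c ε Q := by
  intro f hf
  rw [← eta_bl hM h ε hQ hf.isClassFunction]
  have key : ∀ F ∈ zsp (bQ p P c Q), IntF (eta p P c ε Q (extendByZero (Cn Q) F)) := by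
    intro F hF
    refine AddSubgroup.closure_induction ?_ ?_ ?_ ?_ hF
    · rintro _ ⟨ξ, hξ, rfl⟩
      exact hirr ξ hξ
    · have : eta p P c ε Q (extendByZero (Cn Q) (0 : Cn Q → ℂ)) = 0 := by
        have h0 : extendByZero (Cn Q) (0 : Cn Q → ℂ) = 0 + 0 := by
          funext x
          rw [IndFun.extendByZero_zero]
          simp
        have h1 := eta_add (p := p) (P := P) (c := c) ε Q 0 0
        rw [add_zero] at h1
        rw [h0, add_zero]
        simpa using h1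
      rw [this]
      exact IntF.zero
    · intro F F' _ _ h1 h2
      have : extendByZero (Cn Q) (F + F') = extendByZero (Cn Q) F + extendByZero (Cn Q) F' := by
        funext x
        rw [Pi.add_apply]
        exact IndFun.extendByZero_add _ _ _ _
      rw [this, eta_add]
      exact h1.add h2
    · intro F _ h1
      have : extendByZero (Cn Q) (-F) = -extendByZero (Cn Q) F := by
        funext x
        have := IndFun.extendByZero_smul (Cn Q) (-1) F x
        rw [neg_one_smul] at this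
        rw [this, Pi.neg_apply]
        ring
      rw [this, eta_neg]
      exact h1.neg
  have := key _ (bl_mem_zsp (p := p) (P := P) (c := c) hf)
  rwa [eta_congr ε h hQ (g := bl p P c Q f)] at this
  intro x hx
  exact IndFun.extendByZero_mem _ _ hx

end Cfsg.Agent.Lib.AbSec
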