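import Cfsg.Agent.Lib.AbLS2

/-!
# Blocks with abelian defect groups: existence of the local system of signs (helper77)
-/

set_option autoImplicit false
set_option linter.all false

namespace Cfsg.Agent.Lib.AbSec

open Cfsg Cfsg.Agent.Lib.BlockRing Cfsg.Agent.Lib.BlockGA Cfsg.Agent.Lib.BlockIdem
open Cfsg.Agent.Lib.BlkIdem Cfsg.Agent.Lib.BlockAlg Cfsg.Agent.Lib.PairAlg Cfsg.Agent.Lib.PairMax
open Cfsg.Agent.Lib.BrauerPairs Cfsg.Agent.Lib.NormalPBlk Cfsg.Agent.Lib.DefPairs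
open Cfsg.Agent.Lib.BlkTransport Cfsg.Agent.Lib.BlkFus Cfsg.Agent.Lib.InducedPair
open Cfsg.Agent.Lib.BlockCount Cfsg.Agent.Lib.BlockPair Cfsg.Agent.Lib.PairCount
open Cfsg.Agent.Lib.AbFusion Cfsg.Agent.Lib.AbCount Cfsg.Agent.Lib.BlockSecond
open Cfsg.Agent.Lib.CharBasic Cfsg.Agent.Lib.Contrib Cfsg.Agent.Lib.AbFT Cfsg.Agent.Lib.AbWeis
open MonoidAlgebra (single)
open scoped ComplexConjugate Classical

universe u v

theorem _root_.Cfsg.Agent.Lib.AbFT.IntF.one_int {A : Type u} [Group A] [Finite A]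
    (hA : ∀ a b : A, a * b = b * a) {f : A → ℂ} (hf : IntF f) : ∃ n : ℤ, f 1 = n := by
  haveI := LinChar.finite_hom hA
  haveI := Fintype.ofFinite (A →* ℂˣ)
  choose a ha using hf
  refine ⟨∑ θ, a θ, ?_⟩
  rw [inversion hA f 1]
  push_cast
  refine Finset.sum_congr rfl fun θ _ => ?_
  rw [ha, map_one, Units.val_one, mul_one]

variable {p : ℕ} [hp : Fact p.Prime] {M : Ideal AlgInt} [hMm : M.IsMaximal] [hchar : CharP (Kf M) p]
  {G : Type u} [Group G] [Finite G] {B : Set (IrrCharacter G)} {P : Subgroup G} {c : MonoidAlgebra (Kf M) G}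

/-- the values of the local components of `ξ` on `Q` -/
theorem bl_wch (h : AbMax p B P c) {Q R : Subgroup G} (hQ : Q ≤ P) (hQR : Q ≤ R) (ξ : IrrCharacter (Cn Q))
    (v : Q) : bl p P c R (extendByZero (Cn Q) (ξ : Cn Q → ℂ)) v =
      (wch (hQ.trans (h.P_leQ hQ)) ξ v : ℂ) * bl p P c R (extendByZero (Cn Q) (ξ : Cn Q → ℂ)) 1 := by
  have h1 : bl p P c R (extendByZero (Cn Q) (ξ : Cn Q → ℂ)) 1 =
      lin (extendByZero (Cn Q) (ξ : Cn Q → ℂ)) (eh p P c R) := by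
    rw [bl, ← MonoidAlgebra.one_def, one_mul]
  rw [h1, bl]
  apply lin_single_mul
  intro x hx
  have hxR : x ∈ Cn R := by
    by_contra hx'
    exact hx (eh_supp hx')
  have hxQ : x ∈ Cn Q := Subgroup.centralizer_le (SetLike.coe_subset_coe.2 hQR) hxR
  have hvQ : (v : G) ∈ Cn Q := hQ.trans (h.P_leQ hQ) v.2
  rw [IndFun.extendByZero_mem _ _ (mul_mem hvQ hxQ), IndFun.extendByZero_mem _ _ hxQ]
  exact wch_mul (hQ.trans (h.P_leQ hQ)) ξ v ⟨x, hxQ⟩

theorem bl_one_eq (hM : IsPModular p M) (h : AbMax p B P c) {Q R : Subgroup G} (hQ : Q ≤ P) (hQR : Q ≤ R)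
    (hR : R ≤ P) (hN : Nil p P c Q) {ξ : IrrCharacter (Cn Q)} (hξ : ξ ∈ bQ p P c Q) :
    bl p P c R (extendByZero (Cn Q) (ξ : Cn Q → ℂ)) 1 = bl p P c R (ph p P c Q) 1 := by
  haveI := Fintype.ofFinite G
  rw [bl, bl, lin_apply, lin_apply, ← MonoidAlgebra.one_def, one_mul]
  refine Finset.sum_congr rfl fun x _ => ?_
  by_cases hx : (eh p P c R).coeff x = 0
  · rw [hx]; ring
  · have hxR : x ∈ Cn R := by
      by_contra hx'
      exact hx (eh_supp hx')
    have hxQ : x ∈ Cn Q := Subgroup.centralizer_le (SetLike.coe_subset_coe.2 hQR) hxR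
    have hreg : ¬ p ∣ orderOf x := fun hd => hx (eh_reg hM h.pair hR hd)
    have h1 := ph_coe hM h hQ hN hξ ⟨x, hxQ⟩ hreg
    simp only at h1
    rw [h1, IndFun.extendByZero_mem _ _ hxQ]

theorem Dh_self_one (hM : IsPModular p M) (h : AbMax p B P c) {Q : Subgroup G} (hQ : Q ≤ P)
    (hN : Nil p P c Q) {ξ : IrrCharacter (Cn Q)} (hξ : ξ ∈ bQ p P c Q) :
    Dh p P c Q (extendByZero (Cn Q) (ξ : Cn Q → ℂ)) 1 = 1 := by
  have e0 : (fun x : Cn Q => extendByZero (Cn Q) (ξ : Cn Q → ℂ) x) = (ξ : Cn Q → ℂ) := by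
    funext x
    exact IndFun.extendByZero_mem _ _ x.2
  have h1 : bl p P c Q (extendByZero (Cn Q) (ξ : Cn Q → ℂ)) 1 = ph p P c Q 1 := by
    rw [bl_eq_self (by rw [e0]; exact Submodule.subset_span ⟨ξ, hξ, rfl⟩) (one_mem _),
      IndFun.extendByZero_mem _ _ (one_mem _)]
    have h2 := ph_coe hM h hQ hN hξ 1 (not_dvd_one)
    rw [Subgroup.coe_one] at h2
    rw [h2]
    rfl
  rw [Dh, h1, div_self (ph_one_ne hM h hQ hN)]

/-- the inclusion of `Q` (as a subgroup of `P`) into `Q` -/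
def toQ {Q P : Subgroup G} : Q.subgroupOf P →* Q where
  toFun x := ⟨((x : P) : G), Subgroup.mem_subgroupOf.1 x.2⟩
  map_one' := rfl
  map_mul' _ _ := rfl

/-- **The inductive step of the construction of the local system.** -/
theorem ls_step (hM : IsPModular p M) (h : AbMax p B P c) {Q : Subgroup G} (hQ : Q ≤ P) (hQP : Q ≠ P)
    (hF : TT P c ⊓ Cn Q ≤ Cn P) (ε : Subgroup G → ℤ) (hε : ∀ R, ε R = 1 ∨ ε R = -1)
    (hLS : ∀ R, Q < R → R ≤ P → LSat p P c ε R) :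
    ∃ s : ℤ, (s = 1 ∨ s = -1) ∧ ((Q.subgroupOf P).index ≤ 2 → s = 1) ∧
      ∀ ε' : Subgroup G → ℤ, (∀ R, Q < R → ε' R = ε R) → ε' Q = s → LSat p P c ε' Q := by
  haveI := Fintype.ofFinite P
  haveI := Fintype.ofFinite (Cn Q)
  have hA : ∀ a b : P, a * b = b * a := fun a b => Subtype.ext (Subgroup.mem_centralizer_iff.1 (h.ab b.2) a a.2)
  have hN := nil_of_fr hM h hQ hF
  obtain ⟨μ, hμ1, hμ⟩ := exists_mu Q
  obtain ⟨ρ, hρ⟩ : ∃ ρ : (G → ℂ) → P → ℂ, ρ = fun f => -∑ R ∈ (ivl Q P).erase Q, (μ R : ℂ) • eta p P c ε R f :=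
    ⟨_, rfl⟩
  have hρint : ∀ f : G → ℂ, IsGeneralizedCharacter (Cn Q) (fun x : Cn Q => f x) → IntF (ρ f) := by
    intro f hf
    rw [hρ]
    apply IntF.neg
    apply IntF.sum
    intro R hR
    rw [mem_erase_ivl] at hR
    refine (hLS R hR.1 hR.2 f ?_).smul (μ R)
    have hle : Cn R ≤ Cn Q := Subgroup.centralizer_le (SetLike.coe_subset_coe.2 hR.1.le)
    exact hf.comp (Subgroup.inclusion hle)
  have hρoff : ∀ f : G → ℂ, ∀ v : P, (v : G) ∉ Q →
      ρ f v = (ε (Q ⊔ Subgroup.zpowers (v : G)) : ℂ) * Dh p P c (Q ⊔ Subgroup.zpowers (v : G)) f v := by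
    intro f v hv
    rw [hρ]
    beta_reduce
    rw [Pi.neg_apply, Finset.sum_apply]
    exact weis1 hQ hμ1 hμ v.2 hv (fun S => (ε S : ℂ) * Dh p P c S f v)
  obtain ⟨N0, hN0⟩ : ∃ N0 : ℂ, N0 = -∑ R ∈ (ivl Q P).erase Q, (μ R : ℂ) * ((ε R : ℂ) * Dh p P c R (ph p P c Q) 1) :=
    ⟨_, rfl⟩
  have hw0 : Q ≤ Cn Q := hQ.trans (h.P_leQ hQ)
  have hρon : ∀ ξ ∈ bQ p P c Q, ∀ v : Q.subgroupOf P,
      ρ (extendByZero (Cn Q) (ξ : Cn Q → ℂ)) v = N0 * (((wch hw0 ξ).comp toQ) v : ℂ) := by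
    intro ξ hξ v
    rw [hρ]
    beta_reduce
    rw [Pi.neg_apply, Finset.sum_apply, hN0, neg_mul, Finset.sum_mul]
    congr 1
    refine Finset.sum_congr rfl fun R hR => ?_
    rw [mem_erase_ivl] at hR
    have hvQ : ((v : P) : G) ∈ Q := Subgroup.mem_subgroupOf.1 v.2
    have hRv : R ⊔ Subgroup.zpowers ((v : P) : G) = R :=
      sup_eq_left.2 (Subgroup.zpowers_le.2 (hR.1.le hvQ))
    rw [Pi.smul_apply, smul_eq_mul, eta, hRv, Dh, Dh, bl_wch h hQ hR.1.le ξ ⟨_, hvQ⟩,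
      bl_one_eq hM h hQ hR.1.le hR.2 hN hξ]
    have : (wch hw0 ξ ⟨((v : P) : G), hvQ⟩ : ℂ) = (((wch hw0 ξ).comp toQ) v : ℂ) := rfl
    rw [this]
    ring
  have hgen : ∀ ξ : IrrCharacter (Cn Q), IsGeneralizedCharacter (Cn Q)
      (fun x : Cn Q => extendByZero (Cn Q) (ξ : Cn Q → ℂ) x) := by
    intro ξ
    have e0 : (fun x : Cn Q => extendByZero (Cn Q) (ξ : Cn Q → ℂ) x) = (ξ : Cn Q → ℂ) := by
      funext x
      exact IndFun.extendByZero_mem _ _ x.2
    rw [e0]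
    exact ξ.2.isGeneralized
  obtain ⟨ξ0, hξ0⟩ := isPBlock_nonempty (isPBlock_bQ h.pair hQ)
  obtain ⟨N, hNN⟩ := (hρint _ (hgen ξ0)).one_int hA
  have hNint : N0 = (N : ℂ) := by
    have := hρon ξ0 hξ0 1
    rw [map_one, Units.val_one, mul_one, Subgroup.coe_one] at this
    rw [← this, hNN]
  -- the norm
  have hnorm : ∀ ξ ∈ bQ p P c Q, ∑ a ∈ Finset.univ.filter (fun a : P => a ∉ Q.subgroupOf P),
      ρ (extendByZero (Cn Q) (ξ : Cn Q → ℂ)) a * conj (ρ (extendByZero (Cn Q) (ξ : Cn Q → ℂ)) a) =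
        (Nat.card P : ℂ) - Nat.card (Q.subgroupOf P) := by
    intro ξ hξ
    haveI := Fintype.ofFinite (Q.subgroupOf P)
    have e0 : (fun x : Cn Q => extendByZero (Cn Q) (ξ : Cn Q → ℂ) x) = (ξ : Cn Q → ℂ) := by
      funext x
      exact IndFun.extendByZero_mem _ _ x.2
    have h1 := norm_Q hM h hQ hF (f := extendByZero (Cn Q) (ξ : Cn Q → ℂ))
      (g := extendByZero (Cn Q) (ξ : Cn Q → ℂ)) (by rw [e0]; exact Submodule.subset_span ⟨ξ, hξ, rfl⟩)
      (by rw [e0]; exact ξ.2.isClassFunction)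
    rw [e0, ξ.2.classInner_self, mul_one, sum_split (Q.subgroupOf P)] at h1
    have h2 : ∀ a ∈ Finset.univ.filter (fun a : P => a ∉ Q.subgroupOf P),
        Dh p P c (Q ⊔ Subgroup.zpowers (a : G)) (extendByZero (Cn Q) (ξ : Cn Q → ℂ)) a *
          conj (Dh p P c (Q ⊔ Subgroup.zpowers (a : G)) (extendByZero (Cn Q) (ξ : Cn Q → ℂ)) a) =
        ρ (extendByZero (Cn Q) (ξ : Cn Q → ℂ)) a * conj (ρ (extendByZero (Cn Q) (ξ : Cn Q → ℂ)) a) := by
      intro a ha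
      have ha' : (a : G) ∉ Q := fun h' => (Finset.mem_filter.1 ha).2 (Subgroup.mem_subgroupOf.2 h')
      rw [hρoff _ a ha', map_mul, map_intCast]
      rcases hε (Q ⊔ Subgroup.zpowers (a : G)) with h' | h' <;> rw [h'] <;> push_cast <;> ring
    have h3 : ∀ a : Q.subgroupOf P,
        Dh p P c (Q ⊔ Subgroup.zpowers ((a : P) : G)) (extendByZero (Cn Q) (ξ : Cn Q → ℂ)) ((a : P) : G) *
          conj (Dh p P c (Q ⊔ Subgroup.zpowers ((a : P) : G)) (extendByZero (Cn Q) (ξ : Cn Q → ℂ)) ((a : P) : G)) = 1 := by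
      intro a
      have haQ : ((a : P) : G) ∈ Q := Subgroup.mem_subgroupOf.1 a.2
      have hQv : Q ⊔ Subgroup.zpowers ((a : P) : G) = Q := sup_eq_left.2 (Subgroup.zpowers_le.2 haQ)
      have h4 := bl_wch h hQ le_rfl ξ ⟨_, haQ⟩
      have h5 := Dh_self_one hM h hQ hN hξ
      rw [hQv, Dh]
      rw [Dh] at h5
      simp only at h4
      rw [h4, mul_div_assoc, h5, mul_one, LinChar.conj_coe, ← Units.val_mul, mul_inv_cancel, Units.val_one]
    rw [Finset.sum_congr rfl h2, Finset.sum_congr rfl fun a _ => h3 a, Finset.sum_const, Finset.card_univ,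
      nsmul_eq_mul, mul_one, ← Nat.card_eq_fintype_card (α := Q.subgroupOf P)] at h1
    rw [h1]; ring
  have hne : Q.subgroupOf P ≠ ⊤ := by
    intro h'
    exact hQP (le_antisymm hQ (Subgroup.subgroupOf_eq_top.1 h'))
  obtain ⟨s, hs1, hs2, hs3⟩ := core hA hne (hρint _ (hgen ξ0)) ((wch hw0 ξ0).comp toQ) N
    (fun v => by rw [hρon ξ0 hξ0 v, hNint]) (hnorm ξ0 hξ0)
  refine ⟨s, hs1, hs2, fun ε' hε' hε's => ?_⟩
  apply LSat_of_irr hM h ε' hQ
  intro ξ hξ
  refine core2 (hρint _ (hgen ξ)) ((wch hw0 ξ).comp toQ) N s (fun v => by rw [hρon ξ hξ v, hNint]) hs3 ?_ ?_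
  · intro a ha
    have ha' : (a : G) ∉ Q := fun h' => ha (Subgroup.mem_subgroupOf.2 h')
    rw [hρoff _ a ha', eta, hε' _ (lt_of_le_of_ne le_sup_left fun h' => ha' (h' ▸ (le_sup_right :
      Subgroup.zpowers (a : G) ≤ _) (Subgroup.mem_zpowers _)))]
  · intro a
    have haQ : ((a : P) : G) ∈ Q := Subgroup.mem_subgroupOf.1 a.2
    have hQv : Q ⊔ Subgroup.zpowers ((a : P) : G) = Q := sup_eq_left.2 (Subgroup.zpowers_le.2 haQ)
    have h4 := bl_wch h hQ le_rfl ξ ⟨_, haQ⟩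
    have h5 := Dh_self_one hM h hQ hN hξ
    rw [eta, hQv, hε's, Dh]
    rw [Dh] at h5
    simp only at h4
    rw [h4, mul_div_assoc, h5, mul_one]
    rfl

/-- the case `Q = P` -/
theorem ls_top (hM : IsPModular p M) (h : AbMax p B P c) (ε : Subgroup G → ℤ) : LSat p P c ε P := by
  have hN := nil_of_fr hM h le_rfl (inf_le_right : TT P c ⊓ Cn P ≤ Cn P)
  apply LSat_of_irr hM h ε le_rfl
  intro ξ hξ
  have hw0 : P ≤ Cn P := h.ab
  have : eta p P c ε P (extendByZero (Cn P) (ξ : Cn P → ℂ)) = ((ε P : ℤ) : ℂ) • fun v : P => (wch hw0 ξ v : ℂ) := by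
    funext v
    have hQv : P ⊔ Subgroup.zpowers (v : G) = P := sup_eq_left.2 (Subgroup.zpowers_le.2 v.2)
    have h4 := bl_wch h le_rfl le_rfl ξ v
    have h5 := Dh_self_one hM h le_rfl hN hξ
    rw [eta, hQv, Dh]
    rw [Dh] at h5
    rw [h4, mul_div_assoc, h5, mul_one]
    rfl
  rw [this]
  exact (IntF.char _).smul _

/-- `LSat` only depends on the signs above -/
theorem LSat_congr {ε ε' : Subgroup G → ℤ} {Q : Subgroup G} (hε : ∀ R, Q ≤ R → ε R = ε' R)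
    (h : LSat p P c ε Q) : LSat p P c ε' Q := by
  intro f hf
  have : eta p P c ε' Q f = eta p P c ε Q f := by
    funext v
    rw [eta, eta, hε _ le_sup_left]
  rw [this]
  exact h f hf

/-- **Existence of the local system of signs.** -/
theorem exists_ls (hM : IsPModular p M) (h : AbMax p B P c) :
    ∃ ε : Subgroup G → ℤ, (∀ R, ε R = 1 ∨ ε R = -1) ∧ (∀ Q, (Q.subgroupOf P).index ≤ 2 → ε Q = 1) ∧
      ∀ Q, Q ≤ P → TT P c ⊓ Cn Q ≤ Cn P → LSat p P c ε Q := by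
  have key : ∀ n : ℕ, ∃ ε : Subgroup G → ℤ, (∀ R, ε R = 1 ∨ ε R = -1) ∧
      (∀ Q, (Q.subgroupOf P).index ≤ 2 → ε Q = 1) ∧
      ∀ Q, Q ≤ P → (Q.subgroupOf P).index ≤ n → TT P c ⊓ Cn Q ≤ Cn P → LSat p P c ε Q := by
    intro n
    induction n with
    | zero =>
      refine ⟨fun _ => 1, fun _ => Or.inl rfl, fun _ _ => rfl, fun Q _ hi => ?_⟩
      exact absurd (Nat.le_zero.1 hi) Subgroup.FiniteIndex.index_ne_zero
    | succ n ih =>
      obtain ⟨ε, hε1, hε2, hε3⟩ := ih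
      have hlt : ∀ {Q R : Subgroup G}, Q < R → R ≤ P → (R.subgroupOf P).index < (Q.subgroupOf P).index := by
        intro Q R hQR hR
        have h1 := Subgroup.relIndex_mul_relIndex Q R P hQR.le hR
        rw [Subgroup.relIndex, Subgroup.relIndex, Subgroup.relIndex] at h1
        rw [← h1]
        have h2 : (Q.subgroupOf R).index ≠ 1 := by
          intro h'
          rw [Subgroup.index_eq_one, Subgroup.subgroupOf_eq_top] at h'
          exact hQR.not_ge h'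
        have h3 : (Q.subgroupOf R).index ≠ 0 := Subgroup.FiniteIndex.index_ne_zero
        have h4 : (R.subgroupOf P).index ≠ 0 := Subgroup.FiniteIndex.index_ne_zero
        have h5 : 2 ≤ (Q.subgroupOf R).index := by omega
        nlinarith [Nat.pos_of_ne_zero h4]
      have hstep : ∀ Q : Subgroup G, Q ≤ P → Q ≠ P → (Q.subgroupOf P).index ≤ n + 1 → TT P c ⊓ Cn Q ≤ Cn P →
          ∃ s : ℤ, (s = 1 ∨ s = -1) ∧ ((Q.subgroupOf P).index ≤ 2 → s = 1) ∧
          ∀ ε' : Subgroup G → ℤ, (∀ R, Q < R → ε' R = ε R) → ε' Q = s → LSat p P c ε' Q := by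
        intro Q hQ hQP hi hF
        apply ls_step hM h hQ hQP hF ε hε1
        intro R hQR hR
        exact hε3 R hR (by have := hlt hQR hR; omega) (fr_mono hQR.le hF)
      choose! s hs1 hs2 hs3 using hstep
      obtain ⟨ε', hε'⟩ : ∃ ε' : Subgroup G → ℤ, ε' = fun Q => if Q ≤ P ∧ Q ≠ P ∧ (Q.subgroupOf P).index = n + 1 ∧
        TT P c ⊓ Cn Q ≤ Cn P then s Q else ε Q := ⟨_, rfl⟩
      have hsame : ∀ Q, (Q.subgroupOf P).index ≤ n → ε' Q = ε Q := by
        intro Q hQ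
        rw [hε']
        simp only
        rw [if_neg]
        rintro ⟨-, -, h', -⟩
        omega
      have hout : ∀ {Q R : Subgroup G}, Q ≤ P → (Q.subgroupOf P).index ≤ n + 1 → Q < R → ε' R = ε R := by
        intro Q R hQ hi hQR
        by_cases hR : R ≤ P
        · exact hsame R (by have := hlt hQR hR; omega)
        · rw [hε']
          simp only
          rw [if_neg (fun h' => hR h'.1)]
      refine ⟨ε', ?_, ?_, ?_⟩
      · intro R
        rw [hε']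
        simp only
        split_ifs with h'
        · exact hs1 R h'.1 h'.2.1 h'.2.2.1.le h'.2.2.2
        · exact hε1 R
      · intro Q hQ
        rw [hε']
        simp only
        split_ifs with h'
        · exact hs2 Q h'.1 h'.2.1 h'.2.2.1.le h'.2.2.2 hQ
        · exact hε2 Q hQ
      · intro Q hQ hi hF
        by_cases hQP : Q = P
        · rw [hQP]; exact ls_top hM h ε'
        · rcases Nat.lt_or_ge (Q.subgroupOf P).index (n + 1) with h' | h'
          · refine LSat_congr (ε := ε) (fun R hQR => ?_) (hε3 Q hQ (by omega) hF)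
            rcases hQR.eq_or_lt with rfl | h''
            · exact (hsame _ (by omega)).symm
            · exact (hout hQ hi h'').symm
          · refine hs3 Q hQ hQP hi hF ε' (fun R hQR => hout hQ hi hQR) ?_
            rw [hε']
            simp only
            rw [if_pos ⟨hQ, hQP, by omega, hF⟩]
  obtain ⟨ε, h1, h2, h3⟩ := key ((⊥ : Subgroup P).index)
  refine ⟨ε, h1, h2, fun Q hQ hF => h3 Q hQ ?_ hF⟩
  exact Nat.le_of_dvd (Nat.pos_of_ne_zero Subgroup.FiniteIndex.index_ne_zero)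
    (Subgroup.index_dvd_of_le bot_le)

end Cfsg.Agent.Lib.AbSec
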