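import Cfsg.Agent.Lib.AbLS3

/-!
# Blocks with abelian defect groups: uniqueness and stability of the local system of signs (helper77)
-/

set_option autoImplicit false
set_option linter.all false

namespace Cfsg.Agent.Lib.AbSec

open Cfsg Cfsg.Agent.Lib.BlockRing Cfsg.Agent.Lib.BlockGA Cfsg.Agent.Lib.BlockIdem
open Cfsg.Agent.Lib.BlkIdem Cfsg.Agent.Lib.BlockAlg Cfsg.Agent.Lib.PairAlg Cfsg.Agent.Lib.PairMax
open Cfsg.Agent.Lib.BrauerPairs Cfsg.Agent.Lib.NormalPBlk Cfsg.Agent.Lib.DefPairs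
open Cfsg.Agent.Lib.BlkTransport Cfsg.Agent.Lib.BlkFus Cfsg.Agent.Lib.InducedPair
open Cfsg.Agent.Lib.BlockCount Cfsg.Agent.Lib.BlockPair Cfsg.Agent.Lib.PairCount
open Cfsg.Agent.Lib.AbFusion Cfsg.Agent.Lib.AbCount Cfsg.Agent.Lib.BlockSecond
open Cfsg.Agent.Lib.CharBasic Cfsg.Agent.Lib.Contrib Cfsg.Agent.Lib.AbFT Cfsg.Agent.Lib.AbWeis
open MonoidAlgebra (single)
open scoped ComplexConjugate Classical

universe u v

variable {p : ℕ} [hp : Fact p.Prime] {M : Ideal AlgInt} [hMm : M.IsMaximal] [hchar : CharP (Kf M) p]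
  {G : Type u} [Group G] [Finite G] {B : Set (IrrCharacter G)} {P : Subgroup G} {c : MonoidAlgebra (Kf M) G}

/-! ### uniqueness -/

theorem ls_unique (hM : IsPModular p M) (h : AbMax p B P c) {ε ε' : Subgroup G → ℤ}
    (hε : ∀ R, ε R = 1 ∨ ε R = -1) (hε' : ∀ R, ε' R = 1 ∨ ε' R = -1)
    (h1 : ∀ Q, (Q.subgroupOf P).index ≤ 2 → ε Q = 1) (h1' : ∀ Q, (Q.subgroupOf P).index ≤ 2 → ε' Q = 1)
    (hL : ∀ Q, Q ≤ P → TT P c ⊓ Cn Q ≤ Cn P → LSat p P c ε Q)
    (hL' : ∀ Q, Q ≤ P → TT P c ⊓ Cn Q ≤ Cn P → LSat p P c ε' Q) {Q : Subgroup G} (hQ : Q ≤ P)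
    (hF : TT P c ⊓ Cn Q ≤ Cn P) : ε Q = ε' Q := by
  have hA : ∀ a b : P, a * b = b * a := fun a b => Subtype.ext (Subgroup.mem_centralizer_iff.1 (h.ab b.2) a a.2)
  revert hQ hF
  induction Q using WellFoundedGT.induction with
  | ind Q ih =>
    intro hQ hF
    by_cases hi : (Q.subgroupOf P).index ≤ 2
    · rw [h1 Q hi, h1' Q hi]
    · have hN := nil_of_fr hM h hQ hF
      obtain ⟨ξ, hξ⟩ := isPBlock_nonempty (isPBlock_bQ h.pair hQ)
      have hw0 : Q ≤ Cn Q := hQ.trans (h.P_leQ hQ)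
      have hgen : IsGeneralizedCharacter (Cn Q) (fun x : Cn Q => extendByZero (Cn Q) (ξ : Cn Q → ℂ) x) := by
        have e0 : (fun x : Cn Q => extendByZero (Cn Q) (ξ : Cn Q → ℂ) x) = (ξ : Cn Q → ℂ) := by
          funext x
          exact IndFun.extendByZero_mem _ _ x.2
        rw [e0]
        exact ξ.2.isGeneralized
      have hint := (hL Q hQ hF _ hgen).sub (hL' Q hQ hF _ hgen)
      have hd := index_dvd hA (H := Q.subgroupOf P) hint (fun a ha => by
        have ha' : (a : G) ∉ Q := fun h' => ha (Subgroup.mem_subgroupOf.2 h')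
        have hlt : Q < Q ⊔ Subgroup.zpowers (a : G) := lt_of_le_of_ne le_sup_left fun h' => ha' (h' ▸
          (le_sup_right : Subgroup.zpowers (a : G) ≤ _) (Subgroup.mem_zpowers _))
        have hle : Q ⊔ Subgroup.zpowers (a : G) ≤ P := sup_le hQ (zpowers_le_of a.2)
        rw [Pi.sub_apply, eta, eta, ih _ hlt hle (fr_mono hlt.le hF), sub_self])
        ((wch hw0 ξ).comp toQ) (ε Q - ε' Q) (fun a => by
        have haQ : ((a : P) : G) ∈ Q := Subgroup.mem_subgroupOf.1 a.2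
        have hQv : Q ⊔ Subgroup.zpowers ((a : P) : G) = Q := sup_eq_left.2 (Subgroup.zpowers_le.2 haQ)
        have h4 := bl_wch h hQ le_rfl ξ ⟨_, haQ⟩
        have h5 := Dh_self_one hM h hQ hN hξ
        rw [Pi.sub_apply, eta, eta, hQv, Dh]
        rw [Dh] at h5
        simp only at h4
        rw [h4, mul_div_assoc, h5, mul_one]
        push_cast
        rw [sub_mul]
        rfl)
      have hi' : (3 : ℤ) ≤ ((Q.subgroupOf P).index : ℤ) := by
        have : 3 ≤ (Q.subgroupOf P).index := by omega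
        exact_mod_cast this
      rcases hε Q with a | a <;> rcases hε' Q with b | b <;> rw [a, b] at hd ⊢
      · exact absurd (Int.le_of_dvd (by norm_num) hd) (by omega)
      · rw [dvd_sub_comm] at hd
        exact absurd (Int.le_of_dvd (by norm_num) hd) (by omega)

/-! ### transport by elements of the stabilizer -/

theorem mem_Cn_cg {t x : G} {Q : Subgroup G} : x ∈ Cn (cg t Q) ↔ t⁻¹ * x * t ∈ Cn Q := by
  show x ∈ Subgroup.centralizer ((cg t Q : Subgroup G) : Set G) ↔ _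
  rw [centralizer_cg, mem_cg]

theorem cg_le_P {t : G} (ht : t ∈ TT P c) {Q : Subgroup G} (hQ : Q ≤ P) : cg t Q ≤ P := by
  intro x hx
  rw [mem_cg] at hx
  have := conj_mem_of_TT ht (hQ hx)
  have e : t * (t⁻¹ * x * t) * t⁻¹ = x := by group
  rwa [e] at this

theorem cj_eh (h : AbMax p B P c) {t : G} (ht : t ∈ TT P c) {Q : Subgroup G} (hQ : Q ≤ P) :
    BrauerMap.cj t (eh p P c Q) = eh p P c (cg t Q) := by
  apply eq_eh h.pair (cg_le_P ht hQ)
  · apply cj_mem_ZAlg (H := Cn Q) _ (eh_ZAlg Q)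
    intro g
    rw [centralizer_cg, mem_cg]
  · rw [← map_mul, eh_idem]
  · exact locA_cj (eh_loc h.pair hQ) t
  · rw [redA_cj, eh_red h.pair hQ, cj_pr h.pair ht hQ]
    rfl

/-- transport of functions -/
def fcj (t : G) (f : G → ℂ) : G → ℂ := fun x => f (t⁻¹ * x * t)

theorem lin_fcj (t : G) (f : G → ℂ) (z : GA G) : lin (fcj t f) (BrauerMap.cj t z) = lin f z := by
  haveI := Fintype.ofFinite G
  rw [lin_apply, lin_apply]
  refine Fintype.sum_equiv (MulAut.conj t⁻¹).toEquiv _ _ fun g => ?_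
  rw [BrauerMap.cj_coeff]
  have e1 : ((MulAut.conj t⁻¹).toEquiv g : G) = t⁻¹ * g * t := by
    show t⁻¹ * g * t⁻¹⁻¹ = _
    rw [inv_inv]
  rw [e1, fcj]

theorem bl_fcj (h : AbMax p B P c) {t : G} (ht : t ∈ TT P c) {Q : Subgroup G} (hQ : Q ≤ P) (f : G → ℂ) (x : G) :
    bl p P c (cg t Q) (fcj t f) (t * x * t⁻¹) = bl p P c Q f x := by
  rw [bl, ← cj_eh h ht hQ, ← cj_single, ← map_mul, lin_fcj]
  rfl

theorem bl_classFun (h : AbMax p B P c) {t : G} (ht : t ∈ TT P c) {Q : Subgroup G} (hQ : Q ≤ P) {f : G → ℂ}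
    (hf : IsClassFunction G f) (x : G) :
    bl p P c (cg t Q) f (t * x * t⁻¹) = bl p P c Q f x := by
  have : fcj t f = f := by
    funext y
    have := hf y t⁻¹
    rwa [inv_inv] at this
  conv_lhs => rw [← this]
  exact bl_fcj h ht hQ f x

theorem fr_cg (h : AbMax p B P c) {t : G} (ht : t ∈ TT P c) {Q : Subgroup G} (hF : TT P c ⊓ Cn Q ≤ Cn P) :
    TT P c ⊓ Cn (cg t Q) ≤ Cn P := by
  intro x hx
  have hx1 : x ∈ TT P c := (Subgroup.mem_inf.1 hx).1
  have hx2 := mem_Cn_cg.1 (Subgroup.mem_inf.1 hx).2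
  have h1 : t⁻¹ * x * t ∈ Cn P := hF (Subgroup.mem_inf.2
    ⟨(TT P c).mul_mem ((TT P c).mul_mem ((TT P c).inv_mem ht) hx1) ht, hx2⟩)
  have h2 : cg t (Cn P) = Cn P := by
    rw [← centralizer_cg, cg_of_mem_normalizer ht.1]
  rw [← h2, mem_cg]
  exact h1

/-- the square of the degree of the Brauer character of a nilpotent local block -/
theorem ph_sq (hM : IsPModular p M) (h : AbMax p B P c) {R : Subgroup G} (hR : R ≤ P) (hN : Nil p P c R) :
    (Nat.card (Cn R) : ℂ) * (eh p P c R).coeff 1 = (Nat.card P : ℂ) * (ph p P c R 1) ^ 2 := by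
  haveI := Fintype.ofFinite (Cn R)
  have h1 := cid_coeff_coe (Cn R) (bQ p P c R) 1
  rw [Subgroup.coe_one] at h1
  rw [eh, h1, blockCoeff_eq_sum, ← mul_assoc, mul_inv_cancel₀ (Nat.cast_ne_zero.2 Nat.card_pos.ne'), one_mul]
  have h2 : ∀ χ : IrrCharacter (Cn R), (if χ ∈ bQ p P c R then (χ : Cn R → ℂ) 1 * conj ((χ : Cn R → ℂ) 1) else 0) =
      if χ ∈ bQ p P c R then (ph p P c R 1) ^ 2 else 0 := by
    intro χ
    split_ifs with hχ
    · have h3 := ph_coe hM h hR hN hχ 1 (not_dvd_one)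
      rw [Subgroup.coe_one] at h3
      rw [h3]
      obtain ⟨n, hn0, hn⟩ := χ.2.exists_degree
      rw [hn, Complex.conj_natCast]
      ring
    · rfl
  rw [Finset.sum_congr rfl fun χ _ => h2 χ, ← Finset.sum_filter, Finset.sum_const, nsmul_eq_mul]
  congr 1
  have h4 : (Finset.univ.filter fun χ : IrrCharacter (Cn R) => χ ∈ bQ p P c R).card = Nat.card (bQ p P c R) := by
    rw [Nat.card_eq_fintype_card, Fintype.card_subtype]
  rw [h4, hN.2]

theorem ph_one_nat (hM : IsPModular p M) (h : AbMax p B P c) {R : Subgroup G} (hR : R ≤ P) (hN : Nil p P c R) :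
    ∃ n : ℕ, n ≠ 0 ∧ ph p P c R 1 = n := by
  obtain ⟨ξ, hξ⟩ := isPBlock_nonempty (isPBlock_bQ h.pair hR)
  have h3 := ph_coe hM h hR hN hξ 1 (not_dvd_one)
  rw [Subgroup.coe_one] at h3
  obtain ⟨n, hn0, hn⟩ := ξ.2.exists_degree
  exact ⟨n, by omega, by rw [h3, hn]⟩

theorem ph_cg (hM : IsPModular p M) (h : AbMax p B P c) {t : G} (ht : t ∈ TT P c) {R : Subgroup G} (hR : R ≤ P)
    (hF : TT P c ⊓ Cn R ≤ Cn P) : ph p P c (cg t R) 1 = ph p P c R 1 := by
  have hN := nil_of_fr hM h hR hF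
  have hN' := nil_of_fr hM h (cg_le_P ht hR) (fr_cg h ht hF)
  have h1 := ph_sq hM h hR hN
  have h2 := ph_sq hM h (cg_le_P ht hR) hN'
  have h3 : (Nat.card (Cn (cg t R)) : ℂ) * (eh p P c (cg t R)).coeff 1 =
      (Nat.card (Cn R) : ℂ) * (eh p P c R).coeff 1 := by
    rw [← cj_eh h ht hR, BrauerMap.cj_coeff]
    have e1 : t⁻¹ * 1 * t = 1 := by group
    have e2 : Nat.card (Cn (cg t R)) = Nat.card (Cn R) := by
      show Nat.card (Subgroup.centralizer ((cg t R : Subgroup G) : Set G)) = _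
      rw [centralizer_cg, card_cg]
    rw [e1, e2]
  rw [h1, h2] at h3
  have h4 := mul_left_cancel₀ (Nat.cast_ne_zero.2 Nat.card_pos.ne') h3
  obtain ⟨n, hn0, hn⟩ := ph_one_nat hM h hR hN
  obtain ⟨m, hm0, hm⟩ := ph_one_nat hM h (cg_le_P ht hR) hN'
  rw [hn, hm] at h4 ⊢
  have h5 : m ^ 2 = n ^ 2 := by exact_mod_cast h4
  have h6 : m = n := Nat.pow_left_injective (n := 2) (by norm_num) h5
  rw [h6]

theorem Dh_fcj (hM : IsPModular p M) (h : AbMax p B P c) {t : G} (ht : t ∈ TT P c) {Q : Subgroup G} (hQ : Q ≤ P)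
    (hF : TT P c ⊓ Cn Q ≤ Cn P) (f : G → ℂ) (x : G) :
    Dh p P c (cg t Q) (fcj t f) (t * x * t⁻¹) = Dh p P c Q f x := by
  rw [Dh, bl_fcj h ht hQ, ph_cg hM h ht hQ hF]
  rfl

theorem Dh_classFun (hM : IsPModular p M) (h : AbMax p B P c) {t : G} (ht : t ∈ TT P c) {Q : Subgroup G} (hQ : Q ≤ P)
    (hF : TT P c ⊓ Cn Q ≤ Cn P) {f : G → ℂ} (hf : IsClassFunction G f) (x : G) :
    Dh p P c (cg t Q) f (t * x * t⁻¹) = Dh p P c Q f x := by
  rw [Dh, bl_classFun h ht hQ hf, ph_cg hM h ht hQ hF]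
  rfl

/-- the automorphism of `P` induced by an element of the stabilizer -/
noncomputable def autP {t : G} (ht : t ∈ TT P c) : P →* P where
  toFun v := ⟨t * v * t⁻¹, conj_mem_of_TT ht v.2⟩
  map_one' := by
    apply Subtype.ext
    simp
  map_mul' v w := by
    apply Subtype.ext
    simp

theorem autP_apply {t : G} (ht : t ∈ TT P c) (v : P) : ((autP ht v : P) : G) = t * v * t⁻¹ := rfl

theorem autP_bij {t : G} (ht : t ∈ TT P c) : Function.Bijective (autP ht) := by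
  rw [← Finite.injective_iff_bijective]
  intro v w hvw
  have h1 := congrArg (Subtype.val) hvw
  rw [autP_apply, autP_apply] at h1
  exact Subtype.ext (mul_left_cancel (mul_right_cancel h1))

end Cfsg.Agent.Lib.AbSec

namespace Cfsg.Agent.Lib.AbFT

open scoped ComplexConjugate Classical

universe u

variable {A : Type u} [Group A] [Finite A]

theorem ft_comp (f : A → ℂ) (φ : A →* A) (hφ : Function.Bijective φ) (θ : A →* ℂˣ) :
    ft (fun a => f (φ a)) (θ.comp φ) = ft f θ := by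
  haveI := Fintype.ofFinite A
  rw [ft_def, ft_def]
  congr 1
  exact Fintype.sum_bijective φ hφ _ _ fun a => rfl

theorem IntF.comp {f : A → ℂ} (hf : IntF f) (φ : A →* A) (hφ : Function.Bijective φ) :
    IntF (fun a => f (φ a)) := by
  intro θ
  obtain ⟨e, he⟩ : ∃ e : A ≃* A, e.toMonoidHom = φ := ⟨MulEquiv.ofBijective φ hφ, rfl⟩
  have : θ = (θ.comp e.symm.toMonoidHom).comp φ := by
    ext a
    rw [← he]
    simp
  rw [this, ft_comp f φ hφ]
  exact hf _

end Cfsg.Agent.Lib.AbFT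

namespace Cfsg.Agent.Lib.AbSec

open Cfsg Cfsg.Agent.Lib.BlockRing Cfsg.Agent.Lib.BlockGA Cfsg.Agent.Lib.BlockIdem
open Cfsg.Agent.Lib.BlkIdem Cfsg.Agent.Lib.BlockAlg Cfsg.Agent.Lib.PairAlg Cfsg.Agent.Lib.PairMax
open Cfsg.Agent.Lib.BrauerPairs Cfsg.Agent.Lib.NormalPBlk Cfsg.Agent.Lib.DefPairs
open Cfsg.Agent.Lib.BlkTransport Cfsg.Agent.Lib.BlkFus Cfsg.Agent.Lib.InducedPair
open Cfsg.Agent.Lib.BlockCount Cfsg.Agent.Lib.BlockPair Cfsg.Agent.Lib.PairCount
open Cfsg.Agent.Lib.AbFusion Cfsg.Agent.Lib.AbCount Cfsg.Agent.Lib.BlockSecond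
open Cfsg.Agent.Lib.CharBasic Cfsg.Agent.Lib.Contrib Cfsg.Agent.Lib.AbFT Cfsg.Agent.Lib.AbWeis
open MonoidAlgebra (single)
open scoped ComplexConjugate Classical

universe u v

variable {p : ℕ} [hp : Fact p.Prime] {M : Ideal AlgInt} [hMm : M.IsMaximal] [hchar : CharP (Kf M) p]
  {G : Type u} [Group G] [Finite G] {B : Set (IrrCharacter G)} {P : Subgroup G} {c : MonoidAlgebra (Kf M) G}

theorem cg_sup (t : G) (Q R : Subgroup G) : cg t (Q ⊔ R) = cg t Q ⊔ cg t R := Subgroup.map_sup _ _ _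

theorem cg_zpowers (t v : G) : cg t (Subgroup.zpowers v) = Subgroup.zpowers (t * v * t⁻¹) := by
  rw [cg, MonoidHom.map_zpowers]
  rfl

/-- **Stability of the local system of signs.** -/
theorem ls_stable (hM : IsPModular p M) (h : AbMax p B P c) {ε : Subgroup G → ℤ}
    (hε : ∀ R, ε R = 1 ∨ ε R = -1) (h1 : ∀ Q, (Q.subgroupOf P).index ≤ 2 → ε Q = 1)
    (hL : ∀ Q, Q ≤ P → TT P c ⊓ Cn Q ≤ Cn P → LSat p P c ε Q) {Q : Subgroup G} (hQ : Q ≤ P)
    (hF : TT P c ⊓ Cn Q ≤ Cn P) {t : G} (ht : t ∈ TT P c) : ε (cg t Q) = ε Q := by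
  refine (ls_unique hM h hε (ε' := fun R => ε (cg t R)) (fun R => hε _) h1 ?_ hL ?_ hQ hF).symm
  · intro R hR
    apply h1
    have e1 : cg t P = P := cg_of_mem_normalizer ht.1
    have e2 : ((cg t R).subgroupOf P).index = (R.subgroupOf P).index := by
      show (cg t R).relIndex P = R.relIndex P
      conv_lhs => rw [← e1]
      exact Subgroup.relIndex_map_map_of_injective _ _ (MulAut.conj t).injective
    rw [e2]
    exact hR
  · intro R hR hFR f hf
    have h2 := hL (cg t R) (cg_le_P ht hR) (fr_cg h ht hFR) (fcj t f) (by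
      obtain ⟨φ, hφ⟩ : ∃ φ : Cn (cg t R) →* Cn R, ∀ x, ((φ x : Cn R) : G) = t⁻¹ * x * t := by
        have hm : ∀ x : Cn (cg t R), t⁻¹ * (x : G) * t ∈ Cn R := by
          intro x
          exact mem_Cn_cg.1 x.2
        refine ⟨{ toFun := fun x => ⟨t⁻¹ * x * t, hm x⟩, map_one' := ?_, map_mul' := ?_ }, fun x => rfl⟩
        · apply Subtype.ext; simp
        · intro x y
          apply Subtype.ext
          simp
          group
      have := hf.comp φ
      convert this using 1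
      funext x
      simp only [Function.comp, fcj, hφ])
    have h3 := h2.comp (autP ht) (autP_bij ht)
    convert h3 using 1
    funext v
    have e1 : cg t R ⊔ Subgroup.zpowers (t * (v : G) * t⁻¹) = cg t (R ⊔ Subgroup.zpowers (v : G)) := by
      rw [cg_sup, cg_zpowers]
    rw [eta, eta, autP_apply, e1, Dh_fcj hM h ht (sup_le hR (zpowers_le_of v.2)) (fr_mono le_sup_left hFR)]

end Cfsg.Agent.Lib.AbSec
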