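import Cfsg.Agent.Lib.AbCount3
import Cfsg.Agent.Lib.BlkNil

/-!
# Blocks with abelian defect groups: local blocks, cyclic defect groups
-/

set_option autoImplicit false
set_option linter.all false

namespace Cfsg.Agent.Lib.AbCount

open Cfsg Cfsg.Agent.Lib.BlockRing Cfsg.Agent.Lib.BlockGA Cfsg.Agent.Lib.BlockIdem
open Cfsg.Agent.Lib.BlkIdem Cfsg.Agent.Lib.BlockAlg Cfsg.Agent.Lib.PairAlg Cfsg.Agent.Lib.PairMax
open Cfsg.Agent.Lib.BrauerPairs Cfsg.Agent.Lib.NormalPBlk Cfsg.Agent.Lib.DefPairs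
open Cfsg.Agent.Lib.BlkTransport Cfsg.Agent.Lib.BlkFus Cfsg.Agent.Lib.InducedPair
open Cfsg.Agent.Lib.BlockCount Cfsg.Agent.Lib.BlockPair Cfsg.Agent.Lib.PairCount
open Cfsg.Agent.Lib.AbFusion Cfsg.Agent.Lib.BlkNil

universe u v

variable {p : ℕ} [hp : Fact p.Prime] {M : Ideal AlgInt} [hMm : M.IsMaximal] [hchar : CharP (Kf M) p]
  {G : Type u} [Group G] [Finite G] {B : Set (IrrCharacter G)} {P : Subgroup G} {c : MonoidAlgebra (Kf M) G}

/-- the block of `C(Q)` -/
noncomputable abbrev bQ (p : ℕ) (P : Subgroup G) (c : MonoidAlgebra (Kf M) G) (Q : Subgroup G) :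
    Set (IrrCharacter (Subgroup.centralizer (Q : Set G))) :=
  blkOf M (Subgroup.centralizer (Q : Set G)) (pr p P c Q)

theorem AbMax.P_leQ (h : AbMax p B P c) {Q : Subgroup G} (hQ : Q ≤ P) : P ≤ Subgroup.centralizer (Q : Set G) :=
  h.ab.trans (Subgroup.centralizer_le (SetLike.coe_subset_coe.2 hQ))

omit [Finite G] in
theorem C_leQ {Q : Subgroup G} (hQ : Q ≤ P) :
    Subgroup.centralizer (P : Set G) ≤ Subgroup.centralizer (Q : Set G) :=
  Subgroup.centralizer_le (SetLike.coe_subset_coe.2 hQ)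

theorem AbMax.resQ (h : AbMax p B P c) {Q : Subgroup G} (hQ : Q ≤ P) :
    AbMax p (bQ p P c Q) (P.subgroupOf (Subgroup.centralizer (Q : Set G)))
      (BlockAlg.res (Subgroup.centralizer (Q : Set G)) c) := by
  set H := Subgroup.centralizer (Q : Set G) with hH
  have hPH : P ≤ H := h.P_leQ hQ
  have hCH : Subgroup.centralizer (P : Set G) ≤ H := C_leQ hQ
  have h1 := pr_pair h.pair hQ
  obtain ⟨h2, h3⟩ := blkOf_spec h1.2
  have hinc : inc H (BlockAlg.res H c) = c := inc_res H (BrauerMap.suppAlg_mono hCH h.pair.2.mem.1)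
  refine ⟨h2, ?_, ?_, ?_, ?_⟩
  · rw [← bpair_inc_iff hPH hCH, hinc]
    exact h.pair
  · apply maxPair_inc hPH hCH
    rw [hinc]
    exact h.max
  · apply inc_injective (M := M) H
    rw [map_mul, inc_br hPH, hinc]
    have h4 : inc H (bidG M (bQ p P c Q)) = bid M H (bQ p P c Q) := rfl
    rw [h4, h3]
    have hN : P ≤ Subgroup.normalizer (Q : Set G) := le_trans hPH (centralizer_le_normalizer _)
    exact (PLE.nle hasBlocks h.pair (pr_spec h.pair hQ) hN).br_mul
  · intro x hx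
    rw [Subgroup.mem_centralizer_iff]
    intro y hy
    apply Subtype.ext
    exact Subgroup.mem_centralizer_iff.1 (h.ab (Subgroup.mem_subgroupOf.1 hx)) (y : G) (Subgroup.mem_subgroupOf.1 hy)

theorem AbMax.mem_stab_resQ (h : AbMax p B P c) {Q : Subgroup G} (hQ : Q ≤ P)
    {t : Subgroup.centralizer (Q : Set G)} :
    t ∈ stab (Subgroup.normalizer ((P.subgroupOf (Subgroup.centralizer (Q : Set G)) :
        Subgroup (Subgroup.centralizer (Q : Set G))) : Set (Subgroup.centralizer (Q : Set G))))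
        (BlockAlg.res (Subgroup.centralizer (Q : Set G)) c) ↔
      (t : G) ∈ stab (Subgroup.normalizer (P : Set G)) c := by
  have hinc : inc (Subgroup.centralizer (Q : Set G)) (BlockAlg.res (Subgroup.centralizer (Q : Set G)) c) = c :=
    inc_res _ (BrauerMap.suppAlg_mono (C_leQ hQ) h.pair.2.mem.1)
  rw [mem_stab, mem_stab, mem_normalizer_subgroupOf (h.P_leQ hQ)]
  refine and_congr_right fun _ => ?_
  rw [← (inc_injective (M := M) (Subgroup.centralizer (Q : Set G))).eq_iff, inc_cj, hinc]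

theorem AbMax.isNilpotentBlock (h : AbMax p B P c)
    (hT : ∀ t ∈ stab (Subgroup.normalizer (P : Set G)) c, t ∈ Subgroup.centralizer (P : Set G)) :
    IsNilpotentBlock p M B := by
  rw [isNilpotentBlock_iff]
  refine ⟨h.blk, nil_of_inner hasBlocks (isBlk_bidG h.blk) h.pair h.br h.max ?_⟩
  rintro Q g ⟨f, hf, hg⟩
  refine ⟨1, one_mem _, ?_⟩
  rw [inv_one, one_mul]
  obtain ⟨z, hz, hzg⟩ := ab_factor h.pair h.max h.ab hf hg
  have h1 := C_leQ hf.le (hT _ hzg)
  rw [centralizer_cg, mem_cg] at hz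
  have : g = (z * g) * (g⁻¹ * z * g)⁻¹ := by group
  rw [this]
  exact mul_mem h1 (inv_mem hz)

/-- the block `f` of `C(Q)` induced by `c` -/
theorem AbMax.pr_of_inducedIn {c : Set (IrrCharacter (Subgroup.centralizer (P : Set G)))}
    (hc : IsPBlock M c) (h : AbMax p B P (bid M _ c)) {Q : Subgroup G} (hQ : Q ≤ P)
    {f : Set (IrrCharacter (Subgroup.centralizer (Q : Set G)))} (hf : IsPBlock M f)
    (hcf : IsInducedBlockIn M (Subgroup.centralizer (Q : Set G)) (Subgroup.centralizer (P : Set G)) c f) :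
    pr p P (bid M _ c) Q = bid M _ f ∧ bQ p P (bid M _ c) Q = f := by
  have h1 : BrauerMap.br P (bid M _ f) * bid M _ c = bid M _ c :=
    (isInducedBlockIn_iff_br (p := p) rfl h.pair.1 (h.P_leQ hQ) (C_leQ hQ) hc hf).1 hcf
  have h2 : NLE p Q (bid M _ f) P (bid M _ c) := by
    refine ⟨⟨h.pair.1.to_le hQ, isBlk_bid hf⟩, h.pair, hQ,
      (h.P_leQ hQ).trans (centralizer_le_normalizer _), ?_, h1⟩
    intro x hx
    exact (bid_mem_ZAlg _ f).2 x (h.P_leQ hQ hx)
  have h3 := pr_eq h.pair h2.ple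
  refine ⟨h3, ?_⟩
  rw [bQ, h3, blkOf_bid hf]

/-- `T' = T C(Q)` -/
theorem AbMax.stab_eq (h : AbMax p B P c) {Q : Subgroup G} (hQ : Q ≤ P)
    (hchar : ∀ t ∈ stab (Subgroup.normalizer (P : Set G)) c, t ∈ Subgroup.normalizer (Q : Set G)) :
    stab (Subgroup.normalizer (Q : Set G)) (pr p P c Q) =
      stab (Subgroup.normalizer (P : Set G)) c ⊔ Subgroup.centralizer (Q : Set G) := by
  apply le_antisymm
  · intro x hx
    obtain ⟨z, hz, hzx⟩ := ab_factor' h.pair h.max h.ab (pr_spec h.pair hQ) hx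
    have : x = z⁻¹ * (z * x) := by group
    rw [this]
    exact mul_mem ((le_sup_right : Subgroup.centralizer (Q : Set G) ≤ _) (inv_mem hz))
      ((le_sup_left : stab (Subgroup.normalizer (P : Set G)) c ≤ _) hzx)
  · apply sup_le
    · intro t ht
      exact stab_of_stab hasBlocks h.pair (pr_spec h.pair hQ) ht (hchar t ht)
    · intro t ht
      exact ⟨centralizer_le_normalizer Q ht, (pr_pair h.pair hQ).2.mem.2 t ht⟩

theorem AbMax.relIndex_eq (h : AbMax p B P c) {Q : Subgroup G} (hQ : Q ≤ P)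
    (hchar : ∀ t ∈ stab (Subgroup.normalizer (P : Set G)) c, t ∈ Subgroup.normalizer (Q : Set G))
    (hfree : ∀ t ∈ stab (Subgroup.normalizer (P : Set G)) c, t ∈ Subgroup.centralizer (Q : Set G) →
      t ∈ Subgroup.centralizer (P : Set G)) :
    (Subgroup.centralizer (Q : Set G)).relIndex (stab (Subgroup.normalizer (Q : Set G)) (pr p P c Q)) =
      (Subgroup.centralizer (P : Set G)).relIndex (stab (Subgroup.normalizer (P : Set G)) c) := by
  set T := stab (Subgroup.normalizer (P : Set G)) c with hT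
  set T' := stab (Subgroup.normalizer (Q : Set G)) (pr p P c Q) with hT'
  have hTT : T ≤ T' := by
    rw [hT', h.stab_eq hQ hchar]; exact le_sup_left
  let f : T ⧸ (Subgroup.centralizer (P : Set G)).subgroupOf T →
      T' ⧸ (Subgroup.centralizer (Q : Set G)).subgroupOf T' := fun q => QuotientGroup.mk ⟨q.out, hTT q.out.2⟩
  have hf : Function.Bijective f := by
    constructor
    · intro q r hqr
      have h1 : (QuotientGroup.mk (⟨q.out, hTT q.out.2⟩ : T') : T' ⧸ (Subgroup.centralizer (Q : Set G)).subgroupOf T') =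
        QuotientGroup.mk ⟨r.out, hTT r.out.2⟩ := hqr
      rw [QuotientGroup.eq, Subgroup.mem_subgroupOf] at h1
      have h2 : ((q.out⁻¹ * r.out : T) : G) ∈ Subgroup.centralizer (P : Set G) := by
        apply hfree _ (q.out⁻¹ * r.out : T).2
        exact h1
      rw [← QuotientGroup.out_eq' q, ← QuotientGroup.out_eq' r]
      exact QuotientGroup.eq.2 (Subgroup.mem_subgroupOf.2 h2)
    · intro x
      obtain ⟨x, rfl⟩ := QuotientGroup.mk_surjective x
      obtain ⟨z, hz, hzx⟩ := ab_factor' h.pair h.max h.ab (pr_spec h.pair hQ) x.2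
      refine ⟨QuotientGroup.mk ⟨z * x, hzx⟩, ?_⟩
      obtain ⟨d, hd⟩ := QuotientGroup.mk_out_eq_mul ((Subgroup.centralizer (P : Set G)).subgroupOf T) ⟨z * x, hzx⟩
      show (QuotientGroup.mk (⟨((QuotientGroup.mk ⟨z * x, hzx⟩ :
        T ⧸ (Subgroup.centralizer (P : Set G)).subgroupOf T).out : G), _⟩ : T') :
        T' ⧸ (Subgroup.centralizer (Q : Set G)).subgroupOf T') = QuotientGroup.mk x
      rw [QuotientGroup.eq, Subgroup.mem_subgroupOf]
      show (((QuotientGroup.mk ⟨z * x, hzx⟩ :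
        T ⧸ (Subgroup.centralizer (P : Set G)).subgroupOf T).out : T) : G)⁻¹ * (x : G) ∈ _
      rw [hd]
      have hd2 : ((d : T) : G) ∈ Subgroup.centralizer (Q : Set G) := C_leQ hQ (Subgroup.mem_subgroupOf.1 d.2)
      show ((z * (x : G)) * ((d : T) : G))⁻¹ * (x : G) ∈ _
      have e1 : ((z * (x : G)) * ((d : T) : G))⁻¹ * (x : G) = ((d : T) : G)⁻¹ * ((x : G)⁻¹ * z⁻¹ * (x : G)) := by group
      rw [e1]
      refine mul_mem (inv_mem hd2) ?_
      have hxN := normalizer_le_normalizer_centralizer Q (stab_le _ _ x.2)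
      have := (Subgroup.mem_normalizer_iff.1 (inv_mem hxN) z⁻¹).1 (inv_mem hz)
      simpa using this
  exact (Nat.card_eq_of_bijective f hf).symm

/-! ### cyclic `P` -/

theorem AbMax.cyclic_free (h : AbMax p B P c) (hcyc : IsCyclic P) {Q : Subgroup G} (hQ : Q ≤ P) (hQ1 : Q ≠ ⊥)
    {t : G} (ht : t ∈ stab (Subgroup.normalizer (P : Set G)) c) (htQ : t ∈ Subgroup.centralizer (Q : Set G)) :
    t ∈ Subgroup.centralizer (P : Set G) := by
  obtain ⟨⟨g, hg⟩, hgen⟩ := hcyc.exists_generator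
  have hgen' : ∀ x ∈ P, ∃ n : ℤ, g ^ n = x := by
    intro x hx
    obtain ⟨n, hn⟩ := Subgroup.mem_zpowers_iff.1 (hgen ⟨x, hx⟩)
    exact ⟨n, by have := congrArg Subtype.val hn; simpa using this⟩
  obtain ⟨m, hm⟩ := orderOf_mem h.pair.1 hg
  have hN : t * g * t⁻¹ ∈ P := (Subgroup.mem_normalizer_iff.1 (stab_le _ _ ht) g).1 hg
  obtain ⟨k, hk⟩ := hgen' _ hN
  -- powers
  have hpow : ∀ (x : G) (a : ℤ), (t * x * t⁻¹) ^ a = t * x ^ a * t⁻¹ := fun x a => by
    rw [conj_zpow]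
  have hiter : ∀ s : ℕ, t ^ s * g * (t ^ s)⁻¹ = g ^ (k ^ s) := by
    intro s
    induction s with
    | zero => simp
    | succ s ih =>
      have e1 : t ^ (s + 1) * g * (t ^ (s + 1))⁻¹ = t * (t ^ s * g * (t ^ s)⁻¹) * t⁻¹ := by
        rw [pow_succ']; group
      rw [e1, ih, ← hpow, ← hk, ← zpow_mul, pow_succ, mul_comm]
  -- an element of order `p` of `Q`
  obtain ⟨y, hy, hy1⟩ : ∃ y ∈ Q, y ≠ 1 := by
    by_contra hcon
    push Not at hcon
    exact hQ1 (Subgroup.eq_bot_iff_forall _ |>.2 hcon)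
  obtain ⟨n, hn⟩ := hgen' y (hQ hy)
  have hty : t * y * t⁻¹ = y := by
    have := Subgroup.mem_centralizer_iff.1 htQ y hy
    rw [← this]; group
  have h2 : g ^ (n * (k - 1)) = 1 := by
    rw [mul_sub, mul_one, zpow_sub, mul_comm n k, zpow_mul, hk, hpow, hn, hty, mul_inv_cancel]
  have h3 : ((orderOf g : ℕ) : ℤ) ∣ n * (k - 1) := orderOf_dvd_iff_zpow_eq_one.2 h2
  have h4 : (p : ℤ) ∣ k - 1 := by
    by_contra hcon
    have hcop : IsCoprime ((orderOf g : ℕ) : ℤ) (k - 1) := by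
      rw [hm]
      push_cast
      apply IsCoprime.pow_left
      exact (Prime.coprime_iff_not_dvd (Nat.prime_iff_prime_int.1 hp.out)).2 hcon
    have h5 := hcop.dvd_of_dvd_mul_right h3
    apply hy1
    rw [← hn]
    exact orderOf_dvd_iff_zpow_eq_one.1 h5
  have h5 := dvd_sub_pow_of_dvd_sub (R := ℤ) (p := p) (a := k) (b := 1) (by exact_mod_cast h4) m
  rw [one_pow] at h5
  have h6 : g ^ (k ^ p ^ m) = g := by
    have h7 : ((orderOf g : ℕ) : ℤ) ∣ k ^ p ^ m - 1 := by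
      rw [hm]
      push_cast
      exact (pow_dvd_pow _ (Nat.le_succ m)).trans h5
    have h8 := orderOf_dvd_iff_zpow_eq_one.1 h7
    rw [zpow_sub, zpow_one, mul_inv_eq_one] at h8
    exact h8
  apply AbDefect.mem_centralizer_of_pow h.pair h.max h.ab ht (n := m)
  rw [Subgroup.mem_centralizer_iff]
  intro x hx
  obtain ⟨a, ha⟩ := hgen' x hx
  have h7 := hiter (p ^ m)
  rw [h6] at h7
  have h8 : t ^ p ^ m * x * (t ^ p ^ m)⁻¹ = x := by
    rw [← ha, ← conj_zpow, h7]
  calc x * t ^ p ^ m = (t ^ p ^ m * x * (t ^ p ^ m)⁻¹) * t ^ p ^ m := by rw [h8]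
    _ = t ^ p ^ m * x := by group

omit hp hMm hchar [Finite G] in
theorem cyclic_normalizes [M.IsMaximal] {c : MonoidAlgebra (Kf M) G} (hcyc : IsCyclic P) {Q : Subgroup G} (hQ : Q ≤ P) :
    ∀ t ∈ stab (Subgroup.normalizer (P : Set G)) c, t ∈ Subgroup.normalizer (Q : Set G) := by
  obtain ⟨⟨g, hg⟩, hgen⟩ := hcyc.exists_generator
  have hgen' : ∀ x ∈ P, ∃ n : ℤ, g ^ n = x := by
    intro x hx
    obtain ⟨n, hn⟩ := Subgroup.mem_zpowers_iff.1 (hgen ⟨x, hx⟩)
    exact ⟨n, by have := congrArg Subtype.val hn; simpa using this⟩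
  have key : ∀ t ∈ stab (Subgroup.normalizer (P : Set G)) c, ∀ x ∈ Q, t * x * t⁻¹ ∈ Q := by
    intro t ht x hx
    have hN : t * g * t⁻¹ ∈ P := (Subgroup.mem_normalizer_iff.1 (stab_le _ _ ht) g).1 hg
    obtain ⟨k, hk⟩ := hgen' _ hN
    obtain ⟨n, hn⟩ := hgen' x (hQ hx)
    have e1 : t * x * t⁻¹ = x ^ k := by
      rw [← hn, ← conj_zpow, ← hk, ← zpow_mul, ← zpow_mul, mul_comm]
    rw [e1]
    exact zpow_mem hx k
  intro t ht
  rw [Subgroup.mem_normalizer_iff]
  intro x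
  constructor
  · exact key t ht x
  · intro hx
    have := key t⁻¹ (inv_mem ht) _ hx
    have e1 : t⁻¹ * (t * x * t⁻¹) * t⁻¹⁻¹ = x := by group
    rwa [e1] at this

end Cfsg.Agent.Lib.AbCount
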