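import Cfsg.Agent.Lib.H76Alg

/-!
# Local algebras over algebraically closed fields; symmetric algebras with small centre
-/

set_option autoImplicit false
set_option linter.all false

namespace Cfsg.Agent.Lib.H76Alg

universe u v

section local_

variable {k : Type v} [Field k] {R : Type u} [Ring R] [Algebra k R]

/-- `N` is a nilpotent ideal of codimension at most one -/
structure LocD (k : Type v) [Field k] {R : Type u} [Ring R] [Algebra k R] (N : Submodule k R) : Prop where
  dec : ∀ r : R, ∃ c : k, r - c • (1 : R) ∈ N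
  lmul : ∀ r n : R, n ∈ N → r * n ∈ N
  rmul : ∀ r n : R, n ∈ N → n * r ∈ N
  nil : ∃ m : ℕ, N ^ m = ⊥

variable {N : Submodule k R}

theorem smul_mono {A B C D : Submodule k R} (h1 : A ≤ B) (h2 : C ≤ D) : A * C ≤ B * D :=
  Submodule.mul_le.mpr fun _ ha _ hc => Submodule.mul_mem_mul (h1 ha) (h2 hc)

theorem pow_mono_left {A B : Submodule k R} (h : A ≤ B) (m : ℕ) : A ^ m ≤ B ^ m := by
  induction m with
  | zero => rw [pow_zero, pow_zero]
  | succ m ih => rw [pow_succ, pow_succ]; exact smul_mono ih h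

theorem LocD.one_notMem [Nontrivial R] (h : LocD k N) : (1 : R) ∉ N := by
  intro h1
  obtain ⟨m, hm⟩ := h.nil
  have h2 : (1 : R) ∈ N ^ m := by
    have := Submodule.pow_mem_pow N h1 m
    rwa [one_pow] at this
  rw [hm, Submodule.mem_bot] at h2
  exact one_ne_zero h2

theorem LocD.isCompl [Nontrivial R] (h : LocD k N) : IsCompl (Submodule.span k {(1 : R)}) N := by
  constructor
  · rw [Submodule.disjoint_def]
    intro x hx hN
    obtain ⟨c, rfl⟩ := Submodule.mem_span_singleton.mp hx
    by_cases hc : c = 0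
    · rw [hc, zero_smul]
    · exact absurd (by
        have := N.smul_mem c⁻¹ hN
        rwa [smul_smul, inv_mul_cancel₀ hc, one_smul] at this) h.one_notMem
  · rw [codisjoint_iff, eq_top_iff]
    intro r _
    obtain ⟨c, hc⟩ := h.dec r
    rw [Submodule.mem_sup]
    exact ⟨c • 1, Submodule.smul_mem _ _ (Submodule.mem_span_singleton_self _), _, hc, by abel⟩

theorem LocD.finrank [Nontrivial R] [FiniteDimensional k R] (h : LocD k N) :
    Module.finrank k R = Module.finrank k N + 1 := by
  rw [← Submodule.finrank_add_eq_of_isCompl h.isCompl, finrank_span_singleton one_ne_zero]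
  ring

theorem LocD.pow_le (h : LocD k N) (m : ℕ) (hm : m ≠ 0) : N ^ m ≤ N := by
  obtain ⟨m, rfl⟩ := Nat.exists_eq_succ_of_ne_zero hm
  rw [Nat.succ_eq_add_one, pow_succ, Submodule.mul_le]
  intro r _ n hn
  exact h.lmul r n hn

theorem LocD.pow_succ_le (h : LocD k N) (m : ℕ) : N ^ (m + 2) ≤ N ^ (m + 1) := by
  rw [pow_succ' N (m + 1), pow_succ' N m, ← mul_assoc]
  refine smul_mono ?_ le_rfl
  rw [Submodule.mul_le]
  intro r _ n hn
  exact h.lmul r n hn

theorem LocD.pow_anti (h : LocD k N) {a b : ℕ} (ha : 1 ≤ a) (hab : a ≤ b) : N ^ b ≤ N ^ a := by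
  obtain ⟨a, rfl⟩ := Nat.exists_eq_add_of_le' ha
  induction b, hab using Nat.le_induction with
  | base => exact le_rfl
  | succ b hb ih =>
    obtain ⟨b, rfl⟩ := Nat.exists_eq_add_of_le' (le_trans (Nat.le_add_left 1 a) hb)
    exact (h.pow_succ_le b).trans ih

/-- powers from generators -/
theorem LocD.pow_le_sup (h : LocD k N) {V : Submodule k R} (hV : V ≤ N) (hN : N ≤ V ⊔ N ^ 2) (m : ℕ) :
    N ^ (m + 1) ≤ V ^ (m + 1) ⊔ N ^ (m + 2) := by
  have hVm : ∀ m : ℕ, V ^ m ≤ N ^ m := fun m => pow_mono_left hV m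
  induction m with
  | zero => simpa using hN
  | succ m ih =>
    calc N ^ (m + 1 + 1) = N ^ (m + 1) * N := pow_succ _ _
      _ ≤ (V ^ (m + 1) ⊔ N ^ (m + 2)) * (V ⊔ N ^ 2) := smul_mono ih hN
      _ ≤ V ^ (m + 1 + 1) ⊔ N ^ (m + 1 + 2) := by
        rw [Submodule.sup_mul, Submodule.mul_sup, Submodule.mul_sup]
        refine sup_le (sup_le ?_ ?_) (sup_le ?_ ?_)
        · rw [← pow_succ]
          exact le_sup_left
        · refine le_trans ?_ le_sup_right
          calc V ^ (m + 1) * N ^ 2 ≤ N ^ (m + 1) * N ^ 2 := smul_mono (hVm _) le_rfl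
            _ = N ^ (m + 1 + 2) := (pow_add _ _ _).symm
        · refine le_trans ?_ le_sup_right
          calc N ^ (m + 2) * V ≤ N ^ (m + 2) * N := smul_mono le_rfl hV
            _ = N ^ (m + 1 + 2) := by rw [← pow_succ]
        · refine le_trans ?_ le_sup_right
          rw [← pow_add]
          exact h.pow_anti (by omega) (by omega)

/-- a subspace generating modulo the square generates the algebra -/
theorem LocD.adjoin_eq_top (h : LocD k N) {V : Submodule k R} (hV : V ≤ N) (hN : N ≤ V ⊔ N ^ 2) :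
    Algebra.adjoin k (V : Set R) = ⊤ := by
  set S := Algebra.adjoin k (V : Set R) with hS
  have hVS : V ≤ Subalgebra.toSubmodule S := fun v hv => Algebra.subset_adjoin hv
  have hpow : ∀ m : ℕ, V ^ m ≤ Subalgebra.toSubmodule S := by
    intro m
    induction m with
    | zero =>
      rw [pow_zero, Submodule.one_le]
      exact S.one_mem
    | succ m ih =>
      rw [pow_succ, Submodule.mul_le]
      intro a ha b hb
      exact S.mul_mem (ih ha) (hVS hb)
  have h1 : ∀ m : ℕ, N ≤ Subalgebra.toSubmodule S ⊔ N ^ (m + 1) := by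
    intro m
    induction m with
    | zero => rw [zero_add, pow_one]; exact le_sup_right
    | succ m ih =>
      refine ih.trans (sup_le le_sup_left ?_)
      exact (h.pow_le_sup hV hN m).trans (sup_le_sup (hpow _) le_rfl)
  obtain ⟨m, hm⟩ := h.nil
  have h2 : N ≤ Subalgebra.toSubmodule S := by
    refine (h1 m).trans ?_
    rw [pow_succ, hm, Submodule.bot_mul, sup_bot_eq]
  rw [eq_top_iff]
  intro r _
  obtain ⟨c, hc⟩ := h.dec r
  have h3 : r = (r - c • (1 : R)) + c • (1 : R) := by abel
  rw [h3]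
  exact S.add_mem (h2 hc) (S.smul_mem S.one_mem c)

/-- functionals vanishing on the square are trace functionals -/
theorem LocD.dualAnnihilator_le (h : LocD k N) : (N ^ 2).dualAnnihilator ≤ Tr k R := by
  intro f hf a b
  rw [Submodule.mem_dualAnnihilator] at hf
  obtain ⟨c, hc⟩ := h.dec a
  obtain ⟨d, hd⟩ := h.dec b
  set n := a - c • (1 : R) with hn
  set m := b - d • (1 : R) with hm
  have ha : a = n + c • (1 : R) := by rw [hn]; abel
  have hb : b = m + d • (1 : R) := by rw [hm]; abel
  have h1 : f (n * m) = 0 := hf _ (by rw [pow_two]; exact Submodule.mul_mem_mul hc hd)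
  have h2 : f (m * n) = 0 := hf _ (by rw [pow_two]; exact Submodule.mul_mem_mul hd hc)
  rw [ha, hb, add_mul, mul_add, mul_add, add_mul, mul_add, mul_add]
  simp only [map_add, h1, h2, smul_mul_assoc, mul_smul_comm, one_mul, mul_one, map_smul]
  rw [smul_comm d c]
  abel

theorem LocD.finrank_sub_le [FiniteDimensional k R] (h : LocD k N) :
    Module.finrank k R ≤ Module.finrank k (N ^ 2 : Submodule k R) + Module.finrank k (Tr k R) := by
  have h1 : Module.finrank k (N ^ 2 : Submodule k R).dualAnnihilator ≤ Module.finrank k (Tr k R) :=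
    Submodule.finrank_mono h.dualAnnihilator_le
  have h2 := Subspace.finrank_add_finrank_dualAnnihilator_eq (N ^ 2 : Submodule k R)
  omega

/-- commutative if generated by one element -/
theorem LocD.comm_of_one (h : LocD k N) {x : R} (hx : x ∈ N)
    (hN : N ≤ Submodule.span k {x} ⊔ N ^ 2) (a b : R) : a * b = b * a := by
  have h1 := h.adjoin_eq_top (V := Submodule.span k {x}) (by
    rw [Submodule.span_le]; simpa using hx) hN
  have h2 : Algebra.adjoin k {x} = ⊤ := by
    rw [eq_top_iff, ← h1, Algebra.adjoin_le_iff]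
    intro y hy
    obtain ⟨c, rfl⟩ := Submodule.mem_span_singleton.mp hy
    exact (Algebra.adjoin k {x}).smul_mem (Algebra.self_mem_adjoin_singleton k x) c
  have ha : a ∈ Algebra.adjoin k {x} := by rw [h2]; trivial
  have hb : b ∈ Algebra.adjoin k {x} := by rw [h2]; trivial
  have hc := Algebra.adjoinCommRingOfComm k (s := {x}) (by
    intro y hy z hz
    rw [Set.mem_singleton_iff] at hy hz
    rw [hy, hz])
  have h3 : (⟨a, ha⟩ : Algebra.adjoin k {x}) * ⟨b, hb⟩ = ⟨b, hb⟩ * ⟨a, ha⟩ := by
    apply Subtype.ext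
    exact (Algebra.isMulCommutative_adjoin k (s := {x}) (by
      intro y hy z hz
      rw [Set.mem_singleton_iff] at hy hz
      rw [hy, hz])).is_comm.comm _ _ |> congrArg Subtype.val
  exact congrArg Subtype.val h3

theorem exists_gen_one [FiniteDimensional k R] {W N : Submodule k R} (hW : W ≤ N)
    (h : Module.finrank k N ≤ Module.finrank k W + 1) :
    ∃ x ∈ N, N ≤ Submodule.span k {x} ⊔ W := by
  by_cases hN : N ≤ W
  · exact ⟨0, N.zero_mem, hN.trans le_sup_right⟩
  obtain ⟨x, hx, hxW⟩ := Set.not_subset.mp hN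
  refine ⟨x, hx, ?_⟩
  have h1 : W < Submodule.span k {x} ⊔ W := by
    refine lt_of_le_of_ne le_sup_right ?_
    intro h2
    apply hxW
    rw [SetLike.mem_coe, h2]
    exact Submodule.mem_sup_left (Submodule.mem_span_singleton_self x)
  have h2 := Submodule.finrank_lt_finrank_of_lt h1
  have h3 : Submodule.span k {x} ⊔ W ≤ N := sup_le (by rw [Submodule.span_le]; simpa using hx) hW
  rw [Submodule.eq_of_le_of_finrank_le h3 (by omega)]

theorem LocD.comm_of_Tr_le_two [Nontrivial R] [FiniteDimensional k R] (h : LocD k N)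
    (h2 : Module.finrank k (Tr k R) ≤ 2) (a b : R) : a * b = b * a := by
  have h3 := h.finrank_sub_le
  have h4 := h.finrank
  obtain ⟨x, hx, hxN⟩ := exists_gen_one (W := N ^ 2) (N := N) (h.pow_le 2 (by norm_num)) (by omega)
  exact h.comm_of_one hx hxN a b

end local_

section wedderburn

variable {k : Type v} [Field k] [IsAlgClosed k] {A : Type u} [Ring A] [Algebra k A]

/-- Wedderburn decomposition modulo the radical -/
theorem exists_wedderburn [FiniteDimensional k A] :
    ∃ (n : ℕ) (d : Fin n → ℕ) (_ : ∀ i, NeZero (d i))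
      (φ : A →ₐ[k] (∀ i, Matrix (Fin (d i)) (Fin (d i)) k)),
      Function.Surjective φ ∧ ∃ m : ℕ, (LinearMap.ker φ.toLinearMap) ^ m = ⊥ := by
  have := IsArtinianRing.of_finite k A
  have : IsSemiprimaryRing A := inferInstance
  set J := Ring.jacobson A with hJ
  obtain ⟨n, d, hd, ⟨e⟩⟩ := IsSemisimpleRing.exists_algEquiv_pi_matrix_of_isAlgClosed k (A ⧸ J)
  refine ⟨n, d, hd, e.toAlgHom.comp (Ideal.Quotient.mkₐ k J), ?_, ?_⟩
  · exact e.surjective.comp (Ideal.Quotient.mkₐ_surjective k J)
  · obtain ⟨m, hm⟩ := IsSemiprimaryRing.isNilpotent (R := A)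
    refine ⟨m, ?_⟩
    rw [eq_bot_iff]
    have key : ∀ m : ℕ, ∀ x ∈ (LinearMap.ker (e.toAlgHom.comp
        (Ideal.Quotient.mkₐ k J)).toLinearMap) ^ m, x ∈ J ^ m := by
      intro m
      induction m with
      | zero =>
        intro x _
        rw [Submodule.pow_zero, Ideal.one_eq_top]
        trivial
      | succ m ih =>
        intro x hx
        rw [pow_succ] at hx
        induction hx using Submodule.mul_induction_on' with
        | mem_mul_mem a ha b hb =>
          rw [Submodule.pow_succ]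
          refine Ideal.mul_mem_mul (ih a ha) ?_
          have h1 : e (Ideal.Quotient.mk J b) = 0 := LinearMap.mem_ker.mp hb
          rw [EmbeddingLike.map_eq_zero_iff] at h1
          exact Ideal.Quotient.eq_zero_iff_mem.mp h1
        | add a _ b _ ha hb => exact Ideal.add_mem _ ha hb
    intro x hx
    have h1 := key m x hx
    have h2 : (J ^ m : Ideal A) = 0 := hm
    rw [h2] at h1
    exact h1

theorem isNilpotent_of_ker {B : Type*} [Ring B] [Algebra k B] {φ : A →ₐ[k] B} {m : ℕ}
    (hm : (LinearMap.ker φ.toLinearMap) ^ m = ⊥) {a : A} (ha : φ a = 0) : IsNilpotent a := by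
  refine ⟨m, ?_⟩
  have h1 := Submodule.pow_mem_pow (LinearMap.ker φ.toLinearMap) (LinearMap.mem_ker.mpr ha) m
  rwa [hm, Submodule.mem_bot] at h1

/-- nondegenerate trace forms -/
structure SymF {A : Type u} [Ring A] [Algebra k A] (lam : A →ₗ[k] k) : Prop where
  tr : ∀ a b, lam (a * b) = lam (b * a)
  nd : ∀ a, (∀ b, lam (a * b) = 0) → a = 0

/-- the trace functional of a simple component -/
noncomputable def tau {n : ℕ} {d : Fin n → ℕ} (φ : A →ₐ[k] (∀ i, Matrix (Fin (d i)) (Fin (d i)) k))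
    (i : Fin n) : A →ₗ[k] k where
  toFun a := (φ a i).trace
  map_add' a b := by rw [map_add, Pi.add_apply, Matrix.trace_add]
  map_smul' c a := by rw [map_smul, Pi.smul_apply, Matrix.trace_smul]; rfl

theorem tau_mem {n : ℕ} {d : Fin n → ℕ} (φ : A →ₐ[k] (∀ i, Matrix (Fin (d i)) (Fin (d i)) k))
    (i : Fin n) : tau φ i ∈ Tr k A := by
  intro a b
  show (φ (a * b) i).trace = (φ (b * a) i).trace
  rw [map_mul, map_mul, Pi.mul_apply, Pi.mul_apply, Matrix.trace_mul_comm]

theorem exists_dual {n : ℕ} {d : Fin n → ℕ} [∀ i, NeZero (d i)]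
    {φ : A →ₐ[k] (∀ i, Matrix (Fin (d i)) (Fin (d i)) k)} (hs : Function.Surjective φ) (i : Fin n) :
    ∃ a, ∀ j, tau φ j a = if j = i then 1 else 0 := by
  classical
  obtain ⟨a, ha⟩ := hs (Pi.single i (Matrix.single 0 0 1))
  refine ⟨a, fun j => ?_⟩
  show (φ a j).trace = _
  rw [ha]
  split_ifs with h
  · subst h
    rw [Pi.single_eq_same, Matrix.trace_single_eq_same]
  · rw [Pi.single_eq_of_ne h, Matrix.trace_zero]

theorem tau_linearIndependent {n : ℕ} {d : Fin n → ℕ} [∀ i, NeZero (d i)]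
    {φ : A →ₐ[k] (∀ i, Matrix (Fin (d i)) (Fin (d i)) k)} (hs : Function.Surjective φ) :
    LinearIndependent k (tau φ) := by
  classical
  rw [Fintype.linearIndependent_iff]
  intro g hg i
  obtain ⟨a, ha⟩ := exists_dual hs i
  have h1 := LinearMap.congr_fun hg a
  rw [LinearMap.sum_apply, LinearMap.zero_apply] at h1
  simpa [ha] using h1

theorem card_le_finrank_Tr [FiniteDimensional k A] {n : ℕ} {d : Fin n → ℕ} [∀ i, NeZero (d i)]
    {φ : A →ₐ[k] (∀ i, Matrix (Fin (d i)) (Fin (d i)) k)} (hs : Function.Surjective φ) :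
    n ≤ Module.finrank k (Tr k A) := by
  have h1 : LinearIndependent k (fun i => (⟨tau φ i, tau_mem φ i⟩ : Tr k A)) := by
    apply LinearIndependent.of_comp (Tr k A).subtype
    exact tau_linearIndependent hs
  simpa using h1.fintype_card_le_finrank

theorem ker_eq_bot_of_card_eq [FiniteDimensional k A] {n : ℕ} {d : Fin n → ℕ} [∀ i, NeZero (d i)]
    {φ : A →ₐ[k] (∀ i, Matrix (Fin (d i)) (Fin (d i)) k)} (hs : Function.Surjective φ)
    {lam : A →ₗ[k] k} (hl : SymF lam) (hn : Module.finrank k (Tr k A) = n) {a : A} (ha : φ a = 0) :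
    a = 0 := by
  have h1 := finrank_span_eq_card (tau_linearIndependent hs)
  have h2 : Submodule.span k (Set.range (tau φ)) ≤ Tr k A := by
    rw [Submodule.span_le]
    rintro _ ⟨i, rfl⟩
    exact tau_mem φ i
  have h3 : Submodule.span k (Set.range (tau φ)) = Tr k A :=
    Submodule.eq_of_le_of_finrank_eq h2 (by rw [h1, hn, Fintype.card_fin])
  have h4 : lam ∈ Submodule.span k (Set.range (tau φ)) := by rw [h3]; exact hl.tr
  apply hl.nd
  intro b
  have h5 : ∀ g ∈ Submodule.span k (Set.range (tau φ)), g (a * b) = 0 := by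
    intro g hg
    induction hg using Submodule.span_induction with
    | mem x hx =>
      obtain ⟨i, rfl⟩ := hx
      show (φ (a * b) i).trace = 0
      rw [map_mul, ha, zero_mul, Pi.zero_apply, Matrix.trace_zero]
    | zero => rfl
    | add x y _ _ hx hy => rw [LinearMap.add_apply, hx, hy, add_zero]
    | smul c x _ hx => rw [LinearMap.smul_apply, hx, smul_zero]
  exact h5 lam h4

theorem pow_smul_one_ne {d : ℕ} [NeZero d] {c : k} {N : ℕ}
    (h : (c • (1 : Matrix (Fin d) (Fin d) k)) ^ N = 0) : c = 0 := by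
  rw [smul_pow, one_pow] at h
  have h8 : c ^ N = 0 := by
    have := congrFun (congrFun h 0) 0
    simpa using this
  exact eq_zero_of_pow_eq_zero h8

theorem not_two {n : ℕ} {d : Fin n → ℕ} [∀ i, NeZero (d i)]
    {φ : A →ₐ[k] (∀ i, Matrix (Fin (d i)) (Fin (d i)) k)} (hs : Function.Surjective φ)
    (hi : Function.Injective φ)
    (hZ : ∀ z : A, (∀ a, z * a = a * z) → ∃ c : k, IsNilpotent (z - c • (1 : A)))
    {i j : Fin n} (hij : j ≠ i) : False := by
  classical
  obtain ⟨z, hz⟩ := hs (Pi.single i 1)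
  have hc : ∀ a, z * a = a * z := by
    intro a
    apply hi
    rw [map_mul, map_mul, hz]
    funext l
    rw [Pi.mul_apply, Pi.mul_apply]
    by_cases hl : l = i
    · subst hl
      rw [Pi.single_eq_same, one_mul, mul_one]
    · rw [Pi.single_eq_of_ne hl, zero_mul, mul_zero]
  obtain ⟨c, N, hN⟩ := hZ z hc
  have h3 : φ ((z - c • (1 : A)) ^ N) = 0 := by rw [hN, map_zero]
  have h4 : ∀ l, (φ z l - c • (1 : Matrix (Fin (d l)) (Fin (d l)) k)) ^ N = 0 := by
    intro l
    have := congrFun h3 l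
    rw [map_pow, map_sub, map_smul, map_one] at this
    exact this
  have h5 := h4 i
  have h6 := h4 j
  rw [hz, Pi.single_eq_same] at h5
  rw [hz, Pi.single_eq_of_ne hij, zero_sub, ← neg_smul] at h6
  have h7 : (1 : Matrix (Fin (d i)) (Fin (d i)) k) - c • 1 = (1 - c) • 1 := by
    rw [sub_smul, one_smul]
  rw [h7] at h5
  have h8 := pow_smul_one_ne h5
  have h9 := pow_smul_one_ne h6
  rw [neg_eq_zero] at h9
  rw [h9, sub_zero] at h8
  exact one_ne_zero h8

theorem component_of_one {n : ℕ} {d : Fin n → ℕ} [∀ i, NeZero (d i)]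
    {φ : A →ₐ[k] (∀ i, Matrix (Fin (d i)) (Fin (d i)) k)} (hs : Function.Surjective φ)
    {m : ℕ} (hm : (LinearMap.ker φ.toLinearMap) ^ m = ⊥) (hn : n = 1) :
    ∃ (f : ℕ) (_ : NeZero f) (φ : A →ₐ[k] Matrix (Fin f) (Fin f) k), Function.Surjective φ ∧
      ∃ m : ℕ, (LinearMap.ker φ.toLinearMap) ^ m = ⊥ := by
  subst hn
  refine ⟨d 0, inferInstance, (Pi.evalAlgHom k (fun i => Matrix (Fin (d i)) (Fin (d i)) k) 0).comp φ, ?_, m, ?_⟩
  · intro x
    obtain ⟨a, ha⟩ := hs (fun i => (Subsingleton.elim 0 i) ▸ x)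
    refine ⟨a, ?_⟩
    show φ a 0 = x
    rw [ha]
  · have h1 : LinearMap.ker ((Pi.evalAlgHom k (fun i => Matrix (Fin (d i)) (Fin (d i)) k) 0).comp φ).toLinearMap
        = LinearMap.ker φ.toLinearMap := by
      ext a
      rw [LinearMap.mem_ker, LinearMap.mem_ker]
      show φ a 0 = 0 ↔ φ a = 0
      constructor
      · intro h
        funext i
        have hi : i = 0 := Subsingleton.elim i 0
        subst hi
        exact h
      · intro h; rw [h]; rfl
    rw [h1, hm]

theorem ne_zero_of_wedderburn [Nontrivial A] {n : ℕ} {d : Fin n → ℕ}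
    {φ : A →ₐ[k] (∀ i, Matrix (Fin (d i)) (Fin (d i)) k)} {m : ℕ}
    (hm : (LinearMap.ker φ.toLinearMap) ^ m = ⊥) : n ≠ 0 := by
  rintro rfl
  have h1 : φ 1 = 0 := Subsingleton.elim _ _
  obtain ⟨N, hN⟩ := isNilpotent_of_ker hm h1
  rw [one_pow] at hN
  exact one_ne_zero hN

/-- one simple component if the centre is local and the space of trace forms is small -/
theorem exists_one_component [Nontrivial A] [FiniteDimensional k A] {lam : A →ₗ[k] k} (hl : SymF lam)
    (hZ : ∀ z : A, (∀ a, z * a = a * z) → ∃ c : k, IsNilpotent (z - c • (1 : A)))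
    (h2 : Module.finrank k (Tr k A) ≤ 2) :
    ∃ (f : ℕ) (_ : NeZero f) (φ : A →ₐ[k] Matrix (Fin f) (Fin f) k), Function.Surjective φ ∧
      ∃ m : ℕ, (LinearMap.ker φ.toLinearMap) ^ m = ⊥ := by
  classical
  obtain ⟨n, d, hd, φ, hs, m, hm⟩ := exists_wedderburn (k := k) (A := A)
  have hle := card_le_finrank_Tr hs
  have h0 := ne_zero_of_wedderburn hm
  by_cases hn2 : 2 ≤ n
  · exfalso
    have hker : ∀ a, φ a = 0 → a = 0 := fun a ha =>
      ker_eq_bot_of_card_eq hs hl (by omega) ha
    have hinj : Function.Injective φ := (injective_iff_map_eq_zero φ).mpr hker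
    exact not_two hs hinj hZ (i := ⟨0, by omega⟩) (j := ⟨1, by omega⟩) (by simp)
  · exact component_of_one hs hm (by omega)

/-- local corner -/
theorem exists_local {f : ℕ} [NeZero f] {φ : A →ₐ[k] Matrix (Fin f) (Fin f) k}
    (hs : Function.Surjective φ) {m : ℕ} (hm : (LinearMap.ker φ.toLinearMap) ^ m = ⊥) :
    ∃ (E : Fin f → Fin f → A) (hE : MU f E) (N : Submodule k (Cor k hE.idem)), LocD k N ∧
      (∀ r, r ∈ N ↔ φ (inc r) = 0) ∧ ∀ i j, φ (E i j) = Matrix.single i j 1 := by
  obtain ⟨E, h1, h2, h3⟩ := exists_matrix_units φ hs (fun a ha => isNilpotent_of_ker hm ha)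
  have hE : MU f E := ⟨h1, h2⟩
  let N : Submodule k (Cor k hE.idem) := LinearMap.ker (φ.toLinearMap ∘ₗ inc)
  have hN : ∀ r, r ∈ N ↔ φ (inc r) = 0 := fun r => LinearMap.mem_ker
  refine ⟨E, hE, N, ⟨?_, ?_, ?_, m + 1, ?_⟩, hN, h3⟩
  · intro r
    refine ⟨φ (inc r) 0 0, ?_⟩
    rw [hN, map_sub, map_smul, map_sub, map_smul, inc_one, MU.idem_e, h3]
    have h4 : φ (inc r) = Matrix.single 0 0 1 * φ (inc r) * Matrix.single 0 0 1 := by
      rw [← h3, ← map_mul, ← map_mul]
      congr 1
      exact (mid_eq (inc_mem r)).symm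
    rw [sub_eq_zero]
    conv_lhs => rw [h4]
    ext i j
    rw [Matrix.smul_apply, Matrix.single_mul_mul_single, Matrix.single_apply, Matrix.single_apply]
    split_ifs <;> simp
  · intro r n hn
    rw [hN] at hn ⊢
    rw [inc_mul, map_mul, hn, mul_zero]
  · intro r n hn
    rw [hN] at hn ⊢
    rw [inc_mul, map_mul, hn, zero_mul]
  · have key : ∀ m : ℕ, ∀ x ∈ N ^ (m + 1), inc x ∈ (LinearMap.ker φ.toLinearMap) ^ (m + 1) := by
      intro m
      induction m with
      | zero =>
        intro x hx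
        rw [zero_add, pow_one] at hx ⊢
        exact LinearMap.mem_ker.mpr ((hN x).mp hx)
      | succ m ih =>
        intro x hx
        rw [pow_succ] at hx
        induction hx using Submodule.mul_induction_on' with
        | mem_mul_mem a ha b hb =>
          rw [pow_succ, inc_mul]
          exact Submodule.mul_mem_mul (ih a ha) (LinearMap.mem_ker.mpr ((hN b).mp hb))
        | add a _ b _ ha hb =>
          rw [map_add]
          exact Submodule.add_mem _ ha hb
    rw [eq_bot_iff]
    intro x hx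
    have h5 := key m x hx
    rw [pow_succ, hm, Submodule.bot_mul, Submodule.mem_bot] at h5
    rw [Submodule.mem_bot]
    exact inc_inj (by rw [h5, map_zero])

theorem MU.corner_nontrivial [Nontrivial A] {f : ℕ} [NeZero f] {E : Fin f → Fin f → A} (hE : MU f E) :
    Nontrivial (Cor k hE.idem) := by
  refine ⟨1, 0, ?_⟩
  intro h
  have h1 : E 0 0 = 0 := by
    have := congrArg inc h
    rwa [inc_one, map_zero] at this
  have h2 : ∀ i, E i i = 0 := by
    intro i
    rw [← hE.mul_self i 0 i, ← hE.mul_self 0 0 i, h1, zero_mul, mul_zero]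
  have h3 := hE.one
  simp only [h2, Finset.sum_const_zero] at h3
  exact zero_ne_one h3

/-- **symmetric algebras with local centre and two-dimensional space of trace forms** -/
theorem finrank_eq_two_mul_sq [Nontrivial A] [FiniteDimensional k A] {lam : A →ₗ[k] k} (hl : SymF lam)
    (hZ : ∀ z : A, (∀ a, z * a = a * z) → ∃ c : k, IsNilpotent (z - c • (1 : A)))
    (h2 : Module.finrank k (Tr k A) = 2) :
    ∃ f : ℕ, Module.finrank k A = f ^ 2 * 2 := by
  obtain ⟨f, hf, φ, hs, m, hm⟩ := exists_one_component hl hZ h2.le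
  obtain ⟨E, hE, N, hN, -, -⟩ := exists_local hs hm
  have := hE.corner_nontrivial (k := k)
  have h3 : Module.finrank k (Tr k (Cor k hE.idem)) = 2 := by rw [hE.finrank_Tr, h2]
  refine ⟨f, ?_⟩
  rw [hE.finrank_eq (k := k), ← finrank_Tr_of_comm (hN.comm_of_Tr_le_two h3.le), h3]

end wedderburn

end Cfsg.Agent.Lib.H76Alg
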