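import Cfsg.Agent.Lib.BlockAlg
import Cfsg.Agent.Lib.DefOneRes
import Cfsg.Agent.Lib.H76Alg2

/-!
# Dimensions of corners and centres of block algebras over the residue field
-/

set_option autoImplicit false
set_option linter.all false
set_option synthInstance.maxHeartbeats 400000

namespace Cfsg.Agent.Lib.H76BDim

open Cfsg Cfsg.Agent.Lib.BlockRing Cfsg.Agent.Lib.BlockGA Cfsg.Agent.Lib.BlockIdem
open Cfsg.Agent.Lib.BlockAlg Cfsg.Agent.Lib.CharBasic
open scoped ComplexConjugate

universe u

section rank

variable {M : Ideal AlgInt} [hMm : M.IsMaximal]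

theorem isAlgClosed_Kf : IsAlgClosed (Kf M) :=
  DefOneRes.isAlgClosed (mkK M) mkK_surjective

/-- the local ring as a subring -/
def locS (M : Ideal AlgInt) [M.IsPrime] : Subring ℂ where
  carrier := {z | MemLocalRing M z}
  mul_mem' := fun ha hb => loc_mul ha hb
  one_mem' := loc_one
  add_mem' := fun ha hb => loc_add ha hb
  zero_mem' := loc_zero
  neg_mem' := fun ha => loc_neg ha

/-- reduction as a ring homomorphism -/
noncomputable def redH (M : Ideal AlgInt) [M.IsMaximal] :
    (haveI := (inferInstance : M.IsMaximal).isPrime; locS M) →+* Kf M where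
  toFun z := red M (z : ℂ)
  map_one' := red_one
  map_mul' a b := red_mul a.2 b.2
  map_zero' := red_zero
  map_add' a b := red_add a.2 b.2

theorem det_ne_zero {n : ℕ} (T : Matrix (Fin n) (Fin n) ℂ) (h : ∀ i j, MemLocalRing M (T i j))
    (h1 : ∀ i j, red M (T i j) = if i = j then 1 else 0) : T.det ≠ 0 := by
  haveI := hMm.isPrime
  let T' : Matrix (Fin n) (Fin n) (locS M) := Matrix.of fun i j => ⟨T i j, h i j⟩
  have h2 : T'.map (locS M).subtype = T := by
    ext i j
    rfl
  have h3 : T'.map (redH M) = 1 := by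
    ext i j
    rw [Matrix.map_apply, Matrix.one_apply]
    exact h1 i j
  have h4 : (T'.det : ℂ) = T.det := by
    rw [← h2]
    exact RingHom.map_det (locS M).subtype T'
  have h5 : redH M T'.det = 1 := by
    have := RingHom.map_det (redH M) T'
    rw [this]
    show (T'.map (redH M)).det = 1
    rw [h3, Matrix.det_one]
  intro h6
  rw [h6] at h4
  have h7 : T'.det = 0 := Subtype.ext h4
  rw [h7, map_zero] at h5
  exact zero_ne_one h5

theorem linearIndependent_of_red {ι : Type*} [Fintype ι] {n : ℕ} (v : Fin n → ι → Kf M)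
    (w : Fin n → ι → ℂ) (hw : ∀ i x, MemLocalRing M (w i x)) (hv : ∀ i x, red M (w i x) = v i x)
    (h : LinearIndependent (Kf M) v) : LinearIndependent ℂ w := by
  classical
  haveI := hMm.isPrime
  set F : (Fin n → Kf M) →ₗ[Kf M] (ι → Kf M) := Fintype.linearCombination (Kf M) v with hF
  have hFi : Function.Injective F := by
    exact linearIndependent_iff_injective_fintypeLinearCombination.mp h
  obtain ⟨L, hL⟩ := LinearMap.exists_leftInverse_of_injective F (LinearMap.ker_eq_bot.mpr hFi)
  have hL1 : ∀ i j, ∑ x, L (Pi.single x 1) i * v j x = if i = j then 1 else 0 := by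
    intro i j
    have h1 : F (Pi.single j 1) = v j := by
      rw [hF, Fintype.linearCombination_apply]
      simp [Pi.single_apply]
    have h2 : v j = ∑ x, v j x • (Pi.single x 1 : ι → Kf M) := by
      funext y
      simp [Finset.sum_apply, Pi.single_apply]
    have h3 : L (v j) = Pi.single j 1 := by
      rw [← h1]
      have := LinearMap.congr_fun hL (Pi.single j 1)
      exact this
    have h4 : L (v j) i = ∑ x, L (Pi.single x 1) i * v j x := by
      conv_lhs => rw [h2, map_sum, Finset.sum_apply]
      refine Finset.sum_congr rfl fun x _ => ?_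
      rw [map_smul, Pi.smul_apply, smul_eq_mul, mul_comm]
    rw [← h4, h3, Pi.single_apply]
  set T : Matrix (Fin n) (Fin n) ℂ := Matrix.of fun i j => ∑ x, lft (L (Pi.single x 1) i) * w j x with hT
  have hTl : ∀ i j, MemLocalRing M (T i j) := fun i j =>
    loc_sum fun x _ => loc_mul (loc_lft _) (hw j x)
  have hTr : ∀ i j, red M (T i j) = if i = j then 1 else 0 := by
    intro i j
    rw [← hL1 i j]
    show red M (∑ x, lft (L (Pi.single x 1) i) * w j x) = _
    rw [red_sum (fun x _ => loc_mul (loc_lft _) (hw j x))]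
    refine Finset.sum_congr rfl fun x _ => ?_
    rw [red_mul (loc_lft _) (hw j x), red_lft, hv]
  have hdet := det_ne_zero T hTl hTr
  rw [Fintype.linearIndependent_iff]
  intro c hc
  have h5 : T.mulVec c = 0 := by
    funext i
    show ∑ j, (∑ x, lft (L (Pi.single x 1) i) * w j x) * c j = 0
    have h6 : ∀ x, ∑ j, w j x * c j = 0 := by
      intro x
      have := congrFun hc x
      rw [Finset.sum_apply] at this
      simpa [mul_comm] using this
    calc ∑ j, (∑ x, lft (L (Pi.single x 1) i) * w j x) * c j
        = ∑ j, ∑ x, lft (L (Pi.single x 1) i) * (w j x * c j) := by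
          refine Finset.sum_congr rfl fun j _ => ?_
          rw [Finset.sum_mul]
          exact Finset.sum_congr rfl fun x _ => by ring
      _ = ∑ x, lft (L (Pi.single x 1) i) * ∑ j, w j x * c j := by
          rw [Finset.sum_comm]
          exact Finset.sum_congr rfl fun x _ => by rw [Finset.mul_sum]
      _ = 0 := by simp [h6]
  have h7 := Matrix.eq_zero_of_mulVec_eq_zero hdet h5
  intro i
  rw [h7]
  rfl

variable {G : Type u} [Group G] [Finite G]

/-- coefficients -/
noncomputable def coeffL (K : Type*) [Field K] (G : Type u) [Group G] [Finite G] :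
    MonoidAlgebra K G →ₗ[K] (G → K) where
  toFun x g := x.coeff g
  map_add' _ _ := rfl
  map_smul' _ _ := rfl

theorem coeffL_injective (K : Type*) [Field K] : Function.Injective (coeffL K G) := by
  intro x y h
  apply BrauerMap.ext_coeff
  intro g
  exact congrFun h g

theorem finrank_MA (K : Type*) [Field K] : Module.finrank K (MonoidAlgebra K G) = Nat.card G := by
  classical
  have := Fintype.ofFinite G
  have e : MonoidAlgebra K G ≃ₗ[K] (G → K) :=
    LinearEquiv.ofBijective (coeffL K G) ⟨coeffL_injective K, fun f => ⟨BrauerMap.ofFun f, rfl⟩⟩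
  rw [e.finrank_eq, Module.finrank_fintype_fun_eq_card, Nat.card_eq_fintype_card]

instance finiteMA (K : Type*) [Field K] : FiniteDimensional K (MonoidAlgebra K G) := by
  classical
  have := Fintype.ofFinite G
  exact FiniteDimensional.of_injective (coeffL K G) (coeffL_injective K)

/-- the rank does not grow under reduction -/
theorem finrank_le {U : Submodule (Kf M) (MonoidAlgebra (Kf M) G)} {W : Submodule ℂ (GA G)}
    (h : ∀ u ∈ U, ∃ w ∈ W, LocA M w ∧ redA M w = u) :
    Module.finrank (Kf M) U ≤ Module.finrank ℂ W := by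
  classical
  have := Fintype.ofFinite G
  set n := Module.finrank (Kf M) U with hn
  let b := Module.finBasis (Kf M) U
  choose w hwW hwl hwr using fun i => h (b i : MonoidAlgebra (Kf M) G) (b i).2
  have h1 : LinearIndependent (Kf M) (fun i => coeffL (Kf M) G (b i)) := by
    have := b.linearIndependent
    have h2 := this.map' U.subtype (Submodule.ker_subtype U)
    exact h2.map' (coeffL (Kf M) G) (LinearMap.ker_eq_bot.mpr (coeffL_injective (Kf M)))
  have h2 : LinearIndependent ℂ (fun i => coeffL ℂ G (w i)) := by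
    refine linearIndependent_of_red (M := M) (fun i => coeffL (Kf M) G (b i)) _ (fun i x => hwl i x)
      (fun i x => ?_) h1
    show red M ((w i).coeff x) = ((b i : MonoidAlgebra (Kf M) G)).coeff x
    rw [← hwr i]
    rfl
  have h3 : LinearIndependent ℂ (fun i => (⟨w i, hwW i⟩ : W)) := by
    apply LinearIndependent.of_comp ((coeffL ℂ G) ∘ₗ W.subtype)
    exact h2
  simpa using h3.fintype_card_le_finrank

end rank

section pw

variable {K : Type*} [Field K] {A : Type*} [Ring A] [Algebra K A]

/-- the Peirce piece `eAf` -/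
def PW (K : Type*) [Field K] {A : Type*} [Ring A] [Algebra K A] (e f : A) : Submodule K A where
  carrier := {x | e * x = x ∧ x * f = x}
  add_mem' := by
    rintro a b ⟨h1, h2⟩ ⟨h3, h4⟩
    exact ⟨by rw [mul_add, h1, h3], by rw [add_mul, h2, h4]⟩
  zero_mem' := ⟨mul_zero _, zero_mul _⟩
  smul_mem' := by
    rintro c a ⟨h1, h2⟩
    exact ⟨by rw [mul_smul_comm, h1], by rw [smul_mul_assoc, h2]⟩

theorem mem_PW {e f x : A} : x ∈ PW K e f ↔ e * x = x ∧ x * f = x := Iff.rfl

theorem mul_mem_PW {e f : A} (he : e * e = e) (hf : f * f = f) (x : A) : e * x * f ∈ PW K e f :=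
  ⟨by rw [← mul_assoc, ← mul_assoc, he], by rw [mul_assoc, hf]⟩

theorem PW_eq {e f x : A} (h : x ∈ PW K e f) : e * x * f = x := by rw [h.1, h.2]

theorem finrank_PW_left [FiniteDimensional K A] {e f : A} (he : e * e = e) :
    Module.finrank K (PW K e f) + Module.finrank K (PW K (1 - e) f) =
      Module.finrank K (PW K (1 : A) f) := by
  let F : PW K (1 : A) f →ₗ[K] A := (LinearMap.mulLeft K e) ∘ₗ (PW K (1 : A) f).subtype
  have h1 : LinearMap.range F = PW K e f := by
    ext y
    constructor
    · rintro ⟨x, rfl⟩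
      refine ⟨?_, ?_⟩
      · show e * (e * (x : A)) = e * x
        rw [← mul_assoc, he]
      · show e * (x : A) * f = e * x
        rw [mul_assoc, x.2.2]
    · intro hy
      exact ⟨⟨y, one_mul y, hy.2⟩, hy.1⟩
  have h2 : (LinearMap.ker F).map (PW K (1 : A) f).subtype = PW K (1 - e) f := by
    ext y
    constructor
    · rintro ⟨x, hx, rfl⟩
      have hx' : e * (x : A) = 0 := LinearMap.mem_ker.mp hx
      refine ⟨?_, x.2.2⟩
      show (1 - e) * (x : A) = x
      rw [sub_mul, one_mul, hx', sub_zero]
    · intro hy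
      refine ⟨⟨y, one_mul y, hy.2⟩, ?_, rfl⟩
      apply LinearMap.mem_ker.mpr
      show e * y = 0
      rw [← hy.1, ← mul_assoc, mul_sub, mul_one, he, sub_self, zero_mul]
  have h3 := LinearMap.finrank_range_add_finrank_ker F
  rw [h1] at h3
  rw [← h3, ← h2, (Submodule.equivMapOfInjective (PW K (1 : A) f).subtype
    (PW K (1 : A) f).injective_subtype (LinearMap.ker F)).finrank_eq]

theorem finrank_PW_right [FiniteDimensional K A] {e f : A} (hf : f * f = f) :
    Module.finrank K (PW K e f) + Module.finrank K (PW K e (1 - f)) =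
      Module.finrank K (PW K e (1 : A)) := by
  let F : PW K e (1 : A) →ₗ[K] A := (LinearMap.mulRight K f) ∘ₗ (PW K e (1 : A)).subtype
  have h1 : LinearMap.range F = PW K e f := by
    ext y
    constructor
    · rintro ⟨x, rfl⟩
      refine ⟨?_, ?_⟩
      · show e * ((x : A) * f) = x * f
        rw [← mul_assoc, x.2.1]
      · show (x : A) * f * f = x * f
        rw [mul_assoc, hf]
    · intro hy
      exact ⟨⟨y, hy.1, mul_one y⟩, hy.2⟩
  have h2 : (LinearMap.ker F).map (PW K e (1 : A)).subtype = PW K e (1 - f) := by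
    ext y
    constructor
    · rintro ⟨x, hx, rfl⟩
      have hx' : (x : A) * f = 0 := LinearMap.mem_ker.mp hx
      refine ⟨x.2.1, ?_⟩
      show (x : A) * (1 - f) = x
      rw [mul_sub, mul_one, hx', sub_zero]
    · intro hy
      refine ⟨⟨y, hy.1, mul_one y⟩, ?_, rfl⟩
      apply LinearMap.mem_ker.mpr
      show y * f = 0
      rw [← hy.2, mul_assoc, sub_mul, one_mul, hf, sub_self, mul_zero]
  have h3 := LinearMap.finrank_range_add_finrank_ker F
  rw [h1] at h3
  rw [← h3, ← h2, (Submodule.equivMapOfInjective (PW K e (1 : A)).subtype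
    (PW K e (1 : A)).injective_subtype (LinearMap.ker F)).finrank_eq]

theorem finrank_PW_one [FiniteDimensional K A] :
    Module.finrank K (PW K (1 : A) (1 : A)) = Module.finrank K A := by
  have : PW K (1 : A) (1 : A) = ⊤ := by
    rw [eq_top_iff]
    intro x _
    exact ⟨one_mul x, mul_one x⟩
  rw [this, finrank_top]

/-- central elements `z` with `e z = z` -/
def ZW (K : Type*) [Field K] {A : Type*} [Ring A] [Algebra K A] (e : A) : Submodule K A where
  carrier := {x | (∀ a, a * x = x * a) ∧ e * x = x}
  add_mem' := by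
    rintro a b ⟨h1, h2⟩ ⟨h3, h4⟩
    exact ⟨fun c => by rw [mul_add, add_mul, h1, h3], by rw [mul_add, h2, h4]⟩
  zero_mem' := ⟨fun c => by rw [mul_zero, zero_mul], mul_zero _⟩
  smul_mem' := by
    rintro c a ⟨h1, h2⟩
    exact ⟨fun d => by rw [mul_smul_comm, smul_mul_assoc, h1], by rw [mul_smul_comm, h2]⟩

theorem mem_ZW {e x : A} : x ∈ ZW K e ↔ (∀ a, a * x = x * a) ∧ e * x = x := Iff.rfl

theorem finrank_ZW [FiniteDimensional K A] {e : A} (he : e * e = e) (hc : ∀ a, a * e = e * a) :
    Module.finrank K (ZW K e) + Module.finrank K (ZW K (1 - e)) =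
      Module.finrank K (ZW K (1 : A)) := by
  let F : ZW K (1 : A) →ₗ[K] A := (LinearMap.mulLeft K e) ∘ₗ (ZW K (1 : A)).subtype
  have h1 : LinearMap.range F = ZW K e := by
    ext y
    constructor
    · rintro ⟨x, rfl⟩
      refine ⟨?_, ?_⟩
      · intro a
        show a * (e * (x : A)) = e * x * a
        rw [← mul_assoc, hc, mul_assoc, x.2.1, mul_assoc]
      · show e * (e * (x : A)) = e * x
        rw [← mul_assoc, he]
    · intro hy
      exact ⟨⟨y, hy.1, one_mul y⟩, hy.2⟩
  have h2 : (LinearMap.ker F).map (ZW K (1 : A)).subtype = ZW K (1 - e) := by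
    ext y
    constructor
    · rintro ⟨x, hx, rfl⟩
      have hx' : e * (x : A) = 0 := LinearMap.mem_ker.mp hx
      refine ⟨x.2.1, ?_⟩
      show (1 - e) * (x : A) = x
      rw [sub_mul, one_mul, hx', sub_zero]
    · intro hy
      refine ⟨⟨y, hy.1, one_mul y⟩, ?_, rfl⟩
      apply LinearMap.mem_ker.mpr
      show e * y = 0
      rw [← hy.2, ← mul_assoc, mul_sub, mul_one, he, sub_self, zero_mul]
  have h3 := LinearMap.finrank_range_add_finrank_ker F
  rw [h1] at h3
  rw [← h3, ← h2, (Submodule.equivMapOfInjective (ZW K (1 : A)).subtype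
    (ZW K (1 : A)).injective_subtype (LinearMap.ker F)).finrank_eq]

end pw

section dims

variable {M : Ideal AlgInt} [hMm : M.IsMaximal] {G : Type u} [Group G] [Finite G]

theorem PW_le {E F : GA G} (hE : LocA M E) (hF : LocA M F) (hEE : E * E = E) (hFF : F * F = F) :
    Module.finrank (Kf M) (PW (Kf M) (redA M E) (redA M F)) ≤ Module.finrank ℂ (PW ℂ E F) := by
  haveI := hMm.isPrime
  apply finrank_le (M := M)
  intro u hu
  refine ⟨E * lftA u * F, mul_mem_PW hEE hFF _, locA_mul (locA_mul hE (locA_lftA u)) hF, ?_⟩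
  rw [redA_mul (locA_mul hE (locA_lftA u)) hF, redA_mul hE (locA_lftA u), redA_lftA]
  exact PW_eq hu

theorem red_idem {E : GA G} (hE : LocA M E) (hEE : E * E = E) :
    redA M E * redA M E = redA M E := by
  haveI := hMm.isPrime
  rw [← redA_mul hE hE, hEE]

theorem red_one_sub {E : GA G} (hE : LocA M E) : redA M (1 - E) = 1 - redA M E := by
  haveI := hMm.isPrime
  rw [redA_sub locA_one hE, redA_one]

theorem one_sub_idem {R : Type*} [Ring R] {E : R} (hEE : E * E = E) : (1 - E) * (1 - E) = 1 - E := by
  rw [mul_sub, mul_one, sub_mul, one_mul, hEE, sub_self, sub_zero]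

/-- Peirce pieces have the same dimension over the residue field and over the complex numbers -/
theorem finrank_PW {E F : GA G} (hE : LocA M E) (hF : LocA M F) (hEE : E * E = E) (hFF : F * F = F) :
    Module.finrank (Kf M) (PW (Kf M) (redA M E) (redA M F)) = Module.finrank ℂ (PW ℂ E F) := by
  haveI := hMm.isPrime
  have h1 : LocA M (1 - E) := locA_sub locA_one hE
  have h2 : LocA M (1 - F) := locA_sub locA_one hF
  -- first the right pieces of `1`
  have a1 := PW_le (E := 1) (F := F) (M := M) locA_one hF (one_mul 1) hFF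
  have a2 := PW_le (E := 1) (F := 1 - F) (M := M) locA_one h2 (one_mul 1) (one_sub_idem hFF)
  have a3 := finrank_PW_right (K := Kf M) (e := (1 : MonoidAlgebra (Kf M) G)) (red_idem hF hFF)
  have a4 := finrank_PW_right (K := ℂ) (e := (1 : GA G)) hFF
  rw [finrank_PW_one, finrank_MA] at a3 a4
  rw [redA_one] at a1 a2
  rw [red_one_sub hF] at a2
  have b1 : Module.finrank (Kf M) (PW (Kf M) (1 : MonoidAlgebra (Kf M) G) (redA M F)) =
      Module.finrank ℂ (PW ℂ (1 : GA G) F) := by omega
  have c1 := PW_le hE hF hEE hFF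
  have c2 := PW_le h1 hF (one_sub_idem hEE) hFF
  rw [red_one_sub hE] at c2
  have c3 := finrank_PW_left (K := Kf M) (f := redA M F) (red_idem hE hEE)
  have c4 := finrank_PW_left (K := ℂ) (f := F) hEE
  omega

end dims

end Cfsg.Agent.Lib.H76BDim
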