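import Cfsg.Agent.Lib.H76Alg2
import Cfsg.Agent.Lib.H76BDim

/-!
# Ranks of idempotents in an algebra with one simple component; symmetric corners
-/

set_option autoImplicit false
set_option linter.all false

namespace Cfsg.Agent.Lib.H76Alg

open Cfsg.Agent.Lib.H76BDim (PW mem_PW mul_mem_PW PW_eq)

universe u v

variable {k : Type v} [Field k] {A : Type u} [Ring A] [Algebra k A]

/-- equivalent idempotents have left ideals of the same dimension -/
theorem finrank_PW_equiv {x e e' u w : A} (h1 : u * e = u) (h2 : e' * u = u)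
    (h3 : w * e' = w) (h4 : e * w = w) (h5 : w * u = e) (h6 : u * w = e') :
    Module.finrank k (PW k x e) = Module.finrank k (PW k x e') := by
  -- `y ↦ y w : A e → A e'`, `z ↦ z u`
  let F : PW k x e ≃ₗ[k] PW k x e' :=
    { toFun := fun y => ⟨y * w, by rw [← mul_assoc, y.2.1], by rw [mul_assoc, h3]⟩
      map_add' := fun a b => Subtype.ext (add_mul _ _ _)
      map_smul' := fun c a => Subtype.ext (smul_mul_assoc _ _ _)
      invFun := fun z => ⟨z * u, by rw [← mul_assoc, z.2.1], by rw [mul_assoc, h1]⟩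
      left_inv := fun y => Subtype.ext (by
        show (y : A) * w * u = y
        rw [mul_assoc, h5, y.2.2])
      right_inv := fun z => Subtype.ext (by
        show (z : A) * u * w = z
        rw [mul_assoc, h6, z.2.2]) }
  exact F.finrank_eq

/-- additivity -/
theorem finrank_PW_add [FiniteDimensional k A] {x e e₁ : A} (he : e * e = e) (h1 : e₁ * e₁ = e₁)
    (h2 : e * e₁ = e₁) (h3 : e₁ * e = e₁) :
    Module.finrank k (PW k x e) = Module.finrank k (PW k x e₁) + Module.finrank k (PW k x (e - e₁)) := by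
  let F : PW k x e →ₗ[k] A := (LinearMap.mulRight k e₁) ∘ₗ (PW k x e).subtype
  have hr : LinearMap.range F = PW k x e₁ := by
    ext y
    constructor
    · rintro ⟨z, rfl⟩
      refine ⟨?_, ?_⟩
      · show x * ((z : A) * e₁) = z * e₁
        rw [← mul_assoc, z.2.1]
      · show (z : A) * e₁ * e₁ = z * e₁
        rw [mul_assoc, h1]
    · intro hy
      refine ⟨⟨y, hy.1, ?_⟩, hy.2⟩
      have h := hy.2
      calc y * e = y * e₁ * e := by rw [h]
        _ = y := by rw [mul_assoc, h3, h]
  have hk : (LinearMap.ker F).map (PW k x e).subtype = PW k x (e - e₁) := by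
    ext y
    constructor
    · rintro ⟨z, hz, rfl⟩
      have hz' : (z : A) * e₁ = 0 := LinearMap.mem_ker.mp hz
      refine ⟨z.2.1, ?_⟩
      show (z : A) * (e - e₁) = z
      rw [mul_sub, hz', sub_zero, z.2.2]
    · intro hy
      have h := hy.2
      have h5 : (e - e₁) * e = e - e₁ := by rw [sub_mul, he, h3]
      have h6 : (e - e₁) * e₁ = 0 := by rw [sub_mul, h1, h2, sub_self]
      refine ⟨⟨y, hy.1, ?_⟩, ?_, rfl⟩
      · calc y * e = y * (e - e₁) * e := by rw [h]
          _ = y := by rw [mul_assoc, h5, h]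
      · apply LinearMap.mem_ker.mpr
        show y * e₁ = 0
        rw [← h, mul_assoc, h6, mul_zero]
  have h4 := LinearMap.finrank_range_add_finrank_ker F
  rw [hr] at h4
  rw [← h4, ← hk, (Submodule.equivMapOfInjective (PW k x e).subtype
    (PW k x e).injective_subtype (LinearMap.ker F)).finrank_eq]

theorem idem_eq_zero_of_nil {e : A} (he : e * e = e) (hn : IsNilpotent e) : e = 0 := by
  obtain ⟨n, hn⟩ := hn
  have h : ∀ m : ℕ, e ^ (m + 1) = e := by
    intro m
    induction m with
    | zero => simp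
    | succ m ih => rw [pow_succ, ih, he]
  have := h n
  rw [pow_succ, hn, zero_mul] at this
  exact this.symm

/-- **rank of an idempotent** -/
theorem exists_rank [FiniteDimensional k A] {f : ℕ} [NeZero f] {φ : A →ₐ[k] Matrix (Fin f) (Fin f) k}
    (hn : ∀ a, φ a = 0 → IsNilpotent a) {E : Fin f → Fin f → A} (hE : MU f E)
    (hφ : ∀ i j, φ (E i j) = Matrix.single i j 1) (x : A) :
    ∀ (n : ℕ) (e : A), e * e = e → Module.finrank k (PW k (1 : A) e) ≤ n →
      ∃ r : ℕ, Module.finrank k (PW k (1 : A) e) = r * Module.finrank k (PW k (1 : A) (E 0 0)) ∧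
        Module.finrank k (PW k x e) = r * Module.finrank k (PW k x (E 0 0)) ∧
        (φ e).trace = (r : k) := by
  intro n
  induction n with
  | zero =>
    intro e he hle
    have h1 : PW k (1 : A) e = ⊥ := Submodule.finrank_eq_zero.mp (by omega)
    have h2 : e = 0 := by
      have : e ∈ PW k (1 : A) e := ⟨one_mul e, he⟩
      rw [h1] at this
      exact this
    refine ⟨0, ?_, ?_, ?_⟩
    · omega
    · rw [zero_mul]
      have h3 : PW k x e = ⊥ := by
        rw [eq_bot_iff]
        intro y hy
        have := hy.2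
        rw [h2, mul_zero] at this
        exact this.symm
      rw [h3, finrank_bot]
    · rw [h2, map_zero, Matrix.trace_zero, Nat.cast_zero]
  | succ n ih =>
    intro e he hle
    by_cases hφe : φ e = 0
    · have h2 : e = 0 := idem_eq_zero_of_nil he (hn e hφe)
      have h3 : ∀ x : A, Module.finrank k (PW k x e) = 0 := by
        intro x
        have h4 : PW k x e = ⊥ := by
          rw [eq_bot_iff]
          intro y hy
          have := hy.2
          rw [h2, mul_zero] at this
          exact this.symm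
        rw [h4, finrank_bot]
      exact ⟨0, by rw [h3, zero_mul], by rw [h3, zero_mul], by rw [hφe, Matrix.trace_zero, Nat.cast_zero]⟩
    · obtain ⟨i, j, hij⟩ : ∃ i j, φ e i j ≠ 0 := by
        by_contra hcon
        push Not at hcon
        exact hφe (by ext i j; exact hcon i j)
      set c := φ e i j with hc
      -- `v' = E 0 i * e`, `u = e * E j 0`
      have hvu : φ (E 0 i * e * (e * E j 0)) = c • Matrix.single 0 0 1 := by
        have h1 : E 0 i * e * (e * E j 0) = E 0 i * e * E j 0 := by
          rw [mul_assoc (E 0 i), ← mul_assoc e e, he, ← mul_assoc]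
        rw [h1, map_mul, map_mul, hφ, hφ]
        ext a b
        rw [Matrix.single_mul_mul_single, Matrix.smul_apply, Matrix.single_apply, Matrix.single_apply]
        split_ifs <;> simp [hc]
      obtain ⟨n', hn'⟩ : ∃ n', n' = c⁻¹ • (E 0 i * e * (e * E j 0)) - E 0 0 := ⟨_, rfl⟩
      have hφn : φ n' = 0 := by
        rw [hn', map_sub, map_smul, hvu, hφ, smul_smul, inv_mul_cancel₀ hij, one_smul, sub_self]
      obtain ⟨t, ht⟩ := (hn n' hφn).isUnit_one_add
      have h0n : E 0 0 * n' = n' := by
        have hX : E 0 0 * (E 0 i * e * (e * E j 0)) = E 0 i * e * (e * E j 0) := by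
          simp only [← mul_assoc, hE.mul_self]
        rw [hn', mul_sub, mul_smul_comm, hE.mul_self, hX]
      have hn0 : n' * E 0 0 = n' := by
        rw [hn', sub_mul, smul_mul_assoc, hE.mul_self]
        congr 2
        rw [mul_assoc, mul_assoc e, hE.mul_self]
      have hcomm : (↑t⁻¹ : A) * E 0 0 = E 0 0 * ↑t⁻¹ := by
        have h1 : (t : A) * E 0 0 = E 0 0 * t := by
          rw [ht, add_mul, mul_add, one_mul, mul_one, h0n, hn0]
        calc (↑t⁻¹ : A) * E 0 0 = ↑t⁻¹ * (E 0 0 * t) * ↑t⁻¹ := by
              rw [mul_assoc, mul_assoc, Units.mul_inv, mul_one]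
          _ = ↑t⁻¹ * (t * E 0 0) * ↑t⁻¹ := by rw [h1]
          _ = E 0 0 * ↑t⁻¹ := by rw [← mul_assoc, Units.inv_mul, one_mul]
      obtain ⟨u, hu⟩ : ∃ u, u = e * E j 0 := ⟨_, rfl⟩
      obtain ⟨w, hw⟩ : ∃ w, w = c⁻¹ • (↑t⁻¹ * (E 0 i * e)) := ⟨_, rfl⟩
      have hwu : w * u = E 0 0 := by
        have h1 : c⁻¹ • (E 0 i * e * (e * E j 0)) = t * E 0 0 := by
          rw [ht, add_mul, one_mul, hn0, hn']
          abel
        rw [hw, hu, smul_mul_assoc, mul_assoc, ← mul_smul_comm, h1, ← mul_assoc, Units.inv_mul, one_mul]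
      have hu1 : u * E 0 0 = u := by rw [hu, mul_assoc, hE.mul_self]
      have hu2 : e * u = u := by rw [hu, ← mul_assoc, he]
      have hw1 : w * e = w := by
        rw [hw, smul_mul_assoc, mul_assoc, mul_assoc (E 0 i), he]
      have hw2 : E 0 0 * w = w := by
        rw [hw, mul_smul_comm, ← mul_assoc, ← hcomm, mul_assoc, ← mul_assoc (E 0 0), hE.mul_self]
      obtain ⟨e₁, he₁⟩ : ∃ e₁, e₁ = u * w := ⟨_, rfl⟩
      have h11 : e₁ * e₁ = e₁ := by
        rw [he₁]
        calc u * w * (u * w) = u * (w * u) * w := by simp only [mul_assoc]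
          _ = u * w := by rw [hwu, hu1]
      have he1 : e * e₁ = e₁ := by rw [he₁, ← mul_assoc, hu2]
      have h1e : e₁ * e = e₁ := by rw [he₁, mul_assoc, hw1]
      have hsub : (e - e₁) * (e - e₁) = e - e₁ := by
        rw [sub_mul, mul_sub, mul_sub, he, he1, h1e, h11, sub_self, sub_zero]
      have hd1 : ∀ x : A, Module.finrank k (PW k x e₁) = Module.finrank k (PW k x (E 0 0)) := by
        intro x
        symm
        refine finrank_PW_equiv (u := u) (w := w) hu1 ?_ ?_ hw2 hwu he₁.symm
        · rw [he₁, mul_assoc, hwu, hu1]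
        · rw [he₁, ← mul_assoc, hwu, hw2]
      have hadd : ∀ x : A, Module.finrank k (PW k x e) =
          Module.finrank k (PW k x (E 0 0)) + Module.finrank k (PW k x (e - e₁)) := by
        intro x
        rw [← hd1 x]
        exact finrank_PW_add he h11 he1 h1e
      have hE0 : 0 < Module.finrank k (PW k (1 : A) (E 0 0)) := by
        rw [Module.finrank_pos_iff_exists_ne_zero]
        refine ⟨⟨E 0 0, one_mul _, hE.mul_self 0 0 0⟩, fun h => ?_⟩
        have h1 : E 0 0 = 0 := congrArg Subtype.val h
        have h2 := hφ 0 0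
        rw [h1, map_zero] at h2
        have h3 := congrFun (congrFun h2 0) 0
        rw [Matrix.single_apply_same] at h3
        exact zero_ne_one h3
      obtain ⟨r, hr1, hr2, hr3⟩ := ih (e - e₁) hsub (by have := hadd 1; omega)
      refine ⟨r + 1, ?_, ?_, ?_⟩
      · rw [hadd 1, hr1]; ring
      · rw [hadd x, hr2]; ring
      · have h1 : (φ e₁).trace = 1 := by
          rw [he₁, map_mul, Matrix.trace_mul_comm, ← map_mul, hwu, hφ, Matrix.trace_single_eq_same]
        have h2 : (φ e).trace = (φ e₁).trace + (φ (e - e₁)).trace := by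
          rw [map_sub, Matrix.trace_sub]; ring
        rw [h2, h1, hr3]
        push_cast
        ring

/-- the symmetrizing form of a corner -/
theorem symF_corner {lam : A →ₗ[k] k} (hl : SymF lam) (e : Idem A) :
    SymF (lam ∘ₗ (inc : Cor k e →ₗ[k] A)) := by
  constructor
  · intro a b
    show lam (inc (a * b)) = lam (inc (b * a))
    rw [inc_mul, inc_mul, hl.tr]
  · intro a h
    apply inc_inj
    rw [map_zero]
    apply hl.nd
    intro b
    have h1 := h (prj b)
    have h2 : lam (inc (a * prj b)) = 0 := h1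
    rw [inc_mul, inc_prj] at h2
    have h3 : inc a * e.e = inc a := (inc_mem a).2
    have h4 : e.e * inc a = inc a := (inc_mem a).1
    have h5 : lam (inc a * (e.e * b * e.e)) = lam (inc a * b) := by
      rw [← mul_assoc, ← mul_assoc, h3, hl.tr, ← mul_assoc, h4]
    rw [← h5, h2]

theorem tau_indep {n : ℕ} {d : Fin n → ℕ} [∀ i, NeZero (d i)]
    {φ : A →ₐ[k] (∀ i, Matrix (Fin (d i)) (Fin (d i)) k)} (hs : Function.Surjective φ)
    (c : Fin n → k) (h : ∀ a, ∑ i, c i * (φ a i).trace = 0) (i : Fin n) : c i = 0 := by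
  classical
  obtain ⟨a, ha⟩ := hs (Pi.single i (Matrix.single 0 0 1))
  have h1 := h a
  rw [ha, Finset.sum_eq_single i] at h1
  · rw [Pi.single_eq_same, Matrix.trace_single_eq_same, mul_one] at h1
    exact h1
  · intro j _ hj
    rw [Pi.single_eq_of_ne hj, Matrix.trace_zero, mul_zero]
  · intro h; exact absurd (Finset.mem_univ _) h

end Cfsg.Agent.Lib.H76Alg
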