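import Cfsg.Agent.Lib.H76BDim3
import Cfsg.Agent.Lib.H76Alg3
import Cfsg.Agent.Lib.H76Rank1

/-!
# The number of simple modules of a block algebra is at most the rank of the block
-/

set_option autoImplicit false
set_option linter.all false
set_option synthInstance.maxHeartbeats 400000

namespace Cfsg.Agent.Lib.H76BDim

open Cfsg Cfsg.Agent.Lib.BlockRing Cfsg.Agent.Lib.BlockGA Cfsg.Agent.Lib.BlockIdem
open Cfsg.Agent.Lib.BlockAlg Cfsg.Agent.Lib.CharBasic Cfsg.Agent.Lib.H76Alg
open Cfsg.Agent.Lib.BlockPair Cfsg.Agent.Lib.BlockCount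
open scoped ComplexConjugate

universe u

section chars

variable {G : Type u} [Group G] [Finite G] {p : ℕ}

theorem coeff_inv_mem {B : Set (IrrCharacter G)} {z : GA G} (hz : z ∈ ZW ℂ (eB B)) :
    (fun g => z.coeff g⁻¹) ∈ Submodule.span ℂ ((fun χ : IrrCharacter G => (χ : G → ℂ)) '' B) := by
  classical
  have hzc := mem_center_of_ZW hz
  have h1 : z = ∑ χ : IrrCharacter G, omega (χ : G → ℂ) z • eB {χ} := by
    apply center_ext hzc
    · exact Subalgebra.sum_mem _ fun χ _ => Subalgebra.smul_mem _ (eB_mem_center _) _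
    · intro ψ
      rw [omega_sum, Finset.sum_eq_single ψ]
      · rw [omega_smul, omega_eB_mem (Set.mem_singleton ψ), mul_one]
      · intro χ _ hχ
        rw [omega_smul, omega_eB_not_mem (fun h => hχ (Set.mem_singleton_iff.mp h).symm), mul_zero]
      · intro h; exact absurd (Finset.mem_univ _) h
  have h2 : (fun g => z.coeff g⁻¹) = ∑ χ : IrrCharacter G,
      (omega (χ : G → ℂ) z * ((Nat.card G : ℂ)⁻¹ * (χ : G → ℂ) 1)) • (χ : G → ℂ) := by
    funext g
    conv_lhs => rw [h1]
    rw [coeff_finset_sum, Finset.sum_apply]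
    refine Finset.sum_congr rfl fun χ _ => ?_
    rw [MonoidAlgebra.coeff_smul, Finsupp.smul_apply, coeff_eB, blockCoeff_eq_sum,
      Finset.sum_eq_single χ]
    · rw [if_pos (Set.mem_singleton χ), χ.2.inv, Complex.conj_conj, Pi.smul_apply, smul_eq_mul,
        smul_eq_mul]
      ring
    · intro ψ _ hψ
      rw [if_neg (fun h => hψ (Set.mem_singleton_iff.mp h))]
    · intro h; exact absurd (Finset.mem_univ _) h
  rw [h2]
  apply Submodule.sum_mem
  intro χ _
  by_cases hχ : χ ∈ B
  · exact Submodule.smul_mem _ _ (Submodule.subset_span ⟨χ, hχ, rfl⟩)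
  · have h3 : omega (χ : G → ℂ) z = 0 := by
      rw [← hz.2, omega_mul χ.2 (eB_mem_center B), omega_eB_not_mem hχ, zero_mul]
    rw [h3, zero_mul, zero_smul]
    exact Submodule.zero_mem _

theorem preg_mem_rsp {B : Set (IrrCharacter G)} {F : G → ℂ}
    (hF : F ∈ Submodule.span ℂ ((fun χ : IrrCharacter G => (χ : G → ℂ)) '' B)) :
    preg p F ∈ rsp p B := by
  induction hF using Submodule.span_induction with
  | mem x hx =>
    obtain ⟨χ, hχ, rfl⟩ := hx
    exact Submodule.subset_span ⟨χ, hχ, rfl⟩
  | zero =>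
    have : preg p (0 : G → ℂ) = 0 := by
      funext g
      unfold preg
      simp
    rw [this]
    exact Submodule.zero_mem _
  | add x y _ _ hx hy =>
    have : preg p (x + y) = preg p x + preg p y := by
      funext g
      unfold preg
      simp only [Pi.add_apply]
      split_ifs <;> simp
    rw [this]
    exact Submodule.add_mem _ hx hy
  | smul c x _ hx =>
    have : preg p (c • x) = c • preg p x := by
      funext g
      unfold preg
      simp only [Pi.smul_apply, smul_eq_mul]
      split_ifs <;> simp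
    rw [this]
    exact Submodule.smul_mem _ _ hx

end chars

section nil

/-- in characteristic `p` elements of `p`-power order are unipotent -/
theorem nilpotent_sub_one {K : Type*} [Field K] {R : Type*} [Ring R] [Algebra K R] {p : ℕ}
    [CharP K p] (hp : p.Prime) {x : R} {m : ℕ} (hx : x ^ p ^ m = 1) : IsNilpotent (x - 1) := by
  rcases subsingleton_or_nontrivial R with hR | hR
  · exact ⟨1, Subsingleton.elim _ _⟩
  haveI : Fact p.Prime := ⟨hp⟩
  haveI : CharP R p := charP_of_injective_algebraMap (algebraMap K R).injective p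
  refine ⟨p ^ m, ?_⟩
  rw [sub_pow_char_pow_of_commute (p := p) m (Commute.one_right x), hx, one_pow, sub_self]

theorem trace_mul_unip {K : Type*} [Field K] {n : ℕ} {a b : Matrix (Fin n) (Fin n) K}
    (hc : Commute a b) (hn : IsNilpotent (b - 1)) : (a * b).trace = a.trace := by
  have h1 : a * b = a + a * (b - 1) := by rw [mul_sub, mul_one]; abel
  have h2 : Commute a (b - 1) := hc.sub_right (Commute.one_right a)
  have h3 : IsNilpotent (a * (b - 1)) := h2.isNilpotent_mul_left hn
  rw [h1, Matrix.trace_add, (Matrix.isNilpotent_trace_of_isNilpotent h3).eq_zero, add_zero]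

end nil

section block

variable {M : Ideal AlgInt} [hMm : M.IsMaximal] {G : Type u} [Group G] [Finite G] {p : ℕ}
variable {B : Set (IrrCharacter G)} (hB : IsPBlock M B)

/-- the value of a functional at a group element -/
noncomputable def val (f : Cor (Kf M) (bI hB) →ₗ[Kf M] Kf M) (g : G) : Kf M :=
  f (prj (MonoidAlgebra.single g 1))

theorem prj_one : (prj (1 : MonoidAlgebra (Kf M) G) : Cor (Kf M) (bI hB)) = 1 := by
  apply inc_inj
  rw [inc_prj, inc_one, mul_one, (bI hB).he]

theorem prj_single_pow (g : G) (n : ℕ) :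
    (prj (MonoidAlgebra.single g 1) : Cor (Kf M) (bI hB)) ^ n = prj (MonoidAlgebra.single (g ^ n) 1) := by
  induction n with
  | zero => rw [pow_zero, pow_zero, ← MonoidAlgebra.one_def, prj_one]
  | succ n ih =>
    rw [pow_succ, ih, ← prj_mul (bI_central hB), MonoidAlgebra.single_mul_single, ← pow_succ, mul_one]

theorem val_eq_zero {f : Cor (Kf M) (bI hB) →ₗ[Kf M] Kf M} (h : ∀ g, val hB f g = 0) : f = 0 := by
  ext a
  rw [← prj_inc a]
  have : ∀ x : MonoidAlgebra (Kf M) G, f (prj x) = 0 := by
    intro x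
    induction x using MonoidAlgebra.induction_linear with
    | zero => rw [map_zero, map_zero]
    | add a b ha hb => rw [map_add, map_add, ha, hb, add_zero]
    | single g c =>
      have h1 : (MonoidAlgebra.single g c : MonoidAlgebra (Kf M) G) = c • MonoidAlgebra.single g 1 := by
        rw [MonoidAlgebra.smul_single, smul_eq_mul, mul_one]
      rw [h1, map_smul, map_smul]
      have := h g
      unfold val at this
      rw [this, smul_zero]
  exact this _

/-- trace functionals of simple modules are constant on `p`-sections -/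
theorem val_section (hM : IsPModular p M) {n : ℕ} (φ : Cor (Kf M) (bI hB) →ₐ[Kf M] Matrix (Fin n) (Fin n) (Kf M))
    {s w : G} (hc : Commute s w) {m : ℕ} (hw : w ^ p ^ m = 1) :
    (φ (prj (MonoidAlgebra.single (s * w) 1))).trace = (φ (prj (MonoidAlgebra.single s 1))).trace := by
  haveI := charP_Kf hM
  have h1 : (MonoidAlgebra.single (s * w) 1 : MonoidAlgebra (Kf M) G) =
      MonoidAlgebra.single s 1 * MonoidAlgebra.single w 1 := by
    rw [MonoidAlgebra.single_mul_single, mul_one]
  have h2 : (MonoidAlgebra.single (s * w) 1 : MonoidAlgebra (Kf M) G) =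
      MonoidAlgebra.single w 1 * MonoidAlgebra.single s 1 := by
    rw [MonoidAlgebra.single_mul_single, mul_one, hc.eq]
  have h3 : Commute (φ (prj (MonoidAlgebra.single s 1))) (φ (prj (MonoidAlgebra.single w 1))) := by
    show _ * _ = _ * _
    rw [← map_mul φ, ← map_mul φ, ← prj_mul (bI_central hB), ← prj_mul (bI_central hB), ← h1, h2]
  rw [h1, prj_mul (bI_central hB), map_mul]
  apply trace_mul_unip h3
  apply nilpotent_sub_one (K := Kf M) hM.1 (m := m)
  rw [← map_pow, prj_single_pow, hw, ← MonoidAlgebra.one_def, prj_one, map_one]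

theorem exists_ps {f : Cor (Kf M) (bI hB) →ₗ[Kf M] Kf M} (hf : f ∈ Tr (Kf M) (Cor (Kf M) (bI hB))) :
    ∃ W : G → ℂ, W ∈ rsp p B ∧ (∀ g, MemLocalRing M (W g)) ∧
      ∀ g, red M (W g) = if p ∣ orderOf g then 0 else val hB f g := by
  classical
  haveI := hMm.isPrime
  set ps := psi (bI hB) ⟨f, hf⟩ with hps
  have hpsi : ps ∈ ZW (Kf M) (bI hB).e := psi_mem (bI_central hB) _
  have hval : ∀ g, ps.coeff g = val hB f g⁻¹ := fun g => rfl
  clear_value ps
  set z : GA G := eB B * lftA ps with hz
  have hzl : LocA M z := locA_mul (locA_eB hB) (locA_lftA _)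
  have hcu : lftA ps ∈ Subalgebra.center ℂ (GA G) :=
    lftA_center (fun g h => central_iff.mp hpsi.1 g h)
  have hzW : z ∈ ZW ℂ (eB B) := by
    refine ⟨?_, ?_⟩
    · exact Subalgebra.mem_center_iff.mp (Subalgebra.mul_mem _ (eB_mem_center B) hcu)
    · rw [hz, ← mul_assoc, eB_mul_self]
  have hzr : redA M z = ps := by
    rw [hz, redA_mul (locA_eB hB) (locA_lftA _), redA_lftA]
    exact hpsi.2
  refine ⟨preg p (fun g => z.coeff g⁻¹), preg_mem_rsp (coeff_inv_mem hzW), ?_, ?_⟩
  · intro g
    simp only [preg]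
    split_ifs
    · exact loc_zero
    · exact hzl _
  · intro g
    simp only [preg]
    split_ifs with h
    · exact red_zero
    · have h1 := BrauerMap.coeff_eq_of_eq hzr g⁻¹
      rw [redA_coeff] at h1
      rw [h1, hval, inv_inv]

theorem linIndep_iff {n : ℕ} (t : Fin n → G → Kf M) (h : ∀ c : Fin n → Kf M, (∀ g, ∑ i, c i * t i g = 0) → ∀ i, c i = 0) :
    LinearIndependent (Kf M) t := by
  rw [Fintype.linearIndependent_iff]
  intro c hc
  apply h c
  intro g
  have h4 := congrFun hc g
  rw [Finset.sum_apply] at h4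
  exact h4

theorem card_le_of_lifts {n : ℕ} (t : Fin n → G → Kf M) (W : Fin n → G → ℂ)
    (hW1 : ∀ i, W i ∈ rsp p B) (hW2 : ∀ i g, MemLocalRing M (W i g)) (hW3 : ∀ i g, red M (W i g) = t i g)
    (h : ∀ c : Fin n → Kf M, (∀ g, ∑ i, c i * t i g = 0) → ∀ i, c i = 0) : n ≤ blockRank p B := by
  have := Fintype.ofFinite G
  have h1 := linearIndependent_of_red (M := M) t W hW2 hW3 (linIndep_iff t h)
  rw [blockRank_eq]
  have h2 : LinearIndependent ℂ (fun i => (⟨W i, hW1 i⟩ : rsp p B)) := by
    apply LinearIndependent.of_comp (rsp p B).subtype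
    exact h1
  simpa using h2.fintype_card_le_finrank

set_option maxHeartbeats 2000000 in
theorem sum_aux {K : Type*} [Field K] {n : ℕ} (c u v : Fin n → K) (r : K) (h1 : ∀ i, u i = r * v i)
    (h3 : ∑ i, c i * v i = 0) : ∑ i, c i * u i = 0 := by
  have : ∑ i, c i * u i = r * ∑ i, c i * v i := by
    rw [Finset.mul_sum]
    refine Finset.sum_congr rfl fun i _ => ?_
    rw [h1]
    ring
  rw [this, h3, mul_zero]

theorem sum_aux2 {K : Type*} [Field K] {n : ℕ} (c u v w : Fin n → K) (h1 : ∀ i, u i = v i + w i)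
    (h2 : ∑ i, c i * v i = 0) (h3 : ∑ i, c i * w i = 0) : ∑ i, c i * u i = 0 := by
  have : ∑ i, c i * u i = ∑ i, c i * v i + ∑ i, c i * w i := by
    rw [← Finset.sum_add_distrib]
    refine Finset.sum_congr rfl fun i _ => ?_
    rw [h1]
    ring
  rw [this, h3, h2, add_zero]

/-- **the number of simple modules is at most the rank** -/
theorem card_le_blockRank (hM : IsPModular p M) {n : ℕ} {d : Fin n → ℕ} [∀ i, NeZero (d i)]
    {φ : Cor (Kf M) (bI hB) →ₐ[Kf M] (∀ i, Matrix (Fin (d i)) (Fin (d i)) (Kf M))}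
    (hs : Function.Surjective φ) : n ≤ blockRank p B := by
  classical
  have := Fintype.ofFinite G
  haveI := hMm.isPrime
  have hp := hM.1
  haveI : IsAlgClosed (Kf M) := isAlgClosed_Kf
  have hsec : ∀ i (s w : G), Commute s w → (∃ m, w ^ p ^ m = 1) →
      val hB (tau φ i) (s * w) = val hB (tau φ i) s := by
    rintro i s w hc ⟨m, hm⟩
    exact val_section hB hM ((Pi.evalAlgHom (Kf M) (fun i => Matrix (Fin (d i)) (Fin (d i)) (Kf M)) i).comp φ) hc hm
  choose W hW1 hW2 hW3 using fun i => exists_ps (p := p) hB (tau_mem φ i)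
  apply card_le_of_lifts (fun i g => if p ∣ orderOf g then 0 else val hB (tau φ i) g) W hW1 hW2 hW3
  intro c hc
  apply tau_indep hs c
  intro a
  rw [← prj_inc a]
  generalize inc a = x
  induction x using MonoidAlgebra.induction_linear with
  | zero =>
    apply Finset.sum_eq_zero
    intro i _
    rw [map_zero, map_zero, Pi.zero_apply, Matrix.trace_zero, mul_zero]
  | add a b ha hb =>
    refine sum_aux2 c _ _ _ (fun i => ?_) ha hb
    rw [map_add, map_add, Pi.add_apply, Matrix.trace_add]
  | single g r =>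
    have h1 : (MonoidAlgebra.single g r : MonoidAlgebra (Kf M) G) = r • MonoidAlgebra.single g 1 := by
      rw [MonoidAlgebra.smul_single, smul_eq_mul, mul_one]
    obtain ⟨s, w, hcomm, hg, hs', hw⟩ : ∃ s w : G, Commute s w ∧ g = s * w ∧ ¬ p ∣ orderOf s ∧
        ∃ m, w ^ p ^ m = 1 := by
      obtain ⟨w, s, hws, hc, ho, hs', -, -⟩ := BlockOsima.exists_p_decomp hp (orderOf_pos g).ne'
      exact ⟨s, w, hc.symm, by rw [← hc.eq, hws], hs', _, by rw [← ho, pow_orderOf_eq_one]⟩
    refine sum_aux c _ _ r (fun i => ?_) (hc s)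
    rw [if_neg hs', ← hsec i s w hcomm hw, ← hg, h1, map_smul, map_smul, Pi.smul_apply,
      Matrix.trace_smul, smul_eq_mul]
    rfl

end block

end Cfsg.Agent.Lib.H76BDim
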