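import Cfsg.Agent.Lib.AbPim1
import Cfsg.Agent.Lib.H76BRk
import Cfsg.Agent.Lib.H25BpLift
import Cfsg.Agent.Lib.H25BpT

/-!
# Local idempotents of a block: projective characters (helper77)
-/

set_option autoImplicit false
set_option linter.all false
set_option synthInstance.maxHeartbeats 400000

namespace Cfsg.Agent.Lib.AbPim

open Cfsg Cfsg.Agent.Lib.BlockRing Cfsg.Agent.Lib.BlockGA Cfsg.Agent.Lib.BlockIdem
open Cfsg.Agent.Lib.BlockAlg Cfsg.Agent.Lib.CharBasic Cfsg.Agent.Lib.H76Alg
open Cfsg.Agent.Lib.BlockPair Cfsg.Agent.Lib.BlockCount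
open Cfsg.Agent.Lib.H76BDim
open MonoidAlgebra (single)
open scoped ComplexConjugate

universe u

section basic

variable {G : Type u} [Group G] [Finite G]

/-- the trace form of an idempotent is a natural number -/
theorem lin_nat {E : GA G} (hE : E * E = E) (χ : IrrCharacter G) : ∃ m : ℕ, lin (χ : G → ℂ) E = m := by
  have h := H25BpLift.isCharacter_idem χ.2.isCharacter (Q := ⊥) hE (by
    intro u hu
    rw [Subgroup.mem_bot.1 hu, ← MonoidAlgebra.one_def]
    exact Commute.one_right E)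
  obtain ⟨m, hm⟩ := h.exists_degree
  refine ⟨m, ?_⟩
  rw [← hm]
  show _ = lin (χ : G → ℂ) (single ((1 : (⊥ : Subgroup G)) : G) 1 * E)
  rw [Subgroup.coe_one, ← MonoidAlgebra.one_def, one_mul]

variable {M : Ideal AlgInt} [hMm : M.IsMaximal] {B : Set (IrrCharacter G)}

/-- local idempotents below the block idempotent -/
structure BId (M : Ideal AlgInt) [M.IsMaximal] (B : Set (IrrCharacter G)) (E : GA G) : Prop where
  loc : LocA M E
  idem : E * E = E
  le : eB B * E = E

theorem BId.lin_eq_zero {E : GA G} (h : BId M B E) {χ : IrrCharacter G} (hχ : χ ∉ B) : lin (χ : G → ℂ) E = 0 := by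
  rw [← h.le, lin_mul χ.2 (eB_mem_center B), omega_eB_not_mem hχ, zero_mul]

theorem BId.eB (hB : IsPBlock M B) : BId M B (eB B) := by
  haveI := hMm.isPrime
  exact ⟨locA_eB hB, eB_mul_self B, eB_mul_self B⟩

variable (hB : IsPBlock M B)

/-- the image in the block algebra -/
noncomputable def im (hB : IsPBlock M B) (E : GA G) : Cor (Kf M) (bI hB) := prj (redA M E)

theorem inc_im {E : GA G} (h : BId M B E) : inc (im hB E) = redA M E := by
  haveI := hMm.isPrime
  rw [im, inc_prj, mid_eq' (bI_central hB), bI_central hB, bI_e, ← redA_mul (locA_eB hB) h.loc, h.le]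

theorem im_idem {E : GA G} (h : BId M B E) : im hB E * im hB E = im hB E := by
  haveI := hMm.isPrime
  apply inc_inj
  rw [inc_mul, inc_im hB h, ← redA_mul h.loc h.loc, h.idem]

theorem im_eB : im hB (BlockGA.eB B) = 1 := by
  apply inc_inj
  rw [inc_im hB (BId.eB hB), inc_one, bI_e]

theorem finrank_PW_inc (e f : Cor (Kf M) (bI hB)) :
    Module.finrank (Kf M) (PW (Kf M) e f) = Module.finrank (Kf M) (PW (Kf M) (H76Alg.inc e) (H76Alg.inc f)) := by
  let F : PW (Kf M) e f ≃ₗ[Kf M] PW (Kf M) (H76Alg.inc e) (H76Alg.inc f) :=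
    { toFun := fun y => ⟨H76Alg.inc (y : Cor (Kf M) (bI hB)), congrArg H76Alg.inc y.2.1, congrArg H76Alg.inc y.2.2⟩
      map_add' := fun a b => Subtype.ext (map_add H76Alg.inc _ _)
      map_smul' := fun c a => Subtype.ext (map_smul H76Alg.inc _ _)
      invFun := fun z => ⟨mkC (z : MonoidAlgebra (Kf M) G) ⟨by
          have h1 : H76Alg.inc e * (z : MonoidAlgebra (Kf M) G) = z := z.2.1
          rw [← h1, ← mul_assoc, (inc_mem e).1], by
          have h1 : (z : MonoidAlgebra (Kf M) G) * H76Alg.inc f = z := z.2.2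
          rw [← h1, mul_assoc, (inc_mem f).2]⟩, inc_inj z.2.1, inc_inj z.2.2⟩
      left_inv := fun y => Subtype.ext (inc_inj rfl)
      right_inv := fun z => Subtype.ext rfl }
  exact F.finrank_eq

/-- **the pairing** -/
theorem pairing {E F : GA G} (hE : BId M B E) (hF : BId M B F) :
    (Module.finrank (Kf M) (PW (Kf M) (im hB E) (im hB F)) : ℂ) =
      ∑ χ : IrrCharacter G, lin (χ : G → ℂ) E * lin (χ : G → ℂ) F := by
  haveI := hMm.isPrime
  rw [finrank_PW_inc hB, inc_im hB hE, inc_im hB hF, finrank_PW hE.loc hF.loc hE.idem hF.idem,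
    finrank_PW_complex hE.idem hF.idem]

/-- lifting of idempotents -/
theorem exists_lift (e : Cor (Kf M) (bI hB)) (he : e * e = e) : ∃ E : GA G, BId M B E ∧ im hB E = e := by
  haveI := hMm.isPrime
  obtain ⟨i, hi⟩ := H25BpLift.exists_toC (locA_eB hB)
  have hinj : ∀ a b : H25BpLift.OA M G, H25BpLift.toC a = H25BpLift.toC b → a = b := by
    intro a b hab
    apply BrauerMap.ext_coeff
    intro g
    apply Subtype.ext
    rw [← H25BpLift.toC_coeff, ← H25BpLift.toC_coeff, hab]
  have hfix : ∀ (k : Type) [CommRing k] (z : MonoidAlgebra k G), z ∈ BrauerMap.fixAlg k (⊥ : Subgroup G) := by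
    intro k _ z
    rw [BrauerMap.mem_fixAlg_iff_coeff]
    intro x hx g
    rw [Subgroup.mem_bot.1 hx]
    congr 1
    group
  obtain ⟨E, -, h1, h2, h3, h4⟩ := H25BpLift.exists_lift (M := M) (Q := (⊥ : Subgroup G)) (i := i) (hfix _ i)
    (hinj _ _ (by rw [map_mul, hi, eB_mul_self])) (ε := inc e) (hfix _ _) (by rw [← inc_mul, he])
    (by rw [H25BpLift.toK_eq, hi]; exact (inc_mem e).1) (by rw [H25BpLift.toK_eq, hi]; exact (inc_mem e).2)
  have h5 : BId M B (H25BpLift.toC E) := ⟨H25BpLift.locA_toC E, by rw [← map_mul, h1], by rw [← hi, ← map_mul, h2]⟩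
  refine ⟨H25BpLift.toC E, h5, ?_⟩
  apply inc_inj
  rw [inc_im hB h5, ← H25BpLift.toK_eq, h4]

end basic

end Cfsg.Agent.Lib.AbPim
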