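import Cfsg.Agent.Lib.AbPim2

/-!
# The projective indecomposable characters of a block (helper77)
-/

set_option autoImplicit false
set_option linter.all false
set_option synthInstance.maxHeartbeats 400000

namespace Cfsg.Agent.Lib.AbPim

open Cfsg Cfsg.Agent.Lib.BlockRing Cfsg.Agent.Lib.BlockGA Cfsg.Agent.Lib.BlockIdem
open Cfsg.Agent.Lib.BlockAlg Cfsg.Agent.Lib.CharBasic Cfsg.Agent.Lib.H76Alg
open Cfsg.Agent.Lib.BlockPair Cfsg.Agent.Lib.BlockCount
open Cfsg.Agent.Lib.H76BDim
open MonoidAlgebra (single)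
open scoped ComplexConjugate

universe u

variable {G : Type u} [Group G] [Finite G] {M : Ideal AlgInt} [hMm : M.IsMaximal] {B : Set (IrrCharacter G)}

/-- projective data of a block -/
structure PD (hB : IsPBlock M B) where
  /-- number of simple modules -/
  n : ℕ
  /-- their dimensions -/
  d : Fin n → ℕ
  hd : ∀ i, NeZero (d i)
  /-- the semisimple quotient -/
  φ : Cor (Kf M) (bI hB) →ₐ[Kf M] (∀ i, Matrix (Fin (d i)) (Fin (d i)) (Kf M))
  hs : Function.Surjective φ
  hn : ∀ a, φ a = 0 → IsNilpotent a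
  /-- lifted primitive idempotents -/
  F : Fin n → GA G
  hF : ∀ j, BId M B (F j)
  hg : ∀ j, φ (im hB (F j)) = Pi.single j (Matrix.single 0 0 1)

theorem exists_PD (hB : IsPBlock M B) : Nonempty (PD hB) := by
  haveI : IsAlgClosed (Kf M) := isAlgClosed_Kf
  obtain ⟨n, d, hd, φ, hs, m, hm⟩ := exists_wedderburn (k := Kf M) (A := Cor (Kf M) (bI hB))
  have hn : ∀ a, φ a = 0 → IsNilpotent a := fun a ha => isNilpotent_of_ker hm ha
  have h1 : ∀ j : Fin n, ∃ F : GA G, BId M B F ∧ φ (im hB F) = Pi.single j (Matrix.single 0 0 1) := by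
    intro j
    obtain ⟨e, he, he2⟩ := exists_isIdempotentElem_eq_of_ker_isNilpotent φ.toRingHom (fun x hx => hn x (RingHom.mem_ker.mp hx))
      (Pi.single j (Matrix.single 0 0 1) : ∀ i, Matrix (Fin (d i)) (Fin (d i)) (Kf M)) (hs _) (pi_single_idem j)
    obtain ⟨F, hF, hF2⟩ := exists_lift hB e he
    exact ⟨F, hF, by rw [hF2]; exact he2⟩
  choose F hF hg using h1
  exact ⟨⟨n, d, hd, φ, hs, hn, F, hF, hg⟩⟩

variable {hB : IsPBlock M B}

/-- the rank of a local idempotent -/
noncomputable def PD.r (P : PD hB) (E : GA G) (j : Fin P.n) : ℕ := by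
  haveI := P.hd
  exact rk P.φ (im hB E) j

theorem PD.r_eB (P : PD hB) (j : Fin P.n) : P.r (eB B) j = P.d j := by
  haveI := P.hd
  rw [PD.r, im_eB, rk_one]

theorem PD.rank (P : PD hB) {E E' : GA G} (hE : BId M B E) (hE' : BId M B E') :
    (∑ χ : IrrCharacter G, lin (χ : G → ℂ) E' * lin (χ : G → ℂ) E) =
      ∑ j, (P.r E j : ℂ) * ∑ χ : IrrCharacter G, lin (χ : G → ℂ) E' * lin (χ : G → ℂ) (P.F j) := by
  haveI := P.hd
  rw [← pairing hB hE' hE]
  have h1 := rank_formula P.hs P.hn (g := fun l => im hB (P.F l)) (fun l => im_idem hB (P.hF l)) P.hg (im hB E') _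
    (im hB E) (im_idem hB hE) le_rfl
  rw [h1]
  push_cast
  refine Finset.sum_congr rfl fun j _ => ?_
  rw [pairing hB hE' (P.hF j)]
  rfl

/-- **The character of a local idempotent is a combination of the projective indecomposable ones.** -/
theorem PD.lin_eq (P : PD hB) {E : GA G} (hE : BId M B E) (χ : IrrCharacter G) :
    lin (χ : G → ℂ) E = ∑ j, (P.r E j : ℂ) * lin (χ : G → ℂ) (P.F j) := by
  classical
  choose m hm using fun χ : IrrCharacter G => lin_nat hE.idem χ
  choose mj hmj using fun (j : Fin P.n) (χ : IrrCharacter G) => lin_nat (P.hF j).idem χ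
  obtain ⟨w, hw⟩ : ∃ w : IrrCharacter G → ℤ, w = fun χ => (m χ : ℤ) - ∑ j, (P.r E j : ℤ) * (mj j χ : ℤ) := ⟨_, rfl⟩
  have hwc : ∀ χ : IrrCharacter G, (w χ : ℂ) = lin (χ : G → ℂ) E - ∑ j, (P.r E j : ℂ) * lin (χ : G → ℂ) (P.F j) := by
    intro χ
    rw [hw, hm]
    push_cast
    congr 1
    refine Finset.sum_congr rfl fun j _ => ?_
    rw [hmj]
  have hor : ∀ E' : GA G, BId M B E' → ∑ χ : IrrCharacter G, lin (χ : G → ℂ) E' * (w χ : ℂ) = 0 := by
    intro E' hE'
    have h1 := P.rank hE hE'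
    have h2 : ∑ χ : IrrCharacter G, lin (χ : G → ℂ) E' * (w χ : ℂ) =
        ∑ χ : IrrCharacter G, lin (χ : G → ℂ) E' * lin (χ : G → ℂ) E -
        ∑ j, (P.r E j : ℂ) * ∑ χ : IrrCharacter G, lin (χ : G → ℂ) E' * lin (χ : G → ℂ) (P.F j) := by
      have h3 : ∀ j, (P.r E j : ℂ) * ∑ χ : IrrCharacter G, lin (χ : G → ℂ) E' * lin (χ : G → ℂ) (P.F j) =
          ∑ χ : IrrCharacter G, (P.r E j : ℂ) * (lin (χ : G → ℂ) E' * lin (χ : G → ℂ) (P.F j)) :=
        fun j => Finset.mul_sum _ _ _
      rw [Finset.sum_congr rfl fun j _ => h3 j, Finset.sum_comm, ← Finset.sum_sub_distrib]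
      refine Finset.sum_congr rfl fun χ _ => ?_
      rw [hwc, mul_sub, Finset.mul_sum]
      congr 1
      refine Finset.sum_congr rfl fun j _ => ?_
      ring
    rw [h2, h1, sub_self]
  have hsq : ∑ χ : IrrCharacter G, (w χ : ℂ) * (w χ : ℂ) = 0 := by
    have h4 : ∀ χ : IrrCharacter G, (w χ : ℂ) * (w χ : ℂ) = lin (χ : G → ℂ) E * (w χ : ℂ) -
        ∑ j, (P.r E j : ℂ) * (lin (χ : G → ℂ) (P.F j) * (w χ : ℂ)) := by
      intro χ
      have h5 : ∑ j, (P.r E j : ℂ) * (lin (χ : G → ℂ) (P.F j) * (w χ : ℂ)) =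
          (∑ j, (P.r E j : ℂ) * lin (χ : G → ℂ) (P.F j)) * (w χ : ℂ) := by
        rw [Finset.sum_mul]
        exact Finset.sum_congr rfl fun j _ => by ring
      rw [h5, ← sub_mul, ← hwc]
    rw [Finset.sum_congr rfl fun χ _ => h4 χ, Finset.sum_sub_distrib, hor E hE, Finset.sum_comm, zero_sub, neg_eq_zero]
    apply Finset.sum_eq_zero
    intro j _
    rw [← Finset.mul_sum, hor _ (P.hF j), mul_zero]
  have hsqz : ∑ χ : IrrCharacter G, w χ * w χ = 0 := by exact_mod_cast hsq
  have h6 := (Finset.sum_eq_zero_iff_of_nonneg (fun χ _ => mul_self_nonneg (w χ))).1 hsqz χ (Finset.mem_univ _)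
  have h7 : w χ = 0 := mul_self_eq_zero.1 h6
  have h8 := hwc χ
  rw [h7, Int.cast_zero] at h8
  exact (sub_eq_zero.1 h8.symm)

/-- degrees -/
theorem PD.deg (P : PD hB) {χ : IrrCharacter G} (hχ : χ ∈ B) :
    (χ : G → ℂ) 1 = ∑ j, (P.d j : ℂ) * lin (χ : G → ℂ) (P.F j) := by
  have h1 := P.lin_eq (BId.eB hB) χ
  have h2 : lin (χ : G → ℂ) (eB B) = (χ : G → ℂ) 1 := by
    have h3 := omega_eB_mem hχ
    rw [omega, div_eq_one_iff_eq χ.2.one_ne_zero] at h3
    exact h3
  rw [h2] at h1
  rw [h1]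
  refine Finset.sum_congr rfl fun j _ => ?_
  rw [P.r_eB]

/-- trace functionals kill the reductions of elements killed by all characters -/
theorem trace_zero (hB : IsPBlock M B) {x : GA G} (hx : LocA M x) (h : ∀ χ : IrrCharacter G, lin (χ : G → ℂ) x = 0)
    {f : Cor (Kf M) (bI hB) →ₗ[Kf M] Kf M} (hf : f ∈ Tr (Kf M) (Cor (Kf M) (bI hB))) : f (im hB x) = 0 := by
  classical
  haveI := Fintype.ofFinite G
  haveI := hMm.isPrime
  obtain ⟨ps, hps⟩ : ∃ ps, ps = psi (bI hB) ⟨f, hf⟩ := ⟨_, rfl⟩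
  have hpsi : ps ∈ ZW (Kf M) (bI hB).e := by rw [hps]; exact psi_mem (bI_central hB) _
  have h1 : c1 (Kf M) G (redA M x * ps) = f (prj (redA M x)) := by rw [hps]; exact c1_mul_psi ⟨f, hf⟩ _
  rw [im, ← h1]
  have hz : lftA ps ∈ Subalgebra.center ℂ (GA G) := lftA_center (fun g h => central_iff.mp hpsi.1 g h)
  have h2 : ps = redA M (lftA ps) := (redA_lftA ps).symm
  rw [h2, ← redA_mul hx (locA_lftA ps), c1_apply, redA_coeff]
  have h3 : (x * lftA ps).coeff 1 = 0 := by
    have h4 : (x * lftA ps).coeff 1 = lin (fun g => (lftA ps).coeff g⁻¹) x := by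
      rw [coeff_mul_fintype, lin_apply]
      refine Finset.sum_congr rfl fun g _ => ?_
      rw [mul_one]
    have hcl : IsClassFunction G (fun g => (lftA ps).coeff g⁻¹) := by
      intro g h
      show (lftA ps).coeff _ = _
      have h5 := mem_center_iff.mp hz g⁻¹ h
      rw [← h5]
      congr 1
      group
    rw [h4, hcl.expansion, lin_sum_left]
    apply Finset.sum_eq_zero
    intro χ _
    rw [lin_smul_left, h χ, mul_zero]
  rw [h3]
  exact red_zero

theorem red_int (n : ℤ) : red M (n : ℂ) = (n : Kf M) := by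
  have h1 : ((n : AlgInt) : ℂ) = (n : ℂ) := by simp
  rw [← h1, red_coe, map_intCast]

theorem PD.tau_im [IsAlgClosed (Kf M)] (P : PD hB) (i j : Fin P.n) :
    tau (n := P.n) (d := P.d) P.φ i (im hB (P.F j)) = if i = j then 1 else 0 := by
  haveI := P.hd
  show (P.φ (im hB (P.F j)) i).trace = _
  rw [P.hg]
  split_ifs with h
  · subst h
    rw [Pi.single_eq_same, Matrix.trace_single_eq_same]
  · rw [Pi.single_eq_of_ne h, Matrix.trace_zero]

/-- **The projective indecomposable characters are linearly independent.** -/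
theorem PD.indep {p : ℕ} (hM : IsPModular p M) (P : PD hB) : ∀ (N : ℕ) (y : Fin P.n → ℤ), ∑ j, (y j).natAbs ≤ N →
    (∀ χ : IrrCharacter G, ∑ j, (y j : ℂ) * lin (χ : G → ℂ) (P.F j) = 0) → y = 0 := by
  classical
  haveI := hMm.isPrime
  haveI := charP_Kf hM
  haveI : IsAlgClosed (Kf M) := isAlgClosed_Kf
  have hp := hM.1
  intro N
  induction N with
  | zero =>
    intro y hy _
    funext j
    have h1 : ∑ j, (y j).natAbs = 0 := Nat.le_zero.1 hy
    have h2 := Finset.sum_eq_zero_iff.1 h1 j (Finset.mem_univ _)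
    exact Int.natAbs_eq_zero.1 h2
  | succ N ih =>
    intro y hy hyz
    have hdiv : ∀ i, (p : ℤ) ∣ y i := by
      intro i
      have hx : LocA M (∑ j, (y j : ℂ) • P.F j) :=
        locA_sum fun j _ => locA_smul (loc_intCast _) (P.hF j).loc
      have h1 := trace_zero hB hx (fun χ => by
        rw [lin_sum]
        rw [← hyz χ]
        exact Finset.sum_congr rfl fun j _ => lin_smul _ _ _) (tau_mem P.φ i)
      rw [im, redA_sum (fun j _ => locA_smul (loc_intCast _) (P.hF j).loc), map_sum, map_sum] at h1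
      have h2 : ∀ j, tau P.φ i (prj (redA M ((y j : ℂ) • P.F j))) = if i = j then ((y j : ℤ) : Kf M) else 0 := by
        intro j
        rw [redA_smul (loc_intCast _) (P.hF j).loc, map_smul, map_smul]
        have h3 := P.tau_im i j
        rw [im] at h3
        rw [h3, red_int]
        split_ifs <;> simp
      rw [Finset.sum_congr rfl fun j _ => h2 j, Finset.sum_ite_eq, if_pos (Finset.mem_univ _)] at h1
      exact (CharP.intCast_eq_zero_iff (Kf M) p (y i)).1 h1
    choose z hz using hdiv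
    by_cases h0 : y = 0
    · exact h0
    · have h4 : z = 0 := by
        apply ih z
        · have h5 : ∑ j, (y j).natAbs = p * ∑ j, (z j).natAbs := by
            rw [Finset.mul_sum]
            refine Finset.sum_congr rfl fun j _ => ?_
            rw [hz j, Int.natAbs_mul, Int.natAbs_natCast]
          have h6 : 0 < ∑ j, (y j).natAbs := by
            rw [Nat.pos_iff_ne_zero]
            intro h7
            apply h0
            funext j
            exact Int.natAbs_eq_zero.1 (Finset.sum_eq_zero_iff.1 h7 j (Finset.mem_univ _))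
          have h8 := hp.two_le
          have h9 : 0 < ∑ j, (z j).natAbs := by
            rw [Nat.pos_iff_ne_zero]
            intro h10
            rw [h5, h10, mul_zero] at h6
            exact lt_irrefl _ h6
          have h11 : 2 * ∑ j, (z j).natAbs ≤ p * ∑ j, (z j).natAbs := Nat.mul_le_mul_right _ h8
          omega
        · intro χ
          have h12 := hyz χ
          have h13 : ∑ j, (y j : ℂ) * lin (χ : G → ℂ) (P.F j) = (p : ℂ) * ∑ j, (z j : ℂ) * lin (χ : G → ℂ) (P.F j) := by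
            rw [Finset.mul_sum]
            refine Finset.sum_congr rfl fun j _ => ?_
            rw [hz j]
            push_cast
            ring
          rw [h13] at h12
          exact (mul_eq_zero.1 h12).resolve_left (Nat.cast_ne_zero.2 hp.ne_zero)
      funext j
      rw [hz j, h4]
      simp

end Cfsg.Agent.Lib.AbPim
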