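import Cfsg.Agent.Lib.BlockRes
import Cfsg.Agent.Lib.BlockIdem
import Cfsg.Agent.Lib.BlockCover
import Cfsg.Agent.Lib.CharApps

/-!
# The Glauberman correspondence for a `p`-group of operators
-/

set_option autoImplicit false
set_option linter.all false

namespace Cfsg.Agent.Lib.GlaubCorr

open Cfsg Cfsg.Agent.Lib.BlockRing Cfsg.Agent.Lib.BlockGA Cfsg.Agent.Lib.BlockIdem
open Cfsg.Agent.Lib.CharBasic
open scoped ComplexConjugate

universe u w

variable {G : Type u} [Group G] {S : Type w} [Group S]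

/-- twist an irreducible character by an automorphism -/
def tw (σ : MulAut G) (χ : IrrCharacter G) : IrrCharacter G :=
  ⟨fun g => (χ : G → ℂ) (σ g), χ.2.comp_surjective σ.toMonoidHom σ.surjective⟩

theorem tw_apply (σ : MulAut G) (χ : IrrCharacter G) (g : G) : (tw σ χ : G → ℂ) g = (χ : G → ℂ) (σ g) := rfl

/-- invariance under the action -/
def Inv (act : S →* MulAut G) (f : G → ℂ) : Prop := ∀ (s : S) (g : G), f (act s g) = f g

/-- the induced action on irreducible characters -/
@[reducible] def irrAct (act : S →* MulAut G) : MulAction S (IrrCharacter G) where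
  smul s χ := tw (act s⁻¹) χ
  one_smul χ := by
    apply Subtype.ext
    funext g
    show (χ : G → ℂ) (act 1⁻¹ g) = _
    rw [inv_one, map_one]; rfl
  mul_smul s t χ := by
    apply Subtype.ext
    funext g
    show (χ : G → ℂ) (act (s * t)⁻¹ g) = (χ : G → ℂ) (act t⁻¹ (act s⁻¹ g))
    rw [mul_inv_rev, map_mul]; rfl

theorem fixed_iff (act : S →* MulAut G) (χ : IrrCharacter G) :
    (∀ s : S, tw (act s⁻¹) χ = χ) ↔ Inv act (χ : G → ℂ) := by
  constructor
  · intro h s g
    have := congrArg (fun f : IrrCharacter G => (f : G → ℂ) g) (h s⁻¹)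
    simp only [tw_apply, inv_inv] at this
    exact this
  · intro h s
    apply Subtype.ext
    funext g
    exact h s⁻¹ g

section pull

variable [Finite G] {C : Type u} [Group C] [Finite C] {p : ℕ} {M : Ideal AlgInt}

/-- pull back coefficients along `ι`. -/
noncomputable def pull (ι : C →* G) (z : GA G) : GA C := ofFun (fun c => z.coeff (ι c))

@[simp] theorem coeff_pull (ι : C →* G) (z : GA G) (c : C) : (pull ι z).coeff c = z.coeff (ι c) := rfl

theorem pull_center (ι : C →* G) {z : GA G} (hz : z ∈ Subalgebra.center ℂ (GA G)) :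
    pull ι z ∈ Subalgebra.center ℂ (GA C) := by
  apply ofFun_mem_center
  intro g h
  have := mem_center_iff.1 hz (ι g) (ι h)
  simp only [map_mul, map_inv]
  exact this

theorem locA_pull (ι : C →* G) {z : GA G} (hz : LocA M z) : LocA M (pull ι z) := fun c => hz _

theorem pull_one (ι : C →* G) (hι : Function.Injective ι) : pull ι (1 : GA G) = 1 := by
  classical
  ext c
  rw [coeff_pull, MonoidAlgebra.one_def, MonoidAlgebra.one_def, MonoidAlgebra.coeff_single_apply,
    MonoidAlgebra.coeff_single_apply]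
  have : (1 = ι c) ↔ (1 = c) := by
    rw [← map_one ι, hι.eq_iff]
  simp only [this]

theorem pull_sum (ι : C →* G) {κ : Type*} (s : Finset κ) (f : κ → GA G) :
    pull ι (∑ i ∈ s, f i) = ∑ i ∈ s, pull ι (f i) := by
  ext c
  rw [coeff_pull, coeff_finset_sum, coeff_finset_sum]
  rfl

theorem pull_smul (ι : C →* G) (a : ℂ) (z : GA G) : pull ι (a • z) = a • pull ι z := by
  ext c
  rw [coeff_pull]
  simp

variable [Finite S]

/-- The data of the correspondence. -/
structure Data (p : ℕ) (M : Ideal AlgInt) (act : S →* MulAut G) (ι : C →* G) : Prop where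
  hM : IsPModular p M
  hS : IsPGroup p S
  hpG : ¬ p ∣ Nat.card G
  hι : Function.Injective ι
  hfix : ∀ g : G, (∃ c, ι c = g) ↔ ∀ s, act s g = g

variable {act : S →* MulAut G} {ι : C →* G}

theorem Data.isPrime (D : Data p M act ι) : M.IsPrime := BlockRing.isPrime D.hM

theorem Data.act_ι (D : Data p M act ι) (s : S) (c : C) : act s (ι c) = ι c :=
  (D.hfix (ι c)).1 ⟨c, rfl⟩ s

theorem idl_sum_sub [Fintype G] [Fintype C] (D : Data p M act ι) (f : G → ℂ) (hf : Inv act f)
    (hl : ∀ g, MemLocalRing M (f g)) : MemLocalIdeal M (∑ g, f g - ∑ c, f (ι c)) := by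
  classical
  letI : MulAction S G := MulAction.compHom G act
  have hsm : ∀ (s : S) (g : G), s • g = act s g := fun _ _ => rfl
  have h1 := BlockRes.idl_sum_sub_fixed (X := G) D.hM D.hS f (fun s g => by rw [hsm]; exact hf s g) hl
  have h2 : ∑ c, f (ι c) = ∑ x ∈ Finset.univ.filter (· ∈ MulAction.fixedPoints S G), f x := by
    refine Finset.sum_nbij (fun c => ι c) ?_ ?_ ?_ ?_
    · intro c _
      rw [Finset.mem_filter]
      exact ⟨Finset.mem_univ _, fun s => D.act_ι s c⟩
    · intro a _ b _ h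
      exact D.hι h
    · intro x hx
      rw [Finset.mem_coe, Finset.mem_filter] at hx
      obtain ⟨c, hc⟩ := (D.hfix x).2 hx.2
      exact ⟨c, Finset.mem_coe.2 (Finset.mem_univ _), hc⟩
    · intro c _; rfl
  rw [h2]
  exact h1

theorem card_sub (D : Data p M act ι) : MemLocalIdeal M ((Nat.card G : ℂ) - (Nat.card C : ℂ)) := by
  haveI := D.isPrime
  have := Fintype.ofFinite G
  have := Fintype.ofFinite C
  have h := idl_sum_sub D (fun _ => 1) (fun _ _ => rfl) (fun _ => loc_one)
  simpa using h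

theorem not_dvd_card_C (D : Data p M act ι) : ¬ p ∣ Nat.card C := by
  haveI := D.isPrime
  intro h
  apply D.hpG
  rw [← idl_natCast_iff D.hM] at h ⊢
  exact (idl_congr (card_sub D)).2 h

/-- the coefficients of `z` are fixed by the action -/
def Fx (act : S →* MulAut G) (z : GA G) : Prop := ∀ (s : S) (g : G), z.coeff (act s g) = z.coeff g

theorem fx_mul {z w : GA G} (hz : Fx act z) (hw : Fx act w) : Fx act (z * w) := by
  have := Fintype.ofFinite G
  intro s g
  rw [coeff_mul_fintype, coeff_mul_fintype, ← Equiv.sum_comp (act s).toEquiv]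
  refine Finset.sum_congr rfl fun h _ => ?_
  show z.coeff (act s h) * w.coeff ((act s h)⁻¹ * act s g) = _
  rw [← map_inv, ← map_mul, hz, hw]

theorem pull_mul (D : Data p M act ι) {z w : GA G} (hz : Fx act z) (hw : Fx act w)
    (hlz : LocA M z) (hlw : LocA M w) : IdlA M (pull ι (z * w) - pull ι z * pull ι w) := by
  haveI := D.isPrime
  have := Fintype.ofFinite G
  have := Fintype.ofFinite C
  intro c
  rw [MonoidAlgebra.coeff_sub, Finsupp.sub_apply, coeff_pull, coeff_mul_fintype, coeff_mul_fintype]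
  have h1 := idl_sum_sub D (fun h => z.coeff h * w.coeff (h⁻¹ * ι c)) (fun s h => ?_)
    (fun h => loc_mul (hlz _) (hlw _))
  · convert h1 using 3 with d
    rw [coeff_pull, coeff_pull, map_mul, map_inv]
  · simp only
    rw [hz s h]
    congr 1
    have : (act s h)⁻¹ * ι c = act s (h⁻¹ * ι c) := by
      rw [map_mul, map_inv, D.act_ι]
    rw [this, hw]

theorem omega_pull_mul (D : Data p M act ι) (β : IrrCharacter C) {z w : GA G} (hz : Fx act z)
    (hw : Fx act w) (hlz : LocA M z) (hlw : LocA M w) (hcz : z ∈ Subalgebra.center ℂ (GA G))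
    (hcw : w ∈ Subalgebra.center ℂ (GA G)) :
    MemLocalIdeal M (omega (β : C → ℂ) (pull ι (z * w)) -
      omega (β : C → ℂ) (pull ι z) * omega (β : C → ℂ) (pull ι w)) := by
  haveI := D.isPrime
  have h1 := idl_omega β.2 (Subalgebra.sub_mem _ (pull_center ι (Subalgebra.mul_mem _ hcz hcw))
    (Subalgebra.mul_mem _ (pull_center ι hcz) (pull_center ι hcw))) (pull_mul D hz hw hlz hlw)
  rw [omega_sub, omega_mul β.2 (pull_center ι hcz)] at h1
  exact h1

/-! ### coefficients -/

theorem mult_exists (ι : C →* G) [Fintype C] (χ : IrrCharacter G) (β : IrrCharacter C) :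
    ∃ m : ℕ, classInner (fun c => (χ : G → ℂ) (ι c)) (β : C → ℂ) = (m : ℂ) :=
  (χ.2.isCharacter.comp ι).classInner_nat β.2.isCharacter

/-- multiplicity of `β` in the restriction of `χ`. -/
noncomputable def mult (ι : C →* G) [Fintype C] (χ : IrrCharacter G) (β : IrrCharacter C) : ℕ :=
  (mult_exists ι χ β).choose

theorem mult_spec (ι : C →* G) [Fintype C] (χ : IrrCharacter G) (β : IrrCharacter C) :
    classInner (fun c => (χ : G → ℂ) (ι c)) (β : C → ℂ) = (mult ι χ β : ℂ) :=
  (mult_exists ι χ β).choose_spec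

theorem mult_eq {ι : C →* G} [Fintype C] {χ : IrrCharacter G} {β : IrrCharacter C} {m : ℕ}
    (h : classInner (fun c => (χ : G → ℂ) (ι c)) (β : C → ℂ) = (m : ℂ)) : mult ι χ β = m := by
  rw [mult_spec] at h
  exact_mod_cast h

theorem omega_pull_eB (ι : C →* G) [Fintype C] (χ : IrrCharacter G) (β : IrrCharacter C) :
    omega (β : C → ℂ) (pull ι (eB {χ})) =
      (Nat.card G : ℂ)⁻¹ * (χ : G → ℂ) 1 * (Nat.card C : ℂ) * (mult ι χ β : ℂ) / (β : C → ℂ) 1 := by
  classical
  have hC : (Nat.card C : ℂ) ≠ 0 := by exact_mod_cast Nat.card_pos.ne'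
  rw [omega]
  congr 1
  rw [lin_apply]
  have h1 : classInner (β : C → ℂ) (fun c => (χ : G → ℂ) (ι c)) = (mult ι χ β : ℂ) := by
    rw [← conj_classInner, mult_spec, Complex.conj_natCast]
  have h2 : (Nat.card C : ℂ) * (mult ι χ β : ℂ) = ∑ c : C, (β : C → ℂ) c * conj ((χ : G → ℂ) (ι c)) := by
    rw [← h1, classInner, mul_inv_cancel_left₀ hC]
  rw [mul_assoc _ (Nat.card C : ℂ), h2, Finset.mul_sum]
  refine Finset.sum_congr rfl fun c _ => ?_
  rw [coeff_pull, coeff_eB, BlockCover.blockCoeff_eq_sum', Finset.sum_eq_single χ]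
  · simp only [Set.mem_singleton_iff, if_true]; ring
  · intro ψ _ hψ
    rw [if_neg]; simpa using hψ
  · intro h; exact absurd (Finset.mem_univ _) h

theorem coeff_eB_singleton (χ : IrrCharacter G) (g : G) :
    (eB {χ} : GA G).coeff g = (Nat.card G : ℂ)⁻¹ * ((χ : G → ℂ) 1 * conj ((χ : G → ℂ) g)) := by
  classical
  rw [coeff_eB, BlockCover.blockCoeff_eq_sum', Finset.sum_eq_single χ]
  · simp
  · intro ψ _ hψ
    rw [if_neg]; simpa using hψ
  · intro h; exact absurd (Finset.mem_univ _) h

theorem locA_eB_singleton (hM : IsPModular p M) (hpG : ¬ p ∣ Nat.card G) (χ : IrrCharacter G) :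
    LocA M (eB {χ} : GA G) := by
  haveI := BlockRing.isPrime hM
  intro g
  rw [coeff_eB_singleton]
  refine loc_mul (loc_inv_natCast hM hpG) (loc_mul (loc_irr χ _) ?_)
  rw [← χ.2.inv]
  exact loc_irr χ _

theorem fx_eB {χ : IrrCharacter G} (hχ : Inv act (χ : G → ℂ)) : Fx act (eB {χ}) := by
  intro s g
  rw [coeff_eB_singleton, coeff_eB_singleton, hχ]

theorem fx_one : Fx act (1 : GA G) := by
  classical
  intro s g
  rw [MonoidAlgebra.one_def, MonoidAlgebra.coeff_single_apply, MonoidAlgebra.coeff_single_apply]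
  have : (1 = act s g) ↔ (1 = g) := by
    constructor
    · intro h
      have h2 : act s 1 = act s g := by rw [map_one]; exact h
      exact (act s).injective h2
    · rintro rfl; rw [map_one]
  simp only [this]

theorem mult_tw (D : Data p M act ι) [Fintype C] (χ : IrrCharacter G) (β : IrrCharacter C) (s : S) :
    mult ι (tw (act s) χ) β = mult ι χ β := by
  apply mult_eq
  rw [← mult_spec ι χ β]
  congr 1
  funext c
  rw [tw_apply, D.act_ι]

theorem expand (z : GA G) (hz : z ∈ Subalgebra.center ℂ (GA G)) :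
    z = ∑ χ : IrrCharacter G, omega (χ : G → ℂ) z • eB {χ} := by
  classical
  apply center_ext hz (Subalgebra.sum_mem _ fun χ _ => Subalgebra.smul_mem _ (eB_mem_center _) _)
  intro ψ
  rw [omega_sum, Finset.sum_eq_single ψ]
  · rw [omega_smul, omega_eB_mem (Set.mem_singleton _), mul_one]
  · intro χ _ hne
    rw [omega_smul, omega_eB_not_mem (by simpa using hne.symm), mul_zero]
  · intro h; exact absurd (Finset.mem_univ _) h

theorem omega_tw {z : GA G} (hz : Fx act z) (χ : IrrCharacter G) (s : S) :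
    omega (tw (act s) χ : G → ℂ) z = omega (χ : G → ℂ) z := by
  have := Fintype.ofFinite G
  have h1 : (tw (act s) χ : G → ℂ) 1 = (χ : G → ℂ) 1 := by rw [tw_apply, map_one]
  rw [omega, omega, h1]
  congr 1
  rw [lin_apply, lin_apply, ← Equiv.sum_comp (act s).toEquiv (fun g => z.coeff g * (χ : G → ℂ) g)]
  refine Finset.sum_congr rfl fun g _ => ?_
  show z.coeff g * _ = z.coeff (act s g) * _
  rw [hz s g]; rfl

open scoped Classical in
/-- The key expansion: only invariant characters matter. -/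
theorem idl_omega_pull (D : Data p M act ι) [Fintype C] (β : IrrCharacter C) {z : GA G}
    (hz : Fx act z) (hlz : LocA M z) (hcz : z ∈ Subalgebra.center ℂ (GA G)) :
    MemLocalIdeal M (omega (β : C → ℂ) (pull ι z) -
      ∑ χ ∈ Finset.univ.filter (fun χ : IrrCharacter G => Inv act (χ : G → ℂ)),
        omega (χ : G → ℂ) z * omega (β : C → ℂ) (pull ι (eB {χ}))) := by
  haveI := D.isPrime
  letI := irrAct act
  have h1 := BlockRes.idl_sum_sub_fixed (X := IrrCharacter G) (P := S) D.hM D.hS
    (fun χ => omega (χ : G → ℂ) z * omega (β : C → ℂ) (pull ι (eB {χ})))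
    (fun s χ => by
      show omega (tw (act s⁻¹) χ : G → ℂ) z * omega (β : C → ℂ) (pull ι (eB {tw (act s⁻¹) χ})) = _
      rw [omega_tw hz, omega_pull_eB, omega_pull_eB, mult_tw D, tw_apply, map_one])
    (fun χ => loc_mul (loc_omega χ.2 hcz hlz) (loc_omega β.2 (pull_center ι (eB_mem_center _))
      (locA_pull ι (locA_eB_singleton D.hM D.hpG χ))))
  have h2 : omega (β : C → ℂ) (pull ι z) = ∑ χ : IrrCharacter G,
      omega (χ : G → ℂ) z * omega (β : C → ℂ) (pull ι (eB {χ})) := by
    conv_lhs => rw [expand z hcz]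
    rw [pull_sum, omega_sum]
    exact Finset.sum_congr rfl fun χ _ => by rw [pull_smul, omega_smul]
  rw [h2]
  convert h1 using 3
  ext χ
  rw [Finset.mem_filter, Finset.mem_filter]
  refine and_congr_right fun _ => ?_
  rw [← fixed_iff]
  rfl

/-! ### the correspondence -/

theorem loc_a (D : Data p M act ι) (χ : IrrCharacter G) (β : IrrCharacter C) :
    MemLocalRing M (omega (β : C → ℂ) (pull ι (eB {χ}))) := by
  haveI := D.isPrime
  exact loc_omega β.2 (pull_center ι (eB_mem_center _))
    (locA_pull ι (locA_eB_singleton D.hM D.hpG χ))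

theorem charDegree_eq (χ : IrrCharacter G) : ∃ n : ℕ, (χ : G → ℂ) 1 = (n : ℂ) ∧ n ∣ Nat.card G := by
  obtain ⟨n, hn0, hn⟩ := χ.2.exists_degree
  exact ⟨n, hn, CharApps.irr_degree_dvd_card χ.2 hn⟩

theorem idl_a_iff (D : Data p M act ι) [Fintype C] (χ : IrrCharacter G) (β : IrrCharacter C) :
    MemLocalIdeal M (omega (β : C → ℂ) (pull ι (eB {χ}))) ↔ p ∣ mult ι χ β := by
  haveI := D.isPrime
  obtain ⟨n, hn, hnd⟩ := charDegree_eq χ
  obtain ⟨m, hm, hmd⟩ := charDegree_eq β
  have hpn : ¬ p ∣ n := fun h => D.hpG (h.trans hnd)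
  have hpm : ¬ p ∣ m := fun h => not_dvd_card_C D (h.trans hmd)
  have hm0 : (m : ℂ) ≠ 0 := by rw [← hm]; exact β.2.one_ne_zero
  have hG0 : (Nat.card G : ℂ) ≠ 0 := by exact_mod_cast Nat.card_pos.ne'
  rw [omega_pull_eB, hn, hm, ← idl_natCast_iff D.hM]
  constructor
  · intro h
    have h1 : MemLocalIdeal M ((Nat.card G : ℂ) * (m : ℂ) *
        ((Nat.card G : ℂ)⁻¹ * (n : ℂ) * (Nat.card C : ℂ) * (mult ι χ β : ℂ) / (m : ℂ))) :=
      idl_mul_left (loc_mul (loc_natCast _) (loc_natCast _)) h
    have h2 : (Nat.card G : ℂ) * (m : ℂ) *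
        ((Nat.card G : ℂ)⁻¹ * (n : ℂ) * (Nat.card C : ℂ) * (mult ι χ β : ℂ) / (m : ℂ)) =
        ((n : ℂ) * (Nat.card C : ℂ)) * (mult ι χ β : ℂ) := by
      field_simp
    rw [h2] at h1
    refine idl_of_mul_left (loc_mul (loc_natCast _) (loc_natCast _)) ?_ h1
    rw [← Nat.cast_mul, idl_natCast_iff D.hM, D.hM.1.dvd_mul]
    exact fun h => h.elim hpn (not_dvd_card_C D)
  · intro h
    have h2 : (Nat.card G : ℂ)⁻¹ * (n : ℂ) * (Nat.card C : ℂ) * (mult ι χ β : ℂ) / (m : ℂ) =
        ((Nat.card G : ℂ)⁻¹ * (m : ℂ)⁻¹ * ((n : ℂ) * (Nat.card C : ℂ))) * (mult ι χ β : ℂ) := by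
      field_simp
    rw [h2]
    exact idl_mul_left (loc_mul (loc_mul (loc_inv_natCast D.hM D.hpG) (loc_inv_natCast D.hM hpm))
      (loc_mul (loc_natCast _) (loc_natCast _))) h

theorem a_mul (D : Data p M act ι) [Fintype C] (β : IrrCharacter C) {χ χ' : IrrCharacter G}
    (hχ : Inv act (χ : G → ℂ)) (hχ' : Inv act (χ' : G → ℂ)) :
    MemLocalIdeal M (omega (β : C → ℂ) (pull ι (eB ({χ} ∩ {χ'}))) -
      omega (β : C → ℂ) (pull ι (eB {χ})) * omega (β : C → ℂ) (pull ι (eB {χ'}))) := by
  rw [← eB_mul_eB]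
  exact omega_pull_mul D β (fx_eB hχ) (fx_eB hχ') (locA_eB_singleton D.hM D.hpG χ)
    (locA_eB_singleton D.hM D.hpG χ') (eB_mem_center _) (eB_mem_center _)

theorem a_sub_one (D : Data p M act ι) [Fintype C] {β : IrrCharacter C} {χ : IrrCharacter G}
    (hχ : Inv act (χ : G → ℂ)) (h : ¬ p ∣ mult ι χ β) :
    MemLocalIdeal M (omega (β : C → ℂ) (pull ι (eB {χ})) - 1) := by
  haveI := D.isPrime
  have h1 := a_mul D β hχ hχ
  rw [Set.inter_self] at h1
  rw [← idl_a_iff D] at h
  refine idl_of_mul_left (loc_a D χ β) h ?_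
  have := idl_neg h1
  convert this using 1
  ring

theorem unique_chi (D : Data p M act ι) [Fintype C] {β : IrrCharacter C} {χ χ' : IrrCharacter G}
    (hχ : Inv act (χ : G → ℂ)) (hχ' : Inv act (χ' : G → ℂ)) (h : ¬ p ∣ mult ι χ β)
    (h' : ¬ p ∣ mult ι χ' β) : χ = χ' := by
  haveI := D.isPrime
  by_contra hne
  have h1 := a_mul D β hχ hχ'
  have h2 : ({χ} ∩ {χ'} : Set (IrrCharacter G)) = ∅ := by
    ext x
    simp only [Set.mem_inter_iff, Set.mem_singleton_iff, Set.mem_empty_iff_false, iff_false, not_and]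
    rintro rfl h
    exact hne h
  rw [h2] at h1
  have h3 : omega (β : C → ℂ) (pull ι (eB (∅ : Set (IrrCharacter G)))) = 0 := by
    have : (eB (∅ : Set (IrrCharacter G)) : GA G) = 0 := by
      apply center_ext (eB_mem_center _) (Subalgebra.zero_mem _)
      intro ψ
      rw [omega_eB_not_mem (Set.notMem_empty _), omega_zero]
    rw [this]
    have h4 : pull ι (0 : GA G) = 0 := by ext c; simp
    rw [h4, omega_zero]
  rw [h3, zero_sub, idl_neg_iff] at h1
  rw [← idl_a_iff D] at h h'
  exact not_idl_mul (loc_a D χ β) h h' h1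

theorem exists_chi (D : Data p M act ι) [Fintype C] (β : IrrCharacter C) :
    ∃ χ : IrrCharacter G, Inv act (χ : G → ℂ) ∧ ¬ p ∣ mult ι χ β := by
  classical
  haveI := D.isPrime
  by_contra hno
  push Not at hno
  have h1 := idl_omega_pull D β (fx_one (act := act)) locA_one (Subalgebra.one_mem _)
  rw [pull_one ι D.hι, omega_one β.2.one_ne_zero] at h1
  apply one_not_idl (M := M)
  refine (idl_congr h1).2 (idl_sum fun χ hχ => ?_)
  rw [Finset.mem_filter] at hχ
  refine idl_mul_left (loc_omega χ.2 (Subalgebra.one_mem _) locA_one) ?_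
  rw [idl_a_iff D]
  exact hno χ hχ.2

theorem sum_degree (ι : C →* G) [Fintype C] (χ : IrrCharacter G) :
    (χ : G → ℂ) 1 = ∑ β : IrrCharacter C, (mult ι χ β : ℂ) * (β : C → ℂ) 1 := by
  have h := (χ.2.isCharacter.comp ι).isClassFunction.expansion_apply 1
  simp only [map_one] at h
  rw [h]
  exact Finset.sum_congr rfl fun β _ => by rw [mult_spec]

theorem exists_beta (D : Data p M act ι) [Fintype C] (χ : IrrCharacter G) :
    ∃ β : IrrCharacter C, ¬ p ∣ mult ι χ β := by
  haveI := D.isPrime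
  by_contra hno
  push Not at hno
  obtain ⟨n, hn, hnd⟩ := charDegree_eq χ
  apply D.hpG
  refine dvd_trans ?_ hnd
  rw [← idl_natCast_iff D.hM, ← hn, sum_degree ι χ]
  refine idl_sum fun β _ => idl_mul_right ?_ (loc_irr β 1)
  rw [idl_natCast_iff D.hM]
  exact hno β

/-! ### conjugacy classes (Glauberman's lemma) -/

theorem isConj_of_isConj (D : Data p M act ι) {c d : C} (h : IsConj (ι c) (ι d)) : IsConj c d := by
  classical
  haveI := D.isPrime
  haveI : Fact p.Prime := ⟨D.hM.1⟩
  have := Fintype.ofFinite G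
  have := Fintype.ofFinite C
  by_contra hno
  let f : G → ℂ := fun g => if g * ι c * g⁻¹ = ι d then 1 else 0
  have hf : Inv act f := by
    intro s g
    have : (act s g * ι c * (act s g)⁻¹ = ι d) ↔ (g * ι c * g⁻¹ = ι d) := by
      have h1 : act s g * ι c * (act s g)⁻¹ = act s (g * ι c * g⁻¹) := by
        rw [map_mul, map_mul, map_inv, D.act_ι]
      have h2 : ι d = act s (ι d) := (D.act_ι s d).symm
      rw [h1]
      conv_lhs => rw [h2]
      exact (act s).injective.eq_iff
    simp only [f, this]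
  have h1 := idl_sum_sub D f hf (fun g => by
    simp only [f]; split_ifs
    · exact loc_one
    · exact loc_zero)
  have h2 : ∑ e : C, f (ι e) = 0 := by
    refine Finset.sum_eq_zero fun e _ => ?_
    simp only [f]
    rw [if_neg]
    intro he
    apply hno
    rw [isConj_iff]
    refine ⟨e, D.hι ?_⟩
    rw [map_mul, map_mul, map_inv, he]
  rw [h2, sub_zero] at h1
  obtain ⟨x, hx⟩ := isConj_iff.1 h
  have h3 : ∑ g, f g = ((Nat.card (Subgroup.centralizer ({ι c} : Set G)) : ℕ) : ℂ) := by
    rw [Nat.card_eq_fintype_card, Fintype.card_subtype, Finset.card_filter]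
    push_cast
    rw [← Equiv.sum_comp (Equiv.mulLeft x)]
    refine Finset.sum_congr rfl fun g _ => ?_
    simp only [f, Equiv.coe_mulLeft]
    have : (x * g * ι c * (x * g)⁻¹ = ι d) ↔ g ∈ Subgroup.centralizer ({ι c} : Set G) := by
      rw [Subgroup.mem_centralizer_singleton_iff]
      constructor
      · intro h
        rw [← hx] at h
        have h4 : x * (g * ι c * g⁻¹) * x⁻¹ = x * ι c * x⁻¹ := by
          rw [← h]; group
        have h5 : g * ι c * g⁻¹ = ι c := by
          have := mul_right_cancel h4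
          exact mul_left_cancel this
        exact mul_inv_eq_iff_eq_mul.mp h5
      · intro h
        rw [← hx]
        have h5 : g * ι c * g⁻¹ = ι c := mul_inv_eq_iff_eq_mul.mpr h
        calc x * g * ι c * (x * g)⁻¹ = x * (g * ι c * g⁻¹) * x⁻¹ := by group
          _ = x * ι c * x⁻¹ := by rw [h5]
    simp only [this]
  rw [h3, idl_natCast_iff D.hM] at h1
  exact D.hpG (h1.trans (Subgroup.card_subgroup_dvd_card _))

theorem exists_isConj (D : Data p M act ι) {g : G} (hg : ∀ s, IsConj g (act s g)) :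
    ∃ c : C, IsConj g (ι c) := by
  classical
  haveI := D.isPrime
  haveI : Fact p.Prime := ⟨D.hM.1⟩
  have := Fintype.ofFinite G
  have := Fintype.ofFinite C
  by_contra hno
  push Not at hno
  let f : G → ℂ := fun h => if IsConj g h then 1 else 0
  have hf : Inv act f := by
    intro s h
    have : IsConj g (act s h) ↔ IsConj g h := by
      constructor
      · intro h1
        have h2 := ((act s⁻¹).toMonoidHom.map_isConj h1)
        have h3 : (act s⁻¹).toMonoidHom (act s h) = h := by
          show act s⁻¹ (act s h) = h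
          rw [← MulAut.mul_apply, ← map_mul, inv_mul_cancel, map_one]; rfl
        rw [h3] at h2
        exact (hg s⁻¹).trans h2
      · intro h1
        exact (hg s).trans ((act s).toMonoidHom.map_isConj h1)
    simp only [f, this]
  have h1 := idl_sum_sub D f hf (fun g => by
    simp only [f]; split_ifs
    · exact loc_one
    · exact loc_zero)
  have h2 : ∑ e : C, f (ι e) = 0 := by
    refine Finset.sum_eq_zero fun e _ => ?_
    simp only [f]
    rw [if_neg (hno e)]
  rw [h2, sub_zero] at h1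
  have h3 : ∑ h, f h = (((Subgroup.centralizer ({g} : Set G)).index : ℕ) : ℂ) := by
    have h4 := ClassSum.card_class g
    rw [← h4, Finset.card_filter]
    push_cast
    rfl
  rw [h3, idl_natCast_iff D.hM] at h1
  exact D.hpG (h1.trans (Subgroup.index_dvd_card _))

theorem fx_classSum (D : Data p M act ι) (c : C) : Fx act (classSum (ι c)) := by
  classical
  intro s g
  rw [coeff_classSum, coeff_classSum]
  have : IsConj (ι c) (act s g) ↔ IsConj (ι c) g := by
    constructor
    · intro h1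
      have h2 := ((act s⁻¹).toMonoidHom.map_isConj h1)
      have h3 : (act s⁻¹).toMonoidHom (act s g) = g := by
        show act s⁻¹ (act s g) = g
        rw [← MulAut.mul_apply, ← map_mul, inv_mul_cancel, map_one]; rfl
      have h4 : (act s⁻¹).toMonoidHom (ι c) = ι c := D.act_ι _ _
      rw [h3, h4] at h2
      exact h2
    · intro h1
      have h2 := ((act s).toMonoidHom.map_isConj h1)
      have h4 : (act s).toMonoidHom (ι c) = ι c := D.act_ι _ _
      rw [h4] at h2
      exact h2
  simp only [this]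

theorem pull_classSum (D : Data p M act ι) (c : C) : pull ι (classSum (ι c)) = classSum c := by
  classical
  ext d
  rw [coeff_pull, coeff_classSum, coeff_classSum]
  have : IsConj (ι c) (ι d) ↔ IsConj c d := ⟨isConj_of_isConj D, fun h => ι.map_isConj h⟩
  simp only [this]

theorem idl_omega_sub (D : Data p M act ι) [Fintype C] {β : IrrCharacter C} {χ : IrrCharacter G}
    (hχ : Inv act (χ : G → ℂ)) (h : ¬ p ∣ mult ι χ β) {z : GA G}
    (hz : Fx act z) (hlz : LocA M z) (hcz : z ∈ Subalgebra.center ℂ (GA G)) :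
    MemLocalIdeal M (omega (β : C → ℂ) (pull ι z) - omega (χ : G → ℂ) z) := by
  classical
  haveI := D.isPrime
  have h1 := idl_omega_pull D β hz hlz hcz
  refine idl_sub_trans h1 ?_
  rw [← Finset.add_sum_erase _ _ (Finset.mem_filter.2 ⟨Finset.mem_univ χ, hχ⟩), add_sub_right_comm]
  refine idl_add ?_ (idl_sum fun χ' hχ' => ?_)
  · have := idl_mul_left (loc_omega χ.2 hcz hlz) (a_sub_one D hχ h)
    convert this using 1
    ring
  · rw [Finset.mem_erase, Finset.mem_filter] at hχ'
    refine idl_mul_left (loc_omega χ'.2 hcz hlz) ?_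
    rw [idl_a_iff D]
    by_contra h'
    exact hχ'.1 (unique_chi D hχ'.2.2 hχ h' h)

theorem unique_beta (D : Data p M act ι) [Fintype C] {β β' : IrrCharacter C} {χ : IrrCharacter G}
    (hχ : Inv act (χ : G → ℂ)) (h : ¬ p ∣ mult ι χ β) (h' : ¬ p ∣ mult ι χ β') : β = β' := by
  classical
  haveI := D.isPrime
  have hs : SameBlock M (β : C → ℂ) (β' : C → ℂ) := by
    intro c
    rw [← omega_classSum β.2.isClassFunction, ← omega_classSum β'.2.isClassFunction,
      ← pull_classSum D]
    exact idl_sub_trans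
      (idl_omega_sub D hχ h (fx_classSum D c) (locA_classSum _) (classSum_mem_center _))
      (idl_sub_symm (idl_omega_sub D hχ h' (fx_classSum D c) (locA_classSum _) (classSum_mem_center _)))
  by_contra hne
  have h1 := sameBlock_omega β.2.isClassFunction β'.2.isClassFunction hs (eB_mem_center {β})
    (locA_eB_singleton D.hM (not_dvd_card_C D) β)
  rw [omega_eB_mem (Set.mem_singleton _), omega_eB_not_mem (by simpa using fun h => hne h.symm),
    sub_zero] at h1
  exact one_not_idl h1

/-- the multiplicity is `±1` modulo `p`. -/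
theorem mult_sq (D : Data p M act ι) [Fintype C] {β : IrrCharacter C} {χ : IrrCharacter G}
    (hχ : Inv act (χ : G → ℂ)) (h : ¬ p ∣ mult ι χ β) :
    (mult ι χ β : ℤ) ≡ 1 [ZMOD p] ∨ (mult ι χ β : ℤ) ≡ -1 [ZMOD p] := by
  classical
  haveI := D.isPrime
  obtain ⟨n, hn, hnd⟩ := charDegree_eq χ
  obtain ⟨k, hk, hkd⟩ := charDegree_eq β
  have hpn : ¬ p ∣ n := fun h => D.hpG (h.trans hnd)
  have hk0 : (k : ℂ) ≠ 0 := by rw [← hk]; exact β.2.one_ne_zero
  have hG0 : (Nat.card G : ℂ) ≠ 0 := by exact_mod_cast Nat.card_pos.ne'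
  -- n ≡ m k
  have h1 : MemLocalIdeal M ((n : ℂ) - (mult ι χ β : ℂ) * (k : ℂ)) := by
    rw [← hn, ← hk, sum_degree ι χ, ← Finset.add_sum_erase _ _ (Finset.mem_univ β),
      add_sub_cancel_left]
    refine idl_sum fun β' hβ' => idl_mul_right ?_ (loc_irr β' 1)
    rw [Finset.mem_erase] at hβ'
    rw [idl_natCast_iff D.hM]
    by_contra h'
    exact hβ'.1 (unique_beta D hχ h' h)
  -- n m ≡ k
  have h2 : MemLocalIdeal M ((n : ℂ) * (mult ι χ β : ℂ) - (k : ℂ)) := by
    have h3 := a_sub_one D hχ h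
    rw [omega_pull_eB, hn, hk] at h3
    have h4 := idl_mul_left (loc_mul (loc_natCast (M := M) (Nat.card G)) (loc_natCast (M := M) k)) h3
    have h5 : (Nat.card G : ℂ) * (k : ℂ) *
        ((Nat.card G : ℂ)⁻¹ * (n : ℂ) * (Nat.card C : ℂ) * (mult ι χ β : ℂ) / (k : ℂ) - 1) =
        (Nat.card C : ℂ) * ((n : ℂ) * (mult ι χ β : ℂ) - (k : ℂ)) -
          ((Nat.card G : ℂ) - (Nat.card C : ℂ)) * (k : ℂ) := by
      field_simp
      ring
    rw [h5] at h4
    have h6 := idl_add h4 (idl_mul_right (card_sub D) (loc_natCast (M := M) k))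
    rw [sub_add_cancel] at h6
    exact idl_of_mul_left (loc_natCast _) (by rw [idl_natCast_iff D.hM]; exact not_dvd_card_C D) h6
  have h7 : (p : ℤ) ∣ (n : ℤ) * (((mult ι χ β : ℤ) - 1) * ((mult ι χ β : ℤ) + 1)) := by
    rw [← idl_intCast_iff D.hM]
    have h8 := idl_sub (idl_mul_left (loc_natCast (M := M) (mult ι χ β)) h2) h1
    convert h8 using 1
    push_cast
    ring
  have hpi : Prime (p : ℤ) := Nat.prime_iff_prime_int.1 D.hM.1
  rcases hpi.dvd_or_dvd h7 with h8 | h8
  · exact absurd (Int.natCast_dvd_natCast.1 h8) hpn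
  · rcases hpi.dvd_or_dvd h8 with h9 | h9
    · left
      exact (Int.modEq_iff_dvd.2 (by simpa using h9)).symm
    · right
      exact (Int.modEq_iff_dvd.2 (by simpa using h9)).symm

end pull

end Cfsg.Agent.Lib.GlaubCorr
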