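import Cfsg.Agent.Lib.AbPim3
import Cfsg.Agent.Lib.AbPim4
import Cfsg.Agent.Lib.GlaubCorr
import Cfsg.Agent.Lib.RegGen
import Cfsg.Agent.Lib.BlockCover

/-!
# The lattice of generalized characters of a block vanishing on `p`-singular elements (helper77)
-/

set_option autoImplicit false
set_option linter.all false
set_option synthInstance.maxHeartbeats 400000

namespace Cfsg.Agent.Lib.AbPim

open Cfsg Cfsg.Agent.Lib.BlockRing Cfsg.Agent.Lib.BlockGA Cfsg.Agent.Lib.BlockIdem
open Cfsg.Agent.Lib.BlockAlg Cfsg.Agent.Lib.CharBasic Cfsg.Agent.Lib.H76Alg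
open Cfsg.Agent.Lib.BlockPair Cfsg.Agent.Lib.BlockCount Cfsg.Agent.Lib.BlockSecond
open Cfsg.Agent.Lib.IndFun (frobenius_reciprocity)
open Cfsg.Agent.Lib.H76BDim
open MonoidAlgebra (single)
open scoped ComplexConjugate

universe u

variable {G : Type u} [Group G] [Finite G] {M : Ideal AlgInt} [hMm : M.IsMaximal] {B : Set (IrrCharacter G)}
  {p : ℕ} {hB : IsPBlock M B}

/-- the idempotent of a linear character of a `p'`-subgroup -/
theorem exists_BId (hM : IsPModular p M) (hB : IsPBlock M B) [Fintype G] (K : Subgroup G) (hK : ¬ p ∣ Nat.card K)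
    (μ : K →* ℂˣ) : ∃ E : GA G, BId M B E ∧
      ∀ χ ∈ B, classInner (indFun K (fun x => (μ x : ℂ))) (χ : G → ℂ) = lin (χ : G → ℂ) E := by
  haveI := hMm.isPrime
  haveI := Fintype.ofFinite K
  obtain ⟨θ, hθ⟩ : ∃ θ : IrrCharacter K, (θ : K → ℂ) = fun x => (μ x : ℂ) := ⟨⟨_, isIrrCharacter_of_unitsHom μ⟩, rfl⟩
  refine ⟨incH K (eB {θ}) * eB B, ⟨?_, ?_, ?_⟩, ?_⟩
  · exact locA_mul (locA_incH (GlaubCorr.locA_eB_singleton hM hK θ)) (locA_eB hB)
  · have hc := center_comm (eB_mem_center B) (incH K (eB {θ}))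
    calc incH K (eB {θ}) * eB B * (incH K (eB {θ}) * eB B) = incH K (eB {θ}) * (eB B * incH K (eB {θ})) * eB B := by
          simp only [mul_assoc]
      _ = incH K (eB {θ}) * incH K (eB {θ}) * (eB B * eB B) := by rw [hc]; simp only [mul_assoc]
      _ = _ := by rw [← map_mul, eB_mul_self, eB_mul_self]
  · rw [← mul_assoc, center_comm (eB_mem_center B), mul_assoc, eB_mul_self]
  · intro χ hχ
    rw [lin_mul' χ.2 (eB_mem_center B), omega_eB_mem hχ, one_mul, lin_incH, BlockCover.lin_eB_singleton,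
      frobenius_reciprocity K _ _ χ.2.isClassFunction, hθ]
    have h1 : (fun x : K => (μ x : ℂ)) 1 = 1 := by
      show ((μ 1 : ℂˣ) : ℂ) = 1
      rw [map_one, Units.val_one]
    rw [h1, one_mul]
    have h2 : IsCharacter K (fun x : K => (μ x : ℂ)) := by rw [← hθ]; exact θ.2.isCharacter
    obtain ⟨n, hn⟩ := (χ.2.isCharacter.restrict K).classInner_nat h2
    have h3 : classInner (fun x : K => (μ x : ℂ)) (fun x : K => (χ : G → ℂ) x) =
        conj (classInner (fun x : K => (χ : G → ℂ) x) (fun x : K => (μ x : ℂ))) := (conj_classInner _ _).symm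
    rw [h3, hn, Complex.conj_natCast]

/-- **Generalized characters vanishing on `p`-singular elements.** -/
theorem PD.gen (hM : IsPModular p M) (P : PD hB) [Fintype G] {f : G → ℂ} (hf : IsGeneralizedCharacter G f)
    (h0 : ∀ g, p ∣ orderOf g → f g = 0) :
    ∃ c : Fin P.n → ℤ, ∀ χ ∈ B, classInner f (χ : G → ℂ) = ∑ j, (c j : ℂ) * lin (χ : G → ℂ) (P.F j) := by
  have h1 := mem_closure_indSet hM.1 hf h0
  clear h0 hf
  induction h1 using AddSubgroup.closure_induction with
  | mem F hF =>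
    obtain ⟨K, hK, μ, rfl⟩ := hF
    obtain ⟨E, hE, hE2⟩ := exists_BId hM hB K hK μ
    refine ⟨fun j => (P.r E j : ℤ), fun χ hχ => ?_⟩
    rw [hE2 χ hχ, P.lin_eq hE χ]
    push_cast
    rfl
  | zero =>
    refine ⟨0, fun χ _ => ?_⟩
    rw [classInner_zero_left]
    simp
  | add a b _ _ ha hb =>
    obtain ⟨c, hc⟩ := ha
    obtain ⟨c', hc'⟩ := hb
    refine ⟨c + c', fun χ hχ => ?_⟩
    rw [classInner_add_left, hc χ hχ, hc' χ hχ, ← Finset.sum_add_distrib]
    refine Finset.sum_congr rfl fun j _ => ?_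
    rw [Pi.add_apply]
    push_cast
    ring
  | neg a _ ha =>
    obtain ⟨c, hc⟩ := ha
    refine ⟨-c, fun χ hχ => ?_⟩
    have h2 : classInner (-a) (χ : G → ℂ) = -classInner a (χ : G → ℂ) := by
      have := classInner_smul_left (-1) a (χ : G → ℂ)
      rw [neg_one_smul, neg_one_mul] at this
      exact this
    rw [h2, hc χ hχ, ← Finset.sum_neg_distrib]
    refine Finset.sum_congr rfl fun j _ => ?_
    rw [Pi.neg_apply]
    push_cast
    ring

/-- the projective character -/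
noncomputable def PD.Ph (P : PD hB) (j : Fin P.n) : G → ℂ :=
  ∑ χ : IrrCharacter G, lin (χ : G → ℂ) (P.F j) • (χ : G → ℂ)

theorem PD.rsp_le (hM : IsPModular p M) (P : PD hB) : rsp p B ≤ Submodule.span ℂ (Set.range P.Ph) := by
  classical
  haveI := Fintype.ofFinite G
  haveI : Fact p.Prime := ⟨hM.1⟩
  rw [rsp, Submodule.span_le]
  rintro _ ⟨χ, hχ, rfl⟩
  have hq : ((p ^ (Nat.card G).factorization p : ℕ) : ℂ) ≠ 0 :=
    Nat.cast_ne_zero.2 (pow_ne_zero _ hM.1.ne_zero)
  obtain ⟨q, hqe⟩ : ∃ q : ℂ, q = ((p ^ (Nat.card G).factorization p : ℕ) : ℂ) := ⟨_, rfl⟩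
  rw [← hqe] at hq
  have hg := RegGen.isGeneralized_preg p χ.2.isGeneralized
  rw [← hqe] at hg
  obtain ⟨c, hc⟩ := P.gen hM hg (by
    intro g hg
    show q * preg p (χ : G → ℂ) g = 0
    rw [preg, if_pos hg, mul_zero])
  have h1 : q • preg p (χ : G → ℂ) = ∑ j, (c j : ℂ) • P.Ph j := by
    rw [hg.isClassFunction.expansion]
    have h2 : ∀ ψ : IrrCharacter G, classInner (q • preg p (χ : G → ℂ)) (ψ : G → ℂ) =
        ∑ j, (c j : ℂ) * lin (ψ : G → ℂ) (P.F j) := by
      intro ψ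
      by_cases hψ : ψ ∈ B
      · exact hc ψ hψ
      · rw [Finset.sum_eq_zero (fun j _ => by rw [(P.hF j).lin_eq_zero hψ, mul_zero]), classInner_smul_left,
          ← Contrib.contrib_eq_classInner, Contrib.contrib_eq_zero hM χ ψ, mul_zero]
        intro h
        exact hψ (mem_of_sameBlock hB hχ h)
    rw [Finset.sum_congr rfl fun ψ _ => by rw [h2 ψ]]
    have h3 : ∀ j, (c j : ℂ) • P.Ph j = ∑ ψ : IrrCharacter G, ((c j : ℂ) * lin (ψ : G → ℂ) (P.F j)) • (ψ : G → ℂ) := by
      intro j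
      rw [PD.Ph, Finset.smul_sum]
      exact Finset.sum_congr rfl fun ψ _ => smul_smul _ _ _
    rw [Finset.sum_congr rfl fun j _ => h3 j, Finset.sum_comm]
    exact Finset.sum_congr rfl fun ψ _ => Finset.sum_smul
  have h4 : preg p (χ : G → ℂ) = q⁻¹ • ∑ j, (c j : ℂ) • P.Ph j := by
    rw [← h1, smul_smul, inv_mul_cancel₀ hq, one_smul]
  show preg p (χ : G → ℂ) ∈ _
  rw [h4]
  apply Submodule.smul_mem
  apply Submodule.sum_mem
  intro j _
  exact Submodule.smul_mem _ _ (Submodule.subset_span ⟨j, rfl⟩)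

/-- **The number of simple modules is the rank.** -/
theorem PD.n_eq (hM : IsPModular p M) (P : PD hB) : P.n = blockRank p B := by
  haveI := P.hd
  apply le_antisymm
  · exact card_le_blockRank hB hM P.hs
  · rw [blockRank_eq]
    refine (Submodule.finrank_mono (P.rsp_le hM)).trans ?_
    have := finrank_range_le_card (R := ℂ) P.Ph
    rw [Fintype.card_fin] at this
    exact this

/-- common divisors of the ordinary degrees divide the dimensions of the simple modules -/
theorem PD.dvd_d (hM : IsPModular p M) (P : PD hB) {g : ℕ} (hg0 : g ≠ 0) (hg : ∀ χ ∈ B, g ∣ charDegree (χ : G → ℂ))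
    (j : Fin P.n) : g ∣ P.d j := by
  classical
  haveI := Fintype.ofFinite G
  have hg0' : (g : ℂ) ≠ 0 := Nat.cast_ne_zero.2 hg0
  have hm : ∀ χ : IrrCharacter G, ∃ m : ℕ, χ ∈ B → (χ : G → ℂ) 1 = (g : ℂ) * m := by
    intro χ
    by_cases hχ : χ ∈ B
    · obtain ⟨m, hm⟩ := hg χ hχ
      refine ⟨m, fun _ => ?_⟩
      rw [← DefectZero.charDegree_eq χ.2.isCharacter, hm]
      push_cast
      rfl
    · exact ⟨0, fun h => absurd h hχ⟩
  choose m hm using hm
  obtain ⟨f, hf⟩ : ∃ f : G → ℂ, f = ∑ χ : IrrCharacter G, (if χ ∈ B then (m χ : ℂ) else 0) • (χ : G → ℂ) := ⟨_, rfl⟩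
  have hfg : IsGeneralizedCharacter G f := by
    rw [hf]
    apply isGeneralized_sum
    intro χ _
    split_ifs
    · exact χ.2.isGeneralized.natCast_smul _
    · rw [zero_smul]
      exact isGeneralized_zero
  have h0 : ∀ x, p ∣ orderOf x → f x = 0 := by
    intro x hx
    have h1 := BlockOsima.blockCoeff_eq_zero hM hB (y := x⁻¹) (by rwa [orderOf_inv])
    rw [BlockCover.blockCoeff_eq_sum'] at h1
    have h2 : (Nat.card G : ℂ)⁻¹ ≠ 0 := inv_ne_zero (Nat.cast_ne_zero.2 Nat.card_pos.ne')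
    have h3 := (mul_eq_zero.1 h1).resolve_left h2
    have h4 : ∑ χ : IrrCharacter G, (if χ ∈ B then (χ : G → ℂ) 1 * conj ((χ : G → ℂ) x⁻¹) else 0) = (g : ℂ) * f x := by
      rw [hf, Finset.sum_apply, Finset.mul_sum]
      refine Finset.sum_congr rfl fun χ _ => ?_
      rw [Pi.smul_apply, smul_eq_mul]
      split_ifs with hχ
      · rw [hm χ hχ, χ.2.inv, Complex.conj_conj]
        ring
      · ring
    rw [h4] at h3
    exact (mul_eq_zero.1 h3).resolve_left hg0'
  obtain ⟨c, hc⟩ := P.gen hM hfg h0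
  have h5 : ∀ χ ∈ B, classInner f (χ : G → ℂ) = m χ := by
    intro χ hχ
    rw [hf, classInner_sum_left, Finset.sum_eq_single χ]
    · rw [classInner_smul_left, χ.2.classInner_self, mul_one, if_pos hχ]
    · intro ψ _ hψ
      rw [classInner_smul_left, ψ.2.classInner_eq_zero χ.2, mul_zero]
      intro h
      exact hψ (Subtype.ext h)
    · intro h; exact absurd (Finset.mem_univ _) h
  have h6 := P.indep hM _ (fun j => (P.d j : ℤ) - g * c j) le_rfl (by
    intro χ
    by_cases hχ : χ ∈ B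
    · have h7 : ∑ j, (((P.d j : ℤ) - g * c j : ℤ) : ℂ) * lin (χ : G → ℂ) (P.F j) =
          ∑ j, (P.d j : ℂ) * lin (χ : G → ℂ) (P.F j) - g * ∑ j, (c j : ℂ) * lin (χ : G → ℂ) (P.F j) := by
        rw [Finset.mul_sum, ← Finset.sum_sub_distrib]
        refine Finset.sum_congr rfl fun j _ => ?_
        push_cast
        ring
      rw [h7, ← P.deg hχ, ← hc χ hχ, h5 χ hχ, hm χ hχ, sub_self]
    · apply Finset.sum_eq_zero
      intro j _
      rw [(P.hF j).lin_eq_zero hχ, mul_zero])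
  have h8 := congrFun h6 j
  simp only [Pi.zero_apply] at h8
  have h9 : (g : ℤ) ∣ (P.d j : ℤ) := ⟨c j, by linarith⟩
  exact_mod_cast h9

theorem sum_lin (E : GA G) : ∑ χ : IrrCharacter G, (χ : G → ℂ) 1 * lin (χ : G → ℂ) E = (Nat.card G : ℂ) * E.coeff 1 := by
  classical
  haveI := Fintype.ofFinite G
  have h1 : ∀ χ : IrrCharacter G, (χ : G → ℂ) 1 * lin (χ : G → ℂ) E =
      ∑ g : G, E.coeff g * ((χ : G → ℂ) 1 * (χ : G → ℂ) g) := by
    intro χ
    rw [lin_apply, Finset.mul_sum]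
    exact Finset.sum_congr rfl fun g _ => by ring
  rw [Finset.sum_congr rfl fun χ _ => h1 χ, Finset.sum_comm, Finset.sum_eq_single (1 : G)]
  · rw [← Finset.mul_sum, mul_comm]
    congr 1
    rw [← sum_degree_sq (G := G)]
    exact Finset.sum_congr rfl fun χ _ => by ring
  · intro g _ hg
    rw [← Finset.mul_sum, sum_degree_mul g hg, mul_zero]
  · intro h; exact absurd (Finset.mem_univ _) h

end Cfsg.Agent.Lib.AbPim
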