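import Cfsg.Agent.Lib.AbPim5
import Cfsg.Agent.S4491

/-!
# The dimension of a block algebra (helper77)
-/

set_option autoImplicit false
set_option linter.all false
set_option synthInstance.maxHeartbeats 400000

namespace Cfsg.Agent.Lib.AbPim

open Cfsg Cfsg.Agent.Lib.BlockRing Cfsg.Agent.Lib.BlockGA Cfsg.Agent.Lib.BlockIdem
open Cfsg.Agent.Lib.BlockAlg Cfsg.Agent.Lib.CharBasic Cfsg.Agent.Lib.H76Alg
open Cfsg.Agent.Lib.BlockPair Cfsg.Agent.Lib.BlockCount Cfsg.Agent.Lib.BlockSecond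
open Cfsg.Agent.Lib.H76BDim
open scoped ComplexConjugate

universe u

variable {G : Type u} [Group G] [Finite G] {M : Ideal AlgInt} [hMm : M.IsMaximal] {B : Set (IrrCharacter G)}
  {p : ℕ} {hB : IsPBlock M B}

theorem deg_cast (χ : IrrCharacter G) : (χ : G → ℂ) 1 = (charDegree (χ : G → ℂ) : ℂ) :=
  (DefectZero.charDegree_eq χ.2.isCharacter).symm

/-- the dimension of the projective module -/
theorem PD.exists_N (hM : IsPModular p M) (P : PD hB) (j : Fin P.n) :
    ∃ N : ℕ, (N : ℂ) = ∑ χ : IrrCharacter G, (χ : G → ℂ) 1 * lin (χ : G → ℂ) (P.F j) ∧ 0 < N ∧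
      p ^ (Nat.card G).factorization p ∣ N ∧ ∀ g : ℕ, (∀ χ ∈ B, g ∣ charDegree (χ : G → ℂ)) → g ∣ N := by
  classical
  haveI := hMm.isPrime
  haveI : Fact p.Prime := ⟨hM.1⟩
  choose m hm using fun χ : IrrCharacter G => lin_nat (P.hF j).idem χ
  obtain ⟨N, hN⟩ : ∃ N : ℕ, N = ∑ χ : IrrCharacter G, charDegree (χ : G → ℂ) * m χ := ⟨_, rfl⟩
  have h1 : (N : ℂ) = ∑ χ : IrrCharacter G, (χ : G → ℂ) 1 * lin (χ : G → ℂ) (P.F j) := by
    rw [hN]
    push_cast
    refine Finset.sum_congr rfl fun χ _ => ?_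
    rw [hm, deg_cast]
  have hpos : 0 < N := by
    rw [Nat.pos_iff_ne_zero]
    intro h0
    have h2 : ∀ χ : IrrCharacter G, m χ = 0 := by
      intro χ
      have h3 := Finset.sum_eq_zero_iff.1 (hN.symm.trans h0) χ (Finset.mem_univ _)
      exact (Nat.mul_eq_zero.1 h3).resolve_left (DefectZero.charDegree_pos χ.2).ne'
    have h4 := P.indep hM _ (Pi.single j 1) le_rfl (by
      intro χ
      rw [Finset.sum_eq_single j]
      · rw [hm, h2, Nat.cast_zero, mul_zero]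
      · intro i _ hi
        rw [Pi.single_eq_of_ne hi, Int.cast_zero, zero_mul]
      · intro h; exact absurd (Finset.mem_univ _) h)
    have h5 := congrFun h4 j
    rw [Pi.single_eq_same] at h5
    exact one_ne_zero h5
  refine ⟨N, h1, hpos, ?_, ?_⟩
  · have h2 := sum_lin (P.F j)
    rw [← h1] at h2
    have h3 : MemLocalRing M ((N : ℂ) / (Nat.card G : ℂ)) := by
      have h4 : (N : ℂ) / (Nat.card G : ℂ) = (P.F j).coeff 1 := by
        rw [h2]
        have : (Nat.card G : ℂ) ≠ 0 := Nat.cast_ne_zero.2 Nat.card_pos.ne'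
        field_simp
      rw [h4]
      exact (P.hF j).loc 1
    rw [loc_div_natCast_iff hM hpos.ne' Nat.card_pos.ne'] at h3
    exact (Nat.Prime.pow_dvd_iff_le_factorization hM.1 hpos.ne').2 h3
  · intro g hg
    rw [hN]
    apply Finset.dvd_sum
    intro χ _
    by_cases hχ : χ ∈ B
    · exact (hg χ hχ).mul_right _
    · have h2 := hm χ
      rw [(P.hF j).lin_eq_zero hχ] at h2
      have h3 : m χ = 0 := by exact_mod_cast h2.symm
      rw [h3, mul_zero]
      exact dvd_zero g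

theorem sum_sq (P : PD hB) (N : Fin P.n → ℕ)
    (hN : ∀ j, (N j : ℂ) = ∑ χ : IrrCharacter G, (χ : G → ℂ) 1 * lin (χ : G → ℂ) (P.F j)) :
    ∑ᶠ χ ∈ B, charDegree (χ : G → ℂ) ^ 2 = ∑ j, P.d j * N j := by
  classical
  have h4 : (∑ᶠ χ ∈ B, charDegree (χ : G → ℂ) ^ 2 : ℕ) =
      ∑ χ : IrrCharacter G, if χ ∈ B then charDegree (χ : G → ℂ) ^ 2 else 0 := by
    rw [← finsum_eq_sum_of_fintype]
    refine finsum_congr fun χ => ?_
    rw [finsum_eq_if]
  rw [h4]
  have h5 : ((∑ χ : IrrCharacter G, if χ ∈ B then charDegree (χ : G → ℂ) ^ 2 else 0 : ℕ) : ℂ) =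
      ((∑ j, P.d j * N j : ℕ) : ℂ) := by
    push_cast
    have h6 : ∀ j, (P.d j : ℂ) * (N j : ℂ) =
        ∑ χ : IrrCharacter G, (P.d j : ℂ) * ((χ : G → ℂ) 1 * lin (χ : G → ℂ) (P.F j)) := by
      intro j
      rw [hN, Finset.mul_sum]
    rw [Finset.sum_congr rfl fun j _ => h6 j, Finset.sum_comm]
    refine Finset.sum_congr rfl fun χ _ => ?_
    split_ifs with hχ
    · have h7 : ∑ j, (P.d j : ℂ) * ((χ : G → ℂ) 1 * lin (χ : G → ℂ) (P.F j)) =
          (χ : G → ℂ) 1 * ∑ j, (P.d j : ℂ) * lin (χ : G → ℂ) (P.F j) := by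
        rw [Finset.mul_sum]
        exact Finset.sum_congr rfl fun j _ => by ring
      rw [h7, ← P.deg hχ, ← deg_cast, pow_two]
    · symm
      apply Finset.sum_eq_zero
      intro j _
      rw [(P.hF j).lin_eq_zero hχ, mul_zero, mul_zero]
  exact_mod_cast h5

/-- **The sum of the squares of the degrees of a block.** -/
theorem sum_sq_block [hp : Fact p.Prime] (hM : IsPModular p M) (hB : IsPBlock M B) {D : Subgroup G} (hD : IsDefectGroup p M B D) {a d : ℕ}
    (ha : (Nat.card G).factorization p = a) (hd : Nat.card D = p ^ d) (g : ℕ)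
    (hg1 : ∀ χ ∈ B, g ∣ charDegree (χ : G → ℂ))
    (hg2 : ∀ g' : ℕ, (∀ χ ∈ B, g' ∣ charDegree (χ : G → ℂ)) → g' ∣ g) :
    g.factorization p = a - d ∧ ∃ v : ℕ, 0 < v ∧ ¬ p ∣ v ∧ blockRank p B ≤ v ∧
      ∑ᶠ χ ∈ B, charDegree (χ : G → ℂ) ^ 2 = p ^ (2 * a - d) * (g / p ^ (a - d)) ^ 2 * v := by
  classical
  have hp1 := hM.1
  have hdef : blockDefect p B = d := by
    have h1 := BlockDefect.defectGroup_card hM hB hD
    rw [hd] at h1
    exact (Nat.pow_right_injective hp1.two_le h1).symm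
  have hvm := BlockDefect.vmin_le_fact hM hB
  have hdm : d = a - BlockDefect.vmin p B := by
    rw [← hdef, BlockDefect.blockDefect_eq, ha]
  rw [ha] at hvm
  have hda : d ≤ a := by omega
  have hvmin : BlockDefect.vmin p B = a - d := by omega
  obtain ⟨χ0, hχ0, hv0⟩ := BlockDefect.exists_vmin (p := p) (isPBlock_nonempty hB)
  have hg0 : g ≠ 0 := by
    intro h
    have := hg1 χ0 hχ0
    rw [h, zero_dvd_iff] at this
    exact (DefectZero.charDegree_pos χ0.2).ne' this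
  have hgp : g.factorization p = a - d := by
    apply le_antisymm
    · rw [← hvmin, ← hv0]
      exact (Nat.factorization_le_iff_dvd hg0 (DefectZero.charDegree_pos χ0.2).ne').2 (hg1 χ0 hχ0) p
    · rw [← Nat.Prime.pow_dvd_iff_le_factorization hp1 hg0]
      apply hg2
      intro χ hχ
      rw [Nat.Prime.pow_dvd_iff_le_factorization hp1 (DefectZero.charDegree_pos χ.2).ne', ← hvmin]
      exact BlockDefect.vmin_le hχ
  refine ⟨hgp, ?_⟩
  obtain ⟨u, hu⟩ : ∃ u, u = g / p ^ (a - d) := ⟨_, rfl⟩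
  have hgu : g = p ^ (a - d) * u := by
    rw [hu, ← hgp]
    exact (Nat.ordProj_mul_ordCompl_eq_self _ _).symm
  have hpu : ¬ p ∣ u := by
    rw [hu, ← hgp]
    exact Nat.not_dvd_ordCompl hp1 hg0
  have hu0 : u ≠ 0 := by
    rintro rfl
    exact hpu (dvd_zero p)
  obtain ⟨P⟩ := exists_PD hB
  choose N hN hNpos hNp hNg using fun j => P.exists_N hM j
  have hxy : ∀ j, ∃ x y : ℕ, 0 < x ∧ 0 < y ∧ P.d j = g * x ∧ N j = p ^ a * u * y := by
    intro j
    haveI := P.hd j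
    obtain ⟨x, hx⟩ := P.dvd_d hM hg0 hg1 j
    have h1 : p ^ a * u ∣ N j := by
      apply Nat.Coprime.mul_dvd_of_dvd_of_dvd
      · exact Nat.Coprime.pow_left _ ((Nat.Prime.coprime_iff_not_dvd hp1).2 hpu)
      · rw [← ha]; exact hNp j
      · exact (Dvd.intro_left _ hgu.symm).trans (hNg j g hg1)
    obtain ⟨y, hy⟩ := h1
    refine ⟨x, y, ?_, ?_, hx, hy⟩
    · rw [Nat.pos_iff_ne_zero]
      rintro rfl
      rw [mul_zero] at hx
      exact NeZero.ne (P.d j) hx
    · rw [Nat.pos_iff_ne_zero]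
      rintro rfl
      rw [mul_zero] at hy
      exact (hNpos j).ne' hy
  choose x y hx hy hdx hNy using hxy
  obtain ⟨v, hv⟩ : ∃ v, v = ∑ j, x j * y j := ⟨_, rfl⟩
  have hsum : ∑ᶠ χ ∈ B, charDegree (χ : G → ℂ) ^ 2 = p ^ (2 * a - d) * u ^ 2 * v := by
    rw [sum_sq P N hN, hv, Finset.mul_sum]
    refine Finset.sum_congr rfl fun j _ => ?_
    rw [hdx, hNy, hgu]
    have h2 : p ^ (2 * a - d) = p ^ (a - d) * p ^ a := by
      rw [← pow_add]
      congr 1
      omega
    rw [h2]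
    ring
  have hrk : blockRank p B ≤ v := by
    rw [← P.n_eq hM, hv]
    calc P.n = ∑ j : Fin P.n, 1 := by simp
      _ ≤ ∑ j, x j * y j := Finset.sum_le_sum fun j _ => Nat.mul_pos (hx j) (hy j)
  have hv0' : 0 < v := lt_of_lt_of_le (BlockSmall.blockRank_pos hp1 (isPBlock_nonempty hB)) hrk
  refine ⟨v, hv0', ?_, hrk, by rw [← hu]; exact hsum⟩
  intro hpv
  have h3 := S4491.result p M hM B hB
  rw [hsum, ha, hdef, Nat.factorization_mul (mul_ne_zero (pow_ne_zero _ hp1.ne_zero) (pow_ne_zero _ hu0)) hv0'.ne',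
    Nat.factorization_mul (pow_ne_zero _ hp1.ne_zero) (pow_ne_zero _ hu0), Finsupp.add_apply, Finsupp.add_apply,
    Nat.Prime.factorization_pow hp1, Finsupp.single_eq_same] at h3
  have h4 : 0 < v.factorization p := hp1.factorization_pos_of_dvd hv0'.ne' hpv
  omega

end Cfsg.Agent.Lib.AbPim
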