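import Cfsg.Agent.Lib.AbLocal

/-!
# Blocks with abelian defect groups: idempotents of the local blocks inside `ℂG`
and the relative second main theorem (helper77)
-/

set_option autoImplicit false
set_option linter.all false

namespace Cfsg.Agent.Lib.AbSec

open Cfsg Cfsg.Agent.Lib.BlockRing Cfsg.Agent.Lib.BlockGA Cfsg.Agent.Lib.BlockIdem
open Cfsg.Agent.Lib.BlkIdem Cfsg.Agent.Lib.BlockAlg Cfsg.Agent.Lib.PairAlg Cfsg.Agent.Lib.PairMax
open Cfsg.Agent.Lib.BrauerPairs Cfsg.Agent.Lib.NormalPBlk Cfsg.Agent.Lib.DefPairs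
open Cfsg.Agent.Lib.BlkTransport Cfsg.Agent.Lib.BlkFus Cfsg.Agent.Lib.InducedPair
open Cfsg.Agent.Lib.BlockCount Cfsg.Agent.Lib.BlockPair Cfsg.Agent.Lib.PairCount
open Cfsg.Agent.Lib.AbFusion Cfsg.Agent.Lib.AbCount Cfsg.Agent.Lib.BlockSecond
open MonoidAlgebra (single)

universe u v

variable {p : ℕ} [hp : Fact p.Prime] {M : Ideal AlgInt} [hMm : M.IsMaximal] [hchar : CharP (Kf M) p]
  {G : Type u} [Group G] [Finite G] {B : Set (IrrCharacter G)} {P : Subgroup G} {c : MonoidAlgebra (Kf M) G}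

/-- the characteristic zero idempotent of the block of `C(Q)` below `(P, c)` -/
noncomputable def eh (p : ℕ) (P : Subgroup G) (c : MonoidAlgebra (Kf M) G) (Q : Subgroup G) : GA G :=
  cid (Subgroup.centralizer (Q : Set G)) (bQ p P c Q)

theorem isPBlock_bQ (hPc : BPair p P c) {Q : Subgroup G} (hQ : Q ≤ P) : IsPBlock M (bQ p P c Q) :=
  (blkOf_spec (pr_pair hPc hQ).2).1

theorem bid_bQ (hPc : BPair p P c) {Q : Subgroup G} (hQ : Q ≤ P) :
    bid M (Subgroup.centralizer (Q : Set G)) (bQ p P c Q) = pr p P c Q :=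
  (blkOf_spec (pr_pair hPc hQ).2).2

theorem eh_ZAlg (Q : Subgroup G) : eh p P c Q ∈ BrauerMap.ZAlg ℂ (Subgroup.centralizer (Q : Set G)) :=
  cid_mem_ZAlg _ _

theorem eh_idem (Q : Subgroup G) : eh p P c Q * eh p P c Q = eh p P c Q := cid_mul_self _ _

theorem eh_loc (hPc : BPair p P c) {Q : Subgroup G} (hQ : Q ≤ P) : LocA M (eh p P c Q) :=
  locA_cid (isPBlock_bQ hPc hQ)

theorem eh_red (hPc : BPair p P c) {Q : Subgroup G} (hQ : Q ≤ P) : redA M (eh p P c Q) = pr p P c Q := by
  rw [eh, redA_cid, bid_bQ hPc hQ]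

theorem eh_reg (hM : IsPModular p M) (hPc : BPair p P c) {Q : Subgroup G} (hQ : Q ≤ P) {g : G}
    (hg : p ∣ orderOf g) : (eh p P c Q).coeff g = 0 := by
  by_cases h : g ∈ Subgroup.centralizer (Q : Set G)
  · have := cid_coeff_coe (Subgroup.centralizer (Q : Set G)) (bQ p P c Q) ⟨g, h⟩
    rw [eh, show g = ((⟨g, h⟩ : Subgroup.centralizer (Q : Set G)) : G) from rfl, this]
    apply BlockOsima.blockCoeff_eq_zero hM (isPBlock_bQ hPc hQ)
    rwa [Subgroup.orderOf_mk]
  · exact (eh_ZAlg Q).1 g h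

theorem eh_supp {Q : Subgroup G} {g : G} (h : g ∉ Subgroup.centralizer (Q : Set G)) :
    (eh p P c Q).coeff g = 0 := (eh_ZAlg Q).1 g h

/-- `eh` is determined by its reduction -/
theorem eq_eh (hPc : BPair p P c) {Q : Subgroup G} (hQ : Q ≤ P) {z : GA G}
    (hz : z ∈ BrauerMap.ZAlg ℂ (Subgroup.centralizer (Q : Set G))) (hzz : z * z = z) (hzl : LocA M z)
    (h : redA M z = pr p P c Q) : z = eh p P c Q :=
  lift_unique hz (eh_ZAlg Q) hzz (eh_idem Q) hzl (eh_loc hPc hQ) (by rw [h, eh_red hPc hQ])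

theorem eh_congr (hPc : BPair p P c) {Q Q' : Subgroup G} (hQ : Q ≤ Q') (hQ' : Q' ≤ P)
    (hC : Subgroup.centralizer (Q : Set G) = Subgroup.centralizer (Q' : Set G))
    (hab : P ≤ Subgroup.centralizer (P : Set G)) : eh p P c Q = eh p P c Q' := by
  apply eq_eh hPc hQ' _ (eh_idem Q) (eh_loc hPc (hQ.trans hQ'))
  · rw [eh_red hPc (hQ.trans hQ'), pr_congr hPc hQ hQ' hC hab]
  · rw [← hC]; exact eh_ZAlg Q

theorem eh_comm {Q R : Subgroup G} (hQR : Q ≤ R) : eh p P c R * eh p P c Q = eh p P c Q * eh p P c R := by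
  apply BrauerMap.comm_of_supp_fix (H := Subgroup.centralizer (Q : Set G))
  · exact BrauerMap.suppAlg_mono (Subgroup.centralizer_le (SetLike.coe_subset_coe.2 hQR)) (eh_ZAlg R).1
  · exact (eh_ZAlg Q).2

/-- `single x` commutes with elements fixed by `x` -/
theorem commute_single_of_fix {H : Subgroup G} {z : GA G} (hz : z ∈ BrauerMap.fixAlg ℂ H) {x : G} (hx : x ∈ H) :
    Commute z (single x (1 : ℂ)) := by
  classical
  have h1 : (single x (1 : ℂ)) ∈ BrauerMap.suppAlg ℂ H := by
    intro g hg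
    rw [MonoidAlgebra.coeff_single, Finsupp.single_apply, if_neg]
    rintro rfl
    exact hg hx
  exact (BrauerMap.comm_of_supp_fix h1 hz).symm

theorem commute_single_of_supp {H : Subgroup G} {z : GA G} (hz : z ∈ BrauerMap.suppAlg ℂ H) {x : G}
    (hx : ∀ g ∈ H, Commute x g) : Commute z (single x (1 : ℂ)) := by
  classical
  have h1 : (single x (1 : ℂ)) ∈ BrauerMap.fixAlg ℂ H := by
    rw [BrauerMap.mem_fixAlg_iff_coeff]
    intro h hh g
    rw [MonoidAlgebra.coeff_single, Finsupp.single_apply, Finsupp.single_apply]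
    have e1 : x = h * g * h⁻¹ ↔ x = g := by
      have h2 := hx h hh
      constructor
      · intro e
        have : g = h⁻¹ * x * h := by rw [e]; group
        rw [this, mul_assoc, h2.eq, inv_mul_cancel_left]
      · intro e
        rw [← e, ← h2.eq, mul_inv_cancel_right]
    by_cases hxg : x = g
    · rw [if_pos hxg, if_pos (e1.2 hxg)]
    · rw [if_neg hxg, if_neg (fun e => hxg (e1.1 e))]
  exact BrauerMap.comm_of_supp_fix hz h1

/-- **The relative second main theorem.** -/
theorem rsm (hM : IsPModular p M) (hPc : BPair p P c) (hab : P ≤ Subgroup.centralizer (P : Set G))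
    {Q R1 R2 : Subgroup G} (hQ : Q ≤ R1) (h1 : R1 ≤ R2) (h2 : R2 ≤ P) {v : G} (hv : v ∈ R2)
    (hC : ∀ g ∈ Subgroup.centralizer (R1 : Set G), Commute v g → g ∈ Subgroup.centralizer (R2 : Set G))
    {f : G → ℂ} (hf : IsClassFunction (Subgroup.centralizer (Q : Set G))
      (fun x : Subgroup.centralizer (Q : Set G) => f x))
    {s : G} (hs : s ∈ Subgroup.centralizer (R2 : Set G)) (hsp : ¬ p ∣ orderOf s) :
    lin f (single (v * s) 1 * (eh p P c R2 * eh p P c R1)) = lin f (single (v * s) 1 * eh p P c R2) := by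
  classical
  have := isPrime hM
  set K := Subgroup.centralizer (Q : Set G) with hK
  have hCR12 : Subgroup.centralizer (R2 : Set G) ≤ Subgroup.centralizer (R1 : Set G) :=
    Subgroup.centralizer_le (SetLike.coe_subset_coe.2 h1)
  have hCR1K : Subgroup.centralizer (R1 : Set G) ≤ K := Subgroup.centralizer_le (SetLike.coe_subset_coe.2 hQ)
  have hPK : P ≤ Subgroup.centralizer (R1 : Set G) :=
    hab.trans (Subgroup.centralizer_le (SetLike.coe_subset_coe.2 (h1.trans h2)))
  have hvP : v ∈ P := h2 hv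
  have hvK : v ∈ K := hCR1K (hPK hvP)
  have hsK : s ∈ K := hCR1K (hCR12 hs)
  have hvs : Commute v s := (Subgroup.mem_centralizer_iff.1 hs v hv)
  set j0 : GA G := eh p P c R2 - eh p P c R2 * eh p P c R1 with hj0
  have hsupp : j0 ∈ BrauerMap.suppAlg ℂ K := by
    have e2 : eh p P c R2 ∈ BrauerMap.suppAlg ℂ K := BrauerMap.suppAlg_mono (hCR12.trans hCR1K) (eh_ZAlg R2).1
    have e1 : eh p P c R1 ∈ BrauerMap.suppAlg ℂ K := BrauerMap.suppAlg_mono hCR1K (eh_ZAlg R1).1
    exact sub_mem e2 (mul_mem e2 e1)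
  have hj0l : LocA M j0 := locA_sub (eh_loc hPc h2) (locA_mul (eh_loc hPc h2) (eh_loc hPc (h1.trans h2)))
  have hidem : j0 * j0 = j0 := by
    have hc := eh_comm (p := p) (P := P) (c := c) h1
    have a1 := eh_idem (p := p) (P := P) (c := c) R1
    have a2 := eh_idem (p := p) (P := P) (c := c) R2
    have e3 : eh p P c R2 * eh p P c R1 * eh p P c R2 = eh p P c R2 * eh p P c R1 := by
      rw [mul_assoc, ← hc, ← mul_assoc, a2]
    have e4 : eh p P c R2 * (eh p P c R2 * eh p P c R1) = eh p P c R2 * eh p P c R1 := by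
      rw [← mul_assoc, a2]
    have e5 : eh p P c R2 * eh p P c R1 * (eh p P c R2 * eh p P c R1) = eh p P c R2 * eh p P c R1 := by
      rw [← mul_assoc, e3, mul_assoc, a1]
    rw [hj0, sub_mul, mul_sub, mul_sub, a2, e4, e3, e5]
    abel
  -- commutation with `v` and `s`
  have hvc : Commute j0 (single v (1 : ℂ)) := by
    have e2 : Commute (eh p P c R2) (single v (1 : ℂ)) :=
      commute_single_of_supp (eh_ZAlg R2).1 (fun g hg => Subgroup.mem_centralizer_iff.1 hg v hv)
    have e1 : Commute (eh p P c R1) (single v (1 : ℂ)) := commute_single_of_fix (eh_ZAlg R1).2 (hPK hvP)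
    exact e2.sub_left (e2.mul_left e1)
  have hsc : Commute j0 (single s (1 : ℂ)) := by
    have e2 : Commute (eh p P c R2) (single s (1 : ℂ)) := commute_single_of_fix (eh_ZAlg R2).2 hs
    have e1 : Commute (eh p P c R1) (single s (1 : ℂ)) := commute_single_of_fix (eh_ZAlg R1).2 (hCR12 hs)
    exact e2.sub_left (e2.mul_left e1)
  -- the Brauer image
  have hJ : ∀ g ∈ K, Commute v g → MemLocalIdeal M (j0.coeff g) := by
    intro g hg hvg
    rw [← red_eq_zero_iff (hj0l g), ← redA_coeff]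
    have hr : redA M j0 = pr p P c R2 - pr p P c R2 * pr p P c R1 := by
      rw [hj0, redA_sub (eh_loc hPc h2) (locA_mul (eh_loc hPc h2) (eh_loc hPc (h1.trans h2))),
        redA_mul (eh_loc hPc h2) (eh_loc hPc (h1.trans h2)), eh_red hPc h2, eh_red hPc (h1.trans h2)]
    rw [hr]
    have p2 := pr_pair hPc h2
    have p1 := pr_pair hPc (h1.trans h2)
    by_cases hg1 : g ∈ Subgroup.centralizer (R1 : Set G)
    · have hg2 := hC g hg1 hvg
      rw [← BrauerMap.br_coeff_mem hg2, BrauerMap.br_sub,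
        BrauerMap.br_mul p2.1 (BrauerMap.fixAlg_anti ?_ p2.2.mem.2) (BrauerMap.fixAlg_anti ?_ p1.2.mem.2)]
      · have hle : PLE p (R1, pr p P c R1) (R2, pr p P c R2) :=
          PLE.of_le hasBlocks hPc (pr_spec hPc (h1.trans h2)) (pr_spec hPc h2) h1
        have hN : R2 ≤ Subgroup.normalizer (R1 : Set G) :=
          (h2.trans hPK).trans (centralizer_le_normalizer R1)
        have hb := (PLE.nle hasBlocks p2 hle hN).br_mul
        have hb2 : BrauerMap.br R2 (pr p P c R2) = pr p P c R2 := BrauerMap.br_eq_self p2.2.mem.1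
        have hcm : pr p P c R2 * BrauerMap.br R2 (pr p P c R1) = BrauerMap.br R2 (pr p P c R1) * pr p P c R2 := by
          symm
          apply BrauerMap.comm_of_supp_fix (H := Subgroup.centralizer (R2 : Set G)) _ p2.2.mem.2
          exact BrauerMap.trunc_mem_suppAlg _ _
        rw [hb2, hcm, hb, sub_self]
        rfl
      · exact h2.trans (hab.trans (Subgroup.centralizer_le (SetLike.coe_subset_coe.2 h2)))
      · exact h2.trans hPK
    · have m2 : pr p P c R2 ∈ BrauerMap.suppAlg (Kf M) (Subgroup.centralizer (R1 : Set G)) :=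
        BrauerMap.suppAlg_mono hCR12 p2.2.mem.1
      exact (sub_mem m2 (mul_mem m2 p1.2.mem.1)) g hg1
  -- apply the vanishing lemma in `K`
  set v' : K := ⟨v, hvK⟩ with hv'
  set s' : K := ⟨s, hsK⟩ with hs'
  have hinc : incH K (resH K j0) = j0 := incH_resH hsupp
  have hinj := incH_injective K
  have key : lin f (single (v * s) 1 * j0) = 0 := by
    have e1 : single (v * s) (1 : ℂ) * j0 = incH K (single (v' * s') 1 * resH K j0) := by
      rw [map_mul, hinc, incH_single]; rfl
    rw [e1, lin_incH]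
    obtain ⟨k, hk⟩ := orderOf_mem hPc.1 hvP
    refine BlockSecond.lin_eq_zero hM (u := v') (x := s') (k := k) (m := orderOf s) ?_ ?_ hsp ?_
      (j := resH K j0) ⟨locA_resH hj0l, ?_⟩ ?_ ?_ ?_ hf
    · apply Subtype.ext
      simp only [SubmonoidClass.coe_pow, OneMemClass.coe_one, hv', ← hk, pow_orderOf_eq_one]
    · apply Subtype.ext
      simp only [SubmonoidClass.coe_pow, OneMemClass.coe_one, hs', pow_orderOf_eq_one]
    · exact Subtype.ext hvs
    · apply hinj
      rw [map_mul, map_mul, hinc, incH_single]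
      exact hvc
    · apply hinj
      rw [map_mul, hinc, hidem]
    · apply hinj
      rw [map_mul, map_mul, hinc, incH_single]
      exact hsc
    · intro g hg
      rw [coeff_resH]
      exact hJ g g.2 (congrArg Subtype.val hg)
  rw [hj0, mul_sub, lin_sub, sub_eq_zero] at key
  exact key.symm

end Cfsg.Agent.Lib.AbSec
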