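import Cfsg.Agent.Lib.AbSec1

/-!
# Blocks with abelian defect groups: the section formula for inner products (helper77)
-/

set_option autoImplicit false
set_option linter.all false

namespace Cfsg.Agent.Lib.AbSec

open Cfsg Cfsg.Agent.Lib.BlockRing Cfsg.Agent.Lib.BlockGA Cfsg.Agent.Lib.BlockIdem
open Cfsg.Agent.Lib.BlkIdem Cfsg.Agent.Lib.BlockAlg Cfsg.Agent.Lib.PairAlg Cfsg.Agent.Lib.PairMax
open Cfsg.Agent.Lib.BrauerPairs Cfsg.Agent.Lib.NormalPBlk Cfsg.Agent.Lib.DefPairs
open Cfsg.Agent.Lib.BlkTransport Cfsg.Agent.Lib.BlkFus Cfsg.Agent.Lib.InducedPair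
open Cfsg.Agent.Lib.BlockCount Cfsg.Agent.Lib.BlockPair Cfsg.Agent.Lib.PairCount
open Cfsg.Agent.Lib.AbFusion Cfsg.Agent.Lib.AbCount Cfsg.Agent.Lib.BlockSecond
open Cfsg.Agent.Lib.CharBasic
open MonoidAlgebra (single)
open scoped ComplexConjugate Classical

universe u v

section general

variable {G : Type u} [Group G] [Finite G] {p : ℕ} {M : Ideal AlgInt}

/-- a sum over the group is a sum over the pairs (`p`-part, `p'`-part) -/
theorem sum_pp [Fintype G] (hp : p.Prime) (F : G → ℂ) :
    ∑ x : G, F x = ∑ u : G, if (∃ k : ℕ, orderOf u = p ^ k) then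
      ∑ s : G, (if Commute u s ∧ ¬ p ∣ orderOf s then F (u * s) else 0) else 0 := by
  have e1 : (∑ u : G, if (∃ k : ℕ, orderOf u = p ^ k) then
      ∑ s : G, (if Commute u s ∧ ¬ p ∣ orderOf s then F (u * s) else 0) else 0) =
      ∑ q ∈ (Finset.univ : Finset (G × G)).filter
        (fun q => (∃ k : ℕ, orderOf q.1 = p ^ k) ∧ Commute q.1 q.2 ∧ ¬ p ∣ orderOf q.2), F (q.1 * q.2) := by
    rw [Finset.sum_filter, ← Finset.univ_product_univ, Finset.sum_product]
    refine Finset.sum_congr rfl fun u _ => ?_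
    by_cases hu : ∃ k : ℕ, orderOf u = p ^ k
    · rw [if_pos hu]
      refine Finset.sum_congr rfl fun s _ => ?_
      simp only [hu, true_and]
    · rw [if_neg hu]
      symm
      refine Finset.sum_eq_zero fun s _ => ?_
      rw [if_neg]
      exact fun h => hu h.1
  rw [e1]
  symm
  refine Finset.sum_bij (fun q _ => q.1 * q.2) (fun q _ => Finset.mem_univ _) ?_ ?_ (fun q _ => rfl)
  · rintro ⟨x, y⟩ h ⟨x', y'⟩ h' heq
    obtain ⟨-, ⟨k, hk⟩, hc, hy⟩ := Finset.mem_filter.1 h
    obtain ⟨-, ⟨k', hk'⟩, hc', hy'⟩ := Finset.mem_filter.1 h'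
    obtain ⟨e1, e2⟩ := eq_of_comm_of_orders hp hc hc' heq hk hk' hy hy'
    exact Prod.ext e1 e2
  · intro g _
    obtain ⟨x, y, hxy, hc, hx, hy, -, -⟩ := exists_ppart hp g
    exact ⟨(x, y), Finset.mem_filter.2 ⟨Finset.mem_univ _, hx, hc, hy⟩, hxy⟩

theorem sum_mem_eq [Fintype G] (H : Subgroup G) [Fintype H] (F : G → ℂ) :
    ∑ s : G, (if s ∈ H then F s else 0) = ∑ s : H, F s := by
  rw [← Finset.sum_filter]
  exact Finset.sum_subtype _ (by simp) F

/-- the section form -/
noncomputable def SB (p : ℕ) (H : Subgroup G) (v : G) (z : GA G) (f g : G → ℂ) : ℂ :=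
  haveI := Fintype.ofFinite G
  ∑ s : G, if s ∈ H ∧ ¬ p ∣ orderOf s then
    lin f (single (v * s) 1 * z) * conj (lin g (single (v * s) 1 * z)) else 0

theorem SB_eq [Fintype G] (H : Subgroup G) (v : G) (z : GA G) (f g : G → ℂ) :
    SB p H v z f g = ∑ s : G, if s ∈ H ∧ ¬ p ∣ orderOf s then
      lin f (single (v * s) 1 * z) * conj (lin g (single (v * s) 1 * z)) else 0 := by
  unfold SB
  refine Finset.sum_congr ?_ fun _ _ => rfl
  ext; simp

theorem SB_eq_subtype (H : Subgroup G) [Fintype H] (v : G) (z : GA G) (f g : G → ℂ) :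
    SB p H v z f g = ∑ s : H, if ¬ p ∣ orderOf (s : G) then
      lin f (single (v * (s : G)) 1 * z) * conj (lin g (single (v * (s : G)) 1 * z)) else 0 := by
  haveI := Fintype.ofFinite G
  rw [SB_eq, ← sum_mem_eq H (fun s : G => if ¬ p ∣ orderOf (s : G) then
      lin f (single (v * (s : G)) 1 * z) * conj (lin g (single (v * (s : G)) 1 * z)) else 0)]
  refine Finset.sum_congr rfl fun s _ => ?_
  by_cases h : s ∈ H
  · simp only [h, true_and, if_true]
  · simp only [h, false_and, if_false]

theorem cj_single (y x : G) : BrauerMap.cj y (single x (1 : ℂ)) = single (y * x * y⁻¹) 1 := by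
  apply BrauerMap.ext_coeff
  intro g
  rw [BrauerMap.cj_coeff, MonoidAlgebra.coeff_single, MonoidAlgebra.coeff_single, Finsupp.single_apply,
    Finsupp.single_apply]
  by_cases h : x = y⁻¹ * g * y
  · rw [if_pos h, if_pos (by rw [h]; group)]
  · rw [if_neg h, if_neg (fun e => h (by rw [← e]; group))]

theorem lin_cj {f : G → ℂ} (hf : IsClassFunction G f) (y : G) (z : GA G) :
    lin f (BrauerMap.cj y z) = lin f z := by
  haveI := Fintype.ofFinite G
  rw [lin_apply, lin_apply]
  refine Fintype.sum_equiv (MulAut.conj y⁻¹).toEquiv _ _ fun g => ?_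
  rw [BrauerMap.cj_coeff]
  have e1 : ((MulAut.conj y⁻¹).toEquiv g : G) = y⁻¹ * g * y := by
    show y⁻¹ * g * y⁻¹⁻¹ = _
    rw [inv_inv]
  rw [e1]
  congr 1
  have := hf g y⁻¹
  rw [inv_inv] at this
  exact this.symm

theorem SB_cj {H H' : Subgroup G} {v y : G} (hH : ∀ g, g ∈ H' ↔ y⁻¹ * g * y ∈ H) (z : GA G)
    {f g : G → ℂ} (hf : IsClassFunction G f) (hg : IsClassFunction G g) :
    SB p H' (y * v * y⁻¹) (BrauerMap.cj y z) f g = SB p H v z f g := by
  haveI := Fintype.ofFinite G
  rw [SB_eq, SB_eq]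
  refine Fintype.sum_equiv (MulAut.conj y⁻¹).toEquiv _ _ fun s => ?_
  have e1 : ((MulAut.conj y⁻¹).toEquiv s : G) = y⁻¹ * s * y := by
    show y⁻¹ * s * y⁻¹⁻¹ = _
    rw [inv_inv]
  rw [e1]
  have e2 : p ∣ orderOf (y⁻¹ * s * y) ↔ p ∣ orderOf s := by
    have := orderOf_conj_dvd (p := p) s y⁻¹
    rwa [inv_inv] at this
  have e3 : single (y * v * y⁻¹ * s) (1 : ℂ) * BrauerMap.cj y z = BrauerMap.cj y (single (v * (y⁻¹ * s * y)) 1 * z) := by
    rw [map_mul, cj_single]
    congr 2
    group
  have hcond : (s ∈ H' ∧ ¬ p ∣ orderOf s) ↔ (y⁻¹ * s * y ∈ H ∧ ¬ p ∣ orderOf (y⁻¹ * s * y)) :=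
    and_congr (hH s) (not_congr e2.symm)
  rw [e3, lin_cj hf, lin_cj hg]
  by_cases h : s ∈ H' ∧ ¬ p ∣ orderOf s
  · rw [if_pos h, if_pos (hcond.1 h)]
  · rw [if_neg h, if_neg (fun h' => h (hcond.2 h'))]

end general

section blocks

variable {G : Type u} [Group G] [Finite G] {p : ℕ} {M : Ideal AlgInt} {B : Set (IrrCharacter G)}

/-- the span of a set of characters -/
abbrev spn (B : Set (IrrCharacter G)) : Submodule ℂ (G → ℂ) :=
  Submodule.span ℂ ((fun χ : IrrCharacter G => (χ : G → ℂ)) '' B)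

theorem spn_classFunction {f : G → ℂ} (hf : f ∈ spn B) : IsClassFunction G f := by
  refine Submodule.span_induction ?_ ?_ ?_ ?_ hf
  · rintro _ ⟨χ, -, rfl⟩
    exact χ.2.isClassFunction
  · intro g h; rfl
  · intro x y _ _ hx hy g h
    simp only [Pi.add_apply, hx g h, hy g h]
  · intro a x _ hx g h
    simp only [Pi.smul_apply, hx g h]

theorem lin_eq_zero_of_not_induced (hM : IsPModular p M) (hB : IsPBlock M B) {f : G → ℂ} (hf : f ∈ spn B)
    {u x : G} {k : ℕ} (hu : orderOf u = p ^ k) (hx : ¬ p ∣ orderOf x) (hux : Commute u x)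
    {b : Set (IrrCharacter (Subgroup.centralizer ({u} : Set G)))} (hb : IsPBlock M b)
    (hind : ¬ IsInducedBlock M (Subgroup.centralizer ({u} : Set G)) b B) :
    lin f (single (u * x) 1 * incH (Subgroup.centralizer ({u} : Set G)) (eB b)) = 0 := by
  have hmem : ∀ g, g ∈ Subgroup.centralizer ({u} : Set G) ↔ Commute u g := by
    intro g
    rw [Subgroup.mem_centralizer_singleton_iff]
    exact ⟨fun h => h.symm, fun h => h.symm⟩
  refine Submodule.span_induction ?_ ?_ ?_ ?_ hf
  · rintro _ ⟨χ, hχ, rfl⟩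
    exact second_main hM hu hx hux hmem hb hB hind hχ
  · show lin (0 : G → ℂ) _ = 0
    simp [lin]
  · intro x y _ _ hx hy
    rw [lin_add_left, hx, hy, add_zero]
  · intro a x _ hx
    rw [lin_smul_left, hx, mul_zero]

/-- the decomposition of one section into blocks -/
theorem section_sum (hM : IsPModular p M) (hB : IsPBlock M B) [Fintype G] {f g : G → ℂ} (hf : f ∈ spn B)
    (hg : IsClassFunction G g) {u : G} (hu : ∃ k : ℕ, orderOf u = p ^ k) :
    ∑ s : G, (if Commute u s ∧ ¬ p ∣ orderOf s then f (u * s) * conj (g (u * s)) else 0) =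
      ∑ b ∈ (Set.toFinite {b : Set (IrrCharacter (Subgroup.centralizer ({u} : Set G))) |
        IsInducedBlock M (Subgroup.centralizer ({u} : Set G)) b B}).toFinset,
        SB p (Subgroup.centralizer ({u} : Set G)) u (cid (Subgroup.centralizer ({u} : Set G)) b) f g := by
  obtain ⟨k, hk⟩ := hu
  set H := Subgroup.centralizer ({u} : Set G) with hH
  have hmem : ∀ g, g ∈ H ↔ Commute u g := by
    intro g
    rw [hH, Subgroup.mem_centralizer_singleton_iff]
    exact ⟨fun h => h.symm, fun h => h.symm⟩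
  haveI := Fintype.ofFinite H
  haveI := Fintype.ofFinite (Bl M H)
  have hfc := spn_classFunction hf
  have hfs : IsClassFunction H (fun c : H => f (u * (c : G))) :=
    isClassFunction_section hfc fun g hg => (hmem g).1 hg
  have hgs : IsClassFunction H (fun c : H => g (u * (c : G))) :=
    isClassFunction_section hg fun g hg => (hmem g).1 hg
  -- left side as a sum over `H`
  have e1 : ∑ s : G, (if Commute u s ∧ ¬ p ∣ orderOf s then f (u * s) * conj (g (u * s)) else 0) =
      ∑ s : H, preg p (fun c : H => f (u * (c : G))) s * conj (preg p (fun c : H => g (u * (c : G))) s) := by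
    have a1 : ∀ s : G, (if Commute u s ∧ ¬ p ∣ orderOf s then f (u * s) * conj (g (u * s)) else 0) =
        if s ∈ H then (if ¬ p ∣ orderOf s then f (u * s) * conj (g (u * s)) else 0) else 0 := by
      intro s
      by_cases h : s ∈ H
      · simp only [h, (hmem s).1 h, true_and, if_true]
      · have h' : ¬ Commute u s := fun e => h ((hmem s).2 e)
        simp only [h, h', false_and, if_false]
    rw [Finset.sum_congr rfl fun s _ => a1 s, sum_mem_eq H (fun s => if ¬ p ∣ orderOf s then
      f (u * s) * conj (g (u * s)) else 0)]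
    refine Finset.sum_congr rfl fun s _ => ?_
    unfold preg
    by_cases h : p ∣ orderOf s
    · have h' : p ∣ orderOf (s : G) := by rwa [Subgroup.orderOf_coe]
      rw [if_neg (not_not.2 h'), if_pos h, zero_mul]
    · have h' : ¬ p ∣ orderOf (s : G) := by rwa [Subgroup.orderOf_coe]
      rw [if_pos h', if_neg h, if_neg h]
  rw [e1]
  -- expansion
  have hexp : ∀ (F : G → ℂ), IsClassFunction H (fun c : H => F (u * (c : G))) → ∀ s : H,
      preg p (fun c : H => F (u * (c : G))) s = ∑ b : Bl M H, D p u b.1 F s := by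
    intro F hF s
    have h1 : ∀ b : Bl M H, D p u b.1 F s = if p ∣ orderOf s then 0 else
        blockPart b.1 (fun c : H => F (u * (c : G))) s := fun b => rfl
    simp only [h1]
    unfold preg
    by_cases h : p ∣ orderOf s
    · simp [h]
    · simp only [h, if_false]
      exact (sum_blockPart hM hF s).symm
  have e2 : ∑ s : H, preg p (fun c : H => f (u * (c : G))) s * conj (preg p (fun c : H => g (u * (c : G))) s) =
      ∑ b : Bl M H, ∑ s : H, D p u b.1 f s * conj (D p u b.1 g s) := by
    rw [Finset.sum_comm]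
    have : ∀ s : H, preg p (fun c : H => f (u * (c : G))) s * conj (preg p (fun c : H => g (u * (c : G))) s) =
        ∑ b : Bl M H, ∑ b' : Bl M H, D p u b.1 f s * conj (D p u b'.1 g s) := by
      intro s
      rw [hexp f hfs s, hexp g hgs s, map_sum, Finset.sum_mul_sum]
    rw [Finset.sum_congr rfl fun s _ => this s, Finset.sum_comm]
    conv_rhs => rw [Finset.sum_comm]
    refine Finset.sum_congr rfl fun b _ => ?_
    rw [Finset.sum_comm]
    rw [Finset.sum_eq_single b]
    · intro b' _ hne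
      have h1 := rsp_orth hM b.2 b'.2 (fun e => hne (Subtype.ext e.symm)) (v := D p u b.1 f) (w := D p u b'.1 g)
        (blockPart_mem _ _) (blockPart_mem _ _)
      unfold classInner at h1
      rcases mul_eq_zero.1 h1 with h2 | h2
      · exact absurd h2 (inv_ne_zero (Nat.cast_ne_zero.2 Nat.card_pos.ne'))
      · exact h2
    · intro h
      exact absurd (Finset.mem_univ _) h
  rw [e2]
  -- the blocks that do not induce `B` do not contribute
  have hval : ∀ (b : Bl M H) (F : G → ℂ), IsClassFunction G F → ∀ s : H, D p u b.1 F s =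
      if ¬ p ∣ orderOf (s : G) then lin F (single (u * (s : G)) 1 * cid H b.1) else 0 := by
    intro b F hF s
    have h1 : D p u b.1 F s = if p ∣ orderOf s then 0 else
        blockPart b.1 (fun c : H => F (u * (c : G))) s := rfl
    rw [h1, blockPart_section hF (fun g hg => (hmem g).1 hg), Subgroup.orderOf_coe]
    by_cases h : p ∣ orderOf s
    · simp [h]
    · simp only [h, if_false, not_false_eq_true, if_true]
      rfl
  have e3 : ∀ b : Bl M H, ∑ s : H, D p u b.1 f s * conj (D p u b.1 g s) = SB p H u (cid H b.1) f g := by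
    intro b
    rw [SB_eq_subtype]
    refine Finset.sum_congr rfl fun s _ => ?_
    rw [hval b f hfc, hval b g hg]
    by_cases h : p ∣ orderOf (s : G)
    · simp only [if_neg (not_not.2 h), zero_mul]
    · simp only [if_pos h]
  rw [Finset.sum_congr rfl fun b _ => e3 b]
  -- restrict to the inducing blocks
  have e4 : ∀ b : Bl M H, ¬ IsInducedBlock M H b.1 B → SB p H u (cid H b.1) f g = 0 := by
    intro b hb
    rw [SB_eq_subtype]
    refine Finset.sum_eq_zero fun s _ => ?_
    by_cases h : p ∣ orderOf (s : G)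
    · rw [if_neg (not_not.2 h)]
    · rw [if_pos h]
      have := lin_eq_zero_of_not_induced hM hB hf hk h ((hmem s).1 s.2) b.2 hb
      rw [show cid H b.1 = incH H (eB b.1) from rfl, this, zero_mul]
  rw [← Finset.sum_filter_add_sum_filter_not Finset.univ (fun b : Bl M H => IsInducedBlock M H b.1 B)]
  rw [Finset.sum_eq_zero (s := Finset.univ.filter (fun b : Bl M H => ¬ IsInducedBlock M H b.1 B))
    (fun b hb => e4 b (Finset.mem_filter.1 hb).2), add_zero]
  refine Finset.sum_bij (fun b _ => b.1) ?_ ?_ ?_ ?_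
  · intro b hb
    rw [Set.Finite.mem_toFinset]
    exact (Finset.mem_filter.1 hb).2
  · intro b _ b' _ h
    exact Subtype.ext h
  · intro b hb
    rw [Set.Finite.mem_toFinset] at hb
    have hb' : IsInducedBlock M H b B := hb
    exact ⟨⟨b, hb'.1⟩, Finset.mem_filter.2 ⟨Finset.mem_univ _, hb'⟩, rfl⟩
  · intro b _; rfl

end blocks

end Cfsg.Agent.Lib.AbSec
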