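import Cfsg.Agent.Lib.AbSec2

/-!
# Blocks with abelian defect groups: the section formula for inner products, II (helper77)
-/

set_option autoImplicit false
set_option linter.all false

namespace Cfsg.Agent.Lib.AbSec

open Cfsg Cfsg.Agent.Lib.BlockRing Cfsg.Agent.Lib.BlockGA Cfsg.Agent.Lib.BlockIdem
open Cfsg.Agent.Lib.BlkIdem Cfsg.Agent.Lib.BlockAlg Cfsg.Agent.Lib.PairAlg Cfsg.Agent.Lib.PairMax
open Cfsg.Agent.Lib.BrauerPairs Cfsg.Agent.Lib.NormalPBlk Cfsg.Agent.Lib.DefPairs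
open Cfsg.Agent.Lib.BlkTransport Cfsg.Agent.Lib.BlkFus Cfsg.Agent.Lib.InducedPair
open Cfsg.Agent.Lib.BlockCount Cfsg.Agent.Lib.BlockPair Cfsg.Agent.Lib.PairCount
open Cfsg.Agent.Lib.AbFusion Cfsg.Agent.Lib.AbCount Cfsg.Agent.Lib.BlockSecond
open Cfsg.Agent.Lib.CharBasic
open MonoidAlgebra (single)
open scoped ComplexConjugate Classical

universe u v

/-- the number of products -/
theorem card_prod {G : Type*} [Group G] [Finite G] (C T : Subgroup G) :
    Nat.card {x : G // ∃ z ∈ C, ∃ t ∈ T, x = z * t} * Nat.card (T ⊓ C : Subgroup G) = Nat.card C * Nat.card T := by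
  rw [← Nat.card_prod, ← Nat.card_prod]
  have hz : ∀ x : {x : G // ∃ z ∈ C, ∃ t ∈ T, x = z * t}, ∃ z : G, z ∈ C ∧ z⁻¹ * (x : G) ∈ T := by
    rintro ⟨x, z, hz, t, ht, rfl⟩
    exact ⟨z, hz, by simpa using ht⟩
  choose ζ hζ hζ' using hz
  refine Nat.card_congr ⟨fun q => (⟨ζ q.1 * q.2, C.mul_mem (hζ q.1) q.2.2.2⟩,
      ⟨(q.2 : G)⁻¹ * ((ζ q.1)⁻¹ * q.1), T.mul_mem (T.inv_mem q.2.2.1) (hζ' q.1)⟩),
    fun q => (⟨(q.1 : G) * q.2, q.1, q.1.2, q.2, q.2.2, rfl⟩,
      ⟨(ζ ⟨(q.1 : G) * q.2, q.1, q.1.2, q.2, q.2.2, rfl⟩)⁻¹ * q.1, ?_, ?_⟩), ?_, ?_⟩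
  · have h1 := hζ' ⟨(q.1 : G) * q.2, q.1, q.1.2, q.2, q.2.2, rfl⟩
    have h2 := T.mul_mem h1 (T.inv_mem q.2.2)
    simpa [mul_assoc] using h2
  · exact C.mul_mem (C.inv_mem (hζ _)) q.1.2
  · rintro ⟨⟨x, hx⟩, ⟨d, hd⟩⟩
    have e1 : ζ ⟨x, hx⟩ * d * (d⁻¹ * ((ζ ⟨x, hx⟩)⁻¹ * x)) = x := by group
    apply Prod.ext
    · exact Subtype.ext e1
    · apply Subtype.ext
      show (ζ ⟨ζ ⟨x, hx⟩ * d * (d⁻¹ * ((ζ ⟨x, hx⟩)⁻¹ * x)), _⟩)⁻¹ * (ζ ⟨x, hx⟩ * d) = d
      have e2 : (⟨ζ ⟨x, hx⟩ * d * (d⁻¹ * ((ζ ⟨x, hx⟩)⁻¹ * x)), ⟨_, C.mul_mem (hζ ⟨x, hx⟩) hd.2, _,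
        T.mul_mem (T.inv_mem hd.1) (hζ' ⟨x, hx⟩), rfl⟩⟩ : {x : G // ∃ z ∈ C, ∃ t ∈ T, x = z * t}) = ⟨x, hx⟩ :=
        Subtype.ext e1
      rw [e2]
      group
  · rintro ⟨⟨z, hz⟩, ⟨t, ht⟩⟩
    apply Prod.ext
    · apply Subtype.ext
      show ζ _ * ((ζ _)⁻¹ * z) = z
      group
    · apply Subtype.ext
      show ((ζ _)⁻¹ * z)⁻¹ * ((ζ _)⁻¹ * (z * t)) = t
      group

variable {p : ℕ} [hp : Fact p.Prime] {M : Ideal AlgInt} [hMm : M.IsMaximal] [hchar : CharP (Kf M) p]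
  {G : Type u} [Group G] [Finite G] {B : Set (IrrCharacter G)} {P : Subgroup G} {c : MonoidAlgebra (Kf M) G}

/-- the stabilizer of `(P, c)` -/
noncomputable abbrev TT (P : Subgroup G) (c : MonoidAlgebra (Kf M) G) : Subgroup G :=
  stab (Subgroup.normalizer (P : Set G)) c

theorem conj_mem_of_TT {t : G} (ht : t ∈ TT P c) {x : G} (hx : x ∈ P) : t * x * t⁻¹ ∈ P :=
  (Subgroup.mem_normalizer_iff.1 ht.1 x).1 hx

theorem conj_mem_of_TT' {t : G} (ht : t ∈ TT P c) {x : G} (hx : x ∈ P) : t⁻¹ * x * t ∈ P := by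
  have := conj_mem_of_TT (inv_mem ht) hx
  rwa [inv_inv] at this

theorem cj_pr (hPc : BPair p P c) {t : G} (ht : t ∈ TT P c) {Q : Subgroup G} (hQ : Q ≤ P) :
    BrauerMap.cj t (pr p P c Q) = pr p P c (Q.map (MulAut.conj t).toMonoidHom) := by
  symm
  apply pr_eq hPc
  have h1 := (pr_spec hPc hQ).cj t
  simp only at h1
  rw [ht.2] at h1
  have e1 : P.map (MulAut.conj t).toMonoidHom = P := cg_of_mem_normalizer ht.1
  rwa [e1] at h1

theorem mem_fiber_iff (h : AbMax p B P c) {u y0 : G} (hy0 : y0⁻¹ * u * y0 ∈ P) (y : G) :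
    (y⁻¹ * u * y ∈ P ∧ BrauerMap.cj y (pr p P c (Subgroup.zpowers (y⁻¹ * u * y))) =
      BrauerMap.cj y0 (pr p P c (Subgroup.zpowers (y0⁻¹ * u * y0)))) ↔
    ∃ z ∈ Subgroup.centralizer ({y0⁻¹ * u * y0} : Set G), ∃ t ∈ TT P c, y0⁻¹ * y = z * t := by
  constructor
  · rintro ⟨hy, he⟩
    set v := y⁻¹ * u * y with hv
    set v0 := y0⁻¹ * u * y0 with hv0
    set x := y0⁻¹ * y with hx
    have e1 : x * v * x⁻¹ = v0 := by rw [hx, hv, hv0]; group
    have e2 : BrauerMap.cj x (pr p P c (Subgroup.zpowers v)) = pr p P c (Subgroup.zpowers v0) := by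
      rw [hx, BrauerMap.cj_mul, he, BrauerMap.cj_inv_cj]
    have e3 : cg x (Subgroup.zpowers v) = Subgroup.zpowers v0 := by
      show (Subgroup.zpowers v).map (MulAut.conj x).toMonoidHom = _
      rw [map_zpowers, e1]
    have h3 : PLE p (cg x (Subgroup.zpowers v), BrauerMap.cj x (pr p P c (Subgroup.zpowers v))) (P, c) := by
      rw [e2, e3]
      exact pr_spec h.pair (zpowers_le_of hy0)
    obtain ⟨z, hz, hzx⟩ := ab_factor h.pair h.max h.ab (pr_spec h.pair (zpowers_le_of hy)) h3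
    rw [e3, SubsecNorm.centralizer_zpowers] at hz
    exact ⟨z⁻¹, inv_mem hz, z * x, hzx, by group⟩
  · rintro ⟨z, hz, t, ht, he⟩
    set v0 := y0⁻¹ * u * y0 with hv0
    have hy : y = y0 * z * t := by rw [mul_assoc, ← he]; group
    have hzv : z⁻¹ * v0 * z = v0 := by
      rw [Subgroup.mem_centralizer_singleton_iff] at hz
      rw [mul_assoc, ← hz, inv_mul_cancel_left]
    have e1 : y⁻¹ * u * y = t⁻¹ * v0 * t := by
      have : y⁻¹ * u * y = t⁻¹ * (z⁻¹ * v0 * z) * t := by rw [hy, hv0]; group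
      rw [this, hzv]
    refine ⟨by rw [e1]; exact conj_mem_of_TT' ht hy0, ?_⟩
    rw [e1, hy, mul_assoc, BrauerMap.cj_mul, BrauerMap.cj_mul, cj_pr h.pair ht, map_zpowers]
    · have e2 : t * (t⁻¹ * v0 * t) * t⁻¹ = v0 := by group
      rw [e2]
      congr 1
      apply cj_eq_self (h.belt hy0).blk
      rw [Subgroup.mem_centralizer_singleton_iff] at hz
      rw [hz, mul_inv_cancel_right]
    · rw [Subgroup.zpowers_le]
      exact conj_mem_of_TT' ht hy0

theorem card_fiber (h : AbMax p B P c) {u y0 : G} (hy0 : y0⁻¹ * u * y0 ∈ P) :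
    Nat.card {y : G // y⁻¹ * u * y ∈ P ∧ BrauerMap.cj y (pr p P c (Subgroup.zpowers (y⁻¹ * u * y))) =
      BrauerMap.cj y0 (pr p P c (Subgroup.zpowers (y0⁻¹ * u * y0)))} *
      Nat.card (TT P c ⊓ Subgroup.centralizer ({y0⁻¹ * u * y0} : Set G) : Subgroup G) =
      Nat.card (Subgroup.centralizer ({y0⁻¹ * u * y0} : Set G)) * Nat.card (TT P c) := by
  rw [← card_prod]
  congr 1
  refine Nat.card_congr ⟨fun y => ⟨y0⁻¹ * y, (mem_fiber_iff h hy0 y).1 y.2⟩,
    fun x => ⟨y0 * x, (mem_fiber_iff h hy0 _).2 (by rw [inv_mul_cancel_left]; exact x.2)⟩, ?_, ?_⟩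
  · rintro ⟨y, hy⟩
    exact Subtype.ext (mul_inv_cancel_left y0 y)
  · rintro ⟨x, hx⟩
    exact Subtype.ext (inv_mul_cancel_left y0 x)

/-- `cid` of a conjugate block -/
theorem cid_blkOf_cj {y v : G} (hv : v ∈ P) (h : AbMax p B P c) :
    cid (Subgroup.centralizer ({y * v * y⁻¹} : Set G))
      (blkOf M (Subgroup.centralizer ({y * v * y⁻¹} : Set G)) (BrauerMap.cj y (pr p P c (Subgroup.zpowers v)))) =
      BrauerMap.cj y (eh p P c (Subgroup.zpowers v)) := by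
  rw [blkOf_cj y (mem_centralizer_conj_iff y v) (h.belt hv).blk, cj_cid y (mem_centralizer_conj_iff y v)]
  congr 1
  rw [eh]
  have hC := SubsecNorm.centralizer_zpowers v
  unfold bQ
  rw [hC]

theorem SB_fiber (h : AbMax p B P c) {f g : G → ℂ} (hf : IsClassFunction G f) (hg : IsClassFunction G g)
    {y v u : G} (hv : v ∈ P) (hu : y * v * y⁻¹ = u) :
    SB p (Subgroup.centralizer ({u} : Set G)) u (cid (Subgroup.centralizer ({u} : Set G))
      (blkOf M (Subgroup.centralizer ({u} : Set G)) (BrauerMap.cj y (pr p P c (Subgroup.zpowers v))))) f g =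
    SB p (Subgroup.centralizer ({v} : Set G)) v (eh p P c (Subgroup.zpowers v)) f g := by
  subst hu
  rw [cid_blkOf_cj hv h, SB_cj (mem_centralizer_conj_iff y v) _ hf hg]

theorem sum_ind (hM : IsPModular p M) (h : AbMax p B P c) [Fintype G] {f g : G → ℂ}
    (hf : IsClassFunction G f) (hg : IsClassFunction G g) {u : G} (hu : ∃ k : ℕ, orderOf u = p ^ k) :
    ∑ b ∈ (Set.toFinite {b : Set (IrrCharacter (Subgroup.centralizer ({u} : Set G))) |
        IsInducedBlock M (Subgroup.centralizer ({u} : Set G)) b B}).toFinset,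
        SB p (Subgroup.centralizer ({u} : Set G)) u (cid (Subgroup.centralizer ({u} : Set G)) b) f g =
    ∑ y : G, if y⁻¹ * u * y ∈ P then
      SB p (Subgroup.centralizer ({y⁻¹ * u * y} : Set G)) (y⁻¹ * u * y)
        (eh p P c (Subgroup.zpowers (y⁻¹ * u * y))) f g *
      ((Nat.card (TT P c ⊓ Subgroup.centralizer ({y⁻¹ * u * y} : Set G) : Subgroup G) : ℂ) /
        ((Nat.card (Subgroup.centralizer ({y⁻¹ * u * y} : Set G)) : ℂ) * (Nat.card (TT P c) : ℂ))) else 0 := by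
  rw [← Finset.sum_filter]
  set C := Subgroup.centralizer ({u} : Set G) with hC
  set φ : G → Set (IrrCharacter C) := fun y =>
    blkOf M C (BrauerMap.cj y (pr p P c (Subgroup.zpowers (y⁻¹ * u * y)))) with hφ
  -- the pairs `(u, φ y)` are Brauer elements
  have hbel : ∀ y : G, y⁻¹ * u * y ∈ P →
      BElt p (bidG M B) u (BrauerMap.cj y (pr p P c (Subgroup.zpowers (y⁻¹ * u * y)))) := by
    intro y hy
    have h1 := (h.belt hy).cj y
    have e1 : y * (y⁻¹ * u * y) * y⁻¹ = u := by group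
    rwa [e1] at h1
  have hmaps : ∀ y ∈ Finset.univ.filter (fun y : G => y⁻¹ * u * y ∈ P), φ y ∈
      (Set.toFinite {b : Set (IrrCharacter C) | IsInducedBlock M C b B}).toFinset := by
    intro y hy
    have h1 := hbel y (Finset.mem_filter.1 hy).2
    obtain ⟨h2, h3⟩ := blkOf_spec h1.blk
    rw [Set.Finite.mem_toFinset]
    exact (belt_iff h.blk hu h2).2 (by rw [h3]; exact h1)
  rw [← Finset.sum_fiberwise_of_maps_to hmaps]
  refine Finset.sum_congr rfl fun b hb => ?_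
  rw [Set.Finite.mem_toFinset] at hb
  have hb' : IsInducedBlock M C b B := hb
  have hbe := (belt_iff h.blk hu hb'.1).1 hb'
  -- the base point
  have hbx : BPair p (Subgroup.zpowers u) (bid M C b) := ⟨isPGroup_zpowers hu, by
    rw [SubsecNorm.centralizer_zpowers]
    exact hbe.blk⟩
  obtain ⟨x, hx⟩ := h.max.conj_into hasBlocks (isBlk_bidG h.blk) h.pair h.br hbx hbe.br
  rw [map_zpowers] at hx
  have hxP : x * u * x⁻¹ ∈ P := hx.le (Subgroup.mem_zpowers _)
  have hx1 : (x⁻¹)⁻¹ * u * x⁻¹ ∈ P := by rwa [inv_inv]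
  have hx2 : φ x⁻¹ = b := by
    rw [hφ]
    simp only [inv_inv]
    rw [pr_eq h.pair hx, BrauerMap.cj_inv_cj, blkOf_bid hb'.1]
  -- fibers
  have hfib : ∀ y, y⁻¹ * u * y ∈ P → (φ y = b ↔
      BrauerMap.cj y (pr p P c (Subgroup.zpowers (y⁻¹ * u * y))) = bid M C b) := by
    intro y hy
    obtain ⟨h2, h3⟩ := blkOf_spec (hbel y hy).blk
    constructor
    · intro e
      rw [← h3]
      exact congrArg (bid M C) e
    · intro e
      show blkOf M C _ = b
      rw [e, blkOf_bid hb'.1]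
  set N : ℕ := ((Finset.univ.filter (fun y : G => y⁻¹ * u * y ∈ P)).filter (fun y => φ y = b)).card with hN
  have hN0 : (N : ℂ) ≠ 0 := by
    rw [Nat.cast_ne_zero, hN, ← Nat.pos_iff_ne_zero, Finset.card_pos]
    exact ⟨x⁻¹, Finset.mem_filter.2 ⟨Finset.mem_filter.2 ⟨Finset.mem_univ _, hx1⟩, hx2⟩⟩
  have hval : ∀ y ∈ (Finset.univ.filter (fun y : G => y⁻¹ * u * y ∈ P)).filter (fun y => φ y = b),
      SB p (Subgroup.centralizer ({y⁻¹ * u * y} : Set G)) (y⁻¹ * u * y)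
        (eh p P c (Subgroup.zpowers (y⁻¹ * u * y))) f g *
      ((Nat.card (TT P c ⊓ Subgroup.centralizer ({y⁻¹ * u * y} : Set G) : Subgroup G) : ℂ) /
        ((Nat.card (Subgroup.centralizer ({y⁻¹ * u * y} : Set G)) : ℂ) * (Nat.card (TT P c) : ℂ))) =
      SB p C u (cid C b) f g * (N : ℂ)⁻¹ := by
    intro y hy
    rw [Finset.mem_filter, Finset.mem_filter] at hy
    obtain ⟨⟨-, hyP⟩, hyb⟩ := hy
    congr 1
    · have e1 : y * (y⁻¹ * u * y) * y⁻¹ = u := by group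
      have h1 := SB_fiber h hf hg hyP e1
      rw [← h1, ← hyb]
    · have h1 := card_fiber h hyP
      have h2 : Nat.card {z : G // z⁻¹ * u * z ∈ P ∧
          BrauerMap.cj z (pr p P c (Subgroup.zpowers (z⁻¹ * u * z))) =
          BrauerMap.cj y (pr p P c (Subgroup.zpowers (y⁻¹ * u * y)))} = N := by
        rw [hN, Nat.card_eq_fintype_card, Fintype.card_subtype, Finset.filter_filter]
        congr 1
        ext z
        simp only [Finset.mem_filter, Finset.mem_univ, true_and]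
        refine and_congr_right fun hz => ?_
        rw [hfib z hz, ← (hfib y hyP).1 hyb]
      rw [h2] at h1
      have hT : (Nat.card (TT P c) : ℂ) ≠ 0 := Nat.cast_ne_zero.2 Nat.card_pos.ne'
      have hCc : (Nat.card (Subgroup.centralizer ({y⁻¹ * u * y} : Set G)) : ℂ) ≠ 0 :=
        Nat.cast_ne_zero.2 Nat.card_pos.ne'
      rw [div_eq_iff (mul_ne_zero hCc hT), eq_comm, inv_mul_eq_iff_eq_mul₀ hN0]
      exact_mod_cast h1.symm
  rw [Finset.sum_congr rfl hval, Finset.sum_const, nsmul_eq_mul, ← hN]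
  field_simp

/-- **The section formula.** -/
theorem sec_formula (hM : IsPModular p M) (h : AbMax p B P c) [Fintype G] {f g : G → ℂ}
    (hf : f ∈ spn B) (hg : IsClassFunction G g) :
    classInner f g = ∑ v : G, if v ∈ P then
      (Nat.card (TT P c ⊓ Subgroup.centralizer ({v} : Set G) : Subgroup G) : ℂ) / (Nat.card (TT P c) : ℂ) *
      ((Nat.card (Subgroup.centralizer ({v} : Set G)) : ℂ)⁻¹ *
        SB p (Subgroup.centralizer ({v} : Set G)) v (eh p P c (Subgroup.zpowers v)) f g) else 0 := by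
  have hfc := spn_classFunction hf
  rw [classInner, sum_pp hp.out (fun x => f x * conj (g x))]
  have e1 : ∀ u : G, (if (∃ k : ℕ, orderOf u = p ^ k) then
      ∑ s : G, (if Commute u s ∧ ¬ p ∣ orderOf s then f (u * s) * conj (g (u * s)) else 0) else 0) =
      ∑ y : G, if y⁻¹ * u * y ∈ P then
      SB p (Subgroup.centralizer ({y⁻¹ * u * y} : Set G)) (y⁻¹ * u * y)
        (eh p P c (Subgroup.zpowers (y⁻¹ * u * y))) f g *
      ((Nat.card (TT P c ⊓ Subgroup.centralizer ({y⁻¹ * u * y} : Set G) : Subgroup G) : ℂ) /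
        ((Nat.card (Subgroup.centralizer ({y⁻¹ * u * y} : Set G)) : ℂ) * (Nat.card (TT P c) : ℂ))) else 0 := by
    intro u
    by_cases hu : ∃ k : ℕ, orderOf u = p ^ k
    · rw [if_pos hu, section_sum hM h.blk hf hg hu, sum_ind hM h hfc hg hu]
    · rw [if_neg hu]
      symm
      refine Finset.sum_eq_zero fun y _ => ?_
      rw [if_neg]
      intro hy
      apply hu
      obtain ⟨k, hk⟩ := orderOf_mem h.pair.1 hy
      refine ⟨k, ?_⟩
      rw [← hk]
      have := orderOf_injective (MulAut.conj y).toMonoidHom (MulAut.conj y).injective (y⁻¹ * u * y)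
      rw [← this]
      congr 1
      show u = y * (y⁻¹ * u * y) * y⁻¹
      group
  rw [Finset.sum_congr rfl fun u _ => e1 u, Finset.sum_comm]
  set F : G → ℂ := fun v => if v ∈ P then
      SB p (Subgroup.centralizer ({v} : Set G)) v (eh p P c (Subgroup.zpowers v)) f g *
      ((Nat.card (TT P c ⊓ Subgroup.centralizer ({v} : Set G) : Subgroup G) : ℂ) /
        ((Nat.card (Subgroup.centralizer ({v} : Set G)) : ℂ) * (Nat.card (TT P c) : ℂ))) else 0 with hF
  have e2 : ∀ y : G, ∑ u : G, F (y⁻¹ * u * y) = ∑ v : G, F v := by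
    intro y
    refine Fintype.sum_equiv (MulAut.conj y⁻¹).toEquiv _ _ fun u => ?_
    congr 1
    show _ = y⁻¹ * u * y⁻¹⁻¹
    rw [inv_inv]
  have e3 : ∀ y : G, (∑ u : G, if y⁻¹ * u * y ∈ P then
      SB p (Subgroup.centralizer ({y⁻¹ * u * y} : Set G)) (y⁻¹ * u * y)
        (eh p P c (Subgroup.zpowers (y⁻¹ * u * y))) f g *
      ((Nat.card (TT P c ⊓ Subgroup.centralizer ({y⁻¹ * u * y} : Set G) : Subgroup G) : ℂ) /
        ((Nat.card (Subgroup.centralizer ({y⁻¹ * u * y} : Set G)) : ℂ) * (Nat.card (TT P c) : ℂ))) else 0) =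
      ∑ v : G, F v := fun y => e2 y
  rw [Finset.sum_congr rfl fun y _ => e3 y, Finset.sum_const, Finset.card_univ, nsmul_eq_mul,
    ← Nat.card_eq_fintype_card, ← mul_assoc, inv_mul_cancel₀ (Nat.cast_ne_zero.2 Nat.card_pos.ne'), one_mul]
  refine Finset.sum_congr rfl fun v _ => ?_
  simp only [hF]
  split_ifs with hv
  · have hT : (Nat.card (TT P c) : ℂ) ≠ 0 := Nat.cast_ne_zero.2 Nat.card_pos.ne'
    have hCc : (Nat.card (Subgroup.centralizer ({v} : Set G)) : ℂ) ≠ 0 := Nat.cast_ne_zero.2 Nat.card_pos.ne'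
    field_simp
  · rfl

end Cfsg.Agent.Lib.AbSec
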