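import Cfsg.Agent.Lib.AbSec3

/-!
# Blocks with abelian defect groups: the section formula in the centralizers (helper77)
-/

set_option autoImplicit false
set_option linter.all false

namespace Cfsg.Agent.Lib.AbSec

open Cfsg Cfsg.Agent.Lib.BlockRing Cfsg.Agent.Lib.BlockGA Cfsg.Agent.Lib.BlockIdem
open Cfsg.Agent.Lib.BlkIdem Cfsg.Agent.Lib.BlockAlg Cfsg.Agent.Lib.PairAlg Cfsg.Agent.Lib.PairMax
open Cfsg.Agent.Lib.BrauerPairs Cfsg.Agent.Lib.NormalPBlk Cfsg.Agent.Lib.DefPairs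
open Cfsg.Agent.Lib.BlkTransport Cfsg.Agent.Lib.BlkFus Cfsg.Agent.Lib.InducedPair
open Cfsg.Agent.Lib.BlockCount Cfsg.Agent.Lib.BlockPair Cfsg.Agent.Lib.PairCount
open Cfsg.Agent.Lib.AbFusion Cfsg.Agent.Lib.AbCount Cfsg.Agent.Lib.BlockSecond
open Cfsg.Agent.Lib.CharBasic
open MonoidAlgebra (single)
open scoped ComplexConjugate Classical

universe u v

variable {p : ℕ} [hp : Fact p.Prime] {M : Ideal AlgInt} [hMm : M.IsMaximal] [hchar : CharP (Kf M) p]
  {G : Type u} [Group G] [Finite G] {B : Set (IrrCharacter G)} {P : Subgroup G} {c : MonoidAlgebra (Kf M) G}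

/-- abbreviation for the centralizer -/
abbrev Cn (Q : Subgroup G) : Subgroup G := Subgroup.centralizer (Q : Set G)

theorem mem_Cn_sup_zpowers {Q : Subgroup G} {v g : G} :
    g ∈ Cn (Q ⊔ Subgroup.zpowers v) ↔ g ∈ Cn Q ∧ Commute v g := by
  constructor
  · intro hg
    have h := Subgroup.mem_centralizer_iff.1 hg
    exact ⟨Subgroup.mem_centralizer_iff.2 fun x hx => h x ((le_sup_left : Q ≤ _) hx),
      h v ((le_sup_right : Subgroup.zpowers v ≤ _) (Subgroup.mem_zpowers v))⟩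
  · rintro ⟨h1, h2⟩
    have h3 : Q ⊔ Subgroup.zpowers v ≤ Subgroup.centralizer ({g} : Set G) := by
      apply sup_le
      · intro x hx
        rw [Subgroup.mem_centralizer_singleton_iff]
        exact Subgroup.mem_centralizer_iff.1 h1 x hx
      · rw [Subgroup.zpowers_le, Subgroup.mem_centralizer_singleton_iff]
        exact h2
    rw [Subgroup.mem_centralizer_iff]
    intro x hx
    exact Subgroup.mem_centralizer_singleton_iff.1 (h3 hx)

theorem pr_resQ (h : AbMax p B P c) {Q : Subgroup G} (hQ : Q ≤ P) {R : Subgroup G} (hQR : Q ≤ R) (hR : R ≤ P) :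
    pr p (P.subgroupOf (Cn Q)) (BlockAlg.res (Cn Q) c) (R.subgroupOf (Cn Q)) =
      BlockAlg.res (Cn Q) (pr p P c R) := by
  apply pr_eq (h.resQ hQ).pair
  exact ple_inc (pr_spec h.pair hR) (h.P_leQ hQ) (Subgroup.centralizer_le (SetLike.coe_subset_coe.2 hQR))

theorem Cn_zpowers_eq (h : AbMax p B P c) {Q : Subgroup G} (hQ : Q ≤ P) (v : Cn Q) (hv : (v : G) ∈ P) :
    Subgroup.centralizer ((Subgroup.zpowers v : Subgroup (Cn Q)) : Set (Cn Q)) =
      Subgroup.centralizer (((Q ⊔ Subgroup.zpowers (v : G)).subgroupOf (Cn Q) : Subgroup (Cn Q)) : Set (Cn Q)) := by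
  have hR : Q ⊔ Subgroup.zpowers (v : G) ≤ P := sup_le hQ (zpowers_le_of hv)
  rw [centralizer_subgroupOf (hR.trans (h.P_leQ hQ)), SubsecNorm.centralizer_zpowers]
  ext x
  rw [Subgroup.mem_centralizer_singleton_iff, Subgroup.mem_subgroupOf, mem_Cn_sup_zpowers]
  constructor
  · intro h1
    exact ⟨x.2, (congrArg Subtype.val h1).symm⟩
  · intro h1
    exact Subtype.ext h1.2.eq.symm

theorem pr_zpowers_resQ (h : AbMax p B P c) {Q : Subgroup G} (hQ : Q ≤ P) (v : Cn Q) (hv : (v : G) ∈ P) :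
    pr p (P.subgroupOf (Cn Q)) (BlockAlg.res (Cn Q) c) (Subgroup.zpowers v) =
      BlockAlg.res (Cn Q) (pr p P c (Q ⊔ Subgroup.zpowers (v : G))) := by
  have hR : Q ⊔ Subgroup.zpowers (v : G) ≤ P := sup_le hQ (zpowers_le_of hv)
  rw [← pr_resQ h hQ le_sup_left hR]
  apply pr_congr (h.resQ hQ).pair _ _ (Cn_zpowers_eq h hQ v hv) (h.resQ hQ).ab
  · rw [Subgroup.zpowers_le, Subgroup.mem_subgroupOf]
    exact (le_sup_right : Subgroup.zpowers (v : G) ≤ _) (Subgroup.mem_zpowers _)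
  · intro x hx
    exact Subgroup.mem_subgroupOf.2 (hR (Subgroup.mem_subgroupOf.1 hx))

theorem redA_incH {H : Subgroup G} (z : GA H) : redA M (incH H z) = inc H (redA M z) := by
  apply BrauerMap.ext_coeff
  intro g
  rw [redA_coeff]
  by_cases hg : g ∈ H
  · have e1 := coeff_incH_coe z ⟨g, hg⟩
    have e2 := inc_coeff_coe H (redA M z) ⟨g, hg⟩
    simp only at e1 e2
    rw [e1, e2, redA_coeff]
  · rw [coeff_incH_of_not_mem z hg, inc_coeff_not_mem H _ hg, red_zero]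

theorem incH_mem_ZAlg {K H : Subgroup G} (hKH : K ≤ H) {z : GA H}
    (hz : z ∈ BrauerMap.ZAlg ℂ (K.subgroupOf H)) : incH H z ∈ BrauerMap.ZAlg ℂ K := by
  refine BrauerMap.mem_ZAlg.2 ⟨?_, ?_⟩
  · intro g hg
    by_cases hgH : g ∈ H
    · have e1 := coeff_incH_coe z ⟨g, hgH⟩
      simp only at e1
      rw [e1]
      exact hz.1 _ (fun h => hg (Subgroup.mem_subgroupOf.1 h))
    · exact coeff_incH_of_not_mem z hgH
  · rw [BrauerMap.mem_fixAlg_iff_coeff]
    intro x hx g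
    by_cases hgH : g ∈ H
    · have hc := (BrauerMap.mem_fixAlg_iff_coeff.1 hz.2) ⟨x, hKH hx⟩ (Subgroup.mem_subgroupOf.2 hx) ⟨g, hgH⟩
      have e1 := coeff_incH_coe z ⟨g, hgH⟩
      have e2 := coeff_incH_coe z (⟨x, hKH hx⟩ * ⟨g, hgH⟩ * ⟨x, hKH hx⟩⁻¹)
      simp only at e1
      rw [e1, ← hc, ← e2]
      rfl
    · rw [coeff_incH_of_not_mem z hgH, coeff_incH_of_not_mem]
      intro h1
      apply hgH
      have := H.mul_mem (H.mul_mem (H.inv_mem (hKH hx)) h1) (hKH hx)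
      have e : x⁻¹ * (x * g * x⁻¹) * x = g := by group
      rwa [e] at this

/-- the local idempotents of `C(Q)` computed in `G` -/
theorem incH_eh (h : AbMax p B P c) {Q : Subgroup G} (hQ : Q ≤ P) (v : Cn Q) (hv : (v : G) ∈ P) :
    incH (Cn Q) (eh p (P.subgroupOf (Cn Q)) (BlockAlg.res (Cn Q) c) (Subgroup.zpowers v)) =
      eh p P c (Q ⊔ Subgroup.zpowers (v : G)) := by
  have hR : Q ⊔ Subgroup.zpowers (v : G) ≤ P := sup_le hQ (zpowers_le_of hv)
  have hv' : Subgroup.zpowers v ≤ P.subgroupOf (Cn Q) := by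
    rw [Subgroup.zpowers_le, Subgroup.mem_subgroupOf]; exact hv
  have := BlockAlg.isMax (p := p) (M := M)
  haveI : M.IsPrime := hMm.isPrime
  apply eq_eh h.pair hR
  · apply incH_mem_ZAlg (Subgroup.centralizer_le (SetLike.coe_subset_coe.2 le_sup_left))
    rw [← centralizer_subgroupOf (hR.trans (h.P_leQ hQ)), ← Cn_zpowers_eq h hQ v hv]
    exact eh_ZAlg _
  · rw [← map_mul, eh_idem]
  · exact locA_incH (eh_loc (h.resQ hQ).pair hv')
  · rw [redA_incH, eh_red (h.resQ hQ).pair hv', pr_zpowers_resQ h hQ v hv, inc_res]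
    exact BrauerMap.suppAlg_mono (Subgroup.centralizer_le (SetLike.coe_subset_coe.2 le_sup_left))
      (pr_pair h.pair hR).2.mem.1

/-- the normalized section form at `R` -/
noncomputable def JJ (p : ℕ) (P : Subgroup G) (c : MonoidAlgebra (Kf M) G) (R : Subgroup G) (v : G)
    (f g : G → ℂ) : ℂ :=
  (Nat.card (Cn R) : ℂ)⁻¹ * SB p (Cn R) v (eh p P c R) f g

theorem SB_res (h : AbMax p B P c) {Q : Subgroup G} (hQ : Q ≤ P) (v : Cn Q) (hv : (v : G) ∈ P) (f g : G → ℂ) :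
    SB p (Subgroup.centralizer ({v} : Set (Cn Q))) v
      (eh p (P.subgroupOf (Cn Q)) (BlockAlg.res (Cn Q) c) (Subgroup.zpowers v))
      (fun x : Cn Q => f x) (fun x : Cn Q => g x) =
    SB p (Cn (Q ⊔ Subgroup.zpowers (v : G))) (v : G) (eh p P c (Q ⊔ Subgroup.zpowers (v : G))) f g := by
  haveI := Fintype.ofFinite G
  haveI := Fintype.ofFinite (Cn Q)
  rw [SB_eq, SB_eq]
  have e1 : ∀ s : G, (if s ∈ Cn (Q ⊔ Subgroup.zpowers (v : G)) ∧ ¬ p ∣ orderOf s then
      lin f (single ((v : G) * s) 1 * eh p P c (Q ⊔ Subgroup.zpowers (v : G))) *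
        conj (lin g (single ((v : G) * s) 1 * eh p P c (Q ⊔ Subgroup.zpowers (v : G)))) else 0) =
      if s ∈ Cn Q then (if Commute (v : G) s ∧ ¬ p ∣ orderOf s then
      lin f (single ((v : G) * s) 1 * eh p P c (Q ⊔ Subgroup.zpowers (v : G))) *
        conj (lin g (single ((v : G) * s) 1 * eh p P c (Q ⊔ Subgroup.zpowers (v : G)))) else 0) else 0 := by
    intro s
    by_cases h1 : s ∈ Cn Q
    · rw [if_pos h1]
      by_cases h2 : Commute (v : G) s ∧ ¬ p ∣ orderOf s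
      · rw [if_pos h2, if_pos ⟨mem_Cn_sup_zpowers.2 ⟨h1, h2.1⟩, h2.2⟩]
      · rw [if_neg h2, if_neg]
        exact fun h3 => h2 ⟨(mem_Cn_sup_zpowers.1 h3.1).2, h3.2⟩
    · rw [if_neg h1, if_neg]
      exact fun h3 => h1 (mem_Cn_sup_zpowers.1 h3.1).1
  rw [Finset.sum_congr rfl fun s _ => e1 s, sum_mem_eq (Cn Q)]
  refine Finset.sum_congr rfl fun s _ => ?_
  have e2 : ∀ F : G → ℂ, lin (fun x : Cn Q => F x)
      (single (v * s) 1 * eh p (P.subgroupOf (Cn Q)) (BlockAlg.res (Cn Q) c) (Subgroup.zpowers v)) =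
      lin F (single ((v : G) * s) 1 * eh p P c (Q ⊔ Subgroup.zpowers (v : G))) := by
    intro F
    rw [← lin_incH, map_mul, incH_single, incH_eh h hQ v hv]
    rfl
  rw [e2 f, e2 g]
  have e3 : (s ∈ Subgroup.centralizer ({v} : Set (Cn Q)) ∧ ¬ p ∣ orderOf s) ↔
      (Commute (v : G) s ∧ ¬ p ∣ orderOf (s : G)) := by
    rw [Subgroup.orderOf_coe, Subgroup.mem_centralizer_singleton_iff]
    refine and_congr_left fun _ => ?_
    constructor
    · intro h1
      exact (congrArg Subtype.val h1).symm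
    · intro h1
      exact Subtype.ext h1.eq.symm
  by_cases h4 : s ∈ Subgroup.centralizer ({v} : Set (Cn Q)) ∧ ¬ p ∣ orderOf s
  · rw [if_pos h4, if_pos (e3.1 h4)]
  · rw [if_neg h4, if_neg (fun h5 => h4 (e3.2 h5))]

theorem card_subgroupOf_eq {K H : Subgroup G} (hKH : K ≤ H) : Nat.card (K.subgroupOf H) = Nat.card K :=
  Nat.card_congr (Subgroup.subgroupOfEquivOfLe hKH).toEquiv

theorem centralizer_singleton_res (v : G) {Q : Subgroup G} (hv : v ∈ Cn Q) :
    Subgroup.centralizer ({(⟨v, hv⟩ : Cn Q)} : Set (Cn Q)) = (Cn (Q ⊔ Subgroup.zpowers v)).subgroupOf (Cn Q) := by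
  ext x
  rw [Subgroup.mem_centralizer_singleton_iff, Subgroup.mem_subgroupOf, mem_Cn_sup_zpowers]
  constructor
  · intro h1
    exact ⟨x.2, (congrArg Subtype.val h1).symm⟩
  · intro h1
    exact Subtype.ext h1.2.eq.symm

theorem TT_res (h : AbMax p B P c) {Q : Subgroup G} (hQ : Q ≤ P) :
    TT (P.subgroupOf (Cn Q)) (BlockAlg.res (Cn Q) c) = (TT P c).subgroupOf (Cn Q) := by
  ext t
  rw [Subgroup.mem_subgroupOf]
  exact h.mem_stab_resQ hQ

/-- the order of `T ∩ C(R)` -/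
noncomputable def AL (P : Subgroup G) (c : MonoidAlgebra (Kf M) G) (R : Subgroup G) : ℂ :=
  (Nat.card (TT P c ⊓ Cn R : Subgroup G) : ℂ)

theorem AL_ne_zero (R : Subgroup G) : AL P c R ≠ 0 := Nat.cast_ne_zero.2 Nat.card_pos.ne'

/-- **The section formula in `C(Q)`.** -/
theorem sec_Q (hM : IsPModular p M) (h : AbMax p B P c) {Q : Subgroup G} (hQ : Q ≤ P) [Fintype G]
    [Fintype (Cn Q)] {f g : G → ℂ} (hf : (fun x : Cn Q => f x) ∈ spn (bQ p P c Q))
    (hg : IsClassFunction (Cn Q) (fun x : Cn Q => g x)) :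
    AL P c Q * classInner (fun x : Cn Q => f x) (fun x : Cn Q => g x) =
      ∑ v : G, if v ∈ P then AL P c (Q ⊔ Subgroup.zpowers v) * JJ p P c (Q ⊔ Subgroup.zpowers v) v f g else 0 := by
  have hPK := h.P_leQ hQ
  rw [sec_formula hM (h.resQ hQ) hf hg, Finset.mul_sum]
  have e1 : ∀ v : G, (if v ∈ P then AL P c (Q ⊔ Subgroup.zpowers v) * JJ p P c (Q ⊔ Subgroup.zpowers v) v f g else 0) =
      if v ∈ Cn Q then (if v ∈ P then AL P c (Q ⊔ Subgroup.zpowers v) * JJ p P c (Q ⊔ Subgroup.zpowers v) v f g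
        else 0) else 0 := by
    intro v
    by_cases h1 : v ∈ P
    · rw [if_pos (hPK h1)]
    · rw [if_neg h1, ite_self]
  rw [Finset.sum_congr rfl fun v _ => e1 v, sum_mem_eq (Cn Q)]
  refine Finset.sum_congr rfl fun v _ => ?_
  by_cases hv : (v : G) ∈ P
  · have hv' : v ∈ P.subgroupOf (Cn Q) := Subgroup.mem_subgroupOf.2 hv
    rw [if_pos hv, if_pos hv', SB_res h hQ v hv f g]
    have hle : Cn (Q ⊔ Subgroup.zpowers (v : G)) ≤ Cn Q :=
      Subgroup.centralizer_le (SetLike.coe_subset_coe.2 le_sup_left)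
    have hc1 : Nat.card (Subgroup.centralizer ({v} : Set (Cn Q))) = Nat.card (Cn (Q ⊔ Subgroup.zpowers (v : G))) := by
      rw [show v = (⟨(v : G), v.2⟩ : Cn Q) from rfl, centralizer_singleton_res (v : G) v.2, card_subgroupOf_eq hle]
    have hc2 : Nat.card (TT (P.subgroupOf (Cn Q)) (BlockAlg.res (Cn Q) c)) = Nat.card (TT P c ⊓ Cn Q : Subgroup G) := by
      rw [TT_res h hQ, ← Subgroup.inf_subgroupOf_right, card_subgroupOf_eq inf_le_right]
    have hc3 : Nat.card (TT (P.subgroupOf (Cn Q)) (BlockAlg.res (Cn Q) c) ⊓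
        Subgroup.centralizer ({v} : Set (Cn Q)) : Subgroup (Cn Q)) =
        Nat.card (TT P c ⊓ Cn (Q ⊔ Subgroup.zpowers (v : G)) : Subgroup G) := by
      rw [TT_res h hQ, show v = (⟨(v : G), v.2⟩ : Cn Q) from rfl, centralizer_singleton_res (v : G) v.2]
      have e5 : (TT P c).subgroupOf (Cn Q) ⊓ (Cn (Q ⊔ Subgroup.zpowers (v : G))).subgroupOf (Cn Q) =
          (TT P c ⊓ Cn (Q ⊔ Subgroup.zpowers (v : G))).subgroupOf (Cn Q) := by
        ext x
        simp only [Subgroup.mem_inf, Subgroup.mem_subgroupOf]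
      rw [e5, card_subgroupOf_eq (inf_le_right.trans hle)]
    rw [hc1, hc2, hc3, JJ, AL, AL]
    have h0 : (Nat.card (TT P c ⊓ Cn Q : Subgroup G) : ℂ) ≠ 0 := AL_ne_zero Q
    field_simp
  · have hv' : v ∉ P.subgroupOf (Cn Q) := fun h' => hv (Subgroup.mem_subgroupOf.1 h')
    rw [if_neg hv, if_neg hv', mul_zero]

end Cfsg.Agent.Lib.AbSec
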