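import Cfsg.Agent.Lib.GolayM12b
import Cfsg.Agent.Lib.MElevenGraph
import Cfsg.Agent.Lib.SmallSimple
import Cfsg.Prelude.Def_Spor_Mathieu

/-!
The 165 involutions of the Mathieu group of degree 11, their commuting relation, and their
characterization by the order of the centralizer.
-/

set_option autoImplicit false

namespace Cfsg.Agent.Lib.MElevenInv

open Cfsg Cfsg.Agent.Lib.Golay
open Cfsg.Agent.Lib.MElevenGraph (bt bt_eq R RT)
open scoped Pointwise

/-- the group -/
abbrev W : Type := ↥Cfsg.Spor.M11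

theorem sq_eq : Spor.squareDodecad = mset 340831 := by
  have : qm (0 : ZMod 23).val = 340831 := by decide +kernel
  rw [Spor.squareDodecad, qrWord_eq, support₂_wd, this]

theorem sq_mem : Spor.squareDodecad ∈ dodecads := by
  refine ⟨⟨qrWord 0, Submodule.subset_span (Set.mem_union_left _ ⟨0, rfl⟩), rfl⟩, ?_⟩
  rw [Spor.squareDodecad, qrWord_eq, support₂_wd, card_mset]
  decide +kernel

theorem zero_mem : (some 0 : GolayPt) ∈ Spor.squareDodecad := by
  rw [sq_eq, mem_mset]
  decide +kernel

/-- the group as an intersection of stabilizers in the large group -/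
def toN : W ≃* ↥(MulAction.stabilizer M24 Spor.squareDodecad ⊓ MulAction.stabilizer M24 (some 0 : GolayPt)) where
  toFun g := ⟨⟨g.1, g.2.1.1⟩, g.2.1.2, g.2.2⟩
  invFun g := ⟨g.1.1, ⟨g.1.2, g.2.1⟩, g.2.2⟩
  left_inv _ := rfl
  right_inv _ := rfl
  map_mul' _ _ := rfl

theorem card_W : Nat.card W = 7920 := by
  rw [Nat.card_congr toN.toEquiv]
  exact card_stab_dodecad_point sq_mem zero_mem

theorem simple_W : IsSimpleGroup W :=
  isSimpleGroup_of_mulEquiv toN.symm (M11_simple sq_mem zero_mem)

/-- membership test -/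
def inW (c : ℕ) : Bool := cond (inM c) (cond (Nat.beq (imgM c 340831) 340831) (Nat.beq (img c 0) 0) false) false

theorem mem_W {c : ℕ} (h : inW c = true) : toPerm c ∈ Cfsg.Spor.M11 := by
  rw [inW, cond_false_eq, cond_false_eq] at h
  obtain ⟨h1, h2, h3⟩ := h
  have hv := valid_of_inM h1
  refine ⟨⟨toPerm_mem_M24 h1, ?_⟩, ?_⟩
  · show toPerm c • Spor.squareDodecad = Spor.squareDodecad
    rw [sq_eq, toPerm_smul_mset hv, Nat.eq_of_beq_eq_true h2]
  · show toPerm c (some 0) = some 0
    have h4 : (some 0 : GolayPt) = pt 0 := by decide +kernel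
    rw [h4, toPerm_pt hv (by norm_num), Nat.eq_of_beq_eq_true h3]

theorem valid_W {c : ℕ} (h : inW c = true) : valid c = true := by
  rw [inW, cond_false_eq] at h
  exact valid_of_inM h.1

/-- the element with a given code -/
noncomputable def el (c : ℕ) (h : inW c = true) : W := ⟨toPerm c, mem_W h⟩

theorem toPerm_injOn {c d : ℕ} (hc : valid c = true) (hd : valid d = true) (h : toPerm c = toPerm d)
    (i : ℕ) (hi : i < 24) : img c i = img d i := by
  have h1 := congrArg (fun g : Equiv.Perm GolayPt => ix (g (pt i))) h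
  simp only [ix_toPerm hc, ix_toPerm hd, ix_pt hi] at h1
  exact h1

/-- codes of the involutions -/
def cdTab : ℕ := 0x99d74b91d07c441aa868b18b24b580bd94f3ca30a384c2d4c39a5614348052cb4732247cd12b5c4d39ab01a420adaeb286263b98da29237c26440a409daa7b98b07b86252c28a4a246b120759748a6682dda1aaa50399e320980b96b48866c7a9b03b90959ac410e40bd1f65ca22a9c649a928704ac6c0c0b9cb3a09507b9285c5acb1aa3248205d9519ca8379cccbd488734a980440b5eb498cb03ac28728cc7a624909a0b5dd4799509d4895c5833c8ad40820bba95886697d9a85960c3914618a40a56d7512232b82c5cd09399f2809a0b9667a8a23539a15bcc8a26c4849807d2b6989d0bc58d52d2838ca134880bacea991c87c58db5130a98b21844072a345caa47dda19d923388b0419805d2b69ca2953881bbe0828ced30980bbd73a0e30b29a4ab822398ac92120aaef49b1ed8ba12b152438548188c0b9eb1536815ba4c7cc48b18a3226008da6fac2f2a390c59ccd524a410c20b5e279a6b07a9a65ba43a30a44044055a959896c73db08dc863a0a91c820bd6cb998a87b92ca1db054a24088603bd549ca30b2cc87542cbb4a2191205d9d49a2292d4ccb9e12535e3208202ceb4b36295ba4c79e06522e4184407dab438970ba9ac8b90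9990a60c860a59d73b4b07d64c5a82498e283092073eb19ca83b5da83a84c598a182480796b458cecbb9b09a928892c690440baab49c9e689c2c2d9247416810da0bdab15ca81515a69bc683b1c249200a3cb79b5d0b46425a90939aa11b0809d9f1bca84ab98d5a828298f010d207cdd4b1a30bd50c2a92d3c963204402d954749e88cc8c5d450386ed1a4c03daaf9c950a15045c46db89cc49820a1eb79a6307a88c2ba41b196d10d00996aebc2325d1237a9a839ac4604403d8b47a5709b98d8aa42b92a61a020b5eae2a62d7d20359e465226460820bd1d69a2303d4615953279146689802da6ba8e267a9aca38413c2e4925002b8f4991617d9ac8a8c2aa6f21a200bbaab3c2322d9aca2883985e9408c0b5e74a9a2273da83a86c5c8a44c0208a9c59b6e27d64c5d9233928644020bd9f474942acc833c509598ad640202c6aa9cac27ad8d750c13a6e41c100bda959c9e48ac29729862a0f0189a0bbe343cab0b15a25a88198dc933100752b62c9e88dcc35a9303b66160880b5eb3a2170795a38a8d23a5c261020bceafb04b0a28cc5b8623b6244a2405c5f49cacda9602ba8c83a5c323020b5e9598ce42b9a65a9098b1f090820bd6ce8b2693d0725aa01798a468900bcca7b0a307ad097298da06a41c8c03aea59c23273c88b292cb8a8d19820bda74aa4a259c2c7aa4870e24341a0bd1767a4b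09b8c4aaa483b62c088608adf3a22edaba04b2932398ac10c20b5caf9b230a385252d0938ea433420bce34b36b03ba4352d21788a4619003d9d3a0e307d4c252d24bb4a893020a96f49b22179cd252d28736c410e0051dee9a62cad0705de48b18a269020bc4b49a2c673d2259db2542a41b0205daae7b0e39d132ba9a8890a6808208d8ae9b6e37d2493a98259aa482020bd8f45a22273da699532ab1411c0802da349caa9539a33be02586e4620c09c6b4bcac651c495bd88740a40b46075aab998e37dda4a15218c94c80900bd96e50e2d7d209acd88298e1908807da33a12b0bb9a85952c3855210cc0ad2f6540f27b8265cd288b0a3209a053aa75a6247d9a29de48a04b01b0c0b5eab8a261539a9a3d9238ca430a00a5977985503b903ac48d798a960a40a4d57b21707b82c8d492388a9199a05d6d43c9ed8ba0cba861990a6489002aab13ca827b9ac5d8269a2e324120aceeab1a2c73c305d1223c8a41a1a079d5498cb0bb92c5d5a8b0622910c0b9eb47b6309964652c88b31c910c208dab428ae873c6652d303b2646c820bd8aa8a6615b8487d24c39aa41b600714f3a0a217dda35a924a9ac864a00abaf479a219d98d5a8882c8e918a007daa55122db9e0c5cd2870a920986055a74ac0f2795a45dc4888dcc324209d8b4ba2303a98d5b85279aa40a4603ceb4b05d07c44459526ba14c1b64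055ab4989c95c4247de08298ec1c9a0bdaa57196d7ce0c89d0954a8219020a5ab7792309ad26715a13b152189008d8f4542f27b86c2cd22a99616a0809beb4bc950b38692c58439968684403daaa5c9e18b9029d12db90a61b200bd8f19a2842a9ac5b872a99f048440bbea799970b39a189444a49481a580bd6d174a897cd0c2aa0d39962090602be955ca26b39a49a9093c2ec18440a2eb78a26c7b890b2832298ed18920a58f7706225cd2c7a9a4a98a81c2403a9f42ca23ab98d5d926ba26281020ac6e7986cd5ba067a848a30a41a640bc5545cacc7b9309d5a8288e1198805aaaf74a24a4d2cbd9a238cb032020baa959ca28795a93d990591c610c20bd6d42ca2352d0673c2d3b26480920baeae9c1522d18db4464399e848820b9dcf99170a546c8a846b20b26a420b962b9c2b273da2a29263a2c40b060bd9e5998e4ab84352d288ca9063420bc66ea8ec97d18d52e08388a4918203d2369cab07b8862a922bb16d0a06053cf48c272b39a95dd81a98a219100a3ab79a5e68d90c59e4d540a1188805da952c9467b868bc48c3c269688209d6cabca287b8223d070598a44b1a0b5d743b2307b9b2a94669a1414888072eb4536243de48b4d2c798b0088607a8eb98628bb9aca5930a8ca231240bb974990e6559a3abc288c0b2609208ceabb22e379c4ca2932704a4834c0baab3a30e673db25d92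28c0a322020adaee9b4ac552505bc6838624488c0bd9cb50de18d48ca4d263a0ad90a00515719b2827b9b2adc8839ac90c060bdab3a31d03c4322a92379962411a0b95f4505c3ac4825cd2839acd83240546a5792c29b8c95dd883b6921c02089eb470ee82cc4c5a890b19e9934202daa78b26873db25a830a0ae419920bbeaa74a2db4e015d082298e91a1807d96798630b95a9aa988a09c321a40badd4290ec7d510b292d88e7230820bb9459c2325d84c7d428392861b520baa74aa5632b9ac8da44389e881820bc6af2cacca38d03a8435b664424209da2fbcab0a2d21729a63a0a410d803c69574ac97cc465aa04bb0a81b4202d6cf9ca21a1c6c5a90970ae469a0075a953ca2c55db05bcc49a4a808860756d49c9417dd245c5a3298ec40a00adaf48c2727acc171d09534a4189805bab4504a47d86cbccc83a63068a4055ab3a12292b9a23de03599f243020896aa98ee23b9015d12d79ac494180bd9477b1d09c4925d4c8a24ad18440adae55b5c67c6419a9283c2821918059e65a8a267b88cba868b428d4c820bae957b6289ba44b1cd0524ac188208d6d498aed5aa0c7b823398a444920bd2b63c9507ad8d74509984a3208c0759ea9ca2cadc502d1213996323500bcce5b09e48b8cc5a921ab6901c9007ba71a9a89bd9ac5aa083c8a110c80bda2a2caad79e085d12c70e64304409d156bca30794235d448391c6625a0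

/-- code of an involution -/
def cd (x : ℕ) : ℕ := Nat.land (Nat.shiftRight cdTab (Nat.mul 120 x)) 1329227995784915872903807060280344575

theorem cd_ok : allLt 165 (fun x => inW (cd x)) = true := by decide +kernel

theorem cd_inW (x : Fin 165) : inW (cd x) = true := (allLt_iff.1 cd_ok) x x.2

/-- the involutions -/
noncomputable def tau (x : Fin 165) : W := el (cd x) (cd_inW x)

/-- comparison of two codes -/
def dif (c d : ℕ) (k : ℕ) : Bool :=
  Nat.rec (motive := fun _ => Bool) false
    (fun i ih => cond (Nat.beq (img c (img d i)) (img d (img c i))) ih true) k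

theorem dif_spec {c d k : ℕ} (h : dif c d k = true) : ∃ i < k, img c (img d i) ≠ img d (img c i) := by
  induction k with
  | zero => exact absurd (show false = true from h) (by decide)
  | succ k ih =>
    have h1 : dif c d (k + 1) = cond (Nat.beq (img c (img d k)) (img d (img c k))) (dif c d k) true := rfl
    rw [h1] at h
    cases h2 : Nat.beq (img c (img d k)) (img d (img c k)) with
    | true =>
      rw [h2] at h
      obtain ⟨i, hi, h3⟩ := ih h
      exact ⟨i, by omega, h3⟩
    | false =>
      refine ⟨k, by omega, fun h3 => ?_⟩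
      rw [h3, Nat.beq_refl] at h2
      exact absurd h2 (by decide)

/-- commuting check for a pair of codes -/
def comOK (b : Bool) (c d : ℕ) : Bool := cond b (Nat.beq (mulC c d) (mulC d c)) (dif c d 24)

theorem comOK_spec {b : Bool} {c d : ℕ} (hc : inW c = true) (hd : inW d = true) (h : comOK b c d = true) :
    el c hc * el d hd = el d hd * el c hc ↔ b = true := by
  have vc := valid_W hc
  have vd := valid_W hd
  have e : el c hc * el d hd = el d hd * el c hc ↔ toPerm (mulC c d) = toPerm (mulC d c) := by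
    rw [toPerm_mulC vc vd, toPerm_mulC vd vc]
    exact ⟨fun h => congrArg Subtype.val h, fun h => Subtype.ext h⟩
  rw [e]
  cases b with
  | true =>
    have h1 : mulC c d = mulC d c := Nat.eq_of_beq_eq_true h
    rw [h1]
    exact ⟨fun _ => rfl, fun _ => rfl⟩
  | false =>
    constructor
    · intro h1
      obtain ⟨i, hi, h2⟩ := dif_spec (show dif c d 24 = true from h)
      have h3 := toPerm_injOn (valid_mulC vc vd) (valid_mulC vd vc) h1 i hi
      rw [img_mulC c d hi, img_mulC d c hi] at h3
      exact absurd h3 h2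
    · intro h1; exact absurd h1 (by decide)

theorem com_ok : allLt 165 (fun x => allLt x (fun y => comOK (bt (RT x) y) (cd x) (cd y))) = true := by
  decide +kernel

theorem refl_ok : allLt 165 (fun x => bt (RT x) x) = true := by decide +kernel

theorem symm_ok : allLt 165 (fun x => allLt x (fun y => cond (bt (RT x) y) (bt (RT y) x) (not (bt (RT y) x)))) = true := by
  decide +kernel

theorem R_refl (x : Fin 165) : R x x := (allLt_iff.1 refl_ok) x x.2

theorem R_symm_lt {x y : Fin 165} (h : (y : ℕ) < x) : R x y ↔ R y x := by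
  have h1 := (allLt_iff.1 ((allLt_iff.1 symm_ok) x x.2)) y h
  rw [R, R]
  cases h2 : bt (RT x) y with
  | true =>
    rw [h2] at h1
    exact ⟨fun _ => h1, fun _ => rfl⟩
  | false =>
    rw [h2] at h1
    constructor
    · intro h3; exact absurd h3 (by decide)
    · intro h3
      have h4 : (!(bt (RT y) x)) = true := h1
      rw [h3] at h4
      exact absurd h4 (by decide)

theorem tau_comm (x y : Fin 165) : tau x * tau y = tau y * tau x ↔ R x y := by
  rcases lt_trichotomy (x : ℕ) (y : ℕ) with h | h | h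
  · rw [← R_symm_lt h, R]
    rw [← comOK_spec (cd_inW y) (cd_inW x) ((allLt_iff.1 ((allLt_iff.1 com_ok) y y.2)) x h)]
    exact ⟨fun h => h.symm, fun h => h.symm⟩
  · have h2 : x = y := Fin.ext h
    subst h2
    exact ⟨fun _ => R_refl x, fun _ => rfl⟩
  · rw [R]
    exact comOK_spec (cd_inW x) (cd_inW y) ((allLt_iff.1 ((allLt_iff.1 com_ok) x x.2)) y h)

/-- difference of two codes -/
def dif1 (c d : ℕ) (k : ℕ) : Bool :=
  Nat.rec (motive := fun _ => Bool) false (fun i ih => cond (Nat.beq (img c i) (img d i)) ih true) k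

theorem dif1_spec {c d k : ℕ} (h : dif1 c d k = true) : ∃ i < k, img c i ≠ img d i := by
  induction k with
  | zero => exact absurd (show false = true from h) (by decide)
  | succ k ih =>
    have h1 : dif1 c d (k + 1) = cond (Nat.beq (img c k) (img d k)) (dif1 c d k) true := rfl
    rw [h1] at h
    cases h2 : Nat.beq (img c k) (img d k) with
    | true =>
      rw [h2] at h
      obtain ⟨i, hi, h3⟩ := ih h
      exact ⟨i, by omega, h3⟩
    | false =>
      refine ⟨k, by omega, fun h3 => ?_⟩
      rw [h3, Nat.beq_refl] at h2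
      exact absurd h2 (by decide)

theorem el_ne {c d : ℕ} (hc : inW c = true) (hd : inW d = true) (h : dif1 c d 24 = true) : el c hc ≠ el d hd := by
  intro h1
  obtain ⟨i, hi, h2⟩ := dif1_spec h
  exact h2 (toPerm_injOn (valid_W hc) (valid_W hd) (congrArg Subtype.val h1) i hi)

theorem inj_ok : allLt 165 (fun x => allLt x (fun y => dif1 (cd x) (cd y) 24)) = true := by decide +kernel

theorem tau_inj : Function.Injective tau := by
  intro x y h
  rcases lt_trichotomy (x : ℕ) (y : ℕ) with h1 | h1 | h1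
  · exact absurd h.symm (el_ne (cd_inW y) (cd_inW x) ((allLt_iff.1 ((allLt_iff.1 inj_ok) y y.2)) x h1))
  · exact Fin.ext h1
  · exact absurd h (el_ne (cd_inW x) (cd_inW y) ((allLt_iff.1 ((allLt_iff.1 inj_ok) x x.2)) y h1))

/-- the two generators used for conjugation -/
def ga : ℕ := 221632793092827583847606021369498688

/-- second generator -/
def gb : ℕ := 595314364175565957055759059186129312

theorem ga_ok : inW ga = true := by decide +kernel

theorem gb_ok : inW gb = true := by decide +kernel

/-- parents in the conjugation tree -/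
def parTab : ℕ := 0x13f95486311489c4202f87bbd1dae773389bcdd6bb59aad469b45a0cf6732990c56230976b459ac962af562a952a752a91469f4e25d2c9449245208f46a31148843a1508823e9f0f67a3c9e0ea74399c8e270379b0d4693419ccc6430980be5c2d964b0572b150a652289409e4e26930964a249208c452190882401f0f4763a1c8e06c351a0cc6430178b85a2c158a85228138944823110843e1e0e87034190c05c2c150a04c2411080381a0c058281208038180a04018080200

/-- check -/
def parOK (x : ℕ) : Bool :=
  cond (Nat.beq x 0) true
    (cond (Nat.blt (Nat.land (Nat.shiftRight parTab (Nat.add (Nat.mul 9 x) 1)) 255) x)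
      (Nat.beq (mulC (cd x) (cond (Nat.beq (Nat.land (Nat.shiftRight parTab (Nat.mul 9 x)) 1) 0) ga gb))
        (mulC (cond (Nat.beq (Nat.land (Nat.shiftRight parTab (Nat.mul 9 x)) 1) 0) ga gb)
          (cd (Nat.land (Nat.shiftRight parTab (Nat.add (Nat.mul 9 x) 1)) 255)))) false)

theorem par_ok : allLt 165 parOK = true := by decide +kernel

theorem conj_of_code {c d s : ℕ} (hc : inW c = true) (hd : inW d = true) (hs : inW s = true)
    (h : mulC c s = mulC s d) : IsConj (el d hd) (el c hc) := by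
  rw [isConj_iff]
  refine ⟨el s hs, ?_⟩
  rw [mul_inv_eq_iff_eq_mul]
  apply Subtype.ext
  show toPerm s * toPerm d = toPerm c * toPerm s
  rw [← toPerm_mulC (valid_W hs) (valid_W hd), ← toPerm_mulC (valid_W hc) (valid_W hs), h]

theorem conj_tau : ∀ x : Fin 165, IsConj (tau 0) (tau x) := by
  rintro ⟨x, hx⟩
  induction x using Nat.strong_induction_on with
  | _ x ih =>
    have h := (allLt_iff.1 par_ok) x hx
    unfold parOK at h
    cases h0 : Nat.beq x 0 with
    | true =>
      have : x = 0 := Nat.eq_of_beq_eq_true h0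
      subst this
      exact IsConj.refl _
    | false =>
      rw [h0, cond_false, cond_false_eq] at h
      obtain ⟨h1, h2⟩ := h
      have h3 : Nat.land (Nat.shiftRight parTab (Nat.add (Nat.mul 9 x) 1)) 255 < x := Nat.le_of_ble_eq_true h1
      have h4 := Nat.eq_of_beq_eq_true h2
      refine (ih _ h3 (h3.trans hx)).trans ?_
      cases h5 : Nat.beq (Nat.land (Nat.shiftRight parTab (Nat.mul 9 x)) 1) 0 with
      | true =>
        rw [h5] at h4
        exact conj_of_code (cd_inW ⟨x, hx⟩) (cd_inW ⟨_, h3.trans hx⟩) ga_ok h4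
      | false =>
        rw [h5] at h4
        exact conj_of_code (cd_inW ⟨x, hx⟩) (cd_inW ⟨_, h3.trans hx⟩) gb_ok h4

/-- codes of elements commuting with the first involution -/
def ccTab : ℕ := 0xa968e520f08cc897d9b25b2e3104c02d276741e83a8665dc528b6a122580b96ce9a2323a8697d03059aa4135802ded3741f23d4628d0c85854d49180baa959ca28795a93d990591c610c20a166eb49683d4647ddb088949305802d954749e88cc8c5d450386ed1a4c0bd1d69a2303d461595327914668980b4cb7a49703d5818b8c87894969060516eeac8f05d9247cc288b28333440b55caa41728cc81394687a6e26b0c0b3ae5a49683a9867cc308a6a223460a56eab2172794243cd908a5c230da0b154ea41688dc837d43238a69634c054dd7ac8e85d1218949078ecc69840aced7540e8794298d0d258dcc111a07566a2a1f05d8443dc728b681331209d156bca30794235d448391c6625a0996aebc2325d1237a9a839ac460440a28b5b41728dccd3b98878a6908c80bd4aa9c2285d0413b99279ac468d209d8b4ba2303a98d5b85279aa40a460adcb3548e85d84d8b8d07b28309120b2a75a21727b9a63dc70888a92302074e972c1f23a9898d8885b6a1118602ceb7721f25d92c8a8d03b68119040a4d57b21707b82c8d492388a9199a0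75af42c1e83d5845cd328854d308609a9d5bc2285d92d39472792860b040b5eb3a2170795a38a8d23a5c2610202aaf5721f05d1263cd92886cd20c40ad9d4520f28dc8d5953078e6c088c055e93ac0e87b9a28d8925b0a3498202d68a749f08dc823d9885b66148cc0550b6aa0f28ccc15b8507b2e36a480aba65548f05d0467dda888ecc2052053ac5aa0f08dcc27d03258e6c4b48072ad52c9f08ccc93d068586ed13080a5dd3b49703a86d894887a6a209980a3aa5b41688cccc7a9b23a6e218480ad2f6540f27b8265cd288b0a3209a0752b62c9e88dcc35a9303b6616088055a74ac0f2795a45dc4888dcc324209ba85ba2323d5827d9b0591464846075d532a1f25d0438d490386cd61920bb9459c2325d84c7d428392861b5209d6cabca287b8223d070598a44b1a0bdab49ca307b9ac5a928398a418820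

/-- code of an element commuting with the first involution -/
def cc (x : ℕ) : ℕ := Nat.land (Nat.shiftRight ccTab (Nat.mul 120 x)) 1329227995784915872903807060280344575

theorem cc_ok : allLt 48 (fun x => cond (inW (cc x)) (Nat.beq (mulC (cc x) (cd 0)) (mulC (cd 0) (cc x))) false) = true := by
  decide +kernel

theorem cc_inj_ok : allLt 48 (fun x => allLt x (fun y => dif1 (cc x) (cc y) 24)) = true := by decide +kernel

theorem cent_ge : 48 ≤ Nat.card (Subgroup.centralizer ({tau 0} : Set W)) := by
  have h1 : ∀ x : Fin 48, inW (cc x) = true ∧ mulC (cc x) (cd 0) = mulC (cd 0) (cc x) := by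
    intro x
    have := (allLt_iff.1 cc_ok) x x.2
    rw [cond_false_eq] at this
    exact ⟨this.1, Nat.eq_of_beq_eq_true this.2⟩
  let f : Fin 48 → Subgroup.centralizer ({tau 0} : Set W) := fun x => ⟨el (cc x) (h1 x).1, by
    rw [Subgroup.mem_centralizer_singleton_iff]
    apply Subtype.ext
    show toPerm (cc x) * toPerm (cd 0) = toPerm (cd 0) * toPerm (cc x)
    have vz : valid (cd 0) = true := valid_W (cd_inW 0)
    rw [← toPerm_mulC (valid_W (h1 x).1) vz, ← toPerm_mulC vz (valid_W (h1 x).1), (h1 x).2]⟩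
  have h2 : Function.Injective f := by
    intro x y h
    have h' : el (cc x) (h1 x).1 = el (cc y) (h1 y).1 := congrArg Subtype.val h
    rcases lt_trichotomy (x : ℕ) (y : ℕ) with h3 | h3 | h3
    · exact absurd h'.symm (el_ne (h1 y).1 (h1 x).1 ((allLt_iff.1 ((allLt_iff.1 cc_inj_ok) y y.2)) x h3))
    · exact Fin.ext h3
    · exact absurd h' (el_ne (h1 x).1 (h1 y).1 ((allLt_iff.1 ((allLt_iff.1 cc_inj_ok) x x.2)) y h3))
  have h3 := Nat.card_le_card_of_injective f h2
  rwa [Nat.card_eq_fintype_card, Fintype.card_fin] at h3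

theorem finite_W : Finite W := Nat.finite_of_card_ne_zero (by rw [card_W]; norm_num)

instance : Finite W := finite_W

theorem card_class : Nat.card {g : W // IsConj (tau 0) g} = 165 ∧
    Nat.card (Subgroup.centralizer ({tau 0} : Set W)) = 48 := by
  have h1 := Cfsg.Agent.Lib.SmallSimple.card_isConj_mul_card_centralizer (tau 0)
  rw [card_W] at h1
  have h2 := cent_ge
  let f : Fin 165 → {g : W // IsConj (tau 0) g} := fun x => ⟨tau x, conj_tau x⟩
  have h3 : 165 ≤ Nat.card {g : W // IsConj (tau 0) g} := by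
    have := Nat.card_le_card_of_injective f (fun x y h => tau_inj (congrArg Subtype.val h))
    rwa [Nat.card_eq_fintype_card, Fintype.card_fin] at this
  set a := Nat.card {g : W // IsConj (tau 0) g}
  set b := Nat.card (Subgroup.centralizer ({tau 0} : Set W))
  constructor <;> nlinarith

theorem range_tau_eq_class : Set.range tau = {g : W | IsConj (tau 0) g} := by
  refine Set.eq_of_subset_of_ncard_le ?_ ?_ (Set.toFinite _)
  · rintro _ ⟨x, rfl⟩
    exact conj_tau x
  · have h1 : ({g : W | IsConj (tau 0) g}).ncard = 165 := by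
      rw [← Nat.card_coe_set_eq]
      exact card_class.1
    rw [h1, Set.ncard_range_of_injective tau_inj, Nat.card_eq_fintype_card, Fintype.card_fin]

/-- elements with an orbit of length at least four have small centralizer -/
theorem cent_le_eleven (g : W) (a : GolayPt) (ha : a ∈ Spor.squareDodecad) (ha0 : a ≠ some 0)
    (h1 : g.1 a ≠ a) (h2 : g.1 (g.1 a) ≠ a) (h3 : g.1 (g.1 (g.1 a)) ≠ a) :
    Nat.card (Subgroup.centralizer ({g} : Set W)) ≤ 11 := by
  have hst : ∀ c : W, ∀ p ∈ Spor.squareDodecad, c.1 p ∈ Spor.squareDodecad := by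
    intro c p hp
    have : c.1 • Spor.squareDodecad = Spor.squareDodecad := c.2.1.2
    exact mem_of_smul_eq this hp
  have h0 : ∀ c : W, c.1 (some 0) = some 0 := fun c => c.2.2
  have hne : ∀ c : W, ∀ p, p ≠ some 0 → c.1 p ≠ some 0 := by
    intro c p hp h
    exact hp (c.1.injective (h.trans (h0 c).symm))
  let D := Spor.squareDodecad.erase (some 0)
  have hD : Nat.card ↥D = 11 := by
    rw [Nat.card_eq_fintype_card, Fintype.card_coe, Finset.card_erase_of_mem zero_mem, sq_mem.2]
  rw [← hD]
  let f : Subgroup.centralizer ({g} : Set W) → ↥D := fun c => ⟨c.1.1 a,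
    Finset.mem_erase.2 ⟨hne c.1 a ha0, hst c.1 a ha⟩⟩
  apply Nat.card_le_card_of_injective f
  intro c d hcd
  have e1 : c.1.1 a = d.1.1 a := congrArg Subtype.val hcd
  have hc := Subgroup.mem_centralizer_singleton_iff.1 c.2
  have hd := Subgroup.mem_centralizer_singleton_iff.1 d.2
  have com : ∀ p, (d⁻¹ * c).1.1 (g.1 p) = g.1 ((d⁻¹ * c).1.1 p) := by
    intro p
    have h4 := Subgroup.mem_centralizer_singleton_iff.1 (d⁻¹ * c).2
    exact congrArg (fun w : W => w.1 p) h4
  have f0 : (d⁻¹ * c).1.1 a = a := by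
    show (d.1.1)⁻¹ (c.1.1 a) = a
    rw [e1, perm_inv_apply]
  have f1 : (d⁻¹ * c).1.1 (g.1 a) = g.1 a := by rw [com, f0]
  have f2 : (d⁻¹ * c).1.1 (g.1 (g.1 a)) = g.1 (g.1 a) := by rw [com, f1]
  have f3 : (d⁻¹ * c).1.1 (g.1 (g.1 (g.1 a))) = g.1 (g.1 (g.1 a)) := by rw [com, f2]
  have n1 : a ≠ g.1 a := h1.symm
  have n2 : a ≠ g.1 (g.1 a) := h2.symm
  have n3 : a ≠ g.1 (g.1 (g.1 a)) := h3.symm
  have n4 : g.1 a ≠ g.1 (g.1 a) := fun h => n1 (g.1.injective h)
  have n5 : g.1 a ≠ g.1 (g.1 (g.1 a)) := fun h => n2 (g.1.injective h)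
  have n6 : g.1 (g.1 a) ≠ g.1 (g.1 (g.1 a)) := fun h => n4 (g.1.injective h)
  have z0 : some 0 ≠ a := ha0.symm
  have z1 : some 0 ≠ g.1 a := (hne g _ ha0).symm
  have z2 : some 0 ≠ g.1 (g.1 a) := (hne g _ (hne g _ ha0)).symm
  have z3 : some 0 ≠ g.1 (g.1 (g.1 a)) := (hne g _ (hne g _ (hne g _ ha0))).symm
  have hinj : Function.Injective ![some 0, a, g.1 a, g.1 (g.1 a), g.1 (g.1 (g.1 a))] := by
    intro i j hij
    fin_cases i <;> fin_cases j <;> first | rfl | (exfalso; simp only [Fin.reduceFinMk, Matrix.cons_val] at hij; first | exact z0 hij | exact z0 hij.symm | exact z1 hij | exact z1 hij.symm | exact z2 hij | exact z2 hij.symm | exact z3 hij | exact z3 hij.symm | exact n1 hij | exact n1 hij.symm | exact n2 hij | exact n2 hij.symm | exact n3 hij | exact n3 hij.symm | exact n4 hij | exact n4 hij.symm | exact n5 hij | exact n5 hij.symm | exact n6 hij | exact n6 hij.symm)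
  have hst5 := stab_five_dodecad sq_mem ⟨_, hinj⟩ (by
    intro i
    fin_cases i
    · exact zero_mem
    · exact ha
    · exact hst g _ ha
    · exact hst g _ (hst g _ ha)
    · exact hst g _ (hst g _ (hst g _ ha)))
  have hmem : (⟨(d⁻¹ * c).1.1, (d⁻¹ * c).1.2.1.1⟩ : M24) ∈ (⊥ : Subgroup M24) := by
    rw [← hst5]
    refine ⟨(d⁻¹ * c).1.2.1.2, ?_⟩
    apply Function.Embedding.ext
    intro i
    fin_cases i
    · exact h0 (d⁻¹ * c).1
    · exact f0
    · exact f1
    · exact f2
    · exact f3
  rw [Subgroup.mem_bot] at hmem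
  have h5 : (d⁻¹ * c).1.1 = 1 := congrArg Subtype.val hmem
  have h6 : d⁻¹ * c = 1 := Subtype.ext (Subtype.ext h5)
  exact (inv_mul_eq_one.1 h6).symm

/-- an element of order eight -/
noncomputable def pe : W := el ga ga_ok

/-- codes of its powers -/
def qTab (k : ℕ) : ℕ := Nat.rec (motive := fun _ => ℕ) (pack (fun i => i) 24) (fun _ ih => mulC ga ih) k

theorem q_ok : allLt 9 (fun k => inW (qTab k)) = true := by decide +kernel

theorem pe_pow (k : ℕ) (hk : k < 9) : (pe ^ k).1 = toPerm (qTab k) := by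
  induction k with
  | zero =>
    rw [pow_zero]
    apply perm_eq_toPerm (valid_W ((allLt_iff.1 q_ok) 0 hk))
    intro p
    have : img (qTab 0) (ix p) = ix p := by
      have h1 : allLt 24 (fun i => Nat.beq (img (qTab 0) i) i) = true := by decide +kernel
      exact Nat.eq_of_beq_eq_true ((allLt_iff.1 h1) _ (ix_lt p))
    rw [this, pt_ix]
    rfl
  | succ k ih =>
    rw [pow_succ']
    have h1 : (pe * pe ^ k).1 = toPerm ga * (pe ^ k).1 := rfl
    rw [h1, ih (by omega), ← toPerm_mulC (valid_W ga_ok) (valid_W ((allLt_iff.1 q_ok) k (by omega)))]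
    rfl

theorem pe_pow_eight : pe ^ 8 = 1 := by
  apply Subtype.ext
  have h : qTab 8 = qTab 0 := by decide +kernel
  rw [pe_pow 8 (by norm_num), h, ← pe_pow 0 (by norm_num), pow_zero]

theorem pe_pow_four : pe ^ 4 = tau 0 := by
  apply Subtype.ext
  rw [pe_pow 4 (by norm_num)]
  have h : qTab 4 = cd 0 := by decide +kernel
  rw [h]
  rfl

theorem tau_ne_one (x : Fin 165) : tau x ≠ 1 := by
  intro h
  have h1 : ∀ y, tau y = 1 := by
    intro y
    have h2 : IsConj (tau x) (tau y) := (conj_tau x).symm.trans (conj_tau y)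
    rw [h] at h2
    exact (isConj_one_right.1 h2)
  have h3 : (0 : Fin 165) = 1 := tau_inj ((h1 0).trans (h1 1).symm)
  exact absurd h3 (by decide)

theorem order_pe : orderOf pe = 8 := by
  have : orderOf pe = 2 ^ (2 + 1) := by
    apply orderOf_eq_prime_pow
    · show ¬ pe ^ 4 = 1
      rw [pe_pow_four]
      exact tau_ne_one 0
    · exact pe_pow_eight
  rw [this]; norm_num

theorem orbOK (k : ℕ) (hk : k < 9) (h : cond (Nat.beq (img (qTab k) 1) 1) false
      (cond (Nat.beq (img (qTab k) (img (qTab k) 1)) 1) false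
        (not (Nat.beq (img (qTab k) (img (qTab k) (img (qTab k) 1))) 1))) = true) :
    Nat.card (Subgroup.centralizer ({pe ^ k} : Set W)) ≤ 11 := by
  have hv := valid_W ((allLt_iff.1 q_ok) k hk)
  have h1 : (pe ^ k).1 (pt 1) = pt (img (qTab k) 1) := by
    rw [pe_pow k hk, toPerm_pt hv (by norm_num)]
  have l1 : img (qTab k) 1 < 24 := img_lt hv (by norm_num)
  have h2 : (pe ^ k).1 (pt (img (qTab k) 1)) = pt (img (qTab k) (img (qTab k) 1)) := by
    rw [pe_pow k hk, toPerm_pt hv l1]
  have l2 : img (qTab k) (img (qTab k) 1) < 24 := img_lt hv l1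
  have h3 : (pe ^ k).1 (pt (img (qTab k) (img (qTab k) 1))) = pt (img (qTab k) (img (qTab k) (img (qTab k) 1))) := by
    rw [pe_pow k hk, toPerm_pt hv l2]
  have l3 : img (qTab k) (img (qTab k) (img (qTab k) 1)) < 24 := img_lt hv l2
  have key : ∀ n < 24, pt n = pt 1 → n = 1 := by
    intro n hn h4
    have := congrArg ix h4
    rwa [ix_pt hn, ix_pt (by norm_num)] at this
  cases e1 : Nat.beq (img (qTab k) 1) 1 with
  | true => rw [e1] at h; exact absurd (show false = true from h) (by decide)
  | false =>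
    rw [e1] at h
    cases e2 : Nat.beq (img (qTab k) (img (qTab k) 1)) 1 with
    | true => rw [e2] at h; exact absurd (show false = true from h) (by decide)
    | false =>
      rw [e2] at h
      have e3 : Nat.beq (img (qTab k) (img (qTab k) (img (qTab k) 1))) 1 = false := by
        cases e4 : Nat.beq (img (qTab k) (img (qTab k) (img (qTab k) 1))) 1 with
        | true => rw [e4] at h; exact absurd (show false = true from h) (by decide)
        | false => rfl
      apply cent_le_eleven (pe ^ k) (pt 1)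
      · rw [sq_eq, mem_mset]; decide +kernel
      · decide +kernel
      · rw [h1]
        intro h5
        rw [key _ l1 h5] at e1
        exact absurd e1 (by decide)
      · rw [h1, h2]
        intro h5
        rw [key _ l2 h5] at e2
        exact absurd e2 (by decide)
      · rw [h1, h2, h3]
        intro h5
        rw [key _ l3 h5] at e3
        exact absurd e3 (by decide)

theorem card_cent_conj {G : Type*} [Group G] {x y : G} (h : IsConj x y) :
    Nat.card (Subgroup.centralizer ({x} : Set G)) = Nat.card (Subgroup.centralizer ({y} : Set G)) := by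
  obtain ⟨c, rfl⟩ := isConj_iff.1 h
  apply Nat.card_congr
  refine ⟨fun a => ⟨c * a.1 * c⁻¹, ?_⟩, fun a => ⟨c⁻¹ * a.1 * c, ?_⟩, ?_, ?_⟩
  · rw [Subgroup.mem_centralizer_singleton_iff]
    have := Subgroup.mem_centralizer_singleton_iff.1 a.2
    calc c * a.1 * c⁻¹ * (c * x * c⁻¹) = c * (a.1 * x) * c⁻¹ := by group
      _ = c * (x * a.1) * c⁻¹ := by rw [this]
      _ = _ := by group
  · rw [Subgroup.mem_centralizer_singleton_iff]
    have := Subgroup.mem_centralizer_singleton_iff.1 a.2
    calc c⁻¹ * a.1 * c * x = c⁻¹ * (a.1 * (c * x * c⁻¹)) * c := by group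
      _ = c⁻¹ * ((c * x * c⁻¹) * a.1) * c := by rw [this]
      _ = _ := by group
  · intro a
    apply Subtype.ext
    show c⁻¹ * (c * a.1 * c⁻¹) * c = a.1
    group
  · intro a
    apply Subtype.ext
    show c * (c⁻¹ * a.1 * c) * c⁻¹ = a.1
    group

theorem cent_pe : Subgroup.centralizer ({pe} : Set W) = Subgroup.zpowers pe := by
  have h1 : Subgroup.zpowers pe ≤ Subgroup.centralizer ({pe} : Set W) := by
    rw [Subgroup.zpowers_le, Subgroup.mem_centralizer_singleton_iff]
  have h2 : Nat.card (Subgroup.zpowers pe) = 8 := by rw [Nat.card_zpowers, order_pe]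
  have h3 : Nat.card (Subgroup.centralizer ({pe} : Set W)) ≤ 11 := by
    have := orbOK 1 (by norm_num) (by decide +kernel)
    rwa [pow_one] at this
  have h4 := Subgroup.card_dvd_of_le h1
  rw [h2] at h4
  have h5 : Nat.card (Subgroup.centralizer ({pe} : Set W)) = 8 := by
    have : 0 < Nat.card (Subgroup.centralizer ({pe} : Set W)) := Nat.card_pos
    omega
  symm
  apply SetLike.coe_injective
  apply Set.eq_of_subset_of_ncard_le h1
  rw [← Nat.card_coe_set_eq, ← Nat.card_coe_set_eq]
  exact (h5.trans h2.symm).le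

/-- the involutions are the elements whose centralizer has order 48 -/
theorem mem_range_tau {g : W} (hg : Nat.card (Subgroup.centralizer ({g} : Set W)) = 48) : IsConj (tau 0) g := by
  have h2 : Fact (Nat.Prime 2) := ⟨Nat.prime_two⟩
  have hP : IsPGroup 2 (Subgroup.zpowers pe) := by
    apply IsPGroup.of_card (n := 3)
    rw [Nat.card_zpowers, order_pe]; norm_num
  have hc : Nat.card (W ⧸ Subgroup.centralizer ({g} : Set W)) = 165 := by
    have h3 := (Subgroup.centralizer ({g} : Set W)).card_mul_index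
    rw [hg, card_W] at h3
    have h4 : (Subgroup.centralizer ({g} : Set W)).index = Nat.card (W ⧸ Subgroup.centralizer ({g} : Set W)) := rfl
    omega
  obtain ⟨q, hq⟩ := hP.nonempty_fixed_point_of_prime_not_dvd_card (W ⧸ Subgroup.centralizer ({g} : Set W))
    (by rw [hc]; norm_num)
  obtain ⟨m, rfl⟩ := QuotientGroup.mk_surjective q
  have h3 : m⁻¹ * (pe * m) ∈ Subgroup.centralizer ({g} : Set W) := by
    have h4 := hq ⟨pe, Subgroup.mem_zpowers pe⟩
    have h5 : (QuotientGroup.mk (pe * m) : W ⧸ Subgroup.centralizer ({g} : Set W)) = QuotientGroup.mk m := h4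
    exact QuotientGroup.eq.1 h5.symm
  rw [Subgroup.mem_centralizer_singleton_iff] at h3
  have h6 : m * g * m⁻¹ ∈ Subgroup.centralizer ({pe} : Set W) := by
    rw [Subgroup.mem_centralizer_singleton_iff]
    calc m * g * m⁻¹ * pe = m * (g * (m⁻¹ * (pe * m))) * m⁻¹ := by group
      _ = m * ((m⁻¹ * (pe * m)) * g) * m⁻¹ := by rw [h3]
      _ = _ := by group
  rw [cent_pe, mem_zpowers_iff_mem_range_orderOf, order_pe] at h6
  obtain ⟨k, hk, h7⟩ := Finset.mem_image.1 h6
  rw [Finset.mem_range] at hk
  have h7' : pe ^ k = m * g * m⁻¹ := h7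
  have h8 : IsConj g (pe ^ k) := isConj_iff.2 ⟨m, h7'.symm⟩
  have h9 := card_cent_conj h8
  rw [hg] at h9
  have h10 : k = 4 := by
    by_contra hne
    have hk' : k = 0 ∨ k = 1 ∨ k = 2 ∨ k = 3 ∨ k = 5 ∨ k = 6 ∨ k = 7 := by omega
    rcases hk' with rfl | rfl | rfl | rfl | rfl | rfl | rfl
    · rw [pow_zero] at h9
      have h11 : Subgroup.centralizer ({(1 : W)} : Set W) = ⊤ := by
        rw [eq_top_iff]
        intro x _
        rw [Subgroup.mem_centralizer_singleton_iff, mul_one, one_mul]
      rw [h11, Subgroup.card_top, card_W] at h9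
      omega
    · have := orbOK 1 (by norm_num) (by decide +kernel); omega
    · have := orbOK 2 (by norm_num) (by decide +kernel); omega
    · have := orbOK 3 (by norm_num) (by decide +kernel); omega
    · have := orbOK 5 (by norm_num) (by decide +kernel); omega
    · have := orbOK 6 (by norm_num) (by decide +kernel); omega
    · have := orbOK 7 (by norm_num) (by decide +kernel); omega
  rw [h10, pe_pow_four] at h8
  exact h8.symm

theorem range_tau : Set.range tau = {g : W | Nat.card (Subgroup.centralizer ({g} : Set W)) = 48} := by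
  rw [range_tau_eq_class]
  ext g
  constructor
  · intro h
    rw [Set.mem_ofPred_eq] at h ⊢
    rw [← card_cent_conj h, card_class.2]
  · intro h
    exact mem_range_tau h

/-- only the identity commutes with all the involutions -/
theorem eq_one_of_comm {g : W} (h : ∀ x, g * tau x = tau x * g) : g = 1 := by
  have hs := simple_W
  let N : Subgroup W := Subgroup.centralizer (Set.range tau)
  have hN : N.Normal := by
    refine ⟨fun n hn m => ?_⟩
    rw [Subgroup.mem_centralizer_iff]
    rintro _ ⟨x, rfl⟩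
    rw [Subgroup.mem_centralizer_iff] at hn
    have h1 : m⁻¹ * tau x * m ∈ Set.range tau := by
      rw [range_tau_eq_class]
      refine (conj_tau x).trans (isConj_iff.2 ⟨m⁻¹, ?_⟩)
      rw [inv_inv]
    have h2 := hn _ h1
    calc tau x * (m * n * m⁻¹) = m * ((m⁻¹ * tau x * m) * n) * m⁻¹ := by group
      _ = m * (n * (m⁻¹ * tau x * m)) * m⁻¹ := by rw [h2]
      _ = _ := by group
  have hg : g ∈ N := by
    rw [Subgroup.mem_centralizer_iff]
    rintro _ ⟨x, rfl⟩
    exact (h x).symm
  rcases IsSimpleGroup.eq_bot_or_eq_top_of_normal N hN with h1 | h1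
  · rw [h1] at hg; exact Subgroup.mem_bot.1 hg
  · exfalso
    have h2 : tau 0 ∈ N := by rw [h1]; exact Subgroup.mem_top _
    rw [Subgroup.mem_centralizer_iff] at h2
    have h3 : ∀ x, R x 0 := fun x => (tau_comm x 0).1 (h2 _ ⟨x, rfl⟩)
    have h4 : ¬ ∀ x : Fin 165, bt (RT x) 0 = true := by decide +kernel
    exact h4 h3

end Cfsg.Agent.Lib.MElevenInv
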