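import Cfsg.Agent.Lib.TwKeys
import Cfsg.Agent.Lib.TwTabs
set_option autoImplicit false

/-!
Tables for counting in the twisted groups 3D4, 2F4, 2G2.
-/

namespace Cfsg.Agent.Lib.TwTab
open Cfsg.Lie

def kPD4_0 : List ℕ := [1159725190912, 9990396450048, 38721948673, 15492266530049, 4396157705, 24288326061833, 1099613014030, 25383542918158, 9895672545814, 25349217127190, 15397542625815, 24228213884951]
def kID4_0 : List ℕ := [73786976299133304833, 55340513708990464000, 92234001843524468740, 36893488168894005253, 110680745943004217346, 18447025578751492099, 92233720402907758600, 327689, 73787257812765245446, 18446744103775043591, 55340232268373819403, 36893769661051109386]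

def wtabD4 : WTab where
  m := 12
  reps := [0, 1, 2, 4, 5, 9, 14, 12, 15, 17, 22, 23]
  er := [1, 1, 3, 3, 3, 3, 3, 3, 3, 1, 3, 3, 3, 3, 1, 3, 3, 3, 3, 3, 3, 3, 1, 1]
  bs := [14, 12, 15, 17, 22, 23]

def ptabD4 : PTab where
  N := 12
  len := 6
  nz := 2
  P := [kPD4_0]
  I := [kID4_0]
  W := [565304928284384309385694042081618298355605787515640350976, 541649279090809664310305499994679834166397163664360734721]
  i0 := 7

def pathsD4 : List (List ℕ × ℕ) := [([], 0), ([], 0), ([], 0), ([], 0), ([], 0), ([], 0), ([], 0), ([], 0), ([], 0), ([], 0), ([], 0), ([], 0), ([2, 2], 18), ([2], 18), ([], 14), ([2, 2, 1], 18), ([2, 1], 18), ([0, 1], 18), ([], 18), ([1], 18), ([2, 0, 1], 18), ([2, 2, 0, 1], 18), ([0], 14), ([1, 0], 14)]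

def baseD4 : List ℕ := [14, 18]

def lwD4 : List ℕ := [1, 0, 1, 0, 1, 0]

def expsD4 : List ℕ := [8, 5, 9, 4, 12, 1, 11, 0, 8, 3, 7, 4]

def cntD4 : List ℕ := [1, 1, 0, 1, 2, 1, 0, 1, 2, 1, 0, 1, 1]

theorem chk6D4 : tabD4.chk6 pathsD4 baseD4 = true := by decide +kernel
theorem chk7D4 : wtabD4.chk7 tabD4 = true := by decide +kernel
theorem bsD4 : wtabD4.bs = ((List.range wtabD4.m).map wtabD4.rp).filter tabD4.pos := by decide +kernel
theorem chkAD4 : ptabD4.chkA tabD4 wtabD4.bs = true := by decide +kernel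
theorem chkRD4_0 : PTab.chkR ptabD4 0 12 = true := by decide +kernel
theorem chkBD4 : ∀ i < ptabD4.N, PTab.chkB ptabD4 i = true := by
  intro i hi
  have hi' : i < 12 := hi
  by_cases h0 : i < 12
  · exact PTab.chkR_sound _ chkRD4_0 i (by omega) (by omega)
  omega

theorem kokD4 : KOk tabD4 wtabD4.bs ptabD4.toK := PTab.ok _ chkAD4 chkBD4

theorem exD4_0 : ((List.range 12).map fun i => wtabD4.ex tabD4 (ptabD4.toK.key (0 + i))) = (expsD4.drop 0).take 12 := by decide +kernel
theorem exallD4 : ((List.range 12).map fun i => wtabD4.ex tabD4 (ptabD4.toK.key i)) = expsD4 := by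
  have h0 : (List.range 0).map (fun i => wtabD4.ex tabD4 (ptabD4.toK.key i)) = expsD4.take 0 := rfl
  have h1 := chunk_step _ _ 12 (by norm_num) h0 exD4_0
  exact h1.trans (List.take_of_length_le (by decide +kernel))

theorem cnt_eqD4 : ((List.range 13).map fun e => expsD4.count e) = cntD4 := by decide +kernel
theorem exps_ltD4 : ∀ x ∈ expsD4, x < 13 := by decide +kernel

def kPF4_0 : List ℕ := [3438251310360656594348678914, 5923892539189587076352846082, 2189412030783816192309467652, 8714112294401860029155453188, 941795862862991508183718159, 11194833149682167857546665743, 936955455950772750261753367, 12432777985768963792761854487, 2170059810977796469577618712, 13665882340795987512077719832, 3408004647064592404792807456, 13661041933883768754155755040, 5888725502344900233184020011, 12413425765962944070030005547, 8678945257557173185986627117, 11164586486386103667990794285]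
def kIF4_0 : List ℕ := [92233720372842856449, 73787257782700015616, 110680745917234020356, 55340232242603556869, 129127208524557189122, 36893769652461043715, 147574234081833254920, 18446744112364584969, 129127490033893900294, 720903, 110680464493797441548, 18447025587341557773, 92234001903654928394, 36893488194664726539, 73786976359263502351, 55340513751940792334]

def wtabF4 : WTab where
  m := 12
  reps := [24, 25, 26, 28, 31, 29, 32, 36, 38, 39, 40, 44]
  er := [1, 1, 1, 1, 1, 1, 1, 1, 1, 1, 1, 1, 1, 1, 1, 1, 1, 1, 1, 1, 1, 1, 1, 1, 1, 1, 1, 1, 1, 1, 1, 1, 1, 1, 1, 1, 1, 1, 1, 1, 1, 1, 1, 1, 1, 1, 1, 1]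
  bs := [24, 25, 26, 28, 31, 29, 32, 36, 38, 39, 40, 44]

def ptabF4 : PTab where
  N := 16
  len := 12
  nz := 2
  P := [kPF4_0]
  I := [kIF4_0]
  W := [7108411705297537000650833972699590125151335224076337590424180454577793053650027706237560883744340433321271849254913, 7259314997575176838862586450103949833452818693262143558037780521355387713640358514383642680778672092902379523147008]
  i0 := 9

def pathsF4 : List (List ℕ × ℕ) := [([], 0), ([], 0), ([], 0), ([], 0), ([], 0), ([], 0), ([], 0), ([], 0), ([], 0), ([], 0), ([], 0), ([], 0), ([], 0), ([], 0), ([], 0), ([], 0), ([], 0), ([], 0), ([], 0), ([], 0), ([], 0), ([], 0), ([], 0), ([], 0), ([2], 33), ([2], 27), ([2, 0], 27), ([], 27), ([], 28), ([0, 1, 0], 27), ([2], 28), ([2, 1, 0], 27), ([2, 1], 33), ([], 33), ([0], 27), ([1, 0], 27), ([0], 28), ([1], 33), ([0, 1], 33), ([1, 0, 1], 33), ([1, 0], 28), ([2, 0, 1, 0], 27), ([2, 0], 28), ([2, 0, 1], 33), ([0, 1, 0], 28), ([2, 1, 0, 1], 33), ([2, 1, 0], 28), ([2, 0, 1, 0], 28)]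

def baseF4 : List ℕ := [33, 27, 28]

def lwF4 : List ℕ := [1, 0, 1, 0, 1, 0, 1, 0]

def expsF4 : List ℕ := [7, 6, 9, 4, 10, 3, 12, 1, 11, 0, 9, 2, 8, 3, 6, 5]

def cntF4 : List ℕ := [1, 1, 1, 2, 1, 1, 2, 1, 1, 2, 1, 1, 1]

theorem chk6F4 : tabF4.chk6 pathsF4 baseF4 = true := by decide +kernel
theorem chk7F4 : wtabF4.chk7 tabF4 = true := by decide +kernel
theorem bsF4 : wtabF4.bs = ((List.range wtabF4.m).map wtabF4.rp).filter tabF4.pos := by decide +kernel
theorem chkAF4 : ptabF4.chkA tabF4 wtabF4.bs = true := by decide +kernel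
theorem chkRF4_0 : PTab.chkR ptabF4 0 16 = true := by decide +kernel
theorem chkBF4 : ∀ i < ptabF4.N, PTab.chkB ptabF4 i = true := by
  intro i hi
  have hi' : i < 16 := hi
  by_cases h0 : i < 16
  · exact PTab.chkR_sound _ chkRF4_0 i (by omega) (by omega)
  omega

theorem kokF4 : KOk tabF4 wtabF4.bs ptabF4.toK := PTab.ok _ chkAF4 chkBF4

theorem exF4_0 : ((List.range 16).map fun i => wtabF4.ex tabF4 (ptabF4.toK.key (0 + i))) = (expsF4.drop 0).take 16 := by decide +kernel
theorem exallF4 : ((List.range 16).map fun i => wtabF4.ex tabF4 (ptabF4.toK.key i)) = expsF4 := by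
  have h0 : (List.range 0).map (fun i => wtabF4.ex tabF4 (ptabF4.toK.key i)) = expsF4.take 0 := rfl
  have h1 := chunk_step _ _ 16 (by norm_num) h0 exF4_0
  exact h1.trans (List.take_of_length_le (by decide +kernel))

theorem cnt_eqF4 : ((List.range 13).map fun e => expsF4.count e) = cntF4 := by decide +kernel
theorem exps_ltF4 : ∀ x ∈ expsF4, x < 13 := by decide +kernel

def kPG2_0 : List ℕ := [131845, 591878]
def kIG2_0 : List ℕ := [281474976776193, 0]

def wtabG2 : WTab where
  m := 3
  reps := [6, 8, 9]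
  er := [1, 1, 1, 1, 1, 1, 1, 1, 1, 1, 1, 1]
  bs := [6, 8, 9]

def ptabG2 : PTab where
  N := 2
  len := 3
  nz := 1
  P := [kPG2_0]
  I := [kIG2_0]
  W := [1218426182456967898401291]
  i0 := 1

def pathsG2 : List (List ℕ × ℕ) := [([], 0), ([], 0), ([], 0), ([], 0), ([], 0), ([], 0), ([1], 7), ([], 7), ([], 8), ([], 9), ([1], 8), ([1], 9)]

def baseG2 : List ℕ := [7, 8, 9]

def lwG2 : List ℕ := [0]

def expsG2 : List ℕ := [3, 0]

def cntG2 : List ℕ := [1, 0, 0, 1]

theorem chk6G2 : tabG2.chk6 pathsG2 baseG2 = true := by decide +kernel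
theorem chk7G2 : wtabG2.chk7 tabG2 = true := by decide +kernel
theorem bsG2 : wtabG2.bs = ((List.range wtabG2.m).map wtabG2.rp).filter tabG2.pos := by decide +kernel
theorem chkAG2 : ptabG2.chkA tabG2 wtabG2.bs = true := by decide +kernel
theorem chkRG2_0 : PTab.chkR ptabG2 0 2 = true := by decide +kernel
theorem chkBG2 : ∀ i < ptabG2.N, PTab.chkB ptabG2 i = true := by
  intro i hi
  have hi' : i < 2 := hi
  by_cases h0 : i < 2
  · exact PTab.chkR_sound _ chkRG2_0 i (by omega) (by omega)
  omega

theorem kokG2 : KOk tabG2 wtabG2.bs ptabG2.toK := PTab.ok _ chkAG2 chkBG2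

theorem exG2_0 : ((List.range 2).map fun i => wtabG2.ex tabG2 (ptabG2.toK.key (0 + i))) = (expsG2.drop 0).take 2 := by decide +kernel
theorem exallG2 : ((List.range 2).map fun i => wtabG2.ex tabG2 (ptabG2.toK.key i)) = expsG2 := by
  have h0 : (List.range 0).map (fun i => wtabG2.ex tabG2 (ptabG2.toK.key i)) = expsG2.take 0 := rfl
  have h1 := chunk_step _ _ 2 (by norm_num) h0 exG2_0
  exact h1.trans (List.take_of_length_le (by decide +kernel))

theorem cnt_eqG2 : ((List.range 4).map fun e => expsG2.count e) = cntG2 := by decide +kernel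
theorem exps_ltG2 : ∀ x ∈ expsG2, x < 4 := by decide +kernel

end Cfsg.Agent.Lib.TwTab
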