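import Cfsg.Agent.Lib.StEmb
set_option autoImplicit false

/-! The embedding of the root datum `E6` into `E8` (machine generated). -/

namespace Cfsg.Agent.Lib.StEmbE6
open Cfsg.Lie Cfsg.Agent.Lib.ChevX Cfsg.Agent.Lib.ChevTab Cfsg.Agent.Lib.StEmb

def I : ℕ := 0xccc2bcb9b8b2afaeabaaa9a6a5a4a3a29c9998959493908f8e8d8a8988878483827f7e7b7471706d6c6b686766656261605f5c5b5a5756534d4c4b4a4946454441403d3736332d23
def J : ℕ := 0x4700000000000000000046000000000045000044430000000000420000414000003f3e3d00003c3b3a3938000000000037000036350000343332000031302f2e00002d2c2b2a00002928270000262500002400000000000023000022210000201f1e00001d1c1b1a00001918171600001514130000121100001000000000000f0e0d0c0b00000a09080000070600000500000000000403000002000000000001000000000000000000000000000000000000000000000000000000000000000000000000000000000000000000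

set_option maxRecDepth 1000000

theorem k1 : chkIn chevE6 chevE8 I J = true := by decide +kernel
theorem k2 : chkEnt chevE6 Cfsg.Agent.Lib.ChevDataE6.A chevE8 Cfsg.Agent.Lib.ChevDataE8.A I = true := by decide +kernel

def emb : Emb chevE6 chevE8 := mkEmb Cfsg.Agent.Lib.ChevOkE6.c1 Cfsg.Agent.Lib.ChevOkE8a.c1 k1 k2

end Cfsg.Agent.Lib.StEmbE6
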