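import Cfsg.Agent.Lib.StEmb
set_option autoImplicit false

/-! The embedding of the root datum `E7` into `E8` (machine generated). -/

namespace Cfsg.Agent.Lib.StEmbE7
open Cfsg.Lie Cfsg.Agent.Lib.ChevX Cfsg.Agent.Lib.ChevTab Cfsg.Agent.Lib.StEmb

def I : ℕ := 0xe2dbd6d2cfcdccc8c5c3c2bfbdbcbab9b8b5b3b2b0afaeacabaaa9a7a6a5a4a3a29f9d9c9a99989695949391908f8e8d8b8a89888785848382807f7e7c7b7976747371706f6d6c6b6a68676665646261605f5e5c5b5a595756555352504d4c4b4a49484645444341403f3d3c3a3736353332302d2c2a272322201d19140d
def J : ℕ := 0x7d0000000000007c000000007b0000007a00007900787700000076000075007473000072007170006f6e6d00006c006b6a006968670066656463006261605f5e5d00005c005b5a005958570056555453005251504f4e004d4c4b4a49004847464500444342004140003f00003e003d3c003b3a390038373635003433323130002f2e2d2c2b002a2928270026252400232200210000201f1e1d1c1b001a1918170016151400131200110000100f0e000d0c000b00000a090008000007000000060500040000030000000200000000010000000000000000000000000000000000000000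

set_option maxRecDepth 1000000

theorem k1 : chkIn chevE7 chevE8 I J = true := by decide +kernel
theorem k2 : chkEnt chevE7 Cfsg.Agent.Lib.ChevDataE7.A chevE8 Cfsg.Agent.Lib.ChevDataE8.A I = true := by decide +kernel

def emb : Emb chevE7 chevE8 := mkEmb Cfsg.Agent.Lib.ChevOkE7.c1 Cfsg.Agent.Lib.ChevOkE8a.c1 k1 k2

end Cfsg.Agent.Lib.StEmbE7
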