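import Cfsg.Agent.Lib.NilpMax
import Cfsg.Agent.Lib.H23Nilp
import Cfsg.Agent.Lib.PPart
import Cfsg.Agent.Lib.ClassTwo67
import Cfsg.Agent.Lib.ThompsonJ

/-!
# Groups with a nilpotent maximal subgroup, II (helper1)

* `isSolvable_of_step`: reduction to the existence of normal `p`-complements in the core-free case;
* `class_two`: a nilpotent maximal subgroup of class at most two (S4039);
* `thompson`: Thompson's theorem on nilpotent maximal subgroups of odd order, from the
  Glauberman-Thompson normal `p`-complement theorem.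
-/

set_option autoImplicit false
set_option linter.style.haveILetI false

namespace Cfsg.Agent.Lib.NilpMax

open Subgroup Cfsg Cfsg.Agent.Lib.SubgroupTools Cfsg.Agent.Lib.PNilp Cfsg.Agent.Lib.NilpTools
open scoped commutatorElement

universe u

theorem isSolvable_of_step (C : ∀ (H : Type u) [Group H], Prop)
    (hquot : ∀ (H K : Type u) [Group H] [Group K] (f : H →* K), Function.Surjective f → C H → C K)
    (hnil : ∀ (H : Type u) [Group H], C H → Group.IsNilpotent H)
    (hstep : ∀ (G : Type u) [Group G] [Finite G] (M : Subgroup G), IsCoatom M → M.normalCore = ⊥ →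
      C M → ∀ p : ℕ, p.Prime → p ∣ Nat.card M → HasNormalPComplement p G)
    (G : Type u) [Group G] [Finite G] (M : Subgroup G) (hmax : IsCoatom M) (hM : C M) :
    Group.IsSolvable G := by
  set N := M.normalCore with hN
  have hNM : N ≤ M := M.normalCore_le
  have hsurj : Function.Surjective (QuotientGroup.mk' N) := QuotientGroup.mk'_surjective N
  set M' := M.map (QuotientGroup.mk' N) with hM'
  have hcomap : M'.comap (QuotientGroup.mk' N) = M := by
    rw [hM', comap_map_eq, QuotientGroup.ker_mk', sup_eq_left.mpr hNM]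
  have hcoat : IsCoatom M' := by
    constructor
    · intro h
      rw [h, comap_top] at hcomap
      exact hmax.1 hcomap.symm
    · intro L hL
      have h1 : M < L.comap (QuotientGroup.mk' N) := by
        have h3 := (comap_lt_comap_of_surjective hsurj).mpr hL
        rwa [hcomap] at h3
      have h2 := hmax.2 _ h1
      rw [← map_comap_eq_self_of_surjective hsurj L, h2, ← MonoidHom.range_eq_map,
        MonoidHom.range_eq_top.mpr hsurj]
  have hcore : M'.normalCore = ⊥ := by
    have h1 : (M'.normalCore).comap (QuotientGroup.mk' N) ≤ N := by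
      apply normal_le_normalCore.mpr
      have h3 := comap_mono (f := QuotientGroup.mk' N) M'.normalCore_le
      rwa [hcomap] at h3
    rw [eq_bot_iff, ← map_comap_eq_self_of_surjective hsurj M'.normalCore]
    refine (map_mono h1).trans ?_
    rw [QuotientGroup.map_mk'_self]
  have hCM' : C M' := hquot M M' ((QuotientGroup.mk' N).subgroupMap M)
    (MonoidHom.subgroupMap_surjective _ _) hM
  have hsQ : Group.IsSolvable (G ⧸ N) :=
    isSolvable_of_core_free hcoat (hnil _ hCM') (fun p hp hd => hstep _ M' hcoat hcore hCM' p hp hd)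
  haveI := hnil _ hM
  have hsM : Group.IsSolvable M := inferInstance
  have hsN : Group.IsSolvable N := isSolvable_of_le hNM hsM
  exact Group.isSolvable_of_ker_le_range N.subtype (QuotientGroup.mk' N)
      (by rw [QuotientGroup.ker_mk', range_subtype])

/-- In a nilpotent group, elements act on a Sylow `p`-subgroup like elements of it. -/
theorem exists_same_action {G : Type u} [Group G] [Finite G] {M : Subgroup G}
    (hnil : Group.IsNilpotent M) {p : ℕ} [Fact p.Prime] (P : Sylow p G)
    (hN : M ≤ normalizer ((P : Subgroup G) : Set G)) (hPM : (P : Subgroup G) ≤ M) {g : G}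
    (hg : g ∈ M) : ∃ z ∈ P, ∀ x ∈ P, z * x * z⁻¹ = g * x * g⁻¹ := by
  have hp : p.Prime := Fact.out
  obtain ⟨e, f, hreg⟩ := Cfsg.Agent.Lib.PPart.exists_isRegExp p hp G
  have h1 : g ^ e * g ^ f = g := hreg.mul_eq g
  have hgf : g ^ f ∈ P := by
    obtain ⟨k, hk⟩ := hreg.sing g
    have h2 : IsPGroup p (zpowers (g ^ f)) := by
      apply IsPGroup.of_card (n := k)
      rw [Nat.card_zpowers, hk]
    have h3 : zpowers (g ^ f) ≤ normalizer ((P : Subgroup G) : Set G) := by
      rw [zpowers_le]
      exact hN (pow_mem hg f)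
    have h4 : IsPGroup p (((P : Subgroup G) ⊔ zpowers (g ^ f) : Subgroup G)) :=
      P.2.to_sup_of_normal_left' h2 h3
    have h5 := P.3 h4 le_sup_left
    have h6 : g ^ f ∈ (P : Subgroup G) ⊔ zpowers (g ^ f) := mem_sup_right (mem_zpowers _)
    rw [h5] at h6
    exact h6
  refine ⟨g ^ f, hgf, ?_⟩
  intro x hx
  have hcomm : ∀ y ∈ P, g ^ e * y = y * g ^ e := by
    intro y hy
    apply Cfsg.Agent.Lib.H23Nilp.commute_of_coprime_of_mem hnil (pow_mem hg e) (hPM hy)
    obtain ⟨k, hk⟩ := IsPGroup.iff_orderOf.mp P.2 ⟨y, hy⟩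
    rw [Subgroup.orderOf_mk] at hk
    rw [hk]
    exact (Nat.Coprime.pow_right _ ((Nat.Prime.coprime_iff_not_dvd hp).mpr (hreg.reg g)).symm)
  have hy : g ^ f * x * (g ^ f)⁻¹ ∈ P := P.mul_mem (P.mul_mem hgf hx) (P.inv_mem hgf)
  calc g ^ f * x * (g ^ f)⁻¹ = (g ^ f * x * (g ^ f)⁻¹) * g ^ e * (g ^ e)⁻¹ := by group
    _ = g ^ e * (g ^ f * x * (g ^ f)⁻¹) * (g ^ e)⁻¹ := by rw [hcomm _ hy]
    _ = (g ^ e * g ^ f) * x * (g ^ e * g ^ f)⁻¹ := by group
    _ = g * x * g⁻¹ := by rw [h1]

/-- S4039. -/
theorem class_two {G : Type u} [Group G] [Finite G]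
    (M : Subgroup G) (hmax : IsCoatom M) (hnil : Group.IsNilpotent M)
    (hcl : Group.nilpotencyClass ↥M ≤ 2) : Group.IsSolvable G := by
  refine isSolvable_of_step (fun H _ => Group.IsNilpotent H ∧ ∀ a b : H, ⁅a, b⁆ ∈ center H)
    ?_ (fun H _ h => h.1) ?_ G M hmax ⟨hnil, Cfsg.Agent.Lib.ClassTwo67.comm_mem_center hcl⟩
  · rintro H K _ _ f hf ⟨h1, h2⟩
    refine ⟨Group.nilpotent_of_surjective f hf, ?_⟩
    intro a b
    obtain ⟨a, rfl⟩ := hf a
    obtain ⟨b, rfl⟩ := hf b
    rw [← map_commutatorElement, mem_center_iff]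
    intro c
    obtain ⟨c, rfl⟩ := hf c
    rw [← map_mul, ← map_mul, mem_center_iff.mp (h2 a b) c]
  · rintro G _ _ M hmax hcore ⟨hnil, hcl⟩ p hp hpM
    haveI : Fact p.Prime := ⟨hp⟩
    obtain ⟨P, hPM, hPne, hPN⟩ := exists_sylow hmax hcore hnil p hpM
    apply hasNormalPComplement_of_center P
    · intro Q hZQ
      -- commutators of elements of `M` with `P` lie in `Z(P)`
      have hcomm : ∀ a ∈ P, ∀ b ∈ M, ⁅b, a⁆ ∈ (center (P : Subgroup G)).map (P : Subgroup G).subtype := by
        intro a ha b hb
        have h1 := hcl ⟨b, hb⟩ ⟨a, hPM ha⟩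
        have h2 : ⁅b, a⁆ ∈ (P : Subgroup G) := by
          have h3 : b * a * b⁻¹ ∈ (P : Subgroup G) := by
            rw [← hPN] at hb
            exact (mem_normalizer_iff.mp hb a).mp ha
          rw [commutatorElement_def]
          exact mul_mem h3 (inv_mem ha)
        refine ⟨⟨⁅b, a⁆, h2⟩, mem_center_iff.mpr ?_, rfl⟩
        intro c
        have h3 := mem_center_iff.mp h1 ⟨c, hPM c.2⟩
        apply Subtype.ext
        exact congrArg (fun t : M => (t : G)) h3
      have hDn : M ≤ normalizer (((P : Subgroup G) ⊓ (Q : Subgroup G) : Subgroup G) : Set G) := by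
        have h1 : ∀ b ∈ M, ∀ x ∈ (P : Subgroup G) ⊓ (Q : Subgroup G),
            b * x * b⁻¹ ∈ (P : Subgroup G) ⊓ (Q : Subgroup G) := by
          intro b hb x hx
          obtain ⟨hxP, hxQ⟩ := mem_inf.mp hx
          have h2 := hcomm x hxP b hb
          have h3 : b * x * b⁻¹ = ⁅b, x⁆ * x := by rw [commutatorElement_def]; group
          rw [h3]
          exact mul_mem (mem_inf.mpr ⟨map_subtype_le _ h2, hZQ h2⟩) hx
        intro b hb
        rw [mem_normalizer_iff]
        intro x
        refine ⟨h1 b hb x, fun hx => ?_⟩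
        have h2 := h1 b⁻¹ (inv_mem hb) _ hx
        have h3 : b⁻¹ * (b * x * b⁻¹) * b⁻¹⁻¹ = x := by group
        rwa [h3] at h2
      have hDne : (P : Subgroup G) ⊓ (Q : Subgroup G) ≠ ⊥ := by
        intro h0
        have h1 : (center (P : Subgroup G)).map (P : Subgroup G).subtype ≤ ⊥ := by
          rw [← h0]
          exact le_inf (map_subtype_le _) hZQ
        rw [le_bot_iff, Subgroup.map_eq_bot_iff_of_injective _ (P : Subgroup G).subtype_injective] at h1
        haveI : Nontrivial (P : Subgroup G) := (Subgroup.nontrivial_iff_ne_bot _).mpr hPne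
        have h2 := P.2.center_nontrivial
        rw [h1] at h2
        exact (not_subsingleton_iff_nontrivial.mpr h2) inferInstance
      have hND := normalizer_eq hmax hcore hDne (inf_le_left.trans hPM) hDn
      by_contra hne
      have hlt : (P : Subgroup G) ⊓ (Q : Subgroup G) < Q := by
        refine lt_of_le_of_ne inf_le_right ?_
        intro h0
        have h1 : (Q : Subgroup G) ≤ P := by rw [← h0]; exact inf_le_left
        exact hne (Sylow.ext (Q.3 P.2 h1).symm)
      have h1 := Cfsg.Agent.Lib.Alperin.lt_inf_normalizer (Q : Subgroup G) _ Q.2 hlt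
      obtain ⟨x, hx, hxn⟩ := SetLike.exists_of_lt h1
      obtain ⟨hxQ, hxN⟩ := mem_inf.mp hx
      apply hxn
      refine mem_inf.mpr ⟨?_, hxQ⟩
      -- `x ∈ M` is a `p`-element so in `P`
      rw [hND] at hxN
      have h2 : IsPGroup p (zpowers x) := Q.2.to_le (by rw [zpowers_le]; exact hxQ)
      have h3 : zpowers x ≤ normalizer ((P : Subgroup G) : Set G) := by
        rw [zpowers_le, hPN]; exact hxN
      have h4 : IsPGroup p (((P : Subgroup G) ⊔ zpowers x : Subgroup G)) :=
        P.2.to_sup_of_normal_left' h2 h3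
      have h5 := P.3 h4 le_sup_left
      have h6 : x ∈ (P : Subgroup G) ⊔ zpowers x := mem_sup_right (mem_zpowers _)
      rw [h5] at h6
      exact h6
    · intro x hx g hg
      rw [hPN] at hg
      obtain ⟨z, hz, h⟩ := exists_same_action hnil P hPN.ge hPM hg
      exact ⟨z, hz, h x hx⟩

/-- A finite nilpotent group has normal `p`-complements. -/
theorem hasNormalPComplement_of_isNilpotent {M : Type u} [Group M] [Finite M]
    (hnil : Group.IsNilpotent M) (p : ℕ) [Fact p.Prime] : HasNormalPComplement p M := by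
  obtain ⟨P⟩ : Nonempty (Sylow p M) := inferInstance
  apply Cfsg.Agent.Lib.Transfer.hasNormalPComplement_of_ownFusion P
  rintro x hx y hy ⟨g, rfl⟩
  have hn : (P : Subgroup M).Normal := inferInstance
  have hnil' : Group.IsNilpotent (⊤ : Subgroup M) := inferInstance
  obtain ⟨z, hz, h⟩ := exists_same_action hnil' P (by rw [normalizer_eq_top_iff.mpr hn]) le_top
    (mem_top g)
  exact ⟨z, hz, h x hx⟩

/-- Thompson's theorem (S4040), from the Glauberman-Thompson theorem. -/
theorem thompson
    (GT : ∀ (G : Type u) [Group G] [Finite G] (p : ℕ) [Fact p.Prime], p ≠ 2 → ∀ P : Sylow p G,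
      HasNormalPComplement p (normalizer (centerThompsonOf p (P : Subgroup G) : Set G)) →
      HasNormalPComplement p G)
    {G : Type u} [Group G] [Finite G]
    (M : Subgroup G) (hmax : IsCoatom M) (hnil : Group.IsNilpotent M)
    (hodd : Odd (Nat.card M)) : Group.IsSolvable G := by
  refine isSolvable_of_step (fun H _ => Group.IsNilpotent H ∧ Odd (Nat.card H))
    ?_ (fun H _ h => h.1) ?_ G M hmax ⟨hnil, hodd⟩
  · rintro H K _ _ f hf ⟨h1, h2⟩
    refine ⟨Group.nilpotent_of_surjective f hf, ?_⟩
    exact Odd.of_dvd_nat h2 (Subgroup.card_dvd_of_surjective f hf)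
  · rintro G _ _ M hmax hcore ⟨hnil, hodd⟩ p hp hpM
    haveI : Fact p.Prime := ⟨hp⟩
    have hp2 : p ≠ 2 := by
      rintro rfl
      exact (Nat.not_even_iff_odd.mpr hodd) (even_iff_two_dvd.mpr hpM)
    obtain ⟨P, hPM, hPne, hPN⟩ := exists_sylow hmax hcore hnil p hpM
    apply GT G p hp2 P
    set Z := centerThompsonOf p (P : Subgroup G) with hZ
    have hJ := Cfsg.Agent.Lib.ThompsonJ.thompsonSubgroupOf_eq p (P : Subgroup G)
    set J := thompsonSubgroupOf p (P : Subgroup G) with hJdef
    have hZJ : Z = J ⊓ centralizer (J : Set G) := rfl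
    have hJN : M ≤ normalizer (J : Set G) := by
      rw [hJ, ← hPN]
      exact Cfsg.Agent.Lib.ThompsonJ.normalizer_le_normalizer_J_elem _
    have hJP : J ≤ P := by rw [hJ]; exact Cfsg.Agent.Lib.ThompsonJ.J_le
    have hZN : M ≤ normalizer (Z : Set G) := by
      have h1 : normalizer (J : Set G) ≤ normalizer (Z : Set G) := by
        intro g hg
        have h2 : ∀ g ∈ normalizer (J : Set G), ∀ z ∈ Z, g * z * g⁻¹ ∈ Z := by
          intro g hg z hz
          rw [hZJ] at hz ⊢
          obtain ⟨hz1, hz2⟩ := mem_inf.mp hz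
          refine mem_inf.mpr ⟨(mem_normalizer_iff.mp hg z).mp hz1, ?_⟩
          rw [mem_centralizer_iff] at hz2 ⊢
          intro h hh
          have h3 : g⁻¹ * h * g ∈ J := by
            have h5 := (mem_normalizer_iff.mp (inv_mem hg) h).mp hh
            rwa [inv_inv] at h5
          have h4 := hz2 _ h3
          calc h * (g * z * g⁻¹) = g * ((g⁻¹ * h * g) * z) * g⁻¹ := by group
            _ = g * (z * (g⁻¹ * h * g)) * g⁻¹ := by rw [h4]
            _ = g * z * g⁻¹ * h := by group
        rw [mem_normalizer_iff]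
        intro z
        refine ⟨h2 g hg z, fun hz => ?_⟩
        have h5 := h2 _ (inv_mem hg) _ hz
        have h3 : g⁻¹ * (g * z * g⁻¹) * g⁻¹⁻¹ = z := by group
        rwa [h3] at h5
      exact hJN.trans h1
    have hZne : Z ≠ ⊥ := by
      -- a central element of order `p`
      haveI : Nontrivial (P : Subgroup G) := (Subgroup.nontrivial_iff_ne_bot _).mpr hPne
      have h2 : Nontrivial (center (P : Subgroup G)) := P.2.center_nontrivial
      have h3 : IsPGroup p (center (P : Subgroup G)) := P.2.to_subgroup _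
      obtain ⟨k, hk⟩ := IsPGroup.iff_card.mp h3
      have h4 : p ∣ Nat.card (center (P : Subgroup G)) := by
        rw [hk]
        have hk0 : k ≠ 0 := by
          rintro rfl
          rw [pow_zero] at hk
          exact (Finite.one_lt_card_iff_nontrivial.mpr h2).ne' hk
        exact dvd_pow_self p hk0
      obtain ⟨z, hz⟩ := exists_prime_orderOf_dvd_card' p h4
      have hzc : ∀ w ∈ P, w * ((z : (P : Subgroup G)) : G) = ((z : (P : Subgroup G)) : G) * w := by
        intro w hw
        have := mem_center_iff.mp z.2 ⟨w, hw⟩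
        exact congrArg Subtype.val this
      have hzp : (((z : (P : Subgroup G)) : G)) ^ p = 1 := by
        have h5 : z ^ p = 1 := orderOf_dvd_iff_pow_eq_one.mp hz.dvd
        have h6 := congrArg (fun t : center (P : Subgroup G) => ((t : (P : Subgroup G)) : G)) h5
        simpa using h6
      have hzJ : ((z : (P : Subgroup G)) : G) ∈ J := by
        obtain ⟨A, hA⟩ := Cfsg.Agent.Lib.ThompsonJ.maxElem_nonempty p (P : Subgroup G)
        have hAJ := Cfsg.Agent.Lib.ThompsonJ.le_J hA
        rw [hJ]
        apply hAJ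
        apply Cfsg.Agent.Lib.ThompsonJ.mem_of_centralizes_elem hA
        · exact (z : (P : Subgroup G)).2
        · exact hzp
        · intro a ha
          exact hzc a (hA.1 ha)
      intro h0
      have h5 : ((z : (P : Subgroup G)) : G) ∈ Z := by
        rw [hZJ]
        refine mem_inf.mpr ⟨hzJ, ?_⟩
        rw [mem_centralizer_iff]
        intro h hh
        exact hzc h (hJP hh)
      rw [h0, mem_bot] at h5
      have h6 : z = 1 := by
        apply Subtype.ext; apply Subtype.ext; exact h5
      rw [h6, orderOf_one] at hz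
      exact hp.one_lt.ne hz
    have hND := normalizer_eq hmax hcore hZne ((inf_le_left.trans hJP).trans hPM) hZN
    rw [hND]
    exact hasNormalPComplement_of_isNilpotent hnil p

end Cfsg.Agent.Lib.NilpMax
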