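import Cfsg.Agent.Lib.ActNilp
import Cfsg.Agent.Lib.NilpMax2
import Cfsg.Agent.Lib.CoprimeAction2
import Cfsg.Agent.Lib.ConjSylow
import Cfsg.Agent.Lib.ProdCard
import Cfsg.Agent.Lib.Replacement
import Cfsg.Agent.Lib.ClassTwo67

set_option autoImplicit false
set_option linter.style.haveILetI false
set_option linter.unusedSectionVars false

/-!
# Coprime action: an invariant nilpotent maximal subgroup (preparations)
-/

namespace Cfsg.Agent.Lib.ActDesk

open Subgroup Cfsg Cfsg.Agent.Lib.ActNilp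
open scoped commutatorElement

universe u v

/-- groups with an abelian TI self-normalizing Sylow 2-subgroup -/
theorem frob_aux {X : Type*} [Group X] [Finite X] (S : Sylow 2 X)
    (hab : ∀ a ∈ (S : Subgroup X), ∀ b ∈ (S : Subgroup X), a * b = b * a)
    (hTI : ∀ x : X, x ∉ (S : Subgroup X) → ∀ y ∈ (S : Subgroup X), x * y * x⁻¹ ∈ (S : Subgroup X) → y = 1)
    (hS : (S : Subgroup X) ≠ ⊤) :
    ∃ (k : X) (r : ℕ), r.Prime ∧ r ≠ 2 ∧ orderOf k = r ∧
      ∀ t ∈ (S : Subgroup X), orderOf t = 2 → t * k * t⁻¹ = k⁻¹ := by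
  classical
  have hF2 : Fact (Nat.Prime 2) := ⟨Nat.prime_two⟩
  by_cases hSb : (S : Subgroup X) = ⊥
  · have hodd : ¬ 2 ∣ Nat.card X := by
      intro h
      exact S.ne_bot_of_dvd_card h hSb
    have hc : Nat.card X ≠ 1 := by
      intro h
      apply hS
      rw [hSb]
      have := (Nat.card_eq_one_iff_unique.1 h).1
      exact Subsingleton.elim _ _
    obtain ⟨r, hr, hrd⟩ := Nat.exists_prime_and_dvd hc
    have hFr := Fact.mk hr
    obtain ⟨k, hk⟩ := exists_prime_orderOf_dvd_card' r hrd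
    refine ⟨k, r, hr, ?_, hk, ?_⟩
    · rintro rfl; exact hodd hrd
    · intro t ht h2
      rw [hSb, mem_bot] at ht
      rw [ht, orderOf_one] at h2
      exact absurd h2 (by norm_num)
  have hnorm : normalizer ((S : Subgroup X) : Set X) ≤ centralizer ((S : Subgroup X) : Set X) := by
    intro x hx
    have hxS : x ∈ (S : Subgroup X) := by
      by_contra hxS
      obtain ⟨y, hy, hy1⟩ := (S : Subgroup X).bot_or_exists_ne_one.resolve_left hSb
      exact hy1 (hTI x hxS y hy ((mem_normalizer_iff.1 hx y).1 hy))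
    rw [mem_centralizer_iff]
    intro y hy
    exact hab y hy x hxS
  have hcomp := MonoidHom.ker_transferSylow_isComplement' S hnorm
  set K := (MonoidHom.transferSylow S hnorm).ker with hK
  have hKn : K.Normal := by rw [hK]; infer_instance
  have hKb : Nat.card K ≠ 1 := by
    intro h
    have h1 : K = ⊥ := Subgroup.eq_bot_of_card_eq _ h
    apply hS
    have h2 := hcomp.sup_eq_top
    rwa [h1, bot_sup_eq] at h2
  have hKodd : ¬ 2 ∣ Nat.card K := by
    have := MonoidHom.not_dvd_card_ker_transferSylow S hnorm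
    exact this
  obtain ⟨r, hr, hrd⟩ := Nat.exists_prime_and_dvd hKb
  have hFr := Fact.mk hr
  obtain ⟨k, hk⟩ := exists_prime_orderOf_dvd_card' r hrd
  refine ⟨k, r, hr, ?_, ?_, ?_⟩
  · rintro rfl; exact hKodd hrd
  · rw [Subgroup.orderOf_coe, hk]
  · intro t ht h2
    have ht1 : t ≠ 1 := by
      rintro rfl; rw [orderOf_one] at h2; exact absurd h2 (by norm_num)
    have htt : t * t = 1 := by rw [← pow_two, ← h2, pow_orderOf_eq_one]
    let f : K →* K := (MulAut.conjNormal t : MulAut K).toMonoidHom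
    have hf : ∀ x : K, ((f x : K) : X) = t * (x : X) * t⁻¹ := fun x => rfl
    have hfp : MonoidHom.FixedPointFree f := by
      intro x hx
      have h3 : t * (x : X) * t⁻¹ = x := by rw [← hf, hx]
      have h4 : (x : X) ∈ (S : Subgroup X) := by
        by_contra hxS
        apply ht1
        apply hTI x hxS t ht
        have h5 : (x : X) * t * (x : X)⁻¹ = t := by
          have h6 : t * (x : X) = x * t := by
            have := congrArg (· * t) h3
            simpa using this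
          rw [← h6]; group
        rw [h5]; exact ht
      have h5 : (x : X) ∈ K ⊓ (S : Subgroup X) := ⟨x.2, h4⟩
      rw [hcomp.disjoint.eq_bot, mem_bot] at h5
      exact Subtype.ext h5
    have hinv : Function.Involutive f := by
      intro x
      apply Subtype.ext
      rw [hf, hf]
      have h6 : t⁻¹ = t := inv_eq_of_mul_eq_one_right htt
      rw [h6]
      calc t * (t * (x : X) * t) * t = (t * t) * x * (t * t) := by group
        _ = x := by rw [htt]; group
    have h3 := congrFun (MonoidHom.FixedPointFree.coe_eq_inv_of_involutive hfp hinv) k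
    have h4 := congrArg (Subtype.val) h3
    rw [hf] at h4
    exact h4


section Basic

variable {A : Type v} [Group A] {G : Type u} [Group G] [Finite G] {φ : A →* MulAut G} {M : Subgroup G}

/-- the core-free configuration -/
structure Cfg (φ : A →* MulAut G) (M : Subgroup G) : Prop where
  ne_top : M ≠ ⊤
  inv : Inv φ M
  max : ∀ H : Subgroup G, M ≤ H → H ≠ ⊤ → Inv φ H → H = M
  nil : Group.IsNilpotent M
  core : M.normalCore = ⊥

theorem Cfg.normalizer_eq (h : Cfg φ M) {D : Subgroup G} (hD : D ≠ ⊥) (hDM : D ≤ M) (hDi : Inv φ D)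
    (hn : M ≤ normalizer (D : Set G)) : normalizer (D : Set G) = M := by
  by_contra hne
  have h1 : normalizer (D : Set G) = ⊤ := by
    by_contra h2
    exact hne (h.max _ hn h2 hDi.normalizer)
  have h2 : D.Normal := normalizer_eq_top_iff.mp h1
  have h3 : D ≤ M.normalCore := normal_le_normalCore.mpr hDM
  rw [h.core] at h3
  exact hD (le_bot_iff.mp h3)

theorem orderOf_phi (a : A) (x : G) : orderOf (φ a x) = orderOf x :=
  MulEquiv.orderOf_eq (φ a) x

theorem phi_inv_phi (a : A) (x : G) : φ a⁻¹ (φ a x) = x := by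
  rw [← MulAut.mul_apply, ← map_mul, inv_mul_cancel, map_one, MulAut.one_apply]

theorem phi_phi_inv (a : A) (x : G) : φ a (φ a⁻¹ x) = x := by
  rw [← MulAut.mul_apply, ← map_mul, mul_inv_cancel, map_one, MulAut.one_apply]

theorem Cfg.exists_sylow (h : Cfg φ M) (p : ℕ) [hp : Fact p.Prime] (hpd : p ∣ Nat.card M) :
    ∃ P : Sylow p G, (P : Subgroup G) ≤ M ∧ (P : Subgroup G) ≠ ⊥ ∧ Inv φ (P : Subgroup G) ∧
      normalizer ((P : Subgroup G) : Set G) = M := by
  have hnil := h.nil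
  obtain ⟨S⟩ : Nonempty (Sylow p M) := inferInstance
  have hSn : (S : Subgroup M).Normal := inferInstance
  set P0 : Subgroup G := (S : Subgroup M).map M.subtype with hP0
  have hP0M : P0 ≤ M := map_subtype_le _
  have hP0p : IsPGroup p P0 := S.2.map _
  have hMN : M ≤ normalizer (P0 : Set G) := by
    intro m hm
    rw [mem_normalizer_iff]
    intro x
    constructor
    · rintro ⟨y, hy, rfl⟩
      exact ⟨⟨m, hm⟩ * y * ⟨m, hm⟩⁻¹, hSn.conj_mem _ hy _, rfl⟩
    · rintro ⟨y, hy, hyx⟩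
      refine ⟨⟨m, hm⟩⁻¹ * y * ⟨m, hm⟩, ?_, ?_⟩
      · have := hSn.conj_mem _ hy (⟨m, hm⟩⁻¹)
        rw [inv_inv] at this
        exact this
      · have h1 : (y : G) = m * x * m⁻¹ := hyx
        show m⁻¹ * (y : G) * m = x
        rw [h1]; group
  have hSne : (S : Subgroup M) ≠ ⊥ := S.ne_bot_of_dvd_card hpd
  have hP0ne : P0 ≠ ⊥ := by
    intro h
    rw [hP0, Subgroup.map_eq_bot_iff_of_injective _ M.subtype_injective] at h
    exact hSne h
  have hinv : Inv φ P0 := by
    rintro a _ ⟨x, hx, rfl⟩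
    have h1 : φ a (x : G) ∈ M := h.inv a _ x.2
    obtain ⟨k, hk⟩ := IsPGroup.iff_orderOf.1 S.2 ⟨x, hx⟩
    rw [Subgroup.orderOf_mk] at hk
    have h2 : IsPGroup p (zpowers (⟨φ a (x : G), h1⟩ : M)) := by
      apply IsPGroup.of_card (n := k)
      rw [Nat.card_zpowers, Subgroup.orderOf_mk, orderOf_phi, Subgroup.orderOf_coe, hk]
    obtain ⟨T, hT⟩ := h2.exists_le_sylow
    have h3 : T = S := by
      have := Sylow.unique_of_normal S hSn
      exact Subsingleton.elim _ _
    rw [h3] at hT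
    exact ⟨_, hT (mem_zpowers _), rfl⟩
  have hN := h.normalizer_eq hP0ne hP0M hinv hMN
  obtain ⟨Q, hQ⟩ := hP0p.exists_le_sylow
  have hQP : (Q : Subgroup G) = P0 := by
    apply Cfsg.Agent.Lib.StrongEmb.isSylow_of_normalizer (p := p) (Q := P0) _ Q.2 hQ
    intro R hR hPR hRN
    rw [hN] at hRN
    have h1 : IsPGroup p (R.subgroupOf M) := hR.comap_of_injective _ M.subtype_injective
    have h2 : (S : Subgroup M) ≤ R.subgroupOf M := by
      intro x hx
      exact mem_subgroupOf.mpr (hPR ⟨x, hx, rfl⟩)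
    have h3 := S.3 h1 h2
    have h4 : (R.subgroupOf M).map M.subtype = R := by
      rw [subgroupOf_map_subtype, inf_of_le_left hRN]
    rw [← h4, h3]
  refine ⟨Q, hQP ▸ hP0M, hQP ▸ hP0ne, hQP ▸ hinv, ?_⟩
  rw [hQP]; exact hN

theorem mem_of_normalizer {p : ℕ} [Fact p.Prime] (P : Sylow p G) {x : G}
    (hx : x ∈ normalizer ((P : Subgroup G) : Set G)) (hk : ∃ k, orderOf x = p ^ k) : x ∈ (P : Subgroup G) := by
  obtain ⟨k, hk⟩ := hk
  have h2 : IsPGroup p (zpowers x) := by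
    apply IsPGroup.of_card (n := k)
    rw [Nat.card_zpowers, hk]
  have h3 : zpowers x ≤ normalizer ((P : Subgroup G) : Set G) := by
    rw [zpowers_le]; exact hx
  have h4 : IsPGroup p (((P : Subgroup G) ⊔ zpowers x : Subgroup G)) :=
    P.2.to_sup_of_normal_left' h2 h3
  have h5 := P.3 h4 le_sup_left
  have h6 : x ∈ (P : Subgroup G) ⊔ zpowers x := mem_sup_right (mem_zpowers _)
  rw [h5] at h6
  exact h6

theorem exists_orderOf {p : ℕ} [Fact p.Prime] {P : Subgroup G} (hP : IsPGroup p P) {x : G} (hx : x ∈ P) :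
    ∃ k, orderOf x = p ^ k := by
  obtain ⟨k, hk⟩ := IsPGroup.iff_orderOf.1 hP ⟨x, hx⟩
  exact ⟨k, by rwa [Subgroup.orderOf_mk] at hk⟩

theorem commute_reg (hnil : Group.IsNilpotent M) {p : ℕ} [hp : Fact p.Prime] {P : Subgroup G} (hP : IsPGroup p P)
    (hPM : P ≤ M) {y : G} (hy : y ∈ M) (hyr : ¬ p ∣ orderOf y) {x : G} (hx : x ∈ P) : y * x = x * y := by
  have h1 := H23Nilp.commute_of_coprime_orderOf (G := M) ⟨y, hy⟩ ⟨x, hPM hx⟩ (by
    rw [Subgroup.orderOf_mk, Subgroup.orderOf_mk]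
    obtain ⟨j, hj⟩ := exists_orderOf hP hx
    rw [hj]
    exact Nat.Coprime.pow_right j ((Nat.Prime.coprime_iff_not_dvd hp.out).2 hyr).symm)
  exact congrArg Subtype.val h1

/-- subgroups of `P` normal in `P` are normal in `M` -/
theorem le_normalizer_of (hnil : Group.IsNilpotent M) {p : ℕ} [hp : Fact p.Prime] (P : Sylow p G)
    (hPM : (P : Subgroup G) ≤ M) (hN : M ≤ normalizer ((P : Subgroup G) : Set G)) {U : Subgroup G}
    (hU : U ≤ (P : Subgroup G)) (hPU : (P : Subgroup G) ≤ normalizer (U : Set G)) : M ≤ normalizer (U : Set G) := by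
  intro m hm
  obtain ⟨z, hz, hzx⟩ := NilpMax.exists_same_action hnil P hN hPM hm
  have h1 := hPU hz
  rw [mem_normalizer_iff] at h1 ⊢
  intro x
  by_cases hx : x ∈ (P : Subgroup G)
  · rw [← hzx x hx]; exact h1 x
  · constructor
    · intro h; exact absurd (hU h) hx
    · intro h
      exact absurd ((mem_normalizer_iff.1 (hN hm) x).2 (hU h)) hx

end Basic

section Two

variable {A : Type v} [Group A] {G : Type u} [Group G] [Finite G] {φ : A →* MulAut G} {M : Subgroup G}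

/-- the configuration at the prime 2 -/
structure DCfg (φ : A →* MulAut G) (M : Subgroup G) (P : Sylow 2 G) (D : Subgroup G) : Prop where
  cfg : Cfg φ M
  hPM : (P : Subgroup G) ≤ M
  hPne : (P : Subgroup G) ≠ ⊥
  hPi : Inv φ (P : Subgroup G)
  hN : normalizer ((P : Subgroup G) : Set G) = M
  hcl : ∀ a ∈ (P : Subgroup G), ∀ b ∈ (P : Subgroup G), ∀ c ∈ (P : Subgroup G), ⁅a, b⁆ * c = c * ⁅a, b⁆
  hDP : D ≤ (P : Subgroup G)
  hZ : ∀ x ∈ (P : Subgroup G), (∀ y ∈ (P : Subgroup G), x * y = y * x) → x ∈ D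
  hT : ∀ T : Sylow 2 G, D ≤ (T : Subgroup G) → T ≠ P → (P : Subgroup G) ⊓ (T : Subgroup G) = D
  hND : ¬ normalizer (D : Set G) ≤ M

theorem commutator_mem_of {P : Subgroup G} {a b : G} (ha : a ∈ P) (hb : b ∈ P) : ⁅a, b⁆ ∈ P := by
  rw [commutatorElement_def]
  exact mul_mem (mul_mem (mul_mem ha hb) (inv_mem ha)) (inv_mem hb)

/-- subgroups containing the centre are normal in a group of class two -/
theorem le_normalizer_of_class {P D : Subgroup G}
    (hcl : ∀ a ∈ P, ∀ b ∈ P, ∀ c ∈ P, ⁅a, b⁆ * c = c * ⁅a, b⁆) (hDP : D ≤ P)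
    (hZ : ∀ x ∈ P, (∀ y ∈ P, x * y = y * x) → x ∈ D) : P ≤ normalizer (D : Set G) := by
  have key : ∀ b ∈ P, ∀ x ∈ D, b * x * b⁻¹ ∈ D := by
    intro b hb x hx
    have h3 : b * x * b⁻¹ = ⁅b, x⁆ * x := by rw [commutatorElement_def]; group
    rw [h3]
    refine mul_mem ?_ hx
    apply hZ
    · exact commutator_mem_of hb (hDP hx)
    · intro y hy; exact hcl b hb x (hDP hx) y hy
  intro b hb
  rw [mem_normalizer_iff]
  intro x
  refine ⟨key b hb x, fun hx => ?_⟩
  have h2 := key b⁻¹ (inv_mem hb) _ hx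
  have h3 : b⁻¹ * (b * x * b⁻¹) * b⁻¹⁻¹ = x := by group
  rwa [h3] at h2

theorem exists_D (h : Cfg φ M) (P : Sylow 2 G) (hPM : (P : Subgroup G) ≤ M) (hPne : (P : Subgroup G) ≠ ⊥)
    (hPi : Inv φ (P : Subgroup G)) (hN : normalizer ((P : Subgroup G) : Set G) = M)
    (hcl : ∀ a ∈ (P : Subgroup G), ∀ b ∈ (P : Subgroup G), ∀ c ∈ (P : Subgroup G), ⁅a, b⁆ * c = c * ⁅a, b⁆)
    (hnc : ¬ HasNormalPComplement 2 G) : ∃ D : Subgroup G, DCfg φ M P D := by
  classical
  have hF2 : Fact (Nat.Prime 2) := ⟨Nat.prime_two⟩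
  have hnil := h.nil
  -- another Sylow subgroup containing the centre
  obtain ⟨Q0, hQ0, hQ0P⟩ : ∃ Q : Sylow 2 G, (∀ x ∈ (P : Subgroup G), (∀ y ∈ (P : Subgroup G), x * y = y * x) →
      x ∈ (Q : Subgroup G)) ∧ Q ≠ P := by
    by_contra hcon
    push Not at hcon
    apply hnc
    apply NilpMax.hasNormalPComplement_of_center P
    · intro Q hQ
      apply hcon
      intro x hx hxc
      apply hQ
      refine ⟨⟨x, hx⟩, mem_center_iff.2 ?_, rfl⟩
      intro y
      exact Subtype.ext (hxc y y.2).symm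
    · intro x hx g hg
      obtain ⟨z, hz, h1⟩ := NilpMax.exists_same_action hnil P hN.ge hPM (hN ▸ hg)
      exact ⟨z, hz, h1 x hx⟩
  let S : Set (Sylow 2 G) := {Q | (∀ x ∈ (P : Subgroup G), (∀ y ∈ (P : Subgroup G), x * y = y * x) →
      x ∈ (Q : Subgroup G)) ∧ Q ≠ P}
  obtain ⟨Q, ⟨hQ, hQP⟩, hmax⟩ := Set.exists_max_image S (fun Q => Nat.card ((P : Subgroup G) ⊓ (Q : Subgroup G) : Subgroup G))
    (Set.toFinite S) ⟨Q0, hQ0, hQ0P⟩
  set D := (P : Subgroup G) ⊓ (Q : Subgroup G) with hD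
  have hZ : ∀ x ∈ (P : Subgroup G), (∀ y ∈ (P : Subgroup G), x * y = y * x) → x ∈ D :=
    fun x hx hxc => ⟨hx, hQ x hx hxc⟩
  refine ⟨D, h, hPM, hPne, hPi, hN, hcl, inf_le_left, hZ, ?_, ?_⟩
  · intro T hDT hTP
    have h1 := hmax T ⟨fun x hx hxc => hDT (hZ x hx hxc), hTP⟩
    have h2 : D ≤ (P : Subgroup G) ⊓ (T : Subgroup G) := le_inf inf_le_left hDT
    exact (Subgroup.eq_of_le_of_card_ge h2 h1).symm
  · intro hNM
    have hlt : D < Q := by
      refine lt_of_le_of_ne inf_le_right ?_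
      intro h0
      have h1 : (Q : Subgroup G) ≤ P := by rw [← h0]; exact inf_le_left
      exact hQP (Sylow.ext (Q.3 P.2 h1).symm)
    have h1 := Cfsg.Agent.Lib.Alperin.lt_inf_normalizer (Q : Subgroup G) _ Q.2 hlt
    obtain ⟨x, hx, hxn⟩ := SetLike.exists_of_lt h1
    obtain ⟨hxQ, hxN⟩ := mem_inf.mp hx
    apply hxn
    refine mem_inf.mpr ⟨?_, hxQ⟩
    apply mem_of_normalizer P
    · rw [hN]; exact hNM hxN
    · exact exists_orderOf Q.2 hxQ

namespace DCfg

variable {P : Sylow 2 G} {D : Subgroup G} (h : DCfg φ M P D)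
include h

theorem le_norm : (P : Subgroup G) ≤ normalizer (D : Set G) :=
  le_normalizer_of_class h.hcl h.hDP h.hZ

theorem normalizer_eq {U : Subgroup G} (hU : U ≤ (P : Subgroup G)) (hU1 : U ≠ ⊥) (hUi : Inv φ U)
    (hPU : (P : Subgroup G) ≤ normalizer (U : Set G)) : normalizer (U : Set G) = M := by
  have hF2 : Fact (Nat.Prime 2) := ⟨Nat.prime_two⟩
  exact h.cfg.normalizer_eq hU1 (hU.trans h.hPM) hUi (le_normalizer_of h.cfg.nil P h.hPM h.hN.ge hU hPU)

/-- central elements of `P` -/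
theorem centre_ne_bot : ∃ z ∈ (P : Subgroup G), (∀ y ∈ (P : Subgroup G), z * y = y * z) ∧ z ≠ 1 := by
  have hF2 : Fact (Nat.Prime 2) := ⟨Nat.prime_two⟩
  haveI : Nontrivial (P : Subgroup G) := (Subgroup.nontrivial_iff_ne_bot _).mpr h.hPne
  have h2 := P.2.center_nontrivial
  obtain ⟨⟨z, hz⟩, hz1⟩ := exists_ne (1 : center (P : Subgroup G))
  refine ⟨z, z.2, ?_, ?_⟩
  · intro y hy
    exact congrArg Subtype.val (mem_center_iff.1 hz ⟨y, hy⟩).symm
  · intro h1
    apply hz1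
    apply Subtype.ext
    exact Subtype.ext h1

theorem centralizer_le_M : centralizer (D : Set G) ≤ M := by
  have hF2 : Fact (Nat.Prime 2) := ⟨Nat.prime_two⟩
  let Z : Subgroup G := (P : Subgroup G) ⊓ centralizer ((P : Subgroup G) : Set G)
  have hZD : Z ≤ D := by
    rintro x ⟨hx, hxc⟩
    apply h.hZ x hx
    intro y hy
    exact (mem_centralizer_iff.1 hxc y hy).symm
  have hZi : Inv φ Z := by
    rintro a x ⟨hx, hxc⟩
    refine ⟨h.hPi a x hx, ?_⟩
    refine mem_centralizer_iff.2 ?_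
    intro y hy
    have h1 := mem_centralizer_iff.1 hxc (φ a⁻¹ y) (h.hPi a⁻¹ y hy)
    have h2 := congrArg (φ a) h1
    rw [map_mul, map_mul, phi_phi_inv] at h2
    exact h2
  have hZ1 : Z ≠ ⊥ := by
    obtain ⟨z, hz, hzc, hz1⟩ := h.centre_ne_bot
    intro h0
    apply hz1
    rw [← mem_bot, ← h0]
    refine ⟨hz, ?_⟩
    refine mem_centralizer_iff.2 ?_
    intro y hy
    exact (hzc y hy).symm
  have hPZ : (P : Subgroup G) ≤ normalizer (Z : Set G) := by
    apply le_normalizer_of_class h.hcl inf_le_left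
    intro x hx hxc
    refine ⟨hx, ?_⟩
    refine mem_centralizer_iff.2 ?_
    intro y hy
    exact (hxc y hy).symm
  rw [← h.normalizer_eq inf_le_left hZ1 hZi hPZ]
  refine (centralizer_le ?_).trans (Subgroup.centralizer_le_normalizer _)
  exact hZD

theorem M_eq : M = (P : Subgroup G) := by
  classical
  have hF2 : Fact (Nat.Prime 2) := ⟨Nat.prime_two⟩
  set s : Set G := {y | y ∈ M ∧ ¬ 2 ∣ orderOf y} with hs
  have hs2 : ∀ y, y ∈ s ↔ y ∈ centralizer (D : Set G) ∧ ¬ 2 ∣ orderOf y := by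
    intro y
    constructor
    · rintro ⟨h1, h2⟩
      refine ⟨?_, h2⟩
      rw [mem_centralizer_iff]
      intro x hx
      exact (commute_reg h.cfg.nil P.2 h.hPM h1 h2 (h.hDP hx)).symm
    · rintro ⟨h1, h2⟩
      exact ⟨h.centralizer_le_M h1, h2⟩
  have hconj : ∀ g : G, (∀ y ∈ s, g * y * g⁻¹ ∈ s) → (∀ y ∈ s, g⁻¹ * y * g ∈ s) → g ∈ normalizer ((closure s : Subgroup G) : Set G) := by
    intro g h1 h2
    have key : ∀ g : G, (∀ y ∈ s, g * y * g⁻¹ ∈ s) → ∀ x ∈ closure s, g * x * g⁻¹ ∈ closure s := by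
      intro g h1 x hx
      have h3 : closure s ≤ (closure s).comap (MulAut.conj g).toMonoidHom := by
        rw [closure_le]
        intro y hy
        exact Subgroup.subset_closure (h1 y hy)
      exact h3 hx
    rw [mem_normalizer_iff]
    intro x
    refine ⟨key g h1 x, fun hx => ?_⟩
    have h4 := key g⁻¹ (by simpa using h2) _ hx
    have h5 : g⁻¹ * (g * x * g⁻¹) * g⁻¹⁻¹ = x := by group
    rwa [h5] at h4
  have hord : ∀ g y : G, orderOf (g * y * g⁻¹) = orderOf y := fun g y => MulEquiv.orderOf_eq (MulAut.conj g) y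
  have hord' : ∀ g y : G, orderOf (g⁻¹ * y * g) = orderOf y := fun g y => by
    have := hord g⁻¹ y
    rwa [inv_inv] at this
  by_cases hY : closure s = ⊥
  · apply le_antisymm _ h.hPM
    intro x hx
    apply mem_of_normalizer P (h.hN.ge hx)
    obtain ⟨e, f, hreg⟩ := PPart.exists_isRegExp 2 Nat.prime_two G
    have h1 : x ^ e = 1 := by
      have h2 : x ^ e ∈ closure s := Subgroup.subset_closure ⟨pow_mem hx e, hreg.reg x⟩
      rwa [hY, mem_bot] at h2
    have h2 := hreg.mul_eq x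
    rw [h1, one_mul] at h2
    obtain ⟨k, hk⟩ := hreg.sing x
    exact ⟨k, by rwa [h2] at hk⟩
  · exfalso
    have hYM : closure s ≤ M := by
      rw [closure_le]; exact fun y hy => hy.1
    have hYi : Inv φ (closure s) := by
      intro a x hx
      have h3 : closure s ≤ (closure s).comap (φ a).toMonoidHom := by
        rw [closure_le]
        intro y hy
        apply Subgroup.subset_closure
        refine ⟨h.cfg.inv a y hy.1, ?_⟩
        show ¬ 2 ∣ orderOf (φ a y)
        rw [orderOf_phi]; exact hy.2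
      exact h3 hx
    have hN := h.cfg.normalizer_eq hY hYM hYi (by
      intro m hm
      apply hconj
      · intro y hy
        refine ⟨mul_mem (mul_mem hm hy.1) (inv_mem hm), ?_⟩
        rw [hord]; exact hy.2
      · intro y hy
        refine ⟨mul_mem (mul_mem (inv_mem hm) hy.1) hm, ?_⟩
        rw [hord']; exact hy.2)
    apply h.hND
    rw [← hN]
    have hcn : ∀ g ∈ normalizer (D : Set G), ∀ y ∈ centralizer (D : Set G), g * y * g⁻¹ ∈ centralizer (D : Set G) := by
      intro g hg y hy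
      rw [mem_centralizer_iff] at hy ⊢
      intro d hd
      have h5 := (mem_normalizer_iff.1 (inv_mem hg) d).1 hd
      rw [inv_inv] at h5
      have h6 := hy _ h5
      calc d * (g * y * g⁻¹) = g * ((g⁻¹ * d * g) * y) * g⁻¹ := by group
        _ = g * (y * (g⁻¹ * d * g)) * g⁻¹ := by rw [h6]
        _ = g * y * g⁻¹ * d := by group
    intro g hg
    apply hconj
    · intro y hy
      rw [hs2] at hy ⊢
      exact ⟨hcn g hg y hy.1, by rw [hord]; exact hy.2⟩
    · intro y hy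
      rw [hs2] at hy ⊢
      refine ⟨?_, by rw [hord']; exact hy.2⟩
      have := hcn g⁻¹ (inv_mem hg) y hy.1
      rwa [inv_inv] at this

/-- subgroups of `P` normal in `N(D)` are contained in `D` -/
theorem le_D {E : Subgroup G} (hE : E ≤ (P : Subgroup G)) (hEN : normalizer (D : Set G) ≤ normalizer (E : Set G)) : E ≤ D := by
  have hF2 : Fact (Nat.Prime 2) := ⟨Nat.prime_two⟩
  obtain ⟨x, hx, hxM⟩ := SetLike.not_le_iff_exists.1 h.hND
  have h1 : x • P ≠ P := by
    intro h2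
    apply hxM
    rw [← h.hN]
    exact Sylow.smul_eq_iff_mem_normalizer.mp h2
  have key : ∀ F : Subgroup G, F ≤ (P : Subgroup G) → x ∈ normalizer (F : Set G) → F ≤ ((x • P : Sylow 2 G) : Subgroup G) := by
    intro F hF hxF y hy
    rw [Sylow.coe_subgroup_smul, mem_pointwise_smul_iff_inv_smul_mem]
    have h3 := (mem_normalizer_iff.1 (inv_mem hxF) y).1 hy
    rw [← map_inv]
    exact hF h3
  have h2 := h.hT (x • P) (key D h.hDP hx) h1
  rw [← h2]
  exact le_inf hE (key E hE (hEN hx))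

theorem centralizer_le : centralizer (D : Set G) ≤ D := by
  have h1 := h.centralizer_le_M
  rw [h.M_eq] at h1
  apply h.le_D h1
  intro g hg
  have hcn : ∀ g ∈ normalizer (D : Set G), ∀ y ∈ centralizer (D : Set G), g * y * g⁻¹ ∈ centralizer (D : Set G) := by
    intro g hg y hy
    rw [mem_centralizer_iff] at hy ⊢
    intro d hd
    have h5 := (mem_normalizer_iff.1 (inv_mem hg) d).1 hd
    rw [inv_inv] at h5
    have h6 := hy _ h5
    calc d * (g * y * g⁻¹) = g * ((g⁻¹ * d * g) * y) * g⁻¹ := by group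
      _ = g * (y * (g⁻¹ * d * g)) * g⁻¹ := by rw [h6]
      _ = g * y * g⁻¹ * d := by group
  rw [mem_normalizer_iff]
  intro x
  refine ⟨hcn g hg x, fun hx => ?_⟩
  have h4 := hcn g⁻¹ (inv_mem hg) _ hx
  have h5 : g⁻¹ * (g * x * g⁻¹) * g⁻¹⁻¹ = x := by group
  rwa [h5] at h4

end DCfg

end Two

section WT

variable {A : Type v} [Group A] {G : Type u} [Group G] [Finite G] {φ : A →* MulAut G} {M : Subgroup G}

theorem exists_pow_sq {P D : Subgroup G} (hP : IsPGroup 2 P) {x : G} (hx : x ∈ P) (hxD : x ∉ D) :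
    ∃ y ∈ zpowers x, y ∉ D ∧ y * y ∈ D := by
  classical
  have hF2 : Fact (Nat.Prime 2) := ⟨Nat.prime_two⟩
  have hex : ∃ n : ℕ, x ^ 2 ^ n ∈ D := by
    obtain ⟨k, hk⟩ := exists_orderOf hP hx
    refine ⟨k, ?_⟩
    rw [← hk, pow_orderOf_eq_one]; exact D.one_mem
  have h1 := Nat.find_spec hex
  set n := Nat.find hex with hn
  have hn0 : n ≠ 0 := by
    intro h0
    rw [h0, pow_zero, pow_one] at h1
    exact hxD h1
  obtain ⟨m, hm⟩ := Nat.exists_eq_succ_of_ne_zero hn0
  refine ⟨x ^ 2 ^ m, pow_mem (mem_zpowers x) _, ?_, ?_⟩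
  · apply Nat.find_min hex
    rw [← hn, hm]; exact Nat.lt_succ_self m
  · rw [← _root_.pow_add]
    have h2 : 2 ^ m + 2 ^ m = 2 ^ n := by rw [hm, Nat.succ_eq_add_one, _root_.pow_succ]; ring
    rw [h2]; exact h1

namespace DCfg

variable {P : Sylow 2 G} {D : Subgroup G} (h : DCfg φ M P D)
include h

theorem mul_comm_mod {x y : G} (hx : x ∈ (P : Subgroup G)) (hy : y ∈ (P : Subgroup G)) :
    (x * y)⁻¹ * (y * x) ∈ D := by
  have h1 : (x * y)⁻¹ * (y * x) = ⁅y⁻¹, x⁻¹⁆ := by rw [commutatorElement_def]; group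
  rw [h1]
  apply h.hZ
  · exact commutator_mem_of (inv_mem hy) (inv_mem hx)
  · exact h.hcl _ (inv_mem hy) _ (inv_mem hx)

theorem exists_notMem_D : ∃ x ∈ (P : Subgroup G), x ∉ D := by
  by_contra hcon
  push Not at hcon
  have h1 : (P : Subgroup G) = D := le_antisymm hcon h.hDP
  apply h.hND
  rw [← h.hN, h1]

theorem inf_conj {x : G} (hx : x ∈ normalizer (D : Set G)) (hxP : x ∉ (P : Subgroup G)) {y : G}
    (hy : y ∈ (P : Subgroup G)) (hxy : x * y * x⁻¹ ∈ (P : Subgroup G)) : y ∈ D := by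
  have hF2 : Fact (Nat.Prime 2) := ⟨Nat.prime_two⟩
  have h1 : x⁻¹ • P ≠ P := by
    intro h2
    apply hxP
    have h3 : x⁻¹ ∈ normalizer ((P : Subgroup G) : Set G) := Sylow.smul_eq_iff_mem_normalizer.mp h2
    rw [h.hN, h.M_eq] at h3
    simpa using h3
  have h2 : D ≤ ((x⁻¹ • P : Sylow 2 G) : Subgroup G) := by
    intro d hd
    rw [Sylow.coe_subgroup_smul, mem_pointwise_smul_iff_inv_smul_mem, ← map_inv, inv_inv]
    exact h.hDP ((mem_normalizer_iff.1 hx d).1 hd)
  rw [← h.hT _ h2 h1]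
  refine ⟨hy, ?_⟩
  show y ∈ ((x⁻¹ • P : Sylow 2 G) : Subgroup G)
  rw [Sylow.coe_subgroup_smul, mem_pointwise_smul_iff_inv_smul_mem, ← map_inv, inv_inv]
  exact hxy

theorem exists_k : ∃ (w : G) (r : ℕ), r.Prime ∧ r ≠ 2 ∧ (∃ k, orderOf w = r ^ k) ∧ w ∉ D ∧
    w ∈ normalizer (D : Set G) ∧
    (∀ t ∈ (P : Subgroup G), t ∉ D → t * t ∈ D → t * w * t⁻¹ * w ∈ D) ∧
    ∀ t ∈ (P : Subgroup G), t ∉ D → t * t ∈ D → ∀ s ∈ (P : Subgroup G), s ∉ D → s * s ∈ D → t⁻¹ * s ∈ D := by
  classical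
  have hF2 : Fact (Nat.Prime 2) := ⟨Nat.prime_two⟩
  have hPN := h.le_norm
  let D' : Subgroup (normalizer (D : Set G)) := D.subgroupOf (normalizer (D : Set G))
  have hD'n : D'.Normal := Subgroup.normal_in_normalizer
  let q := QuotientGroup.mk' D'
  have hqs : Function.Surjective q := QuotientGroup.mk'_surjective D'
  have hq1 : ∀ x : normalizer (D : Set G), q x = 1 ↔ (x : G) ∈ D := by
    intro x
    rw [← MonoidHom.mem_ker, QuotientGroup.ker_mk']
    exact mem_subgroupOf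
  let S : Sylow 2 (normalizer (D : Set G) ⧸ D') := (P.subtype hPN).mapSurjective hqs
  have hS : ∀ x : normalizer (D : Set G), q x ∈ (S : Subgroup (normalizer (D : Set G) ⧸ D')) ↔ (x : G) ∈ (P : Subgroup G) := by
    intro x
    rw [Sylow.coe_mapSurjective, mem_map]
    constructor
    · rintro ⟨y, hy, hxy⟩
      have h1 : q (y⁻¹ * x) = 1 := by rw [map_mul, map_inv, hxy]; group
      rw [hq1] at h1
      have h2 : (y : G) ∈ (P : Subgroup G) := hy
      have h3 := mul_mem h2 (h.hDP h1)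
      simpa using h3
    · intro hx
      exact ⟨x, hx, rfl⟩
  have hab : ∀ a ∈ (S : Subgroup (normalizer (D : Set G) ⧸ D')), ∀ b ∈ (S : Subgroup (normalizer (D : Set G) ⧸ D')), a * b = b * a := by
    intro a ha b hb
    obtain ⟨x, rfl⟩ := hqs a
    obtain ⟨y, rfl⟩ := hqs b
    rw [hS] at ha hb
    have h1 : q ((x * y)⁻¹ * (y * x)) = 1 := by
      rw [hq1]
      exact h.mul_comm_mod ha hb
    rw [map_mul, map_inv, inv_mul_eq_one, map_mul, map_mul] at h1
    exact h1
  have hTI : ∀ x : normalizer (D : Set G) ⧸ D', x ∉ (S : Subgroup (normalizer (D : Set G) ⧸ D')) →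
      ∀ y ∈ (S : Subgroup (normalizer (D : Set G) ⧸ D')), x * y * x⁻¹ ∈ (S : Subgroup (normalizer (D : Set G) ⧸ D')) → y = 1 := by
    intro x hx y hy hxy
    obtain ⟨x, rfl⟩ := hqs x
    obtain ⟨y, rfl⟩ := hqs y
    rw [← map_mul, ← map_inv, ← map_mul] at hxy
    rw [hS] at hx hy hxy
    rw [hq1]
    exact h.inf_conj x.2 hx hy hxy
  have hSt : (S : Subgroup (normalizer (D : Set G) ⧸ D')) ≠ ⊤ := by
    intro h0
    apply h.hND
    rw [h.M_eq]
    intro x hx
    have h1 := (hS ⟨x, hx⟩).1 (h0 ▸ mem_top _)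
    exact h1
  obtain ⟨k, r, hr, hr2, hk, hkt⟩ := frob_aux S hab hTI hSt
  have hFr := Fact.mk hr
  obtain ⟨k0, rfl⟩ := hqs k
  obtain ⟨e, f, hreg⟩ := PPart.exists_isRegExp r hr (normalizer (D : Set G))
  have hre : r ∣ e := by
    refine dvd_trans ?_ hreg.e_dvd
    have h1 : r ∣ Nat.card (normalizer (D : Set G)) := by
      have h2 : orderOf (q k0) ∣ orderOf k0 := orderOf_map_dvd q k0
      rw [hk] at h2
      exact h2.trans (orderOf_dvd_natCard k0)
    apply dvd_pow_self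
    have := (hr.dvd_iff_one_le_factorization Nat.card_pos.ne').1 h1
    omega
  have hqf : q (k0 ^ f) = q k0 := by
    have h1 := hreg.mul_eq k0
    have h2 := congrArg q h1
    rw [map_mul, map_pow, map_pow] at h2
    rw [map_pow]
    obtain ⟨c, rfl⟩ := hre
    rw [pow_mul, ← hk, pow_orderOf_eq_one, one_pow, one_mul] at h2
    exact h2
  have hq2 : ∀ t (ht : t ∈ (P : Subgroup G)), t ∉ D → t * t ∈ D → q ⟨t, hPN ht⟩ * q k0 * (q ⟨t, hPN ht⟩)⁻¹ = (q k0)⁻¹ ∧
      q ⟨t, hPN ht⟩ ∈ (S : Subgroup (normalizer (D : Set G) ⧸ D')) ∧ q ⟨t, hPN ht⟩ * q ⟨t, hPN ht⟩ = 1 := by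
    intro t ht htD htt
    have h1 : q ⟨t, hPN ht⟩ ∈ (S : Subgroup (normalizer (D : Set G) ⧸ D')) := (hS _).2 ht
    have h2 : q ⟨t, hPN ht⟩ * q ⟨t, hPN ht⟩ = 1 := by
      rw [← map_mul, hq1]; exact htt
    have h3 : orderOf (q ⟨t, hPN ht⟩) = 2 := by
      apply orderOf_eq_prime
      · rw [pow_two]; exact h2
      · intro h4
        rw [hq1] at h4
        exact htD h4
    exact ⟨hkt _ h1 h3, h1, h2⟩
  have hk1 : q k0 ≠ 1 := by
    intro h1
    rw [h1, orderOf_one] at hk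
    exact hr.one_lt.ne hk
  refine ⟨((k0 ^ f : normalizer (D : Set G)) : G), r, hr, hr2, ?_, ?_, (k0 ^ f).2, ?_, ?_⟩
  · rw [Subgroup.orderOf_coe]; exact hreg.sing k0
  · rw [← hq1, hqf]
    exact hk1
  · intro t ht htD htt
    have h1 := (hq2 t ht htD htt).1
    have h2 : q (⟨t, hPN ht⟩ * k0 ^ f * ⟨t, hPN ht⟩⁻¹ * k0 ^ f) = 1 := by
      rw [map_mul, map_mul, map_mul, hqf, map_inv, h1, inv_mul_cancel]
    rw [hq1] at h2
    exact h2
  · intro t ht htD htt s hs hsD hss
    obtain ⟨t1, t2, t3⟩ := hq2 t ht htD htt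
    obtain ⟨s1, s2, s3⟩ := hq2 s hs hsD hss
    by_contra hne
    have h1 : q ⟨t, hPN ht⟩ * q ⟨s, hPN hs⟩ ≠ 1 := by
      intro h2
      apply hne
      have h3 : q (⟨t, hPN ht⟩⁻¹ * ⟨s, hPN hs⟩) = 1 := by
        rw [map_mul, map_inv]
        have h4 : (q ⟨t, hPN ht⟩)⁻¹ = q ⟨t, hPN ht⟩ := inv_eq_of_mul_eq_one_right t3
        rw [h4]; exact h2
      rw [hq1] at h3
      exact h3
    have h2 : orderOf (q ⟨t, hPN ht⟩ * q ⟨s, hPN hs⟩) = 2 := by
      apply orderOf_eq_prime _ h1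
      rw [pow_two]
      calc q ⟨t, hPN ht⟩ * q ⟨s, hPN hs⟩ * (q ⟨t, hPN ht⟩ * q ⟨s, hPN hs⟩)
          = q ⟨t, hPN ht⟩ * (q ⟨s, hPN hs⟩ * q ⟨t, hPN ht⟩) * q ⟨s, hPN hs⟩ := by group
        _ = (q ⟨t, hPN ht⟩ * q ⟨t, hPN ht⟩) * (q ⟨s, hPN hs⟩ * q ⟨s, hPN hs⟩) := by rw [hab _ s2 _ t2]; group
        _ = 1 := by rw [t3, s3, one_mul]
    have h3 := hkt _ (mul_mem t2 s2) h2
    have h4 : q ⟨t, hPN ht⟩ * q ⟨s, hPN hs⟩ * q k0 * (q ⟨t, hPN ht⟩ * q ⟨s, hPN hs⟩)⁻¹ = q k0 := by
      calc q ⟨t, hPN ht⟩ * q ⟨s, hPN hs⟩ * q k0 * (q ⟨t, hPN ht⟩ * q ⟨s, hPN hs⟩)⁻¹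
          = q ⟨t, hPN ht⟩ * (q ⟨s, hPN hs⟩ * q k0 * (q ⟨s, hPN hs⟩)⁻¹) * (q ⟨t, hPN ht⟩)⁻¹ := by group
        _ = (q ⟨t, hPN ht⟩ * q k0 * (q ⟨t, hPN ht⟩)⁻¹)⁻¹ := by rw [s1]; group
        _ = q k0 := by rw [t1, inv_inv]
    rw [h4] at h3
    have h5 : q k0 ^ 2 = 1 := by
      rw [pow_two]
      nth_rewrite 1 [h3]
      rw [inv_mul_cancel]
    have h6 := orderOf_dvd_of_pow_eq_one h5
    rw [hk] at h6
    exact hr2 ((Nat.prime_dvd_prime_iff_eq hr Nat.prime_two).1 h6)

theorem exists_wt : ∃ (w t : G) (r : ℕ), r.Prime ∧ r ≠ 2 ∧ (∃ k, orderOf w = r ^ k) ∧ w ∉ D ∧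
    w ∈ normalizer (D : Set G) ∧ t ∈ (P : Subgroup G) ∧ t ∉ D ∧ t * t ∈ D ∧ t * w * t⁻¹ = w⁻¹ ∧
    ∀ s ∈ (P : Subgroup G), s ∉ D → s * s ∈ D → t⁻¹ * s ∈ D := by
  classical
  have hF2 : Fact (Nat.Prime 2) := ⟨Nat.prime_two⟩
  obtain ⟨w, r, hr, hr2, ⟨k, hk⟩, hwD, hwN, h1, h2⟩ := h.exists_k
  have hFr := Fact.mk hr
  obtain ⟨x, hx, hxD⟩ := h.exists_notMem_D
  obtain ⟨t0, ht0, ht0D, ht02⟩ := exists_pow_sq P.2 hx hxD
  have ht0P : t0 ∈ (P : Subgroup G) := (zpowers_le.2 hx) ht0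
  have hPN := h.le_norm
  have hwn : zpowers w ≤ normalizer (D : Set G) := zpowers_le.2 hwN
  have hDp : IsPGroup 2 D := P.2.to_le h.hDP
  obtain ⟨j, hj⟩ := IsPGroup.iff_card.1 hDp
  have hinf : zpowers w ⊓ D = ⊥ := by
    apply SubgroupTools.inf_eq_bot_of_coprime'
    rw [Nat.card_zpowers, hk, hj]
    exact Nat.Coprime.pow _ _ ((Nat.coprime_primes hr Nat.prime_two).2 hr2)
  have hcard := ProdCard.card_sup_mul_card_inf hwn
  rw [hinf, Subgroup.card_bot, mul_one] at hcard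
  have hrel : (zpowers w).relIndex (zpowers w ⊔ D) = 2 ^ j := by
    have h3 : Nat.card (zpowers w) * (zpowers w).relIndex (zpowers w ⊔ D) = Nat.card (zpowers w ⊔ D : Subgroup G) :=
      SubgroupTools.card_mul_relIndex_of_le le_sup_left
    rw [hcard, hj] at h3
    exact Nat.eq_of_mul_eq_mul_left Nat.card_pos h3
  have hRp : IsPGroup r (zpowers w) := IsPGroup.of_card (n := k) (by rw [Nat.card_zpowers, hk])
  obtain ⟨m, hm, hmQ⟩ := NilpTools.sylow_dominance_rel (p := r) (M := zpowers w ⊔ D)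
    (Q := (zpowers w).map (MulAut.conj t0).toMonoidHom) (R := zpowers w) (by
      rw [MonoidHom.map_zpowers, zpowers_le]
      have h3 := h1 t0 ht0P ht0D ht02
      have h4 : (MulAut.conj t0).toMonoidHom w = (t0 * w * t0⁻¹ * w) * w⁻¹ := by
        show t0 * w * t0⁻¹ = _
        group
      rw [h4]
      exact mul_mem (mem_sup_right h3) (inv_mem (mem_sup_left (mem_zpowers w)))) le_sup_left (hRp.map _) hRp (by
      rw [hrel]
      intro h3
      exact hr2 ((Nat.prime_dvd_prime_iff_eq hr Nat.prime_two).1 (hr.dvd_of_dvd_pow h3)))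
  obtain ⟨ρ, hρ, d, hd, rfl⟩ := (ConjSylow.mem_sup_of_le_normalizer hwn).1 hm
  have hmw : (ρ * d) * (t0 * w * t0⁻¹) * (ρ * d)⁻¹ ∈ zpowers w := by
    apply hmQ
    refine ⟨t0 * w * t0⁻¹, ⟨w, mem_zpowers w, rfl⟩, rfl⟩
  have h3 : (d * t0) * w * (d * t0)⁻¹ ∈ zpowers w := by
    have h4 := mul_mem (mul_mem (inv_mem hρ) hmw) hρ
    have h5 : ρ⁻¹ * ((ρ * d) * (t0 * w * t0⁻¹) * (ρ * d)⁻¹) * ρ = (d * t0) * w * (d * t0)⁻¹ := by group
    rwa [h5] at h4
  have htP : d * t0 ∈ (P : Subgroup G) := mul_mem (h.hDP hd) ht0P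
  have htD : d * t0 ∉ D := by
    intro h4
    apply ht0D
    have := mul_mem (inv_mem hd) h4
    rwa [inv_mul_cancel_left] at this
  have htt : (d * t0) * (d * t0) ∈ D := by
    have h4 : (d * t0) * (d * t0) = d * (t0 * d * t0⁻¹) * (t0 * t0) := by group
    rw [h4]
    exact mul_mem (mul_mem hd ((mem_normalizer_iff.1 (hPN ht0P) d).1 hd)) ht02
  have h4 := h1 _ htP htD htt
  have h5 : (d * t0) * w * (d * t0)⁻¹ * w ∈ zpowers w ⊓ D := ⟨mul_mem h3 (mem_zpowers w), h4⟩
  rw [hinf, mem_bot] at h5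
  refine ⟨w, d * t0, r, hr, hr2, ⟨k, hk⟩, hwD, hwN, htP, htD, htt, eq_inv_of_mul_eq_one_left h5, ?_⟩
  exact h2 _ htP htD htt

end DCfg

end WT

section W

variable {A : Type v} [Group A] {G : Type u} [Group G] [Finite G] {φ : A →* MulAut G} {M : Subgroup G}

/-- elements acting trivially on `D/Z(D)` -/
def Cen (D : Subgroup G) : Subgroup G where
  carrier := {g | g ∈ normalizer (D : Set G) ∧ ∀ d ∈ D, g * d * g⁻¹ * d⁻¹ ∈ D ⊓ centralizer (D : Set G)}
  one_mem' := by
    refine ⟨one_mem _, ?_⟩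
    intro d hd
    have h1 : (1 : G) * d * 1⁻¹ * d⁻¹ = 1 := by group
    rw [h1]; exact one_mem _
  mul_mem' := by
    rintro a b ⟨ha, ha2⟩ ⟨hb, hb2⟩
    refine ⟨mul_mem ha hb, ?_⟩
    intro d hd
    have h1 := hb2 d hd
    have h2 : b * d * b⁻¹ ∈ D := (mem_normalizer_iff.1 hb d).1 hd
    have h3 := ha2 _ h2
    have h4 : a * b * d * (a * b)⁻¹ * d⁻¹ = (a * (b * d * b⁻¹) * a⁻¹ * (b * d * b⁻¹)⁻¹) * (b * d * b⁻¹ * d⁻¹) := by
      group
    rw [h4]
    exact mul_mem h3 h1
  inv_mem' := by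
    rintro a ⟨ha, ha2⟩
    refine ⟨inv_mem ha, ?_⟩
    intro d hd
    have h2 : a⁻¹ * d * a ∈ D := by
      have := (mem_normalizer_iff.1 (inv_mem ha) d).1 hd
      rwa [inv_inv] at this
    have h3 := ha2 _ h2
    have h4 : a⁻¹ * d * a⁻¹⁻¹ * d⁻¹ = (a * (a⁻¹ * d * a) * a⁻¹ * (a⁻¹ * d * a)⁻¹)⁻¹ := by group
    rw [h4]
    exact inv_mem h3

theorem mem_Cen {D : Subgroup G} {g : G} : g ∈ Cen D ↔ g ∈ normalizer (D : Set G) ∧
    ∀ d ∈ D, g * d * g⁻¹ * d⁻¹ ∈ D ⊓ centralizer (D : Set G) := Iff.rfl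

theorem conj_mem_ZD {D : Subgroup G} {g x : G} (hg : g ∈ normalizer (D : Set G))
    (hx : x ∈ D ⊓ centralizer (D : Set G)) : g * x * g⁻¹ ∈ D ⊓ centralizer (D : Set G) := by
  obtain ⟨h1, h2⟩ := hx
  refine ⟨(mem_normalizer_iff.1 hg x).1 h1, ?_⟩
  refine mem_centralizer_iff.2 ?_
  intro d hd
  have h5 := (mem_normalizer_iff.1 (inv_mem hg) d).1 hd
  rw [inv_inv] at h5
  have h6 := mem_centralizer_iff.1 h2 _ h5
  calc d * (g * x * g⁻¹) = g * ((g⁻¹ * d * g) * x) * g⁻¹ := by group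
    _ = g * (x * (g⁻¹ * d * g)) * g⁻¹ := by rw [h6]
    _ = g * x * g⁻¹ * d := by group

theorem conj_mem_Cen {D : Subgroup G} {g x : G} (hg : g ∈ normalizer (D : Set G)) (hx : x ∈ Cen D) :
    g * x * g⁻¹ ∈ Cen D := by
  rw [mem_Cen] at hx ⊢
  refine ⟨mul_mem (mul_mem hg hx.1) (inv_mem hg), ?_⟩
  intro d hd
  have h5 := (mem_normalizer_iff.1 (inv_mem hg) d).1 hd
  rw [inv_inv] at h5
  have h6 := conj_mem_ZD hg (hx.2 _ h5)
  have h7 : g * x * g⁻¹ * d * (g * x * g⁻¹)⁻¹ * d⁻¹ =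
      g * (x * (g⁻¹ * d * g) * x⁻¹ * (g⁻¹ * d * g)⁻¹) * g⁻¹ := by group
  rw [h7]; exact h6

theorem mem_zpowers_sq {w : G} (hw : ¬ 2 ∣ orderOf w) : w ∈ zpowers (w * w) := by
  have h1 : orderOf w % 2 = 1 := by omega
  refine mem_zpowers_iff.2 ⟨(((orderOf w + 1) / 2 : ℕ) : ℤ), ?_⟩
  rw [zpow_natCast, ← pow_two, ← pow_mul]
  have h2 : 2 * ((orderOf w + 1) / 2) = orderOf w + 1 := by omega
  rw [h2, _root_.pow_succ, pow_orderOf_eq_one, one_mul]

/-- the pair `w`, `t` -/
structure WT (P : Sylow 2 G) (D : Subgroup G) (w t : G) : Prop where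
  hw2 : ¬ 2 ∣ orderOf w
  hwD : w ∉ D
  hwN : w ∈ normalizer (D : Set G)
  htP : t ∈ (P : Subgroup G)
  htD : t ∉ D
  htt : t * t ∈ D
  htw : t * w * t⁻¹ = w⁻¹
  huniq : ∀ s ∈ (P : Subgroup G), s ∉ D → s * s ∈ D → t⁻¹ * s ∈ D

namespace WT

variable {P : Sylow 2 G} {D : Subgroup G} {w t : G} (h : DCfg φ M P D) (k : WT P D w t)
include h k

theorem wt_mul : (w * t * w⁻¹) * t⁻¹ = w * w := by
  have h1 : t * w⁻¹ * t⁻¹ = w := by
    have h2 : t * w⁻¹ * t⁻¹ = (t * w * t⁻¹)⁻¹ := by group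
    rw [h2, k.htw, inv_inv]
  calc (w * t * w⁻¹) * t⁻¹ = w * (t * w⁻¹ * t⁻¹) := by group
    _ = w * w := by rw [h1]

theorem t_mem_Cen : t ∈ Cen D := by
  rw [mem_Cen]
  refine ⟨h.le_norm k.htP, ?_⟩
  intro d hd
  have h1 : t * d * t⁻¹ * d⁻¹ = ⁅t, d⁆ := by rw [commutatorElement_def]
  rw [h1]
  have h2 := h.hcl t k.htP d (h.hDP hd)
  refine ⟨h.hZ _ (commutator_mem_of k.htP (h.hDP hd)) h2, ?_⟩
  refine mem_centralizer_iff.2 ?_
  intro x hx
  exact (h2 x (h.hDP hx)).symm

theorem w_mem_Cen : w ∈ Cen D := by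
  have h1 := t_mem_Cen h k
  have h2 := conj_mem_Cen k.hwN h1
  have h3 := mul_mem h2 (inv_mem h1)
  rw [wt_mul h k] at h3
  exact (zpowers_le.2 h3) (mem_zpowers_sq k.hw2)

theorem zpowers_le_normalizer : zpowers w ≤ normalizer (D : Set G) := zpowers_le.2 k.hwN

theorem W_le : ⁅D, zpowers w⁆ ≤ D ⊓ centralizer (D : Set G) := by
  rw [commutator_le]
  intro d hd g hg
  have h1 : g ∈ Cen D := (zpowers_le.2 (w_mem_Cen h k)) hg
  have h2 := (mem_Cen.1 h1).2 d hd
  have h3 : ⁅d, g⁆ = (g * d * g⁻¹ * d⁻¹)⁻¹ := by rw [commutatorElement_def]; group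
  rw [h3]
  exact inv_mem h2

theorem W_comm {v x : G} (hv : v ∈ ⁅D, zpowers w⁆) (hx : x ∈ D) : x * v = v * x :=
  mem_centralizer_iff.1 (W_le h k hv).2 x hx

theorem W_le_D : ⁅D, zpowers w⁆ ≤ D := (W_le h k).trans inf_le_left

theorem coprime : (Nat.card (zpowers w)).Coprime (Nat.card D) := by
  have hF2 : Fact (Nat.Prime 2) := ⟨Nat.prime_two⟩
  have hDp : IsPGroup 2 D := P.2.to_le h.hDP
  obtain ⟨j, hj⟩ := IsPGroup.iff_card.1 hDp
  rw [Nat.card_zpowers, hj]
  exact Nat.Coprime.pow_right j ((Nat.Prime.coprime_iff_not_dvd Nat.prime_two).2 k.hw2).symm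

theorem w_norm_W : zpowers w ≤ normalizer ((⁅D, zpowers w⁆ : Subgroup G) : Set G) :=
  normalizer_commutator_ge_right D (zpowers w)

theorem solv : Group.IsSolvable (zpowers w) ∨ Group.IsSolvable D := by
  left
  exact Group.isSolvable_of_comm fun a b => (isMulCommutative_iff.mp inferInstance) a b

theorem W_fix {v : G} (hv : v ∈ ⁅D, zpowers w⁆) (hvw : v * w = w * v) : v = 1 := by
  have hWm : IsMulCommutative (⁅D, zpowers w⁆ : Subgroup G) :=
    isMulCommutative_iff_of_setLike.mpr fun a ha b hb => W_comm h k hb (W_le_D h k ha)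
  have h1 := CoprimeAction2.inf_commutator_eq_bot_of_abelian (A := zpowers w) (V := ⁅D, zpowers w⁆)
    (w_norm_W h k) ((coprime h k).coprime_dvd_right (Subgroup.card_dvd_of_le (W_le_D h k)))
  rw [CoprimeAction2.commutator_commutator (zpowers_le_normalizer h k) (coprime h k) (solv h k)] at h1
  have h2 : v ∈ (⁅D, zpowers w⁆ ⊓ centralizer (zpowers w : Set G)) ⊓ ⁅D, zpowers w⁆ := by
    refine ⟨⟨hv, ?_⟩, hv⟩
    refine mem_centralizer_iff.2 ?_
    intro g hg
    obtain ⟨n, rfl⟩ := mem_zpowers_iff.1 hg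
    exact (Commute.zpow_right (show Commute v w from hvw) n).symm
  rw [h1, mem_bot] at h2
  exact h2

theorem D_eq {d : G} (hd : d ∈ D) : ∃ c ∈ D, c * w = w * c ∧ ∃ v ∈ ⁅D, zpowers w⁆, d = c * v := by
  obtain ⟨v, hv, c, hc, hvc⟩ := CoprimeAction2.exists_eq_mul_of_mem (zpowers_le_normalizer h k) (coprime h k) (solv h k) hd
  refine ⟨c, hc.1, (mem_centralizer_iff.1 hc.2 w (mem_zpowers w)).symm, v, hv, ?_⟩
  rw [← hvc, W_comm h k hv hc.1]

theorem sq_comm {x : G} (h1 : x * (w * t * w⁻¹) = (w * t * w⁻¹) * x) (h2 : x * t = t * x) : x * w = w * x := by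
  have h3 : Commute x ((w * t * w⁻¹) * t⁻¹) := Commute.mul_right h1 (Commute.inv_right h2)
  rw [wt_mul h k] at h3
  obtain ⟨n, hn⟩ := mem_zpowers_iff.1 (mem_zpowers_sq k.hw2)
  have h4 := h3.zpow_right n
  rw [hn] at h4
  exact h4

theorem t_norm_W : t ∈ normalizer ((⁅D, zpowers w⁆ : Subgroup G) : Set G) := by
  rw [Cfsg.Agent.Lib.ThompsonJ.mem_normalizer_iff_map, Subgroup.map_commutator]
  have h1 : D.map (MulAut.conj t).toMonoidHom = D :=
    Cfsg.Agent.Lib.ThompsonJ.mem_normalizer_iff_map.1 (h.le_norm k.htP)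
  have h2 : (zpowers w).map (MulAut.conj t).toMonoidHom = zpowers w := by
    rw [MonoidHom.map_zpowers]
    have h3 : (MulAut.conj t).toMonoidHom w = w⁻¹ := k.htw
    rw [h3, zpowers_inv]
  rw [h1, h2]

/-- `[t,v]` is central in `P` -/
theorem comm_t {v : G} (hv : v ∈ ⁅D, zpowers w⁆) {x : G} (hx : x ∈ (P : Subgroup G)) :
    t * v * t⁻¹ * v⁻¹ * x = x * (t * v * t⁻¹ * v⁻¹) :=
  h.hcl t k.htP v (h.hDP (W_le_D h k hv)) x hx

theorem tv_mem {v : G} (hv : v ∈ ⁅D, zpowers w⁆) : t * v * t⁻¹ ∈ ⁅D, zpowers w⁆ :=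
  (mem_normalizer_iff.1 (t_norm_W h k) v).1 hv

theorem sq_fix_t {v : G} (hv : v ∈ ⁅D, zpowers w⁆) : (v * v) * t = t * (v * v) := by
  have h1 := comm_t h k hv k.htP
  have h2 := tv_mem h k hv
  have h3 := W_comm h k h2 (W_le_D h k hv)
  have h4 : t * t * v = v * (t * t) := W_comm h k hv k.htt
  -- t (t v t⁻¹ v⁻¹) t⁻¹ = t v t⁻¹ v⁻¹
  have h5 : t * (t * v * t⁻¹ * v⁻¹) * t⁻¹ = t * v * t⁻¹ * v⁻¹ := by
    rw [← h1]; group
  have h6 : t * (t * v * t⁻¹) * t⁻¹ = v := by
    calc t * (t * v * t⁻¹) * t⁻¹ = (t * t * v) * (t * t)⁻¹ := by group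
      _ = v := by rw [h4]; group
  have h7 : v * (t * v * t⁻¹)⁻¹ = t * v * t⁻¹ * v⁻¹ := by
    calc v * (t * v * t⁻¹)⁻¹ = (t * (t * v * t⁻¹) * t⁻¹) * (t * v⁻¹ * t⁻¹) := by rw [h6]; group
      _ = t * (t * v * t⁻¹ * v⁻¹) * t⁻¹ := by group
      _ = _ := h5
  -- v² = (t v t⁻¹)²
  have h8 : v * v = (t * v * t⁻¹) * (t * v * t⁻¹) := by
    have h9 : v * v = v * (t * v * t⁻¹)⁻¹ * (t * v * t⁻¹) * v := by group
    rw [h9, h7]
    calc t * v * t⁻¹ * v⁻¹ * (t * v * t⁻¹) * v = t * v * t⁻¹ * v⁻¹ * ((t * v * t⁻¹) * v) := by group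
      _ = t * v * t⁻¹ * v⁻¹ * (v * (t * v * t⁻¹)) := by rw [h3]
      _ = _ := by group
  calc v * v * t = (t * v * t⁻¹) * (t * v * t⁻¹) * t := by rw [← h8]
    _ = t * (v * v) := by group

theorem sq_one {v : G} (hv : v ∈ ⁅D, zpowers w⁆) : v * v = 1 := by
  apply W_fix h k (mul_mem hv hv)
  apply sq_comm h k _ (sq_fix_t h k hv)
  have h1 : w⁻¹ * v * w ∈ ⁅D, zpowers w⁆ := by
    have := (mem_normalizer_iff.1 (inv_mem (w_norm_W h k (mem_zpowers w))) v).1 hv
    rwa [inv_inv] at this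
  have h2 := sq_fix_t h k h1
  calc v * v * (w * t * w⁻¹) = w * ((w⁻¹ * v * w) * (w⁻¹ * v * w) * t) * w⁻¹ := by group
    _ = w * (t * ((w⁻¹ * v * w) * (w⁻¹ * v * w))) * w⁻¹ := by rw [h2]
    _ = (w * t * w⁻¹) * (v * v) := by group

theorem w_ne_one : w ≠ 1 := by
  intro h1
  exact k.hwD (h1 ▸ D.one_mem)

/-- `t` acts nontrivially on `W` -/
theorem exists_not_comm : ∃ v ∈ ⁅D, zpowers w⁆, v * t ≠ t * v := by
  by_contra hcon
  push Not at hcon
  have h1 : ∀ v ∈ ⁅D, zpowers w⁆, v = 1 := by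
    intro v hv
    apply W_fix h k hv
    apply sq_comm h k _ (hcon v hv)
    have h1 : w⁻¹ * v * w ∈ ⁅D, zpowers w⁆ := by
      have := (mem_normalizer_iff.1 (inv_mem (w_norm_W h k (mem_zpowers w))) v).1 hv
      rwa [inv_inv] at this
    have h2 := hcon _ h1
    calc v * (w * t * w⁻¹) = w * ((w⁻¹ * v * w) * t) * w⁻¹ := by group
      _ = w * (t * (w⁻¹ * v * w)) * w⁻¹ := by rw [h2]
      _ = (w * t * w⁻¹) * v := by group
  apply k.hwD
  apply h.centralizer_le
  refine mem_centralizer_iff.2 ?_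
  intro d hd
  obtain ⟨c, hc, hcw, v, hv, rfl⟩ := D_eq h k hd
  rw [h1 v hv, mul_one, hcw]

/-- `D = C_P(W)` -/
theorem mem_D_of_comm {x : G} (hx : x ∈ (P : Subgroup G)) (hc : ∀ v ∈ ⁅D, zpowers w⁆, x * v = v * x) : x ∈ D := by
  by_contra hxD
  obtain ⟨y, hy, hyD, hyy⟩ := exists_pow_sq P.2 hx hxD
  have hyP : y ∈ (P : Subgroup G) := (zpowers_le.2 hx) hy
  have h1 := k.huniq y hyP hyD hyy
  obtain ⟨v, hv, hvt⟩ := exists_not_comm h k
  apply hvt
  have h2 : v * y = y * v := by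
    obtain ⟨n, rfl⟩ := mem_zpowers_iff.1 hy
    exact Commute.zpow_right (show Commute v x from (hc v hv).symm) n
  have h3 : v * (t⁻¹ * y) = (t⁻¹ * y) * v := (W_comm h k hv h1).symm
  have h4 : Commute v (y * (t⁻¹ * y)⁻¹) := Commute.mul_right h2 (Commute.inv_right h3)
  have h5 : y * (t⁻¹ * y)⁻¹ = t := by group
  rw [h5] at h4
  exact h4

/-- `P = D ∪ tD` -/
theorem mem_coset {x : G} (hx : x ∈ (P : Subgroup G)) (hxD : x ∉ D) : t⁻¹ * x ∈ D := by
  apply k.huniq x hx hxD
  apply mem_D_of_comm h k (mul_mem hx hx)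
  intro v hv
  have hvP := h.hDP (W_le_D h k hv)
  have h1 : ∀ y ∈ (P : Subgroup G), ⁅x, v⁆ * y = y * ⁅x, v⁆ := h.hcl x hx v hvP
  have h2 : x * v * x⁻¹ = ⁅x, v⁆ * v := by rw [commutatorElement_def]; group
  have h3 : ⁅x, v⁆ * ⁅x, v⁆ = 1 := by
    have h4 : (x * v * x⁻¹) * (x * v * x⁻¹) = 1 := by
      calc (x * v * x⁻¹) * (x * v * x⁻¹) = x * (v * v) * x⁻¹ := by group
        _ = 1 := by rw [sq_one h k hv]; group
    rw [h2] at h4
    calc ⁅x, v⁆ * ⁅x, v⁆ = ⁅x, v⁆ * ⁅x, v⁆ * (v * v) := by rw [sq_one h k hv, mul_one]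
      _ = ⁅x, v⁆ * (⁅x, v⁆ * v) * v := by group
      _ = ⁅x, v⁆ * (v * ⁅x, v⁆) * v := by rw [h1 v hvP]
      _ = (⁅x, v⁆ * v) * (⁅x, v⁆ * v) := by group
      _ = 1 := h4
  have h5 : x * x * v * (x * x)⁻¹ = v := by
    calc x * x * v * (x * x)⁻¹ = x * (x * v * x⁻¹) * x⁻¹ := by group
      _ = x * (⁅x, v⁆ * v) * x⁻¹ := by rw [h2]
      _ = (x * ⁅x, v⁆) * v * x⁻¹ := by group
      _ = (⁅x, v⁆ * x) * v * x⁻¹ := by rw [h1 x hx]
      _ = ⁅x, v⁆ * (x * v * x⁻¹) := by group
      _ = ⁅x, v⁆ * ⁅x, v⁆ * v := by rw [h2]; group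
      _ = v := by rw [h3, one_mul]
  calc x * x * v = (x * x * v * (x * x)⁻¹) * (x * x) := by group
    _ = v * (x * x) := by rw [h5]

end WT

end W

section J

variable {A : Type v} [Group A] {G : Type u} [Group G] [Finite G] {φ : A →* MulAut G} {M : Subgroup G}

/-- abelian subgroups of maximal order of `P` -/
def Fam (P : Subgroup G) : Set (Subgroup G) :=
  {B | (B ≤ P ∧ ∀ a ∈ B, ∀ b ∈ B, a * b = b * a) ∧
    ∀ C : Subgroup G, (C ≤ P ∧ ∀ a ∈ C, ∀ b ∈ C, a * b = b * a) → Nat.card C ≤ Nat.card B}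

theorem Fam_map {P B : Subgroup G} (hB : B ∈ Fam P) (f : G ≃* G) (hf : B.map f.toMonoidHom ≤ P) :
    B.map f.toMonoidHom ∈ Fam P := by
  refine ⟨⟨hf, ?_⟩, ?_⟩
  · rintro _ ⟨a, ha, rfl⟩ _ ⟨b, hb, rfl⟩
    rw [← map_mul, ← map_mul, hB.1.2 a ha b hb]
  · intro C hC
    have h1 : Nat.card (B.map f.toMonoidHom) = Nat.card B := Subgroup.card_map_of_injective f.injective
    rw [h1]
    exact hB.2 C hC

namespace DCfg

variable {P : Sylow 2 G} {D : Subgroup G} (h : DCfg φ M P D)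
include h

theorem exists_B : ∃ B ∈ Fam (P : Subgroup G), ¬ B ≤ D := by
  classical
  by_contra hcon
  push Not at hcon
  let J : Subgroup G := sSup (Fam (P : Subgroup G))
  have hJD : J ≤ D := sSup_le hcon
  have hJn : normalizer (D : Set G) ≤ normalizer (J : Set G) := by
    have key : ∀ g ∈ normalizer (D : Set G), ∀ x ∈ J, g * x * g⁻¹ ∈ J := by
      intro g hg x hx
      have h1 : J ≤ J.comap (MulAut.conj g).toMonoidHom := by
        apply sSup_le
        intro B hB
        rw [← map_le_iff_le_comap]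
        apply le_sSup
        apply Fam_map hB
        rintro _ ⟨y, hy, rfl⟩
        exact h.hDP ((mem_normalizer_iff.1 hg y).1 (hcon B hB hy))
      exact h1 hx
    intro g hg
    rw [mem_normalizer_iff]
    intro x
    refine ⟨key g hg x, fun hx => ?_⟩
    have h4 := key g⁻¹ (inv_mem hg) _ hx
    have h5 : g⁻¹ * (g * x * g⁻¹) * g⁻¹⁻¹ = x := by group
    rwa [h5] at h4
  have hJi : Inv φ J := by
    intro a x hx
    have h1 : J ≤ J.comap (φ a).toMonoidHom := by
      apply sSup_le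
      intro B hB
      rw [← map_le_iff_le_comap]
      apply le_sSup
      apply Fam_map hB
      rintro _ ⟨y, hy, rfl⟩
      exact h.hPi a y (hB.1.1 hy)
    exact h1 hx
  have hJ1 : J ≠ ⊥ := by
    intro h0
    obtain ⟨z, hz, -, hz1⟩ := h.centre_ne_bot
    have hex : ∃ B, B ∈ Fam (P : Subgroup G) := by
      obtain ⟨B, hB, hmax⟩ := Set.exists_max_image {C : Subgroup G | C ≤ P ∧ ∀ a ∈ C, ∀ b ∈ C, a * b = b * a}
        (fun C => Nat.card C) (Set.toFinite _) ⟨⊥, bot_le, by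
          intro a ha b hb
          rw [mem_bot] at ha hb
          rw [ha, hb]⟩
      exact ⟨B, hB, hmax⟩
    obtain ⟨B, hB⟩ := hex
    have hBb : B = ⊥ := le_bot_iff.1 (h0 ▸ le_sSup hB)
    have h1 := hB.2 (zpowers z) ⟨zpowers_le.2 hz, by
      intro a ha b hb
      obtain ⟨n, rfl⟩ := mem_zpowers_iff.1 ha
      obtain ⟨m, rfl⟩ := mem_zpowers_iff.1 hb
      exact Commute.zpow_zpow (Commute.refl z) n m⟩
    rw [hBb, Subgroup.card_bot, Nat.card_zpowers] at h1
    have h2 := orderOf_pos z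
    apply hz1
    rw [← orderOf_eq_one_iff]
    omega
  have h1 := h.normalizer_eq (hJD.trans h.hDP) hJ1 hJi (h.le_norm.trans hJn)
  apply h.hND
  rw [← h1]
  exact hJn

end DCfg

namespace WT

variable {P : Sylow 2 G} {D : Subgroup G} {w t : G} (h : DCfg φ M P D) (k : WT P D w t)
include h k

theorem commt_mem {v : G} (hv : v ∈ ⁅D, zpowers w⁆) : t * v * t⁻¹ * v⁻¹ ∈ ⁅D, zpowers w⁆ :=
  mul_mem (tv_mem h k hv) (inv_mem hv)

theorem card_W : Nat.card (⁅D, zpowers w⁆ : Subgroup G) = 4 ∧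
    Nat.card (⁅D, zpowers w⁆ ⊓ centralizer ({t} : Set G) : Subgroup G) = 2 := by
  classical
  have hF2 : Fact (Nat.Prime 2) := ⟨Nat.prime_two⟩
  set W := ⁅D, zpowers w⁆ with hW
  set W0 := W ⊓ centralizer ({t} : Set G) with hW0
  have hWD : W ≤ D := W_le_D h k
  -- |W0|² ≤ |W|
  have hwN : w ∈ normalizer (W : Set G) := w_norm_W h k (mem_zpowers w)
  have h1 : Nat.card W0 * Nat.card W0 ≤ Nat.card W := by
    let W1 : Subgroup G := W0.map (MulAut.conj w).toMonoidHom
    have hW1 : W1 ≤ W := by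
      rintro _ ⟨x, hx, rfl⟩
      exact (mem_normalizer_iff.1 hwN x).1 hx.1
    have h2 := Replacement.card_mul_card_le W0 W1
    have h3 : Nat.card W1 = Nat.card W0 := Subgroup.card_map_of_injective (MulAut.conj w).injective
    have h4 : W0 ⊓ W1 = ⊥ := by
      rw [eq_bot_iff]
      rintro x ⟨hx0, ⟨y, hy, hyx⟩⟩
      rw [mem_bot]
      apply W_fix h k hx0.1
      have h5 : w * y * w⁻¹ = x := hyx
      have h6 : y * t = t * y := mem_centralizer_singleton_iff.1 hy.2
      apply sq_comm h k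
      · rw [← h5]
        calc w * y * w⁻¹ * (w * t * w⁻¹) = w * (y * t) * w⁻¹ := by group
          _ = w * (t * y) * w⁻¹ := by rw [h6]
          _ = _ := by group
      · exact mem_centralizer_singleton_iff.1 hx0.2
    rw [h3, h4, Subgroup.card_bot, mul_one] at h2
    exact h2.trans (Subgroup.card_le_of_le (sup_le inf_le_left hW1))
  -- |W0| ≥ 2
  have h2 : 2 ≤ Nat.card W0 := by
    obtain ⟨v, hv, hvt⟩ := exists_not_comm h k
    have h3 : t * v * t⁻¹ * v⁻¹ ∈ W0 := by
      refine ⟨commt_mem h k hv, ?_⟩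
      refine mem_centralizer_singleton_iff.2 ?_
      exact comm_t h k hv k.htP
    have h4 : t * v * t⁻¹ * v⁻¹ ≠ 1 := by
      intro h5
      apply hvt
      have h6 : t * v = v * t := by
        calc t * v = (t * v * t⁻¹ * v⁻¹) * (v * t) := by group
          _ = v * t := by rw [h5, one_mul]
      exact h6.symm
    have h5 : W0 ≠ ⊥ := by
      intro h6
      rw [h6, mem_bot] at h3
      exact h4 h3
    exact (Subgroup.one_lt_card_iff_ne_bot W0).2 h5
  -- |W| ≤ 2 |W0|
  have h3 : Nat.card W ≤ 2 * Nat.card W0 := by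
    obtain ⟨B, hB, hBD⟩ := h.exists_B
    obtain ⟨b, hb, hbD⟩ := SetLike.not_le_iff_exists.1 hBD
    have hBP := hB.1.1
    -- |B| ≤ 2 |B ⊓ D|
    have h4 : Nat.card B ≤ 2 * Nat.card (B ⊓ D : Subgroup G) := by
      have h5 : ∀ x ∈ B, x ∉ D → b⁻¹ * x ∈ B ⊓ D := by
        intro x hx hxD
        refine mem_inf.2 ⟨mul_mem (inv_mem hb) hx, ?_⟩
        have h6 := mem_coset h k (hBP hb) hbD
        have h7 := mem_coset h k (hBP hx) hxD
        have h8 : b⁻¹ * x = (t⁻¹ * b)⁻¹ * (t⁻¹ * x) := by group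
        rw [h8]
        exact mul_mem (inv_mem h6) h7
      let f : B → Bool × (B ⊓ D : Subgroup G) := fun x =>
        if hx : (x : G) ∈ D then (true, ⟨x, x.2, hx⟩) else (false, ⟨b⁻¹ * x, h5 x x.2 hx⟩)
      have hf : Function.Injective f := by
        intro x y hxy
        by_cases hx : (x : G) ∈ D <;> by_cases hy : (y : G) ∈ D
        · simp only [f, hx, hy, dif_pos, Prod.mk.injEq, true_and] at hxy
          have h9 : ((⟨(x : G), mem_inf.2 ⟨x.2, hx⟩⟩ : (B ⊓ D : Subgroup G)) : G) = ((⟨(y : G), mem_inf.2 ⟨y.2, hy⟩⟩ : (B ⊓ D : Subgroup G)) : G) :=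
            congrArg (fun z : (B ⊓ D : Subgroup G) => (z : G)) hxy
          exact Subtype.ext h9
        · simp only [f, hx, hy, dif_pos, dif_neg, not_false_eq_true, Prod.mk.injEq] at hxy
          exact absurd hxy.1 (by simp)
        · simp only [f, hx, hy, dif_pos, dif_neg, not_false_eq_true, Prod.mk.injEq] at hxy
          exact absurd hxy.1 (by simp)
        · simp only [f, hx, hy, dif_neg, not_false_eq_true, Prod.mk.injEq, true_and, Subtype.mk.injEq, mul_right_inj] at hxy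
          exact Subtype.ext hxy
      have h6 := Nat.card_le_card_of_injective f hf
      rw [Nat.card_prod] at h6
      simpa using h6
    -- the abelian group (B ⊓ D) W
    have h5 : Nat.card ((B ⊓ D) ⊔ W : Subgroup G) ≤ Nat.card B := by
      apply hB.2
      refine ⟨sup_le (inf_le_left.trans hBP) (hWD.trans h.hDP), ?_⟩
      have hn : (B ⊓ D : Subgroup G) ≤ normalizer (W : Set G) := by
        intro x hx
        rw [mem_normalizer_iff]
        intro y
        constructor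
        · intro hy
          have := W_comm h k hy hx.2
          rw [this]; simpa using hy
        · intro hy
          have h6 := W_comm h k hy hx.2
          have h7 : x * y * x⁻¹ = y := by
            have h8 : x * (x * y * x⁻¹) = x * y := by rw [h6]; group
            exact mul_left_cancel h8
          rwa [h7] at hy
      intro a ha c hc
      obtain ⟨a1, ha1, a2, ha2, rfl⟩ := (ConjSylow.mem_sup_of_le_normalizer hn).1 ha
      obtain ⟨c1, hc1, c2, hc2, rfl⟩ := (ConjSylow.mem_sup_of_le_normalizer hn).1 hc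
      have e1 : Commute a1 c1 := hB.1.2 a1 ha1.1 c1 hc1.1
      have e2 : Commute a1 c2 := W_comm h k hc2 ha1.2
      have e3 : Commute a2 c1 := (W_comm h k ha2 hc1.2).symm
      have e4 : Commute a2 c2 := W_comm h k hc2 (hWD ha2)
      exact (Commute.mul_left (Commute.mul_right e1 e2) (Commute.mul_right e3 e4))
    have h6 := Replacement.card_mul_card_le (B ⊓ D) W
    have h7 : Nat.card ((B ⊓ D) ⊓ W : Subgroup G) ≤ Nat.card W0 := by
      apply Subgroup.card_le_of_le
      rintro x ⟨⟨hxB, hxD⟩, hxW⟩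
      refine ⟨hxW, ?_⟩
      refine mem_centralizer_singleton_iff.2 ?_
      have h8 := mem_coset h k (hBP hb) hbD
      have h9 : Commute x b := hB.1.2 x hxB b hb
      have h10 : Commute x (t⁻¹ * b) := (W_comm h k hxW h8).symm
      have h11 : Commute x (b * (t⁻¹ * b)⁻¹) := Commute.mul_right h9 (Commute.inv_right h10)
      have h12 : b * (t⁻¹ * b)⁻¹ = t := by group
      rw [h12] at h11
      exact h11
    have hpos : 0 < Nat.card (B ⊓ D : Subgroup G) := Nat.card_pos
    have h8 : Nat.card (B ⊓ D : Subgroup G) * Nat.card W ≤ Nat.card (B ⊓ D : Subgroup G) * (2 * Nat.card W0) := by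
      calc Nat.card (B ⊓ D : Subgroup G) * Nat.card W
          ≤ Nat.card ((B ⊓ D) ⊔ W : Subgroup G) * Nat.card ((B ⊓ D) ⊓ W : Subgroup G) := h6
        _ ≤ Nat.card B * Nat.card W0 := Nat.mul_le_mul h5 h7
        _ ≤ (2 * Nat.card (B ⊓ D : Subgroup G)) * Nat.card W0 := Nat.mul_le_mul_right _ h4
        _ = _ := by ring
    exact Nat.le_of_mul_le_mul_left h8 hpos
  have h4 : Nat.card W0 ≤ 2 := by
    have h5 : Nat.card W0 * Nat.card W0 ≤ 2 * Nat.card W0 := h1.trans h3
    exact Nat.le_of_mul_le_mul_right h5 (by omega)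
  have h5 : Nat.card W0 = 2 := le_antisymm h4 h2
  refine ⟨?_, h5⟩
  rw [h5] at h1 h3
  omega

/-- the structure of `W` -/
theorem W_struct : ∃ z u : G, z ∈ ⁅D, zpowers w⁆ ∧ z ≠ 1 ∧ (∀ y ∈ (P : Subgroup G), z * y = y * z) ∧
    u ∈ ⁅D, zpowers w⁆ ∧ u ≠ 1 ∧ u ≠ z ∧
    (∀ v ∈ ⁅D, zpowers w⁆, (v * t = t * v → v = 1 ∨ v = z)) ∧
    (∀ v ∈ ⁅D, zpowers w⁆, v = 1 ∨ v = z ∨ v = u ∨ v = z * u) := by
  classical
  have hF2 : Fact (Nat.Prime 2) := ⟨Nat.prime_two⟩
  obtain ⟨h4, h2⟩ := card_W h k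
  set W := ⁅D, zpowers w⁆ with hW
  set W0 := W ⊓ centralizer ({t} : Set G) with hW0
  have hWf : Finite W := inferInstance
  obtain ⟨⟨z, hz⟩, hz1, hzu⟩ : ∃ z : W0, z ≠ 1 ∧ ∀ y : W0, y = 1 ∨ y = z := by
    rw [Nat.card_eq_two_iff' (1 : W0)] at h2
    obtain ⟨z, hz, hzu⟩ := h2
    refine ⟨z, hz, fun y => ?_⟩
    by_cases hy : y = 1
    · exact Or.inl hy
    · exact Or.inr (hzu y hy)
  have hz1' : z ≠ 1 := fun h5 => hz1 (Subtype.ext h5)
  have hzc : ∀ y ∈ (P : Subgroup G), z * y = y * z := by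
    intro y hy
    by_cases hyD : y ∈ D
    · exact (W_comm h k hz.1 hyD).symm
    · have h5 := mem_coset h k hy hyD
      have h6 : Commute z t := mem_centralizer_singleton_iff.1 hz.2
      have h7 : Commute z (t⁻¹ * y) := (W_comm h k hz.1 h5).symm
      have h8 := Commute.mul_right h6 h7
      rwa [mul_inv_cancel_left] at h8
  obtain ⟨u, hu, hut⟩ := exists_not_comm h k
  have hu1 : u ≠ 1 := by
    rintro rfl
    apply hut; rw [one_mul, mul_one]
  have huz : u ≠ z := by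
    rintro rfl
    exact hut (hzc t k.htP)
  refine ⟨z, u, hz.1, hz1', hzc, hu, hu1, huz, ?_, ?_⟩
  · intro v hv hvt
    have h5 : v ∈ W0 := ⟨hv, mem_centralizer_singleton_iff.2 hvt⟩
    rcases hzu ⟨v, h5⟩ with h6 | h6
    · exact Or.inl (congrArg Subtype.val h6)
    · exact Or.inr (congrArg Subtype.val h6)
  · -- four distinct elements
    have hzz : z * z = 1 := sq_one h k hz.1
    have huu : u * u = 1 := sq_one h k hu
    have hzu1 : z * u ≠ 1 := by
      intro h5
      apply huz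
      have h6 : z * (z * u) = z := by rw [h5, mul_one]
      rw [← mul_assoc, hzz, one_mul] at h6
      exact h6
    have hzuz : z * u ≠ z := by
      intro h5
      apply hu1
      exact mul_left_cancel (a := z) (by rw [h5, mul_one])
    have hzuu : z * u ≠ u := by
      intro h5
      apply hz1'
      exact mul_right_cancel (b := u) (by rw [h5, one_mul])
    intro v hv
    by_contra hcon
    push Not at hcon
    obtain ⟨c1, c2, c3, c4⟩ := hcon
    have : Fintype W := Fintype.ofFinite W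
    have h5 : Fintype.card W = 4 := by rw [← Nat.card_eq_fintype_card]; exact h4
    let s : Finset W := {1, ⟨z, hz.1⟩, ⟨u, hu⟩, ⟨z * u, mul_mem hz.1 hu⟩, ⟨v, hv⟩}
    have h6 : s.card = 5 := by
      have e1 : ((1 : W) : G) = 1 := rfl
      rw [Finset.card_insert_of_notMem, Finset.card_insert_of_notMem, Finset.card_insert_of_notMem,
        Finset.card_insert_of_notMem, Finset.card_singleton]
      · simp only [Finset.mem_singleton, Subtype.mk.injEq]
        exact fun e => c4 e.symm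
      · simp only [Finset.mem_insert, Finset.mem_singleton, Subtype.mk.injEq]
        rintro (e | e)
        · exact hzuu e.symm
        · exact c3 e.symm
      · simp only [Finset.mem_insert, Finset.mem_singleton, Subtype.mk.injEq]
        rintro (e | e | e)
        · exact huz e.symm
        · exact hzuz e.symm
        · exact c2 e.symm
      · simp only [Finset.mem_insert, Finset.mem_singleton]
        rintro (e | e | e | e)
        · exact hz1' (congrArg Subtype.val e).symm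
        · exact hu1 (congrArg Subtype.val e).symm
        · exact hzu1 (congrArg Subtype.val e).symm
        · exact c1 (congrArg Subtype.val e).symm
    have h7 := Finset.card_le_univ s
    rw [h5, h6] at h7
    omega

end WT

end J

section Final

variable {A : Type v} [Group A] [Finite A] {G : Type u} [Group G] [Finite G] {φ : A →* MulAut G} {M : Subgroup G}

namespace WT

variable {P : Sylow 2 G} {D : Subgroup G} {w t : G} (h : DCfg φ M P D) (k : WT P D w t)
include h k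

theorem P_norm_W : (P : Subgroup G) ≤ normalizer ((⁅D, zpowers w⁆ : Subgroup G) : Set G) := by
  have hD : D ≤ normalizer ((⁅D, zpowers w⁆ : Subgroup G) : Set G) := by
    intro x hx
    rw [mem_normalizer_iff]
    intro y
    constructor
    · intro hy
      have := W_comm h k hy hx
      rw [this]; simpa using hy
    · intro hy
      have h6 := W_comm h k hy hx
      have h7 : x * y * x⁻¹ = y := by
        have h8 : x * (x * y * x⁻¹) = x * y := by rw [h6]; group
        exact mul_left_cancel h8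
      rwa [h7] at hy
  intro x hx
  by_cases hxD : x ∈ D
  · exact hD hxD
  · have h1 := mul_mem (t_norm_W h k) (hD (mem_coset h k hx hxD))
    rwa [mul_inv_cancel_left] at h1

/-- the case where all conjugates of `W` under `A` commute with `W` -/
theorem false_of_comm (hc : ∀ a : A, ∀ x ∈ ⁅D, zpowers w⁆, ∀ y ∈ ⁅D, zpowers w⁆, φ a x * y = y * φ a x) : False := by
  classical
  have hF2 : Fact (Nat.Prime 2) := ⟨Nat.prime_two⟩
  set W := ⁅D, zpowers w⁆ with hW
  let U : Subgroup G := ⨆ a : A, W.map (φ a).toMonoidHom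
  have hWU : W ≤ U := by
    have h1 := le_iSup (fun a : A => W.map (φ a).toMonoidHom) 1
    refine le_trans ?_ h1
    intro x hx
    refine ⟨x, hx, ?_⟩
    show φ 1 x = x
    rw [map_one, MulAut.one_apply]
  have hUD : U ≤ D := by
    apply iSup_le
    rintro a _ ⟨x, hx, rfl⟩
    apply mem_D_of_comm h k (h.hPi a x (h.hDP (W_le_D h k hx)))
    intro v hv
    exact hc a x hx v hv
  have hUi : Inv φ U := by
    intro b x hx
    have h1 : U ≤ U.comap (φ b).toMonoidHom := by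
      apply iSup_le
      rintro a _ ⟨x, hx, rfl⟩
      have h2 := le_iSup (fun a : A => W.map (φ a).toMonoidHom) (b * a)
      apply h2
      refine ⟨x, hx, ?_⟩
      show φ (b * a) x = φ b (φ a x)
      rw [map_mul, MulAut.mul_apply]
    exact h1 hx
  have hU1 : U ≠ ⊥ := by
    obtain ⟨v, hv, hvt⟩ := exists_not_comm h k
    intro h0
    have h1 := hWU hv
    rw [h0, mem_bot] at h1
    apply hvt
    rw [h1, one_mul, mul_one]
  have hconj : ∀ g : G, (∀ x ∈ U, g * x * g⁻¹ ∈ U) → (∀ x ∈ U, g⁻¹ * x * g⁻¹⁻¹ ∈ U) → g ∈ normalizer (U : Set G) := by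
    intro g h1 h2
    rw [mem_normalizer_iff]
    intro x
    refine ⟨h1 x, fun hx => ?_⟩
    have h4 := h2 _ hx
    have h5 : g⁻¹ * (g * x * g⁻¹) * g⁻¹⁻¹ = x := by group
    rwa [h5] at h4
  have hPU : (P : Subgroup G) ≤ normalizer (U : Set G) := by
    have key : ∀ g ∈ (P : Subgroup G), ∀ x ∈ U, g * x * g⁻¹ ∈ U := by
      intro g hg x hx
      have h1 : U ≤ U.comap (MulAut.conj g).toMonoidHom := by
        apply iSup_le
        rintro a _ ⟨x, hx, rfl⟩
        have h2 := le_iSup (fun a : A => W.map (φ a).toMonoidHom) a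
        apply h2
        have h3 := h.hPi a⁻¹ g hg
        refine ⟨φ a⁻¹ g * x * (φ a⁻¹ g)⁻¹, (mem_normalizer_iff.1 (P_norm_W h k h3) x).1 hx, ?_⟩
        show φ a (φ a⁻¹ g * x * (φ a⁻¹ g)⁻¹) = g * (φ a x) * g⁻¹
        rw [map_mul, map_mul, map_inv (φ a), phi_phi_inv]
      exact h1 hx
    intro g hg
    exact hconj g (key g hg) (key g⁻¹ (inv_mem hg))
  have hwU : w ∈ normalizer (U : Set G) := by
    have key : ∀ g ∈ zpowers w, ∀ x ∈ U, g * x * g⁻¹ ∈ U := by
      intro g hg x hx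
      have h1 : g * x * g⁻¹ = ⁅x, g⁆⁻¹ * x := by rw [commutatorElement_def]; group
      rw [h1]
      exact mul_mem (inv_mem (hWU (commutator_mem_commutator (hUD hx) hg))) hx
    exact hconj w (key w (mem_zpowers w)) (key w⁻¹ (inv_mem (mem_zpowers w)))
  rw [h.normalizer_eq (hUD.trans h.hDP) hU1 hUi hPU, h.M_eq] at hwU
  obtain ⟨j, hj⟩ := exists_orderOf P.2 hwU
  have h1 := k.hw2
  rw [hj] at h1
  rcases Nat.eq_zero_or_pos j with h2 | h2
  · rw [h2, pow_zero, orderOf_eq_one_iff] at hj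
    exact w_ne_one h k hj
  · exact h1 (dvd_pow_self 2 h2.ne')

theorem false_of_odd (hodd : Odd (Nat.card A)) : False := by
  classical
  obtain ⟨z, u, hz, hz1, hzc, hu, hu1, huz, hfix, hW⟩ := W_struct h k
  have hzz : z * z = 1 := sq_one h k hz
  have huu : u * u = 1 := sq_one h k hu
  have hWP : ∀ v ∈ ⁅D, zpowers w⁆, v ∈ (P : Subgroup G) := fun v hv => h.hDP (W_le_D h k hv)
  have hzw : z * w ≠ w * z := fun e => hz1 (W_fix h k hz e)
  -- commutators
  have E1 : ∀ v ∈ ⁅D, zpowers w⁆, ∀ p ∈ (P : Subgroup G), p * v * p⁻¹ * v⁻¹ = 1 ∨ p * v * p⁻¹ * v⁻¹ = z := by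
    intro v hv p hp
    apply hfix _ (mul_mem ((mem_normalizer_iff.1 (P_norm_W h k hp) v).1 hv) (inv_mem hv))
    exact h.hcl p hp v (hWP v hv) t k.htP
  have E2 : ∀ a : A, ∀ v ∈ ⁅D, zpowers w⁆, ∀ p ∈ (P : Subgroup G),
      p * φ a v * p⁻¹ * (φ a v)⁻¹ = 1 ∨ p * φ a v * p⁻¹ * (φ a v)⁻¹ = φ a z := by
    intro a v hv p hp
    have h1 : p * φ a v * p⁻¹ * (φ a v)⁻¹ = φ a (φ a⁻¹ p * v * (φ a⁻¹ p)⁻¹ * v⁻¹) := by
      rw [map_mul, map_mul, map_mul, map_inv (φ a), map_inv (φ a), phi_phi_inv]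
    rcases E1 v hv _ (h.hPi a⁻¹ p hp) with h2 | h2
    · left; rw [h1, h2, map_one]
    · right; rw [h1, h2]
  -- membership in D
  have hDu : ∀ p ∈ (P : Subgroup G), (p ∈ D ↔ p * u = u * p) := by
    intro p hp
    constructor
    · intro hpD; exact W_comm h k hu hpD
    · intro hpu
      apply mem_D_of_comm h k hp
      intro v hv
      have e1 : Commute p z := (hzc p hp).symm
      rcases hW v hv with rfl | rfl | rfl | rfl
      · exact Commute.one_right p
      · exact e1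
      · exact hpu
      · exact Commute.mul_right e1 hpu
  by_cases hc : ∀ a : A, ∀ x ∈ ⁅D, zpowers w⁆, ∀ y ∈ ⁅D, zpowers w⁆, φ a x * y = y * φ a x
  · exact false_of_comm h k hc
  push Not at hc
  obtain ⟨a, x, hx, y, hy, hxy⟩ := hc
  have hxP : φ a x ∈ (P : Subgroup G) := h.hPi a x (hWP x hx)
  have hyP := hWP y hy
  -- `φ a z = z`
  have haz : φ a z = z := by
    have h1 := (E1 y hy _ hxP).resolve_left (by
      intro e
      apply hxy
      calc φ a x * y = (φ a x * y * (φ a x)⁻¹ * y⁻¹) * (y * φ a x) := by group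
        _ = y * φ a x := by rw [e, one_mul])
    have h2 := (E2 a x hx y hyP).resolve_left (by
      intro e
      apply hxy
      have h3 : y * φ a x = φ a x * y := by
        calc y * φ a x = (y * φ a x * y⁻¹ * (φ a x)⁻¹) * (φ a x * y) := by group
          _ = φ a x * y := by rw [e, one_mul]
      exact h3.symm)
    rw [← h2]
    have h3 : y * φ a x * y⁻¹ * (φ a x)⁻¹ = (φ a x * y * (φ a x)⁻¹ * y⁻¹)⁻¹ := by group
    rw [h3, h1]
    exact inv_eq_of_mul_eq_one_right hzz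
  have haz' : φ a⁻¹ z = z := by
    have := phi_inv_phi (φ := φ) a z
    rwa [haz] at this
  set v3 := φ a u with hv3
  set v2 := φ a⁻¹ u with hv2
  have hv3P : v3 ∈ (P : Subgroup G) := h.hPi a u (hWP u hu)
  have hv2P : v2 ∈ (P : Subgroup G) := h.hPi a⁻¹ u (hWP u hu)
  have hv3u : v3 * u ≠ u * v3 := by
    intro e
    apply hxy
    have e1 : Commute v3 u := e
    have e2 : ∀ q ∈ (P : Subgroup G), Commute z q := fun q hq => hzc q hq
    have e3 : Commute (φ a x) u := by
      rcases hW x hx with rfl | rfl | rfl | rfl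
      · rw [map_one]; exact Commute.one_left u
      · rw [haz]; exact e2 u (hWP u hu)
      · exact e1
      · rw [map_mul, haz]; exact Commute.mul_left (e2 u (hWP u hu)) e1
    rcases hW y hy with rfl | rfl | rfl | rfl
    · exact Commute.one_right _
    · exact (e2 _ hxP).symm
    · exact e3
    · exact Commute.mul_right (e2 _ hxP).symm e3
  have hv2u : v2 * u ≠ u * v2 := by
    intro e
    apply hv3u
    have e1 := congrArg (φ a) e
    rw [map_mul, map_mul, hv2, phi_phi_inv] at e1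
    exact e1.symm
  have hv3D : v3 ∉ D := fun e => hv3u (W_comm h k hu e)
  have hv2D : v2 ∉ D := fun e => hv2u (W_comm h k hu e)
  have hv33 : v3 * v3 = 1 := by rw [hv3, ← map_mul, huu, map_one]
  have hv22 : v2 * v2 = 1 := by rw [hv2, ← map_mul, huu, map_one]
  have hv2i : v2⁻¹ = v2 := inv_eq_of_mul_eq_one_right hv22
  have hv3i : v3⁻¹ = v3 := inv_eq_of_mul_eq_one_right hv33
  have hprod : v2 * v3 ∈ D := by
    have e1 := mem_coset h k hv2P hv2D
    have e2 := mem_coset h k hv3P hv3D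
    have e3 : v2 * v3 = (t⁻¹ * v2)⁻¹ * (t⁻¹ * v3) := by
      calc v2 * v3 = v2⁻¹ * v3 := by rw [hv2i]
        _ = _ := by group
    rw [e3]
    exact mul_mem (inv_mem e1) e2
  obtain ⟨c, hcD, hcw, v, hv, hcv⟩ := D_eq h k hprod
  have hvv : v * v = 1 := sq_one h k hv
  have hcP := h.hDP hcD
  -- commutators with `c`
  have Emul : ∀ a ∈ (P : Subgroup G), ∀ b : G, (∀ p ∈ (P : Subgroup G), p * a * p⁻¹ * a⁻¹ = 1 ∨ p * a * p⁻¹ * a⁻¹ = z) →
      (∀ p ∈ (P : Subgroup G), p * b * p⁻¹ * b⁻¹ = 1 ∨ p * b * p⁻¹ * b⁻¹ = z) →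
      ∀ p ∈ (P : Subgroup G), p * (a * b) * p⁻¹ * (a * b)⁻¹ = 1 ∨ p * (a * b) * p⁻¹ * (a * b)⁻¹ = z := by
    intro a haP b ha hb p hp
    have e1 : p * (a * b) * p⁻¹ * (a * b)⁻¹ = (p * a * p⁻¹ * a⁻¹) * (a * (p * b * p⁻¹ * b⁻¹) * a⁻¹) := by group
    rw [e1]
    have e2 : a * z * a⁻¹ = z := by rw [← hzc a haP]; group
    rcases ha p hp with h1 | h1 <;> rcases hb p hp with h2 | h2
    · left; rw [h1, h2]; group
    · right; rw [h1, h2, one_mul, e2]
    · right; rw [h1, h2]; group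
    · left; rw [h1, h2, e2, hzz]
  have Ev2 : ∀ p ∈ (P : Subgroup G), p * v2 * p⁻¹ * v2⁻¹ = 1 ∨ p * v2 * p⁻¹ * v2⁻¹ = z := by
    intro p hp
    have := E2 a⁻¹ u hu p hp
    rwa [haz'] at this
  have Ev3 : ∀ p ∈ (P : Subgroup G), p * v3 * p⁻¹ * v3⁻¹ = 1 ∨ p * v3 * p⁻¹ * v3⁻¹ = z := by
    intro p hp
    have := E2 a u hu p hp
    rwa [haz] at this
  have Ec : ∀ p ∈ (P : Subgroup G), p * c * p⁻¹ * c⁻¹ = 1 ∨ p * c * p⁻¹ * c⁻¹ = z := by
    have e1 : c = v2 * v3 * v := by
      rw [hcv, mul_assoc, hvv, mul_one]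
    rw [e1]
    exact Emul _ (mul_mem hv2P hv3P) _ (Emul _ hv2P _ Ev2 Ev3) (E1 v hv)
  have hcD' : ∀ d ∈ D, d * c = c * d := by
    intro d hd
    obtain ⟨c', hc', hcw', v', hv', rfl⟩ := D_eq h k hd
    have e1 : c' * v' * c * (c' * v')⁻¹ * c⁻¹ = c' * c * c'⁻¹ * c⁻¹ := by
      have e2 : c * v' = v' * c := W_comm h k hv' hcD
      calc c' * v' * c * (c' * v')⁻¹ * c⁻¹ = c' * (v' * c) * v'⁻¹ * c'⁻¹ * c⁻¹ := by group
        _ = c' * (c * v') * v'⁻¹ * c'⁻¹ * c⁻¹ := by rw [e2]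
        _ = _ := by group
    have e3 : Commute (c' * c * c'⁻¹ * c⁻¹) w := by
      have f1 : Commute c' w := hcw'
      have f2 : Commute c w := hcw
      exact (((f1.mul_left f2).mul_left f1.inv_left).mul_left f2.inv_left)
    rcases Ec (c' * v') (h.hDP hd) with e4 | e4
    · calc c' * v' * c = (c' * v' * c * (c' * v')⁻¹ * c⁻¹) * (c * (c' * v')) := by group
        _ = c * (c' * v') := by rw [e4, one_mul]
    · exfalso
      rw [e1] at e4
      rw [e4] at e3
      exact hzw e3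
  have hct : t * c = c * t := by
    have e3 : Commute (t * c * t⁻¹ * c⁻¹) w := by
      have f2 : Commute c w := hcw
      have f3 : Commute (t * c * t⁻¹) w := by
        have f4 : t * w⁻¹ * t⁻¹ = w := by
          have f5 : t * w⁻¹ * t⁻¹ = (t * w * t⁻¹)⁻¹ := by group
          rw [f5, k.htw, inv_inv]
        have f6 : c * w⁻¹ = w⁻¹ * c := f2.inv_right
        show t * c * t⁻¹ * w = w * (t * c * t⁻¹)
        calc t * c * t⁻¹ * w = t * c * t⁻¹ * (t * w⁻¹ * t⁻¹) := by rw [f4]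
          _ = t * (c * w⁻¹) * t⁻¹ := by group
          _ = t * (w⁻¹ * c) * t⁻¹ := by rw [f6]
          _ = (t * w⁻¹ * t⁻¹) * (t * c * t⁻¹) := by group
          _ = w * (t * c * t⁻¹) := by rw [f4]
      exact f3.mul_left f2.inv_left
    rcases Ec t k.htP with e4 | e4
    · calc t * c = (t * c * t⁻¹ * c⁻¹) * (c * t) := by group
        _ = c * t := by rw [e4, one_mul]
    · exfalso
      rw [e4] at e3
      exact hzw e3
  have hcc : ∀ p ∈ (P : Subgroup G), p * c = c * p := by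
    intro p hp
    by_cases hpD : p ∈ D
    · exact hcD' p hpD
    · have e1 := hcD' _ (mem_coset h k hp hpD)
      have e2 : Commute (t * (t⁻¹ * p)) c := Commute.mul_left hct e1
      rwa [mul_inv_cancel_left] at e2
  -- `v ∈ {1, z}`
  have hvt_of : v * v2 = v2 * v → v = 1 ∨ v = z := by
    intro e
    apply hfix v hv
    have e1 : Commute v (t⁻¹ * v2) := (W_comm h k hv (mem_coset h k hv2P hv2D)).symm
    have e2 : Commute v (v2 * (t⁻¹ * v2)⁻¹) := Commute.mul_right e (Commute.inv_right e1)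
    have e3 : v2 * (t⁻¹ * v2)⁻¹ = t := by group
    rw [e3] at e2
    exact e2
  have hv1 : v = 1 ∨ v = z := by
    apply hvt_of
    -- v2 v3 = v3 v2
    have e1 : v2 * v3 * (v2 * v3) = c * c := by
      rw [hcv]
      calc c * v * (c * v) = c * (v * c) * v := by group
        _ = c * (c * v) * v := by rw [hcc v (hWP v hv)]
        _ = c * c * (v * v) := by group
        _ = c * c := by rw [hvv, mul_one]
    have e2 : v2 * v3 * (v2 * v3) = v2 * v3 * v2⁻¹ * v3⁻¹ := by
      rw [hv2i, hv3i]; group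
    have e3 : Commute (c * c) w := Commute.mul_left hcw hcw
    have e4 : v2 * v3 * v2⁻¹ * v3⁻¹ = 1 := by
      rcases Ev3 v2 hv2P with e5 | e5
      · exact e5
      · exfalso
        rw [← e1, e2, e5] at e3
        exact hzw e3
    have e5 : v2 * v3 = v3 * v2 := by
      calc v2 * v3 = (v2 * v3 * v2⁻¹ * v3⁻¹) * (v3 * v2) := by group
        _ = v3 * v2 := by rw [e4, one_mul]
    have e6 : Commute v2 (v2 * v3) := Commute.mul_right (Commute.refl v2) e5
    rw [hcv] at e6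
    have e7 : Commute v2 c := hcc v2 hv2P
    have e8 : Commute v2 (c⁻¹ * (c * v)) := Commute.mul_right e7.inv_right e6
    rw [inv_mul_cancel_left] at e8
    exact e8.symm
  -- `v2 v3` is central
  have hcen : ∀ p ∈ (P : Subgroup G), Commute p (v2 * v3) := by
    intro p hp
    rw [hcv]
    refine Commute.mul_right (hcc p hp) ?_
    rcases hv1 with rfl | rfl
    · exact Commute.one_right p
    · exact (hzc p hp).symm
  have hiff : ∀ p ∈ (P : Subgroup G), (p * v2 = v2 * p ↔ p * v3 = v3 * p) := by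
    intro p hp
    constructor
    · intro e
      have e1 : Commute p (v2⁻¹ * (v2 * v3)) := Commute.mul_right (Commute.inv_right e) (hcen p hp)
      rwa [inv_mul_cancel_left] at e1
    · intro e
      have e1 : Commute p ((v2 * v3) * v3⁻¹) := Commute.mul_right (hcen p hp) (Commute.inv_right e)
      rwa [mul_inv_cancel_right] at e1
  have hD2 : ∀ p ∈ (P : Subgroup G), (φ a⁻¹ p ∈ D ↔ φ a p ∈ D) := by
    intro p hp
    rw [hDu _ (h.hPi a⁻¹ p hp), hDu _ (h.hPi a p hp)]
    have e1 : φ a⁻¹ p * u = u * φ a⁻¹ p ↔ p * v3 = v3 * p := by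
      constructor
      · intro e
        have := congrArg (φ a) e
        rw [map_mul, map_mul, phi_phi_inv] at this
        exact this
      · intro e
        have := congrArg (φ a⁻¹) e
        rw [map_mul, map_mul, hv3, phi_inv_phi] at this
        exact this
    have e2 : φ a p * u = u * φ a p ↔ p * v2 = v2 * p := by
      constructor
      · intro e
        have := congrArg (φ a⁻¹) e
        rw [map_mul, map_mul, phi_inv_phi] at this
        exact this
      · intro e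
        have := congrArg (φ a) e
        rw [map_mul, map_mul, hv2, phi_phi_inv] at this
        exact this
    rw [e1, e2, hiff p hp]
  have hD3 : ∀ p ∈ D, φ (a * a) p ∈ D := by
    intro p hp
    have e1 := hD2 (φ a p) (h.hPi a p (h.hDP hp))
    rw [phi_inv_phi] at e1
    rw [map_mul, MulAut.mul_apply]
    exact e1.1 hp
  have hD4 : ∀ n : ℕ, ∀ p ∈ D, φ ((a * a) ^ n) p ∈ D := by
    intro n
    induction n with
    | zero => intro p hp; rw [pow_zero, map_one, MulAut.one_apply]; exact hp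
    | succ n ih =>
      intro p hp
      rw [_root_.pow_succ, map_mul, MulAut.mul_apply]
      exact ih _ (hD3 p hp)
  have ha2 : ∃ n : ℕ, (a * a) ^ n = a := by
    have e1 : Odd (orderOf a) := hodd.of_dvd_nat (orderOf_dvd_natCard a)
    refine ⟨(orderOf a + 1) / 2, ?_⟩
    rw [← pow_two, ← pow_mul]
    have e2 : 2 * ((orderOf a + 1) / 2) = orderOf a + 1 := by
      have := Nat.odd_iff.1 e1
      omega
    rw [e2, _root_.pow_succ, pow_orderOf_eq_one, one_mul]
  obtain ⟨n, hn⟩ := ha2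
  have e9 := hD4 n u (W_le_D h k hu)
  rw [hn] at e9
  exact hv3D e9

end WT

/-- the prime 2 -/
theorem hasNormalPComplement_two (hodd : Odd (Nat.card A)) (h : Cfg φ M) (h2 : 2 ∣ Nat.card M)
    (hcl : ∀ a ∈ M, ∀ b ∈ M, ∀ c ∈ M, (∃ n, orderOf a = 2 ^ n) → (∃ n, orderOf b = 2 ^ n) → (∃ n, orderOf c = 2 ^ n) →
      ⁅a, b⁆ * c = c * ⁅a, b⁆) : HasNormalPComplement 2 G := by
  have hF2 : Fact (Nat.Prime 2) := ⟨Nat.prime_two⟩
  by_contra hnc
  obtain ⟨P, hPM, hPne, hPi, hN⟩ := h.exists_sylow 2 h2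
  obtain ⟨D, hD⟩ := exists_D h P hPM hPne hPi hN (by
    intro a ha b hb c hc
    exact hcl a (hPM ha) b (hPM hb) c (hPM hc) (exists_orderOf P.2 ha) (exists_orderOf P.2 hb)
      (exists_orderOf P.2 hc)) hnc
  obtain ⟨w, t, r, hr, hr2, ⟨j, hj⟩, hwD, hwN, htP, htD, htt, htw, huniq⟩ := hD.exists_wt
  have k : WT P D w t := by
    refine ⟨?_, hwD, hwN, htP, htD, htt, htw, huniq⟩
    rw [hj]
    intro h3
    exact hr2 ((Nat.prime_dvd_prime_iff_eq Nat.prime_two hr).1 (Nat.prime_two.dvd_of_dvd_pow h3)).symm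
  exact WT.false_of_odd hD k hodd

end Final

section Odd

variable {A : Type v} [Group A] [Finite A] {G : Type u} [Group G] [Finite G] {φ : A →* MulAut G} {M : Subgroup G}

open Cfsg.Agent.Lib.ZJThm

/-- odd primes -/
theorem hasNormalPComplement_odd {p : ℕ} [hp : Fact p.Prime] (hp2 : p ≠ 2) (h : Cfg φ M) (hpd : p ∣ Nat.card M) :
    HasNormalPComplement p G := by
  obtain ⟨P, hPM, hPne, hPi, hN⟩ := h.exists_sylow p hpd
  have hZinv : Inv φ (Cfsg.centerThompsonAOf (P : Subgroup G)) := Inv.zj hPi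
  have hZne : Cfsg.centerThompsonAOf (P : Subgroup G) ≠ ⊥ := by
    rw [centerThompsonAOf_eq]; exact ZJLocal.ZJ_ne_bot P.2 hPne
  have hZP : Cfsg.centerThompsonAOf (P : Subgroup G) ≤ (P : Subgroup G) := by
    rw [centerThompsonAOf_eq]; exact (fam_ab (p := p)).ZJ_le_self _
  have hMN : M ≤ normalizer (Cfsg.centerThompsonAOf (P : Subgroup G) : Set G) := by
    intro g hg
    rw [← hN] at hg
    rw [Cfsg.Agent.Lib.ThompsonJ.mem_normalizer_iff_map] at hg ⊢
    rw [centerThompsonAOf_eq]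
    have h1 := (fam_ab (p := p)).ZJ_map (MulAut.conj g) (P : Subgroup G)
    rw [← h1, hg]
  have hnorm := h.normalizer_eq hZne (hZP.trans hPM) hZinv hMN
  apply Cfsg.Agent.S0659.result hp2 P
  rw [hnorm]
  exact hasNormalPComplement_of_isNilpotent h.nil p

theorem solvable_of_complements (h : Cfg φ M) (hcop : (Nat.card A).Coprime (Nat.card G)) (hA : Group.IsSolvable A)
    (hc : ∀ p : ℕ, p.Prime → p ∣ Nat.card M → HasNormalPComplement p G) : Group.IsSolvable G := by
  classical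
  have hnil := h.nil
  have hsolvM : Group.IsSolvable M := inferInstance
  set s := (Nat.card M).primeFactors with hs
  have hmem : ∀ p ∈ s, p.Prime ∧ p ∣ Nat.card M := fun p hp =>
    ⟨Nat.prime_of_mem_primeFactors hp, Nat.dvd_of_mem_primeFactors hp⟩
  set K : Subgroup G := ⨅ p : s, pResidual (p : ℕ) G with hK
  have hKn : K.Normal := by
    rw [hK]
    exact Subgroup.normal_iInf_normal (fun p => PNilp.pResidual_normal (p : ℕ))
  have hKi : Inv φ K := by
    intro a x hx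
    rw [hK, Subgroup.mem_iInf] at hx ⊢
    intro p
    have : (Cfsg.pResidual (p : ℕ) G).Characteristic := PNilp.pResidual_characteristic (p : ℕ)
    exact inv_of_characteristic (φ := φ) (Cfsg.pResidual (p : ℕ) G) a x (hx p)
  have hKcard : ∀ p : ℕ, p.Prime → p ∣ Nat.card M → ¬ p ∣ Nat.card K := by
    intro p hp hpM hpK
    haveI : Fact p.Prime := ⟨hp⟩
    have h1 := PNilp.hasNormalPComplement_iff_pResidual.mp (hc p hp hpM)
    apply h1
    refine hpK.trans (Subgroup.card_dvd_of_le ?_)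
    have hps : p ∈ s := by
      rw [hs, Nat.mem_primeFactors]
      exact ⟨hp, hpM, Nat.card_pos.ne'⟩
    exact iInf_le (fun q : s => pResidual (q : ℕ) G) ⟨p, hps⟩
  have hcop2 : (Nat.card M).Coprime (Nat.card K) := by
    rw [Nat.coprime_iff_gcd_eq_one]
    by_contra hne
    obtain ⟨p, hp, hpd⟩ := Nat.exists_prime_and_dvd hne
    exact hKcard p hp (hpd.trans (Nat.gcd_dvd_left _ _)) (hpd.trans (Nat.gcd_dvd_right _ _))
  have hKM : K ⊓ M = ⊥ := SubgroupTools.inf_eq_bot_of_coprime' hcop2.symm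
  by_cases hKbot : K = ⊥
  · have hinj : Function.Injective (MonoidHom.pi (fun p : s => QuotientGroup.mk' (pResidual (p : ℕ) G))) := by
      rw [injective_iff_map_eq_one]
      intro x hx
      have h1 : x ∈ K := by
        rw [hK, Subgroup.mem_iInf]
        intro p
        have h2 := congrFun hx p
        have h3 : (QuotientGroup.mk' (pResidual (p : ℕ) G)) x = 1 := h2
        rwa [← MonoidHom.mem_ker, QuotientGroup.ker_mk'] at h3
      rw [hKbot] at h1
      exact mem_bot.mp h1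
    have hn : ∀ p : s, Group.IsNilpotent (G ⧸ pResidual (p : ℕ) G) := by
      intro p
      haveI : Fact (p : ℕ).Prime := ⟨(hmem p p.2).1⟩
      exact (PNilp.isPGroup_quotient_pResidual (p : ℕ)).isNilpotent
    have hn' : Group.IsSolvable (∀ p : s, G ⧸ pResidual (p : ℕ) G) := by
      haveI := hn
      haveI : Group.IsNilpotent (∀ p : s, G ⧸ pResidual (p : ℕ) G) := inferInstance
      infer_instance
    exact Group.isSolvable_of_isSolvable_injective hinj
  · have hcK : 1 < Nat.card K := K.one_lt_card_iff_ne_bot.mpr hKbot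
    set r := (Nat.card K).minFac with hr
    have hrp : r.Prime := Nat.minFac_prime hcK.ne'
    haveI : Fact r.Prime := ⟨hrp⟩
    -- the semidirect product
    let X : Subgroup (G ⋊[φ] A) := ActSemi.up φ M ⊔ ActSemi.KA φ
    have hAM : ActSemi.KA φ ≤ normalizer (ActSemi.up φ M : Set (G ⋊[φ] A)) := ActSemi.KA_le_normalizer_up φ h.inv
    have hXK : X ≤ normalizer (ActSemi.up φ K : Set (G ⋊[φ] A)) := by
      refine sup_le ?_ (ActSemi.KA_le_normalizer_up φ hKi)
      rw [le_normalizer_iff]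
      rintro _ ⟨m, hm, rfl⟩ _ ⟨x, hx, rfl⟩
      rw [← map_inv, ← map_mul, ← map_mul]
      exact (ActSemi.inl_mem_up φ).2 (hKn.conj_mem x hx m)
    have hXcard : Nat.card X ∣ Nat.card M * Nat.card A := by
      have h1 := SubgroupTools.card_sup_mul_card_inf hAM
      rw [ActSemi.card_up, ActSemi.card_KA] at h1
      rw [← h1]
      exact dvd_mul_right _ _
    have hcopX : (Nat.card X).Coprime (Nat.card (ActSemi.up φ K)) := by
      rw [ActSemi.card_up]
      apply Nat.Coprime.coprime_dvd_left hXcard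
      exact Nat.Coprime.mul_left hcop2 (hcop.coprime_dvd_right (Subgroup.card_subgroup_dvd_card K))
    have hXs : Group.IsSolvable X := by
      let f : X →* A := SemidirectProduct.rightHom.comp X.subtype
      let g : M →* X := (SemidirectProduct.inl.comp M.subtype).codRestrict X (fun m =>
        mem_sup_left ((ActSemi.inl_mem_up φ).2 m.2))
      refine Group.isSolvable_of_ker_le_range g f ?_
      rintro ⟨x, hx⟩ hx1
      have h1 : SemidirectProduct.rightHom x = 1 := hx1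
      obtain ⟨y, hy, z, hz, hyz⟩ := (ConjSylow.mem_sup_of_le_normalizer' hAM).1 hx
      obtain ⟨m, hm, rfl⟩ := hy
      obtain ⟨b, rfl⟩ := hz
      have h2 : b = 1 := by
        rw [← hyz] at h1
        simpa using h1
      refine ⟨⟨m, hm⟩, ?_⟩
      apply Subtype.ext
      show SemidirectProduct.inl m = x
      rw [← hyz, h2, map_one, mul_one]
    obtain ⟨R', hRK', hRp', hRi', hXR'⟩ := Cfsg.Agent.Lib.CoprimeAction.exists_invariant_sylow hXK hcopX
      (Or.inl hXs) r
    set R : Subgroup G := ActSemi.down φ R' with hR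
    have hup : ActSemi.up φ R = R' := by
      apply ActSemi.up_down
      exact hRK'.trans (ActSemi.up_le φ K)
    have hRK : R ≤ K := by
      intro x hx
      exact (ActSemi.inl_mem_up φ).1 (hRK' hx)
    have hRcard : Nat.card R = Nat.card R' := by rw [← hup, ActSemi.card_up]
    have hRp : IsPGroup r R := by
      obtain ⟨n, hn⟩ := IsPGroup.iff_card.1 hRp'
      exact IsPGroup.of_card (n := n) (by rw [hRcard, hn])
    have hRi : Inv φ R := by
      intro a x hx
      exact ActSemi.invariant_down φ ((le_sup_right : ActSemi.KA φ ≤ X).trans hXR') a x hx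
    have hMR : M ≤ normalizer (R : Set G) := by
      rw [le_normalizer_iff]
      intro m hm x hx
      have h1 : (SemidirectProduct.inl m : G ⋊[φ] A) ∈ normalizer (R' : Set (G ⋊[φ] A)) :=
        hXR' (mem_sup_left ((ActSemi.inl_mem_up φ).2 hm))
      have h2 := (mem_normalizer_iff.1 h1 _).1 hx
      rw [← map_inv, ← map_mul, ← map_mul] at h2
      exact h2
    have hRne : R ≠ ⊥ := by
      intro h0
      have h1 : R' = ⊥ := by
        apply Subgroup.eq_bot_of_card_eq
        rw [← hRcard, h0, Subgroup.card_bot]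
      rw [h1, relIndex_bot_left, ActSemi.card_up] at hRi'
      exact hRi' (Nat.minFac_dvd _)
    have hRM : ¬ R ≤ M := by
      intro h0
      exact hRne (le_bot_iff.mp (hKM ▸ le_inf hRK h0))
    have htop : R ⊔ M = ⊤ := by
      by_contra hne
      have h1 := h.max _ le_sup_right hne (hRi.sup h.inv)
      exact hRM (h1 ▸ le_sup_left)
    have hRn : R.Normal := by
      rw [← normalizer_eq_top_iff, eq_top_iff, ← htop]
      exact sup_le le_normalizer hMR
    haveI : Group.IsNilpotent R := hRp.isNilpotent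
    have hsR : Group.IsSolvable R := inferInstance
    have hsQ : Group.IsSolvable (G ⧸ R) := by
      have hsurj : Function.Surjective ((QuotientGroup.mk' R).comp M.subtype) := by
        rw [← MonoidHom.range_eq_top, MonoidHom.range_comp, range_subtype]
        have h1 : (R ⊔ M).map (QuotientGroup.mk' R) = ⊤ := by
          rw [htop, ← MonoidHom.range_eq_map, MonoidHom.range_eq_top]
          exact QuotientGroup.mk'_surjective R
        rw [_root_.Subgroup.map_sup, QuotientGroup.map_mk'_self, bot_sup_eq] at h1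
        exact h1
      exact Group.isSolvable_of_surjective hsurj
    have e := QuotientGroup.ker_mk' R
    exact Group.isSolvable_of_ker_le_range R.subtype (QuotientGroup.mk' R)
      (by rw [e, range_subtype])

theorem core_free (hFT : FTHall.FT.{u}) (hFT' : FTHall.FT.{v}) (h : Cfg φ M)
    (hcop : (Nat.card A).Coprime (Nat.card G))
    (hcl : ∀ a ∈ M, ∀ b ∈ M, ∀ c ∈ M, (∃ n, orderOf a = 2 ^ n) → (∃ n, orderOf b = 2 ^ n) → (∃ n, orderOf c = 2 ^ n) →
      ⁅a, b⁆ * c = c * ⁅a, b⁆) : Group.IsSolvable G := by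
  by_cases hodd : Odd (Nat.card G)
  · exact hFT G hodd
  · rw [Nat.not_odd_iff_even] at hodd
    have hA : Odd (Nat.card A) := by
      rw [← Nat.coprime_two_right]
      exact Nat.Coprime.coprime_dvd_right hodd.two_dvd hcop
    apply solvable_of_complements h hcop (hFT' A hA)
    intro p hp hpM
    have hF := Fact.mk hp
    by_cases hp2 : p = 2
    · subst hp2
      exact hasNormalPComplement_two hA h hpM hcl
    · exact hasNormalPComplement_odd hp2 h hpM

theorem main (hFT : FTHall.FT.{u}) (hFT' : FTHall.FT.{v}) (φ : A →* MulAut G)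
    (hcop : (Nat.card A).Coprime (Nat.card G)) (M : Subgroup G) (hMtop : M ≠ ⊤)
    (hMinv : ∀ a : A, ∀ m : G, m ∈ M → φ a m ∈ M)
    (hMmax : ∀ H : Subgroup G, M ≤ H → H ≠ ⊤ → (∀ a : A, ∀ h : G, h ∈ H → φ a h ∈ H) → H = M)
    (hnil : Group.IsNilpotent M) (h2 : ∀ S : Sylow 2 ↥M, Group.nilpotencyClass ↥(S : Subgroup ↥M) ≤ 2) :
    Group.IsSolvable G := by
  classical
  have hF2 : Fact (Nat.Prime 2) := ⟨Nat.prime_two⟩
  -- commutators of 2-elements of `M`
  have hcl : ∀ a ∈ M, ∀ b ∈ M, ∀ c ∈ M, (∃ n, orderOf a = 2 ^ n) → (∃ n, orderOf b = 2 ^ n) →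
      (∃ n, orderOf c = 2 ^ n) → ⁅a, b⁆ * c = c * ⁅a, b⁆ := by
    obtain ⟨S⟩ : Nonempty (Sylow 2 M) := inferInstance
    have hSn : (S : Subgroup M).Normal := inferInstance
    have hmem : ∀ x (hx : x ∈ M), (∃ n, orderOf x = 2 ^ n) → (⟨x, hx⟩ : M) ∈ (S : Subgroup M) := by
      rintro x hx ⟨n, hn⟩
      apply mem_of_normalizer S
      · rw [normalizer_eq_top_iff.2 hSn]; exact mem_top _
      · exact ⟨n, by rw [Subgroup.orderOf_mk, hn]⟩
    have hSnil : Group.IsNilpotent (S : Subgroup M) := S.2.isNilpotent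
    intro a ha b hb c hc ha2 hb2 hc2
    have h1 := ClassTwo67.comm_mem_center (h2 S) ⟨⟨a, ha⟩, hmem a ha ha2⟩ ⟨⟨b, hb⟩, hmem b hb hb2⟩
    have h3 := mem_center_iff.1 h1 ⟨⟨c, hc⟩, hmem c hc hc2⟩
    exact (congrArg (fun x : (S : Subgroup M) => ((x : M) : G)) h3).symm
  set N := M.normalCore with hN
  have hNM : N ≤ M := normalCore_le M
  have hNi : Inv φ N := by
    intro a x hx
    have h1 : (N.map (φ a).toMonoidHom).Normal := Subgroup.Normal.map (inferInstance : N.Normal) _ (φ a).surjective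
    have h3 : N.map (φ a).toMonoidHom ≤ M := by
      rintro _ ⟨y, hy, rfl⟩
      exact hMinv a y (hNM hy)
    have h4 : N.map (φ a).toMonoidHom ≤ N := normal_le_normalCore.2 h3
    exact h4 ⟨x, hx, rfl⟩
  have hsurj := QuotientGroup.mk'_surjective N
  have hcM : (M.map (QuotientGroup.mk' N)).comap (QuotientGroup.mk' N) = M := by
    rw [comap_map_eq, QuotientGroup.ker_mk', sup_eq_left.mpr hNM]
  have hcfg : Cfg (quot N hNi) (M.map (QuotientGroup.mk' N)) := by
    refine ⟨?_, Inv.map hMinv, ?_, ?_, ?_⟩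
    · intro h0
      rw [h0, comap_top] at hcM
      exact hMtop hcM.symm
    · intro H hMH hH hHi
      have h1 : M ≤ H.comap (QuotientGroup.mk' N) := hcM.ge.trans (comap_mono hMH)
      have h3 : H.comap (QuotientGroup.mk' N) ≠ ⊤ := by
        intro h5
        apply hH
        rw [← Subgroup.map_comap_eq_self_of_surjective hsurj H, h5,
          Subgroup.map_top_of_surjective _ hsurj]
      have h4 := hMmax _ h1 h3 (Inv.comap (N := N) (h := hNi) hHi)
      rw [← Subgroup.map_comap_eq_self_of_surjective hsurj H, h4]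
    · exact Group.nilpotent_of_surjective
        ((QuotientGroup.mk' N).subgroupMap M) (MonoidHom.subgroupMap_surjective _ _)
    · rw [eq_bot_iff]
      have h1 : ((M.map (QuotientGroup.mk' N)).normalCore.comap (QuotientGroup.mk' N)) ≤ N := by
        apply normal_le_normalCore.2
        exact (comap_mono (normalCore_le _)).trans hcM.le
      rw [← Subgroup.map_comap_eq_self_of_surjective hsurj (M.map (QuotientGroup.mk' N)).normalCore]
      refine (map_mono h1).trans ?_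
      rw [QuotientGroup.map_mk'_self]
  have hQ : Group.IsSolvable (G ⧸ N) := by
    refine core_free hFT hFT' hcfg ?_ ?_
    · refine Nat.Coprime.coprime_dvd_right ?_ hcop
      rw [← Subgroup.index_eq_card]; exact N.index_dvd_card
    · obtain ⟨e, f, hreg⟩ := PPart.exists_isRegExp 2 Nat.prime_two G
      -- lifting 2-elements
      have hlift : ∀ y ∈ M.map (QuotientGroup.mk' N), (∃ n, orderOf y = 2 ^ n) → ∃ x ∈ M,
          (∃ n, orderOf x = 2 ^ n) ∧ QuotientGroup.mk' N x = y := by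
        rintro y ⟨x, hx, rfl⟩ ⟨n, hn⟩
        refine ⟨x ^ f, pow_mem hx f, hreg.sing x, ?_⟩
        have h1 := congrArg (QuotientGroup.mk' N) (hreg.mul_eq x)
        rw [map_mul, map_pow, map_pow] at h1
        rw [map_pow]
        have h3 : (QuotientGroup.mk' N x) ^ e = 1 := by
          rw [← orderOf_dvd_iff_pow_eq_one, hn]
          refine dvd_trans ?_ hreg.e_dvd
          rw [← hn]
          have h4 : orderOf (QuotientGroup.mk' N x) ∣ Nat.card G :=
            (orderOf_map_dvd (QuotientGroup.mk' N) x).trans (orderOf_dvd_natCard x)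
          rw [hn] at h4 ⊢
          exact pow_dvd_pow 2 ((Nat.prime_two.pow_dvd_iff_le_factorization Nat.card_pos.ne').1 h4)
        rw [h3, one_mul] at h1
        exact h1
      intro a ha b hb c hc ha2 hb2 hc2
      obtain ⟨a', ha', ha2', rfl⟩ := hlift a ha ha2
      obtain ⟨b', hb', hb2', rfl⟩ := hlift b hb hb2
      obtain ⟨c', hc', hc2', rfl⟩ := hlift c hc hc2
      rw [← map_commutatorElement, ← map_mul, ← map_mul, hcl a' ha' b' hb' c' hc' ha2' hb2' hc2']
  have hNs : Group.IsSolvable N := by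
    have : Group.IsNilpotent N := ActNilp.isNilpotent_of_le hNM hnil
    infer_instance
  exact Group.isSolvable_of_ker_le_range N.subtype (QuotientGroup.mk' N)
      (by rw [QuotientGroup.ker_mk', range_subtype])

end Odd

end Cfsg.Agent.Lib.ActDesk
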