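import Cfsg.Agent.Lib.ActNilp
import Cfsg.Agent.S2756

set_option autoImplicit false

/-!
Coprime action with all proper invariant subgroups of order divisible by `p` nilpotent.
-/

namespace Cfsg.Agent.Lib.ActN41

open Subgroup Cfsg.Agent.Lib.ZJThm Cfsg.Agent.Lib.ActNilp

universe u v

theorem dvd_comap {G : Type u} [Group G] [Finite G] (N : Subgroup G) [N.Normal] (H : Subgroup (G ⧸ N)) :
    ∃ f : (H.comap (QuotientGroup.mk' N)) →* H, Function.Surjective f := by
  refine ⟨((QuotientGroup.mk' N).comp (H.comap (QuotientGroup.mk' N)).subtype).codRestrict H (fun x => x.2), ?_⟩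
  rintro ⟨y, hy⟩
  obtain ⟨x, rfl⟩ := QuotientGroup.mk'_surjective N y
  exact ⟨⟨x, hy⟩, rfl⟩

theorem solvable_of_comm {G : Type u} [Group G] (Z : Subgroup G) (h : Z ≤ centralizer (Z : Set G)) :
    Group.IsSolvable Z := by
  have hcomm : ∀ a b : Z, a * b = b * a := by
    intro a b
    exact Subtype.ext (mem_centralizer_iff.1 (h a.2) b b.2).symm
  let _ : CommGroup Z := { (inferInstance : Group Z) with mul_comm := hcomm }
  infer_instance

/-- Sylow 2-subgroups of nilpotent groups and of groups of odd order are normal -/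
theorem two_normal {H : Type u} [Group H] [Finite H] (h : Group.IsNilpotent H ∨ ¬ 2 ∣ Nat.card H) (P : Sylow 2 H) :
    (P : Subgroup H).Normal := by
  have hF2 : Fact (Nat.Prime 2) := ⟨Nat.prime_two⟩
  rcases h with h | h
  · exact ((Group.isNilpotent_of_finite_tfae (G := H)).out 0 3 rfl rfl).1 h 2 hF2 P
  · have h1 : (P : Subgroup H) = ⊥ := by
      by_contra hne
      obtain ⟨k, hk⟩ := IsPGroup.iff_card.1 P.isPGroup'
      have h2 : 1 < Nat.card (P : Subgroup H) := (Subgroup.one_lt_card_iff_ne_bot _).2 hne
      have hk0 : k ≠ 0 := by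
        rintro rfl
        rw [hk, pow_zero] at h2
        omega
      apply h
      refine dvd_trans ?_ (Subgroup.card_subgroup_dvd_card (P : Subgroup H))
      rw [hk]
      exact dvd_pow_self 2 hk0
    rw [h1]
    infer_instance

theorem aux {A : Type v} [Group A] [Finite A] (hA : Group.IsSolvable A) (hFT : FTHall.FT.{u}) (hFT' : FTHall.FT.{v})
    (p : ℕ) [hp : Fact p.Prime] (n : ℕ) :
    ∀ (G : Type u) [Group G] [Finite G] (φ : A →* MulAut G), Nat.card G = n → (Nat.card A).Coprime (Nat.card G) →
    p ∣ Nat.card G → (∀ H : Subgroup G, H ≠ ⊤ → Inv φ H → p ∣ Nat.card H → Group.IsNilpotent H) →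
    Group.IsSolvable G := by
  induction n using Nat.strong_induction_on with
  | _ n ih =>
  intro G _ _ φ hn hcop hpG h
  classical
  by_contra hns
  -- no invariant normal solvable subgroup
  have hex : ∀ N : Subgroup G, N.Normal → Inv φ N → Group.IsSolvable N → N = ⊥ := by
    intro N hN hNi hNs
    by_contra hbot
    apply hns
    have hidx : Nat.card (G ⧸ N) ∣ Nat.card G := by
      rw [← Subgroup.index_eq_card]; exact N.index_dvd_card
    have hlt : Nat.card (G ⧸ N) < n := by
      rw [← hn, ← Subgroup.index_eq_card, ← N.card_mul_index]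
      exact lt_mul_of_one_lt_left (Nat.pos_of_ne_zero N.index_ne_zero_of_finite)
        ((Subgroup.one_lt_card_iff_ne_bot _).2 hbot)
    have hcop' := Nat.Coprime.coprime_dvd_right hidx hcop
    have hpre : ∀ H : Subgroup (G ⧸ N), H ≠ ⊤ → Inv (quot N hNi) H →
        p ∣ Nat.card (H.comap (QuotientGroup.mk' N)) → Group.IsNilpotent H := by
      intro H hH hHi hpd
      have h4 : H.comap (QuotientGroup.mk' N) ≠ ⊤ := by
        intro h5
        apply hH
        rw [← Subgroup.map_comap_eq_self_of_surjective (QuotientGroup.mk'_surjective N) H, h5,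
          Subgroup.map_top_of_surjective _ (QuotientGroup.mk'_surjective N)]
      have h5 := h _ h4 (Inv.comap (N := N) (h := hNi) hHi) hpd
      obtain ⟨f, hf⟩ := dvd_comap N H
      exact Group.nilpotent_of_surjective f hf
    have h3 : Group.IsSolvable (G ⧸ N) := by
      by_cases hpq : p ∣ Nat.card (G ⧸ N)
      · refine ih _ hlt (G ⧸ N) (quot N hNi) rfl hcop' hpq (fun H hH hHi hpd => hpre H hH hHi ?_)
        obtain ⟨f, hf⟩ := dvd_comap N H
        exact hpd.trans (Subgroup.card_dvd_of_surjective f hf)
      · have hpN : p ∣ Nat.card N := by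
          have h1 := N.card_mul_index
          rw [← h1] at hpG
          rcases (Nat.Prime.dvd_mul hp.out).1 hpG with h2 | h2
          · exact h2
          · rw [Subgroup.index_eq_card] at h2
            exact absurd h2 hpq
        refine solvable_of_forall_nilpotent hFT hFT' (quot N hNi) hcop' (fun H hH hHi => hpre H hH hHi ?_)
        refine hpN.trans (Subgroup.card_dvd_of_le ?_)
        intro x hx
        rw [mem_comap, show QuotientGroup.mk' N x = 1 from (QuotientGroup.eq_one_iff x).2 hx]
        exact one_mem _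
    exact Group.isSolvable_of_ker_le_range N.subtype (QuotientGroup.mk' N) (by simp)
  have hp_sol : ∀ (q : ℕ) [Fact q.Prime] (P : Subgroup G), IsPGroup q P → Group.IsSolvable P := by
    intro q _ P hP
    have := hP.isNilpotent
    infer_instance
  have hZ : ∀ (q : ℕ) [Fact q.Prime] (P : Subgroup G), IsPGroup q P → P ≠ ⊥ → Inv φ P →
      normalizer (Cfsg.centerThompsonAOf P : Set G) ≠ ⊤ := by
    intro q _ P hPp hPne hPinv htop
    have hZinv : Inv φ (Cfsg.centerThompsonAOf P) := Inv.zj hPinv
    have hZne : Cfsg.centerThompsonAOf P ≠ ⊥ := by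
      rw [centerThompsonAOf_eq]; exact ZJLocal.ZJ_ne_bot hPp hPne
    have h1 := (fam_ab (p := q)).ZJ_comm P
    rw [← centerThompsonAOf_eq] at h1
    exact hZne (hex _ (normalizer_eq_top_iff.1 htop) hZinv (solvable_of_comm _ h1))
  have hle : ∀ (q : ℕ) [Fact q.Prime] (P : Subgroup G), P ≤ normalizer (Cfsg.centerThompsonAOf P : Set G) := by
    intro q _ P
    rw [centerThompsonAOf_eq]
    exact le_normalizer.trans ((fam_ab (p := q)).normalizer_le P)
  by_cases hp2 : p = 2
  · subst hp2
    have hnorm : ∀ P : Sylow 2 G, (P : Subgroup G).Normal := by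
      apply Cfsg.Agent.S2756.result.1.2
      intro q _ hq2 hqd T P
      apply two_normal
      obtain ⟨T0, hTp, hTi, hTinv⟩ := ActSemi.exists_invariant_sylow φ hcop (Or.inl hA) q
      obtain ⟨g, hg⟩ := MulAction.exists_smul_eq G (hTp.toSylow hTi) T
      have hTT : (T : Subgroup G) = T0.map (MulAut.conj g).toMonoidHom := by
        rw [← hg]; rfl
      have hT0 : T0 ≠ ⊥ := by
        intro h0
        apply hTi
        rw [h0, Subgroup.index_bot]; exact hqd
      have hM := hZ q T0 hTp hT0 hTinv
      have hMi : Inv φ (normalizer (Cfsg.centerThompsonAOf T0 : Set G)) := (Inv.zj hTinv).normalizer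
      have e1 : normalizer (Cfsg.centerThompsonAOf (T : Subgroup G) : Set G) =
          (normalizer (Cfsg.centerThompsonAOf T0 : Set G)).map (MulAut.conj g).toMonoidHom := by
        rw [map_equiv_normalizer_eq, hTT, centerThompsonAOf_eq, centerThompsonAOf_eq,
          (fam_ab (p := 2)).ZJ_map (MulAut.conj g) T0]
      rw [e1]
      let e : ↥(normalizer (Cfsg.centerThompsonAOf T0 : Set G)) ≃*
          ↥((normalizer (Cfsg.centerThompsonAOf T0 : Set G)).map (MulAut.conj g).toMonoidHom) :=
        (normalizer (Cfsg.centerThompsonAOf T0 : Set G)).equivMapOfInjective _ (MulAut.conj g).injective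
      by_cases h2 : 2 ∣ Nat.card ↥(normalizer (Cfsg.centerThompsonAOf T0 : Set G))
      · left
        have h3 := h _ hM hMi h2
        exact Group.nilpotent_of_surjective e.toMonoidHom e.surjective
      · right
        rwa [← Nat.card_congr e.toEquiv]
    obtain ⟨P⟩ : Nonempty (Sylow 2 G) := inferInstance
    have hPc : (P : Subgroup G).Characteristic := Sylow.characteristic_of_normal P (hnorm P)
    exact P.ne_bot_of_dvd_card hpG (hex _ (hnorm P) (inv_of_characteristic _) (hp_sol 2 _ P.isPGroup'))
  · obtain ⟨P, hPp, hPi, hPinv⟩ := ActSemi.exists_invariant_sylow φ hcop (Or.inl hA) p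
    let S : Sylow p G := hPp.toSylow hPi
    have hPne : P ≠ ⊥ := by
      intro h0
      apply hPi
      rw [h0, Subgroup.index_bot]; exact hpG
    have hpP : p ∣ Nat.card P := by
      obtain ⟨k, hk⟩ := IsPGroup.iff_card.1 hPp
      have h2 : 1 < Nat.card P := (Subgroup.one_lt_card_iff_ne_bot _).2 hPne
      have hk0 : k ≠ 0 := by
        rintro rfl
        rw [hk, pow_zero] at h2
        omega
      rw [hk]
      exact dvd_pow_self p hk0
    have hNnil := h _ (hZ p P hPp hPne hPinv) ((Inv.zj hPinv).normalizer)
      (hpP.trans (Subgroup.card_dvd_of_le (hle p P)))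
    have hcomp : Cfsg.HasNormalPComplement p G :=
      Cfsg.Agent.S0659.result hp2 S (hasNormalPComplement_of_isNilpotent hNnil p)
    obtain ⟨Q, N, hN, hNc⟩ := hcomp
    -- the complement has order prime to `p`, and index a power of `p`
    have hNcard : ¬ p ∣ Nat.card N := by
      intro hd
      have h1 : Nat.card (Q : Subgroup G) * Nat.card N = Nat.card G := by rw [mul_comm]; exact hNc.card_mul_card
      have h2 := (Q : Subgroup G).card_mul_index
      have h3 : Q.index = Nat.card N := by
        apply Nat.eq_of_mul_eq_mul_left (Nat.card_pos (α := (Q : Subgroup G)))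
        rw [h2, h1]
      exact Q.not_dvd_index (h3 ▸ hd)
    have hNidx : ∃ k, N.index = p ^ k := by
      obtain ⟨k, hk⟩ := IsPGroup.iff_card.1 Q.isPGroup'
      refine ⟨k, ?_⟩
      have h1 : Nat.card (Q : Subgroup G) * Nat.card N = Nat.card G := by rw [mul_comm]; exact hNc.card_mul_card
      have h2 := N.card_mul_index
      rw [← hk]
      apply Nat.eq_of_mul_eq_mul_left (Nat.card_pos (α := N))
      rw [h2, ← h1, mul_comm]
    -- for every prime there is a Sylow subgroup normalizing P
    have hPnormal : P.Normal := by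
      rw [← Subgroup.normalizer_eq_top_iff]
      apply eq_top_of_exists_sylow_le
      intro r hr
      by_cases hrp : r = p
      · subst hrp
        exact ⟨S, le_normalizer⟩
      obtain ⟨R0, hRp, hRi, hRinv⟩ := ActSemi.exists_invariant_sylow φ hcop (Or.inl hA) r
      let R : Sylow r G := hRp.toSylow hRi
      have hRR : (R : Subgroup G) = R0 := rfl
      by_cases hR0 : R0 = ⊥
      · exact ⟨R, by rw [hRR, hR0]; exact bot_le⟩
      have hRN : (R : Subgroup G) ≤ N := by
        intro x hx
        obtain ⟨k, hk⟩ := hNidx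
        have hx' : x ∈ R0 := hx
        obtain ⟨j, hj⟩ := IsPGroup.iff_orderOf.1 hRp ⟨x, hx'⟩
        rw [Subgroup.orderOf_mk] at hj
        rw [← QuotientGroup.eq_one_iff, ← orderOf_eq_one_iff]
        have c1 : (r ^ j).Coprime (p ^ k) := Nat.Coprime.pow _ _ ((Nat.coprime_primes hr.out hp.out).2 hrp)
        have c2 : orderOf (x : G ⧸ N) ∣ r ^ j := by
          rw [← hj]
          exact orderOf_map_dvd (QuotientGroup.mk' N) x
        have c3 : orderOf (x : G ⧸ N) ∣ p ^ k := by
          rw [← hk, Subgroup.index_eq_card]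
          exact orderOf_dvd_natCard _
        exact Nat.eq_one_of_dvd_one (c1 ▸ Nat.dvd_gcd c2 c3)
      -- the normalizer of R
      have hMtop : normalizer (R0 : Set G) ≠ ⊤ := by
        intro htop
        exact hR0 (hex _ (normalizer_eq_top_iff.1 htop) hRinv (hp_sol r _ hRp))
      have hfr : normalizer (R0 : Set G) ⊔ N = ⊤ := Sylow.normalizer_sup_eq_top' R hRN
      have hMidx : ¬ p ∣ (normalizer (R0 : Set G)).index := by
        intro hd
        apply hNcard
        refine hd.trans ?_
        obtain ⟨M, hM⟩ : ∃ M : Subgroup G, M = normalizer (R0 : Set G) := ⟨_, rfl⟩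
        rw [← hM] at hfr ⊢
        have e0 : N.relIndex M = N.index := by
          rw [← Subgroup.relIndex_sup_right, hfr, Subgroup.relIndex_top_right]
        have e1 : Nat.card (N.subgroupOf M) * N.relIndex M = Nat.card M := (N.subgroupOf M).card_mul_index
        have e2 := M.card_mul_index
        have e3 := N.card_mul_index
        rw [e0] at e1
        refine ⟨Nat.card (N.subgroupOf M), ?_⟩
        apply Nat.eq_of_mul_eq_mul_right (Nat.pos_of_ne_zero N.index_ne_zero_of_finite)
        rw [e3, ← e2, ← e1]
        ring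
      obtain ⟨P2⟩ : Nonempty (Sylow p ↥(normalizer (R0 : Set G))) := inferInstance
      have hP1 : IsPGroup p ((P2 : Subgroup ↥(normalizer (R0 : Set G))).map (normalizer (R0 : Set G)).subtype) :=
        P2.isPGroup'.map _
      have hP1i : ¬ p ∣ ((P2 : Subgroup ↥(normalizer (R0 : Set G))).map (normalizer (R0 : Set G)).subtype).index := by
        rw [Subgroup.index_map_subtype]
        intro hd
        rcases (Nat.Prime.dvd_mul hp.out).1 hd with h2 | h2
        · exact P2.not_dvd_index h2
        · exact hMidx h2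
      let P1 : Sylow p G := hP1.toSylow hP1i
      have hP1M : (P1 : Subgroup G) ≤ normalizer (R0 : Set G) := by
        rintro _ ⟨y, -, rfl⟩
        exact y.2
      have hpM : p ∣ Nat.card ↥(normalizer (R0 : Set G)) :=
        (P1.dvd_card_of_dvd_card hpG).trans (Subgroup.card_dvd_of_le hP1M)
      have hRinv' : Inv φ R0 := hRinv
      have hMnil := h _ hMtop hRinv'.normalizer hpM
      have hcent : (R : Subgroup G) ≤ centralizer ((P1 : Subgroup G) : Set G) := by
        intro x hx
        rw [mem_centralizer_iff]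
        intro y hy
        have h1 := H23Nilp.commute_of_coprime_orderOf (G := ↥(normalizer (R0 : Set G))) ⟨y, hP1M hy⟩
          ⟨x, le_normalizer hx⟩ (by
          rw [Subgroup.orderOf_mk, Subgroup.orderOf_mk]
          obtain ⟨i, hi⟩ := IsPGroup.iff_orderOf.1 P1.isPGroup' ⟨y, hy⟩
          have hx' : x ∈ R0 := hx
          obtain ⟨j, hj⟩ := IsPGroup.iff_orderOf.1 hRp ⟨x, hx'⟩
          rw [Subgroup.orderOf_mk] at hi hj
          rw [hi, hj]
          exact Nat.Coprime.pow _ _ ((Nat.coprime_primes hp.out hr.out).2 (Ne.symm hrp)))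
        exact congrArg Subtype.val h1
      obtain ⟨g, hg⟩ := MulAction.exists_smul_eq G P1 S
      refine ⟨g • R, ?_⟩
      have h1 : P = (P1 : Subgroup G).map (MulAut.conj g).toMonoidHom := by
        have : (S : Subgroup G) = (P1 : Subgroup G).map (MulAut.conj g).toMonoidHom := by
          rw [← hg]; rfl
        exact this
      have h2 : ((g • R : Sylow r G) : Subgroup G) = (R : Subgroup G).map (MulAut.conj g).toMonoidHom := rfl
      rw [h2, h1, ← map_equiv_normalizer_eq]
      exact Subgroup.map_mono (hcent.trans (Subgroup.centralizer_le_normalizer _))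
    exact hPne (hex P hPnormal hPinv (hp_sol p _ hPp))

theorem main (hFT : FTHall.FT.{u}) (hFT' : FTHall.FT.{v}) {A : Type v} [Group A] [Finite A]
    {G : Type u} [Group G] [Finite G] (φ : A →* MulAut G) (hcop : (Nat.card A).Coprime (Nat.card G))
    (p : ℕ) (hp : p.Prime) (hpG : p ∣ Nat.card G)
    (h : ∀ H : Subgroup G, H ≠ ⊤ → Inv φ H → p ∣ Nat.card H → Group.IsNilpotent H) : Group.IsSolvable G := by
  have : Fact p.Prime := ⟨hp⟩
  by_cases hodd : Odd (Nat.card G)
  · exact hFT G hodd
  · rw [Nat.not_odd_iff_even] at hodd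
    have hA : Odd (Nat.card A) := by
      rw [← Nat.coprime_two_right]
      exact Nat.Coprime.coprime_dvd_right hodd.two_dvd hcop
    exact aux (hFT' A hA) hFT hFT' p _ G φ rfl hcop hpG h

end Cfsg.Agent.Lib.ActN41
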