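import Cfsg.Agent.Lib.HallPi

set_option autoImplicit false

/-!
Hall's theorems for π-separable groups and extensions of `C_π`-groups, assuming that groups of odd order are
solvable (hypothesis `FT`).
-/

namespace Cfsg.Agent.Lib.FTHall

open Subgroup Pointwise Cfsg.Agent.Lib.SubgroupTools Cfsg.Agent.Lib.HallPi

universe u

/-- the odd order theorem as a proposition -/
def FT : Prop := ∀ (G : Type u) [Group G] [Finite G], Odd (Nat.card G) → Group.IsSolvable G

variable {G : Type u} [Group G] [Finite G] {π : Set ℕ}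

theorem odd_of_piNum {n : ℕ} (hn : n ≠ 0) {σ : Set ℕ} (h2 : 2 ∉ σ) (h : PiNum σ n) : Odd n := by
  rw [← Nat.not_even_iff_odd]
  intro he
  exact h2 (h 2 Nat.prime_two he.two_dvd)

/-- dominance in π-separable groups -/
theorem exists_conj_le_of_sep (hFT : FT.{u}) (H K : Subgroup G) (hH : Cfsg.IsPiHall π H) (hK : PiNum π (Nat.card K))
    (hsep : ∀ (N : Subgroup G) [N.Normal], N ≠ ⊤ → ∃ M : Subgroup G, M.Normal ∧ N < M ∧
      (PiNum π (N.relIndex M) ∨ PiNum πᶜ (N.relIndex M))) :
    ∃ g : G, K ≤ MulAut.conj g • H := by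
  apply HallPi.exists_conj_le_of_sep H K hH hK
  intro N _ hN
  obtain ⟨M, hM, hNM, hc⟩ := hsep N hN
  refine ⟨M, hM, hNM, ?_⟩
  rcases hc with h | h
  · exact Or.inl h
  right
  refine ⟨h, ?_⟩
  by_cases h2 : 2 ∈ π
  · right
    apply hFT
    have h1 := Subgroup.relIndex_ker (QuotientGroup.mk' N) (K := M)
    rw [QuotientGroup.ker_mk'] at h1
    rw [← h1]
    refine odd_of_piNum ?_ (σ := πᶜ) (by simpa using h2) h
    rw [h1]; exact Nat.card_pos.ne'
  · left
    apply hFT
    exact odd_of_piNum Nat.card_pos.ne' h2 hK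

/-- from a normal series with π- and π'-factors -/
theorem sep_of_chain (n : ℕ) (C : Fin (n + 1) → Subgroup G) (h0 : C 0 = ⊥) (hlast : C (Fin.last n) = ⊤)
    (hn : ∀ i, (C i).Normal) (hle : ∀ i : Fin n, C i.castSucc ≤ C i.succ)
    (hf : ∀ i : Fin n, PiNum π ((C i.castSucc).relIndex (C i.succ)) ∨ PiNum πᶜ ((C i.castSucc).relIndex (C i.succ))) :
    ∀ (N : Subgroup G) [N.Normal], N ≠ ⊤ → ∃ M : Subgroup G, M.Normal ∧ N < M ∧
      (PiNum π (N.relIndex M) ∨ PiNum πᶜ (N.relIndex M)) := by
  intro N _ hN
  by_contra hcon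
  push Not at hcon
  apply hN
  have key : ∀ i : Fin (n + 1), C i ≤ N := by
    intro i
    induction i using Fin.induction with
    | zero => rw [h0]; exact bot_le
    | succ i ih =>
      by_contra hnot
      have := hn i.succ
      have hlt : N < N ⊔ C i.succ := by
        refine lt_of_le_of_ne le_sup_left ?_
        intro h
        apply hnot
        rw [h]; exact le_sup_right
      have h1 := hcon (N ⊔ C i.succ) inferInstance hlt
      have h2 : N.relIndex (N ⊔ C i.succ) = N.relIndex (C i.succ) := Subgroup.relIndex_sup_left _ _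
      have h3 : N.relIndex (C i.succ) ∣ (C i.castSucc).relIndex (C i.succ) := Subgroup.relIndex_dvd_of_le_left _ ih
      rw [h2] at h1
      rcases hf i with h4 | h4
      · exact h1.1 (h4.of_dvd h3)
      · exact h1.2 (h4.of_dvd h3)
  have h1 := key (Fin.last n)
  rw [hlast] at h1
  exact top_le_iff.1 h1

theorem exists_conj_eq (hFT : FT.{u})
    (hsep : ∀ (N : Subgroup G) [N.Normal], N ≠ ⊤ → ∃ M : Subgroup G, M.Normal ∧ N < M ∧
      (PiNum π (N.relIndex M) ∨ PiNum πᶜ (N.relIndex M))) (K L : Subgroup G) (hK : Cfsg.IsPiHall π K)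
    (hL : Cfsg.IsPiHall π L) : ∃ g : G, L = MulAut.conj g • K := by
  obtain ⟨g, hg⟩ := exists_conj_le_of_sep hFT K L hK (isPiHall_iff.1 hL).1 hsep
  exact ⟨g, eq_of_isPiHall_le_isPiHall hL (isPiHall_conj_smul g hK) hg⟩

theorem exists_ge (hFT : FT.{u})
    (hsep : ∀ (N : Subgroup G) [N.Normal], N ≠ ⊤ → ∃ M : Subgroup G, M.Normal ∧ N < M ∧
      (PiNum π (N.relIndex M) ∨ PiNum πᶜ (N.relIndex M))) (U : Subgroup G) (hU : PiNum π (Nat.card U)) :
    ∃ K : Subgroup G, Cfsg.IsPiHall π K ∧ U ≤ K := by
  obtain ⟨H, hH⟩ := exists_isPiHall_of_sep hsep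
  obtain ⟨g, hg⟩ := exists_conj_le_of_sep hFT H U hH hU hsep
  exact ⟨_, isPiHall_conj_smul g hH, hg⟩

/-- a chain of length three -/
theorem sep_of_three (A B : Subgroup G) [hA : A.Normal] [hB : B.Normal] (hAB : A ≤ B)
    (h1 : PiNum π (Nat.card A)) (h2 : PiNum πᶜ (A.relIndex B)) (h3 : PiNum π B.index) :
    ∀ (N : Subgroup G) [N.Normal], N ≠ ⊤ → ∃ M : Subgroup G, M.Normal ∧ N < M ∧
      (PiNum π (N.relIndex M) ∨ PiNum πᶜ (N.relIndex M)) := by
  apply sep_of_chain 3 ![⊥, A, B, ⊤] rfl rfl
  · intro i
    fin_cases i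
    · exact (inferInstance : (⊥ : Subgroup G).Normal)
    · exact hA
    · exact hB
    · exact (inferInstance : (⊤ : Subgroup G).Normal)
  · intro i
    fin_cases i
    · exact bot_le
    · exact hAB
    · exact le_top
  · intro i
    fin_cases i
    · left
      show PiNum π ((⊥ : Subgroup G).relIndex A)
      rwa [Subgroup.relIndex_bot_left]
    · right
      exact h2
    · left
      show PiNum π (B.relIndex (⊤ : Subgroup G))
      rwa [Subgroup.relIndex_top_right]

/-- Extension of `C_π`-groups. -/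
theorem isCPi_of_normal (hFT : FT.{u}) (A : Subgroup G) [hAn : A.Normal] (hA : Cfsg.IsCPiGroup π ↥A)
    (hQ : Cfsg.IsCPiGroup π (G ⧸ A)) : Cfsg.IsCPiGroup π G := by
  classical
  obtain ⟨⟨H0, hH0⟩, hAconj⟩ := hA
  obtain ⟨⟨Q, hQ0⟩, hQconj⟩ := hQ
  have hmapcard : ∀ H : Subgroup A, Nat.card (H.map A.subtype) = Nat.card H := fun H =>
    Nat.card_congr (H.equivMapOfInjective A.subtype A.subtype_injective).toEquiv.symm
  constructor
  · -- existence
    set H : Subgroup G := H0.map A.subtype with hH
    have hHA : H ≤ A := Subgroup.map_subtype_le _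
    have hHrel : H.relIndex A = H0.index := by
      show ((H0.map A.subtype).subgroupOf A).index = H0.index
      rw [Subgroup.subgroupOf, Subgroup.comap_map_eq_self_of_injective A.subtype_injective]
    -- Frattini
    have hfrat : A ⊔ normalizer (H : Set G) = ⊤ := by
      rw [eq_top_iff]
      intro g _
      have h1 : Cfsg.IsPiHall π (H0.map (MulAut.conjNormal g : A ≃* A).toMonoidHom) :=
        isPiHall_map _ (MulAut.conjNormal g : A ≃* A).surjective hH0
      obtain ⟨a, ha⟩ := hAconj H0 _ hH0 h1
      have h2 : ((a : G)⁻¹ * g) ∈ normalizer (H : Set G) := by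
        have h3 : MulAut.conj g • H = MulAut.conj (a : G) • H := by
          have h4 := congrArg (Subgroup.map A.subtype) ha
          rw [Subgroup.map_map, Subgroup.map_map] at h4
          rw [conj_smul_eq_map, conj_smul_eq_map, hH, Subgroup.map_map, Subgroup.map_map]
          have e1 : A.subtype.comp (MulAut.conjNormal g : A ≃* A).toMonoidHom =
              (MulAut.conj g).toMonoidHom.comp A.subtype := by
            ext x; rfl
          have e2 : A.subtype.comp (MulAut.conj a).toMonoidHom =
              (MulAut.conj (a : G)).toMonoidHom.comp A.subtype := by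
            ext x; rfl
          rw [e1, e2] at h4
          exact h4
        rw [mem_normalizer_iff_conj_smul, conj_smul_mul, h3, ← conj_smul_mul, inv_mul_cancel, conj_smul_one]
      have h3 : g = a * ((a : G)⁻¹ * g) := by group
      rw [h3]
      exact Subgroup.mul_mem _ (mem_sup_left a.2) (mem_sup_right h2)
    set L : Subgroup G := normalizer (H : Set G) ⊓ Q.comap (QuotientGroup.mk' A) with hL
    have hHL : H ≤ L := le_inf (Subgroup.le_normalizer) (hHA.trans (by
      intro x hx
      rw [mem_comap]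
      have : QuotientGroup.mk' A x = 1 := (QuotientGroup.eq_one_iff x).2 hx
      rw [this]; exact one_mem _))
    have hAQ : A ≤ Q.comap (QuotientGroup.mk' A) := by
      intro x hx
      rw [mem_comap]
      have : QuotientGroup.mk' A x = 1 := (QuotientGroup.eq_one_iff x).2 hx
      rw [this]; exact one_mem _
    have hAL : A ⊔ L = Q.comap (QuotientGroup.mk' A) := by
      apply le_antisymm (sup_le hAQ inf_le_right)
      intro y hy
      have h1 : y ∈ A ⊔ normalizer (H : Set G) := by rw [hfrat]; trivial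
      rw [Subgroup.mem_sup_of_normal_left] at h1
      obtain ⟨a, ha, b, hb, rfl⟩ := h1
      refine Subgroup.mul_mem _ (mem_sup_left ha) (mem_sup_right ⟨hb, ?_⟩)
      have := mul_mem (inv_mem (hAQ ha)) hy
      rwa [inv_mul_cancel_left] at this
    have hQidx : (Q.comap (QuotientGroup.mk' A)).index = Q.index :=
      Subgroup.index_comap_of_surjective Q (QuotientGroup.mk'_surjective A)
    have hLidx : PiNum πᶜ L.index := by
      rw [← Subgroup.relIndex_mul_index (le_sup_right : L ≤ A ⊔ L), ← relIndex_eq_relIndex_sup le_normalizer_of_normal,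
        hAL, hQidx]
      refine PiNum.mul ?_ (isPiHall_iff.1 hQ0).2
      refine PiNum.of_dvd ?_ (Subgroup.relIndex_dvd_of_le_left A hHL)
      rw [hHrel]; exact (isPiHall_iff.1 hH0).2
    -- inside L
    have hHnL : (H.subgroupOf L).Normal := (Subgroup.normal_subgroupOf_iff_le_normalizer hHL).2 inf_le_left
    have hAnL : (A.subgroupOf L).Normal := inferInstance
    have hsep := sep_of_three (π := π) (H.subgroupOf L) (A.subgroupOf L)
      (by intro x hx; exact hHA hx)
      (by rw [card_subgroupOf_of_le hHL, hH, hmapcard]; exact (isPiHall_iff.1 hH0).1)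
      (by
        rw [← Subgroup.inf_subgroupOf_right A L, Subgroup.relIndex_subgroupOf inf_le_right]
        refine PiNum.of_dvd (n := H.relIndex A) ?_ ⟨(A ⊓ L).relIndex A, ?_⟩
        · rw [hHrel]; exact (isPiHall_iff.1 hH0).2
        · rw [Subgroup.relIndex_mul_relIndex _ _ _ (le_inf hHA hHL) inf_le_left])
      (by
        show PiNum π (A.relIndex L)
        have h1 := Subgroup.relIndex_ker (QuotientGroup.mk' A) (K := L)
        rw [QuotientGroup.ker_mk'] at h1
        rw [h1]
        refine PiNum.of_dvd (isPiHall_iff.1 hQ0).1 (Subgroup.card_dvd_of_le ?_)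
        rw [Subgroup.map_le_iff_le_comap]; exact inf_le_right)
    obtain ⟨K, hK⟩ := exists_isPiHall_of_sep hsep
    rw [isPiHall_iff] at hK
    refine ⟨K.map L.subtype, isPiHall_iff.2 ⟨?_, ?_⟩⟩
    · rw [← Nat.card_congr (K.equivMapOfInjective L.subtype L.subtype_injective).toEquiv]
      exact hK.1
    · rw [Subgroup.index_map_subtype]
      exact hK.2.mul hLidx
  · -- conjugacy
    intro K1 K2 hK1 hK2
    have hmap : ∀ K : Subgroup G, A ⊔ K = (K.map (QuotientGroup.mk' A)).comap (QuotientGroup.mk' A) := by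
      intro K
      rw [Subgroup.comap_map_eq, QuotientGroup.ker_mk', sup_comm]
    obtain ⟨q, hq⟩ := hQconj _ _ (isPiHall_map_mk' (N := A) hK1) (isPiHall_map_mk' (N := A) hK2)
    obtain ⟨g0, rfl⟩ := QuotientGroup.mk_surjective q
    have hK1' : Cfsg.IsPiHall π (MulAut.conj g0 • K1) := isPiHall_conj_smul g0 hK1
    have hsup1 : A ⊔ (MulAut.conj g0 • K1) = A ⊔ K2 := by
      rw [hmap, hmap, hq, conj_smul_eq_map, Subgroup.map_map, Subgroup.map_map]
      congr 1
    generalize hKK : MulAut.conj g0 • K1 = K at *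
    -- the intersections with A
    have hHall : ∀ K : Subgroup G, Cfsg.IsPiHall π K → Cfsg.IsPiHall π (K.subgroupOf A) := by
      intro K hK
      have h1 := isPiHallOf_inf_normal (N := A) hK
      rw [isPiHallOf_iff_subgroupOf inf_le_right, Subgroup.inf_subgroupOf_right] at h1
      exact h1
    obtain ⟨a, ha⟩ := hAconj _ _ (hHall K hK1') (hHall K2 hK2)
    have hK1'' : Cfsg.IsPiHall π (MulAut.conj (a : G) • K) := isPiHall_conj_smul _ hK1'
    have hinf : (MulAut.conj (a : G) • K) ⊓ A = K2 ⊓ A := by
      have h1 := congrArg (Subgroup.map A.subtype) ha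
      rw [Subgroup.subgroupOf_map_subtype] at h1
      have h2 : Subgroup.map A.subtype (Subgroup.map (MulAut.conj a).toMonoidHom (K.subgroupOf A)) =
          MulAut.conj (a : G) • (K ⊓ A) := by
        rw [← conj_smul_eq_map, conj_smul_map_subtype, Subgroup.subgroupOf_map_subtype]
      rw [h2, conj_smul_inf, conj_smul_normal _ A] at h1
      exact h1.symm
    have hsup2 : A ⊔ (MulAut.conj (a : G) • K) = A ⊔ K2 := by
      have h1 : MulAut.conj (a : G) • (A ⊔ K) = A ⊔ K := conj_smul_self_of_mem (mem_sup_left a.2)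
      rw [conj_smul_sup, conj_smul_normal _ A] at h1
      rw [h1, hsup1]
    generalize hLL : MulAut.conj (a : G) • K = L at *
    -- in the group generated by L and K2
    set X : Subgroup G := L ⊔ K2 with hX
    have hLX : L ≤ X := le_sup_left
    have hK2X : K2 ≤ X := le_sup_right
    set H : Subgroup G := K2 ⊓ A with hH
    have hHX : H ≤ X := inf_le_left.trans hK2X
    have hHA : H ≤ A := inf_le_right
    have hHrel : PiNum πᶜ (H.relIndex A) := by
      have h1 := isPiHallOf_inf_normal (N := A) hK2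
      rw [isPiHallOf_iff] at h1
      exact h1.2.2
    have hHnX : (H.subgroupOf X).Normal := by
      rw [Subgroup.normal_subgroupOf_iff_le_normalizer hHX]
      have key : ∀ K : Subgroup G, K ≤ normalizer ((K ⊓ A : Subgroup G) : Set G) := by
        intro K x hx
        rw [mem_normalizer_iff_conj_smul, conj_smul_inf, conj_smul_normal _ A, conj_smul_self_of_mem hx]
      refine sup_le ?_ (key K2)
      rw [← hinf]; exact key L
    have hAnX : (A.subgroupOf X).Normal := inferInstance
    have hsep := sep_of_three (π := π) (H.subgroupOf X) (A.subgroupOf X)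
      (by intro x hx; exact hHA hx)
      (by
        rw [card_subgroupOf_of_le hHX]
        exact (isPiHall_iff.1 hK2).1.of_dvd (Subgroup.card_dvd_of_le inf_le_left))
      (by
        rw [← Subgroup.inf_subgroupOf_right A X, Subgroup.relIndex_subgroupOf inf_le_right]
        refine PiNum.of_dvd (n := H.relIndex A) hHrel ⟨(A ⊓ X).relIndex A, ?_⟩
        rw [Subgroup.relIndex_mul_relIndex _ _ _ (le_inf hHA hHX) inf_le_left])
      (by
        show PiNum π (A.relIndex X)
        have h1 := Subgroup.relIndex_ker (QuotientGroup.mk' A) (K := X)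
        rw [QuotientGroup.ker_mk'] at h1
        rw [h1]
        refine PiNum.of_dvd (isPiHall_iff.1 (isPiHall_map_mk' (N := A) hK2)).1 (Subgroup.card_dvd_of_le ?_)
        rw [Subgroup.map_le_iff_le_comap, ← hmap]
        refine sup_le ?_ le_sup_right
        rw [← hsup2]; exact le_sup_right)
    have hHallX : ∀ K : Subgroup G, K ≤ X → Cfsg.IsPiHall π K → Cfsg.IsPiHall π (K.subgroupOf X) := by
      intro K hKX hK
      rw [isPiHall_iff] at hK ⊢
      refine ⟨by rw [card_subgroupOf_of_le hKX]; exact hK.1, ?_⟩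
      exact hK.2.of_dvd (Subgroup.relIndex_dvd_index_of_le hKX)
    obtain ⟨x, hx⟩ := exists_conj_eq hFT hsep _ _ (hHallX L hLX hK1'') (hHallX K2 hK2X hK2)
    refine ⟨(x : G) * a * g0, ?_⟩
    have h1 := congrArg (Subgroup.map X.subtype) hx
    rw [conj_smul_map_subtype, Subgroup.subgroupOf_map_subtype, Subgroup.subgroupOf_map_subtype,
      inf_eq_left.2 hK2X, inf_eq_left.2 hLX] at h1
    rw [← conj_smul_eq_map, mul_assoc, conj_smul_mul, conj_smul_mul, hKK, hLL]
    exact h1

end Cfsg.Agent.Lib.FTHall
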