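import Cfsg.Agent.Lib.PStableOf
import Cfsg.Agent.Lib.PConstraint

/-! `IsPStable p G` implies that every normal `p`-subgroup of `G / O_{p'}(G)` is stable; consequences for `ZJ`. -/

set_option autoImplicit false
set_option linter.unusedSectionVars false

namespace Cfsg.Agent.Lib.PStableQuot

open Subgroup Cfsg.Agent.Lib.QuadSection Cfsg.Agent.Lib.PStabPair Cfsg.Agent.Lib.ThompsonJ
  Cfsg.Agent.Lib.PStab Cfsg.Agent.Lib.PStabInvolve Cfsg.Agent.Lib.FactorizeQuot Cfsg.Agent.Lib.RelSylow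
open scoped commutatorElement

universe u
variable {G : Type u} [Group G] [Finite G] {p : ℕ} [hp : Fact p.Prime]

/-- a quadratic element is in `Dcore` as soon as all quadratic `p`-elements are. -/
theorem isPStableOn_of_pElem {V : Subgroup G} [V.Normal] (hV : IsPGroup p V)
    (h : ∀ a : G, QdFree.IsPElem p a → ⁅⁅V, zpowers a⁆, zpowers a⁆ = ⊥ → a ∈ Dcore p (centralizer (V : Set G))) :
    Cfsg.IsPStableOn p V := by
  rw [isPStableOn_iff]
  intro x hx
  set D := Dcore p (centralizer (V : Set G)) with hD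
  have h0 : orderOf x ≠ 0 := (orderOf_pos x).ne'
  set s := (orderOf x).factorization p with hs
  set t := orderOf x / p ^ s with ht
  have hst : p ^ s * t = orderOf x := Nat.ordProj_mul_ordCompl_eq_self _ _
  have hcop : Nat.Coprime (p ^ s) t := Nat.Coprime.pow_left _ (Nat.coprime_ordCompl hp.out h0)
  -- the coprime part
  have h1 : x ^ (p ^ s) ∈ D := by
    apply le_Dcore
    have hle : zpowers (x ^ (p ^ s)) ≤ zpowers x := by
      rw [zpowers_le]; exact pow_mem (mem_zpowers x) _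
    have h2 : ⁅⁅V, zpowers (x ^ (p ^ s))⁆, zpowers (x ^ (p ^ s))⁆ = ⊥ := by
      rw [eq_bot_iff, ← hx]
      exact commutator_mono (commutator_mono le_rfl hle) hle
    have h3 : ⁅V, zpowers (x ^ (p ^ s))⁆ = ⊥ := by
      apply CoprimeAction2.commutator_eq_bot_of_commutator_commutator _ _ _ h2
      · rw [normalizer_eq_top]; exact le_top
      · obtain ⟨k, hk⟩ := IsPGroup.iff_card.1 hV
        rw [hk, Nat.card_zpowers]
        exact Nat.Coprime.pow_right _ (coprime_orderOf_pow x)
      · right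
        have : Group.IsNilpotent V := hV.isNilpotent
        infer_instance
    rw [commutator_comm, commutator_eq_bot_iff_le_centralizer] at h3
    exact h3 (mem_zpowers _)
  have h2 : x ^ t ∈ D := by
    apply h
    · refine ⟨s, ?_⟩
      rw [← pow_mul, mul_comm, hst, pow_orderOf_eq_one]
    · have hle : zpowers (x ^ t) ≤ zpowers x := by
        rw [zpowers_le]; exact pow_mem (mem_zpowers x) _
      rw [eq_bot_iff, ← hx]
      exact commutator_mono (commutator_mono le_rfl hle) hle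
  have h3 : (1 : ℤ) = (p ^ s : ℕ) * Nat.gcdA (p ^ s) t + t * Nat.gcdB (p ^ s) t := by
    rw [← Nat.gcd_eq_gcd_ab, hcop]; rfl
  have h4 : x = (x ^ (p ^ s)) ^ (Nat.gcdA (p ^ s) t) * (x ^ t) ^ (Nat.gcdB (p ^ s) t) := by
    rw [← zpow_natCast, ← zpow_natCast, ← zpow_mul, ← zpow_mul, ← zpow_add, ← h3, zpow_one]
  rw [h4]
  exact mul_mem (zpow_mem h1 _) (zpow_mem h2 _)

theorem isPStableOn_quotient (hs : Cfsg.IsPStable p G) (V : Subgroup (G ⧸ Cfsg.pPrimeCore p G)) [hVn : V.Normal]
    (hV : IsPGroup p V) : Cfsg.IsPStableOn p V := by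
  classical
  set N := Cfsg.pPrimeCore p G with hN
  have hNd : ¬ p ∣ Nat.card N := PConstraint.not_dvd_card_pPrimeCore
  have hsurj := QuotientGroup.mk'_surjective N
  apply isPStableOn_of_pElem hV
  intro a' ha' hq
  -- a Sylow subgroup of the preimage
  obtain ⟨U, hUp, hUV⟩ := QdFree.exists_lift_pGroup (QuotientGroup.mk' N) hsurj V hV
  set NU := normalizer (U : Set G) with hNU
  have hmn : NU.map (QuotientGroup.mk' N) = ⊤ := by
    rw [PConstraint.map_normalizer_eq hNd hUp, hUV, normalizer_eq_top]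
  have hsn : Function.Surjective ((QuotientGroup.mk' N).comp NU.subtype) := by
    rw [← MonoidHom.range_eq_top, MonoidHom.range_comp, range_subtype, hmn]
  obtain ⟨a, haa, hap⟩ := QdFree.exists_lift_pElem _ hsn ha'
  have haa' : QuotientGroup.mk' N (a : G) = a' := haa
  obtain ⟨k, hk⟩ := hap
  set A : Subgroup G := zpowers (a : G) with hA
  have hAp : IsPGroup p A := by
    rw [IsPGroup.iff_orderOf]
    rintro ⟨g, n, rfl⟩
    have h1 : ((⟨(a : G) ^ n, n, rfl⟩ : A)) ^ p ^ k = 1 := by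
      apply Subtype.ext
      show ((a : G) ^ n) ^ p ^ k = 1
      have h2 : (a : G) ^ p ^ k = 1 := congrArg Subtype.val hk
      rw [← zpow_natCast, ← zpow_mul, mul_comm, zpow_mul, zpow_natCast, h2, one_zpow]
    obtain ⟨j, -, hj⟩ := (Nat.dvd_prime_pow hp.out).1 (orderOf_dvd_of_pow_eq_one h1)
    exact ⟨j, hj⟩
  have haU : A ≤ NU := by rw [hA, zpowers_le]; exact a.2
  have hmapA : A.map (QuotientGroup.mk' N) = zpowers a' := by
    rw [hA, MonoidHom.map_zpowers, haa']
  have hUN : U ⊓ N = ⊥ := by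
    have h1 : IsPGroup p (U ⊓ N : Subgroup G) := hUp.to_le inf_le_left
    obtain ⟨m, hm⟩ := IsPGroup.iff_card.1 h1
    rw [← card_eq_one, hm]
    rcases Nat.eq_zero_or_pos m with h | h
    · rw [h, pow_zero]
    · exfalso
      apply hNd
      exact ((dvd_pow_self p h.ne').trans (by rw [← hm])).trans (card_dvd_of_le (inf_le_right : U ⊓ N ≤ N))
  have hquad : ⁅⁅U, A⁆, A⁆ = ⊥ := by
    rw [eq_bot_iff, ← hUN]
    have h1 : ⁅U, A⁆ ≤ U := le_normalizer_iff_commutator_le_left.1 haU
    refine le_inf ((commutator_mono h1 le_rfl).trans h1) ?_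
    intro x hx
    have h2 := mem_map_of_mem (QuotientGroup.mk' N) hx
    rw [map_commutator, map_commutator, hUV, hmapA, hq, mem_bot] at h2
    exact (QuotientGroup.eq_one_iff x).1 h2
  have hNV : N ⊔ U = V.comap (QuotientGroup.mk' N) := by
    rw [← hUV, comap_map_eq, QuotientGroup.ker_mk', sup_comm]
  have hUle : U ≤ Cfsg.pPrimePCore p G := by
    have h1 : V ≤ Cfsg.pCore p (G ⧸ N) := le_pCore hVn hV
    intro x hx
    show QuotientGroup.mk' N x ∈ Cfsg.pCore p (G ⧸ N)
    apply h1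
    rw [← hUV]
    exact mem_map_of_mem _ hx
  have hst := hs.2.2 A U hAp hUp (fun a ha x hx => (mem_normalizer_iff.1 (haU ha) x).1 hx) hUle (by
    rw [hNV]; infer_instance) hquad
  -- the preimage of `O_p(N(U)/C(U))`
  set C := (centralizer (U : Set G)).subgroupOf NU with hC
  set M : Subgroup NU := (Cfsg.pCore p (NU ⧸ C)).comap (QuotientGroup.mk' C) with hM
  have hMn : M.Normal := inferInstance
  have haM : a ∈ M := by
    show QuotientGroup.mk' C a ∈ Cfsg.pCore p (NU ⧸ C)
    apply hst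
    exact mem_map_of_mem _ (by rw [mem_subgroupOf]; exact mem_zpowers _)
  have hD : (M.map ((QuotientGroup.mk' N).comp NU.subtype)).Normal := Normal.map hMn _ hsn
  apply le_Dcore_of_isPGroup (C := centralizer (V : Set (G ⧸ N))) hD _ (by
    rw [← haa]; exact mem_map_of_mem _ haM)
  rintro ⟨_, _, ⟨x, hx, rfl⟩, rfl⟩
  obtain ⟨j, hj⟩ := isPGroup_pCore (p := p) (⟨_, hx⟩ : Cfsg.pCore p (NU ⧸ C))
  refine ⟨j, ?_⟩
  have h1 : (QuotientGroup.mk' C x) ^ p ^ j = 1 := congrArg Subtype.val hj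
  rw [← map_pow] at h1
  have h2 : x ^ p ^ j ∈ C := (QuotientGroup.eq_one_iff _).1 h1
  have h3 : ((x ^ p ^ j : NU) : G) ∈ centralizer (U : Set G) := h2
  apply Subtype.ext
  show (QuotientGroup.mk' (centralizer (V : Set (G ⧸ N))) ((QuotientGroup.mk' N) (x : G))) ^ p ^ j = 1
  rw [← map_pow, ← map_pow]
  apply (QuotientGroup.eq_one_iff _).2
  rw [← hUV, mem_centralizer_iff]
  rintro _ ⟨y, hy, rfl⟩
  rw [← map_mul, ← map_mul]
  congr 1
  exact mem_centralizer_iff.1 h3 y hy

open Cfsg.Agent.Lib.ZJThm in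
/-- the abelian `ZJ` under a homomorphism injective on `S`. -/
theorem map_ZJ_ab {K : Type u} [Group K] [Finite K] (f : G →* K) (S : Subgroup G) (h : ∀ x ∈ S, f x = 1 → x = 1) :
    (ZJ (fun A => IsMulCommutative A) S).map f = ZJ (fun A => IsMulCommutative A) (S.map f) := by
  rw [ZJ_ab_eq, ZJ_ab_eq, map_center_of_injOn f (J (fun A : Subgroup G => IsMulCommutative A) S) (fun x hx => h x (J_le hx)), map_J_ab_of_injOn f S h]

open Cfsg.Agent.Lib.ZJThm in
theorem ZJ_isPGroup {S : Subgroup G} (hS : IsPGroup p S) : IsPGroup p (ZJ (fun A => IsMulCommutative A) S) :=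
  hS.to_le ((fam_ab (p := p)).ZJ_le_self S)

open Cfsg.Agent.Lib.ZJThm in
/-- Glauberman's ZJ-theorem for `p`-constrained `p`-stable groups. -/
theorem zj_sup (hp2 : p ≠ 2) (hc : Cfsg.IsPConstrained p G) (hs : Cfsg.IsPStable p G) {S : Subgroup G}
    (hS : IsSyl p S ⊤) :
    Cfsg.pPrimeCore p G ⊔ normalizer (ZJ (fun A => IsMulCommutative A) S : Set G) = ⊤ := by
  set N := Cfsg.pPrimeCore p G with hN
  have hNd : ¬ p ∣ Nat.card N := PConstraint.not_dvd_card_pPrimeCore
  have hS' : IsSyl p (S.map (QuotientGroup.mk' N)) ⊤ := by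
    have := hS.map (QuotientGroup.mk' N)
    rwa [map_top_of_surjective _ (QuotientGroup.mk'_surjective N)] at this
  have hinj : ∀ x ∈ S, QuotientGroup.mk' N x = 1 → x = 1 := by
    intro x hx h1
    have h2 : x ∈ N := (QuotientGroup.eq_one_iff x).1 h1
    have h3 : S ⊓ N = ⊥ := by
      have h1 : IsPGroup p (S ⊓ N : Subgroup G) := hS.2.1.to_le inf_le_left
      obtain ⟨m, hm⟩ := IsPGroup.iff_card.1 h1
      rw [← card_eq_one, hm]
      rcases Nat.eq_zero_or_pos m with h | h
      · rw [h, pow_zero]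
      · exfalso
        apply hNd
        exact ((dvd_pow_self p h.ne').trans (by rw [← hm])).trans (card_dvd_of_le (inf_le_right : S ⊓ N ≤ N))
    have h4 : x ∈ S ⊓ N := ⟨hx, h2⟩
    rw [h3] at h4
    exact mem_bot.1 h4
  have h1 := (fam_ab (p := p)).zj_normal hS' hp2 ((PConstraint.isPConstrained_iff p G).1 hc)
    (fun V _ hV => isPStableOn_quotient hs V hV)
  rw [← map_ZJ_ab _ S hinj] at h1
  have h2 := PConstraint.map_normalizer_eq (N := N) hNd (ZJ_isPGroup hS.2.1)
  rw [normalizer_eq_top_iff.2 h1] at h2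
  have h3 := congrArg (fun X => Subgroup.comap (QuotientGroup.mk' N) X) h2
  simp only [comap_map_eq, QuotientGroup.ker_mk', comap_top] at h3
  rw [sup_comm]; exact h3

end Cfsg.Agent.Lib.PStableQuot
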