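import Cfsg.Agent.Lib.LocalControl
import Cfsg.Agent.Lib.PStableQuot

/-! ZJ-theorem for local subgroups. -/

set_option autoImplicit false
set_option linter.unusedSectionVars false

namespace Cfsg.Agent.Lib.ZJLocal

open Subgroup Cfsg.Agent.Lib.RelSylow Cfsg.Agent.Lib.ThompsonJ Cfsg.Agent.Lib.ZJThm

universe u
variable {G : Type u} [Group G] [Finite G] {p : ℕ} [hp : Fact p.Prime]

theorem isSyl_subgroupOf {S H : Subgroup G} (hS : IsSyl p S H) : IsSyl p (S.subgroupOf H) (⊤ : Subgroup H) := by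
  obtain ⟨Q, -, hQ⟩ := hS.exists_sylow
  rw [← hQ]
  exact isSyl_top_iff Q

theorem map_subgroupOf {S H : Subgroup G} (h : S ≤ H) : (S.subgroupOf H).map H.subtype = S := by
  rw [subgroupOf_map_subtype, inf_of_le_left h]

theorem le_normalizer_of_normal_subgroup {H : Subgroup G} {X : Subgroup H} (hX : normalizer (X : Set H) = ⊤) :
    H ≤ normalizer ((X.map H.subtype : Subgroup G) : Set G) := by
  have hXn : X.Normal := normalizer_eq_top_iff.1 hX
  intro h hh
  have key : ∀ h ∈ H, ∀ x ∈ X.map H.subtype, h * x * h⁻¹ ∈ X.map H.subtype := by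
    rintro h hh _ ⟨x, hx, rfl⟩
    exact ⟨⟨h, hh⟩ * x * ⟨h, hh⟩⁻¹, hXn.conj_mem x hx _, rfl⟩
  rw [mem_normalizer_iff]
  intro x
  refine ⟨key h hh x, fun h1 => ?_⟩
  have h2 := key h⁻¹ (inv_mem hh) _ h1
  have h3 : h⁻¹ * (h * x * h⁻¹) * h⁻¹⁻¹ = x := by group
  rwa [h3] at h2

theorem ZJ_ne_bot {S : Subgroup G} (hS : IsPGroup p S) (h : S ≠ ⊥) :
    ZJ (fun A => IsMulCommutative A) S ≠ ⊥ := by
  intro h0
  apply h
  have h1 := centerThompsonAOf_eq S
  rw [h0] at h1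
  -- the centre of `S` lies in `ZJ`
  have hZ : S ⊓ centralizer (S : Set G) ≤ ZJ (fun A => IsMulCommutative A) S := by
    rw [ZJ_ab_eq]
    intro x hx
    refine ⟨?_, ?_⟩
    · obtain ⟨A, hA⟩ := (fam_ab (p := p)).nonempty S
      exact le_J hA (mem_of_centralizes_ab hA hx.1 (centralizer_le hA.1 hx.2))
    · exact centralizer_le (J_le) hx.2
  rw [h0, le_bot_iff] at hZ
  by_contra hne
  have : Nontrivial S := (nontrivial_iff_ne_bot S).2 hne
  have hfin : Finite S := inferInstance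
  have hc := hS.center_nontrivial
  obtain ⟨z, hz⟩ := exists_ne (1 : center S)
  apply hz
  have h2 : ((z : S) : G) ∈ S ⊓ centralizer (S : Set G) := by
    refine mem_inf.2 ⟨(z : S).2, ?_⟩
    rw [mem_centralizer_iff]
    intro y hy
    have := mem_center_iff.1 z.2 ⟨y, hy⟩
    exact congrArg Subtype.val this
  rw [hZ, mem_bot] at h2
  exact Subtype.ext (Subtype.ext h2)

theorem local_control (hp2 : p ≠ 2)
    (hloc : ∀ Q : Subgroup G, IsPGroup p Q → Q ≠ ⊥ → Cfsg.pPrimeCore p ↥(normalizer (Q : Set G)) = ⊥ ∧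
      Cfsg.IsPConstrained p ↥(normalizer (Q : Set G)) ∧ Cfsg.IsPStable p ↥(normalizer (Q : Set G)))
    {P : Subgroup G} (hP : IsSyl p P ⊤) (Q : Subgroup G) (hQP : Q ≤ P) (hQ1 : Q ≠ ⊥) :
    normalizer (Q : Set G) ≤ normalizer (ZJ (fun A => IsMulCommutative A) P : Set G) := by
  refine LocalControl.main (W := fun S => ZJ (fun A => IsMulCommutative A) S)
    (fun g S => (fam_ab (p := p)).ZJ_map (MulAut.conj g) S) (fun S _ => (fam_ab (p := p)).ZJ_le_self S)
    (fun S hS h => ZJ_ne_bot hS h) ?_ hP _ Q hQP hQ1 (Nat.le_add_right _ _)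
  intro Q hQ hQ1 S hS
  obtain ⟨h1, h2, h3⟩ := hloc Q hQ hQ1
  have h4 := PStableQuot.zj_sup hp2 h2 h3 (isSyl_subgroupOf hS)
  rw [h1, bot_sup_eq] at h4
  have h5 := le_normalizer_of_normal_subgroup h4
  rw [PStableQuot.map_ZJ_ab _ _ (fun x _ hx => by
    apply Subtype.ext; exact hx), map_subgroupOf hS.1] at h5
  exact h5

end Cfsg.Agent.Lib.ZJLocal
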