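import Cfsg.Agent.Lib.ActSemi
import Cfsg.Agent.Lib.ZJLocal
import Cfsg.Agent.Lib.PNilp
import Cfsg.Agent.Lib.FTHall
import Cfsg.Agent.Lib.HallComplement
import Cfsg.Agent.Lib.H23Nilp
import Cfsg.Agent.S0659

set_option autoImplicit false

/-!
Coprime action with all proper invariant subgroups nilpotent.
-/

namespace Cfsg.Agent.Lib.ActNilp

open Subgroup Cfsg.Agent.Lib.ZJThm

universe u v

section Basic

variable {A : Type v} [Group A] {G : Type u} [Group G] (φ : A →* MulAut G)

/-- invariance of a subgroup -/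
def Inv (H : Subgroup G) : Prop := ∀ a : A, ∀ x ∈ H, φ a x ∈ H

variable {φ}

theorem Inv.map_eq {H : Subgroup G} (h : Inv φ H) (a : A) : H.map (φ a).toMonoidHom = H := by
  apply le_antisymm
  · rintro _ ⟨x, hx, rfl⟩
    exact h a x hx
  · intro x hx
    refine ⟨φ a⁻¹ x, h a⁻¹ x hx, ?_⟩
    show φ a (φ a⁻¹ x) = x
    rw [← MulAut.mul_apply, ← map_mul, mul_inv_cancel, map_one, MulAut.one_apply]

theorem inv_of_map_eq {H : Subgroup G} (h : ∀ a : A, H.map (φ a).toMonoidHom = H) : Inv φ H := by
  intro a x hx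
  rw [← h a]
  exact ⟨x, hx, rfl⟩

theorem inv_of_characteristic (H : Subgroup G) [H.Characteristic] : Inv φ H :=
  inv_of_map_eq fun a => Subgroup.characteristic_iff_map_eq.1 inferInstance (φ a)

theorem Inv.sup {H K : Subgroup G} (h : Inv φ H) (k : Inv φ K) : Inv φ (H ⊔ K) :=
  inv_of_map_eq fun a => by rw [Subgroup.map_sup, h.map_eq, k.map_eq]

theorem Inv.inf {H K : Subgroup G} (h : Inv φ H) (k : Inv φ K) : Inv φ (H ⊓ K) :=
  fun a x hx => ⟨h a x hx.1, k a x hx.2⟩

theorem Inv.normalizer {H : Subgroup G} (h : Inv φ H) : Inv φ (normalizer (H : Set G)) := by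
  intro a x hx
  rw [mem_normalizer_iff] at hx ⊢
  intro y
  obtain ⟨z, rfl⟩ : ∃ z, φ a z = y := ⟨φ a⁻¹ y, by
    rw [← MulAut.mul_apply, ← map_mul, mul_inv_cancel, map_one, MulAut.one_apply]⟩
  have e1 : φ a x * φ a z * (φ a x)⁻¹ = φ a (x * z * x⁻¹) := by
    rw [map_mul, map_mul, map_inv]
  have key : ∀ z : G, φ a z ∈ H ↔ z ∈ H := by
    intro z
    constructor
    · intro hz
      have h1 := h a⁻¹ _ hz
      rwa [← MulAut.mul_apply, ← map_mul, inv_mul_cancel, map_one, MulAut.one_apply] at h1
    · exact h a z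
  rw [e1, key, key]
  exact hx z

theorem inv_top : Inv φ (⊤ : Subgroup G) := fun _ _ _ => trivial

theorem Inv.zj [Finite G] {H : Subgroup G} (h : Inv φ H) : Inv φ (Cfsg.centerThompsonAOf H) := by
  apply inv_of_map_eq
  intro a
  rw [centerThompsonAOf_eq, ← (fam_ab (p := 2)).ZJ_map (φ a) H, h.map_eq]

/-- the induced action on the quotient by an invariant normal subgroup -/
def quot (N : Subgroup G) [N.Normal] (h : Inv φ N) : A →* MulAut (G ⧸ N) where
  toFun a := QuotientGroup.congr N N (φ a) (h.map_eq a)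
  map_one' := by
    ext x
    obtain ⟨g, rfl⟩ := QuotientGroup.mk_surjective x
    show ((φ 1 g : G) : G ⧸ N) = (g : G ⧸ N)
    rw [map_one]; rfl
  map_mul' a b := by
    ext x
    obtain ⟨g, rfl⟩ := QuotientGroup.mk_surjective x
    show ((φ (a * b) g : G) : G ⧸ N) = ((φ a (φ b g) : G) : G ⧸ N)
    rw [map_mul]; rfl

theorem quot_mk (N : Subgroup G) [N.Normal] (h : Inv φ N) (a : A) (g : G) :
    quot N h a (g : G ⧸ N) = ((φ a g : G) : G ⧸ N) := rfl

theorem Inv.comap {N : Subgroup G} [N.Normal] {h : Inv φ N} {H : Subgroup (G ⧸ N)} (hH : Inv (quot N h) H) :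
    Inv φ (H.comap (QuotientGroup.mk' N)) := by
  intro a x hx
  rw [mem_comap] at hx ⊢
  exact hH a _ hx

theorem Inv.map {N : Subgroup G} [N.Normal] {h : Inv φ N} {H : Subgroup G} (hH : Inv φ H) :
    Inv (quot N h) (H.map (QuotientGroup.mk' N)) := by
  rintro a _ ⟨x, hx, rfl⟩
  exact ⟨φ a x, hH a x hx, rfl⟩

theorem isNilpotent_of_le {H K : Subgroup G} (h : H ≤ K) (hK : Group.IsNilpotent K) : Group.IsNilpotent H :=
  Cores.isNilpotent_of_le hK h

theorem hasNormalPComplement_of_isNilpotent {H : Type u} [Group H] [Finite H] (hH : Group.IsNilpotent H) (p : ℕ)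
    [hp : Fact p.Prime] : Cfsg.HasNormalPComplement p H :=
  HallComplement.hasNormalPComplement_of_isNilpotent p

end Basic

theorem eq_top_of_exists_sylow_le {G : Type*} [Group G] [Finite G] {K : Subgroup G}
    (h : ∀ (p : ℕ) [Fact p.Prime], ∃ (P : Sylow p G), (P : Subgroup G) ≤ K) : K = ⊤ := by
  apply Subgroup.eq_top_of_card_eq
  apply Nat.dvd_antisymm (Subgroup.card_subgroup_dvd_card K)
  rw [Nat.dvd_iff_prime_pow_dvd_dvd]
  intro p k hp hk
  have : Fact p.Prime := ⟨hp⟩
  obtain ⟨P, hP⟩ := h p
  refine dvd_trans ?_ (Subgroup.card_dvd_of_le hP)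
  rw [P.card_eq_multiplicity]
  exact pow_dvd_pow _ ((hp.pow_dvd_iff_le_factorization Nat.card_pos.ne').1 hk)

theorem solvable_aux {A : Type v} [Group A] [Finite A] (hA : Group.IsSolvable A) (n : ℕ) :
    ∀ (G : Type u) [Group G] [Finite G] (φ : A →* MulAut G), Nat.card G = n → (Nat.card A).Coprime (Nat.card G) →
    (∀ H : Subgroup G, H ≠ ⊤ → Inv φ H → Group.IsNilpotent H) → Group.IsSolvable G := by
  induction n using Nat.strong_induction_on with
  | _ n ih =>
  intro G _ _ φ hn hcop h
  classical
  by_cases hex : ∃ N : Subgroup G, N.Normal ∧ Inv φ N ∧ N ≠ ⊥ ∧ N ≠ ⊤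
  · obtain ⟨N, hN, hNi, hbot, htop⟩ := hex
    have h1 : Group.IsNilpotent N := h N htop hNi
    have h2 : Group.IsSolvable N := inferInstance
    have hidx : Nat.card (G ⧸ N) ∣ Nat.card G := by
      rw [← Subgroup.index_eq_card]; exact N.index_dvd_card
    have h3 : Group.IsSolvable (G ⧸ N) := by
      refine ih (Nat.card (G ⧸ N)) ?_ (G ⧸ N) (quot N hNi) rfl (Nat.Coprime.coprime_dvd_right hidx hcop) ?_
      · rw [← hn, ← Subgroup.index_eq_card, ← N.card_mul_index]
        exact lt_mul_of_one_lt_left (Nat.pos_of_ne_zero N.index_ne_zero_of_finite)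
          ((Subgroup.one_lt_card_iff_ne_bot _).2 hbot)
      · intro H hH hHi
        have h4 : H.comap (QuotientGroup.mk' N) ≠ ⊤ := by
          intro h5
          apply hH
          rw [← Subgroup.map_comap_eq_self_of_surjective (QuotientGroup.mk'_surjective N) H, h5,
            Subgroup.map_top_of_surjective _ (QuotientGroup.mk'_surjective N)]
        have h5 := h _ h4 (Inv.comap (N := N) (h := hNi) hHi)
        let f : (H.comap (QuotientGroup.mk' N)) →* H :=
          ((QuotientGroup.mk' N).comp (H.comap (QuotientGroup.mk' N)).subtype).codRestrict H (fun x => x.2)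
        have hf : Function.Surjective f := by
          rintro ⟨y, hy⟩
          obtain ⟨x, rfl⟩ := QuotientGroup.mk'_surjective N y
          exact ⟨⟨x, hy⟩, rfl⟩
        exact Group.nilpotent_of_surjective f hf
    exact Group.isSolvable_of_ker_le_range N.subtype (QuotientGroup.mk' N) (by simp)
  push Not at hex
  by_contra hns
  have hnontriv : Nontrivial G := by
    by_contra hcon
    rw [not_nontrivial_iff_subsingleton] at hcon
    exact hns inferInstance
  -- an odd prime
  have hodd : ∃ p : ℕ, p.Prime ∧ p ≠ 2 ∧ p ∣ Nat.card G := by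
    by_contra hcon
    push Not at hcon
    apply hns
    have h2 : IsPGroup 2 G := by
      have hF2 : Fact (Nat.Prime 2) := ⟨Nat.prime_two⟩
      apply IsPGroup.of_card (n := (Nat.card G).primeFactorsList.length)
      apply Nat.eq_prime_pow_of_unique_prime_dvd Nat.card_pos.ne'
      intro d hd hdd
      by_contra hne
      exact hcon d hd hne hdd
    have hF2 : Fact (Nat.Prime 2) := ⟨Nat.prime_two⟩
    have := h2.isNilpotent
    infer_instance
  obtain ⟨p, hp, hp2, hpd⟩ := hodd
  have hF := Fact.mk hp
  obtain ⟨P, hPp, hPi, hPinv⟩ := ActSemi.exists_invariant_sylow φ hcop (Or.inl hA) p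
  let S : Sylow p G := hPp.toSylow hPi
  have hSP : (S : Subgroup G) = P := rfl
  have hPne : P ≠ ⊥ := by
    intro h0
    apply hPi
    rw [h0, Subgroup.index_bot]; exact hpd
  have hZinv : Inv φ (Cfsg.centerThompsonAOf P) := Inv.zj (show Inv φ P from hPinv)
  have hZne : Cfsg.centerThompsonAOf P ≠ ⊥ := by
    rw [centerThompsonAOf_eq]; exact ZJLocal.ZJ_ne_bot hPp hPne
  have hZtop : Cfsg.centerThompsonAOf P ≠ ⊤ := by
    intro htop
    apply hns
    have h1 := (fam_ab (p := p)).ZJ_comm P
    rw [← centerThompsonAOf_eq, htop] at h1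
    have hcomm : ∀ a b : G, a * b = b * a := by
      intro a b
      exact (mem_centralizer_iff.1 (h1 (mem_top a)) b (mem_top b)).symm
    let _ : CommGroup G := { (inferInstance : Group G) with mul_comm := hcomm }
    infer_instance
  have hNtop : normalizer (Cfsg.centerThompsonAOf P : Set G) ≠ ⊤ := by
    intro htop
    have h1 : (Cfsg.centerThompsonAOf P).Normal := normalizer_eq_top_iff.1 htop
    exact hZtop (hex _ h1 hZinv hZne)
  have hNnil := h _ hNtop hZinv.normalizer
  have hcomp : Cfsg.HasNormalPComplement p G :=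
    Cfsg.Agent.S0659.result hp2 S (hasNormalPComplement_of_isNilpotent hNnil p)
  obtain ⟨Q, N, hN, hNc⟩ := hcomp
  have hNres := PNilp.complement_eq_pResidual Q N hNc
  have hchar : (Cfsg.pResidual p G).Characteristic := PNilp.pResidual_characteristic p
  have hNinv : Inv φ N := by rw [hNres]; exact inv_of_characteristic _
  by_cases hNbot : N = ⊥
  · apply hns
    have h1 : (Q : Subgroup G) = ⊤ := by
      have := hNc.sup_eq_top
      rwa [hNbot, bot_sup_eq] at this
    have h2 : IsPGroup p G := by
      have h3 := Q.isPGroup'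
      rw [h1] at h3
      exact h3.of_equiv Subgroup.topEquiv
    have := h2.isNilpotent
    infer_instance
  · have hNtop := hex N hN hNinv hNbot
    have h1 : (Q : Subgroup G) = ⊥ := by
      have := hNc.disjoint.eq_bot
      rwa [hNtop, top_inf_eq] at this
    exact Q.ne_bot_of_dvd_card hpd h1

theorem solvable_of_forall_nilpotent (hFT : FTHall.FT.{u}) (hFT' : FTHall.FT.{v}) {A : Type v} [Group A] [Finite A]
    {G : Type u} [Group G] [Finite G] (φ : A →* MulAut G) (hcop : (Nat.card A).Coprime (Nat.card G))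
    (h : ∀ H : Subgroup G, H ≠ ⊤ → Inv φ H → Group.IsNilpotent H) : Group.IsSolvable G := by
  by_cases hodd : Odd (Nat.card G)
  · exact hFT G hodd
  · rw [Nat.not_odd_iff_even] at hodd
    have hA : Odd (Nat.card A) := by
      rw [← Nat.coprime_two_right]
      exact Nat.Coprime.coprime_dvd_right hodd.two_dvd hcop
    exact solvable_aux (hFT' A hA) _ G φ rfl hcop h

/-- the order is divisible by at most two primes and there is a normal invariant Sylow subgroup -/
theorem structure_of_forall_nilpotent {A : Type v} [Group A] [Finite A] {G : Type u} [Group G] [Finite G]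
    (φ : A →* MulAut G) (hcop : (Nat.card A).Coprime (Nat.card G)) (hsol : Group.IsSolvable G)
    (h : ∀ H : Subgroup G, H ≠ ⊤ → Inv φ H → Group.IsNilpotent H) (hG : ¬ Group.IsNilpotent G) :
    (∃ p q a b : ℕ, p.Prime ∧ q.Prime ∧ p ≠ q ∧ Nat.card G = p ^ a * q ^ b) ∧
      ∃ (p : ℕ) (P : Sylow p G), p.Prime ∧ p ∣ Nat.card G ∧ (P : Subgroup G).Normal ∧ Inv φ (P : Subgroup G) := by
  classical
  have hnt : Nontrivial G := by
    by_contra hcon
    rw [not_nontrivial_iff_subsingleton] at hcon
    exact hG inferInstance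
  -- a prime q with O^q(G) proper
  obtain ⟨q, hq, hqne⟩ : ∃ q : ℕ, q.Prime ∧ Cfsg.pResidual q G ≠ ⊤ := by
    have hlt : commutator G < ⊤ := Group.IsSolvable.commutator_lt_top_of_nontrivial G
    have hidx : (commutator G).index ≠ 1 := fun h1 => hlt.ne (Subgroup.index_eq_one.1 h1)
    obtain ⟨q, hq, hqd⟩ := Nat.exists_prime_and_dvd hidx
    have hF := Fact.mk hq
    refine ⟨q, hq, fun htop => ?_⟩
    -- in the abelian quotient all elements of order prime to q generate everything
    have h1 := PNilp.map_pResidual_of_surjective q (QuotientGroup.mk' (commutator G))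
      (QuotientGroup.mk'_surjective _)
    rw [htop, Subgroup.map_top_of_surjective _ (QuotientGroup.mk'_surjective _)] at h1
    -- Q := G / G' is abelian with O^q(Q) = Q
    have hab : ∀ a b : G ⧸ commutator G, a * b = b * a := by
      have h2 := (Subgroup.Normal.quotient_commutative_iff_commutator_le (N := commutator G)).2 le_rfl
      exact fun a b => h2.is_comm.comm a b
    let _ : CommGroup (G ⧸ commutator G) := { (inferInstance : Group (G ⧸ commutator G)) with mul_comm := hab }
    -- elements of order prime to q form a subgroup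
    let W : Subgroup (G ⧸ commutator G) :=
      { carrier := {x | (orderOf x).Coprime q}
        one_mem' := by show (orderOf (1 : G ⧸ commutator G)).Coprime q; rw [orderOf_one]; exact Nat.coprime_one_left q
        mul_mem' := by
          intro a b ha hb
          have h3 : orderOf (a * b) ∣ orderOf a * orderOf b := (Commute.all a b).orderOf_mul_dvd_mul_orderOf
          exact Nat.Coprime.coprime_dvd_left h3 (Nat.Coprime.mul_left ha hb)
        inv_mem' := by
          intro a ha
          show (orderOf a⁻¹).Coprime q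
          rw [orderOf_inv]; exact ha }
    have h2 : Cfsg.pResidual q (G ⧸ commutator G) ≤ W := by
      unfold Cfsg.pResidual
      rw [Subgroup.closure_le]
      intro x hx; exact hx
    rw [← h1] at h2
    rw [Subgroup.index_eq_card] at hqd
    obtain ⟨x, hx⟩ := exists_prime_orderOf_dvd_card' q hqd
    have h3 : (orderOf x).Coprime q := h2 (mem_top x)
    rw [hx, Nat.coprime_self] at h3
    exact hq.one_lt.ne' h3
  have hFq := Fact.mk hq
  have hNchar : (Cfsg.pResidual q G).Characteristic := PNilp.pResidual_characteristic q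
  set N := Cfsg.pResidual q G with hN
  have hNn : N.Normal := inferInstance
  have hNnil : Group.IsNilpotent N := h N hqne (inv_of_characteristic N)
  -- normal Sylow subgroups for the primes r ≠ q
  have hsyl : ∀ (r : ℕ) (hr : r.Prime), r ≠ q → ∀ R : Sylow r G, (R : Subgroup G).Normal := by
    intro r hr hrq R
    have hFr := Fact.mk hr
    have hRN : (R : Subgroup G) ≤ N := by
      intro x hx
      apply PNilp.mem_pResidual_of_coprime
      obtain ⟨k, hk⟩ := IsPGroup.iff_orderOf.1 R.isPGroup' ⟨x, hx⟩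
      rw [Subgroup.orderOf_mk] at hk
      rw [hk]
      exact Nat.Coprime.pow_left k ((Nat.coprime_primes hr hq).2 hrq)
    let R' : Sylow r N := R.subtype hRN
    have hR'n : (R' : Subgroup N).Normal :=
      (((Group.isNilpotent_of_finite_tfae (G := N)).out 0 3 rfl rfl).1 hNnil) r hFr R'
    have hR'c : (R' : Subgroup N).Characteristic := Sylow.characteristic_of_normal R' hR'n
    have h1 : ((R' : Subgroup N).map N.subtype).Normal := inferInstance
    have h2 : (R' : Subgroup N).map N.subtype = (R : Subgroup G) := by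
      show ((R : Subgroup G).subgroupOf N).map N.subtype = (R : Subgroup G)
      rw [Subgroup.subgroupOf_map_subtype, inf_eq_left.2 hRN]
    rwa [h2] at h1
  have hinv : ∀ (r : ℕ) (hr : r.Prime), r ≠ q → ∀ R : Sylow r G, Inv φ (R : Subgroup G) := by
    intro r hr hrq R
    have hFr := Fact.mk hr
    have h1 : (R : Subgroup G).Characteristic := Sylow.characteristic_of_normal R (hsyl r hr hrq R)
    exact inv_of_characteristic _
  -- some prime r ≠ q divides |G|
  obtain ⟨r, hr, hrq, hrd⟩ : ∃ r : ℕ, r.Prime ∧ r ≠ q ∧ r ∣ Nat.card G := by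
    by_contra hcon
    push Not at hcon
    apply hG
    have h2 : IsPGroup q G := by
      apply IsPGroup.of_card (n := (Nat.card G).primeFactorsList.length)
      apply Nat.eq_prime_pow_of_unique_prime_dvd Nat.card_pos.ne'
      intro d hd hdd
      by_contra hne
      exact hcon d hd hne hdd
    exact h2.isNilpotent
  have hFr := Fact.mk hr
  obtain ⟨R⟩ : Nonempty (Sylow r G) := inferInstance
  refine ⟨?_, r, R, hr, hrd, hsyl r hr hrq R, hinv r hr hrq R⟩
  refine ⟨r, q, (Nat.card G).factorization r, (Nat.card G).factorization q, hr, hq, hrq, ?_⟩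
  -- no third prime
  have hno : ∀ s : ℕ, s.Prime → s ∣ Nat.card G → s = r ∨ s = q := by
    intro s hs hsd
    by_contra hcon
    push Not at hcon
    apply hG
    obtain ⟨Q, hQp, hQi, hQinv⟩ := ActSemi.exists_invariant_sylow φ hcop (Or.inr hsol) q
    let QS : Sylow q G := hQp.toSylow hQi
    -- Q centralizes the Sylow subgroups for the other primes
    have hcent : ∀ (t : ℕ) (ht : t.Prime), t ≠ q → ∀ T : Sylow t G, (T : Subgroup G) ≤ centralizer (Q : Set G) := by
      intro t ht htq T
      have hFt := Fact.mk ht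
      have hTn := hsyl t ht htq T
      -- another prime
      obtain ⟨u, hu, huq, hut, hud⟩ : ∃ u : ℕ, u.Prime ∧ u ≠ q ∧ u ≠ t ∧ u ∣ Nat.card G := by
        by_cases hrt : r = t
        · exact ⟨s, hs, hcon.2, fun h => hcon.1 (h.trans hrt.symm), hsd⟩
        · exact ⟨r, hr, hrq, hrt, hrd⟩
      have hW : Q ⊔ (T : Subgroup G) ≠ ⊤ := by
        intro htop
        have h1 := Cores.card_sup_dvd Q (T : Subgroup G)
        rw [htop, Subgroup.card_top] at h1
        have h2 := hud.trans h1
        obtain ⟨i, hi⟩ := IsPGroup.iff_card.1 hQp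
        obtain ⟨j, hj⟩ := IsPGroup.iff_card.1 T.isPGroup'
        rw [hi, hj] at h2
        rcases (Nat.Prime.dvd_mul hu).1 h2 with h3 | h3
        · exact huq ((Nat.prime_dvd_prime_iff_eq hu hq).1 (hu.dvd_of_dvd_pow h3))
        · exact hut ((Nat.prime_dvd_prime_iff_eq hu ht).1 (hu.dvd_of_dvd_pow h3))
      have hWnil := h _ hW (Inv.sup hQinv (hinv t ht htq T))
      intro x hx
      rw [mem_centralizer_iff]
      intro y hy
      have h1 := H23Nilp.commute_of_coprime_orderOf (G := ↥(Q ⊔ (T : Subgroup G))) ⟨y, mem_sup_left hy⟩ ⟨x, mem_sup_right hx⟩ (by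
        rw [Subgroup.orderOf_mk, Subgroup.orderOf_mk]
        obtain ⟨i, hi⟩ := IsPGroup.iff_orderOf.1 hQp ⟨y, hy⟩
        obtain ⟨j, hj⟩ := IsPGroup.iff_orderOf.1 T.isPGroup' ⟨x, hx⟩
        rw [Subgroup.orderOf_mk] at hi hj
        rw [hi, hj]
        exact Nat.Coprime.pow _ _ ((Nat.coprime_primes hq ht).2 (Ne.symm htq)))
      exact congrArg Subtype.val h1
    have hQn : QS.1.Normal := by
      rw [← Subgroup.normalizer_eq_top_iff]
      apply eq_top_of_exists_sylow_le
      intro t ht
      by_cases htq : t = q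
      · subst htq
        exact ⟨QS, le_normalizer⟩
      · obtain ⟨T⟩ : Nonempty (Sylow t G) := inferInstance
        refine ⟨T, (hcent t ht.out htq T).trans ?_⟩
        exact Subgroup.centralizer_le_normalizer _
    refine ((Group.isNilpotent_of_finite_tfae (G := G)).out 0 3 rfl rfl).2 ?_
    intro t ht T
    by_cases htq : t = q
    · subst htq
      have := Sylow.unique_of_normal QS hQn
      rw [Subsingleton.elim T QS]; exact hQn
    · exact hsyl t ht.out htq T
  -- the order
  have h0 : Nat.card G ≠ 0 := Nat.card_pos.ne'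
  conv_lhs => rw [← Nat.prod_factorization_pow_eq_self h0]
  rw [Finsupp.prod_of_support_subset (s := {r, q}) _ ?_ _ (by simp), Finset.prod_pair hrq]
  intro s hs
  rw [Nat.support_factorization, Nat.mem_primeFactors] at hs
  rcases hno s hs.1 hs.2.1 with h1 | h1 <;> simp [h1]

end Cfsg.Agent.Lib.ActNilp
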