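import Cfsg.Agent.Lib.OmegaMeta2

/-!
# `|G : ℧₁(G)| ≤ p²`, `p` odd, implies `G` metacyclic; `p`-central groups (helper2)
-/

set_option autoImplicit false

open Subgroup
open scoped commutatorElement

namespace Cfsg.Agent.Lib.AgemoMeta

open Cfsg Cfsg.Agent.Lib Cfsg.Agent.Lib.OmegaMeta

universe u

/-- lifting metacyclicity through a central subgroup of order `p` in the derived group -/
theorem lift {R : Type*} [Group R] [Finite R] {p : ℕ} [hp : Fact p.Prime] (hR : IsPGroup p R)
    {t : R} (htD : t ∈ commutator R) (htc : t ∈ center R) (hto : orderOf t = p) [hZn : (zpowers t).Normal]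
    (hm : IsMetacyclic (R ⧸ zpowers t)) : IsMetacyclic R ∨ commutator R ≤ zpowers t := by
  classical
  have htcomm : ∀ g, Commute t g := fun g => (mem_center_iff.mp htc g : Commute g t).symm
  have htp : t ^ p = 1 := by rw [← hto]; exact pow_orderOf_eq_one t
  obtain ⟨N, hNn, hNc, hQc⟩ := hm
  obtain ⟨⟨s', hs'N⟩, hs'⟩ := hNc.exists_generator
  obtain ⟨s, rfl⟩ := QuotientGroup.mk_surjective s'
  obtain ⟨y'', hy''⟩ := hQc.exists_generator
  obtain ⟨y', rfl⟩ := QuotientGroup.mk_surjective y''
  obtain ⟨y, rfl⟩ := QuotientGroup.mk_surjective y'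
  set S := N.comap (QuotientGroup.mk' (zpowers t)) with hS
  haveI hSn : S.Normal := hNn.comap _
  have hsS : s ∈ S := hs'N
  have hSrep : ∀ x ∈ S, ∃ i j : ℤ, x = s ^ i * t ^ j := by
    intro x hx
    obtain ⟨i, hi⟩ := hs' ⟨(x : R ⧸ zpowers t), hx⟩
    have hi' : (s : R ⧸ zpowers t) ^ i = x := congrArg Subtype.val hi
    rw [← QuotientGroup.mk_zpow, QuotientGroup.eq] at hi'
    obtain ⟨j, hj⟩ := hi'
    simp only at hj
    exact ⟨i, j, by rw [hj]; group⟩
  have hRrep : ∀ x : R, ∃ k : ℤ, ∃ w ∈ S, x = y ^ k * w := by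
    intro x
    obtain ⟨k, hk⟩ := hy'' ((x : R ⧸ zpowers t) : (R ⧸ zpowers t) ⧸ N)
    simp only at hk
    rw [← QuotientGroup.mk_zpow, ← QuotientGroup.mk_zpow, QuotientGroup.eq] at hk
    exact ⟨k, (y ^ k)⁻¹ * x, hk, by group⟩
  have hScomm : ∀ a ∈ S, ∀ b ∈ S, Commute a b := by
    intro a ha b hb
    obtain ⟨i, j, rfl⟩ := hSrep a ha
    obtain ⟨k, l, rfl⟩ := hSrep b hb
    refine Commute.mul_left (Commute.mul_right ?_ ?_) (Commute.mul_right ?_ ?_)
    · exact (Commute.refl s).zpow_zpow i k
    · exact ((htcomm s).symm).zpow_zpow i l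
    · exact (htcomm s).zpow_zpow j k
    · exact (htcomm t).zpow_zpow j l
  -- `R = ⟨s, y⟩`
  have hsy : closure ({s, y} : Set R) = ⊤ := by
    apply frattini_nongenerating
    rw [eq_top_iff]
    intro x _
    have hs1 : s ∈ closure ({s, y} : Set R) ⊔ frattini R := mem_sup_left (Subgroup.subset_closure (by simp))
    have hy1 : y ∈ closure ({s, y} : Set R) ⊔ frattini R := mem_sup_left (Subgroup.subset_closure (by simp))
    have ht1 : t ∈ closure ({s, y} : Set R) ⊔ frattini R :=
      mem_sup_right (H70Frattini.commutator_le_frattini hR htD)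
    obtain ⟨k, w, hw, rfl⟩ := hRrep x
    obtain ⟨i, j, rfl⟩ := hSrep w hw
    exact mul_mem (zpow_mem hy1 k) (mul_mem (zpow_mem hs1 i) (zpow_mem ht1 j))
  set c := ⁅s, y⁆ with hc
  have hyS : ∀ x ∈ S, y * x * y⁻¹ ∈ S := fun x hx => hSn.conj_mem x hx y
  have hcS : c ∈ S := by
    have : c = s * (y * s⁻¹ * y⁻¹) := by rw [hc, commutatorElement_def]; group
    rw [this]
    exact mul_mem hsS (hyS _ (inv_mem hsS))
  -- `[x, y] ∈ ⟨c⟩` for `x ∈ S`
  have hxy : ∀ x ∈ S, ⁅x, y⁆ ∈ zpowers c := by
    intro x hx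
    obtain ⟨i, j, rfl⟩ := hSrep x hx
    refine ⟨i, ?_⟩
    have h1 : c = s * (y * s * y⁻¹)⁻¹ := by rw [hc, commutatorElement_def]; group
    have h2 : Commute s (y * s * y⁻¹)⁻¹ := (hScomm _ hsS _ (hyS _ hsS)).inv_right
    simp only
    rw [h1, h2.mul_zpow, inv_zpow, conj_zpow, commutatorElement_def]
    have h3 : y * (s ^ i * t ^ j)⁻¹ * y⁻¹ = y * (s ^ i)⁻¹ * y⁻¹ * (t ^ j)⁻¹ := by
      rw [mul_inv_rev]
      have h4 : Commute (t ^ j)⁻¹ (y * (s ^ i)⁻¹ * y⁻¹) := ((htcomm _).zpow_left j).inv_left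
      have h5 : Commute (t ^ j)⁻¹ y := ((htcomm _).zpow_left j).inv_left
      calc y * ((t ^ j)⁻¹ * (s ^ i)⁻¹) * y⁻¹ = (y * (t ^ j)⁻¹) * (s ^ i)⁻¹ * y⁻¹ := by group
        _ = (t ^ j)⁻¹ * (y * (s ^ i)⁻¹ * y⁻¹) := by rw [← h5.eq]; group
        _ = _ := by rw [h4.eq]
    have h4 : s ^ i * t ^ j * y * (s ^ i * t ^ j)⁻¹ * y⁻¹ = s ^ i * t ^ j * (y * (s ^ i * t ^ j)⁻¹ * y⁻¹) := by
      group
    rw [h4, h3]
    have h5 : Commute (t ^ j) (y * (s ^ i)⁻¹ * y⁻¹) := (htcomm _).zpow_left j
    calc s ^ i * (y * s ^ i * y⁻¹)⁻¹ = s ^ i * (y * (s ^ i)⁻¹ * y⁻¹) := by group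
      _ = s ^ i * ((y * (s ^ i)⁻¹ * y⁻¹) * t ^ j) * (t ^ j)⁻¹ := by group
      _ = s ^ i * (t ^ j * (y * (s ^ i)⁻¹ * y⁻¹)) * (t ^ j)⁻¹ := by rw [h5.eq]
      _ = _ := by group
  haveI hcn : (zpowers c).Normal := by
    have h1 : y ∈ normalizer (zpowers c : Set R) := by
      apply GroupUtil.mem_normalizer_of_conj_le
      rintro _ ⟨i, rfl⟩
      simp only
      rw [← conj_zpow]
      apply zpow_mem
      have h2 := hxy c⁻¹ (inv_mem hcS)
      have h3 : y * c * y⁻¹ = c * ⁅c⁻¹, y⁆ := by rw [commutatorElement_def]; group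
      rw [h3]
      exact mul_mem (mem_zpowers c) h2
    have h2 : S ≤ normalizer (zpowers c : Set R) := by
      intro x hx
      apply GroupUtil.mem_normalizer_of_conj_le
      rintro _ ⟨i, rfl⟩
      simp only
      have h3 : x * c ^ i * x⁻¹ = c ^ i := by
        rw [((hScomm x hx c hcS).zpow_right i).eq]; group
      rw [h3]
      exact zpow_mem (mem_zpowers c) i
    rw [← normalizer_eq_top_iff, eq_top_iff]
    intro x _
    obtain ⟨k, w, hw, rfl⟩ := hRrep x
    exact mul_mem (zpow_mem h1 k) (h2 hw)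
  have hDc : commutator R ≤ zpowers c := H70Regular.commutator_le_of_gen hsy (zpowers c) (mem_zpowers c)
  by_cases hts : t ∈ zpowers s
  · -- `S = ⟨s⟩`
    have hSs : S = zpowers s := by
      apply le_antisymm
      · intro x hx
        obtain ⟨i, j, rfl⟩ := hSrep x hx
        exact mul_mem (zpow_mem (mem_zpowers s) i) (zpow_mem hts j)
      · rw [zpowers_le]; exact hsS
    haveI : (zpowers s).Normal := hSs ▸ hSn
    exact Or.inl ⟨zpowers s, inferInstance, inferInstance, isCyclic_quotient hsy⟩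
  · -- `c ^ p = 1`
    right
    have hcp : c ^ p = 1 := by
      by_contra hcp
      apply hts
      have hcps : zpowers (c ^ p) ≤ zpowers s := by
        rw [zpowers_le]
        obtain ⟨i, j, hij⟩ := hSrep c hcS
        rw [hij, ((htcomm s).symm.zpow_zpow i j).mul_pow]
        have : (t ^ j) ^ p = 1 := by
          rw [← zpow_natCast, ← zpow_mul, mul_comm, zpow_mul, zpow_natCast, htp, one_zpow]
        rw [this, mul_one]
        exact pow_mem (zpow_mem (mem_zpowers s) i) p
      apply hcps
      obtain ⟨m, hm⟩ := mem_powers_iff_mem_zpowers.mpr (hDc htD)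
      simp only at hm
      obtain ⟨k, hk⟩ := IsPGroup.iff_orderOf.mp hR c
      have hk2 : 2 ≤ k := by
        by_contra h
        push Not at h
        apply hcp
        rw [← orderOf_dvd_iff_pow_eq_one, hk]
        calc p ^ k ∣ p ^ 1 := pow_dvd_pow p (by omega)
          _ = p := pow_one p
      obtain ⟨l, rfl⟩ : ∃ l, k = l + 2 := ⟨k - 2, by omega⟩
      have h1 : p ^ (l + 2) ∣ m * p := by
        rw [← hk, orderOf_dvd_iff_pow_eq_one, pow_mul, hm, htp]
      have h2 : p ∣ m := by
        rw [show l + 2 = l + 1 + 1 by ring, pow_succ] at h1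
        have h3 := Nat.dvd_of_mul_dvd_mul_right hp.out.pos h1
        exact (dvd_pow_self p (by omega)).trans h3
      obtain ⟨r, rfl⟩ := h2
      rw [← hm, pow_mul]
      exact pow_mem (mem_zpowers _) r
    have hc1 : c ≠ 1 := by
      intro h
      have := hDc htD
      rw [h, zpowers_one_eq_bot, mem_bot] at this
      rw [this, orderOf_one] at hto
      exact hp.out.one_lt.ne hto
    have hco : orderOf c = p := orderOf_eq_prime hcp hc1
    have hct : zpowers t = zpowers c := by
      apply eq_of_le_of_card_ge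
      · rw [zpowers_le]; exact hDc htD
      · rw [Nat.card_zpowers, Nat.card_zpowers, hto, hco]
    exact hDc.trans hct.ge

/-- the central case -/
theorem metacyclic_of_central {R : Type*} [Group R] [Finite R] {p : ℕ} [hp : Fact p.Prime] (hp3 : 3 ≤ p)
    (hR : IsPGroup p R) (hO : (closure (Set.range fun x : R => x ^ p)).index ≤ p ^ 2)
    (hnc : ∃ x y : R, x * y ≠ y * x) (t : R) (ht : orderOf t = p) (htc : t ∈ center R)
    (hD : commutator R ≤ zpowers t) : IsMetacyclic R := by
  classical
  have htp : t ^ p = 1 := by rw [← ht]; exact pow_orderOf_eq_one t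
  have hDc : ∀ d ∈ commutator R, d ^ p = 1 ∧ ∀ g : R, Commute d g := by
    intro d hd
    obtain ⟨i, rfl⟩ := hD hd
    simp only
    constructor
    · rw [← zpow_natCast, ← zpow_mul, mul_comm, zpow_mul, zpow_natCast, htp, one_zpow]
    · intro g
      have h1 : Commute g t := mem_center_iff.mp htc g
      exact h1.symm.zpow_left i
  have hchoose : p ∣ p.choose 2 := hp.out.dvd_choose_self (by norm_num) (by omega)
  have hpow : ∀ x y : R, (x * y) ^ p = x ^ p * y ^ p := by
    intro x y
    have hcm : ⁅y⁻¹, x⁻¹⁆ ∈ commutator R := commutator_mem_commutator (mem_top _) (mem_top _)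
    obtain ⟨h1, h2⟩ := hDc _ hcm
    have h3 := PGroupOdd.mul_pow_of_comm (x := x) (y := y) (c := ⁅y⁻¹, x⁻¹⁆)
      (by rw [commutatorElement_def]; group) (h2 x) (h2 y) p
    obtain ⟨k, hk⟩ := hchoose
    rw [h3, hk, pow_mul, h1, one_pow, mul_one]
  let g : R →* R := { toFun := fun x => x ^ p, map_one' := one_pow _, map_mul' := hpow }
  have hUidx : g.range.index ≤ p ^ 2 := by
    refine le_trans (Nat.le_of_dvd (Nat.pos_of_ne_zero index_ne_zero_of_finite) (index_dvd_of_le ?_)) hO
    rw [closure_le]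
    rintro _ ⟨x, rfl⟩
    exact ⟨x, rfl⟩
  have hFidx : p ^ 2 ≤ (frattini R).index := by
    by_contra h
    push Not at h
    obtain ⟨x, y, hxy⟩ := hnc
    exact hxy (comm_of_index_le hR h x y)
  have hUF : g.range ≤ frattini R := by
    rintro _ ⟨x, rfl⟩
    exact H70Frattini.pow_mem_frattini hR x
  have hUFeq : g.range = frattini R := by
    apply eq_of_le_of_card_ge hUF
    have h1 := g.range.card_mul_index
    have h2 := (frattini R).card_mul_index
    rw [← h1] at h2
    by_contra h3
    push Not at h3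
    have h4 : 0 < p ^ 2 := by positivity
    have h5 : Nat.card g.range * g.range.index ≤ Nat.card g.range * p ^ 2 := Nat.mul_le_mul_left _ hUidx
    have h6 : Nat.card (frattini R) * p ^ 2 ≤ Nat.card (frattini R) * (frattini R).index :=
      Nat.mul_le_mul_left _ hFidx
    nlinarith
  have hFidx2 : (frattini R).index ≤ p ^ 2 := by rw [← hUFeq]; exact hUidx
  -- choose `w` of maximal order with `t ∈ ⟨w⟩`
  obtain ⟨w, hw, hmax⟩ := Set.Finite.exists_maximalFor (fun x : R => orderOf x)
    {x : R | t ∈ zpowers x} (Set.toFinite _) ⟨t, mem_zpowers t⟩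
  have hwF : w ∉ frattini R := by
    intro hwF
    rw [← hUFeq] at hwF
    obtain ⟨v, hv⟩ := hwF
    have hv' : v ^ p = w := hv
    have h1 : t ∈ zpowers v := by
      have h2 : zpowers w ≤ zpowers v := by rw [zpowers_le, ← hv']; exact pow_mem (mem_zpowers v) p
      exact h2 hw
    have h2 : orderOf w ≤ orderOf v := by
      rw [← hv']; exact Nat.le_of_dvd (orderOf_pos v) (orderOf_pow_dvd p)
    have h3 : orderOf v ≤ orderOf w := hmax (j := v) h1 h2
    have h4 : p ∣ orderOf v := by
      obtain ⟨k, hk⟩ := IsPGroup.iff_orderOf.mp hR v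
      rw [hk]
      refine dvd_pow_self p ?_
      rintro rfl
      rw [pow_zero, orderOf_eq_one_iff] at hk
      rw [hk, zpowers_one_eq_bot, mem_bot] at h1
      rw [h1, orderOf_one] at ht
      exact hp.out.one_lt.ne ht
    have h5 : orderOf w = orderOf v / p := by
      rw [← hv', orderOf_pow, Nat.gcd_eq_right h4]
    have h6 : orderOf v / p < orderOf v := Nat.div_lt_self (orderOf_pos v) hp.out.one_lt
    omega
  haveI hwn : (zpowers w).Normal := by
    have h1 : commutator R ≤ zpowers w := hD.trans (by rw [zpowers_le]; exact hw)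
    constructor
    intro n hn x
    have h2 : x * n * x⁻¹ = ⁅x, n⁆ * n := by rw [commutatorElement_def]; group
    rw [h2]
    exact mul_mem (h1 (commutator_mem_commutator (mem_top _) (mem_top _))) hn
  refine ⟨zpowers w, hwn, inferInstance, ?_⟩
  -- find `v`
  set M := zpowers w ⊔ frattini R with hM
  have hFM : frattini R < M := by
    refine lt_of_le_of_ne le_sup_right ?_
    intro h
    apply hwF
    rw [h]
    exact mem_sup_left (mem_zpowers w)
  have hMidx : M.index < p ^ 2 := by
    have h1 := relIndex_mul_index hFM.le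
    have h2 : (frattini R).relIndex M ≠ 1 := by
      rw [Ne, relIndex_eq_one]; exact fun h => hFM.not_ge h
    have h3 : (frattini R).index ≠ 0 := index_ne_zero_of_finite
    have h4 : (frattini R).relIndex M ≠ 0 := by intro h; rw [h, zero_mul] at h1; exact h3 h1.symm
    have h5 : 0 < M.index := Nat.pos_of_ne_zero index_ne_zero_of_finite
    have h6 : 2 ≤ (frattini R).relIndex M := by omega
    nlinarith
  obtain ⟨k, hk⟩ := hR.index M
  rw [hk] at hMidx
  have hk2 : k < 2 := (Nat.pow_lt_pow_iff_right hp.out.one_lt).mp hMidx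
  have hMtop : M ≠ ⊤ := by
    intro h
    have h1 := frattini_nongenerating h
    obtain ⟨x, y, hxy⟩ := hnc
    apply hxy
    have hx : x ∈ zpowers w := by rw [h1]; exact mem_top x
    have hy : y ∈ zpowers w := by rw [h1]; exact mem_top y
    obtain ⟨i, rfl⟩ := hx
    obtain ⟨j, rfl⟩ := hy
    exact ((Commute.refl w).zpow_zpow i j).eq
  have hk1 : k = 1 := by
    interval_cases k
    · rw [pow_zero, index_eq_one] at hk; exact absurd hk hMtop
    · rfl
  rw [hk1, pow_one] at hk
  obtain ⟨v, hv⟩ : ∃ v, v ∉ M := by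
    by_contra h
    push Not at h
    exact hMtop (eq_top_iff.mpr fun x _ => h x)
  have hcl : closure ({w, v} : Set R) = ⊤ := by
    apply frattini_nongenerating
    have h1 : M < closure ({w, v} : Set R) ⊔ frattini R := by
      refine lt_of_le_of_ne ?_ ?_
      · rw [hM, sup_le_iff, zpowers_le]
        exact ⟨mem_sup_left (Subgroup.subset_closure (by simp)), le_sup_right⟩
      · intro h
        apply hv
        rw [h]
        exact mem_sup_left (Subgroup.subset_closure (by simp))
    exact (FrattiniP.isCoatom_of_index_prime hp.out hk).2 _ h1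
  exact isCyclic_quotient hcl

/-- a `p`-group, `p` odd, with `|G : ℧₁(G)| ≤ p²` is metacyclic -/
theorem metacyclic_aux {p : ℕ} [hp : Fact p.Prime] (hp3 : 3 ≤ p) : ∀ (n : ℕ) (R : Type u) [Group R] [Finite R],
    Nat.card R ≤ n → IsPGroup p R → (closure (Set.range fun x : R => x ^ p)).index ≤ p ^ 2 → IsMetacyclic R := by
  intro n
  induction n with
  | zero =>
    intro R _ _ hn
    exact absurd hn (by have := Nat.card_pos (α := R); omega)
  | succ n ih =>
    intro R _ _ hn hR hO
    classical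
    have hFidx : (frattini R).index ≤ p ^ 2 := by
      refine le_trans (Nat.le_of_dvd (Nat.pos_of_ne_zero index_ne_zero_of_finite) (index_dvd_of_le ?_)) hO
      rw [closure_le]
      rintro _ ⟨x, rfl⟩
      exact H70Frattini.pow_mem_frattini hR x
    by_cases hcomm : ∀ x y : R, x * y = y * x
    · obtain ⟨a, b, hab⟩ := exists_pair hR hFidx
      exact metacyclic_of_comm hab hcomm
    push Not at hcomm
    have hDne : commutator R ≠ ⊥ := by
      intro h
      obtain ⟨x, y, hxy⟩ := hcomm
      apply hxy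
      have h1 : ⁅x, y⁆ ∈ commutator R := commutator_mem_commutator (mem_top _) (mem_top _)
      rw [h, mem_bot, commutatorElement_eq_one_iff_mul_comm] at h1
      exact h1
    obtain ⟨t, htD, htc, hto⟩ := PGroupOdd.exists_central_mem hR (inferInstance : (commutator R).Normal) hDne
    have htcomm : ∀ g, Commute t g := fun g => (mem_center_iff.mp htc g : Commute g t).symm
    haveI hZn : (zpowers t).Normal := by
      constructor
      rintro _ ⟨i, rfl⟩ g
      have h1 : g * t ^ i * g⁻¹ = t ^ i := by rw [← ((htcomm g).zpow_left i).eq]; group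
      simp only
      rw [h1]
      exact zpow_mem (mem_zpowers t) i
    have hlt : Nat.card (R ⧸ zpowers t) ≤ n := by
      have h2 := Subgroup.card_eq_card_quotient_mul_card_subgroup (zpowers t)
      rw [Nat.card_zpowers, hto] at h2
      have h3 : 0 < Nat.card (R ⧸ zpowers t) := Nat.card_pos
      have h4 := hp.out.two_le
      nlinarith
    have hq : (closure (Set.range fun x : R ⧸ zpowers t => x ^ p)).index ≤ p ^ 2 := by
      have h1 : closure (Set.range fun x : R ⧸ zpowers t => x ^ p) =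
          (closure (Set.range fun x : R => x ^ p)).map (QuotientGroup.mk' (zpowers t)) := by
        rw [MonoidHom.map_closure]
        congr 1
        ext x
        constructor
        · rintro ⟨y, rfl⟩
          obtain ⟨y, rfl⟩ := QuotientGroup.mk_surjective y
          exact ⟨y ^ p, ⟨y, rfl⟩, rfl⟩
        · rintro ⟨_, ⟨y, rfl⟩, rfl⟩
          exact ⟨(y : R ⧸ zpowers t), rfl⟩
      rw [h1]
      refine le_trans (Nat.le_of_dvd (Nat.pos_of_ne_zero index_ne_zero_of_finite) ?_) hO
      exact Subgroup.index_map_dvd _ (QuotientGroup.mk'_surjective _)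
    rcases lift hR htD htc hto (ih (R ⧸ zpowers t) hlt (hR.to_quotient _) hq) with h | h
    · exact h
    · exact metacyclic_of_central hp3 hR hO hcomm t hto htc h

theorem metacyclic {p : ℕ} [hp : Fact p.Prime] (hp2 : p ≠ 2) {R : Type u} [Group R] [Finite R]
    (hR : IsPGroup p R) (hO : (closure (Set.range fun x : R => x ^ p)).index ≤ p ^ 2) : IsMetacyclic R :=
  metacyclic_aux (by have := hp.out.two_le; omega) _ R le_rfl hR hO

/-- In a subgroup `C` whose elements of order `p` are central, `x ^ p = y ^ p` implies `(x⁻¹ y) ^ p = 1`. -/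
theorem pcentral_aux {G : Type*} [Group G] [Finite G] {p : ℕ} [hp : Fact p.Prime] (hp2 : p ≠ 2)
    (hG : IsPGroup p G) (C : Subgroup G) (hC : ∀ x ∈ C, x ^ p = 1 → ∀ y ∈ C, Commute x y) (n : ℕ) :
    ∀ x ∈ C, ∀ y ∈ C, Nat.card ↥(closure ({x, y} : Set G)) ≤ n → x ^ p = y ^ p → (x⁻¹ * y) ^ p = 1 := by
  induction n with
  | zero =>
    intro x _ y _ hn
    exact absurd hn (by have := Nat.card_pos (α := closure ({x, y} : Set G)); omega)
  | succ n ih =>
    intro x hx y hy hn hxy
    set H := closure ({x, y} : Set G) with hH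
    have hxH : x ∈ H := Subgroup.subset_closure (by simp)
    have hyH : y ∈ H := Subgroup.subset_closure (by simp)
    have hKH : closure ({x, y⁻¹ * x * y} : Set G) ≤ H := by
      rw [closure_le]
      rintro z (rfl | hz)
      · exact hxH
      · rw [Set.mem_singleton_iff] at hz
        rw [hz]
        exact mul_mem (mul_mem (inv_mem hyH) hxH) hyH
    by_cases hK : closure ({x, y⁻¹ * x * y} : Set G) = H
    · have hcomm : Commute x y := by
        have h1 : zpowers (⟨x, hxH⟩ : H) = ⊤ := by
          apply frattini_nongenerating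
          rw [eq_top_iff]
          have h2 : commutator H ≤ frattini H := H70Frattini.commutator_le_frattini (hG.to_subgroup H)
          have h3 : (closure ({x, y⁻¹ * x * y} : Set G)) ≤
              (zpowers (⟨x, hxH⟩ : H) ⊔ frattini H).map H.subtype := by
            rw [closure_le]
            rintro z (rfl | hz)
            · exact ⟨⟨z, hxH⟩, mem_sup_left (mem_zpowers _), rfl⟩
            · rw [Set.mem_singleton_iff] at hz
              refine ⟨(⟨y, hyH⟩ : H)⁻¹ * ⟨x, hxH⟩ * ⟨y, hyH⟩, ?_, hz.symm⟩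
              have h4 : (⟨y, hyH⟩ : H)⁻¹ * ⟨x, hxH⟩ * ⟨y, hyH⟩ =
                ⁅(⟨y, hyH⟩ : H)⁻¹, (⟨x, hxH⟩ : H)⁆ * ⟨x, hxH⟩ := by rw [commutatorElement_def]; group
              rw [h4]
              exact mul_mem (mem_sup_right (h2 (commutator_mem_commutator (mem_top _) (mem_top _))))
                (mem_sup_left (mem_zpowers _))
          rw [hK] at h3
          rintro ⟨z, hz⟩ -
          obtain ⟨w, hw, hwz⟩ := h3 hz
          have : w = ⟨z, hz⟩ := Subtype.ext hwz
          rwa [← this]
        have h2 : (⟨y, hyH⟩ : H) ∈ zpowers (⟨x, hxH⟩ : H) := by rw [h1]; exact mem_top _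
        obtain ⟨k, hk⟩ := h2
        have h3 : x ^ k = y := congrArg Subtype.val hk
        rw [← h3]
        exact Commute.self_zpow x k
      rw [hcomm.inv_left.mul_pow, inv_pow, hxy, inv_mul_cancel]
    · have hlt : Nat.card ↥(closure ({x, y⁻¹ * x * y} : Set G)) ≤ n := by
        have h1 : Nat.card ↥(closure ({x, y⁻¹ * x * y} : Set G)) < Nat.card H := by
          refine lt_of_le_of_ne (card_le_of_le hKH) ?_
          intro h
          exact hK (eq_of_le_of_card_ge hKH h.ge)
        omega
      have h1 := ih x hx (y⁻¹ * x * y) (mul_mem (mul_mem (inv_mem hy) hx) hy) hlt (by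
        have : (y⁻¹ * x * y) ^ p = y⁻¹ * x ^ p * y := by
          have := conj_pow (i := p) (a := y⁻¹) (b := x)
          rwa [inv_inv] at this
        rw [this, hxy, mul_assoc, ← pow_succ, pow_succ', inv_mul_cancel_left])
      set c := x⁻¹ * (y⁻¹ * x * y) with hc
      have hcC : c ∈ C := mul_mem (inv_mem hx) (mul_mem (mul_mem (inv_mem hy) hx) hy)
      have hcx := hC c hcC h1 x hx
      have hcy := hC c hcC h1 y hy
      have h2 : y * x⁻¹ = x⁻¹ * y * c := by
        have h3 : c = x * c * x⁻¹ := by rw [← hcx.eq]; group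
        rw [h3, hc]; group
      have h3 := PGroupOdd.mul_pow_of_comm (x := x⁻¹) (y := y) (c := c) h2 hcx.inv_right hcy p
      rw [h3, inv_pow, hxy, inv_mul_cancel, one_mul]
      exact PGroupOdd.pow_choose_two_eq_one hp.out hp2 h1

theorem pcentral {G : Type*} [Group G] [Finite G] {p : ℕ} [hp : Fact p.Prime] (hp2 : p ≠ 2)
    (hG : IsPGroup p G) {C : Subgroup G} (hC : ∀ x ∈ C, x ^ p = 1 → ∀ y ∈ C, Commute x y)
    {x y : G} (hx : x ∈ C) (hy : y ∈ C) (hxy : x ^ p = y ^ p) : (x⁻¹ * y) ^ p = 1 :=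
  pcentral_aux hp2 hG C hC _ x hx y hy le_rfl hxy

end Cfsg.Agent.Lib.AgemoMeta
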