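import Mathlib

/-! Invariant subspaces of a linear map: dimensions. (helper99) -/

set_option autoImplicit false

namespace Cfsg.Agent.Lib.InvSub

variable {F V : Type*} [Field F] [AddCommGroup V] [Module F V] [FiniteDimensional F V]

/-- `W` is invariant under `f`. -/
def Inv (f : V →ₗ[F] V) (W : Submodule F V) : Prop := ∀ x ∈ W, f x ∈ W

omit [FiniteDimensional F V] in
lemma inv_iff_map_le {f : V →ₗ[F] V} {W : Submodule F V} : Inv f W ↔ W.map f ≤ W :=
  Submodule.map_le_iff_le_comap.symm

omit [FiniteDimensional F V] in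
lemma Inv.inf {f : V →ₗ[F] V} {A B : Submodule F V} (hA : Inv f A) (hB : Inv f B) : Inv f (A ⊓ B) :=
  fun x hx => ⟨hA x hx.1, hB x hx.2⟩

omit [FiniteDimensional F V] in
lemma Inv.sup {f : V →ₗ[F] V} {A B : Submodule F V} (hA : Inv f A) (hB : Inv f B) : Inv f (A ⊔ B) := by
  rw [inv_iff_map_le, Submodule.map_sup]
  exact sup_le_sup (inv_iff_map_le.mp hA) (inv_iff_map_le.mp hB)

omit [FiniteDimensional F V] in
lemma inv_bot {f : V →ₗ[F] V} : Inv f (⊥ : Submodule F V) := by
  intro x hx
  rw [Submodule.mem_bot] at hx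
  simp [hx]

omit [FiniteDimensional F V] in
lemma inv_top {f : V →ₗ[F] V} : Inv f (⊤ : Submodule F V) := fun _ _ => trivial

omit [FiniteDimensional F V] in
lemma inv_iSup {f : V →ₗ[F] V} {ι : Sort*} {U : ι → Submodule F V} (hU : ∀ i, Inv f (U i)) :
    Inv f (⨆ i, U i) := by
  rw [inv_iff_map_le, Submodule.map_iSup]
  exact iSup_mono fun i => inv_iff_map_le.mp (hU i)

/-- the modular-lattice step: adding an irreducible summand changes the dimension of the intersection by `0` or
its dimension. -/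
lemma finrank_step {f : V →ₗ[F] V} {A B W : Submodule F V} (hA : Inv f A) (hB : Inv f B) (hW : Inv f W)
    (hAB : Disjoint A B) (hWAB : W ≤ A ⊔ B)
    (hirr : ∀ C : Submodule F V, C ≤ B → Inv f C → C = ⊥ ∨ C = B) :
    Module.finrank F W = Module.finrank F ↥(W ⊓ A) ∨
      Module.finrank F W = Module.finrank F ↥(W ⊓ A) + Module.finrank F B := by
  set C := (W ⊔ A) ⊓ B with hC
  have hCinv : Inv f C := (hW.sup hA).inf hB
  have hmod : W ⊔ A = A ⊔ C := by
    have h1 : W ⊔ A ≤ A ⊔ B := sup_le hWAB le_sup_left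
    calc W ⊔ A = (A ⊔ B) ⊓ (W ⊔ A) := (inf_eq_right.mpr h1).symm
      _ = A ⊔ B ⊓ (W ⊔ A) := by rw [sup_inf_assoc_of_le B (le_sup_right : A ≤ W ⊔ A)]
      _ = A ⊔ C := by rw [hC, inf_comm]
  have hAC : A ⊓ C = ⊥ := by
    have : A ⊓ C ≤ A ⊓ B := inf_le_inf_left _ inf_le_right
    rw [hAB.eq_bot] at this
    exact le_bot_iff.mp this
  have e1 := Submodule.finrank_sup_add_finrank_inf_eq W A
  have e2 := Submodule.finrank_sup_add_finrank_inf_eq A C
  rw [hAC, finrank_bot, ← hmod] at e2
  rcases hirr C inf_le_right hCinv with h | h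
  · left
    rw [h, finrank_bot] at e2
    omega
  · right
    rw [h] at e2
    omega

/-- dimension of `D` plus part of an independent family. -/
lemma finrank_sup_iSup {s a : ℕ} {D : Submodule F V} {U : Fin s → Submodule F V}
    (hUdim : ∀ j, Module.finrank F ↥(U j) = a)
    (hind : ∀ (T : Finset (Fin s)) (i : Fin s), i ∉ T → Disjoint (D ⊔ ⨆ j ∈ T, U j) (U i))
    (T : Finset (Fin s)) :
    Module.finrank F ↥(D ⊔ ⨆ j ∈ T, U j) = Module.finrank F D + T.card * a := by
  classical
  induction T using Finset.induction_on with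
  | empty =>
    have : D ⊔ ⨆ j ∈ (∅ : Finset (Fin s)), U j = D := by simp
    rw [this]; simp
  | insert i T hi ih =>
    have h1 : D ⊔ ⨆ j ∈ insert i T, U j = (D ⊔ ⨆ j ∈ T, U j) ⊔ U i := by
      rw [Finset.iSup_insert, sup_comm (U i), sup_assoc]
    have e := Submodule.finrank_sup_add_finrank_inf_eq (D ⊔ ⨆ j ∈ T, U j) (U i)
    rw [(hind T i hi).eq_bot, finrank_bot, ih, hUdim] at e
    rw [h1, Finset.card_insert_of_notMem hi]
    simp only [add_zero] at e
    rw [e]; ring

/-- dimension of an invariant subspace, relative to a decomposition. -/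
lemma finrank_inv_le {f : V →ₗ[F] V} {s a : ℕ} {E : Submodule F V} {U : Fin s → Submodule F V}
    (hE : Inv f E) (hU : ∀ j, Inv f (U j)) (hUdim : ∀ j, Module.finrank F ↥(U j) = a)
    (hUirr : ∀ j, ∀ W : Submodule F V, W ≤ U j → Inv f W → W = ⊥ ∨ W = U j)
    (hind : ∀ (T : Finset (Fin s)) (i : Fin s), i ∉ T → Disjoint (E ⊔ ⨆ j ∈ T, U j) (U i))
    (T : Finset (Fin s)) (W : Submodule F V) (hW : Inv f W) (hWT : W ≤ E ⊔ ⨆ j ∈ T, U j) :
    ∃ k ≤ T.card, Module.finrank F W = Module.finrank F ↥(W ⊓ E) + k * a := by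
  classical
  induction T using Finset.induction_on generalizing W with
  | empty =>
    refine ⟨0, le_rfl, ?_⟩
    have : W ≤ E := by simpa using hWT
    rw [inf_eq_left.mpr this]; simp
  | insert i T hi ih =>
    have h1 : E ⊔ ⨆ j ∈ insert i T, U j = (E ⊔ ⨆ j ∈ T, U j) ⊔ U i := by
      rw [Finset.iSup_insert, sup_comm (U i), sup_assoc]
    rw [h1] at hWT
    have hAinv : Inv f (E ⊔ ⨆ j ∈ T, U j) :=
      hE.sup (inv_iSup fun j => inv_iSup fun _ => hU j)
    obtain ⟨k, hk, hk'⟩ := ih (W ⊓ (E ⊔ ⨆ j ∈ T, U j)) (hW.inf hAinv) inf_le_right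
    have h2 : W ⊓ (E ⊔ ⨆ j ∈ T, U j) ⊓ E = W ⊓ E := by
      rw [inf_assoc, inf_eq_right.mpr (le_sup_left : E ≤ E ⊔ ⨆ j ∈ T, U j)]
    rw [h2] at hk'
    rw [Finset.card_insert_of_notMem hi]
    rcases finrank_step hAinv (hU i) hW (hind T i hi) hWT (hUirr i) with h | h
    · exact ⟨k, by omega, by rw [h, hk']⟩
    · refine ⟨k + 1, by omega, ?_⟩
      rw [h, hk', hUdim]; ring

omit [FiniteDimensional F V] in
/-- a subspace contains subspaces of every smaller dimension. -/
lemma exists_le_finrank_eq (E : Submodule F V) [FiniteDimensional F E] (d : ℕ) (hd : d ≤ Module.finrank F E) :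
    ∃ D ≤ E, Module.finrank F D = d := by
  let b := Module.finBasis F E
  let v : Fin d → V := fun j => (b (Fin.castLE hd j) : V)
  have hli : LinearIndependent F v := by
    have h1 : LinearIndependent F (fun j : Fin d => b (Fin.castLE hd j)) :=
      b.linearIndependent.comp _ (Fin.castLE_injective hd)
    exact h1.map' E.subtype E.ker_subtype
  refine ⟨Submodule.span F (Set.range v), ?_, ?_⟩
  · rw [Submodule.span_le]
    rintro _ ⟨j, rfl⟩
    exact (b (Fin.castLE hd j)).2
  · rw [finrank_span_eq_card hli, Fintype.card_fin]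

/-- disjointness extracted from an internal direct sum over `Option`. -/
lemma disjoint_of_internal {s : ℕ} {E : Submodule F V} {U : Fin s → Submodule F V}
    (hdec : DirectSum.IsInternal (fun o : Option (Fin s) => o.elim E U)) {D : Submodule F V} (hD : D ≤ E)
    (T : Finset (Fin s)) (i : Fin s) (hi : i ∉ T) : Disjoint (D ⊔ ⨆ j ∈ T, U j) (U i) := by
  have h := ((DirectSum.isInternal_submodule_iff_iSupIndep_and_iSup_eq_top _).mp hdec).1
  have h1 : Disjoint (U i) (⨆ o ∈ ({none} ∪ (some '' (T : Set (Fin s))) : Set (Option (Fin s))), o.elim E U) := by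
    have := h.disjoint_biSup (x := some i) (y := ({none} ∪ (some '' (T : Set (Fin s))) : Set (Option (Fin s))))
      (by simpa using hi)
    exact this
  refine (h1.mono_right ?_).symm
  apply sup_le
  · exact hD.trans (le_biSup (fun o : Option (Fin s) => o.elim E U) (i := none) (by simp))
  · apply iSup_le; intro j; apply iSup_le; intro hj
    exact le_biSup (fun o : Option (Fin s) => o.elim E U) (i := some j) (by simpa using hj)

/-- the dimensions of the invariant subspaces. -/
theorem exists_inv_iff (f : V →ₗ[F] V) {s a : ℕ} (E : Submodule F V) (U : Fin s → Submodule F V)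
    (hE : ∀ x ∈ E, f x = x)
    (hUinv : ∀ j, Inv f (U j)) (hUdim : ∀ j, Module.finrank F ↥(U j) = a)
    (hUirr : ∀ j, ∀ W : Submodule F V, W ≤ U j → Inv f W → W = ⊥ ∨ W = U j)
    (hdec : DirectSum.IsInternal (fun o : Option (Fin s) => o.elim E U))
    (m : ℕ) (hmV : m ≤ Module.finrank F V) :
    (∃ W : Submodule F V, Module.finrank F ↥W = m ∧ Inv f W) ↔
    (m ≤ Module.finrank F E ∨ (a ≤ m ∧ m % a ≤ Module.finrank F E)) := by
  have hEinv : Inv f E := fun x hx => by rw [hE x hx]; exact hx
  have htop : E ⊔ ⨆ j ∈ (Finset.univ : Finset (Fin s)), U j = ⊤ := by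
    have h := ((DirectSum.isInternal_submodule_iff_iSupIndep_and_iSup_eq_top _).mp hdec).2
    rw [← h, iSup_option]
    simp
  have hind := fun T i hi => disjoint_of_internal hdec (le_refl E) T i hi
  constructor
  · rintro ⟨W, hWm, hW⟩
    obtain ⟨k, hk, hk'⟩ := finrank_inv_le hEinv hUinv hUdim hUirr hind Finset.univ W hW (by rw [htop]; exact le_top)
    have hle : Module.finrank F ↥(W ⊓ E) ≤ Module.finrank F E := Submodule.finrank_mono inf_le_right
    rcases Nat.eq_zero_or_pos k with h0 | hpos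
    · left; subst h0; omega
    · right
      rw [hWm] at hk'
      refine ⟨?_, ?_⟩
      · calc a = 1 * a := (one_mul a).symm
          _ ≤ k * a := Nat.mul_le_mul_right a hpos
          _ ≤ m := by omega
      · rw [hk', Nat.add_mul_mod_self_right]
        exact (Nat.mod_le _ _).trans hle
  · intro h
    have hn : Module.finrank F V = Module.finrank F E + s * a := by
      have := finrank_sup_iSup (D := E) hUdim hind Finset.univ
      rw [htop, finrank_top] at this
      simpa using this
    -- choose k and d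
    obtain ⟨k, d, hk, hd, hm⟩ : ∃ k d, k ≤ s ∧ d ≤ Module.finrank F E ∧ m = d + k * a := by
      rcases h with h | ⟨h1, h2⟩
      · exact ⟨0, m, Nat.zero_le _, h, by simp⟩
      · by_cases hle : m / a ≤ s
        · exact ⟨m / a, m % a, hle, h2, by rw [mul_comm]; exact (Nat.mod_add_div m a).symm⟩
        · push Not at hle
          have : s * a ≤ m := by
            calc s * a ≤ (m / a) * a := Nat.mul_le_mul_right a hle.le
              _ ≤ m := Nat.div_mul_le_self m a
          exact ⟨s, m - s * a, le_rfl, by omega, by omega⟩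
    obtain ⟨D, hDE, hDd⟩ := exists_le_finrank_eq E d hd
    obtain ⟨T, hT⟩ : ∃ T : Finset (Fin s), T.card = k := by
      have := Finset.exists_subset_card_eq (s := (Finset.univ : Finset (Fin s))) (n := k) (by simpa using hk)
      obtain ⟨T, _, hT⟩ := this
      exact ⟨T, hT⟩
    refine ⟨D ⊔ ⨆ j ∈ T, U j, ?_, ?_⟩
    · rw [finrank_sup_iSup hUdim (fun T i hi => disjoint_of_internal hdec hDE T i hi) T, hDd, hT, hm]
    · apply Inv.sup
      · intro x hx
        rw [hE x (hDE hx)]; exact hx
      · exact inv_iSup fun j => inv_iSup fun _ => hUinv j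

end Cfsg.Agent.Lib.InvSub
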