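import Mathlib
import Cfsg.Agent.Lib.InvSub

/-! Semisimple linear maps all of whose irreducible invariant subspaces outside one eigenspace have the same
dimension `a`; splitting invariant subspaces.  (helper99) -/

set_option autoImplicit false

namespace Cfsg.Agent.Lib.PrimeOrd

open Polynomial Cfsg.Agent.Lib.InvSub

variable {F V : Type*} [Field F] [AddCommGroup V] [Module F V] [FiniteDimensional F V]

/-- the `y`-eigenspace -/
abbrev E (T : Module.End F V) (y : F) : Submodule F V := Module.End.eigenspace T y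

omit [FiniteDimensional F V] in
lemma inv_of_le_E {T : Module.End F V} {y : F} {D : Submodule F V} (hD : D ≤ E T y) : Inv T D := by
  intro x hx
  rw [Module.End.mem_eigenspace_iff.mp (hD hx)]
  exact D.smul_mem y hx

/-- `T` is semisimple, and outside the `y`-eigenspace all irreducible invariant subspaces have dimension `a`. -/
structure SS (T : Module.End F V) (y : F) (a : ℕ) : Prop where
  pos : 0 < a
  compl : ∀ W, Inv T W → ∃ W', Inv T W' ∧ IsCompl W W'
  ex : ∀ W, Inv T W → W ≠ ⊥ → Disjoint (E T y) W → ∃ U ≤ W, Inv T U ∧ Module.finrank F U = a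

omit [FiniteDimensional F V] in
lemma cyclic_aux {T : Module.End F V} {f : F[X]} (hf : Irreducible f) {w : V} (hw : w ≠ 0) (hfw : aeval T f w = 0) :
    ∃ U : Submodule F V, Inv T U ∧ Module.finrank F U = f.natDegree ∧ w ∈ U ∧
      (∀ W, Inv T W → w ∈ W → U ≤ W) := by
  -- the linear map h ↦ h(T) w from polynomials of degree < natDegree f
  let φ : F[X] →ₗ[F] V := (LinearMap.applyₗ w).comp (aeval T : F[X] →ₐ[F] Module.End F V).toLinearMap
  have hφ : ∀ h : F[X], φ h = aeval T h w := fun h => rfl
  have hφmul : ∀ g h : F[X], φ (g * h) = aeval T g (φ h) := by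
    intro g h
    rw [hφ, hφ, map_mul, Module.End.mul_apply]
  have hker : ∀ h : F[X], φ h = 0 → f ∣ h := by
    intro h hh
    by_contra hnd
    have hcop : IsCoprime f h := (Irreducible.coprime_iff_not_dvd hf).mpr hnd
    obtain ⟨u, v, huv⟩ := hcop
    have : φ 1 = 0 := by
      rw [← huv, map_add, hφmul, hφmul, hh, map_zero, hφ f, hfw, map_zero, add_zero]
    rw [hφ, map_one] at this
    exact hw this
  have hdvd : ∀ h : F[X], f ∣ h → φ h = 0 := by
    rintro _ ⟨g, rfl⟩
    rw [mul_comm, hφmul, hφ f, hfw, map_zero]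
  let ψ : degreeLT F f.natDegree →ₗ[F] V := φ.comp (degreeLT F f.natDegree).subtype
  have hψinj : Function.Injective ψ := by
    rw [injective_iff_map_eq_zero]
    rintro ⟨h, hh⟩ hh0
    have h1 : f ∣ h := hker h hh0
    have h2 : h = 0 := by
      by_contra hne
      rw [mem_degreeLT] at hh
      have := degree_le_of_dvd h1 hne
      rw [degree_eq_natDegree hf.ne_zero] at this
      exact absurd hh (not_lt.mpr this)
    simp [h2]
  have hrange : ∀ h : F[X], φ h ∈ LinearMap.range ψ := by
    intro h
    have h1 : φ h = φ (h % f) := by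
      conv_lhs => rw [← EuclideanDomain.div_add_mod h f]
      rw [map_add, hdvd _ (Dvd.intro _ rfl), zero_add]
    rw [h1]
    refine ⟨⟨h % f, ?_⟩, rfl⟩
    rw [mem_degreeLT, ← degree_eq_natDegree hf.ne_zero]
    exact EuclideanDomain.mod_lt h hf.ne_zero
  refine ⟨LinearMap.range ψ, ?_, ?_, ?_, ?_⟩
  · rintro _ ⟨h, rfl⟩
    have : T (ψ h) = φ (X * (h : F[X])) := by
      rw [hφmul]; simp; rfl
    rw [this]
    exact hrange _
  · rw [LinearMap.finrank_range_of_inj hψinj]
    rw [(degreeLTEquiv F f.natDegree).finrank_eq]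
    simp
  · have : w = φ 1 := by rw [hφ, map_one]; rfl
    rw [this]; exact hrange 1
  · rintro W hW hwW _ ⟨h, rfl⟩
    have key : ∀ h : F[X], φ h ∈ W := by
      intro h
      induction h using Polynomial.induction_on' with
      | add p q hp hq => rw [map_add]; exact W.add_mem hp hq
      | monomial n c =>
        rw [hφ, aeval_monomial, Module.End.mul_apply]
        have : ∀ n, (T ^ n) w ∈ W := by
          intro n
          induction n with
          | zero => simpa using hwW
          | succ n ih => rw [pow_succ', Module.End.mul_apply]; exact hW _ ih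
        simpa using W.smul_mem c (this n)
    exact key _

omit [FiniteDimensional F V] in
lemma exists_irred_factor {T : Module.End F V} {P : F[X]} (hP0 : P ≠ 0) (hP : aeval T P = 0)
    {W : Submodule F V} (hW : Inv T W) (hWne : W ≠ ⊥) :
    ∃ f, Irreducible f ∧ f ∣ P ∧ ∃ w ∈ W, w ≠ 0 ∧ aeval T f w = 0 := by
  obtain ⟨w0, hw0, hw0ne⟩ := (Submodule.ne_bot_iff W).mp hWne
  have hWp : ∀ (g : F[X]) (w : V), w ∈ W → aeval T g w ∈ W := by
    intro g w hw
    induction g using Polynomial.induction_on' with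
    | add p q hp hq => rw [map_add]; exact W.add_mem hp hq
    | monomial n c =>
      rw [aeval_monomial, Module.End.mul_apply]
      have : ∀ n, (T ^ n) w ∈ W := by
        intro n
        induction n with
        | zero => simpa using hw
        | succ n ih => rw [pow_succ', Module.End.mul_apply]; exact hW _ ih
      simpa using W.smul_mem c (this n)
  -- induct on factorization of P
  have key : ∀ Q : F[X], Q ≠ 0 → ∀ w ∈ W, w ≠ 0 → aeval T Q w = 0 →
      ∃ f, Irreducible f ∧ f ∣ Q ∧ ∃ w ∈ W, w ≠ 0 ∧ aeval T f w = 0 := by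
    intro Q
    induction Q using WfDvdMonoid.induction_on_irreducible with
    | zero => intro h; exact absurd rfl h
    | unit u hu =>
      intro _ w hw hwne hw0
      exfalso
      obtain ⟨v, hv⟩ := hu.exists_right_inv
      have : aeval T (v * u) w = 0 := by rw [map_mul, Module.End.mul_apply, hw0, map_zero]
      rw [mul_comm, hv, map_one] at this
      exact hwne this
    | mul a i ha hi ih =>
      intro _ w hw hwne hw0
      by_cases h : aeval T a w = 0
      · obtain ⟨f, hf1, hf2, hf3⟩ := ih ha w hw hwne h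
        exact ⟨f, hf1, hf2.mul_left i, hf3⟩
      · refine ⟨i, hi, Dvd.intro _ rfl, aeval T a w, hWp a w hw, h, ?_⟩
        rw [map_mul, Module.End.mul_apply] at hw0
        exact hw0
  exact key P hP0 w0 hw0 hw0ne (by rw [hP]; rfl)

omit [FiniteDimensional F V] in
/-- The structure from polynomial data. -/
lemma SS.of_poly {T : Module.End F V} {y : F} {a : ℕ} (ha : 0 < a) {P : F[X]} (hsq : Squarefree P)
    (hP : aeval T P = 0) (hdeg : ∀ f, Irreducible f → f ∣ P → f.natDegree = a ∨ f ∣ (X - C y)) : SS T y a := by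
  have hP0 : P ≠ 0 := hsq.ne_zero
  refine ⟨ha, ?_, ?_⟩
  · intro W hW
    have hs := Module.End.isSemisimple_of_squarefree_aeval_eq_zero hsq hP
    rw [Module.End.isSemisimple_iff] at hs
    obtain ⟨W', h1, h2⟩ := hs W (fun x hx => hW x hx)
    exact ⟨W', fun x hx => h1 hx, h2⟩
  · intro W hW hWne hdis
    obtain ⟨f, hf, hfP, w, hw, hwne, hfw⟩ := exists_irred_factor hP0 hP hW hWne
    rcases hdeg f hf hfP with h | ⟨g, hg⟩
    · obtain ⟨U, hU1, hU2, -, hU3⟩ := cyclic_aux hf hwne hfw
      exact ⟨U, hU3 W hW hw, hU1, by rw [hU2, h]⟩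
    · exfalso
      have h1 : aeval T (X - C y) w = 0 := by
        rw [hg, mul_comm, map_mul, Module.End.mul_apply, hfw, map_zero]
      have h2 : w ∈ E T y := by
        rw [Module.End.mem_eigenspace_iff]
        simp only [map_sub, aeval_X, aeval_C, LinearMap.sub_apply, Module.algebraMap_end_apply] at h1
        exact sub_eq_zero.mp h1
      exact hwne ((Submodule.disjoint_def.mp hdis) w h2 hw)

namespace SS

variable {T : Module.End F V} {y : F} {a : ℕ} (h : SS T y a)
include h

omit [FiniteDimensional F V] in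
lemma compl_in {A C : Submodule F V} (hA : Inv T A) (hC : Inv T C) (hAC : A ≤ C) :
    ∃ B ≤ C, Inv T B ∧ Disjoint A B ∧ A ⊔ B = C := by
  obtain ⟨B, hB, hAB⟩ := h.compl A hA
  refine ⟨B ⊓ C, inf_le_right, hB.inf hC, ?_, ?_⟩
  · exact hAB.disjoint.mono_right inf_le_left
  · rw [← sup_inf_assoc_of_le B hAC, hAB.sup_eq_top, top_inf_eq]

/-- an invariant subspace meeting the `y`-eigenspace trivially has dimension divisible by `a`. -/
lemma dvd {W : Submodule F V} (hW : Inv T W) (hd : Disjoint (E T y) W) : a ∣ Module.finrank F W := by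
  obtain ⟨n, hn⟩ : ∃ n, Module.finrank F W = n := ⟨_, rfl⟩
  induction n using Nat.strong_induction_on generalizing W with
  | _ n ih =>
    by_cases hb : W = ⊥
    · subst hb; simp
    · obtain ⟨U, hUW, hU, hUa⟩ := h.ex W hW hb hd
      obtain ⟨B, hBW, hB, hUB, hsup⟩ := h.compl_in hU hW hUW
      have e := Submodule.finrank_sup_add_finrank_inf_eq U B
      rw [hUB.eq_bot, finrank_bot, hsup, hUa] at e
      have hpos := h.pos
      have hBn : Module.finrank F B < n := by omega
      have := ih _ hBn hB (hd.mono_right hBW) rfl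
      have hW' : Module.finrank F W = a + Module.finrank F B := by omega
      rw [hW']
      exact (Nat.dvd_add_right (dvd_refl a)).mpr this

/-- each invariant subspace has dimension `dim(W ⊓ E) + k a`. -/
lemma exists_k {W : Submodule F V} (hW : Inv T W) :
    ∃ k, Module.finrank F W = Module.finrank F ↥(W ⊓ E T y) + k * a := by
  have hE : Inv T (E T y) := inv_of_le_E le_rfl
  obtain ⟨B, hBW, hB, hdis, hsup⟩ := h.compl_in (hW.inf hE) hW inf_le_left
  have hd : Disjoint (E T y) B := by
    rw [disjoint_iff, eq_bot_iff]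
    rw [← hdis.eq_bot]
    exact le_inf (le_inf (inf_le_right.trans hBW) inf_le_left) inf_le_right
  obtain ⟨k, hk⟩ := h.dvd hB hd
  have e := Submodule.finrank_sup_add_finrank_inf_eq (W ⊓ E T y) B
  rw [hdis.eq_bot, finrank_bot, hsup] at e
  exact ⟨k, by rw [mul_comm k a, ← hk]; omega⟩

end SS

/-- `C` is invariant, with `dim (C ⊓ E) = e` and `dim C = e + s a`. -/
structure Ty (T : Module.End F V) (y : F) (a : ℕ) (C : Submodule F V) (e s : ℕ) : Prop where
  inv : Inv T C
  fin_e : Module.finrank F ↥(C ⊓ E T y) = e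
  fin : Module.finrank F C = e + s * a

namespace SS

variable {T : Module.End F V} {y : F} {a : ℕ} (h : SS T y a)
include h

lemma exists_ty {W : Submodule F V} (hW : Inv T W) : ∃ e s, Ty T y a W e s := by
  obtain ⟨k, hk⟩ := h.exists_k hW
  exact ⟨_, k, hW, rfl, hk⟩

omit h [FiniteDimensional F V] in
/-- the eigenspace of a direct sum of invariant subspaces is the sum of the eigenspaces. -/
lemma inf_E_sup {A B : Submodule F V} (hA : Inv T A) (hB : Inv T B) (hd : Disjoint A B) :
    (A ⊔ B) ⊓ E T y = (A ⊓ E T y) ⊔ (B ⊓ E T y) := by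
  apply le_antisymm
  · rintro v ⟨hv, hvE⟩
    obtain ⟨x, hx, z, hz, rfl⟩ := Submodule.mem_sup.mp hv
    have hvE' := Module.End.mem_eigenspace_iff.mp hvE
    rw [map_add, smul_add] at hvE'
    have h1 : T x - y • x = y • z - T z := by
      rw [sub_eq_sub_iff_add_eq_add, hvE', add_comm]
    have h2 : T x - y • x ∈ A := A.sub_mem (hA x hx) (A.smul_mem y hx)
    have h3 : T x - y • x ∈ B := by rw [h1]; exact B.sub_mem (B.smul_mem y hz) (hB z hz)
    have h4 : T x - y • x = 0 := Submodule.disjoint_def.mp hd _ h2 h3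
    have h5 : y • z - T z = 0 := by rw [← h1, h4]
    refine Submodule.add_mem_sup ⟨hx, ?_⟩ ⟨hz, ?_⟩
    · exact Module.End.mem_eigenspace_iff.mpr (sub_eq_zero.mp h4)
    · exact Module.End.mem_eigenspace_iff.mpr (sub_eq_zero.mp h5).symm
  · exact sup_le (inf_le_inf_right _ le_sup_left) (inf_le_inf_right _ le_sup_right)

omit h in
lemma _root_.Cfsg.Agent.Lib.PrimeOrd.Ty.sup {A B : Submodule F V} {e s e' s' : ℕ} (hA : Ty T y a A e s)
    (hB : Ty T y a B e' s') (hd : Disjoint A B) : Ty T y a (A ⊔ B) (e + e') (s + s') := by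
  refine ⟨hA.inv.sup hB.inv, ?_, ?_⟩
  · rw [inf_E_sup hA.inv hB.inv hd]
    have e1 := Submodule.finrank_sup_add_finrank_inf_eq (A ⊓ E T y) (B ⊓ E T y)
    have : Disjoint (A ⊓ E T y) (B ⊓ E T y) := hd.mono inf_le_left inf_le_left
    rw [this.eq_bot, finrank_bot, hA.fin_e, hB.fin_e] at e1
    omega
  · have e1 := Submodule.finrank_sup_add_finrank_inf_eq A B
    rw [hd.eq_bot, finrank_bot, hA.fin, hB.fin] at e1
    rw [add_zero] at e1
    rw [e1]; ring

lemma ty_of_sup {A B : Submodule F V} {e s e' s' : ℕ} (hA : Ty T y a A e s)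
    (hB : Inv T B) (hd : Disjoint A B) (hAB : Ty T y a (A ⊔ B) e' s') :
    e ≤ e' ∧ s ≤ s' ∧ Ty T y a B (e' - e) (s' - s) := by
  obtain ⟨e2, s2, h2⟩ := h.exists_ty hB
  have h3 := hA.sup h2 hd
  have e1 : e' = e + e2 := by rw [← hAB.fin_e, h3.fin_e]
  have e3 : s' = s + s2 := by
    have := hAB.fin
    rw [h3.fin, e1] at this
    have h4 : (s + s2) * a = s' * a := by omega
    exact (Nat.eq_of_mul_eq_mul_right h.pos h4).symm
  refine ⟨by omega, by omega, ?_⟩
  rw [e1, e3, Nat.add_sub_cancel_left, Nat.add_sub_cancel_left]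
  exact h2

/-- splitting off pieces of prescribed type -/
lemma split {C : Submodule F V} {e s : ℕ} (hC : Ty T y a C e s) {d k : ℕ} (hd : d ≤ e) (hk : k ≤ s) :
    ∃ W W', Ty T y a W d k ∧ Ty T y a W' (e - d) (s - k) ∧ Disjoint W W' ∧ W ⊔ W' = C := by
  -- first find W
  have hW : ∃ W ≤ C, Ty T y a W d k := by
    induction k with
    | zero =>
      obtain ⟨D, hD, hDd⟩ := exists_le_finrank_eq (C ⊓ E T y) d (by rw [hC.fin_e]; exact hd)
      refine ⟨D, hD.trans inf_le_left, inv_of_le_E (hD.trans inf_le_right), ?_, ?_⟩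
      · rw [inf_eq_left.mpr (hD.trans inf_le_right), hDd]
      · rw [hDd]; simp
    | succ k ih =>
      obtain ⟨W, hWC, hW⟩ := ih (by omega)
      -- W ⊔ (C ⊓ E)
      have hCE : Inv T (C ⊓ E T y) := inv_of_le_E inf_le_right
      have hsub : W ⊔ (C ⊓ E T y) ≤ C := sup_le hWC inf_le_left
      obtain ⟨B, hBC, hB, hdis, hsup⟩ := h.compl_in (hW.inv.sup hCE) hC.inv hsub
      have hBne : B ≠ ⊥ := by
        rintro rfl
        rw [sup_bot_eq] at hsup
        have e1 := Submodule.finrank_sup_add_finrank_inf_eq W (C ⊓ E T y)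
        rw [hsup, hC.fin, hW.fin, hC.fin_e] at e1
        have h2 : W ⊓ (C ⊓ E T y) = W ⊓ E T y := by
          rw [← inf_assoc, inf_eq_left.mpr hWC]
        rw [h2, hW.fin_e] at e1
        have h3 : (k + 1) * a ≤ s * a := Nat.mul_le_mul_right a hk
        have := h.pos
        rw [Nat.add_mul] at h3
        omega
      have hBd : Disjoint (E T y) B := by
        rw [disjoint_iff, eq_bot_iff, ← hdis.eq_bot]
        refine le_inf ?_ inf_le_right
        exact (le_inf (inf_le_right.trans hBC) inf_le_left).trans le_sup_right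
      obtain ⟨U, hUB, hU, hUa⟩ := h.ex B hB hBne hBd
      have hUty : Ty T y a U 0 1 := by
        refine ⟨hU, ?_, by rw [hUa]; simp⟩
        have : U ⊓ E T y = ⊥ := by
          rw [inf_comm]; exact (hBd.mono_right hUB).eq_bot
        rw [this]; simp
      have hWU : Disjoint W U := hdis.mono le_sup_left hUB
      exact ⟨W ⊔ U, sup_le hWC (hUB.trans hBC), by simpa using hW.sup hUty hWU⟩
  obtain ⟨W, hWC, hW⟩ := hW
  obtain ⟨W', hW'C, hW', hdis, hsup⟩ := h.compl_in hW.inv hC.inv hWC
  rw [← hsup] at hC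
  obtain ⟨-, -, h3⟩ := h.ty_of_sup hW hW' hdis hC
  exact ⟨W, W', hW, h3, hdis, hsup⟩

/-- splitting into several pieces -/
lemma split_many {t : ℕ} {d k : Fin t → ℕ} {C : Submodule F V}
    (hC : Ty T y a C (∑ i, d i) (∑ i, k i)) :
    ∃ D : Fin t → Submodule F V, (∀ i, Ty T y a (D i) (d i) (k i)) ∧ iSupIndep D ∧ iSup D = C := by
  induction t generalizing C with
  | zero =>
    refine ⟨Fin.elim0, fun i => i.elim0, fun i => i.elim0, ?_⟩
    have : Module.finrank F C = 0 := by simpa using hC.fin
    rw [iSup_of_empty]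
    exact (Submodule.finrank_eq_zero.mp this).symm
  | succ t ih =>
    rw [Fin.sum_univ_succ, Fin.sum_univ_succ] at hC
    obtain ⟨W, W', hW, hW', hdis, hsup⟩ := h.split hC (Nat.le_add_right (d 0) _) (Nat.le_add_right (k 0) _)
    rw [Nat.add_sub_cancel_left, Nat.add_sub_cancel_left] at hW'
    obtain ⟨D, hD, hind, hD'⟩ := ih hW'
    refine ⟨Fin.cons W D, ?_, ?_, ?_⟩
    · intro i
      refine Fin.cases ?_ (fun j => ?_) i
      · exact hW
      · exact hD j
    · -- independence
      rw [iSupIndep_def]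
      intro i
      refine Fin.cases ?_ (fun j => ?_) i
      · rw [Fin.cons_zero]
        refine hdis.mono_right ?_
        rw [← hD']
        apply iSup_le; intro j; apply iSup_le; intro hj
        obtain ⟨j', rfl⟩ := Fin.exists_succ_eq.mpr hj
        rw [Fin.cons_succ]; exact le_iSup D j'
      · rw [Fin.cons_succ]
        have h1 : (⨆ (l : Fin (t+1)) (_ : l ≠ j.succ), (Fin.cons W D : Fin (t+1) → Submodule F V) l) ≤
            W ⊔ ⨆ (l : Fin t) (_ : l ≠ j), D l := by
          apply iSup_le; intro l; apply iSup_le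
          refine Fin.cases ?_ (fun l' => ?_) l
          · intro _; rw [Fin.cons_zero]; exact le_sup_left
          · intro hl
            rw [Fin.cons_succ]
            refine le_trans ?_ le_sup_right
            exact le_iSup₂_of_le l' (fun h => hl (by rw [h])) le_rfl
        refine Disjoint.mono_right h1 ?_
        have h2 := (iSupIndep_def.mp hind) j
        set S := ⨆ (l : Fin t) (_ : l ≠ j), D l with hS
        have hjW' : D j ≤ W' := by rw [← hD']; exact le_iSup D j
        have hSW' : S ≤ W' := by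
          rw [← hD', hS]; apply iSup_le; intro l; apply iSup_le; intro _; exact le_iSup D l
        -- D j ⊓ (W ⊔ S) ≤ W' ⊓ (W ⊔ S) = S (modular)
        rw [disjoint_iff, eq_bot_iff, ← h2.eq_bot]
        have h3 : D j ⊓ (W ⊔ S) ≤ S := by
          calc D j ⊓ (W ⊔ S) ≤ W' ⊓ (W ⊔ S) := inf_le_inf_right _ hjW'
            _ = (S ⊔ W) ⊓ W' := by rw [inf_comm, sup_comm]
            _ = S ⊔ W ⊓ W' := by rw [sup_inf_assoc_of_le W hSW']
            _ = S := by rw [hdis.eq_bot, sup_bot_eq]
        exact le_inf inf_le_left h3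
    · rw [← hsup, ← hD']
      apply le_antisymm
      · apply iSup_le
        intro i
        refine Fin.cases ?_ (fun j => ?_) i
        · rw [Fin.cons_zero]; exact le_sup_left
        · rw [Fin.cons_succ]; exact le_trans (le_iSup D j) le_sup_right
      · apply sup_le
        · exact le_iSup_of_le 0 (by rw [Fin.cons_zero])
        · apply iSup_le; intro j
          exact le_iSup_of_le j.succ (by rw [Fin.cons_succ])

end SS

end Cfsg.Agent.Lib.PrimeOrd
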