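import Mathlib
import Cfsg.Agent.Lib.PrimeOrd

/-! Elements of prime order modulo scalars over finite fields: structure and existence. (helper99) -/

set_option autoImplicit false

namespace Cfsg.Agent.Lib.PrimeOrd

open Polynomial Cfsg.Agent.Lib.InvSub

variable {F V : Type*} [Field F] [AddCommGroup V] [Module F V]

lemma E_smul {T : Module.End F V} {y c : F} (hc : c ≠ 0) : E (c • T) (c * y) = E T y := by
  ext v
  rw [Module.End.mem_eigenspace_iff, Module.End.mem_eigenspace_iff, LinearMap.smul_apply, mul_smul]
  exact (smul_right_injective V hc).eq_iff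

lemma inv_smul {T : Module.End F V} {c : F} (hc : c ≠ 0) {W : Submodule F V} : Inv (c • T) W ↔ Inv T W := by
  constructor
  · intro h x hx
    have := W.smul_mem c⁻¹ (h x hx)
    rwa [LinearMap.smul_apply, smul_smul, inv_mul_cancel₀ hc, one_smul] at this
  · intro h x hx
    exact W.smul_mem c (h x hx)

lemma SS.smul {T : Module.End F V} {y : F} {a : ℕ} (h : SS T y a) {c : F} (hc : c ≠ 0) : SS (c • T) (c * y) a := by
  refine ⟨h.pos, ?_, ?_⟩
  · intro W hW
    obtain ⟨W', h1, h2⟩ := h.compl W ((inv_smul hc).mp hW)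
    exact ⟨W', (inv_smul hc).mpr h1, h2⟩
  · intro W hW hne hd
    rw [E_smul hc] at hd
    obtain ⟨U, h1, h2, h3⟩ := h.ex W ((inv_smul hc).mp hW) hne hd
    exact ⟨U, h1, (inv_smul hc).mpr h2, h3⟩

section finite

variable [Fintype F]

lemma orderOf_coprime {q r : ℕ} (h : q.Coprime r) :
    orderOf (ZMod.unitOfCoprime q h) = orderOf ((q : ℕ) : ZMod r) := by
  rw [← orderOf_units, ZMod.coe_unitOfCoprime]

/-- irreducible factors of the cyclotomic polynomial -/
lemma natDegree_irred_cyclotomic {p r : ℕ} [Fact p.Prime] [CharP F p] [Fact r.Prime] (hrp : r ≠ p)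
    {f : F[X]} (hf : Irreducible f) (hd : f ∣ cyclotomic r F) :
    f.natDegree = orderOf ((Fintype.card F : ℕ) : ZMod r) := by
  obtain ⟨n, hp, hn⟩ := FiniteField.card F p
  have hcop : p.Coprime r := (Nat.coprime_primes (Fact.out) (Fact.out)).mpr (Ne.symm hrp)
  rw [natDegree_of_dvd_cyclotomic_of_irreducible hn hcop hd hf, orderOf_coprime, ← hn]

omit [Fintype F] in
lemma cast_ne_zero {p r : ℕ} [Fact p.Prime] [CharP F p] [Fact r.Prime] (hrp : r ≠ p) : (r : F) ≠ 0 := by
  intro h
  rw [CharP.cast_eq_zero_iff F p r] at h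
  exact hrp ((Nat.prime_dvd_prime_iff_eq Fact.out Fact.out).mp h).symm

lemma order_pos {p r : ℕ} [Fact p.Prime] [CharP F p] [Fact r.Prime] (hrp : r ≠ p) :
    0 < orderOf ((Fintype.card F : ℕ) : ZMod r) := by
  obtain ⟨n, hp, hn⟩ := FiniteField.card F p
  have hcop : (p ^ (n : ℕ)).Coprime r :=
    Nat.Coprime.pow_left _ ((Nat.coprime_primes (Fact.out) (Fact.out)).mpr (Ne.symm hrp))
  rw [hn, ← orderOf_coprime hcop]
  exact orderOf_pos _

/-- type B: `T ^ r = y ^ r` -/
theorem ssB {p r : ℕ} [Fact p.Prime] [CharP F p] [Fact r.Prime] (hrp : r ≠ p) {T : Module.End F V} {y : F}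
    (hy : y ≠ 0) (hT : T ^ r = (y ^ r) • (1 : Module.End F V)) :
    SS T y (orderOf ((Fintype.card F : ℕ) : ZMod r)) := by
  have hS : (y⁻¹ • T) ^ r = 1 := by
    rw [_root_.smul_pow, hT, smul_smul, ← mul_pow, inv_mul_cancel₀ hy, one_pow, one_smul]
  have hr : (r : F) ≠ 0 := cast_ne_zero (p := p) hrp
  have h1 : SS (y⁻¹ • T) 1 (orderOf ((Fintype.card F : ℕ) : ZMod r)) := by
    refine SS.of_poly (order_pos (p := p) hrp) (P := X ^ r - C 1)
      (separable_X_pow_sub_C (1 : F) hr one_ne_zero).squarefree ?_ ?_
    · simp [hS]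
    · intro f hf hd
      rw [C_1, ← cyclotomic_prime_mul_X_sub_one] at hd
      rcases hf.prime.dvd_or_dvd hd with h | h
      · exact Or.inl (natDegree_irred_cyclotomic hrp hf h)
      · right; simpa using h
  have := h1.smul hy
  rwa [smul_smul, mul_inv_cancel₀ hy, one_smul, mul_one] at this

omit [Fintype F] in
/-- type C: `T ^ r = z`, `z` not an `r`-th power. -/
theorem ssC {r : ℕ} (hr : r.Prime) {T : Module.End F V} {z : F}
    (hz : ∀ y : F, y ^ r ≠ z) (hT : T ^ r = z • (1 : Module.End F V)) :
    SS T 0 r ∧ E T 0 = ⊥ := by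
  have hz0 : z ≠ 0 := fun h => hz 0 (by rw [h, zero_pow hr.ne_zero])
  have hirr := X_pow_sub_C_irreducible_of_prime hr hz
  refine ⟨SS.of_poly hr.pos (P := X ^ r - C z) hirr.squarefree ?_ ?_, ?_⟩
  · rw [map_sub, map_pow, aeval_X, aeval_C, hT, Algebra.algebraMap_eq_smul_one, sub_self]
  · intro f hf hd
    left
    have := hf.associated_of_dvd hirr hd
    rw [natDegree_eq_of_degree_eq (degree_eq_degree_of_associated this), natDegree_X_pow_sub_C]
  · rw [eq_bot_iff]
    intro v hv
    rw [Module.End.mem_eigenspace_iff, zero_smul] at hv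
    have h1 : (T ^ r) v = z • v := by rw [hT]; rfl
    have h2 : (T ^ r) v = 0 := by
      obtain ⟨k, hk⟩ : ∃ k, r = k + 1 := ⟨r - 1, by have := hr.pos; omega⟩
      rw [hk, pow_succ, Module.End.mul_apply, hv, map_zero]
    rw [h2] at h1
    exact (Submodule.mem_bot F).mpr ((smul_eq_zero.mp h1.symm).resolve_left hz0)

end finite

/-- determinant in type C. -/
theorem detC {r : ℕ} (hr : r.Prime) {z : F} (hz : ∀ y : F, y ^ r ≠ z) :
    ∀ (n : ℕ) {V : Type _} [AddCommGroup V] [Module F V] [FiniteDimensional F V] (T : Module.End F V)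
      (_ : T ^ r = z • (1 : Module.End F V)) (_ : Module.finrank F V = n),
      ∃ k, n = r * k ∧ LinearMap.det T = ((-1) ^ (r + 1) * z) ^ k := by
  intro n
  induction n using Nat.strong_induction_on with
  | _ n ih =>
    intro V _ _ _ T hT hn
    have hirr := X_pow_sub_C_irreducible_of_prime hr hz
    rcases Nat.eq_zero_or_pos n with h0 | hpos
    · refine ⟨0, by simp [h0], ?_⟩
      have : Subsingleton V := Module.finrank_zero_iff.mp (hn.trans h0)
      rw [pow_zero, LinearMap.det_eq_one_of_subsingleton]
    · have hnt : Nontrivial V := Module.nontrivial_of_finrank_pos (R := F) (by omega)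
      obtain ⟨w, hw⟩ := exists_ne (0 : V)
      obtain ⟨U, hU, hUr, -, -⟩ := cyclic_aux (T := T) hirr hw (by
        rw [map_sub, map_pow, aeval_X, aeval_C, hT, Algebra.algebraMap_eq_smul_one, sub_self]; rfl)
      rw [natDegree_X_pow_sub_C] at hUr
      have hUle : U ≤ U.comap T := fun x hx => hU x hx
      have hfr : Module.finrank F (V ⧸ U) + Module.finrank F U = n := by
        rw [Submodule.finrank_quotient_add_finrank, hn]
      have hrpos := hr.pos
      have hQ : (U.mapQ U T hUle) ^ r = z • (1 : Module.End F (V ⧸ U)) := by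
        rw [← Submodule.mapQ_pow]
        ext v
        simp [hT]
      obtain ⟨k, hk, hdet⟩ := ih (Module.finrank F (V ⧸ U)) (by omega) (U.mapQ U T hUle) hQ rfl
      refine ⟨k + 1, by rw [mul_add, ← hk, ← hfr, hUr, mul_one], ?_⟩
      rw [LinearMap.det_eq_det_mul_det U T hUle, hdet, mul_comm]
      -- determinant on U
      have hTU : (T.restrict hUle) ^ r = z • (1 : Module.End F U) := by
        ext v
        rw [Module.End.pow_restrict]
        simp [hT]
      set TU := T.restrict hUle
      have haev : aeval TU (X ^ r - C z) = 0 := by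
        rw [map_sub, map_pow, aeval_X, aeval_C, hTU, Algebra.algebraMap_eq_smul_one, sub_self]
      have hntU : Nontrivial U := Module.nontrivial_of_finrank_pos (R := F) (by omega)
      have hmin : minpoly F TU = X ^ r - C z :=
        (minpoly.eq_of_irreducible_of_monic hirr haev (monic_X_pow_sub_C z hr.ne_zero)).symm
      have hchar : TU.charpoly = X ^ r - C z := by
        rw [← hmin]
        apply Polynomial.eq_of_monic_of_dvd_of_natDegree_le
        · exact minpoly.monic (Algebra.IsIntegral.isIntegral (R := F) TU)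
        · exact LinearMap.charpoly_monic TU
        · exact LinearMap.minpoly_dvd_charpoly TU
        · rw [LinearMap.charpoly_natDegree, hmin, natDegree_X_pow_sub_C, hUr]
      have hdU : LinearMap.det TU = (-1) ^ (r + 1) * z := by
        rw [LinearMap.det_eq_sign_charpoly_coeff, hchar, hUr]
        simp [hr.ne_zero.symm, pow_succ]
      rw [hdU, ← pow_succ]


section conj

variable {W : Type*} [AddCommGroup W] [Module F W]

lemma E_conj (e : V ≃ₗ[F] W) (T : Module.End F V) (y : F) : E (e.conj T) y = (E T y).map (e : V →ₗ[F] W) := by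
  ext w
  rw [Module.End.mem_eigenspace_iff, Submodule.mem_map]
  constructor
  · intro h
    refine ⟨e.symm w, ?_, by simp⟩
    rw [Module.End.mem_eigenspace_iff]
    rw [LinearEquiv.conj_apply_apply] at h
    have := congrArg e.symm h
    simpa using this
  · rintro ⟨v, hv, rfl⟩
    rw [Module.End.mem_eigenspace_iff] at hv
    rw [LinearEquiv.conj_apply_apply]
    simp [hv]

lemma conj_pow (e : V ≃ₗ[F] W) (T : Module.End F V) (n : ℕ) : e.conj (T ^ n) = (e.conj T) ^ n := by
  induction n with
  | zero => ext; simp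
  | succ n ih =>
    rw [pow_succ, pow_succ, ← ih]
    ext w
    simp

lemma aeval_conj (e : V ≃ₗ[F] W) (T : Module.End F V) (P : F[X]) : aeval (e.conj T) P = e.conj (aeval T P) := by
  induction P using Polynomial.induction_on' with
  | add p q hp hq => rw [map_add, map_add, hp, hq, map_add]
  | monomial n c =>
    rw [aeval_monomial, aeval_monomial, ← conj_pow]
    ext w
    simp

lemma aeval_prodMap (A : Module.End F V) (B : Module.End F W) (P : F[X]) (m : V × W) :
    aeval (LinearMap.prodMap A B : Module.End F (V × W)) P m = (aeval A P m.1, aeval B P m.2) := by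
  induction P using Polynomial.induction_on' generalizing m with
  | add p q hp hq =>
    rw [map_add, map_add, map_add, LinearMap.add_apply, hp, hq, LinearMap.add_apply, LinearMap.add_apply,
      Prod.mk_add_mk]
  | monomial n c =>
    have key : ∀ (n : ℕ) (m : V × W), ((LinearMap.prodMap A B : Module.End F (V × W)) ^ n) m =
        ((A ^ n) m.1, (B ^ n) m.2) := by
      intro n
      induction n with
      | zero => intro m; simp
      | succ n ih => intro m; rw [pow_succ, Module.End.mul_apply, ih, pow_succ, pow_succ]; rfl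
    rw [aeval_monomial, aeval_monomial, aeval_monomial, Module.End.mul_apply, key]
    rfl

end conj

section exist

/-- multiplication by the root on `L ^ k`. -/
theorem exists_mulRoot {f : F[X]} (hf : Irreducible f) (k : ℕ) [FiniteDimensional F V]
    (hn : Module.finrank F V = f.natDegree * k) :
    ∃ T : Module.End F V, aeval T f = 0 := by
  have : Fact (Irreducible f) := ⟨hf⟩
  let L := AdjoinRoot f
  have hfd : FiniteDimensional F L := (AdjoinRoot.powerBasis hf.ne_zero).finite
  have hL : Module.finrank F L = f.natDegree := by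
    rw [(AdjoinRoot.powerBasis hf.ne_zero).finrank, AdjoinRoot.powerBasis_dim]
  have hM : Module.finrank F (Fin k → L) = Module.finrank F V := by
    rw [Module.finrank_pi_fintype, Finset.sum_const, hL, hn]
    simp [mul_comm]
  let e : (Fin k → L) ≃ₗ[F] V := LinearEquiv.ofFinrankEq _ _ hM
  let T0 : Module.End F (Fin k → L) := Algebra.lsmul F F (Fin k → L) (AdjoinRoot.root f)
  refine ⟨e.conj T0, ?_⟩
  rw [aeval_conj]
  have : aeval T0 f = 0 := by
    rw [show T0 = Algebra.lsmul F F (Fin k → L) (AdjoinRoot.root f) from rfl, aeval_algHom_apply]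
    rw [AdjoinRoot.aeval_eq, AdjoinRoot.mk_self, map_zero]
  rw [this, map_zero]

/-- blocks of type `f` plus `y` times the identity. -/
theorem exists_blocks {f : F[X]} (hf : Irreducible f) {y : F} (hfy : f.eval y ≠ 0) (s k : ℕ) [FiniteDimensional F V]
    (hn : Module.finrank F V = k + s * f.natDegree) :
    ∃ T : Module.End F V, aeval T ((X - C y) * f) = 0 ∧ Module.finrank F (E T y) = k := by
  obtain ⟨T1, hT1⟩ := exists_mulRoot (V := Fin (f.natDegree * s) → F) hf s (by simp)
  let M := (Fin k → F) × (Fin (f.natDegree * s) → F)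
  have hM : Module.finrank F M = Module.finrank F V := by
    simp [M, hn, mul_comm]
  let e : M ≃ₗ[F] V := LinearEquiv.ofFinrankEq _ _ hM
  let T0 : Module.End F M := LinearMap.prodMap (y • (1 : Module.End F _)) T1
  refine ⟨e.conj T0, ?_, ?_⟩
  · rw [aeval_conj]
    have h0 : aeval T0 ((X - C y) * f) = 0 := by
      apply LinearMap.ext
      intro m
      rw [aeval_prodMap]
      have h1 : aeval (y • (1 : Module.End F (Fin k → F))) ((X - C y) * f) = 0 := by
        rw [map_mul, map_sub, aeval_X, aeval_C, Algebra.algebraMap_eq_smul_one, sub_self, zero_mul]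
      have h2 : aeval T1 ((X - C y) * f) = 0 := by rw [map_mul, hT1, mul_zero]
      rw [h1, h2]; rfl
    rw [h0, map_zero]
  · rw [E_conj, LinearEquiv.finrank_map_eq]
    have hE : E T0 y = LinearMap.range (LinearMap.inl F (Fin k → F) (Fin (f.natDegree * s) → F)) := by
      ext ⟨u, v⟩
      rw [Module.End.mem_eigenspace_iff, LinearMap.mem_range]
      constructor
      · intro h
        have h2 : T1 v = y • v := congrArg Prod.snd h
        have h3 : aeval T1 f v = f.eval y • v := by
          have := Module.End.aeval_apply_of_hasEigenvector (f := T1) (p := f) (μ := y) (x := v)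
          by_cases hv : v = 0
          · simp [hv]
          · exact this ⟨Module.End.mem_eigenspace_iff.mpr h2, hv⟩
        rw [hT1] at h3
        have h4 : v = 0 := (smul_eq_zero.mp h3.symm).resolve_left hfy
        exact ⟨u, by rw [h4]; rfl⟩
      · rintro ⟨w, hw⟩
        obtain ⟨rfl, rfl⟩ : w = u ∧ 0 = v := ⟨congrArg Prod.fst hw, congrArg Prod.snd hw⟩
        change ((y • (1 : Module.End F (Fin k → F))) w, T1 0) = (y • w, y • (0 : Fin (f.natDegree * s) → F))
        simp
    rw [hE, LinearMap.finrank_range_of_inj LinearMap.inl_injective]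
    simp

end exist

end Cfsg.Agent.Lib.PrimeOrd
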