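import Mathlib
import Cfsg.Agent.Lib.InvSub

/-! Number of subspaces of given dimension over a finite field. (helper99) -/

set_option autoImplicit false

namespace Cfsg.Agent.Lib.SubspaceCount

open Module

variable {F V : Type*} [Field F] [Fintype F] [AddCommGroup V] [Module F V] [Finite V]

omit [Fintype F] in
lemma span_eq_of_li {m : ℕ} {W : Submodule F V} (hW : Module.finrank F W = m) {s : Fin m → V}
    (hs : LinearIndependent F s) (hsW : ∀ i, s i ∈ W) : Submodule.span F (Set.range s) = W := by
  have hfin : FiniteDimensional F V := Module.Finite.of_finite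
  apply Submodule.eq_of_le_of_finrank_eq
  · rw [Submodule.span_le]; rintro _ ⟨i, rfl⟩; exact hsW i
  · rw [finrank_span_eq_card hs, Fintype.card_fin, hW]

/-- number of `m`-subspaces times the number of bases of one. -/
theorem card_subspaces_mul {m : ℕ} (hm : m ≤ Module.finrank F V) :
    Nat.card {W : Submodule F V // Module.finrank F W = m} *
      ∏ i : Fin m, (Fintype.card F ^ m - Fintype.card F ^ (i : ℕ)) =
      ∏ i : Fin m, (Fintype.card F ^ (Module.finrank F V) - Fintype.card F ^ (i : ℕ)) := by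
  classical
  rw [← card_linearIndependent hm]
  let A := {s : Fin m → V // LinearIndependent F s}
  let B := {W : Submodule F V // Module.finrank F W = m}
  let f : A → B := fun s => ⟨Submodule.span F (Set.range s.1), by rw [finrank_span_eq_card s.2, Fintype.card_fin]⟩
  have hfib : ∀ W : B, Nat.card {s : A // f s = W} = ∏ i : Fin m, (Fintype.card F ^ m - Fintype.card F ^ (i : ℕ)) := by
    intro W
    have hWf : Finite W.1 := inferInstance
    have h1 := card_linearIndependent (K := F) (V := W.1) (k := m) (by rw [W.2])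
    rw [W.2] at h1
    rw [← h1]
    refine Nat.card_congr ⟨fun s => ⟨fun i => ⟨s.1.1 i, ?_⟩, ?_⟩, fun t => ⟨⟨fun i => (t.1 i : V), ?_⟩, ?_⟩, ?_, ?_⟩
    · have h2 : Submodule.span F (Set.range s.1.1) = W.1 := congrArg Subtype.val s.2
      rw [← h2]
      exact Submodule.subset_span ⟨i, rfl⟩
    · exact LinearIndependent.of_comp W.1.subtype (by exact s.1.2)
    · exact t.2.map' W.1.subtype W.1.ker_subtype
    · apply Subtype.ext
      exact span_eq_of_li W.2 (t.2.map' W.1.subtype W.1.ker_subtype) (fun i => (t.1 i).2)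
    · intro s; rfl
    · intro t; rfl
  have h2 : Nat.card A = Nat.card B * ∏ i : Fin m, (Fintype.card F ^ m - Fintype.card F ^ (i : ℕ)) := by
    rw [Nat.card_congr (Equiv.sigmaFiberEquiv f).symm]
    have : Fintype B := Fintype.ofFinite B
    rw [Nat.card_sigma, Finset.sum_congr rfl (fun W _ => hfib W), Finset.sum_const, Finset.card_univ,
      Nat.card_eq_fintype_card, smul_eq_mul]
  exact h2.symm

/-- Gaussian binomial relation -/
theorem card_subspaces {m : ℕ} (hm : m ≤ Module.finrank F V) :
    Nat.card {W : Submodule F V // Module.finrank F W = m} *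
      ∏ i ∈ Finset.range m, (Fintype.card F ^ (m - i) - 1) =
      ∏ i ∈ Finset.range m, (Fintype.card F ^ (Module.finrank F V - i) - 1) := by
  have h := card_subspaces_mul (F := F) (V := V) hm
  set q := Fintype.card F
  set n := Module.finrank F V
  have hq : 0 < q := Fintype.card_pos
  have hfac : ∀ N, m ≤ N → ∏ i : Fin m, (q ^ N - q ^ (i : ℕ)) =
      (∏ i ∈ Finset.range m, q ^ i) * ∏ i ∈ Finset.range m, (q ^ (N - i) - 1) := by
    intro N hN
    rw [Finset.prod_range, Finset.prod_range, ← Finset.prod_mul_distrib]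
    apply Finset.prod_congr rfl
    intro i _
    rw [Nat.mul_sub, mul_one, ← pow_add]
    congr 2
    omega
  rw [hfac m le_rfl, hfac n hm] at h
  have hpos : 0 < ∏ i ∈ Finset.range m, q ^ i := Finset.prod_pos (fun i _ => pow_pos hq i)
  apply Nat.eq_of_mul_eq_mul_left hpos
  rw [← h]; ring

/-- a prime dividing `q` does not divide the number of `m`-subspaces. -/
theorem not_dvd_card {m : ℕ} (hm : m ≤ Module.finrank F V) {p : ℕ} (hp : p.Prime) (hpq : p ∣ Fintype.card F) :
    ¬ p ∣ Nat.card {W : Submodule F V // Module.finrank F W = m} := by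
  intro h
  have h1 : p ∣ ∏ i ∈ Finset.range m, (Fintype.card F ^ (Module.finrank F V - i) - 1) := by
    rw [← card_subspaces hm]; exact h.mul_right _
  rw [Prime.dvd_finset_prod_iff hp.prime] at h1
  obtain ⟨i, hi, hi'⟩ := h1
  rw [Finset.mem_range] at hi
  have h2 : p ∣ Fintype.card F ^ (Module.finrank F V - i) := dvd_pow hpq (by omega)
  have h3 : 1 ≤ Fintype.card F ^ (Module.finrank F V - i) := Nat.one_le_pow _ _ Fintype.card_pos
  have h4 := (Nat.dvd_sub_iff_right h3 h2).mp hi'
  exact hp.one_lt.ne' (Nat.dvd_one.mp h4)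

/-- a prime dividing the number of `m`-subspaces divides `q^(n-i)-1` for some `i < m`. -/
theorem exists_dvd {m : ℕ} (hm : m ≤ Module.finrank F V) {r : ℕ} (hr : r.Prime)
    (h : r ∣ Nat.card {W : Submodule F V // Module.finrank F W = m}) :
    ∃ i < m, r ∣ Fintype.card F ^ (Module.finrank F V - i) - 1 := by
  have h1 : r ∣ ∏ i ∈ Finset.range m, (Fintype.card F ^ (Module.finrank F V - i) - 1) := by
    rw [← card_subspaces hm]; exact h.mul_right _
  rw [Prime.dvd_finset_prod_iff hr.prime] at h1
  obtain ⟨i, hi, hi'⟩ := h1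
  exact ⟨i, Finset.mem_range.mp hi, hi'⟩

/-- divisibility through the multiplicative order -/
theorem orderOf_dvd_of_dvd {q r k : ℕ} (hq : 0 < q) (h : r ∣ q ^ k - 1) : orderOf (q : ZMod r) ∣ k := by
  apply orderOf_dvd_of_pow_eq_one
  have h1 : (1 : ℕ) ≤ q ^ k := Nat.one_le_pow _ _ hq
  have h2 : ((q ^ k - 1 : ℕ) : ZMod r) = 0 := (ZMod.natCast_eq_zero_iff _ _).mpr h
  rw [Nat.cast_sub h1, Nat.cast_pow, Nat.cast_one, sub_eq_zero] at h2
  exact h2

theorem dvd_of_orderOf_dvd {q r k : ℕ} (hq : 0 < q) (h : orderOf (q : ZMod r) ∣ k) : r ∣ q ^ k - 1 := by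
  have h1 : (1 : ℕ) ≤ q ^ k := Nat.one_le_pow _ _ hq
  rw [← ZMod.natCast_eq_zero_iff, Nat.cast_sub h1, Nat.cast_pow, Nat.cast_one, sub_eq_zero]
  exact orderOf_dvd_iff_pow_eq_one.mp h

end Cfsg.Agent.Lib.SubspaceCount
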