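import Mathlib
import Cfsg.Agent.Lib.PrimeOrd2
import Cfsg.Agent.Lib.SubspaceCount

/-! Elements of prime order modulo scalars in SL_n over a finite field, acting on subspaces. (helper99) -/

set_option autoImplicit false

namespace Cfsg.Agent.Lib.ElusiveLin

open Polynomial Cfsg.Agent.Lib.InvSub Cfsg.Agent.Lib.PrimeOrd Cfsg.Agent.Lib.SubspaceCount

section numbers

variable {F : Type*} [Field F] [Fintype F]

/-- if `r ∣ q - 1`, `c ^ k = 1` and `v_r(k) < v_r(q-1)` then `c` is an `r`-th power. -/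
lemma isPow_of_pow_eq_one {r : ℕ} (hr : r.Prime) {c : F} {k : ℕ} (hk : 0 < k) (hc : c ^ k = 1)
    (hv : padicValNat r k < padicValNat r (Fintype.card F - 1)) : ∃ b : F, b ^ r = c := by
  classical
  have hFr : Fact r.Prime := ⟨hr⟩
  have hc0 : c ≠ 0 := by
    rintro rfl
    rw [zero_pow hk.ne'] at hc
    exact zero_ne_one hc
  set N := Fintype.card F - 1 with hN
  have hNpos : 0 < N := by
    have := Fintype.one_lt_card (α := F)
    omega
  have hcN : c ^ N = 1 := FiniteField.pow_card_sub_one_eq_one c hc0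
  set d := Nat.gcd k N with hd
  have hdpos : 0 < d := Nat.gcd_pos_of_pos_left _ hk
  have hcd : c ^ d = 1 := by
    have h1 : orderOf c ∣ d := Nat.dvd_gcd (orderOf_dvd_of_pow_eq_one hc) (orderOf_dvd_of_pow_eq_one hcN)
    exact orderOf_dvd_iff_pow_eq_one.mp h1
  obtain ⟨e, he⟩ : d ∣ N := Nat.gcd_dvd_right _ _
  have hepos : e ≠ 0 := by rintro rfl; simp at he; omega
  have hvd : padicValNat r d ≤ padicValNat r k :=
    (padicValNat_dvd_iff_le hk.ne').mp (dvd_trans pow_padicValNat_dvd (Nat.gcd_dvd_left k N))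
  have hre : r ∣ e := by
    by_contra hne
    have h0 : padicValNat r e = 0 := padicValNat.eq_zero_of_not_dvd hne
    have h1 : padicValNat r N = padicValNat r d := by
      rw [he, padicValNat.mul hdpos.ne' hepos, h0, add_zero]
    omega
  obtain ⟨e', he'⟩ := hre
  -- c = g ^ j
  obtain ⟨g, hg⟩ := IsCyclic.exists_generator (α := Fˣ)
  obtain ⟨j, hj⟩ := (Submonoid.mem_powers_iff _ _).mp (mem_powers_iff_mem_zpowers.mpr (hg (Units.mk0 c hc0)))
  have hord : orderOf g = N := by
    rw [orderOf_eq_card_of_forall_mem_zpowers hg, Nat.card_eq_fintype_card, Fintype.card_units]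
  have h2 : g ^ (j * (d * e')) = 1 := by
    rw [pow_mul, hj]
    ext
    simp only [Units.val_pow_eq_pow_val, Units.val_mk0, Units.val_one]
    rw [pow_mul, hcd, one_pow]
  have h3 : N ∣ j * (d * e') := by rw [← hord]; exact orderOf_dvd_of_pow_eq_one h2
  have h4 : N = r * (d * e') := by rw [he, he']; ring
  have hde : 0 < d * e' := by
    rcases Nat.eq_zero_or_pos (d * e') with h | h
    · rw [h, mul_zero] at h4; omega
    · exact h
  have h5 : r ∣ j := by
    rw [h4] at h3
    exact Nat.dvd_of_mul_dvd_mul_right hde h3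
  obtain ⟨j', rfl⟩ := h5
  refine ⟨((g ^ j' : Fˣ) : F), ?_⟩
  have h6 : (g ^ j') ^ r = Units.mk0 c hc0 := by rw [← pow_mul, mul_comm, hj]
  have := congrArg (Units.val) h6
  simpa using this

/-- existence of a non-`r`-th power of order the full `r`-part of `q - 1`. -/
lemma exists_nonpow {r : ℕ} (hr : r.Prime) (hrq : r ∣ Fintype.card F - 1) :
    ∃ c : F, (∀ b : F, b ^ r ≠ c) ∧ ∀ k, r ^ (padicValNat r (Fintype.card F - 1)) ∣ k → c ^ k = 1 := by
  classical
  have hFr : Fact r.Prime := ⟨hr⟩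
  set N := Fintype.card F - 1 with hN
  have hNpos : 0 < N := by
    have := Fintype.one_lt_card (α := F)
    omega
  set a := padicValNat r N with ha
  have ha1 : 1 ≤ a := one_le_padicValNat_of_dvd hNpos.ne' hrq
  obtain ⟨g, hg⟩ := IsCyclic.exists_generator (α := Fˣ)
  have hord : orderOf g = N := by
    rw [orderOf_eq_card_of_forall_mem_zpowers hg, Nat.card_eq_fintype_card, Fintype.card_units]
  obtain ⟨t, ht⟩ : r ^ a ∣ N := pow_padicValNat_dvd
  have htpos : 0 < t := by
    rcases Nat.eq_zero_or_pos t with h | h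
    · rw [h, mul_zero] at ht; omega
    · exact h
  refine ⟨((g ^ t : Fˣ) : F), ?_, ?_⟩
  · intro b hb
    have hb0 : b ≠ 0 := by
      rintro rfl
      rw [zero_pow hr.ne_zero] at hb
      exact (g ^ t).ne_zero hb.symm
    have h1 : (Units.mk0 b hb0) ^ r = g ^ t := by ext; simpa using hb
    have h2 : (g ^ t) ^ (N / r) = 1 := by
      have hNc : Fintype.card Fˣ = N := Fintype.card_units F
      rw [← h1, ← pow_mul, Nat.mul_div_cancel' hrq, ← hNc, pow_card_eq_one]
    rw [← pow_mul] at h2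
    have h3 : N ∣ t * (N / r) := by
      have := orderOf_dvd_of_pow_eq_one h2
      rwa [hord] at this
    obtain ⟨a', ha'⟩ : ∃ a', a = a' + 1 := ⟨a - 1, by omega⟩
    have h4 : N / r = r ^ a' * t := by
      rw [ht, ha', pow_succ, show r ^ a' * r * t = r * (r ^ a' * t) by ring, Nat.mul_div_cancel_left _ hr.pos]
    rw [h4] at h3
    have h5 : r ^ a * t ∣ (r ^ a' * t) * t := by rw [← ht]; convert h3 using 1; ring
    have h6 : r ^ a ∣ r ^ a' * t := Nat.dvd_of_mul_dvd_mul_right htpos h5
    rw [ha', pow_succ] at h6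
    have h7 : r ∣ t := Nat.dvd_of_mul_dvd_mul_left (pow_pos hr.pos a') h6
    -- then r^(a+1) ∣ N
    have h8 : r ^ (a + 1) ∣ N := by rw [ht, pow_succ]; exact mul_dvd_mul_left _ h7
    have h9 := (padicValNat_dvd_iff_le hNpos.ne').mp h8
    omega
  · rintro k ⟨k', rfl⟩
    have : (g ^ t) ^ (r ^ a * k') = 1 := by
      rw [← pow_mul, show t * (r ^ a * k') = N * k' by rw [ht]; ring, pow_mul, ← hord, pow_orderOf_eq_one, one_pow]
    have := congrArg Units.val this
    simpa using this

/-- the arithmetic condition attached to type C elements of `SL_n` -/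
def CondC (q n r : ℕ) : Prop := padicValNat r n ≤ padicValNat r (q - 1) ∧ (r = 2 → Even n → q % 4 = 1)

lemma not_typeC {r n k : ℕ} (hr : r.Prime) {c : F} (hc : ∀ b : F, b ^ r ≠ c) (hn : n = r * k) (hk : 0 < k)
    (hdet : ((-1) ^ (r + 1) * c) ^ k = 1) (hcond : CondC (Fintype.card F) n r) : False := by
  have hFr : Fact r.Prime := ⟨hr⟩
  obtain ⟨h1, h2⟩ := hcond
  have hvn : padicValNat r n = 1 + padicValNat r k := by
    rw [hn, padicValNat.mul hr.ne_zero hk.ne', padicValNat_self]
  rcases hr.eq_two_or_odd' with h | h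
  · subst h
    have heven : Even n := by rw [hn]; exact even_two_mul k
    have hq := h2 rfl heven
    have h3 : ((-1) ^ (2 + 1) * c) = -c := by ring
    rw [h3] at hdet
    obtain ⟨b, hb⟩ := isPow_of_pow_eq_one Nat.prime_two hk hdet (by omega)
    -- -1 is a square
    have h4 : IsSquare (-1 : F) := FiniteField.isSquare_neg_one_iff.mpr (by omega)
    obtain ⟨i, hi⟩ := h4
    apply hc (i * b)
    rw [mul_pow, hb, pow_two, ← hi]; ring
  · have h3 : ((-1 : F) ^ (r + 1) * c) = c := by rw [(h.add_one).neg_one_pow, one_mul]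
    rw [h3] at hdet
    obtain ⟨b, hb⟩ := isPow_of_pow_eq_one hr hk hdet (by omega)
    exact hc b hb

lemma exists_typeC {r n : ℕ} (hr : r.Prime) (hrq : r ∣ Fintype.card F - 1) (hn : 0 < n) (hrn : r ∣ n)
    (hcond : ¬ CondC (Fintype.card F) n r) :
    ∃ c : F, (∀ b : F, b ^ r ≠ c) ∧ ((-1) ^ (r + 1) * c) ^ (n / r) = 1 := by
  have hFr : Fact r.Prime := ⟨hr⟩
  obtain ⟨k, hk⟩ := hrn
  have hkpos : 0 < k := by
    rcases Nat.eq_zero_or_pos k with h | h
    · rw [h, mul_zero] at hk; omega
    · exact h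
  have hdiv : n / r = k := by rw [hk, Nat.mul_div_cancel_left _ hr.pos]
  have hvn : padicValNat r n = 1 + padicValNat r k := by
    rw [hk, padicValNat.mul hr.ne_zero hkpos.ne', padicValNat_self]
  have hNpos : Fintype.card F - 1 ≠ 0 := by
    have := Fintype.one_lt_card (α := F)
    omega
  rw [hdiv]
  by_cases h1 : padicValNat r n ≤ padicValNat r (Fintype.card F - 1)
  · -- then r = 2, n even, q % 4 ≠ 1
    have h2 : ¬ (r = 2 → Even n → Fintype.card F % 4 = 1) := fun h => hcond ⟨h1, h⟩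
    push Not at h2
    obtain ⟨rfl, he, hq⟩ := h2
    have hns : ¬ IsSquare (-1 : F) := by
      rw [FiniteField.isSquare_neg_one_iff]; omega
    refine ⟨-1, fun b hb => hns ⟨b, by rw [← hb]; ring⟩, ?_⟩
    norm_num
  · push Not at h1
    obtain ⟨c, hc1, hc2⟩ := exists_nonpow (F := F) hr hrq
    have ha1 : 1 ≤ padicValNat r (Fintype.card F - 1) := one_le_padicValNat_of_dvd hNpos hrq
    have hdvd : r ^ (padicValNat r (Fintype.card F - 1)) ∣ k := by
      rw [padicValNat_dvd_iff_le hkpos.ne']; omega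
    refine ⟨c, hc1, ?_⟩
    rw [mul_pow, hc2 k hdvd, mul_one, ← pow_mul]
    rcases hr.eq_two_or_odd' with h | h
    · subst h
      have : 2 ∣ k := dvd_trans (dvd_pow_self 2 (by omega)) hdvd
      exact ((even_iff_two_dvd.mpr this).mul_left _).neg_one_pow
    · exact ((h.add_one).mul_right _).neg_one_pow

lemma exists_root_of_not_dvd {r : ℕ} (hr : r.Prime) (h : ¬ r ∣ Fintype.card F - 1) (c : F) : ∃ b : F, b ^ r = c := by
  classical
  by_cases hc : c = 0
  · exact ⟨0, by rw [hc, zero_pow hr.ne_zero]⟩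
  · have hcop : (Nat.card Fˣ).Coprime r := by
      rw [Nat.card_eq_fintype_card, Fintype.card_units]
      exact ((Nat.Prime.coprime_iff_not_dvd hr).mpr h).symm
    obtain ⟨b, hb⟩ := (powCoprime hcop).surjective (Units.mk0 c hc)
    refine ⟨(b : F), ?_⟩
    have h1 : b ^ r = Units.mk0 c hc := hb
    have := congrArg Units.val h1
    simpa using this

lemma orderOf_eq_one_iff {q r : ℕ} (hq : 0 < q) : orderOf (q : ZMod r) = 1 ↔ r ∣ q - 1 := by
  constructor
  · intro h
    have := dvd_of_orderOf_dvd (q := q) (r := r) (k := 1) hq (by rw [h])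
    simpa using this
  · intro h
    have := orderOf_dvd_of_dvd (q := q) (r := r) (k := 1) hq (by simpa using h)
    exact Nat.dvd_one.mp this

end numbers

section matrices

variable {F : Type*} [Field F] {n : ℕ}

/-- the linear map of a matrix of determinant one -/
abbrev tl (x : Matrix.SpecialLinearGroup (Fin n) F) : Module.End F (Fin n → F) :=
  Matrix.toLin' (x : Matrix (Fin n) (Fin n) F)

lemma toLin'_pow' (A : Matrix (Fin n) (Fin n) F) (r : ℕ) : Matrix.toLin' (A ^ r) = (Matrix.toLin' A) ^ r := by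
  induction r with
  | zero => rw [pow_zero, pow_zero, Matrix.toLin'_one]; rfl
  | succ r ih => rw [pow_succ, pow_succ, Matrix.toLin'_mul, ih]; rfl

lemma tl_pow (x : Matrix.SpecialLinearGroup (Fin n) F) (r : ℕ) : (tl x) ^ r = tl (x ^ r) := by
  change (Matrix.toLin' (x : Matrix (Fin n) (Fin n) F)) ^ r = Matrix.toLin' ((x ^ r : Matrix.SpecialLinearGroup (Fin n) F) : Matrix (Fin n) (Fin n) F)
  rw [Matrix.SpecialLinearGroup.coe_pow, toLin'_pow']

lemma tl_eq_smul_iff (x : Matrix.SpecialLinearGroup (Fin n) F) (c : F) :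
    tl x = c • (1 : Module.End F (Fin n → F)) ↔
      (x : Matrix (Fin n) (Fin n) F) = c • (1 : Matrix (Fin n) (Fin n) F) := by
  rw [← Matrix.toLin'.injective.eq_iff (b := c • (1 : Matrix (Fin n) (Fin n) F)), map_smul, Matrix.toLin'_one]
  rfl

lemma det_tl (x : Matrix.SpecialLinearGroup (Fin n) F) : LinearMap.det (tl x) = 1 := by
  rw [tl, LinearMap.det_toLin', x.2]

lemma exists_SL (T : Module.End F (Fin n → F)) (hdet : LinearMap.det T = 1) :
    ∃ x : Matrix.SpecialLinearGroup (Fin n) F, tl x = T := by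
  refine ⟨⟨LinearMap.toMatrix' T, ?_⟩, ?_⟩
  · rw [LinearMap.det_toMatrix', hdet]
  · exact Matrix.toLin'_toMatrix' T

/-- structure of elements of prime order modulo scalars, prime different from the characteristic -/
theorem structure_of [Fintype F] {p r : ℕ} [Fact p.Prime] [CharP F p] [Fact r.Prime] (hrp : r ≠ p)
    (x : Matrix.SpecialLinearGroup (Fin n) F) (c : F)
    (hx : ((x ^ r : Matrix.SpecialLinearGroup (Fin n) F) : Matrix (Fin n) (Fin n) F) = c • (1 : Matrix (Fin n) (Fin n) F))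
    (hn : 0 < n) :
    (∃ y : F, y ≠ 0 ∧ y ^ r = c ∧ SS (tl x) y (orderOf ((Fintype.card F : ℕ) : ZMod r))) ∨
    ((∀ y : F, y ^ r ≠ c) ∧ SS (tl x) 0 r ∧ E (tl x) 0 = ⊥ ∧ ∃ k, 0 < k ∧ n = r * k ∧ ((-1) ^ (r + 1) * c) ^ k = 1) := by
  have hr : r.Prime := Fact.out
  have hT : (tl x) ^ r = c • (1 : Module.End F (Fin n → F)) := by
    rw [tl_pow, tl_eq_smul_iff, hx]
  have hfr : Module.finrank F (Fin n → F) = n := by simp
  have hc0 : c ≠ 0 := by
    rintro rfl
    have h1 := (x ^ r).2
    have hne : Nonempty (Fin n) := ⟨⟨0, hn⟩⟩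
    rw [hx, zero_smul, Matrix.det_zero] at h1
    exact zero_ne_one h1
  by_cases h : ∃ y : F, y ^ r = c
  · obtain ⟨y, hy⟩ := h
    left
    have hy0 : y ≠ 0 := by
      rintro rfl
      rw [zero_pow hr.ne_zero] at hy
      exact hc0 hy.symm
    refine ⟨y, hy0, hy, ssB hrp hy0 (by rw [hT, hy])⟩
  · push Not at h
    right
    obtain ⟨h1, h2⟩ := ssC hr h hT
    obtain ⟨k, hk, hdet⟩ := detC hr h n (tl x) hT hfr
    rw [det_tl] at hdet
    refine ⟨h, h1, h2, k, ?_, hk, hdet.symm⟩
    rcases Nat.eq_zero_or_pos k with h0 | h0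
    · rw [h0, mul_zero] at hk; omega
    · exact h0

end matrices

section subspaces

variable {F : Type*} [Field F] [Fintype F] {n : ℕ}

/-- arithmetic: choice of the type of an invariant subspace -/
lemma exists_dk {n e s a m : ℕ} (hn : n = e + s * a) (hm : m ≤ n)
    (h : m ≤ e ∨ (a ≤ m ∧ m % a ≤ e)) : ∃ d k, d ≤ e ∧ k ≤ s ∧ m = d + k * a := by
  rcases h with h | ⟨h1, h2⟩
  · exact ⟨m, 0, h, Nat.zero_le _, by simp⟩
  · by_cases hle : m / a ≤ s
    · exact ⟨m % a, m / a, h2, hle, by rw [mul_comm]; exact (Nat.mod_add_div m a).symm⟩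
    · push Not at hle
      have : s * a ≤ m := by
        calc s * a ≤ (m / a) * a := Nat.mul_le_mul_right a hle.le
          _ ≤ m := Nat.div_mul_le_self m a
      exact ⟨m - s * a, s, by omega, le_rfl, by omega⟩

omit [Fintype F] in
lemma nonscalar_of_ty {T : Module.End F (Fin n → F)} {y : F} {a : ℕ} (h : SS T y a) (ha : 2 ≤ a)
    {e s : ℕ} (hty : Ty T y a ⊤ e s) (hs : 0 < s) (z : F) : T ≠ z • (1 : Module.End F (Fin n → F)) := by
  rintro rfl
  -- every line is invariant, take one outside E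
  obtain ⟨W, W', hW, -, -, -⟩ := h.split hty (d := 0) (k := 1) (Nat.zero_le _) hs
  have hWne : W ≠ ⊥ := by
    rintro rfl
    have := hW.fin
    rw [finrank_bot] at this
    omega
  obtain ⟨w, hw, hwne⟩ := (Submodule.ne_bot_iff W).mp hWne
  have hd : Disjoint (E (z • (1 : Module.End F (Fin n → F))) y) W := by
    rw [disjoint_iff, inf_comm]
    exact Submodule.finrank_eq_zero.mp hW.fin_e
  have hle : F ∙ w ≤ W := by rw [Submodule.span_singleton_le_iff_mem]; exact hw
  have hinv : Inv (z • (1 : Module.End F (Fin n → F))) (F ∙ w) := by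
    intro v hv
    exact Submodule.smul_mem _ z hv
  have := h.dvd hinv (hd.mono_right hle)
  rw [finrank_span_singleton hwne] at this
  have := Nat.le_of_dvd one_pos this
  omega

omit [Fintype F] in
lemma ty_top {T : Module.End F (Fin n → F)} {y : F} {a : ℕ} (h : SS T y a) :
    ∃ e s, Ty T y a ⊤ e s ∧ n = e + s * a := by
  obtain ⟨e, s, hty⟩ := h.exists_ty (W := ⊤) inv_top
  refine ⟨e, s, hty, ?_⟩
  have := hty.fin
  rw [finrank_top] at this
  simpa using this

/-- standard element of type B: `s` blocks and a `k`-dimensional fixed space; all blocks of the same type `f`. -/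
theorem exists_typeB {p r : ℕ} [Fact p.Prime] [CharP F p] [Fact r.Prime] (hrp : r ≠ p)
    (hi : 2 ≤ orderOf ((Fintype.card F : ℕ) : ZMod r)) {s k : ℕ}
    (hn : n = k + s * orderOf ((Fintype.card F : ℕ) : ZMod r)) :
    ∃ (x : Matrix.SpecialLinearGroup (Fin n) F) (f : F[X]), Irreducible f ∧ f ∣ cyclotomic r F ∧
      (tl x) ^ r = 1 ∧ aeval (tl x) ((X - C 1) * f) = 0 ∧
      SS (tl x) 1 (orderOf ((Fintype.card F : ℕ) : ZMod r)) ∧
      Ty (tl x) 1 (orderOf ((Fintype.card F : ℕ) : ZMod r)) ⊤ k s := by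
  have hr : r.Prime := Fact.out
  set i := orderOf ((Fintype.card F : ℕ) : ZMod r) with hidef
  have hcyc : ¬ IsUnit (cyclotomic r F) := by
    rw [Polynomial.isUnit_iff_degree_eq_zero, degree_cyclotomic]
    have : 0 < r.totient := Nat.totient_pos.mpr hr.pos
    exact_mod_cast this.ne'
  obtain ⟨f, hf, hfd⟩ := WfDvdMonoid.exists_irreducible_factor hcyc (cyclotomic_ne_zero r F)
  have hdeg : f.natDegree = i := natDegree_irred_cyclotomic hrp hf hfd
  have hf1 : f.eval 1 ≠ 0 := by
    intro h0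
    have h1 : (X - C 1) ∣ f := dvd_iff_isRoot.mpr h0
    have h2 : Associated (X - C (1 : F)) f := (irreducible_X_sub_C 1).associated_of_dvd hf h1
    have h3 := natDegree_eq_of_degree_eq (degree_eq_degree_of_associated h2)
    rw [natDegree_X_sub_C, hdeg] at h3
    omega
  obtain ⟨T, hT1, hT2⟩ := exists_blocks (V := Fin n → F) hf hf1 s k (by rw [hdeg]; simpa using hn)
  have hTr : T ^ r = 1 := by
    obtain ⟨g, hg⟩ := hfd
    have h1 : aeval T (X ^ r - 1 : F[X]) = 0 := by
      rw [← cyclotomic_prime_mul_X_sub_one, hg, show f * g * (X - 1) = g * ((X - C 1) * f) by rw [C_1]; ring,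
        map_mul, hT1, mul_zero]
    rw [map_sub, map_pow, aeval_X, map_one] at h1
    exact sub_eq_zero.mp h1
  have hdet : LinearMap.det T = 1 := by
    have h1 : (LinearMap.det T) ^ r = 1 := by rw [← map_pow, hTr, map_one]
    have hrq : ¬ r ∣ Fintype.card F - 1 := by
      intro h
      have := (orderOf_eq_one_iff (Fintype.card_pos (α := F))).mpr h
      omega
    have hd0 : LinearMap.det T ≠ 0 := by
      intro h0; rw [h0, zero_pow hr.ne_zero] at h1; exact zero_ne_one h1
    have hcop : (Nat.card Fˣ).Coprime r := by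
      classical
      rw [Nat.card_eq_fintype_card, Fintype.card_units]
      exact ((Nat.Prime.coprime_iff_not_dvd hr).mpr hrq).symm
    have h2 : (powCoprime hcop) (Units.mk0 _ hd0) = (powCoprime hcop) 1 := by
      change (Units.mk0 _ hd0) ^ r = 1 ^ r
      ext; simpa using h1
    have h3 := (powCoprime hcop).injective h2
    have := congrArg Units.val h3
    simpa using this
  obtain ⟨x, hx⟩ := exists_SL T hdet
  subst hx
  have hss : SS (tl x) 1 i := by
    have := ssB (p := p) hrp (T := tl x) (y := 1) one_ne_zero (by rw [hTr, one_pow, one_smul])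
    exact this
  refine ⟨x, f, hf, hfd, hTr, hT1, hss, ?_⟩
  refine ⟨inv_top, ?_, ?_⟩
  · rw [top_inf_eq]; exact hT2
  · rw [finrank_top]; simpa using hn

omit [Fintype F] in
/-- standard element of type C. -/
theorem exists_typeC_elt {r k : ℕ} (hr : r.Prime) {c : F} (hc : ∀ b : F, b ^ r ≠ c) (hn : n = r * k)
    (hdet : ((-1) ^ (r + 1) * c) ^ k = 1) :
    ∃ x : Matrix.SpecialLinearGroup (Fin n) F, (tl x) ^ r = c • (1 : Module.End F (Fin n → F)) ∧
      SS (tl x) 0 r ∧ E (tl x) 0 = ⊥ := by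
  have hirr := X_pow_sub_C_irreducible_of_prime hr hc
  obtain ⟨T, hT⟩ := exists_mulRoot (V := Fin n → F) hirr k (by rw [natDegree_X_pow_sub_C]; simpa using hn)
  have hTr : T ^ r = c • (1 : Module.End F (Fin n → F)) := by
    rw [map_sub, map_pow, aeval_X, aeval_C, Algebra.algebraMap_eq_smul_one] at hT
    exact sub_eq_zero.mp hT
  obtain ⟨k', hk', hdet'⟩ := detC hr hc n T hTr (by simp)
  have hkk : k = k' := Nat.eq_of_mul_eq_mul_left hr.pos (by rw [← hn, hk'])
  subst hkk
  obtain ⟨x, hx⟩ := exists_SL T (by rw [hdet', hdet])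
  subst hx
  obtain ⟨h1, h2⟩ := ssC hr hc hTr
  exact ⟨x, hTr, h1, h2⟩

/-- the criterion for all elements of order `r` to fix an `m`-subspace -/
theorem elusive_subspaces {p r : ℕ} [Fact p.Prime] [CharP F p] [Fact r.Prime] (hrp : r ≠ p) {m : ℕ}
    (hm : 1 ≤ m) (hmn : 2 * m ≤ n) (hex : ∃ j < m, r ∣ Fintype.card F ^ (n - j) - 1) :
    (∀ x : Matrix.SpecialLinearGroup (Fin n) F,
      (∃ c : F, ((x ^ r : Matrix.SpecialLinearGroup (Fin n) F) : Matrix (Fin n) (Fin n) F) = c • (1 : Matrix (Fin n) (Fin n) F)) →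
      (∀ c : F, (x : Matrix (Fin n) (Fin n) F) ≠ c • (1 : Matrix (Fin n) (Fin n) F)) →
      ∃ W : Submodule F (Fin n → F), Module.finrank F W = m ∧ Inv (tl x) W) ↔
    ((orderOf ((Fintype.card F : ℕ) : ZMod r) = 1 ∧ (r ∣ m ∨ CondC (Fintype.card F) n r)) ∨
      (2 ≤ orderOf ((Fintype.card F : ℕ) : ZMod r) ∧ orderOf ((Fintype.card F : ℕ) : ZMod r) ≤ m ∧
        m % orderOf ((Fintype.card F : ℕ) : ZMod r) ≤ n % orderOf ((Fintype.card F : ℕ) : ZMod r))) := by
  have hr : r.Prime := Fact.out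
  have hFr : Fact r.Prime := ⟨hr⟩
  have hqpos : 0 < Fintype.card F := Fintype.card_pos
  have hipos := order_pos (F := F) (p := p) (r := r) hrp
  set i := orderOf ((Fintype.card F : ℕ) : ZMod r) with hi
  have hi1 : i = 1 ↔ r ∣ Fintype.card F - 1 := orderOf_eq_one_iff hqpos
  constructor
  · intro h
    by_cases h1 : i = 1
    · left
      refine ⟨h1, ?_⟩
      by_contra hcon
      push Not at hcon
      obtain ⟨hrm, hC⟩ := hcon
      have hrn : r ∣ n := by
        by_contra hrn
        apply hC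
        refine ⟨by rw [padicValNat.eq_zero_of_not_dvd hrn]; exact Nat.zero_le _, ?_⟩
        rintro rfl he
        exact absurd (even_iff_two_dvd.mp he) hrn
      obtain ⟨c, hc, hdet⟩ := exists_typeC hr (hi1.mp h1) (by omega) hrn hC
      obtain ⟨x, hx, hss, hE⟩ := exists_typeC_elt (n := n) hr hc (Nat.mul_div_cancel' hrn).symm hdet
      obtain ⟨e, s, hty, hnes⟩ := ty_top hss
      have he : e = 0 := by
        rw [← hty.fin_e, hE]; simp
      have hs : 0 < s := by
        rcases Nat.eq_zero_or_pos s with h0 | h0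
        · rw [h0, he] at hnes; omega
        · exact h0
      obtain ⟨W, hWm, hW⟩ := h x ⟨c, by rw [← tl_eq_smul_iff, ← tl_pow, hx]⟩ (fun z hz =>
        nonscalar_of_ty hss hr.two_le hty hs z ((tl_eq_smul_iff x z).mpr hz))
      have := hss.dvd hW (by rw [hE]; exact disjoint_bot_left)
      rw [hWm] at this
      exact hrm this
    · right
      have hi2 : 2 ≤ i := by omega
      refine ⟨hi2, ?_⟩
      obtain ⟨j, hj, hjd⟩ := hex
      have hij : i ∣ n - j := orderOf_dvd_of_dvd hqpos hjd
      have hin : i ≤ n := le_trans (Nat.le_of_dvd (by omega) hij) (Nat.sub_le _ _)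
      have hs : 0 < n / i := Nat.div_pos hin hipos
      obtain ⟨x, f, -, -, hxr, -, hss, hty⟩ := exists_typeB (F := F) (n := n) (s := n / i) (k := n % i) hrp hi2
        (by rw [← hi, mul_comm]; exact (Nat.mod_add_div n i).symm)
      rw [← hi] at hss hty
      obtain ⟨W, hWm, hW⟩ := h x ⟨1, by rw [← tl_eq_smul_iff, ← tl_pow, hxr, one_smul]⟩ (fun z hz =>
        nonscalar_of_ty hss hi2 hty hs z ((tl_eq_smul_iff x z).mpr hz))
      obtain ⟨d, k', hWty⟩ := hss.exists_ty hW
      have hd : d ≤ n % i := by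
        rw [← hWty.fin_e, ← hty.fin_e]
        exact Submodule.finrank_mono (inf_le_inf_right _ le_top)
      have hmd := hWty.fin
      rw [hWm] at hmd
      have hmod := Nat.mod_lt n hipos
      rcases Nat.eq_zero_or_pos k' with h0 | h0
      · exfalso
        subst h0
        -- n % i < m
        have h5 : n % i ≤ j := by
          obtain ⟨t, ht⟩ := hij
          have h6 : n = j + i * t := by omega
          rw [h6, Nat.add_mul_mod_self_left]
          exact Nat.mod_le _ _
        omega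
      · have h5 : i ≤ k' * i := Nat.le_mul_of_pos_left i h0
        refine ⟨by omega, ?_⟩
        rw [hmd, Nat.add_mul_mod_self_right]
        exact (Nat.mod_le _ _).trans hd
  · intro h x ⟨c, hx⟩ _
    rcases structure_of hrp x c hx (by omega) with ⟨y, hy0, hy, hss⟩ | ⟨hc, hss, hE, k, hk, hnk, hdet⟩
    · obtain ⟨e, s, hty, hnes⟩ := ty_top hss
      rw [← hi] at hnes hss hty
      have hcond : m ≤ e ∨ (i ≤ m ∧ m % i ≤ e) := by
        rcases h with ⟨h1, -⟩ | ⟨h2, h3, h4⟩
        · right; rw [h1]; exact ⟨hm, by simp [Nat.mod_one]⟩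
        · right
          refine ⟨h3, h4.trans ?_⟩
          rw [hnes, Nat.add_mul_mod_self_right]
          exact Nat.mod_le _ _
      obtain ⟨d, k, hd, hk, hmdk⟩ := exists_dk hnes (by omega) hcond
      obtain ⟨W, W', hW, -, -, -⟩ := hss.split hty hd hk
      exact ⟨W, by rw [hW.fin, hmdk], hW.inv⟩
    · obtain ⟨e, s, hty, hnes⟩ := ty_top hss
      have he : e = 0 := by
        rw [← hty.fin_e, hE]; simp
      rcases h with ⟨h1, h2⟩ | ⟨h2, -, -⟩
      · rcases h2 with h2 | h2
        · obtain ⟨t, ht⟩ := h2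
          have hts : t ≤ s := by
            have h5 : r * t ≤ r * s := by rw [← ht, mul_comm r s]; omega
            exact Nat.le_of_mul_le_mul_left h5 hr.pos
          obtain ⟨W, W', hW, -, -, -⟩ := hss.split hty (d := 0) (k := t) (Nat.zero_le _) hts
          exact ⟨W, by rw [hW.fin, ht]; ring, hW.inv⟩
        · exact (not_typeC hr hc hnk hk hdet h2).elim
      · exfalso
        have h5 : ¬ r ∣ Fintype.card F - 1 := fun h => by
          have := hi1.mpr h; omega
        obtain ⟨b, hb⟩ := exists_root_of_not_dvd hr h5 c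
        exact hc b hb

end subspaces

end Cfsg.Agent.Lib.ElusiveLin
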