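import Mathlib
import Cfsg.Agent.Lib.InvSub

/-! Jordan bases of nilpotent maps, ranks of powers, uniqueness of the type. (helper99) -/

set_option autoImplicit false

namespace Cfsg.Agent.Lib.JordanNil

open Polynomial Module Cfsg.Agent.Lib.InvSub

open scoped DirectSum

variable {F V : Type*} [Field F] [AddCommGroup V] [Module F V]

/-- `b` is a Jordan basis of `N` with blocks of sizes `k i`. -/
def IsJB (N : Module.End F V) {d : ℕ} (k : Fin d → ℕ) (b : Basis (Σ i : Fin d, Fin (k i)) F V) : Prop :=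
  ∀ (i : Fin d) (a : Fin (k i)), N (b ⟨i, a⟩) = if h : (a : ℕ) + 1 < k i then b ⟨i, ⟨a + 1, h⟩⟩ else 0

/-- existence -/
theorem exists_JB [FiniteDimensional F V] (N : Module.End F V) (hN : IsNilpotent N) :
    ∃ (d : ℕ) (k : Fin d → ℕ) (b : Basis (Σ i : Fin d, Fin (k i)) F V), IsJB N k b := by
  classical
  obtain ⟨p, hp⟩ := hN
  have htor : Module.IsTorsion' (Module.AEval' N) (Submonoid.powers (X : F[X])) := by
    intro m
    refine ⟨⟨X ^ p, p, rfl⟩, ?_⟩
    obtain ⟨v, rfl⟩ := (AEval'.of N).surjective m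
    change (X ^ p : F[X]) • (AEval'.of N v) = 0
    rw [AEval'.X_pow_smul_of, hp]
    simp
  obtain ⟨d, k, ⟨e⟩⟩ := Module.torsion_by_prime_power_decomposition (p := (X : F[X])) irreducible_X htor
  have hmon : ∀ i, (X ^ (k i) : F[X]).Monic := fun i => monic_X_pow _
  -- basis of each factor
  let bi : ∀ i : Fin d, Basis (Fin (k i)) F (F[X] ⧸ F[X] ∙ (X : F[X]) ^ (k i)) := fun i =>
    ((AdjoinRoot.powerBasis' (hmon i)).basis).reindex (finCongr (by
      rw [AdjoinRoot.powerBasis'_dim, natDegree_X_pow]))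
  have hbi : ∀ (i : Fin d) (a : Fin (k i)), bi i a = (Submodule.mkQ (F[X] ∙ (X : F[X]) ^ (k i))) (X ^ (a : ℕ)) := by
    intro i a
    change ((AdjoinRoot.powerBasis' (hmon i)).basis.reindex _) a = _
    rw [Basis.reindex_apply, PowerBasis.basis_eq_pow]
    simp only [AdjoinRoot.powerBasis'_gen, finCongr_symm, finCongr_apply, Fin.val_cast]
    change (AdjoinRoot.mk (X ^ k i) X) ^ (a : ℕ) = AdjoinRoot.mk (X ^ k i) (X ^ (a : ℕ))
    rw [map_pow]
  let B : Basis (Σ i : Fin d, Fin (k i)) F (⨁ i : Fin d, (F[X] ⧸ F[X] ∙ (X : F[X]) ^ (k i))) := DFinsupp.basis bi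
  let b : Basis (Σ i : Fin d, Fin (k i)) F V := (B.map (e.restrictScalars F).symm).map (AEval'.of N).symm
  refine ⟨d, k, b, ?_⟩
  intro i a
  have hb : ∀ (i : Fin d) (a : Fin (k i)), e (AEval'.of N (b ⟨i, a⟩)) =
      DirectSum.lof F[X] (Fin d) (fun i => F[X] ⧸ F[X] ∙ (X : F[X]) ^ (k i)) i (bi i a) := by
    intro i a
    change e (AEval'.of N ((AEval'.of N).symm (e.symm (B ⟨i, a⟩)))) = _
    rw [LinearEquiv.apply_symm_apply, LinearEquiv.apply_symm_apply]
    change (DFinsupp.basis bi) ⟨i, a⟩ = _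
    apply (DFinsupp.basis bi).repr.injective
    rw [Basis.repr_self]
    ext ⟨j, c⟩
    change _ = (bi j).repr ((DirectSum.lof F[X] (Fin d) (fun i => F[X] ⧸ F[X] ∙ (X : F[X]) ^ (k i)) i (bi i a)) j) c
    rcases eq_or_ne i j with rfl | h
    · rw [DirectSum.lof_apply, Basis.repr_self, Finsupp.single_apply, Finsupp.single_apply]
      simp only [Sigma.mk.injEq, heq_eq_eq, true_and]
    · rw [DirectSum.lof_eq_of, DirectSum.of_eq_of_ne _ _ _ h.symm, map_zero, Finsupp.single_apply, if_neg]
      · rfl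
      · rintro h'
        exact h (congrArg Sigma.fst h')
  have h1 : e (AEval'.of N (N (b ⟨i, a⟩))) = (X : F[X]) • e (AEval'.of N (b ⟨i, a⟩)) := by
    rw [← AEval'.X_smul_of, map_smul]
  rw [hb, ← map_smul] at h1
  by_cases h : (a : ℕ) + 1 < k i
  · rw [dif_pos h]
    apply (AEval'.of N).injective
    apply e.injective
    rw [h1, hb]
    congr 1
    rw [hbi, hbi, ← map_smul, smul_eq_mul, ← pow_succ']
  · rw [dif_neg h]
    apply (AEval'.of N).injective
    apply e.injective
    rw [h1, map_zero, map_zero]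
    have : (X : F[X]) • bi i a = 0 := by
      rw [hbi, ← map_smul, smul_eq_mul, ← pow_succ']
      have ha : (a : ℕ) + 1 = k i := by have := a.2; omega
      rw [ha]
      simp [Submodule.mem_span_singleton_self]
    rw [this, map_zero]

/-- powers of `N` on a Jordan basis -/
theorem IsJB.pow_apply {N : Module.End F V} {d : ℕ} {k : Fin d → ℕ} {b : Basis (Σ i : Fin d, Fin (k i)) F V}
    (h : IsJB N k b) (j : ℕ) (i : Fin d) (a : Fin (k i)) :
    (N ^ j) (b ⟨i, a⟩) = if h : (a : ℕ) + j < k i then b ⟨i, ⟨a + j, h⟩⟩ else 0 := by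
  induction j generalizing a with
  | zero => simp
  | succ j ih =>
    rw [pow_succ, Module.End.mul_apply, h i a]
    by_cases h1 : (a : ℕ) + 1 < k i
    · rw [dif_pos h1, ih]
      simp only [add_assoc, add_comm 1 j]
    · rw [dif_neg h1, map_zero, dif_neg (by omega)]

theorem IsJB.finrank_range_pow {N : Module.End F V} {d : ℕ} {k : Fin d → ℕ}
    {b : Basis (Σ i : Fin d, Fin (k i)) F V} (h : IsJB N k b) (j : ℕ) :
    finrank F (LinearMap.range (N ^ j)) = ∑ i, (k i - j) := by
  classical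
  let g : (Σ i : Fin d, Fin (k i - j)) → Σ i : Fin d, Fin (k i) :=
    fun x => ⟨x.1, ⟨x.2 + j, by have := x.2.2; omega⟩⟩
  have hg : Function.Injective g := by
    rintro ⟨i, a⟩ ⟨i', a'⟩ h
    have h1 : i = i' := congrArg Sigma.fst h
    subst h1
    have h2 := eq_of_heq (Sigma.mk.inj h).2
    have h3 : (a : ℕ) + j = a' + j := congrArg Fin.val h2
    have h4 : a = a' := Fin.ext (by omega)
    rw [h4]
  have hli : LinearIndependent F (b ∘ g) := b.linearIndependent.comp g hg
  have hspan : LinearMap.range (N ^ j) = Submodule.span F (Set.range (b ∘ g)) := by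
    rw [LinearMap.range_eq_map, ← b.span_eq, Submodule.map_span]
    apply le_antisymm
    · rw [Submodule.span_le]
      rintro _ ⟨_, ⟨⟨i, a⟩, rfl⟩, rfl⟩
      rw [h.pow_apply]
      split_ifs with h'
      · apply Submodule.subset_span
        exact ⟨⟨i, ⟨a, by omega⟩⟩, rfl⟩
      · exact Submodule.zero_mem _
    · apply Submodule.span_mono
      rintro _ ⟨⟨i, a⟩, rfl⟩
      refine ⟨b ⟨i, ⟨a, by have := a.2; omega⟩⟩, ⟨_, rfl⟩, ?_⟩
      rw [h.pow_apply, dif_pos]
      rfl
  rw [hspan, finrank_span_eq_card hli, Fintype.card_sigma]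
  simp

/-- the Jordan type of the nilpotent map `N` on the (invariant) subspace `U`. -/
def Typ (N : Module.End F V) (U : Submodule F V) (μ : Multiset ℕ) : Prop :=
  0 ∉ μ ∧ ∀ j, finrank F (U.map (N ^ j)) = (μ.map (fun b => b - j)).sum

lemma count_formula (μ : Multiset ℕ) (c : ℕ) (hc : 0 < c) :
    (μ.map (fun b => b - (c - 1))).sum + (μ.map (fun b => b - (c + 1))).sum =
      2 * (μ.map (fun b => b - c)).sum + μ.count c := by
  induction μ using Multiset.induction_on with
  | empty => simp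
  | cons a μ ih =>
    simp only [Multiset.map_cons, Multiset.sum_cons]
    rw [Multiset.count_cons]
    split_ifs with h
    · subst h; omega
    · have : a - (c - 1) + (a - (c + 1)) = 2 * (a - c) := by omega
      omega

theorem eq_of_sums {μ ν : Multiset ℕ} (hμ : 0 ∉ μ) (hν : 0 ∉ ν)
    (h : ∀ j, (μ.map (fun b => b - j)).sum = (ν.map (fun b => b - j)).sum) : μ = ν := by
  ext c
  rcases Nat.eq_zero_or_pos c with rfl | hc
  · rw [Multiset.count_eq_zero_of_notMem hμ, Multiset.count_eq_zero_of_notMem hν]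
  · have h1 := count_formula μ c hc
    have h2 := count_formula ν c hc
    rw [h, h, h] at h1
    omega

theorem Typ.unique {N : Module.End F V} {U : Submodule F V} {μ ν : Multiset ℕ} (h1 : Typ N U μ) (h2 : Typ N U ν) :
    μ = ν :=
  eq_of_sums h1.1 h2.1 fun j => by rw [← h1.2, ← h2.2]

theorem Typ.finrank_eq {N : Module.End F V} {U : Submodule F V} {μ : Multiset ℕ} (h1 : Typ N U μ) :
    finrank F U = μ.sum := by
  have := h1.2 0
  rw [pow_zero, Module.End.one_eq_id, Submodule.map_id] at this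
  rw [this]
  simp

lemma map_pow_le {N : Module.End F V} {U : Submodule F V} (hU : Inv N U) (j : ℕ) : U.map (N ^ j) ≤ U := by
  induction j with
  | zero => rw [pow_zero, Module.End.one_eq_id, Submodule.map_id]
  | succ j ih =>
    rw [pow_succ', Module.End.mul_eq_comp, Submodule.map_comp]
    exact (Submodule.map_mono ih).trans (inv_iff_map_le.mp hU)

theorem Typ.sup [FiniteDimensional F V] {N : Module.End F V} {U W : Submodule F V} (hU : Inv N U) (hW : Inv N W)
    (hd : Disjoint U W) {μ ν : Multiset ℕ} (h1 : Typ N U μ) (h2 : Typ N W ν) : Typ N (U ⊔ W) (μ + ν) := by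
  refine ⟨?_, fun j => ?_⟩
  · rw [Multiset.mem_add]
    rintro (h | h)
    · exact h1.1 h
    · exact h2.1 h
  · have e := Submodule.finrank_sup_add_finrank_inf_eq (U.map (N ^ j)) (W.map (N ^ j))
    have hd' : Disjoint (U.map (N ^ j)) (W.map (N ^ j)) := hd.mono (map_pow_le hU j) (map_pow_le hW j)
    rw [hd'.eq_bot, finrank_bot, h1.2, h2.2] at e
    rw [Submodule.map_sup, Multiset.map_add, Multiset.sum_add]
    omega

lemma sum_filter_pos (μ : Multiset ℕ) (j : ℕ) :
    ((μ.filter (fun b => 0 < b)).map (fun b => b - j)).sum = (μ.map (fun b => b - j)).sum := by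
  induction μ using Multiset.induction_on with
  | empty => simp
  | cons a μ ih =>
    by_cases h : 0 < a
    · rw [Multiset.filter_cons_of_pos _ h]
      simp only [Multiset.map_cons, Multiset.sum_cons, ih]
    · rw [Multiset.filter_cons_of_neg _ h]
      simp only [Multiset.map_cons, Multiset.sum_cons, ih]
      omega

theorem IsJB.typ {N : Module.End F V} {d : ℕ} {k : Fin d → ℕ}
    {b : Basis (Σ i : Fin d, Fin (k i)) F V} (h : IsJB N k b) :
    Typ N ⊤ (((Finset.univ : Finset (Fin d)).val.map k).filter (fun b => 0 < b)) := by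
  refine ⟨by simp, fun j => ?_⟩
  rw [← LinearMap.range_eq_map, h.finrank_range_pow, sum_filter_pos, Multiset.map_map]
  rfl

theorem exists_typ_top [FiniteDimensional F V] {N : Module.End F V} (hN : IsNilpotent N) : ∃ μ, Typ N ⊤ μ := by
  obtain ⟨d, k, b, h⟩ := exists_JB N hN
  exact ⟨_, h.typ⟩

lemma restrict_pow' {N : Module.End F V} {U : Submodule F V} (hU : Inv N U) (j : ℕ) (x : U) :
    (((N.restrict hU : Module.End F U) ^ j) x : V) = (N ^ j) (x : V) := by
  induction j generalizing x with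
  | zero => simp
  | succ j ih =>
    rw [pow_succ, Module.End.mul_apply, ih, pow_succ, Module.End.mul_apply]
    rfl

theorem exists_typ [FiniteDimensional F V] {N : Module.End F V} (hN : IsNilpotent N) {U : Submodule F V}
    (hU : Inv N U) : ∃ μ, Typ N U μ := by
  obtain ⟨p, hp⟩ := hN
  have h1 : IsNilpotent (N.restrict hU : Module.End F U) := by
    refine ⟨p, ?_⟩
    ext x
    rw [restrict_pow' hU, hp]
    simp
  obtain ⟨μ, hμ, hμ'⟩ := exists_typ_top h1
  refine ⟨μ, hμ, fun j => ?_⟩
  rw [← hμ' j]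
  have h2 : U.map (N ^ j) = ((⊤ : Submodule F U).map ((N.restrict hU : Module.End F U) ^ j)).map U.subtype := by
    ext y
    constructor
    · rintro ⟨x, hx, rfl⟩
      exact ⟨((N.restrict hU : Module.End F U) ^ j) ⟨x, hx⟩, ⟨⟨x, hx⟩, trivial, rfl⟩, restrict_pow' hU j ⟨x, hx⟩⟩
    · rintro ⟨_, ⟨x, -, rfl⟩, rfl⟩
      exact ⟨x, x.2, (restrict_pow' hU j x).symm⟩
  rw [h2, Submodule.finrank_map_subtype_eq]

/-- bounded type versus nilpotency exponent -/
theorem Typ.pow_eq_zero_iff [FiniteDimensional F V] {N : Module.End F V} {μ : Multiset ℕ} (h : Typ N ⊤ μ) (p : ℕ) :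
    N ^ p = 0 ↔ ∀ b ∈ μ, b ≤ p := by
  have h1 := h.2 p
  have h2 : N ^ p = 0 ↔ finrank F ((⊤ : Submodule F V).map (N ^ p)) = 0 := by
    rw [Submodule.finrank_eq_zero, ← LinearMap.range_eq_map, LinearMap.range_eq_bot]
  rw [h2, h1, Multiset.sum_eq_zero_iff]
  constructor
  · intro h b hb
    have := h (b - p) (Multiset.mem_map_of_mem _ hb)
    omega
  · intro h x hx
    obtain ⟨b, hb, rfl⟩ := Multiset.mem_map.mp hx
    have := h b hb
    omega

/-- existence of nilpotent maps of given type -/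
theorem exists_of_typ [FiniteDimensional F V] {μ : Multiset ℕ} (hμ : 0 ∉ μ) (hsum : finrank F V = μ.sum) :
    ∃ N : Module.End F V, IsNilpotent N ∧ Typ N ⊤ μ := by
  classical
  obtain ⟨l, rfl⟩ := Quot.exists_rep μ
  change 0 ∉ (l : Multiset ℕ) at hμ
  change _ = (l : Multiset ℕ).sum at hsum
  let k : Fin l.length → ℕ := fun i => l.get i
  have hcard : Fintype.card (Σ i : Fin l.length, Fin (k i)) = finrank F V := by
    rw [hsum, Fintype.card_sigma]
    simp [k, Multiset.sum_coe]
  let b : Basis (Σ i : Fin l.length, Fin (k i)) F V :=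
    (Module.finBasisOfFinrankEq F V hcard.symm).reindex (Fintype.equivFin _).symm
  let N : Module.End F V := b.constr F (fun x => if h : (x.2 : ℕ) + 1 < k x.1 then b ⟨x.1, ⟨x.2 + 1, h⟩⟩ else 0)
  have hJ : IsJB N k b := by
    intro i a
    exact b.constr_basis F _ _
  have ht := hJ.typ
  have hμ' : (((Finset.univ : Finset (Fin l.length)).val.map k).filter (fun b => 0 < b)) = (l : Multiset ℕ) := by
    have h1 : ((Finset.univ : Finset (Fin l.length)).val.map k) = (l : Multiset ℕ) := by
      rw [Fin.univ_val_map]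
      simp [k]
    rw [h1, Multiset.filter_eq_self]
    intro a ha
    rcases Nat.eq_zero_or_pos a with rfl | h
    · exact absurd ha hμ
    · exact h
  rw [hμ'] at ht
  refine ⟨N, ⟨(l : Multiset ℕ).sum, ?_⟩, ht⟩
  rw [ht.pow_eq_zero_iff]
  intro b hb
  exact Multiset.single_le_sum (fun _ _ => Nat.zero_le _) b hb

lemma exists_sub_of_le_map {α β : Type*} [DecidableEq β] (f : α → β) (s : Multiset α) :
    ∀ {ν : Multiset β}, ν ≤ s.map f → ∃ t ≤ s, t.map f = ν := by
  induction s using Multiset.induction_on with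
  | empty =>
    intro ν h
    rw [Multiset.map_zero, Multiset.le_zero] at h
    exact ⟨0, le_rfl, by simp [h]⟩
  | cons a s ih =>
    intro ν h
    rw [Multiset.map_cons] at h
    by_cases ha : f a ∈ ν
    · obtain ⟨ν', rfl⟩ := Multiset.exists_cons_of_mem ha
      rw [Multiset.cons_le_cons_iff] at h
      obtain ⟨t, ht, ht'⟩ := ih h
      exact ⟨a ::ₘ t, (Multiset.cons_le_cons_iff a).mpr ht, by rw [Multiset.map_cons, ht']⟩
    · rw [Multiset.le_cons_of_notMem ha] at h
      obtain ⟨t, ht, ht'⟩ := ih h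
      exact ⟨t, ht.trans (Multiset.le_cons_self s a), ht'⟩

/-- sub-multisets of the type give invariant complementary summands -/
theorem Typ.split [FiniteDimensional F V] {N : Module.End F V} (hN : IsNilpotent N) {μ ν : Multiset ℕ}
    (h : Typ N ⊤ μ) (hν : ν ≤ μ) :
    ∃ U W : Submodule F V, IsCompl U W ∧ Inv N U ∧ Inv N W ∧ finrank F U = ν.sum := by
  classical
  obtain ⟨d, k, b, hb⟩ := exists_JB N hN
  have hμ := h.unique hb.typ
  have hν' : ν ≤ (Finset.univ : Finset (Fin d)).val.map k := by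
    rw [hμ] at hν
    exact hν.trans (Multiset.filter_le _ _)
  obtain ⟨t, ht, ht'⟩ := exists_sub_of_le_map k _ hν'
  have hnd : t.Nodup := Multiset.nodup_of_le ht Finset.univ.nodup
  let s : Finset (Fin d) := ⟨t, hnd⟩
  let S : Set (Σ i : Fin d, Fin (k i)) := {x | x.1 ∈ s}
  have hinv : ∀ s' : Set (Fin d), Inv N (Submodule.span F (b '' {x | x.1 ∈ s'})) := by
    intro s'
    rw [inv_iff_map_le, Submodule.map_span, Submodule.span_le]
    rintro _ ⟨_, ⟨⟨i, a⟩, hx, rfl⟩, rfl⟩
    rw [hb i a]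
    split_ifs with h'
    · exact Submodule.subset_span ⟨⟨i, ⟨a + 1, h'⟩⟩, hx, rfl⟩
    · exact Submodule.zero_mem _
  refine ⟨Submodule.span F (b '' {x | x.1 ∈ (s : Set (Fin d))}),
    Submodule.span F (b '' {x | x.1 ∈ ((s : Set (Fin d))ᶜ)}), ?_, hinv _, hinv _, ?_⟩
  · constructor
    · exact b.linearIndependent.disjoint_span_image (by
        rw [Set.disjoint_left]
        intro x hx hx'
        exact hx' hx)
    · rw [codisjoint_iff, ← Submodule.span_union, ← Set.image_union]
      have : ({x : Σ i : Fin d, Fin (k i) | x.1 ∈ (s : Set (Fin d))} ∪ {x | x.1 ∈ ((s : Set (Fin d))ᶜ)}) = Set.univ := by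
        ext x
        simp only [Set.mem_union, Set.mem_univ, iff_true]
        exact em _
      rw [this, Set.image_univ, b.span_eq]
  · let g : (Σ i : s, Fin (k i)) → Σ i : Fin d, Fin (k i) := fun x => ⟨x.1, x.2⟩
    have hg : Function.Injective g := by
      rintro ⟨⟨i, hi⟩, a⟩ ⟨⟨i', hi'⟩, a'⟩ h
      have h1 : i = i' := congrArg Sigma.fst h
      subst h1
      have h2 := eq_of_heq (Sigma.mk.inj h).2
      have h3 : a = a' := h2
      rw [h3]
    have himg : b '' {x | x.1 ∈ (s : Set (Fin d))} = Set.range (b ∘ g) := by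
      rw [Set.range_comp]
      congr 1
      ext ⟨i, a⟩
      constructor
      · intro hi
        exact ⟨⟨⟨i, hi⟩, a⟩, rfl⟩
      · rintro ⟨⟨⟨i', hi'⟩, a'⟩, h⟩
        have h1 : i' = i := congrArg Sigma.fst h
        subst h1
        exact hi'
    rw [himg, finrank_span_eq_card (b.linearIndependent.comp g hg), Fintype.card_sigma, ← ht']
    simp only [Fintype.card_fin]
    rw [Finset.sum_coe_sort s k]
    rfl

end Cfsg.Agent.Lib.JordanNil
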