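import Mathlib
import Cfsg.Agent.Lib.ElusiveLin
import Cfsg.Agent.Lib.JordanNil

/-! Elements of order `p` (the characteristic) modulo scalars in SL_n, Jordan types. (helper99) -/

set_option autoImplicit false

namespace Cfsg.Agent.Lib.ElusiveUni

open Cfsg.Agent.Lib.InvSub Cfsg.Agent.Lib.JordanNil Cfsg.Agent.Lib.ElusiveLin

section basic

variable {F V : Type*} [Field F] [AddCommGroup V] [Module F V]

lemma inv_sub_smul_iff {T : Module.End F V} {y : F} {W : Submodule F V} :
    Inv (T - y • (1 : Module.End F V)) W ↔ Inv T W := by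
  constructor
  · intro h x hx
    have h1 := h x hx
    rw [LinearMap.sub_apply, LinearMap.smul_apply, Module.End.one_apply] at h1
    have h2 := W.add_mem h1 (W.smul_mem y hx)
    rwa [sub_add_cancel] at h2
  · intro h x hx
    rw [LinearMap.sub_apply, LinearMap.smul_apply, Module.End.one_apply]
    exact W.sub_mem (h x hx) (W.smul_mem y hx)

lemma inv_one_add_iff {N : Module.End F V} {W : Submodule F V} : Inv (1 + N) W ↔ Inv N W := by
  have := inv_sub_smul_iff (T := 1 + N) (y := (1 : F)) (W := W)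
  rw [one_smul, add_sub_cancel_left] at this
  exact this.symm

/-- Frobenius for commuting endomorphisms -/
lemma sub_smul_pow {p : ℕ} [Fact p.Prime] [CharP F p] (T : Module.End F V) (y : F) :
    (T - y • (1 : Module.End F V)) ^ p = T ^ p - (y ^ p) • (1 : Module.End F V) := by
  cases subsingleton_or_nontrivial V with
  | inl h => exact LinearMap.ext fun x => Subsingleton.elim _ _
  | inr h =>
    have : CharP (Module.End F V) p := charP_of_injective_algebraMap (algebraMap F (Module.End F V)).injective p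
    rw [sub_pow_char_of_commute p ((Commute.one_right T).smul_right y), smul_pow, one_pow]

lemma one_add_pow {p : ℕ} [Fact p.Prime] [CharP F p] (N : Module.End F V) :
    (1 + N) ^ p = 1 + N ^ p := by
  cases subsingleton_or_nontrivial V with
  | inl h => exact LinearMap.ext fun x => Subsingleton.elim _ _
  | inr h =>
    have : CharP (Module.End F V) p := charP_of_injective_algebraMap (algebraMap F (Module.End F V)).injective p
    rw [add_pow_char_of_commute p (Commute.one_left N), one_pow]

lemma not_smul_of_nil {N : Module.End F V} (hN : IsNilpotent N) (h0 : N ≠ 0) (c : F) :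
    1 + N ≠ c • (1 : Module.End F V) := by
  intro h
  obtain ⟨p, hp⟩ := hN
  have h1 : N = (c - 1) • (1 : Module.End F V) := by
    rw [sub_smul, one_smul, ← h]; abel
  rw [h1, smul_pow, one_pow] at hp
  have h2 : (c - 1) ^ p = 0 := by
    by_contra hne
    apply h0
    have h3 : (1 : Module.End F V) = 0 := by
      have := congrArg (fun z => ((c - 1) ^ p)⁻¹ • z) hp
      simpa [smul_smul, inv_mul_cancel₀ hne] using this
    rw [h1, h3, smul_zero]
  have h3 : c - 1 = 0 := by
    by_contra hne
    exact pow_ne_zero p hne h2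
  rw [h3, zero_smul] at h1
  exact h0 h1

end basic

section fin

variable {F : Type*} [Field F] {n : ℕ}

lemma det_eq_one_of_pow {p : ℕ} [Fact p.Prime] [CharP F p] {T : Module.End F (Fin n → F)} (hT : T ^ p = 1) :
    LinearMap.det T = 1 := by
  have h1 : (LinearMap.det T) ^ p = 1 := by rw [← map_pow, hT, map_one]
  have h2 : (LinearMap.det T - 1) ^ p = 0 := by
    rw [sub_pow_char, h1, one_pow, sub_self]
  exact sub_eq_zero.mp (pow_eq_zero_iff (Fact.out : p.Prime).ne_zero |>.mp h2)

/-- unipotent elements of given Jordan type, of order `p`. -/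
theorem exists_unip {p : ℕ} [Fact p.Prime] [CharP F p] {μ : Multiset ℕ} (hμ : ∀ a ∈ μ, 0 < a ∧ a ≤ p)
    (hsum : μ.sum = n) :
    ∃ (x : Matrix.SpecialLinearGroup (Fin n) F) (N : Module.End F (Fin n → F)), IsNilpotent N ∧ Typ N ⊤ μ ∧
      tl x = 1 + N ∧ N ^ p = 0 ∧ (tl x) ^ p = 1 := by
  have h0 : 0 ∉ μ := fun h => (hμ 0 h).1.ne rfl
  obtain ⟨N, hN, ht⟩ := exists_of_typ (F := F) (V := Fin n → F) h0 (by rw [hsum]; simp)
  have hNp : N ^ p = 0 := (ht.pow_eq_zero_iff p).mpr fun b hb => (hμ b hb).2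
  have h1 : (1 + N) ^ p = 1 := by rw [one_add_pow, hNp, add_zero]
  obtain ⟨x, hx⟩ := exists_SL (1 + N) (det_eq_one_of_pow h1)
  exact ⟨x, N, hN, ht, hx, hNp, by rw [hx, h1]⟩

/-- the nilpotent part of an element whose `p`-th power is scalar. -/
theorem exists_nil [Fintype F] {p : ℕ} [Fact p.Prime] [CharP F p] (x : Matrix.SpecialLinearGroup (Fin n) F) {c : F}
    (hx : ((x ^ p : Matrix.SpecialLinearGroup (Fin n) F) : Matrix (Fin n) (Fin n) F) = c • (1 : Matrix (Fin n) (Fin n) F)) :
    ∃ y : F, y ^ p = c ∧ (tl x - y • (1 : Module.End F (Fin n → F))) ^ p = 0 := by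
  have hT : (tl x) ^ p = c • (1 : Module.End F (Fin n → F)) := by
    rw [tl_pow, tl_eq_smul_iff, hx]
  obtain ⟨y, hy⟩ : ∃ y : F, y ^ p = c := by
    have h : Function.Surjective (frobenius F p) :=
      Finite.surjective_of_injective (frobenius F p).injective
    obtain ⟨y, hy⟩ := h c
    exact ⟨y, hy⟩
  refine ⟨y, hy, ?_⟩
  rw [sub_smul_pow, hT, hy, sub_self]

/-- sub-multisets and invariant decompositions -/
theorem pairs_p_iff [Fintype F] {p : ℕ} [Fact p.Prime] [CharP F p] {m : ℕ} (hmn : m ≤ n) :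
    (∀ x : Matrix.SpecialLinearGroup (Fin n) F,
      (∃ c : F, ((x ^ p : Matrix.SpecialLinearGroup (Fin n) F) : Matrix (Fin n) (Fin n) F) = c • (1 : Matrix (Fin n) (Fin n) F)) →
      (∀ c : F, (x : Matrix (Fin n) (Fin n) F) ≠ c • (1 : Matrix (Fin n) (Fin n) F)) →
      ∃ U W : Submodule F (Fin n → F), IsCompl U W ∧ Module.finrank F U = m ∧ Inv (tl x) U ∧ Inv (tl x) W) ↔
    (∀ μ : Multiset ℕ, (∀ a ∈ μ, 0 < a ∧ a ≤ p) → μ.sum = n → ∃ ν : Multiset ℕ, ν ≤ μ ∧ ν.sum = m) := by
  classical
  constructor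
  · intro h μ hμ hsum
    obtain ⟨x, N, hN, ht, hx, hNp, hxp⟩ := exists_unip (F := F) (p := p) hμ hsum
    by_cases hN0 : N = 0
    · -- all parts are 1
      have h1 : ∀ b ∈ μ, b = 1 := by
        intro b hb
        have h2 := (ht.pow_eq_zero_iff 1).mp (by rw [pow_one, hN0]) b hb
        have h3 := (hμ b hb).1
        omega
      have h2 : μ = Multiset.replicate n 1 := by
        have h4 := Multiset.eq_replicate_card.mpr h1
        have h5 : μ.sum = Multiset.card μ := by
          conv_lhs => rw [h4]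
          simp
        rw [h4, ← h5, hsum]
      refine ⟨Multiset.replicate m 1, ?_, by simp⟩
      rw [h2]
      exact (Multiset.replicate_le_replicate 1).mpr hmn
    · obtain ⟨U, W, hUW, hUm, hU, hW⟩ := h x ⟨1, by
        rw [← tl_eq_smul_iff, ← tl_pow, hxp, one_smul]⟩ (fun c hc => by
          rw [← tl_eq_smul_iff, hx] at hc
          exact not_smul_of_nil hN hN0 c hc)
      rw [hx, inv_one_add_iff] at hU hW
      obtain ⟨μ1, hμ1⟩ := exists_typ hN hU
      obtain ⟨μ2, hμ2⟩ := exists_typ hN hW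
      have h3 := hμ1.sup hU hW hUW.disjoint hμ2
      rw [hUW.sup_eq_top] at h3
      have h4 := ht.unique h3
      refine ⟨μ1, ?_, ?_⟩
      · rw [h4]; exact Multiset.le_add_right μ1 μ2
      · rw [← hμ1.finrank_eq, hUm]
  · rintro h x ⟨c, hc⟩ -
    obtain ⟨y, hy, hN⟩ := exists_nil x hc
    have hnil : IsNilpotent (tl x - y • (1 : Module.End F (Fin n → F))) := ⟨p, hN⟩
    obtain ⟨μ, hμ⟩ := exists_typ_top hnil
    have hle := (hμ.pow_eq_zero_iff p).mp hN
    obtain ⟨ν, hν, hνs⟩ := h μ (fun a ha => ⟨Nat.pos_of_ne_zero (by rintro rfl; exact hμ.1 ha), hle a ha⟩)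
      (by rw [← hμ.finrank_eq, finrank_top]; simp)
    obtain ⟨U, W, hUW, hU, hW, hUf⟩ := hμ.split hnil hν
    exact ⟨U, W, hUW, by rw [hUf, hνs], inv_sub_smul_iff.mp hU, inv_sub_smul_iff.mp hW⟩

end fin

/-- partitions into parts 1 and 2 -/
lemma two_parts {n m : ℕ} (hmn : m ≤ n) :
    (∀ μ : Multiset ℕ, (∀ a ∈ μ, 0 < a ∧ a ≤ 2) → μ.sum = n → ∃ ν : Multiset ℕ, ν ≤ μ ∧ ν.sum = m) ↔
      (Odd n ∨ Even m) := by
  have hform : ∀ μ : Multiset ℕ, (∀ a ∈ μ, 0 < a ∧ a ≤ 2) →
      μ = Multiset.replicate (μ.count 2) 2 + Multiset.replicate (μ.count 1) 1 := by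
    intro μ hμ
    ext c
    rw [Multiset.count_add, Multiset.count_replicate, Multiset.count_replicate]
    by_cases h1 : c = 1
    · subst h1; simp
    · by_cases h2 : c = 2
      · subst h2; simp
      · rw [if_neg (by tauto), if_neg (by tauto)]
        apply Multiset.count_eq_zero_of_notMem
        intro hc
        have := hμ c hc
        omega
  constructor
  · intro h
    by_contra hcon
    push Not at hcon
    obtain ⟨h1, h2⟩ := hcon
    rw [Nat.not_odd_iff_even] at h1
    obtain ⟨ν, hν, hs⟩ := h (Multiset.replicate (n / 2) 2) (by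
      intro a ha
      rw [Multiset.eq_of_mem_replicate ha]; omega) (by
      rw [Multiset.sum_replicate, smul_eq_mul]
      obtain ⟨k, hk⟩ := h1; omega)
    have h3 : ν = Multiset.replicate (Multiset.card ν) 2 :=
      Multiset.eq_replicate_card.mpr fun b hb => Multiset.eq_of_mem_replicate (Multiset.mem_of_le hν hb)
    apply h2
    rw [← hs, h3, Multiset.sum_replicate, smul_eq_mul]
    exact even_two.mul_left _
  · intro h μ hμ hsum
    have hf := hform μ hμ
    set a := μ.count 2 with ha
    set b := μ.count 1 with hb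
    have hn : 2 * a + b = n := by
      rw [← hsum, hf, Multiset.sum_add, Multiset.sum_replicate, Multiset.sum_replicate]
      simp [mul_comm]
    obtain ⟨u, v, hu, hv, huv⟩ : ∃ u v, u ≤ a ∧ v ≤ b ∧ 2 * u + v = m := by
      by_cases hle : m / 2 ≤ a
      · refine ⟨m / 2, m % 2, hle, ?_, by omega⟩
        rcases h with h | h
        · obtain ⟨k, hk⟩ := h; omega
        · obtain ⟨k, hk⟩ := h; omega
      · exact ⟨a, m - 2 * a, le_rfl, by omega, by omega⟩
    refine ⟨Multiset.replicate u 2 + Multiset.replicate v 1, ?_, ?_⟩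
    · rw [hf]
      exact add_le_add ((Multiset.replicate_le_replicate 2).mpr hu) ((Multiset.replicate_le_replicate 1).mpr hv)
    · rw [Multiset.sum_add, Multiset.sum_replicate, Multiset.sum_replicate]
      simp only [smul_eq_mul, mul_one]
      omega

end Cfsg.Agent.Lib.ElusiveUni
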