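import Mathlib
import Cfsg.Agent.Lib.JordanNil

/-! Jordan types of nilpotent maps: relative splitting. (helper99) -/

set_option autoImplicit false

namespace Cfsg.Agent.Lib.JordanNil

open Module Cfsg.Agent.Lib.InvSub

variable {F V : Type*} [Field F] [AddCommGroup V] [Module F V]

/-- span of the Jordan blocks with index in `s` -/
def blk {d : ℕ} {k : Fin d → ℕ} (b : Basis (Σ i : Fin d, Fin (k i)) F V) (s : Finset (Fin d)) : Submodule F V :=
  Submodule.span F (b '' {x | x.1 ∈ s})

section blk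

variable {N : Module.End F V} {d : ℕ} {k : Fin d → ℕ} {b : Basis (Σ i : Fin d, Fin (k i)) F V}

theorem IsJB.blk_inv (hb : IsJB N k b) (s : Finset (Fin d)) : Inv N (blk b s) := by
  unfold blk
  rw [inv_iff_map_le, Submodule.map_span, Submodule.span_le]
  rintro _ ⟨_, ⟨⟨i, a⟩, hx, rfl⟩, rfl⟩
  rw [hb i a]
  split_ifs with h'
  · exact Submodule.subset_span ⟨⟨i, ⟨a + 1, h'⟩⟩, hx, rfl⟩
  · exact Submodule.zero_mem _

theorem blk_compl (s : Finset (Fin d)) : IsCompl (blk b s) (blk b sᶜ) := by
  unfold blk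
  constructor
  · exact b.linearIndependent.disjoint_span_image (by
      rw [Set.disjoint_left]
      intro x hx hx'
      exact (Finset.mem_compl.mp hx') hx)
  · rw [codisjoint_iff, ← Submodule.span_union, ← Set.image_union]
    have : ({x : Σ i : Fin d, Fin (k i) | x.1 ∈ s} ∪ {x | x.1 ∈ sᶜ}) = Set.univ := by
      ext x
      simp only [Set.mem_union, Set.mem_univ, iff_true]
      by_cases h : x.1 ∈ s
      · exact Or.inl h
      · exact Or.inr (Finset.mem_compl.mpr h)
    rw [this, Set.image_univ, b.span_eq]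

theorem IsJB.finrank_blk (hb : IsJB N k b) (s : Finset (Fin d)) (j : ℕ) :
    finrank F ↥((blk b s).map (N ^ j)) = ∑ i ∈ s, (k i - j) := by
  classical
  let g : (Σ i : s, Fin (k i - j)) → Σ i : Fin d, Fin (k i) :=
    fun x => ⟨x.1, ⟨x.2 + j, by have := x.2.2; omega⟩⟩
  have hg : Function.Injective g := by
    rintro ⟨⟨i, hi⟩, a⟩ ⟨⟨i', hi'⟩, a'⟩ h
    have h1 : i = i' := congrArg Sigma.fst h
    subst h1
    have h2 := eq_of_heq (Sigma.mk.inj h).2
    have h3 : (a : ℕ) + j = a' + j := congrArg Fin.val h2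
    have h4 : a = a' := Fin.ext (by omega)
    rw [h4]
  have hli : LinearIndependent F (b ∘ g) := b.linearIndependent.comp g hg
  have hspan : (blk b s).map (N ^ j) = Submodule.span F (Set.range (b ∘ g)) := by
    unfold blk
    rw [Submodule.map_span]
    apply le_antisymm
    · rw [Submodule.span_le]
      rintro _ ⟨_, ⟨⟨i, a⟩, hi, rfl⟩, rfl⟩
      rw [hb.pow_apply]
      split_ifs with h'
      · apply Submodule.subset_span
        exact ⟨⟨⟨i, hi⟩, ⟨a, by simp only; omega⟩⟩, rfl⟩
      · exact Submodule.zero_mem _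
    · apply Submodule.span_mono
      rintro _ ⟨⟨⟨i, hi⟩, a⟩, rfl⟩
      refine ⟨b ⟨i, ⟨a, by have := a.2; simp only at this; omega⟩⟩, ⟨_, hi, rfl⟩, ?_⟩
      rw [hb.pow_apply, dif_pos]
      rfl
  rw [hspan, finrank_span_eq_card hli, Fintype.card_sigma]
  simp only [Fintype.card_fin]
  rw [Finset.sum_coe_sort s (fun i => k i - j)]

theorem IsJB.typ_blk (hb : IsJB N k b) (s : Finset (Fin d)) :
    Typ N (blk b s) ((s.val.map k).filter (fun b => 0 < b)) := by
  refine ⟨by simp, fun j => ?_⟩
  rw [hb.finrank_blk, sum_filter_pos, Multiset.map_map]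
  rfl

end blk

lemma nil_restrict {N : Module.End F V} (hN : IsNilpotent N) {C : Submodule F V} (hC : Inv N C) :
    IsNilpotent (N.restrict hC : Module.End F C) := by
  obtain ⟨p, hp⟩ := hN
  refine ⟨p, ?_⟩
  ext x
  rw [restrict_pow' hC, hp]
  simp

lemma typ_map_iff {N : Module.End F V} {C : Submodule F V} (hC : Inv N C) {U : Submodule F C} {μ : Multiset ℕ} :
    Typ N (U.map C.subtype) μ ↔ Typ (N.restrict hC : Module.End F C) U μ := by
  have h : ∀ j, finrank F ↥((U.map C.subtype).map (N ^ j)) =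
      finrank F ↥(U.map ((N.restrict hC : Module.End F C) ^ j)) := by
    intro j
    have h2 : (U.map C.subtype).map (N ^ j) = (U.map ((N.restrict hC : Module.End F C) ^ j)).map C.subtype := by
      ext y
      constructor
      · rintro ⟨_, ⟨x, hx, rfl⟩, rfl⟩
        exact ⟨((N.restrict hC : Module.End F C) ^ j) x, ⟨x, hx, rfl⟩, restrict_pow' hC j x⟩
      · rintro ⟨_, ⟨x, hx, rfl⟩, rfl⟩
        exact ⟨x, ⟨x, hx, rfl⟩, (restrict_pow' hC j x).symm⟩
    rw [h2, Submodule.finrank_map_subtype_eq]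
  unfold Typ
  simp only [h]

lemma inv_map_subtype {N : Module.End F V} {C : Submodule F V} (hC : Inv N C) {U : Submodule F C}
    (hU : Inv (N.restrict hC : Module.End F C) U) : Inv N (U.map C.subtype) := by
  rintro _ ⟨x, hx, rfl⟩
  exact ⟨(N.restrict hC : Module.End F C) x, hU x hx, rfl⟩

/-- relative splitting of an invariant subspace according to a sub-multiset of its type. -/
theorem Typ.split_rel [FiniteDimensional F V] {N : Module.End F V} (hN : IsNilpotent N) {C : Submodule F V}
    (hC : Inv N C) {μ ν : Multiset ℕ} (h : Typ N C μ) (hν : ν ≤ μ) :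
    ∃ U W : Submodule F V, Disjoint U W ∧ U ⊔ W = C ∧ Inv N U ∧ Inv N W ∧ Typ N U ν ∧ Typ N W (μ - ν) := by
  classical
  have hN' := nil_restrict hN hC
  have h' : Typ (N.restrict hC : Module.End F C) ⊤ μ := by
    rw [← typ_map_iff hC, Submodule.map_subtype_top]
    exact h
  obtain ⟨d, k, b, hb⟩ := exists_JB _ hN'
  have hμ := h'.unique hb.typ
  have hν' : ν ≤ (Finset.univ : Finset (Fin d)).val.map k := by
    rw [hμ] at hν
    exact hν.trans (Multiset.filter_le _ _)
  obtain ⟨t, ht, ht'⟩ := exists_sub_of_le_map k _ hν'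
  have hnd : t.Nodup := Multiset.nodup_of_le ht Finset.univ.nodup
  let s : Finset (Fin d) := ⟨t, hnd⟩
  have h0 : 0 ∉ ν := fun h0 => h.1 (Multiset.mem_of_le hν h0)
  have hU : Typ (N.restrict hC : Module.End F C) (blk b s) ν := by
    have h1 := hb.typ_blk s
    have h2 : (s.val.map k) = ν := ht'
    rw [h2, Multiset.filter_eq_self.mpr] at h1
    · exact h1
    · intro a ha
      rcases Nat.eq_zero_or_pos a with rfl | h
      · exact absurd ha h0
      · exact h
  have hUinv := hb.blk_inv s
  have hWinv := hb.blk_inv sᶜ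
  have hcompl := blk_compl (b := b) s
  obtain ⟨ρ, hρ⟩ := exists_typ hN' hWinv
  have hsum := hU.sup hUinv hWinv hcompl.disjoint hρ
  rw [hcompl.sup_eq_top] at hsum
  have hμρ : μ = ν + ρ := h'.unique hsum
  refine ⟨(blk b s).map C.subtype, (blk b sᶜ).map C.subtype, ?_, ?_, inv_map_subtype hC hUinv,
    inv_map_subtype hC hWinv, (typ_map_iff hC).mpr hU, ?_⟩
  · rw [disjoint_iff, ← Submodule.map_inf _ C.injective_subtype, hcompl.inf_eq_bot, Submodule.map_bot]
  · rw [← Submodule.map_sup, hcompl.sup_eq_top, Submodule.map_subtype_top]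
  · rw [hμρ, add_tsub_cancel_left]
    exact (typ_map_iff hC).mpr hρ

/-- a type with all parts equal to `2`, `T = y + N`: cyclic over two translates. -/
theorem exists_half [FiniteDimensional F V] {N : Module.End F V} {C : Submodule F V} (hC : Inv N C)
    (hN2 : N ^ 2 = 0) {a : ℕ} (h : Typ N C (Multiset.replicate a 2)) :
    ∃ K ≤ C, finrank F K = a ∧ K ⊔ K.map N = C := by
  have hCf : finrank F C = a * 2 := by rw [h.finrank_eq, Multiset.sum_replicate]; simp
  have hNC : finrank F ↥(C.map N) = a := by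
    have := h.2 1
    rw [pow_one] at this
    rw [this, Multiset.map_replicate, Multiset.sum_replicate]
    simp
  have hle : C.map N ≤ C := inv_iff_map_le.mp hC
  obtain ⟨K0, hK0⟩ := Submodule.exists_isCompl (C.map N)
  have hmod : C.map N ⊔ K0 ⊓ C = C := by
    rw [← sup_inf_assoc_of_le K0 hle, hK0.sup_eq_top, top_inf_eq]
  have hd : Disjoint (C.map N) (K0 ⊓ C) := hK0.disjoint.mono_right inf_le_left
  have hNN : ∀ v, N (N v) = 0 := by
    intro v
    have := congrArg (fun f : Module.End F V => f v) hN2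
    simpa [pow_two] using this
  have hKN : (K0 ⊓ C).map N = C.map N := by
    apply le_antisymm (Submodule.map_mono inf_le_right)
    rintro _ ⟨v, hv, rfl⟩
    rw [← hmod] at hv
    obtain ⟨x, hx, z, hz, rfl⟩ := Submodule.mem_sup.mp hv
    obtain ⟨x', -, rfl⟩ := hx
    rw [map_add, hNN, zero_add]
    exact ⟨z, hz, rfl⟩
  refine ⟨K0 ⊓ C, inf_le_right, ?_, ?_⟩
  · have e := Submodule.finrank_sup_add_finrank_inf_eq (C.map N) (K0 ⊓ C)
    rw [hd.eq_bot, finrank_bot, hmod] at e
    omega
  · rw [hKN, sup_comm]; exact hmod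

end Cfsg.Agent.Lib.JordanNil
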