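import Mathlib
import Cfsg.Prelude.Def_GeometricClasses
import Cfsg.Agent.Lib.ElusiveUni
import Cfsg.Agent.Lib.JordanNil2

/-! Conjugating elements of SL_n(F) into subfield subgroups. (helper99) -/

set_option autoImplicit false

namespace Cfsg.Agent.Lib.ConjSub

open Module Cfsg.Agent.Lib.InvSub Cfsg.Agent.Lib.ElusiveLin Cfsg.Agent.Lib.PrimeOrd

section

variable {F : Type*} [Field F] {n : ℕ}

/-- the subfield subgroup of SL_n -/
abbrev HSub (n : ℕ) (F₀ : Subfield F) : Subgroup (Matrix.SpecialLinearGroup (Fin n) F) :=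
  (Cfsg.Geo.subfieldSubgroup F₀ 1).comap
    (Matrix.SpecialLinearGroup.toGL : Matrix.SpecialLinearGroup (Fin n) F →* GL (Fin n) F)

lemma det_map_subtype (F₀ : Subfield F) (B : Matrix (Fin n) (Fin n) F₀) :
    (B.map F₀.subtype).det = (B.det : F) := by
  rw [← RingHom.mapMatrix_apply, ← RingHom.map_det]; rfl

lemma mem_HSub_iff (hn : 0 < n) (F₀ : Subfield F) (A : Matrix.SpecialLinearGroup (Fin n) F) :
    A ∈ HSub n F₀ ↔ ∃ (c : F) (B : Matrix (Fin n) (Fin n) F₀), (A : Matrix (Fin n) (Fin n) F) = c • B.map F₀.subtype := by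
  have hne : Nonempty (Fin n) := ⟨⟨0, hn⟩⟩
  rw [Subgroup.mem_comap]
  unfold Cfsg.Geo.subfieldSubgroup
  have h1 : ((MulAut.conj (1 : GL (Fin n) F)).toMonoidHom : GL (Fin n) F →* GL (Fin n) F) = MonoidHom.id _ := by
    rw [map_one]; rfl
  rw [h1, Subgroup.map_id, Subgroup.mem_sup_of_normal_right]
  constructor
  · rintro ⟨y, ⟨B, rfl⟩, z, hz, hyz⟩
    obtain ⟨c, hc⟩ := (Cfsg.Geo.mem_scalars_iff z).mp hz
    refine ⟨c, (B : Matrix (Fin n) (Fin n) F₀), ?_⟩
    have h2 := congrArg (fun g : GL (Fin n) F => (g : Matrix (Fin n) (Fin n) F)) hyz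
    simp only [Units.val_mul, hc] at h2
    rw [Matrix.mul_smul, Matrix.mul_one] at h2
    exact h2.symm
  · rintro ⟨c, B, hA⟩
    have hdet := A.2
    rw [hA, Matrix.det_smul, Fintype.card_fin, det_map_subtype] at hdet
    have hc : c ≠ 0 := by
      rintro rfl
      rw [zero_pow hn.ne', zero_mul] at hdet
      exact zero_ne_one hdet
    have hB : B.det ≠ 0 := by
      intro h0
      rw [h0] at hdet
      simp at hdet
    refine ⟨Matrix.GeneralLinearGroup.map (n := Fin n) (F₀.subtype : F₀ →+* F) (Matrix.GeneralLinearGroup.mkOfDetNeZero B hB),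
      ⟨_, rfl⟩, (Units.map (Matrix.scalar (Fin n) : F →+* Matrix (Fin n) (Fin n) F).toMonoidHom) (Units.mk0 c hc),
      ⟨_, rfl⟩, ?_⟩
    apply Units.ext
    rw [Units.val_mul]
    have h3 : (((Units.map (Matrix.scalar (Fin n) : F →+* Matrix (Fin n) (Fin n) F).toMonoidHom) (Units.mk0 c hc) : GL (Fin n) F) : Matrix (Fin n) (Fin n) F)
        = c • (1 : Matrix (Fin n) (Fin n) F) := by
      simp [Matrix.smul_one_eq_diagonal]
    rw [h3, Matrix.mul_smul, Matrix.mul_one]
    exact hA.symm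

/-- the matrix of a basis -/
noncomputable def bmat (b : Basis (Fin n) F (Fin n → F)) : Matrix (Fin n) (Fin n) F := (Pi.basisFun F (Fin n)).toMatrix b

lemma bmat_det_ne (b : Basis (Fin n) F (Fin n → F)) : (bmat b).det ≠ 0 := by
  have h := (Pi.basisFun F (Fin n)).toMatrix_mul_toMatrix_flip b
  have h2 := congrArg Matrix.det h
  rw [Matrix.det_mul, Matrix.det_one] at h2
  intro h0
  unfold bmat at h0
  rw [h0, zero_mul] at h2
  exact zero_ne_one h2

lemma mul_bmat (A : Matrix (Fin n) (Fin n) F) (b : Basis (Fin n) F (Fin n → F)) :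
    A * bmat b = bmat b * LinearMap.toMatrix b b (Matrix.toLin' A) := by
  unfold bmat
  rw [basis_toMatrix_mul_linearMap_toMatrix]
  have h := linearMap_toMatrix_mul_basis_toMatrix b (Pi.basisFun F (Fin n)) (Pi.basisFun F (Fin n)) (Matrix.toLin' A)
  rw [← h]
  congr 1
  rw [LinearMap.toMatrix_eq_toMatrix', LinearMap.toMatrix'_toLin']

/-- the conjugation criterion -/
theorem exists_conj (hn : 0 < n) (F₀ : Subfield F) {x : Matrix.SpecialLinearGroup (Fin n) F}
    (b : Basis (Fin n) F (Fin n → F)) (c : F) (B : Matrix (Fin n) (Fin n) F₀)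
    (h : LinearMap.toMatrix b b (tl x) = c • B.map F₀.subtype)
    (C : Module.End F (Fin n → F)) (d : F₀) (hC : C * tl x = tl x * C)
    (hdet : LinearMap.det C * (bmat b).det * (d : F) = 1) :
    ∃ P : Matrix.SpecialLinearGroup (Fin n) F, P⁻¹ * x * P ∈ HSub n F₀ := by
  classical
  have hd : d ≠ 0 := by
    rintro rfl
    simp at hdet
  let D₀ : Matrix (Fin n) (Fin n) F₀ := Matrix.diagonal (Function.update (fun _ => (1 : F₀)) ⟨0, hn⟩ d)
  have hD₀ : D₀.det = d := by
    rw [Matrix.det_diagonal, Finset.prod_update_of_mem (Finset.mem_univ _)]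
    simp
  have hD₀u : IsUnit D₀.det := by rw [hD₀]; exact isUnit_iff_ne_zero.mpr hd
  let D : Matrix (Fin n) (Fin n) F := D₀.map F₀.subtype
  have hD : D.det = d := by rw [det_map_subtype, hD₀]
  have hCm : LinearMap.toMatrix' C * (x : Matrix (Fin n) (Fin n) F) = (x : Matrix (Fin n) (Fin n) F) * LinearMap.toMatrix' C := by
    have h1 := congrArg LinearMap.toMatrix' hC
    rw [LinearMap.toMatrix'_mul, LinearMap.toMatrix'_mul] at h1
    have h2 : LinearMap.toMatrix' (tl x) = (x : Matrix (Fin n) (Fin n) F) := LinearMap.toMatrix'_toLin' _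
    rwa [h2] at h1
  let P : Matrix (Fin n) (Fin n) F := LinearMap.toMatrix' C * bmat b * D
  have hP : P.det = 1 := by
    rw [Matrix.det_mul, Matrix.det_mul, hD, LinearMap.det_toMatrix', hdet]
  let P' : Matrix.SpecialLinearGroup (Fin n) F := ⟨P, hP⟩
  let B' : Matrix (Fin n) (Fin n) F₀ := D₀⁻¹ * B * D₀
  have hBB : B.map F₀.subtype * D = D * B'.map F₀.subtype := by
    change B.map F₀.subtype * D₀.map F₀.subtype = D₀.map F₀.subtype * B'.map F₀.subtype
    rw [← Matrix.map_mul, ← Matrix.map_mul]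
    congr 1
    change B * D₀ = D₀ * (D₀⁻¹ * B * D₀)
    rw [Matrix.mul_assoc D₀⁻¹, ← Matrix.mul_assoc D₀, Matrix.mul_nonsing_inv _ hD₀u, Matrix.one_mul]
  have key : (x : Matrix (Fin n) (Fin n) F) * P = P * (c • B'.map F₀.subtype) := by
    change (x : Matrix (Fin n) (Fin n) F) * (LinearMap.toMatrix' C * bmat b * D) = LinearMap.toMatrix' C * bmat b * D * (c • B'.map F₀.subtype)
    rw [← Matrix.mul_assoc, ← Matrix.mul_assoc, ← hCm, Matrix.mul_assoc (LinearMap.toMatrix' C), mul_bmat]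
    have h3 : LinearMap.toMatrix b b (Matrix.toLin' (x : Matrix (Fin n) (Fin n) F)) = c • B.map F₀.subtype := h
    rw [h3, Matrix.mul_smul, Matrix.mul_smul, Matrix.smul_mul, ← Matrix.mul_assoc,
      Matrix.mul_assoc _ (B.map F₀.subtype), hBB, ← Matrix.mul_assoc, Matrix.mul_smul]
  refine ⟨P', (mem_HSub_iff hn F₀ _).mpr ⟨c, B', ?_⟩⟩
  rw [Matrix.SpecialLinearGroup.coe_mul, Matrix.SpecialLinearGroup.coe_mul, Matrix.mul_assoc]
  have h4 : (x : Matrix (Fin n) (Fin n) F) * (P' : Matrix (Fin n) (Fin n) F) = P * (c • B'.map F₀.subtype) := key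
  rw [h4]
  have h5 : ((P'⁻¹ : Matrix.SpecialLinearGroup (Fin n) F) : Matrix (Fin n) (Fin n) F) * P = 1 := by
    have h6 := congrArg (fun A : Matrix.SpecialLinearGroup (Fin n) F => (A : Matrix (Fin n) (Fin n) F)) (inv_mul_cancel P')
    rw [Matrix.SpecialLinearGroup.coe_mul] at h6
    exact h6
  rw [← Matrix.mul_assoc, h5, Matrix.one_mul]

end

section comm

variable {F V : Type*} [Field F] [AddCommGroup V] [Module F V] [FiniteDimensional F V]

/-- elements of the centralizer with prescribed determinant -/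
theorem exists_comm {T : Module.End F V} {U W : Submodule F V} (hUW : IsCompl U W) (hU : Inv T U) (hW : Inv T W)
    (δ : F) : ∃ C : Module.End F V, C * T = T * C ∧ LinearMap.det C = δ ^ finrank F U := by
  let e := Submodule.prodEquivOfIsCompl U W hUW
  let C₀ : (U × W) →ₗ[F] (U × W) := (δ • LinearMap.id).prodMap LinearMap.id
  let C : Module.End F V := (e : (U × W) →ₗ[F] V) ∘ₗ C₀ ∘ₗ (e.symm : V →ₗ[F] (U × W))
  have hCU : ∀ u ∈ U, C u = δ • u := by
    intro u hu
    change e (C₀ (e.symm u)) = _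
    have : e.symm u = (⟨u, hu⟩, 0) := Submodule.prodEquivOfIsCompl_symm_apply_left U W hUW ⟨u, hu⟩
    rw [this]
    simp [C₀, e]
  have hCW : ∀ w ∈ W, C w = w := by
    intro w hw
    change e (C₀ (e.symm w)) = _
    have : e.symm w = (0, ⟨w, hw⟩) := Submodule.prodEquivOfIsCompl_symm_apply_right U W hUW ⟨w, hw⟩
    rw [this]
    simp [C₀, e]
  refine ⟨C, ?_, ?_⟩
  · apply LinearMap.ext
    intro v
    have hv : v ∈ U ⊔ W := by rw [hUW.sup_eq_top]; trivial
    obtain ⟨u, hu, w, hw, rfl⟩ := Submodule.mem_sup.mp hv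
    rw [Module.End.mul_apply, Module.End.mul_apply, map_add, map_add, map_add, hCU u hu, hCW w hw,
      hCU _ (hU u hu), hCW _ (hW w hw), map_add, map_smul]
  · have h1 : LinearMap.det C = LinearMap.det C₀ := by
      exact LinearMap.det_conj C₀ e
    rw [h1]
    change LinearMap.det ((δ • (LinearMap.id : U →ₗ[F] U)).prodMap (LinearMap.id : W →ₗ[F] W)) = _
    rw [LinearMap.det_prodMap, LinearMap.det_smul, LinearMap.det_id, LinearMap.det_id, mul_one, mul_one]

end comm

section

variable {F : Type*} [Field F] {n : ℕ}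

/-- the form used in practice: a rational form, and an invariant complemented subspace of dimension `m` such that
`(F^×)^m F₀^× = F^×`. -/
theorem exists_conj' (hn : 0 < n) (F₀ : Subfield F) {x : Matrix.SpecialLinearGroup (Fin n) F}
    {ι : Type*} [Fintype ι] (b : Basis ι F (Fin n → F)) (c : F)
    (h : ∀ i j, ∃ a : F₀, b.repr (tl x (b j)) i = c * a)
    {U W : Submodule F (Fin n → F)} (hUW : IsCompl U W) (hU : Inv (tl x) U) (hW : Inv (tl x) W)
    (hfull : ∀ a : F, a ≠ 0 → ∃ (δ : F) (d : F₀), δ ^ finrank F U * d = a) :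
    ∃ P : Matrix.SpecialLinearGroup (Fin n) F, P⁻¹ * x * P ∈ HSub n F₀ := by
  classical
  have hcard : Fintype.card ι = n := by
    rw [← Module.finrank_eq_card_basis b]; simp
  let e : ι ≃ Fin n := Fintype.equivFinOfCardEq hcard
  let b' := b.reindex e
  choose B hB using h
  have hmat : LinearMap.toMatrix b' b' (tl x) = c • (Matrix.of fun i j => B (e.symm i) (e.symm j)).map F₀.subtype := by
    ext i j
    rw [LinearMap.toMatrix_apply]
    simp only [b', Basis.repr_reindex, Basis.reindex_apply, Finsupp.mapDomain_equiv_apply, Matrix.smul_apply,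
      Matrix.map_apply, Matrix.of_apply, smul_eq_mul]
    exact hB _ _
  have hdet0 := bmat_det_ne b'
  obtain ⟨δ, d, hδ⟩ := hfull ((bmat b').det)⁻¹ (inv_ne_zero hdet0)
  obtain ⟨C, hC, hCdet⟩ := exists_comm hUW hU hW δ
  apply exists_conj hn F₀ b' c _ hmat C d hC
  rw [hCdet, mul_assoc, mul_comm _ (d : F), ← mul_assoc, hδ, inv_mul_cancel₀ hdet0]

end

end Cfsg.Agent.Lib.ConjSub
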