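import Mathlib
import Cfsg.Agent.Lib.ConjSub
import Cfsg.Agent.Lib.ClSLn

/-! Conjugating p-elements and involutions of SL_n(F) into subfield subgroups. (helper99) -/

set_option autoImplicit false

namespace Cfsg.Agent.Lib.ConjSub

open Module Cfsg.Agent.Lib.InvSub Cfsg.Agent.Lib.ElusiveLin Cfsg.Agent.Lib.PrimeOrd Cfsg.Agent.Lib.JordanNil
  Cfsg.Agent.Lib.ElusiveUni

section unip

variable {F : Type*} [Field F] {n : ℕ}

lemma typ_smul {V : Type*} [AddCommGroup V] [Module F V] {N : Module.End F V} {U : Submodule F V} {μ : Multiset ℕ}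
    {c : F} (hc : c ≠ 0) (h : Typ N U μ) : Typ (c • N) U μ := by
  refine ⟨h.1, fun j => ?_⟩
  rw [← h.2 j, smul_pow]
  have : U.map (c ^ j • N ^ j) = U.map (N ^ j) := by
    rw [Submodule.map_smul _ _ _ (pow_ne_zero j hc)]
  rw [this]

theorem exists_conj_unip (hn : 0 < n) (F₀ : Subfield F) {x : Matrix.SpecialLinearGroup (Fin n) F} {y : F}
    (hy : y ≠ 0) (hN : IsNilpotent (tl x - y • (1 : Module.End F (Fin n → F)))) {μ : Multiset ℕ}
    (hμ : Typ (tl x - y • (1 : Module.End F (Fin n → F))) ⊤ μ) {m : ℕ} (hm : m ∈ μ)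
    (hfull : ∀ a : F, a ≠ 0 → ∃ (δ : F) (d : F₀), δ ^ m * d = a) :
    ∃ P : Matrix.SpecialLinearGroup (Fin n) F, P⁻¹ * x * P ∈ HSub n F₀ := by
  classical
  set M := tl x - y • (1 : Module.End F (Fin n → F)) with hM
  have hN' : IsNilpotent (y⁻¹ • M) := by
    obtain ⟨k, hk⟩ := hN
    exact ⟨k, by rw [smul_pow, hk, smul_zero]⟩
  have hμ' := typ_smul (inv_ne_zero hy) hμ
  obtain ⟨d, k, b, hb⟩ := exists_JB _ hN'
  have h1 := hμ'.unique hb.typ
  have h2 : ∃ i, k i = m := by
    rw [h1, Multiset.mem_filter] at hm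
    obtain ⟨i, -, hi⟩ := Multiset.mem_map.mp hm.1
    exact ⟨i, hi⟩
  obtain ⟨i, hi⟩ := h2
  have hx : tl x = y • (1 + y⁻¹ • M) := by
    rw [smul_add, smul_smul, mul_inv_cancel₀ hy, one_smul, hM]; abel
  have hinv : ∀ s : Finset (Fin d), Inv (tl x) (blk b s) := by
    intro s
    rw [hx]
    have h3 : Inv (1 + y⁻¹ • M) (blk b s) := inv_one_add_iff.mpr (hb.blk_inv s)
    intro v hv
    exact Submodule.smul_mem _ y (h3 v hv)
  have hfin : finrank F ↥(blk b {i}) = m := by
    have := hb.finrank_blk {i} 0
    rw [pow_zero, Module.End.one_eq_id, Submodule.map_id] at this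
    rw [this]; simp [hi]
  refine exists_conj' hn F₀ b y ?_ (blk_compl (b := b) {i}) (hinv _) (hinv _) (by rw [hfin]; exact hfull)
  intro p q
  rw [hx]
  have h4 : (y • (1 + y⁻¹ • M)) (b q) = y • (b q + (y⁻¹ • M) (b q)) := rfl
  rw [h4, hb q.1 q.2]
  split_ifs with h5
  · refine ⟨(if q = p then 1 else 0) + (if (⟨q.1, ⟨q.2 + 1, h5⟩⟩ : Σ i : Fin d, Fin (k i)) = p then 1 else 0), ?_⟩
    simp only [map_smul, map_add, Basis.repr_self, Finsupp.smul_apply, Finsupp.add_apply, Finsupp.single_apply, smul_eq_mul]
    congr 1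
    push_cast
    split_ifs <;> simp
  · refine ⟨(if q = p then 1 else 0), ?_⟩
    simp only [map_smul, add_zero, Basis.repr_self, Finsupp.smul_apply, Finsupp.single_apply, smul_eq_mul]
    congr 1
    split_ifs <;> simp

end unip

section fields

variable {F : Type*} [Field F] [Fintype F]

/-- in characteristic `p`, every element is a `p`-th power -/
lemma full_p {p : ℕ} [Fact p.Prime] [CharP F p] (F₀ : Subfield F) :
    ∀ a : F, a ≠ 0 → ∃ (δ : F) (d : F₀), δ ^ p * d = a := by
  intro a _
  have h : Function.Surjective (frobenius F p) :=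
    Finite.surjective_of_injective (frobenius F p).injective
  obtain ⟨y, hy⟩ := h a
  exact ⟨y, 1, by rw [← hy]; simp [frobenius_def]⟩

omit [Fintype F] in
lemma full_one (F₀ : Subfield F) : ∀ a : F, a ≠ 0 → ∃ (δ : F) (d : F₀), δ ^ 1 * d = a :=
  fun a _ => ⟨a, 1, by simp⟩

/-- if `|F| = |F₀|^k` with `k` odd, then `(F^×)^2 F₀^× = F^×`. -/
lemma full_two_odd (F₀ : Subfield F) {k : ℕ} (hk : Odd k) (hq : Fintype.card F = Nat.card F₀ ^ k)
    (hodd : Odd (Fintype.card F)) :
    ∀ a : F, a ≠ 0 → ∃ (δ : F) (d : F₀), δ ^ 2 * d = a := by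
  classical
  intro a ha
  -- F₀ contains a nonsquare of F
  have hfin : Fintype F₀ := Fintype.ofFinite _
  have hring : ringChar F ≠ 2 := by
    intro h
    have h1 := FiniteField.even_card_of_char_two h
    have h2 : Fintype.card F % 2 = 0 := h1
    obtain ⟨m, hm⟩ := hodd
    omega
  by_cases hsq : IsSquare a
  · obtain ⟨s, rfl⟩ := hsq
    exact ⟨s, 1, by simp [pow_two]⟩
  · have hq0 : Odd (Nat.card F₀) := by
      rw [hq] at hodd
      by_contra hne
      rw [Nat.not_odd_iff_even] at hne
      have hk0 : k ≠ 0 := by rintro rfl; exact absurd hk (by decide)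
      exact (Nat.not_even_iff_odd.mpr hodd) (Nat.even_pow.mpr ⟨hne, hk0⟩)
    have hq0' : Odd (Fintype.card F₀) := by rwa [← Nat.card_eq_fintype_card]
    have hring0 : ringChar F₀ ≠ 2 := by
      intro h
      have h1 := FiniteField.even_card_of_char_two h
      obtain ⟨m, hm⟩ := hq0'
      omega
    obtain ⟨w, hw⟩ := FiniteField.exists_nonsquare hring0
    have hw0 : w ≠ 0 := by rintro rfl; exact hw ⟨0, by simp⟩
    have hw' : ¬ IsSquare (w : F) := by
      intro h
      have hwF : (w : F) ≠ 0 := by exact_mod_cast hw0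
      rw [FiniteField.isSquare_iff hring hwF] at h
      apply hw
      rw [FiniteField.isSquare_iff hring0 hw0]
      -- card F / 2 = card F₀ / 2 * odd
      have h2 : ∃ m, Odd m ∧ Fintype.card F / 2 = Fintype.card F₀ / 2 * m := by
        refine ⟨∑ i ∈ Finset.range k, Fintype.card F₀ ^ i, ?_, ?_⟩
        · rw [Finset.odd_sum_iff_odd_card_odd]
          have : (Finset.range k).filter (fun i => Odd (Fintype.card F₀ ^ i)) = Finset.range k := by
            apply Finset.filter_true_of_mem
            intro i _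
            exact hq0'.pow
          rw [this, Finset.card_range]; exact hk
        · have h3 : (Fintype.card F₀ - 1) * ∑ i ∈ Finset.range k, Fintype.card F₀ ^ i = Fintype.card F₀ ^ k - 1 := by
            have h4 := Nat.geomSum_eq (m := Fintype.card F₀) (by have := Fintype.one_lt_card (α := F₀); omega) k
            rw [h4, Nat.mul_div_cancel']
            have := Nat.sub_dvd_pow_sub_pow (Fintype.card F₀) 1 k
            rwa [one_pow] at this
          rw [Nat.card_eq_fintype_card] at hq
          rw [hq]
          obtain ⟨m, hm⟩ := hq0'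
          have h5 : Fintype.card F₀ ^ k = 2 * (m * ∑ i ∈ Finset.range k, Fintype.card F₀ ^ i) + 1 := by
            have h6 : 1 ≤ Fintype.card F₀ ^ k := Nat.one_le_pow _ _ Fintype.card_pos
            have h7 : (Fintype.card F₀ - 1) = 2 * m := by omega
            rw [h7] at h3
            rw [← mul_assoc]; omega
          rw [h5]
          have h8 : Fintype.card F₀ / 2 = m := by omega
          rw [h8]
          omega
      obtain ⟨m, hm, hm'⟩ := h2
      rw [hm', pow_mul] at h
      have h9 : ((w ^ (Fintype.card F₀ / 2) : F₀) : F) ^ m = 1 := by push_cast; exact h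
      have h10 := FiniteField.pow_dichotomy hring0 hw0
      rcases h10 with h11 | h11
      · exact h11
      · exfalso
        rw [h11] at h9
        push_cast at h9
        rw [hm.neg_one_pow] at h9
        have h12 : (2 : F) = 0 := by
          have h13 : (1 : F) + 1 = 0 := by
            nth_rewrite 1 [← h9]
            ring
          rw [← h13]; norm_num
        exact (Ring.two_ne_zero hring) h12
    have h3 : IsSquare (a * (w : F)⁻¹) := by
      have hwF : (w : F)⁻¹ ≠ 0 := inv_ne_zero (by exact_mod_cast hw0)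
      have hwi : ¬ IsSquare (w : F)⁻¹ := by
        intro h; apply hw'
        have := h.inv
        simpa using this
      rcases FiniteField.pow_dichotomy hring ha with h4 | h4
      · exact absurd ((FiniteField.isSquare_iff hring ha).mpr h4) hsq
      · rcases FiniteField.pow_dichotomy hring hwF with h5 | h5
        · exact absurd ((FiniteField.isSquare_iff hring hwF).mpr h5) hwi
        · rw [FiniteField.isSquare_iff hring (mul_ne_zero ha hwF), mul_pow, h4, h5]; ring
    obtain ⟨s, hs⟩ := h3
    refine ⟨s, w, ?_⟩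
    rw [pow_two, ← hs, mul_assoc, inv_mul_cancel₀ (by exact_mod_cast hw0), mul_one]

/-- squares: `k = 2` -/
lemma isSquare_of_two (F₀ : Subfield F) (hq : Fintype.card F = Nat.card F₀ ^ 2) (d : F₀) : IsSquare (d : F) := by
  classical
  have hfin : Fintype F₀ := Fintype.ofFinite _
  by_cases hd : d = 0
  · subst hd; exact ⟨0, by simp⟩
  by_cases h2 : ringChar F = 2
  · exact FiniteField.isSquare_of_char_two h2 _
  have hdF : (d : F) ≠ 0 := by exact_mod_cast hd
  rw [FiniteField.isSquare_iff h2 hdF]
  have hodd : Fintype.card F % 2 = 1 := FiniteField.odd_card_of_char_ne_two h2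
  rw [Nat.card_eq_fintype_card] at hq
  have hq0 : Fintype.card F₀ % 2 = 1 := by
    rcases Nat.mod_two_eq_zero_or_one (Fintype.card F₀) with h | h
    · exfalso
      rw [hq, Nat.pow_mod, h] at hodd
      simp at hodd
    · exact h
  obtain ⟨m, hm⟩ : ∃ m, Fintype.card F₀ = 2 * m + 1 := ⟨Fintype.card F₀ / 2, by omega⟩
  have h3 : Fintype.card F / 2 = (Fintype.card F₀ - 1) * (m + 1) := by
    rw [hq, hm]
    have : (2 * m + 1) ^ 2 = 2 * (2 * m * (m + 1)) + 1 := by ring
    rw [this]
    have h4 : 2 * m + 1 - 1 = 2 * m := by omega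
    rw [h4]; omega
  rw [h3, pow_mul]
  have h5 : d ^ (Fintype.card F₀ - 1) = 1 := FiniteField.pow_card_sub_one_eq_one d hd
  have h6 : (d : F) ^ (Fintype.card F₀ - 1) = 1 := by exact_mod_cast congrArg (fun z : F₀ => (z : F)) h5
  rw [h6, one_pow]

end fields

section diag

variable {F : Type*} [Field F] {n : ℕ}

/-- diagonalisable elements with eigenvalues in `y F₀`. -/
theorem exists_conj_diag (hn : 0 < n) (F₀ : Subfield F) {x : Matrix.SpecialLinearGroup (Fin n) F} {y : F}
    {ι : Type*} [Fintype ι] (b : Basis ι F (Fin n → F)) (ev : ι → F₀) (h : ∀ j, tl x (b j) = (y * (ev j : F)) • b j) :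
    ∃ P : Matrix.SpecialLinearGroup (Fin n) F, P⁻¹ * x * P ∈ HSub n F₀ := by
  classical
  have hne : Nonempty ι := by
    by_contra hne
    rw [not_nonempty_iff] at hne
    have h1 := Module.finrank_eq_card_basis b
    simp at h1
    omega
  obtain ⟨j₀⟩ := hne
  have hinv : ∀ s : Set ι, Inv (tl x) (Submodule.span F (b '' s)) := by
    intro s
    rw [inv_iff_map_le, Submodule.map_span, Submodule.span_le]
    rintro _ ⟨_, ⟨j, hj, rfl⟩, rfl⟩
    rw [h]
    exact Submodule.smul_mem _ _ (Submodule.subset_span ⟨j, hj, rfl⟩)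
  have hcompl : IsCompl (Submodule.span F (b '' {j₀})) (Submodule.span F (b '' {j₀}ᶜ)) := by
    constructor
    · exact b.linearIndependent.disjoint_span_image disjoint_compl_right
    · rw [codisjoint_iff, ← Submodule.span_union, ← Set.image_union, Set.union_compl_self, Set.image_univ, b.span_eq]
  refine exists_conj' hn F₀ b y ?_ hcompl (hinv _) (hinv _) ?_
  · intro i j
    rw [h]
    refine ⟨ev j * (if j = i then 1 else 0), ?_⟩
    rw [map_smul, Basis.repr_self, Finsupp.smul_apply, Finsupp.single_apply, smul_eq_mul, mul_assoc]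
    push_cast
    split_ifs <;> simp
  · rw [Set.image_singleton, finrank_span_singleton (b.ne_zero j₀)]
    exact full_one F₀

/-- involutions of type B, odd characteristic -/
theorem exists_conj_inv (hn : 0 < n) (F₀ : Subfield F) (h2 : (2 : F) ≠ 0) {x : Matrix.SpecialLinearGroup (Fin n) F}
    {y : F} (hy : y ≠ 0) (hx : (tl x) ^ 2 = (y ^ 2) • (1 : Module.End F (Fin n → F))) :
    ∃ P : Matrix.SpecialLinearGroup (Fin n) F, P⁻¹ * x * P ∈ HSub n F₀ := by
  classical
  have hsq : ∀ v, tl x (tl x v) = (y ^ 2) • v := by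
    intro v
    have := congrArg (fun f : Module.End F (Fin n → F) => f v) hx
    simpa [pow_two] using this
  have hcompl : IsCompl (E (tl x) y) (E (tl x) (-y)) := by
    constructor
    · rw [Submodule.disjoint_def]
      intro v hv hv'
      have h3 := Module.End.mem_eigenspace_iff.mp hv
      have h4 := Module.End.mem_eigenspace_iff.mp hv'
      rw [h3] at h4
      have h5 : (2 * y) • v = 0 := by
        rw [two_mul, add_smul]
        nth_rewrite 1 [h4]
        rw [neg_smul, neg_add_cancel]
      exact (smul_eq_zero.mp h5).resolve_left (mul_ne_zero h2 hy)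
    · rw [codisjoint_iff, eq_top_iff]
      intro v _
      have h3 : v = (2 : F)⁻¹ • (v + y⁻¹ • tl x v) + (2 : F)⁻¹ • (v - y⁻¹ • tl x v) := by
        rw [← smul_add, add_add_sub_cancel, ← two_smul F v, smul_smul, inv_mul_cancel₀ h2, one_smul]
      rw [h3]
      apply Submodule.add_mem_sup
      · apply Submodule.smul_mem
        apply Module.End.mem_eigenspace_iff.mpr
        rw [map_add, map_smul, hsq, smul_add, smul_smul, smul_smul, add_comm]
        congr 2
        · field_simp
        · field_simp
          exact (one_smul F _).symm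
      · apply Submodule.smul_mem
        apply Module.End.mem_eigenspace_iff.mpr
        rw [map_sub, map_smul, hsq, smul_sub, smul_smul, smul_smul]
        have e1 : y⁻¹ * y ^ 2 = y := by field_simp
        have e2 : -y * y⁻¹ = -1 := by field_simp
        rw [e1, e2, neg_smul, neg_smul, one_smul]
        abel
  let e := Submodule.prodEquivOfIsCompl _ _ hcompl
  let b := (((Module.finBasis F (E (tl x) y)).prod (Module.finBasis F (E (tl x) (-y)))).map e)
  refine exists_conj_diag hn F₀ (y := y) b (Sum.elim (fun _ => 1) (fun _ => -1)) ?_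
  rintro (j | j)
  · have hb : b (Sum.inl j) = (Module.finBasis F (E (tl x) y) j : Fin n → F) := by
      simp [b, e]
    rw [hb]
    have := Module.End.mem_eigenspace_iff.mp (Module.finBasis F (E (tl x) y) j).2
    rw [this]
    simp
  · have hb : b (Sum.inr j) = (Module.finBasis F (E (tl x) (-y)) j : Fin n → F) := by
      simp [b, e]
    rw [hb]
    have := Module.End.mem_eigenspace_iff.mp (Module.finBasis F (E (tl x) (-y)) j).2
    rw [this]
    simp

end diag

end Cfsg.Agent.Lib.ConjSub
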