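import Mathlib
import Cfsg.Agent.Lib.PrimeOrd2

/-! Centralizers of semisimple maps over finite fields have all determinants. (helper99) -/

set_option autoImplicit false

namespace Cfsg.Agent.Lib.FieldComm

open Polynomial Module Cfsg.Agent.Lib.InvSub Cfsg.Agent.Lib.PrimeOrd

variable {F V : Type*} [Field F] [AddCommGroup V] [Module F V]

/-- the cyclic submodule generated by a vector killed by an irreducible polynomial -/
theorem exists_adjoin {T : Module.End F V} {f : F[X]} (hf : Irreducible f) {w : V} (hw : w ≠ 0)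
    (hfw : aeval T f w = 0) :
    ∃ g : AdjoinRoot f →ₗ[F] V, Function.Injective g ∧ g 1 = w ∧ ∀ a, g (AdjoinRoot.root f * a) = T (g a) := by
  let w' : AEval' T := AEval'.of T w
  let φ : F[X] →ₗ[F[X]] AEval' T := LinearMap.toSpanSingleton F[X] (AEval' T) w'
  have hφ : ∀ h : F[X], φ h = AEval'.of T (aeval T h w) := by
    intro h
    change h • AEval'.of T w = _
    rfl
  have hφf : φ f = 0 := by rw [hφ, hfw, map_zero]
  have hker : ∀ h : F[X], φ h = 0 → f ∣ h := by
    intro h hh
    by_contra hnd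
    have hcop : IsCoprime f h := (Irreducible.coprime_iff_not_dvd hf).mpr hnd
    obtain ⟨u, v, huv⟩ := hcop
    have h1 : φ 1 = 0 := by
      rw [← huv, map_add, ← smul_eq_mul, ← smul_eq_mul, map_smul, map_smul, hh, hφf, smul_zero, smul_zero, add_zero]
    have h2 : w' = 0 := by
      rw [← one_smul F[X] w']; exact h1
    exact hw ((AEval'.of T).injective (by rw [map_zero]; exact h2))
  have hle : Ideal.span {f} ≤ LinearMap.ker φ := by
    rw [Ideal.span_le]
    intro x hx
    rw [Set.mem_singleton_iff] at hx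
    subst hx
    exact hφf
  have hge : LinearMap.ker φ ≤ Ideal.span {f} := by
    intro h hh
    exact Ideal.mem_span_singleton.mpr (hker h hh)
  let ψ : (F[X] ⧸ Ideal.span {f}) →ₗ[F[X]] AEval' T := Submodule.liftQ (Ideal.span {f}) φ hle
  have hψ : Function.Injective ψ := by
    rw [← LinearMap.ker_eq_bot]
    exact Submodule.ker_liftQ_eq_bot _ _ _ hge
  let g : AdjoinRoot f →ₗ[F] V := ((AEval'.of T).symm : AEval' T →ₗ[F] V) ∘ₗ (ψ.restrictScalars F)
  have hg : ∀ a, g a = (AEval'.of T).symm (ψ a) := fun a => rfl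
  refine ⟨g, ?_, ?_, ?_⟩
  · intro a b hab
    rw [hg, hg] at hab
    exact hψ ((AEval'.of T).symm.injective hab)
  · rw [hg]
    have : ψ (1 : AdjoinRoot f) = w' := by
      change ψ (Submodule.Quotient.mk 1) = _
      change φ 1 = _
      change (1 : F[X]) • w' = w'
      rw [one_smul]
    rw [this]
    exact LinearEquiv.symm_apply_apply _ _
  · intro a
    rw [hg, hg]
    have h1 : ψ (AdjoinRoot.root f * a) = (X : F[X]) • ψ a :=
      ψ.map_smul (X : F[X]) a
    rw [h1]
    obtain ⟨v, hv⟩ := (AEval'.of T).surjective (ψ a)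
    rw [← hv, AEval'.X_smul_of, LinearEquiv.symm_apply_apply, LinearEquiv.symm_apply_apply]

variable [FiniteDimensional F V]

theorem exists_comm_full_aux [Finite F] {T : Module.End F V} {f : F[X]} (hf : Irreducible f) {w : V} (hw : w ≠ 0)
    (hfw : aeval T f w = 0) (hcompl : ∀ W, Inv T W → ∃ W', Inv T W' ∧ IsCompl W W') (δ : F) :
    ∃ C : Module.End F V, C * T = T * C ∧ LinearMap.det C = δ := by
  obtain ⟨g, hginj, hg1, hg⟩ := exists_adjoin hf hw hfw
  let U := LinearMap.range g
  have hU : Inv T U := by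
    rintro _ ⟨a, rfl⟩
    exact ⟨AdjoinRoot.root f * a, hg a⟩
  obtain ⟨W, hW, hUW⟩ := hcompl U hU
  let e : AdjoinRoot f ≃ₗ[F] U := LinearEquiv.ofInjective g hginj
  have hFf : Fact (Irreducible f) := ⟨hf⟩
  have hfd : FiniteDimensional F (AdjoinRoot f) := FiniteDimensional.of_injective g hginj
  have hfin : Finite (AdjoinRoot f) := Module.finite_of_finite F
  obtain ⟨α, hα⟩ := FiniteField.norm_surjective F (AdjoinRoot f) δ
  let S : U →ₗ[F] U := (e : AdjoinRoot f →ₗ[F] U) ∘ₗ (LinearMap.mulLeft F α) ∘ₗ (e.symm : U →ₗ[F] AdjoinRoot f)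
  have hS : LinearMap.det S = δ := by
    have h1 : LinearMap.det S = LinearMap.det (LinearMap.mulLeft F α) := LinearMap.det_conj _ e
    rw [h1, ← hα, Algebra.norm_apply]
    rfl
  have hST : ∀ u : U, ((S ⟨T u, hU u u.2⟩ : U) : V) = T (S u) := by
    intro u
    obtain ⟨a, rfl⟩ := e.surjective u
    have h1 : (⟨T (e a : U), hU _ (e a).2⟩ : U) = e (AdjoinRoot.root f * a) := by
      apply Subtype.ext
      exact (hg a).symm
    have h2 : ∀ b, S (e b) = e (α * b) := by
      intro b
      change e ((LinearMap.mulLeft F α) (e.symm (e b))) = _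
      rw [LinearEquiv.symm_apply_apply]; rfl
    rw [h1, h2, h2]
    change g (α * (AdjoinRoot.root f * a)) = T (g (α * a))
    rw [← hg]; congr 1; ring
  let e' := Submodule.prodEquivOfIsCompl U W hUW
  let C₀ : (U × W) →ₗ[F] (U × W) := S.prodMap LinearMap.id
  let C : Module.End F V := (e' : (U × W) →ₗ[F] V) ∘ₗ C₀ ∘ₗ (e'.symm : V →ₗ[F] (U × W))
  have hCU : ∀ u (hu : u ∈ U), C u = S ⟨u, hu⟩ := by
    intro u hu
    change e' (C₀ (e'.symm u)) = _
    have : e'.symm u = (⟨u, hu⟩, 0) := Submodule.prodEquivOfIsCompl_symm_apply_left U W hUW ⟨u, hu⟩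
    rw [this]
    simp [C₀, e']
  have hCW : ∀ w ∈ W, C w = w := by
    intro w hw
    change e' (C₀ (e'.symm w)) = _
    have : e'.symm w = (0, ⟨w, hw⟩) := Submodule.prodEquivOfIsCompl_symm_apply_right U W hUW ⟨w, hw⟩
    rw [this]
    simp [C₀, e']
  refine ⟨C, ?_, ?_⟩
  · apply LinearMap.ext
    intro v
    have hv : v ∈ U ⊔ W := by rw [hUW.sup_eq_top]; trivial
    obtain ⟨u, hu, w, hw, rfl⟩ := Submodule.mem_sup.mp hv
    rw [Module.End.mul_apply, Module.End.mul_apply, map_add, map_add, map_add, hCU u hu, hCW w hw,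
      hCU _ (hU u hu), hCW _ (hW w hw), map_add, hST ⟨u, hu⟩]
  · have h1 : LinearMap.det C = LinearMap.det C₀ := LinearMap.det_conj C₀ e'
    rw [h1]
    change LinearMap.det (S.prodMap (LinearMap.id : W →ₗ[F] W)) = _
    rw [LinearMap.det_prodMap, LinearMap.det_id, mul_one, hS]

/-- over a finite field the determinant on the centralizer of a semisimple map is surjective -/
theorem exists_comm_full [Finite F] [Nontrivial V] {T : Module.End F V}
    (hcompl : ∀ W, Inv T W → ∃ W', Inv T W' ∧ IsCompl W W') (δ : F) :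
    ∃ C : Module.End F V, C * T = T * C ∧ LinearMap.det C = δ := by
  have hP : aeval T (minpoly F T) = 0 := minpoly.aeval F T
  have hP0 : minpoly F T ≠ 0 := minpoly.ne_zero (Algebra.IsIntegral.isIntegral (R := F) T)
  obtain ⟨f, hf, -, w, -, hw, hfw⟩ := exists_irred_factor hP0 hP (W := ⊤) inv_top top_ne_bot
  exact exists_comm_full_aux hf hw hfw hcompl δ

theorem SS.exists_comm_full [Finite F] [Nontrivial V] {T : Module.End F V} {y : F} {a : ℕ} (h : SS T y a) (δ : F) :
    ∃ C : Module.End F V, C * T = T * C ∧ LinearMap.det C = δ :=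
  FieldComm.exists_comm_full h.compl δ

end Cfsg.Agent.Lib.FieldComm
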