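import Mathlib
import Cfsg.Agent.Lib.FieldComm
import Cfsg.Agent.Lib.AltForm
import Cfsg.Agent.Lib.ConjSub2

/-! Invariant alternating forms (up to a multiplier) of elements of prime order. (helper99) -/

set_option autoImplicit false

namespace Cfsg.Agent.Lib.AltSim

open Polynomial Module Cfsg.Agent.Lib.InvSub Cfsg.Agent.Lib.PrimeOrd Cfsg.Agent.Lib.JordanNil
  Cfsg.Agent.Lib.ElusiveUni Cfsg.Agent.Lib.ElusiveLin

variable {F : Type*} [Field F]

/-- `T` multiplies some nondegenerate alternating form by `τ`. -/
def HF {V : Type*} [AddCommGroup V] [Module F V] (T : Module.End F V) (τ : F) : Prop :=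
  ∃ B : V →ₗ[F] V →ₗ[F] F, (∀ v, B v v = 0) ∧ (∀ v, (∀ w, B v w = 0) → v = 0) ∧
    ∀ u v, B (T u) (T v) = τ * B u v

section

variable {V : Type*} [AddCommGroup V] [Module F V]

theorem HF.of_isCompl {T : Module.End F V} {τ : F} {U W : Submodule F V} (hUW : IsCompl U W) (hU : Inv T U)
    (hW : Inv T W) (h1 : HF (T.restrict hU : Module.End F U) τ) (h2 : HF (T.restrict hW : Module.End F W) τ) : HF T τ := by
  obtain ⟨B1, hB1, hn1, ht1⟩ := h1
  obtain ⟨B2, hB2, hn2, ht2⟩ := h2
  let p := U.projectionOnto W hUW
  let q := W.projectionOnto U hUW.symm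
  have hpU : ∀ u : U, p u = u := fun u => Submodule.projectionOnto_apply_left hUW u
  have hqW : ∀ w : W, q w = w := fun w => Submodule.projectionOnto_apply_left hUW.symm w
  have hpW : ∀ w : W, p w = 0 := fun w => (Submodule.projectionOnto_apply_eq_zero_iff hUW).mpr w.2
  have hqU : ∀ u : U, q u = 0 := fun u => (Submodule.projectionOnto_apply_eq_zero_iff hUW.symm).mpr u.2
  have hdec : ∀ v : V, ∃ (u : U) (w : W), v = u + w := by
    intro v
    have hv : v ∈ U ⊔ W := by rw [hUW.sup_eq_top]; trivial
    obtain ⟨u, hu, w, hw, rfl⟩ := Submodule.mem_sup.mp hv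
    exact ⟨⟨u, hu⟩, ⟨w, hw⟩, rfl⟩
  let B : V →ₗ[F] V →ₗ[F] F := B1.compl₁₂ p p + B2.compl₁₂ q q
  have hB : ∀ u v, B u v = B1 (p u) (p v) + B2 (q u) (q v) := fun u v => rfl
  have hpT : ∀ v, p (T v) = (T.restrict hU : Module.End F U) (p v) := by
    intro v
    obtain ⟨u, w, rfl⟩ := hdec v
    rw [map_add, map_add, map_add, hpU, hpW, add_zero]
    have e1 : T (u : V) = ((T.restrict hU : Module.End F U) u : U) := rfl
    have e2 : T (w : V) = ((T.restrict hW : Module.End F W) w : W) := rfl
    rw [e1, e2, hpU, hpW, add_zero]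
  have hqT : ∀ v, q (T v) = (T.restrict hW : Module.End F W) (q v) := by
    intro v
    obtain ⟨u, w, rfl⟩ := hdec v
    rw [map_add, map_add, map_add, hqU, hqW, zero_add]
    have e1 : T (u : V) = ((T.restrict hU : Module.End F U) u : U) := rfl
    have e2 : T (w : V) = ((T.restrict hW : Module.End F W) w : W) := rfl
    rw [e1, e2, hqU, hqW, zero_add]
  refine ⟨B, fun v => ?_, fun v hv => ?_, fun u v => ?_⟩
  · rw [hB, hB1, hB2, add_zero]
  · have hp : p v = 0 := by
      apply hn1
      intro w
      have := hv w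
      rw [hB, hpU, hqU, map_zero, add_zero] at this
      exact this
    have hq : q v = 0 := by
      apply hn2
      intro w
      have := hv w
      rw [hB, hqW, hpW, map_zero, zero_add] at this
      exact this
    obtain ⟨u, w, rfl⟩ := hdec v
    rw [map_add, hpU, hpW, add_zero] at hp
    rw [map_add, hqU, hqW, zero_add] at hq
    rw [hp, hq]; simp
  · rw [hB, hB, hpT, hpT, hqT, hqT, ht1, ht2]; ring

theorem HF.scalar [FiniteDimensional F V] (hV : Even (finrank F V)) (y : F) :
    HF (y • (1 : Module.End F V)) (y ^ 2) := by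
  obtain ⟨k, hk⟩ := hV
  have e : V ≃ₗ[F] (Fin k → F) × (Fin k → F) := LinearEquiv.ofFinrankEq _ _ (by rw [hk]; simp)
  let A : ((Fin k → F) × (Fin k → F)) →ₗ[F] ((Fin k → F) × (Fin k → F)) →ₗ[F] F :=
    LinearMap.mk₂ F (fun u v => u.1 ⬝ᵥ v.2 - u.2 ⬝ᵥ v.1)
      (fun a b c => by simp only [Prod.fst_add, Prod.snd_add, add_dotProduct]; ring)
      (fun a b c => by simp only [Prod.smul_fst, Prod.smul_snd, smul_dotProduct, smul_eq_mul]; ring)
      (fun a b c => by simp only [Prod.fst_add, Prod.snd_add, dotProduct_add]; ring)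
      (fun a b c => by simp only [Prod.smul_fst, Prod.smul_snd, dotProduct_smul, smul_eq_mul]; ring)
  have hA : ∀ u v, A u v = u.1 ⬝ᵥ v.2 - u.2 ⬝ᵥ v.1 := fun u v => rfl
  let B : V →ₗ[F] V →ₗ[F] F := A.compl₁₂ (e : V →ₗ[F] _) (e : V →ₗ[F] _)
  have hB : ∀ u v, B u v = A (e u) (e v) := fun u v => rfl
  refine ⟨B, fun v => ?_, fun v hv => ?_, fun u v => ?_⟩
  · rw [hB, hA, dotProduct_comm, sub_self]
  · apply e.injective
    rw [map_zero]
    have h1 : ∀ w, A (e v) w = 0 := by
      intro w
      have := hv (e.symm w)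
      rwa [hB, LinearEquiv.apply_symm_apply] at this
    ext i
    · have := h1 (0, Pi.single i 1)
      rw [hA] at this
      simpa using this
    · have := h1 (Pi.single i 1, 0)
      rw [hA] at this
      simpa using this
  · change B (y • u) (y • v) = _
    rw [map_smul, map_smul, LinearMap.smul_apply, smul_eq_mul, smul_eq_mul]; ring

theorem HF.two [FiniteDimensional F V] (hV : finrank F V = 2) (T : Module.End F V) :
    HF T (LinearMap.det T) := by
  let b : Basis (Fin 2) F V := Module.finBasisOfFinrankEq F V hV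
  let B : V →ₗ[F] V →ₗ[F] F :=
    LinearMap.mk₂ F (fun u v => b.repr u 0 * b.repr v 1 - b.repr u 1 * b.repr v 0)
      (fun a b c => by simp only [map_add, Finsupp.add_apply]; ring)
      (fun a b c => by simp only [map_smul, Finsupp.smul_apply, smul_eq_mul]; ring)
      (fun a b c => by simp only [map_add, Finsupp.add_apply]; ring)
      (fun a b c => by simp only [map_smul, Finsupp.smul_apply, smul_eq_mul]; ring)
  have hB : ∀ u v, B u v = b.repr u 0 * b.repr v 1 - b.repr u 1 * b.repr v 0 := fun u v => rfl
  refine ⟨B, fun v => ?_, fun v hv => ?_, fun u v => ?_⟩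
  · rw [hB]; ring
  · apply b.repr.injective
    rw [map_zero]
    ext i
    have h0 := hv (b 0)
    have h1 := hv (b 1)
    rw [hB] at h0 h1
    simp only [Basis.repr_self, Finsupp.single_apply] at h0 h1
    fin_cases i
    · simpa using h1
    · simpa using h0
  · rw [hB, hB]
    have hdet : LinearMap.det T = b.repr (T (b 0)) 0 * b.repr (T (b 1)) 1 - b.repr (T (b 1)) 0 * b.repr (T (b 0)) 1 := by
      rw [← LinearMap.det_toMatrix b, Matrix.det_fin_two]
      simp only [LinearMap.toMatrix_apply]
    have hrep : ∀ u i, b.repr (T u) i = b.repr u 0 * b.repr (T (b 0)) i + b.repr u 1 * b.repr (T (b 1)) i := by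
      intro u i
      conv_lhs => rw [← b.sum_repr u]
      rw [Fin.sum_univ_two, map_add, map_smul, map_smul, map_add, map_smul, map_smul]
      simp
    rw [hdet, hrep u 0, hrep v 1, hrep u 1, hrep v 0]
    ring

end

/-- type C for `r = 2` -/
theorem HF.typeC {z : F} (hz : ∀ y : F, y ^ 2 ≠ z) (n : ℕ) : ∀ {V : Type _} [AddCommGroup V] [Module F V]
    [FiniteDimensional F V] (T : Module.End F V) (_ : T ^ 2 = z • (1 : Module.End F V)) (_ : finrank F V = n), HF T (-z) := by
  induction n using Nat.strong_induction_on with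
  | _ n ih =>
    intro V _ _ _ T hT hn
    rcases Nat.eq_zero_or_pos n with h0 | hpos
    · have : Subsingleton V := Module.finrank_zero_iff.mp (hn.trans h0)
      exact ⟨0, fun v => rfl, fun v _ => Subsingleton.elim _ _, fun u v => by simp⟩
    · have hnt : Nontrivial V := Module.nontrivial_of_finrank_pos (R := F) (by omega)
      obtain ⟨w, hw⟩ := exists_ne (0 : V)
      have hirr := X_pow_sub_C_irreducible_of_prime Nat.prime_two hz
      obtain ⟨U, hU, hUr, -, -⟩ := cyclic_aux (T := T) hirr hw (by
        rw [map_sub, map_pow, aeval_X, aeval_C, hT, Algebra.algebraMap_eq_smul_one, sub_self]; rfl)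
      rw [natDegree_X_pow_sub_C] at hUr
      obtain ⟨hss, -⟩ := ssC Nat.prime_two hz hT
      obtain ⟨W, hW, hUW⟩ := hss.compl U hU
      have hTU : (T.restrict hU : Module.End F U) ^ 2 = z • (1 : Module.End F U) := by
        ext v
        rw [restrict_pow' hU, hT]; rfl
      have hTW : (T.restrict hW : Module.End F W) ^ 2 = z • (1 : Module.End F W) := by
        ext v
        rw [restrict_pow' hW, hT]; rfl
      obtain ⟨k, hk, hdet⟩ := detC Nat.prime_two hz 2 (T.restrict hU : Module.End F U) hTU hUr
      have hk1 : k = 1 := by omega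
      subst hk1
      have h1 : HF (T.restrict hU : Module.End F U) (-z) := by
        have := HF.two hUr (T.restrict hU : Module.End F U)
        rw [hdet] at this
        have h2 : ((-1 : F) ^ (2 + 1) * z) ^ 1 = -z := by ring
        rwa [h2] at this
      have hfin := Submodule.finrank_add_eq_of_isCompl hUW
      have h2 := ih (finrank F W) (by omega) (T.restrict hW : Module.End F W) hTW rfl
      exact HF.of_isCompl hUW hU hW h1 h2

/-- unipotent type in characteristic 2 -/
theorem HF.char_two [CharP F 2] {y : F} (n : ℕ) : ∀ {V : Type _} [AddCommGroup V] [Module F V]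
    [FiniteDimensional F V] (T : Module.End F V) (_ : (T - y • (1 : Module.End F V)) ^ 2 = 0)
    (_ : finrank F V = n) (_ : Even n), HF T (y ^ 2) := by
  have : Fact (Nat.Prime 2) := ⟨Nat.prime_two⟩
  induction n using Nat.strong_induction_on with
  | _ n ih =>
    intro V _ _ _ T hN hn he
    by_cases hN0 : T - y • (1 : Module.End F V) = 0
    · rw [sub_eq_zero.mp hN0]
      exact HF.scalar (by rw [hn]; exact he) y
    · have hnil : IsNilpotent (T - y • (1 : Module.End F V)) := ⟨2, hN⟩
      obtain ⟨μ, hμ⟩ := exists_typ_top hnil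
      have hle := (hμ.pow_eq_zero_iff 2).mp hN
      have h2μ : 2 ∈ μ := by
        by_contra h2
        apply hN0
        have : ∀ b ∈ μ, b ≤ 1 := by
          intro b hb
          have h3 := hle b hb
          have h4 : b ≠ 2 := by rintro rfl; exact h2 hb
          omega
        have h5 := (hμ.pow_eq_zero_iff 1).mpr this
        rwa [pow_one] at h5
      have hsub : ({2} : Multiset ℕ) ≤ μ := Multiset.singleton_le.mpr h2μ
      obtain ⟨U, W, hd, hs, hU, hW, hUt, hWt⟩ := hμ.split_rel hnil inv_top hsub
      have hUW : IsCompl U W := ⟨hd, codisjoint_iff.mpr hs⟩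
      have hUf : finrank F U = 2 := by rw [hUt.finrank_eq]; simp
      have hTU : Inv T U := inv_sub_smul_iff.mp hU
      have hTW : Inv T W := inv_sub_smul_iff.mp hW
      have hT2 : T ^ 2 = (y ^ 2) • (1 : Module.End F V) := by
        have := sub_smul_pow (p := 2) T y
        rw [hN] at this
        exact (sub_eq_zero.mp this.symm)
      have hTU2 : (T.restrict hTU : Module.End F U) ^ 2 = (y ^ 2) • (1 : Module.End F U) := by
        ext v
        rw [restrict_pow' hTU, hT2]; rfl
      have hTW2 : (T.restrict hTW : Module.End F W) ^ 2 = (y ^ 2) • (1 : Module.End F W) := by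
        ext v
        rw [restrict_pow' hTW, hT2]; rfl
      have hdet : LinearMap.det (T.restrict hTU : Module.End F U) = y ^ 2 := by
        have h3 : (LinearMap.det (T.restrict hTU : Module.End F U)) ^ 2 = (y ^ 2) ^ 2 := by
          rw [← map_pow, hTU2, LinearMap.det_smul, map_one, mul_one, hUf]
        have h4 : (LinearMap.det (T.restrict hTU : Module.End F U) - y ^ 2) ^ 2 = 0 := by
          rw [sub_pow_char, h3, sub_self]
        exact sub_eq_zero.mp (pow_eq_zero_iff (by norm_num) |>.mp h4)
      have h1 : HF (T.restrict hTU : Module.End F U) (y ^ 2) := by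
        have := HF.two hUf (T.restrict hTU : Module.End F U)
        rwa [hdet] at this
      have hfin := Submodule.finrank_add_eq_of_isCompl hUW
      have h2 := ih (finrank F W) (by omega) (T.restrict hTW : Module.End F W) (by
        rw [sub_smul_pow, hTW2, sub_self]) rfl (by
          have h5 : finrank F W = n - 2 := by omega
          rw [h5]
          exact he.tsub even_two)
      exact HF.of_isCompl hUW hTU hTW h1 h2

section inv

variable {V : Type*} [AddCommGroup V] [Module F V]

lemma isCompl_inv (h2 : (2 : F) ≠ 0) {T : Module.End F V} {y : F} (hy : y ≠ 0)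
    (hT : T ^ 2 = (y ^ 2) • (1 : Module.End F V)) : IsCompl (E T y) (E T (-y)) := by
  have hsq : ∀ v, T (T v) = (y ^ 2) • v := by
    intro v
    have := congrArg (fun f : Module.End F V => f v) hT
    simpa [pow_two] using this
  constructor
  · rw [Submodule.disjoint_def]
    intro v hv hv'
    have h3 := Module.End.mem_eigenspace_iff.mp hv
    have h4 := Module.End.mem_eigenspace_iff.mp hv'
    rw [h3] at h4
    have h5 : (2 * y) • v = 0 := by
      rw [two_mul, add_smul]
      nth_rewrite 1 [h4]
      rw [neg_smul, neg_add_cancel]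
    exact (smul_eq_zero.mp h5).resolve_left (mul_ne_zero h2 hy)
  · rw [codisjoint_iff, eq_top_iff]
    intro v _
    have h3 : v = (2 : F)⁻¹ • (v + y⁻¹ • T v) + (2 : F)⁻¹ • (v - y⁻¹ • T v) := by
      rw [← smul_add, add_add_sub_cancel, ← two_smul F v, smul_smul, inv_mul_cancel₀ h2, one_smul]
    rw [h3]
    apply Submodule.add_mem_sup
    · apply Submodule.smul_mem
      apply Module.End.mem_eigenspace_iff.mpr
      rw [map_add, map_smul, hsq, smul_add, smul_smul, smul_smul, add_comm]
      congr 2
      · field_simp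
      · field_simp
        exact (one_smul F _).symm
    · apply Submodule.smul_mem
      apply Module.End.mem_eigenspace_iff.mpr
      rw [map_sub, map_smul, hsq, smul_sub, smul_smul, smul_smul]
      have e1 : y⁻¹ * y ^ 2 = y := by field_simp
      have e2 : -y * y⁻¹ = -1 := by field_simp
      rw [e1, e2, neg_smul, neg_smul, one_smul]
      abel

lemma restrict_E {T : Module.End F V} {y : F} (h : Inv T (E T y)) :
    (T.restrict h : Module.End F (E T y)) = y • (1 : Module.End F (E T y)) := by
  ext v
  exact Module.End.mem_eigenspace_iff.mp v.2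

/-- determinant via invariant complements -/
lemma det_isCompl [FiniteDimensional F V] {T : Module.End F V} {U W : Submodule F V} (hUW : IsCompl U W) (hU : Inv T U) (hW : Inv T W) :
    LinearMap.det T = LinearMap.det (T.restrict hU : Module.End F U) * LinearMap.det (T.restrict hW : Module.End F W) := by
  let e := Submodule.prodEquivOfIsCompl U W hUW
  rw [← LinearMap.det_prodMap, ← LinearMap.det_conj ((T.restrict hU : Module.End F U).prodMap (T.restrict hW : Module.End F W)) e]
  congr 1
  apply LinearMap.ext
  intro v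
  obtain ⟨⟨u, w⟩, rfl⟩ := e.surjective v
  simp only [LinearMap.comp_apply, LinearEquiv.coe_coe, LinearEquiv.symm_apply_apply]
  change T ((u : V) + w) = (T.restrict hU u : V) + (T.restrict hW w : V)
  rw [map_add]; rfl

lemma det_inv [FiniteDimensional F V] (h2 : (2 : F) ≠ 0) {T : Module.End F V} {y : F} (hy : y ≠ 0)
    (hT : T ^ 2 = (y ^ 2) • (1 : Module.End F V)) :
    LinearMap.det T = y ^ finrank F (E T y) * (-y) ^ finrank F (E T (-y)) := by
  rw [det_isCompl (isCompl_inv h2 hy hT) (inv_of_le_E le_rfl) (inv_of_le_E le_rfl), restrict_E, restrict_E,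
    LinearMap.det_smul, LinearMap.det_smul, map_one, map_one, mul_one, mul_one]

/-- type B for `r = 2` -/
theorem HF.typeB [FiniteDimensional F V] (h2 : (2 : F) ≠ 0) {T : Module.End F V} {y : F} (hy : y ≠ 0)
    (hT : T ^ 2 = (y ^ 2) • (1 : Module.End F V)) (he : Even (finrank F (E T y))) (he' : Even (finrank F (E T (-y)))) :
    HF T (y ^ 2) := by
  apply HF.of_isCompl (isCompl_inv h2 hy hT) (inv_of_le_E le_rfl) (inv_of_le_E le_rfl)
  · rw [restrict_E]; exact HF.scalar he y
  · rw [restrict_E]
    have := HF.scalar (F := F) he' (-y)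
    rwa [neg_pow_two] at this

end inv

end Cfsg.Agent.Lib.AltSim
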