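import Mathlib
import Cfsg.Agent.Lib.AltSim

/-! Conjugating elements of SL_n into symplectic similarity groups. (helper99) -/

set_option autoImplicit false

namespace Cfsg.Agent.Lib.AltSim

open Polynomial Module Cfsg.Agent.Lib.InvSub Cfsg.Agent.Lib.PrimeOrd Cfsg.Agent.Lib.ElusiveLin

variable {F : Type*} [Field F] {n : ℕ}

/-- the similarity group inside SL_n -/
abbrev SimSub (f : (Fin n → F) → (Fin n → F) → F) : Subgroup (Matrix.SpecialLinearGroup (Fin n) F) :=
  (Cfsg.Geo.similarityGroup f).comap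
    (Matrix.SpecialLinearGroup.toGL : Matrix.SpecialLinearGroup (Fin n) F →* GL (Fin n) F)

lemma mem_SimSub_iff {f : (Fin n → F) → (Fin n → F) → F} {A : Matrix.SpecialLinearGroup (Fin n) F} :
    A ∈ SimSub f ↔ ∃ c : Fˣ, ∀ u v, f (tl A u) (tl A v) = (c : F) * f u v := Iff.rfl

/-- the bilinear map of a symplectic form -/
def toB {f : (Fin n → F) → (Fin n → F) → F} (hf : Cfsg.Geo.IsBilinearForm f) : (Fin n → F) →ₗ[F] (Fin n → F) →ₗ[F] F :=
  LinearMap.mk₂ F f hf.add_left hf.smul_left (fun x y z => hf.add_right x y z) (fun c x y => hf.smul_right c x y)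

lemma tl_mul (x y : Matrix.SpecialLinearGroup (Fin n) F) : tl (x * y) = tl x * tl y := by
  change Matrix.toLin' ((x * y : Matrix.SpecialLinearGroup (Fin n) F) : Matrix (Fin n) (Fin n) F) = _
  rw [Matrix.SpecialLinearGroup.coe_mul, Matrix.toLin'_mul]
  rfl

lemma tl_one : tl (1 : Matrix.SpecialLinearGroup (Fin n) F) = 1 := by
  change Matrix.toLin' ((1 : Matrix.SpecialLinearGroup (Fin n) F) : Matrix (Fin n) (Fin n) F) = _
  rw [Matrix.SpecialLinearGroup.coe_one, Matrix.toLin'_one]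
  rfl

/-- conjugation by linear maps of determinant one -/
lemma exists_conj_tl {x : Matrix.SpecialLinearGroup (Fin n) F} (g : Module.End F (Fin n → F)) (hg : LinearMap.det g = 1) :
    ∃ P : Matrix.SpecialLinearGroup (Fin n) F, tl P = g ∧ g * tl (P⁻¹ * x * P) = tl x * g := by
  obtain ⟨P, hP⟩ := exists_SL g hg
  refine ⟨P, hP, ?_⟩
  rw [← hP, ← tl_mul, ← tl_mul, ← mul_assoc, ← mul_assoc, mul_inv_cancel, one_mul]

theorem conj_sim (f : (Fin n → F) → (Fin n → F) → F) (hf : Cfsg.Geo.IsSymplecticForm f)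
    {x : Matrix.SpecialLinearGroup (Fin n) F} {τ : F} (hτ : τ ≠ 0) (h : HF (tl x) τ)
    (hC : ∀ δ : F, δ ≠ 0 → ∃ C : Module.End F (Fin n → F), C * tl x = tl x * C ∧ LinearMap.det C = δ) :
    ∃ P : Matrix.SpecialLinearGroup (Fin n) F, P⁻¹ * x * P ∈ SimSub f := by
  obtain ⟨B', hB', hn', ht'⟩ := h
  have hBf : ∀ u v, toB hf.bilinear u v = f u v := fun u v => rfl
  obtain ⟨g, hg⟩ := Cfsg.Agent.Lib.AltForm.exists_isometry (toB hf.bilinear) (fun v => hf.alternating v)
    (fun v hv => by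
      by_contra hne
      obtain ⟨w, hw⟩ := (hf.nondegenerate v hne).2
      exact hw (hv w)) B' hB' hn' rfl
  have hgdet : LinearMap.det (g : (Fin n → F) →ₗ[F] (Fin n → F)) ≠ 0 := (LinearEquiv.isUnit_det' g).ne_zero
  obtain ⟨C, hCx, hCdet⟩ := hC _ (inv_ne_zero hgdet)
  obtain ⟨P, hP, hconj⟩ := exists_conj_tl (x := x) (C * (g : (Fin n → F) →ₗ[F] (Fin n → F))) (by
    rw [map_mul, hCdet, inv_mul_cancel₀ hgdet])
  refine ⟨P, mem_SimSub_iff.mpr ⟨Units.mk0 τ hτ, fun u v => ?_⟩⟩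
  rw [Units.val_mk0, ← hBf, ← hBf, ← hg, ← hg]
  -- `C` is injective
  have hCinj : Function.Injective C := by
    have : IsUnit (LinearMap.det C) := by rw [hCdet]; exact (isUnit_iff_ne_zero.mpr (inv_ne_zero hgdet))
    have h2 := (LinearMap.isUnit_iff_isUnit_det C).mpr this
    exact ((Module.End.isUnit_iff C).mp h2).1
  have key : ∀ w, g (tl (P⁻¹ * x * P) w) = tl x (g w) := by
    intro w
    apply hCinj
    have h1 := congrArg (fun φ : Module.End F (Fin n → F) => φ w) hconj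
    have h2 : C (g (tl (P⁻¹ * x * P) w)) = tl x (C (g w)) := h1
    rw [h2]
    have h3 := congrArg (fun φ : Module.End F (Fin n → F) => φ (g w)) hCx
    exact h3.symm
  rw [key, key, ht']

end Cfsg.Agent.Lib.AltSim
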