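import Mathlib
import Cfsg.Agent.Lib.AltSim2
import Cfsg.Agent.Lib.ClSympOrd
import Cfsg.Agent.Lib.ClSLn

/-! Elements of SL_n without invariant alternating form; index of symplectic similarity groups. (helper99) -/

set_option autoImplicit false

namespace Cfsg.Agent.Lib.AltSim

open Polynomial Module Cfsg.Agent.Lib.InvSub Cfsg.Agent.Lib.PrimeOrd Cfsg.Agent.Lib.ElusiveLin

variable {F : Type*} [Field F] {n : ℕ}

/-- the form transported back to `x` -/
theorem HF_of_conj {f : (Fin n → F) → (Fin n → F) → F} (hf : Cfsg.Geo.IsSymplecticForm f)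
    {x P : Matrix.SpecialLinearGroup (Fin n) F} (hP : P⁻¹ * x * P ∈ SimSub f) : ∃ c : F, c ≠ 0 ∧ HF (tl x) c := by
  obtain ⟨c, hc⟩ := mem_SimSub_iff.mp hP
  let G : Module.End F (Fin n → F) := tl P⁻¹
  let B : (Fin n → F) →ₗ[F] (Fin n → F) →ₗ[F] F := (toB hf.bilinear).compl₁₂ G G
  have hB : ∀ u v, B u v = f (G u) (G v) := fun u v => rfl
  have hGinj : Function.Injective G := by
    have h1 : tl P * G = 1 := by rw [← tl_mul, mul_inv_cancel, tl_one]
    intro u v huv
    have h3 := congrArg (tl P) huv
    have h4 : ∀ w, tl P (G w) = w := fun w => congrArg (fun φ : Module.End F (Fin n → F) => φ w) h1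
    rwa [h4, h4] at h3
  have hGsurj : Function.Surjective G := by
    have h1 : G * tl P = 1 := by rw [← tl_mul, inv_mul_cancel, tl_one]
    intro w
    exact ⟨tl P w, congrArg (fun φ : Module.End F (Fin n → F) => φ w) h1⟩
  refine ⟨c, c.ne_zero, B, fun u => hf.alternating _, ?_, ?_⟩
  · intro u hu
    by_contra hne
    have h1 : G u ≠ 0 := fun h0 => hne (hGinj (by rw [h0, map_zero]))
    obtain ⟨w, hw⟩ := (hf.nondegenerate (G u) h1).2
    obtain ⟨v, rfl⟩ := hGsurj w
    exact hw (hu v)
  · intro u v
    rw [hB, hB, ← hc]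
    have h1 : tl (P⁻¹ * x * P) * G = G * tl x := by
      rw [← tl_mul, ← tl_mul]; congr 1; group
    have h3 : ∀ w, tl (P⁻¹ * x * P) (G w) = G (tl x w) :=
      fun w => congrArg (fun φ : Module.End F (Fin n → F) => φ w) h1
    rw [h3, h3]

section general

variable {V : Type*} [AddCommGroup V] [Module F V]

lemma alt_skew {B : V →ₗ[F] V →ₗ[F] F} (hB : ∀ v, B v v = 0) (u v : V) : B u v = - B v u := by
  have h := hB (u + v)
  simp only [map_add, LinearMap.add_apply, hB, zero_add, add_zero] at h
  exact eq_neg_of_add_eq_zero_right h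

lemma form_pow {B : V →ₗ[F] V →ₗ[F] F} {T : Module.End F V} {c : F} (h : ∀ u v, B (T u) (T v) = c * B u v) (k : ℕ)
    (u v : V) : B ((T ^ k) u) ((T ^ k) v) = c ^ k * B u v := by
  induction k with
  | zero => simp
  | succ k ih => rw [pow_succ', Module.End.mul_apply, Module.End.mul_apply, h, ih, pow_succ']; ring

/-- the multiplier of an element of finite order -/
lemma mult_pow {T : Module.End F V} [Nontrivial V] {r : ℕ} (hT : T ^ r = 1) {c : F} (h : HF T c) : c ^ r = 1 := by
  obtain ⟨B, hB, hn, ht⟩ := h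
  obtain ⟨v, hv⟩ := exists_ne (0 : V)
  have : ∃ w, B v w ≠ 0 := by
    by_contra hcon
    push Not at hcon
    exact hv (hn v hcon)
  obtain ⟨w, hw⟩ := this
  have h1 := form_pow ht r v w
  rw [hT] at h1
  have h2 : (c ^ r - 1) * B v w = 0 := by
    have : B v w = c ^ r * B v w := h1
    linear_combination (-1 : F) * this
  exact sub_eq_zero.mp ((mul_eq_zero.mp h2).resolve_right hw)

/-- one Jordan block of size 3 -/
theorem not_HF_three (h2 : (2 : F) ≠ 0) [FiniteDimensional F V] {N : Module.End F V} (hN3 : N ^ 3 = 0)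
    (hr : finrank F (LinearMap.range (N ^ 2)) = 1) (h : HF (1 + N) (1 : F)) : False := by
  obtain ⟨B, hB, hn, ht⟩ := h
  have hNNN : ∀ v, N (N (N v)) = 0 := by
    intro v
    have := congrArg (fun f : Module.End F V => f v) hN3
    simpa [pow_succ] using this
  have hN2 : ∀ v, (N ^ 2) v = N (N v) := fun v => by rw [pow_two]; rfl
  have h0 : ∀ u v, B (N u) v + B u (N v) + B (N u) (N v) = 0 := by
    intro u v
    have := ht u v
    simp only [LinearMap.add_apply, Module.End.one_apply, map_add, one_mul] at this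
    linear_combination this
  have h1 : ∀ u v, B (N (N u)) (N v) = 0 := by
    intro u v
    have := h0 (N (N u)) v
    rw [hNNN] at this
    simpa using this
  have h3 : ∀ u v, B (N u) (N (N v)) = 0 := by
    intro u v
    have := h0 u (N (N v))
    rw [hNNN] at this
    simpa using this
  have h4 : ∀ u v, B (N (N u)) v = B u (N (N v)) := by
    intro u v
    have e1 := h0 (N u) v
    have e2 := h0 u (N v)
    rw [h1] at e1
    rw [h3] at e2
    linear_combination e1 - e2
  obtain ⟨⟨w, hw⟩, hw0, hwspan⟩ := finrank_eq_one_iff'.mp hr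
  obtain ⟨u, hu⟩ := hw
  have hwne : w ≠ 0 := fun h => hw0 (Subtype.ext h)
  have hspan : ∀ v, ∃ φ : F, (N ^ 2) v = φ • w := by
    intro v
    obtain ⟨φ, hφ⟩ := hwspan ⟨(N ^ 2) v, ⟨v, rfl⟩⟩
    exact ⟨φ, (congrArg Subtype.val hφ).symm⟩
  apply hwne
  apply hn
  intro v
  rw [hN2] at hu
  -- B w u = 0
  have e1 : B w u = 0 := by
    have : B w u = - B w u := by
      nth_rewrite 1 [← hu]
      rw [h4, hu, alt_skew hB]
    have h5 : (2 : F) * B w u = 0 := by linear_combination this
    exact (mul_eq_zero.mp h5).resolve_left h2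
  obtain ⟨φ, hφ⟩ := hspan v
  rw [hN2] at hφ
  have e2 : B w v = B u (N (N v)) := by rw [← h4, hu]
  rw [e2, hφ, map_smul, smul_eq_mul, alt_skew hB, e1]; ring

/-- odd codimension of the fixed space -/
theorem not_HF_odd [FiniteDimensional F V] {T : Module.End F V} {r : ℕ} (hr : (r : F) ≠ 0) (hT : T ^ r = 1)
    (hodd : Odd (finrank F V - finrank F (E T 1))) (h : HF T (1 : F)) : False := by
  obtain ⟨B, hB, hn, ht⟩ := h
  let S : Module.End F V := T - 1
  have hker : LinearMap.ker S = E T 1 := by
    ext v
    rw [LinearMap.mem_ker, Module.End.mem_eigenspace_iff, one_smul]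
    exact sub_eq_zero
  have hrn := LinearMap.finrank_range_add_finrank_ker S
  rw [hker] at hrn
  have hperp : ∀ v e, e ∈ E T 1 → B (S v) e = 0 := by
    intro v e he
    have hTe : T e = e := by
      have := Module.End.mem_eigenspace_iff.mp he
      rwa [one_smul] at this
    have h1 := ht v e
    rw [hTe, one_mul] at h1
    change B (T v - v) e = 0
    rw [map_sub, LinearMap.sub_apply, h1, sub_self]
  have hdisj : Disjoint (LinearMap.range S) (E T 1) := by
    rw [Submodule.disjoint_def]
    rintro e ⟨v, hv⟩ he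
    have hTe : T e = e := by
      have := Module.End.mem_eigenspace_iff.mp he
      rwa [one_smul] at this
    have hTk : ∀ k : ℕ, (T ^ k) e = e := by
      intro k
      induction k with
      | zero => simp
      | succ k ih => rw [pow_succ, Module.End.mul_apply, hTe, ih]
    have h1 : ∀ k : ℕ, (T ^ k) v = v + (k : F) • e := by
      intro k
      induction k with
      | zero => simp
      | succ k ih =>
        have hTv : T v = v + e := by
          have : T v - v = e := hv
          rw [← this]; abel
        rw [pow_succ, Module.End.mul_apply, hTv, map_add, ih, hTk]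
        push_cast
        rw [add_smul, one_smul]; abel
    have h2 := h1 r
    rw [hT, Module.End.one_apply] at h2
    have h3 : (r : F) • e = 0 := by
      have := congrArg (fun z => z - v) h2
      simp only [sub_self, add_sub_cancel_left] at this
      exact this.symm
    exact (smul_eq_zero.mp h3).resolve_left hr
  have hsup : LinearMap.range S ⊔ E T 1 = ⊤ := by
    apply Submodule.eq_top_of_finrank_eq
    have e := Submodule.finrank_sup_add_finrank_inf_eq (LinearMap.range S) (E T 1)
    rw [hdisj.eq_bot, finrank_bot] at e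
    omega
  have hev : Even (finrank F (LinearMap.range S)) := by
    apply Cfsg.Agent.Lib.AltForm.even_finrank (B.domRestrict₁₂ (LinearMap.range S) (LinearMap.range S))
    · intro v; exact hB v
    · intro v hv
      apply Subtype.ext
      apply hn
      intro w
      have hw : w ∈ LinearMap.range S ⊔ E T 1 := by rw [hsup]; trivial
      obtain ⟨a, ha, e, he, rfl⟩ := Submodule.mem_sup.mp hw
      have e1 : B v a = 0 := hv ⟨a, ha⟩
      obtain ⟨v', hv'⟩ := v.2
      have e2 : B v e = 0 := by rw [← hv']; exact hperp v' e he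
      rw [map_add, e1, e2, add_zero]
  have h5 : finrank F V - finrank F (E T 1) = finrank F (LinearMap.range S) := by omega
  rw [h5] at hodd
  exact (Nat.not_even_iff_odd.mpr hodd) hev

end general

/-- nondegenerate bilinear form: a transversal of nonzero Gram entries -/
lemma exists_transversal {B : (Fin n → F) →ₗ[F] (Fin n → F) →ₗ[F] F} (hn : ∀ v, (∀ w, B v w = 0) → v = 0) :
    ∃ σ : Equiv.Perm (Fin n), ∀ i, B (Pi.single (σ i) 1) (Pi.single i 1) ≠ 0 := by
  classical
  let G : Matrix (Fin n) (Fin n) F := Matrix.of fun i j => B (Pi.single i 1) (Pi.single j 1)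
  have hdet : G.det ≠ 0 := by
    intro h0
    obtain ⟨v, hv, hv0⟩ := Matrix.exists_vecMul_eq_zero_iff.mpr h0
    apply hv
    apply hn
    intro w
    have h1 : B v = 0 := by
      apply (Pi.basisFun F (Fin n)).ext
      intro j
      rw [Pi.basisFun_apply]
      have h2 : v = ∑ i, v i • (Pi.single i 1 : Fin n → F) := by
        ext j; simp [Finset.sum_apply, Pi.single_apply]
      rw [h2, map_sum, LinearMap.sum_apply]
      simp only [map_smul, LinearMap.smul_apply, smul_eq_mul]
      have h3 := congrFun hv0 j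
      exact h3
    rw [h1]; rfl
  rw [Matrix.det_apply] at hdet
  obtain ⟨σ, -, hσ⟩ := Finset.exists_ne_zero_of_sum_ne_zero hdet
  refine ⟨σ, fun i h0 => hσ ?_⟩
  rw [Finset.prod_eq_zero (Finset.mem_univ i) (by exact h0), smul_zero]

/-- diagonal elements -/
theorem HF_diagonal {d : Fin n → F} {c : F} (h : HF (Matrix.toLin' (Matrix.diagonal d)) c) :
    ∃ σ : Equiv.Perm (Fin n), ∀ i, d (σ i) * d i = c := by
  classical
  obtain ⟨B, hB, hn, ht⟩ := h
  obtain ⟨σ, hσ⟩ := exists_transversal hn
  have htl : ∀ i, Matrix.toLin' (Matrix.diagonal d) (Pi.single i 1) = d i • (Pi.single i 1 : Fin n → F) := by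
    intro i
    rw [Matrix.toLin'_apply, Matrix.mulVec_single_one]
    ext j
    by_cases hj : j = i
    · subst hj; simp
    · simp [hj]
  refine ⟨σ, fun i => ?_⟩
  have h1 := ht (Pi.single (σ i) 1) (Pi.single i 1)
  rw [htl, htl, map_smul, map_smul, LinearMap.smul_apply, smul_eq_mul, smul_eq_mul] at h1
  have h2 : (d (σ i) * d i - c) * B (Pi.single (σ i) 1) (Pi.single i 1) = 0 := by linear_combination h1
  exact sub_eq_zero.mp ((mul_eq_zero.mp h2).resolve_right (hσ i))

lemma card_filter_eq [DecidableEq F] {d : Fin n → F} {c : F} (hc : c ≠ 0) {σ : Equiv.Perm (Fin n)}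
    (hσ : ∀ i, d (σ i) * d i = c) (α : F) (hα : α ≠ 0) :
    (Finset.univ.filter fun i => d i = α).card = (Finset.univ.filter fun i => d i = c / α).card := by
  apply Finset.card_bij (fun i _ => σ i)
  · intro i hi
    rw [Finset.mem_filter] at hi ⊢
    refine ⟨Finset.mem_univ _, ?_⟩
    rw [← hσ i, hi.2, mul_div_cancel_right₀ _ hα]
  · intro i _ j _ h; exact σ.injective h
  · intro j hj
    rw [Finset.mem_filter] at hj
    refine ⟨σ.symm j, ?_, by simp⟩
    rw [Finset.mem_filter]
    refine ⟨Finset.mem_univ _, ?_⟩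
    have h1 := hσ (σ.symm j)
    rw [Equiv.apply_symm_apply, hj.2] at h1
    have h3 : (c / α) ≠ 0 := div_ne_zero hc hα
    field_simp at h1
    exact h1

end Cfsg.Agent.Lib.AltSim
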