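import Mathlib
import Cfsg.Agent.Lib.AltSim3

/-! Index of symplectic similarity groups in SL_n. (helper99) -/

set_option autoImplicit false

namespace Cfsg.Agent.Lib.AltSim

open Polynomial Module Cfsg.Agent.Lib.InvSub Cfsg.Agent.Lib.PrimeOrd Cfsg.Agent.Lib.ElusiveLin

variable {F : Type*} [Field F] {n : ℕ}

/-- the standard form attached to `J` -/
noncomputable def JB (m : ℕ) : (Fin m ⊕ Fin m → F) →ₗ[F] (Fin m ⊕ Fin m → F) →ₗ[F] F :=
  LinearMap.mk₂ F (fun u v => u ⬝ᵥ (Matrix.J (Fin m) F).mulVec v)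
    (fun u v w => by rw [add_dotProduct]) (fun c u v => by rw [smul_dotProduct])
    (fun u v w => by rw [Matrix.mulVec_add, dotProduct_add]) (fun c u v => by rw [Matrix.mulVec_smul, dotProduct_smul])

lemma JB_apply (m : ℕ) (u v : Fin m ⊕ Fin m → F) : JB m u v = u ⬝ᵥ (Matrix.J (Fin m) F).mulVec v := rfl

lemma JB_alt (m : ℕ) (u : Fin m ⊕ Fin m → F) : JB m u u = 0 := by
  rw [JB_apply, Matrix.J]
  simp only [dotProduct, Matrix.mulVec, Fintype.sum_sum_type, Matrix.fromBlocks_apply₁₁, Matrix.fromBlocks_apply₁₂,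
    Matrix.fromBlocks_apply₂₁, Matrix.fromBlocks_apply₂₂, Matrix.zero_apply, zero_mul, Finset.sum_const_zero,
    Matrix.neg_apply, zero_add, add_zero]
  simp [Matrix.one_apply]
  rw [← sub_eq_neg_add, ← Finset.sum_sub_distrib]
  apply Finset.sum_eq_zero
  intro i _
  ring

lemma JB_nondeg (m : ℕ) (u : Fin m ⊕ Fin m → F) (h : ∀ v, JB m u v = 0) : u = 0 := by
  have h1 : Matrix.vecMul u (Matrix.J (Fin m) F) = 0 := by
    funext j
    have := h (Pi.single j 1)
    rw [JB_apply, Matrix.dotProduct_mulVec] at this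
    simpa using this
  have h2 := congrArg (fun v => Matrix.vecMul v (Matrix.J (Fin m) F)) h1
  simp only [Matrix.vecMul_vecMul, Matrix.J_squared, Matrix.zero_vecMul] at h2
  rw [Matrix.vecMul_neg, Matrix.vecMul_one] at h2
  exact neg_eq_zero.mp h2

lemma JB_symp (m : ℕ) {A : Matrix (Fin m ⊕ Fin m) (Fin m ⊕ Fin m) F} (hA : A ∈ Matrix.symplecticGroup (Fin m) F)
    (u v : Fin m ⊕ Fin m → F) : JB m (A.mulVec u) (A.mulVec v) = JB m u v := by
  rw [SymplecticGroup.mem_iff'] at hA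
  rw [JB_apply, JB_apply]
  conv_rhs => rw [← hA]
  rw [← Matrix.mulVec_mulVec, ← Matrix.mulVec_mulVec, Matrix.dotProduct_mulVec u (Matrix.transpose A), Matrix.vecMul_transpose]

theorem card_Sp_dvd [Finite F] (m : ℕ) (hn : n = 2 * m) (f : (Fin n → F) → (Fin n → F) → F)
    (hf : Cfsg.Geo.IsSymplecticForm f) :
    Nat.card (Matrix.symplecticGroup (Fin m) F) ∣ Nat.card (SimSub f) := by
  classical
  have hBf : ∀ u v, toB hf.bilinear u v = f u v := fun u v => rfl
  obtain ⟨g, hg⟩ := Cfsg.Agent.Lib.AltForm.exists_isometry (toB hf.bilinear) (fun v => hf.alternating v)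
    (fun v hv => by
      by_contra hne
      obtain ⟨w, hw⟩ := (hf.nondegenerate v hne).2
      exact hw (hv w)) (JB m) (JB_alt m) (JB_nondeg m) (by
        rw [finrank_pi, finrank_pi, Fintype.card_fin, Fintype.card_sum, Fintype.card_fin, hn]; omega)
  -- the homomorphism
  have hdet : ∀ A : Matrix.symplecticGroup (Fin m) F, LinearMap.det
      ((g.symm : (Fin m ⊕ Fin m → F) →ₗ[F] (Fin n → F)) ∘ₗ Matrix.toLin' (A : Matrix (Fin m ⊕ Fin m) (Fin m ⊕ Fin m) F) ∘ₗ
        (g : (Fin n → F) →ₗ[F] (Fin m ⊕ Fin m → F))) = 1 := by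
    intro A
    have h1 := LinearMap.det_conj (Matrix.toLin' (A : Matrix (Fin m ⊕ Fin m) (Fin m ⊕ Fin m) F)) g.symm
    rw [LinearEquiv.symm_symm, LinearMap.det_toLin', SymplecticGroup.det_eq_one A.2] at h1
    exact h1
  let φ : Matrix.symplecticGroup (Fin m) F →* Matrix.SpecialLinearGroup (Fin n) F :=
    { toFun := fun A => ⟨LinearMap.toMatrix' ((g.symm : (Fin m ⊕ Fin m → F) →ₗ[F] (Fin n → F)) ∘ₗ
          Matrix.toLin' (A : Matrix (Fin m ⊕ Fin m) (Fin m ⊕ Fin m) F) ∘ₗ
          (g : (Fin n → F) →ₗ[F] (Fin m ⊕ Fin m → F))), by rw [← LinearMap.det_toLin', Matrix.toLin'_toMatrix']; exact hdet A⟩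
      map_one' := by
        apply Subtype.ext
        change LinearMap.toMatrix' _ = (1 : Matrix (Fin n) (Fin n) F)
        have : ((g.symm : (Fin m ⊕ Fin m → F) →ₗ[F] (Fin n → F)) ∘ₗ
          Matrix.toLin' ((1 : Matrix.symplecticGroup (Fin m) F) : Matrix (Fin m ⊕ Fin m) (Fin m ⊕ Fin m) F) ∘ₗ
          (g : (Fin n → F) →ₗ[F] (Fin m ⊕ Fin m → F))) = LinearMap.id := by
          apply LinearMap.ext; intro v
          simp
        rw [this, LinearMap.toMatrix'_id]
      map_mul' := by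
        intro A B
        apply Subtype.ext
        change LinearMap.toMatrix' _ = LinearMap.toMatrix' _ * LinearMap.toMatrix' _
        rw [← LinearMap.toMatrix'_mul]
        congr 1
        apply LinearMap.ext; intro v
        simp [Module.End.mul_apply] }
  have htl : ∀ A v, tl (φ A) v = g.symm ((A : Matrix (Fin m ⊕ Fin m) (Fin m ⊕ Fin m) F).mulVec (g v)) := by
    intro A v
    change Matrix.toLin' (LinearMap.toMatrix' _) v = _
    rw [Matrix.toLin'_toMatrix']
    rfl
  have hinj : Function.Injective φ := by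
    intro A B h
    apply Subtype.ext
    apply Matrix.toLin'.injective
    apply LinearMap.ext
    intro w
    have h1 := htl A (g.symm w)
    have h2 := htl B (g.symm w)
    rw [h, h2] at h1
    simpa using (g.symm.injective h1).symm
  have hrange : φ.range ≤ SimSub f := by
    rintro _ ⟨A, rfl⟩
    rw [mem_SimSub_iff]
    refine ⟨1, fun u v => ?_⟩
    rw [← hBf, ← hBf, ← hg, ← hg, htl, htl, LinearEquiv.apply_symm_apply, LinearEquiv.apply_symm_apply, JB_symp m A.2]
    simp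
  rw [Nat.card_congr (MonoidHom.ofInjective hinj).toEquiv]
  exact Subgroup.card_dvd_of_le hrange

lemma prod_split (Q m : ℕ) : ∏ i ∈ Finset.range (2 * m), (Q ^ (i + 1) - 1) =
    (∏ i ∈ Finset.range m, (Q ^ (2 * i + 1) - 1)) * ∏ i ∈ Finset.range m, (Q ^ (2 * (i + 1)) - 1) := by
  induction m with
  | zero => simp
  | succ m ih =>
    rw [show 2 * (m + 1) = 2 * m + 1 + 1 from by ring, Finset.prod_range_succ, Finset.prod_range_succ, ih,
      Finset.prod_range_succ, Finset.prod_range_succ, show 2 * m + 1 + 1 = 2 * (m + 1) from by ring]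
    ring

/-- primes dividing the index of the similarity group -/
theorem exists_odd_exponent [Fintype F] (m : ℕ) (hm : 0 < m) (hn : n = 2 * m) (f : (Fin n → F) → (Fin n → F) → F)
    (hf : Cfsg.Geo.IsSymplecticForm f) {r : ℕ} (hr : r.Prime) (hrq : ¬ r ∣ Fintype.card F)
    (h : r ∣ (SimSub f).index) : ∃ j, Odd j ∧ 3 ≤ j ∧ j < n ∧ r ∣ (Fintype.card F) ^ j - 1 := by
  classical
  set Q := Fintype.card F with hQ
  have hQ1 : 1 < Q := Fintype.one_lt_card
  obtain ⟨t, ht⟩ := card_Sp_dvd m hn f hf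
  rw [Cfsg.Agent.Lib.ClSympOrd.card_symplectic] at ht
  have h1 := Cfsg.Agent.Lib.ClSLn.card_SL_formula (F := F) (q := Q) hQ.symm n (by omega)
  have h3 := (SimSub f).index_mul_card
  rw [← h3, ht] at h1
  rw [← hQ] at h1
  have hfac : ∏ i ∈ Finset.range n, (Q ^ (i + 1) - 1) =
      (Q - 1) * (∏ i ∈ Finset.range (m - 1), (Q ^ (2 * i + 3) - 1)) * ∏ i ∈ Finset.range m, (Q ^ (2 * (i + 1)) - 1) := by
    rw [hn, prod_split]
    congr 1
    obtain ⟨m', rfl⟩ : ∃ m', m = m' + 1 := ⟨m - 1, by omega⟩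
    rw [Finset.prod_range_succ', Nat.add_sub_cancel, mul_zero, zero_add, pow_one, mul_comm]
    rfl
  rw [hfac] at h1
  set A := ∏ i ∈ Finset.range m, (Q ^ (2 * (i + 1)) - 1) with hA
  have hApos : 0 < A := by
    apply Finset.prod_pos
    intro i _
    have : Q ^ 1 ≤ Q ^ (2 * (i + 1)) := Nat.pow_le_pow_right (by omega) (by omega)
    rw [pow_one] at this
    omega
  have h4 : ((Q - 1) * A) * ((SimSub f).index * t * Q ^ (m ^ 2)) =
      ((Q - 1) * A) * (Q ^ (n * (n - 1) / 2) * ∏ i ∈ Finset.range (m - 1), (Q ^ (2 * i + 3) - 1)) := by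
    calc _ = (Q - 1) * ((SimSub f).index * (Q ^ (m ^ 2) * A * t)) := by ring
      _ = _ := h1
      _ = _ := by ring
  have h5 := Nat.eq_of_mul_eq_mul_left (Nat.mul_pos (by omega) hApos) h4
  have h6 : r ∣ Q ^ (n * (n - 1) / 2) * ∏ i ∈ Finset.range (m - 1), (Q ^ (2 * i + 3) - 1) := by
    rw [← h5]
    exact Dvd.dvd.mul_right (h.mul_right _) _
  rcases (Nat.Prime.dvd_mul hr).mp h6 with h7 | h7
  · exact absurd (hr.dvd_of_dvd_pow h7) hrq
  · obtain ⟨i, hi, hri⟩ := (Prime.dvd_finsetProd_iff hr.prime _).mp h7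
    rw [Finset.mem_range] at hi
    exact ⟨2 * i + 3, ⟨i + 1, by ring⟩, by omega, by omega, hri⟩

end Cfsg.Agent.Lib.AltSim
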