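import Cfsg.Agent.Lib.ZNWcard

/-!
An abstract form of the coset graph of an amalgam of two groups of index (3, 3), with the action on `Z`-modules.
-/

set_option autoImplicit false
set_option linter.unusedSectionVars false

namespace Cfsg.Agent.Lib.AmG

open Subgroup commutatorElement Cfsg.Agent.Lib.LocBase Cfsg.Agent.Lib.TvStruct Cfsg.Agent.Lib.ZN
open scoped Pointwise

universe u v

variable {G : Type u} [Group G] {V : Type v} [MulAction G V]

abbrev st (G : Type u) [Group G] {V : Type v} [MulAction G V] (δ : V) : Subgroup G := MulAction.stabilizer G δ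

abbrev ed (G : Type u) [Group G] {V : Type v} [MulAction G V] (δ ε : V) : Subgroup G := st G δ ⊓ st G ε

theorem mem_st {δ : V} {x : G} : x ∈ st G δ ↔ x • δ = δ := MulAction.mem_stabilizer_iff

theorem ed_comm (δ ε : V) : ed G δ ε = ed G ε δ := inf_comm _ _

theorem st_smul (g : G) (δ : V) : st G (g • δ) = cj g (st G δ) := by
  ext x
  rw [mem_st]
  constructor
  · intro h
    refine ⟨g⁻¹ * x * g, ?_, ?_⟩
    · show (g⁻¹ * x * g) • δ = δ
      rw [mul_smul, mul_smul, h, inv_smul_smul]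
    · show g * (g⁻¹ * x * g) * g⁻¹ = x
      group
  · rintro ⟨y, hy, rfl⟩
    show (g * y * g⁻¹) • g • δ = g • δ
    have hy' : y • δ = δ := hy
    rw [mul_smul, inv_smul_smul, mul_smul, hy']

theorem ed_smul (g : G) (δ ε : V) : ed G (g • δ) (g • ε) = cj g (ed G δ ε) := by
  show st G (g • δ) ⊓ st G (g • ε) = _
  rw [st_smul, st_smul]
  show _ = (st G δ ⊓ st G ε).map _
  rw [map_inf _ _ _ (MulAut.conj g).injective]

/-- a cubic graph with a group acting on it -/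
structure Gr (G : Type u) [Group G] (V : Type v) [MulAction G V] where
  adj : V → V → Prop
  symm : ∀ {δ ε : V}, adj δ ε → adj ε δ
  adj_smul : ∀ (g : G) {δ ε : V}, adj δ ε → adj (g • δ) (g • ε)
  ty : V → Bool
  ty_smul : ∀ (g : G) (δ : V), ty (g • δ) = ty δ
  ty_adj : ∀ {δ ε : V}, adj δ ε → ty ε = !ty δ
  trans_ty : ∀ {δ ε : V}, ty δ = ty ε → ∃ g : G, g • δ = ε
  trans_nb : ∀ {δ ε ε' : V}, adj δ ε → adj δ ε' → ∃ g ∈ st G δ, g • ε = ε'
  nb3 : ∀ δ : V, ∃ a b c : V, a ≠ b ∧ b ≠ c ∧ a ≠ c ∧ ∀ ε, adj δ ε ↔ (ε = a ∨ ε = b ∨ ε = c)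

variable (Γ : Gr G V)

namespace Gr

/-- the kernel on the neighbours -/
def Q (δ : V) : Subgroup G where
  carrier := {x | x • δ = δ ∧ ∀ ε, Γ.adj δ ε → x • ε = ε}
  one_mem' := ⟨one_smul _ _, fun _ _ => one_smul _ _⟩
  mul_mem' := by
    rintro x y ⟨hx, hx2⟩ ⟨hy, hy2⟩
    refine ⟨by rw [mul_smul, hy, hx], fun ε h => by rw [mul_smul, hy2 ε h, hx2 ε h]⟩
  inv_mem' := by
    rintro x ⟨hx, hx2⟩
    exact ⟨by rw [inv_smul_eq_iff, hx], fun ε h => by rw [inv_smul_eq_iff, hx2 ε h]⟩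

variable {Γ}

theorem mem_Q {δ : V} {x : G} : x ∈ Γ.Q δ ↔ x • δ = δ ∧ ∀ ε, Γ.adj δ ε → x • ε = ε := Iff.rfl

theorem Q_le_st (δ : V) : Γ.Q δ ≤ st G δ := fun _ h => h.1

theorem Q_le_ed {δ ε : V} (h : Γ.adj δ ε) : Γ.Q δ ≤ ed G δ ε := fun _ hx => ⟨hx.1, hx.2 ε h⟩

theorem Q_le_st' {δ ε : V} (h : Γ.adj δ ε) : Γ.Q δ ≤ st G ε := fun _ hx => hx.2 ε h

theorem adj_smul_iff (g : G) {δ ε : V} : Γ.adj (g • δ) (g • ε) ↔ Γ.adj δ ε := by
  refine ⟨fun h => ?_, Γ.adj_smul g⟩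
  have := Γ.adj_smul g⁻¹ h
  rwa [inv_smul_smul, inv_smul_smul] at this

theorem Q_smul (g : G) (δ : V) : Γ.Q (g • δ) = cj g (Γ.Q δ) := by
  ext x
  rw [mem_Q]
  constructor
  · rintro ⟨h, h2⟩
    refine ⟨g⁻¹ * x * g, ⟨?_, ?_⟩, ?_⟩
    · rw [mul_smul, mul_smul, h, inv_smul_smul]
    · intro ε hε
      rw [mul_smul, mul_smul, h2 _ (Γ.adj_smul g hε), inv_smul_smul]
    · show g * (g⁻¹ * x * g) * g⁻¹ = x
      group
  · rintro ⟨y, ⟨hy, hy2⟩, rfl⟩
    refine ⟨?_, ?_⟩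
    · show (g * y * g⁻¹) • g • δ = g • δ
      rw [mul_smul, inv_smul_smul, mul_smul, hy]
    · intro ε hε
      have h1 : Γ.adj δ (g⁻¹ • ε) := by
        have := Γ.adj_smul g⁻¹ hε
        rwa [inv_smul_smul] at this
      show (g * y * g⁻¹) • ε = ε
      rw [mul_smul, mul_smul, hy2 _ h1, smul_inv_smul]

theorem st_le_normalizer_Q (δ : V) : st G δ ≤ normalizer (Γ.Q δ : Set G) := by
  intro x hx
  apply mem_normalizer_of_map_conj_eq
  have := Q_smul (Γ := Γ) x δ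
  rw [mem_st.mp hx] at this
  exact this.symm

theorem nbrs {δ ε : V} (h : Γ.adj δ ε) :
    ∃ a b : V, a ≠ ε ∧ b ≠ ε ∧ a ≠ b ∧ ∀ ζ, Γ.adj δ ζ ↔ (ζ = ε ∨ ζ = a ∨ ζ = b) := by
  obtain ⟨a, b, c, hab, hbc, hac, hall⟩ := Γ.nb3 δ
  rcases (hall ε).mp h with rfl | rfl | rfl
  · exact ⟨b, c, hab.symm, hac.symm, hbc, hall⟩
  · refine ⟨a, c, hab, hbc.symm, hac, fun ζ => ?_⟩
    rw [hall ζ]; tauto
  · refine ⟨a, b, hac, hbc, hab, fun ζ => ?_⟩
    rw [hall ζ]; tauto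

theorem mem_Q_of_two {δ a b : V} {x : G} (ha : Γ.adj δ a) (hb : Γ.adj δ b) (hab : a ≠ b) (hx : x • δ = δ)
    (hxa : x • a = a) (hxb : x • b = b) : x ∈ Γ.Q δ := by
  obtain ⟨c, d, hca, hda, hcd, hall⟩ := nbrs ha
  have key : ∀ ζ, Γ.adj δ ζ → x • ζ = ζ := by
    intro ζ hζ
    by_cases h1 : ζ = a
    · rw [h1, hxa]
    by_cases h2 : ζ = b
    · rw [h2, hxb]
    have h3 : Γ.adj δ (x • ζ) := by
      have := Γ.adj_smul x hζ
      rwa [hx] at this
    have h4 : x • ζ ≠ a := by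
      intro e
      rw [← hxa] at e
      exact h1 (MulAction.injective x e)
    have h5 : x • ζ ≠ b := by
      intro e
      rw [← hxb] at e
      exact h2 (MulAction.injective x e)
    have e1 := (hall ζ).mp hζ
    have e2 := (hall b).mp hb
    have e3 := (hall (x • ζ)).mp h3
    rcases e1 with e1 | e1 | e1
    · exact absurd e1 h1
    · rcases e2 with e2 | e2 | e2
      · exact absurd e2.symm hab
      · exact absurd (e1.trans e2.symm) h2
      · rcases e3 with e3 | e3 | e3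
        · exact absurd e3 h4
        · rw [e3, e1]
        · exact absurd (e3.trans e2.symm) h5
    · rcases e2 with e2 | e2 | e2
      · exact absurd e2.symm hab
      · rcases e3 with e3 | e3 | e3
        · exact absurd e3 h4
        · exact absurd (e3.trans e2.symm) h5
        · rw [e3, e1]
      · exact absurd (e1.trans e2.symm) h2
  exact ⟨hx, key⟩

theorem smul_ne_of_not_mem_Q {δ ε a : V} {x : G} (hε : Γ.adj δ ε) (ha : Γ.adj δ a) (hne : a ≠ ε) (hx : x ∈ ed G δ ε)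
    (hxQ : x ∉ Γ.Q δ) : x • a ≠ a := fun e => hxQ (mem_Q_of_two hε ha (Ne.symm hne) hx.1 hx.2 e)

/-- two elements of the edge group outside `Q` have product in `Q` -/
theorem mul_mem_Q {δ ε : V} {x y : G} (hε : Γ.adj δ ε) (hx : x ∈ ed G δ ε) (hxQ : x ∉ Γ.Q δ) (hy : y ∈ ed G δ ε)
    (hyQ : y ∉ Γ.Q δ) : x * y ∈ Γ.Q δ := by
  obtain ⟨a, b, ha, hb, hab, hall⟩ := nbrs hε
  have hA : Γ.adj δ a := (hall a).mpr (Or.inr (Or.inl rfl))
  have hB : Γ.adj δ b := (hall b).mpr (Or.inr (Or.inr rfl))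
  have swap : ∀ z ∈ ed G δ ε, z ∉ Γ.Q δ → z • a = b ∧ z • b = a := by
    intro z hz hzQ
    have h1 := smul_ne_of_not_mem_Q hε hA ha hz hzQ
    have h2 := smul_ne_of_not_mem_Q hε hB hb hz hzQ
    have hzδ : z • δ = δ := hz.1
    have hzε : z • ε = ε := hz.2
    have h3 : Γ.adj δ (z • a) := by
      have := Γ.adj_smul z hA
      rwa [hzδ] at this
    have h4 : Γ.adj δ (z • b) := by
      have := Γ.adj_smul z hB
      rwa [hzδ] at this
    constructor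
    · rcases (hall _).mp h3 with e | e | e
      · exfalso
        have e2 : z • a = z • ε := by rw [e, hzε]
        exact ha (MulAction.injective z e2)
      · exact absurd e h1
      · exact e
    · rcases (hall _).mp h4 with e | e | e
      · exfalso
        have e2 : z • b = z • ε := by rw [e, hzε]
        exact hb (MulAction.injective z e2)
      · exact e
      · exact absurd e h2
  obtain ⟨h1, h2⟩ := swap x hx hxQ
  obtain ⟨h3, h4⟩ := swap y hy hyQ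
  have hxyδ : (x * y) • δ = δ := by
    have e1 : x • δ = δ := hx.1
    have e2 : y • δ = δ := hy.1
    rw [mul_smul, e2, e1]
  refine mem_Q_of_two hA hB hab hxyδ ?_ ?_
  · rw [mul_smul, h3, h2]
  · rw [mul_smul, h4, h1]

theorem exists_third {δ a b : V} (ha : Γ.adj δ a) (hb : Γ.adj δ b) (hab : a ≠ b) :
    ∃ c, Γ.adj δ c ∧ c ≠ a ∧ c ≠ b ∧ ∀ ζ, Γ.adj δ ζ → ζ = a ∨ ζ = b ∨ ζ = c := by
  obtain ⟨c, d, hc, hd, hcd, hall⟩ := nbrs ha
  rcases (hall b).mp hb with e | e | e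
  · exact absurd e.symm hab
  · refine ⟨d, (hall d).mpr (Or.inr (Or.inr rfl)), hd, ?_, fun ζ hζ => ?_⟩
    · rw [e]; exact hcd.symm
    · rw [e]; exact (hall ζ).mp hζ
  · refine ⟨c, (hall c).mpr (Or.inr (Or.inl rfl)), hc, ?_, fun ζ hζ => ?_⟩
    · rw [e]; exact hcd
    · rw [e]; have := (hall ζ).mp hζ; tauto

theorem exists_other {δ a : V} (ha : Γ.adj δ a) : ∃ b, Γ.adj δ b ∧ b ≠ a := by
  obtain ⟨b, c, hb, hc, hbc, hall⟩ := nbrs ha
  exact ⟨b, (hall b).mpr (Or.inr (Or.inl rfl)), hb⟩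

/-- equivariance on ordered edges -/
theorem edge_trans {δ ε δ' ε' : V} (h : Γ.adj δ ε) (h' : Γ.adj δ' ε') (ht : Γ.ty δ = Γ.ty δ') :
    ∃ g : G, g • δ = δ' ∧ g • ε = ε' := by
  obtain ⟨g, hg⟩ := Γ.trans_ty ht
  have h1 : Γ.adj δ' (g • ε) := by
    have := Γ.adj_smul g h
    rwa [hg] at this
  obtain ⟨k, hk, hk2⟩ := Γ.trans_nb h1 h'
  refine ⟨k * g, ?_, ?_⟩
  · rw [mul_smul, hg]; exact hk
  · rw [mul_smul, hk2]

end Gr

end Cfsg.Agent.Lib.AmG
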