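import Cfsg.Agent.Lib.AmG

/-!
The `Z`-groups of the vertices; swapping elements; closed vertices.
-/

set_option autoImplicit false
set_option linter.unusedSectionVars false

namespace Cfsg.Agent.Lib.AmG

open Subgroup commutatorElement Cfsg.Agent.Lib.LocBase Cfsg.Agent.Lib.TvStruct Cfsg.Agent.Lib.ZN
open scoped Pointwise

universe u v

variable {G : Type u} [Group G] [Finite G] {V : Type v} [MulAction G V]

/-- `Ω₁(Z(G_{δε}))` -/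
abbrev ZE (G : Type u) [Group G] {V : Type v} [MulAction G V] (δ ε : V) : Subgroup G := Cfsg.omegaCenterOf (ed G δ ε)

theorem ZE_smul (g : G) (δ ε : V) : ZE G (g • δ) (g • ε) = cj g (ZE G δ ε) := by
  unfold ZE
  rw [omegaCenterOf_conj, ed_smul]

theorem ZE_comm (δ ε : V) : ZE G δ ε = ZE G ε δ := by unfold ZE; rw [ed_comm]

theorem ZE_le (δ ε : V) : ZE G δ ε ≤ ed G δ ε := omegaCenterOf_le _

theorem ZE_cent (δ ε : V) : ZE G δ ε ≤ centralizer (ed G δ ε : Set G) := omegaCenterOf_le_centralizer _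

namespace Gr

variable (Γ : Gr G V)

def Z (δ : V) : Subgroup G := ⨆ ε : {ε : V // Γ.adj δ ε}, ZE G δ ε.1

def W (δ : V) : Subgroup G := ⁅Γ.Z δ, st G δ⁆

def R (δ ε : V) : Subgroup G := ⁅Γ.Z δ, ed G δ ε⁆

def B (δ : V) : Subgroup G := Γ.Z δ ⊓ centralizer (st G δ : Set G)

variable {Γ}

theorem Z_smul (g : G) (δ : V) : Γ.Z (g • δ) = cj g (Γ.Z δ) := by
  unfold Z
  rw [cj, Subgroup.map_iSup]
  apply le_antisymm
  · apply iSup_le
    rintro ⟨ε, hε⟩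
    have h1 : Γ.adj δ (g⁻¹ • ε) := by
      have := Γ.adj_smul g⁻¹ hε
      rwa [inv_smul_smul] at this
    refine le_iSup_of_le ⟨g⁻¹ • ε, h1⟩ ?_
    show ZE G (g • δ) ε ≤ cj g (ZE G δ (g⁻¹ • ε))
    rw [← ZE_smul, smul_inv_smul]
  · apply iSup_le
    rintro ⟨ε, hε⟩
    refine le_iSup_of_le ⟨g • ε, Γ.adj_smul g hε⟩ ?_
    show cj g (ZE G δ ε) ≤ ZE G (g • δ) (g • ε)
    rw [ZE_smul]

theorem W_smul (g : G) (δ : V) : Γ.W (g • δ) = cj g (Γ.W δ) := by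
  unfold W
  rw [Z_smul, st_smul, cj, cj, cj, map_commutator]

theorem R_smul (g : G) (δ ε : V) : Γ.R (g • δ) (g • ε) = cj g (Γ.R δ ε) := by
  unfold R
  rw [Z_smul, ed_smul, cj, cj, cj, map_commutator]

theorem B_smul (g : G) (δ : V) : Γ.B (g • δ) = cj g (Γ.B δ) := by
  unfold B
  rw [Z_smul, st_smul, cj, cj, cj, map_inf _ _ _ (MulAut.conj g).injective, map_conj_centralizer]

theorem ZE_le_Z {δ ε : V} (h : Γ.adj δ ε) : ZE G δ ε ≤ Γ.Z δ :=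
  le_iSup (fun ε : {ε : V // Γ.adj δ ε} => ZE G δ ε.1) ⟨ε, h⟩

theorem ZE_le_Z' {δ ε : V} (h : Γ.adj δ ε) : ZE G δ ε ≤ Γ.Z ε := by
  rw [ZE_comm]; exact ZE_le_Z (Γ.symm h)

theorem st_norm_Z (δ : V) : st G δ ≤ normalizer (Γ.Z δ : Set G) := by
  intro x hx
  apply mem_normalizer_of_map_conj_eq
  have := Z_smul (Γ := Γ) x δ
  rw [mem_st.mp hx] at this
  exact this.symm

theorem st_norm_W (δ : V) : st G δ ≤ normalizer (Γ.W δ : Set G) := by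
  intro x hx
  apply mem_normalizer_of_map_conj_eq
  have := W_smul (Γ := Γ) x δ
  rw [mem_st.mp hx] at this
  exact this.symm

theorem B_le_Z (δ : V) : Γ.B δ ≤ Γ.Z δ := inf_le_left

end Gr

/-- the local facts about the amalgam -/
structure Fx (Γ : Gr G V) : Prop where
  swap : ∀ {δ ε : V}, Γ.adj δ ε → ∃ x ∈ ed G δ ε, x ∉ Γ.Q δ
  QZ : ∀ δ : V, Γ.Q δ ≤ centralizer (Γ.Z δ : Set G)
  ZQ : ∀ δ : V, Γ.Z δ ≤ Γ.Q δ
  CZ : ∀ {δ ε : V}, Γ.adj δ ε → ed G δ ε ⊓ centralizer (Γ.Z δ : Set G) ≤ Γ.Q δ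
  sq : ∀ (δ : V), ∀ x ∈ Γ.Z δ, x ^ 2 = 1
  Wcard : ∀ δ : V, Nat.card (Γ.W δ) = 4
  WB : ∀ δ : V, Γ.W δ ⊓ centralizer (st G δ : Set G) = ⊥
  Rcard : ∀ {δ ε : V}, Γ.adj δ ε → Nat.card (Γ.R δ ε) = 2
  Rcent : ∀ {δ ε : V}, Γ.adj δ ε → Γ.R δ ε ≤ centralizer (ed G δ ε : Set G)
  Rne : ∀ {δ ε ε' : V}, Γ.adj δ ε → Γ.adj δ ε' → Γ.R δ ε = Γ.R δ ε' → ε = ε'
  Zidx : ∀ {δ ε : V}, Γ.adj δ ε → Nat.card (Γ.Z δ) = 2 * Nat.card (ZE G δ ε)
  Bcard : ∀ δ : V, Nat.card (Γ.B δ) ≤ 2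
  faith : ∀ {δ ε : V}, Γ.adj δ ε → ∀ N : Subgroup G, N ≤ ed G δ ε → st G δ ≤ normalizer (N : Set G) →
    st G ε ≤ normalizer (N : Set G) → N = ⊥
  off : ∀ {δ ε : V}, Γ.adj δ ε → ∃ A ≤ ed G δ ε, Cfsg.IsElementaryAbelian 2 A ∧ ¬ A ≤ Γ.Q ε ∧
    ∀ A' ≤ ed G δ ε, Cfsg.IsElementaryAbelian 2 A' → Nat.card A' ≤ Nat.card A

variable {Γ : Gr G V}

open Gr

theorem mul_mem_of_index_two {A A₀ : Subgroup G} (hle : A₀ ≤ A) (hc : Nat.card A = 2 * Nat.card A₀) {a b : G}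
    (ha : a ∈ A) (hb : b ∈ A) (ha₀ : a ∉ A₀) (hb₀ : b ∉ A₀) : a⁻¹ * b ∈ A₀ := by
  have h1 : (A₀.subgroupOf A).index = 2 := by
    have h2 := SubgroupTools.card_mul_relIndex_of_le hle
    rw [hc, mul_comm] at h2
    exact Nat.eq_of_mul_eq_mul_right Nat.card_pos h2
  have ha' : (⟨a, ha⟩ : A) ∉ A₀.subgroupOf A := by rwa [mem_subgroupOf]
  have hb' : (⟨b, hb⟩ : A) ∉ A₀.subgroupOf A := by rwa [mem_subgroupOf]
  have hai : (⟨a, ha⟩ : A)⁻¹ ∉ A₀.subgroupOf A := fun h => ha' ((inv_mem_iff).mp h)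
  have := (Subgroup.mul_mem_iff_of_index_two h1 (a := (⟨a, ha⟩ : A)⁻¹) (b := ⟨b, hb⟩)).mpr
    ⟨fun h => absurd h hai, fun h => absurd h hb'⟩
  rw [mem_subgroupOf] at this
  exact this

theorem Gr.card_ed (F : Fx Γ) {δ ε : V} (h : Γ.adj δ ε) : Nat.card (ed G δ ε) = 2 * Nat.card (Γ.Q δ) := by
  have h1 : Γ.Q δ < ed G δ ε := by
    refine lt_of_le_of_ne (Q_le_ed h) ?_
    intro e
    obtain ⟨x, hx, hxQ⟩ := F.swap h
    exact hxQ (by rw [e]; exact hx)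
  have h2 := two_mul_card_le h1
  have h3 := card_le_two_mul_of_mul_mem (Q_le_ed h) (fun a ha b hb ha' hb' => mul_mem_Q h ha ha' hb hb')
  omega

theorem Gr.Z_ne_bot (F : Fx Γ) (δ : V) : Γ.Z δ ≠ ⊥ := by
  intro hb
  have h1 := F.Wcard δ
  unfold W at h1
  rw [hb, commutator_bot_left, card_bot] at h1
  omega

theorem Gr.not_Q_le (F : Fx Γ) {δ ε : V} (h : Γ.adj δ ε) : ¬ Γ.Q δ ≤ Γ.Q ε := by
  intro hle
  have h1 := card_ed F h
  have h2 := card_ed F (Γ.symm h)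
  rw [ed_comm] at h2
  have h3 : Γ.Q δ = Γ.Q ε := Subgroup.eq_of_le_of_card_ge hle (by omega)
  have h4 := F.faith h (Γ.Q δ) (Q_le_ed h) (st_le_normalizer_Q δ) (by rw [h3]; exact st_le_normalizer_Q ε)
  exact Z_ne_bot F δ (le_bot_iff.mp (h4 ▸ F.ZQ δ))

/-- an element of `G_δ` moving `ε`, together with `G_{δε}`, generates `G_δ` -/
theorem Gr.st_le_of_move (F : Fx Γ) {δ ε : V} (h : Γ.adj δ ε) {H : Subgroup G} (hH : ed G δ ε ≤ H) {x : G} (hx : x ∈ H)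
    (hxδ : x ∈ st G δ) (hxε : x • ε ≠ ε) : st G δ ≤ H := by
  obtain ⟨y, hy, hyQ⟩ := F.swap h
  obtain ⟨a, b, ha, hb, hab, hall⟩ := nbrs h
  have hδx : x • δ = δ := hxδ
  have hδy : y • δ = δ := hy.1
  have hεy : y • ε = ε := hy.2
  have h1 : Γ.adj δ (x • ε) := by
    have := Γ.adj_smul x h
    rwa [hδx] at this
  have h2 := smul_ne_of_not_mem_Q h h1 hxε hy hyQ
  have h3 : Γ.adj δ (y • x • ε) := by
    have := Γ.adj_smul y h1
    rwa [hδy] at this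
  have h4 : y • x • ε ≠ ε := by
    intro e
    have e' : y • x • ε = y • ε := by rw [e, hεy]
    exact hxε (MulAction.injective y e')
  intro g hg
  have hgδ : g • δ = δ := hg
  have hgε : Γ.adj δ (g • ε) := by
    have := Γ.adj_smul g h
    rwa [hgδ] at this
  -- find `k ∈ H ∩ G_δ` with `k ε = g ε`
  have key : ∃ k ∈ H, k • δ = δ ∧ k • ε = g • ε := by
    have e1 := (hall _).mp h1
    have e3 := (hall _).mp h3
    rcases (hall _).mp hgε with e | e | e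
    · exact ⟨1, one_mem _, one_smul _ _, by rw [e, one_smul]⟩
    · rcases e1 with e1 | e1 | e1
      · exact absurd e1 hxε
      · exact ⟨x, hx, hδx, by rw [e, e1]⟩
      · rcases e3 with e3 | e3 | e3
        · exact absurd e3 h4
        · exact ⟨y * x, mul_mem (hH hy) hx, by rw [mul_smul, hδx, hδy], by rw [mul_smul, e, e3]⟩
        · exact absurd (e3.trans e1.symm) h2
    · rcases e1 with e1 | e1 | e1
      · exact absurd e1 hxε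
      · rcases e3 with e3 | e3 | e3
        · exact absurd e3 h4
        · exact absurd (e3.trans e1.symm) h2
        · exact ⟨y * x, mul_mem (hH hy) hx, by rw [mul_smul, hδx, hδy], by rw [mul_smul, e, e3]⟩
      · exact ⟨x, hx, hδx, by rw [e, e1]⟩
  obtain ⟨k, hk, hkδ, hkε⟩ := key
  have h5 : k⁻¹ * g ∈ ed G δ ε := by
    refine ⟨?_, ?_⟩
    · show (k⁻¹ * g) • δ = δ
      rw [mul_smul, hgδ, inv_smul_eq_iff, hkδ]
    · show (k⁻¹ * g) • ε = ε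
      rw [mul_smul, ← hkε, inv_smul_smul]
  have := mul_mem hk (hH h5)
  rwa [mul_inv_cancel_left] at this

theorem Gr.R_le_Z (δ ε : V) : Γ.R δ ε ≤ Γ.Z δ := commutator_le_left_of_le (inf_le_left.trans (st_norm_Z δ))

theorem Gr.R_le_W (δ ε : V) : Γ.R δ ε ≤ Γ.W δ := commutator_mono le_rfl inf_le_left

theorem Gr.W_le_Z (δ : V) : Γ.W δ ≤ Γ.Z δ := commutator_le_left_of_le (st_norm_Z δ)

theorem Gr.Z_le_ed (F : Fx Γ) {δ ε : V} (h : Γ.adj δ ε) : Γ.Z δ ≤ ed G δ ε := (F.ZQ δ).trans (Q_le_ed h)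

theorem Gr.R_le_ZE (F : Fx Γ) {δ ε : V} (h : Γ.adj δ ε) : Γ.R δ ε ≤ ZE G δ ε := by
  intro x hx
  rw [mem_omegaCenterOf]
  exact ⟨Z_le_ed F h (R_le_Z δ ε hx), F.Rcent h hx, F.sq δ x (R_le_Z δ ε hx)⟩

theorem Gr.B_le_ZE (F : Fx Γ) {δ ε : V} (h : Γ.adj δ ε) : Γ.B δ ≤ ZE G δ ε := by
  intro x hx
  obtain ⟨h1, h2⟩ := mem_inf.mp (show x ∈ Γ.Z δ ⊓ centralizer (st G δ : Set G) from hx)
  rw [mem_omegaCenterOf]
  exact ⟨Z_le_ed F h h1, centralizer_le (show (ed G δ ε : Set G) ⊆ st G δ from fun _ h => h.1) h2, F.sq δ x h1⟩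

theorem Gr.R_le_Z' (F : Fx Γ) {δ ε : V} (h : Γ.adj δ ε) : Γ.R δ ε ≤ Γ.Z ε := (R_le_ZE F h).trans (ZE_le_Z' h)

theorem Gr.R_ne_bot (F : Fx Γ) {δ ε : V} (h : Γ.adj δ ε) : Γ.R δ ε ≠ ⊥ := by
  intro hb
  have := F.Rcard h
  rw [hb, card_bot] at this
  omega

/-- a nontrivial subgroup of `R` is `R` -/
theorem Gr.eq_R (F : Fx Γ) {δ ε : V} (h : Γ.adj δ ε) {X : Subgroup G} (hX : X ≤ Γ.R δ ε) (hne : X ≠ ⊥) : X = Γ.R δ ε := by
  apply Subgroup.eq_of_le_of_card_ge hX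
  rw [F.Rcard h]
  by_contra hlt
  push Not at hlt
  have h1 : 0 < Nat.card X := Nat.card_pos
  exact hne (card_eq_one.mp (by omega))

/-- `R_{δε}` central in `G_ε` is `B_ε` -/
theorem Gr.R_eq_B (F : Fx Γ) {δ ε : V} (h : Γ.adj δ ε) (hc : Γ.R δ ε ≤ centralizer (st G ε : Set G)) :
    Γ.R δ ε = Γ.B ε := by
  apply Subgroup.eq_of_le_of_card_ge
  · exact le_inf (R_le_Z' F h) hc
  · rw [F.Rcard h]; exact F.Bcard ε

theorem Gr.B_inf_B (F : Fx Γ) {δ ε : V} (h : Γ.adj δ ε) : Γ.B δ ⊓ Γ.B ε = ⊥ := by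
  apply F.faith h
  · exact inf_le_left.trans ((B_le_ZE F h).trans (ZE_le δ ε))
  · refine le_trans ?_ (centralizer_le_normalizer _)
    rw [le_centralizer_iff]
    exact inf_le_left.trans inf_le_right
  · refine le_trans ?_ (centralizer_le_normalizer _)
    rw [le_centralizer_iff]
    exact inf_le_right.trans inf_le_right

/-- `c` centralizing `ZE` and an element outside `ZE` centralizes `Z_δ` -/
theorem Gr.cent_Z_of (F : Fx Γ) {δ ε : V} (h : Γ.adj δ ε) {x c : G} (hx : x ∈ Γ.Z δ) (hxE : x ∉ ZE G δ ε)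
    (hc : c ∈ centralizer (ZE G δ ε : Set G)) (hcx : x * c = c * x) : c ∈ centralizer (Γ.Z δ : Set G) := by
  rw [mem_centralizer_iff]
  intro z hz
  by_cases hzE : z ∈ ZE G δ ε
  · exact mem_centralizer_iff.mp hc z hzE
  · have h1 := mul_mem_of_index_two (ZE_le_Z h) (F.Zidx h) hx hz hxE hzE
    have h2 := mem_centralizer_iff.mp hc _ h1
    have h3 : z = x * (x⁻¹ * z) := by group
    rw [h3, mul_assoc, h2, ← mul_assoc, hcx, mul_assoc]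

/-- closed vertices -/
def Gr.Cl (Γ : Gr G V) (δ : V) : Prop := ∀ ε, Γ.adj δ ε → st G δ ≤ normalizer ((Γ.Z δ ⊔ Γ.Z ε : Subgroup G) : Set G)

theorem Gr.Cl_smul {δ : V} (h : Γ.Cl δ) (g : G) : Γ.Cl (g • δ) := by
  intro ε hε
  have h1 : Γ.adj δ (g⁻¹ • ε) := by
    have := Γ.adj_smul g⁻¹ hε
    rwa [inv_smul_smul] at this
  have h2 := h _ h1
  have h3 := Subgroup.map_mono (f := (MulAut.conj g).toMonoidHom) h2
  rw [map_conj_normalizer, Subgroup.map_sup] at h3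
  have e1 : (Γ.Z δ).map (MulAut.conj g).toMonoidHom = Γ.Z (g • δ) := (Z_smul g δ).symm
  have e2 : (Γ.Z (g⁻¹ • ε)).map (MulAut.conj g).toMonoidHom = Γ.Z ε := by
    have := Z_smul (Γ := Γ) g (g⁻¹ • ε)
    rw [smul_inv_smul] at this
    exact this.symm
  have e3 : (st G δ).map (MulAut.conj g).toMonoidHom = st G (g • δ) := (st_smul g δ).symm
  rwa [e1, e2, e3] at h3

theorem Gr.Cl_of_ty {δ δ' : V} (h : Γ.Cl δ) (ht : Γ.ty δ = Γ.ty δ') : Γ.Cl δ' := by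
  obtain ⟨g, rfl⟩ := Γ.trans_ty ht
  exact Cl_smul h g

theorem Gr.Cl_of_one {δ ε : V} (hε : Γ.adj δ ε)
    (h : st G δ ≤ normalizer ((Γ.Z δ ⊔ Γ.Z ε : Subgroup G) : Set G)) : Γ.Cl δ := by
  intro ζ hζ
  obtain ⟨g, hg, rfl⟩ := Γ.trans_nb hε hζ
  have h1 : Γ.Z δ ⊔ Γ.Z (g • ε) = Γ.Z δ ⊔ Γ.Z ε := by
    have h2 : (Γ.Z δ ⊔ Γ.Z ε).map (MulAut.conj g).toMonoidHom = Γ.Z δ ⊔ Γ.Z ε := map_conj_eq_of_mem (h hg)
    rw [Subgroup.map_sup] at h2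
    have e1 : (Γ.Z δ).map (MulAut.conj g).toMonoidHom = Γ.Z δ := map_conj_eq_of_mem (st_norm_Z δ hg)
    have e2 : (Γ.Z ε).map (MulAut.conj g).toMonoidHom = Γ.Z (g • ε) := (Z_smul g ε).symm
    rwa [e1, e2] at h2
  rw [h1]; exact h

/-- for a closed vertex `Z_δ Z_ε` does not depend on `ε` -/
theorem Gr.Cl.eq {δ : V} (h : Γ.Cl δ) {ε ζ : V} (hε : Γ.adj δ ε) (hζ : Γ.adj δ ζ) : Γ.Z δ ⊔ Γ.Z ε = Γ.Z δ ⊔ Γ.Z ζ := by
  obtain ⟨g, hg, rfl⟩ := Γ.trans_nb hε hζ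
  have h2 : (Γ.Z δ ⊔ Γ.Z ε).map (MulAut.conj g).toMonoidHom = Γ.Z δ ⊔ Γ.Z ε := map_conj_eq_of_mem (h ε hε hg)
  rw [Subgroup.map_sup] at h2
  have e1 : (Γ.Z δ).map (MulAut.conj g).toMonoidHom = Γ.Z δ := map_conj_eq_of_mem (st_norm_Z δ hg)
  have e2 : (Γ.Z ε).map (MulAut.conj g).toMonoidHom = Γ.Z (g • ε) := (Z_smul g ε).symm
  rw [e1, e2] at h2
  exact h2.symm

theorem Gr.Q_inf_Q (F : Fx Γ) {δ ε : V} (h : Γ.adj δ ε) :
    Γ.Q δ ⊓ Γ.Q ε = Γ.Q δ ⊓ centralizer ((Γ.Z δ ⊔ Γ.Z ε : Subgroup G) : Set G) := by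
  apply le_antisymm
  · refine le_inf inf_le_left ?_
    rw [le_centralizer_iff]
    refine sup_le ?_ ?_
    · rw [le_centralizer_iff]; exact inf_le_left.trans (F.QZ δ)
    · rw [le_centralizer_iff]; exact inf_le_right.trans (F.QZ ε)
  · refine le_inf inf_le_left ?_
    refine le_trans ?_ (F.CZ (Γ.symm h))
    refine le_inf ?_ ?_
    · rw [ed_comm]; exact inf_le_left.trans (Q_le_ed h)
    · exact inf_le_right.trans (centralizer_le (show (Γ.Z ε : Set G) ⊆ (Γ.Z δ ⊔ Γ.Z ε : Subgroup G) from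
        fun x hx => (le_sup_right : Γ.Z ε ≤ Γ.Z δ ⊔ Γ.Z ε) hx))

theorem Gr.Cl.norm_D (F : Fx Γ) {δ ε : V} (hc : Γ.Cl δ) (h : Γ.adj δ ε) :
    st G δ ≤ normalizer ((Γ.Q δ ⊓ Γ.Q ε : Subgroup G) : Set G) := by
  rw [Q_inf_Q F h]
  exact le_normalizer_inf (st_le_normalizer_Q δ) (le_normalizer_centralizer (hc ε h))

theorem Gr.Cl.D_eq (F : Fx Γ) {δ ε ζ : V} (hc : Γ.Cl δ) (h : Γ.adj δ ε) (h' : Γ.adj δ ζ) :
    Γ.Q δ ⊓ Γ.Q ε = Γ.Q δ ⊓ Γ.Q ζ := by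
  rw [Q_inf_Q F h, Q_inf_Q F h', hc.eq h h']

/-- star, closed case -/
theorem Gr.Cl.R_cent (F : Fx Γ) {δ ε : V} (hc : Γ.Cl δ) (h : Γ.adj δ ε) : Γ.R ε δ ≤ centralizer (st G δ : Set G) := by
  have h1 : ⁅Γ.Z δ ⊔ Γ.Z ε, Γ.Q δ⁆ = Γ.R ε δ := by
    apply eq_R F (Γ.symm h)
    · rw [commutator_comm]
      have hn1 : Γ.Z ε ≤ normalizer (Γ.R ε δ : Set G) := by
        refine le_trans ?_ (centralizer_le_normalizer _)
        rw [le_centralizer_iff]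
        exact (R_le_Z ε δ).trans ((F.ZQ ε).trans (F.QZ ε))
      have hn2 : Γ.Z δ ≤ normalizer (Γ.R ε δ : Set G) := by
        refine le_trans ?_ (centralizer_le_normalizer _)
        rw [le_centralizer_iff]
        exact (R_le_Z' F (Γ.symm h)).trans ((F.ZQ δ).trans (F.QZ δ))
      apply commutator_sup_le hn2 hn1
      · have : ⁅Γ.Q δ, Γ.Z δ⁆ = ⊥ := by
          rw [commutator_eq_bot_iff_le_centralizer]; exact F.QZ δ
        rw [this]; exact bot_le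
      · rw [commutator_comm]
        refine commutator_mono le_rfl ?_
        rw [ed_comm]; exact Q_le_ed h
    · intro hb
      rw [commutator_eq_bot_iff_le_centralizer, le_centralizer_iff] at hb
      apply not_Q_le F h
      refine le_trans ?_ (F.CZ (Γ.symm h))
      refine le_inf ?_ ?_
      · rw [ed_comm]; exact Q_le_ed h
      · exact hb.trans (centralizer_le (show (Γ.Z ε : Set G) ⊆ (Γ.Z δ ⊔ Γ.Z ε : Subgroup G) from
          fun x hx => (le_sup_right : Γ.Z ε ≤ Γ.Z δ ⊔ Γ.Z ε) hx))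
  have h2 : st G δ ≤ normalizer (Γ.R ε δ : Set G) := by
    rw [← h1]
    exact le_normalizer_commutator (hc ε h) (st_le_normalizer_Q δ)
  exact TvStruct.le_centralizer_of_card_le_two h2 (F.Rcard (Γ.symm h)).le

end Cfsg.Agent.Lib.AmG
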