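import Cfsg.Agent.Lib.AmG2

/-!
Critical walks.
-/

set_option autoImplicit false
set_option linter.unusedSectionVars false

namespace Cfsg.Agent.Lib.AmG

open Subgroup commutatorElement Cfsg.Agent.Lib.LocBase Cfsg.Agent.Lib.TvStruct Cfsg.Agent.Lib.ZN
open scoped Pointwise

universe u v

variable {G : Type u} [Group G] [Finite G] {V : Type v} [MulAction G V] {Γ : Gr G V}

open Gr

def IsW (Γ : Gr G V) (p : ℤ → V) (a c : ℤ) : Prop := ∀ i, a ≤ i → i < c → Γ.adj (p i) (p (i + 1))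

def MinB (Γ : Gr G V) (b : ℤ) : Prop :=
  ∀ (p : ℤ → V) (a c : ℤ), IsW Γ p a c → a ≤ c → c - a < b → Γ.Z (p a) ≤ Γ.Q (p c)

structure Crit (Γ : Gr G V) (b : ℤ) (p : ℤ → V) (a : ℤ) : Prop where
  walk : IsW Γ p a (a + b)
  crit : ¬ Γ.Z (p a) ≤ Γ.Q (p (a + b))

theorem IsW.sub {p : ℤ → V} {a c a' c' : ℤ} (h : IsW Γ p a c) (h1 : a ≤ a') (h2 : c' ≤ c) : IsW Γ p a' c' :=
  fun i hi hi' => h i (h1.trans hi) (lt_of_lt_of_le hi' h2)

theorem IsW.rev {p : ℤ → V} {a c : ℤ} (h : IsW Γ p a c) (s : ℤ) : IsW Γ (fun i => p (s - i)) (s - c) (s - a) := by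
  intro i hi hi'
  have := h (s - i - 1) (by omega) (by omega)
  have e : s - i - 1 + 1 = s - i := by omega
  rw [e] at this
  have e2 : s - (i + 1) = s - i - 1 := by omega
  show Γ.adj (p (s - i)) (p (s - (i + 1)))
  rw [e2]
  exact Γ.symm this

theorem MinB.rev {b : ℤ} (hm : MinB Γ b) {p : ℤ → V} {a c : ℤ} (h : IsW Γ p a c) (hac : a ≤ c) (hb : c - a < b) :
    Γ.Z (p c) ≤ Γ.Q (p a) := by
  have := hm (fun i => p (0 - i)) (0 - c) (0 - a) (h.rev 0) (by omega) (by omega)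
  simpa using this

theorem Crit.rev' {b : ℤ} {p : ℤ → V} {a : ℤ} (h : Crit Γ b p a) (hs : ¬ Γ.Z (p (a + b)) ≤ Γ.Q (p a)) :
    Crit Γ b (fun i => p (2 * a + b - i)) a := by
  refine ⟨?_, ?_⟩
  · have := h.walk.rev (2 * a + b)
    have e1 : 2 * a + b - (a + b) = a := by omega
    have e2 : 2 * a + b - a = a + b := by omega
    rwa [e1, e2] at this
  · have e1 : 2 * a + b - a = a + b := by omega
    have e2 : 2 * a + b - (a + b) = a := by omega
    show ¬ Γ.Z (p (2 * a + b - a)) ≤ Γ.Q (p (2 * a + b - (a + b)))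
    rw [e1, e2]; exact hs

section crit

variable (F : Fx Γ) {b : ℤ} (hm : MinB Γ b) (hb : 1 ≤ b) {p : ℤ → V} {a : ℤ} (h : Crit Γ b p a)
include F hm hb h

theorem Crit.adjα : Γ.adj (p a) (p (a + 1)) := h.walk a le_rfl (by omega)

theorem Crit.adjω : Γ.adj (p (a + b)) (p (a + b - 1)) := by
  have := h.walk (a + b - 1) (by omega) (by omega)
  rw [sub_add_cancel] at this
  exact Γ.symm this

theorem Crit.Zα_le : Γ.Z (p a) ≤ ed G (p (a + b)) (p (a + b - 1)) := by
  have h1 := hm p a (a + b - 1) (h.walk.sub le_rfl (by omega)) (by omega) (by omega)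
  rw [ed_comm]
  exact h1.trans (Q_le_ed (Γ.symm (h.adjω F hm hb)))

theorem Crit.Zω_le : Γ.Z (p (a + b)) ≤ ed G (p a) (p (a + 1)) := by
  have h1 := hm.rev (p := p) (a := a + 1) (c := a + b) (h.walk.sub (by omega) le_rfl) (by omega) (by omega)
  rw [ed_comm]
  exact h1.trans (Q_le_ed (Γ.symm (h.adjα F hm hb)))

theorem Crit.ncomm : ⁅Γ.Z (p a), Γ.Z (p (a + b))⁆ ≠ ⊥ := by
  intro hbot
  rw [commutator_eq_bot_iff_le_centralizer] at hbot
  exact h.crit ((le_inf (h.Zα_le F hm hb) hbot).trans (F.CZ (h.adjω F hm hb)))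

theorem Crit.sym : ¬ Γ.Z (p (a + b)) ≤ Γ.Q (p a) := by
  intro hle
  apply h.ncomm F hm hb
  rw [commutator_comm, commutator_eq_bot_iff_le_centralizer]
  exact hle.trans (F.QZ _)

theorem Crit.rev : Crit Γ b (fun i => p (2 * a + b - i)) a := h.rev' (h.sym F hm hb)

theorem Crit.comm_eq : ⁅Γ.Z (p a), Γ.Z (p (a + b))⁆ = Γ.R (p a) (p (a + 1)) := by
  apply eq_R F (h.adjα F hm hb)
  · exact commutator_mono le_rfl (h.Zω_le F hm hb)
  · exact h.ncomm F hm hb

theorem Crit.comm_eq' : ⁅Γ.Z (p a), Γ.Z (p (a + b))⁆ = Γ.R (p (a + b)) (p (a + b - 1)) := by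
  apply eq_R F (h.adjω F hm hb)
  · rw [commutator_comm]
    exact commutator_mono le_rfl (h.Zα_le F hm hb)
  · exact h.ncomm F hm hb

theorem Crit.R_eq : Γ.R (p a) (p (a + 1)) = Γ.R (p (a + b)) (p (a + b - 1)) := by
  rw [← h.comm_eq F hm hb, h.comm_eq' F hm hb]

theorem Crit.exists_x : ∃ x ∈ Γ.Z (p (a + b)), x ∈ ed G (p a) (p (a + 1)) ∧ x ∉ Γ.Q (p a) := by
  obtain ⟨x, hx, hxQ⟩ := SetLike.not_le_iff_exists.mp (h.sym F hm hb)
  exact ⟨x, hx, h.Zω_le F hm hb hx, hxQ⟩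

/-- Case A -/
theorem Crit.caseA {ε : V} (hε : Γ.adj (p a) ε) (hne : ε ≠ p (a + 1)) (hle : Γ.Z ε ≤ Γ.Q (p (a + b - 1))) :
    Γ.Cl (p a) := by
  obtain ⟨x, hxZ, hx, hxQ⟩ := h.exists_x F hm hb
  apply Cl_of_one hε
  apply st_le_of_move F hε (x := x)
  · apply le_normalizer_sup
    · exact inf_le_left.trans (st_norm_Z _)
    · exact inf_le_right.trans (st_norm_Z _)
  · -- `x` normalizes `Z_α Z_ε`
    apply mem_normalizer_of_map_conj_le
    rw [Subgroup.map_sup]
    have hxα : x ∈ st G (p a) := hx.1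
    refine sup_le ?_ ?_
    · rw [map_conj_eq_of_mem (st_norm_Z _ hxα)]; exact le_sup_left
    · rintro _ ⟨z, hz, rfl⟩
      show x * z * x⁻¹ ∈ _
      have e : x * z * x⁻¹ = ⁅x, z⁆ * z := by rw [commutatorElement_def]; group
      rw [e]
      refine mul_mem (mem_sup_left ?_) (mem_sup_right hz)
      have h1 : ⁅x, z⁆ ∈ Γ.R (p (a + b)) (p (a + b - 1)) := by
        apply commutator_mem_commutator hxZ
        rw [ed_comm]
        exact Q_le_ed (Γ.symm (h.adjω F hm hb)) (hle hz)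
      rw [← h.R_eq F hm hb] at h1
      exact R_le_Z _ _ h1
  · exact hx.1
  · exact smul_ne_of_not_mem_Q (h.adjα F hm hb) hε hne hx hxQ

end crit

theorem ext_left {p : ℤ → V} {a c : ℤ} (h : IsW Γ p a c) {ε : V} (hε : Γ.adj (p a) ε) :
    ∃ p' : ℤ → V, IsW Γ p' (a - 1) c ∧ p' (a - 1) = ε ∧ ∀ i, a ≤ i → p' i = p i := by
  classical
  refine ⟨Function.update p (a - 1) ε, ?_, Function.update_self _ _ _, ?_⟩
  · intro i hi hi'
    by_cases e : i = a - 1
    · rw [e, Function.update_self, sub_add_cancel, Function.update_of_ne (by omega)]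
      exact Γ.symm hε
    · rw [Function.update_of_ne e, Function.update_of_ne (by omega)]
      exact h i (by omega) hi'
  · intro i hi
    exact Function.update_of_ne (by omega) _ _

section crit2

variable (F : Fx Γ) {b : ℤ} (hm : MinB Γ b) (hb : 2 ≤ b) {p : ℤ → V} {a : ℤ} (h : Crit Γ b p a)
include F hm hb h

/-- shifting -/
theorem Crit.shift {ε : V} (hε : Γ.adj (p a) ε) (hnle : ¬ Γ.Z ε ≤ Γ.Q (p (a + b - 1))) :
    ∃ p', Crit Γ b p' (a - 1) ∧ p' (a - 1) = ε ∧ ∀ i, a ≤ i → p' i = p i := by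
  obtain ⟨p', h1, h2, h3⟩ := ext_left (h.walk.sub le_rfl (by omega : a + b - 1 ≤ a + b)) hε
  refine ⟨p', ⟨?_, ?_⟩, h2, h3⟩
  · have e : a - 1 + b = a + b - 1 := by omega
    rw [e]; exact h1
  · have e : a - 1 + b = a + b - 1 := by omega
    rw [e, h2, h3 _ (by omega)]
    exact hnle

theorem Crit.shift_R {ε : V} (hε : Γ.adj (p a) ε) (hnle : ¬ Γ.Z ε ≤ Γ.Q (p (a + b - 1))) :
    Γ.R ε (p a) = Γ.R (p (a + b - 1)) (p (a + b - 2)) := by
  obtain ⟨p', h1, h2, h3⟩ := h.shift F hm hb hε hnle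
  have h4 := h1.R_eq F hm (by omega)
  have e1 : a - 1 + 1 = a := by omega
  have e2 : a - 1 + b = a + b - 1 := by omega
  have e3 : a - 1 + b - 1 = a + b - 2 := by omega
  rw [e1, e3, e2, h2, h3 a le_rfl, h3 _ (by omega), h3 _ (by omega)] at h4
  exact h4

/-- not closed at the neighbour of the end -/
theorem Crit.notcl : ¬ Γ.Cl (p (a + b - 1)) := by
  intro hc
  have h1 : Γ.adj (p (a + b - 1)) (p (a + b)) := Γ.symm (h.adjω F hm (by omega))
  have h2 : Γ.adj (p (a + b - 1)) (p (a + b - 2)) := by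
    have := h.walk (a + b - 2) (by omega) (by omega)
    have e : a + b - 2 + 1 = a + b - 1 := by omega
    rw [e] at this
    exact Γ.symm this
  have h3 := hc.eq h1 h2
  have h4 : Γ.Z (p (a + b)) ≤ centralizer (Γ.Z (p a) : Set G) := by
    refine (le_sup_right : _ ≤ Γ.Z (p (a + b - 1)) ⊔ Γ.Z (p (a + b))).trans ?_
    rw [h3, le_centralizer_iff]
    have h5 := hm p a (a + b - 1) (h.walk.sub le_rfl (by omega)) (by omega) (by omega)
    have h6 := hm p a (a + b - 2) (h.walk.sub le_rfl (by omega)) (by omega) (by omega)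
    rw [le_centralizer_iff]
    refine sup_le ?_ ?_
    · rw [le_centralizer_iff]; exact h5.trans (F.QZ _)
    · rw [le_centralizer_iff]; exact h6.trans (F.QZ _)
  apply h.ncomm F hm (by omega)
  rw [commutator_comm, commutator_eq_bot_iff_le_centralizer]
  exact h4

theorem Crit.notcl' : ¬ Γ.Cl (p (a + 1)) := by
  have h1 := (h.rev F hm (by omega)).notcl F hm hb
  have e : 2 * a + b - (a + b - 1) = a + 1 := by omega
  simpa [e] using h1

/-- (*) -/
theorem Crit.star {ε : V} (hε : Γ.adj (p a) ε) : Γ.R ε (p a) ≤ centralizer (st G (p a) : Set G) := by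
  by_cases hc : Γ.Cl (p a)
  · exact hc.R_cent F hε
  · -- case B
    have hα := h.adjα F hm (by omega)
    have key : ∀ ζ, Γ.adj (p a) ζ → ζ ≠ p (a + 1) → Γ.R ζ (p a) = Γ.R (p (a + b - 1)) (p (a + b - 2)) := by
      intro ζ hζ hne
      apply h.shift_R F hm hb hζ
      intro hle
      exact hc (h.caseA F hm (by omega) hζ hne hle)
    obtain ⟨c, d, hcne, hdne, hcd, hall⟩ := nbrs hα
    have hcadj : Γ.adj (p a) c := (hall c).mpr (Or.inr (Or.inl rfl))
    have hdadj : Γ.adj (p a) d := (hall d).mpr (Or.inr (Or.inr rfl))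
    have h1 := key c hcadj hcne
    have h2 := key d hdadj hdne
    have h3 : Γ.R c (p a) = Γ.R d (p a) := h1.trans h2.symm
    -- `st` centralizes `R c (p a)`
    have h4 : st G (p a) ≤ centralizer (Γ.R c (p a) : Set G) := by
      obtain ⟨y, hy, hyQ⟩ := F.swap hdadj
      apply st_le_of_move F hcadj (x := y)
      · rw [le_centralizer_iff, ed_comm]; exact F.Rcent (Γ.symm hcadj)
      · rw [h3]
        have : ed G (p a) d ≤ centralizer (Γ.R d (p a) : Set G) := by
          rw [le_centralizer_iff, ed_comm]; exact F.Rcent (Γ.symm hdadj)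
        exact this hy
      · exact hy.1
      · exact smul_ne_of_not_mem_Q hdadj hcadj hcd hy hyQ
    obtain ⟨g, hg, rfl⟩ := Γ.trans_nb hcadj hε
    have hg' : g • p a = p a := hg
    have h5 : Γ.R (g • c) (p a) = Γ.R c (p a) := by
      have := R_smul (Γ := Γ) g c (p a)
      rw [hg'] at this
      rw [this]
      exact map_conj_eq_of_mem (centralizer_le_normalizer _ (h4 hg))
    rw [h5, le_centralizer_iff]
    exact h4

end crit2

end Cfsg.Agent.Lib.AmG
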