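import Cfsg.Agent.Lib.AmG3

/-!
The offender argument, and the case `b = 2`.
-/

set_option autoImplicit false
set_option linter.unusedSectionVars false

namespace Cfsg.Agent.Lib.AmG

open Subgroup commutatorElement Cfsg.Agent.Lib.LocBase Cfsg.Agent.Lib.TvStruct Cfsg.Agent.Lib.ZN
open scoped Pointwise

universe u v

variable {G : Type u} [Group G] [Finite G] {V : Type v} [MulAction G V] {Γ : Gr G V}

open Gr

theorem MinB.adj_le {b : ℤ} (hm : MinB Γ b) (hb : 2 ≤ b) {δ ε : V} (h : Γ.adj δ ε) : Γ.Z δ ≤ Γ.Q ε := by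
  have := hm (fun i => if i ≤ 0 then δ else ε) 0 1 (by
    intro i hi hi'
    have e : i = 0 := by omega
    subst e
    simpa using h) (by omega) (by omega)
  simpa using this

theorem MinB.two_le {b : ℤ} (hm : MinB Γ b) (hb : 3 ≤ b) {δ β ε : V} (h : Γ.adj β δ) (h' : Γ.adj β ε) : Γ.Z δ ≤ Γ.Q ε := by
  have := hm (fun i => if i ≤ 0 then δ else if i ≤ 1 then β else ε) 0 2 (by
    intro i hi hi'
    rcases (by omega : i = 0 ∨ i = 1) with e | e
    · subst e
      simpa using Γ.symm h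
    · subst e
      simpa using h') (by omega) (by omega)
  simpa using this

theorem inf_eq_bot_of_card_two {X Y : Subgroup G} (hX : Nat.card X = 2) (hY : Nat.card Y = 2) (hne : X ≠ Y) : X ⊓ Y = ⊥ := by
  by_contra hb
  apply hne
  have h0 : 1 < Nat.card (X ⊓ Y : Subgroup G) := by
    have h1 : 0 < Nat.card (X ⊓ Y : Subgroup G) := Nat.card_pos
    have h2 : Nat.card (X ⊓ Y : Subgroup G) ≠ 1 := fun e => hb (card_eq_one.mp e)
    omega
  have h1 : X ⊓ Y = X := Subgroup.eq_of_le_of_card_ge inf_le_left (by omega)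
  have h2 : X ⊓ Y = Y := Subgroup.eq_of_le_of_card_ge inf_le_right (by omega)
  exact h1.symm.trans h2

theorem exists_gen_of_card_two {X : Subgroup G} (hX : Nat.card X = 2) : ∃ r ∈ X, r ≠ 1 := by
  have h1 : X ≠ ⊥ := by
    intro hb
    rw [hb, card_bot] at hX
    omega
  obtain ⟨⟨r, hr⟩, hr1⟩ := ne_bot_iff_exists_ne_one.mp h1
  exact ⟨r, hr, fun e => hr1 (Subtype.ext e)⟩

theorem eq_of_card_two {X : Subgroup G} (hX : Nat.card X = 2) {r s : G} (hr : r ∈ X) (hs : s ∈ X) (hr1 : r ≠ 1)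
    (hs1 : s ≠ 1) : r = s := by
  have h1 := mul_mem_of_index_two (A := X) (A₀ := ⊥) bot_le (by rw [hX, card_bot]) hr hs
    (by rwa [mem_bot]) (by rwa [mem_bot])
  rw [mem_bot, inv_mul_eq_one] at h1
  exact h1

theorem exists_not_mem_ZE (F : Fx Γ) {δ ε : V} (h : Γ.adj δ ε) : ∃ z ∈ Γ.Z δ, z ∉ ZE G δ ε := by
  by_contra hcon
  push Not at hcon
  have h1 := card_le_of_le (show Γ.Z δ ≤ ZE G δ ε from hcon)
  have h2 := F.Zidx h
  have h3 : 0 < Nat.card (ZE G δ ε) := Nat.card_pos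
  omega

/-- commuting with `z z'` implies commuting with `z` -/
theorem comm_of_comm_mul (F : Fx Γ) {b : ℤ} (hm : MinB Γ b) (hb : 2 ≤ b) {β γ ζ : V} (hγ : Γ.adj β γ) (hζ : Γ.adj β ζ)
    (hR : Γ.R γ β ≠ Γ.R ζ β) {q z z' : G} (hq : q ∈ Γ.Q β) (hz : z ∈ Γ.Z γ) (hz' : z' ∈ Γ.Z ζ)
    (hc : q * (z * z') = z * z' * q) : z * q = q * z := by
  have h1 : ⁅q, z⁆ ∈ Γ.R γ β := by
    unfold R
    rw [commutator_comm]
    refine commutator_mem_commutator ?_ hz
    rw [ed_comm]; exact Q_le_ed hγ hq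
  have h2 : ⁅q, z'⁆ ∈ Γ.R ζ β := by
    unfold R
    rw [commutator_comm]
    refine commutator_mem_commutator ?_ hz'
    rw [ed_comm]; exact Q_le_ed hζ hq
  have h3 : z * ⁅q, z'⁆ = ⁅q, z'⁆ * z := by
    have h4 : ⁅q, z'⁆ ∈ Γ.Z β := R_le_Z' F (Γ.symm hζ) h2
    have h5 : z ∈ centralizer (Γ.Z β : Set G) := F.QZ β (hm.adj_le hb (Γ.symm hγ) hz)
    exact (mem_centralizer_iff.mp h5 _ h4).symm
  have h4 : ⁅q, z⁆ * ⁅q, z'⁆ = 1 := by
    have e1 : q * (z * z') * q⁻¹ = z * z' := by rw [hc]; group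
    have e2 : q * (z * z') * q⁻¹ = ⁅q, z⁆ * (z * ⁅q, z'⁆) * z' := by
      simp only [commutatorElement_def]; group
    rw [h3] at e2
    rw [e2] at e1
    have e3 : ⁅q, z⁆ * ⁅q, z'⁆ = (⁅q, z⁆ * (⁅q, z'⁆ * z) * z') * z'⁻¹ * z⁻¹ := by group
    rw [e3, e1]; group
  have h5 : ⁅q, z⁆ ∈ Γ.R γ β ⊓ Γ.R ζ β := by
    refine mem_inf.mpr ⟨h1, ?_⟩
    rw [eq_inv_of_mul_eq_one_left h4]
    exact inv_mem h2
  rw [inf_eq_bot_of_card_two (F.Rcard (Γ.symm hγ)) (F.Rcard (Γ.symm hζ)) hR, mem_bot,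
    commutatorElement_eq_one_iff_mul_comm] at h5
  exact h5.symm

theorem mem_Q_of_comm (F : Fx Γ) {β γ : V} (hγ : Γ.adj β γ) {q z : G} (hq : q ∈ Γ.Q β) (hz : z ∈ Γ.Z γ)
    (hzE : z ∉ ZE G γ β) (hc : z * q = q * z) : q ∈ Γ.Q γ := by
  have h1 : q ∈ ed G γ β := by rw [ed_comm]; exact Q_le_ed hγ hq
  have h2 : q ∈ centralizer (ZE G γ β : Set G) := (le_centralizer_iff.mp (ZE_cent γ β)) h1
  exact F.CZ (Γ.symm hγ) ⟨h1, cent_Z_of F (Γ.symm hγ) hz hzE h2 hc⟩

/-- the offender argument -/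
theorem off_main (F : Fx Γ) {b : ℤ} (hm : MinB Γ b) (hb : 3 ≤ b) {β γ ζ : V} (hγ : Γ.adj β γ) (hζ : Γ.adj β ζ)
    (hne : γ ≠ ζ) : Γ.R γ β = Γ.R ζ β := by
  by_contra hR
  have hb2 : 2 ≤ b := by omega
  obtain ⟨α, hα, hαγ, hαζ, hall⟩ := exists_third hγ hζ hne
  obtain ⟨A, hAed, hAE, hAQ, hmax⟩ := F.off (Γ.symm hα)
  obtain ⟨a, haA, haQ⟩ := SetLike.not_le_iff_exists.mp hAQ
  have hAc := (ThompsonJ.elemAb_iff.mp hAE).1
  have haed : a ∈ ed G β α := by rw [ed_comm]; exact hAed haA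
  have haβ : a • β = β := haed.1
  -- `a` swaps `γ` and `ζ`
  have haγ : a • γ = ζ := by
    have h1 := smul_ne_of_not_mem_Q hα hγ (Ne.symm hαγ) haed haQ
    have h2 : Γ.adj β (a • γ) := by
      have := Γ.adj_smul a hγ
      rwa [haβ] at this
    rcases hall _ h2 with e | e | e
    · exact absurd e h1
    · exact e
    · exfalso
      have h3 : a • γ = a • α := by rw [e]; exact haed.2.symm
      exact hαγ (MulAction.injective a h3).symm
  obtain ⟨z, hz, hzE⟩ := exists_not_mem_ZE F (Γ.symm hγ)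
  set z' := a * z * a⁻¹ with hz'def
  have hz' : z' ∈ Γ.Z ζ := by
    rw [← haγ, Z_smul]
    exact ⟨z, hz, rfl⟩
  have hZγ : Γ.Z γ ≤ Γ.Q β := hm.adj_le hb2 (Γ.symm hγ)
  have hZζ : Γ.Z ζ ≤ Γ.Q β := hm.adj_le hb2 (Γ.symm hζ)
  have hZβ : Γ.Z β ≤ Γ.Q β := F.ZQ β
  set U := Γ.Z β ⊔ (Γ.Z γ ⊔ Γ.Z ζ) with hU
  have hUQ : U ≤ Γ.Q β := sup_le hZβ (sup_le hZγ hZζ)
  have hEA : ∀ δ : V, Cfsg.IsElementaryAbelian 2 (Γ.Z δ) := fun δ =>
    ThompsonJ.elemAb_iff.mpr ⟨(F.ZQ δ).trans (F.QZ δ), F.sq δ⟩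
  have hUE : Cfsg.IsElementaryAbelian 2 U := by
    apply ThompsonJ.elemAb_sup (hEA β)
    · apply ThompsonJ.elemAb_sup (hEA γ) (hEA ζ)
      exact (hm.two_le hb hγ hζ).trans (F.QZ ζ)
    · rw [le_centralizer_iff]
      exact (sup_le hZγ hZζ).trans (F.QZ β)
  have hUc := (ThompsonJ.elemAb_iff.mp hUE).1
  have hzU : z ∈ U := mem_sup_right (mem_sup_left hz)
  have hz'U : z' ∈ U := mem_sup_right (mem_sup_right hz')
  set A₁ := A ⊓ Γ.Q β with hA₁
  set A₂ := A₁ ⊓ Γ.Q γ with hA₂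
  have hA₂ζ : A₂ ≤ Γ.Q ζ := by
    intro q hq
    have hqA : q ∈ A := hq.1.1
    have h1 : a * q * a⁻¹ = q := by
      rw [← mem_centralizer_iff.mp (hAc haA) q hqA, mul_inv_cancel_right]
    rw [← h1, ← haγ, Q_smul]
    exact ⟨q, hq.2, rfl⟩
  have hA₂U : U ≤ centralizer (A₂ : Set G) := by
    rw [le_centralizer_iff]
    rw [← le_centralizer_iff]
    refine sup_le ?_ (sup_le ?_ ?_)
    · rw [le_centralizer_iff]; exact (inf_le_left.trans inf_le_right).trans (F.QZ β)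
    · rw [le_centralizer_iff]; exact inf_le_right.trans (F.QZ γ)
    · rw [le_centralizer_iff]; exact hA₂ζ.trans (F.QZ ζ)
  have hcA₁ : Nat.card A ≤ 2 * Nat.card A₁ := by
    apply card_le_two_mul_of_mul_mem inf_le_left
    intro x hx y hy hx' hy'
    refine ⟨mul_mem hx hy, ?_⟩
    apply mul_mem_Q hα
    · rw [ed_comm]; exact hAed hx
    · exact fun h => hx' ⟨hx, h⟩
    · rw [ed_comm]; exact hAed hy
    · exact fun h => hy' ⟨hy, h⟩
  have hcA₂ : Nat.card A₁ ≤ 2 * Nat.card A₂ := by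
    apply card_le_two_mul_of_mul_mem inf_le_left
    intro x hx y hy hx' hy'
    refine ⟨mul_mem hx hy, ?_⟩
    apply mul_mem_Q (Γ.symm hγ)
    · rw [ed_comm]; exact Q_le_ed hγ hx.2
    · exact fun h => hx' ⟨hx, h⟩
    · rw [ed_comm]; exact Q_le_ed hγ hy.2
    · exact fun h => hy' ⟨hy, h⟩
  set Y := A₂ ⊓ U with hY
  have hmaxU : Nat.card (A₂ ⊔ U : Subgroup G) ≤ Nat.card A := by
    apply hmax
    · refine sup_le ((inf_le_left.trans inf_le_left).trans hAed) ?_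
      rw [ed_comm]; exact hUQ.trans (Q_le_ed hα)
    · apply ThompsonJ.elemAb_sup (ThompsonJ.elemAb_mono hAE (inf_le_left.trans inf_le_left)) hUE
      rwa [le_centralizer_iff]
  have hcard := SubgroupTools.card_sup_mul_card_inf (N := A₂) (H := U) (hA₂U.trans (centralizer_le_normalizer _))
  set C := U ⊓ centralizer (zpowers a : Set G) with hC
  have hYC : Y ≤ C := by
    refine le_inf inf_le_right ?_
    refine (inf_le_left.trans (inf_le_left.trans inf_le_left)).trans (hAc.trans (centralizer_le ?_))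
    exact (zpowers_le.mpr haA : zpowers a ≤ A)
  have hca : ∀ c ∈ C, a * c * a⁻¹ = c := by
    intro c hc
    have := mem_centralizer_iff.mp hc.2 a (mem_zpowers a)
    rw [this, mul_inv_cancel_right]
  -- `Z_β ≰ C`
  have hZβC : ¬ Γ.Z β ≤ C := by
    intro hle
    apply haQ
    apply F.CZ hα
    refine mem_inf.mpr ⟨haed, ?_⟩
    rw [mem_centralizer_iff]
    intro w hw
    have := hca w (hle hw)
    rw [mul_inv_eq_iff_eq_mul] at this
    exact this.symm
  have hzz' : z * z' ∉ Γ.Z β := by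
    intro hmem
    apply not_Q_le F hγ
    intro q hq
    have h1 : q * (z * z') = z * z' * q := (mem_centralizer_iff.mp (F.QZ β hq) _ hmem).symm
    exact mem_Q_of_comm F hγ hq hz hzE (comm_of_comm_mul F hm hb2 hγ hζ hR hq hz hz' h1)
  have hcomm : ∀ x ∈ U, ∀ y ∈ U, x * y = y * x := fun x hx y hy => mem_centralizer_iff.mp (hUc hy) x hx
  have hsqU : ∀ x ∈ U, x * x = 1 := fun x hx => by
    have := (ThompsonJ.elemAb_iff.mp hUE).2 x hx
    rwa [pow_two] at this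
  have hlt1 : C < Γ.Z β ⊔ C := lt_of_le_of_ne le_sup_right (fun e => hZβC (by rw [e]; exact le_sup_left))
  have hlt2 : Γ.Z β ⊔ C < U := by
    refine lt_of_le_of_ne (sup_le le_sup_left inf_le_left) ?_
    intro e
    have hz2 : z ∈ Γ.Z β ⊔ C := by rw [e]; exact hzU
    have hnorm : C ≤ normalizer (Γ.Z β : Set G) :=
      inf_le_left.trans (hUQ.trans ((Q_le_st β).trans (st_norm_Z β)))
    obtain ⟨w, hw, c, hc, hwc⟩ := exists_mul_of_mem_sup_of_le hnorm hz2
    apply hzz'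
    have h1 : a * w * a⁻¹ ∈ Γ.Z β := conj_mem_of_le_normalizer (st_norm_Z β) haed.1 hw
    have h2 : z' = (a * w * a⁻¹) * c := by
      rw [hz'def, hwc]
      calc a * (w * c) * a⁻¹ = (a * w * a⁻¹) * (a * c * a⁻¹) := by group
        _ = _ := by rw [hca c hc]
    have hwU : w ∈ U := mem_sup_left hw
    have hcU : c ∈ U := hc.1
    have h3 : z * z' = w * (a * w * a⁻¹) := by
      rw [h2, hwc]
      have h4 : c * (a * w * a⁻¹) = (a * w * a⁻¹) * c := hcomm _ hcU _ (mem_sup_left h1)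
      calc w * c * (a * w * a⁻¹ * c) = w * (c * (a * w * a⁻¹)) * c := by group
        _ = w * ((a * w * a⁻¹) * c) * c := by rw [h4]
        _ = w * (a * w * a⁻¹) * (c * c) := by group
        _ = _ := by rw [hsqU c hcU, mul_one]
    rw [h3]
    exact mul_mem hw h1
  have h4C : 4 * Nat.card C ≤ Nat.card U := by
    have h1 := two_mul_card_le hlt1
    have h2 := two_mul_card_le hlt2
    omega
  have hYpos : 0 < Nat.card Y := Nat.card_pos
  have hA₂pos : 0 < Nat.card A₂ := Nat.card_pos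
  have hCpos : 0 < Nat.card C := Nat.card_pos
  have hYCcard := card_le_of_le hYC
  -- `|U| ≤ 4 |Y|`
  have h4Y : Nat.card U ≤ 4 * Nat.card Y := by
    have h1 : Nat.card A₂ * Nat.card U ≤ Nat.card A₂ * (4 * Nat.card Y) := by
      rw [← hcard]
      calc Nat.card (A₂ ⊔ U : Subgroup G) * Nat.card Y ≤ Nat.card A * Nat.card Y := Nat.mul_le_mul_right _ hmaxU
        _ ≤ (4 * Nat.card A₂) * Nat.card Y := Nat.mul_le_mul_right _ (by omega)
        _ = _ := by ring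
    exact Nat.le_of_mul_le_mul_left h1 hA₂pos
  have hYeqC : Y = C := Subgroup.eq_of_le_of_card_ge hYC (by omega)
  have haa : a * a = 1 := by
    have := (ThompsonJ.elemAb_iff.mp hAE).2 a haA
    rwa [pow_two] at this
  have hzzC : z * z' ∈ C := by
    refine mem_inf.mpr ⟨mul_mem hzU hz'U, ?_⟩
    rw [mem_centralizer_iff]
    rintro _ ⟨k, rfl⟩
    have h1 : Commute a (z * z') := by
      have hainv : a⁻¹ = a := inv_eq_of_mul_eq_one_left haa
      have h2 : a * (z * z') * a⁻¹ = z * z' := by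
        have h3 : a * z' * a⁻¹ = z := by
          rw [hz'def]
          have : a * (a * z * a⁻¹) * a⁻¹ = (a * a) * z * (a * a)⁻¹ := by group
          rw [this, haa]; group
        calc a * (z * z') * a⁻¹ = (a * z * a⁻¹) * (a * z' * a⁻¹) := by group
          _ = z' * z := by rw [h3]
          _ = _ := hcomm _ hz'U _ hzU
      show a * (z * z') = z * z' * a
      rwa [mul_inv_eq_iff_eq_mul] at h2
    exact (h1.zpow_left k).eq
  rw [← hYeqC] at hzzC
  have hzzA : z * z' ∈ A := hzzC.1.1.1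
  have hA₁₂ : A₁ ≤ A₂ := by
    intro q hq
    refine ⟨hq, ?_⟩
    have h1 : q * (z * z') = z * z' * q := (mem_centralizer_iff.mp (hAc hq.1) _ hzzA).symm
    exact mem_Q_of_comm F hγ hq.2 hz hzE (comm_of_comm_mul F hm hb2 hγ hζ hR hq.2 hz hz' h1)
  have h2Y : Nat.card U ≤ 2 * Nat.card Y := by
    have h0 : A₂ = A₁ := le_antisymm inf_le_left hA₁₂
    have h1 : Nat.card A₂ * Nat.card U ≤ Nat.card A₂ * (2 * Nat.card Y) := by
      rw [← hcard]
      calc Nat.card (A₂ ⊔ U : Subgroup G) * Nat.card Y ≤ Nat.card A * Nat.card Y := Nat.mul_le_mul_right _ hmaxU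
        _ ≤ (2 * Nat.card A₂) * Nat.card Y := Nat.mul_le_mul_right _ (by rw [h0]; exact hcA₁)
        _ = _ := by ring
    exact Nat.le_of_mul_le_mul_left h1 hA₂pos
  omega

/-- for `b ≥ 3` all `R_{γβ}` are central in `G_β` -/
theorem off_B (F : Fx Γ) {b : ℤ} (hm : MinB Γ b) (hb : 3 ≤ b) {β γ : V} (hγ : Γ.adj β γ) : Γ.R γ β = Γ.B β := by
  apply R_eq_B F (Γ.symm hγ)
  have h1 : st G β ≤ normalizer (Γ.R γ β : Set G) := by
    intro g hg
    apply mem_normalizer_of_map_conj_eq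
    have hgβ : g • β = β := hg
    have h2 := R_smul (Γ := Γ) g γ β
    rw [hgβ] at h2
    show cj g (Γ.R γ β) = Γ.R γ β
    rw [← h2]
    by_cases e : g • γ = γ
    · rw [e]
    · have h3 : Γ.adj β (g • γ) := by
        have := Γ.adj_smul g hγ
        rwa [hgβ] at this
      exact off_main F hm hb h3 hγ e
  exact TvStruct.le_centralizer_of_card_le_two h1 (F.Rcard (Γ.symm hγ)).le

end Cfsg.Agent.Lib.AmG
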