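import Cfsg.Agent.Lib.AmG4

/-!
The case `b = 2`.
-/

set_option autoImplicit false
set_option linter.unusedSectionVars false

namespace Cfsg.Agent.Lib.AmG

open Subgroup commutatorElement Cfsg.Agent.Lib.LocBase Cfsg.Agent.Lib.TvStruct Cfsg.Agent.Lib.ZN
open scoped Pointwise

universe u v

variable {G : Type u} [Group G] [Finite G] {V : Type v} [MulAction G V] {Γ : Gr G V}

open Gr

/-- `G_β` is doubly transitive on the neighbours -/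
theorem two_trans (F : Fx Γ) {β α γ δ ε : V} (hα : Γ.adj β α) (hγ : Γ.adj β γ) (hne : α ≠ γ) (hδ : Γ.adj β δ)
    (hε : Γ.adj β ε) (hne' : δ ≠ ε) : ∃ k ∈ st G β, k • α = δ ∧ k • γ = ε := by
  obtain ⟨g, hg, hgα⟩ := Γ.trans_nb hα hδ
  have hgβ : g • β = β := hg
  have h1 : Γ.adj β (g • γ) := by
    have := Γ.adj_smul g hγ
    rwa [hgβ] at this
  have h2 : g • γ ≠ δ := by
    intro e
    rw [← hgα] at e
    exact hne (MulAction.injective g e).symm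
  by_cases h3 : g • γ = ε
  · exact ⟨g, hg, hgα, h3⟩
  · obtain ⟨y, hy, hyQ⟩ := F.swap hδ
    have h4 := smul_ne_of_not_mem_Q hδ h1 h2 hy hyQ
    have hyβ : y • β = β := hy.1
    have hyδ : y • δ = δ := hy.2
    refine ⟨y * g, mul_mem hy.1 hg, by rw [mul_smul, hgα, hyδ], ?_⟩
    rw [mul_smul]
    obtain ⟨c, hc, hcδ, hcε, hall⟩ := exists_third hδ hε hne'
    have h5 : Γ.adj β (y • g • γ) := by
      have := Γ.adj_smul y h1
      rwa [hyβ] at this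
    have h6 : y • g • γ ≠ δ := by
      intro e
      have e' : y • g • γ = y • δ := by rw [e, hyδ]
      exact h2 (MulAction.injective y e')
    have h7 : g • γ = c := by
      rcases hall _ h1 with e | e | e
      · exact absurd e h2
      · exact absurd e h3
      · exact e
    rcases hall _ h5 with e | e | e
    · exact absurd e h6
    · exact e
    · exact absurd (e.trans h7.symm) h4

theorem crit_all (F : Fx Γ) {β α γ δ ε : V} (hα : Γ.adj β α) (hγ : Γ.adj β γ) (hne : α ≠ γ)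
    (hc : ¬ Γ.Z α ≤ Γ.Q γ) (hδ : Γ.adj β δ)
    (hε : Γ.adj β ε) (hne' : δ ≠ ε) : ¬ Γ.Z δ ≤ Γ.Q ε := by
  obtain ⟨k, hk, rfl, rfl⟩ := two_trans F hα hγ hne hδ hε hne'
  rw [Z_smul, Q_smul]
  intro hle
  exact hc ((map_conj_le_map_conj k).mp hle)

theorem Z_le_of_mem (F : Fx Γ) {δ ε : V} (h : Γ.adj δ ε) {x : G} (hx : x ∈ Γ.Z δ) (hxE : x ∉ ZE G δ ε)
    {H : Subgroup G} (hE : ZE G δ ε ≤ H) (hxH : x ∈ H) : Γ.Z δ ≤ H := by
  intro z hz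
  by_cases hzE : z ∈ ZE G δ ε
  · exact hE hzE
  · have h1 := mul_mem_of_index_two (ZE_le_Z h) (F.Zidx h) hx hz hxE hzE
    have := mul_mem hxH (hE h1)
    rwa [mul_inv_cancel_left] at this

/-- squares -/
theorem closed_two_sq (F : Fx Γ) (hm : MinB Γ 2) {α β γ : V} (hα : Γ.adj β α) (hγ : Γ.adj β γ)
    {x y : G} (hx : x ∈ Γ.Z γ) (hxE : x ∉ ZE G γ β) (hy : y ∈ Γ.Z α) (hxy : x * y ≠ y * x) {d : G} (hd : d ∈ Γ.Q α ⊓ Γ.Q β) :
    ∃ c ∈ Γ.Q α ⊓ Γ.Q β, c ∈ Γ.Q γ ∧ c ^ 2 = d ^ 2 := by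
  obtain ⟨hdα, hdβ⟩ := mem_inf.mp hd
  have hyβ : y ∈ Γ.Q β := hm.adj_le le_rfl (Γ.symm hα) hy
  by_cases hc : x * d = d * x
  · exact ⟨d, hd, mem_Q_of_comm F hγ hdβ hx hxE hc, rfl⟩
  · have hedd : d ∈ ed G γ β := by rw [ed_comm]; exact Q_le_ed hγ hdβ
    have hedy : y ∈ ed G γ β := by rw [ed_comm]; exact Q_le_ed hγ hyβ
    have h1 : ⁅x, d⁆ ∈ Γ.R γ β := commutator_mem_commutator hx hedd
    have h2 : ⁅x, y⁆ ∈ Γ.R γ β := commutator_mem_commutator hx hedy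
    have h3 : ⁅x, d⁆ = ⁅x, y⁆ := eq_of_card_two (F.Rcard (Γ.symm hγ)) h1 h2
      (fun e => hc (commutatorElement_eq_one_iff_mul_comm.mp e)) (fun e => hxy (commutatorElement_eq_one_iff_mul_comm.mp e))
    have hyα : y * d = d * y := mem_centralizer_iff.mp (F.QZ α hdα) y hy
    have hy2 : y * y = 1 := by
      have := F.sq α y hy
      rwa [pow_two] at this
    have hρ : ⁅x, d⁆ * d = d * ⁅x, d⁆ := (mem_centralizer_iff.mp (F.Rcent (Γ.symm hγ) h1) d hedd).symm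
    have hρ2 : ⁅x, d⁆ * ⁅x, d⁆ = 1 := by
      have := F.sq γ _ (R_le_Z _ _ h1)
      rwa [pow_two] at this
    have hcomm : x * (d * y) = d * y * x := by
      have e1 : x * d = ⁅x, d⁆ * d * x := by rw [commutatorElement_def]; group
      have e2 : x * y = ⁅x, y⁆ * y * x := by rw [commutatorElement_def]; group
      calc x * (d * y) = (x * d) * y := by group
        _ = ⁅x, d⁆ * d * (x * y) := by rw [e1]; group
        _ = (⁅x, d⁆ * d) * ⁅x, y⁆ * y * x := by rw [e2]; group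
        _ = (d * ⁅x, d⁆) * ⁅x, d⁆ * y * x := by rw [hρ, ← h3]
        _ = d * (⁅x, d⁆ * ⁅x, d⁆) * y * x := by group
        _ = _ := by rw [hρ2, mul_one]
    have hcD : d * y ∈ Γ.Q α ⊓ Γ.Q β := mem_inf.mpr ⟨mul_mem hdα (F.ZQ α hy), mul_mem hdβ hyβ⟩
    refine ⟨d * y, hcD, mem_Q_of_comm F hγ (mem_inf.mp hcD).2 hx hxE hcomm, ?_⟩
    rw [pow_two, pow_two]
    calc d * y * (d * y) = d * (y * d) * y := by group
      _ = d * d * (y * y) := by rw [hyα]; group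
      _ = _ := by rw [hy2, mul_one]

theorem closed_two (F : Fx Γ) (hm : MinB Γ 2) {α β γ : V} (hα : Γ.adj β α) (hγ : Γ.adj β γ) (hne : α ≠ γ)
    (hc : ¬ Γ.Z α ≤ Γ.Q γ) (hcl : Γ.Cl α) : False := by
  have CR : ∀ δ ε, Γ.adj β δ → Γ.adj β ε → δ ≠ ε → ¬ Γ.Z δ ≤ Γ.Q ε := fun δ ε hδ hε hne' =>
    crit_all F hα hγ hne hc hδ hε hne'
  have hEQ : ∀ δ ε, Γ.adj β δ → Γ.adj β ε → ZE G δ β ≤ Γ.Q ε := fun δ ε hδ hε =>
    (ZE_le_Z' (Γ.symm hδ)).trans (hm.adj_le le_rfl hε)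
  -- for distinct neighbours, elements
  have key : ∀ δ ε, Γ.adj β δ → Γ.adj β ε → δ ≠ ε → ∃ x ∈ Γ.Z ε, ∃ y ∈ Γ.Z δ, x ∉ Γ.Q δ ∧ y ∉ Γ.Q ε ∧
      x ∉ ZE G ε β ∧ y ∉ ZE G δ β ∧ x * y ≠ y * x := by
    intro δ ε hδ hε hne'
    obtain ⟨x, hx, hxQ⟩ := SetLike.not_le_iff_exists.mp (CR ε δ hε hδ (Ne.symm hne'))
    obtain ⟨y, hy, hyQ⟩ := SetLike.not_le_iff_exists.mp (CR δ ε hδ hε hne')
    have hxE : x ∉ ZE G ε β := fun e => hxQ (hEQ ε δ hε hδ e)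
    have hyE : y ∉ ZE G δ β := fun e => hyQ (hEQ δ ε hδ hε e)
    refine ⟨x, hx, y, hy, hxQ, hyQ, hxE, hyE, ?_⟩
    intro e
    exact hyQ (mem_Q_of_comm F hε (hm.adj_le le_rfl (Γ.symm hδ) hy) hx hxE e)
  have hty : ∀ δ, Γ.adj β δ → Γ.Cl δ := by
    intro δ hδ
    apply Cl_of_ty hcl
    rw [Γ.ty_adj hα, Γ.ty_adj hδ]
  have sqs : ∀ δ ε, Γ.adj β δ → Γ.adj β ε → ∀ d ∈ Γ.Q δ ⊓ Γ.Q β, ∃ c ∈ Γ.Q ε ⊓ Γ.Q β, c ^ 2 = d ^ 2 := by
    intro δ ε hδ hε d hd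
    by_cases e : δ = ε
    · subst e; exact ⟨d, hd, rfl⟩
    · obtain ⟨x, hx, y, hy, _, _, hxE, _, hxy⟩ := key δ ε hδ hε e
      obtain ⟨c, hc, hcε, hc2⟩ := closed_two_sq F hm hδ hε hx hxE hy hxy hd
      exact ⟨c, mem_inf.mpr ⟨hcε, (mem_inf.mp hc).2⟩, hc2⟩
  set N : V → Subgroup G := fun δ => closure ((fun d => d ^ 2) '' ((Γ.Q δ ⊓ Γ.Q β : Subgroup G) : Set G)) with hN
  have hNN : ∀ δ ε, Γ.adj β δ → Γ.adj β ε → N δ = N ε := by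
    have h1 : ∀ δ ε, Γ.adj β δ → Γ.adj β ε → N δ ≤ N ε := by
      intro δ ε hδ hε
      apply Subgroup.closure_mono
      rintro _ ⟨d, hd, rfl⟩
      obtain ⟨c, hc, hc2⟩ := sqs δ ε hδ hε d hd
      exact ⟨c, hc, hc2⟩
    intro δ ε hδ hε
    exact le_antisymm (h1 δ ε hδ hε) (h1 ε δ hε hδ)
  have hconj : ∀ (g : G) (D : Subgroup G), (Subgroup.closure ((fun d => d ^ 2) '' (D : Set G))).map (MulAut.conj g).toMonoidHom =
      Subgroup.closure ((fun d => d ^ 2) '' ((cj g D : Subgroup G) : Set G)) := by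
    intro g D
    rw [MonoidHom.map_closure]
    congr 1
    ext x
    constructor
    · rintro ⟨_, ⟨d, hd, rfl⟩, rfl⟩
      exact ⟨(MulAut.conj g).toMonoidHom d, ⟨d, hd, rfl⟩, (map_pow _ _ _).symm⟩
    · rintro ⟨_, ⟨d, hd, rfl⟩, rfl⟩
      exact ⟨d ^ 2, ⟨d, hd, rfl⟩, map_pow _ _ _⟩
  have hNle : N α ≤ Γ.Q α ⊓ Γ.Q β := by
    rw [hN, closure_le]
    rintro _ ⟨d, hd, rfl⟩
    exact pow_mem hd 2
  have hNbot : N α = ⊥ := by
    apply F.faith hα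
    · rw [ed_comm]
      exact hNle.trans (inf_le_left.trans (Q_le_ed (Γ.symm hα)))
    · intro g hg
      apply mem_normalizer_of_map_conj_eq
      have hgβ : g • β = β := hg
      have hg1 : Γ.adj β (g • α) := by
        have := Γ.adj_smul g hα
        rwa [hgβ] at this
      have h1 : (N α).map (MulAut.conj g).toMonoidHom = N (g • α) := by
        rw [hN, hconj]
        have h2 : cj g (Γ.Q α ⊓ Γ.Q β) = Γ.Q (g • α) ⊓ Γ.Q β := by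
          rw [cj, map_inf _ _ _ (MulAut.conj g).injective]
          have e1 : (Γ.Q α).map (MulAut.conj g).toMonoidHom = Γ.Q (g • α) := (Q_smul g α).symm
          have e2 : (Γ.Q β).map (MulAut.conj g).toMonoidHom = Γ.Q β := by
            have := Q_smul (Γ := Γ) g β
            rw [hgβ] at this
            exact this.symm
          rw [e1, e2]
        rw [h2]
      rw [h1]
      exact hNN _ _ hg1 hα
    · intro g hg
      apply mem_normalizer_of_map_conj_eq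
      show (N α).map (MulAut.conj g).toMonoidHom = N α
      rw [hN, hconj]
      have h2 : cj g (Γ.Q α ⊓ Γ.Q β) = Γ.Q α ⊓ Γ.Q β := map_conj_eq_of_mem (hcl.norm_D F (Γ.symm hα) hg)
      rw [h2]
  have hexp : ∀ δ, Γ.adj β δ → ∀ d ∈ Γ.Q δ ⊓ Γ.Q β, d ^ 2 = 1 := by
    intro δ hδ d hd
    have h1 : d ^ 2 ∈ N δ := Subgroup.subset_closure ⟨d, hd, rfl⟩
    rw [hNN δ α hδ hα, hNbot, mem_bot] at h1
    exact h1
  obtain ⟨ζ, hζ, hζα, hζγ, _⟩ := exists_third hα hγ hne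
  obtain ⟨x, hx, y, hy, hxQ, hyQ, hxE, hyE, hxy⟩ := key α γ hα hγ hne
  have hxζ : x ∉ Γ.Q ζ := fun e => CR γ ζ hγ hζ (Ne.symm hζγ) (Z_le_of_mem F (Γ.symm hγ) hx hxE (hEQ γ ζ hγ hζ) e)
  have hyζ : y ∉ Γ.Q ζ := fun e => CR α ζ hα hζ (Ne.symm hζα) (Z_le_of_mem F (Γ.symm hα) hy hyE (hEQ α ζ hα hζ) e)
  have hxβ : x ∈ Γ.Q β := hm.adj_le le_rfl (Γ.symm hγ) hx
  have hyβ : y ∈ Γ.Q β := hm.adj_le le_rfl (Γ.symm hα) hy
  have h1 : x * y ∈ Γ.Q ζ := by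
    apply mul_mem_Q (Γ.symm hζ) _ hxζ _ hyζ
    · rw [ed_comm]; exact Q_le_ed hζ hxβ
    · rw [ed_comm]; exact Q_le_ed hζ hyβ
  have h2 := hexp ζ hζ (x * y) (mem_inf.mpr ⟨h1, mul_mem hxβ hyβ⟩)
  have hx2 : x * x = 1 := by
    have := F.sq γ x hx
    rwa [pow_two] at this
  have hy2 : y * y = 1 := by
    have := F.sq α y hy
    rwa [pow_two] at this
  apply hxy
  rw [pow_two] at h2
  have h3 : x * y = (x * y)⁻¹ := eq_inv_of_mul_eq_one_left h2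
  rw [mul_inv_rev, inv_eq_of_mul_eq_one_left hx2, inv_eq_of_mul_eq_one_left hy2] at h3
  exact h3

/-! ### the open case -/

section opentwo

variable (F : Fx Γ) (hm : MinB Γ 2) (hRB : ∀ {δ ε : V}, Γ.adj δ ε → Γ.R δ ε = Γ.B ε)
  (CR : ∀ β δ ε : V, Γ.adj β δ → Γ.adj β ε → δ ≠ ε → ¬ Γ.Z δ ≤ Γ.Q ε)
include F hRB

theorem B_le_Z_nb {δ ε : V} (h : Γ.adj δ ε) : Γ.B δ ≤ Γ.Z ε := by
  rw [← hRB (Γ.symm h)]; exact R_le_Z _ _

theorem not_mem_ZE_of_B {a b c : V} (hab : Γ.adj b a) (hbc : Γ.adj b c) (hne : a ≠ c) {r : G} (hr : r ∈ Γ.B a)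
    (hr1 : r ≠ 1) : r ∉ ZE G b c := by
  intro hmem
  have h1 : ed G b c ≤ centralizer (zpowers r : Set G) := by
    rw [le_centralizer_iff, zpowers_le]
    exact ZE_cent b c hmem
  have h2 : ed G b a ≤ centralizer (zpowers r : Set G) := by
    rw [le_centralizer_iff, zpowers_le]
    rw [← hRB hab] at hr
    exact F.Rcent hab hr
  obtain ⟨y, hy, hyQ⟩ := F.swap hbc
  have h3 : st G b ≤ centralizer (zpowers r : Set G) := by
    apply st_le_of_move F hab h2 (x := y) (h1 hy) hy.1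
    exact smul_ne_of_not_mem_Q hbc hab hne hy hyQ
  have h4 : r ∈ Γ.B b := by
    refine mem_inf.mpr ⟨B_le_Z_nb F hRB (Γ.symm hab) hr, ?_⟩
    rw [le_centralizer_iff, zpowers_le] at h3
    exact h3
  have h5 : r ∈ Γ.B b ⊓ Γ.B a := mem_inf.mpr ⟨h4, hr⟩
  rw [B_inf_B F hab, mem_bot] at h5
  exact hr1 h5

include hm CR

theorem comm_four {a b c d e : V} (hab : Γ.adj b a) (hbc : Γ.adj b c) (hcd : Γ.adj c d) (hde : Γ.adj d e)
    (hac : a ≠ c) (hbd : b ≠ d) (hce : c ≠ e) {r s : G} (hr : r ∈ Γ.B a) (hr1 : r ≠ 1) (hs : s ∈ Γ.B e) (hs1 : s ≠ 1) :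
    ⁅r, s⁆ ∈ Γ.B c ∧ ⁅r, s⁆ ≠ 1 := by
  have hrZ : r ∈ Γ.Z b := B_le_Z_nb F hRB (Γ.symm hab) hr
  have hsZ : s ∈ Γ.Z d := B_le_Z_nb F hRB (Γ.symm hde) hs
  have hrE := not_mem_ZE_of_B F hRB hab hbc hac hr hr1
  have hsE := not_mem_ZE_of_B F hRB hde (Γ.symm hcd) (Ne.symm hce) hs hs1
  have hsc : s ∈ Γ.Q c := hm.adj_le le_rfl (Γ.symm hcd) hsZ
  refine ⟨?_, ?_⟩
  · rw [← hRB hbc]
    apply commutator_mem_commutator hrZ
    rw [ed_comm]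
    exact Q_le_ed (Γ.symm hbc) hsc
  · intro h1
    rw [commutatorElement_eq_one_iff_mul_comm] at h1
    -- `s` centralizes `Z b`
    have h2 : s ∈ Γ.Q b := mem_Q_of_comm F (Γ.symm hbc) hsc hrZ (by exact hrE) h1
    apply CR c b d (Γ.symm hbc) hcd hbd
    intro w hw
    have hwc : w ∈ Γ.Q c := hm.adj_le le_rfl hbc hw
    apply mem_Q_of_comm F hcd hwc hsZ (by exact hsE)
    exact (mem_centralizer_iff.mp (F.QZ b h2) w hw).symm

theorem pow_four {v₀ v₁ v₂ v₃ v₄ v₅ : V} (h01 : Γ.adj v₀ v₁) (h12 : Γ.adj v₁ v₂) (h23 : Γ.adj v₂ v₃)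
    (h34 : Γ.adj v₃ v₄) (h45 : Γ.adj v₄ v₅) (n02 : v₀ ≠ v₂) (n13 : v₁ ≠ v₃) (n24 : v₂ ≠ v₄) (n35 : v₃ ≠ v₅)
    {r s : G} (hr : r ∈ Γ.B v₀) (hr1 : r ≠ 1) (hs : s ∈ Γ.B v₅) (hs1 : s ≠ 1) :
    (r * s) ^ 4 ∈ Γ.B v₂ ∧ (r * s) ^ 4 ≠ 1 := by
  have hsZ : s ∈ Γ.Z v₄ := B_le_Z_nb F hRB (Γ.symm h45) hs
  have hs3 : s ∈ Γ.Q v₃ := hm.adj_le le_rfl (Γ.symm h34) hsZ
  have e2 : s • v₂ = v₂ := hs3.2 v₂ (Γ.symm h23)
  have e3 : s • v₃ = v₃ := hs3.1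
  have hsE := not_mem_ZE_of_B F hRB h45 (Γ.symm h34) (Ne.symm n35) hs hs1
  have e1 : s • v₁ ≠ v₁ := by
    intro e
    have h1 : s ∈ Γ.Q v₂ := mem_Q_of_two (Γ.symm h12) h23 n13 e2 e e3
    apply CR v₃ v₂ v₄ (Γ.symm h23) h34 n24
    intro w hw
    apply mem_Q_of_comm F h34 (hm.adj_le le_rfl h23 hw) hsZ (by exact hsE)
    exact (mem_centralizer_iff.mp (F.QZ v₂ h1) w hw).symm
  have ha1 : Γ.adj v₂ (s • v₁) := by
    have := Γ.adj_smul s (Γ.symm h12)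
    rwa [e2] at this
  have ha2 : Γ.adj (s • v₁) (s • v₀) := Γ.adj_smul s (Γ.symm h01)
  have hne : v₂ ≠ s • v₀ := by
    intro e
    have e' : s • v₂ = s • v₀ := by rw [e2]; exact e
    exact n02 (MulAction.injective s e').symm
  have hr' : s * r * s⁻¹ ∈ Γ.B (s • v₀) := by
    rw [B_smul]; exact ⟨r, hr, rfl⟩
  have hr1' : s * r * s⁻¹ ≠ 1 := by
    intro e
    apply hr1
    have : r = s⁻¹ * (s * r * s⁻¹) * s := by group
    rw [this, e]; group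
  obtain ⟨h1, h2⟩ := comm_four F hm hRB CR (Γ.symm h01) h12 ha1 ha2 n02 (Ne.symm e1) hne hr hr1 hr' hr1'
  have hs2 : s * s = 1 := by
    have := F.sq v₅ s (B_le_Z _ hs)
    rwa [pow_two] at this
  have hr2 : r * r = 1 := by
    have := F.sq v₀ r (B_le_Z _ hr)
    rwa [pow_two] at this
  have hsi : s⁻¹ = s := inv_eq_of_mul_eq_one_left hs2
  have hri : r⁻¹ = r := inv_eq_of_mul_eq_one_left hr2
  have e : ⁅r, s * r * s⁻¹⁆ = (r * s) ^ 4 := by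
    rw [commutatorElement_def, mul_inv_rev, mul_inv_rev, inv_inv, hri, hsi]
    simp only [pow_succ, pow_zero, one_mul]
    simp only [mul_assoc]
  rw [← e]
  exact ⟨h1, h2⟩

theorem open_two_aux (v₀ : V) : False := by
  obtain ⟨v₁, _, _, _, _, _, h01'⟩ := Γ.nb3 v₀
  have h01 : Γ.adj v₀ v₁ := (h01' v₁).mpr (Or.inl rfl)
  obtain ⟨v₂, h12, n02⟩ := exists_other (Γ.symm h01)
  obtain ⟨v₃, h23, n13⟩ := exists_other (Γ.symm h12)
  obtain ⟨v₄, h34, n24⟩ := exists_other (Γ.symm h23)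
  obtain ⟨v₅, h45, n35⟩ := exists_other (Γ.symm h34)
  have hBc : ∀ {δ ε : V}, Γ.adj δ ε → Nat.card (Γ.B ε) = 2 := fun h => by rw [← hRB h]; exact F.Rcard h
  obtain ⟨r, hr, hr1⟩ := exists_gen_of_card_two (hBc (Γ.symm h01))
  obtain ⟨s, hs, hs1⟩ := exists_gen_of_card_two (hBc h45)
  obtain ⟨h1, h2⟩ := pow_four F hm hRB CR h01 h12 h23 h34 h45 (Ne.symm n02) (Ne.symm n13) (Ne.symm n24) (Ne.symm n35) hr hr1 hs hs1
  obtain ⟨h3, h4⟩ := pow_four F hm hRB CR (Γ.symm h45) (Γ.symm h34) (Γ.symm h23) (Γ.symm h12) (Γ.symm h01) n35 n24 n13 n02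
    hs hs1 hr hr1
  have hs2 : s * s = 1 := by
    have := F.sq v₅ s (B_le_Z _ hs)
    rwa [pow_two] at this
  have hr2 : r * r = 1 := by
    have := F.sq v₀ r (B_le_Z _ hr)
    rwa [pow_two] at this
  have h5 : s * r = (r * s)⁻¹ := by
    rw [mul_inv_rev, inv_eq_of_mul_eq_one_left hs2, inv_eq_of_mul_eq_one_left hr2]
  rw [h5, inv_pow] at h3
  have h6 : (r * s) ^ 4 ∈ Γ.B v₂ ⊓ Γ.B v₃ := mem_inf.mpr ⟨h1, inv_mem_iff.mp h3⟩
  rw [B_inf_B F h23, mem_bot] at h6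
  exact h2 h6

end opentwo

end Cfsg.Agent.Lib.AmG
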