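import Cfsg.Agent.Lib.AmG5

/-!
The main theorem: `Z_δ ≰ Q_ε` for adjacent vertices.
-/

set_option autoImplicit false
set_option linter.unusedSectionVars false

namespace Cfsg.Agent.Lib.AmG

open Subgroup commutatorElement Cfsg.Agent.Lib.LocBase Cfsg.Agent.Lib.TvStruct Cfsg.Agent.Lib.ZN
open scoped Pointwise

universe u v

variable {G : Type u} [Group G] [Finite G] {V : Type v} [MulAction G V] {Γ : Gr G V}

open Gr

theorem bool_aux : ∀ x y : Bool, ¬ x = y → (!y) = x := by decide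

theorem bool_aux' : ∀ x y : Bool, ¬ x = y → (!x) = y := by decide

/-- (R central) depends only on the type -/
theorem R_eq_B_of_ty (F : Fx Γ) {δ ε δ' ε' : V} (h : Γ.adj δ ε) (h' : Γ.adj δ' ε') (ht : Γ.ty ε = Γ.ty ε')
    (hR : Γ.R δ ε = Γ.B ε) : Γ.R δ' ε' = Γ.B ε' := by
  obtain ⟨g, rfl, rfl⟩ := edge_trans (Γ.symm h) (Γ.symm h') ht
  rw [R_smul, B_smul, hR]

theorem open_two (F : Fx Γ) (hm : MinB Γ 2) {p : ℤ → V} {a : ℤ} (h : Crit Γ 2 p a) (hncl : ¬ Γ.Cl (p a)) : False := by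
  have hα := h.adjα F hm (by norm_num)
  have hω := h.adjω F hm (by norm_num)
  have e1 : a + 2 - 1 = a + 1 := by omega
  rw [e1] at hω
  -- the neighbours of `p a`
  obtain ⟨ε, hε, hεne⟩ := exists_other hα
  have hnle : ¬ Γ.Z ε ≤ Γ.Q (p (a + 2 - 1)) := fun hle => hncl (h.caseA F hm (by norm_num) hε hεne hle)
  obtain ⟨p', h1, h2, h3⟩ := h.shift F hm le_rfl hε hnle
  rw [e1] at hnle
  have hs1 := h.star F hm le_rfl hα
  have hs2 := h1.star F hm le_rfl (ε := p a) (by rw [h2]; exact Γ.symm hε)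
  rw [h2] at hs2
  have hB1 : Γ.R (p (a + 1)) (p a) = Γ.B (p a) := R_eq_B F (Γ.symm hα) hs1
  have hB2 : Γ.R (p a) ε = Γ.B ε := R_eq_B F hε hs2
  have hRB : ∀ {δ ε : V}, Γ.adj δ ε → Γ.R δ ε = Γ.B ε := by
    intro δ ζ hδζ
    by_cases ht : Γ.ty ζ = Γ.ty (p a)
    · exact R_eq_B_of_ty F (Γ.symm hα) hδζ ht.symm hB1
    · apply R_eq_B_of_ty F hε hδζ _ hB2
      rw [Γ.ty_adj hε]
      exact bool_aux _ _ ht
  have hne : p a ≠ p (a + 2) := by
    intro e
    apply h.crit
    rw [← e]; exact F.ZQ _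
  -- all walks of length two are critical
  have hCR1 : ∀ δ ζ : V, Γ.adj (p (a + 1)) δ → Γ.adj (p (a + 1)) ζ → δ ≠ ζ → ¬ Γ.Z δ ≤ Γ.Q ζ := fun δ ζ hδ hζ hne' =>
    crit_all F (Γ.symm hα) (Γ.symm hω) hne h.crit hδ hζ hne'
  have hCR2 : ∀ δ ζ : V, Γ.adj (p a) δ → Γ.adj (p a) ζ → δ ≠ ζ → ¬ Γ.Z δ ≤ Γ.Q ζ := fun δ ζ hδ hζ hne' =>
    crit_all F hε hα hεne hnle hδ hζ hne'
  have CR : ∀ β δ ζ : V, Γ.adj β δ → Γ.adj β ζ → δ ≠ ζ → ¬ Γ.Z δ ≤ Γ.Q ζ := by
    have key : ∀ β₀ : V, (∀ δ ζ : V, Γ.adj β₀ δ → Γ.adj β₀ ζ → δ ≠ ζ → ¬ Γ.Z δ ≤ Γ.Q ζ) → ∀ β, Γ.ty β₀ = Γ.ty β →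
        ∀ δ ζ : V, Γ.adj β δ → Γ.adj β ζ → δ ≠ ζ → ¬ Γ.Z δ ≤ Γ.Q ζ := by
      intro β₀ h₀ β ht δ ζ hδ hζ hne'
      obtain ⟨g, rfl⟩ := Γ.trans_ty ht
      have h5 : Γ.adj β₀ (g⁻¹ • δ) := by
        have := Γ.adj_smul g⁻¹ hδ
        rwa [inv_smul_smul] at this
      have h6 : Γ.adj β₀ (g⁻¹ • ζ) := by
        have := Γ.adj_smul g⁻¹ hζ
        rwa [inv_smul_smul] at this
      have h7 := h₀ _ _ h5 h6 (fun e => hne' (MulAction.injective g⁻¹ e))
      intro hle
      apply h7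
      rw [Z_smul, Q_smul]
      exact (map_conj_le_map_conj g⁻¹).mpr hle
    intro β δ ζ hδ hζ hne'
    by_cases ht : Γ.ty (p a) = Γ.ty β
    · exact key (p a) hCR2 β ht δ ζ hδ hζ hne'
    · apply key (p (a + 1)) hCR1 β _ δ ζ hδ hζ hne'
      rw [Γ.ty_adj hα]
      exact bool_aux' _ _ ht
  exact open_two_aux F hm hRB CR (p a)

section ge

variable (F : Fx Γ) {b : ℤ} (hm : MinB Γ b) (hb : 3 ≤ b) {p : ℤ → V} {a : ℤ} (h : Crit Γ b p a)
include F hm hb h

theorem open_ge (hncl : ¬ Γ.Cl (p a)) : False := by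
  have hb2 : 2 ≤ b := by omega
  have hα := h.adjα F hm (by omega)
  have hncl' := h.notcl' F hm hb2
  have key : ∀ ε, Γ.adj (p a) ε → ε ≠ p (a + 1) → Γ.B ε = Γ.B (p (a + b - 3)) := by
    intro ε hε hne
    have hnle : ¬ Γ.Z ε ≤ Γ.Q (p (a + b - 1)) := fun hle => hncl (h.caseA F hm (by omega) hε hne hle)
    obtain ⟨p', h1, h2, h3⟩ := h.shift F hm hb2 hε hnle
    have hadj : Γ.adj ε (p a) := Γ.symm hε
    obtain ⟨ζ, hζ, hζne⟩ := exists_other hadj
    have e1 : a - 1 + 1 = a := by omega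
    have hζne' : ζ ≠ p' (a - 1 + 1) := by
      rw [e1, h3 a le_rfl]; exact hζne
    have hζadj : Γ.adj (p' (a - 1)) ζ := by rw [h2]; exact hζ
    have hncl'' : ¬ Γ.Cl (p' (a - 1)) := by
      rw [h2]
      intro hcl
      apply hncl'
      apply Cl_of_ty hcl
      rw [Γ.ty_adj hε, Γ.ty_adj hα]
    have hnle' : ¬ Γ.Z ζ ≤ Γ.Q (p' (a - 1 + b - 1)) := fun hle =>
      hncl'' (h1.caseA F hm (by omega) hζadj hζne' hle)
    have h4 := h1.shift_R F hm hb2 hζadj hnle'
    have e2 : a - 1 + b - 1 = a + b - 2 := by omega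
    have e3 : a - 1 + b - 2 = a + b - 3 := by omega
    rw [e2, e3, h2, h3 _ (by omega), h3 _ (by omega)] at h4
    have hadj2 : Γ.adj (p (a + b - 3)) (p (a + b - 2)) := by
      have := h.walk (a + b - 3) (by omega) (by omega)
      have e : a + b - 3 + 1 = a + b - 2 := by omega
      rwa [e] at this
    rw [off_B F hm hb hζ, off_B F hm hb hadj2] at h4
    exact h4
  obtain ⟨c, d, hc, hd, hcd, hall⟩ := nbrs hα
  have hcadj : Γ.adj (p a) c := (hall c).mpr (Or.inr (Or.inl rfl))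
  have hdadj : Γ.adj (p a) d := (hall d).mpr (Or.inr (Or.inr rfl))
  have h1 : Γ.B c = Γ.B d := (key c hcadj hc).trans (key d hdadj hd).symm
  rw [← off_B F hm hb (Γ.symm hcadj), ← off_B F hm hb (Γ.symm hdadj)] at h1
  exact hcd (F.Rne hcadj hdadj h1)

end ge

section closed

variable (F : Fx Γ) {b : ℤ} (hm : MinB Γ b) (hb : 4 ≤ b) {p : ℤ → V} {a : ℤ} (h : Crit Γ b p a)
  (hcl : Γ.Cl (p a))
include F hm hb h

theorem closed_ge_P {ε : V} (hε : Γ.adj (p a) ε) (hne : ε ≠ p (a + 1))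
    (hP : ∀ ζ, Γ.adj ε ζ → Γ.Z ζ ≤ Γ.Q (p (a + b - 2))) : ∃ ζ, Γ.adj ε ζ ∧ ¬ Γ.Z ζ ≤ Γ.Q (p (a + b - 1)) := by
  by_contra hcon
  push Not at hcon
  set VV := ⨆ ζ : {ζ : V // Γ.adj ε ζ}, Γ.Z ζ.1 with hVV
  have hle : ∀ ζ, Γ.adj ε ζ → Γ.Z ζ ≤ VV := fun ζ hζ =>
    le_iSup (fun ζ : {ζ : V // Γ.adj ε ζ} => Γ.Z ζ.1) ⟨ζ, hζ⟩
  have hα := h.adjα F hm (by omega)
  have hZα : Γ.Z (p a) ≤ VV := hle _ (Γ.symm hε)
  have hst : st G ε ≤ normalizer (VV : Set G) := by
    intro g hg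
    have hgε : g • ε = ε := hg
    apply mem_normalizer_of_map_conj_le
    rw [hVV, Subgroup.map_iSup]
    apply iSup_le
    rintro ⟨ζ, hζ⟩
    have h1 : Γ.adj ε (g • ζ) := by
      have := Γ.adj_smul g hζ
      rwa [hgε] at this
    have h2 : (Γ.Z ζ).map (MulAut.conj g).toMonoidHom = Γ.Z (g • ζ) := (Z_smul g ζ).symm
    show (Γ.Z ζ).map (MulAut.conj g).toMonoidHom ≤ _
    rw [h2]
    exact hle _ h1
  have hst2 : st G (p a) ≤ normalizer (VV : Set G) := by
    obtain ⟨x, hxZ, hx, hxQ⟩ := h.exists_x F hm (by omega)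
    apply st_le_of_move F hε (x := x)
    · exact inf_le_right.trans hst
    · apply mem_normalizer_of_map_conj_le
      rw [hVV, Subgroup.map_iSup]
      apply iSup_le
      rintro ⟨ζ, hζ⟩
      rintro _ ⟨z, hz, rfl⟩
      show x * z * x⁻¹ ∈ VV
      have e : x * z * x⁻¹ = ⁅x, z⁆ * z := by rw [commutatorElement_def]; group
      rw [e]
      refine mul_mem (hZα ?_) (hle ζ hζ hz)
      have h1 : ⁅x, z⁆ ∈ Γ.R (p (a + b)) (p (a + b - 1)) := by
        apply commutator_mem_commutator hxZ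
        rw [ed_comm]
        exact Q_le_ed (Γ.symm (h.adjω F hm (by omega))) (hcon ζ hζ hz)
      rw [← h.R_eq F hm (by omega)] at h1
      exact R_le_Z _ _ h1
    · exact hx.1
    · exact smul_ne_of_not_mem_Q hα hε hne hx hxQ
  have hbot : VV = ⊥ := by
    apply F.faith hε
    · apply iSup_le
      rintro ⟨ζ, hζ⟩
      rw [ed_comm]
      exact (hm.adj_le (by omega) (Γ.symm hζ)).trans (Q_le_ed (Γ.symm hε))
    · exact hst2
    · exact hst
  exact Z_ne_bot F (p a) (le_bot_iff.mp (hbot ▸ hZα))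

include hcl

theorem closed_ge_cases {ε : V} (hε : Γ.adj (p a) ε) (hne : ε ≠ p (a + 1)) :
    Γ.B ε = Γ.B (p (a + b - 2)) ∨ Γ.B ε = Γ.B (p (a + b - 3)) := by
  have hα := h.adjα F hm (by omega)
  have hadj2 : Γ.adj (p (a + b - 3)) (p (a + b - 2)) := by
    have := h.walk (a + b - 3) (by omega) (by omega)
    have e : a + b - 3 + 1 = a + b - 2 := by omega
    rwa [e] at this
  have hadj1 : Γ.adj (p (a + b - 2)) (p (a + b - 1)) := by
    have := h.walk (a + b - 2) (by omega) (by omega)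
    have e : a + b - 2 + 1 = a + b - 1 := by omega
    rwa [e] at this
  by_cases hP : ∀ ζ, Γ.adj ε ζ → Γ.Z ζ ≤ Γ.Q (p (a + b - 2))
  · left
    obtain ⟨ζ, hζ, hζn⟩ := closed_ge_P F hm hb h hε hne hP
    have h1 : ⁅Γ.Z ζ, Γ.Z (p (a + b - 1))⁆ ≠ ⊥ := by
      intro hbot
      rw [commutator_eq_bot_iff_le_centralizer] at hbot
      apply hζn
      refine le_trans ?_ (F.CZ (Γ.symm hadj1))
      refine le_inf ?_ hbot
      rw [ed_comm]
      exact (hP ζ hζ).trans (Q_le_ed hadj1)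
    have h2 : ⁅Γ.Z ζ, Γ.Z (p (a + b - 1))⁆ = Γ.R (p (a + b - 1)) (p (a + b - 2)) := by
      apply eq_R F (Γ.symm hadj1) _ h1
      rw [commutator_comm]
      refine commutator_mono le_rfl ?_
      rw [ed_comm]
      exact (hP ζ hζ).trans (Q_le_ed hadj1)
    have h3 : Γ.Z (p (a + b - 1)) ≤ Γ.Q ε := by
      have h4 : Γ.Z (p (a + b - 1)) ≤ Γ.Q (p a) ⊓ Γ.Q (p (a + 1)) := by
        refine le_inf ?_ ?_
        · exact hm.rev (p := p) (a := a) (c := a + b - 1) (h.walk.sub le_rfl (by omega)) (by omega) (by omega)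
        · exact hm.rev (p := p) (a := a + 1) (c := a + b - 1) (h.walk.sub (by omega) (by omega)) (by omega) (by omega)
      rw [hcl.D_eq F hα hε] at h4
      exact h4.trans inf_le_right
    have h5 : ⁅Γ.Z ζ, Γ.Z (p (a + b - 1))⁆ = Γ.R ζ ε := by
      apply eq_R F (Γ.symm hζ) _ h1
      refine commutator_mono le_rfl ?_
      rw [ed_comm]
      exact h3.trans (Q_le_ed hζ)
    rw [← off_B F hm (by omega) hζ, ← h5, h2, off_B F hm (by omega) hadj1]
  · right
    push Not at hP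
    obtain ⟨ζ, hζ, hζn⟩ := hP
    -- the walk `ζ, ε, p a, …, p (a+b-2)`
    obtain ⟨p₁, h1, h2, h3⟩ := ext_left (h.walk.sub le_rfl (by omega : a + b - 2 ≤ a + b)) hε
    have hζ' : Γ.adj (p₁ (a - 1)) ζ := by rw [h2]; exact hζ
    obtain ⟨p₂, h4, h5, h6⟩ := ext_left h1 hζ'
    have e1 : a - 1 - 1 + b = a + b - 2 := by omega
    have e2 : a + b - 2 - 1 = a + b - 3 := by omega
    have e3 : a - 1 - 1 + 1 = a - 1 := by omega
    have hp2 : p₂ (a + b - 2) = p (a + b - 2) := by rw [h6 _ (by omega), h3 _ (by omega)]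
    have hp3 : p₂ (a + b - 3) = p (a + b - 3) := by rw [h6 _ (by omega), h3 _ (by omega)]
    have hcrit : Crit Γ b p₂ (a - 1 - 1) := by
      refine ⟨?_, ?_⟩
      · rw [e1]; exact h4
      · rw [e1, h5, hp2]; exact hζn
    have h7 := hcrit.R_eq F hm (by omega)
    rw [e1, e2, e3, h5, h6 _ le_rfl, h2, hp2, hp3, off_B F hm (by omega) hζ, off_B F hm (by omega) hadj2] at h7
    exact h7

theorem closed_ge (hty : Γ.ty (p (a + b - 2)) = Γ.ty (p a)) : False := by
  have hα := h.adjα F hm (by omega)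
  have hω := h.adjω F hm (by omega)
  have hadj2 : Γ.adj (p (a + b - 3)) (p (a + b - 2)) := by
    have := h.walk (a + b - 3) (by omega) (by omega)
    have e : a + b - 3 + 1 = a + b - 2 := by omega
    rwa [e] at this
  have hadj1 : Γ.adj (p (a + b - 2)) (p (a + b - 1)) := by
    have := h.walk (a + b - 2) (by omega) (by omega)
    have e : a + b - 2 + 1 = a + b - 1 := by omega
    rwa [e] at this
  have hBc : ∀ {δ ε : V}, Γ.adj δ ε → Nat.card (Γ.B ε) = 2 := fun h' => by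
    rw [← off_B F hm (by omega) (Γ.symm h')]; exact F.Rcard h'
  obtain ⟨c, d, hc, hd, hcd, hall⟩ := nbrs hα
  have hcadj : Γ.adj (p a) c := (hall c).mpr (Or.inr (Or.inl rfl))
  have hdadj : Γ.adj (p a) d := (hall d).mpr (Or.inr (Or.inr rfl))
  have hBcd : Γ.B c ≠ Γ.B d := by
    intro e
    rw [← off_B F hm (by omega) (Γ.symm hcadj), ← off_B F hm (by omega) (Γ.symm hdadj)] at e
    exact hcd (F.Rne hcadj hdadj e)
  -- `B c ⊔ B d = W`
  have hcW : Γ.B c ≤ Γ.W (p a) := by rw [← off_B F hm (by omega) (Γ.symm hcadj)]; exact R_le_W _ _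
  have hdW : Γ.B d ≤ Γ.W (p a) := by rw [← off_B F hm (by omega) (Γ.symm hdadj)]; exact R_le_W _ _
  have hWeq : Γ.B c ⊔ Γ.B d = Γ.W (p a) := by
    apply Subgroup.eq_of_le_of_card_ge (sup_le hcW hdW)
    rw [F.Wcard]
    have hlt : Γ.B c < Γ.B c ⊔ Γ.B d := by
      refine lt_of_le_of_ne le_sup_left ?_
      intro e
      apply hBcd
      have h1 : Γ.B d ≤ Γ.B c := by rw [e]; exact le_sup_right
      exact (Subgroup.eq_of_le_of_card_ge h1 (by rw [hBc hcadj, hBc hdadj])).symm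
    have h2 := two_mul_card_le hlt
    rw [hBc hcadj] at h2
    omega
  have hB1 : Γ.B (p (a + 1)) ≤ Γ.B c ⊔ Γ.B d := by
    rw [hWeq, ← off_B F hm (by omega) (Γ.symm hα)]; exact R_le_W _ _
  -- labels
  have hcases_c := closed_ge_cases F hm hb h hcl hcadj hc
  have hcases_d := closed_ge_cases F hm hb h hcl hdadj hd
  have hsup : Γ.B c ⊔ Γ.B d = Γ.B (p (a + b - 2)) ⊔ Γ.B (p (a + b - 3)) := by
    rcases hcases_c with e1 | e1 <;> rcases hcases_d with e2 | e2
    · exact absurd (e1.trans e2.symm) hBcd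
    · rw [e1, e2]
    · rw [e1, e2, sup_comm]
    · exact absurd (e1.trans e2.symm) hBcd
  have hR := h.R_eq F hm (by omega)
  rw [off_B F hm (by omega) (Γ.symm hα), off_B F hm (by omega) (Γ.symm hω)] at hR
  rw [hR, hsup] at hB1
  -- now look at the vertex `p (a+b-2)`
  have hne13 : p (a + b - 1) ≠ p (a + b - 3) := by
    classical
    intro e
    apply h.crit
    have h1 := hm (fun i => if i ≤ a + b - 3 then p i else p (a + b)) a (a + b - 2) (by
      intro i hi hi'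
      by_cases e4 : i = a + b - 3
      · subst e4
        have : ¬ (a + b - 3 + 1 ≤ a + b - 3) := by omega
        simp only [le_refl, if_true, this, if_false]
        rw [← e]
        exact Γ.symm hω
      · have h5 : i ≤ a + b - 3 := by omega
        have h6 : i + 1 ≤ a + b - 3 := by omega
        simp only [h5, if_true, h6]
        exact h.walk i hi (by omega)) (by omega) (by omega)
    have e5 : ¬ (a + b - 2 ≤ a + b - 3) := by omega
    have e6 : a ≤ a + b - 3 := by omega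
    simp only [e5, if_false, e6, if_true] at h1
    exact h1
  have hB1c : Nat.card (Γ.B (p (a + b - 1))) = 2 := hBc hadj1
  obtain ⟨r, hr, hr1⟩ := exists_gen_of_card_two hB1c
  have hcomm : Γ.B (p (a + b - 3)) ≤ normalizer (Γ.B (p (a + b - 2)) : Set G) := by
    refine le_trans ?_ (centralizer_le_normalizer _)
    rw [le_centralizer_iff]
    have h1 : Γ.B (p (a + b - 3)) ≤ Γ.Z (p (a + b - 2)) := by
      rw [← off_B F hm (by omega) hadj2]; exact R_le_Z _ _
    exact (B_le_Z _).trans (((F.ZQ _).trans (F.QZ _)).trans (centralizer_le h1))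
  obtain ⟨s, hs, t, ht, hst⟩ := exists_mul_of_mem_sup_of_le hcomm (hB1 hr)
  have hrW : r ∈ Γ.W (p (a + b - 2)) := by
    have : Γ.B (p (a + b - 1)) ≤ Γ.W (p (a + b - 2)) := by
      rw [← off_B F hm (by omega) (Γ.symm hadj1)]; exact R_le_W _ _
    exact this hr
  have htW : t ∈ Γ.W (p (a + b - 2)) := by
    have : Γ.B (p (a + b - 3)) ≤ Γ.W (p (a + b - 2)) := by
      rw [← off_B F hm (by omega) hadj2]; exact R_le_W _ _
    exact this ht
  have hsW : s ∈ Γ.W (p (a + b - 2)) := by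
    have : s = r * t⁻¹ := by rw [hst]; group
    rw [this]; exact mul_mem hrW (inv_mem htW)
  have hs1 : s ∈ Γ.W (p (a + b - 2)) ⊓ centralizer (st G (p (a + b - 2)) : Set G) :=
    mem_inf.mpr ⟨hsW, (mem_inf.mp (show s ∈ Γ.Z _ ⊓ centralizer _ from hs)).2⟩
  rw [F.WB, mem_bot] at hs1
  rw [hs1, one_mul] at hst
  have h7 : Γ.B (p (a + b - 1)) = Γ.B (p (a + b - 3)) := by
    by_contra hne'
    have h8 := inf_eq_bot_of_card_two hB1c (hBc (Γ.symm hadj2)) hne'
    have h9 : r ∈ Γ.B (p (a + b - 1)) ⊓ Γ.B (p (a + b - 3)) := mem_inf.mpr ⟨hr, by rw [hst]; exact ht⟩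
    rw [h8, mem_bot] at h9
    exact hr1 h9
  rw [← off_B F hm (by omega) (Γ.symm hadj1), ← off_B F hm (by omega) hadj2] at h7
  exact hne13 (F.Rne hadj1 (Γ.symm hadj2) h7)

end closed

theorem ty_walk {p : ℤ → V} {a c : ℤ} (h : IsW Γ p a c) (n : ℕ) (hn : a + n ≤ c) :
    Γ.ty (p (a + n)) = (if Even n then Γ.ty (p a) else !Γ.ty (p a)) := by
  induction n with
  | zero => simp
  | succ n ih =>
    have h1 := ih (by push_cast at hn; omega)
    have h2 := Γ.ty_adj (h (a + n) (by omega) (by push_cast at hn; omega))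
    have e : a + (↑(n + 1) : ℤ) = a + n + 1 := by push_cast; ring
    rw [e, h2, h1]
    by_cases hev : Even n
    · have : ¬ Even (n + 1) := by rw [Nat.even_add_one]; simpa using hev
      simp [hev, this]
    · have : Even (n + 1) := by rw [Nat.even_add_one]; exact hev
      simp [hev, this]

/-- existence of some walk with `Z ≰ Q` -/
theorem exists_walk (F : Fx Γ) {α β : V} (h : Γ.adj α β) :
    ∃ (n : ℕ) (p : ℤ → V) (a : ℤ), IsW Γ p a (a + n) ∧ ¬ Γ.Z (p a) ≤ Γ.Q (p (a + n)) := by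
  classical
  by_contra hcon
  push Not at hcon
  -- vertices reachable from `α`
  set S : Set V := {ζ | ∃ (n : ℕ) (p : ℤ → V), IsW Γ p 0 n ∧ p 0 = ζ ∧ p n = α} with hS
  have hαS : α ∈ S := ⟨0, fun _ => α, fun i hi hi' => by simp at hi'; omega, rfl, rfl⟩
  have hstep : ∀ ζ ∈ S, ∀ ξ, Γ.adj ζ ξ → ξ ∈ S := by
    rintro ζ ⟨n, p, hp, hp0, hpn⟩ ξ hξ
    obtain ⟨p', h1, h2, h3⟩ := ext_left hp (ε := ξ) (by rw [hp0]; exact hξ)
    refine ⟨n + 1, fun i => p' (i - 1), ?_, ?_, ?_⟩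
    · intro i hi hi'
      have := h1 (i - 1) (by omega) (by push_cast at hi'; omega)
      have e : i - 1 + 1 = i + 1 - 1 := by omega
      rw [e] at this
      exact this
    · show p' (0 - 1) = ξ
      exact h2
    · show p' (((n + 1 : ℕ) : ℤ) - 1) = α
      have e : ((n + 1 : ℕ) : ℤ) - 1 = n := by push_cast; ring
      rw [e, h3 n (by omega), hpn]
  have hβS : β ∈ S := hstep α hαS β h
  set N := ⨅ ζ : S, Γ.Q (ζ : V) with hN
  have hZN : Γ.Z α ≤ N := by
    apply le_iInf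
    rintro ⟨ζ, n, p, hp, hp0, hpn⟩
    have h1 := (hp.rev (n : ℤ))
    have e1 : (n : ℤ) - n = 0 := by ring
    have e2 : (n : ℤ) - 0 = 0 + n := by ring
    rw [e1, e2] at h1
    have h2 := hcon n (fun i => p (n - i)) 0 h1
    have e3 : (n : ℤ) - (0 + n) = 0 := by ring
    simp only [sub_zero, e3, hp0, hpn] at h2
    exact h2
  have hnorm : ∀ x ∈ S, st G x ≤ normalizer (N : Set G) := by
    intro x hx g hg
    have hgx : g • x = x := hg
    have hgS : ∀ ζ ∈ S, ∀ k : G, k • x = x → k • ζ ∈ S := by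
      intro ζ hζ k hk
      obtain ⟨n, p, hp, hp0, hpn⟩ := hζ
      obtain ⟨m, q, hq, hq0, hqm⟩ := hx
      -- walk from `ζ` to `α` to `x`; apply `k`; then from `x` to `α`
      have key : ∀ (j : ℕ), j ≤ n → k • (p ((n : ℤ) - j)) ∈ S := by
        intro j
        induction j with
        | zero =>
          intro _
          -- `k • α`
          have hq' : ∀ (i : ℕ), i ≤ m → k • q i ∈ S := by
            intro i
            induction i with
            | zero =>
              intro _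
              show k • q ((0 : ℕ) : ℤ) ∈ S
              have : q ((0 : ℕ) : ℤ) = x := by simpa using hq0
              rw [this, hk]; exact ⟨m, q, hq, hq0, hqm⟩
            | succ i ih =>
              intro hi
              have h1 := ih (by omega)
              have h2 := hq i (by omega) (by omega)
              have h3 := Γ.adj_smul k h2
              have e : ((i + 1 : ℕ) : ℤ) = i + 1 := by push_cast; ring
              rw [e]
              exact hstep _ h1 _ h3
          have h1 := hq' m le_rfl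
          rw [hqm] at h1
          have e : (n : ℤ) - ((0 : ℕ) : ℤ) = n := by simp
          rw [e, hpn]; exact h1
        | succ j ih =>
          intro hj
          have h1 := ih (by omega)
          have h2 := hp ((n : ℤ) - (j + 1 : ℕ)) (by push_cast; omega) (by push_cast; omega)
          have e : (n : ℤ) - ((j + 1 : ℕ) : ℤ) + 1 = n - j := by push_cast; ring
          rw [e] at h2
          exact hstep _ h1 _ (Γ.adj_smul k (Γ.symm h2))
      have h1 := key n le_rfl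
      have e : (n : ℤ) - (n : ℕ) = 0 := by simp
      rw [e, hp0] at h1
      exact h1
    apply mem_normalizer_of_map_conj_le
    apply le_iInf
    rintro ⟨ζ, hζ⟩
    have h1 : g⁻¹ • ζ ∈ S := hgS ζ hζ g⁻¹ (by rw [inv_smul_eq_iff, hgx])
    have h2 : N ≤ Γ.Q (g⁻¹ • ζ) := iInf_le (fun ζ : S => Γ.Q (ζ : V)) ⟨g⁻¹ • ζ, h1⟩
    have h3 := Subgroup.map_mono (f := (MulAut.conj g).toMonoidHom) h2
    have h4 : (Γ.Q (g⁻¹ • ζ)).map (MulAut.conj g).toMonoidHom = Γ.Q ζ := by
      have := Q_smul (Γ := Γ) g (g⁻¹ • ζ)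
      rw [smul_inv_smul] at this
      exact this.symm
    rwa [h4] at h3
  have hbot : N = ⊥ := by
    apply F.faith h
    · exact (iInf_le (fun ζ : S => Γ.Q (ζ : V)) ⟨α, hαS⟩).trans (Q_le_ed h)
    · exact hnorm α hαS
    · exact hnorm β hβS
  exact Z_ne_bot F α (le_bot_iff.mp (hbot ▸ hZN))

/-- The main theorem -/
theorem main (F : Fx Γ) {α β : V} (h : Γ.adj α β) : ∃ δ ε : V, Γ.adj δ ε ∧ ¬ Γ.Z δ ≤ Γ.Q ε := by
  classical
  by_contra hcon
  push Not at hcon
  have hex := exists_walk F h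
  set n := Nat.find hex with hn
  obtain ⟨p, a, hw, hc⟩ := Nat.find_spec hex
  rw [← hn] at hw hc
  have hm : MinB Γ (n : ℤ) := by
    intro q x y hq hxy hlt
    by_contra hnle
    obtain ⟨k, hk⟩ := Int.eq_ofNat_of_zero_le (show 0 ≤ y - x by omega)
    have hk' : k < n := by omega
    apply Nat.find_min hex (m := k) (by rw [← hn]; exact hk')
    have e : x + (k : ℤ) = y := by omega
    exact ⟨q, x, by rw [e]; exact hq, by rw [e]; exact hnle⟩
  have hcrit : Crit Γ (n : ℤ) p a := ⟨hw, hc⟩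
  have hn0 : n ≠ 0 := by
    intro e
    rw [e] at hc
    apply hc
    simpa using F.ZQ (p a)
  have hn1 : n ≠ 1 := by
    intro e
    rw [e] at hc hw
    apply hc
    have := hw a le_rfl (by simp)
    simpa using hcon _ _ this
  have hb2 : (2 : ℤ) ≤ n := by omega
  by_cases hcl : Γ.Cl (p a)
  · -- `n` is even
    have h1 := hcrit.notcl F hm hb2
    have hev : Even n := by
      by_contra hodd
      apply h1
      apply Cl_of_ty hcl
      have h2 := ty_walk hw (n - 1) (by omega)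
      have hev' : Even (n - 1) := by
        rw [Nat.not_even_iff_odd] at hodd
        obtain ⟨k, hk⟩ := hodd
        exact ⟨k, by omega⟩
      rw [if_pos hev'] at h2
      have e : a + ((n - 1 : ℕ) : ℤ) = a + n - 1 := by omega
      rw [e] at h2
      exact h2.symm
    by_cases hn2 : n = 2
    · have hm' : MinB Γ 2 := by
        have : (n : ℤ) = 2 := by omega
        rwa [this] at hm
      have hα := hcrit.adjα F hm (by omega)
      have hω := hcrit.adjω F hm (by omega)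
      have e1 : a + (n : ℤ) = a + 2 := by omega
      have e2 : a + (n : ℤ) - 1 = a + 1 := by omega
      rw [e2, e1] at hω
      rw [e1] at hc
      refine closed_two F hm' (Γ.symm hα) (Γ.symm hω) ?_ hc hcl
      intro e
      apply hc
      rw [← e]; exact F.ZQ _
    · have hn4 : (4 : ℤ) ≤ n := by
        obtain ⟨k, hk⟩ := hev
        omega
      apply closed_ge F hm hn4 hcrit hcl
      have h2 := ty_walk hw (n - 2) (by omega)
      have hev' : Even (n - 2) := by
        obtain ⟨k, hk⟩ := hev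
        exact ⟨k - 1, by omega⟩
      rw [if_pos hev'] at h2
      have e : a + ((n - 2 : ℕ) : ℤ) = a + n - 2 := by omega
      rwa [e] at h2
  · by_cases hn2 : n = 2
    · have e : (n : ℤ) = 2 := by omega
      rw [e] at hm hcrit
      exact open_two F hm hcrit hcl
    · exact open_ge F hm (by omega) hcrit hcl

end Cfsg.Agent.Lib.AmG
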