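import Cfsg.Agent.Lib.ZNX2

/-!
Kurzweil–Stellmacher 12.1: `⟨J(T)^L⟩` normalizes all `J(T)`-components of `L`; `N_G(K) = N_G(W_K)`.
-/

set_option autoImplicit false
set_option linter.unusedSectionVars false

namespace Cfsg.Agent.Lib.ZN

open Subgroup commutatorElement Cfsg.Agent.Lib.LocBase Cfsg.Agent.Lib.TvTransfer Cfsg.Agent.Lib.TvStruct
open scoped Pointwise

universe u

variable {G : Type u} [Group G]

theorem commuting_key {Γ : Type*} [Group Γ] {c k s : Γ} {a n : ℕ} (hck : Commute c k) (hcs : Commute c s)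
    (h : s * k * s⁻¹ = c * k) (hs : s ^ (2 ^ a) = 1) (hk : k ^ n = 1) (hn : Odd n) : c = 1 := by
  have h1 : ∀ m : ℕ, s ^ m * k * (s ^ m)⁻¹ = c ^ m * k := by
    intro m
    induction m with
    | zero => simp
    | succ m ih =>
      calc s ^ (m + 1) * k * (s ^ (m + 1))⁻¹ = s * (s ^ m * k * (s ^ m)⁻¹) * s⁻¹ := by rw [pow_succ']; group
        _ = s * (c ^ m * k) * s⁻¹ := by rw [ih]
        _ = (s * c ^ m * s⁻¹) * (s * k * s⁻¹) := by group
        _ = c ^ m * (c * k) := by rw [h, ← (hcs.pow_left m).eq]; group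
        _ = _ := by rw [pow_succ, mul_assoc]
  have h2 := h1 (2 ^ a)
  rw [hs] at h2
  have h3 : c ^ (2 ^ a) = 1 := by
    have : (1 : Γ) * k * 1⁻¹ = k := by simp
    rw [this] at h2
    exact mul_right_cancel (h2.symm.trans (one_mul k).symm)
  have h4 : c ^ n = 1 := by
    have h5 : (s * k * s⁻¹) ^ n = 1 := by rw [conj_pow, hk]; group
    rw [h, hck.mul_pow, hk, mul_one] at h5
    exact h5
  have h5 : orderOf c ∣ 2 ^ a := orderOf_dvd_of_pow_eq_one h3
  have h6 : orderOf c ∣ n := orderOf_dvd_of_pow_eq_one h4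
  have h7 : Nat.Coprime (2 ^ a) n := Nat.Coprime.pow_left a (Nat.coprime_two_left.mpr hn)
  have h8 : orderOf c = 1 := Nat.eq_one_of_dvd_coprimes h7 h5 h6
  exact orderOf_eq_one_iff.mp h8

/-- the same modulo a subgroup `Q` -/
theorem mem_of_commuting_key {Q : Subgroup G} {c k s : G} {a n : ℕ} (hcN : c ∈ normalizer (Q : Set G))
    (hkN : k ∈ normalizer (Q : Set G)) (hsN : s ∈ normalizer (Q : Set G)) (hck : ⁅c, k⁆ ∈ Q) (hcs : ⁅c, s⁆ ∈ Q)
    (h : s * k * s⁻¹ = c * k) (hs : s ^ (2 ^ a) = 1) (hk : k ^ n = 1) (hn : Odd n) : c ∈ Q := by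
  set N := normalizer (Q : Set G) with hN
  have hQn : (Q.subgroupOf N).Normal := normal_subgroupOf_of_le_normalizer le_rfl
  let π : ↥N →* ↥N ⧸ Q.subgroupOf N := QuotientGroup.mk' _
  have hmem : ∀ x : ↥N, π x = 1 ↔ (x : G) ∈ Q := by
    intro x
    rw [← MonoidHom.mem_ker, QuotientGroup.ker_mk', mem_subgroupOf]
  have key := commuting_key (Γ := ↥N ⧸ Q.subgroupOf N) (c := π ⟨c, hcN⟩) (k := π ⟨k, hkN⟩) (s := π ⟨s, hsN⟩)
    (a := a) (n := n) ?_ ?_ ?_ ?_ ?_ hn
  · exact (hmem ⟨c, hcN⟩).mp key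
  · rw [commute_iff_eq, ← commutatorElement_eq_one_iff_mul_comm, ← map_commutatorElement, hmem]
    exact hck
  · rw [commute_iff_eq, ← commutatorElement_eq_one_iff_mul_comm, ← map_commutatorElement, hmem]
    exact hcs
  · rw [← map_mul, ← map_inv, ← map_mul, ← map_mul]
    congr 1
    exact Subtype.ext h
  · rw [← map_pow]
    have : (⟨s, hsN⟩ : ↥N) ^ 2 ^ a = 1 := Subtype.ext hs
    rw [this, map_one]
  · rw [← map_pow]
    have : (⟨k, hkN⟩ : ↥N) ^ n = 1 := Subtype.ext hk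
    rw [this, map_one]

section fin
variable [Finite G]

section comp

variable {T L K : Subgroup G} (h : LH T L) (hZN : ZNHyp G) (hc : CL3 T K) (hKL : K ≤ L)
include h hZN hc hKL

theorem LH.comp_inf_CL : K ⊓ CL T L = Cfsg.pCoreOf 2 K := by
  have h1 : Cfsg.pCoreOf 2 K ≤ K ⊓ CL T L :=
    le_inf (pCoreOf_le K) ((h.comp_core_le hZN hc hKL).trans h.core_le_CL)
  have h2 := Subgroup.relIndex_dvd_of_le_left K h1
  rw [hc.idx] at h2
  have h3 : (K ⊓ CL T L).relIndex K ≠ 1 := by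
    intro h3
    exact h.not_le_CL hZN hc hKL ((relIndex_eq_one.mp h3).trans inf_le_right)
  have h4 := eq_of_dvd_three h2 h3
  symm
  apply Subgroup.eq_of_le_of_card_ge h1
  have h5 := SubgroupTools.card_mul_relIndex_of_le (inf_le_left : K ⊓ CL T L ≤ K)
  have h6 := SubgroupTools.card_mul_relIndex_of_le (pCoreOf_le (p := 2) K)
  rw [h4, ← h6, hc.idx] at h5
  omega

theorem LH.commutator_comp_CL : ⁅K, CL T L⁆ ≤ Cfsg.pCoreOf 2 L := by
  refine le_trans ?_ (h.comp_core_le hZN hc hKL)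
  rw [← h.comp_inf_CL hZN hc hKL]
  exact le_inf (commutator_le_left_of_le (h.CL_le_normalizer_comp hZN hc hKL))
    (commutator_le_right_of_le (hKL.trans (le_normalizer_CL T L)))

/-- F6 -/
theorem LH.conj_J_le_normalizer {x : G} (hx : x ∈ L) : cj x (JJ T) ≤ normalizer (K : Set G) := by
  obtain ⟨_, t, htJ, htv, hD⟩ := h.comp_exists hZN hc hKL
  set A := h.act hZN with hA
  have S := A.setup
  have hx' := h.conj hx
  have hJ := hx'.JJ_le_closure hZN
  rw [VL_conj hx] at hJ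
  rw [JJ_conj]
  refine hJ.trans (sup_le ?_ (inf_le_right.trans (h.core_le_normalizer_comp hZN hc hKL)))
  rw [closure_le]
  rintro s ⟨hsJ, hsv⟩
  have hsT : s ∈ cj x T := JJ_le _ hsJ
  have hsL : s ∈ L := hx'.syl.le hsT
  have htH : psi A.norm t ∈ HH A.norm := ⟨_, rfl⟩
  have hsH : psi A.norm ⟨s, hsL⟩ ∈ HH A.norm := ⟨_, rfl⟩
  have htv' := (isTv_psi_iff A.norm t).mpr htv
  have hsv' := (isTv_psi_iff A.norm ⟨s, hsL⟩).mpr hsv
  show s ∈ normalizer (K : Set G)
  by_cases he : Dt (RR A.norm) (psi A.norm ⟨s, hsL⟩) = Dt (RR A.norm) (psi A.norm t)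
  · have h1 := S.mem_of_eq hsH hsv' htH htv' he
    rw [← hD] at h1
    have h2 : img A.norm K ⊔ zpowers (psi A.norm t) ≤ img A.norm (K ⊔ zpowers (t : G)) := by
      refine sup_le (img_mono le_sup_left) ?_
      rw [zpowers_le]
      exact psi_mem_img A.norm (mem_sup_right (mem_zpowers _))
    have h3 : K ⊔ zpowers (t : G) ≤ L := sup_le hKL (by rw [zpowers_le]; exact t.2)
    have h4 : s ∈ pre A.norm (img A.norm (K ⊔ zpowers (t : G))) := mem_pre.mpr ⟨hsL, h2 h1⟩
    rw [pre_img A.norm h3] at h4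
    have h5 : (K ⊔ zpowers (t : G)) ⊔ (L ⊓ centralizer (VL T L : Set G)) ≤ normalizer (K : Set G) := by
      refine sup_le (sup_le le_normalizer ?_) (h.CL_le_normalizer_comp hZN hc hKL)
      rw [zpowers_le]
      exact hc.le_normalizer htJ
    exact h5 h4
  · have h1 := S.Dt_le_centralizer_of_ne hsH hsv' htH htv' he
    rw [← hD] at h1
    -- `s` centralizes `K` modulo `C_L(V)`
    have hcomm : ∀ k ∈ K, s * k * s⁻¹ * k⁻¹ ∈ CL T L := by
      intro k hk
      have h2 := mem_centralizer_singleton_iff.mp (h1 (psi_mem_img A.norm (x := ⟨k, hKL hk⟩) hk))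
      refine mem_inf.mpr ⟨mul_mem (mul_mem (mul_mem hsL (hKL hk)) (inv_mem hsL)) (inv_mem (hKL hk)), ?_⟩
      have h3 : psi A.norm (⟨s, hsL⟩ * ⟨k, hKL hk⟩ * ⟨s, hsL⟩⁻¹ * ⟨k, hKL hk⟩⁻¹) = 1 := by
        rw [map_mul, map_mul, map_mul, ← h2, map_inv, map_inv]; group
      exact (psi_eq_one_iff A.norm _).mp h3
    obtain ⟨a, ha⟩ := hx'.syl.pgroup ⟨s, hsT⟩
    have ha' : s ^ 2 ^ a = 1 := congrArg Subtype.val ha
    have hQN : L ≤ normalizer (Cfsg.pCoreOf 2 L : Set G) := le_normalizer_pCoreOf 2 L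
    have hodd : ∀ k ∈ K, (orderOf k).Coprime 2 → s * k * s⁻¹ ∈ K ⊔ Cfsg.pCoreOf 2 L := by
      intro k hk hko
      set c := s * k * s⁻¹ * k⁻¹ with hcdef
      have hcC := hcomm k hk
      have hcQ : c ∈ Cfsg.pCoreOf 2 L := by
        apply mem_of_commuting_key (k := k) (s := s) (a := a) (n := orderOf k) (hQN hcC.1) (hQN (hKL hk)) (hQN hsL)
        · rw [← inv_mem_iff, commutatorElement_inv]
          exact h.commutator_comp_CL hZN hc hKL (commutator_mem_commutator hk hcC)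
        · exact h.commutator_CL_le hZN hx (commutator_mem_commutator hcC hsT)
        · group
        · exact ha'
        · exact pow_orderOf_eq_one k
        · exact Nat.coprime_two_right.mp hko
      have : s * k * s⁻¹ = c * k := by rw [hcdef]; group
      rw [this]
      exact mul_mem (mem_sup_right hcQ) (mem_sup_left hk)
    have h2 : s ∈ normalizer ((K ⊔ Cfsg.pCoreOf 2 L : Subgroup G) : Set G) := by
      apply mem_normalizer_of_map_conj_le
      rw [Subgroup.map_sup, map_conj_eq_of_mem (hQN hsL)]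
      refine sup_le ?_ le_sup_right
      have h3 : K = closure {x | x ∈ K ∧ (orderOf x).Coprime 2} := hc.res.symm
      conv_lhs => rw [h3]
      rw [MonoidHom.map_closure, closure_le]
      rintro _ ⟨k, ⟨hk, hko⟩, rfl⟩
      exact hodd k hk hko
    have h3 := normalizer_le_normalizer_pRes 2 _ h2
    rwa [h.pRes_sup_core hZN hc hKL] at h3

end comp

/-- `E = ⟨J(T)^L⟩` -/
def EL (T L : Subgroup G) : Subgroup G := ⨆ x : ↥L, cj (x : G) (JJ T)

theorem JJ_le_EL (T L : Subgroup G) : JJ T ≤ EL T L := by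
  have h1 := le_iSup (fun x : ↥L => cj (x : G) (JJ T)) 1
  have h2 : cj ((1 : ↥L) : G) (JJ T) = JJ T := map_conj_one _
  rw [h2] at h1
  exact h1

theorem conj_JJ_le_EL {T L : Subgroup G} {x : G} (hx : x ∈ L) : cj x (JJ T) ≤ EL T L :=
  le_iSup (fun x : ↥L => cj (x : G) (JJ T)) ⟨x, hx⟩

theorem le_normalizer_EL (T L : Subgroup G) : L ≤ normalizer (EL T L : Set G) := by
  intro g hg
  have key : ∀ g ∈ L, (EL T L).map (MulAut.conj g).toMonoidHom ≤ EL T L := by
    intro g hg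
    unfold EL
    rw [Subgroup.map_iSup]
    apply iSup_le
    intro x
    rw [← map_conj_mul]
    exact le_iSup (fun x : ↥L => cj (x : G) (JJ T)) ⟨g * x, mul_mem hg x.2⟩
  apply mem_normalizer_of_map_conj_eq
  apply le_antisymm (key g hg)
  have h1 := key g⁻¹ (inv_mem hg)
  rw [map_conj_le_iff, inv_inv] at h1
  exact h1

theorem EL_le {T L : Subgroup G} (h : JJ T ≤ L) : EL T L ≤ L := by
  apply iSup_le
  intro x
  exact (Subgroup.map_mono h).trans (map_conj_eq_of_mem (le_normalizer x.2)).le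

/-- Frattini: `L = ⟨J(T)^L⟩ N_L(J(T))`. -/
theorem frattini_EL {T L : Subgroup G} (hT : IsSyl 2 T L) : EL T L ⊔ (L ⊓ normalizer (JJ T : Set G)) = L := by
  have hJL : JJ T ≤ L := (JJ_le T).trans hT.le
  apply le_antisymm (sup_le (EL_le hJL) inf_le_left)
  have h1 : IsSyl 2 (T ⊓ EL T L) (EL T L) := hT.inf_normal (EL_le hJL) (le_normalizer_EL T L)
  have h2 : JJ (T ⊓ EL T L) = JJ T := JJ_eq_of_le inf_le_left (le_inf (JJ_le T) (JJ_le_EL T L))
  have h3 := h1.frattini_sup (EL_le hJL) (le_normalizer_EL T L)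
  refine h3.ge.trans (sup_le_sup_left (inf_le_inf_left _ ?_) _)
  rw [← h2]
  exact normalizer_le_normalizer_JJ _

theorem LH.EL_le_normalizer {T L K : Subgroup G} (h : LH T L) (hZN : ZNHyp G) (hc : CL3 T K) (hKL : K ≤ L) :
    EL T L ≤ normalizer (K : Set G) :=
  iSup_le fun x => h.conj_J_le_normalizer hZN hc hKL x.2

/-- `K ≤ ⟨J(T)^L⟩` -/
theorem CL3.le_EL {T L K : Subgroup G} (hc : CL3 T K) (hKL : K ≤ L) : K ≤ EL T L := by
  refine hc.comm.ge.trans ?_
  refine (commutator_mono hKL (JJ_le_EL T L)).trans ?_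
  exact commutator_le_right_of_le (le_normalizer_EL T L)

/-! ### `IsJComponent` -/

theorem isJComponent_iff {T K : Subgroup G} (hT : IsPGroup 2 T) :
    Cfsg.IsJComponent T K ↔ XFacts (JJ T) K := by
  constructor
  · exact XFacts.of_comp hT
  · intro h
    refine ⟨by rw [closure_odd_eq]; exact h.res, h.comm, h.idx, ?_, h.Wcard, ?_⟩
    · intro S hS hJS
      exact h.max S (isSylowTwoIn_iff.mp hS) hJS
    · intro w hw
      have := (ThompsonJ.elemAb_iff.mp (EA_wOf (K := K))).2 w hw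
      rwa [pow_two] at this

theorem wOf_conj (x : G) (K : Subgroup G) : Cfsg.wOf (cj x K) = cj x (Cfsg.wOf K) := by
  unfold Cfsg.wOf
  rw [pCoreOf_map_conj, ← omegaCenterOf_conj, ← Subgroup.map_commutator]

theorem XFacts.conj {J K : Subgroup G} (h : XFacts J K) (x : G) : XFacts (cj x J) (cj x K) := by
  refine ⟨?_, ?_, ?_, h.Jp.map _, ?_, ?_, ?_⟩
  · rw [← Subgroup.map_commutator, h.comm]
  · rw [← pRes_map_conj, h.res]
  · rw [pCoreOf_map_conj, Subgroup.relIndex_map_map_of_injective _ _ (MulAut.conj x).injective, h.idx]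
  · rw [← JJ_conj, h.JJJ]
  · intro S hS hJS
    have h1 := hS.map_conj x⁻¹
    have h2 : cj x⁻¹ (cj x K ⊔ cj x J) = K ⊔ J := by
      rw [← Subgroup.map_sup]
      show ((K ⊔ J).map _).map _ = _
      rw [← map_conj_mul, inv_mul_cancel, map_conj_one]
    have h3 : J ≤ cj x⁻¹ S := by
      rw [map_conj_le_iff] at hJS
      exact hJS
    have h4 := h.max (cj x⁻¹ S) (by rw [← h2]; exact h1) h3
    rw [← JJ_conj] at h4
    have h5 : cj x (cj x⁻¹ (JJ S)) = JJ S := by
      show ((JJ S).map _).map _ = _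
      rw [← map_conj_mul, mul_inv_cancel, map_conj_one]
    rw [← h5, h4]
  · rw [wOf_conj, card_map_conj, h.Wcard]

/-- 2-local subgroups contain the centralizer of their 2-core. -/
theorem cent_of_twoLocal (hZN : ZNHyp G) {N : Subgroup G} (hN : Cfsg.IsTwoLocal N) :
    centralizer (Cfsg.pCoreOf 2 N : Set G) ≤ Cfsg.pCoreOf 2 N := by
  obtain ⟨P, hP, hP1, rfl⟩ := hN
  have h1 := hZN.char2.2 P hP hP1
  have h2 : P ≤ Cfsg.pCoreOf 2 (normalizer (P : Set G)) := le_pCoreOf le_normalizer le_rfl hP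
  intro x hx
  have hxN : x ∈ normalizer (P : Set G) := centralizer_le_normalizer _ (centralizer_le h2 hx)
  have h3 : (⟨x, hxN⟩ : ↥(normalizer (P : Set G))) ∈
      centralizer (Cfsg.pCore 2 ↥(normalizer (P : Set G)) : Set ↥(normalizer (P : Set G))) := by
    rw [mem_centralizer_iff]
    intro y hy
    apply Subtype.ext
    exact mem_centralizer_iff.mp hx y ⟨y, hy, rfl⟩
  exact ⟨_, h1 h3, rfl⟩

/-- `AA` depends only on `JJ`. -/
theorem AA_eq_of_JJ_eq {T T' : Subgroup G} (e : JJ T = JJ T') : AA T = AA T' := by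
  rw [← AA_JJ T, e, AA_JJ]

theorem XFacts.not_isPGroup {J K : Subgroup G} (h : XFacts J K) : ¬ IsPGroup 2 K := by
  intro hp
  have h3 : K ≤ Cfsg.pCoreOf 2 K := le_pCoreOf_of_pgroup h.idx hp le_rfl
  have h4 := h.idx
  rw [relIndex_eq_one.mpr h3] at h4
  omega

/-- For `K` a component with the Thompson subgroups of Sylow subgroups of `N(W_K)` above `J` equal to `J`. -/
theorem LH_normalizer_wOf (hZN : ZNHyp G) {J K S₁ : Subgroup G} (h : XFacts J K)
    (hS₁ : IsSyl 2 S₁ (normalizer (Cfsg.wOf K : Set G))) (hJ : JJ S₁ = J) :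
    LH S₁ (normalizer (Cfsg.wOf K : Set G)) := by
  have hWp : IsPGroup 2 (Cfsg.wOf K) := ThompsonJ.elemAb_isPGroup EA_wOf
  refine ⟨hS₁, ?_, cent_of_twoLocal hZN ⟨_, hWp, h.W_ne, rfl⟩⟩
  intro hle
  rw [hJ] at hle
  apply h.not_isPGroup
  apply (isPGroup_pCoreOf 2 (normalizer (Cfsg.wOf K : Set G))).to_le
  refine h.comm.ge.trans ((commutator_mono (h.X_norm_W.trans' le_sup_left) hle).trans ?_)
  exact commutator_le_right_of_le (le_normalizer_pCoreOf 2 _)

theorem normalizer_wOf_le (hZN : ZNHyp G) {J K S₁ : Subgroup G} (h : XFacts J K)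
    (hS₁ : IsSyl 2 S₁ (normalizer (Cfsg.wOf K : Set G))) (hJ : JJ S₁ = J) :
    normalizer (Cfsg.wOf K : Set G) ≤ normalizer (K : Set G) := by
  have hLH := LH_normalizer_wOf hZN h hS₁ hJ
  have hKN : K ≤ normalizer (Cfsg.wOf K : Set G) := h.X_norm_W.trans' le_sup_left
  have hc : CL3 S₁ K := ⟨by rw [hJ]; exact h.comm, h.res, h.idx⟩
  have hcomp : Cfsg.IsJComponent S₁ K := (isJComponent_iff hS₁.pgroup).mpr (by rw [hJ]; exact h)
  have hW := hLH.wOf_eq hZN hcomp hKN
  rw [← frattini_EL hS₁]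
  refine sup_le (hLH.EL_le_normalizer hZN hc hKN) ?_
  rintro n ⟨hnN, hnJ⟩
  by_contra hcon
  have hne : K ≠ cj n K := fun e => hcon (mem_normalizer_of_map_conj_eq e.symm)
  have hc' := hc.conj_of_mem hnJ
  have hKL' : cj n K ≤ normalizer (Cfsg.wOf K : Set G) := by
    rw [← map_conj_eq_of_mem (le_normalizer hnN)]
    exact Subgroup.map_mono hKN
  have h1 := hLH.comp_inf hZN hc hKN hc' hKL' hne
  have h2 : cj n (⁅VL S₁ (normalizer (Cfsg.wOf K : Set G)), K⁆) =
      ⁅VL S₁ (normalizer (Cfsg.wOf K : Set G)), cj n K⁆ := by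
    show Subgroup.map _ _ = _
    rw [Subgroup.map_commutator, map_conj_eq_of_mem (le_normalizer_VL _ _ hnN)]
  rw [← h2, ← hW] at h1
  have h3 : cj n (Cfsg.wOf K) = Cfsg.wOf K := map_conj_eq_of_mem hnN
  rw [h3, inf_idem] at h1
  exact h.W_ne h1

end fin

end Cfsg.Agent.Lib.ZN
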