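import Cfsg.Agent.Lib.ZNX

/-!
Kurzweil–Stellmacher 12.1.6: `Z₀ = (Z₀ ∩ Z(X)) × (Z₀ ∩ W)`.
-/

set_option autoImplicit false
set_option linter.unusedSectionVars false

namespace Cfsg.Agent.Lib.ZN

open Subgroup commutatorElement Cfsg.Agent.Lib.LocBase Cfsg.Agent.Lib.TvStruct
open scoped Pointwise

universe u

variable {G : Type u} [Group G]

/-- `U = ⟨Z₀^X⟩` -/
def UX (J K : Subgroup G) : Subgroup G := ⨆ x : ↥(K ⊔ J), cj (x : G) (Cfsg.omegaCenterOf J)

theorem Z₀_le_UX (J K : Subgroup G) : Cfsg.omegaCenterOf J ≤ UX J K := by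
  have h1 := le_iSup (fun x : ↥(K ⊔ J) => cj (x : G) (Cfsg.omegaCenterOf J)) 1
  have h2 : cj ((1 : ↥(K ⊔ J)) : G) (Cfsg.omegaCenterOf J) = Cfsg.omegaCenterOf J := map_conj_one _
  rw [h2] at h1
  exact h1

theorem conj_Z₀_le_UX {J K : Subgroup G} {x : G} (hx : x ∈ K ⊔ J) : cj x (Cfsg.omegaCenterOf J) ≤ UX J K :=
  le_iSup (fun x : ↥(K ⊔ J) => cj (x : G) (Cfsg.omegaCenterOf J)) ⟨x, hx⟩

theorem le_normalizer_UX (J K : Subgroup G) : K ⊔ J ≤ normalizer (UX J K : Set G) := by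
  intro g hg
  have key : ∀ g ∈ K ⊔ J, (UX J K).map (MulAut.conj g).toMonoidHom ≤ UX J K := by
    intro g hg
    unfold UX
    rw [Subgroup.map_iSup]
    apply iSup_le
    intro x
    rw [← map_conj_mul]
    exact le_iSup (fun x : ↥(K ⊔ J) => cj (x : G) (Cfsg.omegaCenterOf J)) ⟨g * x, mul_mem hg x.2⟩
  apply mem_normalizer_of_map_conj_eq
  apply le_antisymm (key g hg)
  have h1 := key g⁻¹ (inv_mem hg)
  rw [map_conj_le_iff, inv_inv] at h1
  exact h1

section X

variable [Finite G] {J K : Subgroup G} (h : XFacts J K)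
include h

theorem XFacts.UX_le {B : Subgroup G} (hB : B ∈ AA (Cfsg.pCoreOf 2 K ⊔ J))
    (hBW : B ≤ centralizer (Cfsg.wOf K : Set G)) : UX J K ≤ B :=
  iSup_le fun x => h.conj_Z₀_le hB hBW x.2

theorem XFacts.exists_B : ∃ B ∈ AA (Cfsg.pCoreOf 2 K ⊔ J), B ≤ centralizer (Cfsg.wOf K : Set G) ∧ Cfsg.wOf K ≤ B := by
  obtain ⟨A, hA, hAW⟩ := h.exists_A
  refine ⟨_, h.B_mem hA hAW, sup_le inf_le_right (ThompsonJ.elemAb_iff.mp EA_wOf).1, le_sup_right⟩

theorem XFacts.EA_UX : EA (UX J K) := by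
  obtain ⟨B, hB, hBW, _⟩ := h.exists_B
  exact ThompsonJ.elemAb_mono hB.2.1 (h.UX_le hB hBW)

theorem XFacts.W_le_UX : Cfsg.wOf K ≤ UX J K := by
  have hKU : K ≤ normalizer ((Cfsg.wOf K ⊓ UX J K : Subgroup G) : Set G) :=
    le_normalizer_inf (le_sup_left.trans h.X_norm_W) (le_sup_left.trans (le_normalizer_UX J K))
  have h1 : Cfsg.wOf K ⊓ centralizer (J : Set G) ≤ Cfsg.wOf K ⊓ UX J K := by
    rw [← h.Z₀_inf_W]
    exact le_inf inf_le_right (inf_le_left.trans (Z₀_le_UX J K))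
  have h2 : ¬ Nat.card (Cfsg.wOf K ⊓ UX J K : Subgroup G) ≤ 2 := by
    intro hle
    have h3 := le_centralizer_of_card_le_two_pRes h.res hKU hle
    have h4 : Cfsg.wOf K ⊓ centralizer (J : Set G) ≤ Cfsg.wOf K ⊓ centralizer (K : Set G) :=
      le_inf inf_le_left (h1.trans h3)
    rw [h.W_inf_centralizer] at h4
    exact h.W_inf_CJ_ne (le_bot_iff.mp h4)
  by_contra hcon
  apply h2
  have h3 : Cfsg.wOf K ⊓ UX J K < Cfsg.wOf K := lt_of_le_of_ne inf_le_left (fun e => hcon (e ▸ inf_le_right))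
  have := two_mul_card_le h3
  rw [h.Wcard] at this
  omega

/-- every `A ∈ 𝒜(S₀)` acts trivially on `U/W` -/
theorem XFacts.commutator_UX_A {A : Subgroup G} (hA : A ∈ AA (Cfsg.pCoreOf 2 K ⊔ J)) :
    ⁅UX J K, A⁆ ≤ Cfsg.wOf K := by
  have hAX : A ≤ K ⊔ J := hA.1.trans h.syl.le
  by_cases hAW : A ≤ centralizer (Cfsg.wOf K : Set G)
  · have h1 : ⁅UX J K, A⁆ = ⊥ := by
      rw [commutator_eq_bot_iff_le_centralizer]
      apply iSup_le
      intro x
      rw [map_conj_le_iff, map_conj_centralizer]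
      refine (omegaCenterOf_le_centralizer J).trans (centralizer_le ?_)
      have h2 := le_JJ (h.conj_mem_AA hA hAW (inv_mem x.2))
      rw [h.JJ_S₀] at h2
      exact h2
    rw [h1]; exact bot_le
  · have hB := h.B_mem hA hAW
    set A₀ := A ⊓ centralizer (Cfsg.wOf K : Set G) with hA₀
    have hBW : A₀ ⊔ Cfsg.wOf K ≤ centralizer (Cfsg.wOf K : Set G) :=
      sup_le inf_le_right (ThompsonJ.elemAb_iff.mp EA_wOf).1
    have hUB := h.UX_le hB hBW
    have hBc := (ThompsonJ.elemAb_iff.mp hB.2.1).1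
    have hA₀U : A₀ ≤ centralizer (UX J K : Set G) := (le_sup_left.trans hBc).trans (centralizer_le hUB)
    have hUA₀ : UX J K ≤ centralizer (A₀ : Set G) := le_centralizer_iff.mp hA₀U
    have h1 := SubgroupTools.card_sup_mul_card_inf (hUA₀.trans (centralizer_le_normalizer _))
    have hEA : EA (A₀ ⊔ UX J K) :=
      ThompsonJ.elemAb_sup (ThompsonJ.elemAb_mono hA.2.1 inf_le_left) h.EA_UX hA₀U
    have h2 := hA.2.2 (A₀ ⊔ UX J K) (sup_le (inf_le_left.trans hA.1) (hUB.trans hB.1)) hEA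
    have h3 := card_le_two_mul_of_pgroup (ThompsonJ.elemAb_isPGroup hA.2.1) h.Wcard (hAX.trans h.X_norm_W)
    rw [← hA₀] at h3
    have h4 : Nat.card (UX J K) ≤ 2 * Nat.card (A₀ ⊓ UX J K : Subgroup G) := by
      have h5 : 0 < Nat.card A₀ := Nat.card_pos
      apply Nat.le_of_mul_le_mul_left _ h5
      rw [← h1]
      calc Nat.card (A₀ ⊔ UX J K : Subgroup G) * Nat.card (A₀ ⊓ UX J K : Subgroup G)
          ≤ (2 * Nat.card A₀) * Nat.card (A₀ ⊓ UX J K : Subgroup G) := Nat.mul_le_mul_right _ (h2.trans h3)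
        _ = _ := by ring
    have hAc := (ThompsonJ.elemAb_iff.mp hA.2.1).1
    have h5 : A₀ ⊓ UX J K ≤ UX J K ⊓ centralizer (A : Set G) :=
      le_inf inf_le_right ((inf_le_left.trans inf_le_left).trans hAc)
    -- `U = (U ∩ C(A)) W`
    set C := UX J K ⊓ centralizer (A : Set G) with hC
    have hCW : C < C ⊔ Cfsg.wOf K := by
      refine lt_of_le_of_ne le_sup_left ?_
      intro e
      apply hAW
      rw [le_centralizer_iff]
      have : Cfsg.wOf K ≤ C := by rw [e]; exact le_sup_right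
      exact this.trans inf_le_right
    have h6 := two_mul_card_le hCW
    have h7 : C ⊔ Cfsg.wOf K ≤ UX J K := sup_le inf_le_left h.W_le_UX
    have h8 : C ⊔ Cfsg.wOf K = UX J K := Subgroup.eq_of_le_of_card_ge h7 (by
      have := card_le_of_le h5
      omega)
    rw [commutator_comm]
    have hAN : A ≤ normalizer (Cfsg.wOf K : Set G) := hAX.trans h.X_norm_W
    rw [← h8]
    apply TvStruct.commutator_sup_le
    · exact (inf_le_left : C ≤ UX J K).trans (hUB.trans (hBW.trans (centralizer_le_normalizer _)))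
    · exact le_normalizer
    · rw [commutator_comm]
      have : ⁅C, A⁆ = ⊥ := by rw [commutator_eq_bot_iff_le_centralizer]; exact inf_le_right
      rw [this]; exact bot_le
    · exact commutator_le_right_of_le hAN

theorem XFacts.commutator_UX_J : ⁅UX J K, J⁆ ≤ Cfsg.wOf K := by
  have h1 : J = closure (⋃ A ∈ AA (Cfsg.pCoreOf 2 K ⊔ J), (A : Set G)) := by
    conv_lhs => rw [← h.JJ_S₀, JJ_eq, ThompsonJ.J, sSup_eq_iSup]
    rw [Subgroup.closure_iUnion]
    congr 1
    ext1 A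
    rw [Subgroup.closure_iUnion]
    congr 1
    ext1 hA
    rw [closure_eq]
  rw [commutator_comm]
  have h2 : ⁅J, UX J K⁆ = ⁅closure (⋃ A ∈ AA (Cfsg.pCoreOf 2 K ⊔ J), (A : Set G)), UX J K⁆ := by rw [← h1]
  rw [h2]
  apply commutator_closure_le
  · rw [← h1]; exact le_sup_right.trans h.X_norm_W
  · intro x hx a ha
    simp only [Set.mem_iUnion] at hx
    obtain ⟨A, hA, hxA⟩ := hx
    rw [← inv_mem_iff, commutatorElement_inv]
    exact h.commutator_UX_A hA (commutator_mem_commutator ha hxA)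

theorem XFacts.commutator_UX : ⁅UX J K, K ⊔ J⁆ ≤ Cfsg.wOf K := by
  have h1 : K ⊔ J = closure (⋃ k : ↥K, (cj (k : G) J : Set G)) := by
    rw [sup_eq_iSup_conj h.comm, Subgroup.closure_iUnion]
    congr 1
    ext1 k
    rw [closure_eq]
  rw [commutator_comm]
  have h2 : ⁅K ⊔ J, UX J K⁆ = ⁅closure (⋃ k : ↥K, (cj (k : G) J : Set G)), UX J K⁆ := by rw [← h1]
  rw [h2]
  apply commutator_closure_le
  · rw [← h1]; exact h.X_norm_W
  · intro x hx a ha
    simp only [Set.mem_iUnion] at hx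
    obtain ⟨k, hxk⟩ := hx
    have hkX : (k : G) ∈ K ⊔ J := mem_sup_left k.2
    rw [← inv_mem_iff, commutatorElement_inv]
    have h2 : ⁅UX J K, cj (k : G) J⁆ ≤ Cfsg.wOf K := by
      rw [← map_conj_eq_of_mem (le_normalizer_UX J K hkX), ← map_conj_eq_of_mem (h.X_norm_W hkX),
        ← Subgroup.map_commutator]
      exact Subgroup.map_mono h.commutator_UX_J
    exact h2 (commutator_mem_commutator ha hxk)

theorem XFacts.UX_eq : UX J K = Cfsg.omegaCenterOf J ⊔ Cfsg.wOf K := by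
  apply le_antisymm
  · apply iSup_le
    intro x
    rintro _ ⟨z, hz, rfl⟩
    show (x : G) * z * (x : G)⁻¹ ∈ _
    have h1 : (x : G) * z * (x : G)⁻¹ = ⁅(x : G), z⁆ * z := by rw [commutatorElement_def]; group
    rw [h1]
    refine mul_mem (mem_sup_right ?_) (mem_sup_left hz)
    rw [← inv_mem_iff, commutatorElement_inv]
    exact h.commutator_UX (commutator_mem_commutator (Z₀_le_UX J K hz) x.2)
  · exact sup_le (Z₀_le_UX J K) h.W_le_UX

theorem XFacts.card_UX : Nat.card (UX J K) = 2 * Nat.card (Cfsg.omegaCenterOf J) := by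
  have hUc := (ThompsonJ.elemAb_iff.mp h.EA_UX).1
  have h1 : Cfsg.wOf K ≤ normalizer (Cfsg.omegaCenterOf J : Set G) :=
    ((h.W_le_UX.trans hUc).trans (centralizer_le (Z₀_le_UX J K))).trans (centralizer_le_normalizer _)
  have h2 := SubgroupTools.card_sup_mul_card_inf h1
  rw [h.card_Z₀_inf_W, h.Wcard, ← h.UX_eq] at h2
  omega

/-- `J` is not normal in `X` -/
theorem XFacts.exists_conj_ne : ∃ d ∈ K ⊔ J, cj d J ≠ J := by
  by_contra hcon
  push Not at hcon
  have h1 : K ⊔ J ≤ normalizer (J : Set G) := fun d hd => mem_normalizer_of_map_conj_eq (hcon d hd)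
  have h2 : K ≤ J := by
    refine h.comm.ge.trans ?_
    exact commutator_le_right_of_le (le_sup_left.trans h1)
  have h3 : K ≤ Cfsg.pCoreOf 2 K := le_pCoreOf_of_pgroup h.idx (h.Jp.to_le h2) le_rfl
  have h4 := h.idx
  rw [relIndex_eq_one.mpr h3] at h4
  omega

/-- two different conjugates of `J` generate `X` -/
theorem XFacts.generate {d : G} (hd : d ∈ K ⊔ J) (hne : cj d J ≠ J) : J ⊔ cj d J = K ⊔ J := by
  set X := K ⊔ J with hX
  set Y := J ⊔ cj d J with hY
  set P₀ := X ⊓ centralizer (Cfsg.wOf K : Set G) with hP₀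
  set S₀ := Cfsg.pCoreOf 2 K ⊔ J with hS₀
  have hJX : J ≤ X := le_sup_right
  have hJdX : cj d J ≤ X := by
    rw [← map_conj_eq_of_mem (le_normalizer hd)]; exact Subgroup.map_mono hJX
  have hYX : Y ≤ X := sup_le hJX hJdX
  have hS₀J : S₀ ≤ normalizer (J : Set G) := by
    have h1 := normalizer_le_normalizer_JJ S₀
    rw [h.JJ_S₀] at h1
    exact le_normalizer.trans h1
  have hP₀J : ∀ x ∈ X, P₀ ≤ normalizer (cj x J : Set G) := by
    intro x hx
    have h1 : X ≤ normalizer (P₀ : Set G) := h.P₀_norm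
    rw [← map_conj_normalizer, ← map_conj_eq_of_mem (h1 hx)]
    exact Subgroup.map_mono (h.P₀_le.trans hS₀J)
  have hP₀Y : P₀ ≤ normalizer (Y : Set G) := by
    have h1 := hP₀J 1 (one_mem X)
    rw [show cj (1 : G) J = J from map_conj_one J] at h1
    exact le_normalizer_sup h1 (hP₀J d hd)
  -- `J P₀ = S₀`
  have hJP : J ⊔ P₀ = S₀ := by
    have h1 : J ⊔ P₀ ≤ S₀ := sup_le le_sup_right h.P₀_le
    have h2 : P₀ < J ⊔ P₀ := lt_of_le_of_ne le_sup_right (by
      intro e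
      apply h.not_J_le
      refine (le_sup_left : J ≤ J ⊔ P₀).trans ?_
      rw [← e]; exact inf_le_right)
    have h3 := two_mul_card_le h2
    exact Subgroup.eq_of_le_of_card_ge h1 (by rw [h.card_S₀]; exact h3)
  have hS₀Y : S₀ ≤ Y ⊔ P₀ := by rw [← hJP]; exact sup_le_sup_right le_sup_left _
  have hYP : Y ⊔ P₀ = X := by
    have hle : Y ⊔ P₀ ≤ X := sup_le hYX inf_le_left
    have h1 : S₀.relIndex X = 3 := by
      have h1 := SubgroupTools.card_mul_relIndex_of_le h.syl.le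
      rw [h.card_X, mul_comm] at h1
      exact Nat.eq_of_mul_eq_mul_right Nat.card_pos h1
    have h2 := Subgroup.relIndex_dvd_of_le_left X hS₀Y
    rw [h1] at h2
    apply le_antisymm hle
    rw [← relIndex_eq_one]
    by_contra hne1
    have h3 := eq_of_dvd_three h2 hne1
    have h4 : S₀ = Y ⊔ P₀ := by
      apply Subgroup.eq_of_le_of_card_ge hS₀Y
      have h5 := SubgroupTools.card_mul_relIndex_of_le hle
      have h6 : Nat.card X = 3 * Nat.card S₀ := h.card_X
      rw [h3, h6] at h5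
      omega
    -- then `J^d ≤ S₀`
    have h5 : cj d J ≤ S₀ := by rw [h4]; exact le_sup_right.trans le_sup_left
    apply hne
    have h6 : IsSyl 2 (cj d S₀) X := by
      have := h.syl.map_conj d
      rwa [map_conj_eq_of_mem (le_normalizer hd)] at this
    have h7 : JJ (cj d S₀) = cj d J := by rw [← JJ_conj, h.JJ_S₀]
    have h8 := JJ_eq_of_isSyl h6 h.syl (by rw [h7]; exact h5)
    rw [h7, h.JJ_S₀] at h8
    exact h8
  -- `Y` is normal in `X`
  have hXY : X ≤ normalizer (Y : Set G) := by rw [← hYP]; exact sup_le le_normalizer hP₀Y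
  apply le_antisymm hYX
  rw [hX, sup_eq_iSup_conj h.comm]
  apply iSup_le
  intro k
  have hk : (k : G) ∈ X := mem_sup_left k.2
  rw [← map_conj_eq_of_mem (hXY hk)]
  exact Subgroup.map_mono le_sup_left

/-- Kurzweil–Stellmacher 12.1.6 -/
theorem XFacts.Z₀_decomp :
    (Cfsg.omegaCenterOf J ⊓ ((K ⊔ J) ⊓ centralizer ((K ⊔ J : Subgroup G) : Set G))) ⊔
      (Cfsg.omegaCenterOf J ⊓ Cfsg.wOf K) = Cfsg.omegaCenterOf J := by
  obtain ⟨d, hd, hne⟩ := h.exists_conj_ne
  have hgen := h.generate hd hne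
  set Z₀ := Cfsg.omegaCenterOf J with hZ₀
  have hUc := (ThompsonJ.elemAb_iff.mp h.EA_UX).1
  have hZU : Z₀ ≤ UX J K := Z₀_le_UX J K
  have hZdU : cj d Z₀ ≤ UX J K := conj_Z₀_le_UX hd
  set Z₁ := Z₀ ⊓ cj d Z₀ with hZ₁
  have hZ₁C : Z₁ ≤ centralizer ((K ⊔ J : Subgroup G) : Set G) := by
    rw [← hgen, le_centralizer_iff]
    refine sup_le ?_ ?_
    · rw [le_centralizer_iff]
      exact inf_le_left.trans (omegaCenterOf_le_centralizer J)
    · rw [le_centralizer_iff]
      refine inf_le_right.trans ?_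
      rw [← map_conj_centralizer]
      exact Subgroup.map_mono (omegaCenterOf_le_centralizer J)
  have hZ₁X : Z₁ ≤ K ⊔ J := inf_le_left.trans ((omegaCenterOf_le J).trans le_sup_right)
  have hZ₁' : Z₁ ≤ Z₀ ⊓ ((K ⊔ J) ⊓ centralizer ((K ⊔ J : Subgroup G) : Set G)) :=
    le_inf inf_le_left (le_inf hZ₁X hZ₁C)
  have hcard : Nat.card Z₀ ≤ 2 * Nat.card Z₁ := by
    have h1 := SubgroupTools.card_sup_mul_card_inf
      (((hZdU.trans hUc).trans (centralizer_le hZU)).trans (centralizer_le_normalizer _))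
    rw [card_map_conj] at h1
    have h2 := card_le_of_le (sup_le hZU hZdU)
    rw [h.card_UX] at h2
    have h3 : 0 < Nat.card Z₀ := Nat.card_pos
    apply Nat.le_of_mul_le_mul_left _ h3
    rw [← h1]
    calc Nat.card (Z₀ ⊔ cj d Z₀ : Subgroup G) * Nat.card Z₁ ≤ (2 * Nat.card Z₀) * Nat.card Z₁ :=
          Nat.mul_le_mul_right _ h2
      _ = _ := by ring
  have hZ₁W : Z₁ ⊓ (Z₀ ⊓ Cfsg.wOf K) = ⊥ := by
    rw [eq_bot_iff, ← h.W_inf_centralizer]
    exact le_inf (inf_le_right.trans inf_le_right) ((inf_le_left.trans hZ₁C).trans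
      (centralizer_le (SetLike.coe_subset_coe.mpr le_sup_left)))
  apply le_antisymm (sup_le inf_le_left inf_le_left)
  have h1 : Z₀ ⊓ Cfsg.wOf K ≤ normalizer (Z₁ : Set G) := by
    refine le_trans ?_ (centralizer_le_normalizer _)
    exact ((inf_le_left.trans hZU).trans hUc).trans (centralizer_le (inf_le_left.trans hZU))
  have h2 := SubgroupTools.card_sup_mul_card_inf h1
  rw [hZ₁W, card_bot, mul_one, h.card_Z₀_inf_W] at h2
  have h3 : Z₁ ⊔ (Z₀ ⊓ Cfsg.wOf K) = Z₀ := by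
    apply Subgroup.eq_of_le_of_card_ge (sup_le inf_le_left inf_le_left)
    rw [h2]
    omega
  calc Z₀ = Z₁ ⊔ (Z₀ ⊓ Cfsg.wOf K) := h3.symm
    _ ≤ _ := sup_le_sup_right hZ₁' _

end X

end Cfsg.Agent.Lib.ZN
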