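import Cfsg.Agent.Lib.AmG6
import Cfsg.Agent.Lib.ZNX2
import Cfsg.Agent.Lib.ZNComp3

/-!
One side of the amalgam: `P = K T`.
-/

set_option autoImplicit false
set_option linter.unusedSectionVars false

namespace Cfsg.Agent.Lib.AmG

open Subgroup commutatorElement Cfsg.Agent.Lib.LocBase Cfsg.Agent.Lib.TvStruct Cfsg.Agent.Lib.ZN
open scoped Pointwise

universe u v

variable {G : Type u} [Group G]

structure PF (T K : Subgroup G) : Prop where
  X : XFacts (JJ T) K
  Tp : IsPGroup 2 T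
  TK : T ≤ normalizer (K : Set G)
  ZT : Cfsg.omegaCenterOf T = Cfsg.omegaCenterOf (JJ T)
  Zcard : Nat.card (Cfsg.omegaCenterOf T) ≤ 4
  OT : Cfsg.pCoreOf 2 K ≤ T

variable [Finite G]

theorem PF.conj {T K : Subgroup G} (h : PF T K) (g : G) : PF (cj g T) (cj g K) where
  X := by rw [← JJ_conj]; exact h.X.conj g
  Tp := isPGroup_map_conj h.Tp g
  TK := by
    rw [← map_conj_normalizer]
    exact map_conj_mono g h.TK
  ZT := by
    rw [← JJ_conj, ← omegaCenterOf_conj, ← omegaCenterOf_conj, h.ZT]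
  Zcard := by
    rw [← omegaCenterOf_conj, card_map_conj]
    exact h.Zcard
  OT := by
    rw [pCoreOf_map_conj]
    exact map_conj_mono g h.OT

theorem sup_eq_of_card_two {W A B : Subgroup G} (hW : Nat.card W = 4) (hA : A ≤ W) (hB : B ≤ W)
    (hcA : Nat.card A = 2) (hcB : Nat.card B = 2) (hne : A ≠ B) : A ⊔ B = W := by
  apply Subgroup.eq_of_le_of_card_ge (sup_le hA hB)
  rw [hW]
  have h2 : A < A ⊔ B := by
    refine lt_of_le_of_ne le_sup_left ?_
    intro e
    apply hne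
    have h3 : B ≤ A := by rw [e]; exact le_sup_right
    exact (Subgroup.eq_of_le_of_card_ge h3 (by rw [hcA, hcB])).symm
  have h3 := two_mul_card_le h2
  rw [hcA] at h3
  exact h3

section pf

variable {T K : Subgroup G} (h : PF T K)
include h

theorem PF.inf_eq : K ⊓ T = Cfsg.pCoreOf 2 K :=
  pCoreOf_eq_of_syl h.X.idx (h.Tp.to_le inf_le_right) inf_le_left (le_inf (pCoreOf_le K) h.OT)

theorem PF.card_K : Nat.card K = 3 * Nat.card (Cfsg.pCoreOf 2 K) := by
  have := SubgroupTools.card_mul_relIndex_of_le (pCoreOf_le (p := 2) K)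
  rw [h.X.idx] at this
  omega

theorem PF.card_P : Nat.card (K ⊔ T : Subgroup G) = 3 * Nat.card T := by
  have h1 := SubgroupTools.card_sup_mul_card_inf h.TK
  rw [h.inf_eq, h.card_K] at h1
  have h2 : 0 < Nat.card (Cfsg.pCoreOf 2 K) := Nat.card_pos
  apply Nat.eq_of_mul_eq_mul_right h2
  rw [h1]; ring

theorem PF.TN : T ≤ normalizer (Cfsg.wOf K : Set G) := h.TK.trans (normalizer_le_normalizer_wOf K)

theorem PF.P_norm_K : K ⊔ T ≤ normalizer (K : Set G) := sup_le le_normalizer h.TK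

theorem PF.P_norm_W : K ⊔ T ≤ normalizer (Cfsg.wOf K : Set G) :=
  h.P_norm_K.trans (normalizer_le_normalizer_wOf K)

theorem PF.not_T_le : ¬ T ≤ centralizer (Cfsg.wOf K : Set G) := fun hle => h.X.not_J_le ((JJ_le T).trans hle)

theorem PF.card_T : Nat.card T = 2 * Nat.card (T ⊓ centralizer (Cfsg.wOf K : Set G) : Subgroup G) := by
  have h1 := card_le_two_mul_of_pgroup h.Tp h.X.Wcard h.TN
  have h2 : T ⊓ centralizer (Cfsg.wOf K : Set G) < T := by
    refine lt_of_le_of_ne inf_le_left ?_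
    intro e
    exact h.not_T_le (inf_eq_left.mp e)
  have h3 := two_mul_card_le h2
  omega

theorem PF.Q_eq : (K ⊔ T) ⊓ centralizer (Cfsg.wOf K : Set G) = T ⊓ centralizer (Cfsg.wOf K : Set G) := by
  symm
  set Q := (K ⊔ T) ⊓ centralizer (Cfsg.wOf K : Set G) with hQ
  have hle : T ⊓ centralizer (Cfsg.wOf K : Set G) ≤ Q := inf_le_inf_right _ le_sup_right
  apply Subgroup.eq_of_le_of_card_ge hle
  have hQP : Q ≤ K ⊔ T := inf_le_left
  have hN : K ⊔ T ≤ normalizer (Q : Set G) :=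
    le_normalizer_inf le_normalizer (le_normalizer_centralizer h.P_norm_W)
  have hQpos : 0 < Nat.card Q := Nat.card_pos
  have h1 := SubgroupTools.card_mul_relIndex_of_le hQP
  have h2 : Q.relIndex (K ⊔ T) ∣ 6 := by
    have := relIndex_centralizer_dvd_six h.X.Wcard h.P_norm_W
    rwa [← Subgroup.inf_relIndex_left] at this
  have h3 : 3 ∣ Q.relIndex (K ⊔ T) := by
    have h4 := SubgroupTools.card_sup_mul_card_inf ((le_sup_left (a := K) (b := T)).trans hN)
    have h5 : Q ⊓ K = Cfsg.pCoreOf 2 K := by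
      rw [← h.X.K_inf, hQ, inf_right_comm, inf_eq_right.mpr (le_sup_left : K ≤ K ⊔ T)]
    rw [h5, h.card_K] at h4
    have h6 : Nat.card (Q ⊔ K : Subgroup G) = 3 * Nat.card Q := by
      apply Nat.eq_of_mul_eq_mul_right (Nat.card_pos (α := ↥(Cfsg.pCoreOf 2 K)))
      rw [h4]; ring
    have h7 := Subgroup.card_dvd_of_le (sup_le hQP le_sup_left : Q ⊔ K ≤ K ⊔ T)
    rw [← h1, h6, mul_comm (Nat.card Q)] at h7
    exact Nat.dvd_of_mul_dvd_mul_right hQpos h7
  have h4 : 2 ∣ Q.relIndex (K ⊔ T) := by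
    have h4 := SubgroupTools.card_sup_mul_card_inf ((le_sup_right (a := K) (b := T)).trans hN)
    have h5 : Q ⊓ T = T ⊓ centralizer (Cfsg.wOf K : Set G) := by
      rw [hQ, inf_right_comm, inf_eq_right.mpr (le_sup_right : T ≤ K ⊔ T)]
    rw [h5, h.card_T] at h4
    have h6 : Nat.card (Q ⊔ T : Subgroup G) = 2 * Nat.card Q := by
      apply Nat.eq_of_mul_eq_mul_right (Nat.card_pos (α := ↥(T ⊓ centralizer (Cfsg.wOf K : Set G) : Subgroup G)))
      rw [h4]; ring
    have h7 := Subgroup.card_dvd_of_le (sup_le hQP le_sup_right : Q ⊔ T ≤ K ⊔ T)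
    rw [← h1, h6, mul_comm (Nat.card Q)] at h7
    exact Nat.dvd_of_mul_dvd_mul_right hQpos h7
  have h5 : Q.relIndex (K ⊔ T) = 6 := by
    have h6 : Q.relIndex (K ⊔ T) ≠ 0 := by
      intro e; rw [e] at h1; have := Nat.card_pos (α := ↥(K ⊔ T)); omega
    have h7 := Nat.le_of_dvd (by norm_num) h2
    interval_cases (Q.relIndex (K ⊔ T)) <;> omega
  rw [h5, h.card_P, h.card_T] at h1
  omega

abbrev QQ (T K : Subgroup G) : Subgroup G := T ⊓ centralizer (Cfsg.wOf K : Set G)

abbrev ZZ (T K : Subgroup G) : Subgroup G := Cfsg.omegaCenterOf T ⊔ Cfsg.wOf K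

theorem PF.P_norm_Q : K ⊔ T ≤ normalizer (QQ T K : Set G) := by
  show K ⊔ T ≤ normalizer ((T ⊓ centralizer (Cfsg.wOf K : Set G) : Subgroup G) : Set G)
  rw [← h.Q_eq]
  exact le_normalizer_inf le_normalizer (le_normalizer_centralizer h.P_norm_W)

theorem PF.W_le_T : Cfsg.wOf K ≤ T := h.X.W_le_J.trans (JJ_le T)

theorem PF.W_le_Q : Cfsg.wOf K ≤ QQ T K := le_inf h.W_le_T (ThompsonJ.elemAb_iff.mp EA_wOf).1

theorem PF.Z₀_le_Q : Cfsg.omegaCenterOf T ≤ QQ T K :=
  le_inf (omegaCenterOf_le T) ((omegaCenterOf_le_centralizer T).trans (centralizer_le h.W_le_T))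

theorem PF.ZZ_le_Q : ZZ T K ≤ QQ T K := sup_le h.Z₀_le_Q h.W_le_Q

theorem PF.Q_cent_ZZ : QQ T K ≤ centralizer (ZZ T K : Set G) := by
  rw [le_centralizer_iff]
  refine sup_le ?_ ?_
  · exact (omegaCenterOf_le_centralizer T).trans (centralizer_le inf_le_left)
  · rw [le_centralizer_iff]; exact inf_le_right

theorem PF.ZZ_eq : ZZ T K = UX (JJ T) K := by
  rw [h.X.UX_eq, ← h.ZT]

theorem PF.EA_ZZ : EA (ZZ T K) := by rw [h.ZZ_eq]; exact h.X.EA_UX

theorem PF.card_ZZ : Nat.card (ZZ T K) = 2 * Nat.card (Cfsg.omegaCenterOf T) := by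
  rw [h.ZZ_eq, h.X.card_UX, h.ZT]

theorem PF.P_norm_ZZ : K ⊔ T ≤ normalizer (ZZ T K : Set G) := by
  refine sup_le ?_ ?_
  · rw [h.ZZ_eq]; exact le_sup_left.trans (le_normalizer_UX _ _)
  · exact le_normalizer_sup (le_normalizer.trans (normalizer_le_normalizer_omegaCenterOf T)) h.TN

theorem PF.iSup_eq : (⨆ p : ↥(K ⊔ T), cj (p : G) (Cfsg.omegaCenterOf T)) = ZZ T K := by
  apply le_antisymm
  · apply iSup_le
    rintro ⟨p, hp⟩
    show cj p _ ≤ _
    rw [← map_conj_eq_of_mem (h.P_norm_ZZ hp)]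
    exact map_conj_mono p le_sup_left
  · rw [h.ZZ_eq]
    apply iSup_le
    rintro ⟨x, hx⟩
    show cj x _ ≤ _
    rw [← h.ZT]
    exact le_iSup (fun p : ↥(K ⊔ T) => cj (p : G) (Cfsg.omegaCenterOf T))
      ⟨x, (sup_le_sup_left (JJ_le T) K) hx⟩

/-- `R₀ = Z₀ ∩ W` -/
abbrev RR₀ (T K : Subgroup G) : Subgroup G := Cfsg.omegaCenterOf T ⊓ Cfsg.wOf K

theorem PF.card_R : Nat.card (RR₀ T K) = 2 := by
  show Nat.card (Cfsg.omegaCenterOf T ⊓ Cfsg.wOf K : Subgroup G) = 2
  rw [h.ZT]; exact h.X.card_Z₀_inf_W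

theorem PF.R_cent : RR₀ T K ≤ centralizer (T : Set G) := inf_le_left.trans (omegaCenterOf_le_centralizer T)

theorem PF.comm_W_T : ⁅Cfsg.wOf K, T⁆ ≤ RR₀ T K := by
  rw [commutator_le]
  intro w hw t ht
  have hc : Nat.card (Cfsg.wOf K) = 2 * Nat.card (RR₀ T K) := by rw [h.card_R, h.X.Wcard]
  have hRN : T ≤ normalizer (RR₀ T K : Set G) := (le_centralizer_iff.mp h.R_cent).trans (centralizer_le_normalizer _)
  have e : ⁅w, t⁆ = w * (t * w⁻¹ * t⁻¹) := by rw [commutatorElement_def]; group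
  rw [e]
  by_cases hw0 : w ∈ RR₀ T K
  · exact mul_mem hw0 (conj_mem_of_le_normalizer hRN ht (inv_mem hw0))
  · have h1 : t * w⁻¹ * t⁻¹ ∉ RR₀ T K := by
      intro hm
      have h2 := conj_mem_of_le_normalizer' hRN ht hm
      have e2 : t⁻¹ * (t * w⁻¹ * t⁻¹) * t = w⁻¹ := by group
      rw [e2] at h2
      exact hw0 ((inv_mem_iff).mp h2)
    have h2 : t * w⁻¹ * t⁻¹ ∈ Cfsg.wOf K := conj_mem_of_le_normalizer h.TN ht (inv_mem hw)
    have h3 := mul_mem_of_index_two (A := Cfsg.wOf K) (A₀ := RR₀ T K) inf_le_right hc (inv_mem hw) h2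
      (fun hm => hw0 ((inv_mem_iff).mp hm)) h1
    rwa [inv_inv] at h3

theorem PF.comm_ZZ_T : ⁅ZZ T K, T⁆ = RR₀ T K := by
  have h1 : ⁅ZZ T K, T⁆ ≤ RR₀ T K := by
    rw [commutator_le]
    intro x hx t ht
    have hc : Cfsg.wOf K ≤ normalizer (Cfsg.omegaCenterOf T : Set G) :=
      h.W_le_T.trans (le_normalizer.trans (normalizer_le_normalizer_omegaCenterOf T))
    obtain ⟨z, hz, w, hw, rfl⟩ := exists_mul_of_mem_sup_of_le hc hx
    have hzt : z * t = t * z := ((mem_omegaCenterOf.mp hz).2.1 t ht).symm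
    have h2 := h.comm_W_T (commutator_mem_commutator hw ht)
    have hzR : z * ⁅w, t⁆ = ⁅w, t⁆ * z := by
      have h3 := (mem_omegaCenterOf.mp hz).2.1 _ (omegaCenterOf_le T (mem_inf.mp h2).1)
      exact h3.symm
    have e : ⁅z * w, t⁆ = ⁅w, t⁆ := by
      have e1 : ⁅z * w, t⁆ = z * ⁅w, t⁆ * (t * z⁻¹ * t⁻¹) := by
        simp only [commutatorElement_def]; group
      have e2 : t * z⁻¹ * t⁻¹ = z⁻¹ := by
        have : t * z⁻¹ = z⁻¹ * t := by
          rw [eq_inv_mul_iff_mul_eq, ← mul_assoc, hzt]; group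
        rw [this]; group
      rw [e1, e2, hzR]; group
    rw [e]; exact h2
  apply Subgroup.eq_of_le_of_card_ge h1
  rw [h.card_R]
  by_contra hcon
  have h2 : Nat.card (⁅ZZ T K, T⁆ : Subgroup G) = 1 := by
    have := Nat.card_pos (α := ↥⁅ZZ T K, T⁆)
    omega
  have h3 := Subgroup.eq_bot_of_card_eq _ h2
  rw [commutator_eq_bot_iff_le_centralizer] at h3
  apply h.not_T_le
  rw [le_centralizer_iff]
  exact le_sup_right.trans h3

theorem PF.comm_ZZ_P : ⁅ZZ T K, K ⊔ T⁆ = Cfsg.wOf K := by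
  apply le_antisymm
  · rw [commutator_le]
    intro x hx p hp
    obtain ⟨k, hk, t, ht, rfl⟩ := exists_mul_of_mem_sup_of_le h.TK hp
    have h1 : ⁅x, k⁆ ∈ Cfsg.wOf K := by
      apply h.X.commutator_UX
      apply commutator_mem_commutator
      · rw [← h.ZZ_eq]; exact hx
      · exact mem_sup_left hk
    have h2 : ⁅x, t⁆ ∈ Cfsg.wOf K := by
      have := commutator_mem_commutator hx ht
      rw [h.comm_ZZ_T] at this
      exact (mem_inf.mp this).2
    have e : ⁅x, k * t⁆ = ⁅x, k⁆ * (k * ⁅x, t⁆ * k⁻¹) := by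
      simp only [commutatorElement_def]; group
    rw [e]
    exact mul_mem h1 (conj_mem_of_le_normalizer (le_sup_left.trans h.P_norm_W) hk h2)
  · calc Cfsg.wOf K = ⁅Cfsg.wOf K, K⁆ := h.X.W_idem.symm
      _ ≤ _ := commutator_mono le_sup_right le_sup_left

theorem PF.W_inf_cent : Cfsg.wOf K ⊓ centralizer ((K ⊔ T : Subgroup G) : Set G) = ⊥ := by
  rw [eq_bot_iff, ← h.X.W_inf_centralizer]
  exact inf_le_inf_left _ (centralizer_le (SetLike.coe_subset_coe.mpr le_sup_left))

theorem PF.mem_T_of_conj {p : G} (hp : p ∈ K ⊔ T) (he : cj p (RR₀ T K) = RR₀ T K) : p ∈ T := by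
  have h1 : p ∈ centralizer (RR₀ T K : Set G) := by
    have hpN := mem_normalizer_of_map_conj_eq he
    have h2 : zpowers p ≤ normalizer (RR₀ T K : Set G) := by rwa [zpowers_le]
    obtain ⟨r, hr, hr1⟩ := exists_gen_of_card_two h.card_R
    intro y hy
    have hpy : p * y * p⁻¹ ∈ RR₀ T K := conj_mem_of_le_normalizer h2 (mem_zpowers p) hy
    by_cases hy1 : y = 1
    · rw [hy1]; simp
    · -- both nontrivial in a group of order two
      have h3 : p * y * p⁻¹ ≠ 1 := by
        intro e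
        apply hy1
        have : y = p⁻¹ * (p * y * p⁻¹) * p := by group
        rw [this, e]; group
      have h4 : p * y * p⁻¹ = y := by
        have hc := h.card_R
        have h5 : Nat.card (⊥ : Subgroup G) = 1 := card_bot
        have h6 := mul_mem_of_index_two (A := RR₀ T K) (A₀ := ⊥) bot_le (by rw [hc, h5]) hpy hy
          (by rwa [mem_bot]) (by rwa [mem_bot])
        rw [mem_bot] at h6
        exact inv_mul_eq_one.mp h6
      calc y * p = (p * y * p⁻¹) * p := by rw [h4]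
        _ = p * y := by group
  by_contra hpT
  set H := (K ⊔ T) ⊓ centralizer (RR₀ T K : Set G) with hH
  have hTH : T ≤ H := le_inf le_sup_right (le_centralizer_iff.mp h.R_cent)
  have hlt : T < H := lt_of_le_of_ne hTH (fun e => hpT (by rw [e]; exact ⟨hp, h1⟩))
  have hc1 := two_mul_card_le hlt
  have hc2 := Subgroup.card_dvd_of_le (inf_le_left : H ≤ K ⊔ T)
  have hc3 := Subgroup.card_dvd_of_le hTH
  have hHP : H = K ⊔ T := by
    apply Subgroup.eq_of_le_of_card_ge inf_le_left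
    rw [h.card_P] at hc2 ⊢
    obtain ⟨a, ha⟩ := hc3
    obtain ⟨b, hb⟩ := hc2
    have hTpos : 0 < Nat.card T := Nat.card_pos
    have hab : a * b = 3 := by
      rw [ha] at hb
      apply Nat.eq_of_mul_eq_mul_left hTpos
      rw [← mul_assoc, ← hb]; ring
    have ha3 : a ∣ 3 := ⟨b, hab.symm⟩
    rcases (Nat.dvd_prime Nat.prime_three).mp ha3 with e | e
    · rw [e] at ha; omega
    · rw [ha, e]; linarith
  have h2 : RR₀ T K ≤ ⊥ := by
    rw [← h.W_inf_cent]
    refine le_inf inf_le_right ?_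
    rw [le_centralizer_iff, ← hHP]
    exact inf_le_right
  have h3 := h.card_R
  rw [le_bot_iff.mp h2, card_bot] at h3
  omega

theorem PF.mem_Q_iff {x : G} : x ∈ QQ T K ↔ ∀ p ∈ K ⊔ T, x ∈ cj p T := by
  constructor
  · intro hx p hp
    have h1 : x ∈ cj p (QQ T K) := by rw [cj, map_conj_eq_of_mem (h.P_norm_Q hp)]; exact hx
    exact map_conj_mono p inf_le_left h1
  · intro hx
    have hxT : x ∈ T := by
      have := hx 1 (one_mem _)
      rwa [cj, map_conj_one] at this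
    refine ⟨hxT, ?_⟩
    have key : ∀ p ∈ K ⊔ T, x ∈ centralizer (cj p (RR₀ T K) : Set G) := by
      intro p hp
      have h1 := map_conj_mono p (le_centralizer_iff.mp h.R_cent) (hx p hp)
      rw [map_conj_centralizer] at h1
      exact h1
    -- some element outside of `T`
    have hlt : T < K ⊔ T := by
      refine lt_of_le_of_ne le_sup_right ?_
      intro e
      have h1 := h.card_P
      rw [← e] at h1
      have := Nat.card_pos (α := T)
      omega
    obtain ⟨p, hp, hpT⟩ := SetLike.exists_of_lt hlt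
    have hne : cj p (RR₀ T K) ≠ RR₀ T K := fun e => hpT (h.mem_T_of_conj hp e)
    have hle : cj p (RR₀ T K) ≤ Cfsg.wOf K := by
      rw [← map_conj_eq_of_mem (h.P_norm_W hp)]
      exact map_conj_mono p inf_le_right
    have hW : RR₀ T K ⊔ cj p (RR₀ T K) = Cfsg.wOf K :=
      sup_eq_of_card_two h.X.Wcard inf_le_right hle h.card_R ((card_map_conj _ _).trans h.card_R) (Ne.symm hne)
    have h1 : zpowers x ≤ centralizer (Cfsg.wOf K : Set G) := by
      rw [← hW, le_centralizer_iff]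
      refine sup_le ?_ ?_
      · rw [le_centralizer_iff, zpowers_le]
        have := key 1 (one_mem _)
        rwa [cj, map_conj_one] at this
      · rw [le_centralizer_iff, zpowers_le]
        exact key p hp
    exact h1 (mem_zpowers x)

theorem PF.card_cent : Nat.card (ZZ T K ⊓ centralizer ((K ⊔ T : Subgroup G) : Set G) : Subgroup G) ≤ 2 := by
  set B := ZZ T K ⊓ centralizer ((K ⊔ T : Subgroup G) : Set G) with hB
  have h1 : B ⊓ Cfsg.wOf K = ⊥ := by
    rw [eq_bot_iff, ← h.W_inf_cent]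
    exact le_inf inf_le_right (inf_le_left.trans inf_le_right)
  have hWB : Cfsg.wOf K ≤ normalizer (B : Set G) := by
    refine le_trans ?_ (centralizer_le_normalizer _)
    rw [le_centralizer_iff]
    exact (inf_le_right : B ≤ _).trans (centralizer_le (SetLike.coe_subset_coe.mpr (h.W_le_T.trans le_sup_right)))
  have h2 := SubgroupTools.card_sup_mul_card_inf hWB
  rw [h1, card_bot, mul_one, h.X.Wcard] at h2
  have h3 := card_le_of_le (sup_le inf_le_left le_sup_right : B ⊔ Cfsg.wOf K ≤ ZZ T K)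
  rw [h.card_ZZ, h2] at h3
  have h4 := h.Zcard
  omega

theorem PF.exists_off : ∃ A ≤ T, EA A ∧ ¬ A ≤ QQ T K ∧ ∀ A' ≤ T, EA A' → Nat.card A' ≤ Nat.card A := by
  by_contra hcon
  apply h.X.not_J_le
  rw [JJ_eq]
  have key : ∀ A ∈ AA T, A ≤ centralizer (Cfsg.wOf K : Set G) := by
    intro A hA
    by_contra hn
    apply hcon
    exact ⟨A, hA.1, hA.2.1, fun hle => hn (hle.trans inf_le_right), hA.2.2⟩
  exact sSup_le key

end pf

end Cfsg.Agent.Lib.AmG
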