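import Cfsg.Agent.Lib.AmI
import Cfsg.Agent.Lib.CosetGraph

/-!
The coset graph satisfies the hypotheses.
-/

set_option autoImplicit false
set_option linter.unusedSectionVars false

namespace Cfsg.Agent.Lib.AmG

open Subgroup commutatorElement Cfsg.Agent.Lib.LocBase Cfsg.Agent.Lib.TvStruct Cfsg.Agent.Lib.ZN
open scoped Pointwise

universe u v

section abs

variable {G : Type u} [Group G] [Finite G] {V : Type v} [MulAction G V] {Γ : Gr G V}

/-- edge data -/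
def ED (Γ : Gr G V) : Prop :=
  ∀ {δ ε : V}, Γ.adj δ ε → ∃ K : Subgroup G, PF (ed G δ ε) K ∧ st G δ = K ⊔ ed G δ ε

variable {δ ε : V} {K : Subgroup G} (hadj : Γ.adj δ ε) (h : PF (ed G δ ε) K) (hst : st G δ = K ⊔ ed G δ ε)
include hadj h hst

theorem Z_eq_ZZ : Γ.Z δ = ZZ (ed G δ ε) K := by
  rw [← h.iSup_eq]
  apply le_antisymm
  · apply iSup_le
    rintro ⟨ζ, hζ⟩
    obtain ⟨g, hg, rfl⟩ := Γ.trans_nb hadj hζ
    have hg' : g ∈ K ⊔ ed G δ ε := by rw [← hst]; exact hg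
    have hgδ : g • δ = δ := hg
    refine le_trans (le_of_eq ?_) (le_iSup (fun p : ↥(K ⊔ ed G δ ε) => cj (p : G) (Cfsg.omegaCenterOf (ed G δ ε))) ⟨g, hg'⟩)
    show ZE G δ (g • ε) = cj g (ZE G δ ε)
    rw [← ZE_smul, hgδ]
  · apply iSup_le
    rintro ⟨g, hg⟩
    rw [← hst] at hg
    have hgδ : g • δ = δ := hg
    show cj g (ZE G δ ε) ≤ _
    have h1 : Γ.adj δ (g • ε) := by
      have := Γ.adj_smul g hadj
      rwa [hgδ] at this
    rw [← ZE_smul, hgδ]
    exact Gr.ZE_le_Z h1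

theorem Q_eq_QQ : Γ.Q δ = QQ (ed G δ ε) K := by
  ext x
  rw [h.mem_Q_iff, Gr.mem_Q]
  constructor
  · rintro ⟨h1, h2⟩ p hp
    rw [← hst] at hp
    have hpδ : p • δ = δ := hp
    have h3 : Γ.adj δ (p • ε) := by
      have := Γ.adj_smul p hadj
      rwa [hpδ] at this
    have h4 := h2 _ h3
    rw [← ed_smul, hpδ]
    exact ⟨h1, h4⟩
  · intro hx
    have h1 := hx 1 (one_mem _)
    rw [cj, map_conj_one] at h1
    refine ⟨h1.1, ?_⟩
    intro ζ hζ
    obtain ⟨g, hg, rfl⟩ := Γ.trans_nb hadj hζ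
    have hg' : g ∈ K ⊔ ed G δ ε := by rw [← hst]; exact hg
    have h2 := hx g hg'
    rw [← ed_smul] at h2
    exact h2.2

theorem W_eq_wOf : Γ.W δ = Cfsg.wOf K := by
  unfold Gr.W
  rw [Z_eq_ZZ hadj h hst, hst, h.comm_ZZ_P]

theorem R_eq_RR₀ : Γ.R δ ε = RR₀ (ed G δ ε) K := by
  unfold Gr.R
  rw [Z_eq_ZZ hadj h hst, h.comm_ZZ_T]

omit hadj h hst in
theorem fx_of (hE : ED Γ) (hf : ∀ {δ ε : V}, Γ.adj δ ε → ∀ N : Subgroup G, N ≤ ed G δ ε →
    st G δ ≤ normalizer (N : Set G) → st G ε ≤ normalizer (N : Set G) → N = ⊥) : Fx Γ := by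
  have hnb : ∀ δ, ∃ ε, Γ.adj δ ε := by
    intro δ
    obtain ⟨a, b, c, _, _, _, h⟩ := Γ.nb3 δ
    exact ⟨a, (h a).mpr (Or.inl rfl)⟩
  constructor
  · intro δ ε hadj
    obtain ⟨K, h, hst⟩ := hE hadj
    by_contra hcon
    push Not at hcon
    rw [Q_eq_QQ hadj h hst] at hcon
    exact h.not_T_le (fun x hx => (mem_inf.mp (hcon x hx)).2)
  · intro δ
    obtain ⟨ε, hadj⟩ := hnb δ
    obtain ⟨K, h, hst⟩ := hE hadj
    rw [Q_eq_QQ hadj h hst, Z_eq_ZZ hadj h hst]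
    exact h.Q_cent_ZZ
  · intro δ
    obtain ⟨ε, hadj⟩ := hnb δ
    obtain ⟨K, h, hst⟩ := hE hadj
    rw [Q_eq_QQ hadj h hst, Z_eq_ZZ hadj h hst]
    exact h.ZZ_le_Q
  · intro δ ε hadj
    obtain ⟨K, h, hst⟩ := hE hadj
    rw [Q_eq_QQ hadj h hst, Z_eq_ZZ hadj h hst]
    exact inf_le_inf_left _ (centralizer_le (SetLike.coe_subset_coe.mpr le_sup_right))
  · intro δ x hx
    obtain ⟨ε, hadj⟩ := hnb δ
    obtain ⟨K, h, hst⟩ := hE hadj
    rw [Z_eq_ZZ hadj h hst] at hx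
    exact (ThompsonJ.elemAb_iff.mp h.EA_ZZ).2 x hx
  · intro δ
    obtain ⟨ε, hadj⟩ := hnb δ
    obtain ⟨K, h, hst⟩ := hE hadj
    rw [W_eq_wOf hadj h hst, h.X.Wcard]
  · intro δ
    obtain ⟨ε, hadj⟩ := hnb δ
    obtain ⟨K, h, hst⟩ := hE hadj
    rw [W_eq_wOf hadj h hst, hst, h.W_inf_cent]
  · intro δ ε hadj
    obtain ⟨K, h, hst⟩ := hE hadj
    rw [R_eq_RR₀ hadj h hst, h.card_R]
  · intro δ ε hadj
    obtain ⟨K, h, hst⟩ := hE hadj
    rw [R_eq_RR₀ hadj h hst]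
    exact h.R_cent
  · intro δ ε ε' hadj hadj' he
    obtain ⟨K, h, hst⟩ := hE hadj
    obtain ⟨g, hg, rfl⟩ := Γ.trans_nb hadj hadj'
    have hgδ : g • δ = δ := hg
    have h1 : Γ.R δ (g • ε) = cj g (Γ.R δ ε) := by
      have := Gr.R_smul (Γ := Γ) g δ ε
      rwa [hgδ] at this
    rw [h1, R_eq_RR₀ hadj h hst] at he
    have h2 := h.mem_T_of_conj (p := g) (by rw [← hst]; exact hg) he.symm
    exact h2.2.symm
  · intro δ ε hadj
    obtain ⟨K, h, hst⟩ := hE hadj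
    rw [Z_eq_ZZ hadj h hst, h.card_ZZ]
  · intro δ
    obtain ⟨ε, hadj⟩ := hnb δ
    obtain ⟨K, h, hst⟩ := hE hadj
    unfold Gr.B
    rw [Z_eq_ZZ hadj h hst, hst]
    exact h.card_cent
  · intro δ ε hadj
    exact hf hadj
  · intro δ ε hadj
    obtain ⟨K, h, hst⟩ := hE (Γ.symm hadj)
    rw [ed_comm ε δ] at h hst
    have hQ : Γ.Q ε = QQ (ed G δ ε) K := by
      have := Q_eq_QQ (Γ.symm hadj) (K := K) (by rw [ed_comm]; exact h) (by rw [ed_comm ε δ]; exact hst)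
      rw [this, ed_comm]
    rw [hQ]
    exact h.exists_off

end abs

section coset

variable {G : Type u} [Group G]

theorem three_reps [Finite G] {P T : Subgroup G} (hTP : T ≤ P) (hc : Nat.card P = 3 * Nat.card T) :
    ∃ a b c : G, a ∈ P ∧ b ∈ P ∧ c ∈ P ∧ a⁻¹ * b ∉ T ∧ b⁻¹ * c ∉ T ∧ a⁻¹ * c ∉ T ∧
      ∀ p ∈ P, a⁻¹ * p ∈ T ∨ b⁻¹ * p ∈ T ∨ c⁻¹ * p ∈ T := by
  classical
  have h1 : (T.subgroupOf P).index = 3 := by
    have h2 := SubgroupTools.card_mul_relIndex_of_le hTP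
    rw [hc, mul_comm] at h2
    exact Nat.eq_of_mul_eq_mul_right Nat.card_pos h2
  rw [Subgroup.index_eq_card] at h1
  have : Fintype (↥P ⧸ T.subgroupOf P) := Fintype.ofFinite _
  rw [Nat.card_eq_fintype_card, ← Finset.card_univ, Finset.card_eq_three] at h1
  obtain ⟨x, y, z, hxy, hxz, hyz, hall⟩ := h1
  obtain ⟨a, rfl⟩ := QuotientGroup.mk_surjective x
  obtain ⟨b, rfl⟩ := QuotientGroup.mk_surjective y
  obtain ⟨c, rfl⟩ := QuotientGroup.mk_surjective z
  refine ⟨a, b, c, a.2, b.2, c.2, ?_, ?_, ?_, ?_⟩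
  · intro h; exact hxy (QuotientGroup.eq.mpr (mem_subgroupOf.mpr h))
  · intro h; exact hyz (QuotientGroup.eq.mpr (mem_subgroupOf.mpr h))
  · intro h; exact hxz (QuotientGroup.eq.mpr (mem_subgroupOf.mpr h))
  · intro p hp
    have h2 : ((⟨p, hp⟩ : ↥P) : ↥P ⧸ T.subgroupOf P) ∈ (Finset.univ : Finset (↥P ⧸ T.subgroupOf P)) := Finset.mem_univ _
    rw [hall, Finset.mem_insert, Finset.mem_insert, Finset.mem_singleton] at h2
    rcases h2 with e | e | e
    · left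
      have := QuotientGroup.eq.mp e.symm
      exact mem_subgroupOf.mp this
    · right; left
      have := QuotientGroup.eq.mp e.symm
      exact mem_subgroupOf.mp this
    · right; right
      have := QuotientGroup.eq.mp e.symm
      exact mem_subgroupOf.mp this

open Cfsg Cfsg.Agent.Lib.CosetGraph

variable [Finite G] {P₁ P₂ T : Subgroup G}

def cosetGr (h12 : P₁ ⊓ P₂ = T) (hc1 : Nat.card P₁ = 3 * Nat.card T) (hc2 : Nat.card P₂ = 3 * Nat.card T) :
    Gr G (CosetVertex P₁ P₂) where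
  adj := (cosetGraph P₁ P₂).Adj
  symm := fun h => h.symm
  adj_smul := fun g _ _ h => adj_smul g h
  ty := Sum.isLeft
  ty_smul := by
    rintro g (x | x) <;> rfl
  ty_adj := by
    intro δ ε h
    rw [adj_iff] at h
    rcases h with ⟨x, rfl, rfl⟩ | ⟨x, rfl, rfl⟩ <;> rfl
  trans_ty := by
    rintro (x | x) (y | y) h
    · induction x using QuotientGroup.induction_on with
      | H x =>
        induction y using QuotientGroup.induction_on with
        | H y =>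
          refine ⟨y * x⁻¹, ?_⟩
          rw [smul_inl, inv_mul_cancel_right]
    · simp at h
    · simp at h
    · induction x using QuotientGroup.induction_on with
      | H x =>
        induction y using QuotientGroup.induction_on with
        | H y =>
          refine ⟨y * x⁻¹, ?_⟩
          rw [smul_inr, inv_mul_cancel_right]
  trans_nb := fun h h' => neighbours_transitive _ _ _ h h'
  nb3 := by
    have hT1 : T ≤ P₁ := by rw [← h12]; exact inf_le_left
    have hT2 : T ≤ P₂ := by rw [← h12]; exact inf_le_right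
    rintro (x | x)
    · induction x using QuotientGroup.induction_on with
      | H x =>
        obtain ⟨a, b, c, ha, hb, hc, hab, hbc, hac, hall⟩ := three_reps hT1 hc1
        have hne : ∀ u v : G, u ∈ P₁ → v ∈ P₁ → u⁻¹ * v ∉ T →
            (Sum.inr ((x * u : G) : G ⧸ P₂) : CosetVertex P₁ P₂) ≠ Sum.inr ((x * v : G) : G ⧸ P₂) := by
          intro u v hu hv huv e
          rw [Sum.inr.injEq, QuotientGroup.eq] at e
          apply huv
          have e2 : (x * u)⁻¹ * (x * v) = u⁻¹ * v := by group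
          rw [e2] at e
          rw [← h12]
          exact Subgroup.mem_inf.mpr ⟨Subgroup.mul_mem _ (Subgroup.inv_mem _ hu) hv, e⟩
        refine ⟨Sum.inr ((x * a : G) : G ⧸ P₂), Sum.inr ((x * b : G) : G ⧸ P₂), Sum.inr ((x * c : G) : G ⧸ P₂),
          hne a b ha hb hab, hne b c hb hc hbc, hne a c ha hc hac, ?_⟩
        intro ε
        rw [adj_iff]
        constructor
        · rintro (⟨z, hz, rfl⟩ | ⟨z, _, hz⟩)
          · rw [Sum.inl.injEq, QuotientGroup.eq] at hz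
            have key : ∀ r : G, r⁻¹ * (x⁻¹ * z) ∈ T →
                (Sum.inr (z : G ⧸ P₂) : CosetVertex P₁ P₂) = Sum.inr ((x * r : G) : G ⧸ P₂) := by
              intro r hr
              rw [Sum.inr.injEq, eq_comm, QuotientGroup.eq]
              have e : (x * r)⁻¹ * z = r⁻¹ * (x⁻¹ * z) := by group
              rw [e]; exact hT2 hr
            rcases hall _ hz with h | h | h
            · exact Or.inl (key a h)
            · exact Or.inr (Or.inl (key b h))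
            · exact Or.inr (Or.inr (key c h))
          · cases hz
        · have key : ∀ r ∈ P₁, ε = Sum.inr ((x * r : G) : G ⧸ P₂) →
              ((∃ z : G, (Sum.inl (x : G ⧸ P₁) : CosetVertex P₁ P₂) = Sum.inl (z : G ⧸ P₁) ∧ ε = Sum.inr (z : G ⧸ P₂)) ∨
              (∃ z : G, ε = Sum.inl (z : G ⧸ P₁) ∧ (Sum.inl (x : G ⧸ P₁) : CosetVertex P₁ P₂) = Sum.inr (z : G ⧸ P₂))) := by
            intro r hr e
            left
            refine ⟨x * r, ?_, e⟩
            rw [Sum.inl.injEq, QuotientGroup.eq]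
            have : x⁻¹ * (x * r) = r := by group
            rw [this]; exact hr
          rintro (e | e | e)
          · exact key a ha e
          · exact key b hb e
          · exact key c hc e
    · induction x using QuotientGroup.induction_on with
      | H x =>
        obtain ⟨a, b, c, ha, hb, hc, hab, hbc, hac, hall⟩ := three_reps hT2 hc2
        have hne : ∀ u v : G, u ∈ P₂ → v ∈ P₂ → u⁻¹ * v ∉ T →
            (Sum.inl ((x * u : G) : G ⧸ P₁) : CosetVertex P₁ P₂) ≠ Sum.inl ((x * v : G) : G ⧸ P₁) := by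
          intro u v hu hv huv e
          rw [Sum.inl.injEq, QuotientGroup.eq] at e
          apply huv
          have e2 : (x * u)⁻¹ * (x * v) = u⁻¹ * v := by group
          rw [e2] at e
          rw [← h12]
          exact Subgroup.mem_inf.mpr ⟨e, Subgroup.mul_mem _ (Subgroup.inv_mem _ hu) hv⟩
        refine ⟨Sum.inl ((x * a : G) : G ⧸ P₁), Sum.inl ((x * b : G) : G ⧸ P₁), Sum.inl ((x * c : G) : G ⧸ P₁),
          hne a b ha hb hab, hne b c hb hc hbc, hne a c ha hc hac, ?_⟩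
        intro ε
        rw [adj_iff]
        constructor
        · rintro (⟨z, hz, _⟩ | ⟨z, rfl, hz⟩)
          · cases hz
          · rw [Sum.inr.injEq, QuotientGroup.eq] at hz
            have key : ∀ r : G, r⁻¹ * (x⁻¹ * z) ∈ T →
                (Sum.inl (z : G ⧸ P₁) : CosetVertex P₁ P₂) = Sum.inl ((x * r : G) : G ⧸ P₁) := by
              intro r hr
              rw [Sum.inl.injEq, eq_comm, QuotientGroup.eq]
              have e : (x * r)⁻¹ * z = r⁻¹ * (x⁻¹ * z) := by group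
              rw [e]; exact hT1 hr
            rcases hall _ hz with h | h | h
            · exact Or.inl (key a h)
            · exact Or.inr (Or.inl (key b h))
            · exact Or.inr (Or.inr (key c h))
        · have key : ∀ r ∈ P₂, ε = Sum.inl ((x * r : G) : G ⧸ P₁) →
              ((∃ z : G, (Sum.inr (x : G ⧸ P₂) : CosetVertex P₁ P₂) = Sum.inl (z : G ⧸ P₁) ∧ ε = Sum.inr (z : G ⧸ P₂)) ∨
              (∃ z : G, ε = Sum.inl (z : G ⧸ P₁) ∧ (Sum.inr (x : G ⧸ P₂) : CosetVertex P₁ P₂) = Sum.inr (z : G ⧸ P₂))) := by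
            intro r hr e
            right
            refine ⟨x * r, e, ?_⟩
            rw [Sum.inr.injEq, QuotientGroup.eq]
            have : x⁻¹ * (x * r) = r := by group
            rw [this]; exact hr
          rintro (e | e | e)
          · exact key a ha e
          · exact key b hb e
          · exact key c hc e

/-- The main theorem for a pair `K₁ T`, `K₂ T` -/
theorem pair_main {K₁ K₂ : Subgroup G} (h1 : PF T K₁) (h2 : PF T K₂)
    (hf : ∀ N ≤ T, K₁ ⊔ T ≤ normalizer (N : Set G) → K₂ ⊔ T ≤ normalizer (N : Set G) → N = ⊥) :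
    ¬ Cfsg.wOf K₁ ≤ centralizer (Cfsg.wOf K₂ : Set G) := by
  have h12 : (K₁ ⊔ T) ⊓ (K₂ ⊔ T) = T := by
    symm
    set D := (K₁ ⊔ T) ⊓ (K₂ ⊔ T) with hD
    have hTD : T ≤ D := le_inf le_sup_right le_sup_right
    by_contra hne
    have hlt : T < D := lt_of_le_of_ne hTD hne
    have hc1 := Subgroup.card_dvd_of_le (inf_le_left : D ≤ K₁ ⊔ T)
    have hc2 := Subgroup.card_dvd_of_le hTD
    have hc3 := two_mul_card_le hlt
    have hD1 : Nat.card D = 3 * Nat.card T := by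
      rw [h1.card_P] at hc1
      obtain ⟨a, ha⟩ := hc2
      obtain ⟨b, hb⟩ := hc1
      have hTpos : 0 < Nat.card T := Nat.card_pos
      have hab : a * b = 3 := by
        rw [ha] at hb
        apply Nat.eq_of_mul_eq_mul_left hTpos
        rw [← mul_assoc, ← hb]; ring
      have ha3 : a ∣ 3 := ⟨b, hab.symm⟩
      rcases (Nat.dvd_prime Nat.prime_three).mp ha3 with e | e
      · rw [e] at ha; omega
      · rw [ha, e]; ring
    have hDP1 : D = K₁ ⊔ T := Subgroup.eq_of_le_of_card_ge inf_le_left (by rw [h1.card_P, hD1])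
    have hDP2 : D = K₂ ⊔ T := Subgroup.eq_of_le_of_card_ge inf_le_right (by rw [h2.card_P, hD1])
    have hb := hf (QQ T K₁) inf_le_left h1.P_norm_Q (by rw [← hDP2, hDP1]; exact h1.P_norm_Q)
    have hW := h1.W_le_Q
    rw [hb, le_bot_iff] at hW
    exact h1.X.W_ne hW
  let Γ := cosetGr h12 h1.card_P h2.card_P
  have hadj₀ : Γ.adj (Sum.inl ((1 : G) : G ⧸ (K₁ ⊔ T))) (Sum.inr ((1 : G) : G ⧸ (K₂ ⊔ T))) := adj_base 1
  have hst1 : st G (Sum.inl ((1 : G) : G ⧸ (K₁ ⊔ T)) : CosetVertex (K₁ ⊔ T) (K₂ ⊔ T)) = K₁ ⊔ T := stabilizer_inl_one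
  have hst2 : st G (Sum.inr ((1 : G) : G ⧸ (K₂ ⊔ T)) : CosetVertex (K₁ ⊔ T) (K₂ ⊔ T)) = K₂ ⊔ T := stabilizer_inr_one
  have hed : ed G (Sum.inl ((1 : G) : G ⧸ (K₁ ⊔ T)) : CosetVertex (K₁ ⊔ T) (K₂ ⊔ T))
      (Sum.inr ((1 : G) : G ⧸ (K₂ ⊔ T))) = T := by
    show st G _ ⊓ st G _ = _
    rw [hst1, hst2, h12]
  have hed' : ed G (Sum.inr ((1 : G) : G ⧸ (K₂ ⊔ T)) : CosetVertex (K₁ ⊔ T) (K₂ ⊔ T))
      (Sum.inl ((1 : G) : G ⧸ (K₁ ⊔ T))) = T := by
    rw [ed_comm, hed]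
  -- every edge is conjugate to the base edge
  have hedge : ∀ {δ ε : CosetVertex (K₁ ⊔ T) (K₂ ⊔ T)}, Γ.adj δ ε →
      (∃ g : G, g • (Sum.inl ((1 : G) : G ⧸ (K₁ ⊔ T)) : CosetVertex (K₁ ⊔ T) (K₂ ⊔ T)) = δ ∧
        g • (Sum.inr ((1 : G) : G ⧸ (K₂ ⊔ T)) : CosetVertex (K₁ ⊔ T) (K₂ ⊔ T)) = ε) ∨
      (∃ g : G, g • (Sum.inr ((1 : G) : G ⧸ (K₂ ⊔ T)) : CosetVertex (K₁ ⊔ T) (K₂ ⊔ T)) = δ ∧
        g • (Sum.inl ((1 : G) : G ⧸ (K₁ ⊔ T)) : CosetVertex (K₁ ⊔ T) (K₂ ⊔ T)) = ε) := by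
    intro δ ε h
    have h' : (cosetGraph (K₁ ⊔ T) (K₂ ⊔ T)).Adj δ ε := h
    rw [adj_iff] at h'
    rcases h' with ⟨x, rfl, rfl⟩ | ⟨x, rfl, rfl⟩
    · left
      refine ⟨x, ?_, ?_⟩
      · rw [smul_inl, mul_one]
      · rw [smul_inr, mul_one]
    · right
      refine ⟨x, ?_, ?_⟩
      · rw [smul_inr, mul_one]
      · rw [smul_inl, mul_one]
  have hE : ED Γ := by
    intro δ ε h
    rcases hedge h with ⟨g, rfl, rfl⟩ | ⟨g, rfl, rfl⟩
    · refine ⟨cj g K₁, ?_, ?_⟩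
      · rw [ed_smul, hed]; exact h1.conj g
      · rw [ed_smul, hed, st_smul, hst1, cj, cj, cj, Subgroup.map_sup]
    · refine ⟨cj g K₂, ?_, ?_⟩
      · rw [ed_smul, hed']; exact h2.conj g
      · rw [ed_smul, hed', st_smul, hst2, cj, cj, cj, Subgroup.map_sup]
  have hF : Fx Γ := by
    apply fx_of hE
    intro δ ε h N hN hN1 hN2
    have key : ∀ g : G, N ≤ cj g T → cj g (K₁ ⊔ T) ≤ normalizer (N : Set G) →
        cj g (K₂ ⊔ T) ≤ normalizer (N : Set G) → N = ⊥ := by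
      intro g hN hN1 hN2
      have e : N = cj g (cj g⁻¹ N) := by
        rw [cj, cj, ← map_conj_mul, mul_inv_cancel, map_conj_one]
      have h3 : cj g⁻¹ N ≤ T := by
        rw [e] at hN
        exact (map_conj_le_map_conj g).mp hN
      have h4 : ∀ P : Subgroup G, cj g P ≤ normalizer (N : Set G) → P ≤ normalizer (cj g⁻¹ N : Set G) := by
        intro P hP
        rw [e, ← map_conj_normalizer] at hP
        exact (map_conj_le_map_conj g).mp hP
      have h5 := hf _ h3 (h4 _ hN1) (h4 _ hN2)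
      rw [e, h5]; exact Subgroup.map_bot _
    rcases hedge h with ⟨g, rfl, rfl⟩ | ⟨g, rfl, rfl⟩
    · rw [ed_smul, hed] at hN
      rw [st_smul, hst1] at hN1
      rw [st_smul, hst2] at hN2
      exact key g hN hN1 hN2
    · rw [ed_smul, hed'] at hN
      rw [st_smul, hst2] at hN1
      rw [st_smul, hst1] at hN2
      exact key g hN hN2 hN1
  obtain ⟨δ, ε, hadj, hnle⟩ := main hF hadj₀
  intro hcent
  -- base edge facts
  have hZ1 : Γ.Z (Sum.inl ((1 : G) : G ⧸ (K₁ ⊔ T))) = ZZ T K₁ := by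
    have := Z_eq_ZZ (K := K₁) hadj₀ (by rw [hed]; exact h1) (by rw [hed, hst1])
    rw [this, hed]
  have hZ2 : Γ.Z (Sum.inr ((1 : G) : G ⧸ (K₂ ⊔ T))) = ZZ T K₂ := by
    have := Z_eq_ZZ (K := K₂) (Γ.symm hadj₀) (by rw [hed']; exact h2) (by rw [hed', hst2])
    rw [this, hed']
  have hQ1 : Γ.Q (Sum.inl ((1 : G) : G ⧸ (K₁ ⊔ T))) = QQ T K₁ := by
    have := Q_eq_QQ (K := K₁) hadj₀ (by rw [hed]; exact h1) (by rw [hed, hst1])
    rw [this, hed]
  have hQ2 : Γ.Q (Sum.inr ((1 : G) : G ⧸ (K₂ ⊔ T))) = QQ T K₂ := by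
    have := Q_eq_QQ (K := K₂) (Γ.symm hadj₀) (by rw [hed']; exact h2) (by rw [hed', hst2])
    rw [this, hed']
  have hle1 : ZZ T K₁ ≤ QQ T K₂ := sup_le h2.Z₀_le_Q (le_inf h1.W_le_T hcent)
  have hle2 : ZZ T K₂ ≤ QQ T K₁ := sup_le h1.Z₀_le_Q (le_inf h2.W_le_T (le_centralizer_iff.mp hcent))
  apply hnle
  rcases hedge hadj with ⟨g, rfl, rfl⟩ | ⟨g, rfl, rfl⟩
  · rw [Gr.Z_smul, Gr.Q_smul, hZ1, hQ2]; exact map_conj_mono g hle1
  · rw [Gr.Z_smul, Gr.Q_smul, hZ2, hQ1]; exact map_conj_mono g hle2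

end coset

end Cfsg.Agent.Lib.AmG
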