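import Cfsg.Agent.Lib.AmJ

/-!
`P ≅ S₄` or `S₄ × C₂`.
-/

set_option autoImplicit false
set_option linter.unusedSectionVars false

namespace Cfsg.Agent.Lib.AmG

open Subgroup commutatorElement Cfsg.Agent.Lib.LocBase Cfsg.Agent.Lib.TvStruct Cfsg.Agent.Lib.ZN
open scoped Pointwise

universe u v

theorem perm4_of {X : Type*} [Group X] [Finite X] (H : Subgroup X) (hc : Nat.card X = 24) (hH : Nat.card H = 6)
    (hcore : ∀ N : Subgroup X, N.Normal → N ≤ H → N = ⊥) : Nonempty (X ≃* Equiv.Perm (Fin 4)) := by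
  classical
  have hidx : Nat.card (X ⧸ H) = 4 := by
    have h1 := Subgroup.card_mul_index H
    rw [hc, hH] at h1
    rw [← Subgroup.index_eq_card]; omega
  have e : (X ⧸ H) ≃ Fin 4 := by
    have : Fintype (X ⧸ H) := Fintype.ofFinite _
    rw [Nat.card_eq_fintype_card] at hidx
    exact Fintype.equivFinOfCardEq hidx
  let f : X →* Equiv.Perm (X ⧸ H) := MulAction.toPermHom X (X ⧸ H)
  have hf : Function.Injective f := by
    rw [← MonoidHom.ker_eq_bot_iff, ← Subgroup.normalCore_eq_ker]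
    exact hcore _ H.normalCore_normal H.normalCore_le
  let g : Equiv.Perm (X ⧸ H) ≃* Equiv.Perm (Fin 4) := e.permCongrHom
  have hcard : Nat.card (Equiv.Perm (X ⧸ H)) = 24 := by
    rw [Nat.card_congr g.toEquiv, Nat.card_eq_fintype_card, Fintype.card_perm, Fintype.card_fin]
    rfl
  have hbij : Function.Bijective f := by
    have : Fintype X := Fintype.ofFinite _
    have : Fintype (Equiv.Perm (X ⧸ H)) := Fintype.ofFinite _
    rw [Fintype.bijective_iff_injective_and_card]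
    refine ⟨hf, ?_⟩
    rw [← Nat.card_eq_fintype_card, ← Nat.card_eq_fintype_card, hc, hcard]
  exact ⟨(MulEquiv.ofBijective f hbij).trans g⟩

variable {G : Type u} [Group G] [Finite G]

/-- the closure of the squares -/
def sqs (Q : Subgroup G) : Subgroup G := closure {y | ∃ x ∈ Q, y = x ^ 2}

theorem le_normalizer_sqs {P Q : Subgroup G} (h : P ≤ normalizer (Q : Set G)) : P ≤ normalizer (sqs Q : Set G) := by
  intro p hp
  apply mem_normalizer_of_map_conj_le
  unfold sqs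
  rw [MonoidHom.map_closure, closure_le]
  rintro _ ⟨_, ⟨x, hx, rfl⟩, rfl⟩
  apply Subgroup.subset_closure
  refine ⟨p * x * p⁻¹, conj_mem_of_le_normalizer h hp hx, ?_⟩
  show p * x ^ 2 * p⁻¹ = _
  rw [pow_two, pow_two]; group

section pair

variable {T K₁ K₂ : Subgroup G} (h1 : PF T K₁) (h2 : PF T K₂)
    (hc : ¬ Cfsg.wOf K₁ ≤ centralizer (Cfsg.wOf K₂ : Set G))
include h1 h2 hc

/-- an element of `W₁` outside `Q₂` -/
theorem exists_w : ∃ w ∈ Cfsg.wOf K₁, w ∉ QQ T K₂ := by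
  by_contra hcon
  push Not at hcon
  exact hc fun x hx => (mem_inf.mp (hcon x hx)).2

omit h1 hc in
theorem mul_mem_Q₂ {a b : G} (ha : a ∈ T) (hb : b ∈ T) (haQ : a ∉ QQ T K₂) (hbQ : b ∉ QQ T K₂) :
    a⁻¹ * b ∈ QQ T K₂ :=
  mul_mem_of_index_two (A := T) (A₀ := QQ T K₂) inf_le_left h2.card_T ha hb haQ hbQ

theorem sqs_eq : sqs (QQ T K₁) = sqs (QQ T K₁ ⊓ QQ T K₂) := by
  obtain ⟨w, hw, hwQ⟩ := exists_w h1 h2 hc
  have hwQ1 : w ∈ QQ T K₁ := h1.W_le_Q hw
  have hw2 : w ^ 2 = 1 := (ThompsonJ.elemAb_iff.mp EA_wOf).2 w hw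
  apply le_antisymm
  · unfold sqs
    rw [closure_le]
    rintro _ ⟨x, hx, rfl⟩
    by_cases hxQ : x ∈ QQ T K₂
    · exact Subgroup.subset_closure ⟨x, ⟨hx, hxQ⟩, rfl⟩
    · have h3 := mul_mem_Q₂ h2 (mem_inf.mp hwQ1).1 (mem_inf.mp hx).1 hwQ hxQ
      have h4 : w⁻¹ * x ∈ QQ T K₁ := mul_mem (inv_mem hwQ1) hx
      have hcomm : w * x = x * w := (mem_inf.mp hx).2 w hw
      have e : x ^ 2 = (w⁻¹ * x) ^ 2 := by
        have h5 : w⁻¹ * x = x * w⁻¹ := by
          rw [inv_mul_eq_iff_eq_mul, ← mul_assoc, hcomm]; group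
        have h6 : w⁻¹ * w⁻¹ = 1 := by
          have : w⁻¹ * w⁻¹ = (w ^ 2)⁻¹ := by rw [pow_two]; group
          rw [this, hw2, inv_one]
        rw [pow_two, pow_two]
        calc x * x = x * (w⁻¹ * w⁻¹) * x := by rw [h6]; group
          _ = (x * w⁻¹) * (w⁻¹ * x) := by group
          _ = (w⁻¹ * x) * (w⁻¹ * x) := by rw [h5]
      rw [e]
      exact Subgroup.subset_closure ⟨_, ⟨h4, h3⟩, rfl⟩
  · unfold sqs
    apply Subgroup.closure_mono
    rintro _ ⟨x, hx, rfl⟩
    exact ⟨x, (mem_inf.mp hx).1, rfl⟩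

variable (hf : ∀ N ≤ T, K₁ ⊔ T ≤ normalizer (N : Set G) → K₂ ⊔ T ≤ normalizer (N : Set G) → N = ⊥)
include hf

theorem sqs_bot : sqs (QQ T K₁) = ⊥ := by
  apply hf
  · unfold sqs
    rw [closure_le]
    rintro _ ⟨x, hx, rfl⟩
    exact pow_mem (mem_inf.mp hx).1 _
  · exact le_normalizer_sqs h1.P_norm_Q
  · rw [sqs_eq h1 h2 hc, inf_comm, ← sqs_eq h2 h1 (fun hle => hc (le_centralizer_iff.mp hle))]
    exact le_normalizer_sqs h2.P_norm_Q

theorem Q_sq : ∀ x ∈ QQ T K₁, x ^ 2 = 1 := by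
  intro x hx
  have h3 : x ^ 2 ∈ sqs (QQ T K₁) := Subgroup.subset_closure ⟨x, hx, rfl⟩
  rwa [sqs_bot h1 h2 hc hf, mem_bot] at h3

omit h1 h2 hc hf in
theorem comm_of_sq {Q : Subgroup G} (h : ∀ x ∈ Q, x ^ 2 = 1) : Q ≤ centralizer (Q : Set G) := by
  intro x hx y hy
  have h1 := h x hx
  have h2 := h y hy
  have h3 := h (x * y) (mul_mem hx hy)
  rw [pow_two] at h1 h2 h3
  have hx' : x⁻¹ = x := inv_eq_of_mul_eq_one_right h1
  have hy' : y⁻¹ = y := inv_eq_of_mul_eq_one_right h2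
  have h4 : (x * y)⁻¹ = x * y := inv_eq_of_mul_eq_one_right h3
  rw [mul_inv_rev, hx', hy'] at h4
  exact h4

theorem inf_Q_eq : QQ T K₁ ⊓ QQ T K₂ = Cfsg.omegaCenterOf T := by
  have hf' : ∀ N ≤ T, K₂ ⊔ T ≤ normalizer (N : Set G) → K₁ ⊔ T ≤ normalizer (N : Set G) → N = ⊥ :=
    fun N hN a b => hf N hN b a
  have hc' : ¬ Cfsg.wOf K₂ ≤ centralizer (Cfsg.wOf K₁ : Set G) := fun hle => hc (le_centralizer_iff.mp hle)
  have hQ1 := comm_of_sq (Q_sq h1 h2 hc hf)
  have hQ2 := comm_of_sq (Q_sq h2 h1 hc' hf')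
  apply le_antisymm
  · intro x hx
    rw [mem_omegaCenterOf]
    refine ⟨(mem_inf.mp (mem_inf.mp hx).1).1, ?_, Q_sq h1 h2 hc hf x (mem_inf.mp hx).1⟩
    intro t ht
    obtain ⟨w, hw, hwQ⟩ := exists_w h1 h2 hc
    have hwQ1 : w ∈ QQ T K₁ := h1.W_le_Q hw
    have key : ∀ t ∈ QQ T K₂, t * x = x * t := fun t ht => hQ2 (mem_inf.mp hx).2 t ht
    by_cases htQ : t ∈ QQ T K₂
    · exact key t htQ
    · have h3 := mul_mem_Q₂ h2 (mem_inf.mp hwQ1).1 ht hwQ htQ
      have h4 := key _ h3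
      have h5 : w * x = x * w := hQ1 (mem_inf.mp hx).1 w hwQ1
      calc t * x = w * ((w⁻¹ * t) * x) := by group
        _ = w * (x * (w⁻¹ * t)) := by rw [h4]
        _ = (w * x) * (w⁻¹ * t) := by group
        _ = (x * w) * (w⁻¹ * t) := by rw [h5]
        _ = x * t := by group
  · exact le_inf h1.Z₀_le_Q h2.Z₀_le_Q

theorem Q_eq_ZZ : QQ T K₁ = ZZ T K₁ := by
  symm
  apply Subgroup.eq_of_le_of_card_ge h1.ZZ_le_Q
  rw [h1.card_ZZ, ← inf_Q_eq h1 h2 hc hf]
  apply card_le_two_mul_of_mul_mem inf_le_left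
  intro a ha b hb ha' hb'
  refine mem_inf.mpr ⟨mul_mem ha hb, ?_⟩
  have ha2 : a ∉ QQ T K₂ := fun h => ha' (mem_inf.mpr ⟨ha, h⟩)
  have hb2 : b ∉ QQ T K₂ := fun h => hb' (mem_inf.mpr ⟨hb, h⟩)
  have ha3 : a⁻¹ ∉ QQ T K₂ := fun h => ha2 (inv_mem_iff.mp h)
  have := mul_mem_Q₂ h2 (inv_mem (mem_inf.mp ha).1) (mem_inf.mp hb).1 ha3 hb2
  rwa [inv_inv] at this

end pair

/-- the structure of `K₂ T` -/
theorem structure_P {T K : Subgroup G} (h : PF T K) (hsq : ∀ x ∈ QQ T K, x ^ 2 = 1) {w : G} (hwT : w ∈ T)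
    (hw2 : w ^ 2 = 1) (hwQ : w ∉ QQ T K) :
    ∃ H ≤ K ⊔ T, Nat.card H = 6 ∧ H ⊓ QQ T K = ⊥ := by
  -- an element of `K` of odd order
  have hex : ∃ x ∈ K, x ∉ T := by
    by_contra hcon
    push Not at hcon
    have h1 : K ≤ T := hcon
    have h2 := h.inf_eq
    rw [inf_eq_left.mpr h1] at h2
    have h3 := h.card_K
    rw [← h2] at h3
    have := Nat.card_pos (α := K)
    omega
  obtain ⟨x, hxK, hxT⟩ := hex
  have hww : w * w = 1 := by rw [← pow_two]; exact hw2
  have hwi : w⁻¹ = w := inv_eq_of_mul_eq_one_right hww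
  set y := w * x * w⁻¹ * x⁻¹ with hy
  have hyK : y ∈ K := mul_mem (conj_mem_of_le_normalizer h.TK hwT hxK) (inv_mem hxK)
  have hinv : w * y * w⁻¹ = y⁻¹ := by
    rw [hy, hwi]
    have : w * (w * x * w * x⁻¹) * w = (w * w) * x * w * x⁻¹ * w := by group
    rw [this, hww, one_mul]
    have h3 : (w * x * w * x⁻¹)⁻¹ = x * w⁻¹ * x⁻¹ * w⁻¹ := by group
    rw [h3, hwi]
  have hyQ : y ∉ QQ T K := by
    intro hyQ
    -- `x` preserves `C_W(w) = R₀`
    apply hxT
    apply h.mem_T_of_conj (mem_sup_left hxK)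
    have hxW : x ∈ normalizer (Cfsg.wOf K : Set G) := h.P_norm_W (mem_sup_left hxK)
    -- C_W(w) = R₀
    have hCW : ∀ v ∈ Cfsg.wOf K, w * v * w⁻¹ = v → v ∈ RR₀ T K := by
      intro v hv hwv
      by_contra hvR
      -- then `w` centralizes `W`
      apply hwQ
      refine mem_inf.mpr ⟨hwT, ?_⟩
      intro u hu
      have hc4 : Nat.card (Cfsg.wOf K) = 2 * Nat.card (RR₀ T K) := by rw [h.card_R, h.X.Wcard]
      have hwv' : w * v = v * w := by
        calc w * v = (w * v * w⁻¹) * w := by group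
          _ = v * w := by rw [hwv]
      have hRw : ∀ r ∈ RR₀ T K, r * w = w * r := fun r hr => (h.R_cent hr w hwT).symm
      by_cases huR : u ∈ RR₀ T K
      · exact hRw u huR
      · have h3 := mul_mem_of_index_two (A := Cfsg.wOf K) (A₀ := RR₀ T K) inf_le_right hc4 hv hu hvR huR
        have h4 := hRw _ h3
        calc u * w = v * ((v⁻¹ * u) * w) := by group
          _ = v * (w * (v⁻¹ * u)) := by rw [h4]
          _ = (v * w) * (v⁻¹ * u) := by group
          _ = (w * v) * (v⁻¹ * u) := by rw [hwv']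
          _ = w * u := by group
    have hle : cj x (RR₀ T K) ≤ RR₀ T K := by
      rintro _ ⟨r, hr, rfl⟩
      show x * r * x⁻¹ ∈ RR₀ T K
      have hrW : r ∈ Cfsg.wOf K := (mem_inf.mp hr).2
      have hxr : x * r * x⁻¹ ∈ Cfsg.wOf K := by
        have := map_conj_eq_of_mem hxW
        rw [← this]
        exact ⟨r, hrW, rfl⟩
      apply hCW _ hxr
      -- w x r x⁻¹ w⁻¹ = y x w r w⁻¹ x⁻¹ y⁻¹ = y (x r x⁻¹) y⁻¹ = x r x⁻¹
      have h3 : w * r * w⁻¹ = r := by
        have := h.R_cent hr w hwT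
        rw [this]; group
      have h4 : w * (x * r * x⁻¹) * w⁻¹ = y * (x * (w * r * w⁻¹) * x⁻¹) * y⁻¹ := by
        rw [hy]; group
      rw [h4, h3]
      have h5 := (mem_inf.mp hyQ).2 _ hxr
      rw [← h5]; group
    exact Subgroup.eq_of_le_of_card_ge hle (by rw [card_map_conj])
  have hOQ : Cfsg.pCoreOf 2 K ≤ QQ T K := le_inf h.OT (core_le_centralizer_wOf K)
  have hy3 : y ^ 3 ∈ QQ T K := by
    apply hOQ
    have h3 : ((Cfsg.pCoreOf 2 K).subgroupOf K).Normal := normal_subgroupOf_of_le_normalizer (le_normalizer_pCoreOf 2 K)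
    have h4 : ((Cfsg.pCoreOf 2 K).subgroupOf K).index = 3 := h.X.idx
    have h5 := Subgroup.pow_index_mem ((Cfsg.pCoreOf 2 K).subgroupOf K) ⟨y, hyK⟩
    rw [h4, mem_subgroupOf] at h5
    exact h5
  have hy6 : y ^ 6 = 1 := by
    have := hsq _ hy3
    rwa [← pow_mul] at this
  set d := y ^ 4 with hd
  have hd3 : d ^ 3 = 1 := by
    rw [hd, ← pow_mul]
    show y ^ (6 * 2) = 1
    rw [pow_mul, hy6, one_pow]
  have hdQ : d ∉ QQ T K := by
    intro hdQ
    apply hyQ
    have : y = d * (y ^ 3)⁻¹ := by rw [hd]; group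
    rw [this]
    exact mul_mem hdQ (inv_mem hy3)
  have hwd : w * d * w⁻¹ = d⁻¹ := by
    rw [hd, ← conj_pow, hinv, inv_pow]
  have hdK : d ∈ K := pow_mem hyK _
  have hd1 : d ≠ 1 := fun e => hdQ (by rw [e]; exact one_mem _)
  have hdo : orderOf d = 3 := orderOf_eq_prime hd3 hd1
  have hw1 : w ≠ 1 := fun e => hwQ (by rw [e]; exact one_mem _)
  have hwo : orderOf w = 2 := orderOf_eq_prime hw2 hw1
  have hdT : d ∉ T := by
    intro hdT
    exact hd1 (eq_one_of_isPGroup_of_pow h.Tp hdT (by norm_num) hd3)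
  set H := zpowers d ⊔ zpowers w with hH
  have hN : zpowers w ≤ normalizer (zpowers d : Set G) := by
    rw [zpowers_le]
    apply mem_normalizer_of_map_conj_le
    rw [MonoidHom.map_zpowers, zpowers_le]
    show w * d * w⁻¹ ∈ _
    rw [hwd]
    exact inv_mem (mem_zpowers d)
  have hHP : H ≤ K ⊔ T := sup_le (by rw [zpowers_le]; exact mem_sup_left hdK) (by rw [zpowers_le]; exact mem_sup_right hwT)
  have hHcard : Nat.card H = 6 := by
    have h3 := SubgroupTools.card_sup_mul_card_inf hN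
    rw [Nat.card_zpowers, Nat.card_zpowers, hdo, hwo] at h3
    have h4 : zpowers d ⊓ zpowers w = ⊥ := by
      apply Subgroup.eq_bot_of_card_eq
      have h5 := Subgroup.card_dvd_of_le (inf_le_left : zpowers d ⊓ zpowers w ≤ zpowers d)
      have h6 := Subgroup.card_dvd_of_le (inf_le_right : zpowers d ⊓ zpowers w ≤ zpowers w)
      rw [Nat.card_zpowers, hdo] at h5
      rw [Nat.card_zpowers, hwo] at h6
      have h7 := Nat.dvd_gcd h5 h6
      norm_num at h7
      exact h7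
    rw [h4, card_bot, mul_one] at h3
    exact h3
  refine ⟨H, hHP, hHcard, ?_⟩
  -- `H Q = P`
  have hPN := h.P_norm_Q
  have h3 := SubgroupTools.card_sup_mul_card_inf (hHP.trans hPN)
  have h4 : QQ T K ⊔ H = K ⊔ T := by
    have hTH : T ≤ QQ T K ⊔ H := by
      intro t ht
      by_cases htQ : t ∈ QQ T K
      · exact mem_sup_left htQ
      · have := mul_mem_of_index_two (A := T) (A₀ := QQ T K) inf_le_left h.card_T ht hwT htQ hwQ
        have e : t = w * (t⁻¹ * w)⁻¹ := by group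
        rw [e]
        exact mul_mem (mem_sup_right (mem_sup_right (mem_zpowers w))) (inv_mem (mem_sup_left this))
    have hlt : T < QQ T K ⊔ H := by
      refine lt_of_le_of_ne hTH ?_
      intro e
      apply hdT
      rw [e]
      exact mem_sup_right (mem_sup_left (mem_zpowers d))
    have hle : QQ T K ⊔ H ≤ K ⊔ T := sup_le (inf_le_left.trans le_sup_right) hHP
    apply Subgroup.eq_of_le_of_card_ge hle
    have hc1 := Subgroup.card_dvd_of_le hle
    have hc2 := Subgroup.card_dvd_of_le hTH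
    have hc3 := two_mul_card_le hlt
    rw [h.card_P] at hc1 ⊢
    obtain ⟨a, ha⟩ := hc2
    obtain ⟨b, hb⟩ := hc1
    have hTpos : 0 < Nat.card T := Nat.card_pos
    have hab : a * b = 3 := by
      rw [ha] at hb
      apply Nat.eq_of_mul_eq_mul_left hTpos
      rw [← mul_assoc, ← hb]; ring
    have ha3 : a ∣ 3 := ⟨b, hab.symm⟩
    rcases (Nat.dvd_prime Nat.prime_three).mp ha3 with e | e
    · rw [e] at ha; omega
    · rw [ha, e]; linarith
  rw [h4, h.card_P, h.card_T, hHcard] at h3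
  apply Subgroup.eq_bot_of_card_eq
  have h5 : 0 < Nat.card (QQ T K) := Nat.card_pos
  apply Nat.eq_of_mul_eq_mul_left h5
  rw [mul_one]
  have h6 : 3 * (2 * Nat.card (QQ T K)) * Nat.card (H ⊓ QQ T K : Subgroup G) = Nat.card (QQ T K) * 6 := by
    rw [inf_comm H (QQ T K)]; exact h3
  linarith

/-- `W H ≅ S₄` -/
theorem perm4_sub {T K H : Subgroup G} (h : PF T K) (hHP : H ≤ K ⊔ T) (hH : Nat.card H = 6) (hHQ : H ⊓ QQ T K = ⊥) :
    Nat.card (Cfsg.wOf K ⊔ H : Subgroup G) = 24 ∧ Nonempty (↥(Cfsg.wOf K ⊔ H) ≃* Equiv.Perm (Fin 4)) := by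
  have hN : H ≤ normalizer (Cfsg.wOf K : Set G) := hHP.trans h.P_norm_W
  have hWH : Cfsg.wOf K ⊓ H = ⊥ := by
    rw [eq_bot_iff, ← hHQ]
    exact le_inf inf_le_right (inf_le_left.trans h.W_le_Q)
  have hc : Nat.card (Cfsg.wOf K ⊔ H : Subgroup G) = 24 := by
    have h1 := SubgroupTools.card_sup_mul_card_inf hN
    rw [hWH, card_bot, mul_one, h.X.Wcard, hH] at h1
    exact h1
  refine ⟨hc, ?_⟩
  have hle : H ≤ Cfsg.wOf K ⊔ H := le_sup_right
  apply perm4_of (H.subgroupOf (Cfsg.wOf K ⊔ H)) hc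
  · rw [Nat.card_congr (Subgroup.subgroupOfEquivOfLe hle).toEquiv, hH]
  · intro N hNn hNH
    have h1 : N.map (Cfsg.wOf K ⊔ H).subtype ≤ H := by
      rintro _ ⟨n, hn, rfl⟩
      exact mem_subgroupOf.mp (hNH hn)
    have h2 : Cfsg.wOf K ⊔ H ≤ normalizer (N.map (Cfsg.wOf K ⊔ H).subtype : Set G) := by
      intro x hx
      apply mem_normalizer_of_map_conj_le
      rintro _ ⟨_, ⟨n, hn, rfl⟩, rfl⟩
      exact ⟨⟨x, hx⟩ * n * ⟨x, hx⟩⁻¹, hNn.conj_mem n hn _, rfl⟩
    set M := N.map (Cfsg.wOf K ⊔ H).subtype with hM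
    have h3 : ⁅M, Cfsg.wOf K⁆ ≤ ⊥ := by
      rw [← hWH]
      refine le_inf ?_ ?_
      · exact commutator_le_right_of_le (h1.trans hN)
      · exact (commutator_le_left_of_le (le_sup_left.trans h2)).trans h1
    rw [le_bot_iff, commutator_eq_bot_iff_le_centralizer] at h3
    have h4 : M ≤ ⊥ := by
      rw [← hHQ]
      refine le_inf h1 ?_
      show M ≤ T ⊓ centralizer (Cfsg.wOf K : Set G)
      rw [← h.Q_eq]
      exact le_inf (h1.trans hHP) h3
    rw [le_bot_iff, hM, Subgroup.map_eq_bot_iff_of_injective _ (Subgroup.subtype_injective _)] at h4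
    exact h4

theorem card_two_equiv {B : Type*} [Group B] [Finite B] (h : Nat.card B = 2) : Nonempty (B ≃* Multiplicative (ZMod 2)) := by
  have : Fact (Nat.Prime 2) := ⟨Nat.prime_two⟩
  have h1 : IsCyclic B := isCyclic_of_prime_card h
  have h2 : Nat.card (Multiplicative (ZMod 2)) = 2 := by
    rw [Nat.card_eq_of_bijective Multiplicative.toAdd Multiplicative.toAdd.bijective, Nat.card_zmod]
  have h3 : IsCyclic (Multiplicative (ZMod 2)) := isCyclic_of_prime_card h2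
  exact ⟨mulEquivOfCyclicCardEq (h.trans h2.symm)⟩

/-- Final structure -/
theorem iso_of {T K : Subgroup G} (h : PF T K) (hQ : QQ T K = ZZ T K) {w : G} (hwT : w ∈ T)
    (hw2 : w ^ 2 = 1) (hwQ : w ∉ QQ T K) :
    (Nat.card (Cfsg.omegaCenterOf T) = 2 → Nonempty (↥(K ⊔ T) ≃* Equiv.Perm (Fin 4))) ∧
    (Nat.card (Cfsg.omegaCenterOf T) = 4 → Nonempty (↥(K ⊔ T) ≃* Equiv.Perm (Fin 4) × Multiplicative (ZMod 2))) := by
  obtain ⟨H, hHP, hH, hHQ⟩ := structure_P h (by rw [hQ]; exact (ThompsonJ.elemAb_iff.mp h.EA_ZZ).2) hwT hw2 hwQ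
  obtain ⟨hc, ⟨e⟩⟩ := perm4_sub h hHP hH hHQ
  have hWP : Cfsg.wOf K ≤ K ⊔ T := h.W_le_T.trans le_sup_right
  have hle : Cfsg.wOf K ⊔ H ≤ K ⊔ T := sup_le hWP hHP
  constructor
  · intro h2
    have h3 : Cfsg.wOf K ⊔ H = K ⊔ T := by
      apply Subgroup.eq_of_le_of_card_ge hle
      have h4 := h.card_T
      have h5 : Nat.card (QQ T K) = 4 := by rw [hQ, h.card_ZZ, h2]
      rw [h.card_P, hc, h4]
      have h6 : Nat.card (T ⊓ centralizer (Cfsg.wOf K : Set G) : Subgroup G) = 4 := h5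
      rw [h6]
    rw [← h3]
    exact ⟨e⟩
  · intro h2
    set B := ZZ T K ⊓ centralizer ((K ⊔ T : Subgroup G) : Set G) with hB
    have hBle := h.card_cent
    rw [← hB] at hBle
    have hBcard : Nat.card B = 2 := by
      have h3 := h.X.Z₀_decomp
      set B' := Cfsg.omegaCenterOf (JJ T) ⊓ ((K ⊔ JJ T) ⊓ centralizer ((K ⊔ JJ T : Subgroup G) : Set G)) with hB'
      have h4 : B' ≤ B := by
        refine le_inf ?_ ?_
        · refine le_trans ?_ (le_sup_left : Cfsg.omegaCenterOf T ≤ ZZ T K)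
          rw [h.ZT]; exact inf_le_left
        · rw [le_centralizer_iff]
          refine sup_le ?_ ?_
          · rw [le_centralizer_iff]
            exact (inf_le_right.trans inf_le_right).trans (centralizer_le (SetLike.coe_subset_coe.mpr le_sup_left))
          · rw [le_centralizer_iff]
            refine le_trans ?_ (omegaCenterOf_le_centralizer T)
            rw [h.ZT]; exact inf_le_left
      have h5 : 2 ≤ Nat.card B' := by
        by_contra hcon
        have h6 : B' = ⊥ := by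
          apply Subgroup.eq_bot_of_card_eq
          have := Nat.card_pos (α := B')
          omega
        rw [h6, bot_sup_eq] at h3
        have h7 := h.X.card_Z₀_inf_W
        rw [h3, ← h.ZT, h2] at h7
        omega
      have h6 := card_le_of_le h4
      omega
    have hBc : ∀ b ∈ B, ∀ p ∈ Cfsg.wOf K ⊔ H, p * b = b * p := fun b hb p hp => (mem_inf.mp hb).2 p (hle hp)
    have hdis : B ⊓ (Cfsg.wOf K ⊔ H) = ⊥ := by
      rw [eq_bot_iff, ← h.W_inf_cent]
      intro b hb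
      refine mem_inf.mpr ⟨?_, (mem_inf.mp (mem_inf.mp hb).1).2⟩
      obtain ⟨v, hv, x, hx, e⟩ := exists_mul_of_mem_sup_of_le (hHP.trans h.P_norm_W) (mem_inf.mp hb).2
      have hbQ : b ∈ QQ T K := h.ZZ_le_Q (mem_inf.mp (mem_inf.mp hb).1).1
      have hxQ : x ∈ H ⊓ QQ T K := by
        refine mem_inf.mpr ⟨hx, ?_⟩
        have : x = v⁻¹ * b := by rw [e]; group
        rw [this]
        exact mul_mem (inv_mem (h.W_le_Q hv)) hbQ
      rw [hHQ, mem_bot] at hxQ
      rw [e, hxQ, mul_one]; exact hv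
    let f : ↥(Cfsg.wOf K ⊔ H) × ↥B →* ↥(K ⊔ T) :=
      { toFun := fun x => ⟨(x.1 : G) * (x.2 : G), mul_mem (hle x.1.2) (mem_sup_right ((inf_le_left.trans h.ZZ_le_Q).trans inf_le_left x.2.2))⟩
        map_one' := by
          apply Subtype.ext
          show (1 : G) * 1 = 1
          rw [mul_one]
        map_mul' := by
          rintro ⟨a, b⟩ ⟨c, d⟩
          apply Subtype.ext
          show (a : G) * c * (b * d) = a * b * (c * d)
          have := hBc b b.2 c c.2
          calc (a : G) * c * (b * d) = a * (c * b) * d := by group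
            _ = a * (b * c) * d := by rw [this]
            _ = _ := by group }
    have hf : Function.Injective f := by
      rw [injective_iff_map_eq_one]
      rintro ⟨a, b⟩ hab
      have h3 : (a : G) * b = 1 := congrArg Subtype.val hab
      have h4 : (b : G) ∈ B ⊓ (Cfsg.wOf K ⊔ H) := by
        refine mem_inf.mpr ⟨b.2, ?_⟩
        have : (b : G) = (a : G)⁻¹ := (inv_eq_of_mul_eq_one_right h3).symm
        rw [this]; exact inv_mem a.2
      rw [hdis, mem_bot] at h4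
      rw [h4, mul_one] at h3
      exact Prod.ext (Subtype.ext h3) (Subtype.ext h4)
    have hbij : Function.Bijective f := by
      have : Fintype (↥(Cfsg.wOf K ⊔ H) × ↥B) := Fintype.ofFinite _
      have : Fintype ↥(K ⊔ T) := Fintype.ofFinite _
      rw [Fintype.bijective_iff_injective_and_card]
      refine ⟨hf, ?_⟩
      rw [← Nat.card_eq_fintype_card, ← Nat.card_eq_fintype_card, Nat.card_prod, hc, hBcard, h.card_P, h.card_T]
      have h5 : Nat.card (QQ T K) = 8 := by rw [hQ, h.card_ZZ, h2]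
      have h6 : Nat.card (T ⊓ centralizer (Cfsg.wOf K : Set G) : Subgroup G) = 8 := h5
      rw [h6]
    obtain ⟨e2⟩ := card_two_equiv hBcard
    exact ⟨(MulEquiv.ofBijective f hbij).symm.trans (e.prodCongr e2)⟩

end Cfsg.Agent.Lib.AmG
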