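import Cfsg.Prelude.Def_Involutions
import Cfsg.Agent.Lib.InvAct

/-!
# Strongly embedded subgroups: every involution fixes exactly one coset (helper21)
-/

set_option autoImplicit false

namespace Cfsg.Agent.Lib.StrongEmbPt

open MulAction Cfsg.Agent.Lib.InvAct

variable {G : Type*} [Group G]

theorem smul_mk_eq_iff {H : Subgroup G} (t g : G) :
    t • (QuotientGroup.mk g : G ⧸ H) = QuotientGroup.mk g ↔ g⁻¹ * t * g ∈ H := by
  rw [MulAction.Quotient.smul_mk, eq_comm, QuotientGroup.eq, smul_eq_mul, mul_assoc]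

theorem smul_one_eq_iff {H : Subgroup G} (t : G) :
    t • (QuotientGroup.mk 1 : G ⧸ H) = QuotientGroup.mk 1 ↔ t ∈ H := by
  rw [smul_mk_eq_iff]; simp

theorem mem_stabilizer_mk {H : Subgroup G} (t g : G) :
    t ∈ stabilizer G (QuotientGroup.mk g : G ⧸ H) ↔ g⁻¹ * t * g ∈ H :=
  smul_mk_eq_iff t g

theorem stabilizer_mk {H : Subgroup G} (g : G) :
    stabilizer G (QuotientGroup.mk g : G ⧸ H) = H.map (MulAut.conj g).toMonoidHom := by
  ext t
  rw [mem_stabilizer_mk]
  constructor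
  · intro h
    exact ⟨g⁻¹ * t * g, h, by simp [mul_assoc]⟩
  · rintro ⟨z, hz, rfl⟩
    simpa [mul_assoc] using hz

theorem stabilizer_one {H : Subgroup G} :
    stabilizer G (QuotientGroup.mk 1 : G ⧸ H) = H := by
  ext t
  rw [mem_stabilizer_mk]; simp

theorem odd_inf_no_involution [Finite G] {K : Subgroup G} (h : Odd (Nat.card K)) {t : G}
    (ht : orderOf t = 2) (hK : t ∈ K) : False := by
  have h1 : orderOf (⟨t, hK⟩ : K) ∣ Nat.card K := orderOf_dvd_natCard _
  rw [Subgroup.orderOf_mk, ht] at h1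
  obtain ⟨k, hk⟩ := h
  omega

theorem unique_fix_point [Finite G] {H : Subgroup G} (hH : Cfsg.IsStronglyEmbedded H) {t : G}
    (ht : orderOf t = 2) {x y : G ⧸ H} (hx : t • x = x) (hy : t • y = y) : x = y := by
  induction x using QuotientGroup.induction_on with
  | H g1 =>
  induction y using QuotientGroup.induction_on with
  | H g2 =>
  rw [smul_mk_eq_iff] at hx hy
  rw [QuotientGroup.eq]
  by_contra hne
  have h1 := hH.2.2 (g1⁻¹ * g2) hne
  have h2 : orderOf (g1⁻¹ * t * g1) = 2 := by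
    have := orderOf_injective (MulAut.conj g1⁻¹).toMonoidHom (MulAut.conj g1⁻¹).injective t
    simpa [ht] using this
  refine odd_inf_no_involution h1 h2 ⟨hx, ?_⟩
  exact ⟨g2⁻¹ * t * g2, hy, by simp [mul_assoc]⟩

/-- a subgroup of even order contains an involution. -/
theorem exists_involution [Finite G] {K : Subgroup G} (h : Even (Nat.card K)) :
    ∃ t ∈ K, orderOf t = 2 := by
  haveI : Fact (Nat.Prime 2) := ⟨Nat.prime_two⟩
  obtain ⟨t, ht⟩ := exists_prime_orderOf_dvd_card' (G := K) 2 h.two_dvd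
  exact ⟨t, t.2, by rw [Subgroup.orderOf_coe]; exact ht⟩

theorem card_fixedPoints_zpowers [Finite G] {Ω : Type*} [MulAction G Ω] [Finite Ω] {t : G}
    (ht : orderOf t = 2) :
    Nat.card Ω ≡ Nat.card {x : Ω // t • x = x} [MOD 2] := by
  haveI : Fact (Nat.Prime 2) := ⟨Nat.prime_two⟩
  have hp : IsPGroup 2 (Subgroup.zpowers t) := by
    apply IsPGroup.of_card (n := 1)
    rw [Nat.card_zpowers, ht, pow_one]
  have h1 := hp.card_modEq_card_fixedPoints Ω
  have h2 : Nat.card ↑(fixedPoints (Subgroup.zpowers t) Ω) = Nat.card {x : Ω // t • x = x} := by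
    apply Nat.card_congr
    refine ⟨fun x => ⟨x.1, x.2 ⟨t, Subgroup.mem_zpowers t⟩⟩, fun x => ⟨x.1, ?_⟩, fun x => rfl,
      fun x => rfl⟩
    rintro ⟨g, hg⟩
    have h3 : t ∈ stabilizer G x.1 := x.2
    have h4 : g ∈ stabilizer G x.1 := (Subgroup.zpowers_le.2 h3) hg
    exact h4
  rw [h2] at h1
  exact h1

theorem uniqueFix [Finite G] {H : Subgroup G} (hH : Cfsg.IsStronglyEmbedded H) :
    UniqueFix G (G ⧸ H) := by
  obtain ⟨t0, ht0H, ht0⟩ := exists_involution hH.2.1
  have hodd : Nat.card (G ⧸ H) ≡ 1 [MOD 2] := by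
    refine (card_fixedPoints_zpowers ht0).trans ?_
    have : Nat.card {x : G ⧸ H // t0 • x = x} = 1 := by
      rw [Nat.card_eq_one_iff_unique]
      refine ⟨⟨fun a b => Subtype.ext (unique_fix_point hH ht0 a.2 b.2)⟩, ⟨⟨QuotientGroup.mk 1, ?_⟩⟩⟩
      rw [smul_one_eq_iff]; exact ht0H
    rw [this]
  intro t ht
  have h1 := card_fixedPoints_zpowers (Ω := G ⧸ H) ht
  have h2 : Nat.card {x : G ⧸ H // t • x = x} ≠ 0 := by
    intro h0
    rw [h0] at h1
    have := h1.symm.trans hodd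
    exact absurd this (by decide)
  have h3 : Nonempty {x : G ⧸ H // t • x = x} := (Nat.card_ne_zero.1 h2).1
  obtain ⟨x, hx⟩ := h3
  exact ⟨x, hx, fun y hy => unique_fix_point hH ht hy hx⟩

theorem odd_index [Finite G] {H : Subgroup G} (hH : Cfsg.IsStronglyEmbedded H) :
    Odd H.index := by
  obtain ⟨t0, ht0H, ht0⟩ := exists_involution hH.2.1
  have hodd : Nat.card (G ⧸ H) ≡ 1 [MOD 2] := by
    refine (card_fixedPoints_zpowers ht0).trans ?_
    have : Nat.card {x : G ⧸ H // t0 • x = x} = 1 := by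
      rw [Nat.card_eq_one_iff_unique]
      refine ⟨⟨fun a b => Subtype.ext (unique_fix_point hH ht0 a.2 b.2)⟩, ⟨⟨QuotientGroup.mk 1, ?_⟩⟩⟩
      rw [smul_one_eq_iff]; exact ht0H
    rw [this]
  rw [Nat.odd_iff]; exact hodd

/-- `gxg⁻¹ ∈ H` and `x ∈ H` for an involution `x` force `g ∈ H`. -/
theorem mem_of_conj_mem [Finite G] {H : Subgroup G} (hH : Cfsg.IsStronglyEmbedded H) {x g : G}
    (hx : orderOf x = 2) (hxH : x ∈ H) (hg : g * x * g⁻¹ ∈ H) : g ∈ H := by
  have h1 : x • (QuotientGroup.mk 1 : G ⧸ H) = QuotientGroup.mk 1 := (smul_one_eq_iff x).2 hxH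
  have h2 : x • (QuotientGroup.mk g⁻¹ : G ⧸ H) = QuotientGroup.mk g⁻¹ := by
    rw [smul_mk_eq_iff]; simpa using hg
  have := unique_fix_point hH hx h1 h2
  rw [QuotientGroup.eq] at this
  simpa using this

/-- centralizers of involutions of `H` lie in `H`. -/
theorem centralizer_le [Finite G] {H : Subgroup G} (hH : Cfsg.IsStronglyEmbedded H) {x : G}
    (hx : orderOf x = 2) (hxH : x ∈ H) : Subgroup.centralizer ({x} : Set G) ≤ H := by
  intro g hg
  have := Subgroup.mem_centralizer_singleton_iff.1 hg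
  apply mem_of_conj_mem hH hx hxH
  rw [this]; simpa using hxH

theorem normalizer_le [Finite G] {H K : Subgroup G} (hH : Cfsg.IsStronglyEmbedded H) {x : G}
    (hx : orderOf x = 2) (hxK : x ∈ K) (hKH : K ≤ H) : Subgroup.normalizer (K : Set G) ≤ H := by
  intro g hg
  apply mem_of_conj_mem hH hx (hKH hxK)
  exact hKH ((Subgroup.mem_normalizer_iff.1 hg x).1 hxK)

/-- Sufficient condition for strong embedding. -/
theorem of_fix [Finite G] {H : Subgroup G} (h1 : H ≠ ⊤) (h2 : Even (Nat.card H))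
    (h3 : ∀ x g : G, orderOf x = 2 → x ∈ H → g * x * g⁻¹ ∈ H → g ∈ H) :
    Cfsg.IsStronglyEmbedded H := by
  refine ⟨h1, h2, fun g hg => ?_⟩
  rw [← Nat.not_even_iff_odd]
  intro heven
  obtain ⟨t, ⟨htH, htg⟩, ht⟩ := exists_involution heven
  apply hg
  have h4 : g⁻¹ ∈ H := by
    apply h3 t g⁻¹ ht htH
    obtain ⟨z, hz, hzt⟩ := htg
    have : z = g⁻¹ * t * g⁻¹⁻¹ := by rw [← hzt]; simp [mul_assoc]
    rw [← this]; exact hz
  simpa using H.inv_mem h4

end Cfsg.Agent.Lib.StrongEmbPt
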