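import Cfsg.Agent.Lib.ZNStrad

/-!
Kurzweil–Stellmacher 12.1.9–12.2.1: generation of `L` by components and `N_L(J(T))`; uniqueness of the maximal 2-local
subgroup containing `⟨K, J(T)⟩`.
-/

set_option autoImplicit false
set_option linter.unusedSectionVars false

namespace Cfsg.Agent.Lib.ZN

open Subgroup commutatorElement Cfsg.Agent.Lib.LocBase Cfsg.Agent.Lib.TvTransfer Cfsg.Agent.Lib.TvStruct
open scoped Pointwise

universe u

variable {G : Type u} [Group G] [Finite G]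

/-- the subgroup generated by the components in `L` -/
def FL (J L : Subgroup G) : Subgroup G := ⨆ K ∈ {K : Subgroup G | K ≤ L ∧ XFacts J K}, K

theorem le_FL {J L K : Subgroup G} (hKL : K ≤ L) (h : XFacts J K) : K ≤ FL J L :=
  le_iSup₂_of_le K ⟨hKL, h⟩ le_rfl

theorem FL_le (J L : Subgroup G) : FL J L ≤ L := iSup₂_le fun _ h => h.1

theorem LH.conj_J_le_normalizer_pre {T L : Subgroup G} (h : LH T L) (hZN : ZNHyp G) {y : G} (hy : y ∈ L) {t : ↥L}
    (htv : IsTv (VL T L) (t : G)) :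
    cj y (JJ T) ≤ normalizer (pre (h.act hZN).norm (Dt (RR (h.act hZN).norm) (psi (h.act hZN).norm t)) : Set G) := by
  set A := h.act hZN with hA
  have S := A.setup
  have htH : psi A.norm t ∈ HH A.norm := ⟨_, rfl⟩
  have htv' : IsTv (VV (VL T L)) (psi A.norm t) := (isTv_psi_iff A.norm t).mpr htv
  have hx' := h.conj hy
  have hJ := hx'.JJ_le_closure hZN
  rw [VL_conj hy] at hJ
  rw [JJ_conj]
  refine hJ.trans (sup_le ?_ ?_)
  · rw [closure_le]
    intro s hs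
    have hsL : s ∈ L := hx'.syl.le (JJ_le _ hs.1)
    have h1 : zpowers s ≤ normalizer (pre A.norm (Dt (RR A.norm) (psi A.norm t)) : Set G) := by
      apply le_normalizer_pre A.norm (by rwa [zpowers_le])
      intro y hy
      obtain ⟨x, hx, rfl⟩ := mem_img.mp hy
      obtain ⟨k, hk⟩ := hx
      have h2 : x = ⟨s, hsL⟩ ^ k := Subtype.ext hk.symm
      rw [h2, map_zpow]
      exact zpow_mem (S.mem_normalizer_Dt' ⟨_, rfl⟩ ((isTv_psi_iff A.norm ⟨s, hsL⟩).mpr hs.2) htH htv') k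
    exact h1 (mem_zpowers s)
  · refine (inf_le_right.trans ?_).trans le_normalizer
    intro x hx
    refine mem_pre.mpr ⟨pCoreOf_le L hx, ?_⟩
    rw [(psi_eq_one_iff A.norm ⟨x, pCoreOf_le L hx⟩).mpr (h.core_le_centralizer hx)]
    exact one_mem _

theorem LH.le_FL_sup {T L : Subgroup G} (h : LH T L) (hZN : ZNHyp G) :
    L ≤ FL (JJ T) L ⊔ (L ⊓ normalizer (JJ T : Set G)) := by
  set A := h.act hZN with hA
  have S := A.setup
  set X := FL (JJ T) L ⊔ (L ⊓ normalizer (JJ T : Set G)) with hX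
  have hJX : JJ T ≤ X := (le_inf h.JJ_leL le_normalizer).trans le_sup_right
  have hCX : CL T L ≤ X := by
    refine (le_inf inf_le_left ?_).trans le_sup_right
    have := h.CL_le_normalizer_JJ hZN (one_mem L)
    rwa [show cj (1 : G) (JJ T) = JJ T from map_conj_one _] at this
  have hQX : Cfsg.pCoreOf 2 L ≤ X := h.core_le_CL.trans hCX
  have hEN : ∀ {t : ↥L}, IsTv (VL T L) (t : G) → EL T L ≤ normalizer
      (pre A.norm (Dt (RR A.norm) (psi A.norm t)) : Set G) := fun htv =>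
    iSup_le fun y => h.conj_J_le_normalizer_pre hZN y.2 htv
  have hsyl : IsSyl 2 (T ⊓ EL T L) (EL T L) := h.syl.inf_normal (EL_le h.JJ_leL) (le_normalizer_EL T L)
  refine (frattini_EL h.syl).ge.trans (sup_le ?_ le_sup_right)
  apply iSup_le
  rintro ⟨x, hx⟩
  have hx' := h.conj hx
  have hJ := hx'.JJ_le_closure hZN
  rw [VL_conj hx] at hJ
  show cj x (JJ T) ≤ X
  rw [JJ_conj]
  refine hJ.trans (sup_le ?_ (inf_le_right.trans hQX))
  rw [closure_le]
  rintro s ⟨hsJ, hsv⟩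
  have hsL : s ∈ L := hx'.syl.le (JJ_le _ hsJ)
  -- conjugate into `T` by an element of `E`
  have hxJE : cj x (JJ T) ≤ EL T L := conj_JJ_le_EL hx
  have hJp : IsPGroup 2 (cj x (JJ T)) := (h.syl.pgroup.to_le (JJ_le T)).map _
  obtain ⟨e, he, hle⟩ := hsyl.exists_conj_le hJp hxJE
  have heL : e ∈ L := EL_le h.JJ_leL he
  have hexL : e * x ∈ L := mul_mem heL hx
  have h1 : cj (e * x) (JJ T) ≤ T := by
    show Subgroup.map _ _ ≤ T
    rw [map_conj_mul]
    exact hle.trans inf_le_left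
  have h2 : cj (e * x) (JJ T) = JJ T := by
    rw [JJ_conj] at h1 ⊢
    exact JJ_eq_of_isSyl (h.syl_conj hexL) h.syl h1
  set s' := e * s * e⁻¹ with hs'
  have hs'L : s' ∈ L := mul_mem (mul_mem heL hsL) (inv_mem heL)
  have hs'J : s' ∈ JJ T := by
    rw [← h2]
    show s' ∈ (JJ T).map _
    rw [map_conj_mul]
    have h3 : s ∈ cj x (JJ T) := by rw [JJ_conj]; exact hsJ
    exact ⟨s, h3, rfl⟩
  have hsH : psi A.norm ⟨s, hsL⟩ ∈ HH A.norm := ⟨_, rfl⟩
  have heH : psi A.norm ⟨e, heL⟩ ∈ HH A.norm := ⟨_, rfl⟩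
  have hsv' : IsTv (VV (VL T L)) (psi A.norm ⟨s, hsL⟩) := (isTv_psi_iff A.norm ⟨s, hsL⟩).mpr hsv
  have hψs' : psi A.norm ⟨s', hs'L⟩ = psi A.norm ⟨e, heL⟩ * psi A.norm ⟨s, hsL⟩ * (psi A.norm ⟨e, heL⟩)⁻¹ := by
    rw [← map_inv, ← map_mul, ← map_mul]; rfl
  have hs'v' : IsTv (VV (VL T L)) (psi A.norm ⟨s', hs'L⟩) := by
    rw [hψs']; exact S.tv_conj heH hsv'
  have hs'v : IsTv (VL T L) s' := (isTv_psi_iff A.norm ⟨s', hs'L⟩).mp hs'v'
  -- `e` normalizes `Dt (ψ s)`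
  have hDe : Dt (RR A.norm) (psi A.norm ⟨s', hs'L⟩) = Dt (RR A.norm) (psi A.norm ⟨s, hsL⟩) := by
    rw [hψs', ← S.Dt_conj heH]
    have h3 := hEN (t := ⟨s, hsL⟩) hsv he
    set D := Dt (RR A.norm) (psi A.norm ⟨s, hsL⟩) with hD
    have hDH : D ≤ HH A.norm := S.Dt_leH hsH hsv'
    have h4 : imf (psi A.norm) (zpowers e) ≤ normalizer (imf (psi A.norm) (pre A.norm D) : Set _) :=
      imf_normalizer_le _ (by rw [zpowers_le]; exact h3)
    have h5 : imf (psi A.norm) (pre A.norm D) = D := img_pre A.norm hDH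
    rw [h5] at h4
    exact map_conj_eq_of_mem (h4 (apply_mem_imf _ (x := ⟨e, heL⟩) (mem_zpowers e)))
  obtain ⟨K, hKL, hK, hKD⟩ := h.exists_comp hZN (t := ⟨s', hs'L⟩) hs'J hs'v
  have h3 := S.mem_of_eq hsH hsv' (t := psi A.norm ⟨s', hs'L⟩) ⟨_, rfl⟩ hs'v' hDe.symm
  rw [← hA] at hKD
  rw [← hKD] at h3
  have h4 : img A.norm K ⊔ zpowers (psi A.norm ⟨s', hs'L⟩) ≤ img A.norm (K ⊔ zpowers s') := by
    refine sup_le (img_mono le_sup_left) ?_
    rw [zpowers_le]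
    exact psi_mem_img A.norm (mem_sup_right (mem_zpowers _))
  have h5 : K ⊔ zpowers s' ≤ L := sup_le hKL (by rw [zpowers_le]; exact hs'L)
  have h6 : s ∈ pre A.norm (img A.norm (K ⊔ zpowers s')) := mem_pre.mpr ⟨hsL, h4 h3⟩
  rw [pre_img A.norm h5] at h6
  have h7 : (K ⊔ zpowers s') ⊔ (L ⊓ centralizer (VL T L : Set G)) ≤ X := by
    refine sup_le (sup_le ?_ ?_) hCX
    · exact (le_FL hKL hK).trans le_sup_left
    · rw [zpowers_le]; exact hJX hs'J
  exact h7 h6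

theorem XFacts.conj_of_mem {J K : Subgroup G} (h : XFacts J K) {x : G} (hx : x ∈ normalizer (J : Set G)) :
    XFacts J (cj x K) := by
  have := h.conj x
  rwa [show cj x J = J from map_conj_eq_of_mem hx] at this

theorem XFacts.cl3 {T K : Subgroup G} (h : XFacts (JJ T) K) : CL3 T K := ⟨h.comm, h.res, h.idx⟩

theorem LH.le_normalizer_FL {T L : Subgroup G} (h : LH T L) (hZN : ZNHyp G) :
    L ≤ normalizer (FL (JJ T) L : Set G) := by
  refine (frattini_EL h.syl).ge.trans (sup_le ?_ ?_)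
  · intro e he
    apply mem_normalizer_of_map_conj_le
    unfold FL
    rw [Subgroup.map_iSup]
    apply iSup_le
    intro K
    rw [Subgroup.map_iSup]
    apply iSup_le
    intro hK
    have h1 : e ∈ normalizer (K : Set G) := h.EL_le_normalizer hZN hK.2.cl3 hK.1 he
    rw [map_conj_eq_of_mem h1]
    exact le_iSup₂_of_le K hK le_rfl
  · rintro n ⟨hnL, hnJ⟩
    apply mem_normalizer_of_map_conj_le
    unfold FL
    rw [Subgroup.map_iSup]
    apply iSup_le
    intro K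
    rw [Subgroup.map_iSup]
    apply iSup_le
    intro hK
    refine le_iSup₂_of_le (cj n K) ⟨?_, hK.2.conj_of_mem hnJ⟩ le_rfl
    exact (Subgroup.map_mono hK.1).trans (map_conj_eq_of_mem (le_normalizer hnL)).le

theorem exists_maximal_twoLocal {N : Subgroup G} (hN : Cfsg.IsTwoLocal N) :
    ∃ L, Cfsg.IsMaximalTwoLocal L ∧ N ≤ L := by
  obtain ⟨L, hL, hmax⟩ := (Set.toFinite {X : Subgroup G | Cfsg.IsTwoLocal X ∧ N ≤ X}).exists_maximal ⟨N, hN, le_rfl⟩
  exact ⟨L, ⟨hL.1, fun N' hN' hle => le_antisymm (hmax ⟨hN', hL.2.trans hle⟩ hle) hle⟩, hL.2⟩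

/-- a component outside `M` lies in `𝒦₀(T)` -/
theorem zero_of_not_le (hZN : ZNHyp G) {M T K : Subgroup G} {S : Sylow 2 G} (hM : MHyp G M S)
    (hT : T ∈ Cfsg.maxStraddlingTwoSubgroups M) (hK : XFacts (JJ T) K) (hKM : ¬ K ≤ M) : Zero (JJ T) K := by
  refine ⟨hK, ?_⟩
  intro S' hJS' hS'
  have hloc : Cfsg.IsTwoLocal (normalizer (Cfsg.wOf K : Set G)) :=
    ⟨_, ThompsonJ.elemAb_isPGroup EA_wOf, hK.W_ne, rfl⟩
  have hKN : K ≤ normalizer (Cfsg.wOf K : Set G) := hK.X_norm_W.trans' le_sup_left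
  exact (strad_main hZN hM hT hloc (fun hle => hKM (hKN.trans hle)) hS' hJS').1.symm

/-- 12.1.9 -/
theorem exists_outside (hZN : ZNHyp G) {M T : Subgroup G} {S : Sylow 2 G} (hM : MHyp G M S)
    (hT : T ∈ Cfsg.maxStraddlingTwoSubgroups M) {L : Subgroup G} (hL : Cfsg.IsTwoLocal L) (hTL : T ≤ L)
    (hLM : ¬ L ≤ M) : ∃ K ≤ L, XFacts (JJ T) K ∧ ¬ K ≤ M ∧ K ∈ Cfsg.jComponentsOutside M T := by
  have h := strad_syl hZN hM hT hL hLM hTL
  obtain ⟨K, hKL, hK, hKM⟩ : ∃ K ≤ L, XFacts (JJ T) K ∧ ¬ K ≤ M := by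
    by_contra hcon
    push Not at hcon
    apply hLM
    refine (h.le_FL_sup hZN).trans (sup_le ?_ (inf_le_right.trans (maxStrad_normalizer_le hM hT)))
    exact iSup₂_le fun K hK => hcon K hK.1 hK.2
  refine ⟨K, hKL, hK, hKM, (zero_of_not_le hZN hM hT hK hKM).mem hT.1.1, hKM, ?_⟩
  intro hb
  apply h.core_ne_bot
  rw [eq_bot_iff, ← hb]
  exact le_pCoreOf (h.core_le.trans le_sup_right) ((sup_le hKL hTL).trans (le_normalizer_pCoreOf 2 L))
    (isPGroup_pCoreOf 2 L)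

/-- uniqueness: every maximal 2-local subgroup containing `⟨K, J(T)⟩` equals a fixed one. -/
theorem unique_maximal (hZN : ZNHyp G) {M T K L LK : Subgroup G} {S : Sylow 2 G} (hM : MHyp G M S)
    (hT : T ∈ Cfsg.maxStraddlingTwoSubgroups M) (hK : XFacts (JJ T) K) (hKM : ¬ K ≤ M)
    (hLK : Cfsg.IsMaximalTwoLocal LK) (hNLK : normalizer (K : Set G) ≤ LK)
    (hL : Cfsg.IsMaximalTwoLocal L) (hKL : K ≤ L) (hJL : JJ T ≤ L) : L = LK := by
  have hJp : IsPGroup 2 (JJ T) := hK.Jp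
  have hKLK : K ≤ LK := le_normalizer.trans hNLK
  have hJLK : JJ T ≤ LK := hK.JK.trans hNLK
  have hLM : ¬ L ≤ M := fun hle => hKM (hKL.trans hle)
  have hLKM : ¬ LK ≤ M := fun hle => hKM (hKLK.trans hle)
  obtain ⟨T', hT', hJT'⟩ := exists_isSyl_ge hJp hJL
  obtain ⟨T'', hT'', hJT''⟩ := exists_isSyl_ge hJp hJLK
  obtain ⟨e', _, h'⟩ := strad_main hZN hM hT hL.1 hLM hT' hJT'
  obtain ⟨e'', _, h''⟩ := strad_main hZN hM hT hLK.1 hLKM hT'' hJT''
  -- (a)
  have hcomp1 : ∀ K' : Subgroup G, K' ≤ L → XFacts (JJ T) K' → K' ≤ LK := by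
    intro K' hK'L hK'
    refine le_trans ?_ hNLK
    have hc : CL3 T' K := hK.cl3.congr e'
    have hc' : CL3 T' K' := hK'.cl3.congr e'
    exact (hc'.le_EL hK'L).trans (h'.EL_le_normalizer hZN hc hKL)
  -- `N(FL) ≤ L`
  have hFN : L ≤ normalizer (FL (JJ T) L : Set G) := by
    have := h'.le_normalizer_FL hZN
    rwa [← e'] at this
  have hFN' : LK ≤ normalizer (FL (JJ T) LK : Set G) := by
    have := h''.le_normalizer_FL hZN
    rwa [← e''] at this
  have hcore : Cfsg.pCoreOf 2 (FL (JJ T) L) ≠ ⊥ := by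
    have h1 : Subn K L := h'.comp_subn hZN (hK.cl3.congr e') hKL
    have h2 : Subn K (FL (JJ T) L) := h1.of_le (le_FL hKL hK) (FL_le _ _)
    have h3 := h2.pCoreOf_le (p := 2)
    intro hb
    rw [hb] at h3
    exact hK.W_ne (le_bot_iff.mp ((wOf_le_core K).trans h3))
  have hNF : normalizer (FL (JJ T) L : Set G) ≤ L := by
    have h1 : Cfsg.IsTwoLocal (normalizer (Cfsg.pCoreOf 2 (FL (JJ T) L) : Set G)) :=
      ⟨_, isPGroup_pCoreOf 2 _, hcore, rfl⟩
    have h2 := hL.2 _ h1 (hFN.trans (normalizer_le_normalizer_pCoreOf 2 _))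
    exact (normalizer_le_normalizer_pCoreOf 2 _).trans h2.le
  -- (b)
  have hcomp2 : ∀ K'' : Subgroup G, K'' ≤ LK → XFacts (JJ T) K'' → K'' ≤ L := by
    intro K'' hK''L hK''
    refine le_trans ?_ hNF
    have hc'' : CL3 T'' K'' := hK''.cl3.congr e''
    intro x hx
    apply mem_normalizer_of_map_conj_le
    unfold FL
    rw [Subgroup.map_iSup]
    apply iSup_le
    intro K'
    rw [Subgroup.map_iSup]
    apply iSup_le
    intro hK'
    have hc' : CL3 T'' K' := hK'.2.cl3.congr e''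
    have h1 := h''.EL_le_normalizer hZN hc' (hcomp1 K' hK'.1 hK'.2) (hc''.le_EL hK''L hx)
    rw [map_conj_eq_of_mem h1]
    exact le_iSup₂_of_le K' hK' le_rfl
  have hFF : FL (JJ T) LK = FL (JJ T) L := by
    apply le_antisymm
    · exact iSup₂_le fun K' hK' => le_FL (hcomp2 K' hK'.1 hK'.2) hK'.2
    · exact iSup₂_le fun K' hK' => le_FL (hcomp1 K' hK'.1 hK'.2) hK'.2
  rw [hFF] at hFN'
  exact hLK.2 L hL.1 (hFN'.trans hNF)

end Cfsg.Agent.Lib.ZN
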