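import Cfsg.Agent.Lib.AmK
import Cfsg.Agent.Lib.ZNGen
import Cfsg.Agent.Lib.StrongEmb
import Cfsg.Agent.Lib.StrongEmbPt

/-!
Packages `(T, K, L)`.
-/

set_option autoImplicit false
set_option linter.unusedSectionVars false

namespace Cfsg.Agent.Lib.AmG

open Subgroup commutatorElement Cfsg.Agent.Lib.LocBase Cfsg.Agent.Lib.TvStruct Cfsg.Agent.Lib.ZN
open scoped Pointwise

universe u

variable {G : Type u} [Group G] [Finite G]

theorem cj_cj_inv (g : G) (A : Subgroup G) : cj g (cj g⁻¹ A) = A := by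
  rw [cj, cj, ← map_conj_mul, mul_inv_cancel, map_conj_one]

theorem cj_inv_cj (g : G) (A : Subgroup G) : cj g⁻¹ (cj g A) = A := by
  rw [cj, cj, ← map_conj_mul, inv_mul_cancel, map_conj_one]

theorem twoLocal_conj {N : Subgroup G} (h : Cfsg.IsTwoLocal N) (g : G) : Cfsg.IsTwoLocal (cj g N) := by
  obtain ⟨Q, hQ, hQ1, rfl⟩ := h
  refine ⟨cj g Q, isPGroup_map_conj hQ g, ?_, map_conj_normalizer Q g⟩
  intro e
  exact hQ1 ((Subgroup.map_eq_bot_iff_of_injective Q (MulAut.conj g).injective).mp e)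

theorem maxLocal_conj {L : Subgroup G} (h : Cfsg.IsMaximalTwoLocal L) (g : G) : Cfsg.IsMaximalTwoLocal (cj g L) := by
  refine ⟨twoLocal_conj h.1 g, ?_⟩
  intro N hN hle
  have h1 := h.2 (cj g⁻¹ N) (twoLocal_conj hN g⁻¹) (by
    rw [← cj_inv_cj g L]; exact map_conj_mono g⁻¹ hle)
  rw [← h1, cj_cj_inv]

/-- `L` is the only maximal 2-local subgroup containing `K` and `J` -/
structure Uq (J K L : Subgroup G) : Prop where
  zero : Zero J K
  max : Cfsg.IsMaximalTwoLocal L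
  KL : K ≤ L
  JL : J ≤ L
  uniq : ∀ L' : Subgroup G, Cfsg.IsMaximalTwoLocal L' → K ≤ L' → J ≤ L' → L' = L

theorem Uq.conj {J K L : Subgroup G} (h : Uq J K L) (g : G) : Uq (cj g J) (cj g K) (cj g L) where
  zero := h.zero.conj g
  max := maxLocal_conj h.max g
  KL := map_conj_mono g h.KL
  JL := map_conj_mono g h.JL
  uniq := by
    intro L' hL' h1 h2
    have h3 := h.uniq (cj g⁻¹ L') (maxLocal_conj hL' g⁻¹) (by rw [← cj_inv_cj g K]; exact map_conj_mono g⁻¹ h1)
      (by rw [← cj_inv_cj g J]; exact map_conj_mono g⁻¹ h2)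
    rw [← h3, cj_cj_inv]

theorem Uq.conj_of_mem {J K L : Subgroup G} (h : Uq J K L) {g : G} (hg : g ∈ normalizer (J : Set G)) :
    Uq J (cj g K) (cj g L) := by
  have := h.conj g
  rwa [cj, map_conj_eq_of_mem hg] at this

theorem Uq.le_of_local {J K L : Subgroup G} (h : Uq J K L) {N : Subgroup G} (hN : Cfsg.IsTwoLocal N) (hK : K ≤ N)
    (hJ : J ≤ N) : N ≤ L := by
  obtain ⟨L', hL', hle⟩ := exists_maximal_twoLocal hN
  rw [← h.uniq L' hL' (hK.trans hle) (hJ.trans hle)]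
  exact hle

theorem Uq.normalizer_le {J K L : Subgroup G} (h : Uq J K L) : normalizer (L : Set G) ≤ L := by
  intro g hg
  obtain ⟨Q, hQ, hQ1, e⟩ := h.max.1
  have hN : Cfsg.IsTwoLocal (normalizer (Cfsg.pCoreOf 2 L : Set G)) := by
    refine ⟨_, isPGroup_pCoreOf 2 L, ?_, rfl⟩
    intro hb
    apply hQ1
    rw [eq_bot_iff, ← hb]
    apply le_pCoreOf
    · rw [e]; exact le_normalizer
    · rw [e]
    · exact hQ
  have h1 := h.max.2 _ hN (le_normalizer_pCoreOf 2 L)
  rw [← h1]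
  exact normalizer_le_normalizer_pCoreOf 2 L hg

/-- the centralizer of an element of `Ω(Z(J)) ∩ C(K)` -/
theorem Uq.cent_le {J K L : Subgroup G} (h : Uq J K L) {b : G} (hb : b ∈ Cfsg.omegaCenterOf J)
    (hbK : b ∈ centralizer (K : Set G)) (hb1 : b ≠ 1) : centralizer ({b} : Set G) ≤ L := by
  have h2 := (mem_omegaCenterOf.mp hb)
  have hN : Cfsg.IsTwoLocal (normalizer (zpowers b : Set G)) := by
    refine ⟨zpowers b, ?_, by rwa [Ne, zpowers_eq_bot], rfl⟩
    exact IsPGroup.of_card (n := 1) (by rw [Nat.card_zpowers, pow_one]; exact orderOf_eq_prime h2.2.2 hb1)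
  have hc : centralizer ({b} : Set G) ≤ normalizer (zpowers b : Set G) := by
    refine le_trans ?_ (centralizer_le_normalizer _)
    rw [← zpowers_le, ] at *
    intro x hx
    have hx' : Commute b x := hx b rfl
    intro y hy
    obtain ⟨k, rfl⟩ := mem_zpowers_iff.mp hy
    exact (hx'.zpow_left k).eq
  refine hc.trans (h.le_of_local hN ?_ ?_)
  · refine le_trans ?_ hc
    intro k hk y hy
    rw [Set.mem_singleton_iff.mp hy]
    exact (hbK k hk).symm
  · refine le_trans ?_ hc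
    intro k hk y hy
    rw [Set.mem_singleton_iff.mp hy]
    exact (h2.2.1 k hk).symm

theorem omega_le_omega_JJ (T : Subgroup G) : Cfsg.omegaCenterOf T ≤ Cfsg.omegaCenterOf (JJ T) := by
  intro x hx
  have h1 := mem_omegaCenterOf.mp hx
  rw [mem_omegaCenterOf]
  refine ⟨?_, ?_, h1.2.2⟩
  · obtain ⟨A, hA⟩ := AA_nonempty T
    apply le_JJ hA
    apply ThompsonJ.mem_of_centralizes_elem hA h1.1 h1.2.2
    intro a ha
    exact h1.2.1 a (hA.1 ha)
  · exact centralizer_le (SetLike.coe_subset_coe.mpr (JJ_le T)) h1.2.1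

/-- A package -/
structure Pk (T K L : Subgroup G) : Prop where
  uq : Uq (JJ T) K L
  lh : LH T L

theorem Pk.conj {T K L : Subgroup G} (h : Pk T K L) {g : G} : Pk (cj g T) (cj g K) (cj g L) where
  uq := by rw [← JJ_conj]; exact h.uq.conj g
  lh := by
    refine ⟨h.lh.syl.map_conj g, ?_, ?_⟩
    · rw [← JJ_conj, pCoreOf_map_conj]
      intro hle
      exact h.lh.notle ((map_conj_le_map_conj g).mp hle)
    · rw [pCoreOf_map_conj]
      show centralizer ((cj g (Cfsg.pCoreOf 2 L) : Subgroup G) : Set G) ≤ _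
      rw [← map_conj_centralizer]
      exact map_conj_mono g h.lh.cent

/-- existence of a package -/
theorem exists_pk (hZN : ZNHyp G) {M T K : Subgroup G} {S : Sylow 2 G} (hM : MHyp G M S)
    (hT : T ∈ Cfsg.maxStraddlingTwoSubgroups M) (hK : K ∈ Cfsg.jComponentsOutside M T) : ∃ L, Pk T K L := by
  obtain ⟨hK0, hKM, hcore⟩ := hK
  have hKz := Zero.of_mem hT.1.1 hK0
  have hKx := hKz.facts
  have hKp : IsPGroup 2 ↥(Cfsg.pCoreOf 2 (K ⊔ T)) := isPGroup_pCoreOf 2 _
  obtain ⟨L, hLmax, hLle⟩ := exists_maximal_twoLocal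
    (N := Subgroup.normalizer (Cfsg.pCoreOf 2 (K ⊔ T) : Set G)) ⟨_, hKp, hcore, rfl⟩
  have hKTL : K ⊔ T ≤ L := (le_normalizer_pCoreOf 2 _).trans hLle
  have hKL : K ≤ L := le_sup_left.trans hKTL
  have hTL : T ≤ L := le_sup_right.trans hKTL
  have hJL : JJ T ≤ L := (JJ_le T).trans hTL
  have hLM : ¬ L ≤ M := fun hle => hKM (hKL.trans hle)
  have hLH := strad_syl hZN hM hT hLmax.1 hLM hTL
  have hNloc : Cfsg.IsTwoLocal (Subgroup.normalizer (K : Set G)) := by
    rw [hKz.normalizer_eq hZN]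
    exact ⟨_, ThompsonJ.elemAb_isPGroup EA_wOf, hKx.W_ne, rfl⟩
  obtain ⟨LK, hLK, hNLK⟩ := exists_maximal_twoLocal hNloc
  have e1 := unique_maximal hZN hM hT hKx hKM hLK hNLK hLmax hKL hJL
  refine ⟨L, ⟨hKz, hLmax, hKL, hJL, ?_⟩, hLH⟩
  intro L' hL' hle1 hle2
  have e2 := unique_maximal hZN hM hT hKx hKM hLK hNLK hL' hle1 hle2
  rw [e1, e2]

section pk

variable {T K L : Subgroup G} (h : Pk T K L)
include h

theorem Pk.KL : K ≤ L := h.uq.KL
theorem Pk.TL : T ≤ L := h.lh.syl.le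
theorem Pk.Tp : IsPGroup 2 T := h.lh.syl.pgroup
theorem Pk.X : XFacts (JJ T) K := h.uq.zero.facts

/-- `Ω(Z(S)) ≤ Ω(Z(T))` for a 2-group `S` containing `T` -/
theorem Pk.omega_le {S : Subgroup G} (hTS : T ≤ S) : Cfsg.omegaCenterOf S ≤ Cfsg.omegaCenterOf T := by
  intro x hx
  have h1 := mem_omegaCenterOf.mp hx
  rw [mem_omegaCenterOf]
  have h2 : x ∈ centralizer (T : Set G) := centralizer_le (SetLike.coe_subset_coe.mpr hTS) h1.2.1
  refine ⟨?_, h2, h1.2.2⟩
  apply h.lh.core_le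
  apply h.lh.cent
  exact centralizer_le (SetLike.coe_subset_coe.mpr h.lh.core_le) h2

/-- `T` is self-normalizing in a 2-group inside `L` -/
theorem Pk.eq_of_le {S : Subgroup G} (hS : IsPGroup 2 S) (hTS : T ≤ S) (hSL : S ≤ L) : T = S :=
  h.lh.syl.eq_of_le hS hSL hTS

/-- `T` is Sylow in `G` if `N_G(T) ≤ L` -/
theorem Pk.eq_of_normalizer_le {S : Subgroup G} (hS : IsPGroup 2 S) (hTS : T ≤ S)
    (hN : S ⊓ normalizer (T : Set G) ≤ L) : T = S := by
  by_contra hne
  have hlt : T < S := lt_of_le_of_ne hTS hne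
  have h1 := Cfsg.Agent.Lib.SylAmb.lt_inf_normalizer hS hlt
  have h2 := h.eq_of_le (hS.to_le inf_le_left) h1.le hN
  exact h1.ne h2

theorem Pk.normalizes {x : G} (hxT : x ∈ T) (hZN : ZNHyp G)
    (hx : ∃ z ∈ Cfsg.wOf K, z ≠ 1 ∧ x * z = z * x) : x ∈ normalizer (K : Set G) := by
  have hxL := h.TL hxT
  have hX := h.X
  have hxJ : x ∈ normalizer (JJ T : Set G) := (le_normalizer.trans (normalizer_le_normalizer_JJ T)) hxT
  have hX' := hX.conj_of_mem hxJ
  by_contra hcon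
  have hne : K ≠ cj x K := fun e => hcon (mem_normalizer_of_map_conj_eq e.symm)
  have hKL' : cj x K ≤ L := by
    have := map_conj_mono x h.KL
    rwa [map_conj_eq_of_mem (le_normalizer hxL)] at this
  have h1 := h.lh.comp_inf hZN hX.cl3 h.KL hX'.cl3 hKL' hne
  rw [← h.lh.wOf_eq hZN ((isJComponent_iff h.Tp).mpr hX) h.KL,
    ← h.lh.wOf_eq hZN ((isJComponent_iff h.Tp).mpr hX') hKL', wOf_conj] at h1
  obtain ⟨z, hz, hz1, hxz⟩ := hx
  have h2 : z ∈ Cfsg.wOf K ⊓ cj x (Cfsg.wOf K) := by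
    refine mem_inf.mpr ⟨hz, z, hz, ?_⟩
    show x * z * x⁻¹ = z
    rw [hxz]; group
  rw [h1, mem_bot] at h2
  exact hz1 h2

theorem Pk.norm (hZN : ZNHyp G) (hZ : Cfsg.omegaCenterOf T = Cfsg.omegaCenterOf (JJ T)) :
    T ≤ normalizer (K : Set G) := by
  intro x hx
  apply h.normalizes hx hZN
  have h1 := h.X.card_Z₀_inf_W
  obtain ⟨z, hz, hz1⟩ := exists_gen_of_card_two h1
  refine ⟨z, (mem_inf.mp hz).2, hz1, ?_⟩
  have h2 := (mem_inf.mp hz).1
  rw [← hZ] at h2
  exact (mem_omegaCenterOf.mp h2).2.1 x hx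

theorem Pk.pf (hZN : ZNHyp G) (hZ : Cfsg.omegaCenterOf T = Cfsg.omegaCenterOf (JJ T))
    (hc : Nat.card (Cfsg.omegaCenterOf (JJ T)) ≤ 4) : PF T K where
  X := h.X
  Tp := h.Tp
  TK := h.norm hZN hZ
  ZT := hZ
  Zcard := by rw [hZ]; exact hc
  OT := by
    have h1 := h.lh.comp_core_le hZN h.X.cl3 h.KL
    exact h1.trans h.lh.core_le

end pk

/-- faithfulness -/
theorem pk_faith {T K₁ L₁ K₂ L₂ : Subgroup G} (h1 : Pk T K₁ L₁) (h2 : Pk T K₂ L₂) (hne : L₁ ≠ L₂) :
    ∀ N ≤ T, K₁ ⊔ T ≤ normalizer (N : Set G) → K₂ ⊔ T ≤ normalizer (N : Set G) → N = ⊥ := by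
  intro N hN hN1 hN2
  by_contra hb
  have hloc : Cfsg.IsTwoLocal (normalizer (N : Set G)) := ⟨N, h1.Tp.to_le hN, hb, rfl⟩
  obtain ⟨L', hL', hle⟩ := exists_maximal_twoLocal hloc
  have hJ : JJ T ≤ normalizer (N : Set G) := (JJ_le T).trans (le_sup_right.trans hN1)
  have e1 := h1.uq.uniq L' hL' ((le_sup_left.trans hN1).trans hle) (hJ.trans hle)
  have e2 := h2.uq.uniq L' hL' ((le_sup_left.trans hN2).trans hle) (hJ.trans hle)
  exact hne (e1.symm.trans e2)

/-- a strongly embedded subgroup has one class of involutions -/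
theorem se_conj {H : Subgroup G} (hH : Cfsg.IsStronglyEmbedded H) {t s : G} (ht : t ∈ H) (hs : s ∈ H)
    (ht2 : orderOf t = 2) (hs2 : orderOf s = 2) : ∃ h ∈ H, h * t * h⁻¹ = s := by
  have h1 := (StrongEmb.iff_centralizer_fusion H hH.1 hH.2.1).mp hH
  have h3 := (StrongEmb.iff_involution H).mp hH
  -- an involution outside of `H`
  obtain ⟨r, hr2, hrH⟩ : ∃ r : G, orderOf r = 2 ∧ r ∉ H := by
    by_contra hcon
    push Not at hcon
    obtain ⟨g, hg⟩ : ∃ g : G, g ∉ H := by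
      by_contra hc
      push Not at hc
      exact hH.1 (eq_top_iff.mpr fun x _ => hc x)
    apply hg
    apply h3.2.2 g t ht2 ht
    apply hcon
    have : g⁻¹ * t * g = MulAut.conj g⁻¹ t := by simp
    rw [this, MulEquiv.orderOf_eq, ht2]
  -- every involution of `H` is conjugate to `r`
  have key : ∀ t ∈ H, orderOf t = 2 → IsConj t r := by
    intro t ht ht2
    have htt : t * t = 1 := by rw [← pow_two, ← ht2]; exact pow_orderOf_eq_one t
    have hrr : r * r = 1 := by rw [← pow_two, ← hr2]; exact pow_orderOf_eq_one r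
    have hti : t⁻¹ = t := inv_eq_of_mul_eq_one_right htt
    have hri : r⁻¹ = r := inv_eq_of_mul_eq_one_right hrr
    set y := t * r with hy
    have hinv : t * y * t⁻¹ = y⁻¹ := by
      rw [hy, hti, mul_inv_rev, hti, hri]
      calc t * (t * r) * t = (t * t) * r * t := by group
        _ = r * t := by rw [htt, one_mul]
    have hinvr : r * y * r⁻¹ = y⁻¹ := by
      rw [hy, hri, mul_inv_rev, hti, hri]
      calc r * (t * r) * r = r * t * (r * r) := by group
        _ = r * t := by rw [hrr, mul_one]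
    rcases Nat.even_or_odd (orderOf y) with he | ho
    · exfalso
      obtain ⟨m, hm⟩ := he
      have hypos : 0 < orderOf y := orderOf_pos y
      set v := y ^ m with hv
      have hv2 : orderOf v = 2 := by
        apply orderOf_eq_prime
        · rw [hv, ← pow_mul, mul_comm, two_mul, ← hm, pow_orderOf_eq_one]
        · intro e
          have := orderOf_dvd_of_pow_eq_one e
          have := Nat.le_of_dvd (by omega) this
          omega
      have hvv : v⁻¹ = v := by
        apply inv_eq_of_mul_eq_one_right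
        rw [← pow_two, ← hv2]; exact pow_orderOf_eq_one v
      have htv : t * v * t⁻¹ = v := by rw [hv, ← conj_pow, hinv, inv_pow, ← hv, hvv]
      have hrv : r * v * r⁻¹ = v := by rw [hv, ← conj_pow, hinvr, inv_pow, ← hv, hvv]
      have hvH : v ∈ H := by
        apply h1.1 t ht ht2
        intro z hz
        rw [Set.mem_singleton_iff.mp hz]
        calc t * v = (t * v * t⁻¹) * t := by group
          _ = v * t := by rw [htv]
      apply hrH
      apply h1.1 v hvH hv2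
      intro z hz
      rw [Set.mem_singleton_iff.mp hz]
      calc v * r = (r * v * r⁻¹) * r := by rw [hrv]
        _ = r * v := by group
    · obtain ⟨m, hm⟩ := ho
      -- `y^(2m+1) = 1`
      have hy1 : y ^ (2 * m + 1) = 1 := by rw [← hm]; exact pow_orderOf_eq_one y
      -- conjugate `t` by `y^?`
      rw [isConj_iff]
      have hty : ∀ n : ℕ, t * y ^ n * t⁻¹ = (y ^ n)⁻¹ := by
        intro n
        rw [← conj_pow, hinv, inv_pow]
      refine ⟨y ^ m, ?_⟩
      -- `y^m t y^{-m} = t y^{-2m} = t y = r`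
      have e1 : y ^ m * t * (y ^ m)⁻¹ = t * ((y ^ m)⁻¹ * (y ^ m)⁻¹) := by
        have e2 := hty m
        have e3 : y ^ m = t * (y ^ m)⁻¹ * t⁻¹ := by
          have e4 : t * (y ^ m)⁻¹ * t⁻¹ = (t * y ^ m * t⁻¹)⁻¹ := by group
          rw [e4, e2, inv_inv]
        calc y ^ m * t * (y ^ m)⁻¹ = (t * (y ^ m)⁻¹ * t⁻¹) * t * (y ^ m)⁻¹ := by rw [← e3]
          _ = _ := by group
      rw [e1]
      have e5 : (y ^ m)⁻¹ * (y ^ m)⁻¹ = y := by
        have e6 : y ^ m * y ^ m * y = 1 := by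
          rw [← pow_add, ← pow_succ]
          have : m + m + 1 = 2 * m + 1 := by ring
          rw [this]; exact hy1
        have e7 : (y ^ m * y ^ m)⁻¹ = y := inv_eq_of_mul_eq_one_right e6
        rw [← mul_inv_rev]; exact e7
      rw [e5, hy, ← mul_assoc, htt, one_mul]
  exact h1.2 t ht s hs ht2 hs2 ((key t ht ht2).trans (key s hs hs2).symm)

end Cfsg.Agent.Lib.AmG
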