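import Cfsg.Agent.Lib.AmL

/-!
Two packages with the same `J(T)`.
-/

set_option autoImplicit false
set_option linter.unusedSectionVars false

namespace Cfsg.Agent.Lib.AmG

open Subgroup commutatorElement Cfsg.Agent.Lib.LocBase Cfsg.Agent.Lib.TvStruct Cfsg.Agent.Lib.ZN
open scoped Pointwise

universe u

variable {G : Type u} [Group G] [Finite G]

theorem mem_four {A : Subgroup G} (hA : Nat.card A = 4) {a b c : G} (ha : a ∈ A) (hb : b ∈ A) (hc : c ∈ A)
    (ha1 : a ≠ 1) (hb1 : b ≠ 1) (hc1 : c ≠ 1) (hab : a ≠ b) (hbc : b ≠ c) (hac : a ≠ c) :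
    ∀ x ∈ A, x = 1 ∨ x = a ∨ x = b ∨ x = c := by
  classical
  intro x hx
  have : Fintype ↥A := Fintype.ofFinite _
  have h1 : ({1, ⟨a, ha⟩, ⟨b, hb⟩, ⟨c, hc⟩} : Finset ↥A).card = 4 := by
    rw [Finset.card_insert_of_notMem, Finset.card_insert_of_notMem, Finset.card_insert_of_notMem,
      Finset.card_singleton]
    · rw [Finset.mem_singleton]
      exact fun e => hbc (congrArg Subtype.val e)
    · rw [Finset.mem_insert, Finset.mem_singleton, not_or]
      exact ⟨fun e => hab (congrArg Subtype.val e), fun e => hac (congrArg Subtype.val e)⟩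
    · rw [Finset.mem_insert, Finset.mem_insert, Finset.mem_singleton, not_or, not_or]
      exact ⟨fun e => ha1 (congrArg Subtype.val e).symm, fun e => hb1 (congrArg Subtype.val e).symm,
        fun e => hc1 (congrArg Subtype.val e).symm⟩
  have h2 : ({1, ⟨a, ha⟩, ⟨b, hb⟩, ⟨c, hc⟩} : Finset ↥A) = Finset.univ := by
    apply Finset.eq_univ_of_card
    rw [h1, ← hA, Nat.card_eq_fintype_card]
  have h3 : (⟨x, hx⟩ : ↥A) ∈ ({1, ⟨a, ha⟩, ⟨b, hb⟩, ⟨c, hc⟩} : Finset ↥A) := by rw [h2]; exact Finset.mem_univ _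
  rw [Finset.mem_insert, Finset.mem_insert, Finset.mem_insert, Finset.mem_singleton] at h3
  rcases h3 with e | e | e | e
  · exact Or.inl (congrArg Subtype.val e)
  · exact Or.inr (Or.inl (congrArg Subtype.val e))
  · exact Or.inr (Or.inr (Or.inl (congrArg Subtype.val e)))
  · exact Or.inr (Or.inr (Or.inr (congrArg Subtype.val e)))

/-- `B = Ω(Z(J)) ∩ C(K)` -/
abbrev BK (J K : Subgroup G) : Subgroup G := Cfsg.omegaCenterOf J ⊓ centralizer (K : Set G)

theorem XFacts_card_B {J K : Subgroup G} (h : XFacts J K) :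
    Nat.card (Cfsg.omegaCenterOf J) = 2 * Nat.card (BK J K) := by
  have h1 := h.Z₀_decomp
  have h2 : Cfsg.omegaCenterOf J ⊓ ((K ⊔ J) ⊓ centralizer ((K ⊔ J : Subgroup G) : Set G)) = BK J K := by
    apply le_antisymm
    · exact le_inf inf_le_left ((inf_le_right.trans inf_le_right).trans
        (centralizer_le (SetLike.coe_subset_coe.mpr le_sup_left)))
    · refine le_inf inf_le_left (le_inf ?_ ?_)
      · exact inf_le_left.trans ((omegaCenterOf_le J).trans le_sup_right)
      · rw [le_centralizer_iff]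
        refine sup_le ?_ ?_
        · rw [le_centralizer_iff]; exact inf_le_right
        · rw [le_centralizer_iff]; exact inf_le_left.trans (omegaCenterOf_le_centralizer J)
  rw [h2] at h1
  set R := Cfsg.omegaCenterOf J ⊓ Cfsg.wOf K with hR
  have h3 : BK J K ⊓ R = ⊥ := by
    rw [eq_bot_iff, ← h.W_inf_centralizer]
    exact le_inf (inf_le_right.trans inf_le_right) (inf_le_left.trans inf_le_right)
  have h4 : R ≤ normalizer (BK J K : Set G) := by
    refine le_trans ?_ (centralizer_le_normalizer _)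
    have h5 := (ThompsonJ.elemAb_iff.mp (EA_omegaCenterOf J)).1
    exact (inf_le_left.trans h5).trans (centralizer_le (SetLike.coe_subset_coe.mpr inf_le_left))
  have h5 := SubgroupTools.card_sup_mul_card_inf h4
  rw [h3, card_bot, mul_one, h1, h.card_Z₀_inf_W] at h5
  rw [h5]; ring

theorem BK_inf {J K L K' L' : Subgroup G} (h : Uq J K L) (h' : Uq J K' L') (hne : L' ≠ L) :
    BK J K ⊓ BK J K' = ⊥ := by
  rw [eq_bot_iff]
  intro b hb
  rw [mem_bot]
  by_contra hb1
  have h1 := h.cent_le (mem_inf.mp (mem_inf.mp hb).1).1 (mem_inf.mp (mem_inf.mp hb).1).2 hb1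
  apply hne
  symm
  apply h'.uniq L h.max _ h.JL
  refine le_trans ?_ h1
  intro k hk y hy
  rw [Set.mem_singleton_iff.mp hy]
  exact ((mem_inf.mp (mem_inf.mp hb).2).2 k hk).symm

theorem card_Z₀_le {J K L K' L' : Subgroup G} (h : Uq J K L) (h' : Uq J K' L') (hne : L' ≠ L) :
    Nat.card (Cfsg.omegaCenterOf J) ≤ 4 := by
  have h1 := XFacts_card_B h.zero.facts
  have h2 := XFacts_card_B h'.zero.facts
  have h3 := BK_inf h h' hne
  have h4 : BK J K' ≤ normalizer (BK J K : Set G) := by
    refine le_trans ?_ (centralizer_le_normalizer _)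
    have h5 := (ThompsonJ.elemAb_iff.mp (EA_omegaCenterOf J)).1
    exact (inf_le_left.trans h5).trans (centralizer_le (SetLike.coe_subset_coe.mpr inf_le_left))
  have h5 := SubgroupTools.card_sup_mul_card_inf h4
  rw [h3, card_bot, mul_one] at h5
  have h6 := card_le_of_le (sup_le inf_le_left inf_le_left : BK J K ⊔ BK J K' ≤ Cfsg.omegaCenterOf J)
  rw [h5] at h6
  have h7 : Nat.card (BK J K') = Nat.card (BK J K) := by omega
  rw [h7, h1] at h6
  have h8 : 0 < Nat.card (BK J K) := Nat.card_pos
  have h9 : Nat.card (BK J K) ≤ 2 := Nat.le_of_mul_le_mul_right h6 h8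
  omega

theorem card_Z₀_cases {J K : Subgroup G} (h : XFacts J K) (hc : Nat.card (Cfsg.omegaCenterOf J) ≤ 4) :
    Nat.card (Cfsg.omegaCenterOf J) = 2 ∨ Nat.card (Cfsg.omegaCenterOf J) = 4 := by
  have h1 := XFacts_card_B h
  have h8 : 0 < Nat.card (BK J K) := Nat.card_pos
  omega

theorem not_le_centralizer_Z (hZN : ZNHyp G) {J K : Subgroup G} (S : Sylow 2 G) (h : XFacts J K)
    (hJS : J ≤ S) : ¬ K ≤ centralizer (Cfsg.omegaCenterOf (S : Subgroup G) : Set G) := by
  intro hle
  have h1 := hle.trans (hZN.hZ S)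
  have h2 : K ≤ (S : Subgroup G) := by
    refine h.comm.ge.trans ?_
    refine (commutator_mono le_rfl hJS).trans ?_
    exact commutator_le_right_of_le h1
  exact h.not_isPGroup (S.isPGroup'.to_le h2)

/-- `T` centralizes `Z₀` -/
theorem Z₀_cent (hZN : ZNHyp G) {S : Sylow 2 G} {T K L K' L' : Subgroup G} (h : Pk T K L) (h' : Uq (JJ T) K' L')
    (hne : L' ≠ L) (hTS : T ≤ S) : Cfsg.omegaCenterOf T = Cfsg.omegaCenterOf (JJ T) := by
  have hJS : JJ T ≤ S := (JJ_le T).trans hTS
  have hZT := h.omega_le hTS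
  have hTJ := omega_le_omega_JJ T
  have hSne : (S : Subgroup G) ≠ ⊥ := by
    intro e
    have h1 : JJ T ≤ ⊥ := by rw [← e]; exact hJS
    exact h.X.not_J_le (h1.trans bot_le)
  have hZne : Cfsg.omegaCenterOf (S : Subgroup G) ≠ ⊥ := omegaCenterOf_ne_bot S.isPGroup' hSne
  obtain ⟨z, hz, hz1⟩ : ∃ z ∈ Cfsg.omegaCenterOf (S : Subgroup G), z ≠ 1 := by
    by_contra hcon
    push Not at hcon
    exact hZne (eq_bot_iff.mpr fun x hx => mem_bot.mpr (hcon x hx))
  rcases card_Z₀_cases h.X (card_Z₀_le h.uq h' hne) with hc | hc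
  · -- order two
    apply Subgroup.eq_of_le_of_card_ge hTJ
    rw [hc]
    by_contra hcon
    have : Nat.card (Cfsg.omegaCenterOf T) = 1 := by
      have := Nat.card_pos (α := ↥(Cfsg.omegaCenterOf T)); omega
    have h3 := Subgroup.eq_bot_of_card_eq _ this
    rw [h3, le_bot_iff] at hZT
    exact hZne hZT
  · apply le_antisymm hTJ
    by_contra hcon
    have hB := XFacts_card_B h.X
    have hB' := XFacts_card_B h'.zero.facts
    have hBc : Nat.card (BK (JJ T) K) = 2 := by omega
    have hBc' : Nat.card (BK (JJ T) K') = 2 := by omega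
    obtain ⟨b, hb, hb1⟩ := exists_gen_of_card_two hBc
    obtain ⟨b', hb', hb1'⟩ := exists_gen_of_card_two hBc'
    have hbb : b ≠ b' := by
      intro e
      have : b ∈ BK (JJ T) K ⊓ BK (JJ T) K' := mem_inf.mpr ⟨hb, by rw [e]; exact hb'⟩
      rw [BK_inf h.uq h' hne, mem_bot] at this
      exact hb1 this
    -- the elements commuting with `T`
    have hZ₀N : T ≤ normalizer (Cfsg.omegaCenterOf (JJ T) : Set G) :=
      (le_normalizer.trans (normalizer_le_normalizer_JJ T)).trans (normalizer_le_normalizer_omegaCenterOf _)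
    have hOT : Nat.card (Cfsg.omegaCenterOf T) = 2 := by
      have hlt : Cfsg.omegaCenterOf T < Cfsg.omegaCenterOf (JJ T) := lt_of_le_of_ne hTJ (fun e => hcon e.ge)
      have h3 := two_mul_card_le hlt
      have h4 : Nat.card (Cfsg.omegaCenterOf T) ≠ 1 := by
        intro e
        have h3 := Subgroup.eq_bot_of_card_eq _ e
        rw [h3, le_bot_iff] at hZT
        exact hZne hZT
      have := Nat.card_pos (α := ↥(Cfsg.omegaCenterOf T))
      omega
    have hZeq : Cfsg.omegaCenterOf (S : Subgroup G) = Cfsg.omegaCenterOf T := by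
      apply Subgroup.eq_of_le_of_card_ge hZT
      rw [hOT]
      by_contra hc'
      have : Nat.card (Cfsg.omegaCenterOf (S : Subgroup G)) = 1 := by
        have := Nat.card_pos (α := ↥(Cfsg.omegaCenterOf (S : Subgroup G))); omega
      exact hZne (Subgroup.eq_bot_of_card_eq _ this)
    have hkey : ∀ K'' : Subgroup G, XFacts (JJ T) K'' → ∀ c ∈ BK (JJ T) K'', c ≠ 1 → c ∉ Cfsg.omegaCenterOf T := by
      intro K'' hX c hcB hc1 hcT
      apply not_le_centralizer_Z hZN S hX hJS
      rw [hZeq]
      have h3 : Cfsg.omegaCenterOf T = zpowers c := by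
        symm
        apply Subgroup.eq_of_le_of_card_ge
        · rw [zpowers_le]; exact hcT
        · rw [hOT, Nat.card_zpowers]
          have h4 := (mem_omegaCenterOf.mp hcT).2.2
          rw [orderOf_eq_prime h4 hc1]
      rw [h3, le_centralizer_iff, zpowers_le]
      exact (mem_inf.mp hcB).2
    have hbT := hkey K h.X b hb hb1
    have hbT' := hkey K' h'.zero.facts b' hb' hb1'
    -- some element of `T` moves `b`
    have hex : ∃ t ∈ T, t * b * t⁻¹ ≠ b := by
      by_contra hc'
      push Not at hc'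
      apply hbT
      rw [mem_omegaCenterOf]
      have h3 := mem_omegaCenterOf.mp (mem_inf.mp hb).1
      refine ⟨(JJ_le T) h3.1, ?_, h3.2.2⟩
      intro t ht
      calc t * b = (t * b * t⁻¹) * t := by group
        _ = b * t := by rw [hc' t ht]
    obtain ⟨t, ht, htb⟩ := hex
    have hzT : z ∈ Cfsg.omegaCenterOf T := hZT hz
    have hzb : z ≠ b := fun e => hbT (e ▸ hzT)
    have hzb' : z ≠ b' := fun e => hbT' (e ▸ hzT)
    have h4 := mem_four hc (mem_inf.mp hb).1 (mem_inf.mp hb').1 (hTJ hzT) hb1 hb1' hz1 hbb (Ne.symm hzb')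
      (Ne.symm hzb) (t * b * t⁻¹) (conj_mem_of_le_normalizer hZ₀N ht (mem_inf.mp hb).1)
    have h5 : t * b * t⁻¹ = b' := by
      rcases h4 with e | e | e | e
      · exfalso
        apply hb1
        have : b = t⁻¹ * (t * b * t⁻¹) * t := by group
        rw [this, e]; group
      · exact absurd e htb
      · exact e
      · exfalso
        apply hzb
        have h6 : t * z * t⁻¹ = z := by
          have := (mem_omegaCenterOf.mp hzT).2.1 t ht
          rw [this]; group
        have : t * b * t⁻¹ = t * z * t⁻¹ := by rw [e, h6]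
        exact (mul_left_cancel (mul_right_cancel this)).symm
    -- `K' ≤ C(b') = C(b)^t ≤ L`
    apply hne
    symm
    apply h'.uniq L h.uq.max _ h.uq.JL
    have h6 := h.uq.cent_le (mem_inf.mp hb).1 (mem_inf.mp hb).2 hb1
    intro k hk
    have htL := h.TL ht
    have hkb : k * b' = b' * k := (mem_inf.mp hb').2 k hk
    have h7 : t⁻¹ * k * t ∈ centralizer ({b} : Set G) := by
      intro y hy
      rw [Set.mem_singleton_iff.mp hy]
      have e1 : b = t⁻¹ * b' * t := by rw [← h5]; group
      rw [e1]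
      calc t⁻¹ * b' * t * (t⁻¹ * k * t) = t⁻¹ * (b' * k) * t := by group
        _ = t⁻¹ * (k * b') * t := by rw [hkb]
        _ = _ := by group
    have h8 : t⁻¹ * k * t ∈ L := h6 h7
    have e2 : k = t * (t⁻¹ * k * t) * t⁻¹ := by group
    rw [e2]
    exact mul_mem (mul_mem htL h8) (inv_mem htL)

/-- The trichotomy -/
def Tri (S T L : Subgroup G) : Prop :=
  (Cfsg.omegaCenterOf S = Cfsg.omegaCenterOf (JJ T) ∧ Nat.card (Cfsg.omegaCenterOf (JJ T)) = 2) ∨
  (Cfsg.omegaCenterOf S = Cfsg.omegaCenterOf (JJ T) ∧ Nat.card (Cfsg.omegaCenterOf (JJ T)) = 4 ∧ T = S) ∨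
  (Cfsg.omegaCenterOf T = Cfsg.omegaCenterOf (JJ T) ∧ Nat.card (Cfsg.omegaCenterOf (JJ T)) = 4 ∧
    (L ⊓ centralizer (Cfsg.omegaCenterOf (JJ T) : Set G)).relIndex
      (normalizer (Cfsg.omegaCenterOf (JJ T) : Set G)) = 2)

theorem tri_of (hZN : ZNHyp G) {S : Sylow 2 G} {T K L K' L' : Subgroup G} (h : Pk T K L) (h' : Uq (JJ T) K' L')
    (hne : L' ≠ L) (hTS : T ≤ S) : Tri (S : Subgroup G) T L := by
  have hJS : JJ T ≤ S := (JJ_le T).trans hTS
  have hZT := h.omega_le hTS
  have hTJ := Z₀_cent hZN h h' hne hTS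
  have hSne : (S : Subgroup G) ≠ ⊥ := by
    intro e
    have h1 : JJ T ≤ ⊥ := by rw [← e]; exact hJS
    exact h.X.not_J_le (h1.trans bot_le)
  have hZne : Cfsg.omegaCenterOf (S : Subgroup G) ≠ ⊥ := omegaCenterOf_ne_bot S.isPGroup' hSne
  rcases card_Z₀_cases h.X (card_Z₀_le h.uq h' hne) with hc | hc
  · left
    refine ⟨?_, hc⟩
    rw [← hTJ] at hc ⊢
    apply Subgroup.eq_of_le_of_card_ge hZT
    rw [hc]
    by_contra hc'
    have : Nat.card (Cfsg.omegaCenterOf (S : Subgroup G)) = 1 := by
      have := Nat.card_pos (α := ↥(Cfsg.omegaCenterOf (S : Subgroup G))); omega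
    exact hZne (Subgroup.eq_bot_of_card_eq _ this)
  · right
    by_cases hTS' : T = S
    · left
      exact ⟨by rw [← hTJ, ← hTS'], hc, hTS'⟩
    · right
      refine ⟨hTJ, hc, ?_⟩
      set Z₀ := Cfsg.omegaCenterOf (JJ T) with hZ₀
      have hlt : T < S := lt_of_le_of_ne hTS hTS'
      -- an element normalizing `T`
      have h1 := Cfsg.Agent.Lib.SylAmb.lt_inf_normalizer S.isPGroup' hlt
      obtain ⟨g, hg, hgT⟩ := SetLike.exists_of_lt h1
      have hgN : g ∈ normalizer (T : Set G) := (mem_inf.mp hg).2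
      have hgL : g ∉ L := by
        intro hgL
        -- `T ⊔ ⟨g⟩` is a 2-subgroup of `L`
        have h2 : T ⊔ zpowers g ≤ S := sup_le hTS (by rw [zpowers_le]; exact (mem_inf.mp hg).1)
        have h3 := h.eq_of_le (S := T ⊔ zpowers g) (S.isPGroup'.to_le h2) le_sup_left
          (sup_le h.TL (by rw [zpowers_le]; exact hgL))
        apply hgT
        rw [h3]
        exact mem_sup_right (mem_zpowers g)
      have hgJ : g ∈ normalizer (JJ T : Set G) := normalizer_le_normalizer_JJ T hgN
      have hgZ : g ∈ normalizer (Z₀ : Set G) := normalizer_le_normalizer_omegaCenterOf _ hgJ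
      have hU' := h.uq.conj_of_mem hgJ
      have hne' : cj g L ≠ L := fun e => hgL (h.uq.normalizer_le (mem_normalizer_of_map_conj_eq e))
      have hB := XFacts_card_B h.X
      have hBc : Nat.card (BK (JJ T) K) = 2 := by rw [← hZ₀, hc] at hB; omega
      obtain ⟨b, hb, hb1⟩ := exists_gen_of_card_two hBc
      have hbZ₀ : b ∈ Z₀ := (mem_inf.mp hb).1
      -- no conjugate of `b` in `Z`
      have hcl : ∀ d : G, d * b * d⁻¹ ∉ Cfsg.omegaCenterOf (S : Subgroup G) := by
        intro d hd
        have h2 := h.uq.cent_le (mem_inf.mp hb).1 (mem_inf.mp hb).2 hb1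
        have h3 : cj d⁻¹ (S : Subgroup G) ≤ L := by
          refine le_trans ?_ h2
          rintro _ ⟨s, hs, rfl⟩ y hy
          rw [Set.mem_singleton_iff.mp hy]
          show b * (d⁻¹ * s * d⁻¹⁻¹) = d⁻¹ * s * d⁻¹⁻¹ * b
          have h4 := (mem_omegaCenterOf.mp hd).2.1 s hs
          calc b * (d⁻¹ * s * d⁻¹⁻¹) = d⁻¹ * ((d * b * d⁻¹) * s) * d := by group
            _ = d⁻¹ * (s * (d * b * d⁻¹)) * d := by rw [h4]
            _ = _ := by group
        have h4 := h.lh.syl.card_le (isPGroup_map_conj S.isPGroup' d⁻¹) h3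
        rw [card_map_conj] at h4
        have h5 := two_mul_card_le hlt
        have := Nat.card_pos (α := T)
        omega
      obtain ⟨z, hz, hz1⟩ : ∃ z ∈ Cfsg.omegaCenterOf (S : Subgroup G), z ≠ 1 := by
        by_contra hcon
        push Not at hcon
        exact hZne (eq_bot_iff.mpr fun x hx => mem_bot.mpr (hcon x hx))
      have hzZ₀ : z ∈ Z₀ := by rw [← hTJ]; exact hZT hz
      set b' := g * b * g⁻¹ with hb'
      have hb'Z₀ : b' ∈ Z₀ := by
        have := map_conj_eq_of_mem hgZ
        rw [← this]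
        exact ⟨b, hbZ₀, rfl⟩
      have hb'1 : b' ≠ 1 := by
        intro e
        apply hb1
        have : b = g⁻¹ * b' * g := by rw [hb']; group
        rw [this, e]; group
      have hb'K : b' ∈ BK (JJ T) (cj g K) := by
        refine mem_inf.mpr ⟨hb'Z₀, ?_⟩
        rintro _ ⟨k, hk, rfl⟩
        show g * k * g⁻¹ * (g * b * g⁻¹) = g * b * g⁻¹ * (g * k * g⁻¹)
        have h2 := (mem_inf.mp hb).2 k hk
        calc g * k * g⁻¹ * (g * b * g⁻¹) = g * (k * b) * g⁻¹ := by group
          _ = g * (b * k) * g⁻¹ := by rw [h2]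
          _ = _ := by group
      have hbb : b ≠ b' := by
        intro e
        have : b ∈ BK (JJ T) K ⊓ BK (JJ T) (cj g K) := mem_inf.mpr ⟨hb, by rw [e]; exact hb'K⟩
        rw [BK_inf h.uq hU' hne', mem_bot] at this
        exact hb1 this
      have hzb : z ≠ b := by
        intro e
        apply hcl 1
        rw [one_mul, inv_one, mul_one, ← e]; exact hz
      have hzb' : z ≠ b' := by
        intro e
        apply hcl g
        rw [← hb', ← e]; exact hz
      have h4 := mem_four hc hbZ₀ hb'Z₀ hzZ₀ hb1 hb'1 hz1 hbb (Ne.symm hzb') (Ne.symm hzb)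
      have hCL : centralizer (Z₀ : Set G) ≤ L := by
        refine le_trans ?_ (h.uq.cent_le (mem_inf.mp hb).1 (mem_inf.mp hb).2 hb1)
        exact centralizer_le (Set.singleton_subset_iff.mpr hbZ₀)
      rw [inf_eq_right.mpr hCL]
      -- elements of the normalizer fix `z` and permute `b`, `b'`
      have hconj : ∀ x ∈ normalizer (Z₀ : Set G), ∀ v ∈ Z₀, x * v * x⁻¹ ∈ Z₀ := by
        intro x hx v hv
        have := map_conj_eq_of_mem hx
        rw [← this]
        exact ⟨v, hv, rfl⟩
      have hne1 : ∀ x : G, ∀ v : G, v ≠ 1 → x * v * x⁻¹ ≠ 1 := by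
        intro x v hv e
        apply hv
        have : v = x⁻¹ * (x * v * x⁻¹) * x := by group
        rw [this, e]; group
      have hxb : ∀ x ∈ normalizer (Z₀ : Set G), x * b * x⁻¹ = b ∨ x * b * x⁻¹ = b' := by
        intro x hx
        rcases h4 _ (hconj x hx b hbZ₀) with e | e | e | e
        · exact absurd e (hne1 x b hb1)
        · exact Or.inl e
        · exact Or.inr e
        · exact absurd (e ▸ hz) (hcl x)
      have hxb' : ∀ x ∈ normalizer (Z₀ : Set G), x * b' * x⁻¹ = b ∨ x * b' * x⁻¹ = b' := by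
        intro x hx
        rcases h4 _ (hconj x hx b' hb'Z₀) with e | e | e | e
        · exact absurd e (hne1 x b' hb'1)
        · exact Or.inl e
        · exact Or.inr e
        · exfalso
          apply hcl (x * g)
          have e2 : x * g * b * (x * g)⁻¹ = x * b' * x⁻¹ := by rw [hb']; group
          rw [e2, e]; exact hz
      have hinj : ∀ x u v : G, x * u * x⁻¹ = x * v * x⁻¹ → u = v := by
        intro x u v e
        exact mul_left_cancel (mul_right_cancel e)
      have hxz : ∀ x ∈ normalizer (Z₀ : Set G), x * z * x⁻¹ = z := by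
        intro x hx
        rcases h4 _ (hconj x hx z hzZ₀) with e | e | e | e
        · exact absurd e (hne1 x z hz1)
        · rcases hxb x hx with e2 | e2
          · exact absurd (hinj x z b (e.trans e2.symm)) hzb
          · rcases hxb' x hx with e3 | e3
            · exact absurd (hinj x z b' (e.trans e3.symm)) hzb'
            · exact absurd (hinj x b b' (e2.trans e3.symm)) hbb
        · rcases hxb' x hx with e2 | e2
          · rcases hxb x hx with e3 | e3
            · exact absurd (hinj x b b' (e3.trans e2.symm)) hbb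
            · exact absurd (hinj x z b (e.trans e3.symm)) hzb
          · exact absurd (hinj x z b' (e.trans e2.symm)) hzb'
        · exact e
      have hcent : ∀ x : G, x * b * x⁻¹ = b → x * b' * x⁻¹ = b' → x * z * x⁻¹ = z → x ∈ centralizer (Z₀ : Set G) := by
        intro x e1 e2 e3 v hv
        have key : ∀ v : G, x * v * x⁻¹ = v → v * x = x * v := by
          intro v e
          calc v * x = (x * v * x⁻¹) * x := by rw [e]
            _ = x * v := by group
        rcases h4 v hv with e | e | e | e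
        · rw [e]; simp
        · rw [e]; exact key b e1
        · rw [e]; exact key b' e2
        · rw [e]; exact key z e3
      have hsw : ∀ x ∈ normalizer (Z₀ : Set G), x ∉ centralizer (Z₀ : Set G) → x * b * x⁻¹ = b' ∧ x * b' * x⁻¹ = b := by
        intro x hx hxC
        rcases hxb x hx with e1 | e1
        · exfalso
          rcases hxb' x hx with e2 | e2
          · exact hbb (hinj x b b' (e1.trans e2.symm))
          · exact hxC (hcent x e1 e2 (hxz x hx))
        · refine ⟨e1, ?_⟩
          rcases hxb' x hx with e2 | e2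
          · exact e2
          · exact absurd (hinj x b b' (e1.trans e2.symm)) hbb
      have hCN : centralizer (Z₀ : Set G) ≤ normalizer (Z₀ : Set G) := centralizer_le_normalizer _
      have h5 : Nat.card (normalizer (Z₀ : Set G)) ≤ 2 * Nat.card (centralizer (Z₀ : Set G)) := by
        apply card_le_two_mul_of_mul_mem hCN
        intro x hx y hy hx' hy'
        obtain ⟨x1, x2⟩ := hsw x hx hx'
        obtain ⟨y1, y2⟩ := hsw y hy hy'
        apply hcent
        · calc x * y * b * (x * y)⁻¹ = x * (y * b * y⁻¹) * x⁻¹ := by group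
            _ = b := by rw [y1, x2]
        · calc x * y * b' * (x * y)⁻¹ = x * (y * b' * y⁻¹) * x⁻¹ := by group
            _ = b' := by rw [y2, x1]
        · calc x * y * z * (x * y)⁻¹ = x * (y * z * y⁻¹) * x⁻¹ := by group
            _ = z := by rw [hxz y hy, hxz x hx]
      have h6 : centralizer (Z₀ : Set G) < normalizer (Z₀ : Set G) := by
        refine lt_of_le_of_ne hCN ?_
        intro e
        apply hgL
        apply hCL
        rw [e]; exact hgZ
      have h7 := two_mul_card_le h6
      have h8 := SubgroupTools.card_mul_relIndex_of_le hCN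
      have h9 : 0 < Nat.card (centralizer (Z₀ : Set G)) := Nat.card_pos
      apply Nat.eq_of_mul_eq_mul_left h9
      rw [h8]; omega

end Cfsg.Agent.Lib.AmG
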