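import Cfsg.Agent.Lib.AmK
import Cfsg.Agent.Lib.AmM
import Cfsg.Agent.Lib.AbelianCoprime

/-!
Symmetric pairs `(P, P^g)` with `|P : O₂(P)| = 2 q` (Sims' theorem).
-/

set_option autoImplicit false
set_option linter.unusedSectionVars false

namespace Cfsg.Agent.Lib.AmG

open Subgroup commutatorElement Cfsg.Agent.Lib.LocBase Cfsg.Agent.Lib.TvStruct Cfsg.Agent.Lib.ZN
open scoped Pointwise

universe u

variable {G : Type u} [Group G] [Finite G]

theorem norm_comm_left (K Y : Subgroup G) : K ≤ normalizer ((⁅K, Y⁆ : Subgroup G) : Set G) := by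
  intro k hk
  apply mem_normalizer_of_map_conj_le
  rw [Subgroup.commutator_def, MonoidHom.map_closure, closure_le]
  rintro _ ⟨_, ⟨a, ha, b, hb, rfl⟩, rfl⟩
  show k * ⁅a, b⁆ * k⁻¹ ∈ ⁅K, Y⁆
  have e : k * ⁅a, b⁆ * k⁻¹ = ⁅k * a, b⁆ * ⁅k, b⁆⁻¹ := by
    simp only [commutatorElement_def]; group
  rw [e]
  exact mul_mem (commutator_mem_commutator (mul_mem hk ha) hb) (inv_mem (commutator_mem_commutator hk hb))

structure SP (T P : Subgroup G) (g : G) (q : ℕ) : Prop where
  syl : IsSyl 2 T P
  cent : centralizer (Cfsg.pCoreOf 2 P : Set G) ≤ Cfsg.pCoreOf 2 P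
  idx : (Cfsg.pCoreOf 2 P).relIndex P = 2 * q
  prime : q.Prime
  gN : g ∈ normalizer (T : Set G)
  faith : ∀ N ≤ T, P ≤ normalizer (N : Set G) → cj g P ≤ normalizer (N : Set G) → N = ⊥

section sp

variable {T P : Subgroup G} {g : G} {q : ℕ} (h : SP T P g q)
include h

theorem SP.card_P : Nat.card P = 2 * q * Nat.card (Cfsg.pCoreOf 2 P) := by
  have h1 := SubgroupTools.card_mul_relIndex_of_le (pCoreOf_le (p := 2) P)
  rw [h.idx] at h1
  rw [← h1]; ring

theorem SP.not_pgroup : ¬ IsPGroup 2 P := by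
  intro hp
  have h1 : P ≤ Cfsg.pCoreOf 2 P := le_pCoreOf le_rfl le_normalizer hp
  have h2 := relIndex_eq_one.mpr h1
  rw [h.idx] at h2
  omega

theorem SP.q_odd : q ≠ 2 := by
  intro hq
  apply h.not_pgroup
  have h1 := h.card_P
  obtain ⟨n, hn⟩ := (IsPGroup.iff_card (p := 2)).mp (isPGroup_pCoreOf 2 P)
  rw [hn, hq] at h1
  exact IsPGroup.of_card (n := n + 2) (by rw [h1]; ring)

theorem SP.QT : Cfsg.pCoreOf 2 P ≤ T := h.syl.pCoreOf_le

theorem SP.card_T : Nat.card T = 2 * Nat.card (Cfsg.pCoreOf 2 P) := by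
  have h1 := SubgroupTools.card_mul_relIndex_of_le h.syl.le
  have h2 := SubgroupTools.card_mul_relIndex_of_le h.QT
  have h3 := h.card_P
  have hQ : 0 < Nat.card (Cfsg.pCoreOf 2 P) := Nat.card_pos
  set k := (Cfsg.pCoreOf 2 P).relIndex T with hk
  set m := T.relIndex P with hm
  have h4 : k * m = 2 * q := by
    apply Nat.eq_of_mul_eq_mul_left hQ
    rw [← mul_assoc, h2, h1, h3]; ring
  have h5 : ¬ 2 ∣ m := h.syl.ndvd
  have h6 : 2 ∣ k := by
    have : 2 ∣ k * m := ⟨q, h4⟩
    rcases (Nat.prime_two.dvd_mul).mp this with e | e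
    · exact e
    · exact absurd e h5
  obtain ⟨k', hk'⟩ := h6
  have h7 : k' * m = q := by
    rw [hk'] at h4
    have : 2 * (k' * m) = 2 * q := by rw [← h4]; ring
    omega
  have h8 : k' = 1 := by
    rcases (Nat.dvd_prime h.prime).mp ⟨m, h7.symm⟩ with e | e
    · exact e
    · exfalso
      -- `2 q ∣ |T|`
      have h9 : q ∣ Nat.card T := by
        rw [← h2, hk', e]
        exact ⟨Nat.card (Cfsg.pCoreOf 2 P) * 2, by ring⟩
      obtain ⟨n, hn⟩ := (IsPGroup.iff_card (p := 2)).mp h.syl.pgroup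
      rw [hn] at h9
      have := (Nat.prime_dvd_prime_iff_eq h.prime Nat.prime_two).mp (h.prime.dvd_of_dvd_pow h9)
      exact h.q_odd this
  rw [← h2, hk', h8]; ring

theorem SP.card_P' : Nat.card P = q * Nat.card T := by rw [h.card_P, h.card_T]; ring

/-- `P` is generated by `T` and any element outside of `T` -/
theorem SP.eq_of_gt {H : Subgroup G} (hTH : T < H) (hHP : H ≤ P) : H = P := by
  apply Subgroup.eq_of_le_of_card_ge hHP
  have hc1 := Subgroup.card_dvd_of_le hHP
  have hc2 := Subgroup.card_dvd_of_le hTH.le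
  have hc3 := two_mul_card_le hTH
  rw [h.card_P'] at hc1 ⊢
  obtain ⟨a, ha⟩ := hc2
  obtain ⟨b, hb⟩ := hc1
  have hTpos : 0 < Nat.card T := Nat.card_pos
  have hab : a * b = q := by
    rw [ha] at hb
    apply Nat.eq_of_mul_eq_mul_left hTpos
    rw [← mul_assoc, ← hb]; ring
  rcases (Nat.dvd_prime h.prime).mp ⟨b, hab.symm⟩ with e | e
  · rw [e] at ha; omega
  · rw [ha, e, mul_comm]

theorem SP.T_ne : T ≠ ⊥ := by
  intro e
  have h1 := h.card_T
  rw [e, card_bot] at h1
  have := Nat.card_pos (α := ↥(Cfsg.pCoreOf 2 P))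
  omega

/-- a subgroup invariant under `P` and `g` is trivial -/
theorem SP.faith' {N : Subgroup G} (hN : N ≤ T) (hP : P ≤ normalizer (N : Set G)) (hg : g ∈ normalizer (N : Set G)) :
    N = ⊥ := by
  apply h.faith N hN hP
  have h1 := map_conj_mono g hP
  rwa [map_conj_eq_of_mem (le_normalizer hg)] at h1

theorem SP.lh : LH T P := by
  refine ⟨h.syl, ?_, h.cent⟩
  intro hle
  have h1 : JJ (Cfsg.pCoreOf 2 P) = JJ T := JJ_eq_of_le h.QT hle
  have hJ : JJ T = ⊥ := by
    apply h.faith' (JJ_le T)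
    · rw [← h1]
      exact (le_normalizer_pCoreOf 2 P).trans (normalizer_le_normalizer_JJ _)
    · exact normalizer_le_normalizer_JJ T h.gN
  exact JJ_ne_bot h.syl.pgroup h.T_ne hJ

theorem SP.centV : P ⊓ centralizer (VL T P : Set G) = Cfsg.pCoreOf 2 P := by
  symm
  set Q := Cfsg.pCoreOf 2 P with hQ
  set N := P ⊓ centralizer (VL T P : Set G) with hN
  have hQN : Q ≤ N := le_inf (pCoreOf_le P) h.lh.core_le_centralizer
  have hNn : P ≤ normalizer (N : Set G) :=
    le_normalizer_inf le_normalizer (le_normalizer_centralizer (le_normalizer_VL T P))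
  by_contra hne
  have hnp : ¬ IsPGroup 2 N := fun hp => hne (le_antisymm hQN (le_pCoreOf inf_le_left hNn hp))
  have hNT : ¬ N ≤ T := fun hle => hnp (h.syl.pgroup.to_le hle)
  have hlt : T < N ⊔ T := by
    refine lt_of_le_of_ne le_sup_right ?_
    intro e
    exact hNT (by rw [e]; exact le_sup_left)
  have h1 := h.eq_of_gt hlt (sup_le inf_le_left h.syl.le)
  have h2 : Cfsg.omegaCenterOf T = ⊥ := by
    apply h.faith' (omegaCenterOf_le T)
    · rw [← h1]
      refine sup_le ?_ (le_normalizer.trans (normalizer_le_normalizer_omegaCenterOf T))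
      refine le_trans ?_ (centralizer_le_normalizer _)
      exact inf_le_right.trans (centralizer_le (SetLike.coe_subset_coe.mpr (omega_le_VL T P)))
    · exact normalizer_le_normalizer_omegaCenterOf T h.gN
  exact omegaCenterOf_ne_bot h.syl.pgroup h.T_ne h2

/-- `C_V(P)` has index at most 4 in `V` -/
theorem SP.card_V_le : Nat.card (VL T P) ≤ 4 * Nat.card (VL T P ⊓ centralizer (P : Set G) : Subgroup G) := by
  set Q := Cfsg.pCoreOf 2 P with hQ
  set V := VL T P with hV
  have hVe := ThompsonJ.elemAb_iff.mp h.lh.EA_VL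
  have hVN : P ≤ normalizer (V : Set G) := le_normalizer_VL T P
  have hcV := h.centV
  rw [← hQ, ← hV] at hcV
  obtain ⟨A, hA, hAQ⟩ : ∃ A ∈ AA T, ¬ A ≤ Q := by
    by_contra hcon
    push Not at hcon
    apply h.lh.notle
    rw [JJ_eq]
    exact sSup_le hcon
  have hAP : A ≤ P := hA.1.trans h.syl.le
  have hAC : A ⊓ centralizer (V : Set G) = A ⊓ Q := by
    rw [← hcV]
    apply le_antisymm
    · exact le_inf inf_le_left (le_inf (inf_le_left.trans hAP) inf_le_right)
    · exact le_inf inf_le_left (inf_le_right.trans inf_le_right)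
  -- index two
  have hAT : Q ⊔ A = T := by
    have h1 : Q < Q ⊔ A := by
      refine lt_of_le_of_ne le_sup_left ?_
      intro e
      exact hAQ (by rw [e]; exact le_sup_right)
    have h2 := two_mul_card_le h1
    apply Subgroup.eq_of_le_of_card_ge (sup_le h.QT hA.1)
    rw [h.card_T]; exact h2
  have hAidx : Nat.card A = 2 * Nat.card (A ⊓ Q : Subgroup G) := by
    have h1 := SubgroupTools.card_sup_mul_card_inf (hAP.trans (le_normalizer_pCoreOf 2 P))
    rw [← hQ, hAT, h.card_T, ← hQ, inf_comm] at h1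
    have hQpos : 0 < Nat.card Q := Nat.card_pos
    apply Nat.eq_of_mul_eq_mul_left hQpos
    rw [← h1]; ring
  have hcard := card_VA hA h.lh.EA_VL h.lh.VL_le
  rw [← hV, hAC] at hcard
  have hU : Nat.card V ≤ 2 * Nat.card (V ⊓ centralizer (A : Set G) : Subgroup G) := by
    have hpos : 0 < Nat.card (A ⊓ Q : Subgroup G) := Nat.card_pos
    rw [hAidx] at hcard
    apply Nat.le_of_mul_le_mul_left _ hpos
    calc Nat.card (A ⊓ Q : Subgroup G) * Nat.card V ≤ _ := hcard
      _ = _ := by ring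
  -- a conjugate of `A` outside of `T`
  obtain ⟨x, hx, hxA⟩ : ∃ x ∈ P, ¬ cj x A ≤ T := by
    by_contra hcon
    push Not at hcon
    set N := ⨆ x : ↥P, cj (x : G) A with hN
    have hNT : N ≤ T := iSup_le fun x => hcon x x.2
    have hNn : P ≤ normalizer (N : Set G) := by
      intro y hy
      apply mem_normalizer_of_map_conj_le
      rw [hN, Subgroup.map_iSup]
      apply iSup_le
      intro x
      rw [← map_conj_mul]
      exact le_iSup (fun x : ↥P => cj (x : G) A) ⟨y * x, mul_mem hy x.2⟩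
    have h1 : N ≤ Q := le_pCoreOf (hNT.trans h.syl.le) hNn (h.syl.pgroup.to_le hNT)
    apply hAQ
    refine le_trans ?_ h1
    have h2 := le_iSup (fun x : ↥P => cj (x : G) A) 1
    have h3 : cj ((1 : ↥P) : G) A = A := map_conj_one A
    rw [h3] at h2
    exact h2
  have hgen : T ⊔ cj x A = P := by
    apply h.eq_of_gt
    · refine lt_of_le_of_ne le_sup_left ?_
      intro e
      exact hxA (by rw [e]; exact le_sup_right)
    · refine sup_le h.syl.le ?_
      have := map_conj_mono x hAP
      rwa [map_conj_eq_of_mem (le_normalizer hx)] at this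
  set U := V ⊓ centralizer (A : Set G) with hUd
  have hUx : V ⊓ centralizer (cj x A : Set G) = cj x U := by
    show _ = (V ⊓ centralizer (A : Set G)).map (MulAut.conj x).toMonoidHom
    rw [map_inf _ _ _ (MulAut.conj x).injective, map_conj_centralizer, map_conj_eq_of_mem (hVN hx)]
  have hUU : U ⊓ cj x U ≤ V ⊓ centralizer (P : Set G) := by
    rw [← hUx]
    refine le_inf (inf_le_left.trans inf_le_left) ?_
    rw [← hgen, ← hAT, le_centralizer_iff]
    refine sup_le (sup_le ?_ ?_) ?_
    · rw [le_centralizer_iff]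
      exact ((inf_le_left.trans inf_le_left).trans h.lh.VL_le_centralizer_core)
    · rw [le_centralizer_iff]; exact inf_le_left.trans inf_le_right
    · rw [le_centralizer_iff]; exact inf_le_right.trans inf_le_right
  have hcU : Nat.card (cj x U) = Nat.card U := card_map_conj _ _
  have hUV : cj x U ≤ V := by rw [← hUx]; exact inf_le_left
  have hcomm : cj x U ≤ normalizer (U : Set G) :=
    ((hUV.trans hVe.1).trans (centralizer_le (SetLike.coe_subset_coe.mpr inf_le_left))).trans
      (centralizer_le_normalizer _)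
  have h1 := SubgroupTools.card_sup_mul_card_inf hcomm
  rw [hcU] at h1
  have h2 := card_le_of_le (sup_le inf_le_left hUV : U ⊔ cj x U ≤ V)
  have h3 := card_le_of_le hUU
  -- |U|² ≤ |V| |U ∩ U^x| ≤ 2|U| |U ∩ U^x|
  have hUpos : 0 < Nat.card U := Nat.card_pos
  have h4 : Nat.card U ≤ 2 * Nat.card (U ⊓ cj x U : Subgroup G) := by
    apply Nat.le_of_mul_le_mul_left _ hUpos
    calc Nat.card U * Nat.card U = Nat.card (U ⊔ cj x U : Subgroup G) * Nat.card (U ⊓ cj x U : Subgroup G) := h1.symm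
      _ ≤ (2 * Nat.card U) * Nat.card (U ⊓ cj x U : Subgroup G) := Nat.mul_le_mul_right _ (h2.trans hU)
      _ = _ := by ring
  omega

theorem SP.q_eq : q = 3 := by
  set V := VL T P with hV
  have hVe := ThompsonJ.elemAb_iff.mp h.lh.EA_VL
  have hVN : P ≤ normalizer (V : Set G) := le_normalizer_VL T P
  have := Fact.mk h.prime
  have hdvd : q ∣ Nat.card ↥P := ⟨Nat.card T, h.card_P'⟩
  obtain ⟨y, hy⟩ := exists_prime_orderOf_dvd_card' (G := ↥P) q hdvd
  have hyo : orderOf (y : G) = q := by rw [Subgroup.orderOf_coe]; exact hy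
  have hY : zpowers (y : G) ≤ normalizer (V : Set G) := by rw [zpowers_le]; exact hVN y.2
  have hcy : Nat.card (zpowers (y : G)) = q := by rw [Nat.card_zpowers, hyo]
  have hcop : (Nat.card V).Coprime (Nat.card (zpowers (y : G))) := by
    obtain ⟨n, hn⟩ := (IsPGroup.iff_card (p := 2)).mp (ThompsonJ.elemAb_isPGroup h.lh.EA_VL)
    rw [hcy, hn]
    exact Nat.Coprime.pow_left n ((Nat.coprime_primes Nat.prime_two h.prime).mpr (Ne.symm h.q_odd))
  have hVc : IsMulCommutative V := by
    constructor; constructor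
    intro a b
    exact Subtype.ext (hVe.1 b.2 a a.2)
  have hsup := AbelianCoprime.abelian_sup hVc hY hcop
  have hinf := AbelianCoprime.abelian_inf hVc hY hcop
  set W := ⁅V, zpowers (y : G)⁆ with hW
  have hWV : W ≤ V := commutator_le_left_of_le hY
  have hYW : zpowers (y : G) ≤ normalizer (W : Set G) := le_normalizer_commutator hY le_normalizer
  -- `y ∉ Q`
  have hyQ : (y : G) ∉ centralizer (V : Set G) := by
    intro hyC
    have h1 : (y : G) ∈ Cfsg.pCoreOf 2 P := by rw [← h.centV]; exact ⟨y.2, hyC⟩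
    have h2 : (y : G) = 1 := by
      apply eq_one_of_isPGroup_of_pow (isPGroup_pCoreOf 2 P) h1 (n := q)
      · exact (Nat.coprime_primes h.prime Nat.prime_two).mpr h.q_odd
      · rw [← hyo]; exact pow_orderOf_eq_one _
    rw [h2, orderOf_one] at hyo
    exact h.prime.one_lt.ne hyo
  -- `|W| ≤ 4`
  have hW4 : Nat.card W ≤ 4 := by
    set D := V ⊓ centralizer (P : Set G) with hD
    have hDW : D ⊓ W = ⊥ := by
      rw [eq_bot_iff, ← hinf]
      refine inf_le_inf_right _ (le_inf inf_le_left ?_)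
      exact inf_le_right.trans (centralizer_le (SetLike.coe_subset_coe.mpr (by rw [zpowers_le]; exact y.2)))
    have hcomm : W ≤ normalizer (D : Set G) :=
      ((hWV.trans hVe.1).trans (centralizer_le (SetLike.coe_subset_coe.mpr inf_le_left))).trans
        (centralizer_le_normalizer _)
    have h1 := SubgroupTools.card_sup_mul_card_inf hcomm
    rw [hDW, card_bot, mul_one] at h1
    have h2 := card_le_of_le (sup_le inf_le_left hWV : D ⊔ W ≤ V)
    have h3 := h.card_V_le
    rw [← hV, ← hD] at h3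
    have hDpos : 0 < Nat.card D := Nat.card_pos
    apply Nat.le_of_mul_le_mul_left _ hDpos
    rw [← h1]
    calc _ ≤ Nat.card V := h2
      _ ≤ 4 * Nat.card D := h3
      _ = _ := by ring
  -- `W ≰ C(y)`
  have hWy : ¬ zpowers (y : G) ≤ centralizer (W : Set G) := by
    intro hle
    apply hyQ
    have h1 : W ≤ V ⊓ centralizer (zpowers (y : G) : Set G) := le_inf hWV (le_centralizer_iff.mp hle)
    have h2 : V ⊓ centralizer (zpowers (y : G) : Set G) = V := by
      rw [sup_eq_left.mpr h1] at hsup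
      exact hsup
    have h3 : zpowers (y : G) ≤ centralizer (V : Set G) := by
      rw [le_centralizer_iff, ← h2]; exact inf_le_right
    exact h3 (mem_zpowers _)
  have hWcard : Nat.card W = 4 := by
    have hdvd := Subgroup.card_dvd_of_le hWV
    obtain ⟨n, hn⟩ := (IsPGroup.iff_card (p := 2)).mp (ThompsonJ.elemAb_isPGroup h.lh.EA_VL)
    rw [hn] at hdvd
    obtain ⟨m, _, hm⟩ := (Nat.dvd_prime_pow Nat.prime_two).mp hdvd
    by_contra hne
    apply hWy
    have hW2 : Nat.card W ≤ 2 := by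
      rw [hm] at hW4 hne ⊢
      have hm2 : m < 3 := by
        by_contra hc
        have : 2 ^ 3 ≤ 2 ^ m := Nat.pow_le_pow_right (by norm_num) (by omega)
        omega
      interval_cases m
      · norm_num
      · norm_num
      · exact absurd rfl hne
    -- `zpowers y` is generated by odd order elements
    have hres : pRes 2 (zpowers (y : G)) = zpowers (y : G) := by
      apply le_antisymm (pRes_le 2 _)
      rw [zpowers_le]
      apply mem_pRes (mem_zpowers _)
      rw [hyo]
      exact (Nat.coprime_primes h.prime Nat.prime_two).mpr h.q_odd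
    rw [le_centralizer_iff]
    exact le_centralizer_of_card_le_two_pRes hres hYW hW2
  have h6 := relIndex_centralizer_dvd_six hWcard hYW
  have h7 : (centralizer (W : Set G)).relIndex (zpowers (y : G)) ∣ q := by
    rw [← hcy]; exact Subgroup.relIndex_dvd_card _ _
  rcases (Nat.dvd_prime h.prime).mp h7 with e | e
  · exact absurd (relIndex_eq_one.mp e) hWy
  · rw [e] at h6
    have h8 : q ∣ 2 * 3 := h6
    rcases (h.prime.dvd_mul).mp h8 with e2 | e2
    · exact absurd ((Nat.prime_dvd_prime_iff_eq h.prime Nat.prime_two).mp e2) h.q_odd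
    · exact (Nat.prime_dvd_prime_iff_eq h.prime Nat.prime_three).mp e2

theorem SP.xfacts : XFacts (JJ T) (pRes 2 P) := by
  set Q := Cfsg.pCoreOf 2 P with hQ
  set K := pRes 2 P with hK
  set V := VL T P with hV
  have hq := h.q_eq
  have hKP : K ≤ P := pRes_le 2 P
  have hKn : P ≤ normalizer (K : Set G) := le_normalizer_pRes 2 P
  have hKK : pRes 2 K = K := pRes_pRes 2 P
  have hJP : JJ T ≤ P := (JJ_le T).trans h.syl.le
  have hKp : ¬ IsPGroup 2 K := by
    intro hp
    have h1 := (isPGroup_iff_pRes_eq_bot (p := 2)).mp hp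
    rw [hKK] at h1
    exact h.not_pgroup ((isPGroup_iff_pRes_eq_bot (p := 2)).mpr h1)
  have hsup : T ⊔ K = P := h.syl.sup_pRes
  have hO : Cfsg.pCoreOf 2 K = K ⊓ Q := by
    apply le_antisymm
    · refine le_inf (pCoreOf_le K) ?_
      exact le_pCoreOf ((pCoreOf_le K).trans hKP) (hKn.trans (normalizer_le_normalizer_pCoreOf 2 K)) (isPGroup_pCoreOf 2 K)
    · exact le_pCoreOf inf_le_left (le_normalizer_inf le_normalizer (hKP.trans (le_normalizer_pCoreOf 2 P)))
        ((isPGroup_pCoreOf 2 P).to_le inf_le_right)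
  -- the subgroup of index two
  have := Fact.mk Nat.prime_three
  have hdvd : 3 ∣ Nat.card ↥P := ⟨Nat.card T, by rw [h.card_P', hq]⟩
  obtain ⟨y, hy⟩ := exists_prime_orderOf_dvd_card' (G := ↥P) 3 hdvd
  have hyo : orderOf (y : G) = 3 := by rw [Subgroup.orderOf_coe]; exact hy
  have hyK : (y : G) ∈ K := mem_pRes y.2 (by rw [hyo]; norm_num)
  have hyN : zpowers (y : G) ≤ normalizer (Q : Set G) := by rw [zpowers_le]; exact le_normalizer_pCoreOf 2 P y.2
  have hyQ : Q ⊓ zpowers (y : G) = ⊥ := by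
    apply Subgroup.eq_bot_of_card_eq
    have h1 := Subgroup.card_dvd_of_le (inf_le_right : Q ⊓ zpowers (y : G) ≤ zpowers (y : G))
    have h2 := Subgroup.card_dvd_of_le (inf_le_left : Q ⊓ zpowers (y : G) ≤ Q)
    rw [Nat.card_zpowers, hyo] at h1
    obtain ⟨n, hn⟩ := (IsPGroup.iff_card (p := 2)).mp (isPGroup_pCoreOf 2 P)
    rw [← hQ] at hn
    rw [hn] at h2
    have h3 : Nat.Coprime 3 (2 ^ n) := Nat.Coprime.pow_right n (by norm_num)
    exact Nat.eq_one_of_dvd_coprimes h3 h1 h2
  have hQpos : 0 < Nat.card Q := Nat.card_pos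
  have hN3c : Nat.card (Q ⊔ zpowers (y : G) : Subgroup G) = 3 * Nat.card Q := by
    have h1 := SubgroupTools.card_sup_mul_card_inf hyN
    rw [hyQ, card_bot, mul_one, Nat.card_zpowers, hyo] at h1
    rw [h1]; ring
  have hN3P : Q ⊔ zpowers (y : G) ≤ P := sup_le (pCoreOf_le P) (by rw [zpowers_le]; exact y.2)
  have hidx2 : ((Q ⊔ zpowers (y : G)).subgroupOf P).index = 2 := by
    have h1 := SubgroupTools.card_mul_relIndex_of_le hN3P
    rw [hN3c, h.card_P, hq, ← hQ] at h1
    show (Q ⊔ zpowers (y : G)).relIndex P = 2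
    apply Nat.eq_of_mul_eq_mul_left (show 0 < 3 * Nat.card Q by omega)
    rw [h1]; ring
  have hKN3 : K ≤ Q ⊔ zpowers (y : G) := by
    apply pRes_le_of_pow_mem
    intro x hx
    refine ⟨1, ?_⟩
    have h1 := Subgroup.sq_mem_of_index_two hidx2 ⟨x, hx⟩
    rw [mem_subgroupOf] at h1
    simpa using h1
  have hidx3 : (Cfsg.pCoreOf 2 K).relIndex K = 3 := by
    rw [hO]
    have h1 := SubgroupTools.card_mul_relIndex_of_le (inf_le_left : K ⊓ Q ≤ K)
    have h2 := SubgroupTools.card_sup_mul_card_inf (hKP.trans (le_normalizer_pCoreOf 2 P))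
    have h3 : Cfsg.pCoreOf 2 P ⊔ K = Q ⊔ zpowers (y : G) := by
      apply le_antisymm (sup_le le_sup_left hKN3)
      exact sup_le_sup_left (by rw [zpowers_le]; exact hyK) _
    rw [h3, hN3c, inf_comm] at h2
    have hpos : 0 < Nat.card (K ⊓ Q : Subgroup G) := Nat.card_pos
    apply Nat.eq_of_mul_eq_mul_left hpos
    rw [h1]
    apply Nat.eq_of_mul_eq_mul_left hQpos
    rw [← h2]; ring
  -- `[K, J] = K`
  have hJQ : Q ⊔ JJ T = T := by
    have h1 : Q < Q ⊔ JJ T := by
      refine lt_of_le_of_ne le_sup_left ?_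
      intro e
      exact h.lh.notle (by rw [← hQ, e]; exact le_sup_right)
    have h2 := two_mul_card_le h1
    apply Subgroup.eq_of_le_of_card_ge (sup_le h.QT (JJ_le T))
    rw [h.card_T]; exact h2
  have hcommK : ⁅K, JJ T⁆ = K := by
    set M := ⁅K, JJ T⁆ with hM
    have hMK : M ≤ K := commutator_le_left_of_le (hJP.trans hKn)
    have hMn : K ≤ normalizer (M : Set G) := by
      intro k hk
      rw [hM]
      exact norm_comm_left K (JJ T) hk
    apply le_antisymm hMK
    have hMO : ¬ M ≤ Cfsg.pCoreOf 2 K := by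
      intro hle
      -- then `K` normalizes `T`
      have h1 : K ≤ normalizer (T : Set G) := by
        intro k hk
        apply mem_normalizer_of_map_conj_le
        rw [← hJQ, Subgroup.map_sup]
        refine sup_le ?_ ?_
        · rw [map_conj_eq_of_mem (le_normalizer_pCoreOf 2 P (hKP hk))]
          exact le_sup_left
        · rintro _ ⟨j, hj, rfl⟩
          show k * j * k⁻¹ ∈ _
          have e : k * j * k⁻¹ = ⁅k, j⁆ * j := by rw [commutatorElement_def]; group
          rw [e]
          refine mul_mem (mem_sup_left ?_) (mem_sup_right hj)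
          have h2 := hle (commutator_mem_commutator hk hj)
          rw [hO] at h2
          exact (mem_inf.mp h2).2
      have h2 : P ≤ normalizer (T : Set G) := by
        rw [← hsup]; exact sup_le le_normalizer h1
      have h3 : T ≤ Q := le_pCoreOf h.syl.le h2 h.syl.pgroup
      have h4 := card_le_of_le h3
      rw [h.card_T, ← hQ] at h4
      omega
    have h1 : K ≤ normalizer (Cfsg.pCoreOf 2 K : Set G) := le_normalizer_pCoreOf 2 K
    have hMsup : Cfsg.pCoreOf 2 K ⊔ M = K := by
      have hle : Cfsg.pCoreOf 2 K ⊔ M ≤ K := sup_le (pCoreOf_le K) hMK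
      apply Subgroup.eq_of_le_of_card_ge hle
      have h2 : Cfsg.pCoreOf 2 K < Cfsg.pCoreOf 2 K ⊔ M := by
        refine lt_of_le_of_ne le_sup_left ?_
        intro e
        exact hMO (by rw [e]; exact le_sup_right)
      have h3 := SubgroupTools.card_mul_relIndex_of_le (pCoreOf_le (p := 2) K)
      rw [hidx3] at h3
      have h4 := Subgroup.card_dvd_of_le hle
      have h5 := Subgroup.card_dvd_of_le h2.le
      have h6 := two_mul_card_le h2
      rw [← h3] at h4 ⊢
      obtain ⟨a, ha⟩ := h5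
      obtain ⟨b, hb⟩ := h4
      have hpos : 0 < Nat.card (Cfsg.pCoreOf 2 K) := Nat.card_pos
      have hab : a * b = 3 := by
        rw [ha] at hb
        apply Nat.eq_of_mul_eq_mul_left hpos
        rw [← mul_assoc, ← hb]
      rcases (Nat.dvd_prime Nat.prime_three).mp ⟨b, hab.symm⟩ with e | e
      · rw [e] at ha; omega
      · rw [ha, e]
    rw [← hKK]
    apply pRes_le_of_pow_mem
    intro k hk
    rw [← hMsup] at hk
    obtain ⟨o, ho, m, hm, rfl⟩ := exists_mul_of_mem_sup_of_le (hMK.trans h1) hk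
    obtain ⟨n, hn⟩ := (isPGroup_pCoreOf 2 K) ⟨o, ho⟩
    refine ⟨n, ?_⟩
    have hn' : o ^ 2 ^ n = 1 := by
      have := congrArg Subtype.val hn
      simpa using this
    -- modulo `M` the element is `o`
    have hoN : o ∈ normalizer (M : Set G) := hMn (pCoreOf_le K ho)
    have key : ∀ j : ℕ, (o ^ j)⁻¹ * (o * m) ^ j ∈ M := by
      intro j
      induction j with
      | zero => simp
      | succ j ih =>
        have e : (o ^ (j + 1))⁻¹ * (o * m) ^ (j + 1) = (o⁻¹ * ((o ^ j)⁻¹ * (o * m) ^ j) * o) * m := by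
          rw [pow_succ, pow_succ]; group
        rw [e]
        refine mul_mem ?_ hm
        have h2 := conj_mem_of_le_normalizer' (show zpowers o ≤ normalizer (M : Set G) by rwa [zpowers_le])
          (mem_zpowers o) ih
        exact h2
    have := key (2 ^ n)
    rwa [hn', inv_one, one_mul] at this
  have hXP : K ⊔ JJ T ≤ P := sup_le hKP hJP
  have hmax : ∀ S : Subgroup G, IsSyl 2 S (K ⊔ JJ T) → JJ T ≤ S → JJ S = JJ T := by
    intro S hS hJS
    exact JJ_eq_of_pgroup h.syl hS.pgroup (hS.le.trans hXP) hJS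
  have hpre : XPre (JJ T) K := ⟨hcommK, hKK, hidx3, h.syl.pgroup.to_le (JJ_le T), JJ_JJ T, hmax⟩
  refine ⟨hcommK, hKK, hidx3, h.syl.pgroup.to_le (JJ_le T), JJ_JJ T, hmax, ?_⟩
  apply le_antisymm hpre.card_wOf_le
  by_contra hcon
  -- `K` centralizes `wOf K`
  have hKW : K ≤ normalizer (Cfsg.wOf K : Set G) := le_normalizer.trans (normalizer_le_normalizer_wOf K)
  have hdvdW : ∃ m, Nat.card (Cfsg.wOf K) = 2 ^ m := (IsPGroup.iff_card (p := 2)).mp (ThompsonJ.elemAb_isPGroup EA_wOf)
  have hW2 : Nat.card (Cfsg.wOf K) ≤ 2 := by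
    obtain ⟨m, hm⟩ := hdvdW
    rw [hm] at hcon ⊢
    have hm2 : m < 2 := by
      by_contra hc
      have : 2 ^ 2 ≤ 2 ^ m := Nat.pow_le_pow_right (by norm_num) (by omega)
      omega
    interval_cases m <;> norm_num
  have hWc := le_centralizer_of_card_le_two_pRes hKK hKW hW2
  have hWb : Cfsg.wOf K = ⊥ := by
    have h1 := hpre.W_idem
    rw [commutator_eq_bot_iff_le_centralizer.mpr hWc] at h1
    exact h1.symm
  -- `[V, K] ≤ wOf K`
  have hVN : P ≤ normalizer (V : Set G) := le_normalizer_VL T P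
  have hVe := ThompsonJ.elemAb_iff.mp h.lh.EA_VL
  have hVK : ⁅V, K⁆ ≤ Cfsg.omegaCenterOf (Cfsg.pCoreOf 2 K) := by
    have h1 : ⁅V, K⁆ ≤ V := commutator_le_left_of_le (hKP.trans hVN)
    have h2 : ⁅V, K⁆ ≤ K := commutator_le_right_of_le ((h.lh.VL_le.trans h.syl.le).trans hKn)
    intro v hv
    rw [mem_omegaCenterOf]
    refine ⟨?_, ?_, hVe.2 v (h1 hv)⟩
    · rw [hO]; exact mem_inf.mpr ⟨h2 hv, h.lh.VL_le_core (h1 hv)⟩
    · refine centralizer_le (SetLike.coe_subset_coe.mpr ?_) (h.lh.VL_le_centralizer_core (h1 hv))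
      rw [hO]; exact inf_le_right
  have hidem : ⁅⁅V, K⁆, K⁆ = ⁅V, K⁆ := by
    have := commutator_pRes_idem (P := V) (K := K) (p := 2) (ThompsonJ.elemAb_isPGroup h.lh.EA_VL) (hKP.trans hVN)
    rwa [hKK] at this
  have h3 : ⁅V, K⁆ ≤ Cfsg.wOf K := by
    rw [← hidem]
    exact commutator_mono hVK le_rfl
  rw [hWb, le_bot_iff, commutator_eq_bot_iff_le_centralizer, le_centralizer_iff] at h3
  apply hKp
  have hcV := h.centV
  rw [← hQ, ← hV] at hcV
  have h4 : K ≤ Q := by rw [← hcV]; exact le_inf hKP h3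
  exact (isPGroup_pCoreOf 2 P).to_le h4

end sp

end Cfsg.Agent.Lib.AmG
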