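import Cfsg.Agent.Lib.AmQ

/-!
Symmetric pairs, II.
-/

set_option autoImplicit false
set_option linter.unusedSectionVars false

namespace Cfsg.Agent.Lib.AmG

open Subgroup commutatorElement Cfsg.Agent.Lib.LocBase Cfsg.Agent.Lib.TvStruct Cfsg.Agent.Lib.ZN
open scoped Pointwise

universe u

variable {G : Type u} [Group G] [Finite G]

theorem T_norm_BK {T K : Subgroup G} (hTK : T ≤ normalizer (K : Set G)) :
    T ≤ normalizer (BK (JJ T) K : Set G) :=
  le_normalizer_inf ((le_normalizer.trans (normalizer_le_normalizer_JJ T)).trans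
    (normalizer_le_normalizer_omegaCenterOf _)) (le_normalizer_centralizer hTK)

theorem cent_of_card_two {T B : Subgroup G} (hT : T ≤ normalizer (B : Set G)) (hB : Nat.card B = 2) :
    B ≤ centralizer (T : Set G) := by
  obtain ⟨r, hr, hr1⟩ := exists_gen_of_card_two hB
  have key : ∀ x ∈ B, x = 1 ∨ x = r := by
    intro x hx
    by_cases hx1 : x = 1
    · exact Or.inl hx1
    · right
      have h6 := mul_mem_of_index_two (A := B) (A₀ := ⊥) bot_le (by rw [hB, card_bot]) hx hr
        (by rwa [mem_bot]) (by rwa [mem_bot])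
      rw [mem_bot] at h6
      exact inv_mul_eq_one.mp h6
  intro x hx t ht
  have h1 : t * x * t⁻¹ ∈ B := conj_mem_of_le_normalizer hT ht hx
  have h2 : t * x * t⁻¹ = x := by
    rcases key x hx with e | e
    · rw [e]; group
    · rcases key _ h1 with e2 | e2
      · exfalso
        apply hr1
        rw [← e]
        have : x = t⁻¹ * (t * x * t⁻¹) * t := by group
        rw [this, e2]; group
      · rw [e2, e]
  calc t * x = (t * x * t⁻¹) * t := by group
    _ = x * t := by rw [h2]

/-- two components of the same `J(T)` without common invariant subgroup -/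
theorem pf_of_two {T K K' : Subgroup G} (hTp : IsPGroup 2 T) (hX : XFacts (JJ T) K) (hX' : XFacts (JJ T) K')
    (hTK : T ≤ normalizer (K : Set G)) (hTK' : T ≤ normalizer (K' : Set G))
    (hO : Cfsg.pCoreOf 2 K ≤ T) (hO' : Cfsg.pCoreOf 2 K' ≤ T)
    (hf : ∀ N ≤ T, K ⊔ T ≤ normalizer (N : Set G) → K' ⊔ T ≤ normalizer (N : Set G) → N = ⊥) :
    PF T K ∧ PF T K' := by
  have hB := XFacts_card_B hX
  have hB' := XFacts_card_B hX'
  have hTB := T_norm_BK hTK
  have hTB' := T_norm_BK hTK'
  have hinf : BK (JJ T) K ⊓ BK (JJ T) K' = ⊥ := by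
    apply hf
    · exact (inf_le_left.trans inf_le_left).trans ((omegaCenterOf_le _).trans (JJ_le T))
    · refine sup_le ?_ (le_normalizer_inf hTB hTB')
      refine le_trans ?_ (centralizer_le_normalizer _)
      rw [le_centralizer_iff]
      exact inf_le_left.trans inf_le_right
    · refine sup_le ?_ (le_normalizer_inf hTB hTB')
      refine le_trans ?_ (centralizer_le_normalizer _)
      rw [le_centralizer_iff]
      exact inf_le_right.trans inf_le_right
  have h4 : BK (JJ T) K' ≤ normalizer (BK (JJ T) K : Set G) := by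
    refine le_trans ?_ (centralizer_le_normalizer _)
    have h5 := (ThompsonJ.elemAb_iff.mp (EA_omegaCenterOf (JJ T))).1
    exact (inf_le_left.trans h5).trans (centralizer_le (SetLike.coe_subset_coe.mpr inf_le_left))
  have h5 := SubgroupTools.card_sup_mul_card_inf h4
  rw [hinf, card_bot, mul_one] at h5
  have hle : BK (JJ T) K ⊔ BK (JJ T) K' ≤ Cfsg.omegaCenterOf (JJ T) := sup_le inf_le_left inf_le_left
  have h6 := card_le_of_le hle
  rw [h5] at h6
  have h7 : Nat.card (BK (JJ T) K') = Nat.card (BK (JJ T) K) := by omega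
  have hc4 : Nat.card (Cfsg.omegaCenterOf (JJ T)) ≤ 4 := by
    rw [h7, hB] at h6
    have h8 : 0 < Nat.card (BK (JJ T) K) := Nat.card_pos
    have h9 : Nat.card (BK (JJ T) K) ≤ 2 := Nat.le_of_mul_le_mul_right h6 h8
    omega
  have hT1 : T ≠ ⊥ := by
    intro e
    have h1 : JJ T ≤ ⊥ := by rw [← e]; exact JJ_le _
    exact hX.not_J_le (h1.trans bot_le)
  have hZ1 : Cfsg.omegaCenterOf T ≠ ⊥ := omegaCenterOf_ne_bot hTp hT1
  have hTJ := omega_le_omega_JJ T
  have hZT : Cfsg.omegaCenterOf T = Cfsg.omegaCenterOf (JJ T) := by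
    rcases card_Z₀_cases hX hc4 with hc | hc
    · apply Subgroup.eq_of_le_of_card_ge hTJ
      rw [hc]
      by_contra hcon
      have : Nat.card (Cfsg.omegaCenterOf T) = 1 := by
        have := Nat.card_pos (α := ↥(Cfsg.omegaCenterOf T)); omega
      exact hZ1 (Subgroup.eq_bot_of_card_eq _ this)
    · apply le_antisymm hTJ
      have hBc : Nat.card (BK (JJ T) K) = 2 := by omega
      have hBc' : Nat.card (BK (JJ T) K') = 2 := by omega
      have h8 : BK (JJ T) K ⊔ BK (JJ T) K' = Cfsg.omegaCenterOf (JJ T) := by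
        apply Subgroup.eq_of_le_of_card_ge hle
        rw [h5, hBc, hBc', hc]
      have h9 : Cfsg.omegaCenterOf (JJ T) ≤ centralizer (T : Set G) := by
        rw [← h8]
        exact sup_le (cent_of_card_two hTB hBc) (cent_of_card_two hTB' hBc')
      intro x hx
      have h10 := mem_omegaCenterOf.mp hx
      rw [mem_omegaCenterOf]
      exact ⟨JJ_le T h10.1, h9 hx, h10.2.2⟩
  exact ⟨⟨hX, hTp, hTK, hZT, by rw [hZT]; exact hc4, hO⟩, ⟨hX', hTp, hTK', hZT, by rw [hZT]; exact hc4, hO'⟩⟩

theorem SP.final {T P : Subgroup G} {g : G} {q : ℕ} (h : SP T P g q) :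
    Nonempty (↥P ≃* Equiv.Perm (Fin 4)) ∨ Nonempty (↥P ≃* Equiv.Perm (Fin 4) × Multiplicative (ZMod 2)) := by
  have hX := h.xfacts
  set K := pRes 2 P with hK
  have hKP : K ≤ P := pRes_le 2 P
  have hKn : P ≤ normalizer (K : Set G) := le_normalizer_pRes 2 P
  have hgJ : g ∈ normalizer (JJ T : Set G) := normalizer_le_normalizer_JJ T h.gN
  have hX' := hX.conj_of_mem hgJ
  have hsup : K ⊔ T = P := by rw [sup_comm]; exact h.syl.sup_pRes
  have hsup' : cj g K ⊔ T = cj g P := by
    rw [← hsup]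
    show _ = (K ⊔ T).map (MulAut.conj g).toMonoidHom
    rw [Subgroup.map_sup, map_conj_eq_of_mem h.gN]
  have hTK : T ≤ normalizer (K : Set G) := h.syl.le.trans hKn
  have hTK' : T ≤ normalizer (cj g K : Set G) := by
    have := map_conj_mono g hTK
    rwa [map_conj_eq_of_mem h.gN, map_conj_normalizer] at this
  have hO : Cfsg.pCoreOf 2 K ≤ T := by
    refine le_trans ?_ h.QT
    exact le_pCoreOf ((pCoreOf_le K).trans hKP) (hKn.trans (normalizer_le_normalizer_pCoreOf 2 K)) (isPGroup_pCoreOf 2 K)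
  have hO' : Cfsg.pCoreOf 2 (cj g K) ≤ T := by
    rw [pCoreOf_map_conj, ← map_conj_eq_of_mem h.gN]
    exact map_conj_mono g hO
  have hf : ∀ N ≤ T, K ⊔ T ≤ normalizer (N : Set G) → cj g K ⊔ T ≤ normalizer (N : Set G) → N = ⊥ := by
    intro N hN h1 h2
    rw [hsup] at h1
    rw [hsup'] at h2
    exact h.faith N hN h1 h2
  have hf' : ∀ N ≤ T, cj g K ⊔ T ≤ normalizer (N : Set G) → K ⊔ T ≤ normalizer (N : Set G) → N = ⊥ :=
    fun N hN a b => hf N hN b a
  obtain ⟨p1, p2⟩ := pf_of_two h.syl.pgroup hX hX' hTK hTK' hO hO' hf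
  have hc := pair_main p1 p2 hf
  have hc' := pair_main p2 p1 hf'
  have hQ := Q_eq_ZZ p1 p2 hc hf
  obtain ⟨w, hw, hwQ⟩ := exists_w p2 p1 hc'
  have hi := iso_of p1 hQ (p2.W_le_T hw) ((ThompsonJ.elemAb_iff.mp EA_wOf).2 w hw) hwQ
  rw [hsup] at hi
  have hcard := card_Z₀_cases p1.X (by rw [← p1.ZT]; exact p1.Zcard)
  rw [← p1.ZT] at hcard
  rcases hcard with hc | hc
  · exact Or.inl (hi.1 hc)
  · exact Or.inr (hi.2 hc)

end Cfsg.Agent.Lib.AmG
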