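import Cfsg.Agent.Lib.Layer
import Cfsg.Agent.Lib.CoprimeAction2
import Cfsg.Agent.Lib.LocMore
import Cfsg.Agent.Lib.LargeSub

/-!
Ambient forms of `E(H)`, `F(H)`, `F*(H)` for subgroups `H` of a finite group, and the action of a `p`-group `Y`
on `F*(H)` when `O_p(H) = 1` (helper47).
-/

set_option autoImplicit false

namespace Cfsg.Agent.Lib.AmbFStar

open Cfsg Subgroup Cfsg.Agent.Lib.LocBase Cfsg.Agent.Lib.LocMore
open scoped commutatorElement

variable {G : Type*} [Group G]

/-- `K` is a component of `H`. -/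
def Comp (K H : Subgroup G) : Prop := Subn K H ∧ IsQuasisimple ↥K

/-- `E(H)` -/
def EE (H : Subgroup G) : Subgroup G := (layer ↥H).map H.subtype
/-- `F(H)` -/
def FF (H : Subgroup G) : Subgroup G := (fittingSubgroup ↥H).map H.subtype
/-- `F*(H)` -/
def FS (H : Subgroup G) : Subgroup G := (generalizedFittingSubgroup ↥H).map H.subtype

theorem FS_eq (H : Subgroup G) : FS H = EE H ⊔ FF H := Subgroup.map_sup _ _ _

theorem FS_le (H : Subgroup G) : FS H ≤ H := map_subtype_le _
theorem EE_le (H : Subgroup G) : EE H ≤ H := map_subtype_le _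
theorem FF_le (H : Subgroup G) : FF H ≤ H := map_subtype_le _

theorem comp_iff {K H : Subgroup G} (h : K ≤ H) : Comp K H ↔ IsComponent (K.subgroupOf H) := by
  unfold Comp IsComponent
  rw [subn_iff h, Components.quasisimple_subgroupOf h]

theorem comp_map {H : Subgroup G} {K : Subgroup ↥H} (h : IsComponent K) : Comp (K.map H.subtype) H := by
  rw [comp_iff (map_subtype_le _)]
  rwa [subgroupOf, Subgroup.comap_map_eq_self_of_injective H.subtype_injective]

theorem Comp.le {K H : Subgroup G} (h : Comp K H) : K ≤ H := h.1.le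

theorem Comp.perfect {K H : Subgroup G} (h : Comp K H) : ⁅K, K⁆ = K := Components.isPerfect_iff'.mp h.2.1

theorem EE_eq (H : Subgroup G) : EE H = sSup {K : Subgroup G | Comp K H} := by
  apply le_antisymm
  · unfold EE layer
    rw [Subgroup.map_le_iff_le_comap]
    apply sSup_le
    intro K hK
    rw [← Subgroup.map_le_iff_le_comap]
    exact le_sSup (comp_map hK)
  · apply sSup_le
    intro K hK
    have h1 : K.subgroupOf H ≤ layer ↥H := le_sSup ((comp_iff hK.le).mp hK)
    have h2 := Subgroup.map_mono (f := H.subtype) h1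
    rwa [Subgroup.map_subgroupOf_eq_of_le hK.le] at h2

theorem Comp.le_EE {K H : Subgroup G} (h : Comp K H) : K ≤ EE H := by
  rw [EE_eq]; exact le_sSup h

theorem EE_le_iff {H X : Subgroup G} : EE H ≤ X ↔ ∀ K, Comp K H → K ≤ X := by
  rw [EE_eq]; exact sSup_le_iff

theorem Comp.map_conj {K H : Subgroup G} (h : Comp K H) {g : G} (hg : g ∈ normalizer (H : Set G)) :
    Comp (K.map (MulAut.conj g).toMonoidHom) H := by
  refine ⟨?_, (Components.quasisimple_map_of_injective (MulAut.conj g).injective).mpr h.2⟩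
  have := h.1.map (MulAut.conj g).toMonoidHom
  rwa [map_conj_eq_of_mem hg] at this

theorem le_centralizer_of_subgroupOf {H A B : Subgroup G} (hA : A ≤ H) (hB : B ≤ H)
    (h : A.subgroupOf H ≤ centralizer (B.subgroupOf H : Set ↥H)) : A ≤ centralizer (B : Set G) := by
  intro a ha
  rw [mem_centralizer_iff]
  intro b hb
  have h1 := mem_centralizer_iff.mp (h (show (⟨a, hA ha⟩ : ↥H) ∈ A.subgroupOf H from ha)) ⟨b, hB hb⟩ hb
  exact congrArg Subtype.val h1

theorem Comp.eq_or [Finite G] {K L H : Subgroup G} (hK : Comp K H) (hL : Comp L H) :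
    K = L ∨ K ≤ centralizer (L : Set G) := by
  rcases Components.component_eq_or_le_centralizer ((comp_iff hK.le).mp hK) ((comp_iff hL.le).mp hL) with h | h
  · left
    rw [← Subgroup.map_subgroupOf_eq_of_le hK.le, h, Subgroup.map_subgroupOf_eq_of_le hL.le]
  · right
    exact le_centralizer_of_subgroupOf hK.le hL.le h

/-- a subgroup of a quasisimple group `K` normalized by `K` is `K` or central. -/
theorem quasi_normal {K N : Subgroup G} (hK : IsQuasisimple ↥K) (hN : N ≤ K) (hn : K ≤ normalizer (N : Set G)) :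
    N = K ∨ N ≤ centralizer (K : Set G) := by
  have h1 : (N.subgroupOf K).Normal := normal_subgroupOf_of_le_normalizer hn
  rcases Components.normal_le_center_or_eq_top hK (N.subgroupOf K) with h | h
  · right
    intro x hx
    rw [mem_centralizer_iff]
    intro k hk
    have h2 := mem_center_iff.mp (h (show (⟨x, hN hx⟩ : ↥K) ∈ N.subgroupOf K from hx)) ⟨k, hk⟩
    exact congrArg Subtype.val h2
  · left
    exact le_antisymm hN (subgroupOf_eq_top.mp h)

/-- A component `K` of `H` with `K ≤ L`, `Y` normalizing `H` and `K` normalizing `[L, Y]`: `K ≤ [L, Y]` or `[K, Y] = 1`. -/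
theorem Comp.le_commutator_or [Finite G] {K H L Y : Subgroup G} (hK : Comp K H) (hY : Y ≤ normalizer (H : Set G))
    (hKL : K ≤ L) : K ≤ ⁅L, Y⁆ ∨ K ≤ centralizer (Y : Set G) := by
  have hKn : K ≤ normalizer ((⁅L, Y⁆ : Subgroup G) : Set G) := hKL.trans (normalizer_commutator_ge_left L Y)
  by_cases hYK : Y ≤ normalizer (K : Set G)
  · have h1 : ⁅K, Y⁆ ≤ K := commutator_le_left_of_le hYK
    rcases quasi_normal hK.2 h1 (normalizer_commutator_ge_left K Y) with h | h
    · left
      rw [← h]; exact commutator_mono hKL le_rfl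
    · right
      have h2 : ⁅⁅Y, K⁆, K⁆ = ⊥ := by
        rw [commutator_comm Y K, commutator_eq_bot_iff_le_centralizer]; exact h
      have h3 := Components.commutator_eq_bot_of_perfect hK.perfect h2
      rw [commutator_comm, commutator_eq_bot_iff_le_centralizer] at h3
      exact h3
  · left
    obtain ⟨y, hy, hyn⟩ := SetLike.not_le_iff_exists.mp hYK
    have hc := hK.map_conj (hY hy)
    have hne : K.map (MulAut.conj y).toMonoidHom ≠ K := fun e => hyn (mem_normalizer_of_map_conj_eq e)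
    have hcomm : K.map (MulAut.conj y).toMonoidHom ≤ centralizer (K : Set G) := (hc.eq_or hK).resolve_left hne
    rw [← hK.perfect]
    rw [Subgroup.commutator_le]
    intro k hk x hx
    have h1 : ⁅k, y⁆ ∈ ⁅L, Y⁆ := commutator_mem_commutator (hKL hk) hy
    have hu : y * k⁻¹ * y⁻¹ ∈ K.map (MulAut.conj y).toMonoidHom := ⟨k⁻¹, K.inv_mem hk, rfl⟩
    have hux := mem_centralizer_iff.mp (hcomm hu) x hx
    have h2 : ⁅⁅k, y⁆, x⁆ ∈ ⁅L, Y⁆ := by
      have h3 := hKn hx
      have h4 : x * ⁅k, y⁆⁻¹ * x⁻¹ ∈ ⁅L, Y⁆ := (mem_normalizer_iff.mp h3 _).mp (inv_mem h1)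
      have : ⁅⁅k, y⁆, x⁆ = ⁅k, y⁆ * (x * ⁅k, y⁆⁻¹ * x⁻¹) := by rw [commutatorElement_def ⁅k, y⁆ x]; group
      rw [this]; exact mul_mem h1 h4
    have h5 : ⁅⁅k, y⁆, x⁆ = ⁅k, x⁆ := by
      have e1 : ⁅k, y⁆ = k * (y * k⁻¹ * y⁻¹) := by rw [commutatorElement_def]; group
      rw [e1]
      have e2 : (y * k⁻¹ * y⁻¹) * x * (y * k⁻¹ * y⁻¹)⁻¹ = x := by rw [← hux]; group
      calc ⁅k * (y * k⁻¹ * y⁻¹), x⁆ = k * ((y * k⁻¹ * y⁻¹) * x * (y * k⁻¹ * y⁻¹)⁻¹) * k⁻¹ * x⁻¹ := by
            rw [commutatorElement_def]; group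
        _ = k * x * k⁻¹ * x⁻¹ := by rw [e2]
        _ = ⁅k, x⁆ := by rw [commutatorElement_def]
    rwa [h5] at h2

theorem char_norm {H : Subgroup G} {C : Subgroup ↥H} (hC : C.Characteristic) :
    normalizer (H : Set G) ≤ normalizer ((C.map H.subtype : Subgroup G) : Set G) := by
  have key : ∀ g ∈ normalizer (H : Set G), ∀ x ∈ C.map H.subtype, g * x * g⁻¹ ∈ C.map H.subtype := by
    rintro g hg _ ⟨x, hx, rfl⟩
    have h1 := (characteristic_iff_map_eq.mp hC) (H.normalizerMonoidHom ⟨g, hg⟩)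
    have h2 : (H.normalizerMonoidHom ⟨g, hg⟩) x ∈ C := by
      rw [← h1]; exact ⟨x, hx, rfl⟩
    exact ⟨_, h2, rfl⟩
  intro g hg
  rw [mem_normalizer_iff]
  intro x
  refine ⟨key g hg x, fun h => ?_⟩
  have := key g⁻¹ (inv_mem hg) _ h
  simpa [mul_assoc] using this

theorem FF_norm [Finite G] (H : Subgroup G) : normalizer (H : Set G) ≤ normalizer (FF H : Set G) :=
  char_norm (Layer.fittingSubgroup_characteristic ↥H)

theorem EE_norm [Finite G] (H : Subgroup G) : normalizer (H : Set G) ≤ normalizer (EE H : Set G) :=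
  char_norm (Layer.layer_characteristic ↥H)

theorem FS_norm [Finite G] (H : Subgroup G) : normalizer (H : Set G) ≤ normalizer (FS H : Set G) :=
  char_norm (Layer.generalizedFittingSubgroup_characteristic ↥H)

theorem FF_nilpotent [Finite G] (H : Subgroup G) : Group.IsNilpotent ↥(FF H) :=
  (Layer.isNilpotent_map_of_injective H.subtype_injective).mpr (Layer.isNilpotent_fittingSubgroup ↥H)

/-- `O_p(H) = 1` implies `F(H)` is a `p'`-group. -/
theorem FF_coprime [Finite G] {p : ℕ} [hp : Fact p.Prime] {H : Subgroup G} (hO : pCoreOf p H = ⊥) :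
    (Nat.card ↥(FF H)).Coprime p := by
  have hn := FF_nilpotent H
  obtain ⟨P⟩ : Nonempty (Sylow p ↥(FF H)) := inferInstance
  have h1 : (P : Subgroup ↥(FF H)) ≤ Cfsg.pCore p ↥(FF H) := le_pCore inferInstance P.2
  have h2 := isSyl_map_subtype P
  have h3 : (P : Subgroup ↥(FF H)).map (FF H).subtype ≤ pCoreOf p (FF H) := map_mono h1
  have h4 : pCoreOf p (FF H) ≤ pCoreOf p H :=
    (Subn.of_normal (FF_le H) (Subgroup.le_normalizer.trans (FF_norm H))).pCoreOf_le
  rw [hO] at h4
  have h5 : (P : Subgroup ↥(FF H)).map (FF H).subtype = ⊥ := le_bot_iff.mp (h3.trans h4)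
  rw [h5] at h2
  have h6 := h2.ndvd
  rw [Subgroup.relIndex_bot_left] at h6
  exact ((Nat.Prime.coprime_iff_not_dvd hp.out).mpr h6).symm

/-- the structure of subnormal subgroups inside `F*(H)`. -/
theorem subn_eq [Finite G] {H L : Subgroup G} (hL : Subn L H) (hLF : L ≤ FS H) : L = EE L ⊔ (FF H ⊓ L) := by
  have h1 : (L.subgroupOf H).IsSubnormal := (subn_iff hL.le).mp hL
  have h2 : L.subgroupOf H ≤ generalizedFittingSubgroup ↥H := by
    intro x hx
    obtain ⟨y, hy, e⟩ := hLF (show (x : G) ∈ L from hx)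
    rwa [← Subtype.ext e]
  have h3 := congrArg (Subgroup.map H.subtype) (Layer.subnormal_le_genFitting h1 h2)
  rw [Subgroup.map_sup, Subgroup.map_subgroupOf_eq_of_le hL.le, Subgroup.map_inf _ _ _ H.subtype_injective,
    Subgroup.map_subgroupOf_eq_of_le hL.le] at h3
  have h4 : ((layer ↥(L.subgroupOf H)).map (L.subgroupOf H).subtype).map H.subtype = EE L := by
    have e := Layer.layer_map_equiv (Subgroup.subgroupOfEquivOfLe hL.le)
    unfold EE
    rw [← e, Subgroup.map_map, Subgroup.map_map]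
    congr 1
  rw [h4] at h3
  exact h3

/-- `L = [L, Y] C_L(Y)`. -/
theorem sup_eq [Finite G] {p : ℕ} [hp : Fact p.Prime] {H L Y : Subgroup G} (hO : pCoreOf p H = ⊥) (hY : IsPGroup p Y)
    (hYH : Y ≤ normalizer (H : Set G)) (hLF : L ≤ FS H) (hL : Subn L H) (hYL : Y ≤ normalizer (L : Set G)) :
    ⁅L, Y⁆ ⊔ (L ⊓ centralizer (Y : Set G)) = L := by
  apply le_antisymm (sup_le (commutator_le_left_of_le hYL) inf_le_left)
  conv_lhs => rw [subn_eq hL hLF]
  apply sup_le
  · rw [EE_le_iff]
    intro K hK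
    have hKH : Comp K H := ⟨hK.1.trans hL, hK.2⟩
    rcases hKH.le_commutator_or hYH hK.le with h | h
    · exact h.trans le_sup_left
    · exact (le_inf hK.le h).trans le_sup_right
  · set A := FF H ⊓ L with hA
    have hAY : Y ≤ normalizer (A : Set G) := le_normalizer_inf (hYH.trans (FF_norm H)) hYL
    have hcop : (Nat.card ↥Y).Coprime (Nat.card ↥A) := by
      obtain ⟨n, hn⟩ := IsPGroup.iff_card.mp hY
      rw [hn]
      exact (Nat.Coprime.coprime_dvd_left (Subgroup.card_dvd_of_le inf_le_left) (FF_coprime hO)).symm.pow_left n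
    have hsolv : Group.IsSolvable ↥Y := by
      have := hY.isNilpotent; infer_instance
    have h1 := CoprimeAction2.commutator_sup_centralizer hAY hcop (Or.inl hsolv)
    calc A = ⁅A, Y⁆ ⊔ (A ⊓ centralizer (Y : Set G)) := h1.symm
      _ ≤ _ := sup_le_sup (commutator_mono inf_le_right le_rfl) (inf_le_inf_right _ inf_le_right)

theorem commutator_idem_of_sup_eq [Finite G] {L Y : Subgroup G} (hYL : Y ≤ normalizer (L : Set G))
    (h : ⁅L, Y⁆ ⊔ (L ⊓ centralizer (Y : Set G)) = L) : ⁅⁅L, Y⁆, Y⁆ = ⁅L, Y⁆ := by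
  have hle : ⁅L, Y⁆ ≤ L := commutator_le_left_of_le hYL
  apply le_antisymm (commutator_mono hle le_rfl)
  rw [Subgroup.commutator_le]
  intro l hl y hy
  have h1 : l ∈ ⁅L, Y⁆ ⊔ (L ⊓ centralizer (Y : Set G)) := by rw [h]; exact hl
  have hn : (L ⊓ centralizer (Y : Set G)) ≤ normalizer ((⁅L, Y⁆ : Subgroup G) : Set G) :=
    inf_le_left.trans (normalizer_commutator_ge_left L Y)
  obtain ⟨x, hx, c, hc, rfl⟩ := exists_mul_of_mem_sup_of_le hn h1
  have hcy : c * y = y * c := (mem_centralizer_iff.mp hc.2 y hy).symm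
  have : ⁅x * c, y⁆ = ⁅x, y⁆ := by
    rw [commutatorElement_def, commutatorElement_def]
    calc x * c * y * (x * c)⁻¹ * y⁻¹ = x * (c * y) * c⁻¹ * x⁻¹ * y⁻¹ := by group
      _ = _ := by rw [hcy]; group
  rw [this]
  exact commutator_mem_commutator hx hy

theorem FS_top (G : Type*) [Group G] : FS (⊤ : Subgroup G) = generalizedFittingSubgroup G := by
  rw [← Layer.generalizedFittingSubgroup_map_equiv (Subgroup.topEquiv (G := G))]
  rfl

theorem FF_top (G : Type*) [Group G] : FF (⊤ : Subgroup G) = fittingSubgroup G := by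
  rw [← Layer.fittingSubgroup_map_equiv (Subgroup.topEquiv (G := G))]
  rfl

theorem EE_top (G : Type*) [Group G] : EE (⊤ : Subgroup G) = layer G := by
  rw [← Layer.layer_map_equiv (Subgroup.topEquiv (G := G))]
  rfl

theorem le_FF [Finite G] {N H : Subgroup G} (hN : N ≤ H) (hn : H ≤ normalizer (N : Set G)) (hnil : Group.IsNilpotent ↥N) :
    N ≤ FF H := by
  have h1 : (N.subgroupOf H).Normal := normal_subgroupOf_of_le_normalizer hn
  have h2 : N.subgroupOf H ≤ fittingSubgroup ↥H :=
    le_sSup ⟨h1, Group.nilpotent_of_mulEquiv (Subgroup.subgroupOfEquivOfLe hN).symm⟩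
  have h3 := Subgroup.map_mono (f := H.subtype) h2
  rwa [Subgroup.map_subgroupOf_eq_of_le hN] at h3

/-- `C_H(F*(H)) ≤ F*(H)`. -/
theorem centralizer_FS [Finite G] (H : Subgroup G) : H ⊓ centralizer (FS H : Set G) ≤ FS H := by
  rintro x ⟨hx1, hx2⟩
  have h1 : (⟨x, hx1⟩ : ↥H) ∈ centralizer (generalizedFittingSubgroup ↥H : Set ↥H) := by
    rw [mem_centralizer_iff]
    intro y hy
    apply Subtype.ext
    exact mem_centralizer_iff.mp hx2 (y : G) ⟨y, hy, rfl⟩
  exact ⟨_, Layer.centralizer_genFitting_le h1, rfl⟩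

/-- `C_H(F*(H)) ≤ F(H)`. -/
theorem centralizer_FS_le_FF [Finite G] (H : Subgroup G) : H ⊓ centralizer (FS H : Set G) ≤ FF H := by
  apply le_FF inf_le_left
  · exact le_normalizer_inf Subgroup.le_normalizer (le_normalizer_centralizer (Subgroup.le_normalizer.trans (FS_norm H)))
  · apply Layer.isNilpotent_of_le_centralizer
    exact inf_le_right.trans (Subgroup.centralizer_le (centralizer_FS H))

theorem eq_bot_of_coprime [Finite G] {p : ℕ} {A B : Subgroup G} (hA : IsPGroup p A) (hp : Fact p.Prime) (hAB : A ≤ B)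
    (h : (Nat.card ↥B).Coprime p) : A = ⊥ := by
  obtain ⟨n, hn⟩ := IsPGroup.iff_card.mp hA
  have h1 : Nat.card ↥A ∣ Nat.card ↥B := Subgroup.card_dvd_of_le hAB
  rw [← Subgroup.card_eq_one]
  exact Nat.eq_one_of_dvd_coprimes (h.pow_right n) h1 (dvd_of_eq hn)

/-- `O_p(H) = 1`: a `p`-subgroup of `H` centralizing `F*(H)` is trivial. -/
theorem eq_bot_of_centralizes [Finite G] {p : ℕ} [hp : Fact p.Prime] {H Y : Subgroup G} (hO : pCoreOf p H = ⊥)
    (hY : IsPGroup p Y) (hYH : Y ≤ H) (hc : Y ≤ centralizer (FS H : Set G)) : Y = ⊥ :=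
  eq_bot_of_coprime hY hp ((le_inf hYH hc).trans (centralizer_FS_le_FF H)) (FF_coprime hO)

theorem Subn.EE_le [Finite G] {K H : Subgroup G} (h : Subn K H) : EE K ≤ EE H := by
  rw [EE_le_iff]
  intro L hL
  exact Comp.le_EE ⟨hL.1.trans h, hL.2⟩

theorem Subn.FF_le [Finite G] {K H : Subgroup G} (h : Subn K H) : FF K ≤ FF H := by
  have h1 : (K.subgroupOf H).IsSubnormal := (subn_iff h.le).mp h
  have h2 := Subgroup.map_mono (f := H.subtype) (Layer.map_fitting_le_of_subnormal h1)
  have e := Layer.fittingSubgroup_map_equiv (Subgroup.subgroupOfEquivOfLe h.le)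
  have h3 : ((fittingSubgroup ↥(K.subgroupOf H)).map (K.subgroupOf H).subtype).map H.subtype = FF K := by
    unfold FF
    rw [← e, Subgroup.map_map, Subgroup.map_map]
    congr 1
  rw [h3] at h2
  exact h2

/-- `F*(K) = F*(H) ∩ K` for `K` subnormal in `H`. -/
theorem FS_subn [Finite G] {K H : Subgroup G} (h : Subn K H) : FS K = FS H ⊓ K := by
  apply le_antisymm
  · refine le_inf ?_ (FS_le K)
    rw [FS_eq, FS_eq]
    exact sup_le_sup (Subn.EE_le h) (Subn.FF_le h)
  · have hsub : Subn (FS H ⊓ K) H :=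
      Subn.inf_subn (Subn.of_normal (FS_le H) (Subgroup.le_normalizer.trans (FS_norm H))) h
    have h1 := subn_eq hsub inf_le_left
    have hsubK : Subn (FS H ⊓ K) K := hsub.of_le inf_le_right h.le
    refine h1.le.trans (le_trans ?_ (FS_eq K).ge)
    apply sup_le_sup (Subn.EE_le hsubK)
    apply le_FF (inf_le_right.trans inf_le_right)
    · refine le_normalizer_inf (h.le.trans (Subgroup.le_normalizer.trans (FF_norm H))) ?_
      exact le_normalizer_inf (h.le.trans (Subgroup.le_normalizer.trans (FS_norm H))) Subgroup.le_normalizer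
    · exact Layer.isNilpotent_of_le (inf_le_left) (FF_nilpotent H)

/-- components are normalized by `F*`. -/
theorem Comp.FS_le_normalizer [Finite G] {K H : Subgroup G} (h : Comp K H) : FS H ≤ normalizer (K : Set G) := by
  have h1 := Layer.generalizedFitting_le_normalizer_component ((comp_iff h.le).mp h)
  rintro _ ⟨x, hx, rfl⟩
  have h2 := h1 hx
  rw [mem_normalizer_iff]
  intro y
  constructor
  · intro hy
    exact (mem_normalizer_iff.mp h2 ⟨y, h.le hy⟩).mp hy
  · intro hy
    have h3 := (mem_normalizer_iff.mp (inv_mem h2) ⟨_, h.le hy⟩).mp hy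
    have h4 : (x : G)⁻¹ * (x * y * (x : G)⁻¹) * ((x : G)⁻¹)⁻¹ ∈ K := h3
    have h5 : (x : G)⁻¹ * (x * y * (x : G)⁻¹) * ((x : G)⁻¹)⁻¹ = y := by group
    rwa [h5] at h4

/-- `[E(H), F(H)] = 1`. -/
theorem EE_le_centralizer_FF [Finite G] (H : Subgroup G) : EE H ≤ centralizer (FF H : Set G) := by
  have h := Layer.layer_le_centralizer_fitting (G := ↥H)
  rintro _ ⟨x, hx, rfl⟩
  rw [mem_centralizer_iff]
  rintro _ ⟨y, hy, rfl⟩
  exact congrArg Subtype.val (mem_centralizer_iff.mp (h hx) y hy)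

theorem pResidual_of_perfect {L : Type*} [Group L] [Finite L] {p : ℕ} [hp : Fact p.Prime] (h : Group.IsPerfect L) :
    pResidual p L = ⊤ := by
  have hn : (pResidual p L).Normal := pResidual_normal' p L
  have h1 : IsPGroup p (L ⧸ pResidual p L) := isPGroup_quotient_of_pRes_le.mpr le_rfl
  have h2 : Group.IsPerfect (L ⧸ pResidual p L) :=
    Group.IsPerfect.ofSurjective (f := QuotientGroup.mk' (pResidual p L)) (QuotientGroup.mk'_surjective _)
  by_contra hne
  have h3 : Nontrivial (L ⧸ pResidual p L) := by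
    rw [← not_subsingleton_iff_nontrivial]
    intro h4
    apply hne
    rw [eq_top_iff]
    intro x _
    exact (QuotientGroup.eq_one_iff x).mp (Subsingleton.elim _ _)
  have h4 : Group.IsNilpotent (L ⧸ pResidual p L) := h1.isNilpotent
  exact Group.IsPerfect.not_isSolvable (L ⧸ pResidual p L) inferInstance

theorem pRes_of_perfect [Finite G] {p : ℕ} [hp : Fact p.Prime] {L : Subgroup G} (h : ⁅L, L⁆ = L) : pRes p L = L := by
  rw [← map_pResidual, pResidual_of_perfect (Components.isPerfect_iff'.mpr h), ← MonoidHom.range_eq_map,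
    Subgroup.range_subtype]

end Cfsg.Agent.Lib.AmbFStar
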