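import Mathlib

/-!
helper8: finite subsets of `Fin n` as bitmasks, kernel-friendly.
-/
set_option autoImplicit false

namespace Cfsg.Agent.Lib.MaskSet

open Finset

/-- the subset of `Fin n` coded by `m` -/
def mset (n m : ℕ) : Finset (Fin n) := univ.filter fun i => m.testBit i = true

theorem mem_mset {n m : ℕ} {i : Fin n} : i ∈ mset n m ↔ m.testBit i = true := by simp [mset]

/-- number of bits below `n` -/
def pc : ℕ → ℕ → ℕ
  | 0, _ => 0
  | n + 1, m => pc n m + (m.testBit n).toNat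

theorem card_mset (n m : ℕ) : (mset n m).card = pc n m := by
  unfold mset
  rw [card_filter]
  induction n with
  | zero => simp [pc]
  | succ n ih =>
    rw [Fin.sum_univ_castSucc, pc, ← ih]
    congr 1
    simp only [Fin.val_last]
    by_cases h : m.testBit n = true
    · rw [if_pos h, h]; rfl
    · rw [if_neg h, Bool.not_eq_true] at *
      rw [h]; rfl

theorem mset_or (n a b : ℕ) : mset n (a ||| b) = mset n a ∪ mset n b := by
  ext i; simp [mem_mset, Nat.testBit_or]

theorem mset_and (n a b : ℕ) : mset n (a &&& b) = mset n a ∩ mset n b := by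
  ext i; simp [mem_mset, Nat.testBit_and]

theorem mset_shift (n : ℕ) (q : Fin n) : mset n (1 <<< (q : ℕ)) = {q} := by
  ext i
  simp only [mem_mset, mem_singleton, Nat.one_shiftLeft, Nat.testBit_two_pow, decide_eq_true_eq]
  rw [Fin.ext_iff, eq_comm]

theorem mset_compl (n a : ℕ) : mset n ((2 ^ n - 1) ^^^ a) = (mset n a)ᶜ := by
  ext i
  simp only [mem_mset, mem_compl, Nat.testBit_xor, Nat.testBit_two_pow_sub_one, i.isLt, decide_true]
  cases a.testBit i <;> simp

theorem mset_inj {n a b : ℕ} (ha : a < 2 ^ n) (hb : b < 2 ^ n) (h : mset n a = mset n b) : a = b := by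
  apply Nat.eq_of_testBit_eq
  intro i
  by_cases hi : i < n
  · have h1 := Finset.ext_iff.mp h ⟨i, hi⟩
    simp only [mem_mset] at h1
    exact Bool.eq_iff_iff.mpr h1
  · rw [Nat.testBit_lt_two_pow (lt_of_lt_of_le ha (Nat.pow_le_pow_right (by norm_num) (not_lt.mp hi))),
      Nat.testBit_lt_two_pow (lt_of_lt_of_le hb (Nat.pow_le_pow_right (by norm_num) (not_lt.mp hi)))]

theorem or_lt {n a b : ℕ} (ha : a < 2 ^ n) (hb : b < 2 ^ n) : a ||| b < 2 ^ n := Nat.or_lt_two_pow ha hb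

theorem shift_lt {n : ℕ} (q : Fin n) : 1 <<< (q : ℕ) < 2 ^ n := by
  rw [Nat.one_shiftLeft]
  exact Nat.pow_lt_pow_right (by norm_num) q.isLt

theorem compl_lt {n a : ℕ} (ha : a < 2 ^ n) : (2 ^ n - 1) ^^^ a < 2 ^ n := by
  apply Nat.xor_lt_two_pow _ ha
  have := Nat.two_pow_pos n
  omega

theorem exists_mask {n : ℕ} (s : Finset (Fin n)) : ∃ m < 2 ^ n, mset n m = s := by
  induction s using Finset.induction_on with
  | empty => exact ⟨0, Nat.two_pow_pos n, by ext i; simp [mem_mset]⟩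
  | insert a s _ ih =>
    obtain ⟨m, hm, rfl⟩ := ih
    refine ⟨1 <<< (a : ℕ) ||| m, or_lt (shift_lt a) hm, ?_⟩
    rw [mset_or, mset_shift]
    rfl

/-- image of a mask under `σ` (first `n` bits) -/
def imgN (σ : ℕ → ℕ) : ℕ → ℕ → ℕ
  | 0, _ => 0
  | n + 1, m => imgN σ n m ||| (bif m.testBit n then 1 <<< σ n else 0)

theorem testBit_imgN (σ : ℕ → ℕ) (n m j : ℕ) :
    (imgN σ n m).testBit j = true ↔ ∃ i < n, m.testBit i = true ∧ σ i = j := by
  induction n with
  | zero => simp [imgN]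
  | succ n ih =>
    rw [imgN, Nat.testBit_or, Bool.or_eq_true, ih]
    constructor
    · rintro (⟨i, hi, h⟩ | h)
      · exact ⟨i, by omega, h⟩
      · cases hb : m.testBit n
        · rw [hb] at h; simp at h
        · rw [hb] at h
          simp only [cond_true, Nat.one_shiftLeft, Nat.testBit_two_pow, decide_eq_true_eq] at h
          exact ⟨n, by omega, hb, h⟩
    · rintro ⟨i, hi, h1, h2⟩
      rcases Nat.lt_succ_iff_lt_or_eq.mp hi with h | h
      · left; exact ⟨i, h, h1, h2⟩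
      · right
        subst h
        rw [h1]
        simp [Nat.one_shiftLeft, Nat.testBit_two_pow, h2]

theorem mset_imgN {n : ℕ} (f : Fin n → Fin n) (σ : ℕ → ℕ) (hσ : ∀ i : Fin n, σ i = f i) (m : ℕ) :
    mset n (imgN σ n m) = (mset n m).image f := by
  ext j
  rw [mem_mset, testBit_imgN, mem_image]
  constructor
  · rintro ⟨i, hi, h1, h2⟩
    exact ⟨⟨i, hi⟩, mem_mset.mpr h1, Fin.ext ((hσ ⟨i, hi⟩).symm.trans h2)⟩
  · rintro ⟨i, h1, h2⟩
    exact ⟨i, i.isLt, mem_mset.mp h1, by rw [hσ, h2]⟩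

theorem imgN_lt {n : ℕ} (f : Fin n → Fin n) (σ : ℕ → ℕ) (hσ : ∀ i : Fin n, σ i = f i) (m : ℕ) :
    imgN σ n m < 2 ^ n := by
  apply Nat.lt_pow_two_of_testBit
  intro j hj
  by_contra hcon
  rw [Bool.not_eq_false] at hcon
  obtain ⟨i, hi, -, h2⟩ := (testBit_imgN _ _ _ _).mp hcon
  have := hσ ⟨i, hi⟩
  have h3 := (f ⟨i, hi⟩).isLt
  have h4 : σ i = f ⟨i, hi⟩ := this
  omega

end Cfsg.Agent.Lib.MaskSet
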