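import Cfsg.Prelude.Def_Sporadic_a

/-!
Generic counting facts on Steiner systems (`Cfsg.IsSteinerSystem`).
-/

set_option autoImplicit false

namespace Cfsg.Agent.Lib.Steiner

open Finset

variable {α : Type*} [Fintype α] [DecidableEq α] {t k : ℕ} {B : Set (Finset α)}

/-- the family of blocks as a finset -/
noncomputable def bl (B : Set (Finset α)) : Finset (Finset α) := (Set.toFinite B).toFinset

omit [DecidableEq α] in
@[simp] theorem mem_bl (b : Finset α) : b ∈ bl B ↔ b ∈ B := by simp [bl]

omit [DecidableEq α] in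
theorem ncard_eq : B.ncard = (bl B).card := Set.ncard_eq_toFinset_card B (Set.toFinite B)

theorem card_between (S b : Finset α) (hSb : S ⊆ b) (t : ℕ) (ht : S.card ≤ t) :
    ((powersetCard t (univ : Finset α)).filter fun T => S ⊆ T ∧ T ⊆ b).card =
      Nat.choose (b.card - S.card) (t - S.card) := by
  classical
  have e : ((powersetCard t (univ : Finset α)).filter fun T => S ⊆ T ∧ T ⊆ b) =
      (powersetCard (t - S.card) (b \ S)).image (fun U => S ∪ U) := by
    ext T
    simp only [mem_filter, mem_powersetCard, mem_image, subset_univ, true_and]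
    constructor
    · rintro ⟨h1, h2, h3⟩
      refine ⟨T \ S, ⟨sdiff_subset_sdiff h3 subset_rfl, ?_⟩, ?_⟩
      · rw [card_sdiff_of_subset h2, h1]
      · exact union_sdiff_of_subset h2
    · rintro ⟨U, ⟨h1, h2⟩, rfl⟩
      have hd : Disjoint S U := by
        rw [disjoint_left]
        intro a ha hb
        exact (mem_sdiff.1 (h1 hb)).2 ha
      refine ⟨?_, subset_union_left, union_subset hSb (h1.trans sdiff_subset)⟩
      rw [card_union_of_disjoint hd, h2]; omega
  rw [e, card_image_of_injOn, card_powersetCard, card_sdiff_of_subset hSb]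
  intro U hU V hV h
  rw [mem_coe, mem_powersetCard] at hU hV
  have hdU : Disjoint S U := by
    rw [disjoint_left]; intro a ha hb; exact (mem_sdiff.1 (hU.1 hb)).2 ha
  have hdV : Disjoint S V := by
    rw [disjoint_left]; intro a ha hb; exact (mem_sdiff.1 (hV.1 hb)).2 ha
  have h' : S ∪ U = S ∪ V := h
  calc U = (S ∪ U) \ S := by rw [union_sdiff_cancel_left hdU]
    _ = (S ∪ V) \ S := by rw [h']
    _ = V := by rw [union_sdiff_cancel_left hdV]

/-- number of blocks containing a given small set -/
theorem card_containing (hB : Cfsg.IsSteinerSystem t k B) (S : Finset α) (hS : S.card ≤ t) :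
    ((bl B).filter fun b => S ⊆ b).card * Nat.choose (k - S.card) (t - S.card) =
      Nat.choose (Fintype.card α - S.card) (t - S.card) := by
  classical
  have h := Finset.card_mul_eq_card_mul (fun (b T : Finset α) => T ⊆ b)
    (s := (bl B).filter fun b => S ⊆ b)
    (t := (powersetCard t (univ : Finset α)).filter fun T => S ⊆ T)
    (m := Nat.choose (k - S.card) (t - S.card)) (n := 1) ?_ ?_
  · rw [h, mul_one]
    have h2 := card_between S univ (subset_univ S) t hS
    rw [card_univ] at h2
    rw [← h2]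
    congr 1
    ext T
    simp
  · intro b hb
    rw [mem_filter, mem_bl] at hb
    have h2 := card_between S b hb.2 t hS
    rw [hB.1 b hb.1] at h2
    rw [← h2]
    congr 1
    ext T
    simp [bipartiteAbove, and_assoc]
  · intro T hT
    rw [mem_filter, mem_powersetCard] at hT
    obtain ⟨b, ⟨hb1, hb2⟩, hb3⟩ := hB.2 T hT.1.2
    rw [card_eq_one]
    refine ⟨b, ?_⟩
    ext c
    simp only [bipartiteBelow, mem_filter, mem_bl, mem_singleton]
    constructor
    · rintro ⟨⟨h1, h2⟩, h3⟩
      exact hb3 c ⟨h1, h3⟩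
    · rintro rfl
      exact ⟨⟨hb1, hT.2.trans hb2⟩, hb2⟩

omit [Fintype α] in
/-- two blocks sharing `t` points are equal -/
theorem eq_of_le_card_inter (hB : Cfsg.IsSteinerSystem t k B) {b c : Finset α} (hb : b ∈ B)
    (hc : c ∈ B) (h : t ≤ (b ∩ c).card) : b = c := by
  obtain ⟨s, hs, hst⟩ := exists_subset_card_eq h
  obtain ⟨d, -, hd⟩ := hB.2 s hst
  rw [hd b ⟨hb, hs.trans inter_subset_left⟩, hd c ⟨hc, hs.trans inter_subset_right⟩]

/-- the number of blocks meeting `O` in exactly `i` points -/
noncomputable def nn (B : Set (Finset α)) (O : Finset α) (i : ℕ) : ℕ :=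
  ((bl B).filter fun b => (b ∩ O).card = i).card

theorem sum_choose (hB : Cfsg.IsSteinerSystem t k B) (O : Finset α) (j : ℕ) (hj : j ≤ t)
    (lam : ℕ) (hlam : lam * Nat.choose (k - j) (t - j) = Nat.choose (Fintype.card α - j) (t - j))
    (hpos : 0 < Nat.choose (k - j) (t - j)) :
    ∑ i ∈ range (O.card + 1), nn B O i * Nat.choose i j = Nat.choose O.card j * lam := by
  classical
  have h1 : ∑ b ∈ bl B, (powersetCard j (b ∩ O)).card = ∑ S ∈ powersetCard j O,
      ((bl B).filter fun b => S ⊆ b).card := by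
    have := Finset.sum_card_bipartiteAbove_eq_sum_card_bipartiteBelow
      (r := fun (b S : Finset α) => S ⊆ b) (s := bl B) (t := powersetCard j O)
    rw [show ∑ S ∈ powersetCard j O, ((bl B).filter fun b => S ⊆ b).card =
      ∑ b ∈ powersetCard j O, (bipartiteBelow (fun (b S : Finset α) => S ⊆ b) (bl B) b).card
      from rfl, ← this]
    apply sum_congr rfl
    intro b _
    congr 1
    ext S
    simp only [mem_powersetCard, bipartiteAbove, mem_filter, subset_inter_iff]
    tauto
  have h2 : ∀ S ∈ powersetCard j O, ((bl B).filter fun b => S ⊆ b).card = lam := by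
    intro S hS
    rw [mem_powersetCard] at hS
    have := card_containing hB S (by rw [hS.2]; exact hj)
    rw [hS.2, ← hlam] at this
    exact Nat.eq_of_mul_eq_mul_right hpos this
  rw [sum_congr rfl h2, sum_const, card_powersetCard, smul_eq_mul] at h1
  rw [← h1]
  simp_rw [card_powersetCard]
  rw [← Finset.sum_fiberwise_of_maps_to (s := bl B) (t := range (O.card + 1))
    (g := fun b => (b ∩ O).card)]
  · apply sum_congr rfl
    intro i _
    unfold nn
    rw [← smul_eq_mul, ← sum_const]
    apply sum_congr rfl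
    intro b hb
    rw [(mem_filter.1 hb).2]
  · intro b _
    rw [mem_range]
    exact Nat.lt_succ_of_le (card_le_card inter_subset_right)

theorem nn_zero_of {O : Finset α} {i : ℕ} (h : ∀ b ∈ B, (b ∩ O).card ≠ i) : nn B O i = 0 := by
  unfold nn
  rw [card_eq_zero, filter_eq_empty_iff]
  intro b hb
  exact h b ((mem_bl b).1 hb)

theorem ne_of_nn_zero {O b : Finset α} {i : ℕ} (h : nn B O i = 0) (hb : b ∈ B) :
    (b ∩ O).card ≠ i := by
  unfold nn at h
  rw [card_eq_zero, filter_eq_empty_iff] at h
  exact h ((mem_bl b).2 hb)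

theorem nn_self (hB : Cfsg.IsSteinerSystem t k B) (htk : t ≤ k) {O : Finset α} (hO : O ∈ B) :
    nn B O k = 1 := by
  unfold nn
  rw [card_eq_one]
  refine ⟨O, ?_⟩
  ext b
  simp only [mem_filter, mem_bl, mem_singleton]
  constructor
  · rintro ⟨h1, h2⟩
    exact eq_of_le_card_inter hB h1 hO (by rw [h2]; exact htk)
  · rintro rfl
    exact ⟨hO, by rw [inter_self]; exact hB.1 b hO⟩

theorem nn_mid (hB : Cfsg.IsSteinerSystem t k B) {O : Finset α} (hO : O ∈ B) {i : ℕ}
    (h1 : t ≤ i) (h2 : i < k) : nn B O i = 0 := by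
  apply nn_zero_of
  intro b hb h
  have := eq_of_le_card_inter hB hb hO (by rw [h]; exact h1)
  subst this
  rw [inter_self, hB.1 b hb] at h
  omega

/-! ### S(5,8,24) -/

section S5824
variable (hα : Fintype.card α = 24) (hB : Cfsg.IsSteinerSystem 5 8 B)
include hα hB

theorem octad_numbers {O : Finset α} (hO : O ∈ B) :
    nn B O 0 = 30 ∧ nn B O 1 = 0 ∧ nn B O 2 = 448 ∧ nn B O 3 = 0 ∧ nn B O 4 = 280 := by
  have hc := hB.1 O hO
  have e8 := nn_self hB (by norm_num) hO
  have e5 := nn_mid hB hO (i := 5) (by norm_num) (by norm_num)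
  have e6 := nn_mid hB hO (i := 6) (by norm_num) (by norm_num)
  have e7 := nn_mid hB hO (i := 7) (by norm_num) (by norm_num)
  have h0 := sum_choose hB O 0 (by norm_num) 759 (by rw [hα]; decide) (by decide)
  have h1 := sum_choose hB O 1 (by norm_num) 253 (by rw [hα]; decide) (by decide)
  have h2 := sum_choose hB O 2 (by norm_num) 77 (by rw [hα]; decide) (by decide)
  have h3 := sum_choose hB O 3 (by norm_num) 21 (by rw [hα]; decide) (by decide)
  have h4 := sum_choose hB O 4 (by norm_num) 5 (by rw [hα]; decide) (by decide)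
  rw [hc] at h0 h1 h2 h3 h4
  simp only [sum_range_succ, sum_range_zero, e5, e6, e7, e8, Nat.choose] at h0 h1 h2 h3 h4
  omega

theorem octad_inter {b c : Finset α} (hb : b ∈ B) (hc : c ∈ B) (hbc : b ≠ c) :
    (b ∩ c).card = 0 ∨ (b ∩ c).card = 2 ∨ (b ∩ c).card = 4 := by
  have h := octad_numbers hα hB hc
  have h1 := ne_of_nn_zero h.2.1 hb
  have h3 := ne_of_nn_zero h.2.2.2.1 hb
  have h5 : (b ∩ c).card < 5 := by
    by_contra hlt
    exact hbc (eq_of_le_card_inter hB hb hc (not_lt.1 hlt))
  omega

theorem octad_inter_even {b c : Finset α} (hb : b ∈ B) (hc : c ∈ B) : Even (b ∩ c).card := by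
  by_cases h : b = c
  · subst h
    rw [inter_self, hB.1 b hb]; decide
  · rcases octad_inter hα hB hb hc h with h | h | h <;> rw [h] <;> decide

theorem octads_containing (S : Finset α) (j lam : ℕ) (hS : S.card = j) (hj : j ≤ 5)
    (hlam : lam * Nat.choose (8 - j) (5 - j) = Nat.choose (24 - j) (5 - j)) :
    ((bl B).filter fun b => S ⊆ b).card = lam := by
  have := card_containing hB S (by omega)
  rw [hS, hα, ← hlam] at this
  exact Nat.eq_of_mul_eq_mul_right (Nat.choose_pos (by omega)) this

end S5824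

omit [Fintype α] in
/-- parity of intersections with a symmetric difference -/
theorem card_inter_symmDiff (e b c : Finset α) :
    Even (e ∩ symmDiff b c).card ↔ Even ((e ∩ b).card + (e ∩ c).card) := by
  have h1 : e ∩ symmDiff b c = symmDiff (e ∩ b) (e ∩ c) := by
    ext x; simp only [mem_inter, mem_symmDiff]; tauto
  rw [h1]
  have h2 : (symmDiff (e ∩ b) (e ∩ c)).card + 2 * ((e ∩ b) ∩ (e ∩ c)).card =
      (e ∩ b).card + (e ∩ c).card := by
    have a1 : (symmDiff (e ∩ b) (e ∩ c)) = ((e ∩ b) \ (e ∩ c)) ∪ ((e ∩ c) \ (e ∩ b)) := rfl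
    have a2 : Disjoint ((e ∩ b) \ (e ∩ c)) ((e ∩ c) \ (e ∩ b)) := disjoint_sdiff_sdiff
    rw [a1, card_union_of_disjoint a2]
    have a3 := card_sdiff_add_card_inter (e ∩ b) (e ∩ c)
    have a4 := card_sdiff_add_card_inter (e ∩ c) (e ∩ b)
    rw [inter_comm (e ∩ c) (e ∩ b)] at a4
    omega
  rw [← h2, Nat.even_add]
  simp

theorem octad_symmDiff (hα : Fintype.card α = 24) (hB : Cfsg.IsSteinerSystem 5 8 B)
    {b c : Finset α} (hb : b ∈ B) (hc : c ∈ B) (h4 : (b ∩ c).card = 4) : symmDiff b c ∈ B := by
  set w := symmDiff b c with hw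
  have hwcard : w.card = 8 := by
    have a1 : w = (b \ c) ∪ (c \ b) := rfl
    have a2 : Disjoint (b \ c) (c \ b) := disjoint_sdiff_sdiff
    rw [a1, card_union_of_disjoint a2]
    have a3 := card_sdiff_add_card_inter b c
    have a4 := card_sdiff_add_card_inter c b
    rw [inter_comm c b] at a4
    have := hB.1 b hb
    have := hB.1 c hc
    omega
  have hwe : ∀ e ∈ B, Even (e ∩ w).card := by
    intro e he
    rw [hw, card_inter_symmDiff]
    exact (octad_inter_even hα hB he hb).add (octad_inter_even hα hB he hc)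
  obtain ⟨F, hF, hF5⟩ := exists_subset_card_eq (show 5 ≤ w.card by omega)
  obtain ⟨o, ⟨ho1, ho2⟩, -⟩ := hB.2 F hF5
  have how := hwe o ho1
  have hle : 5 ≤ (o ∩ w).card := by
    rw [← hF5]; exact card_le_card (subset_inter ho2 hF)
  have hge : (o ∩ w).card ≤ 8 := by
    rw [← hwcard]; exact card_le_card inter_subset_right
  have hcases : (o ∩ w).card = 6 ∨ (o ∩ w).card = 8 := by
    rcases how with ⟨r, hr⟩; omega
  rcases hcases with h6 | h8
  · exfalso
    set u := symmDiff o w with hu
    have hucard : u.card = 4 := by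
      have a1 : u = (o \ w) ∪ (w \ o) := rfl
      have a2 : Disjoint (o \ w) (w \ o) := disjoint_sdiff_sdiff
      rw [a1, card_union_of_disjoint a2]
      have a3 := card_sdiff_add_card_inter o w
      have a4 := card_sdiff_add_card_inter w o
      rw [inter_comm w o] at a4
      have := hB.1 o ho1
      omega
    have hue : ∀ e ∈ B, Even (e ∩ u).card := by
      intro e he
      rw [hu, card_inter_symmDiff]
      exact (octad_inter_even hα hB he ho1).add (hwe e he)
    obtain ⟨V, hV, hV3⟩ := exists_subset_card_eq (show 3 ≤ u.card by omega)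
    have c3 := octads_containing hα hB V 3 21 hV3 (by norm_num) (by decide)
    have c4 := octads_containing hα hB u 4 5 hucard (by norm_num) (by decide)
    have hlt : ((bl B).filter fun b => u ⊆ b).card < ((bl B).filter fun b => V ⊆ b).card := by
      rw [c3, c4]; norm_num
    obtain ⟨e, he1, he2⟩ := exists_mem_notMem_of_card_lt_card hlt
    rw [mem_filter, mem_bl] at he1
    rw [mem_filter, mem_bl, not_and] at he2
    have hne := he2 he1.1
    have h3 : 3 ≤ (e ∩ u).card := by
      rw [← hV3]; exact card_le_card (subset_inter he1.2 hV)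
    have h4' : (e ∩ u).card < 4 := by
      rw [← hucard]
      apply card_lt_card
      refine ⟨inter_subset_right, fun h => hne (h.trans inter_subset_left)⟩
    rcases hue e he1.1 with ⟨r, hr⟩
    omega
  · have h1 : o ∩ w = w := eq_of_subset_of_card_le inter_subset_right (by omega)
    have h2 : w = o := eq_of_subset_of_card_le (by rw [← h1]; exact inter_subset_left)
      (by rw [hB.1 o ho1]; omega)
    rw [h2]; exact ho1

/-! ### S(4,7,23), S(3,6,22), S(5,6,12) -/

theorem heptad_numbers (hα : Fintype.card α = 23) (hB : Cfsg.IsSteinerSystem 4 7 B)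
    {O : Finset α} (hO : O ∈ B) :
    nn B O 0 = 0 ∧ nn B O 1 = 112 ∧ nn B O 2 = 0 ∧ nn B O 3 = 140 := by
  have hc := hB.1 O hO
  have e7 := nn_self hB (by norm_num) hO
  have e4 := nn_mid hB hO (i := 4) (by norm_num) (by norm_num)
  have e5 := nn_mid hB hO (i := 5) (by norm_num) (by norm_num)
  have e6 := nn_mid hB hO (i := 6) (by norm_num) (by norm_num)
  have h0 := sum_choose hB O 0 (by norm_num) 253 (by rw [hα]; decide) (by decide)
  have h1 := sum_choose hB O 1 (by norm_num) 77 (by rw [hα]; decide) (by decide)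
  have h2 := sum_choose hB O 2 (by norm_num) 21 (by rw [hα]; decide) (by decide)
  have h3 := sum_choose hB O 3 (by norm_num) 5 (by rw [hα]; decide) (by decide)
  rw [hc] at h0 h1 h2 h3
  simp only [sum_range_succ, sum_range_zero, e4, e5, e6, e7, Nat.choose] at h0 h1 h2 h3
  omega

theorem hexad22_numbers (hα : Fintype.card α = 22) (hB : Cfsg.IsSteinerSystem 3 6 B)
    {O : Finset α} (hO : O ∈ B) :
    nn B O 0 = 16 ∧ nn B O 1 = 0 ∧ nn B O 2 = 60 := by
  have hc := hB.1 O hO
  have e6 := nn_self hB (by norm_num) hO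
  have e3 := nn_mid hB hO (i := 3) (by norm_num) (by norm_num)
  have e4 := nn_mid hB hO (i := 4) (by norm_num) (by norm_num)
  have e5 := nn_mid hB hO (i := 5) (by norm_num) (by norm_num)
  have h0 := sum_choose hB O 0 (by norm_num) 77 (by rw [hα]; decide) (by decide)
  have h1 := sum_choose hB O 1 (by norm_num) 21 (by rw [hα]; decide) (by decide)
  have h2 := sum_choose hB O 2 (by norm_num) 5 (by rw [hα]; decide) (by decide)
  rw [hc] at h0 h1 h2
  simp only [sum_range_succ, sum_range_zero, e3, e4, e5, e6, Nat.choose] at h0 h1 h2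
  omega

theorem hexad12_numbers (hα : Fintype.card α = 12) (hB : Cfsg.IsSteinerSystem 5 6 B)
    {O : Finset α} (hO : O ∈ B) :
    nn B O 0 = 1 ∧ nn B O 1 = 0 ∧ nn B O 2 = 45 ∧ nn B O 3 = 40 ∧ nn B O 4 = 45 := by
  have hc := hB.1 O hO
  have e6 := nn_self hB (by norm_num) hO
  have e5 := nn_mid hB hO (i := 5) (by norm_num) (by norm_num)
  have h0 := sum_choose hB O 0 (by norm_num) 132 (by rw [hα]; decide) (by decide)
  have h1 := sum_choose hB O 1 (by norm_num) 66 (by rw [hα]; decide) (by decide)
  have h2 := sum_choose hB O 2 (by norm_num) 30 (by rw [hα]; decide) (by decide)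
  have h3 := sum_choose hB O 3 (by norm_num) 12 (by rw [hα]; decide) (by decide)
  have h4 := sum_choose hB O 4 (by norm_num) 4 (by rw [hα]; decide) (by decide)
  rw [hc] at h0 h1 h2 h3 h4
  simp only [sum_range_succ, sum_range_zero, e5, e6, Nat.choose] at h0 h1 h2 h3 h4
  omega

theorem hexad12_compl (hα : Fintype.card α = 12) (hB : Cfsg.IsSteinerSystem 5 6 B)
    {O : Finset α} (hO : O ∈ B) : Oᶜ ∈ B := by
  have h := (hexad12_numbers hα hB hO).1
  unfold nn at h
  rw [card_eq_one] at h
  obtain ⟨c, hc⟩ := h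
  have hc' : c ∈ (bl B).filter fun b => (b ∩ O).card = 0 := by rw [hc]; simp
  rw [mem_filter, mem_bl, card_eq_zero, ← disjoint_iff_inter_eq_empty] at hc'
  have h1 : c ⊆ Oᶜ := by
    rw [subset_compl_comm, subset_compl_iff_disjoint_right]
    exact hc'.2.symm
  have h2 : c = Oᶜ := by
    apply eq_of_subset_of_card_le h1
    rw [card_compl, hα, hB.1 O hO, hB.1 c hc'.1]
  rw [← h2]; exact hc'.1

end Cfsg.Agent.Lib.Steiner
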