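import Mathlib
import Cfsg.Prelude.Def_Sporadic_a
import Cfsg.Agent.Lib.Steiner
import Cfsg.Agent.Lib.MaskSet

/-!
helper8: propagation checker for Steiner systems S(5,6,12) on `Fin 12`.
-/
set_option autoImplicit false

namespace Cfsg.Agent.Lib.S5612

open Finset Cfsg.Agent.Lib.MaskSet Cfsg.Agent.Lib.Steiner

/-- fast population count of 12-bit numbers -/
def pcf (x : ℕ) : ℕ := Nat.add (Nat.mod x 2) (Nat.add (Nat.mod (Nat.div x 2) 2) (Nat.add (Nat.mod (Nat.div x 4) 2)
  (Nat.add (Nat.mod (Nat.div x 8) 2) (Nat.add (Nat.mod (Nat.div x 16) 2) (Nat.add (Nat.mod (Nat.div x 32) 2)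
  (Nat.add (Nat.mod (Nat.div x 64) 2) (Nat.add (Nat.mod (Nat.div x 128) 2) (Nat.add (Nat.mod (Nat.div x 256) 2)
  (Nat.add (Nat.mod (Nat.div x 512) 2) (Nat.add (Nat.mod (Nat.div x 1024) 2) (Nat.mod (Nat.div x 2048) 2)))))))))))

theorem pcf_eq (x : ℕ) : pcf x = pc 12 x := by
  simp only [pc, Nat.toNat_testBit, pcf]
  show x % 2 + (x / 2 % 2 + (x / 4 % 2 + (x / 8 % 2 + (x / 16 % 2 + (x / 32 % 2 + (x / 64 % 2 + (x / 128 % 2 +
    (x / 256 % 2 + (x / 512 % 2 + (x / 1024 % 2 + x / 2048 % 2)))))))))) = _
  norm_num
  ring

/-- bitmap of the numbers below 4096 with population count 1 or 5 -/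
def tbl : ℕ := 3069183075406921795046305706135661717503823238750866261102332495235887628097300604888768739876167066967007259793316168467450011613259060315228318970292050344703710764506168231682796345068786399650007686527304571483342494592038916399723703330737752172282937601723642904600556693017513392435418742114664509487171129708122426609825478181989611968733122016155418879902299009433985956313554669374863357160918481009492793605983574912400865631999265382671364524668107757614563018911332144531531785052608133399422898850717950151707366561316346945464173563270455638312095245249449748531005633683911232702317803658097179126723428135869913042104722801361597659000533905843542275786861410227002109055368239256727751967120278703424953261158380318625364279351676088612742454975263342356856679277653582910558316185498804313048315157147912186871865297644921975198026769767427899185020533634908874218146566821317507155844412428238607321646288293935074165084560326287362314158179083627451256274004795463041393633759006101490991802180234377739769186753960237566059564941863727705969936436290971038820976821284392673983244038851647148097333426248779745634627839272204739589633227700147350521201001543817924762992918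

def tb (x : ℕ) : Bool := Nat.beq (Nat.mod (Nat.shiftRight tbl x) 2) 1

theorem tb_check : ((List.range 4096).all fun x => !tb x || Nat.beq (pcf x) 1 || Nat.beq (pcf x) 5) = true := by
  decide +kernel

/-- two masks which cannot both be blocks -/
def bad (r s : ℕ) : Bool := tb (Nat.land r s)

theorem pc_of_bad {r s : ℕ} (hs : s < 4096) (h : bad r s = true) : pc 12 (r &&& s) = 1 ∨ pc 12 (r &&& s) = 5 := by
  have h1 := List.all_eq_true.mp tb_check (r &&& s) (by
    rw [List.mem_range]
    exact lt_of_le_of_lt Nat.and_le_right hs)
  have h2 : tb (r &&& s) = true := h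
  rw [h2, Bool.not_true, Bool.false_or, Bool.or_eq_true, Nat.beq_eq, Nat.beq_eq, pcf_eq] at h1
  exact h1

def refuted (known : List ℕ) (s : ℕ) : Bool := known.any fun r => bad r s

def cands (known : List ℕ) (F : ℕ) (l : List ℕ) : Bool :=
  (List.range 12).all fun q => F.testBit q || l.contains q || refuted known (F ||| 1 <<< q)

def okF (F : ℕ) : Bool := decide (F < 4096) && pc 12 F == 5

def add (F p : ℕ) (known : List ℕ) : List ℕ :=
  (F ||| 1 <<< p) :: (4095 ^^^ (F ||| 1 <<< p)) :: known

inductive Tree
  | leaf : ℕ → Tree
  | step : ℕ → ℕ → Tree → Tree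
  | br2 : ℕ → ℕ → ℕ → Tree → Tree → Tree
  | br3 : ℕ → ℕ → ℕ → ℕ → Tree → Tree → Tree → Tree

def check (lf : ℕ → List ℕ → Bool) : Tree → List ℕ → Bool
  | .leaf a, known => lf a known
  | .step F p t, known => okF F && cands known F [p] && check lf t (add F p known)
  | .br2 F p q t u, known => okF F && cands known F [p, q] && check lf t (add F p known) &&
      check lf u (add F q known)
  | .br3 F p q r t u v, known => okF F && cands known F [p, q, r] && check lf t (add F p known) &&
      check lf u (add F q known) && check lf v (add F r known)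

section sound
variable {B : Set (Finset (Fin 12))} (hB : Cfsg.IsSteinerSystem 5 6 B)

/-- all known masks are blocks -/
def Good (B : Set (Finset (Fin 12))) (known : List ℕ) : Prop := ∀ m ∈ known, mset 12 m ∈ B

include hB

theorem not_bad {r s : ℕ} (hs4 : s < 4096) (hr : mset 12 r ∈ B) (hs : mset 12 s ∈ B) : bad r s = false := by
  have h := hexad12_numbers (by simp) hB hs
  have h1 := ne_of_nn_zero h.2.1 hr
  have e5 := nn_mid hB hs (i := 5) (by norm_num) (by norm_num)
  have h5 := ne_of_nn_zero e5 hr
  rw [← mset_and, card_mset] at h1 h5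
  rw [← Bool.not_eq_true]
  intro hb
  rcases pc_of_bad hs4 hb with h' | h'
  · exact h1 h'
  · exact h5 h'

theorem not_refuted {known : List ℕ} (hk : Good B known) {s : ℕ} (hs4 : s < 4096) (hs : mset 12 s ∈ B) :
    refuted known s = false := by
  unfold refuted
  rw [List.any_eq_false]
  intro r hr
  rw [not_bad hB hs4 (hk r hr) hs]
  simp

theorem mem_cands {known : List ℕ} (hk : Good B known) {F : ℕ} {l : List ℕ} (hF : okF F = true)
    (hl : cands known F l = true) : ∃ p ∈ l, Good B (add F p known) := by
  unfold okF at hF
  rw [Bool.and_eq_true, decide_eq_true_eq, beq_iff_eq] at hF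
  obtain ⟨b, ⟨hb, hsub⟩, -⟩ := hB.2 (mset 12 F) (by rw [card_mset, hF.2])
  have hbc := hB.1 b hb
  have hFc : (mset 12 F).card = 5 := by rw [card_mset, hF.2]
  have : (b \ mset 12 F).card = 1 := by rw [card_sdiff_of_subset hsub, hbc, hFc]
  rw [card_eq_one] at this
  obtain ⟨q, hq⟩ := this
  have hqn : q ∉ mset 12 F := by
    have : q ∈ b \ mset 12 F := by rw [hq]; simp
    exact (mem_sdiff.mp this).2
  have hbe : mset 12 (F ||| 1 <<< (q : ℕ)) = b := by
    rw [mset_or, mset_shift, ← hq, union_sdiff_of_subset hsub]
  have hbB : mset 12 (F ||| 1 <<< (q : ℕ)) ∈ B := by rw [hbe]; exact hb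
  unfold cands at hl
  rw [List.all_eq_true] at hl
  have h1 := hl q (by simp)
  rw [not_refuted hB hk (or_lt (n := 12) hF.1 (shift_lt q)) hbB, Bool.or_false, Bool.or_eq_true] at h1
  rcases h1 with h1 | h1
  · exact absurd (mem_mset.mpr h1) hqn
  · refine ⟨q, by simpa using h1, ?_⟩
    intro m hm
    unfold add at hm
    rw [List.mem_cons, List.mem_cons] at hm
    rcases hm with rfl | rfl | hm
    · exact hbB
    · have := mset_compl 12 (F ||| 1 <<< (q : ℕ))
      norm_num at this
      rw [this]
      exact hexad12_compl (by simp) hB hbB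
    · exact hk m hm

theorem check_sound {lf : ℕ → List ℕ → Bool} (t : Tree) : ∀ (known : List ℕ), Good B known →
    check lf t known = true → ∃ a known', Good B known' ∧ lf a known' = true := by
  induction t with
  | leaf a =>
    intro known hk h
    exact ⟨a, known, hk, h⟩
  | step F p t ih =>
    intro known hk h
    simp only [check, Bool.and_eq_true] at h
    obtain ⟨q, hq, hg⟩ := mem_cands hB hk h.1.1 h.1.2
    rw [List.mem_singleton] at hq
    subst hq
    exact ih _ hg h.2
  | br2 F p q t u iht ihu =>
    intro known hk h
    simp only [check, Bool.and_eq_true] at h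
    obtain ⟨x, hx, hg⟩ := mem_cands hB hk h.1.1.1 h.1.1.2
    rw [List.mem_cons, List.mem_singleton] at hx
    rcases hx with rfl | rfl
    · exact iht _ hg h.1.2
    · exact ihu _ hg h.2
  | br3 F p q r t u v iht ihu ihv =>
    intro known hk h
    simp only [check, Bool.and_eq_true] at h
    obtain ⟨x, hx, hg⟩ := mem_cands hB hk h.1.1.1.1 h.1.1.1.2
    rw [List.mem_cons, List.mem_cons, List.mem_singleton] at hx
    rcases hx with rfl | rfl | rfl
    · exact iht _ hg h.1.1.2
    · exact ihu _ hg h.1.2
    · exact ihv _ hg h.2

end sound

end Cfsg.Agent.Lib.S5612
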