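import Mathlib
import Cfsg.Agent.Lib.S5612

/-!
helper8: classification certificate for S(5,6,12).
-/
set_option autoImplicit false
set_option maxRecDepth 10000

namespace Cfsg.Agent.Lib.S5612

open Finset Cfsg.Agent.Lib.MaskSet Cfsg.Agent.Lib.Steiner

/-- the standard system -/
def stdL : List ℕ := [63, 207, 243, 252, 343, 365, 378, 414, 427, 437, 473, 486, 605, 619, 630, 663, 686, 697, 730, 741, 795, 807, 828, 846, 881, 909, 946, 963, 980, 1000, 1115, 1134, 1141, 1181, 1191, 1210, 1238, 1257, 1295, 1334, 1337, 1372, 1379, 1427, 1452, 1477, 1482, 1520, 1566, 1581, 1587, 1607, 1656, 1675, 1716, 1740, 1745, 1762, 1813, 1834, 1865, 1874, 1892, 1926, 1944, 1953, 2142, 2151, 2169, 2203, 2221, 2230, 2261, 2282, 2333, 2350, 2355, 2379, 2420, 2439, 2488, 2508, 2514, 2529, 2575, 2613, 2618, 2643, 2668, 2716, 2723, 2758, 2761, 2800, 2838, 2857, 2885, 2904, 2914, 2954, 2961, 2980, 3095, 3115, 3132, 3149, 3186, 3214, 3249, 3267, 3288, 3300, 3354, 3365, 3398, 3409, 3432, 3465, 3476, 3490, 3609, 3622, 3658, 3668, 3681, 3717,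 3730, 3752, 3843, 3852, 3888, 4032]

def tab : ℕ → ℕ
  | 0 => 205163983024656
  | 1 => 167861940400656
  | 2 => 113845009134096
  | 3 => 153277338759696
  | 4 => 186327363760656
  | 5 => 130539261800976
  | _ => 205163983024656

def sg (a i : ℕ) : ℕ := (tab a >>> (4 * i)) % 16

def lf (a : ℕ) (known : List ℕ) : Bool := decide (a < 6) && stdL.all fun m => known.contains (imgN (sg a) 12 m)

def init : List ℕ := [63, 4032, 252, 3843, 378, 3717, 630, 3465, 1134, 2961, 2142, 1953]

def tree : Tree := .br3 79 7 8 9 (.step 334 9 <| .step 3203 6 <| .step 1084 11 <| .step 211 5 <| .step 781 7 <| .br2 271 10 11 (.step 527 11 <| .step 583 10 <| .step 87 8 <| .step 535 7 <| .step 1047 11 <| .step 103 11 <| .step 551 8 <| .step 167 10 <| .step 391 11 <| .step 107 9 <| .step 91 10 <| .step 539 8 <| .step 155 11 <| .step 171 8 <| .step 1067 11 <| .step 331 11 <| .step 651 10 <| .step 595 11 <| .step 563 10 <| .step 307 11 <| .step 403 10 <| .step 355 10 <| .step 675 11 <| .step 93 9 <| .step 157 10 <| .step 285 11 <| .step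 109 8 <| .step 173 11 <| .step 557 10 <| .step 1101 11 <| .step 117 10 <| .step 181 8 <| .step 565 11 <| .step 213 11 <| .step 789 10 <| .step 229 9 <| .step 1317 11 <| .step 453 10 <| .step 837 11 <| .step 121 11 <| .step 185 9 <| .step 313 10 <| .step 217 8 <| .step 1561 11 <| .step 233 10 <| .step 809 11 <| .step 713 11 <| .step 841 10 <| .step 369 9 <| .step 721 10 <| .step 1361 11 <| .step 481 11 <| .step 1633 11 <| .leaf 0) (.step 527 10 <| .step 583 11 <| .step 103 8 <| .step 87 10 <| .step 2071 7 <| .step 279 9 <| .step 551 7 <| .step 1063 11 <| .step 391 10 <| .step 91 9 <| .step 2075 10 <| .step 155 8 <| .step 107 11 <| .step 171 10 <| .step 299 9 <| .step 331 10 <| .step 651 11 <| .step 339 11 <| .step 307 10 <| .step 563 11 <| .step 659 10 <| .step 611 10 <| .step 419 11 <| .step 93 8 <| .step 157 10 <| .step 541 11 <| .step 109 9 <| .step 173 11 <| .step 301 10 <| .step 1101 11 <| .step 117 11 <| .step 181 8 <| .step 565 10 <| .step 213 9 <| .step 1301 11 <| .step 229 10 <| .step 805 11 <| .step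 453 11 <| .step 837 10 <| .step 121 10 <| .step 185 9 <| .step 313 11 <| .step 217 11 <| .step 793 10 <| .step 233 8 <| .step 1577 11 <| .step 713 10 <| .step 841 11 <| .step 369 9 <| .step 465 10 <| .step 1617 11 <| .step 737 11 <| .step 1377 11 <| .leaf 1)) (.step 206 9 <| .step 3333 6 <| .step 1082 11 <| .step 899 3 <| .step 117 8 <| .br2 143 10 11 (.step 527 11 <| .step 583 10 <| .step 87 7 <| .step 535 8 <| .step 1047 11 <| .step 103 11 <| .step 551 7 <| .step 295 10 <| .step 391 11 <| .step 155 11 <| .step 283 10 <| .step 91 9 <| .step 107 7 <| .step 299 11 <| .step 555 10 <| .step 1099 11 <| .step 115 10 <| .step 179 8 <| .step 563 11 <| .step 339 11 <| .step 659 10 <| .step 355 9 <| .step 1187 11 <| .step 451 10 <| .step 707 11 <| .step 93 10 <| .step 541 7 <| .step 285 11 <| .step 109 9 <| .step 301 7 <| .step 1069 11 <| .step 205 11 <| .step 781 10 <| .step 565 10 <| .step 181 11 <| .step 597 11 <| .step 405 10 <| .step 229 10 <| .step 805 11 <| .step 121 11 <| .step 185 10 <| .step 313 9 <| .step 217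 8 <| .step 1561 11 <| .step 361 10 <| .step 681 11 <| .step 713 10 <| .step 841 11 <| .step 241 9 <| .step 1233 11 <| .step 849 10 <| .step 481 11 <| .step 1633 11 <| .leaf 2) (.step 527 10 <| .step 583 11 <| .step 103 7 <| .step 87 10 <| .step 2071 8 <| .step 151 9 <| .step 551 8 <| .step 1063 11 <| .step 391 10 <| .step 283 10 <| .step 155 6 <| .step 539 11 <| .step 171 10 <| .step 299 11 <| .step 107 9 <| .step 1099 11 <| .step 115 11 <| .step 179 8 <| .step 563 10 <| .step 339 9 <| .step 1171 11 <| .step 355 10 <| .step 675 11 <| .step 451 11 <| .step 707 10 <| .step 93 9 <| .step 285 7 <| .step 1053 11 <| .step 109 11 <| .step 173 9 <| .step 301 10 <| .step 205 10 <| .step 781 11 <| .step 565 11 <| .step 181 10 <| .step 213 11 <| .step 789 10 <| .step 613 10 <| .step 421 11 <| .step 121 10 <| .step 185 11 <| .step 313 9 <| .step 345 11 <| .step 665 10 <| .step 233 8 <| .step 1577 11 <| .step 713 11 <| .step 841 10 <| .step 241 9 <| .step 465 10 <| .step 1617 11 <| .step 1249 11 <| .step 865 11 <| .leaf 3))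 (.step 206 8 <| .step 3593 6 <| .step 1078 11 <| .step 899 2 <| .step 121 9 <| .br2 143 10 11 (.step 271 11 <| .step 3079 6 <| .step 331 10 <| .step 91 7 <| .step 87 8 <| .step 151 11 <| .step 535 10 <| .step 103 7 <| .step 295 10 <| .step 551 11 <| .step 283 9 <| .step 1051 11 <| .step 107 11 <| .step 299 7 <| .step 555 10 <| .step 651 11 <| .step 115 10 <| .step 179 9 <| .step 307 11 <| .step 595 11 <| .step 403 10 <| .step 355 9 <| .step 1187 11 <| .step 451 11 <| .step 707 10 <| .step 93 10 <| .step 285 7 <| .step 541 11 <| .step 109 8 <| .step 557 7 <| .step 1069 11 <| .step 205 11 <| .step 781 10 <| .step 117 11 <| .step 181 10 <| .step 309 9 <| .step 213 9 <| .step 1301 11 <| .step 613 10 <| .step 421 11 <| .step 453 10 <| .step 837 11 <| .step 185 11 <| .step 313 10 <| .step 345 11 <| .step 665 10 <| .step 233 10 <| .step 809 11 <| .step 241 8 <| .step 1233 11 <| .step 849 10 <| .step 737 11 <| .step 1377 11 <| .leaf 4) (.step 271 10 <| .step 3079 6 <| .step 331 11 <| .step 107 7 <| .step 103 8 <| .step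 87 7 <| .step 279 11 <| .step 535 10 <| .step 167 10 <| .step 551 11 <| .step 91 10 <| .step 2075 9 <| .step 155 8 <| .step 299 9 <| .step 1067 11 <| .step 651 10 <| .step 115 11 <| .step 179 9 <| .step 307 10 <| .step 339 9 <| .step 1171 11 <| .step 611 10 <| .step 419 11 <| .step 451 10 <| .step 707 11 <| .step 93 8 <| .step 541 7 <| .step 1053 11 <| .step 109 11 <| .step 173 8 <| .step 557 10 <| .step 205 10 <| .step 781 11 <| .step 117 10 <| .step 181 11 <| .step 309 9 <| .step 597 11 <| .step 405 10 <| .step 229 9 <| .step 1317 11 <| .step 453 11 <| .step 837 10 <| .step 185 10 <| .step 313 11 <| .step 217 11 <| .step 793 10 <| .step 361 10 <| .step 681 11 <| .step 241 8 <| .step 721 10 <| .step 1361 11 <| .step 1249 11 <| .step 865 11 <| .leaf 5))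

theorem check_tree : check lf tree init = true := by decide +kernel

end Cfsg.Agent.Lib.S5612
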