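import Mathlib
import Cfsg.Prelude.Def_Sporadic_a
import Cfsg.Agent.Lib.Steiner

/-!
helper8: transport of Steiner systems along equivalences; membership in `setSystemAut`.
-/
set_option autoImplicit false

namespace Cfsg.Agent.Lib.SteinerTransport

open Finset
open scoped Pointwise

variable {α β γ : Type*}

/-- pull back of a family of subsets along a bijection -/
def pull (e : β ≃ α) (B : Set (Finset α)) : Set (Finset β) := {s | s.map e.toEmbedding ∈ B}

theorem mem_pull {e : β ≃ α} {B : Set (Finset α)} {s : Finset β} :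
    s ∈ pull e B ↔ s.map e.toEmbedding ∈ B := Iff.rfl

theorem map_map_symm (e : β ≃ α) (s : Finset α) : (s.map e.symm.toEmbedding).map e.toEmbedding = s := by
  rw [Finset.map_map]
  convert Finset.map_refl
  ext x; simp

theorem map_symm_map (e : β ≃ α) (s : Finset β) : (s.map e.toEmbedding).map e.symm.toEmbedding = s := by
  rw [Finset.map_map]
  convert Finset.map_refl
  ext x; simp

theorem steiner_pull {t k : ℕ} (e : β ≃ α) {B : Set (Finset α)} (hB : Cfsg.IsSteinerSystem t k B) :
    Cfsg.IsSteinerSystem t k (pull e B) := by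
  constructor
  · intro b hb
    rw [← hB.1 _ hb, card_map]
  · intro s hs
    obtain ⟨b, ⟨hb, hsb⟩, hu⟩ := hB.2 (s.map e.toEmbedding) (by rw [card_map, hs])
    refine ⟨b.map e.symm.toEmbedding, ⟨?_, ?_⟩, ?_⟩
    · rw [mem_pull, map_map_symm]
      exact hb
    · rw [← map_symm_map e s]
      exact Finset.map_subset_map.mpr hsb
    · rintro c ⟨hc, hsc⟩
      have := hu (c.map e.toEmbedding) ⟨hc, Finset.map_subset_map.mpr hsc⟩
      rw [← this, map_symm_map]

theorem iso_of {α β : Type*} [DecidableEq β] {B : Set (Finset α)} {B' : Set (Finset β)} (e : α ≃ β)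
    (h : ∀ s : Finset α, s.map e.toEmbedding ∈ B' ↔ s ∈ B) : Cfsg.SetSystemIso B B' := by
  refine ⟨e, ?_⟩
  ext s
  constructor
  · rintro ⟨b, hb, rfl⟩
    have := (h b).mpr hb
    rw [Finset.map_eq_image] at this
    exact this
  · intro hs
    refine ⟨s.map e.symm.toEmbedding, ?_, ?_⟩
    · rw [← h, map_map_symm]
      exact hs
    · show (s.map e.symm.toEmbedding).image e = s
      have := map_map_symm e s
      rw [Finset.map_eq_image e.toEmbedding] at this
      exact this

theorem mem_aut_iff [DecidableEq α] {B : Set (Finset α)} {g : Equiv.Perm α} :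
    g ∈ Cfsg.setSystemAut B ↔ ∀ s : Finset α, s.map g.toEmbedding ∈ B ↔ s ∈ B := by
  rw [MulAction.mem_stabilizer_iff]
  have e1 : ∀ s : Finset α, s.map g.toEmbedding = g • s := by
    intro s
    rw [Finset.map_eq_image]
    rfl
  constructor
  · intro h s
    rw [e1]
    conv_lhs => rw [← h]
    exact Set.smul_mem_smul_set_iff
  · intro h
    ext s
    rw [Set.mem_smul_set_iff_inv_smul_mem, ← h (g⁻¹ • s), e1, smul_inv_smul]

end Cfsg.Agent.Lib.SteinerTransport
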