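import Mathlib
import Cfsg.Agent.Lib.S5612Cert
import Cfsg.Agent.Lib.SteinerTransport

/-!
helper8: uniqueness of S(5,6,12) with 5 labelled points.
-/
set_option autoImplicit false

namespace Cfsg.Agent.Lib.S5612

open Finset Cfsg.Agent.Lib.MaskSet Cfsg.Agent.Lib.Steiner Cfsg.Agent.Lib.SteinerTransport

/-! ### from the certificate -/

/-- the standard system as a finset -/
def stdF : Finset (Finset (Fin 12)) := (stdL.map (mset 12)).toFinset

theorem stdL_lt : ∀ m ∈ stdL, m < 4096 := by
  have : (stdL.all fun m => decide (m < 4096)) = true := by decide +kernel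
  intro m hm
  simpa using List.all_eq_true.mp this m hm

theorem mem_stdF {s : Finset (Fin 12)} : s ∈ stdF ↔ ∃ m ∈ stdL, mset 12 m = s := by
  simp [stdF]

theorem card_stdF : stdF.card = 132 := by
  unfold stdF
  rw [List.toFinset_card_of_nodup]
  · rw [List.length_map]; rfl
  · rw [List.nodup_map_iff_inj_on]
    · intro x hx y hy h
      exact mset_inj (stdL_lt x hx) (stdL_lt y hy) h
    · decide +kernel

/-- the relabelling permutations -/
def sgF (a : ℕ) : Fin 12 → Fin 12 := fun i => Fin.ofNat 12 (sg a i)

theorem sg_check : ∀ a < 6, (∀ i : Fin 12, sg a i = sgF a i) ∧ Function.Injective (sgF a) ∧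
    ∀ i : Fin 12, i.val < 6 → sgF a i = i := by decide +kernel

noncomputable def sgE (a : ℕ) (ha : a < 6) : Equiv.Perm (Fin 12) :=
  Equiv.ofBijective (sgF a) (Finite.injective_iff_bijective.mp (sg_check a ha).2.1)

theorem classify {B : Set (Finset (Fin 12))} (hB : Cfsg.IsSteinerSystem 5 6 B) (hk : Good B init) :
    ∃ σ : Equiv.Perm (Fin 12), (∀ i : Fin 12, i.val < 6 → σ i = i) ∧
      ∀ s ∈ stdF, s.map σ.toEmbedding ∈ B := by
  obtain ⟨a, known', hg, hl⟩ := check_sound hB tree init hk check_tree
  unfold lf at hl
  rw [Bool.and_eq_true, decide_eq_true_eq, List.all_eq_true] at hl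
  obtain ⟨ha, hl⟩ := hl
  refine ⟨sgE a ha, fun i hi => (sg_check a ha).2.2 i hi, ?_⟩
  intro s hs
  rw [mem_stdF] at hs
  obtain ⟨m, hm, rfl⟩ := hs
  have h1 := hl m hm
  rw [List.contains_iff_mem] at h1
  have h2 := hg _ h1
  rw [mset_imgN (sgF a) (sg a) (sg_check a ha).1] at h2
  rw [Finset.map_eq_image]
  exact h2

/-! ### labelling -/

variable {α : Type*} [Fintype α] [DecidableEq α]

def jmask (j : ℕ) : ℕ := (62 ^^^ (1 <<< (j + 1))) ||| (64 ||| (1 <<< (j + 7)))

theorem init_eq : init = [63, 4095 ^^^ 63, jmask 0, 4095 ^^^ jmask 0, jmask 1, 4095 ^^^ jmask 1,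
    jmask 2, 4095 ^^^ jmask 2, jmask 3, 4095 ^^^ jmask 3, jmask 4, 4095 ^^^ jmask 4] := by decide +kernel

theorem jmask_mem : ∀ j : Fin 5, ∀ i : Fin 12, (jmask j).testBit i = true →
    (∃ k : Fin 6, k ≠ 0 ∧ k ≠ j.succ ∧ i = (Fin.castAdd 6 k : Fin 12)) ∨ i = (Fin.natAdd 6 (0 : Fin 6) : Fin 12) ∨
      i = (Fin.natAdd 6 j.succ : Fin 12) := by
  decide +kernel

theorem good_of {B : Set (Finset (Fin 12))} (hB : Cfsg.IsSteinerSystem 5 6 B) (h0 : mset 12 63 ∈ B)
    (hj : ∀ j : Fin 5, mset 12 (jmask j) ∈ B) : Good B init := by
  have hc : ∀ m, mset 12 m ∈ B → mset 12 (4095 ^^^ m) ∈ B := by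
    intro m hm
    have := mset_compl 12 m
    norm_num at this
    rw [this]
    exact hexad12_compl (by simp) hB hm
  rw [init_eq]
  intro m hm
  simp only [List.mem_cons, List.not_mem_nil, or_false] at hm
  have j0 := hj 0
  have j1 := hj 1
  have j2 := hj 2
  have j3 := hj 3
  have j4 := hj 4
  rcases hm with rfl | rfl | rfl | rfl | rfl | rfl | rfl | rfl | rfl | rfl | rfl | rfl
  · exact h0
  · exact hc _ h0
  · exact j0
  · exact hc _ j0
  · exact j1
  · exact hc _ j1
  · exact j2
  · exact hc _ j2
  · exact j3
  · exact hc _ j3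
  · exact j4
  · exact hc _ j4

theorem exists_labelling (hα : Fintype.card α = 12) {B : Set (Finset α)} (hB : Cfsg.IsSteinerSystem 5 6 B)
    (x : Fin 5 ↪ α) : ∃ e : Fin 12 ≃ α, (∀ i : Fin 5, e (Fin.castLE (by norm_num) i) = x i) ∧
      Good (pull e B) init := by
  -- the block through the five points
  obtain ⟨H, ⟨hH, hsub⟩, -⟩ := hB.2 (univ.map x) (by simp)
  have hHc := hB.1 H hH
  have h1 : (H \ univ.map x).card = 1 := by rw [card_sdiff_of_subset hsub, hHc]; simp
  rw [card_eq_one] at h1
  obtain ⟨x5, hx5⟩ := h1
  have hx5' : x5 ∈ H \ univ.map x := by rw [hx5]; simp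
  rw [mem_sdiff] at hx5'
  -- labelling of H
  set lx : Fin 6 → α := Fin.snoc (n := 5) (α := fun _ => α) x x5 with hlx
  have lxinj : Function.Injective lx := by
    rw [hlx, Fin.snoc_injective_iff]
    refine ⟨x.injective, ?_⟩
    rintro ⟨i, hi⟩
    apply hx5'.2
    rw [mem_map]
    exact ⟨i, mem_univ _, hi⟩
  have lxH : ∀ i, lx i ∈ H := by
    intro i
    induction i using Fin.lastCases with
    | last => rw [hlx, Fin.snoc_last]; exact hx5'.1
    | cast i =>
      rw [hlx, Fin.snoc_castSucc]
      exact hsub (mem_map_of_mem _ (mem_univ i))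
  -- a point outside
  obtain ⟨y0, hy0⟩ : ∃ y0, y0 ∉ H := by
    by_contra hcon
    push Not at hcon
    have : H = univ := eq_univ_iff_forall.mpr hcon
    rw [this, card_univ, hα] at hHc
    omega
  -- the sets S_j
  set S : Fin 5 → Finset α := fun j => ((univ.erase (0 : Fin 6)).erase j.succ).image lx with hS
  have hSc : ∀ j, (S j).card = 4 := by
    intro j
    rw [hS]
    simp only
    rw [card_image_of_injective _ lxinj, card_erase_of_mem, card_erase_of_mem (mem_univ _)]
    · simp
    · rw [mem_erase]
      exact ⟨Fin.succ_ne_zero j, mem_univ _⟩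
  have hSH : ∀ j, S j ⊆ H := by
    intro j a ha
    rw [hS] at ha
    simp only [mem_image] at ha
    obtain ⟨k, -, rfl⟩ := ha
    exact lxH k
  have memS : ∀ (j : Fin 5) (k : Fin 6), k ≠ 0 → k ≠ j.succ → lx k ∈ S j := by
    intro j k h0 hj
    rw [hS]
    apply mem_image_of_mem
    rw [mem_erase, mem_erase]
    exact ⟨hj, h0, mem_univ _⟩
  have hFc : ∀ j, (insert y0 (S j)).card = 5 := by
    intro j
    rw [card_insert_of_notMem (fun h => hy0 (hSH j h)), hSc]
  have hblock : ∀ j, ∃ y, insert y (insert y0 (S j)) ∈ B ∧ y ∉ insert y0 (S j) := by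
    intro j
    obtain ⟨b, ⟨hb, hbs⟩, -⟩ := hB.2 _ (hFc j)
    have h1 : (b \ insert y0 (S j)).card = 1 := by rw [card_sdiff_of_subset hbs, hB.1 b hb, hFc]
    rw [card_eq_one] at h1
    obtain ⟨y, hy⟩ := h1
    have hy' : y ∈ b \ insert y0 (S j) := by rw [hy]; simp
    rw [mem_sdiff] at hy'
    refine ⟨y, ?_, hy'.2⟩
    have : insert y (insert y0 (S j)) = b := by
      rw [insert_eq, ← hy, sdiff_union_of_subset hbs]
    rw [this]; exact hb
  choose y hyB hyn using hblock
  have hyS : ∀ j, y j ∉ S j := fun j h => hyn j (mem_insert_of_mem h)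
  have hyy0 : ∀ j, y j ≠ y0 := fun j h => hyn j (by rw [h]; exact mem_insert_self _ _)
  have hyH : ∀ j, y j ∉ H := by
    intro j hj
    apply hy0
    have : H = insert (y j) (insert y0 (S j)) := by
      apply eq_of_le_card_inter hB hH (hyB j)
      have hsub2 : insert (y j) (S j) ⊆ H ∩ insert (y j) (insert y0 (S j)) := by
        apply subset_inter
        · exact insert_subset hj (hSH j)
        · exact insert_subset_insert _ (subset_insert _ _)
      have := card_le_card hsub2
      rwa [card_insert_of_notMem (hyS j), hSc] at this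
    rw [this]
    exact mem_insert_of_mem (mem_insert_self _ _)
  have hyinj : Function.Injective y := by
    intro j k hjk
    by_contra hne
    -- three common points of H
    have hb : insert (y j) (insert y0 (S j)) = insert (y k) (insert y0 (S k)) := by
      apply eq_of_le_card_inter hB (hyB j) (hyB k)
      have hc3 : 3 ≤ (S j ∩ S k).card := by
        have h1 := card_union_add_card_inter (S j) (S k)
        have h2 : (S j ∪ S k).card ≤ 5 := by
          have h3 : S j ∪ S k ⊆ (univ.erase (0 : Fin 6)).image lx := by
            apply union_subset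
            · exact image_subset_image (erase_subset _ _)
            · exact image_subset_image (erase_subset _ _)
          refine (card_le_card h3).trans ?_
          refine card_image_le.trans ?_
          rw [card_erase_of_mem (mem_univ _)]
          simp
        rw [hSc, hSc] at h1
        omega
      have hsub2 : insert (y j) (insert y0 (S j ∩ S k)) ⊆
          insert (y j) (insert y0 (S j)) ∩ insert (y k) (insert y0 (S k)) := by
        apply subset_inter
        · exact insert_subset_insert _ (insert_subset_insert _ inter_subset_left)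
        · rw [hjk]
          exact insert_subset_insert _ (insert_subset_insert _ inter_subset_right)
      have h4 := card_le_card hsub2
      rw [card_insert_of_notMem, card_insert_of_notMem] at h4
      · omega
      · intro h; exact hy0 (hSH j (mem_inter.mp h).1)
      · rw [mem_insert, not_or]
        refine ⟨hyy0 j, ?_⟩
        intro h
        exact hyH j (hSH j (mem_inter.mp h).1)
    apply hy0
    have : H = insert (y j) (insert y0 (S j)) := by
      apply eq_of_le_card_inter hB hH (hyB j)
      have hsub2 : S j ∪ S k ⊆ H ∩ insert (y j) (insert y0 (S j)) := by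
        apply subset_inter (union_subset (hSH j) (hSH k))
        apply union_subset
        · exact (subset_insert _ _).trans (subset_insert _ _)
        · rw [hb]
          exact (subset_insert _ _).trans (subset_insert _ _)
      refine le_trans ?_ (card_le_card hsub2)
      have hlt : S j ⊂ S j ∪ S k := by
        rw [ssubset_iff_subset_ne]
        refine ⟨subset_union_left, ?_⟩
        intro he
        have h5 : lx j.succ ∈ S k := memS k j.succ (Fin.succ_ne_zero j) (fun h => hne (Fin.succ_injective _ h))
        have h6 : lx j.succ ∈ S j := by rw [he]; exact mem_union_right _ h5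
        rw [hS] at h6
        simp only [mem_image, mem_erase] at h6
        obtain ⟨k', ⟨hk', -⟩, he'⟩ := h6
        exact hk' (lxinj he')
      have := card_lt_card hlt
      rw [hSc] at this
      omega
    rw [this]
    exact mem_insert_of_mem (mem_insert_self _ _)
  set L : Fin 12 → α := Fin.append lx (Fin.cons (α := fun _ => α) y0 y : Fin 6 → α) with hL
  have hLinj : Function.Injective L := by
    rw [hL, Fin.append_injective_iff]
    refine ⟨lxinj, ?_, ?_⟩
    · rw [Fin.cons_injective_iff]
      exact ⟨by rintro ⟨j, hj⟩; exact hyy0 j hj, hyinj⟩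
    · intro i j
      induction j using Fin.cases with
      | zero => rw [Fin.cons_zero]; intro h; exact hy0 (h ▸ lxH i)
      | succ j => rw [Fin.cons_succ]; intro h; exact hyH j (h ▸ lxH i)
  have hbij : Function.Bijective L := by
    rw [Fintype.bijective_iff_injective_and_card]
    exact ⟨hLinj, by rw [hα]; simp⟩
  refine ⟨Equiv.ofBijective L hbij, ?_, ?_⟩
  · intro i
    show L (Fin.castLE _ i) = x i
    have : (Fin.castLE (by norm_num) i : Fin 12) = Fin.castAdd 6 (Fin.castSucc i) := rfl
    rw [this, hL, Fin.append_left, hlx, Fin.snoc_castSucc]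
  · apply good_of (steiner_pull _ hB)
    · rw [mem_pull]
      have : (mset 12 63).map (Equiv.ofBijective L hbij).toEmbedding = H := by
        apply eq_of_subset_of_card_le
        · intro a ha
          rw [mem_map] at ha
          obtain ⟨i, hi, rfl⟩ := ha
          rw [mem_mset] at hi
          have h6 : ∃ k : Fin 6, i = Fin.castAdd 6 k := by
            revert i
            decide +kernel
          obtain ⟨k, rfl⟩ := h6
          show L (Fin.castAdd 6 k) ∈ H
          rw [hL, Fin.append_left]
          exact lxH k
        · rw [card_map, card_mset, hHc]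
          decide +kernel
      rw [this]; exact hH
    · intro j
      rw [mem_pull]
      have : (mset 12 (jmask j)).map (Equiv.ofBijective L hbij).toEmbedding = insert (y j) (insert y0 (S j)) := by
        apply eq_of_subset_of_card_le
        · intro a ha
          rw [mem_map] at ha
          obtain ⟨i, hi, rfl⟩ := ha
          rw [mem_mset] at hi
          rcases jmask_mem j i hi with ⟨k, h0, hk, rfl⟩ | rfl | rfl
          · show L (Fin.castAdd 6 k) ∈ _
            rw [hL, Fin.append_left]
            exact mem_insert_of_mem (mem_insert_of_mem (memS j k h0 hk))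
          · show L (Fin.natAdd 6 (0 : Fin 6)) ∈ _
            rw [hL, Fin.append_right, Fin.cons_zero]
            exact mem_insert_of_mem (mem_insert_self _ _)
          · show L (Fin.natAdd 6 j.succ) ∈ _
            rw [hL, Fin.append_right, Fin.cons_succ]
            exact mem_insert_self _ _
        · rw [card_map, card_mset, card_insert_of_notMem (hyn j), hFc]
          revert j
          decide +kernel
      rw [this]; exact hyB j

/-- every S(5,6,12) with five labelled points is the standard one -/
theorem exists_std (hα : Fintype.card α = 12) {B : Set (Finset α)} (hB : Cfsg.IsSteinerSystem 5 6 B)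
    (x : Fin 5 ↪ α) : ∃ e : Fin 12 ≃ α, (∀ i : Fin 5, e (Fin.castLE (by norm_num) i) = x i) ∧
      ∀ s, s.map e.toEmbedding ∈ B ↔ s ∈ stdF := by
  obtain ⟨e, he, hg⟩ := exists_labelling hα hB x
  have hP := steiner_pull e hB
  obtain ⟨σ, hσ, hs⟩ := classify hP hg
  refine ⟨σ.trans e, ?_, ?_⟩
  · intro i
    rw [Equiv.trans_apply, hσ _ (by show (i : ℕ) < 6; omega), he]
  · have hstd : ∀ s ∈ stdF, s.map (σ.trans e).toEmbedding ∈ B := by
      intro s hs'
      have := hs s hs'
      rw [mem_pull, Finset.map_map] at this
      exact this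
    have hBc : (bl B).card = 132 := by
      have := card_containing hB ∅ (by simp)
      simp only [card_empty, Nat.sub_zero, hα, empty_subset, filter_true] at this
      have h1 : Nat.choose 6 5 = 6 := by decide
      have h2 : Nat.choose 12 5 = 792 := by decide
      rw [h1, h2] at this
      omega
    have heq : stdF.image (fun s => s.map (σ.trans e).toEmbedding) = bl B := by
      apply eq_of_subset_of_card_le
      · intro b hb
        rw [mem_image] at hb
        obtain ⟨s, hs', rfl⟩ := hb
        exact (mem_bl _).mpr (hstd s hs')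
      · rw [card_image_of_injective _ (Finset.map_injective _), card_stdF, hBc]
    intro s
    constructor
    · intro h
      have h2 : s.map (σ.trans e).toEmbedding ∈ bl B := (mem_bl _).mpr h
      rw [← heq, mem_image] at h2
      obtain ⟨s', hs', he'⟩ := h2
      rw [← Finset.map_injective _ he']
      exact hs'
    · exact hstd s

end Cfsg.Agent.Lib.S5612
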