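import Mathlib
import Cfsg.Agent.Lib.S5612Main

/-!
helper8: automorphisms of S(5,6,12): sharply 5-transitive.
-/
set_option autoImplicit false

namespace Cfsg.Agent.Lib.S5612

open Finset Cfsg.Agent.Lib.MaskSet Cfsg.Agent.Lib.Steiner Cfsg.Agent.Lib.SteinerTransport

def stdB (m : ℕ) : Bool := stdL.any (Nat.beq m)

theorem stdB_of {m : ℕ} (hm : m < 4096) (h : mset 12 m ∈ stdF) : stdB m = true := by
  rw [mem_stdF] at h
  obtain ⟨m', hm', he⟩ := h
  have := mset_inj (n := 12) (stdL_lt m' hm') hm he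
  subst this
  unfold stdB
  rw [List.any_eq_true]
  exact ⟨m', hm', by rw [Nat.beq_eq]⟩

def tb12 (a b0 b1 b2 b3 b4 : ℕ) (i : ℕ) : ℕ := ([0, 1, 2, 3, 4, 5, a, b0, b1, b2, b3, b4] : List ℕ).getD i 0

theorem five_check : ∀ q : Fin 12, 5 ≤ q.val → stdB (31 ||| 1 <<< q.val) = true → q = 5 := by decide +kernel

def cnd (j a b : ℕ) : Bool := stdB ((62 ^^^ (1 <<< (j + 1))) ||| (1 <<< a ||| 1 <<< b))

def extras : List ℕ := [207, 343]

def rigidB : Bool :=
  (List.range 12).all fun a => Nat.ble a 5 || ((List.range 12).all fun b0 => !cnd 0 a b0 ||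
    ((List.range 12).all fun b1 => !cnd 1 a b1 || ((List.range 12).all fun b2 => !cnd 2 a b2 ||
    ((List.range 12).all fun b3 => !cnd 3 a b3 || ((List.range 12).all fun b4 => !cnd 4 a b4 ||
    !(extras.all fun m => stdB (imgN (tb12 a b0 b1 b2 b3 b4) 12 m)) ||
    (Nat.beq a 6 && Nat.beq b0 7 && Nat.beq b1 8 && Nat.beq b2 9 && Nat.beq b3 10 && Nat.beq b4 11))))))

theorem rigidB_true : rigidB = true := by decide +kernel

theorem rigid_check (a b0 b1 b2 b3 b4 : Fin 12) (ha : 6 ≤ a.val) (h0 : cnd 0 a b0 = true) (h1 : cnd 1 a b1 = true)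
    (h2 : cnd 2 a b2 = true) (h3 : cnd 3 a b3 = true) (h4 : cnd 4 a b4 = true)
    (he : (extras.all fun m => stdB (imgN (tb12 a b0 b1 b2 b3 b4) 12 m)) = true) :
    a = 6 ∧ b0 = 7 ∧ b1 = 8 ∧ b2 = 9 ∧ b3 = 10 ∧ b4 = 11 := by
  have h := rigidB_true
  unfold rigidB at h
  have h := List.all_eq_true.mp h a.val (by simp)
  have hble : Nat.ble a.val 5 = false := by
    rw [← Bool.not_eq_true, Nat.ble_eq]; omega
  rw [hble, Bool.false_or] at h
  have h := List.all_eq_true.mp h b0.val (by simp)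
  rw [h0, Bool.not_true, Bool.false_or] at h
  have h := List.all_eq_true.mp h b1.val (by simp)
  rw [h1, Bool.not_true, Bool.false_or] at h
  have h := List.all_eq_true.mp h b2.val (by simp)
  rw [h2, Bool.not_true, Bool.false_or] at h
  have h := List.all_eq_true.mp h b3.val (by simp)
  rw [h3, Bool.not_true, Bool.false_or] at h
  have h := List.all_eq_true.mp h b4.val (by simp)
  rw [h4, Bool.not_true, Bool.false_or, he, Bool.not_true, Bool.false_or] at h
  simp only [Bool.and_eq_true, Nat.beq_eq] at h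
  exact ⟨Fin.ext h.1.1.1.1.1, Fin.ext h.1.1.1.1.2, Fin.ext h.1.1.1.2, Fin.ext h.1.1.2, Fin.ext h.1.2, Fin.ext h.2⟩

theorem img63 (σ : ℕ → ℕ) : imgN σ 12 63 =
    1 <<< σ 0 ||| 1 <<< σ 1 ||| 1 <<< σ 2 ||| 1 <<< σ 3 ||| 1 <<< σ 4 ||| 1 <<< σ 5 := by
  simp [imgN, Nat.testBit]

theorem extras_mem : ∀ m ∈ extras, m ∈ stdL := by decide +kernel
theorem jmask_std : ∀ j : Fin 5, jmask j ∈ stdL := by decide +kernel
theorem h63 : 63 ∈ stdL := by decide +kernel

theorem rigid {g : Equiv.Perm (Fin 12)} (hg : ∀ s ∈ stdF, s.map g.toEmbedding ∈ stdF)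
    (hfix : ∀ i : Fin 12, i.val < 5 → g i = i) : g = 1 := by
  have himg : ∀ (σ : ℕ → ℕ), (∀ i : Fin 12, σ i = g i) → ∀ m ∈ stdL, stdB (imgN σ 12 m) = true := by
    intro σ hσ m hm
    apply stdB_of (imgN_lt (n := 12) g σ hσ m)
    rw [mset_imgN (n := 12) g σ hσ]
    have := hg (mset 12 m) (mem_stdF.mpr ⟨m, hm, rfl⟩)
    rwa [Finset.map_eq_image] at this
  have hinj := g.injective
  have h0 := hfix 0 (by decide)
  have h1 := hfix 1 (by decide)
  have h2 := hfix 2 (by decide)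
  have h3 := hfix 3 (by decide)
  have h4 := hfix 4 (by decide)
  have hge : ∀ i : Fin 12, 5 ≤ i.val → 5 ≤ (g i).val := by
    intro i hi
    by_contra hcon
    push Not at hcon
    have := hinj (hfix (g i) hcon)
    have h' := congrArg Fin.val this
    omega
  have gen : ∀ i : Fin 12, (tb12 (g 6) (g 7) (g 8) (g 9) (g 10) (g 11) i = g i ∨ i = 5) := by
    intro i
    fin_cases i
    · left; show (0 : ℕ) = _; rw [show (⟨0, by norm_num⟩ : Fin 12) = 0 from rfl, h0]; rfl
    · left; show (1 : ℕ) = _; rw [show (⟨1, by norm_num⟩ : Fin 12) = 1 from rfl, h1]; rfl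
    · left; show (2 : ℕ) = _; rw [show (⟨2, by norm_num⟩ : Fin 12) = 2 from rfl, h2]; rfl
    · left; show (3 : ℕ) = _; rw [show (⟨3, by norm_num⟩ : Fin 12) = 3 from rfl, h3]; rfl
    · left; show (4 : ℕ) = _; rw [show (⟨4, by norm_num⟩ : Fin 12) = 4 from rfl, h4]; rfl
    · right; rfl
    all_goals left; rfl
  have h5 : g 5 = 5 := by
    apply five_check _ (hge 5 (by decide))
    have := himg (fun i => g (Fin.ofNat 12 i)) (by intro i; simp) 63 h63
    have e : imgN (fun i => g (Fin.ofNat 12 i)) 12 63 = 31 ||| 1 <<< (g 5).val := by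
      rw [img63]
      have t0 : (g (Fin.ofNat 12 0)).val = 0 := by rw [show (Fin.ofNat 12 0) = (0 : Fin 12) from rfl, h0]; rfl
      have t1 : (g (Fin.ofNat 12 1)).val = 1 := by rw [show (Fin.ofNat 12 1) = (1 : Fin 12) from rfl, h1]; rfl
      have t2 : (g (Fin.ofNat 12 2)).val = 2 := by rw [show (Fin.ofNat 12 2) = (2 : Fin 12) from rfl, h2]; rfl
      have t3 : (g (Fin.ofNat 12 3)).val = 3 := by rw [show (Fin.ofNat 12 3) = (3 : Fin 12) from rfl, h3]; rfl
      have t4 : (g (Fin.ofNat 12 4)).val = 4 := by rw [show (Fin.ofNat 12 4) = (4 : Fin 12) from rfl, h4]; rfl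
      have t5 : g (Fin.ofNat 12 5) = g 5 := rfl
      show 1 <<< (g (Fin.ofNat 12 0)).val ||| 1 <<< (g (Fin.ofNat 12 1)).val ||| 1 <<< (g (Fin.ofNat 12 2)).val |||
        1 <<< (g (Fin.ofNat 12 3)).val ||| 1 <<< (g (Fin.ofNat 12 4)).val ||| 1 <<< (g (Fin.ofNat 12 5)).val = _
      rw [t0, t1, t2, t3, t4, t5]
      rfl
    rw [e] at this
    exact this
  have hσ : ∀ i : Fin 12, tb12 (g 6) (g 7) (g 8) (g 9) (g 10) (g 11) i = g i := by
    intro i
    rcases gen i with h | h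
    · exact h
    · subst h; rw [h5]; rfl
  have hall := himg _ hσ
  have hge6 : 6 ≤ (g 6).val := by
    have := hge 6 (by decide)
    have hne : g 6 ≠ 5 := by
      intro h
      rw [← h5] at h
      exact absurd (hinj h) (by decide)
    have : (g 6).val ≠ 5 := fun h => hne (Fin.ext h)
    omega
  have hc : ∀ j : Fin 5, cnd j (g 6) (g (Fin.natAdd 7 j)) = true := by
    intro j
    have := hall (jmask j) (jmask_std j)
    have e : imgN (tb12 (g 6) (g 7) (g 8) (g 9) (g 10) (g 11)) 12 (jmask j) =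
        (62 ^^^ (1 <<< (j.val + 1))) ||| (1 <<< (g 6).val ||| 1 <<< (g (Fin.natAdd 7 j)).val) := by
      fin_cases j <;> simp [imgN, jmask, tb12, Nat.testBit, Nat.lor_assoc]
    rw [e] at this
    exact this
  have hex : (extras.all fun m => stdB (imgN (tb12 (g 6) (g 7) (g 8) (g 9) (g 10) (g 11)) 12 m)) = true := by
    rw [List.all_eq_true]
    intro m hm
    exact hall m (extras_mem m hm)
  obtain ⟨e6, e7, e8, e9, e10, e11⟩ := rigid_check (g 6) (g 7) (g 8) (g 9) (g 10) (g 11) hge6 (hc 0) (hc 1)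
    (hc 2) (hc 3) (hc 4) hex
  apply Equiv.ext
  intro i
  rw [Equiv.Perm.one_apply]
  fin_cases i <;> assumption

end Cfsg.Agent.Lib.S5612
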