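import Cfsg.Agent.Lib.SimpleCrit

/-!
From Mathlib's `IsMultiplyPretransitive` to the predicates of `SimpleCrit`; sharply multiply transitive
groups: orders, sharply 4-transitive on 11 and sharply 5-transitive on 12 points are simple.
-/

set_option autoImplicit false
set_option linter.constructorNameAsVariable false
set_option linter.unusedVariables false

namespace Cfsg.Agent.Lib.SharpMult

open MulAction Cfsg.Agent.Lib.SimpleCrit

variable {G α : Type*} [Group G] [MulAction G α]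

theorem emb_inj4 {a b c d : α} (h1 : a ≠ b) (h2 : a ≠ c) (h3 : a ≠ d) (h4 : b ≠ c) (h5 : b ≠ d)
    (h6 : c ≠ d) : Function.Injective ![a, b, c, d] := by
  intro i j hij
  fin_cases i <;> fin_cases j <;> simp_all

theorem emb_inj5 {a b c d e : α} (h1 : a ≠ b) (h2 : a ≠ c) (h3 : a ≠ d) (h4 : b ≠ c) (h5 : b ≠ d)
    (h6 : c ≠ d) (h7 : a ≠ e) (h8 : b ≠ e) (h9 : c ≠ e) (h10 : d ≠ e) :
    Function.Injective ![a, b, c, d, e] := by
  intro i j hij
  fin_cases i <;> fin_cases j <;> simp_all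

theorem four_of_pretransitive (h : IsMultiplyPretransitive G α 4) : Four G (Set.univ : Set α) := by
  intro a _ b _ c _ d _ a' _ b' _ c' _ d' _ h1 h2 h3 h4 h5 h6 h1' h2' h3' h4' h5' h6'
  obtain ⟨g, hg⟩ := (isMultiplyPretransitive_iff.mp h) ⟨_, emb_inj4 h1 h2 h3 h4 h5 h6⟩
    ⟨_, emb_inj4 h1' h2' h3' h4' h5' h6'⟩
  exact ⟨g, DFunLike.congr_fun hg 0, DFunLike.congr_fun hg 1, DFunLike.congr_fun hg 2,
    DFunLike.congr_fun hg 3⟩

theorem exists_five_of_pretransitive (h : IsMultiplyPretransitive G α 5)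
    {a b c d e a' b' c' d' e' : α} (h1 : a ≠ b) (h2 : a ≠ c) (h3 : a ≠ d) (h4 : b ≠ c) (h5 : b ≠ d)
    (h6 : c ≠ d) (h7 : a ≠ e) (h8 : b ≠ e) (h9 : c ≠ e) (h10 : d ≠ e)
    (h1' : a' ≠ b') (h2' : a' ≠ c') (h3' : a' ≠ d') (h4' : b' ≠ c') (h5' : b' ≠ d')
    (h6' : c' ≠ d') (h7' : a' ≠ e') (h8' : b' ≠ e') (h9' : c' ≠ e') (h10' : d' ≠ e') :
    ∃ g : G, g • a = a' ∧ g • b = b' ∧ g • c = c' ∧ g • d = d' ∧ g • e = e' := by
  obtain ⟨g, hg⟩ := (isMultiplyPretransitive_iff.mp h) ⟨_, emb_inj5 h1 h2 h3 h4 h5 h6 h7 h8 h9 h10⟩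
    ⟨_, emb_inj5 h1' h2' h3' h4' h5' h6' h7' h8' h9' h10'⟩
  exact ⟨g, DFunLike.congr_fun hg 0, DFunLike.congr_fun hg 1, DFunLike.congr_fun hg 2,
    DFunLike.congr_fun hg 3, DFunLike.congr_fun hg 4⟩

/-- order of a sharply `k`-transitive group -/
theorem card_of_sharp [Finite α] {k : ℕ} (h : IsMultiplyPretransitive G α k)
    (hk : k ≤ Nat.card α) (hsharp : ∀ x : Fin k ↪ α, stabilizer G x = ⊥) :
    Nat.card G = (Nat.card α).descFactorial k := by
  have := h
  have : Fintype α := Fintype.ofFinite α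
  rw [Nat.card_eq_fintype_card (α := α)] at hk ⊢
  obtain ⟨x⟩ : Nonempty (Fin k ↪ α) :=
    Function.Embedding.nonempty_of_card_le (by rw [Fintype.card_fin]; exact hk)
  have h1 := Nat.card_congr (orbitProdStabilizerEquivGroup G x)
  rw [Nat.card_prod, hsharp x, Subgroup.card_bot, mul_one, orbit_eq_univ] at h1
  rw [← h1, Nat.card_congr (Equiv.Set.univ _), Nat.card_eq_fintype_card, Fintype.card_embedding_eq,
    Fintype.card_fin]

theorem faith_perm (G : Subgroup (Equiv.Perm α)) : Faith G (Set.univ : Set α) where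
  inv := fun _ _ _ => Set.mem_univ _
  faithful := fun g h => Subtype.ext (Equiv.ext fun x => h x (Set.mem_univ x))

theorem sharply_four_eleven (G : Subgroup (Equiv.Perm α)) [Finite α]
    (hα : Nat.card α = 11) (h : IsMultiplyPretransitive G α 4)
    (hsharp : ∀ x : Fin 4 ↪ α, stabilizer G x = ⊥) : IsSimpleGroup G ∧ Nat.card G = 7920 := by
  have hc : Nat.card G = 7920 := by
    rw [card_of_sharp h (by omega) hsharp, hα]; rfl
  refine ⟨simple_of_four_eleven (four_of_pretransitive h) (faith_perm G) ?_ hc, hc⟩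
  rw [Set.ncard_univ]; exact hα

theorem sharply_five_twelve (G : Subgroup (Equiv.Perm α)) [Finite α]
    (hα : Nat.card α = 12) (h : IsMultiplyPretransitive G α 5)
    (hsharp : ∀ x : Fin 5 ↪ α, stabilizer G x = ⊥) : IsSimpleGroup G ∧ Nat.card G = 95040 := by
  have hc : Nat.card G = 95040 := by
    rw [card_of_sharp h (by omega) hsharp, hα]; rfl
  have h4 : IsMultiplyPretransitive G α 4 := by
    have := h
    apply isMultiplyPretransitive_of_le (n := 5) (by norm_num)
    rw [hα]; norm_num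
  have hf := faith_perm G
  have hu : (Set.univ : Set α).ncard = 12 := by rw [Set.ncard_univ]; exact hα
  have h4' := four_of_pretransitive h4
  have h3 := h4'.three (by omega)
  obtain ⟨a⟩ : Nonempty α := (Nat.card_pos_iff.mp (by omega)).1
  have hstab : IsSimpleGroup (stabilizer G a) := by
    have h4a : Four (stabilizer G a) (Set.univ \ {a} : Set α) := by
      rintro b ⟨_, hb⟩ c ⟨_, hc⟩ d ⟨_, hd⟩ e ⟨_, he⟩ b' ⟨_, hb'⟩ c' ⟨_, hc'⟩ d' ⟨_, hd'⟩ e' ⟨_, he'⟩
        h1 h2 h3 h4 h5 h6 h1' h2' h3' h4' h5' h6'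
      obtain ⟨g, g0, g1, g2, g3, g4⟩ := exists_five_of_pretransitive h
        (Ne.symm hb) (Ne.symm hc) (Ne.symm hd) h1 h2 h4 (Ne.symm he) h3 h5 h6
        (Ne.symm hb') (Ne.symm hc') (Ne.symm hd') h1' h2' h4' (Ne.symm he') h3' h5' h6'
      exact ⟨⟨g, g0⟩, g1, g2, g3, g4⟩
    have hfa : Faith (stabilizer G a) (Set.univ \ {a} : Set α) := hf.stabilizer
    have hn : (Set.univ \ {a} : Set α).ncard = 11 := by
      rw [Set.ncard_sdiff_singleton_of_mem (Set.mem_univ a), hu]
    apply simple_of_four_eleven h4a hfa hn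
    have h7 := ncard_dvd_of_transitive hf (⊤ : Subgroup G) (fun u hu v hv => by
      by_cases huv : u = v
      · exact ⟨1, Subgroup.mem_top _, by rw [one_smul]; exact huv⟩
      · obtain ⟨g, g1, _⟩ := h3.two (by omega) u hu v hv v hv u hu huv (Ne.symm huv)
        exact ⟨g, Subgroup.mem_top _, g1⟩) (Set.mem_univ a)
    rw [Subgroup.card_top, hc, hu] at h7
    have e2 : ↥(stabilizer (⊤ : Subgroup G) a) ≃ ↥(stabilizer G a) :=
      { toFun := fun g => ⟨g.1.1, g.2⟩
        invFun := fun g => ⟨⟨g.1, Subgroup.mem_top _⟩, g.2⟩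
        left_inv := fun _ => rfl
        right_inv := fun _ => rfl }
    rw [Nat.card_congr e2] at h7
    omega
  refine ⟨simple_of_stabilizer_simple h3 hf (by omega) ?_ (Set.mem_univ a) hstab, hc⟩
  intro k hk
  rw [hu] at hk
  have h1 : k < 4 := by
    by_contra h
    have := Nat.pow_le_pow_right (show 0 < 2 by norm_num) (Nat.le_of_not_lt h)
    omega
  interval_cases k <;> omega

end Cfsg.Agent.Lib.SharpMult
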