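import Mathlib
import Cfsg.Agent.Lib.S5612Rigid
import Cfsg.Agent.Lib.SharpMult
import Cfsg.Prelude.Def_Sporadic

/-!
helper8: S(5,6,12): unique, automorphism group sharply 5-transitive, simple of order 95040.
-/
set_option autoImplicit false

namespace Cfsg.Agent.Lib.S5612

open Finset Cfsg.Agent.Lib.MaskSet Cfsg.Agent.Lib.Steiner Cfsg.Agent.Lib.SteinerTransport MulAction

variable {α β : Type*} [Fintype α] [DecidableEq α] [Fintype β] [DecidableEq β]

/-- any two labelled S(5,6,12) are isomorphic -/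
theorem exists_iso (hα : Fintype.card α = 12) (hβ : Fintype.card β = 12) {B : Set (Finset α)}
    {B' : Set (Finset β)} (hB : Cfsg.IsSteinerSystem 5 6 B) (hB' : Cfsg.IsSteinerSystem 5 6 B')
    (x : Fin 5 ↪ α) (y : Fin 5 ↪ β) :
    ∃ e : α ≃ β, (∀ i, e (x i) = y i) ∧ ∀ s, s.map e.toEmbedding ∈ B' ↔ s ∈ B := by
  obtain ⟨e, he, hs⟩ := exists_std hα hB x
  obtain ⟨e', he', hs'⟩ := exists_std hβ hB' y
  refine ⟨e.symm.trans e', ?_, ?_⟩
  · intro i
    rw [Equiv.trans_apply, ← he i, Equiv.symm_apply_apply, he' i]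
  · intro s
    have e1 : s.map (e.symm.trans e').toEmbedding = (s.map e.symm.toEmbedding).map e'.toEmbedding := by
      rw [Finset.map_map]; rfl
    rw [e1, hs', ← hs, map_map_symm]

theorem iso (hα : Fintype.card α = 12) (hβ : Fintype.card β = 12) {B : Set (Finset α)}
    {B' : Set (Finset β)} (hB : Cfsg.IsSteinerSystem 5 6 B) (hB' : Cfsg.IsSteinerSystem 5 6 B') :
    Cfsg.SetSystemIso B B' := by
  obtain ⟨x⟩ : Nonempty (Fin 5 ↪ α) := Function.Embedding.nonempty_of_card_le (by simp [hα])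
  obtain ⟨y⟩ : Nonempty (Fin 5 ↪ β) := Function.Embedding.nonempty_of_card_le (by simp [hβ])
  obtain ⟨e, -, he⟩ := exists_iso hα hβ hB hB' x y
  exact iso_of e he

theorem aut_pretransitive (hα : Fintype.card α = 12) {B : Set (Finset α)}
    (hB : Cfsg.IsSteinerSystem 5 6 B) : IsMultiplyPretransitive (Cfsg.setSystemAut B) α 5 := by
  rw [isMultiplyPretransitive_iff]
  intro x y
  obtain ⟨e, he, hs⟩ := exists_iso hα hα hB hB x y
  refine ⟨⟨e, mem_aut_iff.mpr hs⟩, ?_⟩
  ext i
  exact he i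

theorem aut_sharp (hα : Fintype.card α = 12) {B : Set (Finset α)}
    (hB : Cfsg.IsSteinerSystem 5 6 B) (x : Fin 5 ↪ α) : stabilizer (Cfsg.setSystemAut B) x = ⊥ := by
  rw [eq_bot_iff]
  rintro ⟨g, hg⟩ hgx
  rw [Subgroup.mem_bot]
  apply Subtype.ext
  show g = 1
  rw [mem_stabilizer_iff] at hgx
  have hgx' : ∀ i, g (x i) = x i := fun i => DFunLike.congr_fun hgx i
  rw [mem_aut_iff] at hg
  obtain ⟨e, he, hs⟩ := exists_std hα hB x
  set g' : Equiv.Perm (Fin 12) := (e.trans g).trans e.symm with hg'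
  have h1 : g' = 1 := by
    apply rigid
    · intro s hs'
      rw [← hs] at hs' ⊢
      have e1 : (s.map g'.toEmbedding).map e.toEmbedding = (s.map e.toEmbedding).map g.toEmbedding := by
        rw [Finset.map_map, Finset.map_map]
        congr 1
        ext i
        simp [hg']
      rw [e1, hg]
      exact hs'
    · intro i hi
      have h2 := he ⟨i, hi⟩
      have h3 : (Fin.castLE (by norm_num) (⟨i, hi⟩ : Fin 5) : Fin 12) = i := rfl
      rw [h3] at h2
      rw [hg', Equiv.trans_apply, Equiv.trans_apply, h2, hgx', ← h2, Equiv.symm_apply_apply]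
  ext a
  have h2 := DFunLike.congr_fun h1 (e.symm a)
  rw [hg', Equiv.trans_apply, Equiv.trans_apply, Equiv.apply_symm_apply, Equiv.Perm.one_apply] at h2
  exact e.symm.injective h2

theorem aut_m12 (hα : Fintype.card α = 12) {B : Set (Finset α)}
    (hB : Cfsg.IsSteinerSystem 5 6 B) : Cfsg.IsM12 (Cfsg.setSystemAut B) :=
  SharpMult.sharply_five_twelve _ (by rw [Nat.card_eq_fintype_card, hα]) (aut_pretransitive hα hB) (aut_sharp hα hB)

end Cfsg.Agent.Lib.S5612
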