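import Mathlib
import Cfsg.Agent.Lib.S5612Aut

/-!
helper8: S(4,5,11) extends to S(5,6,12): uniqueness, automorphism group.
-/
set_option autoImplicit false

namespace Cfsg.Agent.Lib.S4511

open Finset Cfsg.Agent.Lib.Steiner Cfsg.Agent.Lib.SteinerTransport MulAction

variable {α β : Type*} [Fintype α] [DecidableEq α] [Fintype β] [DecidableEq β]

theorem numbers (hα : Fintype.card α = 11) {B : Set (Finset α)} (hB : Cfsg.IsSteinerSystem 4 5 B)
    (F : Finset α) (hF : F.card = 5) : nn B F 0 + nn B F 5 = 1 := by
  have h0 := sum_choose hB F 0 (by norm_num) 66 (by rw [hα]; decide) (by decide)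
  have h1 := sum_choose hB F 1 (by norm_num) 30 (by rw [hα]; decide) (by decide)
  have h2 := sum_choose hB F 2 (by norm_num) 12 (by rw [hα]; decide) (by decide)
  have h3 := sum_choose hB F 3 (by norm_num) 4 (by rw [hα]; decide) (by decide)
  have h4 := sum_choose hB F 4 (by norm_num) 1 (by rw [hα]; decide) (by decide)
  rw [hF] at h0 h1 h2 h3 h4
  simp only [sum_range_succ, sum_range_zero, Nat.choose] at h0 h1 h2 h3 h4
  omega

/-- the one point extension -/
def ext (B : Set (Finset α)) : Set (Finset (Option α)) :=
  {s | (∃ b ∈ B, s = insert none (b.map Function.Embedding.some)) ∨ ∃ b ∈ B, s = bᶜ.map Function.Embedding.some}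

theorem none_notMem (s : Finset α) : (none : Option α) ∉ s.map Function.Embedding.some := by simp

theorem insert_mem_ext {B : Set (Finset α)} {b : Finset α} :
    insert none (b.map Function.Embedding.some) ∈ ext B ↔ b ∈ B := by
  constructor
  · rintro (⟨c, hc, h⟩ | ⟨c, hc, h⟩)
    · have h1 : b.map Function.Embedding.some = c.map Function.Embedding.some := by
        rw [← erase_insert (none_notMem b), h, erase_insert (none_notMem c)]
      rw [Finset.map_injective _ h1]
      exact hc
    · exfalso
      have : (none : Option α) ∈ cᶜ.map Function.Embedding.some := by rw [← h]; exact mem_insert_self _ _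
      exact none_notMem _ this
  · intro h
    exact Or.inl ⟨b, h, rfl⟩

theorem map_mem_ext {B : Set (Finset α)} {b : Finset α} :
    b.map Function.Embedding.some ∈ ext B ↔ bᶜ ∈ B := by
  constructor
  · rintro (⟨c, hc, h⟩ | ⟨c, hc, h⟩)
    · exfalso
      have : (none : Option α) ∈ b.map Function.Embedding.some := by rw [h]; exact mem_insert_self _ _
      exact none_notMem _ this
    · rw [Finset.map_injective _ h, compl_compl]
      exact hc
  · intro h
    exact Or.inr ⟨bᶜ, h, by rw [compl_compl]⟩

/-- every finset of `Option α` is one of two kinds -/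
theorem cases_option (F : Finset (Option α)) :
    (none ∈ F ∧ ∃ F' : Finset α, F = insert none (F'.map Function.Embedding.some)) ∨
    (none ∉ F ∧ ∃ F' : Finset α, F = F'.map Function.Embedding.some) := by
  by_cases h : none ∈ F
  · left
    refine ⟨h, F.eraseNone, ?_⟩
    ext x
    cases x with
    | none => simp [h]
    | some a => simp
  · right
    refine ⟨h, F.eraseNone, ?_⟩
    ext x
    cases x with
    | none => simp [h]
    | some a => simp

theorem steiner_ext (hα : Fintype.card α = 11) {B : Set (Finset α)} (hB : Cfsg.IsSteinerSystem 4 5 B) :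
    Cfsg.IsSteinerSystem 5 6 (ext B) := by
  constructor
  · rintro s (⟨b, hb, rfl⟩ | ⟨b, hb, rfl⟩)
    · rw [card_insert_of_notMem (none_notMem b), card_map, hB.1 b hb]
    · rw [card_map, card_compl, hα, hB.1 b hb]
  · intro F hF
    rcases cases_option F with ⟨hn, F', rfl⟩ | ⟨hn, F', rfl⟩
    · rw [card_insert_of_notMem (none_notMem F'), card_map] at hF
      obtain ⟨b, ⟨hb, hsub⟩, hu⟩ := hB.2 F' (by omega)
      refine ⟨insert none (b.map Function.Embedding.some), ⟨insert_mem_ext.mpr hb, ?_⟩, ?_⟩
      · exact insert_subset_insert _ (Finset.map_subset_map.mpr hsub)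
      · rintro c ⟨hc, hsubc⟩
        rcases hc with ⟨d, hd, rfl⟩ | ⟨d, hd, rfl⟩
        · have h1 : F' ⊆ d := by
            intro a ha
            have h2 := hsubc (mem_insert_of_mem (mem_map_of_mem Function.Embedding.some ha))
            simpa using h2
          rw [hu d ⟨hd, h1⟩]
        · exact absurd (hsubc (mem_insert_self _ _)) (none_notMem _)
    · rw [card_map] at hF
      have hnum := numbers hα hB F' hF
      by_cases hFB : F' ∈ B
      · have h5 : nn B F' 5 = 1 := nn_self hB (by norm_num) hFB
        have h0 : nn B F' 0 = 0 := by omega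
        refine ⟨insert none (F'.map Function.Embedding.some), ⟨insert_mem_ext.mpr hFB, subset_insert _ _⟩, ?_⟩
        rintro c ⟨hc, hsubc⟩
        rcases hc with ⟨d, hd, rfl⟩ | ⟨d, hd, rfl⟩
        · have h1 : F' ⊆ d := by
            intro a ha
            have h2 := hsubc (mem_map_of_mem Function.Embedding.some ha)
            simpa using h2
          have h2 : F' = d := eq_of_subset_of_card_le h1 (by rw [hF, hB.1 d hd])
          rw [h2]
        · exfalso
          have h1 : F' ⊆ dᶜ := Finset.map_subset_map.mp hsubc
          apply ne_of_nn_zero h0 hd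
          rw [card_eq_zero, ← disjoint_iff_inter_eq_empty]
          rw [subset_compl_comm] at h1
          exact (subset_compl_iff_disjoint_right.mp h1)
      · have h5 : nn B F' 5 = 0 := by
          apply nn_zero_of
          intro b hb h
          apply hFB
          have h1 : b ∩ F' = b := eq_of_subset_of_card_le inter_subset_left (by rw [h, hB.1 b hb])
          have h2 : b ∩ F' = F' := eq_of_subset_of_card_le inter_subset_right (by rw [h, hF])
          rw [← h2, h1]
          exact hb
        have h0 : nn B F' 0 = 1 := by omega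
        unfold nn at h0
        rw [card_eq_one] at h0
        obtain ⟨b, hb⟩ := h0
        have hb' : b ∈ (bl B).filter fun b => (b ∩ F').card = 0 := by rw [hb]; simp
        rw [mem_filter, mem_bl, card_eq_zero, ← disjoint_iff_inter_eq_empty] at hb'
        refine ⟨bᶜ.map Function.Embedding.some, ⟨Or.inr ⟨b, hb'.1, rfl⟩, ?_⟩, ?_⟩
        · apply Finset.map_subset_map.mpr
          rw [subset_compl_comm]
          exact subset_compl_iff_disjoint_right.mpr hb'.2
        · rintro c ⟨hc, hsubc⟩
          rcases hc with ⟨d, hd, rfl⟩ | ⟨d, hd, rfl⟩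
          · exfalso
            have h1 : F' ⊆ d := by
              intro a ha
              have h2 := hsubc (mem_map_of_mem Function.Embedding.some ha)
              simpa using h2
            have h2 : F' = d := eq_of_subset_of_card_le h1 (by rw [hF, hB.1 d hd])
            rw [h2] at hFB
            exact hFB hd
          · have h1 : F' ⊆ dᶜ := Finset.map_subset_map.mp hsubc
            have h2 : d ∈ (bl B).filter fun b => (b ∩ F').card = 0 := by
              rw [mem_filter, mem_bl, card_eq_zero, ← disjoint_iff_inter_eq_empty]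
              rw [subset_compl_comm] at h1
              exact ⟨hd, subset_compl_iff_disjoint_right.mp h1⟩
            rw [hb, mem_singleton] at h2
            rw [h2]

/-- cons with `none` -/
def consNone {n : ℕ} (x : Fin n ↪ α) : Fin (n + 1) ↪ Option α :=
  ⟨Fin.cons (α := fun _ => Option α) none (fun i => some (x i)), by
    rw [Fin.cons_injective_iff]
    refine ⟨by rintro ⟨i, hi⟩; simp at hi, ?_⟩
    intro i j h
    exact x.injective (Option.some_injective _ h)⟩

theorem consNone_zero {n : ℕ} (x : Fin n ↪ α) : consNone x 0 = none := rfl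

theorem consNone_succ {n : ℕ} (x : Fin n ↪ α) (i : Fin n) : consNone x i.succ = some (x i) := rfl

theorem removeNone_spec {e : Option α ≃ Option β} (h : e none = none) (a : α) :
    some (e.removeNone a) = e (some a) := by
  have hne : e (some a) ≠ none := by
    rw [← h]
    intro h'
    exact absurd (e.injective h') (by simp)
  obtain ⟨b, hb⟩ := Option.ne_none_iff_exists'.mp hne
  rw [hb]
  exact Equiv.removeNone_some e ⟨b, hb⟩ ▸ hb

theorem exists_iso (hα : Fintype.card α = 11) (hβ : Fintype.card β = 11) {B : Set (Finset α)}
    {B' : Set (Finset β)} (hB : Cfsg.IsSteinerSystem 4 5 B) (hB' : Cfsg.IsSteinerSystem 4 5 B')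
    (x : Fin 4 ↪ α) (y : Fin 4 ↪ β) :
    ∃ e : α ≃ β, (∀ i, e (x i) = y i) ∧ ∀ s, s.map e.toEmbedding ∈ B' ↔ s ∈ B := by
  obtain ⟨e, he, hs⟩ := S5612.exists_iso (by rw [Fintype.card_option, hα]) (by rw [Fintype.card_option, hβ])
    (steiner_ext hα hB) (steiner_ext hβ hB') (consNone x) (consNone y)
  have h0 : e none = none := he 0
  have hr := removeNone_spec h0
  refine ⟨e.removeNone, ?_, ?_⟩
  · intro i
    apply Option.some_injective
    rw [hr]
    exact he i.succ
  · intro s
    rw [← insert_mem_ext, ← insert_mem_ext (B := B), ← hs]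
    have e1 : (insert none (s.map Function.Embedding.some)).map e.toEmbedding =
        insert none ((s.map e.removeNone.toEmbedding).map Function.Embedding.some) := by
      rw [Finset.map_insert, Finset.map_map, Finset.map_map]
      congr 1
      · congr 1
        ext a
        show _ ∈ e (some a) ↔ _ ∈ some (e.removeNone a)
        rw [hr]
    rw [e1]

theorem iso (hα : Fintype.card α = 11) (hβ : Fintype.card β = 11) {B : Set (Finset α)}
    {B' : Set (Finset β)} (hB : Cfsg.IsSteinerSystem 4 5 B) (hB' : Cfsg.IsSteinerSystem 4 5 B') :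
    Cfsg.SetSystemIso B B' := by
  obtain ⟨x⟩ : Nonempty (Fin 4 ↪ α) := Function.Embedding.nonempty_of_card_le (by simp [hα])
  obtain ⟨y⟩ : Nonempty (Fin 4 ↪ β) := Function.Embedding.nonempty_of_card_le (by simp [hβ])
  obtain ⟨e, -, he⟩ := exists_iso hα hβ hB hB' x y
  exact iso_of e he

theorem aut_pretransitive (hα : Fintype.card α = 11) {B : Set (Finset α)}
    (hB : Cfsg.IsSteinerSystem 4 5 B) : IsMultiplyPretransitive (Cfsg.setSystemAut B) α 4 := by
  rw [isMultiplyPretransitive_iff]
  intro x y
  obtain ⟨e, he, hs⟩ := exists_iso hα hα hB hB x y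
  refine ⟨⟨e, mem_aut_iff.mpr hs⟩, ?_⟩
  ext i
  exact he i

theorem aut_sharp (hα : Fintype.card α = 11) {B : Set (Finset α)}
    (hB : Cfsg.IsSteinerSystem 4 5 B) (x : Fin 4 ↪ α) : stabilizer (Cfsg.setSystemAut B) x = ⊥ := by
  rw [eq_bot_iff]
  rintro ⟨g, hg⟩ hgx
  rw [Subgroup.mem_bot]
  apply Subtype.ext
  show g = 1
  rw [mem_stabilizer_iff] at hgx
  have hgx' : ∀ i, g (x i) = x i := fun i => DFunLike.congr_fun hgx i
  rw [mem_aut_iff] at hg
  have hcompl : ∀ s : Finset α, (s.map g.toEmbedding)ᶜ = sᶜ.map g.toEmbedding := by
    intro s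
    ext a
    simp only [mem_compl, mem_map_equiv]
  have hmem : g.optionCongr ∈ Cfsg.setSystemAut (ext B) := by
    rw [mem_aut_iff]
    intro s
    have e0 : ∀ t : Finset α, (t.map Function.Embedding.some).map g.optionCongr.toEmbedding =
        (t.map g.toEmbedding).map Function.Embedding.some := by
      intro t
      rw [Finset.map_map, Finset.map_map]
      rfl
    rcases cases_option s with ⟨-, s', rfl⟩ | ⟨-, s', rfl⟩
    · have e1 : (insert none (s'.map Function.Embedding.some)).map g.optionCongr.toEmbedding =
          insert none ((s'.map g.toEmbedding).map Function.Embedding.some) := by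
        rw [Finset.map_insert, e0]
        rfl
      rw [e1, insert_mem_ext, insert_mem_ext, hg]
    · rw [e0, map_mem_ext, map_mem_ext, hcompl, hg]
  have hst : (⟨g.optionCongr, hmem⟩ : Cfsg.setSystemAut (ext B)) ∈
      stabilizer (Cfsg.setSystemAut (ext B)) (consNone x) := by
    rw [mem_stabilizer_iff]
    apply DFunLike.ext
    intro i
    induction i using Fin.cases with
    | zero => rfl
    | succ i =>
      show g.optionCongr (some (x i)) = some (x i)
      rw [Equiv.optionCongr_apply, Option.map_some, hgx']
  rw [S5612.aut_sharp (by rw [Fintype.card_option, hα]) (steiner_ext hα hB), Subgroup.mem_bot] at hst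
  have h1 : g.optionCongr = 1 := congrArg Subtype.val hst
  ext a
  have h2 := DFunLike.congr_fun h1 (some a)
  rw [Equiv.optionCongr_apply, Option.map_some, Equiv.Perm.one_apply] at h2
  exact Option.some_injective _ h2

end Cfsg.Agent.Lib.S4511
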