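import Mathlib
import Cfsg.Prelude.Def_Sporadic_a
import Cfsg.Agent.Lib.MaskSet

/-!
helper8: the standard S(3,6,22) on `Fin 22` and the kernel check that it is determined by 22 blocks.
-/
set_option autoImplicit false
set_option maxRecDepth 10000

namespace Cfsg.Agent.Lib.S3622

open Finset Cfsg.Agent.Lib.MaskSet

theorem tb_toNat (x i : ℕ) : (x.testBit i).toNat = Nat.mod (Nat.shiftRight x i) 2 := by
  rw [Nat.toNat_testBit, ← Nat.shiftRight_eq_div_pow]; rfl

/-- fast population count of 22-bit numbers -/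
def pcg (x : ℕ) : ℕ := Nat.add (Nat.add (Nat.add (Nat.add (Nat.add (Nat.add (Nat.add (Nat.add (Nat.add (Nat.add (Nat.add (Nat.add (Nat.add (Nat.add (Nat.add (Nat.add (Nat.add (Nat.add (Nat.add (Nat.add (Nat.add (Nat.add 0 (Nat.mod (Nat.shiftRight x 0) 2)) (Nat.mod (Nat.shiftRight x 1) 2)) (Nat.mod (Nat.shiftRight x 2) 2)) (Nat.mod (Nat.shiftRight x 3) 2)) (Nat.mod (Nat.shiftRight x 4) 2)) (Nat.mod (Nat.shiftRight x 5) 2)) (Nat.mod (Nat.shiftRight x 6) 2)) (Nat.mod (Nat.shiftRight x 7) 2)) (Nat.mod (Nat.shiftRight x 8) 2)) (Nat.mod (Nat.shiftRight x 9) 2)) (Nat.mod (Nat.shiftRight x 10) 2)) (Nat.mod (Nat.shiftRight x 11) 2)) (Nat.mod (Nat.shiftRight x 12) 2)) (Nat.mod (Nat.shiftRight x 13) 2)) (Nat.mod (Nat.shiftRight x 14) 2)) (Nat.mod (Nat.shiftRight x 15) 2)) (Nat.mod (Nat.shiftRight x 16) 2)) (Nat.mod (Nat.shiftRight x 17) 2)) (Nat.mod (Nat.shiftRight x 18) 2)) (Nat.mod (Nat.shiftRight x 19) 2)) (Nat.mod (Nat.shiftRight x 20) 2)) (Nat.mod (Nat.shiftRight x 21)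 2)

theorem pcg_eq (x : ℕ) : pcg x = pc 22 x := by
  simp only [pc, tb_toNat]
  rfl

/-- the 22 known blocks -/
def knownL : List ℕ := [63, 963, 7237, 57417, 458833, 3670113, 598086, 1180746, 2115666, 299106, 2359500, 1081684, 148068, 528984, 67944, 9456, 690368, 1134784, 804160, 2240832, 2197056, 1321536]

/-- the 77 blocks -/
def stdL : List ℕ := [63, 963, 7237, 9456, 9996, 14474, 50310, 56064, 57417, 67944, 68244, 70930, 78369, 147864, 148068, 165153, 172562, 224256, 233484, 280737, 290836, 298008, 299106, 344586, 369024, 395526, 398976, 458833, 527906, 528804, 528984, 534801, 590985, 598086, 639024, 675843, 690368, 804160, 819717, 925736, 1066513, 1073442, 1081684, 1082024, 1134784, 1148931, 1180746, 1185840, 1187973, 1315081, 1321536, 1377316, 1591308, 1618944, 1770240, 1835154, 2115666, 2118696, 2134161, 2140196, 2179333, 2197056, 2230793, 2240832, 2293922, 2359500, 2360112, 2368515, 2646656, 2654474, 2753556, 2955264, 3149184, 3150342, 3219480, 3588096, 3670113]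

/-- parity checks: (position, mask) -/
def checks : List ℕ := [63, 963, 7237, 9423, 50310, 67927, 147864, 280734, 527838, 1066450, 2115666]

/-- how the parity checks are sums of known blocks -/
def combos : List (List ℕ) := [[0], [1], [2], [0, 4, 5, 6, 7, 10], [0, 3, 4, 5, 6, 7, 10], [0, 3, 5, 6, 8, 11], [0, 3, 4, 5, 6, 10, 11], [8, 10], [3, 4, 6, 7, 8, 10, 11], [0, 3, 4, 5, 6, 7, 10, 11], [8]]

theorem combos_spec : (combos.map fun l => l.foldl (fun a i => a ^^^ knownL.getD i 0) 0) = checks := by decide +kernel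

/-- pruned search -/
def srch (prune : ℕ → ℕ → Bool) (leaf : ℕ → Bool) : ℕ → ℕ → ℕ → Bool
  | 0, _, pre => leaf pre
  | r + 1, k, pre => (prune (Nat.succ k) pre || srch prune leaf r (Nat.succ k) pre) &&
      (prune (Nat.succ k) (Nat.add pre (Nat.pow 2 k)) || srch prune leaf r (Nat.succ k) (Nat.add pre (Nat.pow 2 k)))

theorem srch_sound {prune : ℕ → ℕ → Bool} {leaf : ℕ → Bool} {x : ℕ} (hx : ∀ k, prune k (x % 2 ^ k) = false) :
    ∀ (r k pre : ℕ), srch prune leaf r k pre = true → x < 2 ^ (k + r) → x % 2 ^ k = pre → leaf x = true := by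
  intro r
  induction r with
  | zero =>
    intro k pre h hlt hp
    rw [Nat.add_zero] at hlt
    rw [Nat.mod_eq_of_lt hlt] at hp
    rw [hp]
    exact h
  | succ r ih =>
    intro k pre h hlt hp
    rw [srch, Bool.and_eq_true, Bool.or_eq_true, Bool.or_eq_true] at h
    have hlt' : x < 2 ^ (k + 1 + r) := by rwa [Nat.add_right_comm, Nat.add_assoc]
    have hk := hx (k + 1)
    have hmod : x % 2 ^ (k + 1) = pre ∨ x % 2 ^ (k + 1) = pre + 2 ^ k := by
      rw [pow_succ, Nat.mod_mul, hp]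
      rcases Nat.mod_two_eq_zero_or_one (x / 2 ^ k) with h' | h' <;> rw [h'] <;> simp
    rcases hmod with h' | h'
    · rw [h'] at hk
      rcases h.1 with h1 | h1
      · rw [hk] at h1; exact absurd h1 (by simp)
      · exact ih (k + 1) pre h1 hlt' h'
    · rw [h'] at hk
      have hk' : prune (Nat.succ k) (Nat.add pre (Nat.pow 2 k)) = false := hk
      rcases h.2 with h1 | h1
      · rw [hk'] at h1; exact absurd h1 (by simp)
      · exact ih (k + 1) (Nat.add pre (Nat.pow 2 k)) h1 hlt' h'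

/-- the mask whose leading bit is `k - 1` -/
def chk : ℕ → ℕ
  | 6 => 63
  | 10 => 963
  | 13 => 7237
  | 14 => 9423
  | 16 => 50310
  | 17 => 67927
  | 18 => 147864
  | 19 => 280734
  | 20 => 527838
  | 21 => 1066450
  | 22 => 2115666
  | _ => 0

def prune (k pre : ℕ) : Bool :=
  !(Nat.ble (pcg pre) 6) || Nat.beq (Nat.mod (pcg (Nat.land pre (chk k))) 2) 1

def leafT (x : ℕ) : Bool := !(Nat.beq (pcg x) 6) || stdL.any (Nat.beq x)

theorem srch_true : srch prune leafT 22 0 0 = true := by decide +kernel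

end Cfsg.Agent.Lib.S3622
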