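import Mathlib
import Cfsg.Agent.Lib.S3622Data
import Cfsg.Agent.Lib.SteinerTransport
import Cfsg.Agent.Lib.Plane4Arcs
import Cfsg.Agent.S0427

/-!
helper8: S(3,6,22) with a labelled block and a labelled point outside is unique.
-/
set_option autoImplicit false

namespace Cfsg.Agent.Lib.S3622

open Finset Cfsg.Agent.Lib.MaskSet Cfsg.Agent.Lib.Steiner Cfsg.Agent.Lib.SteinerTransport

/-! ### linear algebra -/

theorem pc_xor (n a b : ℕ) : pc n (a ^^^ b) % 2 = (pc n a + pc n b) % 2 := by
  induction n with
  | zero => simp [pc]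
  | succ n ih =>
    simp only [pc, Nat.testBit_xor]
    cases a.testBit n <;> cases b.testBit n <;> simp <;> omega

theorem and_xor_left (x a b : ℕ) : x &&& (a ^^^ b) = (x &&& a) ^^^ (x &&& b) := Nat.and_xor_distrib_left

theorem pc_zero (n : ℕ) : pc n 0 = 0 := by
  induction n with
  | zero => rfl
  | succ n ih => simp [pc, ih]

theorem even_fold {x : ℕ} (hK : ∀ m ∈ knownL, pc 22 (x &&& m) % 2 = 0) (l : List ℕ) : ∀ a,
    pc 22 (x &&& a) % 2 = 0 → pc 22 (x &&& l.foldl (fun a i => a ^^^ knownL.getD i 0) a) % 2 = 0 := by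
  induction l with
  | nil => intro a h; exact h
  | cons i l ih =>
    intro a h
    rw [List.foldl_cons]
    apply ih
    rw [and_xor_left, pc_xor]
    have : pc 22 (x &&& knownL.getD i 0) % 2 = 0 := by
      by_cases hi : i < knownL.length
      · rw [List.getD_eq_getElem _ _ hi]
        exact hK _ (List.getElem_mem hi)
      · rw [List.getD_eq_default _ _ (not_lt.mp hi), Nat.and_zero, pc_zero]
    omega

theorem even_checks {x : ℕ} (hK : ∀ m ∈ knownL, pc 22 (x &&& m) % 2 = 0) : ∀ c ∈ checks, pc 22 (x &&& c) % 2 = 0 := by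
  intro c hc
  rw [← combos_spec, List.mem_map] at hc
  obtain ⟨l, -, rfl⟩ := hc
  apply even_fold hK
  rw [Nat.and_zero, pc_zero]

theorem chk_cases (k : ℕ) : (chk k = 0 ∨ chk k ∈ checks) ∧ chk k < 2 ^ k := by
  unfold chk
  split <;> first | decide +kernel | exact ⟨Or.inl rfl, Nat.two_pow_pos _⟩

theorem land_mod {x k c : ℕ} (h : c < 2 ^ k) : x % 2 ^ k &&& c = x &&& c := by
  apply Nat.eq_of_testBit_eq
  intro i
  rw [Nat.testBit_and, Nat.testBit_and, Nat.testBit_mod_two_pow]
  by_cases hi : i < k
  · simp [hi]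
  · rw [Nat.testBit_lt_two_pow (lt_of_lt_of_le h (Nat.pow_le_pow_right (by norm_num) (not_lt.mp hi)))]
    simp

theorem mem_stdL_of {x : ℕ} (hx : x < 2 ^ 22) (h6 : pc 22 x = 6)
    (hK : ∀ m ∈ knownL, pc 22 (x &&& m) % 2 = 0) : x ∈ stdL := by
  have hprune : ∀ k, prune k (x % 2 ^ k) = false := by
    intro k
    unfold prune
    rw [Bool.or_eq_false_iff]
    constructor
    · rw [Bool.not_eq_false', Nat.ble_eq, pcg_eq, ← card_mset, ← h6, ← card_mset]
      apply card_le_card
      intro i hi
      rw [mem_mset] at hi ⊢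
      rw [Nat.testBit_mod_two_pow] at hi
      simp only [Bool.and_eq_true] at hi
      exact hi.2
    · have h1 : Nat.land (x % 2 ^ k) (chk k) = x &&& chk k := land_mod (chk_cases k).2
      rw [h1, ← Bool.not_eq_true, Nat.beq_eq, pcg_eq]
      have h2 : pc 22 (x &&& chk k) % 2 = 0 := by
        rcases (chk_cases k).1 with h | h
        · rw [h, Nat.and_zero, pc_zero]
        · exact even_checks hK _ h
      intro h3
      have h4 : pc 22 (x &&& chk k) % 2 = 1 := h3
      omega
  have h := srch_sound hprune 22 0 0 srch_true (by simpa using hx) (by simp [Nat.mod_one])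
  unfold leafT at h
  rw [Bool.or_eq_true, Bool.not_eq_true', ← Bool.not_eq_true, Nat.beq_eq, pcg_eq, List.any_eq_true] at h
  rcases h with h | ⟨y, hy, he⟩
  · exact absurd h6 h
  · rw [Nat.beq_eq] at he
    rw [he]; exact hy

/-- the standard system as a finset -/
def stdF : Finset (Finset (Fin 22)) := (stdL.map (mset 22)).toFinset

theorem stdL_lt : ∀ m ∈ stdL, m < 2 ^ 22 := by decide +kernel

theorem mem_stdF {s : Finset (Fin 22)} : s ∈ stdF ↔ ∃ m ∈ stdL, mset 22 m = s := by
  simp [stdF]

theorem card_stdF : stdF.card = 77 := by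
  unfold stdF
  rw [List.toFinset_card_of_nodup]
  · rw [List.length_map]; rfl
  · rw [List.nodup_map_iff_inj_on]
    · intro x hx y hy h
      exact mset_inj (stdL_lt x hx) (stdL_lt y hy) h
    · decide +kernel

theorem eq_stdF {B : Set (Finset (Fin 22))} (hB : Cfsg.IsSteinerSystem 3 6 B)
    (hk : ∀ m ∈ knownL, mset 22 m ∈ B) (s : Finset (Fin 22)) : s ∈ B ↔ s ∈ stdF := by
  have hsub : bl B ⊆ stdF := by
    intro b hb
    rw [mem_bl] at hb
    obtain ⟨x, hx, rfl⟩ := exists_mask b
    rw [mem_stdF]
    refine ⟨x, mem_stdL_of hx (by rw [← card_mset]; exact hB.1 _ hb) ?_, rfl⟩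
    intro m hm
    rw [← card_mset, mset_and]
    by_cases he : mset 22 x = mset 22 m
    · rw [he, inter_self, hB.1 _ (hk m hm)]
    · rcases S0427.inter_cases (by simp) hB hb (hk m hm) he with h | h <;> rw [h]
  have heq : bl B = stdF := eq_of_subset_of_card_le hsub (by
    rw [card_stdF, S0427.card_blocks (by simp) hB])
  rw [← heq, mem_bl]

/-! ### derived designs -/

/-- the derived design at a point -/
def deriv {α : Type*} (y : α) [DecidableEq α] (B : Set (Finset α)) : Set (Finset {x // x ≠ y}) :=
  {s | insert y (s.map (Function.Embedding.subtype _)) ∈ B}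

theorem notMem_map {α : Type*} (y : α) (s : Finset {x // x ≠ y}) : y ∉ s.map (Function.Embedding.subtype _) := by
  simp

theorem steiner_deriv {α : Type*} [DecidableEq α] (y : α) {t k : ℕ} {B : Set (Finset α)}
    (hB : Cfsg.IsSteinerSystem (t + 1) (k + 1) B) : Cfsg.IsSteinerSystem t k (deriv y B) := by
  constructor
  · intro b hb
    have := hB.1 _ hb
    rw [card_insert_of_notMem (notMem_map y b), card_map] at this
    omega
  · intro s hs
    obtain ⟨b, ⟨hb, hsb⟩, hu⟩ := hB.2 (insert y (s.map (Function.Embedding.subtype _)))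
      (by rw [card_insert_of_notMem (notMem_map y s), card_map, hs])
    have hyb : y ∈ b := hsb (mem_insert_self _ _)
    have hb' : insert y ((b.subtype (· ≠ y)).map (Function.Embedding.subtype _)) = b := by
      ext a
      simp only [mem_insert, mem_map, mem_subtype, Function.Embedding.subtype_apply]
      constructor
      · rintro (rfl | ⟨⟨c, hc⟩, h1, rfl⟩)
        · exact hyb
        · exact h1
      · intro ha
        by_cases hay : a = y
        · left; exact hay
        · right; exact ⟨⟨a, hay⟩, ha, rfl⟩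
    refine ⟨b.subtype (· ≠ y), ⟨?_, ?_⟩, ?_⟩
    · show insert y _ ∈ B
      rw [hb']; exact hb
    · intro a ha
      rw [mem_subtype]
      exact hsb (mem_insert_of_mem (mem_map_of_mem _ ha))
    · rintro c ⟨hc, hsc⟩
      have h1 := hu _ ⟨hc, insert_subset_insert _ (Finset.map_subset_map.mpr hsc)⟩
      rw [← h1]
      ext a
      rw [mem_subtype, mem_insert]
      constructor
      · intro ha; right; exact mem_map_of_mem _ ha
      · rintro (h | h)
        · exact absurd h a.2
        · exact (by simpa using h : _ ∧ _).2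

/-! ### labelling -/

open Cfsg.Agent.Lib.Plane4 in
/-- the coordinate map -/
def psi : Fin 22 → Option X := fun i =>
  if h : i.val < 6 then some (Sum.inl ⟨i.val, h⟩) else if h' : i.val = 6 then none
    else some (Sum.inr ⟨i.val - 7, by omega⟩)

open Cfsg.Agent.Lib.Plane4 in
theorem psi_bij : Function.Bijective psi := by
  rw [Fintype.bijective_iff_injective_and_card]
  refine ⟨?_, by decide⟩
  decide +kernel

open Cfsg.Agent.Lib.Plane4 in
theorem known_cases : ∀ m ∈ knownL, m = 63 ∨ (∃ i j : Fin 6, i ≠ j ∧ ∀ a : Fin 22, m.testBit a = true ↔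
      psi a ∈ insertNone (secantSet i j)) ∨ ∃ t : Fin 6, ∀ a : Fin 22, m.testBit a = true ↔
      psi a ∈ insertNone (extSet t) := by
  decide +kernel

end Cfsg.Agent.Lib.S3622
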