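import Mathlib
import Cfsg.Agent.Lib.S3622

/-!
helper8: S(3,6,22) with a labelled block and a labelled point outside is unique; rigidity.
-/
set_option autoImplicit false

namespace Cfsg.Agent.Lib.S3622

open Finset Cfsg.Agent.Lib.MaskSet Cfsg.Agent.Lib.Steiner Cfsg.Agent.Lib.SteinerTransport
open Cfsg.Agent.Lib.Plane4

variable {α β : Type*} [Fintype α] [DecidableEq α] [Fintype β] [DecidableEq β]

theorem t63 : ∀ k : Fin 6, (63 : ℕ).testBit ((Fin.castLE (by norm_num) k : Fin 22) : ℕ) = true := by decide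

theorem exists_known (hα : Fintype.card α = 22) {B : Set (Finset α)} (hB : Cfsg.IsSteinerSystem 3 6 B)
    (h : Fin 6 → α) (hinj : Function.Injective h) (hH : univ.image h ∈ B) (y : α) (hy : y ∉ univ.image h) :
    ∃ e : Fin 22 ≃ α, (∀ i : Fin 6, e (Fin.castLE (by norm_num) i) = h i) ∧ e 6 = y ∧
      ∀ m ∈ knownL, (mset 22 m).map e.toEmbedding ∈ B := by
  have hα' : Fintype.card {x // x ≠ y} = 21 := by
    rw [Fintype.card_subtype_compl, Fintype.card_subtype_eq, hα]
  have hL := steiner_deriv y hB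
  have hne : ∀ i, h i ≠ y := by
    intro i hi
    apply hy
    rw [← hi]
    exact mem_image_of_mem _ (mem_univ i)
  set h' : Fin 6 → {x // x ≠ y} := fun i => ⟨h i, hne i⟩ with hh'
  have hinj' : Function.Injective h' := by
    intro i j hij
    exact hinj (congrArg Subtype.val hij)
  have hH' : ∀ l ∈ deriv y B, (l ∩ univ.image h').card ≤ 2 := by
    intro l hl
    have hl' : insert y (l.map (Function.Embedding.subtype _)) ∈ B := hl
    have hne' : insert y (l.map (Function.Embedding.subtype _)) ≠ univ.image h := by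
      intro e
      apply hy
      rw [← e]
      exact mem_insert_self _ _
    have h2 : (insert y (l.map (Function.Embedding.subtype _)) ∩ univ.image h).card ≤ 2 := by
      rcases S0427.inter_cases hα hB hl' hH hne' with h | h <;> omega
    refine le_trans ?_ h2
    apply card_le_card_of_injOn Subtype.val
    · intro a ha
      rw [mem_coe, mem_inter] at ha ⊢
      refine ⟨mem_insert_of_mem (mem_map_of_mem _ ha.1), ?_⟩
      obtain ⟨i, -, hi⟩ := mem_image.mp ha.2
      rw [← hi]
      exact mem_image_of_mem _ (mem_univ i)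
    · intro a _ b _ hab
      exact Subtype.ext hab
  set φ := phiE hα' hL h' hinj' hH' with hφ
  set e : Fin 22 ≃ α := (Equiv.ofBijective psi psi_bij).trans ((Equiv.optionCongr φ).trans (Equiv.optionSubtypeNe y)) with he
  have e_inl : ∀ i : Fin 22, ∀ k : Fin 6, psi i = some (Sum.inl k) → e i = h k := by
    intro i k hik
    show (Equiv.optionSubtypeNe y) (Equiv.optionCongr φ (psi i)) = h k
    rw [hik, Equiv.optionCongr_apply, Option.map_some]
    rfl
  have e_some : ∀ i : Fin 22, ∀ x : X, psi i = some x → e i = (φ x).1 := by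
    intro i x hix
    show (Equiv.optionSubtypeNe y) (Equiv.optionCongr φ (psi i)) = _
    rw [hix, Equiv.optionCongr_apply, Option.map_some]
    rfl
  have e_none : ∀ i : Fin 22, psi i = none → e i = y := by
    intro i hi
    show (Equiv.optionSubtypeNe y) (Equiv.optionCongr φ (psi i)) = _
    rw [hi, Equiv.optionCongr_apply, Option.map_none]
    rfl
  have hline : ∀ (m : ℕ) (l : Finset X), l ∈ stdLines → (∀ a : Fin 22, m.testBit a = true ↔ psi a ∈ insertNone l) →
      (mset 22 m).map e.toEmbedding ∈ B := by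
    intro m l hl hm
    have hl' : l.image φ ∈ deriv y B := by
      have := lines_eq hα' hL h' hinj' hH'
      rw [← this]
      exact ⟨l, hl, rfl⟩
    have hl'' : insert y ((l.image φ).map (Function.Embedding.subtype _)) ∈ B := hl'
    have heq : (mset 22 m).map e.toEmbedding = insert y ((l.image φ).map (Function.Embedding.subtype _)) := by
      ext a
      rw [mem_map_equiv, mem_mset, hm]
      obtain ⟨i, rfl⟩ := e.surjective a
      rw [Equiv.symm_apply_apply]
      rcases hpi : psi i with _ | x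
      · rw [e_none i hpi]
        simp
      · rw [e_some i x hpi]
        simp only [some_mem_insertNone, mem_insert, mem_map, mem_image, Function.Embedding.subtype_apply,
          exists_exists_and_eq_and]
        constructor
        · intro hx; right; exact ⟨x, hx, rfl⟩
        · rintro (h0 | ⟨x', hx', h1⟩)
          · exact absurd h0 (φ x).2
          · rw [← φ.injective (Subtype.ext h1)]
            exact hx'
    rw [heq]; exact hl''
  refine ⟨e, ?_, e_none 6 (by decide), ?_⟩
  · intro i
    apply e_inl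
    revert i; decide
  · intro m hm
    rcases known_cases m hm with rfl | ⟨i, j, hij, hm'⟩ | ⟨t, hm'⟩
    · have : (mset 22 63).map e.toEmbedding = univ.image h := by
        ext a
        rw [mem_map_equiv, mem_mset, mem_image]
        obtain ⟨i, rfl⟩ := e.surjective a
        rw [Equiv.symm_apply_apply]
        constructor
        · intro hi
          have h6 : ∃ k : Fin 6, psi i = some (Sum.inl k) := by
            revert i; decide +kernel
          obtain ⟨k, hk⟩ := h6
          exact ⟨k, mem_univ _, (e_inl i k hk).symm⟩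
        · rintro ⟨k, -, hk⟩
          have h6 : ∀ k : Fin 6, psi (Fin.castLE (by norm_num) k) = some (Sum.inl k) := by decide
          rw [← e_inl _ k (h6 k)] at hk
          rw [← e.injective hk]
          exact t63 k
      rw [this]; exact hH
    · exact hline m _ (secantSet_mem hij) hm'
    · refine hline m _ ?_ hm'
      exact Finset.mem_union_right _ (Finset.mem_image.2 ⟨t, Finset.mem_univ _, rfl⟩)

/-- labelled standard form -/
theorem exists_std (hα : Fintype.card α = 22) {B : Set (Finset α)} (hB : Cfsg.IsSteinerSystem 3 6 B)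
    (h : Fin 6 → α) (hinj : Function.Injective h) (hH : univ.image h ∈ B) (y : α) (hy : y ∉ univ.image h) :
    ∃ e : Fin 22 ≃ α, (∀ i : Fin 6, e (Fin.castLE (by norm_num) i) = h i) ∧ e 6 = y ∧
      ∀ s, s.map e.toEmbedding ∈ B ↔ s ∈ stdF := by
  obtain ⟨e, h1, h2, h3⟩ := exists_known hα hB h hinj hH y hy
  exact ⟨e, h1, h2, fun s => eq_stdF (steiner_pull e hB) h3 s⟩

theorem exists_iso (hα : Fintype.card α = 22) (hβ : Fintype.card β = 22) {B : Set (Finset α)}
    {B' : Set (Finset β)} (hB : Cfsg.IsSteinerSystem 3 6 B) (hB' : Cfsg.IsSteinerSystem 3 6 B')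
    (h : Fin 6 → α) (hinj : Function.Injective h) (hH : univ.image h ∈ B) (y : α) (hy : y ∉ univ.image h)
    (h' : Fin 6 → β) (hinj' : Function.Injective h') (hH' : univ.image h' ∈ B') (y' : β) (hy' : y' ∉ univ.image h') :
    ∃ e : α ≃ β, (∀ i, e (h i) = h' i) ∧ e y = y' ∧ ∀ s, s.map e.toEmbedding ∈ B' ↔ s ∈ B := by
  obtain ⟨e, he, hey, hs⟩ := exists_std hα hB h hinj hH y hy
  obtain ⟨e', he', hey', hs'⟩ := exists_std hβ hB' h' hinj' hH' y' hy'
  refine ⟨e.symm.trans e', ?_, ?_, ?_⟩
  · intro i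
    rw [Equiv.trans_apply, ← he i, Equiv.symm_apply_apply, he' i]
  · rw [Equiv.trans_apply, ← hey, Equiv.symm_apply_apply, hey']
  · intro s
    have e1 : s.map (e.symm.trans e').toEmbedding = (s.map e.symm.toEmbedding).map e'.toEmbedding := by
      rw [Finset.map_map]; rfl
    rw [e1, hs', ← hs, map_map_symm]

/-- rigidity: an automorphism fixing a block pointwise and one more point is trivial -/
theorem rigid (hα : Fintype.card α = 22) {B : Set (Finset α)} (hB : Cfsg.IsSteinerSystem 3 6 B)
    {H : Finset α} (hH : H ∈ B) {y : α} (hy : y ∉ H) {g : Equiv.Perm α}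
    (hg : ∀ s, s ∈ B → s.map g.toEmbedding ∈ B) (hgH : ∀ a ∈ H, g a = a) (hgy : g y = y) : g = 1 := by
  -- a block through y and two points of H is fixed
  have fixblock : ∀ b ∈ B, ∀ a ∈ H, ∀ c ∈ H, a ≠ c → a ∈ b → c ∈ b → y ∈ b → b.map g.toEmbedding = b := by
    intro b hb a ha c hc hac hab hcb hyb
    have hya : y ≠ a := fun e => hy (e ▸ ha)
    have hyc : y ≠ c := fun e => hy (e ▸ hc)
    apply eq_of_le_card_inter hB (hg b hb) hb
    have hsub : ({y, a, c} : Finset α) ⊆ b.map g.toEmbedding ∩ b := by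
      intro z hz
      simp only [mem_insert, mem_singleton] at hz
      rw [mem_inter, mem_map_equiv]
      rcases hz with rfl | rfl | rfl
      · exact ⟨by rw [(Equiv.symm_apply_eq g).mpr hgy.symm]; exact hyb, hyb⟩
      · exact ⟨by rw [(Equiv.symm_apply_eq g).mpr (hgH _ ha).symm]; exact hab, hab⟩
      · exact ⟨by rw [(Equiv.symm_apply_eq g).mpr (hgH _ hc).symm]; exact hcb, hcb⟩
    have h3 : ({y, a, c} : Finset α).card = 3 := card_eq_three.mpr ⟨y, a, c, hya, hyc, hac, rfl⟩
    rw [← h3]
    exact card_le_card hsub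
  ext p
  rw [Equiv.Perm.one_apply]
  by_cases hpH : p ∈ H
  · exact hgH p hpH
  by_cases hpy : p = y
  · rw [hpy]; exact hgy
  -- for each a in H a block through a, y, p
  have hblk : ∀ a ∈ H, ∃ b ∈ B, a ∈ b ∧ y ∈ b ∧ p ∈ b ∧ ∃ c ∈ H, c ≠ a ∧ c ∈ b ∧ (b ∩ H).card = 2 := by
    intro a ha
    have hya : y ≠ a := fun e => hy (e ▸ ha)
    have hpa : p ≠ a := fun e => hpH (e ▸ ha)
    obtain ⟨b, ⟨hb, hsub⟩, -⟩ := hB.2 {a, y, p} (card_eq_three.mpr ⟨a, y, p, hya.symm, hpa.symm, Ne.symm hpy, rfl⟩)
    have hab : a ∈ b := hsub (by simp)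
    have hyb : y ∈ b := hsub (by simp)
    have hpb : p ∈ b := hsub (by simp)
    have hne : b ≠ H := fun e => hy (e ▸ hyb)
    have h2 : (b ∩ H).card = 2 := by
      rcases S0427.inter_cases hα hB hb hH hne with h | h
      · rw [card_eq_zero] at h
        have : a ∈ b ∩ H := mem_inter.mpr ⟨hab, ha⟩
        rw [h] at this
        simp at this
      · exact h
    obtain ⟨c, hc, hca⟩ := exists_mem_ne (by omega : 1 < (b ∩ H).card) a
    exact ⟨b, hb, hab, hyb, hpb, c, (mem_inter.mp hc).2, hca, (mem_inter.mp hc).1, h2⟩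
  have hH6 := hB.1 H hH
  obtain ⟨a, ha⟩ : H.Nonempty := card_pos.mp (by omega)
  obtain ⟨b, hb, hab, hyb, hpb, c, hcH, hca, hcb, h2⟩ := hblk a ha
  -- another point of H off b
  obtain ⟨a', ha', ha'b⟩ : ∃ a' ∈ H, a' ∉ b := by
    by_contra hcon
    push Not at hcon
    have : b ∩ H = H := inter_eq_right.mpr hcon
    rw [this] at h2
    omega
  obtain ⟨b', hb', hab', hyb', hpb', c', hcH', hca', hcb', h2'⟩ := hblk a' ha'
  have hbb : b ≠ b' := fun e => ha'b (e ▸ hab')
  have f1 := fixblock b hb a ha c hcH (Ne.symm hca) hab hcb hyb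
  have f2 := fixblock b' hb' a' ha' c' hcH' (Ne.symm hca') hab' hcb' hyb'
  have hpb1 : g p ∈ b := by
    rw [← f1]; exact mem_map_of_mem _ hpb
  have hpb2 : g p ∈ b' := by
    rw [← f2]; exact mem_map_of_mem _ hpb'
  by_contra hne
  apply hbb
  apply eq_of_le_card_inter hB hb hb'
  have hgpy : g p ≠ y := by
    intro e
    rw [← hgy] at e
    exact hpy (g.injective e)
  have hsub : ({y, p, g p} : Finset α) ⊆ b ∩ b' := by
    intro z hz
    simp only [mem_insert, mem_singleton] at hz
    rw [mem_inter]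
    rcases hz with rfl | rfl | rfl
    · exact ⟨hyb, hyb'⟩
    · exact ⟨hpb, hpb'⟩
    · exact ⟨hpb1, hpb2⟩
  have h3 : ({y, p, g p} : Finset α).card = 3 :=
    card_eq_three.mpr ⟨y, p, g p, Ne.symm hpy, Ne.symm hgpy, Ne.symm hne, rfl⟩
  rw [← h3]
  exact card_le_card hsub

/-- a labelled block and a point outside, starting with three given points -/
theorem exists_frame (hα : Fintype.card α = 22) {B : Set (Finset α)} (hB : Cfsg.IsSteinerSystem 3 6 B)
    (x : Fin 3 ↪ α) : ∃ (h : Fin 6 → α) (y : α), Function.Injective h ∧ univ.image h ∈ B ∧ y ∉ univ.image h ∧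
      ∀ i : Fin 3, h (Fin.castLE (by norm_num) i) = x i := by
  obtain ⟨H, ⟨hH, hsub⟩, -⟩ := hB.2 (univ.map x) (by simp)
  have hHc := hB.1 H hH
  have h1 : (H \ univ.map x).card = 3 := by rw [card_sdiff_of_subset hsub, hHc]; simp
  rw [card_eq_three] at h1
  obtain ⟨a, b, c, hab, hac, hbc, he⟩ := h1
  have hmem : ∀ z ∈ ({a, b, c} : Finset α), z ∈ H ∧ ∀ i, x i ≠ z := by
    intro z hz
    rw [← he, mem_sdiff] at hz
    refine ⟨hz.1, fun i hi => hz.2 ?_⟩
    rw [← hi]
    exact mem_map_of_mem _ (mem_univ i)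
  have ha := hmem a (by simp)
  have hb := hmem b (by simp)
  have hc := hmem c (by simp)
  set h : Fin 6 → α := Fin.append (x : Fin 3 → α) ![a, b, c] with hh
  have hinj : Function.Injective h := by
    rw [hh, Fin.append_injective_iff]
    refine ⟨x.injective, ?_, ?_⟩
    · intro i j hij
      fin_cases i <;> fin_cases j <;> simp_all
    · intro i j
      fin_cases j
      · exact ha.2 i
      · exact hb.2 i
      · exact hc.2 i
  have hI : univ.image h = H := by
    apply eq_of_subset_of_card_le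
    · intro z hz
      obtain ⟨i, -, rfl⟩ := mem_image.mp hz
      refine Fin.addCases (m := 3) (n := 3) ?_ ?_ i
      · intro j
        rw [hh, Fin.append_left]
        exact hsub (mem_map_of_mem _ (mem_univ j))
      · intro j
        rw [hh, Fin.append_right]
        fin_cases j
        · exact ha.1
        · exact hb.1
        · exact hc.1
    · rw [card_image_of_injective _ hinj, hHc]; simp
  obtain ⟨y, hy⟩ : ∃ y, y ∉ H := by
    by_contra hcon
    push Not at hcon
    have : H = univ := eq_univ_iff_forall.mpr hcon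
    rw [this, card_univ, hα] at hHc
    omega
  refine ⟨h, y, hinj, by rw [hI]; exact hH, by rw [hI]; exact hy, ?_⟩
  intro i
  have : (Fin.castLE (by norm_num) i : Fin 6) = Fin.castAdd 3 i := rfl
  rw [this, hh, Fin.append_left]

theorem iso (hα : Fintype.card α = 22) (hβ : Fintype.card β = 22) {B : Set (Finset α)}
    {B' : Set (Finset β)} (hB : Cfsg.IsSteinerSystem 3 6 B) (hB' : Cfsg.IsSteinerSystem 3 6 B')
    (x : Fin 3 ↪ α) (x' : Fin 3 ↪ β) :
    ∃ e : α ≃ β, (∀ i, e (x i) = x' i) ∧ ∀ s, s.map e.toEmbedding ∈ B' ↔ s ∈ B := by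
  obtain ⟨h, y, h1, h2, h3, h4⟩ := exists_frame hα hB x
  obtain ⟨h', y', h1', h2', h3', h4'⟩ := exists_frame hβ hB' x'
  obtain ⟨e, e1, -, e3⟩ := exists_iso hα hβ hB hB' h h1 h2 y h3 h' h1' h2' y' h3'
  exact ⟨e, fun i => by rw [← h4 i, e1, h4' i], e3⟩

theorem isoS (hα : Fintype.card α = 22) (hβ : Fintype.card β = 22) {B : Set (Finset α)}
    {B' : Set (Finset β)} (hB : Cfsg.IsSteinerSystem 3 6 B) (hB' : Cfsg.IsSteinerSystem 3 6 B') :
    Cfsg.SetSystemIso B B' := by
  obtain ⟨x⟩ : Nonempty (Fin 3 ↪ α) := Function.Embedding.nonempty_of_card_le (by simp [hα])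
  obtain ⟨x'⟩ : Nonempty (Fin 3 ↪ β) := Function.Embedding.nonempty_of_card_le (by simp [hβ])
  obtain ⟨e, -, he⟩ := iso hα hβ hB hB' x x'
  exact iso_of e he

end Cfsg.Agent.Lib.S3622
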