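import Mathlib
import Cfsg.Agent.Lib.GolaySteiner
import Cfsg.Agent.Lib.GolayFix
import Cfsg.Agent.Lib.GolayTrans
import Cfsg.Agent.Lib.SteinerTransport
import Cfsg.Agent.Lib.S3622Main

/-!
helper8: uniqueness of S(5,8,24): an S(5,8,24) on the points of the Golay code containing the 77 octads
through two points and a further octad through exactly one of them is the system of octads.
-/
set_option autoImplicit false
set_option maxRecDepth 10000

namespace Cfsg.Agent.Lib.S5824

open Cfsg Finset Cfsg.Agent.Lib.Golay Cfsg.Agent.Lib.GolayFix Cfsg.Agent.Lib.Steiner Cfsg.Agent.Lib.SteinerTransport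

/-- twelve octads spanning the code; all but the last contain the two points `23` and `0` -/
def kL : List ℕ := [13062145, 9347075, 11100169, 8966165, 10846245, 9506893, 14254209, 11731203, 12325377,
  10630149, 15747077, 13938692]

def combos : List (List ℕ) := [[0], [0, 1], [11], [0, 2], [0, 3, 11], [0, 4, 11], [2, 5, 11], [0, 6], [1, 7],
  [0, 8], [0, 9, 11], [0, 10, 11]]

theorem combos_spec : (combos.map fun l => l.foldl (fun a i => a ^^^ kL.getD i 0) 0) =
    [bas 0, bas 1, bas 2, bas 3, bas 4, bas 5, bas 6, bas 7, bas 8, bas 9, bas 10, bas 11] := by decide +kernel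

def u0 : GolayPt := none
def v0 : GolayPt := some 0

theorem u0_ne_v0 : u0 ≠ v0 := by decide

theorem kL_octad : ∀ m ∈ kL, mset m ∈ octads := by
  have h : (kL.all fun m => isCode m && Nat.beq (pc m) 8 && decide (m < 2 ^ 24)) = true := by decide +kernel
  intro m hm
  have := List.all_eq_true.mp h m hm
  simp only [Bool.and_eq_true, decide_eq_true_eq, Nat.beq_eq] at this
  exact ⟨(mset_mem_supports_iff this.2).mpr this.1.1, by rw [card_mset]; exact this.1.2⟩

theorem kL_mem : ∀ m ∈ kL.take 11, u0 ∈ mset m ∧ v0 ∈ mset m := by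
  have h : ((kL.take 11).all fun m => m.testBit 23 && m.testBit 0) = true := by decide +kernel
  intro m hm
  have := List.all_eq_true.mp h m hm
  simp only [Bool.and_eq_true] at this
  exact ⟨mem_mset.mpr this.1, mem_mset.mpr this.2⟩

theorem kL_split : kL = kL.take 11 ++ [13938692] := by decide +kernel

theorem last_mem : u0 ∈ mset 13938692 ∧ v0 ∉ mset 13938692 := by
  rw [mem_mset, mem_mset]
  decide +kernel

section linear
variable (w : Finset GolayPt)

/-- parity of the intersection with `w` -/
def par (m : ℕ) : ℕ := (mset m ∩ w).card % 2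

theorem par_xor (a b : ℕ) : par w (a ^^^ b) = (par w a + par w b) % 2 := by
  unfold par
  have h := card_inter_symmDiff w (mset a) (mset b)
  rw [← mset_xor, inter_comm w, inter_comm w, inter_comm w, Nat.even_iff, Nat.even_iff] at h
  omega

theorem par_zero : par w 0 = 0 := by
  unfold par
  rw [mset_zero, empty_inter, card_empty]

theorem par_sel {x : ℕ} (hx : par w x = 0) (n j : ℕ) : par w (sel n j x) = 0 := by
  rw [sel_eq]
  split
  · exact hx
  · exact par_zero w

theorem par_fold (h : ∀ m ∈ kL, par w m = 0) (l : List ℕ) : ∀ a, par w a = 0 →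
    par w (l.foldl (fun a i => a ^^^ kL.getD i 0) a) = 0 := by
  induction l with
  | nil => intro a ha; exact ha
  | cons i l ih =>
    intro a ha
    rw [List.foldl_cons]
    apply ih
    have : par w (kL.getD i 0) = 0 := by
      by_cases hi : i < kL.length
      · rw [List.getD_eq_getElem _ _ hi]
        exact h _ (List.getElem_mem hi)
      · rw [List.getD_eq_default _ _ (not_lt.mp hi), par_zero]
    rw [par_xor, ha, this]

theorem par_bas (h : ∀ m ∈ kL, par w m = 0) : ∀ m ∈ [bas 0, bas 1, bas 2, bas 3, bas 4, bas 5, bas 6, bas 7,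
    bas 8, bas 9, bas 10, bas 11], par w m = 0 := by
  intro m hm
  rw [← combos_spec, List.mem_map] at hm
  obtain ⟨l, -, rfl⟩ := hm
  exact par_fold w h l 0 (par_zero w)

theorem mem_Sup_of {w : Finset GolayPt} (h : ∀ m ∈ kL, par w m = 0) : w ∈ Sup := by
  apply dual_mem_supports
  intro t ht
  obtain ⟨n, -, rfl⟩ := mem_supports_iff.mp ht
  show par w (enc n) = 0
  have hb := par_bas w h
  have x : ∀ a b, par w a = 0 → par w b = 0 → par w (a ^^^ b) = 0 := by
    intro a b ha hb
    rw [par_xor, ha, hb]
  rw [enc_def]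
  refine x _ _ (par_sel w (hb (bas 0) (by simp)) _ _) (x _ _ (par_sel w (hb (bas 1) (by simp)) _ _)
    (x _ _ (par_sel w (hb (bas 2) (by simp)) _ _) (x _ _ (par_sel w (hb (bas 3) (by simp)) _ _)
    (x _ _ (par_sel w (hb (bas 4) (by simp)) _ _) (x _ _ (par_sel w (hb (bas 5) (by simp)) _ _)
    (x _ _ (par_sel w (hb (bas 6) (by simp)) _ _) (x _ _ (par_sel w (hb (bas 7) (by simp)) _ _)
    (x _ _ (par_sel w (hb (bas 8) (by simp)) _ _) (x _ _ (par_sel w (hb (bas 9) (by simp)) _ _)
    (x _ _ (par_sel w (hb (bas 10) (by simp)) _ _) (par_sel w (hb (bas 11) (by simp)) _ _)))))))))))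

end linear

/-- a set orthogonal to the octads through `u0, v0` is in the code or becomes so after adding `{u0, v0}` -/
theorem mem_or {w : Finset GolayPt} (h : ∀ o ∈ octads, u0 ∈ o → v0 ∈ o → Even (o ∩ w).card) :
    w ∈ Sup ∨ symmDiff w {u0, v0} ∈ Sup := by
  by_cases hl : par w 13938692 = 0
  · left
    apply mem_Sup_of
    intro m hm
    rw [kL_split, List.mem_append, List.mem_singleton] at hm
    rcases hm with hm | rfl
    · exact Nat.even_iff.mp (h _ (kL_octad m (List.mem_of_mem_take hm)) (kL_mem m hm).1 (kL_mem m hm).2)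
    · exact hl
  · right
    have hsd : ∀ o : Finset GolayPt, (Even (o ∩ symmDiff w {u0, v0}).card ↔
        Even ((o ∩ w).card + (o ∩ {u0, v0}).card)) := fun o => card_inter_symmDiff o w {u0, v0}
    apply mem_Sup_of
    intro m hm
    rw [kL_split, List.mem_append, List.mem_singleton] at hm
    apply Nat.even_iff.mp
    rw [hsd]
    rcases hm with hm | rfl
    · have h1 := h _ (kL_octad m (List.mem_of_mem_take hm)) (kL_mem m hm).1 (kL_mem m hm).2
      have h2 : mset m ∩ {u0, v0} = {u0, v0} := by
        apply inter_eq_right.mpr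
        intro x hx
        simp only [mem_insert, mem_singleton] at hx
        rcases hx with rfl | rfl
        · exact (kL_mem m hm).1
        · exact (kL_mem m hm).2
      rw [h2, card_pair u0_ne_v0]
      exact h1.add (by decide)
    · have h2 : mset 13938692 ∩ {u0, v0} = {u0} := by
        ext x
        simp only [mem_inter, mem_insert, mem_singleton]
        constructor
        · rintro ⟨h1, rfl | rfl⟩
          · rfl
          · exact absurd h1 last_mem.2
        · rintro rfl
          exact ⟨last_mem.1, Or.inl rfl⟩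
      rw [h2, card_singleton]
      unfold par at hl
      have h3 : (mset 13938692 ∩ w).card % 2 = 1 := by omega
      rw [Nat.even_iff]
      omega

/-- parity argument -/
theorem mem_Sup_of_pair {w w0 : Finset GolayPt} (h : w ∈ Sup ∨ symmDiff w {u0, v0} ∈ Sup) (h0 : w0 ∈ Sup)
    (hx : (w0 ∩ {u0, v0}).card = 1) (he : Even (w ∩ w0).card) : w ∈ Sup := by
  rcases h with h | h
  · exact h
  · exfalso
    have h1 := Nat.even_iff.mpr (even_inter h h0)
    rw [inter_comm, card_inter_symmDiff, hx, inter_comm] at h1
    rw [Nat.even_add] at h1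
    exact absurd (h1.mp he) (by decide)

/-- recognition of the octads -/
theorem eq_octads {B : Set (Finset GolayPt)} (hB : IsSteinerSystem 5 8 B)
    (hK : ∀ o ∈ octads, u0 ∈ o → v0 ∈ o → o ∈ B) {b0 : Finset GolayPt} (hb0 : b0 ∈ B) (hb0' : b0 ∈ octads)
    (hx : (b0 ∩ {u0, v0}).card = 1) : B = octads := by
  have hsub : ∀ b ∈ B, b ∈ octads := by
    intro b hb
    refine ⟨?_, hB.1 b hb⟩
    apply mem_Sup_of_pair ?_ hb0'.1 hx (octad_inter_even card_pt hB hb hb0)
    apply mem_or
    intro o ho h1 h2
    exact octad_inter_even card_pt hB (hK o ho h1 h2) hb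
  apply Set.Subset.antisymm hsub
  intro o ho
  obtain ⟨s, hs, hsc⟩ := exists_subset_card_eq (show 5 ≤ o.card by rw [octads_steiner.1 o ho]; norm_num)
  obtain ⟨b, ⟨hb, hsb⟩, -⟩ := hB.2 s hsc
  have := eq_of_le_card_inter octads_steiner (hsub b hb) ho (by
    rw [← hsc]; exact card_le_card (subset_inter hsb hs))
  rw [← this]; exact hb

end Cfsg.Agent.Lib.S5824
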