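import Mathlib
import Cfsg.Agent.Lib.S5824
import Cfsg.Agent.Lib.S4511

/-!
helper8: uniqueness of S(5,8,24) and S(4,7,23).
-/
set_option autoImplicit false

namespace Cfsg.Agent.Lib.S5824

open Cfsg Finset Cfsg.Agent.Lib.Golay Cfsg.Agent.Lib.GolayFix Cfsg.Agent.Lib.Steiner Cfsg.Agent.Lib.SteinerTransport
open Cfsg.Agent.Lib.S3622 (deriv steiner_deriv notMem_map)

section ext
variable {α β : Type*} [DecidableEq α] [DecidableEq β]

/-- extend a bijection of punctured sets -/
def extE (y : α) (y' : β) (e : {x // x ≠ y} ≃ {x // x ≠ y'}) : α ≃ β :=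
  (Equiv.optionSubtypeNe y).symm.trans ((Equiv.optionCongr e).trans (Equiv.optionSubtypeNe y'))

theorem extE_self (y : α) (y' : β) (e : {x // x ≠ y} ≃ {x // x ≠ y'}) : extE y y' e y = y' := by
  simp [extE]

theorem extE_val (y : α) (y' : β) (e : {x // x ≠ y} ≃ {x // x ≠ y'}) (x : {x // x ≠ y}) :
    extE y y' e x.1 = (e x).1 := by
  simp [extE, x.2]

theorem extE_insert (y : α) (y' : β) (e : {x // x ≠ y} ≃ {x // x ≠ y'}) (s : Finset {x // x ≠ y}) :
    (insert y (s.map (Function.Embedding.subtype _))).map (extE y y' e).toEmbedding =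
      insert y' ((s.map e.toEmbedding).map (Function.Embedding.subtype _)) := by
  rw [Finset.map_insert, Finset.map_map, Finset.map_map]
  congr 1
  · exact extE_self y y' e
  · congr 1
    ext x
    exact extE_val y y' e x

theorem exists_of_mem {y : α} {t : Finset α} (h : y ∈ t) :
    ∃ s : Finset {x // x ≠ y}, t = insert y (s.map (Function.Embedding.subtype _)) := by
  refine ⟨t.subtype (· ≠ y), ?_⟩
  ext a
  simp only [mem_insert, mem_map, mem_subtype, Function.Embedding.subtype_apply]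
  constructor
  · intro ha
    by_cases hay : a = y
    · left; exact hay
    · right; exact ⟨⟨a, hay⟩, ha, rfl⟩
  · rintro (rfl | ⟨⟨c, hc⟩, h1, rfl⟩)
    · exact h
    · exact h1

theorem extE_iff {y : α} {y' : β} {e : {x // x ≠ y} ≃ {x // x ≠ y'}} {B : Set (Finset α)} {B' : Set (Finset β)}
    {s : Finset {x // x ≠ y}} (h : s.map e.toEmbedding ∈ deriv y' B' ↔ s ∈ deriv y B) :
    (insert y (s.map (Function.Embedding.subtype _))).map (extE y y' e).toEmbedding ∈ B' ↔
      insert y (s.map (Function.Embedding.subtype _)) ∈ B := by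
  rw [extE_insert]
  exact h

end ext

variable {α β : Type*} [Fintype α] [DecidableEq α] [Fintype β] [DecidableEq β]

theorem exists_one (hα : Fintype.card α = 24) {B : Set (Finset α)} (hB : IsSteinerSystem 5 8 B) {p q : α}
    (hpq : p ≠ q) : ∃ b ∈ B, p ∈ b ∧ q ∉ b := by
  by_contra hcon
  push Not at hcon
  have h1 := octads_containing hα hB {p} 1 253 (by simp) (by norm_num) (by decide)
  have h2 := octads_containing hα hB {p, q} 2 77 (card_pair hpq) (by norm_num) (by decide)
  have : ((bl B).filter fun b => ({p} : Finset α) ⊆ b) = (bl B).filter fun b => ({p, q} : Finset α) ⊆ b := by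
    ext b
    simp only [mem_filter, mem_bl, singleton_subset_iff, insert_subset_iff]
    constructor
    · rintro ⟨hb, hp⟩
      exact ⟨hb, hp, hcon b hb hp⟩
    · rintro ⟨hb, hp, -⟩
      exact ⟨hb, hp⟩
  rw [this, h2] at h1
  omega

theorem map_swap_of_mem {w : Finset GolayPt} (h1 : u0 ∈ w) (h2 : v0 ∈ w) :
    w.map (Equiv.swap u0 v0).toEmbedding = w := by
  ext x
  rw [mem_map_equiv, Equiv.symm_swap]
  by_cases hx : x = u0
  · subst hx; rw [Equiv.swap_apply_left]; exact iff_of_true h2 h1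
  by_cases hx' : x = v0
  · subst hx'; rw [Equiv.swap_apply_right]; exact iff_of_true h1 h2
  rw [Equiv.swap_apply_of_ne_of_ne hx hx']

theorem map_swap_of_one {w : Finset GolayPt} (h1 : u0 ∈ w) (h2 : v0 ∉ w) :
    w.map (Equiv.swap u0 v0).toEmbedding = symmDiff w {u0, v0} := by
  ext x
  rw [mem_map_equiv, Equiv.symm_swap, mem_symmDiff, mem_insert, mem_singleton]
  by_cases hx : x = u0
  · subst hx; rw [Equiv.swap_apply_left]
    simp [h1, h2]
  by_cases hx' : x = v0
  · subst hx'; rw [Equiv.swap_apply_right]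
    simp [h1, h2]
  rw [Equiv.swap_apply_of_ne_of_ne hx hx']
  simp [hx, hx']

theorem inter_pair_one {w : Finset GolayPt} (h1 : u0 ∈ w) (h2 : v0 ∉ w) : (w ∩ {u0, v0}).card = 1 := by
  rw [card_eq_one]
  refine ⟨u0, ?_⟩
  ext x
  simp only [mem_inter, mem_insert, mem_singleton]
  constructor
  · rintro ⟨h3, rfl | rfl⟩
    · rfl
    · exact absurd h3 h2
  · rintro rfl
    exact ⟨h1, Or.inl rfl⟩

theorem inter_pair_one' {w : Finset GolayPt} (h1 : u0 ∉ w) (h2 : v0 ∈ w) : (w ∩ {u0, v0}).card = 1 := by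
  rw [card_eq_one]
  refine ⟨v0, ?_⟩
  ext x
  simp only [mem_inter, mem_insert, mem_singleton]
  constructor
  · rintro ⟨h3, rfl | rfl⟩
    · exact absurd h3 h1
    · rfl
  · rintro rfl
    exact ⟨h2, Or.inr rfl⟩

/-- an S(5,8,24) on the Golay points containing the octads through `u0, v0` is the system of octads, up to
swapping the two points -/
theorem eq_or_swap {B : Set (Finset GolayPt)} (hB : IsSteinerSystem 5 8 B)
    (hK : ∀ o ∈ octads, u0 ∈ o → v0 ∈ o → o ∈ B) :
    B = octads ∨ pull (Equiv.swap u0 v0) B = octads := by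
  obtain ⟨b0, hb0, h1, h2⟩ := exists_one card_pt hB u0_ne_v0
  have hmo := mem_or (w := b0) (by
    intro o ho h3 h4
    exact octad_inter_even card_pt hB (hK o ho h3 h4) hb0)
  rcases hmo with h | h
  · left
    exact eq_octads hB hK hb0 ⟨h, hB.1 b0 hb0⟩ (inter_pair_one h1 h2)
  · right
    rw [← map_swap_of_one h1 h2] at h
    apply eq_octads (steiner_pull _ hB) (b0 := b0.map (Equiv.swap u0 v0).toEmbedding)
    · intro o ho h3 h4
      rw [mem_pull, map_swap_of_mem h3 h4]
      exact hK o ho h3 h4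
    · rw [mem_pull]
      have := map_map_symm (Equiv.swap u0 v0) b0
      rw [Equiv.symm_swap] at this
      rw [this]
      exact hb0
    · exact ⟨h, by rw [card_map]; exact hB.1 b0 hb0⟩
    · apply inter_pair_one'
      · rw [mem_map_equiv, Equiv.symm_swap, Equiv.swap_apply_left]; exact h2
      · rw [mem_map_equiv, Equiv.symm_swap, Equiv.swap_apply_right]; exact h1

theorem exists_std (hα : Fintype.card α = 24) {B : Set (Finset α)} (hB : IsSteinerSystem 5 8 B) :
    ∃ e : GolayPt ≃ α, ∀ t, t.map e.toEmbedding ∈ B ↔ t ∈ octads := by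
  obtain ⟨u⟩ : Nonempty α := Fintype.card_pos_iff.mp (by omega)
  have hα1 : Fintype.card {x // x ≠ u} = 23 := by
    rw [Fintype.card_subtype_compl, Fintype.card_subtype_eq, hα]
  obtain ⟨v⟩ : Nonempty {x // x ≠ u} := Fintype.card_pos_iff.mp (by omega)
  have hα2 : Fintype.card {x // x ≠ v} = 22 := by
    rw [Fintype.card_subtype_compl, Fintype.card_subtype_eq, hα1]
  have hG1 : Fintype.card {x // x ≠ u0} = 23 := by
    rw [Fintype.card_subtype_compl, Fintype.card_subtype_eq, card_pt]
  set v1 : {x // x ≠ u0} := ⟨v0, u0_ne_v0.symm⟩ with hv1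
  have hG2 : Fintype.card {x // x ≠ v1} = 22 := by
    rw [Fintype.card_subtype_compl, Fintype.card_subtype_eq, hG1]
  have hD := steiner_deriv v (steiner_deriv u hB)
  have hD0 := steiner_deriv v1 (steiner_deriv u0 octads_steiner)
  obtain ⟨x⟩ : Nonempty (Fin 3 ↪ {x // x ≠ v1}) := Function.Embedding.nonempty_of_card_le (by simp [hG2])
  obtain ⟨x'⟩ : Nonempty (Fin 3 ↪ {x // x ≠ v}) := Function.Embedding.nonempty_of_card_le (by simp [hα2])
  obtain ⟨e, -, he⟩ := S3622.iso hG2 hα2 hD0 hD x x'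
  set e1 := extE v1 v e with he1
  set e2 := extE u0 u e1 with he2
  have hkey : ∀ t : Finset GolayPt, u0 ∈ t → v0 ∈ t → (t.map e2.toEmbedding ∈ B ↔ t ∈ octads) := by
    intro t h1 h2
    obtain ⟨s, rfl⟩ := exists_of_mem h1
    have hvs : v1 ∈ s := by
      rw [mem_insert] at h2
      rcases h2 with h2 | h2
      · exact absurd h2.symm u0_ne_v0
      · rw [mem_map] at h2
        obtain ⟨a, ha, he'⟩ := h2
        have : a = v1 := Subtype.ext he'
        rw [← this]; exact ha
    apply extE_iff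
    obtain ⟨r, rfl⟩ := exists_of_mem hvs
    apply extE_iff
    exact he r
  have hP := steiner_pull e2 hB
  rcases eq_or_swap hP (fun o ho h1 h2 => (hkey o h1 h2).mpr ho) with h | h
  · refine ⟨e2, fun t => ?_⟩
    rw [← mem_pull, h]
  · refine ⟨(Equiv.swap u0 v0).trans e2, fun t => ?_⟩
    rw [← h, mem_pull, mem_pull, Finset.map_map]
    rfl

theorem exists_std_labelled (hα : Fintype.card α = 24) {B : Set (Finset α)} (hB : IsSteinerSystem 5 8 B)
    {n : ℕ} (hn : n ≤ 5) (x0 : Fin n ↪ GolayPt) (x : Fin n ↪ α) :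
    ∃ e : GolayPt ≃ α, (∀ i, e (x0 i) = x i) ∧ ∀ t, t.map e.toEmbedding ∈ B ↔ t ∈ octads := by
  obtain ⟨e, he⟩ := exists_std hα hB
  obtain ⟨g, hg, hgx⟩ := exists_emb_of_le hn x0 (x.trans e.symm.toEmbedding)
  refine ⟨g.trans e, ?_, ?_⟩
  · intro i
    rw [Equiv.trans_apply, hgx]
    exact e.apply_symm_apply _
  · intro t
    rw [M24_eq_octads, mem_aut_iff] at hg
    have : t.map (g.trans e).toEmbedding = (t.map g.toEmbedding).map e.toEmbedding := by
      rw [Finset.map_map]; rfl
    rw [this, he, hg]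

theorem exists_iso (hα : Fintype.card α = 24) (hβ : Fintype.card β = 24) {B : Set (Finset α)}
    {B' : Set (Finset β)} (hB : IsSteinerSystem 5 8 B) (hB' : IsSteinerSystem 5 8 B') {n : ℕ} (hn : n ≤ 5)
    (x : Fin n ↪ α) (y : Fin n ↪ β) :
    ∃ e : α ≃ β, (∀ i, e (x i) = y i) ∧ ∀ s, s.map e.toEmbedding ∈ B' ↔ s ∈ B := by
  obtain ⟨x0⟩ : Nonempty (Fin n ↪ GolayPt) :=
    Function.Embedding.nonempty_of_card_le (by rw [Fintype.card_fin, card_pt]; omega)
  obtain ⟨e, he, hs⟩ := exists_std_labelled hα hB hn x0 x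
  obtain ⟨e', he', hs'⟩ := exists_std_labelled hβ hB' hn x0 y
  refine ⟨e.symm.trans e', ?_, ?_⟩
  · intro i
    rw [Equiv.trans_apply, ← he i, Equiv.symm_apply_apply, he' i]
  · intro s
    have e1 : s.map (e.symm.trans e').toEmbedding = (s.map e.symm.toEmbedding).map e'.toEmbedding := by
      rw [Finset.map_map]; rfl
    rw [e1, hs', ← hs, map_map_symm]

theorem iso (hα : Fintype.card α = 24) (hβ : Fintype.card β = 24) {B : Set (Finset α)}
    {B' : Set (Finset β)} (hB : IsSteinerSystem 5 8 B) (hB' : IsSteinerSystem 5 8 B') : SetSystemIso B B' := by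
  obtain ⟨x⟩ : Nonempty (Fin 0 ↪ α) := Function.Embedding.nonempty_of_card_le (by simp)
  obtain ⟨y⟩ : Nonempty (Fin 0 ↪ β) := Function.Embedding.nonempty_of_card_le (by simp)
  obtain ⟨e, -, he⟩ := exists_iso hα hβ hB hB' (by norm_num) x y
  exact iso_of e he

theorem aut_pretransitive (hα : Fintype.card α = 24) {B : Set (Finset α)}
    (hB : IsSteinerSystem 5 8 B) : MulAction.IsMultiplyPretransitive (setSystemAut B) α 5 := by
  rw [MulAction.isMultiplyPretransitive_iff]
  intro x y
  obtain ⟨e, he, hs⟩ := exists_iso hα hα hB hB le_rfl x y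
  refine ⟨⟨e, mem_aut_iff.mpr hs⟩, ?_⟩
  ext i
  exact he i

/-- two S(5,8,24) on the same points sharing all blocks through one point are equal -/
theorem eq_of_point (hα : Fintype.card α = 24) {B B' : Set (Finset α)} (hB : IsSteinerSystem 5 8 B)
    (hB' : IsSteinerSystem 5 8 B') (p : α) (h : ∀ b ∈ B, p ∈ b → b ∈ B') : B = B' := by
  obtain ⟨e, he, hs⟩ := exists_std_labelled hα hB (n := 1) (by norm_num)
    ⟨fun _ => u0, fun i j _ => Subsingleton.elim i j⟩ ⟨fun _ => p, fun i j _ => Subsingleton.elim i j⟩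
  have hep : e u0 = p := he 0
  have hP := steiner_pull e hB'
  have hsub : ∀ o ∈ octads, u0 ∈ o → o ∈ pull e B' := by
    intro o ho h1
    rw [mem_pull]
    apply h
    · rw [hs]; exact ho
    · rw [← hep]
      exact mem_map_of_mem _ h1
  have heq : pull e B' = octads := by
    apply eq_octads hP (fun o ho h1 _ => hsub o ho h1) (hsub _ (kL_octad _ (by decide)) last_mem.1)
      (kL_octad _ (by decide)) (inter_pair_one last_mem.1 last_mem.2)
  ext s
  rw [← map_map_symm e s, hs, ← heq, mem_pull]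

end Cfsg.Agent.Lib.S5824
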