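import Mathlib
import Cfsg.Agent.Lib.S5824Iso

/-!
helper8: every S(4,7,23) is the derived design of an S(5,8,24); uniqueness.
-/
set_option autoImplicit false

namespace Cfsg.Agent.Lib.S4723

open Cfsg Finset Cfsg.Agent.Lib.Golay Cfsg.Agent.Lib.GolayFix Cfsg.Agent.Lib.Steiner Cfsg.Agent.Lib.SteinerTransport
open Cfsg.Agent.Lib.S3622 (deriv steiner_deriv notMem_map)
open Cfsg.Agent.Lib.S5824

variable {α β : Type*} [Fintype α] [DecidableEq α] [Fintype β] [DecidableEq β]

/-- add the new point -/
def up (b : Finset α) : Finset (Option α) := insert none (b.map Function.Embedding.some)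

theorem mem_up_none (b : Finset α) : none ∈ up b := mem_insert_self _ _

theorem mem_up_some {b : Finset α} {a : α} : some a ∈ up b ↔ a ∈ b := by simp [up]

theorem card_up (b : Finset α) : (up b).card = b.card + 1 := by
  unfold up
  rw [card_insert_of_notMem (S4511.none_notMem b), card_map]

theorem up_inter (b c : Finset α) : up b ∩ up c = up (b ∩ c) := by
  ext x
  cases x with
  | none => simp [mem_up_none]
  | some a => simp [mem_up_some]

theorem up_inj {b c : Finset α} (h : up b = up c) : b = c := by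
  ext a
  rw [← mem_up_some, h, mem_up_some]

theorem inter_odd (hα : Fintype.card α = 23) {B : Set (Finset α)} (hB : IsSteinerSystem 4 7 B) {b c : Finset α}
    (hb : b ∈ B) (hc : c ∈ B) : (b ∩ c).card % 2 = 1 := by
  by_cases h : b = c
  · subst h; rw [inter_self, hB.1 b hb]
  · have hn := heptad_numbers hα hB hc
    have h0 := ne_of_nn_zero hn.1 hb
    have h2 := ne_of_nn_zero hn.2.2.1 hb
    have h4 : (b ∩ c).card < 4 := by
      by_contra hlt
      exact h (eq_of_le_card_inter hB hb hc (not_lt.1 hlt))
    omega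

theorem exists_off (hα : Fintype.card α = 23) {B : Set (Finset α)} (hB : IsSteinerSystem 4 7 B) (u : α) :
    ∃ b ∈ B, u ∉ b := by
  by_contra hcon
  push Not at hcon
  have h0 := card_containing hB ∅ (by simp)
  have h1 := card_containing hB {u} (by simp)
  simp only [card_empty, Nat.sub_zero, hα, empty_subset, filter_true, card_singleton, singleton_subset_iff] at h0 h1
  have e : ((bl B).filter fun b => u ∈ b) = bl B := by
    rw [filter_eq_self]
    intro b hb
    exact hcon b ((mem_bl b).mp hb)
  rw [e] at h1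
  have a1 : Nat.choose 7 4 = 35 := by decide
  have a2 : Nat.choose 23 4 = 8855 := by decide
  have a3 : Nat.choose (7 - 1) (4 - 1) = 20 := by decide
  have a4 : Nat.choose (23 - 1) (4 - 1) = 1540 := by decide
  rw [a1, a2] at h0
  rw [a3, a4] at h1
  omega

/-- **one point extension** -/
theorem exists_ext (hα : Fintype.card α = 23) {B : Set (Finset α)} (hB : IsSteinerSystem 4 7 B) :
    ∃ C : Set (Finset (Option α)), IsSteinerSystem 5 8 C ∧ ∀ s : Finset α, up s ∈ C ↔ s ∈ B := by
  obtain ⟨u⟩ : Nonempty α := Fintype.card_pos_iff.mp (by omega)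
  have hα2 : Fintype.card {x // x ≠ u} = 22 := by
    rw [Fintype.card_subtype_compl, Fintype.card_subtype_eq, hα]
  have hG1 : Fintype.card {x // x ≠ u0} = 23 := by
    rw [Fintype.card_subtype_compl, Fintype.card_subtype_eq, card_pt]
  set v1 : {x // x ≠ u0} := ⟨v0, u0_ne_v0.symm⟩ with hv1
  have hG2 : Fintype.card {x // x ≠ v1} = 22 := by
    rw [Fintype.card_subtype_compl, Fintype.card_subtype_eq, hG1]
  have hD := steiner_deriv u hB
  have hD0 := steiner_deriv v1 (steiner_deriv u0 octads_steiner)
  obtain ⟨x⟩ : Nonempty (Fin 3 ↪ {x // x ≠ v1}) := Function.Embedding.nonempty_of_card_le (by simp [hG2])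
  obtain ⟨x'⟩ : Nonempty (Fin 3 ↪ {x // x ≠ u}) := Function.Embedding.nonempty_of_card_le (by simp [hα2])
  obtain ⟨e, -, he⟩ := S3622.iso hG2 hα2 hD0 hD x x'
  set e1 : {x // x ≠ u0} ≃ α := extE v1 u e with he1
  have he1v : e1 v1 = u := extE_self _ _ _
  have hkey : ∀ s : Finset {x // x ≠ u0}, v1 ∈ s → (s.map e1.toEmbedding ∈ B ↔ s ∈ deriv u0 octads) := by
    intro s hs
    obtain ⟨r, rfl⟩ := exists_of_mem hs
    exact extE_iff (he r)
  set E : GolayPt ≃ Option α := (Equiv.optionSubtypeNe u0).symm.trans (Equiv.optionCongr e1) with hE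
  have hE0 : E u0 = none := by simp [hE]
  have hEv : ∀ x : {x // x ≠ u0}, E x.1 = some (e1 x) := by
    intro x; simp [hE, x.2]
  have hEv0 : E v0 = some u := by rw [← he1v]; exact hEv v1
  set w : Finset α → Finset GolayPt := fun b => (up b).map E.symm.toEmbedding with hw
  have mem_w : ∀ (b : Finset α) (x : GolayPt), x ∈ w b ↔ E x ∈ up b := by
    intro b x
    rw [hw]
    simp only
    rw [mem_map_equiv, Equiv.symm_symm]
  have hwu : ∀ b, u0 ∈ w b := by
    intro b
    rw [mem_w, hE0]; exact mem_up_none b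
  have hwv : ∀ b, v0 ∈ w b ↔ u ∈ b := by
    intro b
    rw [mem_w, hEv0, mem_up_some]
  have hwi : ∀ b c, (w b ∩ w c).card = (b ∩ c).card + 1 := by
    intro b c
    rw [hw]
    simp only
    rw [← map_inter, card_map, up_inter, card_up]
  have hwc : ∀ b, (w b).card = b.card + 1 := by
    intro b
    rw [hw]
    simp only
    rw [card_map, card_up]
  -- octads through u0 and v0 correspond to blocks through u
  have hwo : ∀ b, u ∈ b → (b ∈ B ↔ w b ∈ octads) := by
    intro b hb
    have h1 : w b = insert u0 ((b.map e1.symm.toEmbedding).map (Function.Embedding.subtype _)) := by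
      ext x
      rw [mem_w]
      by_cases hx : x = u0
      · subst hx
        rw [hE0]
        exact iff_of_true (mem_up_none b) (mem_insert_self _ _)
      · have := hEv ⟨x, hx⟩
        simp only at this
        rw [this, mem_up_some, mem_insert, mem_map]
        constructor
        · intro h
          right
          exact ⟨⟨x, hx⟩, by rw [mem_map_equiv, Equiv.symm_symm]; exact h, rfl⟩
        · rintro (h | ⟨⟨x', hx'⟩, h, rfl⟩)
          · exact absurd h hx
          · rw [mem_map_equiv, Equiv.symm_symm] at h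
            exact h
    have h2 := hkey (b.map e1.symm.toEmbedding) (by
      rw [mem_map_equiv, Equiv.symm_symm, he1v]; exact hb)
    rw [map_map_symm] at h2
    rw [h2, h1]
    rfl
  have hoct : ∀ o ∈ octads, u0 ∈ o → v0 ∈ o → ∃ c ∈ B, o = w c := by
    intro o ho h1 h2
    have h3 : ∃ c : Finset α, o = w c := by
      refine ⟨(o.map E.toEmbedding).eraseNone, ?_⟩
      ext x
      rw [mem_w]
      by_cases hx : x = u0
      · subst hx
        rw [hE0]
        exact iff_of_true h1 (mem_up_none _)
      · have := hEv ⟨x, hx⟩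
        simp only at this
        rw [this, mem_up_some, mem_eraseNone, mem_map_equiv, ← this, Equiv.symm_apply_apply]
    obtain ⟨c, rfl⟩ := h3
    refine ⟨c, ?_, rfl⟩
    rw [hwo c ((hwv c).mp h2)]
    exact ho
  have hmo : ∀ b ∈ B, w b ∈ Sup ∨ symmDiff (w b) {u0, v0} ∈ Sup := by
    intro b hb
    apply mem_or
    intro o ho h1 h2
    obtain ⟨c, hc, rfl⟩ := hoct o ho h1 h2
    rw [hwi, Nat.even_add_one, Nat.even_iff]
    have := inter_odd hα hB hc hb
    omega
  have heven : ∀ b ∈ B, ∀ c ∈ B, Even (w b ∩ w c).card := by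
    intro b hb c hc
    rw [hwi, Nat.even_add_one, Nat.even_iff]
    have := inter_odd hα hB hb hc
    omega
  -- a common framework for the two cases
  have finish : ∀ τ : Equiv.Perm GolayPt, (∀ b ∈ B, (w b).map τ.toEmbedding ∈ octads) →
      ∃ C : Set (Finset (Option α)), IsSteinerSystem 5 8 C ∧ ∀ s : Finset α, up s ∈ C ↔ s ∈ B := by
    intro τ hτ
    have hC := steiner_pull (E.symm.trans τ) octads_steiner
    have hup : ∀ b ∈ B, up b ∈ pull (E.symm.trans τ) octads := by
      intro b hb
      rw [mem_pull]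
      have := hτ b hb
      rw [hw] at this
      simp only at this
      rw [Finset.map_map] at this
      exact this
    refine ⟨pull (E.symm.trans τ) octads, hC, fun s => ⟨?_, hup s⟩⟩
    intro hs
    have hsc : s.card = 7 := by
      have := hC.1 _ hs
      rw [card_up] at this
      omega
    obtain ⟨r, hr, hrc⟩ := exists_subset_card_eq (show 4 ≤ s.card by omega)
    obtain ⟨b, ⟨hb, hrb⟩, -⟩ := hB.2 r hrc
    have : up s = up b := by
      apply eq_of_le_card_inter hC hs (hup b hb)
      rw [up_inter, card_up]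
      have := card_le_card (subset_inter hr hrb)
      omega
    rw [up_inj this]; exact hb
  obtain ⟨b0, hb0, hub0⟩ := exists_off hα hB u
  have hv0 : v0 ∉ w b0 := fun h => hub0 ((hwv b0).mp h)
  have hx0 := inter_pair_one (hwu b0) hv0
  rcases hmo b0 hb0 with h0 | h0
  · apply finish 1
    intro b hb
    have h1 := mem_Sup_of_pair (hmo b hb) h0 hx0 (heven b hb b0 hb0)
    have h2 : (w b).map (1 : Equiv.Perm GolayPt).toEmbedding = w b := Finset.map_refl
    rw [h2]
    exact ⟨h1, by rw [hwc, hB.1 b hb]⟩
  · apply finish (Equiv.swap u0 v0)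
    intro b hb
    by_cases hub : u ∈ b
    · rw [map_swap_of_mem (hwu b) ((hwv b).mpr hub)]
      exact (hwo b hub).mp hb
    · have hvb : v0 ∉ w b := fun h => hub ((hwv b).mp h)
      refine ⟨?_, by rw [card_map, hwc, hB.1 b hb]⟩
      rw [map_swap_of_one (hwu b) hvb]
      rcases hmo b hb with h | h
      · exfalso
        have h1 := Nat.even_iff.mpr (even_inter h h0)
        rw [card_inter_symmDiff, inter_pair_one (hwu b) hvb, Nat.even_add] at h1
        exact absurd (h1.mp (heven b hb b0 hb0)) (by decide)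
      · exact h

theorem up_map (e : Option α ≃ Option β) (h : e none = none) (s : Finset α) :
    (up s).map e.toEmbedding = up (s.map e.removeNone.toEmbedding) := by
  unfold up
  rw [Finset.map_insert, Finset.map_map, Finset.map_map]
  congr 1
  · congr 1
    ext a
    show _ ∈ e (some a) ↔ _ ∈ some (e.removeNone a)
    rw [S4511.removeNone_spec h]

theorem exists_iso (hα : Fintype.card α = 23) (hβ : Fintype.card β = 23) {B : Set (Finset α)}
    {B' : Set (Finset β)} (hB : IsSteinerSystem 4 7 B) (hB' : IsSteinerSystem 4 7 B') {n : ℕ} (hn : n ≤ 4)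
    (x : Fin n ↪ α) (y : Fin n ↪ β) :
    ∃ e : α ≃ β, (∀ i, e (x i) = y i) ∧ ∀ s, s.map e.toEmbedding ∈ B' ↔ s ∈ B := by
  obtain ⟨C, hC, hCB⟩ := exists_ext hα hB
  obtain ⟨C', hC', hCB'⟩ := exists_ext hβ hB'
  obtain ⟨e, he, hs⟩ := S5824.exists_iso (by rw [Fintype.card_option, hα]) (by rw [Fintype.card_option, hβ])
    hC hC' (n := n + 1) (by omega) (S4511.consNone x) (S4511.consNone y)
  have h0 : e none = none := he 0
  have hr := S4511.removeNone_spec h0
  refine ⟨e.removeNone, ?_, ?_⟩
  · intro i
    apply Option.some_injective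
    rw [hr]
    exact he i.succ
  · intro s
    rw [← hCB, ← hCB', ← up_map e h0, hs]

theorem iso (hα : Fintype.card α = 23) (hβ : Fintype.card β = 23) {B : Set (Finset α)}
    {B' : Set (Finset β)} (hB : IsSteinerSystem 4 7 B) (hB' : IsSteinerSystem 4 7 B') : SetSystemIso B B' := by
  obtain ⟨x⟩ : Nonempty (Fin 0 ↪ α) := Function.Embedding.nonempty_of_card_le (by simp)
  obtain ⟨y⟩ : Nonempty (Fin 0 ↪ β) := Function.Embedding.nonempty_of_card_le (by simp)
  obtain ⟨e, -, he⟩ := exists_iso hα hβ hB hB' (by norm_num) x y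
  exact iso_of e he

theorem aut_pretransitive (hα : Fintype.card α = 23) {B : Set (Finset α)}
    (hB : IsSteinerSystem 4 7 B) : MulAction.IsMultiplyPretransitive (setSystemAut B) α 4 := by
  rw [MulAction.isMultiplyPretransitive_iff]
  intro x y
  obtain ⟨e, he, hs⟩ := exists_iso hα hα hB hB le_rfl x y
  refine ⟨⟨e, mem_aut_iff.mpr hs⟩, ?_⟩
  ext i
  exact he i

/-- an automorphism of an S(4,7,23) extends to its one point extension -/
theorem aut_ext (hα : Fintype.card α = 23) {B : Set (Finset α)} {C : Set (Finset (Option α))}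
    (hC : IsSteinerSystem 5 8 C) (hCB : ∀ s : Finset α, up s ∈ C ↔ s ∈ B) {g : Equiv.Perm α}
    (hg : g ∈ setSystemAut B) : g.optionCongr ∈ setSystemAut C := by
  rw [mem_aut_iff] at hg
  have hup : ∀ s : Finset α, (up s).map g.optionCongr.toEmbedding = up (s.map g.toEmbedding) := by
    intro s
    unfold up
    rw [Finset.map_insert, Finset.map_map, Finset.map_map]
    rfl
  have heq : C = pull g.optionCongr C := by
    apply eq_of_point (by rw [Fintype.card_option, hα]) hC (steiner_pull _ hC) none
    intro b hb hn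
    have : ∃ s : Finset α, b = up s := by
      rcases S4511.cases_option b with ⟨-, s, hs⟩ | ⟨h, -⟩
      · exact ⟨s, hs⟩
      · exact absurd hn h
    obtain ⟨s, rfl⟩ := this
    rw [mem_pull, hup, hCB, hg, ← hCB]
    exact hb
  rw [mem_aut_iff]
  intro s
  rw [← mem_pull, ← heq]

end Cfsg.Agent.Lib.S4723
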