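import Mathlib
import Cfsg.Agent.Lib.S4723
import Cfsg.Agent.Lib.GolayM21
import Cfsg.Prelude.Def_Sporadic

/-!
helper8: automorphism groups of S(5,8,24), S(4,7,23), S(3,6,22).
-/
set_option autoImplicit false

namespace Cfsg.Agent.Lib.SteinerAut

open Cfsg Finset Cfsg.Agent.Lib.Golay Cfsg.Agent.Lib.Steiner Cfsg.Agent.Lib.SteinerTransport
open Cfsg.Agent.Lib.S3622 (deriv steiner_deriv notMem_map)
open Cfsg.Agent.Lib.S5824 Cfsg.Agent.Lib.S4723

section congr
variable {α β : Type*} [DecidableEq α] [DecidableEq β]

theorem map_conj (e : α ≃ β) (g : Equiv.Perm α) (s : Finset β) :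
    s.map ((e.symm.trans g).trans e).toEmbedding = ((s.map e.symm.toEmbedding).map g.toEmbedding).map e.toEmbedding := by
  rw [Finset.map_map, Finset.map_map]; rfl

theorem conj_mem {B : Set (Finset α)} {B' : Set (Finset β)} (e : α ≃ β)
    (he : ∀ s : Finset α, s.map e.toEmbedding ∈ B' ↔ s ∈ B) {g : Equiv.Perm α} (hg : g ∈ setSystemAut B) :
    (e.symm.trans g).trans e ∈ setSystemAut B' := by
  rw [mem_aut_iff] at hg ⊢
  intro s
  rw [map_conj, he, hg, ← he, map_map_symm]

/-- isomorphic systems have isomorphic automorphism groups -/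
def autCongr {B : Set (Finset α)} {B' : Set (Finset β)} (e : α ≃ β)
    (he : ∀ s : Finset α, s.map e.toEmbedding ∈ B' ↔ s ∈ B) : setSystemAut B ≃* setSystemAut B' where
  toFun g := ⟨(e.symm.trans g.1).trans e, conj_mem e he g.2⟩
  invFun g := ⟨(e.trans g.1).trans e.symm, by
    have := conj_mem (B := B') (B' := B) e.symm (fun s => by rw [← he, map_map_symm]) g.2
    rwa [Equiv.symm_symm] at this⟩
  left_inv g := by
    apply Subtype.ext
    apply Equiv.ext
    intro a
    simp
  right_inv g := by
    apply Subtype.ext
    apply Equiv.ext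
    intro a
    simp
  map_mul' g h := by
    apply Subtype.ext
    apply Equiv.ext
    intro a
    simp

end congr

variable {α : Type*} [Fintype α] [DecidableEq α]

theorem aut24 (hα : Fintype.card α = 24) {B : Set (Finset α)} (hB : IsSteinerSystem 5 8 B) :
    IsM24 (setSystemAut B) := by
  obtain ⟨e, he⟩ := S5824.exists_std hα hB
  have φ := autCongr e he
  rw [← M24_eq_octads] at φ
  exact ⟨isSimpleGroup_of_mulEquiv φ M24_simple, by rw [← Nat.card_congr φ.toEquiv, natCard_M24]⟩

theorem aut23 (hα : Fintype.card α = 23) {B : Set (Finset α)} (hB : IsSteinerSystem 4 7 B) :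
    IsM23 (setSystemAut B) := by
  obtain ⟨C, hC, hCB⟩ := exists_ext hα hB
  obtain ⟨E, hE, hEC⟩ := exists_std_labelled (α := Option α) (by rw [Fintype.card_option, hα]) hC (n := 1) (by norm_num)
    ⟨fun _ => u0, fun i j _ => Subsingleton.elim i j⟩ ⟨fun _ => none, fun i j _ => Subsingleton.elim i j⟩
  have hE0 : E u0 = none := hE 0
  have hE0' : E.symm none = u0 := by rw [← hE0, Equiv.symm_apply_apply]
  have hEC' : ∀ s : Finset (Option α), s.map E.symm.toEmbedding ∈ octads ↔ s ∈ C := by
    intro s
    rw [← hEC, map_map_symm]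
  have hmem : ∀ g ∈ setSystemAut B, (E.trans g.optionCongr).trans E.symm ∈ M24 := by
    intro g hg
    rw [M24_eq_octads]
    have := conj_mem E.symm hEC' (aut_ext hα hC hCB hg)
    rwa [Equiv.symm_symm] at this
  let φ : setSystemAut B →* MulAction.stabilizer M24 u0 :=
    { toFun := fun g => ⟨⟨(E.trans g.1.optionCongr).trans E.symm, hmem g.1 g.2⟩, by
        rw [MulAction.mem_stabilizer_iff]
        show E.symm (g.1.optionCongr (E u0)) = u0
        rw [hE0, Equiv.optionCongr_apply, Option.map_none, hE0']⟩
      map_one' := by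
        apply Subtype.ext
        apply Subtype.ext
        apply Equiv.ext
        intro x
        show E.symm ((1 : Equiv.Perm α).optionCongr (E x)) = x
        have : (1 : Equiv.Perm α).optionCongr = 1 := by
          ext a : 1
          cases a <;> rfl
        rw [this, Equiv.Perm.one_apply, Equiv.symm_apply_apply]
      map_mul' := by
        intro g h
        apply Subtype.ext
        apply Subtype.ext
        apply Equiv.ext
        intro x
        show E.symm ((g.1 * h.1).optionCongr (E x)) =
          E.symm (g.1.optionCongr (E (E.symm (h.1.optionCongr (E x)))))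
        rw [Equiv.apply_symm_apply]
        congr 1
        cases E x <;> rfl }
  have hinj : Function.Injective φ := by
    rw [injective_iff_map_eq_one]
    intro g hg
    apply Subtype.ext
    apply Equiv.ext
    intro a
    have h1 : ∀ x, E.symm (g.1.optionCongr (E x)) = x := by
      intro x
      have := congrArg (fun k : MulAction.stabilizer M24 u0 => (k : M24).1 x) hg
      exact this
    have h2 := h1 (E.symm (some a))
    rw [Equiv.apply_symm_apply, Equiv.optionCongr_apply, Option.map_some] at h2
    have h3 := E.symm.injective h2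
    exact Option.some_injective _ h3
  have hsurj : Function.Surjective φ := by
    rintro ⟨⟨h, hh⟩, hhu⟩
    have hhu' : h u0 = u0 := hhu
    rw [M24_eq_octads] at hh
    have hk := conj_mem E hEC hh
    set k : Equiv.Perm (Option α) := (E.symm.trans h).trans E with hkdef
    have hk0 : k none = none := by
      rw [hkdef, Equiv.trans_apply, Equiv.trans_apply, hE0', hhu', hE0]
    have hg : k.removeNone ∈ setSystemAut B := by
      rw [mem_aut_iff] at hk ⊢
      intro s
      rw [← hCB, ← hCB, ← up_map k hk0, hk]
    refine ⟨⟨k.removeNone, hg⟩, ?_⟩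
    apply Subtype.ext
    apply Subtype.ext
    apply Equiv.ext
    intro x
    show E.symm (k.removeNone.optionCongr (E x)) = h x
    have hko : k.removeNone.optionCongr = k := by
      ext a : 1
      cases a with
      | none => rw [hk0]; rfl
      | some a => rw [Equiv.optionCongr_apply, Option.map_some, S4511.removeNone_spec hk0]
    rw [hko, hkdef, Equiv.trans_apply, Equiv.trans_apply, Equiv.symm_apply_apply, Equiv.symm_apply_apply]
  have ψ := MulEquiv.ofBijective φ ⟨hinj, hsurj⟩
  exact ⟨isSimpleGroup_of_mulEquiv ψ.symm (M23_simple u0), by rw [Nat.card_congr ψ.toEquiv, card_stab_one]⟩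

end Cfsg.Agent.Lib.SteinerAut
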