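import Mathlib
import Cfsg.Agent.Lib.SteinerAut

/-!
helper8: the automorphism group of S(3,6,22).
-/
set_option autoImplicit false

namespace Cfsg.Agent.Lib.Aut22

open Cfsg Finset Cfsg.Agent.Lib.Golay Cfsg.Agent.Lib.Steiner Cfsg.Agent.Lib.SteinerTransport
open Cfsg.Agent.Lib.S3622 (deriv steiner_deriv notMem_map)
open Cfsg.Agent.Lib.S5824 Cfsg.Agent.Lib.S4723

variable {α : Type*} [Fintype α] [DecidableEq α]

theorem card_maps {n : ℕ} {b : Finset α} (hb : b.card = n) :
    (univ.filter fun h : Fin n ↪ α => univ.map h = b).card = n.factorial := by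
  have h1 : Fintype.card (Fin n ↪ b) = n.factorial := by
    rw [Fintype.card_embedding_eq, Fintype.card_coe, hb, Fintype.card_fin, Nat.descFactorial_self]
  rw [← h1, ← Finset.card_univ]
  symm
  apply Finset.card_bij (fun (f : Fin n ↪ b) _ => f.trans (Function.Embedding.subtype _))
  · intro f _
    rw [mem_filter]
    refine ⟨mem_univ _, ?_⟩
    apply eq_of_subset_of_card_le
    · intro a ha
      obtain ⟨i, -, rfl⟩ := mem_map.mp ha
      exact (f i).2
    · rw [card_map, hb]; simp
  · intro f _ g _ h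
    ext i
    exact DFunLike.congr_fun h i
  · intro h hh
    rw [mem_filter] at hh
    refine ⟨⟨fun i => ⟨h i, by rw [← hh.2]; exact mem_map_of_mem _ (mem_univ i)⟩, ?_⟩, mem_univ _, ?_⟩
    · intro i j hij
      exact h.injective (congrArg Subtype.val hij)
    · ext i; rfl

/-- frames: labelled blocks together with a point outside -/
noncomputable def frames (B : Set (Finset α)) : Finset ((Fin 6 ↪ α) × α) := by
  classical exact univ.filter fun p => univ.map p.1 ∈ B ∧ p.2 ∉ univ.map p.1

theorem mem_frames {B : Set (Finset α)} {p : (Fin 6 ↪ α) × α} :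
    p ∈ frames B ↔ univ.map p.1 ∈ B ∧ p.2 ∉ univ.map p.1 := by
  classical
  simp [frames]

theorem card_frames (hα : Fintype.card α = 22) {B : Set (Finset α)} (hB : IsSteinerSystem 3 6 B) :
    (frames B).card = 887040 := by
  classical
  rw [Finset.card_eq_sum_card_fiberwise (f := fun p => univ.map p.1) (t := bl B)]
  · have : ∀ b ∈ bl B, ((frames B).filter fun p => univ.map p.1 = b).card = 11520 := by
      intro b hb
      rw [mem_bl] at hb
      have hb6 := hB.1 b hb
      have e : ((frames B).filter fun p => univ.map p.1 = b) =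
          (univ.filter fun h : Fin 6 ↪ α => univ.map h = b) ×ˢ bᶜ := by
        ext ⟨h, y⟩
        simp only [mem_filter, mem_frames, mem_product, mem_univ, true_and, mem_compl]
        constructor
        · rintro ⟨⟨h1, h2⟩, h3⟩
          exact ⟨h3, by rw [← h3]; exact h2⟩
        · rintro ⟨h3, h2⟩
          exact ⟨⟨by rw [h3]; exact hb, by rw [h3]; exact h2⟩, h3⟩
      rw [e, card_product, card_maps hb6, card_compl, hα, hb6]
      decide
    rw [sum_congr rfl this, sum_const, S0427.card_blocks hα hB]
    rfl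
  · intro p hp
    rw [mem_coe, mem_frames] at hp
    rw [mem_coe, mem_bl]
    exact hp.1

omit [Fintype α] in
theorem image_eq_map (h : Fin 6 ↪ α) : univ.image (h : Fin 6 → α) = univ.map h := by
  rw [Finset.map_eq_image]

theorem card_aut (hα : Fintype.card α = 22) {B : Set (Finset α)} (hB : IsSteinerSystem 3 6 B) :
    Nat.card (setSystemAut B) = 887040 := by
  classical
  have hpos : (frames B).Nonempty := by
    rw [← card_pos, card_frames hα hB]; norm_num
  obtain ⟨⟨h0, y0⟩, h00⟩ := hpos
  rw [mem_frames] at h00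
  have hmap : ∀ (g : Equiv.Perm α) (s : Finset α), s.map g.toEmbedding = s.map g.toEmbedding := fun _ _ => rfl
  let φ : setSystemAut B → frames B := fun g => ⟨(h0.trans g.1.toEmbedding, g.1 y0), by
    rw [mem_frames]
    have h1 := (mem_aut_iff.mp g.2 (univ.map h0)).mpr h00.1
    rw [Finset.map_map] at h1
    refine ⟨h1, ?_⟩
    rw [← Finset.map_map]
    intro h2
    apply h00.2
    rw [mem_map] at h2
    obtain ⟨a, ha, hag⟩ := h2
    rwa [← g.1.injective hag]⟩
  have hinj : Function.Injective φ := by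
    intro g g' hgg
    have h1 : h0.trans g.1.toEmbedding = h0.trans g'.1.toEmbedding := congrArg (fun p => p.1.1) hgg
    have h2 : g.1 y0 = g'.1 y0 := congrArg (fun p => p.1.2) hgg
    have h3 : g'.1⁻¹ * g.1 = 1 := by
      apply S3622.rigid hα hB (H := univ.map h0) h00.1 (y := y0) h00.2
      · intro s hs
        have := (g'⁻¹ * g).2
        rw [mem_aut_iff] at this
        exact (this s).mpr hs
      · intro a ha
        rw [mem_map] at ha
        obtain ⟨i, -, rfl⟩ := ha
        have := DFunLike.congr_fun h1 i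
        rw [Equiv.Perm.mul_apply, Equiv.Perm.inv_eq_iff_eq]
        exact this
      · rw [Equiv.Perm.mul_apply, Equiv.Perm.inv_eq_iff_eq]
        exact h2
    apply Subtype.ext
    rw [inv_mul_eq_one] at h3
    exact h3.symm
  have hsurj : Function.Surjective φ := by
    rintro ⟨⟨h, y⟩, hf⟩
    have hf' := hf
    rw [mem_frames] at hf'
    obtain ⟨e, e1, e2, e3⟩ := S3622.exists_iso hα hα hB hB h0 h0.injective (by rw [image_eq_map]; exact h00.1)
      y0 (by rw [image_eq_map]; exact h00.2) h h.injective (by rw [image_eq_map]; exact hf'.1) y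
      (by rw [image_eq_map]; exact hf'.2)
    refine ⟨⟨e, mem_aut_iff.mpr e3⟩, ?_⟩
    apply Subtype.ext
    apply Prod.ext
    · ext i; exact e1 i
    · exact e2
  rw [Nat.card_congr (Equiv.ofBijective φ ⟨hinj, hsurj⟩), Nat.card_eq_fintype_card, Fintype.card_coe,
    card_frames hα hB]

theorem aut_pretransitive (hα : Fintype.card α = 22) {B : Set (Finset α)}
    (hB : IsSteinerSystem 3 6 B) : MulAction.IsMultiplyPretransitive (setSystemAut B) α 3 := by
  rw [MulAction.isMultiplyPretransitive_iff]
  intro x y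
  obtain ⟨e, he, hs⟩ := S3622.iso hα hα hB hB x y
  refine ⟨⟨e, mem_aut_iff.mpr hs⟩, ?_⟩
  ext i
  exact he i

/-- coordinates for an S(3,6,22) on the Golay points -/
theorem exists_coord (hα : Fintype.card α = 22) {B : Set (Finset α)} (hB : IsSteinerSystem 3 6 B) :
    ∃ c : α ≃ {x : GolayPt // x ≠ u0 ∧ x ≠ v0}, ∀ s : Finset α,
      s ∈ B ↔ insert u0 (insert v0 ((s.map c.toEmbedding).map (Function.Embedding.subtype _))) ∈ octads := by
  have hG1 : Fintype.card {x // x ≠ u0} = 23 := by
    rw [Fintype.card_subtype_compl, Fintype.card_subtype_eq, card_pt]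
  set v1 : {x // x ≠ u0} := ⟨v0, u0_ne_v0.symm⟩ with hv1
  have hG2 : Fintype.card {x // x ≠ v1} = 22 := by
    rw [Fintype.card_subtype_compl, Fintype.card_subtype_eq, hG1]
  have hD0 := steiner_deriv v1 (steiner_deriv u0 octads_steiner)
  obtain ⟨x⟩ : Nonempty (Fin 3 ↪ {x // x ≠ v1}) := Function.Embedding.nonempty_of_card_le (by simp [hG2])
  obtain ⟨x'⟩ : Nonempty (Fin 3 ↪ α) := Function.Embedding.nonempty_of_card_le (by simp [hα])
  obtain ⟨e, -, he⟩ := S3622.iso hα hG2 hB hD0 x' x
  let d : {x // x ≠ v1} ≃ {x : GolayPt // x ≠ u0 ∧ x ≠ v0} :=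
    { toFun := fun z => ⟨z.1.1, z.1.2, fun h => z.2 (Subtype.ext h)⟩
      invFun := fun z => ⟨⟨z.1, z.2.1⟩, fun h => z.2.2 (congrArg Subtype.val h)⟩
      left_inv := fun z => rfl
      right_inv := fun z => rfl }
  refine ⟨e.trans d, fun s => ?_⟩
  rw [← he s]
  show insert u0 ((insert v1 ((s.map e.toEmbedding).map (Function.Embedding.subtype _))).map
    (Function.Embedding.subtype _)) ∈ octads ↔ _
  have : insert u0 ((insert v1 ((s.map e.toEmbedding).map (Function.Embedding.subtype _))).map
    (Function.Embedding.subtype _)) =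
    insert u0 (insert v0 ((s.map (e.trans d).toEmbedding).map (Function.Embedding.subtype _))) := by
    rw [Finset.map_insert]
    congr 2
    rw [Finset.map_map, Finset.map_map, Finset.map_map]
    rfl
  rw [this]

theorem two_fix {k : Equiv.Perm GolayPt} (h1 : k u0 = u0) (h2 : k v0 = v0) (x : GolayPt) :
    (x ≠ u0 ∧ x ≠ v0) ↔ (k x ≠ u0 ∧ k x ≠ v0) := by
  constructor
  · rintro ⟨a, b⟩
    refine ⟨fun e => a ?_, fun e => b ?_⟩
    · rw [← h1] at e; exact k.injective e
    · rw [← h2] at e; exact k.injective e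
  · rintro ⟨a, b⟩
    refine ⟨fun e => a ?_, fun e => b ?_⟩
    · rw [e, h1]
    · rw [e, h2]

/-- the stabiliser of two points acting on an S(3,6,22) -/
theorem exists_m22 (hα : Fintype.card α = 22) {B : Set (Finset α)} (hB : IsSteinerSystem 3 6 B) :
    ∃ φ : ↥(MulAction.stabilizer M24 u0 ⊓ MulAction.stabilizer M24 v0) →* setSystemAut B, Function.Injective φ := by
  obtain ⟨c, hc⟩ := exists_coord hα hB
  have hpres : ∀ h : ↥(MulAction.stabilizer M24 u0 ⊓ MulAction.stabilizer M24 v0), h.1.1 u0 = u0 ∧ h.1.1 v0 = v0 :=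
    fun h => ⟨h.2.1, h.2.2⟩
  have hiff : ∀ (h : ↥(MulAction.stabilizer M24 u0 ⊓ MulAction.stabilizer M24 v0)) (x : GolayPt),
      (x ≠ u0 ∧ x ≠ v0) ↔ (h.1.1 x ≠ u0 ∧ h.1.1 x ≠ v0) := by
    intro h x
    obtain ⟨h1, h2⟩ := hpres h
    exact two_fix h1 h2 x
  let r : ↥(MulAction.stabilizer M24 u0 ⊓ MulAction.stabilizer M24 v0) → Equiv.Perm {x : GolayPt // x ≠ u0 ∧ x ≠ v0} :=
    fun h => h.1.1.subtypePerm (fun x => (hiff h x).symm)
  have hr : ∀ h x, (r h x).1 = h.1.1 x.1 := fun h x => rfl
  have hmem : ∀ h, (c.trans (r h)).trans c.symm ∈ setSystemAut B := by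
    intro h
    rw [mem_aut_iff]
    intro s
    rw [hc, hc]
    have hM := mem_aut_iff.mp (le_of_eq M24_eq_octads h.1.2)
    obtain ⟨h1, h2⟩ := hpres h
    have heq : insert u0 (insert v0 (((s.map ((c.trans (r h)).trans c.symm).toEmbedding).map c.toEmbedding).map
        (Function.Embedding.subtype _))) =
        (insert u0 (insert v0 ((s.map c.toEmbedding).map (Function.Embedding.subtype _)))).map h.1.1.toEmbedding := by
      rw [Finset.map_insert, Finset.map_insert]
      congr 1
      · exact h1.symm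
      congr 1
      · exact h2.symm
      rw [Finset.map_map, Finset.map_map, Finset.map_map, Finset.map_map]
      congr 1
      apply DFunLike.ext
      intro a
      show (c (c.symm (r h (c a)))).1 = h.1.1 (c a).1
      rw [Equiv.apply_symm_apply, hr]
    rw [heq]
    exact hM _
  refine ⟨{ toFun := fun h => ⟨(c.trans (r h)).trans c.symm, hmem h⟩
            map_one' := ?_, map_mul' := ?_ }, ?_⟩
  · apply Subtype.ext
    apply Equiv.ext
    intro a
    show c.symm (r 1 (c a)) = a
    have : r 1 (c a) = c a := Subtype.ext (by rw [hr]; rfl)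
    rw [this, Equiv.symm_apply_apply]
  · intro g h
    apply Subtype.ext
    apply Equiv.ext
    intro a
    show c.symm (r (g * h) (c a)) = c.symm (r g (c (c.symm (r h (c a)))))
    rw [Equiv.apply_symm_apply]
    congr 1
  · rw [injective_iff_map_eq_one]
    intro h hh
    have h1 : ∀ a, c.symm (r h (c a)) = a := fun a => congrArg (fun k : setSystemAut B => k.1 a) hh
    apply Subtype.ext
    apply Subtype.ext
    apply Equiv.ext
    intro x
    show h.1.1 x = x
    by_cases hx : x ≠ u0 ∧ x ≠ v0
    · have h2 := h1 (c.symm ⟨x, hx⟩)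
      rw [Equiv.apply_symm_apply] at h2
      have h3 := c.symm.injective h2
      exact congrArg Subtype.val h3
    · obtain ⟨e1, e2⟩ := hpres h
      rw [not_and_or, not_not, not_not] at hx
      rcases hx with rfl | rfl
      · exact e1
      · exact e2

end Cfsg.Agent.Lib.Aut22
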