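import Cfsg.Agent.Lib.SylQ

/-!
Sylow subgroups of prime order and automorphisms.
-/

set_option autoImplicit false

namespace Cfsg.Agent.Lib.AutSyl

open Subgroup
open scoped Pointwise

variable {G : Type*} [Group G] [Finite G]

/-- a subgroup of prime order whose square does not divide the order, as a Sylow subgroup -/
noncomputable def syl {p : ℕ} [hp : Fact p.Prime] (P : Subgroup G) (hP : Nat.card P = p) (hv : ¬ p ^ 2 ∣ Nat.card G) :
    Sylow p G :=
  Sylow.ofCard P (by
    rw [hP, SylQ.factorization_eq_one hp.out Nat.card_pos.ne' (by rw [← hP]; exact Subgroup.card_subgroup_dvd_card P) hv,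
      pow_one])

theorem coe_syl {p : ℕ} [hp : Fact p.Prime] (P : Subgroup G) (hP : Nat.card P = p) (hv : ¬ p ^ 2 ∣ Nat.card G) :
    ((syl P hP hv : Sylow p G) : Subgroup G) = P := rfl

/-- conjugacy -/
theorem exists_conj {p : ℕ} [hp : Fact p.Prime] {P P' : Subgroup G} (hP : Nat.card P = p) (hP' : Nat.card P' = p)
    (hv : ¬ p ^ 2 ∣ Nat.card G) : ∃ g : G, ∀ y, y ∈ P ↔ g * y * g⁻¹ ∈ P' := by
  obtain ⟨g, hg⟩ := MulAction.exists_smul_eq G (syl P hP hv) (syl P' hP' hv)
  refine ⟨g, fun y => ?_⟩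
  have h1 : MulAut.conj g • P = P' := by
    have := congrArg Sylow.toSubgroup hg
    exact this
  rw [← h1, Subgroup.mem_smul_pointwise_iff_exists]
  constructor
  · intro hy
    exact ⟨y, hy, rfl⟩
  · rintro ⟨z, hz, h2⟩
    have h3 : g * z * g⁻¹ = g * y * g⁻¹ := h2
    have h4 : z = y := by simpa using h3
    rwa [← h4]

theorem index_modEq {p : ℕ} [hp : Fact p.Prime] {P K : Subgroup G} (hP : Nat.card P = p) (hv : ¬ p ^ 2 ∣ Nat.card G)
    (hN : normalizer (P : Set G) ≤ K) : K.index % p = 1 := by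
  have hPK : P ≤ K := le_trans Subgroup.le_normalizer hN
  have hvK : ¬ p ^ 2 ∣ Nat.card K := fun h => hv (h.trans (Subgroup.card_subgroup_dvd_card K))
  have hPK' : Nat.card (P.subgroupOf K) = p := by
    rw [Nat.card_congr (Subgroup.subgroupOfEquivOfLe hPK).toEquiv, hP]
  have h1 := card_sylow_modEq_one p G
  have h2 := card_sylow_modEq_one p K
  rw [(syl P hP hv).card_eq_index_normalizer] at h1
  rw [(syl (P.subgroupOf K) hPK' hvK).card_eq_index_normalizer] at h2
  have h3 : (normalizer ((P.subgroupOf K : Subgroup K) : Set K)).index * K.index = (normalizer (P : Set G)).index := by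
    rw [← Subgroup.subgroupOf_normalizer_eq hPK]
    exact Subgroup.relIndex_mul_index hN
  have h1' : (normalizer (P : Set G)).index ≡ 1 [MOD p] := h1
  have h2' : (normalizer ((P.subgroupOf K : Subgroup K) : Set K)).index ≡ 1 [MOD p] := h2
  rw [← h3] at h1'
  have h4 : K.index ≡ 1 [MOD p] := by
    have h5 := h2'.mul_right K.index
    rw [one_mul] at h5
    exact h5.symm.trans h1'
  have h5 : K.index % p = 1 % p := h4
  rw [h5, Nat.mod_eq_of_lt hp.out.one_lt]

theorem card_normalizer {p : ℕ} [hp : Fact p.Prime] {P : Subgroup G} (hP : Nat.card P = p)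
    (hC : ∀ g, (∀ y ∈ P, g * y = y * g) → g ∈ P) : ∃ m, Nat.card (normalizer (P : Set G)) = p * m ∧ m ∣ p - 1 := by
  have hcyc : IsCyclic P := isCyclic_of_prime_card hP
  have h1 : Nat.card P.normalizerMonoidHom.ker = p := by
    rw [Subgroup.normalizerMonoidHom_ker]
    have h2 : centralizer (P : Set G) = P := by
      apply le_antisymm
      · intro g hg
        apply hC
        intro y hy
        exact (Subgroup.mem_centralizer_iff.1 hg y hy).symm
      · haveI : IsMulCommutative P := inferInstance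
        exact Subgroup.le_centralizer P
    rw [h2, Nat.card_congr (Subgroup.subgroupOfEquivOfLe Subgroup.le_normalizer).toEquiv, hP]
  have h2 : Nat.card P.normalizerMonoidHom.range ∣ p - 1 := by
    have h3 := Subgroup.card_subgroup_dvd_card P.normalizerMonoidHom.range
    rw [IsCyclic.card_mulAut, hP, Nat.totient_prime hp.out] at h3
    exact h3
  refine ⟨_, ?_, h2⟩
  have h3 := Subgroup.card_mul_index P.normalizerMonoidHom.ker
  rw [h1, Subgroup.index_ker] at h3
  exact h3.symm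

/-- elements of order `p` commuting with the Sylow `p`-subgroup lie in it -/
theorem mem_of_commute {p : ℕ} [hp : Fact p.Prime] {P : Subgroup G} (hP : Nat.card P = p) (hv : ¬ p ^ 2 ∣ Nat.card G)
    {g : G} (hg : g ^ p = 1) (hC : ∀ y ∈ P, g * y = y * g) : g ∈ P := by
  have hle : zpowers g ≤ normalizer (P : Set G) := by
    rw [Subgroup.zpowers_le, Subgroup.mem_normalizer_iff]
    intro y
    constructor
    · intro hy
      rw [hC y hy, mul_assoc, mul_inv_cancel, mul_one]; exact hy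
    · intro hy
      have h1 := hC _ hy
      have h2 : y = g * y * g⁻¹ := by
        have h3 : g * (g * y * g⁻¹) = g * y := by rw [h1]; group
        exact (mul_left_cancel h3).symm
      rw [h2]; exact hy
  have hPp : IsPGroup p P := IsPGroup.of_card (n := 1) (by rw [hP, pow_one])
  have hgp : IsPGroup p (zpowers g) := by
    rintro ⟨y, hy⟩
    obtain ⟨n, rfl⟩ := Subgroup.mem_zpowers_iff.1 hy
    refine ⟨1, Subtype.ext ?_⟩
    rw [Subgroup.coe_pow, pow_one]
    show (g ^ n) ^ p = 1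
    rw [← zpow_natCast, ← zpow_mul, mul_comm, zpow_mul, zpow_natCast, hg, one_zpow]
  have h1 : IsPGroup p (P ⊔ zpowers g : Subgroup G) := hPp.to_sup_of_normal_left' hgp hle
  have h2 := (syl P hP hv).is_maximal' h1 (le_sup_left : P ≤ P ⊔ zpowers g)
  have h3 : P ⊔ zpowers g = P := h2
  rw [← h3]
  exact Subgroup.mem_sup_right (Subgroup.mem_zpowers g)

/-- restriction to an invariant subgroup -/
noncomputable def restr (α : G ≃* G) (M : Subgroup G) (h : ∀ y ∈ M, α y ∈ M) : M ≃* M :=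
  MulEquiv.ofBijective ((α.toMonoidHom.comp M.subtype).codRestrict M fun y => h y y.2)
    (Finite.injective_iff_bijective.1 (by
      intro a b hab
      apply Subtype.ext
      exact α.injective (congrArg Subtype.val hab)))

theorem coe_restr (α : G ≃* G) (M : Subgroup G) (h : ∀ y ∈ M, α y ∈ M) (y : M) : (restr α M h y : G) = α y := rfl

theorem two_pow_mod {a : ℕ} (h : 2 ^ a % 23 = 2) : a % 11 = 1 := by
  have h1 : 2 ^ a % 23 = 2 ^ (a % 11) % 23 := by
    conv_lhs => rw [← Nat.div_add_mod a 11, pow_add, pow_mul, Nat.mul_mod, Nat.pow_mod]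
    norm_num
  rw [h1] at h
  have h2 : a % 11 < 11 := Nat.mod_lt _ (by norm_num)
  interval_cases a % 11 <;> simp_all

theorem conj_pow' {x q : G} (h : q * x * q⁻¹ = x ^ 2) (a b : ℕ) : q ^ a * x ^ b * (q ^ a)⁻¹ = x ^ (2 ^ a * b) := by
  induction a generalizing b with
  | zero => simp
  | succ a ih =>
    have h1 : q * x ^ b * q⁻¹ = x ^ (2 * b) := by
      rw [pow_mul, ← h, conj_pow]
    calc q ^ (a + 1) * x ^ b * (q ^ (a + 1))⁻¹ = q ^ a * (q * x ^ b * q⁻¹) * (q ^ a)⁻¹ := by rw [pow_succ]; group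
    _ = x ^ (2 ^ (a + 1) * b) := by rw [h1, ih]; congr 1; ring

theorem step_A {x q r : G} {M : Subgroup G} (hx : orderOf x = 23) (hq : orderOf q = 11) (hr : r ^ 5 = 1)
    (hqx : q * x * q⁻¹ = x ^ 2) (hrq : r * q * r⁻¹ = q ^ 3) (hM : M = closure {x, q, r})
    (hv : ¬ 23 ^ 2 ∣ Nat.card G) (hv' : ¬ 11 ^ 2 ∣ Nat.card G)
    (hC : ∀ g, g * q = q * g → (r * g) ^ 5 = 1 → g ∈ zpowers q)
    (hOut : ∀ φ : M ≃* M, ∃ m : M, ∀ y : M, φ y = m * y * m⁻¹)
    (hCM : ∀ m ∈ M, m * q = q * m → m ∈ zpowers q) (α : G ≃* G) : ∃ g : G, ∀ y ∈ M, g * α y * g⁻¹ = y := by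
  haveI : Fact (Nat.Prime 23) := ⟨by norm_num⟩
  haveI : Fact (Nat.Prime 11) := ⟨by norm_num⟩
  -- first step
  obtain ⟨g1, h1⟩ := exists_conj (P := zpowers (α x)) (P' := zpowers x) (p := 23)
    (by rw [Nat.card_zpowers, MulEquiv.orderOf_eq, hx]) (by rw [Nat.card_zpowers, hx]) hv
  set α1 : G ≃* G := α.trans (MulAut.conj g1) with hα1
  have e1 : ∀ y, α1 y = g1 * α y * g1⁻¹ := fun y => rfl
  have hx1 : α1 x ∈ zpowers x := (h1 _).1 (mem_zpowers _)
  have hord : ∀ (α : G ≃* G), α x ∈ zpowers x → zpowers (α x) = zpowers x := by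
    intro α h
    apply Subgroup.eq_of_le_of_card_ge (by rwa [Subgroup.zpowers_le])
    rw [Nat.card_zpowers, Nat.card_zpowers, MulEquiv.orderOf_eq]
  have hqN : q ∈ normalizer (zpowers x : Set G) := by
    have h2 : (zpowers x).map (MulAut.conj q).toMonoidHom = zpowers x := by
      rw [MonoidHom.map_zpowers]
      have h3 : (MulAut.conj q).toMonoidHom x = x ^ 2 := hqx
      rw [h3]
      apply Subgroup.eq_of_le_of_card_ge (by rw [Subgroup.zpowers_le]; exact Subgroup.npow_mem_zpowers x 2)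
      rw [Nat.card_zpowers, Nat.card_zpowers, hx]
      have : orderOf (x ^ 2) = 23 := by
        rw [← h3]
        show orderOf (MulAut.conj q x) = 23
        rw [MulEquiv.orderOf_eq, hx]
      rw [this]
    rw [Subgroup.mem_normalizer_iff]
    intro y
    rw [← h2]
    constructor
    · intro hy
      rw [h2] at hy
      exact ⟨y, hy, rfl⟩
    · rintro ⟨z, hz, h3⟩
      have h4 : q * z * q⁻¹ = q * y * q⁻¹ := h3
      have h5 : z = y := by simpa using h4
      rw [h2, ← h5]; exact hz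
  have hNimg : ∀ (α : G ≃* G), α x ∈ zpowers x → ∀ g ∈ normalizer (zpowers x : Set G), α g ∈ normalizer (zpowers x : Set G) := by
    intro α h g hg
    have h2 : ∀ y, y ∈ zpowers x ↔ α y ∈ zpowers x := by
      intro y
      constructor
      · intro hy
        have h3 : α y ∈ (zpowers x).map α.toMonoidHom := ⟨y, hy, rfl⟩
        rw [MonoidHom.map_zpowers] at h3
        have h4 := hord α h
        rw [← h4]; exact h3
      · intro hy
        rw [← hord α h] at hy
        obtain ⟨n, hn⟩ := Subgroup.mem_zpowers_iff.1 hy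
        rw [← map_zpow] at hn
        rw [← α.injective hn]
        exact Subgroup.zpow_mem _ (mem_zpowers x) n
    rw [Subgroup.mem_normalizer_iff]
    intro y
    obtain ⟨z, rfl⟩ := α.surjective y
    rw [← h2, Subgroup.mem_normalizer_iff.1 hg z, h2, map_mul, map_mul, map_inv]
  -- second step
  obtain ⟨g2, h2⟩ := exists_conj (G := normalizer (zpowers x : Set G)) (P := zpowers ⟨α1 q, hNimg α1 hx1 q hqN⟩)
    (P' := zpowers ⟨q, hqN⟩) (p := 11)
    (by rw [Nat.card_zpowers, ← Subgroup.orderOf_coe]; show orderOf (α1 q) = 11; rw [MulEquiv.orderOf_eq, hq])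
    (by rw [Nat.card_zpowers, ← Subgroup.orderOf_coe]; exact hq)
    (fun h => hv' (h.trans (Subgroup.card_subgroup_dvd_card _)))
  set α2 : G ≃* G := α1.trans (MulAut.conj (g2 : G)) with hα2
  have e2 : ∀ y, α2 y = g2 * α1 y * (g2 : G)⁻¹ := fun y => rfl
  have hx2 : α2 x ∈ zpowers x := by
    rw [e2]
    exact (Subgroup.mem_normalizer_iff.1 g2.2 (α1 x)).1 hx1
  have hq2 : α2 q ∈ zpowers q := by
    have h3 := (h2 _).1 (mem_zpowers _)
    obtain ⟨n, hn⟩ := Subgroup.mem_zpowers_iff.1 h3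
    have h4 := congrArg Subtype.val hn
    rw [e2]
    exact ⟨n, h4⟩
  have hnat : ∀ {y z : G} {n : ℕ}, orderOf z = n → 0 < n → y ∈ zpowers z → ∃ a : ℕ, z ^ a = y := by
    intro y z n hz hn hy
    rw [← (isOfFinOrder_of_finite z).mem_powers_iff_mem_zpowers] at hy
    exact hy
  obtain ⟨b, hb⟩ := hnat hx (by norm_num) hx2
  obtain ⟨a, ha⟩ := hnat hq (by norm_num) hq2
  have hq3 : α2 q = q := by
    have h3 := congrArg α2 hqx
    rw [map_mul, map_mul, map_inv, map_pow, ← ha, ← hb, conj_pow' hqx, ← pow_mul, pow_eq_pow_iff_modEq, hx] at h3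
    have h4 : ¬ 23 ∣ b := by
      rintro ⟨c, rfl⟩
      rw [← hx, pow_mul, pow_orderOf_eq_one, one_pow] at hb
      have h5 : x = 1 := α2.injective (by rw [← hb, map_one])
      rw [h5, orderOf_one] at hx
      norm_num at hx
    have h5 : 2 ^ a ≡ 2 [MOD 23] := by
      rw [mul_comm b 2] at h3
      exact Nat.ModEq.cancel_right_of_coprime ((Nat.Prime.coprime_iff_not_dvd (by norm_num)).2 h4) h3
    have h6 : a % 11 = 1 := two_pow_mod h5
    rw [← ha, ← pow_mod_orderOf, hq, h6, pow_one]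
  -- third step
  set g := r⁻¹ * α2 r with hg
  have hr2 : α2 r = r * g := by rw [hg]; group
  have h3 : g * q = q * g := by
    have h4 := congrArg α2 hrq
    rw [map_mul, map_mul, map_inv, map_pow, hq3, ← hrq] at h4
    rw [hr2] at h4
    have h5 : r * (g * q * g⁻¹) * r⁻¹ = r * q * r⁻¹ := by rw [← h4]; group
    have h6 : g * q * g⁻¹ = q := by simpa using h5
    rw [mul_inv_eq_iff_eq_mul] at h6
    exact h6
  obtain ⟨k, hk⟩ := hnat hq (by norm_num) (hC g h3 (by rw [← hr2, ← map_pow, hr, map_one]))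
  have hrq' : ∀ m : ℕ, r⁻¹ * q ^ m * r = q ^ (4 * m) := by
    intro m
    have h4 : r⁻¹ * q * r = q ^ 4 := by
      have h5 : q ^ 11 = 1 := by rw [← hq, pow_orderOf_eq_one]
      have h6 : q = (q ^ 3) ^ 4 := by
        rw [← pow_mul, show 3 * 4 = 11 + 1 by norm_num, pow_succ, h5, one_mul]
      conv_lhs => rw [h6, ← hrq, conj_pow]
      group
    rw [pow_mul, ← h4]
    have := conj_pow (i := m) (a := r⁻¹) (b := q)
    rw [inv_inv] at this
    exact this.symm
  set α3 : G ≃* G := α2.trans (MulAut.conj (q ^ (7 * k))) with hα3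
  have e3 : ∀ y, α3 y = q ^ (7 * k) * α2 y * (q ^ (7 * k))⁻¹ := fun y => rfl
  have hq4 : α3 q = q := by
    rw [e3, hq3, mul_inv_eq_iff_eq_mul]
    exact (Commute.pow_self q _)
  have hr4 : α3 r = r := by
    rw [e3, hr2, ← hk]
    have h4 := hrq' (7 * k)
    have h5 : q ^ (7 * k) * r = r * q ^ (4 * (7 * k)) := by rw [← h4]; group
    rw [← mul_assoc, h5, mul_assoc, mul_assoc]
    have h6 : q ^ (4 * (7 * k)) * (q ^ k * (q ^ (7 * k))⁻¹) = 1 := by
      rw [← mul_assoc, mul_inv_eq_one, ← pow_add, pow_eq_pow_iff_modEq, hq]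
      show _ % 11 = _ % 11
      omega
    rw [h6, mul_one]
  have hx4 : α3 x ∈ zpowers x := by
    rw [e3]
    exact (Subgroup.mem_normalizer_iff.1 (Subgroup.pow_mem _ hqN (7 * k)) (α2 x)).1 hx2
  -- fourth step
  have hMx : x ∈ M := by rw [hM]; exact Subgroup.subset_closure (by simp)
  have hMq : q ∈ M := by rw [hM]; exact Subgroup.subset_closure (by simp)
  have hMr : r ∈ M := by rw [hM]; exact Subgroup.subset_closure (by simp)
  have hMM : ∀ y ∈ M, α3 y ∈ M := by
    have h4 : M.map α3.toMonoidHom ≤ M := by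
      conv_lhs => rw [hM]
      rw [MonoidHom.map_closure, Subgroup.closure_le]
      rintro _ ⟨z, hz, rfl⟩
      rcases hz with rfl | rfl | rfl
      · exact (Subgroup.zpowers_le.2 hMx) hx4
      · show α3 z ∈ M
        rw [hq4]; exact hMq
      · show α3 z ∈ M
        rw [hr4]; exact hMr
    intro y hy
    exact h4 ⟨y, hy, rfl⟩
  obtain ⟨m, hm⟩ := hOut (restr α3 M hMM)
  have hm1 : (m : G) * q = q * m := by
    have h4 := congrArg Subtype.val (hm ⟨q, hMq⟩)
    rw [coe_restr] at h4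
    have h5 : α3 q = (m : G) * q * (m : G)⁻¹ := h4
    rw [hq4] at h5
    rw [eq_mul_inv_iff_mul_eq] at h5
    exact h5.symm
  obtain ⟨i, hi⟩ := hnat hq (by norm_num) (hCM m m.2 hm1)
  have hm2 : (m : G) = 1 := by
    have h4 := congrArg Subtype.val (hm ⟨r, hMr⟩)
    rw [coe_restr] at h4
    have h5 : α3 r = (m : G) * r * (m : G)⁻¹ := h4
    rw [hr4] at h5
    rw [eq_mul_inv_iff_mul_eq, ← hi] at h5
    have h6 := hrq' i
    have h7 : q ^ i = q ^ (4 * i) := by
      rw [← h6, mul_assoc, ← h5]; group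
    rw [pow_eq_pow_iff_modEq, hq] at h7
    have h8 : i % 11 = (4 * i) % 11 := h7
    have h9 : i % 11 = 0 := by omega
    rw [← hi, ← pow_mod_orderOf, hq, h9, pow_zero]
  refine ⟨q ^ (7 * k) * (g2 * g1), fun y hy => ?_⟩
  have h4 := congrArg Subtype.val (hm ⟨y, hy⟩)
  rw [coe_restr] at h4
  have h5 : α3 y = (m : G) * y * (m : G)⁻¹ := h4
  rw [hm2, one_mul, inv_one, mul_one, e3, e2, e1] at h5
  calc q ^ (7 * k) * (↑g2 * g1) * α y * (q ^ (7 * k) * (↑g2 * g1))⁻¹
      = q ^ (7 * k) * (↑g2 * (g1 * α y * g1⁻¹) * (↑g2)⁻¹) * (q ^ (7 * k))⁻¹ := by group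
  _ = y := h5

end Cfsg.Agent.Lib.AutSyl
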