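import Mathlib
import Cfsg.Prelude.Def_Characters
import Cfsg.Agent.Lib.CharBasic
import Cfsg.Agent.Lib.CharBasic2
import Cfsg.Agent.Lib.CharMisc
import Cfsg.Agent.Lib.ExtraChar

set_option autoImplicit false

/-!
# Averaging a character over a normal subgroup (helper15)
-/

namespace Cfsg.Agent.Lib.AvgChar

open scoped ComplexConjugate
open CharBasic

universe u

section Avg

variable {N : Type u} [Group N]

/-- The average of a function over the cosets of a subgroup. -/
noncomputable def avg (K : Subgroup N) [Fintype K] (f : N → ℂ) (g : N) : ℂ :=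
  (Nat.card K : ℂ)⁻¹ * ∑ k : K, f (g * k)

variable [Fintype N] (K : Subgroup N) [Fintype K]

theorem avg_smul (c : ℂ) (f : N → ℂ) : avg K (c • f) = c • avg K f := by
  funext g
  simp only [avg, Pi.smul_apply, smul_eq_mul, ← Finset.mul_sum]
  ring

theorem avg_sum {ι : Type*} (s : Finset ι) (f : ι → N → ℂ) :
    avg K (∑ i ∈ s, f i) = ∑ i ∈ s, avg K (f i) := by
  funext g
  simp only [avg, Finset.sum_apply]
  rw [Finset.sum_comm, Finset.mul_sum]

theorem avg_irr [K.Normal] {φ : N → ℂ} (hφ : IsIrrCharacter N φ) : avg K φ = φ ∨ avg K φ = 0 := by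
  obtain ⟨n, ρ, hρ, rfl⟩ := hφ
  by_cases hker : ∃ h ∈ K, ρ h ≠ LinearMap.id
  · right
    funext g
    have h1 := CharMisc.sum_normal_eq_zero ρ K hker
    have h2 : ∑ h : K, ρ.character (g * h) = 0 := by
      have h3 : ∑ h : K, ρ.character (g * h) =
          LinearMap.trace ℂ (Fin n → ℂ) (ρ g * (∑ h : K, ρ (h : N))) := by
        rw [Finset.mul_sum, map_sum]
        refine Finset.sum_congr rfl fun h _ => ?_
        unfold Representation.character
        rw [map_mul]
      rw [h3, h1, mul_zero, map_zero]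
    rw [avg, h2, mul_zero]; rfl
  · left
    push Not at hker
    funext g
    have h1 : ∀ k : K, ρ.character (g * k) = ρ.character g := by
      intro k
      unfold Representation.character
      rw [map_mul, hker k k.2]
      rfl
    rw [avg, Finset.sum_congr rfl (fun k _ => h1 k), Finset.sum_const, Finset.card_univ,
      nsmul_eq_mul, ← Nat.card_eq_fintype_card, ← mul_assoc,
      inv_mul_cancel₀ (by exact_mod_cast Nat.card_pos.ne'), one_mul]

/-- Decomposition of a character in the part trivial on `K` and the rest. -/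
theorem decomp [K.Normal] {χ : N → ℂ} (hχ : IsCharacter N χ) :
    IsCharacter N (avg K χ) ∧ IsCharacter N (χ - avg K χ) ∧
      classInner (avg K χ) (χ - avg K χ) = 0 := by
  classical
  obtain ⟨c, hc, hχc⟩ := hχ.exists_coeff
  let A : Finset (IrrCharacter N) := Finset.univ.filter (fun φ => avg K (φ : N → ℂ) = φ)
  have h1 : avg K χ = ∑ φ ∈ A, (c φ : ℂ) • (φ : N → ℂ) := by
    rw [hχc, avg_sum, Finset.sum_filter]
    apply Finset.sum_congr rfl
    intro φ _
    rw [avg_smul]
    split_ifs with h
    · rw [h]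
    · rw [(avg_irr K φ.2).resolve_left h, smul_zero]
  have h2 : χ - avg K χ = ∑ φ ∈ Aᶜ, (c φ : ℂ) • (φ : N → ℂ) := by
    rw [h1]
    conv_lhs => rw [hχc]
    rw [← Finset.sum_add_sum_compl A, add_sub_cancel_left]
  refine ⟨?_, ?_, ?_⟩
  · rw [h1]
    exact isCharacter_sum _ _ (fun φ _ => φ.2.isCharacter.natCast_smul _)
  · rw [h2]
    exact isCharacter_sum _ _ (fun φ _ => φ.2.isCharacter.natCast_smul _)
  · rw [h2, h1, classInner_sum_left]
    apply Finset.sum_eq_zero
    intro φ hφ
    rw [classInner_sum_right]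
    apply Finset.sum_eq_zero
    intro ψ hψ
    have hne : φ ≠ ψ := by
      rintro rfl
      exact Finset.mem_compl.mp hψ hφ
    rw [classInner_smul_left, classInner_smul_right, irr_orthonormal, if_neg hne]
    simp

theorem norm_decomp [K.Normal] {χ : N → ℂ} (hχ : IsCharacter N χ) :
    classInner χ χ = classInner (avg K χ) (avg K χ) +
      classInner (χ - avg K χ) (χ - avg K χ) := by
  obtain ⟨-, -, h⟩ := decomp K hχ
  have h' : classInner (χ - avg K χ) (avg K χ) = 0 := by
    rw [← conj_classInner, h, map_zero]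
  have h1 : χ = avg K χ + (χ - avg K χ) := by abel
  conv_lhs => rw [h1]
  rw [classInner_add_left, classInner_add_right, classInner_add_right, h, h']
  ring

omit [Fintype N] in
/-- If `g` commutes with no nontrivial element of `K` then `f` is constant on `gK`. -/
theorem avg_eq_of_free [Finite N] [hK : K.Normal] {f : N → ℂ} (hf : IsClassFunction N f) (g : N)
    (hg : ∀ h ∈ K, g * h = h * g → h = 1) : avg K f g = f g := by
  classical
  let s : K → K := fun k => ⟨g⁻¹ * (k : N)⁻¹ * g * k,
    K.mul_mem (by simpa using hK.conj_mem _ (K.inv_mem k.2) g⁻¹) k.2⟩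
  have hs : Function.Injective s := by
    intro a b hab
    have h1 : g⁻¹ * (a : N)⁻¹ * g * a = g⁻¹ * (b : N)⁻¹ * g * b := congrArg Subtype.val hab
    have h2 : (a : N)⁻¹ * g * a = (b : N)⁻¹ * g * b := by
      have := congrArg (g * ·) h1
      simpa [mul_assoc] using this
    have h3 : g * ((a : N) * (b : N)⁻¹) = ((a : N) * (b : N)⁻¹) * g := by
      calc g * ((a : N) * (b : N)⁻¹) = a * ((a : N)⁻¹ * g * a) * (b : N)⁻¹ := by group
        _ = ((a : N) * (b : N)⁻¹) * g := by rw [h2]; group
    have h4 := hg _ (K.mul_mem a.2 (K.inv_mem b.2)) h3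
    exact Subtype.ext (mul_inv_eq_one.mp h4)
  have hbij : Function.Bijective s := Finite.injective_iff_bijective.mp hs
  have h1 : ∑ k : K, f (g * k) = ∑ k : K, f g := by
    symm
    refine Fintype.sum_bijective s hbij _ _ ?_
    intro k
    have h2 : g * ((s k : K) : N) = (k : N)⁻¹ * g * k := by
      simp [s, mul_assoc]
    rw [h2]
    exact (hf.conj_eq' g k).symm
  rw [avg, h1, Finset.sum_const, Finset.card_univ, nsmul_eq_mul, ← Nat.card_eq_fintype_card,
    ← mul_assoc, inv_mul_cancel₀ (by exact_mod_cast Nat.card_pos.ne'), one_mul]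

end Avg

end Cfsg.Agent.Lib.AvgChar
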