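import Mathlib
import Cfsg.Agent.Lib.BG10b1
import Cfsg.Agent.Lib.BG10b2
import Cfsg.Agent.Lib.BG10b3
import Cfsg.Agent.Lib.BG10b4
import Cfsg.Agent.Lib.BG10b5
import Cfsg.Agent.Lib.BG10b6

/-!
Bender-Glauberman section 10, second half (10.6-10.14), helper64: everything is proved in
`BG10b1` (10.1(d), 10.2(c)(e), 10.6), `BG10b2` (10.7), `BG10b3` (10.8, 10.9), `BG10b4` (10.10),
`BG10b5` (10.11, 10.12, 10.14), `BG10b6` (10.13).  Namespace `Cfsg.Agent.Lib.BG10b`.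
-/
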