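import Mathlib
import Cfsg.Prelude.Def_OddOrderLocal
import Cfsg.Agent.S1350
import Cfsg.Agent.S1403
import Cfsg.Agent.S1404
import Cfsg.Agent.S1405
import Cfsg.Agent.S1408
import Cfsg.Agent.S1411
import Cfsg.Agent.S1412
import Cfsg.Agent.S1413
import Cfsg.Agent.S1414
import Cfsg.Agent.S1451

/-! Inputs of BG 12.1-12.7 (black boxes, to be replaced by the proved statements). -/

namespace Cfsg.Agent.Lib.BG12In

alias S1350 := Cfsg.Agent.S1350.result
alias S1403 := Cfsg.Agent.S1403.result
alias S1404 := Cfsg.Agent.S1404.result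
alias S1405 := Cfsg.Agent.S1405.result
alias S1408 := Cfsg.Agent.S1408.result
alias S1411 := Cfsg.Agent.S1411.result
alias S1412 := Cfsg.Agent.S1412.result
alias S1413 := Cfsg.Agent.S1413.result
alias S1414 := Cfsg.Agent.S1414.result
alias S1451 := Cfsg.Agent.S1451.result

end Cfsg.Agent.Lib.BG12In
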