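import Mathlib
import Cfsg.Prelude.Def_OddOrderLocal
import Cfsg.Agent.Lib.BG12a5

/-!
Bender-Glauberman section 12, first half (12.1-12.7), helper68.
Collects `BG12a1` (12.1), `BG12a2` (12.2, 12.3), `BG12a3` (12.4, 12.5), `BG12a4` (12.6), `BG12a5` (12.7).
-/
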