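import Cfsg.Agent.S1352
import Cfsg.Agent.S1355
import Cfsg.Agent.S1357
import Cfsg.Agent.S1365
import Cfsg.Agent.S1381
import Cfsg.Agent.S1382
import Cfsg.Agent.S1383
import Cfsg.Agent.S1437
import Cfsg.Agent.Lib.BG16F

/-!
Prerequisites of S1385, S1389 (helper72).
-/

set_option autoImplicit false

namespace Cfsg.Agent.Lib.BG16bDeps

alias s1352 := Cfsg.Agent.S1352.result
alias s1355 := Cfsg.Agent.S1355.result
alias s1357 := Cfsg.Agent.S1357.result
alias s1365 := Cfsg.Agent.S1365.result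
/-- `Cfsg.Agent.Lib.BG16F.W1380` of helper23 -/
alias w1380 := Cfsg.Agent.Lib.BG16F.W1380
alias s1381 := Cfsg.Agent.S1381.result
alias s1382 := Cfsg.Agent.S1382.result
alias s1383 := Cfsg.Agent.S1383.result
alias s1437 := Cfsg.Agent.S1437.result

end Cfsg.Agent.Lib.BG16bDeps
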