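import Cfsg.Agent.Lib.BBPair13
import Cfsg.Agent.Lib.H56BauO

/-!
# Baumann blocks that need not be subnormal (helper78, for S2987)
-/

set_option autoImplicit false
set_option linter.unusedSectionVars false

namespace Cfsg.Agent.Lib.BN

open Subgroup Cfsg Cfsg.Agent.Lib.LocBase Cfsg.Agent.Lib.PReduced Cfsg.Agent.Lib.BBlock Cfsg.Agent.Lib.BBPair
open scoped commutatorElement

universe u
variable {G : Type u} [Group G] [Finite G] {p : ℕ} [hp : Fact p.Prime]

/-- a block, not necessarily subnormal -/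
structure NB (p : ℕ) (E : Subgroup G) : Prop where
  cp : centralizer (pCore p G : Set G) ≤ pCore p G
  blk : ∃ T : Subgroup G, Blk p T E
  qe : ⁅pCoreOf p E, E⁆ = pCoreOf p E

theorem nb_of_sb {E : Subgroup G} (h : SB p E) : NB p E := ⟨h.cp, h.blk, h.qe⟩

theorem nb_of (hG : centralizer (pCore p G : Set G) ≤ pCore p G) {T E : Subgroup G} (hT : IsSyl p T ⊤)
    (h : IsBaumannBlock p T E) : NB p E := ⟨hG, ⟨T, blk_of hT h⟩, h.2.2.1⟩

namespace NB


variable {E F : Subgroup G} (h : NB p E) (k : NB p F)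

section one
include h

theorem res : pRes p E = E := by
  obtain ⟨T, hT⟩ := h.blk
  exact hT.res

theorem inf_le : E ⊓ pCore p G ≤ pCoreOf p E :=
  LocBase.le_pCoreOf inf_le_left (le_normalizer_inf le_normalizer (pCore_norm E))
    ((isPGroup_pCore p G).to_le inf_le_right)

theorem O_norm : pCore p G ≤ normalizer (E : Set G) := by
  obtain ⟨T, hT⟩ := h.blk
  exact hT.pCore_le_N h.cp

theorem comm_O : ⁅pCore p G, E⁆ ≤ pCoreOf p E := by
  refine le_trans (le_inf ?_ ?_) h.inf_le
  · exact commutator_le_right_of_le h.O_norm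
  · exact commutator_le_left_of_le (pCore_norm E)

theorem WE_le_V : WE p E ≤ OZ p (pCore p G) := by
  obtain ⟨T, hT⟩ := h.blk
  exact (hT.main84 h.cp).1

theorem WE_idem : ⁅WE p E, E⁆ = WE p E := by
  have := commutator_pRes_idem (p := p) (P := OZ p (pCoreOf p E)) (K := E)
    ((isPGroup_pCoreOf p E).to_le (OZ_le _))
    ((le_normalizer_pCoreOf p E).trans (normalizer_le_normalizer_OZ p _))
  rwa [h.res] at this

theorem comm_V_not : ¬ ⁅OZ p (pCore p G), E⁆ ≤ centralizer (E : Set G) := by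
  intro hc
  obtain ⟨T, hT⟩ := h.blk
  have h0 := commutator_pRes_idem (p := p) (P := OZ p (pCore p G)) (K := E)
    ((isPGroup_pCore p G).to_le V_le) (V_norm E)
  rw [h.res] at h0
  have h2 : ⁅OZ p (pCore p G), E⁆ = ⊥ := by
    rw [← h0, commutator_eq_bot_iff_le_centralizer]; exact hc
  have h3 : WE p E = ⊥ := by
    rw [← h.WE_idem, eq_bot_iff, ← h2]
    exact commutator_mono h.WE_le_V le_rfl
  apply hT.J_act h.cp
  change ⁅WE p E, _⁆ = ⊥
  rw [h3]; simp

theorem comm_V : ⁅OZ p (pCore p G), E⁆ = WE p E := by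
  apply le_antisymm
  · have h1 := commutator_pRes_idem (p := p) (P := OZ p (pCore p G)) (K := E)
      ((isPGroup_pCore p G).to_le V_le) (V_norm E)
    rw [h.res] at h1
    rw [← h1]
    apply commutator_mono _ le_rfl
    obtain ⟨T, hT⟩ := h.blk
    refine (hT.W_le (X := ⁅OZ p (pCore p G), E⁆) ?_ ?_ (normalizer_commutator_ge_right _ _) h.comm_V_not).1
    · exact (commutator_mono V_le le_rfl).trans h.comm_O
    · have h2 : ⁅OZ p (pCore p G), E⁆ ≤ OZ p (pCore p G) := commutator_le_left_of_le (V_norm E)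
      exact (h2.trans (elem_iff.mp (elem_OZ p _)).1).trans (centralizer_le h2)
  · rw [← h.WE_idem]
    exact commutator_mono h.WE_le_V le_rfl

theorem WE_norm : E ≤ normalizer (WE p E : Set G) := normalizer_commutator_ge_right _ _

theorem WE_le_OZ : WE p E ≤ OZ p (pCoreOf p E) :=
  commutator_le_left_of_le ((le_normalizer_pCoreOf p E).trans (normalizer_le_normalizer_OZ p _))

theorem Q_cent_WE : pCoreOf p E ≤ centralizer (WE p E : Set G) :=
  (le_centralizer_OZ _).trans (centralizer_le h.WE_le_OZ)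

theorem WE_not : ¬ WE p E ≤ centralizer (E : Set G) := by
  intro hc
  obtain ⟨T, hT⟩ := h.blk
  have h1 : WE p E = ⊥ := by
    rw [← h.WE_idem, commutator_eq_bot_iff_le_centralizer]; exact hc
  apply hT.J_act h.cp
  change ⁅WE p E, _⁆ = ⊥
  rw [h1]; simp

/-- an `E`-invariant subgroup of `W_E` centralizes `E` or is everything -/
theorem WE_irr {X : Subgroup G} (hX : X ≤ WE p E) (hn : E ≤ normalizer (X : Set G)) :
    X ≤ centralizer (E : Set G) ∨ X = WE p E := by
  by_cases hc : X ≤ centralizer (E : Set G)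
  · exact Or.inl hc
  · right
    obtain ⟨T, hT⟩ := h.blk
    have hXQ : X ≤ pCoreOf p E := hX.trans (h.WE_le_OZ.trans (OZ_le _))
    have hXc : X ≤ centralizer (X : Set G) := by
      have h1 : X ≤ OZ p (pCoreOf p E) := hX.trans h.WE_le_OZ
      exact (h1.trans (elem_iff.mp (elem_OZ p _)).1).trans (centralizer_le h1)
    exact le_antisymm hX (hT.W_le hXQ hXc hn hc).2

end one

section two
include h k

theorem norm_of (hEF : ⁅E, F⁆ ≤ pCore p G) : E ≤ normalizer (F : Set G) :=
  normalizes_of_sup k.res (isPGroup_pCore p G) k.O_norm (pCore_norm E) hEF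

theorem D_le (hEF : ⁅E, F⁆ ≤ pCore p G) : ⁅E, F⁆ ≤ pCoreOf p E ∧ ⁅E, F⁆ ≤ pCoreOf p F := by
  have h1 := norm_of h k hEF
  have h2 := norm_of k h (by rw [commutator_comm]; exact hEF)
  have h3 : ⁅E, F⁆ ≤ E := commutator_le_left_of_le h2
  have h4 : ⁅E, F⁆ ≤ F := commutator_le_right_of_le h1
  exact ⟨(le_inf h3 hEF).trans h.inf_le, (le_inf h4 hEF).trans k.inf_le⟩

theorem WE_norm' (hEF : ⁅E, F⁆ ≤ pCore p G) : F ≤ normalizer (WE p E : Set G) := by
  have h2 := norm_of k h (by rw [commutator_comm]; exact hEF)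
  have h3 : F ≤ normalizer (OZ p (pCoreOf p E) : Set G) :=
    (h2.trans (normalizer_le_normalizer_pCoreOf p _)).trans (normalizer_le_normalizer_OZ p _)
  exact le_normalizer_commutator h3 h2

/-- if `W_E ≠ W_F` then `F` centralizes `W_E` -/
theorem WE_cent (hEF : ⁅E, F⁆ ≤ pCore p G) (hW : WE p E ≠ WE p F) : F ≤ centralizer (WE p E : Set G) := by
  have hFE : ⁅F, E⁆ ≤ pCore p G := by rw [commutator_comm]; exact hEF
  have h1 := norm_of h k hEF
  have h2 := norm_of k h hFE
  have hFW := WE_norm' h k hEF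
  set X := ⁅WE p E, F⁆ with hX
  have hXW : X ≤ WE p E := commutator_le_left_of_le hFW
  have hXn : E ≤ normalizer (X : Set G) := le_normalizer_commutator h.WE_norm h1
  have hXF : X ≤ WE p F := by
    rw [hX, ← k.comm_V]
    exact commutator_mono h.WE_le_V le_rfl
  rcases h.WE_irr hXW hXn with hc | hc
  · have h3 : ⁅⁅E, WE p E⁆, F⁆ ≤ ⊥ := by
      have hb : ∀ K : Subgroup G, K ≤ normalizer ((⊥ : Subgroup G) : Set G) := fun K => norm_top _ inferInstance K
      apply PAct.three_subgroups (hb _) (hb _) (hb _)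
      · rw [← hX, commutator_eq_bot_iff_le_centralizer.mpr hc]
      · have h4 : ⁅⁅F, E⁆, WE p E⁆ ≤ ⁅pCoreOf p E, WE p E⁆ := by
          apply commutator_mono _ le_rfl
          rw [commutator_comm]; exact (D_le h k hEF).1
        refine h4.trans ?_
        rw [commutator_eq_bot_iff_le_centralizer.mpr h.Q_cent_WE]
    rw [commutator_comm E, h.WE_idem, le_bot_iff, commutator_eq_bot_iff_le_centralizer] at h3
    exact Subgroup.le_centralizer_iff.mp h3
  · exfalso
    have h3 : WE p E ≤ WE p F := by rw [← hc]; exact hXF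
    rcases k.WE_irr h3 hFW with h4 | h4
    · have h5 : X = ⊥ := by rw [hX, commutator_eq_bot_iff_le_centralizer]; exact h4
      apply h.WE_not
      rw [← hc, h5]
      exact bot_le
    · exact hW h4

/-- the final step: `[E, F] = 1` -/
theorem comm_bot_of_le (hEF : ⁅E, F⁆ ≤ pCore p G) (hW : WE p E ≠ WE p F)
    (hD : ⁅E, F⁆ ≤ OZ p (pCoreOf p E)) : ⁅E, F⁆ = ⊥ := by
  have hFE : ⁅F, E⁆ ≤ pCore p G := by rw [commutator_comm]; exact hEF
  have h1 := norm_of h k hEF
  have h2 := norm_of k h hFE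
  have hc := WE_cent h k hEF hW
  set D := ⁅E, F⁆ with hDdef
  have hDp : IsPGroup p D := (isPGroup_pCore p G).to_le hEF
  have hDE : E ≤ normalizer (D : Set G) := le_normalizer_commutator le_normalizer h1
  have hDF : F ≤ normalizer (D : Set G) := le_normalizer_commutator h2 le_normalizer
  have h3 : ⁅D, E⁆ ≤ WE p E := commutator_mono hD le_rfl
  have h4 : D ≤ ⁅D, E⁆ := by
    apply hom_arg h.res hDp le_rfl (normalizer_commutator_ge_right _ _) (normalizer_commutator_ge_left _ _) le_rfl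
  have h5 : ⁅F, E⁆ ≤ (⊥ : Subgroup G) := by
    apply hom_arg (D := D) k.res hDp (by rw [commutator_comm]) (norm_top _ inferInstance _)
      (norm_top _ inferInstance _)
    rw [commutator_comm]
    have h6 : F ≤ centralizer (D : Set G) := hc.trans (centralizer_le (h4.trans h3))
    rw [commutator_eq_bot_iff_le_centralizer.mpr h6]
  rw [commutator_comm] at h5
  exact le_bot_iff.mp h5

end two

include h k in
/-- both exceptional: the situation of a common natural section -/
theorem exc_pair (hEF : ⁅E, F⁆ ≤ pCore p G) (x : SB.Exc p E) (y : SB.Exc p F)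
    (hDE : ¬ ⁅E, F⁆ ≤ OZ p (pCoreOf p E)) (hDF : ¬ ⁅E, F⁆ ≤ OZ p (pCoreOf p F)) :
    ∃ D Z : Subgroup G, D ≤ pCoreOf p E ∧ D ≤ pCoreOf p F ∧ E ≤ normalizer (D : Set G) ∧ F ≤ normalizer (D : Set G) ∧
      Z = D ⊓ OZ p (pCoreOf p E) ∧ Z = D ⊓ OZ p (pCoreOf p F) ∧ D ⊔ OZ p (pCoreOf p E) = pCoreOf p E ∧
      D ⊔ OZ p (pCoreOf p F) = pCoreOf p F ∧ ⁅E, F⁆ ≤ D ∧ ⁅D, D⁆ ≤ Z := by
  have hFE : ⁅F, E⁆ ≤ pCore p G := by rw [commutator_comm]; exact hEF
  have h1 := norm_of h k hEF
  have h2 := norm_of k h hFE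
  obtain ⟨hD1, hD2⟩ := D_le h k hEF
  set D := ⁅E, F⁆ with hD
  have hDE' : E ≤ normalizer (D : Set G) := le_normalizer_commutator le_normalizer h1
  have hDF' : F ≤ normalizer (D : Set G) := le_normalizer_commutator h2 le_normalizer
  have hEO : E ≤ normalizer (OZ p (pCoreOf p E) : Set G) :=
    (le_normalizer_pCoreOf p E).trans (normalizer_le_normalizer_OZ p _)
  have hFO : F ≤ normalizer (OZ p (pCoreOf p F) : Set G) :=
    (le_normalizer_pCoreOf p F).trans (normalizer_le_normalizer_OZ p _)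
  have e1 : D ⊔ OZ p (pCoreOf p E) = pCoreOf p E := by
    rcases x.irr (D ⊔ OZ p (pCoreOf p E)) le_sup_right (sup_le hD1 (OZ_le _)) (le_normalizer_sup hDE' hEO) with h3 | h3
    · exact absurd (le_sup_left.trans h3.le) hDE
    · exact h3
  have e2 : D ⊔ OZ p (pCoreOf p F) = pCoreOf p F := by
    rcases y.irr (D ⊔ OZ p (pCoreOf p F)) le_sup_right (sup_le hD2 (OZ_le _)) (le_normalizer_sup hDF' hFO) with h3 | h3
    · exact absurd (le_sup_left.trans h3.le) hDF
    · exact h3
  -- `D ∩ Ω_E = Z(D)`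
  have hz : ∀ {K : Subgroup G} (z : SB.Exc p K), D ≤ pCoreOf p K → D ⊔ OZ p (pCoreOf p K) = pCoreOf p K →
      D ⊓ OZ p (pCoreOf p K) = D ⊓ centralizer (D : Set G) := by
    intro K z hDK e
    apply le_antisymm
    · exact inf_le_inf_left _ ((OZ_le_centralizer _).trans (centralizer_le hDK))
    · refine le_inf inf_le_left ?_
      rw [← z.center]
      refine le_inf (inf_le_left.trans hDK) ?_
      rw [← e, Subgroup.le_centralizer_iff]
      refine sup_le ?_ ?_
      · rw [← Subgroup.le_centralizer_iff]; exact inf_le_right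
      · rw [← Subgroup.le_centralizer_iff]
        exact (inf_le_left.trans hDK).trans (le_centralizer_OZ _)
  have z1 := hz x hD1 e1
  have z2 := hz y hD2 e2
  refine ⟨D, D ⊓ centralizer (D : Set G), hD1, hD2, hDE', hDF', z1.symm, z2.symm, e1, e2, le_rfl, ?_⟩
  rw [← z1]
  exact le_inf (Subgroup.commutator_le_self D) ((commutator_mono hD1 hD1).trans x.com)

include h k in
/-- both exceptional: a `p`-element of `E` acts trivially on `Q_E / Ω_E` -/
theorem exc_nc (hEF : ⁅E, F⁆ ≤ pCore p G) (x : SB.Exc p E) (y : SB.Exc p F)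
    (hDE : ¬ ⁅E, F⁆ ≤ OZ p (pCoreOf p E)) (hDF : ¬ ⁅E, F⁆ ≤ OZ p (pCoreOf p F)) {e : G} (heE : e ∈ E)
    (he : IsPGroup p (zpowers e)) : ∀ u ∈ pCoreOf p E, ⁅u, e⁆ ∈ OZ p (pCoreOf p E) := by
  obtain ⟨D, Z, hD1, hD2, hDE', hDF', z1, z2, e1, e2, hD, hDD⟩ := exc_pair h k hEF x y hDE hDF
  have h1 := norm_of h k hEF
  have h2 := norm_of k h (by rw [commutator_comm]; exact hEF)
  have hEO : E ≤ normalizer (OZ p (pCoreOf p E) : Set G) :=
    (le_normalizer_pCoreOf p E).trans (normalizer_le_normalizer_OZ p _)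
  have hFO : F ≤ normalizer (OZ p (pCoreOf p E) : Set G) :=
    (h2.trans (normalizer_le_normalizer_pCoreOf p _)).trans (normalizer_le_normalizer_OZ p _)
  have hEZ : E ≤ normalizer (Z : Set G) := by rw [z1]; exact le_normalizer_inf hDE' hEO
  have hFZ : F ≤ normalizer (Z : Set G) := by rw [z1]; exact le_normalizer_inf hDF' hFO
  have hZD : Z ≤ D := by rw [z1]; exact inf_le_left
  have hDZ : D ≤ normalizer (Z : Set G) := (hD1.trans (pCoreOf_le E)).trans hEZ
  have key := nc (p := p) (e := e) (F := F) (X := D) (Y := Z) ((isPGroup_pCoreOf p E).to_le hD1) hZD hDZ he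
    (hDE' heE) (hEZ heE) hDF' hFZ (SB.sec_irr y hD2 z2 e2) ?_
  · intro u hu
    rw [← e1] at hu
    obtain ⟨d, hd, o, ho, rfl⟩ := exists_mul_of_mem_sup_of_le
      (le_trans ((OZ_le _).trans (pCoreOf_le E)) hDE') hu
    rw [commutatorElement_mul_left_eq_conj_mul]
    have h5 := key d hd
    rw [z1] at h5
    refine Subgroup.mul_mem _ ?_ h5.2
    have h6 : ⁅o, e⁆ ∈ OZ p (pCoreOf p E) := commutator_le_left_of_le hEO (commutator_mem_commutator ho heE)
    exact conj_mem_of_le_normalizer (((hD1.trans (pCoreOf_le E)).trans hEO)) hd h6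
  · intro f hf x hx
    apply hDD
    apply commutator_mem_commutator hx
    apply hD
    rw [commutator_comm]
    exact commutator_mem_commutator hf heE

end NB

end Cfsg.Agent.Lib.BN
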