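import Mathlib
import Cfsg.Agent.Lib.BROne

set_option autoImplicit false
set_option linter.all false

/-!
# Linear characters of the normalizer induced to the group
-/

namespace Cfsg.Agent.Lib.BRInd

open Cfsg Cfsg.Agent.Lib.BlockRing Cfsg.Agent.Lib.BlockGA Cfsg.Agent.Lib.BlockIdem
open Cfsg.Agent.Lib.DefOneLoc Cfsg.Agent.Lib.DefOneOrd Cfsg.Agent.Lib.CharBasic Cfsg.Agent.Lib.DefOneGram
open Cfsg.Agent.Lib.DefOne Cfsg.Agent.Lib.BlockThird Cfsg.Agent.Lib.DefOnePrin Cfsg.Agent.Lib.BRB0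
open Cfsg.Agent.Lib.BRNum Cfsg.Agent.Lib.BRDeg Cfsg.Agent.Lib.BRCore Cfsg.Agent.Lib.BROne
open scoped ComplexConjugate

universe u

section mackey

variable {G : Type u} [Group G] [Fintype G] (N : Subgroup G)

/-- linear characters as functions -/
def lf (α : N →* ℂˣ) : N → ℂ := fun x => (α x : ℂ)

/-- the subgroup of `N` of elements conjugated into `N` -/
def Hg (g : G) : Subgroup N where
  carrier := {x | g⁻¹ * x * g ∈ N}
  one_mem' := by simp
  mul_mem' := by
    intro a b ha hb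
    have : g⁻¹ * ((a * b : N) : G) * g = (g⁻¹ * a * g) * (g⁻¹ * b * g) := by push_cast; group
    change g⁻¹ * ((a * b : N) : G) * g ∈ N
    rw [this]
    exact N.mul_mem ha hb
  inv_mem' := by
    intro a ha
    have : g⁻¹ * ((a⁻¹ : N) : G) * g = (g⁻¹ * a * g)⁻¹ := by push_cast; group
    change g⁻¹ * ((a⁻¹ : N) : G) * g ∈ N
    rw [this]
    exact N.inv_mem ha

/-- conjugation into `N` -/
def cg (g : G) : Hg N g →* N where
  toFun x := ⟨g⁻¹ * (x : N) * g, x.2⟩
  map_one' := Subtype.ext (by simp)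
  map_mul' a b := Subtype.ext (by
    change g⁻¹ * (((a * b : Hg N g) : N) : G) * g = (g⁻¹ * ((a : N) : G) * g) * (g⁻¹ * ((b : N) : G) * g)
    push_cast; group)

/-- the local contribution -/
def gam (α β : N →* ℂˣ) (g : G) : Hg N g →* ℂˣ := (α.comp (cg N g)) * (β.comp (Hg N g).subtype)⁻¹

theorem gam_apply (α β : N →* ℂˣ) (g : G) (x : Hg N g) : gam N α β g x = α (cg N g x) * (β (x : N))⁻¹ := rfl

theorem conj_unit [Finite G] (β : N →* ℂˣ) (x : N) : conj ((β x : ℂˣ) : ℂ) = (((β x)⁻¹ : ℂˣ) : ℂ) := by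
  have := Fintype.ofFinite N
  have h1 : (β x) ^ Nat.card N = 1 := by rw [← map_pow, pow_card_eq_one', map_one]
  have h2 : ‖((β x : ℂˣ) : ℂ)‖ = 1 := by
    apply Complex.norm_eq_one_of_pow_eq_one (n := Nat.card N)
    · rw [← Units.val_pow_eq_pow_val, h1]; rfl
    · exact Nat.card_pos.ne'
  rw [Units.val_inv_eq_inv_val]
  apply eq_inv_of_mul_eq_one_left
  rw [mul_comm, Complex.mul_conj, Complex.normSq_eq_norm_sq, h2]; norm_num

open scoped Classical in
theorem mackey [Fintype N] (α β : N →* ℂˣ) :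
    (Nat.card N : ℂ) * (Nat.card N : ℂ) * classInner (indFun N (lf N α)) (indFun N (lf N β)) =
      ∑ g : G, if gam N α β g = 1 then (Nat.card (Hg N g) : ℂ) else 0 := by
  have hN0 : (Nat.card N : ℂ) ≠ 0 := by exact_mod_cast Nat.card_pos.ne'
  rw [IndFun.frobenius_reciprocity' N _ _ (IndFun.indFun_isClassFunction N _), classInner_def]
  have h1 : ∀ x : N, indFun N (lf N α) x * conj (lf N β x) = (Nat.card N : ℂ)⁻¹ * ∑ g : G,
      extendByZero N (lf N α) (g⁻¹ * x * g) * conj (lf N β x) := by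
    intro x
    rw [IndFun.indFun_apply, mul_assoc, Finset.sum_mul]
  rw [Finset.sum_congr rfl (fun x _ => h1 x), ← Finset.mul_sum, Finset.sum_comm]
  have h2 : ∀ g : G, ∑ x : N, extendByZero N (lf N α) (g⁻¹ * x * g) * conj (lf N β x) =
      if gam N α β g = 1 then (Nat.card (Hg N g) : ℂ) else 0 := by
    intro g
    letI : Fintype (Hg N g) := Fintype.ofFinite _
    have h3 : ∑ x : N, extendByZero N (lf N α) (g⁻¹ * x * g) * conj (lf N β x) =
        ∑ x : Hg N g, ((gam N α β g x : ℂˣ) : ℂ) := by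
      rw [← Finset.sum_subset (Finset.subset_univ (Finset.univ.filter (fun x : N => x ∈ Hg N g)))]
      · refine Finset.sum_bij' (fun x hx => ⟨x, (Finset.mem_filter.1 hx).2⟩) (fun x _ => (x : N)) ?_ ?_ ?_ ?_ ?_
        · intro x _; exact Finset.mem_univ _
        · intro x _; rw [Finset.mem_filter]; exact ⟨Finset.mem_univ _, x.2⟩
        · intro x _; rfl
        · intro x _; rfl
        · intro x hx
          have hx' : g⁻¹ * x * g ∈ N := (Finset.mem_filter.1 hx).2
          rw [IndFun.extendByZero_mem _ _ hx', lf, lf, conj_unit, gam_apply, Units.val_mul]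
          rfl
      · intro x _ hx
        have hx' : g⁻¹ * x * g ∉ N := fun h => hx (Finset.mem_filter.2 ⟨Finset.mem_univ _, h⟩)
        rw [IndFun.extendByZero_not_mem _ _ hx', zero_mul]
    rw [h3]
    have h4 := sum_hom_units (((Units.coeHom ℂ).comp (gam N α β g)))
    rw [← Nat.card_eq_fintype_card] at h4
    have h5 : ((Units.coeHom ℂ).comp (gam N α β g) = 1) ↔ gam N α β g = 1 := by
      constructor
      · intro h
        ext x
        have := DFunLike.congr_fun h x
        exact this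
      · intro h; rw [h]; rfl
    have h6 : ∑ x : Hg N g, ((gam N α β g x : ℂˣ) : ℂ) = ∑ x : Hg N g, ((Units.coeHom ℂ).comp (gam N α β g)) x := rfl
    rw [h6, h4]
    by_cases h7 : gam N α β g = 1
    · rw [if_pos h7, if_pos (h5.2 h7)]
    · rw [if_neg h7, if_neg (fun h => h7 (h5.1 h))]; simp
  rw [Finset.sum_congr rfl (fun g _ => h2 g)]
  field_simp

theorem gam_ne_of_zero [Fintype N] {α β : N →* ℂˣ} (h : classInner (indFun N (lf N α)) (indFun N (lf N β)) = 0) (g : G) :
    gam N α β g ≠ 1 := by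
  classical
  intro hg
  have h1 := mackey N α β
  rw [h, mul_zero] at h1
  have h2 : ∑ g : G, (if gam N α β g = 1 then (Nat.card (Hg N g)) else 0) = 0 := by
    have h3 : ((∑ g : G, (if gam N α β g = 1 then (Nat.card (Hg N g)) else 0) : ℕ) : ℂ) = 0 := by
      rw [h1]
      push_cast
      exact Finset.sum_congr rfl fun g _ => by split_ifs <;> simp
    exact_mod_cast h3
  rw [Finset.sum_eq_zero_iff] at h2
  have h3 := h2 g (Finset.mem_univ _)
  rw [if_pos hg] at h3
  exact Nat.card_pos.ne' h3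

theorem gam_ne_of_one [Fintype N] {α : N →* ℂˣ} (h : classInner (indFun N (lf N α)) (indFun N (lf N α)) = 1) {g : G}
    (hgN : g ∉ N) : gam N α α g ≠ 1 := by
  classical
  intro hg
  have h1 := mackey N α α
  rw [h, mul_one] at h1
  have hin : ∀ g ∈ N, (if gam N α α g = 1 then (Nat.card (Hg N g)) else 0) = Nat.card N := by
    intro g hg
    have h2 : gam N α α g = 1 := by
      ext x
      rw [gam_apply]
      have h3 : cg N g x = ⟨g, hg⟩⁻¹ * (x : N) * ⟨g, hg⟩ := Subtype.ext rfl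
      rw [h3, map_mul, map_mul, map_inv]
      rw [mul_comm (α ⟨g, hg⟩)⁻¹, mul_assoc (α (x : N)), inv_mul_cancel, mul_one, mul_inv_cancel]
      rfl
    have h3 : Hg N g = ⊤ := by
      rw [eq_top_iff]
      intro x _
      exact N.mul_mem (N.mul_mem (N.inv_mem hg) x.2) hg
    rw [if_pos h2, h3]
    exact Nat.card_congr Subgroup.topEquiv.toEquiv
  have h2 : ∑ g : G, (if gam N α α g = 1 then (Nat.card (Hg N g)) else 0) = Nat.card N * Nat.card N := by
    have h3 : ((∑ g : G, (if gam N α α g = 1 then (Nat.card (Hg N g)) else 0) : ℕ) : ℂ) = ((Nat.card N * Nat.card N : ℕ) : ℂ) := by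
      push_cast
      rw [h1]
    exact_mod_cast h3
  have h3 : ∑ g ∈ Finset.univ.filter (fun g : G => g ∈ N), (if gam N α α g = 1 then (Nat.card (Hg N g)) else 0) =
      Nat.card N * Nat.card N := by
    rw [Finset.sum_congr rfl (fun g hg => hin g (Finset.mem_filter.1 hg).2), Finset.sum_const, smul_eq_mul,
      ← Fintype.card_subtype, ← Nat.card_eq_fintype_card]
  rw [← Finset.sum_filter_add_sum_filter_not Finset.univ (fun g : G => g ∈ N), h3] at h2
  have h4 : ∑ g ∈ Finset.univ.filter (fun g : G => ¬ g ∈ N), (if gam N α α g = 1 then (Nat.card (Hg N g)) else 0) = 0 := by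
    omega
  rw [Finset.sum_eq_zero_iff] at h4
  have h5 := h4 g (Finset.mem_filter.2 ⟨Finset.mem_univ _, hgN⟩)
  rw [if_pos hg] at h5
  exact Nat.card_pos.ne' h5

end mackey

variable {G : Type u} [Group G] [Fintype G] {p : ℕ} [hp : Fact p.Prime] {P N C : Subgroup G}
  (D : Loc p P N C)

/-- the linear character of `N` -/
noncomputable def psi (φ : (ZMod p)ˣ →* ℂˣ) : N →* ℂˣ := φ.comp (κu D)

omit [Fintype G] in
theorem kappa_one_iff {x : N} : κu D x = 1 ↔ (x : G) ∈ C := by
  rw [← D.κ_eq, ← κu_apply, Units.val_eq_one]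

include D in
omit [Fintype G] in
theorem memP_of_ord {x : G} (hx : x ∈ N) (ho : orderOf x = p) (hCP : C ≤ P) : x ∈ P := by
  apply hCP
  rw [← kappa_one_iff D (x := ⟨x, hx⟩)]
  have h1 : orderOf (κu D ⟨x, hx⟩) ∣ p := by
    have h0 := orderOf_map_dvd (κu D) (⟨x, hx⟩ : N)
    rwa [Subgroup.orderOf_mk, ho] at h0
  have h2 : orderOf (κu D ⟨x, hx⟩) ∣ p - 1 := by
    have := orderOf_dvd_natCard (κu D ⟨x, hx⟩)
    rwa [Nat.card_eq_fintype_card, ZMod.card_units] at this
  have h3 : orderOf (κu D ⟨x, hx⟩) ∣ 1 := by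
    have h4 : Nat.gcd p (p - 1) = 1 := by
      have h5 : Nat.Coprime p (p - 1) := by
        rw [Nat.Prime.coprime_iff_not_dvd hp.out]
        intro h
        have := Nat.le_of_dvd (by have := hp.out.two_le; omega) h
        have := hp.out.two_le
        omega
      exact h5
    rw [← h4]
    exact Nat.dvd_gcd h1 h2
  exact orderOf_eq_one_iff.1 (Nat.dvd_one.1 h3)

include D in
omit [Fintype G] in
theorem ordP {x : G} (hx : x ∈ P) (hx1 : x ≠ 1) : orderOf x = p := by
  obtain ⟨i, hi⟩ := D.gen x hx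
  have h2 : orderOf x ∣ p := by
    rw [hi]; exact (orderOf_pow_dvd i).trans (dvd_of_eq D.ordu)
  rcases (Nat.dvd_prime hp.out).1 h2 with h3 | h3
  · exact absurd (orderOf_eq_one_iff.1 h3) hx1
  · exact h3

include D in
omit [Fintype G] in
/-- an element of `P` conjugated into `N` -/
theorem mem_of_conj {x g : G} (hx : x ∈ P) (hx1 : x ≠ 1) (hCP : C ≤ P) (hg : g⁻¹ * x * g ∈ N) : g ∈ N := by
  have h1 : orderOf (g⁻¹ * x * g) = p := by
    have h2 := orderOf_injective (MulAut.conj g⁻¹).toMonoidHom (MulAut.conj g⁻¹).injective x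
    have h3 : (MulAut.conj g⁻¹).toMonoidHom x = g⁻¹ * x * g := by
      change g⁻¹ * x * g⁻¹⁻¹ = _
      rw [inv_inv]
    rw [h3] at h2
    rw [h2, ordP D hx hx1]
  have h2 := memP_of_ord D hg h1 hCP
  have h3 := D.ti g⁻¹ x (D.PC hx) (by rw [ordP D hx hx1]) (by rw [inv_inv]; exact D.PC h2)
  have := N.inv_mem h3
  rwa [inv_inv] at this

theorem ind_one (φ : (ZMod p)ˣ →* ℂˣ) : indFun N (lf N (psi D φ)) 1 = N.index := by
  rw [IndFun.indFun_one]
  change (N.index : ℂ) * ((psi D φ 1 : ℂˣ) : ℂ) = _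
  rw [map_one, Units.val_one, mul_one]

variable {D} in
theorem ind_sing [Fintype C] (hCP : ∀ c : C, D.l c = 0 → c = 1) (φ : (ZMod p)ˣ →* ℂˣ) (c : C) (hc : D.l c ≠ 0) :
    indFun N (lf N (psi D φ)) c = 1 := by
  classical
  have hCP' : C ≤ P := by
    intro x hx
    obtain ⟨y, v, hyv, hv⟩ := D.fac ⟨x, hx⟩
    have h1 := hCP v hv
    rw [h1] at hyv
    change x = y * 1 at hyv
    rw [hyv, mul_one]; exact y.2
  have hc1 : (c : G) ≠ 1 := by
    intro h
    apply hc
    rw [show c = 1 from Subtype.ext h, l_one]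
  have hcP : (c : G) ∈ P := hCP' c.2
  rw [IndFun.indFun_apply]
  have h1 : ∀ x : G, extendByZero N (lf N (psi D φ)) (x⁻¹ * c * x) = if x ∈ N then 1 else 0 := by
    intro x
    split_ifs with hx
    · have h2 : x⁻¹ * (c : G) * x ∈ P := by
        have := D.norm x⁻¹ (N.inv_mem hx) c hcP
        rwa [inv_inv] at this
      rw [IndFun.extendByZero_mem _ _ (D.CN (D.PC h2))]
      change ((φ (κu D ⟨x⁻¹ * c * x, _⟩) : ℂˣ) : ℂ) = 1
      rw [(kappa_one_iff D).2 (D.PC h2), map_one]; rfl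
    · rw [IndFun.extendByZero_not_mem]
      intro h2
      exact hx (mem_of_conj D hcP hc1 hCP' h2)
  rw [Finset.sum_congr rfl (fun x _ => h1 x), Finset.sum_boole]
  have h2 : (Finset.univ.filter (fun g : G => g ∈ N)).card = Nat.card N := by
    rw [← Fintype.card_subtype, ← Nat.card_eq_fintype_card]
  rw [h2]
  have hN0 : (Nat.card N : ℂ) ≠ 0 := by exact_mod_cast Nat.card_pos.ne'
  exact inv_mul_cancel₀ hN0

omit [Fintype G] in
theorem le_P [Fintype C] (hCP : ∀ c : C, D.l c = 0 → c = 1) : C ≤ P := by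
  intro x hx
  obtain ⟨y, v, hyv, hv⟩ := D.fac ⟨x, hx⟩
  have h1 := hCP v hv
  rw [h1] at hyv
  change x = y * 1 at hyv
  rw [hyv, mul_one]; exact y.2

/-- multiplicity of the trivial character -/
theorem mlt_ind_triv (φ : (ZMod p)ˣ →* ℂˣ) [Decidable (psi D φ = 1)] :
    mlt (indFun N (lf N (psi D φ))) (triv G) = if psi D φ = 1 then 1 else 0 := by
  classical
  letI : Fintype N := Fintype.ofFinite _
  have hchar : IsCharacter N (lf N (psi D φ)) := (isIrrCharacter_of_unitsHom (psi D φ)).isCharacter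
  have hind : IsCharacter G (indFun N (lf N (psi D φ))) := hchar.indFun N
  have h1 := mlt_spec hind (triv G)
  rw [IndFun.frobenius_reciprocity N _ _ (triv G).2.isClassFunction] at h1
  have h2 := irr_orthonormal ⟨lf N (psi D φ), isIrrCharacter_of_unitsHom (psi D φ)⟩ (triv N)
  change classInner (lf N (psi D φ)) (fun _ => 1) = _ at h2
  have h3 : (⟨lf N (psi D φ), isIrrCharacter_of_unitsHom (psi D φ)⟩ : IrrCharacter N) = triv N ↔ psi D φ = 1 := by
    constructor
    · intro h4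
      ext x
      have h5 := congrFun (congrArg Subtype.val h4) x
      exact h5
    · intro h4
      apply Subtype.ext
      funext x
      change ((psi D φ x : ℂˣ) : ℂ) = 1
      rw [h4]; rfl
  change classInner (lf N (psi D φ)) (fun _ => 1) = _ at h1
  rw [h2] at h1
  simp only [h3] at h1
  split_ifs at h1 ⊢ <;> exact_mod_cast h1.symm

/-- Orthogonality implies that all two point stabilizers are complements. -/
theorem onto_of_ortho (hort : ∀ φ : (ZMod p)ˣ →* ℂˣ, psi D φ ≠ 1 →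
      classInner (indFun N (lf N (psi D φ))) (indFun N (lf N (psi D 1))) = 0)
    {g : G} (hg : g ∉ N) {h : (ZMod p)ˣ} (hh : h ∈ (κu D).range) :
    ∃ x : N, g⁻¹ * x * g ∈ N ∧ κu D x = h := by
  classical
  letI : Fintype N := Fintype.ofFinite _
  set A : Subgroup (ZMod p)ˣ := (Hg N g).map (κu D) with hA
  by_contra hcon
  have hhA : h ∉ A := by
    rintro ⟨x, hx, hxh⟩
    exact hcon ⟨x, hx, hxh⟩
  have h1 : ¬ ∀ (φ : (ZMod p)ˣ →* ℂˣ), (∀ y ∈ A, φ y = 1) → φ h = 1 := by
    intro h2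
    exact hhA ((CommGroup.forall_monoidHom_apply_eq_one_iff ℂ A h).1 h2)
  push Not at h1
  obtain ⟨φ, hφ, hφh⟩ := h1
  have hne : psi D φ ≠ 1 := by
    intro h2
    obtain ⟨x, rfl⟩ := hh
    exact hφh (DFunLike.congr_fun h2 x)
  have h2 := hort φ hne
  rw [← IndFun.classInner_conj_symm, map_eq_zero] at h2
  apply gam_ne_of_zero N h2 g
  ext x
  rw [gam_apply]
  have h3 : (psi D 1) (cg N g x) = 1 := rfl
  have h4 : (psi D φ) (x : N) = 1 := hφ _ ⟨x, x.2, rfl⟩
  rw [h3, h4]; simp

end Cfsg.Agent.Lib.BRInd
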