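import Mathlib
import Cfsg.Agent.Lib.BRInd

set_option autoImplicit false
set_option linter.all false

/-!
# There are at least two exceptional characters
-/

namespace Cfsg.Agent.Lib.BRT1

open Cfsg Cfsg.Agent.Lib.BlockRing Cfsg.Agent.Lib.BlockGA Cfsg.Agent.Lib.BlockIdem
open Cfsg.Agent.Lib.DefOneLoc Cfsg.Agent.Lib.DefOneOrd Cfsg.Agent.Lib.CharBasic Cfsg.Agent.Lib.DefOneGram
open Cfsg.Agent.Lib.DefOne Cfsg.Agent.Lib.BlockThird Cfsg.Agent.Lib.DefOnePrin Cfsg.Agent.Lib.BRB0
open Cfsg.Agent.Lib.BRNum Cfsg.Agent.Lib.BRDeg Cfsg.Agent.Lib.BRCore Cfsg.Agent.Lib.BROne Cfsg.Agent.Lib.BRInd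
open scoped ComplexConjugate

universe u

variable {G : Type u} [Group G] [Fintype G] {p : ℕ} [hp : Fact p.Prime] {P N C : Subgroup G}
  {D : Loc p P N C} [Fintype C]

omit [Fintype G] [Fintype C] in
/-- elements of two point stabilizers in the kernel are trivial -/
theorem eq_one_of_kappa (hCP : C ≤ P) {g : G} (hg : g ∉ N) {x : N} (hx : g⁻¹ * x * g ∈ N) (hκ : κu D x = 1) : x = 1 := by
  by_contra h
  have h1 : (x : G) ∈ P := hCP ((kappa_one_iff D).1 hκ)
  exact hg (mem_of_conj D h1 (fun h2 => h (Subtype.ext h2)) hCP hx)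

theorem isChar_ind (φ : (ZMod p)ˣ →* ℂˣ) : IsCharacter G (indFun N (lf N (psi D φ))) := by
  letI : Fintype N := Fintype.ofFinite _
  exact (isIrrCharacter_of_unitsHom (psi D φ)).isCharacter.indFun N

theorem t_ne_one {n : ℕ} (h : Ctx D n) (hPS : ∃ Q : Sylow p G, (Q : Subgroup G) = P) (B : B0 D) :
    Nat.card (Tau D) ≠ 1 := by
  classical
  intro ht
  letI : Fintype N := Fintype.ofFinite _
  obtain ⟨S⟩ := exists_S1 B ht
  obtain ⟨χ₀, hχ₀, hχ₀'⟩ := S.exists_neg h ht
  have hC1 : ∀ c : C, D.l c = 0 → c = 1 := C_trivial h hPS χ₀ hχ₀ hχ₀'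
  have hCP : C ≤ P := le_P D hC1
  have hpe := p_eq D
  rw [ht, mul_one] at hpe
  have he := h.he
  have hdeg : ∀ φ : (ZMod p)ˣ →* ℂˣ, indFun N (lf N (psi D φ)) 1 = ((1 + n * p : ℕ) : ℂ) := by
    intro φ
    rw [ind_one, h.idx]
  -- irreducibility
  have hirr : ∀ φ : (ZMod p)ˣ →* ℂˣ, psi D φ ≠ 1 → ∃ χ : IrrCharacter G, indFun N (lf N (psi D φ)) = (χ : G → ℂ) := by
    intro φ hφ
    refine S.irr h ht (isChar_ind φ) (hdeg φ) (fun c hc => ind_sing hC1 φ c hc) ?_
    rw [mlt_ind_triv, if_neg hφ]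
  have hort : ∀ φ : (ZMod p)ˣ →* ℂˣ, psi D φ ≠ 1 →
      classInner (indFun N (lf N (psi D φ))) (indFun N (lf N (psi D 1))) = 0 := by
    intro φ hφ
    obtain ⟨χ, hχ⟩ := hirr φ hφ
    rw [hχ]
    refine ortho_irr χ (isChar_ind 1) (by rw [← hχ]; exact hdeg φ) (hdeg 1) ?_ (by rw [mlt_ind_triv, if_pos (show psi D 1 = 1 from rfl)])
    rintro rfl
    have h1 : mlt (indFun N (lf N (psi D φ))) (triv G) = 0 := by rw [mlt_ind_triv, if_neg hφ]
    have h2 := mlt_spec (isChar_ind (D := D) φ) (triv G)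
    rw [h1, hχ, irr_orthonormal, if_pos rfl] at h2
    norm_num at h2
  -- an element outside of `N`
  obtain ⟨g, hg⟩ : ∃ g : G, g ∉ N := by
    by_contra hcon
    push Not at hcon
    have h1 : N = ⊤ := by rw [eq_top_iff]; exact fun x _ => hcon x
    have h2 := h.idx
    rw [h1, Subgroup.index_top] at h2
    have h3 := h.hn
    have h4 := hp.out.pos
    have : 0 < n * p := by positivity
    omega
  -- a generator of the units
  obtain ⟨c, hc⟩ := IsCyclic.exists_generator (α := (ZMod p)ˣ)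
  have hordc : orderOf c = p - 1 := by
    rw [orderOf_eq_card_of_forall_mem_zpowers hc, Nat.card_eq_fintype_card, ZMod.card_units]
  have hrange : (κu D).range = ⊤ := by
    apply Subgroup.eq_top_of_card_eq
    rw [Nat.card_eq_fintype_card (α := (ZMod p)ˣ), ZMod.card_units]
    omega
  obtain ⟨y, hy, hyc⟩ := onto_of_ortho D hort hg (h := c) (by rw [hrange]; trivial)
  -- the quadratic character
  have hp2 : p ≠ 2 := by omega
  have hodd : p % 2 = 1 := (hp.out.eq_two_or_odd).resolve_left hp2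
  have hcA : c ∉ Subgroup.zpowers (c ^ 2) := by
    intro h1
    have h2 : Subgroup.zpowers (c ^ 2) = ⊤ := by
      rw [eq_top_iff]
      intro x _
      have h3 := hc x
      have h4 : Subgroup.zpowers c ≤ Subgroup.zpowers (c ^ 2) := by rw [Subgroup.zpowers_le]; exact h1
      exact h4 h3
    have h3 : orderOf (c ^ 2) = p - 1 := by
      rw [← Nat.card_zpowers, h2, Nat.card_congr Subgroup.topEquiv.toEquiv, Nat.card_eq_fintype_card, ZMod.card_units]
    rw [orderOf_pow, hordc] at h3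
    have h4 : Nat.gcd (p - 1) 2 = 2 := by
      apply Nat.gcd_eq_right
      omega
    rw [h4] at h3
    have := hp.out.two_le
    omega
  obtain ⟨φ, hφA, hφc⟩ : ∃ φ : (ZMod p)ˣ →* ℂˣ, (∀ z ∈ Subgroup.zpowers (c ^ 2), φ z = 1) ∧ φ c ≠ 1 := by
    by_contra hcon
    push Not at hcon
    exact hcA ((CommGroup.forall_monoidHom_apply_eq_one_iff ℂ (Subgroup.zpowers (c ^ 2)) c).1 hcon)
  have hφsq : ∀ z : (ZMod p)ˣ, φ z = 1 ∨ φ z = -1 := by
    intro z
    have h1 : (φ z) ^ 2 = 1 := by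
      obtain ⟨i, hi⟩ := hc z
      have hi' : c ^ i = z := hi
      rw [← map_pow]
      apply hφA
      refine ⟨i, ?_⟩
      change (c ^ 2) ^ i = z ^ 2
      rw [← hi', ← zpow_natCast, ← zpow_natCast, ← zpow_mul, ← zpow_mul, mul_comm]
    have h2 : ((φ z : ℂˣ) : ℂ) ^ 2 = 1 := by rw [← Units.val_pow_eq_pow_val, h1]; rfl
    rcases (sq_eq_one_iff.1 h2) with h3 | h3
    · exact Or.inl (Units.ext h3)
    · exact Or.inr (Units.ext (by rw [h3]; rfl))
  have hψ : psi D φ ≠ 1 := by
    intro h1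
    apply hφc
    have := DFunLike.congr_fun h1 y
    rw [← hyc]
    exact this
  obtain ⟨χ, hχ⟩ := hirr φ hψ
  have hone : classInner (indFun N (lf N (psi D φ))) (indFun N (lf N (psi D φ))) = 1 := by
    rw [hχ, irr_orthonormal, if_pos rfl]
  apply gam_ne_of_one N hone hg
  -- orders
  have hord : orderOf y = p - 1 := by
    apply Nat.dvd_antisymm
    · rw [orderOf_dvd_iff_pow_eq_one]
      apply eq_one_of_kappa (D := D) hCP hg (x := y ^ (p - 1))
      · exact (Hg N g).pow_mem hy _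
      · rw [map_pow, hyc, ← hordc, pow_orderOf_eq_one]
    · rw [← hordc, ← hyc]
      exact orderOf_map_dvd _ _
  set w : N := ⟨g⁻¹ * y * g, hy⟩ with hw
  have hordw : orderOf w = p - 1 := by
    have h2 := orderOf_injective (MulAut.conj g⁻¹).toMonoidHom (MulAut.conj g⁻¹).injective (y : G)
    have h3 : (MulAut.conj g⁻¹).toMonoidHom (y : G) = g⁻¹ * y * g := by
      change g⁻¹ * y * g⁻¹⁻¹ = _
      rw [inv_inv]
    rw [h3, Subgroup.orderOf_coe, hord] at h2
    rw [← h2, hw, Subgroup.orderOf_mk]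
  have hordκw : orderOf (κu D w) = p - 1 := by
    apply Nat.dvd_antisymm
    · rw [← hordw]; exact orderOf_map_dvd _ _
    · rw [← hordw, orderOf_dvd_iff_pow_eq_one]
      set k := orderOf (κu D w)
      have h1 : ((w ^ k : N) : G) ∈ P := hCP ((kappa_one_iff D).1 (by rw [map_pow, pow_orderOf_eq_one]))
      by_contra h2
      have h3 := ordP D h1 (fun h4 => h2 (Subtype.ext h4))
      rw [Subgroup.orderOf_coe] at h3
      have h4 : p ∣ p - 1 := by
        conv_lhs => rw [← h3]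
        rw [← hordw]
        exact orderOf_pow_dvd k
      have := Nat.le_of_dvd (by have := hp.out.two_le; omega) h4
      have := hp.out.two_le
      omega
  have hφw : φ (κu D w) = φ c := by
    have h1 : φ (κu D w) ≠ 1 := by
      intro h1
      apply hφc
      have h2 : c ∈ Subgroup.zpowers (κu D w) := by
        have h3 : Subgroup.zpowers (κu D w) = ⊤ := by
          apply Subgroup.eq_top_of_card_eq
          rw [Nat.card_zpowers, hordκw, Nat.card_eq_fintype_card, ZMod.card_units]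
        rw [h3]; trivial
      obtain ⟨i, hi⟩ := h2
      rw [← hi]
      change φ (κu D w ^ i) = 1
      rw [map_zpow, h1, one_zpow]
    rw [(hφsq _).resolve_left h1, (hφsq _).resolve_left hφc]
  ext x
  rw [gam_apply]
  -- `x` is a power of `y`
  obtain ⟨i, hi⟩ := hc (κu D (x : N))
  have hi' : c ^ i = κu D (x : N) := hi
  have hxy : (x : N) = y ^ i := by
    have h1 : (x : N) * (y ^ i)⁻¹ = 1 := by
      apply eq_one_of_kappa (D := D) hCP hg
      · exact (Hg N g).mul_mem x.2 ((Hg N g).inv_mem ((Hg N g).zpow_mem hy i))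
      · rw [map_mul, map_inv, map_zpow, hyc, hi', mul_inv_cancel]
    rwa [mul_inv_eq_one] at h1
  have h2 : cg N g x = w ^ i := by
    have h3 : cg N g x = cg N g ((⟨y, hy⟩ : Hg N g) ^ i) := by
      congr 1
      exact Subtype.ext (by rw [hxy]; rfl)
    rw [h3, map_zpow]
    rfl
  have h3 : psi D φ (cg N g x) = psi D φ (x : N) := by
    rw [h2, hxy]
    change φ (κu D (w ^ i)) = φ (κu D (y ^ i))
    rw [map_zpow, map_zpow, map_zpow, map_zpow, hφw, hyc]
  rw [h3, mul_inv_cancel]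
  rfl

end Cfsg.Agent.Lib.BRT1
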