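import Mathlib
import Cfsg.Agent.Lib.BRT1

set_option autoImplicit false
set_option linter.all false

/-!
# Two point stabilizers
-/

namespace Cfsg.Agent.Lib.BRGrp

open Cfsg.Agent.Lib.DefOneLoc Cfsg.Agent.Lib.DefOne Cfsg.Agent.Lib.BRInd Cfsg.Agent.Lib.BRT1 Cfsg.Agent.Lib.BRB0

universe u

variable {G : Type u} [Group G] [Finite G] {p : ℕ} [hp : Fact p.Prime] {P N C : Subgroup G}
  (D : Loc p P N C)

/-- all two point stabilizers are complements of `P` in `N` -/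
structure Cmp (n : ℕ) : Prop where
  hCP : C ≤ P
  onto : ∀ g : G, g ∉ N → ∀ h ∈ (κu D).range, ∃ x : N, g⁻¹ * x * g ∈ N ∧ κu D x = h
  he : 1 < Nat.card (κu D).range
  idx : N.index = 1 + n * p
  hn : 0 < n

/-- stabilizer in `N` of a point -/
def E (N : Subgroup G) (ω : G ⧸ N) : Subgroup G := N ⊓ MulAction.stabilizer G ω

omit [Finite G] in
theorem mem_E_mk {N : Subgroup G} {g x : G} : x ∈ E N (g : G ⧸ N) ↔ x ∈ N ∧ g⁻¹ * x * g ∈ N := by
  rw [E, Subgroup.mem_inf, MulAction.mem_stabilizer_iff]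
  have h1 : x • (g : G ⧸ N) = ((x * g : G) : G ⧸ N) := rfl
  rw [h1, QuotientGroup.eq]
  have h2 : (x * g)⁻¹ * g = (g⁻¹ * x * g)⁻¹ := by group
  rw [h2, N.inv_mem_iff]

omit [Finite G] in
theorem mk_ne {N : Subgroup G} {g : G} : (g : G ⧸ N) ≠ ((1 : G) : G ⧸ N) ↔ g ∉ N := by
  rw [Ne, QuotientGroup.eq, mul_one, N.inv_mem_iff]

variable {D} {n : ℕ} (h : Cmp D n)
include h

omit [Finite G] in
theorem Cmp.eq_one {ω : G ⧸ N} (hω : ω ≠ ((1 : G) : G ⧸ N)) {x : G} (hx : x ∈ E N ω) (hxC : x ∈ C) : x = 1 := by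
  obtain ⟨g, rfl⟩ := QuotientGroup.mk_surjective ω
  rw [mk_ne] at hω
  rw [mem_E_mk] at hx
  have h1 := eq_one_of_kappa (D := D) h.hCP hω (x := ⟨x, hx.1⟩) hx.2 ((kappa_one_iff D).2 hxC)
  exact congrArg Subtype.val h1

omit [Finite G] in
theorem Cmp.surj {ω : G ⧸ N} (hω : ω ≠ ((1 : G) : G ⧸ N)) (y : N) : ∃ x : N, (x : G) ∈ E N ω ∧ κu D x = κu D y := by
  obtain ⟨g, rfl⟩ := QuotientGroup.mk_surjective ω
  rw [mk_ne] at hω
  obtain ⟨x, hx, hxy⟩ := h.onto g hω (κu D y) ⟨y, rfl⟩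
  exact ⟨x, mem_E_mk.2 ⟨x.2, hx⟩, hxy⟩

omit [Finite G] in
/-- same image and same point stabilizer -/
theorem Cmp.inj {ω : G ⧸ N} (hω : ω ≠ ((1 : G) : G ⧸ N)) {x y : N} (hx : (x : G) ∈ E N ω) (hy : (y : G) ∈ E N ω)
    (hxy : κu D x = κu D y) : x = y := by
  have h1 : ((x * y⁻¹ : N) : G) = 1 := by
    apply h.eq_one hω
    · exact (E N ω).mul_mem hx ((E N ω).inv_mem hy)
    · rw [← kappa_one_iff D, map_mul, map_inv, hxy, mul_inv_cancel]
  have h2 : x * y⁻¹ = 1 := Subtype.ext h1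
  rwa [mul_inv_eq_one] at h2

omit [Finite G] in
theorem Cmp.card_E {ω : G ⧸ N} (hω : ω ≠ ((1 : G) : G ⧸ N)) : Nat.card (E N ω) = Nat.card (κu D).range := by
  have hle : E N ω ≤ N := inf_le_left
  refine Nat.card_congr (Equiv.ofBijective (fun x : E N ω => (⟨κu D ⟨x, hle x.2⟩, ⟨_, rfl⟩⟩ : (κu D).range)) ⟨?_, ?_⟩)
  · intro x y hxy
    have h1 := h.inj hω (x := ⟨x, hle x.2⟩) (y := ⟨y, hle y.2⟩) x.2 y.2 (congrArg Subtype.val hxy)
    exact Subtype.ext (congrArg (fun z : N => (z : G)) h1)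
  · rintro ⟨_, y, rfl⟩
    obtain ⟨x, hx, hxy⟩ := h.surj hω y
    exact ⟨⟨x, hx⟩, Subtype.ext hxy⟩

omit [Finite G] in
theorem Cmp.comm {ω : G ⧸ N} (hω : ω ≠ ((1 : G) : G ⧸ N)) {x y : G} (hx : x ∈ E N ω) (hy : y ∈ E N ω) :
    Commute x y := by
  have hle : E N ω ≤ N := inf_le_left
  have h1 := h.inj hω (x := ⟨x, hle hx⟩ * ⟨y, hle hy⟩) (y := ⟨y, hle hy⟩ * ⟨x, hle hx⟩)
    ((E N ω).mul_mem hx hy) ((E N ω).mul_mem hy hx) (by rw [map_mul, map_mul, mul_comm])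
  exact congrArg Subtype.val h1

omit [Finite G] in
/-- two point stabilizers are equal or disjoint -/
theorem Cmp.le_of_mem {ω ω' : G ⧸ N} (hω : ω ≠ ((1 : G) : G ⧸ N)) (hω' : ω' ≠ ((1 : G) : G ⧸ N)) {x : G} (hx1 : x ≠ 1)
    (hx : x ∈ E N ω) (hx' : x ∈ E N ω') : E N ω' ≤ E N ω := by
  have hle : E N ω ≤ N := inf_le_left
  have hle' : E N ω' ≤ N := inf_le_left
  intro y' hy'
  obtain ⟨y, hy, hyy⟩ := h.surj hω ⟨y', hle' hy'⟩
  have h1 : y' * (y : G)⁻¹ ∈ C := by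
    have h2 : κu D (⟨y', hle' hy'⟩ * y⁻¹) = 1 := by rw [map_mul, map_inv, hyy, mul_inv_cancel]
    exact (kappa_one_iff D).1 h2
  have h2 : Commute x (y' * (y : G)⁻¹) := (h.comm hω' hx' hy').mul_right ((h.comm hω hx hy).inv_right)
  by_cases h3 : y' * (y : G)⁻¹ = 1
  · rw [mul_inv_eq_one] at h3
    rw [h3]; exact hy
  · exfalso
    apply hx1
    apply h.eq_one hω hx
    exact (D.comm x _ (h.hCP h1) h3).2 h2.symm

omit [Finite G] in
theorem Cmp.eq_of_mem {ω ω' : G ⧸ N} (hω : ω ≠ ((1 : G) : G ⧸ N)) (hω' : ω' ≠ ((1 : G) : G ⧸ N)) {x : G} (hx1 : x ≠ 1)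
    (hx : x ∈ E N ω) (hx' : x ∈ E N ω') : E N ω' = E N ω :=
  le_antisymm (h.le_of_mem hω hω' hx1 hx hx') (h.le_of_mem hω' hω hx1 hx' hx)

omit h in
omit [Finite G] in
/-- conjugation -/
theorem mem_E_smul {ω : G ⧸ N} {v : G} (hv : v ∈ N) {x : G} : x ∈ E N (v • ω) ↔ v⁻¹ * x * v ∈ E N ω := by
  obtain ⟨g, rfl⟩ := QuotientGroup.mk_surjective ω
  have h1 : v • (g : G ⧸ N) = ((v * g : G) : G ⧸ N) := rfl
  rw [h1, mem_E_mk, mem_E_mk]
  have h2 : (v * g)⁻¹ * x * (v * g) = g⁻¹ * (v⁻¹ * x * v) * g := by group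
  rw [h2]
  constructor
  · rintro ⟨h3, h4⟩
    exact ⟨N.mul_mem (N.mul_mem (N.inv_mem hv) h3) hv, h4⟩
  · rintro ⟨h3, h4⟩
    refine ⟨?_, h4⟩
    have := N.mul_mem (N.mul_mem hv h3) (N.inv_mem hv)
    have h5 : v * (v⁻¹ * x * v) * v⁻¹ = x := by group
    rwa [h5] at this

omit h in
omit [Finite G] in
theorem smul_ne {ω : G ⧸ N} (hω : ω ≠ ((1 : G) : G ⧸ N)) {v : G} (hv : v ∈ N) : v • ω ≠ ((1 : G) : G ⧸ N) := by
  obtain ⟨g, rfl⟩ := QuotientGroup.mk_surjective ω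
  rw [mk_ne] at hω
  have h1 : v • (g : G ⧸ N) = ((v * g : G) : G ⧸ N) := rfl
  rw [h1, mk_ne]
  intro h2
  exact hω ((N.mul_mem_cancel_left hv).1 h2)

/-- solving `v y v⁻¹ = w y` -/
theorem Cmp.exists_conj {y : N} (hy : κu D y ≠ 1) {w : G} (hw : w ∈ P) : ∃ v ∈ P, v * y * v⁻¹ = w * y := by
  letI : Fintype G := Fintype.ofFinite G
  have hy1 : D.κ y ≠ 1 := fun h1 => hy (Units.ext h1)
  have h2 : (1 : ZMod p) - D.κ y ≠ 0 := sub_ne_zero.2 (Ne.symm hy1)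
  set a : ZMod p := (1 - D.κ y)⁻¹ * D.l ⟨w, D.PC hw⟩ with ha
  have hv : D.u ^ a.val ∈ P := P.pow_mem D.uP _
  have hlv : D.l ⟨D.u ^ a.val, D.PC hv⟩ = a := by
    have := Cfsg.Agent.Lib.DefOnePrin.l_pow D a.val
    rw [ZMod.natCast_zmod_val] at this
    exact this
  refine ⟨D.u ^ a.val, hv, ?_⟩
  set v := D.u ^ a.val with hvdef
  -- z = v (y v y⁻¹)⁻¹
  have h3 : (y : G) * v * (y : G)⁻¹ ∈ C := D.conj_mem y y.2 v (D.PC hv)
  have h4 := D.κ_conj y ⟨v, D.PC hv⟩ ⟨_, h3⟩ rfl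
  have h5 : D.l (⟨v, D.PC hv⟩ * (⟨_, h3⟩ : C)⁻¹ * (⟨w, D.PC hw⟩ : C)⁻¹) = 0 := by
    have hinv : ∀ c : C, D.l c⁻¹ = - D.l c := by
      intro c
      have h6 := D.l_mul c c⁻¹
      rw [mul_inv_cancel, Cfsg.Agent.Lib.DefOneOrd.l_one] at h6
      linear_combination -h6
    rw [D.l_mul, D.l_mul, hinv, hinv, h4, hlv, ha]
    field_simp
    ring
  have h6 : ¬ p ∣ orderOf (((⟨v, D.PC hv⟩ * (⟨_, h3⟩ : C)⁻¹ * (⟨w, D.PC hw⟩ : C)⁻¹ : C) : G)) := (D.l_reg _).1 h5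
  have h7 : (((⟨v, D.PC hv⟩ * (⟨_, h3⟩ : C)⁻¹ * (⟨w, D.PC hw⟩ : C)⁻¹ : C) : G)) = 1 := by
    by_contra h8
    apply h6
    rw [ordP D (h.hCP (Subtype.property _)) h8]
  have h8 : v * ((y : G) * v * (y : G)⁻¹)⁻¹ * w⁻¹ = 1 := h7
  have h9 : v * ((y : G) * v * (y : G)⁻¹)⁻¹ = w := mul_inv_eq_one.1 h8
  rw [← h9]; group

/-- all two point stabilizers in `N` are conjugate -/
theorem Cmp.conj {ω ω' : G ⧸ N} (hω : ω ≠ ((1 : G) : G ⧸ N)) (hω' : ω' ≠ ((1 : G) : G ⧸ N)) :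
    ∃ v ∈ P, E N ω' = E N (v • ω) := by
  have hPN : P ≤ N := D.PC.trans D.CN
  have hle' : E N ω' ≤ N := inf_le_left
  -- nontrivial element
  obtain ⟨⟨_, z, rfl⟩, hk⟩ : ∃ k : (κu D).range, k ≠ 1 := by
    have : Nontrivial (κu D).range := by
      rw [← Finite.one_lt_card_iff_nontrivial]
      exact h.he
    exact exists_ne 1
  obtain ⟨x, hx, hxz⟩ := h.surj hω' z
  obtain ⟨y, hy, hyz⟩ := h.surj hω z
  have hy1 : κu D y ≠ 1 := by
    intro h1
    apply hk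
    apply Subtype.ext
    change κu D z = 1
    rw [← hyz, h1]
  have hw : (x : G) * (y : G)⁻¹ ∈ P := by
    apply h.hCP
    have h2 : κu D (x * y⁻¹) = 1 := by rw [map_mul, map_inv, hxz, hyz, mul_inv_cancel]
    exact (kappa_one_iff D).1 h2
  obtain ⟨v, hv, hvy⟩ := h.exists_conj hy1 hw
  have h1 : v * y * v⁻¹ = x := by rw [hvy]; group
  have hx1 : (x : G) ≠ 1 := by
    intro h2
    apply hy1
    rw [hyz, ← hxz, show x = 1 from Subtype.ext h2, map_one]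
  refine ⟨v, hv, ?_⟩
  refine h.eq_of_mem (smul_ne hω (hPN hv)) hω' hx1 ?_ hx
  rw [mem_E_smul (hPN hv), ← h1]
  have h2 : v⁻¹ * (v * y * v⁻¹) * v = y := by group
  rw [h2]; exact hy

omit [Finite G] in
/-- `P` acts regularly on the set of two point stabilizers -/
theorem Cmp.eq_one_of_normalizes {ω : G ⧸ N} (hω : ω ≠ ((1 : G) : G ⧸ N)) {v : G} (hv : v ∈ P)
    (hE : E N (v • ω) = E N ω) : v = 1 := by
  have hPN : P ≤ N := D.PC.trans D.CN
  have hle : E N ω ≤ N := inf_le_left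
  obtain ⟨⟨_, z, rfl⟩, hk⟩ : ∃ k : (κu D).range, k ≠ 1 := by
    have : Nontrivial (κu D).range := by
      rw [← Finite.one_lt_card_iff_nontrivial]
      exact h.he
    exact exists_ne 1
  obtain ⟨y, hy, hyz⟩ := h.surj hω z
  have hy1 : (y : G) ≠ 1 := by
    intro h2
    apply hk
    apply Subtype.ext
    change κu D z = 1
    rw [← hyz, show y = 1 from Subtype.ext h2, map_one]
  have h1 : v⁻¹ * y * v ∈ E N ω := by
    rw [← mem_E_smul (hPN hv), hE]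
    exact hy
  have h2 := h.inj hω (x := ⟨v⁻¹ * y * v, hle h1⟩) (y := y) h1 hy (by
    have h3 : (⟨v⁻¹ * y * v, hle h1⟩ : N) = (⟨v, hPN hv⟩ : N)⁻¹ * y * ⟨v, hPN hv⟩ := rfl
    have h4 : κu D ⟨v, hPN hv⟩ = 1 := (kappa_one_iff D).2 (D.PC hv)
    rw [h3, map_mul, map_mul, map_inv, h4]
    simp)
  have h3 : v⁻¹ * y * v = (y : G) := congrArg Subtype.val h2
  by_contra hv1
  apply hy1
  apply h.eq_one hω hy
  refine (D.comm _ v hv hv1).2 ?_
  have h4 : (y : G) * v = v * y := by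
    calc (y : G) * v = v * (v⁻¹ * y * v) := by group
      _ = v * y := by rw [h3]
  exact h4.symm

/-- the number of points with the same two point stabilizer -/
theorem Cmp.card_fix {ω : G ⧸ N} (hω : ω ≠ ((1 : G) : G ⧸ N)) (hPc : Nat.card P = p) :
    Nat.card {ω' : G ⧸ N // ω' ≠ ((1 : G) : G ⧸ N) ∧ E N ω' = E N ω} = n := by
  classical
  have hPN : P ≤ N := D.PC.trans D.CN
  have hfin : Finite (G ⧸ N) := inferInstance
  have h1 : Nat.card (P × {ω' : G ⧸ N // ω' ≠ ((1 : G) : G ⧸ N) ∧ E N ω' = E N ω}) =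
      Nat.card {ω' : G ⧸ N // ω' ≠ ((1 : G) : G ⧸ N)} := by
    refine Nat.card_congr (Equiv.ofBijective
      (fun x : P × {ω' : G ⧸ N // ω' ≠ ((1 : G) : G ⧸ N) ∧ E N ω' = E N ω} =>
        (⟨(x.1 : G) • (x.2 : G ⧸ N), smul_ne x.2.2.1 (hPN x.1.2)⟩ : {ω' : G ⧸ N // ω' ≠ ((1 : G) : G ⧸ N)})) ⟨?_, ?_⟩)
    · rintro ⟨v, ω₁, hω₁, hE₁⟩ ⟨w, ω₂, hω₂, hE₂⟩ hvw
      have h2 : (v : G) • ω₁ = (w : G) • ω₂ := congrArg Subtype.val hvw
      have h3 : ω₂ = ((w : G)⁻¹ * v) • ω₁ := by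
        rw [mul_smul, h2, inv_smul_smul]
      have h4 : (w : G)⁻¹ * v = 1 := by
        apply h.eq_one_of_normalizes hω₁ (P.mul_mem (P.inv_mem w.2) v.2)
        rw [← h3, hE₂, hE₁]
      have h5 : v = w := Subtype.ext (inv_mul_eq_one.1 h4).symm
      rw [h4, one_smul] at h3
      subst h5
      subst h3
      rfl
    · rintro ⟨ω', hω'⟩
      obtain ⟨v, hv, hE⟩ := h.conj hω hω'
      refine ⟨⟨⟨v, hv⟩, ⟨v⁻¹ • ω', smul_ne hω' (N.inv_mem (hPN hv)), ?_⟩⟩, ?_⟩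
      · ext x
        rw [mem_E_smul (N.inv_mem (hPN hv)), hE, mem_E_smul (hPN hv)]
        have h2 : v⁻¹ * (v⁻¹⁻¹ * x * v⁻¹) * v = x := by group
        rw [h2]
      · apply Subtype.ext
        exact smul_inv_smul v ω'
  have h2 : Nat.card {ω' : G ⧸ N // ω' ≠ ((1 : G) : G ⧸ N)} = n * p := by
    letI : Fintype (G ⧸ N) := Fintype.ofFinite _
    rw [Nat.card_eq_fintype_card, Fintype.card_subtype_compl, Fintype.card_subtype_eq, ← Nat.card_eq_fintype_card]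
    have := h.idx
    rw [Subgroup.index] at this
    omega
  rw [Nat.card_prod, hPc, h2, mul_comm n p] at h1
  exact Nat.eq_of_mul_eq_mul_left hp.out.pos h1

/-- the order of the normalizer of a two point stabilizer -/
theorem Cmp.card_normalizer {ω : G ⧸ N} (hω : ω ≠ ((1 : G) : G ⧸ N)) (hPc : Nat.card P = p) :
    Nat.card (Subgroup.normalizer (E N ω : Set G)) = (n + 1) * Nat.card (κu D).range ∧
    (∀ g ∈ Subgroup.normalizer (E N ω : Set G), g ∈ N → g ∈ E N ω) ∧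
    (∀ g ∈ Subgroup.normalizer (E N ω : Set G), g ∉ N → E N (g : G ⧸ N) = E N ω) := by
  classical
  have hPN : P ≤ N := D.PC.trans D.CN
  have hle : E N ω ≤ N := inf_le_left
  set L := Subgroup.normalizer (E N ω : Set G) with hL
  have hmemL : ∀ g, g ∈ L ↔ ∀ x, x ∈ E N ω ↔ g * x * g⁻¹ ∈ E N ω := fun g => Subgroup.mem_normalizer_iff
  have hA : ∀ g ∈ L, g ∈ N → g ∈ E N ω := by
    intro g hg hgN
    obtain ⟨x, hx, hxg⟩ := h.surj hω ⟨g, hgN⟩
    have hv : g * (x : G)⁻¹ ∈ P := by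
      apply h.hCP
      have h2 : κu D (⟨g, hgN⟩ * x⁻¹) = 1 := by rw [map_mul, map_inv, hxg, mul_inv_cancel]
      exact (kappa_one_iff D).1 h2
    have h1 : g * (x : G)⁻¹ = 1 := by
      apply h.eq_one_of_normalizes hω hv
      ext y
      rw [mem_E_smul (hPN hv)]
      have h2 : (g * (x : G)⁻¹)⁻¹ * y * (g * (x : G)⁻¹) = x * (g⁻¹ * y * g) * (x : G)⁻¹ := by group
      rw [h2]
      have h3 : ∀ z, x * z * (x : G)⁻¹ ∈ E N ω ↔ z ∈ E N ω := by
        intro z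
        constructor
        · intro h4
          have := (E N ω).mul_mem ((E N ω).mul_mem ((E N ω).inv_mem hx) h4) hx
          have h5 : (x : G)⁻¹ * (x * z * (x : G)⁻¹) * x = z := by group
          rwa [h5] at this
        · intro h4
          exact (E N ω).mul_mem ((E N ω).mul_mem hx h4) ((E N ω).inv_mem hx)
      rw [h3, (hmemL g).1 hg (g⁻¹ * y * g)]
      have h4 : g * (g⁻¹ * y * g) * g⁻¹ = y := by group
      rw [h4]
    rw [mul_inv_eq_one] at h1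
    rw [h1]; exact hx
  have hB : ∀ g ∈ L, g ∉ N → E N (g : G ⧸ N) = E N ω := by
    intro g hg hgN
    have h1 : E N ω ≤ E N (g : G ⧸ N) := by
      intro x hx
      rw [mem_E_mk]
      refine ⟨hle hx, ?_⟩
      have h2 := ((hmemL g).1 hg (g⁻¹ * x * g)).2 (by
        have h4 : g * (g⁻¹ * x * g) * g⁻¹ = x := by group
        rw [h4]; exact hx)
      exact hle h2
    symm
    apply Subgroup.eq_of_le_of_card_ge h1
    rw [h.card_E hω, h.card_E (mk_ne.2 hgN)]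
  refine ⟨?_, hA, hB⟩
  -- the orbit
  have horb : ∀ ω' : G ⧸ N, ω' ∈ MulAction.orbit L ((1 : G) : G ⧸ N) ↔
      (ω' = ((1 : G) : G ⧸ N) ∨ (ω' ≠ ((1 : G) : G ⧸ N) ∧ E N ω' = E N ω)) := by
    intro ω'
    constructor
    · rintro ⟨g, rfl⟩
      have h1 : g • ((1 : G) : G ⧸ N) = ((g : G) : G ⧸ N) := by
        change ((g : G) * 1 : G) = (_ : G ⧸ N)
        rw [mul_one]
      change g • ((1 : G) : G ⧸ N) = _ ∨ (g • ((1 : G) : G ⧸ N) ≠ _ ∧ E N (g • ((1 : G) : G ⧸ N)) = E N ω)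
      rw [h1]
      by_cases hg : (g : G) ∈ N
      · left
        rw [QuotientGroup.eq, mul_one, N.inv_mem_iff]; exact hg
      · right
        exact ⟨mk_ne.2 hg, hB g g.2 hg⟩
    · rintro (rfl | ⟨h1, h2⟩)
      · exact MulAction.mem_orbit_self _
      · obtain ⟨g, rfl⟩ := QuotientGroup.mk_surjective ω'
        have hgN := mk_ne.1 h1
        have hgN' : g⁻¹ ∉ N := fun h3 => hgN (by have := N.inv_mem h3; rwa [inv_inv] at this)
        -- stabilizer of g⁻¹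
        have h3 : ∀ x, x ∈ E N ((g⁻¹ : G) : G ⧸ N) ↔ g * x * g⁻¹ ∈ E N ω := by
          intro x
          rw [← h2, mem_E_mk, mem_E_mk, inv_inv]
          have h4 : g⁻¹ * (g * x * g⁻¹) * g = x := by group
          rw [h4, and_comm]
        obtain ⟨v, hv, hE⟩ := h.conj hω (mk_ne.2 hgN')
        have hgv : g * v ∈ L := by
          rw [hmemL]
          intro x
          have h4 : g * v * x * (g * v)⁻¹ = g * (v * x * v⁻¹) * g⁻¹ := by group
          rw [h4, ← h3, hE, mem_E_smul (hPN hv)]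
          have h5 : v⁻¹ * (v * x * v⁻¹) * v = x := by group
          rw [h5]
        refine ⟨⟨g * v, hgv⟩, ?_⟩
        change ((g * v * 1 : G) : G ⧸ N) = (g : G ⧸ N)
        rw [QuotientGroup.eq]
        have h4 : (g * v * 1)⁻¹ * g = v⁻¹ := by group
        rw [h4]
        exact N.inv_mem (hPN hv)
  letI : Fintype L := Fintype.ofFinite _
  letI : Fintype (MulAction.orbit L ((1 : G) : G ⧸ N)) := Fintype.ofFinite _
  letI : Fintype (MulAction.stabilizer L ((1 : G) : G ⧸ N)) := Fintype.ofFinite _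
  have hcard := MulAction.card_orbit_mul_card_stabilizer_eq_card_group L ((1 : G) : G ⧸ N)
  have h1 : Nat.card (MulAction.orbit L ((1 : G) : G ⧸ N)) = n + 1 := by
    have h2 : Nat.card (MulAction.orbit L ((1 : G) : G ⧸ N)) =
        Nat.card {ω' : G ⧸ N // ω' = ((1 : G) : G ⧸ N) ∨ (ω' ≠ ((1 : G) : G ⧸ N) ∧ E N ω' = E N ω)} :=
      Nat.card_congr (Equiv.subtypeEquivRight horb)
    letI : Fintype (G ⧸ N) := Fintype.ofFinite _
    rw [h2, Nat.card_eq_fintype_card, Fintype.card_subtype_or_disjoint, Fintype.card_subtype_eq,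
      ← Nat.card_eq_fintype_card, h.card_fix hω hPc]
    · ring
    · rw [Pi.disjoint_iff]
      intro ω'
      rw [Prop.disjoint_iff]
      rintro ⟨h3, h4, -⟩
      exact h4 h3
  have h2 : Nat.card (MulAction.stabilizer L ((1 : G) : G ⧸ N)) = Nat.card (κu D).range := by
    rw [← h.card_E hω]
    have h3 : ∀ g : L, g ∈ MulAction.stabilizer L ((1 : G) : G ⧸ N) ↔ (g : G) ∈ E N ω := by
      intro g
      rw [MulAction.mem_stabilizer_iff]
      have h4 : g • ((1 : G) : G ⧸ N) = ((g : G) : G ⧸ N) := by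
        change ((g : G) * 1 : G) = (_ : G ⧸ N)
        rw [mul_one]
      rw [h4, QuotientGroup.eq, mul_one, N.inv_mem_iff]
      exact ⟨fun h5 => hA g g.2 h5, fun h5 => hle h5⟩
    refine Nat.card_congr
      { toFun := fun g => ⟨(g : L), (h3 g).1 g.2⟩
        invFun := fun x => ⟨⟨x, Subgroup.le_normalizer x.2⟩, (h3 _).2 x.2⟩
        left_inv := fun g => rfl
        right_inv := fun x => rfl }
  rw [← Nat.card_eq_fintype_card (α := L)] at hcard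
  rw [← hcard, ← h1, ← h2, Nat.card_eq_fintype_card, Nat.card_eq_fintype_card]

end Cfsg.Agent.Lib.BRGrp
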