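import Mathlib
import Cfsg.Agent.Lib.BRGrp

set_option autoImplicit false
set_option linter.all false

/-!
# Counting involutions
-/

namespace Cfsg.Agent.Lib.BRInv

open Cfsg.Agent.Lib.DefOneLoc Cfsg.Agent.Lib.DefOne Cfsg.Agent.Lib.BRInd Cfsg.Agent.Lib.BRT1 Cfsg.Agent.Lib.BRB0
open Cfsg.Agent.Lib.BRGrp

universe u

variable {G : Type u} [Group G] [Finite G] {p : ℕ} [hp : Fact p.Prime] {P N C : Subgroup G}
  {D : Loc p P N C} {n : ℕ} (h : Cmp D n)
include h

omit [Finite G] in
/-- an involution of `N` acts as `-1`. -/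
theorem kappa_inv (hodd : p ≠ 2) {i : N} (hi : i * i = 1) (hi1 : i ≠ 1) : κu D i = -1 := by
  have h1 : κu D i * κu D i = 1 := by rw [← map_mul, hi, map_one]
  rcases mul_self_eq_one_iff.1 (show ((κu D i : (ZMod p)ˣ) : ZMod p) * ((κu D i : (ZMod p)ˣ) : ZMod p) = 1 by
    rw [← Units.val_mul, h1]; rfl) with h2 | h2
  · exfalso
    have h3 : (i : G) ∈ P := h.hCP ((kappa_one_iff D).1 (Units.ext h2))
    have h4 := ordP D h3 (fun h5 => hi1 (Subtype.ext h5))
    have h5 : orderOf (i : G) ∣ 2 := by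
      rw [orderOf_dvd_iff_pow_eq_one, pow_two]
      exact congrArg Subtype.val hi
    rw [h4] at h5
    exact hodd ((Nat.prime_dvd_prime_iff_eq hp.out Nat.prime_two).1 h5)
  · exact Units.ext h2

/-- `-1` is in the image for even `e` -/
theorem neg_one_mem (hodd : p ≠ 2) (he : Even (Nat.card (κu D).range)) : (-1 : (ZMod p)ˣ) ∈ (κu D).range := by
  haveI : Fact (Nat.Prime 2) := ⟨Nat.prime_two⟩
  obtain ⟨x, hx⟩ := exists_prime_orderOf_dvd_card' (G := (κu D).range) 2 he.two_dvd
  have h1 : (x : (ZMod p)ˣ) * x = 1 := by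
    have := pow_orderOf_eq_one x
    rw [hx, pow_two] at this
    exact congrArg Subtype.val this
  rcases mul_self_eq_one_iff.1 (show (((x : (ZMod p)ˣ)) : ZMod p) * (((x : (ZMod p)ˣ)) : ZMod p) = 1 by
    rw [← Units.val_mul, h1]; rfl) with h2 | h2
  · exfalso
    have h3 : x = 1 := Subtype.ext (Units.ext h2)
    rw [h3, orderOf_one] at hx
    norm_num at hx
  · have h3 : (x : (ZMod p)ˣ) = -1 := Units.ext h2
    rw [← h3]; exact x.2

omit [Finite G] in
theorem fix_of_fix {ω : G ⧸ N} (hω : ω ≠ ((1 : G) : G ⧸ N)) {j : G} (hj : j ∈ E N ω) (hj1 : j ≠ 1) {ω' : G ⧸ N}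
    (hω' : j • ω' = ω') {x : G} (hx : x ∈ E N ω) : x • ω' = ω' := by
  have hle : E N ω ≤ N := inf_le_left
  by_cases h1 : ω' = ((1 : G) : G ⧸ N)
  · subst h1
    change ((x * 1 : G) : G ⧸ N) = _
    rw [QuotientGroup.eq, mul_one, mul_one, N.inv_mem_iff]
    exact hle hx
  · have h2 : j ∈ E N ω' := Subgroup.mem_inf.2 ⟨hle hj, hω'⟩
    have h3 := h.eq_of_mem hω h1 hj1 hj h2
    have h4 : x ∈ E N ω' := by rw [h3]; exact hx
    exact (Subgroup.mem_inf.1 h4).2

omit [Finite G] h in
theorem mem_E {ω : G ⧸ N} {x : G} : x ∈ E N ω ↔ x ∈ N ∧ x • ω = ω := by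
  rw [E, Subgroup.mem_inf, MulAction.mem_stabilizer_iff]

omit [Finite G] h in
theorem mem_N_iff {x : G} : x ∈ N ↔ x • ((1 : G) : G ⧸ N) = ((1 : G) : G ⧸ N) := by
  change _ ↔ ((x * 1 : G) : G ⧸ N) = _
  rw [QuotientGroup.eq, mul_one, mul_one, N.inv_mem_iff]

/-- centralizer of the involution of a two point stabilizer -/
theorem centralizer_eq {ω : G ⧸ N} (hω : ω ≠ ((1 : G) : G ⧸ N)) {j : G} (hj : j ∈ E N ω) (hj1 : j ≠ 1)
    (huniq : ∀ i ∈ E N ω, i * i = 1 → i ≠ 1 → i = j) (hjj : j * j = 1) :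
    Subgroup.centralizer ({j} : Set G) = Subgroup.normalizer (E N ω : Set G) := by
  have hle : E N ω ≤ N := inf_le_left
  apply le_antisymm
  · intro y hy
    rw [Subgroup.mem_centralizer_singleton_iff] at hy
    have hy' : y⁻¹ * j = j * y⁻¹ := by
      rw [inv_mul_eq_iff_eq_mul, ← mul_assoc, hy, mul_inv_cancel_right]
    have key : ∀ x ∈ E N ω, y * x * y⁻¹ ∈ E N ω := by
      intro x hx
      have h1 : ∀ ω' : G ⧸ N, j • ω' = ω' → (y * x * y⁻¹) • ω' = ω' := by
        intro ω' hω'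
        have h2 : j • (y⁻¹ • ω') = y⁻¹ • ω' := by
          rw [← mul_smul, ← hy', mul_smul, hω']
        have h3 := fix_of_fix h hω hj hj1 h2 hx
        rw [mul_smul, mul_smul, h3, smul_inv_smul]
      rw [mem_E]
      exact ⟨mem_N_iff.2 (h1 _ (mem_N_iff.1 (hle hj))), h1 _ (mem_E.1 hj).2⟩
    exact Subgroup.mem_normalizer_fintype key
  · intro y hy
    rw [Subgroup.mem_centralizer_singleton_iff]
    have h1 : y * j * y⁻¹ ∈ E N ω := (Subgroup.mem_normalizer_iff.1 hy j).1 hj
    have h2 := huniq _ h1 (by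
      have : y * j * y⁻¹ * (y * j * y⁻¹) = y * (j * j) * y⁻¹ := by group
      rw [this, hjj]; group) (by
      intro h3
      apply hj1
      have h4 : j = y⁻¹ * (y * j * y⁻¹) * y := by group
      rw [h4, h3]; group)
    calc y * j = y * j * y⁻¹ * y := by group
      _ = j * y := by rw [h2]

/-- The counting argument. -/
theorem swap (hodd : p ≠ 2) (hPc : Nat.card P = p) {ω : G ⧸ N} (hω : ω ≠ ((1 : G) : G ⧸ N)) {j : G}
    (hj : j ∈ E N ω) (hj1 : j ≠ 1) (hjj : j * j = 1)
    (hindex : (Subgroup.centralizer ({j} : Set G)).index = p + n * p * Nat.card (κu D).range) :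
    ∀ g : G, E N (g : G ⧸ N) = E N ω → g ∉ N → g ∈ Subgroup.normalizer (E N ω : Set G) → IsConj j g := by
  classical
  letI : Fintype G := Fintype.ofFinite G
  letI : Fintype (G ⧸ N) := Fintype.ofFinite _
  set o : G ⧸ N := ((1 : G) : G ⧸ N) with ho
  have hle : E N ω ≤ N := inf_le_left
  set I : Finset G := Finset.univ.filter (fun g => IsConj j g) with hI
  have hmemI : ∀ g, g ∈ I ↔ IsConj j g := fun g => by rw [hI, Finset.mem_filter]; exact and_iff_right (Finset.mem_univ _)
  have hIcard : I.card = p + n * p * Nat.card (κu D).range := by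
    rw [← hindex, hI, ← Fintype.card_subtype, ← Nat.card_eq_fintype_card]
    have h1 := Subgroup.index_eq_card (Subgroup.centralizer ({j} : Set G))
    have h2 : Nat.card {g : G // IsConj j g} = (Subgroup.centralizer ({j} : Set G)).index := by
      have h3 := Subgroup.nat_card_centralizer_nat_card_stabilizer j
      have h4 : Nat.card (MulAction.orbit (ConjAct G) j) * Nat.card (MulAction.stabilizer (ConjAct G) j) = Nat.card (ConjAct G) := by
        rw [← Nat.card_prod]
        exact Nat.card_congr (MulAction.orbitProdStabilizerEquivGroup (ConjAct G) j)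
      rw [← h3] at h4
      have h5 : Nat.card (MulAction.orbit (ConjAct G) j) = Nat.card {g : G // IsConj j g} := by
        refine Nat.card_congr (Equiv.subtypeEquivRight fun g => ?_)
        rw [ConjAct.mem_orbit_conjAct]
        exact ⟨fun h => h.symm, fun h => h.symm⟩
      rw [h5] at h4
      have h6 := (Subgroup.centralizer ({j} : Set G)).card_mul_index
      have h7 : Nat.card (ConjAct G) = Nat.card G := rfl
      rw [h7, ← h6, mul_comm] at h4
      exact Nat.eq_of_mul_eq_mul_left Nat.card_pos h4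
    exact h2
  have hIinv : ∀ i ∈ I, i * i = 1 ∧ i ≠ 1 := by
    intro i hi
    obtain ⟨c, hc⟩ := isConj_iff.1 ((hmemI i).1 hi)
    constructor
    · rw [← hc]
      have : c * j * c⁻¹ * (c * j * c⁻¹) = c * (j * j) * c⁻¹ := by group
      rw [this, hjj]; group
    · intro h1
      apply hj1
      have h4 : j = c⁻¹ * (c * j * c⁻¹) * c := by group
      rw [h4, hc, h1]; group
  -- fibres
  have hfib1 : (I.filter (fun i => i • o = o)).card ≤ p := by
    rw [← hPc, Nat.card_eq_fintype_card (α := P), ← Finset.card_univ]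
    refine Finset.card_le_card_of_injOn (fun i => if hi : i * j⁻¹ ∈ P then (⟨i * j⁻¹, hi⟩ : P) else 1)
      (fun i _ => Finset.mem_coe.2 (Finset.mem_univ _)) ?_
    have hmem : ∀ i ∈ I.filter (fun i => i • o = o), i * j⁻¹ ∈ P := by
      intro i hi
      rw [Finset.mem_filter] at hi
      obtain ⟨h1, h2⟩ := hIinv i hi.1
      have hiN : i ∈ N := mem_N_iff.2 hi.2
      have h3 := kappa_inv h hodd (i := ⟨i, hiN⟩) (Subtype.ext h1) (fun h4 => h2 (congrArg Subtype.val h4))
      have h4 := kappa_inv h hodd (i := ⟨j, hle hj⟩) (Subtype.ext hjj) (fun h4 => hj1 (congrArg Subtype.val h4))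
      apply h.hCP
      have h5 : κu D (⟨i, hiN⟩ * (⟨j, hle hj⟩ : N)⁻¹) = 1 := by rw [map_mul, map_inv, h3, h4, mul_inv_cancel]
      exact (kappa_one_iff D).1 h5
    intro a ha b hb hab
    have ha' := hmem a ha
    have hb' := hmem b hb
    simp only [dif_pos ha', dif_pos hb'] at hab
    exact mul_right_cancel (congrArg Subtype.val hab)
  -- difference of two elements of a fibre
  have hdiff : ∀ ω' : G ⧸ N, ∀ i ∈ I.filter (fun i => i • o = ω'), ∀ i' ∈ I.filter (fun i => i • o = ω'),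
      i⁻¹ * i' ∈ E N ω' := by
    intro ω' i hi i' hi'
    rw [Finset.mem_filter] at hi hi'
    have h1 : i⁻¹ = i := inv_eq_of_mul_eq_one_left (hIinv i hi.1).1
    have h2 : i • ω' = o := by rw [← hi.2, ← mul_smul, (hIinv i hi.1).1, one_smul]
    have h3 : i' • ω' = o := by rw [← hi'.2, ← mul_smul, (hIinv i' hi'.1).1, one_smul]
    rw [mem_E, h1]
    constructor
    · rw [mem_N_iff, mul_smul, hi'.2, h2]
    · rw [mul_smul, h3, hi.2]
  have hfib2 : ∀ ω' : G ⧸ N, ω' ≠ o → (I.filter (fun i => i • o = ω')).card ≤ Nat.card (κu D).range := by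
    intro ω' hω'
    rcases (I.filter (fun i => i • o = ω')).eq_empty_or_nonempty with h1 | ⟨i₀, hi₀⟩
    · rw [h1, Finset.card_empty]; exact Nat.zero_le _
    · rw [← h.card_E hω', Nat.card_eq_fintype_card (α := E N ω'), ← Finset.card_univ]
      refine Finset.card_le_card_of_injOn (fun i => if hi : i₀⁻¹ * i ∈ E N ω' then (⟨i₀⁻¹ * i, hi⟩ : E N ω') else 1)
        (fun i _ => Finset.mem_coe.2 (Finset.mem_univ _)) ?_
      intro a ha b hb hab
      have ha' := hdiff ω' i₀ hi₀ a ha
      have hb' := hdiff ω' i₀ hi₀ b hb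
      simp only [dif_pos ha', dif_pos hb'] at hab
      exact mul_left_cancel (congrArg Subtype.val hab)
  have hsum : I.card = ∑ ω' : G ⧸ N, (I.filter (fun i => i • o = ω')).card :=
    Finset.card_eq_sum_card_fiberwise (fun i _ => Finset.mem_coe.2 (Finset.mem_univ _))
  have hcardΩ : Fintype.card (G ⧸ N) = 1 + n * p := by
    rw [← Nat.card_eq_fintype_card]
    have := h.idx
    rwa [Subgroup.index] at this
  have hfull : ∀ ω' : G ⧸ N, ω' ≠ o → (I.filter (fun i => i • o = ω')).card = Nat.card (κu D).range := by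
    intro ω' hω'
    by_contra hne
    have hlt : (I.filter (fun i => i • o = ω')).card < Nat.card (κu D).range := lt_of_le_of_ne (hfib2 ω' hω') hne
    rw [← Finset.add_sum_erase Finset.univ _ (Finset.mem_univ o)] at hsum
    have h1 : ∑ x ∈ Finset.univ.erase o, (I.filter (fun i => i • o = x)).card <
        ∑ x ∈ Finset.univ.erase o, Nat.card (κu D).range := by
      apply Finset.sum_lt_sum
      · intro x hx
        exact hfib2 x (Finset.mem_erase.1 hx).1
      · exact ⟨ω', Finset.mem_erase.2 ⟨hω', Finset.mem_univ _⟩, hlt⟩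
    rw [Finset.sum_const, Finset.card_erase_of_mem (Finset.mem_univ _), Finset.card_univ, hcardΩ, smul_eq_mul] at h1
    have h2 : 1 + n * p - 1 = n * p := by omega
    rw [h2] at h1
    omega
  intro g hgE hgN hgL
  have hgo : (g : G ⧸ N) ≠ o := mk_ne.2 hgN
  have h1 := hfull (g : G ⧸ N) hgo
  -- an element
  obtain ⟨i₁, hi₁⟩ : (I.filter (fun i => i • o = (g : G ⧸ N))).Nonempty := by
    rw [← Finset.card_pos, h1]
    exact Nat.card_pos
  have hi₁' := hi₁
  rw [Finset.mem_filter] at hi₁'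
  have hinv₁ := (hIinv i₁ hi₁'.1).1
  have hsw : i₁ • (g : G ⧸ N) = o := by rw [← hi₁'.2, ← mul_smul, hinv₁, one_smul]
  -- surjectivity
  have h2 : ∀ x ∈ E N (g : G ⧸ N), i₁ * x ∈ I := by
    intro x hx
    have h3 : Finset.image (fun i => i₁⁻¹ * i) (I.filter (fun i => i • o = (g : G ⧸ N))) =
        Finset.univ.filter (fun x : G => x ∈ E N (g : G ⧸ N)) := by
      apply Finset.eq_of_subset_of_card_le
      · intro y hy
        obtain ⟨i, hi, rfl⟩ := Finset.mem_image.1 hy
        rw [Finset.mem_filter]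
        exact ⟨Finset.mem_univ _, hdiff _ i₁ hi₁ i hi⟩
      · rw [Finset.card_image_of_injective _ (mul_right_injective i₁⁻¹), h1, ← h.card_E hgo,
          Nat.card_eq_fintype_card (α := E N (g : G ⧸ N)), Fintype.card_subtype]
    have h4 : x ∈ Finset.image (fun i => i₁⁻¹ * i) (I.filter (fun i => i • o = (g : G ⧸ N))) := by
      rw [h3, Finset.mem_filter]; exact ⟨Finset.mem_univ _, hx⟩
    obtain ⟨i, hi, hix⟩ := Finset.mem_image.1 h4
    rw [← hix, mul_inv_cancel_left]
    exact (Finset.mem_filter.1 hi).1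
  -- `i₁` normalizes
  have h3 : i₁ ∈ Subgroup.normalizer (E N ω : Set G) := by
    have key : ∀ x ∈ E N ω, i₁ * x * i₁⁻¹ ∈ E N ω := by
      intro x hx
      rw [← hgE] at hx ⊢
      have h4 := mem_E.1 hx
      have h5 : i₁⁻¹ = i₁ := inv_eq_of_mul_eq_one_left hinv₁
      rw [mem_E, h5]
      constructor
      · rw [mem_N_iff, mul_smul, mul_smul, hi₁'.2, h4.2, hsw]
      · rw [mul_smul, mul_smul, hsw]
        have h6 := mem_N_iff.1 h4.1
        rw [← ho] at h6
        rw [h6, hi₁'.2]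
    rw [Subgroup.mem_normalizer_iff]
    intro x
    refine ⟨key x, fun hx => ?_⟩
    have h4 := key _ hx
    have h5 : i₁⁻¹ = i₁ := inv_eq_of_mul_eq_one_left hinv₁
    have h6 : i₁ * (i₁ * x * i₁⁻¹) * i₁⁻¹ = x := by
      rw [h5]
      calc i₁ * (i₁ * x * i₁) * i₁ = (i₁ * i₁) * x * (i₁ * i₁) := by group
        _ = x := by rw [hinv₁, one_mul, mul_one]
    rwa [h6] at h4
  have hgi : i₁⁻¹ * g ∈ E N ω := by
    apply (h.card_normalizer hω hPc).2.1
    · exact (Subgroup.normalizer (E N ω : Set G)).mul_mem ((Subgroup.normalizer (E N ω : Set G)).inv_mem h3) hgL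
    · rw [mem_N_iff, mul_smul]
      have h5 : i₁⁻¹ = i₁ := inv_eq_of_mul_eq_one_left hinv₁
      have h6 : g • ((1 : G) : G ⧸ N) = (g : G ⧸ N) := by
        change ((g * 1 : G) : G ⧸ N) = _
        rw [mul_one]
      rw [h5, h6]
      exact hsw
  have h4 := h2 (i₁⁻¹ * g) (by rw [hgE]; exact hgi)
  rw [mul_inv_cancel_left, hmemI] at h4
  exact h4

end Cfsg.Agent.Lib.BRInv
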