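import Mathlib.Algebra.Field.MinimalAxioms
import Mathlib.Algebra.Field.TransferInstance
import Mathlib.Algebra.Group.Action.Defs
import Mathlib.Algebra.Ring.Equiv
import Mathlib.SetTheory.Cardinal.Finite
import Mathlib.Algebra.GroupWithZero.Action.Defs
import Mathlib.Algebra.Group.Equiv.TypeTags
import Mathlib.Data.Fintype.EquivFin
import Mathlib.SetTheory.Cardinal.NatCard

/-!
# A commutative group acting regularly on the nonidentity elements of a commutative group
is the multiplicative group of a field (helper21)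
-/

set_option autoImplicit false

namespace Cfsg.Agent.Lib.RegField

/-- wrapper type carrying the field structure -/
@[ext] structure Wrap (A : Type*) where
  /-- underlying element -/
  val : A

/-- If the commutative group `D` acts by automorphisms on the commutative group `A`, regularly on the
nonidentity elements, then `A` is the additive group of a field with multiplicative group `D`. -/
theorem exists_field {A D : Type*} [CommGroup A] [CommGroup D] [MulDistribMulAction D A]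
    [Nontrivial A] (h : ∀ a b : A, a ≠ 1 → b ≠ 1 → ∃! d : D, d • a = b) :
    ∃ (_ : Field (Wrap A)) (φ : A ≃ Wrap A) (χ : D → Wrap A), φ 1 = 0 ∧
      (∀ a b : A, φ (a * b) = φ a + φ b) ∧
      (∀ (d : D) (a : A), φ (d • a) = χ d * φ a) ∧ (∀ d, χ d ≠ 0) ∧
      (∀ c : Wrap A, c ≠ 0 → ∃ d, χ d = c) := by
  classical
  obtain ⟨e, he⟩ := exists_ne (1 : A)
  have hne : ∀ (d : D) (a : A), a ≠ 1 → d • a ≠ 1 := by
    intro d a ha h1
    apply ha
    have := congrArg (fun x => d⁻¹ • x) h1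
    simpa only [smul_smul, inv_mul_cancel, one_smul, smul_one] using this
  have key : ∀ a : A, ∃ d : D, a ≠ 1 → d • e = a := by
    intro a
    by_cases ha : a = 1
    · exact ⟨1, fun h => absurd ha h⟩
    · obtain ⟨d, hd, -⟩ := h e a he ha
      exact ⟨d, fun _ => hd⟩
  choose δ hδ using key
  have huniq : ∀ d d' : D, d • e = d' • e → d = d' := by
    intro d d' hdd
    exact (h e (d' • e) he (hne d' e he)).unique hdd rfl
  have hδ1 : ∀ d : D, δ (d • e) = d := fun d => huniq _ _ (hδ _ (hne d e he))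
  have hδ2 : ∀ (d : D) (a : A), a ≠ 1 → δ (d • a) = d * δ a := by
    intro d a ha
    apply huniq
    rw [hδ _ (hne d a ha), mul_smul, hδ a ha]
  -- the multiplication
  let mul' : A → A → A := fun a b => if a = 1 then 1 else δ a • b
  have m1 : ∀ b : A, mul' 1 b = 1 := fun b => if_pos rfl
  have m2 : ∀ a b : A, a ≠ 1 → mul' a b = δ a • b := fun a b ha => if_neg ha
  have m3 : ∀ a : A, mul' a 1 = 1 := by
    intro a
    by_cases ha : a = 1
    · rw [ha, m1]
    · rw [m2 a 1 ha, smul_one]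
  have massoc : ∀ a b c : A, mul' (mul' a b) c = mul' a (mul' b c) := by
    intro a b c
    by_cases ha : a = 1
    · rw [ha, m1, m1, m1]
    · by_cases hb : b = 1
      · rw [hb, m3, m1, m3]
      · rw [m2 a b ha, m2 _ c (hne _ _ hb), hδ2 _ _ hb, m2 b c hb, m2 a _ ha, mul_smul]
  have mcomm : ∀ a b : A, mul' a b = mul' b a := by
    intro a b
    by_cases ha : a = 1
    · rw [ha, m1, m3]
    · by_cases hb : b = 1
      · rw [hb, m1, m3]
      · rw [m2 a b ha, m2 b a hb]
        conv_lhs => rw [← hδ b hb]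
        conv_rhs => rw [← hδ a ha]
        rw [smul_smul, smul_smul, mul_comm]
  have mone : ∀ a : A, mul' e a = a := by
    intro a
    rw [m2 e a he]
    have : δ e = 1 := by
      have := hδ1 1
      rwa [one_smul] at this
    rw [this, one_smul]
  have minv : ∀ a : A, a ≠ 1 → mul' a ((δ a)⁻¹ • e) = e := by
    intro a ha
    rw [m2 a _ ha, smul_smul, mul_inv_cancel, one_smul]
  have mdist : ∀ a b c : A, mul' a (b * c) = mul' a b * mul' a c := by
    intro a b c
    by_cases ha : a = 1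
    · rw [ha, m1, m1, m1, one_mul]
    · rw [m2 a _ ha, m2 a _ ha, m2 a _ ha, smul_mul']
  let iAdd : Add (Wrap A) := ⟨fun a b => ⟨a.val * b.val⟩⟩
  let iMul : Mul (Wrap A) := ⟨fun a b => ⟨mul' a.val b.val⟩⟩
  let iNeg : Neg (Wrap A) := ⟨fun a => ⟨a.val⁻¹⟩⟩
  let iInv : Inv (Wrap A) := ⟨fun a => if a.val = 1 then ⟨1⟩ else ⟨(δ a.val)⁻¹ • e⟩⟩
  let iZero : Zero (Wrap A) := ⟨⟨1⟩⟩
  let iOne : One (Wrap A) := ⟨⟨e⟩⟩
  have hz : ∀ a : Wrap A, a ≠ 0 → a.val ≠ 1 := by
    intro a ha h1
    exact ha (Wrap.ext h1)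
  let F : Field (Wrap A) := Field.ofMinimalAxioms (Wrap A)
    (fun a b c => Wrap.ext (mul_assoc a.val b.val c.val))
    (fun a => Wrap.ext (one_mul a.val))
    (fun a => Wrap.ext (inv_mul_cancel a.val))
    (fun a b c => Wrap.ext (massoc a.val b.val c.val))
    (fun a b => Wrap.ext (mcomm a.val b.val))
    (fun a => Wrap.ext (mone a.val))
    (fun a ha => by
      apply Wrap.ext
      change mul' a.val (Wrap.val (if a.val = 1 then ⟨1⟩ else ⟨(δ a.val)⁻¹ • e⟩)) = e
      rw [if_neg (hz a ha)]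
      exact minv _ (hz a ha))
    (by
      apply Wrap.ext
      change Wrap.val (if (1 : A) = 1 then ⟨1⟩ else ⟨(δ (1 : A))⁻¹ • e⟩) = 1
      rw [if_pos rfl])
    (fun a b c => Wrap.ext (mdist a.val b.val c.val))
    ⟨⟨e⟩, ⟨1⟩, fun h => he (congrArg Wrap.val h)⟩
  refine ⟨F, ⟨fun a => ⟨a⟩, fun a => a.val, fun a => rfl, fun a => rfl⟩, fun d => ⟨d • e⟩, rfl,
    fun a b => rfl, ?_, ?_, ?_⟩
  · intro d a
    change (⟨d • a⟩ : Wrap A) = ⟨mul' (d • e) a⟩
    rw [m2 _ a (hne d e he), hδ1]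
  · intro d h0
    exact hne d e he (congrArg Wrap.val h0)
  · intro c hc
    exact ⟨δ c.val, Wrap.ext (hδ c.val (hz c hc))⟩

/-- Version with a field in `Type`. -/
theorem exists_field' {A D : Type*} [CommGroup A] [CommGroup D] [MulDistribMulAction D A]
    [Nontrivial A] [Finite A] (h : ∀ a b : A, a ≠ 1 → b ≠ 1 → ∃! d : D, d • a = b) :
    ∃ (F : Type) (_ : Field F) (_ : Fintype F) (φ : A ≃ F) (χ : D → F), φ 1 = 0 ∧
      (∀ a b : A, φ (a * b) = φ a + φ b) ∧
      (∀ (d : D) (a : A), φ (d • a) = χ d * φ a) ∧ (∀ d, χ d ≠ 0) ∧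
      (∀ c : F, c ≠ 0 → ∃ d, χ d = c) := by
  obtain ⟨FA, φ, χ, h0, h1, h2, h3, h4⟩ := exists_field h
  let w : Wrap (Fin (Nat.card A)) ≃ Fin (Nat.card A) :=
    ⟨fun a => a.val, fun a => ⟨a⟩, fun a => rfl, fun a => rfl⟩
  let ε : Wrap (Fin (Nat.card A)) ≃ Wrap A := (w.trans (Finite.equivFin A).symm).trans φ
  let F0 : Field (Wrap (Fin (Nat.card A))) := ε.field
  let r : Wrap (Fin (Nat.card A)) ≃+* Wrap A := ε.ringEquiv
  have fin : Fintype (Wrap (Fin (Nat.card A))) := Fintype.ofEquiv _ w.symm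
  refine ⟨Wrap (Fin (Nat.card A)), F0, fin, φ.trans r.symm.toEquiv,
    fun d => r.symm (χ d), ?_, ?_, ?_, ?_, ?_⟩
  · change r.symm (φ 1) = 0
    rw [h0, map_zero]
  · intro a b
    change r.symm (φ (a * b)) = r.symm (φ a) + r.symm (φ b)
    rw [h1, map_add]
  · intro d a
    change r.symm (φ (d • a)) = r.symm (χ d) * r.symm (φ a)
    rw [h2, map_mul]
  · intro d
    exact (map_ne_zero_iff r.symm r.symm.injective).2 (h3 d)
  · intro c hc
    obtain ⟨d, hd⟩ := h4 (r c) ((map_ne_zero_iff r r.injective).2 hc)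
    exact ⟨d, by
      show r.symm (χ d) = c
      rw [hd]; simp⟩

end Cfsg.Agent.Lib.RegField
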