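import Cfsg.Agent.Lib.ElemCent2
import Cfsg.Agent.Lib.RegField
import Cfsg.Agent.Lib.PSLTwoRec

/-!
# Groups in which the centralizer of every involution is an elementary abelian 2-group, part 3 (helper21)

Identification with `PSL(2,F)`.
-/

set_option autoImplicit false

namespace Cfsg.Agent.Lib.ElemCent

open MulAction Cfsg.Agent.Lib.InvAct Cfsg.Agent.Lib.StrongEmbPt

theorem upper_eq {K : Type*} [Field K] (M : Matrix.SpecialLinearGroup (Fin 2) K)
    (hM : M 1 0 = 0) (h11 : M 1 1 = (M 0 0)⁻¹) (h00 : M 0 0 ≠ 0) :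
    M = PSLTwoRec.tr (M 0 0 * M 0 1) * PSLTwoRec.dg (M 0 0) h00 := by
  apply Subtype.ext
  change (M : Matrix (Fin 2) (Fin 2) K) =
    !![1, M 0 0 * M 0 1; 0, 1] * !![M 0 0, 0; 0, (M 0 0)⁻¹]
  rw [Matrix.mul_fin_two]
  have h2 : M 0 0 * M 0 1 * (M 0 0)⁻¹ = M 0 1 := by field_simp
  ext i j
  fin_cases i <;> fin_cases j <;> simp [hM, h11, h2]

theorem psl_two {G : Type*} [Group G] [Finite G] (T : Sylow 2 G)
    (hnc : ¬ IsCyclic (T : Subgroup G)) (hnn : ¬ (T : Subgroup G).Normal)
    (hC : ∀ t : G, orderOf t = 2 → IsMulCommutative (Subgroup.centralizer ({t} : Set G)) ∧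
      ∀ c ∈ Subgroup.centralizer ({t} : Set G), c ^ 2 = 1) :
    ∃ (F : Type) (_ : Field F) (_ : Fintype F), Fintype.card F = Nat.card T ∧
      Nonempty (G ≃* Matrix.ProjectiveSpecialLinearGroup (Fin 2) F) := by
  classical
  obtain ⟨y0, hy0⟩ := exists_ne_base T hnc hnn hC
  obtain ⟨u, hu⟩ := exists_invSwap T hnc hnn hC (base T) y0
  have huy := smul_of_swap hu.1 hu.2
  have hinv := inverts_two T hnc hnn hC hy0 hu
  set x0 : Pts T := base T with hx0
  set D : Subgroup G := stabilizer G x0 ⊓ stabilizer G y0 with hD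
  have hDN : ∀ d ∈ D, d ∈ Subgroup.normalizer ((T : Subgroup G) : Set G) :=
    fun d hd => (smul_one_eq_iff d).1 hd.1
  have hTx : ∀ t ∈ (T : Subgroup G), t • x0 = x0 := fun t ht =>
    (smul_one_eq_iff t).2 (Subgroup.le_normalizer ht)
  have hTconj : ∀ d ∈ D, ∀ t ∈ (T : Subgroup G), d * t * d⁻¹ ∈ (T : Subgroup G) :=
    fun d hd t ht => (Subgroup.mem_normalizer_iff.1 (hDN d hd) t).1 ht
  let iT : CommGroup ↥(T : Subgroup G) :=
    { (inferInstance : Group ↥(T : Subgroup G)) with
      mul_comm := fun a b => Subtype.ext (sylow_comm T hnc hC a.2 b.2) }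
  let iD : CommGroup ↥D :=
    { (inferInstance : Group ↥D) with
      mul_comm := fun a b => Subtype.ext (comm_of_inverts hinv a.2 b.2) }
  let iA : MulDistribMulAction ↥D ↥(T : Subgroup G) :=
    { smul := fun d t => ⟨d * t * (d : G)⁻¹, hTconj d d.2 t t.2⟩
      one_smul := fun t => Subtype.ext (by
        change ((1 : D) : G) * t * ((1 : D) : G)⁻¹ = t
        simp)
      mul_smul := fun d e t => Subtype.ext (by
        change ((d * e : D) : G) * t * ((d * e : D) : G)⁻¹ = d * (e * t * (e : G)⁻¹) * (d : G)⁻¹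
        simp only [Subgroup.coe_mul]; group)
      smul_mul := fun d s t => Subtype.ext (by
        change (d : G) * ((s * t : ↥(T : Subgroup G)) : G) * (d : G)⁻¹ =
          (d * s * (d : G)⁻¹) * (d * t * (d : G)⁻¹)
        simp only [Subgroup.coe_mul]; group)
      smul_one := fun d => Subtype.ext (by
        change (d : G) * ((1 : ↥(T : Subgroup G)) : G) * (d : G)⁻¹ = 1
        simp) }
  have hsmul : ∀ (d : D) (t : ↥(T : Subgroup G)), ((d • t : ↥(T : Subgroup G)) : G) =
      d * t * (d : G)⁻¹ := fun d t => rfl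
  have hnt : Nontrivial ↥(T : Subgroup G) := by
    have h4 := four_le_card T hnc hC
    have : 1 < Nat.card ↥(T : Subgroup G) := lt_of_lt_of_le (by norm_num) h4
    exact Finite.one_lt_card_iff_nontrivial.1 this
  have hmemfix : ∀ t : ↥(T : Subgroup G), t ≠ 1 → (t : G) ∈ invSwap G x0 x0 := by
    intro t ht
    rw [hx0, invFix_base T hnc hC]
    exact ⟨t.2, fun h => ht (Subtype.ext h)⟩
  have hreg : ∀ a b : ↥(T : Subgroup G), a ≠ 1 → b ≠ 1 → ∃! d : D, d • a = b := by
    intro a b ha hb
    obtain ⟨k, hk1, hk2, hk3⟩ := exists_conj_fix (uf T hnc hnn hC) hy0 (hmemfix a ha) (hmemfix b hb)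
    refine ⟨⟨k, hk1, hk2⟩, Subtype.ext hk3, ?_⟩
    intro d hd
    have h1 : (d : G) * a * (d : G)⁻¹ = b := congrArg Subtype.val hd
    have ha1 : (a : G) ≠ 1 := fun h => ha (Subtype.ext h)
    have h2 : k⁻¹ * d ∈ Subgroup.centralizer ({(a : G)} : Set G) := by
      rw [Subgroup.mem_centralizer_singleton_iff]
      have h3 : (d : G) * a = k * a * k⁻¹ * d := by
        rw [hk3, ← h1]; group
      calc k⁻¹ * d * a = k⁻¹ * (d * a) := by group
        _ = k⁻¹ * (k * a * k⁻¹ * d) := by rw [h3]
        _ = a * (k⁻¹ * d) := by group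
    rw [centralizer_eq T hnc hC a.2 ha1] at h2
    have h4 : k⁻¹ * d = 1 := by
      by_contra hne
      apply not_mem_both (uf T hnc hnn hC) hy0 (orderOf_of_mem T hnc hC h2 hne)
      · exact hTx _ h2
      · have h5 : (d : G) • y0 = y0 := d.2.2
        rw [← smul_smul, h5, inv_smul_eq_iff, hk2]
    exact Subtype.ext (inv_mul_eq_one.1 h4).symm
  obtain ⟨F, iF, iFt, φ, χ, φ1, φmul, φsmul, χne, χsurj⟩ :=
    Cfsg.Agent.Lib.RegField.exists_field' hreg
  -- φ.symm facts
  have φs0 : φ.symm 0 = 1 := by rw [← φ1, Equiv.symm_apply_apply]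
  have hchar : ∀ a : F, a + a = 0 := by
    intro a
    have h1 := φmul (φ.symm a) (φ.symm a)
    have h2 : φ.symm a * φ.symm a = 1 := Subtype.ext (sylow_sq T hnc hC (φ.symm a).2)
    rw [h2, φ1, Equiv.apply_symm_apply] at h1
    exact h1.symm
  have hneg : ∀ a : F, -a = a := fun a => neg_eq_of_add_eq_zero_left (hchar a)
  have hsq : ∀ a : F, ∃ s : F, s ^ 2 = a := by
    have hi : Function.Injective (fun s : F => s ^ 2) := by
      intro a b hab
      change a ^ 2 = b ^ 2 at hab
      have h1 : (a - b) ^ 2 = 0 := by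
        have : (a - b) ^ 2 = a ^ 2 + b ^ 2 - (a * b + a * b) := by ring
        rw [this, hchar, hab, hchar, sub_zero]
      exact sub_eq_zero.1 (pow_eq_zero_iff (two_ne_zero)|>.1 h1)
    intro a
    exact Finite.surjective_of_injective hi a
  -- the parametrization
  let f : OnePoint F → Pts T := fun k => Option.elim k x0 (fun k => ((φ.symm k : ↥(T : Subgroup G)) : G) • y0)
  have finf : f OnePoint.infty = x0 := rfl
  have fcoe : ∀ k : F, f (k : OnePoint F) = ((φ.symm k : ↥(T : Subgroup G)) : G) • y0 := fun k => rfl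
  have hy0' : y0 ≠ base T := Ne.symm hy0
  have hTy : ∀ t ∈ (T : Subgroup G), t • y0 ≠ x0 := by
    intro t ht h
    exact hy0 (MulAction.injective t ((hTx t ht).trans h.symm))
  have hf : Function.Bijective f := by
    constructor
    · intro a b hab
      induction a using OnePoint.rec with
      | infty =>
        induction b using OnePoint.rec with
        | infty => rfl
        | coe b =>
          rw [finf, fcoe] at hab
          exact absurd hab.symm (hTy _ (φ.symm b).2)
      | coe a =>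
        induction b using OnePoint.rec with
        | infty =>
          rw [finf, fcoe] at hab
          exact absurd hab (hTy _ (φ.symm a).2)
        | coe b =>
          rw [fcoe, fcoe] at hab
          have h1 := (regular T hnc hnn hC hy0' (hTy _ (φ.symm b).2)).unique
            ⟨(φ.symm a).2, hab⟩ ⟨(φ.symm b).2, rfl⟩
          have h2 : φ.symm a = φ.symm b := Subtype.ext h1
          rw [φ.symm.injective h2]
    · intro z
      by_cases hz : z = x0
      · exact ⟨OnePoint.infty, hz.symm⟩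
      · obtain ⟨t, ⟨ht, htz⟩, -⟩ := regular T hnc hnn hC hy0' hz
        refine ⟨((φ ⟨t, ht⟩ : F) : OnePoint F), ?_⟩
        rw [fcoe, Equiv.symm_apply_apply]
        exact htz
  let β : Pts T ≃ OnePoint F := (Equiv.ofBijective f hf).symm
  let ρ : G →* Equiv.Perm (OnePoint F) :=
    (β.permCongrHom.toMonoidHom).comp (MulAction.toPermHom G (Pts T))
  have hρ : ∀ (g : G) (k : OnePoint F), ρ g k = β (g • f k) := fun g k => rfl
  have hβ : ∀ k : OnePoint F, β (f k) = k := fun k => (Equiv.ofBijective f hf).symm_apply_apply k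
  have hact : ∀ (g : G) (σ : Equiv.Perm (OnePoint F)), (∀ k, g • f k = f (σ k)) → ρ g = σ := by
    intro g σ h
    ext k
    rw [hρ, h, hβ]
  -- claim 1
  have cl1 : ∀ t : ↥(T : Subgroup G), ρ t = PSLTwoRec.act F (PSLTwoRec.tr (φ t)) := by
    intro t
    apply hact
    intro k
    induction k using OnePoint.rec with
    | infty => rw [PSLTwoRec.act_tr_infty, finf]; exact hTx _ t.2
    | coe k =>
      rw [PSLTwoRec.act_tr_coe, fcoe, fcoe]
      have h1 : φ.symm (k + φ t) = t * φ.symm k := by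
        rw [Equiv.symm_apply_eq, φmul, Equiv.apply_symm_apply, add_comm]
      rw [h1, Subgroup.coe_mul, smul_smul]
  -- claim 2
  have cl2 : ∀ (d : D) (s : F) (hs : s ≠ 0), s ^ 2 = χ d →
      ρ d = PSLTwoRec.act F (PSLTwoRec.dg s hs) := by
    intro d s hs hsd
    apply hact
    intro k
    have hdx : (d : G) • x0 = x0 := d.2.1
    have hdy : (d : G) • y0 = y0 := d.2.2
    induction k using OnePoint.rec with
    | infty => rw [PSLTwoRec.act_dg_infty, finf]; exact hdx
    | coe k =>
      rw [PSLTwoRec.act_dg_coe, fcoe, fcoe]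
      have h1 : φ.symm (s ^ 2 * k) = d • φ.symm k := by
        rw [Equiv.symm_apply_eq, φsmul, Equiv.apply_symm_apply, hsd]
      rw [h1, hsmul, ← smul_smul, ← smul_smul]
      congr 2
      rw [eq_inv_smul_iff]; exact hdy
  -- claim 3
  obtain ⟨e, he⟩ : ∃ e : ↥(T : Subgroup G), φ e = 1 := ⟨φ.symm 1, by simp⟩
  have hσ : ∀ t : ↥(T : Subgroup G), t ≠ 1 → ∃ s : ↥(T : Subgroup G), u • (t : G) • y0 = (s : G) • y0 := by
    intro t ht
    have h1 : u • (t : G) • y0 ≠ x0 := by
      intro h
      have h2 : (t : G) • y0 = y0 := MulAction.injective u (h.trans huy.symm)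
      exact not_mem_both (uf T hnc hnn hC) hy0 (hmemfix t ht).1 (hTx _ t.2) h2
    obtain ⟨s, ⟨hs, hsz⟩, -⟩ := regular T hnc hnn hC hy0' h1
    exact ⟨⟨s, hs⟩, hsz.symm⟩
  have he1 : e ≠ 1 := by
    intro h
    rw [h, φ1] at he
    exact zero_ne_one he
  obtain ⟨e', he'⟩ := hσ e he1
  have hχinv : ∀ d : D, χ d⁻¹ * χ d = 1 := by
    intro d
    have h1 : φ (d⁻¹ • d • e) = φ e := by rw [smul_smul, inv_mul_cancel, one_smul]
    rw [φsmul, φsmul, he, mul_one] at h1
    exact h1
  have he'1 : φ e' ≠ 0 := by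
    intro h
    have h2 : e' = 1 := by
      rw [← φ1] at h; exact φ.injective h
    rw [h2, Subgroup.coe_one, one_smul] at he'
    exact hTy _ e.2 (MulAction.injective u (he'.trans hu.2.symm))
  obtain ⟨r, hr⟩ := hsq (-φ e')
  have hr0 : r ≠ 0 := by
    rintro rfl
    rw [zero_pow two_ne_zero] at hr
    exact he'1 (neg_eq_zero.1 hr.symm)
  have cl3 : ρ u = PSLTwoRec.act F (PSLTwoRec.wl r hr0) := by
    apply hact
    intro k
    induction k using OnePoint.rec with
    | infty =>
      rw [PSLTwoRec.act_wl_infty, finf, fcoe, φs0, Subgroup.coe_one, one_smul]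
      exact hu.2
    | coe k =>
      by_cases hk : k = 0
      · rw [hk, PSLTwoRec.act_wl_zero, finf, fcoe, φs0, Subgroup.coe_one, one_smul]
        exact huy
      · rw [PSLTwoRec.act_wl_coe r hr0 k hk, fcoe, fcoe]
        obtain ⟨d, hd⟩ := χsurj k hk
        have h1 : φ.symm k = d • e := by
          rw [Equiv.symm_apply_eq, φsmul, he, hd, mul_one]
        have h2 : φ.symm (-r ^ 2 / k) = d⁻¹ • e' := by
          rw [Equiv.symm_apply_eq, φsmul, hr, neg_neg, div_eq_mul_inv, mul_comm]
          congr 1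
          rw [← hd]
          exact (eq_inv_of_mul_eq_one_left (hχinv d)).symm
        rw [h1, h2, hsmul, hsmul]
        have hdy : (d : G) • y0 = y0 := d.2.2
        have hdy' : (d : G)⁻¹ • y0 = y0 := by rw [inv_smul_eq_iff, hdy]
        have hdu : u * (d : G) = (d : G)⁻¹ * u := by
          rw [← hinv d d.2]; group
        rw [Subgroup.coe_inv, inv_inv]
        calc u • ((d : G) * e * (d : G)⁻¹) • y0 = (u * d) • (e : G) • (d : G)⁻¹ • y0 := by
              simp only [smul_smul, mul_assoc]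
          _ = ((d : G)⁻¹ * u) • (e : G) • y0 := by rw [hdy', hdu]
          _ = (d : G)⁻¹ • u • (e : G) • y0 := by simp only [smul_smul, mul_assoc]
          _ = (d : G)⁻¹ • (e' : G) • y0 := by rw [he']
          _ = (d : G)⁻¹ • (e' : G) • (d : G) • y0 := by rw [hdy]
          _ = ((d : G)⁻¹ * e' * d) • y0 := by simp only [smul_smul, mul_assoc]
  -- injectivity
  have hinj : Function.Injective ρ := by
    rw [injective_iff_map_eq_one]
    intro g hg
    have hfix : ∀ z : Pts T, g • z = z := by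
      intro z
      obtain ⟨k, rfl⟩ := hf.2 z
      have h1 := hρ g k
      rw [hg] at h1
      have h2 : β (g • f k) = β (f k) := by rw [hβ, ← h1]; rfl
      exact β.injective h2
    -- three distinct points
    have h3 : ((e : G)) • y0 ≠ y0 := by
      intro h
      exact not_mem_both (uf T hnc hnn hC) hy0 (hmemfix e he1).1 (hTx _ e.2) h
    exact eq_one_of_three T hnc hnn hC hy0 (Ne.symm (hTy _ e.2)) (Ne.symm h3) (hfix _) (hfix _)
      (hfix _)
  -- decomposition
  have hfixdec : ∀ g : G, g • x0 = x0 → ∃ (t : ↥(T : Subgroup G)) (d : D), g = t * d := by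
    intro g hg
    have h1 : g • y0 ≠ x0 := fun h => hy0 (MulAction.injective g (hg.trans h.symm))
    obtain ⟨t, ⟨ht, htz⟩, -⟩ := regular T hnc hnn hC hy0' h1
    refine ⟨⟨t, ht⟩, ⟨t⁻¹ * g, ?_, ?_⟩, by simp⟩
    · show (t⁻¹ * g) • x0 = x0
      rw [← smul_smul, hg, inv_smul_eq_iff, hTx t ht]
    · show (t⁻¹ * g) • y0 = y0
      rw [← smul_smul, inv_smul_eq_iff, htz]
  have hrange : ρ.range = (PSLTwoRec.act F).range := by
    apply le_antisymm
    · have hT : ∀ t : ↥(T : Subgroup G), ρ t ∈ (PSLTwoRec.act F).range := fun t => ⟨_, (cl1 t).symm⟩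
      have hDr : ∀ d : D, ρ d ∈ (PSLTwoRec.act F).range := by
        intro d
        obtain ⟨s, hs⟩ := hsq (χ d)
        have hs0 : s ≠ 0 := by
          rintro rfl
          rw [zero_pow two_ne_zero] at hs
          exact χne d hs.symm
        exact ⟨_, (cl2 d s hs0 hs).symm⟩
      have hur : ρ u ∈ (PSLTwoRec.act F).range := ⟨_, cl3.symm⟩
      have hH : ∀ g : G, g • x0 = x0 → ρ g ∈ (PSLTwoRec.act F).range := by
        intro g hg
        obtain ⟨t, d, rfl⟩ := hfixdec g hg
        rw [map_mul]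
        exact Subgroup.mul_mem _ (hT t) (hDr d)
      rintro _ ⟨g, rfl⟩
      by_cases hg : g • x0 = x0
      · exact hH g hg
      · obtain ⟨t, ⟨ht, htz⟩, -⟩ := regular T hnc hnn hC hy0' hg
        have h1 : ((t * u)⁻¹ * g) • x0 = x0 := by
          rw [← smul_smul, inv_smul_eq_iff, ← smul_smul, hu.2, htz]
        have h2 : g = t * u * ((t * u)⁻¹ * g) := by group
        rw [h2, map_mul, map_mul]
        exact Subgroup.mul_mem _ (Subgroup.mul_mem _ (hT ⟨t, ht⟩) hur) (hH _ h1)
    · have htr : ∀ b : F, PSLTwoRec.act F (PSLTwoRec.tr b) ∈ ρ.range := by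
        intro b
        refine ⟨((φ.symm b : ↥(T : Subgroup G)) : G), ?_⟩
        rw [cl1, Equiv.apply_symm_apply]
      have hdg : ∀ (s : F) (hs : s ≠ 0), PSLTwoRec.act F (PSLTwoRec.dg s hs) ∈ ρ.range := by
        intro s hs
        obtain ⟨d, hd⟩ := χsurj (s ^ 2) (pow_ne_zero 2 hs)
        exact ⟨d, cl2 d s hs hd.symm⟩
      have hup : ∀ M : Matrix.SpecialLinearGroup (Fin 2) F, M 1 0 = 0 →
          PSLTwoRec.act F M ∈ ρ.range := by
        intro M hM
        have hdet := PSLTwoRec.det_eq M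
        rw [hM, mul_zero, sub_zero] at hdet
        have h00 : M 0 0 ≠ 0 := left_ne_zero_of_mul_eq_one hdet
        have h11 : M 1 1 = (M 0 0)⁻¹ := eq_inv_of_mul_eq_one_right hdet
        rw [upper_eq M hM h11 h00, map_mul]
        exact Subgroup.mul_mem _ (htr _) (hdg _ _)
      rintro _ ⟨M, rfl⟩
      by_cases hM : M 1 0 = 0
      · exact hup M hM
      · set N := PSLTwoRec.tr (M 0 0 / M 1 0) * PSLTwoRec.wl r hr0 with hN
        have h1 : PSLTwoRec.act F (N⁻¹ * M) OnePoint.infty = OnePoint.infty := by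
          rw [map_mul, map_inv, Equiv.Perm.mul_apply, Equiv.Perm.inv_eq_iff_eq, hN, map_mul,
            Equiv.Perm.mul_apply, PSLTwoRec.act_wl_infty, PSLTwoRec.act_tr_coe,
            PSLTwoRec.act_infty, if_neg hM, zero_add]
        have h2 : (N⁻¹ * M) 1 0 = 0 := by
          by_contra hne
          rw [PSLTwoRec.act_infty, if_neg hne] at h1
          exact OnePoint.coe_ne_infty _ h1
        have h3 : M = N * (N⁻¹ * M) := by group
        rw [h3, map_mul]
        refine Subgroup.mul_mem _ ?_ (hup _ h2)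
        rw [hN, map_mul]
        exact Subgroup.mul_mem _ (htr _) ⟨u, cl3⟩
  refine ⟨F, iF, iFt, ?_, PSLTwoRec.recognize ρ hinj hrange⟩
  rw [← Nat.card_eq_fintype_card, ← Nat.card_congr φ]

end Cfsg.Agent.Lib.ElemCent
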