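import Mathlib
import Cfsg.Agent.Lib.BRInv
import Cfsg.Agent.S1230

set_option autoImplicit false
set_option linter.all false

/-!
# The Brauer–Reynolds theorem, reduced case
-/

namespace Cfsg.Agent.Lib.BRMain

open Cfsg Cfsg.Agent.Lib.BlockRing Cfsg.Agent.Lib.BlockGA Cfsg.Agent.Lib.BlockIdem
open Cfsg.Agent.Lib.DefOneLoc Cfsg.Agent.Lib.DefOneOrd Cfsg.Agent.Lib.CharBasic Cfsg.Agent.Lib.DefOneGram
open Cfsg.Agent.Lib.DefOne Cfsg.Agent.Lib.BlockThird Cfsg.Agent.Lib.DefOnePrin Cfsg.Agent.Lib.BRB0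
open Cfsg.Agent.Lib.BRNum Cfsg.Agent.Lib.BRDeg Cfsg.Agent.Lib.BRCore Cfsg.Agent.Lib.BROne Cfsg.Agent.Lib.BRInd
open Cfsg.Agent.Lib.BRT1 Cfsg.Agent.Lib.BRGrp Cfsg.Agent.Lib.BRInv

universe u

variable {G : Type u} [Group G] [Fintype G] {p : ℕ} [hp : Fact p.Prime] {P N C : Subgroup G}
  {D : Loc p P N C} [Fintype C]

/-- group of exponent two that is small -/
theorem e_eq_two {n : ℕ} (h : Cmp D n) (hodd : p ≠ 2) {ω : G ⧸ N} (hω : ω ≠ ((1 : G) : G ⧸ N))
    (hx : ∀ x ∈ E N ω, x * x = 1) : Nat.card (κu D).range = 2 := by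
  classical
  have hle : E N ω ≤ N := inf_le_left
  have h1 : Nat.card (E N ω) ≤ 2 := by
    by_contra hcon
    push Not at hcon
    letI : Fintype (E N ω) := Fintype.ofFinite _
    rw [Nat.card_eq_fintype_card] at hcon
    obtain ⟨a, b, c, hab, hac, hbc⟩ := Fintype.two_lt_card_iff.1 hcon
    -- two of them are nontrivial
    have key : ∀ a b : E N ω, a ≠ 1 → b ≠ 1 → a = b := by
      intro a b ha hb
      have h2 := kappa_inv h hodd (i := ⟨a, hle a.2⟩) (Subtype.ext (hx a a.2)) (fun h3 => ha (Subtype.ext (congrArg (fun z : N => (z : G)) h3)))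
      have h3 := kappa_inv h hodd (i := ⟨b, hle b.2⟩) (Subtype.ext (hx b b.2)) (fun h3 => hb (Subtype.ext (congrArg (fun z : N => (z : G)) h3)))
      have h4 := h.inj hω (x := ⟨a, hle a.2⟩) (y := ⟨b, hle b.2⟩) a.2 b.2 (h2.trans h3.symm)
      exact Subtype.ext (congrArg (fun z : N => (z : G)) h4)
    by_cases ha : a = 1
    · have hb : b ≠ 1 := fun h2 => hab (ha.trans h2.symm)
      have hc : c ≠ 1 := fun h2 => hac (ha.trans h2.symm)
      exact hbc (key b c hb hc)
    · by_cases hb : b = 1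
      · have hc : c ≠ 1 := fun h2 => hbc (hb.trans h2.symm)
        exact hac (key a c ha hc)
      · exact hab (key a b ha hb)
  have h2 := h.he
  rw [← h.card_E hω] at h2 ⊢
  omega

theorem caseC {n : ℕ} (h : Ctx D n) (hPS : ∃ Q : Sylow p G, (Q : Subgroup G) = P) (B : B0 D)
    (ht : 1 < Nat.card (Tau D)) (hs : B.s = -1) :
    (n = 1 ∧ Nat.card (Tau D) = 2 ∧ C ≤ P) ∨
    (∃ (m : ℕ) (F : Type) (_ : Field F) (_ : Fintype F), Fintype.card F = 2 ^ m ∧ p = 2 ^ m + 1 ∧ 3 < p ∧
      Nonempty (G ≃* Matrix.ProjectiveSpecialLinearGroup (Fin 2) F)) := by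
  classical
  letI : Fintype N := Fintype.ofFinite _
  obtain ⟨χ₀, hχ₀, hχ₀'⟩ := Xm_nonempty h B ht
  have hC1 : ∀ c : C, D.l c = 0 → c = 1 := C_trivial h hPS χ₀ hχ₀ hχ₀'
  have hCP : C ≤ P := le_P D hC1
  have hpe := p_eq D
  have he := h.he
  have hn := h.hn
  have hdeg : ∀ φ : (ZMod p)ˣ →* ℂˣ, indFun N (lf N (psi D φ)) 1 = ((1 + n * p : ℕ) : ℂ) := by
    intro φ
    rw [ind_one, h.idx]
  have hort : ∀ φ : (ZMod p)ˣ →* ℂˣ, psi D φ ≠ 1 →
      classInner (indFun N (lf N (psi D φ))) (indFun N (lf N (psi D 1))) = 0 := by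
    intro φ hφ
    exact ortho_two h B ht hs (isChar_ind φ) (isChar_ind 1) (hdeg φ) (hdeg 1) (fun c hc => ind_sing hC1 φ c hc)
      (fun c hc => ind_sing hC1 1 c hc) (by rw [mlt_ind_triv, if_neg hφ])
      (by rw [mlt_ind_triv, if_pos (show psi D 1 = 1 from rfl)])
  have hcmp : Cmp D n := ⟨hCP, fun g hg k hk => onto_of_ortho D hort hg hk, h.he, h.idx, h.hn⟩
  -- a point
  obtain ⟨g₀, hg₀⟩ : ∃ g : G, g ∉ N := by
    by_contra hcon
    push Not at hcon
    have h1 : N = ⊤ := by rw [eq_top_iff]; exact fun x _ => hcon x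
    have h2 := h.idx
    rw [h1, Subgroup.index_top] at h2
    have h4 := hp.out.pos
    have : 0 < n * p := by positivity
    omega
  set ω : G ⧸ N := (g₀ : G ⧸ N) with hωdef
  have hω : ω ≠ ((1 : G) : G ⧸ N) := mk_ne.2 hg₀
  have hle : E N ω ≤ N := inf_le_left
  obtain ⟨hL, hLN, hLE⟩ := hcmp.card_normalizer hω h.hP
  set L := Subgroup.normalizer (E N ω : Set G) with hLdef
  set e := Nat.card (κu D).range with hedef
  set t := Nat.card (Tau D) with htdef
  -- orders
  have hCc : Nat.card C = p := by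
    have h1 : C = P := le_antisymm hCP D.PC
    rw [h1]; exact h.hP
  have hNc : Nat.card N = e * p := by
    have h1 := C.card_mul_index
    have h2 := N.card_mul_index
    rw [index_C D, hCc] at h1
    have h3 : 0 < N.index := Nat.pos_of_ne_zero Subgroup.index_ne_zero_of_finite
    apply Nat.eq_of_mul_eq_mul_right h3
    rw [h2, ← h1]; ring
  have hGc : Nat.card G = e * p * (1 + n * p) := by
    rw [← hNc, ← h.idx, Subgroup.card_mul_index]
  -- numbers
  obtain ⟨q⟩ : Nonempty (Tau D) := inferInstance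
  obtain ⟨k, hk⟩ := B.degY q
  have hz0 := BlockDeg.charDegree_pos (B.Y q).2
  obtain ⟨hz1, hz2⟩ : charDegree (B.Y q : G → ℂ) * t = 1 + n * p ∧ charDegree (B.Y q : G → ℂ) * (p - 1) = e * (1 + n * p) := by
    rcases deg_Y h B ht q with ⟨h1, -⟩ | ⟨-, h1⟩
    · rw [hs] at h1; norm_num at h1
    · exact h1
  have hrel := relation_deg h B ht q
  have hcs := card_split B ht
  rw [hs] at hk hrel
  obtain ⟨hze, hnt, hea, heven⟩ := numC (z := charDegree (B.Y q : G → ℂ)) (k := k) hp.out hpe he ht hn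
    (by rw [hk]; ring) hz1 (by rw [← hrel]; ring) hcs (by
      rw [← hGc, ← hL]; exact Subgroup.card_subgroup_dvd_card L)
  set z := charDegree (B.Y q : G → ℂ) with hzdef
  have hp2 : 2 < p := by
    have : 2 * 2 ≤ e * t := Nat.mul_le_mul (by omega) (by omega)
    omega
  have hodd : p ≠ 2 := by omega
  by_cases hn1 : n = 1
  · left
    exact ⟨hn1, by omega, hCP⟩
  right
  -- the involution
  obtain ⟨y₀, hy₀⟩ := neg_one_mem hcmp hodd heven
  obtain ⟨j, hj, hjy⟩ := hcmp.surj hω y₀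
  rw [hy₀] at hjy
  have hjj : j * j = 1 := by
    apply hcmp.inj hω ((E N ω).mul_mem hj hj) (E N ω).one_mem
    rw [map_mul, hjy, map_one]; simp
  have hj1 : j ≠ 1 := by
    intro h1
    rw [h1, map_one] at hjy
    have h2 := congrArg (fun z : (ZMod p)ˣ => (z : ZMod p)) hjy
    beta_reduce at h2
    rw [Units.val_one, Units.val_neg, Units.val_one] at h2
    have h3 : ((2 : ℕ) : ZMod p) = 0 := by
      push_cast
      linear_combination h2
    rw [ZMod.natCast_eq_zero_iff] at h3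
    have := Nat.le_of_dvd (by norm_num) h3
    omega
  have hjj' : (j : G) * j = 1 := congrArg Subtype.val hjj
  have hj1' : (j : G) ≠ 1 := fun h1 => hj1 (Subtype.ext h1)
  have huniq : ∀ i ∈ E N ω, i * i = 1 → i ≠ 1 → i = j := by
    intro i hi hii hi1
    have h1 := kappa_inv hcmp hodd (i := ⟨i, hle hi⟩) (Subtype.ext hii) (fun h2 => hi1 (congrArg Subtype.val h2))
    have h2 := hcmp.inj hω (x := ⟨i, hle hi⟩) (y := j) hi hj (by rw [h1, hjy])
    exact congrArg Subtype.val h2
  have hcent := centralizer_eq hcmp hω hj hj1' huniq hjj'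
  have hLc : Nat.card L = p - 1 := by
    rw [hL, hnt, mul_comm, hpe]; omega
  have hindex : (Subgroup.centralizer ({(j : G)} : Set G)).index = p * z := by
    have h1 := (Subgroup.centralizer ({(j : G)} : Set G)).card_mul_index
    rw [hcent] at h1 ⊢
    rw [← hLdef] at h1 ⊢
    rw [hLc, hGc] at h1
    have h2 : e * p * (1 + n * p) = (p - 1) * (p * z) := by
      have h3 : (p - 1) * z = e * (1 + n * p) := by rw [← hz2]; ring
      calc e * p * (1 + n * p) = p * (e * (1 + n * p)) := by ring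
        _ = p * ((p - 1) * z) := by rw [h3]
        _ = (p - 1) * (p * z) := by ring
    rw [h2] at h1
    exact Nat.eq_of_mul_eq_mul_left (by omega) h1
  have hindex' : (Subgroup.centralizer ({(j : G)} : Set G)).index = p + n * p * e := by
    rw [hindex]
    have h1 : z = 1 + n * e := by
      have h2 : p = e * (n + 1) + 1 := by rw [hnt]; exact hpe
      have h3 : z + e = e * (n + 1) + 1 := by rw [← h2]; exact hze
      have h4 : e * (n + 1) = n * e + e := by ring
      omega
    rw [h1]; ring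
  have hswap := swap hcmp hodd h.hP hω hj hj1' hjj' hindex'
  have hswap' : ∀ g ∈ L, g ∉ N → IsConj (j : G) g := fun g hg hgN => hswap g (hLE g hg hgN) hgN hg
  have hinvol : ∀ g, IsConj (j : G) g → g * g = 1 ∧ g ≠ 1 := by
    intro i hi
    obtain ⟨c, hc⟩ := isConj_iff.1 hi
    constructor
    · rw [← hc]
      have : c * j * c⁻¹ * (c * j * c⁻¹) = c * (j * j) * c⁻¹ := by group
      rw [this, hjj']; group
    · intro h1
      apply hj1'
      have h4 : (j : G) = c⁻¹ * (c * j * c⁻¹) * c := by group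
      rw [h4, hc, h1]; group
  -- exponent two
  have hEE : ∀ x ∈ E N ω, x * x = 1 := by
    -- elements of `L` outside of `N`
    have hLE' : (E N ω) ≤ L := Subgroup.le_normalizer
    have hcE : Nat.card (E N ω) = e := hcmp.card_E hω
    obtain ⟨g₁, hg₁, hg₁N⟩ : ∃ g ∈ L, g ∉ N := by
      by_contra hcon
      push Not at hcon
      have h1 : L ≤ E N ω := fun g hg => hLN g hg (hcon g hg)
      have h2 := Subgroup.card_le_of_le h1
      rw [hcE, hL] at h2
      have : 2 * e ≤ (n + 1) * e := Nat.mul_le_mul_right _ (by omega)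
      omega
    obtain ⟨g₂, hg₂, hg₂N, hg₁₂⟩ : ∃ g ∈ L, g ∉ N ∧ g₁ * g ∉ N := by
      by_contra hcon
      push Not at hcon
      letI : Fintype (E N ω) := Fintype.ofFinite _
      letI : Fintype L := Fintype.ofFinite _
      have h1 : (Finset.univ.filter (fun g : G => g ∈ L)) ⊆ (Finset.univ.filter (fun g : G => g ∈ E N ω)) ∪
          ((Finset.univ.filter (fun g : G => g ∈ E N ω)).image (fun x => g₁⁻¹ * x)) := by
        intro g hg
        have hgL : g ∈ L := (Finset.mem_filter.1 hg).2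
        rw [Finset.mem_union, Finset.mem_filter, Finset.mem_image]
        by_cases hgN : g ∈ N
        · exact Or.inl ⟨Finset.mem_univ _, hLN g hgL hgN⟩
        · right
          refine ⟨g₁ * g, ?_, inv_mul_cancel_left _ _⟩
          rw [Finset.mem_filter]
          exact ⟨Finset.mem_univ _, hLN _ (L.mul_mem hg₁ hgL) (hcon g hgL hgN)⟩
      have h2 := (Finset.card_le_card h1).trans (Finset.card_union_le _ _)
      rw [Finset.card_image_of_injective _ (mul_right_injective _)] at h2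
      have h3 : (Finset.univ.filter (fun g : G => g ∈ E N ω)).card = e := by
        rw [← hcE, ← Fintype.card_subtype, ← Nat.card_eq_fintype_card]
      have h4 : (Finset.univ.filter (fun g : G => g ∈ L)).card = (n + 1) * e := by
        rw [← hL, ← Fintype.card_subtype, ← Nat.card_eq_fintype_card]
      rw [h3, h4] at h2
      have : 3 * e ≤ (n + 1) * e := Nat.mul_le_mul_right _ (by omega)
      omega
    have hinvt : ∀ g ∈ L, g ∉ N → ∀ x ∈ E N ω, g * x * g = x⁻¹ := by
      intro g hg hgN x hx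
      have h1 : g * x ∉ N := fun h2 => hgN ((N.mul_mem_cancel_right (hle hx)).1 h2)
      have h2 := (hinvol _ (hswap' (g * x) (L.mul_mem hg (hLE' hx)) h1)).1
      rw [eq_inv_iff_mul_eq_one]
      rw [← h2]; group
    intro x hx
    have h1 := hinvt g₁ hg₁ hg₁N
    have h2 := hinvt g₂ hg₂ hg₂N x hx
    have h3 := hinvt (g₁ * g₂) (L.mul_mem hg₁ hg₂) hg₁₂ x hx
    have h4 := (hinvol _ (hswap' (g₁ * g₂) (L.mul_mem hg₁ hg₂) hg₁₂)).1
    have h5 := (hinvol _ (hswap' g₁ hg₁ hg₁N)).1
    have h6 := (hinvol _ (hswap' g₂ hg₂ hg₂N)).1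
    have h7 : g₁ * g₂ = g₂ * g₁ := by
      have h8 : g₁⁻¹ = g₁ := inv_eq_of_mul_eq_one_left h5
      have h9 : g₂⁻¹ = g₂ := inv_eq_of_mul_eq_one_left h6
      have h10 : (g₁ * g₂)⁻¹ = g₁ * g₂ := inv_eq_of_mul_eq_one_left h4
      rw [mul_inv_rev, h8, h9] at h10
      exact h10.symm
    have h8 : g₁ * g₂ * x * (g₁ * g₂) = x := by
      calc g₁ * g₂ * x * (g₁ * g₂) = g₁ * g₂ * x * (g₂ * g₁) := by rw [h7]
        _ = g₁ * (g₂ * x * g₂) * g₁ := by group
        _ = g₁ * x⁻¹ * g₁ := by rw [h2]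
        _ = x := by rw [h1 _ ((E N ω).inv_mem hx), inv_inv]
    rw [h8] at h3
    exact eq_inv_iff_mul_eq_one.1 h3
  have he2 : e = 2 := e_eq_two hcmp hodd hω hEE
  have hLexp : ∀ y ∈ L, y * y = 1 := by
    intro y hy
    by_cases hyN : y ∈ N
    · exact hEE y (hLN y hy hyN)
    · exact (hinvol y (hswap' y hy hyN)).1
  have hp5 : 5 ≤ p := by
    rw [hpe, he2]; omega
  haveI : Fact (Nat.Prime 2) := ⟨Nat.prime_two⟩
  have hL2 : IsPGroup 2 L := by
    intro y
    refine ⟨1, Subtype.ext ?_⟩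
    rw [pow_one, pow_two]
    exact hLexp y y.2
  have hz2' : z + 2 = p := by rw [← he2]; exact hze
  have hpo : p % 2 = 1 := hp.out.eq_two_or_odd.resolve_left hodd
  have hLidx : ¬ 2 ∣ L.index := by
    rw [hLdef, ← hcent, hindex]
    intro h1
    rcases (Nat.Prime.dvd_mul Nat.prime_two).1 h1 with h2 | h2 <;> omega
  set T : Sylow 2 G := hL2.toSylow hLidx with hT
  have hTL : (T : Subgroup G) = L := rfl
  have hjL : (j : G) ∈ L := Subgroup.le_normalizer hj
  -- all involutions are conjugate to `j`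
  have hallconj : ∀ s : G, orderOf s = 2 → IsConj (j : G) s := by
    intro s hs2
    have h1 : IsPGroup 2 (Subgroup.zpowers s) := by
      rw [IsPGroup.iff_card]
      exact ⟨1, by rw [Nat.card_zpowers, hs2, pow_one]⟩
    obtain ⟨S, hS⟩ := h1.exists_le_sylow
    obtain ⟨g, hg⟩ := MulAction.exists_smul_eq G T S
    have h2 : s ∈ (S : Subgroup G) := hS (Subgroup.mem_zpowers s)
    rw [← hg, Sylow.coe_subgroup_smul, Subgroup.mem_pointwise_smul_iff_inv_smul_mem, hTL] at h2
    have h3 : (MulAut.conj g)⁻¹ • s = g⁻¹ * s * g := by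
      rw [← map_inv, MulAut.smul_def, MulAut.conj_apply, inv_inv]
    rw [h3] at h2
    have h4 : g⁻¹ * s * g ≠ 1 := by
      intro h5
      have h6 : s = g * (g⁻¹ * s * g) * g⁻¹ := by group
      rw [h5] at h6
      have h7 : s = 1 := by rw [h6]; group
      rw [h7, orderOf_one] at hs2
      norm_num at hs2
    have h5 : IsConj (g⁻¹ * s * g) s := isConj_iff.2 ⟨g, by group⟩
    have h6 : IsConj (j : G) (g⁻¹ * s * g) := by
      by_cases h7 : g⁻¹ * s * g ∈ N
      · have h8 := hLN _ h2 h7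
        rw [huniq _ h8 (hEE _ h8) h4]
      · exact hswap' _ h2 h7
    exact h6.trans h5
  have hnc : ¬ IsCyclic (T : Subgroup G) := by
    intro hcyc
    obtain ⟨x, hx⟩ := hcyc.exists_generator
    have h1 : orderOf x = Nat.card (T : Subgroup G) := orderOf_eq_card_of_forall_mem_zpowers hx
    have h2 : Nat.card (T : Subgroup G) = p - 1 := hLc
    have h3 : orderOf x ∣ 2 := by
      rw [orderOf_dvd_iff_pow_eq_one, pow_two]
      exact Subtype.ext (hLexp x x.2)
    rw [h1, h2] at h3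
    have := Nat.le_of_dvd (by norm_num) h3
    omega
  have hnn : ¬ (T : Subgroup G).Normal := by
    intro hnorm
    have hPN : P ≤ N := D.PC.trans D.CN
    have huN : D.u ∈ N := hPN D.uP
    have hu1 : D.u ≠ 1 := by
      intro h
      have h1 := D.ordu
      rw [h, orderOf_one] at h1
      exact hp.out.one_lt.ne h1
    have h1 : D.u * j * D.u⁻¹ ∈ L := hnorm.conj_mem _ hjL D.u
    have h2 : D.u * j * D.u⁻¹ ∈ N := N.mul_mem (N.mul_mem huN j.2) (N.inv_mem huN)
    have h3 := hLN _ h1 h2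
    have h4 := huniq _ h3 (hEE _ h3) (by
      intro h5
      apply hj1'
      have h6 : (j : G) = D.u⁻¹ * (D.u * j * D.u⁻¹) * D.u := by group
      rw [h6, h5]; group)
    apply hj1'
    apply hcmp.eq_one hω hj
    refine (D.comm _ D.u D.uP hu1).2 ?_
    calc D.u * j = D.u * j * D.u⁻¹ * D.u := by group
      _ = j * D.u := by rw [h4]
  have hCt : ∀ s : G, orderOf s = 2 → IsMulCommutative (Subgroup.centralizer ({s} : Set G)) ∧
      ∀ c ∈ Subgroup.centralizer ({s} : Set G), c ^ 2 = 1 := by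
    intro s hs2
    obtain ⟨g, hg⟩ := isConj_iff.1 (hallconj s hs2)
    have h1 : ∀ c ∈ Subgroup.centralizer ({s} : Set G), c ^ 2 = 1 := by
      intro c hc
      rw [Subgroup.mem_centralizer_singleton_iff] at hc
      have h2 : g⁻¹ * c * g ∈ Subgroup.centralizer ({(j : G)} : Set G) := by
        rw [Subgroup.mem_centralizer_singleton_iff]
        have h3 : (j : G) = g⁻¹ * s * g := by rw [← hg]; group
        rw [h3]
        calc g⁻¹ * c * g * (g⁻¹ * s * g) = g⁻¹ * (c * s) * g := by group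
          _ = g⁻¹ * (s * c) * g := by rw [hc]
          _ = g⁻¹ * s * g * (g⁻¹ * c * g) := by group
      rw [hcent] at h2
      have h3 := hLexp _ h2
      have h4 : c ^ 2 = g * ((g⁻¹ * c * g) * (g⁻¹ * c * g)) * g⁻¹ := by rw [pow_two]; group
      rw [h4, h3]; group
    refine ⟨⟨⟨fun a b => ?_⟩⟩, h1⟩
    apply Subtype.ext
    change (a : G) * b = b * a
    have ha := h1 a a.2
    have hb := h1 b b.2
    have hab := h1 (a * b) ((Subgroup.centralizer ({s} : Set G)).mul_mem a.2 b.2)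
    rw [pow_two] at ha hb hab
    have h8 : (a : G)⁻¹ = a := inv_eq_of_mul_eq_one_left ha
    have h9 : (b : G)⁻¹ = b := inv_eq_of_mul_eq_one_left hb
    have h10 : ((a : G) * b)⁻¹ = a * b := inv_eq_of_mul_eq_one_left hab
    rw [mul_inv_rev, h8, h9] at h10
    exact h10.symm
  obtain ⟨F, hF1, hF2, hF3, hF4⟩ := Cfsg.Agent.S1230.result T hnc hnn hCt
  obtain ⟨m, hm⟩ := hL2.exists_card_eq
  have h1 : Nat.card (T : Subgroup G) = 2 ^ m := hm
  have h2 : Nat.card (T : Subgroup G) = p - 1 := hLc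
  refine ⟨m, F, hF1, hF2, by rw [hF3, h1], by omega, by omega, hF4⟩

end Cfsg.Agent.Lib.BRMain
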