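import Mathlib
import Cfsg.Prelude.Def_Perm

set_option autoImplicit false
set_option linter.all false

/-!
# Perfect groups of semi-affine maps are trivial
-/

namespace Cfsg.Agent.Lib.BRSemi

open Cfsg
open scoped commutatorElement

universe u

variable {F : Type u} [Field F]

theorem aut_comm [Finite F] (φ ψ : F ≃+* F) (x : F) : φ (ψ x) = ψ (φ x) := by
  by_cases hx : x = 0
  · subst hx; simp
  · obtain ⟨m, hm⟩ := MonoidHom.map_cyclic (Units.map (φ : F →* F))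
    obtain ⟨k, hk⟩ := MonoidHom.map_cyclic (Units.map (ψ : F →* F))
    have h1 : ∀ u : Fˣ, φ (u : F) = ((u ^ m : Fˣ) : F) := fun u => by rw [← hm]; rfl
    have h2 : ∀ u : Fˣ, ψ (u : F) = ((u ^ k : Fˣ) : F) := fun u => by rw [← hk]; rfl
    have h3 := h2 (Units.mk0 x hx)
    have h4 := h1 (Units.mk0 x hx)
    rw [Units.val_mk0] at h3 h4
    rw [h3, h4, h1, h2, ← zpow_mul, ← zpow_mul, mul_comm]

theorem comm_eq {σ τ α : Equiv.Perm F} (h : ∀ x, σ (τ x) = α (τ (σ x))) : ⁅σ, τ⁆ = α := by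
  rw [commutatorElement_def, mul_inv_eq_iff_eq_mul, mul_inv_eq_iff_eq_mul]
  ext x
  simp only [Equiv.Perm.coe_mul, Function.comp_apply]
  exact h x

theorem semi_comm [Finite F] {σ τ : Equiv.Perm F} (hσ : σ ∈ semiaffineGroup F) (hτ : τ ∈ semiaffineGroup F) :
    ⁅σ, τ⁆ ∈ affineGroup F := by
  obtain ⟨a, b, φ, h1⟩ := hσ
  obtain ⟨c, d, ψ, h2⟩ := hτ
  have hu : (a : F) * φ c ≠ 0 := mul_ne_zero a.ne_zero (by
    rw [Ne, EmbeddingLike.map_eq_zero_iff]; exact c.ne_zero)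
  have hv : (c : F) * ψ a ≠ 0 := mul_ne_zero c.ne_zero (by
    rw [Ne, EmbeddingLike.map_eq_zero_iff]; exact a.ne_zero)
  refine ⟨Units.mk0 _ hu * (Units.mk0 _ hv)⁻¹,
    (a : F) * φ d + b - (a : F) * φ c * ((c : F) * ψ a)⁻¹ * (c * ψ b + d), ?_⟩
  intro y
  obtain ⟨x, rfl⟩ : ∃ x, τ (σ x) = y := ⟨σ.symm (τ.symm y), by simp⟩
  have h3 : ⁅σ, τ⁆ (τ (σ x)) = σ (τ x) := by
    rw [commutatorElement_def]
    simp
  rw [h3]
  simp only [h1, h2, map_add, map_mul, Units.val_mul, Units.val_mk0, Units.val_inv_eq_inv_val]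
  rw [aut_comm φ ψ x]
  field_simp
  ring

theorem affine_comm {σ τ : Equiv.Perm F} (hσ : σ ∈ affineGroup F) (hτ : τ ∈ affineGroup F) :
    ∃ b : F, ∀ x, ⁅σ, τ⁆ x = x + b := by
  obtain ⟨a, b, h1⟩ := hσ
  obtain ⟨c, d, h2⟩ := hτ
  refine ⟨(a : F) * d + b - (c * b + d), ?_⟩
  intro y
  obtain ⟨x, rfl⟩ : ∃ x, τ (σ x) = y := ⟨σ.symm (τ.symm y), by simp⟩
  have h3 : ⁅σ, τ⁆ (τ (σ x)) = σ (τ x) := by
    rw [commutatorElement_def]
    simp
  rw [h3]
  simp only [h1, h2]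
  ring

theorem transl_comm {σ τ : Equiv.Perm F} (hσ : ∃ b : F, ∀ x, σ x = x + b) (hτ : ∃ b : F, ∀ x, τ x = x + b) :
    ⁅σ, τ⁆ = 1 := by
  obtain ⟨b, h1⟩ := hσ
  obtain ⟨d, h2⟩ := hτ
  apply comm_eq
  intro x
  simp only [h1, h2, Equiv.Perm.coe_one, id_eq]
  ring

theorem perfect_trivial [Finite F] {H : Subgroup (Equiv.Perm F)} (h : H ≤ semiaffineGroup F) (hp : H ≤ ⁅H, H⁆) : H = ⊥ := by
  have h1 : H ≤ affineGroup F := hp.trans (Subgroup.commutator_le.2 fun σ hσ τ hτ => semi_comm (h hσ) (h hτ))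
  let T : Subgroup (Equiv.Perm F) :=
    { carrier := {σ | ∃ b : F, ∀ x, σ x = x + b}
      one_mem' := ⟨0, fun x => by simp⟩
      mul_mem' := by
        rintro σ τ ⟨b, hb⟩ ⟨d, hd⟩
        refine ⟨d + b, fun x => ?_⟩
        simp only [Equiv.Perm.coe_mul, Function.comp_apply, hb, hd]
        ring
      inv_mem' := by
        rintro σ ⟨b, hb⟩
        refine ⟨-b, fun x => ?_⟩
        apply σ.injective
        rw [Equiv.Perm.inv_def, Equiv.apply_symm_apply, hb]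
        ring }
  have h2 : H ≤ T := hp.trans (Subgroup.commutator_le.2 fun σ hσ τ hτ => affine_comm (h1 hσ) (h1 hτ))
  have h3 : H ≤ ⊥ := hp.trans (Subgroup.commutator_le.2 fun σ hσ τ hτ =>
    Subgroup.mem_bot.2 (transl_comm (h2 hσ) (h2 hτ)))
  exact le_bot_iff.1 h3

/-- a perfect group cannot be permutation isomorphic to a group of semi-affine maps -/
theorem card_eq_one_of_perfect [Finite F] {α : Type*} {H : Subgroup (Equiv.Perm α)} (hp : H ≤ ⁅H, H⁆) (e : α ≃ F)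
    (h : ∀ g : H, (e.symm.trans ((g : Equiv.Perm α).trans e)) ∈ semiaffineGroup F) : H = ⊥ := by
  let f : Equiv.Perm α ≃* Equiv.Perm F := e.permCongrHom
  have h1 : H.map f.toMonoidHom = ⊥ := by
    apply perfect_trivial
    · rintro _ ⟨g, hg, rfl⟩
      exact h ⟨g, hg⟩
    · rw [← Subgroup.map_commutator]
      exact Subgroup.map_mono hp
  rwa [Subgroup.map_eq_bot_iff_of_injective _ f.injective] at h1

end Cfsg.Agent.Lib.BRSemi
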