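import Mathlib
import Cfsg.Agent.Lib.BRMain
import Cfsg.Agent.Lib.BRSemi
import Cfsg.Prelude.Def_Perm

set_option autoImplicit false
set_option linter.all false

/-!
# The Brauer–Reynolds theorem for groups without normal subgroups of order prime to `p`
-/

namespace Cfsg.Agent.Lib.BRFin

open Cfsg Cfsg.Agent.Lib.BlockRing Cfsg.Agent.Lib.BlockGA Cfsg.Agent.Lib.BlockIdem
open Cfsg.Agent.Lib.DefOneLoc Cfsg.Agent.Lib.DefOneOrd Cfsg.Agent.Lib.CharBasic Cfsg.Agent.Lib.DefOneGram
open Cfsg.Agent.Lib.DefOne Cfsg.Agent.Lib.BlockThird Cfsg.Agent.Lib.DefOnePrin Cfsg.Agent.Lib.BRB0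
open Cfsg.Agent.Lib.BRNum Cfsg.Agent.Lib.BRDeg Cfsg.Agent.Lib.BRCore Cfsg.Agent.Lib.BROne Cfsg.Agent.Lib.BRInd
open Cfsg.Agent.Lib.BRT1 Cfsg.Agent.Lib.BRGrp Cfsg.Agent.Lib.BRInv Cfsg.Agent.Lib.BRMain
open scoped commutatorElement

universe u

/-- the statement on transitive groups of degree `p + 1` and order `(p+1)pd`, `d < p` -/
def H732 : Prop := ∀ {α : Type u} [Fintype α] [DecidableEq α] {p d : ℕ} (hp : p.Prime) (hα : Fintype.card α = p + 1)
  (G : Subgroup (Equiv.Perm α)) [MulAction.IsPretransitive G α] (hG : Nat.card G = (p + 1) * p * d) (hd : d < p),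
  (d = p - 1 ∧ Nonempty (G ≃* Matrix.ProjGenLinGroup (Fin 2) (ZMod p))) ∨
  (2 * d = p - 1 ∧ Nonempty (G ≃* Matrix.ProjectiveSpecialLinearGroup (Fin 2) (ZMod p))) ∨
  (∃ q : ℕ, q.Prime ∧ p + 1 = 2 ^ q ∧ (d = 1 ∨ d = q) ∧ ∃ e : α ≃ GaloisField 2 q,
    ∀ g : G, (e.symm.trans (((g : Equiv.Perm α)).trans e)) ∈ Cfsg.semiaffineGroup (GaloisField 2 q))

section

variable {G : Type u} [Group G] [Fintype G] {p : ℕ} [hp : Fact p.Prime] {P N C : Subgroup G}
  {D : Loc p P N C}

theorem n_one (h732 : H732.{u}) (h : Ctx D 1)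
    (ht : Nat.card (Tau D) = 2) (hCP : C ≤ P) :
    3 < p ∧ Nonempty (G ≃* Matrix.ProjectiveSpecialLinearGroup (Fin 2) (ZMod p)) := by
  classical
  have hpe := p_eq D
  have he := h.he
  set e := Nat.card (κu D).range with hedef
  rw [ht] at hpe
  have h3 : 3 < p := by omega
  refine ⟨h3, ?_⟩
  have hCeq : C = P := le_antisymm hCP D.PC
  have hcardN : Nat.card N = e * p := by
    have h1 := Subgroup.relIndex_mul_relIndex ⊥ C N bot_le D.CN
    rw [Subgroup.relIndex_bot_left, Subgroup.relIndex_bot_left, ← card_range D, ← hedef] at h1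
    rw [← h1, mul_comm, hCeq, h.hP]
  have hcardG : Nat.card G = (p + 1) * p * e := by
    have h1 := N.index_mul_card
    rw [h.idx, hcardN] at h1
    rw [← h1]; ring
  -- faithful
  have hker : (MulAction.toPermHom G (G ⧸ N)).ker = ⊥ := by
    apply h.core _ inferInstance
    intro hdvd
    obtain ⟨x, hx⟩ := exists_prime_orderOf_dvd_card' p hdvd
    have hxN : ∀ g : G, g⁻¹ * (x : G) * g ∈ N := by
      intro g
      have h1 : (x : G) • (g : G ⧸ N) = (g : G ⧸ N) := by
        have h2 := (MonoidHom.mem_ker.1 x.2)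
        have h3 := congrArg (fun σ : Equiv.Perm (G ⧸ N) => σ (g : G ⧸ N)) h2
        exact h3
      have h2 : (((x : G) * g : G) : G ⧸ N) = (g : G ⧸ N) := h1
      have h3 := QuotientGroup.eq.1 h2.symm
      rwa [← mul_assoc] at h3
    have ho : orderOf (x : G) = p := by rw [Subgroup.orderOf_coe, hx]
    have h1 : (x : G) ∈ N := by simpa using hxN 1
    have hxP : (x : G) ∈ P := memP_of_ord D h1 ho hCP
    have hx1 : (x : G) ≠ 1 := by
      intro h2
      rw [h2, orderOf_one] at ho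
      exact hp.out.one_lt.ne ho
    have hN : N = ⊤ := by
      rw [eq_top_iff]
      intro g _
      exact mem_of_conj D hxP hx1 hCP (hxN g)
    have h2 := h.idx
    rw [hN, Subgroup.index_top] at h2
    omega
  have hinj : Function.Injective (MulAction.toPermHom G (G ⧸ N)) := (MonoidHom.ker_eq_bot_iff _).1 hker
  letI : Fintype (G ⧸ N) := Fintype.ofFinite _
  set G' := (MulAction.toPermHom G (G ⧸ N)).range with hG'
  let E : G ≃* G' := MonoidHom.ofInjective hinj
  have hcard : Nat.card G' = (p + 1) * p * e := by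
    rw [← hcardG]; exact Nat.card_congr E.symm.toEquiv
  have hα : Fintype.card (G ⧸ N) = p + 1 := by
    rw [← Nat.card_eq_fintype_card]
    have := h.idx
    rw [Subgroup.index] at this
    omega
  haveI : MulAction.IsPretransitive G' (G ⧸ N) := by
    constructor
    intro a b
    obtain ⟨g, hg⟩ := MulAction.exists_smul_eq G a b
    exact ⟨⟨MulAction.toPermHom G (G ⧸ N) g, g, rfl⟩, hg⟩
  rcases h732 hp.out hα G' hcard (by omega) with ⟨h1, -⟩ | ⟨-, ⟨F⟩⟩ | ⟨q, hq, -, -, ee, hee⟩
  · omega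
  · exact ⟨E.trans F⟩
  · exfalso
    haveI : Fact q.Prime := ⟨hq⟩
    haveI : Finite (GaloisField 2 q) := Finite.of_equiv _ ee
    have h1 : G' ≤ ⁅G', G'⁆ := by
      have h2 : G' = (⊤ : Subgroup G).map (MulAction.toPermHom G (G ⧸ N)) := by
        rw [hG', MonoidHom.range_eq_map]
      have h3 := Subgroup.map_commutator (⊤ : Subgroup G) ⊤ (MulAction.toPermHom G (G ⧸ N))
      rw [← h2] at h3
      rw [← h3]
      have h4 : ⁅(⊤ : Subgroup G), (⊤ : Subgroup G)⁆ = ⊤ := by rw [← commutator_def]; exact h.perf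
      rw [h4]
      exact h2.le
    have h2 := BRSemi.card_eq_one_of_perfect h1 ee hee
    rw [h2, Subgroup.card_bot] at hcard
    have : 1 < (p + 1) * p * e := by nlinarith
    omega

end

section

variable {G : Type u} [Group G] [Finite G] {p : ℕ} [hp : Fact p.Prime]

/-- Burnside's transfer theorem, for perfect groups -/
theorem not_norm_le_cent (hperf : commutator G = ⊤) (Q : Sylow p G) (hQ : Nat.card Q = p) :
    ¬ Subgroup.normalizer ((Q : Subgroup G) : Set G) ≤ Subgroup.centralizer ((Q : Subgroup G) : Set G) := by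
  intro hle
  have h1 := MonoidHom.ker_transferSylow_isComplement' Q hle
  haveI := hle
  have hcomm : ∀ a b : Q, a * b = b * a := by
    intro a b
    have h2 : (a : G) ∈ Subgroup.centralizer ((Q : Subgroup G) : Set G) := hle (Subgroup.le_normalizer a.2)
    exact Subtype.ext ((Subgroup.mem_centralizer_iff.1 h2 b b.2).symm)
  have h2 : (MonoidHom.transferSylow Q hle).ker = ⊤ := by
    rw [eq_top_iff, ← hperf, commutator_def]
    apply Subgroup.commutator_le.2
    intro x _ y _
    rw [MonoidHom.mem_ker, map_commutatorElement, commutatorElement_def,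
      hcomm (MonoidHom.transferSylow Q hle x) (MonoidHom.transferSylow Q hle y), mul_inv_cancel_right, mul_inv_cancel]
  rw [h2] at h1
  have h3 := h1.card_mul
  rw [Subgroup.card_top, hQ] at h3
  have h4 : 0 < Nat.card G := Nat.card_pos
  have := hp.out.one_lt
  nlinarith

theorem reduced_aux [Fintype G] (h732 : H732.{u}) {P N C : Subgroup G} [Fintype C] {D : Loc p P N C} (B : B0 D)
    (hperf : commutator G = ⊤) (hQ : Nat.card P = p) {n : ℕ}
    (hidx : N.index = 1 + n * p) (hF : ¬ FForm p n) (hNC : ¬ N ≤ C)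
    (hPS : ∃ Q : Sylow p G, (Q : Subgroup G) = P)
    (core : ∀ K : Subgroup G, K.Normal → ¬ p ∣ Nat.card K → K = ⊥) :
    (∃ (F : Type) (_ : Field F) (_ : Fintype F), Fintype.card F = p ∧ 3 < p ∧
      Nonempty (G ≃* Matrix.ProjectiveSpecialLinearGroup (Fin 2) F)) ∨
    (∃ (m : ℕ) (F : Type) (_ : Field F) (_ : Fintype F), Fintype.card F = 2 ^ m ∧ p = 2 ^ m + 1 ∧ 3 < p ∧
      Nonempty (G ≃* Matrix.ProjectiveSpecialLinearGroup (Fin 2) F)) := by
  classical
  have he : 1 < Nat.card (κu D).range := by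
    by_contra hcon
    have h1 : Nat.card (κu D).range = 1 := by
      have : 0 < Nat.card (κu D).range := Nat.card_pos
      omega
    rw [card_range, Subgroup.relIndex_eq_one] at h1
    exact hNC h1
  have hn0 : 0 < n := by
    by_contra hcon
    have h1 : n = 0 := by omega
    rw [h1, zero_mul, add_zero, Subgroup.index_eq_one] at hidx
    have h2 : C = ⊤ := by
      rw [eq_top_iff, ← hperf, commutator_def]
      apply Subgroup.commutator_le.2
      intro x _ y _
      have hx : x ∈ N := by rw [hidx]; trivial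
      have hy : y ∈ N := by rw [hidx]; trivial
      have h3 : κu D ⁅(⟨x, hx⟩ : N), ⟨y, hy⟩⁆ = 1 := by
        rw [map_commutatorElement, commutatorElement_def, mul_comm (κu D _) (κu D _)]
        simp
      exact (kappa_one_iff D).1 h3
    rw [card_range, h2, Subgroup.relIndex_top_left] at he
    omega
  have h : Ctx D n := ⟨hperf, hQ, hidx, hn0, he, hF, core⟩
  have ht : 1 < Nat.card (Tau D) := by
    have h1 := t_ne_one h hPS B
    have h2 : 0 < Nat.card (Tau D) := Nat.card_pos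
    omega
  have key : (n = 1 ∧ Nat.card (Tau D) = 2 ∧ C ≤ P) ∨
    (∃ (m : ℕ) (F : Type) (_ : Field F) (_ : Fintype F), Fintype.card F = 2 ^ m ∧ p = 2 ^ m + 1 ∧ 3 < p ∧
      Nonempty (G ≃* Matrix.ProjectiveSpecialLinearGroup (Fin 2) F)) := by
    rcases B.s_pm with hs | hs
    · obtain ⟨χ₀, hχ₀, hχ₀'⟩ := Xm_nonempty h B ht
      have hC1 : ∀ c : C, D.l c = 0 → c = 1 := C_trivial h hPS χ₀ hχ₀ hχ₀'
      obtain ⟨h1, h2⟩ := case_pos h B ht hs hC1
      exact Or.inl ⟨h1, h2, le_P D hC1⟩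
    · exact caseC h hPS B ht hs
  rcases key with ⟨h1, h2, h3⟩ | h1
  · left
    subst h1
    obtain ⟨h4, h5⟩ := n_one h732 h h2 h3
    exact ⟨ZMod p, inferInstance, inferInstance, ZMod.card p, h4, h5⟩
  · exact Or.inr h1

/-- the Brauer–Reynolds theorem when there is no normal subgroup of order prime to `p` -/
theorem reduced (h732 : H732.{u}) (hperf : commutator G = ⊤) (Q : Sylow p G) (hQ : Nat.card Q = p) {n : ℕ}
    (hn : Nat.card (Sylow p G) = 1 + n * p) (hF : ¬ FForm p n)
    (core : ∀ K : Subgroup G, K.Normal → ¬ p ∣ Nat.card K → K = ⊥) :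
    (∃ (F : Type) (_ : Field F) (_ : Fintype F), Fintype.card F = p ∧ 3 < p ∧
      Nonempty (G ≃* Matrix.ProjectiveSpecialLinearGroup (Fin 2) F)) ∨
    (∃ (m : ℕ) (F : Type) (_ : Field F) (_ : Fintype F), Fintype.card F = 2 ^ m ∧ p = 2 ^ m + 1 ∧ 3 < p ∧
      Nonempty (G ≃* Matrix.ProjectiveSpecialLinearGroup (Fin 2) F)) := by
  classical
  letI : Fintype G := Fintype.ofFinite _
  obtain ⟨D, hCf, ⟨B⟩⟩ := exists_B0 Q hQ
  exact reduced_aux h732 B hperf hQ (by rw [← hn, Sylow.card_eq_index_normalizer Q]; rfl) hF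
    (not_norm_le_cent hperf Q hQ) ⟨Q, rfl⟩ core

end

end Cfsg.Agent.Lib.BRFin
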