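import Mathlib
import Cfsg.Agent.Lib.BRFin
import Cfsg.Agent.Lib.PCoreTools

set_option autoImplicit false
set_option linter.all false

/-!
# The Brauer–Reynolds theorem
-/

namespace Cfsg.Agent.Lib.BRThm

open Cfsg Cfsg.Agent.Lib.BRNum Cfsg.Agent.Lib.BRFin
open scoped commutatorElement

universe u

/-- In characteristic two, `PSL₂ = SL₂`. -/
theorem psl_eq_sl {F : Type*} [Field F] (h2 : (2 : F) = 0) :
    Nonempty (Matrix.ProjectiveSpecialLinearGroup (Fin 2) F ≃* Matrix.SpecialLinearGroup (Fin 2) F) := by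
  have h1 : Subgroup.center (Matrix.SpecialLinearGroup (Fin 2) F) = ⊥ := by
    rw [eq_bot_iff]
    intro A hA
    obtain ⟨r, hr, hr'⟩ := Matrix.SpecialLinearGroup.mem_center_iff.1 hA
    rw [Fintype.card_fin] at hr
    have h3 : (r - 1) ^ 2 = 0 := by
      linear_combination hr + (1 - r) * h2
    have h4 : r = 1 := by
      have := pow_eq_zero_iff (two_ne_zero) |>.1 h3
      linear_combination this
    rw [Subgroup.mem_bot]
    apply Subtype.ext
    rw [← hr', h4, map_one]
    rfl
  exact ⟨(QuotientGroup.quotientMulEquivOfEq h1).trans QuotientGroup.quotientBot⟩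

theorem two_eq_zero {F : Type*} [Field F] [Fintype F] {m : ℕ} (hm : 0 < m) (h : Fintype.card F = 2 ^ m) : (2 : F) = 0 := by
  have h1 : ((Fintype.card F : ℕ) : F) = 0 := FiniteField.cast_card_eq_zero F
  rw [h] at h1
  push_cast at h1
  exact pow_eq_zero_iff hm.ne' |>.1 h1

section

variable {G : Type u} [Group G] [Finite G] {p : ℕ} [hp : Fact p.Prime]

theorem perfect_quotient (hperf : commutator G = ⊤) (H : Subgroup G) [H.Normal] : commutator (G ⧸ H) = ⊤ := by
  have h1 := Subgroup.map_commutator (⊤ : Subgroup G) ⊤ (QuotientGroup.mk' H)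
  have h2 : (⊤ : Subgroup G).map (QuotientGroup.mk' H) = ⊤ :=
    Subgroup.map_top_of_surjective _ (QuotientGroup.mk'_surjective H)
  rw [h2, ← commutator_def, ← commutator_def, hperf, h2] at h1
  exact h1.symm

theorem card_sylow_quotient (P : Sylow p G) (H : Subgroup G) [H.Normal] (hH : ¬ p ∣ Nat.card H) :
    ∃ Q : Sylow p (G ⧸ H), Nat.card Q = Nat.card P ∧ Nat.card (Sylow p (G ⧸ H)) ∣ Nat.card (Sylow p G) := by
  let Q : Sylow p (G ⧸ H) := P.mapSurjective (QuotientGroup.mk'_surjective H)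
  have hQ : (Q : Subgroup (G ⧸ H)) = (P : Subgroup G).map (QuotientGroup.mk' H) := rfl
  refine ⟨Q, ?_, ?_⟩
  · have h1 : Nat.card Q = Nat.card ((P : Subgroup G).map (QuotientGroup.mk' H)) := by
      rw [← hQ]
    rw [h1]
    have hinj : Function.Injective ((QuotientGroup.mk' H).comp (P : Subgroup G).subtype) := by
      rw [← MonoidHom.ker_eq_bot_iff, eq_bot_iff]
      intro x hx
      rw [MonoidHom.mem_ker, MonoidHom.comp_apply, QuotientGroup.mk'_apply, QuotientGroup.eq_one_iff] at hx
      have h2 : (x : G) ∈ (P : Subgroup G) ⊓ H := ⟨x.2, hx⟩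
      rw [PCoreTools.inf_eq_bot_of_isPGroup P.isPGroup' hH, Subgroup.mem_bot] at h2
      exact Subgroup.mem_bot.2 (Subtype.ext h2)
    have h2 : (P : Subgroup G).map (QuotientGroup.mk' H) =
        ((QuotientGroup.mk' H).comp (P : Subgroup G).subtype).range := by
      rw [MonoidHom.range_comp, Subgroup.range_subtype]
    rw [h2]
    exact (Nat.card_congr (MonoidHom.ofInjective hinj).toEquiv).symm
  · rw [Sylow.card_eq_index_normalizer Q, Sylow.card_eq_index_normalizer P]
    have h1 : Subgroup.normalizer ((P : Subgroup G) : Set G) ≤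
        (Subgroup.normalizer ((Q : Subgroup (G ⧸ H)) : Set (G ⧸ H))).comap (QuotientGroup.mk' H) := by
      rw [hQ, ← Subgroup.map_le_iff_le_comap]
      exact Subgroup.le_normalizer_map _
    have h2 := Subgroup.index_dvd_of_le h1
    rwa [Subgroup.index_comap_of_surjective _ (QuotientGroup.mk'_surjective H)] at h2

/-- the Brauer–Reynolds theorem -/
theorem main (h732 : H732.{u}) (hperf : commutator G = ⊤) (P : Sylow p G) (hP : Nat.card P = p) (n : ℕ)
    (hn : Nat.card (Sylow p G) = 1 + n * p) :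
    (∃ (F : Type) (_ : Field F) (_ : Fintype F), Fintype.card F = p ∧ 3 < p ∧
      Nonempty (G ⧸ Cfsg.pPrimeCore p G ≃* Matrix.ProjectiveSpecialLinearGroup (Fin 2) F)) ∨
    (∃ (m : ℕ) (F : Type) (_ : Field F) (_ : Fintype F), Fintype.card F = 2 ^ m ∧ p = 2 ^ m + 1 ∧ 3 < p ∧
      Nonempty (G ⧸ Cfsg.pPrimeCore p G ≃* Matrix.SpecialLinearGroup (Fin 2) F)) ∨
    FForm p n := by
  classical
  by_cases hF : FForm p n
  · exact Or.inr (Or.inr hF)
  set H := Cfsg.pPrimeCore p G with hHdef
  have hHp : ¬ p ∣ Nat.card H := PCoreTools.not_dvd_card_pPrimeCore p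
  obtain ⟨Q, hQ, hdvd⟩ := card_sylow_quotient P H hHp
  have hmod := card_sylow_modEq_one p (G ⧸ H)
  obtain ⟨n', hn'⟩ : ∃ n', Nat.card (Sylow p (G ⧸ H)) = 1 + n' * p := by
    have h1 : 1 ≤ Nat.card (Sylow p (G ⧸ H)) := Nat.card_pos
    obtain ⟨k, hk⟩ := (Nat.modEq_iff_dvd' h1).1 hmod.symm
    exact ⟨k, by rw [mul_comm k p, ← hk]; omega⟩
  obtain ⟨r, hr⟩ := hdvd
  have hrk : ∃ k, r = 1 + k * p := by
    have h1 : r % p = 1 % p := by
      have h2 : (1 + n * p) % p = ((1 + n' * p) * r) % p := by rw [← hn, ← hn', hr]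
      rw [Nat.add_mul_mod_self_right, Nat.mul_mod, Nat.add_mul_mod_self_right, ← Nat.mul_mod, one_mul] at h2
      exact h2.symm
    have h2 : 1 ≤ r := by
      rcases Nat.eq_zero_or_pos r with h3 | h3
      · rw [h3, mul_zero] at hr; omega
      · exact h3
    obtain ⟨k, hk⟩ := (Nat.modEq_iff_dvd' h2).1 h1.symm
    exact ⟨k, by rw [mul_comm k p, ← hk]; omega⟩
  obtain ⟨k, hk⟩ := hrk
  have hppos := hp.out.pos
  have hnn : n = n' + k + n' * k * p := by
    rw [hn, hn', hk] at hr
    have h1 : n * p = (n' + k + n' * k * p) * p := by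
      have h2 : 1 + n * p = 1 + (n' + k + n' * k * p) * p := by rw [hr]; ring
      omega
    exact Nat.eq_of_mul_eq_mul_right hppos h1
  have hF' : ¬ FForm p n' := by
    intro h1
    apply hF
    rcases Nat.eq_zero_or_pos k with hk0 | hk0
    · rw [hnn, hk0]; simpa using h1
    · have hn0 : 0 < n' := by
        rcases Nat.eq_zero_or_pos n' with h2 | h2
        · exfalso
          obtain ⟨h, u, hh, hu, he⟩ := h1
          rw [h2, zero_mul] at he
          have : 0 < h * u * p + u ^ 2 + u + h := by positivity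
          omega
        · exact h2
      exact ⟨k * (n' + 1), n', by positivity, hn0, by rw [hnn]; ring⟩
  have hcore : ∀ K : Subgroup (G ⧸ H), K.Normal → ¬ p ∣ Nat.card K → K = ⊥ := by
    intro K hK hKp
    have h1 : ¬ p ∣ Nat.card (K.comap (QuotientGroup.mk' H)) := by
      have h2 : Nat.card (K.comap (QuotientGroup.mk' H)) = Nat.card K * Nat.card H := by
        have h3 : (K.comap (QuotientGroup.mk' H)).index = K.index :=
          Subgroup.index_comap_of_surjective _ (QuotientGroup.mk'_surjective H)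
        have h4 := Subgroup.card_mul_index (K.comap (QuotientGroup.mk' H))
        have h5 := Subgroup.card_mul_index K
        have h6 := Subgroup.card_eq_card_quotient_mul_card_subgroup H
        rw [h3, h6, ← h5] at h4
        have h7 : 0 < K.index := Nat.pos_of_ne_zero Subgroup.index_ne_zero_of_finite
        apply Nat.eq_of_mul_eq_mul_right h7
        rw [h4]; ring
      rw [h2, hp.out.dvd_mul]
      push Not
      exact ⟨hKp, hHp⟩
    have h2 := PCoreTools.le_pPrimeCore' (hK.comap (QuotientGroup.mk' H)) h1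
    rw [eq_bot_iff]
    intro x hx
    obtain ⟨g, rfl⟩ := QuotientGroup.mk'_surjective H x
    have h3 : g ∈ H := h2 hx
    exact Subgroup.mem_bot.2 ((QuotientGroup.eq_one_iff g).2 h3)
  rcases reduced h732 (perfect_quotient hperf H) Q (hQ.trans hP) hn' hF' hcore with h1 | ⟨m, F, i1, i2, h1, h2, h3, ⟨E⟩⟩
  · exact Or.inl h1
  · refine Or.inr (Or.inl ⟨m, F, i1, i2, h1, h2, h3, ?_⟩)
    have hm : 0 < m := by
      rcases Nat.eq_zero_or_pos m with h4 | h4
      · rw [h4] at h2; omega
      · exact h4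
    obtain ⟨E'⟩ := psl_eq_sl (two_eq_zero hm h1)
    exact ⟨E.trans E'⟩

end

end Cfsg.Agent.Lib.BRThm
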