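import Mathlib
import Cfsg.Agent.Lib.BRThm
import Cfsg.Agent.Lib.ClSL2Syl

set_option autoImplicit false
set_option linter.all false

/-!
# Corollaries of the Brauer–Reynolds theorem
-/

namespace Cfsg.Agent.Lib.BRCor

open Cfsg Cfsg.Agent.Lib.BRNum Cfsg.Agent.Lib.BRFin Cfsg.Agent.Lib.BRThm
open scoped commutatorElement

universe u

theorem fform_le {p n : ℕ} (h : FForm p n) : p + 3 ≤ 2 * n := by
  obtain ⟨h, u, hh, hu, he⟩ := h
  obtain ⟨h', rfl⟩ : ∃ h', h = h' + 1 := ⟨h - 1, by omega⟩
  obtain ⟨u', rfl⟩ : ∃ u', u = u' + 1 := ⟨u - 1, by omega⟩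
  have h1 : (p + 3) * (u' + 1 + 1) ≤ 2 * n * (u' + 1 + 1) := by
    rw [mul_assoc, he]
    nlinarith [Nat.zero_le (h' * u' * p), Nat.zero_le (h' * p), Nat.zero_le (u' * p), Nat.zero_le (u' * u'), Nat.zero_le h', Nat.zero_le u']
  exact Nat.le_of_mul_le_mul_right h1 (by omega)

section

variable {G : Type u} [Group G] [Finite G] {p : ℕ} [hp : Fact p.Prime]

theorem le_centralizer (Q : Sylow p G) (hQ : Nat.card Q = p) :
    (Q : Subgroup G) ≤ Subgroup.centralizer ((Q : Subgroup G) : Set G) := by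
  haveI : IsCyclic Q := isCyclic_of_prime_card hQ
  letI : CommGroup Q := IsCyclic.commGroup
  intro x hx y hy
  exact congrArg Subtype.val (mul_comm (⟨y, hy⟩ : Q) ⟨x, hx⟩)

theorem two_p_le (hperf : commutator G = ⊤) (Q : Sylow p G) (hQ : Nat.card Q = p) :
    2 * p ≤ Nat.card (Subgroup.normalizer ((Q : Subgroup G) : Set G)) := by
  have hCN : Subgroup.centralizer ((Q : Subgroup G) : Set G) ≤ Subgroup.normalizer ((Q : Subgroup G) : Set G) :=
    Subgroup.centralizer_le_normalizer _
  have h1 := Subgroup.relIndex_mul_relIndex ⊥ _ _ bot_le hCN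
  rw [Subgroup.relIndex_bot_left, Subgroup.relIndex_bot_left] at h1
  rw [← h1, mul_comm]
  apply Nat.mul_le_mul
  · have h2 := Subgroup.card_dvd_of_le (le_centralizer Q hQ)
    rw [hQ] at h2
    exact Nat.le_of_dvd Nat.card_pos h2
  · have h2 : (Subgroup.centralizer ((Q : Subgroup G) : Set G)).relIndex (Subgroup.normalizer ((Q : Subgroup G) : Set G)) ≠ 1 := by
      intro h3
      rw [Subgroup.relIndex_eq_one] at h3
      exact not_norm_le_cent hperf Q hQ h3
    have h3 : (Subgroup.centralizer ((Q : Subgroup G) : Set G)).relIndex (Subgroup.normalizer ((Q : Subgroup G) : Set G)) ≠ 0 :=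
      Subgroup.index_ne_zero_of_finite
    omega

/-- a perfect group with a Sylow subgroup of order `p` does not normalise it -/
theorem not_normal (hperf : commutator G = ⊤) (Q : Sylow p G) (hQ : Nat.card Q = p) : ¬ (Q : Subgroup G).Normal := by
  intro hn
  apply not_norm_le_cent hperf Q hQ
  intro g _
  let f := MulAut.conjNormal (H := (Q : Subgroup G))
  have h1 : f g = 1 := by
    haveI : IsCyclic Q := isCyclic_of_prime_card hQ
    have hc : ∀ a b : MulAut Q, a * b = b * a := by
      intro a b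
      obtain ⟨m, hm⟩ := MonoidHom.map_cyclic (a : Q →* Q)
      obtain ⟨k, hk⟩ := MonoidHom.map_cyclic (b : Q →* Q)
      ext x
      have hm' : ∀ x, a x = x ^ m := hm
      have hk' : ∀ x, b x = x ^ k := hk
      simp only [MulAut.mul_apply, hm', hk', ← zpow_mul, mul_comm m k]
    have h2 : f.ker = ⊤ := by
      rw [eq_top_iff, ← hperf, commutator_def]
      apply Subgroup.commutator_le.2
      intro x _ y _
      rw [MonoidHom.mem_ker, map_commutatorElement, commutatorElement_def, hc (f x) (f y), mul_inv_cancel_right,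
        mul_inv_cancel]
    have h3 : g ∈ f.ker := by rw [h2]; trivial
    exact h3
  intro x hx
  have h2 : ((f g ⟨x, hx⟩ : Q) : G) = x := by rw [h1]; rfl
  have h3 : ((f g ⟨x, hx⟩ : Q) : G) = g * x * g⁻¹ := MulAut.conjNormal_apply _ _
  rw [h3, mul_inv_eq_iff_eq_mul] at h2
  exact h2.symm

theorem one_lt_sylow (hperf : commutator G = ⊤) (Q : Sylow p G) (hQ : Nat.card Q = p) : 1 < Nat.card (Sylow p G) := by
  by_contra hcon
  have h1 : Nat.card (Sylow p G) = 1 := by
    have : 0 < Nat.card (Sylow p G) := Nat.card_pos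
    omega
  rw [Sylow.card_eq_index_normalizer Q, Subgroup.index_eq_one] at h1
  have h2 : Subgroup.normalizer ((Q : Subgroup G) : Set G) = ⊤ := h1
  rw [Subgroup.normalizer_eq_top_iff] at h2
  exact not_normal hperf Q hQ h2

theorem exists_n (G : Type u) [Group G] [Finite G] : ∃ n, Nat.card (Sylow p G) = 1 + n * p := by
  have hmod := card_sylow_modEq_one p G
  have h1 : 1 ≤ Nat.card (Sylow p G) := Nat.card_pos
  obtain ⟨k, hk⟩ := (Nat.modEq_iff_dvd' h1).1 hmod.symm
  exact ⟨k, by rw [mul_comm k p, ← hk]; omega⟩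

/-- with few Sylow subgroups, the number does not change modulo a normal `p'`-subgroup -/
theorem sylow_quot_eq (hperf : commutator G = ⊤) (P : Sylow p G) (hP : Nat.card P = p) (H : Subgroup G) [H.Normal]
    (hH : ¬ p ∣ Nat.card H) (hn : 2 * Nat.card (Sylow p G) < (p + 1) * (p + 2)) :
    Nat.card (Sylow p (G ⧸ H)) = Nat.card (Sylow p G) := by
  obtain ⟨Q, hQ, ⟨r, hr⟩⟩ := card_sylow_quotient P H hH
  obtain ⟨n', hn'⟩ := exists_n (p := p) (G ⧸ H)
  obtain ⟨n, hn2⟩ := exists_n (p := p) G
  have h1 := one_lt_sylow (perfect_quotient hperf H) Q (hQ.trans hP)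
  have hppos := hp.out.one_lt
  have hn0 : 0 < n' := by
    rcases Nat.eq_zero_or_pos n' with h2 | h2
    · rw [hn', h2] at h1; omega
    · exact h2
  have hrk : ∃ k, r = 1 + k * p := by
    have h1 : r % p = 1 % p := by
      have h2 : (1 + n * p) % p = ((1 + n' * p) * r) % p := by rw [← hn2, ← hn', hr]
      rw [Nat.add_mul_mod_self_right, Nat.mul_mod, Nat.add_mul_mod_self_right, ← Nat.mul_mod, one_mul] at h2
      exact h2.symm
    have h2 : 1 ≤ r := by
      rcases Nat.eq_zero_or_pos r with h3 | h3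
      · rw [h3, mul_zero] at hr; omega
      · exact h3
    obtain ⟨k, hk⟩ := (Nat.modEq_iff_dvd' h2).1 h1.symm
    exact ⟨k, by rw [mul_comm k p, ← hk]; omega⟩
  obtain ⟨k, hk⟩ := hrk
  rcases Nat.eq_zero_or_pos k with hk0 | hk0
  · rw [hr, hk, hk0]; ring
  · exfalso
    have h2 : (1 + 1 * p) * (1 + 1 * p) ≤ (1 + n' * p) * (1 + k * p) :=
      Nat.mul_le_mul (Nat.add_le_add_left (Nat.mul_le_mul_right _ hn0) _) (Nat.add_le_add_left (Nat.mul_le_mul_right _ hk0) _)
    rw [hr, hn', hk] at hn
    nlinarith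

/-- in that case `H` centralises `P` -/
theorem le_cent_of_eq (P : Sylow p G) (H : Subgroup G) [hHn : H.Normal] (hH : ¬ p ∣ Nat.card H)
    (heq : Nat.card (Sylow p (G ⧸ H)) = Nat.card (Sylow p G)) :
    H ≤ Subgroup.centralizer ((P : Subgroup G) : Set G) := by
  let Q : Sylow p (G ⧸ H) := P.mapSurjective (QuotientGroup.mk'_surjective H)
  have hQ : (Q : Subgroup (G ⧸ H)) = (P : Subgroup G).map (QuotientGroup.mk' H) := rfl
  set N := Subgroup.normalizer ((P : Subgroup G) : Set G) with hN
  set M := (Subgroup.normalizer ((Q : Subgroup (G ⧸ H)) : Set (G ⧸ H))).comap (QuotientGroup.mk' H) with hM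
  have h1 : N ≤ M := by
    rw [hM, hQ, ← Subgroup.map_le_iff_le_comap]
    exact Subgroup.le_normalizer_map _
  have h2 : M.index = N.index := by
    rw [hM, Subgroup.index_comap_of_surjective _ (QuotientGroup.mk'_surjective H)]
    have h3 := Sylow.card_eq_index_normalizer Q
    have h4 := Sylow.card_eq_index_normalizer P
    rw [h3, h4] at heq
    exact heq
  have h3 : N = M := by
    have h4 := Subgroup.relIndex_mul_index h1
    rw [h2] at h4
    have h5 : 0 < N.index := Nat.pos_of_ne_zero Subgroup.index_ne_zero_of_finite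
    have h6 : N.relIndex M = 1 := by
      apply Nat.eq_of_mul_eq_mul_right h5
      rw [h4, one_mul]
    exact le_antisymm h1 (Subgroup.relIndex_eq_one.1 h6)
  have h4 : H ≤ N := by
    rw [h3]
    intro x hx
    rw [hM, Subgroup.mem_comap]
    have h5 : QuotientGroup.mk' H x = 1 := (QuotientGroup.eq_one_iff x).2 hx
    rw [h5]
    exact one_mem _
  intro x hx y hy
  have h5 : y * x * y⁻¹ * x⁻¹ ∈ (P : Subgroup G) ⊓ H := by
    refine ⟨?_, ?_⟩
    · have h6 : x * y⁻¹ * x⁻¹ ∈ (P : Subgroup G) := (Subgroup.mem_normalizer_iff.1 (h4 hx) y⁻¹).1 (inv_mem hy)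
      have h7 : y * x * y⁻¹ * x⁻¹ = y * (x * y⁻¹ * x⁻¹) := by group
      rw [h7]
      exact mul_mem hy h6
    · have h6 : y * x * y⁻¹ ∈ H := hHn.conj_mem x hx y
      exact H.mul_mem h6 (H.inv_mem hx)
  rw [PCoreTools.inf_eq_bot_of_isPGroup P.isPGroup' hH, Subgroup.mem_bot] at h5
  rw [mul_inv_eq_one, mul_inv_eq_iff_eq_mul] at h5
  exact h5

/-- an element of `P` with small centraliser -/
theorem sylow_of_cent {z : G} (hz : orderOf z = p) (hC : Subgroup.centralizer ({z} : Set G) = Subgroup.zpowers z) :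
    ∃ P : Sylow p G, z ∈ P ∧ Nat.card P = p := by
  have h1 : IsPGroup p (Subgroup.zpowers z) := by
    rw [IsPGroup.iff_card]
    exact ⟨1, by rw [Nat.card_zpowers, hz, pow_one]⟩
  obtain ⟨P, hP⟩ := h1.exists_le_sylow
  have hzP : z ∈ P := hP (Subgroup.mem_zpowers z)
  refine ⟨P, hzP, ?_⟩
  have hz1 : z ≠ 1 := by
    intro h2
    rw [h2, orderOf_one] at hz
    exact hp.out.one_lt.ne hz
  haveI : Nontrivial P := ⟨⟨⟨z, hzP⟩, 1, fun h2 => hz1 (congrArg Subtype.val h2)⟩⟩
  have h2 := P.isPGroup'.center_nontrivial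
  obtain ⟨c, hc⟩ := exists_ne (1 : Subgroup.center P)
  have hc1 : ((c : P) : G) ≠ 1 := by
    intro h3
    exact hc (Subtype.ext (Subtype.ext h3))
  have hcz : ((c : P) : G) ∈ Subgroup.zpowers z := by
    rw [← hC, Subgroup.mem_centralizer_singleton_iff]
    have h3 := Subgroup.mem_center_iff.1 c.2 ⟨z, hzP⟩
    exact (congrArg Subtype.val h3).symm
  have hzc : Subgroup.zpowers z ≤ Subgroup.zpowers ((c : P) : G) := by
    have h3 : Nat.card (Subgroup.zpowers z) = p := by rw [Nat.card_zpowers, hz]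
    have h4 : Subgroup.zpowers ((c : P) : G) ≤ Subgroup.zpowers z := by
      rw [Subgroup.zpowers_le]; exact hcz
    have h5 := Subgroup.card_dvd_of_le h4
    rw [h3] at h5
    rcases (Nat.dvd_prime hp.out).1 h5 with h6 | h6
    · rw [Nat.card_zpowers, orderOf_eq_one_iff] at h6
      exact absurd h6 hc1
    · exact (Subgroup.eq_of_le_of_card_ge h4 (by rw [h3, h6])).ge
  have h3 : (P : Subgroup G) ≤ Subgroup.zpowers z := by
    intro x hx
    rw [← hC, Subgroup.mem_centralizer_singleton_iff]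
    obtain ⟨k, hk⟩ := Subgroup.mem_zpowers_iff.1 (hzc (Subgroup.mem_zpowers z))
    have h4 := congrArg Subtype.val (Subgroup.mem_center_iff.1 c.2 ⟨x, hx⟩)
    have h5 : Commute x ((c : P) : G) := h4
    rw [← hk]
    exact (h5.zpow_right k)
  have h4 : (P : Subgroup G) = Subgroup.zpowers z := le_antisymm h3 hP
  rw [h4, Nat.card_zpowers, hz]

theorem two_mul_lt {n : ℕ} (h : Nat.card (Sylow p G) = 1 + n * p) (hn : 2 * Nat.card (Sylow p G) < (p + 1) * (p + 2)) :
    ¬ FForm p n := by
  intro hF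
  have h1 := fform_le hF
  rw [h] at hn
  have h2 : (p + 3) * p ≤ 2 * n * p := Nat.mul_le_mul_right _ h1
  nlinarith

/-- S0996 -/
theorem self_cent (h732 : H732.{u}) (hperf : commutator G = ⊤) (z : G) (hz : orderOf z = p)
    (hC : Subgroup.centralizer ({z} : Set G) = Subgroup.zpowers z)
    (hn : 2 * Nat.card (Sylow p G) < (p + 1) * (p + 2)) :
    (∃ (F : Type) (_ : Field F) (_ : Fintype F), Fintype.card F = p ∧ 3 < p ∧
      Nonempty (G ≃* Matrix.ProjectiveSpecialLinearGroup (Fin 2) F)) ∨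
    (∃ (m : ℕ) (F : Type) (_ : Field F) (_ : Fintype F), Fintype.card F = 2 ^ m ∧ p = 2 ^ m + 1 ∧ 3 < p ∧
      Nonempty (G ≃* Matrix.ProjectiveSpecialLinearGroup (Fin 2) F)) := by
  obtain ⟨P, hzP, hP⟩ := sylow_of_cent hz hC
  obtain ⟨n, hn'⟩ := exists_n (p := p) G
  apply reduced h732 hperf P hP hn' (two_mul_lt hn' hn)
  intro K hK hKp
  have h1 := le_cent_of_eq P K hKp (sylow_quot_eq hperf P hP K hKp hn)
  have h2 : K ≤ (P : Subgroup G) := by
    intro x hx
    have h3 : x ∈ Subgroup.centralizer ({z} : Set G) := by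
      rw [Subgroup.mem_centralizer_singleton_iff]
      exact (h1 hx z hzP).symm
    rw [hC] at h3
    have h4 : Subgroup.zpowers z ≤ P := by rw [Subgroup.zpowers_le]; exact hzP
    exact h4 h3
  have h3 := PCoreTools.inf_eq_bot_of_isPGroup P.isPGroup' hKp
  rw [inf_eq_right.2 h2] at h3
  exact h3

/-- S0999 -/
theorem large_prime [IsSimpleGroup G] (h732 : H732.{u}) (hG : ¬ IsCyclic G) (hdvd : p ∣ Nat.card G)
    (hbig : Nat.card G < p ^ 3) :
    (∃ (F : Type) (_ : Field F) (_ : Fintype F), Fintype.card F = p ∧ 3 < p ∧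
      Nonempty (G ≃* Matrix.ProjectiveSpecialLinearGroup (Fin 2) F)) ∨
    (∃ (m : ℕ) (F : Type) (_ : Field F) (_ : Fintype F), Fintype.card F = 2 ^ m ∧ p = 2 ^ m + 1 ∧ 3 < p ∧
      Nonempty (G ≃* Matrix.ProjectiveSpecialLinearGroup (Fin 2) F)) := by
  classical
  have hperf : commutator G = ⊤ := by
    haveI : (commutator G).Normal := inferInstance
    rcases (IsSimpleGroup.eq_bot_or_eq_top_of_normal (commutator G) inferInstance) with h1 | h1
    · exfalso
      have hcomm : ∀ a b : G, a * b = b * a := by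
        intro a b
        have h2 : ⁅a, b⁆ ∈ commutator G := Subgroup.commutator_mem_commutator (Subgroup.mem_top a) (Subgroup.mem_top b)
        rw [h1, Subgroup.mem_bot, commutatorElement_eq_one_iff_mul_comm] at h2
        exact h2
      letI : CommGroup G := { mul_comm := hcomm }
      exact hG IsSimpleGroup.isCyclic
    · exact h1
  obtain ⟨P⟩ : Nonempty (Sylow p G) := inferInstance
  have hPn : ¬ (P : Subgroup G).Normal := by
    intro hPn
    rcases IsSimpleGroup.eq_bot_or_eq_top_of_normal (P : Subgroup G) hPn with h1 | h1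
    · exact P.ne_bot_of_dvd_card hdvd h1
    · have h2 : IsPGroup p G := by
        have h3 := P.isPGroup'
        rw [h1] at h3
        exact h3.of_equiv Subgroup.topEquiv
      have h3 := h2.bot_lt_center
      rcases IsSimpleGroup.eq_bot_or_eq_top_of_normal (Subgroup.center G) inferInstance with h4 | h4
      · exact h3.ne' h4
      · have hcomm : ∀ a b : G, a * b = b * a := by
          intro a b
          have h5 : a ∈ Subgroup.center G := by rw [h4]; trivial
          exact (Subgroup.mem_center_iff.1 h5 b).symm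
        letI : CommGroup G := { mul_comm := hcomm }
        exact hG IsSimpleGroup.isCyclic
  obtain ⟨n, hn⟩ := exists_n (p := p) G
  have hn0 : 0 < n := by
    rcases Nat.eq_zero_or_pos n with h1 | h1
    · exfalso
      rw [h1, zero_mul, add_zero, Sylow.card_eq_index_normalizer P, Subgroup.index_eq_one] at hn
      have h2 : Subgroup.normalizer ((P : Subgroup G) : Set G) = ⊤ := hn
      rw [Subgroup.normalizer_eq_top_iff] at h2
      exact hPn h2
    · exact h1
  have hcardG : (1 + n * p) * Nat.card (Subgroup.normalizer ((P : Subgroup G) : Set G)) = Nat.card G := by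
    rw [← hn, Sylow.card_eq_index_normalizer P]
    exact Subgroup.index_mul_card _
  have hppos := hp.out.one_lt
  have hP : Nat.card P = p := by
    obtain ⟨k, hk⟩ := IsPGroup.iff_card.1 P.isPGroup'
    have h1 : Nat.card P ≤ Nat.card (Subgroup.normalizer ((P : Subgroup G) : Set G)) :=
      Nat.le_of_dvd Nat.card_pos (Subgroup.card_dvd_of_le Subgroup.le_normalizer)
    rcases Nat.lt_or_ge 1 k with h2 | h2
    · exfalso
      have h3 : p ^ 2 ≤ Nat.card P := by rw [hk]; exact Nat.pow_le_pow_right hppos.le h2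
      have h4 : p < 1 + n * p := by nlinarith
      have h5 : p * p ^ 2 ≤ (1 + n * p) * Nat.card (Subgroup.normalizer ((P : Subgroup G) : Set G)) :=
        Nat.mul_le_mul h4.le (h3.trans h1)
      rw [hcardG] at h5
      have h6 : p * p ^ 2 = p ^ 3 := by ring
      omega
    · rcases Nat.eq_zero_or_pos k with h3 | h3
      · exfalso
        rw [h3, pow_zero, Subgroup.card_eq_one] at hk
        exact P.ne_bot_of_dvd_card hdvd hk
      · have h4 : k = 1 := by omega
        rw [hk, h4, pow_one]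
  apply reduced h732 hperf P hP hn
  · intro hF
    have h1 := fform_le hF
    have h2 := two_p_le hperf P hP
    have h3 : (1 + n * p) * (2 * p) ≤ Nat.card G := by
      rw [← hcardG]; exact Nat.mul_le_mul_left _ h2
    have h4 : (1 + n * p) * 2 * p < p ^ 2 * p := by
      calc (1 + n * p) * 2 * p = (1 + n * p) * (2 * p) := by ring
        _ ≤ Nat.card G := h3
        _ < p ^ 3 := hbig
        _ = p ^ 2 * p := by ring
    have h5 : (1 + n * p) * 2 < p ^ 2 := Nat.lt_of_mul_lt_mul_right h4
    nlinarith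
  · intro K hK hKp
    rcases IsSimpleGroup.eq_bot_or_eq_top_of_normal K hK with h1 | h1
    · exact h1
    · exfalso
      rw [h1, Subgroup.card_top] at hKp
      exact hKp hdvd

/-- S4701 -/
theorem perfect_large (h732 : H732.{u}) (hperf : commutator G = ⊤) (hdvd : p ∣ Nat.card G)
    (hbig : Nat.card G < p ^ 3) (P : Sylow p G) (hPn : ¬ (P : Subgroup G).Normal)
    (h2 : ∀ N : Subgroup G, N.Normal → Nat.card N ≠ 2) :
    (∃ (F : Type) (_ : Field F) (_ : Fintype F), Fintype.card F = p ∧ 3 < p ∧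
      Nonempty (G ≃* Matrix.ProjectiveSpecialLinearGroup (Fin 2) F)) ∨
    (∃ (m : ℕ) (F : Type) (_ : Field F) (_ : Fintype F), Fintype.card F = 2 ^ m ∧ p = 2 ^ m + 1 ∧ 3 < p ∧
      Nonempty (G ≃* Matrix.SpecialLinearGroup (Fin 2) F)) := by
  classical
  obtain ⟨n, hn⟩ := exists_n (p := p) G
  have hn0 : 0 < n := by
    rcases Nat.eq_zero_or_pos n with h1 | h1
    · exfalso
      rw [h1, zero_mul, add_zero, Sylow.card_eq_index_normalizer P, Subgroup.index_eq_one] at hn
      have h2 : Subgroup.normalizer ((P : Subgroup G) : Set G) = ⊤ := hn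
      rw [Subgroup.normalizer_eq_top_iff] at h2
      exact hPn h2
    · exact h1
  have hcardG : (1 + n * p) * Nat.card (Subgroup.normalizer ((P : Subgroup G) : Set G)) = Nat.card G := by
    rw [← hn, Sylow.card_eq_index_normalizer P]
    exact Subgroup.index_mul_card _
  have hppos := hp.out.one_lt
  have hP : Nat.card P = p := by
    obtain ⟨k, hk⟩ := IsPGroup.iff_card.1 P.isPGroup'
    have h1 : Nat.card P ≤ Nat.card (Subgroup.normalizer ((P : Subgroup G) : Set G)) :=
      Nat.le_of_dvd Nat.card_pos (Subgroup.card_dvd_of_le Subgroup.le_normalizer)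
    rcases Nat.lt_or_ge 1 k with h2 | h2
    · exfalso
      have h3 : p ^ 2 ≤ Nat.card P := by rw [hk]; exact Nat.pow_le_pow_right hppos.le h2
      have h4 : p < 1 + n * p := by nlinarith
      have h5 : p * p ^ 2 ≤ (1 + n * p) * Nat.card (Subgroup.normalizer ((P : Subgroup G) : Set G)) :=
        Nat.mul_le_mul h4.le (h3.trans h1)
      rw [hcardG] at h5
      have h6 : p * p ^ 2 = p ^ 3 := by ring
      omega
    · rcases Nat.eq_zero_or_pos k with h3 | h3
      · exfalso
        rw [h3, pow_zero, Subgroup.card_eq_one] at hk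
        exact P.ne_bot_of_dvd_card hdvd hk
      · have h4 : k = 1 := by omega
        rw [hk, h4, pow_one]
  have hF : ¬ FForm p n := by
    intro hF
    have h1 := fform_le hF
    have h2 := two_p_le hperf P hP
    have h3 : (1 + n * p) * (2 * p) ≤ Nat.card G := by
      rw [← hcardG]; exact Nat.mul_le_mul_left _ h2
    have h4 : (1 + n * p) * 2 * p < p ^ 2 * p := by
      calc (1 + n * p) * 2 * p = (1 + n * p) * (2 * p) := by ring
        _ ≤ Nat.card G := h3
        _ < p ^ 3 := hbig
        _ = p ^ 2 * p := by ring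
    have h5 : (1 + n * p) * 2 < p ^ 2 := Nat.lt_of_mul_lt_mul_right h4
    nlinarith
  have hH : Cfsg.pPrimeCore p G = ⊥ → Nonempty (G ≃* G ⧸ Cfsg.pPrimeCore p G) := fun h1 =>
    ⟨QuotientGroup.quotientBot.symm.trans (QuotientGroup.quotientMulEquivOfEq h1.symm)⟩
  have hcq := Subgroup.card_eq_card_quotient_mul_card_subgroup (Cfsg.pPrimeCore p G)
  have hHpos : 0 < Nat.card (Cfsg.pPrimeCore p G) := Nat.card_pos
  have hsmall : Nat.card (Cfsg.pPrimeCore p G) < 3 → Cfsg.pPrimeCore p G = ⊥ := by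
    intro h3
    rw [← Subgroup.card_eq_one]
    have := h2 (Cfsg.pPrimeCore p G) inferInstance
    omega
  rcases main h732 hperf P hP n hn with ⟨F, i1, i2, h3, h4, ⟨E⟩⟩ | ⟨m, F, i1, i2, h3, h4, h5, ⟨E⟩⟩ | h3
  · left
    refine ⟨F, i1, i2, h3, h4, ?_⟩
    have hodd : Odd (Fintype.card F) := by
      rw [h3]; exact hp.out.odd_of_ne_two (by omega)
    have h5 := ClSL2Syl.card_PSL2 hodd
    rw [h3, ← Nat.card_congr E.toEquiv] at h5
    have h6 : Cfsg.pPrimeCore p G = ⊥ := by
      apply hsmall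
      by_contra hcon
      push Not at hcon
      set a := Nat.card (G ⧸ Cfsg.pPrimeCore p G) with ha
      have h7 : a * 3 ≤ Nat.card G := by rw [hcq]; exact Nat.mul_le_mul_left _ hcon
      obtain ⟨q, hq⟩ : ∃ q, p ^ 2 = q + 1 := ⟨p ^ 2 - 1, by have : 0 < p ^ 2 := by positivity
                                                            omega⟩
      rw [hq, Nat.add_sub_cancel] at h5
      have h8 : p ^ 3 = p * (q + 1) := by rw [← hq]; ring
      have h9 : 3 * (p * q) ≤ 2 * Nat.card G := by rw [← h5]; linarith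
      have h10 : 3 * (p * q) < 2 * (p * (q + 1)) := by rw [← h8]; omega
      have h11 : 2 < q := by nlinarith
      nlinarith
    obtain ⟨E'⟩ := hH h6
    exact ⟨E'.trans E⟩
  · right
    refine ⟨m, F, i1, i2, h3, h4, h5, ?_⟩
    have h6 := ClSL2.card_SL2 h3
    rw [← Nat.card_congr E.toEquiv] at h6
    have h7 : Cfsg.pPrimeCore p G = ⊥ := by
      apply hsmall
      by_contra hcon
      push Not at hcon
      set a := Nat.card (G ⧸ Cfsg.pPrimeCore p G) with ha
      have h7 : a * 3 ≤ Nat.card G := by rw [hcq]; exact Nat.mul_le_mul_left _ hcon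
      obtain ⟨q, hq⟩ : ∃ q, 2 ^ m = q + 1 := ⟨2 ^ m - 1, by have : 0 < 2 ^ m := by positivity
                                                            omega⟩
      rw [hq] at h6 h4
      have h8 : (q + 1) ^ 2 - 1 = q * (q + 2) := by
        have : (q + 1) ^ 2 = q * (q + 2) + 1 := by ring
        omega
      rw [h8] at h6
      have hq1 : 2 < q + 1 := by omega
      have h9 : Nat.card G < (q + 2) ^ 3 := by rw [h4] at hbig; exact hbig
      have h10 : (q + 1) * (q * (q + 2)) * 3 < (q + 2) ^ 3 := by rw [← h6]; exact lt_of_le_of_lt h7 h9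
      have h11 : (q + 1) * q * 3 < (q + 2) ^ 2 := by
        have h12 : (q + 1) * q * 3 * (q + 2) < (q + 2) ^ 2 * (q + 2) := by
          calc (q + 1) * q * 3 * (q + 2) = (q + 1) * (q * (q + 2)) * 3 := by ring
            _ < (q + 2) ^ 3 := h10
            _ = (q + 2) ^ 2 * (q + 2) := by ring
        exact Nat.lt_of_mul_lt_mul_right h12
      nlinarith
    obtain ⟨E'⟩ := hH h7
    exact ⟨E'.trans E⟩
  · exact absurd h3 hF

end

end Cfsg.Agent.Lib.BRCor
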