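import Mathlib
import Cfsg.Agent.Lib.FrobSchur

set_option autoImplicit false
set_option linter.all false

/-!
# Symmetric and alternating squares of a character
-/

namespace Cfsg.Agent.Lib.CharSq

open Cfsg Cfsg.Agent.Lib.CharBasic Cfsg.Agent.Lib.FrobSchur

universe u v

variable {G : Type u} [Group G]

/-- the part of a representation cut out by an invariant idempotent -/
theorem isCharacter_trace_idem {V : Type v} [AddCommGroup V] [Module ℂ V] [FiniteDimensional ℂ V]
    (ρ : Representation ℂ G V) (e : V →ₗ[ℂ] V) (he : ∀ v, e (e v) = e v) (hc : ∀ g v, ρ g (e v) = e (ρ g v)) :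
    IsCharacter G (fun g => LinearMap.trace ℂ V (e ∘ₗ ρ g)) := by
  let S : Subrepresentation ρ := ⟨LinearMap.range e, by
    rintro g _ ⟨v, rfl⟩
    exact ⟨ρ g v, (hc g v).symm⟩⟩
  have h := isCharacter_of_rep S.toRepresentation
  have h1 : S.toRepresentation.character = fun g => LinearMap.trace ℂ V (e ∘ₗ ρ g) := by
    funext g
    rw [← LinearMap.trace_restrict_eq_of_forall_mem (LinearMap.range e) (e ∘ₗ ρ g) (fun x => ⟨ρ g x, rfl⟩)]
    change LinearMap.trace ℂ _ ((ρ g).restrict (S.apply_mem_toSubmodule g)) = _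
    congr 1
    apply LinearMap.ext
    rintro ⟨_, v, rfl⟩
    apply Subtype.ext
    change ρ g (e v) = e (ρ g (e v))
    rw [hc, he]
  rwa [h1] at h

/-- the action on matrices -/
noncomputable def bilRep {n : ℕ} (X : G →* Matrix (Fin n) (Fin n) ℂ) :
    Representation ℂ G (Matrix (Fin n) (Fin n) ℂ) where
  toFun g := bilAct (X g)
  map_one' := by
    ext A : 1
    simp [bilAct_apply]
  map_mul' a b := by
    apply LinearMap.ext
    intro A
    change bilAct (X (a * b)) A = bilAct (X a) (bilAct (X b) A)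
    simp only [bilAct_apply, map_mul, Matrix.transpose_mul, Matrix.mul_assoc]

theorem bilRep_apply {n : ℕ} (X : G →* Matrix (Fin n) (Fin n) ℂ) (g : G) : bilRep X g = bilAct (X g) := rfl

theorem transp_comm {n : ℕ} (X : G →* Matrix (Fin n) (Fin n) ℂ) (g : G) (A : Matrix (Fin n) (Fin n) ℂ) :
    bilAct (X g) (transp n A) = transp n (bilAct (X g) A) := by
  simp only [bilAct_apply, transp_apply, Matrix.transpose_mul, Matrix.transpose_transpose, Matrix.mul_assoc]

theorem alt {χ : G → ℂ} (hχ : IsCharacter G χ) : IsCharacter G (fun g => (χ g ^ 2 - χ (g * g)) / 2) := by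
  obtain ⟨n, ρ, rfl⟩ := hχ
  let e : Matrix (Fin n) (Fin n) ℂ →ₗ[ℂ] Matrix (Fin n) (Fin n) ℂ := (1 / 2 : ℂ) • (LinearMap.id - transp n)
  have h := isCharacter_trace_idem (bilRep (matRep ρ)) e (by
    intro A
    simp only [e, LinearMap.smul_apply, LinearMap.sub_apply, LinearMap.id_apply, transp_apply, map_smul, map_sub,
      Matrix.transpose_smul, Matrix.transpose_sub, Matrix.transpose_transpose]
    module) (by
    intro g A
    rw [bilRep_apply]
    simp only [e, LinearMap.smul_apply, LinearMap.sub_apply, LinearMap.id_apply, map_smul, map_sub, transp_comm])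
  convert h using 1
  funext g
  have h1 : e ∘ₗ bilRep (matRep ρ) g = (1 / 2 : ℂ) • (bilAct (matRep ρ g) - transp n ∘ₗ bilAct (matRep ρ g)) := by
    rw [bilRep_apply]
    apply LinearMap.ext
    intro A
    rfl
  rw [h1, map_smul, map_sub, trace_bilAct, trace_transp_bilAct, trace_matRep, ← map_mul, trace_matRep, smul_eq_mul]
  ring

theorem sym {χ : G → ℂ} (hχ : IsCharacter G χ) : IsCharacter G (fun g => (χ g ^ 2 + χ (g * g)) / 2) := by
  obtain ⟨n, ρ, rfl⟩ := hχ
  let e : Matrix (Fin n) (Fin n) ℂ →ₗ[ℂ] Matrix (Fin n) (Fin n) ℂ := (1 / 2 : ℂ) • (LinearMap.id + transp n)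
  have h := isCharacter_trace_idem (bilRep (matRep ρ)) e (by
    intro A
    simp only [e, LinearMap.smul_apply, LinearMap.add_apply, LinearMap.id_apply, transp_apply, map_smul, map_add,
      Matrix.transpose_smul, Matrix.transpose_add, Matrix.transpose_transpose]
    module) (by
    intro g A
    rw [bilRep_apply]
    simp only [e, LinearMap.smul_apply, LinearMap.add_apply, LinearMap.id_apply, map_smul, map_add, transp_comm])
  convert h using 1
  funext g
  have h1 : e ∘ₗ bilRep (matRep ρ) g = (1 / 2 : ℂ) • (bilAct (matRep ρ g) + transp n ∘ₗ bilAct (matRep ρ g)) := by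
    rw [bilRep_apply]
    apply LinearMap.ext
    intro A
    rfl
  rw [h1, map_smul, map_add, trace_bilAct, trace_transp_bilAct, trace_matRep, ← map_mul, trace_matRep, smul_eq_mul]
  ring

end Cfsg.Agent.Lib.CharSq
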