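import Mathlib
import Cfsg.Agent.Lib.BRFin
import Cfsg.Agent.Lib.BRThm
import Cfsg.Agent.Lib.CharSq

set_option autoImplicit false
set_option linter.all false

/-!
# Permutation groups of prime degree with a Sylow normaliser of order `2p`
-/

namespace Cfsg.Agent.Lib.BRPerm

open Cfsg Cfsg.Agent.Lib.BlockRing Cfsg.Agent.Lib.BlockGA Cfsg.Agent.Lib.BlockIdem
open Cfsg.Agent.Lib.DefOneLoc Cfsg.Agent.Lib.DefOneOrd Cfsg.Agent.Lib.CharBasic Cfsg.Agent.Lib.DefOneGram
open Cfsg.Agent.Lib.DefOne Cfsg.Agent.Lib.BlockThird Cfsg.Agent.Lib.DefOnePrin Cfsg.Agent.Lib.BRB0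
open Cfsg.Agent.Lib.BRNum Cfsg.Agent.Lib.BRDeg Cfsg.Agent.Lib.BRCore Cfsg.Agent.Lib.BROne Cfsg.Agent.Lib.BRInd
open scoped ComplexConjugate

universe u v

section pre

variable {G : Type u} [Group G] [Fintype G] {p : ℕ} [hp : Fact p.Prime]
variable {α : Type v} [MulAction G α] [Fintype α] [FaithfulSMul G α]

/-- elements of order `p` have no fixed points -/
theorem free_of_order (hα : Nat.card α = p) {x : G} (hx : orderOf x = p) (a : α) : x • a ≠ a := by
  classical
  have h1 : IsPGroup p (Subgroup.zpowers x) := by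
    rw [IsPGroup.iff_card]
    exact ⟨1, by rw [Nat.card_zpowers, hx, pow_one]⟩
  have h2 := h1.card_modEq_card_fixedPoints α
  rw [hα] at h2
  have h3 : p ∣ Nat.card (MulAction.fixedPoints (Subgroup.zpowers x) α) :=
    (Nat.modEq_zero_iff_dvd.1 (h2.symm.trans (Nat.modEq_zero_iff_dvd.2 dvd_rfl)))
  intro ha
  have h4 : a ∈ MulAction.fixedPoints (Subgroup.zpowers x) α := by
    rintro ⟨y, hy⟩
    obtain ⟨k, rfl⟩ := Subgroup.mem_zpowers_iff.1 hy
    have h5 : x ∈ MulAction.stabilizer G a := ha
    exact (MulAction.stabilizer G a).zpow_mem h5 k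
  have h5 : 0 < Nat.card (MulAction.fixedPoints (Subgroup.zpowers x) α) := by
    haveI : Nonempty (MulAction.fixedPoints (Subgroup.zpowers x) α) := ⟨⟨a, h4⟩⟩
    exact Nat.card_pos
  have h6 : Nat.card (MulAction.fixedPoints (Subgroup.zpowers x) α) = Nat.card α :=
    le_antisymm (Finite.card_subtype_le _) (by rw [hα]; exact Nat.le_of_dvd h5 h3)
  have h7 : MulAction.fixedPoints (Subgroup.zpowers x) α = Set.univ := by
    apply Set.eq_of_subset_of_ncard_le (Set.subset_univ _)
    rw [Set.ncard_univ, ← Nat.card_coe_set_eq, h6]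
  have h8 : x = 1 := by
    apply FaithfulSMul.eq_of_smul_eq_smul (M := G) (α := α)
    intro b
    have h9 : b ∈ MulAction.fixedPoints (Subgroup.zpowers x) α := by rw [h7]; trivial
    rw [one_smul]
    exact h9 ⟨x, Subgroup.mem_zpowers x⟩
  rw [h8, orderOf_one] at hx
  exact hp.out.one_lt.ne hx

/-- `p`-singular elements have no fixed points -/
theorem free_of_dvd (hα : Nat.card α = p) {x : G} (hx : p ∣ orderOf x) (a : α) : x • a ≠ a := by
  intro ha
  have h1 : orderOf (x ^ (orderOf x / p)) = p := orderOf_pow_orderOf_div (orderOf_pos x).ne' hx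
  apply free_of_order hα h1 a
  have h5 : x ∈ MulAction.stabilizer G a := ha
  exact (MulAction.stabilizer G a).pow_mem h5 _

theorem order_of_mem {P : Subgroup G} (hP : Nat.card P = p) {x : G} (hx : x ∈ P) (h1 : x ≠ 1) : orderOf x = p := by
  have h2 : orderOf x ∣ p := by
    rw [← hP, ← Subgroup.orderOf_mk x hx]
    exact orderOf_dvd_natCard _
  rcases (Nat.dvd_prime hp.out).1 h2 with h3 | h3
  · exact absurd (orderOf_eq_one_iff.1 h3) h1
  · exact h3

theorem P_trans (hα : Nat.card α = p) {P : Subgroup G} (hP : Nat.card P = p) (a b : α) : ∃ x ∈ P, x • a = b := by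
  have h1 : Function.Injective (fun x : P => (x : G) • a) := by
    intro x y hxy
    by_contra hne
    have h2 : ((x⁻¹ * y : P) : G) ≠ 1 := by
      intro h3
      apply hne
      have h4 : x⁻¹ * y = 1 := Subtype.ext h3
      exact (inv_mul_eq_one.1 h4)
    apply free_of_order hα (order_of_mem hP (x⁻¹ * y : P).2 h2) a
    have h3 : (x : G) • a = (y : G) • a := hxy
    rw [Subgroup.coe_mul, Subgroup.coe_inv, mul_smul, ← h3, inv_smul_smul]
  have h2 : Function.Bijective (fun x : P => (x : G) • a) := by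
    rw [Nat.bijective_iff_injective_and_card]
    exact ⟨h1, by rw [hP, hα]⟩
  obtain ⟨x, hx⟩ := h2.2 b
  exact ⟨x, x.2, hx⟩

theorem cent_le (hα : Nat.card α = p) {P : Subgroup G} (hP : Nat.card P = p) :
    Subgroup.centralizer (P : Set G) ≤ P := by
  intro c hc
  obtain ⟨a⟩ : Nonempty α := by
    have : 0 < Nat.card α := by rw [hα]; exact hp.out.pos
    exact (Nat.card_pos_iff.1 this).1
  obtain ⟨x, hx, hxa⟩ := P_trans hα hP a (c • a)
  have h1 : x⁻¹ * c = 1 := by
    apply FaithfulSMul.eq_of_smul_eq_smul (M := G) (α := α)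
    intro b
    obtain ⟨y, hy, rfl⟩ := P_trans hα hP a b
    haveI : IsCyclic P := isCyclic_of_prime_card hP
    letI : CommGroup P := IsCyclic.commGroup
    have h2 : x * y = y * x := congrArg Subtype.val (mul_comm (⟨x, hx⟩ : P) ⟨y, hy⟩)
    have h3 : y * c = c * y := Subgroup.mem_centralizer_iff.1 hc y hy
    rw [one_smul, ← mul_smul]
    have h4 : x⁻¹ * c * y = y * (x⁻¹ * c) := by
      calc x⁻¹ * c * y = x⁻¹ * (c * y) := by group
        _ = x⁻¹ * (y * c) := by rw [h3]
        _ = x⁻¹ * (y * x) * x⁻¹ * c := by group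
        _ = x⁻¹ * (x * y) * x⁻¹ * c := by rw [h2]
        _ = y * (x⁻¹ * c) := by group
    rw [h4, mul_smul, mul_smul, ← hxa, inv_smul_smul]
  have h2 : c = x := by rw [← mul_one x, ← h1]; group
  rw [h2]; exact hx

/-- the permutation character -/
noncomputable def pi (α : Type v) [MulAction G α] (g : G) : ℂ := (Nat.card (MulAction.fixedBy α g) : ℂ)

omit [FaithfulSMul G α] in
theorem pi_char : IsCharacter G (pi (G := G) α) := isCharacter_perm

theorem pi_one (hα : Nat.card α = p) : pi α (1 : G) = p := by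
  rw [pi, MulAction.fixedBy_one_eq_univ, Nat.card_congr (Equiv.Set.univ α), hα]

theorem pi_sing (hα : Nat.card α = p) {x : G} (hx : p ∣ orderOf x) : pi α x = 0 := by
  rw [pi]
  have : IsEmpty (MulAction.fixedBy α x) := ⟨fun a => free_of_dvd hα hx a.1 a.2⟩
  rw [Nat.card_of_isEmpty, Nat.cast_zero]

omit [FaithfulSMul G α] in
theorem sum_pi [MulAction.IsPretransitive G α] [Nonempty α] : ∑ g : G, pi α g = Fintype.card G := by
  classical
  have h1 := MulAction.sum_card_fixedBy_eq_card_orbits_mul_card_group G α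
  have h2 : Fintype.card (MulAction.orbitRel.Quotient G α) = 1 := by
    rw [Fintype.card_eq_one_iff_nonempty_unique]
    haveI := MulAction.pretransitive_iff_unique_quotient_of_nonempty G α |>.1 inferInstance
    exact this
  rw [h2, one_mul] at h1
  rw [← h1]
  push_cast
  refine Finset.sum_congr rfl fun g _ => ?_
  rw [pi, Nat.card_eq_fintype_card]

theorem classInner_triv (φ : G → ℂ) : classInner φ ((triv G : IrrCharacter G) : G → ℂ) =
    (Fintype.card G : ℂ)⁻¹ * ∑ g : G, φ g := by
  rw [classInner_def, Nat.card_eq_fintype_card]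
  congr 1
  refine Finset.sum_congr rfl fun g _ => ?_
  have h1 : ((triv G : IrrCharacter G) : G → ℂ) g = 1 := rfl
  rw [h1, map_one, mul_one]

omit [FaithfulSMul G α] in
theorem pi_triv [MulAction.IsPretransitive G α] [Nonempty α] :
    classInner (pi (G := G) α) ((triv G : IrrCharacter G) : G → ℂ) = 1 := by
  rw [classInner_triv, sum_pi]
  exact inv_mul_cancel₀ (by exact_mod_cast Fintype.card_ne_zero)

end pre

section sat

variable {G : Type u} [Group G] [Fintype G]

/-- a character whose constituents are known -/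
theorem sat {φ : G → ℂ} (h : IsCharacter G φ) {d : ℕ} (hd : φ 1 = d) (S : Finset (IrrCharacter G))
    (hS : ∑ χ ∈ S, mlt φ χ * charDegree (χ : G → ℂ) = d) : φ = ∑ χ ∈ S, (mlt φ χ : ℂ) • (χ : G → ℂ) := by
  classical
  have h1 := degree_sum h hd
  have h2 : ∀ χ ∉ S, mlt φ χ = 0 := by
    intro χ hχ
    have h3 := degree_le h hd (insert χ S)
    rw [Finset.sum_insert hχ, hS] at h3
    have h4 : mlt φ χ * charDegree (χ : G → ℂ) = 0 := by omega
    rcases Nat.mul_eq_zero.1 h4 with h5 | h5
    · exact h5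
    · exact absurd h5 (BlockDeg.charDegree_pos χ.2).ne'
  have h3 := h.isClassFunction.expansion
  conv_lhs => rw [h3]
  rw [← Finset.sum_subset (Finset.subset_univ S)]
  · exact Finset.sum_congr rfl fun χ _ => by rw [mlt_spec h]
  · intro χ _ hχ
    rw [mlt_spec h, h2 χ hχ, Nat.cast_zero, zero_smul]

theorem isPGroup_of_reg {p : ℕ} [hp : Fact p.Prime] {K : Subgroup G} (h : ∀ g ∈ K, ¬ p ∣ orderOf g → g = 1) :
    IsPGroup p K := by
  intro g
  obtain ⟨a, b, hb, hab⟩ := Nat.exists_eq_pow_mul_and_not_dvd (orderOf_pos (g : G)).ne' p hp.out.ne_one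
  refine ⟨a, Subtype.ext ?_⟩
  have h1 : orderOf ((g : G) ^ (p ^ a)) = b := by
    rw [orderOf_pow' _ (pow_ne_zero _ hp.out.ne_zero), hab, Nat.gcd_eq_right (Dvd.intro _ rfl)]
    exact Nat.mul_div_cancel_left _ (pow_pos hp.out.pos _)
  exact h _ (K.pow_mem g.2 _) (by rw [Subgroup.coe_pow, h1]; exact hb)

end sat

section main

variable {G : Type u} [Group G] [Fintype G] {p : ℕ} [hp : Fact p.Prime] {P N C : Subgroup G}
  {D : Loc p P N C} [Fintype C]
variable {α : Type v} [MulAction G α] [Fintype α] [FaithfulSMul G α]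

theorem card_tau (D : Loc p P N C) (he : Nat.card (κu D).range = 2) : 2 * Nat.card (Tau D) = p - 1 := by
  have h1 := p_eq D
  rw [he] at h1
  omega

omit [Fintype C] in
theorem sing_of_l (c : C) (hc : D.l c ≠ 0) : p ∣ orderOf (c : G) := by
  by_contra h
  exact hc ((D.l_reg c).2 h)

/-- the two cases -/
theorem dichotomy (hα : Nat.card α = p) (B : B0 D) (hP : Nat.card P = p)
    (he : Nat.card (κu D).range = 2) (h5 : 5 ≤ p) (hPS : ∃ Q : Sylow p G, (Q : Subgroup G) = P) (hPn : ¬ P.Normal) :
    ∃ χ : IrrCharacter G, pi (G := G) α = 1 + (χ : G → ℂ) ∧ charDegree (χ : G → ℂ) = p - 1 ∧ χ ≠ triv G ∧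
      χ ∈ B.X ∧ B.X = {triv G, χ} ∧ B.δ χ = -1 ∧ B.s = -1 := by
  classical
  letI : Fintype (Tau D) := Fintype.ofFinite _
  have htau := card_tau D he
  have ht : 1 < Nat.card (Tau D) := by omega
  obtain ⟨h1, h2⟩ := triv_mem_X B ht
  haveI : Nonempty α := by
    have : 0 < Nat.card α := by rw [hα]; exact hp.out.pos
    exact (Nat.card_pos_iff.1 this).1
  haveI : MulAction.IsPretransitive G α := ⟨fun a b => by
    obtain ⟨x, -, hx⟩ := P_trans hα hP a b
    exact ⟨x, hx⟩⟩
  have hX : B.X.card = 2 := by rw [B.cardX, he]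
  obtain ⟨χ, hχ⟩ : ∃ χ, B.X = {triv G, χ} ∧ χ ≠ triv G := by
    obtain ⟨a, b, hab, hX'⟩ := Finset.card_eq_two.1 hX
    rw [hX', Finset.mem_insert, Finset.mem_singleton] at h1
    rcases h1 with rfl | rfl
    · exact ⟨b, hX', hab.symm⟩
    · exact ⟨a, by rw [hX', Finset.pair_comm], hab⟩
  obtain ⟨hX', hne⟩ := hχ
  have hχX : χ ∈ B.X := by rw [hX']; simp
  have hpi := pi_char (G := G) (α := α)
  -- multiplicities
  have hm1 : mlt (pi (G := G) α) (triv G) = 1 := by
    have h3 := mlt_spec hpi (triv G)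
    rw [pi_triv] at h3
    exact_mod_cast h3.symm
  have hmq : ∀ q, (1 : ℤ) + B.δ χ * mlt (pi (G := G) α) χ - B.s * mlt (pi (G := G) α) (B.Y q) = 0 := by
    intro q
    have h3 := B.mult hpi.isClassFunction (a := 0) (fun c hc => pi_sing hα (sing_of_l c hc)) q
    rw [hX', Finset.sum_pair hne.symm, h2, mlt_spec hpi, mlt_spec hpi, mlt_spec hpi, hm1] at h3
    push_cast at h3
    have h4 : (((1 : ℤ) + B.δ χ * mlt (pi (G := G) α) χ - B.s * mlt (pi (G := G) α) (B.Y q) : ℤ) : ℂ) = 0 := by
      push_cast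
      linear_combination h3
    exact_mod_cast h4
  have hrel : ∀ q, ∀ g : G, ¬ p ∣ orderOf g → (B.s : ℂ) * (B.Y q : G → ℂ) g = 1 + B.δ χ * (χ : G → ℂ) g := by
    intro q g hg
    rw [B.rel q g hg, hX', Finset.sum_pair hne.symm, h2]
    have h3 : ((triv G : IrrCharacter G) : G → ℂ) g = 1 := rfl
    rw [h3]
    push_cast; ring
  have hreld : ∀ q, B.s * (charDegree (B.Y q : G → ℂ) : ℤ) = 1 + B.δ χ * charDegree (χ : G → ℂ) := by
    intro q
    have h3 := hrel q 1 (by rw [orderOf_one]; exact hp.out.one_lt.ne' ∘ Nat.dvd_one.1)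
    rw [← BlockDeg.charDegree_cast_irr, ← BlockDeg.charDegree_cast_irr] at h3
    exact_mod_cast h3
  have hsum := degree_sum hpi (pi_one hα)
  have hYn : ∀ q, B.Y q ≠ triv G := fun q h => B.disj q (by rw [h]; exact h1)
  have hYχ : ∀ q, B.Y q ≠ χ := fun q h => B.disj q (by rw [h]; exact hχX)
  have hle : 1 + mlt (pi (G := G) α) χ * charDegree (χ : G → ℂ) +
      ∑ q : Tau D, mlt (pi (G := G) α) (B.Y q) * charDegree (B.Y q : G → ℂ) ≤ p := by
    have h3 := degree_le hpi (pi_one hα) (insert (triv G) (insert χ (Finset.univ.image B.Y)))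
    rw [Finset.sum_insert, Finset.sum_insert, Finset.sum_image, hm1, deg_triv, one_mul] at h3
    · omega
    · intro q _ q' _ h; exact B.Yinj h
    · rw [Finset.mem_image]; rintro ⟨q, -, hq⟩; exact hYχ q hq
    · rw [Finset.mem_insert, Finset.mem_image, not_or]
      exact ⟨hne.symm, by rintro ⟨q, -, hq⟩; exact hYn q hq⟩
  have hχpos := BlockDeg.charDegree_pos χ.2
  obtain ⟨q₀⟩ : Nonempty (Tau D) := inferInstance
  rcases B.δ_pm χ hχX with hδ | hδ
  · -- the normal case
    exfalso
    have hs : B.s = 1 := by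
      rcases B.s_pm with h | h
      · exact h
      · have h3 := hreld q₀
        rw [hδ, h] at h3
        have := BlockDeg.charDegree_pos (B.Y q₀).2
        omega
    have hz : ∀ q, charDegree (B.Y q : G → ℂ) = 1 + charDegree (χ : G → ℂ) := by
      intro q
      have h3 := hreld q
      rw [hδ, hs] at h3
      omega
    have hmq' : ∀ q, mlt (pi (G := G) α) (B.Y q) = 1 + mlt (pi (G := G) α) χ := by
      intro q
      have h3 := hmq q
      rw [hδ, hs] at h3
      omega
    rw [Finset.sum_congr rfl (fun q _ => by rw [hz q, hmq' q]), Finset.sum_const, Finset.card_univ,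
      ← Nat.card_eq_fintype_card, smul_eq_mul] at hle
    set m := mlt (pi (G := G) α) χ with hm
    set d := charDegree (χ : G → ℂ) with hd
    set t := Nat.card (Tau D) with htd
    have hd1 : d = 1 ∧ m = 0 := by
      have h3 : 2 * t = p - 1 := htau
      have h4 : t * ((1 + m) * (1 + d)) + m * d ≤ 2 * t := by omega
      have h6 : (1 + m) * (1 + d) ≤ 2 := by
        have : t * ((1 + m) * (1 + d)) ≤ t * 2 := by omega
        exact Nat.le_of_mul_le_mul_left this (by omega)
      have h7 : m = 0 := by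
        by_contra hm0
        have : 2 * 2 ≤ (1 + m) * (1 + d) := Nat.mul_le_mul (by omega) (by omega)
        omega
      rw [h7] at h6
      exact ⟨by omega, h7⟩
    -- kernel of `χ`
    obtain ⟨K, hKn, hK⟩ := FrobThm.exists_charKer χ.2.isCharacter
    have hχ1 : (χ : G → ℂ) 1 = 1 := by
      rw [← BlockDeg.charDegree_cast_irr, ← hd, hd1.1, Nat.cast_one]
    have hPK : P ≤ K := by
      intro x hx
      rw [hK]
      by_cases hx1 : x = 1
      · rw [hx1]
      · have h3 : D.l ⟨x, D.PC hx⟩ ≠ 0 := by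
          intro h4
          rw [D.l_reg] at h4
          apply h4
          rw [order_of_mem hP hx hx1]
        have h4 := B.valX χ hχX ⟨x, D.PC hx⟩ h3
        rw [hδ] at h4
        rw [hχ1]
        have h5 : (χ : G → ℂ) x = ((1 : ℤ) : ℂ) := h4
        rw [h5, Int.cast_one]
    have hsat : pi (G := G) α = 1 + ∑ q : Tau D, (B.Y q : G → ℂ) := by
      have hnm : triv G ∉ Finset.univ.image B.Y := by
        rw [Finset.mem_image]; rintro ⟨q, -, hq⟩; exact hYn q hq
      have h3 := sat hpi (pi_one hα) (insert (triv G) (Finset.univ.image B.Y)) (by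
        rw [Finset.sum_insert hnm, Finset.sum_image (fun q _ q' _ h => B.Yinj h), hm1, deg_triv,
          Finset.sum_congr rfl (fun q _ => by rw [hz q, hmq' q]), Finset.sum_const, Finset.card_univ,
          ← Nat.card_eq_fintype_card, smul_eq_mul, ← htd, hd1.1, hd1.2]
        omega)
      rw [h3, Finset.sum_insert hnm, Finset.sum_image (fun q _ q' _ h => B.Yinj h), hm1, Nat.cast_one, one_smul]
      congr 1
      refine Finset.sum_congr rfl fun q _ => ?_
      rw [hmq' q, hd1.2, Nat.add_zero, Nat.cast_one, one_smul]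
    have hKp : ∀ g ∈ K, ¬ p ∣ orderOf g → g = 1 := by
      intro g hg hgp
      have h3 : ∀ q, (B.Y q : G → ℂ) g = 2 := by
        intro q
        have h4 := hrel q g hgp
        rw [hs, hδ, (hK g).1 hg, hχ1] at h4
        push_cast at h4
        linear_combination h4
      have h4 : pi α g = p := by
        rw [hsat, Pi.add_apply, Finset.sum_apply, Finset.sum_congr rfl (fun q _ => h3 q), Finset.sum_const,
          Finset.card_univ, ← Nat.card_eq_fintype_card, nsmul_eq_mul]
        have h6 : ((2 * Nat.card (Tau D) + 1 : ℕ) : ℂ) = (p : ℂ) := by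
          congr 1
          omega
        rw [← h6]
        push_cast
        change (1 : ℂ) + _ = _
        ring
      have h5 : Nat.card (MulAction.fixedBy α g) = Nat.card α := by
        rw [hα]
        rw [pi] at h4
        exact_mod_cast h4
      have h7 : MulAction.fixedBy α g = Set.univ := by
        apply Set.eq_of_subset_of_ncard_le (Set.subset_univ _)
        rw [Set.ncard_univ, ← Nat.card_coe_set_eq, h5]
      apply FaithfulSMul.eq_of_smul_eq_smul (M := G) (α := α)
      intro b
      have h9 : b ∈ MulAction.fixedBy α g := by rw [h7]; trivial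
      rw [one_smul]
      exact h9
    have hKP : IsPGroup p K := isPGroup_of_reg hKp
    obtain ⟨Q, hQ⟩ := hPS
    have hKQ : K = P := by
      rw [← hQ] at hPK ⊢
      exact (Q.is_maximal' hKP hPK)
    exact hPn (hKQ ▸ hKn)
  · have hs : B.s = -1 := by
      rcases B.s_pm with h | h
      · have h3 := hreld q₀
        rw [hδ, h] at h3
        have := BlockDeg.charDegree_pos (B.Y q₀).2
        omega
      · exact h
    have hm : 1 ≤ mlt (pi (G := G) α) χ := by
      have h3 := hmq q₀
      rw [hδ, hs] at h3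
      omega
    have hdeg : p - 1 ≤ charDegree (χ : G → ℂ) := by
      obtain ⟨k, hk⟩ := B.degX χ hχX
      rw [hδ] at hk
      have hk0 : 0 < k := by
        by_contra hcon
        push Not at hcon
        have hpz : (0 : ℤ) < p := by exact_mod_cast hp.out.pos
        nlinarith
      have hpz : (0 : ℤ) < p := by exact_mod_cast hp.out.pos
      have h3 : (p : ℤ) ≤ k * p := by nlinarith
      have h4 : (p : ℤ) - 1 ≤ charDegree (χ : G → ℂ) := by rw [hk]; linarith
      omega
    have h3 : mlt (pi (G := G) α) χ * charDegree (χ : G → ℂ) ≤ p - 1 := by omega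
    have hm' : mlt (pi (G := G) α) χ = 1 := by
      by_contra hne'
      have h4 : 2 ≤ mlt (pi (G := G) α) χ := by omega
      have h6 : 2 * (p - 1) ≤ mlt (pi (G := G) α) χ * charDegree (χ : G → ℂ) := Nat.mul_le_mul h4 hdeg
      omega
    have hdeg' : charDegree (χ : G → ℂ) = p - 1 := by
      rw [hm', one_mul] at h3
      omega
    refine ⟨χ, ?_, hdeg', hne, hχX, hX', hδ, hs⟩
    have hnm : triv G ∉ ({χ} : Finset (IrrCharacter G)) := by
      rw [Finset.mem_singleton]; exact hne.symm
    have h4 := sat hpi (pi_one hα) (insert (triv G) {χ}) (by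
      rw [Finset.sum_insert hnm, Finset.sum_singleton, hm1, hm', deg_triv, hdeg']
      omega)
    rw [h4, Finset.sum_insert hnm, Finset.sum_singleton, hm1, hm', Nat.cast_one, one_smul, one_smul]
    rfl

omit [Fintype C] [FaithfulSMul G α] in
theorem conj_pi (g : G) : conj (pi α g) = pi α g := by rw [pi, Complex.conj_natCast]

/-- moments of the permutation character -/
theorem moments (hα : Nat.card α = p) {χ : IrrCharacter G} (hpi : pi (G := G) α = 1 + (χ : G → ℂ)) (hne : χ ≠ triv G) :
    ∑ g : G, pi α g ^ 2 = 2 * Fintype.card G ∧ ∑ g : G, pi α (g * g) = 2 * Fintype.card G := by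
  classical
  have hG : (Fintype.card G : ℂ) ≠ 0 := by exact_mod_cast Fintype.card_ne_zero
  have h1 : (1 : G → ℂ) = ((triv G : IrrCharacter G) : G → ℂ) := rfl
  constructor
  · have h2 : classInner (pi (G := G) α) (pi (G := G) α) = 2 := by
      rw [hpi, h1, classInner_add_left, classInner_add_right, classInner_add_right, irr_orthonormal, irr_orthonormal,
        irr_orthonormal, irr_orthonormal, if_pos rfl, if_pos rfl, if_neg hne, if_neg hne.symm]
      norm_num
    rw [classInner_def, Nat.card_eq_fintype_card, Finset.sum_congr rfl (fun g _ => by rw [conj_pi, ← pow_two])] at h2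
    rw [← mul_inv_cancel_left₀ hG (∑ g : G, pi α g ^ 2), h2]
    ring
  · have h2 : ∑ g : G, pi α (g * g) = Fintype.card G + Fintype.card G * FrobSchur.fsInd (χ : G → ℂ) := by
      rw [FrobSchur.fsInd, Nat.card_eq_fintype_card, mul_inv_cancel_left₀ hG, hpi]
      simp only [Pi.add_apply, Pi.one_apply, Finset.sum_add_distrib, Finset.sum_const, Finset.card_univ,
        nsmul_eq_mul, mul_one]
    obtain ⟨h3, h4⟩ := FrobSchur.fsInd_trichotomy χ.2
    rcases h3 with h3 | h3 | h3
    · exfalso
      obtain ⟨s, hs⟩ := h4.1 h3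
      have h5 : (χ : G → ℂ) s = pi α s - 1 := by
        rw [hpi]
        simp
      rw [h5, pi] at hs
      simp at hs
    · rw [h2, h3]; ring
    · exfalso
      rw [h3] at h2
      have h5 : (((∑ g : G, Nat.card (MulAction.fixedBy α (g * g)) : ℕ)) : ℂ) = 0 := by
        push_cast
        have h6 : ∑ g : G, pi α (g * g) = 0 := by rw [h2]; ring
        rw [← h6]
        rfl
      have h6 : ∑ g : G, Nat.card (MulAction.fixedBy α (g * g)) = 0 := by exact_mod_cast h5
      have h7 := Finset.sum_eq_zero_iff.1 h6 1 (Finset.mem_univ _)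
      have h8 := pi_one (G := G) hα
      rw [pi] at h8
      rw [mul_one] at h7
      rw [h7] at h8
      exact hp.out.ne_zero (by exact_mod_cast h8.symm)

/-- the alternating square of the permutation character -/
theorem alt_sq (hα : Nat.card α = p) (B : B0 D) (hP : Nat.card P = p) (hCP : C ≤ P)
    (he : Nat.card (κu D).range = 2) (h5 : 5 ≤ p) {χ : IrrCharacter G} (hpi : pi (G := G) α = 1 + (χ : G → ℂ))
    (hdeg : charDegree (χ : G → ℂ) = p - 1) (hne : χ ≠ triv G) (hχX : χ ∈ B.X) (hX' : B.X = {triv G, χ})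
    (hδ : B.δ χ = -1) (hs : B.s = -1) (g : G) (hg : ¬ p ∣ orderOf g) :
    pi α g ^ 2 - pi α (g * g) = 2 * (pi α g - 1) + (p - 1) * (pi α g - 2) := by
  classical
  letI : Fintype (Tau D) := Fintype.ofFinite _
  have htau := card_tau D he
  have ht : 1 < Nat.card (Tau D) := by omega
  obtain ⟨h1, h2⟩ := triv_mem_X B ht
  set t := Nat.card (Tau D) with htd
  have hp1 : p = 2 * t + 1 := by omega
  have hrel : ∀ q, (B.Y q : G → ℂ) g = (χ : G → ℂ) g - 1 := by
    intro q
    have h3 := B.rel q g hg
    rw [hX', Finset.sum_pair hne.symm, h2, hδ, hs] at h3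
    have h4 : ((triv G : IrrCharacter G) : G → ℂ) g = 1 := rfl
    rw [h4] at h3
    push_cast at h3
    linear_combination -h3
  have hz : ∀ q, charDegree (B.Y q : G → ℂ) = p - 2 := by
    intro q
    have h3 := B.rel q 1 (by rw [orderOf_one]; exact hp.out.one_lt.ne' ∘ Nat.dvd_one.1)
    rw [hX', Finset.sum_pair hne.symm, h2, hδ, hs, ← BlockDeg.charDegree_cast_irr, ← BlockDeg.charDegree_cast_irr,
      ← BlockDeg.charDegree_cast_irr, hdeg, deg_triv, Nat.cast_sub (by omega : 1 ≤ p)] at h3
    push_cast at h3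
    have h4 : ((charDegree (B.Y q : G → ℂ) + 2 : ℕ) : ℂ) = (p : ℂ) := by
      push_cast
      linear_combination -h3
    have h6 : charDegree (B.Y q : G → ℂ) + 2 = p := by exact_mod_cast h4
    omega
  obtain ⟨hm1, hm2⟩ := moments hα hpi hne
  set L : G → ℂ := fun g => (pi α g ^ 2 - pi α (g * g)) / 2 with hL
  have hLc : IsCharacter G L := CharSq.alt (pi_char (G := G) (α := α))
  have hL1 : L 1 = ((t * p : ℕ) : ℂ) := by
    rw [hL]
    simp only [mul_one]
    rw [pi_one hα, hp1]
    push_cast
    ring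
  have hLtriv : mlt L (triv G) = 0 := by
    have h3 := mlt_spec hLc (triv G)
    rw [classInner_triv] at h3
    have h4 : ∑ g : G, L g = 0 := by
      rw [hL]
      simp only
      rw [← Finset.sum_div, Finset.sum_sub_distrib, hm1, hm2, sub_self, zero_div]
    rw [h4, mul_zero] at h3
    exact_mod_cast h3.symm
  have hLχ : 1 ≤ mlt L χ := by
    have h3 := mlt_spec hLc χ
    have h4 : L = (χ : G → ℂ) + fun g => ((χ : G → ℂ) g ^ 2 - (χ : G → ℂ) (g * g)) / 2 := by
      funext x
      rw [hL, hpi]
      simp only [Pi.add_apply, Pi.one_apply]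
      ring
    rw [h4, classInner_add_left, irr_orthonormal, if_pos rfl, mlt_spec (CharSq.alt χ.2.isCharacter)] at h3
    rw [← h4] at h3
    have h5 : 1 + mlt (fun g => ((χ : G → ℂ) g ^ 2 - (χ : G → ℂ) (g * g)) / 2) χ = mlt L χ := by exact_mod_cast h3
    omega
  have hLq : ∀ q, mlt L (B.Y q) = mlt L χ := by
    intro q
    have h3 := B.mult hLc.isClassFunction (a := 0) (fun c hc => by
      have h4 := sing_of_l c hc
      have hc1 : (c : G) ≠ 1 := by
        intro h6
        rw [h6, orderOf_one] at h4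
        exact hp.out.one_lt.ne' (Nat.dvd_one.1 h4)
      have hcc : (c : G) * c ≠ 1 := by
        intro h6
        have h7 : orderOf (c : G) ∣ 2 := orderOf_dvd_of_pow_eq_one (by rw [pow_two]; exact h6)
        have h8 := Nat.le_of_dvd (by norm_num) (h4.trans h7)
        omega
      have h6 : orderOf ((c : G) * c) = p := order_of_mem hP (P.mul_mem (hCP c.2) (hCP c.2)) hcc
      rw [hL]
      simp only
      rw [pi_sing hα h4, pi_sing hα (by rw [h6])]
      norm_num) q
    rw [hX', Finset.sum_pair hne.symm, h2, hδ, hs, mlt_spec hLc, mlt_spec hLc, mlt_spec hLc, hLtriv] at h3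
    push_cast at h3
    have h4 : (mlt L (B.Y q) : ℂ) = (mlt L χ : ℂ) := by linear_combination h3
    exact_mod_cast h4
  have hYχ : ∀ q, B.Y q ≠ χ := fun q h => B.disj q (by rw [h]; exact hχX)
  have hnm : χ ∉ Finset.univ.image B.Y := by
    rw [Finset.mem_image]; rintro ⟨q, -, hq⟩; exact hYχ q hq
  have hm : mlt L χ = 1 := by
    have h3 := degree_le hLc hL1 (insert χ (Finset.univ.image B.Y))
    rw [Finset.sum_insert hnm, Finset.sum_image (fun q _ q' _ h => B.Yinj h),
      Finset.sum_congr rfl (fun q _ => by rw [hz q, hLq q]), Finset.sum_const, Finset.card_univ,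
      ← Nat.card_eq_fintype_card, ← htd, smul_eq_mul, hdeg] at h3
    have h4 : mlt L χ * (p - 1) + t * (mlt L χ * (p - 2)) = mlt L χ * (t * p) := by
      obtain ⟨t', ht'⟩ : ∃ t', t = t' + 1 := ⟨t - 1, by omega⟩
      have e1 : p - 1 = 2 * (t' + 1) := by omega
      have e2 : p - 2 = 2 * t' + 1 := by omega
      have e3 : p = 2 * t' + 3 := by omega
      rw [e1, e2, ht', e3]
      ring
    rw [h4] at h3
    by_contra hne'
    have h6 : 2 * (t * p) ≤ mlt L χ * (t * p) := Nat.mul_le_mul_right _ (by omega)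
    have h7 : 0 < t * p := Nat.mul_pos (by omega) hp.out.pos
    omega
  have hsat := sat hLc hL1 (insert χ (Finset.univ.image B.Y)) (by
    rw [Finset.sum_insert hnm, Finset.sum_image (fun q _ q' _ h => B.Yinj h),
      Finset.sum_congr rfl (fun q _ => by rw [hz q, hLq q]), Finset.sum_const, Finset.card_univ,
      ← Nat.card_eq_fintype_card, ← htd, smul_eq_mul, hdeg, hm]
    obtain ⟨t', ht'⟩ : ∃ t', t = t' + 1 := ⟨t - 1, by omega⟩
    have e1 : p - 1 = 2 * (t' + 1) := by omega
    have e2 : p - 2 = 2 * t' + 1 := by omega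
    have e3 : p = 2 * t' + 3 := by omega
    rw [e1, e2, ht', e3]
    ring)
  have h3 := congrFun hsat g
  rw [Finset.sum_insert hnm, Finset.sum_image (fun q _ q' _ h => B.Yinj h), hm, Nat.cast_one, one_smul,
    Pi.add_apply, Finset.sum_apply, Finset.sum_congr rfl (fun q _ => by
      rw [hLq q, hm, Nat.cast_one, one_smul, hrel q]), Finset.sum_const, Finset.card_univ,
      ← Nat.card_eq_fintype_card, ← htd, nsmul_eq_mul] at h3
  have h4 : (χ : G → ℂ) g = pi α g - 1 := by
    rw [hpi]
    simp
  rw [h4, hL] at h3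
  simp only at h3
  have h6 : (p : ℂ) = 2 * t + 1 := by rw [hp1]; push_cast; ring
  rw [h6]
  linear_combination 2 * h3

/-- number of fixed points -/
noncomputable def fx (α : Type v) [MulAction G α] (g : G) : ℕ := Nat.card (MulAction.fixedBy α g)

theorem pi_eq (g : G) : pi α g = (fx α g : ℂ) := rfl

theorem eq_one_of_fx {g : G} (h : fx α g = Nat.card α) : g = 1 := by
  have h7 : MulAction.fixedBy α g = Set.univ := by
    apply Set.eq_of_subset_of_ncard_le (Set.subset_univ _)
    rw [Set.ncard_univ, ← Nat.card_coe_set_eq]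
    exact h.ge
  apply FaithfulSMul.eq_of_smul_eq_smul (M := G) (α := α)
  intro b
  have h9 : b ∈ MulAction.fixedBy α g := by rw [h7]; trivial
  rw [one_smul]
  exact h9

theorem fx_le (g : G) : fx α g ≤ Nat.card α := Finite.card_subtype_le _

theorem fx_sq (g : G) : fx α g ≤ fx α (g * g) := by
  rw [fx, fx, Nat.card_coe_set_eq, Nat.card_coe_set_eq]
  refine Set.ncard_le_ncard ?_ (Set.toFinite _)
  intro a ha
  have h1 : g • a = a := ha
  show (g * g) • a = a
  rw [mul_smul, h1, h1]

/-- fixed point numbers -/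
theorem fix_cases (hα : Nat.card α = p) (h5 : 5 ≤ p)
    (hrel : ∀ g : G, ¬ p ∣ orderOf g → pi α g ^ 2 - pi α (g * g) = 2 * (pi α g - 1) + (p - 1) * (pi α g - 2))
    (g : G) (hg1 : g ≠ 1) :
    (fx α g = 0 ∧ fx α (g * g) = 0) ∨ (fx α g = 1 ∧ fx α (g * g) = p) ∨ (fx α g = 2 ∧ fx α (g * g) = 2) := by
  by_cases hg : p ∣ orderOf g
  · left
    have h1 : fx α g = 0 := by
      have h1 := pi_sing hα hg
      rw [pi_eq] at h1
      exact_mod_cast h1
    have hg2 : p ∣ orderOf (g * g) := by
      rw [← pow_two, orderOf_pow' g (by norm_num)]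
      have h2 : Nat.Coprime p 2 := by
        rw [Nat.coprime_primes hp.out Nat.prime_two]; omega
      obtain ⟨k, hk⟩ := hg
      rw [hk]
      have h3 : Nat.gcd (p * k) 2 = Nat.gcd k 2 := Nat.Coprime.gcd_mul_left_cancel k h2
      rw [h3, Nat.mul_div_assoc p (Nat.gcd_dvd_left k 2)]
      exact dvd_mul_right _ _
    have h2 : fx α (g * g) = 0 := by
      have h1 := pi_sing hα hg2
      rw [pi_eq] at h1
      exact_mod_cast h1
    exact ⟨h1, h2⟩
  · right
    have h1 := hrel g hg
    rw [pi_eq, pi_eq] at h1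
    have ha := fx_sq (α := α) g
    have hb := fx_le (α := α) (g * g)
    have hap : fx α g ≠ p := fun h => hg1 (eq_one_of_fx (by rw [h, hα]))
    rw [hα] at hb
    set a := fx α g with hadef
    set b := fx α (g * g) with hbdef
    have h2 : ((a : ℤ) ^ 2 - b : ℤ) = 2 * (a - 1) + (p - 1) * (a - 2) := by
      have h3 : (((a : ℤ) ^ 2 - b : ℤ) : ℂ) = ((2 * (a - 1) + (p - 1) * (a - 2) : ℤ) : ℂ) := by
        push_cast
        exact h1
      exact_mod_cast h3
    have hcases : a = 0 ∨ a = 1 ∨ a = 2 ∨ 3 ≤ a := by omega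
    rcases hcases with h3 | h3 | h3 | h3
    · exfalso
      rw [h3] at h2
      push_cast at h2
      have hbz : (b : ℤ) ≤ p := by exact_mod_cast hb
      have hpz : (5 : ℤ) ≤ p := by exact_mod_cast h5
      linarith
    · left
      rw [h3] at h2
      push_cast at h2
      refine ⟨h3, ?_⟩
      have : (b : ℤ) = p := by linarith
      exact_mod_cast this
    · right
      rw [h3] at h2
      push_cast at h2
      refine ⟨h3, ?_⟩
      have : (b : ℤ) = 2 := by linarith
      exact_mod_cast this
    · exfalso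
      have h4 : a < p := lt_of_le_of_ne (ha.trans hb) hap
      have h6 : (b : ℤ) - a = (a - 2) * (a - p) := by linear_combination -h2
      have h7 : (0 : ℤ) < a - 2 := by
        have : (3 : ℤ) ≤ a := by exact_mod_cast h3
        linarith
      have h8 : (a : ℤ) - p < 0 := by
        have : (a : ℤ) < p := by exact_mod_cast h4
        linarith
      have h9 : (0 : ℤ) ≤ (b : ℤ) - a := by
        have : (a : ℤ) ≤ b := by exact_mod_cast ha
        linarith
      nlinarith

end main

section group

variable {G : Type u} [Group G] [Fintype G] {p : ℕ} [hp : Fact p.Prime]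
variable {α : Type v} [MulAction G α] [Fintype α] [FaithfulSMul G α]

/-- the counting equations -/
theorem counting (hα : Nat.card α = p) (h5 : 5 ≤ p)
    (hfix : ∀ g : G, g ≠ 1 → (fx α g = 0 ∧ fx α (g * g) = 0) ∨ (fx α g = 1 ∧ fx α (g * g) = p) ∨
      (fx α g = 2 ∧ fx α (g * g) = 2))
    (h1 : ∑ g : G, pi α g = Fintype.card G) (h2 : ∑ g : G, pi α g ^ 2 = 2 * Fintype.card G)
    (h3 : ∑ g : G, pi α (g * g) = 2 * Fintype.card G) :
    Nat.card {g : G // fx α g = 1} = p * (p - 2) ∧ Nat.card G = (p - 1) * (p * (p - 2)) := by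
  classical
  have hG1 : fx α (1 : G) = p := by
    rw [fx, MulAction.fixedBy_one_eq_univ, Nat.card_congr (Equiv.Set.univ α), hα]
  set S := Finset.univ.filter (fun g : G => fx α g = 1) with hS
  have hScard : Nat.card {g : G // fx α g = 1} = S.card := by
    rw [Nat.card_eq_fintype_card, Fintype.card_subtype]
  have h1S : (1 : G) ∉ S := by
    rw [hS, Finset.mem_filter, hG1]
    intro h
    omega
  have hN : (S.card : ℂ) = p * (p - 2) := by
    have h4 : ∑ g : G, (2 * pi α g - pi α g ^ 2) = 0 := by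
      rw [Finset.sum_sub_distrib, ← Finset.mul_sum, h1, h2, sub_self]
    have h6 : ∀ g : G, (2 * pi α g - pi α g ^ 2) = (if g = 1 then (p : ℂ) * (2 - p) else 0) + (if g ∈ S then 1 else 0) := by
      intro g
      by_cases hg : g = 1
      · subst hg
        rw [if_pos rfl, if_neg h1S, pi_eq, hG1]
        ring
      · rw [if_neg hg, zero_add, pi_eq]
        rcases hfix g hg with ⟨h7, -⟩ | ⟨h7, -⟩ | ⟨h7, -⟩
        · have : g ∉ S := by rw [hS, Finset.mem_filter, h7]; simp
          rw [if_neg this, h7]; simp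
        · have : g ∈ S := by rw [hS, Finset.mem_filter, h7]; simp
          rw [if_pos this, h7]; norm_num
        · have : g ∉ S := by rw [hS, Finset.mem_filter, h7]; simp
          rw [if_neg this, h7]; norm_num
    rw [Finset.sum_congr rfl (fun g _ => h6 g), Finset.sum_add_distrib, Finset.sum_ite_eq' Finset.univ (1 : G),
      if_pos (Finset.mem_univ _), Finset.sum_boole] at h4
    rw [Finset.filter_mem_eq_inter, Finset.univ_inter] at h4
    linear_combination h4
  have hN2 : (p - 1 : ℂ) * S.card = Fintype.card G := by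
    have h4 : ∑ g : G, (pi α (g * g) - pi α g) = Fintype.card G := by
      rw [Finset.sum_sub_distrib, h1, h3]; ring
    have h6 : ∀ g : G, (pi α (g * g) - pi α g) = (if g ∈ S then (p - 1 : ℂ) else 0) := by
      intro g
      by_cases hg : g = 1
      · subst hg
        rw [if_neg h1S, mul_one, sub_self]
      · rw [pi_eq, pi_eq]
        rcases hfix g hg with ⟨h7, h8⟩ | ⟨h7, h8⟩ | ⟨h7, h8⟩
        · have : g ∉ S := by rw [hS, Finset.mem_filter, h7]; simp
          rw [if_neg this, h7, h8]; simp
        · have : g ∈ S := by rw [hS, Finset.mem_filter, h7]; simp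
          rw [if_pos this, h7, h8]; norm_num
        · have : g ∉ S := by rw [hS, Finset.mem_filter, h7]; simp
          rw [if_neg this, h7, h8]; norm_num
    rw [Finset.sum_congr rfl (fun g _ => h6 g), Finset.sum_ite_mem, Finset.univ_inter, Finset.sum_const,
      nsmul_eq_mul] at h4
    rw [← h4]; ring
  have hN' : S.card = p * (p - 2) := by
    have h4 : (S.card : ℂ) = ((p * (p - 2) : ℕ) : ℂ) := by
      rw [hN, Nat.cast_mul, Nat.cast_sub (by omega)]; push_cast; ring
    exact_mod_cast h4
  refine ⟨by rw [hScard, hN'], ?_⟩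
  have h4 : (Nat.card G : ℂ) = (((p - 1) * (p * (p - 2)) : ℕ) : ℂ) := by
    have e1 : ((p - 1 : ℕ) : ℂ) = p - 1 := by rw [Nat.cast_sub (by omega)]; push_cast; ring
    rw [Nat.card_eq_fintype_card, ← hN2, hN', Nat.cast_mul (p - 1), e1]
  exact_mod_cast h4

/-- sharply triply transitive like groups of prime degree -/
theorem final (hα : Nat.card α = p) (h5 : 5 ≤ p) (htr : ∀ a b : α, ∃ x : G, x • a = b)
    (hfix : ∀ g : G, g ≠ 1 → (fx α g = 0 ∧ fx α (g * g) = 0) ∨ (fx α g = 1 ∧ fx α (g * g) = p) ∨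
      (fx α g = 2 ∧ fx α (g * g) = 2))
    (hn1 : Nat.card {g : G // fx α g = 1} = p * (p - 2)) (hG : Nat.card G = (p - 1) * (p * (p - 2))) :
    ∃ (m : ℕ) (F : Type) (_ : Field F) (_ : Fintype F), Fintype.card F = 2 ^ m ∧ p = 2 ^ m + 1 ∧ 3 < p ∧
      Nonempty (G ≃* Matrix.ProjectiveSpecialLinearGroup (Fin 2) F) := by
  classical
  have hG1 : fx α (1 : G) = p := by
    rw [fx, MulAction.fixedBy_one_eq_univ, Nat.card_congr (Equiv.Set.univ α), hα]
  have hodd : p % 2 = 1 := by
    rcases hp.out.eq_two_or_odd with h | h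
    · omega
    · exact h
  -- involutions
  have hinv : ∀ t : G, orderOf t = 2 → fx α t = 1 := by
    intro t ht
    have ht1 : t ≠ 1 := by intro h; rw [h, orderOf_one] at ht; omega
    have htt : t * t = 1 := by rw [← pow_two, ← ht, pow_orderOf_eq_one]
    rcases hfix t ht1 with ⟨-, h2⟩ | ⟨h1, -⟩ | ⟨-, h2⟩
    · rw [htt, hG1] at h2; omega
    · exact h1
    · rw [htt, hG1] at h2; omega
  have hsq : ∀ t : G, fx α t = 1 → t * t = 1 ∧ t ≠ 1 := by
    intro t ht
    have ht1 : t ≠ 1 := by intro h; rw [h, hG1] at ht; omega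
    refine ⟨?_, ht1⟩
    rcases hfix t ht1 with ⟨h1, -⟩ | ⟨-, h2⟩ | ⟨h1, -⟩
    · omega
    · exact eq_one_of_fx (α := α) (by rw [h2, hα])
    · omega
  have hord : ∀ t : G, fx α t = 1 → orderOf t = 2 := by
    intro t ht
    obtain ⟨h1, h2⟩ := hsq t ht
    exact orderOf_eq_prime (by rw [pow_two]; exact h1) h2
  -- centralisers of involutions
  have hcent : ∀ t : G, orderOf t = 2 → ∀ c ∈ Subgroup.centralizer ({t} : Set G), c * c = 1 := by
    intro t ht c hc
    rw [Subgroup.mem_centralizer_singleton_iff] at hc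
    have h1 := hinv t ht
    rw [fx, Nat.card_eq_one_iff_unique] at h1
    obtain ⟨h1s, ⟨⟨a, ha⟩⟩⟩ := h1
    have huniq : ∀ b : α, t • b = b → b = a := fun b hb =>
      congrArg Subtype.val (Subsingleton.elim (⟨b, hb⟩ : MulAction.fixedBy α t) ⟨a, ha⟩)
    have hta : t • a = a := ha
    have hca : c • a = a := by
      apply huniq
      rw [← mul_smul, ← hc, mul_smul, hta]
    by_cases hc1 : c = 1
    · rw [hc1, mul_one]
    rcases hfix c hc1 with ⟨h2, -⟩ | ⟨h2, -⟩ | ⟨h2, -⟩
    · exfalso
      rw [fx, Finite.card_eq_zero_iff] at h2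
      exact h2.elim ⟨a, hca⟩
    · exact (hsq c h2).1
    · exfalso
      -- `c` has a second fixed point `b`, and then `t • b` is a third one
      rw [fx, Nat.card_coe_set_eq, Set.ncard_eq_two] at h2
      obtain ⟨x, y, hxy, h3⟩ := h2
      have key : ∀ b, c • b = b → b ≠ a → False := by
        intro b hb hba
        have htb : t • b ≠ b := fun h => hba (huniq b h)
        have hcb : c • (t • b) = t • b := by rw [← mul_smul, hc, mul_smul, hb]
        have htba : t • b ≠ a := by
          intro h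
          apply hba
          rw [← smul_left_cancel_iff t, h, hta]
        have m1 : a ∈ ({x, y} : Set α) := by rw [← h3]; exact hca
        have m2 : b ∈ ({x, y} : Set α) := by rw [← h3]; exact hb
        have m3 : t • b ∈ ({x, y} : Set α) := by rw [← h3]; exact hcb
        rcases m1 with rfl | m1
        · rcases m2 with m2 | m2
          · exact hba m2
          · rcases m3 with m3 | m3
            · exact htba m3
            · exact htb (m3.trans m2.symm)
        · rcases m2 with m2 | m2
          · rcases m3 with m3 | m3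
            · exact htb (m3.trans m2.symm)
            · exact htba (m3.trans m1.symm)
          · exact hba (m2.trans m1.symm)
      by_cases hxa : x = a
      · exact key y (by have : y ∈ MulAction.fixedBy α c := by rw [h3]; simp
                        exact this) (fun h => hxy (hxa.trans h.symm))
      · exact key x (by have : x ∈ MulAction.fixedBy α c := by rw [h3]; simp
                        exact this) hxa
  -- an involution
  obtain ⟨t, ht⟩ : ∃ t : G, fx α t = 1 := by
    have h1 : 0 < Nat.card {g : G // fx α g = 1} := by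
      rw [hn1]; exact Nat.mul_pos hp.out.pos (by omega)
    obtain ⟨⟨t, ht⟩⟩ := (Nat.card_pos_iff.1 h1).1
    exact ⟨t, ht⟩
  have ht2 := hord t ht
  set Ct := Subgroup.centralizer ({t} : Set G) with hCt
  have hCt2 : IsPGroup 2 Ct := by
    intro c
    exact ⟨1, Subtype.ext (by rw [Subgroup.coe_pow, pow_one, pow_two]; exact hcent t ht2 c c.2)⟩
  have hidx : Ct.index ≤ p * (p - 2) := by
    rw [← hn1, Subgroup.index]
    have hmap : ∀ g : G, fx α (g * t * g⁻¹) = 1 := by
      intro g
      apply hinv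
      have h1 : orderOf (MulAut.conj g t) = orderOf t := MulEquiv.orderOf_eq _ _
      rw [MulAut.conj_apply] at h1
      rw [h1, ht2]
    have h1 : Function.Injective (fun q : G ⧸ Ct => (⟨q.out * t * q.out⁻¹, hmap q.out⟩ : {g : G // fx α g = 1})) := by
      intro q q' hq
      have h2 : q.out * t * q.out⁻¹ = q'.out * t * q'.out⁻¹ := congrArg Subtype.val hq
      rw [← QuotientGroup.out_eq' q, ← QuotientGroup.out_eq' q', QuotientGroup.eq]
      refine Subgroup.mem_centralizer_singleton_iff.2 ?_
      have h3 : t = q.out⁻¹ * (q.out * t * q.out⁻¹) * q.out := by group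
      conv_rhs => rw [h3, h2]
      group
    exact Nat.card_le_card_of_injective _ h1
  have hCtcard : p - 1 ≤ Nat.card Ct := by
    have h1 := Ct.card_mul_index
    rw [hG] at h1
    have h2 : Nat.card Ct * Ct.index ≤ Nat.card Ct * (p * (p - 2)) := Nat.mul_le_mul_left _ hidx
    rw [h1] at h2
    exact Nat.le_of_mul_le_mul_right h2 (Nat.mul_pos hp.out.pos (by omega))
  obtain ⟨T, hT⟩ := hCt2.exists_le_sylow
  have hTle : Nat.card T ≤ p - 1 := by
    obtain ⟨k, hk⟩ := IsPGroup.iff_card.1 T.isPGroup'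
    have h1 : Nat.card T ∣ (p - 1) * (p * (p - 2)) := by
      rw [← hG]; exact Subgroup.card_subgroup_dvd_card _
    have h2 : Nat.Coprime (Nat.card T) (p * (p - 2)) := by
      rw [hk]
      apply Nat.Coprime.pow_left
      rw [Nat.prime_two.coprime_iff_not_dvd]
      intro h3
      rcases Nat.prime_two.dvd_mul.1 h3 with h4 | h4 <;> omega
    exact Nat.le_of_dvd (by omega) (h2.dvd_of_dvd_mul_right h1)
  have hTC : Ct = T := Subgroup.eq_of_le_of_card_ge hT (hTle.trans hCtcard)
  have hTcard : Nat.card T = p - 1 := by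
    apply le_antisymm hTle
    rw [← hTC] 
    exact hCtcard
  have hnc : ¬ IsCyclic (T : Subgroup G) := by
    intro hc
    obtain ⟨g, hg⟩ := hc.exists_ofOrder_eq_natCard
    have h1 : (g : G) * g = 1 := hcent t ht2 g (by rw [← hCt, hTC]; exact g.2)
    have h2 : orderOf g ∣ 2 := orderOf_dvd_of_pow_eq_one (Subtype.ext (by rw [Subgroup.coe_pow, pow_two]; exact h1))
    rw [hg, hTcard] at h2
    have := Nat.le_of_dvd (by norm_num) h2
    omega
  have htT : t ∈ (T : Subgroup G) := by
    rw [← hTC, hCt, Subgroup.mem_centralizer_singleton_iff]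
  have hnn : ¬ (T : Subgroup G).Normal := by
    intro hn
    have h1 := ht
    rw [fx, Nat.card_eq_one_iff_unique] at h1
    obtain ⟨h1s, ⟨⟨a, ha⟩⟩⟩ := h1
    have huniq : ∀ b : α, t • b = b → b = a := fun b hb =>
      congrArg Subtype.val (Subsingleton.elim (⟨b, hb⟩ : MulAction.fixedBy α t) ⟨a, ha⟩)
    -- every conjugate of `t` commutes with `t` and so fixes `a`
    have h2 : ∀ g : G, t • (g • a) = g • a := by
      intro g
      have h3 : g⁻¹ * t * g⁻¹⁻¹ ∈ (T : Subgroup G) := hn.conj_mem t htT g⁻¹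
      rw [inv_inv, ← hTC, hCt, Subgroup.mem_centralizer_singleton_iff] at h3
      have h4 : (g⁻¹ * t * g) • a = a := by
        apply huniq
        have hta : t • a = a := ha
        rw [← mul_smul, ← h3, mul_smul, hta]
      rw [mul_smul, mul_smul, inv_smul_eq_iff] at h4
      exact h4
    have h3 : t = 1 := by
      apply FaithfulSMul.eq_of_smul_eq_smul (M := G) (α := α)
      intro b
      obtain ⟨g, rfl⟩ := htr a b
      rw [h2, one_smul]
    rw [h3, orderOf_one] at ht2
    omega
  have hCt' : ∀ s : G, orderOf s = 2 → IsMulCommutative (Subgroup.centralizer ({s} : Set G)) ∧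
      ∀ c ∈ Subgroup.centralizer ({s} : Set G), c ^ 2 = 1 := by
    intro s hs2
    have h1 := hcent s hs2
    refine ⟨⟨⟨fun a b => ?_⟩⟩, fun c hc => by rw [pow_two]; exact h1 c hc⟩
    apply Subtype.ext
    change (a : G) * b = b * a
    have ha := h1 a a.2
    have hb := h1 b b.2
    have hab := h1 (a * b) ((Subgroup.centralizer ({s} : Set G)).mul_mem a.2 b.2)
    have h8 : (a : G)⁻¹ = a := inv_eq_of_mul_eq_one_left ha
    have h9 : (b : G)⁻¹ = b := inv_eq_of_mul_eq_one_left hb
    have h10 : ((a : G) * b)⁻¹ = a * b := inv_eq_of_mul_eq_one_left hab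
    rw [mul_inv_rev, h8, h9] at h10
    exact h10.symm
  obtain ⟨F, hF1, hF2, hF3, hF4⟩ := Cfsg.Agent.S1230.result T hnc hnn hCt'
  obtain ⟨m, hm⟩ := IsPGroup.iff_card.1 T.isPGroup'
  have h1 : Nat.card T = 2 ^ m := hm
  refine ⟨m, F, hF1, hF2, by rw [hF3, h1], by omega, by omega, hF4⟩

end group

section result

variable {G : Type u} [Group G] [Fintype G] {p : ℕ} [hp : Fact p.Prime]
variable {α : Type v} [MulAction G α] [Fintype α] [FaithfulSMul G α]

theorem main_aux (hα : Nat.card α = p) (h5 : 5 ≤ p) {P N C : Subgroup G} {D : Loc p P N C} [Fintype C] (B : B0 D)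
    (hP : Nat.card P = p) (hCP : C ≤ P) (he : Nat.card (κu D).range = 2)
    (hPS : ∃ Q : Sylow p G, (Q : Subgroup G) = P) (hPn : ¬ P.Normal) :
    ∃ (m : ℕ) (F : Type) (_ : Field F) (_ : Fintype F), Fintype.card F = 2 ^ m ∧ p = 2 ^ m + 1 ∧ 3 < p ∧
      Nonempty (G ≃* Matrix.ProjectiveSpecialLinearGroup (Fin 2) F) := by
  obtain ⟨χ, hpi, hdeg, hne, hχX, hX', hδ, hs⟩ := dichotomy hα B hP he h5 hPS hPn
  have hfix := fix_cases hα h5 (fun g hg => alt_sq hα B hP hCP he h5 hpi hdeg hne hχX hX' hδ hs g hg)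
  obtain ⟨h2, h3⟩ := moments hα hpi hne
  haveI : Nonempty α := by
    have : 0 < Nat.card α := by rw [hα]; exact hp.out.pos
    exact (Nat.card_pos_iff.1 this).1
  haveI : MulAction.IsPretransitive G α := ⟨fun a b => by
    obtain ⟨x, -, hx⟩ := P_trans hα hP a b
    exact ⟨x, hx⟩⟩
  obtain ⟨h4, h6⟩ := counting hα h5 hfix sum_pi h2 h3
  exact final hα h5 (fun a b => MulAction.exists_smul_eq G a b) hfix h4 h6

end result

/-- S4706 -/
theorem main {α : Type u} [Fintype α] {p : ℕ} [hp : Fact p.Prime] (h2 : 2 < p) (hα : Fintype.card α = p)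
    (G : Subgroup (Equiv.Perm α)) (P : Sylow p G)
    (hN : Nat.card (Subgroup.normalizer ((P : Subgroup G) : Set G)) = 2 * p) :
    (P : Subgroup G).Normal ∨ ∃ (a : ℕ) (F : Type) (_ : Field F) (_ : Fintype F), p = 2 ^ a + 1 ∧
      Fintype.card F = 2 ^ a ∧ Nonempty (G ≃* Matrix.SpecialLinearGroup (Fin 2) F) := by
  classical
  letI : Fintype G := Fintype.ofFinite _
  have hα' : Nat.card α = p := by rw [Nat.card_eq_fintype_card, hα]
  by_cases hPn : (P : Subgroup G).Normal
  · exact Or.inl hPn
  right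
  -- the order of `G`
  have hGdvd : Nat.card G ∣ p.factorial := by
    have h1 := Subgroup.card_subgroup_dvd_card G
    rwa [Nat.card_eq_fintype_card (α := Equiv.Perm α), Fintype.card_perm, hα] at h1
  have hNdvd : 2 * p ∣ Nat.card G := by
    rw [← hN]; exact Subgroup.card_subgroup_dvd_card _
  have hpG : p ∣ Nat.card G := (dvd_mul_left p 2).trans hNdvd
  have hPc : Nat.card P = p := by
    obtain ⟨k, hk⟩ := IsPGroup.iff_card.1 P.isPGroup'
    have hk1 : k ≠ 0 := by
      intro h
      rw [h, pow_zero] at hk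
      exact P.ne_bot_of_dvd_card hpG (Subgroup.card_eq_one.1 hk)
    have hk2 : k < 2 := by
      by_contra hcon
      have h1 : p ^ 2 ∣ p.factorial := by
        refine (pow_dvd_pow p (not_lt.1 hcon)).trans ?_
        rw [← hk]
        exact (Subgroup.card_subgroup_dvd_card _).trans hGdvd
      have h3 : p.factorial = p * (p - 1).factorial := (Nat.mul_factorial_pred hp.out.ne_zero).symm
      rw [h3, pow_two] at h1
      have h4 := Nat.dvd_of_mul_dvd_mul_left hp.out.pos h1
      rw [hp.out.dvd_factorial] at h4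
      have := hp.out.pos
      omega
    have : k = 1 := by omega
    rw [hk, this, pow_one]
  have h5 : 5 ≤ p := by
    by_contra hcon
    have h3 : p = 3 := by
      have h4 : p ≠ 4 := by
        intro h; have := hp.out; rw [h] at this; exact absurd this (by norm_num)
      omega
    apply hPn
    have h4 : Nat.card G ≤ 6 := by
      have := Nat.le_of_dvd (Nat.factorial_pos _) hGdvd
      rw [h3] at this
      exact this
    have h6 : Subgroup.normalizer ((P : Subgroup G) : Set G) = ⊤ := by
      apply Subgroup.eq_top_of_le_card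
      rw [hN, h3]
      exact h4
    exact Subgroup.normalizer_eq_top_iff.1 h6
  obtain ⟨D, hCf, ⟨B⟩⟩ := exists_B0 P hPc
  have hCP := cent_le (G := G) hα' hPc
  have hcent : Subgroup.centralizer ((P : Subgroup G) : Set G) = P := le_antisymm hCP D.PC
  have he : Nat.card (κu D).range = 2 := by
    rw [card_range]
    have h1 := Subgroup.relIndex_mul_relIndex ⊥ _ _ bot_le D.CN
    rw [Subgroup.relIndex_bot_left, Subgroup.relIndex_bot_left, hN, hcent, hPc, mul_comm] at h1
    exact Nat.eq_of_mul_eq_mul_right hp.out.pos (by rw [hcent]; exact h1)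
  obtain ⟨m, F, i1, i2, h6, h7, h8, ⟨E⟩⟩ := main_aux hα' h5 B hPc hCP he ⟨P, rfl⟩ hPn
  have hm : 0 < m := by
    rcases Nat.eq_zero_or_pos m with h4 | h4
    · rw [h4] at h7; omega
    · exact h4
  obtain ⟨E'⟩ := BRThm.psl_eq_sl (BRThm.two_eq_zero hm h6)
  exact ⟨m, F, i1, i2, h7, h6, ⟨E.trans E'⟩⟩

end Cfsg.Agent.Lib.BRPerm
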