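import Mathlib
import Cfsg.Agent.Lib.BRCor
import Cfsg.Agent.Lib.ClSeven

set_option autoImplicit false
set_option linter.all false

/-!
# Simple groups of small order with a large prime divisor
-/

namespace Cfsg.Agent.Lib.BRSmall

open Cfsg Cfsg.Agent.Lib.BRFin Cfsg.Agent.Lib.BRThm Cfsg.Agent.Lib.BRCor

universe u v

theorem not_cyclic {G : Type u} [Group G] [Finite G] [IsSimpleGroup G] (h : ¬ (Nat.card G).Prime) : ¬ IsCyclic G := by
  intro hc
  letI : CommGroup G := IsCyclic.commGroup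
  exact h IsSimpleGroup.prime_card

theorem cases {G : Type u} [Group G] [Finite G] [IsSimpleGroup G] (h732 : H732.{u}) {N : ℕ} (hN : Nat.card G = N)
    (hnp : ¬ N.Prime) (p : ℕ) (hp : p.Prime) (hdvd : p ∣ N) (hbig : N < p ^ 3) :
    (2 * N = p * (p ^ 2 - 1) ∧ ∀ (F : Type v) [Field F] [Fintype F], Fintype.card F = p →
      Nonempty (G ≃* Matrix.ProjectiveSpecialLinearGroup (Fin 2) F)) ∨
    (∃ q, p = q + 1 ∧ N = q * (q ^ 2 - 1) ∧ (∃ m, q = 2 ^ m) ∧ ∀ (F : Type v) [Field F] [Fintype F], Fintype.card F = q →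
      Nonempty (G ≃* Matrix.ProjectiveSpecialLinearGroup (Fin 2) F)) := by
  haveI : Fact p.Prime := ⟨hp⟩
  subst hN
  rcases large_prime (p := p) h732 (not_cyclic hnp) hdvd hbig with ⟨F, i1, i2, h1, h2, ⟨E⟩⟩ | ⟨m, F, i1, i2, h1, h2, h3, ⟨E⟩⟩
  · left
    refine ⟨?_, ?_⟩
    · have hodd : Odd (Fintype.card F) := by
        rw [h1]; exact hp.odd_of_ne_two (by omega)
      have h5 := ClSL2Syl.card_PSL2 hodd
      rw [h1, ← Nat.card_congr E.toEquiv] at h5
      exact h5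
    · intro F' _ _ hF'
      exact ⟨E.trans (ClSeven.pslCongr 2 (FiniteField.ringEquivOfCardEq (h1.trans hF'.symm)))⟩
  · right
    have hm : 0 < m := by
      rcases Nat.eq_zero_or_pos m with h4 | h4
      · rw [h4] at h2; omega
      · exact h4
    refine ⟨2 ^ m, h2, ?_, ⟨m, rfl⟩, ?_⟩
    · obtain ⟨E'⟩ := psl_eq_sl (two_eq_zero hm h1)
      rw [Nat.card_congr (E.trans E').toEquiv, ClSL2.card_SL2 h1]
    · intro F' _ _ hF'
      exact ⟨E.trans (ClSeven.pslCongr 2 (FiniteField.ringEquivOfCardEq (h1.trans hF'.symm)))⟩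

end Cfsg.Agent.Lib.BRSmall
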