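import Mathlib

set_option autoImplicit false
set_option linter.all false

/-!
# Arithmetic for the Brauer–Tuan theorem
-/

namespace Cfsg.Agent.Lib.BTNum

theorem split {q z : ℕ} (hq : q.Prime) (hz : 0 < z) : ∃ s r, z = q ^ s * r ∧ ¬ q ∣ r ∧ 0 < r := by
  obtain ⟨s, r, hr, h⟩ := Nat.exists_eq_pow_mul_and_not_dvd hz.ne' q hq.ne_one
  refine ⟨s, r, h, hr, ?_⟩
  rcases Nat.eq_zero_or_pos r with h1 | h1
  · rw [h1] at hr; exact absurd (dvd_zero q) hr
  · exact h1

/-- degrees `≡ -1` -/
theorem e_dvd_neg {p q c e t b d z κ : ℕ} (hq : q.Prime) (he : e = q ^ c) (ht : 0 < t) (hp : p = e * t + 1)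
    (hd : d + e = p) (hz : z ∣ q ^ b * d) (hk : z + 1 = κ * p) : e ∣ z := by
  have he0 : 0 < e := by rw [he]; exact pow_pos hq.pos _
  have hp1 : 1 < p := by rw [hp]; nlinarith
  have hz0 : 0 < z := by
    rcases Nat.eq_zero_or_pos z with h1 | h1
    · exfalso
      rw [h1, zero_add] at hk
      have := Nat.eq_one_of_mul_eq_one_left hk.symm
      omega
    · exact h1
  have hκ : 1 ≤ κ := by
    rcases Nat.eq_zero_or_pos κ with h1 | h1
    · rw [h1, zero_mul] at hk; omega
    · exact h1
  obtain ⟨s, r, hzr, hqr, hr0⟩ := split hq hz0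
  by_cases hs : c ≤ s
  · rw [he, hzr]
    exact (pow_dvd_pow q hs).mul_right _
  push Not at hs
  exfalso
  have hrd : r ∣ d := by
    have h1 : r ∣ q ^ b * d := (Dvd.intro_left _ rfl).trans (hzr ▸ hz)
    exact (Nat.Coprime.dvd_of_dvd_mul_left ((Nat.Coprime.pow_right _ ((hq.coprime_iff_not_dvd.2 hqr).symm))) h1)
  set v := q ^ s with hv
  set w := q ^ (c - s) with hw
  have hevw : e = v * w := by rw [he, hv, hw, ← pow_add]; congr 1; omega
  have hw2 : 2 ≤ w := by
    rw [hw]
    calc 2 ≤ q := hq.two_le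
      _ = q ^ 1 := (pow_one q).symm
      _ ≤ q ^ (c - s) := Nat.pow_le_pow_right hq.pos (by omega)
  have hv0 : 0 < v := pow_pos hq.pos _
  have hrw : IsCoprime (r : ℤ) (w : ℤ) := by
    rw [Nat.isCoprime_iff_coprime]
    exact Nat.Coprime.pow_right _ ((hq.coprime_iff_not_dvd.2 hqr).symm)
  have hpz : (p : ℤ) = v * w * t + 1 := by rw [hp, hevw]; push_cast; ring
  have hdz : (d : ℤ) = p - v * w := by
    have : (d : ℤ) + e = p := by exact_mod_cast hd
    rw [hevw] at this; push_cast at this; linarith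
  have hkz : (v : ℤ) * r + 1 = κ * p := by rw [← Nat.cast_mul, ← hzr]; exact_mod_cast hk
  set l : ℤ := r - κ * w * t with hl
  have h1 : (κ : ℤ) = 1 + v * l := by
    rw [hl]; rw [hpz] at hkz; linear_combination -hkz
  have hvz : (0 : ℤ) < v := by exact_mod_cast hv0
  have h2 : (r : ℤ) = w * t + l * p := by
    have h3 : (v : ℤ) * r = v * (w * t + l * p) := by
      rw [h1] at hkz
      have : (v : ℤ) * r = p - 1 + v * l * p := by linear_combination hkz
      rw [this]
      have h4 : (p : ℤ) - 1 = v * (w * t) := by rw [hpz]; ring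
      rw [h4]; ring
    exact mul_left_cancel₀ hvz.ne' h3
  have hl0 : 0 ≤ l := by
    have h3 : (0 : ℤ) ≤ v * l := by
      have : (1 : ℤ) ≤ κ := by exact_mod_cast hκ
      linarith
    by_contra hcon
    push Not at hcon
    nlinarith
  have hrdz : (r : ℤ) ∣ d := by exact_mod_cast hrd
  have h3 : (r : ℤ) ∣ w * (t + l * v) := by
    have h4 : (w : ℤ) * (t + l * v) = r - l * d := by rw [h2, hdz]; ring
    rw [h4]
    exact dvd_sub (dvd_refl _) (hrdz.mul_left _)
  have h4 : (r : ℤ) ∣ t + l * v := hrw.dvd_of_dvd_mul_left h3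
  have htz : (0 : ℤ) < t := by exact_mod_cast ht
  have h5 : (r : ℤ) ≤ t + l * v := Int.le_of_dvd (by positivity) h4
  have hw2z : (2 : ℤ) ≤ w := by exact_mod_cast hw2
  have h6 : (v : ℤ) < p := by
    rw [hpz]
    nlinarith [mul_pos hvz htz]
  nlinarith [mul_nonneg hl0 (by linarith : (0 : ℤ) ≤ p - v)]

/-- degrees `≡ 1` -/
theorem e_dvd_pos {p q c e t b d z l : ℕ} (hq : q.Prime) (he : e = q ^ c) (ht : 0 < t) (hp : p = e * t + 1)
    (hd : d + e = p) (hz : z ∣ q ^ b * d) (hl : 0 < l) (hk : z = 1 + l * p) : e ∣ z ∨ (t ∣ e ∧ t ∣ z) := by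
  have he0 : 0 < e := by rw [he]; exact pow_pos hq.pos _
  have hp1 : 1 < p := by rw [hp]; nlinarith
  have hz0 : 0 < z := by omega
  obtain ⟨s, r, hzr, hqr, hr0⟩ := split hq hz0
  by_cases hs : c ≤ s
  · left
    rw [he, hzr]
    exact (pow_dvd_pow q hs).mul_right _
  push Not at hs
  right
  have hrd : r ∣ d := by
    have h1 : r ∣ q ^ b * d := (Dvd.intro_left _ rfl).trans (hzr ▸ hz)
    exact (Nat.Coprime.dvd_of_dvd_mul_left ((Nat.Coprime.pow_right _ ((hq.coprime_iff_not_dvd.2 hqr).symm))) h1)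
  set v := q ^ s with hv
  set w := q ^ (c - s) with hw
  have hevw : e = v * w := by rw [he, hv, hw, ← pow_add]; congr 1; omega
  have hw2 : 2 ≤ w := by
    rw [hw]
    calc 2 ≤ q := hq.two_le
      _ = q ^ 1 := (pow_one q).symm
      _ ≤ q ^ (c - s) := Nat.pow_le_pow_right hq.pos (by omega)
  have hv0 : 0 < v := pow_pos hq.pos _
  have hrw : IsCoprime (r : ℤ) (w : ℤ) := by
    rw [Nat.isCoprime_iff_coprime]
    exact Nat.Coprime.pow_right _ ((hq.coprime_iff_not_dvd.2 hqr).symm)
  have hpz : (p : ℤ) = v * w * t + 1 := by rw [hp, hevw]; push_cast; ring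
  have hdz : (d : ℤ) = p - v * w := by
    have : (d : ℤ) + e = p := by exact_mod_cast hd
    rw [hevw] at this; push_cast at this; linarith
  have hkz : (v : ℤ) * r = 1 + l * p := by rw [← Nat.cast_mul, ← hzr]; exact_mod_cast hk
  have hd0 : (0 : ℤ) < d := by
    have h1 : 0 < d := by
      rcases Nat.eq_zero_or_pos d with h2 | h2
      · exfalso
        rw [h2, zero_add] at hd
        have : e ≤ e * t := Nat.le_mul_of_pos_right _ ht
        omega
      · exact h2
    exact_mod_cast h1
  set m : ℤ := r - l * w * t with hm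
  have h1 : (l : ℤ) + 1 = v * m := by
    rw [hm]; rw [hpz] at hkz; linear_combination -hkz
  have hvz : (0 : ℤ) < v := by exact_mod_cast hv0
  have h2 : (r : ℤ) = m * p - w * t := by
    have h3 : (v : ℤ) * r = v * (m * p - w * t) := by
      have h4 : (v : ℤ) * (m * p - w * t) = (v * m) * p - v * w * t := by ring
      rw [h4, ← h1, hkz]
      have h5 : (v : ℤ) * w * t = p - 1 := by rw [hpz]; ring
      rw [h5]; ring
    exact mul_left_cancel₀ hvz.ne' h3
  have hlz : (0 : ℤ) < l := by exact_mod_cast hl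
  have hm1 : 1 ≤ m := by
    by_contra hcon
    push Not at hcon
    have : m ≤ 0 := by linarith
    nlinarith
  have hrdz : (r : ℤ) ∣ d := by exact_mod_cast hrd
  have h3 : (r : ℤ) ∣ w * (m * v - t) := by
    have h4 : (w : ℤ) * (m * v - t) = r - m * d := by rw [h2, hdz]; ring
    rw [h4]
    exact dvd_sub (dvd_refl _) (hrdz.mul_left _)
  have h4 : (r : ℤ) ∣ m * v - t := hrw.dvd_of_dvd_mul_left h3
  have htz : (0 : ℤ) < t := by exact_mod_cast ht
  have hw2z : (2 : ℤ) ≤ w := by exact_mod_cast hw2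
  have hwt : (0 : ℤ) < w * t := by positivity
  rcases lt_trichotomy (m * v) (t : ℤ) with h5 | h5 | h5
  · exfalso
    have h6 : (r : ℤ) ≤ t - m * v := Int.le_of_dvd (by linarith) (by rw [← neg_sub, dvd_neg]; exact h4)
    have h7 : m * (p + v) ≤ (w + 1) * t := by rw [h2] at h6; linarith
    have h8 : (p : ℤ) + v ≤ m * (p + v) := by
      have : (0 : ℤ) < p + v := by
        have : (1 : ℤ) < p := by exact_mod_cast hp1
        linarith
      exact le_mul_of_one_le_left this.le hm1
    have hwt2 : 2 * (t : ℤ) ≤ w * t := mul_le_mul_of_nonneg_right hw2z htz.le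
    rcases Nat.lt_or_ge v 2 with hv1 | hv2
    · have hv1 : v = 1 := by omega
      rw [hv1] at h1 h7 hpz
      push_cast at h1 h7 hpz
      have h9 : 2 ≤ m := by linarith
      have h10 : 2 * ((p : ℤ) + 1) ≤ m * (p + 1) := mul_le_mul_of_nonneg_right h9 (by
        have : (1 : ℤ) < p := by exact_mod_cast hp1
        linarith)
      have h11 : ((w : ℤ) + 1) * t = w * t + t := by ring
      linarith
    · have hv2z : (2 : ℤ) ≤ v := by exact_mod_cast hv2
      have h9 : (v : ℤ) * w * t + 1 + v ≤ (w + 1) * t := by rw [hpz] at h8 h7; linarith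
      have h10 : (w : ℤ) * t ≤ (v - 1) * (w * t) := le_mul_of_one_le_left hwt.le (by linarith)
      have h11 : ((w : ℤ) + 1) * t = w * t + t := by ring
      have h12 : (v : ℤ) * w * t = (v - 1) * (w * t) + w * t := by ring
      linarith
  · have h6 : (r : ℤ) = m * d := by
      rw [h2, hdz, ← h5]; ring
    have h7 : m = 1 := by
      rw [h6] at hrdz
      obtain ⟨x, hx⟩ := hrdz
      have h8 : (d : ℤ) * 1 = d * (m * x) := by linear_combination hx
      have h9 := mul_left_cancel₀ hd0.ne' h8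
      have h10 : m ∣ 1 := ⟨x, h9⟩
      have h11 := Int.le_of_dvd (by norm_num) h10
      linarith
    rw [h7, one_mul] at h5
    have h8 : t = v := by exact_mod_cast h5.symm
    rw [h8]
    exact ⟨by rw [hevw]; exact dvd_mul_right _ _, by rw [hzr]; exact dvd_mul_right _ _⟩
  · exfalso
    have h6 : (r : ℤ) ≤ m * v - t := Int.le_of_dvd (by linarith) h4
    have h7 : m * (p - v) ≤ (w - 1) * t := by rw [h2] at h6; linarith
    have h6' : (v : ℤ) < p := by
      have h12 : (v : ℤ) * 1 ≤ v * (w * t) := mul_le_mul_of_nonneg_left (by linarith) hvz.le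
      have h13 : (v : ℤ) * (w * t) = v * w * t := by ring
      rw [hpz]
      linarith
    have h8 : (p : ℤ) - v ≤ m * (p - v) := le_mul_of_one_le_left (by linarith) hm1
    have h9 : (v : ℤ) * w * t + 1 - v ≤ (w - 1) * t := by rw [hpz] at h8 h7; linarith
    have h10 : (v - 1 : ℤ) * (w * t - 1) + t ≤ 0 := by
      have e1 : (v - 1 : ℤ) * (w * t - 1) = v * w * t - w * t - v + 1 := by ring
      have e2 : ((w : ℤ) - 1) * t = w * t - t := by ring
      linarith
    have h11 : (0 : ℤ) ≤ (v - 1) * (w * t - 1) := mul_nonneg (by linarith) (by linarith)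
    linarith

/-- the orders of `PSL(2,p)` -/
theorem psl_order {p q b g : ℕ} (hp : p.Prime) (h3 : 3 < p) (hq : q.Prime) (hqg : ¬ q ∣ g) (hg : g < p - 1)
    (h : 2 * (q ^ b * g) = p ^ 2 - 1) : ∃ m, p = 2 ^ m + 1 ∨ p = 2 ^ m - 1 := by
  obtain ⟨a, ha⟩ : ∃ a, p = 2 * a + 1 := by
    rcases hp.eq_two_or_odd with h1 | h1
    · omega
    · exact ⟨p / 2, by omega⟩
  have h1 : q ^ b * g = 2 * (a * (a + 1)) := by
    have h2 : p ^ 2 - 1 = 2 * (2 * (a * (a + 1))) := by
      rw [ha]
      have : (2 * a + 1) ^ 2 = 2 * (2 * (a * (a + 1))) + 1 := by ring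
      omega
    omega
  have ha0 : 1 < a := by omega
  have hg0 : 0 < g := by
    rcases Nat.eq_zero_or_pos g with h2 | h2
    · exact absurd (h2 ▸ dvd_zero q) hqg
    · exact h2
  have hcop : Nat.Coprime a (a + 1) := by simp
  by_cases hq2 : q = 2
  · subst hq2
    rcases Nat.even_or_odd a with hev | hodd
    · -- `a + 1` odd
      have hc : Nat.Coprime (a + 1) (2 ^ b) := by
        apply Nat.Coprime.pow_right
        rw [Nat.coprime_comm, Nat.prime_two.coprime_iff_not_dvd]
        obtain ⟨k, hk⟩ := hev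
        omega
      have h2 : a + 1 ∣ g := hc.dvd_of_dvd_mul_left (by rw [h1]; exact ⟨2 * a, by ring⟩)
      obtain ⟨g', hg'⟩ := h2
      have h4 : g' = 1 := by
        have h5 : g' ≠ 0 := by rintro rfl; omega
        by_contra h6
        have h7 : (a + 1) * 2 ≤ (a + 1) * g' := Nat.mul_le_mul_left _ (by omega)
        omega
      rw [hg', h4, mul_one] at h1
      have h5 : 2 ^ b = 2 * a := by
        apply Nat.eq_of_mul_eq_mul_right (show 0 < a + 1 by omega)
        rw [h1]; ring
      exact ⟨b, Or.inl (by rw [h5, ha])⟩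
    · have hc : Nat.Coprime a (2 ^ b) := by
        apply Nat.Coprime.pow_right
        rw [Nat.coprime_comm, Nat.prime_two.coprime_iff_not_dvd]
        obtain ⟨k, hk⟩ := hodd
        omega
      have h2 : a ∣ g := hc.dvd_of_dvd_mul_left (by rw [h1]; exact ⟨2 * (a + 1), by ring⟩)
      obtain ⟨g', hg'⟩ := h2
      have h4 : g' = 1 := by
        have h5 : g' ≠ 0 := by rintro rfl; omega
        by_contra h6
        have h7 : a * 2 ≤ a * g' := Nat.mul_le_mul_left _ (by omega)
        omega
      rw [hg', h4, mul_one] at h1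
      have h5 : 2 ^ b = 2 * (a + 1) := by
        apply Nat.eq_of_mul_eq_mul_right (show 0 < a by omega)
        rw [h1]; ring
      exact ⟨b, Or.inr (by rw [h5, ha]; omega)⟩
  · exfalso
    have hc2 : Nat.Coprime (q ^ b) 2 := by
      apply Nat.Coprime.pow_left
      rw [Nat.coprime_primes hq Nat.prime_two]
      exact hq2
    have h2 : q ^ b ∣ a * (a + 1) := hc2.dvd_of_dvd_mul_left (by rw [← h1]; exact dvd_mul_right _ _)
    have h4 : q ^ b ∣ a ∨ q ^ b ∣ a + 1 := by
      by_cases h5 : q ∣ a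
      · left
        have h6 : Nat.Coprime (q ^ b) (a + 1) := by
          apply Nat.Coprime.pow_left
          rw [hq.coprime_iff_not_dvd]
          intro h7
          exact hq.one_lt.ne' (Nat.dvd_one.1 ((Nat.dvd_add_right h5).1 h7))
        exact h6.dvd_of_dvd_mul_right h2
      · right
        have h6 : Nat.Coprime (q ^ b) a := Nat.Coprime.pow_left _ (hq.coprime_iff_not_dvd.2 h5)
        exact h6.dvd_of_dvd_mul_left h2
    rcases h4 with h5 | h5
    · have h6 := Nat.le_of_dvd (by omega) h5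
      have h7 : q ^ b * g ≤ a * g := Nat.mul_le_mul_right _ h6
      have h8 : a * g < a * (2 * (a + 1)) := Nat.mul_lt_mul_of_pos_left (by omega) (by omega)
      nlinarith
    · have h6 := Nat.le_of_dvd (by omega) h5
      have h7 : q ^ b * g ≤ (a + 1) * g := Nat.mul_le_mul_right _ h6
      have h8 : (a + 1) * g < (a + 1) * (2 * a) := Nat.mul_lt_mul_of_pos_left (by omega) (by omega)
      nlinarith

end Cfsg.Agent.Lib.BTNum
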