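import Mathlib
import Cfsg.Agent.Lib.BRFin
import Cfsg.Agent.Lib.BTNum

set_option autoImplicit false
set_option linter.all false

/-!
# Brauer–Tuan: degrees in the principal block
-/

namespace Cfsg.Agent.Lib.BTDeg

open Cfsg Cfsg.Agent.Lib.BlockRing Cfsg.Agent.Lib.BlockGA Cfsg.Agent.Lib.BlockIdem
open Cfsg.Agent.Lib.DefOneLoc Cfsg.Agent.Lib.DefOneOrd Cfsg.Agent.Lib.CharBasic Cfsg.Agent.Lib.DefOneGram
open Cfsg.Agent.Lib.DefOne Cfsg.Agent.Lib.BlockThird Cfsg.Agent.Lib.DefOnePrin Cfsg.Agent.Lib.BRB0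
open Cfsg.Agent.Lib.BRNum Cfsg.Agent.Lib.BRDeg Cfsg.Agent.Lib.BRCore Cfsg.Agent.Lib.BROne Cfsg.Agent.Lib.BRInd
open scoped ComplexConjugate

universe u

variable {G : Type u} [Group G] [Fintype G] {p : ℕ} [hp : Fact p.Prime] {P N C : Subgroup G}
  {D : Loc p P N C} [Fintype C]

/-- the hypotheses of the Brauer–Tuan theorem -/
structure BT (D : Loc p P N C) (q b g₀ : ℕ) : Prop where
  simple : IsSimpleGroup G
  perf : commutator G = ⊤
  hP : Nat.card P = p
  card : Nat.card G = p * q ^ b * g₀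
  hq : q.Prime
  hpq : p ≠ q
  hqg : ¬ q ∣ g₀
  hg : g₀ < p - 1
  hb : 0 < b
  he : 1 < Nat.card (κu D).range

theorem X_not_p (B : B0 D) {χ : IrrCharacter G} (hχ : χ ∈ B.X) : ¬ p ∣ charDegree (χ : G → ℂ) := by
  intro hdvd
  obtain ⟨k, hk⟩ := B.degX χ hχ
  have h1 : (p : ℤ) ∣ charDegree (χ : G → ℂ) := by exact_mod_cast hdvd
  rw [hk] at h1
  have h2 : (p : ℤ) ∣ B.δ χ := (dvd_add_right (dvd_mul_left _ _)).1 h1
  have h3 : (p : ℤ) ∣ 1 := by
    rcases B.δ_pm χ hχ with h4 | h4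
    · rwa [h4] at h2
    · rwa [h4, dvd_neg] at h2
  have h4 := Int.le_of_dvd (by norm_num) h3
  have := hp.out.one_lt
  omega

theorem e_lt (D : Loc p P N C) : Nat.card (κu D).range < p := by
  have h1 := p_eq D
  have h2 : 0 < Nat.card (Tau D) := Nat.card_pos
  nlinarith

theorem Y_not_p (B : B0 D) (k : Tau D) : ¬ p ∣ charDegree (B.Y k : G → ℂ) := by
  intro hdvd
  obtain ⟨m, hm⟩ := B.degY k
  have h1 : (p : ℤ) ∣ charDegree (B.Y k : G → ℂ) := by exact_mod_cast hdvd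
  rw [hm] at h1
  have h2 : (p : ℤ) ∣ B.s * Nat.card (κu D).range := (dvd_add_right (dvd_mul_left _ _)).1 h1
  have h3 : (p : ℤ) ∣ Nat.card (κu D).range := by
    rcases B.s_pm with h4 | h4
    · rwa [h4, one_mul] at h2
    · rwa [h4, neg_one_mul, dvd_neg] at h2
  have h4 : p ∣ Nat.card (κu D).range := by exact_mod_cast h3
  have h5 := Nat.le_of_dvd Nat.card_pos h4
  have := e_lt D
  omega

theorem rel_deg (B : B0 D) (k : Tau D) :
    B.s * (charDegree (B.Y k : G → ℂ) : ℤ) = ∑ χ ∈ B.X, B.δ χ * (charDegree (χ : G → ℂ) : ℤ) := by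
  have h1 := B.rel k 1 (by rw [orderOf_one]; exact hp.out.one_lt.ne' ∘ Nat.dvd_one.1)
  rw [← BlockDeg.charDegree_cast_irr (B.Y k)] at h1
  have h2 : ∑ χ ∈ B.X, (B.δ χ : ℂ) * (χ : G → ℂ) 1 = ∑ χ ∈ B.X, (B.δ χ : ℂ) * (charDegree (χ : G → ℂ) : ℂ) :=
    Finset.sum_congr rfl fun χ _ => by rw [BlockDeg.charDegree_cast_irr]
  rw [h2] at h1
  exact_mod_cast h1

section

variable {q b g₀ : ℕ} (h : BT D q b g₀)
include h

theorem dvd_qg {χ : IrrCharacter G} (hχ : ¬ p ∣ charDegree (χ : G → ℂ)) : charDegree (χ : G → ℂ) ∣ q ^ b * g₀ := by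
  have h1 := BlockDeg.charDegree_dvd_card χ.2
  rw [h.card, mul_assoc] at h1
  exact ((hp.out.coprime_iff_not_dvd.2 hχ).symm).dvd_of_dvd_mul_left h1

theorem dvd_g {χ : IrrCharacter G} (hχ : ¬ p ∣ charDegree (χ : G → ℂ)) (hq : ¬ q ∣ charDegree (χ : G → ℂ)) :
    charDegree (χ : G → ℂ) ∣ g₀ :=
  (Nat.Coprime.pow_right _ ((h.hq.coprime_iff_not_dvd.2 hq).symm)).dvd_of_dvd_mul_left (dvd_qg h hχ)

omit [Fintype C] in
theorem g_pos : 0 < g₀ := by
  rcases Nat.eq_zero_or_pos g₀ with h1 | h1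
  · exact absurd (h1 ▸ dvd_zero q) h.hqg
  · exact h1

theorem X_ge (B : B0 D) {χ : IrrCharacter G} (hχ : χ ∈ B.X) (hne : χ ≠ triv G) : p - 1 ≤ charDegree (χ : G → ℂ) := by
  obtain ⟨k, hk⟩ := B.degX χ hχ
  have h0 := BlockDeg.charDegree_pos χ.2
  have h1 : charDegree (χ : G → ℂ) ≠ 1 := fun h2 => hne (eq_triv_of_deg h.perf h2)
  have hp1 := hp.out.one_lt
  by_contra hcon
  push Not at hcon
  have h2 : 0 < k := by
    by_contra h3
    push Not at h3
    have h4 : k * (p : ℤ) ≤ 0 := mul_nonpos_of_nonpos_of_nonneg h3 (by positivity)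
    rcases B.δ_pm χ hχ with h5 | h5 <;> rw [h5] at hk
    · omega
    · omega
  have h3 : (p : ℤ) ≤ k * p := by nlinarith
  rcases B.δ_pm χ hχ with h5 | h5 <;> rw [h5] at hk <;> omega

theorem X_dvd (B : B0 D) {χ : IrrCharacter G} (hχ : χ ∈ B.X) (hne : χ ≠ triv G) : q ∣ charDegree (χ : G → ℂ) := by
  by_contra hcon
  have h1 := Nat.le_of_dvd (g_pos h) (dvd_g h (X_not_p B hχ) hcon)
  have h2 := X_ge h B hχ hne
  have := h.hg
  omega

theorem sum_dvd (B : B0 D) (htriv : triv G ∉ B.X) : (q : ℤ) ∣ ∑ χ ∈ B.X, B.δ χ * (charDegree (χ : G → ℂ) : ℤ) := by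
  apply Finset.dvd_sum
  intro χ hχ
  apply Dvd.dvd.mul_left
  exact_mod_cast X_dvd h B hχ (fun h1 => htriv (h1 ▸ hχ))

theorem Y_not_q (B : B0 D) (k : Tau D) (h1 : triv G ∈ B.X) (h2 : B.δ (triv G) = 1) : ¬ q ∣ charDegree (B.Y k : G → ℂ) := by
  classical
  intro hdvd
  have h3 := rel_deg B k
  rw [← Finset.add_sum_erase _ _ h1, h2, deg_triv] at h3
  have h4 : (q : ℤ) ∣ ∑ χ ∈ B.X.erase (triv G), B.δ χ * (charDegree (χ : G → ℂ) : ℤ) := by
    apply Finset.dvd_sum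
    intro χ hχ
    apply Dvd.dvd.mul_left
    exact_mod_cast X_dvd h B (Finset.mem_of_mem_erase hχ) (Finset.ne_of_mem_erase hχ)
  have h5 : (q : ℤ) ∣ B.s * (charDegree (B.Y k : G → ℂ) : ℤ) := Dvd.dvd.mul_left (by exact_mod_cast hdvd) _
  rw [h3] at h5
  have h6 := (dvd_add_left h4).1 h5
  have h7 : q ∣ 1 := by exact_mod_cast h6
  exact h.hq.one_lt.ne' (Nat.dvd_one.1 h7)

theorem Y_cases (B : B0 D) (k : Tau D) (h1 : triv G ∈ B.X) (h2 : B.δ (triv G) = 1) :
    charDegree (B.Y k : G → ℂ) ∣ g₀ ∧ ((B.s = 1 ∧ charDegree (B.Y k : G → ℂ) = Nat.card (κu D).range) ∨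
      (B.s = -1 ∧ charDegree (B.Y k : G → ℂ) + Nat.card (κu D).range = p)) := by
  have h3 := dvd_g h (Y_not_p B k) (Y_not_q h B k h1 h2)
  refine ⟨h3, ?_⟩
  have h4 := Nat.le_of_dvd (g_pos h) h3
  have h5 := h.hg
  have h0 := BlockDeg.charDegree_pos (B.Y k).2
  obtain ⟨m, hm⟩ := B.degY k
  have he := e_lt D
  have he0 : 0 < Nat.card (κu D).range := Nat.card_pos
  set e := Nat.card (κu D).range with hedef
  set z := charDegree (B.Y k : G → ℂ) with hz
  have hpz : (0 : ℤ) < p := by exact_mod_cast hp.out.pos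
  rcases B.s_pm with hs | hs
  · left
    refine ⟨hs, ?_⟩
    rw [hs, one_mul] at hm
    have h6 : m = 0 := by
      rcases lt_trichotomy m 0 with h7 | h7 | h7
      · exfalso
        have : m * (p : ℤ) ≤ -1 * p := mul_le_mul_of_nonneg_right (by omega) hpz.le
        omega
      · exact h7
      · exfalso
        have : 1 * (p : ℤ) ≤ m * p := mul_le_mul_of_nonneg_right (by omega) hpz.le
        omega
    rw [h6] at hm
    omega
  · right
    refine ⟨hs, ?_⟩
    rw [hs, neg_one_mul] at hm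
    have h6 : m = 1 := by
      rcases lt_trichotomy m 1 with h7 | h7 | h7
      · exfalso
        have : m * (p : ℤ) ≤ 0 * p := mul_le_mul_of_nonneg_right (by omega) hpz.le
        omega
      · exact h7
      · exfalso
        have : 2 * (p : ℤ) ≤ m * p := mul_le_mul_of_nonneg_right (by omega) hpz.le
        omega
    rw [h6] at hm
    omega

theorem t_gt (B : B0 D) : 1 < Nat.card (Tau D) := by
  classical
  by_contra hcon
  have ht : Nat.card (Tau D) = 1 := by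
    have : 0 < Nat.card (Tau D) := Nat.card_pos
    omega
  obtain ⟨k⟩ : Nonempty (Tau D) := inferInstance
  have hsub : Subsingleton (Tau D) := Finite.card_le_one_iff_subsingleton.1 ht.le
  have hpe := p_eq D
  rw [ht, mul_one] at hpe
  by_cases h1 : triv G ∈ B.X
  · have h2 : B.δ (triv G) = 1 := by
      have h2 := B.dmX _ h1 1
      rw [dm_triv] at h2
      have h3 : (B.δ (triv G) : ℂ) = 1 := by linear_combination h2
      exact_mod_cast h3
    obtain ⟨h3, h4⟩ := Y_cases h B k h1 h2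
    have h5 := Nat.le_of_dvd (g_pos h) h3
    have h6 := h.hg
    rcases h4 with ⟨-, h4⟩ | ⟨-, h4⟩
    · omega
    · have h7 : charDegree (B.Y k : G → ℂ) = 1 := by omega
      have h8 := eq_triv_of_deg h.perf h7
      exact B.disj k (h8 ▸ h1)
  · have h2 : B.Y k = triv G := by
      by_contra h3
      have h4 : ∀ q', triv G ≠ B.Y q' := by
        intro q' h5
        rw [Subsingleton.elim q' k] at h5
        exact h3 h5.symm
      have h5 := B.dmO _ h1 h4 1
      rw [dm_triv] at h5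
      norm_num at h5
    have h3 := rel_deg B k
    rw [h2, deg_triv] at h3
    have h4 := sum_dvd h B h1
    rw [← h3] at h4
    have h5 : (q : ℤ) ∣ 1 := by
      rcases B.s_pm with h6 | h6
      · rw [h6] at h4; simpa using h4
      · rw [h6] at h4; simpa using h4
    have h7 : q ∣ 1 := by exact_mod_cast h5
    exact h.hq.one_lt.ne' (Nat.dvd_one.1 h7)

end

end Cfsg.Agent.Lib.BTDeg
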