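import Mathlib
import Cfsg.Agent.Lib.BTDeg

set_option autoImplicit false
set_option linter.all false

/-!
# Brauer–Tuan: the centraliser of a Sylow `p`-subgroup
-/

namespace Cfsg.Agent.Lib.BTKer

open Cfsg Cfsg.Agent.Lib.BlockRing Cfsg.Agent.Lib.BlockGA Cfsg.Agent.Lib.BlockIdem
open Cfsg.Agent.Lib.DefOneLoc Cfsg.Agent.Lib.DefOneOrd Cfsg.Agent.Lib.CharBasic Cfsg.Agent.Lib.DefOneGram
open Cfsg.Agent.Lib.DefOne Cfsg.Agent.Lib.BlockThird Cfsg.Agent.Lib.DefOnePrin Cfsg.Agent.Lib.BRB0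
open Cfsg.Agent.Lib.BRNum Cfsg.Agent.Lib.BRDeg Cfsg.Agent.Lib.BRCore Cfsg.Agent.Lib.BROne Cfsg.Agent.Lib.BRInd
open Cfsg.Agent.Lib.BTDeg
open scoped ComplexConjugate

universe u

variable {G : Type u} [Group G] [Fintype G] {p : ℕ} [hp : Fact p.Prime] {P N C : Subgroup G}
  {D : Loc p P N C} [Fintype C]

theorem norm_le (χ : IrrCharacter G) (g : G) : ‖(χ : G → ℂ) g‖ ≤ (charDegree (χ : G → ℂ) : ℝ) := by
  obtain ⟨m, ρ, hρ⟩ := χ.2.isCharacter
  have h3 := CharValues.norm_character_le ρ g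
  rw [hρ] at h3
  have h4 : (χ : G → ℂ) 1 = Module.finrank ℂ (Fin m → ℂ) := by rw [← hρ, Representation.char_one]
  rw [← BlockDeg.charDegree_cast_irr] at h4
  have h5 : charDegree (χ : G → ℂ) = Module.finrank ℂ (Fin m → ℂ) := by exact_mod_cast h4
  rw [h5]; exact h3

/-- kernel via averaging over `C` -/
theorem ker_gen (D : Loc p P N C) (χ : IrrCharacter G) {ψ : C → ℂ} (hψ : IsCharacter C ψ) (hψ0 : ∀ c : C, D.l c = 0 → ψ c = 1)
    (hsum : ∑ c : C, (if D.l c = 0 then 0 else (χ : G → ℂ) c * conj (ψ c)) = -(charDegree (χ : G → ℂ) * vc D))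
    {c : C} (hc : D.l c = 0) : (χ : G → ℂ) c = (χ : G → ℂ) 1 := by
  classical
  set Z := charDegree (χ : G → ℂ) with hZ
  have hχ1 : (χ : G → ℂ) 1 = ((Z : ℝ) : ℂ) := by
    rw [← BlockDeg.charDegree_cast_irr]; push_cast; rfl
  have hchar : IsCharacter C (rs C (χ : G → ℂ)) := χ.2.isCharacter.restrict C
  obtain ⟨k, hk⟩ := hchar.classInner_nat hψ
  have hnorm : ∀ g : G, ‖(χ : G → ℂ) g‖ ≤ (Z : ℝ) := norm_le χ
  have hre : ∀ g : G, ((χ : G → ℂ) g).re ≤ (Z : ℝ) := fun g => (Complex.re_le_norm _).trans (hnorm g)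
  have hvc : (Finset.univ.filter (fun c : C => D.l c = 0)).card = vc D := by
    rw [vc]
  have hsum2 : ∑ c ∈ Finset.univ.filter (fun c : C => D.l c = 0), (χ : G → ℂ) c = Nat.card C * k + Z * vc D := by
    rw [classInner_def] at hk
    have hC0 : (Nat.card C : ℂ) ≠ 0 := by exact_mod_cast Nat.card_pos.ne'
    have h3 : ∑ c : C, (χ : G → ℂ) c * conj (ψ c) = Nat.card C * k := by
      rw [← hk, ← mul_assoc, mul_inv_cancel₀ hC0, one_mul]
      rfl
    have h4 : ∑ c : C, (χ : G → ℂ) c * conj (ψ c) = ∑ c : C, (if D.l c = 0 then (χ : G → ℂ) c else 0) +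
        ∑ c : C, (if D.l c = 0 then 0 else (χ : G → ℂ) c * conj (ψ c)) := by
      rw [← Finset.sum_add_distrib]
      refine Finset.sum_congr rfl fun c _ => ?_
      by_cases h5 : D.l c = 0
      · rw [if_pos h5, if_pos h5, hψ0 c h5, map_one, mul_one, add_zero]
      · rw [if_neg h5, if_neg h5, zero_add]
    rw [h4, hsum, ← Finset.sum_filter] at h3
    linear_combination h3
  have hsum3 : ∑ c ∈ Finset.univ.filter (fun c : C => D.l c = 0), ((χ : G → ℂ) c).re = Nat.card C * k + Z * vc D := by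
    have h4 := congrArg Complex.re hsum2
    rw [Complex.re_sum] at h4
    rw [h4]
    have h5 : ((Nat.card C : ℂ) * (k : ℂ) + (Z : ℂ) * (vc D : ℂ)).re =
      ((((Nat.card C : ℝ) * (k : ℝ) + (Z : ℝ) * (vc D : ℝ) : ℝ)) : ℂ).re := by push_cast; rfl
    rw [h5, Complex.ofReal_re]
  have h4 : ∑ c ∈ Finset.univ.filter (fun c : C => D.l c = 0), ((Z : ℝ) - ((χ : G → ℂ) c).re) ≤ 0 := by
    rw [Finset.sum_sub_distrib, Finset.sum_const, hvc, nsmul_eq_mul, hsum3]
    have h5 : (0 : ℝ) ≤ Nat.card C * k := by positivity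
    linarith
  have h5 : ∀ c ∈ Finset.univ.filter (fun c : C => D.l c = 0), 0 ≤ (Z : ℝ) - ((χ : G → ℂ) c).re := fun c _ => by
    have := hre c; linarith
  have h6 := (Finset.sum_eq_zero_iff_of_nonneg h5).1 (le_antisymm h4 (Finset.sum_nonneg h5)) c
    (Finset.mem_filter.2 ⟨Finset.mem_univ _, hc⟩)
  have h7 : ((χ : G → ℂ) c).re = (Z : ℝ) := by linarith
  rw [hχ1]
  apply Complex.ext
  · rw [h7, Complex.ofReal_re]
  · rw [Complex.ofReal_im]
    have h8 := hnorm c
    have h9 := Complex.sq_norm_sub_sq_re ((χ : G → ℂ) c)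
    rw [h7] at h9
    have h10 : ‖(χ : G → ℂ) c‖ ^ 2 ≤ (Z : ℝ) ^ 2 := pow_le_pow_left₀ (norm_nonneg _) h8 2
    nlinarith

theorem lam_inner (D : Loc p P N C) (i j : ZMod p) :
    ∑ c : C, lam D i c * conj (lam D j c) = if i = j then (Nat.card C : ℂ) else 0 := by
  classical
  have ht : TrivOn D ((triv C : IrrCharacter C) : C → ℂ) := by
    intro x _
    rw [coe_triv]
  have h1 : ∀ (i : ZMod p) (c : C), lam D i c = (LT D (triv C) i : C → ℂ) c := by
    intro i c
    rw [LT_apply, coe_triv, one_mul]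
  have h3 := irr_orthonormal (LT D (triv C) i) (LT D (triv C) j)
  rw [classInner_def] at h3
  have hC0 : (Nat.card C : ℂ) ≠ 0 := by exact_mod_cast Nat.card_pos.ne'
  have h4 : ∑ c : C, lam D i c * conj (lam D j c) = Nat.card C * (if LT D (triv C) i = LT D (triv C) j then 1 else 0) := by
    rw [← h3, ← mul_assoc, mul_inv_cancel₀ hC0, one_mul]
    exact Finset.sum_congr rfl fun c _ => by rw [h1, h1]
  rw [h4]
  have h2 : LT D (triv C) i = LT D (triv C) j ↔ i = j := by
    constructor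
    · intro h3; exact (LT_inj D ht ht h3).2
    · rintro rfl; rfl
  simp only [h2]
  split_ifs <;> simp

/-- sum of an exceptional character over the singular part of `C` -/
theorem sum_Y (B : B0 D) (k : Tau D) (j : ZMod p) [DecidableEq (Tau D)] :
    ∑ c : C, (if D.l c = 0 then 0 else (B.Y k : G → ℂ) c * conj (lam D j c)) =
      B.s * (∑ i : (ZMod p)ˣ, (if (i : Tau D) = k then (if (i : ZMod p) = j then (Nat.card C : ℂ) else 0) else 0) -
        Nat.card (κu D).range * vc D) := by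
  classical
  have h1 : ∀ c : C, (if D.l c = 0 then 0 else (B.Y k : G → ℂ) c * conj (lam D j c)) =
      B.s * (∑ i : (ZMod p)ˣ, (if (i : Tau D) = k then lam D (i : ZMod p) c * conj (lam D j c) else 0)) -
        (if D.l c = 0 then (B.s : ℂ) * Nat.card (κu D).range else 0) := by
    intro c
    by_cases hc : D.l c = 0
    · rw [if_pos hc, if_pos hc]
      have h2 : ∑ i : (ZMod p)ˣ, (if (i : Tau D) = k then lam D (i : ZMod p) c * conj (lam D j c) else 0) =
          (Nat.card (κu D).range : ℂ) := by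
        rw [← card_fiber D k, Finset.card_filter]
        push_cast
        refine Finset.sum_congr rfl fun i _ => ?_
        split_ifs
        · rw [lam_of_reg D _ hc, lam_of_reg D _ hc, map_one, mul_one]
        · rfl
      rw [h2]; ring
    · rw [if_neg hc, if_neg hc, B.valY k c hc, sub_zero, mul_assoc, Finset.sum_mul]
      congr 1
      refine Finset.sum_congr rfl fun i _ => ?_
      split_ifs
      · rfl
      · rw [zero_mul]
  rw [Finset.sum_congr rfl (fun c _ => h1 c), Finset.sum_sub_distrib, ← Finset.mul_sum, Finset.sum_comm]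
  have h2 : ∀ i : (ZMod p)ˣ, ∑ c : C, (if (i : Tau D) = k then lam D (i : ZMod p) c * conj (lam D j c) else 0) =
      (if (i : Tau D) = k then (if (i : ZMod p) = j then (Nat.card C : ℂ) else 0) else 0) := by
    intro i
    split_ifs with h3 h4
    · rw [lam_inner, if_pos h4]
    · rw [lam_inner, if_neg h4]
    · rw [Finset.sum_const_zero]
  have hvc : (Finset.univ.filter (fun c : C => D.l c = 0)).card = vc D := by
    rw [vc]
  have h5 : ∑ c : C, (if D.l c = 0 then (B.s : ℂ) * Nat.card (κu D).range else 0) =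
      vc D * ((B.s : ℂ) * Nat.card (κu D).range) := by
    rw [← Finset.sum_filter, Finset.sum_const, nsmul_eq_mul, hvc]
  rw [Finset.sum_congr rfl (fun i _ => h2 i), h5]
  ring

theorem ker_Y (B : B0 D) (k : Tau D)
    (hY : (B.s = 1 ∧ charDegree (B.Y k : G → ℂ) = Nat.card (κu D).range) ∨
      (B.s = -1 ∧ charDegree (B.Y k : G → ℂ) + Nat.card (κu D).range = p)) {c : C} (hc : D.l c = 0) :
    (B.Y k : G → ℂ) c = (B.Y k : G → ℂ) 1 := by
  classical
  have h1 : ∀ (i : ZMod p), IsCharacter C (lam D i) := by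
    intro i
    have h2 : lam D i = (LT D (triv C) i : C → ℂ) := by
      funext c
      rw [LT_apply, coe_triv, one_mul]
    rw [h2]
    exact (LT D (triv C) i).2.isCharacter
  rcases hY with ⟨hs, hz⟩ | ⟨hs, hz⟩
  · apply ker_gen D (B.Y k) (h1 0) (fun c hc => lam_of_reg D 0 hc) _ hc
    rw [sum_Y, hs, hz]
    have h2 : ∑ i : (ZMod p)ˣ, (if (i : Tau D) = k then (if (i : ZMod p) = 0 then (Nat.card C : ℂ) else 0) else 0) = 0 := by
      apply Finset.sum_eq_zero
      intro i _
      rw [if_neg i.ne_zero]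
      split_ifs <;> rfl
    rw [h2]
    push_cast; ring
  · obtain ⟨j, rfl⟩ := QuotientGroup.mk_surjective k
    apply ker_gen D (B.Y j) (h1 (j : ZMod p)) (fun c hc => lam_of_reg D _ hc) _ hc
    rw [sum_Y, hs]
    have h2 : ∑ i : (ZMod p)ˣ, (if (i : Tau D) = (j : Tau D) then (if (i : ZMod p) = (j : ZMod p) then (Nat.card C : ℂ) else 0) else 0) =
        Nat.card C := by
      rw [Finset.sum_eq_single j]
      · rw [if_pos rfl, if_pos rfl]
      · intro i _ hij
        rw [if_neg (fun h => hij (Units.ext h))]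
        split_ifs <;> rfl
      · intro h; exact absurd (Finset.mem_univ _) h
    rw [h2, card_C_nat D]
    have h3 : ((charDegree (B.Y j : G → ℂ) : ℕ) : ℂ) + Nat.card (κu D).range = p := by exact_mod_cast hz
    push_cast
    linear_combination ((vc D : ℂ)) * h3

theorem cent_trivial {q b g₀ : ℕ} (h : BT D q b g₀) (B : B0 D) (c : C) (hc : D.l c = 0) : c = 1 := by
  obtain ⟨h1, h2⟩ := triv_mem_X B (t_gt h B)
  obtain ⟨k⟩ : Nonempty (Tau D) := inferInstance
  obtain ⟨-, h3⟩ := Y_cases h B k h1 h2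
  obtain ⟨K, hKn, hK⟩ := FrobThm.exists_charKer (B.Y k).2.isCharacter
  have h4 : (c : G) ∈ K := by
    rw [hK]
    exact ker_Y B k h3 hc
  haveI := h.simple
  rcases IsSimpleGroup.eq_bot_or_eq_top_of_normal K hKn with h5 | h5
  · rw [h5, Subgroup.mem_bot] at h4
    exact Subtype.ext h4
  · exfalso
    -- then the character is constant and so trivial
    have h6 : ∀ g, (B.Y k : G → ℂ) g = (B.Y k : G → ℂ) 1 := fun g => (hK g).1 (by rw [h5]; trivial)
    have h7 : classInner (B.Y k : G → ℂ) ((triv G : IrrCharacter G) : G → ℂ) = (B.Y k : G → ℂ) 1 := by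
      have h8 : (B.Y k : G → ℂ) = ((B.Y k : G → ℂ) 1) • ((triv G : IrrCharacter G) : G → ℂ) := by
        funext g
        rw [Pi.smul_apply, coe_triv, smul_eq_mul, mul_one]
        exact h6 g
      conv_lhs => rw [h8]
      rw [classInner_smul_left, irr_orthonormal, if_pos rfl, mul_one]
    have h8 : B.Y k ≠ triv G := fun h9 => B.disj k (h9 ▸ h1)
    rw [irr_orthonormal, if_neg h8] at h7
    exact (B.Y k).2.one_ne_zero h7.symm

end Cfsg.Agent.Lib.BTKer
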