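import Mathlib
import Cfsg.Agent.Lib.BTKer
import Cfsg.Agent.Lib.BlockOsima
import Cfsg.Agent.S0910

set_option autoImplicit false
set_option linter.all false

/-!
# Brauer–Tuan: intersection of the principal blocks for two primes
-/

namespace Cfsg.Agent.Lib.BTBlk

open Cfsg Cfsg.Agent.Lib.BlockRing Cfsg.Agent.Lib.BlockGA Cfsg.Agent.Lib.BlockIdem
open Cfsg.Agent.Lib.DefOneLoc Cfsg.Agent.Lib.DefOneOrd Cfsg.Agent.Lib.CharBasic Cfsg.Agent.Lib.DefOneGram
open Cfsg.Agent.Lib.DefOne Cfsg.Agent.Lib.BlockThird Cfsg.Agent.Lib.DefOnePrin Cfsg.Agent.Lib.BRB0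
open Cfsg.Agent.Lib.BRNum Cfsg.Agent.Lib.BRDeg Cfsg.Agent.Lib.BRCore Cfsg.Agent.Lib.BROne Cfsg.Agent.Lib.BRInd
open Cfsg.Agent.Lib.BTDeg Cfsg.Agent.Lib.BTKer
open scoped ComplexConjugate

universe u

variable {G : Type u} [Group G] [Fintype G] {p : ℕ} [hp : Fact p.Prime] {P N C : Subgroup G}
  {D : Loc p P N C} [Fintype C]

/-- `p`-singular elements have order `p` -/
theorem ord_eq (D : Loc p P N C) (hCP : C ≤ P) (hPc : Nat.card P = p) (hPS : ∃ Q : Sylow p G, (Q : Subgroup G) = P) {g : G}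
    (hg : p ∣ orderOf g) : orderOf g = p := by
  obtain ⟨Q, hQ⟩ := hPS
  set x := g ^ (orderOf g / p) with hx
  have hxo : orderOf x = p := orderOf_pow_orderOf_div (orderOf_pos g).ne' hg
  have hxp : IsPGroup p (Subgroup.zpowers x) := by
    rw [IsPGroup.iff_card]
    exact ⟨1, by rw [Nat.card_zpowers, hxo, pow_one]⟩
  obtain ⟨S, hS⟩ := hxp.exists_le_sylow
  obtain ⟨t, ht⟩ := MulAction.exists_smul_eq G S Q
  have h1 : t * x * t⁻¹ ∈ P := by
    rw [← hQ, ← ht, Sylow.coe_subgroup_smul, Subgroup.mem_pointwise_smul_iff_inv_smul_mem]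
    have h2 : (MulAut.conj t)⁻¹ • (t * x * t⁻¹) = x := by
      rw [← map_inv, MulAut.smul_def, MulAut.conj_apply]; group
    rw [h2]
    exact hS (Subgroup.mem_zpowers x)
  have hx1 : t * x * t⁻¹ ≠ 1 := by
    intro h2
    have h3 : x = 1 := by
      have : x = t⁻¹ * (t * x * t⁻¹) * t := by group
      rw [this, h2]; group
    rw [h3, orderOf_one] at hxo
    exact hp.out.one_lt.ne hxo
  have h2 : t * g * t⁻¹ ∈ C := by
    rw [D.comm _ _ h1 hx1]
    have h3 : Commute x g := by rw [hx]; exact (Commute.refl g).pow_left _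
    show t * x * t⁻¹ * (t * g * t⁻¹) = t * g * t⁻¹ * (t * x * t⁻¹)
    calc t * x * t⁻¹ * (t * g * t⁻¹) = t * (x * g) * t⁻¹ := by group
      _ = t * (g * x) * t⁻¹ := by rw [h3.eq]
      _ = t * g * t⁻¹ * (t * x * t⁻¹) := by group
  have h3 := hCP h2
  have h4 : orderOf (t * g * t⁻¹) = orderOf g := by
    have h5 : orderOf (MulAut.conj t g) = orderOf g := MulEquiv.orderOf_eq _ _
    rwa [MulAut.conj_apply] at h5
  have h5 : orderOf (t * g * t⁻¹) ∣ p := by
    rw [← hPc, ← Subgroup.orderOf_mk _ h3]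
    exact orderOf_dvd_natCard _
  rw [h4] at h5
  exact Nat.dvd_antisymm h5 hg

/-- a generalised character supported on `q`-regular elements: its principal `q`-block part has degree divisible by
the `q`-part of the group order -/
theorem qpart {q : ℕ} [Fact q.Prime] {M : Ideal AlgInt} (hM : IsPModular q M) (a : IrrCharacter G → ℤ)
    (hsupp : ∀ g : G, q ∣ orderOf g → ∑ χ : IrrCharacter G, (a χ : ℂ) * (χ : G → ℂ) g = 0)
    (Q : Sylow q G) :
    ((Nat.card Q : ℕ) : ℤ) ∣ ∑ᶠ χ ∈ principalBlock M G, a χ * (charDegree (χ : G → ℂ) : ℤ) := by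
  classical
  set S : Finset (IrrCharacter G) := (principalBlock M G).toFinset with hS
  -- the block part vanishes on `q`-singular elements
  have hf : ∀ y : G, q ∣ orderOf y → ∑ χ ∈ S, (a χ : ℂ) * (χ : G → ℂ) y = 0 := by
    intro y hy
    set Θ : G → ℂ := ∑ χ : IrrCharacter G, (a χ : ℂ) • (χ : G → ℂ) with hΘ
    have hΘv : ∀ g, Θ g = ∑ χ : IrrCharacter G, (a χ : ℂ) * (χ : G → ℂ) g := by
      intro g; rw [hΘ, Finset.sum_apply]; rfl
    set H : G → ℂ := ∑ χ ∈ S, (conj ((χ : G → ℂ) y)) • (χ : G → ℂ) with hH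
    have hH0 : ∀ g, ¬ q ∣ orderOf g → H g = 0 := by
      intro g hg
      have h1 := BlockOsima.weak_orthogonality hM isPBlock_principal (B := principalBlock M G) hg hy
      rw [finsum_mem_eq_finite_toFinset_sum _ (Set.toFinite _)] at h1
      rw [hH, Finset.sum_apply, ← h1]
      refine Finset.sum_congr (by ext; simp [hS]) fun χ _ => ?_
      rw [Pi.smul_apply, smul_eq_mul, mul_comm]
    have h1 : classInner Θ H = 0 := by
      rw [classInner_def]
      apply mul_eq_zero_of_right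
      apply Finset.sum_eq_zero
      intro g _
      by_cases hg : q ∣ orderOf g
      · rw [hΘv, hsupp g hg, zero_mul]
      · rw [hH0 g hg, map_zero, mul_zero]
    have h2 : ∀ χ : IrrCharacter G, classInner Θ (χ : G → ℂ) = a χ := by
      intro χ
      rw [hΘ, classInner_sum_left, Finset.sum_eq_single χ]
      · rw [classInner_smul_left, irr_orthonormal, if_pos rfl, mul_one]
      · intro ξ _ hξ
        rw [classInner_smul_left, irr_orthonormal, if_neg hξ, mul_zero]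
      · intro h; exact absurd (Finset.mem_univ _) h
    rw [hH, classInner_sum_right] at h1
    rw [← h1]
    refine Finset.sum_congr rfl fun χ _ => ?_
    rw [classInner_smul_right, h2, Complex.conj_conj]
    ring
  -- sum over `Q`
  letI : Fintype Q := Fintype.ofFinite _
  have hn : ∀ χ : IrrCharacter G, ∃ n : ℕ, ∑ y : Q, (χ : G → ℂ) y = (Nat.card Q : ℂ) * n := by
    intro χ
    obtain ⟨n, hn⟩ := (χ.2.isCharacter.restrict (Q : Subgroup G)).classInner_nat (triv (Q : Subgroup G)).2.isCharacter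
    refine ⟨n, ?_⟩
    rw [← hn, classInner_def, ← mul_assoc, mul_inv_cancel₀ (by exact_mod_cast Nat.card_pos.ne'), one_mul]
    refine Finset.sum_congr rfl fun y _ => ?_
    rw [coe_triv, map_one, mul_one]
  choose n hn using hn
  have h1 : ∑ y : Q, ∑ χ ∈ S, (a χ : ℂ) * (χ : G → ℂ) y = ∑ χ ∈ S, (a χ : ℂ) * (charDegree (χ : G → ℂ) : ℂ) := by
    rw [Finset.sum_eq_single 1]
    · refine Finset.sum_congr rfl fun χ _ => ?_
      rw [BlockDeg.charDegree_cast_irr]; rfl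
    · intro y _ hy
      apply hf
      obtain ⟨k, hk⟩ := IsPGroup.iff_orderOf.1 Q.isPGroup' y
      rw [Subgroup.orderOf_coe, hk]
      have hk0 : k ≠ 0 := by
        rintro rfl
        rw [pow_zero, orderOf_eq_one_iff] at hk
        exact hy hk
      exact dvd_pow_self q hk0
    · intro h; exact absurd (Finset.mem_univ _) h
  rw [Finset.sum_comm, Finset.sum_congr rfl (fun χ _ => by rw [← Finset.mul_sum, hn χ])] at h1
  rw [finsum_mem_eq_finite_toFinset_sum _ (Set.toFinite _)]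
  have h2 : ∑ χ ∈ (Set.toFinite (principalBlock M G)).toFinset, a χ * (charDegree (χ : G → ℂ) : ℤ) =
      ∑ χ ∈ S, a χ * (charDegree (χ : G → ℂ) : ℤ) := Finset.sum_congr (by ext; simp [hS]) fun _ _ => rfl
  rw [h2]
  refine ⟨∑ χ ∈ S, a χ * n χ, ?_⟩
  have h3 : ((∑ χ ∈ S, a χ * (charDegree (χ : G → ℂ) : ℤ) : ℤ) : ℂ) = (((Nat.card Q : ℤ) * ∑ χ ∈ S, a χ * n χ : ℤ) : ℂ) := by
    push_cast
    rw [← h1, Finset.mul_sum]
    exact Finset.sum_congr rfl fun χ _ => by ring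
  exact_mod_cast h3

theorem sylow_dvd {q b g₀ : ℕ} (h : BT D q b g₀) [Fact q.Prime] (Q : Sylow q G) : q ^ b ∣ Nat.card Q := by
  have h1 : Nat.card Q * (Q : Subgroup G).index = p * q ^ b * g₀ := by
    rw [← h.card]; exact Subgroup.card_mul_index _
  have h2 : ¬ q ∣ (Q : Subgroup G).index := Q.not_dvd_index
  have h3 : q ^ b ∣ Nat.card Q * (Q : Subgroup G).index := by
    rw [h1]; exact ⟨p * g₀, by ring⟩
  exact (Nat.Coprime.pow_left _ (h.hq.coprime_iff_not_dvd.2 h2)).dvd_of_dvd_mul_right h3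

theorem sum_aux {ι : Type*} [DecidableEq ι] (X : Finset ι) (y : ι) (hy : y ∉ X) (a : ι → ℤ)
    (ha0 : ∀ χ, χ ∉ insert y X → a χ = 0) (S : Finset ι) (f : ι → ℤ) :
    ∑ χ ∈ S, a χ * f χ = ∑ χ ∈ X.filter (· ∈ S), a χ * f χ + (if y ∈ S then a y * f y else 0) := by
  have e1 : ∑ χ ∈ S, a χ * f χ = ∑ χ ∈ (insert y X).filter (· ∈ S), a χ * f χ := by
    symm
    apply Finset.sum_subset
    · intro χ hχ; exact (Finset.mem_filter.1 hχ).2
    · intro χ hχ h2
      rw [Finset.mem_filter, not_and'] at h2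
      rw [ha0 χ (h2 hχ), zero_mul]
  rw [e1, Finset.filter_insert]
  by_cases h3 : y ∈ S
  · rw [if_pos h3, if_pos h3, Finset.sum_insert (by rw [Finset.mem_filter]; exact fun h4 => hy h4.1)]
    ring
  · rw [if_neg h3, if_neg h3, add_zero]

theorem exists_W {q b g₀ : ℕ} (h : BT D q b g₀) (B : B0 D) (hCP : C ≤ P) (hPS : ∃ Q : Sylow p G, (Q : Subgroup G) = P)
    {χ₁ : IrrCharacter G} (hχ₁ : χ₁ ∈ B.X) (hne : χ₁ ≠ triv G) {j : ℕ} (hj : charDegree (χ₁ : G → ℂ) = q ^ j) :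
    ∃ W ⊆ B.X, triv G ∉ W ∧ χ₁ ∈ W ∧ ((q ^ b : ℕ) : ℤ) ∣ ∑ χ ∈ W, B.δ χ * (charDegree (χ : G → ℂ) : ℤ) := by
  classical
  haveI : Fact q.Prime := ⟨h.hq⟩
  haveI := h.simple
  obtain ⟨M, hM⟩ := H76Char.exists_isPModular q
  haveI hMP := isPrime hM
  obtain ⟨k⟩ : Nonempty (Tau D) := inferInstance
  obtain ⟨h1, h2⟩ := triv_mem_X B (t_gt h B)
  obtain ⟨Q⟩ : Nonempty (Sylow q G) := inferInstance
  obtain ⟨a, haX, haY, ha0⟩ : ∃ a : IrrCharacter G → ℤ, (∀ χ ∈ B.X, a χ = B.δ χ) ∧ a (B.Y k) = - B.s ∧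
      ∀ χ, χ ∉ insert (B.Y k) B.X → a χ = 0 := by
    refine ⟨fun χ => if χ ∈ B.X then B.δ χ else if χ = B.Y k then - B.s else 0, fun χ hχ => if_pos hχ, ?_, ?_⟩
    · beta_reduce
      rw [if_neg (B.disj k), if_pos rfl]
    · intro χ hχ
      rw [Finset.mem_insert, not_or] at hχ
      beta_reduce
      rw [if_neg hχ.2, if_neg hχ.1]
  have hsumR : ∀ (S : Finset (IrrCharacter G)) (f : IrrCharacter G → ℤ), ∑ χ ∈ S, a χ * f χ =
      ∑ χ ∈ B.X.filter (· ∈ S), B.δ χ * f χ - (if B.Y k ∈ S then B.s * f (B.Y k) else 0) := by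
    intro S f
    rw [sum_aux B.X (B.Y k) (B.disj k) a ha0 S f,
      Finset.sum_congr rfl (fun χ hχ => by rw [haX χ (Finset.mem_filter.1 hχ).1])]
    by_cases h3 : B.Y k ∈ S
    · rw [if_pos h3, if_pos h3, haY]; ring
    · rw [if_neg h3, if_neg h3]; ring
  have hsupp : ∀ g : G, q ∣ orderOf g → ∑ χ : IrrCharacter G, (a χ : ℂ) * (χ : G → ℂ) g = 0 := by
    intro g hg
    have hgp : ¬ p ∣ orderOf g := by
      intro h3
      have h4 := ord_eq D hCP h.hP hPS h3
      rw [h4] at hg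
      exact h.hpq ((Nat.prime_dvd_prime_iff_eq h.hq hp.out).1 hg).symm
    have h3 := B.rel k g hgp
    rw [← Finset.sum_subset (Finset.subset_univ (insert (B.Y k) B.X))]
    · rw [Finset.sum_insert (B.disj k), haY, Finset.sum_congr rfl (fun χ hχ => by rw [haX χ hχ]), ← h3]
      push_cast; ring
    · intro χ _ hχ
      rw [ha0 χ hχ]; simp
  have h3 := qpart hM a hsupp Q
  have h4 : ((q ^ b : ℕ) : ℤ) ∣ ∑ᶠ χ ∈ principalBlock M G, a χ * (charDegree (χ : G → ℂ) : ℤ) :=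
    (Int.natCast_dvd_natCast.2 (sylow_dvd h Q)).trans h3
  set S : Finset (IrrCharacter G) := (principalBlock M G).toFinset with hS
  have h5 : ∑ᶠ χ ∈ principalBlock M G, a χ * (charDegree (χ : G → ℂ) : ℤ) = ∑ χ ∈ S, a χ * (charDegree (χ : G → ℂ) : ℤ) := by
    rw [finsum_mem_eq_finite_toFinset_sum _ (Set.toFinite _)]
    exact Finset.sum_congr (by ext; simp [hS]) fun _ _ => rfl
  rw [h5, hsumR] at h4
  have htrivS : triv G ∈ S := by
    rw [hS, Set.mem_toFinset]
    have h6 := mem_blockOf_self (M := M) (triv G)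
    rw [coe_triv] at h6
    exact h6
  have hYS : B.Y k ∈ S := by
    by_contra hcon
    rw [if_neg hcon, sub_zero] at h4
    have h6 : triv G ∈ B.X.filter (· ∈ S) := Finset.mem_filter.2 ⟨h1, htrivS⟩
    rw [← Finset.add_sum_erase _ _ h6, h2, deg_triv] at h4
    have h7 : (q : ℤ) ∣ ∑ χ ∈ (B.X.filter (· ∈ S)).erase (triv G), B.δ χ * (charDegree (χ : G → ℂ) : ℤ) := by
      apply Finset.dvd_sum
      intro χ hχ
      apply Dvd.dvd.mul_left
      exact_mod_cast X_dvd h B (Finset.mem_filter.1 (Finset.mem_of_mem_erase hχ)).1 (Finset.ne_of_mem_erase hχ)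
    have h8 : (q : ℤ) ∣ ((q ^ b : ℕ) : ℤ) := by
      exact_mod_cast dvd_pow_self q h.hb.ne'
    have h9 := (dvd_add_left h7).1 (h8.trans h4)
    have h10 : q ∣ 1 := by exact_mod_cast h9
    exact h.hq.one_lt.ne' (Nat.dvd_one.1 h10)
  rw [if_pos hYS, rel_deg B k] at h4
  refine ⟨B.X.filter (· ∉ S), Finset.filter_subset _ _, ?_, ?_, ?_⟩
  · rw [Finset.mem_filter]; exact fun h6 => h6.2 htrivS
  · rw [Finset.mem_filter]
    refine ⟨hχ₁, ?_⟩
    intro h6
    rw [hS, Set.mem_toFinset] at h6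
    apply hne
    apply Subtype.ext
    have hna : ∃ a b : G, a * b ≠ b * a := by
      by_contra hcon
      push Not at hcon
      have h7 : commutator G = ⊥ := (commutator_eq_bot_iff G).2 (isMulCommutative_iff.2 hcon)
      rw [h.perf] at h7
      have h8 : Nat.card (⊤ : Subgroup G) = 1 := by rw [h7]; exact Subgroup.card_bot
      rw [Subgroup.card_top] at h8
      haveI := Finite.card_le_one_iff_subsingleton.1 h8.le
      exact not_nontrivial G inferInstance
    exact Cfsg.Agent.S0910.result q M hM hna χ₁ h6 j (by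
      rw [← BlockDeg.charDegree_cast_irr, hj]; push_cast; rfl)
  · have h6 : ∑ χ ∈ B.X.filter (· ∉ S), B.δ χ * (charDegree (χ : G → ℂ) : ℤ) =
        -(∑ χ ∈ B.X.filter (· ∈ S), B.δ χ * (charDegree (χ : G → ℂ) : ℤ) -
          ∑ χ ∈ B.X, B.δ χ * (charDegree (χ : G → ℂ) : ℤ)) := by
      rw [← Finset.sum_filter_add_sum_filter_not B.X (· ∈ S)]
      ring
    rw [h6, dvd_neg]
    exact h4

end Cfsg.Agent.Lib.BTBlk
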