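import Mathlib
import Cfsg.Agent.Lib.BTBlk

set_option autoImplicit false
set_option linter.all false

/-!
# Brauer–Tuan: bounds for the degrees
-/

namespace Cfsg.Agent.Lib.BTBd

open Cfsg Cfsg.Agent.Lib.BlockRing Cfsg.Agent.Lib.BlockGA Cfsg.Agent.Lib.BlockIdem
open Cfsg.Agent.Lib.DefOneLoc Cfsg.Agent.Lib.DefOneOrd Cfsg.Agent.Lib.CharBasic Cfsg.Agent.Lib.DefOneGram
open Cfsg.Agent.Lib.DefOne Cfsg.Agent.Lib.BlockThird Cfsg.Agent.Lib.DefOnePrin Cfsg.Agent.Lib.BRB0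
open Cfsg.Agent.Lib.BRNum Cfsg.Agent.Lib.BRDeg Cfsg.Agent.Lib.BRCore Cfsg.Agent.Lib.BROne Cfsg.Agent.Lib.BRInd
open Cfsg.Agent.Lib.BTDeg Cfsg.Agent.Lib.BTKer Cfsg.Agent.Lib.BTBlk
open scoped ComplexConjugate

universe u

variable {G : Type u} [Group G] [Fintype G] {p : ℕ} [hp : Fact p.Prime] {P N C : Subgroup G}
  {D : Loc p P N C} [Fintype C]

theorem conj_to_C (D : Loc p P N C) (hPS : ∃ Q : Sylow p G, (Q : Subgroup G) = P) {g : G}
    (hg : p ∣ orderOf g) : ∃ (t : G) (ht : t * g * t⁻¹ ∈ C), D.l ⟨t * g * t⁻¹, ht⟩ ≠ 0 := by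
  obtain ⟨Q, hQ⟩ := hPS
  set x := g ^ (orderOf g / p) with hx
  have hxo : orderOf x = p := orderOf_pow_orderOf_div (orderOf_pos g).ne' hg
  have hxp : IsPGroup p (Subgroup.zpowers x) := by
    rw [IsPGroup.iff_card]
    exact ⟨1, by rw [Nat.card_zpowers, hxo, pow_one]⟩
  obtain ⟨S, hS⟩ := hxp.exists_le_sylow
  obtain ⟨t, ht⟩ := MulAction.exists_smul_eq G S Q
  have h1 : t * x * t⁻¹ ∈ P := by
    rw [← hQ, ← ht, Sylow.coe_subgroup_smul, Subgroup.mem_pointwise_smul_iff_inv_smul_mem]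
    have h2 : (MulAut.conj t)⁻¹ • (t * x * t⁻¹) = x := by
      rw [← map_inv, MulAut.smul_def, MulAut.conj_apply]; group
    rw [h2]
    exact hS (Subgroup.mem_zpowers x)
  have hx1 : t * x * t⁻¹ ≠ 1 := by
    intro h2
    have h3 : x = 1 := by
      have : x = t⁻¹ * (t * x * t⁻¹) * t := by group
      rw [this, h2]; group
    rw [h3, orderOf_one] at hxo
    exact hp.out.one_lt.ne hxo
  have h2 : t * g * t⁻¹ ∈ C := by
    rw [D.comm _ _ h1 hx1]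
    have h3 : Commute x g := by rw [hx]; exact (Commute.refl g).pow_left _
    show t * x * t⁻¹ * (t * g * t⁻¹) = t * g * t⁻¹ * (t * x * t⁻¹)
    calc t * x * t⁻¹ * (t * g * t⁻¹) = t * (x * g) * t⁻¹ := by group
      _ = t * (g * x) * t⁻¹ := by rw [h3.eq]
      _ = t * g * t⁻¹ * (t * x * t⁻¹) := by group
  have h4 : orderOf (t * g * t⁻¹) = orderOf g := by
    have h5 : orderOf (MulAut.conj t g) = orderOf g := MulEquiv.orderOf_eq _ _
    rwa [MulAut.conj_apply] at h5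
  refine ⟨t, h2, fun h5 => ?_⟩
  have h6 := (D.l_reg _).1 h5
  apply h6
  show p ∣ orderOf (t * g * t⁻¹)
  rw [h4]; exact hg

theorem val_sing (B : B0 D) (hPS : ∃ Q : Sylow p G, (Q : Subgroup G) = P) {χ : IrrCharacter G} (hχ : χ ∈ B.X)
    {g : G} (hg : p ∣ orderOf g) : (χ : G → ℂ) g = B.δ χ := by
  obtain ⟨t, ht, h1⟩ := conj_to_C D hPS hg
  have h2 := B.valX χ hχ _ h1
  rw [← h2]
  exact (χ.2.isClassFunction g t).symm

theorem inner_diff (B : B0 D) (hPS : ∃ Q : Sylow p G, (Q : Subgroup G) = P) {χ : IrrCharacter G} (hχ : χ ∈ B.X)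
    {k k' : Tau D} (hk : k ≠ k') :
    classInner (fun g => (B.Y k : G → ℂ) g * conj ((B.Y k : G → ℂ) g)) (χ : G → ℂ) -
      classInner (fun g => (B.Y k : G → ℂ) g * conj ((B.Y k' : G → ℂ) g)) (χ : G → ℂ) = B.δ χ := by
  have hs2 : (B.s : ℂ) ≠ 0 := by
    rcases B.s_pm with h | h <;> rw [h] <;> norm_num
  have h1 : ∀ g : G, (B.Y k : G → ℂ) g * conj ((B.Y k : G → ℂ) g) * conj ((χ : G → ℂ) g) -
      (B.Y k : G → ℂ) g * conj ((B.Y k' : G → ℂ) g) * conj ((χ : G → ℂ) g) =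
      B.δ χ * ((B.Y k : G → ℂ) g * conj ((B.Y k : G → ℂ) g)) -
      B.δ χ * ((B.Y k : G → ℂ) g * conj ((B.Y k' : G → ℂ) g)) := by
    intro g
    by_cases hg : p ∣ orderOf g
    · rw [val_sing B hPS hχ hg]
      have h2 : conj ((B.δ χ : ℤ) : ℂ) = (B.δ χ : ℂ) := map_intCast _ _
      rw [h2]; ring
    · have h2 := B.rel k g hg
      have h3 := B.rel k' g hg
      have h4 : (B.Y k : G → ℂ) g = (B.Y k' : G → ℂ) g := mul_left_cancel₀ hs2 (h2.trans h3.symm)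
      rw [h4]; ring
  have h2 : classInner (B.Y k : G → ℂ) (B.Y k : G → ℂ) = 1 := by rw [irr_orthonormal, if_pos rfl]
  have h3 : classInner (B.Y k : G → ℂ) (B.Y k' : G → ℂ) = 0 := by
    rw [irr_orthonormal, if_neg (fun h => hk (B.Yinj h))]
  have h4 : (B.δ χ : ℂ) = B.δ χ * classInner (B.Y k : G → ℂ) (B.Y k : G → ℂ) -
      B.δ χ * classInner (B.Y k : G → ℂ) (B.Y k' : G → ℂ) := by
    rw [h2, h3]; ring
  rw [h4, classInner_def, classInner_def, classInner_def, classInner_def, ← mul_sub, ← Finset.sum_sub_distrib,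
    Finset.sum_congr rfl (fun g _ => h1 g), Finset.sum_sub_distrib, ← Finset.mul_sum, ← Finset.mul_sum]
  ring

theorem deg_Y_eq (B : B0 D) (k k' : Tau D) : charDegree (B.Y k : G → ℂ) = charDegree (B.Y k' : G → ℂ) := by
  have h1 := rel_deg B k
  have h2 := rel_deg B k'
  rw [← h2] at h1
  have h3 : B.s ≠ 0 := by
    rcases B.s_pm with h | h <;> rw [h] <;> norm_num
  have h4 := mul_left_cancel₀ h3 h1
  exact_mod_cast h4

theorem prod_char (B : B0 D) (k k' : Tau D) :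
    IsCharacter G (fun g => (B.Y k : G → ℂ) g * conj ((B.Y k' : G → ℂ) g)) :=
  (B.Y k).2.isCharacter.mul (B.Y k').2.isCharacter.conj

theorem prod_deg (B : B0 D) (k k' : Tau D) :
    (fun g => (B.Y k : G → ℂ) g * conj ((B.Y k' : G → ℂ) g)) 1 = ((charDegree (B.Y k : G → ℂ) ^ 2 : ℕ) : ℂ) := by
  beta_reduce
  rw [← BlockDeg.charDegree_cast_irr, ← BlockDeg.charDegree_cast_irr, deg_Y_eq B k' k, Complex.conj_natCast]
  push_cast; ring

/-- the members of `X` with positive sign -/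
theorem pos_le (B : B0 D) (hPS : ∃ Q : Sylow p G, (Q : Subgroup G) = P) (ht : 1 < Nat.card (Tau D)) (k : Tau D)
    (W : Finset (IrrCharacter G)) (hW : ∀ χ ∈ W, χ ∈ B.X ∧ B.δ χ = 1) :
    ∑ χ ∈ W, charDegree (χ : G → ℂ) ≤ charDegree (B.Y k : G → ℂ) ^ 2 := by
  have : Nontrivial (Tau D) := Finite.one_lt_card_iff_nontrivial.1 ht
  obtain ⟨k', hk'⟩ := exists_ne k
  refine le_trans (Finset.sum_le_sum fun χ hχ => ?_) (degree_le (prod_char B k k) (prod_deg B k k) W)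
  apply Nat.le_mul_of_pos_left
  have h1 := inner_diff B hPS (hW χ hχ).1 hk'.symm
  rw [mlt_spec (prod_char B k k), mlt_spec (prod_char B k k'), (hW χ hχ).2] at h1
  have h2 : (mlt (fun g => (B.Y k : G → ℂ) g * conj ((B.Y k : G → ℂ) g)) χ : ℤ) =
      mlt (fun g => (B.Y k : G → ℂ) g * conj ((B.Y k' : G → ℂ) g)) χ + 1 := by
    have h3 : ((mlt (fun g => (B.Y k : G → ℂ) g * conj ((B.Y k : G → ℂ) g)) χ : ℤ) : ℂ) =
      ((mlt (fun g => (B.Y k : G → ℂ) g * conj ((B.Y k' : G → ℂ) g)) χ + 1 : ℤ) : ℂ) := by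
      push_cast
      push_cast at h1
      linear_combination h1
    exact_mod_cast h3
  omega

/-- the members of `X` with negative sign -/
theorem neg_le (B : B0 D) (hPS : ∃ Q : Sylow p G, (Q : Subgroup G) = P) (ht : 1 < Nat.card (Tau D)) (k : Tau D)
    (W : Finset (IrrCharacter G)) (hW : ∀ χ ∈ W, χ ∈ B.X ∧ B.δ χ = -1) :
    ∑ χ ∈ W, charDegree (χ : G → ℂ) ≤ charDegree (B.Y k : G → ℂ) ^ 2 := by
  have : Nontrivial (Tau D) := Finite.one_lt_card_iff_nontrivial.1 ht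
  obtain ⟨k', hk'⟩ := exists_ne k
  refine le_trans (Finset.sum_le_sum fun χ hχ => ?_) (degree_le (prod_char B k k') (prod_deg B k k') W)
  apply Nat.le_mul_of_pos_left
  have h1 := inner_diff B hPS (hW χ hχ).1 hk'.symm
  rw [mlt_spec (prod_char B k k), mlt_spec (prod_char B k k'), (hW χ hχ).2] at h1
  have h2 : (mlt (fun g => (B.Y k : G → ℂ) g * conj ((B.Y k' : G → ℂ) g)) χ : ℤ) =
      mlt (fun g => (B.Y k : G → ℂ) g * conj ((B.Y k : G → ℂ) g)) χ + 1 := by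
    have h3 : ((mlt (fun g => (B.Y k : G → ℂ) g * conj ((B.Y k' : G → ℂ) g)) χ : ℤ) : ℂ) =
      ((mlt (fun g => (B.Y k : G → ℂ) g * conj ((B.Y k : G → ℂ) g)) χ + 1 : ℤ) : ℂ) := by
      push_cast
      push_cast at h1
      linear_combination -h1
    exact_mod_cast h3
  omega

theorem deg_le_sq (B : B0 D) (hPS : ∃ Q : Sylow p G, (Q : Subgroup G) = P) (ht : 1 < Nat.card (Tau D)) (k : Tau D)
    {χ : IrrCharacter G} (hχ : χ ∈ B.X) : charDegree (χ : G → ℂ) ≤ charDegree (B.Y k : G → ℂ) ^ 2 := by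
  rcases B.δ_pm χ hχ with h | h
  · have h1 := pos_le B hPS ht k {χ} (by intro ξ hξ; rw [Finset.mem_singleton] at hξ; subst hξ; exact ⟨hχ, h⟩)
    rwa [Finset.sum_singleton] at h1
  · have h1 := neg_le B hPS ht k {χ} (by intro ξ hξ; rw [Finset.mem_singleton] at hξ; subst hξ; exact ⟨hχ, h⟩)
    rwa [Finset.sum_singleton] at h1

theorem abs_le (B : B0 D) (hPS : ∃ Q : Sylow p G, (Q : Subgroup G) = P) (ht : 1 < Nat.card (Tau D)) (k : Tau D)
    (W : Finset (IrrCharacter G)) (hW : W ⊆ B.X) :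
    |∑ χ ∈ W, B.δ χ * (charDegree (χ : G → ℂ) : ℤ)| ≤ (charDegree (B.Y k : G → ℂ) : ℤ) ^ 2 := by
  classical
  have h1 := pos_le B hPS ht k (W.filter (fun χ => B.δ χ = 1)) (fun χ hχ => by
    rw [Finset.mem_filter] at hχ; exact ⟨hW hχ.1, hχ.2⟩)
  have h2 := neg_le B hPS ht k (W.filter (fun χ => ¬ B.δ χ = 1)) (fun χ hχ => by
    rw [Finset.mem_filter] at hχ
    exact ⟨hW hχ.1, (B.δ_pm χ (hW hχ.1)).resolve_left hχ.2⟩)
  have h3 : ∑ χ ∈ W, B.δ χ * (charDegree (χ : G → ℂ) : ℤ) =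
      ∑ χ ∈ W.filter (fun χ => B.δ χ = 1), (charDegree (χ : G → ℂ) : ℤ) -
      ∑ χ ∈ W.filter (fun χ => ¬ B.δ χ = 1), (charDegree (χ : G → ℂ) : ℤ) := by
    rw [← Finset.sum_filter_add_sum_filter_not W (fun χ => B.δ χ = 1), sub_eq_add_neg, ← Finset.sum_neg_distrib]
    congr 1
    · exact Finset.sum_congr rfl fun χ hχ => by rw [(Finset.mem_filter.1 hχ).2, one_mul]
    · refine Finset.sum_congr rfl fun χ hχ => ?_
      rw [Finset.mem_filter] at hχ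
      rw [(B.δ_pm χ (hW hχ.1)).resolve_left hχ.2]; ring
  have h4 : (∑ χ ∈ W.filter (fun χ => B.δ χ = 1), (charDegree (χ : G → ℂ) : ℤ)) ≤ (charDegree (B.Y k : G → ℂ) : ℤ) ^ 2 := by
    exact_mod_cast h1
  have h5 : (∑ χ ∈ W.filter (fun χ => ¬ B.δ χ = 1), (charDegree (χ : G → ℂ) : ℤ)) ≤ (charDegree (B.Y k : G → ℂ) : ℤ) ^ 2 := by
    exact_mod_cast h2
  have h6 : (0 : ℤ) ≤ ∑ χ ∈ W.filter (fun χ => B.δ χ = 1), (charDegree (χ : G → ℂ) : ℤ) :=
    Finset.sum_nonneg fun _ _ => by positivity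
  have h7 : (0 : ℤ) ≤ ∑ χ ∈ W.filter (fun χ => ¬ B.δ χ = 1), (charDegree (χ : G → ℂ) : ℤ) :=
    Finset.sum_nonneg fun _ _ => by positivity
  rw [h3, _root_.abs_le]
  constructor <;> linarith

theorem sum_ne_zero (B : B0 D) (W : Finset (IrrCharacter G)) (hW : W ⊆ B.X) (hne : W.Nonempty) :
    ∑ χ ∈ W, B.δ χ * (charDegree (χ : G → ℂ) : ℤ) ≠ 0 := by
  classical
  intro h0
  have h1 : (p : ℤ) ∣ ∑ χ ∈ W, (B.δ χ * (charDegree (χ : G → ℂ) : ℤ) - 1) := by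
    apply Finset.dvd_sum
    intro χ hχ
    obtain ⟨k, hk⟩ := B.degX χ (hW hχ)
    rw [hk]
    rcases B.δ_pm χ (hW hχ) with h2 | h2 <;> rw [h2]
    · exact ⟨k, by ring⟩
    · exact ⟨-k, by ring⟩
  rw [Finset.sum_sub_distrib, h0, zero_sub, dvd_neg, Finset.sum_const, nsmul_eq_mul, mul_one] at h1
  have h2 : p ∣ W.card := by exact_mod_cast h1
  have h3 := Nat.le_of_dvd hne.card_pos h2
  have h4 := Finset.card_le_card hW
  rw [B.cardX] at h4
  have := e_lt D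
  omega

theorem qb_le {q b g₀ : ℕ} (h : BT D q b g₀) (B : B0 D) (hPS : ∃ Q : Sylow p G, (Q : Subgroup G) = P) (k : Tau D)
    {χ₁ : IrrCharacter G} (hχ₁ : χ₁ ∈ B.X) (hne : χ₁ ≠ triv G) {j : ℕ} (hj : charDegree (χ₁ : G → ℂ) = q ^ j) :
    q ^ b ≤ charDegree (B.Y k : G → ℂ) ^ 2 := by
  obtain ⟨W, hW, -, hW1, hdvd⟩ := exists_W h B (le_P D (cent_trivial h B)) hPS hχ₁ hne hj
  have h1 := Int.le_of_dvd (abs_pos.2 (sum_ne_zero B W hW ⟨χ₁, hW1⟩)) ((dvd_abs _ _).2 hdvd)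
  have h2 := h1.trans (abs_le B hPS (t_gt h B) k W hW)
  exact_mod_cast h2

end Cfsg.Agent.Lib.BTBd
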