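import Mathlib
import Cfsg.Agent.Lib.BTBd

set_option autoImplicit false
set_option linter.all false

/-!
# Brauer–Tuan: positive exceptional sign
-/

namespace Cfsg.Agent.Lib.BTPos

open Cfsg Cfsg.Agent.Lib.BlockRing Cfsg.Agent.Lib.BlockGA Cfsg.Agent.Lib.BlockIdem
open Cfsg.Agent.Lib.DefOneLoc Cfsg.Agent.Lib.DefOneOrd Cfsg.Agent.Lib.CharBasic Cfsg.Agent.Lib.DefOneGram
open Cfsg.Agent.Lib.DefOne Cfsg.Agent.Lib.BlockThird Cfsg.Agent.Lib.DefOnePrin Cfsg.Agent.Lib.BRB0
open Cfsg.Agent.Lib.BRNum Cfsg.Agent.Lib.BRDeg Cfsg.Agent.Lib.BRCore Cfsg.Agent.Lib.BROne Cfsg.Agent.Lib.BRInd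
open Cfsg.Agent.Lib.BTDeg Cfsg.Agent.Lib.BTKer Cfsg.Agent.Lib.BTBlk Cfsg.Agent.Lib.BTBd
open scoped ComplexConjugate

universe u

variable {G : Type u} [Group G] [Fintype G] {p : ℕ} [hp : Fact p.Prime] {P N C : Subgroup G}
  {D : Loc p P N C} [Fintype C]

theorem deg_Xp' (hperf : commutator G = ⊤) (B : B0 D) {χ : IrrCharacter G} (hχ : χ ∈ Xp B) :
    p + 1 ≤ charDegree (χ : G → ℂ) := by
  classical
  rw [Xp, Finset.mem_filter] at hχ
  obtain ⟨k, hk⟩ := B.degX χ hχ.1
  rw [hχ.2.2] at hk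
  have h0 := BlockDeg.charDegree_pos χ.2
  have h1 : charDegree (χ : G → ℂ) ≠ 1 := fun h2 => hχ.2.1 (eq_triv_of_deg hperf h2)
  have hpz : (0 : ℤ) < p := by exact_mod_cast hp.out.pos
  have h2 : 0 < k := by
    by_contra h3
    push Not at h3
    have h4 : k * (p : ℤ) ≤ 0 := mul_nonpos_of_nonpos_of_nonneg h3 hpz.le
    omega
  have h3 : 1 * (p : ℤ) ≤ k * p := mul_le_mul_of_nonneg_right (by omega) hpz.le
  omega

theorem deg_Xm' (B : B0 D) {χ : IrrCharacter G} (hχ : χ ∈ Xm B) :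
    p - 1 ≤ charDegree (χ : G → ℂ) := by
  classical
  rw [Xm, Finset.mem_filter] at hχ
  obtain ⟨k, hk⟩ := B.degX χ hχ.1
  rw [hχ.2] at hk
  have h0 := BlockDeg.charDegree_pos χ.2
  have hpz : (0 : ℤ) < p := by exact_mod_cast hp.out.pos
  have h2 : 0 < k := by
    by_contra h3
    push Not at h3
    have h4 : k * (p : ℤ) ≤ 0 := mul_nonpos_of_nonpos_of_nonneg h3 hpz.le
    omega
  have h3 : 1 * (p : ℤ) ≤ k * p := mul_le_mul_of_nonneg_right (by omega) hpz.le
  omega

/-- the two inequalities for the constituents of `θ θ̄` -/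
theorem ineqs (B : B0 D) (ht : 1 < Nat.card (Tau D)) (hs : B.s = 1) (hC : ∀ c : C, D.l c = 0 → c = 1) (q : Tau D)
    (hz : charDegree (B.Y q : G → ℂ) = Nat.card (κu D).range) :
    ∃ m : IrrCharacter G → ℕ, m (triv G) = 1 ∧
      (∑ χ : IrrCharacter G, m χ * charDegree (χ : G → ℂ) = Nat.card (κu D).range * Nat.card (κu D).range) ∧
      (Nat.card (κu D).range : ℤ) * (p - Nat.card (κu D).range) ≤
        (p - 1) * (1 + ∑ ξ ∈ Xp B, (m ξ : ℤ) - ∑ ξ ∈ Xm B, (m ξ : ℤ)) := by
  classical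
  letI : Fintype (Tau D) := Fintype.ofFinite _
  set e := Nat.card (κu D).range with he
  set t := Nat.card (Tau D) with htd
  have hpe := p_eq D
  rw [← he, ← htd] at hpe
  set θ : G → ℂ := (B.Y q : G → ℂ) with hθ
  have hθ1 : θ 1 = e := by rw [hθ, ← BlockDeg.charDegree_cast_irr, hz]
  -- the values of `θ` on `C`
  have hval : ∀ c : C, θ c = ∑ i : (ZMod p)ˣ, if (i : Tau D) = q then lam D (i : ZMod p) c else 0 := by
    intro c
    by_cases hc : D.l c = 0
    · rw [hC c hc]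
      change θ 1 = _
      rw [hθ1, he, ← card_fiber D q, Finset.card_filter]
      push_cast
      refine Finset.sum_congr rfl fun i _ => ?_
      split_ifs
      · rw [lam_one]
      · rfl
    · have h1 := B.valY q c hc
      rw [hs] at h1
      push_cast at h1
      rw [one_mul] at h1
      exact h1
  have hcardC : Nat.card C = p := by
    have h1 := card_C_nat D
    have h2 : vc D = 1 := by
      rw [vc, Finset.card_eq_one]
      refine ⟨1, ?_⟩
      ext c
      rw [Finset.mem_filter, Finset.mem_singleton]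
      constructor
      · exact fun h3 => hC c h3.2
      · rintro rfl
        exact ⟨Finset.mem_univ _, l_one D⟩
    rw [h1, h2, mul_one]
  have hlaminn : ∀ i j : ZMod p, classInner (lam D i) (lam D j) = if i = j then 1 else 0 := by
    intro i j
    have ht : TrivOn D ((triv C : IrrCharacter C) : C → ℂ) := by
      intro x _
      rw [coe_triv]
    have h1 : ∀ i : ZMod p, lam D i = (LT D (triv C) i : C → ℂ) := by
      intro i
      funext c
      rw [LT_apply, coe_triv, one_mul]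
    rw [h1 i, h1 j, irr_orthonormal]
    have h2 : LT D (triv C) i = LT D (triv C) j ↔ i = j := by
      constructor
      · intro h3; exact (LT_inj D ht ht h3).2
      · rintro rfl; rfl
    simp only [h2]
  -- the character `θ θ̄`
  set Φ : G → ℂ := fun g => θ g * conj (θ g) with hΦ
  have hΦc : IsCharacter G Φ := by
    have h1 := (B.Y q).2.isCharacter
    exact h1.mul h1.conj
  have hΦ1 : Φ 1 = ((e * e : ℕ) : ℂ) := by
    rw [hΦ]
    beta_reduce
    rw [hθ1, Complex.conj_natCast]; push_cast; rfl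
  have hmtriv : mlt Φ (triv G) = 1 := by
    have h1 : classInner Φ ((triv G : IrrCharacter G) : G → ℂ) = 1 := by
      have h2 := irr_orthonormal (B.Y q) (B.Y q)
      rw [if_pos rfl] at h2
      rw [← h2, classInner_def, classInner_def]
      congr 1
      refine Finset.sum_congr rfl fun g _ => ?_
      rw [coe_triv, map_one, mul_one]
    rw [mlt_spec hΦc] at h1
    exact_mod_cast h1
  -- the inner product with the trivial character on `C`
  have hfix : classInner (rs C Φ) ((triv C : IrrCharacter C) : C → ℂ) = e := by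
    have h1 : classInner (rs C Φ) ((triv C : IrrCharacter C) : C → ℂ) = classInner (rs C θ) (rs C θ) := by
      rw [classInner_def, classInner_def]
      congr 1
      refine Finset.sum_congr rfl fun c _ => ?_
      rw [coe_triv, map_one, mul_one]
      rfl
    have h2 : rs C θ = ∑ i : (ZMod p)ˣ, if (i : Tau D) = q then lam D (i : ZMod p) else 0 := by
      funext c
      rw [Finset.sum_apply]
      change θ c = _
      rw [hval]
      refine Finset.sum_congr rfl fun i _ => ?_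
      split_ifs <;> rfl
    rw [h1, h2, classInner_sum_left]
    have h3 : ∀ i : (ZMod p)ˣ, classInner (if (i : Tau D) = q then lam D (i : ZMod p) else 0)
        (∑ j : (ZMod p)ˣ, if (j : Tau D) = q then lam D (j : ZMod p) else 0) = if (i : Tau D) = q then 1 else 0 := by
      intro i
      rw [classInner_sum_right]
      by_cases hi : (i : Tau D) = q
      · rw [if_pos hi, if_pos hi, Finset.sum_eq_single i]
        · rw [if_pos hi, hlaminn, if_pos rfl]
        · intro j _ hj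
          split_ifs
          · rw [hlaminn, if_neg (fun h4 => hj (Units.ext h4.symm))]
          · rw [classInner_zero_right]
        · intro h4; exact absurd (Finset.mem_univ _) h4
      · rw [if_neg hi, if_neg hi]
        apply Finset.sum_eq_zero
        intro j _
        rw [classInner_zero_left]
    rw [Finset.sum_congr rfl (fun i _ => h3 i), ← Finset.sum_filter, Finset.sum_const, nsmul_eq_mul, mul_one, card_fiber D q]
  -- sum of the differences
  have hdsum : ∑ i : (ZMod p)ˣ, dm D Φ (triv C) i = ((e * e : ℕ) : ℂ) - p * e := by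
    have h1 : ∑ i : ZMod p, classInner (rs C Φ) (LT D (triv C) i : C → ℂ) = Φ 1 := by
      rw [← classInner_sum_right, classInner_def, hcardC]
      have h2 : ∀ c : C, (∑ i : ZMod p, (LT D (triv C) i : C → ℂ)) c = if c = 1 then (p : ℂ) else 0 := by
        intro c
        rw [Finset.sum_apply]
        have h3 : ∀ i : ZMod p, (LT D (triv C) i : C → ℂ) c = lam D i c := by
          intro i
          rw [LT_apply, coe_triv, one_mul]
        rw [Finset.sum_congr rfl (fun i _ => h3 i), sum_lam]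
        have h4 : D.l c = 0 ↔ c = 1 := ⟨hC c, by rintro rfl; exact l_one D⟩
        simp only [h4]
      have hp0 : (p : ℂ) ≠ 0 := by exact_mod_cast hp.out.ne_zero
      rw [Finset.sum_congr rfl (fun c _ => by rw [h2 c]), Finset.sum_eq_single 1]
      · rw [if_pos rfl, Complex.conj_natCast]
        change (p : ℂ)⁻¹ * (Φ 1 * p) = Φ 1
        field_simp
      · intro c _ hc
        rw [if_neg hc, map_zero, mul_zero]
      · intro h4; exact absurd (Finset.mem_univ _) h4
    rw [sum_zmod_units] at h1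
    have h2 : ∀ i : (ZMod p)ˣ, dm D Φ (triv C) i = classInner (rs C Φ) (LT D (triv C) (i : ZMod p) : C → ℂ) - e := by
      intro i
      rw [dm, mu, mu, LT_zero, hfix]
    rw [Finset.sum_congr rfl (fun i _ => h2 i), Finset.sum_sub_distrib, Finset.sum_const, Finset.card_univ,
      ZMod.card_units, nsmul_eq_mul, Nat.cast_sub hp.out.one_le]
    rw [LT_zero, hfix, hΦ1] at h1
    push_cast at h1 ⊢
    linear_combination h1
  refine ⟨mlt Φ, hmtriv, degree_sum hΦc hΦ1, ?_⟩
  -- consequence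
  set S := ∑ ξ ∈ Xp B, mlt Φ ξ with hS
  have h1 : ∀ i : (ZMod p)ˣ, dm D Φ (triv C) i = ((-(1 + S - ∑ ξ ∈ Xm B, mlt Φ ξ) + mlt Φ (B.Y i) : ℤ) : ℂ) := by
    intro i
    rw [dm_expand hΦc.isClassFunction, B.sum_dm (fun χ => classInner Φ (χ : G → ℂ)), hs,
      Finset.sum_congr rfl (fun ξ _ => by rw [mlt_spec hΦc ξ]), sum_split B ht (fun ξ => (mlt Φ ξ : ℂ)),
      mlt_spec hΦc, hmtriv, hS]
    push_cast
    ring
  rw [Finset.sum_congr rfl (fun i _ => h1 i)] at hdsum
  have h2 : ∑ i : (ZMod p)ˣ, (-(1 + S - ∑ ξ ∈ Xm B, mlt Φ ξ) + mlt Φ (B.Y i) : ℤ) = (e * e : ℤ) - p * e := by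
    exact_mod_cast hdsum
  have h3 : ∑ i : (ZMod p)ˣ, (-(1 + (S : ℤ) - ∑ ξ ∈ Xm B, (mlt Φ ξ : ℤ))) ≤
      ∑ i : (ZMod p)ˣ, (-(1 + S - ∑ ξ ∈ Xm B, mlt Φ ξ) + mlt Φ (B.Y i) : ℤ) := by
    apply Finset.sum_le_sum
    intro i _
    have h5 : (0 : ℤ) ≤ mlt Φ (B.Y i) := by positivity
    push_cast
    linarith
  rw [Finset.sum_const, Finset.card_univ, ZMod.card_units, nsmul_eq_mul, Nat.cast_sub hp.out.one_le, h2] at h3
  rw [hS] at h3
  push_cast at h3
  linarith

/-- the arithmetic -/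
theorem arith {p e t : ℕ} {S R : ℤ} (hpe : p = e * t + 1) (he : 1 < e) (ht : 1 < t) (hS : 0 ≤ S) (hR : 0 ≤ R)
    (h1 : (e : ℤ) * (p - e) ≤ (p - 1) * (1 + S - R)) (h2 : 1 + (p + 1) * S + (p - 1) * R ≤ (e : ℤ) * e) :
    t = 2 ∧ R = 0 ∧ 2 * S = e - 1 := by
  have hpz : (p : ℤ) = e * t + 1 := by rw [hpe]; push_cast; ring
  have hez : (1 : ℤ) < e := by exact_mod_cast he
  have htz : (1 : ℤ) < t := by exact_mod_cast ht
  rw [hpz] at h1 h2
  have h3 : (e : ℤ) * (e * t + 1 - e) ≤ e * (t * (1 + S - R)) := by nlinarith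
  have h4 : (e * t + 1 - e : ℤ) ≤ t * (1 + S - R) := le_of_mul_le_mul_left h3 (by linarith)
  have h5 : (e - 1 : ℤ) * (t - 1) ≤ t * (S - R) := by nlinarith
  -- multiply the degree inequality by `t`
  have h6 : (t : ℤ) + (e * t + 2) * (t * S) + e * t * (t * R) ≤ t * (e * e) := by
    have := mul_le_mul_of_nonneg_left h2 (show (0 : ℤ) ≤ t by linarith)
    nlinarith
  have h7 : (t : ℤ) * S ≥ (e - 1) * (t - 1) + t * R := by nlinarith
  have h8 : (t : ℤ) + (e * t + 2) * ((e - 1) * (t - 1) + t * R) + e * t * (t * R) ≤ t * (e * e) := by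
    have h9 := mul_le_mul_of_nonneg_left h7 (show (0 : ℤ) ≤ e * t + 2 by positivity)
    linarith
  have hRt : (0 : ℤ) ≤ t * R := by positivity
  have h9 : (t : ℤ) + (e * t + 2) * ((e - 1) * (t - 1)) + 2 * (t * R) ≤ t * (e * e) := by
    have h10 : (0 : ℤ) ≤ (e * t) * (t * R) := by positivity
    nlinarith
  have ht2 : t = 2 := by
    by_contra hne
    have ht3 : (3 : ℤ) ≤ t := by
      have : 3 ≤ t := by omega
      exact_mod_cast this
    have h10 : (0 : ℤ) ≤ (e * t + 2) * (e - 1) * (t - 3) := by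
      apply mul_nonneg (mul_nonneg (by positivity) (by linarith)) (by linarith)
    have h11 : (0 : ℤ) ≤ e * t * (e - 2) := mul_nonneg (by positivity) (by linarith)
    nlinarith
  subst ht2
  push_cast at *
  have hR0 : R = 0 := by nlinarith
  subst hR0
  refine ⟨by trivial, by trivial, ?_⟩
  have h12 : (e : ℤ) - 1 ≤ 2 * S := by linarith
  have h13 : (e + 1 : ℤ) * (2 * S) ≤ (e + 1) * (e - 1) := by nlinarith
  have h14 : 2 * S ≤ (e - 1 : ℤ) := le_of_mul_le_mul_left h13 (by linarith)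
  linarith

theorem exists_deg {q b g₀ : ℕ} (h : BT D q b g₀) (B : B0 D) (hs : B.s = 1) :
    Nat.card (Tau D) = 2 ∧ Odd (Nat.card (κu D).range) ∧ ∃ χ ∈ B.X, χ ≠ triv G ∧ charDegree (χ : G → ℂ) = p + 1 := by
  classical
  have ht := t_gt h B
  obtain ⟨ht1, ht2⟩ := triv_mem_X B ht
  obtain ⟨k⟩ : Nonempty (Tau D) := inferInstance
  obtain ⟨-, hz⟩ := Y_cases h B k ht1 ht2
  have hz' : charDegree (B.Y k : G → ℂ) = Nat.card (κu D).range := by
    rcases hz with h1 | h1
    · exact h1.2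
    · rw [hs] at h1; norm_num at h1
  obtain ⟨m, hm1, hm2, hm3⟩ := ineqs B ht hs (cent_trivial h B) k hz'
  set e := Nat.card (κu D).range with he
  have hsub : ∑ χ ∈ {triv G} ∪ (Xp B ∪ Xm B), m χ * charDegree (χ : G → ℂ) ≤ e * e := by
    rw [← hm2]
    exact Finset.sum_le_sum_of_subset (Finset.subset_univ _)
  have h4 : Disjoint ({triv G} : Finset (IrrCharacter G)) (Xp B ∪ Xm B) := by
    rw [Finset.disjoint_singleton_left, Finset.mem_union, Xp, Xm, Finset.mem_filter, Finset.mem_filter]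
    rintro (h5 | h5)
    · exact h5.2.1 rfl
    · have := h5.2; rw [ht2] at this; norm_num at this
  have h5 : Disjoint (Xp B) (Xm B) := by
    rw [Finset.disjoint_left]
    intro χ h6 h7
    rw [Xp, Finset.mem_filter] at h6
    rw [Xm, Finset.mem_filter] at h7
    have := h7.2
    rw [h6.2.2] at this
    norm_num at this
  rw [Finset.sum_union h4, Finset.sum_union h5, Finset.sum_singleton, hm1, deg_triv, one_mul] at hsub
  have hXm : (p - 1) * ∑ ξ ∈ Xm B, m ξ ≤ ∑ χ ∈ Xm B, m χ * charDegree (χ : G → ℂ) := by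
    rw [Finset.mul_sum]
    refine Finset.sum_le_sum fun χ hχ => ?_
    rw [mul_comm]
    exact Nat.mul_le_mul_left _ (deg_Xm' B hχ)
  have hXp : (p + 1) * ∑ ξ ∈ Xp B, m ξ ≤ ∑ χ ∈ Xp B, m χ * charDegree (χ : G → ℂ) := by
    rw [Finset.mul_sum]
    refine Finset.sum_le_sum fun χ hχ => ?_
    rw [mul_comm]
    exact Nat.mul_le_mul_left _ (deg_Xp' h.perf B hχ)
  have hp1 := hp.out.one_le
  have hineq : 1 + ((p : ℤ) + 1) * (∑ ξ ∈ Xp B, m ξ : ℕ) + (p - 1) * (∑ ξ ∈ Xm B, m ξ : ℕ) ≤ (e : ℤ) * e := by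
    have h6 : 1 + (p + 1) * ∑ ξ ∈ Xp B, m ξ + (p - 1) * ∑ ξ ∈ Xm B, m ξ ≤ e * e := by omega
    have h7 : ((1 + (p + 1) * ∑ ξ ∈ Xp B, m ξ + (p - 1) * ∑ ξ ∈ Xm B, m ξ : ℕ) : ℤ) ≤ ((e * e : ℕ) : ℤ) := by
      exact_mod_cast h6
    rw [Nat.cast_add, Nat.cast_add, Nat.cast_mul, Nat.cast_mul, Nat.cast_sub hp1, Nat.cast_mul] at h7
    push_cast at h7 ⊢
    exact h7
  obtain ⟨h6, h7, h8⟩ := arith (S := (∑ ξ ∈ Xp B, m ξ : ℕ)) (R := (∑ ξ ∈ Xm B, m ξ : ℕ)) (p_eq D) h.he ht
    (by positivity) (by positivity) (by push_cast; exact hm3) hineq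
  refine ⟨h6, ?_, ?_⟩
  · refine ⟨∑ ξ ∈ Xp B, m ξ, ?_⟩
    have h9 : (e : ℤ) = 2 * (∑ ξ ∈ Xp B, m ξ : ℕ) + 1 := by linarith
    exact_mod_cast h9
  · by_contra hcon
    push Not at hcon
    have h9 : (p + 2) * ∑ ξ ∈ Xp B, m ξ ≤ ∑ χ ∈ Xp B, m χ * charDegree (χ : G → ℂ) := by
      rw [Finset.mul_sum]
      refine Finset.sum_le_sum fun χ hχ => ?_
      rw [mul_comm]
      apply Nat.mul_le_mul_left
      have h10 := deg_Xp' h.perf B hχ
      rw [Xp, Finset.mem_filter] at hχ
      have h11 := hcon χ hχ.1 hχ.2.1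
      omega
    have h10 : 1 + (p + 2) * ∑ ξ ∈ Xp B, m ξ ≤ e * e := by omega
    have hpe := p_eq D
    rw [h6, ← he] at hpe
    have h11 : (1 : ℤ) + (p + 2) * (∑ ξ ∈ Xp B, m ξ : ℕ) ≤ e * e := by exact_mod_cast h10
    have hpz : (p : ℤ) = 2 * e + 1 := by rw [hpe]; push_cast; ring
    rw [hpz] at h11
    have he1 : (1 : ℤ) < e := by exact_mod_cast h.he
    nlinarith

end Cfsg.Agent.Lib.BTPos
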