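import Mathlib
import Cfsg.Agent.Lib.BTPos

set_option autoImplicit false
set_option linter.all false

/-!
# Brauer–Tuan: the number of Sylow subgroups is small
-/

namespace Cfsg.Agent.Lib.BTMain

open Cfsg Cfsg.Agent.Lib.BlockRing Cfsg.Agent.Lib.BlockGA Cfsg.Agent.Lib.BlockIdem
open Cfsg.Agent.Lib.DefOneLoc Cfsg.Agent.Lib.DefOneOrd Cfsg.Agent.Lib.CharBasic Cfsg.Agent.Lib.DefOneGram
open Cfsg.Agent.Lib.DefOne Cfsg.Agent.Lib.BlockThird Cfsg.Agent.Lib.DefOnePrin Cfsg.Agent.Lib.BRB0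
open Cfsg.Agent.Lib.BRNum Cfsg.Agent.Lib.BRDeg Cfsg.Agent.Lib.BRCore Cfsg.Agent.Lib.BROne Cfsg.Agent.Lib.BRInd
open Cfsg.Agent.Lib.BTDeg Cfsg.Agent.Lib.BTKer Cfsg.Agent.Lib.BTBlk Cfsg.Agent.Lib.BTBd Cfsg.Agent.Lib.BTPos
open Cfsg.Agent.Lib.BTNum
open scoped ComplexConjugate

universe u

variable {G : Type u} [Group G] [Fintype G] {p : ℕ} [hp : Fact p.Prime] {P N C : Subgroup G}
  {D : Loc p P N C} [Fintype C] {q b g₀ : ℕ}

theorem idx_eq (h : BT D q b g₀) (B : B0 D) : q ^ b * g₀ = Nat.card (κu D).range * N.index := by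
  have h1 := Subgroup.card_mul_index C
  have h2 : C = P := le_antisymm (le_P D (cent_trivial h B)) D.PC
  have h3 : Nat.card C = p := by rw [h2]; exact h.hP
  rw [h3, index_C D, h.card, mul_assoc] at h1
  exact (Nat.eq_of_mul_eq_mul_left hp.out.pos h1).symm

theorem case_one (h : BT D q b g₀) (B : B0 D) (hPS : ∃ Q : Sylow p G, (Q : Subgroup G) = P) (hs : B.s = 1) :
    2 * N.index < (p + 1) * (p + 2) := by
  have ht := t_gt h B
  obtain ⟨ht1, ht2⟩ := triv_mem_X B ht
  obtain ⟨k⟩ : Nonempty (Tau D) := inferInstance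
  obtain ⟨hdvd, hz⟩ := Y_cases h B k ht1 ht2
  have hz' : charDegree (B.Y k : G → ℂ) = Nat.card (κu D).range := by
    rcases hz with h1 | h1
    · exact h1.2
    · rw [hs] at h1; norm_num at h1
  obtain ⟨h6, hodd, χ, hχ, hne, hdeg⟩ := exists_deg h B hs
  have hpe := p_eq D
  rw [h6] at hpe
  have hidx := idx_eq h B
  have he1 := h.he
  have hg := h.hg
  have hg0 := g_pos h
  set e := Nat.card (κu D).range with he
  rw [hz'] at hdvd
  have hge : g₀ = e := by
    obtain ⟨w, hw⟩ := hdvd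
    have hw2 : w < 2 := by
      by_contra hcon
      push Not at hcon
      have := Nat.mul_le_mul_left e hcon
      omega
    have hw0 : w ≠ 0 := by rintro rfl; omega
    have : w = 1 := by omega
    rw [hw, this, mul_one]
  have h7 := dvd_qg h (X_not_p B hχ)
  rw [hdeg, hge] at h7
  have hco : Nat.Coprime (p + 1) e := by
    have h8 : p + 1 = 2 * (e + 1) := by omega
    rw [h8]
    exact Nat.Coprime.mul_left (Nat.coprime_two_left.2 hodd) (by simp)
  obtain ⟨j, -, hj⟩ := (Nat.dvd_prime_pow h.hq).1 (hco.dvd_of_dvd_mul_right h7)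
  have h8 := qb_le h B hPS k hχ hne (j := j) (by rw [hdeg, hj])
  rw [hz'] at h8
  rw [hge, mul_comm] at hidx
  have h9 := Nat.eq_of_mul_eq_mul_left (by omega) hidx
  rw [← h9]
  have h10 : p = 2 * e + 1 := by omega
  rw [h10]
  nlinarith

theorem fin_arith {e I p : ℕ} (he : 1 < e) (hp : p = e * 2 + 1) (h8 : e * I ≤ (e + 1) ^ 3) :
    2 * I < (p + 1) * (p + 2) := by
  have h9 : e * (2 * I) < e * ((p + 1) * (p + 2)) := by
    rw [hp]
    have h10 : (e + 1) * (e + 1) < e * (2 * e + 3) := by nlinarith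
    have h11 := Nat.mul_lt_mul_of_pos_left h10 (show 0 < 2 * (e + 1) by omega)
    calc e * (2 * I) = 2 * (e * I) := by ring
      _ ≤ 2 * (e + 1) ^ 3 := Nat.mul_le_mul_left _ h8
      _ = 2 * (e + 1) * ((e + 1) * (e + 1)) := by ring
      _ < 2 * (e + 1) * (e * (2 * e + 3)) := h11
      _ = e * ((e * 2 + 1 + 1) * (e * 2 + 1 + 2)) := by ring
  exact lt_of_mul_lt_mul_left h9 (Nat.zero_le _)

/-- sum over the nontrivial part -/
theorem erase_sum [DecidableEq (IrrCharacter G)] (h : BT D q b g₀) (B : B0 D) (ht1 : triv G ∈ B.X) (ht2 : B.δ (triv G) = 1) (k : Tau D) :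
    ∑ χ ∈ B.X.erase (triv G), B.δ χ * (charDegree (χ : G → ℂ) : ℤ) =
      B.s * (charDegree (B.Y k : G → ℂ) : ℤ) - 1 := by
  have h3 := rel_deg B k
  rw [← Finset.add_sum_erase _ _ ht1, ht2, deg_triv] at h3
  push_cast at h3
  linarith

theorem X_pos (h : BT D q b g₀) (B : B0 D) {χ : IrrCharacter G} (hχ : χ ∈ B.X) (hne : χ ≠ triv G) :
    (B.δ χ = 1 ∧ ∃ l : ℕ, 0 < l ∧ charDegree (χ : G → ℂ) = 1 + l * p) ∨
    (B.δ χ = -1 ∧ ∃ κ : ℕ, charDegree (χ : G → ℂ) + 1 = κ * p) := by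
  obtain ⟨k, hk⟩ := B.degX χ hχ
  have h0 := BlockDeg.charDegree_pos χ.2
  have h1 : charDegree (χ : G → ℂ) ≠ 1 := fun h2 => hne (eq_triv_of_deg h.perf h2)
  have hpz : (0 : ℤ) < p := by exact_mod_cast hp.out.pos
  have h2 : 0 < k := by
    by_contra h3
    push Not at h3
    have h4 : k * (p : ℤ) ≤ 0 := mul_nonpos_of_nonpos_of_nonneg h3 hpz.le
    rcases B.δ_pm χ hχ with h5 | h5 <;> rw [h5] at hk <;> omega
  obtain ⟨l, rfl⟩ := Int.eq_ofNat_of_zero_le h2.le
  rcases B.δ_pm χ hχ with h5 | h5 <;> rw [h5] at hk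
  · left
    refine ⟨h5, l, by exact_mod_cast h2, ?_⟩
    have h6 : (charDegree (χ : G → ℂ) : ℤ) = ((1 + l * p : ℕ) : ℤ) := by rw [hk]; push_cast; ring
    exact_mod_cast h6
  · right
    refine ⟨h5, l, ?_⟩
    have h6 : ((charDegree (χ : G → ℂ) + 1 : ℕ) : ℤ) = ((l * p : ℕ) : ℤ) := by push_cast; rw [hk]; ring
    exact_mod_cast h6

theorem case_neg (h : BT D q b g₀) (B : B0 D) (hPS : ∃ Q : Sylow p G, (Q : Subgroup G) = P) (hs : B.s = -1) :
    2 * N.index < (p + 1) * (p + 2) := by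
  classical
  have ht := t_gt h B
  obtain ⟨ht1, ht2⟩ := triv_mem_X B ht
  obtain ⟨k⟩ : Nonempty (Tau D) := inferInstance
  obtain ⟨hdvd, hz⟩ := Y_cases h B k ht1 ht2
  have hz' : charDegree (B.Y k : G → ℂ) + Nat.card (κu D).range = p := by
    rcases hz with h1 | h1
    · rw [hs] at h1; norm_num at h1
    · exact h1.2
  have hpe := p_eq D
  have hidx := idx_eq h B
  have he1 := h.he
  have hg := h.hg
  have hg0 := g_pos h
  have hsum := erase_sum h B ht1 ht2 k
  rw [hs] at hsum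
  have hcardX := B.cardX
  have hbd := fun (χ : IrrCharacter G) (hχ : χ ∈ B.X) => deg_le_sq B hPS ht k hχ
  have hqb := fun (χ₁ : IrrCharacter G) (hχ₁ : χ₁ ∈ B.X) (hne : χ₁ ≠ triv G) (j : ℕ)
    (hj : charDegree (χ₁ : G → ℂ) = q ^ j) => qb_le h B hPS k hχ₁ hne hj
  have hlt := e_lt D
  set e := Nat.card (κu D).range with he
  set t := Nat.card (Tau D) with htd
  set d := charDegree (B.Y k : G → ℂ) with hd
  have hd0 : 0 < d := by omega
  have hdt : d + e = e * t + 1 := by omega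
  have het : e * 2 ≤ e * t := Nat.mul_le_mul_left e ht
  have hgd : g₀ = d := by
    obtain ⟨w, hw⟩ := hdvd
    have hw2 : w < 2 := by
      by_contra hcon
      push Not at hcon
      have := Nat.mul_le_mul_left d hcon
      omega
    have hw0 : w ≠ 0 := by rintro rfl; omega
    have : w = 1 := by omega
    rw [hw, this, mul_one]
  rw [hgd] at hidx
  have hco : Nat.Coprime e d := by
    have h1 : Nat.Coprime e p := by
      rw [Nat.coprime_comm, hp.out.coprime_iff_not_dvd]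
      intro h2
      have := Nat.le_of_dvd (by omega) h2
      omega
    rw [← hz'] at h1
    simpa using h1
  obtain ⟨c, -, hc⟩ := (Nat.dvd_prime_pow h.hq).1 (hco.dvd_of_dvd_mul_right (Dvd.intro _ hidx.symm))
  have hc0 : c ≠ 0 := by rintro rfl; rw [pow_zero] at hc; omega
  have hzd : ∀ χ ∈ B.X, charDegree (χ : G → ℂ) ∣ q ^ b * d := by
    intro χ hχ
    have := dvd_qg h (X_not_p B hχ)
    rwa [hgd] at this
  have hneg : ∀ χ ∈ B.X, χ ≠ triv G → B.δ χ = -1 → e ∣ charDegree (χ : G → ℂ) := by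
    intro χ hχ hne hδ
    rcases X_pos h B hχ hne with ⟨h1, -⟩ | ⟨-, κ, hκ⟩
    · rw [hδ] at h1; norm_num at h1
    · exact e_dvd_neg h.hq hc (by omega) hpe hz' (hzd χ hχ) hκ
  have hpos : ∀ χ ∈ B.X, χ ≠ triv G → e ∣ charDegree (χ : G → ℂ) ∨ (t ∣ e ∧ t ∣ charDegree (χ : G → ℂ)) := by
    intro χ hχ hne
    rcases X_pos h B hχ hne with ⟨-, l, hl, hl2⟩ | ⟨hδ, -⟩
    · exact e_dvd_pos h.hq hc (by omega) hpe hz' (hzd χ hχ) hl hl2
    · exact Or.inl (hneg χ hχ hne hδ)
  have hdz : (d : ℤ) = e * t + 1 - e := by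
    have : ((d + e : ℕ) : ℤ) = ((e * t + 1 : ℕ) : ℤ) := by rw [hdt]
    push_cast at this
    linarith
  -- the two cases
  have hcases : (e = 2 ∧ q = 2) ∨ (t = 2 ∧ q = 2) := by
    by_cases hall : ∀ χ ∈ B.X, χ ≠ triv G → e ∣ charDegree (χ : G → ℂ)
    · left
      have h1 : (e : ℤ) ∣ ∑ χ ∈ B.X.erase (triv G), B.δ χ * (charDegree (χ : G → ℂ) : ℤ) := by
        apply Finset.dvd_sum
        intro χ hχ
        apply Dvd.dvd.mul_left
        exact_mod_cast hall χ (Finset.mem_of_mem_erase hχ) (Finset.ne_of_mem_erase hχ)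
      rw [hsum, hdz] at h1
      have h2 : (e : ℤ) ∣ 2 := by
        have h3 : (2 : ℤ) = e * (1 - t) - (-1 * ((e : ℤ) * t + 1 - e) - 1) := by ring
        rw [h3]
        exact dvd_sub (Dvd.intro _ rfl) h1
      have h3 : e ∣ 2 := by exact_mod_cast h2
      have h4 : e = 2 := by
        have := Nat.le_of_dvd (by norm_num) h3
        omega
      refine ⟨h4, ?_⟩
      have h5 : q ∣ 2 := by
        rw [← h4, hc]; exact dvd_pow_self q hc0
      exact (Nat.prime_dvd_prime_iff_eq h.hq Nat.prime_two).1 h5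
    · right
      push Not at hall
      obtain ⟨χ₀, hχ₀, hne₀, h0⟩ := hall
      obtain ⟨hte, -⟩ := (hpos χ₀ hχ₀ hne₀).resolve_left h0
      have h1 : (t : ℤ) ∣ ∑ χ ∈ B.X.erase (triv G), B.δ χ * (charDegree (χ : G → ℂ) : ℤ) := by
        apply Finset.dvd_sum
        intro χ hχ
        apply Dvd.dvd.mul_left
        rcases hpos χ (Finset.mem_of_mem_erase hχ) (Finset.ne_of_mem_erase hχ) with h2 | h2
        · exact_mod_cast hte.trans h2
        · exact_mod_cast h2.2
      rw [hsum, hdz] at h1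
      have h2 : (t : ℤ) ∣ 2 := by
        have h3 : (2 : ℤ) = e * (1 - t) - (-1 * ((e : ℤ) * t + 1 - e) - 1) := by ring
        rw [h3]
        have h4 : (t : ℤ) ∣ e := by exact_mod_cast hte
        exact dvd_sub (h4.mul_right _) h1
      have h3 : t ∣ 2 := by exact_mod_cast h2
      have h4 : t = 2 := by
        have := Nat.le_of_dvd (by norm_num) h3
        omega
      refine ⟨h4, ?_⟩
      have h5 : 2 ∣ q ^ c := by rw [← hc, ← h4]; exact hte
      exact ((Nat.prime_dvd_prime_iff_eq Nat.prime_two h.hq).1 (Nat.prime_two.dvd_of_dvd_pow h5)).symm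
  rcases hcases with ⟨he2, hq2⟩ | ⟨ht2', hq2⟩
  · -- `e = 2`
    have h1 : (B.X.erase (triv G)).card = 1 := by
      rw [Finset.card_erase_of_mem ht1, hcardX, he2]
    obtain ⟨χ, hχ⟩ := Finset.card_eq_one.1 h1
    have hχm : χ ∈ B.X.erase (triv G) := by rw [hχ]; exact Finset.mem_singleton_self _
    have hχX := Finset.mem_of_mem_erase hχm
    have hχne := Finset.ne_of_mem_erase hχm
    rw [hχ, Finset.sum_singleton] at hsum
    have h2 := BlockDeg.charDegree_pos χ.2
    have hδ : B.δ χ = -1 := by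
      rcases B.δ_pm χ hχX with h3 | h3
      · rw [h3] at hsum; omega
      · exact h3
    rw [hδ] at hsum
    have hdeg : charDegree (χ : G → ℂ) = d + 1 := by omega
    have h3 := hzd χ hχX
    rw [hdeg] at h3
    have h4 : Nat.Coprime (d + 1) d := by simp
    obtain ⟨j, -, hj⟩ := (Nat.dvd_prime_pow h.hq).1 (h4.dvd_of_dvd_mul_right h3)
    obtain ⟨W, hW, hWt, hW1, hdvdW⟩ := exists_W h B (le_P D (cent_trivial h B)) hPS hχX hχne (j := j) (by rw [hdeg, hj])
    have hWs : W = {χ} := by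
      apply Finset.Subset.antisymm
      · rw [← hχ]
        intro ξ hξ
        exact Finset.mem_erase.2 ⟨fun h5 => hWt (h5 ▸ hξ), hW hξ⟩
      · exact Finset.singleton_subset_iff.2 hW1
    rw [hWs, Finset.sum_singleton, hδ, hdeg, neg_one_mul, dvd_neg] at hdvdW
    have h5 : q ^ b ∣ d + 1 := by exact_mod_cast hdvdW
    have h6 := Nat.le_of_dvd (by omega) h5
    rw [he2] at hidx hz'
    rw [← hidx]
    have h7 : p = d + 2 := by omega
    rw [h7]
    nlinarith
  · -- `t = 2`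
    rw [ht2'] at hpe hdt hdz
    have hde : d = e + 1 := by omega
    -- a negative character
    obtain ⟨χ, hχm, hχneg⟩ : ∃ χ ∈ B.X.erase (triv G), B.δ χ * (charDegree (χ : G → ℂ) : ℤ) < 0 := by
      by_contra hcon
      push Not at hcon
      have h1 := Finset.sum_nonneg hcon
      rw [hsum] at h1
      omega
    have hχX := Finset.mem_of_mem_erase hχm
    have hχne := Finset.ne_of_mem_erase hχm
    have h2 := BlockDeg.charDegree_pos χ.2
    have hδ : B.δ χ = -1 := by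
      rcases B.δ_pm χ hχX with h3 | h3
      · rw [h3] at hχneg; omega
      · exact h3
    obtain ⟨κ, hκ⟩ : ∃ κ : ℕ, charDegree (χ : G → ℂ) + 1 = κ * p := by
      rcases X_pos h B hχX hχne with ⟨h1, -⟩ | ⟨-, h1⟩
      · rw [hδ] at h1; norm_num at h1
      · exact h1
    have hez := hneg χ hχX hχne hδ
    have hzle := hbd χ hχX
    rw [hde] at hzle
    have hκ0 : κ ≠ 0 := by rintro rfl; omega
    have hκ1 : κ = 1 := by
      by_contra hne
      -- `e ∣ κ - 1`
      obtain ⟨κ', rfl⟩ : ∃ κ', κ = κ' + 1 := ⟨κ - 1, by omega⟩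
      have h4 : charDegree (χ : G → ℂ) = κ' + e * (2 * (κ' + 1)) := by
        have : (κ' + 1) * p = κ' + e * (2 * (κ' + 1)) + 1 := by rw [hpe]; ring
        omega
      have h5 : e ∣ κ' := by
        rw [h4] at hez
        exact (Nat.dvd_add_left (Dvd.intro _ rfl)).1 hez
      have h6 := Nat.le_of_dvd (by omega) h5
      rw [h4] at hzle
      nlinarith
    rw [hκ1, one_mul] at hκ
    have hdeg : charDegree (χ : G → ℂ) = q ^ (c + 1) := by
      rw [pow_succ, ← hc, hq2]; omega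
    have h7 := hqb χ hχX hχne (c + 1) hdeg
    have h8 : e * N.index ≤ (e + 1) ^ 3 := by
      rw [← hidx, hde, pow_succ _ 2]
      rw [hde] at h7
      exact Nat.mul_le_mul_right _ h7
    exact fin_arith he1 hpe h8

theorem two_index_lt (h : BT D q b g₀) (B : B0 D) (hPS : ∃ Q : Sylow p G, (Q : Subgroup G) = P) :
    2 * N.index < (p + 1) * (p + 2) := by
  rcases B.s_pm with hs | hs
  · exact case_one h B hPS hs
  · exact case_neg h B hPS hs

end Cfsg.Agent.Lib.BTMain
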