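import Mathlib
import Cfsg.Agent.Lib.BTMain
import Cfsg.Agent.Lib.BRCor
import Cfsg.Agent.Lib.ClSL2Syl

set_option autoImplicit false
set_option linter.all false

/-!
# The Brauer–Tuan theorem
-/

namespace Cfsg.Agent.Lib.BTThm

open Cfsg Cfsg.Agent.Lib.BRFin Cfsg.Agent.Lib.BRCor Cfsg.Agent.Lib.BRB0 Cfsg.Agent.Lib.BTDeg Cfsg.Agent.Lib.BTMain
open Cfsg.Agent.Lib.DefOneLoc Cfsg.Agent.Lib.DefOneOrd Cfsg.Agent.Lib.BRCore Cfsg.Agent.Lib.BRNum
open Cfsg.Agent.Lib.DefOne Cfsg.Agent.Lib.DefOnePrin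
open scoped commutatorElement

universe u

variable {G : Type u} [Group G] [Finite G]

theorem perf_of_simple [IsSimpleGroup G] (hG : ¬ IsCyclic G) : commutator G = ⊤ := by
  rcases (IsSimpleGroup.eq_bot_or_eq_top_of_normal (commutator G) inferInstance) with h1 | h1
  · exfalso
    have hcomm : ∀ a b : G, a * b = b * a := by
      intro a b
      have h2 : ⁅a, b⁆ ∈ commutator G := Subgroup.commutator_mem_commutator (Subgroup.mem_top a) (Subgroup.mem_top b)
      rw [h1, Subgroup.mem_bot, commutatorElement_eq_one_iff_mul_comm] at h2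
      exact h2
    letI : CommGroup G := { mul_comm := hcomm }
    exact hG IsSimpleGroup.isCyclic
  · exact h1

theorem card_sylow_eq {p m : ℕ} [hp : Fact p.Prime] (P : Sylow p G) (hm : ¬ p ∣ m) (h : Nat.card G = p * m) :
    Nat.card P = p := by
  have hm0 : m ≠ 0 := by rintro rfl; exact hm (dvd_zero _)
  rw [P.card_eq_multiplicity, h, Nat.factorization_mul hp.out.ne_zero hm0, Finsupp.add_apply,
    hp.out.factorization_self, Nat.factorization_eq_zero_of_not_dvd hm, pow_one]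

theorem pre [IsSimpleGroup G] (h732 : H732.{u}) (hG : ¬ IsCyclic G) (p q b g₀ : ℕ) (hp : p.Prime) (hq : q.Prime)
    (hpq : p ≠ q) (hG' : Nat.card G = p * q ^ b * g₀) (hqg : ¬ q ∣ g₀) (hg : g₀ < p - 1) :
    (∃ (F : Type) (_ : Field F) (_ : Fintype F), Fintype.card F = p ∧ 3 < p ∧
      Nonempty (G ≃* Matrix.ProjectiveSpecialLinearGroup (Fin 2) F)) ∨
    (∃ (m : ℕ) (F : Type) (_ : Field F) (_ : Fintype F), Fintype.card F = 2 ^ m ∧ p = 2 ^ m + 1 ∧ 3 < p ∧
      Nonempty (G ≃* Matrix.ProjectiveSpecialLinearGroup (Fin 2) F)) := by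
  classical
  haveI hpF : Fact p.Prime := ⟨hp⟩
  have hperf := perf_of_simple hG
  have hg0 : 0 < g₀ := by
    rcases Nat.eq_zero_or_pos g₀ with h1 | h1
    · rw [h1] at hqg; exact absurd (dvd_zero q) hqg
    · exact h1
  have hpm : ¬ p ∣ q ^ b * g₀ := by
    intro h1
    rcases (Nat.Prime.dvd_mul hp).1 h1 with h2 | h2
    · exact hpq ((Nat.prime_dvd_prime_iff_eq hp hq).1 (hp.dvd_of_dvd_pow h2))
    · have := Nat.le_of_dvd hg0 h2
      omega
  obtain ⟨Q⟩ : Nonempty (Sylow p G) := inferInstance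
  have hQ : Nat.card Q = p := card_sylow_eq Q hpm (by rw [hG']; ring)
  obtain ⟨n, hn⟩ := exists_n (p := p) G
  have hb : 0 < b := by
    rcases Nat.eq_zero_or_pos b with h1 | h1
    · exfalso
      have h2 := one_lt_sylow hperf Q hQ
      have h3 := Q.card_dvd_index
      have h4 := Subgroup.card_mul_index (Q : Subgroup G)
      rw [hG', h1, pow_zero, mul_one] at h4
      change Nat.card Q * _ = _ at h4
      rw [hQ] at h4
      have h5 := Nat.eq_of_mul_eq_mul_left hp.pos h4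
      rw [h5] at h3
      have h6 := Nat.le_of_dvd hg0 h3
      rw [hn] at h2 h6
      have h7 : n ≠ 0 := by rintro rfl; omega
      have h8 : 1 * p ≤ n * p := Nat.mul_le_mul_right _ (by omega)
      omega
    · exact h1
  letI : Fintype G := Fintype.ofFinite _
  obtain ⟨D, hCf, ⟨B⟩⟩ := exists_B0 Q hQ
  have he : 1 < Nat.card (κu D).range := by
    by_contra hcon
    have h1 : Nat.card (κu D).range = 1 := by
      have : 0 < Nat.card (κu D).range := Nat.card_pos
      omega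
    rw [card_range, Subgroup.relIndex_eq_one] at h1
    exact not_norm_le_cent hperf Q hQ h1
  have hBT : BT D q b g₀ := ⟨inferInstance, hperf, hQ, hG', hq, hpq, hqg, hg, hb, he⟩
  have h1 := two_index_lt hBT B ⟨Q, rfl⟩
  have h2 : 2 * Nat.card (Sylow p G) < (p + 1) * (p + 2) := by
    rw [Sylow.card_eq_index_normalizer Q]
    exact h1
  apply reduced h732 hperf Q hQ hn (two_mul_lt hn h2)
  intro K hK hKp
  rcases IsSimpleGroup.eq_bot_or_eq_top_of_normal K hK with h1 | h1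
  · exact h1
  · exfalso
    rw [h1, Subgroup.card_top, hG', mul_assoc] at hKp
    exact hKp (Dvd.intro _ rfl)

/-- S0997 -/
theorem main [IsSimpleGroup G] (h732 : H732.{u}) (hG : ¬ IsCyclic G) (p q b g₀ : ℕ) (hp : p.Prime) (hq : q.Prime)
    (hpq : p ≠ q) (hG' : Nat.card G = p * q ^ b * g₀) (hg : g₀ < p - 1) :
    (∃ (m : ℕ) (F : Type) (_ : Field F) (_ : Fintype F), Fintype.card F = p ∧ 3 < p ∧ (p = 2 ^ m + 1 ∨ p = 2 ^ m - 1) ∧
      Nonempty (G ≃* Matrix.ProjectiveSpecialLinearGroup (Fin 2) F)) ∨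
    (∃ (m : ℕ) (F : Type) (_ : Field F) (_ : Fintype F), Fintype.card F = 2 ^ m ∧ p = 2 ^ m + 1 ∧ 3 < p ∧
      Nonempty (G ≃* Matrix.ProjectiveSpecialLinearGroup (Fin 2) F)) := by
  have hcard : 0 < Nat.card G := Nat.card_pos
  have hg0 : g₀ ≠ 0 := by
    rintro rfl
    rw [hG', mul_zero] at hcard
    exact absurd hcard (lt_irrefl _)
  obtain ⟨c, g₁, hg₁, hcg⟩ := Nat.exists_eq_pow_mul_and_not_dvd hg0 q hq.ne_one
  have hG2 : Nat.card G = p * q ^ (b + c) * g₁ := by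
    rw [hG', hcg, pow_add]; ring
  have hle : g₁ ≤ g₀ := by
    rw [hcg]
    exact Nat.le_mul_of_pos_left _ (pow_pos hq.pos _)
  have hlt : g₁ < p - 1 := lt_of_le_of_lt hle hg
  rcases pre h732 hG p q (b + c) g₁ hp hq hpq hG2 hg₁ hlt with ⟨F, i1, i2, hF, h3, ⟨e⟩⟩ | h1
  · left
    have hodd : Odd (Fintype.card F) := by
      rw [hF]
      exact hp.odd_of_ne_two (by omega)
    have h4 := ClSL2Syl.card_PSL2 hodd
    rw [← Nat.card_congr e.toEquiv, hF, hG2] at h4
    have h5 : p * (2 * (q ^ (b + c) * g₁)) = p * (p ^ 2 - 1) := by rw [← h4]; ring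
    obtain ⟨m, hm⟩ := BTNum.psl_order hp h3 hq hg₁ hlt (Nat.eq_of_mul_eq_mul_left hp.pos h5)
    exact ⟨m, F, i1, i2, hF, h3, hm, ⟨e⟩⟩
  · exact Or.inr h1

end Cfsg.Agent.Lib.BTThm
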