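import Mathlib
import Cfsg.Agent.Lib.BTThm
import Cfsg.Agent.Lib.ClSmall
import Cfsg.Agent.Lib.BrauerFowler

set_option autoImplicit false
set_option linter.all false

/-!
# Simple groups of order `p r q ^ b`
-/

namespace Cfsg.Agent.Lib.BTCor

open Cfsg Cfsg.Agent.Lib.BRFin Cfsg.Agent.Lib.BTThm

universe u

theorem prod_two {r q b m v : ℕ} (hr : r.Prime) (hq : q.Prime) (hqr : q ≠ r) (hm : 2 ≤ m) (hv : Odd v) (hv1 : 1 < v)
    (h : r * q ^ b = 2 ^ m * v) : q = 2 ∧ r = v := by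
  have h2 : 2 ∣ r * q ^ b := by
    rw [h]; exact (dvd_pow_self 2 (by omega)).mul_right _
  obtain ⟨m', rfl⟩ : ∃ m', m = m' + 1 := ⟨m - 1, by omega⟩
  have hq2 : q = 2 := by
    rcases (Nat.Prime.dvd_mul Nat.prime_two).1 h2 with h3 | h3
    · have h4 : r = 2 := ((Nat.prime_dvd_prime_iff_eq Nat.prime_two hr).1 h3).symm
      rw [h4, pow_succ] at h
      have h5 : q ^ b = 2 ^ m' * v := by
        have : 2 * q ^ b = 2 * (2 ^ m' * v) := by rw [h]; ring
        exact Nat.eq_of_mul_eq_mul_left (by norm_num) this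
      have h6 : 2 ∣ q ^ b := by
        rw [h5]; exact (dvd_pow_self 2 (by omega)).mul_right _
      exact ((Nat.prime_dvd_prime_iff_eq Nat.prime_two hq).1 (Nat.prime_two.dvd_of_dvd_pow h6)).symm
    · exact ((Nat.prime_dvd_prime_iff_eq Nat.prime_two hq).1 (Nat.prime_two.dvd_of_dvd_pow h3)).symm
  refine ⟨hq2, ?_⟩
  subst hq2
  have h3 : v ∣ r * 2 ^ b := by rw [h]; exact Dvd.intro_left _ rfl
  have h4 : Nat.Coprime v (2 ^ b) := Nat.Coprime.pow_right _ (Nat.coprime_two_right.2 hv)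
  rcases (Nat.dvd_prime hr).1 (h4.dvd_of_dvd_mul_right h3) with h5 | h5
  · omega
  · exact h5.symm

theorem three_dvd_add {k : ℕ} (hk : Odd k) : 3 ∣ 2 ^ k + 1 := by
  have h := Odd.nat_add_dvd_pow_add_pow 2 1 hk
  rwa [one_pow] at h

theorem three_dvd_sub {k : ℕ} (hk : Even k) : 3 ∣ 2 ^ k - 1 := by
  obtain ⟨j, rfl⟩ := hk
  have h := Nat.sub_dvd_pow_sub_pow 4 1 j
  rw [one_pow] at h
  have h2 : 2 ^ (j + j) = 4 ^ j := by
    rw [← two_mul, pow_mul]; norm_num
  rw [h2]
  simpa using h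

theorem num_one {p q r b m : ℕ} (hp : p.Prime) (hq : q.Prime) (hr : r.Prime) (hqr : q ≠ r) (h3 : 3 < p)
    (hm : p = 2 ^ m + 1 ∨ p = 2 ^ m - 1) (h : 2 * (q ^ b * r) = p ^ 2 - 1) : p = 5 ∨ p = 7 := by
  have hp3 : ¬ 3 ∣ p := fun h4 => by
    have := (Nat.prime_dvd_prime_iff_eq Nat.prime_three hp).1 h4
    omega
  rcases hm with hm | hm
  · left
    have hm2 : 2 ≤ m := by
      by_contra hcon
      have : m = 0 ∨ m = 1 := by omega
      rcases this with rfl | rfl <;> norm_num at hm <;> omega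
    obtain ⟨m', rfl⟩ : ∃ m', m = m' + 1 := ⟨m - 1, by omega⟩
    have hodd : Odd (2 ^ m' + 1) := by
      have : Even (2 ^ m') := (Nat.even_pow.2 ⟨even_two, by omega⟩)
      exact this.add_one
    have h5 : r * q ^ b = 2 ^ (m' + 1) * (2 ^ m' + 1) := by
      have h6 : p ^ 2 = 2 * (2 ^ (m' + 1) * (2 ^ m' + 1)) + 1 := by rw [hm]; ring
      have h7 : 2 * (r * q ^ b) = 2 * (2 ^ (m' + 1) * (2 ^ m' + 1)) := by
        rw [mul_comm r, h, h6]; omega
      omega
    have h50 : 0 < 2 ^ m' := by positivity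
    obtain ⟨-, hrv⟩ := prod_two hr hq hqr hm2 hodd (by omega) h5
    rcases Nat.even_or_odd m' with h6 | h6
    · exfalso
      apply hp3
      rw [hm]
      exact three_dvd_add h6.add_one
    · have h7 := three_dvd_add h6
      rw [← hrv] at h7
      have h8 := (Nat.prime_dvd_prime_iff_eq Nat.prime_three hr).1 h7
      have h9 : 2 ^ m' = 2 := by omega
      rw [hm, pow_succ, h9]; norm_num
  · right
    have hm2 : 3 ≤ m := by
      by_contra hcon
      have : m = 0 ∨ m = 1 ∨ m = 2 := by omega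
      rcases this with rfl | rfl | rfl <;> norm_num at hm <;> omega
    obtain ⟨m', rfl⟩ : ∃ m', m = m' + 1 := ⟨m - 1, by omega⟩
    have h4 : 4 ≤ 2 ^ m' := by
      calc 4 = 2 ^ 2 := by norm_num
        _ ≤ 2 ^ m' := Nat.pow_le_pow_right (by norm_num) (by omega)
    obtain ⟨v, hv⟩ : ∃ v, 2 ^ m' = v + 1 := ⟨2 ^ m' - 1, by omega⟩
    have hodd : Odd v := by
      have h5 : Even (2 ^ m') := (Nat.even_pow.2 ⟨even_two, by omega⟩)
      rw [hv] at h5
      exact (Nat.even_add_one.1 h5 |> Nat.not_even_iff_odd.1)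
    have hpv : p = 2 * v + 1 := by rw [hm, pow_succ, hv]; omega
    have h5 : r * q ^ b = 2 ^ (m' + 1) * v := by
      have h6 : p ^ 2 = 2 * (2 ^ (m' + 1) * v) + 1 := by rw [hpv, pow_succ 2 m', hv]; ring
      have h7 : 2 * (r * q ^ b) = 2 * (2 ^ (m' + 1) * v) := by
        rw [mul_comm r, h, h6]; omega
      omega
    obtain ⟨-, hrv⟩ := prod_two hr hq hqr (by omega) hodd (by omega) h5
    rcases Nat.even_or_odd m' with h6 | h6
    · have h7 := three_dvd_sub h6
      have h10 : 2 ^ m' - 1 = r := by rw [hrv]; omega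
      rw [h10] at h7
      have h8 := (Nat.prime_dvd_prime_iff_eq Nat.prime_three hr).1 h7
      omega
    · exfalso
      apply hp3
      rw [hm]
      exact three_dvd_sub h6.add_one

theorem num_two {p q r b m : ℕ} (hp : p.Prime) (hq : q.Prime) (hr : r.Prime) (hqr : q ≠ r) (h3 : 3 < p)
    (hm : p = 2 ^ m + 1) (h : q ^ b * r = 2 ^ m * (2 ^ m - 1)) : m = 2 := by
  have hp3 : ¬ 3 ∣ p := fun h4 => by
    have := (Nat.prime_dvd_prime_iff_eq Nat.prime_three hp).1 h4
    omega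
  have hm2 : 2 ≤ m := by
    by_contra hcon
    have : m = 0 ∨ m = 1 := by omega
    rcases this with rfl | rfl <;> norm_num at hm <;> omega
  have h4 : 4 ≤ 2 ^ m := by
    calc 4 = 2 ^ 2 := by norm_num
      _ ≤ 2 ^ m := Nat.pow_le_pow_right (by norm_num) (by omega)
  have hodd : Odd (2 ^ m - 1) := by
    have h5 : Even (2 ^ m) := (Nat.even_pow.2 ⟨even_two, by omega⟩)
    exact Nat.Even.sub_odd (by omega) h5 odd_one
  obtain ⟨-, hrv⟩ := prod_two hr hq hqr hm2 hodd (by omega) (by rw [mul_comm]; exact h)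
  rcases Nat.even_or_odd m with h6 | h6
  · have h7 := three_dvd_sub h6
    rw [← hrv] at h7
    have h8 := (Nat.prime_dvd_prime_iff_eq Nat.prime_three hr).1 h7
    have h9 : 2 ^ m = 2 ^ 2 := by omega
    exact Nat.pow_right_injective (le_refl 2) h9
  · exfalso
    apply hp3
    rw [hm]
    exact three_dvd_add h6

variable {G : Type u} [Group G] [Finite G]

theorem aux [IsSimpleGroup G] (h732 : H732.{u}) (hG : ¬ IsCyclic G) (p q r b : ℕ) (hp : p.Prime) (hq : q.Prime)
    (hr : r.Prime) (hpq : p ≠ q) (hqr : q ≠ r) (hlt : r < p) (hG' : Nat.card G = p * r * q ^ b) :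
    (∃ (F : Type) (_ : Field F) (_ : Fintype F), Fintype.card F = 5 ∧
      Nonempty (G ≃* Matrix.ProjectiveSpecialLinearGroup (Fin 2) F)) ∨
    (∃ (F : Type) (_ : Field F) (_ : Fintype F), Fintype.card F = 7 ∧
      Nonempty (G ≃* Matrix.ProjectiveSpecialLinearGroup (Fin 2) F)) := by
  have hr2 := hr.two_le
  rcases Nat.lt_or_ge r (p - 1) with h1 | h1
  · have hG2 : Nat.card G = p * q ^ b * r := by rw [hG']; ring
    rcases main h732 hG p q b r hp hq hpq hG2 h1 with ⟨m, F, i1, i2, hF, h3, hm, ⟨e⟩⟩ | ⟨m, F, i1, i2, hF, hm, h3, ⟨e⟩⟩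
    · have hodd : Odd (Fintype.card F) := by
        rw [hF]
        exact hp.odd_of_ne_two (by omega)
      have h4 := ClSL2Syl.card_PSL2 hodd
      rw [← Nat.card_congr e.toEquiv, hF, hG2] at h4
      have h5 : p * (2 * (q ^ b * r)) = p * (p ^ 2 - 1) := by rw [← h4]; ring
      rcases num_one hp hq hr hqr h3 hm (Nat.eq_of_mul_eq_mul_left hp.pos h5) with h6 | h6
      · exact Or.inl ⟨F, i1, i2, by rw [hF, h6], ⟨e⟩⟩
      · exact Or.inr ⟨F, i1, i2, by rw [hF, h6], ⟨e⟩⟩
    · left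
      have hm0 : 0 < m := by
        rcases Nat.eq_zero_or_pos m with h4 | h4
        · rw [h4] at hm; norm_num at hm; omega
        · exact h4
      obtain ⟨e2⟩ := BRThm.psl_eq_sl (BRThm.two_eq_zero hm0 hF)
      have h4 := Nat.card_congr (e.trans e2).toEquiv
      rw [ClSL2.card_SL2 rfl, hF, hG2] at h4
      have h5 : 1 ≤ 2 ^ m := Nat.one_le_two_pow
      have h6 : p * (q ^ b * r) = p * (2 ^ m * (2 ^ m - 1)) := by
        have h7 : (2 ^ m) ^ 2 - 1 = p * (2 ^ m - 1) := by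
          rw [hm, ← Nat.sq_sub_sq, one_pow]
        rw [h7] at h4
        rw [← mul_assoc, h4]; ring
      have h8 := num_two hp hq hr hqr h3 hm (Nat.eq_of_mul_eq_mul_left hp.pos h6)
      have hF4 : Fintype.card F = 4 := by rw [hF, h8]; norm_num
      obtain ⟨e4⟩ := ClSmall.psl2_four hF4
      haveI : Fact (Nat.Prime 5) := ⟨Nat.prime_five⟩
      obtain ⟨e5⟩ := ClSmall.psl2_five (F := ZMod 5) (ZMod.card 5)
      exact ⟨ZMod 5, inferInstance, inferInstance, ZMod.card 5, ⟨(e.trans e4).trans e5.symm⟩⟩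
  · exfalso
    have h2 : r = p - 1 := by omega
    have hp3 : p = 3 := by
      rcases hp.eq_two_or_odd with h3 | h3
      · omega
      · rcases hr.eq_two_or_odd with h4 | h4
        · omega
        · omega
    have hr' : r = 2 := by omega
    rw [hp3, hr'] at hG'
    have hq2 : q ≠ 2 := by rw [hr'] at hqr; exact hqr
    have hodd : Odd (q ^ b) := (hq.odd_of_ne_two hq2).pow
    obtain ⟨k, hk⟩ := hodd
    obtain ⟨H, hH⟩ := BrauerFowler.exists_index_two_of_two_mod_four (G := G) (by rw [hG', hk]; omega)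
    haveI : H.Normal := Subgroup.normal_of_index_eq_two hH
    rcases IsSimpleGroup.eq_bot_or_eq_top_of_normal H inferInstance with h3 | h3
    · rw [h3, Subgroup.index_bot, hG'] at hH
      have := pow_pos hq.pos b
      omega
    · rw [h3, Subgroup.index_top] at hH
      omega

/-- S0998 -/
theorem main' [IsSimpleGroup G] (h732 : H732.{u}) (hG : ¬ IsCyclic G) (p q r b : ℕ) (hp : p.Prime) (hq : q.Prime)
    (hr : r.Prime) (hpq : p ≠ q) (hpr : p ≠ r) (hqr : q ≠ r) (hG' : Nat.card G = p * r * q ^ b) :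
    (∃ (F : Type) (_ : Field F) (_ : Fintype F), Fintype.card F = 5 ∧
      Nonempty (G ≃* Matrix.ProjectiveSpecialLinearGroup (Fin 2) F)) ∨
    (∃ (F : Type) (_ : Field F) (_ : Fintype F), Fintype.card F = 7 ∧
      Nonempty (G ≃* Matrix.ProjectiveSpecialLinearGroup (Fin 2) F)) := by
  rcases lt_or_gt_of_ne hpr with h1 | h1
  · exact aux h732 hG r q p b hr hq hp hqr.symm hpq.symm h1 (by rw [hG']; ring)
  · exact aux h732 hG p q r b hp hq hr hpq hqr h1 hG'

end Cfsg.Agent.Lib.BTCor
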