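import Cfsg.Agent.Lib.BSWGrp

/-!
# Bender's TI theorem (S3043), I: the basic counting argument (helper4)
-/

set_option autoImplicit false
set_option linter.unusedSectionVars false

namespace Cfsg.Agent.Lib.BTI

open Cfsg.Agent.Lib.Involutions
open scoped Pointwise

variable {G : Type*} [Group G] [Finite G]

/-- The hypotheses of Bender's theorem -/
structure Hyp (M : Subgroup G) (z : G) : Prop where
  M1 : M ≠ ⊥
  TI : ∀ g : G, M ⊓ M.map (MulAut.conj g).toMonoidHom ≠ ⊥ → M.map (MulAut.conj g).toMonoidHom = M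
  hz : orderOf z = 2
  hzN : z ∈ Subgroup.normalizer (M : Set G)
  fac : M ⊔ (Subgroup.normalizer (M : Set G) ⊓ Subgroup.centralizer ({z} : Set G)) =
    Subgroup.normalizer (M : Set G)
  odd : ∀ x ∈ M, x ≠ 1 → Odd (Nat.card ↥(Subgroup.centralizer ({x} : Set G)))
  nn : ¬ M.Normal
  hI : M.index < Nat.card {g : G // orderOf g = 2}

variable {M : Subgroup G} {z : G}

theorem conj_ne_one' {a g : G} (ha : a ≠ 1) : g * a * g⁻¹ ≠ 1 := by
  intro h2
  apply ha
  have : a = g⁻¹ * (g * a * g⁻¹) * g := by group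
  rw [this, h2]; group

theorem Hyp.ti (h : Hyp M z) {g x : G} (hx : x ∈ M) (hx1 : x ≠ 1) (hg : g * x * g⁻¹ ∈ M) :
    g ∈ Subgroup.normalizer (M : Set G) := by
  have h1 : M ⊓ M.map (MulAut.conj g).toMonoidHom ≠ ⊥ := by
    intro h2
    have h3 : g * x * g⁻¹ ∈ M ⊓ M.map (MulAut.conj g).toMonoidHom := ⟨hg, ⟨x, hx, rfl⟩⟩
    rw [h2, Subgroup.mem_bot] at h3
    exact conj_ne_one' hx1 h3
  have h2 := h.TI g h1
  rw [Subgroup.mem_normalizer_iff]
  intro y
  constructor
  · intro hy
    rw [← h2]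
    exact ⟨y, hy, rfl⟩
  · intro hy
    have h3 : g * y * g⁻¹ ∈ M.map (MulAut.conj g).toMonoidHom := by rw [h2]; exact hy
    obtain ⟨w, hw, hwy⟩ := h3
    have h4 : g * w * g⁻¹ = g * y * g⁻¹ := hwy
    have h5 : w = y := mul_left_cancel (mul_right_cancel h4)
    rw [← h5]; exact hw

theorem Hyp.no_comm (h : Hyp M z) {x u : G} (hx : x ∈ M) (hx1 : x ≠ 1) (hu : orderOf u = 2) :
    u * x ≠ x * u := by
  intro hux
  have h1 := h.odd x hx hx1
  have h2 : u ∈ Subgroup.centralizer ({x} : Set G) := Subgroup.mem_centralizer_singleton_iff.2 hux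
  have h3 : orderOf u ∣ Nat.card (Subgroup.centralizer ({x} : Set G)) := by
    rw [← Subgroup.orderOf_mk u h2]; exact orderOf_dvd_natCard _
  rw [hu] at h3
  obtain ⟨k, hk⟩ := h1
  omega

theorem Hyp.inv (h : Hyp M z) {u : G} (hu : orderOf u = 2)
    (huN : u ∈ Subgroup.normalizer (M : Set G)) : ∀ x ∈ M, u * x * u⁻¹ = x⁻¹ := by
  apply BSW.inverts_of_fpf hu (fun x hx => (Subgroup.mem_normalizer_iff.1 huN x).1 hx)
  intro x hx hxu
  by_contra hx1
  apply h.no_comm hx hx1 hu
  calc u * x = (u * x * u⁻¹) * u := by group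
    _ = x * u := by rw [hxu]

theorem Hyp.comm (h : Hyp M z) : ∀ x ∈ M, ∀ y ∈ M, x * y = y * x :=
  BSW.comm_of_inverted (h.inv h.hz h.hzN)

theorem Hyp.odd_M (h : Hyp M z) : Odd (Nat.card M) := by
  by_contra hodd
  rw [Nat.not_odd_iff_even] at hodd
  obtain ⟨⟨u, hu⟩, hu2⟩ := exists_involution (G := M) hodd
  rw [Subgroup.orderOf_mk] at hu2
  exact h.no_comm hu (ne_one hu2) hu2 rfl

theorem Hyp.orderOf_ne_two (h : Hyp M z) {x : G} (hx : x ∈ M) : orderOf x ≠ 2 := by
  intro h2
  have h3 : orderOf x ∣ Nat.card M := by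
    rw [← Subgroup.orderOf_mk x hx]; exact orderOf_dvd_natCard _
  rw [h2] at h3
  obtain ⟨k, hk⟩ := h.odd_M
  omega

theorem Hyp.sq_eq_one (h : Hyp M z) {x : G} (hx : x ∈ M) (hx2 : x * x = 1) : x = 1 := by
  by_contra hx1
  exact h.orderOf_ne_two hx (orderOf_eq_prime (by rw [pow_two]; exact hx2) hx1)

/-- square roots in `M` -/
theorem Hyp.root (h : Hyp M z) {x : G} (hx : x ∈ M) : ∃ y ∈ M, y * y = x := by
  obtain ⟨k, hk⟩ := h.odd_M
  refine ⟨x ^ (k + 1), M.pow_mem hx _, ?_⟩
  rw [← pow_add]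
  have h1 : x ^ (Nat.card M) = 1 := by
    have := pow_card_eq_one' (x := (⟨x, hx⟩ : M))
    exact congrArg Subtype.val this
  have h2 : k + 1 + (k + 1) = Nat.card M + 1 := by omega
  rw [h2, pow_succ, h1, one_mul]

theorem Hyp.invol_mul (h : Hyp M z) {m : G} (hm : m ∈ M) {u : G} (hu : orderOf u = 2)
    (huN : u ∈ Subgroup.normalizer (M : Set G)) : orderOf (m * u) = 2 := by
  have h1 := h.inv hu huN m hm
  apply orderOf_eq_prime
  · rw [pow_two]
    calc m * u * (m * u) = m * (u * m * u⁻¹) * (u * u) := by group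
      _ = 1 := by rw [h1, mul_self hu]; group
  · intro h2
    have h3 : m = u⁻¹ := eq_inv_of_mul_eq_one_left h2
    rw [inv_self hu] at h3
    rw [h3] at hm
    exact h.orderOf_ne_two hm hu

/-- involutions of `N(M)` -/
theorem Hyp.invol_N (h : Hyp M z) {u : G} (hu : orderOf u = 2)
    (huN : u ∈ Subgroup.normalizer (M : Set G)) : ∃ m ∈ M, u = m * z := by
  have h0 := huN
  rw [← h.fac] at h0
  have h1 : (Subgroup.normalizer (M : Set G) ⊓ Subgroup.centralizer ({z} : Set G)) ≤
    Subgroup.normalizer (M : Set G) := inf_le_left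
  rw [← SetLike.mem_coe, Subgroup.coe_mul_of_right_le_normalizer_left _ _ h1, Set.mem_mul] at h0
  obtain ⟨m, hm, c, hc, rfl⟩ := h0
  refine ⟨m, hm, ?_⟩
  congr 1
  have hcz : c * z = z * c := Subgroup.mem_centralizer_singleton_iff.1 hc.2
  -- `c` inverts `M`
  have hcM : ∀ x ∈ M, c * x * c⁻¹ = x⁻¹ := by
    intro x hx
    have h2 := h.inv hu huN x hx
    calc c * x * c⁻¹ = m⁻¹ * ((m * c) * x * (m * c)⁻¹) * m := by group
      _ = m⁻¹ * x⁻¹ * m := by rw [h2]
      _ = x⁻¹ := by rw [h.comm m⁻¹ (M.inv_mem hm) x⁻¹ (M.inv_mem hx)]; group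
  have hc2 : c * c = 1 := by
    have h2 : (m * c) * (m * c) = 1 := mul_self hu
    calc c * c = m * m⁻¹ * (c * c) := by group
      _ = m * (c * m * c⁻¹) * (c * c) := by rw [hcM m hm]
      _ = (m * c) * (m * c) := by group
      _ = 1 := h2
  obtain ⟨x, hx, hx1⟩ := M.bot_or_exists_ne_one.resolve_left h.M1
  have hzx := h.inv h.hz h.hzN x hx
  have h3 : (c * z) * (c * z) = 1 := by
    calc (c * z) * (c * z) = c * (z * c) * z := by group
      _ = c * (c * z) * z := by rw [hcz]
      _ = (c * c) * (z * z) := by group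
      _ = 1 := by rw [hc2, mul_self h.hz, one_mul]
  have h4 : (c * z) * x = x * (c * z) := by
    calc (c * z) * x = c * (z * x * z⁻¹) * z := by group
      _ = c * x⁻¹ * z := by rw [hzx]
      _ = (c * x⁻¹ * c⁻¹) * (c * z) := by group
      _ = x * (c * z) := by rw [hcM _ (M.inv_mem hx), inv_inv]
  by_contra hcz1
  have h5 : c * z ≠ 1 := by
    intro h6
    apply hcz1
    have : c = z⁻¹ := eq_inv_of_mul_eq_one_left h6
    rw [this, inv_self h.hz]
  exact h.no_comm hx hx1 (orderOf_eq_prime (by rw [pow_two]; exact h3) h5) h4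

theorem Hyp.unique (h : Hyp M z) {u m : G} (hu : u * u = 1)
    (huN : u ∉ Subgroup.normalizer (M : Set G)) (hm : m ∈ M) (hum : (u * m) * (u * m) = 1) :
    m = 1 := by
  by_contra hm1
  apply huN
  apply h.ti hm hm1
  have h1 : u⁻¹ = u := inv_eq_of_mul_eq_one_left hu
  have h2 : u * m * u⁻¹ = m⁻¹ := by
    rw [h1]
    calc u * m * u = (u * m) * (u * m) * m⁻¹ := by group
      _ = m⁻¹ := by rw [hum, one_mul]
  rw [h2]; exact M.inv_mem hm

theorem Hyp.unique' (h : Hyp M z) {g m m' : G}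
    (hg : g ∉ Subgroup.normalizer (M : Set G)) (hm : m ∈ M) (hm' : m' ∈ M)
    (h1 : orderOf (g * m) = 2) (h2 : orderOf (g * m') = 2) : m = m' := by
  have h3 : g * m ∉ Subgroup.normalizer (M : Set G) := fun h4 => hg (by
    have := mul_mem h4 (Subgroup.inv_mem _ (Subgroup.le_normalizer (H := M) hm))
    simpa using this)
  have h4 : m⁻¹ * m' = 1 := by
    apply h.unique (mul_self h1) h3 (M.mul_mem (M.inv_mem hm) hm')
    have : g * m * (m⁻¹ * m') = g * m' := by group
    rw [this]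
    exact mul_self h2
  exact inv_mul_eq_one.1 h4

/-- the number of involutions of `N(M)` -/
theorem Hyp.card_invol_N (h : Hyp M z) :
    Nat.card {g : G // orderOf g = 2 ∧ g ∈ Subgroup.normalizer (M : Set G)} = Nat.card M := by
  refine (Nat.card_congr (Equiv.ofBijective (fun m : M => (⟨m * z, h.invol_mul m.2 h.hz h.hzN,
    mul_mem (Subgroup.le_normalizer m.2) h.hzN⟩ :
    {g : G // orderOf g = 2 ∧ g ∈ Subgroup.normalizer (M : Set G)})) ⟨?_, ?_⟩)).symm
  · intro m m' hm
    have : (m : G) * z = m' * z := congrArg Subtype.val hm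
    exact Subtype.ext (mul_right_cancel this)
  · rintro ⟨u, hu, huN⟩
    obtain ⟨m, hm, rfl⟩ := h.invol_N hu huN
    exact ⟨⟨m, hm⟩, rfl⟩

theorem Hyp.card_invol (h : Hyp M z) : Nat.card {g : G // orderOf g = 2} =
    Nat.card {g : G // orderOf g = 2 ∧ g ∉ Subgroup.normalizer (M : Set G)} + Nat.card M := by
  classical
  rw [← h.card_invol_N, ← Nat.card_sum]
  refine Nat.card_congr ⟨fun g => if hg : (g : G) ∈ Subgroup.normalizer (M : Set G) then
    Sum.inr ⟨g, g.2, hg⟩ else Sum.inl ⟨g, g.2, hg⟩, fun s => Sum.elim (fun g => ⟨g.1, g.2.1⟩)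
      (fun g => ⟨g.1, g.2.1⟩) s, ?_, ?_⟩
  · intro g
    by_cases hg : (g : G) ∈ Subgroup.normalizer (M : Set G) <;> simp [hg]
  · rintro (g | g)
    · have := g.2.2
      simp [this]
    · have := g.2.2
      simp [this]

/-- pairs (coset representative, element of `M`) -/
theorem card_pairs (M : Subgroup G) :
    Nat.card {p : G × M // p.1 ∉ Subgroup.normalizer (M : Set G) ∧ orderOf (p.1 * p.2) = 2} =
    Nat.card {g : G // orderOf g = 2 ∧ g ∉ Subgroup.normalizer (M : Set G)} * Nat.card M := by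
  have key : ∀ (g : G) (m : M), g * m ∉ Subgroup.normalizer (M : Set G) ↔
      g ∉ Subgroup.normalizer (M : Set G) := by
    intro g m
    rw [not_iff_not]
    exact Subgroup.mul_mem_cancel_right _ (Subgroup.le_normalizer m.2)
  rw [← Nat.card_prod]
  refine Nat.card_congr ⟨fun p => (⟨p.1.1 * p.1.2, p.2.2, (key _ _).2 p.2.1⟩, p.1.2),
    fun p => ⟨(p.1.1 * (p.2 : G)⁻¹, p.2), ?_, ?_⟩, ?_, ?_⟩
  · have := (key p.1.1 p.2⁻¹).2 p.1.2.2
    simpa using this
  · simpa using p.1.2.1
  · rintro ⟨⟨g, m⟩, hp⟩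
    simp
  · rintro ⟨⟨g, hg⟩, m⟩
    simp

/-- **Bender's counting**: every coset of `M` outside `N(M)` contains a unique involution. -/
theorem Hyp.star (h : Hyp M z) {g : G} (hg : g ∉ Subgroup.normalizer (M : Set G)) :
    ∃ m ∈ M, orderOf (g * m) = 2 := by
  classical
  cases nonempty_fintype G
  by_contra hcon
  push Not at hcon
  set N := Subgroup.normalizer (M : Set G) with hN
  let X : Finset G := Finset.univ.filter (fun g => g ∉ N ∧ ∀ m ∈ M, orderOf (g * m) ≠ 2)
  let Y : Finset G := Finset.univ.filter (fun g => g ∉ N ∧ ∃ m ∈ M, orderOf (g * m) = 2)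
  have hXY : X.card + Y.card + Nat.card N = Nat.card G := by
    have h1 : (Finset.univ.filter (fun g : G => g ∈ N)).card = Nat.card N := by
      rw [Nat.card_eq_fintype_card, Fintype.card_subtype]
    have h2 : Disjoint X Y := by
      rw [Finset.disjoint_left]
      intro a ha hb
      rw [Finset.mem_filter] at ha hb
      obtain ⟨m, hm, hm2⟩ := hb.2.2
      exact ha.2.2 m hm hm2
    have h3 : Disjoint (X ∪ Y) (Finset.univ.filter (fun g : G => g ∈ N)) := by
      rw [Finset.disjoint_left]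
      intro a ha hb
      rw [Finset.mem_union] at ha
      rw [Finset.mem_filter] at hb
      rcases ha with ha | ha
      · exact (Finset.mem_filter.1 ha).2.1 hb.2
      · exact (Finset.mem_filter.1 ha).2.1 hb.2
    rw [← h1, ← Finset.card_union_of_disjoint h2, ← Finset.card_union_of_disjoint h3,
      Nat.card_eq_fintype_card, ← Finset.card_univ]
    congr 1
    ext a
    simp only [Finset.mem_union, Finset.mem_filter, Finset.mem_univ, true_and, iff_true, X, Y]
    by_cases ha : a ∈ N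
    · right; exact ha
    · left
      by_cases hb : ∃ m ∈ M, orderOf (a * m) = 2
      · right; exact ⟨ha, hb⟩
      · left
        push Not at hb
        exact ⟨ha, hb⟩
  have hY : Y.card = Nat.card {g : G // orderOf g = 2 ∧ g ∉ N} * Nat.card M := by
    rw [← card_pairs M, Nat.card_eq_fintype_card (α := {p : G × M // p.1 ∉ N ∧ orderOf (p.1 * p.2) = 2})]
    symm
    rw [← Finset.card_univ]
    refine Finset.card_bij (fun p _ => p.1.1) ?_ ?_ ?_
    · intro p _
      rw [Finset.mem_filter]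
      exact ⟨Finset.mem_univ _, p.2.1, p.1.2, p.1.2.2, p.2.2⟩
    · rintro ⟨⟨a, m⟩, hp⟩ _ ⟨⟨a', m'⟩, hp'⟩ _ haa
      have haa' : a = a' := haa
      subst haa'
      have := h.unique' hp.1 m.2 m'.2 hp.2 hp'.2
      have hmm : m = m' := Subtype.ext this
      subst hmm
      rfl
    · intro a ha
      rw [Finset.mem_filter] at ha
      obtain ⟨-, haN, m, hm, ham⟩ := ha
      exact ⟨⟨(a, ⟨m, hm⟩), haN, ham⟩, Finset.mem_univ _, rfl⟩
  have hX : Nat.card M * Nat.card M ≤ X.card := by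
    rw [← Nat.card_prod, Nat.card_eq_fintype_card, ← Finset.card_univ]
    refine Finset.card_le_card_of_injOn (fun p : M × M => (p.1 : G) * g * p.2) ?_ ?_
    · rintro ⟨a, b⟩ -
      rw [Finset.mem_coe, Finset.mem_filter]
      refine ⟨Finset.mem_univ _, ?_, ?_⟩
      · intro h1
        apply hg
        have h2 : g = (a : G)⁻¹ * (a * g * b) * (b : G)⁻¹ := by group
        rw [h2]
        exact mul_mem (mul_mem (Subgroup.inv_mem _ (Subgroup.le_normalizer a.2)) h1)
          (Subgroup.inv_mem _ (Subgroup.le_normalizer b.2))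
      · intro m hm h1
        have h2 : (a : G)⁻¹ * ((a : G) * g * b * m) * ((a : G)⁻¹)⁻¹ = g * (b * m * a) := by group
        have h3 : orderOf ((a : G)⁻¹ * ((a : G) * g * b * m) * ((a : G)⁻¹)⁻¹) = 2 := by
          rw [orderOf_conj]; exact h1
        rw [h2] at h3
        exact hcon _ (M.mul_mem (M.mul_mem b.2 hm) a.2) h3
    · rintro ⟨a, b⟩ - ⟨a', b'⟩ - hab
      have h1 : (a : G) * g * b = a' * g * b' := hab
      have h2 : g * ((b : G) * (b' : G)⁻¹) * g⁻¹ = (a : G)⁻¹ * a' := by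
        calc g * ((b : G) * (b' : G)⁻¹) * g⁻¹ = (a : G)⁻¹ * (a * g * b) * (b' : G)⁻¹ * g⁻¹ := by group
          _ = (a : G)⁻¹ * (a' * g * b') * (b' : G)⁻¹ * g⁻¹ := by rw [h1]
          _ = _ := by group
      have h3 : (b : G) * (b' : G)⁻¹ = 1 := by
        by_contra h4
        exact hg (h.ti (M.mul_mem b.2 (M.inv_mem b'.2)) h4 (by
          rw [h2]; exact M.mul_mem (M.inv_mem a.2) a'.2))
      have h4 : b = b' := Subtype.ext (mul_inv_eq_one.1 h3)
      subst h4
      have h5 : a = a' := Subtype.ext (mul_right_cancel (mul_right_cancel h1))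
      subst h5
      rfl
  have h1 := h.card_invol
  have h2 := h.hI
  have h3 := M.card_mul_index
  have h4 : 0 < Nat.card M := Nat.card_pos
  have h5 : 0 < Nat.card N := Nat.card_pos
  rw [h1] at h2
  rw [hY] at hXY
  set k := Nat.card {g : G // orderOf g = 2 ∧ g ∉ N}
  have h6 : Nat.card M * (M.index + 1) ≤ Nat.card M * (k + Nat.card M) := Nat.mul_le_mul_left _ h2
  nlinarith

end Cfsg.Agent.Lib.BTI
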