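import Cfsg.Agent.Lib.BTI1

/-!
# Bender's TI theorem (S3043), II: the centralizer of `z` (helper4)
-/

set_option autoImplicit false
set_option linter.unusedSectionVars false

namespace Cfsg.Agent.Lib.BTI

open Cfsg.Agent.Lib.Involutions
open scoped Pointwise

variable {G : Type*} [Group G] [Finite G] {M : Subgroup G} {z : G}

local notation "N(" M ")" => Subgroup.normalizer (SetLike.coe M)
local notation "C(" z ")" => Subgroup.centralizer ({z} : Set _)

theorem Hyp.exists_not_mem (h : Hyp M z) : ∃ g, g ∉ N(M) := by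
  by_contra hcon
  push Not at hcon
  apply h.nn
  exact Subgroup.normalizer_eq_top_iff.1 (by rw [eq_top_iff]; exact fun g _ => hcon g)

theorem Hyp.zmul (h : Hyp M z) {m : G} (hm : m ∈ M) : z * m = m⁻¹ * z := by
  have := h.inv h.hz h.hzN m hm
  calc z * m = (z * m * z⁻¹) * z := by group
    _ = m⁻¹ * z := by rw [this]

theorem Hyp.conj_z (h : Hyp M z) {y : G} (hy : y ∈ M) : y * z * y⁻¹ = (y * y) * z := by
  have := h.zmul (M.inv_mem hy)
  rw [inv_inv] at this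
  rw [mul_assoc, this]; group

theorem Hyp.exists_conj_z (h : Hyp M z) {i : G} (hi : orderOf i = 2) (hiN : i ∈ N(M)) :
    ∃ y ∈ M, y * z * y⁻¹ = i := by
  obtain ⟨m, hm, rfl⟩ := h.invol_N hi hiN
  obtain ⟨y, hy, rfl⟩ := h.root hm
  exact ⟨y, hy, h.conj_z hy⟩

theorem Hyp.exists_comm (h : Hyp M z) {u : G} (hu : orderOf u = 2) (huN : u ∉ N(M)) :
    ∃ i, orderOf i = 2 ∧ i ∈ N(M) ∧ u * i = i * u := by
  have h1 : u * z ∉ N(M) := fun h2 => huN (by
    have := mul_mem h2 (Subgroup.inv_mem _ h.hzN)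
    simpa using this)
  obtain ⟨m, hm, hmo⟩ := h.star h1
  refine ⟨z * m, ?_, mul_mem h.hzN (Subgroup.le_normalizer hm), ?_⟩
  · rw [h.zmul hm]; exact h.invol_mul (M.inv_mem hm) h.hz h.hzN
  · have h2 : (u * (z * m)) * (u * (z * m)) = 1 := by
      have := mul_self hmo
      rwa [mul_assoc u z m] at this
    have h3 : (z * m) * (z * m) = 1 := by
      rw [h.zmul hm]; exact mul_self (h.invol_mul (M.inv_mem hm) h.hz h.hzN)
    have hui := inv_self hu
    calc u * (z * m) = ((u * (z * m)) * (u * (z * m))) * (z * m)⁻¹ * u⁻¹ := by group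
      _ = (z * m)⁻¹ * u⁻¹ := by rw [h2]; group
      _ = z * m * u := by rw [hui, inv_eq_of_mul_eq_one_left h3]

theorem Hyp.unique_comm (h : Hyp M z) {u i i' : G} (hu : orderOf u = 2) (huN : u ∉ N(M))
    (hi : orderOf i = 2) (hiN : i ∈ N(M)) (hui : u * i = i * u)
    (hi' : orderOf i' = 2) (hiN' : i' ∈ N(M)) (hui' : u * i' = i' * u) : i = i' := by
  have h1 : u * z ∉ N(M) := fun h2 => huN (by
    have := mul_mem h2 (Subgroup.inv_mem _ h.hzN)
    simpa using this)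
  have key : ∀ i, orderOf i = 2 → i ∈ N(M) → u * i = i * u → ∃ m ∈ M, i = z * m ∧
      orderOf (u * z * m) = 2 := by
    intro i hi hiN hui
    obtain ⟨m, hm, rfl⟩ := h.invol_N hi hiN
    have h2 : m * z = z * m⁻¹ := by
      rw [h.zmul (M.inv_mem hm), inv_inv]
    refine ⟨m⁻¹, M.inv_mem hm, h2, ?_⟩
    rw [mul_assoc, ← h2]
    apply orderOf_eq_prime
    · rw [pow_two]
      calc u * (m * z) * (u * (m * z)) = (m * z * u) * (u * (m * z)) := by rw [hui]
        _ = (m * z) * (u * u) * (m * z) := by group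
        _ = 1 := by rw [mul_self hu, mul_one, mul_self hi]
    · intro h3
      apply huN
      have h4 : u = (m * z)⁻¹ := eq_inv_of_mul_eq_one_left h3
      rw [h4]; exact Subgroup.inv_mem _ hiN
  obtain ⟨m, hm, rfl, hmo⟩ := key i hi hiN hui
  obtain ⟨m', hm', rfl, hmo'⟩ := key i' hi' hiN' hui'
  rw [h.unique' h1 hm hm' hmo hmo']

theorem Hyp.outside (h : Hyp M z) {g : G} (hg : g ∈ C(z)) (hgN : g ∉ N(M)) : orderOf g = 2 := by
  obtain ⟨m, hm, hmo⟩ := h.star hgN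
  have hgz := Subgroup.mem_centralizer_singleton_iff.1 hg
  have h1 : z * (g * m) * z⁻¹ = g * m⁻¹ := by
    calc z * (g * m) * z⁻¹ = (z * g) * m * z⁻¹ := by group
      _ = (g * z) * m * z⁻¹ := by rw [hgz]
      _ = g * (z * m) * z⁻¹ := by group
      _ = g * m⁻¹ := by rw [h.zmul hm]; group
  have h2 : orderOf (g * m⁻¹) = 2 := by
    rw [← h1, orderOf_conj]; exact hmo
  have h3 := h.unique' hgN hm (M.inv_mem hm) hmo h2
  have h4 : m * m = 1 := by
    nth_rewrite 1 [h3]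
    exact inv_mul_cancel m
  rw [h.sq_eq_one hm h4, mul_one] at hmo
  exact hmo

theorem Hyp.exists_outside (h : Hyp M z) : ∃ u ∈ C(z), u ∉ N(M) := by
  obtain ⟨g, hg⟩ := h.exists_not_mem
  obtain ⟨m, hm, hmo⟩ := h.star hg
  have hu : g * m ∉ N(M) := fun h2 => hg (by
    have := mul_mem h2 (Subgroup.inv_mem _ (Subgroup.le_normalizer (H := M) hm))
    simpa using this)
  obtain ⟨i, hi, hiN, hui⟩ := h.exists_comm hmo hu
  obtain ⟨y, hy, rfl⟩ := h.exists_conj_z hi hiN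
  have hyN : y ∈ N(M) := Subgroup.le_normalizer hy
  refine ⟨y⁻¹ * (g * m) * y, ?_, ?_⟩
  · rw [Subgroup.mem_centralizer_singleton_iff]
    calc y⁻¹ * (g * m) * y * z = y⁻¹ * ((g * m) * (y * z * y⁻¹)) * y := by group
      _ = y⁻¹ * ((y * z * y⁻¹) * (g * m)) * y := by rw [hui]
      _ = _ := by group
  · intro h2
    apply hu
    have h3 : g * m = y * (y⁻¹ * (g * m) * y) * y⁻¹ := by group
    rw [h3]
    exact mul_mem (mul_mem hyN h2) (Subgroup.inv_mem _ hyN)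

theorem Hyp.M_inf (h : Hyp M z) {x : G} (hx : x ∈ M) (hxz : x ∈ C(z)) : x = 1 := by
  by_contra hx1
  exact h.no_comm hx hx1 h.hz (Subgroup.mem_centralizer_singleton_iff.1 hxz).symm

theorem Hyp.decomp_N (h : Hyp M z) {g : G} (hg : g ∈ N(M)) :
    ∃ m ∈ M, ∃ a ∈ N(M) ⊓ C(z), g = m * a := by
  have h1 : (N(M) ⊓ C(z)) ≤ N(M) := inf_le_left
  rw [← h.fac, ← SetLike.mem_coe, Subgroup.coe_mul_of_right_le_normalizer_left _ _ h1, Set.mem_mul] at hg
  obtain ⟨m, hm, c, hc, rfl⟩ := hg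
  exact ⟨m, hm, c, hc, rfl⟩

theorem Hyp.card_N (h : Hyp M z) :
    Nat.card N(M) = Nat.card M * Nat.card (N(M) ⊓ C(z) : Subgroup G) := by
  rw [← Nat.card_prod]
  symm
  refine Nat.card_congr (Equiv.ofBijective (fun p => (⟨p.1 * p.2,
    mul_mem (Subgroup.le_normalizer p.1.2) p.2.2.1⟩ : N(M))) ⟨?_, ?_⟩)
  · rintro ⟨⟨m, hm⟩, ⟨a, ha⟩⟩ ⟨⟨m', hm'⟩, ⟨a', ha'⟩⟩ hh
    have h1 : m * a = m' * a' := congrArg Subtype.val hh
    have h2 : m'⁻¹ * m = a' * a⁻¹ := by
      calc m'⁻¹ * m = m'⁻¹ * (m * a) * a⁻¹ := by group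
        _ = m'⁻¹ * (m' * a') * a⁻¹ := by rw [h1]
        _ = a' * a⁻¹ := by group
    have h3 : m'⁻¹ * m = 1 := by
      apply h.M_inf (M.mul_mem (M.inv_mem hm') hm)
      rw [h2]
      exact mul_mem ha'.2 (Subgroup.inv_mem _ ha.2)
    have h4 : m = m' := (inv_mul_eq_one.1 h3).symm
    subst h4
    have h5 : a = a' := mul_left_cancel h1
    subst h5
    rfl
  · rintro ⟨g, hg⟩
    obtain ⟨m, hm, a, ha, rfl⟩ := h.decomp_N hg
    exact ⟨(⟨m, hm⟩, ⟨a, ha⟩), rfl⟩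

theorem Hyp.card_out (h : Hyp M z) :
    Nat.card {g : G // orderOf g = 2 ∧ g ∉ N(M)} * Nat.card M + Nat.card N(M) = Nat.card G := by
  classical
  cases nonempty_fintype G
  rw [← card_pairs M]
  have h1 : Nat.card {p : G × M // p.1 ∉ N(M) ∧ orderOf (p.1 * p.2) = 2} =
      Nat.card {g : G // g ∉ N(M)} := by
    refine Nat.card_congr (Equiv.ofBijective (fun p => ⟨p.1.1, p.2.1⟩) ⟨?_, ?_⟩)
    · rintro ⟨⟨a, m⟩, hp⟩ ⟨⟨a', m'⟩, hp'⟩ haa
      have haa' : a = a' := congrArg Subtype.val haa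
      subst haa'
      have := h.unique' hp.1 m.2 m'.2 hp.2 hp'.2
      have hmm : m = m' := Subtype.ext this
      subst hmm
      rfl
    · rintro ⟨g, hg⟩
      obtain ⟨m, hm, hmo⟩ := h.star hg
      exact ⟨⟨(g, ⟨m, hm⟩), hg, hmo⟩, rfl⟩
  rw [h1]
  rw [Nat.card_eq_fintype_card, Nat.card_eq_fintype_card, Nat.card_eq_fintype_card, add_comm]
  rw [Fintype.card_subtype_compl (fun g : G => g ∈ N(M))]
  have : Fintype.card N(M) = Fintype.card {x // x ∈ N(M)} := rfl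
  rw [this]
  exact Nat.add_sub_cancel' (Fintype.card_subtype_le _)

theorem Hyp.card_I (h : Hyp M z) :
    Nat.card {g : G // orderOf g = 2 ∧ g ∉ N(M)} =
      Nat.card M * Nat.card {u : G // u ∈ C(z) ∧ u ∉ N(M)} := by
  rw [← Nat.card_prod]
  symm
  have hconj : ∀ (y : M) (u : G), (y : G) * u * (y : G)⁻¹ ∉ N(M) ↔ u ∉ N(M) := by
    intro y u
    have hyN : (y : G) ∈ N(M) := Subgroup.le_normalizer y.2
    rw [not_iff_not]
    constructor
    · intro h2
      have h3 : u = (y : G)⁻¹ * (y * u * (y : G)⁻¹) * y := by group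
      rw [h3]
      exact mul_mem (mul_mem (Subgroup.inv_mem _ hyN) h2) hyN
    · intro h2
      exact mul_mem (mul_mem hyN h2) (Subgroup.inv_mem _ hyN)
  refine Nat.card_congr (Equiv.ofBijective (fun p => ⟨(p.1 : G) * p.2.1 * (p.1 : G)⁻¹, ?_, ?_⟩)
    ⟨?_, ?_⟩)
  · rw [orderOf_conj]; exact h.outside p.2.2.1 p.2.2.2
  · exact (hconj _ _).2 p.2.2.2
  · rintro ⟨y, ⟨u, hu⟩⟩ ⟨y', ⟨u', hu'⟩⟩ hh
    have h1 : (y : G) * u * (y : G)⁻¹ = y' * u' * (y' : G)⁻¹ := congrArg Subtype.val hh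
    have hyN : ∀ y : M, orderOf ((y : G) * z * (y : G)⁻¹) = 2 ∧ (y : G) * z * (y : G)⁻¹ ∈ N(M) := by
      intro y
      refine ⟨by rw [orderOf_conj]; exact h.hz, ?_⟩
      exact mul_mem (mul_mem (Subgroup.le_normalizer y.2) h.hzN)
        (Subgroup.inv_mem _ (Subgroup.le_normalizer y.2))
    have hcomm : ∀ (y : M) (u : G), u ∈ C(z) → ((y : G) * u * (y : G)⁻¹) * (y * z * (y : G)⁻¹) =
        (y * z * (y : G)⁻¹) * ((y : G) * u * (y : G)⁻¹) := by
      intro y u hu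
      have := Subgroup.mem_centralizer_singleton_iff.1 hu
      calc ((y : G) * u * (y : G)⁻¹) * (y * z * (y : G)⁻¹) = y * (u * z) * (y : G)⁻¹ := by group
        _ = y * (z * u) * (y : G)⁻¹ := by rw [this]
        _ = _ := by group
    have h2 : (y : G) * z * (y : G)⁻¹ = y' * z * (y' : G)⁻¹ := by
      apply h.unique_comm (u := (y : G) * u * (y : G)⁻¹)
        (by rw [orderOf_conj]; exact h.outside hu.1 hu.2) ((hconj _ _).2 hu.2)
        (hyN y).1 (hyN y).2 (hcomm y u hu.1) (hyN y').1 (hyN y').2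
      rw [h1]
      exact hcomm y' u' hu'.1
    rw [h.conj_z y.2, h.conj_z y'.2] at h2
    have h3 : (y : G) * y = y' * y' := mul_right_cancel h2
    have h4 : ((y' : G)⁻¹ * y) * ((y' : G)⁻¹ * y) = 1 := by
      have h5 := h.comm _ (M.inv_mem y'.2) _ y.2
      calc ((y' : G)⁻¹ * y) * ((y' : G)⁻¹ * y) = (y' : G)⁻¹ * y * ((y' : G)⁻¹ * y) := by group
        _ = (y' : G)⁻¹ * y * (y * (y' : G)⁻¹) := by rw [h5]
        _ = (y' : G)⁻¹ * (y * y) * (y' : G)⁻¹ := by group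
        _ = 1 := by rw [h3]; group
    have h5 := h.sq_eq_one (M.mul_mem (M.inv_mem y'.2) y.2) h4
    have h6 : y = y' := Subtype.ext (inv_mul_eq_one.1 h5).symm
    subst h6
    have h7 : u = u' := mul_left_cancel (mul_right_cancel h1)
    subst h7
    rfl
  · rintro ⟨u, hu, huN⟩
    obtain ⟨i, hi, hiN, hui⟩ := h.exists_comm hu huN
    obtain ⟨y, hy, rfl⟩ := h.exists_conj_z hi hiN
    refine ⟨(⟨y, hy⟩, ⟨y⁻¹ * u * y, ?_, ?_⟩), ?_⟩
    · rw [Subgroup.mem_centralizer_singleton_iff]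
      calc y⁻¹ * u * y * z = y⁻¹ * (u * (y * z * y⁻¹)) * y := by group
        _ = y⁻¹ * ((y * z * y⁻¹) * u) * y := by rw [hui]
        _ = _ := by group
    · have := (hconj ⟨y⁻¹, M.inv_mem hy⟩ u).2 huN
      simpa using this
    · apply Subtype.ext
      show y * (y⁻¹ * u * y) * y⁻¹ = u
      group

theorem Hyp.card_H (h : Hyp M z) : Nat.card {u : G // u ∈ C(z) ∧ u ∉ N(M)} +
    Nat.card (N(M) ⊓ C(z) : Subgroup G) = Nat.card C(z) := by
  classical
  rw [← Nat.card_sum]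
  symm
  refine Nat.card_congr ⟨fun g => if hg : (g : G) ∈ N(M) then
    Sum.inr ⟨g, Subgroup.mem_inf.2 ⟨hg, g.2⟩⟩ else Sum.inl ⟨g, g.2, hg⟩,
    fun s => Sum.elim (fun g => ⟨g.1, g.2.1⟩) (fun g => ⟨g.1, (Subgroup.mem_inf.1 g.2).2⟩) s, ?_, ?_⟩
  · intro g
    by_cases hg : (g : G) ∈ N(M) <;> simp [hg]
  · rintro (g | g)
    · have := g.2.2
      simp [this]
    · have := (Subgroup.mem_inf.1 g.2).1
      simp [this]

theorem Hyp.inverts (h : Hyp M z) {u a : G} (hu : u ∈ C(z)) (huN : u ∉ N(M))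
    (ha : a ∈ N(M) ⊓ C(z)) : u * a * u⁻¹ = a⁻¹ := by
  have h1 : u * a ∉ N(M) := fun h2 => huN (by
    have := mul_mem h2 (Subgroup.inv_mem _ ha.1)
    simpa using this)
  have h2 := mul_self (h.outside (mul_mem hu ha.2) h1)
  have h3 := inv_self (h.outside hu huN)
  rw [h3]
  calc u * a * u = (u * a) * (u * a) * a⁻¹ := by group
    _ = a⁻¹ := by rw [h2, one_mul]

theorem Hyp.comm_A (h : Hyp M z) : ∀ a ∈ N(M) ⊓ C(z), ∀ b ∈ N(M) ⊓ C(z), a * b = b * a := by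
  obtain ⟨u, hu, huN⟩ := h.exists_outside
  exact BSW.comm_of_inverted (fun a ha => h.inverts hu huN ha)

theorem Hyp.dich (h : Hyp M z) : (∀ g ∈ C(z), g * g = 1) ∨
    (∀ u ∈ C(z), u ∉ N(M) → ∀ v ∈ C(z), v ∉ N(M) → u * v ∈ N(M)) := by
  by_cases h1 : ∀ g ∈ C(z), g * g = 1
  · exact Or.inl h1
  · right
    push Not at h1
    obtain ⟨a, ha, ha2⟩ := h1
    have haN : a ∈ N(M) := by
      by_contra haN
      exact ha2 (mul_self (h.outside ha haN))
    intro u hu huN v hv hvN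
    by_contra huv
    have h2 := h.inverts hu huN ⟨haN, ha⟩
    have h3 := h.inverts hv hvN ⟨haN, ha⟩
    have h4 := h.inverts (mul_mem hu hv) huv ⟨haN, ha⟩
    apply ha2
    have h5 : u * v * a * (u * v)⁻¹ = a := by
      calc u * v * a * (u * v)⁻¹ = u * (v * a * v⁻¹) * u⁻¹ := by group
        _ = u * a⁻¹ * u⁻¹ := by rw [h3]
        _ = (u * a * u⁻¹)⁻¹ := by group
        _ = a := by rw [h2, inv_inv]
    rw [h5] at h4
    nth_rewrite 1 [h4]
    exact inv_mul_cancel a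

end Cfsg.Agent.Lib.BTI
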