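import Mathlib.Topology.Compactification.OnePoint.ProjectiveLine
import Mathlib.LinearAlgebra.Matrix.GeneralLinearGroup.Projective
import Mathlib.GroupTheory.QuotientGroup.Basic

/-!
# Recognising `PGL(2,K)` from its action on the projective line (helper13)
-/

set_option autoImplicit false

namespace Cfsg.Agent.Lib.PGLRec

open Matrix OnePoint

open scoped MatrixGroups

variable (K : Type*) [Field K] [DecidableEq K]

/-- the action of `GL(2,K)` on the projective line as a homomorphism -/
noncomputable def actG : GL (Fin 2) K →* Equiv.Perm (OnePoint K) :=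
  MulAction.toPermHom (GL (Fin 2) K) (OnePoint K)

variable {K}

theorem actG_infty (g : GL (Fin 2) K) :
    actG K g ∞ = if g 1 0 = 0 then (∞ : OnePoint K) else ((g 0 0 / g 1 0 : K) : OnePoint K) :=
  smul_infty_eq_ite g

theorem actG_coe (g : GL (Fin 2) K) (k : K) :
    actG K g (k : OnePoint K) = if g 1 0 * k + g 1 1 = 0 then (∞ : OnePoint K) else
      (((g 0 0 * k + g 0 1) / (g 1 0 * k + g 1 1) : K) : OnePoint K) :=
  smul_some_eq_ite (g := g)

omit [DecidableEq K] in
theorem det_ne (g : GL (Fin 2) K) : g 0 0 * g 1 1 - g 0 1 * g 1 0 ≠ 0 := by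
  have h := g.isUnit
  rw [Matrix.isUnit_iff_isUnit_det, Matrix.det_fin_two] at h
  exact h.ne_zero

theorem ker_actG : (actG K).ker = Subgroup.center (GL (Fin 2) K) := by
  ext g
  rw [MonoidHom.mem_ker, Matrix.GeneralLinearGroup.mem_center_iff_val_mem_range_scalar]
  have hdet := det_ne g
  constructor
  · intro h
    have h1 : actG K g ∞ = ∞ := by rw [h]; rfl
    have h2 : actG K g ((0 : K) : OnePoint K) = ((0 : K) : OnePoint K) := by rw [h]; rfl
    have h3 : actG K g ((1 : K) : OnePoint K) = ((1 : K) : OnePoint K) := by rw [h]; rfl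
    rw [actG_infty] at h1
    have hc : g 1 0 = 0 := by
      by_contra hne
      rw [if_neg hne] at h1
      exact OnePoint.coe_ne_infty _ h1
    rw [actG_coe, hc, zero_mul, zero_add, mul_zero, zero_add] at h2
    have hd : g 1 1 ≠ 0 := by
      intro h0
      rw [hc, h0] at hdet
      simp at hdet
    rw [if_neg hd, OnePoint.coe_eq_coe, div_eq_zero_iff] at h2
    have hb : g 0 1 = 0 := h2.resolve_right hd
    rw [actG_coe, hc, hb, zero_mul, zero_add, mul_one, add_zero, if_neg hd, OnePoint.coe_eq_coe,
      div_eq_one_iff_eq hd] at h3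
    refine ⟨g 0 0, ?_⟩
    ext i j
    fin_cases i <;> fin_cases j
    · simp
    · simp [hb]
    · simp [hc]
    · simpa using h3
  · rintro ⟨r, h⟩
    have e00 : g 0 0 = r := by rw [← h]; simp
    have e01 : g 0 1 = 0 := by rw [← h]; simp
    have e10 : g 1 0 = 0 := by rw [← h]; simp
    have e11 : g 1 1 = r := by rw [← h]; simp
    have hr0 : r ≠ 0 := by
      rintro rfl
      rw [e00, e01, e11] at hdet
      simp at hdet
    ext x
    induction x using OnePoint.rec with
    | infty =>
      rw [actG_infty, if_pos e10]; rfl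
    | coe k =>
      rw [actG_coe, e10, e11, e00, e01, zero_mul, zero_add, if_neg hr0, add_zero,
        mul_div_cancel_left₀ _ hr0]
      rfl

/-- Recognition: a faithful action on the projective line with the same permutation group. -/
theorem recognize {G : Type*} [Group G] (ρ : G →* Equiv.Perm (OnePoint K))
    (hinj : Function.Injective ρ) (hrange : ρ.range = (actG K).range) :
    Nonempty (G ≃* Matrix.ProjGenLinGroup (Fin 2) K) := by
  have e1 : G ≃* ρ.range := MonoidHom.ofInjective hinj
  have e2 : ρ.range ≃* (actG K).range := MulEquiv.subgroupCongr hrange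
  have e3 : GL (Fin 2) K ⧸ (actG K).ker ≃* (actG K).range := QuotientGroup.quotientKerEquivRange (actG K)
  have e4 : GL (Fin 2) K ⧸ (actG K).ker ≃* GL (Fin 2) K ⧸ Subgroup.center (GL (Fin 2) K) :=
    QuotientGroup.quotientMulEquivOfEq ker_actG
  exact ⟨((e1.trans e2).trans e3.symm).trans e4⟩

/-- Recognition by inclusion and order -/
theorem recognize_le [Finite K] {G : Type*} [Group G] [Finite G] (ρ : G →* Equiv.Perm (OnePoint K))
    (hinj : Function.Injective ρ) (hrange : ρ.range ≤ (actG K).range)
    (hcard : Nat.card (Matrix.ProjGenLinGroup (Fin 2) K) ≤ Nat.card G) :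
    Nonempty (G ≃* Matrix.ProjGenLinGroup (Fin 2) K) := by
  apply recognize ρ hinj
  have hfin : Finite (OnePoint K) := inferInstanceAs (Finite (Option K))
  have e3 : GL (Fin 2) K ⧸ (actG K).ker ≃* (actG K).range := QuotientGroup.quotientKerEquivRange (actG K)
  have e4 : GL (Fin 2) K ⧸ (actG K).ker ≃* GL (Fin 2) K ⧸ Subgroup.center (GL (Fin 2) K) :=
    QuotientGroup.quotientMulEquivOfEq ker_actG
  have h1 : Nat.card (actG K).range = Nat.card (Matrix.ProjGenLinGroup (Fin 2) K) :=
    Nat.card_congr (e3.symm.trans e4).toEquiv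
  have h2 : Nat.card ρ.range = Nat.card G := (Nat.card_congr (MonoidHom.ofInjective hinj).toEquiv).symm
  apply SetLike.coe_injective
  apply Set.eq_of_subset_of_ncard_le
  · exact hrange
  · rw [← Nat.card_coe_set_eq, ← Nat.card_coe_set_eq]
    show Nat.card (actG K).range ≤ Nat.card ρ.range
    rw [h1, h2]; exact hcard
  · exact Set.toFinite _

/-- translations -/
theorem translation_mem {σ : Equiv.Perm (OnePoint K)} (t : K) (h1 : σ ∞ = ∞)
    (h2 : ∀ x : K, σ (x : OnePoint K) = ((x + t : K) : OnePoint K)) : σ ∈ (actG K).range := by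
  refine ⟨GeneralLinearGroup.mkOfDetNeZero !![1, t; 0, 1] (by simp [Matrix.det_fin_two]), ?_⟩
  ext x
  induction x using OnePoint.rec with
  | infty => rw [h1, actG_infty]; simp [GeneralLinearGroup.mkOfDetNeZero]
  | coe k => rw [h2, actG_coe]; simp [GeneralLinearGroup.mkOfDetNeZero]

/-- multipliers -/
theorem multiplier_mem {σ : Equiv.Perm (OnePoint K)} (r : K) (hr : r ≠ 0) (h1 : σ ∞ = ∞)
    (h2 : ∀ x : K, σ (x : OnePoint K) = ((r * x : K) : OnePoint K)) : σ ∈ (actG K).range := by
  refine ⟨GeneralLinearGroup.mkOfDetNeZero !![r, 0; 0, 1] (by simp [Matrix.det_fin_two, hr]), ?_⟩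
  ext x
  induction x using OnePoint.rec with
  | infty => rw [h1, actG_infty]; simp [GeneralLinearGroup.mkOfDetNeZero]
  | coe k => rw [h2, actG_coe]; simp [GeneralLinearGroup.mkOfDetNeZero]

/-- inversions -/
theorem inversion_mem {σ : Equiv.Perm (OnePoint K)} (r : K) (hr : r ≠ 0) (h1 : σ ∞ = ((0 : K) : OnePoint K))
    (h0 : σ ((0 : K) : OnePoint K) = ∞)
    (h2 : ∀ x : K, x ≠ 0 → σ (x : OnePoint K) = ((r / x : K) : OnePoint K)) :
    σ ∈ (actG K).range := by
  refine ⟨GeneralLinearGroup.mkOfDetNeZero !![0, r; 1, 0] (by simp [Matrix.det_fin_two, hr]), ?_⟩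
  ext x
  induction x using OnePoint.rec with
  | infty => rw [h1, actG_infty]; simp [GeneralLinearGroup.mkOfDetNeZero]
  | coe k =>
    by_cases hk : k = 0
    · subst hk
      rw [h0, actG_coe]; simp [GeneralLinearGroup.mkOfDetNeZero]
    · rw [h2 k hk, actG_coe]; simp [GeneralLinearGroup.mkOfDetNeZero, hk]

end Cfsg.Agent.Lib.PGLRec
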