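import Mathlib
import Cfsg.Agent.Lib.PGLRec

/-!
Recognition of `PGL(2, E)` from coordinates (helper13).
-/

set_option autoImplicit false

namespace Cfsg.Agent.Lib.PGLCoord

open MulAction OnePoint PGLRec

universe u v

variable {G : Type u} {Ω : Type v} [Group G] [MulAction G Ω] {E : Type} [Field E]

/-- the action in coordinates -/
noncomputable def rhoOf (G : Type u) {Ω : Type v} [Group G] [MulAction G Ω] (ι : OnePoint E → Ω)
    (hι : Function.Bijective ι) : G →* Equiv.Perm (OnePoint E) where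
  toFun g := ((Equiv.ofBijective ι hι).trans (MulAction.toPerm g)).trans
    (Equiv.ofBijective ι hι).symm
  map_one' := by
    ext x
    simp
  map_mul' g h := by
    apply Equiv.ext
    intro x
    show (Equiv.ofBijective ι hι).symm ((g * h) • ι x) =
      (Equiv.ofBijective ι hι).symm (g • ι ((Equiv.ofBijective ι hι).symm (h • ι x)))
    rw [mul_smul]
    congr 2
    exact ((Equiv.ofBijective ι hι).apply_symm_apply _).symm

theorem rho_spec {ι : OnePoint E → Ω} (hι : Function.Bijective ι) (g : G) (x : OnePoint E) :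
    ι (rhoOf G ι hι g x) = g • ι x := by
  show ι ((Equiv.ofBijective ι hι).symm (g • ι x)) = g • ι x
  exact (Equiv.ofBijective ι hι).apply_symm_apply _

theorem rho_eq {ι : OnePoint E → Ω} (hι : Function.Bijective ι) (g : G) (x y : OnePoint E)
    (h : g • ι x = ι y) : rhoOf G ι hι g x = y :=
  hι.1 ((rho_spec hι g x).trans h)

theorem rho_injective [FaithfulSMul G Ω] {ι : OnePoint E → Ω} (hι : Function.Bijective ι) :
    Function.Injective (rhoOf G ι hι) := by
  intro g h hgh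
  apply FaithfulSMul.eq_of_smul_eq_smul (α := Ω)
  intro y
  obtain ⟨x, rfl⟩ := hι.2 y
  rw [← rho_spec hι, ← rho_spec hι, hgh]

theorem pgl_of_lin [Finite G] [Fintype E] [FaithfulSMul G Ω] (ι : OnePoint E → Ω)
    (hι : Function.Bijective ι) (K : Subgroup G)
    (hK : ∀ y, y ≠ ι ∞ → ∃ k ∈ K, k • ι ((0 : E) : OnePoint E) = y)
    (hKt : ∀ k ∈ K, k • ι ∞ = ι ∞ ∧ ∃ t : E, ∀ x : E, k • ι (x : OnePoint E) = ι ((x + t : E) : OnePoint E))
    (hH : ∀ h : G, h • ι ∞ = ι ∞ → h • ι ((0 : E) : OnePoint E) = ι ((0 : E) : OnePoint E) →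
      ∃ r : E, r ≠ 0 ∧ ∀ x : E, h • ι (x : OnePoint E) = ι ((r * x : E) : OnePoint E))
    (s : G) (hs1 : s • ι ∞ = ι ((0 : E) : OnePoint E)) (hs2 : s • ι ((0 : E) : OnePoint E) = ι ∞)
    (r0 : E) (hr0 : r0 ≠ 0)
    (hs3 : ∀ x : E, x ≠ 0 → s • ι (x : OnePoint E) = ι ((r0 / x : E) : OnePoint E))
    (hcard : Nat.card (Matrix.ProjGenLinGroup (Fin 2) E) ≤ Nat.card G) :
    Nonempty (G ≃* Matrix.ProjGenLinGroup (Fin 2) E) := by
  classical
  apply recognize_le (rhoOf G ι hι) (rho_injective hι) _ hcard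
  have hKmem : ∀ k ∈ K, rhoOf G ι hι k ∈ (actG E).range := by
    intro k hk
    obtain ⟨h1, t, ht⟩ := hKt k hk
    exact translation_mem t (rho_eq hι _ _ _ h1) (fun x => rho_eq hι _ _ _ (ht x))
  have hHmem : ∀ h : G, h • ι ∞ = ι ∞ → h • ι ((0 : E) : OnePoint E) = ι ((0 : E) : OnePoint E) →
      rhoOf G ι hι h ∈ (actG E).range := by
    intro h h1 h2
    obtain ⟨r, hr, h3⟩ := hH h h1 h2
    exact multiplier_mem r hr (rho_eq hι _ _ _ h1) (fun x => rho_eq hι _ _ _ (h3 x))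
  have hsmem : rhoOf G ι hι s ∈ (actG E).range :=
    inversion_mem r0 hr0 (rho_eq hι _ _ _ hs1) (rho_eq hι _ _ _ hs2)
      (fun x hx => rho_eq hι _ _ _ (hs3 x hx))
  have hBmem : ∀ g : G, g • ι ∞ = ι ∞ → rhoOf G ι hι g ∈ (actG E).range := by
    intro g hg
    have h0 : g • ι ((0 : E) : OnePoint E) ≠ ι ∞ := by
      intro h
      have h1 := MulAction.injective g (h.trans hg.symm)
      exact OnePoint.coe_ne_infty _ (hι.1 h1)
    obtain ⟨k, hk, hk0⟩ := hK _ h0
    have h1 := (hKt k hk).1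
    have h2 : rhoOf G ι hι (k⁻¹ * g) ∈ (actG E).range := by
      apply hHmem
      · rw [mul_smul, hg, inv_smul_eq_iff, h1]
      · rw [mul_smul, ← hk0, inv_smul_smul]
    have h3 : g = k * (k⁻¹ * g) := by group
    rw [h3, map_mul]
    exact Subgroup.mul_mem _ (hKmem k hk) h2
  rintro _ ⟨g, rfl⟩
  by_cases hg : g • ι ∞ = ι ∞
  · exact hBmem g hg
  · obtain ⟨k, hk, hk0⟩ := hK _ hg
    have h2 : rhoOf G ι hι (s⁻¹ * (k⁻¹ * g)) ∈ (actG E).range := by
      apply hBmem
      rw [mul_smul, mul_smul, ← hk0, inv_smul_smul, inv_smul_eq_iff, hs1]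
    have h3 : g = k * (s * (s⁻¹ * (k⁻¹ * g))) := by group
    rw [h3, map_mul, map_mul]
    exact Subgroup.mul_mem _ (hKmem k hk) (Subgroup.mul_mem _ hsmem h2)

end Cfsg.Agent.Lib.PGLCoord
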