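import Mathlib

/-!
Elementary facts about groups acting doubly transitively with only the identity fixing three points
(helper13).
-/

set_option autoImplicit false

namespace Cfsg.Agent.Lib.ZassBasic

open MulAction

variable {G Ω : Type*} [Group G] [MulAction G Ω]

/-- only the identity fixes three distinct points -/
def Fix3 (G Ω : Type*) [Group G] [MulAction G Ω] : Prop :=
  ∀ g : G, ∀ a b c : Ω, a ≠ b → b ≠ c → a ≠ c → g • a = a → g • b = b → g • c = c → g = 1

lemma inv_smul_of_smul {g : G} {a : Ω} (h : g • a = a) : g⁻¹ • a = a := by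
  rw [inv_smul_eq_iff, h]

lemma involution_parity [Finite Ω] {s : G} (hs : s * s = 1) :
    Nat.card Ω ≡ Nat.card (fixedBy Ω s) [MOD 2] := by
  have := Fact.mk Nat.prime_two
  classical
  cases nonempty_fintype Ω
  let f : Function.End Ω := fun x => s • x
  have hf : f ^ 2 ^ 1 = 1 := by
    funext x
    change s • s • x = x
    rw [smul_smul, hs, one_smul]
  have h := Equiv.Perm.card_fixedPoints_modEq hf
  rw [Nat.card_eq_fintype_card]
  have e : Nat.card (fixedBy Ω s) = Fintype.card (Function.fixedPoints f) := by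
    rw [← Nat.card_eq_fintype_card]
    rfl
  rw [e]
  exact h

lemma fixedBy_le_two [Finite Ω] (h3 : Fix3 G Ω) {s : G} (hs : s ≠ 1) :
    Nat.card (fixedBy Ω s) ≤ 2 := by
  by_contra hlt
  push Not at hlt
  change 2 < Set.ncard (fixedBy Ω s) at hlt
  rw [Set.two_lt_ncard (Set.toFinite _)] at hlt
  obtain ⟨a, ha, b, hb, c, hc, hab, hac, hbc⟩ := hlt
  exact hs (h3 s a b c hab hbc hac ha hb hc)

lemma exists_moved [FaithfulSMul G Ω] {s : G} (hs : s ≠ 1) : ∃ x : Ω, s • x ≠ x := by
  by_contra h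
  push Not at h
  exact hs (FaithfulSMul.eq_of_smul_eq_smul (α := Ω) fun x => by rw [h x, one_smul])

section two

variable (h2 : IsMultiplyPretransitive G Ω 2)
include h2

lemma exists_move {a b c d : Ω} (hab : a ≠ b) (hcd : c ≠ d) : ∃ g : G, g • a = c ∧ g • b = d :=
  is_two_pretransitive_iff.1 h2 hab hcd

/-- any involution is conjugate to one swapping two given points -/
lemma exists_conj_swap [FaithfulSMul G Ω] {t : G} (ht : orderOf t = 2) {a b : Ω} (hab : a ≠ b) :
    ∃ g : G, (g * t * g⁻¹) • a = b ∧ (g * t * g⁻¹) • b = a := by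
  have ht1 : t ≠ 1 := by
    rintro rfl
    simp at ht
  have htt : t * t = 1 := by
    rw [← sq, ← ht, pow_orderOf_eq_one]
  obtain ⟨x, hx⟩ := exists_moved (Ω := Ω) ht1
  obtain ⟨g, h1, h2⟩ := exists_move h2 (Ne.symm hx) hab
  refine ⟨g, ?_, ?_⟩
  · rw [mul_smul, mul_smul, ← h1, inv_smul_smul, h2]
  · rw [mul_smul, mul_smul, ← h2, inv_smul_smul, smul_smul t t x, htt, one_smul, h1]

lemma exists_involution [Finite G] {a b : Ω} (hab : a ≠ b) :
    ∃ t : G, orderOf t = 2 := by
  obtain ⟨g, h1, h2⟩ := exists_move h2 hab hab.symm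
  have hodd : ¬ Odd (orderOf g) := by
    rintro ⟨k, hk⟩
    have h3 : g ^ (2 * k + 1) = 1 := by rw [← hk, pow_orderOf_eq_one]
    have h4 : ∀ j : ℕ, g ^ (2 * j) • a = a := by
      intro j
      induction j with
      | zero => simp
      | succ j ih =>
        rw [show 2 * (j + 1) = 2 * j + 2 by ring, pow_add, mul_smul, sq, mul_smul, h1, h2, ih]
    have h5 : g • a = a := by
      have := h4 (k + 1)
      rw [show 2 * (k + 1) = (2 * k + 1) + 1 by ring, pow_succ, h3, one_mul] at this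
      exact this
    exact hab (h5.symm.trans h1)
  rw [Nat.not_odd_iff_even, even_iff_two_dvd] at hodd
  have hdvd : 2 ∣ Nat.card G := hodd.trans (orderOf_dvd_natCard g)
  have := Fact.mk Nat.prime_two
  exact exists_prime_orderOf_dvd_card' 2 hdvd

end two

/-- `u` lies in the stabiliser of `a` and is `1` or fixes no other point. -/
def InK (a : Ω) (u : G) : Prop := u • a = a ∧ (u ≠ 1 → ∀ x, x ≠ a → u • x ≠ x)

/-- product of two involutions fixing `a` and distinct other points lies in the kernel set -/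
lemma inK_mul (h3 : Fix3 G Ω) {a c d : Ω} (hca : c ≠ a) (hda : d ≠ a) (hcd : c ≠ d) {s t : G}
    (hs : s * s = 1) (ht : t * t = 1) (hs1 : s ≠ 1) (ht1 : t ≠ 1) (hsa : s • a = a)
    (hsc : s • c = c) (hta : t • a = a) (htd : t • d = d) : InK a (s * t) := by
  refine ⟨by rw [mul_smul, hta, hsa], ?_⟩
  intro hu e hea he
  -- u = s * t fixes a and e; s inverts u
  have hinvfix : (s * t)⁻¹ • e = e := inv_smul_of_smul he
  have hsu : s * (s * t) * s = (s * t)⁻¹ := by
    have hs' : s⁻¹ = s := inv_eq_of_mul_eq_one_right hs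
    have ht' : t⁻¹ = t := inv_eq_of_mul_eq_one_right ht
    rw [mul_inv_rev, hs', ht', ← mul_assoc, hs, one_mul]
  have htu : t * (s * t) * t = (s * t)⁻¹ := by
    have hs' : s⁻¹ = s := inv_eq_of_mul_eq_one_right hs
    have ht' : t⁻¹ = t := inv_eq_of_mul_eq_one_right ht
    rw [mul_inv_rev, hs', ht', mul_assoc, mul_assoc, ht, mul_one]
  have hse : s • e = e := by
    by_contra hne
    apply hu
    refine h3 (s * t) a e (s • e) hea.symm (Ne.symm hne) ?_ (by rw [mul_smul, hta, hsa]) he ?_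
    · intro h
      apply hea
      have : s • s • e = s • a := by rw [← h]
      rw [smul_smul, hs, one_smul, hsa] at this
      exact this
    · have h4 : (s * (s * t) * s) • e = e := by rw [hsu]; exact hinvfix
      rw [mul_smul, mul_smul] at h4
      have h5 : s • s • (s * t) • s • e = s • e := by rw [h4]
      rw [smul_smul s s, hs, one_smul] at h5
      exact h5
  have hte : t • e = e := by
    by_contra hne
    apply hu
    refine h3 (s * t) a e (t • e) hea.symm (Ne.symm hne) ?_ (by rw [mul_smul, hta, hsa]) he ?_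
    · intro h
      apply hea
      have : t • t • e = t • a := by rw [← h]
      rw [smul_smul, ht, one_smul, hta] at this
      exact this
    · have h4 : (t * (s * t) * t) • e = e := by rw [htu]; exact hinvfix
      rw [mul_smul, mul_smul] at h4
      have h5 : t • t • (s * t) • t • e = t • e := by rw [h4]
      rw [smul_smul t t, ht, one_smul] at h5
      exact h5
  have hec : e = c := by
    by_contra hne
    exact hs1 (h3 s a e c hea.symm hne hca.symm hsa hse hsc)
  have hed : e = d := by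
    by_contra hne
    exact ht1 (h3 t a e d hea.symm hne hda.symm hta hte htd)
  exact hcd (hec.symm.trans hed)

section count

variable [Finite G] [Finite Ω]

/-- orbit-stabiliser for the one-point stabiliser -/
lemma card_stab (h2 : IsMultiplyPretransitive G Ω 2) {a c : Ω} (hac : a ≠ c) :
    Nat.card (stabilizer G a) =
      Nat.card {x : Ω // x ≠ a} * Nat.card ↥(stabilizer G a ⊓ stabilizer G c) := by
  classical
  have h := Nat.card_congr (orbitProdStabilizerEquivGroup (stabilizer G a) c)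
  rw [Nat.card_prod] at h
  rw [← h]
  congr 1
  · have : orbit (stabilizer G a) c = {x | x ≠ a} := by
      ext x
      simp only [mem_orbit_iff, Set.mem_ofPred_eq]
      constructor
      · rintro ⟨⟨g, hg⟩, rfl⟩ hx
        change g • c = a at hx
        apply hac
        have : g • a = a := hg
        exact (MulAction.injective g (hx.trans this.symm)).symm
      · intro hx
        obtain ⟨g, h1, h2'⟩ := exists_move h2 hac (Ne.symm hx)
        exact ⟨⟨g, h1⟩, h2'⟩
    rw [this]
    rfl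
  · refine Nat.card_congr ⟨fun g => ⟨g.1.1, g.1.2, g.2⟩, fun g => ⟨⟨g.1, g.2.1⟩, g.2.2⟩, ?_, ?_⟩
    · intro g; rfl
    · intro g; rfl

lemma card_stab2_eq (h2 : IsMultiplyPretransitive G Ω 2) {a c d : Ω} (hac : a ≠ c) (had : a ≠ d) :
    Nat.card ↥(stabilizer G a ⊓ stabilizer G c) = Nat.card ↥(stabilizer G a ⊓ stabilizer G d) := by
  have h1 := card_stab h2 hac
  have h2' := card_stab h2 had
  have hpos : 0 < Nat.card {x : Ω // x ≠ a} := by
    have : Nonempty {x : Ω // x ≠ a} := ⟨⟨c, hac.symm⟩⟩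
    exact Nat.card_pos
  exact Nat.eq_of_mul_eq_mul_left hpos (h1.symm.trans h2')

/-- the kernel set has as many elements as there are points other than `a` -/
lemma card_InK (h2 : IsMultiplyPretransitive G Ω 2) (h3 : Fix3 G Ω) {a c : Ω} (hac : a ≠ c) :
    Nat.card {u : G // InK a u} = Nat.card {x : Ω // x ≠ a} := by
  classical
  cases nonempty_fintype G
  cases nonempty_fintype Ω
  set n := Nat.card {x : Ω // x ≠ a} with hn
  set d := Nat.card ↥(stabilizer G a ⊓ stabilizer G c) with hd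
  have hS : Nat.card (stabilizer G a) = n * d := card_stab h2 hac
  have hdpos : 0 < d := Nat.card_pos
  -- elements fixing `a` and some other point
  let N := {u : G // u • a = a ∧ u ≠ 1 ∧ ∃ x, x ≠ a ∧ u • x = x}
  let e : (Σ x : {x : Ω // x ≠ a}, {h : ↥(stabilizer G a ⊓ stabilizer G x.1) // h ≠ 1}) ≃ N :=
    Equiv.ofBijective (fun p => ⟨p.2.1.1, p.2.1.2.1, fun h => p.2.2 (Subtype.ext h), p.1.1, p.1.2, p.2.1.2.2⟩) (by
      constructor
      · rintro ⟨⟨x, hx⟩, ⟨⟨g, hg1, hg2⟩, hgne⟩⟩ ⟨⟨y, hy⟩, ⟨⟨g', hg'1, hg'2⟩, hg'ne⟩⟩ heq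
        have hgg : g = g' := congrArg Subtype.val heq
        subst hgg
        have hxy : x = y := by
          by_contra hne
          apply hgne
          apply Subtype.ext
          exact h3 g a x y hx.symm hne hy.symm hg1 hg2 hg'2
        subst hxy
        rfl
      · rintro ⟨g, h1, h2, x, hx, hgx⟩
        exact ⟨⟨⟨x, hx⟩, ⟨⟨g, h1, hgx⟩, fun h => h2 (congrArg Subtype.val h)⟩⟩, rfl⟩)
  have hN : Nat.card N = n * (d - 1) := by
    rw [← Nat.card_congr e, Nat.card_sigma]
    have : ∀ x : {x : Ω // x ≠ a}, Nat.card {h : ↥(stabilizer G a ⊓ stabilizer G x.1) // h ≠ 1} = d - 1 := by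
      intro x
      have h1 : Nat.card ↥(stabilizer G a ⊓ stabilizer G x.1) = d := card_stab2_eq h2 x.2.symm hac
      have h2 := Fintype.card_subtype_compl (fun h : ↥(stabilizer G a ⊓ stabilizer G x.1) => h = 1)
      rw [Nat.card_eq_fintype_card] at h1 ⊢
      rw [h1, Fintype.card_subtype_eq] at h2
      exact h2
    rw [Finset.sum_congr rfl (fun x _ => this x), Finset.sum_const, smul_eq_mul, hn,
      Nat.card_eq_fintype_card, Finset.card_univ]
  -- stabiliser is the disjoint union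
  let e2 : (stabilizer G a) ≃ {u : G // InK a u} ⊕ N :=
    { toFun := fun g => if h : InK a g.1 then Sum.inl ⟨g.1, h⟩ else Sum.inr ⟨g.1, g.2, by
        constructor
        · rintro h1
          apply h
          exact ⟨g.2, fun h' => absurd h1 h'⟩
        · by_contra hcon
          push Not at hcon
          exact h ⟨g.2, fun _ => hcon⟩⟩
      invFun := fun s => match s with
        | Sum.inl u => ⟨u.1, u.2.1⟩
        | Sum.inr u => ⟨u.1, u.2.1⟩
      left_inv := by
        intro g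
        by_cases h : InK a g.1
        · simp [h]
        · simp [h]
      right_inv := by
        rintro (⟨u, hu⟩ | ⟨u, hu1, hu2, x, hx, hux⟩)
        · simp [hu]
        · have : ¬ InK a u := fun h => h.2 hu2 x hx hux
          simp [this] }
  have htot := Nat.card_congr e2
  rw [Nat.card_sum, hN, hS] at htot
  have hd' : n * d = n * (d - 1) + n := by
    obtain ⟨d', hd'⟩ : ∃ d', d = d' + 1 := ⟨d - 1, by omega⟩
    rw [hd', Nat.add_sub_cancel, mul_add, mul_one]
  omega

/-- Frobenius-type argument for even order: the transversal of involutions. -/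
lemma exists_transversal (h2 : IsMultiplyPretransitive G Ω 2) (h3 : Fix3 G Ω) {a b : Ω}
    (hab : a ≠ b) {s : G} (hs : s * s = 1) (hs1 : s ≠ 1) (hsa : s • a = a) (hsb : s • b = b) :
    ∃ t : Ω → G, t b = s ∧ (∀ x, x ≠ a → t x * t x = 1 ∧ t x ≠ 1 ∧ t x • a = a ∧ t x • x = x) ∧
      ∀ c, c ≠ a → ∀ u, InK a u → ∃ x, x ≠ a ∧ u = t c * t x := by
  classical
  have hex : ∀ x, x ≠ a → ∃ g : G, g • a = a ∧ g • b = x := fun x hx =>
    exists_move h2 hab (Ne.symm hx)
  let g : Ω → G := fun x => if h : x = b then 1 else if h' : x ≠ a then (hex x h').choose else 1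
  have hg : ∀ x, x ≠ a → g x • a = a ∧ g x • b = x := by
    intro x hx
    by_cases h : x = b
    · subst h; simp [g]
    · have : g x = (hex x hx).choose := by simp [g, h, hx]
      rw [this]
      exact (hex x hx).choose_spec
  let t : Ω → G := fun x => g x * s * (g x)⁻¹
  have ht : ∀ x, x ≠ a → t x * t x = 1 ∧ t x ≠ 1 ∧ t x • a = a ∧ t x • x = x := by
    intro x hx
    obtain ⟨h1, h2'⟩ := hg x hx
    refine ⟨?_, ?_, ?_, ?_⟩
    · show g x * s * (g x)⁻¹ * (g x * s * (g x)⁻¹) = 1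
      have : g x * s * (g x)⁻¹ * (g x * s * (g x)⁻¹) = g x * (s * s) * (g x)⁻¹ := by group
      rw [this, hs, mul_one, mul_inv_cancel]
    · intro h
      apply hs1
      have h' : g x * s * (g x)⁻¹ = 1 := h
      have : s = (g x)⁻¹ * (g x * s * (g x)⁻¹) * g x := by group
      rw [this, h', mul_one, inv_mul_cancel]
    · show (g x * s * (g x)⁻¹) • a = a
      rw [mul_smul, mul_smul, inv_smul_of_smul h1, hsa, h1]
    · show (g x * s * (g x)⁻¹) • x = x
      have : (g x)⁻¹ • x = b := by rw [inv_smul_eq_iff, h2']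
      rw [mul_smul, mul_smul, this, hsb, h2']
  refine ⟨t, ?_, ht, ?_⟩
  · show g b * s * (g b)⁻¹ = s
    have : g b = 1 := by simp [g]
    rw [this]; simp
  · intro c hc u hu
    have hKmem : ∀ x, x ≠ a → InK a (t c * t x) := by
      intro x hx
      by_cases hcx : c = x
      · subst hcx
        rw [(ht c hc).1]
        exact ⟨one_smul _ _, fun h => absurd rfl h⟩
      · exact inK_mul h3 hc hx hcx (ht c hc).1 (ht x hx).1 (ht c hc).2.1 (ht x hx).2.1
          (ht c hc).2.2.1 (ht c hc).2.2.2 (ht x hx).2.2.1 (ht x hx).2.2.2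
    let φ : {x : Ω // x ≠ a} → {u : G // InK a u} := fun x => ⟨t c * t x.1, hKmem x.1 x.2⟩
    have hinj : Function.Injective φ := by
      intro x y hxy
      have h1 : t c * t x.1 = t c * t y.1 := congrArg Subtype.val hxy
      have h2' : t x.1 = t y.1 := mul_left_cancel h1
      apply Subtype.ext
      by_contra hne
      apply (ht x.1 x.2).2.1
      apply h3 (t x.1) a x.1 y.1 (Ne.symm x.2) hne (Ne.symm y.2) (ht x.1 x.2).2.2.1 (ht x.1 x.2).2.2.2
      rw [h2']
      exact (ht y.1 y.2).2.2.2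
    have : Finite {u : G // InK a u} := inferInstance
    have hbij : Function.Bijective φ := by
      rw [Nat.bijective_iff_injective_and_card]
      exact ⟨hinj, (card_InK h2 h3 hab).symm⟩
    obtain ⟨x, hx⟩ := hbij.2 ⟨u, hu⟩
    exact ⟨x.1, x.2, (congrArg Subtype.val hx).symm⟩

/-- a two-point stabiliser contains at most one involution (if there are at least three points) -/
lemma unique_involution (h2 : IsMultiplyPretransitive G Ω 2) (h3 : Fix3 G Ω) {a b c : Ω}
    (hab : a ≠ b) (hca : c ≠ a) (hcb : c ≠ b) {s t : G}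
    (hs : s * s = 1) (hs1 : s ≠ 1) (hsa : s • a = a) (hsb : s • b = b)
    (ht : t * t = 1) (ht1 : t ≠ 1) (hta : t • a = a) (htb : t • b = b) : s = t := by
  obtain ⟨τ, hτb, hτ, hsurj⟩ := exists_transversal h2 h3 hab hs hs1 hsa hsb
  have hK : InK a (τ c * t) := inK_mul h3 hca (Ne.symm hab) hcb (hτ c hca).1 ht (hτ c hca).2.1 ht1
    (hτ c hca).2.2.1 (hτ c hca).2.2.2 hta htb
  obtain ⟨x, hx, hxe⟩ := hsurj c hca _ hK
  have hte : t = τ x := mul_left_cancel hxe
  have hxb : x = b := by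
    by_contra hne
    apply ht1
    refine h3 t a x b (Ne.symm hx) hne hab hta ?_ htb
    rw [hte]
    exact (hτ x hx).2.2.2
  rw [hte, hxb, hτb]

/-- the kernel of the one-point stabiliser, in the even case -/
lemma inK_mul_mem (h2 : IsMultiplyPretransitive G Ω 2) (h3 : Fix3 G Ω) {a b : Ω}
    (hab : a ≠ b) {s : G} (hs : s * s = 1) (hs1 : s ≠ 1) (hsa : s • a = a) (hsb : s • b = b)
    {u v : G} (hu : InK a u) (hv : InK a v) : InK a (u * v) := by
  obtain ⟨τ, hτb, hτ, hsurj⟩ := exists_transversal h2 h3 hab hs hs1 hsa hsb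
  have hu' : InK a u⁻¹ := by
    refine ⟨inv_smul_of_smul hu.1, fun h x hx hux => ?_⟩
    have hu1 : u ≠ 1 := by rintro rfl; simp at h
    apply hu.2 hu1 x hx
    have := inv_smul_of_smul hux
    rwa [inv_inv] at this
  obtain ⟨x, hx, hxe⟩ := hsurj b (Ne.symm hab) _ hu'
  obtain ⟨y, hy, hye⟩ := hsurj b (Ne.symm hab) _ hv
  have hue : u = τ x * τ b := by
    have h1 : u = (τ b * τ x)⁻¹ := by rw [← hxe, inv_inv]
    rw [h1, mul_inv_rev]
    rw [inv_eq_of_mul_eq_one_right (hτ x hx).1, inv_eq_of_mul_eq_one_right (hτ b (Ne.symm hab)).1]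
  have huv : u * v = τ x * τ y := by
    rw [hue, hye, mul_assoc, ← mul_assoc (τ b) (τ b), (hτ b (Ne.symm hab)).1, one_mul]
  rw [huv]
  by_cases hxy : x = y
  · subst hxy
    rw [(hτ x hx).1]
    exact ⟨one_smul _ _, fun h => absurd rfl h⟩
  · exact inK_mul h3 hx hy hxy (hτ x hx).1 (hτ y hy).1 (hτ x hx).2.1 (hτ y hy).2.1
      (hτ x hx).2.2.1 (hτ x hx).2.2.2 (hτ y hy).2.2.1 (hτ y hy).2.2.2

lemma inK_inv {a : Ω} {u : G} (hu : InK a u) : InK a u⁻¹ := by
  refine ⟨inv_smul_of_smul hu.1, fun h x hx hux => ?_⟩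
  have hu1 : u ≠ 1 := by rintro rfl; simp at h
  apply hu.2 hu1 x hx
  have := inv_smul_of_smul hux
  rwa [inv_inv] at this

lemma inK_conj {a : Ω} {u g : G} (hu : InK a u) (hg : g • a = a) : InK a (g * u * g⁻¹) := by
  refine ⟨by rw [mul_smul, mul_smul, inv_smul_of_smul hg, hu.1, hg], fun h x hx hux => ?_⟩
  have hu1 : u ≠ 1 := by
    rintro rfl
    apply h
    rw [mul_one, mul_inv_cancel]
  apply hu.2 hu1 (g⁻¹ • x)
  · intro h'
    apply hx
    rw [inv_smul_eq_iff, hg] at h'
    exact h'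
  · rw [mul_smul, mul_smul] at hux
    rw [eq_inv_smul_iff]
    exact hux

/-- an involution in a two-point stabiliser inverts the kernel -/
lemma inK_invert (h2 : IsMultiplyPretransitive G Ω 2) (h3 : Fix3 G Ω) {a b : Ω}
    (hab : a ≠ b) {s : G} (hs : s * s = 1) (hs1 : s ≠ 1) (hsa : s • a = a) (hsb : s • b = b)
    {u : G} (hu : InK a u) : s * u * s = u⁻¹ := by
  obtain ⟨τ, hτb, hτ, hsurj⟩ := exists_transversal h2 h3 hab hs hs1 hsa hsb
  obtain ⟨x, hx, hxe⟩ := hsurj b (Ne.symm hab) _ hu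
  rw [hxe, hτb, mul_inv_rev, inv_eq_of_mul_eq_one_right (hτ x hx).1,
    inv_eq_of_mul_eq_one_right hs, ← mul_assoc, hs, one_mul]

lemma inK_comm (h2 : IsMultiplyPretransitive G Ω 2) (h3 : Fix3 G Ω) {a b : Ω}
    (hab : a ≠ b) {s : G} (hs : s * s = 1) (hs1 : s ≠ 1) (hsa : s • a = a) (hsb : s • b = b)
    {u v : G} (hu : InK a u) (hv : InK a v) : u * v = v * u := by
  have h1 := inK_invert h2 h3 hab hs hs1 hsa hsb (inK_mul_mem h2 h3 hab hs hs1 hsa hsb
    (inK_inv hu) (inK_inv hv))
  rw [mul_inv_rev, inv_inv, inv_inv] at h1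
  have h2' := inK_invert h2 h3 hab hs hs1 hsa hsb (inK_inv hu)
  have h3' := inK_invert h2 h3 hab hs hs1 hsa hsb (inK_inv hv)
  rw [inv_inv] at h2' h3'
  have h4 : s * (u⁻¹ * v⁻¹) * s = (s * u⁻¹ * s) * (s * v⁻¹ * s) := by
    have : (s * u⁻¹ * s) * (s * v⁻¹ * s) = s * u⁻¹ * (s * s) * v⁻¹ * s := by group
    rw [this, hs, mul_one]
    group
  rw [← h1, h4, h2', h3']

/-- the kernel as a subgroup -/
def kernel (h2 : IsMultiplyPretransitive G Ω 2) (h3 : Fix3 G Ω) {a b : Ω}
    (hab : a ≠ b) {s : G} (hs : s * s = 1) (hs1 : s ≠ 1) (hsa : s • a = a) (hsb : s • b = b) :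
    Subgroup G where
  carrier := {u | InK a u}
  mul_mem' hu hv := inK_mul_mem h2 h3 hab hs hs1 hsa hsb hu hv
  one_mem' := ⟨one_smul _ _, fun h => absurd rfl h⟩
  inv_mem' hu := inK_inv hu

/-- in the even case: for distinct `c, a, b` an involution fixing `c` and swapping `a, b` -/
lemma exists_inv_swap (h2 : IsMultiplyPretransitive G Ω 2) (h3 : Fix3 G Ω)
    {a₀ b₀ : Ω} (hab₀ : a₀ ≠ b₀) {s : G} (hs : s * s = 1) (hs1 : s ≠ 1) (hsa : s • a₀ = a₀)
    (hsb : s • b₀ = b₀) {a b c : Ω} (hac : a ≠ c) (hbc : b ≠ c) :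
    ∃ t : G, t * t = 1 ∧ t ≠ 1 ∧ t • c = c ∧ t • a = b ∧ t • b = a := by
  classical
  -- move the pair (a₀, b₀) to (c, a)
  obtain ⟨g, hg1, hg2⟩ := exists_move h2 hab₀ (Ne.symm hac)
  have hs' : (g * s * g⁻¹) * (g * s * g⁻¹) = 1 := by
    have : g * s * g⁻¹ * (g * s * g⁻¹) = g * (s * s) * g⁻¹ := by group
    rw [this, hs, mul_one, mul_inv_cancel]
  have hs1' : g * s * g⁻¹ ≠ 1 := by
    intro h
    apply hs1
    have : s = g⁻¹ * (g * s * g⁻¹) * g := by group
    rw [this, h, mul_one, inv_mul_cancel]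
  have hsa' : (g * s * g⁻¹) • c = c := by
    rw [mul_smul, mul_smul, ← hg1, inv_smul_smul, hsa]
  have hsb' : (g * s * g⁻¹) • a = a := by
    rw [mul_smul, mul_smul, ← hg2, inv_smul_smul, hsb]
  obtain ⟨τ, hτb, hτ, hsurj⟩ := exists_transversal h2 h3 (Ne.symm hac) hs' hs1' hsa' hsb'
  have hmove : ∀ x, x ≠ c → τ x • a ≠ c := by
    intro x hx h
    apply hac
    have h1 := (hτ x hx).2.2.1
    exact MulAction.injective (τ x) (h.trans h1.symm)
  let φ : {x : Ω // x ≠ c} → {y : Ω // y ≠ c} := fun x => ⟨τ x.1 • a, hmove x.1 x.2⟩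
  have hinj : Function.Injective φ := by
    intro x y hxy
    have h1 : τ x.1 • a = τ y.1 • a := congrArg Subtype.val hxy
    by_contra hne
    have hne' : x.1 ≠ y.1 := fun h => hne (Subtype.ext h)
    have hK := inK_mul h3 x.2 y.2 hne' (hτ _ x.2).1 (hτ _ y.2).1 (hτ _ x.2).2.1 (hτ _ y.2).2.1
      (hτ _ x.2).2.2.1 (hτ _ x.2).2.2.2 (hτ _ y.2).2.2.1 (hτ _ y.2).2.2.2
    have hne1 : τ x.1 * τ y.1 ≠ 1 := by
      intro h
      have h5 : τ x.1 = τ y.1 := by
        have h6 := inv_eq_of_mul_eq_one_right (hτ _ x.2).1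
        have h7 := inv_eq_of_mul_eq_one_right h
        rw [← h6, h7]
      apply (hτ _ x.2).2.1
      exact h3 (τ x.1) c x.1 y.1 (Ne.symm x.2) hne' (Ne.symm y.2) (hτ _ x.2).2.2.1
        (hτ _ x.2).2.2.2 (h5 ▸ (hτ _ y.2).2.2.2)
    apply hK.2 hne1 a hac
    rw [mul_smul, ← h1, smul_smul, (hτ _ x.2).1, one_smul]
  have hsurj' : Function.Surjective φ := Finite.injective_iff_surjective.1 hinj
  obtain ⟨x, hx⟩ := hsurj' ⟨b, hbc⟩
  have hxb : τ x.1 • a = b := congrArg Subtype.val hx
  refine ⟨τ x.1, (hτ _ x.2).1, (hτ _ x.2).2.1, (hτ _ x.2).2.2.1, hxb, ?_⟩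
  rw [← hxb, smul_smul, (hτ _ x.2).1, one_smul]

lemma card_le_two_mul (h2 : IsMultiplyPretransitive G Ω 2) (h3 : Fix3 G Ω) {a b : Ω}
    (hab : a ≠ b) {s : G} (hs : s * s = 1) (hs1 : s ≠ 1) (hsa : s • a = a) (hsb : s • b = b) :
    Nat.card Ω - 2 ≤ 2 * Nat.card ↥(stabilizer G a ⊓ stabilizer G b) := by
  classical
  cases nonempty_fintype G
  cases nonempty_fintype Ω
  have hex : ∀ c, c ≠ a → c ≠ b → ∃ t : G, t * t = 1 ∧ t ≠ 1 ∧ t • c = c ∧ t • a = b ∧ t • b = a :=
    fun c hca hcb => exists_inv_swap h2 h3 hab hs hs1 hsa hsb hca.symm hcb.symm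
  obtain ⟨s0, hs01, hs02⟩ := exists_move h2 hab hab.symm
  let T : Ω → G := fun c => if h : c ≠ a ∧ c ≠ b then (hex c h.1 h.2).choose else 1
  have hT : ∀ c, c ≠ a → c ≠ b → T c ≠ 1 ∧ T c • c = c ∧ T c • a = b ∧ T c • b = a := by
    intro c hca hcb
    have : T c = (hex c hca hcb).choose := by simp [T, hca, hcb]
    rw [this]
    exact (hex c hca hcb).choose_spec.2
  let S : Finset Ω := (Finset.univ.erase a).erase b
  have hS : S.card = Nat.card Ω - 2 := by
    rw [Finset.card_erase_of_mem (by simp [hab.symm]), Finset.card_erase_of_mem (by simp),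
      Finset.card_univ, Nat.card_eq_fintype_card]
    omega
  let H : Finset G := Finset.univ.filter (fun g => g ∈ stabilizer G a ⊓ stabilizer G b)
  have hH : H.card = Nat.card ↥(stabilizer G a ⊓ stabilizer G b) := by
    rw [Nat.card_eq_fintype_card]
    exact (Fintype.card_of_subtype H (fun x => by simp [H])).symm
  let f : Ω → G := fun c => s0⁻¹ * T c
  have hf : S.image f ⊆ H := by
    intro g hg
    obtain ⟨c, hc, rfl⟩ := Finset.mem_image.1 hg
    have hc1 : c ≠ b := Finset.ne_of_mem_erase hc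
    have hc2 : c ≠ a := Finset.ne_of_mem_erase (Finset.mem_of_mem_erase hc)
    obtain ⟨-, -, h5, h6⟩ := hT c hc2 hc1
    simp only [H, Finset.mem_filter, Finset.mem_univ, true_and]
    refine ⟨?_, ?_⟩
    · show (s0⁻¹ * T c) • a = a
      rw [mul_smul, h5, inv_smul_eq_iff, hs01]
    · show (s0⁻¹ * T c) • b = b
      rw [mul_smul, h6, inv_smul_eq_iff, hs02]
  have hfib : ∀ g ∈ S.image f, (S.filter (fun c => f c = g)).card ≤ 2 := by
    intro g _
    by_contra hlt
    push Not at hlt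
    rw [Finset.two_lt_card] at hlt
    obtain ⟨x, hx, y, hy, z, hz, hxy, hxz, hyz⟩ := hlt
    simp only [Finset.mem_filter] at hx hy hz
    have hx1 : x ≠ b := Finset.ne_of_mem_erase hx.1
    have hx2 : x ≠ a := Finset.ne_of_mem_erase (Finset.mem_of_mem_erase hx.1)
    have hy1 : y ≠ b := Finset.ne_of_mem_erase hy.1
    have hy2 : y ≠ a := Finset.ne_of_mem_erase (Finset.mem_of_mem_erase hy.1)
    have hz1 : z ≠ b := Finset.ne_of_mem_erase hz.1
    have hz2 : z ≠ a := Finset.ne_of_mem_erase (Finset.mem_of_mem_erase hz.1)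
    have exy : T y = T x := mul_left_cancel (hy.2.trans hx.2.symm)
    have exz : T z = T x := mul_left_cancel (hz.2.trans hx.2.symm)
    apply (hT x hx2 hx1).1
    exact h3 (T x) x y z hxy hyz hxz (hT x hx2 hx1).2.1 (exy ▸ (hT y hy2 hy1).2.1)
      (exz ▸ (hT z hz2 hz1).2.1)
  have h4 := Finset.card_le_mul_card_image S 2 hfib
  rw [← hS, ← hH]
  exact h4.trans (Nat.mul_le_mul_left 2 (Finset.card_le_card hf))

end count

end Cfsg.Agent.Lib.ZassBasic
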