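import Mathlib
import Cfsg.Agent.Lib.ZassBasic
import Cfsg.Agent.Lib.PF9Field
import Cfsg.Agent.Lib.PSLTwoRec

/-!
Coordinates for doubly transitive groups whose point stabiliser has an abelian regular normal
subgroup, and recognition of `PSL(2, E)` (helper13).
-/

set_option autoImplicit false

namespace Cfsg.Agent.Lib.ZassCoord

open MulAction ZassBasic OnePoint

universe u v

variable {G : Type u} {Ω : Type v} [Group G] [MulAction G Ω]

/-- Coordinates on the projective line. -/
structure Coord (G : Type u) (Ω : Type v) [Group G] [MulAction G Ω] (a b c : Ω) (K : Subgroup G)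
    (E : Type) [Field E] where
  /-- the points -/
  ι : OnePoint E → Ω
  bij : Function.Bijective ι
  inf : ι (∞ : OnePoint E) = a
  zero : ι ((0 : E) : OnePoint E) = b
  one : ι ((1 : E) : OnePoint E) = c
  /-- the translations -/
  τ : E → G
  τ_mem : ∀ t, τ t ∈ K
  τ_surj : ∀ k ∈ K, ∃ t, τ t = k
  τ_inf : ∀ t, τ t • a = a
  τ_smul : ∀ t x : E, τ t • ι (x : OnePoint E) = ι ((x + t : E) : OnePoint E)
  /-- the multipliers -/
  ψ : G → E
  ψ_smul : ∀ h : G, h • a = a → h • b = b → ∀ x : E,
    h • ι (x : OnePoint E) = ι ((ψ h * x : E) : OnePoint E)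

theorem exists_coord [Finite G] {a b c : Ω} (hab : a ≠ b) (hca : c ≠ a)
    (hcb : c ≠ b) (K : Subgroup G) (hKa : K ≤ stabilizer G a)
    (hKn : ∀ h : G, h • a = a → h • b = b → ∀ k ∈ K, h * k * h⁻¹ ∈ K)
    (hcomm : ∀ u ∈ K, ∀ v ∈ K, u * v = v * u)
    (hreg : ∀ y : Ω, y ≠ a → ∃! u : K, (u : G) • b = y)
    (Hcomm : ∀ h ∈ stabilizer G a ⊓ stabilizer G b, ∀ h' ∈ stabilizer G a ⊓ stabilizer G b,
      h * h' = h' * h)
    (irr : ∀ S : Subgroup G, S ≤ K → (∀ h : G, h • a = a → h • b = b → ∀ k ∈ S, h * k * h⁻¹ ∈ S) →
      S = ⊥ ∨ S = K) :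
    ∃ (E : Type) (_ : Field E) (_ : Fintype E), Fintype.card E = Nat.card K ∧
      Nonempty (Coord G Ω a b c K E) := by
  classical
  let _ : CommGroup K := { (inferInstance : Group K) with
    mul_comm := fun x y => Subtype.ext (hcomm x x.2 y y.2) }
  -- a nontrivial element
  obtain ⟨uc, huc, -⟩ := hreg c hca
  have huc1 : uc ≠ 1 := by
    rintro rfl
    apply hcb
    rw [← huc]
    exact one_smul _ _
  have : Nontrivial (Additive K) := ⟨⟨Additive.ofMul uc, 0, fun h => huc1 h⟩⟩
  have : Finite (Additive K) := inferInstanceAs (Finite K)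
  let H : Subgroup G := stabilizer G a ⊓ stabilizer G b
  let ρ : H →* AddMonoid.End (Additive K) :=
    { toFun := fun h =>
        { toFun := fun k => Additive.ofMul (⟨h.1 * (Additive.toMul k).1 * h.1⁻¹,
            hKn h.1 h.2.1 h.2.2 _ (Additive.toMul k).2⟩ : K)
          map_zero' := by
            apply Additive.toMul.injective
            apply Subtype.ext
            show h.1 * (1 : G) * h.1⁻¹ = 1
            group
          map_add' := by
            intro x y
            apply Additive.toMul.injective
            apply Subtype.ext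
            show h.1 * ((Additive.toMul x).1 * (Additive.toMul y).1) * h.1⁻¹ =
              (h.1 * (Additive.toMul x).1 * h.1⁻¹) * (h.1 * (Additive.toMul y).1 * h.1⁻¹)
            group }
      map_one' := by
        refine DFunLike.ext _ _ fun x => ?_
        apply Additive.toMul.injective
        apply Subtype.ext
        show (1 : G) * (Additive.toMul x).1 * (1 : G)⁻¹ = (Additive.toMul x).1
        group
      map_mul' := by
        intro h h'
        refine DFunLike.ext _ _ fun x => ?_
        apply Additive.toMul.injective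
        apply Subtype.ext
        show (h.1 * h'.1) * (Additive.toMul x).1 * (h.1 * h'.1)⁻¹ =
          h.1 * (h'.1 * (Additive.toMul x).1 * h'.1⁻¹) * h.1⁻¹
        group }
  obtain ⟨E, hE, hEf, e, ψ, hψ, -⟩ := PF9Field.exists_field ρ (by
      intro h h'
      rw [← map_mul, ← map_mul]
      congr 1
      exact Subtype.ext (Hcomm h.1 h.2 h'.1 h'.2)) (by
      intro S hS
      let S' : Subgroup G := (AddSubgroup.toSubgroup' S).map K.subtype
      have hmem : ∀ x : K, (x : G) ∈ S' ↔ Additive.ofMul x ∈ S := by
        intro x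
        constructor
        · rintro ⟨y, hy, hyx⟩
          have : y = x := Subtype.ext hyx
          rw [← this]
          exact hy
        · intro hx
          exact ⟨x, hx, rfl⟩
      rcases irr S' (Subgroup.map_subtype_le _) (by
        rintro h ha hb k ⟨y, hy, rfl⟩
        have := hS ⟨h, ha, hb⟩ (Additive.ofMul y) hy
        exact ⟨_, this, rfl⟩) with h | h
      · left
        rw [eq_bot_iff]
        intro x hx
        have h1 : ((Additive.toMul x : K) : G) ∈ S' := (hmem _).2 hx
        rw [h, Subgroup.mem_bot] at h1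
        rw [AddSubgroup.mem_bot]
        apply Additive.toMul.injective
        exact Subtype.ext h1
      · right
        rw [eq_top_iff]
        intro x _
        have h1 : ((Additive.toMul x : K) : G) ∈ S' := by rw [h]; exact (Additive.toMul x).2
        exact (hmem _).1 h1)
  have he1 : e (Additive.ofMul uc) ≠ 0 := by
    intro h
    apply huc1
    have := e.injective (h.trans e.map_zero.symm)
    exact this
  set c₁ := e (Additive.ofMul uc) with hc₁
  -- the translations
  let τ' : E → K := fun t => Additive.toMul (e.symm (c₁ * t))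
  have hτe : ∀ t, e (Additive.ofMul (τ' t)) = c₁ * t := fun t => e.apply_symm_apply _
  have hτadd : ∀ s t, τ' (s + t) = τ' s * τ' t := by
    intro s t
    show Additive.toMul (e.symm (c₁ * (s + t))) = _
    rw [mul_add, map_add]
    rfl
  have hτ0 : τ' 0 = 1 := by
    show Additive.toMul (e.symm (c₁ * 0)) = 1
    rw [mul_zero, map_zero]; rfl
  have hτ1 : τ' 1 = uc := by
    show Additive.toMul (e.symm (c₁ * 1)) = uc
    rw [mul_one, hc₁, e.symm_apply_apply]; rfl
  have hτinj : Function.Injective τ' := by
    intro s t hst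
    have h1 := congrArg (fun x => e (Additive.ofMul x)) hst
    simp only [hτe] at h1
    exact mul_left_cancel₀ he1 h1
  have hτsurj : Function.Surjective τ' := by
    intro k
    refine ⟨c₁⁻¹ * e (Additive.ofMul k), ?_⟩
    show Additive.toMul (e.symm (c₁ * (c₁⁻¹ * e (Additive.ofMul k)))) = k
    rw [mul_inv_cancel_left₀ he1, e.symm_apply_apply]; rfl
  have hτconj : ∀ (h : H) (t : E), (h : G) * (τ' t : G) * (h : G)⁻¹ = τ' (ψ h * t) := by
    intro h t
    have h1 := hψ h (Additive.ofMul (τ' t))
    rw [hτe] at h1
    have h2 : Additive.toMul (ρ h (Additive.ofMul (τ' t))) = τ' (ψ h * t) := by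
      have h3 : e (ρ h (Additive.ofMul (τ' t))) = e (Additive.ofMul (τ' (ψ h * t))) := by
        rw [h1, hτe]; ring
      exact e.injective h3
    exact congrArg Subtype.val h2
  have hτa : ∀ t, (τ' t : G) • a = a := fun t => hKa (τ' t).2
  -- the points
  let ι : OnePoint E → Ω := fun x => Option.elim x a (fun t => (τ' t : G) • b)
  have hιinf : ι (∞ : OnePoint E) = a := rfl
  have hιcoe : ∀ t : E, ι (t : OnePoint E) = (τ' t : G) • b := fun t => rfl
  have hne : ∀ t, (τ' t : G) • b ≠ a := by
    intro t h
    apply hab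
    have := hτa t
    exact (MulAction.injective (τ' t : G) (h.trans this.symm)).symm
  have hbij : Function.Bijective ι := by
    constructor
    · intro x y hxy
      induction x using OnePoint.rec with
      | infty =>
        induction y using OnePoint.rec with
        | infty => rfl
        | coe t => exact absurd hxy.symm (hne t)
      | coe s =>
        induction y using OnePoint.rec with
        | infty => exact absurd hxy (hne s)
        | coe t =>
          have h1 : τ' s = τ' t :=
            (hreg ((τ' t : G) • b) (hne t)).unique hxy rfl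
          rw [hτinj h1]
    · intro y
      by_cases hy : y = a
      · exact ⟨∞, hy.symm⟩
      · obtain ⟨k, hk, -⟩ := hreg y hy
        obtain ⟨t, rfl⟩ := hτsurj k
        exact ⟨(t : OnePoint E), hk⟩
  refine ⟨E, hE, hEf, ?_, ⟨{
    ι := ι
    bij := hbij
    inf := rfl
    zero := ?_
    one := ?_
    τ := fun t => (τ' t : G)
    τ_mem := fun t => (τ' t).2
    τ_surj := ?_
    τ_inf := hτa
    τ_smul := ?_
    ψ := fun g => if h : g • a = a ∧ g • b = b then ψ ⟨g, h.1, h.2⟩ else 0
    ψ_smul := ?_ }⟩⟩
  · rw [← Nat.card_eq_fintype_card]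
    exact Nat.card_congr (Equiv.ofBijective τ' ⟨hτinj, hτsurj⟩)
  · show (τ' 0 : G) • b = b
    rw [hτ0]; exact one_smul _ _
  · show (τ' 1 : G) • b = c
    rw [hτ1]; exact huc
  · intro k hk
    obtain ⟨t, ht⟩ := hτsurj ⟨k, hk⟩
    exact ⟨t, congrArg Subtype.val ht⟩
  · intro t x
    show (τ' t : G) • (τ' x : G) • b = (τ' (x + t) : G) • b
    rw [smul_smul, add_comm, hτadd]; rfl
  · intro h ha hb x
    show h • (τ' x : G) • b = (τ' ((if h' : h • a = a ∧ h • b = b then ψ ⟨h, h'.1, h'.2⟩ else 0) * x) : G) • b
    rw [dif_pos ⟨ha, hb⟩, ← hτconj ⟨h, ha, hb⟩ x, mul_smul, mul_smul]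
    show h • (τ' x : G) • b = h • (τ' x : G) • h⁻¹ • b
    rw [inv_smul_of_smul hb]

end Cfsg.Agent.Lib.ZassCoord
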