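import Mathlib
import Cfsg.Agent.Lib.ZassCoord

/-!
Recognition of `PSL(2, E)` from coordinates (helper13).
-/

set_option autoImplicit false

namespace Cfsg.Agent.Lib.ZassCoord

open MulAction ZassBasic OnePoint PSLTwoRec
open scoped MatrixGroups

universe u v

variable {G : Type u} {Ω : Type v} [Group G] [MulAction G Ω]
variable {a b c : Ω} {K : Subgroup G} {E : Type} [Field E]

/-- the action in coordinates -/
noncomputable def Coord.rho (C : Coord G Ω a b c K E) : G →* Equiv.Perm (OnePoint E) where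
  toFun g := ((Equiv.ofBijective C.ι C.bij).trans (MulAction.toPerm g)).trans
    (Equiv.ofBijective C.ι C.bij).symm
  map_one' := by
    ext x
    simp
  map_mul' g h := by
    apply Equiv.ext
    intro x
    show (Equiv.ofBijective C.ι C.bij).symm ((g * h) • C.ι x) =
      (Equiv.ofBijective C.ι C.bij).symm (g • C.ι ((Equiv.ofBijective C.ι C.bij).symm (h • C.ι x)))
    rw [mul_smul]
    congr 2
    exact ((Equiv.ofBijective C.ι C.bij).apply_symm_apply _).symm

theorem Coord.rho_spec (C : Coord G Ω a b c K E) (g : G) (x : OnePoint E) :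
    C.ι (C.rho g x) = g • C.ι x := by
  show C.ι ((Equiv.ofBijective C.ι C.bij).symm (g • C.ι x)) = g • C.ι x
  exact (Equiv.ofBijective C.ι C.bij).apply_symm_apply _

theorem Coord.rho_eq (C : Coord G Ω a b c K E) (g : G) (x y : OnePoint E)
    (h : g • C.ι x = C.ι y) : C.rho g x = y :=
  C.bij.1 ((C.rho_spec g x).trans h)

theorem Coord.rho_injective [FaithfulSMul G Ω] (C : Coord G Ω a b c K E) :
    Function.Injective C.rho := by
  intro g h hgh
  apply FaithfulSMul.eq_of_smul_eq_smul (α := Ω)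
  intro y
  obtain ⟨x, rfl⟩ := C.bij.2 y
  rw [← C.rho_spec, ← C.rho_spec, hgh]

theorem Coord.rho_tau_inf (C : Coord G Ω a b c K E) (t : E) : C.rho (C.τ t) ∞ = ∞ :=
  C.rho_eq _ _ _ (by rw [C.inf, C.τ_inf])

theorem Coord.rho_tau (C : Coord G Ω a b c K E) (t x : E) :
    C.rho (C.τ t) (x : OnePoint E) = ((x + t : E) : OnePoint E) :=
  C.rho_eq _ _ _ (C.τ_smul t x)

theorem Coord.rho_inf (C : Coord G Ω a b c K E) {h : G} (ha : h • a = a) : C.rho h ∞ = ∞ :=
  C.rho_eq _ _ _ (by rw [C.inf, ha])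

theorem Coord.rho_psi (C : Coord G Ω a b c K E) {h : G} (ha : h • a = a) (hb : h • b = b) (x : E) :
    C.rho h (x : OnePoint E) = ((C.ψ h * x : E) : OnePoint E) :=
  C.rho_eq _ _ _ (C.ψ_smul h ha hb x)

theorem Coord.psi_ne (C : Coord G Ω a b c K E) {h : G} (ha : h • a = a) (hb : h • b = b) :
    C.ψ h ≠ 0 := by
  intro h0
  have h1 := C.ψ_smul h ha hb 1
  rw [h0, zero_mul, C.zero] at h1
  have h2 : C.ι ((1 : E) : OnePoint E) = C.ι ((0 : E) : OnePoint E) := by
    rw [C.zero]
    exact MulAction.injective h (h1.trans hb.symm)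
  have h3 := C.bij.1 h2
  rw [OnePoint.coe_eq_coe] at h3
  exact one_ne_zero h3

/-- decomposition of the point stabiliser -/
theorem Coord.decomp_stab (C : Coord G Ω a b c K E) {g : G} (hg : g • a = a) (hab : a ≠ b) :
    ∃ (t : E) (h : G), h • a = a ∧ h • b = b ∧ g = C.τ t * h := by
  obtain ⟨x, hx⟩ := C.bij.2 (g • b)
  induction x using OnePoint.rec with
  | infty =>
    exfalso
    apply hab
    rw [C.inf] at hx
    exact MulAction.injective g (hg.trans hx)
  | coe t =>
    have h1 : C.τ t • b = g • b := by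
      rw [← hx]
      have := C.τ_smul t 0
      rw [C.zero, zero_add] at this
      exact this
    refine ⟨t, (C.τ t)⁻¹ * g, ?_, ?_, by group⟩
    · rw [mul_smul, hg, inv_smul_eq_iff, C.τ_inf]
    · rw [mul_smul, ← h1, inv_smul_smul]

/-- Bruhat decomposition -/
theorem Coord.decomp (C : Coord G Ω a b c K E) {s : G} (hsa : s • a = b)
    (g : G) (hg : g • a ≠ a) :
    ∃ (t : E) (g' : G), g' • a = a ∧ g = C.τ t * s * g' := by
  obtain ⟨x, hx⟩ := C.bij.2 (g • a)
  induction x using OnePoint.rec with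
  | infty =>
    exfalso
    apply hg
    rw [← hx, C.inf]
  | coe t =>
    have h1 : C.τ t • b = g • a := by
      rw [← hx]
      have := C.τ_smul t 0
      rw [C.zero, zero_add] at this
      exact this
    refine ⟨t, s⁻¹ * (C.τ t)⁻¹ * g, ?_, by group⟩
    rw [mul_smul, mul_smul, ← h1, inv_smul_smul, inv_smul_eq_iff, hsa]

variable [DecidableEq E]

theorem sl2_factor (A : SL(2, E)) (hc : A 1 0 ≠ 0) :
    A = tr (A 0 0 / A 1 0) * wl (A 1 0)⁻¹ (inv_ne_zero hc) * tr (A 1 1 / A 1 0) := by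
  have hdet := det_eq A
  apply Subtype.ext
  show A.1 = !![1, A 0 0 / A 1 0; 0, 1] * !![0, -(A 1 0)⁻¹; ((A 1 0)⁻¹)⁻¹, 0] *
    !![1, A 1 1 / A 1 0; 0, 1]
  ext i j
  fin_cases i <;> fin_cases j
  · simp [Matrix.mul_apply, Fin.sum_univ_two]
    field_simp
  · simp [Matrix.mul_apply, Fin.sum_univ_two]
    field_simp
    linear_combination -hdet
  · simp [Matrix.mul_apply, Fin.sum_univ_two]
  · simp [Matrix.mul_apply, Fin.sum_univ_two]
    field_simp

theorem psl_of_coord [FaithfulSMul G Ω] (C : Coord G Ω a b c K E) (hab : a ≠ b)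
    {s : G} (hsa : s • a = b) (hsb : s • b = a) (ε r₀ : E) (hr₀ : r₀ ≠ 0) (hε : -ε = r₀ * r₀)
    (hs : ∀ x : E, x ≠ 0 → s • C.ι (x : OnePoint E) = C.ι ((ε / x : E) : OnePoint E))
    (hsq : ∀ h : G, h • a = a → h • b = b → ∃ r : E, C.ψ h = r * r)
    (hsq' : ∀ r : E, r ≠ 0 → ∃ h : G, h • a = a ∧ h • b = b ∧ C.ψ h = r * r) :
    Nonempty (G ≃* Matrix.ProjectiveSpecialLinearGroup (Fin 2) E) := by
  have hε0 : ε ≠ 0 := by
    rintro rfl
    rw [neg_zero] at hε
    exact mul_ne_zero hr₀ hr₀ hε.symm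
  -- images in coordinates
  have etau : ∀ t : E, C.rho (C.τ t) = act E (tr t) := by
    intro t
    ext1 x
    induction x using OnePoint.rec with
    | infty => rw [C.rho_tau_inf, act_tr_infty]
    | coe x => rw [C.rho_tau, act_tr_coe]
  have epsi : ∀ (h : G), h • a = a → h • b = b → ∀ (r : E) (hr : r ≠ 0), C.ψ h = r * r →
      C.rho h = act E (dg r hr) := by
    intro h ha hb r hr hψ
    ext1 x
    induction x using OnePoint.rec with
    | infty => rw [C.rho_inf ha, act_dg_infty]
    | coe x => rw [C.rho_psi ha hb, act_dg_coe, hψ, sq]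
  have es : C.rho s = act E (wl r₀ hr₀) := by
    ext1 x
    induction x using OnePoint.rec with
    | infty =>
      rw [act_wl_infty]
      exact C.rho_eq _ _ _ (by rw [C.inf, C.zero, hsa])
    | coe x =>
      by_cases hx : x = 0
      · subst hx
        rw [act_wl_zero]
        exact C.rho_eq _ _ _ (by rw [C.inf, C.zero, hsb])
      · rw [act_wl_coe r₀ hr₀ x hx]
        apply C.rho_eq
        rw [hs x hx]
        congr 3
        rw [sq, ← hε, neg_neg]
  have hstab : ∀ g : G, g • a = a → C.rho g ∈ (act E).range := by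
    intro g hg
    obtain ⟨t, h, ha, hb, rfl⟩ := C.decomp_stab hg hab
    obtain ⟨r, hr⟩ := hsq h ha hb
    have hr0 : r ≠ 0 := by
      rintro rfl
      exact C.psi_ne ha hb (by rw [hr, mul_zero])
    rw [map_mul, etau, epsi h ha hb r hr0 hr]
    exact Subgroup.mul_mem _ ⟨_, rfl⟩ ⟨_, rfl⟩
  refine recognize C.rho C.rho_injective (le_antisymm ?_ ?_)
  · rintro _ ⟨g, rfl⟩
    by_cases hg : g • a = a
    · exact hstab g hg
    · obtain ⟨t, g', hg', rfl⟩ := C.decomp hsa g hg
      rw [map_mul, map_mul, etau, es]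
      exact Subgroup.mul_mem _ (Subgroup.mul_mem _ ⟨_, rfl⟩ ⟨_, rfl⟩) (hstab g' hg')
  · have hwl : ∀ (r : E) (hr : r ≠ 0), act E (wl r hr) ∈ C.rho.range := by
      intro r hr
      obtain ⟨h, ha, hb, hψ⟩ := hsq' (r / r₀) (div_ne_zero hr hr₀)
      refine ⟨h * s, ?_⟩
      rw [map_mul, es, epsi h ha hb _ (div_ne_zero hr hr₀) hψ]
      ext1 x
      rw [Equiv.Perm.mul_apply]
      induction x using OnePoint.rec with
      | infty =>
        rw [act_wl_infty, act_wl_infty, act_dg_coe, mul_zero]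
      | coe x =>
        by_cases hx : x = 0
        · subst hx
          rw [act_wl_zero, act_wl_zero, act_dg_infty]
        · rw [act_wl_coe _ _ _ hx, act_wl_coe _ _ _ hx, act_dg_coe]
          congr 1
          field_simp
    rintro _ ⟨A, rfl⟩
    by_cases hc : A 1 0 = 0
    · have hdet := det_eq A
      rw [hc, mul_zero, sub_zero] at hdet
      have h00 : A 0 0 ≠ 0 := left_ne_zero_of_mul_eq_one hdet
      have h11 : A 1 1 ≠ 0 := right_ne_zero_of_mul_eq_one hdet
      obtain ⟨h, ha, hb, hψ⟩ := hsq' (A 0 0) h00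
      refine ⟨C.τ (A 0 0 * A 0 1) * h, ?_⟩
      ext1 x
      rw [map_mul, Equiv.Perm.mul_apply]
      induction x using OnePoint.rec with
      | infty =>
        rw [C.rho_inf ha, C.rho_tau_inf, act_infty, if_pos hc]
      | coe x =>
        rw [C.rho_psi ha hb, C.rho_tau, act_coe, hc, zero_mul, zero_add, if_neg h11, hψ]
        congr 1
        have : A 1 1 = (A 0 0)⁻¹ := eq_inv_of_mul_eq_one_right hdet
        rw [this]
        field_simp
    · rw [sl2_factor A hc, map_mul, map_mul, ← etau, ← etau]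
      exact Subgroup.mul_mem _ (Subgroup.mul_mem _ ⟨_, rfl⟩ (hwl _ _)) ⟨_, rfl⟩

end Cfsg.Agent.Lib.ZassCoord
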