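import Mathlib
import Cfsg.Agent.Lib.ZassPSL

/-!
Zassenhaus groups with two-point stabilisers of even order `d = (n - 1) / 2` (helper13).
-/

set_option autoImplicit false

namespace Cfsg.Agent.Lib.ZassHalf

open MulAction ZassBasic ZassCoord OnePoint

universe u v

variable {G : Type u} {Ω : Type v} [Group G] [MulAction G Ω]

section

variable [Finite G] [Finite Ω]

/-- every element swapping `a` and `b` is an involution with a fixed point -/
theorem swap_all (h2 : IsMultiplyPretransitive G Ω 2) (h3 : Fix3 G Ω) {a b : Ω}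
    (hab : a ≠ b) {s : G} (hs : s * s = 1) (hs1 : s ≠ 1) (hsa : s • a = a) (hsb : s • b = b)
    (hd : 2 * Nat.card ↥(stabilizer G a ⊓ stabilizer G b) ≤ Nat.card Ω - 2)
    (g : G) (hga : g • a = b) (hgb : g • b = a) :
    g * g = 1 ∧ ∃ c, c ≠ a ∧ c ≠ b ∧ g • c = c := by
  classical
  cases nonempty_fintype G
  cases nonempty_fintype Ω
  have hex : ∀ c, c ≠ a → c ≠ b → ∃ t : G, t * t = 1 ∧ t ≠ 1 ∧ t • c = c ∧ t • a = b ∧ t • b = a :=
    fun c hca hcb => exists_inv_swap h2 h3 hab hs hs1 hsa hsb hca.symm hcb.symm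
  let T : Ω → G := fun c => if h : c ≠ a ∧ c ≠ b then (hex c h.1 h.2).choose else 1
  have hT : ∀ c, c ≠ a → c ≠ b → T c * T c = 1 ∧ T c ≠ 1 ∧ T c • c = c ∧ T c • a = b ∧ T c • b = a := by
    intro c hca hcb
    have : T c = (hex c hca hcb).choose := by simp [T, hca, hcb]
    rw [this]
    exact (hex c hca hcb).choose_spec
  let S : Finset Ω := (Finset.univ.erase a).erase b
  have hS : S.card = Nat.card Ω - 2 := by
    rw [Finset.card_erase_of_mem (by simp [hab.symm]), Finset.card_erase_of_mem (by simp),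
      Finset.card_univ, Nat.card_eq_fintype_card]
    omega
  let H : Finset G := Finset.univ.filter (fun g => g ∈ stabilizer G a ⊓ stabilizer G b)
  have hH : H.card = Nat.card ↥(stabilizer G a ⊓ stabilizer G b) := by
    rw [Nat.card_eq_fintype_card]
    exact (Fintype.card_of_subtype H (fun x => by simp [H])).symm
  let f : Ω → G := fun c => g⁻¹ * T c
  have hf : S.image f ⊆ H := by
    intro g' hg'
    obtain ⟨c, hc, rfl⟩ := Finset.mem_image.1 hg'
    have hc1 : c ≠ b := Finset.ne_of_mem_erase hc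
    have hc2 : c ≠ a := Finset.ne_of_mem_erase (Finset.mem_of_mem_erase hc)
    obtain ⟨-, -, -, h5, h6⟩ := hT c hc2 hc1
    simp only [H, Finset.mem_filter, Finset.mem_univ, true_and]
    refine ⟨?_, ?_⟩
    · show (g⁻¹ * T c) • a = a
      rw [mul_smul, h5, inv_smul_eq_iff, hga]
    · show (g⁻¹ * T c) • b = b
      rw [mul_smul, h6, inv_smul_eq_iff, hgb]
  have hfib : ∀ g ∈ S.image f, (S.filter (fun c => f c = g)).card ≤ 2 := by
    intro g _
    by_contra hlt
    push Not at hlt
    rw [Finset.two_lt_card] at hlt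
    obtain ⟨x, hx, y, hy, z, hz, hxy, hxz, hyz⟩ := hlt
    simp only [Finset.mem_filter] at hx hy hz
    have hx1 : x ≠ b := Finset.ne_of_mem_erase hx.1
    have hx2 : x ≠ a := Finset.ne_of_mem_erase (Finset.mem_of_mem_erase hx.1)
    have hy1 : y ≠ b := Finset.ne_of_mem_erase hy.1
    have hy2 : y ≠ a := Finset.ne_of_mem_erase (Finset.mem_of_mem_erase hy.1)
    have hz1 : z ≠ b := Finset.ne_of_mem_erase hz.1
    have hz2 : z ≠ a := Finset.ne_of_mem_erase (Finset.mem_of_mem_erase hz.1)
    have exy : T y = T x := mul_left_cancel (hy.2.trans hx.2.symm)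
    have exz : T z = T x := mul_left_cancel (hz.2.trans hx.2.symm)
    apply (hT x hx2 hx1).2.1
    exact h3 (T x) x y z hxy hyz hxz (hT x hx2 hx1).2.2.1 (exy ▸ (hT y hy2 hy1).2.2.1)
      (exz ▸ (hT z hz2 hz1).2.2.1)
  have h4 := Finset.card_le_mul_card_image S 2 hfib
  have heq : S.image f = H := by
    apply Finset.eq_of_subset_of_card_le hf
    rw [← hH, ← hS] at hd
    have := hd.trans h4
    omega
  have h1 : (1 : G) ∈ S.image f := by
    rw [heq]
    simp only [H, Finset.mem_filter, Finset.mem_univ, true_and]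
    exact Subgroup.one_mem _
  obtain ⟨c, hc, hgc⟩ := Finset.mem_image.1 h1
  have hc1 : c ≠ b := Finset.ne_of_mem_erase hc
  have hc2 : c ≠ a := Finset.ne_of_mem_erase (Finset.mem_of_mem_erase hc)
  have h5 : g = T c := (inv_mul_eq_one.1 hgc)
  rw [h5]
  exact ⟨(hT c hc2 hc1).1, c, hc2, hc1, (hT c hc2 hc1).2.2.1⟩

/-- the kernel is regular on the other points -/
theorem kernel_regular (h2 : IsMultiplyPretransitive G Ω 2) (h3 : Fix3 G Ω) {a b : Ω}
    (hab : a ≠ b) (K : Subgroup G) (hK : ∀ u, u ∈ K ↔ InK a u) (y : Ω) (hy : y ≠ a) :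
    ∃! u : K, (u : G) • b = y := by
  classical
  have hcard : Nat.card K = Nat.card {x : Ω // x ≠ a} := by
    rw [← card_InK h2 h3 hab]
    exact Nat.card_congr (Equiv.subtypeEquivRight hK)
  have hne : ∀ u : K, (u : G) • b ≠ a := by
    intro u h
    apply hab
    have := ((hK u).1 u.2).1
    exact (MulAction.injective (u : G) (h.trans this.symm)).symm
  let φ : K → {x : Ω // x ≠ a} := fun u => ⟨(u : G) • b, hne u⟩
  have hinj : Function.Injective φ := by
    intro u v huv
    have h1 : (u : G) • b = (v : G) • b := congrArg Subtype.val huv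
    by_contra hne'
    have h4 : (v⁻¹ * u : K) ≠ 1 := by
      intro h
      exact hne' (inv_mul_eq_one.1 h).symm
    have h5 := ((hK _).1 (v⁻¹ * u : K).2).2 (fun h => h4 (Subtype.ext h)) b hab.symm
    apply h5
    show ((v : G)⁻¹ * (u : G)) • b = b
    rw [mul_smul, h1, inv_smul_smul]
  have hbij : Function.Bijective φ := by
    rw [Nat.bijective_iff_injective_and_card]
    exact ⟨hinj, hcard⟩
  obtain ⟨u, hu⟩ := hbij.2 ⟨y, hy⟩
  refine ⟨u, congrArg Subtype.val hu, ?_⟩
  intro v hv
  apply hinj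
  apply Subtype.ext
  exact hv.trans (congrArg Subtype.val hu).symm

end

/-- the field computation: `s` is inversion -/
theorem inversion_of_relation {E : Type} [Field E] [Fintype E] (S : E → E) (h2 : (2 : E) ≠ 0)
    (hS1 : S 1 = 1)
    (hS : ∀ r x : E, r ≠ 0 → x ≠ 0 → S (r * r * x) = (r * r)⁻¹ * S x)
    (hSS : ∀ x : E, x ≠ 0 → S (S x) = x)
    (hneg : ∃ i : E, i * i = -1)
    (hcov : ∃ ν : E, ν ≠ 0 ∧ ∀ x : E, x ≠ 0 → (∃ r, r ≠ 0 ∧ x = r * r) ∨ ∃ r, r ≠ 0 ∧ x = r * r * ν)
    (k : E) (hk : ∃ r, r ≠ 0 ∧ k = r * r)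
    (hrel : ∀ y : E, y ≠ 0 → y + 1 ≠ 0 → S (S y + 1) = 1 + k * S (y + 1)) :
    ∀ x : E, x ≠ 0 → S x = x⁻¹ := by
  classical
  obtain ⟨i, hi⟩ := hneg
  obtain ⟨r₀, hr₀, hr₀k⟩ := hk
  have hi0 : i ≠ 0 := by
    rintro rfl
    rw [mul_zero] at hi
    exact one_ne_zero (neg_eq_zero.1 hi.symm)
  -- squares
  have hsq : ∀ r : E, r ≠ 0 → S (r * r) = (r * r)⁻¹ := by
    intro r hr
    have := hS r 1 hr one_ne_zero
    rwa [mul_one, hS1, mul_one] at this
  have hSneg : ∀ x : E, x ≠ 0 → S (-x) = -S x := by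
    intro x hx
    have := hS i x hi0 hx
    rw [hi] at this
    rw [← neg_one_mul x, this]
    rw [inv_neg, inv_one, neg_one_mul]
  -- k = -1
  have hk1 : k = -1 := by
    have e1 := hrel 1 one_ne_zero (by rw [one_add_one_eq_two]; exact h2)
    rw [hS1, one_add_one_eq_two] at e1
    -- S 2 (1 - k) = 1
    have e1' : S 2 * (1 - k) = 1 := by linear_combination e1
    have hk1' : (1 - k) ≠ 0 := right_ne_zero_of_mul_eq_one e1'
    have hS2 : S 2 = (1 - k)⁻¹ := eq_inv_of_mul_eq_one_left e1'
    -- y = -2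
    have hm2 : (-2 : E) ≠ 0 := neg_ne_zero.2 h2
    have hm2' : (-2 : E) + 1 ≠ 0 := by
      intro h
      have : (1 : E) = 0 := by linear_combination -h
      exact one_ne_zero this
    have e2 := hrel (-2) hm2 hm2'
    have e3 : (-2 : E) + 1 = -1 := by ring
    rw [e3, hSneg 1 one_ne_zero, hS1, hSneg 2 h2, hS2] at e2
    have hk0 : k ≠ 0 := by
      rw [hr₀k]; exact mul_ne_zero hr₀ hr₀
    have e4 : -(1 - k)⁻¹ + 1 = r₀ * r₀ * (-(1 - k)⁻¹) := by
      rw [← hr₀k]
      field_simp
      ring
    rw [e4, hS r₀ _ hr₀ (neg_ne_zero.2 (inv_ne_zero hk1')), hSneg _ (inv_ne_zero hk1'), ← hS2,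
      hSS 2 h2, ← hr₀k] at e2
    have e5 : (k - 2) * (k + 1) = 0 := by
      field_simp at e2
      linear_combination e2
    rcases mul_eq_zero.1 e5 with h | h
    · have hk2 : k = 2 := by linear_combination h
      have h6 : S 2 = -1 := by
        rw [hS2, hk2]
        have : (1 : E) - 2 = -1 := by ring
        rw [this, inv_neg, inv_one]
      have h7 := hSS 2 h2
      rw [h6, hSneg 1 one_ne_zero, hS1] at h7
      rw [hk2, h7]
    · linear_combination h
  obtain ⟨ν, hν, hcov⟩ := hcov
  -- the constant on non-squares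
  set c := S ν * ν with hc
  have hns : ∀ r : E, r ≠ 0 → S (r * r * ν) = c * (r * r * ν)⁻¹ := by
    intro r hr
    rw [hS r ν hr hν, hc]
    field_simp
  by_cases hc1 : c = 1
  · intro x hx
    rcases hcov x hx with ⟨r, hr, rfl⟩ | ⟨r, hr, rfl⟩
    · exact hsq r hr
    · rw [hns r hr, hc1, one_mul]
  · exfalso
    -- squares are closed under adding one
    have hclosed : ∀ r : E, r ≠ 0 → ∃ t : E, r * r + 1 = t * t := by
      intro r hr
      by_cases h0 : r * r + 1 = 0
      · exact ⟨0, by rw [h0, mul_zero]⟩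
      rcases hcov _ h0 with ⟨t, -, ht⟩ | ⟨t, ht0, ht⟩
      · exact ⟨t, ht⟩
      · exfalso
        apply hc1
        have e1 := hrel (r * r) (mul_ne_zero hr hr) h0
        rw [hk1, hsq r hr, ht, hns t ht0, ← ht] at e1
        have e2 : (r * r)⁻¹ + 1 = (t / r) * (t / r) * ν := by
          have : t * t * ν = r * r + 1 := ht.symm
          field_simp
          linear_combination -this
        rw [e2, hns (t / r) (div_ne_zero ht0 hr)] at e1
        have e3 : (t / r * (t / r) * ν) = (r * r + 1) / (r * r) := by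
          rw [ht]
          field_simp
        rw [e3] at e1
        have h0' : r ^ 2 + 1 ≠ 0 := by rw [sq]; exact h0
        field_simp at e1
        have e4 : c * (r * r + 1) = (r * r + 1) := by linear_combination e1
        have e5 : (c - 1) * (r * r + 1) = 0 := by linear_combination e4
        rcases mul_eq_zero.1 e5 with h | h
        · linear_combination h
        · exact absurd h h0
    -- additive subgroup of squares
    let A : AddSubgroup E :=
      { carrier := {x | ∃ t : E, x = t * t}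
        zero_mem' := ⟨0, by rw [mul_zero]⟩
        add_mem' := by
          rintro _ _ ⟨x, rfl⟩ ⟨y, rfl⟩
          by_cases hx : x = 0
          · exact ⟨y, by rw [hx, mul_zero, zero_add]⟩
          by_cases hy : y = 0
          · exact ⟨x, by rw [hy, mul_zero, add_zero]⟩
          obtain ⟨t, ht⟩ := hclosed (x / y) (div_ne_zero hx hy)
          refine ⟨t * y, ?_⟩
          have : t * y * (t * y) = (t * t) * (y * y) := by ring
          rw [this, ← ht]
          field_simp
        neg_mem' := by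
          rintro _ ⟨x, rfl⟩
          exact ⟨i * x, by rw [mul_mul_mul_comm, hi]; ring⟩ }
    have hA1 : (1 : E) ∈ A := ⟨1, by rw [mul_one]⟩
    by_cases htop : A = ⊤
    · -- everything is a square: then ν is a square
      have hν' : ν ∈ A := by rw [htop]; trivial
      obtain ⟨t, ht⟩ := hν'
      have ht0 : t ≠ 0 := by
        rintro rfl
        exact hν (by rw [ht, mul_zero])
      apply hc1
      have h1 := hsq t ht0
      rw [← ht] at h1
      rw [hc, h1, inv_mul_cancel₀ hν]
    · -- count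
      have hAcard : Fintype.card E ≤ 2 * Nat.card A - 1 := by
        -- E = A ∪ ν A, sharing zero
        have hcover : (Set.univ : Set E) ⊆ (A : Set E) ∪ ((fun x => x * ν) '' {x | x ∈ A ∧ x ≠ 0}) := by
          intro x _
          by_cases hx : x = 0
          · left; rw [hx]; exact A.zero_mem
          rcases hcov x hx with ⟨r, -, hr⟩ | ⟨r, hr0, hr⟩
          · left; exact ⟨r, hr⟩
          · right; exact ⟨r * r, ⟨⟨r, rfl⟩, mul_ne_zero hr0 hr0⟩, hr.symm⟩
        have h1 := Set.ncard_le_ncard hcover (Set.toFinite _)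
        rw [Set.ncard_univ, Nat.card_eq_fintype_card] at h1
        have h2 := Set.ncard_union_le (A : Set E) ((fun x => x * ν) '' {x | x ∈ A ∧ x ≠ 0})
        have h3 : Set.ncard ((fun x => x * ν) '' {x | x ∈ A ∧ x ≠ 0}) ≤ Set.ncard {x | x ∈ A ∧ x ≠ 0} :=
          Set.ncard_image_le (Set.toFinite _)
        have h4 : Set.ncard {x | x ∈ A ∧ x ≠ 0} + 1 = Set.ncard (A : Set E) := by
          have e : (A : Set E) = insert 0 {x | x ∈ A ∧ x ≠ 0} := by
            ext x
            simp only [SetLike.mem_coe, Set.mem_insert_iff, Set.mem_ofPred_eq]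
            constructor
            · intro hx
              by_cases h0 : x = 0
              · left; exact h0
              · right; exact ⟨hx, h0⟩
            · rintro (rfl | ⟨hx, -⟩)
              · exact A.zero_mem
              · exact hx
          rw [e, Set.ncard_insert_of_notMem (by simp) (Set.toFinite _)]
        have h5 : Nat.card A = Set.ncard (A : Set E) := rfl
        omega
      have hdvd : Nat.card A * A.index = Fintype.card E := by
        rw [← Nat.card_eq_fintype_card]
        exact A.card_mul_index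
      have hidx : A.index ≠ 1 := fun h => htop (AddSubgroup.index_eq_one.1 h)
      have hidx0 : A.index ≠ 0 := by
        intro h
        rw [h, mul_zero] at hdvd
        exact Fintype.card_ne_zero hdvd.symm
      have h7 : Nat.card A * 2 ≤ Fintype.card E := by
        rw [← hdvd]
        exact Nat.mul_le_mul_left _ (by omega)
      have : 0 < Nat.card A := Nat.card_pos
      omega

theorem psl_of_half [Finite G] [Finite Ω] [FaithfulSMul G Ω]
    (h2 : IsMultiplyPretransitive G Ω 2) (h3 : Fix3 G Ω)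
    {a b : Ω} (hab : a ≠ b) (heven : Even (Nat.card ↥(stabilizer G a ⊓ stabilizer G b)))
    (hd : 2 * Nat.card ↥(stabilizer G a ⊓ stabilizer G b) ≤ Nat.card Ω - 2) :
    ∃ (E : Type) (_ : Field E) (_ : Fintype E), ringChar E ≠ 2 ∧
      Nat.card Ω = Fintype.card E + 1 ∧
      Nonempty (G ≃* Matrix.ProjectiveSpecialLinearGroup (Fin 2) E) := by
  classical
  set H : Subgroup G := stabilizer G a ⊓ stabilizer G b with hH
  set d := Nat.card H with hdd
  have hdpos : 0 < d := Nat.card_pos
  -- the involution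
  obtain ⟨z, hz⟩ : ∃ z : H, orderOf z = 2 := by
    have := Fact.mk Nat.prime_two
    exact exists_prime_orderOf_dvd_card' 2 (even_iff_two_dvd.1 heven)
  have hz1 : (z : G) ≠ 1 := by
    intro h
    have : z = 1 := Subtype.ext h
    rw [this, orderOf_one] at hz
    omega
  have hzz : (z : G) * z = 1 := by
    have : z * z = 1 := by rw [← sq, ← hz, pow_orderOf_eq_one]
    exact congrArg Subtype.val this
  have hza : (z : G) • a = a := z.2.1
  have hzb : (z : G) • b = b := z.2.2
  have hn : Nat.card Ω - 2 ≤ 2 * d := card_le_two_mul h2 h3 hab hzz hz1 hza hzb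
  have hcardΩ : Nat.card Ω = 2 * d + 2 := by omega
  have hswap := swap_all h2 h3 hab hzz hz1 hza hzb hd
  obtain ⟨s, hsa, hsb⟩ := exists_move h2 hab hab.symm
  obtain ⟨hss, c, hca, hcb, hsc⟩ := hswap s hsa hsb
  -- the kernel
  let K := kernel h2 h3 hab hzz hz1 hza hzb
  have hK : ∀ u, u ∈ K ↔ InK a u := fun u => Iff.rfl
  have hreg := kernel_regular h2 h3 hab K hK
  have Hinv : ∀ h ∈ H, s * h * s = h⁻¹ := by
    intro h hh
    have h1 := (hswap (s * h) (by rw [mul_smul, hh.1, hsa]) (by rw [mul_smul, hh.2, hsb])).1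
    rw [← mul_assoc] at h1
    exact eq_inv_of_mul_eq_one_left h1
  have Hcomm : ∀ h ∈ H, ∀ h' ∈ H, h * h' = h' * h := by
    intro h hh h' hh'
    have h1 := Hinv (h * h') (H.mul_mem hh hh')
    have h4 : s * (h * h') * s = (s * h * s) * (s * h' * s) := by
      have : (s * h * s) * (s * h' * s) = s * h * (s * s) * h' * s := by group
      rw [this, hss, mul_one]
      group
    rw [h4, Hinv h hh, Hinv h' hh', mul_inv_rev] at h1
    have h5 := congrArg (fun x => x⁻¹) h1
    simp only [mul_inv_rev, inv_inv] at h5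
    exact h5.symm
  have hKcard : Nat.card K = 2 * d + 1 := by
    have h1 : Nat.card K = Nat.card {x : Ω // x ≠ a} := card_InK h2 h3 hab
    have h2' : Nat.card {x : Ω // x ≠ a} + 1 = Nat.card Ω := by
      have := Fintype.ofFinite Ω
      have hpos : 0 < Nat.card Ω := by omega
      rw [Nat.card_eq_fintype_card, Fintype.card_subtype_compl, Fintype.card_subtype_eq,
        ← Nat.card_eq_fintype_card]
      omega
    omega
  have hKne : ∀ u ∈ K, u ≠ 1 → ∀ h ∈ H, h * u * h⁻¹ = u → h = 1 := by
    intro u hu hu1 h hh hcom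
    have hub : u • b ≠ b := (((hK u).1 hu).2 hu1) b hab.symm
    have hua : u • a = a := ((hK u).1 hu).1
    apply h3 h a b (u • b) hab hub.symm
    · intro h'
      exact hab (MulAction.injective u (hua.trans h'))
    · exact hh.1
    · exact hh.2
    · have : h * u = u * h := by
        rw [← mul_inv_eq_iff_eq_mul]; exact hcom
      rw [smul_smul, this, mul_smul]
      congr 1
      exact hh.2
  have irr : ∀ S : Subgroup G, S ≤ K → (∀ h : G, h • a = a → h • b = b → ∀ k ∈ S, h * k * h⁻¹ ∈ S) →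
      S = ⊥ ∨ S = K := by
    intro S hSK hSinv
    by_cases hbot : S = ⊥
    · left; exact hbot
    right
    obtain ⟨⟨u, huS⟩, hu1'⟩ := Subgroup.ne_bot_iff_exists_ne_one.1 hbot
    have hu1 : u ≠ 1 := fun h => hu1' (Subtype.ext h)
    -- injection `Option H → S`
    let φ : Option H → S := fun x => match x with
      | Option.none => 1
      | Option.some h => ⟨(h : G) * u * (h : G)⁻¹, hSinv h h.2.1 h.2.2 u huS⟩
    have hφ : Function.Injective φ := by
      intro x y hxy
      have hne : ∀ h : H, (h : G) * u * (h : G)⁻¹ ≠ 1 := by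
        intro h h'
        apply hu1
        have : u = (h : G)⁻¹ * ((h : G) * u * (h : G)⁻¹) * h := by group
        rw [this, h']; group
      match x, y with
      | Option.none, Option.none => rfl
      | Option.none, Option.some h => exact absurd (congrArg Subtype.val hxy).symm (hne h)
      | Option.some h, Option.none => exact absurd (congrArg Subtype.val hxy) (hne h)
      | Option.some h, Option.some h' =>
        have h1 : (h : G) * u * (h : G)⁻¹ = (h' : G) * u * (h' : G)⁻¹ := congrArg Subtype.val hxy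
        have h2' : (h'⁻¹ * h : H) = 1 := by
          apply Subtype.ext
          apply hKne u (hSK huS) hu1 _ (h'⁻¹ * h : H).2
          show ((h' : G)⁻¹ * (h : G)) * u * ((h' : G)⁻¹ * (h : G))⁻¹ = u
          have : ((h' : G)⁻¹ * (h : G)) * u * ((h' : G)⁻¹ * (h : G))⁻¹ =
            (h' : G)⁻¹ * ((h : G) * u * (h : G)⁻¹) * h' := by group
          rw [this, h1]; group
        rw [inv_mul_eq_one.1 h2']
    have h1 : Nat.card (Option H) ≤ Nat.card S := Nat.card_le_card_of_injective φ hφ
    rw [Finite.card_option] at h1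
    have h4 : Nat.card S ∣ Nat.card K := Subgroup.card_dvd_of_le hSK
    obtain ⟨m, hm⟩ := h4
    apply Subgroup.eq_of_le_of_card_ge hSK
    rw [hKcard] at hm
    have hm1 : m = 1 := by
      have hm0 : m ≠ 0 := by rintro rfl; omega
      by_contra hne
      have : 2 ≤ m := by omega
      have : Nat.card S * 2 ≤ Nat.card S * m := Nat.mul_le_mul_left _ this
      omega
    rw [hKcard, hm, hm1, mul_one]
  obtain ⟨E, hE, hEf, hEcard, ⟨C⟩⟩ := exists_coord hab hca hcb K
    (fun u hu => ((hK u).1 hu).1)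
    (fun h ha hb k hk => (hK _).2 (inK_conj ((hK k).1 hk) ha))
    (fun u hu v hv => inK_comm h2 h3 hab hzz hz1 hza hzb ((hK u).1 hu) ((hK v).1 hv))
    hreg Hcomm irr
  rw [hKcard] at hEcard
  have h20 : (2 : E) ≠ 0 := by
    intro h
    have h1 : addOrderOf (1 : E) ∣ 2 := by
      rw [addOrderOf_dvd_iff_nsmul_eq_zero, nsmul_eq_mul, mul_one]
      exact_mod_cast h
    have h2' : addOrderOf (1 : E) ∣ Fintype.card E := addOrderOf_dvd_card
    have h4 : addOrderOf (1 : E) ≠ 1 := by
      rw [Ne, AddMonoid.addOrderOf_eq_one_iff]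
      exact one_ne_zero
    have h5 : addOrderOf (1 : E) = 2 := ((Nat.dvd_prime Nat.prime_two).1 h1).resolve_left h4
    rw [h5, hEcard] at h2'
    omega
  have hchar : ringChar E ≠ 2 := by
    intro h
    apply h20
    have := ringChar.spec E 2
    rw [h] at this
    exact_mod_cast this.2 dvd_rfl
  refine ⟨E, hE, hEf, hchar, by rw [hcardΩ, hEcard], ?_⟩
  -- the multipliers
  have hιinj : ∀ x y : E, C.ι (x : OnePoint E) = C.ι (y : OnePoint E) → x = y := by
    intro x y h
    exact OnePoint.coe_injective (C.bij.1 h)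
  have ψmul : ∀ h ∈ H, ∀ h' ∈ H, C.ψ (h * h') = C.ψ h * C.ψ h' := by
    intro h hh h' hh'
    apply hιinj
    have h1 := C.ψ_smul (h * h') (by rw [mul_smul, hh'.1, hh.1]) (by rw [mul_smul, hh'.2, hh.2]) 1
    rw [mul_one, mul_smul, C.ψ_smul h' hh'.1 hh'.2, C.ψ_smul h hh.1 hh.2, mul_one] at h1
    exact h1.symm
  have ψone : C.ψ 1 = 1 := by
    apply hιinj
    have h1 := C.ψ_smul 1 (one_smul _ _) (one_smul _ _) 1
    rw [mul_one, one_smul] at h1
    exact h1.symm
  let f : H →* Eˣ :=
    { toFun := fun h => Units.mk0 (C.ψ h) (C.psi_ne h.2.1 h.2.2)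
      map_one' := Units.ext ψone
      map_mul' := fun h h' => Units.ext (ψmul h h.2 h' h'.2) }
  have hfψ : ∀ h : H, ((f h : Eˣ) : E) = C.ψ h := fun h => rfl
  have hfinj : Function.Injective f := by
    rw [injective_iff_map_eq_one]
    intro h hh
    have h1 : C.ψ h = 1 := by rw [← hfψ, hh]; rfl
    apply Subtype.ext
    apply h3 h a b c hab hcb.symm hca.symm h.2.1 h.2.2
    rw [← C.one, C.ψ_smul h h.2.1 h.2.2, h1, mul_one]
  have hunits : Nat.card Eˣ = 2 * d := by
    rw [Nat.card_eq_fintype_card, Fintype.card_units, hEcard]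
    omega
  have hrange : Nat.card f.range = d := by
    rw [hdd]
    exact (Nat.card_congr (MonoidHom.ofInjective hfinj).toEquiv).symm
  have hidx : f.range.index = 2 := by
    have h1 := f.range.card_mul_index
    rw [hrange, hunits] at h1
    have : d * f.range.index = d * 2 := by rw [h1]; ring
    exact Nat.eq_of_mul_eq_mul_left hdpos this
  have hsq' : ∀ r : E, r ≠ 0 → ∃ h : G, h • a = a ∧ h • b = b ∧ C.ψ h = r * r := by
    intro r hr
    have h1 := Subgroup.sq_mem_of_index_two hidx (Units.mk0 r hr)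
    obtain ⟨h, hh⟩ := h1
    refine ⟨h, h.2.1, h.2.2, ?_⟩
    rw [← hfψ, hh, sq]; rfl
  have hsq : ∀ h : G, h • a = a → h • b = b → ∃ r : E, C.ψ h = r * r := by
    intro h ha hb
    have h1 : IsSquare (f ⟨h, ha, hb⟩) := by
      rw [FiniteField.unit_isSquare_iff hchar, ← map_pow, hEcard]
      have : (2 * d + 1) / 2 = d := by omega
      rw [this, hdd, pow_card_eq_one', map_one]
    obtain ⟨r, hr⟩ := h1
    refine ⟨r, ?_⟩
    rw [← hfψ ⟨h, ha, hb⟩, hr]; rfl
  have hneg : ∃ i : E, i * i = -1 := by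
    obtain ⟨r, hr⟩ := hsq z hza hzb
    refine ⟨r, ?_⟩
    rw [← hr]
    have h1 : C.ψ z * C.ψ z = 1 := by
      rw [← ψmul z z.2 z z.2, hzz, ψone]
    have h5 : C.ψ z ≠ 1 := by
      intro h
      apply hz1
      have : f z = 1 := Units.ext h
      have h6 := hfinj (this.trans (map_one f).symm)
      exact congrArg Subtype.val h6
    have h6 : (C.ψ z - 1) * (C.ψ z + 1) = 0 := by linear_combination h1
    rcases mul_eq_zero.1 h6 with h | h
    · exact absurd (by linear_combination h) h5
    · linear_combination h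
  have hcov : ∃ ν : E, ν ≠ 0 ∧
      ∀ x : E, x ≠ 0 → (∃ r, r ≠ 0 ∧ x = r * r) ∨ ∃ r, r ≠ 0 ∧ x = r * r * ν := by
    obtain ⟨ν, hν⟩ : ∃ ν : Eˣ, ν ∉ f.range := by
      by_contra hcon
      push Not at hcon
      have : f.range = ⊤ := by
        rw [eq_top_iff]
        intro x _
        exact hcon x
      rw [this, Subgroup.index_top] at hidx
      omega
    refine ⟨ν, ν.ne_zero, ?_⟩
    have hr : ∀ y : Eˣ, y ∈ f.range → ∃ r : E, r ≠ 0 ∧ (y : E) = r * r := by
      rintro _ ⟨h, rfl⟩
      obtain ⟨r, hr⟩ := hsq h h.2.1 h.2.2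
      refine ⟨r, ?_, hr⟩
      rintro rfl
      rw [mul_zero] at hr
      exact C.psi_ne h.2.1 h.2.2 hr
    intro x hx
    by_cases hxr : Units.mk0 x hx ∈ f.range
    · left
      exact hr _ hxr
    · right
      have h1 : Units.mk0 x hx * ν⁻¹ ∈ f.range := by
        rw [Subgroup.mul_mem_iff_of_index_two hidx]
        constructor
        · intro h; exact absurd h hxr
        · intro h; exact absurd (inv_mem_iff.1 h) hν
      obtain ⟨r, hr0, hr'⟩ := hr _ h1
      refine ⟨r, hr0, ?_⟩
      rw [← hr']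
      simp
  -- the map induced by s
  have hSex : ∀ x : E, ∃ y : E, x ≠ 0 → s • C.ι (x : OnePoint E) = C.ι (y : OnePoint E) := by
    intro x
    obtain ⟨w, hw⟩ := C.bij.2 (s • C.ι (x : OnePoint E))
    induction w using OnePoint.rec with
    | infty =>
      refine ⟨0, fun hx => ?_⟩
      exfalso
      rw [C.inf] at hw
      have h1 : C.ι (x : OnePoint E) = C.ι ((0 : E) : OnePoint E) := by
        rw [C.zero]
        exact MulAction.injective s (hw.symm.trans hsb.symm)
      exact hx (hιinj _ _ h1)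
    | coe y => exact ⟨y, fun _ => hw.symm⟩
  choose S hS using hSex
  have hS0 : ∀ x : E, x ≠ 0 → S x ≠ 0 := by
    intro x hx h0
    have h1 := hS x hx
    rw [h0, C.zero] at h1
    have h4 : C.ι (x : OnePoint E) = C.ι (∞ : OnePoint E) := by
      rw [C.inf]
      exact MulAction.injective s (h1.trans hsa.symm)
    exact OnePoint.coe_ne_infty _ (C.bij.1 h4)
  have hSS : ∀ x : E, x ≠ 0 → S (S x) = x := by
    intro x hx
    apply hιinj
    rw [← hS _ (hS0 x hx), ← hS x hx, smul_smul, hss, one_smul]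
  have hS1 : S 1 = 1 := by
    apply hιinj
    rw [← hS 1 one_ne_zero, C.one, hsc]
  have hSr : ∀ r x : E, r ≠ 0 → x ≠ 0 → S (r * r * x) = (r * r)⁻¹ * S x := by
    intro r x hr hx
    obtain ⟨h, ha, hb, hψ⟩ := hsq' r hr
    have hinv : C.ψ h⁻¹ = (r * r)⁻¹ := by
      have h1 := ψmul h ⟨ha, hb⟩ h⁻¹ (H.inv_mem ⟨ha, hb⟩)
      rw [mul_inv_cancel, ψone, hψ] at h1
      exact eq_inv_of_mul_eq_one_right h1.symm
    apply hιinj
    rw [← hS _ (mul_ne_zero (mul_ne_zero hr hr) hx), ← hψ, ← C.ψ_smul h ha hb]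
    have h1 : s * h = h⁻¹ * s := by
      have := Hinv h ⟨ha, hb⟩
      rw [← this, mul_assoc, hss, mul_one]
    rw [smul_smul, h1, mul_smul, hS x hx, C.ψ_smul h⁻¹ (H.inv_mem ⟨ha, hb⟩).1 (H.inv_mem ⟨ha, hb⟩).2,
      hinv]
    rw [hψ]
  obtain ⟨i, hi⟩ := hneg
  have hi0 : i ≠ 0 := by
    rintro rfl
    rw [mul_zero] at hi
    exact one_ne_zero (neg_eq_zero.1 hi.symm)
  have hSm1 : S (-1) = -1 := by
    have := hSr i 1 hi0 one_ne_zero
    rw [hi, hS1, mul_one, mul_one, inv_neg, inv_one] at this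
    exact this
  -- the relation
  have hτ : ∀ t x : E, C.τ t • C.ι (x : OnePoint E) = C.ι ((x + t : E) : OnePoint E) := C.τ_smul
  have hτinv : ∀ t x : E, (C.τ t)⁻¹ • C.ι (x : OnePoint E) = C.ι ((x - t : E) : OnePoint E) := by
    intro t x
    rw [inv_smul_eq_iff, hτ, sub_add_cancel]
  have hτinva : ∀ t : E, (C.τ t)⁻¹ • a = a := by
    intro t
    rw [inv_smul_eq_iff, C.τ_inf]
  set u := C.τ 1 with hu
  let g := u⁻¹ * s * u * s * u⁻¹
  have hub : u • b = c := by
    have := hτ 1 0
    rw [zero_add, C.zero, C.one] at this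
    exact this
  have huc : u⁻¹ • c = b := by rw [inv_smul_eq_iff, hub]
  have hub' : u⁻¹ • b = C.ι ((-1 : E) : OnePoint E) := by
    have := hτinv 1 0
    rw [zero_sub, C.zero] at this
    exact this
  have hum : u • C.ι ((-1 : E) : OnePoint E) = b := by
    rw [← hub', smul_inv_smul]
  have hga : g • a = b := by
    show (u⁻¹ * s * u * s * u⁻¹) • a = b
    rw [mul_smul, mul_smul, mul_smul, mul_smul, hτinva, hsa, hub, hsc, huc]
  have hgb : g • b = a := by
    show (u⁻¹ * s * u * s * u⁻¹) • b = a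
    rw [mul_smul, mul_smul, mul_smul, mul_smul, hub',
      hS (-1) (neg_ne_zero.2 one_ne_zero), hSm1, hum, hsb, hτinva]
  have hha : (g * s) • a = a := by rw [mul_smul, hsa, hgb]
  have hhb : (g * s) • b = b := by rw [mul_smul, hsb, hga]
  obtain ⟨r₀, hr₀⟩ := hsq (g * s) hha hhb
  have hr₀0 : r₀ ≠ 0 := by
    rintro rfl
    rw [mul_zero] at hr₀
    exact C.psi_ne hha hhb hr₀
  have hrel : ∀ y : E, y ≠ 0 → y + 1 ≠ 0 → S (S y + 1) = 1 + C.ψ (g * s) * S (y + 1) := by
    intro y hy hy1
    have hSy : S y + 1 ≠ 0 := by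
      intro h
      have h1 : S y = -1 := eq_neg_of_add_eq_zero_left h
      have h4 := hSS y hy
      rw [h1, hSm1] at h4
      apply hy1
      rw [← h4]; ring
    apply hιinj
    have e1 : s • u • s • C.ι (y : OnePoint E) = C.ι ((S (S y + 1) : E) : OnePoint E) := by
      rw [hS y hy, hτ, hS _ hSy]
    have e2 : s • u • s • C.ι (y : OnePoint E) =
        C.ι ((C.ψ (g * s) * S (y + 1) + 1 : E) : OnePoint E) := by
      have h1 : s * u * s = u * (g * s) * s * u := by
        show s * u * s = u * (u⁻¹ * s * u * s * u⁻¹ * s) * s * u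
        have : u * (u⁻¹ * s * u * s * u⁻¹ * s) * s * u = s * u * s * u⁻¹ * (s * s) * u := by group
        rw [this, hss]
        group
      rw [smul_smul, smul_smul, h1, mul_smul, mul_smul, mul_smul, hτ, hS _ hy1,
        C.ψ_smul _ hha hhb, hτ]
    rw [← e1, e2, add_comm]
  have hinv := inversion_of_relation S h20 hS1 hSr hSS ⟨i, hi⟩ hcov (C.ψ (g * s))
    ⟨r₀, hr₀0, hr₀⟩ hrel
  refine psl_of_coord C hab hsa hsb 1 i hi0 hi.symm ?_ hsq hsq'
  intro x hx
  rw [hS x hx, hinv x hx, one_div]

end Cfsg.Agent.Lib.ZassHalf
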