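import Cfsg.Agent.Lib.BTI2
import Cfsg.Agent.Lib.ZassHalf
import Cfsg.Agent.Lib.PGLCoord
import Cfsg.Agent.Lib.ClSLn

/-!
# Bender's TI theorem (S3043), III: the case `|C(z) : C_N(z)| = 2` (helper4)
-/

set_option autoImplicit false
set_option linter.unusedSectionVars false

namespace Cfsg.Agent.Lib.BTI

open Cfsg.Agent.Lib.Involutions
open scoped Pointwise

variable {G : Type*} [Group G] [Finite G] {M : Subgroup G} {z : G}

local notation "N(" M ")" => Subgroup.normalizer (SetLike.coe M)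
local notation "C(" z ")" => Subgroup.centralizer ({z} : Set _)

/-- the case hypothesis -/
structure Two (M : Subgroup G) (z u : G) : Prop where
  h : Hyp M z
  hd : ∀ u ∈ C(z), u ∉ N(M) → ∀ v ∈ C(z), v ∉ N(M) → u * v ∈ N(M)
  uC : u ∈ C(z)
  uN : u ∉ N(M)

variable {u : G}

theorem Two.hu (t : Two M z u) : orderOf u = 2 := t.h.outside t.uC t.uN

theorem Two.conjA (t : Two M z u) {a : G} (ha : a ∈ N(M) ⊓ C(z)) : u * a * u = a⁻¹ := by
  have := t.h.inverts t.uC t.uN ha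
  rwa [inv_self t.hu] at this

theorem Two.decomp (t : Two M z u) {g : G} (hg : g ∉ N(M)) :
    ∃ m ∈ M, ∃ n ∈ N(M), g = m * u * n := by
  obtain ⟨m', hm', hmo⟩ := t.h.star hg
  have hv : g * m' ∉ N(M) := fun h2 => hg (by
    have := mul_mem h2 (Subgroup.inv_mem _ (Subgroup.le_normalizer (H := M) hm'))
    simpa using this)
  obtain ⟨i, hi, hiN, hui⟩ := t.h.exists_comm hmo hv
  obtain ⟨y, hy, rfl⟩ := t.h.exists_conj_z hi hiN
  have hyN : y ∈ N(M) := Subgroup.le_normalizer hy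
  have h1 : y⁻¹ * (g * m') * y ∈ C(z) := by
    rw [Subgroup.mem_centralizer_singleton_iff]
    calc y⁻¹ * (g * m') * y * z = y⁻¹ * ((g * m') * (y * z * y⁻¹)) * y := by group
      _ = y⁻¹ * ((y * z * y⁻¹) * (g * m')) * y := by rw [hui]
      _ = _ := by group
  have h2 : y⁻¹ * (g * m') * y ∉ N(M) := by
    intro h2
    apply hv
    have h3 : g * m' = y * (y⁻¹ * (g * m') * y) * y⁻¹ := by group
    rw [h3]
    exact mul_mem (mul_mem hyN h2) (Subgroup.inv_mem _ hyN)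
  have h3 := t.hd u t.uC t.uN _ h1 h2
  refine ⟨y, hy, (u * (y⁻¹ * (g * m') * y)) * y⁻¹ * m'⁻¹, ?_, ?_⟩
  · exact mul_mem (mul_mem h3 (Subgroup.inv_mem _ hyN))
      (Subgroup.inv_mem _ (Subgroup.le_normalizer hm'))
  · have h4 : u * u = 1 := mul_self t.hu
    calc g = (u * u) * g := by rw [h4, one_mul]
      _ = g := by rw [h4, one_mul]
      _ = y * (1 : G) * (y⁻¹ * g) := by group
      _ = y * (u * u) * (y⁻¹ * g) := by rw [h4]
      _ = _ := by group

theorem Two.card_C (t : Two M z u) :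
    Nat.card {v : G // v ∈ C(z) ∧ v ∉ N(M)} = Nat.card (N(M) ⊓ C(z) : Subgroup G) := by
  have h4 : u * u = 1 := mul_self t.hu
  refine Nat.card_congr ⟨fun v => ⟨u * v, Subgroup.mem_inf.2 ⟨t.hd u t.uC t.uN _ v.2.1 v.2.2,
    mul_mem t.uC v.2.1⟩⟩, fun a => ⟨u * a, mul_mem t.uC (Subgroup.mem_inf.1 a.2).2, fun h1 => t.uN ?_⟩,
    fun v => ?_, fun a => ?_⟩
  · have := mul_mem h1 (Subgroup.inv_mem _ (Subgroup.mem_inf.1 a.2).1)
    simpa using this
  · apply Subtype.ext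
    show u * (u * (v : G)) = v
    rw [← mul_assoc, h4, one_mul]
  · apply Subtype.ext
    show u * (u * (a : G)) = a
    rw [← mul_assoc, h4, one_mul]

theorem Two.card_G (t : Two M z u) :
    Nat.card G = Nat.card M * Nat.card N(M) + Nat.card N(M) := by
  rw [← t.h.card_out, t.h.card_I, t.card_C, t.h.card_N]
  ring

theorem Two.inj (t : Two M z u) {m m' n n' : G} (hm : m ∈ M) (hm' : m' ∈ M) (hn : n ∈ N(M))
    (hn' : n' ∈ N(M)) (hh : m * u * n = m' * u * n') : m = m' ∧ n = n' := by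
  classical
  have hnot : ∀ (m n : G), m ∈ M → n ∈ N(M) → m * u * n ∉ N(M) := by
    intro m n hm hn h1
    apply t.uN
    have h2 : u = m⁻¹ * (m * u * n) * n⁻¹ := by group
    rw [h2]
    exact mul_mem (mul_mem (Subgroup.inv_mem _ (Subgroup.le_normalizer hm)) h1)
      (Subgroup.inv_mem _ hn)
  let f : M × N(M) → {g : G // g ∉ N(M)} := fun p => ⟨p.1 * u * p.2, hnot _ _ p.1.2 p.2.2⟩
  have hsurj : Function.Surjective f := by
    rintro ⟨g, hg⟩
    obtain ⟨m, hm, n, hn, rfl⟩ := t.decomp hg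
    exact ⟨(⟨m, hm⟩, ⟨n, hn⟩), rfl⟩
  have hcard : Nat.card (M × N(M)) = Nat.card {g : G // g ∉ N(M)} := by
    rw [Nat.card_prod]
    cases nonempty_fintype G
    have h1 : Nat.card {g : G // g ∉ N(M)} = Nat.card G - Nat.card N(M) := by
      rw [Nat.card_eq_fintype_card, Nat.card_eq_fintype_card, Nat.card_eq_fintype_card]
      rw [Fintype.card_subtype_compl (fun g : G => g ∈ N(M))]
    rw [h1, t.card_G]
    omega
  have hinj : Function.Injective f := by
    have := (Nat.bijective_iff_surjective_and_card f).2 ⟨hsurj, hcard⟩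
    exact this.1
  have h1 : f (⟨m, hm⟩, ⟨n, hn⟩) = f (⟨m', hm'⟩, ⟨n', hn'⟩) := Subtype.ext hh
  have h2 := hinj h1
  exact ⟨congrArg (fun p => (p.1 : G)) h2, congrArg (fun p => (p.2 : G)) h2⟩

theorem Two.M_conj (t : Two M z u) {m : G} (hm : m ∈ M) (hmu : u * m * u ∈ N(M)) : m = 1 := by
  have h4 : u * u = 1 := mul_self t.hu
  have h1 : m * u * 1 = 1 * u * (u * m * u) := by
    calc m * u * 1 = 1 * (m * u) := by group
      _ = (u * u) * (m * u) := by rw [h4]
      _ = _ := by group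
  exact (t.inj hm M.one_mem (Subgroup.one_mem _) hmu h1).1

theorem Two.mem_A (t : Two M z u) {n : G} (hn : n ∈ N(M)) (hnu : u * n * u ∈ N(M)) :
    n ∈ N(M) ⊓ C(z) := by
  have h4 : u * u = 1 := mul_self t.hu
  obtain ⟨m, hm, a, ha, rfl⟩ := t.h.decomp_N hn
  have h1 := t.conjA ha
  have h2 : u * m * u ∈ N(M) := by
    have h3 : u * m * u = (u * (m * a) * u) * (u * a * u)⁻¹ := by
      rw [inv_eq_of_mul_eq_one_right (a := u * a * u) (b := u * a⁻¹ * u)]
      · calc u * m * u = u * m * a * a⁻¹ * u := by group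
          _ = u * m * a * 1 * a⁻¹ * u := by group
          _ = u * m * a * (u * u) * a⁻¹ * u := by rw [h4]
          _ = _ := by group
      · calc u * a * u * (u * a⁻¹ * u) = u * a * (u * u) * a⁻¹ * u := by group
          _ = u * a * 1 * a⁻¹ * u := by rw [h4]
          _ = u * u := by group
          _ = 1 := h4
    rw [h3, h1, inv_inv]
    exact mul_mem hnu (Subgroup.mem_inf.1 ha).1
  rw [t.M_conj hm h2, one_mul]
  exact ha

theorem Two.conj_mem (t : Two M z u) {a y : G} (ha : a ∈ N(M) ⊓ C(z)) (hy : y ∈ M)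
    (h : y⁻¹ * a * y ∈ N(M) ⊓ C(z)) : a * y = y * a := by
  have h1 : y⁻¹ * (a * y * a⁻¹) ∈ M := M.mul_mem (M.inv_mem hy)
    ((Subgroup.mem_normalizer_iff.1 (Subgroup.mem_inf.1 ha).1 y).1 hy)
  have h2 : y⁻¹ * (a * y * a⁻¹) ∈ C(z) := by
    have e : y⁻¹ * (a * y * a⁻¹) = (y⁻¹ * a * y) * a⁻¹ := by group
    rw [e]
    exact mul_mem (Subgroup.mem_inf.1 h).2 (Subgroup.inv_mem _ (Subgroup.mem_inf.1 ha).2)
  have h3 := t.h.M_inf h1 h2
  calc a * y = y * (y⁻¹ * (a * y * a⁻¹)) * a := by group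
    _ = y * a := by rw [h3, mul_one]

/-- `A` acts fixed-point-freely on `M`. -/
theorem Two.fpf (t : Two M z u) {a m : G} (ha : a ∈ N(M) ⊓ C(z)) (ha1 : a ≠ 1) (hm : m ∈ M)
    (ham : a * m = m * a) : m = 1 := by
  by_contra hm1
  have h4 : u * u = 1 := mul_self t.hu
  have hua := t.conjA ha
  have hm' : u * m * u ∉ N(M) := fun h => hm1 (t.M_conj hm h)
  have hcomm : a * (u * m * u) = (u * m * u) * a := by
    have h1 : a * u = u * a⁻¹ := by
      calc a * u = 1 * (a * u) := by group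
        _ = (u * u) * (a * u) := by rw [h4]
        _ = u * (u * a * u) := by group
        _ = u * a⁻¹ := by rw [hua]
    have h2 : u * a = a⁻¹ * u := by
      calc u * a = (u * a) * 1 := by group
        _ = (u * a) * (u * u) := by rw [h4]
        _ = (u * a * u) * u := by group
        _ = a⁻¹ * u := by rw [hua]
    have h3 : a⁻¹ * m = m * a⁻¹ := by
      calc a⁻¹ * m = a⁻¹ * (m * a) * a⁻¹ := by group
        _ = a⁻¹ * (a * m) * a⁻¹ := by rw [ham]
        _ = m * a⁻¹ := by group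
    calc a * (u * m * u) = (a * u) * m * u := by group
      _ = u * (a⁻¹ * m) * u := by rw [h1]; group
      _ = u * m * (a⁻¹ * u) := by rw [h3]; group
      _ = u * m * (u * a) := by rw [h2]
      _ = _ := by group
  obtain ⟨y, hy, n, hn, hyn⟩ := t.decomp hm'
  rw [hyn] at hcomm
  have haN := (Subgroup.mem_inf.1 ha).1
  have hyN : y ∈ N(M) := Subgroup.le_normalizer hy
  -- `y⁻¹ a y = u (n a n⁻¹) u`
  have h1 : y⁻¹ * a * y = u * (n * a * n⁻¹) * u := by
    have e : a * y * u * n = y * u * n * a := by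
      calc a * y * u * n = a * (y * u * n) := by group
        _ = y * u * n * a := hcomm
    calc y⁻¹ * a * y = y⁻¹ * (a * y * u * n) * n⁻¹ * u⁻¹ := by group
      _ = y⁻¹ * (y * u * n * a) * n⁻¹ * u⁻¹ := by rw [e]
      _ = u * (n * a * n⁻¹) * u := by rw [inv_self t.hu]; group
  have h2 : n * a * n⁻¹ ∈ N(M) ⊓ C(z) := by
    apply t.mem_A (mul_mem (mul_mem hn haN) (Subgroup.inv_mem _ hn))
    rw [← h1]
    exact mul_mem (mul_mem (Subgroup.inv_mem _ hyN) haN) hyN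
  have h3 : y⁻¹ * a * y ∈ N(M) ⊓ C(z) := by
    rw [h1, t.conjA h2]
    exact Subgroup.inv_mem _ h2
  have h5 := t.conj_mem ha hy h3
  have h6 : n * a * n⁻¹ = a⁻¹ := by
    have h7 : y⁻¹ * a * y = a := by
      calc y⁻¹ * a * y = y⁻¹ * (a * y) := by group
        _ = y⁻¹ * (y * a) := by rw [h5]
        _ = a := by group
    have h8 := t.conjA h2
    rw [← h1, h7] at h8
    exact inv_eq_iff_eq_inv.1 h8.symm
  obtain ⟨m2, hm2, a2, ha2, rfl⟩ := t.h.decomp_N hn
  have h7 : m2 * a * m2⁻¹ = a⁻¹ := by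
    have h8 := t.h.comm_A a2 ha2 a ha
    calc m2 * a * m2⁻¹ = m2 * (a * a2) * a2⁻¹ * m2⁻¹ := by group
      _ = m2 * (a2 * a) * a2⁻¹ * m2⁻¹ := by rw [h8]
      _ = m2 * a2 * a * (m2 * a2)⁻¹ := by group
      _ = a⁻¹ := h6
  have h8 : m2 * (a * m2⁻¹ * a⁻¹) = a⁻¹ * a⁻¹ := by
    calc m2 * (a * m2⁻¹ * a⁻¹) = (m2 * a * m2⁻¹) * a⁻¹ := by group
      _ = a⁻¹ * a⁻¹ := by rw [h7]
  have h9 : a⁻¹ * a⁻¹ = 1 := by
    apply t.h.M_inf
    · rw [← h8]
      exact M.mul_mem hm2 ((Subgroup.mem_normalizer_iff.1 haN _).1 (M.inv_mem hm2))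
    · exact mul_mem (Subgroup.inv_mem _ (Subgroup.mem_inf.1 ha).2)
        (Subgroup.inv_mem _ (Subgroup.mem_inf.1 ha).2)
  have h10 : orderOf a = 2 := by
    apply orderOf_eq_prime _ ha1
    rw [pow_two]
    have : a * a = (a⁻¹ * a⁻¹)⁻¹ := by rw [mul_inv_rev, inv_inv]
    rw [this, h9, inv_one]
  exact t.h.no_comm hm hm1 h10 ham

end Cfsg.Agent.Lib.BTI
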