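import Cfsg.Agent.Lib.BTI3
import Cfsg.Agent.Lib.ClSL2

/-!
# Bender's TI theorem (S3043), IV: the doubly transitive case (helper4)
-/

set_option autoImplicit false
set_option linter.unusedSectionVars false

namespace Cfsg.Agent.Lib.BTI

open Cfsg.Agent.Lib.Involutions
open scoped Pointwise

universe v
variable {G : Type v} [Group G] [Finite G] {M : Subgroup G} {z u : G}

local notation "N(" M ")" => Subgroup.normalizer (SetLike.coe M)
local notation "C(" z ")" => Subgroup.centralizer ({z} : Set _)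

/-- the point `∞` -/
abbrev pinf (M : Subgroup G) : G ⧸ N(M) := ((1 : G) : G ⧸ N(M))
/-- the point `0` -/
abbrev pz (M : Subgroup G) (u : G) : G ⧸ N(M) := ((u : G) : G ⧸ N(M))

theorem smul_pinf (g : G) : g • pinf M = ((g : G) : G ⧸ N(M)) := by
  show ((g * 1 : G) : G ⧸ N(M)) = _
  rw [mul_one]

theorem smul_pz (g : G) : g • pz M u = ((g * u : G) : G ⧸ N(M)) := rfl

theorem stab_inf (g : G) : g • pinf M = pinf M ↔ g ∈ N(M) := by
  rw [smul_pinf, QuotientGroup.eq]
  constructor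
  · intro h
    have := Subgroup.inv_mem _ h
    simpa using this
  · intro h
    simpa using Subgroup.inv_mem _ h

theorem stab_z (hu : u * u = 1) (g : G) : g • pz M u = pz M u ↔ u * g * u ∈ N(M) := by
  have hui : u⁻¹ = u := inv_eq_of_mul_eq_one_left hu
  rw [smul_pz, QuotientGroup.eq]
  have e : (g * u)⁻¹ * u = (u * g * u)⁻¹ := by
    rw [mul_inv_rev, mul_inv_rev, mul_inv_rev, hui]
    calc u * g⁻¹ * u = u * (g⁻¹ * u) := by group
      _ = _ := rfl
  rw [e]
  exact inv_mem_iff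

theorem Two.stab (t : Two M z u) (g : G) :
    (g • pinf M = pinf M ∧ g • pz M u = pz M u) ↔ g ∈ N(M) ⊓ C(z) := by
  rw [stab_inf, stab_z (mul_self t.hu)]
  constructor
  · rintro ⟨h1, h2⟩
    exact t.mem_A h1 h2
  · intro h1
    refine ⟨(Subgroup.mem_inf.1 h1).1, ?_⟩
    rw [t.conjA h1]
    exact Subgroup.inv_mem _ (Subgroup.mem_inf.1 h1).1

theorem Two.ne (t : Two M z u) : pinf M ≠ pz M u := by
  intro h1
  have h2 := (QuotientGroup.eq.1 h1)
  apply t.uN
  simpa using h2

/-- the points different from `∞` -/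
theorem Two.exists_M (t : Two M z u) (p : G ⧸ N(M)) (hp : p ≠ pinf M) :
    ∃ m ∈ M, m • pz M u = p := by
  obtain ⟨g, rfl⟩ := QuotientGroup.mk_surjective p
  have hg : g ∉ N(M) := by
    intro hg
    apply hp
    rw [← smul_pinf, stab_inf]
    exact hg
  obtain ⟨m, hm, n, hn, rfl⟩ := t.decomp hg
  refine ⟨m, hm, ?_⟩
  rw [smul_pz, QuotientGroup.eq]
  have : (m * u)⁻¹ * (m * u * n) = n := by group
  rw [this]; exact hn

theorem Two.unique_M (t : Two M z u) {m m' : G} (hm : m ∈ M) (hm' : m' ∈ M)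
    (h : m • pz M u = m' • pz M u) : m = m' := by
  rw [smul_pz, smul_pz, QuotientGroup.eq] at h
  apply (t.inj hm hm' h (Subgroup.one_mem _) _).1
  group

theorem Two.card_points (t : Two M z u) : Nat.card (G ⧸ N(M)) = Nat.card M + 1 := by
  have h1 := Subgroup.card_eq_card_quotient_mul_card_subgroup N(M)
  rw [t.card_G] at h1
  have h2 : 0 < Nat.card N(M) := Nat.card_pos
  apply Nat.eq_of_mul_eq_mul_right h2
  rw [← h1]; ring

theorem Two.two_trans (t : Two M z u) : MulAction.IsMultiplyPretransitive G (G ⧸ N(M)) 2 := by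
  rw [MulAction.is_two_pretransitive_iff]
  have key : ∀ a b : G ⧸ N(M), a ≠ b → ∃ g : G, g • pinf M = a ∧ g • pz M u = b := by
    intro a b hab
    obtain ⟨x, rfl⟩ := QuotientGroup.mk_surjective a
    have h1 : x⁻¹ • b ≠ pinf M := by
      intro h2
      apply hab
      rw [inv_smul_eq_iff, smul_pinf] at h2
      exact h2.symm
    obtain ⟨m, hm, hmb⟩ := t.exists_M _ h1
    refine ⟨x * m, ?_, ?_⟩
    · rw [mul_smul, (stab_inf m).2 (Subgroup.le_normalizer hm), smul_pinf]
    · rw [mul_smul, hmb, smul_inv_smul]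
  intro a b c d hab hcd
  obtain ⟨g, hg1, hg2⟩ := key a b hab
  obtain ⟨k, hk1, hk2⟩ := key c d hcd
  refine ⟨k * g⁻¹, ?_, ?_⟩
  · rw [← hg1, mul_smul, inv_smul_smul, hk1]
  · rw [← hg2, mul_smul, inv_smul_smul, hk2]

theorem Two.fix3 (t : Two M z u) : ZassBasic.Fix3 G (G ⧸ N(M)) := by
  intro g a b c hab hbc hac ha hb hc
  obtain ⟨k, hk1, hk2⟩ : ∃ g : G, g • a = pinf M ∧ g • b = pz M u :=
    (MulAction.is_two_pretransitive_iff.1 t.two_trans) hab t.ne
  have h1 : (k * g * k⁻¹) • pinf M = pinf M := by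
    rw [← hk1, mul_smul, mul_smul, inv_smul_smul, ha]
  have h2 : (k * g * k⁻¹) • pz M u = pz M u := by
    rw [← hk2, mul_smul, mul_smul, inv_smul_smul, hb]
  have hA := (t.stab _).1 ⟨h1, h2⟩
  have hkc : k • c ≠ pinf M := by
    rw [← hk1]
    intro h3
    exact hac (MulAction.injective k h3).symm
  obtain ⟨m, hm, hmc⟩ := t.exists_M _ hkc
  have hm1 : m ≠ 1 := by
    rintro rfl
    rw [one_smul, ← hk2] at hmc
    exact hbc (MulAction.injective k hmc)
  have h3 : (k * g * k⁻¹) • (k • c) = k • c := by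
    rw [mul_smul, mul_smul, inv_smul_smul, hc]
  rw [← hmc] at h3
  have h4 : (m⁻¹ * (k * g * k⁻¹) * m) • pz M u = pz M u := by
    rw [mul_smul, mul_smul, h3, inv_smul_smul]
  have h5 : (m⁻¹ * (k * g * k⁻¹) * m) • pinf M = pinf M := by
    have hmN : m ∈ N(M) := Subgroup.le_normalizer hm
    rw [stab_inf]
    exact mul_mem (mul_mem (Subgroup.inv_mem _ hmN) ((stab_inf _).1 h1)) hmN
  have h6 := t.conj_mem hA hm ((t.stab _).1 ⟨h5, h4⟩)
  by_contra hg1
  have h7 : k * g * k⁻¹ ≠ 1 := conj_ne_one' hg1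
  exact hm1 (t.fpf hA h7 hm h6)

theorem Two.three_le (t : Two M z u) : 3 ≤ Nat.card M := by
  obtain ⟨k, hk⟩ := t.h.odd_M
  have h1 : Nat.card M ≠ 1 := by
    intro h1
    exact t.h.M1 (Subgroup.card_eq_one.1 h1)
  omega

theorem Two.faithful (t : Two M z u) : FaithfulSMul G (G ⧸ N(M)) := by
  refine ⟨fun {g g'} hgg => ?_⟩
  have h1 : ∀ p : G ⧸ N(M), (g'⁻¹ * g) • p = p := by
    intro p
    rw [mul_smul, hgg p, inv_smul_smul]
  obtain ⟨x, hx, hx1⟩ := M.bot_or_exists_ne_one.resolve_left t.h.M1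
  have h2 : pz M u ≠ x • pz M u := by
    intro h2
    apply hx1
    exact (t.unique_M M.one_mem hx (by rw [one_smul]; exact h2)).symm
  have h3 : pinf M ≠ x • pz M u := by
    intro h3
    apply t.ne
    have h4 : x⁻¹ • pinf M = pz M u := by rw [h3, inv_smul_smul]
    rw [(stab_inf _).2 (Subgroup.inv_mem _ (Subgroup.le_normalizer hx))] at h4
    exact h4
  have h4 := t.fix3 (g'⁻¹ * g) _ _ _ t.ne h2 h3 (h1 _) (h1 _) (h1 _)
  exact (inv_mul_eq_one.1 h4).symm

theorem Two.stab_eq (t : Two M z u) :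
    (MulAction.stabilizer G (pinf M) ⊓ MulAction.stabilizer G (pz M u)) = N(M) ⊓ C(z) := by
  ext g
  rw [← t.stab g, Subgroup.mem_inf, MulAction.mem_stabilizer_iff, MulAction.mem_stabilizer_iff]

theorem Two.even_A (t : Two M z u) : Even (Nat.card (N(M) ⊓ C(z) : Subgroup G)) := by
  have hz : z ∈ N(M) ⊓ C(z) := Subgroup.mem_inf.2 ⟨t.h.hzN, Subgroup.mem_centralizer_singleton_iff.2 rfl⟩
  have : orderOf z ∣ Nat.card (N(M) ⊓ C(z) : Subgroup G) := by
    rw [← Subgroup.orderOf_mk z hz]; exact orderOf_dvd_natCard _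
  rw [t.h.hz] at this
  exact even_iff_two_dvd.2 this

/-- orbits of `A` on `M` -/
theorem Two.card_A_le (t : Two M z u) (W : Subgroup G) (hW : W ≤ M) (hW1 : W ≠ ⊥)
    (hWA : ∀ a ∈ N(M) ⊓ C(z), ∀ w ∈ W, a * w * a⁻¹ ∈ W) :
    Nat.card (N(M) ⊓ C(z) : Subgroup G) + 1 ≤ Nat.card W := by
  classical
  obtain ⟨w, hw, hw1⟩ := W.bot_or_exists_ne_one.resolve_left hW1
  have hinj : Function.Injective (fun o : Option (N(M) ⊓ C(z) : Subgroup G) =>
      (o.elim (⟨1, W.one_mem⟩ : W) (fun a => ⟨a * w * (a : G)⁻¹, hWA a a.2 w hw⟩))) := by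
    rintro (_ | a) (_ | b) hab
    · rfl
    · exfalso
      have h1 : (1 : G) = b * w * (b : G)⁻¹ := congrArg Subtype.val hab
      exact conj_ne_one' hw1 h1.symm
    · exfalso
      have h1 : a * w * (a : G)⁻¹ = (1 : G) := congrArg Subtype.val hab
      exact conj_ne_one' hw1 h1
    · have h1 : (a : G) * w * (a : G)⁻¹ = b * w * (b : G)⁻¹ := congrArg Subtype.val hab
      congr 1
      by_contra hne
      have h2 : ((b : G)⁻¹ * a) * w = w * ((b : G)⁻¹ * a) := by
        calc ((b : G)⁻¹ * a) * w = (b : G)⁻¹ * (a * w * (a : G)⁻¹) * a := by group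
          _ = (b : G)⁻¹ * (b * w * (b : G)⁻¹) * a := by rw [h1]
          _ = _ := by group
      have h3 : (b : G)⁻¹ * a ≠ 1 := by
        intro h4
        exact hne (Subtype.ext (inv_mul_eq_one.1 h4).symm)
      exact hw1 (t.fpf (mul_mem (Subgroup.inv_mem _ b.2) a.2) h3 (hW hw) h2)
  have h1 := Nat.card_le_card_of_injective _ hinj
  have h2 : Nat.card (Option (N(M) ⊓ C(z) : Subgroup G)) =
      Nat.card (N(M) ⊓ C(z) : Subgroup G) + 1 := by
    cases nonempty_fintype G
    rw [Nat.card_eq_fintype_card, Fintype.card_option, Nat.card_eq_fintype_card]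
  omega

/-- lower bound for `|A|` by counting involutions -/
theorem Two.bound (t : Two M z u) :
    Nat.card M ≤ 2 * Nat.card (N(M) ⊓ C(z) : Subgroup G) + 1 := by
  classical
  set A := (N(M) ⊓ C(z) : Subgroup G) with hA
  have hH : Nat.card C(z) = 2 * Nat.card A := by
    rw [← t.h.card_H, t.card_C]; ring
  have hG : Nat.card G = (Nat.card M * (Nat.card M + 1)) * Nat.card A := by
    rw [t.card_G, t.h.card_N]; ring
  have hI : Nat.card {g : G // orderOf g = 2} = Nat.card M * (Nat.card A + 1) := by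
    rw [t.h.card_invol, t.h.card_I, t.card_C]; ring
  -- the class of `z`
  have h1 : (C(z) : Subgroup G).index ≤ Nat.card {g : G // orderOf g = 2} := by
    rw [Subgroup.index]
    refine Nat.card_le_card_of_injective (Quotient.lift
      (fun g : G => (⟨g * z * g⁻¹, by rw [orderOf_conj]; exact t.h.hz⟩ : {g : G // orderOf g = 2})) ?_) ?_
    · intro a b hab
      apply Subtype.ext
      have hab' : a⁻¹ * b ∈ C(z) := QuotientGroup.leftRel_apply.1 hab
      have := Subgroup.mem_centralizer_singleton_iff.1 hab'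
      show a * z * a⁻¹ = b * z * b⁻¹
      calc a * z * a⁻¹ = a * (z * (a⁻¹ * b)) * b⁻¹ := by group
        _ = a * ((a⁻¹ * b) * z) * b⁻¹ := by rw [this]
        _ = _ := by group
    · intro a b hab
      obtain ⟨a, rfl⟩ := Quotient.exists_rep a
      obtain ⟨b, rfl⟩ := Quotient.exists_rep b
      have h2 : a * z * a⁻¹ = b * z * b⁻¹ := congrArg Subtype.val hab
      apply Quotient.sound
      apply QuotientGroup.leftRel_apply.2
      rw [Subgroup.mem_centralizer_singleton_iff]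
      calc a⁻¹ * b * z = a⁻¹ * (b * z * b⁻¹) * b := by group
        _ = a⁻¹ * (a * z * a⁻¹) * b := by rw [h2]
        _ = _ := by group
  have h2 := Subgroup.card_mul_index C(z)
  rw [hH, hG] at h2
  rw [hI] at h1
  have hApos : 0 < Nat.card A := Nat.card_pos
  have hMpos : 0 < Nat.card M := Nat.card_pos
  have h3 : 2 * (C(z) : Subgroup G).index = Nat.card M * (Nat.card M + 1) := by
    apply Nat.eq_of_mul_eq_mul_right hApos
    rw [← h2]; ring
  have h4 : Nat.card M * (Nat.card M + 1) ≤ Nat.card M * (2 * (Nat.card A + 1)) := by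
    rw [← h3]
    calc 2 * (C(z) : Subgroup G).index ≤ 2 * (Nat.card M * (Nat.card A + 1)) := Nat.mul_le_mul_left _ h1
      _ = _ := by ring
  have h5 := Nat.le_of_mul_le_mul_left h4 hMpos
  omega

/-- `M` is elementary abelian -/
theorem Two.elem (t : Two M z u) {p : ℕ} (hp : p.Prime) (hpM : p ∣ Nat.card M) :
    ∀ x ∈ M, x ^ p = 1 := by
  have hpf := Fact.mk hp
  let W : Subgroup G :=
    { carrier := {x | x ∈ M ∧ x ^ p = 1}
      mul_mem' := by
        rintro a b ⟨ha, ha2⟩ ⟨hb, hb2⟩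
        have : Commute a b := t.h.comm a ha b hb
        exact ⟨M.mul_mem ha hb, by rw [this.mul_pow, ha2, hb2, one_mul]⟩
      one_mem' := ⟨M.one_mem, one_pow _⟩
      inv_mem' := by
        rintro a ⟨ha, ha2⟩
        exact ⟨M.inv_mem ha, by rw [inv_pow, ha2, inv_one]⟩ }
  have hWM : W ≤ M := fun x hx => hx.1
  have hW1 : W ≠ ⊥ := by
    obtain ⟨⟨x, hx⟩, hxp⟩ := exists_prime_orderOf_dvd_card' (G := M) p hpM
    rw [Subgroup.orderOf_mk] at hxp
    intro h1
    have h2 : x ∈ W := ⟨hx, by rw [← hxp]; exact pow_orderOf_eq_one x⟩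
    rw [h1, Subgroup.mem_bot] at h2
    rw [h2, orderOf_one] at hxp
    exact hp.one_lt.ne hxp
  have hWA : ∀ a ∈ N(M) ⊓ C(z), ∀ w ∈ W, a * w * a⁻¹ ∈ W := by
    rintro a ha w ⟨hw, hw2⟩
    refine ⟨(Subgroup.mem_normalizer_iff.1 (Subgroup.mem_inf.1 ha).1 w).1 hw, ?_⟩
    rw [conj_pow, hw2]; group
  have h1 := t.card_A_le W hWM hW1 hWA
  have h2 := t.bound
  have h3 : Nat.card W ∣ Nat.card M := Subgroup.card_dvd_of_le hWM
  have h4 : W = M := by
    apply Subgroup.eq_of_le_of_card_ge hWM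
    obtain ⟨k, hk⟩ := h3
    have hWpos : 0 < Nat.card W := Nat.card_pos
    have hMpos : 0 < Nat.card M := Nat.card_pos
    have hk1 : k < 2 := by
      by_contra hk2
      have : Nat.card W * 2 ≤ Nat.card W * k := Nat.mul_le_mul_left _ (by omega)
      omega
    have hk0 : k ≠ 0 := by rintro rfl; omega
    have : k = 1 := by omega
    rw [this, mul_one] at hk
    exact hk.le
  intro x hx
  rw [← h4] at hx
  exact hx.2

end Cfsg.Agent.Lib.BTI
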