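import Cfsg.Agent.Lib.ZassBasic
import Cfsg.Agent.Lib.FrobThm
import Cfsg.Prelude.Def_LieExceptional

/-!
# Normal subgroups of Zassenhaus groups (helper6)
-/

set_option autoImplicit false
open scoped Pointwise

namespace Cfsg.Agent.Lib.ZassNormal

open MulAction Cfsg.Agent.Lib.ZassBasic

variable {G Ω : Type*} [Group G] [MulAction G Ω]

/-- a group of permutations acting freely on a set: its order divides the number of elements -/
theorem dvd_of_free [Finite Ω] {H : Subgroup G} {S : Set Ω} (hS : ∀ h ∈ H, ∀ s ∈ S, h • s ∈ S)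
    (hf : ∀ h ∈ H, h ≠ 1 → ∀ s ∈ S, h • s ≠ s) : Nat.card H ∣ S.ncard := by
  let _ : MulAction H S :=
    { smul := fun h s => ⟨(h : G) • (s : Ω), hS h h.2 s s.2⟩
      one_smul := fun s => Subtype.ext (one_smul G (s : Ω))
      mul_smul := fun g h s => Subtype.ext (mul_smul (g : G) (h : G) (s : Ω)) }
  rw [← Nat.card_coe_set_eq]
  apply FrobGroup.card_dvd_of_free
  intro h s hs
  by_contra hh
  exact hf h h.2 (fun h' => hh (Subtype.ext h')) s s.2 (congrArg Subtype.val hs)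

/-- orbit-stabiliser for a subgroup -/
theorem card_orbit (A : Subgroup G) (y : Ω) :
    {z : Ω | ∃ g ∈ A, g • y = z}.ncard * Nat.card ↥(A ⊓ stabilizer G y) = Nat.card A := by
  have h1 := (stabilizer A y).card_mul_index
  rw [MulAction.index_stabilizer] at h1
  rw [← h1, mul_comm]
  congr 1
  · refine Nat.card_congr ⟨fun g => ⟨⟨g, g.2.1⟩, g.2.2⟩, fun g => ⟨g.1.1, g.1.2, g.2⟩, ?_, ?_⟩
    · intro g; rfl
    · intro g; rfl
  · congr 1
    ext z
    constructor
    · rintro ⟨g, hg, h⟩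
      exact ⟨⟨g, hg⟩, h⟩
    · rintro ⟨g, h⟩
      exact ⟨g, g.2, h⟩

section
variable [FaithfulSMul G Ω] (h2 : IsMultiplyPretransitive G Ω 2) (N : Subgroup G) [N.Normal]
include h2

theorem trans_of_normal (hN : N ≠ ⊥) (x y : Ω) : ∃ n ∈ N, n • x = y := by
  obtain ⟨n, hn, hn1⟩ : ∃ n ∈ N, n ≠ 1 := by
    by_contra hcon
    push Not at hcon
    exact hN ((Subgroup.eq_bot_iff_forall _).mpr hcon)
  obtain ⟨z, hz⟩ := exists_moved (Ω := Ω) hn1
  by_cases hxy : x = y
  · exact ⟨1, N.one_mem, by rw [one_smul, hxy]⟩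
  · obtain ⟨g, hg1, hg2⟩ := exists_move h2 (Ne.symm hz) hxy
    refine ⟨g * n * g⁻¹, ‹N.Normal›.conj_mem n hn g, ?_⟩
    rw [mul_smul, mul_smul, ← hg1, inv_smul_smul, hg2]

omit [FaithfulSMul G Ω] in
/-- if a two-point stabiliser of `N` is nontrivial then the one-point stabiliser is transitive -/
theorem stab_trans [Finite Ω] [Finite G] (h3 : Fix3 G Ω) {a b : Ω} (hab : a ≠ b)
    (hNab : N ⊓ (stabilizer G a ⊓ stabilizer G b) ≠ ⊥) {c x y : Ω} (hx : x ≠ c) (hy : y ≠ c) :
    ∃ n ∈ N, n • c = c ∧ n • x = y := by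
  classical
  by_contra hcon
  push Not at hcon
  set A := N ⊓ stabilizer G c with hA
  -- conjugation
  have hconj : ∀ {u v : Ω}, u ≠ c → v ≠ c → ∃ g : G, g • c = c ∧ g • u = v :=
    fun hu hv => exists_move h2 hu.symm hv.symm
  have hcard : Nat.card ↥(A ⊓ stabilizer G x) = Nat.card ↥(A ⊓ stabilizer G y) := by
    obtain ⟨g, hg1, hg2⟩ := hconj hx hy
    have hgi : g⁻¹ • c = c := inv_smul_of_smul hg1
    have hgi2 : g⁻¹ • y = x := by rw [inv_smul_eq_iff, hg2]
    refine Nat.card_congr ⟨fun u => ⟨g * u * g⁻¹, ⟨‹N.Normal›.conj_mem _ u.2.1.1 g, ?_⟩, ?_⟩,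
      fun u => ⟨g⁻¹ * u * g, ⟨?_, ?_⟩, ?_⟩, ?_, ?_⟩
    · change (g * (u : G) * g⁻¹) • c = c
      rw [mul_smul, mul_smul, hgi, show (u : G) • c = c from u.2.1.2, hg1]
    · change (g * (u : G) * g⁻¹) • y = y
      rw [mul_smul, mul_smul, hgi2, show (u : G) • x = x from u.2.2, hg2]
    · have := ‹N.Normal›.conj_mem _ u.2.1.1 g⁻¹
      rwa [inv_inv] at this
    · change (g⁻¹ * (u : G) * g) • c = c
      rw [mul_smul, mul_smul, hg1, show (u : G) • c = c from u.2.1.2, hgi]
    · change (g⁻¹ * (u : G) * g) • x = x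
      rw [mul_smul, mul_smul, hg2, show (u : G) • y = y from u.2.2, hgi2]
    · intro u
      apply Subtype.ext
      change g⁻¹ * (g * (u : G) * g⁻¹) * g = u
      group
    · intro u
      apply Subtype.ext
      change g * (g⁻¹ * (u : G) * g) * g⁻¹ = u
      group
  have hne : A ⊓ stabilizer G x ≠ ⊥ := by
    intro hbot
    apply hNab
    rw [eq_bot_iff]
    rintro n ⟨hn, hna, hnb⟩
    obtain ⟨g, hg1, hg2⟩ := exists_move h2 hab hx.symm
    have h4 : g * n * g⁻¹ ∈ A ⊓ stabilizer G x := by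
      refine ⟨⟨‹N.Normal›.conj_mem n hn g, ?_⟩, ?_⟩
      · change (g * n * g⁻¹) • c = c
        rw [← hg1, mul_smul, mul_smul, inv_smul_smul, show n • a = a from hna]
      · change (g * n * g⁻¹) • x = x
        rw [← hg2, mul_smul, mul_smul, inv_smul_smul, show n • b = b from hnb]
    rw [hbot, Subgroup.mem_bot] at h4
    rw [Subgroup.mem_bot]
    have : n = g⁻¹ * (g * n * g⁻¹) * g := by group
    rw [this, h4]; group
  set H := A ⊓ stabilizer G x with hH
  have hHA : H ≤ A := inf_le_left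
  have hHx : ∀ h ∈ H, h • x = x := fun h hh => hh.2
  have hAc : ∀ h ∈ A, h • c = c := fun h hh => hh.2
  set Ox : Set Ω := {z | ∃ g ∈ A, g • x = z} with hOx
  set Oy : Set Ω := {z | ∃ g ∈ A, g • y = z} with hOy
  have hxy : x ∉ Oy := by
    rintro ⟨g, hg, hgx⟩
    exact hcon g⁻¹ (inv_mem hg.1) (inv_smul_of_smul (hAc g hg)) (by rw [inv_smul_eq_iff, hgx])
  have hcx : ∀ z ∈ Ox, z ≠ c := by
    rintro z ⟨g, hg, rfl⟩ h
    apply hx
    have := hAc g hg
    exact (MulAction.injective g (h.trans this.symm))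
  have hcy : ∀ z ∈ Oy, z ≠ c := by
    rintro z ⟨g, hg, rfl⟩ h
    apply hy
    have := hAc g hg
    exact (MulAction.injective g (h.trans this.symm))
  have hinv : ∀ {w : Ω}, ∀ h ∈ H, ∀ z ∈ {z | ∃ g ∈ A, g • w = z}, h • z ∈ {z | ∃ g ∈ A, g • w = z} := by
    rintro w h hh z ⟨g, hg, rfl⟩
    exact ⟨h * g, mul_mem (hHA hh) hg, mul_smul _ _ _⟩
  have hfree : ∀ h ∈ H, h ≠ 1 → ∀ z, z ≠ c → z ≠ x → h • z ≠ z := by
    intro h hh hh1 z hzc hzx hhz
    exact hh1 (h3 h c x z hx.symm hzx.symm hzc.symm (hAc h (hHA hh)) (hHx h hh) hhz)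
  have h5 : Nat.card H ∣ Oy.ncard := by
    apply dvd_of_free (fun h hh z hz => hinv h hh z hz)
    intro h hh hh1 z hz
    exact hfree h hh hh1 z (hcy z hz) (fun h => hxy (h ▸ hz))
  have h6 : Nat.card H ∣ (Ox \ {x}).ncard := by
    apply dvd_of_free
    · rintro h hh z ⟨hz, hzx⟩
      refine ⟨hinv h hh z hz, ?_⟩
      intro h'
      apply hzx
      exact (MulAction.injective h ((Set.mem_singleton_iff.mp h').trans (hHx h hh).symm))
    · rintro h hh hh1 z ⟨hz, hzx⟩
      exact hfree h hh hh1 z (hcx z hz) hzx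
  have hxO : x ∈ Ox := ⟨1, A.one_mem, one_smul _ _⟩
  rw [Set.ncard_sdiff_singleton_of_mem hxO] at h6
  have h7 := card_orbit A x
  have h8 := card_orbit A y
  rw [← hcard, ← h7] at h8
  have h9 : Oy.ncard = Ox.ncard := Nat.eq_of_mul_eq_mul_right Nat.card_pos h8
  rw [h9] at h5
  have h10 : 0 < Ox.ncard := (Set.ncard_pos (Set.toFinite _)).mpr ⟨x, hxO⟩
  have h11 : Nat.card H ∣ 1 := by
    have := (Nat.dvd_sub h5 h6)
    rwa [Nat.sub_sub_self (by omega)] at this
  have h12 : Nat.card H = 1 := Nat.dvd_one.mp h11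
  exact hne (Subgroup.card_eq_one.mp h12)

end

/-- no two-point stabiliser in `N`, but non-trivial one-point stabiliser: a regular normal subgroup -/
theorem exists_regular [Finite Ω] [Finite G] [FaithfulSMul G Ω] (h2 : IsMultiplyPretransitive G Ω 2)
    (N : Subgroup G) [N.Normal] (hN : N ≠ ⊥) {a b : Ω} (hab : a ≠ b)
    (hNab : N ⊓ (stabilizer G a ⊓ stabilizer G b) = ⊥) :
    ∃ K : Subgroup G, K.Normal ∧ K ≤ N ∧ (∀ x y : Ω, ∃ k ∈ K, k • x = y) ∧
      ∀ k ∈ K, ∀ x : Ω, k • x = x → k = 1 := by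
  classical
  have htr := trans_of_normal h2 N hN
  have hall : ∀ {u v : Ω}, u ≠ v → ∀ n ∈ N, n • u = u → n • v = v → n = 1 := by
    intro u v huv n hn hu hv
    obtain ⟨g, hg1, hg2⟩ := exists_move h2 huv hab
    have h4 : g * n * g⁻¹ ∈ N ⊓ (stabilizer G a ⊓ stabilizer G b) := by
      refine ⟨‹N.Normal›.conj_mem n hn g, ?_, ?_⟩
      · change (g * n * g⁻¹) • a = a
        rw [← hg1, mul_smul, mul_smul, inv_smul_smul, hu]
      · change (g * n * g⁻¹) • b = b
        rw [← hg2, mul_smul, mul_smul, inv_smul_smul, hv]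
    rw [hNab, Subgroup.mem_bot] at h4
    have : n = g⁻¹ * (g * n * g⁻¹) * g := by group
    rw [this, h4]; group
  by_cases hreg : ∀ n ∈ N, n • a = a → n = 1
  · refine ⟨N, inferInstance, le_rfl, htr, ?_⟩
    intro n hn x hx
    obtain ⟨g, hg, hgx⟩ := htr x a
    have h5 : g * n * g⁻¹ = 1 := by
      apply hreg _ (mul_mem (mul_mem hg hn) (inv_mem hg))
      rw [← hgx, mul_smul, mul_smul, inv_smul_smul, hx]
    have : n = g⁻¹ * (g * n * g⁻¹) * g := by group
    rw [this, h5]; group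
  · push Not at hreg
    obtain ⟨n0, hn0, hn0a, hn01⟩ := hreg
    set H : Subgroup N := stabilizer N a with hH
    have hmemH : ∀ n : N, n ∈ H ↔ (n : G) • a = a := fun n => Iff.rfl
    have hsm : ∀ g n : N, n ∈ MulAut.conj g • H ↔ (n : G) • ((g : G) • a) = (g : G) • a := by
      intro g n
      rw [FrobGroup.mem_conj_smul, hmemH]
      constructor
      · intro h
        have h' : ((g : G)⁻¹ * n * g) • a = a := h
        rwa [mul_smul, mul_smul, inv_smul_eq_iff] at h'
      · intro h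
        show ((g : G)⁻¹ * n * g) • a = a
        rwa [mul_smul, mul_smul, inv_smul_eq_iff]
    have hF : Cfsg.IsFrobeniusComplement H := by
      refine ⟨?_, ?_, ?_⟩
      · intro h
        have : (⟨n0, hn0⟩ : N) ∈ H := hn0a
        rw [h, Subgroup.mem_bot] at this
        exact hn01 (congrArg Subtype.val this)
      · intro h
        obtain ⟨g, hg, hgb⟩ := htr a b
        have : (⟨g, hg⟩ : N) ∈ H := h ▸ Subgroup.mem_top _
        exact hab (((hmemH _).mp this).symm.trans hgb)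
      · intro g hg
        rw [eq_bot_iff]
        rintro n ⟨h1, h4⟩
        have h1' : (n : G) • a = a := h1
        have h4' : (n : G) • ((g : G) • a) = (g : G) • a := (hsm g n).mp h4
        rw [Subgroup.mem_bot]
        exact Subtype.ext (hall (Ne.symm hg) n n.2 h1' h4')
    obtain ⟨K, hK, hKn, hKc⟩ := FrobThm.exists_kernel hF
    have hmemK : ∀ n : N, n ∈ K ↔ n = 1 ∨ ∀ x : Ω, (n : G) • x ≠ x := by
      intro n
      have : n ∈ K ↔ n ∈ Cfsg.frobeniusKernel H := by rw [← hK]; rfl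
      rw [this, Cfsg.frobeniusKernel, Set.mem_ofPred_eq]
      constructor
      · rintro (h | h)
        · exact Or.inl h
        · right
          intro x
          obtain ⟨g, hg, hgx⟩ := htr a x
          have := h ⟨g, hg⟩
          rw [hsm] at this
          rwa [← hgx]
      · rintro (h | h)
        · exact Or.inl h
        · right
          intro g
          rw [hsm]
          exact h _
    have hK' : ∀ n : G, n ∈ K.map N.subtype ↔ n ∈ N ∧ (n = 1 ∨ ∀ x : Ω, n • x ≠ x) := by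
      intro n
      rw [Subgroup.mem_map]
      constructor
      · rintro ⟨m, hm, rfl⟩
        refine ⟨m.2, ?_⟩
        rcases (hmemK m).mp hm with h | h
        · left; rw [h]; rfl
        · right; exact h
      · rintro ⟨hn, h⟩
        refine ⟨⟨n, hn⟩, (hmemK _).mpr ?_, rfl⟩
        rcases h with h | h
        · left; exact Subtype.ext h
        · right; exact h
    have hKN : (K.map N.subtype).Normal := by
      refine ⟨fun n hn g => ?_⟩
      rw [hK'] at hn ⊢
      refine ⟨‹N.Normal›.conj_mem n hn.1 g, ?_⟩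
      rcases hn.2 with h | h
      · left; rw [h]; group
      · right
        intro x hx
        apply h (g⁻¹ • x)
        rw [mul_smul, mul_smul] at hx
        rw [eq_inv_smul_iff, hx]
    have hKb : K.map N.subtype ≠ ⊥ := by
      intro h
      rw [Subgroup.map_eq_bot_iff_of_injective _ N.subtype_injective] at h
      rw [h] at hKc
      apply hF.2.1
      have := hKc.sup_eq_top
      rwa [bot_sup_eq] at this
    refine ⟨K.map N.subtype, hKN, ?_, trans_of_normal h2 _ hKb, ?_⟩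
    · rintro n hn
      exact ((hK' n).mp hn).1
    · intro k hk x hx
      rcases ((hK' k).mp hk).2 with h | h
      · exact h
      · exact absurd hx (h x)

section reg
variable [FaithfulSMul G Ω] (h2 : IsMultiplyPretransitive G Ω 2) (R : Subgroup G) [R.Normal]
  (hRt : ∀ x y : Ω, ∃ r ∈ R, r • x = y) (hRr : ∀ r ∈ R, ∀ x : Ω, r • x = x → r = 1)
include h2 hRt hRr

omit [FaithfulSMul G Ω] hRt in
/-- the non-identity elements of a regular normal subgroup are conjugate -/
theorem reg_conj (a : Ω) {r s : G} (hr : r ∈ R) (hr1 : r ≠ 1) (hs : s ∈ R) (hs1 : s ≠ 1) :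
    ∃ g : G, g • a = a ∧ g * r * g⁻¹ = s := by
  have h1 : r • a ≠ a := fun h => hr1 (hRr r hr a h)
  have h4 : s • a ≠ a := fun h => hs1 (hRr s hs a h)
  obtain ⟨g, hg1, hg2⟩ := exists_move h2 (Ne.symm h1) (Ne.symm h4)
  refine ⟨g, hg1, ?_⟩
  have h5 : s⁻¹ * (g * r * g⁻¹) = 1 := by
    apply hRr _ (mul_mem (inv_mem hs) (‹R.Normal›.conj_mem r hr g)) a
    rw [mul_smul, mul_smul, mul_smul, inv_smul_of_smul hg1, hg2, inv_smul_smul]
  exact (inv_mul_eq_one.mp h5).symm

omit hRt in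
/-- a normal subgroup meeting a regular normal subgroup contains it -/
theorem reg_min [Nontrivial Ω] (M : Subgroup G) [M.Normal] (h : R ⊓ M ≠ ⊥) : R ≤ M := by
  obtain ⟨a, b, hab⟩ := exists_pair_ne Ω
  obtain ⟨r, hr, hr1⟩ : ∃ r ∈ R ⊓ M, r ≠ 1 := by
    by_contra hcon
    push Not at hcon
    exact h ((Subgroup.eq_bot_iff_forall _).mpr hcon)
  intro s hs
  by_cases hs1 : s = 1
  · rw [hs1]; exact M.one_mem
  · obtain ⟨g, -, hg⟩ := reg_conj h2 R hRr a hr.1 hr1 hs hs1
    rw [← hg]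
    exact ‹M.Normal›.conj_mem r hr.2 g

/-- a regular normal subgroup of a finite 2-transitive group is an elementary abelian p-group -/
theorem reg_elem [Finite Ω] [Finite G] [Nontrivial Ω] :
    ∃ p : ℕ, p.Prime ∧ (∀ r ∈ R, r ^ p = 1) ∧ (∀ r ∈ R, ∀ s ∈ R, r * s = s * r) ∧
      Nat.card R = Nat.card Ω := by
  classical
  obtain ⟨a, b, hab⟩ := exists_pair_ne Ω
  obtain ⟨r0, hr0, hr0b⟩ := hRt a b
  have hr01 : r0 ≠ 1 := by
    rintro rfl
    rw [one_smul] at hr0b
    exact hab hr0b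
  have hcard : Nat.card R = Nat.card Ω := by
    apply Nat.card_eq_of_bijective (fun r : R => (r : G) • a)
    constructor
    · intro r s h
      have h' : (r : G) • a = (s : G) • a := h
      have h5 : (s : G)⁻¹ * r = 1 := by
        apply hRr _ (mul_mem (inv_mem s.2) r.2) a
        rw [mul_smul, h', inv_smul_smul]
      exact Subtype.ext (inv_mul_eq_one.mp h5).symm
    · intro x
      obtain ⟨r, hr, hrx⟩ := hRt a x
      exact ⟨⟨r, hr⟩, hrx⟩
  have hRne : Nat.card R ≠ 1 := by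
    intro h
    rw [Subgroup.card_eq_one] at h
    rw [h, Subgroup.mem_bot] at hr0
    exact hr01 hr0
  obtain ⟨p, hp, hpd⟩ := Nat.exists_prime_and_dvd hRne
  have := Fact.mk hp
  obtain ⟨x, hx⟩ := exists_prime_orderOf_dvd_card' p hpd
  have hx1 : (x : G) ≠ 1 := by
    intro h
    have : x = 1 := Subtype.ext h
    rw [this, orderOf_one] at hx
    exact hp.one_lt.ne hx
  have hexp : ∀ r ∈ R, r ^ p = 1 := by
    intro r hr
    by_cases hr1 : r = 1
    · rw [hr1, one_pow]
    · obtain ⟨g, -, hg⟩ := reg_conj h2 R hRr a x.2 hx1 hr hr1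
      rw [← hg, conj_pow]
      have : (x : G) ^ p = 1 := by
        rw [← hx, ← Subgroup.orderOf_coe, pow_orderOf_eq_one]
      rw [this]; group
  have hPG : IsPGroup p R := by
    intro r
    exact ⟨1, Subtype.ext (by rw [pow_one]; exact hexp r r.2)⟩
  have hnt : Nontrivial R := by
    rw [← Finite.one_lt_card_iff_nontrivial]
    have : 0 < Nat.card R := Nat.card_pos
    omega
  have hc := hPG.center_nontrivial
  obtain ⟨z, hz⟩ := exists_ne (1 : Subgroup.center R)
  have hz1 : ((z : R) : G) ≠ 1 := fun h => hz (Subtype.ext (Subtype.ext h))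
  refine ⟨p, hp, hexp, ?_, hcard⟩
  intro r hr s hs
  by_cases hr1 : r = 1
  · rw [hr1, one_mul, mul_one]
  · obtain ⟨g, -, hg⟩ := reg_conj h2 R hRr a (z : R).2 hz1 hr hr1
    have hs' : g⁻¹ * s * g ∈ R := by
      have := ‹R.Normal›.conj_mem s hs g⁻¹
      rwa [inv_inv] at this
    have h6 : (⟨g⁻¹ * s * g, hs'⟩ : R) * z = z * ⟨g⁻¹ * s * g, hs'⟩ :=
      Subgroup.mem_center_iff.mp z.2 _
    have h7 : g⁻¹ * s * g * (z : R) = (z : R) * (g⁻¹ * s * g) := congrArg Subtype.val h6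
    rw [← hg]
    calc g * ((z : R) : G) * g⁻¹ * s = g * (((z : R) : G) * (g⁻¹ * s * g)) * g⁻¹ := by group
      _ = g * (g⁻¹ * s * g * (z : R)) * g⁻¹ := by rw [h7]
      _ = s * (g * ((z : R) : G) * g⁻¹) := by group

/-- a nontrivial normal subgroup contains the regular normal subgroup -/
theorem reg_le [Finite Ω] [Finite G] [Nontrivial Ω] (M : Subgroup G) [M.Normal] (hM : M ≠ ⊥) :
    R ≤ M := by
  apply reg_min h2 R hRr
  intro hbot
  obtain ⟨p, hp, hexp, hcomm, hcard⟩ := reg_elem h2 R hRt hRr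
  apply hM
  rw [eq_bot_iff]
  intro m hm
  have hmr : ∀ r ∈ R, m * r = r * m := by
    intro r hr
    have h1 : m * r * m⁻¹ * r⁻¹ ∈ R ⊓ M := by
      refine ⟨R.mul_mem (‹R.Normal›.conj_mem r hr m) (R.inv_mem hr), ?_⟩
      have h8 : r * m⁻¹ * r⁻¹ ∈ M := ‹M.Normal›.conj_mem _ (inv_mem hm) r
      have h9 : m * (r * m⁻¹ * r⁻¹) ∈ M := mul_mem hm h8
      have h10 : m * (r * m⁻¹ * r⁻¹) = m * r * m⁻¹ * r⁻¹ := by group
      rw [h10] at h9
      exact h9
    rw [hbot, Subgroup.mem_bot, mul_inv_eq_one, mul_inv_eq_iff_eq_mul] at h1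
    exact h1
  obtain ⟨a, b, hab⟩ := exists_pair_ne Ω
  obtain ⟨r, hr, hra⟩ := hRt a (m • a)
  have h5 : r⁻¹ * m = 1 := by
    apply FaithfulSMul.eq_of_smul_eq_smul (α := Ω)
    intro x
    obtain ⟨s, hs, hsx⟩ := hRt a x
    rw [one_smul, ← hsx, ← mul_smul, mul_assoc, hmr s hs, ← mul_assoc,
      ← hcomm s hs _ (inv_mem hr), mul_smul, mul_smul, ← hra, inv_smul_smul]
  have h6 : m = r := (inv_mul_eq_one.mp h5).symm
  have h7 : m ∈ R ⊓ M := ⟨h6 ▸ hr, hm⟩
  rwa [hbot] at h7

end reg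

end Cfsg.Agent.Lib.ZassNormal
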