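import Cfsg.Agent.Lib.BTI4
import Cfsg.Prelude.Def_Transfer
import Cfsg.Agent.Lib.ZassNormal

/-!
# Bender's TI theorem (S3043), V: identification of PGL(2,q) and PSL(2,q) (helper4)
-/

set_option autoImplicit false
set_option linter.unusedSectionVars false

namespace Cfsg.Agent.Lib.BTI

open Cfsg.Agent.Lib.Involutions OnePoint
open scoped Pointwise

universe v
variable {G : Type v} [Group G] [Finite G] {M : Subgroup G} {z u : G}

local notation "N(" M ")" => Subgroup.normalizer (SetLike.coe M)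
local notation "C(" z ")" => Subgroup.centralizer ({z} : Set _)

theorem Two.transA (t : Two M z u) (hc : Nat.card (N(M) ⊓ C(z) : Subgroup G) + 1 = Nat.card M)
    {x y : G} (hx : x ∈ M) (hx1 : x ≠ 1) (hy : y ∈ M) (hy1 : y ≠ 1) :
    ∃ a ∈ N(M) ⊓ C(z), a * x * a⁻¹ = y := by
  classical
  cases nonempty_fintype G
  let f : (N(M) ⊓ C(z) : Subgroup G) → {m : M // m ≠ 1} := fun a =>
    ⟨⟨a * x * (a : G)⁻¹, (Subgroup.mem_normalizer_iff.1 (Subgroup.mem_inf.1 a.2).1 x).1 hx⟩,
      fun h => conj_ne_one' hx1 (congrArg Subtype.val h)⟩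
  have hinj : Function.Injective f := by
    intro a b hab
    have h1 : (a : G) * x * (a : G)⁻¹ = b * x * (b : G)⁻¹ :=
      congrArg (fun m : {m : M // m ≠ 1} => (m.1 : G)) hab
    by_contra hne
    have h2 : ((b : G)⁻¹ * a) * x = x * ((b : G)⁻¹ * a) := by
      calc ((b : G)⁻¹ * a) * x = (b : G)⁻¹ * (a * x * (a : G)⁻¹) * a := by group
        _ = (b : G)⁻¹ * (b * x * (b : G)⁻¹) * a := by rw [h1]
        _ = _ := by group
    have h3 : (b : G)⁻¹ * a ≠ 1 := by
      intro h4
      exact hne (Subtype.ext (inv_mul_eq_one.1 h4).symm)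
    exact hx1 (t.fpf (mul_mem (Subgroup.inv_mem _ b.2) a.2) h3 hx h2)
  have hcard : Nat.card (N(M) ⊓ C(z) : Subgroup G) = Nat.card {m : M // m ≠ 1} := by
    have h1 : Nat.card {m : M // m ≠ 1} + 1 = Nat.card M := by
      have h2 : Nat.card {m : M // m ≠ 1} = Nat.card M - 1 := by
        rw [Nat.card_eq_fintype_card, Nat.card_eq_fintype_card, Fintype.card_subtype_compl,
          Fintype.card_subtype_eq]
      have : 0 < Nat.card M := Nat.card_pos
      omega
    omega
  have hbij := (Nat.bijective_iff_injective_and_card f).2 ⟨hinj, hcard⟩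
  obtain ⟨a, ha⟩ := hbij.2 ⟨⟨y, hy⟩, fun h => hy1 (congrArg Subtype.val h)⟩
  exact ⟨a, a.2, congrArg (fun m : {m : M // m ≠ 1} => (m.1 : G)) ha⟩

theorem Two.pgl (t : Two M z u) (hc : Nat.card (N(M) ⊓ C(z) : Subgroup G) + 1 = Nat.card M) :
    ∃ (E : Type) (_ : Field E) (_ : Fintype E), Fintype.card E = Nat.card M ∧
      Nonempty (G ≃* Matrix.ProjGenLinGroup (Fin 2) E) := by
  classical
  have hfaith := t.faithful
  obtain ⟨x, hx, hx1⟩ := M.bot_or_exists_ne_one.resolve_left t.h.M1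
  have hu2 : u * u = 1 := mul_self t.hu
  have hca : x • pz M u ≠ pinf M := by
    intro h3
    apply t.ne
    have h4 : x⁻¹ • pinf M = pz M u := by rw [← h3, inv_smul_smul]
    rw [(stab_inf _).2 (Subgroup.inv_mem _ (Subgroup.le_normalizer hx))] at h4
    exact h4
  have hcb : x • pz M u ≠ pz M u := by
    intro h2
    apply hx1
    exact t.unique_M hx M.one_mem (by rw [one_smul]; exact h2)
  have hstab := t.stab_eq
  obtain ⟨E, hE, hEf, hcE, ⟨C⟩⟩ := ZassCoord.exists_coord (G := G) (Ω := G ⧸ N(M)) t.ne hca hcb M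
    (fun m hm => (stab_inf m).2 (Subgroup.le_normalizer hm))
    (fun g h1 h2 k hk => (Subgroup.mem_normalizer_iff.1 ((stab_inf g).1 h1) k).1 hk)
    t.h.comm
    (fun y hy => by
      obtain ⟨m, hm, hmy⟩ := t.exists_M y hy
      exact ⟨⟨m, hm⟩, hmy, fun w hw => Subtype.ext (t.unique_M w.2 hm (hw.trans hmy.symm))⟩)
    (by rw [hstab]; exact t.h.comm_A)
    (fun S hS hSA => by
      by_cases hS1 : S = ⊥
      · exact Or.inl hS1
      · right
        apply le_antisymm hS
        intro y hy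
        by_cases hy1 : y = 1
        · rw [hy1]; exact S.one_mem
        obtain ⟨s, hs, hs1⟩ := S.bot_or_exists_ne_one.resolve_left hS1
        obtain ⟨a, ha, hay⟩ := t.transA hc (hS hs) hs1 hy hy1
        have h2 := (t.stab a).2 ha
        rw [← hay]
        exact hSA a h2.1 h2.2 s hs)
  refine ⟨E, hE, hEf, hcE, ?_⟩
  have hinf := C.inf
  have hzero := C.zero
  have hone := C.one
  -- values of `ψ`
  have hψ0 : ∀ h : G, h • pinf M = pinf M → h • pz M u = pz M u → C.ψ h ≠ 0 := by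
    intro h h1 h2 h0
    have h3 := C.ψ_smul h h1 h2 1
    rw [h0, zero_mul, hone, hzero] at h3
    have h4 : h • (x • pz M u) = h • pz M u := by rw [h3, h2]
    exact hcb (MulAction.injective h h4)
  obtain ⟨y0, hy0⟩ := C.bij.2 (u • (x • pz M u))
  have hu_inf : u • pinf M = pz M u := by rw [smul_pinf]
  have hu_z : u • pz M u = pinf M := by
    rw [smul_pz, hu2]
  -- `u • ι 1 = ι r0`
  obtain ⟨r0, hr0⟩ : ∃ r0 : E, y0 = (r0 : OnePoint E) := by
    induction y0 using OnePoint.rec with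
    | infty =>
      exfalso
      apply hcb
      have : u • pinf M = u • (u • (x • pz M u)) :=
        congrArg (fun p => u • p) (hinf.symm.trans hy0)
      rw [hu_inf, ← mul_smul, hu2, one_smul] at this
      exact this.symm
    | coe r => exact ⟨r, rfl⟩
  subst hr0
  have hr00 : r0 ≠ 0 := by
    rintro rfl
    apply hca
    have : u • pz M u = u • (u • (x • pz M u)) :=
      congrArg (fun p => u • p) (hzero.symm.trans hy0)
    rw [hu_z, ← mul_smul, hu2, one_smul] at this
    exact this.symm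
  -- surjectivity of `ψ`
  have hsurj : ∀ w : E, w ≠ 0 → ∃ a ∈ N(M) ⊓ C(z), C.ψ a = w := by
    intro w hw
    have h1 : C.ι (w : OnePoint E) ≠ pinf M := fun h2 =>
      OnePoint.coe_ne_infty _ (C.bij.1 (h2.trans hinf.symm))
    obtain ⟨m, hm, hmw⟩ := t.exists_M _ h1
    have hm1 : m ≠ 1 := by
      rintro rfl
      rw [one_smul] at hmw
      have := C.bij.1 (hzero.trans hmw)
      rw [OnePoint.coe_eq_coe] at this
      exact hw this.symm
    obtain ⟨a, ha, ham⟩ := t.transA hc hx hx1 hm hm1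
    refine ⟨a, ha, ?_⟩
    have h2 := (t.stab a).2 ha
    have h3 := C.ψ_smul a h2.1 h2.2 1
    rw [mul_one, hone] at h3
    have h4 : a • (x • pz M u) = m • pz M u := by
      rw [← ham, mul_smul, mul_smul, inv_smul_eq_iff.2 h2.2.symm]
    rw [h4, hmw] at h3
    have := C.bij.1 h3
    rw [OnePoint.coe_eq_coe] at this
    exact this.symm
  apply PGLCoord.pgl_of_lin C.ι C.bij M
  · intro y hy
    rw [hinf] at hy
    rw [hzero]
    exact t.exists_M y hy
  · intro k hk
    obtain ⟨s, rfl⟩ := C.τ_surj k hk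
    rw [hinf]
    exact ⟨C.τ_inf s, s, C.τ_smul s⟩
  · intro h h1 h2
    rw [hinf] at h1
    rw [hzero] at h2
    exact ⟨C.ψ h, hψ0 h h1 h2, C.ψ_smul h h1 h2⟩
  · show u • C.ι ∞ = _
    rw [hinf, hzero, hu_inf]
  · rw [hinf, hzero, hu_z]
  · exact hr00
  · intro w hw
    obtain ⟨a, ha, haw⟩ := hsurj w hw
    have h2 := (t.stab a).2 ha
    have hainv := (t.stab a⁻¹).2 (Subgroup.inv_mem _ ha)
    have h3 := C.ψ_smul a h2.1 h2.2 1
    rw [mul_one, haw] at h3
    -- `ψ (a⁻¹) = w⁻¹`
    have h4 : C.ψ a⁻¹ = w⁻¹ := by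
      have h5 := C.ψ_smul a⁻¹ hainv.1 hainv.2 w
      rw [← h3, inv_smul_smul] at h5
      have h6 := C.bij.1 h5
      rw [OnePoint.coe_eq_coe] at h6
      exact eq_inv_of_mul_eq_one_left h6.symm
    rw [← h3]
    have hua : u * a = a⁻¹ * u := by
      have := t.conjA ha
      calc u * a = (u * a) * 1 := by group
        _ = (u * a) * (u * u) := by rw [hu2]
        _ = (u * a * u) * u := by group
        _ = a⁻¹ * u := by rw [this]
    rw [← mul_smul, hua, mul_smul, hone, ← hy0, C.ψ_smul a⁻¹ hainv.1 hainv.2, h4]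
    congr 2
    rw [div_eq_mul_inv, mul_comm]
  · have h1 : Nat.card (Matrix.ProjGenLinGroup (Fin 2) E) =
        Fintype.card E * (Fintype.card E ^ 2 - 1) := by
      rw [ClSLn.card_PGL]
      exact ClSL2.card_SL2 rfl
    rw [h1, hcE, t.card_G, t.h.card_N]
    obtain ⟨k, hk⟩ : ∃ k, Nat.card M = k + 1 := ⟨Nat.card M - 1, by
      have : 0 < Nat.card M := Nat.card_pos
      omega⟩
    rw [hk] at hc ⊢
    have hk' : Nat.card (N(M) ⊓ C(z) : Subgroup G) = k := by omega
    rw [hk']
    apply le_of_eq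
    have : (k + 1) ^ 2 - 1 = k * (k + 2) := by
      have : (k + 1) ^ 2 = k * (k + 2) + 1 := by ring
      omega
    rw [this]; ring

theorem Two.final (t : Two M z u) :
    ∃ (F : Type) (_ : Field F) (_ : Fintype F) (p : ℕ) (_ : Fact p.Prime) (_ : CharP F p),
      Fintype.card F = Nat.card M ∧ Cfsg.IsElementaryAbelian p M ∧
        (Nonempty (G ≃* (GL (Fin 2) F ⧸ Subgroup.center (GL (Fin 2) F))) ∨
         (Fintype.card F % 4 = 1 ∧ Nonempty (G ≃* Matrix.ProjectiveSpecialLinearGroup (Fin 2) F))) := by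
  classical
  have hfaith := t.faithful
  have helem : ∀ (F : Type) (_ : Field F) (_ : Fintype F), Fintype.card F = Nat.card M →
      ∃ (p : ℕ) (_ : Fact p.Prime) (_ : CharP F p), Cfsg.IsElementaryAbelian p M := by
    intro F _ _ hF
    obtain ⟨p, hp⟩ := CharP.exists F
    obtain ⟨n, hpp, hpn⟩ := FiniteField.card F p
    refine ⟨p, ⟨hpp⟩, hp, ⟨⟨fun a b => Subtype.ext (t.h.comm a a.2 b b.2)⟩⟩, ?_⟩
    apply t.elem hpp
    rw [← hF, hpn]
    exact dvd_pow_self p n.ne_zero
  have h3 := t.three_le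
  by_cases hd : 2 * Nat.card (N(M) ⊓ C(z) : Subgroup G) ≤ Nat.card M - 1
  · have hst := t.stab_eq
    obtain ⟨E, hE, hEf, -, hcE, hi⟩ := ZassHalf.psl_of_half (G := G) (Ω := G ⧸ N(M)) t.two_trans
      t.fix3 t.ne (by rw [hst]; exact t.even_A) (by rw [hst, t.card_points]; omega)
    have hEM : Fintype.card E = Nat.card M := by
      rw [t.card_points] at hcE
      omega
    obtain ⟨p, hp, hpc, hel⟩ := helem E hE hEf hEM
    refine ⟨E, hE, hEf, p, hp, hpc, hEM, hel, Or.inr ⟨?_, hi⟩⟩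
    have h4 := t.bound
    obtain ⟨k, hk⟩ := t.even_A
    rw [hEM]
    omega
  · have hle := t.card_A_le M le_rfl t.h.M1 (fun a ha w hw =>
      (Subgroup.mem_normalizer_iff.1 (Subgroup.mem_inf.1 ha).1 w).1 hw)
    -- `|A|` divides `|M| - 1`
    have hdvd : Nat.card (N(M) ⊓ C(z) : Subgroup G) ∣ Nat.card M - 1 := by
      have h1 := ZassNormal.dvd_of_free (Ω := G ⧸ N(M)) (H := N(M) ⊓ C(z))
        (S := {p | p ≠ pinf M ∧ p ≠ pz M u}) (fun g hg p hp => by
          have h2 := (t.stab g).2 hg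
          refine ⟨fun h3 => hp.1 ?_, fun h3 => hp.2 ?_⟩
          · rw [← h2.1] at h3
            exact MulAction.injective g h3
          · rw [← h2.2] at h3
            exact MulAction.injective g h3)
        (fun g hg hg1 p hp hgp => by
          have h2 := (t.stab g).2 hg
          exact hg1 (t.fix3 g _ _ _ t.ne hp.2.symm hp.1.symm h2.1 h2.2 hgp))
      have h2 : ({p | p ≠ pinf M ∧ p ≠ pz M u} : Set (G ⧸ N(M))).ncard = Nat.card M - 1 := by
        have h3 : ({p | p ≠ pinf M ∧ p ≠ pz M u} : Set (G ⧸ N(M))) = {pinf M, pz M u}ᶜ := by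
          ext p
          simp
        rw [h3, Set.ncard_compl, Set.ncard_pair t.ne, t.card_points]
        omega
      rw [← h2]
      exact h1
    have hc : Nat.card (N(M) ⊓ C(z) : Subgroup G) + 1 = Nat.card M := by
      obtain ⟨k, hk⟩ := hdvd
      have hApos : 0 < Nat.card (N(M) ⊓ C(z) : Subgroup G) := Nat.card_pos
      have hk1 : k < 2 := by
        by_contra hk2
        have : Nat.card (N(M) ⊓ C(z) : Subgroup G) * 2 ≤ Nat.card (N(M) ⊓ C(z) : Subgroup G) * k :=
          Nat.mul_le_mul_left _ (by omega)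
        omega
      have hk0 : k ≠ 0 := by rintro rfl; omega
      have : k = 1 := by omega
      rw [this, mul_one] at hk
      omega
    obtain ⟨E, hE, hEf, hcE, hi⟩ := t.pgl hc
    obtain ⟨p, hp, hpc, hel⟩ := helem E hE hEf hcE
    exact ⟨E, hE, hEf, p, hp, hpc, hcE, hel, Or.inl hi⟩

end Cfsg.Agent.Lib.BTI
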