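import Cfsg.Agent.Lib.BTI2
import Cfsg.Agent.Lib.ElemCent3
import Cfsg.Agent.Lib.SL2Tori
import Cfsg.Agent.Lib.SL2EvenMisc

/-!
# Bender's TI theorem (S3043), VI: the case `C(z)` elementary abelian (helper4)
-/

set_option autoImplicit false
set_option linter.unusedSectionVars false

namespace Cfsg.Agent.Lib.BTI

open Cfsg.Agent.Lib.Involutions
open scoped Pointwise

universe v
variable {G : Type v} [Group G] [Finite G] {M : Subgroup G} {z : G}

local notation "N(" M ")" => Subgroup.normalizer (SetLike.coe M)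
local notation "C(" z ")" => Subgroup.centralizer ({z} : Set _)

/-- the map from cosets of the centralizer to conjugates -/
noncomputable def clMap (z : G) (hz : orderOf z = 2) : G ⧸ C(z) → {g : G // orderOf g = 2} :=
  Quotient.lift (fun g : G => (⟨g * z * g⁻¹, by rw [orderOf_conj]; exact hz⟩ :
    {g : G // orderOf g = 2})) (by
    intro a b hab
    apply Subtype.ext
    have hab' : a⁻¹ * b ∈ C(z) := QuotientGroup.leftRel_apply.1 hab
    have := Subgroup.mem_centralizer_singleton_iff.1 hab'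
    show a * z * a⁻¹ = b * z * b⁻¹
    calc a * z * a⁻¹ = a * (z * (a⁻¹ * b)) * b⁻¹ := by group
      _ = a * ((a⁻¹ * b) * z) * b⁻¹ := by rw [this]
      _ = _ := by group)

theorem clMap_injective (z : G) (hz : orderOf z = 2) : Function.Injective (clMap z hz) := by
  intro a b hab
  obtain ⟨a, rfl⟩ := Quotient.exists_rep a
  obtain ⟨b, rfl⟩ := Quotient.exists_rep b
  have h2 : a * z * a⁻¹ = b * z * b⁻¹ := congrArg Subtype.val hab
  apply Quotient.sound
  apply QuotientGroup.leftRel_apply.2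
  rw [Subgroup.mem_centralizer_singleton_iff]
  calc a⁻¹ * b * z = a⁻¹ * (b * z * b⁻¹) * b := by group
    _ = a⁻¹ * (a * z * a⁻¹) * b := by rw [h2]
    _ = _ := by group

theorem index_le (z : G) (hz : orderOf z = 2) :
    (C(z) : Subgroup G).index ≤ Nat.card {g : G // orderOf g = 2} :=
  Nat.card_le_card_of_injective _ (clMap_injective z hz)

theorem conj_of_index_eq (z : G) (hz : orderOf z = 2)
    (h : (C(z) : Subgroup G).index = Nat.card {g : G // orderOf g = 2}) {t : G}
    (ht : orderOf t = 2) : ∃ g : G, g * z * g⁻¹ = t := by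
  have hbij := (Nat.bijective_iff_injective_and_card (clMap z hz)).2 ⟨clMap_injective z hz, h⟩
  obtain ⟨q, hq⟩ := hbij.2 ⟨t, ht⟩
  obtain ⟨g, rfl⟩ := Quotient.exists_rep q
  exact ⟨g, congrArg Subtype.val hq⟩

/-- the case hypothesis -/
structure Exp (M : Subgroup G) (z : G) : Prop where
  h : Hyp M z
  hE : ∀ g ∈ C(z), g * g = 1

theorem comm_of_sq {H : Subgroup G} (hH : ∀ g ∈ H, g * g = 1) :
    ∀ x ∈ H, ∀ y ∈ H, x * y = y * x := by
  intro x hx y hy
  have h1 := hH _ (mul_mem hx hy)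
  have h2 : x⁻¹ = x := inv_eq_of_mul_eq_one_left (hH x hx)
  have h3 : y⁻¹ = y := inv_eq_of_mul_eq_one_left (hH y hy)
  calc x * y = (x * y * (x * y)) * (y⁻¹ * x⁻¹) := by group
    _ = y * x := by rw [h1, one_mul, h2, h3]

theorem Exp.memA (t : Exp M z) {a : G} (ha : a ∈ N(M) ⊓ C(z)) : a = 1 ∨ a = z := by
  by_cases ha1 : a = 1
  · exact Or.inl ha1
  · right
    have h2 : orderOf a = 2 := orderOf_eq_prime
      (by rw [pow_two]; exact t.hE a (Subgroup.mem_inf.1 ha).2) ha1
    obtain ⟨m, hm, rfl⟩ := t.h.invol_N h2 (Subgroup.mem_inf.1 ha).1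
    have h3 : m ∈ C(z) := by
      have h4 := Subgroup.mem_centralizer_singleton_iff.1 (Subgroup.mem_inf.1 ha).2
      rw [Subgroup.mem_centralizer_singleton_iff]
      calc m * z = (m * z * z) * z⁻¹ := by group
        _ = (z * (m * z)) * z⁻¹ := by rw [h4]
        _ = z * m := by group
    rw [t.h.M_inf hm h3, one_mul]

theorem zC (z : G) : z ∈ C(z) := Subgroup.mem_centralizer_singleton_iff.2 rfl

theorem Exp.cardA (t : Exp M z) : Nat.card (N(M) ⊓ C(z) : Subgroup G) = 2 := by
  have h1 : (N(M) ⊓ C(z) : Subgroup G) = Subgroup.zpowers z := by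
    apply le_antisymm
    · intro a ha
      rcases t.memA ha with rfl | rfl
      · exact one_mem _
      · exact Subgroup.mem_zpowers _
    · rw [Subgroup.zpowers_le]
      exact Subgroup.mem_inf.2 ⟨t.h.hzN, zC z⟩
  rw [h1, Nat.card_zpowers, t.h.hz]

/-- the numbers -/
structure Nums (M : Subgroup G) (z : G) (d b : ℕ) : Prop where
  d1 : 1 ≤ d
  hb : 2 ^ d = b + 1
  hC : Nat.card C(z) = 2 * (b + 1)
  hG : Nat.card G = 2 * Nat.card M * (1 + b * Nat.card M)
  hI : Nat.card {g : G // orderOf g = 2} = Nat.card M * (2 * b + 1)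
  hM : Nat.card M = b + 2 ∨ Nat.card M = 2 * b + 3

theorem Exp.nums (t : Exp M z) : ∃ d b : ℕ, Nums M z d b := by
  have hp : IsPGroup 2 C(z) := fun g => ⟨1, by
    rw [pow_one, pow_two]; exact Subtype.ext (t.hE g g.2)⟩
  have : Fact (Nat.Prime 2) := ⟨Nat.prime_two⟩
  obtain ⟨s, hs⟩ := IsPGroup.iff_card.1 hp
  have hcH := t.h.card_H
  rw [t.cardA, hs] at hcH
  have hpos : 0 < Nat.card {u : G // u ∈ C(z) ∧ u ∉ N(M)} := by
    obtain ⟨u, hu, huN⟩ := t.h.exists_outside
    have : Nonempty {u : G // u ∈ C(z) ∧ u ∉ N(M)} := ⟨⟨u, hu, huN⟩⟩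
    exact Nat.card_pos
  have hs2 : 2 ≤ s := by
    by_contra hlt
    have : s = 0 ∨ s = 1 := by omega
    rcases this with rfl | rfl <;> simp at hcH <;> omega
  obtain ⟨d, rfl⟩ : ∃ d, s = d + 1 := ⟨s - 1, by omega⟩
  have hd1 : 1 ≤ d := by omega
  obtain ⟨b, hb⟩ : ∃ b, 2 ^ d = b + 1 := ⟨2 ^ d - 1, by
    have : 0 < 2 ^ d := by positivity
    omega⟩
  have hb1 : 1 ≤ b := by
    have : 2 ^ 1 ≤ 2 ^ d := Nat.pow_le_pow_right (by norm_num) hd1
    omega
  have hout : Nat.card {u : G // u ∈ C(z) ∧ u ∉ N(M)} = 2 * b := by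
    rw [pow_succ, hb] at hcH
    omega
  have hC : Nat.card C(z) = 2 * (b + 1) := by rw [hs, pow_succ, hb]; ring
  have hG : Nat.card G = 2 * Nat.card M * (1 + b * Nat.card M) := by
    rw [← t.h.card_out, t.h.card_I, hout, t.h.card_N, t.cardA]; ring
  have hI : Nat.card {g : G // orderOf g = 2} = Nat.card M * (2 * b + 1) := by
    rw [t.h.card_invol, t.h.card_I, hout]; ring
  refine ⟨d, b, hd1, hb, hC, hG, hI, ?_⟩
  have hMpos : 0 < Nat.card M := Nat.card_pos
  have h1 := index_le z t.h.hz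
  have h2 := Subgroup.card_mul_index C(z)
  rw [hC, hG] at h2
  rw [hI] at h1
  set m := Nat.card M with hm
  set c := (C(z) : Subgroup G).index with hc
  have h3 : (b + 1) * c = m * (1 + b * m) := by
    have : 2 * ((b + 1) * c) = 2 * (m * (1 + b * m)) := by
      rw [← mul_assoc, h2]; ring
    omega
  have hodd := t.h.odd_M
  rw [← hm] at hodd
  have hcop : Nat.Coprime (b + 1) m := by
    rw [← hb]
    exact Nat.Coprime.pow_left _ (Nat.coprime_two_left.2 hodd)
  have h4 : b + 1 ∣ 1 + b * m := hcop.dvd_of_dvd_mul_left (by rw [← h3]; exact dvd_mul_right _ _)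
  -- `m ≤ 2b + 3`
  have h5 : m * (1 + b * m) ≤ m * ((b + 1) * (2 * b + 1)) := by
    rw [← h3]
    calc (b + 1) * c ≤ (b + 1) * (m * (2 * b + 1)) := Nat.mul_le_mul_left _ h1
      _ = _ := by ring
  have h6 := Nat.le_of_mul_le_mul_left h5 hMpos
  have h7 : b * m ≤ b * (2 * b + 3) := by nlinarith
  have h8 := Nat.le_of_mul_le_mul_left h7 (by omega)
  -- `m ≡ 1`
  have hm1 : m ≠ 1 := by
    intro h9
    exact t.h.M1 (Subgroup.card_eq_one.1 h9)
  obtain ⟨k, hk⟩ : ∃ k, m = k + 1 := ⟨m - 1, by omega⟩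
  have h9 : b + 1 ∣ k := by
    have h10 : b + 1 ∣ (b + 1) * m := dvd_mul_right _ _
    have h11 : (b + 1) * m = (1 + b * m) + k := by rw [hk]; ring
    rw [h11] at h10
    exact (Nat.dvd_add_right h4).1 h10
  obtain ⟨j, hj⟩ := h9
  have hj0 : j ≠ 0 := by rintro rfl; omega
  have hj3 : j < 3 := by
    by_contra hj3
    have : (b + 1) * 3 ≤ (b + 1) * j := Nat.mul_le_mul_left _ (by omega)
    omega
  have hj12 : j = 1 ∨ j = 2 := by omega
  rcases hj12 with rfl | rfl
  · left; omega
  · right; omega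

open Cfsg.Agent.Lib.SL2Basic in
/-- abelian subgroups of odd order of `SL(2,F)`, `F` of characteristic two, are cyclic. -/
theorem cyclic_of_SL2 {F : Type*} [Field F] [Finite F] [CharP F 2] {A : Type*} [Group A] [Finite A]
    (hA : Odd (Nat.card A)) (hAc : ∀ a b : A, a * b = b * a)
    (f : A →* Matrix.SpecialLinearGroup (Fin 2) F) (hf : Function.Injective f) : IsCyclic A := by
  by_cases hA1 : Subsingleton A
  · exact isCyclic_of_subsingleton
  rw [not_subsingleton_iff_nontrivial] at hA1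
  obtain ⟨x, hx⟩ := exists_ne (1 : A)
  have hcyc : IsCyclic (Subgroup.centralizer ({f x} : Set (Matrix.SpecialLinearGroup (Fin 2) F))) := by
    by_cases htr : tr (f x) ^ 2 = 4
    · exfalso
      have h2 : (2 : F) = 0 := by exact_mod_cast CharP.cast_eq_zero F 2
      have h4 : (4 : F) = 0 := by
        have : (4 : F) = 2 * 2 := by norm_num
        rw [this, h2, zero_mul]
      rw [h4] at htr
      have ht0 : tr (f x) = 0 := pow_eq_zero_iff (two_ne_zero) |>.1 htr
      have h5 := sq_eq (f x)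
      rw [ht0, zero_smul, zero_sub] at h5
      have h6 : f x * f x = 1 := by
        apply Subtype.ext
        rw [Matrix.SpecialLinearGroup.coe_mul, h5, Matrix.SpecialLinearGroup.coe_one]
        have : (-1 : F) = 1 := by
          rw [neg_eq_iff_add_eq_zero, one_add_one_eq_two, h2]
        ext i j
        fin_cases i <;> fin_cases j <;> simp [this]
      have h7 : x * x = 1 := by
        apply hf
        rw [map_mul, h6, map_one]
      have h8 : orderOf x = 2 := orderOf_eq_prime (by rw [pow_two]; exact h7) hx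
      have h9 : orderOf x ∣ Nat.card A := orderOf_dvd_natCard x
      rw [h8] at h9
      exact (Nat.not_even_iff_odd.2 hA) (even_iff_two_dvd.2 h9)
    · by_cases hr : ∃ c : F, c ^ 2 - tr (f x) * c + 1 = 0
      · obtain ⟨c, hc⟩ := hr
        exact (SL2Tori.centralizer_of_root htr hc).1
      · push Not at hr
        exact (SL2Tori.centralizer_of_no_root hr).1
  let f' : A →* Subgroup.centralizer ({f x} : Set (Matrix.SpecialLinearGroup (Fin 2) F)) :=
    f.codRestrict _ (fun a => by
      rw [Subgroup.mem_centralizer_singleton_iff, ← map_mul, ← map_mul, hAc])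
  exact isCyclic_of_injective f' (fun a b hab => hf (congrArg Subtype.val hab))

end Cfsg.Agent.Lib.BTI
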