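import Cfsg.Agent.Lib.BTI6

/-!
# Bender's TI theorem (S3043), VII: `C(z)` elementary abelian, `|M| = 2^e + 1` (helper4)
-/

set_option autoImplicit false
set_option linter.unusedSectionVars false

namespace Cfsg.Agent.Lib.BTI

open Cfsg.Agent.Lib.Involutions
open scoped Pointwise

universe v
variable {G : Type v} [Group G] [Finite G] {M : Subgroup G} {z : G}

local notation "N(" M ")" => Subgroup.normalizer (SetLike.coe M)
local notation "C(" z ")" => Subgroup.centralizer ({z} : Set _)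

theorem Exp.conj_eq (t : Exp M z) {d b : ℕ} (n : Nums M z d b) (hm : Nat.card M = 2 * b + 3)
    {s : G} (hs : orderOf s = 2) : ∃ g : G, g * z * g⁻¹ = s := by
  apply conj_of_index_eq z t.h.hz _ hs
  have h2 := Subgroup.card_mul_index C(z)
  rw [n.hC, n.hG] at h2
  rw [n.hI]
  set c := (C(z) : Subgroup G).index with hc
  rw [hm] at h2 ⊢
  have h3 : 2 * (b + 1) * c = 2 * (b + 1) * ((2 * b + 3) * (2 * b + 1)) := by
    rw [h2]; ring
  exact Nat.eq_of_mul_eq_mul_left (by omega) h3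

theorem mem_centralizer_conj {z s g x : G} (hg : g * z * g⁻¹ = s) (hx : x ∈ C(s)) :
    g⁻¹ * x * g ∈ C(z) := by
  rw [Subgroup.mem_centralizer_singleton_iff] at hx ⊢
  rw [← hg] at hx
  calc g⁻¹ * x * g * z = g⁻¹ * (x * (g * z * g⁻¹)) * g := by group
    _ = g⁻¹ * ((g * z * g⁻¹) * x) * g := by rw [hx]
    _ = _ := by group

theorem Exp.exp_conj (t : Exp M z) {s g x : G} (hg : g * z * g⁻¹ = s) (hx : x ∈ C(s)) :
    x * x = 1 := by
  have h1 := t.hE _ (mem_centralizer_conj hg hx)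
  calc x * x = g * ((g⁻¹ * x * g) * (g⁻¹ * x * g)) * g⁻¹ := by group
    _ = 1 := by rw [h1]; group

theorem card_centralizer_conj {z s g : G} (hg : g * z * g⁻¹ = s) :
    Nat.card C(s) = Nat.card C(z) := by
  refine Nat.card_congr ⟨fun x => ⟨g⁻¹ * x * g, mem_centralizer_conj hg x.2⟩,
    fun x => ⟨g * x * g⁻¹, ?_⟩, ?_, ?_⟩
  · have h1 : g⁻¹ * s * (g⁻¹)⁻¹ = z := by rw [← hg]; group
    have := mem_centralizer_conj h1 x.2
    rwa [inv_inv] at this
  · intro x; apply Subtype.ext
    show g * (g⁻¹ * x * g) * g⁻¹ = x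
    group
  · intro x; apply Subtype.ext
    show g⁻¹ * (g * x * g⁻¹) * g = x
    group

theorem Exp.case_big (t : Exp M z) {d b : ℕ} (n : Nums M z d b) (hm : Nat.card M = 2 * b + 3) :
    ∃ (F : Type) (_ : Field F) (_ : Fintype F) (e : ℕ), 1 < e ∧ Fintype.card F = 2 ^ e ∧
      IsCyclic ↥M ∧ Nat.card M = 2 ^ e + 1 ∧
        Nonempty (G ≃* Matrix.ProjectiveSpecialLinearGroup (Fin 2) F) := by
  classical
  have hp2 : Fact (Nat.Prime 2) := ⟨Nat.prime_two⟩
  have hpg : IsPGroup 2 C(z) := fun g => ⟨1, by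
    rw [pow_one, pow_two]; exact Subtype.ext (t.hE g g.2)⟩
  have hb1 : 1 ≤ b := by
    have h1 := n.hb
    have : 2 ^ 1 ≤ 2 ^ d := Nat.pow_le_pow_right (by norm_num) n.d1
    omega
  obtain ⟨T, hT⟩ := hpg.exists_le_sylow
  have hTC : (T : Subgroup G) = C(z) := by
    have hTn : Nontrivial (T : Subgroup G) := by
      refine ⟨⟨⟨z, hT (zC z)⟩, 1, fun h => ?_⟩⟩
      exact ne_one t.h.hz (congrArg Subtype.val h)
    obtain ⟨s, hs1, hs⟩ : ∃ s : (T : Subgroup G), orderOf s = 2 ∧ s ∈ Subgroup.center (T : Subgroup G) := by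
      have hcn := T.isPGroup'.center_nontrivial
      have hcp : IsPGroup 2 (Subgroup.center (T : Subgroup G)) := T.isPGroup'.to_subgroup _
      have h2 : 2 ∣ Nat.card (Subgroup.center (T : Subgroup G)) := by
        obtain ⟨k, hk⟩ := IsPGroup.iff_card.1 hcp
        rw [hk]
        refine dvd_pow_self 2 ?_
        rintro rfl
        rw [pow_zero] at hk
        have := Finite.one_lt_card (α := Subgroup.center (T : Subgroup G))
        omega
      obtain ⟨x, hx⟩ := exists_prime_orderOf_dvd_card' 2 h2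
      exact ⟨x, (Subgroup.orderOf_coe x).trans hx, x.2⟩
    have hs2 : orderOf (s : G) = 2 := (Subgroup.orderOf_coe s).trans hs1
    obtain ⟨g, hg⟩ := t.conj_eq n hm hs2
    have h3 : (T : Subgroup G) ≤ C((s : G)) := by
      intro x hx
      rw [Subgroup.mem_centralizer_singleton_iff]
      exact congrArg Subtype.val (Subgroup.mem_center_iff.1 hs ⟨x, hx⟩)
    have h4 : Nat.card (T : Subgroup G) ≤ Nat.card C(z) := by
      rw [← card_centralizer_conj hg]
      exact Subgroup.card_le_of_le h3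
    exact (Subgroup.eq_of_le_of_card_ge hT h4).symm
  have hTcard : Nat.card (T : Subgroup G) = 2 * (b + 1) := by rw [hTC, n.hC]
  have hexp : ∀ g ∈ (T : Subgroup G), g * g = 1 := by rw [hTC]; exact t.hE
  have hnc : ¬ IsCyclic (T : Subgroup G) := by
    intro hcy
    obtain ⟨g, hg⟩ := hcy.exists_ofOrder_eq_natCard
    have h1 : orderOf g ≤ 2 := orderOf_le_of_pow_eq_one (by norm_num)
      (by rw [pow_two]; exact Subtype.ext (hexp g g.2))
    omega
  have hnn : ¬ (T : Subgroup G).Normal := by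
    intro hN
    have h1 : Nat.card {g : G // orderOf g = 2} ≤ Nat.card (T : Subgroup G) := by
      refine Nat.card_le_card_of_injective (fun s => (⟨s, ?_⟩ : (T : Subgroup G))) ?_
      · obtain ⟨g, hg⟩ := t.conj_eq n hm s.2
        rw [← hg]
        exact hN.conj_mem z (hT (zC z)) g
      · intro s s' hss
        exact Subtype.ext (congrArg (fun w : (T : Subgroup G) => (w : G)) hss)
    rw [n.hI, hTcard, hm] at h1
    nlinarith
  have hCC : ∀ s : G, orderOf s = 2 → IsMulCommutative (Subgroup.centralizer ({s} : Set G)) ∧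
      ∀ c ∈ Subgroup.centralizer ({s} : Set G), c ^ 2 = 1 := by
    intro s hs
    obtain ⟨g, hg⟩ := t.conj_eq n hm hs
    have h1 : ∀ c ∈ C(s), c * c = 1 := fun c hc => t.exp_conj hg hc
    exact ⟨⟨⟨fun a b => Subtype.ext (comm_of_sq h1 a a.2 b b.2)⟩⟩, fun c hc => by
      rw [pow_two]; exact h1 c hc⟩
  obtain ⟨F, iF, iF2, hF, ⟨φ⟩⟩ := Cfsg.Agent.Lib.ElemCent.psl_two T hnc hnn hCC
  have hF2 : Fintype.card F = 2 ^ (d + 1) := by
    rw [hF, hTcard, pow_succ, n.hb]; ring
  have hchar : CharP F 2 := charP_of_card_eq_prime_pow (f := d + 1) hF2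
  refine ⟨F, iF, iF2, d + 1, by have := n.d1; omega, hF2, ?_, ?_, ⟨φ⟩⟩
  · have hcen := SL2EvenMisc.center_eq_bot_of_char_two (F := F)
    let ψ : Matrix.ProjectiveSpecialLinearGroup (Fin 2) F ≃* Matrix.SpecialLinearGroup (Fin 2) F :=
      (QuotientGroup.quotientMulEquivOfEq hcen).trans QuotientGroup.quotientBot
    apply cyclic_of_SL2 (F := F) t.h.odd_M
      (fun a b => Subtype.ext (t.h.comm a a.2 b b.2))
      ((φ.trans ψ).toMonoidHom.comp M.subtype)
    exact (φ.trans ψ).injective.comp M.subtype_injective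
  · rw [hm, pow_succ, n.hb]; ring

end Cfsg.Agent.Lib.BTI
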