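import Cfsg.Agent.Lib.BTI7
import Cfsg.Agent.Lib.FrobAction
import Cfsg.Agent.Lib.FrobGroup
import Cfsg.Agent.Lib.DihRec

/-!
# Bender's TI theorem (S3043), VIII: `C(z)` elementary abelian, `|M| = 2^d + 1` (helper4)
-/

set_option autoImplicit false
set_option linter.unusedSectionVars false

namespace Cfsg.Agent.Lib.BTI

open Cfsg.Agent.Lib.Involutions
open scoped Pointwise

universe v
variable {G : Type v} [Group G] [Finite G] {M : Subgroup G} {z : G}

local notation "N(" M ")" => Subgroup.normalizer (SetLike.coe M)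
local notation "C(" z ")" => Subgroup.centralizer ({z} : Set _)

/-- the class of `z` -/
def cls (z : G) : Set G := {t | ∃ g : G, g * z * g⁻¹ = t}

theorem cls_conj {z t : G} (ht : t ∈ cls z) (g : G) : g * t * g⁻¹ ∈ cls z := by
  obtain ⟨k, rfl⟩ := ht
  exact ⟨g * k, by group⟩

theorem cls_conj_iff {z t : G} (g : G) : g * t * g⁻¹ ∈ cls z ↔ t ∈ cls z := by
  refine ⟨fun h => ?_, fun h => cls_conj h g⟩
  have := cls_conj h g⁻¹
  have h2 : g⁻¹ * (g * t * g⁻¹) * g⁻¹⁻¹ = t := by group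
  rwa [h2] at this

theorem cls_order {z t : G} (hz : orderOf z = 2) (ht : t ∈ cls z) : orderOf t = 2 := by
  obtain ⟨k, rfl⟩ := ht
  rw [orderOf_conj]; exact hz

theorem z_cls (z : G) : z ∈ cls z := ⟨1, by group⟩

/-- for every involution, a unique involution of `N(M)` commutes with it -/
theorem Exp.uniq_inv (t : Exp M z) {y : G} (hy : orderOf y = 2) :
    ∃ i, (orderOf i = 2 ∧ i ∈ N(M) ∧ y * i = i * y) ∧
      ∀ j, orderOf j = 2 → j ∈ N(M) → y * j = j * y → j = i := by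
  by_cases hyN : y ∈ N(M)
  · refine ⟨y, ⟨hy, hyN, rfl⟩, fun j hj hjN hyj => ?_⟩
    obtain ⟨c, hc, hcz⟩ := t.h.exists_conj_z hy hyN
    have h1 : c⁻¹ * j * c ∈ N(M) ⊓ C(z) := by
      refine Subgroup.mem_inf.2 ⟨mul_mem (mul_mem (Subgroup.inv_mem _ (Subgroup.le_normalizer hc)) hjN)
        (Subgroup.le_normalizer hc), ?_⟩
      apply mem_centralizer_conj hcz
      rw [Subgroup.mem_centralizer_singleton_iff]
      exact hyj.symm
    rcases t.memA h1 with h2 | h2
    · exfalso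
      have h3 : j = 1 := by
        calc j = c * (c⁻¹ * j * c) * c⁻¹ := by group
          _ = 1 := by rw [h2]; group
      exact ne_one hj h3
    · rw [← hcz, ← h2]; group
  · obtain ⟨i, hi, hiN, hyi⟩ := t.h.exists_comm hy hyN
    exact ⟨i, ⟨hi, hiN, hyi⟩, fun j hj hjN hyj => t.h.unique_comm hy hyN hj hjN hyj hi hiN hyi⟩

/-- the numbers for `|M| = b + 2` -/
theorem Nums.hG' {d b : ℕ} (n : Nums M z d b) (hm : Nat.card M = b + 2) :
    Nat.card G = (b + 2) * (2 * (b + 1) ^ 2) := by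
  rw [n.hG, hm]; ring

theorem Exp.card_TC (t : Exp M z) {d b : ℕ} (n : Nums M z d b) (hm : Nat.card M = b + 2)
    {x : G} (hx : orderOf x = 2) : Nat.card {s : G // s ∈ cls z ∧ s * x = x * s} = b + 1 := by
  classical
  have hI := t.h.card_invol_N
  rw [hm] at hI
  have hk : ∀ i : {g : G // orderOf g = 2 ∧ g ∈ N(M)}, ∃ k : G, k * z * k⁻¹ = i := fun i => by
    obtain ⟨k, -, hk⟩ := t.h.exists_conj_z i.2.1 i.2.2
    exact ⟨k, hk⟩
  choose k hk using hk
  have hl : ∀ s : {s : G // s ∈ cls z ∧ s * x = x * s}, ∃ l : G, l * z * l⁻¹ = s := fun s => s.2.1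
  choose l hl using hl
  have hP1 : Nat.card {p : G × G // (orderOf p.2 = 2 ∧ p.2 ∈ N(M)) ∧
      (p.1 * p.2 * p.1⁻¹) * x = x * (p.1 * p.2 * p.1⁻¹)} = Nat.card G := by
    refine Nat.card_congr (Equiv.ofBijective (fun p => p.1.1) ⟨?_, ?_⟩)
    · rintro ⟨⟨g, i⟩, ⟨hi, hiN⟩, hgi⟩ ⟨⟨g', i'⟩, ⟨hi', hiN'⟩, hgi'⟩ hh
      dsimp at hh hi hiN hgi hi' hiN' hgi'
      subst hh
      have ho : orderOf (g⁻¹ * x * g) = 2 := by
        have := orderOf_conj x g⁻¹
        rw [inv_inv] at this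
        rw [this]; exact hx
      obtain ⟨i0, -, hi0⟩ := t.uniq_inv ho
      have key : ∀ j : G, (g * j * g⁻¹) * x = x * (g * j * g⁻¹) →
          (g⁻¹ * x * g) * j = j * (g⁻¹ * x * g) := by
        intro j hj
        calc (g⁻¹ * x * g) * j = g⁻¹ * (x * (g * j * g⁻¹)) * g := by group
          _ = g⁻¹ * ((g * j * g⁻¹) * x) * g := by rw [hj]
          _ = _ := by group
      have h1 := hi0 i hi hiN (key i hgi)
      have h2 := hi0 i' hi' hiN' (key i' hgi')
      apply Subtype.ext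
      apply Prod.ext
      · rfl
      · exact h1.trans h2.symm
    · intro g
      have ho : orderOf (g⁻¹ * x * g) = 2 := by
        have := orderOf_conj x g⁻¹
        rw [inv_inv] at this
        rw [this]; exact hx
      obtain ⟨i, ⟨hi, hiN, hgi⟩, -⟩ := t.uniq_inv ho
      refine ⟨⟨(g, i), ⟨hi, hiN⟩, ?_⟩, rfl⟩
      dsimp
      calc (g * i * g⁻¹) * x = g * (i * (g⁻¹ * x * g)) * g⁻¹ := by group
        _ = g * ((g⁻¹ * x * g) * i) * g⁻¹ := by rw [hgi]
        _ = _ := by group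
  have hP2 : Nat.card {p : G × G // (orderOf p.2 = 2 ∧ p.2 ∈ N(M)) ∧
      (p.1 * p.2 * p.1⁻¹) * x = x * (p.1 * p.2 * p.1⁻¹)} =
      Nat.card ({s : G // s ∈ cls z ∧ s * x = x * s} ×
        ({g : G // orderOf g = 2 ∧ g ∈ N(M)} × C(z))) := by
    symm
    refine Nat.card_congr (Equiv.ofBijective (fun q =>
      ⟨(l q.1 * q.2.2 * (k q.2.1)⁻¹, q.2.1), q.2.1.2, ?_⟩) ⟨?_, ?_⟩)
    · have h1 : l q.1 * q.2.2 * (k q.2.1)⁻¹ * q.2.1 * (l q.1 * q.2.2 * (k q.2.1)⁻¹)⁻¹ = q.1 := by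
        have h2 := Subgroup.mem_centralizer_singleton_iff.1 q.2.2.2
        calc l q.1 * q.2.2 * (k q.2.1)⁻¹ * q.2.1 * (l q.1 * q.2.2 * (k q.2.1)⁻¹)⁻¹ =
            l q.1 * (q.2.2 * ((k q.2.1)⁻¹ * q.2.1 * k q.2.1)) * (q.2.2 : G)⁻¹ * (l q.1)⁻¹ := by group
          _ = l q.1 * (q.2.2 * z) * (q.2.2 : G)⁻¹ * (l q.1)⁻¹ := by
              rw [← hk q.2.1]; group
          _ = l q.1 * z * (l q.1)⁻¹ := by rw [h2]; group
          _ = q.1 := hl q.1
      dsimp only
      rw [h1]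
      exact q.1.2.2
    · rintro ⟨s, i, c⟩ ⟨s', i', c'⟩ hh
      have h1 : l s * c * (k i)⁻¹ = l s' * c' * (k i')⁻¹ := congrArg (fun p => p.1.1) hh
      have h2 : (i : G) = i' := congrArg (fun p => p.1.2) hh
      have h3 : i = i' := Subtype.ext h2
      subst h3
      have h4 : l s * c = l s' * c' := mul_right_cancel h1
      have h5 : (s : G) = s' := by
        rw [← hl s, ← hl s']
        have hc := Subgroup.mem_centralizer_singleton_iff.1 c.2
        have hc' := Subgroup.mem_centralizer_singleton_iff.1 c'.2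
        calc l s * z * (l s)⁻¹ = l s * (z * c) * (c : G)⁻¹ * (l s)⁻¹ := by group
          _ = (l s * c) * z * (l s * c)⁻¹ := by rw [← hc]; group
          _ = (l s' * c') * z * (l s' * c')⁻¹ := by rw [h4]
          _ = l s' * (c' * z) * (c' : G)⁻¹ * (l s')⁻¹ := by group
          _ = _ := by rw [hc']; group
      have h6 : s = s' := Subtype.ext h5
      subst h6
      have h7 : (c : G) = c' := mul_left_cancel h4
      have h8 : c = c' := Subtype.ext h7
      subst h8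
      rfl
    · rintro ⟨⟨g, i⟩, ⟨hi, hiN⟩, hgi⟩
      dsimp at hi hiN hgi
      let i' : {g : G // orderOf g = 2 ∧ g ∈ N(M)} := ⟨i, hi, hiN⟩
      have hs : g * i * g⁻¹ ∈ cls z := ⟨g * k i', by
        rw [mul_inv_rev]
        calc g * k i' * z * ((k i')⁻¹ * g⁻¹) = g * (k i' * z * (k i')⁻¹) * g⁻¹ := by group
          _ = g * i * g⁻¹ := by rw [hk i']⟩
      let s : {s : G // s ∈ cls z ∧ s * x = x * s} := ⟨g * i * g⁻¹, hs, hgi⟩
      have hc : (l s)⁻¹ * g * k i' ∈ C(z) := by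
        rw [Subgroup.mem_centralizer_singleton_iff]
        have h1 := hl s
        have h2 := hk i'
        have h3 : (s : G) = g * i * g⁻¹ := rfl
        have h4 : (i' : G) = i := rfl
        rw [h3] at h1
        rw [h4] at h2
        calc (l s)⁻¹ * g * k i' * z = (l s)⁻¹ * g * (k i' * z * (k i')⁻¹) * k i' := by group
          _ = (l s)⁻¹ * (g * i * g⁻¹) * g * k i' := by rw [h2]; group
          _ = (l s)⁻¹ * (l s * z * (l s)⁻¹) * g * k i' := by rw [h1]
          _ = _ := by group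
      refine ⟨⟨s, i', ⟨_, hc⟩⟩, ?_⟩
      apply Subtype.ext
      apply Prod.ext
      · show l s * ((l s)⁻¹ * g * k i') * (k i')⁻¹ = g
        group
      · rfl
  rw [hP1, Nat.card_prod, Nat.card_prod, hI, n.hC, n.hG' hm] at hP2
  have h3 : (b + 2) * (2 * (b + 1)) * (b + 1) = (b + 2) * (2 * (b + 1)) *
      Nat.card {s : G // s ∈ cls z ∧ s * x = x * s} := by
    calc (b + 2) * (2 * (b + 1)) * (b + 1) = (b + 2) * (2 * (b + 1) ^ 2) := by ring
      _ = _ := by rw [hP2]; ring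
  exact (Nat.eq_of_mul_eq_mul_left (by positivity) h3).symm

theorem Exp.card_cls (t : Exp M z) {d b : ℕ} (n : Nums M z d b) (hm : Nat.card M = b + 2) :
    Nat.card {s : G // s ∈ cls z} = (b + 2) * (b + 1) := by
  have h1 : Nat.card {s : G // s ∈ cls z} = (C(z) : Subgroup G).index := by
    symm
    rw [Subgroup.index]
    refine Nat.card_congr (Equiv.ofBijective (fun q => (⟨clMap z t.h.hz q, ?_⟩ :
      {s : G // s ∈ cls z})) ⟨?_, ?_⟩)
    · obtain ⟨g, rfl⟩ := Quotient.exists_rep q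
      exact ⟨g, rfl⟩
    · intro q q' hqq
      apply clMap_injective z t.h.hz
      apply Subtype.ext
      exact congrArg (fun w : {s : G // s ∈ cls z} => (w : G)) hqq
    · rintro ⟨s, g, hg⟩
      exact ⟨QuotientGroup.mk g, Subtype.ext hg⟩
  have h2 := Subgroup.card_mul_index C(z)
  rw [← h1, n.hC, n.hG' hm] at h2
  exact Nat.eq_of_mul_eq_mul_left (show 0 < 2 * (b + 1) by omega) (h2.trans (by ring))

theorem Exp.card_other (t : Exp M z) {d b : ℕ} (n : Nums M z d b) (hm : Nat.card M = b + 2) :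
    Nat.card {s : G // orderOf s = 2 ∧ s ∉ cls z} = (b + 2) * b := by
  classical
  have h1 : Nat.card {g : G // orderOf g = 2} = Nat.card {s : G // orderOf s = 2 ∧ s ∉ cls z} +
      Nat.card {s : G // s ∈ cls z} := by
    rw [← Nat.card_sum]
    refine Nat.card_congr ⟨fun g => if hg : (g : G) ∈ cls z then Sum.inr ⟨g, hg⟩ else
      Sum.inl ⟨g, g.2, hg⟩, fun s => Sum.elim (fun g => ⟨g.1, g.2.1⟩)
      (fun g => ⟨g.1, cls_order t.h.hz g.2⟩) s, ?_, ?_⟩
    · intro g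
      by_cases hg : (g : G) ∈ cls z <;> simp [hg]
    · rintro (⟨g, hg, hg2⟩ | ⟨g, hg⟩)
      · simp [hg2]
      · simp [hg]
  rw [t.card_cls n hm, n.hI, hm] at h1
  have h2 : (b + 2) * (2 * b + 1) = (b + 2) * b + (b + 2) * (b + 1) := by ring
  omega

/-- an involution of the other kind with a large centralizer -/
theorem Exp.exists_w (t : Exp M z) {d b : ℕ} (n : Nums M z d b) (hm : Nat.card M = b + 2) :
    ∃ w, orderOf w = 2 ∧ w ∉ cls z ∧ w ∈ C(z) ∧ 2 * (b + 1) ^ 2 ≤ Nat.card C(w) := by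
  classical
  have hp2 : Fact (Nat.Prime 2) := ⟨Nat.prime_two⟩
  let P : Sylow 2 G := default
  have h1 : 2 ^ (2 * d + 1) = 2 * (b + 1) ^ 2 := by rw [pow_succ, pow_mul', n.hb]; ring
  have h2 : 2 ^ (2 * d + 1) ∣ Nat.card G := by
    rw [n.hG' hm, h1]; exact dvd_mul_left _ _
  have h3 := P.pow_dvd_card_of_pow_dvd_card h2
  rw [h1] at h3
  have h4 : 2 * (b + 1) ^ 2 ≤ Nat.card P := Nat.le_of_dvd Nat.card_pos h3
  let X := {s : G // orderOf s = 2 ∧ s ∉ cls z}
  let _ : MulAction P X :=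
    { smul := fun g s => ⟨(g : G) * s * (g : G)⁻¹, by rw [orderOf_conj]; exact s.2.1, fun h =>
        s.2.2 ((cls_conj_iff _).1 h)⟩
      one_smul := fun s => Subtype.ext (by
        show ((1 : P) : G) * s * ((1 : P) : G)⁻¹ = s
        simp)
      mul_smul := fun g h s => Subtype.ext (by
        show ((g * h : P) : G) * s * ((g * h : P) : G)⁻¹ = g * (h * s * (h : G)⁻¹) * (g : G)⁻¹
        rw [Subgroup.coe_mul]; group) }
  have h5 : ¬ 2 ∣ Nat.card X := by
    show ¬ 2 ∣ Nat.card {s : G // orderOf s = 2 ∧ s ∉ cls z}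
    rw [t.card_other n hm]
    have h6 : Odd b := by
      have := n.hb
      have h7 : Even (2 ^ d) := Nat.even_pow.2 ⟨even_two, by have := n.d1; omega⟩
      rw [n.hb] at h7
      exact Nat.not_even_iff_odd.1 (fun h8 => by
        obtain ⟨r, hr⟩ := h8; obtain ⟨r', hr'⟩ := h7; omega)
    have h8 : Odd ((b + 2) * b) := Odd.mul (by
      obtain ⟨r, hr⟩ := h6; exact ⟨r + 1, by omega⟩) h6
    intro h9
    exact (Nat.not_even_iff_odd.2 h8) (even_iff_two_dvd.2 h9)
  obtain ⟨w0, hw0⟩ := P.2.nonempty_fixed_point_of_prime_not_dvd_card X h5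
  have h6 : ∀ g ∈ (P : Subgroup G), g * w0 * g⁻¹ = w0 := by
    intro g hg
    exact congrArg Subtype.val (hw0 ⟨g, hg⟩)
  have h7 : (P : Subgroup G) ≤ C((w0 : G)) := by
    intro g hg
    rw [Subgroup.mem_centralizer_singleton_iff]
    have := h6 g hg
    calc g * w0 = (g * w0 * g⁻¹) * g := by group
      _ = w0 * g := by rw [this]
  have h8 : 2 * (b + 1) ^ 2 ≤ Nat.card C((w0 : G)) :=
    h4.trans (Subgroup.card_le_of_le h7)
  have h9 : 0 < Nat.card {s : G // s ∈ cls z ∧ s * w0 = w0 * s} := by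
    rw [t.card_TC n hm w0.2.1]; omega
  obtain ⟨⟨s, ⟨l, hl⟩, hsw⟩⟩ := (Nat.card_pos_iff.1 h9).1
  refine ⟨l⁻¹ * w0 * l, ?_, ?_, ?_, ?_⟩
  · have := orderOf_conj (w0 : G) l⁻¹
    rw [inv_inv] at this
    rw [this]; exact w0.2.1
  · intro h10
    apply w0.2.2
    have := (cls_conj_iff (z := z) (t := (w0 : G)) l⁻¹).1 (by rwa [inv_inv])
    exact this
  · rw [Subgroup.mem_centralizer_singleton_iff]
    calc l⁻¹ * w0 * l * z = l⁻¹ * (w0 * (l * z * l⁻¹)) * l := by group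
      _ = l⁻¹ * ((l * z * l⁻¹) * w0) * l := by rw [hl, hsw]
      _ = _ := by group
  · have h10 : l⁻¹ * (w0 : G) * l⁻¹⁻¹ = l⁻¹ * w0 * l := by rw [inv_inv]
    rw [card_centralizer_conj h10]
    exact h8

end Cfsg.Agent.Lib.BTI
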