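import Cfsg.Agent.Lib.BTI8
import Cfsg.Agent.Lib.SubgroupTools
import Cfsg.Prelude.Def_Transfer

/-!
# Bender's TI theorem (S3043), IX: `C(z)` elementary abelian, `|M| = 2^d + 1`, end (helper4)
-/

set_option autoImplicit false
set_option linter.unusedSectionVars false

namespace Cfsg.Agent.Lib.BTI

open Cfsg.Agent.Lib.Involutions
open scoped Pointwise

universe v
variable {G : Type v} [Group G] [Finite G] {M : Subgroup G} {z w : G}

local notation "N(" M ")" => Subgroup.normalizer (SetLike.coe M)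
local notation "C(" z ")" => Subgroup.centralizer ({z} : Set _)

/-- the small case -/
structure Sm (M : Subgroup G) (z w : G) (d b : ℕ) : Prop where
  t : Exp M z
  n : Nums M z d b
  hm : Nat.card M = b + 2
  hw : orderOf w = 2
  hwc : w ∉ cls z
  hwz : w ∈ C(z)
  hwC : 2 * (b + 1) ^ 2 ≤ Nat.card C(w)

/-- `Φ = cls z ∩ C(z)` -/
def Phi (z : G) : Set G := {s | s ∈ cls z ∧ s ∈ C(z)}

variable {d b : ℕ}

theorem Sm.card_Phi (s : Sm M z w d b) : Nat.card {x : G // x ∈ Phi z} = b + 1 := by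
  rw [← s.t.card_TC s.n s.hm s.t.h.hz]
  refine Nat.card_congr (Equiv.subtypeEquivRight fun x => ?_)
  rw [← Subgroup.mem_centralizer_singleton_iff]; exact Iff.rfl

theorem Sm.commH (s : Sm M z w d b) {x y : G} (hx : x ∈ C(z)) (hy : y ∈ C(z)) : x * y = y * x :=
  comm_of_sq s.t.hE x hx y hy

/-- `Φ = cls z ∩ C(x)` for all involutions `x ∈ C(z)` -/
theorem Sm.mem_Phi (s : Sm M z w d b) {x : G} (hx : orderOf x = 2) (hxz : x ∈ C(z)) {y : G} :
    y ∈ Phi z ↔ y ∈ cls z ∧ y * x = x * y := by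
  classical
  have h1 : Phi z ⊆ {y | y ∈ cls z ∧ y * x = x * y} := by
    intro y hy
    exact ⟨hy.1, s.commH hy.2 hxz⟩
  have h2 : Phi z = {y | y ∈ cls z ∧ y * x = x * y} := by
    apply Set.eq_of_subset_of_ncard_le h1
    have e1 : (Phi z).ncard = b + 1 := by
      rw [← Nat.card_coe_set_eq]; exact s.card_Phi
    have e2 : {y | y ∈ cls z ∧ y * x = x * y}.ncard = b + 1 := by
      rw [← Nat.card_coe_set_eq]; exact s.t.card_TC s.n s.hm hx
    rw [e1, e2]
  rw [h2]; rfl

theorem Sm.le_B (s : Sm M z w d b) {x : G} (hx : orderOf x = 2) (hxz : x ∈ C(z)) :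
    C(x) ≤ Subgroup.normalizer (Phi z) := by
  intro g hg
  show ∀ y, y ∈ Phi z ↔ g * y * g⁻¹ ∈ Phi z
  intro y
  rw [s.mem_Phi hx hxz, s.mem_Phi hx hxz, cls_conj_iff]
  rw [Subgroup.mem_centralizer_singleton_iff] at hg
  apply and_congr_right
  intro _
  constructor
  · intro h1
    calc g * y * g⁻¹ * x = g * y * (g⁻¹ * (x * g)) * g⁻¹ := by group
      _ = g * y * (g⁻¹ * (g * x)) * g⁻¹ := by rw [hg]
      _ = g * (y * x) * g⁻¹ := by group
      _ = g * (x * y) * g⁻¹ := by rw [h1]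
      _ = (g * x) * y * g⁻¹ := by group
      _ = x * (g * y * g⁻¹) := by rw [hg]; group
  · intro h1
    calc y * x = g⁻¹ * (g * y * g⁻¹ * (g * x)) := by group
      _ = g⁻¹ * ((g * y * g⁻¹ * x) * g) := by rw [hg]; group
      _ = g⁻¹ * ((x * (g * y * g⁻¹)) * g) := by rw [h1]
      _ = g⁻¹ * (x * g) * y := by group
      _ = g⁻¹ * (g * x) * y := by rw [hg]
      _ = _ := by group

theorem Sm.card_B (s : Sm M z w d b) :
    Nat.card (Subgroup.normalizer (Phi z)) ≤ 2 * (b + 1) ^ 2 := by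
  classical
  have hl : ∀ x : {x : G // x ∈ Phi z}, ∃ l : G, l * z * l⁻¹ = x := fun x => x.2.1
  choose l hl using hl
  have hzPhi : z ∈ Phi z := ⟨z_cls z, zC z⟩
  have key : ∀ g : Subgroup.normalizer (Phi z), (g : G) * z * (g : G)⁻¹ ∈ Phi z := fun g =>
    (g.2 z).1 hzPhi
  have h1 : Nat.card (Subgroup.normalizer (Phi z)) ≤ Nat.card ({x : G // x ∈ Phi z} × C(z)) := by
    refine Nat.card_le_card_of_injective (fun g => (⟨_, key g⟩,
      ⟨(l ⟨_, key g⟩)⁻¹ * g, ?_⟩)) ?_
    · rw [Subgroup.mem_centralizer_singleton_iff]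
      have h2 := hl ⟨_, key g⟩
      dsimp at h2
      calc (l ⟨_, key g⟩)⁻¹ * g * z = (l ⟨_, key g⟩)⁻¹ * (g * z * (g : G)⁻¹) * g := by group
        _ = (l ⟨_, key g⟩)⁻¹ * (l ⟨_, key g⟩ * z * (l ⟨_, key g⟩)⁻¹) * g := by rw [h2]
        _ = _ := by group
    · intro g g' hgg
      have h2 := congrArg (fun q : {x : G // x ∈ Phi z} × C(z) => q.1) hgg
      have h3 := congrArg (fun q : {x : G // x ∈ Phi z} × C(z) => (q.2 : G)) hgg
      dsimp at h2 h3
      rw [h2] at h3
      exact Subtype.ext (mul_left_cancel h3)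
  rw [Nat.card_prod, s.card_Phi, s.n.hC] at h1
  calc _ ≤ _ := h1
    _ = _ := by ring

theorem Sm.Cw (s : Sm M z w d b) : C(w) = Subgroup.normalizer (Phi z) :=
  Subgroup.eq_of_le_of_card_ge (s.le_B s.hw s.hwz) (s.card_B.trans s.hwC)

theorem Sm.card_Cw (s : Sm M z w d b) : Nat.card C(w) = 2 * (b + 1) ^ 2 :=
  le_antisymm (by rw [s.Cw]; exact s.card_B) s.hwC

theorem Sm.C_le (s : Sm M z w d b) {x : G} (hx : orderOf x = 2) (hxz : x ∈ C(z)) :
    C(x) ≤ C(w) := by
  rw [s.Cw]; exact s.le_B hx hxz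

theorem Sm.b1 (s : Sm M z w d b) : 1 ≤ b := by
  have h1 := s.n.hb
  have : 2 ^ 1 ≤ 2 ^ d := Nat.pow_le_pow_right (by norm_num) s.n.d1
  omega

/-- conjugates of `w` commute with `w` -/
theorem Sm.comm_conj (s : Sm M z w d b) (g : G) : (g * w * g⁻¹) * w = w * (g * w * g⁻¹) := by
  classical
  set w' := g * w * g⁻¹ with hw'
  have hw'2 : orderOf w' = 2 := by rw [hw', orderOf_conj]; exact s.hw
  have hw'c : w' ∉ cls z := fun h => s.hwc ((cls_conj_iff g).1 h)
  have hb := s.b1
  have hC' : Nat.card C(w') = 2 * (b + 1) ^ 2 := by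
    rw [card_centralizer_conj hw'.symm]; exact s.card_Cw
  set D : Subgroup G := C(w') ⊓ C(w) with hD
  have hDcard : b + 1 < Nat.card D := by
    have h1 : Nat.card D * (C(w')).relIndex C(w) = Nat.card C(w) := by
      rw [← Subgroup.inf_relIndex_right, ← hD]
      have := Subgroup.card_mul_index (D.subgroupOf C(w))
      rw [Nat.card_congr (Subgroup.subgroupOfEquivOfLe (inf_le_right : D ≤ C(w))).toEquiv] at this
      exact this
    have h2 : (C(w')).relIndex C(w) ≤ (C(w')).index := by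
      rw [← Subgroup.relIndex_top_right]
      exact Subgroup.relIndex_le_of_le_right le_top (by
        rw [Subgroup.relIndex_top_right]; exact Subgroup.index_ne_zero_of_finite)
    have h3 : (C(w')).index = b + 2 := by
      have := Subgroup.card_mul_index C(w')
      rw [hC', s.n.hG' s.hm] at this
      exact Nat.eq_of_mul_eq_mul_left (show 0 < 2 * (b + 1) ^ 2 by positivity)
        (this.trans (by ring))
    rw [h3] at h2
    rw [s.card_Cw] at h1
    by_contra hlt
    push Not at hlt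
    have h4 : 2 * (b + 1) ^ 2 ≤ (b + 1) * (b + 2) := by
      rw [← h1]; exact Nat.mul_le_mul hlt h2
    nlinarith
  -- an element of `D ∩ C(z)`
  obtain ⟨h, hhD, hhz, hh1⟩ : ∃ h ∈ D, h ∈ C(z) ∧ h ≠ 1 := by
    have key : ∀ g : D, (g : G) * z * (g : G)⁻¹ ∈ Phi z := fun g => by
      have h1 : (g : G) ∈ Subgroup.normalizer (Phi z) := by rw [← s.Cw]; exact g.2.2
      exact (h1 z).1 ⟨z_cls z, zC z⟩
    have hni : ¬ Function.Injective (fun g : D => (⟨_, key g⟩ : {x : G // x ∈ Phi z})) := by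
      intro hinj
      have := Nat.card_le_card_of_injective _ hinj
      rw [s.card_Phi] at this
      omega
    rw [Function.Injective] at hni
    push Not at hni
    obtain ⟨x, y, hxy, hne⟩ := hni
    have h1 : (x : G) * z * (x : G)⁻¹ = y * z * (y : G)⁻¹ := congrArg Subtype.val hxy
    refine ⟨(y : G)⁻¹ * x, mul_mem (D.inv_mem y.2) x.2, ?_, ?_⟩
    · rw [Subgroup.mem_centralizer_singleton_iff]
      calc (y : G)⁻¹ * x * z = (y : G)⁻¹ * (x * z * (x : G)⁻¹) * x := by group
        _ = (y : G)⁻¹ * (y * z * (y : G)⁻¹) * x := by rw [h1]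
        _ = _ := by group
    · intro h2
      apply hne
      apply Subtype.ext
      exact (inv_mul_eq_one.1 h2).symm
  have hho : orderOf h = 2 := orderOf_eq_prime (by rw [pow_two]; exact s.t.hE h hhz) hh1
  have hw'h : w' ∈ C(h) := by
    have := Subgroup.mem_centralizer_singleton_iff.1 hhD.1
    exact Subgroup.mem_centralizer_singleton_iff.2 this.symm
  by_cases hhc : h ∈ cls z
  · obtain ⟨l, hl⟩ := hhc
    have h1 : C(z) ≤ C(h) := by
      intro x hx
      rw [Subgroup.mem_centralizer_singleton_iff]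
      exact s.commH hx hhz
    have h2 : C(z) = C(h) := Subgroup.eq_of_le_of_card_ge h1 (card_centralizer_conj hl).le
    rw [← h2] at hw'h
    exact s.commH hw'h s.hwz
  · exact Subgroup.mem_centralizer_singleton_iff.1 (s.C_le hho hhz hw'h)

/-- the normal closure of `w` -/
theorem Sm.W_comm (s : Sm M z w d b) : ∀ x ∈ Subgroup.normalClosure ({w} : Set G),
    ∀ y ∈ Subgroup.normalClosure ({w} : Set G), x * y = y * x := by
  have h1 : Group.conjugatesOfSet ({w} : Set G) ⊆
      Subgroup.centralizer (Group.conjugatesOfSet ({w} : Set G)) := by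
    intro x hx
    rw [SetLike.mem_coe, Subgroup.mem_centralizer_iff]
    intro y hy
    rw [Group.mem_conjugatesOfSet_iff] at hx hy
    obtain ⟨a, ha, hx⟩ := hx
    obtain ⟨a', ha', hy⟩ := hy
    rw [Set.mem_singleton_iff] at ha ha'
    subst ha; subst ha'
    rw [isConj_iff] at hx hy
    obtain ⟨g, rfl⟩ := hx
    obtain ⟨g', rfl⟩ := hy
    have h2 := s.comm_conj (g⁻¹ * g')
    calc g' * a' * g'⁻¹ * (g * a' * g⁻¹) = g * (((g⁻¹ * g') * a' * (g⁻¹ * g')⁻¹) * a') * g⁻¹ := by group
      _ = g * (a' * ((g⁻¹ * g') * a' * (g⁻¹ * g')⁻¹)) * g⁻¹ := by rw [h2]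
      _ = _ := by group
  have h2 : Subgroup.normalClosure ({w} : Set G) ≤
      Subgroup.centralizer (Group.conjugatesOfSet ({w} : Set G)) :=
    (Subgroup.closure_le _).2 h1
  intro x hx y hy
  have h3 := h2 hx
  rw [← Subgroup.centralizer_closure] at h3
  exact (Subgroup.mem_centralizer_iff.1 h3 y hy).symm

theorem Sm.W_sq (s : Sm M z w d b) : ∀ x ∈ Subgroup.normalClosure ({w} : Set G), x * x = 1 := by
  intro x hx
  unfold Subgroup.normalClosure at hx
  induction hx using Subgroup.closure_induction with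
  | mem x hx =>
    rw [Group.mem_conjugatesOfSet_iff] at hx
    obtain ⟨a, ha, hx⟩ := hx
    rw [Set.mem_singleton_iff] at ha
    subst ha
    rw [isConj_iff] at hx
    obtain ⟨g, rfl⟩ := hx
    have := mul_self s.hw
    calc g * a * g⁻¹ * (g * a * g⁻¹) = g * (a * a) * g⁻¹ := by group
      _ = 1 := by rw [this]; group
  | one => simp
  | mul x y hx hy hx1 hy1 =>
    have := s.W_comm x hx y hy
    calc x * y * (x * y) = x * (y * x) * y := by group
      _ = x * (x * y) * y := by rw [this]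
      _ = (x * x) * (y * y) := by group
      _ = 1 := by rw [hx1, hy1, one_mul]
  | inv x hx hx1 =>
    have : x⁻¹ = x := inv_eq_of_mul_eq_one_left hx1
    rw [this]; exact hx1

theorem Sm.W_cls (s : Sm M z w d b) {x : G} (hx : x ∈ Subgroup.normalClosure ({w} : Set G)) :
    x ∉ cls z := by
  rintro ⟨g, hg⟩
  have hn : (Subgroup.normalClosure ({w} : Set G)).Normal := Subgroup.normalClosure_normal
  have hz : z ∈ Subgroup.normalClosure ({w} : Set G) := by
    have := hn.conj_mem x hx g⁻¹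
    rw [inv_inv, ← hg] at this
    have h2 : g⁻¹ * (g * z * g⁻¹) * g = z := by group
    rwa [h2] at this
  obtain ⟨m, hm, hm1⟩ := M.bot_or_exists_ne_one.resolve_left s.t.h.M1
  have h1 : z * (m * z * m⁻¹) ∈ Subgroup.normalClosure ({w} : Set G) :=
    mul_mem hz (hn.conj_mem z hz m)
  have h2 : z * (m * z * m⁻¹) = m⁻¹ * m⁻¹ := by
    have h3 := s.t.h.conj_z hm
    rw [h3]
    have h4 := s.t.h.zmul (mul_mem hm hm)
    calc z * (m * m * z) = (z * (m * m)) * z := by group
      _ = (m * m)⁻¹ * (z * z) := by rw [h4]; group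
      _ = _ := by rw [mul_self s.t.h.hz]; group
  rw [h2] at h1
  have h3 := s.W_sq _ h1
  have h4 : m⁻¹ * m⁻¹ = 1 := s.t.h.sq_eq_one (mul_mem (M.inv_mem hm) (M.inv_mem hm)) h3
  have h5 : m⁻¹ = 1 := s.t.h.sq_eq_one (M.inv_mem hm) h4
  exact hm1 (inv_eq_one.1 h5)

theorem Sm.card_W_le (s : Sm M z w d b) :
    Nat.card (Subgroup.normalClosure ({w} : Set G)) ≤ (b + 1) ^ 2 := by
  classical
  have h1 : Nat.card (Subgroup.normalClosure ({w} : Set G)) ≤
      Nat.card (Option {s : G // orderOf s = 2 ∧ s ∉ cls z}) := by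
    refine Nat.card_le_card_of_injective (fun x => if hx : (x : G) = 1 then none else
      some ⟨x, orderOf_eq_prime (by rw [pow_two]; exact s.W_sq x x.2) hx, s.W_cls x.2⟩) ?_
    intro x y hxy
    dsimp only at hxy
    split_ifs at hxy with h1 h2 h2
    · exact Subtype.ext (h1.trans h2.symm)
    · have := Option.some.inj hxy
      exact Subtype.ext (congrArg (fun q : {s : G // orderOf s = 2 ∧ s ∉ cls z} => (q : G)) this)
  rw [Finite.card_option, s.t.card_other s.n s.hm] at h1
  calc _ ≤ _ := h1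
    _ = _ := by ring

theorem dvd_pow_lemma {d j : ℕ} (hj : 1 ≤ j) (h : 2 ^ d + 1 ∣ 2 ^ j - 1) :
    2 * d ≤ j := by
  by_contra hlt
  push Not at hlt
  have hpos : 2 ^ 1 ≤ 2 ^ j := Nat.pow_le_pow_right (by norm_num) hj
  by_cases hjd : j ≤ d
  · have h1 : 2 ^ j ≤ 2 ^ d := Nat.pow_le_pow_right (by norm_num) hjd
    have := Nat.le_of_dvd (by omega) h
    omega
  · push Not at hjd
    obtain ⟨k, rfl⟩ : ∃ k, j = d + k := ⟨j - d, by omega⟩
    have h1 : (2 ^ d + 1) * 2 ^ k = (2 ^ (d + k) - 1) + (2 ^ k + 1) := by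
      have : (2 ^ d + 1) * 2 ^ k = 2 ^ (d + k) + 2 ^ k := by ring
      omega
    have h2 : 2 ^ d + 1 ∣ 2 ^ k + 1 := by
      have h3 : 2 ^ d + 1 ∣ (2 ^ d + 1) * 2 ^ k := dvd_mul_right _ _
      rw [h1] at h3
      exact (Nat.dvd_add_right h).1 h3
    have h3 := Nat.le_of_dvd (by positivity) h2
    have h4 : 2 ^ k < 2 ^ d := Nat.pow_lt_pow_right (by norm_num) (by omega)
    omega

theorem Sm.card_W (s : Sm M z w d b) :
    Nat.card (Subgroup.normalClosure ({w} : Set G)) = 2 ^ (2 * d) := by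
  classical
  set W := Subgroup.normalClosure ({w} : Set G) with hW
  have hn : W.Normal := Subgroup.normalClosure_normal
  have hp2 : Fact (Nat.Prime 2) := ⟨Nat.prime_two⟩
  have hp : IsPGroup 2 W := fun g => ⟨1, by
    rw [pow_one, pow_two]; exact Subtype.ext (s.W_sq g g.2)⟩
  obtain ⟨j, hj⟩ := IsPGroup.iff_card.1 hp
  have hwW : w ∈ W := Subgroup.subset_normalClosure rfl
  have hj1 : 1 ≤ j := by
    rcases Nat.eq_zero_or_pos j with h0 | h0
    · subst h0
      rw [pow_zero] at hj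
      have := Subgroup.card_eq_one.1 hj
      rw [this, Subgroup.mem_bot] at hwW
      exact absurd hwW (ne_one s.hw)
    · exact h0
  let X := {x : G // x ∈ W ∧ x ≠ 1}
  have hX : Nat.card X = 2 ^ j - 1 := by
    have h1 : Nat.card W = Nat.card (Option X) := by
      refine Nat.card_congr (Equiv.ofBijective (fun x => if hx : (x : G) = 1 then none else
        some ⟨x, x.2, hx⟩) ⟨?_, ?_⟩)
      · intro x y hxy
        dsimp only at hxy
        split_ifs at hxy with h1 h2 h2
        · exact Subtype.ext (h1.trans h2.symm)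
        · have := Option.some.inj hxy
          exact Subtype.ext (congrArg (fun q : X => (q : G)) this)
      · rintro (_ | ⟨x, hx, hx1⟩)
        · exact ⟨1, by simp⟩
        · exact ⟨⟨x, hx⟩, by simp [hx1]⟩
    rw [Finite.card_option, hj] at h1
    omega
  let _ : MulAction M X :=
    { smul := fun g x => ⟨(g : G) * x * (g : G)⁻¹, hn.conj_mem x x.2.1 g, fun h =>
        conj_ne_one' x.2.2 h⟩
      one_smul := fun x => Subtype.ext (by
        show ((1 : M) : G) * x * ((1 : M) : G)⁻¹ = x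
        simp)
      mul_smul := fun g h x => Subtype.ext (by
        show ((g * h : M) : G) * x * ((g * h : M) : G)⁻¹ = g * (h * x * (h : G)⁻¹) * (g : G)⁻¹
        rw [Subgroup.coe_mul]; group) }
  have h1 : Nat.card M ∣ Nat.card X := by
    apply FrobGroup.card_dvd_of_free
    intro m x hmx
    by_contra hm1
    have hm1' : (m : G) ≠ 1 := fun h => hm1 (Subtype.ext h)
    have h2 : (m : G) * x * (m : G)⁻¹ = x := congrArg Subtype.val hmx
    have h3 : orderOf (x : G) = 2 := orderOf_eq_prime (by rw [pow_two]; exact s.W_sq x x.2.1) x.2.2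
    apply s.t.h.no_comm m.2 hm1' h3
    calc (x : G) * m = ((m : G) * x * (m : G)⁻¹) * m := by rw [h2]
      _ = m * x := by group
  rw [s.hm, hX] at h1
  have h2 : b + 2 = 2 ^ d + 1 := by rw [s.n.hb]
  rw [h2] at h1
  have h3 := dvd_pow_lemma hj1 h1
  have h4 := s.card_W_le
  rw [← hW, ← s.n.hb, ← pow_mul, mul_comm, hj] at h4
  rw [hj]
  have h5 : j ≤ 2 * d := (Nat.pow_le_pow_iff_right (by norm_num)).1 h4
  rw [le_antisymm h5 h3]

theorem Sm.W_inf (s : Sm M z w d b) : Subgroup.normalClosure ({w} : Set G) ⊓ N(M) = ⊥ := by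
  rw [eq_bot_iff]
  intro x hx
  rw [Subgroup.mem_bot]
  by_contra hx1
  have h1 : orderOf x = 2 := orderOf_eq_prime (by rw [pow_two]; exact s.W_sq x hx.1) hx1
  obtain ⟨y, hy, hyx⟩ := s.t.h.exists_conj_z h1 hx.2
  exact s.W_cls hx.1 ⟨y, hyx⟩

theorem Sm.card_NM (s : Sm M z w d b) : Nat.card N(M) = 2 * (2 ^ d + 1) := by
  rw [s.t.h.card_N, s.t.cardA, s.hm, s.n.hb]; ring

theorem Sm.W_sup (s : Sm M z w d b) : Subgroup.normalClosure ({w} : Set G) ⊔ N(M) = ⊤ := by
  have hn : (Subgroup.normalClosure ({w} : Set G)).Normal := Subgroup.normalClosure_normal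
  apply Subgroup.eq_top_of_card_eq
  have h1 := SubgroupTools.card_sup_mul_card_inf (N := Subgroup.normalClosure ({w} : Set G))
    (H := N(M)) (le_top.trans (Subgroup.normalizer_eq_top_iff.2 hn).ge)
  rw [s.W_inf, Subgroup.card_bot, mul_one, s.card_W, s.card_NM] at h1
  rw [h1, s.n.hG' s.hm, pow_mul', s.n.hb]
  ring

theorem Sm.cyclic (s : Sm M z w d b) : IsCyclic M := by
  set W := Subgroup.normalClosure ({w} : Set G) with hW
  have hn : W.Normal := Subgroup.normalClosure_normal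
  let iW : CommGroup W :=
    { (inferInstance : Group W) with
      mul_comm := fun a b => Subtype.ext (s.W_comm a a.2 b b.2) }
  have hwW : w ∈ W := Subgroup.subset_normalClosure rfl
  have hnt : Nontrivial W := ⟨⟨⟨w, hwW⟩, 1, fun h => ne_one s.hw (congrArg Subtype.val h)⟩⟩
  let act : M →* MulAut W :=
    { toFun := fun m =>
        { toFun := fun x => ⟨(m : G) * x * (m : G)⁻¹, hn.conj_mem x x.2 m⟩
          invFun := fun x => ⟨(m : G)⁻¹ * x * m, by
            have := hn.conj_mem x x.2 (m : G)⁻¹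
            rwa [inv_inv] at this⟩
          left_inv := fun x => Subtype.ext (by
            show (m : G)⁻¹ * ((m : G) * x * (m : G)⁻¹) * m = x
            group)
          right_inv := fun x => Subtype.ext (by
            show (m : G) * ((m : G)⁻¹ * x * m) * (m : G)⁻¹ = x
            group)
          map_mul' := fun x y => Subtype.ext (by
            show (m : G) * (x * y) * (m : G)⁻¹ = ((m : G) * x * (m : G)⁻¹) * ((m : G) * y * (m : G)⁻¹)
            group) }
      map_one' := by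
        ext x
        show ((1 : M) : G) * x * ((1 : M) : G)⁻¹ = x
        simp
      map_mul' := fun m m' => by
        ext x
        show ((m * m' : M) : G) * x * ((m * m' : M) : G)⁻¹ = m * (m' * x * (m' : G)⁻¹) * (m : G)⁻¹
        rw [Subgroup.coe_mul]; group }
  have hf : FrobAction.IsFPF act := by
    intro m hm1 x hx
    by_contra hx1
    have hm1' : (m : G) ≠ 1 := fun h => hm1 (Subtype.ext h)
    have hx1' : (x : G) ≠ 1 := fun h => hx1 (Subtype.ext h)
    have h2 : (m : G) * x * (m : G)⁻¹ = x := congrArg Subtype.val hx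
    have h3 : orderOf (x : G) = 2 := orderOf_eq_prime (by rw [pow_two]; exact s.W_sq x x.2) hx1'
    apply s.t.h.no_comm m.2 hm1' h3
    calc (x : G) * m = ((m : G) * x * (m : G)⁻¹) * m := by rw [h2]
      _ = m * x := by group
  exact FrobAction.isCyclic_of_comm hf (fun a b => Subtype.ext (s.t.h.comm a a.2 b b.2))

theorem Sm.dihedral (s : Sm M z w d b) : Nonempty (N(M) ≃* DihedralGroup (2 ^ d + 1)) := by
  obtain ⟨g, hg⟩ := s.cyclic.exists_ofOrder_eq_natCard
  have hgo : orderOf (g : G) = 2 ^ d + 1 := by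
    rw [Subgroup.orderOf_coe, hg, s.hm, s.n.hb]
  let g' : N(M) := ⟨g, Subgroup.le_normalizer g.2⟩
  let z' : N(M) := ⟨z, s.t.h.hzN⟩
  apply DihRec.dihedral_of_gens (2 ^ d + 1) g' z' (by positivity)
  · rw [← hgo]; exact (Subgroup.orderOf_coe g').symm
  · exact s.card_NM
  · intro h
    obtain ⟨k, hk⟩ := Subgroup.mem_zpowers_iff.1 h
    have h2 : (g : G) ^ k = z := congrArg Subtype.val hk
    have h3 : z ∈ M := by rw [← h2]; exact M.zpow_mem g.2 k
    exact s.t.h.orderOf_ne_two h3 s.t.h.hz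
  · exact Subtype.ext (mul_self s.t.h.hz)
  · apply Subtype.ext
    show (z * g) * (z * g) = (1 : G)
    calc (z * g) * (z * g) = ((z * (g : G)) * z) * g := by group
      _ = (((g : G)⁻¹ * z) * z) * g := by rw [s.t.h.zmul g.2]
      _ = (g : G)⁻¹ * (z * z) * g := by group
      _ = 1 := by rw [mul_self s.t.h.hz]; group

theorem Exp.case_small (t : Exp M z) {d b : ℕ} (n : Nums M z d b) (hm : Nat.card M = b + 2) :
    (∃ (d : ℕ) (E : Subgroup G), 1 ≤ d ∧ E.Normal ∧ Cfsg.IsElementaryAbelian 2 E ∧ Nat.card E = 2 ^ (2 * d) ∧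
        E ⊓ Subgroup.normalizer (M : Set G) = ⊥ ∧ E ⊔ Subgroup.normalizer (M : Set G) = ⊤ ∧
        Nonempty (↥(Subgroup.normalizer (M : Set G)) ≃* DihedralGroup (2 ^ d + 1))) := by
  obtain ⟨w, hw, hwc, hwz, hwC⟩ := t.exists_w n hm
  have s : Sm M z w d b := ⟨t, n, hm, hw, hwc, hwz, hwC⟩
  exact ⟨d, Subgroup.normalClosure {w}, n.d1, Subgroup.normalClosure_normal,
    ⟨⟨⟨fun a b => Subtype.ext (s.W_comm a a.2 b b.2)⟩⟩, fun a ha => by
      rw [pow_two]; exact s.W_sq a ha⟩, s.card_W, s.W_inf, s.W_sup, s.dihedral⟩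

end Cfsg.Agent.Lib.BTI
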