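import Mathlib
import Cfsg.Prelude.Def_TwoFusion

/-!
Elementary facts about isolated involutions (no character theory).
-/

set_option autoImplicit false

namespace Cfsg.Agent.Lib.IsolatedH20

variable {G : Type*} [Group G]

theorem sq_eq_one {z : G} (hz : Cfsg.IsIsolatedInvolution z) : z * z = 1 := by
  have := pow_orderOf_eq_one z
  rw [hz.1, pow_two] at this
  exact this

theorem inv_eq {z : G} (hz : Cfsg.IsIsolatedInvolution z) : z⁻¹ = z :=
  inv_eq_of_mul_eq_one_left (sq_eq_one hz)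

theorem ne_one {z : G} (hz : Cfsg.IsIsolatedInvolution z) : z ≠ 1 := by
  rintro rfl
  have := hz.1
  simp at this

/-- conjugates of isolated involutions are isolated -/
theorem conj {z : G} (hz : Cfsg.IsIsolatedInvolution z) (g : G) :
    Cfsg.IsIsolatedInvolution (g * z * g⁻¹) := by
  refine ⟨?_, ?_⟩
  · have : g * z * g⁻¹ = MulAut.conj g z := rfl
    rw [this, ← hz.1]
    exact orderOf_injective (MulAut.conj g).toMonoidHom (MulAut.conj g).injective z
  · intro h hc
    have h1 : Commute z ((g⁻¹ * h * g) * z * (g⁻¹ * h * g)⁻¹) := by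
      have := hc.map (MulAut.conj g⁻¹)
      simp only [MulAut.conj_apply] at this
      convert this using 1 <;> group
    have h2 := hz.2 _ h1
    calc h * (g * z * g⁻¹) * h⁻¹ = g * ((g⁻¹ * h * g) * z * (g⁻¹ * h * g)⁻¹) * g⁻¹ := by group
      _ = g * z * g⁻¹ := by rw [h2]

/-- if an odd order element satisfies `k ^ 2 = k' ^ 2` with `k'` of odd order then `k = k'`. -/
theorem eq_of_sq_eq {k k' : G} (hk : Odd (orderOf k)) (hk' : Odd (orderOf k'))
    (h : k * k = k' * k') : k = k' := by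
  obtain ⟨m, hm⟩ := hk.mul hk'
  have e1 : k = (k * k) ^ (m + 1) := by
    have : (k * k) ^ (m + 1) = k ^ (2 * m + 1) * k := by
      rw [← pow_two, ← pow_mul, ← pow_succ]; congr 1
    rw [this, ← hm, pow_mul, pow_orderOf_eq_one, one_pow, one_mul]
  have e2 : k' = (k' * k') ^ (m + 1) := by
    have : (k' * k') ^ (m + 1) = k' ^ (2 * m + 1) * k' := by
      rw [← pow_two, ← pow_mul, ← pow_succ]; congr 1
    rw [this, ← hm, mul_comm, pow_mul, pow_orderOf_eq_one, one_pow, one_mul]
  rw [e1, e2, h]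

/-- conjugation by an involution inverts the powers -/
theorem conj_pow_inv {z w : G} (h : z * w * z⁻¹ = w⁻¹) (n : ℕ) : z * w ^ n * z⁻¹ = (w ^ n)⁻¹ := by
  rw [← conj_pow, h, inv_pow]

variable [Finite G]

/-- The product of two conjugates of an isolated involution has odd order. -/
theorem odd_order_mul {z : G} (hz : Cfsg.IsIsolatedInvolution z) (g : G) :
    Odd (orderOf (g * z * g⁻¹ * z)) := by
  set w := g * z * g⁻¹ * z with hw
  have hzz := sq_eq_one hz
  have hzi := inv_eq hz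
  have hinv : z * w * z⁻¹ = w⁻¹ := by
    have : w⁻¹ = z⁻¹ * (g * z⁻¹ * g⁻¹) := by rw [hw]; group
    rw [this, hzi, hw]
    calc z * (g * z * g⁻¹ * z) * z = z * (g * z * g⁻¹) * (z * z) := by group
      _ = z * (g * z * g⁻¹) := by rw [hzz, mul_one]
  have hwz : w * z = g * z * g⁻¹ := by rw [hw, mul_assoc, hzz, mul_one]
  by_contra hne
  rw [Nat.not_odd_iff_even] at hne
  obtain ⟨k, hk⟩ := hne
  have hpos : 0 < orderOf w := orderOf_pos w
  have hk0 : 0 < k := by omega
  have hwk : w ^ k ≠ 1 := by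
    intro h
    have := orderOf_dvd_of_pow_eq_one h
    have := Nat.le_of_dvd hk0 this
    omega
  have hwkk : w ^ k * w ^ k = 1 := by rw [← pow_add, ← hk, pow_orderOf_eq_one]
  have hwki : (w ^ k)⁻¹ = w ^ k := inv_eq_of_mul_eq_one_left hwkk
  -- w ^ k commutes with z
  have hcomm : z * w ^ k = w ^ k * z := by
    have := conj_pow_inv hinv k
    rw [hwki] at this
    calc z * w ^ k = (z * w ^ k * z⁻¹) * z := by group
      _ = w ^ k * z := by rw [this]
  have key : ∃ u : G, u * z * u⁻¹ = w ^ k * z := by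
    rcases Nat.even_or_odd k with ⟨j, hj⟩ | ⟨j, hj⟩
    · refine ⟨w ^ j, ?_⟩
      have h1 := conj_pow_inv hinv j
      have h2 : z * (w ^ j)⁻¹ = w ^ j * z := by
        have h3 : z⁻¹ * (z * w ^ j * z⁻¹) * z = z⁻¹ * (w ^ j)⁻¹ * z := by rw [h1]
        have h4 : w ^ j = z * (w ^ j)⁻¹ * z := by
          rw [hzi] at h3
          calc w ^ j = z * (z * w ^ j * z) * z := by
                rw [show z * (z * w ^ j * z) * z = (z * z) * w ^ j * (z * z) by group, hzz]; group
            _ = z * (w ^ j)⁻¹ * z := h3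
        calc z * (w ^ j)⁻¹ = (z * (w ^ j)⁻¹ * z) * z := by rw [mul_assoc _ z z, hzz, mul_one]
          _ = w ^ j * z := by rw [← h4]
      rw [mul_assoc, h2, ← mul_assoc, ← pow_add, ← hj]
    · refine ⟨w ^ j * g, ?_⟩
      have h1 := conj_pow_inv hinv j
      have h2 : z * (w ^ j)⁻¹ = w ^ j * z := by
        have h3 : z⁻¹ * (z * w ^ j * z⁻¹) * z = z⁻¹ * (w ^ j)⁻¹ * z := by rw [h1]
        have h4 : w ^ j = z * (w ^ j)⁻¹ * z := by
          rw [hzi] at h3
          calc w ^ j = z * (z * w ^ j * z) * z := by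
                rw [show z * (z * w ^ j * z) * z = (z * z) * w ^ j * (z * z) by group, hzz]; group
            _ = z * (w ^ j)⁻¹ * z := h3
        calc z * (w ^ j)⁻¹ = (z * (w ^ j)⁻¹ * z) * z := by rw [mul_assoc _ z z, hzz, mul_one]
          _ = w ^ j * z := by rw [← h4]
      calc w ^ j * g * z * (w ^ j * g)⁻¹ = w ^ j * (g * z * g⁻¹) * (w ^ j)⁻¹ := by group
        _ = w ^ j * (w * z) * (w ^ j)⁻¹ := by rw [hwz]
        _ = w ^ j * w * (z * (w ^ j)⁻¹) := by group
        _ = w ^ j * w * (w ^ j * z) := by rw [h2]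
        _ = w ^ (2 * j + 1) * z := by rw [← pow_succ, ← mul_assoc, ← pow_add]; congr 2; ring
        _ = w ^ k * z := by rw [← hj]
  obtain ⟨u, hu⟩ := key
  have h5 : Commute z (u * z * u⁻¹) := by
    rw [hu]
    show z * (w ^ k * z) = w ^ k * z * z
    rw [← mul_assoc, hcomm]
  have h6 := hz.2 u h5
  rw [hu] at h6
  exact hwk (by simpa using h6)

theorem exists_conj {z : G} (hz : Cfsg.IsIsolatedInvolution z) (g : G) :
    ∃ k ∈ Subgroup.zpowers (g * z * g⁻¹ * z), Odd (orderOf k) ∧ z * k * z⁻¹ = k⁻¹ ∧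
      k * z * k⁻¹ = g * z * g⁻¹ := by
  have hzz := sq_eq_one hz
  have hzi := inv_eq hz
  have hodd := odd_order_mul hz g
  set w := g * z * g⁻¹ * z with hw
  have hinv : z * w * z⁻¹ = w⁻¹ := by
    have : w⁻¹ = z⁻¹ * (g * z⁻¹ * g⁻¹) := by rw [hw]; group
    rw [this, hzi, hw]
    calc z * (g * z * g⁻¹ * z) * z = z * (g * z * g⁻¹) * (z * z) := by group
      _ = z * (g * z * g⁻¹) := by rw [hzz, mul_one]
  obtain ⟨m, hm⟩ := hodd
  refine ⟨w ^ (m + 1), Subgroup.npow_mem_zpowers w (m + 1), ?_, conj_pow_inv hinv _, ?_⟩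
  · have hd : orderOf (w ^ (m + 1)) ∣ orderOf w := orderOf_pow_dvd _
    exact Odd.of_dvd_nat ⟨m, hm⟩ hd
  · have h1 := conj_pow_inv hinv (m + 1)
    have h2 : w ^ (m + 1) * w ^ (m + 1) = w := by
      rw [← pow_add, show m + 1 + (m + 1) = (2 * m + 1) + 1 by ring, ← hm, pow_succ,
        pow_orderOf_eq_one, one_mul]
    have h3 : z * (w ^ (m + 1))⁻¹ = w ^ (m + 1) * z := by
      rw [← h1, hzi]
      calc z * (z * w ^ (m + 1) * z) = (z * z) * w ^ (m + 1) * z := by group
        _ = w ^ (m + 1) * z := by rw [hzz, one_mul]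
    rw [mul_assoc, h3, ← mul_assoc, h2, hw, mul_assoc _ z z, hzz, mul_one]

/-- S1180 -/
theorem conj_in_subgroup {z : G} (hz : Cfsg.IsIsolatedInvolution z) (H : Subgroup G) (hzH : z ∈ H)
    (g : G) (hg : g * z * g⁻¹ ∈ H) : ∃ h ∈ H, h * z * h⁻¹ = g * z * g⁻¹ := by
  obtain ⟨k, hk, -, -, hk2⟩ := exists_conj hz g
  refine ⟨k, ?_, hk2⟩
  have : Subgroup.zpowers (g * z * g⁻¹ * z) ≤ H := by
    rw [Subgroup.zpowers_le]
    exact mul_mem hg hzH
  exact this hk

/-- S1184 -/
theorem not_commute_of_ne {z : G} (hz : Cfsg.IsIsolatedInvolution z) (g h : G)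
    (hne : g * z * g⁻¹ ≠ h * z * h⁻¹) : ¬ Commute (g * z * g⁻¹ * (h * z * h⁻¹)) z := by
  intro hc
  set s := g * z * g⁻¹ with hs
  set t := h * z * h⁻¹ with ht
  have hsiso : Cfsg.IsIsolatedInvolution s := conj hz g
  have htiso : Cfsg.IsIsolatedInvolution t := conj hz h
  have hss := sq_eq_one hsiso
  have htt := sq_eq_one htiso
  have hodd : Odd (orderOf (s * t)) := by
    have h1 := odd_order_mul htiso (g * h⁻¹)
    have h2 : g * h⁻¹ * t * (g * h⁻¹)⁻¹ = s := by rw [ht, hs]; group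
    rw [h2] at h1
    exact h1
  set u := s * t with hu
  -- the subgroup C(u) ⟨s⟩ is the set of elements that centralize or invert u
  let H : Subgroup G := Subgroup.normalizer (Subgroup.zpowers u : Set G)
  have hsinv : s * u * s⁻¹ = u⁻¹ := by
    have h1 : u⁻¹ = t⁻¹ * s⁻¹ := by rw [hu]; group
    rw [h1, inv_eq htiso, inv_eq hsiso, hu]
    calc s * (s * t) * s = (s * s) * t * s := by group
      _ = t * s := by rw [hss, one_mul]
  have hsH : s ∈ H := by
    rw [Subgroup.mem_normalizer_iff]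
    intro x
    have : MulAut.conj s '' (Subgroup.zpowers u : Set G) = Subgroup.zpowers u := by
      have h1 : (Subgroup.zpowers u).map (MulAut.conj s).toMonoidHom = Subgroup.zpowers u := by
        rw [MonoidHom.map_zpowers]
        have : (MulAut.conj s).toMonoidHom u = u⁻¹ := hsinv
        rw [this, Subgroup.zpowers_inv]
      exact congrArg (fun K : Subgroup G => (K : Set G)) h1
    constructor
    · intro hx
      have : (MulAut.conj s) x ∈ MulAut.conj s '' (Subgroup.zpowers u : Set G) := ⟨x, hx, rfl⟩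
      rw [‹MulAut.conj s '' (Subgroup.zpowers u : Set G) = Subgroup.zpowers u›] at this
      exact this
    · intro hx
      have h2 : (s * x * s⁻¹) ∈ MulAut.conj s '' (Subgroup.zpowers u : Set G) := by
        rw [this]; exact hx
      obtain ⟨y, hy, hy2⟩ := h2
      have : y = x := by
        have h3 : (MulAut.conj s) y = (MulAut.conj s) x := hy2
        exact (MulAut.conj s).injective h3
      rw [← this]; exact hy
  have hzH : z ∈ H := by
    rw [Subgroup.mem_normalizer_iff]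
    intro x
    have hzu : ∀ n : ℤ, z * u ^ n * z⁻¹ = u ^ n := by
      intro n
      have : Commute (u ^ n) z := Commute.zpow_left hc n
      rw [← this.eq]; group
    constructor
    · rintro ⟨n, rfl⟩
      simp only []
      rw [hzu]; exact ⟨n, rfl⟩
    · rintro ⟨n, hn⟩
      refine ⟨n, ?_⟩
      simp only [] at hn ⊢
      have h3 : z⁻¹ * u ^ n * z = x := by rw [hn]; group
      have : Commute (u ^ n) z := Commute.zpow_left hc n
      rw [← h3, mul_assoc, this.eq]; group
  obtain ⟨k, hk, hkz⟩ := conj_in_subgroup hz H hzH g (by rw [← hs]; exact hsH)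
  -- the centralizer of u is normal in H, so s = z ^ k centralizes u
  have hcs : s * u = u * s := by
    have h1 : k⁻¹ * u * k ∈ Subgroup.zpowers u := by
      have := (Subgroup.mem_normalizer_iff.1 (inv_mem hk) u).1 (Subgroup.mem_zpowers u)
      simpa using this
    obtain ⟨n, hn⟩ := h1
    simp only [] at hn
    have h2 : Commute (u ^ n) z := Commute.zpow_left hc n
    rw [hn] at h2
    have h3 : (k * z * k⁻¹) * u = u * (k * z * k⁻¹) := by
      calc (k * z * k⁻¹) * u = k * (z * (k⁻¹ * u * k)) * k⁻¹ := by group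
        _ = k * ((k⁻¹ * u * k) * z) * k⁻¹ := by rw [h2.eq]
        _ = u * (k * z * k⁻¹) := by group
    rw [hkz] at h3
    exact h3
  have huinv : u = u⁻¹ := by
    rw [← hsinv, hcs]; group
  have huu : u * u = 1 := by
    nth_rewrite 1 [huinv]; group
  have hu1 : u = 1 := by
    have h1 : orderOf u ∣ 2 := orderOf_dvd_of_pow_eq_one (by rw [pow_two, huu])
    have h2 : orderOf u = 1 := by
      rcases (Nat.dvd_prime Nat.prime_two).1 h1 with h | h
      · exact h
      · rw [h] at hodd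
        exact absurd hodd (by decide)
    exact orderOf_eq_one_iff.1 h2
  apply hne
  calc s = (s * t) * t⁻¹ := by group
    _ = t⁻¹ := by rw [← hu, hu1, one_mul]
    _ = t := inv_eq htiso

/-- S1185 -/
theorem existsUnique_odd_inverted {z : G} (hz : Cfsg.IsIsolatedInvolution z) (g : G) :
    ∃! k : G, (Odd (orderOf k) ∧ z * k * z⁻¹ = k⁻¹) ∧ g⁻¹ * k ∈ Subgroup.centralizer ({z} : Set G) := by
  obtain ⟨k, -, hk1, hk2, hk3⟩ := exists_conj hz g
  have hzi := inv_eq hz
  have hzz := sq_eq_one hz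
  refine ⟨k, ⟨⟨hk1, hk2⟩, ?_⟩, ?_⟩
  · rw [Subgroup.mem_centralizer_singleton_iff]
    calc g⁻¹ * k * z = g⁻¹ * (k * z * k⁻¹) * k := by group
      _ = z * (g⁻¹ * k) := by rw [hk3]; group
  · rintro k' ⟨⟨hk1', hk2'⟩, hk3'⟩
    rw [Subgroup.mem_centralizer_singleton_iff] at hk3'
    have h4 : k' * z * k'⁻¹ = g * z * g⁻¹ := by
      calc k' * z * k'⁻¹ = g * ((g⁻¹ * k') * z) * k'⁻¹ := by group
        _ = g * (z * (g⁻¹ * k')) * k'⁻¹ := by rw [hk3']
        _ = g * z * g⁻¹ := by group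
    have sq : ∀ x : G, z * x * z⁻¹ = x⁻¹ → x * z * x⁻¹ = x * x * z := by
      intro x hx
      rw [← hx, hzi]
      calc x * z * (z * x * z) = x * (z * z) * x * z := by group
        _ = x * x * z := by rw [hzz, mul_one]
    have h5 : k' * k' * z = k * k * z := by rw [← sq k' hk2', ← sq k hk2, h4, hk3]
    exact eq_of_sq_eq hk1' hk1 (mul_right_cancel h5)

/-- S1182 -/
theorem control_in_invariant {z : G} (hz : Cfsg.IsIsolatedInvolution z) (H : Subgroup G)
    (hzH : z ∈ Subgroup.normalizer (H : Set G)) (x y : G) (hxz : Commute x z) (hyz : Commute y z)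
    (h : G) (hh : h ∈ H) (hconj : h * x * h⁻¹ = y) : ∃ c ∈ H, Commute c z ∧ c * x * c⁻¹ = y := by
  obtain ⟨k, hk, -, -, hk3⟩ := exists_conj hz h
  have hzi := inv_eq hz
  have hw : h * z * h⁻¹ * z ∈ H := by
    have h1 : z * h⁻¹ * z⁻¹ ∈ H := (Subgroup.mem_normalizer_iff.1 hzH _).1 (inv_mem hh)
    have h2 := mul_mem hh h1
    rw [hzi] at h2
    convert h2 using 1
    group
  have hkH : k ∈ H := by
    have : Subgroup.zpowers (h * z * h⁻¹ * z) ≤ H := by rwa [Subgroup.zpowers_le]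
    exact this hk
  have hky : Commute k y := by
    have h1 : Commute (h * z * h⁻¹ * z) y := by
      apply Commute.mul_left
      · rw [← hconj]
        have := (hxz.symm).map (MulAut.conj h)
        simpa using this
      · exact hyz.symm
    obtain ⟨n, rfl⟩ := hk
    exact Commute.zpow_left h1 n
  refine ⟨k⁻¹ * h, mul_mem (inv_mem hkH) hh, ?_, ?_⟩
  · show k⁻¹ * h * z = z * (k⁻¹ * h)
    calc k⁻¹ * h * z = k⁻¹ * (h * z * h⁻¹) * h := by group
      _ = k⁻¹ * (k * z * k⁻¹) * h := by rw [hk3]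
      _ = z * (k⁻¹ * h) := by group
  · calc k⁻¹ * h * x * (k⁻¹ * h)⁻¹ = k⁻¹ * (h * x * h⁻¹) * k := by group
      _ = k⁻¹ * (y * k) := by rw [hconj]; group
      _ = k⁻¹ * (k * y) := by rw [hky.eq]
      _ = y := by group

/-- S1181 -/
theorem quotient {z : G} (hz : Cfsg.IsIsolatedInvolution z) (N : Subgroup G) [N.Normal]
    (hzN : z ∉ N) : Subgroup.centralizer ({(QuotientGroup.mk z : G ⧸ N)} : Set (G ⧸ N)) =
      (Subgroup.centralizer ({z} : Set G)).map (QuotientGroup.mk' N) ∧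
      Cfsg.IsIsolatedInvolution (QuotientGroup.mk z : G ⧸ N) := by
  have hzz := sq_eq_one hz
  have hzi := inv_eq hz
  have hord : orderOf (QuotientGroup.mk z : G ⧸ N) = 2 := by
    apply orderOf_eq_prime
    · rw [← QuotientGroup.mk_pow, pow_two, hzz]; rfl
    · rw [Ne, QuotientGroup.eq_one_iff]; exact hzN
  constructor
  · ext x
    obtain ⟨g, rfl⟩ := QuotientGroup.mk_surjective x
    rw [Subgroup.mem_centralizer_singleton_iff]
    constructor
    · intro hx
      have hw : g * z * g⁻¹ * z ∈ N := by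
        rw [← QuotientGroup.eq_one_iff]
        have h1 : (QuotientGroup.mk (g * z * g⁻¹ * z) : G ⧸ N) =
            (QuotientGroup.mk g * QuotientGroup.mk z) * (QuotientGroup.mk g)⁻¹ * QuotientGroup.mk z := by
          simp [QuotientGroup.mk_mul, QuotientGroup.mk_inv]
        rw [h1, hx]
        have h2 : (QuotientGroup.mk z : G ⧸ N) * QuotientGroup.mk z = 1 := by
          rw [← QuotientGroup.mk_mul, hzz]; rfl
        calc (QuotientGroup.mk z * QuotientGroup.mk g) * (QuotientGroup.mk g)⁻¹ * QuotientGroup.mk z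
            = (QuotientGroup.mk z : G ⧸ N) * QuotientGroup.mk z := by group
          _ = 1 := h2
      obtain ⟨k, hk, -, -, hk3⟩ := exists_conj hz g
      have hkN : k ∈ N := by
        have : Subgroup.zpowers (g * z * g⁻¹ * z) ≤ N := by rwa [Subgroup.zpowers_le]
        exact this hk
      refine ⟨k⁻¹ * g, ?_, ?_⟩
      · show k⁻¹ * g ∈ Subgroup.centralizer ({z} : Set G)
        rw [Subgroup.mem_centralizer_singleton_iff]
        calc k⁻¹ * g * z = k⁻¹ * (g * z * g⁻¹) * g := by group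
          _ = k⁻¹ * (k * z * k⁻¹) * g := by rw [hk3]
          _ = z * (k⁻¹ * g) := by group
      · show (QuotientGroup.mk (k⁻¹ * g) : G ⧸ N) = QuotientGroup.mk g
        rw [QuotientGroup.mk_mul]
        have : (QuotientGroup.mk k⁻¹ : G ⧸ N) = 1 := by
          rw [QuotientGroup.eq_one_iff]; exact inv_mem hkN
        rw [this, one_mul]
    · rintro ⟨c, hc, hc2⟩
      have hc' : c * z = z * c := by
        have : c ∈ Subgroup.centralizer ({z} : Set G) := hc
        rwa [Subgroup.mem_centralizer_singleton_iff] at this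
      have hc3 : (QuotientGroup.mk c : G ⧸ N) = QuotientGroup.mk g := hc2
      rw [← hc3, ← QuotientGroup.mk_mul, ← QuotientGroup.mk_mul, hc']
  · refine ⟨hord, ?_⟩
    intro x hx
    obtain ⟨g, rfl⟩ := QuotientGroup.mk_surjective x
    have e : (QuotientGroup.mk g : G ⧸ N) * QuotientGroup.mk z * (QuotientGroup.mk g)⁻¹ =
        QuotientGroup.mk (g * z * g⁻¹) := by
      simp [QuotientGroup.mk_mul, QuotientGroup.mk_inv]
    rw [e] at hx ⊢
    have hodd := odd_order_mul hz g
    have h1 : orderOf (QuotientGroup.mk (g * z * g⁻¹ * z) : G ⧸ N) ∣ orderOf (g * z * g⁻¹ * z) :=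
      orderOf_map_dvd (QuotientGroup.mk' N) _
    have h2 : Odd (orderOf (QuotientGroup.mk (g * z * g⁻¹ * z) : G ⧸ N)) := hodd.of_dvd_nat h1
    have h3 : (QuotientGroup.mk (g * z * g⁻¹ * z) : G ⧸ N) ^ 2 = 1 := by
      rw [QuotientGroup.mk_mul, Commute.mul_pow hx.symm, ← QuotientGroup.mk_pow, ← QuotientGroup.mk_pow,
        conj_pow, pow_two, hzz]
      simp
    have h4 : orderOf (QuotientGroup.mk (g * z * g⁻¹ * z) : G ⧸ N) = 1 := by
      rcases (Nat.dvd_prime Nat.prime_two).1 (orderOf_dvd_of_pow_eq_one h3) with h | h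
      · exact h
      · rw [h] at h2
        exact absurd h2 (by decide)
    rw [orderOf_eq_one_iff, QuotientGroup.mk_mul] at h4
    have h5 : (QuotientGroup.mk z : G ⧸ N) * QuotientGroup.mk z = 1 := by
      rw [← QuotientGroup.mk_mul, hzz]; rfl
    exact mul_right_cancel (h4.trans h5.symm)

end Cfsg.Agent.Lib.IsolatedH20

namespace Cfsg.Agent.Lib.IsolatedH20

variable {G : Type*} [Group G] [Finite G]

/-- for `k, k'` odd order and inverted by `z`, `k z k⁻¹ = k' z k'⁻¹` implies `k = k'`. -/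
theorem inverted_unique {z : G} (hz : Cfsg.IsIsolatedInvolution z) {k k' : G}
    (h1 : Odd (orderOf k)) (h2 : z * k * z⁻¹ = k⁻¹) (h1' : Odd (orderOf k')) (h2' : z * k' * z⁻¹ = k'⁻¹)
    (h : k * z * k⁻¹ = k' * z * k'⁻¹) : k = k' := by
  obtain ⟨u, -, hu⟩ := existsUnique_odd_inverted hz k
  have e1 : k = u := hu k ⟨⟨h1, h2⟩, by simp⟩
  have e2 : k' = u := hu k' ⟨⟨h1', h2'⟩, by
    rw [Subgroup.mem_centralizer_singleton_iff]
    calc k⁻¹ * k' * z = k⁻¹ * (k' * z * k'⁻¹) * k' := by group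
      _ = k⁻¹ * (k * z * k⁻¹) * k' := by rw [h]
      _ = z * (k⁻¹ * k') := by group⟩
  rw [e1, e2]

/-- The number of odd order elements inverted by `z` commuting with `e` equals the number of
conjugates of `z` commuting with `e`, for `e` commuting with `z`. -/
theorem card_inverted_commute {z : G} (hz : Cfsg.IsIsolatedInvolution z) (e : G) (he : Commute e z) :
    Nat.card {k : G // Odd (orderOf k) ∧ z * k * z⁻¹ = k⁻¹ ∧ Commute k e} =
      Nat.card {y : G // (∃ g : G, g * z * g⁻¹ = y) ∧ Commute y e} := by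
  refine Nat.card_congr (Equiv.ofBijective
    (fun k => ⟨k.1 * z * k.1⁻¹, ⟨k.1, rfl⟩, ?_⟩) ⟨?_, ?_⟩)
  · exact (k.2.2.2.mul_left he.symm).mul_left k.2.2.2.inv_left
  · rintro ⟨k, h1, h2, h3⟩ ⟨k', h1', h2', h3'⟩ h
    have h4 : k * z * k⁻¹ = k' * z * k'⁻¹ := congrArg Subtype.val h
    exact Subtype.ext (inverted_unique hz h1 h2 h1' h2' h4)
  · rintro ⟨y, ⟨g, hg⟩, hy⟩
    obtain ⟨k, hk, hk1, hk2, hk3⟩ := exists_conj hz g
    have hke : Commute k e := by
      rw [hg] at hk
      have h1 : Commute (y * z) e := hy.mul_left he.symm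
      obtain ⟨n, rfl⟩ := hk
      exact Commute.zpow_left h1 n
    refine ⟨⟨k, hk1, hk2, hke⟩, ?_⟩
    apply Subtype.ext
    show k * z * k⁻¹ = y
    rw [hk3, hg]

/-- The midpoint: for conjugates `y, y'` of an isolated involution there is exactly one conjugate
`m` with `m y m = y'`. -/
theorem existsUnique_midpoint {z : G} (hz : Cfsg.IsIsolatedInvolution z) (y y' : G)
    (hy : ∃ g : G, g * z * g⁻¹ = y) (hy' : ∃ g : G, g * z * g⁻¹ = y') :
    ∃! m : G, (∃ g : G, g * z * g⁻¹ = m) ∧ m * y * m⁻¹ = y' := by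
  obtain ⟨g, rfl⟩ := hy
  obtain ⟨g', rfl⟩ := hy'
  have hyiso := conj hz g
  set y := g * z * g⁻¹ with hydef
  have hgg : (g' * g⁻¹) * y * (g' * g⁻¹)⁻¹ = g' * z * g'⁻¹ := by rw [hydef]; group
  obtain ⟨k, -, hk1, hk2, hk3⟩ := exists_conj hyiso (g' * g⁻¹)
  rw [hgg] at hk3
  -- k = l * l with l a power of k
  obtain ⟨n, hn⟩ := hk1
  set l := k ^ (n + 1) with hl
  have hll : l * l = k := by
    rw [hl, ← pow_add, show n + 1 + (n + 1) = (2 * n + 1) + 1 by ring, ← hn, pow_succ,
      pow_orderOf_eq_one, one_mul]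
  have hlinv : y * l * y⁻¹ = l⁻¹ := conj_pow_inv hk2 _
  have hyy := sq_eq_one hyiso
  have hyi := inv_eq hyiso
  have hmid : l * y * l⁻¹ = k * y := by
    rw [← hlinv, hyi, ← hll]
    calc l * y * (y * l * y) = l * (y * y) * l * y := by group
      _ = l * l * y := by rw [hyy, mul_one]
  refine ⟨l * y * l⁻¹, ⟨⟨l * g, by rw [hydef]; group⟩, ?_⟩, ?_⟩
  · rw [hmid, ← hk3]
    group
  · rintro m ⟨⟨h, hh⟩, hm⟩
    by_contra hne
    have hm' : (l * y * l⁻¹) * y * (l * y * l⁻¹)⁻¹ = g' * z * g'⁻¹ := by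
      rw [hmid, ← hk3]; group
    -- the product m⁻¹ * (l y l⁻¹) commutes with y
    have hmiso : Cfsg.IsIsolatedInvolution m := by rw [← hh]; exact conj hz h
    have hmi := inv_eq hmiso
    have h1 : (h * g⁻¹) * y * (h * g⁻¹)⁻¹ = m := by rw [hydef, ← hh]; group
    have h2 := not_commute_of_ne hyiso (h * g⁻¹) l (by rw [h1]; exact hne)
    apply h2
    rw [h1]
    show m * (l * y * l⁻¹) * y = y * (m * (l * y * l⁻¹))
    have h3 : m * (l * y * l⁻¹) * y * (l * y * l⁻¹)⁻¹ * m⁻¹ = y := by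
      calc m * (l * y * l⁻¹) * y * (l * y * l⁻¹)⁻¹ * m⁻¹
          = m * ((l * y * l⁻¹) * y * (l * y * l⁻¹)⁻¹) * m⁻¹ := by group
        _ = m * (m * y * m⁻¹) * m⁻¹ := by rw [hm', hm]
        _ = (m * m) * y * (m * m)⁻¹ := by group
        _ = y := by rw [sq_eq_one hmiso]; group
    calc m * (l * y * l⁻¹) * y
        = (m * (l * y * l⁻¹) * y * (l * y * l⁻¹)⁻¹ * m⁻¹) * (m * (l * y * l⁻¹)) := by group
      _ = y * (m * (l * y * l⁻¹)) := by rw [h3]

/-- `|z^G| = |z^G ∩ C(e)| * |z^G ∩ C(e z)|` for an element `e` commuting with `z`, `e * e = 1`. -/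
theorem card_class_eq_mul {z : G} (hz : Cfsg.IsIsolatedInvolution z) (e : G) (he : Commute e z)
    (hee : e * e = 1) :
    Nat.card {y : G // ∃ g : G, g * z * g⁻¹ = y} =
      Nat.card {y : G // (∃ g : G, g * z * g⁻¹ = y) ∧ Commute y e} *
      Nat.card {y : G // (∃ g : G, g * z * g⁻¹ = y) ∧ Commute y (e * z)} := by
  rw [← Nat.card_prod]
  have hei : e⁻¹ = e := inv_eq_of_mul_eq_one_left hee
  -- for a conjugate m of z commuting with e, the element k(m) 
  have hk : ∀ m : {y : G // (∃ g : G, g * z * g⁻¹ = y) ∧ Commute y e},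
      ∃ k : G, Commute k e ∧ k * z * k⁻¹ = m.1 := by
    rintro ⟨y, ⟨g, hg⟩, hy⟩
    obtain ⟨k, hk, -, -, hk3⟩ := exists_conj hz g
    have hke : Commute k e := by
      rw [hg] at hk
      have h1 : Commute (y * z) e := hy.mul_left he.symm
      obtain ⟨n, rfl⟩ := hk
      exact Commute.zpow_left h1 n
    exact ⟨k, hke, by rw [hk3, hg]⟩
  choose k hke hkm using hk
  refine (Nat.card_congr (Equiv.ofBijective
    (fun p : {y : G // (∃ g : G, g * z * g⁻¹ = y) ∧ Commute y e} ×
        {y : G // (∃ g : G, g * z * g⁻¹ = y) ∧ Commute y (e * z)} =>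
      (⟨k p.1 * p.2.1 * (k p.1)⁻¹, ?_⟩ : {y : G // ∃ g : G, g * z * g⁻¹ = y})) ⟨?_, ?_⟩)).symm
  · obtain ⟨g, hg⟩ := p.2.2.1
    exact ⟨k p.1 * g, by rw [← hg]; group⟩
  · -- injective
    have mid : ∀ p : {y : G // (∃ g : G, g * z * g⁻¹ = y) ∧ Commute y e} ×
        {y : G // (∃ g : G, g * z * g⁻¹ = y) ∧ Commute y (e * z)},
        p.1.1 * (k p.1 * p.2.1 * (k p.1)⁻¹) * p.1.1⁻¹ = e * (k p.1 * p.2.1 * (k p.1)⁻¹) * e⁻¹ := by
      intro p
      have h1 : Commute (k p.1 * p.2.1 * (k p.1)⁻¹) (e * p.1.1) := by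
        have h2 := (p.2.2.2).map (MulAut.conj (k p.1))
        simp only [MulAut.conj_apply] at h2
        have h3 : k p.1 * (e * z) * (k p.1)⁻¹ = e * p.1.1 := by
          calc k p.1 * (e * z) * (k p.1)⁻¹ = (k p.1 * e) * z * (k p.1)⁻¹ := by group
            _ = (e * k p.1) * z * (k p.1)⁻¹ := by rw [(hke p.1).eq]
            _ = e * (k p.1 * z * (k p.1)⁻¹) := by group
            _ = e * p.1.1 := by rw [hkm]
        rw [h3] at h2
        exact h2
      have h4 := h1.eq
      set y := k p.1 * p.2.1 * (k p.1)⁻¹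
      set m := p.1.1
      have h5 : m * y * m⁻¹ = e * y * e⁻¹ := by
        have h6 : y * (e * m) = (e * m) * y := h4
        calc m * y * m⁻¹ = e⁻¹ * ((e * m) * y) * m⁻¹ := by group
          _ = e⁻¹ * (y * (e * m)) * m⁻¹ := by rw [h6]
          _ = e⁻¹ * y * e := by group
          _ = e * y * e⁻¹ := by rw [hei]
      exact h5
    intro p p' hpp
    have hpp' : k p.1 * p.2.1 * (k p.1)⁻¹ = k p'.1 * p'.2.1 * (k p'.1)⁻¹ := congrArg Subtype.val hpp
    have hy : ∃ g : G, g * z * g⁻¹ = k p.1 * p.2.1 * (k p.1)⁻¹ := by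
      obtain ⟨g, hg⟩ := p.2.2.1
      exact ⟨k p.1 * g, by rw [← hg]; group⟩
    have hy' : ∃ g : G, g * z * g⁻¹ = e * (k p.1 * p.2.1 * (k p.1)⁻¹) * e⁻¹ := by
      obtain ⟨g, hg⟩ := hy
      exact ⟨e * g, by rw [← hg]; group⟩
    obtain ⟨m, -, hmu⟩ := existsUnique_midpoint hz _ _ hy hy'
    have e1 : p.1.1 = m := hmu p.1.1 ⟨p.1.2.1, mid p⟩
    have e2 : p'.1.1 = m := hmu p'.1.1 ⟨p'.1.2.1, by rw [hpp']; exact mid p'⟩
    have e3 : p.1 = p'.1 := Subtype.ext (e1.trans e2.symm)
    refine Prod.ext e3 (Subtype.ext ?_)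
    rw [e3] at hpp'
    have := mul_left_cancel (mul_right_cancel hpp')
    exact this
  · rintro ⟨y, g, hg⟩
    have hy' : ∃ h : G, h * z * h⁻¹ = e * y * e⁻¹ := ⟨e * g, by rw [← hg]; group⟩
    obtain ⟨m, ⟨hm1, hm2⟩, hmu⟩ := existsUnique_midpoint hz y (e * y * e⁻¹) ⟨g, hg⟩ hy'
    have hmiso : Cfsg.IsIsolatedInvolution m := by
      obtain ⟨h, hh⟩ := hm1
      rw [← hh]; exact conj hz h
    have hmi := inv_eq hmiso
    have hmm := sq_eq_one hmiso
    -- m commutes with e
    have hme : e * m * e⁻¹ = m := by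
      apply hmu
      refine ⟨?_, ?_⟩
      · obtain ⟨h, hh⟩ := hm1
        exact ⟨e * h, by rw [← hh]; group⟩
      · have h1 : m⁻¹ * (e * y * e⁻¹) * m = y := by rw [← hm2]; group
        rw [hei, hmi] at h1
        have h2 : (e * m * e⁻¹) * y * (e * m * e⁻¹)⁻¹ = e * (m * (e⁻¹ * y * e) * m⁻¹) * e⁻¹ := by group
        rw [h2, hei, hmi, h1]
    have hmc : Commute m e := by
      show m * e = e * m
      calc m * e = (e * m * e⁻¹) * e := by rw [hme]
        _ = e * m := by group
    let M : {y : G // (∃ g : G, g * z * g⁻¹ = y) ∧ Commute y e} := ⟨m, hm1, hmc⟩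
    have hkM : k M * z * (k M)⁻¹ = m := hkm M
    have hkeM := hke M
    refine ⟨(M, ⟨(k M)⁻¹ * y * k M, ⟨(k M)⁻¹ * g, by rw [← hg]; group⟩, ?_⟩), ?_⟩
    · -- commutes with e * z
      have h1 : Commute y (e * m) := by
        show y * (e * m) = e * m * y
        have h3 : e⁻¹ * (m * y * m⁻¹) * e = y := by rw [hm2]; group
        calc y * (e * m) = (e⁻¹ * (m * y * m⁻¹) * e) * (e * m) := by rw [h3]
          _ = e⁻¹ * m * y * m⁻¹ * (e * e) * m := by group
          _ = e * m * y := by rw [hee, hei]; group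
      have h2 := h1.map (MulAut.conj (k M)⁻¹)
      simp only [MulAut.conj_apply, inv_inv] at h2
      have h4 : (k M)⁻¹ * (e * m) * k M = e * z := by
        rw [← hkM]
        calc (k M)⁻¹ * (e * (k M * z * (k M)⁻¹)) * k M = (k M)⁻¹ * (e * k M) * z := by group
          _ = (k M)⁻¹ * (k M * e) * z := by rw [hkeM.eq]
          _ = e * z := by group
      rw [h4] at h2
      exact h2
    · apply Subtype.ext
      show k M * ((k M)⁻¹ * y * k M) * (k M)⁻¹ = y
      group

theorem card_eq_card_centralizer_mul_class (z : G) :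
    Nat.card G = Nat.card (Subgroup.centralizer ({z} : Set G)) *
      Nat.card {y : G // ∃ g : G, g * z * g⁻¹ = y} := by
  have h1 : Nat.card {y : G // ∃ g : G, g * z * g⁻¹ = y} =
      (Subgroup.centralizer ({z} : Set G)).index := by
    symm
    rw [Subgroup.index]
    have key : ∀ a b : G, a⁻¹ * b ∈ Subgroup.centralizer ({z} : Set G) ↔
        a * z * a⁻¹ = b * z * b⁻¹ := by
      intro a b
      rw [Subgroup.mem_centralizer_singleton_iff]
      constructor
      · intro h
        calc a * z * a⁻¹ = a * (z * (a⁻¹ * b)) * b⁻¹ := by group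
          _ = a * ((a⁻¹ * b) * z) * b⁻¹ := by rw [h]
          _ = b * z * b⁻¹ := by group
      · intro h
        calc a⁻¹ * b * z = a⁻¹ * (b * z * b⁻¹) * b := by group
          _ = a⁻¹ * (a * z * a⁻¹) * b := by rw [h]
          _ = z * (a⁻¹ * b) := by group
    refine Nat.card_congr (Equiv.ofBijective
      (Quotient.lift (fun g : G => (⟨g * z * g⁻¹, ⟨g, rfl⟩⟩ : {y : G // ∃ g : G, g * z * g⁻¹ = y})) ?_)
      ⟨?_, ?_⟩)
    · intro a b hab
      apply Subtype.ext
      exact (key a b).1 (QuotientGroup.leftRel_apply.1 hab)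
    · intro a b
      refine Quotient.inductionOn₂ a b ?_
      intro a b hab
      apply Quotient.sound
      show QuotientGroup.leftRel _ a b
      rw [QuotientGroup.leftRel_apply]
      exact (key a b).2 (congrArg Subtype.val hab)
    · rintro ⟨y, g, hg⟩
      exact ⟨Quotient.mk _ g, Subtype.ext hg⟩
  rw [h1, mul_comm]
  exact ((Subgroup.centralizer ({z} : Set G)).index_mul_card).symm

/-- S1186 -/
theorem card_formula {z : G} (hz : Cfsg.IsIsolatedInvolution z) (s : G) (hs : orderOf s = 2)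
    (hsz : Commute s z) : Nat.card G = Nat.card (Subgroup.centralizer ({z} : Set G)) *
      Nat.card {k : G // Odd (orderOf k) ∧ z * k * z⁻¹ = k⁻¹ ∧ Commute k (s * z)} *
      Nat.card {k : G // Odd (orderOf k) ∧ z * k * z⁻¹ = k⁻¹ ∧ Commute k s} := by
  have hss : s * s = 1 := by
    have := pow_orderOf_eq_one s
    rwa [hs, pow_two] at this
  have hzz := sq_eq_one hz
  have hszc : Commute (s * z) z := hsz.mul_left (Commute.refl z)
  have hsz2 : (s * z) * (s * z) = 1 := by
    calc (s * z) * (s * z) = s * (z * s) * z := by group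
      _ = s * (s * z) * z := by rw [hsz.eq]
      _ = (s * s) * (z * z) := by group
      _ = 1 := by rw [hss, hzz, one_mul]
  rw [card_inverted_commute hz (s * z) hszc, card_inverted_commute hz s hsz, mul_assoc]
  have h := card_class_eq_mul hz (s * z) hszc hsz2
  rw [show s * z * z = s by rw [mul_assoc, hzz, mul_one]] at h
  rw [← h]
  exact card_eq_card_centralizer_mul_class z

end Cfsg.Agent.Lib.IsolatedH20
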