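import Cfsg.Agent.Lib.ZStar
import Cfsg.Agent.Lib.InvLocal
import Cfsg.Agent.Lib.Isolated
import Cfsg.Agent.Lib.IsolatedH20
import Cfsg.Agent.Lib.Cores
import Cfsg.Agent.Lib.PNilp
import Cfsg.Agent.Lib.CoprimeAction
import Cfsg.Agent.S0201

set_option autoImplicit false
set_option linter.unusedSectionVars false
open Cfsg

/-!
# Isolated involutions: consequences of the Z*-theorem (helper20)
-/

namespace Cfsg.Agent.Lib.IsolatedZ

variable {G : Type*} [Group G] [Finite G]

theorem zstar_comm {z : G} (hz : IsIsolatedInvolution z) (g : G) : z * g * z⁻¹ * g⁻¹ ∈ oddCore G := by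
  have : Fact (Nat.Prime 2) := ⟨Nat.prime_two⟩
  have hp : IsPGroup 2 ↥(Subgroup.zpowers z) := by
    apply IsPGroup.of_card (n := 1)
    rw [Nat.card_zpowers, hz.1, pow_one]
  obtain ⟨P, hP⟩ := hp.exists_le_sylow
  have hzP : z ∈ P := hP (Subgroup.mem_zpowers z)
  have hiso : IsIsolated z := fun g hg => hz.2 g hg
  have h0 := Lib.InvLocal.odd_of_isolated P z hz.1 (fun g hg =>
    Lib.Isolated.conj_pow_eq hiso ⟨1, by rw [hz.1, pow_one]⟩ P.isPGroup' hzP
      (Subgroup.mem_zpowers z) hg)
  have h1 := Lib.ZStar.inZStar_of_oddIso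
    (fun G _ _ S n e hO => Cfsg.Agent.S0201.result S n e hO) hz.1 h0
  have h2 := (pPrimeCore 2 G).inv_mem (h1 g)
  have e : (g * z * g⁻¹ * z⁻¹)⁻¹ = z * g * z⁻¹ * g⁻¹ := by group
  rwa [e] at h2

theorem odd_card_oddCore : Odd (Nat.card (oddCore G)) :=
  Nat.coprime_two_right.1 (Lib.Cores.coprime_card_pPrimeCore 2 G)

/-- `G = O(G) C_G(z)` -/
theorem exists_mul {z : G} (hz : IsIsolatedInvolution z) (g : G) :
    ∃ n ∈ oddCore G, ∃ c ∈ Subgroup.centralizer ({z} : Set G), g = n * c := by
  obtain ⟨k, ⟨⟨hk, hkz⟩, hkc⟩, -⟩ := Lib.IsolatedH20.existsUnique_odd_inverted hz g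
  refine ⟨k, ?_, k⁻¹ * g, ?_, by group⟩
  · have h1 := zstar_comm hz k
    rw [hkz, ← mul_inv_rev] at h1
    have h2 : k * k ∈ oddCore G := by simpa using (oddCore G).inv_mem h1
    obtain ⟨a, ha⟩ := hk
    have h3 : k = (k * k) ^ (a + 1) := by
      have : k ^ (2 * a + 1) = 1 := by rw [← ha]; exact pow_orderOf_eq_one k
      calc k = k ^ (2 * a + 1) * k := by rw [this, one_mul]
        _ = (k * k) ^ (a + 1) := by rw [← pow_two, ← pow_mul, ← pow_succ]; congr 1
    rw [h3]
    exact Subgroup.pow_mem _ h2 _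
  · have := Subgroup.inv_mem _ hkc
    simpa using this

theorem isIsolated_subgroup {z : G} (hz : IsIsolatedInvolution z) (H : Subgroup G) (hzH : z ∈ H) :
    IsIsolatedInvolution (⟨z, hzH⟩ : H) := by
  refine ⟨by rw [Subgroup.orderOf_mk]; exact hz.1, fun g hg => ?_⟩
  apply Subtype.ext
  apply hz.2
  exact congrArg Subtype.val hg

/-- **S1183** -/
theorem pResidual_iff {z : G} (hz : IsIsolatedInvolution z) :
    pResidual 2 G = ⊤ ↔ pResidual 2 ↥(Subgroup.centralizer ({z} : Set G)) = ⊤ := by
  have : Fact (Nat.Prime 2) := ⟨Nat.prime_two⟩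
  constructor
  · intro h
    set C := Subgroup.centralizer ({z} : Set G) with hC
    have : (oddCore G).Normal := pPrimeCore_normal 2 G
    have := Lib.PNilp.pResidual_characteristic (G := C) 2
    -- the quotient C / O²(C) is a 2-group and a quotient of G
    let f : C →* G ⧸ oddCore G := (QuotientGroup.mk' (oddCore G)).comp C.subtype
    have hf : Function.Surjective f := by
      intro q
      obtain ⟨g, rfl⟩ := QuotientGroup.mk'_surjective _ q
      obtain ⟨n, hn, c, hc, rfl⟩ := exists_mul hz g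
      refine ⟨⟨c, hc⟩, ?_⟩
      show QuotientGroup.mk' (oddCore G) c = _
      rw [map_mul, (QuotientGroup.eq_one_iff (N := oddCore G) n).2 hn |> fun h => (h : QuotientGroup.mk' (oddCore G) n = 1),
        one_mul]
    have hker : f.ker ≤ pResidual 2 C := by
      intro c hc
      apply Lib.PNilp.mem_pResidual_of_coprime
      have h1 : (c : G) ∈ oddCore G := by
        rw [MonoidHom.mem_ker] at hc
        exact (QuotientGroup.eq_one_iff (N := oddCore G) (c : G)).1 hc
      have h2 := Lib.Cores.coprime_orderOf_of_mem_pPrimeCore h1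
      rwa [Subgroup.orderOf_coe] at h2
    have h3 : (pResidual 2 C).map f = ⊤ := by
      have h4 := Lib.PNilp.map_pResidual_of_surjective 2 f hf
      have h5 := Lib.PNilp.map_pResidual_of_surjective 2 (QuotientGroup.mk' (oddCore G)) (QuotientGroup.mk'_surjective _)
      rw [h, ← MonoidHom.range_eq_map, MonoidHom.range_eq_top.2 (QuotientGroup.mk'_surjective _)] at h5
      rw [h4, ← h5]
    have h6 := congrArg (Subgroup.comap f) h3
    rw [Subgroup.comap_map_eq, Subgroup.comap_top, sup_eq_left.2 hker] at h6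
    exact h6
  · intro h
    rw [eq_top_iff]
    intro g _
    obtain ⟨n, hn, c, hc, rfl⟩ := exists_mul hz g
    refine Subgroup.mul_mem _ ?_ ?_
    · exact Lib.PNilp.mem_pResidual_of_coprime (Lib.Cores.coprime_orderOf_of_mem_pPrimeCore hn)
    · have := Lib.PNilp.map_subtype_pResidual_le 2 (Subgroup.centralizer ({z} : Set G))
      apply this
      rw [h]
      exact ⟨⟨c, hc⟩, trivial, rfl⟩

theorem to_sup_isPGroup {H : Type*} [Group H] {p : ℕ} {Q R : Subgroup H} [Q.Normal] (hQ : IsPGroup p Q) (hR : IsPGroup p R) :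
    IsPGroup p (Q ⊔ R : Subgroup H) := hQ.to_sup_of_normal_left hR

/-- a normal maximal `z`-invariant `p`-subgroup is Sylow (`p` odd) -/
theorem not_dvd_index_of_normal {p : ℕ} [hp : Fact p.Prime] (hp2 : p ≠ 2) {z : G} (hz : IsIsolatedInvolution z)
    (Q : Subgroup G) [hQn : Q.Normal] (hQ : IsPGroup p Q)
    (hmax : ∀ R : Subgroup G, IsPGroup p R → z ∈ Subgroup.normalizer (R : Set G) → Q ≤ R → R = Q) :
    ¬ p ∣ Q.index := by
  have hodd : Odd p := hp.out.odd_of_ne_two hp2
  have hNn : (oddCore G).Normal := pPrimeCore_normal 2 G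
  have hQO : Q ≤ oddCore G := by
    apply Lib.Cores.le_pPrimeCore hQn
    obtain ⟨k, hk⟩ := IsPGroup.iff_card.1 hQ
    rw [hk]
    exact Nat.coprime_two_right.2 hodd.pow
  have hzz : Nat.card (Subgroup.zpowers z) = 2 := by rw [Nat.card_zpowers, hz.1]
  have hzsol : Group.IsSolvable (Subgroup.zpowers z) := by
    have : IsMulCommutative (Subgroup.zpowers z) := inferInstance
    exact Group.isSolvable_of_comm fun a b => mul_comm' a b
  obtain ⟨P, hQP, hPN, hPp, hPi, hPz⟩ := Lib.CoprimeAction.exists_invariant_sylow_ge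
    (A := Subgroup.zpowers z) (K := oddCore G) (by rw [Subgroup.normalizer_eq_top]; exact le_top)
    (by rw [hzz]; exact (Nat.coprime_two_left.2 odd_card_oddCore)) (Or.inl hzsol) (p := p) hQO hQ
    (by rw [Subgroup.normalizer_eq_top]; exact le_top)
  have h1 : P = Q := hmax P hPp (hPz (Subgroup.mem_zpowers z)) hQP
  subst h1
  -- a Sylow `p`-subgroup of the centralizer lies in `P`
  set C := Subgroup.centralizer ({z} : Set G) with hC
  obtain ⟨T⟩ : Nonempty (Sylow p C) := inferInstance
  have hTp : IsPGroup p ((T : Subgroup C).map C.subtype) := T.2.map _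
  have h2 : P ⊔ (T : Subgroup C).map C.subtype = P := by
    apply hmax _ (to_sup_isPGroup hQ hTp) _ le_sup_left
    have h3 : (T : Subgroup C).map C.subtype ≤ C := Subgroup.map_subtype_le _
    rw [Subgroup.mem_normalizer_iff]
    have hconj : ∀ y ∈ P ⊔ (T : Subgroup C).map C.subtype, z * y * z⁻¹ ∈ P ⊔ (T : Subgroup C).map C.subtype := by
      intro y hy
      rw [Subgroup.mem_sup_of_normal_left] at hy
      obtain ⟨a, ha, b, hb, rfl⟩ := hy
      have h4 : z * b * z⁻¹ = b := by
        have := Subgroup.mem_centralizer_singleton_iff.1 (h3 hb)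
        rw [← this]; group
      have h5 : z * (a * b) * z⁻¹ = (z * a * z⁻¹) * b := by
        calc z * (a * b) * z⁻¹ = (z * a * z⁻¹) * (z * b * z⁻¹) := by group
          _ = _ := by rw [h4]
      rw [h5]
      exact Subgroup.mul_mem_sup (hQn.conj_mem a ha z) hb
    intro y
    refine ⟨hconj y, fun hy => ?_⟩
    have hz2 : z * z = 1 := by
      have := pow_orderOf_eq_one z
      rwa [hz.1, pow_two] at this
    have hzi : z⁻¹ = z := inv_eq_of_mul_eq_one_left hz2
    have := hconj _ hy
    rw [hzi] at this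
    have h6 : z * (z * y * z) * z = y := by
      calc z * (z * y * z) * z = (z * z) * y * (z * z) := by group
        _ = y := by rw [hz2]; group
    rwa [h6] at this
  have hTP : (T : Subgroup C).map C.subtype ≤ P := by rw [← h2]; exact le_sup_right
  -- indices
  have hidx : P.index = P.relIndex (oddCore G) * (oddCore G).index := (Subgroup.relIndex_mul_index hQO).symm
  have hsup : oddCore G ⊔ C = ⊤ := by
    rw [eq_top_iff]
    intro g _
    obtain ⟨n, hn, c, hc, rfl⟩ := exists_mul hz g
    exact Subgroup.mul_mem_sup hn hc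
  have hidx2 : (oddCore G).index = ((oddCore G).subgroupOf C).index := by
    rw [← Subgroup.relIndex_top_right, ← hsup, sup_comm, Subgroup.relIndex_sup_right]
    rfl
  have hT : ¬ p ∣ ((oddCore G).subgroupOf C).index := by
    intro h7
    apply T.not_dvd_index
    refine h7.trans (Subgroup.index_dvd_of_le ?_)
    intro t ht
    exact hQO (hTP ⟨t, ht, rfl⟩)
  rw [hidx, hidx2]
  exact hp.out.prime.not_dvd_mul hPi hT

theorem exists_sylow_of_maximal {z : G} (hz : IsIsolatedInvolution z) {p : ℕ} [hp : Fact p.Prime] (Q : Subgroup G)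
    (hQ : IsPGroup p Q) (hzQ : z ∈ Subgroup.normalizer (Q : Set G))
    (hmax : ∀ R : Subgroup G, IsPGroup p R → z ∈ Subgroup.normalizer (R : Set G) → Q ≤ R → R = Q) :
    ∃ P : Sylow p G, (P : Subgroup G) = Q := by
  by_cases hp2 : p = 2
  · subst hp2
    have hzQ' : z ∈ Q := by
      have h1 : IsPGroup 2 (Subgroup.zpowers z) := by
        apply IsPGroup.of_card (n := 1)
        rw [Nat.card_zpowers, hz.1, pow_one]
      have h2 : IsPGroup 2 (Subgroup.zpowers z ⊔ Q : Subgroup G) :=
        h1.to_sup_of_normal_right' hQ (by rw [Subgroup.zpowers_le]; exact hzQ)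
      have h3 := hmax _ h2 (Subgroup.le_normalizer (Subgroup.mem_sup_left (Subgroup.mem_zpowers z))) le_sup_right
      rw [← h3]
      exact Subgroup.mem_sup_left (Subgroup.mem_zpowers z)
    obtain ⟨P, hP⟩ := hQ.exists_le_sylow
    exact ⟨P, hmax _ P.2 (Subgroup.le_normalizer (hP hzQ')) hP⟩
  · set N := Subgroup.normalizer (Q : Set G) with hN
    have hQN : Q ≤ N := Subgroup.le_normalizer
    have h1 : ¬ p ∣ (Q.subgroupOf N).index := by
      have : (Q.subgroupOf N).Normal := Subgroup.normal_in_normalizer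
      apply not_dvd_index_of_normal hp2 (isIsolated_subgroup hz N hzQ) (Q.subgroupOf N)
        (hQ.comap_of_injective _ N.subtype_injective)
      intro R hR hzR hQR
      have h2 : R.map N.subtype = Q := by
        apply hmax _ (hR.map _)
        · rw [Subgroup.mem_normalizer_iff] at hzR ⊢
          intro y
          constructor
          · rintro ⟨r, hr, rfl⟩
            exact ⟨_, (hzR r).1 hr, rfl⟩
          · rintro ⟨r, hr, hry⟩
            have hyN : y ∈ N := by
              have h3 : y = z⁻¹ * (r : G) * z := by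
                have h4 : (r : G) = z * y * z⁻¹ := hry
                rw [h4]; group
              rw [h3]
              exact mul_mem (mul_mem (inv_mem hzQ) r.2) hzQ
            refine ⟨⟨y, hyN⟩, (hzR ⟨y, hyN⟩).2 ?_, rfl⟩
            have h5 : (⟨z, hzQ⟩ : N) * ⟨y, hyN⟩ * (⟨z, hzQ⟩ : N)⁻¹ = r := Subtype.ext hry.symm
            rw [h5]
            exact hr
        · intro q hq
          exact ⟨⟨q, hQN hq⟩, hQR hq, rfl⟩
      apply le_antisymm _ hQR
      intro r hr
      show (r : G) ∈ Q
      rw [← h2]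
      exact ⟨r, hr, rfl⟩
    obtain ⟨P, hP⟩ := hQ.exists_le_sylow
    refine ⟨P, ?_⟩
    by_contra hne
    have hlt : Q < P := lt_of_le_of_ne hP (fun h => hne h.symm)
    have hPnil : Group.IsNilpotent (P : Subgroup G) := P.2.isNilpotent
    have h2 : Q.subgroupOf P < Subgroup.normalizer (Q.subgroupOf (P : Subgroup G) : Set (P : Subgroup G)) := by
      apply Group.normalizerCondition_of_isNilpotent
      rw [lt_top_iff_ne_top, ne_eq, Subgroup.subgroupOf_eq_top]
      exact hlt.not_ge
    obtain ⟨x, hx, hxQ⟩ := SetLike.exists_of_lt h2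
    have hxN : (x : G) ∈ N := by
      rw [hN, Subgroup.mem_normalizer_iff]
      intro y
      rw [Subgroup.mem_normalizer_iff] at hx
      constructor
      · intro hy
        exact (hx ⟨y, hP hy⟩).1 hy
      · intro hy
        have hyP : y ∈ (P : Subgroup G) := by
          have h3 : y = (x : G)⁻¹ * ((x : G) * y * (x : G)⁻¹) * x := by group
          rw [h3]
          exact mul_mem (mul_mem (inv_mem x.2) (hP hy)) x.2
        exact (hx ⟨y, hyP⟩).2 hy
    -- the p-group `Q ⊔ ⟨x⟩` in `N`
    have h4 : IsPGroup p ((P : Subgroup G) ⊓ N : Subgroup G) := P.2.to_le inf_le_left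
    have h5 : Q ≤ (P : Subgroup G) ⊓ N := le_inf hP hQN
    have h6 : ¬ p ∣ Q.relIndex ((P : Subgroup G) ⊓ N) := by
      intro h
      apply h1
      have := Subgroup.relIndex_mul_relIndex Q ((P : Subgroup G) ⊓ N) N h5 inf_le_right
      have h7 : (Q.subgroupOf N).index = Q.relIndex N := rfl
      rw [h7, ← this]
      exact Dvd.dvd.mul_right h _
    have h8 : Q.relIndex ((P : Subgroup G) ⊓ N) = 1 := by
      obtain ⟨k, hk⟩ := (IsPGroup.iff_card.1 h4)
      have h9 : Q.relIndex ((P : Subgroup G) ⊓ N) ∣ p ^ k := by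
        rw [← hk]; exact Subgroup.relIndex_dvd_card _ _
      obtain ⟨j, -, hj⟩ := (Nat.dvd_prime_pow hp.out).1 h9
      rcases j with _ | j
      · rw [hj, pow_zero]
      · exfalso; apply h6; rw [hj]; exact dvd_pow_self p (Nat.succ_ne_zero j)
    rw [Subgroup.relIndex_eq_one] at h8
    exact hxQ (h8 ⟨x.2, hxN⟩)

end Cfsg.Agent.Lib.IsolatedZ
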