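import Mathlib.GroupTheory.Sylow
import Cfsg.Prelude.Def_SylowControl

set_option autoImplicit false
open Cfsg
open scoped Pointwise

/-! Sylow theory relative to subgroups (helper49). -/

namespace Cfsg.Agent.Lib.SylowIn

variable {G : Type*} [Group G]

theorem mem_smul_iff {p : ℕ} (S : Sylow p G) (g x : G) :
    x ∈ ((g • S : Sylow p G) : Subgroup G) ↔ g⁻¹ * x * g ∈ (S : Subgroup G) := by
  constructor
  · intro h
    have h1 : x ∈ ((g • S : Sylow p G) : Set G) := h
    rw [Sylow.coe_smul] at h1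
    obtain ⟨y, hy, rfl⟩ := h1
    have hy' : y ∈ (S : Subgroup G) := hy
    simpa [mul_assoc] using hy'
  · intro h
    have h1 : x ∈ (MulAut.conj g • (S : Set G)) := ⟨_, h, by simp [mul_assoc]⟩
    rw [← Sylow.coe_smul] at h1
    exact h1

theorem coe_smul_eq_map {p : ℕ} (S : Sylow p G) (g : G) :
    ((g • S : Sylow p G) : Subgroup G) = (S : Subgroup G).map (MulAut.conj g).toMonoidHom := by
  ext x
  rw [mem_smul_iff]
  constructor
  · intro h; exact ⟨_, h, by simp [mul_assoc]⟩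
  · rintro ⟨y, hy, rfl⟩
    have hy' : y ∈ (S : Subgroup G) := hy
    simpa [mul_assoc] using hy'

/-- Sylow's theorem inside a subgroup `D` containing a Sylow subgroup `U₀` of `G`. -/
theorem exists_le_smul [Finite G] {p : ℕ} [Fact p.Prime] (U₀ : Sylow p G) {D R : Subgroup G}
    (hU : (U₀ : Subgroup G) ≤ D) (hR : IsPGroup p ↥R) (hRD : R ≤ D) :
    ∃ d ∈ D, R ≤ ((d • U₀ : Sylow p G) : Subgroup G) := by
  have h1 : IsPGroup p ↥(R.subgroupOf D) := hR.comap_subtype
  obtain ⟨Q, hQ⟩ := h1.exists_le_sylow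
  obtain ⟨d, hd⟩ := MulAction.exists_smul_eq ↥D (U₀.subtype hU) Q
  refine ⟨d, d.2, fun x hx => ?_⟩
  have h2 : (⟨x, hRD hx⟩ : ↥D) ∈ (Q : Subgroup ↥D) := hQ hx
  rw [← hd, mem_smul_iff] at h2
  rw [mem_smul_iff]
  exact h2

/-- Two Sylow subgroups of `G` contained in `D` are conjugate in `D`. -/
theorem exists_smul_eq [Finite G] {p : ℕ} [Fact p.Prime] (U V : Sylow p G) {D : Subgroup G}
    (hU : (U : Subgroup G) ≤ D) (hV : (V : Subgroup G) ≤ D) : ∃ d ∈ D, d • U = V := by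
  obtain ⟨d, hd, h⟩ := exists_le_smul U hU V.isPGroup' hV
  refine ⟨d, hd, ?_⟩
  apply Sylow.ext
  exact V.is_maximal' (d • U).isPGroup' h

theorem mem_conjRight_iff (g x : G) (X : Subgroup G) : x ∈ subgroupConjRight g X ↔ g * x * g⁻¹ ∈ X := by
  unfold subgroupConjRight
  constructor
  · rintro ⟨y, hy, rfl⟩
    have hy' : y ∈ X := hy
    simpa [mul_assoc] using hy'
  · intro h
    exact ⟨_, h, by simp [mul_assoc]⟩

theorem conjRight_sylow {p : ℕ} (S : Sylow p G) (g : G) :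
    subgroupConjRight g (S : Subgroup G) = ((g⁻¹ • S : Sylow p G) : Subgroup G) := by
  ext x
  rw [mem_conjRight_iff, mem_smul_iff, inv_inv]

end Cfsg.Agent.Lib.SylowIn
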