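import Mathlib.GroupTheory.Sylow
import Mathlib.GroupTheory.Nilpotent
import Cfsg.Agent.Lib.SylowIn

set_option autoImplicit false
open scoped Pointwise

/-! "A is a Sylow p-subgroup of the subgroup N", everything inside an ambient finite group (helper49). -/

namespace Cfsg.Agent.Lib.SylAmb

open Cfsg.Agent.Lib.SylowIn

variable {G : Type*} [Group G]

/-- `A` is a Sylow `p`-subgroup of the subgroup `N` of `G`. -/
def IsSyl (p : ℕ) (A N : Subgroup G) : Prop :=
  A ≤ N ∧ IsPGroup p ↥A ∧ ¬ p ∣ A.relIndex N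

theorem isSyl_of_sylow [Finite G] {p : ℕ} [Fact p.Prime] {N : Subgroup G} (P : Sylow p ↥N) :
    IsSyl p ((P : Subgroup ↥N).map N.subtype) N := by
  refine ⟨Subgroup.map_subtype_le _, P.isPGroup'.map _, ?_⟩
  have : ((P : Subgroup ↥N).map N.subtype).relIndex N = (P : Subgroup ↥N).index := by
    unfold Subgroup.relIndex
    congr 1
    exact Subgroup.comap_map_eq_self_of_injective N.subtype_injective _
  rw [this]
  exact P.not_dvd_index

theorem IsSyl.exists_sylow {p : ℕ} [Fact p.Prime] {A N : Subgroup G} [Finite G] (h : IsSyl p A N) :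
    ∃ P : Sylow p ↥N, (P : Subgroup ↥N).map N.subtype = A := by
  have h1 : IsPGroup p ↥(A.subgroupOf N) := h.2.1.comap_subtype
  refine ⟨h1.toSylow h.2.2, ?_⟩
  show (A.subgroupOf N).map N.subtype = A
  rw [Subgroup.subgroupOf_map_subtype, inf_eq_left]
  exact h.1

/-- A Sylow subgroup of `G` is a Sylow subgroup of every subgroup that contains it. -/
theorem isSyl_coe [Finite G] {p : ℕ} [Fact p.Prime] (S : Sylow p G) {N : Subgroup G} (h : (S : Subgroup G) ≤ N) :
    IsSyl p (S : Subgroup G) N :=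
  ⟨h, S.isPGroup', fun hd => S.not_dvd_index (hd.trans (Subgroup.relIndex_dvd_index_of_le h))⟩

theorem exists_isSyl_ge [Finite G] {p : ℕ} [Fact p.Prime] {R N : Subgroup G} (hR : IsPGroup p ↥R) (hRN : R ≤ N) :
    ∃ A : Subgroup G, R ≤ A ∧ IsSyl p A N := by
  have h1 : IsPGroup p ↥(R.subgroupOf N) := hR.comap_subtype
  obtain ⟨Q, hQ⟩ := h1.exists_le_sylow
  refine ⟨(Q : Subgroup ↥N).map N.subtype, ?_, isSyl_of_sylow Q⟩
  intro x hx
  exact ⟨⟨x, hRN hx⟩, hQ hx, rfl⟩

theorem IsSyl.card_eq [Finite G] {p : ℕ} [Fact p.Prime] {A N : Subgroup G} (h : IsSyl p A N) :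
    Nat.card ↥A = p ^ (Nat.card ↥N).factorization p := by
  obtain ⟨P, rfl⟩ := h.exists_sylow
  rw [Subgroup.card_map_of_injective N.subtype_injective]
  exact P.card_eq_multiplicity

theorem IsSyl.card_le [Finite G] {p : ℕ} [Fact p.Prime] {A R N : Subgroup G} (h : IsSyl p A N)
    (hR : IsPGroup p ↥R) (hRN : R ≤ N) : Nat.card ↥R ≤ Nat.card ↥A := by
  obtain ⟨B, hRB, hB⟩ := exists_isSyl_ge hR hRN
  rw [h.card_eq, ← hB.card_eq]
  exact Nat.le_of_dvd Nat.card_pos (Subgroup.card_dvd_of_le hRB)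

theorem IsSyl.eq_of_le [Finite G] {p : ℕ} [Fact p.Prime] {A R N : Subgroup G} (h : IsSyl p A N)
    (hR : IsPGroup p ↥R) (hRN : R ≤ N) (hAR : A ≤ R) : A = R :=
  Subgroup.eq_of_le_of_card_ge hAR (h.card_le hR hRN)

theorem isSyl_of_card_ge [Finite G] {p : ℕ} [Fact p.Prime] {A B N : Subgroup G} (h : IsSyl p A N)
    (hB : IsPGroup p ↥B) (hBN : B ≤ N) (hc : Nat.card ↥A ≤ Nat.card ↥B) : IsSyl p B N := by
  obtain ⟨C, hBC, hC⟩ := exists_isSyl_ge hB hBN
  have : B = C := by
    apply Subgroup.eq_of_le_of_card_ge hBC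
    rw [hC.card_eq, ← h.card_eq]; exact hc
  rw [this]; exact hC

theorem IsSyl.mono_right [Finite G] {p : ℕ} [Fact p.Prime] {A N M : Subgroup G} (h : IsSyl p A M)
    (hAN : A ≤ N) (hNM : N ≤ M) : IsSyl p A N := by
  obtain ⟨C, hBC, hC⟩ := exists_isSyl_ge h.2.1 hAN
  rw [h.eq_of_le hC.2.1 (hC.1.trans hNM) hBC]
  exact hC

/-- Sylow's conjugacy in the ambient setting. -/
theorem IsSyl.exists_conj [Finite G] {p : ℕ} [Fact p.Prime] {A B N : Subgroup G} (hA : IsSyl p A N)
    (hB : IsSyl p B N) : ∃ x ∈ N, A.map (MulAut.conj x).toMonoidHom = B := by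
  obtain ⟨P, rfl⟩ := hA.exists_sylow
  obtain ⟨Q, rfl⟩ := hB.exists_sylow
  obtain ⟨x, hx⟩ := MulAction.exists_smul_eq ↥N P Q
  refine ⟨x, x.2, ?_⟩
  rw [← hx, coe_smul_eq_map, Subgroup.map_map, Subgroup.map_map]
  congr 1

theorem IsSyl.exists_le_conj [Finite G] {p : ℕ} [Fact p.Prime] {A R N : Subgroup G} (hA : IsSyl p A N)
    (hR : IsPGroup p ↥R) (hRN : R ≤ N) : ∃ x ∈ N, R ≤ A.map (MulAut.conj x).toMonoidHom := by
  obtain ⟨B, hRB, hB⟩ := exists_isSyl_ge hR hRN
  obtain ⟨x, hx, rfl⟩ := hA.exists_conj hB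
  exact ⟨x, hx, hRB⟩

theorem IsSyl.conj [Finite G] {p : ℕ} {A N : Subgroup G} (hA : IsSyl p A N) (x : G) :
    IsSyl p (A.map (MulAut.conj x).toMonoidHom) (N.map (MulAut.conj x).toMonoidHom) := by
  refine ⟨Subgroup.map_mono hA.1, hA.2.1.map _, ?_⟩
  rw [Subgroup.relIndex_map_map_of_injective _ _ (MulAut.conj x).injective]
  exact hA.2.2

theorem IsSyl.exists_sylow_top [Finite G] {p : ℕ} [Fact p.Prime] {A : Subgroup G} (h : IsSyl p A ⊤) :
    ∃ P : Sylow p G, (P : Subgroup G) = A := by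
  obtain ⟨P, hP⟩ := h.2.1.exists_le_sylow
  exact ⟨P, (h.eq_of_le P.isPGroup' le_top hP).symm⟩

theorem map_conj_eq {M : Subgroup G} {x : G} (hx : x ∈ Subgroup.normalizer (M : Set G)) :
    M.map (MulAut.conj x).toMonoidHom = M :=
  Subgroup.mem_normalizer_iff_map_conj_eq.mp hx

theorem map_conj_eq_of_mem {M : Subgroup G} {x : G} (hx : x ∈ M) :
    M.map (MulAut.conj x).toMonoidHom = M :=
  map_conj_eq (Subgroup.le_normalizer hx)

theorem mem_normalizer_iff_map {M : Subgroup G} {x : G} :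
    x ∈ Subgroup.normalizer (M : Set G) ↔ M.map (MulAut.conj x).toMonoidHom = M :=
  Subgroup.mem_normalizer_iff_map_conj_eq

theorem map_conj_map_conj (M : Subgroup G) (x y : G) :
    (M.map (MulAut.conj x).toMonoidHom).map (MulAut.conj y).toMonoidHom = M.map (MulAut.conj (y * x)).toMonoidHom := by
  rw [Subgroup.map_map]
  congr 1
  ext z
  simp [mul_assoc]

theorem map_conj_one (M : Subgroup G) : M.map (MulAut.conj (1 : G)).toMonoidHom = M := by
  convert Subgroup.map_id M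
  ext z
  simp

theorem mem_map_conj_iff {M : Subgroup G} {x y : G} :
    y ∈ M.map (MulAut.conj x).toMonoidHom ↔ x⁻¹ * y * x ∈ M := by
  constructor
  · rintro ⟨z, hz, rfl⟩
    have hz' : z ∈ M := hz
    simpa [mul_assoc] using hz'
  · intro h
    exact ⟨_, h, by simp [mul_assoc]⟩

theorem map_conj_normalizer (M : Subgroup G) (x : G) :
    (Subgroup.normalizer (M : Set G)).map (MulAut.conj x).toMonoidHom =
      Subgroup.normalizer ((M.map (MulAut.conj x).toMonoidHom : Subgroup G) : Set G) :=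
  Subgroup.map_equiv_normalizer_eq M (MulAut.conj x)

/-- In a finite `p`-group a proper subgroup is properly contained in its normaliser (ambient form). -/
theorem lt_inf_normalizer [Finite G] {p : ℕ} [Fact p.Prime] {D S : Subgroup G} (hS : IsPGroup p ↥S) (h : D < S) :
    D < S ⊓ Subgroup.normalizer (D : Set G) := by
  have hnil : Group.IsNilpotent ↥S := hS.isNilpotent
  have hnc := Group.normalizerCondition_of_isNilpotent (G := ↥S)
  have hlt : D.subgroupOf S < ⊤ := by
    rw [lt_top_iff_ne_top]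
    intro h1
    rw [Subgroup.subgroupOf_eq_top] at h1
    exact absurd h1 (not_le_of_gt h)
  have h2 := hnc _ hlt
  refine lt_of_le_of_ne (le_inf h.le Subgroup.le_normalizer) ?_
  intro heq
  apply ne_of_lt h2
  apply le_antisymm h2.le
  intro x hx
  rw [Subgroup.mem_normalizer_iff] at hx
  show (x : G) ∈ D
  rw [heq]
  refine ⟨x.2, ?_⟩
  show (x : G) ∈ Subgroup.normalizer (D : Set G)
  rw [Subgroup.mem_normalizer_iff]
  intro y
  constructor
  · intro hy
    exact (hx ⟨y, h.le hy⟩).mp hy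
  · intro hy
    have hyS : y ∈ S := by
      have h3 := S.mul_mem (S.mul_mem (S.inv_mem x.2) (h.le hy)) x.2
      convert h3 using 1
      group
    exact (hx ⟨y, hyS⟩).mpr hy

end Cfsg.Agent.Lib.SylAmb
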