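import Cfsg.Agent.Lib.InvAct
import Cfsg.Agent.Lib.IsolatedZ
import Cfsg.Agent.Lib.CoprimeGen
import Cfsg.Agent.Lib.SylAmb

/-!
# Actions in which every involution fixes exactly one point: p-subgroups without
"fixed" involutions (helper95; proof by helper95 and helper23)
-/

set_option autoImplicit false
set_option linter.all false

open Subgroup MulAction Cfsg

namespace Cfsg.Agent.Lib.BenP

open Cfsg.Agent.Lib.InvAct

variable {G : Type*} [Group G] {Ω : Type*} [MulAction G Ω]

variable (Ω) in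
/-- fixed points of a subgroup -/
def Fx (X : Subgroup G) : Set Ω := {a | X ≤ stabilizer G a}

theorem mem_Fx {X : Subgroup G} {a : Ω} : a ∈ Fx Ω X ↔ X ≤ stabilizer G a := Iff.rfl

theorem Fx_anti {X Y : Subgroup G} (h : X ≤ Y) : Fx Ω Y ⊆ Fx Ω X := fun _ ha => h.trans ha

theorem smul_mem_Fx {X : Subgroup G} {g : G} (hg : g ∈ normalizer (X : Set G)) {a : Ω}
    (ha : a ∈ Fx Ω X) : g • a ∈ Fx Ω X := by
  intro x hx
  have h1 : g⁻¹ * x * g ∈ X := by
    rw [mem_normalizer_iff] at hg
    rw [hg]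
    have : g * (g⁻¹ * x * g) * g⁻¹ = x := by group
    rwa [this]
  have h2 : (g⁻¹ * x * g) • a = a := ha h1
  show x • g • a = g • a
  calc x • g • a = g • ((g⁻¹ * x * g) • a) := by
        rw [smul_smul, smul_smul]; congr 1; group
    _ = g • a := by rw [h2]

theorem mem_Fx_conj {X : Subgroup G} {g : G} {a : Ω} :
    g • a ∈ Fx Ω (X.map (MulAut.conj g).toMonoidHom) ↔ a ∈ Fx Ω X := by
  constructor
  · intro h x hx
    have h1 : g * x * g⁻¹ ∈ X.map (MulAut.conj g).toMonoidHom := ⟨x, hx, rfl⟩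
    have h2 : (g * x * g⁻¹) • g • a = g • a := h h1
    show x • a = a
    have h3 : g • x • a = g • a := by
      rw [← h2, smul_smul, smul_smul]; congr 1; group
    exact smul_left_cancel g h3
  · rintro h _ ⟨x, hx, rfl⟩
    have h2 : x • a = a := h hx
    show (g * x * g⁻¹) • g • a = g • a
    rw [smul_smul]
    have : g * x * g⁻¹ * g = g * x := by group
    rw [this, ← smul_smul, h2]

/-- no involution of `N(X)` fixes a point of `Fx X` -/
def NF (Ω : Type*) [MulAction G Ω] (X : Subgroup G) : Prop :=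
  ∀ v ∈ normalizer (X : Set G), orderOf v = 2 → ∀ e ∈ Fx Ω X, v • e ≠ e

section

variable (hU : UniqueFix G Ω)
include hU

/-- two involutions of `L` with different fixed points are conjugate in `L` -/
theorem conj_of_ne [Finite G] {L : Subgroup G} {v s : G} (hv : orderOf v = 2) (hs : orderOf s = 2)
    (hvL : v ∈ L) (hsL : s ∈ L) {e c : Ω} (he : v • e = e) (hc : s • c = c) (hec : e ≠ c) :
    ∃ w ∈ L, w * v * w⁻¹ = s ∧ w • e = c := by
  obtain ⟨k, h1, -, -⟩ := exists_conj_of_odd hv hs (odd_of_fix_ne hU hv hs he hc hec)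
  refine ⟨(v * s) ^ k, L.pow_mem (L.mul_mem hvL hsL) k, h1, ?_⟩
  apply eq_of_fix hU hs _ hc
  generalize (v * s) ^ k = w at h1
  rw [← h1, smul_smul]
  simp only [inv_mul_cancel_right]
  rw [← smul_smul, he]

theorem NF_of [Finite G] {X : Subgroup G} {s : G} (hsN : s ∈ normalizer (X : Set G)) (hs : orderOf s = 2)
    (h : ∀ e ∈ Fx Ω X, s • e ≠ e) : NF Ω X := by
  intro v hvN hv e he hve
  obtain ⟨c, hc, -⟩ := hU s hs
  by_cases hec : e = c
  · subst hec; exact h e he hc
  · obtain ⟨w, hw, -, hwc⟩ := conj_of_ne hU hv hs hvN hsN hve hc hec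
    apply h c _ hc
    rw [← hwc]
    exact smul_mem_Fx hw he

/-- the four-group argument -/
theorem eq_of_commute [Finite G] {p : ℕ} [hp : Fact p.Prime] (hp2 : p ≠ 2) {X : Subgroup G}
    (hX : IsPGroup p X) (hNF : NF Ω X) {u v : G} (huN : u ∈ normalizer (X : Set G))
    (hvN : v ∈ normalizer (X : Set G)) (hu : orderOf u = 2) (hv : orderOf v = 2)
    (huv : u * v = v * u) : u = v := by
  by_contra hne
  obtain ⟨e, he, hu1⟩ := hU u hu
  have hve : v • e = e := by
    apply hu1
    show u • v • e = v • e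
    rw [smul_smul, huv, ← smul_smul, he]
  have huu : u * u = 1 := (orderOf_two_iff.1 hu).1
  have hvv : v * v = 1 := (orderOf_two_iff.1 hv).1
  have hui : u⁻¹ = u := inv_eq_self_of_orderOf_eq_two hu
  have hvi : v⁻¹ = v := inv_eq_self_of_orderOf_eq_two hv
  have hvu : v * u = u * v := huv.symm
  -- the four-group
  let A : Subgroup G :=
    { carrier := {x | x = 1 ∨ x = u ∨ x = v ∨ x = u * v}
      one_mem' := Or.inl rfl
      mul_mem' := by
        have e1 : u * (u * v) = v := by rw [← mul_assoc, huu, one_mul]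
        have e2 : v * (u * v) = u := by rw [← mul_assoc, hvu, mul_assoc, hvv, mul_one]
        have e3 : u * v * u = v := by rw [mul_assoc, hvu, e1]
        have e4 : u * v * v = u := by rw [mul_assoc, hvv, mul_one]
        have e5 : u * v * (u * v) = 1 := by rw [mul_assoc, e2, huu]
        rintro x y hx hy
        simp only [Set.mem_ofPred_eq] at hx hy ⊢
        rcases hx with rfl | rfl | rfl | rfl <;> rcases hy with rfl | rfl | rfl | rfl <;>
          simp only [one_mul, mul_one, huu, hvv, e1, e2, e3, e4, e5, hvu, true_or, or_true]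
      inv_mem' := by
        intro x hx
        simp only [Set.mem_ofPred_eq] at hx ⊢
        rcases hx with rfl | rfl | rfl | rfl
        · simp
        · rw [hui]; simp
        · rw [hvi]; simp
        · rw [mul_inv_rev, hui, hvi, hvu]; simp }
  have hmem : ∀ x : G, x ∈ A ↔ (x = 1 ∨ x = u ∨ x = v ∨ x = u * v) := fun x => Iff.rfl
  have huvN : u * v ∈ normalizer (X : Set G) := mul_mem huN hvN
  have hAN : A ≤ normalizer (X : Set G) := by
    intro x hx
    rcases (hmem x).1 hx with rfl | rfl | rfl | rfl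
    · exact one_mem _
    · exact huN
    · exact hvN
    · exact huvN
  have huv2 : (u * v) * (u * v) = 1 := by
    calc (u * v) * (u * v) = u * (v * u) * v := by group
      _ = u * (u * v) * v := by rw [hvu]
      _ = (u * u) * (v * v) := by group
      _ = 1 := by rw [huu, hvv, one_mul]
  have hAsq : ∀ x ∈ A, x * x = 1 := by
    intro x hx
    rcases (hmem x).1 hx with rfl | rfl | rfl | rfl
    · simp
    · exact huu
    · exact hvv
    · exact huv2
  have hA2 : IsPGroup 2 A := by
    intro x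
    refine ⟨1, ?_⟩
    apply Subtype.ext
    show (x : G) ^ (2 ^ 1) = 1
    rw [pow_one, sq]; exact hAsq x x.2
  have hAcomm : IsMulCommutative A := by
    rw [isMulCommutative_iff]
    intro x y
    apply Subtype.ext
    show (x : G) * y = y * x
    have h1 := hAsq x x.2
    have h2 := hAsq y y.2
    have h3 := hAsq (x * y) (A.mul_mem x.2 y.2)
    have h1' : (x : G)⁻¹ = x := inv_eq_of_mul_eq_one_right h1
    have h2' : (y : G)⁻¹ = y := inv_eq_of_mul_eq_one_right h2
    have h3' : ((x : G) * y)⁻¹ = x * y := inv_eq_of_mul_eq_one_right h3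
    rw [← h3', mul_inv_rev, h1', h2']
  have hcop : (Nat.card A).Coprime (Nat.card X) := by
    have : Fact (Nat.Prime 2) := ⟨Nat.prime_two⟩
    obtain ⟨n, hn⟩ := IsPGroup.iff_card.1 hA2
    obtain ⟨m, hm⟩ := IsPGroup.iff_card.1 hX
    rw [hn, hm]
    exact Nat.Coprime.pow n m ((Nat.coprime_primes Nat.prime_two hp.out).2 (Ne.symm hp2))
  have hsX : Group.IsSolvable X := by
    have := hX.isNilpotent
    infer_instance
  have hu1' : u ≠ 1 := by rintro rfl; simp at hu
  have hyx : v ∉ zpowers u := by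
    intro hc
    obtain ⟨k, hk⟩ := Subgroup.mem_zpowers_iff.1 hc
    have hv1 : v ≠ 1 := by rintro rfl; simp at hv
    have hu2 : u ^ (2 : ℤ) = 1 := by
      rw [zpow_two]; exact huu
    rcases Int.even_or_odd' k with ⟨m, hm | hm⟩
    · apply hv1
      rw [← hk, hm, zpow_mul, hu2, one_zpow]
    · apply hne
      rw [← hk, hm, zpow_add, zpow_mul, hu2, one_zpow, one_mul, zpow_one]
  have h1 := CoprimeGen.le_iSup_centralizer_of_solvable (G := G) (A := A) (r := 2) (x := u) (y := v)
    Nat.prime_two ((hmem u).2 (by simp)) ((hmem v).2 (by simp)) hAcomm hu1'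
    (by rw [sq]; exact huu) (by rw [sq]; exact hvv) hyx _ X rfl hsX hAN hcop
  have h2 : X ≤ stabilizer G e := by
    refine h1.trans (iSup₂_le ?_)
    rintro a ⟨haA, ha1⟩ y ⟨-, hy⟩
    have hae : a • e = e := by
      rcases (hmem a).1 haA with rfl | rfl | rfl | rfl
      · exact absurd rfl ha1
      · exact he
      · exact hve
      · rw [← smul_smul, hve, he]
    have ha2 : orderOf a = 2 := orderOf_two_iff.2 ⟨hAsq a haA, ha1⟩
    have hy' := mem_centralizer_singleton_iff.1 hy
    show y • e = e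
    apply eq_of_fix hU ha2 _ hae
    rw [smul_smul, ← hy', ← smul_smul, hae]
  exact hNF u huN hu e h2 he

/-- The structure of `N(X)` if it has an involution but none with a fixed point in `Fx X`. -/
theorem exists_core [Finite G] {p : ℕ} [hp : Fact p.Prime] (hp2 : p ≠ 2) {X : Subgroup G}
    (hX : IsPGroup p X) (hNF : NF Ω X) {s : G} (hsN : s ∈ normalizer (X : Set G)) (hs : orderOf s = 2) :
    ∃ M : Subgroup G, M ≤ normalizer (X : Set G) ∧ Odd (Nat.card M) ∧
      (∀ g ∈ normalizer (X : Set G), ∀ m ∈ M, g * m * g⁻¹ ∈ M) ∧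
      (∀ g ∈ normalizer (X : Set G), s * g * s⁻¹ * g⁻¹ ∈ M) ∧
      (∀ s' ∈ normalizer (X : Set G), orderOf s' = 2 → s * s' ∈ M) := by
  set L : Subgroup G := normalizer (X : Set G) with hL
  have hiso : IsIsolatedInvolution (⟨s, hsN⟩ : L) := by
    constructor
    · rw [Subgroup.orderOf_mk]; exact hs
    · intro g hg
      apply Subtype.ext
      show (g : G) * s * (g : G)⁻¹ = s
      have h1 : s * ((g : G) * s * (g : G)⁻¹) = ((g : G) * s * (g : G)⁻¹) * s := congrArg Subtype.val hg.eq
      symm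
      refine eq_of_commute hU hp2 hX hNF hsN (mul_mem (mul_mem g.2 hsN) (inv_mem g.2)) hs ?_ h1
      have := orderOf_injective (MulAut.conj (g : G)).toMonoidHom (MulAut.conj (g : G)).injective s
      rw [← hs, ← this]; rfl
  refine ⟨(oddCore L).map L.subtype, map_subtype_le _, ?_, ?_, ?_, ?_⟩
  · rw [card_map_of_injective L.subtype_injective]
    exact IsolatedZ.odd_card_oddCore
  · rintro g hg _ ⟨m, hm, rfl⟩
    refine ⟨⟨g, hg⟩ * m * ⟨g, hg⟩⁻¹, ?_, rfl⟩
    have hn : (oddCore L).Normal := inferInstance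
    exact hn.conj_mem m hm _
  · intro g hg
    exact ⟨⟨s, hsN⟩ * ⟨g, hg⟩ * ⟨s, hsN⟩⁻¹ * ⟨g, hg⟩⁻¹, IsolatedZ.zstar_comm hiso _, rfl⟩
  · intro s' hs'N hs'
    have hsi : s⁻¹ = s := inv_eq_self_of_orderOf_eq_two hs
    have hsi' : s'⁻¹ = s' := inv_eq_self_of_orderOf_eq_two hs'
    have h1 : (s * s') * (s * s') ∈ (oddCore L).map L.subtype := by
      refine ⟨⟨s, hsN⟩ * ⟨s', hs'N⟩ * ⟨s, hsN⟩⁻¹ * ⟨s', hs'N⟩⁻¹, IsolatedZ.zstar_comm hiso _, ?_⟩
      show s * s' * s⁻¹ * s'⁻¹ = _
      rw [hsi, hsi']; group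
    have hodd : Odd (orderOf (s * s')) := by
      rcases Nat.even_or_odd (orderOf (s * s')) with h | h
      · exfalso
        obtain ⟨z, hz, hz2, hzs, hzs'⟩ := exists_central_of_even hs hs' h
        have hzN : z ∈ normalizer (X : Set G) := (zpowers_le.2 (mul_mem hsN hs'N)) hz
        have e1 := eq_of_commute hU hp2 hX hNF hzN hsN hz2 hs hzs
        have e2 := eq_of_commute hU hp2 hX hNF hzN hs'N hz2 hs' hzs'
        rw [← e1, ← e2, (orderOf_two_iff.1 hz2).1, orderOf_one] at h
        exact absurd h (by decide)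
      · exact h
    obtain ⟨k, hk⟩ := hodd
    have h2 : s * s' = ((s * s') * (s * s')) ^ (k + 1) := by
      have : (s * s') ^ (2 * k + 1) = 1 := by rw [← hk]; exact pow_orderOf_eq_one _
      calc s * s' = (s * s') ^ (2 * k + 1) * (s * s') := by rw [this, one_mul]
        _ = ((s * s') * (s * s')) ^ (k + 1) := by rw [← sq, ← pow_mul, ← pow_succ]; congr 1
    rw [h2]
    exact Subgroup.pow_mem _ h1 _

end

end Cfsg.Agent.Lib.BenP
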