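import Cfsg.Agent.Lib.BenPa

/-!
# The orbits of the core of `N(X)` on `Fx X` (helper95)
-/

set_option autoImplicit false
set_option linter.all false

open Subgroup MulAction Cfsg

namespace Cfsg.Agent.Lib.BenP

open Cfsg.Agent.Lib.InvAct

variable {G : Type*} [Group G] {Ω : Type*} [MulAction G Ω]

/-- `N(X)` has the involution `s`, no involution of `N(X)` fixes a point of `Fx X`; `M` = core of `N(X)` -/
structure Ctx (Ω : Type*) [MulAction G Ω] (p : ℕ) (X : Subgroup G) (s : G) (M : Subgroup G) : Prop where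
  hX : IsPGroup p X
  nf : NF Ω X
  hsN : s ∈ normalizer (X : Set G)
  hs : orderOf s = 2
  hMN : M ≤ normalizer (X : Set G)
  odd : Odd (Nat.card M)
  conj : ∀ g ∈ normalizer (X : Set G), ∀ m ∈ M, g * m * g⁻¹ ∈ M
  comm : ∀ g ∈ normalizer (X : Set G), s * g * s⁻¹ * g⁻¹ ∈ M
  invol : ∀ s' ∈ normalizer (X : Set G), orderOf s' = 2 → s * s' ∈ M

theorem exists_ctx (hU : UniqueFix G Ω) [Finite G] {p : ℕ} [hp : Fact p.Prime] (hp2 : p ≠ 2)
    {X : Subgroup G} (hX : IsPGroup p X) (hNF : NF Ω X) {s : G} (hsN : s ∈ normalizer (X : Set G))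
    (hs : orderOf s = 2) : ∃ M, Ctx Ω p X s M := by
  obtain ⟨M, h1, h2, h3, h4, h5⟩ := exists_core hU hp2 hX hNF hsN hs
  exact ⟨M, hX, hNF, hsN, hs, h1, h2, h3, h4, h5⟩

/-- the orbit `f^M` -/
def Orb (M : Subgroup G) (f : Ω) : Set Ω := {h | ∃ m ∈ M, m • f = h}

/-- the orbit `f^{sM}` -/
def Af (s : G) (M : Subgroup G) (f : Ω) : Set Ω := {h | ∃ m ∈ M, m • s • f = h}

namespace Ctx

variable {p : ℕ} {X : Subgroup G} {s : G} {M : Subgroup G}

theorem not_mem_of_order_two [Finite G] (h : Ctx Ω p X s M) {g : G} (hg : orderOf g = 2) : g ∉ M := by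
  intro hgM
  have h1 : orderOf (⟨g, hgM⟩ : M) ∣ Nat.card M := orderOf_dvd_natCard _
  rw [Subgroup.orderOf_mk, hg] at h1
  obtain ⟨k, hk⟩ := h.odd
  omega

theorem ne_smul [Finite G] (h : Ctx Ω p X s M) {f : Ω} (hf : f ∈ Fx Ω X) {s' : G}
    (hs'N : s' ∈ normalizer (X : Set G)) (hs' : orderOf s' = 2) {m : G} (hm : m ∈ M) : s' • f ≠ m • f := by
  intro heq
  have hsi' : s'⁻¹ = s' := inv_eq_self_of_orderOf_eq_two hs'
  set g := m⁻¹ * s' with hg
  have hgf : g • f = f := by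
    rw [hg, ← smul_smul, heq, inv_smul_smul]
  have hgN : g ∈ normalizer (X : Set G) := mul_mem (inv_mem (h.hMN hm)) hs'N
  have hggM : g * g ∈ M := by
    have : g * g = m⁻¹ * (s' * m⁻¹ * s'⁻¹) := by rw [hg, hsi']; group
    rw [this]
    exact mul_mem (inv_mem hm) (h.conj s' hs'N _ (inv_mem hm))
  have hodd : Odd (orderOf (g * g)) := by
    have h1 : orderOf (⟨g * g, hggM⟩ : M) ∣ Nat.card M := orderOf_dvd_natCard _
    rw [Subgroup.orderOf_mk] at h1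
    exact h.odd.of_dvd_nat h1
  obtain ⟨k, hk⟩ := hodd
  set v := g ^ (2 * k + 1) with hv
  have hvv : v * v = 1 := by
    have h1 : v * v = (g * g) ^ (2 * k + 1) := by
      rw [hv, ← pow_add, ← sq, ← pow_mul]; congr 1; ring
    rw [h1, ← hk]; exact pow_orderOf_eq_one _
  have hv1 : v ≠ 1 := by
    intro hv1
    have h1 : g = (g * g) ^ (k + 1) := by
      calc g = g ^ (2 * k + 1) * g := by rw [← hv, hv1, one_mul]
        _ = (g * g) ^ (k + 1) := by rw [← sq, ← pow_mul, ← pow_succ]; congr 1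
    have h2 : g ∈ M := by rw [h1]; exact Subgroup.pow_mem _ hggM _
    apply h.not_mem_of_order_two hs'
    have : s' = m * g := by rw [hg]; group
    rw [this]; exact mul_mem hm h2
  have hvf : v • f = f := by
    have h1 : g ∈ stabilizer G f := hgf
    exact (stabilizer G f).pow_mem h1 _
  exact h.nf v (Subgroup.pow_mem _ hgN _) (orderOf_two_iff.2 ⟨hvv, hv1⟩) f hf hvf

theorem smul_mem_Af (h : Ctx Ω p X s M) {f : Ω} {s' : G}
    (hs'N : s' ∈ normalizer (X : Set G)) (hs' : orderOf s' = 2) : s' • f ∈ Af s M f := by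
  refine ⟨s' * s, ?_, ?_⟩
  · have h1 := inv_mem (h.invol s' hs'N hs')
    rwa [mul_inv_rev, inv_eq_self_of_orderOf_eq_two h.hs, inv_eq_self_of_orderOf_eq_two hs'] at h1
  · rw [smul_smul, mul_assoc, (orderOf_two_iff.1 h.hs).1, mul_one]

theorem stab_Af (h : Ctx Ω p X s M) {f : Ω} {g : G} (hg : g ∈ normalizer (X : Set G)) (hgf : g • f = f)
    {a : Ω} (ha : a ∈ Af s M f) : g • a ∈ Af s M f := by
  obtain ⟨m, hm, rfl⟩ := ha
  have h1 : g * s * g⁻¹ * s⁻¹ ∈ M := by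
    have := inv_mem (h.comm g hg)
    have e : (s * g * s⁻¹ * g⁻¹)⁻¹ = g * s * g⁻¹ * s⁻¹ := by group
    rwa [e] at this
  refine ⟨(g * m * g⁻¹) * (g * s * g⁻¹ * s⁻¹), mul_mem (h.conj g hg m hm) h1, ?_⟩
  have hgf' : g⁻¹ • f = f := by rw [inv_smul_eq_iff]; exact hgf.symm
  calc (g * m * g⁻¹ * (g * s * g⁻¹ * s⁻¹)) • s • f = (g * m * s) • (g⁻¹ • f) := by
        rw [smul_smul, smul_smul]; congr 1; group
    _ = g • m • s • f := by rw [hgf', smul_smul, smul_smul, mul_assoc]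

theorem stab_Orb (h : Ctx Ω p X s M) {f : Ω} {g : G} (hg : g ∈ normalizer (X : Set G)) (hgf : g • f = f)
    {a : Ω} (ha : a ∈ Orb M f) : g • a ∈ Orb M f := by
  obtain ⟨m, hm, rfl⟩ := ha
  refine ⟨g * m * g⁻¹, h.conj g hg m hm, ?_⟩
  have hgf' : g⁻¹ • f = f := by rw [inv_smul_eq_iff]; exact hgf.symm
  rw [← smul_smul, hgf', smul_smul]

theorem Orb_sub (h : Ctx Ω p X s M) {f : Ω} (hf : f ∈ Fx Ω X) : Orb M f ⊆ Fx Ω X := by
  rintro _ ⟨m, hm, rfl⟩
  exact smul_mem_Fx (h.hMN hm) hf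

theorem Af_sub (h : Ctx Ω p X s M) {f : Ω} (hf : f ∈ Fx Ω X) : Af s M f ⊆ Fx Ω X := by
  rintro _ ⟨m, hm, rfl⟩
  exact smul_mem_Fx (h.hMN hm) (smul_mem_Fx h.hsN hf)

theorem not_both [Finite G] (h : Ctx Ω p X s M) {f : Ω} (hf : f ∈ Fx Ω X) {a : Ω} (h1 : a ∈ Orb M f)
    (h2 : a ∈ Af s M f) : False := by
  obtain ⟨m, hm, rfl⟩ := h1
  obtain ⟨m', hm', h3⟩ := h2
  apply h.ne_smul hf h.hsN h.hs (m := m'⁻¹ * m) (mul_mem (inv_mem hm') hm)
  rw [← smul_smul, ← h3, inv_smul_smul]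

theorem self_mem_Orb {f : Ω} : f ∈ Orb M f := ⟨1, one_mem _, one_smul _ _⟩

theorem eq_of_sub [Finite G] (h : Ctx Ω p X s M) {f : Ω} (hf : f ∈ Fx Ω X)
    (hsub : ∀ a ∈ Fx Ω X, a ≠ f → a ∈ Af s M f) : ∀ a ∈ Fx Ω X, a = f ∨ a = s • f := by
  have hM : ∀ m ∈ M, m • f = f := by
    intro m hm
    by_contra hne
    have h1 : m • f ∈ Orb M f := ⟨m, hm, rfl⟩
    exact h.not_both hf h1 (hsub _ (h.Orb_sub hf h1) hne)
  intro a ha
  by_cases haf : a = f
  · exact Or.inl haf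
  right
  obtain ⟨m, hm, rfl⟩ := hsub a ha haf
  have h1 : s⁻¹ * m * s ∈ M := by
    have := h.conj s⁻¹ (inv_mem h.hsN) m hm
    rwa [inv_inv] at this
  have h2 := hM _ h1
  calc m • s • f = s • ((s⁻¹ * m * s) • f) := by rw [smul_smul, smul_smul]; congr 1; group
    _ = s • f := by rw [h2]

theorem ncard_Af (h : Ctx Ω p X s M) {f : Ω} : (Af s M f).ncard = (Orb M f).ncard := by
  symm
  apply Set.ncard_congr (fun a _ => s • a)
  · rintro _ ⟨m, hm, rfl⟩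
    refine ⟨s * m * s⁻¹, h.conj s h.hsN m hm, ?_⟩
    rw [smul_smul, smul_smul]; congr 1; group
  · intro a b _ _ hab
    exact smul_left_cancel s hab
  · rintro _ ⟨m, hm, rfl⟩
    refine ⟨(s⁻¹ * m * s) • f, ⟨s⁻¹ * m * s, ?_, rfl⟩, ?_⟩
    · have := h.conj s⁻¹ (inv_mem h.hsN) m hm
      rwa [inv_inv] at this
    · rw [smul_smul, smul_smul]; congr 1; group

end Ctx

/-- counting fixed points of a `p`-group on an invariant set -/
theorem ncard_mod [Finite G] [Finite Ω] {p : ℕ} [hp : Fact p.Prime] {Y : Subgroup G} (hY : IsPGroup p Y)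
    {S : Set Ω} (hS : ∀ g ∈ Y, ∀ a ∈ S, g • a ∈ S) : S.ncard ≡ (S ∩ Fx Ω Y).ncard [MOD p] := by
  let T : SubMulAction Y Ω := { carrier := S, smul_mem' := fun g a ha => hS g g.2 a ha }
  have h1 := hY.card_modEq_card_fixedPoints T
  have h2 : Nat.card T = S.ncard := rfl
  have h3 : Nat.card ↑(fixedPoints Y T) = (S ∩ Fx Ω Y).ncard := by
    rw [← Nat.card_coe_set_eq]
    apply Nat.card_congr
    refine ⟨fun x => ⟨x.1.1, x.1.2, ?_⟩, fun x => ⟨⟨x.1, x.2.1⟩, ?_⟩, fun x => rfl, fun x => rfl⟩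
    · intro y hy
      exact congrArg Subtype.val (x.2 ⟨y, hy⟩)
    · intro y
      apply Subtype.ext
      exact x.2.2 y.2
  rw [h2, h3] at h1
  exact h1

theorem Ctx.mem_Af [Finite G] [Finite Ω] {p : ℕ} [hp : Fact p.Prime] (hp2 : p ≠ 2) {X : Subgroup G} {s : G}
    {M : Subgroup G} (h : Ctx Ω p X s M) {f f' : Ω} (hf : f ∈ Fx Ω X) {Y : Subgroup G} (hY : IsPGroup p Y)
    (hYN : Y ≤ normalizer (X : Set G)) (hYf : Fx Ω Y = {f, f'}) : f' ∈ Af s M f := by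
  by_contra hne
  have hfY : f ∈ Fx Ω Y := by rw [hYf]; simp
  have hgf : ∀ g ∈ Y, g • f = f := fun g hg => hfY hg
  have h1 := ncard_mod hY (S := Af s M f) (fun g hg a ha => h.stab_Af (hYN hg) (hgf g hg) ha)
  have h2 := ncard_mod hY (S := Orb M f) (fun g hg a ha => h.stab_Orb (hYN hg) (hgf g hg) ha)
  have h3 : Af s M f ∩ Fx Ω Y = ∅ := by
    rw [hYf, Set.eq_empty_iff_forall_notMem]
    rintro a ⟨ha1, rfl | ha2⟩
    · exact h.not_both hf Ctx.self_mem_Orb ha1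
    · rw [Set.mem_singleton_iff] at ha2
      rw [ha2] at ha1
      exact hne ha1
  rw [h3, Set.ncard_empty, h.ncard_Af] at h1
  have h4 := h1.symm.trans h2
  have h5 : 1 ≤ (Orb M f ∩ Fx Ω Y).ncard := by
    rw [Nat.one_le_iff_ne_zero, ← Nat.pos_iff_ne_zero, Set.ncard_pos]
    exact ⟨f, Ctx.self_mem_Orb, hfY⟩
  have h6 : (Orb M f ∩ Fx Ω Y).ncard ≤ 2 := by
    refine (Set.ncard_le_ncard Set.inter_subset_right (Set.toFinite _)).trans ?_
    rw [hYf]
    exact (Set.ncard_insert_le _ _).trans (by rw [Set.ncard_singleton])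
  have h7 : p ∣ (Orb M f ∩ Fx Ω Y).ncard := (Nat.modEq_zero_iff_dvd.1 h4.symm)
  have h8 := Nat.le_of_dvd (by omega) h7
  have h9 := hp.out.two_le
  have h10 : p = 2 := by omega
  exact hp2 h10

end Cfsg.Agent.Lib.BenP
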