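import Cfsg.Agent.Lib.BenPb

/-!
# Sylow subgroups of two-point stabilizers (helper95)
-/

set_option autoImplicit false
set_option linter.all false

open Subgroup MulAction Cfsg

namespace Cfsg.Agent.Lib.BenP

open Cfsg.Agent.Lib.InvAct Cfsg.Agent.Lib.SylAmb

variable {G : Type*} [Group G] {Ω : Type*} [MulAction G Ω]

/-- two-point stabilizer -/
abbrev D (G : Type*) [Group G] {Ω : Type*} [MulAction G Ω] (a b : Ω) : Subgroup G :=
  stabilizer G a ⊓ stabilizer G b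

theorem orderOf_conj' (g s : G) : orderOf (g * s * g⁻¹) = orderOf s := by
  have := orderOf_injective (MulAut.conj g).toMonoidHom (MulAut.conj g).injective s
  rw [← this]; rfl

theorem mem_normalizer_of_invol {X : Subgroup G} {s : G} (hs : orderOf s = 2)
    (h : ∀ x ∈ X, s * x * s⁻¹ ∈ X) : s ∈ normalizer (X : Set G) := by
  rw [mem_normalizer_iff]
  intro x
  refine ⟨h x, fun hx => ?_⟩
  have h1 := h _ hx
  have hss : s * s = 1 := (orderOf_two_iff.1 hs).1
  have e : s * (s * x * s⁻¹) * s⁻¹ = (s * s) * x * (s * s)⁻¹ := by group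
  rw [e, hss] at h1
  simpa using h1

section

variable (hU : UniqueFix G Ω)
include hU

theorem exists_invSwap [Finite G] [Finite Ω] [IsPretransitive G Ω] (hinv : ∃ t : G, orderOf t = 2) (a b : Ω) :
    (invSwap G a b).Nonempty := by
  obtain ⟨t, ht⟩ := hinv
  obtain ⟨c, hc, -⟩ := hU t ht
  have h1 : (invSwap G c c).Nonempty := ⟨t, ht, hc⟩
  have h2 : 0 < (invSwap G c c).ncard := (Set.ncard_pos (Set.toFinite _)).2 h1
  rw [ncard_invFix_eq c a, ← ncard_invSwap_eq hU a b] at h2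
  exact (Set.ncard_pos (Set.toFinite _)).1 h2

theorem odd_D [Finite G] {a b : Ω} (hab : a ≠ b) : Odd (Nat.card (D G a b)) := by
  rw [← Nat.not_even_iff_odd]
  intro h
  haveI : Fact (Nat.Prime 2) := ⟨Nat.prime_two⟩
  obtain ⟨t, ht⟩ := exists_prime_orderOf_dvd_card' (G := D G a b) 2 h.two_dvd
  have h1 : orderOf (t : G) = 2 := by rw [← ht]; exact Subgroup.orderOf_coe t
  exact not_mem_both hU hab h1 t.2.1 t.2.2

theorem invol_swap {a b : Ω} {s : G} (hs : s ∈ invSwap G a b) {x : G} (hx : x ∈ D G a b) :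
    s * x * s⁻¹ ∈ D G a b := by
  have hsb := smul_of_swap hs.1 hs.2
  have hsi : s⁻¹ = s := inv_eq_self_of_orderOf_eq_two hs.1
  refine ⟨?_, ?_⟩
  · show (s * x * s⁻¹) • a = a
    rw [← smul_smul, ← smul_smul, hsi, hs.2, show x • b = b from hx.2, hsb]
  · show (s * x * s⁻¹) • b = b
    rw [← smul_smul, ← smul_smul, hsi, hsb, show x • a = a from hx.1, hs.2]

/-- (S) -/
theorem exists_swap_normalizing [Finite G] [Finite Ω] [IsPretransitive G Ω] (hinv : ∃ t : G, orderOf t = 2)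
    {p : ℕ} [hp : Fact p.Prime] {a b : Ω} (hab : a ≠ b) {Q : Subgroup G} (hQ : IsSyl p Q (D G a b)) :
    ∃ s ∈ invSwap G a b, s ∈ normalizer (Q : Set G) := by
  obtain ⟨u, hu⟩ := exists_invSwap hU hinv a b
  have huN : u ∈ normalizer ((D G a b : Subgroup G) : Set G) :=
    mem_normalizer_of_invol hu.1 (fun x hx => invol_swap hU hu hx)
  have hA : zpowers u ≤ normalizer ((D G a b : Subgroup G) : Set G) := zpowers_le.2 huN
  have hcop : (Nat.card (zpowers u)).Coprime (Nat.card (D G a b)) := by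
    rw [Nat.card_zpowers, hu.1]
    exact Nat.coprime_two_left.2 (odd_D hU hab)
  have hsolv : Group.IsSolvable (zpowers u) := by
    apply Group.isSolvable_of_comm
    rintro ⟨_, i, rfl⟩ ⟨_, j, rfl⟩
    exact Subtype.ext (zpow_mul_comm u i j)
  obtain ⟨P, hP1, hP2, hP3, hP4⟩ := CoprimeAction.exists_invariant_sylow hA hcop (Or.inl hsolv) p
  have hP : IsSyl p P (D G a b) := ⟨hP1, hP2, hP3⟩
  obtain ⟨x, hx, rfl⟩ := hP.exists_conj hQ
  refine ⟨x * u * x⁻¹, ⟨?_, ?_⟩, ?_⟩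
  · rw [orderOf_conj']; exact hu.1
  · have hx1 : x⁻¹ • a = a := by rw [inv_smul_eq_iff]; exact (show x • a = a from hx.1).symm
    rw [← smul_smul, ← smul_smul, hx1, hu.2]
    exact hx.2
  · have h1 : u ∈ normalizer (P : Set G) := hP4 (mem_zpowers u)
    rw [← map_conj_normalizer]
    exact ⟨u, h1, rfl⟩

theorem card_syl_ge [Finite G] [Finite Ω] [IsPretransitive G Ω]
    {p : ℕ} [hp : Fact p.Prime] {a b : Ω} (hab : a ≠ b) {Q : Subgroup G} (hQ : IsSyl p Q (D G a b))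
    {s : G} (hs : s ∈ invSwap G a b) :
    p ^ ((invSwap G a a).ncard.factorization p) * Nat.card ↥(Q ⊓ centralizer ({s} : Set G)) ≤ Nat.card Q := by
  have h1 := card_two_point' hU hab hs
  have hn : (invSwap G a a).ncard ≠ 0 := by
    intro h0
    rw [h0, zero_mul] at h1
    exact Nat.card_pos.ne' h1
  have hm : Nat.card ↥(stabilizer G a ⊓ centralizer ({s} : Set G)) ≠ 0 := Nat.card_pos.ne'
  have h2 := hQ.card_eq
  change Nat.card Q = p ^ (Nat.card ↥(stabilizer G a ⊓ stabilizer G b)).factorization p at h2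
  rw [h1, Nat.factorization_mul hn hm, Finsupp.add_apply, pow_add] at h2
  rw [h2]
  apply Nat.mul_le_mul_left
  have h3 : Q ⊓ centralizer ({s} : Set G) ≤ stabilizer G a ⊓ centralizer ({s} : Set G) :=
    inf_le_inf_right _ (hQ.1.trans inf_le_left)
  have h4 : IsPGroup p ↥(Q ⊓ centralizer ({s} : Set G)) := hQ.2.1.to_le inf_le_left
  obtain ⟨R, hR1, hR2⟩ := exists_isSyl_ge h4 h3
  rw [← hR2.card_eq]
  exact Nat.le_of_dvd Nat.card_pos (card_dvd_of_le hR1)

/-- uniqueness in the Latin square -/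
theorem latin [Finite G] [Finite Ω] [IsPretransitive G Ω] {e e' : Ω} (hee : e ≠ e') {v w1 w2 : G}
    (hv : v ∈ invSwap G e e) (h1 : w1 ∈ invSwap G e e') (h2 : w2 ∈ invSwap G e e')
    (h : w1 * v * w1⁻¹ = w2 * v * w2⁻¹) : w1 = w2 := by
  refine Set.inj_on_of_surj_on_of_ncard_le (s := invSwap G e e') (t := invSwap G e' e')
    (fun w _ => w * v * w⁻¹) ?_ ?_ ?_ h1 h2 h (Set.toFinite _)
  · intro w hw
    refine ⟨?_, ?_⟩
    · rw [orderOf_conj']; exact hv.1
    · have := smul_of_swap hw.1 hw.2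
      rw [← smul_smul, ← smul_smul, inv_eq_self_of_orderOf_eq_two hw.1, this, hv.2, hw.2]
  · intro t ht
    obtain ⟨w, hw1, hw2, hw3⟩ := exists_swap hU hv.1 ht.1 hv.2 ht.2 hee
    exact ⟨w, ⟨hw1, hw3⟩, hw2⟩
  · rw [ncard_invSwap_eq hU e e', ncard_invFix_eq e e']

/-- if `Fx Q = {a,b}` then `Q` is a Sylow subgroup of `G` -/
theorem syl_top [Finite G] {p : ℕ} [hp : Fact p.Prime] (hp2 : p ≠ 2) {a b : Ω} (hab : a ≠ b)
    {Q : Subgroup G} (hQ : IsSyl p Q (D G a b)) (hF : Fx Ω Q = {a, b}) : IsSyl p Q ⊤ := by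
  obtain ⟨R, hQR, hR⟩ := exists_isSyl_ge hQ.2.1 (le_top : Q ≤ ⊤)
  by_cases hne : Q = R
  · rw [hne]; exact hR
  exfalso
  have hlt := lt_inf_normalizer hR.2.1 (lt_of_le_of_ne hQR hne)
  have hWp : IsPGroup p ↥(R ⊓ normalizer (Q : Set G)) := hR.2.1.to_le inf_le_left
  have hmem : ∀ c : Ω, c ∈ Fx Ω Q ↔ c = a ∨ c = b := by
    intro c; rw [hF]; rfl
  -- every element fixes both points
  have key : ∀ w ∈ R ⊓ normalizer (Q : Set G), ∀ c d : Ω, c ≠ d → (∀ x : Ω, x ∈ Fx Ω Q ↔ x = c ∨ x = d) → w • c = c := by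
    intro w hw c d hcd hm
    have h1 : w • c ∈ Fx Ω Q := smul_mem_Fx hw.2 ((hm c).2 (Or.inl rfl))
    have h2 : w • d ∈ Fx Ω Q := smul_mem_Fx hw.2 ((hm d).2 (Or.inr rfl))
    have h3 : (w * w) • c = c := by
      rw [← smul_smul]
      rcases (hm _).1 h1 with h4 | h4
      · rw [h4, h4]
      · rcases (hm _).1 h2 with h5 | h5
        · rw [h4, h5]
        · exfalso
          apply hcd
          apply smul_left_cancel w
          rw [h4, h5]
    obtain ⟨k, hk⟩ := IsPGroup.iff_orderOf.1 hWp ⟨w, hw⟩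
    rw [Subgroup.orderOf_mk] at hk
    have hodd : Odd (orderOf w) := by
      rw [hk]
      exact (hp.out.odd_of_ne_two hp2).pow
    obtain ⟨j, hj⟩ := hodd
    have h4 : w = (w * w) ^ (j + 1) := by
      have : w ^ (2 * j + 1) = 1 := by rw [← hj]; exact pow_orderOf_eq_one _
      calc w = w ^ (2 * j + 1) * w := by rw [this, one_mul]
        _ = (w * w) ^ (j + 1) := by rw [← sq, ← pow_mul, ← pow_succ]; congr 1
    have h5 : w * w ∈ stabilizer G c := h3
    rw [h4]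
    exact (stabilizer G c).pow_mem h5 _
  have hWD : R ⊓ normalizer (Q : Set G) ≤ D G a b := by
    intro w hw
    exact ⟨key w hw a b hab hmem, key w hw b a hab.symm (fun x => by rw [hmem]; exact or_comm)⟩
  exact absurd (hQ.eq_of_le hWp hWD hlt.le) hlt.ne

end

/-- the elements of `Y` inverted by `s` -/
def Inv (Y : Subgroup G) (s : G) : Set G := {y | y ∈ Y ∧ s * y * s⁻¹ = y⁻¹}

theorem inv_conj_eq {Y : Subgroup G} {s y : G} (hy : y ∈ Inv Y s) : y * s * y⁻¹ = y * y * s := by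
  have h1 : s * y⁻¹ * s⁻¹ = y := by
    have := congrArg (·⁻¹) hy.2
    simp only [mul_inv_rev, inv_inv] at this
    rw [← mul_assoc] at this
    exact this
  calc y * s * y⁻¹ = y * (s * y⁻¹ * s⁻¹) * s := by group
    _ = y * y * s := by rw [h1]

theorem eq_of_sq_eq [Finite G] {p : ℕ} [hp : Fact p.Prime] (hp2 : p ≠ 2) {Y : Subgroup G} (hY : IsPGroup p Y)
    {y1 y2 : G} (h1 : y1 ∈ Y) (h2 : y2 ∈ Y) (h : y1 * y1 = y2 * y2) : y1 = y2 := by
  have hodd : Odd (Nat.card Y) := by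
    obtain ⟨n, hn⟩ := IsPGroup.iff_card.1 hY
    rw [hn]; exact (hp.out.odd_of_ne_two hp2).pow
  obtain ⟨k, hk⟩ := hodd
  have key : ∀ y ∈ Y, y = (y * y) ^ (k + 1) := by
    intro y hy
    have h3 : y ^ Nat.card Y = 1 := by
      have := pow_card_eq_one' (x := (⟨y, hy⟩ : Y))
      exact congrArg Subtype.val this
    rw [hk] at h3
    calc y = y ^ (2 * k + 1) * y := by rw [h3, one_mul]
      _ = (y * y) ^ (k + 1) := by rw [← sq, ← pow_mul, ← pow_succ]; congr 1
  rw [key y1 h1, key y2 h2, h]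

/-- `|Y⁻| |C_Y(s)| ≤ |Y|` -/
theorem ncard_Inv_mul_le [Finite G] {p : ℕ} [hp : Fact p.Prime] (hp2 : p ≠ 2) {Y : Subgroup G} (hY : IsPGroup p Y)
    (s : G) : (Inv Y s).ncard * Nat.card ↥(Y ⊓ centralizer ({s} : Set G)) ≤ Nat.card Y := by
  rw [card_conj_orbit Y s]
  apply Nat.mul_le_mul_right
  apply Set.ncard_le_ncard_of_injOn (fun y => y * s * y⁻¹)
  · intro y hy
    exact ⟨y, hy.1, rfl⟩
  · intro y1 h1 y2 h2 h
    simp only at h
    rw [inv_conj_eq h1, inv_conj_eq h2] at h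
    exact eq_of_sq_eq hp2 hY h1.1 h2.1 (mul_right_cancel h)

/-- `|Y| ≤ |Y⁻| |C_Y(s)|` -/
theorem le_ncard_Inv [Finite G] {Y : Subgroup G} {s : G} (hs : orderOf s = 2) (hsN : s ∈ normalizer (Y : Set G)) :
    Nat.card Y ≤ (Inv Y s).ncard * Nat.card ↥(Y ⊓ centralizer ({s} : Set G)) := by
  conv_lhs => rw [card_conj_orbit Y s]
  apply Nat.mul_le_mul_right
  have hsi : s⁻¹ = s := inv_eq_self_of_orderOf_eq_two hs
  have hss : s * s = 1 := (orderOf_two_iff.1 hs).1
  apply Set.ncard_le_ncard_of_injOn (fun v => s * v)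
  · rintro _ ⟨k, hk, rfl⟩
    refine ⟨?_, ?_⟩
    · have h1 : s * k * s⁻¹ ∈ Y := (mem_normalizer_iff.1 hsN k).1 hk
      have : s * (k * s * k⁻¹) = (s * k * s⁻¹) * k⁻¹ := by rw [hsi]; group
      show s * (k * s * k⁻¹) ∈ Y
      rw [this]
      exact Y.mul_mem h1 (Y.inv_mem hk)
    · show s * (s * (k * s * k⁻¹)) * s⁻¹ = (s * (k * s * k⁻¹))⁻¹
      calc s * (s * (k * s * k⁻¹)) * s⁻¹ = (s * s) * k * s * k⁻¹ * s⁻¹ := by group
        _ = k * s⁻¹ * k⁻¹ * s⁻¹ := by rw [hss, hsi]; group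
        _ = (s * (k * s * k⁻¹))⁻¹ := by group
  · intro a _ b _ h
    exact mul_left_cancel h

end Cfsg.Agent.Lib.BenP
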