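import Cfsg.Agent.Lib.BenPc

/-!
# A criterion for double transitivity (helper23, helper95)
-/

set_option autoImplicit false
set_option linter.all false

open Subgroup MulAction Cfsg

namespace Cfsg.Agent.Lib.BenP

open Cfsg.Agent.Lib.InvAct Cfsg.Agent.Lib.SylAmb

variable {G : Type*} [Group G] {Ω : Type*} [MulAction G Ω]

variable (G Ω) in
/-- the hypothesis (*) -/
def Star (p : ℕ) : Prop :=
  ∀ (c f : Ω) (v : G) (X : Subgroup G), orderOf v = 2 → v • c = c → f ≠ c → IsPGroup p X →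
    X ≤ stabilizer G c → X ≤ stabilizer G f → v ∈ normalizer (X : Set G) →
    Nat.card X < p ^ ((invSwap G c c).ncard.factorization p) * Nat.card ↥(X ⊓ centralizer ({v} : Set G))

variable [Finite G] [Finite Ω] [IsPretransitive G Ω] {p : ℕ} [hp : Fact p.Prime]

section

variable (hU : UniqueFix G Ω) (hinv : ∃ t : G, orderOf t = 2) (hp2 : p ≠ 2) (hstar : Star G Ω p)
include hU hstar

/-- Step 1 -/
theorem nf_of_syl {a b : Ω} (hab : a ≠ b) {Q : Subgroup G} (hQ : IsSyl p Q (D G a b)) {s : G}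
    (hs : s ∈ invSwap G a b) (hsN : s ∈ normalizer (Q : Set G)) : NF Ω Q := by
  apply NF_of hU hsN hs.1
  intro e he hse
  have hae : a ≠ e := by
    rintro rfl
    exact hab (by rw [← hse]; exact hs.2)
  have h1 := hstar e a s Q hs.1 hse hae hQ.2.1 he (hQ.1.trans inf_le_left) hsN
  have h2 := card_syl_ge hU hab hQ hs
  rw [ncard_invFix_eq a e] at h2
  omega

include hinv hp2

/-- Step 2 -/
theorem exists_two (h2 : ∃ a b : Ω, a ≠ b) : ∃ (a b : Ω) (P : Subgroup G), a ≠ b ∧ IsSyl p P ⊤ ∧ Fx Ω P = {a, b} := by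
  classical
  obtain ⟨a1, b1, hab1⟩ := h2
  have : Nonempty {ab : Ω × Ω // ab.1 ≠ ab.2} := ⟨⟨(a1, b1), hab1⟩⟩
  obtain ⟨⟨⟨a, b⟩, hab⟩, hmax⟩ := Finite.exists_max
    (fun ab : {ab : Ω × Ω // ab.1 ≠ ab.2} => (Nat.card (D G ab.1.1 ab.1.2)).factorization p)
  simp only at hab
  obtain ⟨P, -, hP⟩ := exists_isSyl_ge (p := p) (R := (⊥ : Subgroup G)) (N := D G a b) IsPGroup.of_bot bot_le
  obtain ⟨s, hs, hsN⟩ := exists_swap_normalizing hU hinv hab hP
  have hNF := nf_of_syl hU hstar hab hP hs hsN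
  obtain ⟨M, hM⟩ := exists_ctx hU hp2 hP.2.1 hNF hsN hs.1
  have ha : a ∈ Fx Ω P := hP.1.trans inf_le_left
  have hb : b ∈ Fx Ω P := hP.1.trans inf_le_right
  have h1 : ∀ h ∈ Fx Ω P, h ≠ a → h ∈ Af s M a := by
    intro h hh hha
    have hPD : P ≤ D G a h := le_inf ha hh
    obtain ⟨R, -, hR⟩ := exists_isSyl_ge (p := p) (R := (⊥ : Subgroup G)) (N := D G a h) IsPGroup.of_bot bot_le
    have hPs : IsSyl p P (D G a h) := by
      apply isSyl_of_card_ge hR hP.2.1 hPD
      rw [hR.card_eq, hP.card_eq]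
      exact Nat.pow_le_pow_right hp.out.pos (hmax ⟨(a, h), Ne.symm hha⟩)
    obtain ⟨s', hs', hs'N⟩ := exists_swap_normalizing hU hinv (Ne.symm hha) hPs
    rw [← hs'.2]
    exact hM.smul_mem_Af hs'N hs'.1
  have h2 := hM.eq_of_sub ha h1
  have hF : Fx Ω P = {a, b} := by
    ext x
    constructor
    · intro hx
      rcases h2 x hx with h3 | h3
      · exact Or.inl h3
      · right; rw [h3]; exact hs.2
    · rintro (rfl | hx)
      · exact ha
      · rw [Set.mem_singleton_iff] at hx; rw [hx]; exact hb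
  exact ⟨a, b, P, hab, syl_top hU hp2 hab hP hF, hF⟩

end

/-- the conclusion of step 2 -/
structure Two (p : ℕ) (a b : Ω) (P : Subgroup G) : Prop where
  ne : a ≠ b
  syl : IsSyl p P ⊤
  fx : Fx Ω P = {a, b}

omit [Finite Ω] in
theorem Two.all {a b : Ω} {P : Subgroup G} (h : Two p a b P) {R : Subgroup G} (hR : IsSyl p R ⊤) :
    ∃ g : G, P.map (MulAut.conj g).toMonoidHom = R ∧ Fx Ω R = {g • a, g • b} := by
  obtain ⟨g, -, rfl⟩ := h.syl.exists_conj hR
  refine ⟨g, rfl, ?_⟩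
  ext x
  have h1 : x = g • g⁻¹ • x := by rw [smul_inv_smul]
  rw [h1, mem_Fx_conj, h.fx]
  simp only [Set.mem_insert_iff, Set.mem_singleton_iff, smul_left_cancel_iff]

omit [Finite Ω] in
theorem Two.ncard {a b : Ω} {P : Subgroup G} (h : Two p a b P) {R : Subgroup G} (hR : IsSyl p R ⊤) :
    (Fx Ω R).ncard = 2 := by
  obtain ⟨g, -, h1⟩ := h.all hR
  rw [h1, Set.ncard_pair]
  intro h2
  exact h.ne (smul_left_cancel g h2)

omit [Finite Ω] in
/-- every `p`-subgroup of `G_f` is contained in a Sylow subgroup of `G` in `G_f` -/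
theorem Two.exists_ge {a b : Ω} {P : Subgroup G} (h : Two p a b P) {X : Subgroup G} (hX : IsPGroup p X)
    {f : Ω} (hXf : X ≤ stabilizer G f) : ∃ R, X ≤ R ∧ IsSyl p R ⊤ ∧ R ≤ stabilizer G f := by
  obtain ⟨R, hXR, hR⟩ := exists_isSyl_ge hX hXf
  refine ⟨R, hXR, ?_, hR.1⟩
  obtain ⟨g, hg⟩ := exists_smul_eq G a f
  have ha : a ∈ Fx Ω P := by rw [h.fx]; simp
  have h1 : P.map (MulAut.conj g).toMonoidHom ≤ stabilizer G f := by
    rw [← hg]
    exact mem_Fx_conj.2 ha
  have h2 : IsSyl p (P.map (MulAut.conj g).toMonoidHom) ⊤ := by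
    have := h.syl.conj g
    have h3 : (⊤ : Subgroup G).map (MulAut.conj g).toMonoidHom = ⊤ := by
      rw [eq_top_iff]; intro x _
      rw [mem_map_conj_iff]; trivial
    rwa [h3] at this
  apply isSyl_of_card_ge h2 hR.2.1 le_top
  exact hR.card_le h2.2.1 h1

/-- Step 4 -/
theorem Two.step4 (hU : UniqueFix G Ω) (hinv : ∃ t : G, orderOf t = 2) (hp2 : p ≠ 2)
    {a b : Ω} {P : Subgroup G} (h : Two p a b P) {X : Subgroup G} (hX : IsPGroup p X)
    (h3 : 3 ≤ (Fx Ω X).ncard) (hmax : ∀ Y : Subgroup G, IsPGroup p Y → X < Y → (Fx Ω Y).ncard < 3) :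
    ∃ v ∈ normalizer (X : Set G), orderOf v = 2 ∧ ∃ e ∈ Fx Ω X, v • e = e := by
  classical
  by_contra hcon
  have hNF : NF Ω X := by
    intro v hv hv2 e he hve
    exact hcon ⟨v, hv, hv2, e, he, hve⟩
  set N := normalizer (X : Set G) with hN
  -- overgroups
  have hV : ∀ (f : Ω) (Y : Subgroup G), IsPGroup p Y → X < Y → Y ≤ stabilizer G f →
      (Fx Ω Y).ncard = 2 ∧ f ∈ Fx Ω Y := by
    intro f Y hY hXY hYf
    obtain ⟨R, hYR, hR, hRf⟩ := h.exists_ge hY hYf
    have h1 := h.ncard hR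
    have h2 := hmax Y hY hXY
    have h4 := Set.ncard_le_ncard (Fx_anti (Ω := Ω) hYR) (Set.toFinite _)
    exact ⟨by omega, hYf⟩
  have hpair : ∀ (f g : Ω) (S : Set Ω), S.ncard = 2 → f ∈ S → g ∈ S → f ≠ g → S = {f, g} := by
    intro f g S hS hf hg hfg
    symm
    apply Set.eq_of_subset_of_ncard_le (ht := Set.toFinite _)
    · rintro x (rfl | hx)
      · exact hf
      · rw [Set.mem_singleton_iff] at hx; rw [hx]; exact hg
    · rw [hS, Set.ncard_pair hfg]
  -- normalizer in an overgroup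
  have hW : ∀ R : Subgroup G, IsPGroup p R → X < R → X < R ⊓ N := fun R hR hXR => lt_inf_normalizer hR hXR
  -- (T)
  have hT : ∀ f ∈ Fx Ω X, ∃ (f' : Ω) (Y : Subgroup G), f ≠ f' ∧ X ≤ Y ∧ IsSyl p Y (N ⊓ stabilizer G f) ∧
      Fx Ω Y = {f, f'} := by
    intro f hf
    obtain ⟨Y, hXY, hY⟩ := exists_isSyl_ge hX (le_inf le_normalizer hf : X ≤ N ⊓ stabilizer G f)
    obtain ⟨R, hXR, hR, hRf⟩ := h.exists_ge hX hf
    have hne : X ≠ R := by
      rintro rfl
      have := h.ncard hR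
      omega
    have h1 := hW R hR.2.1 (lt_of_le_of_ne hXR hne)
    have h2 : R ⊓ N ≤ N ⊓ stabilizer G f := le_inf inf_le_right (inf_le_left.trans hRf)
    have h4 := hY.card_le (hR.2.1.to_le inf_le_left : IsPGroup p ↥(R ⊓ N)) h2
    have hXYlt : X < Y := by
      refine lt_of_le_of_ne hXY ?_
      intro heq
      rw [← heq] at h4
      exact absurd (Subgroup.eq_of_le_of_card_ge h1.le h4) h1.ne
    obtain ⟨h5, h6⟩ := hV f Y hY.2.1 hXYlt (hY.1.trans inf_le_right)
    obtain ⟨x, y, hxy, hS⟩ := Set.ncard_eq_two.1 h5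
    rw [hS] at h6
    rcases h6 with h6 | h6
    · exact ⟨y, Y, by rw [h6]; exact hxy, hXY, hY, by rw [hS, h6]⟩
    · rw [Set.mem_singleton_iff] at h6
      exact ⟨x, Y, by rw [h6]; exact hxy.symm, hXY, hY, by rw [hS, h6]; exact Set.pair_comm _ _⟩
  -- (U)
  have hUU : ∀ f ∈ Fx Ω X, ∀ g ∈ Fx Ω X, f ≠ g → IsSyl p X (D G f g) ∨
      ∃ Y : Subgroup G, IsSyl p Y (N ⊓ stabilizer G f) ∧ Fx Ω Y = {f, g} := by
    intro f hf g hg hfg
    obtain ⟨R, hXR, hR⟩ := exists_isSyl_ge hX (le_inf hf hg : X ≤ D G f g)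
    by_cases hne : X = R
    · left; rw [hne]; exact hR
    right
    have h1 := hW R hR.2.1 (lt_of_le_of_ne hXR hne)
    have hWp : IsPGroup p ↥(R ⊓ N) := hR.2.1.to_le inf_le_left
    have h2 : R ⊓ N ≤ N ⊓ stabilizer G f := le_inf inf_le_right (inf_le_left.trans (hR.1.trans inf_le_left))
    obtain ⟨Y, hWY, hY⟩ := exists_isSyl_ge hWp h2
    refine ⟨Y, hY, ?_⟩
    obtain ⟨h5, h6⟩ := hV f (R ⊓ N) hWp h1 (h2.trans inf_le_right)
    obtain ⟨h7, h8⟩ := hV f Y hY.2.1 (lt_of_lt_of_le h1 hWY) (hY.1.trans inf_le_right)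
    have hg' : g ∈ Fx Ω (R ⊓ N) := inf_le_left.trans (hR.1.trans inf_le_right)
    have h9 := hpair f g _ h5 h6 hg' hfg
    apply Set.eq_of_subset_of_ncard_le (ht := Set.toFinite _)
    · rw [← h9]; exact Fx_anti hWY
    · rw [h7, Set.ncard_pair hfg]
  -- transport
  have hconj : ∀ (f f' g : Ω) (Y Y' : Subgroup G), f ≠ g → IsSyl p Y (N ⊓ stabilizer G f) →
      IsSyl p Y' (N ⊓ stabilizer G f) → Fx Ω Y = {f, f'} → Fx Ω Y' = {f, g} →
      ∃ l ∈ N, l • f = f ∧ l • f' = g := by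
    intro f f' g Y Y' hfg hY hY' hF hF'
    obtain ⟨l, hl, hlY⟩ := hY.exists_conj hY'
    have hlf : l • f = f := hl.2
    refine ⟨l, hl.1, hlf, ?_⟩
    have h1 : g ∈ Fx Ω Y' := by rw [hF']; simp
    rw [← hlY] at h1
    have h2 : g = l • l⁻¹ • g := by rw [smul_inv_smul]
    rw [h2, mem_Fx_conj, hF] at h1
    rcases h1 with h1 | h1
    · exfalso
      apply hfg
      rw [h2, h1, hlf]
    · rw [Set.mem_singleton_iff] at h1
      rw [← h1, smul_inv_smul]
  have hne : (Fx Ω X).Nonempty := by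
    rw [← Set.ncard_pos (Set.toFinite _)]; omega
  by_cases hinvN : ∃ s ∈ N, orderOf s = 2
  · obtain ⟨s, hsN, hs⟩ := hinvN
    obtain ⟨M, hM⟩ := exists_ctx hU hp2 hX hNF hsN hs
    obtain ⟨f, hf⟩ := hne
    obtain ⟨f', Y, hff', hXY, hY, hFY⟩ := hT f hf
    have hf'A := hM.mem_Af hp2 hf hY.2.1 (hY.1.trans inf_le_left) hFY
    have h1 : ∀ g ∈ Fx Ω X, g ≠ f → g ∈ Af s M f := by
      intro g hg hgf
      rcases hUU f hf g hg (Ne.symm hgf) with h2 | ⟨Y', hY', hFY'⟩
      · obtain ⟨s', hs', hs'N⟩ := exists_swap_normalizing hU hinv (Ne.symm hgf) h2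
        rw [← hs'.2]
        exact hM.smul_mem_Af hs'N hs'.1
      · obtain ⟨l, hl, hlf, hlg⟩ := hconj f f' g Y Y' (Ne.symm hgf) hY hY' hFY hFY'
        rw [← hlg]
        exact hM.stab_Af hl hlf hf'A
    have h2 := hM.eq_of_sub hf h1
    have h4 : Fx Ω X ⊆ {f, s • f} := fun x hx => by
      rcases h2 x hx with h5 | h5
      · exact Or.inl h5
      · exact Or.inr h5
    have h5 := (Set.ncard_le_ncard h4 (Set.toFinite _)).trans (Set.ncard_insert_le _ _)
    rw [Set.ncard_singleton] at h5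
    omega
  · have hNodd : Odd (Nat.card N) := by
      rw [← Nat.not_even_iff_odd]
      intro hev
      haveI : Fact (Nat.Prime 2) := ⟨Nat.prime_two⟩
      obtain ⟨t, ht⟩ := exists_prime_orderOf_dvd_card' (G := N) 2 hev.two_dvd
      exact hinvN ⟨t, t.2, by rw [← ht]; exact Subgroup.orderOf_coe t⟩
    have htr : ∀ f ∈ Fx Ω X, ∃ f', f' ∈ Fx Ω X ∧ f ≠ f' ∧
        ∀ g ∈ Fx Ω X, f ≠ g → ∃ l ∈ N, l • f = f ∧ l • f' = g := by
      intro f hf
      obtain ⟨f', Y, hff', hXY, hY, hFY⟩ := hT f hf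
      refine ⟨f', ?_, hff', ?_⟩
      · apply Fx_anti hXY
        rw [hFY]; simp
      intro g hg hfg
      rcases hUU f hf g hg hfg with h2 | ⟨Y', hY', hFY'⟩
      · obtain ⟨s', hs', hs'N⟩ := exists_swap_normalizing hU hinv hfg h2
        exact absurd ⟨s', hs'N, hs'.1⟩ hinvN
      · exact hconj f f' g Y Y' hfg hY hY' hFY hFY'
    -- counting
    have horb : ∀ (K : Subgroup G) (x : Ω), Set.ncard {y : Ω | ∃ l ∈ K, l • x = y} ∣ Nat.card K := by
      intro K x
      have h1 : MulAction.orbit K x = {y : Ω | ∃ l ∈ K, l • x = y} := by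
        ext y
        constructor
        · rintro ⟨l, hl⟩
          exact ⟨l, l.2, hl⟩
        · rintro ⟨l, hl, hy⟩
          exact ⟨⟨l, hl⟩, hy⟩
      rw [← h1, ← MulAction.index_stabilizer K x]
      exact Subgroup.index_dvd_card _
    obtain ⟨f, hf⟩ := hne
    have ho1 : Odd ((Fx Ω X).ncard) := by
      have h1 : {y : Ω | ∃ l ∈ N, l • f = y} = Fx Ω X := by
        ext y
        constructor
        · rintro ⟨l, hl, rfl⟩
          exact smul_mem_Fx hl hf
        · intro hy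
          by_cases hyf : y = f
          · exact ⟨1, one_mem _, by rw [one_smul, hyf]⟩
          · -- third point
            obtain ⟨k, hk, hkf, hky⟩ : ∃ k ∈ Fx Ω X, k ≠ f ∧ k ≠ y := by
              by_contra hc
              push Not at hc
              have h4 : Fx Ω X ⊆ {f, y} := by
                intro k hk
                by_cases hkf : k = f
                · exact Or.inl hkf
                · exact Or.inr (hc k hk hkf)
              have h5 := (Set.ncard_le_ncard h4 (Set.toFinite _)).trans (Set.ncard_insert_le _ _)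
              rw [Set.ncard_singleton] at h5
              omega
            obtain ⟨k', -, -, hk'⟩ := htr k hk
            obtain ⟨l1, hl1, -, h6⟩ := hk' f hf hkf
            obtain ⟨l2, hl2, -, h7⟩ := hk' y hy hky
            refine ⟨l2 * l1⁻¹, mul_mem hl2 (inv_mem hl1), ?_⟩
            rw [← smul_smul, ← h6, inv_smul_smul, h7]
      have h2 := horb N f
      rw [h1] at h2
      exact hNodd.of_dvd_nat h2
    have ho2 : Odd ((Fx Ω X).ncard - 1) := by
      obtain ⟨f', hf'X, hff', hf'⟩ := htr f hf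
      have h1 : {y : Ω | ∃ l ∈ N ⊓ stabilizer G f, l • f' = y} = Fx Ω X \ {f} := by
        ext y
        constructor
        · rintro ⟨l, hl, rfl⟩
          refine ⟨smul_mem_Fx hl.1 hf'X, ?_⟩
          intro h4
          rw [Set.mem_singleton_iff] at h4
          apply hff'
          apply smul_left_cancel l
          rw [h4]
          exact hl.2
        · rintro ⟨hy1, hy2⟩
          obtain ⟨l, hl, hlf, hly⟩ := hf' y hy1 (fun h => hy2 h.symm)
          exact ⟨l, ⟨hl, hlf⟩, hly⟩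
      have h2 := horb (N ⊓ stabilizer G f) f'
      rw [h1, Set.ncard_diff_singleton_of_mem hf] at h2
      have h4 : Odd (Nat.card ↥(N ⊓ stabilizer G f)) := hNodd.of_dvd_nat (card_dvd_of_le inf_le_left)
      exact h4.of_dvd_nat h2
    obtain ⟨i, hi⟩ := ho1
    obtain ⟨j, hj⟩ := ho2
    omega

end Cfsg.Agent.Lib.BenP
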