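import Cfsg.Agent.Lib.BenPd

/-!
# A criterion for double transitivity: conclusion (helper23, helper95)
-/

set_option autoImplicit false
set_option linter.all false

open Subgroup MulAction Cfsg

namespace Cfsg.Agent.Lib.BenP

open Cfsg.Agent.Lib.InvAct Cfsg.Agent.Lib.SylAmb

variable {G : Type*} [Group G] {Ω : Type*} [MulAction G Ω]
variable [Finite G] [Finite Ω] [IsPretransitive G Ω] {p : ℕ} [hp : Fact p.Prime]

omit [Finite Ω] [IsPretransitive G Ω] in
theorem exists_maximal_three {Y : Subgroup G} (hY : IsPGroup p Y) (h3 : 3 ≤ (Fx Ω Y).ncard) :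
    ∃ X : Subgroup G, Y ≤ X ∧ IsPGroup p X ∧ 3 ≤ (Fx Ω X).ncard ∧
      ∀ Z : Subgroup G, IsPGroup p Z → X < Z → (Fx Ω Z).ncard < 3 := by
  obtain ⟨X, ⟨hYX, hXp, hX3⟩, hmax⟩ := Set.Finite.exists_maximalFor (fun X : Subgroup G => Nat.card X)
    {X : Subgroup G | Y ≤ X ∧ IsPGroup p X ∧ 3 ≤ (Fx Ω X).ncard} (Set.toFinite _) ⟨Y, le_rfl, hY, h3⟩
  refine ⟨X, hYX, hXp, hX3, fun Z hZ hXZ => ?_⟩
  by_contra hcon
  push Not at hcon
  have h1 := hmax (j := Z) ⟨hYX.trans hXZ.le, hZ, hcon⟩ (Nat.le_of_dvd Nat.card_pos (card_dvd_of_le hXZ.le))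
  exact absurd (Subgroup.eq_of_le_of_card_ge hXZ.le h1) hXZ.ne

/-- Step 5 -/
theorem fx_eq (hU : UniqueFix G Ω) (hinv : ∃ t : G, orderOf t = 2) (hp2 : p ≠ 2) (hstar : Star G Ω p)
    {a b : Ω} (hab : a ≠ b) {Q : Subgroup G} (hQ : IsSyl p Q (D G a b)) : Fx Ω Q = {a, b} := by
  classical
  obtain ⟨a0, b0, P, h1, h2, h3⟩ := exists_two hU hinv hp2 hstar ⟨a, b, hab⟩
  have hT : Two p a0 b0 P := ⟨h1, h2, h3⟩
  obtain ⟨s, hs, hsN⟩ := exists_swap_normalizing hU hinv hab hQ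
  set np := p ^ ((invSwap G a a).ncard.factorization p) with hnp
  have hn : ∀ c : Ω, p ^ ((invSwap G c c).ncard.factorization p) = np := by
    intro c; rw [hnp, ncard_invFix_eq c a]
  have hQ1 := card_syl_ge hU hab hQ hs
  rw [hn] at hQ1
  have hQ2 := le_ncard_Inv hs.1 hsN
  have hpos : 0 < Nat.card ↥(Q ⊓ centralizer ({s} : Set G)) := Nat.card_pos
  have hQ3 : np ≤ (Inv Q s).ncard := Nat.le_of_mul_le_mul_right (hQ1.trans hQ2) hpos
  set Y : Subgroup G := closure (Inv Q s) with hYdef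
  have hYQ : Y ≤ Q := (closure_le Q).2 (fun y hy => hy.1)
  have hYp : IsPGroup p Y := hQ.2.1.to_le hYQ
  have hsY : s ∈ normalizer (Y : Set G) := by
    apply mem_normalizer_of_invol hs.1
    intro x hx
    have h4 : Y.map (MulAut.conj s).toMonoidHom ≤ Y := by
      rw [hYdef, MonoidHom.map_closure, closure_le]
      rintro _ ⟨y, hy, rfl⟩
      have h5 : (MulAut.conj s).toMonoidHom y = y⁻¹ := hy.2
      rw [h5]
      exact Subgroup.inv_mem _ (subset_closure hy)
    exact h4 ⟨x, hx, rfl⟩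
  have hsub : Inv Q s ⊆ Inv Y s := fun y hy => ⟨subset_closure hy, hy.2⟩
  have hYn : np ≤ (Inv Y s).ncard := hQ3.trans (Set.ncard_le_ncard hsub (Set.toFinite _))
  have haY : a ∈ Fx Ω Y := hYQ.trans (hQ.1.trans inf_le_left)
  have hbY : b ∈ Fx Ω Y := hYQ.trans (hQ.1.trans inf_le_right)
  -- (i)
  have hi : ∀ e ∈ Fx Ω Y, s • e ≠ e := by
    intro e he hse
    have hae : a ≠ e := by
      rintro rfl
      exact hab (by rw [← hse]; exact hs.2)
    have h4 := hstar e a s Y hs.1 hse hae hYp he haY hsY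
    rw [hn] at h4
    have h5 := ncard_Inv_mul_le hp2 hYp s
    have h6 := Nat.mul_le_mul_right (Nat.card ↥(Y ⊓ centralizer ({s} : Set G))) hYn
    omega
  -- (ii)
  have hii : ∀ e ∈ Fx Ω Y, ∀ v ∈ invSwap G e e, ∀ y1 ∈ Inv Q s, ∀ y2 ∈ Inv Q s,
      y1 * v * y1⁻¹ = y2 * v * y2⁻¹ → y1 = y2 := by
    intro e he v hv y1 h4 y2 h5 h6
    have hss : s * s = 1 := (orderOf_two_iff.1 hs.1).1
    have hsi : s⁻¹ = s := inv_eq_self_of_orderOf_eq_two hs.1
    have hw : ∀ y ∈ Inv Q s, s * y ∈ invSwap G e (s • e) := by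
      intro y hy
      have hye : y • e = e := he (subset_closure hy)
      refine ⟨orderOf_two_iff.2 ⟨?_, ?_⟩, ?_⟩
      · calc s * y * (s * y) = (s * y * s⁻¹) * y := by rw [hsi]; group
          _ = 1 := by rw [hy.2]; group
      · intro h7
        apply hi e he
        have h8 : (s * y) • e = s • e := by rw [← smul_smul, hye]
        rw [← h8, h7, one_smul]
      · rw [← smul_smul, hye]
    have h7 := latin hU (hi e he).symm hv (hw y1 h4) (hw y2 h5) (by
      calc s * y1 * v * (s * y1)⁻¹ = s * (y1 * v * y1⁻¹) * s⁻¹ := by group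
        _ = s * (y2 * v * y2⁻¹) * s⁻¹ := by rw [h6]
        _ = s * y2 * v * (s * y2)⁻¹ := by group)
    exact mul_left_cancel h7
  -- (iii)
  have hle : (Fx Ω Y).ncard < 3 := by
    by_contra hcon
    push Not at hcon
    obtain ⟨X, hYX, hXp, hX3, hXmax⟩ := exists_maximal_three hYp hcon
    obtain ⟨v, hvN, hv, e, he, hve⟩ := hT.step4 hU hinv hp2 hXp hX3 hXmax
    obtain ⟨f, hf, hfe⟩ : ∃ f ∈ Fx Ω X, f ≠ e := by
      by_contra hc
      push Not at hc
      have h4 : Fx Ω X ⊆ {e} := hc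
      have h5 := Set.ncard_le_ncard h4 (Set.toFinite _)
      rw [Set.ncard_singleton] at h5
      omega
    have h4 := hstar e f v X hv hve hfe hXp he hf hvN
    rw [hn] at h4
    have h5 := card_conj_orbit X v
    have h6 : np ≤ Set.ncard {w : G | ∃ k ∈ X, k * v * k⁻¹ = w} := by
      refine hQ3.trans ?_
      apply Set.ncard_le_ncard_of_injOn (fun y => y * v * y⁻¹)
      · intro y hy
        exact ⟨y, hYX (subset_closure hy), rfl⟩
      · intro y1 h7 y2 h8 h9
        exact hii e (Fx_anti hYX he) v ⟨hv, hve⟩ y1 h7 y2 h8 h9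
    have h7 := Nat.mul_le_mul_right (Nat.card ↥(X ⊓ centralizer ({v} : Set G))) h6
    omega
  have hY2 : Fx Ω Y = {a, b} := by
    symm
    apply Set.eq_of_subset_of_ncard_le (ht := Set.toFinite _)
    · rintro x (rfl | hx)
      · exact haY
      · rw [Set.mem_singleton_iff] at hx; rw [hx]; exact hbY
    · rw [Set.ncard_pair hab]; omega
  apply Set.Subset.antisymm
  · rw [← hY2]; exact Fx_anti hYQ
  · rintro x (rfl | hx)
    · exact hQ.1.trans inf_le_left
    · rw [Set.mem_singleton_iff] at hx; rw [hx]; exact hQ.1.trans inf_le_right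

/-- Sylow `p`-subgroups of two-point stabilizers are Sylow subgroups of `G` -/
theorem syl (hU : UniqueFix G Ω) (hinv : ∃ t : G, orderOf t = 2) (hp2 : p ≠ 2) (hstar : Star G Ω p)
    {a b : Ω} (hab : a ≠ b) {Q : Subgroup G} (hQ : IsSyl p Q (D G a b)) : IsSyl p Q ⊤ :=
  syl_top hU hp2 hab hQ (fx_eq hU hinv hp2 hstar hab hQ)

/-- **Criterion**: `G` is doubly transitive on `Ω`. -/
theorem two_transitive (hU : UniqueFix G Ω) (hinv : ∃ t : G, orderOf t = 2) (hp2 : p ≠ 2) (hstar : Star G Ω p)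
    {a b c d : Ω} (hab : a ≠ b) (hcd : c ≠ d) : ∃ g : G, g • a = c ∧ g • b = d := by
  obtain ⟨Q, -, hQ⟩ := exists_isSyl_ge (p := p) (R := (⊥ : Subgroup G)) (N := D G a b) IsPGroup.of_bot bot_le
  obtain ⟨R, -, hR⟩ := exists_isSyl_ge (p := p) (R := (⊥ : Subgroup G)) (N := D G c d) IsPGroup.of_bot bot_le
  have h1 := syl hU hinv hp2 hstar hab hQ
  have h2 := syl hU hinv hp2 hstar hcd hR
  have h3 := fx_eq hU hinv hp2 hstar hab hQ
  have h4 := fx_eq hU hinv hp2 hstar hcd hR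
  obtain ⟨g, -, rfl⟩ := h1.exists_conj h2
  have h5 : ∀ x : Ω, g • x ∈ Fx Ω (Q.map (MulAut.conj g).toMonoidHom) ↔ x ∈ Fx Ω Q := fun x => mem_Fx_conj
  have ha : g • a = c ∨ g • a = d := by
    have := (h5 a).2 (by rw [h3]; simp)
    rw [h4] at this; exact this
  have hb : g • b = c ∨ g • b = d := by
    have := (h5 b).2 (by rw [h3]; simp)
    rw [h4] at this; exact this
  have hne : g • a ≠ g • b := fun h => hab (smul_left_cancel g h)
  rcases ha with ha | ha
  · rcases hb with hb | hb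
    · exact absurd (ha.trans hb.symm) hne
    · exact ⟨g, ha, hb⟩
  · rcases hb with hb | hb
    · obtain ⟨s, hs⟩ := exists_invSwap hU hinv c d
      refine ⟨s * g, ?_, ?_⟩
      · rw [← smul_smul, ha]; exact smul_of_swap hs.1 hs.2
      · rw [← smul_smul, hb]; exact hs.2
    · exact absurd (ha.trans hb.symm) hne

end Cfsg.Agent.Lib.BenP
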