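import Mathlib
import Cfsg.Prelude.Def_Local
import Cfsg.Prelude.Def_Transfer
import Cfsg.Agent.Lib.LocalLayer3
import Cfsg.Agent.Lib.H23Nilp
import Cfsg.Agent.Lib.H64Basic
import Cfsg.Agent.S1262

/-!
# Bender's lemma on `F*` of maximal subgroups (helper21)
-/

set_option autoImplicit false
set_option linter.unusedSectionVars false
set_option linter.unusedVariables false

namespace Cfsg.Agent.Lib.BenderMax

open Cfsg Subgroup Cfsg.Agent.Lib.Components Cfsg.Agent.Lib.Layer Cfsg.Agent.Lib.LocalLayer
open scoped commutatorElement Pointwise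

section K2

universe u
variable {G : Type u} [Group G] [Finite G]

/-- `Q` acts coprimely on the nilpotent group `N`, centralizes `S0 ≤ N` and `C_N(S0) ≤ S0`: then `Q`
centralizes `N`. -/
theorem le_centralizer_of_self_centralizing {N Q S0 : Subgroup G} (hN : Group.IsNilpotent ↥N)
    (hQN : Q ≤ normalizer (N : Set G)) (hcop : (Nat.card Q).Coprime (Nat.card N))
    (hS : S0 ≤ N) (hC : N ⊓ centralizer (S0 : Set G) ≤ S0) (hQS : Q ≤ centralizer (S0 : Set G)) :
    Q ≤ centralizer (N : Set G) := by
  set M := N ⊓ centralizer (Q : Set G) with hM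
  have hSM : S0 ≤ M := le_inf hS (le_centralizer_comm hQS)
  rcases (inf_le_left : M ≤ N).lt_or_eq with hlt | heq
  · exfalso
    have h1 := H64Basic.lt_inf_normalizer_of_nilpotent hN hlt
    set W := N ⊓ normalizer (M : Set G) with hW
    have hQM : Q ≤ centralizer (M : Set G) := le_centralizer_comm inf_le_right
    have hQW : Q ≤ normalizer (W : Set G) := by
      refine normalizer_inf_le_normalizer hQN ?_
      exact (hQM.trans (centralizer_le_normalizer' M)).trans le_normalizer
    have h2 : ⁅⁅M, Q⁆, W⁆ = ⊥ := by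
      have : ⁅M, Q⁆ = ⊥ := by
        rw [commutator_eq_bot_iff_le_centralizer]; exact inf_le_right
      rw [this, commutator_bot_left]
    have h3 : ⁅⁅W, M⁆, Q⁆ = ⊥ := by
      have h4 : ⁅W, M⁆ ≤ M := by
        rw [← le_normalizer_iff_commutator_le_right]
        exact inf_le_right
      rw [commutator_eq_bot_iff_le_centralizer]
      exact h4.trans inf_le_right
    have h5 : ⁅⁅Q, W⁆, M⁆ = ⊥ := commutator_commutator_eq_bot_of_rotate h3 h2
    have h6 : ⁅W, Q⁆ ≤ M := by
      have h7 : ⁅W, Q⁆ ≤ W := le_normalizer_iff_commutator_le_left.mp hQW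
      have h8 : ⁅W, Q⁆ ≤ centralizer (M : Set G) := by
        rw [commutator_comm, ← commutator_eq_bot_iff_le_centralizer]; exact h5
      refine le_trans ?_ hSM
      refine le_trans (le_inf (h7.trans inf_le_left) ?_) hC
      exact h8.trans (centralizer_le (SetLike.coe_subset_coe.mpr hSM))
    have hcop' : (Nat.card Q).Coprime (Nat.card W) :=
      Nat.Coprime.coprime_dvd_right (Subgroup.card_dvd_of_le inf_le_left) hcop
    have hWn : Group.IsNilpotent ↥W := isNilpotent_of_le inf_le_left hN
    have hWs : Group.IsSolvable ↥W := inferInstance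
    have h9 : W ≤ centralizer (Q : Set G) :=
      CoprimeAction2.le_centralizer_of_series hQW hcop' (Or.inr hWs) h6 inf_le_right
    exact absurd (le_inf inf_le_left h9 : W ≤ M) (not_le_of_gt h1)
  · rw [← heq]
    exact le_centralizer_comm inf_le_right

end K2

section Ambient

variable {G : Type*} [Group G]

/-- `E(A)` in the ambient group -/
def EA (A : Subgroup G) : Subgroup G := (layer ↥A).map A.subtype
/-- `F(A)` in the ambient group -/
def FA (A : Subgroup G) : Subgroup G := (fittingSubgroup ↥A).map A.subtype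
/-- `F*(A)` in the ambient group -/
def FS (A : Subgroup G) : Subgroup G := (generalizedFittingSubgroup ↥A).map A.subtype
/-- `O_p(A)` in the ambient group -/
def OA (p : ℕ) (A : Subgroup G) : Subgroup G := (pCore p ↥A).map A.subtype
/-- `O_{p'}(F(A))` in the ambient group -/
def NA (p : ℕ) (A : Subgroup G) : Subgroup G :=
  (fittingSubgroup ↥A ⊓ pPrimeCore p ↥A).map A.subtype

variable (A : Subgroup G)

theorem FS_eq : FS A = EA A ⊔ FA A := by
  unfold FS EA FA generalizedFittingSubgroup
  rw [Subgroup.map_sup]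

theorem EA_le : EA A ≤ A := map_subtype_le _
theorem FA_le : FA A ≤ A := map_subtype_le _
theorem FS_le : FS A ≤ A := map_subtype_le _
theorem OA_le (p : ℕ) : OA p A ≤ A := map_subtype_le _
theorem NA_le (p : ℕ) : NA p A ≤ A := map_subtype_le _
theorem NA_le_FA (p : ℕ) : NA p A ≤ FA A := Subgroup.map_mono inf_le_left
theorem EA_le_FS : EA A ≤ FS A := by rw [FS_eq]; exact le_sup_left
theorem FA_le_FS : FA A ≤ FS A := by rw [FS_eq]; exact le_sup_right

theorem le_normalizer_EA : A ≤ normalizer (EA A : Set G) := by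
  have : (layer ↥A).Normal := by
    have := layer_characteristic ↥A
    infer_instance
  exact Cores.le_normalizer_map_subtype _

theorem le_normalizer_FS : A ≤ normalizer (FS A : Set G) := by
  have : (generalizedFittingSubgroup ↥A).Normal := by
    have := generalizedFittingSubgroup_characteristic ↥A
    infer_instance
  exact Cores.le_normalizer_map_subtype _

theorem le_normalizer_FA : A ≤ normalizer (FA A : Set G) :=
  Cores.le_normalizer_map_subtype _

theorem le_normalizer_OA (p : ℕ) : A ≤ normalizer (OA p A : Set G) :=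
  Cores.le_normalizer_map_subtype _

theorem le_normalizer_NA (p : ℕ) : A ≤ normalizer (NA p A : Set G) := by
  have : (fittingSubgroup ↥A ⊓ pPrimeCore p ↥A).Normal := inferInstance
  exact Cores.le_normalizer_map_subtype _

theorem map_le_centralizer {A : Subgroup G} {H K : Subgroup ↥A}
    (h : H ≤ centralizer (K : Set ↥A)) :
    H.map A.subtype ≤ centralizer ((K.map A.subtype : Subgroup G) : Set G) := by
  rintro _ ⟨x, hx, rfl⟩
  rw [mem_centralizer_iff]
  rintro _ ⟨y, hy, rfl⟩
  exact congrArg Subtype.val (mem_centralizer_iff.mp (h hx) y hy)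

variable [Finite G]

theorem EA_le_centralizer_FA : EA A ≤ centralizer (FA A : Set G) :=
  map_le_centralizer layer_le_centralizer_fitting

theorem isNilpotent_FA : Group.IsNilpotent ↥(FA A) :=
  (isNilpotent_map_of_injective A.subtype_injective).mpr (isNilpotent_fittingSubgroup ↥A)

theorem inf_centralizer_FS_le : A ⊓ centralizer (FS A : Set G) ≤ FA A := by
  rintro x ⟨hxA, hx⟩
  have h1 : (⟨x, hxA⟩ : ↥A) ∈ centralizer (generalizedFittingSubgroup ↥A : Set ↥A) := by
    rw [mem_centralizer_iff]
    intro y hy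
    exact Subtype.ext (mem_centralizer_iff.mp hx (y : G) ⟨y, hy, rfl⟩)
  exact ⟨⟨x, hxA⟩, center_genFitting_le_fitting ⟨centralizer_genFitting_le h1, h1⟩, rfl⟩

/-- solvable subgroups of `A` normalized by `E(A)` are centralized by `E(A)`. -/
theorem EA_le_centralizer_of_solvable {R : Subgroup G} (hRA : R ≤ A) (hR : Group.IsSolvable ↥R)
    (hn : EA A ≤ normalizer (R : Set G)) : EA A ≤ centralizer (R : Set G) := by
  have h1 : layer ↥A ≤ centralizer (R.subgroupOf A : Set ↥A) := by
    apply sSup_le
    intro L hL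
    rw [← commutator_eq_bot_iff_le_centralizer]
    apply Cfsg.Agent.S1262.result L (R.subgroupOf A) hL (SubgroupTools.isSolvable_subgroupOf A hR)
    intro l hl
    have h2 : (l : G) ∈ normalizer (R : Set G) := hn ⟨l, component_le_layer hL hl, rfl⟩
    rw [mem_normalizer_iff] at h2 ⊢
    intro y
    exact h2 y
  have h3 := map_le_centralizer h1
  rwa [subgroupOf_map_subtype, inf_eq_left.mpr hRA] at h3

variable (p : ℕ) [hp : Fact p.Prime]

theorem isPGroup_OA : IsPGroup p ↥(OA p A) := (Cores.isPGroup_pCore p ↥A).map _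

theorem coprime_card_NA : (Nat.card ↥(NA p A)).Coprime p := by
  unfold NA
  rw [Cores.card_map_subtype]
  exact Nat.Coprime.coprime_dvd_left (Subgroup.card_dvd_of_le inf_le_right)
    (Cores.coprime_card_pPrimeCore p ↥A)

theorem fitting_le_sup {X : Type*} [Group X] [Finite X] :
    fittingSubgroup X ≤ pCore p X ⊔ (fittingSubgroup X ⊓ pPrimeCore p X) := by
  conv_lhs => rw [Cores.fittingSubgroup_eq_iSup]
  apply iSup_le
  intro q
  by_cases hq : (q : ℕ) = p
  · rw [hq]; exact le_sup_left
  · refine le_trans ?_ le_sup_right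
    have := Fact.mk q.2
    refine le_inf (Cores.pCore_le_fittingSubgroup (q : ℕ)) ?_
    apply Cores.le_pPrimeCore (pCore_normal _ _)
    obtain ⟨n, hn⟩ := IsPGroup.iff_card.1 (Cores.isPGroup_pCore (q : ℕ) X)
    rw [hn]
    exact Nat.Coprime.pow_left n ((Nat.coprime_primes q.2 hp.out).mpr hq)

theorem FA_eq : FA A = OA p A ⊔ NA p A := by
  apply le_antisymm
  · have h := Subgroup.map_mono (f := A.subtype) (fitting_le_sup p (X := ↥A))
    rwa [Subgroup.map_sup] at h
  · exact sup_le (Subgroup.map_mono (Cores.pCore_le_fittingSubgroup p)) (NA_le_FA A p)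

theorem OA_le_FA : OA p A ≤ FA A := Subgroup.map_mono (Cores.pCore_le_fittingSubgroup p)

theorem OA_le_centralizer_NA : OA p A ≤ centralizer (NA p A : Set G) := by
  intro x hx
  rw [mem_centralizer_iff]
  intro y hy
  have hxo := (isPGroup_OA A p) ⟨x, hx⟩
  obtain ⟨k, hk⟩ := hxo
  have hk' : x ^ p ^ k = 1 := congrArg Subtype.val hk
  apply H23Nilp.commute_of_coprime_of_mem (isNilpotent_FA A) (NA_le_FA A p hy) (OA_le_FA A p hx)
  have h1 : orderOf x ∣ p ^ k := orderOf_dvd_of_pow_eq_one hk'
  have h2 : orderOf y ∣ Nat.card ↥(NA p A) := Subgroup.orderOf_dvd_natCard _ hy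
  exact Nat.Coprime.coprime_dvd_left h2 (Nat.Coprime.coprime_dvd_right h1
    (Nat.Coprime.pow_right k (coprime_card_NA A p)))

/-- `p'`-elements of `F*(A)` lie in `E(A) O_{p'}(F(A))`. -/
theorem mem_of_coprime {f : G} (hf : f ∈ FS A) (hfo : (orderOf f).Coprime p) :
    f ∈ EA A ⊔ NA p A := by
  rw [FS_eq, mem_sup_of_commute (EA_le_centralizer_FA A)] at hf
  obtain ⟨e, he, g, hg, rfl⟩ := hf
  rw [FA_eq A p, mem_sup_of_commute (OA_le_centralizer_NA A p)] at hg
  obtain ⟨a, ha, b, hb, rfl⟩ := hg
  obtain ⟨k, hk⟩ := (isPGroup_OA A p) ⟨a, ha⟩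
  have hk' : a ^ p ^ k = 1 := congrArg Subtype.val hk
  have hab : Commute a b := (mem_centralizer_iff.mp (OA_le_centralizer_NA A p ha) b hb).symm
  have hea : Commute e a := (mem_centralizer_iff.mp (EA_le_centralizer_FA A he) a (OA_le_FA A p ha)).symm
  have h1 : e * (a * b) = a * (e * b) := by
    rw [← mul_assoc, hea.eq, mul_assoc]
  have hc : Commute a (e * b) := hea.symm.mul_right hab
  obtain ⟨m, hm⟩ := exists_pow_eq_self_of_coprime (x := e * (a * b)) (n := p ^ k)
    ((Nat.Coprime.pow_right k hfo).symm)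
  rw [← hm]
  apply pow_mem
  rw [h1, hc.mul_pow, hk', one_mul]
  exact pow_mem (mul_mem (mem_sup_left he) (mem_sup_right hb)) _

theorem mem_NA_of_coprime {f : G} (hf : f ∈ FA A) (hfo : (orderOf f).Coprime p) : f ∈ NA p A := by
  rw [FA_eq A p, mem_sup_of_commute (OA_le_centralizer_NA A p)] at hf
  obtain ⟨a, ha, b, hb, rfl⟩ := hf
  obtain ⟨k, hk⟩ := (isPGroup_OA A p) ⟨a, ha⟩
  have hk' : a ^ p ^ k = 1 := congrArg Subtype.val hk
  have hab : Commute a b := (mem_centralizer_iff.mp (OA_le_centralizer_NA A p ha) b hb).symm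
  obtain ⟨m, hm⟩ := exists_pow_eq_self_of_coprime (x := a * b) (n := p ^ k)
    ((Nat.Coprime.pow_right k hfo).symm)
  rw [← hm]
  apply pow_mem
  rw [hab.mul_pow, hk', one_mul]
  exact pow_mem hb _

theorem OA_ne_bot (h : p ∣ Nat.card (fittingSubgroup ↥A)) : OA p A ≠ ⊥ := by
  intro h0
  have h1 : FA A = NA p A := by rw [FA_eq A p, h0, bot_sup_eq]
  have h2 : Nat.card (fittingSubgroup ↥A) = Nat.card ↥(NA p A) := by
    rw [← h1, FA, Cores.card_map_subtype]
  rw [h2] at h
  exact (hp.out.coprime_iff_not_dvd).mp (coprime_card_NA A p).symm h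

/-- the centre of `O_p(A)` in the ambient group -/
def ZA (p : ℕ) (A : Subgroup G) : Subgroup G := OA p A ⊓ centralizer (OA p A : Set G)

theorem ZA_ne_bot (h : p ∣ Nat.card (fittingSubgroup ↥A)) : ZA p A ≠ ⊥ := by
  have hnt : Nontrivial ↥(OA p A) := (Subgroup.nontrivial_iff_ne_bot _).mpr (OA_ne_bot A p h)
  have := (isPGroup_OA A p).center_nontrivial
  obtain ⟨z, hz⟩ := exists_ne (1 : center ↥(OA p A))
  intro h0
  apply hz
  have h1 : ((z : ↥(OA p A)) : G) ∈ ZA p A := by
    refine mem_inf.mpr ⟨z.1.2, ?_⟩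
    rw [mem_centralizer_iff]
    intro y hy
    exact congrArg Subtype.val (mem_center_iff.mp z.2 ⟨y, hy⟩)
  rw [h0, mem_bot] at h1
  exact Subtype.ext (Subtype.ext h1)

theorem le_normalizer_ZA : A ≤ normalizer (ZA p A : Set G) :=
  normalizer_inf_le_normalizer (le_normalizer_OA A p)
    ((le_normalizer_OA A p).trans (normalizer_le_normalizer_centralizer _))

theorem ZA_le_centralizer_FA : ZA p A ≤ centralizer (FA A : Set G) := by
  rw [FA_eq A p]
  exact le_centralizer_sup inf_le_right (inf_le_left.trans (OA_le_centralizer_NA A p))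

/-- hypotheses on `S` -/
structure Hyp (A S : Subgroup G) : Prop where
  le : S ≤ FS A
  sub : (S.subgroupOf (FS A)).IsSubnormal
  cen : FS A ⊓ centralizer (S : Set G) ≤ S

variable {A} {S : Subgroup G}

omit hp in
theorem Hyp.subnormal (h : Hyp A S) : (S.subgroupOf A).IsSubnormal :=
  isSubnormal_transfer h.sub h.le le_rfl (FS_le A) (le_normalizer_FS A)

omit hp in
theorem Hyp.EA_le (h : Hyp A S) : EA A ≤ S := by
  unfold EA
  rw [Subgroup.map_le_iff_le_comap]
  apply sSup_le
  intro K hK
  rcases component_le_or_le_centralizer hK h.subnormal with h1 | h1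
  · exact h1
  · rw [← Subgroup.map_le_iff_le_comap]
    refine le_trans (le_inf ?_ ?_) h.cen
    · exact (Subgroup.map_mono (component_le_layer hK)).trans (EA_le_FS A)
    · have h2 := map_le_centralizer h1
      rwa [subgroupOf_map_subtype, inf_eq_left.mpr (h.le.trans (FS_le A))] at h2

omit hp in
theorem Hyp.le_sup (h : Hyp A S) : S ≤ EA A ⊔ (FA A ⊓ S) := by
  have hSA : S ≤ A := h.le.trans (FS_le A)
  have h1 : S.subgroupOf A ≤ generalizedFittingSubgroup ↥A := by
    intro x hx
    obtain ⟨y, hy, hyx⟩ := h.le (mem_subgroupOf.mp hx)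
    have : y = x := Subtype.ext hyx
    rwa [← this]
  have h2 := subnormal_le_genFitting h.subnormal h1
  have h3 : (layer ↥(S.subgroupOf A)).map (S.subgroupOf A).subtype ≤ layer ↥A :=
    map_layer_le_of_subnormal h.subnormal
  have h4 : S.subgroupOf A ≤ layer ↥A ⊔ (fittingSubgroup ↥A ⊓ S.subgroupOf A) := by
    conv_lhs => rw [h2]
    exact sup_le_sup_right h3 _
  have h5 := Subgroup.map_mono (f := A.subtype) h4
  rw [subgroupOf_map_subtype, inf_eq_left.mpr hSA, Subgroup.map_sup] at h5
  refine h5.trans (sup_le_sup_left ?_ _)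
  rintro _ ⟨y, hy, rfl⟩
  exact ⟨⟨y, hy.1, rfl⟩, hy.2⟩

omit hp in
theorem Hyp.cenF (h : Hyp A S) : FA A ⊓ centralizer ((FA A ⊓ S : Subgroup G) : Set G) ≤ FA A ⊓ S := by
  rintro x ⟨hxF, hx⟩
  refine mem_inf.mpr ⟨hxF, h.cen (mem_inf.mpr ⟨FA_le_FS A hxF, ?_⟩)⟩
  have h1 : zpowers x ≤ centralizer ((EA A ⊔ (FA A ⊓ S) : Subgroup G) : Set G) := by
    apply le_centralizer_sup
    · rw [zpowers_le]
      exact le_centralizer_comm (EA_le_centralizer_FA A) hxF
    · rw [zpowers_le]; exact hx
  exact centralizer_le (SetLike.coe_subset_coe.mpr h.le_sup) (h1 (mem_zpowers x))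

omit hp in
/-- (a) -/
theorem Hyp.parta (h : Hyp A S) {q : ℕ} (hq : q.Prime) (hqF : ¬ q ∣ Nat.card (fittingSubgroup ↥A))
    {Q : Subgroup G} (hQ : IsPGroup q Q) (hQA : Q ≤ A) (hSQ : S ≤ normalizer (Q : Set G)) :
    Q = ⊥ := by
  have := Fact.mk hq
  have hcard : Nat.card ↥(FA A) = Nat.card ↥(fittingSubgroup ↥A) := Cores.card_map_subtype _
  have hcop : (Nat.card Q).Coprime (Nat.card ↥(FA A)) := by
    obtain ⟨n, hn⟩ := IsPGroup.iff_card.1 hQ
    rw [hn, hcard]
    exact Nat.Coprime.pow_left n ((hq.coprime_iff_not_dvd).mpr hqF)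
  have hQs : Group.IsSolvable ↥Q := by
    have := hQ.isNilpotent
    infer_instance
  have h1 : EA A ≤ centralizer (Q : Set G) :=
    EA_le_centralizer_of_solvable A hQA hQs (h.EA_le.trans hSQ)
  have h2 : Q ≤ centralizer ((FA A ⊓ S : Subgroup G) : Set G) := by
    rw [← commutator_eq_bot_iff_le_centralizer, eq_bot_iff, ← SubgroupTools.inf_eq_bot_of_coprime' hcop]
    apply le_inf
    · rw [← le_normalizer_iff_commutator_le_left]
      exact inf_le_right.trans hSQ
    · refine (commutator_mono hQA inf_le_left).trans ?_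
      rw [← le_normalizer_iff_commutator_le_right]
      exact le_normalizer_FA A
  have h3 : Q ≤ centralizer (FA A : Set G) :=
    le_centralizer_of_self_centralizing (isNilpotent_FA A) (hQA.trans (le_normalizer_FA A)) hcop
      inf_le_left h.cenF h2
  have h4 : Q ≤ FA A := by
    refine le_trans (le_inf hQA ?_) (inf_centralizer_FS_le A)
    rw [FS_eq]
    exact le_centralizer_sup (le_centralizer_comm h1) h3
  rw [eq_bot_iff, ← SubgroupTools.inf_eq_bot_of_coprime' hcop]
  exact le_inf le_rfl h4

/-- `P` (normalized by `S`, a `p`-group) is centralized by `E(A)` and the `p'`-elements of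
`S ∩ F(A)`. -/
theorem Hyp.partb1 (h : Hyp A S) (hpF : p ∣ Nat.card (fittingSubgroup ↥A))
    (hmax : ∀ X : Subgroup G, X ≠ ⊥ → A ≤ normalizer (X : Set G) → X ≤ A → normalizer (X : Set G) ≤ A)
    {P : Subgroup G} (hP : IsPGroup p P) (hSP : S ≤ normalizer (P : Set G)) :
    P ≤ centralizer (EA A : Set G) ∧ P ≤ centralizer ((NA p A ⊓ S : Subgroup G) : Set G) := by
  classical
  set Z := ZA p A with hZ
  have hZne : Z ≠ ⊥ := ZA_ne_bot A p hpF
  have hZA : Z ≤ A := inf_le_left.trans (OA_le A p)
  have hZN : normalizer (Z : Set G) ≤ A := hmax Z hZne (le_normalizer_ZA A p) hZA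
  have hZF : Z ≤ FA A := inf_le_left.trans (OA_le_FA A p)
  have hZS : Z ≤ S := by
    refine le_trans ?_ (inf_le_right : FA A ⊓ S ≤ S)
    refine le_trans (le_inf hZF ?_) h.cenF
    exact (ZA_le_centralizer_FA A p).trans (centralizer_le (SetLike.coe_subset_coe.mpr inf_le_left))
  set Sp := OA p A ⊓ S with hSp
  have hSpp : IsPGroup p Sp := (isPGroup_OA A p).to_le inf_le_left
  have hZSp : Z ≤ Sp := le_inf inf_le_left hZS
  have hPC : P ⊓ centralizer (Sp : Set G) ≤ A := by
    refine le_trans ?_ hZN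
    refine le_trans inf_le_right ?_
    exact (centralizer_le (SetLike.coe_subset_coe.mpr hZSp)).trans (centralizer_le_normalizer' Z)
  set P0 := P ⊓ A with hP0
  have hSA : S ≤ A := h.le.trans (FS_le A)
  have hSP0 : S ≤ normalizer (P0 : Set G) :=
    normalizer_inf_le_normalizer hSP (hSA.trans le_normalizer)
  have hP0p : IsPGroup p P0 := hP.to_le inf_le_left
  have hP0s : Group.IsSolvable ↥P0 := by
    have := hP0p.isNilpotent
    infer_instance
  have hE0 : EA A ≤ centralizer (P0 : Set G) :=
    EA_le_centralizer_of_solvable A inf_le_right hP0s (h.EA_le.trans hSP0)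
  have hN0 : NA p A ⊓ S ≤ centralizer (P0 : Set G) := by
    have hcop : (Nat.card ↥(NA p A)).Coprime (Nat.card P0) := by
      obtain ⟨n, hn⟩ := IsPGroup.iff_card.1 hP0p
      rw [hn]
      exact Nat.Coprime.pow_right n (coprime_card_NA A p)
    rw [← commutator_eq_bot_iff_le_centralizer, eq_bot_iff, ← SubgroupTools.inf_eq_bot_of_coprime' hcop]
    apply le_inf
    · refine (commutator_mono inf_le_left inf_le_right).trans ?_
      rw [← le_normalizer_iff_commutator_le_left]
      exact le_normalizer_NA A p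
    · rw [← le_normalizer_iff_commutator_le_right]
      exact inf_le_right.trans hSP0
  -- A×B step
  have key : ∀ t : G, t ∈ S → (orderOf t).Coprime p → t ∈ centralizer (Sp : Set G) →
      t ∈ centralizer (P0 : Set G) → P ≤ centralizer (zpowers t : Set G) := by
    intro t htS hto htSp htP0
    have hQ : (Nat.card (zpowers t)).Coprime p := by rwa [Nat.card_zpowers]
    have hQS : Sp ≤ centralizer (zpowers t : Set G) := by
      apply le_centralizer_comm
      rw [zpowers_le]; exact htSp
    have h1 := CoprimeAction2.thompson_PxQ hSpp hQ hQS _ P rfl hP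
      (inf_le_right.trans hSP) ((zpowers_le.mpr htS).trans hSP) (by
        apply le_centralizer_comm
        rw [zpowers_le]
        refine centralizer_le ?_ htP0
        rw [SetLike.coe_subset_coe]
        exact le_inf inf_le_left hPC)
    exact le_centralizer_comm h1
  constructor
  · -- E(A)
    have hEp : ⁅EA A, EA A⁆ = EA A := by
      unfold EA
      rw [← Subgroup.map_commutator, layer_perfect]
    apply le_centralizer_comm
    rw [← closure_prime_to_of_perfect (p := p) hEp, closure_le]
    rintro t ⟨ht, hto⟩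
    have h1 := key t (h.EA_le ht) hto
      (centralizer_le (SetLike.coe_subset_coe.mpr (inf_le_left.trans (OA_le_FA A p)))
        (EA_le_centralizer_FA A ht)) (hE0 ht)
    exact le_centralizer_comm h1 (mem_zpowers t)
  · apply le_centralizer_comm
    rintro t ⟨htN, htS⟩
    have hto : (orderOf t).Coprime p :=
      Nat.Coprime.coprime_dvd_left (Subgroup.orderOf_dvd_natCard _ htN) (coprime_card_NA A p)
    have h1 := key t htS hto
      (centralizer_le (SetLike.coe_subset_coe.mpr inf_le_left)
        (le_centralizer_comm (OA_le_centralizer_NA A p) htN)) (hN0 ⟨htN, htS⟩)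
    exact le_centralizer_comm h1 (mem_zpowers t)

/-- (b) -/
theorem Hyp.partb (h : Hyp A S) (hpF : p ∣ Nat.card (fittingSubgroup ↥A))
    (hmax : ∀ X : Subgroup G, X ≠ ⊥ → A ≤ normalizer (X : Set G) → X ≤ A → normalizer (X : Set G) ≤ A)
    {P : Subgroup G} (hP : IsPGroup p P) (hSP : S ≤ normalizer (P : Set G)) :
    P ≤ centralizer ((EA A ⊔ NA p A : Subgroup G) : Set G) := by
  classical
  obtain ⟨h1, h2⟩ := h.partb1 p hpF hmax hP hSP
  apply le_centralizer_sup h1
  by_cases hN : NA p A = ⊥
  · rw [hN]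
    intro x _
    rw [mem_centralizer_iff]
    intro y hy
    rw [SetLike.mem_coe, mem_bot] at hy
    rw [hy]; simp
  -- `P ≤ A`
  have hNS : NA p A ⊓ centralizer ((NA p A ⊓ S : Subgroup G) : Set G) ≤ NA p A ⊓ S := by
    rintro x ⟨hxN, hx⟩
    refine mem_inf.mpr ⟨hxN, ?_⟩
    have h3 : x ∈ FA A ⊓ centralizer ((FA A ⊓ S : Subgroup G) : Set G) := by
      refine mem_inf.mpr ⟨NA_le_FA A p hxN, ?_⟩
      rw [mem_centralizer_iff]
      intro y hy
      have hyS : y ∈ S := (mem_inf.mp hy).2
      have hyF : y ∈ FA A := (mem_inf.mp hy).1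
      rw [FA_eq A p, mem_sup_of_commute (OA_le_centralizer_NA A p)] at hyF
      obtain ⟨a, ha, b, hb, rfl⟩ := hyF
      -- `b ∈ S`
      have hbS : b ∈ S := by
        obtain ⟨k, hk⟩ := (isPGroup_OA A p) ⟨a, ha⟩
        have hk' : a ^ p ^ k = 1 := congrArg Subtype.val hk
        have hab : Commute a b := (mem_centralizer_iff.mp (OA_le_centralizer_NA A p ha) b hb).symm
        have hbo : (orderOf b).Coprime p :=
          Nat.Coprime.coprime_dvd_left (Subgroup.orderOf_dvd_natCard _ hb) (coprime_card_NA A p)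
        obtain ⟨m, hm⟩ := exists_pow_eq_self_of_coprime (x := b) (n := p ^ k)
          ((Nat.Coprime.pow_right k hbo).symm)
        have h4 : ((a * b) ^ p ^ k) ^ m = b := by
          rw [hab.mul_pow, hk', one_mul, hm]
        rw [← h4]
        exact pow_mem (pow_mem hyS _) _
      have hxa : Commute a x := (mem_centralizer_iff.mp (OA_le_centralizer_NA A p ha) x hxN).symm
      have hxb : Commute b x := mem_centralizer_iff.mp hx b ⟨hb, hbS⟩
      exact (hxa.mul_left hxb).eq
    exact (h.cenF h3).2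
  have hNnil : Group.IsNilpotent ↥(NA p A) := isNilpotent_of_le (NA_le_FA A p) (isNilpotent_FA A)
  -- the centre of `NA`
  set Y := NA p A ⊓ centralizer (NA p A : Set G) with hY
  have hYne : Y ≠ ⊥ := by
    have hnt : Nontrivial ↥(NA p A) := (Subgroup.nontrivial_iff_ne_bot _).mpr hN
    have hc : center ↥(NA p A) ≠ ⊥ := Group.IsNilpotent.center_ne_bot _
    intro h0
    apply hc
    rw [eq_bot_iff]
    intro z hz
    have h1 : (z : G) ∈ Y := by
      refine mem_inf.mpr ⟨z.2, ?_⟩
      rw [mem_centralizer_iff]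
      intro y hy
      exact congrArg Subtype.val (mem_center_iff.mp hz ⟨y, hy⟩)
    rw [h0, mem_bot] at h1
    exact Subtype.ext h1
  have hYS : Y ≤ NA p A ⊓ S := by
    refine le_trans (le_inf inf_le_left ?_) hNS
    exact inf_le_right.trans (centralizer_le (SetLike.coe_subset_coe.mpr inf_le_left))
  have hYn : A ≤ normalizer (Y : Set G) :=
    normalizer_inf_le_normalizer (le_normalizer_NA A p)
      ((le_normalizer_NA A p).trans (normalizer_le_normalizer_centralizer _))
  have hPA : P ≤ A := by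
    refine le_trans ?_ (hmax Y hYne hYn (inf_le_left.trans (NA_le A p)))
    refine le_trans ?_ (centralizer_le_normalizer' Y)
    exact h2.trans (centralizer_le (SetLike.coe_subset_coe.mpr hYS))
  have hcop : (Nat.card P).Coprime (Nat.card ↥(NA p A)) := by
    obtain ⟨n, hn⟩ := IsPGroup.iff_card.1 hP
    rw [hn]
    exact Nat.Coprime.pow_left n (coprime_card_NA A p).symm
  exact le_centralizer_of_self_centralizing hNnil (hPA.trans (le_normalizer_NA A p)) hcop
    inf_le_left hNS h2

end Ambient

end Cfsg.Agent.Lib.BenderMax
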