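import Cfsg.Agent.Lib.SL2Tori
import Cfsg.Agent.Lib.ClSL2

set_option autoImplicit false

/-! Centralizer indices (class sizes) in `PSL₂(q)`. -/

namespace Cfsg.Agent.Lib.PSL2ClassSize

open Matrix Cfsg.Agent.Lib.SL2Basic Cfsg.Agent.Lib.SL2Tori
open scoped MatrixGroups

universe u

variable {F : Type u} [Field F]

local notation "SL2" => Matrix.SpecialLinearGroup (Fin 2) F
local notation "M2" => Matrix (Fin 2) (Fin 2) F
local notation "PSL2" => Matrix.ProjectiveSpecialLinearGroup (Fin 2) F

theorem mem_comap (A B : SL2) :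
    B ∈ (Subgroup.centralizer ({(QuotientGroup.mk A : PSL2)} : Set PSL2)).comap
      (QuotientGroup.mk' (Subgroup.center SL2)) ↔ B * A = A * B ∨ B * A = -(A * B) := by
  rw [Subgroup.mem_comap, Subgroup.mem_centralizer_singleton_iff]
  change (QuotientGroup.mk B : PSL2) * QuotientGroup.mk A = QuotientGroup.mk A * QuotientGroup.mk B ↔ _
  rw [← QuotientGroup.mk_mul, ← QuotientGroup.mk_mul, mk_eq_mk_iff]

theorem index_eq (A : SL2) :
    (Subgroup.centralizer ({(QuotientGroup.mk A : PSL2)} : Set PSL2)).index =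
    ((Subgroup.centralizer ({(QuotientGroup.mk A : PSL2)} : Set PSL2)).comap
      (QuotientGroup.mk' (Subgroup.center SL2))).index :=
  (Subgroup.index_comap_of_surjective _ (QuotientGroup.mk'_surjective _)).symm

theorem comap_of_tr_ne (A : SL2) (h : (2 : F) = 0 ∨ tr A ≠ 0) :
    (Subgroup.centralizer ({(QuotientGroup.mk A : PSL2)} : Set PSL2)).comap
      (QuotientGroup.mk' (Subgroup.center SL2)) = Subgroup.centralizer ({A} : Set SL2) := by
  ext B
  rw [mem_comap, Subgroup.mem_centralizer_singleton_iff]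
  refine ⟨?_, Or.inl⟩
  rintro (h1 | h1)
  · exact h1
  by_cases h2 : (2 : F) = 0
  · rw [h1]
    apply Subtype.ext
    ext i j
    simp only [Matrix.SpecialLinearGroup.coe_neg, Matrix.neg_apply]
    have : ∀ x : F, -x = x := fun x => by linear_combination (-x) * h2
    exact this _
  · exfalso
    have h3 : B * A * B⁻¹ = -A := by
      rw [h1]
      apply Subtype.ext
      simp [Matrix.mul_assoc]
    have h4 := tr_conj A B
    rw [h3, tr_neg] at h4
    refine h.resolve_left h2 ?_
    have : (2 : F) * tr A = 0 := by linear_combination -h4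
    exact (mul_eq_zero.1 this).resolve_left h2

theorem inv_eq_neg {A : SL2} (h : tr A = 0) : A⁻¹ = -A := by
  apply Subtype.ext
  rw [coe_inv_eq, h, zero_smul, zero_sub]
  rfl

theorem comap_of_tr_zero (A : SL2) (h2 : (2 : F) ≠ 0) (h : tr A = 0) :
    (Subgroup.centralizer ({(QuotientGroup.mk A : PSL2)} : Set PSL2)).comap
      (QuotientGroup.mk' (Subgroup.center SL2)) =
      Subgroup.normalizer ((Subgroup.centralizer ({A} : Set SL2) : Subgroup SL2) : Set SL2) := by
  ext B
  have h4 : tr A ^ 2 ≠ 4 := by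
    rw [h]
    intro h5
    apply h2
    have : (2 : F) * 2 = 0 := by linear_combination -h5
    exact mul_self_eq_zero.1 this
  rw [mem_comap, mem_normalizer_centralizer_iff h4, inv_eq_neg h]
  constructor
  · rintro (h1 | h1)
    · left; rw [h1]; group
    · right
      rw [h1]
      apply Subtype.ext
      simp [Matrix.mul_assoc]
  · rintro (h1 | h1)
    · left; rw [mul_inv_eq_iff_eq_mul] at h1; exact h1
    · right; rw [mul_inv_eq_iff_eq_mul] at h1; rw [h1]
      simp

theorem index_of_card [Fintype F] (H : Subgroup SL2) (a b : ℕ) (ha : 0 < a) (h : Nat.card H = a)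
    (hab : a * b = Fintype.card F * (Fintype.card F ^ 2 - 1)) : H.index = b := by
  have h1 := Subgroup.card_mul_index H
  rw [h, ClSL2.card_SL2 (F := F) rfl, ← hab] at h1
  exact Nat.eq_of_mul_eq_mul_left ha h1

/-- the centralizer of a non-trivial unipotent (up to sign) element -/
theorem card_centralizer_unip [Finite F] {A : SL2} (hA : A ∉ Subgroup.center SL2) {e : F} (he : e * e = 1)
    (ht : tr A = 2 * e) :
    Nat.card (Subgroup.centralizer ({A} : Set SL2)) = Nat.card ({x : F // x ^ 2 = 1} × F) := by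
  symm
  have key : ∀ x y : F, Matrix.det (x • (1 : M2) + y • (A : M2)) = (x + e * y) ^ 2 := by
    intro x y
    have hd := det2 A
    have ht' := ht
    rw [tr_def] at ht'
    rw [Matrix.det_fin_two]
    simp
    linear_combination y ^ 2 * hd + x * y * ht' - y ^ 2 * he
  let f : ({x : F // x ^ 2 = 1} × F) → Subgroup.centralizer ({A} : Set SL2) := fun p =>
    ⟨⟨(p.1.1 - e * p.2) • (1 : M2) + p.2 • (A : M2), by
      rw [key]
      have : (p.1.1 - e * p.2 + e * p.2) = p.1.1 := by ring
      rw [this]; exact p.1.2⟩, (mem_centralizer_iff' hA).2 ⟨_, _, rfl⟩⟩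
  have hne : ∀ x y : F, x • (1 : M2) + y • (A : M2) = 0 → x = 0 ∧ y = 0 := by
    intro x y h
    rw [mem_center_iff_entries] at hA
    have e00 := congrFun (congrFun h 0) 0
    have e01 := congrFun (congrFun h 0) 1
    have e10 := congrFun (congrFun h 1) 0
    have e11 := congrFun (congrFun h 1) 1
    simp at e00 e01 e10 e11
    by_cases hy : y = 0
    · refine ⟨?_, hy⟩
      rw [hy] at e00
      simpa using e00
    · exfalso
      apply hA
      refine ⟨e01.resolve_left hy, e10.resolve_left hy, ?_⟩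
      exact mul_left_cancel₀ hy (by linear_combination e00 - e11)
  apply Nat.card_congr
  refine Equiv.ofBijective f ⟨?_, ?_⟩
  · rintro ⟨⟨x, hx⟩, y⟩ ⟨⟨x', hx'⟩, y'⟩ h
    have h1 : (x - e * y) • (1 : M2) + y • (A : M2) = (x' - e * y') • (1 : M2) + y' • (A : M2) := by
      have := congrArg (fun z : Subgroup.centralizer ({A} : Set SL2) => ((z : SL2) : M2)) h
      exact this
    have h2 := hne ((x - e * y) - (x' - e * y')) (y - y') (by
      have := sub_eq_zero.2 h1
      rw [← this]
      module)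
    obtain ⟨h3, h4⟩ := h2
    have h5 := sub_eq_zero.1 h4
    subst h5
    have h6 : x = x' := by linear_combination h3
    subst h6
    rfl
  · rintro ⟨B, hB⟩
    obtain ⟨x, y, hxy⟩ := (mem_centralizer_iff' hA).1 hB
    refine ⟨⟨⟨x + e * y, ?_⟩, y⟩, ?_⟩
    · rw [← key, ← hxy, Matrix.SpecialLinearGroup.det_coe]
    · apply Subtype.ext
      apply Subtype.ext
      change (x + e * y - e * y) • (1 : M2) + y • (A : M2) = B
      rw [add_sub_cancel_right, hxy]

theorem card_sq_two (h2 : (2 : F) = 0) : Nat.card {x : F // x ^ 2 = 1} = 1 := by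
  rw [Nat.card_eq_one_iff_unique]
  refine ⟨⟨fun x y => ?_⟩, ⟨⟨1, by simp⟩⟩⟩
  have key : ∀ z : {x : F // x ^ 2 = 1}, z.1 = 1 := by
    intro z
    have h3 : (z.1 - 1) ^ 2 = 0 := by linear_combination z.2 + (1 - z.1) * h2
    exact sub_eq_zero.1 (pow_eq_zero_iff two_ne_zero |>.1 h3)
  exact Subtype.ext ((key x).trans (key y).symm)

theorem card_sq_odd (h2 : (2 : F) ≠ 0) : Nat.card {x : F // x ^ 2 = 1} = 2 := by
  rw [Nat.card_eq_two_iff]
  refine ⟨⟨1, by simp⟩, ⟨-1, by simp⟩, ?_, ?_⟩
  · intro h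
    have := congrArg Subtype.val h
    simp at this
    apply h2
    linear_combination this
  · ext ⟨x, hx⟩
    simp
    have : (x - 1) * (x + 1) = 0 := by linear_combination hx
    rcases mul_eq_zero.1 this with h | h
    · left; linear_combination h
    · right; linear_combination h

theorem card_unip_two [Fintype F] (h2 : (2 : F) = 0) {A : SL2} (hA : A ∉ Subgroup.center SL2) (ht : tr A ^ 2 = 4) :
    Nat.card (Subgroup.centralizer ({A} : Set SL2)) = Fintype.card F := by
  have h0 : tr A = 0 := by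
    have : tr A ^ 2 = 0 := by linear_combination ht + 2 * h2
    exact pow_eq_zero_iff two_ne_zero |>.1 this
  rw [card_centralizer_unip hA (e := 1) (by ring) (by rw [h0]; linear_combination -h2), Nat.card_prod, card_sq_two h2,
    one_mul, Nat.card_eq_fintype_card]

theorem card_unip_odd [Fintype F] (h2 : (2 : F) ≠ 0) {A : SL2} (hA : A ∉ Subgroup.center SL2) (ht : tr A ^ 2 = 4) :
    Nat.card (Subgroup.centralizer ({A} : Set SL2)) = 2 * Fintype.card F := by
  have h0 : (tr A - 2 * 1) * (tr A - 2 * (-1)) = 0 := by linear_combination ht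
  obtain ⟨e, he, hte⟩ : ∃ e : F, e * e = 1 ∧ tr A = 2 * e := by
    rcases mul_eq_zero.1 h0 with h | h
    · exact ⟨1, by ring, sub_eq_zero.1 h⟩
    · exact ⟨-1, by ring, sub_eq_zero.1 h⟩
  rw [card_centralizer_unip hA he hte, Nat.card_prod, card_sq_odd h2, Nat.card_eq_fintype_card]

/-- A non-central element with trace `t`. -/
theorem exists_tr (t : F) : ∃ A : SL2, A ∉ Subgroup.center SL2 ∧ tr A = t :=
  ⟨comp t, comp_not_mem_center t, tr_comp t⟩

/-- A trace with no root, non-zero. -/
theorem exists_no_root [Fintype F] (h : 4 ≤ Fintype.card F) :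
    ∃ t : F, t ≠ 0 ∧ ∀ x : F, x ^ 2 - t * x + 1 ≠ 0 := by
  obtain ⟨K, _, _, _, hK⟩ := exists_quadratic_ext F
  let b := Module.finBasisOfFinrankEq F K hK
  have hc := isCyclic_nsT b
  obtain ⟨g, hg⟩ := hc.exists_generator
  have hcard := card_nsT b
  have ho : orderOf g = Nat.card F + 1 := by
    rw [← hcard]
    exact orderOf_eq_card_of_forall_mem_zpowers hg
  rw [Nat.card_eq_fintype_card] at ho
  have hgc : (g : SL2) ∉ Subgroup.center SL2 := by
    intro hg2
    rw [mem_center_iff'] at hg2
    have h3 : g ^ 2 = 1 := by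
      apply Subtype.ext
      rcases hg2 with h3 | h3 <;> simp [h3]
    have h4 := Nat.le_of_dvd (by norm_num) (orderOf_dvd_of_pow_eq_one h3)
    omega
  refine ⟨tr (g : SL2), ?_, no_root_of_mem_nsT b g.2 hgc⟩
  intro h0
  have h3 : g ^ 4 = 1 := by
    apply Subtype.ext
    apply Subtype.ext
    have h5 := sq_eq (g : SL2)
    rw [h0, zero_smul, zero_sub] at h5
    have h6 : (((g : SL2) * (g : SL2) : SL2) : M2) = -1 := by
      rw [Matrix.SpecialLinearGroup.coe_mul, h5]
    have h7 : (g ^ 4 : nsT b).1.1 = (((g : SL2) * (g : SL2) : SL2) : M2) * (((g : SL2) * (g : SL2) : SL2) : M2) := by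
      rw [← Matrix.SpecialLinearGroup.coe_mul]
      have h8 : ((g ^ 4 : nsT b) : SL2) = (g : SL2) * g * ((g : SL2) * g) := by
        rw [Subgroup.coe_pow, pow_succ, pow_succ, pow_two]
        simp only [mul_assoc]
      exact congrArg Subtype.val h8
    rw [h7, h6]
    simp
  have h4 := Nat.le_of_dvd (by norm_num) (orderOf_dvd_of_pow_eq_one h3)
  omega

/-- A trace with a root, not `0` and with square different from `4`. -/
theorem exists_root [Fintype F] (h : 7 ≤ Fintype.card F ∨ ((2 : F) = 0 ∧ 4 ≤ Fintype.card F)) :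
    ∃ t c : F, t ^ 2 ≠ 4 ∧ c ^ 2 - t * c + 1 = 0 ∧ t ≠ 0 := by
  obtain ⟨g, hg⟩ := IsCyclic.exists_generator (α := Fˣ)
  have ho : orderOf g = Fintype.card F - 1 := by
    rw [orderOf_eq_card_of_forall_mem_zpowers hg, Nat.card_units, Nat.card_eq_fintype_card]
  have hgi : (g : F) * ((g⁻¹ : Fˣ) : F) = 1 := by simp
  have hg2 : (g : F) ^ 2 ≠ 1 := by
    intro h1
    have : g ^ 2 = 1 := Units.ext (by simpa using h1)
    have := Nat.le_of_dvd (by norm_num) (orderOf_dvd_of_pow_eq_one this)
    omega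
  refine ⟨(g : F) + ((g⁻¹ : Fˣ) : F), g, ?_, by linear_combination -hgi, ?_⟩
  · have := dg_tr_sq_ne hg2
    rwa [tr_dg] at this
  · intro h0
    have h1 : (g : F) ^ 2 = -1 := by linear_combination (g : F) * h0 - hgi
    rcases h with h | ⟨h2, h⟩
    · have : g ^ 4 = 1 := Units.ext (by
        rw [Units.val_pow_eq_pow_val, Units.val_one]
        linear_combination ((g : F) ^ 2 - 1) * h1)
      have := Nat.le_of_dvd (by norm_num) (orderOf_dvd_of_pow_eq_one this)
      omega
    · apply hg2
      rw [h1]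
      linear_combination -h2

theorem index_center {A : SL2} (hA : A ∈ Subgroup.center SL2) :
    (Subgroup.centralizer ({(QuotientGroup.mk A : PSL2)} : Set PSL2)).index = 1 := by
  have : (QuotientGroup.mk A : PSL2) = 1 := (QuotientGroup.eq_one_iff A).2 hA
  rw [this, Subgroup.index_eq_one, Subgroup.centralizer_eq_top_iff_subset]
  intro x hx
  rw [Set.mem_singleton_iff.1 hx]
  exact one_mem _

section Idx

variable [Fintype F]

theorem arith (q : ℕ) : q * (q ^ 2 - 1) = (q - 1) * (q * (q + 1)) := by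
  rcases q with _ | k
  · simp
  · have : (k + 1) ^ 2 - 1 = k * (k + 2) := by
      have : (k + 1) ^ 2 = k * (k + 2) + 1 := by ring
      omega
    rw [this]
    simp
    ring

theorem arith' (q : ℕ) : q * (q ^ 2 - 1) = (q + 1) * (q * (q - 1)) := by
  rw [arith]; ring

theorem index_unip_two (h2 : (2 : F) = 0) {A : SL2} (hA : A ∉ Subgroup.center SL2) (ht : tr A ^ 2 = 4) :
    (Subgroup.centralizer ({(QuotientGroup.mk A : PSL2)} : Set PSL2)).index = Fintype.card F ^ 2 - 1 := by
  rw [index_eq, comap_of_tr_ne A (Or.inl h2)]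
  exact index_of_card _ (Fintype.card F) _ Fintype.card_pos (card_unip_two h2 hA ht) rfl

theorem index_unip_odd (h2 : (2 : F) ≠ 0) {A : SL2} (hA : A ∉ Subgroup.center SL2) (ht : tr A ^ 2 = 4) :
    (Subgroup.centralizer ({(QuotientGroup.mk A : PSL2)} : Set PSL2)).index = (Fintype.card F ^ 2 - 1) / 2 := by
  have h0 : tr A ≠ 0 := by
    intro h
    rw [h] at ht
    apply h2
    have : (2 : F) * 2 = 0 := by linear_combination -ht
    exact mul_self_eq_zero.1 this
  have hc := card_unip_odd h2 hA ht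
  rw [index_eq, comap_of_tr_ne A (Or.inr h0)]
  have h1 := Subgroup.card_mul_index (Subgroup.centralizer ({A} : Set SL2))
  rw [hc, ClSL2.card_SL2 (F := F) rfl, mul_comm 2, mul_assoc] at h1
  have h3 := Nat.eq_of_mul_eq_mul_left Fintype.card_pos h1
  omega

theorem index_root_ne {A : SL2} (h0 : (2 : F) = 0 ∨ tr A ≠ 0) (h4 : tr A ^ 2 ≠ 4) {c : F}
    (hc : c ^ 2 - tr A * c + 1 = 0) :
    (Subgroup.centralizer ({(QuotientGroup.mk A : PSL2)} : Set PSL2)).index =
      Fintype.card F * (Fintype.card F + 1) := by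
  have h1 : 1 < Fintype.card F := Fintype.one_lt_card
  rw [index_eq, comap_of_tr_ne A h0]
  refine index_of_card _ (Fintype.card F - 1) _ (by omega) ?_ (arith _).symm
  rw [(centralizer_of_root h4 hc).2, Nat.card_eq_fintype_card]

theorem index_no_root_ne {A : SL2} (h0 : (2 : F) = 0 ∨ tr A ≠ 0)
    (hr : ∀ x : F, x ^ 2 - tr A * x + 1 ≠ 0) :
    (Subgroup.centralizer ({(QuotientGroup.mk A : PSL2)} : Set PSL2)).index =
      Fintype.card F * (Fintype.card F - 1) := by
  rw [index_eq, comap_of_tr_ne A h0]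
  refine index_of_card _ (Fintype.card F + 1) _ (by omega) ?_ (arith' _).symm
  rw [(centralizer_of_no_root hr).2, Nat.card_eq_fintype_card]

theorem tr_zero_sq (h2 : (2 : F) ≠ 0) {A : SL2} (h0 : tr A = 0) : tr A ^ 2 ≠ 4 := by
  intro ht
  rw [h0] at ht
  apply h2
  have : (2 : F) * 2 = 0 := by linear_combination -ht
  exact mul_self_eq_zero.1 this

theorem index_root_zero (h2 : (2 : F) ≠ 0) {A : SL2} (h0 : tr A = 0) {c : F}
    (hc : c ^ 2 - tr A * c + 1 = 0) :
    (Subgroup.centralizer ({(QuotientGroup.mk A : PSL2)} : Set PSL2)).index =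
      Fintype.card F * (Fintype.card F + 1) / 2 := by
  have h1 : 1 < Fintype.card F := Fintype.one_lt_card
  have h4 := tr_zero_sq h2 h0
  rw [index_eq, comap_of_tr_zero A h2 h0]
  have h5 := Subgroup.card_mul_index (Subgroup.normalizer
    ((Subgroup.centralizer ({A} : Set SL2) : Subgroup SL2) : Set SL2))
  rw [card_normalizer h2 h4, (centralizer_of_root h4 hc).2, Nat.card_eq_fintype_card,
    ClSL2.card_SL2 (F := F) rfl, arith, mul_comm 2, mul_assoc] at h5
  have h3 := Nat.eq_of_mul_eq_mul_left (by omega) h5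
  omega

theorem index_no_root_zero (h2 : (2 : F) ≠ 0) {A : SL2} (h0 : tr A = 0)
    (hr : ∀ x : F, x ^ 2 - tr A * x + 1 ≠ 0) :
    (Subgroup.centralizer ({(QuotientGroup.mk A : PSL2)} : Set PSL2)).index =
      Fintype.card F * (Fintype.card F - 1) / 2 := by
  have h4 := tr_zero_sq h2 h0
  rw [index_eq, comap_of_tr_zero A h2 h0]
  have h5 := Subgroup.card_mul_index (Subgroup.normalizer
    ((Subgroup.centralizer ({A} : Set SL2) : Subgroup SL2) : Set SL2))
  rw [card_normalizer h2 h4, (centralizer_of_no_root hr).2, Nat.card_eq_fintype_card,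
    ClSL2.card_SL2 (F := F) rfl, arith', mul_comm 2, mul_assoc] at h5
  have h3 := Nat.eq_of_mul_eq_mul_left (by omega) h5
  omega

end Idx

end Cfsg.Agent.Lib.PSL2ClassSize
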