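import Mathlib
import Cfsg.Agent.Lib.SL2Tori
import Cfsg.Agent.Lib.ClSL2
import Cfsg.Agent.Lib.PSL2ClassSize

/-!
# Elementary facts on commuting elements of `PSL₂(q)` (helper14)
-/

set_option autoImplicit false

namespace Cfsg.Agent.Lib.BinPslA

open Matrix Cfsg.Agent.Lib.SL2Basic Cfsg.Agent.Lib.SL2Tori Cfsg.Agent.Lib.ClSL2
open scoped MatrixGroups

universe u

variable {F : Type u} [Field F]

local notation "SL2" => Matrix.SpecialLinearGroup (Fin 2) F
local notation "M2" => Matrix (Fin 2) (Fin 2) F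
local notation "PSL2" => Matrix.ProjectiveSpecialLinearGroup (Fin 2) F

/-- class of a matrix -/
abbrev mk (A : SL2) : PSL2 := QuotientGroup.mk A

theorem mk_mul (A B : SL2) : mk (A * B) = mk A * mk B := rfl
theorem mk_inv (A : SL2) : mk A⁻¹ = (mk A)⁻¹ := rfl
theorem mk_surj (g : PSL2) : ∃ A : SL2, mk A = g := QuotientGroup.mk_surjective g
theorem mk_eq {A B : SL2} : mk A = mk B ↔ A = B ∨ A = -B := mk_eq_mk_iff A B
theorem mk_one : mk (1 : SL2) = 1 := rfl
theorem mk_neg (A : SL2) : mk (-A) = mk A := mk_eq.2 (Or.inr rfl)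
theorem mk_eq_one {A : SL2} : mk A = 1 ↔ A = 1 ∨ A = -1 := by rw [← mk_one, mk_eq]

theorem noncentral {A : SL2} (h : mk A ≠ 1) : A ∉ Subgroup.center SL2 := fun hc =>
  h (mk_eq_one.2 ((mem_center_iff' A).1 hc))

theorem neg_eq_self (h2 : (2 : F) = 0) (A : SL2) : -A = A := by
  apply Subtype.ext
  ext i j
  change -((A : M2) i j) = (A : M2) i j
  linear_combination (-(A : M2) i j) * h2

theorem mk_inj (h2 : (2 : F) = 0) {A B : SL2} (h : mk A = mk B) : A = B := by
  rcases mk_eq.1 h with h | h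
  · exact h
  · rw [h, neg_eq_self h2]

theorem mk_comm {A B : SL2} : mk A * mk B = mk B * mk A ↔ A * B = B * A ∨ A * B = -(B * A) := by
  rw [← mk_mul, ← mk_mul, mk_eq]

/-- a matrix whose class is an involution has trace zero -/
theorem tr_zero {A : SL2} (h1 : mk A ≠ 1) (h : mk A * mk A = 1) : tr A = 0 := by
  have hA := noncentral h1
  rw [← mk_mul, mk_eq_one] at h
  have hs := sq_eq A
  have hA' : ¬ ((A : M2) 0 1 = 0 ∧ (A : M2) 1 0 = 0 ∧ (A : M2) 0 0 = (A : M2) 1 1) := fun hh =>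
    hA ((mem_center_iff_entries A).2 hh)
  by_contra ht
  apply hA'
  have key : ∃ e : F, tr A • (A : M2) = e • (1 : M2) := by
    rcases h with h | h
    · refine ⟨2, ?_⟩
      have h2 := congrArg (fun Z : SL2 => (Z : M2)) h
      simp only [Matrix.SpecialLinearGroup.coe_mul, Matrix.SpecialLinearGroup.coe_one] at h2
      rw [h2] at hs
      rw [eq_add_of_sub_eq hs.symm, two_smul]
    · refine ⟨0, ?_⟩
      have h2 := congrArg (fun Z : SL2 => (Z : M2)) h
      simp only [Matrix.SpecialLinearGroup.coe_mul, Matrix.SpecialLinearGroup.coe_neg,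
        Matrix.SpecialLinearGroup.coe_one] at h2
      rw [h2] at hs
      rw [eq_add_of_sub_eq hs.symm, zero_smul]
      abel
  obtain ⟨e, he⟩ := key
  have e01 := congrFun (congrFun he 0) 1
  have e10 := congrFun (congrFun he 1) 0
  have e00 := congrFun (congrFun he 0) 0
  have e11 := congrFun (congrFun he 1) 1
  simp at e01 e10 e00 e11
  refine ⟨e01.resolve_left ht, e10.resolve_left ht, mul_left_cancel₀ ht (e00.trans e11.symm)⟩

theorem sq_of_tr_zero {A : SL2} (h : tr A = 0) : A * A = -1 := by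
  apply Subtype.ext
  change (A : M2) * A = -(1 : M2)
  rw [sq_eq, h, zero_smul, zero_sub]

theorem invol_of_tr_zero {A : SL2} (h : tr A = 0) : mk A * mk A = 1 := by
  rw [← mk_mul, sq_of_tr_zero h, mk_neg, mk_one]

/-! ### commuting elements -/

/-- centralizers of elements of order not two are abelian -/
theorem comm_of_comm {g x y : PSL2} (hg1 : g ≠ 1) (hg : (2 : F) = 0 ∨ g * g ≠ 1) (hx : x * g = g * x) (hy : y * g = g * y) :
    x * y = y * x := by
  obtain ⟨A, rfl⟩ := mk_surj g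
  obtain ⟨B, rfl⟩ := mk_surj x
  obtain ⟨C, rfl⟩ := mk_surj y
  have hA := noncentral hg1
  have ht : (2 : F) = 0 ∨ tr A ≠ 0 := hg.imp id (fun h h0 => h (invol_of_tr_zero h0))
  have hc := PSL2ClassSize.comap_of_tr_ne A ht
  have h1 : B ∈ Subgroup.centralizer ({A} : Set SL2) := by
    rw [← hc, Subgroup.mem_comap, Subgroup.mem_centralizer_singleton_iff]; exact hx
  have h2 : C ∈ Subgroup.centralizer ({A} : Set SL2) := by
    rw [← hc, Subgroup.mem_comap, Subgroup.mem_centralizer_singleton_iff]; exact hy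
  rw [← mk_mul, ← mk_mul, centralizer_comm hA h1 h2]

/-- in characteristic two the centralizer of an involution is elementary abelian -/
theorem sq_of_comm (h2 : (2 : F) = 0) {g x : PSL2} (hg1 : g ≠ 1) (hg : g * g = 1) (hx : x * g = g * x) : x * x = 1 := by
  obtain ⟨A, rfl⟩ := mk_surj g
  obtain ⟨B, rfl⟩ := mk_surj x
  have hA := noncentral hg1
  have ht := tr_zero hg1 hg
  have h1 : B ∈ Subgroup.centralizer ({A} : Set SL2) := by
    rw [← PSL2ClassSize.comap_of_tr_ne A (Or.inl h2), Subgroup.mem_comap, Subgroup.mem_centralizer_singleton_iff]; exact hx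
  rw [mem_centralizer_iff' hA] at h1
  obtain ⟨x, y, hB⟩ := h1
  apply invol_of_tr_zero
  rw [(tr_of_eq hB).1, ht, h2]; ring

/-- commuting with two distinct commuting involutions, `q` odd -/
theorem sq_of_comm_two [Fintype F] (h2 : (2 : F) ≠ 0) {g h k : PSL2} (hg1 : g ≠ 1) (hg : g * g = 1) (hh1 : h ≠ 1) (hh : h * h = 1)
    (hne : g ≠ h) (hgh : g * h = h * g) (hkg : k * g = g * k) (hkh : k * h = h * k) : k * k = 1 := by
  obtain ⟨A, rfl⟩ := mk_surj g
  obtain ⟨B, rfl⟩ := mk_surj h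
  obtain ⟨K, rfl⟩ := mk_surj k
  have hA := noncentral hg1
  have htA := tr_zero hg1 hg
  have htB := tr_zero hh1 hh
  have hA4 := PSL2ClassSize.tr_zero_sq h2 htA
  have hAB : A * B = -(B * A) := by
    refine (mk_comm.1 hgh).resolve_left fun h => ?_
    rcases eq_or_eq_inv_of_mem_centralizer hA4 (B := B)
      (by rw [Subgroup.mem_centralizer_singleton_iff, h]) (by rw [htA, htB]) with e | e
    · exact hne (by rw [e])
    · apply hne
      rw [e, PSL2ClassSize.inv_eq_neg htA, mk_neg]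
  have hKA : (K * K) * A = A * (K * K) := by
    rcases mk_comm.1 hkg with e | e
    · rw [mul_assoc, e, ← mul_assoc, e, mul_assoc]
    · rw [mul_assoc, e, mul_neg, ← mul_assoc, e, neg_mul, neg_neg, mul_assoc]
  have hKB : (K * K) * B = B * (K * K) := by
    rcases mk_comm.1 hkh with e | e
    · rw [mul_assoc, e, ← mul_assoc, e, mul_assoc]
    · rw [mul_assoc, e, mul_neg, ← mul_assoc, e, neg_mul, neg_neg, mul_assoc]
  have h1 : K * K ∈ Subgroup.centralizer ({A} : Set SL2) := by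
    rw [Subgroup.mem_centralizer_singleton_iff, hKA]
  rw [mem_centralizer_iff' hA] at h1
  obtain ⟨x, y, hx⟩ := h1
  -- `x + yA` commutes with `B`
  have h3 : (y * 2) • ((B : M2) * (A : M2)) = 0 := by
    have e1 := congrArg (fun Z : SL2 => (Z : M2)) hKB
    have e2 := congrArg (fun Z : SL2 => (Z : M2)) hAB
    simp only [Matrix.SpecialLinearGroup.coe_mul, Matrix.SpecialLinearGroup.coe_neg] at e1 e2 hx
    rw [hx] at e1
    simp only [add_mul, mul_add, smul_mul_assoc, mul_smul_comm, one_mul, mul_one, e2] at e1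
    rw [add_right_inj, smul_neg] at e1
    rw [mul_smul, two_smul, smul_add]
    rw [neg_eq_iff_add_eq_zero] at e1
    exact e1
  have hy : y = 0 := by
    by_contra hy
    rcases smul_eq_zero.1 h3 with h4 | h4
    · exact (mul_ne_zero hy h2) h4
    · have h5 : ((B * A : SL2) : M2).det = 0 := by
        rw [Matrix.SpecialLinearGroup.coe_mul, h4, Matrix.det_zero]
      rw [(B * A).det_coe] at h5
      exact one_ne_zero h5
  rw [hy, zero_smul, add_zero] at hx
  rw [← mk_mul, mk_eq_one, ← mem_center_iff', mem_center_iff_entries, hx]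
  simp

/-- involutions are conjugate -/
theorem exists_conj_of_invol [Fintype F] {s t : PSL2} (hs1 : s ≠ 1) (hs : s * s = 1) (ht1 : t ≠ 1) (ht : t * t = 1) :
    ∃ g : PSL2, g * s * g⁻¹ = t := by
  obtain ⟨A, rfl⟩ := mk_surj s
  obtain ⟨B, rfl⟩ := mk_surj t
  have htA := tr_zero hs1 hs
  have htB := tr_zero ht1 ht
  by_cases h2 : (2 : F) = 0
  · obtain ⟨g, hg⟩ := exists_gl_conj (noncentral hs1) (noncentral ht1) (htA.trans htB.symm)
    have hch : ringChar F = 2 := by
      have : CharP F 2 := CharTwo.of_one_ne_zero_of_two_eq_zero one_ne_zero h2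
      exact ringChar.eq F 2 ▸ rfl
    obtain ⟨r, hr⟩ := FiniteField.isSquare_of_char_two hch ((g : M2).det)
    have hdet : (g : M2).det ≠ 0 := g.det.ne_zero
    have hr0 : r ≠ 0 := by
      rintro rfl
      rw [mul_zero] at hr
      exact hdet hr
    let P : SL2 := ⟨r⁻¹ • (g : M2), by
      rw [Matrix.det_smul, hr, Fintype.card_fin]
      field_simp⟩
    refine ⟨mk P, ?_⟩
    have h3 : P * A = B * P := by
      apply Subtype.ext
      change (r⁻¹ • (g : M2)) * (A : M2) = (B : M2) * (r⁻¹ • (g : M2))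
      rw [smul_mul_assoc, hg, mul_smul_comm]
    rw [← mk_inv, ← mk_mul, h3, ← mk_mul, mul_assoc, mul_inv_cancel, mul_one]
  · obtain ⟨g, hg⟩ := exists_sl_conj_of_tr (htA.trans htB.symm) (PSL2ClassSize.tr_zero_sq h2 htA)
    exact ⟨mk g, by rw [← mk_inv, ← mk_mul, ← mk_mul, hg]⟩

theorem uS_mul (a b : F) : (uS a : SL2) * uS b = uS (a + b) := by
  apply Subtype.ext
  change (uS a : M2) * (uS b : M2) = (uS (a + b) : M2)
  rw [coe_uS, coe_uS, coe_uS]
  ext i j
  fin_cases i <;> fin_cases j <;> simp [add_comm]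

theorem uS_zero : (uS 0 : SL2) = 1 := by
  apply Subtype.ext
  change ((uS 0 : SL2) : M2) = 1
  rw [coe_uS]
  ext i j
  fin_cases i <;> fin_cases j <;> simp

theorem uS_inv (a : F) : (uS a : SL2)⁻¹ = uS (-a) := by
  rw [inv_eq_iff_mul_eq_one, uS_mul, add_neg_cancel, uS_zero]

theorem mk_uS_ne {b : F} (hb : b ≠ 0) : mk (uS b) ≠ 1 := by
  intro h
  rw [mk_eq_one, ← mem_center_iff', mem_center_iff_entries] at h
  apply hb
  have := h.1
  change (uS b : M2) 0 1 = 0 at this
  simpa using this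

/-- two non-commuting involutions in characteristic two -/
theorem gen_two [Fintype F] (h2 : (2 : F) = 0) {s t : PSL2} (hs1 : s ≠ 1) (hs : s * s = 1) (ht1 : t ≠ 1) (ht : t * t = 1)
    (hne : s * t ≠ t * s) (M : Subgroup PSL2) (hMs : ∀ x, x * s = s * x → x ∈ M) (hMt : ∀ x, x * t = t * x → x ∈ M) :
    M = ⊤ := by
  have hu1 : mk (uS (1 : F)) ≠ 1 := mk_uS_ne one_ne_zero
  have huu : mk (uS (1 : F)) * mk (uS 1) = 1 := by
    rw [← mk_mul, uS_mul]
    have : (1 : F) + 1 = 0 := by rw [one_add_one_eq_two, h2]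
    rw [this, uS_zero, mk_one]
  obtain ⟨P', hP⟩ := exists_conj_of_invol hu1 huu hs1 hs
  obtain ⟨Q', hQ⟩ := exists_conj_of_invol hu1 huu ht1 ht
  obtain ⟨P, rfl⟩ := mk_surj P'
  obtain ⟨Q, rfl⟩ := mk_surj Q'
  let h : SL2 := P⁻¹ * Q
  have hcomm : ∀ b c : F, mk (uS b) * mk (uS c) = mk (uS c) * mk (uS b) := by
    intro b c
    rw [← mk_mul, ← mk_mul, uS_mul, uS_mul, add_comm]
  have h10 : (h : M2) 1 0 ≠ 0 := by
    intro h0
    apply hne
    -- `h` normalizes the upper unitriangular group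
    have hd := det2 h
    rw [h0, mul_zero, sub_zero] at hd
    have h00 : (h : M2) 0 0 ≠ 0 := left_ne_zero_of_mul_eq_one hd
    have h4 : h * uS 1 = uS ((h : M2) 0 0 / (h : M2) 1 1) * h := by
      have h11 : (h : M2) 1 1 ≠ 0 := right_ne_zero_of_mul_eq_one hd
      apply Subtype.ext
      change (h : M2) * ((uS 1 : SL2) : M2) = ((uS ((h : M2) 0 0 / (h : M2) 1 1) : SL2) : M2) * (h : M2)
      rw [coe_uS, coe_uS]
      ext i j
      fin_cases i <;> fin_cases j <;> simp [Matrix.mul_apply, Fin.sum_univ_two, h0]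
      field_simp
      ring
    have hQ' : t = mk P * mk (uS ((h : M2) 0 0 / (h : M2) 1 1)) * (mk P)⁻¹ := by
      rw [← hQ]
      have e1 : mk Q = mk P * mk h := by rw [← mk_mul]; simp [h]
      have e2 : mk h * mk (uS 1) * (mk h)⁻¹ = mk (uS ((h : M2) 0 0 / (h : M2) 1 1)) := by
        rw [← mk_mul, h4, mk_mul, mul_assoc, mul_inv_cancel, mul_one]
      rw [← e2, e1]
      group
    rw [hQ', ← hP]
    have := hcomm 1 ((h : M2) 0 0 / (h : M2) 1 1)
    calc mk P * mk (uS 1) * (mk P)⁻¹ * (mk P * mk (uS ((h : M2) 0 0 / (h : M2) 1 1)) * (mk P)⁻¹)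
        = mk P * (mk (uS 1) * mk (uS ((h : M2) 0 0 / (h : M2) 1 1))) * (mk P)⁻¹ := by group
      _ = mk P * (mk (uS ((h : M2) 0 0 / (h : M2) 1 1)) * mk (uS 1)) * (mk P)⁻¹ := by rw [this]
      _ = _ := by group
  let N : Subgroup SL2 := (M.comap (QuotientGroup.mk' (Subgroup.center SL2))).comap (MulAut.conj P).toMonoidHom
  have hN : ∀ z : SL2, z ∈ N ↔ mk P * mk z * (mk P)⁻¹ ∈ M := fun z => Iff.rfl
  have hUS : ∀ z ∈ US F, ∃ b, z = uS b := by
    intro z hz
    rw [mem_US] at hz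
    exact ⟨(z : M2) 0 1, Subtype.ext (by
      change (z : M2) = ((uS ((z : M2) 0 1) : SL2) : M2)
      rw [coe_uS]
      have := Matrix.eta_fin_two (z : M2)
      rw [hz.1, hz.2.1, hz.2.2] at this
      exact this)⟩
  have hNtop : N = ⊤ := by
    rw [eq_top_iff, ← US_sup_conj_eq_top h10]
    apply sup_le
    · intro z hz
      obtain ⟨b, rfl⟩ := hUS z hz
      rw [hN]
      apply hMs
      rw [← hP]
      calc mk P * mk (uS b) * (mk P)⁻¹ * (mk P * mk (uS 1) * (mk P)⁻¹)
          = mk P * (mk (uS b) * mk (uS 1)) * (mk P)⁻¹ := by group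
        _ = mk P * (mk (uS 1) * mk (uS b)) * (mk P)⁻¹ := by rw [hcomm]
        _ = _ := by group
    · rintro z ⟨w, hw, rfl⟩
      obtain ⟨b, rfl⟩ := hUS w hw
      change mk P * mk (h * uS b * h⁻¹) * (mk P)⁻¹ ∈ M
      apply hMt
      have e1 : mk Q = mk P * mk h := by rw [← mk_mul]; simp [h]
      have e2 : mk P * mk (h * uS b * h⁻¹) * (mk P)⁻¹ = mk Q * mk (uS b) * (mk Q)⁻¹ := by
        rw [e1, mk_mul, mk_mul, mk_inv]
        group
      rw [e2, ← hQ]
      calc mk Q * mk (uS b) * (mk Q)⁻¹ * (mk Q * mk (uS 1) * (mk Q)⁻¹)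
          = mk Q * (mk (uS b) * mk (uS 1)) * (mk Q)⁻¹ := by group
        _ = mk Q * (mk (uS 1) * mk (uS b)) * (mk Q)⁻¹ := by rw [hcomm]
        _ = _ := by group
  rw [eq_top_iff]
  intro g _
  obtain ⟨z, hz'⟩ := mk_surj ((mk P)⁻¹ * g * mk P)
  have hz : z ∈ N := by rw [hNtop]; trivial
  rw [hN, hz'] at hz
  have : mk P * ((mk P)⁻¹ * g * mk P) * (mk P)⁻¹ = g := by group
  rwa [this] at hz

end Cfsg.Agent.Lib.BinPslA
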