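import Mathlib
import Cfsg.Agent.Lib.BinPslA
import Cfsg.Agent.Lib.MobCard
import Cfsg.Agent.Lib.MobOct
import Cfsg.Agent.S2475

/-!
# Centralizers of involutions of `PSL₂(q)`, `q` odd (helper14)
-/

set_option autoImplicit false

namespace Cfsg.Agent.Lib.BinPslE

open Matrix Cfsg.Agent.Lib.SL2Basic Cfsg.Agent.Lib.SL2Tori Cfsg.Agent.Lib.ClSL2
  Cfsg.Agent.Lib.BinPslA Cfsg.Agent.Lib.MobCount
open MulAction (stabilizer mem_stabilizer_iff)
open scoped MatrixGroups LinearAlgebra.Projectivization

universe u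

variable {F : Type u} [Field F]

local notation "SL2" => Matrix.SpecialLinearGroup (Fin 2) F
local notation "M2" => Matrix (Fin 2) (Fin 2) F
local notation "PSL2" => Matrix.ProjectiveSpecialLinearGroup (Fin 2) F

/-- the centralizer of an element -/
abbrev cen (s : PSL2) : Subgroup PSL2 := Subgroup.centralizer ({s} : Set PSL2)

theorem mem_cen {s x : PSL2} : x ∈ cen s ↔ x * s = s * x := Subgroup.mem_centralizer_singleton_iff

variable [Fintype F]

theorem two_ne (hodd : Odd (Fintype.card F)) : (2 : F) ≠ 0 := two_ne_zero_of_odd hodd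

/-- the order of the centralizer of an involution, and an element generating half of it -/
theorem cen_facts (hodd : Odd (Fintype.card F)) (h3 : 3 ≤ Fintype.card F) {s : PSL2} (hs1 : s ≠ 1) (hs : s * s = 1) :
    4 ∣ Nat.card (cen s) ∧ (Nat.card (cen s) = Fintype.card F - 1 ∨ Nat.card (cen s) = Fintype.card F + 1) ∧
      ∃ x ∈ cen s, 2 * orderOf x = Nat.card (cen s) := by
  have h2 := two_ne hodd
  obtain ⟨A, rfl⟩ := mk_surj s
  have htA := tr_zero hs1 hs
  have h4 := PSL2ClassSize.tr_zero_sq h2 htA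
  have hG := card_P2 (F := F) rfl
  have hgcd : Nat.gcd 2 (Fintype.card F - 1) = 2 := by
    have : Even (Fintype.card F - 1) := Nat.Odd.sub_odd hodd odd_one
    exact Nat.gcd_eq_left this.two_dvd
  rw [hgcd] at hG
  have hidx := Subgroup.card_mul_index (cen (mk A))
  have hgen : ∀ n : ℕ, Even n → 0 < n → IsCyclic (Subgroup.centralizer ({A} : Set SL2)) →
      Nat.card (Subgroup.centralizer ({A} : Set SL2)) = n → Nat.card (cen (mk A)) = n →
      ∃ x ∈ cen (mk A), 2 * orderOf x = Nat.card (cen (mk A)) := by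
    intro n hn hn0 hcyc hcard hc
    obtain ⟨z, hz⟩ := IsCyclic.exists_ofOrder_eq_natCard (α := Subgroup.centralizer ({A} : Set SL2))
    rw [hcard, ← Subgroup.orderOf_coe] at hz
    have hzc := z.2
    rw [Subgroup.mem_centralizer_singleton_iff] at hzc
    refine ⟨mk (z : SL2), mem_cen.2 (by rw [← mk_mul, ← mk_mul, hzc]), ?_⟩
    rw [hc]
    obtain ⟨m, hm⟩ := hn
    have hm2 : n = 2 * m := by omega
    have hm0 : 0 < m := by omega
    rw [hm2]
    congr 1
    apply Nat.dvd_antisymm
    · apply orderOf_dvd_of_pow_eq_one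
      change mk ((z : SL2) ^ m) = 1
      rw [mk_eq_one]
      apply SL2Tori.eq_one_or_neg_one_of_sq h2
      rw [← pow_add, ← hm, ← hz, pow_orderOf_eq_one]
    · have h5 : mk ((z : SL2) ^ orderOf (mk (z : SL2))) = 1 := pow_orderOf_eq_one (mk (z : SL2))
      rw [mk_eq_one] at h5
      have h6 : (z : SL2) ^ (2 * orderOf (mk (z : SL2))) = 1 := by
        rw [mul_comm, pow_mul]
        rcases h5 with h5 | h5 <;> rw [h5] <;> simp
      have h7 := orderOf_dvd_of_pow_eq_one h6
      rw [hz, hm2] at h7
      exact Nat.dvd_of_mul_dvd_mul_left (by norm_num) h7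
  by_cases hr : ∀ x : F, x ^ 2 - tr A * x + 1 ≠ 0
  · have h5 := PSL2ClassSize.index_no_root_zero h2 htA hr
    have hcc : Nat.card (cen (mk A)) = Fintype.card F + 1 := by
      have h6 : Nat.card (cen (mk A)) * (2 * (Fintype.card F * (Fintype.card F - 1) / 2)) =
          Fintype.card F * (Fintype.card F ^ 2 - 1) := by
        rw [← hG, ← hidx, ← h5]; ring
      have h7 : 2 * (Fintype.card F * (Fintype.card F - 1) / 2) = Fintype.card F * (Fintype.card F - 1) :=
        Nat.mul_div_cancel' (dvd_mul_of_dvd_right (Nat.Odd.sub_odd hodd odd_one).two_dvd _)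
      rw [h7, PSL2ClassSize.arith'] at h6
      exact Nat.eq_of_mul_eq_mul_right (Nat.mul_pos (by omega) (by omega)) h6
    have hns : ¬ IsSquare (-1 : F) := by
      rintro ⟨i, hi⟩
      exact hr i (by rw [htA]; linear_combination -hi)
    have hmod : Fintype.card F % 4 = 3 := by
      by_contra h
      exact hns (FiniteField.isSquare_neg_one_iff.2 h)
    refine ⟨by rw [hcc]; omega, Or.inr hcc, ?_⟩
    have h8 := centralizer_of_no_root hr
    exact hgen (Fintype.card F + 1) (by rcases hodd with ⟨r, hr⟩; exact ⟨r + 1, by omega⟩) (by omega) h8.1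
      (by rw [h8.2, Nat.card_eq_fintype_card]) hcc
  · push Not at hr
    obtain ⟨c, hc⟩ := hr
    have h5 := PSL2ClassSize.index_root_zero h2 htA hc
    have hcc : Nat.card (cen (mk A)) = Fintype.card F - 1 := by
      have h6 : Nat.card (cen (mk A)) * (2 * (Fintype.card F * (Fintype.card F + 1) / 2)) =
          Fintype.card F * (Fintype.card F ^ 2 - 1) := by
        rw [← hG, ← hidx, ← h5]; ring
      have h7 : 2 * (Fintype.card F * (Fintype.card F + 1) / 2) = Fintype.card F * (Fintype.card F + 1) :=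
        Nat.mul_div_cancel' (dvd_mul_of_dvd_right (by rcases hodd with ⟨r, hr⟩; exact ⟨r + 1, by omega⟩) _)
      rw [h7, PSL2ClassSize.arith] at h6
      exact Nat.eq_of_mul_eq_mul_right (Nat.mul_pos (by omega) (by omega)) h6
    have hs' : IsSquare (-1 : F) := ⟨c, by rw [htA] at hc; linear_combination -hc⟩
    have hmod : Fintype.card F % 4 ≠ 3 := FiniteField.isSquare_neg_one_iff.1 hs'
    have hmod2 : Fintype.card F % 2 = 1 := Nat.odd_iff.1 hodd
    refine ⟨by rw [hcc]; omega, Or.inl hcc, ?_⟩
    have h8 := centralizer_of_root h4 hc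
    exact hgen (Fintype.card F - 1) (Nat.Odd.sub_odd hodd odd_one) (by omega) h8.1
      (by rw [h8.2, Nat.card_eq_fintype_card]) hcc

/-- an involution commuting with `s` -/
theorem exists_comm_invol (hodd : Odd (Fintype.card F)) {s : PSL2} (hs1 : s ≠ 1) (hs : s * s = 1) :
    ∃ h : PSL2, h ≠ 1 ∧ h * h = 1 ∧ h ≠ s ∧ h * s = s * h := by
  have h2 := two_ne hodd
  obtain ⟨A, rfl⟩ := mk_surj s
  have htA := tr_zero hs1 hs
  have h4 := PSL2ClassSize.tr_zero_sq h2 htA
  obtain ⟨g, hg⟩ := exists_inverts h4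
  have hgg := sq_of_inverts h2 h4 hg
  have hA := noncentral hs1
  have hgA : g * A = A⁻¹ * g := by rw [← hg]; group
  have hinv := PSL2ClassSize.inv_eq_neg htA
  rw [hinv, neg_mul] at hgA
  have hne : ¬ (A = -A) := by
    intro h
    have h5 := congrArg (fun Z : SL2 => (Z : M2)) h
    apply hA
    rw [mem_center_iff_entries]
    have e : ∀ i j, (A : M2) i j = 0 := by
      intro i j
      have := congrFun (congrFun h5 i) j
      simp only [Matrix.SpecialLinearGroup.coe_neg, Matrix.neg_apply] at this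
      have h6 : (2 : F) * (A : M2) i j = 0 := by linear_combination this
      exact (mul_eq_zero.1 h6).resolve_left h2
    exact ⟨e 0 1, e 1 0, by rw [e, e]⟩
  refine ⟨mk g, ?_, by rw [← mk_mul, hgg, mk_neg, mk_one], ?_, by rw [← mk_mul, ← mk_mul, hgA, mk_neg]⟩
  · intro h
    rw [mk_eq_one] at h
    apply hne
    rcases h with rfl | rfl
    · simpa using hgA
    · simp at hgA
      exact hgA.symm
  · intro h
    rw [mk_eq] at h
    apply hne
    have h5 : A * A = -(A * A) := by
      rcases h with h | h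
      · rw [h] at hgA; exact hgA
      · rw [h] at hgA
        simp only [neg_mul, mul_neg, neg_neg] at hgA
        rw [← hgA]
        nth_rewrite 1 [hgA]
        simp
    have h6 : A * A = A * (-A) := by rw [mul_neg]; exact h5
    exact mul_left_cancel h6

theorem fixed_iff' (S : SL2) (v : Fin 2 → F) (hv : v ≠ 0) :
    mk S • Projectivization.mk F v hv = Projectivization.mk F v hv ↔ ∃ l : F, (S : M2) *ᵥ v = l • v := by
  have h1 := toPGL_smul (F := F) (mk S) (Projectivization.mk F v hv)
  rw [Matrix.ProjectiveSpecialLinearGroup.toPGL_mk] at h1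
  rw [← h1, fixed_iff]
  rfl

/-- two commuting involutions have no common fixed point on the projective line -/
theorem no_fix (h2 : (2 : F) ≠ 0) {s h : PSL2} (hs1 : s ≠ 1) (hs : s * s = 1) (hh1 : h ≠ 1) (hh : h * h = 1)
    (hne : h ≠ s) (hc : h * s = s * h) (x : ℙ F (Fin 2 → F)) (hsx : s • x = x) (hhx : h • x = x) : False := by
  obtain ⟨A, rfl⟩ := mk_surj s
  obtain ⟨B, rfl⟩ := mk_surj h
  induction x using Projectivization.ind with
  | h v hv =>
    rw [fixed_iff'] at hsx hhx
    obtain ⟨l, hl⟩ := hsx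
    obtain ⟨m, hm⟩ := hhx
    have htA := tr_zero hs1 hs
    have htB := tr_zero hh1 hh
    have hA4 : tr A ^ 2 ≠ 4 := by
      rw [htA]
      intro h
      have : (2 : F) * 2 = 0 := by linear_combination -h
      exact h2 (mul_self_eq_zero.1 this)
    have hAB : B * A = -(A * B) := by
      refine (mk_comm.1 hc).resolve_left fun h => ?_
      rcases eq_or_eq_inv_of_mem_centralizer hA4 (B := B)
        (by rw [Subgroup.mem_centralizer_singleton_iff, h]) (by rw [htA, htB]) with e | e
      · exact hne (by rw [e])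
      · apply hne
        have e2 : A⁻¹ = -A := by
          apply Subtype.ext
          rw [coe_inv_eq, htA, zero_smul, zero_sub]; rfl
        rw [e, e2, mk_neg]
    have hl0 : l ≠ 0 := by
      rintro rfl
      rw [zero_smul] at hl
      apply hv
      have h5 : ((A⁻¹ : SL2) : M2) *ᵥ ((A : M2) *ᵥ v) = v := by
        rw [Matrix.mulVec_mulVec, ← Matrix.SpecialLinearGroup.coe_mul, inv_mul_cancel,
          Matrix.SpecialLinearGroup.coe_one, Matrix.one_mulVec]
      rw [← h5, hl, Matrix.mulVec_zero]
    have hm0 : m ≠ 0 := by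
      rintro rfl
      rw [zero_smul] at hm
      apply hv
      have h5 : ((B⁻¹ : SL2) : M2) *ᵥ ((B : M2) *ᵥ v) = v := by
        rw [Matrix.mulVec_mulVec, ← Matrix.SpecialLinearGroup.coe_mul, inv_mul_cancel,
          Matrix.SpecialLinearGroup.coe_one, Matrix.one_mulVec]
      rw [← h5, hm, Matrix.mulVec_zero]
    have h6 := congrArg (fun Z : SL2 => (Z : M2) *ᵥ v) hAB
    simp only [Matrix.SpecialLinearGroup.coe_mul, Matrix.SpecialLinearGroup.coe_neg, Matrix.neg_mulVec,
      ← Matrix.mulVec_mulVec, hl, hm, Matrix.mulVec_smul, smul_smul] at h6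
    have h7 : (2 * (l * m)) • v = 0 := by
      rw [mul_comm m l] at h6
      rw [two_mul, add_smul]
      nth_rewrite 1 [h6]
      exact neg_add_cancel _
    rcases smul_eq_zero.1 h7 with h8 | h8
    · exact mul_ne_zero h2 (mul_ne_zero hl0 hm0) h8
    · exact hv h8

theorem perm4 : ∀ σ : Equiv.Perm (Fin 4), σ ^ 3 = 1 ∨ σ ^ 4 = 1 := by decide +kernel

theorem alt5 : ∀ σ : Equiv.Perm (Fin 5), Equiv.Perm.sign σ = 1 → σ ^ 2 = 1 ∨ σ ^ 3 = 1 ∨ σ ^ 5 = 1 := by
  decide +kernel

/-- element orders in the projective general linear groups -/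
theorem order_PGL {k : Type*} [Field k] [Fintype k] (hodd : Odd (Fintype.card k)) (h4 : 4 ≤ Fintype.card k)
    (z : PGL(Fin 2, k)) : orderOf z ≤ 2 * Fintype.card k := by
  obtain ⟨p, hp⟩ := CharP.exists k
  have hpp : Fact p.Prime := ⟨CharP.char_is_prime k p⟩
  obtain ⟨w, hw⟩ := MobOct.sq_mem_range z
  have hfin : Finite (PGL(Fin 2, k)) := Finite.of_surjective _ (Matrix.ProjGenLinGroup.mk_surjective (n := Fin 2) (R := k))
  have h1 : orderOf w ≤ Fintype.card k := by
    have h2 := (Set.ext_iff.1 (Cfsg.Agent.S2475.result (F := k) p h4) (orderOf w)).1 ⟨w, rfl⟩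
    have h0 : 0 < orderOf w := orderOf_pos w
    have hgcd : Nat.gcd 2 (Fintype.card k - 1) = 2 := by
      have : Even (Fintype.card k - 1) := Nat.Odd.sub_odd hodd odd_one
      exact Nat.gcd_eq_left this.two_dvd
    rw [Set.mem_ofPred_eq, hgcd] at h2
    rcases h2 with h2 | h2 | h2
    · obtain ⟨n, hn0, hn⟩ := FiniteField.card k p
      calc orderOf w ≤ p := Nat.le_of_dvd (Nat.Prime.pos Fact.out) h2
        _ ≤ p ^ (n : ℕ) := Nat.le_self_pow n.ne_zero p
        _ = Fintype.card k := hn.symm
    · have := Nat.le_of_dvd (by omega) h2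
      omega
    · have := Nat.le_of_dvd (by omega) h2
      omega
  have h3 : orderOf (z ^ 2) ≤ Fintype.card k := by
    rw [← hw]
    exact le_trans (Nat.le_of_dvd (orderOf_pos w) (orderOf_map_dvd _ w)) h1
  have h5 : z ^ (2 * orderOf (z ^ 2)) = 1 := by rw [pow_mul, pow_orderOf_eq_one]
  exact le_trans (Nat.le_of_dvd (Nat.mul_pos (by norm_num) (orderOf_pos _)) (orderOf_dvd_of_pow_eq_one h5))
    (Nat.mul_le_mul_left 2 h3)

/-- A subgroup containing the centralizers of two different involutions. -/
theorem two_cent (hodd : Odd (Fintype.card F)) (h7 : 7 ≤ Fintype.card F) {s t : PSL2} (hs1 : s ≠ 1) (hs : s * s = 1)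
    (ht1 : t ≠ 1) (ht : t * t = 1) (hne : s ≠ t) (M : Subgroup PSL2) (hMs : cen s ≤ M) (hMt : cen t ≤ M) :
    M = ⊤ ∨ (Nat.card M = 24 ∧ Nat.card (cen s) = 8 ∧ Fintype.card F ≤ 9) := by
  classical
  by_cases hM : M = ⊤
  · exact Or.inl hM
  right
  obtain ⟨p, hp⟩ := CharP.exists F
  have hpp : Fact p.Prime := ⟨CharP.char_is_prime F p⟩
  have h2 := two_ne hodd
  obtain ⟨hs4, hsc, x, hx, hxo⟩ := cen_facts hodd (by omega) hs1 hs
  obtain ⟨ht4, htc, y, hy, hyo⟩ := cen_facts hodd (by omega) ht1 ht
  obtain ⟨h, hh1, hhh, hhs, hhc⟩ := exists_comm_invol hodd hs1 hs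
  have hgcd : Nat.gcd 2 (Fintype.card F - 1) = 2 := by
    have : Even (Fintype.card F - 1) := Nat.Odd.sub_odd hodd odd_one
    exact Nat.gcd_eq_left this.two_dvd
  have hc8 : 8 ≤ Nat.card (cen s) := by omega
  have hceq : Nat.card (cen s) = Nat.card (cen t) := by
    obtain ⟨r, hr⟩ := hodd
    omega
  have hdvd : Nat.card (cen s) ∣ Nat.card M := Subgroup.card_dvd_of_le hMs
  have hneM : Nat.card M ≠ Nat.card (cen s) := by
    intro e
    have e1 : cen s = M := Subgroup.eq_of_le_of_card_ge hMs e.le
    have e2 : cen t = M := Subgroup.eq_of_le_of_card_ge hMt (by rw [e, hceq])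
    have htt : t ∈ cen s := by rw [e1, ← e2, mem_cen]
    have hts := mem_cen.1 htt
    have hyt : y * t = t * y := mem_cen.1 hy
    have hys : y * s = s * y := by
      have : y ∈ cen s := by rw [e1, ← e2]; exact hy
      exact mem_cen.1 this
    have hyy := sq_of_comm_two h2 hs1 hs ht1 ht hne hts.symm hys hyt
    have : orderOf y ∣ 2 := orderOf_dvd_of_pow_eq_one (by rw [pow_two, hyy])
    have := Nat.le_of_dvd (by norm_num) this
    omega
  have hge : 2 * Nat.card (cen s) ≤ Nat.card M := by
    obtain ⟨e, he⟩ := hdvd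
    rcases e with _ | _ | e
    · rw [he, mul_zero] at hneM
      have : 0 < Nat.card M := Nat.card_pos
      omega
    · omega
    · rw [he]; nlinarith
  have hxM : x ∈ M := hMs hx
  obtain ⟨N, hN⟩ : ∃ N, Nat.card M = N := ⟨_, rfl⟩
  rw [hN] at hge hneM hdvd
  rcases psl_cases rfl p M hM with ⟨_, _, h9⟩ | ⟨C, _, _, _, hcC, _, h9, _⟩ | ⟨_, h9, _⟩ | ⟨_, h9, ⟨e⟩⟩ | ⟨_, h9, ⟨e⟩⟩ |
    ⟨_, z, hz⟩ | ⟨g, k, m, hm, hkm, h9⟩
  · exfalso
    rw [hgcd] at h9
    rw [hN] at h9
    have : 2 * N ≤ Fintype.card F + 1 := by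
      rcases h9 with h9 | h9
      · exact Nat.le_of_dvd (by omega) h9
      · have := Nat.le_of_dvd (by omega) h9; omega
    omega
  · exfalso
    rw [hgcd] at h9
    rw [hN] at hcC
    rw [← hcC] at h9
    have : N ≤ Fintype.card F + 1 := by
      rcases h9 with h9 | h9
      · exact Nat.le_of_dvd (by omega) h9
      · have := Nat.le_of_dvd (by omega) h9; omega
    omega
  · exfalso
    rw [hN] at h9
    omega
  · -- S4
    have h9' := h9
    rw [hN] at h9
    have h10 : orderOf x ≤ 4 := by
      have h11 : orderOf (e ⟨x, hxM⟩) = orderOf x := by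
        rw [MulEquiv.orderOf_eq, ← Subgroup.orderOf_coe]
      rw [← h11]
      rcases perm4 (e ⟨x, hxM⟩) with h12 | h12
      · exact le_trans (Nat.le_of_dvd (by norm_num) (orderOf_dvd_of_pow_eq_one h12)) (by norm_num)
      · exact Nat.le_of_dvd (by norm_num) (orderOf_dvd_of_pow_eq_one h12)
    exact ⟨h9', by omega, by omega⟩
  · exfalso
    rw [hN] at h9
    have h10 : orderOf x ≤ 5 := by
      have h11 : orderOf (e ⟨x, hxM⟩) = orderOf x := by
        rw [MulEquiv.orderOf_eq, ← Subgroup.orderOf_coe]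
      rw [← h11, ← Subgroup.orderOf_coe]
      rcases alt5 (e ⟨x, hxM⟩ : Equiv.Perm (Fin 5)) (Equiv.Perm.mem_alternatingGroup.1 (e ⟨x, hxM⟩).2) with h12 | h12 | h12
      · exact le_trans (Nat.le_of_dvd (by norm_num) (orderOf_dvd_of_pow_eq_one h12)) (by norm_num)
      · exact le_trans (Nat.le_of_dvd (by norm_num) (orderOf_dvd_of_pow_eq_one h12)) (by norm_num)
      · exact Nat.le_of_dvd (by norm_num) (orderOf_dvd_of_pow_eq_one h12)
    have h13 : Nat.card (cen s) = 8 := by omega
    rw [h9, h13] at hdvd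
    norm_num at hdvd
  · exfalso
    exact no_fix h2 hs1 hs hh1 hhh hhs hhc z (hz (hMs (mem_cen.2 rfl))) (hz (hMs (mem_cen.2 hhc)))
  · have hk2 : 2 ≤ Nat.card k := by rw [Nat.card_eq_fintype_card]; exact Fintype.one_lt_card
    have hck : Fintype.card k = Nat.card k := Nat.card_eq_fintype_card.symm
    have hkodd : Odd (Nat.card k) := by
      rw [← hkm] at hodd
      rw [← Nat.not_even_iff_odd] at hodd ⊢
      intro h
      exact hodd (h.pow_of_ne_zero (by omega))
    have hk3 : 3 ≤ Nat.card k := by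
      obtain ⟨r, hr⟩ := hkodd; omega
    have hsq : Nat.card k ^ 2 ≤ Fintype.card F := by
      rw [← hkm]; exact Nat.pow_le_pow_right (by omega) hm
    -- the order of `x`
    have hxord : ∃ z : PGL(Fin 2, k), orderOf z = orderOf x := by
      have hx1 : g * Matrix.ProjectiveSpecialLinearGroup.toPGL x * g⁻¹ ∈
          (M.map Matrix.ProjectiveSpecialLinearGroup.toPGL).map (MulAut.conj g).toMonoidHom :=
        ⟨_, ⟨x, hxM, rfl⟩, rfl⟩
      have hx2 : orderOf (g * Matrix.ProjectiveSpecialLinearGroup.toPGL x * g⁻¹) = orderOf x := by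
        rw [← orderOf_injective Matrix.ProjectiveSpecialLinearGroup.toPGL
          Matrix.ProjectiveSpecialLinearGroup.toPGL_injective x]
        exact (MulAut.conj g).orderOf_eq _
      rcases h9 with h9 | h9
      · rw [h9] at hx1
        obtain ⟨w, hw⟩ := hx1
        refine ⟨Matrix.ProjectiveSpecialLinearGroup.toPGL w, ?_⟩
        rw [orderOf_injective _ Matrix.ProjectiveSpecialLinearGroup.toPGL_injective, ← hx2, ← hw,
          orderOf_injective _ (pslMap_injective _)]
      · rw [h9] at hx1
        obtain ⟨w, hw⟩ := hx1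
        refine ⟨w, ?_⟩
        rw [← hx2, ← hw, orderOf_injective _ (map_PGL_injective _)]
    obtain ⟨z, hz⟩ := hxord
    by_cases hk4 : 4 ≤ Nat.card k
    · exfalso
      have h10 := order_PGL (k := k) (by rw [hck]; exact hkodd) (by rw [hck]; exact hk4) z
      rw [hz, hck] at h10
      obtain ⟨r, hr⟩ := hkodd
      have hk5 : 5 ≤ Nat.card k := by omega
      have h11 : 4 * Nat.card k < Nat.card k ^ 2 - 1 := by
        obtain ⟨w, hw⟩ : ∃ w, Nat.card k = w + 5 := ⟨Nat.card k - 5, by omega⟩
        rw [hw]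
        have : (w + 5) ^ 2 = w ^ 2 + 10 * w + 25 := by ring
        rw [this]
        have : 0 ≤ w ^ 2 := Nat.zero_le _
        omega
      omega
    · have hk : Nat.card k = 3 := by omega
      have hle : N = 12 ∨ N = 24 := by
        rcases h9 with h9 | h9
        · left
          have h12 := card_P2 (F := k) hck
          rw [hk] at h12
          have h13 := card_of_range_psl M g k h9
          rw [hN] at h13
          rw [← h13] at h12
          norm_num at h12
          omega
        · right
          have h13 := card_of_range_pgl M g k h9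
          rw [hN, card_G2 (F := k) hck, hk] at h13
          rw [h13]; norm_num
      rcases hle with hle | hle
      · omega
      · refine ⟨by rw [hN]; exact hle, ?_, ?_⟩
        · have : Nat.card (cen s) = 8 ∨ Nat.card (cen s) = 12 := by
            obtain ⟨e, he⟩ := hs4
            omega
          rcases this with h13 | h13
          · exact h13
          · exfalso
            have h14 : Fintype.card F = 13 ∨ Fintype.card F = 11 := by omega
            rw [hk] at hkm
            have h15 : 3 ∣ Fintype.card F := by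
              rw [← hkm]; exact dvd_pow_self 3 (by omega)
            omega
        · by_contra h16
          have h14 : Fintype.card F = 13 ∨ Fintype.card F = 11 := by
            obtain ⟨r, hr⟩ := hodd
            omega
          rw [hk] at hkm
          have h15 : 3 ∣ Fintype.card F := by
            rw [← hkm]; exact dvd_pow_self 3 (by omega)
          omega

end Cfsg.Agent.Lib.BinPslE
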