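import Mathlib
import Cfsg.Agent.Lib.BinPslB
import Cfsg.Agent.Lib.BinPslC
import Cfsg.Agent.Lib.BinPslE

/-!
# Binary actions of `PSL₂(q)`, `q` odd: involutions fix no points (helper14)
-/

set_option autoImplicit false
set_option linter.unusedSectionVars false

namespace Cfsg.Agent.Lib.BinPslF

open Matrix Cfsg.Agent.Lib.SL2Basic Cfsg.Agent.Lib.SL2Tori Cfsg.Agent.Lib.BinAct
  Cfsg.Agent.Lib.BinPslA Cfsg.Agent.Lib.BinPslB Cfsg.Agent.Lib.BinPslE
open MulAction (stabilizer mem_stabilizer_iff)
open scoped MatrixGroups LinearAlgebra.Projectivization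

universe u

variable {F : Type u} [Field F]

local notation "SL2" => Matrix.SpecialLinearGroup (Fin 2) F
local notation "M2" => Matrix (Fin 2) (Fin 2) F
local notation "PSL2" => Matrix.ProjectiveSpecialLinearGroup (Fin 2) F

variable [Fintype F] (hodd : Odd (Fintype.card F)) (h7 : 7 ≤ Fintype.card F) {X : Type*}
  [MulAction (Matrix.ProjectiveSpecialLinearGroup (Fin 2) F) X] [Finite X]
  [IsSimpleGroup (Matrix.ProjectiveSpecialLinearGroup (Fin 2) F)]
  (hS : Setup (Matrix.ProjectiveSpecialLinearGroup (Fin 2) F) X)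

section

include hodd h7

omit [IsSimpleGroup (Matrix.ProjectiveSpecialLinearGroup (Fin 2) F)] in
/-- the centralizer determines the involution -/
theorem cen_inj {s t : PSL2} (hs1 : s ≠ 1) (hs : s * s = 1) (ht1 : t ≠ 1) (ht : t * t = 1) (h : cen s = cen t) : s = t := by
  by_contra hne
  have h2 := two_ne hodd
  obtain ⟨h4, hc, x, hx, hxo⟩ := cen_facts hodd (by omega) hs1 hs
  have hts : t * s = s * t := by
    rw [← mem_cen, h, mem_cen]
  have h5 := sq_of_comm_two h2 hs1 hs ht1 ht hne hts.symm (mem_cen.1 hx) (mem_cen.1 (by rw [← h]; exact hx))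
  have : orderOf x ∣ 2 := orderOf_dvd_of_pow_eq_one (by rw [pow_two, h5])
  have := Nat.le_of_dvd (by norm_num) this
  omega

include hS

/-- the normalizer of `KK t` if `KK t` contains a further involution -/
theorem nor_card {s t : PSL2} (hs1 : s ≠ 1) (hs : s * s = 1) (ht1 : t ≠ 1) (ht : t * t = 1) (hne : s ≠ t)
    (h : s ∈ KK X t) : Nat.card (nor (KK X t)) = 24 ∧ Nat.card (cen t) = 8 := by
  have h1 := KK_eq hS hs1 hs ht1 ht h
  rcases two_cent hodd h7 ht1 ht hs1 hs (Ne.symm hne) (nor (KK X t))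
    (fun x hx => mem_nor fun n hn => commute_normalizes (mem_cen.1 hx) hn)
    (fun x hx => mem_nor fun n hn => by rw [← h1] at hn ⊢; exact commute_normalizes (mem_cen.1 hx) hn) with h3 | h3
  · exfalso
    have h4 := eq_bot_of_normal hS ht1 ht _ le_rfl _ h3 (fun g hg n hn => conj_mem_of_nor hg hn)
    have h5 := self_mem_KK (X := X) t
    rw [h4, Subgroup.mem_bot] at h5
    exact ht1 h5
  · exact ⟨h3.1, h3.2.1⟩

/-- there are at most three involutions in `KK t` -/
theorem card_le {s t : PSL2} (hs1 : s ≠ 1) (hs : s * s = 1) (ht1 : t ≠ 1) (ht : t * t = 1) (hne : s ≠ t)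
    (h : s ∈ KK X t) : Nat.card {a : PSL2 // a ∈ KK X t ∧ a ≠ 1 ∧ a * a = 1} ≤ 3 := by
  obtain ⟨h24, h8⟩ := nor_card hodd h7 hS hs1 hs ht1 ht hne h
  set M := nor (KK X t) with hM
  have hcard : ∀ a : PSL2, a ≠ 1 → a * a = 1 → Nat.card (cen a) = 8 := by
    intro a ha1 ha
    obtain ⟨h4, hc, _⟩ := cen_facts hodd (by omega) ha1 ha
    obtain ⟨h4', hc', _⟩ := cen_facts hodd (by omega) ht1 ht
    obtain ⟨r, hr⟩ := hodd
    omega
  have hle : ∀ a : PSL2, a ∈ KK X t → a ≠ 1 → a * a = 1 → cen a ≤ M := by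
    intro a ha ha1 haa x hx
    have h1 := KK_eq hS ha1 haa ht1 ht ha
    exact mem_nor fun n hn => by rw [← h1] at hn ⊢; exact commute_normalizes (mem_cen.1 hx) hn
  have hcs : ∀ a : PSL2, cen a ≤ M → Nat.card ((cen a).subgroupOf M) = Nat.card (cen a) := by
    intro a ha
    exact Nat.card_congr (Subgroup.subgroupOfEquivOfLe ha).toEquiv
  let f : {a : PSL2 // a ∈ KK X t ∧ a ≠ 1 ∧ a * a = 1} → Sylow 2 M := fun a =>
    Sylow.ofCard ((cen a.1).subgroupOf M) (by
      rw [hcs a.1 (hle a.1 a.2.1 a.2.2.1 a.2.2.2), hcard a.1 a.2.2.1 a.2.2.2, h24]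
      have h5 : Nat.factorization 24 2 = 3 := by
        have : (24 : ℕ) = 2 ^ 3 * 3 := by norm_num
        rw [this, Nat.factorization_mul (by norm_num) (by norm_num), Nat.factorization_pow]
        simp [Nat.prime_two.factorization, Nat.prime_three.factorization]
      rw [h5]; norm_num)
  have hf : Function.Injective f := by
    intro a b hab
    have h1 : (cen a.1).subgroupOf M = (cen b.1).subgroupOf M := congrArg (fun P : Sylow 2 M => (P : Subgroup M)) hab
    have h2 : cen a.1 = cen b.1 := by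
      have e1 := Subgroup.map_subgroupOf_eq_of_le (hle a.1 a.2.1 a.2.2.1 a.2.2.2)
      have e2 := Subgroup.map_subgroupOf_eq_of_le (hle b.1 b.2.1 b.2.2.1 b.2.2.2)
      rw [← e1, ← e2, h1]
    exact Subtype.ext (cen_inj hodd h7 a.2.2.1 a.2.2.2 b.2.2.1 b.2.2.2 h2)
  have h9 := Nat.card_le_card_of_injective f hf
  have h10 : Nat.card (Sylow 2 M) ∣ ((f ⟨s, h, hs1, hs⟩ : Sylow 2 M) : Subgroup M).index := Sylow.card_dvd_index _
  have h11 : ((f ⟨s, h, hs1, hs⟩ : Sylow 2 M) : Subgroup M).index = 3 := by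
    have h12 := Subgroup.card_mul_index ((f ⟨s, h, hs1, hs⟩ : Sylow 2 M) : Subgroup M)
    have h13 : Nat.card ((f ⟨s, h, hs1, hs⟩ : Sylow 2 M) : Subgroup M) = 8 := by
      change Nat.card ((cen s).subgroupOf M) = 8
      rw [hcs s (hle s h hs1 hs), hcard s hs1 hs]
    rw [h13, h24] at h12
    omega
  rw [h11] at h10
  exact le_trans h9 (Nat.le_of_dvd (by norm_num) h10)

theorem not_four {s t : PSL2} (hs1 : s ≠ 1) (hs : s * s = 1) (ht1 : t ≠ 1) (ht : t * t = 1) (hne : s ≠ t)
    (h : s ∈ KK X t) {a b : PSL2} (ha : a ∈ KK X t) (ha1 : a ≠ 1) (haa : a * a = 1) (hb : b ∈ KK X t) (hb1 : b ≠ 1)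
    (hbb : b * b = 1) (has : a ≠ s) (hat : a ≠ t) (hbs : b ≠ s) (hbt : b ≠ t) : a = b := by
  by_contra hab
  have h3 := card_le hodd h7 hS hs1 hs ht1 ht hne h
  let T := {a : PSL2 // a ∈ KK X t ∧ a ≠ 1 ∧ a * a = 1}
  let g : Fin 4 → T := ![⟨s, h, hs1, hs⟩, ⟨t, self_mem_KK t, ht1, ht⟩, ⟨a, ha, ha1, haa⟩, ⟨b, hb, hb1, hbb⟩]
  have hg : Function.Injective g := by
    intro i j hij
    fin_cases i <;> fin_cases j <;> first | rfl | (exfalso; have e := congrArg Subtype.val hij; simp [g] at e; first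
      | exact hne e | exact hne e.symm | exact has e | exact has e.symm | exact hat e | exact hat e.symm
      | exact hbs e | exact hbs e.symm | exact hbt e | exact hbt e.symm | exact hab e | exact hab e.symm)
  have := Nat.card_le_card_of_injective g hg
  rw [Nat.card_eq_fintype_card, Fintype.card_fin] at this
  have h5 : Nat.card T ≤ 3 := h3
  omega

/-- an element of order four in the centralizer -/
theorem exists_four {s t : PSL2} (hs1 : s ≠ 1) (hs : s * s = 1) (ht1 : t ≠ 1) (ht : t * t = 1) (hne : s ≠ t)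
    (h : s ∈ KK X t) : ∃ x : PSL2, x * t = t * x ∧ x * x = t := by
  obtain ⟨_, h8⟩ := nor_card hodd h7 hS hs1 hs ht1 ht hne h
  obtain ⟨_, _, x, hx, hxo⟩ := cen_facts hodd (by omega) ht1 ht
  have hx4 : orderOf x = 4 := by omega
  refine ⟨x, mem_cen.1 hx, ?_⟩
  by_contra hxt
  have hxx1 : x * x ≠ 1 := by
    intro e
    have : orderOf x ∣ 2 := orderOf_dvd_of_pow_eq_one (by rw [pow_two, e])
    rw [hx4] at this
    norm_num at this
  have hxx : (x * x) * (x * x) = 1 := by
    have := pow_orderOf_eq_one x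
    rw [hx4] at this
    rw [← pow_two, ← pow_two, ← pow_mul]
    exact this
  have hxt' : x * t = t * x := mem_cen.1 hx
  exact hxx1 (sq_of_comm_two (two_ne hodd) hxx1 hxx ht1 ht hxt (by rw [mul_assoc, hxt', ← mul_assoc, hxt', mul_assoc])
    (by group) hxt')

/-- involutions of `KK t` commute with `t` -/
theorem comm_KK {s t : PSL2} (hs1 : s ≠ 1) (hs : s * s = 1) (ht1 : t ≠ 1) (ht : t * t = 1) (hne : s ≠ t)
    (h : s ∈ KK X t) : s * t = t * s := by
  obtain ⟨x, hxt, hxx⟩ := exists_four hodd h7 hS hs1 hs ht1 ht hne h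
  have hconj : ∀ a : PSL2, a ∈ KK X t → a ≠ 1 → a * a = 1 → a ≠ t →
      x * a * x⁻¹ ∈ KK X t ∧ x * a * x⁻¹ ≠ 1 ∧ (x * a * x⁻¹) * (x * a * x⁻¹) = 1 ∧ x * a * x⁻¹ ≠ t := by
    intro a ha ha1 haa hat
    refine ⟨commute_normalizes hxt ha, fun e => ha1 (conj_eq_one_iff.1 e), ?_, ?_⟩
    · calc (x * a * x⁻¹) * (x * a * x⁻¹) = x * (a * a) * x⁻¹ := by group
        _ = 1 := by rw [haa]; group
    · intro e
      apply hat
      calc a = x⁻¹ * (x * a * x⁻¹) * x := by group
        _ = x⁻¹ * (t * x) := by rw [e]; group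
        _ = t := by rw [← hxt]; group
  obtain ⟨b1, b2, b3, b4⟩ := hconj s h hs1 hs hne
  have key : x * (x * s * x⁻¹) * x⁻¹ = s := by
    by_cases hb : x * s * x⁻¹ = s
    · rw [hb, hb]
    · obtain ⟨c1, c2, c3, c4⟩ := hconj _ b1 b2 b3 b4
      by_contra hc
      have hcb : x * (x * s * x⁻¹) * x⁻¹ ≠ x * s * x⁻¹ := by
        intro e
        apply hb
        calc x * s * x⁻¹ = x⁻¹ * (x * (x * s * x⁻¹) * x⁻¹) * x := by group
          _ = x⁻¹ * (x * s * x⁻¹) * x := by rw [e]
          _ = s := by group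
      exact hcb (not_four hodd h7 hS hs1 hs ht1 ht hne h c1 c2 c3 b1 b2 b3 hc c4 hb b4)
  calc s * t = (x * (x * s * x⁻¹) * x⁻¹) * (x * x) := by rw [key, hxx]
    _ = (x * x) * s := by group
    _ = t * s := by rw [hxx]

/-- **involutions fix no points** in a non-trivial binary action, `q` odd -/
theorem no_fixed : False := by
  have h2 := two_ne hodd
  have hw : mk (BinPslC.w0 : SL2) ≠ 1 := by
    intro e
    rw [mk_eq_one, ← mem_center_iff', mem_center_iff_entries] at e
    have := e.2.1
    rw [BinPslC.w010] at this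
    exact one_ne_zero this
  have hww : mk (BinPslC.w0 : SL2) * mk BinPslC.w0 = 1 := by
    apply invol_of_tr_zero
    rw [tr_def, BinPslC.w000, BinPslC.w011, add_zero]
  -- the common argument
  have hN : ∀ g h : PSL2, g ≠ 1 → g * g = 1 → h ≠ 1 → h * h = 1 → h ∉ KK X g →
      ∀ n, n ∈ KK X g → n ∈ KK X h → n * n = 1 → n = 1 := by
    intro g h hg1 hg hh1 hh hnot n hn1 hn2 hnn
    by_contra hne1
    have e1 := KK_eq hS hne1 hnn hg1 hg hn1
    have e2 := KK_eq hS hne1 hnn hh1 hh hn2
    apply hnot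
    rw [← e1, e2]
    exact self_mem_KK h
  have hmain : ∀ g h : PSL2, g ≠ 1 → g * g = 1 → h ≠ 1 → h * h = 1 → g * h = h * g → h ∉ KK X g →
      ∃ k, k ≠ 1 ∧ k ∈ KK X g ∧ k ∈ KK X h := by
    intro g h hg1 hg hh1 hh hc hnot
    obtain ⟨k, hkg, hkh, hk⟩ := hS.bin.pw g h
    refine ⟨k, ?_, hkg, hkh⟩
    intro hk1
    have hne : g ≠ h := by
      rintro rfl
      exact hnot (self_mem_KK g)
    have hgh1 : g * h ≠ 1 := by
      intro e
      apply hne
      have : h⁻¹ = h := inv_eq_of_mul_eq_one_left hh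
      rw [← this]
      exact eq_inv_of_mul_eq_one_left e
    have hghgh : (g * h) * (g * h) = 1 := by
      calc (g * h) * (g * h) = g * (h * g) * h := by group
        _ = g * (g * h) * h := by rw [hc]
        _ = (g * g) * (h * h) := by group
        _ = 1 := by rw [hg, hh, one_mul]
    have hgin : g ∈ KK X (g * h) := by
      intro x hx
      have h9 : g • x = h • x := by
        have h10 : g • ((g * h) • x) = g • x := by rw [hx]
        rw [smul_smul, ← mul_assoc, hg, one_mul] at h10
        exact h10.symm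
      have := hk x h9
      rw [hk1, one_smul] at this
      exact this.symm
    have h11 := KK_eq hS hg1 hg hgh1 hghgh hgin
    apply hnot
    rw [h11]
    have h12 : g * (g * h) ∈ KK X (g * h) := mul_mem hgin (self_mem_KK _)
    rwa [← mul_assoc, hg, one_mul] at h12
  by_cases huniq : ∀ t s : PSL2, t ≠ 1 → t * t = 1 → s ≠ 1 → s * s = 1 → s ∈ KK X t → s = t
  · -- unique involution
    obtain ⟨h, hh1, hh, hhw, hc⟩ := exists_comm_invol hodd hw hww
    set g := mk (BinPslC.w0 : SL2) with hg
    have hnot : h ∉ KK X g := fun e => hhw (huniq g h hw hww hh1 hh e)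
    obtain ⟨k, hk1, hkg, hkh⟩ := hmain g h hw hww hh1 hh hc.symm hnot
    have hcomm : ∀ t : PSL2, t ≠ 1 → t * t = 1 → k ∈ KK X t → k * t = t * k := by
      intro t ht1 ht hkt
      have e := huniq t (k * t * k⁻¹) ht1 ht (fun e => ht1 (conj_eq_one_iff.1 e)) (by
        calc (k * t * k⁻¹) * (k * t * k⁻¹) = k * (t * t) * k⁻¹ := by group
          _ = 1 := by rw [ht]; group)
        (mul_mem (mul_mem hkt (self_mem_KK t)) (inv_mem hkt))
      calc k * t = (k * t * k⁻¹) * k := by group
        _ = t * k := by rw [e]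
    have hkk := sq_of_comm_two h2 hw hww hh1 hh (Ne.symm hhw) hc.symm (hcomm g hw hww hkg) (hcomm h hh1 hh hkh)
    exact hk1 (hN g h hw hww hh1 hh hnot k hkg hkh hkk)
  · push Not at huniq
    obtain ⟨t, s, ht1, ht, hs1, hs, hst, hne⟩ := huniq
    have hstc := comm_KK hodd h7 hS hs1 hs ht1 ht hne hst
    obtain ⟨x, hxt, hxx⟩ := exists_four hodd h7 hS hs1 hs ht1 ht hne hst
    have hst1 : s * t ≠ 1 := by
      intro e
      apply hne
      have : t⁻¹ = t := inv_eq_of_mul_eq_one_left ht
      rw [← this]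
      exact eq_inv_of_mul_eq_one_left e
    have hstst : (s * t) * (s * t) = 1 := by
      calc (s * t) * (s * t) = s * (t * s) * t := by group
        _ = s * (s * t) * t := by rw [hstc]
        _ = (s * s) * (t * t) := by group
        _ = 1 := by rw [hs, ht, one_mul]
    have hxs : x * s ≠ s * x := by
      intro e
      have := sq_of_comm_two h2 hs1 hs ht1 ht hne hstc e hxt
      rw [hxx] at this
      exact ht1 this
    -- the conjugate of `s` under `x` is `s t`
    have hxsx : x * s * x⁻¹ = s * t := by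
      refine not_four hodd h7 hS hs1 hs ht1 ht hne hst (commute_normalizes hxt hst)
        (fun e => hs1 (conj_eq_one_iff.1 e)) ?_ (mul_mem hst (self_mem_KK t)) hst1 hstst ?_ ?_ ?_ ?_
      · calc (x * s * x⁻¹) * (x * s * x⁻¹) = x * (s * s) * x⁻¹ := by group
          _ = 1 := by rw [hs]; group
      · intro e
        apply hxs
        calc x * s = (x * s * x⁻¹) * x := by group
          _ = s * x := by rw [e]
      · intro e
        apply hne
        calc s = x⁻¹ * (x * s * x⁻¹) * x := by group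
          _ = x⁻¹ * (t * x) := by rw [e]; group
          _ = t := by rw [← hxt]; group
      · intro e
        exact ht1 (mul_left_cancel (e.trans (mul_one s).symm))
      · intro e
        exact hs1 (mul_right_cancel (e.trans (one_mul t).symm))
    let h := x * s
    have hh1 : h ≠ 1 := by
      intro e
      apply hxs
      have : x = s⁻¹ := eq_inv_of_mul_eq_one_left e
      rw [this]; group
    have hh : h * h = 1 := by
      have e1 : h * h = (x * s * x⁻¹) * (x * x) * s := by simp only [h]; group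
      rw [e1, hxsx, hxx]
      calc s * t * t * s = s * (t * t) * s := by group
        _ = 1 := by rw [ht, mul_one, hs]
    have hth : t * h = h * t := by
      simp only [h]
      calc t * (x * s) = (t * x) * s := by group
        _ = x * (t * s) := by rw [← hxt]; group
        _ = x * s * t := by rw [← hstc]; group
    have hhs : h * s ≠ s * h := by
      intro e
      apply hxs
      simp only [h] at e
      rw [mul_assoc x s s, hs, mul_one] at e
      calc x * s = s * (x * s) * s := by
            rw [← e]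
        _ = s * x * (s * s) := by group
        _ = s * x := by rw [hs, mul_one]
    have hnot : h ∉ KK X t := by
      intro e
      have h1 := KK_eq hS hs1 hs ht1 ht hst
      rw [← h1] at e
      exact hhs (comm_KK hodd h7 hS hh1 hh hs1 hs (fun e2 => hhs (by rw [e2])) e)
    obtain ⟨k, hk1, hkt, hkh⟩ := hmain t h ht1 ht hh1 hh hth hnot
    -- `k` moves `t`
    have hmove : k * t ≠ t * k := by
      intro e
      -- `k²` commutes with `s`
      have hconj : ∀ a : PSL2, a ∈ KK X t → a ≠ 1 → a * a = 1 → a ≠ t →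
          k * a * k⁻¹ ∈ KK X t ∧ k * a * k⁻¹ ≠ 1 ∧ (k * a * k⁻¹) * (k * a * k⁻¹) = 1 ∧ k * a * k⁻¹ ≠ t := by
        intro a ha ha1 haa hat
        refine ⟨mul_mem (mul_mem hkt ha) (inv_mem hkt), fun e => ha1 (conj_eq_one_iff.1 e), ?_, ?_⟩
        · calc (k * a * k⁻¹) * (k * a * k⁻¹) = k * (a * a) * k⁻¹ := by group
            _ = 1 := by rw [haa]; group
        · intro e'
          apply hat
          calc a = k⁻¹ * (k * a * k⁻¹) * k := by group
            _ = k⁻¹ * (t * k) := by rw [e']; group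
            _ = t := by rw [← e]; group
      obtain ⟨b1, b2, b3, b4⟩ := hconj s hst hs1 hs hne
      have key : k * (k * s * k⁻¹) * k⁻¹ = s := by
        by_cases hb : k * s * k⁻¹ = s
        · rw [hb, hb]
        · obtain ⟨c1, c2, c3, c4⟩ := hconj _ b1 b2 b3 b4
          by_contra hc
          have hcb : k * (k * s * k⁻¹) * k⁻¹ ≠ k * s * k⁻¹ := by
            intro e
            apply hb
            calc k * s * k⁻¹ = k⁻¹ * (k * (k * s * k⁻¹) * k⁻¹) * k := by group
              _ = k⁻¹ * (k * s * k⁻¹) * k := by rw [e]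
              _ = s := by group
          exact hcb (not_four hodd h7 hS hs1 hs ht1 ht hne hst c1 c2 c3 b1 b2 b3 hc c4 hb b4)
      have hks : (k * k) * s = s * (k * k) := by
        calc (k * k) * s = (k * (k * s * k⁻¹) * k⁻¹) * (k * k) := by group
          _ = s * (k * k) := by rw [key]
      have hkt' : (k * k) * t = t * (k * k) := by
        rw [mul_assoc, e, ← mul_assoc, e, mul_assoc]
      have h4 := sq_of_comm_two h2 hs1 hs ht1 ht hne hstc hks hkt'
      have h5 : k * k = 1 := hN t h ht1 ht hh1 hh hnot (k * k) (mul_mem hkt hkt) (mul_mem hkh hkh) h4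
      exact hk1 (hN t h ht1 ht hh1 hh hnot k hkt hkh h5)
    -- `s` normalizes `KK h`
    have hsnor : s ∈ nor (KK X h) := by
      have htn : t ∈ nor (KK X h) := mem_nor fun n hn => commute_normalizes hth hn
      have hkn : k ∈ nor (KK X h) := mem_nor fun n hn => mul_mem (mul_mem hkh hn) (inv_mem hkh)
      have ht1n : k * t * k⁻¹ ∈ nor (KK X h) := mul_mem (mul_mem hkn htn) (inv_mem hkn)
      by_cases e : k * t * k⁻¹ = s
      · rw [← e]; exact ht1n
      · have e2 : k * t * k⁻¹ = s * t := by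
          refine not_four hodd h7 hS hs1 hs ht1 ht hne hst (mul_mem (mul_mem hkt (self_mem_KK t)) (inv_mem hkt))
            (fun e => ht1 (conj_eq_one_iff.1 e)) ?_ (mul_mem hst (self_mem_KK t)) hst1 hstst e ?_ ?_ ?_
          · calc (k * t * k⁻¹) * (k * t * k⁻¹) = k * (t * t) * k⁻¹ := by group
              _ = 1 := by rw [ht]; group
          · intro e3
            apply hmove
            calc k * t = (k * t * k⁻¹) * k := by group
              _ = t * k := by rw [e3]
          · intro e
            exact ht1 (mul_left_cancel (e.trans (mul_one s).symm))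
          · intro e
            exact hs1 (mul_right_cancel (e.trans (one_mul t).symm))
        have e3 : s = (k * t * k⁻¹) * t := by rw [e2, mul_assoc, ht, mul_one]
        rw [e3]
        exact mul_mem ht1n htn
    -- the commutator of `s` and `h`
    have hshs : s * h * s⁻¹ ∈ KK X h := conj_mem_of_nor hsnor (self_mem_KK h)
    have hc1 : s * h * s⁻¹ * h⁻¹ ∈ KK X h := mul_mem hshs (inv_mem (self_mem_KK h))
    have hc2 : s * h * s⁻¹ * h⁻¹ ∈ KK X t := by
      have e : s * h * s⁻¹ * h⁻¹ = s * (h * s⁻¹ * h⁻¹) := by group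
      rw [e]
      exact mul_mem hst (commute_normalizes hth.symm (inv_mem hst))
    have hinv : (s * h * s⁻¹) * (s * h * s⁻¹) = 1 := by
      calc (s * h * s⁻¹) * (s * h * s⁻¹) = s * (h * h) * s⁻¹ := by group
        _ = 1 := by rw [hh]; group
    have hhinv : h⁻¹ = h := inv_eq_of_mul_eq_one_left hh
    have hcomm : (s * h * s⁻¹) * h = h * (s * h * s⁻¹) := by
      by_cases e : s * h * s⁻¹ = h
      · rw [e]
      · exact comm_KK hodd h7 hS (fun e => hh1 (conj_eq_one_iff.1 e)) hinv hh1 hh e hshs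
    have hsq : (s * h * s⁻¹ * h⁻¹) * (s * h * s⁻¹ * h⁻¹) = 1 := by
      rw [hhinv]
      calc (s * h * s⁻¹ * h) * (s * h * s⁻¹ * h) = (s * h * s⁻¹) * (h * (s * h * s⁻¹)) * h := by group
        _ = (s * h * s⁻¹) * ((s * h * s⁻¹) * h) * h := by rw [hcomm]
        _ = ((s * h * s⁻¹) * (s * h * s⁻¹)) * (h * h) := by group
        _ = 1 := by rw [hinv, hh, one_mul]
    have h1 := hN t h ht1 ht hh1 hh hnot _ hc2 hc1 hsq
    apply hhs
    calc h * s = (s * h * s⁻¹ * h⁻¹)⁻¹ * (s * h) := by group
      _ = s * h := by rw [h1]; group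

end

end Cfsg.Agent.Lib.BinPslF
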