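import Cfsg.Agent.Lib.BlockPair
import Cfsg.Agent.Lib.BlockDeg
import Cfsg.Agent.Lib.BrauerInd
import Cfsg.Agent.Lib.MGroups
import Cfsg.Agent.Lib.PPart
import Cfsg.Agent.Lib.NilPow
import Cfsg.Agent.Lib.BrauerApp
import Cfsg.Agent.Lib.BlockDefect
import Cfsg.Agent.Lib.BlockGA
import Cfsg.Agent.Lib.BlockCore
import Cfsg.Agent.Lib.ClassSum
import Cfsg.Agent.Lib.CharBasic2
import Cfsg.Agent.Lib.CharCentral
import Cfsg.Agent.Lib.IndFun

/-!
# Extending an invariant character of a normal `p`-subgroup by a character of maximal `p`-degree (helper16)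

`P` a normal `p`-subgroup of `G` centralized by all `p`-regular elements, `μ` an invariant character of `P`,
`θ` irreducible with `|G : P|_p ∣ θ(1)`: the function `g ↦ μ(g_p) θ(g_{p'})` (zero if `g_p ∉ P`) is a
generalized character of `G`.
-/

set_option autoImplicit false

namespace Cfsg.Agent.Lib.BlockCentral

open Cfsg Cfsg.Agent.Lib.BlockRing Cfsg.Agent.Lib.BlockGA Cfsg.Agent.Lib.BlockDefect Cfsg.Agent.Lib.BlockDeg
  Cfsg.Agent.Lib.PPart Cfsg.Agent.Lib.IndFun Cfsg.Agent.Lib.BlockPair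
open scoped ComplexConjugate

universe u
variable {G : Type u} [Group G] {p : ℕ} {M : Ideal AlgInt}

/-- a character of a `p'`-group whose values are locally divisible by `p ^ j` is `p ^ j` times a character -/
theorem char_div (hM : IsPModular p M) {Q : Type u} [Group Q] [Finite Q] (hQ : ¬ p ∣ Nat.card Q) {f : Q → ℂ}
    (hf : IsCharacter Q f) {j : ℕ} (hloc : ∀ q, MemLocalRing M (f q / ((p ^ j : ℕ) : ℂ))) :
    ∃ η : Q → ℂ, IsCharacter Q η ∧ ∀ q, f q = ((p ^ j : ℕ) : ℂ) * η q := by
  classical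
  haveI := isPrime hM
  haveI := Fintype.ofFinite Q
  obtain ⟨c, hc, hfc⟩ := hf.exists_coeff
  have hpj : p ^ j ≠ 0 := pow_ne_zero _ hM.1.ne_zero
  have hdvd : ∀ χ : IrrCharacter Q, p ^ j ∣ c χ := by
    intro χ
    by_cases h0 : c χ = 0
    · rw [h0]; exact dvd_zero _
    have h1 : MemLocalRing M ((c χ : ℂ) / ((p ^ j : ℕ) : ℂ)) := by
      rw [← hc χ, CharBasic.classInner_def, Finset.mul_sum, Finset.sum_div]
      refine loc_sum fun q _ => ?_
      have h2 : (Nat.card Q : ℂ)⁻¹ * (f q * conj ((χ : Q → ℂ) q)) / ((p ^ j : ℕ) : ℂ) =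
          (Nat.card Q : ℂ)⁻¹ * ((f q / ((p ^ j : ℕ) : ℂ)) * (χ : Q → ℂ) q⁻¹) := by
        rw [χ.2.inv]; ring
      rw [h2]
      exact loc_mul (loc_inv_natCast hM hQ) (loc_mul (hloc q) (loc_irr χ _))
    have h2 := (loc_div_natCast_iff hM h0 hpj).1 h1
    rw [hM.1.factorization_pow, Finsupp.single_eq_same] at h2
    exact (hM.1.pow_dvd_iff_le_factorization h0).2 h2
  choose d hd using hdvd
  refine ⟨∑ χ : IrrCharacter Q, (d χ : ℂ) • (χ : Q → ℂ), ?_, ?_⟩
  · exact CharBasic.isCharacter_sum _ _ fun χ _ => χ.2.isCharacter.natCast_smul _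
  · intro q
    have h3 := congrFun hfc q
    rw [h3, Finset.sum_apply, Finset.sum_apply, Finset.mul_sum]
    refine Finset.sum_congr rfl fun χ _ => ?_
    rw [Pi.smul_apply, Pi.smul_apply, smul_eq_mul, smul_eq_mul, hd χ]
    push_cast
    ring

/-- in a nilpotent subgroup taking the `p'`-part and the `p`-part are homomorphisms -/
theorem exists_homs [Finite G] (hp : p.Prime) {e f : ℕ} (he : IsRegExp p G e f) (E : Subgroup G)
    (hE : Group.IsNilpotent E) :
    ∃ πe πf : E →* E, (∀ x, πe x = x ^ e) ∧ (∀ x, πf x = x ^ f) := by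
  have hcop : Nat.Coprime (p ^ (Nat.card E).factorization p) (Nat.card E / p ^ (Nat.card E).factorization p) :=
    Nat.Coprime.pow_left _ (Nat.coprime_ordCompl hp Nat.card_pos.ne')
  have hmul : p ^ (Nat.card E).factorization p * (Nat.card E / p ^ (Nat.card E).factorization p) = Nat.card E :=
    Nat.ordProj_mul_ordCompl_eq_self (Nat.card E) p
  set m := p ^ (Nat.card E).factorization p with hm
  set n := Nat.card E / m with hn
  obtain ⟨e', f', he0, he1, hf1, hf0, hef⟩ := BrauerApp.exists_exp hcop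
  have key : ∀ x : E, x ^ e = x ^ e' ∧ x ^ f = x ^ f' := by
    intro x
    have h1 : ¬ p ∣ orderOf (x ^ e') := by
      intro h
      have h2 : orderOf (x ^ e') ∣ n := by
        apply orderOf_dvd_of_pow_eq_one
        obtain ⟨c, hc⟩ := (Nat.modEq_zero_iff_dvd).1 he0
        rw [← pow_mul, hc, mul_assoc, mul_comm c, ← mul_assoc, hmul, pow_mul, pow_card_eq_one', one_pow]
      exact (Nat.Prime.coprime_iff_not_dvd hp).1 (Nat.coprime_ordCompl hp Nat.card_pos.ne') (h.trans h2)
    have h2 : ∃ k : ℕ, orderOf (x ^ f') = p ^ k := by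
      have h2 : orderOf (x ^ f') ∣ m := by
        apply orderOf_dvd_of_pow_eq_one
        obtain ⟨c, hc⟩ := (Nat.modEq_zero_iff_dvd).1 hf0
        rw [← pow_mul, hc, mul_assoc, mul_comm c, ← mul_assoc, mul_comm n m, hmul, pow_mul, pow_card_eq_one',
          one_pow]
      obtain ⟨k, _, hk⟩ := (Nat.dvd_prime_pow hp).1 h2
      exact ⟨k, hk⟩
    have h3 : x ^ e' * x ^ f' = x := by
      rw [← pow_add]
      have h4 : e' + f' ≡ 1 [MOD orderOf x] := hef.of_dvd (by rw [hmul]; exact orderOf_dvd_natCard x)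
      rw [(pow_eq_pow_iff_modEq (x := x)).2 h4, pow_one]
    have h4 := he.eq_of_mul (g := (x : G)) (s := ((x ^ e' : E) : G)) (u := ((x ^ f' : E) : G))
      (by rw [← Subgroup.coe_mul, h3]) (by
        rw [Subgroup.coe_pow, Subgroup.coe_pow]
        exact Commute.pow_pow_self (x : G) e' f') (by rwa [Subgroup.orderOf_coe]) (by rwa [Subgroup.orderOf_coe])
    exact ⟨Subtype.ext (by rw [← h4.1]; rfl), Subtype.ext (by rw [← h4.2]; rfl)⟩
  refine ⟨NilPow.powHom hE (a := n) (b := m) (by rw [mul_comm, hmul]) hcop.symm he1 he0,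
    NilPow.powHom hE (a := m) (b := n) hmul.symm hcop hf1 hf0, fun x => ?_, fun x => ?_⟩
  · exact (key x).1.symm
  · exact (key x).2.symm

theorem idx_dvd [Finite G] {E : Type*} [Group E] (F : E →* G) {P : Subgroup G} [P.Normal] {C : Subgroup G}
    (hPC : P ≤ C) (hFC : F.range ≤ C) : (P.comap F).index * Nat.card P ∣ Nat.card C := by
  rw [Subgroup.index_comap, ← Subgroup.relIndex_sup_right]
  have h1 : P.relIndex (F.range ⊔ P) * Nat.card P = Nat.card (F.range ⊔ P : Subgroup G) := by
    rw [mul_comm]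
    have := (P.subgroupOf (F.range ⊔ P)).card_mul_index
    rw [← this]
    congr 1
    exact (Nat.card_congr (Subgroup.subgroupOfEquivOfLe le_sup_right).toEquiv).symm
  rw [h1]
  exact Subgroup.card_dvd_of_le (sup_le hFC hPC)

/-- G1 -/
theorem isGeneralized_ext (hM : IsPModular p M) [Finite G] {P : Subgroup G} [hPn : P.Normal] (hP : IsPGroup p P)
    (hreg : ∀ g : G, ¬ p ∣ orderOf g → g ∈ Subgroup.centralizer (P : Set G))
    (θ : IrrCharacter G) (hdeg : P.index.factorization p ≤ (charDegree (θ : G → ℂ)).factorization p)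
    {μ : P → ℂ} (hμ : IsCharacter P μ)
    (hinv : ∀ (g : G) (x : P), μ ⟨g * x * g⁻¹, hPn.conj_mem x x.2 g⟩ = μ x)
    {e f : ℕ} (he : IsRegExp p G e f) :
    IsGeneralizedCharacter G (fun g => extendByZero P μ (g ^ f) * (θ : G → ℂ) (g ^ e)) := by
  classical
  haveI := isPrime hM
  haveI : Fact p.Prime := ⟨hM.1⟩
  have hext : ∀ g h : G, extendByZero P μ (h * g * h⁻¹) = extendByZero P μ g := by
    intro g h
    by_cases hg : g ∈ P
    · rw [extendByZero_mem _ _ hg, extendByZero_mem _ _ (hPn.conj_mem g hg h)]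
      exact hinv h ⟨g, hg⟩
    · have hg' : h * g * h⁻¹ ∉ P := fun h1 => hg (by
        have := hPn.conj_mem _ h1 h⁻¹
        simpa [mul_assoc] using this)
      rw [extendByZero_not_mem _ _ hg, extendByZero_not_mem _ _ hg']
  apply BrauerInd.isGeneralizedCharacter_of_restrict_elementary
  · intro g h
    simp only
    rw [conj_pow, conj_pow, hext, θ.2.isClassFunction]
  intro E q hq hEq
  have hnil := MGroups.isNilpotent_of_isElementary hq hEq
  obtain ⟨πe, πf, hπe, hπf⟩ := exists_homs hM.1 he E hnil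
  haveI := Fintype.ofFinite E
  set F : E →* G := E.subtype.comp πf with hF
  have hFx : ∀ x : E, F x = (x : G) ^ f := fun x => by
    rw [hF, MonoidHom.comp_apply, hπf]; rfl
  set R : Subgroup E := P.comap F with hR
  set Q : Subgroup E := πe.range with hQ
  -- `R.index` is a power of `p`
  have hFp : IsPGroup p F.range := by
    rintro ⟨_, x, rfl⟩
    obtain ⟨k, hk⟩ := he.sing (x : G)
    refine ⟨k, Subtype.ext ?_⟩
    change (F x) ^ p ^ k = 1
    rw [hFx, ← hk, pow_orderOf_eq_one]
  obtain ⟨j, hj⟩ : ∃ j, R.index = p ^ j := by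
    obtain ⟨k, hk⟩ := IsPGroup.iff_card.1 hFp
    have h1 : R.index ∣ p ^ k := by
      rw [hR, Subgroup.index_comap, ← hk]
      exact Subgroup.relIndex_dvd_card _ _
    obtain ⟨j, _, hj⟩ := (Nat.dvd_prime_pow hM.1).1 h1
    exact ⟨j, hj⟩
  have hregQ : ∀ q : Q, ¬ p ∣ orderOf ((q : E) : G) := by
    rintro ⟨_, x, rfl⟩
    change ¬ p ∣ orderOf ((πe x : E) : G)
    rw [hπe]
    exact he.reg (x : G)
  have hQp : ¬ p ∣ Nat.card Q := by
    intro h
    obtain ⟨y, hy⟩ := exists_prime_orderOf_dvd_card' p h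
    apply hregQ y
    rw [Subgroup.orderOf_coe, Subgroup.orderOf_coe, hy]
  have hcomm : ∀ (q : Q) (x : E), ((q : E) : G) * F x = F x * ((q : E) : G) := by
    rintro ⟨_, y, rfl⟩ x
    change ((πe y : E) : G) * ((πf x : E) : G) = ((πf x : E) : G) * ((πe y : E) : G)
    rw [← Subgroup.coe_mul, ← Subgroup.coe_mul]
    congr 1
    set c : E := πe y * πf x * (πe y)⁻¹ * (πf x)⁻¹ with hc
    have h1 : πe c = 1 := by
      rw [hc, map_mul, map_mul, map_mul, map_inv, map_inv]
      have h2 : πe (πf x) = 1 := by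
        rw [hπe]
        apply Subtype.ext
        rw [Subgroup.coe_pow, hπf]
        exact he.pow_e_of_sing _ (he.sing (x : G))
      rw [h2, mul_one, inv_one, mul_one, mul_inv_cancel]
    have h2 : πf c = 1 := by
      rw [hc, map_mul, map_mul, map_mul, map_inv, map_inv]
      have h2 : πf (πe y) = 1 := by
        rw [hπf]
        apply Subtype.ext
        rw [Subgroup.coe_pow, hπe]
        exact he.pow_f_of_reg _ (he.reg (y : G))
      rw [h2, one_mul, inv_one, mul_one, mul_inv_cancel]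
    have h3 : c = 1 := by
      have h4 : c ^ e * c ^ f = c := Subtype.ext (by
        rw [Subgroup.coe_mul, Subgroup.coe_pow, Subgroup.coe_pow]
        exact he.mul_eq (c : G))
      rw [← h4, ← hπe, ← hπf, h1, h2, one_mul]
    rw [hc, mul_inv_eq_one, mul_inv_eq_iff_eq_mul] at h3
    exact h3
  -- local divisibility
  have hloc : ∀ q : Q, MemLocalRing M ((θ : G → ℂ) ((q : E) : G) / ((p ^ j : ℕ) : ℂ)) := by
    intro q
    set C := Subgroup.centralizer ({((q : E) : G)} : Set G) with hC
    have h1 : R.index * Nat.card P ∣ Nat.card C := by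
      apply idx_dvd
      · intro x hx
        rw [hC, Subgroup.mem_centralizer_singleton_iff]
        have := Subgroup.mem_centralizer_iff.1 (hreg _ (hregQ q)) x hx
        exact this
      · rintro _ ⟨x, rfl⟩
        rw [hC, Subgroup.mem_centralizer_singleton_iff]
        exact (hcomm q x).symm
    rw [hj] at h1
    have hd := charDegree_spec θ.2
    have hpj : p ^ j ≠ 0 := pow_ne_zero _ hM.1.ne_zero
    have hCi : C.index ≠ 0 := Subgroup.index_ne_zero_of_finite
    have h2 : (C.index * p ^ j).factorization p ≤ (charDegree (θ : G → ℂ)).factorization p := by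
      refine le_trans ?_ hdeg
      have h3 := (Nat.factorization_le_iff_dvd (mul_ne_zero hpj Nat.card_pos.ne') Nat.card_pos.ne').2 h1 p
      rw [Nat.factorization_mul hpj Nat.card_pos.ne', Finsupp.add_apply] at h3
      have h4 := congrArg (fun n => n.factorization p) (C.card_mul_index)
      have h5 := congrArg (fun n => n.factorization p) (P.card_mul_index)
      rw [Nat.factorization_mul Nat.card_pos.ne' hCi, Finsupp.add_apply] at h4
      rw [Nat.factorization_mul Nat.card_pos.ne' Subgroup.index_ne_zero_of_finite, Finsupp.add_apply] at h5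
      rw [Nat.factorization_mul hCi hpj, Finsupp.add_apply]
      omega
    have h3 : (θ : G → ℂ) ((q : E) : G) / ((p ^ j : ℕ) : ℂ) = centralChar (θ : G → ℂ) ((q : E) : G) *
        (((charDegree (θ : G → ℂ) : ℕ) : ℂ) / ((C.index * p ^ j : ℕ) : ℂ)) := by
      rw [centralChar, ← hC, hd.1]
      have h4 : ((charDegree (θ : G → ℂ) : ℕ) : ℂ) ≠ 0 := by exact_mod_cast hd.2
      have h5 : ((C.index : ℕ) : ℂ) ≠ 0 := by exact_mod_cast hCi
      have h6 : ((p ^ j : ℕ) : ℂ) ≠ 0 := by exact_mod_cast hpj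
      push_cast at h6 ⊢
      field_simp
    rw [h3]
    exact loc_mul (loc_centralChar θ.2 _) ((loc_div_natCast_iff hM hd.2 (mul_ne_zero hCi hpj)).2 h2)
  obtain ⟨η, hη, hθη⟩ := char_div hM hQp (f := fun q : Q => (θ : G → ℂ) ((q : E) : G))
    ((θ.2.isCharacter.restrict E).restrict Q) hloc
  -- the induced character
  let μR : R → ℂ := fun r => μ ⟨F r, r.2⟩
  have hμR : IsCharacter R μR := by
    have h1 := hμ.comp ((F.comp R.subtype).codRestrict P fun r => r.2)
    exact h1
  have hind : ∀ x : E, indFun R μR x = ((p ^ j : ℕ) : ℂ) * extendByZero P μ ((x : G) ^ f) := by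
    intro x
    rw [indFun_apply]
    have h1 : ∀ y : E, extendByZero R μR (y⁻¹ * x * y) = extendByZero P μ ((x : G) ^ f) := by
      intro y
      have h2 : extendByZero R μR (y⁻¹ * x * y) = extendByZero P μ (F (y⁻¹ * x * y)) := by
        by_cases h3 : y⁻¹ * x * y ∈ R
        · rw [extendByZero_mem _ _ h3, extendByZero_mem P μ (show F (y⁻¹ * x * y) ∈ P from h3)]
        · rw [extendByZero_not_mem _ _ h3, extendByZero_not_mem P μ (show F (y⁻¹ * x * y) ∉ P from h3)]
      rw [h2, map_mul, map_mul, map_inv, hFx x]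
      have h3 := hext ((x : G) ^ f) (F y)⁻¹
      rw [inv_inv] at h3
      exact h3
    rw [Finset.sum_congr rfl fun y _ => h1 y, Finset.sum_const, nsmul_eq_mul, Finset.card_univ,
      ← Nat.card_eq_fintype_card, ← mul_assoc]
    congr 1
    rw [← hj, ← R.card_mul_index]
    have h4 : ((Nat.card R : ℕ) : ℂ) ≠ 0 := by exact_mod_cast Nat.card_pos.ne'
    push_cast
    field_simp
  have hfin : (fun x : E => extendByZero P μ ((x : G) ^ f) * (θ : G → ℂ) ((x : G) ^ e)) =
      indFun R μR * (fun x : E => η (πe.rangeRestrict x)) := by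
    funext x
    rw [Pi.mul_apply, hind]
    have h1 := hθη (πe.rangeRestrict x)
    have h2 : (((πe.rangeRestrict x : Q) : E) : G) = (x : G) ^ e := by
      rw [MonoidHom.coe_rangeRestrict, hπe]; rfl
    rw [h2] at h1
    rw [h1]
    ring
  rw [hfin]
  exact ((hμR.indFun R).mul (hη.comp πe.rangeRestrict)).isGeneralized

/-! ### groups of the form `P * C(P)` -/

section PC

variable {P : Subgroup G}

theorem normal_of_sup (hG : P ⊔ Subgroup.centralizer (P : Set G) = ⊤) : P.Normal := by
  rw [← Subgroup.normalizer_eq_top_iff, eq_top_iff, ← hG]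
  exact sup_le Subgroup.le_normalizer (Subgroup.centralizer_le_normalizer _)

/-- conjugation on `P` is by elements of `P`, commuting with any given element of `C(P)` -/
theorem exists_conj_by (hG : P ⊔ Subgroup.centralizer (P : Set G) = ⊤) (g : G) :
    ∃ y ∈ P, ∀ x ∈ P, g * x * g⁻¹ = y * x * y⁻¹ := by
  haveI := normal_of_sup hG
  have h : g ∈ (P ⊔ Subgroup.centralizer (P : Set G) : Subgroup G) := by rw [hG]; exact Subgroup.mem_top g
  obtain ⟨y, hy, c, hc, rfl⟩ := Subgroup.mem_sup_of_normal_left.1 h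
  refine ⟨y, hy, fun x hx => ?_⟩
  have h1 : c * x * c⁻¹ = x := by
    rw [← Subgroup.mem_centralizer_iff.1 hc x hx, mul_inv_cancel_right]
  calc y * c * x * (y * c)⁻¹ = y * (c * x * c⁻¹) * y⁻¹ := by group
    _ = y * x * y⁻¹ := by rw [h1]

theorem centralizer_index [Finite G] (hp : p.Prime) (hP : IsPGroup p P)
    (hG : P ⊔ Subgroup.centralizer (P : Set G) = ⊤) :
    ∃ k : ℕ, (Subgroup.centralizer (P : Set G)).index = p ^ k := by
  haveI : Fact p.Prime := ⟨hp⟩
  haveI := normal_of_sup hG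
  obtain ⟨k, hk⟩ := IsPGroup.iff_card.1 hP
  have h1 : (Subgroup.centralizer (P : Set G)).index ∣ p ^ k := by
    rw [← Subgroup.relIndex_top_right, ← hG, Subgroup.relIndex_sup_right, ← hk]
    exact Subgroup.relIndex_dvd_card _ _
  obtain ⟨j, _, hj⟩ := (Nat.dvd_prime_pow hp).1 h1
  exact ⟨j, hj⟩

theorem mem_centralizer_of_regular [Finite G] (hp : p.Prime) (hP : IsPGroup p P)
    (hG : P ⊔ Subgroup.centralizer (P : Set G) = ⊤) {g : G} (hg : ¬ p ∣ orderOf g) :
    g ∈ Subgroup.centralizer (P : Set G) := by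
  haveI := normal_of_sup hG
  obtain ⟨k, hk⟩ := centralizer_index hp hP hG
  exact BlockCore.mem_of_regular hp hk hg

theorem classFunction_inv (hG : P ⊔ Subgroup.centralizer (P : Set G) = ⊤) {μ : P → ℂ}
    (hμ : IsClassFunction P μ) (hPn : P.Normal) (g : G) (x : P) :
    μ ⟨g * x * g⁻¹, hPn.conj_mem x x.2 g⟩ = μ x := by
  obtain ⟨y, hy, h⟩ := exists_conj_by hG g
  have h1 := hμ x ⟨y, hy⟩
  rw [← h1]
  congr 1
  exact Subtype.ext (h x x.2)

/-- (d) -/
theorem mul_value [Finite G] (hG : P ⊔ Subgroup.centralizer (P : Set G) = ⊤) {χ : G → ℂ}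
    (hχ : IsIrrCharacter G χ) {x y : G} (hx : x ∈ P) (hy : y ∈ Subgroup.centralizer (P : Set G)) :
    χ (x * y) = χ x * χ y / χ 1 := by
  classical
  haveI := Fintype.ofFinite G
  have h1 := lin_mul_single hχ (classSum_mem_center x) y
  have h2 : lin χ (classSum x * MonoidAlgebra.single y 1) =
      ((Subgroup.centralizer ({x} : Set G)).index : ℂ) * χ (x * y) := by
    rw [eq_sum_single (classSum x), Finset.sum_mul, lin_sum]
    have h3 : ∀ z : G, lin χ (MonoidAlgebra.single z ((classSum x).coeff z) * MonoidAlgebra.single y 1) =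
        if IsConj x z then χ (x * y) else 0 := by
      intro z
      rw [MonoidAlgebra.single_mul_single, lin_single, mul_one, coeff_classSum]
      by_cases h : IsConj x z
      · rw [if_pos h, if_pos h, one_mul]
        obtain ⟨c, hc⟩ := isConj_iff.1 h
        obtain ⟨w, hw, hw'⟩ := exists_conj_by hG c
        have h4 : z * y = w * (x * y) * w⁻¹ := by
          rw [← hc, hw' x hx]
          have h5 : w * y = y * w := Subgroup.mem_centralizer_iff.1 hy w hw
          have h6 : y * w⁻¹ = w⁻¹ * y := by rw [eq_inv_mul_iff_mul_eq, ← mul_assoc, h5, mul_inv_cancel_right]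
          rw [mul_assoc (w * x), ← h6]; group
        rw [h4, hχ.isClassFunction]
      · rw [if_neg h, if_neg h, zero_mul]
    rw [Finset.sum_congr rfl fun z _ => h3 z, ← Finset.sum_filter, Finset.sum_const, nsmul_eq_mul,
      ClassSum.card_class]
  rw [h2, omega_classSum hχ.isClassFunction, centralChar] at h1
  have h3 : ((Subgroup.centralizer ({x} : Set G)).index : ℂ) ≠ 0 := by
    exact_mod_cast Subgroup.index_ne_zero_of_finite
  have h4 : ((Subgroup.centralizer ({x} : Set G)).index : ℂ) * χ (x * y) =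
      ((Subgroup.centralizer ({x} : Set G)).index : ℂ) * (χ x * χ y / χ 1) := by rw [h1]; ring
  exact mul_left_cancel₀ h3 h4

/-- L1 -/
theorem sum_section [Fintype G] (hP : IsPGroup p P) [Fintype P] [Fact p.Prime]
    (hreg : ∀ g : G, ¬ p ∣ orderOf g → g ∈ Subgroup.centralizer (P : Set G))
    {e f : ℕ} (he : IsRegExp p G e f) [DecidablePred (· ∈ P)] (F : G → ℂ) :
    ∑ g : G, (if g ^ f ∈ P then F g else 0) =
      ∑ x : P, ∑ y : G, if p ∣ orderOf y then 0 else F (x * y) := by
  classical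
  have h1 : ∀ x : P, ∑ y : G, (if p ∣ orderOf y then 0 else F (x * y)) =
      ∑ y ∈ Finset.univ.filter (fun y : G => ¬ p ∣ orderOf y), F (x * y) := by
    intro x
    rw [Finset.sum_filter]
    refine Finset.sum_congr rfl fun y _ => ?_
    by_cases hy : p ∣ orderOf y
    · rw [if_pos hy, if_neg (not_not.2 hy)]
    · rw [if_neg hy, if_pos hy]
  rw [Finset.sum_congr rfl fun x _ => h1 x, ← Finset.sum_product', ← Finset.sum_filter]
  have hsing : ∀ x : P, ∃ k : ℕ, orderOf (x : G) = p ^ k := fun x => by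
    obtain ⟨k, hk⟩ := (IsPGroup.iff_orderOf.1 hP) x
    exact ⟨k, by rw [Subgroup.orderOf_coe]; exact hk⟩
  have hkey : ∀ (x : P) (y : G), ¬ p ∣ orderOf y → ((x : G) * y) ^ e = y ∧ ((x : G) * y) ^ f = x := by
    intro x y hy
    have hc : (x : G) * y = y * x := Subgroup.mem_centralizer_iff.1 (hreg y hy) x x.2
    exact he.eq_of_mul hc hc.symm hy (hsing x)
  refine Finset.sum_bij' (fun g hg => (⟨g ^ f, (Finset.mem_filter.1 hg).2⟩, g ^ e))
    (fun q _ => (q.1 : G) * q.2) ?_ ?_ ?_ ?_ ?_
  · intro g hg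
    rw [Finset.mem_product]
    exact ⟨Finset.mem_univ _, Finset.mem_filter.2 ⟨Finset.mem_univ _, he.reg g⟩⟩
  · rintro ⟨x, y⟩ hq
    have hy := (Finset.mem_filter.1 (Finset.mem_product.1 hq).2).2
    refine Finset.mem_filter.2 ⟨Finset.mem_univ _, ?_⟩
    rw [(hkey x y hy).2]
    exact x.2
  · intro g hg
    change g ^ f * g ^ e = g
    rw [← pow_add, add_comm, he.pow_add]
  · rintro ⟨x, y⟩ hq
    have hy := (Finset.mem_filter.1 (Finset.mem_product.1 hq).2).2
    exact Prod.ext (Subtype.ext (hkey x y hy).2) (hkey x y hy).1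
  · intro g hg
    change F g = F (g ^ f * g ^ e)
    rw [← pow_add, add_comm, he.pow_add]

end PC

end Cfsg.Agent.Lib.BlockCentral
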