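import Cfsg.Agent.Lib.BlockSection
import Cfsg.Agent.Lib.BlockOrth
import Cfsg.Agent.Lib.BlockDeg
import Cfsg.Agent.Lib.IndFun

set_option autoImplicit false

/-!
# Columns of the principal block at `p`-elements (helper78)
-/

namespace Cfsg.Agent.Lib.BlockColumn

open scoped ComplexConjugate
open Cfsg Cfsg.Agent.Lib.CharBasic Cfsg.Agent.Lib.BlockRing Cfsg.Agent.Lib.BlockIdem
open Cfsg.Agent.Lib.BlockThird

universe u

/-- The sum of the squares of the degrees in the principal block. -/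
noncomputable def lamB (M : Ideal AlgInt) (X : Type u) [Group X] : ℕ :=
  ∑ᶠ ψ ∈ principalBlock M X, charDegree (ψ : X → ℂ) ^ 2

variable {G : Type u} [Group G] [Finite G] {M : Ideal AlgInt} {p : ℕ}

open scoped Classical in
theorem column_principal (hM : IsPModular p M) {y y' : G} {k k' : ℕ} (hy : orderOf y = p ^ k)
    (hy' : orderOf y' = p ^ k') :
    ∑ᶠ χ ∈ principalBlock M G, (χ : G → ℂ) y * conj ((χ : G → ℂ) y') =
      if IsConj y y' then (lamB M ↥(Subgroup.centralizer ({y} : Set G)) : ℂ) else 0 := by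
  haveI := isPrime hM
  have h1r : ∀ {X : Type u} [Group X], ¬ p ∣ orderOf (1 : X) := by
    intro X _
    rw [orderOf_one, Nat.dvd_one]; exact hM.1.one_lt.ne'
  split_ifs with h
  · have hmem : ∀ g, g ∈ Subgroup.centralizer ({y} : Set G) ↔ Commute y g := by
      intro g
      rw [Subgroup.mem_centralizer_singleton_iff]
      exact ⟨fun h => h.symm, fun h => h.symm⟩
    have h2 := BlockSection.principal_section_sum hM hy hmem
      (y := (1 : ↥(Subgroup.centralizer ({y} : Set G))))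
      (y' := (1 : ↥(Subgroup.centralizer ({y} : Set G)))) h1r h1r
    have h3 : ∀ χ : IrrCharacter G, (χ : G → ℂ) y' = (χ : G → ℂ) y := fun χ =>
      (χ.2.isClassFunction.conj_eq h).symm
    simp only [OneMemClass.coe_one, mul_one] at h2
    simp only [h3]
    rw [h2, lamB, finsum_mem_eq_finite_toFinset_sum _ (Set.toFinite _),
      finsum_mem_eq_finite_toFinset_sum _ (Set.toFinite _)]
    push_cast
    refine Finset.sum_congr rfl fun ψ _ => ?_
    rw [← BlockDeg.charDegree_cast_irr, Complex.conj_natCast, sq]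
  · have h2 := BlockOrth.block_orthogonality hM (B := principalBlock M G) isPBlock_principal
      (g := y) (h := y') (u := y) (v := y')
      ⟨1, mul_one _, Commute.one_right _, ⟨k, hy⟩, h1r⟩
      ⟨1, mul_one _, Commute.one_right _, ⟨k', hy'⟩, h1r⟩ h
    rw [← h2]
    apply finsum_mem_congr rfl
    intro χ _
    rw [χ.2.isCharacter.inv]

theorem column_principal_inv (hM : IsPModular p M) {y y' : G} {k k' : ℕ} (hy : orderOf y = p ^ k)
    (hy' : orderOf y' = p ^ k') :
    ∑ᶠ χ ∈ principalBlock M G, (χ : G → ℂ) y⁻¹ * conj ((χ : G → ℂ) y'⁻¹) =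
      ∑ᶠ χ ∈ principalBlock M G, (χ : G → ℂ) y * conj ((χ : G → ℂ) y') := by
  classical
  have h1 := column_principal hM hy hy'
  have h2 : conj (∑ᶠ χ ∈ principalBlock M G, (χ : G → ℂ) y * conj ((χ : G → ℂ) y')) =
      ∑ᶠ χ ∈ principalBlock M G, (χ : G → ℂ) y * conj ((χ : G → ℂ) y') := by
    rw [h1]
    split_ifs <;> simp
  conv_rhs => rw [← h2]
  rw [finsum_mem_eq_finite_toFinset_sum _ (Set.toFinite _),
    finsum_mem_eq_finite_toFinset_sum _ (Set.toFinite _), map_sum]
  refine Finset.sum_congr rfl fun χ _ => ?_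
  rw [χ.2.isCharacter.inv, χ.2.isCharacter.inv, map_mul]

omit [Finite G] in
open scoped Classical in
theorem sum_conj_eq (P N : Subgroup G) [Fintype P] [Fintype N]
    (hN : N ≤ Subgroup.normalizer (P : Set G)) (y : P)
    (hfus : ∀ g : G, g * y * g⁻¹ ∈ (P : Set G) → ∃ n ∈ N, n * y * n⁻¹ = g * y * g⁻¹)
    (F : G → ℂ) :
    ∑ x : N, F ((x : G) * y * (x : G)⁻¹) =
      (Nat.card ↥(N ⊓ Subgroup.centralizer ({(y : G)} : Set G)) : ℂ) *
        ∑ v : P, if IsConj (y : G) (v : G) then F v else 0 := by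
  have hmemP : ∀ x : N, (x : G) * y * (x : G)⁻¹ ∈ P := by
    intro x
    have := (Subgroup.mem_normalizer_iff.mp (hN x.2) y).mp y.2
    exact this
  let f : N → P := fun x => ⟨(x : G) * y * (x : G)⁻¹, hmemP x⟩
  have h1 : ∑ x : N, F ((x : G) * y * (x : G)⁻¹) = ∑ v : P, ∑ x ∈ Finset.univ.filter
      (fun x : N => f x = v), F v := by
    rw [← Finset.sum_fiberwise (Finset.univ : Finset N) f]
    refine Finset.sum_congr rfl fun v _ => ?_
    refine Finset.sum_congr rfl fun x hx => ?_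
    rw [Finset.mem_filter] at hx
    rw [← hx.2]
  rw [h1, Finset.mul_sum]
  refine Finset.sum_congr rfl fun v _ => ?_
  rw [Finset.sum_const, nsmul_eq_mul]
  split_ifs with h
  · congr 1
    -- the fibre is a coset
    obtain ⟨g, hg⟩ := isConj_iff.mp h
    obtain ⟨n, hn, hn2⟩ := hfus g (by rw [hg]; exact v.2)
    rw [hg] at hn2
    have hcard : (Finset.univ.filter (fun x : N => f x = v)).card =
        Nat.card ↥(N ⊓ Subgroup.centralizer ({(y : G)} : Set G)) := by
      rw [← Fintype.card_subtype, ← Nat.card_eq_fintype_card]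
      refine Nat.card_congr
        { toFun := fun x => ⟨n⁻¹ * (x.1 : G), N.mul_mem (N.inv_mem hn) x.1.2, ?_⟩
          invFun := fun z => ⟨⟨n * (z : G), N.mul_mem hn z.2.1⟩, ?_⟩
          left_inv := fun x => by
            apply Subtype.ext; apply Subtype.ext
            simp
          right_inv := fun z => by
            apply Subtype.ext
            simp }
      · change n⁻¹ * (x.1 : G) ∈ Subgroup.centralizer ({(y : G)} : Set G)
        rw [Subgroup.mem_centralizer_singleton_iff]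
        have h2 : (x.1 : G) * y * (x.1 : G)⁻¹ = v := congrArg Subtype.val x.2
        rw [← hn2] at h2
        have h3 : n⁻¹ * ((x.1 : G) * y * (x.1 : G)⁻¹) * (x.1 : G) = n⁻¹ * (n * y * n⁻¹) * (x.1 : G) := by
          rw [h2]
        calc n⁻¹ * (x.1 : G) * y = n⁻¹ * ((x.1 : G) * y * (x.1 : G)⁻¹) * (x.1 : G) := by group
          _ = n⁻¹ * (n * y * n⁻¹) * (x.1 : G) := h3
          _ = y * (n⁻¹ * (x.1 : G)) := by group
      · apply Subtype.ext
        change n * (z : G) * y * (n * (z : G))⁻¹ = v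
        have h2 := Subgroup.mem_centralizer_singleton_iff.mp z.2.2
        rw [← hn2, mul_assoc n, h2]
        group
    rw [hcard]
  · have h2 : Finset.univ.filter (fun x : N => f x = v) = ∅ := by
      rw [Finset.filter_eq_empty_iff]
      intro x _ hx
      apply h
      rw [isConj_iff]
      exact ⟨x, congrArg Subtype.val hx⟩
    rw [h2]
    simp

/-- The inner product formula for principal block columns. -/
theorem inner_formula (hM : IsPModular p M) (P : Subgroup G) (hP : IsPGroup p P) (N : Subgroup G)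
    (hNN : N ≤ Subgroup.normalizer (P : Set G)) (U : Set G)
    (hfus : ∀ u ∈ U, ∀ g : G, g * u * g⁻¹ ∈ (P : Set G) → ∃ n ∈ N, n * u * n⁻¹ = g * u * g⁻¹)
    (w : ℚ)
    (hw : ∀ y ∈ U, (lamB M ↥(Subgroup.centralizer ({y} : Set G)) : ℚ) =
      w * Nat.card ↥(N ⊓ Subgroup.centralizer ({y} : Set G)))
    (θ η : ↥P → ℂ) (hθU : ∀ y : ↥P, (y : G) ∉ U → θ y = 0) :
    ∑ᶠ χ ∈ principalBlock M G, ((Nat.card ↥P : ℂ)⁻¹ * ∑ᶠ y : ↥P, (χ : G → ℂ) (y : G) * θ y⁻¹) *
      (starRingEnd ℂ) ((Nat.card ↥P : ℂ)⁻¹ * ∑ᶠ y : ↥P, (χ : G → ℂ) (y : G) * η y⁻¹) =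
      ((w : ℂ) / ((Nat.card ↥P : ℂ) ^ 2)) * ∑ᶠ y : ↥P, θ y *
        (starRingEnd ℂ) (∑ᶠ x : ↥N, extendByZero P η ((x : G) * (y : G) * (x : G)⁻¹)) := by
  classical
  haveI := isPrime hM
  haveI : Fact p.Prime := ⟨hM.1⟩
  have := Fintype.ofFinite P
  have := Fintype.ofFinite N
  have hord : ∀ y : P, ∃ k, orderOf (y : G) = p ^ k := by
    intro y
    obtain ⟨k, hk⟩ := hP.exists_orderOf_eq_pow y
    exact ⟨k, by rw [Subgroup.orderOf_coe]; exact hk⟩
  rw [finsum_mem_eq_finite_toFinset_sum _ (Set.toFinite (principalBlock M G))]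
  simp only [finsum_eq_sum_of_fintype]
  set s := (Set.toFinite (principalBlock M G)).toFinset with hs
  -- expand
  have hre : ∀ (χ : IrrCharacter G) (f : P → ℂ), ∑ y : P, (χ : G → ℂ) (y : G) * f y⁻¹ =
      ∑ y : P, f y * (χ : G → ℂ) (y : G)⁻¹ := by
    intro χ f
    refine Fintype.sum_equiv (Equiv.inv P) _ _ fun y => ?_
    simp [mul_comm]
  have h1 : ∀ χ ∈ s, ((Nat.card ↥P : ℂ)⁻¹ * ∑ y : ↥P, (χ : G → ℂ) (y : G) * θ y⁻¹) *
      (starRingEnd ℂ) ((Nat.card ↥P : ℂ)⁻¹ * ∑ y : ↥P, (χ : G → ℂ) (y : G) * η y⁻¹) =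
      ((Nat.card ↥P : ℂ) ^ 2)⁻¹ * ∑ y : P, ∑ y' : P, θ y * conj (η y') *
        ((χ : G → ℂ) (y : G)⁻¹ * conj ((χ : G → ℂ) (y' : G)⁻¹)) := by
    intro χ _
    rw [hre, hre, map_mul, map_inv₀, Complex.conj_natCast, map_sum]
    have h2 : ∑ y : P, ∑ y' : P, θ y * conj (η y') *
        ((χ : G → ℂ) (y : G)⁻¹ * conj ((χ : G → ℂ) (y' : G)⁻¹)) =
        (∑ y : P, θ y * (χ : G → ℂ) (y : G)⁻¹) *
          ∑ y' : P, conj (η y' * (χ : G → ℂ) (y' : G)⁻¹) := by
      rw [Finset.sum_mul_sum]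
      refine Finset.sum_congr rfl fun y _ => Finset.sum_congr rfl fun y' _ => ?_
      rw [map_mul]; ring
    rw [h2]
    ring
  rw [Finset.sum_congr rfl h1, ← Finset.mul_sum, Finset.sum_comm]
  have h3 : ∀ y : P, ∑ χ ∈ s, ∑ y' : P, θ y * conj (η y') *
        ((χ : G → ℂ) (y : G)⁻¹ * conj ((χ : G → ℂ) (y' : G)⁻¹)) =
      (w : ℂ) * (θ y * conj (∑ x : N, extendByZero P η ((x : G) * (y : G) * (x : G)⁻¹))) := by
    intro y
    by_cases hyU : (y : G) ∈ U
    · rw [Finset.sum_comm]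
      have h4 : ∀ y' : P, ∑ χ ∈ s, θ y * conj (η y') *
          ((χ : G → ℂ) (y : G)⁻¹ * conj ((χ : G → ℂ) (y' : G)⁻¹)) =
          θ y * (lamB M ↥(Subgroup.centralizer ({(y : G)} : Set G)) : ℂ) *
            conj (if IsConj (y : G) (y' : G) then η y' else 0) := by
        intro y'
        obtain ⟨k, hk⟩ := hord y
        obtain ⟨k', hk'⟩ := hord y'
        have h5 := column_principal_inv hM hk hk'
        rw [column_principal hM hk hk', finsum_mem_eq_finite_toFinset_sum _ (Set.toFinite _)] at h5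
        rw [← Finset.mul_sum, h5]
        split_ifs
        · ring
        · simp
      rw [Finset.sum_congr rfl (fun y' _ => h4 y'), ← Finset.mul_sum, ← map_sum]
      have h6 := sum_conj_eq P N hNN y (hfus _ hyU) (extendByZero P η)
      rw [h6]
      have h7 : ∀ v : P, (if IsConj (y : G) (v : G) then extendByZero P η (v : G) else 0) =
          if IsConj (y : G) (v : G) then η v else 0 := by
        intro v
        rw [IndFun.extendByZero_coe]
      simp only [h7]
      have h8 : (lamB M ↥(Subgroup.centralizer ({(y : G)} : Set G)) : ℂ) =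
          (w : ℂ) * (Nat.card ↥(N ⊓ Subgroup.centralizer ({(y : G)} : Set G)) : ℂ) := by
        have := hw _ hyU
        have h9 := congrArg (fun q : ℚ => (q : ℂ)) this
        push_cast at h9
        exact h9
      rw [h8, map_mul, Complex.conj_natCast]
      ring
    · rw [hθU y hyU]
      simp
  rw [Finset.sum_congr rfl (fun y _ => h3 y), ← Finset.mul_sum]
  ring

end Cfsg.Agent.Lib.BlockColumn
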