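import Cfsg.Prelude
import Cfsg.Agent.Lib.BlockDefect
import Cfsg.Agent.Lib.BrauerApp
import Cfsg.Agent.Lib.StructConst
import Cfsg.Agent.Lib.DefectZero

/-!
# Determinants modulo the local ideal; separated classes and blocks (helper79)
-/

open Cfsg Cfsg.Agent.Lib Cfsg.Agent.Lib.CharBasic Cfsg.Agent.Lib.DefectZero
open Cfsg.Agent.Lib.BlockRing Cfsg.Agent.Lib.BlockGA Cfsg.Agent.Lib.BlockIdem
open Cfsg.Agent.Lib.BlockDefect Cfsg.Agent.Lib.StructConst
open scoped ComplexConjugate

namespace Cfsg.Agent.Lib.BlockDet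

section det

variable {M : Ideal AlgInt} [hMp : M.IsPrime]

theorem idl_prod_sub {ι : Type*} (s : Finset ι) (f g : ι → ℂ) (hf : ∀ i ∈ s, MemLocalRing M (f i))
    (hg : ∀ i ∈ s, MemLocalRing M (g i)) (h : ∀ i ∈ s, MemLocalIdeal M (f i - g i)) :
    MemLocalIdeal M (∏ i ∈ s, f i - ∏ i ∈ s, g i) := by
  classical
  induction s using Finset.induction_on with
  | empty => simpa using idl_zero
  | insert a s ha ih =>
    rw [Finset.prod_insert ha, Finset.prod_insert ha]
    exact idl_mul_sub_mul (hf a (Finset.mem_insert_self _ _))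
      (loc_prod fun i hi => hg i (Finset.mem_insert_of_mem hi)) (h a (Finset.mem_insert_self _ _))
      (ih (fun i hi => hf i (Finset.mem_insert_of_mem hi))
        (fun i hi => hg i (Finset.mem_insert_of_mem hi))
        (fun i hi => h i (Finset.mem_insert_of_mem hi)))

variable {ι : Type*} [Fintype ι] [DecidableEq ι]

theorem loc_det {N : Matrix ι ι ℂ} (hN : ∀ i j, MemLocalRing M (N i j)) : MemLocalRing M N.det := by
  rw [Matrix.det_apply']
  refine loc_sum fun σ _ => loc_mul (loc_intCast _) (loc_prod fun i _ => hN _ _)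

theorem idl_det_sub {N N' : Matrix ι ι ℂ} (hN : ∀ i j, MemLocalRing M (N i j))
    (hN' : ∀ i j, MemLocalRing M (N' i j)) (h : ∀ i j, MemLocalIdeal M (N i j - N' i j)) :
    MemLocalIdeal M (N.det - N'.det) := by
  rw [Matrix.det_apply', Matrix.det_apply', ← Finset.sum_sub_distrib]
  refine idl_sum fun σ _ => ?_
  rw [← mul_sub]
  exact idl_mul_left (loc_intCast _) (idl_prod_sub _ _ _ (fun i _ => hN _ _) (fun i _ => hN' _ _)
    (fun i _ => h _ _))

end det

/-- Expansion of the determinant of a product along the columns. -/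
theorem det_mul_expand {ι κ : Type*} [Fintype ι] [DecidableEq ι] [Fintype κ] [DecidableEq κ]
    (A : Matrix ι κ ℂ) (W : Matrix κ ι ℂ) :
    (A * W).det = ∑ f : ι → κ, (∏ j, W (f j) j) * (Matrix.of fun i j => A i (f j)).det := by
  rw [Matrix.det_apply']
  have h1 : ∀ σ : Equiv.Perm ι, ((Equiv.Perm.sign σ : ℤ) : ℂ) * ∏ i, (A * W) (σ i) i =
      ∑ f : ι → κ, (∏ j, W (f j) j) *
        (((Equiv.Perm.sign σ : ℤ) : ℂ) * ∏ i, (Matrix.of fun i j => A i (f j)) (σ i) i) := by
    intro σ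
    have h2 : ∏ i, (A * W) (σ i) i = ∑ f : ι → κ, ∏ i, (A (σ i) (f i) * W (f i) i) := by
      simp only [Matrix.mul_apply]
      rw [Finset.prod_univ_sum]
      simp only [Fintype.piFinset_univ]
    rw [h2, Finset.mul_sum]
    apply Finset.sum_congr rfl
    intro f _
    rw [Finset.prod_mul_distrib]
    simp only [Matrix.of_apply]
    ring
  simp only [h1]
  rw [Finset.sum_comm]
  apply Finset.sum_congr rfl
  intro f _
  rw [Matrix.det_apply', Finset.mul_sum]

/-- Main identity: for separated elements, `Σ_χ n_χ χ(x) ω_χ(y⁻¹) = |G|_{p'} δ`, where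
the `n_χ` are algebraic integers. -/
theorem exists_coeff {G : Type*} [Group G] [Finite G] (p : ℕ) [hp : Fact p.Prime] :
    ∃ n : IrrCharacter G → ℂ, (∀ χ, IsIntegral ℤ (n χ)) ∧ ∀ x y : G,
      (∀ g h : G, IsConj x g → IsConj y h → ∀ k : ℕ, 0 < k → orderOf (g * h⁻¹) ≠ p ^ k) →
      ((IsConj x y → ∑ χ : IrrCharacter G, n χ * (χ : G → ℂ) x * centralChar (χ : G → ℂ) y⁻¹ =
        ((Nat.card G / p ^ (Nat.card G).factorization p : ℕ) : ℂ)) ∧
      (¬ IsConj x y → ∑ χ : IrrCharacter G, n χ * (χ : G → ℂ) x * centralChar (χ : G → ℂ) y⁻¹ = 0)) := by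
  classical
  have := Fintype.ofFinite G
  set v := (Nat.card G).factorization p with hv
  set m := Nat.card G / p ^ v with hm
  have hmn : Nat.card G = p ^ v * m := (Nat.ordProj_mul_ordCompl_eq_self _ _).symm
  have hcop : Nat.Coprime (p ^ v) m := (Nat.coprime_ordCompl hp.out Nat.card_pos.ne').pow_left _
  obtain ⟨e, f, he0, he1, -, -, -⟩ := BrauerApp.exists_exp hcop
  have hG : (Nat.card G : ℂ) ≠ 0 := by exact_mod_cast Nat.card_pos.ne'
  set F : G → ℂ := fun x : G => if IsConj (x ^ e) 1 then (m : ℂ) else 0 with hF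
  have hFm : F ∈ Submodule.span AlgInt {θ : G → ℂ | IsCharacter G θ} :=
    BrauerApp.section_function_mem (p ^ v) m hmn hcop he0 he1 1
  -- `x ^ e = 1` iff `x` is a `p`-element
  have hpel : ∀ x : G, IsConj (x ^ e) 1 ↔ x ^ (p ^ v) = 1 := by
    intro x
    rw [isConj_one_left]
    constructor
    · intro h
      have h1 : orderOf x ∣ e := orderOf_dvd_of_pow_eq_one h
      have h2 : Nat.Coprime (orderOf x) m := by
        have h3 : Nat.Coprime e m := by
          have := he1.gcd_eq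
          rw [Nat.Coprime, this]; simp
        exact Nat.Coprime.coprime_dvd_left h1 h3
      have h3 : orderOf x ∣ p ^ v := by
        have h4 : orderOf x ∣ p ^ v * m := by rw [← hmn]; exact orderOf_dvd_natCard x
        exact h2.dvd_of_dvd_mul_right h4
      exact orderOf_dvd_iff_pow_eq_one.mp h3
    · intro h
      have h1 : p ^ v ∣ e := (Nat.modEq_zero_iff_dvd).mp he0
      obtain ⟨c, rfl⟩ := h1
      rw [pow_mul, h, one_pow]
  refine ⟨fun χ => classInner F (χ : G → ℂ),
    fun χ => BrauerApp.classInner_mem_of_mem_span hFm χ, ?_⟩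
  intro x y hsep
  have h1 := sum_sum_conj F x y
  have hval : ∀ a b : G, F (a * x * a⁻¹ * (b * y * b⁻¹)⁻¹) =
      (m : ℂ) * (if a * x * a⁻¹ = b * y * b⁻¹ then (1 : ℂ) else 0) := by
    intro a b
    simp only [hF]
    by_cases h3 : a * x * a⁻¹ = b * y * b⁻¹
    · rw [if_pos h3, if_pos, mul_one]
      rw [hpel, h3, mul_inv_cancel, one_pow]
    · rw [if_neg h3, if_neg, mul_zero]
      rw [hpel]
      intro h4
      have h5 : orderOf (a * x * a⁻¹ * (b * y * b⁻¹)⁻¹) ∣ p ^ v := orderOf_dvd_of_pow_eq_one h4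
      obtain ⟨k, -, hk⟩ := (Nat.dvd_prime_pow hp.out).mp h5
      rcases Nat.eq_zero_or_pos k with h0 | h0
      · rw [h0, pow_zero, orderOf_eq_one_iff, mul_inv_eq_one] at hk
        exact h3 hk
      · exact hsep _ _ (isConj_iff.mpr ⟨a, rfl⟩) (isConj_iff.mpr ⟨b, rfl⟩) k h0 hk
  simp only [hval, ← Finset.mul_sum] at h1
  have hind : (((Subgroup.centralizer ({y} : Set G)).index : ℕ) : ℂ) *
      (Nat.card (Subgroup.centralizer ({y} : Set G)) : ℂ) = Nat.card G := by
    rw [← Subgroup.card_mul_index (Subgroup.centralizer ({y} : Set G))]; push_cast; ring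
  have h2 : ∑ χ : IrrCharacter G, classInner F (χ : G → ℂ) * (χ : G → ℂ) x *
      centralChar (χ : G → ℂ) y⁻¹ = ((Subgroup.centralizer ({y} : Set G)).index : ℂ) *
      ∑ χ : IrrCharacter G, classInner F (χ : G → ℂ) * (χ : G → ℂ) x * conj ((χ : G → ℂ) y) /
        (χ : G → ℂ) 1 := by
    rw [Finset.mul_sum]
    apply Finset.sum_congr rfl
    intro χ _
    rw [centralChar, centralizer_inv, χ.2.inv]
    ring
  rw [h2]
  constructor
  · intro hc
    obtain ⟨c, hc'⟩ := isConj_iff.mp hc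
    have h3 : ∑ a : G, ∑ b : G, (if a * x * a⁻¹ = b * y * b⁻¹ then (1 : ℂ) else 0) =
        (Nat.card G : ℂ) * Nat.card (Subgroup.centralizer ({y} : Set G)) := by
      rw [← sum_sum_eq_conj]
      rw [← Equiv.sum_comp (Equiv.mulRight c)]
      apply Finset.sum_congr rfl
      intro a _
      apply Finset.sum_congr rfl
      intro b _
      simp only [Equiv.coe_mulRight]
      have : a * c * x * (a * c)⁻¹ = a * y * a⁻¹ := by rw [← hc']; group
      simp only [this]
    rw [h3] at h1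
    have h4 : ∑ χ : IrrCharacter G, classInner F (χ : G → ℂ) * (χ : G → ℂ) x *
        conj ((χ : G → ℂ) y) / (χ : G → ℂ) 1 =
        (Nat.card G : ℂ)⁻¹ ^ 2 * ((m : ℂ) * ((Nat.card G : ℂ) * Nat.card (Subgroup.centralizer ({y} : Set G)))) := by
      rw [h1]; field_simp
    rw [h4]
    calc ((Subgroup.centralizer ({y} : Set G)).index : ℂ) * ((Nat.card G : ℂ)⁻¹ ^ 2 *
          ((m : ℂ) * ((Nat.card G : ℂ) * Nat.card (Subgroup.centralizer ({y} : Set G)))))
        = (m : ℂ) * (((Subgroup.centralizer ({y} : Set G)).index : ℂ) *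
          (Nat.card (Subgroup.centralizer ({y} : Set G)) : ℂ)) * ((Nat.card G : ℂ)⁻¹ ^ 2 * (Nat.card G : ℂ)) := by ring
      _ = (m : ℂ) := by rw [hind]; field_simp
  · intro hc
    have h3 : ∑ a : G, ∑ b : G, (if a * x * a⁻¹ = b * y * b⁻¹ then (1 : ℂ) else 0) = 0 := by
      apply Finset.sum_eq_zero; intro a _
      apply Finset.sum_eq_zero; intro b _
      rw [if_neg]
      intro h
      apply hc
      rw [isConj_iff]
      refine ⟨b⁻¹ * a, ?_⟩
      have : b⁻¹ * a * x * (b⁻¹ * a)⁻¹ = b⁻¹ * (a * x * a⁻¹) * b := by group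
      rw [this, h]; group
    rw [h3, mul_zero] at h1
    have h4 := (mul_eq_zero.mp h1.symm).resolve_left (pow_ne_zero 2 hG)
    rw [h4, mul_zero]

end Cfsg.Agent.Lib.BlockDet
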