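import Cfsg.Agent.Lib.BlockNormP
import Cfsg.Agent.Lib.BlockCover
import Cfsg.Agent.Lib.BlockDefect

/-!
# Defect groups and quotient blocks (helper74)
-/

set_option autoImplicit false
set_option linter.all false

namespace Cfsg.Agent.Lib.BlockQuotDef

open Cfsg Cfsg.Agent.Lib.BlockRing Cfsg.Agent.Lib.BlockGA Cfsg.Agent.Lib.BlockIdem Cfsg.Agent.Lib.BlockDefect
  Cfsg.Agent.Lib.BlockNormP Cfsg.Agent.Lib.CharBasic
open scoped ComplexConjugate

universe u

variable {G : Type u} [Group G] [Finite G] {p : ℕ} {M : Ideal AlgInt}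

theorem sylIn_of_relIndex [Fact p.Prime] {P H : Subgroup G} (hPH : P ≤ H) (hP : IsPGroup p P)
    (h : ¬ p ∣ P.relIndex H) : SylIn p H P := by
  rw [sylIn_iff]
  refine ⟨hPH, hP, fun R hR hRp hPR => ?_⟩
  have h1 : P.relIndex R * R.relIndex H = P.relIndex H := Subgroup.relIndex_mul_relIndex P R H hPR hR
  have h2 : ¬ p ∣ P.relIndex R := fun h2 => h (h1 ▸ h2.mul_right _)
  have h3 : P.relIndex R ∣ Nat.card R := Subgroup.relIndex_dvd_card P R
  obtain ⟨k, hk⟩ := IsPGroup.iff_card.1 hRp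
  rw [hk] at h3
  obtain ⟨i, -, hi⟩ := (Nat.dvd_prime_pow (Fact.out : p.Prime)).1 h3
  have h4 : i = 0 := by
    by_contra h5
    apply h2; rw [hi]; exact dvd_pow_self p h5
  rw [h4, pow_zero] at hi
  exact le_antisymm (Subgroup.relIndex_eq_one.1 hi) hPR

theorem not_dvd_relIndex_of_sylIn [Fact p.Prime] {P H : Subgroup G} (h : SylIn p H P) : ¬ p ∣ P.relIndex H := by
  obtain ⟨Q, rfl⟩ := h
  have h1 : ((Q : Subgroup H).map H.subtype).relIndex H = (Q : Subgroup H).index := by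
    rw [Subgroup.relIndex, Subgroup.subgroupOf, Subgroup.comap_map_eq_self_of_injective H.subtype_injective]
  rw [h1]
  exact Q.not_dvd_index

/-- the basic comparison -/
theorem quot_class (hM : IsPModular p M) (N : Subgroup G) [N.Normal] {χ : G ⧸ N → ℂ} (hχ : IsIrrCharacter (G ⧸ N) χ)
    {x : G} (hx : ¬ MemLocalIdeal M (centralChar (fun g : G => χ (g : G ⧸ N)) x)) {P : Subgroup G}
    (hP : SylC p x P) :
    ¬ MemLocalIdeal M (centralChar χ (x : G ⧸ N)) ∧ SylC p (x : G ⧸ N) (P.map (QuotientGroup.mk' N)) := by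
  haveI := isPrime hM
  haveI : Fact p.Prime := ⟨hM.1⟩
  set Cs : Subgroup G := (Subgroup.centralizer ({(x : G ⧸ N)} : Set (G ⧸ N))).comap (QuotientGroup.mk' N) with hCs
  have h1 : Subgroup.centralizer ({x} : Set G) ≤ Cs := by
    intro c hc
    rw [hCs, Subgroup.mem_comap, Subgroup.mem_centralizer_singleton_iff]
    rw [Subgroup.mem_centralizer_singleton_iff] at hc
    exact congrArg (QuotientGroup.mk' N) hc
  have h2 : Cs.index = (Subgroup.centralizer ({(x : G ⧸ N)} : Set (G ⧸ N))).index :=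
    Subgroup.index_comap_of_surjective _ (QuotientGroup.mk'_surjective N)
  set k := (Subgroup.centralizer ({x} : Set G)).relIndex Cs with hk
  have h3 : k * Cs.index = (Subgroup.centralizer ({x} : Set G)).index := Subgroup.relIndex_mul_index h1
  have h4 : centralChar (fun g : G => χ (g : G ⧸ N)) x = (k : ℂ) * centralChar χ (x : G ⧸ N) := by
    rw [centralChar, centralChar, ← h3, h2]
    push_cast
    change _ * χ (x : G ⧸ N) / χ ((1 : G) : G ⧸ N) = _
    rw [QuotientGroup.mk_one]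
    ring
  rw [h4] at hx
  have h5 : ¬ MemLocalIdeal M (centralChar χ (x : G ⧸ N)) := fun h => hx (idl_mul_left (loc_natCast k) h)
  have h6 : ¬ p ∣ k := by
    intro h
    apply hx
    exact idl_mul_right ((idl_natCast_iff hM k).2 h) (loc_centralChar hχ _)
  refine ⟨h5, ?_⟩
  have h7 : P ≤ Subgroup.centralizer ({x} : Set G) := sylIn_le hP
  have h8 : ¬ p ∣ P.relIndex Cs := by
    rw [← Subgroup.relIndex_mul_relIndex P _ Cs h7 h1]
    intro h
    rcases (Nat.Prime.dvd_mul hM.1).1 h with h | h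
    · exact not_dvd_relIndex_of_sylIn hP h
    · exact h6 h
  have h9 : Cs.map (QuotientGroup.mk' N) = Subgroup.centralizer ({(x : G ⧸ N)} : Set (G ⧸ N)) :=
    Subgroup.map_comap_eq_self_of_surjective (QuotientGroup.mk'_surjective N) _
  apply sylIn_of_relIndex
  · rw [← h9]; exact Subgroup.map_mono (h7.trans h1)
  · exact (sylIn_isPGroup hP).map _
  · rw [← h9, Subgroup.relIndex_map_map]
    intro h
    apply h8
    have hker : (QuotientGroup.mk' N).ker ≤ Cs := by
      rw [hCs]; exact Subgroup.ker_le_comap _ _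
    rw [sup_eq_left.2 hker] at h
    exact h.trans (Subgroup.relIndex_dvd_of_le_left Cs le_sup_left)

theorem map_conj_mk (N : Subgroup G) [N.Normal] (P : Subgroup G) (y : G) :
    (P.map (QuotientGroup.mk' N)).map (MulAut.conj (y : G ⧸ N)).toMonoidHom =
      (P.map (MulAut.conj y).toMonoidHom).map (QuotientGroup.mk' N) := by
  rw [Subgroup.map_map, Subgroup.map_map]
  congr 1

theorem quot_defect_lift (hM : IsPModular p M) (N : Subgroup G) [N.Normal] {Bbar : Set (IrrCharacter (G ⧸ N))}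
    (hBbar : IsPBlock M Bbar) {B : Set (IrrCharacter G)} (hB : IsPBlock M B)
    (hsub : ∀ χ ∈ Bbar, ∀ ψ : IrrCharacter G, (ψ : G → ℂ) = (χ : G ⧸ N → ℂ) ∘ QuotientGroup.mk → ψ ∈ B)
    {Dbar : Subgroup (G ⧸ N)} (hD : IsDefectGroup p M Bbar Dbar) :
    ∃ P : Subgroup G, IsDefectGroup p M B P ∧ Dbar ≤ P.map (QuotientGroup.mk' N) := by
  haveI := isPrime hM
  haveI : Fact p.Prime := ⟨hM.1⟩
  obtain ⟨x, hx⟩ := exists_defectClass hM hB
  obtain ⟨P, hP⟩ := sylIn_exists (p := p) (Subgroup.centralizer ({x} : Set G))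
  obtain ⟨χ, hχ⟩ := isPBlock_nonempty hBbar
  have h1 : (⟨fun g : G => (χ : G ⧸ N → ℂ) (g : G ⧸ N), χ.2.inflate N⟩ : IrrCharacter G) ∈ B :=
    hsub χ hχ _ rfl
  obtain ⟨h2, h3⟩ := quot_class hM N χ.2 (hx.2.2 _ h1) hP
  obtain ⟨y, hy⟩ := minmax_omega hM hBbar hD ⟨χ, hχ, h2⟩ h3
  obtain ⟨y, rfl⟩ := QuotientGroup.mk_surjective y
  rw [map_conj_mk] at hy
  exact ⟨_, defectGroup_map_conj ⟨x, hx, hP⟩ y, hy⟩

theorem eB_union_block (hM : IsPModular p M) {U : Set (IrrCharacter G)} (hU : UnionOfBlocks M U) {x : G}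
    (hx : ¬ MemLocalIdeal M (blockCoeff U x)) :
    ∃ B : Set (IrrCharacter G), IsPBlock M B ∧ B ⊆ U ∧ ¬ MemLocalIdeal M (blockCoeff B x) := by
  classical
  haveI := isPrime hM
  haveI := finite_blocks (G := G) (M := M)
  haveI := Fintype.ofFinite {B : Set (IrrCharacter G) // IsPBlock M B}
  by_contra hcon
  push Not at hcon
  apply hx
  have h1 : eB U = ∑ B : {B : Set (IrrCharacter G) // IsPBlock M B}, eB (U ∩ (B : Set (IrrCharacter G))) := by
    conv_lhs => rw [← mul_one (eB U), ← sum_eB_blocks (M := M), Finset.mul_sum]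
    refine Finset.sum_congr rfl fun B _ => ?_
    rw [eB_mul_eB]
  rw [← coeff_eB, h1, coeff_finset_sum]
  refine idl_sum fun B _ => ?_
  rw [coeff_eB]
  by_cases h2 : (U ∩ (B : Set (IrrCharacter G))).Nonempty
  · obtain ⟨χ, hχU, hχB⟩ := h2
    have h3 : (B : Set (IrrCharacter G)) ⊆ U := by
      intro ψ hψ
      exact hU χ hχU ψ (sameBlock_of_mem B.2 hχB hψ)
    rw [Set.inter_eq_right.2 h3]
    exact hcon B B.2 h3
  · rw [Set.not_nonempty_iff_eq_empty.1 h2, blockCoeff]
    simp only [Set.mem_empty_iff_false, finsum_false, finsum_zero, mul_zero]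
    exact idl_zero

end Cfsg.Agent.Lib.BlockQuotDef
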