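import Cfsg.Agent.Lib.H76Blk2
import Cfsg.Agent.Lib.BlockDefect
import Cfsg.Agent.Lib.Cores
import Cfsg.Agent.Lib.BlockNormP
import Cfsg.Agent.S4434

/-!
# The block of `G/Q` dominated by a block of `G = Q C_G(Q)`, `Q` a `p`-group (helper75)
-/

set_option autoImplicit false
set_option linter.all false

namespace Cfsg.Agent.Lib.BlockDom

open Cfsg Cfsg.Agent.Lib.CharBasic Cfsg.Agent.Lib.BlockRing Cfsg.Agent.Lib.BlockIdem
open Cfsg.Agent.Lib.BlockGA Cfsg.Agent.Lib.BlockPair Cfsg.Agent.Lib.BlockCount Cfsg.Agent.Lib.BlockDefect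
open Cfsg.Agent.Lib.BlockOsima Cfsg.Agent.Lib.BlockDeg Cfsg.Agent.Lib.H76Blk Cfsg.Agent.Lib.H76Blk2

universe u

variable {G : Type u} [Group G] [Finite G] {p : ℕ} {M : Ideal AlgInt} {Q : Subgroup G} [hQn : Q.Normal]

theorem infl_mem_iff (hM : IsPModular p M) (hQ : IsPGroup p Q) (hsup : Q ⊔ Subgroup.centralizer (Q : Set G) = ⊤)
    {B : Set (IrrCharacter G)} (hB : IsPBlock M B) {Bbar : Set (IrrCharacter (G ⧸ Q))} (hBbar : IsPBlock M Bbar)
    (hdom : ∀ ψ ∈ Bbar, infl Q ψ ∈ B) {ψ : IrrCharacter (G ⧸ Q)} : infl Q ψ ∈ B ↔ ψ ∈ Bbar := by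
  haveI := isPrime hM
  constructor
  · intro h
    obtain ⟨ψ₀, h0⟩ := isPBlock_nonempty hBbar
    have h1 : SameBlock M (infl Q ψ₀ : G → ℂ) (infl Q ψ : G → ℂ) := sameBlock_of_mem hB (hdom _ h0) h
    exact mem_of_sameBlock hBbar h0 ((infl_sameBlock hM hQ hsup).1 h1)
  · exact hdom ψ

theorem rsp_eq (hM : IsPModular p M) (hQ : IsPGroup p Q) (hsup : Q ⊔ Subgroup.centralizer (Q : Set G) = ⊤)
    {B : Set (IrrCharacter G)} (hB : IsPBlock M B) {Bbar : Set (IrrCharacter (G ⧸ Q))} (hBbar : IsPBlock M Bbar)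
    (hdom : ∀ ψ ∈ Bbar, infl Q ψ ∈ B) :
    rsp p B = (rsp p Bbar).map (T p Q) := by
  classical
  have := isPrime hM
  have := Fintype.ofFinite G
  have := Fintype.ofFinite (G ⧸ Q)
  have hmem : ∀ ψ : IrrCharacter (G ⧸ Q), infl Q ψ ∈ B ↔ ψ ∈ Bbar := fun ψ => infl_mem_iff hM hQ hsup hB hBbar hdom
  apply le_antisymm
  · rw [rsp, Submodule.span_le]
    rintro _ ⟨χ, hχ, rfl⟩
    have hv : preg p (χ : G → ℂ) ∈ rsp p B := Submodule.subset_span ⟨χ, hχ, rfl⟩
    obtain ⟨f, hf, hTf⟩ := exists_T_eq hM.1 hQ hsup (rsp_classFunction hv) (fun g hg => rsp_reg hv hg)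
    have hfe := hf.expansion
    set c : IrrCharacter (G ⧸ Q) → ℂ := fun ψ => classInner f (ψ : G ⧸ Q → ℂ) with hc
    set v₁ : G → ℂ := ∑ ψ : IrrCharacter (G ⧸ Q) with ψ ∈ Bbar, c ψ • preg p (infl Q ψ : G → ℂ) with hv₁
    set v₂ : G → ℂ := ∑ ψ : IrrCharacter (G ⧸ Q) with ψ ∉ Bbar, c ψ • preg p (infl Q ψ : G → ℂ) with hv₂
    have hT : ∀ ψ : IrrCharacter (G ⧸ Q), T p Q (ψ : G ⧸ Q → ℂ) = preg p (infl Q ψ : G → ℂ) := fun ψ => rfl
    have hsum : preg p (χ : G → ℂ) = v₁ + v₂ := by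
      rw [← hTf, hfe, map_sum, hv₁, hv₂, Finset.sum_filter_add_sum_filter_not]
      apply Finset.sum_congr rfl
      intro ψ _
      rw [map_smul, hT]
    have hv₁m : v₁ ∈ rsp p B := by
      apply Submodule.sum_mem
      intro ψ hψ
      apply Submodule.smul_mem
      apply Submodule.subset_span
      exact ⟨infl Q ψ, (hmem ψ).2 (Finset.mem_filter.1 hψ).2, rfl⟩
    have hv₂m : v₂ ∈ rsp p B := by
      have : v₂ = preg p (χ : G → ℂ) - v₁ := by rw [hsum]; ring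
      rw [this]
      exact Submodule.sub_mem _ hv hv₁m
    have h0 : classInner v₂ v₂ = 0 := by
      conv_lhs => rw [hv₂]
      rw [classInner_sum_left]
      apply Finset.sum_eq_zero
      intro ψ hψ
      rw [classInner_smul_left]
      have h1 : classInner (preg p (infl Q ψ : G → ℂ)) v₂ = 0 := by
        apply rsp_orth hM (isPBlock_blockOf (M := M) (infl Q ψ)) hB
        · intro h
          apply (Finset.mem_filter.1 hψ).2
          rw [← hmem, ← h]
          exact mem_blockOf_self _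
        · exact Submodule.subset_span ⟨infl Q ψ, mem_blockOf_self _, rfl⟩
        · exact hv₂m
      rw [h1, mul_zero]
    have h1 : v₂ = 0 := classInner_self_eq_zero.1 h0
    rw [h1, add_zero] at hsum
    show preg p (χ : G → ℂ) ∈ _
    rw [hsum, hv₁]
    apply Submodule.sum_mem
    intro ψ hψ
    apply Submodule.smul_mem
    rw [Submodule.mem_map]
    exact ⟨preg p (ψ : G ⧸ Q → ℂ), Submodule.subset_span ⟨ψ, (Finset.mem_filter.1 hψ).2, rfl⟩, T_preg p Q ψ⟩
  · rw [Submodule.map_le_iff_le_comap, rsp, Submodule.span_le]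
    rintro _ ⟨ψ, hψ, rfl⟩
    show T p Q (preg p (ψ : G ⧸ Q → ℂ)) ∈ rsp p B
    rw [T_preg]
    exact Submodule.subset_span ⟨infl Q ψ, hdom ψ hψ, rfl⟩

theorem blockRank_eq_of_dom (hM : IsPModular p M) (hQ : IsPGroup p Q) (hsup : Q ⊔ Subgroup.centralizer (Q : Set G) = ⊤)
    {B : Set (IrrCharacter G)} (hB : IsPBlock M B) {Bbar : Set (IrrCharacter (G ⧸ Q))} (hBbar : IsPBlock M Bbar)
    (hdom : ∀ ψ ∈ Bbar, infl Q ψ ∈ B) : blockRank p B = blockRank p Bbar := by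
  classical
  rw [BlockCount.blockRank_eq, BlockCount.blockRank_eq, rsp_eq hM hQ hsup hB hBbar hdom]
  have hinj : Function.Injective ((T p Q).domRestrict (rsp p Bbar)) := by
    rw [← LinearMap.ker_eq_bot, LinearMap.ker_eq_bot']
    rintro ⟨f, hf⟩ h
    apply Subtype.ext
    funext y
    show f y = 0
    by_cases hy : p ∣ orderOf y
    · exact rsp_reg hf hy
    · obtain ⟨x, hx, rfl⟩ := exists_regular_lift hM.1 Q hy
      have h1 := congrFun h x
      have h2 : T p Q f x = 0 := h1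
      rw [T_apply, if_neg hx] at h2
      exact h2
  have h1 := LinearMap.finrank_range_of_inj hinj
  rw [← h1, LinearMap.range_domRestrict]

/-- the dominated block: same rank, and defect groups modulo `Q` -/
theorem exists_dom (hM : IsPModular p M) (hQ : IsPGroup p Q) (hsup : Q ⊔ Subgroup.centralizer (Q : Set G) = ⊤)
    {B : Set (IrrCharacter G)} (hB : IsPBlock M B) :
    ∃ Bbar : Set (IrrCharacter (G ⧸ Q)), IsPBlock M Bbar ∧ (∀ ψ, infl Q ψ ∈ B ↔ ψ ∈ Bbar) ∧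
      blockRank p B = blockRank p Bbar ∧ (∀ D : Subgroup G, IsDefectGroup p M B D → IsDefectGroup p M Bbar (D.map (QuotientGroup.mk' Q))) ∧
      Nat.card Q * p ^ blockDefect p Bbar = p ^ blockDefect p B := by
  haveI := isPrime hM
  haveI : Fact p.Prime := ⟨hM.1⟩
  obtain ⟨Bbar, hBbar, hdom, hD⟩ := Cfsg.Agent.S4434.result p M hM Q hQ B hB
  have hdom' : ∀ ψ ∈ Bbar, infl Q ψ ∈ B := fun ψ hψ => hdom ψ hψ _ rfl
  have hmap : ∀ D : Subgroup G, IsDefectGroup p M B D → IsDefectGroup p M Bbar (D.map (QuotientGroup.mk' Q)) :=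
    fun D h => (hD _).2 ⟨D, h, rfl⟩
  refine ⟨Bbar, hBbar, fun ψ => infl_mem_iff hM hQ hsup hB hBbar hdom', blockRank_eq_of_dom hM hQ hsup hB hBbar hdom',
    hmap, ?_⟩
  obtain ⟨D, hDB⟩ := exists_defectGroup hM hB
  have hQD : Q ≤ D := BlockNormP.le_defectGroup hM hQ hB hDB
  rw [← defectGroup_card hM hB hDB, ← defectGroup_card hM hBbar (hmap D hDB)]
  have h1 := Cores.card_map_mk (N := Q) (H := D) hQD
  rw [← h1, mul_comm]

end Cfsg.Agent.Lib.BlockDom
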