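import Cfsg.Agent.Lib.BlockHom

/-!
# Brauer's first main theorem
-/

set_option autoImplicit false
set_option linter.all false

namespace Cfsg.Agent.Lib.BlockFirst

open Cfsg Cfsg.Agent.Lib.BlockRing Cfsg.Agent.Lib.BlockGA Cfsg.Agent.Lib.BlockIdem
open Cfsg.Agent.Lib.CharBasic Cfsg.Agent.Lib.BlockNormP Cfsg.Agent.Lib.BlockHom Cfsg.Agent.Lib.BlockDefect
open Cfsg.Agent.Lib.BlockRes (resH coeff_resH brH coeff_brH)
open Cfsg.Agent.Lib.BlockInd
open scoped ComplexConjugate

universe u

section group

variable {G : Type u} [Group G] [Finite G] {p : ℕ}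

omit [Finite G] in
theorem map_subtype_centralizer_le (H : Subgroup G) (h : H) :
    (Subgroup.centralizer ({h} : Set H)).map H.subtype ≤ Subgroup.centralizer ({(h : G)} : Set G) := by
  rintro _ ⟨x, hx, rfl⟩
  rw [SetLike.mem_coe, Subgroup.mem_centralizer_singleton_iff] at hx
  rw [Subgroup.mem_centralizer_singleton_iff]
  exact congrArg Subtype.val hx

/-- a Sylow subgroup of `C_N(h)`, where `N = N_G(D)`, equal to `D` is a Sylow subgroup of `C_G(h)`. -/
theorem sylC_of_normalizer [Fact p.Prime] {D : Subgroup G} {h : Subgroup.normalizer (D : Set G)}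
    (hD : SylC p h (D.subgroupOf (Subgroup.normalizer (D : Set G)))) : SylC p (h : G) D := by
  have hDN : D ≤ Subgroup.normalizer (D : Set G) := Subgroup.le_normalizer
  rw [SylC, sylIn_iff] at hD ⊢
  obtain ⟨h1, h2, h3⟩ := hD
  have hDp : IsPGroup p D := h2.of_equiv (Subgroup.subgroupOfEquivOfLe hDN)
  refine ⟨?_, hDp, ?_⟩
  · intro d hd
    have h5 : (⟨d, hDN hd⟩ : Subgroup.normalizer (D : Set G)) ∈ Subgroup.centralizer ({h} : Set _) :=
      h1 (by rw [Subgroup.mem_subgroupOf]; exact hd)
    rw [Subgroup.mem_centralizer_singleton_iff] at h5 ⊢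
    exact congrArg Subtype.val h5
  · intro R hR hRp hDR
    -- R ∩ N = D
    have h4 : R ⊓ Subgroup.normalizer (D : Set G) = D := by
      have h5 := h3 (R.subgroupOf (Subgroup.normalizer (D : Set G))) (by
          intro x hx
          rw [Subgroup.mem_subgroupOf] at hx
          rw [Subgroup.mem_centralizer_singleton_iff]
          have := hR hx
          rw [Subgroup.mem_centralizer_singleton_iff] at this
          exact Subtype.ext this)
        (hRp.comap_subtype) (by
          intro x hx
          rw [Subgroup.mem_subgroupOf] at hx ⊢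
          exact hDR hx)
      apply le_antisymm
      · intro x hx
        have h6 : (⟨x, hx.2⟩ : Subgroup.normalizer (D : Set G)) ∈ R.subgroupOf (Subgroup.normalizer (D : Set G)) := by
          rw [Subgroup.mem_subgroupOf]; exact hx.1
        rw [h5, Subgroup.mem_subgroupOf] at h6
        exact h6
      · exact le_inf hDR hDN
    by_contra hne
    have hlt : D.subgroupOf R < ⊤ := by
      rw [lt_top_iff_ne_top]
      intro h5
      apply hne
      rw [Subgroup.subgroupOf_eq_top] at h5
      exact le_antisymm h5 hDR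
    haveI : Group.IsNilpotent R := hRp.isNilpotent
    have h5 := Group.normalizerCondition_of_isNilpotent (G := R) (D.subgroupOf R) hlt
    apply h5.ne
    apply le_antisymm Subgroup.le_normalizer
    intro x hx
    rw [Subgroup.mem_subgroupOf]
    have h6 : (x : G) ∈ R ⊓ Subgroup.normalizer (D : Set G) := by
      refine ⟨x.2, ?_⟩
      show (x : G) ∈ Subgroup.normalizer (D : Set G)
      rw [Subgroup.mem_normalizer_iff]
      intro d
      constructor
      · intro hd
        have h7 := (Subgroup.mem_normalizer_iff.1 hx ⟨d, hDR hd⟩).1 (by rwa [Subgroup.mem_subgroupOf])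
        rw [Subgroup.mem_subgroupOf] at h7
        exact h7
      · intro hd
        have hdR : d ∈ R := by
          have := R.mul_mem (R.mul_mem (R.inv_mem x.2) (hDR hd)) x.2
          simpa [mul_assoc] using this
        have h7 := (Subgroup.mem_normalizer_iff.1 hx ⟨d, hdR⟩).2 (by rw [Subgroup.mem_subgroupOf]; exact hd)
        rwa [Subgroup.mem_subgroupOf] at h7
    rw [h4] at h6
    exact h6

/-- fusion: elements of `C_G(D)` conjugate to `h`, where `D` is Sylow in `C_G(h)`. -/
theorem exists_normalizer_conj [Fact p.Prime] {D : Subgroup G} {h x : G} (hD : SylC p h D)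
    (hx : x ∈ Subgroup.centralizer (D : Set G)) (hc : IsConj h x) :
    ∃ n ∈ Subgroup.normalizer (D : Set G), n * h * n⁻¹ = x := by
  obtain ⟨g, rfl⟩ := isConj_iff.1 hc
  have h1 : SylC p h (D.map (MulAut.conj g⁻¹).toMonoidHom) := by
    have h2 : D.map (MulAut.conj g⁻¹).toMonoidHom ≤ Subgroup.centralizer ({h} : Set G) := by
      intro y hy
      rw [BlockDefect.mem_map_conj, inv_inv] at hy
      rw [Subgroup.mem_centralizer_singleton_iff]
      have h3 := Subgroup.mem_centralizer_iff.1 hx _ hy
      have h4 := congrArg (fun t => g⁻¹ * t * g) h3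
      simpa [mul_assoc] using h4
    obtain ⟨S, hS, hle⟩ := sylIn_exists_ge h2 ((sylIn_isPGroup hD).map _)
    have h3 : Nat.card S = Nat.card (D.map (MulAut.conj g⁻¹).toMonoidHom) := by
      rw [BlockDefect.card_map_conj, sylIn_card hS, sylIn_card hD]
    have h4 := Subgroup.eq_of_le_of_card_ge hle h3.le
    rw [h4]
    exact hS
  obtain ⟨c, hc, h2⟩ := sylIn_unique hD h1
  refine ⟨g * c, ?_, ?_⟩
  · have h3 : D.map (MulAut.conj (g * c)).toMonoidHom = D := by
      rw [← BlockDefect.map_conj_mul, ← h2, BlockDefect.map_conj_inv_map]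
    rw [Subgroup.mem_normalizer_iff]
    intro d
    constructor
    · intro hd
      rw [← h3, BlockDefect.mem_map_conj]
      simpa [mul_assoc] using hd
    · intro hd
      rw [← h3, BlockDefect.mem_map_conj] at hd
      simpa [mul_assoc] using hd
  · rw [Subgroup.mem_centralizer_singleton_iff] at hc
    calc g * c * h * (g * c)⁻¹ = g * (c * h) * c⁻¹ * g⁻¹ := by group
      _ = g * h * g⁻¹ := by rw [hc]; group

theorem brH_classSum [Fact p.Prime] {D : Subgroup G} {h : Subgroup.normalizer (D : Set G)}
    (hD : SylC p (h : G) D) :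
    brH D (Subgroup.normalizer (D : Set G)) (classSum (h : G)) = classSum h := by
  classical
  have hhC : (h : G) ∈ Subgroup.centralizer (D : Set G) := by
    rw [Subgroup.mem_centralizer_iff]
    intro d hd
    exact Subgroup.mem_centralizer_singleton_iff.1 (sylIn_le hD hd)
  ext x
  rw [coeff_brH, coeff_classSum, coeff_classSum]
  by_cases hx : (x : G) ∈ Subgroup.centralizer (D : Set G)
  · rw [if_pos hx]
    by_cases hc : IsConj (h : G) (x : G)
    · rw [if_pos hc, if_pos]
      obtain ⟨n, hn, h1⟩ := exists_normalizer_conj hD hx hc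
      rw [isConj_iff]
      exact ⟨⟨n, hn⟩, Subtype.ext h1⟩
    · rw [if_neg hc, if_neg]
      intro h1
      apply hc
      obtain ⟨n, hn⟩ := isConj_iff.1 h1
      rw [isConj_iff]
      exact ⟨n, congrArg Subtype.val hn⟩
  · rw [if_neg hx, if_neg]
    intro h1
    apply hx
    obtain ⟨n, rfl⟩ := isConj_iff.1 h1
    exact (BlockRes.conj_mem_centralizer_iff n.2).2 hhC

end group

variable {G : Type u} [Group G] [Finite G] {p : ℕ} {M : Ideal AlgInt}

/-- defect groups of `b` are contained in defect groups of `b^G` up to conjugacy. -/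
theorem exists_conj_le (hM : IsPModular p M) {H : Subgroup G} {b : Set (IrrCharacter H)}
    {B : Set (IrrCharacter G)} (hind : IsInducedBlock M H b B) {D : Subgroup H} (hD : IsDefectGroup p M b D)
    {E : Subgroup G} (hE : IsDefectGroup p M B E) :
    ∃ x : G, D.map H.subtype ≤ E.map (MulAut.conj x).toMonoidHom := by
  classical
  haveI := isPrime hM
  haveI : Fact p.Prime := ⟨hM.1⟩
  haveI := Fintype.ofFinite (ConjClasses H)
  obtain ⟨hb, hB, hi⟩ := hind
  obtain ⟨ξ, hξ⟩ := isPBlock_nonempty hb
  obtain ⟨χ, hχ⟩ := isPBlock_nonempty hB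
  obtain ⟨g, hg, hgE⟩ := hE
  have h1 : ¬ MemLocalIdeal M (omega (ξ : H → ℂ) (resH H (classSum g))) := by
    intro h2
    apply hg.2.2 χ hχ
    rw [← omega_classSum χ.2.isClassFunction]
    exact (idl_congr (induced_omega ⟨hb, hB, hi⟩ hξ hχ (classSum_mem_center g) (locA_classSum g))).1 h2
  have hzc := BlockRes.resH_center (H := H) (classSum_mem_center g)
  rw [omega_eq_sum ξ.2.isClassFunction hzc] at h1
  obtain ⟨C, hC⟩ : ∃ C : ConjClasses H, ¬ MemLocalIdeal M ((resH H (classSum g)).coeff (Quotient.out C) *
      centralChar (ξ : H → ℂ) (Quotient.out C)) := by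
    by_contra hn
    push_neg at hn
    exact h1 (idl_sum fun C _ => hn C)
  set h : H := Quotient.out C with hh
  have h2 : IsConj g (h : G) := by
    by_contra hn
    apply hC
    rw [coeff_resH, coeff_classSum, if_neg hn, zero_mul]
    exact idl_zero
  have h3 : ¬ MemLocalIdeal M (centralChar (ξ : H → ℂ) h) := by
    intro hn
    apply hC
    exact idl_mul_left (BlockRes.locA_resH (locA_classSum g) _) hn
  obtain ⟨Q, hQ⟩ := sylIn_exists (p := p) (Subgroup.centralizer ({h} : Set H))
  obtain ⟨x, hx⟩ := minmax_omega hM hb hD ⟨ξ, hξ, h3⟩ hQ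
  -- Q.map ≤ C_G(h)
  have h4 : Q.map H.subtype ≤ Subgroup.centralizer ({(h : G)} : Set G) :=
    (Subgroup.map_mono (sylIn_le hQ)).trans (map_subtype_centralizer_le H h)
  obtain ⟨c, hc⟩ := isConj_iff.1 h2
  have h5 : SylC p (h : G) (E.map (MulAut.conj c).toMonoidHom) := by
    rw [← hc]; exact sylC_conj hgE c
  obtain ⟨y, hy⟩ := defLE_le (defLE_self h5) h4 ((sylIn_isPGroup hQ).map _)
  refine ⟨(x : G) * y * c, ?_⟩
  have h6 : (Q.map (MulAut.conj x).toMonoidHom).map H.subtype =
      (Q.map H.subtype).map (MulAut.conj (x : G)).toMonoidHom := by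
    rw [Subgroup.map_map, Subgroup.map_map]
    congr 1
  calc D.map H.subtype ≤ (Q.map (MulAut.conj x).toMonoidHom).map H.subtype := Subgroup.map_mono hx
    _ = (Q.map H.subtype).map (MulAut.conj (x : G)).toMonoidHom := h6
    _ ≤ ((E.map (MulAut.conj c).toMonoidHom).map (MulAut.conj y).toMonoidHom).map
          (MulAut.conj (x : G)).toMonoidHom := Subgroup.map_mono hy
    _ = E.map (MulAut.conj ((x : G) * y * c)).toMonoidHom := by
        rw [BlockDefect.map_conj_mul, BlockDefect.map_conj_mul, mul_assoc]

/-- `P ≤` defect groups of blocks of `H` when `P ≤ H ≤ N(P)`. -/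
theorem subgroupOf_le_defectGroup (hM : IsPModular p M) {P H : Subgroup G} (hP : IsPGroup p P)
    (hPH : P ≤ H) (hHN : H ≤ Subgroup.normalizer (P : Set G)) {b : Set (IrrCharacter H)}
    (hb : IsPBlock M b) {D : Subgroup H} (hD : IsDefectGroup p M b D) : P.subgroupOf H ≤ D := by
  haveI : (P.subgroupOf H).Normal := by
    constructor
    intro x hx h
    rw [Subgroup.mem_subgroupOf] at hx ⊢
    exact (Subgroup.mem_normalizer_iff.1 (hHN h.2) (x : G)).1 hx
  exact le_defectGroup hM (hP.of_equiv (Subgroup.subgroupOfEquivOfLe hPH).symm) hb hD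

/-- if `e_B` has a unit coefficient on `C_G(P)` then `B` is induced from `H`, `P·C_G(P) ≤ H ≤ N_G(P)`. -/
theorem exists_inducing_block (hM : IsPModular p M) {P H : Subgroup G} (hP : IsPGroup p P) (hPH : P ≤ H)
    (hCH : Subgroup.centralizer (P : Set G) ≤ H)
    (hHN : H ≤ Subgroup.normalizer (P : Set G)) {B : Set (IrrCharacter G)} (hB : IsPBlock M B)
    {c : G} (hc : c ∈ Subgroup.centralizer (P : Set G)) (h : ¬ MemLocalIdeal M (blockCoeff B c)) :
    ∃ b : Set (IrrCharacter H), IsInducedBlock M H b B := by
  classical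
  haveI := isPrime hM
  set z := brH P H (eB B) with hz
  have hzc : z ∈ Subalgebra.center ℂ (GA H) := BlockRes.brH_center hHN (eB_mem_center B)
  have hzl : LocA M z := BlockRes.locA_brH (locA_eB hB)
  have hzi : IdlA M (z * z - z) := by
    have h1 := BlockRes.brH_mul_center hM hP hCH (eB_mem_center B) (locA_eB hB) (eB_mem_center B) (locA_eB hB)
    rw [eB_mul_self] at h1
    have h2 := idlA_neg h1
    rwa [neg_sub] at h2
  have hz0 : ¬ IdlA M z := by
    intro h1
    apply h
    have h2 := h1 ⟨c, hCH hc⟩
    rw [hz, coeff_brH, if_pos hc, coeff_eB] at h2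
    exact h2
  obtain ⟨ξ, hξ⟩ := exists_not_idl_of_idem hzc hzl hzi hz0
  exact ⟨blockOf M (ξ : H → ℂ), isInducedBlock_of_not_idl hM hP hPH hCH hHN (isPBlock_blockOf ξ)
    (mem_blockOf_self ξ) hB hξ⟩

/-- a block `b` of `H`, `P·C_G(P) ≤ H ≤ N_G(P)`, inducing a block with defect group `P` has defect group `P`. -/
theorem defectGroup_of_induced (hM : IsPModular p M) {P H : Subgroup G} (hPH : P ≤ H)
    (hHN : H ≤ Subgroup.normalizer (P : Set G)) {b : Set (IrrCharacter H)} {B : Set (IrrCharacter G)}
    (hind : IsInducedBlock M H b B) (hB : IsDefectGroup p M B P) :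
    IsDefectGroup p M b (P.subgroupOf H) := by
  haveI := isPrime hM
  have hP : IsPGroup p P := defectGroup_isPGroup hB
  obtain ⟨D, hD⟩ := exists_defectGroup hM hind.1
  have h1 := subgroupOf_le_defectGroup hM hP hPH hHN hind.1 hD
  obtain ⟨x, hx⟩ := exists_conj_le hM hind hD hB
  have h2 : Nat.card D ≤ Nat.card (P.subgroupOf H) := by
    have h3 : Nat.card (D.map H.subtype) = Nat.card D :=
      Subgroup.card_map_of_injective H.subtype_injective
    rw [← h3, Nat.card_congr (Subgroup.subgroupOfEquivOfLe hPH).toEquiv,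
      ← BlockDefect.card_map_conj P x]
    exact Subgroup.card_le_of_le hx
  have h3 := Subgroup.eq_of_le_of_card_ge h1 h2
  rw [h3]
  exact hD

/-- First main theorem, part 1: `D` is a defect group of the block induced by a block of `N_G(D)` with
defect group `D`. -/
theorem first_main_defect (hM : IsPModular p M) {D : Subgroup G} (hDp : IsPGroup p D)
    {b : Set (IrrCharacter (Subgroup.normalizer (D : Set G)))} {B : Set (IrrCharacter G)}
    (hind : IsInducedBlock M (Subgroup.normalizer (D : Set G)) b B)
    (hD : IsDefectGroup p M b (D.subgroupOf (Subgroup.normalizer (D : Set G)))) :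
    IsDefectGroup p M B D := by
  haveI := isPrime hM
  haveI : Fact p.Prime := ⟨hM.1⟩
  have hDN : D ≤ Subgroup.normalizer (D : Set G) := Subgroup.le_normalizer
  obtain ⟨h, hh, hhD⟩ := hD
  have hhD' : SylC p (h : G) D := sylC_of_normalizer hhD
  obtain ⟨E, hE⟩ := exists_defectGroup hM hind.2.1
  obtain ⟨ξ, hξ⟩ := isPBlock_nonempty hind.1
  obtain ⟨χ, hχ⟩ := isPBlock_nonempty hind.2.1
  -- λ_B(h) is a unit
  have h1 := induced_brF hM hDp hDN le_rfl hind hξ hχ (classSum_mem_center (h : G)) (locA_classSum (h : G))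
  rw [brF_apply, brH_classSum hhD', omega_classSum ξ.2.isClassFunction,
    omega_classSum χ.2.isClassFunction] at h1
  have h2 : ¬ MemLocalIdeal M (centralChar (χ : G → ℂ) (h : G)) := by
    rw [← idl_congr h1]
    exact hh.2.2 ξ hξ
  obtain ⟨x, hx⟩ := minmax_omega hM hind.2.1 hE ⟨χ, hχ, h2⟩ hhD'
  obtain ⟨y, hy⟩ := exists_conj_le hM hind ⟨h, hh, hhD⟩ hE
  rw [Subgroup.map_subgroupOf_eq_of_le hDN] at hy
  have h3 : Nat.card E ≤ Nat.card D := by
    rw [← BlockDefect.card_map_conj D x]
    exact Subgroup.card_le_of_le hx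
  have h4 : D = E.map (MulAut.conj y).toMonoidHom := by
    apply Subgroup.eq_of_le_of_card_ge hy
    rw [BlockDefect.card_map_conj]
    exact h3
  rw [h4]
  exact defectGroup_map_conj hE y

/-- First main theorem, uniqueness. -/
theorem first_main_unique (hM : IsPModular p M) {D : Subgroup G} (hDp : IsPGroup p D)
    {b b' : Set (IrrCharacter (Subgroup.normalizer (D : Set G)))} {B : Set (IrrCharacter G)}
    (hind : IsInducedBlock M (Subgroup.normalizer (D : Set G)) b B)
    (hD : IsDefectGroup p M b (D.subgroupOf (Subgroup.normalizer (D : Set G))))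
    (hind' : IsInducedBlock M (Subgroup.normalizer (D : Set G)) b' B)
    (hD' : IsDefectGroup p M b' (D.subgroupOf (Subgroup.normalizer (D : Set G)))) : b = b' := by
  classical
  haveI := isPrime hM
  haveI : Fact p.Prime := ⟨hM.1⟩
  haveI := Fintype.ofFinite (ConjClasses (Subgroup.normalizer (D : Set G)))
  have hDN : D ≤ Subgroup.normalizer (D : Set G) := Subgroup.le_normalizer
  obtain ⟨ξ, hξ⟩ := isPBlock_nonempty hind.1
  obtain ⟨ξ', hξ'⟩ := isPBlock_nonempty hind'.1
  obtain ⟨χ, hχ⟩ := isPBlock_nonempty hind.2.1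
  -- the central characters agree on `e_b`
  have h1 : MemLocalIdeal M (omega (ξ : _ → ℂ) (eB b) - omega (ξ' : _ → ℂ) (eB b)) := by
    rw [omega_eq_sum ξ.2.isClassFunction (eB_mem_center b),
      omega_eq_sum ξ'.2.isClassFunction (eB_mem_center b), ← Finset.sum_sub_distrib]
    refine idl_sum fun C _ => ?_
    set c := Quotient.out C with hc
    rw [← mul_sub]
    have hl := locA_eB hind.1 c
    by_cases ha : MemLocalIdeal M ((eB b).coeff c)
    · exact idl_mul_right ha (loc_sub (loc_centralChar ξ.2 c) (loc_centralChar ξ'.2 c))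
    · have hle := minmax_coeff hM hind.1 hD (c := c) (by rwa [coeff_eB] at ha)
      apply idl_mul_left hl
      by_cases hS : SylC p c (D.subgroupOf (Subgroup.normalizer (D : Set G)))
      · -- the class is a Brauer image
        have hS' := sylC_of_normalizer hS
        have h2 := induced_brF hM hDp hDN le_rfl hind hξ hχ (classSum_mem_center (c : G)) (locA_classSum (c : G))
        have h3 := induced_brF hM hDp hDN le_rfl hind' hξ' hχ (classSum_mem_center (c : G)) (locA_classSum (c : G))
        rw [brF_apply, brH_classSum hS', omega_classSum ξ.2.isClassFunction] at h2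
        rw [brF_apply, brH_classSum hS', omega_classSum ξ'.2.isClassFunction] at h3
        exact idl_sub_trans h2 (idl_sub_symm h3)
      · -- both central characters vanish
        have key : ∀ {β : Set (IrrCharacter (Subgroup.normalizer (D : Set G)))}, IsPBlock M β →
            IsDefectGroup p M β (D.subgroupOf (Subgroup.normalizer (D : Set G))) → ∀ {θ}, θ ∈ β →
            MemLocalIdeal M (centralChar (θ : _ → ℂ) c) := by
          intro β hβ hβD θ hθ
          by_contra hn
          apply hS
          obtain ⟨x, Q, hQ, hQD⟩ := hle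
          obtain ⟨y, hy⟩ := minmax_omega hM hβ hβD ⟨θ, hθ, hn⟩ hQ
          haveI hnorm : (D.subgroupOf (Subgroup.normalizer (D : Set G))).Normal := Subgroup.normal_in_normalizer
          have h4 : ∀ t : Subgroup.normalizer (D : Set G),
              (D.subgroupOf (Subgroup.normalizer (D : Set G))).map (MulAut.conj t).toMonoidHom =
              D.subgroupOf (Subgroup.normalizer (D : Set G)) := by
            intro t
            ext s
            rw [BlockDefect.mem_map_conj]
            constructor
            · intro h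
              have := hnorm.conj_mem _ h t
              simpa [mul_assoc] using this
            · intro h
              have := hnorm.conj_mem _ h t⁻¹
              simpa [mul_assoc] using this
          rw [h4] at hQD
          have h5 : Q = D.subgroupOf (Subgroup.normalizer (D : Set G)) := by
            apply Subgroup.eq_of_le_of_card_ge hQD
            rw [← BlockDefect.card_map_conj Q y]
            exact Subgroup.card_le_of_le hy
          rw [← h5]
          exact hQ
        exact idl_sub (key hind.1 hD hξ) (key hind'.1 hD' hξ')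
  rw [omega_eB_mem hξ] at h1
  by_contra hne
  have h2 : ξ' ∉ b := fun h => hne (block_eq_of_mem hind.1 hind'.1 h hξ')
  rw [omega_eB_not_mem h2, sub_zero] at h1
  exact one_not_idl h1

end Cfsg.Agent.Lib.BlockFirst
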