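import Cfsg.Agent.Lib.BlockCover2
import Cfsg.Agent.Lib.BlockIndPart
import Cfsg.Agent.Lib.CliffordCorr

/-!
# The Fong-Reynolds correspondence
-/

set_option autoImplicit false
set_option linter.all false

namespace Cfsg.Agent.Lib.BlockFong

open Cfsg Cfsg.Agent.Lib.BlockRing Cfsg.Agent.Lib.BlockGA Cfsg.Agent.Lib.BlockIdem
open Cfsg.Agent.Lib.CharBasic
open Cfsg.Agent.Lib.BlockRes (resH coeff_resH locA_resH)
open Cfsg.Agent.Lib.BlockSecond (incH coeff_incH_coe coeff_incH_of_not_mem lin_incH locA_incH)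
open Cfsg.Agent.Lib.Clifford Cfsg.Agent.Lib.CliffordCorr Cfsg.Agent.Lib.BlockCover
open Cfsg.Agent.Lib.IndFun (extendByZero_mem extendByZero_coe sum_extendByZero_mul)
open scoped ComplexConjugate

universe u

variable {G : Type u} [Group G]

/-! ### relative trace -/

section trace

variable [Finite G] {M : Ideal AlgInt}

/-- relative trace from `T` to `G`. -/
noncomputable def trT (T : Subgroup G) [Fintype (G ⧸ T)] (X : GA G) : GA G :=
  ∑ q : G ⧸ T, MonoidAlgebra.single q.out (1 : ℂ) * X * MonoidAlgebra.single (q.out)⁻¹ 1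

theorem locA_trT [M.IsPrime] (T : Subgroup G) [Fintype (G ⧸ T)] {X : GA G} (hX : LocA M X) :
    LocA M (trT T X) :=
  locA_sum fun _ _ => locA_mul (locA_mul (locA_single loc_one) hX) (locA_single loc_one)

theorem lin_trT (T : Subgroup G) [Fintype (G ⧸ T)] {χ : G → ℂ} (hχ : IsClassFunction G χ) (X : GA G) :
    lin χ (trT T X) = (T.index : ℂ) * lin χ X := by
  rw [trT, lin_sum]
  have h1 : ∀ q : G ⧸ T, lin χ (MonoidAlgebra.single q.out (1 : ℂ) * X * MonoidAlgebra.single (q.out)⁻¹ 1) =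
      lin χ X := by
    intro q
    rw [lin_mul_comm hχ, ← mul_assoc, MonoidAlgebra.single_mul_single, inv_mul_cancel, mul_one,
      ← MonoidAlgebra.one_def, one_mul]
  rw [Finset.sum_congr rfl (fun q _ => h1 q), Finset.sum_const, nsmul_eq_mul, Finset.card_univ,
    Subgroup.index, Nat.card_eq_fintype_card]

theorem trT_mem_center (T : Subgroup G) [Fintype (G ⧸ T)] {X : GA G}
    (hX : ∀ t ∈ T, MonoidAlgebra.single t (1 : ℂ) * X = X * MonoidAlgebra.single t 1) :
    trT T X ∈ Subalgebra.center ℂ (GA G) := by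
  have key : ∀ g : G, MonoidAlgebra.single g (1 : ℂ) * trT T X = trT T X * MonoidAlgebra.single g 1 := by
    intro g
    rw [trT, Finset.mul_sum, Finset.sum_mul]
    refine Fintype.sum_equiv (MulAction.toPerm g) _ _ fun q => ?_
    show _ = MonoidAlgebra.single (g • q).out (1 : ℂ) * X * MonoidAlgebra.single ((g • q).out)⁻¹ 1 *
      MonoidAlgebra.single g 1
    have ht : ((g • q).out)⁻¹ * (g * q.out) ∈ T := by
      rw [← QuotientGroup.eq]
      have h1 : (((g • q).out : G) : G ⧸ T) = g • q := QuotientGroup.out_eq' _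
      have h2 : ((g * q.out : G) : G ⧸ T) = g • q := by
        conv_rhs => rw [← QuotientGroup.out_eq' q]
        rfl
      rw [h1, h2]
    set t := ((g • q).out)⁻¹ * (g * q.out) with htdef
    have h3 : g * q.out = (g • q).out * t := by rw [htdef]; group
    have h4 : ((g • q).out)⁻¹ * g = t * (q.out)⁻¹ := by rw [htdef]; group
    have h5 : (MonoidAlgebra.single (g * q.out) (1 : ℂ) : GA G) =
        MonoidAlgebra.single (g • q).out 1 * MonoidAlgebra.single t 1 := by
      rw [MonoidAlgebra.single_mul_single, mul_one, h3]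
    calc MonoidAlgebra.single g (1 : ℂ) * (MonoidAlgebra.single q.out 1 * X * MonoidAlgebra.single (q.out)⁻¹ 1)
        = MonoidAlgebra.single (g * q.out) 1 * X * MonoidAlgebra.single (q.out)⁻¹ 1 := by
          rw [← mul_assoc, ← mul_assoc, MonoidAlgebra.single_mul_single, mul_one]
      _ = MonoidAlgebra.single (g • q).out 1 * (MonoidAlgebra.single t 1 * X) *
            MonoidAlgebra.single (q.out)⁻¹ 1 := by
          rw [h5, mul_assoc (MonoidAlgebra.single (g • q).out (1 : ℂ))]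
      _ = MonoidAlgebra.single (g • q).out 1 * X * (MonoidAlgebra.single t 1 *
            MonoidAlgebra.single (q.out)⁻¹ 1) := by
          rw [hX t ht]; simp only [mul_assoc]
      _ = _ := by
          rw [mul_assoc _ (MonoidAlgebra.single ((g • q).out)⁻¹ 1), MonoidAlgebra.single_mul_single,
            MonoidAlgebra.single_mul_single, mul_one, h4]
  rw [Subalgebra.mem_center_iff]
  intro w
  induction w using MonoidAlgebra.induction_linear with
  | zero => simp
  | add a b ha hb => rw [add_mul, mul_add, ha, hb]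
  | single g a =>
    have h1 : (MonoidAlgebra.single g a : GA G) = a • MonoidAlgebra.single g 1 := by simp
    rw [h1, smul_mul_assoc, mul_smul_comm, key]

end trace

/-! ### a block of a normal subgroup and its stabilizer -/

section stab

variable {N : Subgroup G} [hN : N.Normal]

/-- `T` is the stabilizer of the set `b` of characters of `N`, whose conjugates are disjoint. -/
structure Stab (b : Set (IrrCharacter N)) (T : Subgroup G) : Prop where
  hNT : N ≤ T
  stab : ∀ θ ∈ b, ∀ g : G, (cjEquiv g θ ∈ b ↔ g ∈ T)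

/-- The `b`-part of the degree. -/
noncomputable def nb [Finite N] (b : Set (IrrCharacter N)) (f : N → ℂ) : ℂ := lin f (eB b)

theorem nb_add [Finite N] (b : Set (IrrCharacter N)) (f f' : N → ℂ) : nb b (f + f') = nb b f + nb b f' :=
  lin_add_left _ _ _

theorem nb_nat [Finite N] (b : Set (IrrCharacter N)) {f : N → ℂ} (hf : IsCharacter N f) :
    ∃ n : ℕ, nb b f = (n : ℂ) := by
  classical
  have := Fintype.ofFinite N
  rw [nb, lin_eB]
  choose m hm using fun θ : IrrCharacter N => hf.classInner_nat θ.2.isCharacter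
  refine ⟨∑ θ : IrrCharacter N, if θ ∈ b then charDegree (θ : N → ℂ) * m θ else 0, ?_⟩
  push_cast
  refine Finset.sum_congr rfl fun θ _ => ?_
  rw [hm, (BlockDefect.charDegree_spec θ.2).1]

theorem nb_eq_one [Fintype N] (b : Set (IrrCharacter N)) {f : N → ℂ} (hf : IsCharacter N f)
    (h : ∀ θ : IrrCharacter N, classInner f (θ : N → ℂ) ≠ 0 → θ ∈ b) : nb b f = f 1 := by
  classical
  rw [nb, lin_eB, hf.isClassFunction.expansion_apply 1]
  refine Finset.sum_congr rfl fun θ _ => ?_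
  by_cases h1 : θ ∈ b
  · rw [if_pos h1, mul_comm]
  · rw [if_neg h1]
    have : classInner f (θ : N → ℂ) = 0 := by
      by_contra h2
      exact h1 (h θ h2)
    rw [this, zero_mul]

theorem nb_eq_zero [Fintype N] (b : Set (IrrCharacter N)) {f : N → ℂ}
    (h : ∀ θ ∈ b, classInner f (θ : N → ℂ) = 0) : nb b f = 0 := by
  classical
  rw [nb, lin_eB]
  refine Finset.sum_eq_zero fun θ _ => ?_
  split_ifs with h1
  · rw [h θ h1, mul_zero]
  · rfl

theorem nb_ne_zero_iff [Fintype N] (b : Set (IrrCharacter N)) {f : N → ℂ} (hf : IsCharacter N f) :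
    nb b f ≠ 0 ↔ ∃ θ ∈ b, classInner f (θ : N → ℂ) ≠ 0 := by
  classical
  constructor
  · intro h
    by_contra hno
    push Not at hno
    exact h (nb_eq_zero b hno)
  · rintro ⟨θ, hθ, h1⟩
    rw [nb, lin_eB]
    choose m hm using fun θ : IrrCharacter N => hf.classInner_nat θ.2.isCharacter
    have h2 : (∑ θ : IrrCharacter N, if θ ∈ b then (θ : N → ℂ) 1 * classInner f (θ : N → ℂ) else 0) =
        ((∑ θ : IrrCharacter N, if θ ∈ b then charDegree (θ : N → ℂ) * m θ else 0 : ℕ) : ℂ) := by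
      push_cast
      refine Finset.sum_congr rfl fun θ _ => ?_
      rw [hm, (BlockDefect.charDegree_spec θ.2).1]
    rw [h2, Nat.cast_ne_zero, ← Nat.pos_iff_ne_zero]
    apply Finset.sum_pos'
    · intro i _; exact Nat.zero_le _
    · refine ⟨θ, Finset.mem_univ _, ?_⟩
      rw [if_pos hθ]
      refine Nat.mul_pos (Nat.pos_of_ne_zero (BlockDefect.charDegree_spec θ.2).2) ?_
      rw [Nat.pos_iff_ne_zero]
      intro h3
      apply h1
      rw [hm, h3, Nat.cast_zero]

variable {b : Set (IrrCharacter N)} {T : Subgroup G}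

theorem Stab.mem_iff (hs : Stab b T) {t : G} (ht : t ∈ T) (θ : IrrCharacter N) :
    cjEquiv t θ ∈ b ↔ θ ∈ b := by
  constructor
  · intro h
    have h1 := (hs.stab _ h t⁻¹).2 (T.inv_mem ht)
    have h2 : cjEquiv t⁻¹ (cjEquiv t θ) = θ := Subtype.ext (cj_inv_cj t _)
    rwa [h2] at h1
  · intro h
    exact (hs.stab θ h t).2 ht

/-- `|G| nb(χ_N) = |T| χ(1)` for `χ` over `b`. -/
theorem card_mul_nb [Fintype G] [Fintype N] (hs : Stab b T) {χ : IrrCharacter G}
    (hχ : ∃ θ ∈ b, classInner (fun n : N => (χ : G → ℂ) n) (θ : N → ℂ) ≠ 0) :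
    (Nat.card G : ℂ) * nb b (fun n : N => (χ : G → ℂ) n) = (Nat.card T : ℂ) * (χ : G → ℂ) 1 := by
  classical
  obtain ⟨θ₀, hθ₀, h0⟩ := hχ
  have h1 : ∀ g : G, nb b (fun n : N => (χ : G → ℂ) n) =
      ∑ θ : IrrCharacter N, if cjEquiv g θ ∈ b then
        (θ : N → ℂ) 1 * classInner (fun n : N => (χ : G → ℂ) n) (θ : N → ℂ) else 0 := by
    intro g
    rw [nb, lin_eB, ← Equiv.sum_comp (cjEquiv g)]
    refine Finset.sum_congr rfl fun θ _ => ?_
    split_ifs
    · rw [cjEquiv_coe, classInner_cj_res χ.2.isClassFunction]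
      congr 1
      rw [cj_apply]
      exact congrArg (θ : N → ℂ) (Subtype.ext (by simp))
    · rfl
  have h2 : (Nat.card G : ℂ) * nb b (fun n : N => (χ : G → ℂ) n) =
      ∑ g : G, ∑ θ : IrrCharacter N, if cjEquiv g θ ∈ b then
        (θ : N → ℂ) 1 * classInner (fun n : N => (χ : G → ℂ) n) (θ : N → ℂ) else 0 := by
    rw [Finset.sum_congr rfl (fun g _ => (h1 g).symm), Finset.sum_const, nsmul_eq_mul,
      Finset.card_univ, Nat.card_eq_fintype_card]
  rw [h2, Finset.sum_comm]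
  have h3 := (χ.2.isCharacter.restrict N).isClassFunction.expansion_apply 1
  have h4 : (χ : G → ℂ) 1 = ∑ θ : IrrCharacter N,
      classInner (fun n : N => (χ : G → ℂ) n) (θ : N → ℂ) * (θ : N → ℂ) 1 := h3
  rw [h4, Finset.mul_sum]
  refine Finset.sum_congr rfl fun θ _ => ?_
  by_cases h5 : classInner (fun n : N => (χ : G → ℂ) n) (θ : N → ℂ) = 0
  · rw [h5]; simp
  · obtain ⟨x, hx⟩ := exists_cj_eq χ.2 θ₀.2 θ.2 h0 h5
    have h6 : ∀ g : G, cjEquiv g θ ∈ b ↔ x * g ∈ T := by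
      intro g
      have h7 : cjEquiv g θ = cjEquiv (x * g) θ₀ := by
        apply Subtype.ext
        rw [cjEquiv_coe, cjEquiv_coe, hx, cj_cj]
      rw [h7]
      exact hs.stab θ₀ hθ₀ _
    simp only [h6]
    rw [← Finset.sum_filter, Finset.sum_const, nsmul_eq_mul]
    have h8 : (Finset.univ.filter (fun g : G => x * g ∈ T)).card = Nat.card T := by
      rw [Nat.card_eq_fintype_card, Fintype.card_subtype]
      refine Finset.card_bij (fun g _ => x * g) ?_ ?_ ?_
      · intro g hg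
        simpa using hg
      · intro a _ c _ h
        exact mul_left_cancel h
      · intro y hy
        refine ⟨x⁻¹ * y, ?_, by group⟩
        simpa using hy
    rw [h8]
    ring

/-- Clifford's theorem inside `T`. -/
theorem exists_cj_eq_T [Fintype G] [Fintype N] (hNT : N ≤ T) {ψ : T → ℂ} (hψ : IsIrrCharacter T ψ)
    {θ φ : N → ℂ} (hθ : IsIrrCharacter N θ) (hφ : IsIrrCharacter N φ)
    (h1 : classInner (resTo N T hNT ψ) θ ≠ 0) (h2 : classInner (resTo N T hNT ψ) φ ≠ 0) :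
    ∃ t ∈ T, φ = cj N t θ := by
  classical
  have := Fintype.ofFinite T
  have := Fintype.ofFinite (N.subgroupOf T)
  have hθ' : IsIrrCharacter (N.subgroupOf T) (fun x => θ (subEquiv N T hNT x)) :=
    (isIrrCharacter_comp_mulEquiv_iff (subEquiv N T hNT)).mpr hθ
  have hφ' : IsIrrCharacter (N.subgroupOf T) (fun x => φ (subEquiv N T hNT x)) :=
    (isIrrCharacter_comp_mulEquiv_iff (subEquiv N T hNT)).mpr hφ
  rw [← classInner_resTo T hNT] at h1 h2
  obtain ⟨t, ht⟩ := exists_cj_eq hψ hθ' hφ' h1 h2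
  refine ⟨t, t.2, ?_⟩
  funext n
  have h3 := congrFun ht ((subEquiv N T hNT).symm n)
  simp only [MulEquiv.apply_symm_apply] at h3
  rw [h3, cj_apply, cj_apply]
  congr 1

theorem resTo_one (hNT : N ≤ T) (ψ : T → ℂ) : resTo N T hNT ψ 1 = ψ 1 := rfl

theorem resTo_add (hNT : N ≤ T) (ψ c : T → ℂ) :
    resTo N T hNT (ψ + c) = resTo N T hNT ψ + resTo N T hNT c := rfl

theorem mem_of_over [Fintype G] [Fintype N] (hs : Stab b T) {ψ : T → ℂ} (hψ : IsIrrCharacter T ψ)
    (h : ∃ θ ∈ b, classInner (resTo N T hs.hNT ψ) (θ : N → ℂ) ≠ 0) {φ : IrrCharacter N}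
    (hφ : classInner (resTo N T hs.hNT ψ) (φ : N → ℂ) ≠ 0) : φ ∈ b := by
  obtain ⟨θ, hθ, h1⟩ := h
  obtain ⟨t, ht, h2⟩ := exists_cj_eq_T hs.hNT hψ θ.2 φ.2 h1 hφ
  have h3 : φ = cjEquiv t θ := Subtype.ext h2
  rw [h3]
  exact (hs.stab θ hθ t).2 ht

theorem nbT_eq [Fintype G] [Fintype N] (hs : Stab b T) {ψ : T → ℂ} (hψ : IsIrrCharacter T ψ)
    (h : ∃ θ ∈ b, classInner (resTo N T hs.hNT ψ) (θ : N → ℂ) ≠ 0) :
    nb b (resTo N T hs.hNT ψ) = ψ 1 := by
  rw [nb_eq_one b (isCharacter_resTo hs.hNT hψ.isCharacter) (fun θ hθ => mem_of_over hs hψ h hθ)]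
  rfl

/-- The key degree comparison. -/
theorem ind_key [Fintype G] [Fintype N] (hs : Stab b T) {ψ : IrrCharacter T}
    (h1 : ∃ θ ∈ b, classInner (resTo N T hs.hNT (ψ : T → ℂ)) (θ : N → ℂ) ≠ 0) {χ : IrrCharacter G}
    (h2 : classInner (indFun T (ψ : T → ℂ)) (χ : G → ℂ) ≠ 0) :
    indFun T (ψ : T → ℂ) = (χ : G → ℂ) ∧ ∃ c : T → ℂ, IsCharacter T c ∧
      (fun t : T => (χ : G → ℂ) t) = (ψ : T → ℂ) + c ∧ nb b (resTo N T hs.hNT c) = 0 := by
  classical
  have := Fintype.ofFinite T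
  have h3 : classInner (fun t : T => (χ : G → ℂ) t) (ψ : T → ℂ) ≠ 0 := by
    rw [← IndFun.frobenius_reciprocity' T (ψ : T → ℂ) χ χ.2.isClassFunction]
    exact fun h => h2 (by rw [← conj_classInner, h, map_zero])
  obtain ⟨c, hc, hc'⟩ := Clifford.degree_le_of_constituent (χ.2.isCharacter.restrict T) ψ.2 h3
  have h4 : (fun n : N => (χ : G → ℂ) n) = resTo N T hs.hNT (ψ : T → ℂ) + resTo N T hs.hNT c := by
    funext n
    exact congrFun hc' ⟨(n : G), hs.hNT n.2⟩
  obtain ⟨k, hk⟩ := nb_nat b (isCharacter_resTo hs.hNT hc)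
  obtain ⟨m, hm0, hm⟩ := ψ.2.exists_degree
  obtain ⟨n, hn0, hn⟩ := χ.2.exists_degree
  have h5 : nb b (fun n : N => (χ : G → ℂ) n) = ((m + k : ℕ) : ℂ) := by
    rw [h4, nb_add, nbT_eq hs ψ.2 h1, hk, hm]; push_cast; rfl
  have h6 : ∃ θ ∈ b, classInner (fun n : N => (χ : G → ℂ) n) (θ : N → ℂ) ≠ 0 := by
    rw [← nb_ne_zero_iff b (χ.2.isCharacter.restrict N), h5, Nat.cast_ne_zero]
    omega
  have h7 := card_mul_nb hs h6
  rw [h5, hn] at h7
  have h8 : Nat.card G * (m + k) = Nat.card T * n := by exact_mod_cast h7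
  rw [← T.card_mul_index, mul_assoc] at h8
  have h9 : T.index * (m + k) = n := Nat.eq_of_mul_eq_mul_left Nat.card_pos h8
  have h10 : indFun T (ψ : T → ℂ) 1 = ((T.index * m : ℕ) : ℂ) := by
    rw [IndFun.indFun_one, hm]; push_cast; rfl
  have h11 := degree_le_of_constituent' (isCharacter_indFun T ψ.2.isCharacter) χ.2 h2 h10 hn
  have hidx : 0 < T.index := Nat.pos_of_ne_zero Subgroup.index_ne_zero_of_finite
  have hk0 : k = 0 := by
    have h12 := h11.1
    rw [← h9] at h12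
    have h13 := Nat.le_of_mul_le_mul_left h12 hidx
    omega
  refine ⟨h11.2 ?_, c, hc, hc', ?_⟩
  · rw [← h9, hk0, add_zero]
  · rw [hk, hk0, Nat.cast_zero]

/-- Characters of `T` over `b` induce irreducibly. -/
theorem ind_irr [Fintype G] [Fintype N] (hs : Stab b T) {ψ : IrrCharacter T}
    (h1 : ∃ θ ∈ b, classInner (resTo N T hs.hNT (ψ : T → ℂ)) (θ : N → ℂ) ≠ 0) :
    IsIrrCharacter G (indFun T (ψ : T → ℂ)) := by
  have h0 : indFun T (ψ : T → ℂ) ≠ 0 := by
    intro h
    have h2 := IndFun.indFun_one T (ψ : T → ℂ)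
    rw [h] at h2
    have h3 : (T.index : ℂ) * (ψ : T → ℂ) 1 ≠ 0 :=
      mul_ne_zero (by exact_mod_cast Subgroup.index_ne_zero_of_finite) ψ.2.one_ne_zero
    exact h3 h2.symm
  obtain ⟨χ, hχ⟩ := Clifford.exists_constituent (isCharacter_indFun T ψ.2.isCharacter) h0
  rw [(ind_key hs h1 hχ).1]
  exact χ.2

theorem ind_over [Fintype G] [Fintype N] (hs : Stab b T) {ψ : IrrCharacter T}
    (h1 : ∃ θ ∈ b, classInner (resTo N T hs.hNT (ψ : T → ℂ)) (θ : N → ℂ) ≠ 0) {χ : IrrCharacter G}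
    (h2 : (χ : G → ℂ) = indFun T (ψ : T → ℂ)) :
    ∃ θ ∈ b, classInner (fun n : N => (χ : G → ℂ) n) (θ : N → ℂ) ≠ 0 := by
  classical
  have := Fintype.ofFinite T
  have h3 : classInner (indFun T (ψ : T → ℂ)) (χ : G → ℂ) ≠ 0 := by
    rw [← h2, χ.2.classInner_self]; exact one_ne_zero
  obtain ⟨-, c, hc, hc', h0⟩ := ind_key hs h1 h3
  have h4 : (fun n : N => (χ : G → ℂ) n) = resTo N T hs.hNT (ψ : T → ℂ) + resTo N T hs.hNT c := by
    funext n
    exact congrFun hc' ⟨(n : G), hs.hNT n.2⟩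
  rw [← nb_ne_zero_iff b (χ.2.isCharacter.restrict N), h4, nb_add, h0, add_zero, nbT_eq hs ψ.2 h1]
  exact ψ.2.one_ne_zero

theorem ind_surj [Fintype G] [Fintype N] (hs : Stab b T) {χ : IrrCharacter G}
    (h : ∃ θ ∈ b, classInner (fun n : N => (χ : G → ℂ) n) (θ : N → ℂ) ≠ 0) :
    ∃ ψ : IrrCharacter T, (∃ θ ∈ b, classInner (resTo N T hs.hNT (ψ : T → ℂ)) (θ : N → ℂ) ≠ 0) ∧
      (χ : G → ℂ) = indFun T (ψ : T → ℂ) := by
  classical
  have := Fintype.ofFinite T
  obtain ⟨θ, hθ, h1⟩ := h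
  have hres := χ.2.isCharacter.restrict T
  have h2 : ∃ ψ : IrrCharacter T, classInner (fun t : T => (χ : G → ℂ) t) (ψ : T → ℂ) ≠ 0 ∧
      classInner (resTo N T hs.hNT (ψ : T → ℂ)) (θ : N → ℂ) ≠ 0 := by
    by_contra hno
    push Not at hno
    apply h1
    have h3 : (fun n : N => (χ : G → ℂ) n) = ∑ ψ : IrrCharacter T,
        classInner (fun t : T => (χ : G → ℂ) t) (ψ : T → ℂ) • resTo N T hs.hNT (ψ : T → ℂ) := by
      funext n
      have h4 := congrFun hres.isClassFunction.expansion ⟨(n : G), hs.hNT n.2⟩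
      simp only [Finset.sum_apply, Pi.smul_apply] at h4 ⊢
      exact h4
    rw [h3, classInner_sum_left]
    apply Finset.sum_eq_zero
    intro ψ _
    rw [classInner_smul_left]
    by_cases h5 : classInner (fun t : T => (χ : G → ℂ) t) (ψ : T → ℂ) = 0
    · rw [h5, zero_mul]
    · rw [hno ψ h5, mul_zero]
  obtain ⟨ψ, h3, h4⟩ := h2
  have h5 : classInner (indFun T (ψ : T → ℂ)) (χ : G → ℂ) ≠ 0 := by
    rw [IndFun.frobenius_reciprocity T _ χ χ.2.isClassFunction, ← conj_classInner]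
    exact (map_ne_zero _).mpr h3
  exact ⟨ψ, ⟨θ, hθ, h4⟩, (ind_key hs ⟨θ, hθ, h4⟩ h5).1.symm⟩

theorem ind_inj [Fintype G] [Fintype N] (hs : Stab b T) {ψ ψ' : IrrCharacter T}
    (h1 : ∃ θ ∈ b, classInner (resTo N T hs.hNT (ψ : T → ℂ)) (θ : N → ℂ) ≠ 0)
    (h1' : ∃ θ ∈ b, classInner (resTo N T hs.hNT (ψ' : T → ℂ)) (θ : N → ℂ) ≠ 0)
    {χ : IrrCharacter G} (h2 : (χ : G → ℂ) = indFun T (ψ : T → ℂ))
    (h2' : classInner (indFun T (ψ' : T → ℂ)) (χ : G → ℂ) ≠ 0) : ψ = ψ' := by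
  classical
  have := Fintype.ofFinite T
  by_contra hne
  have h3 : classInner (indFun T (ψ : T → ℂ)) (χ : G → ℂ) ≠ 0 := by
    rw [← h2, χ.2.classInner_self]; exact one_ne_zero
  obtain ⟨-, c, hc, hc', h0⟩ := ind_key hs h1 h3
  have h4 : classInner (fun t : T => (χ : G → ℂ) t) (ψ' : T → ℂ) ≠ 0 := by
    rw [← IndFun.frobenius_reciprocity' T (ψ' : T → ℂ) χ χ.2.isClassFunction]
    exact fun h => h2' (by rw [← conj_classInner, h, map_zero])
  have h5 : classInner c (ψ' : T → ℂ) ≠ 0 := by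
    rw [hc', classInner_add_left, ψ.2.classInner_eq_zero ψ'.2 (fun h => hne (Subtype.ext h)),
      zero_add] at h4
    exact h4
  obtain ⟨d, hd, hd'⟩ := Clifford.degree_le_of_constituent hc ψ'.2 h5
  rw [hd', resTo_add, nb_add, nbT_eq hs ψ'.2 h1'] at h0
  obtain ⟨k, hk⟩ := nb_nat b (isCharacter_resTo hs.hNT hd)
  obtain ⟨m, hm0, hm⟩ := ψ'.2.exists_degree
  rw [hk, hm, ← Nat.cast_add, Nat.cast_eq_zero] at h0
  omega

/-! ### central characters -/

/-- the idempotent of `b` in `ℂ[T]` -/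
noncomputable def ET [Finite G] (b : Set (IrrCharacter N)) (T : Subgroup G) : GA T := resH T (incH N (eB b))

theorem coeff_ET_mem [Finite G] (hNT : N ≤ T) (n : N) :
    (ET b T).coeff ⟨(n : G), hNT n.2⟩ = blockCoeff b n := by
  rw [ET, coeff_resH]
  exact coeff_incH_coe (eB b) n

theorem coeff_ET_not_mem [Finite G] {t : T} (ht : (t : G) ∉ N) : (ET b T).coeff t = 0 := by
  rw [ET, coeff_resH]
  exact coeff_incH_of_not_mem _ ht

theorem incH_ET [Finite G] (hNT : N ≤ T) : incH T (ET b T) = incH N (eB b) :=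
  incH_resH_of_support (fun _ hg => coeff_incH_of_not_mem _ (fun h => hg (hNT h)))

theorem blockCoeff_cj [Finite G] (hs : Stab b T) {t : G} (ht : t ∈ T) (n : N) :
    blockCoeff b ⟨t * n * t⁻¹, hN.conj_mem (n : G) n.2 t⟩ = blockCoeff b n := by
  classical
  rw [blockCoeff_eq_sum', blockCoeff_eq_sum']
  congr 1
  symm
  rw [← Equiv.sum_comp (cjEquiv t)]
  refine Finset.sum_congr rfl fun θ _ => ?_
  have h1 := hs.mem_iff ht θ
  by_cases h2 : θ ∈ b
  · have h3 : ((cjEquiv t θ : IrrCharacter N) : N → ℂ) 1 = (θ : N → ℂ) 1 := by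
      rw [cjEquiv_coe, cj_apply]
      exact congrArg (θ : N → ℂ) (Subtype.ext (by simp))
    have h4 : ((cjEquiv t θ : IrrCharacter N) : N → ℂ) n = (θ : N → ℂ) ⟨t * n * t⁻¹, hN.conj_mem (n : G) n.2 t⟩ := by
      rw [cjEquiv_coe, cj_apply]
    rw [if_pos h2, if_pos (h1.2 h2), h3, h4]
  · rw [if_neg h2, if_neg (fun h => h2 (h1.1 h))]

theorem ET_mem_center [Finite G] (hs : Stab b T) : ET b T ∈ Subalgebra.center ℂ (GA T) := by
  rw [mem_center_iff]
  intro x t
  by_cases hx : (x : G) ∈ N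
  · have hx' : x = ⟨((⟨x, hx⟩ : N) : G), hs.hNT hx⟩ := rfl
    have h1 := coeff_ET_mem (b := b) hs.hNT ⟨x, hx⟩
    have h2 := coeff_ET_mem (b := b) hs.hNT ⟨t * x * (t : G)⁻¹, hN.conj_mem x hx t⟩
    have h3 := blockCoeff_cj hs t.2 ⟨x, hx⟩
    show (ET b T).coeff (t * x * t⁻¹) = (ET b T).coeff x
    rw [show (ET b T).coeff x = blockCoeff b ⟨x, hx⟩ from h1, ← h3]
    exact h2
  · have hx' : ((t * x * t⁻¹ : T) : G) ∉ N := fun h => hx (by
      have := hN.conj_mem _ h (t : G)⁻¹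
      simpa [mul_assoc] using this)
    show (ET b T).coeff (t * x * t⁻¹) = (ET b T).coeff x
    rw [coeff_ET_not_mem hx, coeff_ET_not_mem hx']

theorem lin_ET [Finite G] (hNT : N ≤ T) (f : T → ℂ) : lin f (ET b T) = nb b (resTo N T hNT f) := by
  classical
  have := Fintype.ofFinite G
  have := Fintype.ofFinite T
  have h1 : lin f (ET b T) = lin (extendByZero T f) (incH N (eB b)) := by
    rw [lin_apply, lin_apply]
    have h2 := sum_extendByZero_mul T f (fun g => (incH N (eB b)).coeff g)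
    have h3 : ∑ g : G, (incH N (eB b)).coeff g * extendByZero T f g =
        ∑ g : G, extendByZero T f g * (incH N (eB b)).coeff g :=
      Finset.sum_congr rfl fun g _ => mul_comm _ _
    rw [h3, h2]
    exact Finset.sum_congr rfl fun g _ => by rw [ET, coeff_resH, mul_comm]
  rw [h1, lin_incH, nb]
  congr 1
  funext n
  exact extendByZero_mem T f (hNT n.2)

theorem omega_ET [Fintype G] [Fintype N] (hs : Stab b T) {ψ : IrrCharacter T}
    (h : ∃ θ ∈ b, classInner (resTo N T hs.hNT (ψ : T → ℂ)) (θ : N → ℂ) ≠ 0) :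
    omega (ψ : T → ℂ) (ET b T) = 1 := by
  rw [omega, lin_ET hs.hNT, nbT_eq hs ψ.2 h, div_self ψ.2.one_ne_zero]

theorem omega_ET_not [Fintype G] [Fintype N] (hs : Stab b T) {ψ : IrrCharacter T}
    (h : ¬ ∃ θ ∈ b, classInner (resTo N T hs.hNT (ψ : T → ℂ)) (θ : N → ℂ) ≠ 0) :
    omega (ψ : T → ℂ) (ET b T) = 0 := by
  push Not at h
  rw [omega, lin_ET hs.hNT, nb_eq_zero b h, zero_div]

/-- The lift of a central element of `ℂ[T]` to a central element of `ℂ[G]`. -/
noncomputable def lift [Finite G] (b : Set (IrrCharacter N)) (T : Subgroup G) [Fintype (G ⧸ T)] (w : GA T) : GA G :=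
  trT T (incH T (w * ET b T))

theorem lift_mem_center [Finite G] (hs : Stab b T) [Fintype (G ⧸ T)] {w : GA T}
    (hw : w ∈ Subalgebra.center ℂ (GA T)) : lift b T w ∈ Subalgebra.center ℂ (GA G) := by
  apply trT_mem_center
  intro t ht
  have h1 := center_comm (Subalgebra.mul_mem _ hw (ET_mem_center hs)) (MonoidAlgebra.single (⟨t, ht⟩ : T) 1)
  have h2 := congrArg (incH T) h1
  have h3 := BlockSecond.incH_single (H := T) (⟨t, ht⟩ : T) (1 : ℂ)
  rw [map_mul (incH T) (w * ET b T), map_mul (incH T) (MonoidAlgebra.single _ _), h3] at h2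
  exact h2.symm

theorem locA_lift [Finite G] {M : Ideal AlgInt} [M.IsPrime] (hb : LocA M (eB b)) [Fintype (G ⧸ T)] {w : GA T}
    (hl : LocA M w) : LocA M (lift b T w) :=
  locA_trT T (locA_incH (locA_mul hl (locA_resH (locA_incH hb))))

theorem omega_lift [Fintype G] [Fintype N] (hs : Stab b T) [Fintype (G ⧸ T)] {ψ : IrrCharacter T}
    (h1 : ∃ θ ∈ b, classInner (resTo N T hs.hNT (ψ : T → ℂ)) (θ : N → ℂ) ≠ 0)
    {χ : IrrCharacter G} (h2 : (χ : G → ℂ) = indFun T (ψ : T → ℂ)) {w : GA T}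
    (hw : w ∈ Subalgebra.center ℂ (GA T)) :
    omega (χ : G → ℂ) (lift b T w) = omega (ψ : T → ℂ) w := by
  classical
  have := Fintype.ofFinite T
  have h3 : classInner (indFun T (ψ : T → ℂ)) (χ : G → ℂ) = 1 := by
    rw [← h2, χ.2.classInner_self]
  have hexp := (χ.2.isCharacter.restrict T).isClassFunction.expansion
  have h4 : lin (fun t : T => (χ : G → ℂ) t) (w * ET b T) = (ψ : T → ℂ) 1 * omega (ψ : T → ℂ) w := by
    rw [hexp, lin_sum_left, Finset.sum_eq_single ψ]
    · rw [lin_smul_left]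
      have h5 : classInner (fun t : T => (χ : G → ℂ) t) (ψ : T → ℂ) = 1 := by
        rw [← IndFun.frobenius_reciprocity' T (ψ : T → ℂ) χ χ.2.isClassFunction, ← conj_classInner, h3, map_one]
      rw [h5, one_mul, lin_mul ψ.2 hw, mul_comm]
      have h6 : lin (ψ : T → ℂ) (ET b T) = (ψ : T → ℂ) 1 := by
        have := omega_ET hs h1
        rw [omega, div_eq_one_iff_eq ψ.2.one_ne_zero] at this
        exact this
      rw [h6]
    · intro ψ' _ hne
      rw [lin_smul_left, lin_mul ψ'.2 hw]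
      by_cases h5 : ∃ θ ∈ b, classInner (resTo N T hs.hNT (ψ' : T → ℂ)) (θ : N → ℂ) ≠ 0
      · have h6 : classInner (fun t : T => (χ : G → ℂ) t) (ψ' : T → ℂ) = 0 := by
          by_contra h7
          rw [← IndFun.frobenius_reciprocity' T (ψ' : T → ℂ) χ χ.2.isClassFunction] at h7
          exact hne (ind_inj hs h1 h5 h2 (fun h => h7 (by rw [← conj_classInner, h, map_zero]))).symm
        rw [h6, zero_mul]
      · have h6 : lin (ψ' : T → ℂ) (ET b T) = 0 := by
          have := omega_ET_not hs h5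
          rw [omega, div_eq_zero_iff] at this
          exact this.resolve_right ψ'.2.one_ne_zero
        rw [h6, mul_zero, mul_zero]
    · intro h; exact absurd (Finset.mem_univ _) h
  rw [omega, lift, lin_trT T χ.2.isClassFunction, lin_incH, h4]
  have h7 : (χ : G → ℂ) 1 = (T.index : ℂ) * (ψ : T → ℂ) 1 := by
    rw [h2, IndFun.indFun_one]
  rw [h7]
  have h8 : (T.index : ℂ) ≠ 0 := by exact_mod_cast Subgroup.index_ne_zero_of_finite
  have h9 := ψ.2.one_ne_zero
  field_simp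

end stab

end Cfsg.Agent.Lib.BlockFong
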