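import Cfsg.Agent.Lib.BlockFong

/-!
# The Fong-Reynolds correspondence, part 2: blocks
-/

set_option autoImplicit false
set_option linter.all false

namespace Cfsg.Agent.Lib.BlockFong

open Cfsg Cfsg.Agent.Lib.BlockRing Cfsg.Agent.Lib.BlockGA Cfsg.Agent.Lib.BlockIdem
open Cfsg.Agent.Lib.CharBasic
open Cfsg.Agent.Lib.BlockRes (resH coeff_resH locA_resH)
open Cfsg.Agent.Lib.BlockSecond (incH coeff_incH_coe coeff_incH_of_not_mem lin_incH locA_incH)
open Cfsg.Agent.Lib.Clifford Cfsg.Agent.Lib.CliffordCorr Cfsg.Agent.Lib.BlockCover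
open scoped ComplexConjugate

universe u

variable {G : Type u} [Group G] {M : Ideal AlgInt}

theorem omega_indFun [Fintype G] (T : Subgroup G) {ψ : T → ℂ} (hψ : ψ 1 ≠ 0) {z : GA G}
    (hz : z ∈ Subalgebra.center ℂ (GA G)) :
    omega (indFun T ψ) z = omega ψ (resH T z) := by
  rw [omega, BlockIndPart.lin_indFun T ψ hz, IndFun.indFun_one, omega]
  have h8 : (T.index : ℂ) ≠ 0 := by
    exact_mod_cast Subgroup.index_ne_zero_of_finite
  field_simp

section stab

variable {N : Subgroup G} [hN : N.Normal]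

/-- The stabilizer hypothesis as it appears in the statements. -/
theorem stab_of [M.IsPrime] [Finite G] {b : Set (IrrCharacter N)} (hb : IsPBlock M b) {T : Subgroup G}
    (hT : ∀ g : G, g ∈ T ↔ ∀ θ ∈ b, ∀ θ' : IrrCharacter N,
      (∀ n : N, (θ' : N → ℂ) n = (θ : N → ℂ) ⟨g * n * g⁻¹, hN.conj_mem n n.2 g⟩) → θ' ∈ b)
    (hNT : N ≤ T) : Stab b T where
  hNT := hNT
  stab := by
    intro θ hθ g
    constructor
    · intro h
      rw [hT]
      intro θ₁ hθ₁ θ' h'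
      have h1 : SameBlock M (θ : N → ℂ) (θ₁ : N → ℂ) := sameBlock_of_mem hb hθ hθ₁
      have h2 := sameBlock_cj h1 g
      have h3 : θ' = cjEquiv g θ₁ := by
        apply Subtype.ext
        funext n
        exact h' n
      rw [h3]
      exact mem_of_sameBlock hb h h2
    · intro h
      exact (hT g).1 h θ hθ _ (fun n => rfl)

variable [Fintype G] [Fintype N] {b : Set (IrrCharacter N)} {T : Subgroup G}

/-- `ψ` lies over `b`. -/
def Over (hNT : N ≤ T) (b : Set (IrrCharacter N)) (ψ : IrrCharacter T) : Prop :=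
  ∃ θ ∈ b, classInner (resTo N T hNT (ψ : T → ℂ)) (θ : N → ℂ) ≠ 0

theorem over_all [M.IsPrime] (hs : Stab b T) (hlb : LocA M (eB b)) {ψ ψ₀ : IrrCharacter T}
    (hsb : SameBlock M (ψ₀ : T → ℂ) (ψ : T → ℂ)) (h0 : Over hs.hNT b ψ₀) : Over hs.hNT b ψ := by
  by_contra h
  have h1 := sameBlock_omega ψ₀.2.isClassFunction ψ.2.isClassFunction hsb (ET_mem_center hs)
    (locA_resH (locA_incH hlb))
  rw [omega_ET hs h0, omega_ET_not hs h, sub_zero] at h1
  exact one_not_idl h1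

theorem sameBlock_ind_iff [M.IsPrime] (hs : Stab b T) (hlb : LocA M (eB b)) {ψ ψ' : IrrCharacter T}
    (h : Over hs.hNT b ψ) (h' : Over hs.hNT b ψ') {χ χ' : IrrCharacter G}
    (hχ : (χ : G → ℂ) = indFun T (ψ : T → ℂ)) (hχ' : (χ' : G → ℂ) = indFun T (ψ' : T → ℂ)) :
    SameBlock M (χ : G → ℂ) (χ' : G → ℂ) ↔ SameBlock M (ψ : T → ℂ) (ψ' : T → ℂ) := by
  classical
  have := Fintype.ofFinite (G ⧸ T)
  rw [sameBlock_iff_omega χ.2.isClassFunction χ'.2.isClassFunction,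
    sameBlock_iff_omega ψ.2.isClassFunction ψ'.2.isClassFunction]
  constructor
  · intro h1 w hw hl
    have h2 := h1 (lift b T w) (lift_mem_center hs hw) (locA_lift hlb hl)
    rwa [omega_lift hs h hχ hw, omega_lift hs h' hχ' hw] at h2
  · intro h1 z hz hl
    have h2 := h1 (resH T z) (BlockRes.resH_center hz) (locA_resH hl)
    rwa [← omega_indFun T ψ.2.one_ne_zero hz, ← omega_indFun T ψ'.2.one_ne_zero hz, ← hχ, ← hχ'] at h2

theorem isInduced_ind [M.IsPrime] {B' : Set (IrrCharacter T)} (hB' : IsPBlock M B') {ψ : IrrCharacter T}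
    (hψ : ψ ∈ B') {χ : IrrCharacter G} (hχ : (χ : G → ℂ) = indFun T (ψ : T → ℂ)) :
    IsInducedBlock M T B' (blockOf M (χ : G → ℂ)) :=
  BlockInd.isInducedBlock_of_omega hB' (isPBlock_blockOf χ) hψ (mem_blockOf_self χ) (fun g => by
    rw [hχ, omega_indFun T ψ.2.one_ne_zero (classSum_mem_center g), sub_self]
    exact idl_zero)

/-- Everything for one block `B'` of `T` over `b`. -/
theorem fong_main [M.IsPrime] (hs : Stab b T) (hub : UnionOfBlocks M b) {B' : Set (IrrCharacter T)}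
    (hB' : IsPBlock M B') {ψ₀ : IrrCharacter T} (hψ₀ : ψ₀ ∈ B') (h0 : Over hs.hNT b ψ₀) :
    ∃ χ₀ : IrrCharacter G, (χ₀ : G → ℂ) = indFun T (ψ₀ : T → ℂ) ∧
      IsInducedBlock M T B' (blockOf M (χ₀ : G → ℂ)) ∧
      ∀ χ : IrrCharacter G, χ ∈ blockOf M (χ₀ : G → ℂ) ↔ ∃ ψ ∈ B', (χ : G → ℂ) = indFun T (ψ : T → ℂ) := by
  have hlb : LocA M (eB b) := locA_eB_of_union hub
  refine ⟨⟨_, ind_irr hs h0⟩, rfl, isInduced_ind hB' hψ₀ rfl, ?_⟩
  intro χ
  constructor
  · intro hχ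
    have h1 : ∃ θ ∈ b, classInner (fun n : N => (χ : G → ℂ) n) (θ : N → ℂ) ≠ 0 := by
      classical
      have h2 := ind_over hs h0 (χ := ⟨_, ind_irr hs h0⟩) rfl
      obtain ⟨θ, hθ, h3⟩ := h2
      obtain ⟨φ, hφ⟩ := exists_constituent_res N χ
      refine constituent_of_mem_orbitSet hφ ?_
      by_contra hn
      have hz := incH_eB_mem_center (stable_orbitSet (G := G) b)
      have hu := locA_orbit (G := G) hub
      have h6 := sameBlock_omega (⟨_, ind_irr hs h0⟩ : IrrCharacter G).2.isClassFunction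
        χ.2.isClassFunction hχ hz hu
      rw [omega_incH_eB_mem h3 (stable_orbitSet b) (subset_orbitSet b hθ),
        omega_incH_eB_not_mem hφ (stable_orbitSet b) hn, sub_zero] at h6
      exact one_not_idl h6
    obtain ⟨ψ, hψ, h2⟩ := ind_surj hs h1
    refine ⟨ψ, ?_, h2⟩
    have h3 : SameBlock M (ψ₀ : T → ℂ) (ψ : T → ℂ) :=
      (sameBlock_ind_iff hs hlb h0 hψ (χ := ⟨_, ind_irr hs h0⟩) (χ' := χ) rfl h2).1 hχ
    exact mem_of_sameBlock hB' hψ₀ h3
  · rintro ⟨ψ, hψ, h2⟩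
    have h3 := sameBlock_of_mem hB' hψ₀ hψ
    have h4 := over_all hs hlb h3 h0
    exact (sameBlock_ind_iff hs hlb h0 h4 (χ := ⟨_, ind_irr hs h0⟩) (χ' := χ) rfl h2).2 h3

end stab

end Cfsg.Agent.Lib.BlockFong
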