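import Cfsg.Agent.Lib.BlockFong2
import Cfsg.Agent.Lib.BlockDefect

/-!
# Defect groups of induced blocks; the Fong-Reynolds correspondence, part 3
-/

set_option autoImplicit false
set_option linter.all false

namespace Cfsg.Agent.Lib.BlockFong

open Cfsg Cfsg.Agent.Lib.BlockRing Cfsg.Agent.Lib.BlockGA Cfsg.Agent.Lib.BlockIdem
open Cfsg.Agent.Lib.CharBasic Cfsg.Agent.Lib.BlockDefect
open Cfsg.Agent.Lib.BlockRes (resH coeff_resH locA_resH)
open scoped ComplexConjugate

universe u

variable {G : Type u} [Group G] {M : Ideal AlgInt} {p : ℕ}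

/-- A defect group of `b` is contained in one of the induced block. -/
theorem defect_le_induced [Finite G] (hM : IsPModular p M) {H : Subgroup G} {b : Set (IrrCharacter H)}
    {B : Set (IrrCharacter G)} (h : IsInducedBlock M H b B) {D' : Subgroup H}
    (hD' : IsDefectGroup p M b D') {D : Subgroup G} (hD : IsDefectGroup p M B D) :
    ∃ x : G, D'.map H.subtype ≤ D.map (MulAut.conj x).toMonoidHom := by
  classical
  haveI := isPrime hM
  haveI : Fact p.Prime := ⟨hM.1⟩
  have := Fintype.ofFinite (ConjClasses H)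
  obtain ⟨g, hg, hgD⟩ := hD
  obtain ⟨ξ, hξ⟩ := isPBlock_nonempty h.1
  obtain ⟨χ, hχ⟩ := isPBlock_nonempty h.2.1
  have h1 : ¬ MemLocalIdeal M (omega (ξ : H → ℂ) (resH H (classSum g))) := by
    rw [BlockRes.omega_resH_classSum]
    intro h2
    exact hg.2.2 χ hχ ((idl_congr (h.2.2 ξ hξ χ hχ g)).1 h2)
  rw [omega_eq_sum ξ.2.isClassFunction (BlockRes.resH_center (classSum_mem_center g))] at h1
  obtain ⟨C, hC⟩ : ∃ C : ConjClasses H, ¬ MemLocalIdeal M ((resH H (classSum g)).coeff (Quotient.out C) *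
      centralChar (ξ : H → ℂ) (Quotient.out C)) := by
    by_contra hcon
    push Not at hcon
    exact h1 (idl_sum fun C _ => hcon C)
  set k : H := Quotient.out C with hk
  have hconj : IsConj g (k : G) := by
    by_contra hno
    apply hC
    rw [coeff_resH, coeff_classSum, if_neg hno, zero_mul]
    exact idl_zero
  have hcent : ¬ MemLocalIdeal M (centralChar (ξ : H → ℂ) k) := fun h2 =>
    hC (idl_mul_left (locA_resH (locA_classSum g) _) h2)
  obtain ⟨Q, hQ⟩ := sylIn_exists (p := p) (Subgroup.centralizer ({k} : Set H))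
  obtain ⟨x, hx⟩ := minmax_omega hM h.1 hD' ⟨ξ, hξ, hcent⟩ hQ
  have h3 : DefLE p D (k : G) := defLE_of_isConj hconj (defLE_self hgD)
  have h4 : Q.map H.subtype ≤ Subgroup.centralizer ({(k : G)} : Set G) := by
    rintro _ ⟨q, hq, rfl⟩
    rw [Subgroup.mem_centralizer_singleton_iff]
    have := sylIn_le hQ hq
    rw [Subgroup.mem_centralizer_singleton_iff] at this
    exact congrArg Subtype.val this
  obtain ⟨y, hy⟩ := defLE_le h3 h4 ((sylIn_isPGroup hQ).map _)
  refine ⟨x * y, ?_⟩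
  rw [← map_conj_mul]
  rintro _ ⟨d, hd, rfl⟩
  obtain ⟨q, hq, h5⟩ := hx hd
  refine ⟨(q : G), hy (Subgroup.mem_map_of_mem _ hq), ?_⟩
  rw [← h5]
  rfl

/-- A subgroup of the right order conjugate into a defect group is a defect group. -/
theorem isDefectGroup_of_le [Finite G] {B : Set (IrrCharacter G)} {D : Subgroup G}
    (hD : IsDefectGroup p M B D) {P : Subgroup G} {x : G}
    (hle : P ≤ D.map (MulAut.conj x).toMonoidHom) (hcard : Nat.card D ≤ Nat.card P) :
    IsDefectGroup p M B P := by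
  have h1 : P = D.map (MulAut.conj x).toMonoidHom := by
    apply Subgroup.eq_of_le_of_card_ge hle
    rw [card_map_conj]; exact hcard
  rw [h1]
  exact defectGroup_map_conj hD x

theorem charDegree_indFun [Fintype G] (T : Subgroup G) (ψ : IrrCharacter T) :
    charDegree (indFun T (ψ : T → ℂ)) = T.index * charDegree (ψ : T → ℂ) := by
  apply BlockIndPart.charDegree_of_eq
  rw [IndFun.indFun_one, (charDegree_spec ψ.2).1]
  push_cast
  rfl

theorem vdeg_ind [Fintype G] {T : Subgroup G} {ψ : IrrCharacter T} {χ : IrrCharacter G}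
    (h : (χ : G → ℂ) = indFun T (ψ : T → ℂ)) : vdeg p χ = T.index.factorization p + vdeg p ψ := by
  rw [vdeg, h, charDegree_indFun, Nat.factorization_mul Subgroup.index_ne_zero_of_finite
    (charDegree_spec ψ.2).2]
  rfl

/-- If `B` consists of the characters induced from `B'` the minimal valuations differ by that of
the index. -/
theorem vmin_ind [Fintype G] {T : Subgroup G} {B' : Set (IrrCharacter T)} (hB' : B'.Nonempty)
    {B : Set (IrrCharacter G)}
    (hmem : ∀ χ : IrrCharacter G, χ ∈ B ↔ ∃ ψ ∈ B', (χ : G → ℂ) = indFun T (ψ : T → ℂ))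
    (hirr : ∀ ψ ∈ B', IsIrrCharacter G (indFun T (ψ : T → ℂ))) :
    vmin p B = T.index.factorization p + vmin p B' := by
  apply le_antisymm
  · obtain ⟨ψ, hψ, h1⟩ := exists_vmin (p := p) hB'
    rw [← h1, ← vdeg_ind (p := p) (ψ := ψ) (χ := ⟨_, hirr ψ hψ⟩) rfl]
    exact vmin_le ((hmem _).2 ⟨ψ, hψ, rfl⟩)
  · have hne : B.Nonempty := by
      obtain ⟨ψ, hψ⟩ := hB'
      exact ⟨⟨_, hirr ψ hψ⟩, (hmem _).2 ⟨ψ, hψ, rfl⟩⟩
    obtain ⟨χ, hχ, h1⟩ := exists_vmin (p := p) hne
    obtain ⟨ψ, hψ, h2⟩ := (hmem χ).1 hχ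
    rw [← h1, vdeg_ind h2]
    exact Nat.add_le_add_left (vmin_le hψ) _

end Cfsg.Agent.Lib.BlockFong
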