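import Cfsg.Agent.Lib.BrauerMap
import Mathlib.RingTheory.Nilpotent.Lemmas
import Mathlib.RingTheory.Noetherian.Nilpotent
import Mathlib.RingTheory.Noetherian.Basic
import Mathlib.Algebra.Algebra.Operations
import Mathlib.RingTheory.FiniteLength
import Mathlib.GroupTheory.Coset.Card

/-!
# A graded nilpotency argument (helper16)

`N` normal in `G`, `Q` a `p`-subgroup, `e` a central idempotent of `k[N]` such that `ker Br_Q` acts nilpotently on
`Z(k[N]) e`.  Then `ker Br_Q` on `k[G]^N e` contains no nonzero idempotent.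
-/

set_option autoImplicit false

namespace Cfsg.Agent.Lib.BlockGraded

open Cfsg.Agent.Lib.BrauerMap
open scoped Pointwise

universe u v
variable {G : Type u} [Group G] [Finite G] {k : Type v} [Field k] {p : ℕ}

/-- `x` is supported on the coset `q` -/
def Sup (N : Subgroup G) [N.Normal] (q : G ⧸ N) (x : MonoidAlgebra k G) : Prop :=
  ∀ g : G, x.coeff g ≠ 0 → (g : G ⧸ N) = q

variable {N : Subgroup G} [hN : N.Normal]

theorem sup_mul {q r : G ⧸ N} {x y : MonoidAlgebra k G} (hx : Sup N q x) (hy : Sup N r y) :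
    Sup N (q * r) (x * y) := by
  classical
  have := Fintype.ofFinite G
  intro g hg
  rw [mul_coeff] at hg
  obtain ⟨a, -, ha⟩ := Finset.exists_ne_zero_of_sum_ne_zero hg
  have h1 := hx a (left_ne_zero_of_mul ha)
  have h2 := hy (a⁻¹ * g) (right_ne_zero_of_mul ha)
  rw [← h1, ← h2, ← QuotientGroup.mk_mul, mul_inv_cancel_left]

theorem sup_one : Sup N 1 (1 : MonoidAlgebra k G) := by
  classical
  intro g hg
  rw [one_coeff] at hg
  by_cases h : g = 1
  · rw [h]; rfl
  · rw [if_neg h] at hg; exact absurd rfl hg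

theorem sup_list (l : List (MonoidAlgebra k G)) (d : MonoidAlgebra k G → G ⧸ N) (h : ∀ x ∈ l, Sup N (d x) x) :
    Sup N (l.map d).prod l.prod := by
  induction l with
  | nil => simpa using sup_one
  | cons a l ih =>
    rw [List.map_cons, List.prod_cons, List.prod_cons]
    exact sup_mul (h a List.mem_cons_self) (ih fun x hx => h x (List.mem_cons_of_mem _ hx))

theorem mem_suppAlg_of_sup {x : MonoidAlgebra k G} (hx : Sup N 1 x) : x ∈ suppAlg k N := by
  intro g hg
  by_contra h
  exact hg ((QuotientGroup.eq_one_iff g).1 (hx g h))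

/-- the products of nilpotent central elements of `k[N]` with elements fixed by `N` -/
noncomputable def L (N : Subgroup G) (R : Type*) [CommRing R] (f : R →+* MonoidAlgebra k G) (j : ℕ) :
    Submodule k (MonoidAlgebra k G) :=
  Submodule.span k {x | ∃ z ∈ (nilradical R) ^ j, ∃ w ∈ fixAlg k N, x = f z * w}

theorem L_mul {R : Type*} [CommRing R] (f : R →+* MonoidAlgebra k G) (hf : ∀ z, f z ∈ ZAlg k N) {i j : ℕ}
    {a b : MonoidAlgebra k G} (ha : a ∈ L N R f i) (hb : b ∈ L N R f j) : a * b ∈ L N R f (i + j) := by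
  induction ha using Submodule.span_induction with
  | mem a ha =>
    obtain ⟨z, hz, w, hw, rfl⟩ := ha
    induction hb using Submodule.span_induction with
    | mem b hb =>
      obtain ⟨z', hz', w', hw', rfl⟩ := hb
      apply Submodule.subset_span
      refine ⟨z * z', ?_, w * w', (fixAlg k N).mul_mem hw hw', ?_⟩
      · rw [pow_add]; exact Ideal.mul_mem_mul hz hz'
      · have h1 : w * f z' = f z' * w := (comm_of_supp_fix (hf z').1 hw).symm
        calc f z * w * (f z' * w') = f z * (w * f z') * w' := by noncomm_ring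
          _ = f z * (f z' * w) * w' := by rw [h1]
          _ = f (z * z') * (w * w') := by rw [map_mul]; noncomm_ring
    | zero => rw [mul_zero]; exact Submodule.zero_mem _
    | add x y _ _ hx hy => rw [mul_add]; exact Submodule.add_mem _ hx hy
    | smul c x _ hx => rw [mul_smul_comm]; exact Submodule.smul_mem _ c hx
  | zero => rw [zero_mul]; exact Submodule.zero_mem _
  | add x y _ _ hx hy => rw [add_mul]; exact Submodule.add_mem _ hx hy
  | smul c x _ hx => rw [smul_mul_assoc]; exact Submodule.smul_mem _ c hx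

theorem eq_zero_of_L {R : Type*} [CommRing R] [IsNoetherianRing R] (f : R →+* MonoidAlgebra k G)
    (hf : ∀ z, f z ∈ ZAlg k N) {u : MonoidAlgebra k G} (hu : u * u = u) (h1 : u ∈ L N R f 1) : u = 0 := by
  obtain ⟨m, hm⟩ := IsNoetherianRing.isNilpotent_nilradical R
  have h2 : ∀ j : ℕ, u ∈ L N R f (j + 1) := by
    intro j
    induction j with
    | zero => exact h1
    | succ j ih =>
      have := L_mul f hf ih h1
      rwa [hu] at this
  have h3 : u ∈ L N R f (m + 1) := h2 m
  have h4 : L N R f (m + 1) = ⊥ := by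
    rw [L, Submodule.span_eq_bot]
    rintro x ⟨z, hz, w, hw, rfl⟩
    rw [pow_succ, hm, zero_mul] at hz
    have h5 : z = 0 := by simpa using hz
    rw [h5, map_zero, zero_mul]
  rw [h4] at h3
  exact (Submodule.mem_bot k).1 h3

/-- the homogeneous component -/
theorem trunc_mem_fixAlg {u : MonoidAlgebra k G} (hu : u ∈ fixAlg k N) (q : G ⧸ N) :
    trunc {g : G | (g : G ⧸ N) = q} u ∈ fixAlg k N := by
  classical
  rw [mem_fixAlg_iff_coeff] at hu ⊢
  intro h hh g
  have h1 : ((h * g * h⁻¹ : G) : G ⧸ N) = (g : G ⧸ N) := by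
    have h2 : ((h : G) : G ⧸ N) = 1 := (QuotientGroup.eq_one_iff h).2 hh
    rw [QuotientGroup.mk_mul, QuotientGroup.mk_mul, QuotientGroup.mk_inv, h2, one_mul, inv_one, mul_one]
  rw [trunc_coeff, trunc_coeff, hu h hh g]
  simp only [Set.mem_setOf_eq, h1]

theorem sum_trunc [Fintype (G ⧸ N)] (u : MonoidAlgebra k G) :
    ∑ q : G ⧸ N, trunc {g : G | (g : G ⧸ N) = q} u = u := by
  classical
  apply ext_coeff
  intro g
  rw [sum_coeff, Finset.sum_eq_single (g : G ⧸ N)]
  · exact trunc_coeff_mem (by simp) u
  · intro q _ hq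
    exact trunc_coeff_not_mem (fun h => hq h.symm) u
  · intro h; exact absurd (Finset.mem_univ _) h

theorem list_mem (l : List (MonoidAlgebra k G)) (h : ∀ x ∈ l, x ∈ fixAlg k N) : l.prod ∈ fixAlg k N :=
  Subalgebra.list_prod_mem _ h

theorem br_list [Fact p.Prime] [CharP k p] {Q : Subgroup G} (hQ : IsPGroup p Q) (hQN : Q ≤ N) (l : List (MonoidAlgebra k G))
    (hl : l ≠ []) (h : ∀ x ∈ l, x ∈ fixAlg k N) (h' : ∀ x ∈ l, br Q x = 0) : br Q l.prod = 0 := by
  cases l with
  | nil => exact absurd rfl hl
  | cons a l =>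
    rw [List.prod_cons, br_mul hQ (fixAlg_anti hQN (h a List.mem_cons_self))
      (fixAlg_anti hQN (list_mem l fun x hx => h x (List.mem_cons_of_mem _ hx))), h' a List.mem_cons_self, zero_mul]

theorem main [Fact p.Prime] [CharP k p] {Q : Subgroup G} (hQ : IsPGroup p Q) (hQN : Q ≤ N) {e u : MonoidAlgebra k G}
    (he : e ∈ ZAlg k N)
    (hn : ∀ z ∈ ZAlg k N, br Q z = 0 → IsNilpotent (z * e))
    (hu : u ∈ fixAlg k N) (hbr : br Q u = 0) (huu : u * u = u) (hue : u * e = u) : u = 0 := by
  classical
  have := Fintype.ofFinite G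
  have := Fintype.ofFinite (G ⧸ N)
  -- the commutative ring
  letI instC : CommRing (ZAlg k N) :=
    { (inferInstance : Ring (ZAlg k N)) with
      mul_comm := fun a b => Subtype.ext (ZAlg_comm a.2 b.2) }
  haveI : IsNoetherianRing (ZAlg k N) := IsNoetherianRing.of_finite k (ZAlg k N)
  let f : (ZAlg k N) →+* MonoidAlgebra k G := (ZAlg k N).val.toRingHom
  have hf : ∀ z : ZAlg k N, f z = (z : MonoidAlgebra k G) := fun z => rfl
  apply eq_zero_of_L (N := N) f (fun z => z.2) huu
  -- homogeneous elements
  set S : Set (MonoidAlgebra k G) := {x | x ∈ fixAlg k N ∧ br Q x = 0 ∧ ∃ q, Sup N q x} with hS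
  have huS : u ∈ Submodule.span k S := by
    rw [← sum_trunc (N := N) u]
    refine Submodule.sum_mem _ fun q _ => Submodule.subset_span ⟨trunc_mem_fixAlg hu q, ?_, q, ?_⟩
    · apply ext_coeff
      intro g
      rw [zero_coeff]
      by_cases hg : g ∈ Subgroup.centralizer (Q : Set G)
      · rw [br_coeff_mem hg]
        by_cases hgq : (g : G ⧸ N) = q
        · rw [trunc_coeff_mem (by exact hgq), ← br_coeff_mem hg, hbr, zero_coeff]
        · exact trunc_coeff_not_mem (S := {g : G | (g : G ⧸ N) = q}) hgq u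
      · exact br_coeff_not_mem hg _
    · intro g hg
      by_contra h
      exact hg (trunc_coeff_not_mem (S := {g : G | (g : G ⧸ N) = q}) h u)
  set n := Fintype.card (G ⧸ N) with hnn
  have hpow : u ^ (n + 1) = u := IsIdempotentElem.pow_succ_eq n huu
  have h1 : u ^ (n + 1) ∈ Submodule.span k (S ^ (n + 1)) := by
    rw [← Submodule.span_pow]
    exact Submodule.pow_mem_pow _ huS _
  have key : ∀ x ∈ S ^ (n + 1), x * e ∈ L N (ZAlg k N) f 1 := by
    intro x hx
    obtain ⟨F, hF⟩ := Set.mem_pow.1 hx
    set l : List (MonoidAlgebra k G) := List.ofFn fun i => (F i : MonoidAlgebra k G) with hl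
    have hlen : l.length = n + 1 := by rw [hl, List.length_ofFn]
    have hlS : ∀ y ∈ l, y ∈ S := by
      intro y hy
      rw [hl, List.mem_ofFn] at hy
      obtain ⟨i, hi⟩ := hy
      rw [← hi]
      exact (F i).2
    let d : MonoidAlgebra k G → G ⧸ N := fun y => if h : ∃ q, Sup N q y then h.choose else 1
    have hd : ∀ y ∈ l, Sup N (d y) y := by
      intro y hy
      have h2 := (hlS y hy).2.2
      simp only [d, dif_pos h2]
      exact h2.choose_spec
    obtain ⟨i, j, hij, hFij⟩ := Fintype.exists_ne_map_eq_of_card_lt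
      (fun j : Fin (n + 2) => ((l.take j).map d).prod) (by rw [Fintype.card_fin]; omega)
    have h3 : ∃ i j : ℕ, i < j ∧ j ≤ n + 1 ∧ ((l.take i).map d).prod = ((l.take j).map d).prod := by
      rcases lt_or_gt_of_ne hij with h | h
      · exact ⟨i, j, h, Nat.lt_succ_iff.1 j.2, hFij⟩
      · exact ⟨j, i, h, Nat.lt_succ_iff.1 i.2, hFij.symm⟩
    obtain ⟨i, j, hij, hj, hprod⟩ := h3
    set mid := (l.take j).drop i with hmid
    have e1 : l.take j = l.take i ++ mid := by
      have h4 := List.take_append_drop i (l.take j)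
      rw [List.take_take, min_eq_left hij.le] at h4
      exact h4.symm
    have e2 : l = l.take j ++ l.drop j := (List.take_append_drop j l).symm
    have e3 : (mid.map d).prod = 1 := by
      have h4 := hprod
      rw [e1, List.map_append, List.prod_append] at h4
      exact (mul_eq_left.1 h4.symm)
    have hsub : ∀ y ∈ mid, y ∈ l := fun y hy => by
      have h4 : y ∈ l.take j := List.mem_of_mem_drop hy
      exact List.mem_of_mem_take h4
    have hmid0 : mid ≠ [] := by
      intro h4
      have h5 : mid.length = 0 := by rw [h4]; rfl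
      rw [hmid, List.length_drop, List.length_take, hlen] at h5
      omega
    have hz1 : mid.prod ∈ fixAlg k N := list_mem mid fun y hy => (hlS y (hsub y hy)).1
    have hz2 : Sup N 1 mid.prod := by
      rw [← e3]
      exact sup_list mid d fun y hy => hd y (hsub y hy)
    have hz : mid.prod ∈ ZAlg k N := ⟨mem_suppAlg_of_sup hz2, hz1⟩
    have hz3 : br Q mid.prod = 0 := br_list hQ hQN mid hmid0 (fun y hy => (hlS y (hsub y hy)).1)
      (fun y hy => (hlS y (hsub y hy)).2.1)
    have ha : (l.take i).prod ∈ fixAlg k N := list_mem _ fun y hy => (hlS y (List.mem_of_mem_take hy)).1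
    have hb : (l.drop j).prod ∈ fixAlg k N := list_mem _ fun y hy => (hlS y (List.mem_of_mem_drop hy)).1
    have hxe : x * e = (mid.prod * e) * ((l.take i).prod * (l.drop j).prod) := by
      rw [← hF]
      conv_lhs => rw [e2, e1, List.prod_append, List.prod_append]
      have c1 : mid.prod * (l.take i).prod = (l.take i).prod * mid.prod := comm_of_supp_fix hz.1 ha
      have c2 : e * (l.drop j).prod = (l.drop j).prod * e := comm_of_supp_fix he.1 hb
      have c3 : e * (l.take i).prod = (l.take i).prod * e := comm_of_supp_fix he.1 ha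
      calc (l.take i).prod * mid.prod * (l.drop j).prod * e
          = ((l.take i).prod * mid.prod) * ((l.drop j).prod * e) := by noncomm_ring
        _ = (mid.prod * (l.take i).prod) * (e * (l.drop j).prod) := by rw [c1, c2]
        _ = mid.prod * ((l.take i).prod * e) * (l.drop j).prod := by noncomm_ring
        _ = mid.prod * (e * (l.take i).prod) * (l.drop j).prod := by rw [c3]
        _ = _ := by noncomm_ring
    rw [hxe]
    apply Submodule.subset_span
    refine ⟨⟨mid.prod * e, (ZAlg k N).mul_mem hz he⟩, ?_, _, (fixAlg k N).mul_mem ha hb, rfl⟩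
    rw [pow_one, mem_nilradical]
    obtain ⟨m, hm⟩ := hn _ hz hz3
    exact ⟨m, Subtype.ext (by rw [Subalgebra.coe_pow]; exact hm)⟩
  rw [hpow] at h1
  have h2 : ∀ y ∈ Submodule.span k (S ^ (n + 1)), y * e ∈ L N (ZAlg k N) f 1 := by
    intro y hy
    induction hy using Submodule.span_induction with
    | mem x hx => exact key x hx
    | zero => rw [zero_mul]; exact Submodule.zero_mem _
    | add a b _ _ ha hb => rw [add_mul]; exact Submodule.add_mem _ ha hb
    | smul c a _ ha => rw [smul_mul_assoc]; exact Submodule.smul_mem _ c ha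
  have h3 := h2 u h1
  rwa [hue] at h3

end Cfsg.Agent.Lib.BlockGraded
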