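import Mathlib

/-!
# Combinatorics for homocyclic Sylow 2-subgroups (S0949)
-/

set_option autoImplicit false
set_option linter.all false
set_option maxHeartbeats 400000

namespace Cfsg.Agent.Lib.BlockHomo

theorem arith (F₂ F₃ : ℤ) (h2 : (16 : ℤ) ∣ F₂ - 1) (h3 : (16 : ℤ) ∣ F₃ - 1)
    (h : (F₂ * F₃ + F₂ + F₃) * (1 + F₂ + F₃) = 9 * (F₂ * F₃)) : F₂ = 1 ∧ F₃ = 1 := by
  obtain ⟨a, ha⟩ := h2
  obtain ⟨b, hb⟩ := h3
  set D : ℤ := 8 - F₂ - F₃ with hD
  have hdvd : D ∣ 72 := ⟨F₂ * F₃ + 17 - D, by rw [hD]; linear_combination h⟩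
  have h1 : D ≤ 72 := Int.le_of_dvd (by norm_num) hdvd
  have h1' : -72 ≤ D := by
    have := Int.le_of_dvd (by norm_num) ((neg_dvd).2 hdvd)
    omega
  have hDm : D = 6 - 16 * (a + b) := by omega
  obtain ⟨c, hc⟩ := hdvd
  have h6 : a + b = 0 := by
    have hab1 : -5 < a + b := by omega
    have hab2 : a + b < 5 := by omega
    set s := a + b with hs
    clear_value s
    rw [hDm] at hc
    interval_cases s <;> omega
  have hF : F₂ + F₃ = 2 := by omega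
  have hFm : F₃ = 2 - F₂ := by omega
  subst hFm
  have h7 : (F₂ - 1) ^ 2 = 0 := by nlinarith [h]
  have h8 : F₂ - 1 = 0 := by simpa using h7
  constructor <;> omega

section

variable {X : Type*} [Fintype X]

theorem norm3 (v : X → ℤ) (h : ∑ x, v x * v x = 3) :
    ∃ a b c : X, a ≠ b ∧ a ≠ c ∧ b ≠ c ∧ (v a = 1 ∨ v a = -1) ∧ (v b = 1 ∨ v b = -1) ∧
      (v c = 1 ∨ v c = -1) ∧ ∀ x, x ≠ a → x ≠ b → x ≠ c → v x = 0 := by
  classical
  have h0 : ∀ x, v x = 0 ∨ v x = 1 ∨ v x = -1 := by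
    intro x
    have h1 : v x * v x ≤ 3 := by
      rw [← h]
      exact Finset.single_le_sum (f := fun x => v x * v x) (fun y _ => mul_self_nonneg _) (Finset.mem_univ x)
    have h2 : v x < 2 := by nlinarith
    have h3 : -2 < v x := by nlinarith
    omega
  have h1 : (Finset.univ.filter (fun x => v x ≠ 0)).card = 3 := by
    have h2 : (∑ x, v x * v x) = ((Finset.univ.filter (fun x => v x ≠ 0)).card : ℤ) := by
      rw [Finset.card_filter]
      push_cast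
      refine Finset.sum_congr rfl fun x _ => ?_
      rcases h0 x with h | h | h <;> simp [h]
    rw [h] at h2
    exact_mod_cast h2.symm
  obtain ⟨a, b, c, hab, hac, hbc, habc⟩ := Finset.card_eq_three.1 h1
  have hm : ∀ x, v x ≠ 0 ↔ x = a ∨ x = b ∨ x = c := by
    intro x
    have : x ∈ Finset.univ.filter (fun x => v x ≠ 0) ↔ x ∈ ({a, b, c} : Finset X) := by rw [habc]
    simpa using this
  refine ⟨a, b, c, hab, hac, hbc, ?_, ?_, ?_, ?_⟩
  · exact (h0 a).resolve_left ((hm a).2 (Or.inl rfl))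
  · exact (h0 b).resolve_left ((hm b).2 (Or.inr (Or.inl rfl)))
  · exact (h0 c).resolve_left ((hm c).2 (Or.inr (Or.inr rfl)))
  · intro x h1 h2 h3
    by_contra hcon
    rcases (hm x).1 hcon with h | h | h
    · exact h1 h
    · exact h2 h
    · exact h3 h

theorem val3 (v : X → ℤ) (h : ∑ x, v x * v x = 3) (x : X) : v x = 0 ∨ v x = 1 ∨ v x = -1 := by
  have h1 : v x * v x ≤ 3 := by
    rw [← h]
    exact Finset.single_le_sum (f := fun x => v x * v x) (fun y _ => mul_self_nonneg _) (Finset.mem_univ x)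
  have h2 : v x < 2 := by nlinarith
  have h3 : -2 < v x := by nlinarith
  omega

theorem sum3 (v w : X → ℤ) {a b c : X} (hab : a ≠ b) (hac : a ≠ c) (hbc : b ≠ c)
    (h : ∀ x, x ≠ a → x ≠ b → x ≠ c → v x = 0) :
    ∑ x, v x * w x = v a * w a + v b * w b + v c * w c := by
  classical
  have h1 : ∑ x, v x * w x = ∑ x ∈ ({a, b, c} : Finset X), v x * w x := by
    symm
    apply Finset.sum_subset (Finset.subset_univ _)
    intro x _ hx
    simp only [Finset.mem_insert, Finset.mem_singleton, not_or] at hx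
    rw [h x hx.1 hx.2.1 hx.2.2, zero_mul]
  rw [h1, Finset.sum_insert (by simp [hab, hac]), Finset.sum_insert (by simp [hbc]),
    Finset.sum_singleton]
  ring

/-- Two norm-3 vectors with inner product 2 share two coordinates. -/
theorem pair (v w : X → ℤ) (hv : ∑ x, v x * v x = 3) (hw : ∑ x, w x * w x = 3)
    (h : ∑ x, v x * w x = 2) :
    ∃ a b c d : X, a ≠ b ∧ a ≠ c ∧ b ≠ c ∧ a ≠ d ∧ b ≠ d ∧ c ≠ d ∧
      (v a = 1 ∨ v a = -1) ∧ (v b = 1 ∨ v b = -1) ∧ (v c = 1 ∨ v c = -1) ∧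
      w a = v a ∧ w b = v b ∧ (w d = 1 ∨ w d = -1) ∧
      (∀ x, x ≠ a → x ≠ b → x ≠ c → v x = 0) ∧ (∀ x, x ≠ a → x ≠ b → x ≠ d → w x = 0) := by
  classical
  -- choose the labels so that the third coordinate of `w` vanishes
  obtain ⟨a, b, c, hab, hac, hbc, va, vb, vc, v0, hwc⟩ : ∃ a b c : X, a ≠ b ∧ a ≠ c ∧ b ≠ c ∧
      (v a = 1 ∨ v a = -1) ∧ (v b = 1 ∨ v b = -1) ∧
      (v c = 1 ∨ v c = -1) ∧ (∀ x, x ≠ a → x ≠ b → x ≠ c → v x = 0) ∧
      (w a = v a ∧ w b = v b ∧ w c = 0) := by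
    obtain ⟨a, b, c, hab, hac, hbc, va, vb, vc, v0⟩ := norm3 v hv
    rw [sum3 v w hab hac hbc v0] at h
    have wa := val3 w hw a
    have wb := val3 w hw b
    have wc := val3 w hw c
    have key : (w a = v a ∧ w b = v b ∧ w c = 0) ∨ (w a = v a ∧ w c = v c ∧ w b = 0) ∨
        (w b = v b ∧ w c = v c ∧ w a = 0) := by
      rcases va with va | va <;> rcases vb with vb | vb <;> rcases vc with vc | vc <;>
        rcases wa with wa | wa | wa <;> rcases wb with wb | wb | wb <;> rcases wc with wc | wc | wc <;>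
        rw [va, vb, vc, wa, wb, wc] at h ⊢ <;> first | (exfalso; revert h; norm_num; done) | norm_num
    rcases key with h1 | h1 | h1
    · exact ⟨a, b, c, hab, hac, hbc, va, vb, vc, v0, h1⟩
    · exact ⟨a, c, b, hac, hab, hbc.symm, va, vc, vb, fun x h1 h2 h3 => v0 x h1 h3 h2, h1⟩
    · exact ⟨b, c, a, hbc, hab.symm, hac.symm, vb, vc, va, fun x h1 h2 h3 => v0 x h3 h1 h2, h1⟩
  obtain ⟨a', b', c', hab', hac', hbc', wa', wb', wc', w0⟩ := norm3 w hw
  have hm : ∀ x, w x ≠ 0 → x = a' ∨ x = b' ∨ x = c' := by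
    intro x hx
    by_contra hcon
    push Not at hcon
    exact hx (w0 x hcon.1 hcon.2.1 hcon.2.2)
  have ha0 : w a ≠ 0 := by rw [hwc.1]; rcases va with h | h <;> rw [h] <;> norm_num
  have hb0 : w b ≠ 0 := by rw [hwc.2.1]; rcases vb with h | h <;> rw [h] <;> norm_num
  -- the third coordinate
  have : ∃ d, a ≠ d ∧ b ≠ d ∧ (w d = 1 ∨ w d = -1) ∧ (∀ x, x ≠ a → x ≠ b → x ≠ d → w x = 0) := by
    rcases hm a ha0 with rfl | rfl | rfl <;> rcases hm b hb0 with rfl | rfl | rfl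
    · exact absurd rfl hab
    · exact ⟨c', hac', hbc', wc', w0⟩
    · exact ⟨b', hab', hbc'.symm, wb', fun x h1 h2 h3 => w0 x h1 h3 h2⟩
    · exact ⟨c', hbc', hac', wc', fun x h1 h2 h3 => w0 x h2 h1 h3⟩
    · exact absurd rfl hab
    · exact ⟨a', hab'.symm, hac'.symm, wa', fun x h1 h2 h3 => w0 x h3 h1 h2⟩
    · exact ⟨b', hbc'.symm, hab', wb', fun x h1 h2 h3 => w0 x h2 h3 h1⟩
    · exact ⟨a', hac'.symm, hab'.symm, wa', fun x h1 h2 h3 => w0 x h3 h2 h1⟩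
    · exact absurd rfl hab
  obtain ⟨d, had, hbd, wd, w0'⟩ := this
  refine ⟨a, b, c, d, hab, hac, hbc, had, hbd, ?_, va, vb, vc, hwc.1, hwc.2.1, wd, v0, w0'⟩
  rintro rfl
  rcases wd with h | h <;> rw [hwc.2.2] at h <;> norm_num at h

theorem four_le (w : X → ℤ) (hw : ∑ x, w x * w x = 3) {a b c d : X} (hab : a ≠ b) (hac : a ≠ c)
    (hbc : b ≠ c) (had : a ≠ d) (hbd : b ≠ d) (hcd : c ≠ d) :
    w a * w a + w b * w b + w c * w c + w d * w d ≤ 3 := by
  classical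
  rw [← hw]
  have h1 : w a * w a + w b * w b + w c * w c + w d * w d =
      ∑ x ∈ ({a, b, c, d} : Finset X), w x * w x := by
    rw [Finset.sum_insert (by simp [hab, hac, had]), Finset.sum_insert (by simp [hbc, hbd]),
      Finset.sum_insert (by simp [hcd]), Finset.sum_singleton]
    ring
  rw [h1]
  exact Finset.sum_le_univ_sum_of_nonneg fun x => mul_self_nonneg _

theorem sunflower (F : Finset (X → ℤ)) (h5 : 5 ≤ F.card) (h3 : ∀ v ∈ F, ∑ x, v x * v x = 3)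
    (h2 : ∀ v ∈ F, ∀ w ∈ F, v ≠ w → ∑ x, v x * w x = 2) :
    ∃ a b : X, a ≠ b ∧ ∃ α β : ℤ, (α = 1 ∨ α = -1) ∧ (β = 1 ∨ β = -1) ∧
      ∀ v ∈ F, v a = α ∧ v b = β := by
  classical
  obtain ⟨v₁, hv₁, v₂, hv₂, hne⟩ := Finset.one_lt_card.1 (show 1 < F.card by omega)
  obtain ⟨a, b, c, d, hab, hac, hbc, had, hbd, hcd, va, vb, vc, wa, wb, wd, v0, w0⟩ :=
    pair v₁ v₂ (h3 _ hv₁) (h3 _ hv₂) (h2 _ hv₁ _ hv₂ hne)
  -- the possibilities for the other vectors
  have key : ∀ w ∈ F, w ≠ v₁ → w ≠ v₂ → (w a = v₁ a ∧ w b = v₁ b ∧ w c = 0 ∧ w d = 0) ∨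
      (w a = v₁ a ∧ w b = 0 ∧ w c = v₁ c ∧ w d = v₂ d) ∨
      (w a = 0 ∧ w b = v₁ b ∧ w c = v₁ c ∧ w d = v₂ d) := by
    intro w hw hw1 hw2
    have e1 := h2 v₁ hv₁ w hw hw1.symm
    have e2 := h2 v₂ hv₂ w hw hw2.symm
    rw [sum3 v₁ w hab hac hbc v0] at e1
    rw [sum3 v₂ w hab had hbd w0, wa, wb] at e2
    have e3 := four_le w (h3 w hw) hab hac hbc had hbd hcd
    have xa := val3 w (h3 w hw) a
    have xb := val3 w (h3 w hw) b
    have xc := val3 w (h3 w hw) c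
    have xd := val3 w (h3 w hw) d
    clear hw1 hw2 h2 h3 h5
    generalize v₁ a = A at *
    generalize v₁ b = B at *
    generalize v₁ c = C at *
    generalize v₂ d = D at *
    generalize w a = p at *
    generalize w b = q at *
    generalize w c = r at *
    generalize w d = s at *
    rcases va with rfl | rfl <;> rcases vb with rfl | rfl <;> rcases vc with rfl | rfl <;>
      rcases wd with rfl | rfl <;>
      rcases xa with rfl | rfl | rfl <;> rcases xb with rfl | rfl | rfl <;>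
      rcases xc with rfl | rfl | rfl <;>
      rcases xd with rfl | rfl | rfl <;> first | (exfalso; omega) | norm_num
  by_cases hall : ∀ v ∈ F, v a = v₁ a ∧ v b = v₁ b
  · exact ⟨a, b, hab, v₁ a, v₁ b, va, vb, hall⟩
  exfalso
  push Not at hall
  obtain ⟨v₃, hv₃, h3'⟩ := hall
  have h31 : v₃ ≠ v₁ := by rintro rfl; exact h3' rfl rfl
  have h32 : v₃ ≠ v₂ := by rintro rfl; exact h3' wa wb
  -- every further vector is determined on `a b c d`
  have h6 : ∃ p q r s : ℤ, ∀ w ∈ F, w ≠ v₁ → w ≠ v₂ → w ≠ v₃ → w a = p ∧ w b = q ∧ w c = r ∧ w d = s ∧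
      p * p + q * q + r * r + s * s = 3 := by
    have k3 := key v₃ hv₃ h31 h32
    have hz : ∀ w ∈ F, w a * w a + w b * w b + w c * w c + w d * w d = 3 →
        ∀ x, x ≠ a → x ≠ b → x ≠ c → x ≠ d → w x = 0 := by
      intro w hw hsum x hxa hxb hxc hxd
      have h8 : ∑ x ∈ ({x, a, b, c, d} : Finset X), w x * w x ≤ 3 := by
        rw [← h3 w hw]
        exact Finset.sum_le_univ_sum_of_nonneg fun x => mul_self_nonneg _
      rw [Finset.sum_insert (by simp [hxa, hxb, hxc, hxd]),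
        Finset.sum_insert (by simp [hab, hac, had]), Finset.sum_insert (by simp [hbc, hbd]),
        Finset.sum_insert (by simp [hcd]), Finset.sum_singleton] at h8
      have h9 : w x * w x ≤ 0 := by linarith
      have h10 := mul_self_nonneg (w x)
      exact mul_self_eq_zero.1 (le_antisymm h9 h10)
    have ss : ∀ t : ℤ, (t = 1 ∨ t = -1) → t * t = 1 := by
      rintro t (rfl | rfl) <;> norm_num
    rcases k3 with k3 | k3 | k3
    · exact absurd k3.2.1 (h3' k3.1)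
    · -- `v₃` is supported on `a c d`
      have z3 := hz v₃ hv₃ (by rw [k3.1, k3.2.1, k3.2.2.1, k3.2.2.2, ss _ va, ss _ vc, ss _ wd]; norm_num)
      refine ⟨0, v₁ b, v₁ c, v₂ d, fun w hw hw1 hw2 hw3 => ?_⟩
      have e := h2 v₃ hv₃ w hw hw3.symm
      rw [sum3 v₃ w hac had hcd (fun x h1 h2 h3 => by
        by_cases hxb : x = b
        · rw [hxb]; exact k3.2.1
        · exact z3 x h1 hxb h2 h3), k3.1, k3.2.2.1, k3.2.2.2] at e
      rcases key w hw hw1 hw2 with kw | kw | kw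
      · rw [kw.1, kw.2.2.1, kw.2.2.2, ss _ va] at e; norm_num at e
      · rw [kw.1, kw.2.2.1, kw.2.2.2, ss _ va, ss _ vc, ss _ wd] at e; norm_num at e
      · exact ⟨kw.1, kw.2.1, kw.2.2.1, kw.2.2.2, by rw [ss _ vb, ss _ vc, ss _ wd]; norm_num⟩
    · have z3 := hz v₃ hv₃ (by rw [k3.1, k3.2.1, k3.2.2.1, k3.2.2.2, ss _ vb, ss _ vc, ss _ wd]; norm_num)
      refine ⟨v₁ a, 0, v₁ c, v₂ d, fun w hw hw1 hw2 hw3 => ?_⟩
      have e := h2 v₃ hv₃ w hw hw3.symm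
      rw [sum3 v₃ w hbc hbd hcd (fun x h1 h2 h3 => by
        by_cases hxa : x = a
        · rw [hxa]; exact k3.1
        · exact z3 x hxa h1 h2 h3), k3.2.1, k3.2.2.1, k3.2.2.2] at e
      rcases key w hw hw1 hw2 with kw | kw | kw
      · rw [kw.2.1, kw.2.2.1, kw.2.2.2, ss _ vb] at e; norm_num at e
      · exact ⟨kw.1, kw.2.1, kw.2.2.1, kw.2.2.2, by rw [ss _ va, ss _ vc, ss _ wd]; norm_num⟩
      · rw [kw.2.1, kw.2.2.1, kw.2.2.2, ss _ vb, ss _ vc, ss _ wd] at e; norm_num at e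
  obtain ⟨p, q, r, s, h6⟩ := h6
  have h7 : 1 < (((F.erase v₁).erase v₂).erase v₃).card := by
    rw [Finset.card_erase_of_mem, Finset.card_erase_of_mem, Finset.card_erase_of_mem hv₁]
    · omega
    · simp [hne.symm, hv₂]
    · simp [h31, h32, hv₃]
  obtain ⟨v₄, hv₄, v₅, hv₅, h45⟩ := Finset.one_lt_card.1 h7
  simp only [Finset.mem_erase] at hv₄ hv₅
  have k4 := h6 v₄ hv₄.2.2.2 hv₄.2.2.1 hv₄.2.1 hv₄.1
  have k5 := h6 v₅ hv₅.2.2.2 hv₅.2.2.1 hv₅.2.1 hv₅.1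
  have e := h2 v₄ hv₄.2.2.2 v₅ hv₅.2.2.2 h45
  have e3 : ∑ x, (v₄ x - v₅ x) * (v₄ x - v₅ x) = 2 := by
    have : ∀ x, (v₄ x - v₅ x) * (v₄ x - v₅ x) = v₄ x * v₄ x + v₅ x * v₅ x - 2 * (v₄ x * v₅ x) := by
      intro x; ring
    simp only [this]
    rw [Finset.sum_sub_distrib, Finset.sum_add_distrib, ← Finset.mul_sum, h3 _ hv₄.2.2.2,
      h3 _ hv₅.2.2.2, e]
    norm_num
  -- both vanish outside `a b c d`
  have hz : ∀ w ∈ F, w a * w a + w b * w b + w c * w c + w d * w d = 3 →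
      ∀ x, x ≠ a → x ≠ b → x ≠ c → x ≠ d → w x = 0 := by
    intro w hw hsum x hxa hxb hxc hxd
    have h8 : ∑ x ∈ ({x, a, b, c, d} : Finset X), w x * w x ≤ 3 := by
      rw [← h3 w hw]
      exact Finset.sum_le_univ_sum_of_nonneg fun x => mul_self_nonneg _
    rw [Finset.sum_insert (by simp [hxa, hxb, hxc, hxd]),
      Finset.sum_insert (by simp [hab, hac, had]), Finset.sum_insert (by simp [hbc, hbd]),
      Finset.sum_insert (by simp [hcd]), Finset.sum_singleton] at h8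
    have h9 : w x * w x ≤ 0 := by linarith
    have h10 := mul_self_nonneg (w x)
    exact mul_self_eq_zero.1 (le_antisymm h9 h10)
  have z4 := hz v₄ hv₄.2.2.2 (by rw [k4.1, k4.2.1, k4.2.2.1, k4.2.2.2.1]; exact k4.2.2.2.2)
  have z5 := hz v₅ hv₅.2.2.2 (by rw [k5.1, k5.2.1, k5.2.2.1, k5.2.2.2.1]; exact k5.2.2.2.2)
  apply h45
  funext x
  by_cases ha : x = a
  · rw [ha, k4.1, k5.1]
  by_cases hb : x = b
  · rw [hb, k4.2.1, k5.2.1]
  by_cases hc : x = c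
  · rw [hc, k4.2.2.1, k5.2.2.1]
  by_cases hd : x = d
  · rw [hd, k4.2.2.2.1, k5.2.2.2.1]
  · rw [z4 x ha hb hc hd, z5 x ha hb hc hd]

/-- The conclusion in a more usable form. -/
theorem sunflower' (F : Finset (X → ℤ)) (h5 : 5 ≤ F.card) (h3 : ∀ v ∈ F, ∑ x, v x * v x = 3)
    (h2 : ∀ v ∈ F, ∀ w ∈ F, v ≠ w → ∑ x, v x * w x = 2) :
    ∃ a b : X, a ≠ b ∧ ∃ α β : ℤ, (α = 1 ∨ α = -1) ∧ (β = 1 ∨ β = -1) ∧
      (∀ v ∈ F, v a = α ∧ v b = β) ∧
      (∀ v ∈ F, ∃ c, c ≠ a ∧ c ≠ b ∧ (v c = 1 ∨ v c = -1) ∧ ∀ x, x ≠ a → x ≠ b → x ≠ c → v x = 0) ∧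
      (∀ v ∈ F, ∀ w ∈ F, ∀ c, c ≠ a → c ≠ b → v c ≠ 0 → w c ≠ 0 → v = w) := by
  classical
  obtain ⟨a, b, hab, α, β, hα, hβ, hF⟩ := sunflower F h5 h3 h2
  have hc : ∀ v ∈ F, ∃ c, c ≠ a ∧ c ≠ b ∧ (v c = 1 ∨ v c = -1) ∧ ∀ x, x ≠ a → x ≠ b → x ≠ c → v x = 0 := by
    intro v hv
    obtain ⟨a', b', c', hab', hac', hbc', wa', wb', wc', w0⟩ := norm3 v (h3 v hv)
    have hm : ∀ x, v x ≠ 0 → x = a' ∨ x = b' ∨ x = c' := by
      intro x hx
      by_contra hcon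
      push Not at hcon
      exact hx (w0 x hcon.1 hcon.2.1 hcon.2.2)
    have ha0 : v a ≠ 0 := by rw [(hF v hv).1]; rcases hα with h | h <;> rw [h] <;> norm_num
    have hb0 : v b ≠ 0 := by rw [(hF v hv).2]; rcases hβ with h | h <;> rw [h] <;> norm_num
    rcases hm a ha0 with rfl | rfl | rfl <;> rcases hm b hb0 with rfl | rfl | rfl
    · exact absurd rfl hab
    · exact ⟨c', hac'.symm, hbc'.symm, wc', w0⟩
    · exact ⟨b', hab'.symm, hbc', wb', fun x h1 h2 h3 => w0 x h1 h3 h2⟩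
    · exact ⟨c', hbc'.symm, hac'.symm, wc', fun x h1 h2 h3 => w0 x h2 h1 h3⟩
    · exact absurd rfl hab
    · exact ⟨a', hab', hac', wa', fun x h1 h2 h3 => w0 x h3 h1 h2⟩
    · exact ⟨b', hbc', hab'.symm, wb', fun x h1 h2 h3 => w0 x h2 h3 h1⟩
    · exact ⟨a', hac', hab', wa', fun x h1 h2 h3 => w0 x h3 h2 h1⟩
    · exact absurd rfl hab
  refine ⟨a, b, hab, α, β, hα, hβ, hF, hc, ?_⟩
  intro v hv w hw c hca hcb hvc hwc
  by_contra hne
  have e := h2 v hv w hw hne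
  obtain ⟨c', hc'a, hc'b, hvc', hv0⟩ := hc v hv
  have hcc : c = c' := by
    by_contra h
    exact hvc (hv0 c hca hcb h)
  subst hcc
  rw [sum3 v w hab (Ne.symm hca) (Ne.symm hcb) hv0, (hF v hv).1, (hF v hv).2, (hF w hw).1, (hF w hw).2] at e
  have xw := val3 w (h3 w hw) c
  rcases hα with rfl | rfl <;> rcases hβ with rfl | rfl <;> rcases hvc' with h | h <;> rw [h] at e <;>
    rcases xw with h' | h' | h' <;> rw [h'] at e <;> first | exact hwc h' | (norm_num at e)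

end

end Cfsg.Agent.Lib.BlockHomo
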