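import Mathlib
import Cfsg.Agent.Lib.BlockHomo
import Cfsg.Agent.Lib.BlockSection
import Cfsg.Agent.Lib.BlockOrth
import Cfsg.Agent.Lib.CharBasic2

/-!
# The principal 2-block of a group with homocyclic Sylow 2-subgroup (S0949)
-/

set_option autoImplicit false
set_option linter.all false
set_option maxHeartbeats 400000

namespace Cfsg.Agent.Lib.BlockHomo

open Cfsg Cfsg.Agent.Lib.BlockRing Cfsg.Agent.Lib.BlockGA
open Cfsg.Agent.Lib.BlockIdem Cfsg.Agent.Lib.BlockThird Cfsg.Agent.Lib.BlockSecond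
open Cfsg.Agent.Lib.CharBasic
open scoped ComplexConjugate
open MonoidAlgebra (single)

universe u

variable {G : Type u} [Group G] [Finite G]

structure HC (M : Ideal AlgInt) (P : Subgroup G) (n : G) (k : ℕ) : Prop where
  hM : IsPModular 2 M
  card : Nat.card P = 2 ^ k
  k4 : 4 ≤ k
  comm : ∀ x ∈ P, ∀ y ∈ P, x * y = y * x
  norm : ∀ x ∈ P, n * x * n⁻¹ ∈ P
  cube : ∀ x ∈ P, n * (n * (n * x * n⁻¹) * n⁻¹) * n⁻¹ = x
  fpf : ∀ x ∈ P, n * x * n⁻¹ = x → x = 1
  fus : ∀ x ∈ P, ∀ y ∈ P, IsConj x y → y = x ∨ y = n * x * n⁻¹ ∨ y = n * (n * x * n⁻¹) * n⁻¹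
  comp : ∀ x ∈ P, x ≠ 1 → ∃ N : Subgroup (Subgroup.centralizer ({x} : Set G)), N.Normal ∧
    ¬ 2 ∣ Nat.card N ∧ N.index = 2 ^ k

variable {M : Ideal AlgInt} {P : Subgroup G} {n : G} {k : ℕ}

namespace HC

/-- The automorphism of `P`. -/
def sg (h : HC M P n k) : P ≃* P where
  toFun x := ⟨n * x * n⁻¹, h.norm x x.2⟩
  invFun x := ⟨n * (n * x * n⁻¹) * n⁻¹, h.norm _ (h.norm x x.2)⟩
  left_inv x := Subtype.ext (h.cube x x.2)
  right_inv x := Subtype.ext (h.cube x x.2)
  map_mul' x y := Subtype.ext (by simp [mul_assoc])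

theorem coe_sg (h : HC M P n k) (x : P) : ((h.sg x : P) : G) = n * x * n⁻¹ := rfl

theorem sg_cube (h : HC M P n k) (x : P) : h.sg (h.sg (h.sg x)) = x := Subtype.ext (h.cube x x.2)

theorem sg_fpf (h : HC M P n k) {x : P} (hx : h.sg x = x) : x = 1 :=
  Subtype.ext (h.fpf x x.2 (congrArg Subtype.val hx))

theorem sg_fpf2 (h : HC M P n k) {x : P} (hx : h.sg (h.sg x) = x) : x = 1 := by
  apply h.sg_fpf
  have := h.sg_cube x
  rw [hx] at this
  exact this

theorem isConj_sg (h : HC M P n k) (x : P) : IsConj (x : G) (h.sg x : G) :=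
  isConj_iff.2 ⟨n, rfl⟩

theorem isConj_iff' (h : HC M P n k) (x y : P) :
    IsConj (x : G) (y : G) ↔ y = x ∨ y = h.sg x ∨ y = h.sg (h.sg x) := by
  constructor
  · intro hc
    rcases h.fus x x.2 y y.2 hc with h1 | h1 | h1
    · exact Or.inl (Subtype.ext h1)
    · exact Or.inr (Or.inl (Subtype.ext h1))
    · exact Or.inr (Or.inr (Subtype.ext h1))
  · rintro (rfl | rfl | rfl)
    · exact IsConj.refl _
    · exact h.isConj_sg x
    · exact (h.isConj_sg x).trans (h.isConj_sg _)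

theorem exists_order (h : HC M P n k) (x : P) : ∃ j, orderOf (x : G) = 2 ^ j := by
  have h1 : orderOf x ∣ 2 ^ k := by
    rw [← h.card]; exact orderOf_dvd_natCard x
  obtain ⟨j, -, hj⟩ := (Nat.dvd_prime_pow Nat.prime_two).1 h1
  exact ⟨j, by rw [Subgroup.orderOf_coe]; exact hj⟩

theorem isPPart_self (h : HC M P n k) (x : P) : IsPPart 2 (x : G) (x : G) :=
  ⟨1, mul_one _, Commute.one_right _, h.exists_order x, by rw [orderOf_one]; norm_num⟩

end HC

open scoped Classical in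
/-- The characters of the principal block. -/
noncomputable def PB (M : Ideal AlgInt) (G : Type u) [Group G] [Finite G] : Finset (IrrCharacter G) :=
  Finset.univ.filter (fun χ => χ ∈ principalBlock M G)

theorem mem_PB {χ : IrrCharacter G} : χ ∈ PB M G ↔ χ ∈ principalBlock M G := by
  simp [PB]

theorem finsum_PB (f : IrrCharacter G → ℂ) :
    ∑ᶠ χ ∈ principalBlock M G, f χ = ∑ χ ∈ PB M G, f χ := by
  classical
  rw [finsum_mem_eq_finite_toFinset_sum _ (Set.toFinite _)]
  refine Finset.sum_congr ?_ fun _ _ => rfl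
  ext; simp [PB]

namespace HC

theorem sum_conj (h : HC M P n k) {x y : P} (hx : x ≠ 1) (hxy : IsConj (x : G) (y : G)) :
    ∑ χ ∈ PB M G, (χ : G → ℂ) x * conj ((χ : G → ℂ) y) = 2 ^ k := by
  obtain ⟨N, hN, hN2, hNi⟩ := h.comp x x.2 (fun h => hx (Subtype.ext h))
  obtain ⟨j, hj⟩ := h.exists_order x
  have h1 := BlockSection.principal_section_sum h.hM hj (H := Subgroup.centralizer ({(x : G)} : Set G))
    (fun g => by rw [Subgroup.mem_centralizer_singleton_iff]; exact ⟨fun h => h.symm, fun h => h.symm⟩)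
    (y := 1) (y' := 1) (by rw [orderOf_one]; norm_num) (by rw [orderOf_one]; norm_num)
  rw [BlockSection.sum_principal_of_normal_complement h.hM hN2 hNi (by rw [orderOf_one]; norm_num)
    (by rw [orderOf_one]; norm_num), finsum_PB] at h1
  refine Eq.trans (Finset.sum_congr rfl fun χ _ => ?_) (h1.trans (by norm_num))
  have h2 : (χ : G → ℂ) y = (χ : G → ℂ) x := χ.2.isClassFunction.conj_eq hxy.symm
  rw [h2]
  simp

theorem sum_not_conj (h : HC M P n k) {x y : P} (hxy : ¬ IsConj (x : G) (y : G)) :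
    ∑ χ ∈ PB M G, (χ : G → ℂ) x * conj ((χ : G → ℂ) y) = 0 := by
  have h1 := BlockOrth.block_orthogonality h.hM (isPBlock_principal (G := G)) (h.isPPart_self x)
    (h.isPPart_self y) hxy
  rw [finsum_PB] at h1
  rw [← h1]
  refine Finset.sum_congr rfl fun χ _ => ?_
  rw [χ.2.inv]

open scoped Classical in
theorem sum_eq (h : HC M P n k) {x y : P} (hx : x ≠ 1) :
    ∑ χ ∈ PB M G, (χ : G → ℂ) x * conj ((χ : G → ℂ) y) =
      (2 : ℂ) ^ k * ((if y = x then 1 else 0) + (if y = h.sg x then 1 else 0) +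
        (if y = h.sg (h.sg x) then 1 else 0)) := by
  have h1 : h.sg x ≠ x := fun h' => hx (h.sg_fpf h')
  have h2 : h.sg (h.sg x) ≠ x := fun h' => hx (h.sg_fpf2 h')
  have h3 : h.sg (h.sg x) ≠ h.sg x := fun h' => h1 (h.sg.injective h')
  by_cases hc : IsConj (x : G) (y : G)
  · rw [h.sum_conj hx hc]
    rcases (h.isConj_iff' x y).1 hc with rfl | rfl | rfl
    · rw [if_pos rfl, if_neg h1.symm, if_neg h2.symm]; ring
    · rw [if_neg h1, if_pos rfl, if_neg h3.symm]; ring
    · rw [if_neg h2, if_neg h3, if_pos rfl]; ring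
  · rw [h.sum_not_conj hc]
    have h4 := (h.isConj_iff' x y).not.1 hc
    push Not at h4
    rw [if_neg h4.1, if_neg h4.2.1, if_neg h4.2.2]
    ring

theorem sum_mul (h : HC M P n k) [Fintype P] {x : P} (hx : x ≠ 1) (f : P → ℂ) :
    ∑ y, f y * ∑ χ ∈ PB M G, (χ : G → ℂ) x * conj ((χ : G → ℂ) y) =
      (2 : ℂ) ^ k * (f x + f (h.sg x) + f (h.sg (h.sg x))) := by
  classical
  have h1 : ∀ y, f y * ∑ χ ∈ PB M G, (χ : G → ℂ) x * conj ((χ : G → ℂ) y) =
      (if y = x then (2 : ℂ) ^ k * f y else 0) + (if y = h.sg x then (2 : ℂ) ^ k * f y else 0) +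
        (if y = h.sg (h.sg x) then (2 : ℂ) ^ k * f y else 0) := by
    intro y
    rw [h.sum_eq hx]
    split_ifs <;> ring
  rw [Finset.sum_congr rfl fun y _ => h1 y, Finset.sum_add_distrib, Finset.sum_add_distrib,
    Finset.sum_ite_eq' Finset.univ x, Finset.sum_ite_eq' Finset.univ (h.sg x),
    Finset.sum_ite_eq' Finset.univ (h.sg (h.sg x))]
  simp only [Finset.mem_univ, if_true]
  ring

/-! ### characters of `P` -/

theorem deg_one (h : HC M P n k) (l : IrrCharacter P) : (l : P → ℂ) 1 = 1 :=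
  l.2.one_eq_one_of_comm fun a b => Subtype.ext (h.comm a a.2 b b.2)

theorem lmul (h : HC M P n k) (l : IrrCharacter P) (a b : P) :
    (l : P → ℂ) (a * b) = (l : P → ℂ) a * (l : P → ℂ) b :=
  l.2.isCharacter.map_mul_of_linear (h.deg_one l) a b

/-- The twist of a character of `P`. -/
def tw (h : HC M P n k) (l : IrrCharacter P) : IrrCharacter P :=
  ⟨fun x => (l : P → ℂ) (h.sg x), (isIrrCharacter_comp_mulEquiv_iff h.sg).2 l.2⟩

theorem tw_apply (h : HC M P n k) (l : IrrCharacter P) (x : P) :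
    (h.tw l : P → ℂ) x = (l : P → ℂ) (h.sg x) := rfl

theorem tw_cube (h : HC M P n k) (l : IrrCharacter P) : h.tw (h.tw (h.tw l)) = l := by
  apply Subtype.ext
  funext x
  show (l : P → ℂ) (h.sg (h.sg (h.sg x))) = (l : P → ℂ) x
  rw [h.sg_cube]

theorem tw_fpf (h : HC M P n k) {l : IrrCharacter P} (hl : h.tw l = l) : l = triv P := by
  -- `x ↦ σ(x) x⁻¹` is surjective
  have hinj : Function.Injective (fun x : P => h.sg x * x⁻¹) := by
    intro x y hxy
    simp only at hxy
    have h1 : h.sg (x * y⁻¹) = x * y⁻¹ := by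
      have e1 : h.sg x = h.sg y * y⁻¹ * x := by rw [← hxy]; group
      have e2 : x * y⁻¹ = y⁻¹ * x := Subtype.ext (h.comm x x.2 _ (P.inv_mem y.2))
      rw [map_mul, map_inv, e1, mul_assoc (h.sg y), ← e2]
      have e3 : h.sg y * (x * y⁻¹) = (x * y⁻¹) * h.sg y :=
        Subtype.ext (h.comm _ (h.sg y).2 _ (x * y⁻¹).2)
      rw [e3]; group
    have h2 := h.sg_fpf h1
    exact mul_inv_eq_one.1 h2
  have hsurj := Finite.surjective_of_injective hinj
  apply Subtype.ext
  funext x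
  obtain ⟨y, rfl⟩ := hsurj x
  simp only [coe_triv]
  rw [h.lmul]
  have h1 : (l : P → ℂ) (h.sg y) = (l : P → ℂ) y := by rw [← h.tw_apply, hl]
  rw [h1, ← h.lmul, mul_inv_cancel, h.deg_one]

theorem tw_fpf2 (h : HC M P n k) {l : IrrCharacter P} (hl : h.tw (h.tw l) = l) : l = triv P := by
  apply h.tw_fpf
  have := h.tw_cube l
  rw [hl] at this
  exact this

theorem tw_inj (h : HC M P n k) : Function.Injective h.tw := by
  intro l m hlm
  rw [← h.tw_cube l, hlm, h.tw_cube]

theorem tw_triv (h : HC M P n k) : h.tw (triv P) = triv P := by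
  apply Subtype.ext
  funext x
  rfl

theorem card_irrP (h : HC M P n k) : Fintype.card (IrrCharacter P) = 2 ^ k := by
  have h2 := sum_degree_sq (G := P)
  simp only [h.deg_one, one_pow, Finset.sum_const, Finset.card_univ, nsmul_eq_mul, mul_one, h.card] at h2
  exact_mod_cast h2

end HC

end Cfsg.Agent.Lib.BlockHomo
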