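import Mathlib
import Cfsg.Agent.Lib.BlockHomo2

/-!
# Multiplicities for the principal 2-block (S0949)
-/

set_option autoImplicit false
set_option linter.all false
set_option maxHeartbeats 400000

namespace Cfsg.Agent.Lib.BlockHomo

open Cfsg Cfsg.Agent.Lib.BlockRing Cfsg.Agent.Lib.BlockGA
open Cfsg.Agent.Lib.BlockIdem Cfsg.Agent.Lib.BlockThird Cfsg.Agent.Lib.BlockSecond
open Cfsg.Agent.Lib.CharBasic
open scoped ComplexConjugate
open MonoidAlgebra (single)

universe u

variable {G : Type u} [Group G] [Finite G]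
variable {M : Ideal AlgInt} {P : Subgroup G} {n : G} {k : ℕ}

section aN

variable [Fintype P]

/-- multiplicity of `l` in the restriction of `χ` -/
noncomputable def aN (χ : IrrCharacter G) (l : IrrCharacter P) : ℕ :=
  Classical.choose ((χ.2.isCharacter.restrict P).classInner_nat l.2.isCharacter)

theorem aN_spec (χ : IrrCharacter G) (l : IrrCharacter P) :
    classInner (fun x : P => (χ : G → ℂ) x) (l : P → ℂ) = aN χ l :=
  Classical.choose_spec ((χ.2.isCharacter.restrict P).classInner_nat l.2.isCharacter)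

/-- differences of multiplicities -/
noncomputable def dd (χ : IrrCharacter G) (l : IrrCharacter P) : ℤ := aN χ l - aN χ (triv P)

theorem dd_triv (χ : IrrCharacter G) : dd χ (triv P) = 0 := by rw [dd]; ring

theorem dd_eq (χ : IrrCharacter G) (l : IrrCharacter P) :
    (dd χ l : ℂ) = (Nat.card P : ℂ)⁻¹ * ∑ x : P, (χ : G → ℂ) x * conj ((l : P → ℂ) x - 1) := by
  rw [dd]
  push_cast
  rw [← aN_spec, ← aN_spec, classInner_def, classInner_def, ← mul_sub, ← Finset.sum_sub_distrib]
  congr 1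
  refine Finset.sum_congr rfl fun x _ => ?_
  simp [coe_triv]
  ring

theorem conj_dd (χ : IrrCharacter G) (l : IrrCharacter P) : conj (dd χ l : ℂ) = dd χ l := by
  simp

end aN

namespace HC

variable [Fintype P]

theorem value (h : HC M P n k) (χ : IrrCharacter G) {x : P} (hx : x ≠ 1) :
    (χ : G → ℂ) x = ∑ l : IrrCharacter P, (dd χ l : ℂ) * (l : P → ℂ) x := by
  have h1 := (χ.2.isCharacter.restrict P).isClassFunction.expansion_apply x
  have h2 := sum_degree_mul x hx
  simp only [h.deg_one, one_mul] at h2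
  have h3 : ∀ l : IrrCharacter P, (dd χ l : ℂ) * (l : P → ℂ) x =
      classInner (fun x : P => (χ : G → ℂ) x) (l : P → ℂ) * (l : P → ℂ) x -
        (aN χ (triv P) : ℂ) * (l : P → ℂ) x := by
    intro l
    rw [aN_spec, dd]; push_cast; ring
  rw [Finset.sum_congr rfl fun l _ => h3 l, Finset.sum_sub_distrib, ← Finset.mul_sum, h2, mul_zero,
    sub_zero]
  exact h1

theorem degree (h : HC M P n k) (χ : IrrCharacter G) :
    (χ : G → ℂ) 1 = ∑ l : IrrCharacter P, (dd χ l : ℂ) + 2 ^ k * (aN χ (triv P) : ℂ) := by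
  have h1 := (χ.2.isCharacter.restrict P).isClassFunction.expansion_apply 1
  simp only [h.deg_one, mul_one] at h1
  have h3 : ∀ l : IrrCharacter P, (dd χ l : ℂ) =
      classInner (fun x : P => (χ : G → ℂ) x) (l : P → ℂ) - (aN χ (triv P) : ℂ) := by
    intro l
    rw [aN_spec, dd]; push_cast; ring
  rw [Finset.sum_congr rfl fun l _ => h3 l, Finset.sum_sub_distrib, Finset.sum_const, Finset.card_univ,
    h.card_irrP, nsmul_eq_mul]
  push_cast
  rw [sub_add_cancel]
  exact h1

theorem dd_one (h : HC M P n k) {l : IrrCharacter P} (hl : l ≠ triv P) : dd (triv G) l = -1 := by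
  classical
  have h1 := aN_spec (triv G) l
  have h2 := aN_spec (triv G) (triv P)
  have e : (fun x : P => ((triv G : IrrCharacter G) : G → ℂ) x) = (triv P : P → ℂ) := rfl
  rw [e, irr_orthonormal, if_neg hl.symm] at h1
  rw [e, irr_orthonormal, if_pos rfl] at h2
  have h1' : aN (triv G) l = 0 := by exact_mod_cast h1.symm
  have h2' : aN (triv G) (triv P) = 1 := by exact_mod_cast h2.symm
  rw [dd, h1', h2']
  norm_num

theorem sum_deg_dd (h : HC M P n k) (l : IrrCharacter P) :
    ∑ χ ∈ PB M G, (χ : G → ℂ) 1 * (dd χ l : ℂ) = 0 := by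
  have h1 : ∀ χ : IrrCharacter G, (χ : G → ℂ) 1 * (dd χ l : ℂ) =
      (Nat.card P : ℂ)⁻¹ * ∑ x : P, ((l : P → ℂ) x - 1) * ((χ : G → ℂ) ((1 : P) : G) * conj ((χ : G → ℂ) x)) := by
    intro χ
    rw [← conj_dd, dd_eq, map_mul, map_inv₀, map_natCast, map_sum, mul_left_comm]
    congr 1
    rw [Finset.mul_sum]
    refine Finset.sum_congr rfl fun x _ => ?_
    rw [map_mul, Complex.conj_conj, Subgroup.coe_one]
    ring
  rw [Finset.sum_congr rfl fun χ _ => h1 χ, ← Finset.mul_sum, Finset.sum_comm]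
  have h2 : ∀ x : P, ∑ χ ∈ PB M G, ((l : P → ℂ) x - 1) * ((χ : G → ℂ) ((1 : P) : G) * conj ((χ : G → ℂ) x)) = 0 := by
    intro x
    rw [← Finset.mul_sum]
    by_cases hx : x = 1
    · rw [hx, h.deg_one, sub_self, zero_mul]
    · rw [h.sum_not_conj, mul_zero]
      intro hc
      rw [Subgroup.coe_one] at hc
      have := isConj_one_right.1 hc
      exact hx (Subtype.ext this)
  rw [Finset.sum_congr rfl fun x _ => h2 x, Finset.sum_const_zero, mul_zero]

open scoped Classical in
theorem inner_sub_one (h : HC M P n k) {l l' : IrrCharacter P} (hl : l ≠ triv P) (hl' : l' ≠ triv P) :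
    (Nat.card P : ℂ)⁻¹ * ∑ x : P, conj ((l : P → ℂ) x - 1) * ((l' : P → ℂ) x - 1) =
      (if l' = l then 1 else 0) + 1 := by
  have h1 : classInner ((l' : P → ℂ) - (triv P : P → ℂ)) ((l : P → ℂ) - (triv P : P → ℂ)) =
      (if l' = l then 1 else 0) + 1 := by
    rw [classInner_sub_left, classInner_sub_right, classInner_sub_right, irr_orthonormal,
      irr_orthonormal, irr_orthonormal, irr_orthonormal, if_neg hl', if_neg hl.symm, if_pos rfl]
    ring
  rw [← h1, classInner_def]
  congr 1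
  refine Finset.sum_congr rfl fun x _ => ?_
  simp [coe_triv]
  ring

open scoped Classical in
theorem gram (h : HC M P n k) {l l' : IrrCharacter P} (hl : l ≠ triv P) (hl' : l' ≠ triv P) :
    ∑ χ ∈ PB M G, dd χ l * dd χ l' =
      3 + ((if l' = l then 1 else 0) + (if h.tw l' = l then 1 else 0) +
        (if h.tw (h.tw l') = l then 1 else 0) : ℤ) := by
  have hq : (Nat.card P : ℂ) ≠ 0 := by exact_mod_cast Nat.card_pos.ne'
  have key : ∑ χ ∈ PB M G, (dd χ l : ℂ) * (dd χ l' : ℂ) =
      3 + ((if l' = l then 1 else 0) + (if h.tw l' = l then 1 else 0) +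
        (if h.tw (h.tw l') = l then 1 else 0) : ℂ) := by
    have h1 : ∀ χ : IrrCharacter G, (dd χ l : ℂ) * (dd χ l' : ℂ) =
        (Nat.card P : ℂ)⁻¹ * ((Nat.card P : ℂ)⁻¹ * ∑ x : P, ∑ y : P, conj ((l : P → ℂ) x - 1) *
          (((l' : P → ℂ) y - 1) * ((χ : G → ℂ) x * conj ((χ : G → ℂ) y)))) := by
      intro χ
      rw [← conj_dd χ l', dd_eq, dd_eq, map_mul, map_inv₀, map_natCast, map_sum]
      rw [mul_mul_mul_comm, mul_assoc, Finset.sum_mul_sum]
      congr 2
      refine Finset.sum_congr rfl fun x _ => Finset.sum_congr rfl fun y _ => ?_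
      rw [map_mul, Complex.conj_conj]
      ring
    rw [Finset.sum_congr rfl fun χ _ => h1 χ, ← Finset.mul_sum, ← Finset.mul_sum, Finset.sum_comm]
    have h2 : ∀ x : P, ∑ χ ∈ PB M G, ∑ y : P, conj ((l : P → ℂ) x - 1) *
          (((l' : P → ℂ) y - 1) * ((χ : G → ℂ) x * conj ((χ : G → ℂ) y))) =
        (Nat.card P : ℂ) * (conj ((l : P → ℂ) x - 1) * ((l' : P → ℂ) x - 1) +
          conj ((l : P → ℂ) x - 1) * ((h.tw l' : P → ℂ) x - 1) +
          conj ((l : P → ℂ) x - 1) * ((h.tw (h.tw l') : P → ℂ) x - 1)) := by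
      intro x
      rw [Finset.sum_comm]
      by_cases hx : x = 1
      · simp [hx, h.deg_one]
      · have h3 := h.sum_mul hx (fun y => (l' : P → ℂ) y - 1)
        have h4 : (Nat.card P : ℂ) = 2 ^ k := by rw [h.card]; norm_num
        rw [← h4] at h3
        have h5 : ∑ y : P, ∑ χ ∈ PB M G, conj ((l : P → ℂ) x - 1) *
          (((l' : P → ℂ) y - 1) * ((χ : G → ℂ) x * conj ((χ : G → ℂ) y))) =
          conj ((l : P → ℂ) x - 1) * ∑ y, ((l' : P → ℂ) y - 1) *
            ∑ χ ∈ PB M G, (χ : G → ℂ) x * conj ((χ : G → ℂ) y) := by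
          rw [Finset.mul_sum]
          refine Finset.sum_congr rfl fun y _ => ?_
          rw [Finset.mul_sum, Finset.mul_sum]
        rw [h5, h3]
        simp only [tw_apply]
        ring
    rw [Finset.sum_congr rfl fun x _ => h2 x, ← Finset.mul_sum, inv_mul_cancel_left₀ hq,
      Finset.sum_add_distrib, Finset.sum_add_distrib, mul_add, mul_add,
      h.inner_sub_one hl hl', h.inner_sub_one hl (fun e => hl' (h.tw_inj (e.trans h.tw_triv.symm))),
      h.inner_sub_one hl (fun e => hl' (h.tw_inj ((h.tw_inj (e.trans h.tw_triv.symm)).trans h.tw_triv.symm)))]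
    ring
  have h6 : ((∑ χ ∈ PB M G, dd χ l * dd χ l' : ℤ) : ℂ) = ((3 + ((if l' = l then 1 else 0) +
      (if h.tw l' = l then 1 else 0) + (if h.tw (h.tw l') = l then 1 else 0) : ℤ) : ℤ) : ℂ) := by
    push_cast
    exact key
  exact_mod_cast h6

/-- the vectors -/
noncomputable def vv (h : HC M P n k) (l : IrrCharacter P) : IrrCharacter G → ℤ := by
  classical exact fun χ => if χ ∈ PB M G ∧ χ ≠ triv G then -dd χ l else 0

theorem vv_apply (h : HC M P n k) (l : IrrCharacter P) {χ : IrrCharacter G} (hχ : χ ∈ PB M G)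
    (hχ1 : χ ≠ triv G) : h.vv l χ = -dd χ l := by
  rw [vv, if_pos ⟨hχ, hχ1⟩]

theorem vv_triv (h : HC M P n k) (l : IrrCharacter P) : h.vv l (triv G) = 0 := by
  rw [vv, if_neg (fun h' => h'.2 rfl)]

theorem vv_not (h : HC M P n k) (l : IrrCharacter P) {χ : IrrCharacter G} (hχ : χ ∉ PB M G) :
    h.vv l χ = 0 := by
  rw [vv, if_neg (fun h' => hχ h'.1)]

theorem triv_mem_PB (h : HC M P n k) : triv G ∈ PB M G := by
  have := isPrime h.hM
  exact mem_PB.2 triv_mem

open scoped Classical in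
theorem vv_gram (h : HC M P n k) {l l' : IrrCharacter P} (hl : l ≠ triv P) (hl' : l' ≠ triv P) :
    ∑ χ, h.vv l χ * h.vv l' χ =
      2 + ((if l' = l then 1 else 0) + (if h.tw l' = l then 1 else 0) +
        (if h.tw (h.tw l') = l then 1 else 0) : ℤ) := by
  have h1 := h.gram hl hl'
  have h2 : ∑ χ, h.vv l χ * h.vv l' χ = ∑ χ ∈ PB M G, h.vv l χ * h.vv l' χ := by
    symm
    apply Finset.sum_subset (Finset.subset_univ _)
    intro χ _ hχ
    rw [h.vv_not l hχ, zero_mul]
  have h3 : ∑ χ ∈ PB M G, dd χ l * dd χ l' = 1 + ∑ χ ∈ PB M G, h.vv l χ * h.vv l' χ := by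
    rw [← Finset.add_sum_erase _ _ h.triv_mem_PB, ← Finset.add_sum_erase _ _ h.triv_mem_PB,
      h.dd_one hl, h.dd_one hl', h.vv_triv]
    have : ∑ x ∈ (PB M G).erase (triv G), dd x l * dd x l' =
        ∑ x ∈ (PB M G).erase (triv G), h.vv l x * h.vv l' x := by
      refine Finset.sum_congr rfl fun χ hχ => ?_
      rw [Finset.mem_erase] at hχ
      rw [h.vv_apply l hχ.2 hχ.1, h.vv_apply l' hχ.2 hχ.1]
      ring
    rw [this]
    ring
  rw [h2]
  linarith

theorem tw_ne (h : HC M P n k) {l : IrrCharacter P} (hl : l ≠ triv P) : h.tw l ≠ l ∧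
    h.tw (h.tw l) ≠ l ∧ h.tw (h.tw l) ≠ h.tw l :=
  ⟨fun e => hl (h.tw_fpf e), fun e => hl (h.tw_fpf2 e), fun e => hl (h.tw_fpf (h.tw_inj e))⟩

theorem vv_norm (h : HC M P n k) {l : IrrCharacter P} (hl : l ≠ triv P) :
    ∑ χ, h.vv l χ * h.vv l χ = 3 := by
  classical
  rw [h.vv_gram hl hl, if_pos rfl, if_neg (h.tw_ne hl).1, if_neg (h.tw_ne hl).2.1]
  norm_num

theorem vv_eq_iff (h : HC M P n k) {l l' : IrrCharacter P} (hl : l ≠ triv P) (hl' : l' ≠ triv P) :
    h.vv l = h.vv l' ↔ (l' = l ∨ h.tw l' = l ∨ h.tw (h.tw l') = l) := by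
  classical
  have hg := h.vv_gram hl hl'
  constructor
  · intro e
    by_contra hcon
    push Not at hcon
    rw [if_neg hcon.1, if_neg hcon.2.1, if_neg hcon.2.2, ← e, h.vv_norm hl] at hg
    norm_num at hg
  · intro e
    have h3 : ∑ χ, h.vv l χ * h.vv l' χ = 3 := by
      rw [hg]
      rcases e with rfl | rfl | rfl
      · rw [if_pos rfl, if_neg (h.tw_ne hl').1, if_neg (h.tw_ne hl').2.1]; norm_num
      · rw [if_neg (h.tw_ne hl').1.symm, if_pos rfl, if_neg (h.tw_ne hl').2.2]; norm_num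
      · rw [if_neg (h.tw_ne hl').2.1.symm, if_neg (h.tw_ne hl').2.2.symm, if_pos rfl]; norm_num
    have h4 : ∑ χ, (h.vv l χ - h.vv l' χ) * (h.vv l χ - h.vv l' χ) = 0 := by
      have : ∀ χ, (h.vv l χ - h.vv l' χ) * (h.vv l χ - h.vv l' χ) =
          h.vv l χ * h.vv l χ + h.vv l' χ * h.vv l' χ - 2 * (h.vv l χ * h.vv l' χ) := by
        intro χ; ring
      simp only [this]
      rw [Finset.sum_sub_distrib, Finset.sum_add_distrib, ← Finset.mul_sum, h.vv_norm hl,
        h.vv_norm hl', h3]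
      norm_num
    funext χ
    have h5 := (Finset.sum_eq_zero_iff_of_nonneg (fun χ _ => mul_self_nonneg _)).1 h4 χ (Finset.mem_univ _)
    have := mul_self_eq_zero.1 h5
    omega

theorem vv_gram_ne (h : HC M P n k) {l l' : IrrCharacter P} (hl : l ≠ triv P) (hl' : l' ≠ triv P)
    (hne : h.vv l ≠ h.vv l') : ∑ χ, h.vv l χ * h.vv l' χ = 2 := by
  classical
  rw [Ne, h.vv_eq_iff hl hl'] at hne
  push Not at hne
  rw [h.vv_gram hl hl', if_neg hne.1, if_neg hne.2.1, if_neg hne.2.2]
  norm_num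

/-- The family of vectors. -/
noncomputable def FF (h : HC M P n k) : Finset (IrrCharacter G → ℤ) := by
  classical exact (Finset.univ.erase (triv P)).image h.vv

theorem mem_FF (h : HC M P n k) {v : IrrCharacter G → ℤ} : v ∈ h.FF ↔ ∃ l, l ≠ triv P ∧ h.vv l = v := by
  simp [FF]

theorem five_le (h : HC M P n k) : 5 ≤ h.FF.card := by
  classical
  have h1 : (Finset.univ.erase (triv P)).card ≤ 3 * h.FF.card := by
    apply Finset.card_le_mul_card_image (f := h.vv)
    intro v hv
    obtain ⟨l, hl, rfl⟩ := Finset.mem_image.1 hv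
    rw [Finset.mem_erase] at hl
    have h2 : (Finset.univ.erase (triv P)).filter (fun x => h.vv x = h.vv l) ⊆
        {l, h.tw l, h.tw (h.tw l)} := by
      intro m hm
      rw [Finset.mem_filter, Finset.mem_erase] at hm
      simp only [Finset.mem_insert, Finset.mem_singleton]
      rcases (h.vv_eq_iff hm.1.1 hl.1).1 hm.2 with e | e | e
      · exact Or.inl e.symm
      · exact Or.inr (Or.inl e.symm)
      · exact Or.inr (Or.inr e.symm)
    exact (Finset.card_le_card h2).trans Finset.card_le_three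
  rw [Finset.card_erase_of_mem (Finset.mem_univ _), Finset.card_univ, h.card_irrP] at h1
  have h3 : 2 ^ 4 ≤ 2 ^ k := Nat.pow_le_pow_right (by norm_num) h.k4
  omega

end HC

end Cfsg.Agent.Lib.BlockHomo
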