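import Mathlib
import Cfsg.Agent.Lib.BlockHomo3

/-!
# The principal 2-block of a group with homocyclic Sylow 2-subgroup: a linear character (S0949)
-/

set_option autoImplicit false
set_option linter.all false
set_option maxHeartbeats 400000

namespace Cfsg.Agent.Lib.BlockHomo

open Cfsg Cfsg.Agent.Lib.BlockRing Cfsg.Agent.Lib.BlockGA
open Cfsg.Agent.Lib.BlockIdem Cfsg.Agent.Lib.BlockThird Cfsg.Agent.Lib.BlockSecond
open Cfsg.Agent.Lib.CharBasic
open scoped ComplexConjugate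
open MonoidAlgebra (single)

universe u

variable {G : Type u} [Group G] [Finite G]
variable {M : Ideal AlgInt} {P : Subgroup G} {n : G} {k : ℕ}

/-- Class structure constants: `g⁻¹` is not a product of two conjugates of `z`. -/
theorem sum_sq_div (z g : G) (h : ∀ a : G, ¬ IsConj (z * (a * z * a⁻¹)) g⁻¹) :
    ∑ χ : IrrCharacter G, (χ : G → ℂ) z * (χ : G → ℂ) z * (χ : G → ℂ) g / (χ : G → ℂ) 1 = 0 := by
  classical
  have := Fintype.ofFinite G
  have hG : (Nat.card G : ℂ) ≠ 0 := by exact_mod_cast Nat.card_pos.ne'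
  have h1 : ∀ χ : IrrCharacter G, (χ : G → ℂ) z * (χ : G → ℂ) z * (χ : G → ℂ) g / (χ : G → ℂ) 1 =
      (Nat.card G : ℂ)⁻¹ * ∑ a : G, (χ : G → ℂ) (z * (a * z * a⁻¹)) * conj ((χ : G → ℂ) g⁻¹) := by
    intro χ
    have e := BlockOrth.sum_conj_char χ.2 z z
    have h0 := χ.2.one_ne_zero
    rw [χ.2.inv, Complex.conj_conj, ← Finset.sum_mul]
    field_simp
    linear_combination (-(χ : G → ℂ) g) * e
  rw [Finset.sum_congr rfl fun χ _ => h1 χ, ← Finset.mul_sum, Finset.sum_comm]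
  have h2 : ∀ a : G, ∑ χ : IrrCharacter G, (χ : G → ℂ) (z * (a * z * a⁻¹)) * conj ((χ : G → ℂ) g⁻¹) = 0 := by
    intro a
    rw [column_orthogonality, if_neg (h a)]
  rw [Finset.sum_congr rfl fun a _ => h2 a, Finset.sum_const_zero, mul_zero]

theorem isConj_inv_of_invol {z a : G} (hz : z * z = 1) :
    IsConj (z * (a * z * a⁻¹)) (z * (a * z * a⁻¹))⁻¹ := by
  have hz' : z⁻¹ = z := inv_eq_of_mul_eq_one_left hz
  refine isConj_iff.2 ⟨z, ?_⟩
  have : (z * (a * z * a⁻¹))⁻¹ = a * z⁻¹ * a⁻¹ * z⁻¹ := by group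
  rw [this, hz']
  calc z * (z * (a * z * a⁻¹)) * z = (z * z) * (a * z * a⁻¹) * z := by group
    _ = _ := by rw [hz, one_mul]

namespace HC

theorem inv_ne (h : HC M P n k) {x : P} (hx : x * x ≠ 1) : ¬ IsConj (x : G) ((x⁻¹ : P) : G) := by
  intro hc
  have hx1 : x ≠ 1 := by rintro rfl; exact hx (one_mul 1)
  rcases (h.isConj_iff' x x⁻¹).1 hc with e | e | e
  · apply hx
    nth_rewrite 1 [← e]
    rw [inv_mul_cancel]
  · have e2 : h.sg (h.sg x) = x := by rw [← e, map_inv, ← e, inv_inv]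
    exact hx1 (h.sg_fpf2 e2)
  · have e2 : h.sg x⁻¹ = x := by rw [e, h.sg_cube]
    have e3 : h.sg x = x⁻¹ := by rw [← inv_inj, ← map_inv, e2, inv_inv]
    have e4 : h.sg (h.sg x) = h.sg x := by rw [← e, e3]
    exact hx1 (h.sg_fpf (h.sg.injective e4))

/-- The sum formula over the principal block. -/
theorem sum_sq (h : HC M P n k) {x z : P} (hz : z * z = 1) (hx : x * x ≠ 1) :
    ∑ χ ∈ PB M G, (χ : G → ℂ) z * (χ : G → ℂ) z * (χ : G → ℂ) x / (χ : G → ℂ) 1 = 0 := by
  classical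
  have hx1 : x ≠ 1 := by rintro rfl; exact hx (one_mul 1)
  have hcomp := h.comp x x.2 (fun h => hx1 (Subtype.ext h))
  obtain ⟨j, hj⟩ := h.exists_order x
  set H := Subgroup.centralizer ({(x : G)} : Set G) with hH
  obtain ⟨N, hN, hN2, hNi⟩ := hcomp
  have hmem : ∀ g, g ∈ H ↔ Commute (x : G) g :=
    fun g => by rw [hH, Subgroup.mem_centralizer_singleton_iff]; exact ⟨fun h => h.symm, fun h => h.symm⟩
  have fH : Fintype H := Fintype.ofFinite H
  have h1r : ¬ 2 ∣ orderOf (1 : G) := by rw [orderOf_one]; norm_num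
  have hE : eB (principalBlock M H) = BlockCore.normE N := BlockCore.eB_of_normal_complement h.hM hN2 hNi
  have hin : ∀ χ : IrrCharacter G, χ ∈ principalBlock M G →
      lin (χ : G → ℂ) (single ((x : G) * 1) 1 * incH H (BlockCore.normE N)) = (χ : G → ℂ) x := by
    intro χ hχ
    rw [← hE, BlockSection.principal_section h.hM hj h1r (Commute.one_right _) hmem hχ, mul_one]
  have hout : ∀ χ : IrrCharacter G, χ ∉ principalBlock M G →
      lin (χ : G → ℂ) (single ((x : G) * 1) 1 * incH H (BlockCore.normE N)) = 0 := by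
    intro χ hχ
    rw [← hE, BlockSection.not_principal_of_principal h.hM hj h1r (Commute.one_right _) hmem hχ]
  have h2 : ∑ χ ∈ PB M G, (χ : G → ℂ) z * (χ : G → ℂ) z * (χ : G → ℂ) x / (χ : G → ℂ) 1 =
      ∑ χ : IrrCharacter G, (χ : G → ℂ) z * (χ : G → ℂ) z *
        lin (χ : G → ℂ) (single ((x : G) * 1) 1 * incH H (BlockCore.normE N)) / (χ : G → ℂ) 1 := by
    rw [PB, Finset.sum_filter]
    refine Finset.sum_congr rfl fun χ _ => ?_
    split_ifs with hχ
    · rw [hin χ hχ]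
    · rw [hout χ hχ, mul_zero, zero_div]
  rw [h2]
  have h3 : ∀ χ : IrrCharacter G, lin (χ : G → ℂ) (single ((x : G) * 1) 1 * incH H (BlockCore.normE N)) =
      ∑ c : H, (BlockCore.normE N).coeff c * (χ : G → ℂ) ((x : G) * c) := by
    intro χ
    rw [mul_one, lin_single_mul_eq, lin_incH, lin_apply]
  have h4 : ∀ χ : IrrCharacter G, (χ : G → ℂ) z * (χ : G → ℂ) z *
        lin (χ : G → ℂ) (single ((x : G) * 1) 1 * incH H (BlockCore.normE N)) / (χ : G → ℂ) 1 =
      ∑ c : H, (BlockCore.normE N).coeff c *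
        ((χ : G → ℂ) z * (χ : G → ℂ) z * (χ : G → ℂ) ((x : G) * c) / (χ : G → ℂ) 1) := by
    intro χ
    rw [h3, Finset.mul_sum, Finset.sum_div]
    refine Finset.sum_congr rfl fun c _ => ?_
    ring
  rw [Finset.sum_congr rfl fun χ _ => h4 χ, Finset.sum_comm]
  refine Finset.sum_eq_zero fun c _ => ?_
  rw [← Finset.mul_sum]
  by_cases hc : c ∈ N
  · rw [sum_sq_div, mul_zero]
    intro a hconj
    -- `x c` would be real
    have hz' : (z : G) * (z : G) = 1 := by
      have := congrArg Subtype.val hz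
      simpa using this
    have e1 := isConj_inv_of_invol (a := a) hz'
    have e2 : IsConj ((x : G) * c) ((x : G) * c)⁻¹ := by
      have e3 : IsConj ((z : G) * (a * z * a⁻¹))⁻¹ (((x : G) * c)⁻¹)⁻¹ := by
        obtain ⟨b, hb⟩ := isConj_iff.1 hconj
        exact isConj_iff.2 ⟨b, by rw [← hb]; group⟩
      rw [inv_inv] at e3
      exact (hconj.symm.trans (e1.trans e3)).symm
    have hcx : Commute (x : G) (c : G) := (hmem c).1 c.2
    have hcr : ¬ 2 ∣ orderOf (c : G) := by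
      intro h'
      apply hN2
      rw [Subgroup.orderOf_coe] at h'
      have h1 : orderOf (⟨c, hc⟩ : N) = orderOf c := Subgroup.orderOf_mk _ _
      rw [← h1] at h'
      exact h'.trans (orderOf_dvd_natCard _)
    obtain ⟨b, hb⟩ := isConj_iff.1 e2
    have e4 : (b * x * b⁻¹) * (b * c * b⁻¹) = (x : G)⁻¹ * (c : G)⁻¹ := by
      rw [← mul_inv_rev, ← hcx.eq, ← hb]; group
    have e5 : Commute (b * x * b⁻¹) (b * c * b⁻¹) := hcx.map (MulAut.conj b).toMonoidHom
    have e6 : Commute (x : G)⁻¹ (c : G)⁻¹ := hcx.inv_left.inv_right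
    have e7 := eq_of_comm_of_orders Nat.prime_two e5 e6 e4 (by rw [orderOf_conj]; exact hj)
      (by rw [orderOf_inv]; exact hj) (by rw [orderOf_conj]; exact hcr) (by rw [orderOf_inv]; exact hcr)
    exact h.inv_ne hx (isConj_iff.2 ⟨b, e7.1⟩)
  · have : (BlockCore.normE N).coeff c = 0 := by
      rw [BlockCore.normE, coeff_ofFun, if_neg hc]
    rw [this, zero_mul]

variable [Fintype P]

theorem sum_ne_triv (h : HC M P n k) {x : P} (hx : x ≠ 1) :
    ∑ l ∈ (Finset.univ : Finset (IrrCharacter P)).filter (fun l => l ≠ triv P), (l : P → ℂ) x = -1 := by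
  classical
  have h2 := sum_degree_mul x hx
  simp only [h.deg_one, one_mul] at h2
  have h3 : (Finset.univ : Finset (IrrCharacter P)).filter (fun l => l ≠ triv P) = Finset.univ.erase (triv P) := by
    ext; simp
  rw [h3, ← Finset.add_sum_erase _ _ (Finset.mem_univ (triv P))] at *
  rw [coe_triv] at h2
  linear_combination h2

/-- The value of a character of the principal block in terms of the vectors. -/
theorem value' (h : HC M P n k) {χ : IrrCharacter G} (hχ : χ ∈ PB M G) (hχ1 : χ ≠ triv G) {x : P}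
    (hx : x ≠ 1) :
    (χ : G → ℂ) x = -∑ l ∈ (Finset.univ : Finset (IrrCharacter P)).filter (fun l => l ≠ triv P),
      (h.vv l χ : ℂ) * (l : P → ℂ) x := by
  classical
  rw [h.value χ hx, ← Finset.sum_neg_distrib, Finset.sum_filter]
  refine Finset.sum_congr rfl fun l _ => ?_
  split_ifs with hl
  · rw [h.vv_apply l hχ hχ1]; push_cast; ring
  · push Not at hl
    rw [hl, dd_triv]; simp

theorem degree' (h : HC M P n k) {χ : IrrCharacter G} (hχ : χ ∈ PB M G) (hχ1 : χ ≠ triv G) {a : ℤ}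
    (ha : ∀ l, l ≠ triv P → h.vv l χ = a) :
    ∃ b : ℤ, (χ : G → ℂ) 1 = ((a + 2 ^ k * b : ℤ) : ℂ) := by
  classical
  refine ⟨aN χ (triv P) - a, ?_⟩
  rw [h.degree χ]
  have h1 : ∑ l : IrrCharacter P, (dd χ l : ℂ) = ∑ l : IrrCharacter P, ((if l = triv P then (a : ℂ) else 0) - a) := by
    refine Finset.sum_congr rfl fun l _ => ?_
    split_ifs with hl
    · rw [hl, dd_triv]; simp
    · have := ha l hl
      rw [h.vv_apply l hχ hχ1] at this
      have : dd χ l = -a := by omega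
      rw [this]; push_cast; ring
  rw [h1, Finset.sum_sub_distrib, Finset.sum_ite_eq' Finset.univ (triv P), Finset.sum_const,
    Finset.card_univ, h.card_irrP, nsmul_eq_mul, if_pos (Finset.mem_univ _)]
  push_cast
  ring

theorem exists_ne_triv (h : HC M P n k) : ∃ l : IrrCharacter P, l ≠ triv P := by
  by_contra hcon
  push Not at hcon
  have h1 := h.card_irrP
  have : Fintype.card (IrrCharacter P) ≤ 1 := by
    rw [Fintype.card_le_one_iff]
    intro a b
    rw [hcon a, hcon b]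
  have h3 : 2 ^ 4 ≤ 2 ^ k := Nat.pow_le_pow_right (by norm_num) h.k4
  omega

theorem sq_rel (h : HC M P n k) (l : IrrCharacter P) {z : P} (hz : z * z = 1) :
    ((l : P → ℂ) z + (l : P → ℂ) (h.sg z) + (l : P → ℂ) (h.sg (h.sg z))) ^ 2 =
      2 * ((l : P → ℂ) z + (l : P → ℂ) (h.sg z) + (l : P → ℂ) (h.sg (h.sg z))) + 3 := by
  have e1 : (l : P → ℂ) z = 1 ∨ (l : P → ℂ) z = -1 := by
    have : (l : P → ℂ) z * (l : P → ℂ) z = 1 := by rw [← h.lmul, hz, h.deg_one]
    exact mul_self_eq_one_iff.1 this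
  have e2 : (l : P → ℂ) (h.sg z) = 1 ∨ (l : P → ℂ) (h.sg z) = -1 := by
    have : (l : P → ℂ) (h.sg z) * (l : P → ℂ) (h.sg z) = 1 := by
      rw [← h.lmul, ← map_mul, hz, map_one, h.deg_one]
    exact mul_self_eq_one_iff.1 this
  have e3 : (l : P → ℂ) z * (l : P → ℂ) (h.sg z) * (l : P → ℂ) (h.sg (h.sg z)) = 1 := by
    rw [← h.lmul, ← h.lmul]
    have : z * h.sg z * h.sg (h.sg z) = 1 := by
      apply h.sg_fpf
      rw [map_mul, map_mul, h.sg_cube]
      have c1 : ∀ a b : P, a * b = b * a := fun a b => Subtype.ext (h.comm a a.2 b b.2)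
      rw [c1 (h.sg z * h.sg (h.sg z)) z, mul_assoc]
    rw [this, h.deg_one]
  rcases e1 with e1 | e1 <;> rcases e2 with e2 | e2 <;> rw [e1, e2] at e3 ⊢
  · have : (l : P → ℂ) (h.sg (h.sg z)) = 1 := by linear_combination e3
    rw [this]; norm_num
  · have : (l : P → ℂ) (h.sg (h.sg z)) = -1 := by linear_combination -e3
    rw [this]; norm_num
  · have : (l : P → ℂ) (h.sg (h.sg z)) = -1 := by linear_combination -e3
    rw [this]; norm_num
  · have : (l : P → ℂ) (h.sg (h.sg z)) = 1 := by linear_combination e3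
    rw [this]; norm_num

/-- **The key result**: there is a nontrivial linear character of `G` trivial on `P`. -/
theorem exists_normal (h : HC M P n k) {x z : P} (hz : z * z = 1) (hz1 : z ≠ 1) (hx : x * x ≠ 1) :
    ∃ K : Subgroup G, K.Normal ∧ P ≤ K ∧ K ≠ ⊤ := by
  classical
  have hx1 : x ≠ 1 := by rintro rfl; exact hx (one_mul 1)
  obtain ⟨a, b, hab, α, β, hα, hβ, hF, hc, hd⟩ := sunflower' h.FF h.five_le
    (fun v hv => by
      obtain ⟨l, hl, rfl⟩ := h.mem_FF.1 hv
      exact h.vv_norm hl)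
    (fun v hv w hw hne => by
      obtain ⟨l, hl, rfl⟩ := h.mem_FF.1 hv
      obtain ⟨m, hm, rfl⟩ := h.mem_FF.1 hw
      exact h.vv_gram_ne hl hm hne)
  obtain ⟨l₀, hl₀⟩ := h.exists_ne_triv
  have hva : ∀ l, l ≠ triv P → h.vv l a = α := fun l hl => (hF _ (h.mem_FF.2 ⟨l, hl, rfl⟩)).1
  have hvb : ∀ l, l ≠ triv P → h.vv l b = β := fun l hl => (hF _ (h.mem_FF.2 ⟨l, hl, rfl⟩)).2
  have hα0 : α ≠ 0 := by rcases hα with h | h <;> rw [h] <;> norm_num
  have hβ0 : β ≠ 0 := by rcases hβ with h | h <;> rw [h] <;> norm_num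
  have hαα : (α : ℂ) * α = 1 := by rcases hα with h | h <;> rw [h] <;> norm_num
  have hββ : (β : ℂ) * β = 1 := by rcases hβ with h | h <;> rw [h] <;> norm_num
  have ha : a ∈ PB M G ∧ a ≠ triv G := by
    constructor
    · by_contra hcon; exact hα0 (by rw [← hva l₀ hl₀, h.vv_not l₀ hcon])
    · rintro rfl; exact hα0 (by rw [← hva l₀ hl₀, h.vv_triv])
  have hb : b ∈ PB M G ∧ b ≠ triv G := by
    constructor
    · by_contra hcon; exact hβ0 (by rw [← hvb l₀ hl₀, h.vv_not l₀ hcon])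
    · rintro rfl; exact hβ0 (by rw [← hvb l₀ hl₀, h.vv_triv])
  obtain ⟨A, hA0, hA⟩ := a.2.exists_degree
  obtain ⟨B, hB0, hB⟩ := b.2.exists_degree
  set T : ℤ := 1 + α * A + β * B with hT
  -- the degree relation
  have hdeg : ∀ l, l ≠ triv P → ∀ c, c ≠ a → c ≠ b → h.vv l c ≠ 0 →
      (h.vv l c : ℂ) * (c : G → ℂ) 1 = -(T : ℂ) ∧ (h.vv l c = 1 ∨ h.vv l c = -1) := by
    intro l hl c hca hcb hc0
    obtain ⟨c', hc'a, hc'b, hc'v, hc'0⟩ := hc (h.vv l) (h.mem_FF.2 ⟨l, hl, rfl⟩)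
    have hcc : c = c' := by
      by_contra hne
      exact hc0 (hc'0 c hca hcb hne)
    subst hcc
    refine ⟨?_, hc'v⟩
    have hcPB : c ∈ PB M G := by
      by_contra hcon; exact hc0 (h.vv_not l hcon)
    have hc1 : c ≠ triv G := by rintro rfl; exact hc0 (h.vv_triv l)
    have e1 := h.sum_deg_dd l
    have e2 : ∑ χ ∈ PB M G, (χ : G → ℂ) 1 * (dd χ l : ℂ) =
        ∑ χ ∈ ({triv G, a, b, c} : Finset (IrrCharacter G)), (χ : G → ℂ) 1 * (dd χ l : ℂ) := by
      symm
      apply Finset.sum_subset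
      · intro χ hχ
        simp only [Finset.mem_insert, Finset.mem_singleton] at hχ
        rcases hχ with rfl | rfl | rfl | rfl
        · exact h.triv_mem_PB
        · exact ha.1
        · exact hb.1
        · exact hcPB
      · intro χ hχ hχ'
        simp only [Finset.mem_insert, Finset.mem_singleton, not_or] at hχ'
        have e3 := hc'0 χ hχ'.2.1 hχ'.2.2.1 hχ'.2.2.2
        rw [h.vv_apply l hχ hχ'.1] at e3
        have : dd χ l = 0 := by omega
        rw [this]; simp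
    have da : dd a l = -α := by have := hva l hl; rw [h.vv_apply l ha.1 ha.2] at this; omega
    have db : dd b l = -β := by have := hvb l hl; rw [h.vv_apply l hb.1 hb.2] at this; omega
    have dc : dd c l = -h.vv l c := by rw [h.vv_apply l hcPB hc1]; omega
    rw [e2, Finset.sum_insert (by simp [ha.2.symm, hb.2.symm, hc1.symm]), Finset.sum_insert (by simp [hab, hca.symm]),
      Finset.sum_insert (by simp [hcb.symm]), Finset.sum_singleton, h.dd_one hl, da, db, dc, hA, hB] at e1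
    rw [coe_triv] at e1
    rw [hT]
    push_cast at e1 ⊢
    linear_combination -e1
  have hT0 : T ≠ 0 := by
    obtain ⟨c, hca, hcb, hcv, hc0⟩ := hc (h.vv l₀) (h.mem_FF.2 ⟨l₀, hl₀, rfl⟩)
    have hv0 : h.vv l₀ c ≠ 0 := by rcases hcv with e | e <;> rw [e] <;> norm_num
    have e := (hdeg l₀ hl₀ c hca hcb hv0).1
    intro hT0
    rw [hT0] at e
    simp only [Int.cast_zero, neg_zero, mul_eq_zero] at e
    rcases e with e | e
    · exact hv0 (by exact_mod_cast e)
    · exact c.2.one_ne_zero e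
  obtain ⟨ε, hε, hεT⟩ : ∃ ε : ℤ, (ε = 1 ∨ ε = -1) ∧ 0 < ε * T := by
    rcases lt_or_gt_of_ne hT0 with h1 | h1
    · exact ⟨-1, Or.inr rfl, by omega⟩
    · exact ⟨1, Or.inl rfl, by omega⟩
  have hεε : (ε : ℂ) * ε = 1 := by rcases hε with h | h <;> rw [h] <;> norm_num
  -- values of the other characters
  have hval : ∀ χ ∈ PB M G, χ ≠ triv G → χ ≠ a → χ ≠ b →
      (∀ y : P, y ≠ 1 → (χ : G → ℂ) 1 * (χ : G → ℂ) y = ε * T * (χ : G → ℂ) y) ∧
      (χ : G → ℂ) z * (χ : G → ℂ) z * (χ : G → ℂ) x = (2 * ε * (χ : G → ℂ) z + 3) * (χ : G → ℂ) x := by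
    intro χ hχ hχ1 hχa hχb
    by_cases hall : ∀ l, l ≠ triv P → h.vv l χ = 0
    · have h0 : ∀ y : P, y ≠ 1 → (χ : G → ℂ) y = 0 := by
        intro y hy
        rw [h.value' hχ hχ1 hy, Finset.sum_eq_zero, neg_zero]
        intro l hl
        rw [Finset.mem_filter] at hl
        rw [hall l hl.2]; simp
      refine ⟨fun y hy => by rw [h0 y hy]; ring, by rw [h0 x hx1]; ring⟩
    · push Not at hall
      obtain ⟨l, hl, hlv⟩ := hall
      obtain ⟨e1, e2⟩ := hdeg l hl χ hχa hχb hlv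
      -- the value
      have hv : ∀ y : P, y ≠ 1 → (χ : G → ℂ) y = -(h.vv l χ : ℂ) *
          ((l : P → ℂ) y + (l : P → ℂ) (h.sg y) + (l : P → ℂ) (h.sg (h.sg y))) := by
        intro y hy
        rw [h.value' hχ hχ1 hy]
        have e3 : ∑ m ∈ (Finset.univ : Finset (IrrCharacter P)).filter (fun l => l ≠ triv P),
            (h.vv m χ : ℂ) * (m : P → ℂ) y =
            ∑ m ∈ ({l, h.tw l, h.tw (h.tw l)} : Finset (IrrCharacter P)), (h.vv l χ : ℂ) * (m : P → ℂ) y := by
          have ht1 : h.tw l ≠ triv P := fun e => hl (h.tw_inj (e.trans h.tw_triv.symm))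
          have ht2 : h.tw (h.tw l) ≠ triv P := fun e => ht1 (h.tw_inj (e.trans h.tw_triv.symm))
          have e4 : ∀ m ∈ ({l, h.tw l, h.tw (h.tw l)} : Finset (IrrCharacter P)),
              m ≠ triv P ∧ h.vv m = h.vv l := by
            intro m hm
            simp only [Finset.mem_insert, Finset.mem_singleton] at hm
            rcases hm with rfl | rfl | rfl
            · exact ⟨hl, rfl⟩
            · exact ⟨ht1, (h.vv_eq_iff ht1 hl).2 (Or.inr (Or.inl rfl))⟩
            · exact ⟨ht2, (h.vv_eq_iff ht2 hl).2 (Or.inr (Or.inr rfl))⟩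
          symm
          refine Eq.trans (Finset.sum_congr rfl (g := fun m => (h.vv m χ : ℂ) * (m : P → ℂ) y) fun m hm => ?_) ?_
          · rw [(e4 m hm).2]
          · apply Finset.sum_subset
            · intro m hm
              rw [Finset.mem_filter]
              exact ⟨Finset.mem_univ _, (e4 m hm).1⟩
            · intro m hm hm'
              rw [Finset.mem_filter] at hm
              have e5 : h.vv m χ = 0 := by
                by_contra hcon
                have e6 := hd (h.vv m) (h.mem_FF.2 ⟨m, hm.2, rfl⟩) (h.vv l) (h.mem_FF.2 ⟨l, hl, rfl⟩)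
                  χ hχa hχb hcon hlv
                rcases (h.vv_eq_iff hm.2 hl).1 e6 with e | e | e
                · exact hm' (by rw [← e]; simp)
                · exact hm' (by rw [← e]; simp)
                · exact hm' (by rw [← e]; simp)
              rw [e5]; simp
        obtain ⟨t1, t2, t3⟩ := h.tw_ne hl
        rw [e3, Finset.sum_insert (by simp [t1.symm, t2.symm]), Finset.sum_insert (by simp [t3.symm]),
          Finset.sum_singleton, h.tw_apply, h.tw_apply, h.tw_apply]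
        ring
      obtain ⟨D, hD0, hD⟩ := χ.2.exists_degree
      have hγ : h.vv l χ = -ε := by
        rw [hD] at e1
        have e1' : h.vv l χ * (D : ℤ) = -T := by exact_mod_cast e1
        have hD0' : (0 : ℤ) < D := by exact_mod_cast hD0
        rcases e2 with e | e <;> rcases hε with e' | e' <;> rw [e] at e1' ⊢ <;> rw [e'] at hεT ⊢ <;> omega
      have hγγ : (h.vv l χ : ℂ) * (h.vv l χ : ℂ) = 1 := by
        rcases e2 with e | e <;> rw [e] <;> norm_num
      have hγ' : (h.vv l χ : ℂ) = -(ε : ℂ) := by rw [hγ]; push_cast; ring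
      rw [hγ'] at e1
      have e7 : (χ : G → ℂ) 1 = ε * T := by linear_combination (-(ε : ℂ)) * e1 - ((χ : G → ℂ) 1) * hεε
      refine ⟨fun y hy => by rw [e7], ?_⟩
      have e8 := h.sq_rel l hz
      have e9 : (χ : G → ℂ) z * (χ : G → ℂ) z = 2 * ε * (χ : G → ℂ) z + 3 := by
        rw [hv z hz1, hγ', neg_neg]
        linear_combination (((l : P → ℂ) z + (l : P → ℂ) (h.sg z) + (l : P → ℂ) (h.sg (h.sg z))) ^ 2 - 2 *
          ((l : P → ℂ) z + (l : P → ℂ) (h.sg z) + (l : P → ℂ) (h.sg (h.sg z)))) * hεε + e8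
      rw [e9]
  -- values of `a` and `b`
  have hav : ∀ y : P, y ≠ 1 → (a : G → ℂ) y = α := by
    intro y hy
    rw [h.value' ha.1 ha.2 hy, Finset.sum_congr rfl (g := fun l : IrrCharacter P => (α : ℂ) * (l : P → ℂ) y)
      (fun l hl => by rw [Finset.mem_filter] at hl; rw [hva l hl.2]), ← Finset.mul_sum, h.sum_ne_triv hy]
    ring
  have hbv : ∀ y : P, y ≠ 1 → (b : G → ℂ) y = β := by
    intro y hy
    rw [h.value' hb.1 hb.2 hy, Finset.sum_congr rfl (g := fun l : IrrCharacter P => (β : ℂ) * (l : P → ℂ) y)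
      (fun l hl => by rw [Finset.mem_filter] at hl; rw [hvb l hl.2]), ← Finset.mul_sum, h.sum_ne_triv hy]
    ring
  -- splitting of the sum over the block
  have hsplit : ∀ f : IrrCharacter G → ℂ, ∑ χ ∈ PB M G, f χ =
      f (triv G) + f a + f b + ∑ χ ∈ (PB M G).filter (fun χ => χ ≠ triv G ∧ χ ≠ a ∧ χ ≠ b), f χ := by
    intro f
    have e1 : (PB M G).filter (fun χ => ¬ (χ ≠ triv G ∧ χ ≠ a ∧ χ ≠ b)) = {triv G, a, b} := by
      ext χ
      simp only [Finset.mem_filter, Finset.mem_insert, Finset.mem_singleton]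
      constructor
      · rintro ⟨-, h2⟩
        by_contra hcon
        push Not at hcon
        exact h2 hcon
      · rintro (rfl | rfl | rfl)
        · exact ⟨h.triv_mem_PB, fun h => h.1 rfl⟩
        · exact ⟨ha.1, fun h => h.2.1 rfl⟩
        · exact ⟨hb.1, fun h => h.2.2 rfl⟩
    rw [← Finset.sum_filter_add_sum_filter_not (PB M G) (fun χ => χ ≠ triv G ∧ χ ≠ a ∧ χ ≠ b) f, e1,
      Finset.sum_insert (by simp [ha.2.symm, hb.2.symm]), Finset.sum_insert (by simp [hab]),
      Finset.sum_singleton]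
    ring
  have hxr : ∀ χ : IrrCharacter G, (χ : G → ℂ) x = conj ((χ : G → ℂ) ((x⁻¹ : P) : G)) := by
    intro χ
    rw [Subgroup.coe_inv, χ.2.inv, Complex.conj_conj]
  have hsum1 : ∑ χ ∈ PB M G, (χ : G → ℂ) 1 * (χ : G → ℂ) x = 0 := by
    have e1 := h.sum_not_conj (x := 1) (y := x⁻¹) (by
      intro hc
      rw [Subgroup.coe_one] at hc
      have := isConj_one_right.1 hc
      have e : x⁻¹ = 1 := Subtype.ext this
      exact hx1 (inv_eq_one.1 e))
    rw [← e1]
    refine Finset.sum_congr rfl fun χ _ => ?_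
    rw [hxr, Subgroup.coe_one]
  have hsum2 : ∑ χ ∈ PB M G, (χ : G → ℂ) z * (χ : G → ℂ) x = 0 := by
    have e1 := h.sum_not_conj (x := z) (y := x⁻¹) (by
      intro hc
      obtain ⟨g, hg⟩ := isConj_iff.1 hc
      apply hx
      have hz' : (z : G) * (z : G) = 1 := by
        have := congrArg Subtype.val hz
        simpa using this
      have e2 : ((x⁻¹ : P) : G) * ((x⁻¹ : P) : G) = 1 := by
        rw [← hg]
        calc g * z * g⁻¹ * (g * z * g⁻¹) = g * (z * z) * g⁻¹ := by group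
          _ = 1 := by rw [hz']; group
      have e3 : x⁻¹ * x⁻¹ = 1 := Subtype.ext e2
      have e4 : (x * x)⁻¹ = 1 := by rw [mul_inv_rev]; exact e3
      exact inv_eq_one.1 e4)
    rw [← e1]
    refine Finset.sum_congr rfl fun χ _ => ?_
    rw [hxr]
  have hsum3 := h.sum_sq hz hx
  rw [hsplit] at hsum1 hsum2 hsum3
  set R := (PB M G).filter (fun χ => χ ≠ triv G ∧ χ ≠ a ∧ χ ≠ b) with hR
  have hRv : ∀ χ ∈ R, (∀ y : P, y ≠ 1 → (χ : G → ℂ) 1 * (χ : G → ℂ) y = ε * T * (χ : G → ℂ) y) ∧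
      (χ : G → ℂ) z * (χ : G → ℂ) z * (χ : G → ℂ) x = (2 * ε * (χ : G → ℂ) z + 3) * (χ : G → ℂ) x := by
    intro χ hχ
    rw [hR, Finset.mem_filter] at hχ
    exact hval χ hχ.1 hχ.2.1 hχ.2.2.1 hχ.2.2.2
  have hTc : (T : ℂ) ≠ 0 := by exact_mod_cast hT0
  have hεc : (ε : ℂ) ≠ 0 := by rcases hε with h | h <;> rw [h] <;> norm_num
  have r1 : ∑ χ ∈ R, (χ : G → ℂ) 1 * (χ : G → ℂ) x = ε * T * ∑ χ ∈ R, (χ : G → ℂ) x := by
    rw [Finset.mul_sum]
    exact Finset.sum_congr rfl fun χ hχ => (hRv χ hχ).1 x hx1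
  have r3 : ∑ χ ∈ R, (χ : G → ℂ) z * (χ : G → ℂ) z * (χ : G → ℂ) x / (χ : G → ℂ) 1 =
      (T : ℂ)⁻¹ * (2 * ∑ χ ∈ R, (χ : G → ℂ) z * (χ : G → ℂ) x + 3 * ε * ∑ χ ∈ R, (χ : G → ℂ) x) := by
    rw [Finset.mul_sum, Finset.mul_sum, ← Finset.sum_add_distrib, Finset.mul_sum]
    refine Finset.sum_congr rfl fun χ hχ => ?_
    obtain ⟨e1, e2⟩ := hRv χ hχ
    rw [e2]
    have e3 := e1 x hx1
    have h0 := χ.2.one_ne_zero
    rw [div_eq_iff h0]
    have : (T : ℂ)⁻¹ * (2 * ((χ : G → ℂ) z * (χ : G → ℂ) x) + 3 * ε * (χ : G → ℂ) x) * (χ : G → ℂ) 1 =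
        (T : ℂ)⁻¹ * (2 * (χ : G → ℂ) z + 3 * ε) * ((χ : G → ℂ) 1 * (χ : G → ℂ) x) := by ring
    rw [this, e3]
    have hTi : (T : ℂ)⁻¹ * T = 1 := inv_mul_cancel₀ hTc
    linear_combination (-(2 * (χ : G → ℂ) z * ε + 3 * ε * ε) * (χ : G → ℂ) x) * hTi - 3 * (χ : G → ℂ) x * hεε
  rw [r1, coe_triv, hav x hx1, hbv x hx1, hA, hB] at hsum1
  rw [coe_triv, hav x hx1, hbv x hx1, hav z hz1, hbv z hz1] at hsum2
  rw [r3, coe_triv, hav x hx1, hbv x hx1, hav z hz1, hbv z hz1, hA, hB] at hsum3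
  have hTdef : (T : ℂ) = 1 + α * A + β * B := by rw [hT]; push_cast; ring
  have s1 : (ε : ℂ) * ∑ χ ∈ R, (χ : G → ℂ) x = -1 := by
    have : (T : ℂ) * ((ε : ℂ) * ∑ χ ∈ R, (χ : G → ℂ) x + 1) = 0 := by
      linear_combination hsum1 + hTdef
    rcases mul_eq_zero.1 this with e | e
    · exact absurd e hTc
    · linear_combination e
  have s2 : ∑ χ ∈ R, (χ : G → ℂ) z * (χ : G → ℂ) x = -3 := by
    linear_combination hsum2 - hαα - hββ
  have hAc : (A : ℂ) ≠ 0 := by exact_mod_cast hA0.ne'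
  have hBc : (B : ℂ) ≠ 0 := by exact_mod_cast hB0.ne'
  have s3 : 1 + (α : ℂ) / A + (β : ℂ) / B - 9 / T = 0 := by
    rw [s2] at hsum3
    have e1 : (α : ℂ) * α * α / A = α / A := by rw [hαα, one_mul]
    have e2 : (β : ℂ) * β * β / B = β / B := by rw [hββ, one_mul]
    rw [e1, e2] at hsum3
    rw [div_eq_mul_inv (9 : ℂ)]
    linear_combination hsum3 - 3 * (T : ℂ)⁻¹ * s1
  have s4 : ((α * A) * (β * B) + α * A + β * B) * (1 + α * A + β * B) = 9 * ((α * A) * (β * B)) := by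
    have e1 : (((α * A) * (β * B) + α * A + β * B : ℤ) : ℂ) * (T : ℂ) = 9 * (((α * A) * (β * B) : ℤ) : ℂ) := by
      have s3' : (A : ℂ) * B * T + α * B * T + β * A * T - 9 * A * B = 0 := by
        have e : (A : ℂ) * B * T * (1 + (α : ℂ) / A + (β : ℂ) / B - 9 / T) =
            (A : ℂ) * B * T + α * B * T + β * A * T - 9 * A * B := by
          field_simp
        rw [← e, s3, mul_zero]
      push_cast
      linear_combination (α : ℂ) * β * s3' - (T : ℂ) * (β : ℂ) * (B : ℂ) * hαα - (T : ℂ) * (α : ℂ) * (A : ℂ) * hββ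
    have e2 : ((α * A) * (β * B) + α * A + β * B) * T = 9 * ((α * A) * (β * B)) := by exact_mod_cast e1
    rw [hT] at e2
    exact e2
  have h16 : (16 : ℤ) ∣ 2 ^ k := by
    have : (2 : ℤ) ^ 4 ∣ 2 ^ k := pow_dvd_pow 2 h.k4
    norm_num at this
    exact this
  have hA16 : (16 : ℤ) ∣ α * A - 1 := by
    obtain ⟨c, hc⟩ := h.degree' ha.1 ha.2 hva
    rw [hA] at hc
    have hc' : (A : ℤ) = α + 2 ^ k * c := by exact_mod_cast hc
    obtain ⟨d, hd⟩ := h16
    rw [hd] at hc'
    refine ⟨α * (d * c), ?_⟩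
    rw [hc']
    have : α * α = 1 := by exact_mod_cast hαα
    linear_combination this
  have hB16 : (16 : ℤ) ∣ β * B - 1 := by
    obtain ⟨c, hc⟩ := h.degree' hb.1 hb.2 hvb
    rw [hB] at hc
    have hc' : (B : ℤ) = β + 2 ^ k * c := by exact_mod_cast hc
    obtain ⟨d, hd⟩ := h16
    rw [hd] at hc'
    refine ⟨β * (d * c), ?_⟩
    rw [hc']
    have : β * β = 1 := by exact_mod_cast hββ
    linear_combination this
  obtain ⟨f1, -⟩ := arith _ _ hA16 hB16 s4
  have hα1 : α = 1 := by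
    rcases hα with e | e
    · exact e
    · rw [e] at f1
      have : (0 : ℤ) < A := by exact_mod_cast hA0
      omega
  have hA1 : A = 1 := by
    rw [hα1, one_mul] at f1
    exact_mod_cast f1
  have ha1 : (a : G → ℂ) 1 = 1 := by rw [hA, hA1]; norm_num
  obtain ⟨f, hf⟩ := a.2.isCharacter.exists_hom ha1
  refine ⟨f.ker, inferInstance, ?_, ?_⟩
  · intro y hy
    rw [MonoidHom.mem_ker]
    by_cases hy1 : y = 1
    · rw [hy1, map_one]
    · have := hav ⟨y, hy⟩ (fun e => hy1 (congrArg Subtype.val e))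
      rw [hf, hα1] at this
      apply Units.ext
      rw [this]
      norm_num
  · intro htop
    apply ha.2
    apply Subtype.ext
    funext g
    have hg : g ∈ f.ker := by rw [htop]; trivial
    rw [hf, MonoidHom.mem_ker.1 hg]
    simp

end HC

end Cfsg.Agent.Lib.BlockHomo
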