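import Mathlib
import Cfsg.Agent.Lib.BlockHomo4
import Cfsg.Agent.Lib.FusionControl
import Cfsg.Agent.Lib.Cores
import Cfsg.Agent.Lib.H76Char
import Cfsg.Agent.S0945

/-!
# Groups with homocyclic Sylow 2-subgroups (S0949)
-/

set_option autoImplicit false
set_option linter.all false
set_option maxHeartbeats 400000

namespace Cfsg.Agent.Lib.BlockHomo

open Cfsg Cfsg.Agent.Lib.BlockRing Cfsg.Agent.Lib.BlockGA Cfsg.Agent.Lib.Cores

universe u

section

variable {G : Type u} [Group G] (P : Subgroup G)

theorem centralizer_subgroupOf_normal :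
    ((Subgroup.centralizer (P : Set G)).subgroupOf (Subgroup.normalizer (P : Set G))).Normal := by
  refine ⟨fun c hc g => ?_⟩
  rw [Subgroup.mem_subgroupOf] at hc ⊢
  rw [Subgroup.mem_centralizer_iff] at hc ⊢
  intro y hy
  have h1 : (g : G)⁻¹ * y * (g : G) ∈ P := by
    have := ((Subgroup.mem_normalizer_iff.1 ((Subgroup.normalizer (P : Set G)).inv_mem g.2)) y).1 hy
    simpa using this
  have h2 := hc _ h1
  simp only [Subgroup.coe_mul, Subgroup.coe_inv]
  calc y * ((g : G) * c * (g : G)⁻¹) = (g : G) * ((g : G)⁻¹ * y * (g : G) * c) * (g : G)⁻¹ := by group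
    _ = (g : G) * (c * ((g : G)⁻¹ * y * (g : G))) * (g : G)⁻¹ := by rw [h2]
    _ = (g : G) * c * (g : G)⁻¹ * y := by group

theorem exists_pow_mem (h3 : (Subgroup.centralizer (P : Set G)).relIndex (Subgroup.normalizer (P : Set G)) = 3)
    {n : G} (hn : n ∈ Subgroup.normalizer (P : Set G)) (hnC : n ∉ Subgroup.centralizer (P : Set G))
    {g : G} (hg : g ∈ Subgroup.normalizer (P : Set G)) :
    ∃ j, j < 3 ∧ (n ^ j)⁻¹ * g ∈ Subgroup.centralizer (P : Set G) := by
  have hC := centralizer_subgroupOf_normal P
  set C := (Subgroup.centralizer (P : Set G)).subgroupOf (Subgroup.normalizer (P : Set G)) with hCdef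
  have : Fact (Nat.Prime 3) := ⟨Nat.prime_three⟩
  have hcard : Nat.card (Subgroup.normalizer (P : Set G) ⧸ C) = 3 := h3
  have hn1 : ((⟨n, hn⟩ : Subgroup.normalizer (P : Set G)) : Subgroup.normalizer (P : Set G) ⧸ C) ≠ 1 := by
    intro e
    rw [QuotientGroup.eq_one_iff, hCdef, Subgroup.mem_subgroupOf] at e
    exact hnC e
  have hmem := mem_powers_of_prime_card hcard
    (g' := ((⟨g, hg⟩ : Subgroup.normalizer (P : Set G)) : Subgroup.normalizer (P : Set G) ⧸ C)) hn1
  obtain ⟨i, hi⟩ := hmem
  refine ⟨i % 3, Nat.mod_lt _ (by norm_num), ?_⟩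
  have h1 : (((⟨n, hn⟩ : Subgroup.normalizer (P : Set G)) : Subgroup.normalizer (P : Set G) ⧸ C)) ^ (i % 3) =
      ((⟨g, hg⟩ : Subgroup.normalizer (P : Set G)) : Subgroup.normalizer (P : Set G) ⧸ C) := by
    rw [← hi, ← hcard, pow_mod_natCard]
  have h2 : ((⟨n, hn⟩ ^ (i % 3) : Subgroup.normalizer (P : Set G)) : Subgroup.normalizer (P : Set G) ⧸ C) =
      ((⟨g, hg⟩ : Subgroup.normalizer (P : Set G)) : Subgroup.normalizer (P : Set G) ⧸ C) := h1
  rw [QuotientGroup.eq, hCdef, Subgroup.mem_subgroupOf] at h2
  simpa using h2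

end

section

variable {G : Type u} [Group G] [Finite G] (P : Sylow 2 G) (m : ℕ) (hm : 2 ≤ m)
  (e : (P : Subgroup G) ≃* Multiplicative (ZMod (2 ^ m) × ZMod (2 ^ m)))

include e in
theorem card_P : Nat.card (P : Subgroup G) = 2 ^ (2 * m) := by
  rw [Nat.card_congr e.toEquiv]
  have : Nat.card (Multiplicative (ZMod (2 ^ m) × ZMod (2 ^ m))) = Nat.card (ZMod (2 ^ m) × ZMod (2 ^ m)) :=
    Nat.card_congr Multiplicative.toAdd
  rw [this, Nat.card_prod, Nat.card_zmod]
  ring

include hm e in
/-- A group with homocyclic Sylow 2-subgroup and nontrivial fusion has a proper normal subgroup of odd index. -/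
theorem exists_normal_of_relIndex
    (h3 : (Subgroup.centralizer ((P : Subgroup G) : Set G)).relIndex
      (Subgroup.normalizer ((P : Subgroup G) : Set G)) = 3) :
    ∃ K : Subgroup G, K.Normal ∧ (P : Subgroup G) ≤ K ∧ K ≠ ⊤ := by
  classical
  have : Fact (Nat.Prime 2) := ⟨Nat.prime_two⟩
  obtain ⟨M, hM⟩ := H76Char.exists_isPModular 2
  have hcomm : ∀ x ∈ (P : Subgroup G), ∀ y ∈ (P : Subgroup G), x * y = y * x :=
    Cfsg.Agent.S0945.comm_P (P : Subgroup G) m e
  have hPc : IsMulCommutative (P : Subgroup G) :=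
    ⟨⟨fun a b => Subtype.ext (hcomm a a.2 b b.2)⟩⟩
  obtain ⟨n, hn, hnC⟩ : ∃ n ∈ Subgroup.normalizer ((P : Subgroup G) : Set G),
      n ∉ Subgroup.centralizer ((P : Subgroup G) : Set G) := by
    by_contra hcon
    push Not at hcon
    rw [Subgroup.relIndex_eq_one.2 hcon] at h3
    norm_num at h3
  have hne1 : (Subgroup.centralizer ((P : Subgroup G) : Set G)).relIndex
      (Subgroup.normalizer ((P : Subgroup G) : Set G)) ≠ 1 := by rw [h3]; norm_num
  have hS : ∀ z ∈ (P : Subgroup G), z ≠ 1 → Subgroup.centralizer ({z} : Set G) ⊓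
      Subgroup.normalizer ((P : Subgroup G) : Set G) = Subgroup.centralizer ((P : Subgroup G) : Set G) :=
    (Cfsg.Agent.S0945.result P m (by omega) e).2 hne1
  have hfpf : ∀ g ∈ Subgroup.normalizer ((P : Subgroup G) : Set G),
      g ∉ Subgroup.centralizer ((P : Subgroup G) : Set G) → ∀ x ∈ (P : Subgroup G), g * x * g⁻¹ = x → x = 1 := by
    intro g hg hgC x hx hgx
    by_contra hx1
    apply hgC
    rw [← hS x hx hx1]
    refine ⟨?_, hg⟩
    change g ∈ Subgroup.centralizer ({x} : Set G)
    rw [Subgroup.mem_centralizer_singleton_iff]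
    rw [mul_inv_eq_iff_eq_mul] at hgx
    exact hgx
  have hn3 : n ^ 3 ∈ Subgroup.centralizer ((P : Subgroup G) : Set G) := by
    have := Cfsg.Agent.S0945.pow_mem_centralizer (P : Subgroup G) n hn
    rwa [h3] at this
  have hnorm : ∀ x ∈ (P : Subgroup G), n * x * n⁻¹ ∈ (P : Subgroup G) :=
    fun x hx => ((Subgroup.mem_normalizer_iff.1 hn) x).1 hx
  have hHC : HC M (P : Subgroup G) n (2 * m) := by
    refine ⟨hM, card_P P m e, by omega, hcomm, hnorm, ?_, hfpf n hn hnC, ?_, ?_⟩
    · intro x hx
      rw [Subgroup.mem_centralizer_iff] at hn3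
      have h1 := hn3 x hx
      have h2 : n * (n * (n * x * n⁻¹) * n⁻¹) * n⁻¹ = n ^ 3 * x * (n ^ 3)⁻¹ := by
        rw [pow_succ, pow_two]; group
      rw [h2, ← h1]; group
    · intro x hx y hy hxy
      obtain ⟨g, hg⟩ := isConj_iff.1 hxy
      obtain ⟨r, hr, hr2⟩ := FusionControl.abelian_controls P hPc x hx g (by rw [hg]; exact hy)
      rw [hg] at hr2
      obtain ⟨j, hj, hjc⟩ := exists_pow_mem (P : Subgroup G) h3 hn hnC hr
      rw [Subgroup.mem_centralizer_iff] at hjc
      have h4 := hjc x hx
      have h5 : r * x * r⁻¹ = n ^ j * x * (n ^ j)⁻¹ := by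
        have e1 : r = n ^ j * ((n ^ j)⁻¹ * r) := by group
        have e2 : r * x * r⁻¹ = n ^ j * (((n ^ j)⁻¹ * r) * x) * ((n ^ j)⁻¹ * r)⁻¹ * (n ^ j)⁻¹ := by group
        rw [e2, ← h4]; group
      rw [hr2] at h5
      interval_cases j
      · left; rw [h5]; simp
      · right; left; rw [h5]; simp
      · right; right; rw [h5, pow_two]; group
    · intro x hx hx1
      -- Burnside's transfer theorem in the centralizer of `x`
      set H := Subgroup.centralizer ({x} : Set G) with hH
      have hPH : (P : Subgroup G) ≤ H := by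
        intro y hy
        rw [hH, Subgroup.mem_centralizer_singleton_iff]
        exact hcomm y hy x hx
      have hle : Subgroup.normalizer ((P.subtype hPH : Subgroup H) : Set H) ≤
          Subgroup.centralizer ((P.subtype hPH : Subgroup H) : Set H) := by
        intro y hy
        have hyN : (y : G) ∈ Subgroup.normalizer ((P : Subgroup G) : Set G) := by
          rw [Subgroup.mem_normalizer_iff] at hy ⊢
          intro g
          constructor
          · intro hg
            have := (hy ⟨g, hPH hg⟩).1 (by rw [Sylow.coe_subtype]; exact Subgroup.mem_subgroupOf.2 hg)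
            rw [Sylow.coe_subtype] at this
            exact Subgroup.mem_subgroupOf.1 this
          · intro hg
            have hgH : g ∈ H := by
              have : g = (y : G)⁻¹ * (y * g * (y : G)⁻¹) * y := by group
              rw [this]
              exact H.mul_mem (H.mul_mem (H.inv_mem y.2) (hPH hg)) y.2
            have := (hy ⟨g, hgH⟩).2 (by rw [Sylow.coe_subtype]; exact Subgroup.mem_subgroupOf.2 hg)
            rw [Sylow.coe_subtype] at this
            exact Subgroup.mem_subgroupOf.1 this
        have hyC : (y : G) ∈ Subgroup.centralizer ((P : Subgroup G) : Set G) := by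
          rw [← hS x hx hx1]
          exact ⟨y.2, hyN⟩
        rw [Subgroup.mem_centralizer_iff] at hyC ⊢
        intro g hg
        have hg' : (g : G) ∈ (P : Subgroup G) := by
          have : g ∈ ((P.subtype hPH : Sylow 2 H) : Subgroup H) := hg
          rw [Sylow.coe_subtype] at this
          exact Subgroup.mem_subgroupOf.1 this
        exact Subtype.ext (hyC g hg')
      refine ⟨(MonoidHom.transferSylow (P.subtype hPH) hle).ker, inferInstance,
        MonoidHom.not_dvd_card_ker_transferSylow (P.subtype hPH) hle, ?_⟩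
      rw [(MonoidHom.ker_transferSylow_isComplement' (P.subtype hPH) hle).symm.index_eq_card]
      rw [← card_P P m e, Sylow.coe_subtype]
      exact Nat.card_congr (Subgroup.subgroupOfEquivOfLe hPH).toEquiv
  -- elements of `P`
  have hne : NeZero (2 ^ m) := ⟨by positivity⟩
  have : Fintype (P : Subgroup G) := Fintype.ofFinite _
  have hx : ∃ x : (P : Subgroup G), x * x ≠ 1 := by
    refine ⟨e.symm (Multiplicative.ofAdd (1, 0)), fun h => ?_⟩
    rw [← map_mul, ← ofAdd_add] at h
    have h1 := congrArg e h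
    rw [e.apply_symm_apply, map_one] at h1
    have h2 : ((1 : ZMod (2 ^ m)), (0 : ZMod (2 ^ m))) + (1, 0) = 0 := h1
    have h3 := congrArg Prod.fst h2
    simp only [Prod.mk_add_mk, Prod.fst_zero] at h3
    have h4 : ((2 : ℕ) : ZMod (2 ^ m)) = 0 := by
      push_cast
      rw [← h3]; norm_num
    rw [ZMod.natCast_eq_zero_iff] at h4
    have h5 := Nat.le_of_dvd (by norm_num) h4
    have h6 : 2 ^ 2 ≤ 2 ^ m := Nat.pow_le_pow_right (by norm_num) hm
    omega
  obtain ⟨x, hx⟩ := hx
  obtain ⟨z, hz⟩ := exists_prime_orderOf_dvd_card' (G := (P : Subgroup G)) 2 (by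
    rw [card_P P m e]; exact dvd_pow_self 2 (by omega))
  have hzz : z * z = 1 := by
    have := pow_orderOf_eq_one z
    rw [hz, pow_two] at this
    exact this
  have hz1 : z ≠ 1 := by rintro rfl; rw [orderOf_one] at hz; norm_num at hz
  exact hHC.exists_normal hzz hz1 hx

end

theorem normal_aux (N : ℕ) : ∀ (G : Type u) [Group G] [Finite G], Nat.card G ≤ N → ∀ (P : Sylow 2 G) (m : ℕ),
    2 ≤ m → ∀ (e : (P : Subgroup G) ≃* Multiplicative (ZMod (2 ^ m) × ZMod (2 ^ m))),
    (∀ N : Subgroup G, N.Normal → Odd (Nat.card N) → N = ⊥) → (P : Subgroup G).Normal := by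
  induction N with
  | zero =>
    intro G _ _ h
    have : 0 < Nat.card G := Nat.card_pos
    omega
  | succ N ih =>
    intro G _ _ hcard P m hm e hO
    have : Fact (Nat.Prime 2) := ⟨Nat.prime_two⟩
    rcases (Cfsg.Agent.S0945.result P m (by omega) e).1 with h1 | h3
    · have hP : Subgroup.normalizer ((P : Subgroup G) : Set G) ≤ Subgroup.centralizer ((P : Subgroup G) : Set G) :=
        Subgroup.relIndex_eq_one.1 h1
      have h2 := MonoidHom.ker_transferSylow_isComplement' P hP
      have h4 : (MonoidHom.transferSylow P hP).ker = ⊥ := by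
        apply hO _ inferInstance
        rw [← Nat.not_even_iff_odd, even_iff_two_dvd]
        exact MonoidHom.not_dvd_card_ker_transferSylow P hP
      rw [h4] at h2
      have h5 := Subgroup.isComplement'_bot_left.1 h2
      rw [h5]
      infer_instance
    · obtain ⟨K, hK, hPK, hKtop⟩ := exists_normal_of_relIndex P m hm e h3
      -- induction
      have hlt : Nat.card K < Nat.card G := by
        have h6 := K.card_mul_index
        have h7 : K.index ≠ 1 := fun h => hKtop (Subgroup.index_eq_one.1 h)
        have h8 : K.index ≠ 0 := Subgroup.index_ne_zero_of_finite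
        have h9 : 0 < Nat.card K := Nat.card_pos
        have h10 : 2 ≤ K.index := by omega
        nlinarith
      have hcore : ∀ L : Subgroup K, L.Normal → Odd (Nat.card L) → L = ⊥ := by
        intro L hL hLo
        have h6 : L ≤ pPrimeCore 2 K := le_pPrimeCore hL (Nat.coprime_two_right.2 hLo)
        have h7 : (pPrimeCore 2 K).map K.subtype = ⊥ := by
          rw [map_pPrimeCore_subtype_eq]
          have h8 : pPrimeCore 2 G = ⊥ :=
            hO _ inferInstance (Nat.coprime_two_right.1 (coprime_card_pPrimeCore 2 G))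
          rw [h8, inf_bot_eq]
        rw [Subgroup.map_eq_bot_iff_of_injective _ K.subtype_injective] at h7
        rw [h7] at h6
        exact le_bot_iff.1 h6
      have hPK' : ((P.subtype hPK : Sylow 2 K) : Subgroup K) = (P : Subgroup G).subgroupOf K := Sylow.coe_subtype (P := P) hPK
      have e' : ((P.subtype hPK : Sylow 2 K) : Subgroup K) ≃* Multiplicative (ZMod (2 ^ m) × ZMod (2 ^ m)) :=
        ((MulEquiv.subgroupCongr hPK').trans (Subgroup.subgroupOfEquivOfLe hPK)).trans e
      have hn := ih K (by omega) (P.subtype hPK) m hm e' hcore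
      have hchar := Sylow.characteristic_of_normal (P.subtype hPK) hn
      have h11 := Cores.normal_map_subtype_of_characteristic ((P.subtype hPK : Sylow 2 K) : Subgroup K)
      rw [hPK', Subgroup.subgroupOf_map_subtype, inf_eq_left.2 hPK] at h11
      exact h11

theorem main {G : Type u} [Group G] [Finite G] (P : Sylow 2 G) (m : ℕ) (hm : 2 ≤ m)
    (e : (P : Subgroup G) ≃* Multiplicative (ZMod (2 ^ m) × ZMod (2 ^ m)))
    (hO : ∀ N : Subgroup G, N.Normal → Odd (Nat.card N) → N = ⊥) :
    (P : Subgroup G).Normal ∧ Subgroup.centralizer (P : Set G) = (P : Subgroup G) ∧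
      ((P : Subgroup G).index = 1 ∨ (P : Subgroup G).index = 3) := by
  have : Fact (Nat.Prime 2) := ⟨Nat.prime_two⟩
  have hn := normal_aux (Nat.card G) G le_rfl P m hm e hO
  have hcomm : ∀ x ∈ (P : Subgroup G), ∀ y ∈ (P : Subgroup G), x * y = y * x :=
    Cfsg.Agent.S0945.comm_P (P : Subgroup G) m e
  have hcen : Subgroup.centralizer ((P : Subgroup G) : Set G) = (P : Subgroup G) := by
    set C := Subgroup.centralizer ((P : Subgroup G) : Set G) with hC
    have hPC : (P : Subgroup G) ≤ C := Cfsg.Agent.S0945.P_le_centralizer (P : Subgroup G) m e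
    have hCn : C.Normal := by rw [hC]; infer_instance
    have hle : Subgroup.normalizer ((P.subtype hPC : Subgroup C) : Set C) ≤
        Subgroup.centralizer ((P.subtype hPC : Subgroup C) : Set C) := by
      intro y _
      rw [Subgroup.mem_centralizer_iff]
      intro g hg
      have hg' : (g : G) ∈ (P : Subgroup G) := by
        have : g ∈ ((P.subtype hPC : Sylow 2 C) : Subgroup C) := hg
        rw [Sylow.coe_subtype] at this
        exact Subgroup.mem_subgroupOf.1 this
      have hy2 : (y : G) ∈ Subgroup.centralizer ((P : Subgroup G) : Set G) := y.2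
      rw [Subgroup.mem_centralizer_iff] at hy2
      exact Subtype.ext (hy2 g hg')
    have h2 := MonoidHom.ker_transferSylow_isComplement' (P.subtype hPC) hle
    have h3 : (MonoidHom.transferSylow (P.subtype hPC) hle).ker = ⊥ := by
      have h4 : (MonoidHom.transferSylow (P.subtype hPC) hle).ker ≤ pPrimeCore 2 C := by
        apply le_pPrimeCore inferInstance
        rw [Nat.coprime_two_right, ← Nat.not_even_iff_odd, even_iff_two_dvd]
        exact MonoidHom.not_dvd_card_ker_transferSylow (P.subtype hPC) hle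
      have h7 : (pPrimeCore 2 C).map C.subtype = ⊥ := by
        rw [map_pPrimeCore_subtype_eq]
        have h8 : pPrimeCore 2 G = ⊥ :=
          hO _ inferInstance (Nat.coprime_two_right.1 (coprime_card_pPrimeCore 2 G))
        rw [h8, inf_bot_eq]
      rw [Subgroup.map_eq_bot_iff_of_injective _ C.subtype_injective] at h7
      rw [h7] at h4
      exact le_bot_iff.1 h4
    rw [h3] at h2
    have h5 := Subgroup.isComplement'_bot_left.1 h2
    rw [Sylow.coe_subtype, Subgroup.subgroupOf_eq_top] at h5
    exact le_antisymm h5 hPC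
  refine ⟨hn, hcen, ?_⟩
  have h1 : (Subgroup.centralizer ((P : Subgroup G) : Set G)).relIndex
      (Subgroup.normalizer ((P : Subgroup G) : Set G)) = 1 ∨
      (Subgroup.centralizer ((P : Subgroup G) : Set G)).relIndex
      (Subgroup.normalizer ((P : Subgroup G) : Set G)) = 3 := (Cfsg.Agent.S0945.result P m (by omega) e).1
  have hN : Subgroup.normalizer ((P : Subgroup G) : Set G) = ⊤ := Subgroup.normalizer_eq_top_iff.2 hn
  rw [hN, hcen, Subgroup.relIndex_top_right] at h1
  exact h1

end Cfsg.Agent.Lib.BlockHomo
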