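import Cfsg.Agent.Lib.BlockNormP
import Cfsg.Agent.Lib.BlockCore
import Cfsg.Agent.Lib.BlockThird

/-!
# Blocks of quotients by normal `p'`-subgroups; groups with one block (helper79)
-/

set_option autoImplicit false

namespace Cfsg.Agent.Lib.BlockInfl

open Cfsg Cfsg.Agent.Lib.BlockRing Cfsg.Agent.Lib.BlockGA Cfsg.Agent.Lib.BlockIdem
open Cfsg.Agent.Lib.CharBasic Cfsg.Agent.Lib.BlockNormP
open scoped ComplexConjugate

universe u

variable {G : Type u} [Group G] [Finite G] {p : ℕ} {M : Ideal AlgInt}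

/-- lift of an element of the group algebra of `G ⧸ N` (constant on cosets) -/
noncomputable def liftQ (N : Subgroup G) [N.Normal] (y : GA (G ⧸ N)) : GA G :=
  ofFun fun g => (Nat.card N : ℂ)⁻¹ * y.coeff (g : G ⧸ N)

theorem omega_liftQ (N : Subgroup G) [N.Normal] (y : GA (G ⧸ N)) (χ : G ⧸ N → ℂ) :
    omega (fun x : G => χ (x : G ⧸ N)) (liftQ N y) = omega χ y := by
  classical
  have := Fintype.ofFinite G
  have := Fintype.ofFinite (G ⧸ N)
  have hN0 : (Nat.card N : ℂ) ≠ 0 := by exact_mod_cast Nat.card_pos.ne'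
  rw [omega, omega, lin_apply, lin_apply]
  congr 1
  have h1 : ∀ g : G, (liftQ N y).coeff g * χ (g : G ⧸ N) =
      (fun z : G ⧸ N => (Nat.card N : ℂ)⁻¹ * (y.coeff z * χ z)) (g : G ⧸ N) := by
    intro g
    rw [liftQ, coeff_ofFun, mul_assoc]
  rw [Finset.sum_congr rfl (fun g _ => h1 g),
    sum_quot N (fun z : G ⧸ N => (Nat.card N : ℂ)⁻¹ * (y.coeff z * χ z)), ← Finset.mul_sum,
    mul_inv_cancel_left₀ hN0]

theorem liftQ_mem_center (N : Subgroup G) [N.Normal] {y : GA (G ⧸ N)}
    (hy : y ∈ Subalgebra.center ℂ (GA (G ⧸ N))) : liftQ N y ∈ Subalgebra.center ℂ (GA G) := by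
  rw [mem_center_iff] at hy ⊢
  intro g h
  change (liftQ N y).coeff (h * g * h⁻¹) = (liftQ N y).coeff g
  rw [liftQ, coeff_ofFun, coeff_ofFun]
  congr 1
  exact hy (g : G ⧸ N) (h : G ⧸ N)

theorem locA_liftQ (hM : IsPModular p M) (N : Subgroup G) [N.Normal] (hN : ¬ p ∣ Nat.card N)
    {y : GA (G ⧸ N)} (hy : LocA M y) : LocA M (liftQ N y) := by
  have := isPrime hM
  intro g
  rw [liftQ, coeff_ofFun]
  exact loc_mul (loc_inv_natCast hM hN) (hy _)

/-- deflation of blocks modulo a normal `p'`-subgroup. -/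
theorem sameBlock_of_inflate (hM : IsPModular p M) (N : Subgroup G) [N.Normal]
    (hN : ¬ p ∣ Nat.card N) {χ ψ : G ⧸ N → ℂ} (hχ : IsClassFunction (G ⧸ N) χ)
    (hψ : IsClassFunction (G ⧸ N) ψ)
    (h : SameBlock M (fun x : G => χ (x : G ⧸ N)) (fun x : G => ψ (x : G ⧸ N))) :
    SameBlock M χ ψ := by
  have := isPrime hM
  rw [sameBlock_iff_omega hχ hψ]
  intro z hz hl
  rw [← omega_liftQ N z χ, ← omega_liftQ N z ψ]
  exact sameBlock_omega (hχ.comp (QuotientGroup.mk' N)) (hψ.comp (QuotientGroup.mk' N)) h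
    (liftQ_mem_center N hz) (locA_liftQ hM N hN hl)

omit [Finite G] in
theorem isClassFunction_fun_one : IsClassFunction G (fun _ : G => (1 : ℂ)) :=
  isIrrCharacter_fun_one.isClassFunction

/-- characters of the principal block of `G/N` inflate to the principal block of `G` -/
theorem inflate_mem_principal [M.IsPrime] (N : Subgroup G) [N.Normal] {ψ : IrrCharacter (G ⧸ N)}
    (h : ψ ∈ principalBlock M (G ⧸ N)) :
    (⟨fun x : G => (ψ : G ⧸ N → ℂ) (x : G ⧸ N), ψ.2.inflate N⟩ : IrrCharacter G) ∈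
      principalBlock M G :=
  sameBlock_inflate (χ := ⟨fun _ => 1, isIrrCharacter_fun_one⟩) N h

theorem inflate_mem_principal_iff (hM : IsPModular p M) (N : Subgroup G) [N.Normal]
    (hN : ¬ p ∣ Nat.card N) {ψ : IrrCharacter (G ⧸ N)} :
    (⟨fun x : G => (ψ : G ⧸ N → ℂ) (x : G ⧸ N), ψ.2.inflate N⟩ : IrrCharacter G) ∈
      principalBlock M G ↔ ψ ∈ principalBlock M (G ⧸ N) := by
  have := isPrime hM
  constructor
  · intro h
    exact sameBlock_of_inflate hM N hN isClassFunction_fun_one ψ.2.isClassFunction h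
  · exact inflate_mem_principal N

/-- the characters of the principal block are the inflations of those of `G/N`, `N` a normal
`p'`-subgroup. -/
theorem exists_deflate (hM : IsPModular p M) (N : Subgroup G) [N.Normal]
    (hN : ¬ p ∣ Nat.card N) {χ : IrrCharacter G} (hχ : χ ∈ principalBlock M G) :
    ∃ ψ : IrrCharacter (G ⧸ N), ψ ∈ principalBlock M (G ⧸ N) ∧
      ∀ g : G, (χ : G → ℂ) g = (ψ : G ⧸ N → ℂ) (g : G ⧸ N) := by
  obtain ⟨ψ, hψ, h⟩ := χ.2.deflate N (BlockCore.ker_of_principal hM hN hχ)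
  refine ⟨⟨ψ, hψ⟩, ?_, fun g => (h g).symm⟩
  rw [← inflate_mem_principal_iff hM N hN]
  have : (⟨fun x : G => ψ (x : G ⧸ N), hψ.inflate N⟩ : IrrCharacter G) = χ :=
    Subtype.ext (funext h)
  change (⟨fun x : G => ψ (x : G ⧸ N), hψ.inflate N⟩ : IrrCharacter G) ∈ _
  rw [this]; exact hχ

/-- If `C_G(P) ≤ P` for a normal `p`-subgroup `P` then every character is in the principal block. -/
theorem mem_principal_of_centralizer_le (hM : IsPModular p M) {P : Subgroup G} [hPn : P.Normal]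
    (hP : IsPGroup p P) (hC : Subgroup.centralizer (P : Set G) ≤ P) (χ : IrrCharacter G) :
    χ ∈ principalBlock M G := by
  classical
  have := isPrime hM
  have := Fintype.ofFinite G
  obtain ⟨ψ, hψ, hker⟩ := exists_trivial hM hP
    (unionOfBlocks_of_isPBlock (isPBlock_blockOf (M := M) χ)) ⟨χ, mem_blockOf_self χ⟩
  refine sameBlock_trans (ψ := (ψ : G → ℂ)) ?_ (sameBlock_symm hψ)
  rw [sameBlock_iff_omega isClassFunction_fun_one ψ.2.isClassFunction]
  intro z hz hl
  set z₀ : GA G := ofFun fun g => if g ∈ Subgroup.centralizer (P : Set G) then z.coeff g else 0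
    with hz₀
  have hCn : (Subgroup.centralizer (P : Set G)).Normal := inferInstance
  have hz₀c : z₀ ∈ Subalgebra.center ℂ (GA G) := by
    rw [mem_center_iff] at hz ⊢
    intro g h
    change z₀.coeff (h * g * h⁻¹) = z₀.coeff g
    rw [hz₀, coeff_ofFun, coeff_ofFun]
    have h1 : h * g * h⁻¹ ∈ Subgroup.centralizer (P : Set G) ↔
        g ∈ Subgroup.centralizer (P : Set G) := by
      constructor
      · intro h1
        have h2 := hCn.conj_mem _ h1 h⁻¹
        have h3 : h⁻¹ * (h * g * h⁻¹) * h⁻¹⁻¹ = g := by group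
        rwa [h3] at h2
      · intro h1
        exact hCn.conj_mem _ h1 h
    simp only [h1]
    split_ifs
    · exact hz g h
    · rfl
  have hz₀l : LocA M z₀ := by
    intro g
    rw [hz₀, coeff_ofFun]
    split_ifs
    · exact hl g
    · exact loc_zero
  have key : ∀ θ : IrrCharacter G, MemLocalIdeal M (omega (θ : G → ℂ) (z - z₀)) := by
    intro θ
    apply idl_omega_of_centralizer hM hP θ (Subalgebra.sub_mem _ hz hz₀c) (locA_sub hl hz₀l)
    intro g hg
    have : (z - z₀).coeff g = 0 := by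
      rw [MonoidAlgebra.coeff_sub, Finsupp.sub_apply, hz₀, coeff_ofFun, if_pos hg, sub_self]
    rw [this]; exact idl_zero
  have hval : omega (fun _ : G => (1 : ℂ)) z₀ = omega (ψ : G → ℂ) z₀ := by
    rw [omega, omega, lin_apply, lin_apply, div_one, eq_div_iff ψ.2.one_ne_zero, Finset.sum_mul]
    apply Finset.sum_congr rfl
    intro g _
    rw [hz₀, coeff_ofFun]
    split_ifs with h
    · rw [hker g (hC h), mul_one]
    · simp
  have hsub : ∀ θ : G → ℂ, omega θ (z - z₀) = omega θ z - omega θ z₀ := by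
    intro θ
    rw [omega, omega, omega, lin_apply, lin_apply, lin_apply, ← sub_div, ← Finset.sum_sub_distrib]
    congr 1
    apply Finset.sum_congr rfl
    intro g _
    rw [MonoidAlgebra.coeff_sub, Finsupp.sub_apply, sub_mul]
  have h1 := key ⟨fun _ => 1, isIrrCharacter_fun_one⟩
  have h2 := key ψ
  change MemLocalIdeal M (omega (fun _ : G => (1 : ℂ)) (z - z₀)) at h1
  rw [hsub] at h1 h2
  have h3 := idl_sub h1 h2
  have h4 : omega (fun _ : G => (1 : ℂ)) z - omega (fun _ : G => (1 : ℂ)) z₀ -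
      (omega (ψ : G → ℂ) z - omega (ψ : G → ℂ) z₀) =
      omega (fun _ : G => (1 : ℂ)) z - omega (ψ : G → ℂ) z := by
    rw [hval]; ring
  rwa [h4] at h3

end Cfsg.Agent.Lib.BlockInfl
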