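import Cfsg.Agent.Lib.BlockCover2
import Cfsg.Agent.Lib.BlockDefect
import Cfsg.Agent.Lib.BlockRes

/-!
# Blocks of normal subgroups: fixed classes and invariant blocks (helper16)

* `exists_fixed_class`: a `p`-group stabilizing a block `b` of `N` fixes an `N`-class on which a given central
  element of the big group algebra and the central character of `b` are both units.
* `exists_inv_class`: classes of `N` seeing an invariant block and every block covering it.
-/

set_option autoImplicit false
set_option linter.all false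

namespace Cfsg.Agent.Lib.BlockInv

open Cfsg Cfsg.Agent.Lib.BlockRing Cfsg.Agent.Lib.BlockGA Cfsg.Agent.Lib.BlockIdem Cfsg.Agent.Lib.BlockDefect
  Cfsg.Agent.Lib.BlockCover
open Cfsg.Agent.Lib.CharBasic
open Cfsg.Agent.Lib.BlockRes (resH coeff_resH)
open Cfsg.Agent.Lib.BlockSecond (incH coeff_incH_coe coeff_incH_of_not_mem lin_incH locA_incH)
open Cfsg.Agent.Lib.Clifford
open scoped ComplexConjugate

universe u

variable {G : Type u} [Group G] [Finite G] {p : ℕ} {M : Ideal AlgInt}

theorem exists_fixed (hM : IsPModular p M) {P X : Type*} [Group P] [Finite P] (hP : IsPGroup p P) [Fintype X]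
    [MulAction P X] (f : X → ℂ) (hf : ∀ (u : P) (x : X), MemLocalIdeal M (f (u • x) - f x))
    (hl : ∀ x, MemLocalRing M (f x)) (hne : ¬ MemLocalIdeal M (∑ x, f x)) :
    ∃ x ∈ MulAction.fixedPoints P X, ¬ MemLocalIdeal M (f x) := by
  classical
  haveI := isPrime hM
  by_contra hcon
  push Not at hcon
  apply hne
  let r : X → X := fun x => Quotient.out (Quotient.mk (MulAction.orbitRel P X) x)
  have hr : ∀ x, ∃ u : P, x = u • r x := by
    intro x
    have h1 : (MulAction.orbitRel P X) (r x) x := Quotient.exact (Quotient.out_eq _)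
    have h2 := MulAction.orbitRel_apply.1 ((MulAction.orbitRel P X).symm h1)
    obtain ⟨u, hu⟩ := h2
    exact ⟨u, hu.symm⟩
  have h0 : ∀ x, MemLocalIdeal M (f x - f (r x)) := by
    intro x
    obtain ⟨u, hu⟩ := hr x
    conv => arg 2; arg 1; rw [hu]
    exact hf u (r x)
  have hinv : ∀ (u : P) (x : X), f (r (u • x)) = f (r x) := by
    intro u x
    have h1 : r (u • x) = r x := by
      change Quotient.out _ = Quotient.out _
      congr 1
      apply Quotient.sound
      exact MulAction.orbitRel_apply.2 ⟨u, rfl⟩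
    rw [h1]
  have h1 := BlockRes.idl_sum_sub_fixed hM hP (fun x => f (r x)) hinv (fun x => hl _)
  have h2 : MemLocalIdeal M (∑ x ∈ Finset.univ.filter (· ∈ MulAction.fixedPoints P X), f (r x)) := by
    refine idl_sum fun x hx => ?_
    have h3 := hcon x (Finset.mem_filter.1 hx).2
    exact (idl_congr (idl_sub_symm (h0 x))).2 h3
  have h3 : MemLocalIdeal M (∑ x, f (r x)) := (idl_congr h1).2 h2
  have h4 : MemLocalIdeal M (∑ x, f x - ∑ x, f (r x)) := by
    rw [← Finset.sum_sub_distrib]
    exact idl_sum fun x _ => h0 x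
  exact (idl_congr h4).2 h3

section normal

variable {N : Subgroup G} [hN : N.Normal] [Fintype N]

/-- `b` is stable under conjugation by the elements of `S` -/
def StableBy (S : Subgroup G) (b : Set (IrrCharacter N)) : Prop :=
  ∀ s ∈ S, ∀ θ ∈ b, ∀ ψ : IrrCharacter N, (ψ : N → ℂ) = cj N s (θ : N → ℂ) → ψ ∈ b

theorem exists_fixed_class (hM : IsPModular p M) {S : Subgroup G} (hS : IsPGroup p S)
    {b : Set (IrrCharacter N)} (hb : IsPBlock M b) (hst : StableBy S b) {θ : IrrCharacter N} (hθ : θ ∈ b)
    {z : GA G} (hz : z ∈ Subalgebra.center ℂ (GA G)) (hzl : LocA M z)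
    (hne : ¬ MemLocalIdeal M (omega (θ : N → ℂ) (resH N z))) :
    ∃ n : N, ¬ MemLocalIdeal M (z.coeff (n : G)) ∧ ¬ MemLocalIdeal M (centralChar (θ : N → ℂ) n) ∧
      S ≤ N ⊔ Subgroup.centralizer ({(n : G)} : Set G) := by
  classical
  haveI := isPrime hM
  haveI := Fintype.ofFinite (ConjClasses N)
  letI act : MulAction S (ConjClasses N) :=
    { smul := fun s C => ConjClasses.map (MulAut.conjNormal (s : G) : N ≃* N).toMonoidHom C
      one_smul := fun C => by
        induction C using Quotient.inductionOn with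
        | h n =>
          change ConjClasses.mk ((MulAut.conjNormal ((1 : S) : G) : N ≃* N) n) = ConjClasses.mk n
          congr 1
          simp
      mul_smul := fun s t C => by
        induction C using Quotient.inductionOn with
        | h n =>
          change ConjClasses.mk ((MulAut.conjNormal ((s * t : S) : G) : N ≃* N) n) =
            ConjClasses.mk ((MulAut.conjNormal (s : G) : N ≃* N) ((MulAut.conjNormal (t : G) : N ≃* N) n))
          congr 1
          simp }
  have hsm : ∀ (s : S) (C : ConjClasses N), IsConj ((Quotient.out (s • C) : N))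
      ((MulAut.conjNormal (s : G) : N ≃* N) (Quotient.out C)) := by
    intro s C
    rw [← ConjClasses.mk_eq_mk_iff_isConj]
    have h1 : ConjClasses.mk (Quotient.out (s • C) : N) = s • C := Quotient.out_eq _
    rw [h1]
    change ConjClasses.map (MulAut.conjNormal (s : G) : N ≃* N).toMonoidHom C = _
    conv_lhs => rw [← Quotient.out_eq C]
    rfl
  have hres := BlockRes.resH_center (H := N) hz
  rw [omega_eq_sum θ.2.isClassFunction hres] at hne
  obtain ⟨C, hC, hC'⟩ := exists_fixed hM hS
    (fun C : ConjClasses N => (resH N z).coeff (Quotient.out C) * centralChar (θ : N → ℂ) (Quotient.out C))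
    (fun s C => by
      have h1 : (resH N z).coeff (Quotient.out (s • C)) = (resH N z).coeff (Quotient.out C) := by
        rw [coeff_resH, coeff_resH]
        have h2 := hsm s C
        obtain ⟨m, hm⟩ := isConj_iff.1 h2
        apply center_conj hz
        rw [isConj_iff]
        refine ⟨(s : G)⁻¹ * m, ?_⟩
        have h3 := congrArg (fun x : N => (x : G)) hm
        simp only [Subgroup.coe_mul, Subgroup.coe_inv, MulAut.conjNormal_apply] at h3
        calc (s : G)⁻¹ * m * (Quotient.out (s • C) : N) * ((s : G)⁻¹ * m)⁻¹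
            = (s : G)⁻¹ * ((m : G) * (Quotient.out (s • C) : N) * (m : G)⁻¹) * s := by group
          _ = (s : G)⁻¹ * ((s : G) * (Quotient.out C : N) * (s : G)⁻¹) * s := by rw [h3]
          _ = (Quotient.out C : N) := by group
      have h2 : MemLocalIdeal M (centralChar (θ : N → ℂ) (Quotient.out (s • C)) -
          centralChar (θ : N → ℂ) (Quotient.out C)) := by
        rw [centralChar_conj θ.2.isClassFunction (hsm s C), ← centralChar_comp (MulAut.conjNormal (s : G) : N ≃* N),
          ← cj_eq_comp]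
        exact sameBlock_of_mem hb (hst s s.2 θ hθ ⟨cj N (s : G) (θ : N → ℂ), isIrrCharacter_cj θ.2 _⟩ rfl) hθ _
      have h0 : MemLocalIdeal M ((resH N z).coeff (Quotient.out (s • C) : N) *
          centralChar (θ : N → ℂ) (Quotient.out (s • C) : N) -
          (resH N z).coeff (Quotient.out C : N) * centralChar (θ : N → ℂ) (Quotient.out C : N)) := by
        rw [h1, ← mul_sub]
        exact idl_mul_left (hzl _) h2
      exact h0)
    (fun C => loc_mul (hzl _) (loc_centralChar θ.2 _)) hne
  refine ⟨Quotient.out C, fun h => hC' (idl_mul_right h (loc_centralChar θ.2 _)),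
    fun h => hC' (idl_mul_left (hzl _) h), ?_⟩
  intro s hs
  have h1 := hC ⟨s, hs⟩
  have h2 := hsm ⟨s, hs⟩ C
  rw [h1] at h2
  obtain ⟨m, hm⟩ := isConj_iff.1 h2
  have h3 := congrArg (fun x : N => (x : G)) hm
  simp only [Subgroup.coe_mul, Subgroup.coe_inv, MulAut.conjNormal_apply] at h3
  have h4 : (m : G)⁻¹ * s ∈ Subgroup.centralizer ({((Quotient.out C : N) : G)} : Set G) := by
    rw [Subgroup.mem_centralizer_singleton_iff]
    have h5 : s * (Quotient.out C : N) = m * (Quotient.out C : N) * (m : G)⁻¹ * s := by rw [h3]; group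
    calc (m : G)⁻¹ * s * (Quotient.out C : N) = (m : G)⁻¹ * (s * (Quotient.out C : N)) := by group
      _ = (m : G)⁻¹ * (m * (Quotient.out C : N) * (m : G)⁻¹ * s) := by rw [h5]
      _ = (Quotient.out C : N) * ((m : G)⁻¹ * s) := by group
  have h5 : s = (m : G) * ((m : G)⁻¹ * s) := by group
  rw [h5]
  exact Subgroup.mul_mem_sup m.2 h4

/-- the block `b` is stable and covered by `B`: a common defect class -/
theorem exists_inv_class (hM : IsPModular p M) {b : Set (IrrCharacter N)} (hb : IsPBlock M b) (hst : Stable b)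
    {B : Set (IrrCharacter G)} (hB : IsPBlock M B) (hcov : Covers B b) {S : Subgroup G} (hS : IsPGroup p S) :
    ∃ n : N, IsDefectClass M b n ∧ (∀ χ ∈ B, ¬ MemLocalIdeal M (centralChar (χ : G → ℂ) (n : G))) ∧
      (∃ B' : Set (IrrCharacter G), IsPBlock M B' ∧ Covers B' b ∧ IsDefectClass M B' (n : G)) ∧
      S ≤ N ⊔ Subgroup.centralizer ({(n : G)} : Set G) := by
  classical
  haveI := isPrime hM
  haveI := Fintype.ofFinite (ConjClasses G)
  haveI := Fintype.ofFinite {B : Set (IrrCharacter G) // IsPBlock M B}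
  have hu := unionOfBlocks_of_isPBlock hb
  obtain ⟨χ, hχ⟩ := isPBlock_nonempty hB
  obtain ⟨θ, hθ, hχθ⟩ := covers_all hB hu hcov hχ
  set E := incH N (eB b) with hE
  have hEc : E ∈ Subalgebra.center ℂ (GA G) := incH_eB_mem_center hst
  have hEl : LocA M E := locA_incH (locA_eB hb)
  have h1 : omega (χ : G → ℂ) E = 1 := omega_incH_eB_mem hχθ hst hθ
  have h2 : ¬ MemLocalIdeal M (omega (χ : G → ℂ) E) := by rw [h1]; exact one_not_idl
  rw [omega_eq_sum χ.2.isClassFunction hEc] at h2
  obtain ⟨C, hC⟩ : ∃ C : ConjClasses G, ¬ MemLocalIdeal M (E.coeff (Quotient.out C) *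
      centralChar (χ : G → ℂ) (Quotient.out C)) := by
    by_contra hcon
    push Not at hcon
    exact h2 (idl_sum fun C _ => hcon C)
  have hC1 : ¬ MemLocalIdeal M (E.coeff (Quotient.out C)) := fun h =>
    hC (idl_mul_right h (loc_centralChar χ.2 _))
  have hC2 : ¬ MemLocalIdeal M (centralChar (χ : G → ℂ) (Quotient.out C)) := fun h =>
    hC (idl_mul_left (hEl _) h)
  have hCN : Quotient.out C ∈ N := by
    by_contra h
    apply hC1
    rw [hE, coeff_incH_of_not_mem _ h]
    exact idl_zero
  have h3 := passman_mp hB hb hcov hχ hθ ⟨Quotient.out C, hCN⟩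
  have h4 : ¬ MemLocalIdeal M (omega (θ : N → ℂ) (resH N (classSum (Quotient.out C : G)))) := by
    rw [BlockRes.omega_resH_classSum]
    intro h
    exact hC2 ((idl_congr h3).2 h)
  obtain ⟨n, hn1, hn2, hn3⟩ := exists_fixed_class hM hS hb (fun s _ => hst s) hθ
    (classSum_mem_center (Quotient.out C : G)) (locA_classSum _) h4
  have hconj : IsConj (Quotient.out C : G) (n : G) := not_idl_classSum hn1
  have hEn : ¬ MemLocalIdeal M (blockCoeff b n) := by
    have h5 : blockCoeff b n = E.coeff (Quotient.out C) := by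
      rw [center_conj hEc hconj, hE, coeff_incH_coe, coeff_eB]
    rw [h5]
    exact hC1
  have hχn : ∀ ψ ∈ B, ¬ MemLocalIdeal M (centralChar (ψ : G → ℂ) (n : G)) := by
    intro ψ hψ h
    apply hC2
    rw [centralChar_conj χ.2.isClassFunction hconj]
    exact (idl_congr (sameBlock_of_mem hB hχ hψ _)).2 h
  refine ⟨n, ⟨loc_blockCoeff hb _, hEn, fun ψ hψ h => hn2 ((idl_congr (sameBlock_of_mem hb hθ hψ _)).2 h)⟩,
    hχn, ?_, hn3⟩
  -- some block covering `b`
  have h5 : E = ∑ B' : {B : Set (IrrCharacter G) // IsPBlock M B}, E * eB (B' : Set (IrrCharacter G)) := by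
    rw [← Finset.mul_sum, sum_eB_blocks, mul_one]
  have h6 : ¬ MemLocalIdeal M (E.coeff (n : G)) := by
    rw [hE, coeff_incH_coe, coeff_eB]; exact hEn
  rw [h5, coeff_finset_sum] at h6
  obtain ⟨B', hB'⟩ : ∃ B' : {B : Set (IrrCharacter G) // IsPBlock M B},
      ¬ MemLocalIdeal M ((E * eB (B' : Set (IrrCharacter G))).coeff (n : G)) := by
    by_contra hcon
    push Not at hcon
    exact h6 (idl_sum fun B' _ => hcon B')
  have hcov' : Covers B'.1 b := by
    by_contra hnc
    apply hB'
    have h7 : E * eB (B' : Set (IrrCharacter G)) = 0 := by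
      apply center_ext (Subalgebra.mul_mem _ hEc (eB_mem_center _)) (Subalgebra.zero_mem _)
      intro ψ
      rw [omega_mul ψ.2 hEc]
      by_cases hψ : ψ ∈ B'.1
      · obtain ⟨η, hη⟩ := exists_constituent_res N ψ
        have h8 : η ∉ b := fun h => hnc ⟨ψ, hψ, η, h, hη⟩
        rw [omega_incH_eB_not_mem hη hst h8, zero_mul]
        simp [omega, lin_zero]
      · rw [omega_eB_not_mem hψ, mul_zero]
        simp [omega, lin_zero]
    rw [h7]
    simpa using idl_zero
  have h7 : E * eB (B' : Set (IrrCharacter G)) = eB (B' : Set (IrrCharacter G)) := by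
    apply center_ext (Subalgebra.mul_mem _ hEc (eB_mem_center _)) (eB_mem_center _)
    intro ψ
    rw [omega_mul ψ.2 hEc]
    by_cases hψ : ψ ∈ B'.1
    · obtain ⟨η, hη, h8⟩ := covers_all B'.2 hu hcov' hψ
      rw [omega_incH_eB_mem h8 hst hη, one_mul]
    · rw [omega_eB_not_mem hψ, mul_zero]
  refine ⟨B'.1, B'.2, hcov', loc_blockCoeff B'.2 _, ?_, ?_⟩
  · rw [h7, coeff_eB] at hB'
    exact hB'
  · intro ψ hψ h
    apply hχn χ hχ
    have h9 := passman_mp B'.2 hb hcov' hψ hθ n
    have h10 := passman_mp hB hb hcov hχ hθ n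
    exact (idl_congr h10).2 ((idl_congr h9).1 h)

omit [Fintype N] in
theorem card_sup_mul_card_inf (H : Subgroup G) :
    Nat.card (H ⊔ N : Subgroup G) * Nat.card (H ⊓ N : Subgroup G) = Nat.card H * Nat.card N := by
  have h1 : N.relIndex (H ⊔ N) * Nat.card N = Nat.card (H ⊔ N : Subgroup G) := by
    rw [mul_comm]
    have := (N.subgroupOf (H ⊔ N)).card_mul_index
    rw [← this]
    congr 1
    exact (Nat.card_congr (Subgroup.subgroupOfEquivOfLe le_sup_right).toEquiv).symm
  have h2 : N.relIndex H * Nat.card (H ⊓ N : Subgroup G) = Nat.card H := by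
    have h3 : (H ⊓ N).relIndex H = N.relIndex H := Subgroup.inf_relIndex_left H N
    have h4 := ((H ⊓ N).subgroupOf H).card_mul_index
    have h5 : Nat.card ((H ⊓ N).subgroupOf H) = Nat.card (H ⊓ N : Subgroup G) :=
      Nat.card_congr (Subgroup.subgroupOfEquivOfLe (inf_le_left : H ⊓ N ≤ H)).toEquiv
    rw [h5] at h4
    rw [← h3, ← h4, mul_comm]
    rfl
  rw [← h1, ← h2, Subgroup.relIndex_sup_right]
  ring

/-- intersection of a Sylow subgroup of `C_G(n)` with `N` -/
theorem sylC_inf [Fact p.Prime] {n : N} {Q : Subgroup G} (hQ : SylC p (n : G) Q) :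
    SylC p n ((Q ⊓ N).subgroupOf N) := by
  have hQ' := hQ
  rw [SylC, BlockDefect.sylIn_iff] at hQ ⊢
  obtain ⟨h1, h2, h3⟩ := hQ
  have hle : (Q ⊓ N : Subgroup G) ≤ N := inf_le_right
  refine ⟨?_, (h2.to_le inf_le_left).of_equiv (Subgroup.subgroupOfEquivOfLe hle).symm, ?_⟩
  · intro x hx
    rw [Subgroup.mem_subgroupOf] at hx
    rw [Subgroup.mem_centralizer_singleton_iff]
    exact Subtype.ext (Subgroup.mem_centralizer_singleton_iff.1 (h1 hx.1))
  · intro R hR hRp hle'
    have hRC : R.map N.subtype ≤ Subgroup.centralizer ({(n : G)} : Set G) := by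
      rintro _ ⟨x, hx, rfl⟩
      rw [Subgroup.mem_centralizer_singleton_iff]
      exact congrArg Subtype.val (Subgroup.mem_centralizer_singleton_iff.1 (hR hx))
    obtain ⟨Q', hQ'', hRQ'⟩ := sylIn_exists_ge hRC (hRp.map N.subtype)
    obtain ⟨c, hc, rfl⟩ := sylIn_unique hQ' hQ''
    have h4 : R.map N.subtype ≤ (Q ⊓ N).map (MulAut.conj c).toMonoidHom := by
      intro x hx
      have h5 := hRQ' hx
      rw [BlockDefect.mem_map_conj] at h5 ⊢
      refine ⟨h5, ?_⟩
      obtain ⟨y, hy, rfl⟩ := hx
      have := hN.conj_mem (y : G) y.2 c⁻¹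
      rw [inv_inv] at this
      exact this
    have h5 : Nat.card R ≤ Nat.card (Q ⊓ N : Subgroup G) := by
      have h6 := Subgroup.card_le_of_le h4
      rw [BlockDefect.card_map_conj, Subgroup.card_map_of_injective N.subtype_injective] at h6
      exact h6
    have h6 : Nat.card ((Q ⊓ N).subgroupOf N) = Nat.card (Q ⊓ N : Subgroup G) :=
      Nat.card_congr (Subgroup.subgroupOfEquivOfLe hle).toEquiv
    exact (Subgroup.eq_of_le_of_card_ge hle' (by rw [h6]; exact h5)).symm

theorem index_sup_of (hp : Fact p.Prime) {n : N} {Q : Subgroup G} (hQ : SylC p (n : G) Q)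
    (hidx : ¬ p ∣ (N ⊔ Subgroup.centralizer ({(n : G)} : Set G)).index) : ¬ p ∣ (Q ⊔ N).index := by
  set C := Subgroup.centralizer ({(n : G)} : Set G) with hC
  have hp' := hp.out
  have h1 := card_sup_mul_card_inf (N := N) C
  have h2 := card_sup_mul_card_inf (N := N) Q
  have h3 := sylC_inf hQ
  have e1 : (Nat.card Q).factorization p = (Nat.card C).factorization p := by
    rw [sylC_card hQ, hp'.factorization_pow, Finsupp.single_eq_same]
  have e2 : (Nat.card (Q ⊓ N : Subgroup G)).factorization p = (Nat.card (C ⊓ N : Subgroup G)).factorization p := by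
    have h4 := sylC_card h3
    have h5 : Nat.card ((Q ⊓ N).subgroupOf N) = Nat.card (Q ⊓ N : Subgroup G) :=
      Nat.card_congr (Subgroup.subgroupOfEquivOfLe inf_le_right).toEquiv
    have h6 : Nat.card (Subgroup.centralizer ({n} : Set N)) = Nat.card (C ⊓ N : Subgroup G) := by
      rw [← Nat.card_congr (Subgroup.subgroupOfEquivOfLe (inf_le_right : C ⊓ N ≤ N)).toEquiv]
      congr 2
      ext x
      rw [Subgroup.mem_centralizer_singleton_iff]
      change _ ↔ ((x : G) ∈ C ∧ (x : G) ∈ N)
      rw [hC, Subgroup.mem_centralizer_singleton_iff]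
      constructor
      · intro h
        exact ⟨congrArg Subtype.val h, x.2⟩
      · intro h
        exact Subtype.ext h.1
    rw [← h5, h4, h6, hp'.factorization_pow, Finsupp.single_eq_same]
  have g1 := congrArg (fun m => m.factorization p) h1
  have g2 := congrArg (fun m => m.factorization p) h2
  rw [Nat.factorization_mul Nat.card_pos.ne' Nat.card_pos.ne',
    Nat.factorization_mul Nat.card_pos.ne' Nat.card_pos.ne', Finsupp.add_apply, Finsupp.add_apply] at g1 g2
  have g3 := congrArg (fun m => m.factorization p) (C ⊔ N).card_mul_index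
  have g4 := congrArg (fun m => m.factorization p) (Q ⊔ N).card_mul_index
  rw [Nat.factorization_mul Nat.card_pos.ne' Subgroup.index_ne_zero_of_finite, Finsupp.add_apply] at g3 g4
  have g5 : ((C ⊔ N).index).factorization p = 0 := by
    rw [sup_comm]
    exact Nat.factorization_eq_zero_of_not_dvd hidx
  intro hdvd
  have g6 : 1 ≤ ((Q ⊔ N).index).factorization p :=
    (hp'.dvd_iff_one_le_factorization Subgroup.index_ne_zero_of_finite).1 hdvd
  omega

/-- defect classes of a stable block are stable -/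
theorem isDefectClass_cj {b : Set (IrrCharacter N)} (hst : Stable b) {n : N} (hn : IsDefectClass M b n) (x : G) :
    IsDefectClass M b ((MulAut.conjNormal x : N ≃* N) n) := by
  have h1 : (MulAut.conjNormal x : N ≃* N) n = ⟨x * n * x⁻¹, hN.conj_mem (n : G) n.2 x⟩ := Subtype.ext (by simp)
  have h2 : blockCoeff b ((MulAut.conjNormal x : N ≃* N) n) = blockCoeff b n := by
    rw [h1, blockCoeff_stable hst]
  refine ⟨by rw [h2]; exact hn.1, by rw [h2]; exact hn.2.1, fun χ hχ => ?_⟩
  rw [← centralChar_comp (MulAut.conjNormal x : N ≃* N), ← cj_eq_comp]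
  exact hn.2.2 ⟨cj N x (χ : N → ℂ), isIrrCharacter_cj χ.2 x⟩ (hst x χ hχ _ rfl)

omit [Fintype N] in
theorem index_sup_conj {n x : G} :
    (N ⊔ Subgroup.centralizer ({x * n * x⁻¹} : Set G)).index = (N ⊔ Subgroup.centralizer ({n} : Set G)).index := by
  have h1 : N ⊔ Subgroup.centralizer ({x * n * x⁻¹} : Set G) =
      (N ⊔ Subgroup.centralizer ({n} : Set G)).map (MulAut.conj x).toMonoidHom := by
    rw [Subgroup.map_sup, centralizer_conj]
    congr 1
    ext y
    rw [BlockDefect.mem_map_conj]
    constructor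
    · intro hy
      have := hN.conj_mem y hy x⁻¹
      rwa [inv_inv] at this
    · intro hy
      have := hN.conj_mem _ hy x
      simpa [mul_assoc] using this
  rw [h1]
  exact Subgroup.index_map_equiv _ (MulAut.conj x)

/-- invariant blocks and covering blocks: every defect group `P` of a block covering the stable block `b` is
contained in some `Q` such that `Q ∩ N` is a defect group of `b`, `p ∤ |G : QN|`, and `Q` is a defect group of some
block covering `b`. -/
theorem exists_ge (hM : IsPModular p M) {b : Set (IrrCharacter N)} (hb : IsPBlock M b) (hst : Stable b)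
    {B : Set (IrrCharacter G)} (hB : IsPBlock M B) (hcov : Covers B b) {P : Subgroup G}
    (hP : IsDefectGroup p M B P) :
    ∃ Q : Subgroup G, P ≤ Q ∧ IsDefectGroup p M b ((Q ⊓ N).subgroupOf N) ∧ ¬ p ∣ (Q ⊔ N).index ∧
      ∃ B' : Set (IrrCharacter G), IsPBlock M B' ∧ Covers B' b ∧ IsDefectGroup p M B' Q := by
  haveI := isPrime hM
  haveI : Fact p.Prime := ⟨hM.1⟩
  obtain ⟨S⟩ : Nonempty (Sylow p G) := inferInstance
  obtain ⟨n, hn, hχn, ⟨B', hB', hcov', hn'⟩, hS⟩ := exists_inv_class hM hb hst hB hcov S.isPGroup'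
  have hidx : ¬ p ∣ (N ⊔ Subgroup.centralizer ({(n : G)} : Set G)).index := fun h =>
    S.not_dvd_index (h.trans (Subgroup.index_dvd_of_le hS))
  obtain ⟨Q, hQ⟩ := sylIn_exists (p := p) (Subgroup.centralizer ({(n : G)} : Set G))
  obtain ⟨χ, hχ⟩ := isPBlock_nonempty hB
  obtain ⟨x, hx⟩ := minmax_omega hM hB hP ⟨χ, hχ, hχn χ hχ⟩ hQ
  have hQx : SylC p (((MulAut.conjNormal x : N ≃* N) n : N) : G) (Q.map (MulAut.conj x).toMonoidHom) := by
    have := sylC_conj hQ x
    rw [MulAut.conjNormal_apply]
    exact this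
  refine ⟨Q.map (MulAut.conj x).toMonoidHom, hx, ⟨_, isDefectClass_cj hst hn x, sylC_inf hQx⟩, ?_, B', hB', hcov',
    defectGroup_map_conj ⟨(n : G), hn', hQ⟩ x⟩
  apply index_sup_of ⟨hM.1⟩ hQx
  rw [MulAut.conjNormal_apply, index_sup_conj]
  exact hidx

/-- S0970 -/
theorem fong_defect (hM : IsPModular p M) {b : Set (IrrCharacter N)} (hb : IsPBlock M b) (hst : Stable b)
    {B : Set (IrrCharacter G)} (hB : IsPBlock M B) (hcov : Covers B b)
    (hmax : ∀ B' : Set (IrrCharacter G), IsPBlock M B' → Covers B' b → blockDefect p B' ≤ blockDefect p B)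
    {P : Subgroup G} (hP : IsDefectGroup p M B P) :
    ¬ p ∣ (P ⊔ N).index ∧ IsDefectGroup p M b ((P ⊓ N).subgroupOf N) ∧
      blockDefect p B = blockDefect p b + N.index.factorization p := by
  haveI := isPrime hM
  obtain ⟨Q, hPQ, h1, h2, B', hB', hcov', hQ⟩ := exists_ge hM hb hst hB hcov hP
  have h3 := hmax B' hB' hcov'
  have h4 := defectGroup_card hM hB hP
  have h5 := defectGroup_card hM hB' hQ
  have h6 : P = Q := Subgroup.eq_of_le_of_card_ge hPQ (by
    rw [h4, h5]; exact Nat.pow_le_pow_right hM.1.pos h3)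
  subst h6
  refine ⟨h2, h1, ?_⟩
  have h7 := defectGroup_card hM hb h1
  have h8 : Nat.card ((P ⊓ N).subgroupOf N) = Nat.card (P ⊓ N : Subgroup G) :=
    Nat.card_congr (Subgroup.subgroupOfEquivOfLe inf_le_right).toEquiv
  rw [h8] at h7
  have h9 := card_sup_mul_card_inf (N := N) P
  rw [h7, h4] at h9
  have g1 := congrArg (fun m => m.factorization p) h9
  have hp0 : ∀ k, p ^ k ≠ 0 := fun k => pow_ne_zero _ hM.1.ne_zero
  rw [Nat.factorization_mul Nat.card_pos.ne' (hp0 _), Nat.factorization_mul (hp0 _) Nat.card_pos.ne',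
    Finsupp.add_apply, Finsupp.add_apply, hM.1.factorization_pow, hM.1.factorization_pow,
    Finsupp.single_eq_same, Finsupp.single_eq_same] at g1
  have g3 := congrArg (fun m => m.factorization p) (P ⊔ N).card_mul_index
  have g4 := congrArg (fun m => m.factorization p) N.card_mul_index
  rw [Nat.factorization_mul Nat.card_pos.ne' Subgroup.index_ne_zero_of_finite, Finsupp.add_apply] at g3 g4
  have g5 : ((P ⊔ N).index).factorization p = 0 := Nat.factorization_eq_zero_of_not_dvd h2
  omega

end normal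

end Cfsg.Agent.Lib.BlockInv
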