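import Mathlib
import Cfsg.Agent.Lib.BlockSection
import Cfsg.Agent.Lib.BlockDefZero
import Cfsg.Agent.Lib.BlockDeg

/-!
# Principal 2-block of groups with Klein four Sylow 2-subgroups
-/

set_option autoImplicit false
set_option linter.all false

namespace Cfsg.Agent.Lib.BlockKlein

open Cfsg Cfsg.Agent.Lib.BlockRing Cfsg.Agent.Lib.BlockGA
open Cfsg.Agent.Lib.BlockIdem Cfsg.Agent.Lib.BlockThird Cfsg.Agent.Lib.BlockSection
open scoped ComplexConjugate
open MonoidAlgebra (single)

universe u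

variable {G : Type u} [Group G] [Finite G] {p : ℕ} {M : Ideal AlgInt}

/-- Elements normalizing an abelian Sylow subgroup and inducing an automorphism of `p`-power order
centralize it. -/
theorem odd_pow_conj {P : Subgroup G} {z h x : G} (hc : Commute h z) (hzx : h * x * h⁻¹ = z * x)
    (m : ℕ) : h ^ m * x * (h ^ m)⁻¹ = z ^ m * x := by
  induction m with
  | zero => simp
  | succ m ih =>
    have h1 : h ^ (m + 1) * x * (h ^ (m + 1))⁻¹ = h * (h ^ m * x * (h ^ m)⁻¹) * h⁻¹ := by
      rw [pow_succ']; group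
    rw [h1, ih]
    have h2 : h * (z ^ m * x) * h⁻¹ = z ^ m * (h * x * h⁻¹) := by
      rw [← mul_assoc, (hc.pow_right m).eq]; group
    rw [h2, hzx, ← mul_assoc, ← pow_succ]

theorem klein_centralize (P : Sylow 2 G) (hP : IsKleinFour (P : Subgroup G)) {z h : G} (hz : z ∈ P)
    (hz1 : z ≠ 1) (hh : h ∈ Subgroup.normalizer ((P : Subgroup G) : Set G)) (hc : Commute h z) :
    ∀ x ∈ P, h * x = x * h := by
  haveI := hP
  intro x hx
  have hn : h * x * h⁻¹ ∈ (P : Subgroup G) := (Subgroup.mem_set_normalizer_iff.1 hh x).1 hx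
  have hsq : ∀ y : G, y ∈ P → y * y = 1 := by
    intro y hy
    have := IsKleinFour.mul_self (G := (P : Subgroup G)) ⟨y, hy⟩
    exact congrArg Subtype.val this
  have hcomm : ∀ y w : G, y ∈ P → w ∈ P → y * w = w * y := by
    intro y w hy hw
    have h1 := hsq (y * w) (mul_mem hy hw)
    have h2 : (y * w)⁻¹ = y * w := inv_eq_of_mul_eq_one_right h1
    have h3 : y⁻¹ = y := inv_eq_of_mul_eq_one_right (hsq y hy)
    have h4 : w⁻¹ = w := inv_eq_of_mul_eq_one_right (hsq w hw)
    rw [mul_inv_rev, h3, h4] at h2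
    exact h2.symm
  by_cases hx1 : x = 1
  · simp [hx1]
  by_cases hxz : x = z
  · rw [hxz]; exact hc.eq
  by_cases hxx : h * x * h⁻¹ = x
  · rw [mul_inv_eq_iff_eq_mul] at hxx; exact hxx
  exfalso
  have h1 : h * x * h⁻¹ ≠ 1 := by
    intro h0
    apply hx1
    have : h * x = h := by rw [mul_inv_eq_one] at h0; exact h0
    exact mul_left_cancel (this.trans (mul_one h).symm)
  have h2 : h * x * h⁻¹ ≠ z := by
    intro h0
    apply hxz
    rw [mul_inv_eq_iff_eq_mul, ← hc.eq] at h0
    exact mul_left_cancel h0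
  have h3 : h * x * h⁻¹ = z * x := by
    have := IsKleinFour.eq_mul_of_ne_all (G := (P : Subgroup G)) (x := ⟨z, hz⟩) (y := ⟨x, hx⟩)
      (z := ⟨h * x * h⁻¹, hn⟩) (fun h0 => hz1 (congrArg Subtype.val h0))
      (fun h0 => hx1 (congrArg Subtype.val h0)) (fun h0 => hxz (congrArg Subtype.val h0).symm)
      (fun h0 => h1 (congrArg Subtype.val h0)) (fun h0 => h2 (congrArg Subtype.val h0))
      (fun h0 => hxx (congrArg Subtype.val h0))
    exact congrArg Subtype.val this
  -- odd power of `h` of 2-power order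
  obtain ⟨k, m, hm, hkm⟩ := Nat.exists_eq_two_pow_mul_odd (orderOf_pos h).ne'
  set g := h ^ m with hg
  have hgo : g ^ 2 ^ k = 1 := by
    rw [hg, ← pow_mul, mul_comm, ← hkm]; exact pow_orderOf_eq_one h
  have hgn : g ∈ Subgroup.normalizer ((P : Subgroup G) : Set G) := Subgroup.pow_mem _ hh m
  have hgP : IsPGroup 2 (Subgroup.zpowers g) := by
    have : orderOf g ∣ 2 ^ k := orderOf_dvd_of_pow_eq_one hgo
    obtain ⟨j, -, hj⟩ := (Nat.dvd_prime_pow Nat.prime_two).1 this
    exact IsPGroup.of_card (n := j) (by rw [Nat.card_zpowers, hj])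
  have h4 := IsPGroup.inf_normalizer_sylow hgP P
  have h5 : g ∈ (Subgroup.zpowers g ⊓ (P : Subgroup G)) := by
    rw [← h4]
    exact ⟨Subgroup.mem_zpowers g, hgn⟩
  have h6 : g * x * g⁻¹ = z * x := by
    rw [hg, odd_pow_conj (P := (P : Subgroup G)) hc h3]
    obtain ⟨j, hj⟩ := hm
    rw [hj, pow_succ, pow_mul, pow_two, hsq z hz, one_pow, one_mul]
  have h7 : g * x * g⁻¹ = x := by
    rw [hcomm g x h5.2 hx, mul_inv_cancel_right]
  rw [h7] at h6
  exact hz1 (by simpa using h6)

/-- The centralizer of an involution in a group with Klein four Sylow has a normal complement. -/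
theorem klein_complement (P : Sylow 2 G) (hP : IsKleinFour (P : Subgroup G)) {z : G} (hz : z ∈ P)
    (hz1 : z ≠ 1) {H : Subgroup G} (hmem : ∀ g, g ∈ H ↔ Commute z g) :
    ∃ N : Subgroup H, N.Normal ∧ ¬ 2 ∣ Nat.card N ∧ N.index = 2 ^ 2 := by
  haveI := hP
  have hPH : (P : Subgroup G) ≤ H := by
    intro x hx
    rw [hmem]
    have h1 : Subgroup.normalizer ((P : Subgroup G) : Set G) ≥ (P : Subgroup G) := Subgroup.le_normalizer
    have := IsKleinFour.isMulCommutative (G := (P : Subgroup G))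
    have h2 := this.is_comm.comm (⟨z, hz⟩ : (P : Subgroup G)) ⟨x, hx⟩
    exact congrArg Subtype.val h2
  set Q : Sylow 2 H := P.subtype hPH with hQ
  have hQc : (Q : Subgroup H) = (P : Subgroup G).subgroupOf H := rfl
  have hN : Subgroup.normalizer (Q : Set H) ≤ Subgroup.centralizer (Q : Set H) := by
    intro h hh
    rw [Subgroup.mem_centralizer_iff]
    intro x hx
    have hx' : (x : G) ∈ P := hx
    have hh' : (h : G) ∈ Subgroup.normalizer ((P : Subgroup G) : Set G) := by
      rw [Subgroup.mem_set_normalizer_iff] at hh ⊢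
      intro y
      constructor
      · intro hy
        exact (hh ⟨y, hPH hy⟩).1 hy
      · intro hy
        have h1 : (h : G) * y * (h : G)⁻¹ ∈ H := hPH hy
        have h2 : y ∈ H := by
          have := H.mul_mem (H.mul_mem (H.inv_mem h.2) h1) h.2
          simpa [mul_assoc] using this
        exact (hh ⟨y, h2⟩).2 hy
    have h3 := klein_centralize P hP hz hz1 hh' ((hmem h).1 h.2).symm x hx'
    exact Subtype.ext h3.symm
  refine ⟨(MonoidHom.transferSylow Q hN).ker, inferInstance,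
    MonoidHom.not_dvd_card_ker_transferSylow Q hN, ?_⟩
  rw [(MonoidHom.ker_transferSylow_isComplement' Q hN).symm.index_eq_card]
  have h1 : Nat.card (Q : Subgroup H) = Nat.card (P : Subgroup G) :=
    Nat.card_congr (Subgroup.subgroupOfEquivOfLe hPH).toEquiv
  rw [h1, hP.card_four]; norm_num

/-- Values at involutions are rational integers. -/
theorem exists_int_of_involution {χ : G → ℂ} (hχ : IsCharacter G χ) {z : G} (hz : orderOf z = 2) :
    ∃ a : ℤ, χ z = a := by
  classical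
  have : Fintype (Subgroup.zpowers z) := Fintype.ofFinite _
  obtain ⟨m, hm⟩ := BlockDefZero.sum_over_subgroup (Subgroup.zpowers z) hχ
  have hz1 : z ≠ 1 := by rintro rfl; simp at hz
  have hc : Nat.card (Subgroup.zpowers z) = 2 := by rw [Nat.card_zpowers, hz]
  have hu : (Finset.univ : Finset (Subgroup.zpowers z)) = {1, ⟨z, Subgroup.mem_zpowers z⟩} := by
    symm
    apply Finset.eq_univ_of_card
    rw [← Nat.card_eq_fintype_card, hc, Finset.card_pair]
    intro h
    exact hz1 (congrArg Subtype.val h).symm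
  rw [hu, Finset.sum_pair (fun h => hz1 (congrArg Subtype.val h).symm), hc] at hm
  simp only [OneMemClass.coe_one] at hm
  rw [← BlockDeg.charDegree_cast hχ] at hm
  refine ⟨2 * m - charDegree χ, ?_⟩
  push_cast at hm ⊢
  linear_combination hm

theorem degree_congr (P : Sylow 2 G) (hP : IsKleinFour (P : Subgroup G)) {χ : G → ℂ}
    (hχ : IsCharacter G χ) {a : ℤ} (ha : ∀ x ∈ P, x ≠ 1 → χ x = a) :
    (4 : ℤ) ∣ (charDegree χ : ℤ) - a := by
  classical
  have : Fintype (P : Subgroup G) := Fintype.ofFinite _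
  obtain ⟨m, hm⟩ := BlockDefZero.sum_over_subgroup (P : Subgroup G) hχ
  rw [← Finset.add_sum_erase _ _ (Finset.mem_univ (1 : (P : Subgroup G)))] at hm
  have h1 : ∑ x ∈ Finset.univ.erase (1 : (P : Subgroup G)), χ (x : G) =
      ∑ x ∈ Finset.univ.erase (1 : (P : Subgroup G)), (a : ℂ) := by
    refine Finset.sum_congr rfl fun x hx => ?_
    exact ha x x.2 (fun h => (Finset.mem_erase.1 hx).1 (Subtype.ext h))
  have h2 : Fintype.card (P : Subgroup G) = 4 := by
    rw [← Nat.card_eq_fintype_card]; exact hP.card_four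
  rw [h1, Finset.sum_const, Finset.card_erase_of_mem (Finset.mem_univ _), Finset.card_univ, h2,
    hP.card_four, OneMemClass.coe_one, ← BlockDeg.charDegree_cast hχ] at hm
  refine ⟨m - a, ?_⟩
  have h3 : ((charDegree χ : ℤ) : ℂ) = ((a + 4 * (m - a) : ℤ) : ℂ) := by
    push_cast at hm ⊢
    simp only [nsmul_eq_mul] at hm
    push_cast at hm
    linear_combination hm
  have h4 : (charDegree χ : ℤ) = a + 4 * (m - a) := by exact_mod_cast h3
  rw [h4]; ring

/-- The members of the principal block when there is one class of involutions with Klein four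
Sylow subgroup: basic numerical data. -/
theorem klein_data (hM : IsPModular 2 M) (P : Sylow 2 G) (hP : IsKleinFour (P : Subgroup G))
    (hone : ∀ s t : G, orderOf s = 2 → orderOf t = 2 → IsConj s t) :
    ∃ a : IrrCharacter G → ℤ, (∀ χ : IrrCharacter G, ∀ z : G, orderOf z = 2 → (χ : G → ℂ) z = a χ) ∧
      (∀ χ : IrrCharacter G, (4 : ℤ) ∣ (charDegree (χ : G → ℂ) : ℤ) - a χ) ∧
      (∀ χ ∈ principalBlock M G, a χ ≠ 0) ∧
      ∑ χ ∈ (Set.toFinite (principalBlock M G)).toFinset, a χ ^ 2 = 4 ∧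
      (∀ y : G, ¬ 2 ∣ orderOf y → ∑ χ ∈ (Set.toFinite (principalBlock M G)).toFinset,
        (χ : G → ℂ) y * (a χ : ℂ) = 0) := by
  classical
  have := isPrime hM
  haveI := hP
  have hf2 : Fact (Nat.Prime 2) := ⟨Nat.prime_two⟩
  -- an involution of `P`
  have hPc : Nat.card (P : Subgroup G) = 4 := hP.card_four
  have hsq : ∀ y : G, y ∈ P → y * y = 1 := by
    intro y hy
    have := IsKleinFour.mul_self (G := (P : Subgroup G)) ⟨y, hy⟩
    exact congrArg Subtype.val this
  have hord : ∀ y : G, y ∈ P → y ≠ 1 → orderOf y = 2 := by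
    intro y hy hy1
    exact orderOf_eq_prime (by rw [pow_two]; exact hsq y hy) hy1
  obtain ⟨z, hz, hz1⟩ : ∃ z : G, z ∈ P ∧ z ≠ 1 := by
    by_contra hcon
    push Not at hcon
    have : (P : Subgroup G) = ⊥ := by
      rw [eq_bot_iff]
      intro x hx
      exact Subgroup.mem_bot.2 (hcon x hx)
    rw [this, Subgroup.card_bot] at hPc
    omega
  have hzo : orderOf z = 2 := hord z hz hz1
  choose a ha using fun χ : IrrCharacter G => exists_int_of_involution χ.2.isCharacter hzo
  have ha' : ∀ χ : IrrCharacter G, ∀ w : G, orderOf w = 2 → (χ : G → ℂ) w = a χ := by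
    intro χ w hw
    rw [← χ.2.isClassFunction.conj_eq (hone z w hzo hw), ha]
  have hdeg : ∀ χ : IrrCharacter G, (4 : ℤ) ∣ (charDegree (χ : G → ℂ) : ℤ) - a χ := fun χ =>
    degree_congr P hP χ.2.isCharacter (fun x hx hx1 => ha' χ x (hord x hx hx1))
  refine ⟨a, ha', hdeg, ?_, ?_, ?_⟩
  · intro χ hχ h0
    have h1 := hdeg χ
    rw [h0, sub_zero] at h1
    have h2 : 4 ∣ charDegree (χ : G → ℂ) := by exact_mod_cast h1
    have h3 : (Nat.card G).factorization 2 = 2 := by
      have := P.card_eq_multiplicity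
      rw [hPc] at this
      have h4 : 2 ^ 2 = 2 ^ (Nat.card G).factorization 2 := by rw [← this]; norm_num
      exact (Nat.pow_right_injective le_rfl h4).symm
    have h4 : (charDegree (χ : G → ℂ)).factorization 2 = (Nat.card G).factorization 2 := by
      apply le_antisymm (BlockDefZero.factorization_charDegree_le 2 χ.2)
      rw [h3]
      exact (Nat.prime_two.pow_dvd_iff_le_factorization (BlockDeg.charDegree_pos χ.2).ne').1 (by norm_num; exact h2)
    have h5 := BlockDefZero.blockOf_eq_singleton hM χ h4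
    have h6 : principalBlock M G = blockOf M (χ : G → ℂ) := eq_blockOf isPBlock_principal hχ
    have h7 : triv G ∈ ({χ} : Set (IrrCharacter G)) := by rw [← h5, ← h6]; exact triv_mem
    have h8 : triv G = χ := h7
    have h9 : (χ : G → ℂ) z = 1 := by rw [← h8]; rfl
    rw [ha χ, h0] at h9
    simp at h9
  · set H := Subgroup.centralizer ({z} : Set G) with hH
    have hmem : ∀ g, g ∈ H ↔ Commute z g := by
      intro g
      rw [hH, Subgroup.mem_centralizer_singleton_iff]
      exact ⟨fun h => h.symm, fun h => h.symm⟩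
    obtain ⟨N, hN1, hN2, hN3⟩ := klein_complement P hP hz hz1 hmem
    have h1r : ¬ 2 ∣ orderOf (1 : H) := by rw [orderOf_one]; norm_num
    have h1 := principal_section_sum hM (k := 1) (by rw [hzo]; rfl) hmem h1r h1r
    rw [sum_principal_of_normal_complement hM hN2 hN3 h1r h1r,
      finsum_mem_eq_finite_toFinset_sum _ (Set.toFinite _)] at h1
    simp only [OneMemClass.coe_one, mul_one, ha] at h1
    simp only [map_intCast, Nat.cast_ofNat] at h1
    have h2 : ((∑ χ ∈ (Set.toFinite (principalBlock M G)).toFinset, a χ ^ 2 : ℤ) : ℂ) = ((4 : ℤ) : ℂ) := by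
      push_cast
      have e : ((2 : ℂ) ^ 2) = 4 := by norm_num
      rw [← e, ← h1]
      exact Finset.sum_congr rfl fun χ _ => by ring
    exact_mod_cast h2
  · intro y hy
    have h1 := BlockOsima.weak_orthogonality hM isPBlock_principal (B := principalBlock M G) hy
      (y := z) (by rw [hzo])
    rw [finsum_mem_eq_finite_toFinset_sum _ (Set.toFinite _)] at h1
    refine Eq.trans ?_ h1
    refine Finset.sum_congr rfl fun χ _ => ?_
    rw [ha χ, map_intCast]

open scoped Classical in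
/-- The principal 2-block for a Klein four Sylow subgroup and one class of involutions. -/
theorem klein_block (hM : IsPModular 2 M) (P : Sylow 2 G) (hP : IsKleinFour (P : Subgroup G))
    (hone : ∀ s t : G, orderOf s = 2 → orderOf t = 2 → IsConj s t) :
    ∃ a : IrrCharacter G → ℤ, ∃ ζ₂ ζ₃ ζ₄ : IrrCharacter G,
      (∀ χ : IrrCharacter G, ∀ z : G, orderOf z = 2 → (χ : G → ℂ) z = a χ) ∧
      (∀ χ : IrrCharacter G, (4 : ℤ) ∣ (charDegree (χ : G → ℂ) : ℤ) - a χ) ∧
      (a ζ₂ = 1 ∧ (a ζ₃ = 1 ∨ a ζ₃ = -1) ∧ a ζ₄ = -1) ∧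
      (triv G ≠ ζ₂ ∧ triv G ≠ ζ₃ ∧ triv G ≠ ζ₄ ∧ ζ₂ ≠ ζ₃ ∧ ζ₂ ≠ ζ₄ ∧ ζ₃ ≠ ζ₄) ∧
      (Set.toFinite (principalBlock M G)).toFinset = {triv G, ζ₂, ζ₃, ζ₄} ∧
      (∀ y : G, ¬ 2 ∣ orderOf y → 1 + (ζ₂ : G → ℂ) y + (a ζ₃ : ℂ) * (ζ₃ : G → ℂ) y -
        (ζ₄ : G → ℂ) y = 0) := by
  classical
  have := isPrime hM
  haveI := hP
  obtain ⟨a, ha, hdeg, h0, h4, hy⟩ := klein_data hM P hP hone
  set S := (Set.toFinite (principalBlock M G)).toFinset with hS
  have hmemS : ∀ χ, χ ∈ S ↔ χ ∈ principalBlock M G := fun χ => by rw [hS, Set.Finite.mem_toFinset]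
  have htS : triv G ∈ S := (hmemS _).2 triv_mem
  have hord2 : ∃ z : G, orderOf z = 2 := by
    have hd : 2 ∣ Nat.card G := by
      have h1 := Subgroup.card_subgroup_dvd_card (P : Subgroup G)
      rw [hP.card_four] at h1
      exact (by norm_num : 2 ∣ 4).trans h1
    have hf2 : Fact (Nat.Prime 2) := ⟨Nat.prime_two⟩
    exact exists_prime_orderOf_dvd_card' 2 hd
  have hta : a (triv G) = 1 := by
    obtain ⟨z, hz⟩ := hord2
    have h1 : (1 : ℂ) = a (triv G) := ha (triv G) z hz
    exact_mod_cast h1.symm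
  have h3 : ∑ χ ∈ S.erase (triv G), a χ ^ 2 = 3 := by
    have h5 := Finset.add_sum_erase S (fun χ => a χ ^ 2) htS
    simp only [hta] at h5
    linarith
  have hge : ∀ χ ∈ S.erase (triv G), 1 ≤ a χ ^ 2 := by
    intro χ hχ
    have h5 := h0 χ ((hmemS χ).1 (Finset.mem_of_mem_erase hχ))
    have h6 : 0 < a χ ^ 2 := by positivity
    omega
  have hpm : ∀ χ ∈ S.erase (triv G), a χ = 1 ∨ a χ = -1 := by
    intro χ hχ
    have h5 : a χ ^ 2 ≤ 3 := by
      rw [← h3]
      exact Finset.single_le_sum (f := fun χ => a χ ^ 2) (fun i _ => sq_nonneg _) hχ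
    have h6 := hge χ hχ
    have h7 : a χ ≤ 1 := by nlinarith
    have h8 : -1 ≤ a χ := by nlinarith
    have h9 : a χ ≠ 0 := by rintro h; rw [h] at h6; norm_num at h6
    omega
  have hcard : (S.erase (triv G)).card = 3 := by
    have h5 : ∑ χ ∈ S.erase (triv G), a χ ^ 2 = ∑ χ ∈ S.erase (triv G), 1 := by
      refine Finset.sum_congr rfl fun χ hχ => ?_
      rcases hpm χ hχ with h | h <;> rw [h] <;> norm_num
    rw [h3] at h5
    simp at h5
    exact_mod_cast h5.symm
  -- degree equation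
  have hd : ∑ χ ∈ S.erase (triv G), (charDegree (χ : G → ℂ) : ℤ) * a χ = -1 := by
    have h5 := hy 1 (by rw [orderOf_one]; norm_num)
    rw [← Finset.add_sum_erase S _ htS, hta, coe_triv] at h5
    have h6 : ∑ χ ∈ S.erase (triv G), (χ : G → ℂ) 1 * (a χ : ℂ) =
        ((∑ χ ∈ S.erase (triv G), (charDegree (χ : G → ℂ) : ℤ) * a χ : ℤ) : ℂ) := by
      push_cast
      refine Finset.sum_congr rfl fun χ _ => ?_
      rw [BlockDeg.charDegree_cast_irr]
    rw [h6] at h5
    have h7 : ((∑ χ ∈ S.erase (triv G), (charDegree (χ : G → ℂ) : ℤ) * a χ : ℤ) : ℂ) = ((-1 : ℤ) : ℂ) := by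
      push_cast at h5 ⊢
      linear_combination h5
    exact_mod_cast h7
  have hpos : ∀ χ : IrrCharacter G, 1 ≤ (charDegree (χ : G → ℂ) : ℤ) := fun χ => by
    have := BlockDeg.charDegree_pos χ.2
    omega
  -- existence of both signs
  have hex4 : ∃ ζ₄ ∈ S.erase (triv G), a ζ₄ = -1 := by
    by_contra hcon
    push Not at hcon
    have h5 : 0 ≤ ∑ χ ∈ S.erase (triv G), (charDegree (χ : G → ℂ) : ℤ) * a χ := by
      refine Finset.sum_nonneg fun χ hχ => ?_
      rcases hpm χ hχ with h | h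
      · rw [h]; have := hpos χ; linarith
      · exact absurd h (hcon χ hχ)
    rw [hd] at h5
    norm_num at h5
  have hex2 : ∃ ζ₂ ∈ S.erase (triv G), a ζ₂ = 1 := by
    by_contra hcon
    push Not at hcon
    have h5 : ∑ χ ∈ S.erase (triv G), (charDegree (χ : G → ℂ) : ℤ) * a χ ≤
        ∑ χ ∈ S.erase (triv G), (-1 : ℤ) := by
      refine Finset.sum_le_sum fun χ hχ => ?_
      rcases hpm χ hχ with h | h
      · exact absurd h (hcon χ hχ)
      · rw [h]; have := hpos χ; linarith
    rw [hd, Finset.sum_const, hcard] at h5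
    norm_num at h5
  obtain ⟨ζ₄, hζ₄, ha4⟩ := hex4
  obtain ⟨ζ₂, hζ₂, ha2⟩ := hex2
  have h24 : ζ₂ ≠ ζ₄ := by rintro rfl; rw [ha2] at ha4; norm_num at ha4
  obtain ⟨ζ₃, hζ₃⟩ : ∃ ζ₃, ζ₃ ∈ ((S.erase (triv G)).erase ζ₂).erase ζ₄ := by
    apply Finset.Nonempty.exists_mem
    rw [← Finset.card_pos, Finset.card_erase_of_mem (Finset.mem_erase.2 ⟨h24.symm, hζ₄⟩),
      Finset.card_erase_of_mem hζ₂, hcard]
    norm_num
  rw [Finset.mem_erase, Finset.mem_erase] at hζ₃
  obtain ⟨h34, h32, hζ₃⟩ := hζ₃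
  have ht2 : triv G ≠ ζ₂ := fun h => (Finset.mem_erase.1 hζ₂).1 h.symm
  have ht3 : triv G ≠ ζ₃ := fun h => (Finset.mem_erase.1 hζ₃).1 h.symm
  have ht4 : triv G ≠ ζ₄ := fun h => (Finset.mem_erase.1 hζ₄).1 h.symm
  have hSeq : S.erase (triv G) = {ζ₂, ζ₃, ζ₄} := by
    symm
    apply Finset.eq_of_subset_of_card_le
    · intro χ hχ
      simp only [Finset.mem_insert, Finset.mem_singleton] at hχ
      rcases hχ with rfl | rfl | rfl
      · exact hζ₂
      · exact hζ₃
      · exact hζ₄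
    · rw [hcard, Finset.card_eq_three.2 ⟨ζ₂, ζ₃, ζ₄, h32.symm, h24, h34, rfl⟩]
  refine ⟨a, ζ₂, ζ₃, ζ₄, ha, hdeg, ⟨ha2, hpm ζ₃ hζ₃, ha4⟩, ⟨ht2, ht3, ht4, h32.symm, h24, h34⟩, ?_, ?_⟩
  · rw [← Finset.insert_erase htS, hSeq]
  · intro y hy'
    have h5 := hy y hy'
    rw [← Finset.add_sum_erase S _ htS, hSeq, hta, coe_triv,
      Finset.sum_insert (by simp [h32.symm, h24]), Finset.sum_insert (by simp [h34]), Finset.sum_singleton,
      ha2, ha4] at h5
    push_cast at h5
    linear_combination h5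

end Cfsg.Agent.Lib.BlockKlein
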