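import Cfsg.Agent.Lib.BlockFirst

/-!
# Transport of blocks along isomorphisms; transitivity of block induction
-/

set_option autoImplicit false
set_option linter.all false

namespace Cfsg.Agent.Lib.BlockTransfer

open Cfsg Cfsg.Agent.Lib.BlockRing Cfsg.Agent.Lib.BlockGA Cfsg.Agent.Lib.BlockIdem
open Cfsg.Agent.Lib.CharBasic Cfsg.Agent.Lib.BlockNormP Cfsg.Agent.Lib.BlockHom Cfsg.Agent.Lib.BlockDefect
open Cfsg.Agent.Lib.BlockFirst Cfsg.Agent.Lib.BlockCover
open Cfsg.Agent.Lib.BlockRes (resH coeff_resH brH coeff_brH)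
open Cfsg.Agent.Lib.BlockInd
open scoped ComplexConjugate

universe u

section iso

variable {H K : Type u} [Group H] [Group K] {M : Ideal AlgInt} {p : ℕ}

/-- transport of irreducible characters -/
noncomputable def trI (e : H ≃* K) : IrrCharacter K ≃ IrrCharacter H where
  toFun θ := ⟨fun h => (θ : K → ℂ) (e h), (isIrrCharacter_comp_mulEquiv_iff e).2 θ.2⟩
  invFun θ := ⟨fun k => (θ : H → ℂ) (e.symm k), (isIrrCharacter_comp_mulEquiv_iff e.symm).2 θ.2⟩
  left_inv θ := Subtype.ext (by funext k; simp)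
  right_inv θ := Subtype.ext (by funext k; simp)

theorem trI_apply (e : H ≃* K) (θ : IrrCharacter K) (h : H) : (trI e θ : H → ℂ) h = (θ : K → ℂ) (e h) := rfl

theorem coe_trI (e : H ≃* K) (θ : IrrCharacter K) : (trI e θ : H → ℂ) = fun h => (θ : K → ℂ) (e h) := rfl

theorem trI_symm (e : H ≃* K) : (trI e).symm = trI e.symm := rfl

/-- transport of sets of irreducible characters -/
noncomputable def trB (e : H ≃* K) (b : Set (IrrCharacter K)) : Set (IrrCharacter H) := trI e '' b

theorem mem_trB {e : H ≃* K} {b : Set (IrrCharacter K)} {θ : IrrCharacter H} :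
    θ ∈ trB e b ↔ trI e.symm θ ∈ b := by
  constructor
  · rintro ⟨η, hη, rfl⟩
    rw [← trI_symm, Equiv.symm_apply_apply]
    exact hη
  · intro h
    exact ⟨_, h, by rw [← trI_symm, Equiv.apply_symm_apply]⟩

theorem trI_mem_trB {e : H ≃* K} {b : Set (IrrCharacter K)} {θ : IrrCharacter K} :
    trI e θ ∈ trB e b ↔ θ ∈ b := by
  rw [mem_trB, ← trI_symm, Equiv.symm_apply_apply]

theorem trB_trB_symm (e : H ≃* K) (b : Set (IrrCharacter K)) : trB e.symm (trB e b) = b := by
  ext θ
  rw [mem_trB, mem_trB, MulEquiv.symm_symm, ← trI_symm, Equiv.symm_apply_apply]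

theorem trB_symm_trB (e : H ≃* K) (b : Set (IrrCharacter H)) : trB e (trB e.symm b) = b := by
  ext θ
  rw [mem_trB, mem_trB, MulEquiv.symm_symm, ← trI_symm, Equiv.apply_symm_apply]

theorem trB_injective (e : H ≃* K) : Function.Injective (trB e) := fun a b h => by
  rw [← trB_trB_symm e a, h, trB_trB_symm]

theorem sameBlock_tr_iff (e : H ≃* K) {χ ψ : K → ℂ} :
    SameBlock M (fun h => χ (e h)) (fun h => ψ (e h)) ↔ SameBlock M χ ψ := by
  constructor
  · intro h k
    have := h (e.symm k)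
    rwa [centralChar_comp e χ, centralChar_comp e ψ, e.apply_symm_apply] at this
  · intro h x
    rw [centralChar_comp e χ, centralChar_comp e ψ]
    exact h _

theorem isPBlock_tr {e : H ≃* K} {b : Set (IrrCharacter K)} (hb : IsPBlock M b) : IsPBlock M (trB e b) := by
  obtain ⟨θ, rfl⟩ := hb
  refine ⟨trI e θ, ?_⟩
  ext η
  rw [mem_trB]
  show SameBlock M (θ : K → ℂ) (trI e.symm η : K → ℂ) ↔ SameBlock M (trI e θ : H → ℂ) (η : H → ℂ)
  rw [← sameBlock_tr_iff e, coe_trI, coe_trI]
  simp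

theorem isPBlock_tr_iff {e : H ≃* K} {b : Set (IrrCharacter K)} : IsPBlock M (trB e b) ↔ IsPBlock M b :=
  ⟨fun h => by have := isPBlock_tr (e := e.symm) h; rwa [trB_trB_symm] at this, isPBlock_tr⟩

theorem blockCoeff_tr (e : H ≃* K) (b : Set (IrrCharacter K)) (h : H) :
    blockCoeff (trB e b) h = blockCoeff b (e h) := by
  rw [blockCoeff, blockCoeff, Nat.card_congr e.toEquiv]
  congr 1
  apply finsum_mem_eq_of_bijOn (trI e.symm)
  · refine ⟨fun θ hθ => mem_trB.1 hθ, fun a _ b _ h => (trI e.symm).injective h, fun θ hθ => ?_⟩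
    exact ⟨trI e θ, trI_mem_trB.2 hθ, by rw [← trI_symm, Equiv.symm_apply_apply]⟩
  · intro θ _
    rw [trI_apply, trI_apply, map_one, e.symm_apply_apply]

theorem isDefectClass_tr (e : H ≃* K) (b : Set (IrrCharacter K)) (h : H) :
    IsDefectClass M (trB e b) h ↔ IsDefectClass M b (e h) := by
  unfold IsDefectClass
  rw [blockCoeff_tr]
  refine and_congr Iff.rfl (and_congr Iff.rfl ?_)
  constructor
  · intro h1 χ hχ
    have := h1 (trI e χ) (trI_mem_trB.2 hχ)
    rwa [coe_trI, centralChar_comp e (χ : K → ℂ)] at this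
  · rintro h1 _ ⟨χ, hχ, rfl⟩
    rw [coe_trI, centralChar_comp e (χ : K → ℂ)]
    exact h1 χ hχ

theorem map_centralizer (e : H ≃* K) (h : H) :
    (Subgroup.centralizer ({h} : Set H)).map e.toMonoidHom = Subgroup.centralizer ({e h} : Set K) := by
  ext x
  rw [Subgroup.mem_map]
  constructor
  · rintro ⟨y, hy, rfl⟩
    rw [Subgroup.mem_centralizer_singleton_iff] at hy ⊢
    have := congrArg e hy
    simpa using this
  · intro hx
    refine ⟨e.symm x, ?_, by simp⟩
    rw [Subgroup.mem_centralizer_singleton_iff] at hx ⊢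
    apply e.injective
    simpa using hx

theorem sylIn_map (e : H ≃* K) {X D : Subgroup H} (h : SylIn p X D) :
    SylIn p (X.map e.toMonoidHom) (D.map e.toMonoidHom) := by
  rw [sylIn_iff] at h ⊢
  obtain ⟨h1, h2, h3⟩ := h
  refine ⟨Subgroup.map_mono h1, h2.map _, ?_⟩
  intro R hR hRp hDR
  have h4 : R.comap e.toMonoidHom ≤ X := by
    intro x hx
    obtain ⟨y, hy, hxy⟩ := hR hx
    rwa [← e.injective hxy]
  have h5 : IsPGroup p (R.comap e.toMonoidHom) := hRp.comap_of_injective e.toMonoidHom e.injective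
  have h6 : D ≤ R.comap e.toMonoidHom := Subgroup.map_le_iff_le_comap.1 hDR
  rw [← h3 _ h4 h5 h6, Subgroup.map_comap_eq_self_of_surjective e.surjective]

theorem isDefectGroup_tr {e : H ≃* K} {b : Set (IrrCharacter K)} {D : Subgroup H}
    (hD : IsDefectGroup p M (trB e b) D) : IsDefectGroup p M b (D.map e.toMonoidHom) := by
  rw [isDefectGroup_iff] at hD ⊢
  obtain ⟨h, hh, hhD⟩ := hD
  refine ⟨e h, (isDefectClass_tr e b h).1 hh, ?_⟩
  rw [SylC, ← map_centralizer]
  exact sylIn_map e hhD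

theorem isDefectGroup_tr_iff {e : H ≃* K} {b : Set (IrrCharacter K)} {D : Subgroup H} :
    IsDefectGroup p M (trB e b) D ↔ IsDefectGroup p M b (D.map e.toMonoidHom) := by
  refine ⟨isDefectGroup_tr, fun h => ?_⟩
  have h1 : IsDefectGroup p M (trB e.symm (trB e b)) (D.map e.toMonoidHom) := by rwa [trB_trB_symm]
  have h2 := isDefectGroup_tr h1
  rw [Subgroup.map_map] at h2
  have h3 : (e.symm.toMonoidHom.comp e.toMonoidHom) = MonoidHom.id H := by ext x; simp
  rwa [h3, Subgroup.map_id] at h2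

end iso

section trans

variable {G : Type u} [Group G] [Finite G] {p : ℕ} {M : Ideal AlgInt}

/-- The identification of `H` as a subgroup of `K` with `H`. -/
noncomputable abbrev subE {H K : Subgroup G} (hHK : H ≤ K) : H.subgroupOf K ≃* H := Subgroup.subgroupOfEquivOfLe hHK

omit [Finite G] in
theorem subE_coe {H K : Subgroup G} (hHK : H ≤ K) (x : H.subgroupOf K) : ((subE hHK x : H) : G) = ((x : K) : G) := rfl

theorem omega_resH_resH {H K : Subgroup G} (hHK : H ≤ K) (θ : H → ℂ) (z : GA G) :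
    omega (fun x : H.subgroupOf K => θ (subE hHK x)) (resH (H.subgroupOf K) (resH K z)) =
      omega θ (resH H z) := by
  classical
  haveI := Fintype.ofFinite H
  haveI := Fintype.ofFinite (H.subgroupOf K)
  rw [omega, omega, map_one, lin_apply, lin_apply]
  congr 1
  rw [← Equiv.sum_comp (subE hHK).toEquiv]
  rfl

theorem isInducedBlock_trans [M.IsPrime] {H K : Subgroup G} (hHK : H ≤ K) {b : Set (IrrCharacter H)}
    {β : Set (IrrCharacter K)} {B : Set (IrrCharacter G)}
    (h1 : IsInducedBlock M (H.subgroupOf K) (trB (subE hHK) b) β) (h2 : IsInducedBlock M K β B) :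
    IsInducedBlock M H b B := by
  have hb : IsPBlock M b := isPBlock_tr_iff.1 h1.1
  obtain ⟨ξ, hξ⟩ := isPBlock_nonempty hb
  obtain ⟨ζ, hζ⟩ := isPBlock_nonempty h1.2.1
  obtain ⟨χ, hχ⟩ := isPBlock_nonempty h2.2.1
  apply isInducedBlock_of_omega hb h2.2.1 hξ hχ
  intro g
  have h3 := induced_omega h1 (trI_mem_trB.2 hξ) hζ (BlockRes.resH_center (classSum_mem_center g))
    (BlockRes.locA_resH (locA_classSum g))
  have h4 := induced_omega h2 hζ hχ (classSum_mem_center g) (locA_classSum g)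
  rw [coe_trI, omega_resH_resH] at h3
  exact idl_sub_trans h3 h4

end trans

end Cfsg.Agent.Lib.BlockTransfer
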