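import Cfsg.Agent.Lib.BlockGraded
import Cfsg.Agent.Lib.BlockInv
import Cfsg.Agent.Lib.BlockAlg
import Cfsg.Agent.Lib.BlockFong3
import Cfsg.Agent.Lib.BlockTransfer

/-!
# Defect groups of covered blocks (Knörr) (helper16)
-/

set_option autoImplicit false
set_option linter.all false

namespace Cfsg.Agent.Lib.BlockKnorr

open Cfsg Cfsg.Agent.Lib.BlockRing Cfsg.Agent.Lib.BlockGA Cfsg.Agent.Lib.BlockIdem Cfsg.Agent.Lib.BlockDefect
  Cfsg.Agent.Lib.BlockCover Cfsg.Agent.Lib.BlockInv Cfsg.Agent.Lib.BlockAlg Cfsg.Agent.Lib.BlockFong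
  Cfsg.Agent.Lib.BlockTransfer
open Cfsg.Agent.Lib.CharBasic
open Cfsg.Agent.Lib.BlockRes (resH coeff_resH)
open Cfsg.Agent.Lib.BlockSecond (incH coeff_incH_coe coeff_incH_of_not_mem lin_incH locA_incH)
open Cfsg.Agent.Lib.Clifford
open scoped ComplexConjugate

universe u

variable {G : Type u} [Group G] [Finite G] {p : ℕ} {M : Ideal AlgInt}

/-- the kernel of the Brauer map at a defect group acts nilpotently on the block component -/
theorem nilp_of_br (hM : IsPModular p M) [M.IsMaximal] {N : Subgroup G} {b : Set (IrrCharacter N)}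
    (hb : IsPBlock M b) {D : Subgroup N} (hD : IsDefectGroup p M b D) {z : MonoidAlgebra (Kf M) G}
    (hz : z ∈ BrauerMap.ZAlg (Kf M) N) (hbr : BrauerMap.br (D.map N.subtype) z = 0) :
    IsNilpotent (z * bid M N b) := by
  classical
  haveI := isPrime hM
  haveI : Fact p.Prime := ⟨hM.1⟩
  haveI := Fintype.ofFinite (ConjClasses N)
  obtain ⟨ξ, hξ⟩ := isPBlock_nonempty hb
  set z0 : GA N := lftA (res N z) with hz0
  have hz0c : z0 ∈ Subalgebra.center ℂ (GA N) := lftA_center (res_class hz.2)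
  have hz0l : LocA M z0 := locA_lftA _
  have h1 := bid_nilp hb hξ hz0c hz0l
  have h2 : inc N (redA M z0) = z := by rw [hz0, redA_lftA, inc_res N hz.1]
  have h3 : MemLocalIdeal M (omega (ξ : N → ℂ) z0) := by
    rw [omega_eq_sum ξ.2.isClassFunction hz0c]
    refine idl_sum fun C _ => ?_
    by_contra hC
    have hC1 : ¬ MemLocalIdeal M (z0.coeff (Quotient.out C : N)) := fun h =>
      hC (idl_mul_right h (loc_centralChar ξ.2 _))
    have hC2 : ¬ MemLocalIdeal M (centralChar (ξ : N → ℂ) (Quotient.out C : N)) := fun h =>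
      hC (idl_mul_left (hz0l _) h)
    set y : N := Quotient.out C with hy
    obtain ⟨R, hR⟩ := sylIn_exists (p := p) (Subgroup.centralizer ({y} : Set N))
    obtain ⟨x, hx⟩ := minmax_omega hM hb hD ⟨ξ, hξ, hC2⟩ hR
    apply hC1
    have h4 : z0.coeff y = z0.coeff (x * y * x⁻¹) := (mem_center_iff.1 hz0c y x).symm
    have h5 : ((x * y * x⁻¹ : N) : G) ∈ Subgroup.centralizer ((D.map N.subtype : Subgroup G) : Set G) := by
      rw [Subgroup.mem_centralizer_iff]
      rintro _ ⟨d, hd, rfl⟩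
      have h6 := hx hd
      rw [BlockDefect.mem_map_conj] at h6
      have h7 := Subgroup.mem_centralizer_singleton_iff.1 (sylIn_le hR h6)
      have h8 : d * (x * y * x⁻¹) = (x * y * x⁻¹) * d := by
        calc d * (x * y * x⁻¹) = x * ((x⁻¹ * d * x) * y) * x⁻¹ := by group
          _ = x * (y * (x⁻¹ * d * x)) * x⁻¹ := by rw [h7]
          _ = (x * y * x⁻¹) * d := by group
      exact congrArg Subtype.val h8
    have h6 : z.coeff ((x * y * x⁻¹ : N) : G) = 0 := by
      rw [← BrauerMap.br_coeff_mem h5, hbr, BrauerMap.zero_coeff]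
    rw [h4]
    have h7 : z0.coeff (x * y * x⁻¹) = lft (z.coeff ((x * y * x⁻¹ : N) : G)) := rfl
    rw [h7, h6]
    have h8 := red_lft (M := M) (0 : Kf M)
    exact (red_eq_zero_iff (loc_lft _)).1 h8
  rw [h2, (red_eq_zero_iff (loc_omega ξ.2 hz0c hz0l)).2 h3, zero_smul, sub_zero] at h1
  exact h1

section normal

variable {N : Subgroup G} [hN : N.Normal] [Fintype N]

theorem inc_redA [M.IsMaximal] (z : GA N) : inc N (redA M z) = redA M (incH N z) := by
  apply BrauerMap.ext_coeff
  intro g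
  by_cases hg : g ∈ N
  · have h1 := inc_coeff_coe N (redA M z) ⟨g, hg⟩
    have h2 := coeff_incH_coe z (⟨g, hg⟩ : N)
    rw [redA_coeff, ← h2] at h1
    exact h1
  · rw [inc_coeff_not_mem N _ hg, redA_coeff, coeff_incH_of_not_mem _ hg, red_zero]

/-- the product of the idempotents of `B` and of a covered block is nonzero modulo `M` -/
theorem bid_mul_ne_zero (hM : IsPModular p M) [M.IsMaximal] {b : Set (IrrCharacter N)} (hb : IsPBlock M b)
    {B : Set (IrrCharacter G)} (hB : IsPBlock M B) (hcov : Covers B b) :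
    redA M (eB B) * bid M N b ≠ 0 := by
  classical
  haveI := isPrime hM
  haveI := Fintype.ofFinite G
  intro h0
  have hl1 : LocA M (eB B) := locA_eB hB
  have hl2 : LocA M (incH N (eB b)) := locA_incH (locA_eB hb)
  rw [bid, inc_redA, ← redA_mul hl1 hl2, redA_eq_zero_iff (locA_mul hl1 hl2)] at h0
  set w := eB B * incH N (eB b) with hw
  have hcomm : incH N (eB b) * eB B = eB B * incH N (eB b) := (center_comm (eB_mem_center B) _).symm
  have hii : incH N (eB b) * incH N (eB b) = incH N (eB b) := by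
    rw [← map_mul, eB_mul_self]
  have hww : w * w = w := by
    rw [hw]
    calc eB B * incH N (eB b) * (eB B * incH N (eB b))
        = eB B * (incH N (eB b) * eB B) * incH N (eB b) := by noncomm_ring
      _ = eB B * (eB B * incH N (eB b)) * incH N (eB b) := by rw [hcomm]
      _ = (eB B * eB B) * (incH N (eB b) * incH N (eB b)) := by noncomm_ring
      _ = _ := by rw [eB_mul_self, hii]
  have hu : IsUnit (1 - w) := isUnit_of_sub_one_idlA (by
    have : (1 - w) - 1 = -w := by abel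
    rw [this]
    exact idlA_neg h0)
  have hz : (1 - w) * w = 0 := by rw [sub_mul, one_mul, hww, sub_self]
  have hw0 : w = 0 := by
    obtain ⟨v, hv⟩ := hu
    have h1 := congrArg (fun t => (↑v⁻¹ : GA G) * t) hz
    simp only [mul_zero] at h1
    rw [← mul_assoc, ← hv, Units.inv_mul, one_mul] at h1
    exact h1
  obtain ⟨χ, hχ, θ, hθ, h1⟩ := hcov
  have h2 : lin (χ : G → ℂ) w = 0 := by rw [hw0, lin_zero]
  rw [hw, lin_mul χ.2 (eB_mem_center B), omega_eB_mem hχ, one_mul, lin_incH] at h2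
  exact (nb_ne_zero_iff b (χ.2.isCharacter.restrict N)).2 ⟨θ, hθ, h1⟩ h2

/-- a defect group of a covered block is contained in a defect group of the covering block -/
theorem covered_defect_le (hM : IsPModular p M) {b : Set (IrrCharacter N)} (hb : IsPBlock M b)
    {B : Set (IrrCharacter G)} (hB : IsPBlock M B) (hcov : Covers B b) {D : Subgroup N}
    (hD : IsDefectGroup p M b D) {P : Subgroup G} (hP : IsDefectGroup p M B P) :
    ∃ x : G, D.map N.subtype ≤ P.map (MulAut.conj x).toMonoidHom := by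
  classical
  haveI := isPrime hM
  haveI := isMax hM
  haveI : Fact p.Prime := ⟨hM.1⟩
  haveI := charP_Kf hM
  by_contra hcon
  have hDp : IsPGroup p (D.map N.subtype) := (defectGroup_isPGroup hD).map _
  have hDN : D.map N.subtype ≤ N := Subgroup.map_subtype_le _
  have hcl : ∀ g h : G, (redA M (eB B)).coeff (h * g * h⁻¹) = (redA M (eB B)).coeff g := by
    intro g h
    have h1 : (eB B).coeff (h * g * h⁻¹) = (eB B).coeff g := mem_center_iff.1 (eB_mem_center B) g h
    rw [redA_coeff, redA_coeff, h1]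
  have hBf : ∀ K : Subgroup G, redA M (eB B) ∈ BrauerMap.fixAlg (Kf M) K := fun K =>
    BrauerMap.mem_fixAlg_iff_coeff.2 fun h _ g => hcl g h
  have hbr : BrauerMap.br (D.map N.subtype) (redA M (eB B)) = 0 := by
    apply BrauerMap.ext_coeff
    intro g
    rw [BrauerMap.zero_coeff]
    by_cases hg : g ∈ Subgroup.centralizer ((D.map N.subtype : Subgroup G) : Set G)
    · rw [BrauerMap.br_coeff_mem hg, redA_coeff, red_eq_zero_iff (locA_eB hB g)]
      by_contra h1
      rw [coeff_eB] at h1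
      have h2 := minmax_coeff hM hB hP h1
      apply hcon
      apply defLE_le h2 _ hDp
      intro d hd
      rw [Subgroup.mem_centralizer_singleton_iff]
      exact Subgroup.mem_centralizer_iff.1 hg d hd
    · exact BrauerMap.br_coeff_not_mem hg _
  have hbid := bid_mem_ZAlg (M := M) N b
  have hbb := bid_mul_self hb
  have hcomm : bid M N b * redA M (eB B) = redA M (eB B) * bid M N b :=
    BrauerMap.comm_of_supp_fix hbid.1 (hBf N)
  have hBB : redA M (eB B) * redA M (eB B) = redA M (eB B) := by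
    rw [← redA_mul (locA_eB hB) (locA_eB hB), eB_mul_self]
  apply bid_mul_ne_zero hM hb hB hcov
  refine BlockGraded.main (p := p) (N := N) hDp hDN hbid (fun z hz hz0 => nilp_of_br hM hb hD hz hz0)
    ((BrauerMap.fixAlg (Kf M) N).mul_mem (hBf N) hbid.2) ?_ ?_ ?_
  · rw [BrauerMap.br_mul hDp (hBf _) (BrauerMap.fixAlg_anti hDN hbid.2), hbr, zero_mul]
  · calc redA M (eB B) * bid M N b * (redA M (eB B) * bid M N b)
        = redA M (eB B) * (bid M N b * redA M (eB B)) * bid M N b := by noncomm_ring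
      _ = redA M (eB B) * (redA M (eB B) * bid M N b) * bid M N b := by rw [hcomm]
      _ = (redA M (eB B) * redA M (eB B)) * (bid M N b * bid M N b) := by noncomm_ring
      _ = _ := by rw [hBB, hbb]
  · rw [mul_assoc, hbb]

/-- Knörr's theorem for an invariant block -/
theorem knorr_stable (hM : IsPModular p M) {b : Set (IrrCharacter N)} (hb : IsPBlock M b) (hst : Stable b)
    {B : Set (IrrCharacter G)} (hB : IsPBlock M B) (hcov : Covers B b) {P : Subgroup G}
    (hP : IsDefectGroup p M B P) : IsDefectGroup p M b ((P ⊓ N).subgroupOf N) := by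
  obtain ⟨Q, hPQ, h1, -, -⟩ := exists_ge hM hb hst hB hcov hP
  obtain ⟨x, hx⟩ := covered_defect_le hM hb hB hcov h1 hP
  have h2 : ((Q ⊓ N).subgroupOf N).map N.subtype = Q ⊓ N :=
    Subgroup.map_subgroupOf_eq_of_le inf_le_right
  rw [h2] at hx
  have h3 : Q ⊓ N ≤ (P ⊓ N).map (MulAut.conj x).toMonoidHom := by
    intro y hy
    have h4 := hx hy
    rw [BlockDefect.mem_map_conj] at h4 ⊢
    refine ⟨h4, ?_⟩
    have := hN.conj_mem y hy.2 x⁻¹
    rwa [inv_inv] at this
  have h4 : Nat.card (Q ⊓ N : Subgroup G) ≤ Nat.card (P ⊓ N : Subgroup G) := by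
    have h5 := Subgroup.card_le_of_le h3
    rwa [BlockDefect.card_map_conj] at h5
  have h5 : P ⊓ N = Q ⊓ N := Subgroup.eq_of_le_of_card_ge (inf_le_inf_right N hPQ) h4
  rw [h5]
  exact h1

/-- the stabilizer of a set of characters of `N` -/
noncomputable def stabT (b : Set (IrrCharacter N)) : Subgroup G where
  carrier := {g | ∀ θ : IrrCharacter N, θ ∈ b ↔ cjEquiv g θ ∈ b}
  one_mem' := fun θ => by
    have : cjEquiv (1 : G) θ = θ := Subtype.ext (cj_one _)
    rw [this]
  mul_mem' := fun {g h} hg hh θ => by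
    have : cjEquiv (g * h) θ = cjEquiv h (cjEquiv g θ) := Subtype.ext (cj_cj _ _ _).symm
    rw [this, ← hh, ← hg]
  inv_mem' := fun {g} hg θ => by
    have h1 : cjEquiv g (cjEquiv g⁻¹ θ) = θ := Subtype.ext (cj_cj_inv _ _)
    rw [hg (cjEquiv g⁻¹ θ), h1]

theorem mem_stabT {b : Set (IrrCharacter N)} {g : G} :
    g ∈ stabT (G := G) b ↔ ∀ θ : IrrCharacter N, θ ∈ b ↔ cjEquiv g θ ∈ b := Iff.rfl

theorem mem_of_sameBlock_cj [M.IsPrime] {b : Set (IrrCharacter N)} (hb : IsPBlock M b) {θ : IrrCharacter N}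
    (hθ : θ ∈ b) {g : G} (hg : cjEquiv g θ ∈ b) (θ' : IrrCharacter N) : θ' ∈ b ↔ cjEquiv g θ' ∈ b := by
  constructor
  · intro h
    exact mem_of_sameBlock hb hg (sameBlock_cj (sameBlock_of_mem hb hθ h) g)
  · intro h
    have h1 := sameBlock_cj (sameBlock_of_mem hb hg h) g⁻¹
    change SameBlock M (cj N g⁻¹ (cj N g (θ : N → ℂ))) (cj N g⁻¹ (cj N g (θ' : N → ℂ))) at h1
    rw [cj_inv_cj, cj_inv_cj] at h1
    exact mem_of_sameBlock hb hθ h1

theorem stab_stabT [M.IsPrime] {b : Set (IrrCharacter N)} (hb : IsPBlock M b) : Stab b (stabT (G := G) b) where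
  hNT := by
    intro n hn θ
    have : cjEquiv n θ = θ := Subtype.ext (cj_of_mem θ.2.isClassFunction hn)
    rw [this]
  stab := by
    intro θ hθ g
    constructor
    · intro h θ'
      exact mem_of_sameBlock_cj hb hθ h θ'
    · intro h
      exact (h θ).1 hθ

/-- Fong-Reynolds, with defect groups. -/
theorem fong_reynolds [Fintype G] (hM : IsPModular p M) {b : Set (IrrCharacter N)} (hb : IsPBlock M b)
    {T : Subgroup G} (hs : Stab b T)
    {B : Set (IrrCharacter G)} (hB : IsPBlock M B) (hcov : Covers B b) :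
    ∃ B' : Set (IrrCharacter T), IsPBlock M B' ∧ (∃ ψ ∈ B', Over hs.hNT b ψ) ∧ IsInducedBlock M T B' B ∧
      blockDefect p B' = blockDefect p B ∧
      ∀ D : Subgroup T, IsDefectGroup p M B' D → IsDefectGroup p M B (D.map T.subtype) := by
  classical
  haveI := isPrime hM
  have hub : UnionOfBlocks M b := unionOfBlocks_of_isPBlock hb
  have hlb : LocA M (eB b) := locA_eB hb
  obtain ⟨χ, hχ, hχb⟩ := hcov
  obtain ⟨ψ, hψ, hχψ⟩ := ind_surj hs hχb
  have hB' : IsPBlock M (blockOf M (ψ : T → ℂ)) := isPBlock_blockOf ψ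
  obtain ⟨χ₀, hχ₀, hind, hmem⟩ := fong_main hs hub hB' (mem_blockOf_self ψ) hψ
  have hχχ : χ = χ₀ := Subtype.ext (by rw [hχψ, hχ₀])
  have hBeq : blockOf M (χ₀ : G → ℂ) = B := by rw [← hχχ]; exact (eq_blockOf hB hχ).symm
  rw [hBeq] at hind hmem
  have hirr : ∀ ψ' ∈ blockOf M (ψ : T → ℂ), IsIrrCharacter G (indFun T (ψ' : T → ℂ)) := fun ψ' hψ' =>
    ind_irr hs (over_all hs hlb (sameBlock_of_mem hB' (mem_blockOf_self ψ) hψ') hψ)
  have hv := vmin_ind (p := p) (isPBlock_nonempty hB') hmem hirr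
  have hd : blockDefect p (blockOf M (ψ : T → ℂ)) = blockDefect p B := by
    rw [BlockDefect.blockDefect_eq, BlockDefect.blockDefect_eq, hv, ← T.card_mul_index,
      Nat.factorization_mul Nat.card_pos.ne' Subgroup.index_ne_zero_of_finite, Finsupp.add_apply]
    omega
  refine ⟨_, hB', ⟨ψ, mem_blockOf_self ψ, hψ⟩, hind, hd, fun D hD => ?_⟩
  obtain ⟨E, hE⟩ := exists_defectGroup hM hB
  obtain ⟨x, hx⟩ := defect_le_induced hM hind hD hE
  apply isDefectGroup_of_le hE hx
  rw [defectGroup_card hM hB hE, Subgroup.card_map_of_injective T.subtype_injective,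
    defectGroup_card hM hB' hD, hd]

/-- transfer of the covering relation to `N.subgroupOf T` -/
theorem covers_subgroupOf {T : Subgroup G} (hNT : N ≤ T) [Fintype (N.subgroupOf T)] {b : Set (IrrCharacter N)}
    {B' : Set (IrrCharacter T)} (h : ∃ ψ ∈ B', Over hNT b ψ) : Covers B' (trB (subE hNT) b) := by
  obtain ⟨ψ, hψ, θ, hθ, h1⟩ := h
  refine ⟨ψ, hψ, trI (subE hNT) θ, trI_mem_trB.2 hθ, ?_⟩
  have h2 := classInner_comp_equiv (subE hNT) (Cfsg.Agent.Lib.CliffordCorr.resTo N T hNT (ψ : T → ℂ)) (θ : N → ℂ)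
  intro h3
  apply h1
  rw [← h2, ← h3]
  rfl

theorem over_of_covers {T : Subgroup G} (hNT : N ≤ T) [Fintype (N.subgroupOf T)] {b : Set (IrrCharacter N)}
    {B' : Set (IrrCharacter T)} (h : Covers B' (trB (subE hNT) b)) : ∃ ψ ∈ B', Over hNT b ψ := by
  obtain ⟨ψ, hψ, θ', hθ', h1⟩ := h
  obtain ⟨θ, rfl⟩ := (trI (subE hNT)).surjective θ'
  refine ⟨ψ, hψ, θ, trI_mem_trB.1 hθ', ?_⟩
  have h2 := classInner_comp_equiv (subE hNT) (Cfsg.Agent.Lib.CliffordCorr.resTo N T hNT (ψ : T → ℂ)) (θ : N → ℂ)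
  intro h3
  apply h1
  rw [h3] at h2
  rw [← h2]
  rfl

omit [Fintype N] in
theorem map_subE {T : Subgroup G} (hNT : N ≤ T) (D : Subgroup T) :
    ((D ⊓ N.subgroupOf T).subgroupOf (N.subgroupOf T)).map (subE hNT).toMonoidHom =
      ((D.map T.subtype ⊓ N).subgroupOf N) := by
  ext n
  rw [Subgroup.mem_subgroupOf]
  constructor
  · rintro ⟨y, hy, rfl⟩
    rw [SetLike.mem_coe, Subgroup.mem_subgroupOf] at hy
    exact ⟨⟨(y : T), hy.1, rfl⟩, hy.2⟩
  · rintro ⟨⟨t, ht, htn⟩, hn⟩
    have htN : t ∈ N.subgroupOf T := by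
      rw [Subgroup.mem_subgroupOf]
      have : (t : G) = n := htn
      rw [this]; exact n.2
    refine ⟨⟨t, htN⟩, ⟨ht, htN⟩, Subtype.ext htn⟩

theorem stable_trB {b : Set (IrrCharacter N)} {T : Subgroup G} (hs : Stab b T) [Fintype (N.subgroupOf T)] :
    Stable (G := T) (trB (subE hs.hNT) b) := by
  intro t θ' hθ' ψ' hψ'
  obtain ⟨θ, rfl⟩ := (trI (subE hs.hNT)).surjective θ'
  obtain ⟨ψ, rfl⟩ := (trI (subE hs.hNT)).surjective ψ'
  have hθ := trI_mem_trB.1 hθ'
  apply trI_mem_trB.2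
  have h1 : ψ = cjEquiv (t : G) θ := by
    apply Subtype.ext
    funext n
    have h2 := congrFun hψ' ((subE hs.hNT).symm n)
    rw [trI_apply, MulEquiv.apply_symm_apply] at h2
    rw [h2]
    rfl
  rw [h1]
  exact (hs.stab θ hθ t).2 t.2

/-- Knörr's theorem: if `B` covers `b` there is a defect group `P` of `B` stabilizing `b` such that `P ∩ N` is a
defect group of `b`. -/
theorem knorr [Fintype G] (hM : IsPModular p M) {b : Set (IrrCharacter N)} (hb : IsPBlock M b)
    {T : Subgroup G} (hs : Stab b T)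
    {B : Set (IrrCharacter G)} (hB : IsPBlock M B) (hcov : Covers B b) :
    ∃ P : Subgroup G, IsDefectGroup p M B P ∧ P ≤ T ∧ IsDefectGroup p M b ((P ⊓ N).subgroupOf N) := by
  classical
  haveI := isPrime hM
  haveI := Fintype.ofFinite T
  haveI := Fintype.ofFinite (N.subgroupOf T)
  obtain ⟨B', hB', hover, -, -, hD⟩ := fong_reynolds hM hb hs hB hcov
  obtain ⟨D, hDB'⟩ := exists_defectGroup hM hB'
  have h1 := knorr_stable hM (isPBlock_tr_iff.2 hb) (stable_trB hs) hB' (covers_subgroupOf hs.hNT hover) hDB'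
  rw [isDefectGroup_tr_iff, map_subE] at h1
  exact ⟨D.map T.subtype, hD D hDB', Subgroup.map_subtype_le _, h1⟩

end normal

end Cfsg.Agent.Lib.BlockKnorr
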