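import Cfsg.Agent.Lib.BlockKnorr
import Cfsg.Prelude.Def_BrauerPairs

/-!
# Conjugate blocks of a normal subgroup, and consequences of Knörr's theorem (helper16)
-/

set_option autoImplicit false
set_option linter.all false

namespace Cfsg.Agent.Lib.BlockKnorr

open Cfsg Cfsg.Agent.Lib.BlockRing Cfsg.Agent.Lib.BlockGA Cfsg.Agent.Lib.BlockIdem Cfsg.Agent.Lib.BlockDefect
  Cfsg.Agent.Lib.BlockCover Cfsg.Agent.Lib.BlockInv Cfsg.Agent.Lib.BlockAlg Cfsg.Agent.Lib.BlockFong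
  Cfsg.Agent.Lib.BlockTransfer
open Cfsg.Agent.Lib.CharBasic
open Cfsg.Agent.Lib.Clifford
open scoped ComplexConjugate

universe u

variable {G : Type u} [Group G] [Finite G] {p : ℕ} {M : Ideal AlgInt}
variable {N : Subgroup G} [hN : N.Normal] [Fintype N]

/-- the conjugate block: the characters `cj x θ`, `θ ∈ b`. -/
noncomputable def cjB (x : G) (b : Set (IrrCharacter N)) : Set (IrrCharacter N) :=
  trB (MulAut.conjNormal x : N ≃* N) b

theorem trI_conjNormal (x : G) (θ : IrrCharacter N) : trI (MulAut.conjNormal x : N ≃* N) θ = cjEquiv x θ := by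
  apply Subtype.ext
  rw [coe_trI, cjEquiv_coe, cj_eq_comp]

theorem mem_cjB {x : G} {b : Set (IrrCharacter N)} {ψ : IrrCharacter N} : ψ ∈ cjB x b ↔ ∃ θ ∈ b, cjEquiv x θ = ψ := by
  constructor
  · rintro ⟨θ, hθ, rfl⟩
    exact ⟨θ, hθ, (trI_conjNormal x θ).symm⟩
  · rintro ⟨θ, hθ, rfl⟩
    exact ⟨θ, hθ, trI_conjNormal x θ⟩

theorem cjEquiv_mem_cjB {x : G} {b : Set (IrrCharacter N)} {θ : IrrCharacter N} :
    cjEquiv x θ ∈ cjB x b ↔ θ ∈ b := by
  rw [mem_cjB]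
  constructor
  · rintro ⟨θ', h, h'⟩
    rwa [← (cjEquiv x).injective h']
  · intro h
    exact ⟨θ, h, rfl⟩

theorem isPBlock_cjB {x : G} {b : Set (IrrCharacter N)} : IsPBlock M (cjB x b) ↔ IsPBlock M b := isPBlock_tr_iff

theorem covers_cjB {x : G} {b : Set (IrrCharacter N)} {B : Set (IrrCharacter G)} (h : Covers B b) :
    Covers B (cjB x b) := by
  obtain ⟨χ, hχ, θ, hθ, h1⟩ := h
  refine ⟨χ, hχ, cjEquiv x θ, cjEquiv_mem_cjB.2 hθ, ?_⟩
  rw [cjEquiv_coe, classInner_cj_res χ.2.isClassFunction]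
  exact h1

theorem isDefectGroup_cjB {x : G} {b : Set (IrrCharacter N)} {P : Subgroup G} :
    IsDefectGroup p M (cjB x b) ((P ⊓ N).subgroupOf N) ↔
      IsDefectGroup p M b ((P.map (MulAut.conj x).toMonoidHom ⊓ N).subgroupOf N) := by
  rw [cjB, isDefectGroup_tr_iff]
  have h : ((P ⊓ N).subgroupOf N).map (MulAut.conjNormal x : N ≃* N).toMonoidHom =
      ((P.map (MulAut.conj x).toMonoidHom ⊓ N).subgroupOf N) := by
    ext n
    rw [Subgroup.mem_subgroupOf, Subgroup.mem_inf, BlockDefect.mem_map_conj]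
    constructor
    · rintro ⟨y, hy, rfl⟩
      rw [SetLike.mem_coe, Subgroup.mem_subgroupOf] at hy
      refine ⟨?_, Subtype.prop _⟩
      have h1 : x⁻¹ * (((MulAut.conjNormal x : N ≃* N).toMonoidHom y : N) : G) * x = y := by
        change x⁻¹ * ((MulAut.conjNormal x : N ≃* N) y : G) * x = y
        rw [MulAut.conjNormal_apply]; group
      rw [h1]
      exact hy.1
    · rintro ⟨h1, h2⟩
      have h3 : x⁻¹ * (n : G) * x ∈ N := by
        have := hN.conj_mem n n.2 x⁻¹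
        rwa [inv_inv] at this
      refine ⟨⟨x⁻¹ * n * x, h3⟩, ⟨h1, h3⟩, ?_⟩
      apply Subtype.ext
      change (((MulAut.conjNormal x : N ≃* N) _ : N) : G) = n
      rw [MulAut.conjNormal_apply]
      simp [mul_assoc]
  rw [h]

theorem stabilizes_iff [M.IsPrime] {b : Set (IrrCharacter N)} (hb : IsPBlock M b) {x : G} :
    StabilizesBlock N b x ↔ x ∈ stabT (G := G) b := by
  have hnorm : x ∈ Subgroup.normalizer (N : Set G) := by
    rw [Subgroup.normalizer_eq_top]; exact Subgroup.mem_top x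
  constructor
  · rintro ⟨-, h⟩
    obtain ⟨θ, hθ⟩ := isPBlock_nonempty hb
    obtain ⟨θ', hθ', h1⟩ := h θ hθ
    have h2 : cjEquiv x θ' = θ := by
      apply Subtype.ext
      funext n
      rw [cjEquiv_coe, cj_apply]
      exact h1 n ⟨x * n * x⁻¹, hN.conj_mem n n.2 x⟩ rfl
    exact ((stab_stabT (G := G) hb).stab θ' hθ' x).1 (by rw [h2]; exact hθ)
  · intro h
    refine ⟨hnorm, fun θ hθ => ?_⟩
    have h1 : x⁻¹ ∈ stabT (G := G) b := Subgroup.inv_mem _ h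
    refine ⟨cjEquiv x⁻¹ θ, (h1 θ).1 hθ, fun k k' hk => ?_⟩
    rw [cjEquiv_coe, cj_apply]
    have h2 : (⟨x⁻¹ * (k' : G) * x⁻¹⁻¹, hN.conj_mem (k' : G) k'.2 x⁻¹⟩ : N) = k := by
      apply Subtype.ext
      change x⁻¹ * (k' : G) * x⁻¹⁻¹ = k
      rw [hk]; group
    rw [h2]

/-- S4671 -/
theorem knorr' [Fintype G] (hM : IsPModular p M) {B : Set (IrrCharacter G)} (hB : IsPBlock M B) {P : Subgroup G}
    (hP : IsDefectGroup p M B P) :
    ∃ c : Set (IrrCharacter N), IsPBlock M c ∧ (∀ x ∈ P, StabilizesBlock N c x) ∧ Covers B c ∧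
      IsDefectGroup p M c ((P ⊓ N).subgroupOf N) := by
  classical
  haveI := isPrime hM
  obtain ⟨χ, hχ⟩ := isPBlock_nonempty hB
  obtain ⟨θ, hθ⟩ := exists_constituent_res N χ
  have hb : IsPBlock M (blockOf M (θ : N → ℂ)) := isPBlock_blockOf θ
  have hcov : Covers B (blockOf M (θ : N → ℂ)) := ⟨χ, hχ, θ, mem_blockOf_self θ, hθ⟩
  obtain ⟨P₁, hP₁, hPT, hD⟩ := knorr hM hb (stab_stabT hb) hB hcov
  obtain ⟨x, rfl⟩ := defectGroup_conj hM hB hP hP₁
  refine ⟨cjB x (blockOf M (θ : N → ℂ)), isPBlock_cjB.2 hb, ?_, covers_cjB hcov, isDefectGroup_cjB.2 hD⟩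
  intro y hy
  rw [stabilizes_iff (isPBlock_cjB.2 hb)]
  have h1 : x * y * x⁻¹ ∈ stabT (G := G) (blockOf M (θ : N → ℂ)) := hPT ⟨y, hy, rfl⟩
  refine ((stab_stabT (G := G) (isPBlock_cjB.2 hb)).stab (cjEquiv x θ) (cjEquiv_mem_cjB.2 (mem_blockOf_self θ)) y).1 ?_
  have h2 : cjEquiv y (cjEquiv x θ) = cjEquiv x (cjEquiv (x * y * x⁻¹) θ) := by
    apply Subtype.ext
    rw [cjEquiv_coe, cjEquiv_coe, cjEquiv_coe, cjEquiv_coe, cj_cj, cj_cj]
    congr 1
    group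
  rw [h2]
  exact cjEquiv_mem_cjB.2 ((h1 θ).1 (mem_blockOf_self θ))

end Cfsg.Agent.Lib.BlockKnorr
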