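import Cfsg.Agent.Lib.BlockKnorr2
import Cfsg.Agent.S0966

/-!
# Normal subgroups of `p`-power index (helper16)
-/

set_option autoImplicit false
set_option linter.all false

namespace Cfsg.Agent.Lib.BlockKnorr

open Cfsg Cfsg.Agent.Lib.BlockRing Cfsg.Agent.Lib.BlockGA Cfsg.Agent.Lib.BlockIdem Cfsg.Agent.Lib.BlockDefect
  Cfsg.Agent.Lib.BlockCover Cfsg.Agent.Lib.BlockInv Cfsg.Agent.Lib.BlockAlg Cfsg.Agent.Lib.BlockFong
  Cfsg.Agent.Lib.BlockTransfer
open Cfsg.Agent.Lib.CharBasic
open Cfsg.Agent.Lib.Clifford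
open Cfsg.Agent.Lib.BlockSecond (incH coeff_incH_coe coeff_incH_of_not_mem lin_incH locA_incH)
open scoped ComplexConjugate

universe u

variable {G : Type u} [Group G] [Fintype G] {p : ℕ} {M : Ideal AlgInt}
variable {N : Subgroup G} [hN : N.Normal] [Fintype N]

/-- uniqueness of the block covering a block of a normal subgroup of `p`-power index -/
theorem covers_unique (hM : IsPModular p M) (hidx : ∃ k : ℕ, N.index = p ^ k) {b : Set (IrrCharacter N)}
    (hb : IsPBlock M b) {B B' : Set (IrrCharacter G)} (hB : IsPBlock M B) (hB' : IsPBlock M B')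
    (h : Covers B b) (h' : Covers B' b) : B = B' := by
  haveI : Fact p.Prime := ⟨hM.1⟩
  exact (Cfsg.Agent.S0966.result p M hM N hidx b hb).unique ⟨hB, h⟩ ⟨hB', h'⟩

/-- the idempotent of a stable block of a normal subgroup of `p`-power index -/
theorem incH_eB_eq (hM : IsPModular p M) (hidx : ∃ k : ℕ, N.index = p ^ k) {b : Set (IrrCharacter N)}
    (hb : IsPBlock M b) (hst : Stable (G := G) b) {B : Set (IrrCharacter G)} (hB : IsPBlock M B)
    (h : Covers B b) : incH N (eB b) = (eB B : GA G) := by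
  haveI := isPrime hM
  apply center_ext (incH_eB_mem_center hst) (eB_mem_center B)
  intro χ
  by_cases hχ : χ ∈ B
  · obtain ⟨θ, hθ, h1⟩ := covers_all hB (unionOfBlocks_of_isPBlock hb) h hχ
    rw [omega_incH_eB_mem h1 hst hθ, omega_eB_mem hχ]
  · obtain ⟨θ, hθ⟩ := exists_constituent_res N χ
    have h1 : θ ∉ b := by
      intro h2
      apply hχ
      have h3 := covers_unique hM hidx hb hB (isPBlock_blockOf χ) h ⟨χ, mem_blockOf_self χ, θ, h2, hθ⟩
      rw [h3]
      exact mem_blockOf_self χ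
    rw [omega_incH_eB_not_mem hθ hst h1, omega_eB_not_mem hχ]

theorem coeff_incH_eB [Finite G] (b : Set (IrrCharacter N)) (g : G) :
    (incH N (eB b)).coeff g = subgroupBlockCoeff N b g := by
  unfold subgroupBlockCoeff
  by_cases hg : g ∈ N
  · rw [dif_pos hg]
    have := coeff_incH_coe (eB b) (⟨g, hg⟩ : N)
    rw [coeff_eB] at this
    exact this
  · rw [dif_neg hg, coeff_incH_of_not_mem _ hg]

theorem covers_of_coeff (hM : IsPModular p M) {b : Set (IrrCharacter N)}
    (hb : IsPBlock M b) (hst : Stable (G := G) b) {B : Set (IrrCharacter G)} (hB : IsPBlock M B)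
    (h : ∀ g : G, blockCoeff B g = subgroupBlockCoeff N b g) : Covers B b := by
  haveI := isPrime hM
  have h1 : incH N (eB b) = (eB B : GA G) := by
    ext g
    rw [coeff_incH_eB, coeff_eB, h]
  obtain ⟨χ, hχ⟩ := isPBlock_nonempty hB
  obtain ⟨θ, hθ⟩ := exists_constituent_res N χ
  refine ⟨χ, hχ, θ, ?_, hθ⟩
  by_contra h2
  have h3 := omega_incH_eB_not_mem hθ hst h2
  rw [h1, omega_eB_mem hχ] at h3
  exact one_ne_zero h3

theorem sup_eq_top (hM : IsPModular p M) (hidx : ∃ k : ℕ, N.index = p ^ k) {b : Set (IrrCharacter N)}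
    (hb : IsPBlock M b) (hst : Stable (G := G) b) {B : Set (IrrCharacter G)} (hB : IsPBlock M B)
    (h : Covers B b) {P : Subgroup G} (hP : IsDefectGroup p M B P) :
    P ⊔ N = ⊤ ∧ IsDefectGroup p M b ((P ⊓ N).subgroupOf N) := by
  haveI := isPrime hM
  obtain ⟨h1, h2, -⟩ := fong_defect hM hb hst hB h (fun B' hB' hc => by
    rw [covers_unique hM hidx hb hB' hB hc h]) hP
  refine ⟨?_, h2⟩
  obtain ⟨k, hk⟩ := hidx
  rw [← Subgroup.index_eq_one]
  have h3 : (P ⊔ N).index ∣ p ^ k := by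
    rw [← hk]; exact Subgroup.index_dvd_of_le le_sup_right
  obtain ⟨j, -, hj⟩ := (Nat.dvd_prime_pow hM.1).1 h3
  rcases Nat.eq_zero_or_pos j with h4 | h4
  · rw [hj, h4, pow_zero]
  · exact absurd (hj ▸ dvd_pow_self p h4.ne') h1

/-- stabilizers of blocks covered by a block with defect group in `N` -/
theorem stabT_le (hM : IsPModular p M) (hidx : ∃ k : ℕ, N.index = p ^ k) {b : Set (IrrCharacter N)}
    (hb : IsPBlock M b) {B : Set (IrrCharacter G)} (hB : IsPBlock M B)
    (h : Covers B b) {P : Subgroup G} (hP : IsDefectGroup p M B P) (hPN : P ≤ N) : stabT (G := G) b ≤ N := by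
  classical
  haveI := isPrime hM
  set T := stabT (G := G) b with hT
  have hs := stab_stabT (G := G) hb
  haveI := Fintype.ofFinite T
  haveI := Fintype.ofFinite (N.subgroupOf T)
  obtain ⟨B', hB', hover, -, -, hD⟩ := fong_reynolds hM hb hs hB h
  obtain ⟨D, hDB'⟩ := exists_defectGroup hM hB'
  obtain ⟨x, hx⟩ := defectGroup_conj hM hB hP (hD D hDB')
  have h1 : D ≤ N.subgroupOf T := by
    intro d hd
    rw [Subgroup.mem_subgroupOf]
    have h2 : (d : G) ∈ P.map (MulAut.conj x).toMonoidHom := by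
      rw [← hx]; exact ⟨d, hd, rfl⟩
    rw [BlockDefect.mem_map_conj] at h2
    have h3 := hN.conj_mem _ (hPN h2) x
    simpa [mul_assoc] using h3
  have hidx' : ∃ k : ℕ, (N.subgroupOf T).index = p ^ k := by
    obtain ⟨k, hk⟩ := hidx
    have h3 : (N.subgroupOf T).index ∣ p ^ k := by
      rw [← hk]; exact Subgroup.relIndex_dvd_index_of_normal N T
    obtain ⟨j, -, hj⟩ := (Nat.dvd_prime_pow hM.1).1 h3
    exact ⟨j, hj⟩
  have h2 := (sup_eq_top hM hidx' (isPBlock_tr_iff.2 hb) (stable_trB hs) hB' (covers_subgroupOf hs.hNT hover) hDB').1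
  rw [sup_eq_right.2 h1, Subgroup.subgroupOf_eq_top] at h2
  exact h2

end Cfsg.Agent.Lib.BlockKnorr
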