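import Mathlib
import Cfsg.Agent.Lib.BlockThird

/-!
# Külshammer's formula for the principal block idempotent
-/

set_option autoImplicit false
set_option linter.all false

namespace Cfsg.Agent.Lib.BlockKul

open Cfsg Cfsg.Agent.Lib.BlockRing Cfsg.Agent.Lib.BlockGA
open Cfsg.Agent.Lib.BlockIdem Cfsg.Agent.Lib.BlockThird Cfsg.Agent.Lib.BlockTrace
open scoped ComplexConjugate
open MonoidAlgebra (single)

universe u

/-! ### the residue field -/

section resid

variable {p : ℕ} (M : Ideal AlgInt) [hMp : M.IsPrime]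

/-- The maximal ideal of the local ring. -/
def idlI : Ideal (locRing M) where
  carrier := {z | MemLocalIdeal M (z : ℂ)}
  add_mem' := fun ha hb => idl_add ha hb
  zero_mem' := idl_zero
  smul_mem' := fun c z hz => idl_mul_left c.2 hz

theorem mem_idlI {z : locRing M} : z ∈ idlI M ↔ MemLocalIdeal M (z : ℂ) := Iff.rfl

variable {M}

theorem charP_quot (hM : IsPModular p M) : CharP (locRing M ⧸ idlI M) p := by
  have : Nontrivial (locRing M ⧸ idlI M) := by
    apply Ideal.Quotient.nontrivial_iff.2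
    intro h
    have : (1 : locRing M) ∈ idlI M := by rw [h]; trivial
    exact one_not_idl this
  rw [CharP.charP_iff_prime_eq_zero hM.1]
  have h1 : ((p : ℕ) : locRing M ⧸ idlI M) = Ideal.Quotient.mk (idlI M) ((p : ℕ) : locRing M) := by
    rw [map_natCast]
  rw [h1, Ideal.Quotient.eq_zero_iff_mem, mem_idlI]
  push_cast
  exact idl_p hM

theorem idl_sum_pow (hM : IsPModular p M) {ι : Type*} {s : Finset ι} {f : ι → ℂ}
    (hf : ∀ i ∈ s, MemLocalRing M (f i)) (n : ℕ) :
    MemLocalIdeal M ((∑ i ∈ s, f i) ^ p ^ n - ∑ i ∈ s, (f i) ^ p ^ n) := by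
  classical
  have := charP_quot hM
  have : Fact p.Prime := ⟨hM.1⟩
  induction s using Finset.induction_on with
  | empty => simp [hM.1.ne_zero, idl_zero]
  | insert a s ha ih =>
    rw [Finset.sum_insert ha, Finset.sum_insert ha]
    have h1 : MemLocalRing M (f a) := hf a (Finset.mem_insert_self a s)
    have h2 : MemLocalRing M (∑ i ∈ s, f i) := loc_sum fun i hi => hf i (Finset.mem_insert_of_mem hi)
    have h3 : MemLocalIdeal M ((f a + ∑ i ∈ s, f i) ^ p ^ n - (f a ^ p ^ n + (∑ i ∈ s, f i) ^ p ^ n)) := by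
      have h4 := add_pow_char_pow (p := p) (n := n) (Ideal.Quotient.mk (idlI M) ⟨f a, h1⟩)
        (Ideal.Quotient.mk (idlI M) ⟨∑ i ∈ s, f i, h2⟩)
      rw [← map_add, ← map_pow, ← map_pow, ← map_pow, ← map_add, Ideal.Quotient.eq, mem_idlI] at h4
      exact h4
    have h5 := idl_add h3 (ih fun i hi => hf i (Finset.mem_insert_of_mem hi))
    convert h5 using 1
    ring

/-- Frobenius is injective modulo the ideal. -/
theorem idl_of_frob (hM : IsPModular p M) {s e : ℂ} (hs : MemLocalRing M s) (he : MemLocalRing M e) {n : ℕ}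
    (h1 : MemLocalIdeal M (s ^ p ^ n - e)) (h2 : MemLocalIdeal M (s ^ p ^ (2 * n) - e)) :
    MemLocalIdeal M (s - e) := by
  have := charP_quot hM
  have : Fact p.Prime := ⟨hM.1⟩
  set q := Ideal.Quotient.mk (idlI M) with hq
  have e1 : q ⟨s, hs⟩ ^ p ^ n = q ⟨e, he⟩ := by
    rw [← map_pow, hq, Ideal.Quotient.eq, mem_idlI]; exact h1
  have e2 : q ⟨s, hs⟩ ^ p ^ (2 * n) = q ⟨e, he⟩ := by
    rw [← map_pow, hq, Ideal.Quotient.eq, mem_idlI]; exact h2
  have e3 : q ⟨e, he⟩ ^ p ^ n = q ⟨e, he⟩ := by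
    rw [← e1, ← pow_mul, ← pow_add, ← two_mul, e2, e1]
  have e4 : q (⟨s, hs⟩ - ⟨e, he⟩) ^ p ^ n = 0 := by
    rw [map_sub, sub_pow_char_pow, e1, e3, sub_self]
  rw [← map_pow, hq, Ideal.Quotient.eq_zero_iff_mem, mem_idlI] at e4
  exact idl_of_pow (loc_sub hs he) e4

end resid

variable {G : Type u} [Group G] [Fintype G] {p : ℕ} {M : Ideal AlgInt}

open scoped Classical in
/-- The sum of the `p`-elements. -/
noncomputable def pSum (p : ℕ) (G : Type u) [Group G] [Finite G] : GA G :=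
  ofFun (fun g => if ∃ k : ℕ, orderOf g = p ^ k then 1 else 0)

theorem pow_of_pelt (hp : p.Prime) {n : ℕ} (hn : Nat.card G ≤ n) {g : G} :
    (∃ k : ℕ, orderOf g = p ^ k) ↔ g ^ p ^ n = 1 := by
  constructor
  · rintro ⟨k, hk⟩
    have h1 : k < p ^ k := Nat.lt_pow_self hp.one_lt
    have h2 : orderOf g ≤ Nat.card G := Nat.le_of_dvd Nat.card_pos (orderOf_dvd_natCard g)
    have h3 : k ≤ n := by omega
    rw [← orderOf_dvd_iff_pow_eq_one, hk]
    exact pow_dvd_pow p h3
  · intro h
    obtain ⟨k, -, hk⟩ := (Nat.dvd_prime_pow hp).1 (orderOf_dvd_of_pow_eq_one h)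
    exact ⟨k, hk⟩

theorem coeff_mul_pSum [DecidableEq G] (a : GA G) (g : G) {n : ℕ} (hp : p.Prime) (hn : Nat.card G ≤ n) :
    (a * pSum p G).coeff g = ∑ x : G, if x ^ p ^ n = 1 then (single g⁻¹ 1 * a).coeff x else 0 := by
  classical
  rw [coeff_mul_fintype']
  have h1 : ∀ x : G, (pSum p G).coeff x = if x ^ p ^ n = 1 then 1 else 0 := by
    intro x
    rw [pSum, coeff_ofFun]
    exact if_congr (pow_of_pelt hp hn) rfl rfl
  have h2 : ∀ x : G, (single g⁻¹ 1 * a).coeff x = a.coeff (g * x) := by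
    intro x
    rw [coeff_mul_fintype, Finset.sum_eq_single g⁻¹]
    · rw [MonoidAlgebra.coeff_single_apply, if_pos rfl, one_mul, inv_inv]
    · intro b _ hb
      rw [MonoidAlgebra.coeff_single_apply, if_neg hb.symm, zero_mul]
    · intro h; exact absurd (Finset.mem_univ _) h
  simp only [h1, h2]
  refine Fintype.sum_equiv (Equiv.inv G) _ _ fun x => ?_
  simp only [Equiv.inv_apply, inv_pow, inv_eq_one]
  split_ifs <;> simp

/-- The key congruence. -/
theorem mul_pSum_pow (hM : IsPModular p M) {a : GA G} (hc : a ∈ Subalgebra.center ℂ (GA G))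
    (ha : LocA M a) (g : G) {n : ℕ} (hn : Nat.card G ≤ n) :
    MemLocalIdeal M (((a * pSum p G).coeff g) ^ p ^ n - (a ^ p ^ n).coeff (g ^ p ^ n)) := by
  classical
  have := isPrime hM
  have hga : LocA M (single g⁻¹ 1 * a) := locA_mul (locA_single loc_one) ha
  rw [coeff_mul_pSum a g hM.1 hn]
  have h1 := idl_sum_pow hM (s := Finset.univ)
    (f := fun x : G => if x ^ p ^ n = 1 then (single g⁻¹ 1 * a).coeff x else 0) (by
      intro x _
      split_ifs
      · exact hga x
      · exact loc_zero) n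
  have h2 := coeff_pow_one_idl hM hga n
  have h3 : (single g⁻¹ (1 : ℂ) * a) ^ p ^ n = single (g⁻¹ ^ p ^ n) 1 * a ^ p ^ n := by
    have h4 : Commute (single g⁻¹ (1 : ℂ)) a := (center_comm hc _).symm
    rw [h4.mul_pow, MonoidAlgebra.single_pow, one_pow]
  have h5 : ((single g⁻¹ (1 : ℂ) * a) ^ p ^ n).coeff 1 = (a ^ p ^ n).coeff (g ^ p ^ n) := by
    rw [h3, coeff_mul_fintype, Finset.sum_eq_single (g⁻¹ ^ p ^ n)]
    · rw [MonoidAlgebra.coeff_single_apply, if_pos rfl, one_mul]
      simp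
    · intro b _ hb
      rw [MonoidAlgebra.coeff_single_apply, if_neg hb.symm, zero_mul]
    · intro h; exact absurd (Finset.mem_univ _) h
  rw [h5] at h2
  have h6 : ∑ x : G, (if x ^ p ^ n = 1 then (single g⁻¹ (1 : ℂ) * a).coeff x else 0) ^ p ^ n =
      ∑ x : G, if x ^ p ^ n = 1 then ((single g⁻¹ (1 : ℂ) * a).coeff x) ^ p ^ n else 0 := by
    refine Finset.sum_congr rfl fun x _ => ?_
    split_ifs
    · rfl
    · exact zero_pow (pow_ne_zero _ hM.1.ne_zero)
  rw [h6] at h1
  exact idl_sub_trans h1 (idl_sub_symm h2)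

theorem idlA_mul_pSum (hM : IsPModular p M) {a : GA G} (hc : a ∈ Subalgebra.center ℂ (GA G))
    (ha : LocA M a) (hu : ∀ χ : IrrCharacter G, MemLocalIdeal M (omega (χ : G → ℂ) a)) :
    IdlA M (a * pSum p G) := by
  have := isPrime hM
  obtain ⟨n, hn⟩ := idlA_pow_mul_eB unionOfBlocks_univ hc ha (fun χ _ => hu χ)
  rw [eB_univ, mul_one] at hn
  have h1 : n ≤ p ^ (n + Nat.card G) := (Nat.lt_pow_self hM.1.one_lt).le.trans
    (Nat.pow_le_pow_right hM.1.pos (Nat.le_add_right _ _))
  have h2 : IdlA M (a ^ p ^ (n + Nat.card G)) := by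
    obtain ⟨d, hd⟩ := Nat.exists_eq_add_of_le h1
    rw [hd, pow_add]
    exact idlA_mul_right hn (locA_pow ha d)
  have hX : LocA M (pSum p G) := by
    intro g
    classical
    rw [pSum, coeff_ofFun]
    split_ifs
    · exact loc_one
    · exact loc_zero
  intro g
  have h3 := mul_pSum_pow hM hc ha g (n := n + Nat.card G) (Nat.le_add_left _ _)
  have h4 := (idl_congr h3).2 (h2 _)
  exact idl_of_pow ((locA_mul ha hX) g) h4

theorem coeff_eB_mul_pSum (hM : IsPModular p M) {B : Set (IrrCharacter G)} (hB : IsPBlock M B) {g : G}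
    (hg : ¬ p ∣ orderOf g) :
    MemLocalIdeal M ((eB B * pSum p G).coeff g - blockCoeff B g) := by
  classical
  have := isPrime hM
  have hX : LocA M (pSum p G) := by
    intro g
    rw [pSum, coeff_ofFun]
    split_ifs
    · exact loc_one
    · exact loc_zero
  have key : ∀ n : ℕ, Nat.card G ≤ n → g ^ p ^ n = g →
      MemLocalIdeal M (((eB B * pSum p G).coeff g) ^ p ^ n - blockCoeff B g) := by
    intro n hn hgn
    have h1 := mul_pSum_pow hM (eB_mem_center B) (locA_eB hB) g hn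
    rw [hgn] at h1
    have h2 : eB B ^ p ^ n = eB B := by
      have : IsIdempotentElem (eB B) := eB_mul_self B
      exact this.pow_eq (pow_ne_zero _ hM.1.ne_zero)
    rw [h2] at h1
    exact h1
  have hcop : Nat.Coprime p (orderOf g) := (Nat.Prime.coprime_iff_not_dvd hM.1).2 hg
  have hn : ∀ j : ℕ, g ^ p ^ (j * Nat.totient (orderOf g)) = g := by
    intro j
    have h1 : p ^ (j * Nat.totient (orderOf g)) ≡ 1 [MOD orderOf g] := by
      rw [mul_comm, pow_mul]
      have := (Nat.ModEq.pow_totient hcop).pow j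
      rwa [one_pow] at this
    have h2 := (pow_eq_pow_iff_modEq (x := g)).2 h1
    rwa [pow_one] at h2
  have hpos : 0 < Nat.totient (orderOf g) := Nat.totient_pos.2 (orderOf_pos g)
  apply idl_of_frob hM ((locA_mul (locA_eB hB) hX) g) (loc_blockCoeff hB g)
    (n := Nat.card G * Nat.totient (orderOf g))
  · exact key _ (Nat.le_mul_of_pos_right _ hpos) (hn _)
  · rw [← mul_assoc]
    exact key _ ((Nat.le_mul_of_pos_left _ two_pos).trans (Nat.le_mul_of_pos_right _ hpos)) (hn _)

theorem coeff_regSum_mul_pSum (g : G) :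
    (regSum p G * pSum p G).coeff g = (Nat.card {xy : G × G // (∃ k : ℕ, orderOf xy.1 = p ^ k) ∧
      ¬ p ∣ orderOf xy.2 ∧ xy.1 * xy.2 = g} : ℂ) := by
  classical
  rw [coeff_mul_fintype']
  have e : {xy : G × G // (∃ k : ℕ, orderOf xy.1 = p ^ k) ∧ ¬ p ∣ orderOf xy.2 ∧ xy.1 * xy.2 = g} ≃
      {x : G // (∃ k : ℕ, orderOf x = p ^ k) ∧ ¬ p ∣ orderOf (x⁻¹ * g)} :=
    { toFun := fun xy => ⟨xy.1.1, xy.2.1, by
        rw [show xy.1.1⁻¹ * g = xy.1.2 from inv_mul_eq_iff_eq_mul.2 xy.2.2.2.symm]; exact xy.2.2.1⟩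
      invFun := fun x => ⟨(x.1, x.1⁻¹ * g), x.2.1, x.2.2, mul_inv_cancel_left _ _⟩
      left_inv := fun xy => by
        apply Subtype.ext
        apply Prod.ext
        · rfl
        · exact inv_mul_eq_iff_eq_mul.2 xy.2.2.2.symm
      right_inv := fun x => rfl }
  rw [Nat.card_congr e, Nat.card_eq_fintype_card, Fintype.card_subtype, Finset.card_filter]
  push_cast
  refine Finset.sum_congr rfl fun x _ => ?_
  have h1 : orderOf (g * x⁻¹) = orderOf (x⁻¹ * g) := by
    have := orderOf_conj (x⁻¹ * g) x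
    rw [← this]; congr 1; group
  rw [regSum, pSum, coeff_ofFun, coeff_ofFun, h1]
  by_cases h2 : ∃ k : ℕ, orderOf x = p ^ k
  · by_cases h3 : p ∣ orderOf (x⁻¹ * g)
    · simp [h3]
    · rw [if_pos h3, if_pos h2, if_pos ⟨h2, h3⟩, mul_one]
  · rw [if_neg h2, mul_zero, if_neg (fun h => h2 h.1)]

theorem kulshammer (hM : IsPModular p M) {g : G} (hg : ¬ p ∣ orderOf g) :
    MemLocalIdeal M (blockCoeff (principalBlock M G) g - (Nat.card {xy : G × G //
      (∃ k : ℕ, orderOf xy.1 = p ^ k) ∧ ¬ p ∣ orderOf xy.2 ∧ xy.1 * xy.2 = g} : ℂ) /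
      (Nat.card {y : G // ¬ p ∣ orderOf y} : ℂ)) := by
  classical
  have := isPrime hM
  set R : ℂ := (Nat.card {y : G // ¬ p ∣ orderOf y} : ℂ) with hR
  have hRl : MemLocalRing M R := loc_natCast _
  have hRn : ¬ MemLocalIdeal M R := not_idl_card_regular hM
  have hR0 : R ≠ 0 := ne_zero_of_not_idl hRn
  have hB : IsPBlock M (principalBlock M G) := isPBlock_principal
  have hc : (regSum p G - R • eB (principalBlock M G)) ∈ Subalgebra.center ℂ (GA G) :=
    Subalgebra.sub_mem _ regSum_mem_center (Subalgebra.smul_mem _ (eB_mem_center _) _)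
  have hl : LocA M (regSum p G - R • eB (principalBlock M G)) :=
    locA_sub locA_regSum (locA_smul hRl (locA_eB hB))
  have h1 := idlA_mul_pSum hM hc hl (by
    intro χ
    rw [omega_sub, omega_smul]
    by_cases hχ : χ ∈ principalBlock M G
    · rw [omega_eB_mem hχ, mul_one]
      have h2 := sameBlock_omega (triv G).2.isClassFunction χ.2.isClassFunction (M := M) hχ
        (regSum_mem_center (p := p)) locA_regSum
      rw [omega_regSum_triv] at h2
      exact idl_sub_symm h2
    · rw [omega_eB_not_mem hχ, omega_regSum_eq_zero hM hχ, mul_zero, sub_zero]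
      exact idl_zero)
  have h2 := h1 g
  rw [sub_mul, smul_mul_assoc, MonoidAlgebra.coeff_sub, MonoidAlgebra.coeff_smul] at h2
  simp only [Finsupp.coe_sub, Finsupp.coe_smul, Pi.sub_apply, Pi.smul_apply, smul_eq_mul] at h2
  rw [coeff_regSum_mul_pSum] at h2
  have h3 := coeff_eB_mul_pSum hM hB hg
  have h4 := idl_mul_left hRl h3
  have h5 := idl_add h2 h4
  have h6 := idl_mul_left (loc_inv hRl hRn) (idl_neg h5)
  convert h6 using 1
  field_simp
  ring

end Cfsg.Agent.Lib.BlockKul
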