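import Cfsg.Agent.Lib.BlockFirst
import Cfsg.Agent.Lib.CharValues
import Cfsg.Agent.Lib.BlockSecond2

/-!
# Values of characters modulo `M`; elements `x * y` with `y` in a defect class
-/

set_option autoImplicit false
set_option linter.all false

namespace Cfsg.Agent.Lib.BlockVal

open Cfsg Cfsg.Agent.Lib.BlockRing Cfsg.Agent.Lib.BlockGA Cfsg.Agent.Lib.BlockIdem
open Cfsg.Agent.Lib.CharBasic Cfsg.Agent.Lib.BlockNormP Cfsg.Agent.Lib.BlockHom Cfsg.Agent.Lib.BlockDefect
open Cfsg.Agent.Lib.BlockFirst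
open Cfsg.Agent.Lib.BlockRes (resH coeff_resH brH coeff_brH)
open scoped ComplexConjugate

universe u

variable {G : Type u} [Group G] [Finite G] {p : ℕ} {M : Ideal AlgInt}

/-- `χ(xy) ≡ χ(y)` for a `p`-element `x` commuting with `y`. -/
theorem idl_value_mul (hM : IsPModular p M) {χ : G → ℂ} (hχ : IsCharacter G χ) {x y : G}
    (hx : ∃ k : ℕ, orderOf x = p ^ k) (hxy : Commute x y) : MemLocalIdeal M (χ (x * y) - χ y) := by
  haveI := isPrime hM
  obtain ⟨n, ρ, rfl⟩ := hχ
  obtain ⟨k, hk⟩ := hx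
  obtain ⟨b, μ, h⟩ := CharValues.exists_common_eigenbasis (fun i : Bool => if i then ρ x else ρ y)
    (by
      have h1 : Commute (ρ x) (ρ y) := by
        have := hxy.map ρ
        exact this
      intro i j
      cases i <;> cases j <;> simp [h1, h1.symm, Commute.refl])
    (by
      intro i
      cases i
      · exact ⟨orderOf y, orderOf_pos y, CharValues.rep_pow_orderOf ρ y⟩
      · exact ⟨orderOf x, orderOf_pos x, CharValues.rep_pow_orderOf ρ x⟩)
  have hx' : ∀ i, ρ x (b i) = μ i true • b i := fun i => h i true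
  have hy' : ∀ i, ρ y (b i) = μ i false • b i := fun i => h i false
  have hxy' : ∀ i, ρ (x * y) (b i) = (μ i true * μ i false) • b i := by
    intro i
    rw [map_mul, Module.End.mul_apply, hy', map_smul, hx', smul_smul, mul_comm]
  have e1 : ρ.character (x * y) = ∑ i, μ i true * μ i false := CharValues.trace_eq_sum_of_eigenbasis b _ _ hxy'
  have e2 : ρ.character y = ∑ i, μ i false := CharValues.trace_eq_sum_of_eigenbasis b _ _ hy'
  rw [e1, e2, ← Finset.sum_sub_distrib]
  refine idl_sum fun i _ => ?_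
  have hpow : ∀ (g : G) (ν : ℂ), ρ g (b i) = ν • b i → ν ^ orderOf g = 1 := by
    intro g ν hν
    have h1 : ∀ m : ℕ, ρ (g ^ m) (b i) = ν ^ m • b i := by
      intro m
      induction m with
      | zero => simp
      | succ m ih => rw [pow_succ, map_mul, Module.End.mul_apply, hν, map_smul, ih, smul_smul, pow_succ, mul_comm]
    have h2 := h1 (orderOf g)
    rw [pow_orderOf_eq_one, map_one, Module.End.one_apply] at h2
    have h3 : (1 - ν ^ orderOf g) • b i = 0 := by
      rw [sub_smul, one_smul, ← h2, sub_self]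
    rcases smul_eq_zero.mp h3 with h4 | h4
    · exact (sub_eq_zero.mp h4).symm
    · exact absurd h4 (b.ne_zero i)
  have h1 := hpow x _ (hx' i)
  have h2 := hpow y _ (hy' i)
  rw [hk] at h1
  have h3 : μ i true * μ i false - μ i false = (μ i true - 1) * μ i false := by ring
  rw [h3]
  refine idl_mul_right (idl_sub_one_of_pow hM h1) (loc_of_isIntegral ?_)
  exact IsIntegral.of_pow (orderOf_pos y) (by rw [h2]; exact isIntegral_one)

/-- the centralizer of `x * y` for commuting `x` (`p`-element) and `y` (`p`-regular) -/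
theorem mem_centralizer_mul (hp : p.Prime) {x y : G} (hx : ∃ k : ℕ, orderOf x = p ^ k) (hy : ¬ p ∣ orderOf y)
    (hxy : Commute x y) {g : G} : g ∈ Subgroup.centralizer ({x * y} : Set G) ↔ Commute g x ∧ Commute g y := by
  rw [Subgroup.mem_centralizer_singleton_iff]
  obtain ⟨k, hk⟩ := hx
  constructor
  · intro h
    have h1 : (g * x * g⁻¹) * (g * y * g⁻¹) = x * y := by
      calc (g * x * g⁻¹) * (g * y * g⁻¹) = g * (x * y) * g⁻¹ := by group
        _ = x * y * g * g⁻¹ := by rw [h]
        _ = x * y := by group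
    have h2 : Commute (g * x * g⁻¹) (g * y * g⁻¹) := hxy.map (MulAut.conj g).toMonoidHom
    have h3 := BlockSecond.eq_of_comm_of_orders hp h2 hxy h1
      (by rw [show orderOf (g * x * g⁻¹) = orderOf x from MulEquiv.orderOf_eq (MulAut.conj g) x]; exact hk) hk
      (by rw [show orderOf (g * y * g⁻¹) = orderOf y from MulEquiv.orderOf_eq (MulAut.conj g) y]; exact hy) hy
    constructor
    · have := congrArg (fun t => t * g) h3.1
      show g * x = x * g
      simpa [mul_assoc] using this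
    · have := congrArg (fun t => t * g) h3.2
      show g * y = y * g
      simpa [mul_assoc] using this
  · rintro ⟨h1, h2⟩
    exact h1.mul_right h2

/-- S0927 (a) -/
theorem not_idl_value_mul (hM : IsPModular p M) {B : Set (IrrCharacter G)} (hB : IsPBlock M B) {y : G}
    (hy : IsDefectClass M B y) {x : G} (hx : ∃ k : ℕ, orderOf x = p ^ k) (hxy : Commute x y)
    {χ : IrrCharacter G} (hχ : χ ∈ B) (h0 : blockHeight p B (χ : G → ℂ) = 0) :
    ¬ MemLocalIdeal M ((χ : G → ℂ) (x * y)) := by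
  haveI := isPrime hM
  rw [idl_congr (idl_value_mul hM χ.2.isCharacter hx hxy)]
  exact not_idl_value_of_height_zero hM hB hy hχ ((height_zero_iff hχ).1 h0)

/-- S0927 (b) -/
theorem not_idl_centralChar_mul (hM : IsPModular p M) {B : Set (IrrCharacter G)} (hB : IsPBlock M B) {y : G}
    (hy : IsDefectClass M B y) {P : Subgroup G} (hP : SylC p y P) {x : G} (hx : x ∈ P)
    (hxP : ∀ w ∈ P, x * w = w * x) {χ : IrrCharacter G} (hχ : χ ∈ B) :
    ¬ MemLocalIdeal M (centralChar (χ : G → ℂ) (x * y)) := by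
  haveI := isPrime hM
  haveI : Fact p.Prime := ⟨hM.1⟩
  have hPp := sylIn_isPGroup hP
  have hxo : ∃ k : ℕ, orderOf x = p ^ k := by
    obtain ⟨k, hk⟩ := (IsPGroup.iff_orderOf.1 hPp) ⟨x, hx⟩
    rw [Subgroup.orderOf_mk] at hk
    exact ⟨k, hk⟩
  have hyr : ¬ p ∣ orderOf y := defectClass_regular hM hB hy
  have hxy : Commute x y := by
    have := Subgroup.mem_centralizer_singleton_iff.1 (sylIn_le hP hx)
    exact this
  obtain ⟨ψ, hψ, h0⟩ := exists_height_zero (p := p) (isPBlock_nonempty hB)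
  have h1 : MemLocalIdeal M (centralChar (χ : G → ℂ) (x * y) - centralChar (ψ : G → ℂ) (x * y)) :=
    sameBlock_of_mem hB hχ hψ (x * y)
  rw [idl_congr h1]
  have hv := not_idl_value_mul hM hB hy hxo hxy hψ h0
  have h0' := (height_zero_iff hψ).1 h0
  -- the index of the centralizer
  set C := Subgroup.centralizer ({x * y} : Set G) with hC
  have hPC : SylIn p C P := by
    rw [SylC, sylIn_iff] at hP
    rw [sylIn_iff]
    refine ⟨?_, hP.2.1, ?_⟩
    · intro w hw
      rw [hC, mem_centralizer_mul hM.1 hxo hyr hxy]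
      exact ⟨(hxP w hw).symm, Subgroup.mem_centralizer_singleton_iff.1 (hP.1 hw)⟩
    · intro R hR hRp hPR
      apply hP.2.2 R _ hRp hPR
      intro r hr
      have := hR hr
      rw [hC, mem_centralizer_mul hM.1 hxo hyr hxy] at this
      rw [Subgroup.mem_centralizer_singleton_iff]
      exact this.2
  have h2 : (Nat.card C).factorization p = (Nat.card (Subgroup.centralizer ({y} : Set G))).factorization p := by
    have h3 := sylIn_card hPC
    have h4 := sylC_card hP
    rw [h3] at h4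
    exact Nat.pow_right_injective hM.1.two_le h4
  have h3 := fact_card_centralizer (p := p) (x * y)
  have h4 := fact_card_centralizer (p := p) y
  have h5 := fact_centralizer_defectClass hM hB hy
  have h6 : (C.index).factorization p = vdeg p ψ := by
    rw [h0', ← h5]
    rw [← hC] at h3
    omega
  have hidx : C.index ≠ 0 := Subgroup.index_ne_zero_of_finite
  have hd := charDegree_spec ψ.2
  have h7 : MemLocalRing M (((C.index : ℕ) : ℂ) / ((charDegree (ψ : G → ℂ) : ℕ) : ℂ)) :=
    (loc_div_natCast_iff hM hidx hd.2).2 h6.ge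
  have h8 : ¬ MemLocalIdeal M (((C.index : ℕ) : ℂ) / ((charDegree (ψ : G → ℂ) : ℕ) : ℂ)) := by
    rw [idl_div_natCast_iff hM hidx hd.2]
    exact not_lt.2 h6.le
  have h9 : centralChar (ψ : G → ℂ) (x * y) = (((C.index : ℕ) : ℂ) / ((charDegree (ψ : G → ℂ) : ℕ) : ℂ)) *
      (ψ : G → ℂ) (x * y) := by
    rw [centralChar, ← hC, hd.1]
    ring
  rw [h9]
  exact not_idl_mul h7 h8 hv

/-- a character of defect zero vanishes on `p`-singular elements -/
theorem defect_zero_vanish (hM : IsPModular p M) {χ : IrrCharacter G}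
    (h : (Nat.card G).factorization p ≤ (charDegree (χ : G → ℂ)).factorization p) {g : G}
    (hg : p ∣ orderOf g) : (χ : G → ℂ) g = 0 := by
  classical
  haveI := isPrime hM
  have hd := charDegree_spec χ.2
  have hl : LocA M (eB ({χ} : Set (IrrCharacter G))) := by
    intro x
    rw [coeff_eB, BlockCover.blockCoeff_eq_sum', Finset.sum_eq_single χ]
    · rw [if_pos (Set.mem_singleton χ), ← χ.2.inv, hd.1]
      have h1 : (Nat.card G : ℂ)⁻¹ * ((charDegree (χ : G → ℂ) : ℂ) * (χ : G → ℂ) x⁻¹) =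
          ((charDegree (χ : G → ℂ) : ℂ) / (Nat.card G : ℂ)) * (χ : G → ℂ) x⁻¹ := by ring
      rw [h1]
      exact loc_mul ((loc_div_natCast_iff hM hd.2 Nat.card_pos.ne').2 h) (loc_irr χ _)
    · intro ψ _ hψ
      rw [if_neg (by simpa using hψ)]
    · intro h1; exact absurd (Finset.mem_univ _) h1
  have hu := BlockPPrime.unionOfBlocks_of_locA hl
  have h1 := Cfsg.Agent.Lib.BlockOsima.blockCoeff_eq_zero_of_union hM hu hg
  rw [BlockCover.blockCoeff_eq_sum', Finset.sum_eq_single χ] at h1
  · rw [if_pos (Set.mem_singleton χ)] at h1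
    rcases mul_eq_zero.1 h1 with h2 | h2
    · exact absurd h2 (inv_ne_zero (by exact_mod_cast Nat.card_pos.ne'))
    · rcases mul_eq_zero.1 h2 with h3 | h3
      · exact absurd h3 χ.2.one_ne_zero
      · rwa [map_eq_zero] at h3
  · intro ψ _ hψ
    rw [if_neg (by simpa using hψ)]
  · intro h1; exact absurd (Finset.mem_univ _) h1

/-- normal case of S0929: if `P` is normal and `|P| = p ^ defect` then `p`-parts of elements where a member
trivial on `P` does not vanish lie in `P`. -/
theorem ppart_mem_of_ne_zero (hM : IsPModular p M) {P : Subgroup G} [hPn : P.Normal] {B : Set (IrrCharacter G)}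
    (hB : IsPBlock M B) (hD : IsDefectGroup p M B P) {χ : IrrCharacter G} (hχ : χ ∈ B)
    (hχP : ∀ u ∈ P, (χ : G → ℂ) u = (χ : G → ℂ) 1) {g : G} (hg : (χ : G → ℂ) g ≠ 0) {z : G}
    (hz : IsPPart p g z) : z ∈ P := by
  haveI := isPrime hM
  haveI : Fact p.Prime := ⟨hM.1⟩
  obtain ⟨ψ, hψ, h1⟩ := χ.2.deflate P hχP
  -- degree
  have hdeg : charDegree ψ = charDegree (χ : G → ℂ) := by
    rw [charDegree, charDegree]
    congr 2
    exact h1 1
  have hcard := defectGroup_card hM hB hD
  have hle : (Nat.card (G ⧸ P)).factorization p ≤ (charDegree ψ).factorization p := by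
    have h2 := pow_dvd_degree hM hB hχ
    have h3 : (Nat.card G).factorization p - blockDefect p B ≤ (charDegree (χ : G → ℂ)).factorization p :=
      (hM.1.pow_dvd_iff_le_factorization (charDegree_spec χ.2).2).1 h2
    rw [hdeg]
    have h4 : Nat.card G = Nat.card (G ⧸ P) * Nat.card P := Subgroup.card_eq_card_quotient_mul_card_subgroup P
    have h5 : (Nat.card G).factorization p = (Nat.card (G ⧸ P)).factorization p + blockDefect p B := by
      rw [h4, Nat.factorization_mul Nat.card_pos.ne' Nat.card_pos.ne', Finsupp.add_apply, hcard,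
        hM.1.factorization_pow, Finsupp.single_eq_same]
    omega
  have h2 : ¬ p ∣ orderOf ((g : G) : G ⧸ P) := by
    intro h3
    apply hg
    rw [← h1 g]
    exact defect_zero_vanish hM (χ := ⟨ψ, hψ⟩) hle h3
  obtain ⟨y, hzy, hc, ⟨k, hk⟩, hy⟩ := hz
  -- z is a power of g
  have h3 : orderOf ((z : G) : G ⧸ P) ∣ p ^ k := by
    rw [← hk]; exact orderOf_map_dvd (QuotientGroup.mk' P) z
  have h4 : orderOf ((z : G) : G ⧸ P) ∣ orderOf ((g : G) : G ⧸ P) := by
    have h5 : (QuotientGroup.mk' P z) * (QuotientGroup.mk' P y) = QuotientGroup.mk' P g := by rw [← map_mul, hzy]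
    have h6 : Commute (QuotientGroup.mk' P z) (QuotientGroup.mk' P y) := hc.map _
    have h7 : Nat.Coprime (orderOf (QuotientGroup.mk' P z)) (orderOf (QuotientGroup.mk' P y)) := by
      have h8 : orderOf (QuotientGroup.mk' P y) ∣ orderOf y := orderOf_map_dvd _ y
      have h9 : ¬ p ∣ orderOf (QuotientGroup.mk' P y) := fun h => hy (h.trans h8)
      exact Nat.Coprime.coprime_dvd_left h3 (Nat.Coprime.pow_left k ((Nat.Prime.coprime_iff_not_dvd hM.1).2 h9))
    have h8 := h6.orderOf_mul_eq_mul_orderOf_of_coprime h7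
    rw [h5] at h8
    show orderOf (QuotientGroup.mk' P z) ∣ orderOf (QuotientGroup.mk' P g)
    rw [h8]
    exact dvd_mul_right _ _
  have h5 : Nat.Coprime (orderOf ((g : G) : G ⧸ P)) (p ^ k) :=
    Nat.Coprime.pow_right k ((Nat.Prime.coprime_iff_not_dvd hM.1).2 h2).symm
  have h6 := Nat.eq_one_of_dvd_coprimes h5 h4 h3
  rw [orderOf_eq_one_iff] at h6
  exact (QuotientGroup.eq_one_iff z).1 h6

/-- S0929 -/
theorem exists_conj_ppart_center (hM : IsPModular p M) {B : Set (IrrCharacter G)} (hB : IsPBlock M B)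
    {P : Subgroup G} (hP : IsDefectGroup p M B P) {g : G}
    (hg : ∃ χ ∈ B, ¬ MemLocalIdeal M (centralChar (χ : G → ℂ) g)) :
    ∃ x : G, IsConj g x ∧ x ∈ Subgroup.centralizer (P : Set G) ∧
      ∀ z : G, IsPPart p x z → z ∈ P ∧ ∀ w ∈ P, z * w = w * z := by
  classical
  haveI := isPrime hM
  haveI : Fact p.Prime := ⟨hM.1⟩
  set N := Subgroup.normalizer (P : Set G) with hN
  haveI := Fintype.ofFinite (ConjClasses N)
  have hPp : IsPGroup p P := defectGroup_isPGroup hP
  have hPN : P ≤ N := Subgroup.le_normalizer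
  have hCN : Subgroup.centralizer (P : Set G) ≤ N := Subgroup.centralizer_le_normalizer _
  have hc : ∃ c ∈ Subgroup.centralizer (P : Set G), ¬ MemLocalIdeal M (blockCoeff B c) := by
    obtain ⟨g, hg, hgD⟩ := isDefectGroup_iff.1 hP
    refine ⟨g, ?_, hg.2.1⟩
    rw [Subgroup.mem_centralizer_iff]
    intro d hd
    exact Subgroup.mem_centralizer_singleton_iff.1 (sylIn_le hgD hd)
  obtain ⟨c, hc, hc'⟩ := hc
  obtain ⟨b, hb⟩ := exists_inducing_block hM hPp hPN hCN le_rfl hB hc hc'
  have hbD := defectGroup_of_induced hM hPN le_rfl hb hP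
  haveI hnorm : (P.subgroupOf N).Normal := Subgroup.normal_in_normalizer
  have hPp' : IsPGroup p (P.subgroupOf N) := hPp.of_equiv (Subgroup.subgroupOfEquivOfLe hPN).symm
  obtain ⟨ξ, hξ, hξP⟩ := exists_trivial hM hPp' (unionOfBlocks_of_isPBlock hb.1) (isPBlock_nonempty hb.1)
  obtain ⟨χ, hχ, hχg⟩ := hg
  have h1 := induced_brF hM hPp hPN le_rfl hb hξ hχ (classSum_mem_center g) (locA_classSum g)
  rw [omega_classSum χ.2.isClassFunction] at h1
  have h2 : ¬ MemLocalIdeal M (brF P (ξ : N → ℂ) (classSum g)) := fun h => hχg ((idl_congr h1).1 h)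
  rw [brF_apply, omega_eq_sum ξ.2.isClassFunction (BlockRes.brH_center le_rfl (classSum_mem_center g))] at h2
  obtain ⟨C, hC⟩ : ∃ C : ConjClasses N, ¬ MemLocalIdeal M ((brH P N (classSum g)).coeff (Quotient.out C) *
      centralChar (ξ : N → ℂ) (Quotient.out C)) := by
    by_contra hn
    push_neg at hn
    exact h2 (idl_sum fun C _ => hn C)
  set x : N := Quotient.out C with hx
  have hxC : (x : G) ∈ Subgroup.centralizer (P : Set G) := by
    by_contra hn
    apply hC
    rw [coeff_brH, if_neg hn, zero_mul]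
    exact idl_zero
  have hgx : IsConj g (x : G) := by
    by_contra hn
    apply hC
    rw [coeff_brH, if_pos hxC, coeff_classSum, if_neg hn, zero_mul]
    exact idl_zero
  have hx0 : (ξ : N → ℂ) x ≠ 0 := by
    intro hn
    apply hC
    rw [centralChar, hn, mul_zero, zero_div, mul_zero]
    exact idl_zero
  refine ⟨x, hgx, hxC, fun z hz => ?_⟩
  have hzN : z ∈ P := by
    obtain ⟨y, hzy, hcomm, hzo, hyo⟩ := hz
    -- z in the cyclic group generated by x
    have hzpow : z ∈ Subgroup.zpowers (x : G) := by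
      obtain ⟨x', y', h1, h2, h3, h4, h5, h6⟩ := BlockSecond.exists_ppart hM.1 (x : G)
      obtain ⟨k, hk⟩ := hzo
      obtain ⟨k', hk'⟩ := h3
      have h7 := BlockSecond.eq_of_comm_of_orders hM.1 hcomm h2 (hzy.trans h1.symm) hk hk' hyo h4
      rw [h7.1]
      exact h5
    have hzN : z ∈ N := (Subgroup.zpowers_le.2 x.2) hzpow
    have hyN : y ∈ N := by
      have h3 : y = z⁻¹ * (x : G) := by rw [← hzy]; group
      rw [h3]
      exact N.mul_mem (N.inv_mem hzN) x.2
    have h3 : IsPPart p x (⟨z, hzN⟩ : N) := by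
      refine ⟨⟨y, hyN⟩, Subtype.ext hzy, Subtype.ext hcomm, ?_, ?_⟩
      · rw [Subgroup.orderOf_mk]; exact hzo
      · rw [Subgroup.orderOf_mk]; exact hyo
    have h4 := ppart_mem_of_ne_zero hM hb.1 hbD hξ hξP hx0 h3
    rwa [Subgroup.mem_subgroupOf] at h4
  refine ⟨hzN, fun w hw => ?_⟩
  obtain ⟨y, hzy, hcomm, hzo, hyo⟩ := hz
  have hzpow : z ∈ Subgroup.zpowers (x : G) := by
    obtain ⟨x', y', h1, h2, h3, h4, h5, h6⟩ := BlockSecond.exists_ppart hM.1 (x : G)
    obtain ⟨k, hk⟩ := hzo
    obtain ⟨k', hk'⟩ := h3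
    have h7 := BlockSecond.eq_of_comm_of_orders hM.1 hcomm h2 (hzy.trans h1.symm) hk hk' hyo h4
    rw [h7.1]
    exact h5
  have hzC : z ∈ Subgroup.centralizer (P : Set G) := (Subgroup.zpowers_le.2 hxC) hzpow
  exact (Subgroup.mem_centralizer_iff.1 hzC w hw).symm

/-- S0930 -/
theorem exists_conj_center (hM : IsPModular p M) {H : Subgroup G} {b : Set (IrrCharacter H)}
    {B : Set (IrrCharacter G)} (hind : IsInducedBlock M H b B) {D : Subgroup H} (hD : IsDefectGroup p M b D)
    {P : Subgroup G} (hP : IsDefectGroup p M B P) {x : G} (hx : x ∈ P) (hxc : ∀ w ∈ P, x * w = w * x) :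
    ∃ g : G, g * x * g⁻¹ ∈ D.map H.subtype ∧ ∀ w ∈ D.map H.subtype, (g * x * g⁻¹) * w = w * (g * x * g⁻¹) := by
  classical
  haveI := isPrime hM
  haveI : Fact p.Prime := ⟨hM.1⟩
  haveI := Fintype.ofFinite (ConjClasses H)
  obtain ⟨y, hy, hyP⟩ := isDefectGroup_iff.1 hP
  have hPp : IsPGroup p P := defectGroup_isPGroup hP
  obtain ⟨ξ, hξ⟩ := isPBlock_nonempty hind.1
  obtain ⟨χ, hχ⟩ := isPBlock_nonempty hind.2.1
  have h1 := not_idl_centralChar_mul hM hind.2.1 hy hyP hx hxc hχ
  have h2 : ¬ MemLocalIdeal M (omega (ξ : H → ℂ) (resH H (classSum (x * y)))) := by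
    intro h3
    apply h1
    rw [← omega_classSum χ.2.isClassFunction]
    exact (idl_congr (BlockInd.induced_omega hind hξ hχ (classSum_mem_center _) (locA_classSum _))).1 h3
  rw [omega_eq_sum ξ.2.isClassFunction (BlockRes.resH_center (classSum_mem_center _))] at h2
  obtain ⟨C, hC⟩ : ∃ C : ConjClasses H, ¬ MemLocalIdeal M ((resH H (classSum (x * y))).coeff (Quotient.out C) *
      centralChar (ξ : H → ℂ) (Quotient.out C)) := by
    by_contra hn
    push_neg at hn
    exact h2 (idl_sum fun C _ => hn C)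
  set h : H := Quotient.out C with hh
  have hconj : IsConj (x * y) (h : G) := by
    by_contra hn
    apply hC
    rw [coeff_resH, coeff_classSum, if_neg hn, zero_mul]
    exact idl_zero
  have h3 : ¬ MemLocalIdeal M (centralChar (ξ : H → ℂ) h) := by
    intro hn
    apply hC
    exact idl_mul_left (BlockRes.locA_resH (locA_classSum _) _) hn
  obtain ⟨h', hh', hhD, hz⟩ := exists_conj_ppart_center hM hind.1 hD ⟨ξ, hξ, h3⟩
  have hconj' : IsConj (x * y) (h' : G) := by
    refine hconj.trans ?_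
    obtain ⟨c, hc⟩ := isConj_iff.1 hh'
    rw [isConj_iff]
    exact ⟨c, congrArg Subtype.val hc⟩
  obtain ⟨g, hg⟩ := isConj_iff.1 hconj'
  have hxo : ∃ k : ℕ, orderOf x = p ^ k := by
    obtain ⟨k, hk⟩ := (IsPGroup.iff_orderOf.1 hPp) ⟨x, hx⟩
    rw [Subgroup.orderOf_mk] at hk
    exact ⟨k, hk⟩
  have hyr : ¬ p ∣ orderOf y := defectClass_regular hM hind.2.1 hy
  have hxy : Commute x y := Subgroup.mem_centralizer_singleton_iff.1 (sylIn_le hyP hx)
  obtain ⟨z, hz'⟩ := BlockSecond.exists_isPPart hM.1 h'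
  obtain ⟨hzD, hzc⟩ := hz z hz'
  have hzeq : (z : G) = g * x * g⁻¹ := by
    obtain ⟨w, hzw, hcomm, ⟨k, hk⟩, hwo⟩ := hz'
    obtain ⟨k', hk'⟩ := hxo
    have h4 := BlockSecond.eq_of_comm_of_orders hM.1 (x := (z : G)) (y := (w : G)) (x' := g * x * g⁻¹)
      (y' := g * y * g⁻¹) (congrArg Subtype.val hcomm) (hxy.map (MulAut.conj g).toMonoidHom)
      (by
        have h5 : (z : G) * (w : G) = (h' : G) := congrArg Subtype.val hzw
        rw [h5, ← hg]; group)
      (k := k) (by rw [← Subgroup.orderOf_coe] at hk; exact hk) (k' := k')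
      (by rw [show orderOf (g * x * g⁻¹) = orderOf x from MulEquiv.orderOf_eq (MulAut.conj g) x]; exact hk')
      (by rw [← Subgroup.orderOf_coe] at hwo; exact hwo)
      (by rw [show orderOf (g * y * g⁻¹) = orderOf y from MulEquiv.orderOf_eq (MulAut.conj g) y]; exact hyr)
    exact h4.1
  refine ⟨g, ?_, ?_⟩
  · rw [← hzeq]
    exact ⟨z, hzD, rfl⟩
  · rintro _ ⟨w, hw, rfl⟩
    rw [← hzeq]
    exact congrArg Subtype.val (hzc w hw)

end Cfsg.Agent.Lib.BlockVal
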