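import Cfsg.Agent.Lib.BlockCentral
import Cfsg.Agent.Lib.BlockNormP
import Cfsg.Agent.Lib.BlockVal

/-!
# Blocks of `G = P C(P)` with defect group `P` (helper16)
-/

set_option autoImplicit false

namespace Cfsg.Agent.Lib.BlockPC

open Cfsg Cfsg.Agent.Lib.BlockRing Cfsg.Agent.Lib.BlockGA Cfsg.Agent.Lib.BlockIdem Cfsg.Agent.Lib.BlockDefect
  Cfsg.Agent.Lib.BlockDeg Cfsg.Agent.Lib.PPart Cfsg.Agent.Lib.IndFun Cfsg.Agent.Lib.BlockPair
  Cfsg.Agent.Lib.BlockCentral
open scoped ComplexConjugate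

universe u
variable {G : Type u} [Group G] [Finite G] {p : ℕ} {M : Ideal AlgInt}

/-- the degree of a member trivial on the normal defect group -/
theorem degree_eq (hM : IsPModular p M) {P : Subgroup G} [P.Normal] {B : Set (IrrCharacter G)}
    (hB : IsPBlock M B) (hD : IsDefectGroup p M B P) {θ : IrrCharacter G} (hθ : θ ∈ B)
    (hθP : ∀ x ∈ P, (θ : G → ℂ) x = (θ : G → ℂ) 1) :
    (charDegree (θ : G → ℂ)).factorization p = P.index.factorization p := by
  have hPi : P.index ≠ 0 := Subgroup.index_ne_zero_of_finite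
  apply le_antisymm
  · obtain ⟨ψ, hψ, h1⟩ := θ.2.deflate P hθP
    have hdeg : charDegree ψ = charDegree (θ : G → ℂ) := by
      rw [charDegree, charDegree]
      congr 2
      exact h1 1
    rw [← hdeg]
    have h2 := charDegree_dvd_card hψ
    rw [← Subgroup.index_eq_card] at h2
    exact (Nat.factorization_le_iff_dvd (charDegree_pos hψ).ne' hPi).2 h2 p
  · have h2 := pow_dvd_degree hM hB hθ
    have h3 : (Nat.card G).factorization p - blockDefect p B ≤ (charDegree (θ : G → ℂ)).factorization p :=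
      (hM.1.pow_dvd_iff_le_factorization (charDegree_spec θ.2).2).1 h2
    have hcard := defectGroup_card hM hB hD
    have h5 := congrArg (fun n => n.factorization p) P.card_mul_index
    rw [Nat.factorization_mul Nat.card_pos.ne' hPi, Finsupp.add_apply, hcard,
      hM.1.factorization_pow, Finsupp.single_eq_same] at h5
    omega

theorem height_zero (hM : IsPModular p M) {P : Subgroup G} [P.Normal] {B : Set (IrrCharacter G)}
    (hB : IsPBlock M B) (hD : IsDefectGroup p M B P) {θ : IrrCharacter G} (hθ : θ ∈ B)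
    (hθP : ∀ x ∈ P, (θ : G → ℂ) x = (θ : G → ℂ) 1) : blockHeight p B (θ : G → ℂ) = 0 := by
  rw [blockHeight_eq_zero_iff hθ]
  intro ψ hψ
  have h1 := degree_eq hM hB hD hθ hθP
  have hPi : P.index ≠ 0 := Subgroup.index_ne_zero_of_finite
  have h2 := pow_dvd_degree hM hB hψ
  have h3 : (Nat.card G).factorization p - blockDefect p B ≤ (charDegree (ψ : G → ℂ)).factorization p :=
    (hM.1.pow_dvd_iff_le_factorization (charDegree_spec ψ.2).2).1 h2
  have hcard := defectGroup_card hM hB hD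
  have h5 := congrArg (fun n => n.factorization p) P.card_mul_index
  rw [Nat.factorization_mul Nat.card_pos.ne' hPi, Finsupp.add_apply, hcard,
    hM.1.factorization_pow, Finsupp.single_eq_same] at h5
  rw [nuDeg, nuDeg]
  omega

section main

variable {P : Subgroup G} {B : Set (IrrCharacter G)} {θ : IrrCharacter G} {e f : ℕ}

theorem vanish (hM : IsPModular p M) [P.Normal] (hB : IsPBlock M B) (hD : IsDefectGroup p M B P) (hθ : θ ∈ B)
    (hθP : ∀ x ∈ P, (θ : G → ℂ) x = (θ : G → ℂ) 1) (he : IsRegExp p G e f) {g : G} (hg : g ^ f ∉ P) :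
    (θ : G → ℂ) g = 0 := by
  by_contra h0
  apply hg
  apply BlockVal.ppart_mem_of_ne_zero hM hB hD hθ hθP h0
  exact ⟨g ^ e, by rw [← pow_add, add_comm, he.pow_add], Commute.pow_pow_self g f e, he.sing g, he.reg g⟩

/-- inner product formula for characters trivial on `P` -/
theorem inner_formula (hM : IsPModular p M) (hP : IsPGroup p P)
    (hG : P ⊔ Subgroup.centralizer (P : Set G) = ⊤) (hB : IsPBlock M B) (hD : IsDefectGroup p M B P)
    (hθ : θ ∈ B) (hθP : ∀ x ∈ P, (θ : G → ℂ) x = (θ : G → ℂ) 1) {α : IrrCharacter G}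
    (hα : ∀ x ∈ P, (α : G → ℂ) x = (α : G → ℂ) 1) :
    ∑ᶠ g : G, (θ : G → ℂ) g * (α : G → ℂ) g⁻¹ = (Nat.card P : ℂ) * pair p (θ : G → ℂ) (α : G → ℂ) := by
  classical
  haveI := isPrime hM
  haveI : Fact p.Prime := ⟨hM.1⟩
  haveI := Fintype.ofFinite G
  haveI := Fintype.ofFinite P
  haveI := normal_of_sup hG
  obtain ⟨e, f, he⟩ := exists_isRegExp p hM.1 G
  have hreg : ∀ g : G, ¬ p ∣ orderOf g → g ∈ Subgroup.centralizer (P : Set G) := fun g hg =>
    mem_centralizer_of_regular hM.1 hP hG hg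
  rw [finsum_eq_sum_of_fintype]
  have h2 : ∑ g : G, (θ : G → ℂ) g * (α : G → ℂ) g⁻¹ =
      ∑ g : G, if g ^ f ∈ P then (θ : G → ℂ) g * (α : G → ℂ) g⁻¹ else 0 := by
    refine Finset.sum_congr rfl fun g _ => ?_
    split_ifs with h
    · rfl
    · rw [vanish hM hB hD hθ hθP he h, zero_mul]
  rw [h2, sum_section hP hreg he, pair_def, Finset.mul_sum]
  have h3 : ∀ x : P, ∑ y : G, (if p ∣ orderOf y then (0 : ℂ) else
      (θ : G → ℂ) (x * y) * (α : G → ℂ) (x * y)⁻¹) =
      ∑ y : G, (if p ∣ orderOf y then (0 : ℂ) else (θ : G → ℂ) y * (α : G → ℂ) y⁻¹) := by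
    intro x
    refine Finset.sum_congr rfl fun y _ => ?_
    split_ifs with hy
    · rfl
    · have hx' : (x : G)⁻¹ ∈ P := P.inv_mem x.2
      have hyC := hreg y hy
      have h4 : ((x : G) * y)⁻¹ = (x : G)⁻¹ * y⁻¹ := by
        rw [mul_inv_rev]
        exact (Subgroup.mem_centralizer_iff.1 (Subgroup.inv_mem _ hyC) _ hx').symm
      rw [h4, mul_value hG θ.2 x.2 hyC, mul_value hG α.2 hx' (Subgroup.inv_mem _ hyC), hθP x x.2, hα _ hx']
      have h5 := θ.2.one_ne_zero
      have h6 := α.2.one_ne_zero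
      field_simp
  rw [Finset.sum_congr rfl fun x _ => h3 x, Finset.sum_const, Finset.card_univ, nsmul_eq_mul,
    ← Nat.card_eq_fintype_card, Finset.mul_sum]

theorem card_eq_pair (hM : IsPModular p M) (hP : IsPGroup p P)
    (hG : P ⊔ Subgroup.centralizer (P : Set G) = ⊤) (hB : IsPBlock M B) (hD : IsDefectGroup p M B P)
    (hθ : θ ∈ B) (hθP : ∀ x ∈ P, (θ : G → ℂ) x = (θ : G → ℂ) 1) :
    (Nat.card G : ℂ) = (Nat.card P : ℂ) * pair p (θ : G → ℂ) (θ : G → ℂ) := by
  haveI := Fintype.ofFinite G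
  rw [← inner_formula hM hP hG hB hD hθ hθP hθP, finsum_eq_sum_of_fintype]
  have h2 := θ.2.classInner_self
  rw [CharBasic.classInner_def, inv_mul_eq_one₀ (by exact_mod_cast Nat.card_pos.ne')] at h2
  rw [h2]
  exact Finset.sum_congr rfl fun g _ => by rw [θ.2.inv]

theorem trivial_unique (hM : IsPModular p M) (hP : IsPGroup p P)
    (hG : P ⊔ Subgroup.centralizer (P : Set G) = ⊤) (hB : IsPBlock M B) (hD : IsDefectGroup p M B P)
    (hθ : θ ∈ B) (hθP : ∀ x ∈ P, (θ : G → ℂ) x = (θ : G → ℂ) 1) {α : IrrCharacter G} (hαB : α ∈ B)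
    (hα : ∀ x ∈ P, (α : G → ℂ) x = (α : G → ℂ) 1) : α = θ := by
  haveI := isPrime hM
  haveI := Fintype.ofFinite G
  haveI := normal_of_sup hG
  by_contra hne
  have h1 := not_idl_pair hM hB hθ hαB (height_zero hM hB hD hθ hθP)
  apply h1
  have h2 := inner_formula hM hP hG hB hD hθ hθP hα
  have h3 : ∑ᶠ g : G, (θ : G → ℂ) g * (α : G → ℂ) g⁻¹ = 0 := by
    rw [finsum_eq_sum_of_fintype]
    have h4 : classInner (θ : G → ℂ) (α : G → ℂ) = 0 := by
      rw [θ.2.classInner_eq α.2, if_neg (fun h => hne (Subtype.ext h.symm))]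
    rw [CharBasic.classInner_def] at h4
    rcases mul_eq_zero.1 h4 with h5 | h5
    · exact absurd h5 (inv_ne_zero (by exact_mod_cast Nat.card_pos.ne'))
    · rw [← h5]
      exact Finset.sum_congr rfl fun g _ => by rw [α.2.inv]
  rw [h3] at h2
  have h4 : pair p (θ : G → ℂ) (α : G → ℂ) = 0 := by
    rcases mul_eq_zero.1 h2.symm with h | h
    · exact absurd h (by exact_mod_cast Nat.card_pos.ne')
    · exact h
  rw [omega_pel, pair_comm, h4, zero_div]
  exact idl_zero

/-- the character attached to a character of `P` -/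
noncomputable def chi (θ : G → ℂ) (e f : ℕ) (μ : P → ℂ) : G → ℂ :=
  fun g => extendByZero P μ (g ^ f) * θ (g ^ e)

theorem chi_not_mem {μ : P → ℂ} {g : G} (hg : g ^ f ∉ P) : chi (θ : G → ℂ) e f μ g = 0 := by
  rw [chi, extendByZero_not_mem _ _ hg, zero_mul]

theorem chi_mul (hM : IsPModular p M) (hP : IsPGroup p P)
    (hG : P ⊔ Subgroup.centralizer (P : Set G) = ⊤) (he : IsRegExp p G e f) (μ : P → ℂ) (x : P) {y : G}
    (hy : ¬ p ∣ orderOf y) : chi (θ : G → ℂ) e f μ (x * y) = μ x * (θ : G → ℂ) y := by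
  haveI : Fact p.Prime := ⟨hM.1⟩
  have hc : (x : G) * y = y * x := Subgroup.mem_centralizer_iff.1 (mem_centralizer_of_regular hM.1 hP hG hy) x x.2
  obtain ⟨k, hk⟩ := (IsPGroup.iff_orderOf.1 hP) x
  have h := he.eq_of_mul hc hc.symm hy ⟨k, by rw [Subgroup.orderOf_coe]; exact hk⟩
  rw [chi, h.1, h.2, extendByZero_mem _ _ x.2]

/-- inner products with `chi` -/
theorem classInner_chi [Fintype G] [Fintype P] (hM : IsPModular p M) (hP : IsPGroup p P)
    (hG : P ⊔ Subgroup.centralizer (P : Set G) = ⊤) (he : IsRegExp p G e f) (μ : P → ℂ) {α : G → ℂ}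
    {β : P → ℂ} {γ : G → ℂ} (hα : ∀ (x : P) (y : G), ¬ p ∣ orderOf y → α (x * y) = β x * γ y) :
    (Nat.card G : ℂ) * classInner α (chi (θ : G → ℂ) e f μ) =
      ((Nat.card P : ℂ) * classInner β μ) * pair p γ (θ : G → ℂ) := by
  classical
  haveI : Fact p.Prime := ⟨hM.1⟩
  have hreg : ∀ g : G, ¬ p ∣ orderOf g → g ∈ Subgroup.centralizer (P : Set G) := fun g hg =>
    mem_centralizer_of_regular hM.1 hP hG hg
  rw [CharBasic.classInner_def, CharBasic.classInner_def, ← mul_assoc, ← mul_assoc,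
    mul_inv_cancel₀ (by exact_mod_cast Nat.card_pos.ne'), mul_inv_cancel₀ (by exact_mod_cast Nat.card_pos.ne'),
    one_mul, one_mul]
  have h2 : ∑ g : G, α g * conj (chi (θ : G → ℂ) e f μ g) =
      ∑ g : G, if g ^ f ∈ P then α g * conj (chi (θ : G → ℂ) e f μ g) else 0 := by
    refine Finset.sum_congr rfl fun g _ => ?_
    split_ifs with h
    · rfl
    · rw [chi_not_mem h, map_zero, mul_zero]
  rw [h2, sum_section hP hreg he, pair_def, Finset.sum_mul]
  refine Finset.sum_congr rfl fun x _ => ?_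
  rw [Finset.mul_sum]
  refine Finset.sum_congr rfl fun y _ => ?_
  split_ifs with hy
  · rw [mul_zero]
  · rw [chi_mul hM hP hG he μ x hy, hα x y hy, map_mul, θ.2.inv]
    ring

theorem isGeneralized_chi (hM : IsPModular p M) (hP : IsPGroup p P)
    (hG : P ⊔ Subgroup.centralizer (P : Set G) = ⊤) (hB : IsPBlock M B) (hD : IsDefectGroup p M B P)
    (hθ : θ ∈ B) (hθP : ∀ x ∈ P, (θ : G → ℂ) x = (θ : G → ℂ) 1) (he : IsRegExp p G e f)
    {μ : P → ℂ} (hμ : IsCharacter P μ) : IsGeneralizedCharacter G (chi (θ : G → ℂ) e f μ) := by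
  haveI hPn := normal_of_sup hG
  exact isGeneralized_ext hM hP (fun g hg => mem_centralizer_of_regular hM.1 hP hG hg) θ
    (degree_eq hM hB hD hθ hθP).ge hμ (classFunction_inv hG hμ.isClassFunction hPn) he

theorem chi_one (he : IsRegExp p G e f) (μ : P → ℂ) : chi (θ : G → ℂ) e f μ 1 = μ 1 * (θ : G → ℂ) 1 := by
  rw [chi, one_pow, one_pow, extendByZero_mem _ _ P.one_mem]
  rfl

theorem isIrr_chi (hM : IsPModular p M) (hP : IsPGroup p P)
    (hG : P ⊔ Subgroup.centralizer (P : Set G) = ⊤) (hB : IsPBlock M B) (hD : IsDefectGroup p M B P)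
    (hθ : θ ∈ B) (hθP : ∀ x ∈ P, (θ : G → ℂ) x = (θ : G → ℂ) 1) (he : IsRegExp p G e f)
    {μ : P → ℂ} (hμ : IsIrrCharacter P μ) : IsIrrCharacter G (chi (θ : G → ℂ) e f μ) := by
  haveI := Fintype.ofFinite G
  haveI := Fintype.ofFinite P
  have h1 := isGeneralized_chi hM hP hG hB hD hθ hθP he hμ.isCharacter
  apply h1.irr_of_norm_one
  · have h2 := classInner_chi (θ := θ) hM hP hG he μ (α := chi (θ : G → ℂ) e f μ) (β := μ) (γ := (θ : G → ℂ))
      (fun x y hy => chi_mul hM hP hG he μ x hy)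
    rw [hμ.classInner_self, mul_one, ← card_eq_pair hM hP hG hB hD hθ hθP] at h2
    have h3 : (Nat.card G : ℂ) ≠ 0 := by exact_mod_cast Nat.card_pos.ne'
    exact mul_left_cancel₀ h3 (by rw [h2, mul_one])
  · rw [chi_one he]
    obtain ⟨m, hm, hm'⟩ := hμ.exists_degree
    obtain ⟨n, hn, hn'⟩ := θ.2.exists_degree
    rw [hm', hn', ← Nat.cast_mul, Complex.natCast_re]
    positivity

/-- the irreducible character attached to `μ` -/
noncomputable def irrOf (hM : IsPModular p M) (hP : IsPGroup p P)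
    (hG : P ⊔ Subgroup.centralizer (P : Set G) = ⊤) (hB : IsPBlock M B) (hD : IsDefectGroup p M B P)
    (hθ : θ ∈ B) (hθP : ∀ x ∈ P, (θ : G → ℂ) x = (θ : G → ℂ) 1) (he : IsRegExp p G e f)
    (μ : IrrCharacter P) : IrrCharacter G :=
  ⟨chi (θ : G → ℂ) e f (μ : P → ℂ), isIrr_chi hM hP hG hB hD hθ hθP he μ.2⟩

theorem irrOf_mem (hM : IsPModular p M) (hP : IsPGroup p P)
    (hG : P ⊔ Subgroup.centralizer (P : Set G) = ⊤) (hB : IsPBlock M B) (hD : IsDefectGroup p M B P)
    (hθ : θ ∈ B) (hθP : ∀ x ∈ P, (θ : G → ℂ) x = (θ : G → ℂ) 1) (he : IsRegExp p G e f)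
    (μ : IrrCharacter P) : irrOf hM hP hG hB hD hθ hθP he μ ∈ B := by
  classical
  haveI := isPrime hM
  haveI := Fintype.ofFinite G
  have h0 : pair p (chi (θ : G → ℂ) e f (μ : P → ℂ)) (θ : G → ℂ) = (μ : P → ℂ) 1 * pair p (θ : G → ℂ) (θ : G → ℂ) := by
    rw [pair_def, pair_def, Finset.mul_sum]
    refine Finset.sum_congr rfl fun y _ => ?_
    split_ifs with hy
    · rw [mul_zero]
    · have h1 := chi_mul (θ := θ) hM hP hG he (μ : P → ℂ) 1 hy
      rw [Subgroup.coe_one, one_mul] at h1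
      rw [h1]
      ring
  have hne : pair p (θ : G → ℂ) (θ : G → ℂ) ≠ 0 := by
    intro h
    have h1 := card_eq_pair hM hP hG hB hD hθ hθP
    rw [h, mul_zero] at h1
    exact (by exact_mod_cast Nat.card_pos.ne' : (Nat.card G : ℂ) ≠ 0) h1
  by_contra hnot
  have h1 : ¬ SameBlock M ((irrOf hM hP hG hB hD hθ hθP he μ : IrrCharacter G) : G → ℂ) (θ : G → ℂ) := by
    intro h
    exact hnot (mem_of_sameBlock hB hθ (sameBlock_symm h))
  have h2 := pair_eq_zero hM (irrOf hM hP hG hB hD hθ hθP he μ) θ h1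
  have h3 : pair p ((irrOf hM hP hG hB hD hθ hθP he μ : IrrCharacter G) : G → ℂ) (θ : G → ℂ) =
      pair p (chi (θ : G → ℂ) e f (μ : P → ℂ)) (θ : G → ℂ) := rfl
  rw [h3, h0] at h2
  rcases mul_eq_zero.1 h2 with h | h
  · exact μ.2.one_ne_zero h
  · exact hne h

theorem irrOf_injective (hM : IsPModular p M) (hP : IsPGroup p P)
    (hG : P ⊔ Subgroup.centralizer (P : Set G) = ⊤) (hB : IsPBlock M B) (hD : IsDefectGroup p M B P)
    (hθ : θ ∈ B) (hθP : ∀ x ∈ P, (θ : G → ℂ) x = (θ : G → ℂ) 1) (he : IsRegExp p G e f) :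
    Function.Injective (irrOf hM hP hG hB hD hθ hθP he) := by
  intro μ μ' h
  apply Subtype.ext
  funext x
  have h1 := congrArg (fun χ : IrrCharacter G => (χ : G → ℂ) ((x : G) * 1)) h
  have hy : ¬ p ∣ orderOf (1 : G) := by rw [orderOf_one]; exact hM.1.one_lt.ne' ∘ Nat.dvd_one.1
  have h2 : chi (θ : G → ℂ) e f (μ : P → ℂ) ((x : G) * 1) = chi (θ : G → ℂ) e f (μ' : P → ℂ) ((x : G) * 1) := h1
  rw [chi_mul hM hP hG he _ x hy, chi_mul hM hP hG he _ x hy] at h2
  exact mul_right_cancel₀ θ.2.one_ne_zero h2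

/-- every member of `B` is of the form `irrOf μ`, for any constituent `μ` of its restriction to `P` -/
theorem eq_irrOf [Fintype P] (hM : IsPModular p M) (hP : IsPGroup p P)
    (hG : P ⊔ Subgroup.centralizer (P : Set G) = ⊤) (hB : IsPBlock M B) (hD : IsDefectGroup p M B P)
    (hθ : θ ∈ B) (hθP : ∀ x ∈ P, (θ : G → ℂ) x = (θ : G → ℂ) 1) (he : IsRegExp p G e f)
    {α : IrrCharacter G} (hα : α ∈ B) {μ : IrrCharacter P}
    (hμ : classInner (fun x : P => (α : G → ℂ) x) (μ : P → ℂ) ≠ 0) :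
    α = irrOf hM hP hG hB hD hθ hθP he μ := by
  haveI := isPrime hM
  haveI := Fintype.ofFinite G
  haveI := normal_of_sup hG
  by_contra hne
  have h1 : classInner (α : G → ℂ) (chi (θ : G → ℂ) e f (μ : P → ℂ)) = 0 := by
    rw [α.2.classInner_eq (isIrr_chi hM hP hG hB hD hθ hθP he μ.2), if_neg]
    intro h
    exact hne (Subtype.ext h)
  have h2 := classInner_chi (θ := θ) hM hP hG he (μ : P → ℂ) (α := (α : G → ℂ))
    (β := (((α : G → ℂ) 1)⁻¹) • fun x : P => (α : G → ℂ) x) (γ := (α : G → ℂ)) (fun x y hy => by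
      rw [mul_value hG α.2 x.2 (mem_centralizer_of_regular hM.1 hP hG hy), Pi.smul_apply, smul_eq_mul]
      ring)
  rw [h1, mul_zero, CharBasic.classInner_smul_left] at h2
  have h3 := not_idl_pair hM hB hθ hα (height_zero hM hB hD hθ hθP)
  have h4 : pair p (α : G → ℂ) (θ : G → ℂ) ≠ 0 := by
    intro h
    apply h3
    rw [omega_pel, h, zero_div]
    exact idl_zero
  refine mul_ne_zero (mul_ne_zero (by exact_mod_cast Nat.card_pos.ne') (mul_ne_zero ?_ hμ)) h4 h2.symm
  exact inv_ne_zero α.2.one_ne_zero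

theorem card_block (hM : IsPModular p M) (hP : IsPGroup p P)
    (hG : P ⊔ Subgroup.centralizer (P : Set G) = ⊤) (hB : IsPBlock M B) (hD : IsDefectGroup p M B P) :
    Nat.card B = Nat.card (ConjClasses P) := by
  haveI := isPrime hM
  haveI := Fintype.ofFinite P
  haveI := normal_of_sup hG
  obtain ⟨θ, hθ, hθP⟩ := BlockNormP.exists_trivial hM hP (unionOfBlocks_of_isPBlock hB) (isPBlock_nonempty hB)
  obtain ⟨e, f, he⟩ := exists_isRegExp p hM.1 G
  rw [← CharBasic.card_irr]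
  symm
  refine Nat.card_congr (Equiv.ofBijective
    (fun μ : IrrCharacter P => (⟨irrOf hM hP hG hB hD hθ hθP he μ, irrOf_mem hM hP hG hB hD hθ hθP he μ⟩ : B))
    ⟨?_, ?_⟩)
  · intro μ μ' h
    exact irrOf_injective hM hP hG hB hD hθ hθP he (congrArg Subtype.val h)
  · rintro ⟨α, hα⟩
    obtain ⟨μ, hμ, h1⟩ := (α.2.isCharacter.restrict P).exists_constituent (by
      intro h
      exact α.2.one_ne_zero (by
        have := congrFun h 1
        simpa using this))
    exact ⟨⟨μ, hμ⟩, Subtype.ext (eq_irrOf hM hP hG hB hD hθ hθP he hα (μ := ⟨μ, hμ⟩) h1).symm⟩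

end main

end Cfsg.Agent.Lib.BlockPC
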