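import Cfsg.Agent.Lib.BlockThird
import Cfsg.Agent.Lib.CharGalois

/-!
# The Galois action (power maps) on blocks (helper79)
-/

set_option autoImplicit false

namespace Cfsg.Agent.Lib.BlockPow

open Cfsg Cfsg.Agent.Lib.BlockRing Cfsg.Agent.Lib.BlockGA Cfsg.Agent.Lib.BlockIdem
open Cfsg.Agent.Lib.CharBasic
open scoped ComplexConjugate

variable {G : Type*} [Group G] [Finite G] {p : ℕ} {M : Ideal AlgInt}

theorem exists_inv {k : ℕ} (hk : k.Coprime (Nat.card G)) :
    ∃ l : ℕ, l.Coprime (Nat.card G) ∧ ∀ g : G, g ^ (k * l) = g := by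
  by_cases h1 : Nat.card G = 1
  · refine ⟨1, Nat.coprime_one_left _, fun g => ?_⟩
    have := (Nat.card_eq_one_iff_unique.mp h1).1
    exact Subsingleton.elim _ _
  obtain ⟨l, hl⟩ := Nat.exists_mul_mod_eq_one_of_coprime hk (by
    have := Nat.card_pos (α := G); omega)
  have hl2 : k * l ≡ 1 [MOD Nat.card G] := by
    unfold Nat.ModEq
    rw [hl.2, Nat.mod_eq_of_lt (by have := Nat.card_pos (α := G); omega)]
  refine ⟨l, ?_, fun g => ?_⟩
  · have h2 : Nat.Coprime (k * l) (Nat.card G) := by
      rw [Nat.Coprime, hl2.gcd_eq]; simp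
    exact Nat.Coprime.coprime_mul_left h2
  · conv_rhs => rw [← pow_one g]
    rw [pow_eq_pow_iff_modEq]
    exact hl2.of_dvd (orderOf_dvd_natCard g)

theorem centralizer_pow {k : ℕ} (hk : k.Coprime (Nat.card G)) (g : G) :
    Subgroup.centralizer ({g ^ k} : Set G) = Subgroup.centralizer ({g} : Set G) := by
  obtain ⟨l, -, hl⟩ := exists_inv hk
  ext x
  rw [Subgroup.mem_centralizer_singleton_iff, Subgroup.mem_centralizer_singleton_iff]
  constructor
  · intro h
    have h1 : Commute (g ^ k) x := h.symm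
    have h2 := h1.pow_left l
    rw [← pow_mul, hl] at h2
    exact h2.symm
  · intro h
    have h1 : Commute g x := h.symm
    exact (h1.pow_left k).symm

theorem centralChar_pow {χ : G → ℂ} {k : ℕ} (hk : k.Coprime (Nat.card G)) (g : G) :
    centralChar (fun x => χ (x ^ k)) g = centralChar χ (g ^ k) := by
  rw [centralChar, centralChar, centralizer_pow hk, one_pow]

theorem sameBlock_pow {χ ψ : G → ℂ} {k : ℕ} (hk : k.Coprime (Nat.card G))
    (h : SameBlock M χ ψ) : SameBlock M (fun x => χ (x ^ k)) (fun x => ψ (x ^ k)) := by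
  intro g
  rw [centralChar_pow hk, centralChar_pow hk]
  exact h _

/-- the Galois conjugate `g ↦ χ(g^k)` -/
noncomputable def powIrr {k : ℕ} (hk : k.Coprime (Nat.card G)) (χ : IrrCharacter G) :
    IrrCharacter G := ⟨fun g => (χ : G → ℂ) (g ^ k), CharGalois.isIrrCharacter_pow χ.2 hk⟩

theorem powIrr_apply {k : ℕ} (hk : k.Coprime (Nat.card G)) (χ : IrrCharacter G) (g : G) :
    (powIrr hk χ : G → ℂ) g = (χ : G → ℂ) (g ^ k) := rfl

theorem powIrr_powIrr {k l : ℕ} (hk : k.Coprime (Nat.card G)) (hl : l.Coprime (Nat.card G))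
    (h : ∀ g : G, g ^ (k * l) = g) (χ : IrrCharacter G) : powIrr hk (powIrr hl χ) = χ := by
  apply Subtype.ext
  funext g
  rw [powIrr_apply, powIrr_apply, ← pow_mul, h]

theorem powIrr_injective {k : ℕ} (hk : k.Coprime (Nat.card G)) :
    Function.Injective (powIrr (G := G) hk) := by
  obtain ⟨l, hl, h⟩ := exists_inv hk
  intro χ ψ hχψ
  rw [← powIrr_powIrr hl hk (fun g => by rw [mul_comm]; exact h g) χ, hχψ,
    powIrr_powIrr hl hk (fun g => by rw [mul_comm]; exact h g)]

/-- the Galois conjugate of a block is a block -/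
theorem image_blockOf {k : ℕ} (hk : k.Coprime (Nat.card G)) (χ : IrrCharacter G) :
    powIrr hk '' (blockOf M (χ : G → ℂ)) = blockOf M (powIrr hk χ : G → ℂ) := by
  obtain ⟨l, hl, h⟩ := exists_inv hk
  ext θ
  constructor
  · rintro ⟨ψ, hψ, rfl⟩
    exact sameBlock_pow hk hψ
  · intro hθ
    refine ⟨powIrr hl θ, ?_, powIrr_powIrr hk hl h θ⟩
    have h1 := sameBlock_pow hl hθ
    have h2 : (fun x : G => (powIrr hk χ : G → ℂ) (x ^ l)) = (χ : G → ℂ) := by
      funext x
      rw [powIrr_apply, ← pow_mul, mul_comm, h]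
    rw [h2] at h1
    exact h1

theorem isPBlock_image {k : ℕ} (hk : k.Coprime (Nat.card G)) {B : Set (IrrCharacter G)}
    (hB : IsPBlock M B) : IsPBlock M (powIrr hk '' B) := by
  obtain ⟨χ, rfl⟩ := hB
  exact ⟨powIrr hk χ, image_blockOf hk χ⟩

theorem image_principal {k : ℕ} (hk : k.Coprime (Nat.card G)) :
    powIrr hk '' (principalBlock M G) = principalBlock M G := by
  have h1 := image_blockOf (M := M) hk (BlockThird.triv G)
  have h2 : powIrr hk (BlockThird.triv G) = BlockThird.triv G := Subtype.ext rfl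
  rw [h2] at h1
  exact h1

theorem bijOn_principal {k : ℕ} (hk : k.Coprime (Nat.card G)) :
    Set.BijOn (powIrr hk) (principalBlock M G) (principalBlock M G) := by
  have h := (powIrr_injective hk).injOn (s := principalBlock M G)
  have h1 := h.bijOn_image
  rwa [image_principal hk] at h1

theorem bijOn_image {k : ℕ} (hk : k.Coprime (Nat.card G)) (B : Set (IrrCharacter G)) :
    Set.BijOn (powIrr hk) B (powIrr hk '' B) :=
  (powIrr_injective hk).injOn.bijOn_image

end Cfsg.Agent.Lib.BlockPow
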