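import Mathlib
import Cfsg.Agent.Lib.BlockKlein
import Cfsg.Agent.Lib.BrauerSuzuki

/-! The principal 2-block of a group with quaternion Sylow 2-subgroups of order 8: local part. -/

set_option autoImplicit false
set_option maxHeartbeats 400000

namespace Cfsg.Agent.Lib.BlockQuat

open Cfsg

universe u

variable {G : Type u} [Group G] [Finite G]

theorem exists_conj_mem {p : ℕ} [Fact p.Prime] (S : Sylow p G) {x : G} (hx : ∃ k, orderOf x = p ^ k) :
    ∃ g : G, g * x * g⁻¹ ∈ (S : Subgroup G) := by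
  obtain ⟨k, hk⟩ := hx
  have h1 : IsPGroup p (Subgroup.zpowers x) := by
    rw [IsPGroup.iff_card]
    exact ⟨k, by rw [Nat.card_zpowers, hk]⟩
  obtain ⟨Q, hQ⟩ := h1.exists_le_sylow
  obtain ⟨g, hg⟩ := MulAction.exists_smul_eq G Q S
  refine ⟨g, ?_⟩
  rw [← hg]
  show g * x * g⁻¹ ∈ ((g • Q : Sylow p G) : Subgroup G)
  rw [Sylow.coe_subgroup_smul, Subgroup.mem_pointwise_smul_iff_inv_smul_mem]
  have : (MulAut.conj g)⁻¹ • (g * x * g⁻¹) = x := by
    show (MulAut.conj g)⁻¹ (g * x * g⁻¹) = x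
    rw [← map_inv]
    simp [MulAut.conj_apply, mul_assoc]
  rw [this]
  exact hQ (Subgroup.mem_zpowers x)

/-- Fusion of involutions when a Sylow 2-subgroup is a four-group. -/
theorem klein_fusion (P : Sylow 2 G) (hP : IsKleinFour (P : Subgroup G)) :
    (∀ s t : G, orderOf s = 2 → orderOf t = 2 → IsConj s t) ∨
      ∃ N : Subgroup G, N.Normal ∧ ¬ 2 ∣ Nat.card N ∧ N.index = 4 := by
  haveI := hP
  have hf2 : Fact (Nat.Prime 2) := ⟨Nat.prime_two⟩
  have hsq : ∀ y : G, y ∈ (P : Subgroup G) → y * y = 1 := by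
    intro y hy
    have := IsKleinFour.mul_self (G := (P : Subgroup G)) ⟨y, hy⟩
    exact congrArg Subtype.val this
  have hPc : ∀ x ∈ (P : Subgroup G), ∀ y ∈ (P : Subgroup G), x * y = y * x := by
    intro x hx y hy
    have := IsKleinFour.isMulCommutative (G := (P : Subgroup G))
    have h2 := this.is_comm.comm (⟨x, hx⟩ : (P : Subgroup G)) ⟨y, hy⟩
    exact congrArg Subtype.val h2
  by_cases hc : ∀ h ∈ Subgroup.normalizer ((P : Subgroup G) : Set G), ∀ x ∈ (P : Subgroup G), h * x = x * h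
  · right
    have hN : Subgroup.normalizer ((P : Subgroup G) : Set G) ≤ Subgroup.centralizer ((P : Subgroup G) : Set G) := by
      intro h hh
      rw [Subgroup.mem_centralizer_iff]
      intro x hx
      exact (hc h hh x hx).symm
    refine ⟨(MonoidHom.transferSylow P hN).ker, inferInstance,
      MonoidHom.not_dvd_card_ker_transferSylow P hN, ?_⟩
    rw [(MonoidHom.ker_transferSylow_isComplement' P hN).symm.index_eq_card, hP.card_four]
  · left
    push Not at hc
    obtain ⟨h, hh, x0, hx0, hne⟩ := hc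
    have hfp : ∀ x ∈ (P : Subgroup G), x ≠ 1 → h * x * h⁻¹ ≠ x := by
      intro x hx hx1 he
      apply hne
      exact BlockKlein.klein_centralize P hP hx hx1 hh (by
        show h * x = x * h
        rw [mul_inv_eq_iff_eq_mul] at he; exact he) x0 hx0
    have hmem : ∀ x ∈ (P : Subgroup G), h * x * h⁻¹ ∈ (P : Subgroup G) := fun x hx =>
      (Subgroup.mem_set_normalizer_iff.1 hh x).1 hx
    -- any two nontrivial elements of `P` are conjugate
    have htrans : ∀ x ∈ (P : Subgroup G), ∀ y ∈ (P : Subgroup G), x ≠ 1 → y ≠ 1 → IsConj x y := by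
      intro x hx y hy hx1 hy1
      by_cases hxy : x = y
      · rw [hxy]
      set x' := h * x * h⁻¹ with hx'
      have hx'P : x' ∈ (P : Subgroup G) := hmem x hx
      have hx'1 : x' ≠ 1 := by
        intro he
        apply hx1
        have := conj_eq_one_iff.1 he
        exact this
      have hc1 : IsConj x x' := isConj_iff.2 ⟨h, rfl⟩
      have hx'x : x' ≠ x := hfp x hx hx1
      by_cases hyx' : y = x'
      · rw [hyx']; exact hc1
      -- then `y = x * x'`
      set x'' := h * x' * h⁻¹ with hx''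
      have hx''P : x'' ∈ (P : Subgroup G) := hmem x' hx'P
      have hx''1 : x'' ≠ 1 := by
        intro he
        exact hx'1 (conj_eq_one_iff.1 he)
      have hc2 : IsConj x' x'' := isConj_iff.2 ⟨h, rfl⟩
      have hx''x' : x'' ≠ x' := hfp x' hx'P hx'1
      have hxx'1 : x * x' ≠ 1 := by
        intro he
        apply hx'x
        have h3 := hsq x hx
        rw [← h3] at he
        exact mul_left_cancel he
      have hx''x : x'' ≠ x := by
        intro he
        have h3 : h * (x * x') * h⁻¹ = x * x' := by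
          have : h * (x * x') * h⁻¹ = x' * x'' := by rw [hx'', hx']; group
          rw [this, he, hPc x' hx'P x hx]
        exact hfp (x * x') ((P : Subgroup G).mul_mem hx hx'P) hxx'1 h3
      -- elements of P
      have huniv : ∀ w ∈ (P : Subgroup G), w = 1 ∨ w = x ∨ w = x' ∨ w = x * x' := by
        intro w hw
        classical
        by_contra hcon
        push Not at hcon
        obtain ⟨h1, h2, h3, h4⟩ := hcon
        have := Fintype.ofFinite (P : Subgroup G)
        have hcard : Fintype.card (P : Subgroup G) = 4 := by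
          rw [← Nat.card_eq_fintype_card]; exact hP.card_four
        have hxx'x : x * x' ≠ x := by
          intro he; exact hx'1 (mul_eq_left.1 he)
        have hxx'x' : x * x' ≠ x' := by
          intro he; exact hx1 (mul_eq_right.1 he)
        have hsub : ({⟨1, (P : Subgroup G).one_mem⟩, ⟨x, hx⟩, ⟨x', hx'P⟩, ⟨x * x', (P : Subgroup G).mul_mem hx hx'P⟩, ⟨w, hw⟩} :
            Finset (P : Subgroup G)).card = 5 := by
          rw [Finset.card_insert_of_notMem, Finset.card_insert_of_notMem, Finset.card_insert_of_notMem,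
            Finset.card_insert_of_notMem, Finset.card_singleton]
          · simp only [Finset.mem_singleton, Subtype.mk.injEq]; exact fun h => h4 h.symm
          · simp only [Finset.mem_insert, Finset.mem_singleton, Subtype.mk.injEq]
            rintro (h | h)
            · exact hxx'x' h.symm
            · exact h3 h.symm
          · simp only [Finset.mem_insert, Finset.mem_singleton, Subtype.mk.injEq]
            rintro (h | h | h)
            · exact hx'x h.symm
            · exact hxx'x h.symm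
            · exact h2 h.symm
          · simp only [Finset.mem_insert, Finset.mem_singleton, Subtype.mk.injEq]
            rintro (h | h | h | h)
            · exact hx1 h.symm
            · exact hx'1 h.symm
            · exact hxx'1 h.symm
            · exact h1 h.symm
        have := Finset.card_le_univ ({⟨1, (P : Subgroup G).one_mem⟩, ⟨x, hx⟩, ⟨x', hx'P⟩, ⟨x * x', (P : Subgroup G).mul_mem hx hx'P⟩, ⟨w, hw⟩} :
            Finset (P : Subgroup G))
        omega
      have hy' : y = x * x' := by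
        rcases huniv y hy with h1 | h1 | h1 | h1
        · exact absurd h1 hy1
        · exact absurd h1.symm hxy
        · exact absurd h1 hyx'
        · exact h1
      have hx''' : x'' = x * x' := by
        rcases huniv x'' hx''P with h1 | h1 | h1 | h1
        · exact absurd h1 hx''1
        · exact absurd h1 hx''x
        · exact absurd h1 hx''x'
        · exact h1
      rw [hy', ← hx''']
      exact hc1.trans hc2
    intro s t hs ht
    obtain ⟨g, hg⟩ := exists_conj_mem P (x := s) ⟨1, by rw [hs]; rfl⟩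
    obtain ⟨k, hk⟩ := exists_conj_mem P (x := t) ⟨1, by rw [ht]; rfl⟩
    have hs1 : g * s * g⁻¹ ≠ 1 := by
      intro he
      rw [conj_eq_one_iff] at he
      rw [he, orderOf_one] at hs; omega
    have ht1 : k * t * k⁻¹ ≠ 1 := by
      intro he
      rw [conj_eq_one_iff] at he
      rw [he, orderOf_one] at ht; omega
    have h1 := htrans _ hg _ hk hs1 ht1
    have h2 : IsConj s (g * s * g⁻¹) := isConj_iff.2 ⟨g, rfl⟩
    have h3 : IsConj t (k * t * k⁻¹) := isConj_iff.2 ⟨k, rfl⟩
    exact (h2.trans h1).trans h3.symm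

theorem q8_facts :
    (∀ x : QuaternionGroup 2, x * x ≠ 1 → ∃ y, y * x * y⁻¹ = x⁻¹) ∧ (∀ x : QuaternionGroup 2, x ^ 4 = 1) ∧
    (∀ x : QuaternionGroup 2, x * x = 1 → x = 1 ∨ x = QuaternionGroup.a 2) ∧
    (∀ x y : QuaternionGroup 2, x * x ≠ 1 → y * x = x * y → y = 1 ∨ y = x ∨ y = x ^ 2 ∨ y = x ^ 3) := by
  decide

theorem exists_z (S : Sylow 2 G) (e : (S : Subgroup G) ≃* QuaternionGroup 2)
    (hO : ∀ N : Subgroup G, N.Normal → Odd (Nat.card N) → N = ⊥) :
    ∃ z : G, orderOf z = 2 ∧ ∀ g, g * z = z * g := by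
  have h1 : Nat.card (Subgroup.center G) = 2 := BrauerSuzuki.card_center_eq_two S 0 e hO
  have hf2 : Fact (Nat.Prime 2) := ⟨Nat.prime_two⟩
  obtain ⟨z, hz⟩ := exists_prime_orderOf_dvd_card' (G := Subgroup.center G) 2 (by rw [h1])
  exact ⟨z, by rw [Subgroup.orderOf_coe, hz], fun g => Subgroup.mem_center_iff.1 z.2 g⟩

section
variable (S : Sylow 2 G) (e : (S : Subgroup G) ≃* QuaternionGroup 2)
include e

theorem fact_comm {x : G} (hx : x ∈ (S : Subgroup G)) (hx1 : x * x ≠ 1) :
    (∃ y ∈ (S : Subgroup G), y * x * y⁻¹ = x⁻¹) ∧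
    ∀ y ∈ (S : Subgroup G), y * x = x * y → y = 1 ∨ y = x ∨ y = x ^ 2 ∨ y = x ^ 3 := by
  set x' : (S : Subgroup G) := ⟨x, hx⟩ with hx'
  have h1 : e x' * e x' ≠ 1 := by
    rw [← map_mul]
    intro h
    apply hx1
    have h2 : x' * x' = 1 := e.injective (by rw [h, map_one])
    exact congrArg Subtype.val h2
  constructor
  · obtain ⟨y, hy⟩ := q8_facts.1 _ h1
    obtain ⟨y', rfl⟩ := e.surjective y
    refine ⟨y', y'.2, ?_⟩
    have h2 : y' * x' * y'⁻¹ = x'⁻¹ := by
      apply e.injective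
      rw [map_mul, map_mul, map_inv, map_inv, hy]
    exact congrArg Subtype.val h2
  · intro y hy hc
    have h2 : e ⟨y, hy⟩ * e x' = e x' * e ⟨y, hy⟩ := by
      rw [← map_mul, ← map_mul]
      congr 1
      exact Subtype.ext hc
    have h3 := q8_facts.2.2.2 _ _ h1 h2
    rw [← map_pow, ← map_pow] at h3
    rcases h3 with h3 | h3 | h3 | h3
    · left
      have : (⟨y, hy⟩ : (S : Subgroup G)) = 1 := e.injective (by rw [h3, map_one])
      exact congrArg Subtype.val this
    · right; left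
      exact congrArg Subtype.val (e.injective h3)
    · right; right; left
      exact congrArg Subtype.val (e.injective h3)
    · right; right; right
      exact congrArg Subtype.val (e.injective h3)

theorem pow_four {x : G} (hx : ∃ k, orderOf x = 2 ^ k) : x ^ 4 = 1 := by
  obtain ⟨g, hg⟩ := exists_conj_mem S hx
  have h1 : (⟨g * x * g⁻¹, hg⟩ : (S : Subgroup G)) ^ 4 = 1 := by
    apply e.injective
    rw [map_pow, q8_facts.2.1, map_one]
  have h2 : (g * x * g⁻¹) ^ 4 = 1 := congrArg Subtype.val h1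
  rw [conj_pow, conj_eq_one_iff] at h2
  exact h2

theorem uniq {z : G} (hz : orderOf z = 2) (hzc : ∀ g, g * z = z * g) {t : G} (ht : orderOf t = 2) : t = z := by
  have key : ∀ x : G, orderOf x = 2 → ∃ g : G, ∃ h : g * x * g⁻¹ ∈ (S : Subgroup G),
      e ⟨g * x * g⁻¹, h⟩ = QuaternionGroup.a 2 := by
    intro x hx
    obtain ⟨g, hg⟩ := exists_conj_mem S (x := x) ⟨1, by rw [hx]; rfl⟩
    refine ⟨g, hg, ?_⟩
    have h1 : (g * x * g⁻¹) * (g * x * g⁻¹) = 1 := by
      have : (g * x * g⁻¹) * (g * x * g⁻¹) = g * x ^ 2 * g⁻¹ := by rw [pow_two]; group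
      rw [this, ← hx, pow_orderOf_eq_one]; group
    have h2 : e ⟨g * x * g⁻¹, hg⟩ * e ⟨g * x * g⁻¹, hg⟩ = 1 := by
      rw [← map_mul, ← map_one e]
      congr 1
      exact Subtype.ext h1
    rcases q8_facts.2.2.1 _ h2 with h3 | h3
    · exfalso
      have h4 : (⟨g * x * g⁻¹, hg⟩ : (S : Subgroup G)) = 1 := e.injective (by rw [h3, map_one])
      have h5 : g * x * g⁻¹ = 1 := congrArg Subtype.val h4
      rw [conj_eq_one_iff] at h5
      rw [h5, orderOf_one] at hx; omega
    · exact h3
  obtain ⟨g, hg, h1⟩ := key z hz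
  obtain ⟨k, hk, h2⟩ := key t ht
  have h3 : (⟨g * z * g⁻¹, hg⟩ : (S : Subgroup G)) = ⟨k * t * k⁻¹, hk⟩ := e.injective (by rw [h1, h2])
  have h4 : g * z * g⁻¹ = k * t * k⁻¹ := congrArg Subtype.val h3
  rw [hzc g, mul_assoc, mul_inv_cancel, mul_one] at h4
  have h5 : t = k⁻¹ * z * k := by rw [h4]; group
  rw [h5, hzc k⁻¹]; group

theorem sq_eq {z : G} (hz : orderOf z = 2) (hzc : ∀ g, g * z = z * g) {x : G} (hx : orderOf x = 4) :
    x ^ 2 = z := by
  apply uniq S e hz hzc
  rw [orderOf_pow' x (by norm_num), hx]; rfl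

theorem ppart_cases {z : G} (hz : orderOf z = 2) (hzc : ∀ g, g * z = z * g) {x : G} (hx : ∃ k, orderOf x = 2 ^ k) :
    x = 1 ∨ x = z ∨ orderOf x = 4 := by
  have h1 := orderOf_dvd_of_pow_eq_one (pow_four S e hx)
  have h2 : orderOf x ∈ Nat.divisors 4 := Nat.mem_divisors.2 ⟨h1, by norm_num⟩
  have h3 : Nat.divisors 4 = {1, 2, 4} := by decide
  rw [h3] at h2
  simp only [Finset.mem_insert, Finset.mem_singleton] at h2
  rcases h2 with h2 | h2 | h2
  · left; exact orderOf_eq_one_iff.1 h2
  · right; left; exact uniq S e hz hzc h2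
  · right; right; exact h2

theorem conj_inv {z : G} (hz : orderOf z = 2) (hzc : ∀ g, g * z = z * g) {x : G} (hx : orderOf x = 4) :
    IsConj x (z * x) := by
  obtain ⟨g, hg⟩ := exists_conj_mem S (x := x) ⟨2, by rw [hx]; rfl⟩
  have h1 : (g * x * g⁻¹) * (g * x * g⁻¹) ≠ 1 := by
    intro h
    have h2 : (g * x * g⁻¹) * (g * x * g⁻¹) = g * x ^ 2 * g⁻¹ := by rw [pow_two]; group
    rw [h2, conj_eq_one_iff] at h
    have h3 := orderOf_dvd_of_pow_eq_one h
    rw [hx] at h3
    exact absurd h3 (by norm_num)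
  obtain ⟨y, hy, hyx⟩ := (fact_comm S e hg h1).1
  have h2 := sq_eq S e hz hzc hx
  rw [isConj_iff]
  refine ⟨g⁻¹ * y * g, ?_⟩
  have h3 : g⁻¹ * y * g * x * (g⁻¹ * y * g)⁻¹ = g⁻¹ * (y * (g * x * g⁻¹) * y⁻¹) * g := by group
  rw [h3, hyx]
  have h4 : g⁻¹ * (g * x * g⁻¹)⁻¹ * g = x⁻¹ := by group
  have h5 : z * z = 1 := by rw [← pow_two, ← hz, pow_orderOf_eq_one]
  rw [h4, inv_eq_iff_mul_eq_one, ← mul_assoc, hzc x, mul_assoc, ← pow_two, h2, h5]

theorem centralizer_complement {x : G} (hx : orderOf x = 4) {H : Subgroup G}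
    (hmem : ∀ g, g ∈ H ↔ Commute x g) :
    ∃ N : Subgroup H, N.Normal ∧ ¬ 2 ∣ Nat.card N ∧ N.index = 2 ^ 2 := by
  have hf2 : Fact (Nat.Prime 2) := ⟨Nat.prime_two⟩
  have hxH : x ∈ H := (hmem x).2 (Commute.refl x)
  obtain ⟨T⟩ : Nonempty (Sylow 2 H) := inferInstance
  -- `x` is in `T`
  have hxT : (⟨x, hxH⟩ : H) ∈ (T : Subgroup H) := by
    obtain ⟨g, hg⟩ := exists_conj_mem T (x := (⟨x, hxH⟩ : H)) ⟨2, by rw [Subgroup.orderOf_mk, hx]; rfl⟩
    have h1 : g * (⟨x, hxH⟩ : H) * g⁻¹ = ⟨x, hxH⟩ := by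
      apply Subtype.ext
      have h2 : x * (g : G) = g * x := (hmem g).1 g.2
      show (g : G) * x * (g : G)⁻¹ = x
      rw [← h2]; group
    rwa [h1] at hg
  -- elements of `T`
  have hT : ∀ t ∈ (T : Subgroup H), t ∈ Subgroup.zpowers (⟨x, hxH⟩ : H) := by
    intro t ht
    have h1 : IsPGroup 2 ((T : Subgroup H).map H.subtype) := T.2.map _
    obtain ⟨Q, hQ⟩ := h1.exists_le_sylow
    obtain ⟨eQ⟩ : Nonempty ((Q : Subgroup G) ≃* (S : Subgroup G)) := ⟨Q.equiv S⟩
    have h2 := (fact_comm Q (eQ.trans e) (x := x) (hQ ⟨_, hxT, rfl⟩) (by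
      intro h
      rw [← pow_two] at h
      have h3 := orderOf_dvd_of_pow_eq_one h
      rw [hx] at h3
      exact absurd h3 (by norm_num))).2 t (hQ ⟨_, ht, rfl⟩) ((hmem t).1 t.2).symm
    rcases h2 with h2 | h2 | h2 | h2
    · have : t = 1 := Subtype.ext h2
      rw [this]; exact Subgroup.one_mem _
    · have : t = ⟨x, hxH⟩ := Subtype.ext h2
      rw [this]; exact Subgroup.mem_zpowers _
    · have : t = ⟨x, hxH⟩ ^ 2 := Subtype.ext h2
      rw [this]; exact Subgroup.pow_mem _ (Subgroup.mem_zpowers _) 2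
    · have : t = ⟨x, hxH⟩ ^ 3 := Subtype.ext h2
      rw [this]; exact Subgroup.pow_mem _ (Subgroup.mem_zpowers _) 3
  have hTe : (T : Subgroup H) = Subgroup.zpowers (⟨x, hxH⟩ : H) :=
    le_antisymm hT (by rw [Subgroup.zpowers_le]; exact hxT)
  have hN : Subgroup.normalizer (T : Set H) ≤ Subgroup.centralizer (T : Set H) := by
    intro h _
    rw [Subgroup.mem_centralizer_iff]
    intro t ht
    obtain ⟨n, rfl⟩ := Subgroup.mem_zpowers_iff.1 (hT t ht)
    apply Subtype.ext
    have h2 : Commute x (h : G) := (hmem h).1 h.2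
    exact (h2.zpow_left n).eq
  refine ⟨(MonoidHom.transferSylow T hN).ker, inferInstance,
    MonoidHom.not_dvd_card_ker_transferSylow T hN, ?_⟩
  rw [(MonoidHom.ker_transferSylow_isComplement' T hN).symm.index_eq_card, hTe, Nat.card_zpowers,
    Subgroup.orderOf_mk, hx]; rfl

theorem card_S : Nat.card (S : Subgroup G) = 8 := by
  rw [Nat.card_congr e.toEquiv, Nat.card_eq_fintype_card, QuaternionGroup.card]

/-- Odd order normal subgroups of `G/⟨z⟩`. -/
theorem quot_core {z : G} (hz : orderOf z = 2) (hzc : ∀ g, g * z = z * g)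
    (hO : ∀ N : Subgroup G, N.Normal → Odd (Nat.card N) → N = ⊥) [(Subgroup.zpowers z).Normal]
    (N : Subgroup (G ⧸ Subgroup.zpowers z)) (hN : N.Normal) (hodd : ¬ 2 ∣ Nat.card N) : N = ⊥ := by
  set Z := Subgroup.zpowers z with hZ
  set N' := N.comap (QuotientGroup.mk' Z) with hN'
  have hN'n : N'.Normal := hN.comap _
  have hZN : Z ≤ N' := by
    intro x hx
    rw [hN', Subgroup.mem_comap]
    have : QuotientGroup.mk' Z x = 1 := (QuotientGroup.eq_one_iff x).2 hx
    rw [this]; exact N.one_mem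
  have hcZ : Nat.card Z = 2 := by rw [hZ, Nat.card_zpowers, hz]
  have hcN' : Nat.card N' = Nat.card N * 2 := by
    have h1 : N'.index = N.index := Subgroup.index_comap_of_surjective N (QuotientGroup.mk'_surjective Z)
    have h2 := N'.card_mul_index
    have h3 := N.card_mul_index
    have h4 := Z.card_mul_index
    rw [h1] at h2
    have h5 : Nat.card (G ⧸ Z) = Z.index := rfl
    rw [h5] at h3
    rw [hcZ, ← h3] at h4
    have h6 : 0 < N.index := Nat.pos_of_ne_zero Subgroup.index_ne_zero_of_finite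
    apply Nat.eq_of_mul_eq_mul_right h6
    rw [h2, ← h4]; ring
  have hcZ' : Nat.card (Z.subgroupOf N') = 2 := by
    rw [Nat.card_congr (Subgroup.subgroupOfEquivOfLe hZN).toEquiv, hcZ]
  have hidx : (Z.subgroupOf N').index = Nat.card N := by
    have h1 := (Z.subgroupOf N').card_mul_index
    rw [hcZ', hcN'] at h1
    omega
  have hcop : Nat.Coprime (Nat.card (Z.subgroupOf N')) (Z.subgroupOf N').index := by
    rw [hcZ', hidx]
    exact (Nat.Prime.coprime_iff_not_dvd Nat.prime_two).2 hodd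
  obtain ⟨K, hK⟩ := Subgroup.exists_right_complement'_of_coprime hcop
  have hcK : Nat.card K = Nat.card N := by
    rw [← hidx, hK.symm.index_eq_card]
  have hKodd : ∀ k : N', Odd (orderOf k) → k ∈ K := by
    intro k hk
    obtain ⟨⟨a, b⟩, hab⟩ := hK.2 k
    have hab' : (a : N') * (b : N') = k := hab
    have hbo : Odd (orderOf (b : N')) := by
      have h1 : orderOf (b : N') ∣ Nat.card N := by
        rw [← hcK, Subgroup.orderOf_coe]
        exact orderOf_dvd_natCard b
      have h2 : Odd (Nat.card N) := by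
        rw [Nat.odd_iff]; omega
      exact Odd.of_dvd_nat h2 h1
    have ha2 : (a : N') ^ 2 = 1 := by
      have h1 : a ^ 2 = 1 := by rw [← hcZ']; exact pow_card_eq_one'
      exact congrArg Subtype.val h1
    have hcomm : Commute (a : N') (b : N') := by
      apply Subtype.ext
      show ((a : N') : G) * ((b : N') : G) = ((b : N') : G) * ((a : N') : G)
      have h1 : ((a : N') : G) ∈ Z := a.2
      obtain ⟨n, hn⟩ := Subgroup.mem_zpowers_iff.1 h1
      rw [← hn]
      exact ((show Commute z ((b : N') : G) from (hzc _).symm).zpow_left n).eq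
    have hm : Odd (orderOf k * orderOf (b : N')) := hk.mul hbo
    have h1 : k ^ (orderOf k * orderOf (b : N')) = 1 := by rw [pow_mul, pow_orderOf_eq_one, one_pow]
    have h2 : (b : N') ^ (orderOf k * orderOf (b : N')) = 1 := by rw [mul_comm, pow_mul, pow_orderOf_eq_one, one_pow]
    rw [← hab', hcomm.mul_pow, hab', h2, mul_one] at h1
    have h3 : (a : N') = 1 := by
      obtain ⟨m, hm⟩ := hm
      rw [hm, pow_add, pow_mul, ha2, one_pow, one_mul, pow_one] at h1
      exact h1
    rw [← hab', h3, one_mul]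
    exact b.2
  have hKo : ∀ k ∈ K, Odd (orderOf k) := by
    intro k hk
    have h1 : orderOf k ∣ Nat.card N := by
      rw [← hcK]
      have := orderOf_dvd_natCard (⟨k, hk⟩ : K)
      rwa [Subgroup.orderOf_mk] at this
    have h2 : Odd (Nat.card N) := by rw [Nat.odd_iff]; omega
    exact Odd.of_dvd_nat h2 h1
  have hKn : (K.map N'.subtype).Normal := by
    refine ⟨?_⟩
    rintro _ ⟨k, hk, rfl⟩ g
    have h1 : g * (k : G) * g⁻¹ ∈ N' := hN'n.conj_mem k k.2 g
    refine ⟨⟨g * (k : G) * g⁻¹, h1⟩, hKodd _ ?_, rfl⟩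
    have h2 := hKo k hk
    rw [Subgroup.orderOf_mk]
    have h3 : orderOf (g * (k : G) * g⁻¹) = orderOf (k : G) := MulEquiv.orderOf_eq (MulAut.conj g) (k : G)
    rw [h3, Subgroup.orderOf_coe]
    exact h2
  have hKc : Nat.card (K.map N'.subtype) = Nat.card N := by
    rw [← hcK, Nat.card_congr (K.equivMapOfInjective N'.subtype (Subgroup.subtype_injective _)).symm.toEquiv]
  have h1 := hO _ hKn (by rw [hKc, Nat.odd_iff]; omega)
  rw [h1, Subgroup.card_bot] at hKc
  exact Subgroup.eq_bot_of_card_eq N hKc.symm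

theorem card_quot {z : G} (hz : orderOf z = 2) : Nat.card G = 2 * Nat.card (G ⧸ Subgroup.zpowers z) := by
  have h1 := (Subgroup.zpowers z).card_mul_index
  rw [Nat.card_zpowers, hz] at h1
  exact h1.symm

theorem quot_klein {z : G} (hz : orderOf z = 2) (hzc : ∀ g, g * z = z * g) [(Subgroup.zpowers z).Normal]
    (P : Sylow 2 (G ⧸ Subgroup.zpowers z)) : IsKleinFour (P : Subgroup (G ⧸ Subgroup.zpowers z)) := by
  have hf2 : Fact (Nat.Prime 2) := ⟨Nat.prime_two⟩
  have hcard : Nat.card (P : Subgroup (G ⧸ Subgroup.zpowers z)) = 4 := by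
    have h1 := P.card_eq_multiplicity
    have h2 := S.card_eq_multiplicity
    rw [card_S S e] at h2
    have h3 : (Nat.card G).factorization 2 = (Nat.card (G ⧸ Subgroup.zpowers z)).factorization 2 + 1 := by
      rw [card_quot S e hz, Nat.factorization_mul (by norm_num) Nat.card_pos.ne', Finsupp.add_apply,
        Nat.Prime.factorization_self Nat.prime_two]
      ring
    have h4 : (2 : ℕ) ^ 3 = 2 ^ (Nat.card G).factorization 2 := by rw [← h2]; norm_num
    have h5 : 3 = (Nat.card G).factorization 2 := Nat.pow_right_injective le_rfl h4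
    rw [h1]
    have h6 : (Nat.card (G ⧸ Subgroup.zpowers z)).factorization 2 = 2 := by omega
    rw [h6]; norm_num
  have hsq : ∀ x : (P : Subgroup (G ⧸ Subgroup.zpowers z)), x ^ 2 = 1 := by
    intro x
    apply Subtype.ext
    obtain ⟨g, hg⟩ := QuotientGroup.mk_surjective (x : G ⧸ Subgroup.zpowers z)
    obtain ⟨k, hk⟩ := P.2 x
    have h1 : (QuotientGroup.mk g : G ⧸ Subgroup.zpowers z) ^ (2 ^ k) = 1 := by
      rw [hg]; exact congrArg Subtype.val hk
    have h2 : g ^ (2 ^ k) ∈ Subgroup.zpowers z := by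
      rw [← QuotientGroup.eq_one_iff, QuotientGroup.mk_pow, h1]
    obtain ⟨n, hn⟩ := Subgroup.mem_zpowers_iff.1 h2
    have h3 : g ^ (2 ^ (k + 1)) = 1 := by
      rw [pow_succ, pow_mul, ← hn, ← zpow_natCast, ← zpow_mul, mul_comm, zpow_mul, zpow_natCast, ← hz,
        pow_orderOf_eq_one, one_zpow]
    have h4 : ∃ j, orderOf g = 2 ^ j := by
      have h5 := orderOf_dvd_of_pow_eq_one h3
      obtain ⟨j, _, hj⟩ := (Nat.dvd_prime_pow Nat.prime_two).1 h5
      exact ⟨j, hj⟩
    show (x : G ⧸ Subgroup.zpowers z) ^ 2 = 1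
    rw [← hg, ← QuotientGroup.mk_pow, QuotientGroup.eq_one_iff]
    rcases ppart_cases S e hz hzc h4 with h5 | h5 | h5
    · rw [h5, one_pow]; exact Subgroup.one_mem _
    · rw [h5]; exact Subgroup.pow_mem _ (Subgroup.mem_zpowers z) 2
    · rw [sq_eq S e hz hzc h5]; exact Subgroup.mem_zpowers z
  refine ⟨hcard, ?_⟩
  have h1 : Monoid.exponent (P : Subgroup (G ⧸ Subgroup.zpowers z)) ∣ 2 :=
    Monoid.exponent_dvd_of_forall_pow_eq_one hsq
  rcases (Nat.dvd_prime Nat.prime_two).1 h1 with h2 | h2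
  · exfalso
    rw [Monoid.exp_eq_one_iff] at h2
    have := Nat.card_of_subsingleton (1 : (P : Subgroup (G ⧸ Subgroup.zpowers z)))
    omega
  · exact h2

theorem quot_hone {z : G} (hz : orderOf z = 2) (hzc : ∀ g, g * z = z * g)
    (hO : ∀ N : Subgroup G, N.Normal → Odd (Nat.card N) → N = ⊥) (hG : (S : Subgroup G) ≠ ⊤)
    [(Subgroup.zpowers z).Normal] :
    ∀ s t : G ⧸ Subgroup.zpowers z, orderOf s = 2 → orderOf t = 2 → IsConj s t := by
  obtain ⟨P⟩ : Nonempty (Sylow 2 (G ⧸ Subgroup.zpowers z)) := inferInstance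
  rcases klein_fusion P (quot_klein S e hz hzc P) with h | ⟨N, hN, h1, h2⟩
  · exact h
  · exfalso
    apply hG
    have h3 := quot_core S e hz hzc hO N hN h1
    rw [h3, Subgroup.index_bot] at h2
    apply Subgroup.eq_top_of_card_eq
    rw [card_S S e, card_quot S e hz, h2]

theorem order_four_conj {z : G} (hz : orderOf z = 2) (hzc : ∀ g, g * z = z * g)
    (hO : ∀ N : Subgroup G, N.Normal → Odd (Nat.card N) → N = ⊥) (hG : (S : Subgroup G) ≠ ⊤)
    {x y : G} (hx : orderOf x = 4) (hy : orderOf y = 4) : IsConj x y := by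
  have hn : (Subgroup.zpowers z).Normal := by
    refine ⟨fun n hn g => ?_⟩
    obtain ⟨m, rfl⟩ := Subgroup.mem_zpowers_iff.1 hn
    have : g * z ^ m * g⁻¹ = z ^ m := by
      rw [((show Commute g z from hzc g).zpow_right m).eq]; group
    rw [this]; exact hn
  have hmem : ∀ w : G, w ∈ Subgroup.zpowers z → w = 1 ∨ w = z := by
    intro w hw
    have h1 : orderOf w ∣ 2 := by rw [← hz]; exact orderOf_dvd_of_mem_zpowers hw
    rcases (Nat.dvd_prime Nat.prime_two).1 h1 with h2 | h2
    · left; exact orderOf_eq_one_iff.1 h2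
    · right; exact uniq S e hz hzc h2
  have hord : ∀ x : G, orderOf x = 4 → orderOf (QuotientGroup.mk x : G ⧸ Subgroup.zpowers z) = 2 := by
    intro x hx
    apply orderOf_eq_prime
    · rw [← QuotientGroup.mk_pow, QuotientGroup.eq_one_iff, sq_eq S e hz hzc hx]
      exact Subgroup.mem_zpowers z
    · intro h
      rw [QuotientGroup.eq_one_iff] at h
      rcases hmem x h with h1 | h1
      · rw [h1, orderOf_one] at hx; omega
      · rw [h1, hz] at hx; omega
  have h1 := quot_hone S e hz hzc hO hG _ _ (hord x hx) (hord y hy)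
  obtain ⟨g, hg⟩ := isConj_iff.1 h1
  obtain ⟨g, rfl⟩ := QuotientGroup.mk_surjective g
  have h2 : (QuotientGroup.mk (g * x * g⁻¹) : G ⧸ Subgroup.zpowers z) = QuotientGroup.mk y := hg
  rw [eq_comm, QuotientGroup.eq] at h2
  have hc : IsConj x (g * x * g⁻¹) := isConj_iff.2 ⟨g, rfl⟩
  rcases hmem _ h2 with h3 | h3
  · have h4 : g * x * g⁻¹ = y := by
      rw [inv_mul_eq_one] at h3; exact h3.symm
    rw [← h4]; exact hc
  · have h4 : g * x * g⁻¹ = y * z := by rw [← h3]; group
    have h5 := conj_inv S e hz hzc hy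
    rw [h4, hzc y] at hc
    exact hc.trans h5.symm

end

end Cfsg.Agent.Lib.BlockQuat
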