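import Mathlib

/-!
# Groups with a self-centralizing subgroup of order three: arithmetic (helper20)
-/

set_option autoImplicit false

namespace Cfsg.Agent.Lib.C3X

/-- Integer square root of `n / 2`, capped. -/
def sqc (n : ℕ) : ℕ → ℕ
  | 0 => 0
  | s + 1 => if 2 * (s + 1) ^ 2 ≤ n then s + 1 else sqc n s

/-- All numerical conditions. -/
def good (f k d : ℕ) : Bool :=
  (k % 3 != 0) && (d % 3 != 0) && ((k * d) % 4 == 0) && ((3 * f * (f + 1) * k) % d == 0) &&
  (((3 * f * (f + 1) * k) / d) % 2 == 1) && ((2 * f + 1) * d ≤ 3 * f * (f + 1)) &&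
  (1 + f ^ 2 + (f + 1) ^ 2 + 2 * d ^ 2 ≤ (k + 4 * f + 2) * d) &&
  (16 * k ^ 2 * (f ^ 2 + f + 1) ≤
    144 * max (k * (f + 1)) (k * d) + 3 * (k * d) ^ 2 + 48 * (sqc (k * d) 16 + 1) * (k * d - 2))

/-- The finite check. -/
def checkAll : Bool :=
  (List.range 54).all fun m => (List.range 41).all fun k =>
    (160 ≤ k * (3 * (m + 1) + 1)) || (List.range 122).all fun e =>
      !(good (3 * (m + 1) + 1) k (2 * e)) ||
        (m == 0 && k == 1 && e == 2) || (m == 1 && k == 1 && e == 4) ||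
        (m == 4 && k == 1 && e == 8) || (m == 5 && k == 1 && e == 10)

theorem checkAll_true : checkAll = true := by decide +kernel

theorem sqc_ge (n : ℕ) (κ : ℕ) (h : 2 * κ ^ 2 ≤ n) : ∀ s, κ ≤ s → κ ≤ sqc n s := by
  intro s
  induction s with
  | zero => intro h1; simpa [sqc] using h1
  | succ s ih =>
    intro h1
    rw [sqc]
    split_ifs with h2
    · exact h1
    · apply ih
      by_contra hcon
      apply h2
      have : κ = s + 1 := by omega
      rw [← this]; exact h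

/-- The final arithmetic. -/
theorem arith {f k d κ : ℕ} (hf : f % 3 = 1) (hf4 : 4 ≤ f) (hk : 0 < k) (hk3 : ¬ 3 ∣ k)
    (hd : 0 < d) (hd2 : d % 2 = 0) (hd3 : ¬ 3 ∣ d) (h4 : 4 ∣ k * d)
    (hdiv : ∃ i, 3 * f * (f + 1) * k = d * i ∧ i % 2 = 1)
    (hn4 : (2 * f + 1) * d ≤ 3 * f * (f + 1))
    (hort : 1 + f ^ 2 + (f + 1) ^ 2 + 2 * d ^ 2 ≤ (k + 4 * f + 2) * d)
    (hκ : 2 * κ ^ 2 ≤ k * d)
    (hineq : 16 * k ^ 2 * (f ^ 2 + f + 1) ≤
      144 * max (k * (f + 1)) (k * d) + 3 * (k * d) ^ 2 + 48 * (κ + 1) * (k * d - 2)) :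
    (f = 4 ∧ k = 1 ∧ d = 4) ∨ (f = 7 ∧ k = 1 ∧ d = 8) ∨ (f = 16 ∧ k = 1 ∧ d = 16) ∨
      (f = 19 ∧ k = 1 ∧ d = 20) := by
  -- `2 d ≤ 3 f + 1`
  have hd' : 2 * d ≤ 3 * f + 1 := by
    by_contra hcon
    push Not at hcon
    have h1 : 3 * f + 2 ≤ 2 * d := hcon
    nlinarith
  -- bound `k f < 160`
  have hkf : k * f < 160 := by
    by_contra hcon
    push Not at hcon
    obtain ⟨y, hy⟩ : ∃ y, y = k * f := ⟨_, rfl⟩
    obtain ⟨h, hh⟩ : ∃ h, h = k * d := ⟨_, rfl⟩
    rw [← hy] at hcon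
    have h1 : 4 * k ≤ y := by rw [hy, mul_comm 4]; exact Nat.mul_le_mul_left k hf4
    have h2 : 2 * h ≤ 3 * y + k := by
      rw [hh, hy]
      calc 2 * (k * d) = k * (2 * d) := by ring
        _ ≤ k * (3 * f + 1) := Nat.mul_le_mul_left k hd'
        _ = _ := by ring
    have h3 : 8 * h ≤ 13 * y := by omega
    have h4 : 8 * max (k * (f + 1)) (k * d) ≤ 13 * y := by
      rcases max_cases (k * (f + 1)) (k * d) with h5 | h5
      · rw [h5.1, mul_add, ← hy]; omega
      · rw [h5.1, ← hh]; exact h3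
    have h5 : 32 * (κ + 1) ≤ h + 160 := by
      rw [← hh] at hκ
      have : 32 * κ ≤ 2 * κ ^ 2 + 128 := by
        have h6 : (0 : ℤ) ≤ 2 * ((κ : ℤ) - 8) ^ 2 := by positivity
        have h7 : (32 * κ : ℤ) ≤ 2 * κ ^ 2 + 128 := by nlinarith
        exact_mod_cast h7
      omega
    have h6 : 48 * (κ + 1) * (k * d - 2) ≤ 48 * (κ + 1) * h := by
      rw [hh]; exact Nat.mul_le_mul_left _ (Nat.sub_le _ _)
    have h7 : 2 * (48 * (κ + 1) * h) ≤ 3 * ((h + 160) * h) := by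
      calc 2 * (48 * (κ + 1) * h) = 3 * (32 * (κ + 1) * h) := by ring
        _ ≤ 3 * ((h + 160) * h) := by
          apply Nat.mul_le_mul_left
          exact Nat.mul_le_mul_right _ h5
    have h8 : 16 * y ^ 2 ≤ 16 * k ^ 2 * (f ^ 2 + f + 1) := by
      have e : 16 * k ^ 2 * (f ^ 2 + f + 1) = 16 * (k * f) ^ 2 + 16 * k ^ 2 * (f + 1) := by ring
      rw [hy, e]; exact Nat.le_add_right _ _
    rw [← hh] at hineq h4
    rw [← hh] at h6
    generalize max (k * (f + 1)) h = M at *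
    generalize 48 * (κ + 1) * (h - 2) = A at *
    generalize 48 * (κ + 1) * h = B at *
    have h9 : 64 * (h * h) ≤ 169 * (y * y) := by
      calc 64 * (h * h) = (8 * h) * (8 * h) := by ring
        _ ≤ (13 * y) * (13 * y) := Nat.mul_le_mul h3 h3
        _ = _ := by ring
    have h10 : 16 * (y * y) ≤ 144 * M + 3 * (h * h) + A := by
      have := h8.trans hineq
      rwa [pow_two, pow_two h] at this
    have h11 : 2 * B ≤ 3 * (h * h) + 480 * h := by
      have e : 3 * ((h + 160) * h) = 3 * (h * h) + 480 * h := by ring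
      rw [← e]; exact h7
    have h12 : 160 * y ≤ y * y := Nat.mul_le_mul_right y hcon
    generalize y * y = Y at *
    generalize h * h = H at *
    omega
  have hk40 : k < 40 := by
    by_contra hcon
    push Not at hcon
    have : 40 * 4 ≤ k * f := Nat.mul_le_mul hcon hf4
    omega
  have hf160 : f < 160 := by
    by_contra hcon
    push Not at hcon
    have : 1 * 160 ≤ k * f := Nat.mul_le_mul hk hcon
    omega
  obtain ⟨m, rfl⟩ : ∃ m, f = 3 * (m + 1) + 1 := ⟨(f - 4) / 3, by omega⟩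
  obtain ⟨e, rfl⟩ : ∃ e, d = 2 * e := ⟨d / 2, by omega⟩
  have hgood : good (3 * (m + 1) + 1) k (2 * e) = true := by
    obtain ⟨i, hi, hi2⟩ := hdiv
    have hdi : 3 * (3 * (m + 1) + 1) * ((3 * (m + 1) + 1) + 1) * k / (2 * e) = i := by
      rw [hi]; exact Nat.mul_div_cancel_left i hd
    have hmod : 3 * (3 * (m + 1) + 1) * ((3 * (m + 1) + 1) + 1) * k % (2 * e) = 0 := by
      rw [hi]; exact Nat.mul_mod_right _ _
    have hκ16 : κ ≤ 16 := by
      have h1 : k * (2 * e) < 2 * 17 ^ 2 := by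
        have : 2 * (k * (2 * e)) ≤ k * (3 * (3 * (m + 1) + 1) + 1) := by
          calc 2 * (k * (2 * e)) = k * (2 * (2 * e)) := by ring
            _ ≤ _ := Nat.mul_le_mul_left k hd'
        have h2 : k * (3 * (3 * (m + 1) + 1) + 1) = 3 * (k * (3 * (m + 1) + 1)) + k := by ring
        omega
      by_contra hcon
      push Not at hcon
      have : 17 ^ 2 ≤ κ ^ 2 := Nat.pow_le_pow_left hcon 2
      omega
    have hκs := sqc_ge _ κ hκ 16 hκ16
    simp only [good, Bool.and_eq_true, bne_iff_ne, ne_eq, beq_iff_eq, decide_eq_true_eq]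
    refine ⟨⟨⟨⟨⟨⟨⟨?_, ?_⟩, ?_⟩, hmod⟩, ?_⟩, hn4⟩, hort⟩, ?_⟩
    · intro h1; exact hk3 (Nat.dvd_of_mod_eq_zero h1)
    · intro h1; exact hd3 (Nat.dvd_of_mod_eq_zero h1)
    · exact Nat.mod_eq_zero_of_dvd h4
    · rw [hdi]; exact hi2
    · refine hineq.trans ?_
      apply Nat.add_le_add_left
      apply Nat.mul_le_mul_right
      apply Nat.mul_le_mul_left
      omega
  have hall := checkAll_true
  rw [checkAll, List.all_eq_true] at hall
  have h1 := hall m (List.mem_range.2 (by omega))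
  rw [List.all_eq_true] at h1
  have h2 := h1 k (List.mem_range.2 (by omega))
  rw [Bool.or_eq_true, decide_eq_true_eq, List.all_eq_true] at h2
  rcases h2 with h2 | h2
  · omega
  · have h3 := h2 e (List.mem_range.2 (by omega))
    rw [hgood] at h3
    simp only [Bool.not_true, Bool.false_or, Bool.or_eq_true, Bool.and_eq_true, beq_iff_eq] at h3
    clear hgood h2 h1 hall hineq hκ hort hn4 hdiv h4 hd' hkf
    rcases h3 with ((h3 | h3) | h3) | h3
    · obtain ⟨⟨rfl, rfl⟩, rfl⟩ := h3; left; exact ⟨rfl, rfl, rfl⟩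
    · obtain ⟨⟨rfl, rfl⟩, rfl⟩ := h3; right; left; exact ⟨rfl, rfl, rfl⟩
    · obtain ⟨⟨rfl, rfl⟩, rfl⟩ := h3; right; right; left; exact ⟨rfl, rfl, rfl⟩
    · obtain ⟨⟨rfl, rfl⟩, rfl⟩ := h3; right; right; right; exact ⟨rfl, rfl, rfl⟩

end Cfsg.Agent.Lib.C3X
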