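import Mathlib
import Cfsg.Agent.Lib.H31FPFNilp2

/-!
# Groups with a self-centralizing subgroup of order three: elementary facts (helper20)
-/

set_option autoImplicit false
set_option linter.style.haveILetI false
set_option linter.unusedSectionVars false

namespace Cfsg.Agent.Lib.C3X

universe u

variable {G : Type u} [Group G]

theorem ord_conj (c x : G) : orderOf (c * x * c⁻¹) = orderOf x :=
  orderOf_injective (MulAut.conj c).toMonoidHom (MulAut.conj c).injective x

/-- `x` has order three and its centralizer is `⟨x⟩`. -/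
structure SC (x : G) : Prop where
  ord : orderOf x = 3
  cent : ∀ g : G, g * x = x * g → g ∈ Subgroup.zpowers x

theorem cube {x : G} (h : orderOf x = 3) : x * x * x = 1 := by
  have := pow_orderOf_eq_one x
  rw [h] at this
  rw [← this, pow_succ, pow_two]

theorem inv_eq {x : G} (h : orderOf x = 3) : x⁻¹ = x * x := by
  rw [inv_eq_iff_mul_eq_one, ← mul_assoc]; exact cube h

theorem mem_zp {x : G} (h : orderOf x = 3) {g : G} :
    g ∈ Subgroup.zpowers x ↔ g = 1 ∨ g = x ∨ g = x⁻¹ := by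
  constructor
  · rintro ⟨k, rfl⟩
    have h1 : x ^ k = x ^ (k % 3) := by
      rw [← zpow_mod_orderOf, h]; rfl
    have h2 : k % 3 = 0 ∨ k % 3 = 1 ∨ k % 3 = 2 := by omega
    simp only
    rw [h1]
    rcases h2 with h2 | h2 | h2
    · rw [h2]; simp
    · rw [h2]; simp
    · rw [h2, inv_eq h]; right; right
      exact zpow_two x
  · rintro (rfl | rfl | rfl)
    · exact one_mem _
    · exact Subgroup.mem_zpowers _
    · exact inv_mem (Subgroup.mem_zpowers _)

theorem SC.ne_one {x : G} (h : SC x) : x ≠ 1 := by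
  rintro rfl
  have := h.ord
  rw [orderOf_one] at this
  omega

theorem SC.ne_inv {x : G} (h : SC x) : x ≠ x⁻¹ := by
  intro h1
  have h2 := cube h.ord
  have h3 : x * x = 1 := by
    nth_rewrite 2 [h1]; exact mul_inv_cancel x
  rw [h3, one_mul] at h2
  exact h.ne_one h2

theorem SC.cent' {x : G} (h : SC x) {g : G} (hg : g * x = x * g) : g = 1 ∨ g = x ∨ g = x⁻¹ :=
  (mem_zp h.ord).1 (h.cent g hg)

theorem SC.inv {x : G} (h : SC x) : SC x⁻¹ := by
  refine ⟨by rw [orderOf_inv, h.ord], fun g hg => ?_⟩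
  rw [Subgroup.zpowers_inv]
  apply h.cent
  have h1 : x * (g * x⁻¹) * x = x * (x⁻¹ * g) * x := by rw [hg]
  have h2 : x * (g * x⁻¹) * x = x * g := by group
  have h3 : x * (x⁻¹ * g) * x = g * x := by group
  rw [← h3, ← h1, h2]

theorem SC.conj {x : G} (h : SC x) (c : G) : SC (c * x * c⁻¹) := by
  refine ⟨by rw [ord_conj, h.ord], fun g hg => ?_⟩
  have h1 : c⁻¹ * g * c * x = x * (c⁻¹ * g * c) := by
    calc c⁻¹ * g * c * x = c⁻¹ * (g * (c * x * c⁻¹)) * c := by group
      _ = c⁻¹ * (c * x * c⁻¹ * g) * c := by rw [hg]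
      _ = x * (c⁻¹ * g * c) := by group
  have h2 := h.cent _ h1
  have h4 : orderOf (c * x * c⁻¹) = 3 := by rw [ord_conj, h.ord]
  rw [mem_zp h4]
  rcases (mem_zp h.ord).1 h2 with h3 | h3 | h3
  · left
    have : g = c * (c⁻¹ * g * c) * c⁻¹ := by group
    rw [this, h3]; group
  · right; left
    have : g = c * (c⁻¹ * g * c) * c⁻¹ := by group
    rw [this, h3]
  · right; right
    have : g = c * (c⁻¹ * g * c) * c⁻¹ := by group
    rw [this, h3]; group

theorem SC.of_subgroup {H : Subgroup G} {x : G} (h : SC x) (hx : x ∈ H) : SC (⟨x, hx⟩ : H) := by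
  refine ⟨by rw [← h.ord, Subgroup.orderOf_mk], fun g hg => ?_⟩
  have h1 : (g : G) * x = x * g := by
    have := congrArg (Subtype.val) hg
    simpa using this
  have ho : orderOf (⟨x, hx⟩ : H) = 3 := by rw [← h.ord, Subgroup.orderOf_mk]
  rw [mem_zp ho]
  rcases h.cent' h1 with h2 | h2 | h2
  · left; ext; simpa using h2
  · right; left; ext; simpa using h2
  · right; right; ext; simpa using h2

section finite
variable [Finite G]

theorem SC.exists_sylow {x : G} (h : SC x) :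
    ∃ P : Sylow 3 G, (P : Subgroup G) = Subgroup.zpowers x := by
  haveI : Fact (Nat.Prime 3) := ⟨Nat.prime_three⟩
  have hx : IsPGroup 3 (Subgroup.zpowers x) := by
    apply IsPGroup.of_card (n := 1)
    rw [Nat.card_zpowers, h.ord]; norm_num
  obtain ⟨P, hP⟩ := hx.exists_le_sylow
  refine ⟨P, le_antisymm ?_ hP⟩
  have hxP : x ∈ (P : Subgroup G) := hP (Subgroup.mem_zpowers x)
  haveI : Nontrivial (P : Subgroup G) := ⟨⟨⟨x, hxP⟩, 1, fun h1 => h.ne_one (by simpa using h1)⟩⟩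
  haveI := P.isPGroup'.center_nontrivial
  obtain ⟨z, hz⟩ := exists_ne (1 : Subgroup.center (P : Subgroup G))
  have hz0 : ((z : (P : Subgroup G)) : G) ≠ 1 := by
    intro h1
    apply hz
    ext
    simpa using h1
  have hcomm : ∀ g ∈ (P : Subgroup G), g * ((z : (P : Subgroup G)) : G) = ((z : (P : Subgroup G)) : G) * g := by
    intro g hg
    have := (Subgroup.mem_center_iff.1 z.2) ⟨g, hg⟩
    have := congrArg Subtype.val this
    simpa using this
  have h1 := h.cent' (hcomm x hxP).symm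
  intro g hg
  apply h.cent
  rcases h1 with h2 | h2 | h2
  · exact absurd h2 hz0
  · have := hcomm g hg
    rwa [h2] at this
  · have := hcomm g hg
    rw [h2] at this
    have h4 : x * (g * x⁻¹) * x = x * (x⁻¹ * g) * x := by rw [this]
    have h5 : x * (g * x⁻¹) * x = x * g := by group
    have h6 : x * (x⁻¹ * g) * x = g * x := by group
    rw [← h6, ← h4, h5]

theorem SC.not_nine_dvd {x : G} (h : SC x) : ¬ 9 ∣ Nat.card G := by
  haveI : Fact (Nat.Prime 3) := ⟨Nat.prime_three⟩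
  obtain ⟨P, hP⟩ := h.exists_sylow
  intro h9
  have h1 : 3 ^ 2 ∣ Nat.card P := P.pow_dvd_card_of_pow_dvd_card (by simpa using h9)
  have h2 : Nat.card P = 3 := by
    have : Nat.card (P : Subgroup G) = 3 := by rw [hP, Nat.card_zpowers, h.ord]
    exact this
  rw [h2] at h1
  norm_num at h1

theorem SC.three_dvd {x : G} (h : SC x) : 3 ∣ Nat.card G := h.ord ▸ orderOf_dvd_natCard x

theorem SC.exists_conj {x y : G} (h : SC x) (hy : orderOf y = 3) :
    ∃ c : G, c * x * c⁻¹ = y ∨ c * x * c⁻¹ = y⁻¹ := by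
  haveI : Fact (Nat.Prime 3) := ⟨Nat.prime_three⟩
  obtain ⟨P, hP⟩ := h.exists_sylow
  have hyp : IsPGroup 3 (Subgroup.zpowers y) := by
    apply IsPGroup.of_card (n := 1)
    rw [Nat.card_zpowers, hy]; norm_num
  obtain ⟨Q, hQ⟩ := hyp.exists_le_sylow
  obtain ⟨c, hc⟩ := MulAction.exists_smul_eq G P Q
  have h1 : y ∈ (Q : Subgroup G) := hQ (Subgroup.mem_zpowers y)
  rw [← hc, Sylow.coe_subgroup_smul, Subgroup.mem_pointwise_smul_iff_inv_smul_mem] at h1
  have h2 : c⁻¹ * y * c ∈ Subgroup.zpowers x := by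
    rw [← hP]
    simpa [MulAut.smul_def, ← map_inv] using h1
  refine ⟨c, ?_⟩
  rcases (mem_zp h.ord).1 h2 with h3 | h3 | h3
  · exfalso
    have : y = 1 := by
      have : y = c * (c⁻¹ * y * c) * c⁻¹ := by group
      rw [this, h3]; group
    rw [this, orderOf_one] at hy
    omega
  · left
    rw [← h3]; group
  · right
    have : x = (c⁻¹ * y * c)⁻¹ := by rw [h3, inv_inv]
    rw [this]; group

theorem SC.of_order {x y : G} (h : SC x) (hy : orderOf y = 3) : SC y := by
  obtain ⟨c, hc | hc⟩ := h.exists_conj hy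
  · rw [← hc]; exact h.conj c
  · have := (h.conj c).inv
    rwa [hc, inv_inv] at this

theorem SC.order_eq {x g : G} (h : SC x) (hg : 3 ∣ orderOf g) : orderOf g = 3 := by
  obtain ⟨m, hm⟩ := hg
  have hpos : 0 < orderOf g := orderOf_pos g
  have hm0 : m ≠ 0 := by rintro rfl; omega
  have h1 : orderOf (g ^ m) = 3 := by
    rw [orderOf_pow_of_dvd hm0 ⟨3, by rw [hm, mul_comm]⟩, hm]
    exact Nat.mul_div_cancel _ (Nat.pos_of_ne_zero hm0)
  have h2 := h.of_order h1
  have h3 := h2.cent g ((Commute.refl g).pow_right m)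
  have h4 : orderOf g ∣ orderOf (g ^ m) := by
    rw [← Nat.card_zpowers (g ^ m)]
    exact Subgroup.orderOf_dvd_natCard _ h3
  rw [h1] at h4
  exact Nat.dvd_antisymm h4 ⟨m, hm⟩

/-- `K` is an `x`-invariant subgroup of order prime to three. -/
structure IK (x : G) (K : Subgroup G) : Prop where
  inv : ∀ k ∈ K, x * k * x⁻¹ ∈ K
  co : ¬ 3 ∣ Nat.card K

omit [Finite G] in
theorem xx_conj {x : G} (hx : orderOf x = 3) (k : G) : x * (x * k * x⁻¹) * x⁻¹ = x⁻¹ * k * x := by
  have h2 := inv_eq hx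
  have h4 : x⁻¹ * x⁻¹ = x := by rw [← mul_inv_rev, ← h2, inv_inv]
  calc x * (x * k * x⁻¹) * x⁻¹ = (x * x) * k * (x⁻¹ * x⁻¹) := by group
    _ = _ := by rw [← h2, h4]

omit [Finite G] in
theorem IK.inv' {x : G} (hx : orderOf x = 3) {K : Subgroup G} (hK : IK x K) {k : G}
    (hk : k ∈ K) : x⁻¹ * k * x ∈ K := by
  rw [← xx_conj hx]
  exact hK.inv _ (hK.inv k hk)

omit [Finite G] in
theorem IK.symm {x : G} (hx : orderOf x = 3) {K : Subgroup G} (hK : IK x K) : IK x⁻¹ K :=
  ⟨fun k hk => by rw [inv_inv]; exact hK.inv' hx hk, hK.co⟩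

theorem SC.not_mem {x : G} (h : SC x) {K : Subgroup G} (hK : ¬ 3 ∣ Nat.card K) : x ∉ K :=
  fun hx => hK (by have := K.orderOf_dvd_natCard hx; rwa [h.ord] at this)

theorem SC.fpf {x : G} (h : SC x) {K : Subgroup G} (hK : ¬ 3 ∣ Nat.card K) {k : G} (hk : k ∈ K)
    (hkx : k * x = x * k) : k = 1 := by
  rcases h.cent' hkx with h1 | h1 | h1
  · exact h1
  · exact absurd (h1 ▸ hk) (h.not_mem hK)
  · exact absurd (by simpa [h1] using inv_mem hk) (h.not_mem hK)

theorem SC.surj {x : G} (h : SC x) {K : Subgroup G} (hK : IK x K) {k : G} (hk : k ∈ K) :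
    ∃ u ∈ K, u * x * u⁻¹ = k * x := by
  let f : K → K := fun u => ⟨u * (x * (u : G)⁻¹ * x⁻¹), mul_mem u.2 (hK.inv _ (inv_mem u.2))⟩
  have hinj : Function.Injective f := by
    intro a b hab
    have h1 : (a:G) * (x * (a:G)⁻¹ * x⁻¹) = b * (x * (b:G)⁻¹ * x⁻¹) := congrArg Subtype.val hab
    have h2 : ((b:G)⁻¹ * a) * x = x * ((b:G)⁻¹ * a) := by
      calc (b:G)⁻¹ * a * x = (b:G)⁻¹ * (a * (x * (a:G)⁻¹ * x⁻¹)) * x * a := by group
        _ = (b:G)⁻¹ * (b * (x * (b:G)⁻¹ * x⁻¹)) * x * a := by rw [h1]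
        _ = x * ((b:G)⁻¹ * a) := by group
    have h3 := h.fpf hK.co (mul_mem (inv_mem b.2) a.2) h2
    ext
    exact (inv_mul_eq_one.1 h3).symm
  obtain ⟨u, hu⟩ := (Finite.injective_iff_surjective.1 hinj) ⟨k, hk⟩
  refine ⟨u, u.2, ?_⟩
  have h1 : (u:G) * (x * (u:G)⁻¹ * x⁻¹) = k := congrArg Subtype.val hu
  rw [← h1]; group

theorem SC.ord_mul {x : G} (h : SC x) {K : Subgroup G} (hK : IK x K) {k : G} (hk : k ∈ K) :
    orderOf (k * x) = 3 := by
  obtain ⟨u, _, hu⟩ := h.surj hK hk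
  rw [← hu, ord_conj, h.ord]

omit [Finite G] in
/-- The Euclidean `(3,3,3)` relations. -/
theorem tri {x b : G} (hx : x * x * x = 1) (h1 : b * x * (b * x) * (b * x) = 1)
    (h2 : b * x⁻¹ * (b * x⁻¹) * (b * x⁻¹) = 1) :
    b * (x * b * x⁻¹) * (x⁻¹ * b * x) = 1 ∧ b * (x * b * x⁻¹) = x * b * x⁻¹ * b ∧
      x * b * x⁻¹ * (x⁻¹ * b * x) = x⁻¹ * b * x * (x * b * x⁻¹) := by
  have hi : x⁻¹ = x * x := by rw [inv_eq_iff_mul_eq_one, ← mul_assoc]; exact hx
  have hxi : x = x⁻¹ * x⁻¹ := by rw [← mul_inv_rev, ← hi, inv_inv]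
  have e1 : b * (x * b * x⁻¹) * (x⁻¹ * b * x) = 1 := by
    rw [← h1]
    calc b * (x * b * x⁻¹) * (x⁻¹ * b * x) = b * x * b * (x⁻¹ * x⁻¹) * b * x := by group
      _ = b * x * (b * x) * (b * x) := by rw [← hxi]; group
  have e2 : b * (x⁻¹ * b * x) * (x * b * x⁻¹) = 1 := by
    rw [← h2]
    calc b * (x⁻¹ * b * x) * (x * b * x⁻¹) = b * x⁻¹ * b * (x * x) * b * x⁻¹ := by group
      _ = b * x⁻¹ * (b * x⁻¹) * (b * x⁻¹) := by rw [← hi]; group
  set p := x * b * x⁻¹ with hp
  set q := x⁻¹ * b * x with hq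
  clear_value p q
  have e3 : p * q = q * p := by
    have : b * (p * q) = b * (q * p) := by
      rw [← mul_assoc b p q, ← mul_assoc b q p, e1, e2]
    exact mul_left_cancel this
  have e4 : b = (p * q)⁻¹ := by
    rw [eq_inv_iff_mul_eq_one, ← mul_assoc]; exact e1
  refine ⟨e1, ?_, e3⟩
  rw [e4]
  have : p * (p * q) = p * q * p := by rw [mul_assoc p q p, ← e3]
  have h5 : Commute p (p * q) := this
  exact h5.inv_right.symm.eq

theorem SC.tri {x : G} (h : SC x) {K : Subgroup G} (hK : IK x K) {b : G} (hb : b ∈ K) :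
    b * (x * b * x⁻¹) * (x⁻¹ * b * x) = 1 ∧ b * (x * b * x⁻¹) = x * b * x⁻¹ * b ∧
      x * b * x⁻¹ * (x⁻¹ * b * x) = x⁻¹ * b * x * (x * b * x⁻¹) :=
  C3X.tri (cube h.ord) (cube (h.ord_mul hK hb)) (cube (h.inv.ord_mul (hK.symm h.ord) hb))

theorem SC.isNilpotent {x : G} (h : SC x) {K : Subgroup G} (hK : IK x K) :
    Group.IsNilpotent K := by
  let e : K ≃* K :=
    { toFun := fun k => ⟨x * k * x⁻¹, hK.inv k k.2⟩
      invFun := fun k => ⟨x⁻¹ * k * x, hK.inv' h.ord k.2⟩
      left_inv := fun k => by ext; simp only; group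
      right_inv := fun k => by ext; simp only; group
      map_mul' := fun a b => by ext; simp only [Subgroup.coe_mul]; group }
  have he : ∀ k : K, ((e k : K) : G) = x * k * x⁻¹ := fun _ => rfl
  apply H31FPFNilp2.isNilpotent Nat.prime_three (e : MulAut K)
  · intro k hk
    have h1 : x * (k : G) * x⁻¹ = k := congrArg Subtype.val hk
    have h2 : (k : G) = 1 := by
      apply h.fpf hK.co k.2
      nth_rewrite 1 [← h1]
      group
    ext; exact h2
  · ext k
    have : ((e ^ 3 : MulAut K) k : G) = x * (x * (x * k * x⁻¹) * x⁻¹) * x⁻¹ := rfl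
    rw [this]
    calc x * (x * (x * (k : G) * x⁻¹) * x⁻¹) * x⁻¹ = (x * x * x) * k * (x * x * x)⁻¹ := by group
      _ = k := by rw [cube h.ord]; group

theorem SC.card_mod {x : G} (h : SC x) {K : Subgroup G} (hK : IK x K) : Nat.card K % 3 = 1 := by
  classical
  haveI : Fact (Nat.Prime 3) := ⟨Nat.prime_three⟩
  haveI : Fintype K := Fintype.ofFinite K
  let f : Function.End K := fun k => ⟨x * k * x⁻¹, hK.inv k k.2⟩
  have hf : f ^ 3 ^ 1 = 1 := by
    funext k
    ext
    have : (((f ^ 3 ^ 1) k : K) : G) = x * (x * (x * k * x⁻¹) * x⁻¹) * x⁻¹ := rfl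
    rw [this]
    calc x * (x * (x * (k : G) * x⁻¹) * x⁻¹) * x⁻¹ = (x * x * x) * k * (x * x * x)⁻¹ := by group
      _ = k := by rw [cube h.ord]; group
  have h1 := Equiv.Perm.card_fixedPoints_modEq hf
  have h2 : Fintype.card (Function.fixedPoints f) = 1 := by
    rw [Fintype.card_eq_one_iff]
    refine ⟨⟨1, ?_⟩, ?_⟩
    · show f 1 = 1
      ext
      show x * ((1 : K) : G) * x⁻¹ = _
      simp
    · rintro ⟨k, hk⟩
      ext
      have h1 : x * (k : G) * x⁻¹ = k := congrArg Subtype.val hk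
      have h2 : (k : G) = 1 := by
        apply h.fpf hK.co k.2
        nth_rewrite 1 [← h1]
        group
      simpa using h2
  rw [h2] at h1
  rw [Nat.card_eq_fintype_card]
  exact h1

omit [Finite G] in
theorem SC.inv_sq {x t : G} (h : SC x) (ht : t * x * t⁻¹ = x⁻¹) : t * t = 1 := by
  have h0 : t * x⁻¹ * t⁻¹ = x := by
    have : t * x⁻¹ * t⁻¹ = (t * x * t⁻¹)⁻¹ := by group
    rw [this, ht, inv_inv]
  have h1 : t * t * x = x * (t * t) := by
    have : t * t * x * (t * t)⁻¹ = x := by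
      calc t * t * x * (t * t)⁻¹ = t * (t * x * t⁻¹) * t⁻¹ := by group
        _ = x := by rw [ht, h0]
    calc t * t * x = t * t * x * (t * t)⁻¹ * (t * t) := by group
      _ = _ := by rw [this]
  rcases h.cent' h1 with h2 | h2 | h2
  · exact h2
  · exfalso
    have : t * (t * t) * t⁻¹ = t * t := by group
    rw [h2, ht] at this
    exact h.ne_inv this.symm
  · exfalso
    have : t * (t * t) * t⁻¹ = t * t := by group
    rw [h2, h0] at this
    exact h.ne_inv this

omit [Finite G] in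
theorem SC.inverters {x s t : G} (h : SC x) (ht : t * x * t⁻¹ = x⁻¹) (hs : s * x * s⁻¹ = x⁻¹) :
    s = t ∨ s = t * x ∨ s = t * x⁻¹ := by
  have h1 : t⁻¹ * s * x = x * (t⁻¹ * s) := by
    have : t⁻¹ * s * x * (t⁻¹ * s)⁻¹ = x := by
      calc t⁻¹ * s * x * (t⁻¹ * s)⁻¹ = t⁻¹ * (s * x * s⁻¹) * t := by group
        _ = t⁻¹ * (t * x * t⁻¹) * t := by rw [hs, ht]
        _ = x := by group
    calc t⁻¹ * s * x = t⁻¹ * s * x * (t⁻¹ * s)⁻¹ * (t⁻¹ * s) := by group
      _ = _ := by rw [this]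
  rcases h.cent' h1 with h2 | h2 | h2
  · left; exact (inv_mul_eq_one.1 h2).symm
  · right; left; rw [← h2]; group
  · right; right; rw [← h2]; group

/-- If `t` inverts `x` and normalizes the `x`-invariant `3'`-group `K`, then
`|K| = |C_K(t)|²`. -/
theorem SC.card_sq {x t : G} (h : SC x) (ht : t * x * t⁻¹ = x⁻¹) {K : Subgroup G} (hK : IK x K)
    (htK : ∀ k ∈ K, t * k * t⁻¹ ∈ K) :
    Nat.card K = Nat.card (K ⊓ Subgroup.centralizer {t} : Subgroup G) ^ 2 := by
  have htt := h.inv_sq ht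
  have hti : t⁻¹ = t := inv_eq_of_mul_eq_one_left htt
  have hx3 := cube h.ord
  have hxi := inv_eq h.ord
  -- the second involution
  have htx : t * x = x * t * x⁻¹ := by
    have h1 : t * x = x⁻¹ * t := by
      calc t * x = t * x * t⁻¹ * t := by group
        _ = x⁻¹ * t := by rw [ht]
    have h2 : t * x⁻¹ = x * t := by
      calc t * x⁻¹ = (t * x * t⁻¹)⁻¹ * t := by group
        _ = x * t := by rw [ht, inv_inv]
    calc t * x = x⁻¹ * t := h1
      _ = x * x * t := by rw [← hxi]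
      _ = x * (x * t) := by group
      _ = x * (t * x⁻¹) := by rw [h2]
      _ = _ := by group
  set B := K ⊓ Subgroup.centralizer {t} with hB
  have hBm : ∀ b, b ∈ B ↔ b ∈ K ∧ b * t = t * b := by
    intro b
    rw [hB, Subgroup.mem_inf, Subgroup.mem_centralizer_singleton_iff]
  let f : B × B → K := fun p => ⟨x * p.1 * x⁻¹ * p.2,
    mul_mem (hK.inv _ ((hBm _).1 p.1.2).1) ((hBm _).1 p.2.2).1⟩
  have hinj : Function.Injective f := by
    rintro ⟨a, b⟩ ⟨c, d⟩ hab
    have h1 : x * (a : G) * x⁻¹ * b = x * c * x⁻¹ * d := congrArg Subtype.val hab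
    -- `w = x (c⁻¹ a) x⁻¹ = d b⁻¹`
    have h2 : x * ((c : G)⁻¹ * a) * x⁻¹ = d * (b : G)⁻¹ := by
      calc x * ((c : G)⁻¹ * a) * x⁻¹ = (x * c * x⁻¹)⁻¹ * (x * (a : G) * x⁻¹ * b) * (b : G)⁻¹ := by group
        _ = (x * c * x⁻¹)⁻¹ * (x * c * x⁻¹ * d) * (b : G)⁻¹ := by rw [h1]
        _ = d * (b : G)⁻¹ := by group
    have hw1 : (d * b⁻¹ : B) ∈ (⊤ : Subgroup B) := trivial
    have hdb := (hBm _).1 (d * b⁻¹ : B).2
    have hca := (hBm _).1 (c⁻¹ * a : B).2
    simp only [Subgroup.coe_mul, Subgroup.coe_inv] at hdb hca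
    -- `w` commutes with `t` and `t x`, hence with `x`
    have h3 : (d : G) * (b : G)⁻¹ * x = x * (d * (b : G)⁻¹) := by
      have h4 : (d : G) * (b : G)⁻¹ * (t * x) = t * x * (d * (b : G)⁻¹) := by
        rw [htx, ← h2]
        calc x * ((c : G)⁻¹ * a) * x⁻¹ * (x * t * x⁻¹) = x * ((c : G)⁻¹ * a * t) * x⁻¹ := by group
          _ = x * (t * ((c : G)⁻¹ * a)) * x⁻¹ := by rw [hca.2]
          _ = _ := by group
      have h5 : t * ((d : G) * (b : G)⁻¹ * x) = t * (x * (d * (b : G)⁻¹)) := by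
        calc t * ((d : G) * (b : G)⁻¹ * x) = (t * (d * (b : G)⁻¹)) * x := by group
          _ = (d * (b : G)⁻¹ * t) * x := by rw [hdb.2]
          _ = (d : G) * (b : G)⁻¹ * (t * x) := by group
          _ = t * x * (d * (b : G)⁻¹) := h4
          _ = _ := by group
      exact mul_left_cancel h5
    have h6 : (d : G) * (b : G)⁻¹ = 1 := h.fpf hK.co hdb.1 h3
    have h7 : (c : G)⁻¹ * a = 1 := by
      have : (c : G)⁻¹ * a = x⁻¹ * (x * ((c : G)⁻¹ * a) * x⁻¹) * x := by group
      rw [this, h2, h6]; group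
    have h8 : (a : G) = c := (inv_mul_eq_one.1 h7).symm
    have h9 : (b : G) = d := (mul_inv_eq_one.1 h6).symm
    exact Prod.ext (Subtype.ext h8) (Subtype.ext h9)
  have hsurj : Function.Surjective f := by
    rintro ⟨g, hg⟩
    have hk1 : g * (t * g⁻¹ * t⁻¹) ∈ K := mul_mem hg (htK _ (inv_mem hg))
    obtain ⟨u, hu, hux⟩ := h.surj hK hk1
    set s := u⁻¹ * (g * t * g⁻¹) * u with hs
    set s' := u⁻¹ * (t * x) * u with hs'
    have hss : s * s' = x := by
      have : x = u⁻¹ * (u * x * u⁻¹) * u := by group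
      rw [this, hux, hs, hs']
      calc u⁻¹ * (g * t * g⁻¹) * u * (u⁻¹ * (t * x) * u) = u⁻¹ * (g * t * g⁻¹ * t * x) * u := by group
        _ = _ := by
          nth_rewrite 2 [← hti]
          group
    have hs2 : s * s = 1 := by
      rw [hs]
      calc u⁻¹ * (g * t * g⁻¹) * u * (u⁻¹ * (g * t * g⁻¹) * u) = u⁻¹ * g * (t * t) * g⁻¹ * u := by group
        _ = 1 := by rw [htt]; group
    have hsi : s⁻¹ = s := inv_eq_of_mul_eq_one_left hs2
    have htx2 : (t * x) * (t * x) = 1 := by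
      rw [htx]
      calc x * t * x⁻¹ * (x * t * x⁻¹) = x * (t * t) * x⁻¹ := by group
        _ = 1 := by rw [htt]; group
    have hs'2 : s' * s' = 1 := by
      rw [hs']
      calc u⁻¹ * (t * x) * u * (u⁻¹ * (t * x) * u) = u⁻¹ * ((t * x) * (t * x)) * u := by group
        _ = 1 := by rw [htx2]; group
    have hs'i : s'⁻¹ = s' := inv_eq_of_mul_eq_one_left hs'2
    have hsx : s * x * s⁻¹ = x⁻¹ := by
      rw [← hss, hsi, mul_inv_rev, hsi, hs'i]
      calc s * (s * s') * s = (s * s) * s' * s := by group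
        _ = s' * s := by rw [hs2, one_mul]
    -- `s ≡ t mod K`
    have hst : t⁻¹ * s ∈ K := by
      have : t⁻¹ * s = (t⁻¹ * (u⁻¹ * g) * t) * (u⁻¹ * g)⁻¹ := by
        rw [hs]; group
      rw [this]
      apply mul_mem
      · have := htK (u⁻¹ * g) (mul_mem (inv_mem hu) hg)
        rw [hti] at this ⊢
        exact this
      · exact inv_mem (mul_mem (inv_mem hu) hg)
    have hs_eq : s = t := by
      rcases h.inverters ht hsx with h1 | h1 | h1
      · exact h1
      · exfalso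
        rw [h1, inv_mul_cancel_left] at hst
        exact h.not_mem hK.co hst
      · exfalso
        rw [h1, inv_mul_cancel_left] at hst
        exact h.not_mem hK.co (by simpa using inv_mem hst)
    have hs'_eq : s' = t * x := by
      have : s' = s⁻¹ * (s * s') := by group
      rw [this, hss, hsi, hs_eq]
    -- `b' = u`, `b = u⁻¹ g`
    have hu1 : x⁻¹ * u * x ∈ B := by
      rw [hBm]
      refine ⟨hK.inv' h.ord hu, ?_⟩
      have h1 : (t * x) * u = u * (t * x) := by
        rw [← hs'_eq]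
        nth_rewrite 2 [hs']
        rw [hs'_eq]
        group
      rw [htx] at h1
      calc x⁻¹ * u * x * t = x⁻¹ * (u * (x * t * x⁻¹)) * x := by group
        _ = x⁻¹ * (x * t * x⁻¹ * u) * x := by rw [h1]
        _ = t * (x⁻¹ * u * x) := by group
    have hu2 : u⁻¹ * g ∈ B := by
      rw [hBm]
      refine ⟨mul_mem (inv_mem hu) hg, ?_⟩
      calc u⁻¹ * g * t = s * (u⁻¹ * g) := by rw [hs]; group
        _ = t * (u⁻¹ * g) := by rw [hs_eq]
    refine ⟨(⟨_, hu1⟩, ⟨_, hu2⟩), ?_⟩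
    ext
    show x * (x⁻¹ * u * x) * x⁻¹ * (u⁻¹ * g) = g
    group
  have := Nat.card_congr (Equiv.ofBijective f ⟨hinj, hsurj⟩)
  rw [← this, Nat.card_prod, pow_two]

end finite

end Cfsg.Agent.Lib.C3X
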