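import Cfsg.Agent.Lib.C3XFit2

/-!
# Groups with a self-centralizing subgroup of order three: reduction to simple groups (helper20)
-/

set_option autoImplicit false
set_option linter.style.haveILetI false
set_option linter.unusedSectionVars false

namespace Cfsg.Agent.Lib.C3X

universe u

variable {G : Type u} [Group G] [Finite G]

theorem SC.card_small {x : G} (h : SC x) (hn : ∀ g : G, g * x * g⁻¹ = x ∨ g * x * g⁻¹ = x⁻¹) :
    Nat.card G = 3 ∨ Nat.card G = 6 := by
  by_cases ht : ∃ t : G, t * x * t⁻¹ = x⁻¹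
  · right
    obtain ⟨t, ht⟩ := ht
    have h1 : ∀ g : G, g ∈ ({1, x, x⁻¹, t, t * x, t * x⁻¹} : Set G) := by
      intro g
      rcases hn g with h2 | h2
      · have h3 : g * x = x * g := by
          calc g * x = g * x * g⁻¹ * g := by group
            _ = x * g := by rw [h2]
        rcases h.cent' h3 with h4 | h4 | h4 <;> simp [h4]
      · rcases h.inverters ht h2 with h4 | h4 | h4 <;> simp [h4]
    have h2 : Nat.card G ≤ 6 := by
      have h3 : (Set.univ : Set G) ⊆ {1, x, x⁻¹, t, t * x, t * x⁻¹} := fun g _ => h1 g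
      have h4 := Set.ncard_le_ncard h3 (Set.toFinite _)
      rw [Set.ncard_univ] at h4
      refine h4.trans ?_
      have e1 := Set.ncard_insert_le (1 : G) {x, x⁻¹, t, t * x, t * x⁻¹}
      have e2 := Set.ncard_insert_le x {x⁻¹, t, t * x, t * x⁻¹}
      have e3 := Set.ncard_insert_le x⁻¹ {t, t * x, t * x⁻¹}
      have e4 := Set.ncard_insert_le t {t * x, t * x⁻¹}
      have e5 := Set.ncard_insert_le (t * x) {t * x⁻¹}
      have e6 := Set.ncard_singleton (t * x⁻¹)
      omega
    have h3 := h.three_dvd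
    have h4 : 2 ∣ Nat.card G := by
      have h5 : orderOf t = 2 := by
        haveI : Fact (Nat.Prime 2) := ⟨Nat.prime_two⟩
        apply orderOf_eq_prime
        · rw [pow_two]; exact h.inv_sq ht
        · rintro rfl
          apply h.ne_inv
          simpa using ht
      rw [← h5]; exact orderOf_dvd_natCard t
    have h5 : 0 < Nat.card G := Nat.card_pos
    omega
  · left
    push Not at ht
    have h1 : (⊤ : Subgroup G) = Subgroup.zpowers x := by
      symm
      rw [eq_top_iff]
      intro g _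
      apply h.cent
      rcases hn g with h2 | h2
      · calc g * x = g * x * g⁻¹ * g := by group
          _ = x * g := by rw [h2]
      · exact absurd h2 (ht g)
    rw [← Subgroup.card_top, h1, Nat.card_zpowers, h.ord]

theorem SC.mem_of_normal {x : G} (h : SC x) {N : Subgroup G} [N.Normal] (hN : 3 ∣ Nat.card N) :
    x ∈ N := by
  haveI : Fact (Nat.Prime 3) := ⟨Nat.prime_three⟩
  obtain ⟨⟨k, hk⟩, hk3⟩ := exists_prime_orderOf_dvd_card' 3 hN
  rw [Subgroup.orderOf_mk] at hk3
  obtain ⟨c, hc | hc⟩ := h.exists_conj hk3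
  · have h1 := Subgroup.Normal.conj_mem (inferInstance : N.Normal) k hk c⁻¹
    rw [← hc] at h1
    have : c⁻¹ * (c * x * c⁻¹) * c⁻¹⁻¹ = x := by group
    rwa [this] at h1
  · have h1 := Subgroup.Normal.conj_mem (inferInstance : N.Normal) k⁻¹ (inv_mem hk) c⁻¹
    rw [← hc] at h1
    have : c⁻¹ * (c * x * c⁻¹) * c⁻¹⁻¹ = x := by group
    rwa [this] at h1

theorem simple_or {x : G} (h : SC x)
    (h0 : ∀ F : Subgroup G, F.Normal → ¬ 3 ∣ Nat.card F → F = ⊥) :
    (Nat.card G = 3 ∨ Nat.card G = 6) ∨ IsSimpleGroup G := by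
  by_contra hcon
  push Not at hcon
  obtain ⟨hcard, hns⟩ := hcon
  apply hns
  haveI : Nontrivial G := ⟨⟨x, 1, h.ne_one⟩⟩
  refine ⟨fun N hN => ?_⟩
  by_contra hcon
  push Not at hcon
  obtain ⟨hN1, hN2⟩ := hcon
  have h3 : 3 ∣ Nat.card N := by
    by_contra h3
    exact hN1 (h0 N hN h3)
  have hxN : x ∈ N := h.mem_of_normal h3
  have hsN := h.of_subgroup hxN
  by_cases ht : ∃ t ∈ N, t * x * t⁻¹ = x⁻¹
  · obtain ⟨t, htN, ht⟩ := ht
    apply hN2
    rw [eq_top_iff]
    intro g _
    have hy : g * x * g⁻¹ ∈ N := Subgroup.Normal.conj_mem hN x hxN g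
    have ho : orderOf (⟨g * x * g⁻¹, hy⟩ : N) = 3 := by
      rw [Subgroup.orderOf_mk, ord_conj, h.ord]
    obtain ⟨c, hc⟩ := hsN.exists_conj ho
    have h1 : (c : G)⁻¹ * g ∈ N := by
      rcases hc with hc | hc
      · have hc' : (c : G) * x * (c : G)⁻¹ = g * x * g⁻¹ := congrArg Subtype.val hc
        have h2 : (c : G)⁻¹ * g * x = x * ((c : G)⁻¹ * g) := by
          calc (c : G)⁻¹ * g * x = (c : G)⁻¹ * (g * x * g⁻¹) * g := by group
            _ = (c : G)⁻¹ * (c * x * (c : G)⁻¹) * g := by rw [hc']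
            _ = _ := by group
        have := h.cent _ h2
        exact (Subgroup.zpowers_le.2 hxN) this
      · have hc' : (c : G) * x * (c : G)⁻¹ = (g * x * g⁻¹)⁻¹ := congrArg Subtype.val hc
        have h2 : ((c : G)⁻¹ * g) * x * ((c : G)⁻¹ * g)⁻¹ = x⁻¹ := by
          calc ((c : G)⁻¹ * g) * x * ((c : G)⁻¹ * g)⁻¹ = ((c : G)⁻¹ * (g * x * g⁻¹)⁻¹ * c)⁻¹ := by group
            _ = ((c : G)⁻¹ * (c * x * (c : G)⁻¹) * c)⁻¹ := by rw [hc']
            _ = _ := by group
        rcases h.inverters ht h2 with h4 | h4 | h4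
        · rw [h4]; exact htN
        · rw [h4]; exact mul_mem htN hxN
        · rw [h4]; exact mul_mem htN (inv_mem hxN)
    have := mul_mem c.2 h1
    rwa [mul_inv_cancel_left] at this
  · push Not at ht
    obtain ⟨M, hM, hM1, hM3⟩ := hsN.burnside (fun t h1 => ht t t.2 (congrArg Subtype.val h1))
    have hle : ∀ K : Subgroup N, IK (⟨x, hxN⟩ : N) K → K ≤ M := fun K hK =>
      hsN.le_of_index hM3 (Or.inl (by rw [← hM1, mul_comm])) hK
    have hMn : (M.map N.subtype).Normal := by
      refine ⟨?_⟩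
      rintro _ ⟨m, hm, rfl⟩ g
      -- the conjugate of `M` by `g`
      let φ : MulAut N := MulAut.conjNormal g
      have hK : IK (⟨x, hxN⟩ : N) (M.map φ.toMonoidHom) := by
        refine ⟨?_, ?_⟩
        · rintro _ ⟨k, hk, rfl⟩
          have h1 : (φ.symm ⟨x, hxN⟩) * k * (φ.symm ⟨x, hxN⟩)⁻¹ ∈ M :=
            Subgroup.Normal.conj_mem hM k hk _
          refine ⟨_, h1, ?_⟩
          simp
        · have e1 : Nat.card (M.map φ.toMonoidHom) = Nat.card M :=
            Subgroup.card_map_of_injective (f := φ.toMonoidHom) φ.injective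
          rw [e1]
          exact hM3
      have h1 := hle _ hK ⟨m, hm, rfl⟩
      exact ⟨_, h1, rfl⟩
    have hM4 := h0 _ hMn (by rwa [Subgroup.card_map_of_injective N.subtype_injective])
    have hM5 : Nat.card M = 1 := by
      rw [← Subgroup.card_map_of_injective N.subtype_injective, hM4, Subgroup.card_bot]
    rw [hM5, one_mul] at hM1
    have hN3 : N = Subgroup.zpowers x := by
      symm
      apply Subgroup.eq_of_le_of_card_ge (Subgroup.zpowers_le.2 hxN)
      rw [← hM1, Nat.card_zpowers, h.ord]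
    rcases h.card_small (fun g => by
      have h1 := Subgroup.Normal.conj_mem hN x hxN g
      rw [hN3] at h1
      rcases (mem_zp h.ord).1 h1 with h2 | h2 | h2
      · exfalso
        apply h.ne_one
        have : x = g⁻¹ * (g * x * g⁻¹) * g := by group
        rw [this, h2]; group
      · left; exact h2
      · right; exact h2) with h1 | h1
    · exact hcard.1 h1
    · exact hcard.2 h1

end Cfsg.Agent.Lib.C3X
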