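import Cfsg.Agent.Lib.C3XCount
import Cfsg.Agent.Lib.C3XSimple
import Cfsg.Agent.Lib.CharGalois
import Cfsg.Agent.Lib.CharCentral
import Cfsg.Agent.Lib.CharApps
import Cfsg.Agent.Lib.BlockDefZero

/-!
# Groups with a self-centralizing subgroup of order three: characters (helper20)
-/

set_option autoImplicit false
set_option linter.style.haveILetI false
set_option linter.unusedSectionVars false

namespace Cfsg.Agent.Lib.C3X

open scoped ComplexConjugate
open Cfsg Cfsg.Agent.Lib.CharBasic Cfsg.Agent.Lib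

universe u

variable {G : Type u} [Group G]

theorem int_of_pow [Finite G] {χ : G → ℂ} (hχ : IsCharacter G χ) {g : G}
    (h : ∀ k : ℕ, k.Coprime (Nat.card G) → IsConj g (g ^ k)) : ∃ v : ℤ, χ g = v := by
  obtain ⟨q, hq⟩ := CharGalois.exists_rat_of_pow hχ g
    (fun k hk => (hχ.isClassFunction.conj_eq (h k hk)).symm)
  have hint : IsIntegral ℤ (χ g) := by
    obtain ⟨n, ρ, rfl⟩ := hχ
    exact CharValues.isIntegral_character ρ g
  exact CharCentral.exists_int_of_isIntegral_rat hint q hq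

theorem int_two [Finite G] {χ : G → ℂ} (hχ : IsCharacter G χ) {t : G} (ht : t * t = 1)
    (h2 : 2 ∣ Nat.card G) : ∃ v : ℤ, χ t = v := by
  apply int_of_pow hχ
  intro k hk
  have hodd : k % 2 = 1 := by
    by_contra hcon
    have h3 : 2 ∣ k := by omega
    have := Nat.Coprime.eq_one_of_dvd (hk.coprime_dvd_left h3) h2
    omega
  have : t ^ k = t := by
    conv_lhs => rw [← Nat.div_add_mod k 2, hodd, pow_succ, pow_mul, pow_two, ht, one_pow, one_mul]
  rw [this]

theorem int_three [Finite G] {χ : G → ℂ} (hχ : IsCharacter G χ) {x t : G} (hx : x * x * x = 1)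
    (ht : t * x * t⁻¹ = x⁻¹) (h3 : 3 ∣ Nat.card G) : ∃ v : ℤ, χ x = v := by
  apply int_of_pow hχ
  intro k hk
  have h0 : k % 3 = 1 ∨ k % 3 = 2 := by
    by_contra hcon
    have h4 : 3 ∣ k := by omega
    have := Nat.Coprime.eq_one_of_dvd (hk.coprime_dvd_left h4) h3
    omega
  have hk' : x ^ k = x ^ (k % 3) := by
    conv_lhs => rw [← Nat.div_add_mod k 3, pow_add, pow_mul]
    have : x ^ 3 = 1 := by rw [pow_succ, pow_two, hx]
    rw [this, one_pow, one_mul]
  rcases h0 with h1 | h1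
  · rw [hk', h1, pow_one]
  · rw [hk', h1]
    have : x ^ 2 = x⁻¹ := by rw [eq_inv_iff_mul_eq_one, pow_two]; exact hx
    rw [this, ← ht]
    exact isConj_iff.2 ⟨t, rfl⟩

/-- The trivial character. -/
noncomputable def oneC (G : Type u) [Group G] : IrrCharacter G := ⟨1, isIrrCharacter_one⟩

theorem oneC_apply (g : G) : ((oneC G : IrrCharacter G) : G → ℂ) g = 1 := rfl

/-- Data on the characters not vanishing at `x`. -/
structure CD (x : G) (c1 c2 : IrrCharacter G) (f : ℕ) : Prop where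
  d1 : (c1 : G → ℂ) 1 = f
  d2 : (c2 : G → ℂ) 1 = f + 1
  x1 : (c1 : G → ℂ) x = 1
  x2 : (c2 : G → ℂ) x = -1
  rel : ∀ g, ¬ IsConj g x → (c2 : G → ℂ) g = 1 + (c1 : G → ℂ) g
  ne : c1 ≠ c2
  ne1 : c1 ≠ oneC G
  ne2 : c2 ≠ oneC G

/-- A sum of three squares of integers. -/
theorem three_squares {ι : Type*} [Fintype ι] [DecidableEq ι] (v : ι → ℤ) (i0 : ι) (h0 : v i0 = 1)
    (h : ∑ i, v i ^ 2 = 3) : ∃ i1 i2, i1 ≠ i0 ∧ i2 ≠ i0 ∧ i1 ≠ i2 ∧ (v i1 = 1 ∨ v i1 = -1) ∧
      (v i2 = 1 ∨ v i2 = -1) ∧ ∀ i, i ≠ i0 → i ≠ i1 → i ≠ i2 → v i = 0 := by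
  have hle : ∀ i, v i ^ 2 ≤ 3 := by
    intro i
    rw [← h]
    exact Finset.single_le_sum (f := fun i => v i ^ 2) (fun j _ => sq_nonneg _) (Finset.mem_univ i)
  have h1 : ∀ i, v i = 0 ∨ v i = 1 ∨ v i = -1 := by
    intro i
    have := hle i
    have h2 : v i < 2 := by nlinarith
    have h3 : -2 < v i := by nlinarith
    omega
  set S := Finset.univ.filter (fun i => v i ≠ 0) with hS
  have hcard : S.card = 3 := by
    have h2 : ∑ i, v i ^ 2 = ∑ i, if v i ≠ 0 then (1 : ℤ) else 0 := by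
      apply Finset.sum_congr rfl
      intro i _
      rcases h1 i with h3 | h3 | h3 <;> simp [h3]
    rw [h2, Finset.sum_boole] at h
    exact_mod_cast h
  have hi0 : i0 ∈ S := by simp [hS, h0]
  obtain ⟨i1, i2, h12, hE⟩ := Finset.card_eq_two.1 (show (S.erase i0).card = 2 by
    rw [Finset.card_erase_of_mem hi0, hcard])
  have hm1 : i1 ∈ S.erase i0 := by rw [hE]; simp
  have hm2 : i2 ∈ S.erase i0 := by rw [hE]; simp
  have hn1 : v i1 ≠ 0 := by
    have := Finset.mem_of_mem_erase hm1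
    simpa [hS] using this
  have hn2 : v i2 ≠ 0 := by
    have := Finset.mem_of_mem_erase hm2
    simpa [hS] using this
  refine ⟨i1, i2, Finset.ne_of_mem_erase hm1, Finset.ne_of_mem_erase hm2, h12,
    (h1 i1).resolve_left hn1, (h1 i2).resolve_left hn2, ?_⟩
  intro i ha hb hc
  by_contra hv
  have : i ∈ S.erase i0 := Finset.mem_erase.2 ⟨ha, by simp [hS, hv]⟩
  rw [hE] at this
  simp only [Finset.mem_insert, Finset.mem_singleton] at this
  tauto

theorem card_cent {x : G} [Finite G] (h : SC x) :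
    Nat.card (Subgroup.centralizer ({x} : Set G)) = 3 := by
  have : Subgroup.centralizer ({x} : Set G) = Subgroup.zpowers x := by
    apply le_antisymm
    · intro g hg
      exact h.cent g (Subgroup.mem_centralizer_singleton_iff.1 hg)
    · rw [Subgroup.zpowers_le, Subgroup.mem_centralizer_singleton_iff]
  rw [this, Nat.card_zpowers, h.ord]

open scoped Classical in
theorem exists_CD [Finite G] {x t : G} (h : SC x) (ht : t * x * t⁻¹ = x⁻¹) :
    ∃ (c1 c2 : IrrCharacter G) (f : ℕ), CD x c1 c2 f ∧ 0 < f ∧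
      ∀ F : IrrCharacter G → ℂ, ∑ χ : IrrCharacter G, conj ((χ : G → ℂ) x) * F χ =
        F (oneC G) + F c1 - F c2 := by
  have hint : ∀ χ : IrrCharacter G, ∃ v : ℤ, (χ : G → ℂ) x = v := fun χ =>
    int_three χ.2.isCharacter (cube h.ord) ht h.three_dvd
  choose v hv using hint
  have hsq : ∑ χ : IrrCharacter G, v χ ^ 2 = 3 := by
    have h1 := column_orthogonality x x
    rw [if_pos (IsConj.refl x), card_cent h] at h1
    have h2 : ((∑ χ : IrrCharacter G, v χ ^ 2 : ℤ) : ℂ) = ((3 : ℤ) : ℂ) := by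
      push_cast
      rw [show (3 : ℂ) = ((3 : ℕ) : ℂ) by norm_num, ← h1]
      apply Finset.sum_congr rfl
      intro χ _
      rw [hv, map_intCast]
      ring
    exact_mod_cast h2
  have hv0 : v (oneC G) = 1 := by
    have h1 := hv (oneC G)
    rw [oneC_apply] at h1
    exact_mod_cast h1.symm
  obtain ⟨c1, c2, hc1, hc2, hc12, hv1, hv2, hv3⟩ := three_squares v (oneC G) hv0 hsq
  have hsum : ∀ F : IrrCharacter G → ℂ, ∑ χ : IrrCharacter G, conj ((χ : G → ℂ) x) * F χ =
      F (oneC G) + v c1 * F c1 + v c2 * F c2 := by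
    intro F
    rw [← Finset.add_sum_erase _ _ (Finset.mem_univ (oneC G)),
      ← Finset.add_sum_erase _ _ (Finset.mem_erase.2 ⟨hc1, Finset.mem_univ c1⟩),
      ← Finset.add_sum_erase _ _ (Finset.mem_erase.2 ⟨hc12.symm, Finset.mem_erase.2
        ⟨hc2, Finset.mem_univ c2⟩⟩), Finset.sum_eq_zero]
    · rw [hv, hv, hv, hv0]
      simp only [map_intCast]
      push_cast
      ring
    · intro χ hχ
      simp only [Finset.mem_erase, Finset.mem_univ, and_true] at hχ
      rw [hv, hv3 χ hχ.2.2 hχ.2.1 hχ.1]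
      simp
  obtain ⟨f1, hf1, hd1⟩ := c1.2.exists_degree
  obtain ⟨f2, hf2, hd2⟩ := c2.2.exists_degree
  -- orthogonality with the degrees
  have horth : (1 : ℤ) + v c1 * f1 + v c2 * f2 = 0 := by
    have h1 := hsum (fun χ => (χ : G → ℂ) 1)
    have h2 := sum_degree_mul x h.ne_one
    have h3 : ∑ χ : IrrCharacter G, conj ((χ : G → ℂ) x) * (χ : G → ℂ) 1 = 0 := by
      rw [← h2]
      apply Finset.sum_congr rfl
      intro χ _
      rw [hv, map_intCast, mul_comm]
    rw [h3] at h1
    rw [oneC_apply, hd1, hd2] at h1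
    exact_mod_cast h1.symm
  have hrel : ∀ g, ¬ IsConj g x → (1 : ℂ) + v c1 * (c1 : G → ℂ) g + v c2 * (c2 : G → ℂ) g = 0 := by
    intro g hg
    have h1 := hsum (fun χ => (χ : G → ℂ) g)
    have h2 := column_orthogonality g x
    rw [if_neg hg] at h2
    have h3 : ∑ χ : IrrCharacter G, conj ((χ : G → ℂ) x) * (χ : G → ℂ) g = 0 := by
      rw [← h2]
      apply Finset.sum_congr rfl
      intro χ _
      rw [mul_comm]
    rw [h3] at h1
    rw [oneC_apply] at h1
    exact h1.symm
  rcases hv1 with e1 | e1 <;> rcases hv2 with e2 | e2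
  · exfalso
    rw [e1, e2] at horth
    omega
  · have hf : f2 = f1 + 1 := by
      rw [e1, e2] at horth
      omega
    refine ⟨c1, c2, f1, ⟨hd1, ?_, ?_, ?_, ?_, hc12, hc1, hc2⟩, hf1, ?_⟩
    · rw [hd2, hf]; push_cast; ring
    · rw [hv, e1]; norm_num
    · rw [hv, e2]; norm_num
    · intro g hg
      have := hrel g hg
      rw [e1, e2] at this
      push_cast at this
      linear_combination -this
    · intro F
      rw [hsum, e1, e2]
      push_cast
      ring
  · have hf : f1 = f2 + 1 := by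
      rw [e1, e2] at horth
      omega
    refine ⟨c2, c1, f2, ⟨hd2, ?_, ?_, ?_, ?_, hc12.symm, hc2, hc1⟩, hf2, ?_⟩
    · rw [hd1, hf]; push_cast; ring
    · rw [hv, e2]; norm_num
    · rw [hv, e1]; norm_num
    · intro g hg
      have := hrel g hg
      rw [e1, e2] at this
      push_cast at this
      linear_combination -this
    · intro F
      rw [hsum, e1, e2]
      push_cast
      ring
  · exfalso
    rw [e1, e2] at horth
    have : 0 < f1 := hf1
    have : 0 < f2 := hf2
    omega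

end Cfsg.Agent.Lib.C3X
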