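import Cfsg.Agent.Lib.C3XChar
import Cfsg.Agent.Lib.CharValues

/-!
# Groups with a self-centralizing subgroup of order three: characters (helper20)
-/

set_option autoImplicit false
set_option linter.style.haveILetI false
set_option linter.unusedSectionVars false

namespace Cfsg.Agent.Lib.C3X

open scoped ComplexConjugate
open Cfsg Cfsg.Agent.Lib.CharBasic Cfsg.Agent.Lib

universe u

variable {G : Type u} [Group G]

/-- Elements inverting `x`. -/
theorem SC.inv_mem_iff {x t u : G} (h : SC x) (ht : t * x * t⁻¹ = x⁻¹) :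
    u * x * u⁻¹ = x⁻¹ ↔ t⁻¹ * u ∈ Subgroup.zpowers x := by
  constructor
  · intro hu
    rcases h.inverters ht hu with rfl | rfl | rfl
    · rw [inv_mul_cancel]; exact one_mem _
    · rw [inv_mul_cancel_left]; exact Subgroup.mem_zpowers x
    · rw [inv_mul_cancel_left]; exact inv_mem (Subgroup.mem_zpowers x)
  · intro hu
    have h1 : u = t * (t⁻¹ * u) := by group
    obtain ⟨k, hk⟩ := hu
    simp only at hk
    rw [h1, ← hk]
    calc t * x ^ k * x * (t * x ^ k)⁻¹ = t * (x ^ k * x * (x ^ k)⁻¹) * t⁻¹ := by group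
      _ = t * x * t⁻¹ := by group
      _ = _ := ht

theorem SC.card_inverters [Finite G] {x t : G} (h : SC x) (ht : t * x * t⁻¹ = x⁻¹) :
    Nat.card {u : G // u * x * u⁻¹ = x⁻¹} = 3 := by
  have e : {u : G // u * x * u⁻¹ = x⁻¹} ≃ Subgroup.zpowers x :=
    { toFun := fun u => ⟨t⁻¹ * u, (h.inv_mem_iff ht).1 u.2⟩
      invFun := fun v => ⟨t * v, (h.inv_mem_iff ht).2 (by rw [inv_mul_cancel_left]; exact v.2)⟩
      left_inv := fun u => by ext; simp
      right_inv := fun v => by ext; simp }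
  rw [Nat.card_congr e, Nat.card_zpowers, h.ord]

theorem SC.tx_eq {x t : G} (h : SC x) (ht : t * x * t⁻¹ = x⁻¹) : t * x = x * t * x⁻¹ := by
  have h1 : t * x = x⁻¹ * t := by
    calc t * x = t * x * t⁻¹ * t := by group
      _ = x⁻¹ * t := by rw [ht]
  have h2 : t * x⁻¹ = x * t := by
    calc t * x⁻¹ = (t * x * t⁻¹)⁻¹ * t := by group
      _ = x * t := by rw [ht, inv_inv]
  have hxi := inv_eq h.ord
  calc t * x = x⁻¹ * t := h1
    _ = x * x * t := by rw [← hxi]
    _ = x * (x * t) := by group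
    _ = x * (t * x⁻¹) := by rw [h2]
    _ = _ := by group

theorem SC.isConj_inverter {x t u : G} (h : SC x) (ht : t * x * t⁻¹ = x⁻¹)
    (hu : u * x * u⁻¹ = x⁻¹) : IsConj t u := by
  rcases h.inverters ht hu with rfl | rfl | rfl
  · exact IsConj.refl _
  · rw [h.tx_eq ht]; exact isConj_iff.2 ⟨x, rfl⟩
  · have h' : t * x⁻¹ * t⁻¹ = x⁻¹⁻¹ := by
      have : t * x⁻¹ * t⁻¹ = (t * x * t⁻¹)⁻¹ := by group
      rw [this, ht]
    rw [h.inv.tx_eq h']
    exact isConj_iff.2 ⟨x⁻¹, rfl⟩

theorem SC.mul_inverter {x u : G} (hu : u * x * u⁻¹ = x⁻¹) :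
    (x⁻¹ * u) * x * (x⁻¹ * u)⁻¹ = x⁻¹ := by
  calc (x⁻¹ * u) * x * (x⁻¹ * u)⁻¹ = x⁻¹ * (u * x * u⁻¹) * x := by group
    _ = _ := by rw [hu]; group

theorem inverter_of_pair {x u v : G} (hu : u * u = 1) (hv : v * v = 1) (h : u * v⁻¹ = x) :
    u * x * u⁻¹ = x⁻¹ := by
  have hvi : v⁻¹ = v := inv_eq_of_mul_eq_one_left hv
  rw [← h]
  calc u * (u * v⁻¹) * u⁻¹ = (u * u) * v⁻¹ * u⁻¹ := by group
    _ = v⁻¹ * u⁻¹ := by rw [hu, one_mul]
    _ = v * u⁻¹ := by rw [hvi]
    _ = _ := by group

theorem sq_of_conj {t u : G} (ht : t * t = 1) (h : IsConj t u) : u * u = 1 := by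
  obtain ⟨c, rfl⟩ := isConj_iff.1 h
  calc c * t * c⁻¹ * (c * t * c⁻¹) = c * (t * t) * c⁻¹ := by group
    _ = 1 := by rw [ht]; group

theorem snd_eq {x u v : G} (h : u * v⁻¹ = x) : x⁻¹ * u = v := by
  rw [← h]; group

theorem card_NP_tt [Fintype G] {x t : G} (h : SC x) (ht : t * x * t⁻¹ = x⁻¹) :
    Nat.card (NP t t x) = 3 := by
  have htt := h.inv_sq ht
  have e : NP t t x ≃ {u : G // u * x * u⁻¹ = x⁻¹} :=
    { toFun := fun p => ⟨p.1.1, inverter_of_pair (sq_of_conj htt p.2.1) (sq_of_conj htt p.2.2.1)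
        p.2.2.2⟩
      invFun := fun u => ⟨(u, x⁻¹ * u), h.isConj_inverter ht u.2,
        h.isConj_inverter ht (SC.mul_inverter u.2), by simp only; group⟩
      left_inv := fun p => by
        apply Subtype.ext
        apply Prod.ext
        · rfl
        · exact snd_eq p.2.2.2
      right_inv := fun u => by ext; rfl }
  rw [Nat.card_congr e, h.card_inverters ht]

theorem card_NP_ts [Fintype G] {x t s : G} (h : SC x) (ht : t * x * t⁻¹ = x⁻¹)
    (hs : s * s = 1) (hts : ¬ IsConj t s) : Nat.card (NP t s x) = 0 := by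
  have htt := h.inv_sq ht
  haveI : IsEmpty (NP t s x) := by
    refine ⟨fun p => hts ?_⟩
    have h1 := inverter_of_pair (sq_of_conj htt p.2.1) (sq_of_conj hs p.2.2.1) p.2.2.2
    have h2 : x⁻¹ * p.1.1 = p.1.2 := snd_eq p.2.2.2
    have h3 := h.isConj_inverter ht (SC.mul_inverter h1)
    rw [h2] at h3
    exact h3.trans p.2.2.1.symm
  exact Nat.card_of_isEmpty

/-- In a simple group the kernel of a nontrivial irreducible character is trivial. -/
theorem eq_one_of_ker [Finite G] [IsSimpleGroup G] {c : IrrCharacter G} (hc : c ≠ oneC G) {g : G}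
    (hg : (c : G → ℂ) g = (c : G → ℂ) 1) : g = 1 := by
  obtain ⟨χ, n, ρ, hρ, rfl⟩ := c
  simp only at hg
  by_contra hg1
  have h1 : ρ g = 1 := by
    have := (CharValues.character_eq_finrank_iff ρ g).1 (by
      rw [hg, Representation.char_one])
    exact this
  let φ : G →* (Module.End ℂ (Fin n → ℂ)) := ρ
  have hker : (MonoidHom.ker φ) = ⊤ := by
    rcases (inferInstance : (MonoidHom.ker φ).Normal).eq_bot_or_eq_top with h2 | h2
    · exfalso
      apply hg1
      have : g ∈ MonoidHom.ker φ := h1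
      rw [h2] at this
      exact Subgroup.mem_bot.1 this
    · exact h2
  apply hc
  -- all of `G` acts trivially, so the representation is trivial of degree one
  have hall : ∀ y : G, ρ y = 1 := fun y => by
    have : y ∈ MonoidHom.ker φ := by rw [hker]; trivial
    exact this
  haveI := Fintype.ofFinite G
  by_contra hne
  have hirr : IsIrrCharacter G ρ.character := ⟨n, ρ, hρ, rfl⟩
  have h3 : classInner ρ.character (1 : G → ℂ) = 0 := by
    apply hirr.classInner_eq_zero isIrrCharacter_one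
    intro h4
    exact hne (Subtype.ext h4)
  have h4 : ∀ y : G, ρ.character y = ρ.character 1 := fun y => by
    rw [Representation.character, Representation.character, hall y, hall 1]
  rw [classInner_def] at h3
  simp only [h4, Pi.one_apply, map_one, mul_one, Finset.sum_const, Finset.card_univ,
    nsmul_eq_mul] at h3
  have h5 : ρ.character 1 ≠ 0 := hirr.one_ne_zero
  have h6 : (Fintype.card G : ℂ) ≠ 0 := by exact_mod_cast Fintype.card_ne_zero
  have h7 : (Nat.card G : ℂ)⁻¹ ≠ 0 := by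
    rw [Nat.card_eq_fintype_card]; exact inv_ne_zero h6
  exact mul_ne_zero h7 (mul_ne_zero h6 h5) h3

end Cfsg.Agent.Lib.C3X
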