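import Cfsg.Agent.Lib.C3XChar2

/-!
# Groups with a self-centralizing subgroup of order three: characters (helper20)
-/

set_option autoImplicit false
set_option linter.style.haveILetI false
set_option linter.unusedSectionVars false

namespace Cfsg.Agent.Lib.C3X

open scoped ComplexConjugate
open Cfsg Cfsg.Agent.Lib.CharBasic Cfsg.Agent.Lib

universe u

variable {G : Type u} [Group G]

/-- numerical data -/
structure Num (g h : ℕ) (f k : ℕ) (a : ℤ) (n3 n4 : ℕ) : Prop where
  f3 : f % 3 = 1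
  f4 : 4 ≤ f
  kpos : 0 < k
  g_eq : g = 3 * (f * (f + 1) * k ^ 2)
  h_eq : (h : ℤ) = k * (f - a)
  a_lt : a < f
  h_ge : 1 + a ^ 2 + (a + 1) ^ 2 ≤ (h : ℤ)
  par : (f - a) % 2 = 0
  n3_eq : 3 * n3 = k ^ 2 * (f ^ 2 + f + 1)
  n4_eq : (n4 : ℤ) * (f - a) = k * (f ^ 2 + 2 * f + 2 * a * f + a)

theorem sum_two_elt [Finite G] {χ : G → ℂ} (hχ : IsCharacter G χ) {t : G} (ht : t * t = 1)
    (ht1 : t ≠ 1) : ∃ m : ℕ, χ 1 + χ t = 2 * m := by
  classical
  have ho : orderOf t = 2 := by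
    haveI : Fact (Nat.Prime 2) := ⟨Nat.prime_two⟩
    exact orderOf_eq_prime (by rw [pow_two, ht]) ht1
  haveI := Fintype.ofFinite (Subgroup.zpowers t)
  obtain ⟨m, hm⟩ := BlockDefZero.sum_over_subgroup (Subgroup.zpowers t) hχ
  refine ⟨m, ?_⟩
  rw [Nat.card_zpowers, ho] at hm
  have hu : (Finset.univ : Finset (Subgroup.zpowers t)) =
      {1, ⟨t, Subgroup.mem_zpowers t⟩} := by
    symm
    apply Finset.eq_univ_of_card
    rw [Finset.card_pair (by
      intro h1
      exact ht1 (congrArg Subtype.val h1).symm), ← Nat.card_eq_fintype_card,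
      Nat.card_zpowers, ho]
  rw [hu, Finset.sum_pair (by
      intro h1
      exact ht1 (congrArg Subtype.val h1).symm)] at hm
  exact_mod_cast hm

theorem sum_three_elt [Finite G] {χ : G → ℂ} (hχ : IsCharacter G χ) {x : G} (h : SC x) :
    ∃ m : ℕ, χ 1 + χ x + χ x⁻¹ = 3 * m := by
  classical
  haveI := Fintype.ofFinite (Subgroup.zpowers x)
  obtain ⟨m, hm⟩ := BlockDefZero.sum_over_subgroup (Subgroup.zpowers x) hχ
  refine ⟨m, ?_⟩
  rw [Nat.card_zpowers, h.ord] at hm
  have h1x : (1 : Subgroup.zpowers x) ≠ ⟨x, Subgroup.mem_zpowers x⟩ := fun h1 =>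
    h.ne_one (congrArg Subtype.val h1).symm
  have h1xi : (1 : Subgroup.zpowers x) ≠ ⟨x⁻¹, inv_mem (Subgroup.mem_zpowers x)⟩ := fun h1 =>
    h.inv.ne_one (congrArg Subtype.val h1).symm
  have hxxi : (⟨x, Subgroup.mem_zpowers x⟩ : Subgroup.zpowers x) ≠
      ⟨x⁻¹, inv_mem (Subgroup.mem_zpowers x)⟩ := fun h1 => h.ne_inv (congrArg Subtype.val h1)
  have hu : (Finset.univ : Finset (Subgroup.zpowers x)) =
      {1, ⟨x, Subgroup.mem_zpowers x⟩, ⟨x⁻¹, inv_mem (Subgroup.mem_zpowers x)⟩} := by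
    symm
    apply Finset.eq_univ_of_card
    rw [Finset.card_insert_of_notMem (by simp [h1x, h1xi]), Finset.card_pair hxxi,
      ← Nat.card_eq_fintype_card, Nat.card_zpowers, h.ord]
  rw [hu, Finset.sum_insert (by simp [h1x, h1xi]), Finset.sum_pair hxxi] at hm
  rw [add_assoc]
  exact_mod_cast hm

theorem base_formula [Fintype G] {x : G} {c1 c2 : IrrCharacter G} {f : ℕ} (hcd : CD x c1 c2 f)
    (hsum : ∀ F : IrrCharacter G → ℂ, ∑ χ : IrrCharacter G, conj ((χ : G → ℂ) x) * F χ =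
        F (oneC G) + F c1 - F c2) (y z : G) :
    (Nat.card G : ℂ) * (1 + (c1 : G → ℂ) y * conj ((c1 : G → ℂ) z) / f -
      (c2 : G → ℂ) y * conj ((c2 : G → ℂ) z) / (f + 1)) =
      (Nat.card (Subgroup.centralizer ({y} : Set G)) : ℂ) *
        Nat.card (Subgroup.centralizer ({z} : Set G)) * Nat.card (NP y z x) := by
  rw [← count_formula y z x]
  have h1 := hsum (fun χ => (χ : G → ℂ) y * conj ((χ : G → ℂ) z) / (χ : G → ℂ) 1)
  rw [oneC_apply, oneC_apply, oneC_apply, hcd.d1, hcd.d2] at h1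
  have h2 : ∑ χ : IrrCharacter G,
      conj ((χ : G → ℂ) x) * (χ : G → ℂ) y * conj ((χ : G → ℂ) z) / (χ : G → ℂ) 1 =
      ∑ χ : IrrCharacter G,
      conj ((χ : G → ℂ) x) * ((χ : G → ℂ) y * conj ((χ : G → ℂ) z) / (χ : G → ℂ) 1) := by
    apply Finset.sum_congr rfl
    intro χ _
    ring
  rw [h2, h1]
  simp

theorem not_conj_of_sq {x s : G} (h : SC x) (hs : s * s = 1) : ¬ IsConj s x := by
  intro h1
  obtain ⟨c, hc⟩ := isConj_iff.1 h1
  have h2 : x * x = 1 := by
    rw [← hc]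
    calc c * s * c⁻¹ * (c * s * c⁻¹) = c * (s * s) * c⁻¹ := by group
      _ = 1 := by rw [hs]; group
  have h3 := cube h.ord
  rw [h2, one_mul] at h3
  exact h.ne_one h3

open scoped Classical in
theorem num_facts [Fintype G] [IsSimpleGroup G] {x t : G} (h : SC x) (ht : t * x * t⁻¹ = x⁻¹) :
    (∃ (f k : ℕ) (a : ℤ), Num (Nat.card G) (Nat.card (Subgroup.centralizer ({t} : Set G))) f k a
      (Nat.card (NP x x x)) (Nat.card (NP t x x))) ∧
    ∀ s : G, orderOf s = 2 → IsConj t s := by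
  obtain ⟨c1, c2, f, hcd, hf, hsum⟩ := exists_CD h ht
  have htt := h.inv_sq ht
  have ht1 : t ≠ 1 := by
    rintro rfl
    apply h.ne_inv
    simpa using ht
  have hto : orderOf t = 2 := by
    haveI : Fact (Nat.Prime 2) := ⟨Nat.prime_two⟩
    exact orderOf_eq_prime (by rw [pow_two, htt]) ht1
  have h2g : 2 ∣ Nat.card G := by rw [← hto]; exact orderOf_dvd_natCard t
  have base := base_formula hcd hsum
  have hfc : (f : ℂ) ≠ 0 := by exact_mod_cast hf.ne'
  have hfc1 : (f : ℂ) + 1 ≠ 0 := by exact_mod_cast (Nat.succ_ne_zero f)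
  set g := Nat.card G with hg
  have hgpos : 0 < g := Nat.card_pos
  set hh := Nat.card (Subgroup.centralizer ({t} : Set G)) with hhdef
  have hhpos : 0 < hh := Nat.card_pos
  -- the values at involutions
  have hval : ∀ s : G, s * s = 1 → ∃ b : ℤ, (c1 : G → ℂ) s = b ∧ (c2 : G → ℂ) s = 1 + b := by
    intro s hs
    obtain ⟨b, hb⟩ := int_two c1.2.isCharacter hs h2g
    exact ⟨b, hb, by rw [hcd.rel s (not_conj_of_sq h hs), hb]⟩
  obtain ⟨a, ha1, ha2⟩ := hval t htt
  -- E1
  have E1 : (3 : ℤ) * hh ^ 2 * (f * (f + 1)) = g * (f - a) ^ 2 := by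
    have h1 := base t t
    rw [card_NP_tt h ht, ha1, ha2] at h1
    simp only [map_add, map_one, map_intCast] at h1
    have h2 : (3 : ℂ) * hh ^ 2 * (f * (f + 1)) = g * (f - a) ^ 2 := by
      field_simp at h1
      push_cast at h1
      linear_combination -h1
    exact_mod_cast h2
  have hfa : (f : ℤ) ≠ a := by
    intro h1
    rw [← h1, sub_self] at E1
    have : (3 : ℤ) * hh ^ 2 * (f * (f + 1)) ≠ 0 := by positivity
    apply this
    rw [E1]; ring
  -- all involutions are conjugate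
  have hinv : ∀ s : G, orderOf s = 2 → IsConj t s := by
    intro s hs
    by_contra hts
    have hss : s * s = 1 := by rw [← pow_two, ← hs, pow_orderOf_eq_one]
    obtain ⟨b, hb1, hb2⟩ := hval s hss
    have h1 := base t s
    rw [card_NP_ts h ht hss hts, ha1, ha2, hb1, hb2] at h1
    simp only [map_add, map_one, map_intCast] at h1
    have h2 : ((f : ℂ) - a) * (f - b) = 0 := by
      have hgc : (g : ℂ) ≠ 0 := by exact_mod_cast hgpos.ne'
      field_simp at h1
      push_cast at h1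
      have h3 : (g : ℂ) * (((f : ℂ) - a) * (f - b)) = 0 := by linear_combination h1
      exact (mul_eq_zero.1 h3).resolve_left hgc
    have h3 : ((f : ℤ) - a) * (f - b) = 0 := by exact_mod_cast h2
    rcases mul_eq_zero.1 h3 with h4 | h4
    · exact hfa (by linarith)
    · have h5 : (c1 : G → ℂ) s = (c1 : G → ℂ) 1 := by
        rw [hb1, hcd.d1]
        have : (b : ℤ) = f := by linarith
        exact_mod_cast this
      have h6 := eq_one_of_ker hcd.ne1 h5
      rw [h6, orderOf_one] at hs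
      omega
  refine ⟨?_, hinv⟩
  -- divisibility
  have hd1 : f ∣ g := CharApps.irr_degree_dvd_card c1.2 hcd.d1
  have hd2 : f + 1 ∣ g := CharApps.irr_degree_dvd_card c2.2 (by rw [hcd.d2]; push_cast; ring)
  have h3g : 3 ∣ g := h.three_dvd
  have hconjx : (c1 : G → ℂ) x⁻¹ = 1 := by
    rw [← ht, c1.2.isClassFunction, hcd.x1]
  have hf3 : f % 3 = 1 := by
    obtain ⟨m, hm⟩ := sum_three_elt c1.2.isCharacter h
    rw [hcd.d1, hcd.x1, hconjx] at hm
    have : f + 1 + 1 = 3 * m := by exact_mod_cast hm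
    omega
  obtain ⟨m2, hm2⟩ := sum_two_elt c1.2.isCharacter htt ht1
  rw [hcd.d1, ha1] at hm2
  have hm2' : (f : ℤ) + a = 2 * m2 := by exact_mod_cast hm2
  have hle : a ≤ f := by
    obtain ⟨χ, n, ρ, hρ, rfl⟩ := c1
    have h1 := CharValues.norm_character_le ρ t
    have h2 : ρ.character 1 = f := hcd.d1
    rw [Representation.char_one] at h2
    have h3 : (Module.finrank ℂ (Fin n → ℂ)) = f := by exact_mod_cast h2
    have h4 : ρ.character t = a := ha1
    rw [h3, h4] at h1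
    have h5 : |(a : ℝ)| ≤ f := by
      have : ‖(a : ℂ)‖ = |(a : ℝ)| := by
        rw [Complex.norm_intCast]
      rw [← this]; exact h1
    have h6 := (abs_le.1 h5).2
    exact_mod_cast h6
  have hlt : a < f := lt_of_le_of_ne hle (Ne.symm hfa)
  -- `f ≥ 4`
  have hf4 : 4 ≤ f := by
    by_contra hcon
    have hf1 : f = 1 := by omega
    have h1 : (c1 : G → ℂ) x = (c1 : G → ℂ) 1 := by
      rw [hcd.x1, hcd.d1, hf1]; norm_num
    exact h.ne_one (eq_one_of_ker hcd.ne1 h1)
  -- factor `g`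
  have hcop1 : Nat.Coprime f (f + 1) := by simp
  have hcop2 : Nat.Coprime 3 (f * (f + 1)) := by
    rw [Nat.Prime.coprime_iff_not_dvd Nat.prime_three]
    intro h1
    rcases (Nat.prime_three.dvd_mul).1 h1 with h2 | h2 <;> omega
  obtain ⟨m, hm⟩ := hcop2.mul_dvd_of_dvd_of_dvd h3g (hcop1.mul_dvd_of_dvd_of_dvd hd1 hd2)
  have hm' : (g : ℤ) = 3 * (f * (f + 1)) * m := by exact_mod_cast hm
  have E2 : (hh : ℤ) ^ 2 = m * (f - a) ^ 2 := by
    rw [hm'] at E1
    have h1 : (3 * (f * (f + 1)) : ℤ) ≠ 0 := by positivity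
    apply mul_left_cancel₀ h1
    linear_combination E1
  have hdvd : ((f : ℤ) - a) ∣ hh := by
    rw [← Int.pow_dvd_pow_iff (n := 2) (by norm_num)]
    exact ⟨m, by rw [E2]; ring⟩
  obtain ⟨k, hk⟩ := hdvd
  have hfa0 : (0 : ℤ) < f - a := by linarith
  have hkpos : 0 < k := by
    by_contra hcon
    push Not at hcon
    have : ((f : ℤ) - a) * k ≤ 0 := mul_nonpos_of_nonneg_of_nonpos hfa0.le hcon
    rw [← hk] at this
    have : (0 : ℤ) < hh := by exact_mod_cast hhpos
    linarith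
  obtain ⟨k, rfl⟩ := Int.eq_ofNat_of_zero_le hkpos.le
  have hmk : m = k ^ 2 := by
    rw [hk] at E2
    have h1 : ((f : ℤ) - a) ^ 2 ≠ 0 := by positivity
    have h2 : (m : ℤ) = (k : ℤ) ^ 2 := by
      apply mul_left_cancel₀ h1
      linear_combination -E2
    exact_mod_cast h2
  have hgeq : g = 3 * (f * (f + 1) * k ^ 2) := by rw [hm, hmk]; ring
  have hgeqc : (g : ℂ) = 3 * (f * (f + 1) * k ^ 2) := by exact_mod_cast hgeq
  have hkc : (k : ℂ) ≠ 0 := by
    have : (0 : ℕ) < k := by exact_mod_cast hkpos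
    exact_mod_cast this.ne'
  have hcx : Nat.card (Subgroup.centralizer ({x} : Set G)) = 3 := card_cent h
  refine ⟨f, k, a, hf3, hf4, by exact_mod_cast hkpos, hgeq, by rw [hk]; ring, hlt, ?_, by omega, ?_, ?_⟩
  · -- column orthogonality for `t`
    have h1 := column_orthogonality t t
    rw [if_pos (IsConj.refl t)] at h1
    have h2 : ∀ χ : IrrCharacter G, (χ : G → ℂ) t * conj ((χ : G → ℂ) t) =
        ((Complex.normSq ((χ : G → ℂ) t) : ℝ) : ℂ) := fun χ => by rw [Complex.mul_conj]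
    simp only [h2] at h1
    have h3 : ∑ χ : IrrCharacter G, Complex.normSq ((χ : G → ℂ) t) = (hh : ℝ) := by
      have := congrArg Complex.re h1
      simpa [hhdef, Nat.card_eq_fintype_card] using this
    have h4 : ∑ χ ∈ ({oneC G, c1, c2} : Finset (IrrCharacter G)), Complex.normSq ((χ : G → ℂ) t) ≤
        (hh : ℝ) := by
      rw [← h3]
      exact Finset.sum_le_sum_of_subset_of_nonneg (Finset.subset_univ _)
        (fun χ _ _ => Complex.normSq_nonneg _)
    rw [Finset.sum_insert (by simp [hcd.ne1.symm, hcd.ne2.symm]), Finset.sum_pair hcd.ne,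
      oneC_apply, ha1, ha2] at h4
    have h5 : Complex.normSq (1 : ℂ) = 1 := by simp
    have h6 : Complex.normSq ((a : ℤ) : ℂ) = (a : ℝ) ^ 2 := by
      rw [show ((a : ℤ) : ℂ) = ((a : ℝ) : ℂ) by norm_num, Complex.normSq_ofReal]; ring
    have h7 : Complex.normSq (1 + (a : ℂ)) = ((a : ℝ) + 1) ^ 2 := by
      rw [show (1 + (a : ℂ)) = (((a : ℝ) + 1 : ℝ) : ℂ) by push_cast; ring, Complex.normSq_ofReal]
      ring
    rw [h5, h6, h7] at h4
    have h8 : (1 : ℝ) + (a : ℝ) ^ 2 + ((a : ℝ) + 1) ^ 2 ≤ (hh : ℝ) := by linarith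
    exact_mod_cast h8
  · have h1 := base x x
    rw [hcx, hcd.x1, hcd.x2, hgeqc] at h1
    simp only [map_one, map_neg] at h1
    have h2 : (3 : ℂ) * (Nat.card (NP x x x)) = k ^ 2 * (f ^ 2 + f + 1) := by
      have e1 : (3 : ℂ) * (f * (f + 1) * k ^ 2) * (1 + 1 * 1 / f - -1 * -1 / (f + 1)) =
          3 * (k ^ 2 * (f ^ 2 + f + 1)) := by
        field_simp
        ring
      rw [e1] at h1
      push_cast at h1
      linear_combination -(1 / 3) * h1
    exact_mod_cast h2
  · have h1 := base t x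
    rw [hcx, hcd.x1, hcd.x2, ha1, ha2, hgeqc] at h1
    simp only [map_one, map_neg] at h1
    have hhc : (hh : ℂ) = (f - a) * k := by exact_mod_cast hk
    have h2 : ((Nat.card (NP t x x) : ℕ) : ℂ) * (f - a) = k * (f ^ 2 + 2 * f + 2 * a * f + a) := by
      have e1 : (3 : ℂ) * (f * (f + 1) * k ^ 2) * (1 + a * 1 / f - (1 + a) * -1 / (f + 1)) =
          (3 * k) * (k * (f ^ 2 + 2 * f + 2 * a * f + a)) := by
        field_simp
        ring
      rw [e1] at h1
      push_cast at h1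
      rw [hhc] at h1
      apply mul_left_cancel₀ (mul_ne_zero (by norm_num : (3 : ℂ) ≠ 0) hkc)
      linear_combination -h1
    exact_mod_cast h2

end Cfsg.Agent.Lib.C3X
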