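import Mathlib

/-!
# Some elementary inequalities (helper20)
-/

set_option autoImplicit false
set_option linter.style.haveILetI false
set_option linter.unusedSectionVars false

namespace Cfsg.Agent.Lib.C3X

theorem merge_list (M : ℕ) : ∀ (n : ℕ) (l : List ℕ), l.length = n → (∀ m ∈ l, 1 ≤ m ∧ m ≤ M) →
    2 * l.prod ≤ M ^ 2 → 2 * l.sum ≤ 3 * M + 2 * l.length := by
  intro n
  induction n using Nat.strong_induction_on with
  | _ n ih =>
    intro l hl hm hp
    match l, hl, hm, hp with
    | [], _, _, _ => simp
    | [a], _, hm, _ =>
      have := (hm a (by simp)).2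
      simp only [List.sum_cons, List.sum_nil, List.length_cons, List.length_nil]
      omega
    | [a, b], _, hm, hp =>
      have ha := hm a (by simp)
      have hb := hm b (by simp)
      simp only [List.prod_cons, List.prod_nil, mul_one] at hp
      simp only [List.sum_cons, List.sum_nil, List.length_cons, List.length_nil, add_zero, zero_add]
      have hM : 0 < M := by omega
      obtain ⟨u, hu⟩ := Nat.exists_eq_add_of_le ha.2
      obtain ⟨v, hv⟩ := Nat.exists_eq_add_of_le hb.2
      have h1 : 2 * (M * (a + b)) ≤ 3 * (M * M) := by
        have h2 : M * (a + b) ≤ M * M + a * b := by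
          have e1 : M * M + a * b = M * (a + b) + u * v := by
            have : M = a + u := hu
            have hv' : M = b + v := hv
            nlinarith
          omega
        rw [pow_two] at hp
        omega
      have h3 : M * (2 * (a + b)) ≤ M * (3 * M) := by
        calc M * (2 * (a + b)) = 2 * (M * (a + b)) := by ring
          _ ≤ 3 * (M * M) := h1
          _ = _ := by ring
      have := Nat.le_of_mul_le_mul_left h3 hM
      omega
    | [a, b, c], hl, hm, hp =>
      have ha := hm a (by simp)
      have hb := hm b (by simp)
      have hc := hm c (by simp)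
      simp only [List.prod_cons, List.prod_nil, mul_one] at hp
      simp only [List.sum_cons, List.sum_nil, List.length_cons, List.length_nil, add_zero, zero_add]
      have mrg : ∀ p q r : ℕ, 1 ≤ p → 1 ≤ q → 1 ≤ r → r ≤ M → p * q ≤ M → 2 * (p * q * r) ≤ M ^ 2 →
          2 * (p + q + r) ≤ 3 * M + 6 := by
        intro p q r hp1 hq1 hr1 hrM hpq hpr
        have h1 := ih 2 (by rw [← hl]; simp) [p * q, r] rfl (by
          intro m hm'
          simp only [List.mem_cons, List.not_mem_nil, or_false] at hm'
          rcases hm' with rfl | rfl
          · exact ⟨Nat.mul_pos hp1 hq1, hpq⟩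
          · exact ⟨hr1, hrM⟩) (by simpa using hpr)
        simp only [List.sum_cons, List.sum_nil, List.length_cons, List.length_nil, add_zero,
          zero_add] at h1
        have h2 : p + q ≤ p * q + 1 := by
          obtain ⟨p', rfl⟩ := Nat.exists_eq_add_of_le hp1
          obtain ⟨q', rfl⟩ := Nat.exists_eq_add_of_le hq1
          nlinarith [Nat.zero_le (p' * q')]
        omega
      by_cases h1 : a * b ≤ M
      · have := mrg a b c ha.1 hb.1 hc.1 hc.2 h1 (by rw [mul_assoc]; exact hp)
        omega
      by_cases h2 : b * c ≤ M
      · have := mrg b c a hb.1 hc.1 ha.1 ha.2 h2 (by rw [mul_comm (b * c) a]; exact hp)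
        omega
      by_cases h3 : a * c ≤ M
      · have := mrg a c b ha.1 hc.1 hb.1 hb.2 h3 (by
          have : a * c * b = a * (b * c) := by ring
          rw [this]; exact hp)
        omega
      push Not at h1 h2 h3
      have hM : 0 < M := by omega
      have key : ∀ p q : ℕ, M < q → 2 * (p * q) ≤ M ^ 2 → 2 * p ≤ M := by
        intro p q hq hpq
        by_contra hcon
        push Not at hcon
        have : M * M < 2 * p * q := by
          calc M * M ≤ M * q := Nat.mul_le_mul_left M hq.le
            _ < 2 * p * q := Nat.mul_lt_mul_of_pos_right hcon (by omega)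
        rw [pow_two] at hpq
        have e : 2 * (p * q) = 2 * p * q := by ring
        omega
      have k1 := key c (a * b) h1 (by
        have : c * (a * b) = a * (b * c) := by ring
        rw [this]; exact hp)
      have k2 := key a (b * c) h2 hp
      have k3 := key b (a * c) h3 (by
        have : b * (a * c) = a * (b * c) := by ring
        rw [this]; exact hp)
      omega
    | a :: b :: c :: d :: r, hl, hm, hp =>
      have ha := hm a (by simp)
      have hb := hm b (by simp)
      have hc := hm c (by simp)
      have hd := hm d (by simp)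
      have hr : ∀ m ∈ r, 1 ≤ m ∧ m ≤ M := fun m hmr => hm m (by simp [hmr])
      simp only [List.prod_cons] at hp
      simp only [List.sum_cons, List.length_cons] at hl ⊢
      have h2' : ∀ p q : ℕ, 1 ≤ p → 1 ≤ q → p + q ≤ p * q + 1 := by
        intro p q hp1 hq1
        obtain ⟨p', rfl⟩ := Nat.exists_eq_add_of_le hp1
        obtain ⟨q', rfl⟩ := Nat.exists_eq_add_of_le hq1
        nlinarith [Nat.zero_le (p' * q')]
      by_cases h1 : a * b ≤ M
      · have h3 := ih (n - 1) (by omega) ((a * b) :: c :: d :: r) (by simp; omega) (by
          intro m hm'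
          simp only [List.mem_cons] at hm'
          rcases hm' with rfl | rfl | rfl | hm'
          · exact ⟨Nat.mul_pos ha.1 hb.1, h1⟩
          · exact hc
          · exact hd
          · exact hr m hm') (by
            simp only [List.prod_cons]
            rw [mul_assoc]; exact hp)
        simp only [List.sum_cons, List.length_cons] at h3
        have := h2' a b ha.1 hb.1
        omega
      by_cases h2 : c * d ≤ M
      · have h3 := ih (n - 1) (by omega) (a :: b :: (c * d) :: r) (by simp; omega) (by
          intro m hm'
          simp only [List.mem_cons] at hm'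
          rcases hm' with rfl | rfl | rfl | hm'
          · exact ha
          · exact hb
          · exact ⟨Nat.mul_pos hc.1 hd.1, h2⟩
          · exact hr m hm') (by
            simp only [List.prod_cons]
            rw [mul_assoc c d]; exact hp)
        simp only [List.sum_cons, List.length_cons] at h3
        have := h2' c d hc.1 hd.1
        omega
      · exfalso
        push Not at h1 h2
        have hrp : 1 ≤ r.prod := by
          apply List.one_le_prod_of_one_le
          intro m hmr
          exact (hr m hmr).1
        have h3 : M * M < a * b * (c * d) := by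
          calc M * M ≤ M * (c * d) := Nat.mul_le_mul_left M h2.le
            _ < a * b * (c * d) := Nat.mul_lt_mul_of_pos_right h1 (by omega)
        have h4 : a * b * (c * d) ≤ a * (b * (c * (d * r.prod))) := by
          calc a * b * (c * d) = a * b * (c * d) * 1 := by ring
            _ ≤ a * b * (c * d) * r.prod := Nat.mul_le_mul_left _ hrp
            _ = _ := by ring
        rw [pow_two] at hp
        omega

theorem merge_finset (M : ℕ) (T : Finset ℕ) (hm : ∀ m ∈ T, 1 ≤ m ∧ m ≤ M)
    (hp : 2 * ∏ m ∈ T, m ≤ M ^ 2) : 2 * ∑ m ∈ T, (m - 1) ≤ 3 * M := by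
  have h1 := merge_list M _ T.toList rfl (by simpa using hm) (by
    have : T.toList.prod = ∏ m ∈ T, m := by
      have := Finset.prod_map_toList T (fun m => m)
      simpa using this
    rw [this]; exact hp)
  have h2 : T.toList.sum = ∑ m ∈ T, m := by
    have := Finset.sum_map_toList T (fun m => m)
    simpa using this
  rw [h2, Finset.length_toList] at h1
  have h3 : ∑ m ∈ T, m = ∑ m ∈ T, (m - 1) + T.card := by
    rw [Finset.card_eq_sum_ones, ← Finset.sum_add_distrib]
    apply Finset.sum_congr rfl
    intro m hmT
    have := (hm m hmT).1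
    omega
  omega

theorem prod_dvd_of_coprime' {ι : Type*} (s : Finset ι) (f : ι → ℕ) (N : ℕ)
    (hN : ∀ i ∈ s, f i ∣ N) (hc : ∀ i ∈ s, ∀ j ∈ s, i ≠ j → Nat.Coprime (f i) (f j)) :
    ∏ i ∈ s, f i ∣ N := by
  classical
  induction s using Finset.induction_on with
  | empty => simp
  | insert a s ha ih =>
    rw [Finset.prod_insert ha]
    apply Nat.Coprime.mul_dvd_of_dvd_of_dvd
    · apply Nat.Coprime.prod_right
      intro i hi
      exact hc a (by simp) i (by simp [hi]) (by rintro rfl; exact ha hi)
    · exact hN a (by simp)
    · exact ih (fun i hi => hN i (by simp [hi])) (fun i hi j hj => hc i (by simp [hi]) j (by simp [hj]))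

theorem sum_sq_le {ι : Type*} (s : Finset ι) (f : ι → ℕ) (hf : ∀ i ∈ s, 1 ≤ f i) :
    ∑ i ∈ s, (f i ^ 2 - 1) + 1 ≤ (∏ i ∈ s, f i) ^ 2 := by
  classical
  induction s using Finset.induction_on with
  | empty => simp
  | insert a s ha ih =>
    rw [Finset.sum_insert ha, Finset.prod_insert ha, mul_pow]
    have h1 := ih (fun i hi => hf i (by simp [hi]))
    have h2 := hf a (by simp)
    have h3 : 1 ≤ f a ^ 2 := Nat.one_le_pow _ _ h2
    obtain ⟨u, hu⟩ := Nat.exists_eq_add_of_le h3
    have h4 : 1 ≤ (∏ i ∈ s, f i) ^ 2 := by omega
    obtain ⟨v, hv⟩ := Nat.exists_eq_add_of_le h4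
    have e1 : f a ^ 2 - 1 = u := by omega
    rw [hv] at h1
    rw [e1, hu, hv]
    have : (1 + u) * (1 + v) = 1 + u + v + u * v := by ring
    rw [this]
    omega

end Cfsg.Agent.Lib.C3X
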