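import Cfsg.Agent.Lib.StructConst

/-!
# Structure constants, counting form (helper20)
-/

set_option autoImplicit false
set_option linter.style.haveILetI false
set_option linter.unusedSectionVars false

namespace Cfsg.Agent.Lib.C3X

open scoped ComplexConjugate
open Cfsg Cfsg.Agent.Lib.CharBasic Cfsg.Agent.Lib

universe u

variable {G : Type u} [Group G] [Fintype G]

open scoped Classical in
theorem conjCount_eq' (y u : G) : StructConst.conjCount y u =
    if IsConj y u then (Nat.card (Subgroup.centralizer ({y} : Set G)) : ℂ) else 0 := by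
  unfold StructConst.conjCount
  split_ifs with hu
  · obtain ⟨c, hc⟩ := _root_.isConj_iff.1 hu
    have h1 : (Finset.univ.filter (fun b : G => b * y * b⁻¹ = u)).card =
        Nat.card (Subgroup.centralizer ({y} : Set G)) := by
      rw [Nat.card_eq_fintype_card, Fintype.card_subtype]
      apply Finset.card_bij' (fun b _ => c⁻¹ * b) (fun b _ => c * b)
      · intro b hb
        simp only [Finset.mem_filter, Finset.mem_univ, true_and] at hb ⊢
        rw [Subgroup.mem_centralizer_singleton_iff]
        have h2 : b * y = u * b := by rw [← hb]; group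
        have h3 : u = c * y * c⁻¹ := hc.symm
        calc c⁻¹ * b * y = c⁻¹ * (b * y) := by group
          _ = c⁻¹ * (c * y * c⁻¹ * b) := by rw [h2, h3]
          _ = y * (c⁻¹ * b) := by group
      · intro b hb
        simp only [Finset.mem_filter, Finset.mem_univ, true_and] at hb ⊢
        rw [Subgroup.mem_centralizer_singleton_iff] at hb
        calc c * b * y * (c * b)⁻¹ = c * (b * y) * b⁻¹ * c⁻¹ := by group
          _ = c * (y * b) * b⁻¹ * c⁻¹ := by rw [hb]
          _ = c * y * c⁻¹ := by group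
          _ = u := hc
      · intro b _; group
      · intro b _; group
    rw [h1]
  · have : Finset.univ.filter (fun b : G => b * y * b⁻¹ = u) = ∅ := by
      apply Finset.filter_eq_empty_iff.2
      intro b _ hb
      exact hu (_root_.isConj_iff.2 ⟨b, hb⟩)
    rw [this]
    simp

/-- Solutions of `u v⁻¹ = g` with `u ~ y` and `v ~ z`. -/
def NP (y z g : G) : Type u := {p : G × G // IsConj y p.1 ∧ IsConj z p.2 ∧ p.1 * p.2⁻¹ = g}

open scoped Classical in
theorem card_NP (y z g : G) : (Nat.card (NP y z g) : ℂ) = ∑ u : G, ∑ v : G,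
    if IsConj y u ∧ IsConj z v ∧ u * v⁻¹ = g then 1 else 0 := by
  rw [← Fintype.sum_prod_type' (f := fun u v : G =>
    if IsConj y u ∧ IsConj z v ∧ u * v⁻¹ = g then (1 : ℂ) else 0), Finset.sum_boole]
  congr 1
  rw [NP, Nat.card_eq_fintype_card, Fintype.card_subtype]

open scoped Classical in
theorem count_formula (y z g : G) :
    (Nat.card G : ℂ) * ∑ χ : IrrCharacter G,
      conj ((χ : G → ℂ) g) * (χ : G → ℂ) y * conj ((χ : G → ℂ) z) / (χ : G → ℂ) 1 =
      (Nat.card (Subgroup.centralizer ({y} : Set G)) : ℂ) *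
        Nat.card (Subgroup.centralizer ({z} : Set G)) * Nat.card (NP y z g) := by
  have h1 := StructConst.sum_sum_conj (fun x : G => if x = g then (1 : ℂ) else 0) y z
  have h2 : ∀ χ : IrrCharacter G, classInner (fun x : G => if x = g then (1 : ℂ) else 0) (χ : G → ℂ)
      = (Nat.card G : ℂ)⁻¹ * conj ((χ : G → ℂ) g) := by
    intro χ
    unfold classInner
    congr 1
    rw [Finset.sum_eq_single g]
    · simp only [if_true, one_mul]
    · intro b _ hb
      simp only [if_neg hb, zero_mul]
    · intro hh; exact absurd (Finset.mem_univ _) hh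
  simp only [h2] at h1
  have hG : (Nat.card G : ℂ) ≠ 0 := by exact_mod_cast Nat.card_pos.ne'
  have h3 : (Nat.card G : ℂ) ^ 2 * ∑ χ : IrrCharacter G,
      (Nat.card G : ℂ)⁻¹ * conj ((χ : G → ℂ) g) * (χ : G → ℂ) y * conj ((χ : G → ℂ) z) / (χ : G → ℂ) 1
      = (Nat.card G : ℂ) * ∑ χ : IrrCharacter G,
        conj ((χ : G → ℂ) g) * (χ : G → ℂ) y * conj ((χ : G → ℂ) z) / (χ : G → ℂ) 1 := by
    rw [Finset.mul_sum, Finset.mul_sum]
    apply Finset.sum_congr rfl
    intro χ _
    field_simp
  rw [← h3, ← h1]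
  have h4 : ∀ a : G, ∑ b : G, (if a * y * a⁻¹ * (b * z * b⁻¹)⁻¹ = g then (1 : ℂ) else 0) =
      ∑ v : G, StructConst.conjCount z v * (if (a * y * a⁻¹) * v⁻¹ = g then 1 else 0) := fun a =>
    StructConst.sum_conj_eq z (fun v => if (a * y * a⁻¹) * v⁻¹ = g then (1 : ℂ) else 0)
  rw [Finset.sum_congr rfl (fun a _ => h4 a),
    StructConst.sum_conj_eq y (fun u => ∑ v : G, StructConst.conjCount z v *
      (if u * v⁻¹ = g then (1 : ℂ) else 0)), card_NP, Finset.mul_sum]
  apply Finset.sum_congr rfl
  intro u _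
  rw [Finset.mul_sum, Finset.mul_sum]
  apply Finset.sum_congr rfl
  intro v _
  rw [conjCount_eq', conjCount_eq']
  by_cases hu : IsConj y u
  · by_cases hv : IsConj z v
    · rw [if_pos hu, if_pos hv]
      by_cases huv : u * v⁻¹ = g
      · rw [if_pos huv, if_pos ⟨hu, hv, huv⟩]; ring
      · rw [if_neg huv, if_neg (by tauto)]; ring
    · rw [if_neg hv, if_neg (fun h5 : IsConj y u ∧ IsConj z v ∧ u * v⁻¹ = g => hv h5.2.1)]; ring
  · rw [if_neg hu, if_neg (fun h5 : IsConj y u ∧ IsConj z v ∧ u * v⁻¹ = g => hu h5.1)]; ring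

end Cfsg.Agent.Lib.C3X
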