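import Cfsg.Agent.Lib.C3XTypes4

/-!
# Groups with a self-centralizing subgroup of order three: the normal `3'`-subgroup (helper20)
-/

set_option autoImplicit false
set_option linter.style.haveILetI false
set_option linter.unusedSectionVars false

namespace Cfsg.Agent.Lib.C3X

universe u

/-- Hypotheses for commutativity of `F`. -/
structure Hy {G : Type u} [Group G] (x z w : G) (F : Subgroup G) : Prop where
  sc : SC x
  nor : F.Normal
  co : ¬ 3 ∣ Nat.card F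
  o1 : orderOf z = 3
  o2 : orderOf w = 3
  o3 : orderOf (z * w) = 3
  cm : z * w * z⁻¹ * w⁻¹ ∉ F
  sim : ∀ M : Subgroup G, M.Normal → F ≤ M → M = F ∨ M = ⊤

section
variable {G : Type u} [Group G] [Finite G]

theorem Hy.step {x z w : G} {F : Subgroup G} (h : Hy x z w F)
    (hc : ∀ a ∈ F, ∀ b ∈ F, ∀ c ∈ F, (a * b * a⁻¹ * b⁻¹) * c = c * (a * b * a⁻¹ * b⁻¹)) :
    ∀ a ∈ F, ∀ b ∈ F, a * b = b * a := by
  haveI := h.nor
  have hIK : ∀ y : G, IK y F := fun y => IK.of_normal h.co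
  have hcj : ∀ y : G, ∀ a ∈ F, y * a * y⁻¹ ∈ F :=
    fun y a ha => Subgroup.Normal.conj_mem inferInstance a ha y
  -- bilinearity
  have bl : ∀ a ∈ F, ∀ b ∈ F, ∀ c ∈ F, (a * b) * c * (a * b)⁻¹ * c⁻¹ =
      (a * c * a⁻¹ * c⁻¹) * (b * c * b⁻¹ * c⁻¹) := by
    intro a ha b hb c hcF
    have h1 := hc b hb c hcF a ha
    calc (a * b) * c * (a * b)⁻¹ * c⁻¹ = a * (b * c * b⁻¹ * c⁻¹) * (c * a⁻¹ * c⁻¹) := by group
      _ = (b * c * b⁻¹ * c⁻¹) * a * (c * a⁻¹ * c⁻¹) := by rw [h1]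
      _ = (b * c * b⁻¹ * c⁻¹) * (a * c * a⁻¹ * c⁻¹) := by group
      _ = _ := hc b hb c hcF _ (mul_mem (mul_mem (mul_mem ha hcF) (inv_mem ha)) (inv_mem hcF))
  have br : ∀ a ∈ F, ∀ b ∈ F, ∀ c ∈ F, a * (b * c) * a⁻¹ * (b * c)⁻¹ =
      (a * b * a⁻¹ * b⁻¹) * (a * c * a⁻¹ * c⁻¹) := by
    intro a ha b hb c hcF
    have h1 := hc a ha c hcF b hb
    calc a * (b * c) * a⁻¹ * (b * c)⁻¹ = (a * b * a⁻¹) * ((a * c * a⁻¹ * c⁻¹) * b⁻¹) := by group
      _ = (a * b * a⁻¹) * (b⁻¹ * (b * (a * c * a⁻¹ * c⁻¹)) * b⁻¹) := by group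
      _ = (a * b * a⁻¹) * (b⁻¹ * ((a * c * a⁻¹ * c⁻¹) * b) * b⁻¹) := by rw [h1]
      _ = _ := by group
  -- for elements of order three
  have key : ∀ y : G, orderOf y = 3 → ∀ a ∈ F, ∀ b ∈ F,
      a * (y * b * y⁻¹) * a⁻¹ * (y * b * y⁻¹)⁻¹ =
        (y * a * y⁻¹) * b * (y * a * y⁻¹)⁻¹ * b⁻¹ := by
    intro y hy a ha b hb
    have hsy := h.sc.of_order hy
    have h1 := (hsy.tri (hIK y) (mul_mem ha hb)).2.1
    have ha1 := (hsy.tri (hIK y) ha).2.1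
    have hb1 := (hsy.tri (hIK y) hb).2.1
    have hya := hcj y a ha
    have hyb := hcj y b hb
    have e0 : y * (a * b) * y⁻¹ = (y * a * y⁻¹) * (y * b * y⁻¹) := by group
    rw [e0] at h1
    set p := y * a * y⁻¹ with hp
    set q := y * b * y⁻¹ with hq
    clear_value p q
    have e1 : (a * b) * (p * q) * (a * b)⁻¹ * (p * q)⁻¹ = 1 := by
      rw [h1]; group
    have e2 : a * p * a⁻¹ * p⁻¹ = 1 := by rw [ha1]; group
    have e3 : b * q * b⁻¹ * q⁻¹ = 1 := by rw [hb1]; group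
    rw [bl a ha b hb _ (mul_mem hya hyb), br a ha p hya q hyb, br b hb p hya q hyb, e2, e3,
      one_mul, mul_one] at e1
    have e4 : a * q * a⁻¹ * q⁻¹ = (b * p * b⁻¹ * p⁻¹)⁻¹ := eq_inv_of_mul_eq_one_left e1
    rw [e4]; group
  -- `[a, b ^ y] = [a, b] ^ (y⁻¹)`
  have key2 : ∀ y : G, orderOf y = 3 → ∀ a ∈ F, ∀ b ∈ F,
      a * (y * b * y⁻¹) * a⁻¹ * (y * b * y⁻¹)⁻¹ = y⁻¹ * (a * b * a⁻¹ * b⁻¹) * y := by
    intro y hy a ha b hb
    have hy' : orderOf y⁻¹ = 3 := by rw [orderOf_inv, hy]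
    have k1 := key y⁻¹ hy' a ha (y⁻¹ * b * y⁻¹⁻¹) (hcj _ b hb)
    have e1 : y⁻¹ * (y⁻¹ * b * y⁻¹⁻¹) * y⁻¹⁻¹ = y * b * y⁻¹ := by
      have := xx_conj hy' b
      rw [this]; group
    rw [e1] at k1
    rw [k1]; group
  have key3 : ∀ a ∈ F, ∀ b ∈ F, (z * w * z⁻¹ * w⁻¹) * (a * b * a⁻¹ * b⁻¹) =
      (a * b * a⁻¹ * b⁻¹) * (z * w * z⁻¹ * w⁻¹) := by
    intro a ha b hb
    have k1 := key2 (z * w) h.o3 a ha b hb
    have k2 := key2 z h.o1 a ha (w * b * w⁻¹) (hcj w b hb)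
    have k3 := key2 w h.o2 a ha b hb
    have e1 : z * (w * b * w⁻¹) * z⁻¹ = z * w * b * (z * w)⁻¹ := by group
    rw [e1, k1, k3] at k2
    set c := a * b * a⁻¹ * b⁻¹ with hcdef
    clear_value c
    calc (z * w * z⁻¹ * w⁻¹) * c = (z * w) * (z⁻¹ * (w⁻¹ * c * w) * z) * z⁻¹ * w⁻¹ := by group
      _ = (z * w) * ((z * w)⁻¹ * c * (z * w)) * z⁻¹ * w⁻¹ := by rw [← k2]
      _ = c * (z * w * z⁻¹ * w⁻¹) := by group
  -- the centralizer
  let S : Set G := {g | ∃ a ∈ F, ∃ b ∈ F, g = a * b * a⁻¹ * b⁻¹}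
  have hMn : (Subgroup.centralizer S).Normal := by
    refine ⟨fun n hn g => ?_⟩
    rw [Subgroup.mem_centralizer_iff] at hn ⊢
    rintro _ ⟨a, ha, b, hb, rfl⟩
    have h1 := hn ((g⁻¹ * a * g⁻¹⁻¹) * (g⁻¹ * b * g⁻¹⁻¹) * (g⁻¹ * a * g⁻¹⁻¹)⁻¹ *
      (g⁻¹ * b * g⁻¹⁻¹)⁻¹) ⟨_, hcj _ a ha, _, hcj _ b hb, rfl⟩
    have e1 : (g⁻¹ * a * g⁻¹⁻¹) * (g⁻¹ * b * g⁻¹⁻¹) * (g⁻¹ * a * g⁻¹⁻¹)⁻¹ *
      (g⁻¹ * b * g⁻¹⁻¹)⁻¹ = g⁻¹ * (a * b * a⁻¹ * b⁻¹) * g := by group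
    rw [e1] at h1
    calc a * b * a⁻¹ * b⁻¹ * (g * n * g⁻¹) = g * (g⁻¹ * (a * b * a⁻¹ * b⁻¹) * g * n) * g⁻¹ := by group
      _ = g * (n * (g⁻¹ * (a * b * a⁻¹ * b⁻¹) * g)) * g⁻¹ := by rw [h1]
      _ = _ := by group
  have hFM : F ≤ Subgroup.centralizer S := by
    intro c hcF
    rw [Subgroup.mem_centralizer_iff]
    rintro _ ⟨a, ha, b, hb, rfl⟩
    exact hc a ha b hb c hcF
  have hcM : z * w * z⁻¹ * w⁻¹ ∈ Subgroup.centralizer S := by
    rw [Subgroup.mem_centralizer_iff]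
    rintro _ ⟨a, ha, b, hb, rfl⟩
    exact (key3 a ha b hb).symm
  have hM : Subgroup.centralizer S = ⊤ := by
    rcases h.sim _ hMn hFM with h1 | h1
    · rw [h1] at hcM
      exact absurd hcM h.cm
    · exact h1
  intro a ha b hb
  have hx : x ∈ Subgroup.centralizer S := by rw [hM]; trivial
  rw [Subgroup.mem_centralizer_iff] at hx
  have h1 := hx _ ⟨a, ha, b, hb, rfl⟩
  have h2 := h.sc.fpf h.co (mul_mem (mul_mem (mul_mem ha hb) (inv_mem ha)) (inv_mem hb)) h1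
  calc a * b = (a * b * a⁻¹ * b⁻¹) * (b * a) := by group
    _ = b * a := by rw [h2, one_mul]

end

theorem Hy.comm_aux (n : ℕ) : ∀ (G : Type u) [Group G] [Finite G] (x z w : G) (F : Subgroup G),
    Nat.card F = n → Hy x z w F → ∀ a ∈ F, ∀ b ∈ F, a * b = b * a := by
  induction n using Nat.strong_induction_on with
  | _ n ih =>
    intro G _ _ x z w F hn h
    haveI := h.nor
    by_cases hF : F = ⊥
    · intro a ha b hb
      rw [hF, Subgroup.mem_bot] at ha hb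
      rw [ha, hb]
    -- the centre of `F`
    set Z : Subgroup G := F ⊓ Subgroup.centralizer (F : Set G) with hZ
    haveI hZn : Z.Normal := by
      rw [hZ]
      infer_instance
    have hZF : Z ≤ F := inf_le_left
    have hZbot : Z ≠ ⊥ := by
      intro hb
      have hnil : Group.IsNilpotent F := h.sc.isNilpotent (IK.of_normal h.co)
      haveI : Nontrivial F := (Subgroup.nontrivial_iff_ne_bot F).2 hF
      apply Group.IsNilpotent.center_ne_bot (G := F)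
      rw [eq_bot_iff]
      intro c hc
      have h1 : (c : G) ∈ Z := by
        rw [hZ]
        refine Subgroup.mem_inf.2 ⟨c.2, ?_⟩
        rw [Subgroup.mem_centralizer_iff]
        intro d hd
        exact congrArg Subtype.val (Subgroup.mem_center_iff.1 hc ⟨d, hd⟩)
      rw [hb, Subgroup.mem_bot] at h1
      rw [Subgroup.mem_bot]
      ext; exact h1
    have hcoZ : ¬ 3 ∣ Nat.card Z := fun h3 => h.co (h3.trans (Subgroup.card_dvd_of_le hZF))
    have h' : Hy (x : G ⧸ Z) (z : G ⧸ Z) (w : G ⧸ Z) (F.map (QuotientGroup.mk' Z)) := by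
      have hmem : ∀ g : G, (g : G ⧸ Z) ∈ F.map (QuotientGroup.mk' Z) → g ∈ F := by
        rintro g ⟨f, hf, hfg⟩
        have h1 : f⁻¹ * g ∈ Z := QuotientGroup.eq.1 hfg
        have := mul_mem hf (hZF h1)
        rwa [mul_inv_cancel_left] at this
      refine ⟨SC.quot h.sc Z hcoZ, Subgroup.Normal.map inferInstance _ (QuotientGroup.mk'_surjective Z),
        ?_, (SC.quot (h.sc.of_order h.o1) Z hcoZ).ord, (SC.quot (h.sc.of_order h.o2) Z hcoZ).ord,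
        (SC.quot (h.sc.of_order h.o3) Z hcoZ).ord, ?_, ?_⟩
      · intro h3
        exact h.co (h3.trans (Subgroup.card_map_dvd _ _))
      · intro h1
        exact h.cm (hmem _ h1)
      · intro M hM hFM
        have h1 := h.sim (M.comap (QuotientGroup.mk' Z)) inferInstance
          (fun f hf => hFM ⟨f, hf, rfl⟩)
        rcases h1 with h1 | h1
        · left
          rw [← h1, Subgroup.map_comap_eq_self_of_surjective (QuotientGroup.mk'_surjective Z)]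
        · right
          rw [← Subgroup.map_comap_eq_self_of_surjective (QuotientGroup.mk'_surjective Z) M, h1,
            Subgroup.map_top_of_surjective _ (QuotientGroup.mk'_surjective Z)]
    have hlt : Nat.card (F.map (QuotientGroup.mk' Z)) < n := by
      have h1 := Subgroup.relIndex_mul_relIndex ⊥ Z F bot_le hZF
      rw [Subgroup.relIndex_bot_left, Subgroup.relIndex_bot_left, hn] at h1
      have h2 := Subgroup.relIndex_ker (QuotientGroup.mk' Z) (K := F)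
      rw [QuotientGroup.ker_mk'] at h2
      rw [← h2]
      have h3 : 1 < Nat.card Z := by
        rw [Nat.lt_iff_add_one_le]
        by_contra hcon
        apply hZbot
        rw [← Subgroup.card_eq_one]
        have : 0 < Nat.card Z := Nat.card_pos
        omega
      have h4 : 0 < Nat.card F := Nat.card_pos
      have h5 : 0 < Z.relIndex F := by
        rcases Nat.eq_zero_or_pos (Z.relIndex F) with h6 | h6
        · rw [h6, mul_zero] at h1; omega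
        · exact h6
      nlinarith
    have h2 := ih _ hlt (G ⧸ Z) _ _ _ _ rfl h'
    apply h.step
    intro a ha b hb c hc
    have h3 := h2 _ ⟨a, ha, rfl⟩ _ ⟨b, hb, rfl⟩
    have h4 : a * b * a⁻¹ * b⁻¹ ∈ Z := by
      rw [← QuotientGroup.eq_one_iff]
      have h5 : (a : G ⧸ Z) * b = b * a := h3
      rw [QuotientGroup.mk_mul, QuotientGroup.mk_mul, QuotientGroup.mk_mul, h5]
      simp
    exact ((Subgroup.mem_centralizer_iff.1 h4.2) c hc).symm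

section
variable {G : Type u} [Group G] [Finite G]

theorem Hy.comm {x z w : G} {F : Subgroup G} (h : Hy x z w F) :
    ∀ a ∈ F, ∀ b ∈ F, a * b = b * a := Hy.comm_aux _ G x z w F rfl h

/-- `u + u⁻¹ = 2` on an abelian `F`. -/
theorem sum_two {x g k : G} (h : SC x) {F : Subgroup G} [F.Normal] (hF : ¬ 3 ∣ Nat.card F)
    (hc : ∀ a ∈ F, ∀ b ∈ F, a * b = b * a) (hg : orderOf g = 3) (hk : orderOf k = 3)
    (hgk : orderOf (g * k⁻¹) = 3) {a : G} (ha : a ∈ F) :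
    ((g * k) * a * (g * k)⁻¹) * ((g * k)⁻¹ * a * (g * k)) = a * a := by
  have hcj : ∀ y : G, ∀ a ∈ F, y * a * y⁻¹ ∈ F :=
    fun y a ha => Subgroup.Normal.conj_mem inferInstance a ha y
  have hcj' : ∀ y : G, ∀ a ∈ F, y⁻¹ * a * y ∈ F := fun y a ha => by
    have := hcj y⁻¹ a ha
    rwa [inv_inv] at this
  have key : ∀ y : G, orderOf y = 3 → ∀ a ∈ F, (y * a * y⁻¹) * (y⁻¹ * a * y) = a⁻¹ := by
    intro y hy a ha
    have h1 := ((h.of_order hy).tri (IK.of_normal hF) ha).1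
    rw [mul_assoc] at h1
    exact eq_inv_of_mul_eq_one_right h1
  -- `c(gk, a) = c(g, a)⁻¹ c(g k⁻¹, a)⁻¹`
  have e1 : (g * k) * a * (g * k)⁻¹ = (g * a * g⁻¹)⁻¹ * ((g * k⁻¹) * a * (g * k⁻¹)⁻¹)⁻¹ := by
    have h1 := key k hk a ha
    have h2 : k * a * k⁻¹ = a⁻¹ * (k⁻¹ * a * k)⁻¹ := by rw [← h1]; group
    calc (g * k) * a * (g * k)⁻¹ = g * (k * a * k⁻¹) * g⁻¹ := by group
      _ = g * (a⁻¹ * (k⁻¹ * a * k)⁻¹) * g⁻¹ := by rw [h2]
      _ = _ := by group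
  have e2 : (g * k)⁻¹ * a * (g * k) = (g⁻¹ * a * g)⁻¹ * ((g * k⁻¹)⁻¹ * a * (g * k⁻¹))⁻¹ := by
    have hb := hcj' g a ha
    have h1 := key k hk _ hb
    have h1' : (k⁻¹ * (g⁻¹ * a * g) * k) * (k * (g⁻¹ * a * g) * k⁻¹) = (g⁻¹ * a * g)⁻¹ := by
      rw [hc _ (hcj' k _ hb) _ (hcj k _ hb)]; exact h1
    have h2 : k⁻¹ * (g⁻¹ * a * g) * k = (g⁻¹ * a * g)⁻¹ * (k * (g⁻¹ * a * g) * k⁻¹)⁻¹ := by
      rw [← h1']; group
    calc (g * k)⁻¹ * a * (g * k) = k⁻¹ * (g⁻¹ * a * g) * k := by group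
      _ = _ := h2
      _ = _ := by group
  rw [e1, e2]
  have k1 := key g hg a ha
  have k2 := key _ hgk a ha
  have m1 := hcj g a ha
  have m2 := hcj' g a ha
  have m3 := hcj (g * k⁻¹) a ha
  have m4 := hcj' (g * k⁻¹) a ha
  set p := g * a * g⁻¹
  set q := g⁻¹ * a * g
  set r := (g * k⁻¹) * a * (g * k⁻¹)⁻¹
  set s := (g * k⁻¹)⁻¹ * a * (g * k⁻¹)
  clear_value p q r s
  calc p⁻¹ * r⁻¹ * (q⁻¹ * s⁻¹) = p⁻¹ * (r⁻¹ * q⁻¹) * s⁻¹ := by group
    _ = p⁻¹ * (q⁻¹ * r⁻¹) * s⁻¹ := by rw [hc _ (inv_mem m3) _ (inv_mem m2)]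
    _ = (q * p)⁻¹ * (s * r)⁻¹ := by group
    _ = (p * q)⁻¹ * (r * s)⁻¹ := by rw [hc _ m2 _ m1, hc _ m4 _ m3]
    _ = a * a := by rw [k1, k2, inv_inv]

theorem conj_eq_of {x : G} (h : SC x) {F : Subgroup G} [F.Normal] (hF : ¬ 3 ∣ Nat.card F)
    (sim : ∀ M : Subgroup G, M.Normal → F ≤ M → M = F ∨ M = ⊤)
    (hc : ∀ a ∈ F, ∀ b ∈ F, a * b = b * a) {n : ℕ} {y : G} (hy : y ∉ F)
    (hyc : ∀ a ∈ F, y * (a ^ n) = a ^ n * y) : ∀ a ∈ F, a ^ n = 1 := by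
  have hcj : ∀ y : G, ∀ a ∈ F, y * a * y⁻¹ ∈ F :=
    fun y a ha => Subgroup.Normal.conj_mem inferInstance a ha y
  let S : Set G := {g | ∃ a ∈ F, g = a ^ n}
  have hMn : (Subgroup.centralizer S).Normal := by
    refine ⟨fun m hm g => ?_⟩
    rw [Subgroup.mem_centralizer_iff] at hm ⊢
    rintro _ ⟨a, ha, rfl⟩
    have h1 := hm ((g⁻¹ * a * g⁻¹⁻¹) ^ n) ⟨_, hcj _ a ha, rfl⟩
    rw [conj_pow, inv_inv] at h1
    calc a ^ n * (g * m * g⁻¹) = g * (g⁻¹ * a ^ n * g * m) * g⁻¹ := by group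
      _ = g * (m * (g⁻¹ * a ^ n * g)) * g⁻¹ := by rw [h1]
      _ = _ := by group
  have hFM : F ≤ Subgroup.centralizer S := by
    intro c hcF
    rw [Subgroup.mem_centralizer_iff]
    rintro _ ⟨a, ha, rfl⟩
    exact hc _ (pow_mem ha n) _ hcF
  have hyM : y ∈ Subgroup.centralizer S := by
    rw [Subgroup.mem_centralizer_iff]
    rintro _ ⟨a, ha, rfl⟩
    exact (hyc a ha).symm
  have hM : Subgroup.centralizer S = ⊤ := by
    rcases sim _ hMn hFM with h1 | h1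
    · rw [h1] at hyM
      exact absurd hyM hy
    · exact h1
  intro a ha
  have hx : x ∈ Subgroup.centralizer S := by rw [hM]; trivial
  rw [Subgroup.mem_centralizer_iff] at hx
  exact h.fpf hF (pow_mem ha n) (hx _ ⟨a, ha, rfl⟩)

/-- If `g k` is an involution modulo `F`, then `F` has exponent two. -/
theorem exp_two {x g k : G} (h : SC x) {F : Subgroup G} [F.Normal] (hF : ¬ 3 ∣ Nat.card F)
    (sim : ∀ M : Subgroup G, M.Normal → F ≤ M → M = F ∨ M = ⊤)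
    (hc : ∀ a ∈ F, ∀ b ∈ F, a * b = b * a) (hg : orderOf g = 3) (hk : orderOf k = 3)
    (hgk : orderOf (g * k⁻¹) = 3) (hu : g * k ∉ F) (hu2 : (g * k) * (g * k) ∈ F) :
    ∀ a ∈ F, a ^ 2 = 1 := by
  have hcj : ∀ y : G, ∀ a ∈ F, y * a * y⁻¹ ∈ F :=
    fun y a ha => Subgroup.Normal.conj_mem inferInstance a ha y
  apply conj_eq_of h hF sim hc hu
  intro a ha
  have h1 := sum_two h hF hc hg hk hgk ha
  set u := g * k
  have hb := hcj u⁻¹ a ha
  rw [inv_inv] at hb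
  have h2 := hc _ hu2 _ hb
  have h3 : u * a * u⁻¹ = u⁻¹ * a * u := by
    calc u * a * u⁻¹ = (u * u) * (u⁻¹ * a * u) * (u * u)⁻¹ := by group
      _ = (u⁻¹ * a * u) * (u * u) * (u * u)⁻¹ := by rw [h2]
      _ = _ := by group
  rw [← h3] at h1
  have h4 : u * a ^ 2 * u⁻¹ = a ^ 2 := by
    calc u * a ^ 2 * u⁻¹ = (u * a * u⁻¹) * (u * a * u⁻¹) := by rw [pow_two]; group
      _ = a * a := h1
      _ = a ^ 2 := (pow_two a).symm
  calc u * a ^ 2 = u * a ^ 2 * u⁻¹ * u := by group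
    _ = _ := by rw [h4]

/-- If `g k` has order seven modulo `F` and `F` has exponent two, then `F = 1`. -/
theorem eq_bot_seven {x g k : G} (h : SC x) {F : Subgroup G} [F.Normal] (hF : ¬ 3 ∣ Nat.card F)
    (sim : ∀ M : Subgroup G, M.Normal → F ≤ M → M = F ∨ M = ⊤)
    (hc : ∀ a ∈ F, ∀ b ∈ F, a * b = b * a) (h2 : ∀ a ∈ F, a ^ 2 = 1)
    (hg : orderOf g = 3) (hk : orderOf k = 3)
    (hgk : orderOf (g * k⁻¹) = 3) (hu : g * k ∉ F) (hu7 : (g * k) ^ 7 ∈ F) : F = ⊥ := by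
  have hcj : ∀ y : G, ∀ a ∈ F, y * a * y⁻¹ ∈ F :=
    fun y a ha => Subgroup.Normal.conj_mem inferInstance a ha y
  have key : ∀ a ∈ F, a ^ 1 = 1 := by
    apply conj_eq_of h hF sim hc hu
    intro a ha
    rw [pow_one]
    have h1 := sum_two h hF hc hg hk hgk ha
    rw [← pow_two a, h2 a ha] at h1
    have h7 : Commute ((g * k) ^ 7) a := hc _ hu7 _ ha
    set u := g * k
    have hb := hcj u⁻¹ a ha
    rw [inv_inv] at hb
    have h3 : u * a * u⁻¹ = u⁻¹ * a * u := by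
      have e1 := eq_inv_of_mul_eq_one_left h1
      have e2 : (u⁻¹ * a * u) * (u⁻¹ * a * u) = 1 := by rw [← pow_two]; exact h2 _ hb
      rw [e1]; exact inv_eq_of_mul_eq_one_left e2
    have h4 : Commute (u ^ 2) a := by
      have : u ^ 2 * a = a * u ^ 2 := by
        calc u ^ 2 * a = u * (u * a * u⁻¹) * u := by rw [pow_two]; group
          _ = u * (u⁻¹ * a * u) * u := by rw [h3]
          _ = _ := by rw [pow_two]; group
      exact this
    have h6 : Commute ((u ^ 2) ^ 3) a := h4.pow_left 3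
    have h8 : Commute (u ^ 7 * ((u ^ 2) ^ 3)⁻¹) a := h7.mul_left h6.inv_left
    have e : u ^ 7 * ((u ^ 2) ^ 3)⁻¹ = u := by
      rw [← pow_mul, mul_inv_eq_iff_eq_mul, ← pow_succ']
    rw [e] at h8
    exact h8
  rw [eq_bot_iff]
  intro a ha
  rw [Subgroup.mem_bot]
  simpa using key a ha

theorem sim_of_simple {F : Subgroup G} [F.Normal] (hs : IsSimpleGroup (G ⧸ F)) :
    ∀ M : Subgroup G, M.Normal → F ≤ M → M = F ∨ M = ⊤ := by
  intro M hM hFM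
  rcases simple_quot (M := M) hs with h1 | h1
  · left; exact le_antisymm h1 hFM
  · right
    rwa [sup_eq_left.2 hFM] at h1

end

end Cfsg.Agent.Lib.C3X
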