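import Cfsg.Agent.Lib.C3XFit

/-!
# Groups with a self-centralizing subgroup of order three: the normal `3'`-subgroup (helper20)
-/

set_option autoImplicit false
set_option linter.style.haveILetI false
set_option linter.unusedSectionVars false

namespace Cfsg.Agent.Lib.C3X

universe u

section
variable {G : Type u} [Group G] [Finite G]

/-- The consequences of an `A₄`-like pair in the quotient. -/
theorem fit_pair {x : G} (h : SC x) {F : Subgroup G} [F.Normal] (hF : ¬ 3 ∣ Nat.card F)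
    (hs : IsSimpleGroup (G ⧸ F)) {g k : G ⧸ F} (hg : orderOf g = 3) (hk : orderOf k = 3)
    (hgk : orderOf (g * k⁻¹) = 3) (hu : g * k ≠ 1) (hu2 : (g * k) * (g * k) = 1) :
    (∀ a ∈ F, ∀ b ∈ F, a * b = b * a) ∧ ∀ a ∈ F, a ^ 2 = 1 := by
  obtain ⟨g, rfl⟩ := QuotientGroup.mk_surjective g
  obtain ⟨k, rfl⟩ := QuotientGroup.mk_surjective k
  have hg' := SC.lift_ord h F hg
  have hk' := SC.lift_ord h F hk
  have hgk' : orderOf (g * k⁻¹) = 3 := SC.lift_ord h F (by simpa using hgk)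
  have hu' : g * k ∉ F := by
    intro h1
    apply hu
    rw [← QuotientGroup.mk_mul, QuotientGroup.eq_one_iff]
    exact h1
  have hu2' : (g * k) * (g * k) ∈ F := by
    rw [← QuotientGroup.eq_one_iff]
    exact hu2
  have sim := sim_of_simple hs
  have hc : ∀ a ∈ F, ∀ b ∈ F, a * b = b * a := by
    refine Hy.comm (x := x) (z := g) (w := k⁻¹) ⟨h, inferInstance, hF, hg', by rw [orderOf_inv, hk'],
      hgk', ?_, sim⟩
    intro h1
    -- modulo `F`, `g` and `k` commute, so `(g k)^3 = 1`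
    have h2 : (g : G ⧸ F) * (k : G ⧸ F) = k * g := by
      have h3 : ((g * k⁻¹ * g⁻¹ * k⁻¹⁻¹ : G) : G ⧸ F) = 1 := (QuotientGroup.eq_one_iff _).2 h1
      simp only [QuotientGroup.mk_mul, QuotientGroup.mk_inv, inv_inv] at h3
      have h4 : (g : G ⧸ F) * (k : G ⧸ F)⁻¹ = (k : G ⧸ F)⁻¹ * g := by
        calc (g : G ⧸ F) * (k : G ⧸ F)⁻¹ =
          ((g : G ⧸ F) * (k : G ⧸ F)⁻¹ * (g : G ⧸ F)⁻¹ * k) * ((k : G ⧸ F)⁻¹ * g) := by group
          _ = _ := by rw [h3, one_mul]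
      calc (g : G ⧸ F) * (k : G ⧸ F) = k * ((k : G ⧸ F)⁻¹ * g) * k := by group
        _ = k * ((g : G ⧸ F) * (k : G ⧸ F)⁻¹) * k := by rw [h4]
        _ = _ := by group
    have h3 : Commute (g : G ⧸ F) (k : G ⧸ F) := h2
    have h4 : ((g : G ⧸ F) * k) ^ 3 = 1 := by
      rw [h3.mul_pow, ← hg, pow_orderOf_eq_one, hg, ← hk, pow_orderOf_eq_one, one_mul]
    apply hu
    have h5 : ((g : G ⧸ F) * k) ^ 3 = ((g : G ⧸ F) * k) * (((g : G ⧸ F) * k) * ((g : G ⧸ F) * k)) := by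
      rw [pow_succ', pow_two]
    rw [h5, hu2, mul_one] at h4
    exact h4
  exact ⟨hc, exp_two h hF sim hc hg' hk' hgk' hu' hu2'⟩

open Equiv in
theorem fit_A5 {x : G} (h : SC x) {F : Subgroup G} [F.Normal] (hF : ¬ 3 ∣ Nat.card F)
    (e : G ⧸ F ≃* alternatingGroup (Fin 5)) :
    (∀ a ∈ F, ∀ b ∈ F, a * b = b * a) ∧ ∀ a ∈ F, a ^ 2 = 1 := by
  have hs : IsSimpleGroup (G ⧸ F) := by
    haveI := alternatingGroup.isSimpleGroup (α := Fin 5) (by simp)
    exact e.isSimpleGroup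
  haveI : Fact (Nat.Prime 3) := ⟨Nat.prime_three⟩
  let g0 : alternatingGroup (Fin 5) := ⟨swap 0 1 * swap 1 2, Equiv.Perm.mem_alternatingGroup.2 (by decide)⟩
  let k0 : alternatingGroup (Fin 5) := ⟨swap 0 1 * swap 1 3, Equiv.Perm.mem_alternatingGroup.2 (by decide)⟩
  have a1 : orderOf g0 = 3 := orderOf_eq_prime (by decide) (by decide)
  have a2 : orderOf k0 = 3 := orderOf_eq_prime (by decide) (by decide)
  have a3 : orderOf (g0 * k0⁻¹) = 3 := orderOf_eq_prime (by decide) (by decide)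
  have a4 : g0 * k0 ≠ 1 := by decide
  have a5 : (g0 * k0) * (g0 * k0) = 1 := by decide
  refine fit_pair h hF hs (g := e.symm g0) (k := e.symm k0) ?_ ?_ ?_ ?_ ?_
  · rw [MulEquiv.orderOf_eq, a1]
  · rw [MulEquiv.orderOf_eq, a2]
  · rw [← map_inv, ← map_mul, MulEquiv.orderOf_eq, a3]
  · rw [← map_mul]
    intro h1
    exact a4 (by rw [← e.apply_symm_apply (g0 * k0), h1, map_one])
  · rw [← map_mul, ← map_mul, a5, map_one]

end

section psl
open Matrix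

local notation "SLs" => Matrix.SpecialLinearGroup (Fin 2) (ZMod 7)
local notation "PSLs" => Matrix.ProjectiveSpecialLinearGroup (Fin 2) (ZMod 7)

theorem psl_eq_one (A : SLs) : ((QuotientGroup.mk A : PSLs) = 1) ↔
    ∃ r : ZMod 7, r ^ 2 = 1 ∧ Matrix.scalar (Fin 2) r = A.1 := by
  rw [QuotientGroup.eq_one_iff, Matrix.SpecialLinearGroup.mem_center_iff]
  simp

def ga : SLs := ⟨!![0, -1; 1, 1], by decide⟩
def gb : SLs := ⟨!![0, 2; 3, 1], by decide⟩
def gc : SLs := ⟨!![0, 3; 2, 1], by decide⟩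

theorem ga3 : ∃ r : ZMod 7, r ^ 2 = 1 ∧ Matrix.scalar (Fin 2) r = (ga * ga * ga).1 := by decide
theorem gb3 : ∃ r : ZMod 7, r ^ 2 = 1 ∧ Matrix.scalar (Fin 2) r = (gb * gb * gb).1 := by decide
theorem gc3 : ∃ r : ZMod 7, r ^ 2 = 1 ∧ Matrix.scalar (Fin 2) r = (gc * gc * gc).1 := by decide
theorem ga1 : ¬ ∃ r : ZMod 7, r ^ 2 = 1 ∧ Matrix.scalar (Fin 2) r = ga.1 := by decide
theorem gb1 : ¬ ∃ r : ZMod 7, r ^ 2 = 1 ∧ Matrix.scalar (Fin 2) r = gb.1 := by decide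
theorem gc1 : ¬ ∃ r : ZMod 7, r ^ 2 = 1 ∧ Matrix.scalar (Fin 2) r = gc.1 := by decide
theorem gab3 : ∃ r : ZMod 7, r ^ 2 = 1 ∧
    Matrix.scalar (Fin 2) r = (ga * gb⁻¹ * (ga * gb⁻¹) * (ga * gb⁻¹)).1 := by decide
theorem gab1 : ¬ ∃ r : ZMod 7, r ^ 2 = 1 ∧ Matrix.scalar (Fin 2) r = (ga * gb⁻¹).1 := by decide
theorem gac3 : ∃ r : ZMod 7, r ^ 2 = 1 ∧
    Matrix.scalar (Fin 2) r = (ga * gc⁻¹ * (ga * gc⁻¹) * (ga * gc⁻¹)).1 := by decide
theorem gac1 : ¬ ∃ r : ZMod 7, r ^ 2 = 1 ∧ Matrix.scalar (Fin 2) r = (ga * gc⁻¹).1 := by decide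
theorem gu1 : ¬ ∃ r : ZMod 7, r ^ 2 = 1 ∧ Matrix.scalar (Fin 2) r = (ga * gb).1 := by decide
theorem gu2 : ∃ r : ZMod 7, r ^ 2 = 1 ∧ Matrix.scalar (Fin 2) r = (ga * gb * (ga * gb)).1 := by
  decide
theorem gv1 : ¬ ∃ r : ZMod 7, r ^ 2 = 1 ∧ Matrix.scalar (Fin 2) r = (ga * gc).1 := by decide
theorem gv7 : ∃ r : ZMod 7, r ^ 2 = 1 ∧ Matrix.scalar (Fin 2) r =
    (ga * gc * (ga * gc) * (ga * gc) * (ga * gc) * (ga * gc) * (ga * gc) * (ga * gc)).1 := by decide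

theorem psl_ord {A : SLs} (h3 : ∃ r : ZMod 7, r ^ 2 = 1 ∧ Matrix.scalar (Fin 2) r = (A * A * A).1)
    (h1 : ¬ ∃ r : ZMod 7, r ^ 2 = 1 ∧ Matrix.scalar (Fin 2) r = A.1) :
    orderOf (QuotientGroup.mk A : PSLs) = 3 := by
  haveI : Fact (Nat.Prime 3) := ⟨Nat.prime_three⟩
  apply orderOf_eq_prime
  · rw [pow_succ, pow_two]
    exact (psl_eq_one (A * A * A)).2 h3
  · intro h
    exact h1 ((psl_eq_one A).1 h)

end psl

theorem fit_PSL {G : Type u} [Group G] [Finite G] {x : G} (h : SC x) {F : Subgroup G} [F.Normal]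
    (hF : ¬ 3 ∣ Nat.card F)
    (e : G ⧸ F ≃* Matrix.ProjectiveSpecialLinearGroup (Fin 2) (ZMod 7)) : F = ⊥ := by
  haveI : Fact (Nat.Prime 7) := ⟨by norm_num⟩
  have hs : IsSimpleGroup (G ⧸ F) := by
    haveI : IsSimpleGroup (Matrix.ProjectiveSpecialLinearGroup (Fin 2) (ZMod 7)) :=
      Matrix.ProjectiveSpecialLinearGroup.rank_two_simple (by rw [Nat.card_zmod]; omega)
    exact e.isSimpleGroup
  let a : Matrix.ProjectiveSpecialLinearGroup (Fin 2) (ZMod 7) := QuotientGroup.mk ga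
  let b : Matrix.ProjectiveSpecialLinearGroup (Fin 2) (ZMod 7) := QuotientGroup.mk gb
  let c : Matrix.ProjectiveSpecialLinearGroup (Fin 2) (ZMod 7) := QuotientGroup.mk gc
  have oa : orderOf a = 3 := psl_ord ga3 ga1
  have ob : orderOf b = 3 := psl_ord gb3 gb1
  have oc : orderOf c = 3 := psl_ord gc3 gc1
  have oab : orderOf (a * b⁻¹) = 3 := psl_ord gab3 gab1
  have oac : orderOf (a * c⁻¹) = 3 := psl_ord gac3 gac1
  have hu : a * b ≠ 1 := fun h1 => gu1 ((psl_eq_one (ga * gb)).1 h1)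
  have hu2 : (a * b) * (a * b) = 1 := (psl_eq_one (ga * gb * (ga * gb))).2 gu2
  have hv : a * c ≠ 1 := fun h1 => gv1 ((psl_eq_one (ga * gc)).1 h1)
  have hv7 : (a * c) * (a * c) * (a * c) * (a * c) * (a * c) * (a * c) * (a * c) = 1 :=
    (psl_eq_one _).2 gv7
  obtain ⟨hcomm, h2⟩ := fit_pair h hF hs (g := e.symm a) (k := e.symm b)
    (by rw [MulEquiv.orderOf_eq, oa]) (by rw [MulEquiv.orderOf_eq, ob])
    (by rw [← map_inv, ← map_mul, MulEquiv.orderOf_eq, oab])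
    (by
      rw [← map_mul]
      intro h1
      exact hu (by rw [← e.apply_symm_apply (a * b), h1, map_one]))
    (by rw [← map_mul, ← map_mul, hu2, map_one])
  obtain ⟨g, hg⟩ := QuotientGroup.mk_surjective (e.symm a)
  obtain ⟨k, hk⟩ := QuotientGroup.mk_surjective (e.symm c)
  have hog : orderOf (g : G ⧸ F) = 3 := by rw [hg, MulEquiv.orderOf_eq, oa]
  have hok : orderOf (k : G ⧸ F) = 3 := by rw [hk, MulEquiv.orderOf_eq, oc]
  have hogk : orderOf ((g * k⁻¹ : G) : G ⧸ F) = 3 := by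
    rw [QuotientGroup.mk_mul, QuotientGroup.mk_inv, hg, hk, ← map_inv, ← map_mul,
      MulEquiv.orderOf_eq, oac]
  refine eq_bot_seven h hF (sim_of_simple hs) hcomm h2 (SC.lift_ord h F hog) (SC.lift_ord h F hok)
    (SC.lift_ord h F hogk) ?_ ?_
  · intro h1
    rw [← QuotientGroup.eq_one_iff, QuotientGroup.mk_mul, hg, hk, ← map_mul] at h1
    exact hv (by rw [← e.apply_symm_apply (a * c), h1, map_one])
  · rw [← QuotientGroup.eq_one_iff, QuotientGroup.mk_pow, QuotientGroup.mk_mul, hg, hk, ← map_mul,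
      ← map_pow]
    have : (a * c) ^ 7 = 1 := by
      rw [← hv7]
      simp only [pow_succ, pow_zero, one_mul]
    rw [this, map_one]

/-- Reduction modulo a normal `3'`-subgroup. -/
theorem concl_of_quot {G : Type u} [Group G] [Finite G] {x : G} (h : SC x) {F : Subgroup G}
    [F.Normal] (hF : ¬ 3 ∣ Nat.card F) (hc : Concl (G ⧸ F)) : Concl G := by
  have lift : ∀ (N : Subgroup (G ⧸ F)) [N.Normal], ¬ 3 ∣ Nat.card N →
      ∃ (M : Subgroup G) (_ : M.Normal), ¬ 3 ∣ Nat.card M ∧ Nonempty (G ⧸ M ≃* (G ⧸ F) ⧸ N) := by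
    intro N _ hN
    let f : G →* (G ⧸ F) ⧸ N := (QuotientGroup.mk' N).comp (QuotientGroup.mk' F)
    have hf : Function.Surjective f :=
      (QuotientGroup.mk'_surjective N).comp (QuotientGroup.mk'_surjective F)
    refine ⟨f.ker, inferInstance, ?_, ⟨QuotientGroup.quotientKerEquivOfSurjective f hf⟩⟩
    intro h3
    haveI : Fact (Nat.Prime 3) := ⟨Nat.prime_three⟩
    obtain ⟨⟨k, hk⟩, hk3⟩ := exists_prime_orderOf_dvd_card' 3 h3
    rw [Subgroup.orderOf_mk] at hk3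
    have hkF : k ∉ F := fun hkN => hF (by
      have := F.orderOf_dvd_natCard hkN; rwa [hk3] at this)
    have h1 : (QuotientGroup.mk' F k) ∈ N := (QuotientGroup.eq_one_iff _).1 hk
    apply hN
    have h5 : orderOf (QuotientGroup.mk' F k) = 3 := by
      apply orderOf_eq_prime
      · rw [← map_pow, ← hk3, pow_orderOf_eq_one, map_one]
      · intro h6
        exact hkF ((QuotientGroup.eq_one_iff k).1 h6)
    rw [← h5]
    exact N.orderOf_dvd_natCard h1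
  rcases hc with ⟨N, hN, _, hcop, hidx⟩ | ⟨N, hN, _, hN2, ⟨e⟩⟩ | ⟨⟨e⟩⟩
  · have h3 : ¬ 3 ∣ Nat.card N := by
      intro h3
      have := Nat.Coprime.eq_one_of_dvd (Nat.coprime_comm.1 hcop) h3
      omega
    obtain ⟨M, hM, hM3, ⟨e⟩⟩ := lift N h3
    apply h.concl_of_index hM3
    have h1 := Subgroup.card_eq_card_quotient_mul_card_subgroup M
    rcases hidx with h2 | ⟨⟨e2⟩⟩
    · left; rw [h1, Nat.card_congr e.toEquiv, h2]
    · right
      rw [h1, Nat.card_congr e.toEquiv, Nat.card_congr e2.toEquiv, Nat.card_perm, Nat.card_fin]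
      rfl
  · have h3 := not_three_of_two (two_of_sq hN2)
    obtain ⟨M, hM, hM3, ⟨e'⟩⟩ := lift N h3
    obtain ⟨h4, h5⟩ := fit_A5 h hM3 (e'.trans e)
    right; left
    refine ⟨M, hM, ⟨⟨fun a b => ?_⟩⟩, h5, ⟨e'.trans e⟩⟩
    ext
    exact h4 a a.2 b b.2
  · have h1 := fit_PSL h hF e
    subst h1
    right; right
    exact ⟨(QuotientGroup.quotientBot (G := G)).symm.trans e⟩

end Cfsg.Agent.Lib.C3X
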