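import Cfsg.Agent.Lib.C3XSimple

/-!
# Groups with a self-centralizing subgroup of order three: local analysis (helper20)
-/

set_option autoImplicit false
set_option linter.style.haveILetI false
set_option linter.unusedSectionVars false

namespace Cfsg.Agent.Lib.C3X

universe u

variable {G : Type u} [Group G]

/-- The normalizer. -/
abbrev nor (K : Subgroup G) : Subgroup G := Subgroup.normalizer (K : Set G)

theorem mem_nor_iff {K : Subgroup G} {g : G} : g ∈ nor K ↔ ∀ k, k ∈ K ↔ g * k * g⁻¹ ∈ K :=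
  Subgroup.mem_normalizer_iff

theorem nor_conj {K : Subgroup G} {g : G} (hg : g ∈ nor K) : ∀ k ∈ K, g * k * g⁻¹ ∈ K :=
  fun k hk => (mem_nor_iff.1 hg k).1 hk

/-- The context: a simple group all of whose proper subgroups containing `x` are known. -/
structure Ctx (x t : G) : Prop where
  sc : SC x
  inv : t * x * t⁻¹ = x⁻¹
  simple : IsSimpleGroup G
  loc : ∀ H : Subgroup G, H ≠ ⊤ → x ∈ H → (∃ F, TypeI x H F) ∨ (∃ F, TypeII x H F) ∨
      (∀ K ≤ H, IK x K → (∀ y ∈ H, ∀ k ∈ K, y * k * y⁻¹ ∈ K) → K = ⊥)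

/-- Maximal invariant `3'`-subgroups. -/
structure MK (x : G) (K : Subgroup G) : Prop where
  ik : IK x K
  ne : K ≠ ⊥
  max : ∀ L, IK x L → K ≤ L → L = K

variable [Finite G]

theorem exists_MK {x : G} {L : Subgroup G} (hL : IK x L) (hne : L ≠ ⊥) : ∃ K, MK x K ∧ L ≤ K := by
  have hfin : Set.Finite {K : Subgroup G | IK x K} := Set.toFinite _
  obtain ⟨K, hLK, hK⟩ := hfin.exists_le_maximal hL
  refine ⟨K, ⟨hK.1, ?_, ?_⟩, hLK⟩
  · rintro rfl
    exact hne (le_bot_iff.1 hLK)
  · intro M hM hKM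
    exact le_antisymm (hK.2 hM hKM) hKM

theorem IK.mem_nor {x : G} {K : Subgroup G} (hK : IK x K) : x ∈ nor K := mem_norm hK.inv

theorem IK.inf {x : G} {K L : Subgroup G} (hK : IK x K) (hL : x ∈ nor L) : IK x (K ⊓ L) := by
  refine ⟨fun k hk => ⟨hK.inv k hk.1, nor_conj hL k hk.2⟩, fun h3 => hK.co ?_⟩
  exact h3.trans (Subgroup.card_dvd_of_le inf_le_left)

theorem self_mem_nor (H : Subgroup G) {x : G} (hx : x ∈ H) : x ∈ nor H :=
  Subgroup.le_normalizer hx

theorem Ctx.nor_ne_top {x t : G} (c : Ctx x t) {K : Subgroup G} (hK : IK x K) (hne : K ≠ ⊥) :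
    nor K ≠ ⊤ := by
  intro h
  haveI := c.simple
  have hn : K.Normal := Subgroup.normalizer_eq_top_iff.1 h
  rcases hn.eq_bot_or_eq_top with h1 | h1
  · exact hne h1
  · apply c.sc.not_mem hK.co
    rw [h1]; trivial

theorem inverter_mem {x t s : G} (h : SC x) (ht : t * x * t⁻¹ = x⁻¹) {H : Subgroup G}
    (hx : x ∈ H) (hs : s ∈ H) (hsx : s * x * s⁻¹ = x⁻¹) : t ∈ H := by
  rcases h.inverters hsx ht with rfl | rfl | rfl
  · exact hs
  · exact mul_mem hs hx
  · exact mul_mem hs (inv_mem hx)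

theorem TypeI.ik {x : G} {H F : Subgroup G} (h : TypeI x H F) (hx : x ∈ H) : IK x F :=
  ⟨h.nor x hx, h.co⟩

theorem TypeII.ik {x : G} {H F : Subgroup G} (h : TypeII x H F) (hx : x ∈ H) : IK x F :=
  ⟨h.nor x hx, not_three_of_two h.two⟩

theorem Ctx.nor_cases {x t : G} (c : Ctx x t) {D : Subgroup G} (hD : IK x D) (hne : D ≠ ⊥) :
    (∃ F, TypeI x (nor D) F ∧ D ≤ F) ∨ (∃ F, TypeII x (nor D) F ∧ D ≤ F) := by
  have hx : x ∈ nor D := hD.mem_nor
  have hDn : D ≤ nor D := Subgroup.le_normalizer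
  rcases c.loc (nor D) (c.nor_ne_top hD hne) hx with ⟨F, hF⟩ | ⟨F, hF⟩ | hF
  · left
    exact ⟨F, hF, hF.max D hDn hD⟩
  · right
    obtain ⟨s, hs, hsx⟩ := hF.inv
    exact ⟨F, hF, hF.tmax D hDn hD s hs hsx (nor_conj hs)⟩
  · exact absurd (hF D hDn hD (fun y hy => nor_conj hy)) hne

/-- The normalizer of a maximal invariant subgroup. -/
theorem Ctx.nor_MK {x t : G} (c : Ctx x t) {K : Subgroup G} (hK : MK x K) : TypeI x (nor K) K := by
  have hx : x ∈ nor K := hK.ik.mem_nor
  rcases c.nor_cases hK.ik hK.ne with ⟨F, hF, hKF⟩ | ⟨F, hF, hKF⟩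
  · have := hK.max F (hF.ik hx) hKF
    rwa [this] at hF
  · exfalso
    obtain ⟨L, hL, hLik, hFL⟩ := hF.big
    have := hK.max L hLik (hKF.trans hFL.le)
    rw [this] at hFL
    exact absurd hKF (not_le_of_gt hFL)

/-- Index dichotomy. -/
theorem Ctx.index_MK {x t : G} (c : Ctx x t) {K : Subgroup G} (hK : MK x K) :
    (t ∈ nor K ∧ Nat.card (nor K) = 6 * Nat.card K) ∨
      (t ∉ nor K ∧ Nat.card (nor K) = 3 * Nat.card K) := by
  have hT := c.nor_MK hK
  have hx : x ∈ nor K := hK.ik.mem_nor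
  have hpos : 0 < Nat.card K := Nat.card_pos
  by_cases ht : t ∈ nor K
  · left
    refine ⟨ht, ?_⟩
    have h1 := c.sc.six_mul_dvd c.inv hK.ik (nor_conj ht)
    rcases hT.idx with h2 | h2
    · exfalso
      change 6 * Nat.card K ∣ Nat.card (nor K) at h1
      rw [h2] at h1
      have := Nat.le_of_dvd (by omega) h1
      omega
    · exact h2
  · right
    refine ⟨ht, ?_⟩
    rcases hT.idx with h2 | h2
    · exact h2
    · exfalso
      apply ht
      have hs := c.sc.of_subgroup hx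
      by_cases hex : ∃ s ∈ nor K, s * x * s⁻¹ = x⁻¹
      · obtain ⟨s, hs, hsx⟩ := hex
        exact inverter_mem c.sc c.inv hx hs hsx
      · exfalso
        push Not at hex
        obtain ⟨M, hM, hM1, hM3⟩ := hs.burnside
          (fun s h1 => hex s s.2 (congrArg Subtype.val h1))
        have hMik : IK x (M.map (nor K).subtype) := (IK.of_normal (x := (⟨x, hx⟩ : nor K)) hM3).map_sub
        have hle : M.map (nor K).subtype ≤ K := by
          apply hT.max _ _ hMik
          rw [Subgroup.map_le_iff_le_comap]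
          intro f _
          exact f.2
        have h3 := Subgroup.card_le_of_le hle
        rw [Subgroup.card_map_of_injective (nor K).subtype_injective] at h3
        omega

/-- In a nilpotent group normalizers grow. -/
theorem norm_lt {K D : Subgroup G} (hK : Group.IsNilpotent K) (hDK : D < K) : D < K ⊓ nor D := by
  have h1 : D.subgroupOf K < ⊤ := by
    rw [lt_top_iff_ne_top]
    intro h
    rw [Subgroup.subgroupOf_eq_top] at h
    exact absurd h (not_le_of_gt hDK)
  have h2 := Group.normalizerCondition_of_isNilpotent (G := K) _ h1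
  refine lt_of_le_of_ne (le_inf hDK.le Subgroup.le_normalizer) ?_
  intro heq
  obtain ⟨k, hk, hkD⟩ := SetLike.exists_of_lt h2
  apply hkD
  rw [Subgroup.mem_subgroupOf, heq]
  refine Subgroup.mem_inf.2 ⟨k.2, ?_⟩
  rw [mem_nor_iff]
  intro d
  constructor
  · intro hd
    have hdK : d ∈ K := hDK.le hd
    have := (Subgroup.mem_normalizer_iff.1 hk ⟨d, hdK⟩).1 (Subgroup.mem_subgroupOf.2 hd)
    exact Subgroup.mem_subgroupOf.1 this
  · intro hd
    have hdK : (k : G) * d * (k : G)⁻¹ ∈ K := hDK.le hd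
    have hdK' : d ∈ K := by
      have := mul_mem (mul_mem (inv_mem k.2) hdK) k.2
      have e : (k : G)⁻¹ * (k * d * (k : G)⁻¹) * k = d := by group
      rwa [e] at this
    have := (Subgroup.mem_normalizer_iff.1 hk ⟨d, hdK'⟩).2 (Subgroup.mem_subgroupOf.2 hd)
    exact Subgroup.mem_subgroupOf.1 this

theorem MK.eq_of_le {x : G} {K L : Subgroup G} (hK : MK x K) (hL : MK x L) (h : K ≤ L) : K = L :=
  (hK.max L hL.ik h).symm

theorem Ctx.nil {x t : G} (c : Ctx x t) {K : Subgroup G} (hK : IK x K) : Group.IsNilpotent K :=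
  c.sc.isNilpotent hK

/-- **TI property** of the invariant subgroups normalized by `t`. -/
theorem Ctx.ti {x t : G} (c : Ctx x t) {K : Subgroup G} (hK : MK x K) (ht : t ∈ nor K)
    {K' : Subgroup G} (hK' : MK x K') (hne : K' ≠ K) : K ⊓ K' = ⊥ := by
  by_contra hcon
  -- choose `K'` with `|K ⊓ K'|` maximal
  have hfin : Set.Finite {L : Subgroup G | MK x L ∧ L ≠ K} := Set.toFinite _
  obtain ⟨L, ⟨hL, hLK⟩, hmax⟩ := hfin.exists_maximalFor (fun L => Nat.card (K ⊓ L : Subgroup G)) _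
    ⟨K', hK', hne⟩
  have hcard : Nat.card (K ⊓ K' : Subgroup G) ≤ Nat.card (K ⊓ L : Subgroup G) := by
    rcases le_total (Nat.card (K ⊓ K' : Subgroup G)) (Nat.card (K ⊓ L : Subgroup G)) with h | h
    · exact h
    · exact hmax ⟨hK', hne⟩ h
  have hD : (K ⊓ L) ≠ ⊥ := by
    intro h1
    apply hcon
    rw [← Subgroup.card_eq_one] at h1 ⊢
    have : 0 < Nat.card (K ⊓ K' : Subgroup G) := Nat.card_pos
    omega
  set D := K ⊓ L with hDdef
  have hDik : IK x D := hK.ik.inf hL.ik.mem_nor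
  have hDK : D < K := by
    refine lt_of_le_of_ne inf_le_left ?_
    intro h1
    apply hLK
    exact (hK.eq_of_le hL (by rw [← h1]; exact inf_le_right)).symm
  have hDL : D < L := by
    refine lt_of_le_of_ne inf_le_right ?_
    intro h1
    apply hLK
    exact (hL.eq_of_le hK (by rw [← h1]; exact inf_le_left))
  have hA := norm_lt (c.nil hK.ik) hDK
  have hB := norm_lt (c.nil hL.ik) hDL
  have hx : x ∈ nor D := hDik.mem_nor
  have hAik : IK x (K ⊓ nor D) := hK.ik.inf (self_mem_nor _ hx)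
  have hBik : IK x (L ⊓ nor D) := hL.ik.inf (self_mem_nor _ hx)
  -- any `M ∈ MK` containing `K ⊓ nor D` is `K`
  have key : ∀ M, MK x M → K ⊓ nor D ≤ M → M = K := by
    intro M hM hle
    by_contra hMK
    have h1 : D < K ⊓ M := lt_of_lt_of_le hA (le_inf inf_le_left hle)
    have h2 : Nat.card D < Nat.card (K ⊓ M : Subgroup G) := by
      have := Subgroup.card_le_of_le h1.le
      rcases this.lt_or_eq with h3 | h3
      · exact h3
      · exact absurd (Subgroup.eq_of_le_of_card_ge h1.le h3.ge) h1.ne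
    have h3 : Nat.card (K ⊓ M : Subgroup G) ≤ Nat.card (K ⊓ L : Subgroup G) :=
      hmax ⟨hM, hMK⟩ h2.le
    rw [← hDdef] at h3
    omega
  rcases c.nor_cases hDik hD with ⟨F, hF, hDF⟩ | ⟨F, hF, hDF⟩
  · have h1 := hF.max _ inf_le_right hAik
    have h2 := hF.max _ inf_le_right hBik
    have hFne : F ≠ ⊥ := by
      rintro rfl
      exact hD (le_bot_iff.1 hDF)
    obtain ⟨M, hM, hFM⟩ := exists_MK (hF.ik hx) hFne
    have h3 := key M hM (h1.trans hFM)
    have h5 : F ≤ K := h3 ▸ hFM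
    have h4 : L ⊓ nor D ≤ D := le_inf (h2.trans h5) inf_le_left
    exact absurd h4 (not_le_of_gt hB)
  · obtain ⟨s, hs, hsx⟩ := hF.inv
    have htH : t ∈ nor D := inverter_mem c.sc c.inv hx hs hsx
    have h1 : K ⊓ nor D ≤ F := by
      apply hF.tmax _ inf_le_right hAik t htH c.inv
      intro k hk
      exact ⟨nor_conj ht k hk.1, nor_conj (self_mem_nor _ htH) k hk.2⟩
    obtain ⟨L', hL', hL'ik, hFL'⟩ := hF.big
    have hL'ne : L' ≠ ⊥ := by
      rintro rfl
      exact absurd hFL' not_lt_bot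
    obtain ⟨M, hM, hLM⟩ := exists_MK hL'ik hL'ne
    have h3 := key M hM (h1.trans (hFL'.le.trans hLM))
    have h4 : L' ≤ F := le_trans (le_inf (by rw [← h3]; exact hLM) hL') h1
    exact absurd h4 (not_le_of_gt hFL')

end Cfsg.Agent.Lib.C3X
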