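import Cfsg.Agent.Lib.C3XLocal

/-!
# Groups with a self-centralizing subgroup of order three: Sylow subgroups (helper20)
-/

set_option autoImplicit false
set_option linter.style.haveILetI false
set_option linter.unusedSectionVars false

namespace Cfsg.Agent.Lib.C3X

universe u

variable {G : Type u} [Group G]

/-- The conjugate subgroup. -/
def cj (g : G) (K : Subgroup G) : Subgroup G := K.map (MulAut.conj g).toMonoidHom

theorem mem_cj {g k : G} {K : Subgroup G} : k ∈ cj g K ↔ g⁻¹ * k * g ∈ K := by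
  constructor
  · rintro ⟨l, hl, rfl⟩
    have : g⁻¹ * (g * l * g⁻¹) * g = l := by group
    show g⁻¹ * (g * l * g⁻¹) * g ∈ K
    rw [this]; exact hl
  · intro h
    refine ⟨_, h, ?_⟩
    show g * (g⁻¹ * k * g) * g⁻¹ = k
    group

theorem conj_mem_cj {g k : G} {K : Subgroup G} (h : k ∈ K) : g * k * g⁻¹ ∈ cj g K :=
  mem_cj.2 (by
    have : g⁻¹ * (g * k * g⁻¹) * g = k := by group
    rwa [this])

theorem card_cj (g : G) (K : Subgroup G) : Nat.card (cj g K) = Nat.card K :=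
  Subgroup.card_map_of_injective (MulAut.conj g).injective

theorem cj_cj (g k : G) (K : Subgroup G) : cj g (cj k K) = cj (g * k) K := by
  ext y
  rw [mem_cj, mem_cj, mem_cj]
  have : k⁻¹ * (g⁻¹ * y * g) * k = (g * k)⁻¹ * y * (g * k) := by group
  rw [this]

theorem cj_one (K : Subgroup G) : cj 1 K = K := by
  ext y; rw [mem_cj]; simp

theorem mem_nor_cj {g y : G} {K : Subgroup G} : y ∈ nor (cj g K) ↔ g⁻¹ * y * g ∈ nor K := by
  rw [mem_nor_iff, mem_nor_iff]
  constructor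
  · intro h k
    have := h (g * k * g⁻¹)
    rw [mem_cj, mem_cj] at this
    have e1 : g⁻¹ * (g * k * g⁻¹) * g = k := by group
    have e2 : g⁻¹ * (y * (g * k * g⁻¹) * y⁻¹) * g = g⁻¹ * y * g * k * (g⁻¹ * y * g)⁻¹ := by group
    rwa [e1, e2] at this
  · intro h k
    rw [mem_cj, mem_cj, h]
    have e2 : g⁻¹ * y * g * (g⁻¹ * k * g) * (g⁻¹ * y * g)⁻¹ = g⁻¹ * (y * k * y⁻¹) * g := by group
    rw [e2]

theorem cj_eq_of_mem_nor {g : G} {K : Subgroup G} (h : g ∈ nor K) : cj g K = K := by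
  ext y
  rw [mem_cj]
  have := mem_nor_iff.1 (inv_mem h) y
  rw [inv_inv] at this
  exact this.symm

theorem mem_nor_of_cj {g : G} {K : Subgroup G} (h : cj g K = K) : g ∈ nor K := by
  rw [mem_nor_iff]
  intro k
  constructor
  · intro hk
    have := conj_mem_cj (g := g) hk
    rwa [h] at this
  · intro hk
    rw [← h, mem_cj] at hk
    have e : g⁻¹ * (g * k * g⁻¹) * g = k := by group
    rwa [e] at hk

variable [Finite G]

theorem IK.cj_inv {x t : G} (hx : orderOf x = 3) (ht : t * x * t⁻¹ = x⁻¹) {K : Subgroup G}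
    (hK : IK x K) : IK x (cj t K) := by
  refine ⟨fun k hk => ?_, by rw [card_cj]; exact hK.co⟩
  rw [mem_cj] at hk ⊢
  have h1 := hK.inv' hx hk
  have h2 : t⁻¹ * x * t = x⁻¹ := by
    have : t * x⁻¹ * t⁻¹ = x := by
      have e : t * x⁻¹ * t⁻¹ = (t * x * t⁻¹)⁻¹ := by group
      rw [e, ht, inv_inv]
    calc t⁻¹ * x * t = t⁻¹ * (t * x⁻¹ * t⁻¹) * t := by rw [this]
      _ = x⁻¹ := by group
  have h3 : t⁻¹ * x⁻¹ * t = x := by
    have e : t⁻¹ * x⁻¹ * t = (t⁻¹ * x * t)⁻¹ := by group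
    rw [e, h2, inv_inv]
  have e : t⁻¹ * (x * k * x⁻¹) * t = (t⁻¹ * x * t) * (t⁻¹ * k * t) * (t⁻¹ * x⁻¹ * t) := by group
  rw [e, h2, h3]
  exact h1

theorem MK.cj_inv {x t : G} (hx : orderOf x = 3) (ht : t * x * t⁻¹ = x⁻¹) {K : Subgroup G}
    (htt : t * t = 1) (hK : MK x K) : MK x (cj t K) := by
  refine ⟨hK.ik.cj_inv hx ht, ?_, ?_⟩
  · intro h
    apply hK.ne
    rw [← Subgroup.card_eq_one, card_cj] at h
    exact Subgroup.card_eq_one.1 h
  · intro L hL hle
    have h1 : K ≤ cj t L := by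
      intro k hk
      have hti : t⁻¹ = t := inv_eq_of_mul_eq_one_left htt
      rw [mem_cj]
      apply hle
      rw [mem_cj]
      have : t⁻¹ * (t⁻¹ * k * t) * t = (t⁻¹ * t⁻¹) * k * (t * t) := by group
      rw [this, htt, hti, htt]
      simpa using hk
    have h2 := hK.max _ (hL.cj_inv hx ht) h1
    rw [← h2, cj_cj, htt, cj_one]

theorem IK.sup' {x : G} {K F : Subgroup G} (hK : IK x K) (hF : IK x F) (hKF : K ≤ nor F) :
    IK x (K ⊔ F) := by
  have hx : x ∈ nor F := hF.mem_nor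
  haveI : (F.subgroupOf (nor F)).Normal := Subgroup.normal_in_normalizer
  have hFn : F ≤ nor F := Subgroup.le_normalizer
  have h1 : IK (⟨x, hx⟩ : nor F) (K.subgroupOf (nor F) ⊔ F.subgroupOf (nor F)) :=
    IK.sup (hK.subOf hKF hx) (by rw [card_subOf hFn]; exact hF.co)
  have h2 := h1.map_sub
  rw [Subgroup.map_sup, Subgroup.map_subgroupOf_eq_of_le hKF,
    Subgroup.map_subgroupOf_eq_of_le hFn] at h2
  exact h2

/-- The Sylow subgroups of an invariant subgroup, as subgroups of `G`. -/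
theorem Ctx.nor_sylow {x t : G} (c : Ctx x t) {K : Subgroup G} (hK : MK x K) {p : ℕ}
    (hp : p.Prime) (hpK : p ∣ Nat.card K) :
    ∃ P0 : Subgroup G, P0 ≤ K ∧ IsPGroup p P0 ∧ nor P0 = nor K ∧
      ∃ m, Nat.card K = Nat.card P0 * m ∧ ¬ p ∣ m := by
  haveI : Fact p.Prime := ⟨hp⟩
  haveI hnil := c.nil hK.ik
  obtain ⟨P⟩ : Nonempty (Sylow p K) := inferInstance
  haveI hPn : (P : Subgroup K).Normal := inferInstance
  have hchar : (P : Subgroup K).Characteristic := Sylow.characteristic_of_normal P hPn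
  set P0 := (P : Subgroup K).map K.subtype with hP0
  have hP0K : P0 ≤ K := by
    rw [hP0, Subgroup.map_le_iff_le_comap]
    intro f _
    exact f.2
  have hcard0 : Nat.card P0 = Nat.card (P : Subgroup K) :=
    Subgroup.card_map_of_injective K.subtype_injective
  have hP0p : IsPGroup p P0 := P.isPGroup'.map _
  have hm : ∃ m, Nat.card K = Nat.card P0 * m ∧ ¬ p ∣ m := by
    refine ⟨(P : Subgroup K).index, ?_, P.not_dvd_index⟩
    rw [hcard0]; exact (Subgroup.card_mul_index _).symm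
  have hle : nor K ≤ nor P0 := by
    intro g hg
    apply mem_norm
    rintro _ ⟨k, hk, rfl⟩
    let φ : MulAut K := K.normalizerMonoidHom ⟨g, hg⟩
    have h1 : (P : Subgroup K).map φ.toMonoidHom = P := Subgroup.characteristic_iff_map_eq.1 hchar φ
    have h2 : φ k ∈ (P : Subgroup K) := by
      rw [← h1]
      exact ⟨k, hk, rfl⟩
    exact ⟨φ k, h2, rfl⟩
  refine ⟨P0, hP0K, hP0p, le_antisymm ?_ hle, hm⟩
  have hx : x ∈ nor P0 := hle hK.ik.mem_nor
  have hik0 : IK x P0 := ⟨nor_conj hx, fun h3 => hK.ik.co (h3.trans (Subgroup.card_dvd_of_le hP0K))⟩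
  have hne0 : P0 ≠ ⊥ := by
    intro h
    have h1 : Nat.card P0 = 1 := by rw [h, Subgroup.card_bot]
    obtain ⟨m, hm1, hm2⟩ := hm
    rw [h1, one_mul] at hm1
    exact hm2 (hm1 ▸ hpK)
  have hKH : K ≤ nor P0 := Subgroup.le_normalizer.trans hle
  rcases c.nor_cases hik0 hne0 with ⟨F, hF, hPF⟩ | ⟨F, hF, hPF⟩
  · have h1 : K ≤ F := hF.max K hKH hK.ik
    have h2 := hK.max F (hF.ik hx) h1
    intro g hg
    apply mem_norm
    have := hF.nor g hg
    rwa [h2] at this
  · exfalso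
    have hFik := hF.ik hx
    -- `p = 2`
    have hp2 : p = 2 := by
      have h1 : IsPGroup 2 P0 := hF.two.to_le hPF
      haveI : Fact (Nat.Prime 2) := ⟨Nat.prime_two⟩
      haveI : Nontrivial P0 := (Subgroup.nontrivial_iff_ne_bot _).2 hne0
      obtain ⟨n, hn, hn2⟩ := (IsPGroup.nontrivial_iff_card hP0p).1 inferInstance
      obtain ⟨k, hk, hk2⟩ := (IsPGroup.nontrivial_iff_card h1).1 inferInstance
      have h3 : p ∣ 2 ^ k := by
        rw [← hk2, hn2]; exact dvd_pow_self p (by omega)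
      exact (Nat.prime_dvd_prime_iff_eq hp Nat.prime_two).1 (hp.dvd_of_dvd_pow h3)
    subst hp2
    have hKF : K ≤ nor F := fun k hk => mem_norm (hF.nor k (hKH hk))
    have h1 := hK.max _ (hK.ik.sup' hFik hKF) le_sup_left
    have hFK : F ≤ K := by rw [← h1]; exact le_sup_right
    -- `F = P0`
    have hFP : F ≤ P0 := by
      have h2 : IsPGroup 2 (F.subgroupOf K) := hF.two.comap_of_injective _ K.subtype_injective
      obtain ⟨Q, hQ⟩ := h2.exists_le_sylow
      haveI := Sylow.unique_of_normal P hPn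
      have h3 : Q = P := Subsingleton.elim _ _
      rw [h3] at hQ
      intro f hf
      exact ⟨⟨f, hFK hf⟩, hQ (Subgroup.mem_subgroupOf.2 hf), rfl⟩
    have hFP' : F = P0 := le_antisymm hFP hPF
    obtain ⟨m, hm1, hm2⟩ := hm
    have h4 := hF.odd K hKH hK.ik hFK m (by rw [hFP']; exact hm1)
      (Nat.odd_iff.2 (by omega))
    rw [h4, mul_one] at hm1
    have h5 : F = K := Subgroup.eq_of_le_of_card_ge hFK (by rw [hFP', hm1])
    obtain ⟨L, _, hL, hlt⟩ := hF.big
    rw [h5] at hlt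
    have := hK.max L hL hlt.le
    exact hlt.ne this.symm

end Cfsg.Agent.Lib.C3X
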