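import Cfsg.Agent.Lib.C3XLocal2

/-!
# Groups with a self-centralizing subgroup of order three: Sylow subgroups (helper20)
-/

set_option autoImplicit false
set_option linter.style.haveILetI false
set_option linter.unusedSectionVars false

namespace Cfsg.Agent.Lib.C3X

universe u

variable {G : Type u} [Group G] [Finite G]

/-- The Sylow subgroups of `K` are Sylow in `G` when `p` does not divide `|N(K) : K|`. -/
theorem Ctx.exists_sylow {x t : G} (c : Ctx x t) {K : Subgroup G} (hK : MK x K) {p : ℕ}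
    (hp : p.Prime) (hpK : p ∣ Nat.card K) (hp3 : ¬ p ∣ 6 ∨ (t ∉ nor K ∧ p ≠ 3)) :
    ∃ P : Sylow p G, nor (P : Subgroup G) = nor K := by
  haveI : Fact p.Prime := ⟨hp⟩
  obtain ⟨P0, hP0K, hP0p, hnor, m, hm, hpm⟩ := c.nor_sylow hK hp hpK
  obtain ⟨d, hd, hpd⟩ : ∃ d, Nat.card (nor K) = d * Nat.card K ∧ ¬ p ∣ d := by
    rcases c.index_MK hK with ⟨h1, h2⟩ | ⟨h1, h2⟩
    · refine ⟨6, h2, ?_⟩
      rcases hp3 with h3 | h3
      · exact h3
      · exact absurd h1 h3.1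
    · refine ⟨3, h2, ?_⟩
      intro h4
      have h5 : p = 3 := (Nat.prime_dvd_prime_iff_eq hp Nat.prime_three).1 h4
      rcases hp3 with h3 | h3
      · exact h3 (by rw [h5]; norm_num)
      · exact h3.2 h5
  obtain ⟨n, hn⟩ := IsPGroup.iff_card.1 hP0p
  have h1 := Sylow.card_quotient_normalizer_modEq_card_quotient hn
  have h2 : Nat.card (nor P0) = Nat.card P0 * Nat.card (nor P0 ⧸ P0.subgroupOf (nor P0)) := card_norm P0
  have hpos : 0 < Nat.card P0 := Nat.card_pos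
  have h3 : Nat.card (nor P0 ⧸ P0.subgroupOf (nor P0)) = d * m := by
    rw [hnor, hd, hm] at h2
    rw [hnor]
    apply Nat.eq_of_mul_eq_mul_left hpos
    rw [← h2]; ring
  have h4 : ¬ p ∣ P0.index := by
    intro h5
    have h6 : ¬ p ∣ Nat.card (nor P0 ⧸ P0.subgroupOf (nor P0)) := by
      rw [h3]
      intro h7
      rcases (hp.dvd_mul).1 h7 with h8 | h8
      · exact hpd h8
      · exact hpm h8
    apply h6
    have h7 : Nat.card (nor P0 ⧸ P0.subgroupOf (nor P0)) ≡ Nat.card (G ⧸ P0) [MOD p] := h1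
    exact (Nat.ModEq.dvd_iff h7 (dvd_refl p)).2 h5
  exact ⟨hP0p.toSylow h4, by rw [IsPGroup.toSylow_coe]; exact hnor⟩

theorem nor_smul {p : ℕ} (P : Sylow p G) (g : G) :
    nor ((g • P : Sylow p G) : Subgroup G) = cj g (nor (P : Subgroup G)) := by
  ext y
  rw [mem_cj]
  have h1 : ((g • P : Sylow p G) : Subgroup G) = cj g (P : Subgroup G) := rfl
  rw [h1, mem_nor_cj]

/-- Conjugate Sylow subgroups of two maximal subgroups. -/
theorem Ctx.cj_le {x t : G} (c : Ctx x t) {K K' : Subgroup G} (hK : MK x K) (hK' : MK x K')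
    {g : G} (h : nor K' = cj g (nor K)) : cj g K ≤ K' := by
  have hT := c.nor_MK hK'
  apply hT.max
  · rw [h]
    intro y hy
    rw [mem_cj] at hy ⊢
    exact Subgroup.le_normalizer hy
  · refine ⟨fun k hk => ?_, by rw [card_cj]; exact hK.ik.co⟩
    have hx : x ∈ nor K' := hK'.ik.mem_nor
    rw [h, mem_cj] at hx
    rw [mem_cj] at hk ⊢
    have h1 := nor_conj hx _ hk
    have e : g⁻¹ * (x * k * x⁻¹) * g = g⁻¹ * x * g * (g⁻¹ * k * g) * (g⁻¹ * x * g)⁻¹ := by group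
    rw [e]; exact h1

theorem Ctx.eq_of_nor {x t : G} (c : Ctx x t) {K K' : Subgroup G} (hK : MK x K) (hK' : MK x K')
    {g : G} (h : nor K' = cj g (nor K)) : K' = K ∨ K' = cj t K := by
  have h' : nor K = cj g⁻¹ (nor K') := by
    rw [h, cj_cj, inv_mul_cancel, cj_one]
  have h1 := c.cj_le hK hK' h
  have h2 := c.cj_le hK' hK h'
  have h3 : Nat.card K' ≤ Nat.card (cj g K) := by
    rw [card_cj]
    have := Subgroup.card_le_of_le h2
    rwa [card_cj] at this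
  have h4 : cj g K = K' := Subgroup.eq_of_le_of_card_ge h1 h3
  -- conjugate the elements of order three in the normalizer
  have hx : x ∈ nor K' := hK'.ik.mem_nor
  have hgx : g * x * g⁻¹ ∈ nor K' := by
    rw [h]; exact conj_mem_cj hK.ik.mem_nor
  have hs := c.sc.of_subgroup hx
  have ho : orderOf (⟨g * x * g⁻¹, hgx⟩ : nor K') = 3 := by
    rw [Subgroup.orderOf_mk, ord_conj, c.sc.ord]
  obtain ⟨y, hy⟩ := hs.exists_conj ho
  have h5 : K' = cj ((y : G)⁻¹ * g) K := by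
    rw [← cj_cj, h4, cj_eq_of_mem_nor (inv_mem y.2)]
  rcases hy with hy | hy
  · have hy' : (y : G) * x * (y : G)⁻¹ = g * x * g⁻¹ := congrArg Subtype.val hy
    left
    have h6 : (y : G)⁻¹ * g * x = x * ((y : G)⁻¹ * g) := by
      calc (y : G)⁻¹ * g * x = (y : G)⁻¹ * (g * x * g⁻¹) * g := by group
        _ = (y : G)⁻¹ * (y * x * (y : G)⁻¹) * g := by rw [hy']
        _ = _ := by group
    have h7 : (y : G)⁻¹ * g ∈ nor K :=
      (Subgroup.zpowers_le.2 hK.ik.mem_nor) (c.sc.cent _ h6)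
    rw [h5, cj_eq_of_mem_nor h7]
  · have hy' : (y : G) * x * (y : G)⁻¹ = (g * x * g⁻¹)⁻¹ := congrArg Subtype.val hy
    right
    have h6 : ((y : G)⁻¹ * g) * x * ((y : G)⁻¹ * g)⁻¹ = x⁻¹ := by
      calc ((y : G)⁻¹ * g) * x * ((y : G)⁻¹ * g)⁻¹ = ((y : G)⁻¹ * (g * x * g⁻¹)⁻¹ * y)⁻¹ := by group
        _ = ((y : G)⁻¹ * (y * x * (y : G)⁻¹) * y)⁻¹ := by rw [hy']
        _ = _ := by group
    have hxK : x ∈ nor K := hK.ik.mem_nor
    rw [h5]
    rcases c.sc.inverters c.inv h6 with h7 | h7 | h7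
    · rw [h7]
    · rw [h7, ← cj_cj, cj_eq_of_mem_nor hxK]
    · rw [h7, ← cj_cj, cj_eq_of_mem_nor (inv_mem hxK)]

/-- Two maximal subgroups with a common prime divisor. -/
theorem Ctx.eq_of_prime {x t : G} (c : Ctx x t) {K K' : Subgroup G} (hK : MK x K) (hK' : MK x K')
    {p : ℕ} (hp : p.Prime) (hpK : p ∣ Nat.card K) (hpK' : p ∣ Nat.card K')
    (h1 : ¬ p ∣ 6 ∨ t ∉ nor K) (h2 : ¬ p ∣ 6 ∨ t ∉ nor K') : K' = K ∨ K' = cj t K := by
  haveI : Fact p.Prime := ⟨hp⟩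
  have hp3 : p ≠ 3 := by
    rintro rfl
    exact hK.ik.co hpK
  obtain ⟨P, hP⟩ := c.exists_sylow hK hp hpK (h1.imp_right (fun h => ⟨h, hp3⟩))
  obtain ⟨P', hP'⟩ := c.exists_sylow hK' hp hpK' (h2.imp_right (fun h => ⟨h, hp3⟩))
  obtain ⟨g, hg⟩ := MulAction.exists_smul_eq G P P'
  apply c.eq_of_nor hK hK' (g := g)
  rw [← hP', ← hg, nor_smul, hP]

end Cfsg.Agent.Lib.C3X
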