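import Cfsg.Agent.Lib.C3XLocal3
import Cfsg.Agent.Lib.Cores3

/-!
# Groups with a self-centralizing subgroup of order three: orders (helper20)
-/

set_option autoImplicit false
set_option linter.style.haveILetI false
set_option linter.unusedSectionVars false

namespace Cfsg.Agent.Lib.C3X

universe u

variable {G : Type u} [Group G] [Finite G]

theorem two_dvd_of {D : Subgroup G} (h : IsPGroup 2 D) (hne : D ≠ ⊥) : 2 ∣ Nat.card D := by
  haveI : Fact (Nat.Prime 2) := ⟨Nat.prime_two⟩
  haveI : Nontrivial D := (Subgroup.nontrivial_iff_ne_bot _).2 hne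
  obtain ⟨n, hn, hn2⟩ := (IsPGroup.nontrivial_iff_card h).1 inferInstance
  rw [hn2]; exact dvd_pow_self 2 (by omega)

/-- If `t` does not normalize `K` and `K ∩ Kᵗ ≠ 1` then `|K|` is even. -/
theorem Ctx.even_of_inf {x t : G} (c : Ctx x t) {K : Subgroup G} (hK : MK x K) (ht : t ∉ nor K)
    (hne : K ⊓ cj t K ≠ ⊥) : 2 ∣ Nat.card K := by
  have htt := c.sc.inv_sq c.inv
  have hti : t⁻¹ = t := inv_eq_of_mul_eq_one_left htt
  have hK' : MK x (cj t K) := hK.cj_inv c.sc.ord c.inv htt
  set D := K ⊓ cj t K with hD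
  have hDik : IK x D := hK.ik.inf hK'.ik.mem_nor
  have htD : ∀ d ∈ D, t * d * t⁻¹ ∈ D := by
    intro d hd
    refine Subgroup.mem_inf.2 ⟨?_, conj_mem_cj hd.1⟩
    have := mem_cj.1 hd.2
    rw [hti] at this ⊢
    exact this
  have hDK : D < K := by
    refine lt_of_le_of_ne inf_le_left ?_
    intro h1
    apply ht
    have h2 : D ≤ cj t K := inf_le_right
    rw [h1] at h2
    exact mem_nor_of_cj (hK.eq_of_le hK' h2).symm
  have hA := norm_lt (c.nil hK.ik) hDK
  have hx : x ∈ nor D := hDik.mem_nor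
  have htnor : t ∈ nor D := mem_norm htD
  have hAik : IK x (K ⊓ nor D) := hK.ik.inf (self_mem_nor _ hx)
  rcases c.nor_cases hDik hne with ⟨F, hF, hDF⟩ | ⟨F, hF, hDF⟩
  · exfalso
    have h1 := hF.max _ inf_le_right hAik
    have hFne : F ≠ ⊥ := by
      rintro rfl
      exact hne (le_bot_iff.1 hDF)
    obtain ⟨M, hM, hFM⟩ := exists_MK (hF.ik hx) hFne
    have htM : t ∉ nor M := by
      intro htM
      have hKM : K ≠ M := by
        rintro rfl
        exact ht htM
      have h2 := c.ti hM htM hK hKM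
      have h3 : K ⊓ nor D ≤ M ⊓ K := le_inf (h1.trans hFM) inf_le_left
      rw [h2] at h3
      exact absurd (hA.le.trans h3) (fun h4 => hne (le_bot_iff.1 h4))
    obtain ⟨p, hp, hpD⟩ := Nat.exists_prime_and_dvd (n := Nat.card D)
      (fun h => hne (Subgroup.card_eq_one.1 h))
    have hpK := hpD.trans (Subgroup.card_dvd_of_le hDK.le)
    have hpM := hpD.trans (Subgroup.card_dvd_of_le (hDF.trans hFM))
    -- `F` is `t`-invariant
    have hFt : F ≤ cj t M := by
      intro f hf
      rw [mem_cj]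
      have := hF.nor t htnor f hf
      rw [hti] at this ⊢
      exact hFM this
    have hFD : F ≤ D := by
      rcases c.eq_of_prime hK hM hp hpK hpM (Or.inr ht) (Or.inr htM) with h4 | h4
      · rw [h4] at hFM hFt
        exact le_inf hFM hFt
      · rw [h4] at hFM hFt
        rw [cj_cj, htt, cj_one] at hFt
        exact le_inf hFt hFM
    exact absurd (h1.trans hFD) (not_le_of_gt hA)
  · have h1 : IsPGroup 2 D := hF.two.to_le hDF
    exact (two_dvd_of h1 hne).trans (Subgroup.card_dvd_of_le hDK.le)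

/-- A central involution of a nilpotent subgroup of even order. -/
theorem exists_central_inv {K : Subgroup G} (hK : Group.IsNilpotent K) (h2 : 2 ∣ Nat.card K) :
    ∃ z ∈ K, orderOf z = 2 ∧ ∀ k ∈ K, k * z = z * k := by
  haveI : Fact (Nat.Prime 2) := ⟨Nat.prime_two⟩
  obtain ⟨P⟩ : Nonempty (Sylow 2 K) := inferInstance
  have hPn : (P : Subgroup K).Normal := inferInstance
  have hPne : (P : Subgroup K) ≠ ⊥ := P.ne_bot_of_dvd_card h2
  obtain ⟨w, hwP, hwZ, hw1⟩ := Cores.exists_mem_center_of_normal hPn hPne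
  have hE : IsPGroup 2 ((P : Subgroup K) ⊓ Subgroup.center K : Subgroup K) :=
    P.isPGroup'.to_le inf_le_left
  have hEne : ((P : Subgroup K) ⊓ Subgroup.center K : Subgroup K) ≠ ⊥ := by
    intro h
    have : w ∈ ((P : Subgroup K) ⊓ Subgroup.center K : Subgroup K) := ⟨hwP, hwZ⟩
    rw [h] at this
    exact hw1 (Subgroup.mem_bot.1 this)
  obtain ⟨⟨z, hz⟩, hz2⟩ := exists_prime_orderOf_dvd_card' 2 (two_dvd_of hE hEne)
  rw [Subgroup.orderOf_mk] at hz2
  refine ⟨z, z.2, by rw [Subgroup.orderOf_coe, hz2], ?_⟩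
  intro k hk
  have := Subgroup.mem_center_iff.1 hz.2 ⟨k, hk⟩
  exact congrArg Subtype.val this

theorem card_cent_conj {s t : G} (h : IsConj t s) :
    Nat.card (Subgroup.centralizer ({s} : Set G)) = Nat.card (Subgroup.centralizer ({t} : Set G)) := by
  obtain ⟨g, rfl⟩ := isConj_iff.1 h
  have : Subgroup.centralizer ({g * t * g⁻¹} : Set G) = cj g (Subgroup.centralizer ({t} : Set G)) := by
    ext y
    rw [mem_cj, Subgroup.mem_centralizer_singleton_iff, Subgroup.mem_centralizer_singleton_iff]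
    constructor
    · intro h1
      calc g⁻¹ * y * g * t = g⁻¹ * (y * (g * t * g⁻¹)) * g := by group
        _ = g⁻¹ * (g * t * g⁻¹ * y) * g := by rw [h1]
        _ = _ := by group
    · intro h1
      calc y * (g * t * g⁻¹) = g * (g⁻¹ * y * g * t) * g⁻¹ := by group
        _ = g * (t * (g⁻¹ * y * g)) * g⁻¹ := by rw [h1]
        _ = _ := by group
  rw [this, card_cj]

theorem card_dvd_of_even {t : G} (hconj : ∀ s : G, orderOf s = 2 → IsConj t s) {K : Subgroup G}
    (hK : Group.IsNilpotent K) (h2 : 2 ∣ Nat.card K) :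
    Nat.card K ∣ Nat.card (Subgroup.centralizer ({t} : Set G)) := by
  obtain ⟨z, _, hz2, hzc⟩ := exists_central_inv hK h2
  rw [← card_cent_conj (hconj z hz2)]
  apply Subgroup.card_dvd_of_le
  intro k hk
  rw [Subgroup.mem_centralizer_singleton_iff]
  exact hzc k hk

theorem Ctx.two_card_dvd {x t : G} (c : Ctx x t) (hconj : ∀ s : G, orderOf s = 2 → IsConj t s)
    {K : Subgroup G} (hK : IK x K) (htK : t ∈ nor K) (h2 : 2 ∣ Nat.card K) :
    2 * Nat.card K ∣ Nat.card (Subgroup.centralizer ({t} : Set G)) := by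
  have htt := c.sc.inv_sq c.inv
  have hti : t⁻¹ = t := inv_eq_of_mul_eq_one_left htt
  obtain ⟨z0, hz0K, hz02, hz0c⟩ := exists_central_inv (c.nil hK) h2
  haveI : Fact (Nat.Prime 2) := ⟨Nat.prime_two⟩
  have hz0s : z0 * z0 = 1 := by rw [← pow_two, ← hz02, pow_orderOf_eq_one]
  have hz01 : z0 ≠ 1 := by rintro rfl; rw [orderOf_one] at hz02; omega
  -- a central involution commuting with `t`
  obtain ⟨z, hz1, hzz, hzc, hzt⟩ : ∃ z : G, z ≠ 1 ∧ z * z = 1 ∧ (∀ k ∈ K, k * z = z * k) ∧
      t * z = z * t := by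
    by_cases h : t * z0 = z0 * t
    · exact ⟨z0, hz01, hz0s, hz0c, h⟩
    · have hw : ∀ k ∈ K, k * (t * z0 * t⁻¹) = (t * z0 * t⁻¹) * k := by
        intro k hk
        have hk' := nor_conj htK k hk
        rw [hti] at hk' ⊢
        have h1 := hz0c _ hk'
        calc k * (t * z0 * t) = t * t * k * (t * z0 * t) := by rw [htt, one_mul]
          _ = t * (t * k * t * z0) * t := by group
          _ = t * (z0 * (t * k * t)) * t := by rw [h1]
          _ = t * z0 * t * k * (t * t) := by group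
          _ = _ := by rw [htt, mul_one]
      have hwK : t * z0 * t⁻¹ ∈ K := nor_conj htK _ hz0K
      have hcomm : z0 * (t * z0 * t⁻¹) = (t * z0 * t⁻¹) * z0 := (hz0c _ hwK).symm
      have hww : (t * z0 * t⁻¹) * (t * z0 * t⁻¹) = 1 := by
        calc (t * z0 * t⁻¹) * (t * z0 * t⁻¹) = t * (z0 * z0) * t⁻¹ := by group
          _ = 1 := by rw [hz0s]; group
      refine ⟨z0 * (t * z0 * t⁻¹), ?_, ?_, ?_, ?_⟩
      · intro h1
        apply h
        have h2 : t * z0 * t⁻¹ = z0 := by
          have h3 : z0 * (t * z0 * t⁻¹) = z0 * z0 := by rw [h1, hz0s]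
          exact mul_left_cancel h3
        calc t * z0 = t * z0 * t⁻¹ * t := by group
          _ = z0 * t := by rw [h2]
      · calc z0 * (t * z0 * t⁻¹) * (z0 * (t * z0 * t⁻¹)) =
            z0 * ((t * z0 * t⁻¹) * z0) * (t * z0 * t⁻¹) := by group
          _ = z0 * (z0 * (t * z0 * t⁻¹)) * (t * z0 * t⁻¹) := by rw [hcomm]
          _ = (z0 * z0) * ((t * z0 * t⁻¹) * (t * z0 * t⁻¹)) := by group
          _ = 1 := by rw [hz0s, hww, one_mul]
      · intro k hk
        calc k * (z0 * (t * z0 * t⁻¹)) = (k * z0) * (t * z0 * t⁻¹) := by group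
          _ = z0 * (k * (t * z0 * t⁻¹)) := by rw [hz0c k hk]; group
          _ = z0 * ((t * z0 * t⁻¹) * k) := by rw [hw k hk]
          _ = _ := by group
      · calc t * (z0 * (t * z0 * t⁻¹)) = (t * z0 * t⁻¹) * (t * t) * z0 * t⁻¹ := by group
          _ = (t * z0 * t⁻¹) * z0 * t⁻¹ := by rw [htt, mul_one]
          _ = z0 * (t * z0 * t⁻¹) * t⁻¹ := by rw [hcomm]
          _ = _ := by rw [hti]
  have hzo : orderOf z = 2 := orderOf_eq_prime (by rw [pow_two, hzz]) hz1
  rw [← card_cent_conj (hconj z hzo)]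
  -- `K ⟨t⟩ ≤ C(z)`
  set M := Subgroup.centralizer ({z} : Set G) with hM
  have hKM : K ≤ M := by
    intro k hk
    rw [hM, Subgroup.mem_centralizer_singleton_iff]
    exact hzc k hk
  have htM : t ∈ M := by
    rw [hM, Subgroup.mem_centralizer_singleton_iff]
    exact hzt
  have h3 := dvd_of_norm (K := K.subgroupOf M) (y := (⟨t, htM⟩ : M)) Nat.prime_two
    (by
      intro k hk
      rw [Subgroup.mem_subgroupOf] at hk ⊢
      exact nor_conj htK _ hk)
    (by ext; simpa [pow_two] using htt)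
    (by
      intro h4
      exact c.sc.t_not_mem c.inv hK (Subgroup.mem_subgroupOf.1 h4))
  have h4 := card_norm (K.subgroupOf M)
  have h5 := Subgroup.card_subgroup_dvd_card (Subgroup.normalizer ((K.subgroupOf M : Subgroup M) : Set M))
  rw [h4, card_subOf hKM] at h5
  refine dvd_trans ?_ h5
  rw [mul_comm]
  exact mul_dvd_mul_left _ h3

end Cfsg.Agent.Lib.C3X
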