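import Mathlib

set_option autoImplicit false

/-!
# Groups with fewer than `p²` Sylow `p`-subgroups (helper72)

If `n_p(G) < p²` then for distinct Sylow `p`-subgroups `P`, `Q` the intersection `P ∩ Q` has
index `p` in `P` and lies in every Sylow `p`-subgroup (so it equals `O_p(G)`).
-/

namespace Cfsg.Agent.Lib.SylowFew

open Pointwise

variable {G : Type*} [Group G] [Finite G] {p : ℕ} [hp : Fact p.Prime]

theorem card_sylow_eq (P Q : Sylow p G) : Nat.card P = Nat.card Q :=
  P.card_eq_multiplicity.trans Q.card_eq_multiplicity.symm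

theorem relIndex_mul_card_inf (P Q : Subgroup G) :
    Q.relIndex P * Nat.card (P ⊓ Q : Subgroup G) = Nat.card P := by
  have h := (Q.subgroupOf P).index_mul_card
  rw [← h]
  congr 1
  rw [← Subgroup.inf_subgroupOf_left]
  exact (Nat.card_congr (Subgroup.subgroupOfEquivOfLe (inf_le_left : P ⊓ Q ≤ P)).toEquiv).symm

/-- orbit of `Q` under `P` has `|P : P ∩ Q|` elements. -/
theorem card_orbit_eq (P Q : Sylow p G) :
    Nat.card (MulAction.orbit (P : Subgroup G) Q) = (Q : Subgroup G).relIndex P := by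
  have h1 : Nat.card (MulAction.orbit (P : Subgroup G) Q) =
      (MulAction.stabilizer (P : Subgroup G) Q).index := by
    rw [MulAction.index_stabilizer]
    rfl
  rw [h1]
  congr 1
  ext x
  rw [MulAction.mem_stabilizer_iff, Subgroup.mem_subgroupOf]
  have h2 : (x • Q = Q) ↔ ((x : G) ∈ Subgroup.normalizer ((Q : Subgroup G) : Set G)) :=
    Sylow.smul_eq_iff_mem_normalizer (g := (x : G)) (P := Q)
  rw [h2]
  have h3 := P.2.inf_normalizer_sylow Q
  have h4 := SetLike.ext_iff.mp h3 (x : G)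
  simpa using h4

theorem relIndex_eq_prime (hn : Nat.card (Sylow p G) < p ^ 2) (P Q : Sylow p G) (hPQ : P ≠ Q) :
    (Q : Subgroup G).relIndex P = p := by
  have h1 : (Q : Subgroup G).relIndex P ≤ Nat.card (Sylow p G) := by
    rw [← card_orbit_eq]
    exact Nat.card_le_card_of_injective _ Subtype.val_injective
  obtain ⟨n, hn'⟩ := IsPGroup.iff_card.mp P.2
  have h2 : (Q : Subgroup G).relIndex P ∣ p ^ n := by
    rw [← hn']
    exact Subgroup.relIndex_dvd_card _ _
  obtain ⟨m, hm, hm2⟩ := (Nat.dvd_prime_pow hp.out).mp h2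
  rw [hm2] at h1 ⊢
  have h3 : m < 2 := by
    have := h1.trans_lt hn
    exact (Nat.pow_lt_pow_iff_right hp.out.one_lt).mp this
  have h4 : m ≠ 0 := by
    rintro rfl
    rw [pow_zero] at hm2
    have h5 := Subgroup.relIndex_eq_one.mp hm2
    exact hPQ (Sylow.ext (P.3 Q.2 h5).symm)
  have h5 : m = 1 := by omega
  rw [h5, pow_one]

theorem card_inf_eq (hn : Nat.card (Sylow p G) < p ^ 2) (P Q R S : Sylow p G) (hPQ : P ≠ Q)
    (hRS : R ≠ S) :
    Nat.card ((P : Subgroup G) ⊓ Q : Subgroup G) = Nat.card ((R : Subgroup G) ⊓ S : Subgroup G) := by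
  have h1 := relIndex_mul_card_inf (P : Subgroup G) Q
  have h2 := relIndex_mul_card_inf (R : Subgroup G) S
  rw [relIndex_eq_prime hn P Q hPQ] at h1
  rw [relIndex_eq_prime hn R S hRS, card_sylow_eq R P, ← h1] at h2
  exact (Nat.eq_of_mul_eq_mul_left hp.out.pos h2).symm

/-- If `R` contains `P ∩ Q` and differs from `P` then `P ∩ R = P ∩ Q`. -/
theorem inf_eq_of_le (hn : Nat.card (Sylow p G) < p ^ 2) (P Q R : Sylow p G) (hPQ : P ≠ Q)
    (hPR : P ≠ R) (h : (P : Subgroup G) ⊓ Q ≤ R) : (P : Subgroup G) ⊓ R = (P : Subgroup G) ⊓ Q := by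
  symm
  apply Subgroup.eq_of_le_of_card_ge (le_inf inf_le_left h)
  exact (card_inf_eq hn P R P Q hPR hPQ).le

/-- `P ∩ Q` is normalized by `P`. -/
theorem le_normalizer_inf (hn : Nat.card (Sylow p G) < p ^ 2) (P Q : Sylow p G) (hPQ : P ≠ Q) :
    (P : Subgroup G) ≤ Subgroup.normalizer (((P : Subgroup G) ⊓ Q : Subgroup G) : Set G) := by
  have h1 : ((Q : Subgroup G).subgroupOf P).index = p := relIndex_eq_prime hn P Q hPQ
  have h2 : ((Q : Subgroup G).subgroupOf P).Normal := by
    apply Subgroup.normal_of_index_eq_minFac_card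
    rw [h1]
    obtain ⟨n, hn'⟩ := IsPGroup.iff_card.mp P.2
    have h3 : n ≠ 0 := by
      rintro rfl
      rw [pow_zero] at hn'
      have h4 := (Q : Subgroup G).relIndex_dvd_card P
      rw [hn', relIndex_eq_prime hn P Q hPQ] at h4
      exact hp.out.one_lt.ne' (Nat.dvd_one.mp h4)
    rw [hn', Nat.Prime.pow_minFac hp.out h3]
  have h3 : (((P : Subgroup G) ⊓ Q).subgroupOf P).Normal := by
    rwa [Subgroup.inf_subgroupOf_left]
  exact (Subgroup.normal_subgroupOf_iff_le_normalizer inf_le_left).mp h3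

/-- The number of Sylow subgroups `≠ P` containing `P ∩ Q` is at least `p`. -/
theorem le_card_line (hn : Nat.card (Sylow p G) < p ^ 2) (P Q : Sylow p G) (hPQ : P ≠ Q) :
    p ≤ Nat.card {T : Sylow p G // T ≠ P ∧ (P : Subgroup G) ⊓ Q ≤ T} := by
  refine (relIndex_eq_prime hn P Q hPQ).ge.trans ?_
  rw [← card_orbit_eq]
  refine Nat.card_le_card_of_injective (fun T => ⟨T.1, ?_, ?_⟩) ?_
  · rintro h
    obtain ⟨x, hx⟩ := T.2
    have hx' : x • Q = T.1 := hx
    rw [h] at hx'
    have h2 : x⁻¹ • P = P := by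
      have h3 : ((x⁻¹ : (P : Subgroup G)) : G) • P = P := by
        rw [Sylow.smul_eq_iff_mem_normalizer]
        exact Subgroup.le_normalizer (x⁻¹).2
      exact h3
    apply hPQ
    calc P = x⁻¹ • P := h2.symm
      _ = x⁻¹ • (x • Q) := by rw [hx']
      _ = Q := inv_smul_smul x Q
  · obtain ⟨x, hx⟩ := T.2
    have hx' : x • Q = T.1 := hx
    have hN := le_normalizer_inf hn P Q hPQ (x⁻¹).2
    intro y hy
    rw [← hx']
    have h4 : y ∈ (((x : G) • Q : Sylow p G) : Subgroup G) := by
      rw [Sylow.coe_subgroup_smul, Subgroup.mem_pointwise_smul_iff_inv_smul_mem]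
      rw [Subgroup.mem_normalizer_iff] at hN
      have h5 := (hN y).mp hy
      have h6 : ((x⁻¹ : (P : Subgroup G)) : G) * y * ((x⁻¹ : (P : Subgroup G)) : G)⁻¹ ∈ (Q : Subgroup G) :=
        (Subgroup.mem_inf.mp h5).2
      rw [InvMemClass.coe_inv, inv_inv] at h6
      rw [← MulAut.conj_inv_apply] at h6
      exact h6
    exact h4
  · intro S T h
    exact Subtype.ext (congrArg (fun z => z.1) h)

theorem inf_le_all (hn : Nat.card (Sylow p G) < p ^ 2) (P Q R : Sylow p G) (hPQ : P ≠ Q) :
    (P : Subgroup G) ⊓ Q ≤ R := by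
  classical
  by_contra hR
  have hRP : R ≠ P := by rintro rfl; exact hR inf_le_left
  have hRQ : R ≠ Q := by rintro rfl; exact hR inf_le_right
  haveI : Fintype (Sylow p G) := Fintype.ofFinite _
  let L : Finset (Sylow p G) := Finset.univ.filter (fun S => (P : Subgroup G) ⊓ Q ≤ S)
  let M : Sylow p G → Finset (Sylow p G) := fun S =>
    Finset.univ.filter (fun T => T ≠ R ∧ (R : Subgroup G) ⊓ S ≤ T)
  have hLR : ∀ S ∈ L, R ≠ S := by
    rintro S hS rfl
    exact hR (by simpa [L] using hS)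
  have hL : p + 1 ≤ L.card := by
    have h1 := le_card_line hn P Q hPQ
    have h2 : Nat.card {T : Sylow p G // T ≠ P ∧ (P : Subgroup G) ⊓ Q ≤ T} =
        (L.erase P).card := by
      rw [Nat.card_eq_fintype_card, Fintype.card_subtype]
      congr 1
      ext T
      simp [L, Finset.mem_erase]
    rw [h2] at h1
    have h3 : P ∈ L := by simp [L]
    rw [Finset.card_erase_of_mem h3] at h1
    have h4 : 0 < L.card := Finset.card_pos.mpr ⟨P, h3⟩
    omega
  have hM : ∀ S ∈ L, p ≤ (M S).card := by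
    intro S hS
    have h1 := le_card_line hn R S (hLR S hS)
    rw [Nat.card_eq_fintype_card, Fintype.card_subtype] at h1
    exact h1
  have hdisj : ∀ S ∈ L, ∀ S' ∈ L, S ≠ S' → Disjoint (M S) (M S') := by
    intro S hS S' hS' hne
    rw [Finset.disjoint_left]
    intro T hT hT'
    simp only [M, Finset.mem_filter, Finset.mem_univ, true_and] at hT hT'
    simp only [L, Finset.mem_filter, Finset.mem_univ, true_and] at hS hS'
    have hRS : R ≠ S := by rintro rfl; exact hR hS
    have hRS' : R ≠ S' := by rintro rfl; exact hR hS'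
    have h1 := inf_eq_of_le hn R S T hRS hT.1.symm hT.2
    have h2 := inf_eq_of_le hn R S' T hRS' hT.1.symm hT'.2
    have h3 : (R : Subgroup G) ⊓ S = (R : Subgroup G) ⊓ S' := h1.symm.trans h2
    -- S ∩ S' = P ∩ Q
    have h4 : (P : Subgroup G) ⊓ Q = (S : Subgroup G) ⊓ S' := by
      apply Subgroup.eq_of_le_of_card_ge (le_inf hS hS')
      exact (card_inf_eq hn S S' P Q hne hPQ).le
    have h5 : (R : Subgroup G) ⊓ S = (S : Subgroup G) ⊓ S' := by
      apply Subgroup.eq_of_le_of_card_ge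
      · refine le_inf inf_le_right ?_
        rw [h3]
        exact inf_le_right
      · exact (card_inf_eq hn S S' R S hne hRS).le
    apply hR
    rw [h4, ← h5]
    exact inf_le_left
  have hU : (L.biUnion M).card = ∑ S ∈ L, (M S).card := Finset.card_biUnion hdisj
  have h1 : (p + 1) * p ≤ (L.biUnion M).card := by
    rw [hU]
    calc (p + 1) * p ≤ L.card * p := Nat.mul_le_mul_right _ hL
      _ = ∑ S ∈ L, p := by simp
      _ ≤ ∑ S ∈ L, (M S).card := Finset.sum_le_sum hM
  have h2 : (L.biUnion M).card ≤ Nat.card (Sylow p G) := by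
    rw [Nat.card_eq_fintype_card]
    exact Finset.card_le_univ _
  have h3 : (p + 1) * p < p ^ 2 := (h1.trans h2).trans_lt hn
  nlinarith [hp.out.pos]

end Cfsg.Agent.Lib.SylowFew
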