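import Cfsg.Agent.Lib.SmallSimple3
import Cfsg.Agent.Lib.SylowFew
import Cfsg.Agent.S0985
import Cfsg.Agent.Lib.Burnside

/-!
A numerical sieve for the orders of non-abelian finite simple groups (helper9).
-/

set_option autoImplicit false

namespace Cfsg.Agent.Lib.SmallSieve

open Subgroup Cfsg.Agent.Lib.SmallSimple

variable {G : Type*} [Group G] [Finite G]

omit [Finite G] in
/-- a proper nontrivial subgroup has proper normalizer -/
theorem normalizer_ne_top' [IsSimpleGroup G] {D : Subgroup G} (h1 : D ≠ ⊥) (h2 : D ≠ ⊤) :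
    normalizer (D : Set G) ≠ ⊤ := by
  intro h
  have : D.Normal := normalizer_eq_top_iff.1 h
  rcases IsSimpleGroup.eq_bot_or_eq_top_of_normal D this with h3 | h3
  · exact h1 h3
  · exact h2 h3

/-- If the number of Sylow `p`-subgroups is not 1 mod `p^2`, there are two of them with intersection of index `p`. -/
theorem exists_pair [IsSimpleGroup G] (hG : ¬ IsMulCommutative G) {p k m : ℕ} [hp : Fact p.Prime]
    (h : Nat.card G = p ^ k * m) (hm : ¬ p ∣ m) (hk : 2 ≤ k) (hn : ¬ Nat.card (Sylow p G) ≡ 1 [MOD p ^ 2]) :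
    ∃ P R : Sylow p G, P ≠ R ∧ Nat.card ((P : Subgroup G) ⊓ (R : Subgroup G) : Subgroup G) = p ^ (k - 1) ∧
      (P : Subgroup G) ≤ normalizer (((P : Subgroup G) ⊓ (R : Subgroup G) : Subgroup G) : Set G) ∧
      (R : Subgroup G) ≤ normalizer (((P : Subgroup G) ⊓ (R : Subgroup G) : Subgroup G) : Set G) ∧
      normalizer (((P : Subgroup G) ⊓ (R : Subgroup G) : Subgroup G) : Set G) ≠ ⊤ ∧
      ∃ t d : ℕ, Nat.card (normalizer (((P : Subgroup G) ⊓ (R : Subgroup G) : Subgroup G) : Set G)) = p ^ k * t ∧
        t ∣ m ∧ d ∣ t ∧ d % p = 1 ∧ d ≠ 1 := by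
  obtain ⟨P, R, hPR, hidx⟩ := Cfsg.Agent.S0985.result p 2 hn
  have hPc : Nat.card (P : Subgroup G) = p ^ k := sylow_card_of h hm P
  have hRc : Nat.card (R : Subgroup G) = p ^ k := sylow_card_of h hm R
  have hpp := hp.out
  -- the index is exactly `p`
  have hidx' : (R : Subgroup G).relIndex (P : Subgroup G) = p := by
    have h1 : ((R : Subgroup G).subgroupOf (P : Subgroup G)).index ≤ p := by simpa using hidx
    obtain ⟨j, hj⟩ := P.2.index ((R : Subgroup G).subgroupOf (P : Subgroup G))
    change ((R : Subgroup G).subgroupOf (P : Subgroup G)).index = p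
    rcases Nat.lt_or_ge 1 j with h2 | h2
    · exfalso
      rw [hj] at h1
      have : p ^ 1 < p ^ j := Nat.pow_lt_pow_right hpp.one_lt h2
      rw [pow_one] at this
      omega
    · interval_cases j
      · exfalso
        rw [pow_zero, index_eq_one, subgroupOf_eq_top] at hj
        apply hPR
        apply Sylow.ext
        exact P.is_maximal' R.2 hj |>.symm
      · rw [hj, pow_one]
  have hcardeq : (P : Subgroup G).relIndex (R : Subgroup G) = (R : Subgroup G).relIndex (P : Subgroup G) := by
    have e1 := Cfsg.Agent.Lib.SylowFew.relIndex_mul_card_inf (P : Subgroup G) (R : Subgroup G)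
    have e2 := Cfsg.Agent.Lib.SylowFew.relIndex_mul_card_inf (R : Subgroup G) (P : Subgroup G)
    rw [inf_comm, hRc, ← hPc, ← e1] at e2
    exact Nat.eq_of_mul_eq_mul_right Nat.card_pos e2
  have hDc : Nat.card ((P : Subgroup G) ⊓ (R : Subgroup G) : Subgroup G) = p ^ (k - 1) := by
    have e1 := Cfsg.Agent.Lib.SylowFew.relIndex_mul_card_inf (P : Subgroup G) (R : Subgroup G)
    rw [hidx', hPc] at e1
    apply Nat.eq_of_mul_eq_mul_left hpp.pos
    rw [e1, ← pow_succ']; congr 1; omega
  have hnorm : ∀ A B : Sylow p G, (B : Subgroup G).relIndex (A : Subgroup G) = p →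
      (A : Subgroup G) ≤ normalizer (((A : Subgroup G) ⊓ (B : Subgroup G) : Subgroup G) : Set G) := by
    intro A B hAB
    have h2 : ((B : Subgroup G).subgroupOf A).Normal := by
      apply Subgroup.normal_of_index_eq_minFac_card
      have hAc : Nat.card (A : Subgroup G) = p ^ k := sylow_card_of h hm A
      rw [show ((B : Subgroup G).subgroupOf A).index = p from hAB, hAc,
        Nat.Prime.pow_minFac hpp (by omega)]
    rw [← inf_subgroupOf_left] at h2
    exact (Subgroup.normal_subgroupOf_iff_le_normalizer inf_le_left).1 h2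
  have hPn := hnorm P R hidx'
  have hRn := hnorm R P (hcardeq.trans hidx')
  rw [inf_comm] at hRn
  refine ⟨P, R, hPR, hDc, hPn, hRn, ?_, ?_⟩
  · apply normalizer_ne_top'
    · intro hb
      rw [hb, card_bot] at hDc
      have : 1 < p ^ (k - 1) := Nat.one_lt_pow (by omega) hpp.one_lt
      omega
    · intro ht
      apply hPR
      have h1 : (P : Subgroup G) = ⊤ := top_le_iff.1 (ht ▸ inf_le_left)
      have h2 : (R : Subgroup G) = ⊤ := top_le_iff.1 (ht ▸ inf_le_right)
      exact Sylow.ext (h1.trans h2.symm)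
  · set N := normalizer (((P : Subgroup G) ⊓ (R : Subgroup G) : Subgroup G) : Set G) with hN
    have hdvd : p ^ k ∣ Nat.card N := by
      rw [← hPc]; exact card_dvd_of_le hPn
    obtain ⟨t, ht⟩ := hdvd
    have htm : t ∣ m := by
      have h1 := card_subgroup_dvd_card N
      rw [ht, h] at h1
      exact Nat.dvd_of_mul_dvd_mul_left (pow_pos hpp.pos k) h1
    have hpt : ¬ p ∣ t := fun h' => hm (h'.trans htm)
    refine ⟨t, Nat.card (Sylow p N), ht, htm, nsyl_dvd ht hpt, nsyl_mod p N, ?_⟩
    intro h1
    have hsub : Subsingleton (Sylow p N) := (Nat.card_eq_one_iff_unique.1 h1).1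
    apply hPR
    have h6 : P.subtype hPn = R.subtype hRn := Subsingleton.elim _ _
    exact Sylow.subtype_injective h6

/-! ### The sieve -/

/-- `2n ∣ d!`, tested only for `d ≤ 9`. -/
def fok (n d : ℕ) : Bool := (9 < d) || (d.factorial % (2 * n) == 0)

/-- possible numbers of Sylow `p`-subgroups for a simple group of order `n = p ^ k * m`. -/
def surv (n p k m : ℕ) : Bool :=
  (List.range (m / p)).any fun j =>
    let d := 1 + p * (j + 1)
    m % d == 0 && fok n d &&
      (k != 1 || (Nat.gcd (n / d / p) (p - 1) != 1 &&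
        (p == 2 || d != p + 1 || (p * (p - 1)) % (2 * (n / d)) == 0))) &&
      (k == 1 || d % (p * p) == 1 ||
        (List.range m).any fun t' =>
          let t := t' + 1
          m % t == 0 && fok n (m / t) && (List.range (t / p)).any fun i => t % (1 + p * (i + 1)) == 0)

theorem fok_of [IsSimpleGroup G] (hG : ¬ IsMulCommutative G) (H : Subgroup G) (hH : H ≠ ⊤) :
    fok (Nat.card G) H.index = true := by
  rw [fok, Bool.or_eq_true]
  by_cases h : 9 < H.index
  · left; simpa using h
  · right
    rw [beq_iff_eq]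
    exact Nat.mod_eq_zero_of_dvd (two_mul_card_dvd_factorial_index hG H hH)

theorem exists_eq_of_mod {p d m : ℕ} (hp : 0 < p) (hm : 0 < m) (hd : d ∣ m) (h1 : d % p = 1) (h2 : d ≠ 1) :
    ∃ j < m / p, d = 1 + p * (j + 1) := by
  have h3 := Nat.mod_add_div d p
  rw [h1] at h3
  have h4 : d / p ≠ 0 := by
    intro h; rw [h] at h3; omega
  refine ⟨d / p - 1, ?_, ?_⟩
  · have h5 := Nat.le_of_dvd hm hd
    have h6 := Nat.div_le_div_right (c := p) h5
    have h7 : 0 < d / p := Nat.pos_of_ne_zero h4
    exact lt_of_lt_of_le (Nat.sub_lt h7 one_pos) h6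
  · rw [Nat.sub_add_cancel (Nat.one_le_iff_ne_zero.2 h4), h3]

theorem surv_of [IsSimpleGroup G] (hG : ¬ IsMulCommutative G) {n p k m : ℕ} [hp : Fact p.Prime]
    (hn : Nat.card G = n) (h : n = p ^ k * m) (hm : ¬ p ∣ m) (hk : k ≠ 0) : surv n p k m = true := by
  subst hn
  have hpp := hp.out
  have hm0 : 0 < m := Nat.pos_of_ne_zero (by rintro rfl; exact hm (dvd_zero p))
  have hdvd : p ∣ Nat.card G := by rw [h]; exact Dvd.dvd.mul_right (dvd_pow_self p hk) m
  obtain ⟨P⟩ : Nonempty (Sylow p G) := inferInstance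
  obtain ⟨j, hj, hj'⟩ := exists_eq_of_mod hpp.pos hm0 (nsyl_dvd h hm) (nsyl_mod p G) (nsyl_ne_one hG hdvd)
  rw [surv, List.any_eq_true]
  refine ⟨j, List.mem_range.2 hj, ?_⟩
  have hidx : Nat.card (Sylow p G) = (normalizer ((P : Subgroup G) : Set G)).index := P.card_eq_index_normalizer
  have hNt : normalizer ((P : Subgroup G) : Set G) ≠ ⊤ := by
    intro ht
    rw [ht, index_top] at hidx
    exact nsyl_ne_one hG hdvd hidx
  have hNc : Nat.card G / Nat.card (Sylow p G) = Nat.card (normalizer ((P : Subgroup G) : Set G)) := by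
    rw [← card_normalizer_mul_nsyl P]
    exact Nat.mul_div_cancel _ Nat.card_pos
  simp only [← hj']
  rw [Bool.and_eq_true, Bool.and_eq_true, Bool.and_eq_true]
  refine ⟨⟨⟨?_, ?_⟩, ?_⟩, ?_⟩
  · rw [beq_iff_eq]
    exact Nat.mod_eq_zero_of_dvd (nsyl_dvd h hm)
  · rw [hidx]; exact fok_of hG _ hNt
  · by_cases hk1 : k = 1
    · rw [Bool.or_eq_true]
      right
      subst hk1
      have hPc : Nat.card (P : Subgroup G) = p := by
        have := sylow_card_of h hm P
        rwa [pow_one] at this
      obtain ⟨e, c, hN, hC, he1, he2⟩ := nc_data hG P hPc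
      rw [Bool.and_eq_true]
      refine ⟨?_, ?_⟩
      · rw [hNc, hN, bne_iff_ne, show e * (p * c) = p * (e * c) by ring, Nat.mul_div_cancel_left _ hpp.pos]
        intro hg
        apply he2
        have : e ∣ Nat.gcd (e * c) (p - 1) := Nat.dvd_gcd (Dvd.intro _ rfl) he1
        rw [hg] at this
        exact Nat.dvd_one.1 this
      · by_cases hp2 : p = 2
        · rw [Bool.or_eq_true, Bool.or_eq_true]
          left; left; rw [beq_iff_eq]; exact hp2
        by_cases hd : Nat.card (Sylow p G) = p + 1
        · rw [Bool.or_eq_true]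
          right
          rw [beq_iff_eq, hNc]
          exact Nat.mod_eq_zero_of_dvd (normalizer_dvd_of_nsyl hG hp2 hd hdvd P)
        · rw [Bool.or_eq_true, Bool.or_eq_true]
          left; right
          rw [bne_iff_ne]; exact hd
    · rw [Bool.or_eq_true]
      left; rw [bne_iff_ne]; exact hk1
  · by_cases hk1 : k = 1
    · rw [Bool.or_eq_true, Bool.or_eq_true]
      left; left; rw [beq_iff_eq]; exact hk1
    by_cases hd : Nat.card (Sylow p G) % (p * p) = 1
    · rw [Bool.or_eq_true, Bool.or_eq_true]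
      left; right; rw [beq_iff_eq]; exact hd
    rw [Bool.or_eq_true]
    right
    have hn' : ¬ Nat.card (Sylow p G) ≡ 1 [MOD p ^ 2] := by
      intro h'
      apply hd
      rw [Nat.ModEq, pow_two] at h'
      rw [h']
      apply Nat.mod_eq_of_lt
      have := hpp.two_le
      nlinarith
    obtain ⟨P', R', -, -, -, -, hNt', t, d', hNc', htm, hd't, hd'p, hd'1⟩ := exists_pair hG h hm (by omega) hn'
    have ht0 : 0 < t := Nat.pos_of_dvd_of_pos htm hm0
    rw [List.any_eq_true]
    refine ⟨t - 1, List.mem_range.2 ?_, ?_⟩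
    · have := Nat.le_of_dvd hm0 htm
      omega
    simp only [Nat.sub_add_cancel ht0]
    rw [Bool.and_eq_true, Bool.and_eq_true]
    refine ⟨⟨?_, ?_⟩, ?_⟩
    · rw [beq_iff_eq]; exact Nat.mod_eq_zero_of_dvd htm
    · have h2 : m / t = (normalizer (((P' : Subgroup G) ⊓ (R' : Subgroup G) : Subgroup G) : Set G)).index := by
        have h3 := (normalizer (((P' : Subgroup G) ⊓ (R' : Subgroup G) : Subgroup G) : Set G)).card_mul_index
        rw [hNc'] at h3
        obtain ⟨s, hs⟩ := htm
        rw [h, hs, mul_assoc, Nat.mul_left_cancel_iff (pow_pos hpp.pos k), Nat.mul_left_cancel_iff ht0] at h3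
        rw [hs, Nat.mul_div_cancel_left _ ht0, h3]
      rw [h2]
      exact fok_of hG _ hNt'
    · obtain ⟨i, hi, hi'⟩ := exists_eq_of_mod hpp.pos ht0 hd't hd'p hd'1
      rw [List.any_eq_true]
      refine ⟨i, List.mem_range.2 hi, ?_⟩
      rw [← hi', beq_iff_eq]
      exact Nat.mod_eq_zero_of_dvd hd't

/-- strip the factors `p` from `n`: `(k, m)` with `n = p ^ k * m`. -/
def strip (p : ℕ) : ℕ → ℕ → ℕ × ℕ
  | 0, n => (0, n)
  | f + 1, n => if n % p == 0 then ((strip p f (n / p)).1 + 1, (strip p f (n / p)).2) else (0, n)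

theorem strip_spec (p : ℕ) : ∀ f n : ℕ, n = p ^ (strip p f n).1 * (strip p f n).2 := by
  intro f
  induction f with
  | zero => intro n; simp [strip]
  | succ f ih =>
    intro n
    rw [strip]
    by_cases h : n % p = 0
    · rw [if_pos (by simpa using h)]
      have h1 := ih (n / p)
      calc n = p * (n / p) := (Nat.mul_div_cancel' (Nat.dvd_of_mod_eq_zero h)).symm
        _ = p * (p ^ (strip p f (n / p)).1 * (strip p f (n / p)).2) := by rw [← h1]
        _ = _ := by simp only; ring
    · rw [if_neg (by simpa using h)]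
      simp

/-- `n` is killed by the prime `p`. -/
def deadAt (n p : ℕ) : Bool :=
  n % p == 0 && (strip p 12 n).2 % p != 0 && !(surv n p (strip p 12 n).1 (strip p 12 n).2)

def smallPrimes : List ℕ := [31, 29, 23, 19, 17, 13, 11, 7, 5, 3, 2]

theorem prime_of_mem : ∀ p ∈ smallPrimes, p.Prime := by
  intro p hp
  simp only [smallPrimes, List.mem_cons, List.not_mem_nil, or_false] at hp
  rcases hp with rfl | rfl | rfl | rfl | rfl | rfl | rfl | rfl | rfl | rfl | rfl <;> norm_num

def dead (n : ℕ) : Bool := smallPrimes.any (deadAt n)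

theorem not_dead [IsSimpleGroup G] (hG : ¬ IsMulCommutative G) : dead (Nat.card G) = false := by
  rw [← Bool.not_eq_true]
  intro h
  rw [dead, List.any_eq_true] at h
  obtain ⟨p, hp, h⟩ := h
  have hpp := prime_of_mem p hp
  have : Fact p.Prime := ⟨hpp⟩
  rw [deadAt, Bool.and_eq_true, Bool.and_eq_true, beq_iff_eq, bne_iff_ne, Bool.not_eq_true'] at h
  obtain ⟨⟨h1, h2⟩, h3⟩ := h
  have h4 := surv_of hG rfl (strip_spec p 12 (Nat.card G)) (fun h' => h2 (Nat.mod_eq_zero_of_dvd h')) (by
    intro h0
    have h5 := strip_spec p 12 (Nat.card G)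
    rw [h0, pow_zero, one_mul] at h5
    rw [← h5] at h2
    exact h2 h1)
  rw [h4] at h3
  exact Bool.noConfusion h3

/-- strip all small primes -/
def rest (n : ℕ) : ℕ := smallPrimes.foldl (fun a p => (strip p 12 a).2) n

theorem rest_dvd (n : ℕ) : rest n ∣ n := by
  have key : ∀ (l : List ℕ) (n : ℕ), l.foldl (fun a p => (strip p 12 a).2) n ∣ n := by
    intro l
    induction l with
    | nil => intro n; simp
    | cons p l ih =>
      intro n
      rw [List.foldl_cons]
      refine (ih _).trans ?_
      exact Dvd.intro_left _ (strip_spec p 12 n).symm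
  exact key _ n

/-- `n` has a prime factor at least 37 -/
def big (n : ℕ) : Bool := rest n != 1 && smallPrimes.all fun p => rest n % p != 0

theorem not_big [IsSimpleGroup G] (hG : ¬ IsMulCommutative G) (h : Nat.card G ≤ 1368) : big (Nat.card G) = false := by
  rw [← Bool.not_eq_true]
  intro hb
  rw [big, Bool.and_eq_true, bne_iff_ne, List.all_eq_true] at hb
  obtain ⟨h1, h2⟩ := hb
  obtain ⟨p, hp, hpd⟩ := Nat.exists_prime_and_dvd h1
  have : Fact p.Prime := ⟨hp⟩
  have h37 : 37 ≤ p := by
    by_contra hlt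
    push Not at hlt
    have hmem : p ∈ smallPrimes := by
      interval_cases p <;> revert hp <;> decide
    have := h2 p hmem
    rw [bne_iff_ne] at this
    exact this (Nat.mod_eq_zero_of_dvd hpd)
  have hpG : p ∣ Nat.card G := hpd.trans (rest_dvd _)
  obtain ⟨P⟩ : Nonempty (Sylow p G) := inferInstance
  have hmod := nsyl_mod p G
  have hne := nsyl_ne_one hG hpG
  have hdvd : Nat.card (Sylow p G) * p ∣ Nat.card G := by
    rw [← card_normalizer_mul_nsyl P, mul_comm]
    apply Nat.mul_dvd_mul_right
    have h3 : p ∣ Nat.card (P : Subgroup G) := P.dvd_card_of_dvd_card hpG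
    exact h3.trans (card_dvd_of_le le_normalizer)
  have hle := Nat.le_of_dvd Nat.card_pos hdvd
  have h4 := Nat.mod_add_div (Nat.card (Sylow p G)) p
  rw [hmod] at h4
  have h5 : Nat.card (Sylow p G) / p ≠ 0 := by
    intro h; rw [h] at h4; omega
  have h6 : 1 ≤ Nat.card (Sylow p G) / p := Nat.one_le_iff_ne_zero.2 h5
  have h7 : 38 ≤ Nat.card (Sylow p G) := by nlinarith
  have h8 : 38 * 37 ≤ Nat.card (Sylow p G) * p := Nat.mul_le_mul h7 h37
  omega

/-- orders surviving the sieve -/
def survivors : List ℕ := [60, 168, 288, 360, 420, 504, 576, 612, 660, 720, 756, 840, 1008, 1040, 1080, 1092]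

def checkAll : Bool := (List.range 1093).all fun n => n == 0 || n == 1 || survivors.contains n || dead n || big n

theorem checkAll_true : checkAll = true := by decide +kernel

/-- The sieve: the possible orders at most 1092 of non-abelian simple groups. -/
theorem mem_survivors [IsSimpleGroup G] (hG : ¬ IsMulCommutative G) (h : Nat.card G ≤ 1092) :
    Nat.card G ∈ survivors := by
  have h1 := checkAll_true
  rw [checkAll, List.all_eq_true] at h1
  have h2 := h1 (Nat.card G) (List.mem_range.2 (by omega))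
  rw [not_dead hG, not_big hG (by omega), Bool.or_false, Bool.or_false, Bool.or_eq_true, Bool.or_eq_true,
    beq_iff_eq, beq_iff_eq, List.contains_iff_mem] at h2
  rcases h2 with (h2 | h2) | h2
  · exact absurd h2 Nat.card_pos.ne'
  · exfalso
    have := IsSimpleGroup.toNontrivial (G := G)
    exact (Finite.one_lt_card (α := G)).ne' h2
  · exact h2

/-- the orders `2 ^ a * 3 ^ b` are impossible (Burnside) -/
theorem not_two_three [IsSimpleGroup G] (hG : ¬ IsMulCommutative G) (a b : ℕ) (h : Nat.card G = 2 ^ a * 3 ^ b) : False := by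
  have hs : Group.IsSolvable G := Cfsg.Agent.Lib.Burnside.isSolvable_of_card_eq _ 2 3 a b Nat.prime_two
    Nat.prime_three h rfl
  exact hG ⟨⟨IsSimpleGroup.comm_iff_isSolvable.2 hs⟩⟩

/-- A simple group of order 60 has a subgroup of index 5. -/
theorem exists_index_five [IsSimpleGroup G] (h : Nat.card G = 60) : ∃ H : Subgroup G, H.index = 5 := by
  have hG : ¬ IsMulCommutative G := not_isMulCommutative_of_card h (by norm_num)
  have h4 : Nat.card G = 2 ^ 2 * 15 := by rw [h]; norm_num
  have h1 := nsyl_mem h4 (by norm_num)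
  have h2 : (Nat.divisors 15).filter (fun d => d % 2 = 1) = {1, 3, 5, 15} := by decide +kernel
  rw [h2] at h1
  simp only [Finset.mem_insert, Finset.mem_singleton] at h1
  have hne := nsyl_ne_one hG (p := 2) (by rw [h]; norm_num)
  obtain ⟨P⟩ : Nonempty (Sylow 2 G) := inferInstance
  have h5 : Nat.card (Sylow 2 G) = (normalizer ((P : Subgroup G) : Set G)).index := P.card_eq_index_normalizer
  have h3 : Nat.card (Sylow 2 G) ≠ 3 := by
    intro h3
    have h6 := two_mul_card_dvd_factorial_index hG (normalizer ((P : Subgroup G) : Set G)) (by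
      intro ht; rw [ht, index_top] at h5; omega)
    rw [← h5, h3, h] at h6
    revert h6; decide
  rcases h1 with h1 | h1 | h1 | h1
  · exact absurd h1 hne
  · exact absurd h1 h3
  · exact ⟨_, h5.symm.trans h1⟩
  · obtain ⟨P', R', -, -, -, -, hNt, t, d, hNc, htm, hdt, hd2, hd1⟩ := exists_pair hG h4 (by norm_num) (by norm_num) (by
      rw [h1]; decide)
    refine ⟨normalizer (((P' : Subgroup G) ⊓ (R' : Subgroup G) : Subgroup G) : Set G), ?_⟩
    have h6 := two_mul_card_dvd_factorial_index hG _ hNt
    have h7 := (normalizer (((P' : Subgroup G) ⊓ (R' : Subgroup G) : Subgroup G) : Set G)).card_mul_index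
    rw [hNc, h] at h7
    rw [h] at h6
    have ht : t ∈ Nat.divisors 15 := Nat.mem_divisors.2 ⟨htm, by norm_num⟩
    rw [show Nat.divisors 15 = {1, 3, 5, 15} by decide +kernel] at ht
    simp only [Finset.mem_insert, Finset.mem_singleton] at ht
    rcases ht with rfl | rfl | rfl | rfl
    · exact absurd (Nat.dvd_one.1 hdt) hd1
    · omega
    · have : (normalizer (((P' : Subgroup G) ⊓ (R' : Subgroup G) : Subgroup G) : Set G)).index = 3 := by omega
      rw [this] at h6
      exfalso; revert h6; decide
    · have : (normalizer (((P' : Subgroup G) ⊓ (R' : Subgroup G) : Subgroup G) : Set G)).index = 1 := by omega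
      rw [this] at h6
      exfalso; revert h6; decide

/-- A non-abelian simple group `G` with a subgroup of index `n` and `2 |G| = n!` is the alternating group. -/
theorem iso_alternating [IsSimpleGroup G] (hG : ¬ IsMulCommutative G) (H : Subgroup G) (hH : 2 ≤ H.index)
    (h : 2 * Nat.card G = H.index.factorial) : Nonempty (G ≃* alternatingGroup (Fin H.index)) := by
  obtain ⟨f, hf⟩ := Cfsg.Agent.S0991.result hG H (by rintro rfl; simp at hH)
  have hnt : Nontrivial (Fin H.index) := Fin.nontrivial_iff_two_le.2 hH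
  have hc : Nat.card G = Nat.card (alternatingGroup (Fin H.index)) := by
    have h1 := two_mul_nat_card_alternatingGroup (α := Fin H.index)
    rw [Nat.card_perm, Nat.card_fin] at h1
    omega
  exact ⟨MulEquiv.ofBijective f ((Nat.bijective_iff_injective_and_card f).2 ⟨hf, hc⟩)⟩

end Cfsg.Agent.Lib.SmallSieve
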