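import Cfsg.Agent.Lib.C3XSum2
import Cfsg.Agent.Lib.C3XArith
import Cfsg.Agent.Lib.C3XChar3
import Cfsg.Agent.Lib.SmallSieve
import Cfsg.Agent.S0494
import Cfsg.Agent.S0495

/-!
# Feit–Thompson: groups with a self-centralizing subgroup of order three (helper20)
-/

set_option autoImplicit false
set_option linter.style.haveILetI false
set_option linter.unusedSectionVars false

namespace Cfsg.Agent.Lib.C3X

universe u

section
variable {G : Type u} [Group G] [Finite G]

theorem Ctx.not_comm {x t : G} (c : Ctx x t) : ¬ IsMulCommutative G := by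
  intro h
  apply c.sc.ne_inv
  rw [← c.inv, h.is_comm.comm t x]
  group

theorem Ctx.two_dvd {x t : G} (c : Ctx x t) : 2 ∣ Nat.card G := by
  have htt := c.sc.inv_sq c.inv
  have ht1 : t ≠ 1 := by
    rintro rfl
    apply c.sc.ne_inv
    simpa using c.inv
  have hto : orderOf t = 2 := by
    haveI : Fact (Nat.Prime 2) := ⟨Nat.prime_two⟩
    exact orderOf_eq_prime (by rw [pow_two, htt]) ht1
  rw [← hto]; exact orderOf_dvd_natCard t

theorem Ctx.odd_index {x t : G} (c : Ctx x t) (hconj : ∀ s : G, orderOf s = 2 → IsConj t s) :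
    ∃ i, Nat.card G = Nat.card (Subgroup.centralizer ({t} : Set G)) * i ∧ i % 2 = 1 := by
  haveI : Fact (Nat.Prime 2) := ⟨Nat.prime_two⟩
  obtain ⟨P⟩ : Nonempty (Sylow 2 G) := inferInstance
  have h2 : 2 ∣ Nat.card (P : Subgroup G) := P.dvd_card_of_dvd_card c.two_dvd
  obtain ⟨z, hz, hz2, hzc⟩ := exists_central_inv P.isPGroup'.isNilpotent h2
  have hle : (P : Subgroup G) ≤ Subgroup.centralizer ({z} : Set G) := by
    intro k hk
    rw [Subgroup.mem_centralizer_singleton_iff]
    exact hzc k hk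
  refine ⟨(Subgroup.centralizer ({z} : Set G)).index, ?_, ?_⟩
  · rw [← card_cent_conj (hconj z hz2), Subgroup.card_mul_index]
  · have h3 := P.not_dvd_index
    have h4 := Subgroup.index_dvd_of_le hle
    have h5 : ¬ 2 ∣ (Subgroup.centralizer ({z} : Set G)).index := fun h6 => h3 (h6.trans h4)
    omega

theorem Ctx.four_dvd {x t : G} (c : Ctx x t) : 4 ∣ Nat.card G := by
  haveI := c.simple
  haveI : Fact (Nat.Prime 2) := ⟨Nat.prime_two⟩
  obtain ⟨P⟩ : Nonempty (Sylow 2 G) := inferInstance
  by_contra h4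
  have h2 : 2 ∣ Nat.card (P : Subgroup G) := P.dvd_card_of_dvd_card c.two_dvd
  have hPc : Nat.card (P : Subgroup G) = 2 := by
    obtain ⟨n, hn⟩ := IsPGroup.iff_card.1 P.isPGroup'
    rw [hn] at h2 ⊢
    have h5 : n < 2 := by
      by_contra hcon
      push Not at hcon
      apply h4
      have h6 : 2 ^ 2 ∣ 2 ^ n := pow_dvd_pow 2 hcon
      rw [← hn] at h6
      exact h6.trans (Subgroup.card_subgroup_dvd_card _)
    interval_cases n
    · norm_num at h2
    · norm_num
  apply SmallSimple.not_normalizer_le_centralizer c.not_comm c.two_dvd P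
  intro g hg
  rw [Subgroup.mem_centralizer_iff]
  intro y hy
  have hy' : y ∈ (P : Subgroup G) := hy
  have h5 : g * y * g⁻¹ ∈ (P : Subgroup G) := (Subgroup.mem_normalizer_iff.1 hg y).1 hy'
  -- in a group of order two
  by_cases hy1 : y = 1
  · rw [hy1]; group
  have h6 : g * y * g⁻¹ ≠ 1 := by
    intro h7
    apply hy1
    have : y = g⁻¹ * (g * y * g⁻¹) * g := by group
    rw [this, h7]; group
  have h7 : g * y * g⁻¹ = y := by
    by_contra hne
    have h8 : ({1, y, g * y * g⁻¹} : Set G) ⊆ (P : Subgroup G) := by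
      rintro w (rfl | rfl | rfl)
      · exact one_mem _
      · exact hy'
      · exact h5
    have h9 := Set.ncard_le_ncard h8 (Set.toFinite _)
    rw [Set.ncard_eq_three.2 ⟨1, y, g * y * g⁻¹, Ne.symm hy1, Ne.symm h6, Ne.symm hne, rfl⟩] at h9
    have h10 : ((P : Subgroup G) : Set G).ncard = 2 := hPc
    omega
  calc y * g = (g * y * g⁻¹) * g := by rw [h7]
    _ = g * y := by group

theorem Ctx.not_three {x t : G} (c : Ctx x t) :
    ¬ 3 ∣ Nat.card (Subgroup.centralizer ({t} : Set G)) := by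
  intro h3
  haveI : Fact (Nat.Prime 3) := ⟨Nat.prime_three⟩
  obtain ⟨⟨y, hy⟩, hy3⟩ := exists_prime_orderOf_dvd_card' 3 h3
  rw [Subgroup.orderOf_mk] at hy3
  rw [Subgroup.mem_centralizer_singleton_iff] at hy
  have htt := c.sc.inv_sq c.inv
  have ht1 : t ≠ 1 := by
    rintro rfl
    apply c.sc.ne_inv
    simpa using c.inv
  have hsy := c.sc.of_order hy3
  rcases hsy.cent' hy.symm with h4 | h4 | h4
  · exact ht1 h4
  · rw [h4] at htt
    have := cube hsy.ord
    rw [htt, one_mul] at this
    exact hsy.ne_one this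
  · rw [h4] at htt
    have := cube hsy.inv.ord
    rw [htt, one_mul] at this
    exact hsy.inv.ne_one this

open scoped Classical in
theorem Ctx.card_eq {x t : G} (c : Ctx x t) : Nat.card G = 60 ∨ Nat.card G = 168 := by
  haveI := c.simple
  haveI := Fintype.ofFinite G
  obtain ⟨⟨f, k, a, hN⟩, hconj⟩ := num_facts c.sc c.inv
  set h := Nat.card (Subgroup.centralizer ({t} : Set G)) with hh
  have hhpos : 0 < h := Nat.card_pos
  -- the parameter `d = f - a`
  obtain ⟨d, hd⟩ : ∃ d : ℕ, (f : ℤ) - a = d := Int.eq_ofNat_of_zero_le (by linarith [hN.a_lt])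
  have ha : a = f - d := by linarith
  have hdpos : 0 < d := by
    have := hN.a_lt
    omega
  have hhkd : h = k * d := by
    have := hN.h_eq
    rw [hd] at this
    exact_mod_cast this
  have hk3 : ¬ 3 ∣ k := by
    intro h3
    apply c.sc.not_nine_dvd
    rw [hN.g_eq]
    obtain ⟨k', rfl⟩ := h3
    exact ⟨3 * (f * (f + 1) * k' ^ 2), by ring⟩
  have h3h := c.not_three
  rw [← hh, hhkd] at h3h
  have hd3 : ¬ 3 ∣ d := fun h3 => h3h (h3.mul_left k)
  have hd2 : d % 2 = 0 := by
    have := hN.par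
    rw [hd] at this
    exact_mod_cast this
  obtain ⟨i, hi, hi2⟩ := c.odd_index hconj
  rw [← hh] at hi
  have h4 : 4 ∣ h := by
    have h5 := c.four_dvd
    rw [hi] at h5
    have : Nat.Coprime 4 i := by
      have : Nat.Coprime 2 i := (Nat.Prime.coprime_iff_not_dvd Nat.prime_two).2 (by omega)
      exact Nat.Coprime.pow_left 2 this
    exact this.dvd_of_dvd_mul_right h5
  have hkpos := hN.kpos
  have hdiv : ∃ i, 3 * f * (f + 1) * k = d * i ∧ i % 2 = 1 := by
    refine ⟨i, ?_, hi2⟩
    have h5 := hN.g_eq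
    rw [hi, hhkd] at h5
    apply Nat.eq_of_mul_eq_mul_left hkpos
    calc k * (3 * f * (f + 1) * k) = 3 * (f * (f + 1) * k ^ 2) := by ring
      _ = k * d * i := h5.symm
      _ = _ := by ring
  have hn4 : (2 * f + 1) * d ≤ 3 * f * (f + 1) := by
    have h5 := hN.n4_eq
    rw [hd] at h5
    have h6 : (0 : ℤ) ≤ k * (f ^ 2 + 2 * f + 2 * a * f + a) := by
      rw [← h5]; positivity
    have h7 : (0 : ℤ) ≤ f ^ 2 + 2 * f + 2 * a * f + a :=
      nonneg_of_mul_nonneg_right h6 (by exact_mod_cast hkpos)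
    rw [ha] at h7
    have h8 : ((2 * f + 1) * d : ℤ) ≤ 3 * f * (f + 1) := by nlinarith
    exact_mod_cast h8
  have hort : 1 + f ^ 2 + (f + 1) ^ 2 + 2 * d ^ 2 ≤ (k + 4 * f + 2) * d := by
    have h5 := hN.h_ge
    rw [hhkd, ha] at h5
    push_cast at h5
    have h8 : (1 + f ^ 2 + (f + 1) ^ 2 + 2 * d ^ 2 : ℤ) ≤ (k + 4 * f + 2) * d := by nlinarith
    exact_mod_cast h8
  -- the sums
  set M := max (k * (f + 1)) h with hM
  have hhM : h ≤ M := le_max_right _ _
  have hPM : f * (f + 1) * k ^ 2 ≤ M ^ 2 := by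
    calc f * (f + 1) * k ^ 2 ≤ (f + 1) * (f + 1) * k ^ 2 :=
          Nat.mul_le_mul_right _ (Nat.mul_le_mul_right _ (Nat.le_succ f))
      _ = (k * (f + 1)) ^ 2 := by ring
      _ ≤ M ^ 2 := Nat.pow_le_pow_left (le_max_left _ _) 2
  have hP : (f * (f + 1) * k ^ 2) % 3 = 2 := by
    have h5 := hN.f3
    have h6 : k % 3 = 1 ∨ k % 3 = 2 := by omega
    have h7 : (f + 1) % 3 = 2 := by omega
    rcases h6 with h6 | h6 <;> simp [Nat.mul_mod, Nat.pow_mod, h5, h6, h7]
  have s2 := c.sum_two hconj hN.g_eq hP hPM hhM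
  have s1 := c.sum_odd h4
  obtain ⟨κ, hκ, s0⟩ := c.sum_even hconj
  rw [← hh] at s1 hκ s0
  have hcount := card_NP_le c.sc
  have hsplit : ∑ K ∈ KK x, (Nat.card K - 1) =
      ∑ K ∈ (KK x).filter (fun K => t ∉ nor K), (Nat.card K - 1) +
      (∑ K ∈ (KK x).filter (fun K => t ∈ nor K ∧ ¬ 2 ∣ Nat.card K), (Nat.card K - 1) +
      ∑ K ∈ (KK x).filter (fun K => t ∈ nor K ∧ 2 ∣ Nat.card K), (Nat.card K - 1)) := by
    rw [← Finset.sum_filter_add_sum_filter_not (KK x) (fun K => t ∉ nor K)]
    congr 1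
    rw [← Finset.sum_filter_add_sum_filter_not ((KK x).filter (fun K => ¬ t ∉ nor K))
      (fun K => ¬ 2 ∣ Nat.card K), Finset.filter_filter, Finset.filter_filter]
    congr 1
    · apply Finset.sum_congr _ (fun _ _ => rfl)
      ext K
      simp only [Finset.mem_filter, not_not]
    · apply Finset.sum_congr _ (fun _ _ => rfl)
      ext K
      simp only [Finset.mem_filter, not_not]
  rw [hsplit] at hcount
  have hn3 := hN.n3_eq
  have hineq : 16 * k ^ 2 * (f ^ 2 + f + 1) ≤
      144 * max (k * (f + 1)) (k * d) + 3 * (k * d) ^ 2 + 48 * (κ + 1) * (k * d - 2) := by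
    rw [← hhkd, ← hM]
    have e1 : 16 * k ^ 2 * (f ^ 2 + f + 1) = 48 * Nat.card (NP x x x) := by
      calc 16 * k ^ 2 * (f ^ 2 + f + 1) = 16 * (k ^ 2 * (f ^ 2 + f + 1)) := by ring
        _ = 16 * (3 * Nat.card (NP x x x)) := by rw [hn3]
        _ = _ := by ring
    have e2 : 48 * (κ + 1) * (h - 2) = 48 * ((κ + 1) * (h - 2)) := by ring
    rw [e1, e2]
    generalize (κ + 1) * (h - 2) = A at *
    generalize h ^ 2 = B at *
    omega
  have hres := arith hN.f3 hN.f4 hkpos hk3 hdpos hd2 hd3 (by rw [← hhkd]; exact h4) hdiv hn4 hort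
    (by rw [← hhkd]; exact hκ) hineq
  have hg := hN.g_eq
  rcases hres with ⟨rfl, rfl, _⟩ | ⟨rfl, rfl, _⟩ | ⟨rfl, rfl, _⟩ | ⟨rfl, rfl, _⟩
  · left; rw [hg]; norm_num
  · right; rw [hg]; norm_num
  · exfalso
    have h5 := SmallSieve.not_dead c.not_comm
    rw [hg] at h5
    have h6 : SmallSieve.dead 816 = true := by decide +kernel
    have h7 : 3 * (16 * (16 + 1) * 1 ^ 2) = 816 := by norm_num
    rw [h7, h6] at h5
    exact Bool.noConfusion h5
  · exfalso
    have h5 := SmallSieve.not_dead c.not_comm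
    rw [hg] at h5
    have h6 : SmallSieve.dead 1140 = true := by decide +kernel
    have h7 : 3 * (19 * (19 + 1) * 1 ^ 2) = 1140 := by norm_num
    rw [h7, h6] at h5
    exact Bool.noConfusion h5

end

theorem concl_aux (n : ℕ) : ∀ (G : Type u) [Group G] [Finite G], Nat.card G = n →
    ∀ x : G, SC x → Concl G := by
  induction n using Nat.strong_induction_on with
  | _ n ih =>
    intro G _ _ hn x h
    by_cases hF : ∃ F : Subgroup G, F.Normal ∧ ¬ 3 ∣ Nat.card F ∧ F ≠ ⊥
    · obtain ⟨F, hFn, hF3, hFne⟩ := hF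
      apply concl_of_quot h hF3
      have hlt : Nat.card (G ⧸ F) < n := by
        rw [← hn, Subgroup.card_eq_card_quotient_mul_card_subgroup F]
        have h1 : 1 < Nat.card F := by
          have h2 : 0 < Nat.card F := Nat.card_pos
          have h3 : Nat.card F ≠ 1 := fun h => hFne (Subgroup.card_eq_one.1 h)
          omega
        have h2 : 0 < Nat.card (G ⧸ F) := Nat.card_pos
        nlinarith
      exact ih _ hlt (G ⧸ F) rfl _ (SC.quot h F hF3)
    · push Not at hF
      rcases simple_or h hF with h1 | hs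
      · have h2 : ¬ 3 ∣ Nat.card (⊥ : Subgroup G) := by rw [Subgroup.card_bot]; omega
        apply h.concl_of_index h2
        rw [Subgroup.card_bot]
        exact h1
      · by_cases hex : ∃ t : G, t * x * t⁻¹ = x⁻¹
        · obtain ⟨t, ht⟩ := hex
          have c : Ctx x t := by
            refine ⟨h, ht, hs, ?_⟩
            intro H hH hxH
            apply typ h hxH
            have hlt : Nat.card H < n := by
              rw [← hn]
              exact lt_of_le_of_ne (Subgroup.card_le_card_group H)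
                (fun h1 => hH (Subgroup.eq_top_of_card_eq H h1))
            exact ih _ hlt H rfl _ (h.of_subgroup hxH)
          rcases c.card_eq with h1 | h1
          · obtain ⟨e⟩ := Cfsg.Agent.S0494.result h1
            right; left
            refine ⟨⊥, inferInstance, inferInstance, ?_, ⟨(QuotientGroup.quotientBot (G := G)).trans e⟩⟩
            intro m hm
            rw [Subgroup.mem_bot.1 hm, one_pow]
          · right; right
            haveI : Fact (Nat.Prime 7) := ⟨by norm_num⟩
            exact Cfsg.Agent.S0495.result h1 (F := ZMod 7) (ZMod.card 7)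
        · push Not at hex
          obtain ⟨N, hN, hN1, hN3⟩ := h.burnside hex
          exact h.concl_of_index hN3 (Or.inl (by rw [← hN1, mul_comm]))

/-- **Feit–Thompson.** -/
theorem feit_thompson {G : Type u} [Group G] [Finite G] {x : G} (h : SC x) : Concl G :=
  concl_aux _ G rfl x h

end Cfsg.Agent.Lib.C3X
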