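import Cfsg.Agent.Lib.C3XLocal4
import Cfsg.Agent.Lib.C3XComb
import Cfsg.Agent.Lib.C3XCount

/-!
# Groups with a self-centralizing subgroup of order three: counting (helper20)
-/

set_option autoImplicit false
set_option linter.style.haveILetI false
set_option linter.unusedSectionVars false

namespace Cfsg.Agent.Lib.C3X

universe u

variable {G : Type u} [Group G]

theorem exists_IK_of_pair [Finite G] {x u : G} (h : SC x) (hu : orderOf u = 3)
    (hv : orderOf (x⁻¹ * u) = 3) : ∃ K : Subgroup G, IK x K ∧ u * x ∈ K := by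
  set b := u * x with hb
  have hx3 := cube h.ord
  have h1 : b * x * (b * x) * (b * x) = 1 := by
    have e0 : b * x = x * (x⁻¹ * u) * x⁻¹ := by
      have : b * x = u * (x * x) := by rw [hb]; group
      rw [this, ← inv_eq h.ord]; group
    rw [e0]
    have := cube hv
    calc x * (x⁻¹ * u) * x⁻¹ * (x * (x⁻¹ * u) * x⁻¹) * (x * (x⁻¹ * u) * x⁻¹) =
        x * ((x⁻¹ * u) * (x⁻¹ * u) * (x⁻¹ * u)) * x⁻¹ := by group
      _ = 1 := by rw [this]; group
  have h2 : b * x⁻¹ * (b * x⁻¹) * (b * x⁻¹) = 1 := by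
    have e0 : b * x⁻¹ = u := by rw [hb]; group
    rw [e0]; exact cube hu
  obtain ⟨e1, e2, e3⟩ := tri hx3 h1 h2
  set p := x * b * x⁻¹ with hp
  have hcomm : IsMulCommutative (Subgroup.closure ({b, p} : Set G)) := by
    apply Subgroup.isMulCommutative_closure
    rintro y (rfl | rfl) z (rfl | rfl)
    · rfl
    · exact e2
    · exact e2.symm
    · rfl
  set B := Subgroup.closure ({b, p} : Set G) with hB
  have hbB : b ∈ B := Subgroup.subset_closure (by simp)
  have hpB : p ∈ B := Subgroup.subset_closure (by simp)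
  have hBc : ∀ y ∈ B, ∀ z ∈ B, y * z = z * y := by
    intro y hy z hz
    have := hcomm.is_comm.comm (⟨y, hy⟩ : B) ⟨z, hz⟩
    exact congrArg Subtype.val this
  have hinv : ∀ k ∈ B, x * k * x⁻¹ ∈ B := by
    have h3 : B ≤ B.comap (MulAut.conj x).toMonoidHom := by
      rw [hB, Subgroup.closure_le]
      rintro y (rfl | rfl)
      · exact hpB
      · show x * p * x⁻¹ ∈ B
        have h4 : x * p * x⁻¹ = (b * p)⁻¹ := by
          rw [hp, xx_conj h.ord]
          exact (inv_eq_of_mul_eq_one_right e1).symm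
        rw [h4]
        exact inv_mem (mul_mem hbB hpB)
    intro k hk
    exact h3 hk
  refine ⟨B, ⟨hinv, ?_⟩, hbB⟩
  intro h3
  haveI : Fact (Nat.Prime 3) := ⟨Nat.prime_three⟩
  obtain ⟨⟨y, hy⟩, hy3⟩ := exists_prime_orderOf_dvd_card' 3 h3
  rw [Subgroup.orderOf_mk] at hy3
  have hsy := h.of_order hy3
  -- `B ≤ ⟨y⟩`
  have hBy : ∀ z ∈ B, z = 1 ∨ z = y ∨ z = y⁻¹ := fun z hz => hsy.cent' (hBc z hz y hy)
  -- `x` centralizes `y`
  have hxy : x * y * x⁻¹ = y := by
    rcases hBy _ (hinv y hy) with h4 | h4 | h4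
    · exfalso
      apply hsy.ne_one
      have : y = x⁻¹ * (x * y * x⁻¹) * x := by group
      rw [this, h4]; group
    · exact h4
    · exfalso
      have h5 : x * y⁻¹ * x⁻¹ = y := by
        have e : x * y⁻¹ * x⁻¹ = (x * y * x⁻¹)⁻¹ := by group
        rw [e, h4, inv_inv]
      have h6 : (x * x * x) * y * (x * x * x)⁻¹ = y⁻¹ := by
        calc (x * x * x) * y * (x * x * x)⁻¹ = x * (x * (x * y * x⁻¹) * x⁻¹) * x⁻¹ := by group
          _ = y⁻¹ := by rw [h4, h5, h4]
      rw [hx3] at h6
      apply hsy.ne_inv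
      rw [← h6]; group
  have hyx : y * x = x * y := by
    calc y * x = (x * y * x⁻¹) * x := by rw [hxy]
      _ = x * y := by group
  have hxmem : x = y ∨ x = y⁻¹ := by
    rcases hsy.cent' hyx.symm with h4 | h4 | h4
    · exact absurd h4 h.ne_one
    · exact Or.inl h4
    · exact Or.inr h4
  -- `b ∈ {1, x, x⁻¹}`
  have hb1 : b = 1 ∨ b = x ∨ b = x⁻¹ := by
    rcases hBy b hbB with h4 | h4 | h4
    · exact Or.inl h4
    · rcases hxmem with h5 | h5
      · right; left; rw [h4, h5]
      · right; right; rw [h4, h5, inv_inv]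
    · rcases hxmem with h5 | h5
      · right; right; rw [h4, h5]
      · right; left; rw [h4, h5]
  rcases hb1 with h4 | h4 | h4
  · have hp1 : p = 1 := by rw [hp, h4]; group
    have hBbot : B = ⊥ := by
      rw [hB, h4, hp1]
      simp
    rw [hBbot, Subgroup.card_bot] at h3
    omega
  · have : u = 1 := by
      have : u = b * x⁻¹ := by rw [hb]; group
      rw [this, h4]; group
    rw [this, orderOf_one] at hu
    omega
  · have h5 : u = x := by
      have h6 : u = b * x⁻¹ := by rw [hb]; group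
      have h7 : x⁻¹ * x⁻¹ = x := by rw [← mul_inv_rev, ← inv_eq h.ord, inv_inv]
      rw [h6, h4, h7]
    rw [h5, inv_mul_cancel, orderOf_one] at hv
    omega

/-- All maximal invariant subgroups. -/
noncomputable def KK [Finite G] (x : G) : Finset (Subgroup G) :=
  (Set.toFinite {K : Subgroup G | MK x K}).toFinset

theorem mem_KK [Finite G] {x : G} {K : Subgroup G} : K ∈ KK x ↔ MK x K := by
  simp [KK]

open scoped Classical in
theorem card_filter_ne_one [Fintype G] (K : Subgroup G) :
    (Finset.univ.filter (fun g : G => g ∈ K ∧ g ≠ 1)).card = Nat.card K - 1 := by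
  have h1 : Finset.univ.filter (fun g : G => g ∈ K ∧ g ≠ 1) =
      (Finset.univ.filter (fun g : G => g ∈ K)).erase 1 := by
    ext g
    simp [and_comm]
  rw [h1, Finset.card_erase_of_mem (by simp [K.one_mem])]
  congr 1
  rw [Nat.card_eq_fintype_card, Fintype.card_subtype]

open scoped Classical in
theorem card_NP_le [Fintype G] {x : G} (h : SC x) :
    Nat.card (NP x x x) ≤ 1 + ∑ K ∈ KK x, (Nat.card K - 1) := by
  set S : Finset G := insert 1 ((KK x).biUnion
    (fun K => Finset.univ.filter (fun g : G => g ∈ K ∧ g ≠ 1))) with hS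
  have hcard : S.card ≤ 1 + ∑ K ∈ KK x, (Nat.card K - 1) := by
    refine (Finset.card_insert_le _ _).trans ?_
    rw [add_comm]
    apply Nat.add_le_add_left
    refine Finset.card_biUnion_le.trans ?_
    apply Finset.sum_le_sum
    intro K _
    exact (card_filter_ne_one K).le
  refine le_trans ?_ hcard
  let f : NP x x x → S := fun p => ⟨p.1.1 * x, by
    have h1 : orderOf p.1.1 = 3 := by
      obtain ⟨c, hc⟩ := isConj_iff.1 p.2.1
      rw [← hc, ord_conj, h.ord]
    have h2 : orderOf (x⁻¹ * p.1.1) = 3 := by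
      have h3 : x⁻¹ * p.1.1 = p.1.2 := by
        have := p.2.2.2
        calc x⁻¹ * p.1.1 = x⁻¹ * (p.1.1 * p.1.2⁻¹) * p.1.2 := by group
          _ = x⁻¹ * x * p.1.2 := by rw [this]
          _ = _ := by group
      rw [h3]
      obtain ⟨c, hc⟩ := isConj_iff.1 p.2.2.1
      rw [← hc, ord_conj, h.ord]
    rw [hS, Finset.mem_insert]
    by_cases hb : p.1.1 * x = 1
    · left; exact hb
    · right
      obtain ⟨L, hL, hbL⟩ := exists_IK_of_pair h h1 h2
      obtain ⟨K, hK, hLK⟩ := exists_MK hL (by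
        rintro rfl
        exact hb (Subgroup.mem_bot.1 hbL))
      rw [Finset.mem_biUnion]
      exact ⟨K, mem_KK.2 hK, by simp [hb, hLK hbL]⟩⟩
  have hf : Function.Injective f := by
    intro p q hpq
    have h1 : p.1.1 * x = q.1.1 * x := congrArg Subtype.val hpq
    have h2 : p.1.1 = q.1.1 := mul_right_cancel h1
    have h3 : p.1.2 = q.1.2 := by
      have e1 := p.2.2.2
      have e2 := q.2.2.2
      rw [h2] at e1
      have : p.1.2⁻¹ = q.1.2⁻¹ := mul_left_cancel (e1.trans e2.symm)
      exact inv_injective this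
    exact Subtype.ext (Prod.ext h2 h3)
  have := Nat.card_le_card_of_injective f hf
  rwa [Nat.card_eq_fintype_card (α := S), Fintype.card_coe] at this

end Cfsg.Agent.Lib.C3X
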