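import Cfsg.Agent.Lib.C3XSum

/-!
# Groups with a self-centralizing subgroup of order three: sums (helper20)
-/

set_option autoImplicit false
set_option linter.style.haveILetI false
set_option linter.unusedSectionVars false

namespace Cfsg.Agent.Lib.C3X

universe u

variable {G : Type u} [Group G] [Finite G]

theorem Ctx.three_sq_le {x t : G} (c : Ctx x t) {K : Subgroup G} (hK : MK x K) (ht : t ∉ nor K)
    (hodd : ¬ 2 ∣ Nat.card K) : 3 * (Nat.card K) ^ 2 ≤ Nat.card G := by
  have htt := c.sc.inv_sq c.inv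
  have hK' : MK x (cj t K) := hK.cj_inv c.sc.ord c.inv htt
  have h1 : K ⊓ cj t K = ⊥ := by
    by_contra hne
    exact hodd (c.even_of_inf hK ht hne)
  have h2 : Nat.card (nor K) = 3 * Nat.card K := by
    rcases c.index_MK hK with h3 | h3
    · exact absurd h3.1 ht
    · exact h3.2
  have h3 : nor K ⊓ cj t K = ⊥ := by
    have h4 : IK x (cj t K ⊓ nor K) := hK'.ik.inf (self_mem_nor _ hK.ik.mem_nor)
    have h5 := (c.nor_MK hK).max _ inf_le_right h4
    rw [eq_bot_iff, ← h1]
    refine le_inf ?_ inf_le_right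
    rw [inf_comm]; exact h5
  have h4 : Function.Injective (fun p : nor K × cj t K => (p.1 : G) * p.2) :=
    Subgroup.mul_injective_of_disjoint (disjoint_iff.2 h3)
  have h5 := Nat.card_le_card_of_injective _ h4
  rw [Nat.card_prod, h2, card_cj] at h5
  calc 3 * Nat.card K ^ 2 = 3 * Nat.card K * Nat.card K := by ring
    _ ≤ _ := h5

theorem Ctx.card_le {x t : G} (c : Ctx x t) (hconj : ∀ s : G, orderOf s = 2 → IsConj t s)
    {M P : ℕ} (hg : Nat.card G = 3 * P) (hPM : P ≤ M ^ 2)
    (hM : Nat.card (Subgroup.centralizer ({t} : Set G)) ≤ M)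
    {K : Subgroup G} (hK : MK x K) (ht : t ∉ nor K) : Nat.card K ≤ M := by
  by_cases h2 : 2 ∣ Nat.card K
  · exact (Nat.le_of_dvd Nat.card_pos (card_dvd_of_even hconj (c.nil hK.ik) h2)).trans hM
  · have h1 := c.three_sq_le hK ht h2
    rw [hg] at h1
    have h3 : Nat.card K ^ 2 ≤ M ^ 2 := by omega
    exact (Nat.pow_le_pow_iff_left (by norm_num)).1 h3

theorem MK.one_lt {x : G} {K : Subgroup G} (hK : MK x K) : 1 < Nat.card K := by
  have h1 : 0 < Nat.card K := Nat.card_pos
  have h2 : Nat.card K ≠ 1 := fun h => hK.ne (Subgroup.card_eq_one.1 h)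
  omega

open scoped Classical in
theorem Ctx.sum_two {x t : G} (c : Ctx x t) (hconj : ∀ s : G, orderOf s = 2 → IsConj t s)
    {M P : ℕ} (hg : Nat.card G = 3 * P) (hP : P % 3 = 2) (hPM : P ≤ M ^ 2)
    (hM : Nat.card (Subgroup.centralizer ({t} : Set G)) ≤ M) :
    ∑ K ∈ (KK x).filter (fun K => t ∉ nor K), (Nat.card K - 1) ≤ 3 * M := by
  set S := (KK x).filter (fun K => t ∉ nor K) with hS
  set T := S.image (fun K : Subgroup G => Nat.card K) with hT
  have hmemS : ∀ K, K ∈ S ↔ MK x K ∧ t ∉ nor K := fun K => by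
    rw [hS, Finset.mem_filter, mem_KK]
  -- two members with a common prime
  have hrel : ∀ K ∈ S, ∀ K' ∈ S, ¬ Nat.Coprime (Nat.card K) (Nat.card K') → K' = K ∨ K' = cj t K := by
    intro K hK K' hK' hc
    obtain ⟨p, hp, hpK, hpK'⟩ := Nat.Prime.not_coprime_iff_dvd.1 hc
    have h1 := (hmemS K).1 hK
    have h2 := (hmemS K').1 hK'
    exact c.eq_of_prime h1.1 h2.1 hp hpK hpK' (Or.inr h1.2) (Or.inr h2.2)
  have h1 : ∑ K ∈ S, (Nat.card K - 1) ≤ 2 * ∑ m ∈ T, (m - 1) := by
    rw [Finset.sum_comp (fun m => m - 1) (fun K : Subgroup G => Nat.card K), ← hT, Finset.mul_sum]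
    apply Finset.sum_le_sum
    intro m hm
    rw [smul_eq_mul]
    apply Nat.mul_le_mul_right
    obtain ⟨K0, hK0, hm0⟩ := Finset.mem_image.1 hm
    have hsub : (S.filter (fun K : Subgroup G => Nat.card K = m)) ⊆ {K0, cj t K0} := by
      intro K hK
      rw [Finset.mem_filter] at hK
      rw [Finset.mem_insert, Finset.mem_singleton]
      apply hrel K0 hK0 K hK.1
      rw [hm0, hK.2]
      intro h3
      have h4 := (hmemS K0).1 hK0
      have := h4.1.one_lt
      rw [hm0] at this
      rw [Nat.coprime_self] at h3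
      omega
    exact (Finset.card_le_card hsub).trans Finset.card_le_two
  have hTc : ∀ m ∈ T, ∀ m' ∈ T, m ≠ m' → Nat.Coprime m m' := by
    intro m hm m' hm' hne
    obtain ⟨K, hK, rfl⟩ := Finset.mem_image.1 hm
    obtain ⟨K', hK', rfl⟩ := Finset.mem_image.1 hm'
    by_contra hcon
    rcases hrel K hK K' hK' hcon with h2 | h2
    · exact hne (by rw [h2])
    · exact hne (by rw [h2, card_cj])
  have hTd : ∏ m ∈ T, m ∣ Nat.card G := by
    apply prod_dvd_of_coprime' T (fun m => m)
    · intro m hm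
      obtain ⟨K, hK, rfl⟩ := Finset.mem_image.1 hm
      exact Subgroup.card_subgroup_dvd_card K
    · exact hTc
  have hT3 : (∏ m ∈ T, m) % 3 = 1 := by
    have : ∀ s : Finset ℕ, (∀ m ∈ s, m % 3 = 1) → (∏ m ∈ s, m) % 3 = 1 := by
      intro s
      induction s using Finset.induction_on with
      | empty => intro _; simp
      | insert a s ha ih =>
        intro h
        rw [Finset.prod_insert ha, Nat.mul_mod, h a (by simp), ih (fun m hm => h m (by simp [hm]))]
    apply this
    intro m hm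
    obtain ⟨K, hK, rfl⟩ := Finset.mem_image.1 hm
    exact c.sc.card_mod ((hmemS K).1 hK).1.ik
  have hprod : 2 * ∏ m ∈ T, m ≤ M ^ 2 := by
    have h3 : Nat.Coprime (∏ m ∈ T, m) 3 := by
      rw [Nat.coprime_comm, Nat.Prime.coprime_iff_not_dvd Nat.prime_three]
      omega
    have h4 : ∏ m ∈ T, m ∣ P := by
      rw [hg] at hTd
      exact h3.dvd_of_dvd_mul_left hTd
    obtain ⟨r, hr⟩ := h4
    have h5 : r % 3 = 2 := by
      rw [hr, Nat.mul_mod, hT3, one_mul, Nat.mod_mod] at hP
      exact hP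
    have h6 : 2 ≤ r := by omega
    refine le_trans ?_ hPM
    rw [hr, mul_comm 2]
    exact Nat.mul_le_mul_left _ h6
  have h2 := merge_finset M T (by
    intro m hm
    obtain ⟨K, hK, rfl⟩ := Finset.mem_image.1 hm
    have h4 := (hmemS K).1 hK
    exact ⟨h4.1.one_lt.le, c.card_le hconj hg hPM hM h4.1 h4.2⟩) hprod
  exact h1.trans h2

/-- `κ(K) = |C_K(t)|`. -/
noncomputable def kap (t : G) (K : Subgroup G) : ℕ :=
  Nat.card (K ⊓ Subgroup.centralizer ({t} : Set G) : Subgroup G)

theorem kap_pos (t : G) (K : Subgroup G) : 0 < kap t K := Nat.card_pos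

theorem Ctx.card_eq_kap {x t : G} (c : Ctx x t) {K : Subgroup G} (hK : IK x K) (ht : t ∈ nor K) :
    Nat.card K = kap t K ^ 2 := c.sc.card_sq c.inv hK (nor_conj ht)

open scoped Classical in
theorem Ctx.sum_odd {x t : G} (c : Ctx x t)
    (h4 : 4 ∣ Nat.card (Subgroup.centralizer ({t} : Set G))) :
    16 * ∑ K ∈ (KK x).filter (fun K => t ∈ nor K ∧ ¬ 2 ∣ Nat.card K), (Nat.card K - 1) + 16 ≤
      Nat.card (Subgroup.centralizer ({t} : Set G)) ^ 2 := by
  have htt := c.sc.inv_sq c.inv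
  set h := Nat.card (Subgroup.centralizer ({t} : Set G)) with hh
  have hhpos : 0 < h := Nat.card_pos
  set S := (KK x).filter (fun K => t ∈ nor K ∧ ¬ 2 ∣ Nat.card K) with hS
  have hmemS : ∀ K, K ∈ S ↔ MK x K ∧ t ∈ nor K ∧ ¬ 2 ∣ Nat.card K := fun K => by
    rw [hS, Finset.mem_filter, mem_KK]
  have h1 : ∑ K ∈ S, (Nat.card K - 1) = ∑ K ∈ S, (kap t K ^ 2 - 1) := by
    apply Finset.sum_congr rfl
    intro K hK
    have := (hmemS K).1 hK
    rw [c.card_eq_kap this.1.ik this.2.1]
  have h2 := sum_sq_le S (kap t) (fun K _ => kap_pos t K)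
  have hodd : ∀ K ∈ S, ¬ 2 ∣ kap t K := by
    intro K hK h3
    have := (hmemS K).1 hK
    apply this.2.2
    rw [c.card_eq_kap this.1.ik this.2.1]
    exact dvd_pow h3 (by norm_num)
  have hdvd : ∏ K ∈ S, kap t K ∣ h := by
    apply prod_dvd_of_coprime'
    · intro K _
      exact Subgroup.card_dvd_of_le inf_le_right
    · intro K hK K' hK' hne
      by_contra hcon
      obtain ⟨p, hp, hpK, hpK'⟩ := Nat.Prime.not_coprime_iff_dvd.1 hcon
      have k1 := (hmemS K).1 hK
      have k2 := (hmemS K').1 hK'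
      have d1 : p ∣ Nat.card K := by
        rw [c.card_eq_kap k1.1.ik k1.2.1]; exact dvd_pow hpK (by norm_num)
      have d2 : p ∣ Nat.card K' := by
        rw [c.card_eq_kap k2.1.ik k2.2.1]; exact dvd_pow hpK' (by norm_num)
      have hp6 : ¬ p ∣ 6 := by
        intro h3
        have h5 : p ∣ 2 * 3 := h3
        rcases (hp.dvd_mul).1 h5 with h6 | h6
        · have : p = 2 := (Nat.prime_dvd_prime_iff_eq hp Nat.prime_two).1 h6
          exact k1.2.2 (this ▸ d1)
        · have : p = 3 := (Nat.prime_dvd_prime_iff_eq hp Nat.prime_three).1 h6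
          exact k1.1.ik.co (this ▸ d1)
      rcases c.eq_of_prime k1.1 k2.1 hp d1 d2 (Or.inl hp6) (Or.inl hp6) with h5 | h5
      · exact hne h5.symm
      · rw [cj_eq_of_mem_nor k1.2.1] at h5
        exact hne h5.symm
  have hcop : Nat.Coprime 4 (∏ K ∈ S, kap t K) := by
    apply Nat.Coprime.prod_right
    intro K hK
    have : Nat.Coprime 2 (kap t K) := (Nat.Prime.coprime_iff_not_dvd Nat.prime_two).2 (hodd K hK)
    exact Nat.Coprime.pow_left 2 this
  have h4Q : 4 * ∏ K ∈ S, kap t K ≤ h :=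
    Nat.le_of_dvd hhpos (hcop.mul_dvd_of_dvd_of_dvd h4 hdvd)
  rw [h1]
  calc 16 * ∑ K ∈ S, (kap t K ^ 2 - 1) + 16 = 16 * (∑ K ∈ S, (kap t K ^ 2 - 1) + 1) := by ring
    _ ≤ 16 * (∏ K ∈ S, kap t K) ^ 2 := Nat.mul_le_mul_left _ h2
    _ = (4 * ∏ K ∈ S, kap t K) ^ 2 := by ring
    _ ≤ h ^ 2 := Nat.pow_le_pow_left h4Q 2

open scoped Classical in
/-- The sets `C_K(t)` are disjoint. -/
theorem Ctx.sum_kap {x t : G} (c : Ctx x t) :
    ∑ K ∈ (KK x).filter (fun K => t ∈ nor K), (kap t K - 1) + 2 ≤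
      Nat.card (Subgroup.centralizer ({t} : Set G)) := by
  haveI := Fintype.ofFinite G
  have htt := c.sc.inv_sq c.inv
  have ht1 : t ≠ 1 := by
    rintro rfl
    apply c.sc.ne_inv
    simpa using c.inv
  set S := (KK x).filter (fun K => t ∈ nor K) with hS
  have hmemS : ∀ K, K ∈ S ↔ MK x K ∧ t ∈ nor K := fun K => by
    rw [hS, Finset.mem_filter, mem_KK]
  set C := Subgroup.centralizer ({t} : Set G) with hC
  set U : Finset G := S.biUnion
    (fun K => Finset.univ.filter (fun g : G => g ∈ K ⊓ C ∧ g ≠ 1)) with hU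
  have hcardU : U.card = ∑ K ∈ S, (kap t K - 1) := by
    rw [hU, Finset.card_biUnion]
    · apply Finset.sum_congr rfl
      intro K _
      exact card_filter_ne_one (K ⊓ C)
    · intro K hK K' hK' hne
      refine Finset.disjoint_left.2 ?_
      intro g hg hg'
      simp only [Finset.mem_filter, Finset.mem_univ, true_and] at hg hg'
      have k1 := (hmemS K).1 hK
      have k2 := (hmemS K').1 hK'
      have h1 := c.ti k1.1 k1.2 k2.1 hne.symm
      have h2 : g ∈ K ⊓ K' := ⟨hg.1.1, hg'.1.1⟩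
      rw [h1] at h2
      exact hg.2 (Subgroup.mem_bot.1 h2)
  have htC : t ∈ C := by rw [hC, Subgroup.mem_centralizer_singleton_iff]
  have htU : t ∉ U := by
    rw [hU, Finset.mem_biUnion]
    rintro ⟨K, hK, hg⟩
    simp only [Finset.mem_filter, Finset.mem_univ, true_and] at hg
    exact c.sc.t_not_mem c.inv ((hmemS K).1 hK).1.ik hg.1.1
  have h1U : (1 : G) ∉ insert t U := by
    rw [Finset.mem_insert]
    rintro (h | h)
    · exact ht1 h.symm
    · rw [hU, Finset.mem_biUnion] at h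
      obtain ⟨K, hK, hg⟩ := h
      simp only [Finset.mem_filter, Finset.mem_univ, true_and] at hg
      exact hg.2 rfl
  have hsub : insert 1 (insert t U) ⊆ Finset.univ.filter (fun g : G => g ∈ C) := by
    intro g hg
    rw [Finset.mem_insert, Finset.mem_insert] at hg
    simp only [Finset.mem_filter, Finset.mem_univ, true_and]
    rcases hg with rfl | rfl | hg
    · exact C.one_mem
    · exact htC
    · rw [hU, Finset.mem_biUnion] at hg
      obtain ⟨K, hK, hg⟩ := hg
      simp only [Finset.mem_filter, Finset.mem_univ, true_and] at hg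
      exact hg.1.2
  have h1 := Finset.card_le_card hsub
  rw [Finset.card_insert_of_notMem h1U, Finset.card_insert_of_notMem htU, hcardU] at h1
  have h2 : (Finset.univ.filter (fun g : G => g ∈ C)).card = Nat.card C := by
    rw [Nat.card_eq_fintype_card, Fintype.card_subtype]
  rw [h2] at h1
  omega

open scoped Classical in
theorem Ctx.sum_even {x t : G} (c : Ctx x t) (hconj : ∀ s : G, orderOf s = 2 → IsConj t s) :
    ∃ κ : ℕ, 2 * κ ^ 2 ≤ Nat.card (Subgroup.centralizer ({t} : Set G)) ∧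
    ∑ K ∈ (KK x).filter (fun K => t ∈ nor K ∧ 2 ∣ Nat.card K), (Nat.card K - 1) ≤
      (κ + 1) * (Nat.card (Subgroup.centralizer ({t} : Set G)) - 2) := by
  set h := Nat.card (Subgroup.centralizer ({t} : Set G)) with hh
  have hhpos : 0 < h := Nat.card_pos
  set S := (KK x).filter (fun K => t ∈ nor K ∧ 2 ∣ Nat.card K) with hS
  have hmemS : ∀ K, K ∈ S ↔ MK x K ∧ t ∈ nor K ∧ 2 ∣ Nat.card K := fun K => by
    rw [hS, Finset.mem_filter, mem_KK]
  refine ⟨S.sup (kap t), ?_, ?_⟩
  · rcases S.eq_empty_or_nonempty with h0 | h0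
    · rw [h0]; simp
    · obtain ⟨K, hK, hK2⟩ := Finset.exists_mem_eq_sup S h0 (kap t)
      rw [hK2]
      have k1 := (hmemS K).1 hK
      have h1 := c.two_card_dvd hconj k1.1.ik k1.2.1 k1.2.2
      rw [c.card_eq_kap k1.1.ik k1.2.1] at h1
      exact Nat.le_of_dvd hhpos h1
  · have h1 : ∀ K ∈ S, Nat.card K - 1 ≤ (S.sup (kap t) + 1) * (kap t K - 1) := by
      intro K hK
      have k1 := (hmemS K).1 hK
      rw [c.card_eq_kap k1.1.ik k1.2.1]
      have h2 : kap t K ≤ S.sup (kap t) := Finset.le_sup hK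
      have h3 := kap_pos t K
      obtain ⟨n, hn⟩ := Nat.exists_eq_add_of_le (Nat.succ_le_of_lt h3)
      have h4 : kap t K ^ 2 - 1 = (kap t K + 1) * (kap t K - 1) := by
        rw [hn]
        have e1 : (Nat.succ 0 + n) ^ 2 - 1 = n * n + 2 * n := by
          have : (Nat.succ 0 + n) ^ 2 = n * n + 2 * n + 1 := by ring
          rw [this]; rfl
        have e2 : Nat.succ 0 + n - 1 = n := by omega
        rw [e1, e2]; ring
      rw [h4]
      exact Nat.mul_le_mul_right _ (by omega)
    refine (Finset.sum_le_sum h1).trans ?_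
    rw [← Finset.mul_sum]
    apply Nat.mul_le_mul_left
    have h2 := c.sum_kap
    have h3 : ∑ K ∈ S, (kap t K - 1) ≤ ∑ K ∈ (KK x).filter (fun K => t ∈ nor K), (kap t K - 1) := by
      apply Finset.sum_le_sum_of_subset
      intro K hK
      rw [hS, Finset.mem_filter] at hK
      rw [Finset.mem_filter]
      exact ⟨hK.1, hK.2.1⟩
    omega

end Cfsg.Agent.Lib.C3X
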