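import Cfsg.Agent.Lib.C3XBasic

/-!
# Groups with a self-centralizing subgroup of order three: quotients and local types (helper20)
-/

set_option autoImplicit false
set_option linter.style.haveILetI false
set_option linter.unusedSectionVars false

namespace Cfsg.Agent.Lib.C3X



universe u

/-- The conclusion of the theorem. -/
def Concl (G : Type u) [Group G] : Prop :=
  (∃ (N : Subgroup G) (_ : N.Normal), Group.IsNilpotent N ∧ (Nat.card N).Coprime 3 ∧
        (Nat.card (G ⧸ N) = 3 ∨ Nonempty (G ⧸ N ≃* Equiv.Perm (Fin 3)))) ∨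
    (∃ (N : Subgroup G) (_ : N.Normal), IsMulCommutative N ∧ (∀ n ∈ N, n ^ 2 = 1) ∧
        Nonempty (G ⧸ N ≃* alternatingGroup (Fin 5))) ∨
    Nonempty (G ≃* Matrix.ProjectiveSpecialLinearGroup (Fin 2) (ZMod 7))

variable {G : Type u} [Group G] [Finite G]

theorem SC.quot {x : G} (h : SC x) (N : Subgroup G) [N.Normal] (hN : ¬ 3 ∣ Nat.card N) :
    SC (x : G ⧸ N) := by
  have hIK : IK x N := ⟨fun k hk => Subgroup.Normal.conj_mem inferInstance k hk x, hN⟩
  have ho : orderOf (x : G ⧸ N) = 3 := by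
    haveI : Fact (Nat.Prime 3) := ⟨Nat.prime_three⟩
    apply orderOf_eq_prime
    · rw [← QuotientGroup.mk_pow, pow_succ, pow_two, cube h.ord, QuotientGroup.mk_one]
    · intro h1
      exact h.not_mem hN ((QuotientGroup.eq_one_iff x).1 h1)
  refine ⟨ho, ?_⟩
  intro g
  obtain ⟨g, rfl⟩ := QuotientGroup.mk_surjective g
  intro hg
  have h1 : g * x * g⁻¹ * x⁻¹ ∈ N := by
    rw [← QuotientGroup.eq_one_iff]
    simp only [QuotientGroup.mk_mul, QuotientGroup.mk_inv]
    rw [hg]; group
  obtain ⟨u, hu, hux⟩ := h.surj hIK h1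
  have h2 : u⁻¹ * g * x = x * (u⁻¹ * g) := by
    calc u⁻¹ * g * x = u⁻¹ * (g * x * g⁻¹ * x⁻¹ * x) * g := by group
      _ = u⁻¹ * (u * x * u⁻¹) * g := by rw [hux]
      _ = _ := by group
  have h3 := h.cent _ h2
  have h4 : ((g : G) : G ⧸ N) = ((u⁻¹ * g : G) : G ⧸ N) := by
    rw [QuotientGroup.mk_mul, QuotientGroup.mk_inv, (QuotientGroup.eq_one_iff u).2 hu]
    simp
  rw [h4]
  obtain ⟨k, hk⟩ := h3
  refine ⟨k, ?_⟩
  simp only at hk ⊢
  rw [← hk, QuotientGroup.mk_zpow]

/-- An element whose image in a quotient by a normal `3'`-subgroup has order `3` has order `3`. -/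
theorem SC.lift_ord {x : G} (h : SC x) (N : Subgroup G) [N.Normal] {g : G}
    (hg : orderOf (g : G ⧸ N) = 3) : orderOf g = 3 := by
  apply h.order_eq
  rw [← hg]
  exact orderOf_map_dvd (QuotientGroup.mk' N) g

theorem SC.burnside {x : G} (h : SC x) (hno : ∀ t : G, t * x * t⁻¹ ≠ x⁻¹) :
    ∃ N : Subgroup G, N.Normal ∧ Nat.card N * 3 = Nat.card G ∧ ¬ 3 ∣ Nat.card N := by
  haveI : Fact (Nat.Prime 3) := ⟨Nat.prime_three⟩
  obtain ⟨P, hP⟩ := h.exists_sylow
  have hle : Subgroup.normalizer ((P : Subgroup G) : Set G) ≤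
      Subgroup.centralizer ((P : Subgroup G) : Set G) := by
    intro g hg
    have hxP : x ∈ (P : Subgroup G) := by rw [hP]; exact Subgroup.mem_zpowers x
    have h1 : g * x * g⁻¹ ∈ Subgroup.zpowers x := by
      rw [← hP]
      exact (Subgroup.mem_normalizer_iff.1 hg x).1 hxP
    have h2 : g * x * g⁻¹ = x := by
      rcases (mem_zp h.ord).1 h1 with h3 | h3 | h3
      · exfalso
        apply h.ne_one
        have : x = g⁻¹ * (g * x * g⁻¹) * g := by group
        rw [this, h3]; group
      · exact h3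
      · exact absurd h3 (hno g)
    have h3 : g * x = x * g := by
      calc g * x = g * x * g⁻¹ * g := by group
        _ = x * g := by rw [h2]
    rw [Subgroup.mem_centralizer_iff]
    intro y hy
    rw [SetLike.mem_coe, hP] at hy
    rcases (mem_zp h.ord).1 hy with rfl | rfl | rfl
    · group
    · exact h3.symm
    · have : Commute g x := h3
      exact this.inv_right.symm.eq
  have hc := MonoidHom.ker_transferSylow_isComplement' P hle
  have h1 := hc.card_mul_card
  have h2 : Nat.card (P : Subgroup G) = 3 := by rw [hP, Nat.card_zpowers, h.ord]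
  rw [h2] at h1
  refine ⟨_, inferInstance, h1, ?_⟩
  intro h3
  apply h.not_nine_dvd
  rw [← h1]
  exact mul_dvd_mul h3 (dvd_refl 3)

theorem IK.sup {x : G} {K F : Subgroup G} [F.Normal] (hK : IK x K) (hF : ¬ 3 ∣ Nat.card F) :
    IK x (K ⊔ F) := by
  refine ⟨?_, ?_⟩
  · intro k hk
    rw [← SetLike.mem_coe, Subgroup.mul_normal] at hk ⊢
    obtain ⟨a, ha, b, hb, rfl⟩ := hk
    refine ⟨x * a * x⁻¹, hK.inv a ha, x * b * x⁻¹, Subgroup.Normal.conj_mem inferInstance b hb x, ?_⟩
    simp only
    group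
  · intro h
    have h1 : Nat.card (K ⊔ F : Subgroup G) ∣ Nat.card K * Nat.card F := by
      have h2 : F.relIndex (K ⊔ F) = F.relIndex K := by
        rw [Subgroup.relIndex_sup_right]
      have h3 : Nat.card F * F.relIndex (K ⊔ F) = Nat.card (K ⊔ F : Subgroup G) := by
        have := Subgroup.relIndex_mul_relIndex ⊥ F (K ⊔ F) bot_le le_sup_right
        rwa [Subgroup.relIndex_bot_left, Subgroup.relIndex_bot_left] at this
      rw [← h3, h2, mul_comm]
      exact mul_dvd_mul_right (Subgroup.relIndex_dvd_card _ _) _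
    rcases (Nat.prime_three.dvd_mul).1 (h.trans h1) with h2 | h2
    · exact hK.co h2
    · exact hF h2

/-- The index of `F` in an invariant `3'`-group `K ≥ F` is `1 mod 3`. -/
theorem SC.index_mod {x : G} (h : SC x) {K F : Subgroup G} (hK : IK x K) (hF : IK x F) (hFK : F ≤ K)
    : ∃ q, Nat.card K = Nat.card F * q ∧ q % 3 = 1 := by
  obtain ⟨q, hq⟩ := Subgroup.card_dvd_of_le hFK
  refine ⟨q, hq, ?_⟩
  have h1 := h.card_mod hK
  have h2 := h.card_mod hF
  rw [hq, Nat.mul_mod, h2, one_mul, Nat.mod_mod] at h1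
  exact h1

/-- If a normal `3'`-subgroup `F` has index `3` or `6` then it contains all invariant
`3'`-subgroups. -/
theorem SC.le_of_index {x : G} (h : SC x) {F : Subgroup G} [F.Normal] (hF : ¬ 3 ∣ Nat.card F)
    (hidx : Nat.card G = 3 * Nat.card F ∨ Nat.card G = 6 * Nat.card F) {K : Subgroup G}
    (hK : IK x K) : K ≤ F := by
  have hIK : IK x F := ⟨fun k hk => Subgroup.Normal.conj_mem inferInstance k hk x, hF⟩
  obtain ⟨q, hq, hq3⟩ := h.index_mod (IK.sup hK hF) hIK le_sup_right
  have h1 : Nat.card (K ⊔ F : Subgroup G) ∣ Nat.card G := Subgroup.card_subgroup_dvd_card _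
  have hpos : 0 < Nat.card F := Nat.card_pos
  have h2 : q ∣ 6 := by
    rw [hq] at h1
    rcases hidx with h3 | h3
    · rw [h3, mul_comm 3] at h1
      exact ((Nat.mul_dvd_mul_iff_left hpos).1 h1).trans (by norm_num)
    · rw [h3, mul_comm 6] at h1
      exact (Nat.mul_dvd_mul_iff_left hpos).1 h1
  have h3 : q = 1 := by
    have : q ≤ 6 := Nat.le_of_dvd (by norm_num) h2
    interval_cases q <;> omega
  rw [h3, mul_one] at hq
  have h4 : F = K ⊔ F := Subgroup.eq_of_le_of_card_ge le_sup_right hq.le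
  rw [h4]
  exact le_sup_left

/-- A group of order 6 with a self-centralizing element of order 3 is `S₃`. -/
theorem SC.s3 {x : G} (h : SC x) (hcard : Nat.card G = 6) : Nonempty (G ≃* Equiv.Perm (Fin 3)) := by
  classical
  haveI : Fact (Nat.Prime 2) := ⟨Nat.prime_two⟩
  obtain ⟨t, ht⟩ := exists_prime_orderOf_dvd_card' (G := G) 2 (by rw [hcard]; norm_num)
  set P := Subgroup.zpowers t with hPdef
  have hP : Nat.card P = 2 := by rw [hPdef, Nat.card_zpowers, ht]
  have hidx : Nat.card (G ⧸ P) = 3 := by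
    have h1 := Subgroup.card_eq_card_quotient_mul_card_subgroup P
    rw [hcard, hP] at h1
    omega
  let f := MulAction.toPermHom G (G ⧸ P)
  have hker : f.ker = ⊥ := by
    rw [← Subgroup.normalCore_eq_ker]
    have h1 : Nat.card P.normalCore ∣ 2 := by
      rw [← hP]; exact Subgroup.card_dvd_of_le (Subgroup.normalCore_le _)
    have h2 : IK x P.normalCore :=
      ⟨fun k hk => Subgroup.Normal.conj_mem (Subgroup.normalCore_normal P) k hk x,
        fun h3 => by have := h3.trans h1; omega⟩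
    have h3 := h.card_mod h2
    have h4 : Nat.card P.normalCore ≤ 2 := Nat.le_of_dvd (by norm_num) h1
    have h5 : Nat.card P.normalCore = 1 := by
      interval_cases hh : Nat.card P.normalCore
      · omega
      · rfl
      · omega
    exact Subgroup.card_eq_one.1 h5
  have hinj : Function.Injective f := (MonoidHom.ker_eq_bot_iff f).1 hker
  have hcardP : Nat.card (Equiv.Perm (G ⧸ P)) = 6 := by
    rw [Nat.card_perm, hidx]; rfl
  have hbij : Function.Bijective f := by
    refine (Nat.bijective_iff_injective_and_card f).2 ⟨hinj, ?_⟩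
    rw [hcard, hcardP]
  let e1 : G ≃* Equiv.Perm (G ⧸ P) := MulEquiv.ofBijective f hbij
  let e2 : (G ⧸ P) ≃ Fin 3 := Finite.equivFinOfCardEq hidx
  exact ⟨e1.trans e2.permCongrHom⟩

/-- A normal `3'`-subgroup of index `3` or `6` gives the first conclusion. -/
theorem SC.concl_of_index {x : G} (h : SC x) {F : Subgroup G} [F.Normal] (hF : ¬ 3 ∣ Nat.card F)
    (hidx : Nat.card G = 3 * Nat.card F ∨ Nat.card G = 6 * Nat.card F) : Concl G := by
  left
  have hIK : IK x F := ⟨fun k hk => Subgroup.Normal.conj_mem inferInstance k hk x, hF⟩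
  have hpos : 0 < Nat.card F := Nat.card_pos
  refine ⟨F, inferInstance, h.isNilpotent hIK,
    (Nat.coprime_comm.1 ((Nat.Prime.coprime_iff_not_dvd Nat.prime_three).2 hF)), ?_⟩
  have h1 := Subgroup.card_eq_card_quotient_mul_card_subgroup F
  rcases hidx with h2 | h2
  · left
    rw [h2] at h1
    exact (Nat.eq_of_mul_eq_mul_right hpos h1).symm
  · right
    apply (SC.quot h F hF).s3
    rw [h2] at h1
    exact (Nat.eq_of_mul_eq_mul_right hpos h1).symm

end Cfsg.Agent.Lib.C3X
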