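import Cfsg.Agent.Lib.C3XTypes

/-!
# Groups with a self-centralizing subgroup of order three: local types (helper20)
-/

set_option autoImplicit false
set_option linter.style.haveILetI false
set_option linter.unusedSectionVars false

namespace Cfsg.Agent.Lib.C3X

universe u

variable {G : Type u} [Group G] [Finite G]

/-- Subgroups of the first type. -/
structure TypeI (x : G) (H F : Subgroup G) : Prop where
  le : F ≤ H
  nor : ∀ h ∈ H, ∀ f ∈ F, h * f * h⁻¹ ∈ F
  co : ¬ 3 ∣ Nat.card F
  max : ∀ K ≤ H, IK x K → K ≤ F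
  idx : Nat.card H = 3 * Nat.card F ∨ Nat.card H = 6 * Nat.card F

/-- Subgroups of the second type. -/
structure TypeII (x : G) (H F : Subgroup G) : Prop where
  le : F ≤ H
  nor : ∀ h ∈ H, ∀ f ∈ F, h * f * h⁻¹ ∈ F
  two : IsPGroup 2 F
  inv : ∃ t ∈ H, t * x * t⁻¹ = x⁻¹
  tmax : ∀ K ≤ H, IK x K → ∀ t ∈ H, t * x * t⁻¹ = x⁻¹ → (∀ k ∈ K, t * k * t⁻¹ ∈ K) → K ≤ F
  odd : ∀ K ≤ H, IK x K → F ≤ K → ∀ q, Nat.card K = Nat.card F * q → Odd q → q = 1
  big : ∃ K ≤ H, IK x K ∧ F < K

theorem not_three_of_two {F : Subgroup G} (hF : IsPGroup 2 F) : ¬ 3 ∣ Nat.card F := by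
  intro h
  haveI : Fact (Nat.Prime 2) := ⟨Nat.prime_two⟩
  obtain ⟨n, hn⟩ := IsPGroup.iff_card.1 hF
  rw [hn] at h
  have := (Nat.Prime.dvd_of_dvd_pow Nat.prime_three h)
  omega

/-- A Klein four-group permuted by `c`. -/
theorem exists_IK_of_four {Q : Type u} [Group Q] [Finite Q] {c v : Q} (hc : c * c * c = 1)
    (hv : v ≠ 1) (hvv : v * v = 1) (h1 : v * (c * v * c⁻¹) = c * v * c⁻¹ * v)
    (h2 : v * (c * v * c⁻¹) * (c⁻¹ * v * c) = 1) : ∃ K : Subgroup Q, K ≠ ⊥ ∧ IK c K := by
  have hci : c⁻¹ = c * c := by rw [inv_eq_iff_mul_eq_one, ← mul_assoc]; exact hc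
  have h4 : c⁻¹ * c⁻¹ = c := by rw [← mul_inv_rev, ← hci, inv_inv]
  set p := c * v * c⁻¹ with hp
  set q := c⁻¹ * v * c with hq
  have hpp : p * p = 1 := by
    rw [hp]
    calc c * v * c⁻¹ * (c * v * c⁻¹) = c * (v * v) * c⁻¹ := by group
      _ = 1 := by rw [hvv]; group
  have hcp : c * p * c⁻¹ = q := by
    rw [hp, hq]
    calc c * (c * v * c⁻¹) * c⁻¹ = (c * c) * v * (c⁻¹ * c⁻¹) := by group
      _ = _ := by rw [← hci, h4]
  have hqq : q * q = 1 := by
    rw [hq]
    calc c⁻¹ * v * c * (c⁻¹ * v * c) = c⁻¹ * (v * v) * c := by group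
      _ = 1 := by rw [hvv]; group
  have hcq : c * q * c⁻¹ = v := by rw [hq]; group
  have hq2 : q = v * p := by
    have h3 : v * p * q * q = q := by rw [h2, one_mul]
    rw [mul_assoc, hqq, mul_one] at h3
    exact h3.symm
  clear_value p q
  let K : Subgroup Q :=
    { carrier := {g | g = 1 ∨ g = v ∨ g = p ∨ g = v * p}
      one_mem' := Or.inl rfl
      mul_mem' := by
        have e1 : v * (v * p) = p := by rw [← mul_assoc, hvv, one_mul]
        have e2 : p * (v * p) = v := by rw [← mul_assoc, ← h1, mul_assoc, hpp, mul_one]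
        have e3 : v * p * v = p := by rw [h1, mul_assoc, hvv, mul_one]
        have e4 : v * p * p = v := by rw [mul_assoc, hpp, mul_one]
        have e5 : v * p * (v * p) = 1 := by rw [← mul_assoc, e3, hpp]
        rintro a b (rfl | rfl | rfl | rfl) (rfl | rfl | rfl | rfl)
        · left; simp
        · right; left; simp
        · right; right; left; simp
        · right; right; right; simp
        · right; left; simp
        · left; exact hvv
        · right; right; right; rfl
        · right; right; left; exact e1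
        · right; right; left; simp
        · right; right; right; exact h1.symm
        · left; exact hpp
        · right; left; exact e2
        · right; right; right; simp
        · right; right; left; exact e3
        · right; left; exact e4
        · left; exact e5
      inv_mem' := by
        have e5 : v * p * (v * p) = 1 := by
          calc v * p * (v * p) = v * (p * v) * p := by group
            _ = v * (v * p) * p := by rw [h1]
            _ = (v * v) * (p * p) := by group
            _ = 1 := by rw [hvv, hpp, one_mul]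
        rintro a (rfl | rfl | rfl | rfl)
        · left; simp
        · right; left; exact inv_eq_of_mul_eq_one_left hvv
        · right; right; left; exact inv_eq_of_mul_eq_one_left hpp
        · right; right; right; exact inv_eq_of_mul_eq_one_left e5 }
  have hKm : ∀ g, g ∈ K ↔ g = 1 ∨ g = v ∨ g = p ∨ g = v * p := fun _ => Iff.rfl
  refine ⟨K, ?_, ?_, ?_⟩
  · intro hb
    apply hv
    have : v ∈ K := (hKm v).2 (Or.inr (Or.inl rfl))
    rw [hb] at this
    exact Subgroup.mem_bot.1 this
  · intro k hk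
    rw [hKm] at hk ⊢
    rcases hk with rfl | rfl | rfl | rfl
    · left; group
    · right; right; left; exact hp.symm
    · right; right; right; rw [hcp, hq2]
    · right; left; rw [← hq2, hcq]
  · apply not_three_of_two
    intro k
    refine ⟨1, ?_⟩
    obtain ⟨k, hk⟩ := k
    have e5 : v * p * (v * p) = 1 := by
      calc v * p * (v * p) = v * (p * v) * p := by group
        _ = v * (v * p) * p := by rw [h1]
        _ = (v * v) * (p * p) := by group
        _ = 1 := by rw [hvv, hpp, one_mul]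
    ext
    simp only [pow_one, pow_two, Subgroup.coe_mul, Subgroup.coe_one]
    rw [hKm] at hk
    rcases hk with rfl | rfl | rfl | rfl
    · simp
    · exact hvv
    · exact hpp
    · exact e5

theorem IK.map_conj {x : G} {K : Subgroup G} (c : G) (hK : IK x K) :
    IK (c * x * c⁻¹) (K.map (MulAut.conj c).toMonoidHom) := by
  refine ⟨?_, ?_⟩
  · rintro k ⟨y, hy, rfl⟩
    refine ⟨x * y * x⁻¹, hK.inv y hy, ?_⟩
    simp only [MulEquiv.toMonoidHom_eq_coe, MonoidHom.coe_coe, MulAut.conj_apply]
    group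
  · rw [Subgroup.card_map_of_injective (MulAut.conj c).injective]
    exact hK.co

open Equiv in
/-- In `A₅` every invariant four-group. -/
theorem A5_IK {Q : Type u} [Group Q] [Finite Q] (e : Q ≃* alternatingGroup (Fin 5)) {y : Q}
    (hy : SC y) : ∃ K : Subgroup Q, K ≠ ⊥ ∧ IK y K := by
  let c0 : alternatingGroup (Fin 5) := ⟨swap 0 1 * swap 1 2, Equiv.Perm.mem_alternatingGroup.2 (by decide)⟩
  let v0 : alternatingGroup (Fin 5) := ⟨swap 0 1 * swap 2 3, Equiv.Perm.mem_alternatingGroup.2 (by decide)⟩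
  have a1 : c0 * c0 * c0 = 1 := by decide
  have a0 : c0 ≠ 1 := by decide
  have a2 : v0 ≠ 1 := by decide
  have a3 : v0 * v0 = 1 := by decide
  have a4 : v0 * (c0 * v0 * c0⁻¹) = c0 * v0 * c0⁻¹ * v0 := by decide
  have a5 : v0 * (c0 * v0 * c0⁻¹) * (c0⁻¹ * v0 * c0) = 1 := by decide
  set c := e.symm c0 with hc
  set v := e.symm v0 with hv
  have b1 : c * c * c = 1 := by rw [hc, ← map_mul, ← map_mul, a1, map_one]
  have b0 : c ≠ 1 := by
    rw [hc]
    intro h
    exact a0 (by rw [← e.apply_symm_apply c0, h, map_one])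
  have b2 : v ≠ 1 := by
    rw [hv]
    intro h
    exact a2 (by rw [← e.apply_symm_apply v0, h, map_one])
  have b3 : v * v = 1 := by rw [hv, ← map_mul, a3, map_one]
  have b4 : v * (c * v * c⁻¹) = c * v * c⁻¹ * v := by
    simp only [hv, hc, ← map_mul, ← map_inv]
    rw [a4]
  have b5 : v * (c * v * c⁻¹) * (c⁻¹ * v * c) = 1 := by
    simp only [hv, hc, ← map_mul, ← map_inv]
    rw [a5, map_one]
  have ho : orderOf c = 3 := by
    haveI : Fact (Nat.Prime 3) := ⟨Nat.prime_three⟩
    exact orderOf_eq_prime (by rw [pow_succ, pow_two, b1]) b0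
  obtain ⟨K, hK1, hK2⟩ := exists_IK_of_four b1 b2 b3 b4 b5
  obtain ⟨g, hg | hg⟩ := hy.exists_conj ho
  · have h1 := IK.map_conj g⁻¹ hK2
    rw [← hg] at h1
    have h2 : g⁻¹ * (g * y * g⁻¹) * g⁻¹⁻¹ = y := by group
    rw [h2] at h1
    exact ⟨_, by rwa [Ne, Subgroup.map_eq_bot_iff_of_injective _ (MulAut.conj g⁻¹).injective], h1⟩
  · have h1 := IK.map_conj g⁻¹ (hK2.symm ho)
    rw [← hg] at h1
    have h2 : g⁻¹ * (g * y * g⁻¹) * g⁻¹⁻¹ = y := by group
    rw [h2] at h1
    exact ⟨_, by rwa [Ne, Subgroup.map_eq_bot_iff_of_injective _ (MulAut.conj g⁻¹).injective], h1⟩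

end Cfsg.Agent.Lib.C3X
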