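import Cfsg.Agent.Lib.C3XTypes2

/-!
# Groups with a self-centralizing subgroup of order three: local types (helper20)
-/

set_option autoImplicit false
set_option linter.style.haveILetI false
set_option linter.unusedSectionVars false

namespace Cfsg.Agent.Lib.C3X

universe u

variable {G : Type u} [Group G] [Finite G]

theorem simple_quot {N M : Subgroup G} [N.Normal] [M.Normal] (hs : IsSimpleGroup (G ⧸ N)) :
    M ≤ N ∨ M ⊔ N = ⊤ := by
  have h1 : (M.map (QuotientGroup.mk' N)).Normal :=
    Subgroup.Normal.map inferInstance _ (QuotientGroup.mk'_surjective N)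
  rcases h1.eq_bot_or_eq_top with h2 | h2
  · left
    rw [Subgroup.map_eq_bot_iff, QuotientGroup.ker_mk'] at h2
    exact h2
  · right
    have h3 := Subgroup.comap_map_eq (QuotientGroup.mk' N) M
    rw [h2, Subgroup.comap_top, QuotientGroup.ker_mk'] at h3
    exact h3.symm

theorem two_of_sq {N : Subgroup G} (hN : ∀ n ∈ N, n ^ 2 = 1) : IsPGroup 2 N := by
  intro n
  refine ⟨1, ?_⟩
  ext
  simpa using hN n n.2

theorem IK.of_normal {x : G} {N : Subgroup G} [N.Normal] (h : ¬ 3 ∣ Nat.card N) : IK x N :=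
  ⟨fun k hk => Subgroup.Normal.conj_mem inferInstance k hk x, h⟩

theorem mem_norm {x : G} {K : Subgroup G} (h : ∀ k ∈ K, x * k * x⁻¹ ∈ K) :
    x ∈ Subgroup.normalizer (K : Set G) := by
  have h1 : K.map (MulAut.conj x).toMonoidHom ≤ K := by
    rintro _ ⟨k, hk, rfl⟩
    exact h k hk
  have h2 : K.map (MulAut.conj x).toMonoidHom = K := by
    apply Subgroup.eq_of_le_of_card_ge h1
    rw [Subgroup.card_map_of_injective (MulAut.conj x).injective]
  rw [Subgroup.mem_normalizer_iff]
  intro k
  refine ⟨h k, fun hk => ?_⟩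
  rw [← h2] at hk
  obtain ⟨l, hl, hl2⟩ := hk
  have : x * l * x⁻¹ = x * k * x⁻¹ := hl2
  have h3 : l = k := by
    have := congrArg (fun z => x⁻¹ * z * x) this
    simpa [mul_assoc] using this
  rw [← h3]; exact hl

theorem dvd_of_norm {K : Subgroup G} {y : G} {p : ℕ} (hp : p.Prime)
    (hy : ∀ k ∈ K, y * k * y⁻¹ ∈ K) (hyp : y ^ p = 1) (hyK : y ∉ K) :
    p ∣ Nat.card (Subgroup.normalizer (K : Set G) ⧸
      K.subgroupOf (Subgroup.normalizer (K : Set G))) := by
  haveI : Fact p.Prime := ⟨hp⟩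
  set M := Subgroup.normalizer (K : Set G) with hM
  have hyM : y ∈ M := mem_norm hy
  haveI : (K.subgroupOf M).Normal := Subgroup.normal_in_normalizer
  have ho : orderOf (((⟨y, hyM⟩ : M) : M ⧸ K.subgroupOf M)) = p := by
    apply orderOf_eq_prime
    · rw [← QuotientGroup.mk_pow]
      rw [QuotientGroup.eq_one_iff]
      have : (⟨y, hyM⟩ : M) ^ p = 1 := by ext; simpa using hyp
      rw [this]; exact one_mem _
    · intro h1
      rw [QuotientGroup.eq_one_iff] at h1
      exact hyK (Subgroup.mem_subgroupOf.1 h1)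
  rw [← ho]
  exact orderOf_dvd_natCard _

theorem card_norm (K : Subgroup G) : Nat.card (Subgroup.normalizer (K : Set G)) =
    Nat.card K * Nat.card (Subgroup.normalizer (K : Set G) ⧸
      K.subgroupOf (Subgroup.normalizer (K : Set G))) := by
  have h1 := Subgroup.card_eq_card_quotient_mul_card_subgroup
    (K.subgroupOf (Subgroup.normalizer (K : Set G)))
  rw [h1, mul_comm]
  congr 1
  exact Nat.card_congr (Subgroup.subgroupOfEquivOfLe Subgroup.le_normalizer).toEquiv

theorem SC.three_mul_dvd {x : G} (h : SC x) {K : Subgroup G} (hK : IK x K) :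
    3 * Nat.card K ∣ Nat.card (Subgroup.normalizer (K : Set G)) := by
  rw [card_norm K, mul_comm]
  apply mul_dvd_mul_left
  exact dvd_of_norm Nat.prime_three hK.inv (by rw [pow_succ, pow_two]; exact cube h.ord)
    (h.not_mem hK.co)

theorem SC.t_not_mem {x t : G} (h : SC x) (ht : t * x * t⁻¹ = x⁻¹) {K : Subgroup G}
    (hK : IK x K) : t ∉ K := by
  intro htK
  have h1 := mul_mem htK (hK.inv _ (inv_mem htK))
  have h2 : t * (x * t⁻¹ * x⁻¹) = x⁻¹ * x⁻¹ := by rw [← ht]; group
  rw [h2] at h1
  have h3 : x⁻¹ * x⁻¹ = x := by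
    rw [← mul_inv_rev, ← inv_eq h.ord, inv_inv]
  rw [h3] at h1
  exact h.not_mem hK.co h1

theorem SC.six_mul_dvd {x t : G} (h : SC x) (ht : t * x * t⁻¹ = x⁻¹) {K : Subgroup G}
    (hK : IK x K) (htK : ∀ k ∈ K, t * k * t⁻¹ ∈ K) :
    6 * Nat.card K ∣ Nat.card (Subgroup.normalizer (K : Set G)) := by
  rw [card_norm K, mul_comm]
  apply mul_dvd_mul_left
  have h1 := dvd_of_norm Nat.prime_three hK.inv (by rw [pow_succ, pow_two]; exact cube h.ord)
    (h.not_mem hK.co)
  have h2 := dvd_of_norm Nat.prime_two htK (by rw [pow_two]; exact h.inv_sq ht) (h.t_not_mem ht hK)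
  exact Nat.Coprime.mul_dvd_of_dvd_of_dvd (by norm_num : Nat.Coprime 2 3) h2 h1

theorem no_ten {a b : ℕ} (ha : 0 < a ^ 2) (h : a ^ 2 * 10 = b ^ 2) : False := by
  have h1 : a ∣ b := (Nat.pow_dvd_pow_iff (n := 2) (by norm_num)).1 ⟨10, h.symm⟩
  obtain ⟨c, rfl⟩ := h1
  have h2 : c ^ 2 = 10 := by
    have : a ^ 2 * 10 = a ^ 2 * c ^ 2 := by rw [h]; ring
    exact (Nat.eq_of_mul_eq_mul_left ha this).symm
  have h3 : c < 4 := by nlinarith
  interval_cases c <;> omega

theorem typ_two {x : G} (h : SC x) {N : Subgroup G} [N.Normal] (hN : IsPGroup 2 N)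
    (e : G ⧸ N ≃* alternatingGroup (Fin 5)) : TypeII x ⊤ N := by
  have hN3 := not_three_of_two hN
  have hIKN : IK x N := IK.of_normal hN3
  have hs : IsSimpleGroup (G ⧸ N) := by
    haveI := alternatingGroup.isSimpleGroup (α := Fin 5) (by simp)
    exact e.isSimpleGroup
  have hcardQ : Nat.card (G ⧸ N) = 60 := by
    rw [Nat.card_congr e.toEquiv, nat_card_alternatingGroup]
    simp [Nat.factorial]
  have hcard : Nat.card G = 60 * Nat.card N := by
    rw [Subgroup.card_eq_card_quotient_mul_card_subgroup N, hcardQ]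
  have hpos : 0 < Nat.card N := Nat.card_pos
  refine ⟨le_top, fun g _ n hn => Subgroup.Normal.conj_mem inferInstance n hn g, hN, ?_, ?_, ?_, ?_⟩
  · by_contra hcon
    push Not at hcon
    obtain ⟨M, hM, hM1, hM3⟩ := h.burnside (fun t => hcon t trivial)
    rcases simple_quot (M := M) hs with h1 | h1
    · have := Subgroup.card_le_of_le h1
      omega
    · have h2 := IK.sup (IK.of_normal (x := x) hM3) hN3
      apply h2.co
      rw [h1, Subgroup.card_top]
      exact h.three_dvd
  · intro K _ hK t _ ht htK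
    have hL := IK.sup hK hN3
    have htL : ∀ k ∈ K ⊔ N, t * k * t⁻¹ ∈ K ⊔ N := by
      intro k hk
      rw [← SetLike.mem_coe, Subgroup.mul_normal] at hk ⊢
      obtain ⟨a, ha, b, hb, rfl⟩ := hk
      refine ⟨t * a * t⁻¹, htK a ha, t * b * t⁻¹, Subgroup.Normal.conj_mem inferInstance b hb t, ?_⟩
      simp only
      group
    obtain ⟨q, hq, hq3⟩ := h.index_mod hL hIKN le_sup_right
    have h1 := h.card_sq ht hL htL
    have h2 := h.card_sq ht hIKN (fun k hk => Subgroup.Normal.conj_mem inferInstance k hk t)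
    have h3 := (h.six_mul_dvd ht hL htL).trans (Subgroup.card_subgroup_dvd_card _)
    rw [hcard, hq] at h3
    have h4 : q ∣ 10 := by
      have h5 : Nat.card N * (6 * q) ∣ Nat.card N * (6 * 10) := by
        have e1 : Nat.card N * (6 * q) = 6 * (Nat.card N * q) := by ring
        have e2 : Nat.card N * (6 * 10) = 60 * Nat.card N := by ring
        rw [e1, e2]; exact h3
      exact (Nat.mul_dvd_mul_iff_left (by norm_num)).1 ((Nat.mul_dvd_mul_iff_left hpos).1 h5)
    have h5 : q = 1 ∨ q = 10 := by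
      have : q ≤ 10 := Nat.le_of_dvd (by norm_num) h4
      interval_cases q <;> omega
    have h6 : q = 1 := by
      rcases h5 with h5 | h5
      · exact h5
      · exfalso
        rw [h2] at hpos
        rw [hq, h2, h5] at h1
        exact no_ten hpos h1
    rw [h6, mul_one] at hq
    have h4 : N = K ⊔ N := Subgroup.eq_of_le_of_card_ge le_sup_right hq.le
    rw [h4]
    exact le_sup_left
  · intro K _ hK hNK q hq hodd
    obtain ⟨q', hq', hq3⟩ := h.index_mod hK hIKN hNK
    have h1 : q' = q := by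
      rw [hq] at hq'
      exact (Nat.eq_of_mul_eq_mul_left hpos hq').symm
    rw [h1] at hq3
    have h2 : q ∣ 60 := by
      have h3 := Subgroup.card_subgroup_dvd_card K
      rw [hq, hcard, mul_comm 60] at h3
      exact (Nat.mul_dvd_mul_iff_left hpos).1 h3
    have h3 : q ≤ 60 := Nat.le_of_dvd (by norm_num) h2
    have h4 : ∀ q ≤ 60, q ∣ 60 → q % 3 = 1 → q % 2 = 1 → q = 1 := by decide
    exact h4 q h3 h2 hq3 (Nat.odd_iff.1 hodd)
  · obtain ⟨K0, hK0, hIK0⟩ := A5_IK e (SC.quot h N hN3)
    refine ⟨K0.comap (QuotientGroup.mk' N), le_top, ⟨?_, ?_⟩, ?_⟩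
    · intro k hk
      rw [Subgroup.mem_comap] at hk ⊢
      rw [map_mul, map_mul, map_inv]
      exact hIK0.inv _ hk
    · intro h3
      haveI : Fact (Nat.Prime 3) := ⟨Nat.prime_three⟩
      obtain ⟨⟨k, hk⟩, hk3⟩ := exists_prime_orderOf_dvd_card' 3 h3
      rw [Subgroup.orderOf_mk] at hk3
      have hkN : k ∉ N := fun hkN => hN3 (by
        have := N.orderOf_dvd_natCard hkN; rwa [hk3] at this)
      rw [Subgroup.mem_comap] at hk
      apply hIK0.co
      have h5 : orderOf (QuotientGroup.mk' N k) = 3 := by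
        apply orderOf_eq_prime
        · rw [← map_pow, ← hk3, pow_orderOf_eq_one, map_one]
        · intro h6
          exact hkN ((QuotientGroup.eq_one_iff k).1 h6)
      rw [← h5]
      exact K0.orderOf_dvd_natCard hk
    · refine lt_of_le_of_ne ?_ ?_
      · intro n hn
        rw [Subgroup.mem_comap]
        have : QuotientGroup.mk' N n = 1 := (QuotientGroup.eq_one_iff n).2 hn
        rw [this]; exact one_mem _
      · intro heq
        apply hK0
        rw [eq_bot_iff]
        intro y hy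
        obtain ⟨g, rfl⟩ := QuotientGroup.mk_surjective y
        have : g ∈ N := by rw [heq]; exact hy
        exact Subgroup.mem_bot.2 ((QuotientGroup.eq_one_iff g).2 this)

end Cfsg.Agent.Lib.C3X
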