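import Cfsg.Agent.Lib.C3XTypes3

/-!
# Groups with a self-centralizing subgroup of order three: local types (helper20)
-/

set_option autoImplicit false
set_option linter.style.haveILetI false
set_option linter.unusedSectionVars false

namespace Cfsg.Agent.Lib.C3X

universe u

variable {G : Type u} [Group G] [Finite G]

theorem typ_top {x : G} (h : SC x) (hc : Concl G) : (∃ F : Subgroup G, TypeI x ⊤ F) ∨
    (∃ F : Subgroup G, TypeII x ⊤ F) ∨ (∀ K : Subgroup G, IK x K → K.Normal → K = ⊥) := by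
  rcases hc with ⟨N, hN, _, hcop, hidx⟩ | ⟨N, hN, _, hN2, ⟨e⟩⟩ | ⟨⟨e⟩⟩
  · left
    have h3 : ¬ 3 ∣ Nat.card N := by
      intro h3
      have := Nat.Coprime.eq_one_of_dvd (Nat.coprime_comm.1 hcop) h3
      omega
    have h1 := Subgroup.card_eq_card_quotient_mul_card_subgroup N
    have h2 : Nat.card G = 3 * Nat.card N ∨ Nat.card G = 6 * Nat.card N := by
      rcases hidx with h2 | ⟨⟨e⟩⟩
      · left; rw [h1, h2]
      · right
        rw [h1, Nat.card_congr e.toEquiv, Nat.card_perm, Nat.card_fin]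
        rfl
    refine ⟨N, le_top, fun g _ n hn => Subgroup.Normal.conj_mem inferInstance n hn g, h3, ?_, ?_⟩
    · intro K _ hK
      exact h.le_of_index h3 h2 hK
    · rw [Subgroup.card_top]; exact h2
  · right; left
    exact ⟨N, typ_two h (two_of_sq hN2) e⟩
  · right; right
    intro K hK hKn
    haveI : Fact (Nat.Prime 7) := ⟨by norm_num⟩
    haveI : IsSimpleGroup (Matrix.ProjectiveSpecialLinearGroup (Fin 2) (ZMod 7)) :=
      Matrix.ProjectiveSpecialLinearGroup.rank_two_simple (by rw [Nat.card_zmod]; omega)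
    haveI : IsSimpleGroup G := e.isSimpleGroup
    rcases hKn.eq_bot_or_eq_top with h1 | h1
    · exact h1
    · exfalso
      apply h.not_mem hK.co
      rw [h1]; trivial

theorem card_subOf {K H : Subgroup G} (h : K ≤ H) : Nat.card (K.subgroupOf H) = Nat.card K :=
  Nat.card_congr (Subgroup.subgroupOfEquivOfLe h).toEquiv

theorem IK.subOf {x : G} {K H : Subgroup G} (hK : IK x K) (hKH : K ≤ H) (hx : x ∈ H) :
    IK (⟨x, hx⟩ : H) (K.subgroupOf H) := by
  refine ⟨?_, by rw [card_subOf hKH]; exact hK.co⟩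
  intro k hk
  rw [Subgroup.mem_subgroupOf] at hk ⊢
  exact hK.inv _ hk

theorem IK.map_sub {H : Subgroup G} {x : H} {K : Subgroup H} (hK : IK x K) :
    IK (x : G) (K.map H.subtype) := by
  refine ⟨?_, ?_⟩
  · rintro _ ⟨k, hk, rfl⟩
    exact ⟨x * k * x⁻¹, hK.inv k hk, rfl⟩
  · rw [Subgroup.card_map_of_injective H.subtype_injective]
    exact hK.co

theorem sub_of_le_iff {H : Subgroup G} {K : Subgroup G} (hK : K ≤ H) {F : Subgroup H} :
    K.subgroupOf H ≤ F ↔ K ≤ F.map H.subtype := by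
  constructor
  · intro h k hk
    exact ⟨⟨k, hK hk⟩, h (Subgroup.mem_subgroupOf.2 hk), rfl⟩
  · intro h k hk
    obtain ⟨f, hf, hfk⟩ := h (Subgroup.mem_subgroupOf.1 hk)
    have : f = k := Subtype.ext hfk
    rwa [← this]

theorem typ {H : Subgroup G} {x : G} (h : SC x) (hx : x ∈ H) (hc : Concl H) :
    (∃ F, TypeI x H F) ∨ (∃ F, TypeII x H F) ∨
      (∀ K ≤ H, IK x K → (∀ y ∈ H, ∀ k ∈ K, y * k * y⁻¹ ∈ K) → K = ⊥) := by
  have hinj := H.subtype_injective
  rcases typ_top (h.of_subgroup hx) hc with ⟨F, hF⟩ | ⟨F, hF⟩ | hF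
  · left
    refine ⟨F.map H.subtype, ?_, ?_, ?_, ?_, ?_⟩
    · rw [Subgroup.map_le_iff_le_comap]
      intro f _
      exact f.2
    · rintro y hy _ ⟨f, hf, rfl⟩
      exact ⟨(⟨y, hy⟩ : H) * f * (⟨y, hy⟩ : H)⁻¹, hF.nor _ trivial f hf, rfl⟩
    · rw [Subgroup.card_map_of_injective hinj]; exact hF.co
    · intro K hK hIK
      exact (sub_of_le_iff hK).1 (hF.max _ le_top (hIK.subOf hK hx))
    · rw [Subgroup.card_map_of_injective hinj]
      have := hF.idx
      rwa [Subgroup.card_top] at this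
  · right; left
    refine ⟨F.map H.subtype, ?_, ?_, ?_, ?_, ?_, ?_, ?_⟩
    · rw [Subgroup.map_le_iff_le_comap]
      intro f _
      exact f.2
    · rintro y hy _ ⟨f, hf, rfl⟩
      exact ⟨(⟨y, hy⟩ : H) * f * (⟨y, hy⟩ : H)⁻¹, hF.nor _ trivial f hf, rfl⟩
    · exact hF.two.map _
    · obtain ⟨t, _, ht⟩ := hF.inv
      exact ⟨t, t.2, congrArg Subtype.val ht⟩
    · intro K hK hIK t ht htx htK
      apply (sub_of_le_iff hK).1
      apply hF.tmax _ le_top (hIK.subOf hK hx) ⟨t, ht⟩ trivial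
      · ext; exact htx
      · intro k hk
        rw [Subgroup.mem_subgroupOf] at hk ⊢
        exact htK _ hk
    · intro K hK hIK hFK q hq hodd
      refine hF.odd (K.subgroupOf H) le_top (hIK.subOf hK hx) ?_ q ?_ hodd
      · intro f hf
        rw [Subgroup.mem_subgroupOf]
        exact hFK ⟨f, hf, rfl⟩
      · rw [card_subOf hK, hq, Subgroup.card_map_of_injective hinj]
    · obtain ⟨K, _, hK, hlt⟩ := hF.big
      refine ⟨K.map H.subtype, ?_, hK.map_sub, ?_⟩
      · rw [Subgroup.map_le_iff_le_comap]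
        intro f _
        exact f.2
      · exact (Subgroup.map_lt_map_iff_of_injective hinj).2 hlt
  · right; right
    intro K hK hIK hn
    have h1 : K.subgroupOf H = ⊥ := by
      apply hF _ (hIK.subOf hK hx)
      refine ⟨fun k hk g => ?_⟩
      rw [Subgroup.mem_subgroupOf] at hk ⊢
      exact hn g g.2 k hk
    rw [← Subgroup.card_eq_one] at h1 ⊢
    rw [← card_subOf hK, h1]

/-- The induction hypothesis. -/
def FTHyp (n : ℕ) : Prop :=
  ∀ (H : Type u) [Group H] [Finite H], Nat.card H < n → ∀ x : H, SC x → Concl H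

end Cfsg.Agent.Lib.C3X
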