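import Cfsg.Agent.Lib.TIFN3
import Cfsg.Agent.Lib.StructConst
import Cfsg.Agent.Lib.BlockKlein
import Cfsg.Agent.Lib.InvAct

/-!
# TI abelian centralizers of involutions are elementary abelian (helper81)
-/

set_option autoImplicit false
open Cfsg

namespace Cfsg.Agent.Lib.CAElem

open Subgroup CharBasic TIFN
open scoped ComplexConjugate

universe u

/-- the final inequality. -/
theorem arith {g a d m F : ℕ} (ha : 0 < a) (hd : 2 ≤ d) (hF : 0 < F) (h1 : m * d = a - 1)
    (h2 : m * F ^ 2 ≤ g) (h3 : g ≤ a * (d - 1) * F) (h4 : a * d * (a + 1) ≤ g)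
    (h5 : (d + 1) ^ 2 ≤ a) : False := by
  obtain ⟨e, rfl⟩ : ∃ e, d = e + 1 := ⟨d - 1, by omega⟩
  obtain ⟨b, rfl⟩ : ∃ b, a = b + 1 := ⟨a - 1, by omega⟩
  simp only [Nat.add_sub_cancel] at h1 h3
  have hg : 0 < g := lt_of_lt_of_le (by positivity) h4
  -- m g^2 ≤ a² e² g
  have h6 : m * g ≤ ((b + 1) * e) ^ 2 := by
    have h7 : m * g * g ≤ ((b + 1) * e) ^ 2 * g := by
      calc m * g * g = m * g ^ 2 := by ring
        _ ≤ m * ((b + 1) * e * F) ^ 2 := Nat.mul_le_mul_left _ (Nat.pow_le_pow_left h3 2)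
        _ = ((b + 1) * e) ^ 2 * (m * F ^ 2) := by ring
        _ ≤ ((b + 1) * e) ^ 2 * g := Nat.mul_le_mul_left _ h2
    exact Nat.le_of_mul_le_mul_right h7 hg
  have h8 : b * ((b + 1) * (b + 1 + 1)) ≤ ((b + 1) * e) ^ 2 := by
    calc b * ((b + 1) * (b + 1 + 1)) = m * ((b + 1) * (e + 1) * (b + 1 + 1)) := by rw [← h1]; ring
      _ ≤ m * g := Nat.mul_le_mul_left _ h4
      _ ≤ _ := h6
  have h9 : b * (b + 1 + 1) ≤ (b + 1) * e ^ 2 := by
    have h10 : (b + 1) * (b * (b + 1 + 1)) ≤ (b + 1) * ((b + 1) * e ^ 2) := by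
      calc (b + 1) * (b * (b + 1 + 1)) = b * ((b + 1) * (b + 1 + 1)) := by ring
        _ ≤ ((b + 1) * e) ^ 2 := h8
        _ = _ := by ring
    exact Nat.le_of_mul_le_mul_left h10 (by omega)
  nlinarith


section main

variable {G : Type u} [Group G] [Fintype G] (A : Subgroup G)

theorem card_le_index
    (hTI : ∀ g : G, g ∉ normalizer (A : Set G) → ∀ k ∈ A, g * k * g⁻¹ ∈ A → k = 1)
    (hC : ∀ k ∈ A, k ≠ 1 → centralizer ({k} : Set G) ≤ A)
    (hnn : ¬ A.Normal) : Nat.card A + 1 ≤ (normalizer (A : Set G)).index := by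
  classical
  have h0 : ∃ g0 : G, g0 ∉ normalizer (A : Set G) := by
    by_contra hcon
    push Not at hcon
    apply hnn
    rw [← Subgroup.normalizer_eq_top_iff]
    exact (Subgroup.eq_top_iff' _).mpr hcon
  obtain ⟨g0, hg0⟩ := h0
  let F : Option A → G ⧸ normalizer (A : Set G) := fun o => match o with
    | none => QuotientGroup.mk 1
    | some α => QuotientGroup.mk ((α : G) * g0)
  have hF : Function.Injective F := by
    intro x y hxy
    have hAN : ∀ a : A, (a : G) ∈ normalizer (A : Set G) := fun a => le_normalizer a.2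
    rcases x with _ | α <;> rcases y with _ | β
    · rfl
    · exfalso
      have h1 : (1 : G)⁻¹ * ((β : G) * g0) ∈ normalizer (A : Set G) := QuotientGroup.eq.mp hxy
      rw [inv_one, one_mul] at h1
      exact hg0 ((Subgroup.mul_mem_cancel_left _ (hAN β)).mp h1)
    · exfalso
      have h1 : ((α : G) * g0)⁻¹ * 1 ∈ normalizer (A : Set G) := QuotientGroup.eq.mp hxy
      rw [mul_one, inv_mem_iff] at h1
      exact hg0 ((Subgroup.mul_mem_cancel_left _ (hAN α)).mp h1)
    · have h1 : ((α : G) * g0)⁻¹ * ((β : G) * g0) ∈ normalizer (A : Set G) := QuotientGroup.eq.mp hxy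
      set z : G := (α : G)⁻¹ * β with hz
      have hzA : z ∈ A := A.mul_mem (A.inv_mem α.2) β.2
      have h2 : g0⁻¹ * z * g0 ∈ normalizer (A : Set G) := by
        have : g0⁻¹ * z * g0 = ((α : G) * g0)⁻¹ * ((β : G) * g0) := by rw [hz]; group
        rw [this]; exact h1
      have h3 : g0⁻¹ * z * g0 ∈ A := by
        by_contra hn
        have := not_conj_into A hC _ h2 hn g0
        apply this
        have e : g0 * (g0⁻¹ * z * g0) * g0⁻¹ = z := by group
        rw [e]; exact hzA
      have h4 : z = 1 := by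
        apply hTI g0⁻¹ (fun h => hg0 (inv_mem_iff.mp h)) z hzA
        rw [inv_inv]; exact h3
      have h5 : α = β := Subtype.ext (inv_mul_eq_one.mp (hz ▸ h4))
      rw [h5]
  have h := Nat.card_le_card_of_injective F hF
  rw [Finite.card_option] at h
  exact h

/-- **Main theorem**: an abelian TI subgroup `A`, the centralizer of each of its nonidentity
elements, containing an involution `t`, `G` having only one class of involutions, not normal and with
`|N(A) : A| ≥ 2`, is an elementary abelian `2`-group. -/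
theorem elementary
    (hTI : ∀ g : G, g ∉ normalizer (A : Set G) → ∀ k ∈ A, g * k * g⁻¹ ∈ A → k = 1)
    (hC : ∀ k ∈ A, k ≠ 1 → centralizer ({k} : Set G) ≤ A)
    (hab : ∀ a ∈ A, ∀ b ∈ A, a * b = b * a) (hnn : ¬ A.Normal)
    (t : G) (htA : t ∈ A) (ht : orderOf t = 2) (hconj : ∀ s : G, orderOf s = 2 → IsConj t s)
    (hd : 2 ≤ (A.subgroupOf (normalizer (A : Set G))).index) : ∀ a ∈ A, a ^ 2 = 1 := by
  classical
  have ht1 : t ≠ 1 := by
    rintro rfl
    rw [orderOf_one] at ht
    omega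
  have ht2 : t * t = 1 := by rw [← pow_two, ← ht]; exact pow_orderOf_eq_one t
  have htinv : t⁻¹ = t := inv_eq_of_mul_eq_one_left ht2
  let N : Subgroup G := normalizer (A : Set G)
  have hAN : A ≤ N := le_normalizer
  let K' : Subgroup N := A.subgroupOf N
  have hn : K'.Normal := by
    change (A.subgroupOf N).Normal
    rw [Subgroup.normal_subgroupOf_iff_le_normalizer hAN]
  have hC' : ∀ k ∈ K', k ≠ 1 → centralizer ({k} : Set N) ≤ K' := by
    intro k hk hk1 c hc
    rw [Subgroup.mem_subgroupOf]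
    apply hC k hk (fun h => hk1 (Subtype.ext h))
    rw [Subgroup.mem_centralizer_iff] at hc ⊢
    intro y hy
    rw [Set.mem_singleton_iff] at hy
    rw [hy]
    exact congrArg Subtype.val (hc k (Set.mem_singleton k))
  have hab' : ∀ a ∈ K', ∀ b ∈ K', a * b = b * a := fun a ha b hb => Subtype.ext (hab a ha b hb)
  have : Fintype K' := Fintype.ofFinite K'
  have : Fintype N := Fintype.ofFinite N
  let R : Type _ := {χ : IrrCharacter N // ∃ k : N, (k : G) ∈ A ∧ (χ : N → ℂ) k ≠ (χ : N → ℂ) 1}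
  have hdeg : ∀ χ : R, ((χ : IrrCharacter N) : N → ℂ) 1 = (K'.index : ℂ) := by
    rintro ⟨χ, k, hk, hk1⟩
    obtain ⟨θ, hθ, hθ1, hθd, hχ⟩ := eq_indFun K' hC' hab' χ.2 ⟨k, hk, hk1⟩
    change (χ : N → ℂ) 1 = _
    rw [hχ, IndFun.indFun_one, hθd, mul_one]
  have hvan : ∀ (χ : R) (x : N), (x : G) ∉ A → ((χ : IrrCharacter N) : N → ℂ) x = 0 := by
    rintro ⟨χ, k, hk, hk1⟩ x hx
    exact vanish_off K' hC' χ.2 ⟨k, hk, hk1⟩ hx
  have : Finite R := inferInstance
  set a := Nat.card A with ha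
  set d := K'.index with hd'
  have hapos : 0 < a := Nat.card_pos
  have hKa : Nat.card K' = a := Nat.card_congr (Subgroup.subgroupOfEquivOfLe hAN).toEquiv
  have hNad : Nat.card N = a * d := by rw [← hKa, hd', Subgroup.card_mul_index]
  -- the number of exceptional characters
  have hRcard : Nat.card R * d = a - 1 := by
    have hR : Fintype R := Fintype.ofFinite R
    have hsum := sum_sq_nontrivial K' (L := N) (hK := hn)
    have hconst : ∀ χ : {χ : IrrCharacter N // ∃ k ∈ K', (χ : N → ℂ) k ≠ (χ : N → ℂ) 1},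
        ((χ : IrrCharacter N) : N → ℂ) 1 ^ 2 = (K'.index : ℂ) ^ 2 := by
      intro χ
      rw [hdeg χ]
    rw [Finset.sum_congr rfl (fun χ _ => hconst χ), Finset.sum_const, Finset.card_univ,
      ← Nat.card_eq_fintype_card] at hsum
    have h1' : Nat.card {χ : IrrCharacter N // ∃ k ∈ K', (χ : N → ℂ) k ≠ (χ : N → ℂ) 1} =
      Nat.card R := rfl
    rw [h1', hNad, ← hd', nsmul_eq_mul] at hsum
    have h2 : Nat.card R * d ^ 2 + d = a * d := by
      have h3 : ((Nat.card R * d ^ 2 + d : ℕ) : ℂ) = ((a * d : ℕ) : ℂ) := by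
        push_cast at hsum ⊢
        rw [hsum]; ring
      exact_mod_cast h3
    have h4 : Nat.card R * d + 1 = a := by
      apply Nat.eq_of_mul_eq_mul_right (show 0 < d by omega)
      rw [← h2]; ring
    omega
  rcases abelian_exceptional A hTI hC hab with ⟨_, p, hp, hel, _⟩ | ⟨ε, f, hε, hf, hv⟩
  · have h1 : t ^ p = 1 := by
      exact hel.2 t htA
    have h2 : 2 ∣ p := by rw [← ht]; exact orderOf_dvd_of_pow_eq_one h1
    have h3 : p = 2 := ((Nat.prime_dvd_prime_iff_eq Nat.prime_two hp).mp h2).symm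
    intro x hx
    have := hel.2 x hx
    rw [h3] at this
    exact this
  by_contra hcon
  push Not at hcon
  obtain ⟨a0, ha0, ha02⟩ := hcon
  -- the involutions of `A`
  let Ω : Subgroup G :=
    { carrier := {x | x ∈ A ∧ x * x = 1}
      one_mem' := ⟨A.one_mem, by simp⟩
      mul_mem' := by
        rintro x y ⟨hx, hx2⟩ ⟨hy, hy2⟩
        refine ⟨A.mul_mem hx hy, ?_⟩
        calc x * y * (x * y) = x * (y * x) * y := by group
          _ = x * (x * y) * y := by rw [hab y hy x hx]
          _ = (x * x) * (y * y) := by group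
          _ = 1 := by rw [hx2, hy2, one_mul]
      inv_mem' := by
        rintro x ⟨hx, hx2⟩
        refine ⟨A.inv_mem hx, ?_⟩
        rw [← mul_inv_rev, hx2, inv_one] }
  have hΩA : Ω ≤ A := fun x hx => hx.1
  have hNtt : ∀ k ∈ N, ∀ x ∈ A, k * x * k⁻¹ ∈ A := by
    intro k hk x hx
    exact (Subgroup.mem_normalizer_iff.mp hk x).mp hx
  have hΩcard : Nat.card Ω = d + 1 := by
    have h1 := InvAct.card_conj_orbit N t
    have h2 : N ⊓ centralizer ({t} : Set G) = A := by
      apply le_antisymm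
      · exact inf_le_right.trans (hC t htA ht1)
      · refine le_inf hAN ?_
        intro x hx
        exact mem_centralizer_singleton_iff.mpr (hab x hx t htA)
    rw [h2, hNad, mul_comm] at h1
    have h3 : {v : G | ∃ k ∈ N, k * t * k⁻¹ = v}.ncard = d := (Nat.eq_of_mul_eq_mul_right hapos h1).symm
    have h4 : (Ω : Set G) = insert 1 {v : G | ∃ k ∈ N, k * t * k⁻¹ = v} := by
      ext x
      constructor
      · rintro ⟨hx, hx2⟩
        by_cases hx1 : x = 1
        · left; exact hx1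
        · right
          have ho : orderOf x = 2 := orderOf_eq_prime (by rw [pow_two]; exact hx2) hx1
          obtain ⟨g, hg⟩ := isConj_iff.mp (hconj x ho)
          refine ⟨g, ?_, hg⟩
          by_contra hgN
          exact ht1 (hTI g hgN t htA (hg ▸ hx))
      · rintro (rfl | ⟨k, hk, rfl⟩)
        · exact Ω.one_mem
        · refine ⟨hNtt k hk t htA, ?_⟩
          calc k * t * k⁻¹ * (k * t * k⁻¹) = k * (t * t) * k⁻¹ := by group
            _ = 1 := by rw [ht2]; group
    have h5 : (1 : G) ∉ {v : G | ∃ k ∈ N, k * t * k⁻¹ = v} := by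
      rintro ⟨k, _, hk⟩
      apply ht1
      have := mul_inv_eq_one.mp hk
      exact mul_eq_left.mp this
    rw [← SetLike.coe_sort_coe, Nat.card_coe_set_eq, h4, Set.ncard_insert_of_notMem h5 (Set.toFinite _), h3]
  have hneq : a ≠ d + 1 := by
    intro h
    have h1 : Ω = A := Subgroup.eq_of_le_of_card_ge hΩA (by rw [hΩcard, ← h])
    have h2 : a0 ∈ Ω := h1 ▸ ha0
    exact ha02 (by rw [pow_two]; exact h2.2)
  have hdvd : d + 1 ∣ a := by rw [← hΩcard]; exact Subgroup.card_dvd_of_le hΩA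
  have h5 : (d + 1) ^ 2 ≤ a := by
    obtain ⟨a', ha'⟩ := hdvd
    have ha'0 : a' ≠ 0 := by rintro rfl; omega
    have ha'1 : a' ≠ 1 := by rintro rfl; omega
    obtain ⟨b, rfl⟩ : ∃ b, a' = b + 1 := ⟨a' - 1, by omega⟩
    have h6 : d ∣ b := by
      have h7 : Nat.card R * d = d * (b + 1) + b := by
        rw [hRcard, ha', add_mul, one_mul]
        omega
      have h8 : d ∣ d * (b + 1) + b := h7 ▸ Dvd.intro_left _ rfl
      exact (Nat.dvd_add_right (Dvd.intro _ rfl)).mp h8
    have h9 : d ≤ b := Nat.le_of_dvd (by omega) h6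
    rw [ha', pow_two]
    exact Nat.mul_le_mul_left _ (by omega)
  -- the characters χ₁, χ₂
  let T : N := ⟨t, hAN htA⟩
  have hT1 : T ≠ 1 := fun h => ht1 (congrArg Subtype.val h)
  obtain ⟨χ₂, hχ₂⟩ : ∃ χ : R, ((χ : IrrCharacter N) : N → ℂ) T ≠ ((χ : IrrCharacter N) : N → ℂ) 1 := by
    by_contra hcon
    push Not at hcon
    have h6 : IsConj T 1 := by
      rw [isConj_iff_forall_irr]
      intro χ
      by_contra hne
      exact hne (hcon ⟨χ, T, htA, hne⟩)
    exact hT1 (by
      obtain ⟨c, hc⟩ := isConj_iff.mp h6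
      have := mul_inv_eq_one.mp hc
      exact mul_eq_left.mp this)
  have hΩN : (Ω.subgroupOf N).Normal := by
    constructor
    intro x hx k
    rw [Subgroup.mem_subgroupOf] at hx ⊢
    refine ⟨?_, ?_⟩
    · exact hNtt k k.2 x hx.1
    · have h6 : (x : G) * x = 1 := hx.2
      show (k : G) * x * (k : G)⁻¹ * ((k : G) * x * (k : G)⁻¹) = 1
      calc (k : G) * x * (k : G)⁻¹ * ((k : G) * x * (k : G)⁻¹) = k * (x * x) * (k : G)⁻¹ := by group
        _ = 1 := by rw [h6]; group
  obtain ⟨χ₁, hχ₁⟩ : ∃ χ : R, ((χ : IrrCharacter N) : N → ℂ) T = ((χ : IrrCharacter N) : N → ℂ) 1 := by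
    let k0 : N := ⟨a0, hAN ha0⟩
    have h6 : ¬ IsConj (k0 : N ⧸ Ω.subgroupOf N) 1 := by
      intro h
      have h7 : (k0 : N ⧸ Ω.subgroupOf N) = 1 := by
        obtain ⟨c, hc⟩ := isConj_iff.mp h
        have := mul_inv_eq_one.mp hc
        exact mul_eq_left.mp this
      rw [QuotientGroup.eq_one_iff, Subgroup.mem_subgroupOf] at h7
      exact ha02 (by rw [pow_two]; exact h7.2)
    rw [isConj_iff_forall_irr] at h6
    push Not at h6
    obtain ⟨χ, hχ⟩ := h6
    have h7 : IsIrrCharacter N (fun g : N => (χ : N ⧸ Ω.subgroupOf N → ℂ) (g : N ⧸ Ω.subgroupOf N)) :=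
      IsIrrCharacter.inflate _ χ.2
    refine ⟨⟨⟨_, h7⟩, k0, ha0, ?_⟩, ?_⟩
    · show (χ : N ⧸ Ω.subgroupOf N → ℂ) (k0 : N ⧸ Ω.subgroupOf N) ≠
        (χ : N ⧸ Ω.subgroupOf N → ℂ) ((1 : N) : N ⧸ Ω.subgroupOf N)
      rw [QuotientGroup.mk_one]
      exact hχ
    · show (χ : N ⧸ Ω.subgroupOf N → ℂ) (T : N ⧸ Ω.subgroupOf N) =
        (χ : N ⧸ Ω.subgroupOf N → ℂ) ((1 : N) : N ⧸ Ω.subgroupOf N)
      have h8 : (T : N ⧸ Ω.subgroupOf N) = ((1 : N) : N ⧸ Ω.subgroupOf N) := by
        rw [QuotientGroup.mk_one, QuotientGroup.eq_one_iff, Subgroup.mem_subgroupOf]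
        exact ⟨htA, ht2⟩
      rw [h8]
  -- the virtual character
  set ϑ : N → ℂ := ((χ₁.1 : IrrCharacter N) : N → ℂ) - ((χ₂.1 : IrrCharacter N) : N → ℂ) with hϑ
  set Λ : G → ℂ := indFun N ϑ with hΛ
  have hϑcl : IsClassFunction N ϑ := χ₁.1.2.isClassFunction.sub χ₂.1.2.isClassFunction
  have hϑ0 : ∀ x : N, (x : G) ∉ A → ϑ x = 0 := by
    intro x hx
    rw [hϑ, Pi.sub_apply, hvan χ₁ x hx, hvan χ₂ x hx, sub_zero]
  have hϑ1 : ϑ 1 = 0 := by
    rw [hϑ, Pi.sub_apply, hdeg χ₁, hdeg χ₂, sub_self]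
  have hΛN : ∀ x : N, Λ x = ϑ x := fun x => indFun_eq A hTI hC ϑ hϑcl hϑ0 hϑ1 x
  have hΛ1 : Λ 1 = 0 := by
    have := hΛN 1
    rw [hϑ1] at this
    exact this
  have hΛt : Λ t ≠ 0 := by
    have h6 : Λ t = ϑ T := hΛN T
    rw [h6, hϑ, Pi.sub_apply, hχ₁, hdeg χ₁, ← hdeg χ₂]
    exact sub_ne_zero.mpr (Ne.symm hχ₂)
  have hΛcl : IsClassFunction G Λ := by
    have h6 : Λ = ε • ((f χ₁ : G → ℂ) - (f χ₂ : G → ℂ)) := hv χ₁ χ₂
    rw [h6]
    exact ((f χ₁).2.isClassFunction.sub (f χ₂).2.isClassFunction).smul ε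
  have hΛ0 : ∀ w : G, (∀ x : G, x⁻¹ * w * x ∉ A) → Λ w = 0 := by
    intro w hw
    apply indFun_eq_zero'
    intro x
    by_cases h6 : x⁻¹ * w * x ∈ N
    · rw [IndFun.extendByZero_mem N ϑ h6]
      exact hϑ0 _ (hw x)
    · exact IndFun.extendByZero_not_mem N ϑ h6
  -- the sum
  have hsum1 : ∀ b : G, Λ (t * (b * t * b⁻¹)) = if b ∈ N ∧ b ∉ A then Λ t else 0 := by
    intro b
    by_cases hbN : b ∈ N
    · by_cases hbA : b ∈ A
      · rw [if_neg (fun h => h.2 hbA)]
        have h6 : b * t * b⁻¹ = t := by rw [hab b hbA t htA]; group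
        rw [h6, ht2, hΛ1]
      · rw [if_pos ⟨hbN, hbA⟩]
        have hs : b * t * b⁻¹ ∈ A := hNtt b hbN t htA
        have hs2 : b * t * b⁻¹ * (b * t * b⁻¹) = 1 := by
          calc b * t * b⁻¹ * (b * t * b⁻¹) = b * (t * t) * b⁻¹ := by group
            _ = 1 := by rw [ht2]; group
        have hw1 : t * (b * t * b⁻¹) ≠ 1 := by
          intro h6
          apply hbA
          apply hC t htA ht1
          have h7 : b * t * b⁻¹ = t := by
            have := eq_inv_of_mul_eq_one_right h6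
            rw [this, htinv]
          rw [mem_centralizer_singleton_iff]
          exact mul_inv_eq_iff_eq_mul.mp h7
        have hw2 : (t * (b * t * b⁻¹)) ^ 2 = 1 := by
          rw [pow_two]
          calc t * (b * t * b⁻¹) * (t * (b * t * b⁻¹)) = t * ((b * t * b⁻¹) * t) * (b * t * b⁻¹) := by
                group
            _ = t * (t * (b * t * b⁻¹)) * (b * t * b⁻¹) := by rw [hab _ hs t htA]
            _ = (t * t) * ((b * t * b⁻¹) * (b * t * b⁻¹)) := by group
            _ = 1 := by rw [ht2, hs2, one_mul]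
        have hconj' := hconj _ (orderOf_eq_prime hw2 hw1)
        exact (hΛcl.conj_eq hconj').symm
    · rw [if_neg (fun h => hbN h.1)]
      apply hΛ0
      intro x hx
      set s := b * t * b⁻¹ with hs
      have hss : s * s = 1 := by
        rw [hs]
        calc b * t * b⁻¹ * (b * t * b⁻¹) = b * (t * t) * b⁻¹ := by group
          _ = 1 := by rw [ht2]; group
      have hw1 : t * s ≠ 1 := by
        intro h6
        apply hbN
        apply hAN
        apply hC t htA ht1
        have h7 : s = t := by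
          have := eq_inv_of_mul_eq_one_right h6
          rw [this, htinv]
        rw [mem_centralizer_singleton_iff]
        exact mul_inv_eq_iff_eq_mul.mp (hs ▸ h7)
      set w' := x⁻¹ * (t * s) * x with hw'
      have hw'1 : w' ≠ 1 := by
        intro h6
        apply hw1
        have : t * s = x * w' * x⁻¹ := by rw [hw']; group
        rw [this, h6]; group
      set t' := x⁻¹ * t * x with ht'
      have ht't' : t' * t' = 1 := by
        rw [ht']
        calc x⁻¹ * t * x * (x⁻¹ * t * x) = x⁻¹ * (t * t) * x := by group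
          _ = 1 := by rw [ht2]; group
      have ht'inv : t'⁻¹ = t' := inv_eq_of_mul_eq_one_left ht't'
      have h6 : t' * w' * t'⁻¹ = w'⁻¹ := by
        rw [ht'inv, ht', hw']
        have hsinv : s⁻¹ = s := inv_eq_of_mul_eq_one_left hss
        calc x⁻¹ * t * x * (x⁻¹ * (t * s) * x) * (x⁻¹ * t * x) = x⁻¹ * ((t * t) * s * t) * x := by group
          _ = x⁻¹ * (s * t) * x := by rw [ht2, one_mul]
          _ = x⁻¹ * (s⁻¹ * t⁻¹) * x := by rw [hsinv, htinv]
          _ = (x⁻¹ * (t * s) * x)⁻¹ := by group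
      have ht'N : t' ∈ N := by
        by_contra hcon
        apply hw'1
        apply hTI t' hcon w' hx
        rw [h6]
        exact A.inv_mem hx
      have ht'A : t' ∈ A := by
        by_contra hcon
        apply not_conj_into A hC t' ht'N hcon x
        have : x * t' * x⁻¹ = t := by rw [ht']; group
        rw [this]; exact htA
      have ht'1 : t' ≠ 1 := by
        intro h7
        apply ht1
        have : t = x * t' * x⁻¹ := by rw [ht']; group
        rw [this, h7]; group
      have hxN : x ∈ N := by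
        by_contra hcon
        apply ht'1
        apply hTI x hcon t' ht'A
        have : x * t' * x⁻¹ = t := by rw [ht']; group
        rw [this]; exact htA
      have hsA : s ∈ A := by
        have h7 : s = x * (t' * w') * x⁻¹ := by
          rw [ht', hw']
          calc s = (t * t) * s := by rw [ht2, one_mul]
            _ = x * (x⁻¹ * t * x * (x⁻¹ * (t * s) * x)) * x⁻¹ := by group
        rw [h7]
        exact hNtt x hxN _ (A.mul_mem ht'A hx)
      apply ht1
      exact hTI b hbN t htA hsA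
  have hsum2 : ∑ b : G, Λ (t * (b * t * b⁻¹)) = ((a * (d - 1) : ℕ) : ℂ) * Λ t := by
    rw [Finset.sum_congr rfl (fun b _ => hsum1 b), ← Finset.sum_filter, Finset.sum_const, nsmul_eq_mul]
    congr 2
    have h6 : (Finset.univ.filter (fun b : G => b ∈ N ∧ b ∉ A)) =
        (Finset.univ.filter (fun b : G => b ∈ N)) \ (Finset.univ.filter (fun b : G => b ∈ A)) := by
      ext b; simp
    have h7 : (Finset.univ.filter (fun b : G => b ∈ A)) ⊆ (Finset.univ.filter (fun b : G => b ∈ N)) := by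
      intro b hb
      simp only [Finset.mem_filter, Finset.mem_univ, true_and] at hb ⊢
      exact hAN hb
    have h8 : (Finset.univ.filter (fun b : G => b ∈ N)).card = a * d := by
      rw [← hNad, Nat.card_eq_fintype_card, Fintype.card_subtype]
    have h9 : (Finset.univ.filter (fun b : G => b ∈ A)).card = a := by
      rw [ha, Nat.card_eq_fintype_card, Fintype.card_subtype]
    rw [h6, Finset.card_sdiff_of_subset h7, h8, h9]
    obtain ⟨e, he⟩ : ∃ e, d = e + 1 := ⟨d - 1, by omega⟩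
    rw [he]
    simp only [Nat.add_sub_cancel, mul_add, mul_one]
  -- the degrees
  have hdegf : ∀ χ : R, (f χ : G → ℂ) 1 = (f χ₁ : G → ℂ) 1 := by
    intro χ
    have h6 := congrFun (hv χ χ₁) 1
    rw [IndFun.indFun_one, Pi.sub_apply] at h6
    have h7 : ((χ.1 : IrrCharacter N) : N → ℂ) 1 - ((χ₁.1 : IrrCharacter N) : N → ℂ) 1 = 0 := by
      rw [hdeg χ, hdeg χ₁, sub_self]
    have h7' : ((χ.1 : ↥(normalizer (A : Set G)) → ℂ)) 1 - (χ₁.1 : ↥(normalizer (A : Set G)) → ℂ) 1 = 0 := h7
    rw [h7', mul_zero, Pi.smul_apply, Pi.sub_apply, smul_eq_mul] at h6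
    rcases mul_eq_zero.mp h6.symm with h8 | h8
    · exfalso
      rcases hε with h9 | h9 <;> rw [h9] at h8 <;> norm_num at h8
    · exact sub_eq_zero.mp h8
  obtain ⟨F, hF, hFd⟩ := (f χ₁).2.exists_degree
  have hFd2 : (f χ₂ : G → ℂ) 1 = F := by rw [hdegf χ₂, hFd]
  obtain ⟨p, hp⟩ := BlockKlein.exists_int_of_involution (f χ₁).2.isCharacter ht
  obtain ⟨q, hq⟩ := BlockKlein.exists_int_of_involution (f χ₂).2.isCharacter ht
  have hε0 : ε ≠ 0 := by
    rcases hε with h9 | h9 <;> rw [h9] <;> norm_num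
  have hΛeq : ∀ x : G, Λ x = ε * ((f χ₁ : G → ℂ) x - (f χ₂ : G → ℂ) x) := by
    intro x
    have h6 := congrFun (hv χ₁ χ₂) x
    rw [Pi.smul_apply, Pi.sub_apply, smul_eq_mul] at h6
    exact h6
  have hpq : (p : ℂ) - (q : ℂ) ≠ 0 := by
    intro h
    apply hΛt
    rw [hΛeq, hp, hq, h, mul_zero]
  have hFc : (F : ℂ) ≠ 0 := by exact_mod_cast hF.ne'
  have hkey : (Nat.card G : ℂ) * ((p : ℂ) + q) = ((a * (d - 1) * F : ℕ) : ℂ) := by
    have h6 : ∑ b : G, Λ (t * (b * t * b⁻¹)) =
        ε * ((Nat.card G : ℂ) * p * p / F - (Nat.card G : ℂ) * q * q / F) := by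
      simp only [hΛeq]
      rw [← Finset.mul_sum, Finset.sum_sub_distrib, StructConst.sum_conj_mul (f χ₁).2,
        StructConst.sum_conj_mul (f χ₂).2, hp, hq, hFd, hFd2]
    rw [hsum2, hΛeq, hp, hq] at h6
    have h7 : (((a * (d - 1) : ℕ) : ℂ) * ((p : ℂ) - q)) =
        ((Nat.card G : ℂ) * p * p / F - (Nat.card G : ℂ) * q * q / F) := by
      apply mul_left_cancel₀ hε0
      rw [← h6]; ring
    field_simp at h7
    push_cast at h7 ⊢
    apply mul_left_cancel₀ hpq
    linear_combination -h7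
  have hkeyZ : (Nat.card G : ℤ) * (p + q) = (a * (d - 1) * F : ℕ) := by exact_mod_cast hkey
  have h3 : Nat.card G ≤ a * (d - 1) * F := by
    have hpos : (0 : ℤ) < (a * (d - 1) * F : ℕ) := by
      have : 0 < a * (d - 1) * F := by
        have : 0 < d - 1 := by omega
        positivity
      exact_mod_cast this
    have hgpos : (0 : ℤ) < (Nat.card G : ℤ) := by exact_mod_cast Nat.card_pos
    have h6 : 0 < p + q := by
      by_contra hle
      push Not at hle
      have : (Nat.card G : ℤ) * (p + q) ≤ 0 := mul_nonpos_of_nonneg_of_nonpos hgpos.le hle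
      omega
    have h7 : (Nat.card G : ℤ) ≤ (a * (d - 1) * F : ℕ) := by
      rw [← hkeyZ]
      nlinarith
    exact_mod_cast h7
  have h2 : Nat.card R * F ^ 2 ≤ Nat.card G := by
    have : Fintype R := Fintype.ofFinite R
    choose D hD hD1 using fun χ : IrrCharacter G => χ.2.exists_degree
    have h6 : ∑ χ : IrrCharacter G, D χ ^ 2 = Nat.card G := by
      have h7 := sum_degree_sq (G := G)
      simp only [hD1] at h7
      exact_mod_cast h7
    have h8 : ∀ χ : R, D (f χ) = F := by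
      intro χ
      have h9 := hdegf χ
      rw [hD1, hFd] at h9
      exact_mod_cast h9
    calc Nat.card R * F ^ 2 = ∑ χ : R, D (f χ) ^ 2 := by
          rw [Finset.sum_congr rfl (fun χ _ => by rw [h8 χ]), Finset.sum_const, Finset.card_univ,
            smul_eq_mul, Nat.card_eq_fintype_card]
      _ = ∑ χ ∈ Finset.univ.image f, D χ ^ 2 := by
          rw [Finset.sum_image (fun x _ y _ h => hf h)]
      _ ≤ ∑ χ : IrrCharacter G, D χ ^ 2 :=
          Finset.sum_le_sum_of_subset (Finset.subset_univ _)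
      _ = Nat.card G := h6
  have h4 : a * d * (a + 1) ≤ Nat.card G := by
    rw [← hNad, ← N.card_mul_index]
    exact Nat.mul_le_mul_left _ (card_le_index A hTI hC hnn)
  exact arith hapos hd hF hRcard h2 h3 h4 h5

end main

end Cfsg.Agent.Lib.CAElem
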