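import Cfsg.Agent.Lib.BlockSection
import Cfsg.Agent.Lib.BlockOrth
import Cfsg.Agent.Lib.BlockVal
import Cfsg.Agent.Lib.BlockKul
import Cfsg.Agent.Lib.BlockPow
import Cfsg.Agent.Lib.BlockTop
import Cfsg.Agent.Lib.BlockInfl
import Cfsg.Agent.Lib.BlockIndPart
import Cfsg.Agent.Lib.Codegree
import Cfsg.Agent.Lib.Cores

/-!
# Sums over the principal 2-block (helper74)
-/

set_option autoImplicit false
set_option linter.all false

namespace Cfsg.Agent.Lib.CDeg

open scoped ComplexConjugate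
open Cfsg Cfsg.Agent.Lib.CharBasic Cfsg.Agent.Lib.BlockRing Cfsg.Agent.Lib.BlockIdem Cfsg.Agent.Lib.BlockThird

universe u

attribute [local instance 5000] Fintype.ofFinite

variable {G : Type u} [Group G] [Finite G] {M : Ideal AlgInt}

/-- the principal block as a finset -/
noncomputable def B0 (M : Ideal AlgInt) (G : Type u) [Group G] [Finite G] : Finset (IrrCharacter G) :=
  (Set.toFinite (principalBlock M G)).toFinset

theorem mem_B0 {χ : IrrCharacter G} : χ ∈ B0 M G ↔ χ ∈ principalBlock M G := by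
  rw [B0, Set.Finite.mem_toFinset]

theorem sum_B0 (f : IrrCharacter G → ℂ) : ∑ᶠ χ ∈ principalBlock M G, f χ = ∑ χ ∈ B0 M G, f χ := by
  rw [finsum_mem_eq_finite_toFinset_sum _ (Set.toFinite _)]; rfl

theorem triv_mem_B0 {p : ℕ} (hM : IsPModular p M) : triv G ∈ B0 M G := by
  have := isPrime hM
  exact mem_B0.mpr triv_mem

/-- orthogonality of different sections -/
theorem orth (hM : IsPModular 2 M) {g h y z : G} (hy : IsPPart 2 g y) (hz : IsPPart 2 h z) (hyz : ¬ IsConj y z) :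
    ∑ χ ∈ B0 M G, (χ : G → ℂ) g * (χ : G → ℂ) h⁻¹ = 0 := by
  rw [← sum_B0]
  exact BlockOrth.block_orthogonality hM isPBlock_principal hy hz hyz

theorem isPPart_one_of_odd {x : G} (hx : ¬ 2 ∣ orderOf x) : IsPPart 2 x 1 :=
  ⟨x, one_mul x, Commute.one_left x, ⟨0, by simp⟩, hx⟩

/-- weak orthogonality -/
theorem worth (hM : IsPModular 2 M) {g x : G} (hg : 2 ∣ orderOf g) (hx : ¬ 2 ∣ orderOf x) :
    ∑ χ ∈ B0 M G, (χ : G → ℂ) g * (χ : G → ℂ) x = 0 := by
  obtain ⟨y, hy⟩ := BlockSecond.exists_isPPart (G := G) hM.1 g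
  have hx' : ¬ 2 ∣ orderOf x⁻¹ := by rwa [orderOf_inv]
  have h1 := orth hM hy (isPPart_one_of_odd hx') (by
    intro h
    have hy1 : y = 1 := by
      obtain ⟨c, hc⟩ := isConj_iff.mp h
      rw [mul_inv_eq_one] at hc
      exact (mul_eq_left.mp hc)
    obtain ⟨s, hs, -, -, hs2⟩ := hy
    rw [hy1, one_mul] at hs
    exact hs2 (hs ▸ hg))
  simpa only [inv_inv] using h1

/-- **Parity**: the sum over the principal 2-block of the values at a 2-singular element is in `M`. -/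
theorem idl_sum_singular (hM : IsPModular 2 M) {g : G} (hg : 2 ∣ orderOf g) :
    MemLocalIdeal M (∑ χ ∈ B0 M G, (χ : G → ℂ) g) := by
  have := isPrime hM
  obtain ⟨y, x, hyx, hc, hy, hx, -, -⟩ := BlockSecond.exists_ppart (G := G) hM.1 g
  have hval : ∀ χ ∈ B0 M G, MemLocalIdeal M ((χ : G → ℂ) g - (χ : G → ℂ) x) := by
    intro χ _
    rw [← hyx]
    exact BlockVal.idl_value_mul hM χ.2.isCharacter hy hc
  have hloc : ∀ (χ : IrrCharacter G) (z : G), MemLocalRing M ((χ : G → ℂ) z) := fun χ z =>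
    BlockGA.loc_irr χ z
  have h1 : MemLocalIdeal M (∑ χ ∈ B0 M G, (χ : G → ℂ) x * ((χ : G → ℂ) g - (χ : G → ℂ) x)) :=
    idl_sum fun χ hχ => idl_mul_left (hloc χ x) (hval χ hχ)
  have h2 : ∑ χ ∈ B0 M G, (χ : G → ℂ) x * ((χ : G → ℂ) g - (χ : G → ℂ) x) =
      - ∑ χ ∈ B0 M G, (χ : G → ℂ) x ^ 2 ^ 1 := by
    have h3 := worth hM hg hx
    rw [← sub_zero (-∑ χ ∈ B0 M G, (χ : G → ℂ) x ^ 2 ^ 1), ← h3, ← Finset.sum_neg_distrib]
    have h4 : ∑ χ ∈ B0 M G, (χ : G → ℂ) x * ((χ : G → ℂ) g - (χ : G → ℂ) x) =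
      ∑ χ ∈ B0 M G, (χ : G → ℂ) g * (χ : G → ℂ) x + ∑ χ ∈ B0 M G, -((χ : G → ℂ) x ^ 2 ^ 1) := by
      rw [← Finset.sum_add_distrib]
      exact Finset.sum_congr rfl fun χ _ => by ring
    rw [h4, h3]
    ring
  rw [h2, idl_neg_iff] at h1
  have h5 := BlockKul.idl_sum_pow hM (s := B0 M G) (f := fun χ => (χ : G → ℂ) x) (fun χ _ => hloc χ x) 1
  have h6 := (idl_congr h5).mpr h1
  have h7 : MemLocalIdeal M (∑ χ ∈ B0 M G, (χ : G → ℂ) x) :=
    idl_of_pow (loc_sum fun χ _ => hloc χ x) h6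
  refine (idl_congr (w := ∑ χ ∈ B0 M G, (χ : G → ℂ) x) ?_).mpr h7
  rw [← Finset.sum_sub_distrib]
  exact idl_sum hval

/-- degree of an irreducible character is a positive real -/
theorem deg_pos (χ : IrrCharacter G) : ∃ n : ℕ, 0 < n ∧ (χ : G → ℂ) 1 = n := by
  obtain ⟨h1, h2⟩ := BlockDefect.charDegree_spec χ.2
  exact ⟨charDegree (χ : G → ℂ), Nat.pos_of_ne_zero h2, h1⟩

theorem sum_sq_ne {s : Finset (IrrCharacter G)} (hs : s.Nonempty) :
    ∑ χ ∈ s, (χ : G → ℂ) 1 * (χ : G → ℂ) 1 ≠ 0 := by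
  choose n hn hn' using fun χ : IrrCharacter G => deg_pos χ
  simp only [hn']
  have h1 : ∑ χ ∈ s, (n χ : ℂ) * n χ = ((∑ χ ∈ s, n χ * n χ : ℕ) : ℂ) := by push_cast; rfl
  rw [h1]
  have h2 : 0 < ∑ χ ∈ s, n χ * n χ := Finset.sum_pos (fun χ _ => Nat.mul_pos (hn χ) (hn χ)) hs
  exact_mod_cast h2.ne'

/-- a normal subgroup without elements of even order is in the odd core -/
theorem le_oddCore {K : Subgroup G} (hK : K.Normal) (h : ∀ k ∈ K, ¬ 2 ∣ orderOf k) : K ≤ oddCore G := by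
  refine Cores.le_pPrimeCore hK ?_
  rw [Nat.coprime_comm, Nat.Prime.coprime_iff_not_dvd Nat.prime_two]
  intro hd
  haveI : Fact (Nat.Prime 2) := ⟨Nat.prime_two⟩
  obtain ⟨x, hx⟩ := exists_prime_orderOf_dvd_card' 2 hd
  apply h x x.2
  rw [Subgroup.orderOf_coe, hx]

theorem odd_of_mem_oddCore {x : G} (hx : x ∈ oddCore G) : ¬ 2 ∣ orderOf x := by
  have h1 := Cores.coprime_orderOf_of_mem_pPrimeCore hx
  rw [Nat.coprime_comm, Nat.Prime.coprime_iff_not_dvd Nat.prime_two] at h1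
  exact h1

/-- the kernel of a set of characters -/
noncomputable def kerSet (s : Finset (IrrCharacter G)) : Subgroup G :=
  ⨅ χ ∈ s, Codegree.kerS (χ := (χ : G → ℂ)) χ.2.isCharacter

theorem mem_kerSet {s : Finset (IrrCharacter G)} {g : G} : g ∈ kerSet s ↔ ∀ χ ∈ s, (χ : G → ℂ) g = (χ : G → ℂ) 1 := by
  rw [kerSet]
  simp only [Subgroup.mem_iInf]
  rfl

theorem kerSet_normal (s : Finset (IrrCharacter G)) : (kerSet s).Normal := by
  constructor
  intro n hn g
  rw [mem_kerSet] at hn ⊢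
  intro χ hχ
  rw [χ.2.isClassFunction]
  exact hn χ hχ

/-- the kernel of the principal 2-block -/
theorem mem_oddCore_iff (hM : IsPModular 2 M) {g : G} :
    g ∈ oddCore G ↔ ∀ χ ∈ B0 M G, (χ : G → ℂ) g = (χ : G → ℂ) 1 := by
  constructor
  · intro hg χ hχ
    haveI : (oddCore G).Normal := inferInstance
    refine BlockCore.ker_of_principal hM (N := oddCore G) ?_ (mem_B0.mp hχ) g hg
    have h1 := Cores.coprime_card_pPrimeCore 2 G
    rw [Nat.coprime_comm, Nat.Prime.coprime_iff_not_dvd Nat.prime_two] at h1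
    exact h1
  · intro hg
    refine le_oddCore (kerSet_normal (B0 M G)) ?_ (mem_kerSet.mpr hg)
    intro k hk h2
    rw [mem_kerSet] at hk
    have h1 := worth hM (x := 1) h2 (by rw [orderOf_one]; norm_num)
    apply sum_sq_ne ⟨triv G, triv_mem_B0 (G := G) hM⟩
    rw [← h1]
    exact Finset.sum_congr rfl fun χ hχ => by rw [hk χ hχ]

/-- complex conjugation -/
theorem exists_conj (χ : IrrCharacter G) (hχ : χ ∈ B0 M G) (h1 : (χ : G → ℂ) ≠ fun _ => 1) :
    ∃ ψ ∈ B0 M G, (ψ : G → ℂ) ≠ (fun _ => 1) ∧ ∀ g, (ψ : G → ℂ) g = (χ : G → ℂ) g⁻¹ := by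
  obtain ⟨k, hk, hkg⟩ : ∃ k : ℕ, k.Coprime (Nat.card G) ∧ ∀ g : G, g ^ k = g⁻¹ := by
    refine ⟨Nat.card G - 1 + Nat.card G, ?_, ?_⟩
    · have h0 : 0 < Nat.card G := Nat.card_pos
      have h2 : (Nat.card G - 1 + Nat.card G).Coprime (Nat.card G) ↔ (Nat.card G - 1).Coprime (Nat.card G) := by
        rw [Nat.coprime_add_self_left]
      rw [h2]
      have h3 : Nat.Coprime (Nat.card G - 1) (Nat.card G - 1 + 1) := by simp
      rwa [Nat.sub_add_cancel h0] at h3
    · intro g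
      have h0 : 0 < Nat.card G := Nat.card_pos
      rw [pow_add, pow_card_eq_one', mul_one]
      apply eq_inv_of_mul_eq_one_left
      rw [← pow_succ, Nat.sub_add_cancel h0, pow_card_eq_one']
  refine ⟨BlockPow.powIrr hk χ, mem_B0.mpr ((BlockPow.bijOn_principal hk).mapsTo (mem_B0.mp hχ)), ?_, ?_⟩
  · intro h
    apply h1
    funext g
    have h2 := congrFun h g⁻¹
    rw [BlockPow.powIrr_apply, hkg, inv_inv] at h2
    exact h2
  · intro g
    rw [BlockPow.powIrr_apply, hkg]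

open Cfsg.Agent.Lib.BlockGA in
/-- characters of the principal block of the centralizer of a 2-element lie under the principal block -/
theorem exists_over (hM : IsPModular 2 M) {y : G} {k : ℕ} (hy : orderOf y = 2 ^ k)
    {ψ : IrrCharacter ↥(Subgroup.centralizer ({y} : Set G))}
    (hψ : ψ ∈ B0 M ↥(Subgroup.centralizer ({y} : Set G))) :
    ∃ χ ∈ B0 M G, classInner (fun h : ↥(Subgroup.centralizer ({y} : Set G)) => (χ : G → ℂ) h) (ψ : _ → ℂ) ≠ 0 := by
  classical
  haveI := isPrime hM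
  have hind : IsInducedBlock M (Subgroup.centralizer ({y} : Set G)) (principalBlock M _) (principalBlock M G) := by
    have h1 := BlockTop.induced_principal_set (G := G) hM hy
    have h2 : principalBlock M ↥(Subgroup.centralizer ({y} : Set G)) ∈
      ({principalBlock M ↥(Subgroup.centralizer ({y} : Set G))} : Set _) := rfl
    rw [← h1] at h2
    exact h2
  have hω := BlockSecond.inducedBlock_omega hind (mem_B0.mp hψ) (triv_mem (G := G) (M := M))
    (eB_mem_center (principalBlock M G)) (locA_eB isPBlock_principal)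
  rw [omega_eB_mem triv_mem] at hω
  have hne : omega (ψ : _ → ℂ) (BlockSecond.resH (Subgroup.centralizer ({y} : Set G)) (eB (principalBlock M G))) ≠ 0 := by
    intro h0
    rw [h0, zero_sub, idl_neg_iff] at hω
    exact one_not_idl hω
  have h3 := BlockIndPart.blockPart_indFun_one (Subgroup.centralizer ({y} : Set G)) ψ.2.one_ne_zero
    (principalBlock M G)
  have h4 : blockPart (principalBlock M G) (indFun (Subgroup.centralizer ({y} : Set G)) (ψ : _ → ℂ)) 1 ≠ 0 := by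
    rw [h3]
    refine mul_ne_zero ?_ hne
    rw [IndFun.indFun_one]
    exact mul_ne_zero (by exact_mod_cast Subgroup.index_ne_zero_of_finite) ψ.2.one_ne_zero
  by_contra hcon
  push Not at hcon
  apply h4
  rw [blockPart]
  rw [sum_B0]
  refine Finset.sum_eq_zero fun χ hχ => ?_
  have h5 := hcon χ hχ
  have h6 : classInner (indFun (Subgroup.centralizer ({y} : Set G)) (ψ : _ → ℂ)) (χ : G → ℂ) = 0 := by
    rw [IndFun.frobenius_reciprocity _ _ _ χ.2.isClassFunction]
    rw [← IndFun.classInner_conj_symm, h5, map_zero]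
  rw [h6, zero_mul]

/-- coset lemma for an involution normalizing a subgroup without elements of even order -/
theorem inv_coset {x : G} (hx : orderOf x = 2) {R : Subgroup G} (hR : ∀ r ∈ R, ¬ 2 ∣ orderOf r)
    (hn : ∀ r ∈ R, x * r * x⁻¹ ∈ R) {r : G} (hr : r ∈ R) :
    ∃ h ∈ R, ∃ c ∈ R, Commute x c ∧ h⁻¹ * (r * x) * h = x * c := by
  have hx2 : x * x = 1 := by rw [← sq, ← hx, pow_orderOf_eq_one]
  have hxi : x⁻¹ = x := inv_eq_of_mul_eq_one_left hx2
  have hnR : x ∉ R := fun h => hR x h (by rw [hx])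
  -- the square
  have hsq : (r * x) * (r * x) ∈ R := by
    have h1 : r * x * (r * x) = r * (x * r * x⁻¹) := by rw [hxi]; group
    rw [h1]
    exact R.mul_mem hr (hn r hr)
  set m := orderOf ((r * x) * (r * x)) with hm
  have hmodd : ¬ 2 ∣ m := hR _ hsq
  obtain ⟨k, hk⟩ : ∃ k, m = 2 * k + 1 := by
    rcases Nat.even_or_odd m with h | h
    · exact absurd h.two_dvd hmodd
    · exact h
  set g := r * x with hg
  set y := g ^ m with hy
  have hy2 : y * y = 1 := by
    rw [hy, ← pow_two, ← pow_mul, mul_comm m 2, pow_mul, pow_two, hm, pow_orderOf_eq_one]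
  have hyg : y = (g * g) ^ k * g := by
    rw [hy, hk, pow_succ, pow_mul, pow_two]
  -- `y = w x` with `w ∈ R`
  set w := (g * g) ^ k * r with hw
  have hwR : w ∈ R := R.mul_mem (R.pow_mem hsq k) hr
  have hyw : y = w * x := by rw [hyg, hw]; exact (mul_assoc _ r x).symm
  have hwx : x * w * x = w⁻¹ := by
    have h1 : w * x * (w * x) = 1 := by rw [← hyw, hy2]
    have h2 : w * (x * w * x) = 1 := by rw [← h1]; group
    exact (eq_inv_of_mul_eq_one_right h2)
  obtain ⟨j, hj⟩ : ∃ j, orderOf w = 2 * j + 1 := by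
    rcases Nat.even_or_odd (orderOf w) with h | h
    · exact absurd h.two_dvd (hR w hwR)
    · exact h
  have hxw : ∀ n : ℕ, x * w ^ n * x = (w⁻¹) ^ n := by
    intro n
    induction n with
    | zero => simp [hx2]
    | succ n ih =>
      rw [pow_succ, pow_succ, ← ih, ← hwx]
      have : x * (w ^ n * w) * x = x * w ^ n * (x * x) * w * x := by rw [hx2]; group
      rw [this]; group
  have hconj : w ^ (j + 1) * x * (w ^ (j + 1))⁻¹ = y := by
    have h1 : x * (w ^ (j + 1))⁻¹ = w ^ (j + 1) * x := by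
      have h2 := hxw (j + 1)
      have h3 : x * (w ^ (j + 1))⁻¹ = x * (x * w ^ (j + 1) * x) := by rw [h2, inv_pow]
      rw [h3]
      have : x * (x * w ^ (j + 1) * x) = (x * x) * w ^ (j + 1) * x := by group
      rw [this, hx2, one_mul]
    rw [mul_assoc, h1, ← mul_assoc, ← pow_add, hyw]
    congr 1
    have h4 : j + 1 + (j + 1) = orderOf w + 1 := by omega
    rw [h4, pow_succ, pow_orderOf_eq_one, one_mul]
  -- the odd part
  set s := ((g * g) ^ k)⁻¹ with hs
  have hsR : s ∈ R := R.inv_mem (R.pow_mem hsq k)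
  have hgs : g = y * s := by
    rw [hyg, hs]
    have h1 : Commute ((g * g) ^ k) g := by
      exact ((Commute.refl g).mul_left (Commute.refl g)).pow_left k
    rw [h1.eq, mul_inv_cancel_right]
  have hys : Commute y s := by
    rw [hs, hyg]
    have h1 : Commute ((g * g) ^ k) g := ((Commute.refl g).mul_left (Commute.refl g)).pow_left k
    exact ((Commute.refl _).mul_left h1.symm).inv_right
  refine ⟨w ^ (j + 1), R.pow_mem hwR _, (w ^ (j + 1))⁻¹ * s * w ^ (j + 1),
    R.mul_mem (R.mul_mem (R.inv_mem (R.pow_mem hwR _)) hsR) (R.pow_mem hwR _), ?_, ?_⟩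
  · have hx' : x = (w ^ (j + 1))⁻¹ * y * w ^ (j + 1) := by rw [← hconj]; group
    show x * ((w ^ (j + 1))⁻¹ * s * w ^ (j + 1)) = (w ^ (j + 1))⁻¹ * s * w ^ (j + 1) * x
    rw [hx']
    have h1 := hys.eq
    calc (w ^ (j + 1))⁻¹ * y * w ^ (j + 1) * ((w ^ (j + 1))⁻¹ * s * w ^ (j + 1))
        = (w ^ (j + 1))⁻¹ * (y * s) * w ^ (j + 1) := by group
      _ = (w ^ (j + 1))⁻¹ * (s * y) * w ^ (j + 1) := by rw [h1]
      _ = _ := by group
  · rw [hgs]
    have hx' : x = (w ^ (j + 1))⁻¹ * y * w ^ (j + 1) := by rw [← hconj]; group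
    rw [hx']
    group

/-- trace zero of a weight projection kills it -/
theorem wproj_zero {n : ℕ} (ρ : Representation ℂ G (Fin n → ℂ)) (P : Subgroup G) (lam : P → ℂ)
    (hmul : ∀ x y, lam (x * y) = lam x * lam y) (hinv : ∀ x, lam x * lam x⁻¹ = 1)
    (h0 : ∑ x : P, lam x⁻¹ * ρ.character (x : G) = 0) (g : G) :
    ∑ x : P, lam x⁻¹ * ρ.character (g * x) = 0 := by
  classical
  set E : Module.End ℂ (Fin n → ℂ) := ∑ x : P, lam x⁻¹ • ρ (x : G) with hE
  have hxE : ∀ y : P, ρ (y : G) * E = lam y • E := by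
    intro y
    rw [hE, Finset.mul_sum, Finset.smul_sum]
    refine Fintype.sum_equiv (Equiv.mulLeft y) _ _ fun x => ?_
    rw [Equiv.coe_mulLeft, mul_smul_comm, ← map_mul, ← Subgroup.coe_mul, smul_smul]
    congr 1
    rw [mul_inv_rev, hmul]
    have h1 := hinv y
    calc lam x⁻¹ = (lam y * lam y⁻¹) * lam x⁻¹ := by rw [h1, one_mul]
      _ = _ := by ring
  have hEE : E * E = (Nat.card P : ℂ) • E := by
    have h1 : E * E = ∑ x : P, lam x⁻¹ • (ρ (x : G) * E) := by
      conv_lhs => rw [hE]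
      rw [← hE, Finset.sum_mul]
      exact Finset.sum_congr rfl fun x _ => smul_mul_assoc _ _ _
    rw [h1]
    have h2 : ∀ x : P, lam x⁻¹ • (ρ (x : G) * E) = E := by
      intro x
      rw [hxE, smul_smul, mul_comm, hinv, one_smul]
    rw [Finset.sum_congr rfl fun x _ => h2 x, Finset.sum_const, Finset.card_univ, ← Nat.card_eq_fintype_card,
      ← Nat.cast_smul_eq_nsmul ℂ]
  have hP : (Nat.card P : ℂ) ≠ 0 := by exact_mod_cast Nat.card_pos.ne'
  have htr : LinearMap.trace ℂ _ E = 0 := by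
    rw [hE, map_sum, ← h0]
    exact Finset.sum_congr rfl fun x _ => by rw [map_smul, smul_eq_mul]; rfl
  have hid : IsIdempotentElem ((Nat.card P : ℂ)⁻¹ • E) := by
    rw [IsIdempotentElem, smul_mul_smul_comm, hEE, smul_smul, mul_assoc, inv_mul_cancel₀ hP, mul_one]
  have hproj := (LinearMap.isProj_range_iff_isIdempotentElem ((Nat.card P : ℂ)⁻¹ • E)).mpr hid
  have h3 := hproj.trace
  rw [map_smul, htr, smul_zero] at h3
  have h4 : Module.finrank ℂ (LinearMap.range ((Nat.card P : ℂ)⁻¹ • E)) = 0 := by exact_mod_cast h3.symm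
  have h5 := Submodule.finrank_eq_zero.mp h4
  have h6 := LinearMap.range_eq_bot.mp h5
  have h7 : E = 0 := by
    have := congrArg (fun z => (Nat.card P : ℂ) • z) h6
    simp only [smul_smul, mul_inv_cancel₀ hP, one_smul, smul_zero] at this
    exact this
  have h8 : LinearMap.trace ℂ _ (ρ g * E) = 0 := by rw [h7, mul_zero, map_zero]
  rw [hE, Finset.mul_sum, map_sum] at h8
  rw [← h8]
  refine Finset.sum_congr rfl fun x _ => ?_
  rw [mul_smul_comm, map_smul, smul_eq_mul, ← map_mul]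
  rfl

/-- **The kernel lemma.** -/
theorem core_le_ker (hM : IsPModular 2 M) {P R : Subgroup G} (hP : ∀ x ∈ P, x ≠ 1 → orderOf x = 2)
    (hR : ∀ r ∈ R, ¬ 2 ∣ orderOf r) (hn : ∀ x ∈ P, ∀ r ∈ R, x * r * x⁻¹ ∈ R)
    (hcen : ∀ x ∈ P, x ≠ 1 → ∀ c ∈ R, Commute x c →
      ∃ v : ↥(Subgroup.centralizer ({x} : Set G)), v ∈ oddCore ↥(Subgroup.centralizer ({x} : Set G)) ∧ (v : G) = c)
    {χ : IrrCharacter G} (hχ : χ ∈ B0 M G) {lam : P → ℂ}
    (hmul : ∀ x y, lam (x * y) = lam x * lam y) (hinv : ∀ x, lam x * lam x⁻¹ = 1)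
    (h0 : ∑ x : P, lam x⁻¹ * (χ : G → ℂ) (x : G) = 0) : ∀ r ∈ R, (χ : G → ℂ) r = (χ : G → ℂ) 1 := by
  classical
  have hval : ∀ x ∈ P, x ≠ 1 → ∀ r ∈ R, (χ : G → ℂ) (r * x) = (χ : G → ℂ) x := by
    intro x hx hx1 r hr
    obtain ⟨h, hh, c, hc, hxc, heq⟩ := inv_coset (hP x hx hx1) hR (hn x hx) hr
    obtain ⟨v, hv, hvc⟩ := hcen x hx hx1 c hc hxc
    have h1 : (χ : G → ℂ) (r * x) = (χ : G → ℂ) (x * c) := by
      rw [← heq]
      have := χ.2.isClassFunction (r * x) h⁻¹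
      rw [inv_inv] at this
      exact this.symm
    rw [h1, ← hvc]
    haveI : (oddCore ↥(Subgroup.centralizer ({x} : Set G))).Normal := inferInstance
    refine BlockSection.eq_of_mem_core hM (k := 1) (by rw [hP x hx hx1]; rfl)
      (H := Subgroup.centralizer ({x} : Set G)) (fun g => ?_) (N := oddCore _) ?_ hv (mem_B0.mp hχ)
    · rw [Subgroup.mem_centralizer_singleton_iff]
      exact ⟨fun h => h.symm, fun h => h.symm⟩
    · have h1 := Cores.coprime_card_pPrimeCore 2 ↥(Subgroup.centralizer ({x} : Set G))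
      rw [Nat.coprime_comm, Nat.Prime.coprime_iff_not_dvd Nat.prime_two] at h1
      exact h1
  have hlam1 : lam 1 = 1 := by
    have h1 := hmul 1 1
    have h2 := hinv 1
    rw [mul_one] at h1
    rw [inv_one] at h2
    rw [h1, h2]
  have hr1 : ∀ r ∈ R, ∑ x : P, lam x⁻¹ * (χ : G → ℂ) (r * x) = 0 := by
    intro r _
    obtain ⟨n, ρ, hρ⟩ := χ.2.isCharacter
    rw [← hρ] at h0 ⊢
    exact wproj_zero ρ P lam hmul hinv h0 r
  intro r hr
  have h2 : ∑ x : P, lam x⁻¹ * (χ : G → ℂ) (r * x) - ∑ x : P, lam x⁻¹ * (χ : G → ℂ) (x : G) =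
      (χ : G → ℂ) r - (χ : G → ℂ) 1 := by
    rw [← Finset.sum_sub_distrib, Finset.sum_eq_single (1 : P)]
    · rw [inv_one, hlam1, Subgroup.coe_one, mul_one]; ring
    · intro x _ hx1
      rw [hval x x.2 (fun h => hx1 (Subtype.ext h)) r hr, sub_self]
    · intro h; exact absurd (Finset.mem_univ _) h
  rw [hr1 r hr, h0, sub_zero] at h2
  exact (sub_eq_zero.mp h2.symm)

end Cfsg.Agent.Lib.CDeg
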