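import Cfsg.Agent.Lib.CDeg1

/-!
# Groups with elementary abelian Sylow 2-subgroups (helper74)
-/

set_option autoImplicit false
set_option linter.all false

namespace Cfsg.Agent.Lib.CDeg

open scoped ComplexConjugate
open Cfsg

universe u

variable {X : Type u} [Group X]

theorem fact2 : Fact (Nat.Prime 2) := ⟨Nat.prime_two⟩

attribute [local instance 5000] Fintype.ofFinite fact2

/-- 2-elements are involutions -/
def El (X : Type u) [Group X] : Prop := ∀ x : X, x ^ 4 = 1 → x ^ 2 = 1

theorem El.sq (h : El X) {x : X} : ∀ {k : ℕ}, x ^ 2 ^ k = 1 → x ^ 2 = 1 := by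
  intro k
  induction k with
  | zero => intro hx; rw [pow_zero, pow_one] at hx; rw [hx, one_pow]
  | succ k ih =>
    intro hx
    rcases Nat.eq_zero_or_pos k with rfl | hk
    · simpa using hx
    · obtain ⟨j, rfl⟩ : ∃ j, k = j + 1 := ⟨k - 1, by omega⟩
      apply ih
      have h1 : (x ^ 2 ^ j) ^ 4 = 1 := by
        rw [← pow_mul, ← hx]; congr 1; ring
      have h2 := h _ h1
      rw [← pow_mul] at h2
      rw [← h2]; congr 1

theorem El.order (h : El X) {P : Subgroup X} (hP : IsPGroup 2 P) {x : X} (hx : x ∈ P) (hx1 : x ≠ 1) :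
    orderOf x = 2 := by
  obtain ⟨k, hk⟩ := hP ⟨x, hx⟩
  have h1 : x ^ 2 ^ k = 1 := by simpa using congrArg Subtype.val hk
  exact orderOf_eq_prime (h.sq h1) hx1

theorem El.comm (h : El X) {P : Subgroup X} (hP : IsPGroup 2 P) {x y : X} (hx : x ∈ P) (hy : y ∈ P) :
    x * y = y * x := by
  have hs : ∀ z ∈ P, z * z = 1 := by
    intro z hz
    obtain ⟨k, hk⟩ := hP ⟨z, hz⟩
    have h1 : z ^ 2 ^ k = 1 := by simpa using congrArg Subtype.val hk
    have h2 := h.sq h1
    rwa [pow_two] at h2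
  have h1 := hs _ (P.mul_mem hx hy)
  have h2 : x * y = (x * y)⁻¹ := eq_inv_of_mul_eq_one_left h1
  have h3 : x⁻¹ = x := inv_eq_of_mul_eq_one_left (hs x hx)
  have h4 : y⁻¹ = y := inv_eq_of_mul_eq_one_left (hs y hy)
  rw [h2, mul_inv_rev, h3, h4]

theorem El.sub (h : El X) (H : Subgroup X) : El ↥H := by
  intro x hx
  apply Subtype.ext
  have := h (x : X) (by simpa using congrArg Subtype.val hx)
  simpa using this

theorem El.quot [Finite X] (h : El X) (N : Subgroup X) [N.Normal] : El (X ⧸ N) := by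
  intro z hz
  obtain ⟨x, rfl⟩ := QuotientGroup.mk_surjective z
  obtain ⟨y, w, hyw, hc, ⟨k, hk⟩, hw, -, -⟩ := BlockSecond.exists_ppart (G := X) Nat.prime_two x
  have hy2 : y ^ 2 = 1 := h.sq (k := k) (by rw [← hk, pow_orderOf_eq_one])
  have h1 : ((w : X) : X ⧸ N) = 1 := by
    have h2 : ((w : X) : X ⧸ N) ^ 4 = 1 := by
      have h3 : ((x : X) : X ⧸ N) ^ 4 = ((w : X) : X ⧸ N) ^ 4 := by
        rw [← QuotientGroup.mk_pow, ← QuotientGroup.mk_pow, ← hyw, hc.mul_pow]
        have : y ^ 4 = 1 := by rw [show (4 : ℕ) = 2 * 2 by norm_num, pow_mul, hy2, one_pow]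
        rw [this, one_mul]
      rw [← h3, hz]
    have h4 : orderOf ((w : X) : X ⧸ N) ∣ 4 := orderOf_dvd_of_pow_eq_one h2
    have h5 : orderOf ((w : X) : X ⧸ N) ∣ orderOf w := by
      apply orderOf_dvd_of_pow_eq_one
      rw [← QuotientGroup.mk_pow, pow_orderOf_eq_one]; rfl
    have h6 : Nat.Coprime 4 (orderOf w) := by
      have : Nat.Coprime (2 ^ 2) (orderOf w) := Nat.Coprime.pow_left 2
        ((Nat.Prime.coprime_iff_not_dvd Nat.prime_two).mpr hw)
      simpa using this
    have h7 := Nat.eq_one_of_dvd_coprimes h6 h4 h5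
    exact orderOf_eq_one_iff.mp h7
  have h8 : ((x : X) : X ⧸ N) = ((y : X) : X ⧸ N) := by
    rw [← hyw, QuotientGroup.mk_mul, h1, mul_one]
  rw [h8, ← QuotientGroup.mk_pow, hy2]; rfl

/-- normal Sylow 2-subgroups -/
def NS' (Y : Type u) [Group Y] : Prop := ∀ P : Sylow 2 Y, (P : Subgroup Y).Normal

/-- normal Sylow 2-subgroups modulo the odd core -/
def NS (X : Type u) [Group X] : Prop := NS' (X ⧸ oddCore X)

variable [Finite X]

theorem odd_card_oddCore : ¬ 2 ∣ Nat.card (oddCore X) := by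
  have h1 := Cores.coprime_card_pPrimeCore 2 X
  rw [Nat.coprime_comm, Nat.Prime.coprime_iff_not_dvd Nat.prime_two] at h1
  exact h1

theorem oddCore_sub {N : Subgroup X} [N.Normal] (h : oddCore X = ⊥) : oddCore ↥N = ⊥ := by
  have h1 := Cores.map_pPrimeCore_subtype_eq (G := X) 2 N
  have h2 : (oddCore ↥N).map N.subtype = ⊥ := by
    rw [show oddCore ↥N = pPrimeCore 2 ↥N from rfl, h1, show pPrimeCore 2 X = ⊥ from h, inf_bot_eq]
  exact (Subgroup.map_eq_bot_iff_of_injective _ N.subtype_injective).mp h2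

theorem oddCore_quot : oddCore (X ⧸ oddCore X) = ⊥ := Cores.pPrimeCore_quotient_pPrimeCore 2 X

theorem eq_bot_of_odd {K : Subgroup X} (hK : K.Normal) (h : oddCore X = ⊥) (hodd : ∀ k ∈ K, ¬ 2 ∣ orderOf k) :
    K = ⊥ := by
  have := le_oddCore hK hodd
  rw [h] at this
  exact le_bot_iff.mp this

/-- Burnside -/
theorem burn (h : oddCore X = ⊥) (P : Sylow 2 X)
    (hP : Subgroup.normalizer ((P : Subgroup X) : Set X) ≤ Subgroup.centralizer ((P : Subgroup X) : Set X)) :
    (P : Subgroup X) = ⊤ := by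
  have h1 := MonoidHom.not_dvd_card_ker_transferSylow P hP
  have h2 : (MonoidHom.transferSylow P hP).ker = ⊥ := by
    refine eq_bot_of_odd inferInstance h fun k hk hd => h1 ?_
    have h3 : orderOf (⟨k, hk⟩ : (MonoidHom.transferSylow P hP).ker) = orderOf k := Subgroup.orderOf_mk _ _
    rw [← h3] at hd
    exact hd.trans (orderOf_dvd_natCard _)
  have h3 := MonoidHom.ker_transferSylow_isComplement' P hP
  rw [h2] at h3
  exact Subgroup.isComplement'_bot_left.mp h3

theorem cent_le (h : oddCore X = ⊥) (P : Sylow 2 X) [hPn : (P : Subgroup X).Normal]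
    (hc : ∀ x ∈ P, ∀ y ∈ P, x * y = y * x) :
    Subgroup.centralizer ((P : Subgroup X) : Set X) ≤ P := by
  set Z := Subgroup.centralizer ((P : Subgroup X) : Set X) with hZ
  haveI : Z.Normal := by rw [hZ]; infer_instance
  have hPZ : (P : Subgroup X) ≤ Z := by
    intro x hx
    rw [hZ, Subgroup.mem_centralizer_iff]
    intro y hy
    exact hc y hy x hx
  have h1 := oddCore_sub (N := Z) h
  have h2 := burn h1 (P.subtype hPZ) (by
    intro x _
    rw [Subgroup.mem_centralizer_iff]
    intro y hy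
    apply Subtype.ext
    have hx2 : (x : X) ∈ Subgroup.centralizer ((P : Subgroup X) : Set X) := x.2
    rw [Subgroup.mem_centralizer_iff] at hx2
    exact hx2 y hy)
  intro x hx
  have h3 : (⟨x, hx⟩ : Z) ∈ (P.subtype hPZ : Subgroup Z) := by rw [h2]; trivial
  exact h3

theorem odd_image {Y : Type u} [Group Y] (f : X →* Y) {x : X} (hx : ¬ 2 ∣ orderOf x) : ¬ 2 ∣ orderOf (f x) :=
  fun h => hx (h.trans (orderOf_map_dvd f x))

/-- a subgroup of odd elements normalized by a Sylow 2-subgroup lies in the odd core -/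
theorem NS.odd_le (h : NS X) (hE : El X) (P : Sylow 2 X) {K : Subgroup X} (hK : ∀ k ∈ K, ¬ 2 ∣ orderOf k)
    (hn : ∀ x ∈ P, ∀ k ∈ K, x * k * x⁻¹ ∈ K) : K ≤ oddCore X := by
  have hsurj := QuotientGroup.mk'_surjective (oddCore X)
  set P' := P.mapSurjective hsurj with hP'
  haveI hPn : (P' : Subgroup (X ⧸ oddCore X)).Normal := h P'
  have hE' : El (X ⧸ oddCore X) := hE.quot _
  have hcl := cent_le oddCore_quot P' (fun x hx y hy => hE'.comm P'.2 hx hy)
  intro k hk
  have hkc : (QuotientGroup.mk' (oddCore X) k) ∈ Subgroup.centralizer ((P' : Subgroup (X ⧸ oddCore X)) : Set _) := by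
    rw [Subgroup.mem_centralizer_iff]
    intro y hy
    obtain ⟨x, hx, rfl⟩ : ∃ x ∈ (P : Subgroup X), QuotientGroup.mk' (oddCore X) x = y := hy
    set c := QuotientGroup.mk' (oddCore X) (x * k * x⁻¹ * k⁻¹) with hc
    have h1 : ¬ 2 ∣ orderOf c := odd_image _ (hK _ (K.mul_mem (hn x hx k hk) (K.inv_mem hk)))
    have h2 : c ∈ (P' : Subgroup (X ⧸ oddCore X)) := by
      have h3 : QuotientGroup.mk' (oddCore X) x ∈ (P' : Subgroup (X ⧸ oddCore X)) := ⟨x, hx, rfl⟩
      have h4 := hPn.conj_mem _ (Subgroup.inv_mem _ h3) (QuotientGroup.mk' (oddCore X) k)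
      have h5 := Subgroup.mul_mem _ h3 h4
      rw [hc, map_mul, map_mul, map_mul, map_inv, map_inv]
      rw [← mul_assoc, ← mul_assoc] at h5
      exact h5
    have h3 : c = 1 := by
      by_contra hne
      exact h1 (by rw [hE'.order P'.2 h2 hne])
    rw [hc, map_mul, map_mul, map_mul, map_inv, map_inv, mul_inv_eq_one, mul_inv_eq_iff_eq_mul] at h3
    exact h3
  have h1 := hcl hkc
  have h2 : (QuotientGroup.mk' (oddCore X) k) = 1 := by
    by_contra hne
    exact odd_image (QuotientGroup.mk' (oddCore X)) (hK k hk) (by rw [hE'.order P'.2 h1 hne])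
  exact (QuotientGroup.eq_one_iff k).mp h2

/-- if the odd core is trivial -/
theorem NS.ns' (h : NS X) (h0 : oddCore X = ⊥) : NS' X := by
  intro P
  have hsurj := QuotientGroup.mk'_surjective (oddCore X)
  have hPn := h (P.mapSurjective hsurj)
  have h1 := hPn.comap (QuotientGroup.mk' (oddCore X))
  have h2 : ((P.mapSurjective hsurj : Sylow 2 _) : Subgroup (X ⧸ oddCore X)).comap (QuotientGroup.mk' (oddCore X)) =
      (P : Subgroup X) := by
    rw [Sylow.coe_mapSurjective, Subgroup.comap_map_eq, QuotientGroup.ker_mk', h0, sup_bot_eq]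
  rwa [h2] at h1

theorem NS'.ns (h : NS' X) : NS X := by
  intro Q
  obtain ⟨P, rfl⟩ := Sylow.mapSurjective_surjective (QuotientGroup.mk'_surjective (oddCore X)) 2 Q
  exact (h P).map _ (QuotientGroup.mk'_surjective _)

theorem ns_of_quot (h : NS (X ⧸ oddCore X)) : NS X := h.ns' oddCore_quot

/-- modulo a central involution -/
theorem ns_of_central (h0 : oddCore X = ⊥) {y : X} (hy : orderOf y = 2) (hc : ∀ x, Commute x y)
    [hn : (Subgroup.zpowers y).Normal] (h : NS (X ⧸ Subgroup.zpowers y)) : NS X := by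
  have hy2 : y ^ 2 = 1 := by rw [← hy, pow_orderOf_eq_one]
  have hy1 : y ≠ 1 := by rintro rfl; rw [orderOf_one] at hy; norm_num at hy
  -- the odd core of the quotient is trivial
  have h1 : oddCore (X ⧸ Subgroup.zpowers y) = ⊥ := by
    set R := (oddCore (X ⧸ Subgroup.zpowers y)).comap (QuotientGroup.mk' (Subgroup.zpowers y)) with hR
    haveI hRn : R.Normal := by rw [hR]; infer_instance
    have hRo := oddCore_sub (N := R) h0
    have hyR : y ∈ R := by
      rw [hR, Subgroup.mem_comap]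
      have : QuotientGroup.mk' (Subgroup.zpowers y) y = 1 :=
        (QuotientGroup.eq_one_iff y).mpr (Subgroup.mem_zpowers y)
      rw [this]; exact Subgroup.one_mem _
    -- every 2-element of `R` is in `zpowers y`
    have h2 : ∀ r ∈ R, ∀ k : ℕ, r ^ 2 ^ k = 1 → r ∈ Subgroup.zpowers y := by
      intro r hr k hk
      have h3 : QuotientGroup.mk' (Subgroup.zpowers y) r = 1 := by
        have h4 := odd_of_mem_oddCore (G := X ⧸ Subgroup.zpowers y) hr
        have h5 : orderOf (QuotientGroup.mk' (Subgroup.zpowers y) r) ∣ 2 ^ k := by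
          apply orderOf_dvd_of_pow_eq_one
          rw [← map_pow, hk, map_one]
        obtain ⟨j, -, hj⟩ := (Nat.dvd_prime_pow Nat.prime_two).mp h5
        rcases Nat.eq_zero_or_pos j with rfl | hj0
        · rw [pow_zero] at hj; exact orderOf_eq_one_iff.mp hj
        · exfalso; apply h4; rw [hj]; exact dvd_pow_self 2 hj0.ne'
      exact (QuotientGroup.eq_one_iff r).mp h3
    obtain ⟨Q⟩ := (inferInstance : Nonempty (Sylow 2 ↥R))
    have hQy : ∀ q : R, q ∈ Q → (q : X) ∈ Subgroup.zpowers y := by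
      intro q hq
      obtain ⟨k, hk⟩ := Q.2 ⟨q, hq⟩
      exact h2 q q.2 k (by simpa using congrArg (fun z : Q => ((z : R) : X)) hk)
    have h3 := burn hRo Q (by
      intro x _
      rw [Subgroup.mem_centralizer_iff]
      intro q hq
      apply Subtype.ext
      obtain ⟨j, hj⟩ := hQy q hq
      have h4 : Commute (x : X) (y ^ j) := (hc (x : X)).zpow_right j
      show (q : X) * x = x * q
      rw [show (q : X) = y ^ j from hj.symm]
      exact h4.eq.symm)
    rw [eq_bot_iff]
    intro z hz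
    obtain ⟨r, rfl⟩ := QuotientGroup.mk_surjective z
    have hr : r ∈ R := hz
    have h4 : (⟨r, hr⟩ : R) ∈ (Q : Subgroup R) := by rw [h3]; trivial
    exact (QuotientGroup.eq_one_iff r).mpr (hQy _ h4)
  have h2 := h.ns' h1
  apply NS'.ns
  intro P
  have hsurj := QuotientGroup.mk'_surjective (Subgroup.zpowers y)
  have h3 := (h2 (P.mapSurjective hsurj)).comap (QuotientGroup.mk' (Subgroup.zpowers y))
  have hyP : Subgroup.zpowers y ≤ P := by
    have h4 : IsPGroup 2 (Subgroup.zpowers y) := IsPGroup.of_card (n := 1) (by rw [Nat.card_zpowers, hy]; rfl)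
    obtain ⟨Q, hQ⟩ := h4.exists_le_sylow
    obtain ⟨g, hg⟩ := MulAction.exists_smul_eq X Q P
    rw [Subgroup.zpowers_le]
    have h5 : y ∈ (Q : Subgroup X) := hQ (Subgroup.mem_zpowers y)
    have h6 : g * y * g⁻¹ ∈ (P : Subgroup X) := by
      rw [← hg]
      exact Subgroup.smul_mem_pointwise_smul y (MulAut.conj g) (Q : Subgroup X) h5
    have h7 : g * y * g⁻¹ = y := by rw [(hc g).eq, mul_inv_cancel_right]
    rwa [h7] at h6
  have h5 : ((P.mapSurjective hsurj : Sylow 2 _) : Subgroup (X ⧸ Subgroup.zpowers y)).comap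
      (QuotientGroup.mk' (Subgroup.zpowers y)) = (P : Subgroup X) := by
    rw [Sylow.coe_mapSurjective, Subgroup.comap_map_eq, QuotientGroup.ker_mk', sup_eq_left.mpr hyP]
  rwa [h5] at h3

end Cfsg.Agent.Lib.CDeg
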