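import Cfsg.Prelude
import Mathlib
import Cfsg.Agent.Lib.SylowRel
import Cfsg.Agent.Lib.BaerSuzuki
import Cfsg.Agent.Lib.StrongEmbPt
import Cfsg.Agent.Lib.CoprimeGen

/-!
# CIT-groups (helper6): basics

`IsCIT G`: the centralizer of every involution of `G` is a `2`-group.
-/

set_option autoImplicit false
set_option linter.all false

namespace Cfsg.Agent.Lib.CIT

open Subgroup SylowRel

variable {G : Type*} [Group G]

def IsCIT (G : Type*) [Group G] : Prop :=
  ∀ t : G, orderOf t = 2 → IsPGroup 2 (centralizer ({t} : Set G))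

theorem mem_cent {x y : G} : y ∈ centralizer ({x} : Set G) ↔ y * x = x * y :=
  mem_centralizer_singleton_iff

/-- a nontrivial element of `2`-power order has a power of order `2`. -/
theorem exists_pow_two {u : G} (hu : u ≠ 1) {k : ℕ} (hk : u ^ 2 ^ k = 1) :
    ∃ m : ℕ, orderOf (u ^ m) = 2 := by
  haveI : Fact (Nat.Prime 2) := ⟨Nat.prime_two⟩
  induction k with
  | zero => exact absurd (by simpa using hk) hu
  | succ k ih =>
    by_cases h : u ^ 2 ^ k = 1
    · exact ih h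
    · exact ⟨2 ^ k, orderOf_eq_prime (by rw [← pow_mul, ← pow_succ]; exact hk) h⟩

theorem pow_two_of_isPGroup {P : Subgroup G} (hP : IsPGroup 2 P) {u : G} (hu : u ∈ P) :
    ∃ k : ℕ, u ^ 2 ^ k = 1 := by
  obtain ⟨k, hk⟩ := hP ⟨u, hu⟩
  exact ⟨k, by simpa using congrArg Subtype.val hk⟩

theorem IsCIT.cent_of_elem (h : IsCIT G) {u : G} (hu : u ≠ 1) {k : ℕ} (hk : u ^ 2 ^ k = 1) :
    IsPGroup 2 (centralizer ({u} : Set G)) := by
  obtain ⟨m, hm⟩ := exists_pow_two hu hk
  refine (h _ hm).to_le ?_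
  intro y hy
  rw [mem_cent] at hy ⊢
  exact (Commute.pow_right (show Commute y u from hy) m)

theorem IsCIT.cent_of_mem (h : IsCIT G) {P : Subgroup G} (hP : IsPGroup 2 P) {u : G} (hu : u ∈ P)
    (hu1 : u ≠ 1) : IsPGroup 2 (centralizer ({u} : Set G)) := by
  obtain ⟨k, hk⟩ := pow_two_of_isPGroup hP hu
  exact h.cent_of_elem hu1 hk

theorem exists_mem_ne_one {P : Subgroup G} (hP : P ≠ ⊥) : ∃ u ∈ P, u ≠ 1 := by
  by_contra hcon
  push Not at hcon
  exact hP (Subgroup.eq_bot_iff_forall _ |>.2 hcon)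

theorem IsCIT.cent (h : IsCIT G) {P : Subgroup G} (hP : IsPGroup 2 P) (hP1 : P ≠ ⊥) :
    IsPGroup 2 (centralizer (P : Set G)) := by
  obtain ⟨u, hu, hu1⟩ := exists_mem_ne_one hP1
  refine (h.cent_of_mem hP hu hu1).to_le ?_
  intro y hy
  rw [mem_cent]
  exact ((mem_centralizer_iff.1 hy) u hu).symm

theorem odd_of_isPGroup {P : Subgroup G} (hP : IsPGroup 2 P) {y : G} (hy : y ∈ P)
    (hodd : Odd (orderOf y)) : y = 1 := by
  obtain ⟨k, hk⟩ := pow_two_of_isPGroup hP hy
  have h1 : orderOf y ∣ 2 ^ k := orderOf_dvd_of_pow_eq_one hk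
  have h2 : (orderOf y).Coprime (2 ^ k) := (Nat.coprime_two_right.2 hodd).pow_right k
  exact orderOf_eq_one_iff.1 (Nat.eq_one_of_dvd_coprimes h2 dvd_rfl h1)

/-- the basic property: an odd order element does not commute with a `2`-element. -/
theorem IsCIT.eq_one (h : IsCIT G) {P : Subgroup G} (hP : IsPGroup 2 P) {u y : G} (hu : u ∈ P)
    (hu1 : u ≠ 1) (hy : Odd (orderOf y)) (hc : Commute y u) : y = 1 :=
  odd_of_isPGroup (h.cent_of_mem hP hu hu1) (mem_cent.2 hc) hy

theorem IsCIT.eq_one' (h : IsCIT G) {u y : G} (hu : orderOf u = 2) (hy : Odd (orderOf y))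
    (hc : Commute y u) : y = 1 :=
  odd_of_isPGroup (h u hu) (mem_cent.2 hc) hy

theorem IsCIT.subgroup (h : IsCIT G) (H : Subgroup G) : IsCIT H := by
  intro t ht
  have h1 := h (t : G) (by rw [orderOf_coe]; exact ht)
  refine IsPGroup.of_injective h1
    (((H.subtype).comp (centralizer ({t} : Set H)).subtype).codRestrict _ ?_) ?_
  · intro x
    have := mem_cent.1 x.2
    exact mem_cent.2 (congrArg Subtype.val this)
  · intro x y hxy
    apply Subtype.ext; apply Subtype.ext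
    have := congrArg (fun z : (centralizer ({(t : G)} : Set G)) => (z : G)) hxy
    simpa using this

/-- odd part of an element -/
theorem exists_odd_lift [Finite G] {X : Type*} [Group X] (f : G →* X) (x : G)
    (hx : Odd (orderOf (f x))) : ∃ e : ℕ, Odd (orderOf (x ^ e)) ∧ f (x ^ e) = f x := by
  obtain ⟨a, m, hm, hn⟩ := Nat.exists_eq_two_pow_mul_odd (n := orderOf x) (orderOf_pos x).ne'
  have hco : (2 ^ a).Coprime m := (Nat.coprime_two_left.2 hm).pow_left a
  obtain ⟨e, he1, he2⟩ := Nat.chineseRemainder hco 0 1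
  refine ⟨e, ?_, ?_⟩
  · have h1 : (x ^ e) ^ m = 1 := by
      rw [← pow_mul]
      apply orderOf_dvd_iff_pow_eq_one.1
      rw [hn]
      exact Nat.mul_dvd_mul ((Nat.modEq_zero_iff_dvd).1 he1) dvd_rfl
    exact Odd.of_dvd_nat hm (orderOf_dvd_of_pow_eq_one h1)
  · rw [map_pow]
    have h1 : orderOf (f x) ∣ m := by
      have h2 : orderOf (f x) ∣ 2 ^ a * m := by rw [← hn]; exact orderOf_map_dvd f x
      exact (Nat.Coprime.dvd_mul_left ((Nat.coprime_two_right.2 hx).pow_right a)).1 h2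
    have h2 : e ≡ 1 [MOD orderOf (f x)] := he2.of_dvd h1
    have := pow_eq_pow_iff_modEq.2 h2
    simpa using this

theorem exists_odd_of_not [Finite G] {P : Subgroup G} (hP : ¬ IsPGroup 2 P) :
    ∃ y ∈ P, y ≠ 1 ∧ Odd (orderOf y) := by
  by_contra hcon
  push Not at hcon
  apply hP
  intro y
  obtain ⟨a, m, hm, hn⟩ := Nat.exists_eq_two_pow_mul_odd (n := orderOf (y : G)) (orderOf_pos _).ne'
  refine ⟨a, ?_⟩
  by_contra hne
  have h1 : (y : G) ^ 2 ^ a ≠ 1 := fun h => hne (Subtype.ext (by simpa using h))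
  apply hcon _ (P.pow_mem y.2 _) h1
  have h2 : ((y : G) ^ 2 ^ a) ^ m = 1 := by
    rw [← pow_mul, ← hn]; exact pow_orderOf_eq_one _
  exact Odd.of_dvd_nat hm (orderOf_dvd_of_pow_eq_one h2)

theorem coprime_card {P : Subgroup G} [Finite G] (hP : IsPGroup 2 P) {y : G}
    (hy : Odd (orderOf y)) : (orderOf y).Coprime (Nat.card P) := by
  haveI : Fact (Nat.Prime 2) := ⟨Nat.prime_two⟩
  obtain ⟨n, hn⟩ := (IsPGroup.iff_card).1 hP
  rw [hn]
  exact (Nat.coprime_two_right.2 hy).pow_right n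

/-- an odd order element fixing a coset `qD` of a `2`-group. -/
theorem IsCIT.mem_of_fixed_coset [Finite G] (h : IsCIT G) {Q D : Subgroup G} (hQ : IsPGroup 2 Q)
    (hD : D ≤ Q) {y : G} (hy : Odd (orderOf y)) (hy1 : y ≠ 1) (hyD : y ∈ normalizer (D : Set G))
    {q : G} (hq : q ∈ Q) (hf : q⁻¹ * (y * q * y⁻¹) ∈ D) : q ∈ D := by
  obtain ⟨d, hd, hqd⟩ := CoprimeGen.exists_mul_commute hyD (coprime_card (hQ.to_le hD) hy) hf
  by_contra hne
  apply hy1
  refine h.eq_one hQ (Q.mul_mem hq (hD hd)) ?_ hy ?_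
  · intro h1
    apply hne
    have : q = d⁻¹ := eq_inv_of_mul_eq_one_left h1
    rw [this]; exact D.inv_mem hd
  · exact (mem_cent.1 hqd).symm

theorem IsCIT.quotient [Finite G] (h : IsCIT G) (N : Subgroup G) [N.Normal]
    (hN : IsPGroup 2 N) : IsCIT (G ⧸ N) := by
  intro t' ht'
  by_contra hcon
  obtain ⟨y', hy', hy1, hyo⟩ := exists_odd_of_not hcon
  obtain ⟨t, rfl⟩ := QuotientGroup.mk'_surjective N t'
  obtain ⟨y, rfl⟩ := QuotientGroup.mk'_surjective N y'
  obtain ⟨e, he, hey⟩ := exists_odd_lift (QuotientGroup.mk' N) y hyo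
  rw [← hey] at hy' hy1
  set z := y ^ e with hz
  have h1 : t⁻¹ * (z * t * z⁻¹) ∈ N := by
    have h2 := mem_cent.1 hy'
    rw [← QuotientGroup.ker_mk' N, MonoidHom.mem_ker]
    simp only [map_mul, map_inv]
    rw [h2]; group
  obtain ⟨d, hd, hc⟩ := CoprimeGen.exists_mul_commute (D := N) (y := z) (k := t)
    (by rw [normalizer_eq_top_iff.2 inferInstance]; trivial) (coprime_card hN he) h1
  have h3 : QuotientGroup.mk' N (t * d) = QuotientGroup.mk' N t := by
    rw [map_mul, (QuotientGroup.eq_one_iff d).2 hd |> (show (QuotientGroup.mk' N d = 1) from ·), mul_one]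
  have h4 : t * d ≠ 1 := by
    intro h5
    rw [h5, map_one] at h3
    rw [← h3, orderOf_one] at ht'
    omega
  have h6 : (t * d) ^ 2 ∈ N := by
    rw [← QuotientGroup.ker_mk' N, MonoidHom.mem_ker, map_pow, h3, ← ht', pow_orderOf_eq_one]
  obtain ⟨k, hk⟩ := pow_two_of_isPGroup hN h6
  have h7 := h.cent_of_elem h4 (k := k + 1) (by rw [pow_succ', pow_mul]; exact hk)
  have h8 := odd_of_isPGroup h7 (mem_cent.2 (mem_cent.1 hc).symm) he
  apply hy1
  rw [h8, map_one]

end Cfsg.Agent.Lib.CIT
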