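import Mathlib
import Cfsg.Agent.Lib.SylowTools

set_option autoImplicit false

/-!
Thompson's transfer lemma by counting signs; fusing into the centre of a Sylow subgroup.
-/

namespace Cfsg.Agent.Lib.H55Thompson

variable {G : Type*} [Group G]

/-- An element `u` of square 1 without fixed points on the cosets of `H`, `|G : H| = 2 mod 4`,
lies outside a normal subgroup of index 2. -/
theorem exists_normal_index_two [Finite G] (H : Subgroup G) (u : G) (hu : u * u = 1)
    (hidx : H.index % 4 = 2) (hno : ∀ g : G, g⁻¹ * u * g ∉ H) :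
    ∃ M : Subgroup G, M.Normal ∧ M.index = 2 ∧ u ∉ M := by
  classical
  have : Fintype (G ⧸ H) := Fintype.ofFinite _
  set φ : G →* ℤˣ := Equiv.Perm.sign.comp (MulAction.toPermHom G (G ⧸ H)) with hφ
  have hsq : (MulAction.toPermHom G (G ⧸ H) u) ^ 2 = 1 := by
    rw [← map_pow, pow_two, hu, map_one]
  have hfix : Function.fixedPoints ⇑(MulAction.toPermHom G (G ⧸ H) u) = ∅ := by
    rw [Set.eq_empty_iff_forall_notMem]
    intro x
    induction x using QuotientGroup.induction_on with
    | H g =>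
      intro h
      apply hno g
      have h1 : ((u * g : G) : G ⧸ H) = (g : G ⧸ H) := h
      rw [eq_comm, QuotientGroup.eq] at h1
      rwa [← mul_assoc] at h1
  have hsup : Fintype.card (Function.fixedPoints ⇑(MulAction.toPermHom G (G ⧸ H) u)) = 0 := by
    rw [Fintype.card_eq_zero_iff, hfix]
    exact Set.isEmpty_coe_sort.2 rfl
  have h1 : φ u = -1 := by
    rw [hφ, MonoidHom.comp_apply, Equiv.Perm.sign_of_pow_two_eq_one hsq, hsup, Nat.sub_zero,
      ← Nat.card_eq_fintype_card]
    have h2 : Nat.card (G ⧸ H) % 4 = 2 := hidx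
    have h3 : Odd (Nat.card (G ⧸ H) / 2) := by
      rw [Nat.odd_iff]; omega
    exact h3.neg_one_pow
  refine ⟨φ.ker, inferInstance, ?_, ?_⟩
  · rw [Subgroup.index_ker]
    have : φ.range = ⊤ := by
      rw [eq_top_iff]
      intro x _
      rcases Int.units_eq_one_or x with rfl | rfl
      · exact one_mem _
      · exact ⟨u, h1⟩
    rw [this, Subgroup.card_top, Nat.card_eq_fintype_card]
    rfl
  · rw [MonoidHom.mem_ker, h1]
    decide

/-- Thompson's transfer lemma for nonabelian simple groups. -/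
theorem thompson_transfer [Finite G] [IsSimpleGroup G] (hG : ¬ IsMulCommutative G)
    (P : Sylow 2 G) (Q : Subgroup G) (hQ : Q ≤ P) (hidx : Q.relIndex (P : Subgroup G) = 2)
    (u : G) (hu : u * u = 1) : ∃ g : G, g⁻¹ * u * g ∈ Q := by
  by_contra hcon
  push Not at hcon
  have hidx' : Q.index % 4 = 2 := by
    have h1 := Subgroup.relIndex_mul_index hQ
    have h2 := P.not_dvd_index
    rw [hidx] at h1
    rw [← h1]
    omega
  obtain ⟨M, hM, hMi, hMu⟩ := exists_normal_index_two Q u hu hidx' hcon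
  rcases hM.eq_bot_or_eq_top with h | h
  · apply hG
    rw [h, Subgroup.index_bot] at hMi
    have : Fact (Nat.Prime 2) := ⟨Nat.prime_two⟩
    have := isCyclic_of_prime_card hMi
    exact ⟨⟨fun a b => by
      exact (IsCyclic.commGroup (α := G)).mul_comm a b⟩⟩
  · rw [h, Subgroup.index_top] at hMi
    omega

/-- If `c` is centralized by the Sylow subgroup `P`, an element `h` conjugating `b` to `c` may be chosen so
that it conjugates `C_P(b)` into `P`. -/
theorem exists_conj_into [Finite G] {p : ℕ} [Fact p.Prime] (P : Sylow p G) {b c h : G}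
    (hc : ∀ x ∈ P, x * c = c * x) (hh : h * b * h⁻¹ = c) :
    ∃ g : G, g * b * g⁻¹ = c ∧ ∀ x ∈ P, x * b = b * x → g * x * g⁻¹ ∈ P := by
  set K := Subgroup.centralizer ({c} : Set G) with hK
  have hPK : (P : Subgroup G) ≤ K := by
    intro x hx
    rw [hK, Subgroup.mem_centralizer_singleton_iff]
    exact hc x hx
  set D := ((P : Subgroup G) ⊓ Subgroup.centralizer ({b} : Set G)).map (MulAut.conj h).toMonoidHom with hD
  have hDp : IsPGroup p D := (P.2.to_le inf_le_left).map _
  have hDK : D ≤ K := by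
    rintro _ ⟨x, hx, rfl⟩
    have h1 : x * b = b * x := Subgroup.mem_centralizer_singleton_iff.1 hx.2
    rw [hK, Subgroup.mem_centralizer_singleton_iff]
    show h * x * h⁻¹ * c = c * (h * x * h⁻¹)
    rw [← hh]
    calc h * x * h⁻¹ * (h * b * h⁻¹) = h * (x * b) * h⁻¹ := by group
      _ = h * (b * x) * h⁻¹ := by rw [h1]
      _ = h * b * h⁻¹ * (h * x * h⁻¹) := by group
  obtain ⟨k, hk, hkD⟩ := Cfsg.Agent.Lib.SylowTools.conj_into_of_sylow_of_subgroup hPK P.2
    (Cfsg.Agent.Lib.SylowTools.not_dvd_relIndex_of_sylow P hPK) hDK hDp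
  refine ⟨k * h, ?_, ?_⟩
  · have h1 : k * c = c * k := Subgroup.mem_centralizer_singleton_iff.1 hk
    calc k * h * b * (k * h)⁻¹ = k * (h * b * h⁻¹) * k⁻¹ := by group
      _ = k * c * k⁻¹ := by rw [hh]
      _ = c := by rw [h1]; group
  · intro x hx hxb
    have := hkD (h * x * h⁻¹) ⟨x, ⟨hx, Subgroup.mem_centralizer_singleton_iff.2 hxb⟩, rfl⟩
    have h2 : k * h * x * (k * h)⁻¹ = k * (h * x * h⁻¹) * k⁻¹ := by group
    rw [h2]; exact this

/-- An element `n` normalizing the Sylow 2-subgroup `P` and swapping two elements commuting with `P`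
fixes them. -/
theorem no_swap [Finite G] (P : Sylow 2 G) {c d n : G}
    (hn : n ∈ Subgroup.normalizer ((P : Subgroup G) : Set G))
    (hc : ∀ x ∈ P, x * c = c * x)
    (h1 : n * c * n⁻¹ = d) (h2 : n * d * n⁻¹ = c) : c = d := by
  -- the order of `n` in `N(P)/P` is odd
  set N := Subgroup.normalizer ((P : Subgroup G) : Set G) with hN
  have hPN : (P : Subgroup G) ≤ N := Subgroup.le_normalizer
  have hnorm : ((P : Subgroup G).subgroupOf N).Normal := Subgroup.normal_in_normalizer
  have hodd : ¬ 2 ∣ ((P : Subgroup G).subgroupOf N).index :=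
    Cfsg.Agent.Lib.SylowTools.not_dvd_relIndex_of_sylow P hPN
  set m := ((P : Subgroup G).subgroupOf N).index with hm
  have hpow : n ^ m ∈ P := by
    have h3 : (((⟨n, hn⟩ : N) : N ⧸ (P : Subgroup G).subgroupOf N)) ^ m = 1 := by
      rw [hm, Subgroup.index]
      exact pow_card_eq_one'
    rw [← QuotientGroup.mk_pow, QuotientGroup.eq_one_iff, Subgroup.mem_subgroupOf] at h3
    exact h3
  have hmul : ∀ k : ℕ, n ^ (2 * k) * c * (n ^ (2 * k))⁻¹ = c := by
    intro k
    induction k with
    | zero => simp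
    | succ k ih =>
      have : n ^ (2 * (k + 1)) = n * n * n ^ (2 * k) := by
        rw [← pow_two, ← pow_add]; congr 1; ring
      rw [this]
      calc n * n * n ^ (2 * k) * c * (n * n * n ^ (2 * k))⁻¹
          = n * (n * (n ^ (2 * k) * c * (n ^ (2 * k))⁻¹) * n⁻¹) * n⁻¹ := by group
        _ = c := by rw [ih, h1, h2]
  obtain ⟨k, hk⟩ : Odd m := Nat.not_even_iff_odd.1 (fun h => hodd (even_iff_two_dvd.1 h))
  have h4 : n ^ m * c * (n ^ m)⁻¹ = d := by
    have : n ^ m = n * n ^ (2 * k) := by
      rw [hk, pow_succ']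
    rw [this]
    calc n * n ^ (2 * k) * c * (n * n ^ (2 * k))⁻¹ = n * (n ^ (2 * k) * c * (n ^ (2 * k))⁻¹) * n⁻¹ := by group
      _ = d := by rw [hmul, h1]
  have h5 := hc _ hpow
  rw [h5] at h4
  rw [← h4]; group

end Cfsg.Agent.Lib.H55Thompson
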