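import Cfsg.Agent.Lib.CITPlane
import Cfsg.Agent.Lib.H55Thompson

/-!
# CIT-groups (helper6): natural edges with `q = 4`: `T` is a Sylow subgroup
-/

set_option autoImplicit false
set_option linter.all false

namespace Cfsg.Agent.Lib.CIT

open Subgroup SylowRel StrongEmbPt

section big

variable {G : Type*} [Group G] [Finite G] {A B T S : Subgroup G}

theorem NatEdge.swap_of (N : NatEdge A B T 3) {R : Subgroup G} (hR : IsPGroup 2 R) (hTR : T ≤ R)
    {g : G} (hg : g ∈ R) (hgT : g ∉ T) (hgN : g ∈ NN T) : cj g A = B ∧ cj g B = A := by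
  have h1 := inf_NN_eq N.edge.sylA hR hTR
  have hgA : cj g A ≠ A := fun h => hgT (by
    rw [← h1]; exact ⟨hg, mem_normalizer_iff_cj.2 h⟩)
  have e1 : cj g A = B := by
    refine (N.eq_or ?_ (sq_cj N.sqA g) (by rw [card_cj, N.cardA])).resolve_left hgA
    rw [← mem_normalizer_iff_cj.1 hgN]; exact cj_mono N.A_le
  refine ⟨e1, ?_⟩
  refine (N.eq_or ?_ (sq_cj N.sqB g) (by rw [card_cj, N.symm.cardA])).resolve_right ?_
  · rw [← mem_normalizer_iff_cj.1 hgN]; exact cj_mono N.B_le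
  · intro h
    exact N.edge.ne (cj_inj.1 (e1.trans h.symm))

theorem NatEdge.relIndex_two (N : NatEdge A B T 3) {R : Subgroup G} (hR : IsPGroup 2 R) (hTR : T < R)
    (hRN : R ≤ NN T) : T.relIndex R = 2 := by
  have h1 := inf_NN_eq N.edge.sylA hR hTR.le
  obtain ⟨g, hg, hgT⟩ := SetLike.exists_of_lt hTR
  rw [Subgroup.relIndex, Subgroup.index_eq_two_iff]
  refine ⟨⟨g, hg⟩⁻¹, ?_⟩
  rintro ⟨x, hx⟩
  rw [mem_subgroupOf, mem_subgroupOf]
  change Xor' (x * g⁻¹ ∈ T) (x ∈ T)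
  by_cases hxT : x ∈ T
  · right
    refine ⟨hxT, fun h => hgT ?_⟩
    have : g = (x * g⁻¹)⁻¹ * x := by group
    rw [this]; exact mul_mem (inv_mem h) hxT
  · left
    refine ⟨?_, hxT⟩
    rw [← h1]
    refine mem_inf.2 ⟨mul_mem hx (inv_mem hg), ?_⟩
    rw [mem_normalizer_iff_cj, cj_mul]
    have h2 := (N.swap_of hR hTR.le hg hgT (hRN hg)).1
    have h3 := (N.swap_of hR hTR.le hx hxT (hRN hx)).2
    have h4 : cj g⁻¹ A = B := by
      have h5 := (N.swap_of hR hTR.le hg hgT (hRN hg)).2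
      rw [cj_eq_iff] at h5
      exact h5.symm
    rw [h4, h3]

/-- elementary abelian subgroups of order 16 lie in `T` -/
theorem NatEdge.le_of_ea (N : NatEdge A B T 3) {R X : Subgroup G} (hR : IsPGroup 2 R) (hTR : T < R)
    (hRN : R ≤ NN T) (hXR : X ≤ R) (hX2 : ∀ x ∈ X, x * x = 1) (hc : Nat.card X = 16) : X ≤ T := by
  by_contra hcon
  obtain ⟨x, hx, hxT⟩ := SetLike.not_le_iff_exists.1 hcon
  obtain ⟨e1, e2⟩ := N.swap_of hR hTR.le (hXR hx) hxT (hRN (hXR hx))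
  have hW : X ⊓ T ≤ zeta T := by
    intro y hy
    obtain ⟨hyX, hyT⟩ := mem_inf.1 hy
    have hxy : x * y * x⁻¹ = y := by
      rw [comm_of_sq hX2 x hx y hyX, mul_inv_cancel_right]
    rw [← N.inf]
    rcases N.mem_or hyT (hX2 y hyX) with h1 | h1
    · refine ⟨h1, ?_⟩
      have := conj_mem_cj (g := x) h1
      rwa [e1, hxy] at this
    · refine ⟨?_, h1⟩
      have := conj_mem_cj (g := x) h1
      rwa [e2, hxy] at this
  have h1 := card_mul_rel (inf_le_left : X ⊓ T ≤ X)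
  rw [inf_relIndex_left, hc] at h1
  have h2 : T.relIndex X ≤ 2 := by
    rw [← N.relIndex_two hR hTR hRN]
    exact relIndex_le_of_le_right hXR (by rw [N.relIndex_two hR hTR hRN]; norm_num)
  have h3 : Nat.card (X ⊓ T : Subgroup G) ≤ 4 := by
    have := Subgroup.card_le_of_le hW
    rwa [N.ffA.cardz] at this
  nlinarith

/-- structure of a Sylow subgroup above `T` -/
theorem NatEdge.S_le (N : NatEdge A B T 3) (hS : IsSyl 2 S ⊤) (hTS : T < S) : S ≤ NN T := by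
  set R := S ⊓ NN T with hR
  have hRp : IsPGroup 2 R := hS.isPGroup.to_le inf_le_left
  have hTR : T < R := by
    refine lt_of_le_of_ne (le_inf hTS.le le_normalizer) ?_
    intro h
    exact hTS.ne (eq_of_norm hS.isPGroup hTS.le h.ge).symm
  have h1 : S ⊓ NN R ≤ R := by
    intro s hs
    obtain ⟨hsS, hsR⟩ := mem_inf.1 hs
    refine mem_inf.2 ⟨hsS, ?_⟩
    have key : ∀ s ∈ NN R, cj s T ≤ T := by
      intro s hsR
      rw [← N.sup, cj_sup, N.sup]
      have hRs := mem_normalizer_iff_cj.1 hsR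
      refine sup_le ?_ ?_
      · refine N.le_of_ea hRp hTR inf_le_right ?_ (sq_cj N.sqA s) (by rw [card_cj, N.cardA]; norm_num)
        rw [← hRs]; exact cj_mono (N.A_le.trans hTR.le)
      · refine N.le_of_ea hRp hTR inf_le_right ?_ (sq_cj N.sqB s)
          (by rw [card_cj, N.symm.cardA]; norm_num)
        rw [← hRs]; exact cj_mono (N.B_le.trans hTR.le)
    rw [mem_normalizer_iff_cj]
    apply Subgroup.eq_of_le_of_card_ge (key s hsR)
    rw [card_cj]
  rw [eq_of_norm hS.isPGroup inf_le_left h1]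
  exact inf_le_right

theorem NatEdge.J_unique (N : NatEdge A B T 3) (hS : IsSyl 2 S ⊤) (hTS : T < S) {A' B' T' : Subgroup G}
    (N' : NatEdge A' B' T' 3) (hT'S : T' ≤ S) : T' = T := by
  have hSN := N.S_le hS hTS
  have h1 : T' ≤ T := by
    rw [← N'.sup]
    exact sup_le (N.le_of_ea hS.isPGroup hTS hSN (N'.A_le.trans hT'S) N'.sqA (by rw [N'.cardA]; norm_num))
      (N.le_of_ea hS.isPGroup hTS hSN (N'.B_le.trans hT'S) N'.sqB (by rw [N'.symm.cardA]; norm_num))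
  apply Subgroup.eq_of_le_of_card_ge h1
  rw [N.cardT, N'.cardT]

theorem NatEdge.exists_inv (hG : IsCIT G) (hP : P2 G) (N : NatEdge A B T 3) (hS : IsSyl 2 S ⊤)
    (hTS : T < S) : ∃ g ∈ S, g ∉ T ∧ g * g = 1 := by
  have hSN := N.S_le hS hTS
  have hidx := N.relIndex_two hS.isPGroup hTS hSN
  have hSyl : IsSyl 2 S (NN T) := hS.mono hSN le_top
  have hTp := hS.isPGroup.to_le hTS.le
  have hmemidx : ∀ x ∈ S, ∀ y ∈ S, x ∉ T → y ∉ T → x⁻¹ * y ∈ T := by
    intro x hx y hy hxT hyT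
    have h1 := (Subgroup.mul_mem_iff_of_index_two (H := T.subgroupOf S) hidx (a := ⟨x⁻¹, inv_mem hx⟩)
      (b := ⟨y, hy⟩)).2
    rw [mem_subgroupOf, mem_subgroupOf, mem_subgroupOf] at h1
    apply h1
    constructor
    · intro h; exact absurd (by simpa using h) hxT
    · intro h; exact absurd h hyT
  have hO : O2 (NN T) = T := by
    have h1 : T ≤ O2 (NN T) := NN_O2_ge hTp
    by_contra hne
    have h2 : O2 (NN T) ≤ S := O2_le_isSyl hSyl
    have h3 : O2 (NN T) = S := by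
      apply le_antisymm h2
      obtain ⟨x, hx, hxT⟩ := SetLike.exists_of_lt (lt_of_le_of_ne h1 (Ne.symm hne))
      intro y hy
      by_cases hyT : y ∈ T
      · exact h1 hyT
      · have := hmemidx x (h2 hx) y hy hxT hyT
        have h4 : y = x * (x⁻¹ * y) := by group
        rw [h4]; exact mul_mem hx (h1 this)
    have hex : ∃ k : G, k ∈ NN A ∧ k ∈ NN T ∧ k ∉ T := by
      by_contra hcon
      push Not at hcon
      have h1 := N.ffA.ldata.rel
      rw [relIndex_eq_one.2 (fun x hx => hcon x (mem_inf.1 hx).1 (mem_inf.1 hx).2)] at h1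
      omega
    obtain ⟨k, hkA, hkT, hknT⟩ := hex
    obtain ⟨hko, hk3⟩ := N.three_of_not_mem hG hkA hkT hknT
    have hkS : k ∈ NN S := by rw [← h3]; exact le_normalizer_O2 _ hkT
    obtain ⟨g, hg, hgT⟩ := SetLike.exists_of_lt hTS
    have hkg : k * g * k⁻¹ ∈ S := (mem_normalizer_iff.1 hkS g).1 hg
    have hkgT : k * g * k⁻¹ ∉ T := fun h => hgT ((mem_normalizer_iff.1 hkT g).2 h)
    apply hgT
    refine hG.mem_of_fixed_coset hS.isPGroup hTS.le hko ?_ hkT hg (hmemidx g hg _ hkg hgT hkgT)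
    rintro rfl; exact hknT (one_mem _)
  obtain ⟨t, ht, htT⟩ := SetLike.exists_of_lt hTS
  have htt : t * t ∈ T := by
    have := hmemidx t⁻¹ (inv_mem ht) t ht (fun h => htT (by simpa using h)) htT
    rwa [inv_inv] at this
  obtain ⟨y, -, -, -, q, hq, hqo, -⟩ := hG.exists_lift (L := NN T) (Q := T) le_normalizer hTp
    N.T_ne le_rfl (fun N' h1 h2 h3 => by
      have h4 := le_O2 h1 h2 h3
      rwa [hO] at h4) (hSN ht) htt htT
  refine ⟨t * q, mul_mem ht (hTS.le hq), fun h => htT ?_, mul_self hqo⟩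
  have : t = (t * q) * q⁻¹ := by group
  rw [this]; exact mul_mem h (inv_mem hq)

/-- the maximal pair argument -/
theorem NatEdge.isSyl [IsSimpleGroup G] (hna : ¬ IsMulCommutative G) (hG : IsCIT G) (hP : P2 G)
    (h3 : ∀ (A B T : Subgroup G) (n : ℕ), NatEdge A B T n → n = 3) (N : NatEdge A B T 3) :
    IsSyl 2 T ⊤ := by
  classical
  haveI : Fact (Nat.Prime 2) := ⟨Nat.prime_two⟩
  by_contra hnsyl
  obtain ⟨S, hS, hTS'⟩ := exists_isSyl N.edge.sylA.isPGroup (le_top : T ≤ ⊤)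
  have hTS : T < S := lt_of_le_of_ne hTS' (fun h => hnsyl (by rw [h]; exact hS))
  have hSN := N.S_le hS hTS
  obtain ⟨g, hgS, hgT, hgg⟩ := N.exists_inv hG hP hS hTS
  have hg1 : g ≠ 1 := by rintro rfl; exact hgT (one_mem _)
  -- every Sylow has a J
  let Jn : Subgroup G → Subgroup G → Prop := fun S T => IsSyl 2 S ⊤ ∧ T < S ∧
    ∃ A B, NatEdge A B T 3
  have hJcj : ∀ {S T : Subgroup G}, Jn S T → ∀ x : G, Jn (cj x S) (cj x T) := by
    rintro S T ⟨h1, h2, A, B, h4⟩ x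
    refine ⟨by have := h1.cj x; rwa [cj_top] at this, ?_, cj x A, cj x B, h4.conj hG hP x⟩
    exact lt_of_le_of_ne (cj_mono h2.le) (fun h => h2.ne (cj_inj.1 h))
  have hJ0 : Jn S T := ⟨hS, hTS, A, B, N⟩
  have hJex : ∀ S' : Subgroup G, IsSyl 2 S' ⊤ → ∃ T', Jn S' T' := by
    intro S' hS'
    obtain ⟨x, -, rfl⟩ := hS.exists_cj_eq hS'
    exact ⟨_, hJcj hJ0 x⟩
  have hJuniq : ∀ {S T T' : Subgroup G}, Jn S T → Jn S T' → T' = T := by
    rintro S T T' ⟨h1, h2, A, B, h4⟩ ⟨-, h2', A', B', h4'⟩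
    exact h4.J_unique h1 h2 h4' h2'.le
  -- g is conjugate into T
  obtain ⟨P, hPS⟩ := hS.exists_sylow_top
  obtain ⟨x, hx⟩ := H55Thompson.thompson_transfer hna P T (by rw [hPS]; exact hTS')
    (by rw [hPS]; exact N.relIndex_two hS.isPGroup hTS hSN) g hgg
  have hgx : g ∈ cj x T := mem_cj.2 hx
  obtain ⟨⟨S1, S2⟩, ⟨T1, T2, hJ1, hJ2, hgS1, hgT1, hgT2⟩, hmax⟩ := Set.exists_max_image
    {p : Subgroup G × Subgroup G | ∃ T1 T2, Jn p.1 T1 ∧ Jn p.2 T2 ∧ g ∈ p.1 ∧ g ∉ T1 ∧ g ∈ T2}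
    (fun p => Nat.card (p.1 ⊓ p.2 : Subgroup G)) (Set.toFinite _)
    ⟨(S, cj x S), T, cj x T, hJ0, hJcj hJ0 x, hgS, hgT, hgx⟩
  simp only at hJ1 hJ2 hgS1 hmax
  have hmax' : ∀ X Y TX TY : Subgroup G, Jn X TX → Jn Y TY → g ∈ X → g ∉ TX → g ∈ TY →
      Nat.card (X ⊓ Y : Subgroup G) ≤ Nat.card (S1 ⊓ S2 : Subgroup G) := by
    intro X Y TX TY h1 h2 h3 h4 h5
    exact hmax (X, Y) ⟨TX, TY, h1, h2, h3, h4, h5⟩
  set D := S1 ⊓ S2 with hD
  have hgS2 : g ∈ S2 := hJ2.2.1.le hgT2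
  have hgD : g ∈ D := mem_inf.2 ⟨hgS1, hgS2⟩
  have hD1 : D ≠ ⊥ := by
    intro h; rw [h, mem_bot] at hgD; exact hg1 hgD
  have hS12 : S1 ≠ S2 := by
    rintro rfl
    rw [hJuniq hJ1 hJ2] at hgT2
    exact hgT1 hgT2
  have hDp : IsPGroup 2 D := hJ1.1.isPGroup.to_le inf_le_left
  have hgrow : ∀ X Y : Subgroup G, IsSyl 2 X ⊤ → IsSyl 2 Y ⊤ → X ≠ Y → X ⊓ Y = D → D < X ⊓ NN D := by
    intro X Y hX hY hXY hXYD
    have hDX : D ≤ X := by rw [← hXYD]; exact inf_le_left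
    refine lt_of_le_of_ne (le_inf hDX le_normalizer) ?_
    intro h1
    have h2 := eq_of_norm hX.isPGroup hDX h1.ge
    apply hXY
    exact (hX.eq_of_le hY.isPGroup (by rw [h2, ← hXYD]; exact inf_le_right) le_top).symm
  have hg1' := hgrow S1 S2 hJ1.1 hJ2.1 hS12 rfl
  have hg2' := hgrow S2 S1 hJ2.1 hJ1.1 hS12.symm (by rw [inf_comm])
  obtain ⟨R, hR, hR1⟩ := exists_isSyl (hJ1.1.isPGroup.to_le (inf_le_left : S1 ⊓ NN D ≤ S1))
    (inf_le_right : S1 ⊓ NN D ≤ NN D)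
  obtain ⟨R', hR', hR1'⟩ := exists_isSyl (hJ2.1.isPGroup.to_le (inf_le_left : S2 ⊓ NN D ≤ S2))
    (inf_le_right : S2 ⊓ NN D ≤ NN D)
  obtain ⟨S3, hS3, hRS3⟩ := exists_isSyl hR.isPGroup (le_top : R ≤ ⊤)
  obtain ⟨S4, hS4, hRS4⟩ := exists_isSyl hR'.isPGroup (le_top : R' ≤ ⊤)
  obtain ⟨T3, hJ3⟩ := hJex S3 hS3
  obtain ⟨T4, hJ4⟩ := hJex S4 hS4
  have hDR : D ≤ R := hg1'.le.trans hR1
  have hDR' : D ≤ R' := hg2'.le.trans hR1'
  have hgS3 : g ∈ S3 := hRS3 (hDR hgD)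
  have hgS4 : g ∈ S4 := hRS4 (hDR' hgD)
  have hgT3 : g ∉ T3 := by
    intro h
    have h1 : S1 ⊓ NN D ≤ S1 ⊓ S3 := le_inf inf_le_left (hR1.trans hRS3)
    have h2 := hmax' S1 S3 T1 T3 hJ1 hJ3 hgS1 hgT1 h
    have h3 := lt_of_lt_of_le (card_lt_of_lt hg1') (Subgroup.card_le_of_le h1)
    omega
  have hgT4 : g ∈ T4 := by
    by_contra h
    have h1 : S2 ⊓ NN D ≤ S4 ⊓ S2 := le_inf (hR1'.trans hRS4) inf_le_left
    have h2 := hmax' S4 S2 T4 T2 hJ4 hJ2 hgS4 h hgT2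
    have h3 := lt_of_lt_of_le (card_lt_of_lt hg2') (Subgroup.card_le_of_le h1)
    omega
  have hDS : D ≤ S3 ⊓ S4 := le_inf (hDR.trans hRS3) (hDR'.trans hRS4)
  have hDeq : S3 ⊓ S4 = D :=
    (Subgroup.eq_of_le_of_card_ge hDS (hmax' S3 S4 T3 T4 hJ3 hJ4 hgS3 hgT3 hgT4)).symm
  have hRR' : R ≠ R' := by
    rintro rfl
    have h1 : R ≤ D := by rw [← hDeq]; exact le_inf hRS3 hRS4
    exact absurd (hR1.trans h1) (not_le_of_gt hg1')
  have hne_bot : ∀ X : Subgroup G, D ≤ X → X ≠ ⊥ := by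
    rintro X h1 rfl
    rw [le_bot_iff] at h1; exact hD1 h1
  have hO2D : O2 (NN D) ≠ ⊥ := hne_bot _ (NN_O2_ge hDp)
  have hO2D' : O2 (NN D) = D := by
    rw [← hP _ R R' hO2D hR hR' hRR']
    apply le_antisymm
    · rw [← hDeq]; exact inf_le_inf hRS3 hRS4
    · exact le_inf hDR hDR'
  have hLoc : Loc D := by
    refine ⟨hD1, hO2D', fun h1 => ?_⟩
    have h2 : R = D := h1.eq_of_le hR.isPGroup hDR hR.le
    rw [h2] at hR1
    exact absurd hR1 (not_le_of_gt hg1')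
  by_cases hRT : R = S3
  · -- D is normal in the Sylow subgroup S3
    subst hRT
    obtain ⟨-, hT3S3, A3, B3, N3⟩ := hJ3
    have hS3N := N3.S_le hS3 hT3S3
    have hT3not : ¬ T3 ≤ D := by
      intro h
      have hidx := N3.relIndex_two hS3.isPGroup hT3S3 hS3N
      have h5 : R ≤ D := by
        intro y hy
        by_cases hyT : y ∈ T3
        · exact h hyT
        · have h6 : g⁻¹ * y ∈ T3 := by
            have h1 := (Subgroup.mul_mem_iff_of_index_two (H := T3.subgroupOf R) hidx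
              (a := ⟨g⁻¹, inv_mem hgS3⟩) (b := ⟨y, hy⟩)).2
            rw [mem_subgroupOf, mem_subgroupOf, mem_subgroupOf] at h1
            apply h1
            constructor
            · intro h; exact absurd (by simpa using h) hgT3
            · intro h; exact absurd h hyT
          have h7 : y = g * (g⁻¹ * y) := by group
          rw [h7]; exact mul_mem hgD (h h6)
      have e : D = R := le_antisymm hDR h5
      have h8 := hR
      rw [← e] at h8
      exact hLoc.nsyl h8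
    have hT3ND : T3 ≤ NN D := hT3S3.le.trans hR.le
    by_cases hZ : zeta D ≤ T3
    · apply hT3not
      have hZW : zeta D ≤ zeta T3 := by
        intro z hz
        obtain ⟨hzD, hzz, hzc⟩ := mem_zeta.1 hz
        have hgz : g * z * g⁻¹ = z := by
          rw [← hzc g hgD, mul_inv_cancel_right]
        obtain ⟨e1, e2⟩ := N3.swap_of hS3.isPGroup hT3S3.le hgS3 hgT3 (hS3N hgS3)
        rw [← N3.inf]
        rcases N3.mem_or (hZ hz) hzz with h1 | h1
        · refine ⟨h1, ?_⟩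
          have := conj_mem_cj (g := g) h1
          rwa [e1, hgz] at this
        · refine ⟨?_, h1⟩
          have := conj_mem_cj (g := g) h1
          rwa [e2, hgz] at this
      intro t ht
      apply hLoc.mem_of_cent hG (hT3ND ht)
      intro z hz
      exact ((mem_zeta.1 (hZW hz)).2.2 t ht).symm
    · obtain ⟨z, hz, hzT⟩ := SetLike.not_le_iff_exists.1 hZ
      have hzS3 : z ∈ R := hDR (zeta_le D hz)
      obtain ⟨e1, e2⟩ := N3.swap_of hS3.isPGroup hT3S3.le hzS3 hzT (hS3N hzS3)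
      have hzz := (mem_zeta.1 hz).2.1
      have hzi : z⁻¹ = z := inv_eq_of_mul_eq_one_left hzz
      -- a ∈ A3 \ W3
      have hex : ∃ a ∈ A3, a ∉ zeta T3 := by
        by_contra hcon
        push Not at hcon
        have h5 : Nat.card A3 ≤ Nat.card (zeta T3) := Subgroup.card_le_of_le hcon
        rw [N3.cardA, N3.ffA.cardz] at h5
        omega
      obtain ⟨a, ha, haW⟩ := hex
      set b := z * a * z⁻¹ with hb
      have hbB : b ∈ B3 := by rw [← e1]; exact conj_mem_cj ha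
      have haS : a ∈ NN D := hT3ND (N3.A_le ha)
      have h1 : z * (a * z * a⁻¹) ∈ zeta D := mul_mem hz (zeta_conj haS hz)
      have h2 : z * (a * z * a⁻¹) = b * a⁻¹ := by rw [hb, hzi]; group
      have haa := N3.sqA a ha
      have hbb := N3.sqB b hbB
      have hai : a⁻¹ = a := inv_eq_of_mul_eq_one_left haa
      have hbi : b⁻¹ = b := inv_eq_of_mul_eq_one_left hbb
      rw [h2, hai] at h1
      have h3 := (mem_zeta.1 h1).2.1
      have h4 : a * b = b * a := by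
        have h5 : (b * a)⁻¹ = b * a := inv_eq_of_mul_eq_one_left h3
        rw [mul_inv_rev, hai, hbi] at h5
        exact h5
      by_cases hbA : b ∈ A3
      · apply haW
        have hbW : b ∈ zeta T3 := by rw [← N3.inf]; exact ⟨hbA, hbB⟩
        have h6 := zeta_conj_NT hbW (inv_mem (hS3N hzS3))
        have h7 : z⁻¹ * b * z⁻¹⁻¹ = a := by rw [hb]; group
        rwa [h7] at h6
      · exact haW (N3.cent (N3.B_le hbB) hbA ha h4)
  · have h1 : ¬ S3 ⊓ NN R ≤ R := fun h => hRT (eq_of_norm hS3.isPGroup hRS3 h).symm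
    obtain ⟨h, hh, hhR⟩ := SetLike.not_le_iff_exists.1 h1
    obtain ⟨hhS, hhN⟩ := mem_inf.1 hh
    obtain ⟨k, hk⟩ := pow_two_of_isPGroup hS3.isPGroup hhS
    have h2 : cj h D ≠ D := by
      intro h3
      exact hhR (mem_of_two hR (mem_normalizer_iff_cj.2 h3) hhN hk)
    have h5 : IsSyl 2 R (NN (cj h D)) := by
      have := syl_conj hR h
      rwa [mem_normalizer_iff_cj.1 hhN] at this
    have hE : Edge D (cj h D) R := ⟨hLoc, hLoc.conj_mem h, h2.symm, hR, h5⟩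
    obtain ⟨n, hn⟩ := hE.natural hG hP
    have hn3 := h3 _ _ _ _ hn
    subst hn3
    have h6 : R = T3 := hJuniq hJ3 ⟨hS3, lt_of_le_of_ne hRS3 hRT, _, _, hn⟩
    exact hgT3 (by rw [← h6]; exact hDR hgD)

end big

end Cfsg.Agent.Lib.CIT
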