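import Cfsg.Prelude
import Mathlib
import Cfsg.Agent.Lib.CITBig
import Cfsg.Agent.Lib.MaxClassCrit
import Cfsg.Agent.Lib.MaxClassNormal
import Cfsg.Agent.Lib.DSQ
import Cfsg.Agent.Lib.FocalTools
import Cfsg.Agent.Lib.BSQuat
import Cfsg.Agent.S0508

/-!
# CIT-groups (helper6): edges over the field of two elements give dihedral Sylow subgroups
-/

set_option autoImplicit false
set_option linter.all false

namespace Cfsg.Agent.Lib.CIT

open Subgroup SylowRel

section SD

variable {X : Type*} [Group X] [Finite X]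

theorem sd_struct {k : ℕ} (hc : Nat.card X = 2 ^ (k + 4)) {a b : X} (ha : orderOf a = 2 ^ (k + 3))
    (hb : orderOf b = 2) (hr : b * a * b⁻¹ = a ^ (2 ^ (k + 2) - 1)) :
    ∃ D C : Subgroup X, ∃ z : X, C.Normal ∧ z ∈ center X ∧ orderOf z = 2 ∧ D ≠ ⊤ ∧
      (∀ x y, x ∉ D → y ∉ D → x⁻¹ * y ∈ D) ∧
      (∀ x, x ∉ D → (x * x = z ∧ x ∉ C) ∨ x ^ (2 ^ (k + 2)) = z) ∧
      (∀ x ∈ D, x ^ (2 ^ (k + 2)) = 1 ∧ (x * x = 1 ∨ x ∈ C)) ∧
      (∀ x ∈ C, x * x ≠ 1 → (x * x) * (x * x) = 1 → x * x = z) := by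
  set C := zpowers a with hC
  set z := a ^ (2 ^ (k + 2)) with hz
  have hbb : b * b = 1 := by rw [← sq, ← hb, pow_orderOf_eq_one]
  have hbi : b⁻¹ = b := inv_eq_of_mul_eq_one_left hbb
  have hcC : Nat.card C = 2 ^ (k + 3) := by rw [hC, Nat.card_zpowers, ha]
  have hCi : C.index = 2 := by
    have h1 := C.card_mul_index
    rw [hcC, hc, pow_succ 2 (k + 3)] at h1
    exact Nat.eq_of_mul_eq_mul_left (by positivity) h1
  have hCn : C.Normal := normal_of_index_eq_two hCi
  have hzo : orderOf z = 2 := by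
    rw [hz, orderOf_pow_of_dvd (by positivity) (by rw [ha]; exact pow_dvd_pow 2 (by omega)), ha,
      Nat.pow_div (by omega) (by norm_num)]
    have : k + 3 - (k + 2) = 1 := by omega
    rw [this, pow_one]
  have hz1 : z ≠ 1 := by intro h; rw [h, orderOf_one] at hzo; norm_num at hzo
  have hzz : z * z = 1 := by rw [← sq, ← hzo, pow_orderOf_eq_one]
  obtain ⟨M, hM⟩ : ∃ M : ℤ, M = 2 ^ (k + 2) - 1 := ⟨_, rfl⟩
  have hp4 : 4 ≤ 2 ^ (k + 2) := by
    calc 4 = 2 ^ 2 := by norm_num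
      _ ≤ 2 ^ (k + 2) := Nat.pow_le_pow_right (by norm_num) (by omega)
  have hrM : b * a * b⁻¹ = a ^ M := by
    rw [hr, hM, ← zpow_natCast, Nat.cast_sub (by omega)]
    norm_cast
  have hrz : ∀ i : ℤ, b * a ^ i = a ^ (i * M) * b := by
    intro i
    have h1 : b * a ^ i * b⁻¹ = a ^ (i * M) := by
      rw [← conj_zpow, hrM, ← zpow_mul, mul_comm]
    rw [← h1]; group
  have haz : ∀ i : ℤ, a ^ i = 1 ↔ (2 ^ (k + 3) : ℤ) ∣ i := by
    intro i
    rw [← orderOf_dvd_iff_zpow_eq_one, ha]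
    norm_cast
  have hbC : b ∉ C := by
    intro h
    have h1 : b * a * b⁻¹ = a := by
      have h2 : Commute b a := by
        obtain ⟨j, hj⟩ := mem_zpowers_iff.1 h
        rw [← hj]; exact (Commute.refl a).zpow_left j
      rw [h2.eq]; group
    rw [hrM] at h1
    have h2 : a ^ (M - 1) = 1 := by rw [zpow_sub, h1, zpow_one, mul_inv_cancel]
    have h3 := (haz _).1 h2
    have h5 : (2 : ℤ) ^ (k + 3) = 2 * 2 ^ (k + 2) := by ring
    have h6 : (4 : ℤ) ≤ 2 ^ (k + 2) := by exact_mod_cast hp4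
    have h4 := Int.le_of_dvd (by rw [hM]; linarith) h3
    rw [hM, h5] at h4
    linarith
  have hcases : ∀ x : X, ∃ i : ℤ, x = a ^ i ∨ x = a ^ i * b := by
    intro x
    by_cases hx : x ∈ C
    · obtain ⟨i, hi⟩ := mem_zpowers_iff.1 hx
      exact ⟨i, Or.inl hi.symm⟩
    · have h1 : x * b⁻¹ ∈ C := by
        rw [mul_mem_iff_of_index_two hCi, inv_mem_iff]
        exact iff_of_false hx hbC
      obtain ⟨i, hi⟩ := mem_zpowers_iff.1 h1
      exact ⟨i, Or.inr (by rw [hi]; group)⟩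
  have habC : ∀ i : ℤ, a ^ i * b ∉ C := by
    intro i h
    apply hbC
    have := C.mul_mem (C.inv_mem (zpow_mem (mem_zpowers a) i)) h
    simpa using this
  have hsqb : ∀ i : ℤ, a ^ i * b * (a ^ i * b) = a ^ (i * 2 ^ (k + 2)) := by
    intro i
    calc a ^ i * b * (a ^ i * b) = a ^ i * (b * a ^ i) * b := by group
      _ = a ^ i * (a ^ (i * M) * b) * b := by rw [hrz]
      _ = a ^ i * a ^ (i * M) * (b * b) := by group
      _ = a ^ (i + i * M) := by rw [hbb, mul_one, zpow_add]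
      _ = _ := by rw [hM]; congr 1; ring
  have hzM : z = a ^ ((2 : ℤ) ^ (k + 2)) := by
    rw [hz, ← zpow_natCast]; norm_cast
  let D : Subgroup X :=
    { carrier := {x | ∃ i : ℤ, Even i ∧ (x = a ^ i ∨ x = a ^ i * b)}
      mul_mem' := by
        rintro x y ⟨i, hi, hx⟩ ⟨j, hj, hy⟩
        rcases hx with rfl | rfl <;> rcases hy with rfl | rfl
        · exact ⟨i + j, hi.add hj, Or.inl (by rw [zpow_add])⟩
        · exact ⟨i + j, hi.add hj, Or.inr (by rw [zpow_add]; group)⟩
        · refine ⟨i + j * M, hi.add (hj.mul_right _), Or.inr ?_⟩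
          rw [zpow_add, mul_assoc, hrz]; group
        · refine ⟨i + j * M, hi.add (hj.mul_right _), Or.inl ?_⟩
          calc a ^ i * b * (a ^ j * b) = a ^ i * (b * a ^ j) * b := by group
            _ = a ^ i * a ^ (j * M) * (b * b) := by rw [hrz]; group
            _ = _ := by rw [hbb, mul_one, zpow_add]
      one_mem' := ⟨0, by simp, Or.inl (by simp)⟩
      inv_mem' := by
        rintro x ⟨i, hi, rfl | rfl⟩
        · exact ⟨-i, hi.neg, Or.inl (by simp)⟩
        · refine ⟨-i * M, hi.neg.mul_right _, Or.inr ?_⟩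
          rw [← hrz, mul_inv_rev, hbi, zpow_neg] }
  have hD : ∀ x, x ∈ D ↔ ∃ i : ℤ, Even i ∧ (x = a ^ i ∨ x = a ^ i * b) := fun x => Iff.rfl
  have hnD : ∀ x, x ∉ D → ∃ i : ℤ, Odd i ∧ (x = a ^ i ∨ x = a ^ i * b) := by
    intro x hx
    obtain ⟨i, hi⟩ := hcases x
    refine ⟨i, ?_, hi⟩
    by_contra h
    rw [Int.not_odd_iff_even] at h
    exact hx ⟨i, h, hi⟩
  have hMo : Odd M := by
    rw [hM]
    refine Even.sub_odd ?_ odd_one
    rw [pow_succ]
    exact even_two.mul_left _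
  refine ⟨D, C, z, hCn, ?_, hzo, ?_, ?_, ?_, ?_, ?_⟩
  · rw [mem_center_iff]
    have hza : ∀ i : ℤ, a ^ i * z = z * a ^ i := by
      intro i
      rw [hzM, ← zpow_add, ← zpow_add, add_comm]
    have hzb : b * z = z * b := by
      rw [hzM, hrz]
      have h1 : a ^ ((2 : ℤ) ^ (k + 2) * M) = a ^ ((2 : ℤ) ^ (k + 2)) := by
        rw [← mul_inv_eq_one, ← zpow_neg, ← zpow_add, haz]
        obtain ⟨c, hc⟩ := hMo.sub_odd odd_one
        refine ⟨c, ?_⟩
        have : (2 : ℤ) ^ (k + 2) * M + - 2 ^ (k + 2) = 2 ^ (k + 2) * (M - 1) := by ring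
        rw [this, hc]; ring
      rw [h1]
    intro x
    obtain ⟨i, rfl | rfl⟩ := hcases x
    · exact hza i
    · rw [mul_assoc, hzb, ← mul_assoc, hza, mul_assoc]
  · intro h
    have h1 : a ∈ D := by rw [h]; exact mem_top _
    obtain ⟨i, hi, h2 | h2⟩ := (hD a).1 h1
    · have h3 : a ^ (i - 1) = 1 := by rw [zpow_sub, ← h2, zpow_one, mul_inv_cancel]
      rw [haz] at h3
      have h4 : (2 : ℤ) ∣ i - 1 := (Dvd.intro_left _ (by rw [pow_succ])).trans h3
      obtain ⟨c, hc⟩ := h4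
      obtain ⟨d, hd⟩ := hi
      omega
    · exact habC i (h2 ▸ mem_zpowers a)
  · intro x y hx hy
    obtain ⟨i, hi, hx⟩ := hnD x hx
    obtain ⟨j, hj, hy⟩ := hnD y hy
    rcases hx with rfl | rfl <;> rcases hy with rfl | rfl
    · exact ⟨-i + j, hi.neg.add_odd hj, Or.inl (by rw [zpow_add, zpow_neg])⟩
    · exact ⟨-i + j, hi.neg.add_odd hj, Or.inr (by rw [zpow_add, zpow_neg]; group)⟩
    · refine ⟨-i * M + j * M, (hi.neg.mul hMo).add_odd (hj.mul hMo), Or.inr ?_⟩
      rw [mul_inv_rev, hbi, ← zpow_neg, hrz, mul_assoc, hrz, zpow_add]; group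
    · refine ⟨-i * M + j * M, (hi.neg.mul hMo).add_odd (hj.mul hMo), Or.inl ?_⟩
      rw [mul_inv_rev, hbi, ← zpow_neg, hrz]
      calc a ^ (-i * M) * b * (a ^ j * b) = a ^ (-i * M) * (b * a ^ j) * b := by group
        _ = a ^ (-i * M) * a ^ (j * M) * (b * b) := by rw [hrz]; group
        _ = _ := by rw [hbb, mul_one, zpow_add]
  · intro x hx
    obtain ⟨i, ⟨c, hc⟩, hx | hx⟩ := hnD x hx
    · right
      rw [hx, ← zpow_natCast, ← zpow_mul, hzM, ← mul_inv_eq_one, ← zpow_neg, ← zpow_add, haz]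
      refine ⟨c, ?_⟩
      push_cast
      rw [hc]; ring
    · left
      rw [hx]
      refine ⟨?_, habC i⟩
      rw [hsqb, hzM, ← mul_inv_eq_one, ← zpow_neg, ← zpow_add, haz]
      refine ⟨c, ?_⟩
      rw [hc]; ring
  · intro x hx
    obtain ⟨i, ⟨c, hc⟩, hx | hx⟩ := hx
    · constructor
      · rw [hx, ← zpow_natCast, ← zpow_mul, haz]
        refine ⟨c, ?_⟩
        push_cast
        rw [hc]; ring
      · right; rw [hx]; exact zpow_mem (mem_zpowers a) i
    · have h1 : x * x = 1 := by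
        rw [hx, hsqb, haz]
        refine ⟨c, ?_⟩
        rw [hc]; ring
      refine ⟨?_, Or.inl h1⟩
      rw [pow_succ', pow_mul, sq, h1, one_pow]
  · intro x hx h1 h2
    obtain ⟨i, rfl⟩ := mem_zpowers_iff.1 hx
    rw [← zpow_add] at h1 h2 ⊢
    rw [← zpow_add, haz] at h2
    obtain ⟨c, hc⟩ := h2
    have h5 : (2 : ℤ) ^ (k + 3) = 2 * 2 ^ (k + 2) := by ring
    have h3 : i + i = 2 ^ (k + 2) * c := by
      rw [h5] at hc; linarith
    rw [ne_eq, haz, h3] at h1
    have hco : Odd c := by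
      by_contra hcon
      rw [Int.not_odd_iff_even] at hcon
      obtain ⟨d, hd⟩ := hcon
      apply h1
      exact ⟨d, by rw [hd]; ring⟩
    obtain ⟨d, hd⟩ := hco
    rw [h3, hzM, ← mul_inv_eq_one, ← zpow_neg, ← zpow_add, haz]
    exact ⟨d, by rw [hd]; ring⟩

end SD

variable {G : Type*} [Group G] [Finite G]

theorem NatEdge.dsq (hG : IsCIT G) {A B T S : Subgroup G} (N : NatEdge A B T 1) (hS : IsPGroup 2 S)
    (hTS : T ≤ S) : DSQ.IsDSQ S := by
  haveI : Fact (Nat.Prime 2) := ⟨Nat.prime_two⟩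
  have hAS : A ≤ S := N.A_le.trans hTS
  obtain ⟨m, hm⟩ := IsPGroup.iff_card.1 hS
  have h8 : 2 ^ 3 ≤ Nat.card S := by
    have h1 := Subgroup.card_le_of_le hTS
    rw [N.cardT] at h1
    simpa using h1
  have hm3 : 3 ≤ m := by
    rw [hm] at h8
    exact (Nat.pow_le_pow_iff_right (by norm_num)).1 h8
  have hcA : Nat.card (A.subgroupOf S) = 2 ^ 2 := by
    rw [Nat.card_congr (subgroupOfEquivOfLe hAS).toEquiv, N.cardA]
  have hcen : centralizer ((A.subgroupOf S : Subgroup S) : Set S) ≤ A.subgroupOf S := by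
    intro x hx
    rw [mem_subgroupOf]
    apply N.edge.locA.cent_le hG
    rw [mem_centralizer_iff] at hx ⊢
    intro y hy
    have := hx ⟨y, hAS hy⟩ hy
    exact congrArg Subtype.val this
  have hcl := MaxClassCrit.nilpotencyClass_of_self_centralizing (p := 2) m hm _ hcA hcen
  have h1 := MaxClassNormal.card_lcs (p := 2) hm3 hm hcl (i := 1) le_rfl (by omega)
  have h2 := (commutator S).card_mul_index
  have h3 : Nat.card (commutator S) = 2 ^ (m - 1 - 1) := h1
  rw [h3, hm] at h2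
  have h4 : 2 ^ m = 2 ^ (m - 1 - 1) * 2 ^ 2 := by rw [← pow_add]; congr 1; omega
  rw [h4] at h2
  have h5 := Nat.eq_of_mul_eq_mul_left (pow_pos (by norm_num) _) h2
  exact DSQ.dsq_of_index_four hm3 hm h5

theorem no_quat {A S : Subgroup G} (hAS : A ≤ S) (hA : Nat.card A = 4) (hA2 : ∀ x ∈ A, x * x = 1)
    {m : ℕ} (hm : 0 < m) (e : S ≃* QuaternionGroup m) : False := by
  obtain ⟨a, b, h⟩ := BSQuat.exists_isGQ hm e
  have h1 : A ≤ zpowers (a ^ m) := by
    intro x hx
    by_cases hx1 : x = 1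
    · rw [hx1]; exact one_mem _
    · rw [h.eq_z_of_orderOf (hAS hx) (orderOf_eq_prime (by rw [sq, hA2 x hx]) hx1)]
      exact mem_zpowers _
  have h2 := Subgroup.card_le_of_le h1
  rw [Nat.card_zpowers, h.orderOf_z, hA] at h2
  omega

theorem cent_eq_of_syl (hG : IsCIT G) (S : Sylow 2 G) {z : G} (hz : orderOf z = 2)
    (hS : ∀ s ∈ (S : Subgroup G), s * z = z * s) : centralizer ({z} : Set G) = S := by
  refine S.is_maximal' (hG z hz) ?_
  intro s hs
  exact mem_cent.2 (hS s hs)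

theorem no_semi [IsSimpleGroup G] (hna : ¬ IsMulCommutative G) (hG : IsCIT G) (S : Sylow 2 G) {k : ℕ}
    (hc : Nat.card S = 2 ^ (k + 4)) {a b : S} (ha : orderOf a = 2 ^ (k + 3))
    (hb : orderOf b = 2) (hr : b * a * b⁻¹ = a ^ (2 ^ (k + 2) - 1)) : False := by
  haveI : Fact (Nat.Prime 2) := ⟨Nat.prime_two⟩
  obtain ⟨D, C, z, hCn, hzc, hzo, hDt, h1, h2, h3, h4⟩ := sd_struct hc ha hb hr
  have hcz : centralizer ({(z : G)} : Set G) = S := by
    refine cent_eq_of_syl hG S (by rw [orderOf_coe]; exact hzo) ?_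
    intro s hs
    exact congrArg Subtype.val (mem_center_iff.1 hzc ⟨s, hs⟩)
  have hz1 : z ≠ 1 := by rintro rfl; rw [orderOf_one] at hzo; omega
  have hzz : z * z = 1 := by
    have := pow_orderOf_eq_one z
    rwa [hzo, sq] at this
  -- fusion preserves `D`
  have hfus : ∀ s t : S, s ∉ D → t ∈ D → ¬ IsConj (s : G) (t : G) := by
    intro s t hs ht hcj
    obtain ⟨g, hg⟩ := isConj_iff.1 hcj
    rcases h2 s hs with ⟨h5, h6⟩ | h5
    · have h7 : (t : G) * t = g * (z : G) * g⁻¹ := by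
        rw [← hg, ← h5]; push_cast; group
      have h8 : t * t ≠ 1 := by
        intro h9
        have h10 : (t : G) * t = 1 := by exact_mod_cast congrArg Subtype.val h9
        rw [h7, conj_eq_one_iff] at h10
        exact hz1 (Subtype.ext h10)
      have h9 : (t * t) * (t * t) = 1 := by
        apply Subtype.ext
        push_cast
        rw [h7]
        have : g * (z : G) * g⁻¹ * (g * z * g⁻¹) = g * ((z : G) * z) * g⁻¹ := by group
        rw [this]
        have h10 : (z : G) * z = 1 := by exact_mod_cast congrArg Subtype.val hzz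
        rw [h10]; simp
      have h10 : t ∈ C := ((h3 t ht).2).resolve_left h8
      have h11 : t * t = z := h4 t h10 h8 h9
      have h12 : (z : G) = g * (z : G) * g⁻¹ := by
        rw [← h7, ← h11]; push_cast; rfl
      have h13 : g ∈ (S : Subgroup G) := by
        rw [← hcz]
        apply mem_cent.2
        rw [eq_mul_inv_iff_mul_eq] at h12
        exact h12.symm
      apply h6
      have h14 : s = (⟨g, h13⟩ : S)⁻¹ * t * (⟨g, h13⟩ : S) := by
        apply Subtype.ext
        push_cast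
        rw [← hg]; group
      rw [h14]
      have := hCn.conj_mem t h10 (⟨g, h13⟩ : S)⁻¹
      simpa using this
    · have h6 := (h3 t ht).1
      have h7 : (s : G) ^ (2 ^ (k + 2)) = z := by exact_mod_cast congrArg Subtype.val h5
      have h8 : (t : G) ^ (2 ^ (k + 2)) = 1 := by exact_mod_cast congrArg Subtype.val h6
      rw [← hg, conj_pow, h7, conj_eq_one_iff] at h8
      exact hz1 (Subtype.ext h8)
  have hfoc : (S : Subgroup G).focalSubgroup ≤ D.map (S : Subgroup G).subtype := by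
    apply FocalTools.focal_le
    intro s hs t ht hst
    have key : (⟨s, hs⟩ : S)⁻¹ * ⟨t, ht⟩ ∈ D := by
      by_cases hsD : (⟨s, hs⟩ : S) ∈ D
      · by_cases htD : (⟨t, ht⟩ : S) ∈ D
        · exact D.mul_mem (D.inv_mem hsD) htD
        · exact absurd hst.symm (hfus _ _ htD hsD)
      · by_cases htD : (⟨t, ht⟩ : S) ∈ D
        · exact absurd hst (hfus _ _ hsD htD)
        · exact h1 _ _ hsD htD
    exact ⟨_, key, rfl⟩
  obtain ⟨K, hKn, hK1, hK2, -, hK4⟩ := FocalTools.exists_normal_of_focal_le S _ (map_subtype_le _) hfoc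
  rcases hKn.eq_bot_or_eq_top with hK | hK
  · apply hna
    rw [hK, le_bot_iff] at hK1
    exact ⟨⟨fun x y => by
      have h5 : x * y * x⁻¹ * y⁻¹ ∈ _root_.commutator G := by
        rw [_root_.commutator_def]
        exact Subgroup.commutator_mem_commutator (mem_top x) (mem_top y)
      rw [hK1, mem_bot] at h5
      calc x * y = (x * y * x⁻¹ * y⁻¹) * (y * x) := by group
        _ = y * x := by rw [h5, one_mul]⟩⟩
  · rw [hK, top_inf_eq] at hK2
    apply hDt
    rw [eq_top_iff]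
    rintro x -
    have h5 : (x : G) ∈ D.map (S : Subgroup G).subtype := by rw [← hK2]; exact x.2
    obtain ⟨y, hy, hyx⟩ := h5
    have : y = x := Subtype.ext hyx
    rwa [← this]

theorem NatEdge.psl2 [IsSimpleGroup G] (hna : ¬ IsMulCommutative G) (hG : IsCIT G) {A B T : Subgroup G}
    (N : NatEdge A B T 1) :
    ∃ (F : Type) (_ : Field F) (_ : Fintype F), Odd (Fintype.card F) ∧
      Nonempty (G ≃* Matrix.ProjectiveSpecialLinearGroup (Fin 2) F) := by
  haveI : Fact (Nat.Prime 2) := ⟨Nat.prime_two⟩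
  obtain ⟨S, hTS⟩ := N.edge.sylA.isPGroup.exists_le_sylow
  have hAS : A ≤ S := N.A_le.trans hTS
  rcases N.dsq hG S.isPGroup' hTS with ⟨k, ⟨e⟩⟩ | ⟨k, hc, a, b, ha, hb, hr⟩ | ⟨k, ⟨e⟩⟩
  · -- dihedral
    have hSb : (S : Subgroup G) ≠ ⊥ := by
      intro h
      have h1 := Subgroup.card_le_of_le hTS
      rw [N.cardT, h, Subgroup.card_bot] at h1
      norm_num at h1
    obtain ⟨t, htS, ht1⟩ := exists_mem_ne_one (zeta_ne_bot S.isPGroup' hSb)
    obtain ⟨h1, h2, h3⟩ := mem_zeta.1 htS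
    have hto : orderOf t = 2 := orderOf_eq_prime (by rw [sq]; first | exact h3 | exact h2) ht1
    have htZ : ∀ s ∈ (S : Subgroup G), s * t = t * s := by
      intro s hs
      first | exact (h2 s hs).symm | exact h2 s hs | exact (h3 s hs).symm | exact h3 s hs
    have hcz := cent_eq_of_syl hG S hto htZ
    have hO : (Cfsg.oddCore (Subgroup.centralizer ({t} : Set G))).map (Subgroup.centralizer ({t} : Set G)).subtype = ⊥ := by
      rw [Subgroup.map_eq_bot_iff]
      refine le_trans ?_ bot_le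
      refine sSup_le ?_
      rintro M ⟨hM, hM2⟩
      have h5 : IsPGroup 2 M := (hG t hto).to_subgroup M
      obtain ⟨n, hn⟩ := IsPGroup.iff_card.1 h5
      rw [hn] at hM2
      have h6 : n = 0 := by
        by_contra h7
        exact absurd ((Nat.coprime_pow_left_iff (Nat.pos_of_ne_zero h7) 2 2).1 hM2) (by norm_num)
      rw [h6, pow_zero] at hn
      exact (Subgroup.card_eq_one.1 hn).le
    refine Cfsg.Agent.S0508.result S (2 ^ (k + 2)) ?_ ⟨e⟩ t hto h1 htZ ⊥ hO.symm ?_ ?_ ?_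
    · calc 2 ≤ 2 ^ 2 := by norm_num
        _ ≤ 2 ^ (k + 2) := Nat.pow_le_pow_right (by norm_num) (by omega)
    · intro h; exact absurd rfl h
    · intro s hs _ y hy
      rw [mem_bot] at hy; rw [hy]; simp
    · intro Y hY hY1
      exact absurd (le_bot_iff.1 hY) hY1
  · exact (no_semi hna hG S hc ha hb hr).elim
  · exact (no_quat hAS (by rw [N.cardA]; norm_num) N.sqA (by positivity) e).elim

end Cfsg.Agent.Lib.CIT
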