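import Cfsg.Agent.Lib.CITFF

/-!
# CIT-groups (helper6): edges (pairs of 2-local subgroups with a common Sylow 2-subgroup) are natural
-/

set_option autoImplicit false
set_option linter.all false

namespace Cfsg.Agent.Lib.CIT

open Subgroup SylowRel StrongEmbPt

section edge

variable {G : Type*} [Group G] [Finite G]

structure Edge (A B T : Subgroup G) : Prop where
  locA : Loc A
  locB : Loc B
  ne : A ≠ B
  sylA : IsSyl 2 T (NN A)
  sylB : IsSyl 2 T (NN B)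

theorem Edge.symm {A B T : Subgroup G} (e : Edge A B T) : Edge B A T :=
  ⟨e.locB, e.locA, e.ne.symm, e.sylB, e.sylA⟩

theorem syl_conj {A T : Subgroup G} (h : IsSyl 2 T (NN A)) (g : G) :
    IsSyl 2 (cj g T) (NN (cj g A)) := by
  have := h.cj g
  rwa [NN, ← cj_normalizer]

theorem Edge.conj {A B T : Subgroup G} (e : Edge A B T) (g : G) :
    Edge (cj g A) (cj g B) (cj g T) :=
  ⟨e.locA.conj_mem g, e.locB.conj_mem g, fun h => e.ne (cj_inj.1 h), syl_conj e.sylA g,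
    syl_conj e.sylB g⟩

/-- normalizers grow -/
theorem eq_of_norm {P A : Subgroup G} (hP : IsPGroup 2 P) (hA : A ≤ P) (h : P ⊓ NN A ≤ A) : P = A := by
  haveI : Fact (Nat.Prime 2) := ⟨Nat.prime_two⟩
  have h1 : IsSyl 2 A (P ⊓ NN A) := ⟨le_inf hA le_normalizer, hP.to_le hA,
    fun Q hQ h1 h2 => le_antisymm (h2.trans h) h1⟩
  exact (isSyl_of_isSyl_normalizer hA h1).eq_of_le hP hA le_rfl

/-- a 2-subgroup `X ≥ T` of anything meets `N(A)` in `T` -/
theorem inf_NN_eq {A T X : Subgroup G} (hT : IsSyl 2 T (NN A)) (hX : IsPGroup 2 X) (h : T ≤ X) :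
    X ⊓ NN A = T :=
  hT.eq_of_le (hX.to_le inf_le_left) (le_inf h hT.le) inf_le_right

theorem Loc.O2_eq (hP : P2 G) {A T T₁ L : Subgroup G} (hA : Loc A) (hT : IsSyl 2 T (NN A))
    (hT₁ : IsSyl 2 T₁ (NN A)) (hne : T ≠ T₁) (hTL : T ≤ L) (hT₁L : T₁ ≤ L) (hO : O2 L ≠ ⊥) :
    O2 L = A := by
  obtain ⟨X, hX, hTX⟩ := exists_isSyl hT.isPGroup hTL
  obtain ⟨X₁, hX₁, hTX₁⟩ := exists_isSyl hT₁.isPGroup hT₁L
  have h1 := inf_NN_eq hT hX.isPGroup hTX
  have h2 := inf_NN_eq hT₁ hX₁.isPGroup hTX₁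
  have hXne : X ≠ X₁ := by
    rintro rfl
    exact hne (h1.symm.trans h2)
  have h3 := hP L X X₁ hO hX hX₁ hXne
  have h4 := hA.inf_eq hP hT hT₁ hne
  apply eq_of_norm (O2_isPGroup L)
  · rw [← h4, ← h3]
    exact inf_le_inf hTX hTX₁
  · calc O2 L ⊓ NN A = (X ⊓ NN A) ⊓ (X₁ ⊓ NN A) := by
          rw [← h3, inf_inf_inf_comm, inf_idem]
      _ = A := by rw [h1, h2, h4]
      _ ≤ A := le_rfl

theorem Loc.exists_syl_ne {A T : Subgroup G} (h : Loc A) (hT : IsSyl 2 T (NN A)) :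
    ∃ g ∈ NN A, cj g T ≠ T := by
  obtain ⟨g, hg, hgT⟩ := h.exists_ne hT
  exact ⟨g, hg, fun h1 => hgT (mem_normalizer_iff_cj.2 h1)⟩

/-- no common normal 2-subgroup -/
theorem Edge.cn (hP : P2 G) {A B T K : Subgroup G} (e : Edge A B T) (hK : IsPGroup 2 K)
    (hA : NN A ≤ NN K) (hB : NN B ≤ NN K) : K = ⊥ := by
  by_contra hK1
  have hO : O2 (NN K) ≠ ⊥ := by
    intro h
    have := le_O2 (le_normalizer : K ≤ NN K) hK le_rfl
    rw [h, le_bot_iff] at this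
    exact hK1 this
  obtain ⟨g, hg, hgT⟩ := e.locA.exists_syl_ne e.sylA
  obtain ⟨g', hg', hgT'⟩ := e.locB.exists_syl_ne e.sylB
  have h1 := e.locA.O2_eq hP e.sylA (e.sylA.cj_mem hg) hgT.symm (e.sylA.le.trans hA)
    ((e.sylA.cj_mem hg).le.trans hA) hO
  have h2 := e.locB.O2_eq hP e.sylB (e.sylB.cj_mem hg') hgT'.symm (e.sylB.le.trans hB)
    ((e.sylB.cj_mem hg').le.trans hB) hO
  exact e.ne (h1.symm.trans h2)

structure EdgeSys (E : Subgroup G → Subgroup G → Subgroup G → Prop) : Prop where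
  edge : ∀ {A B T}, E A B T → Edge A B T
  symm : ∀ {A B T}, E A B T → E B A T
  conj : ∀ {A B T}, E A B T → ∀ g : G, E (cj g A) (cj g B) (cj g T)

def W (E : Subgroup G → Subgroup G → Subgroup G → Prop) : ℕ → Subgroup G → Subgroup G → Prop
  | 0, A, C => A = C
  | n + 1, A, C => ∃ B T, E A B T ∧ W E n B C

theorem W_snoc {E : Subgroup G → Subgroup G → Subgroup G → Prop} {n : ℕ} {A C : Subgroup G} :
    W E (n + 1) A C ↔ ∃ B T, W E n A B ∧ E B C T := by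
  induction n generalizing A with
  | zero =>
    constructor
    · rintro ⟨B, T, h1, h2⟩
      have h2 : B = C := h2
      subst h2
      exact ⟨A, T, rfl, h1⟩
    · rintro ⟨B, T, h1, h2⟩
      have h1 : A = B := h1
      subst h1
      exact ⟨C, T, h2, rfl⟩
  | succ n ih =>
    constructor
    · rintro ⟨B, T, h1, h2⟩
      obtain ⟨B', T', h3, h4⟩ := ih.1 h2
      exact ⟨B', T', ⟨B, T, h1, h3⟩, h4⟩
    · rintro ⟨B, T, ⟨B', T', h1, h2⟩, h3⟩
      exact ⟨B', T', h1, ih.2 ⟨B, T, h2, h3⟩⟩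

variable {E : Subgroup G → Subgroup G → Subgroup G → Prop}

theorem EdgeSys.wsymm (hE : EdgeSys E) {n : ℕ} : ∀ {A C : Subgroup G}, W E n A C → W E n C A := by
  induction n with
  | zero => intro A C h; exact (show A = C from h).symm
  | succ n ih =>
    rintro A C ⟨B, T, h1, h2⟩
    exact W_snoc.2 ⟨B, T, ih h2, hE.symm h1⟩

theorem EdgeSys.wconj (hE : EdgeSys E) {n : ℕ} (g : G) :
    ∀ {A C : Subgroup G}, W E n A C → W E n (cj g A) (cj g C) := by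
  induction n with
  | zero => intro A C h; exact congrArg _ (show A = C from h)
  | succ n ih =>
    rintro A C ⟨B, T, h1, h2⟩
    exact ⟨cj g B, cj g T, hE.conj h1 g, ih h2⟩

theorem EdgeSys.exists_crit (hE : EdgeSys E) (hP : P2 G) {A B T : Subgroup G} (e : E A B T) :
    ∃ n A C, W E n A C ∧ ¬ zeta A ≤ C := by
  by_contra hcon
  push Not at hcon
  set K : Subgroup G := sInf {C | ∃ n, W E n A C} with hK
  have hAK : zeta A ≤ K := le_sInf (by rintro C ⟨n, hn⟩; exact hcon n A C hn)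
  have hKA : K ≤ A := sInf_le ⟨0, rfl⟩
  have hed := hE.edge e
  have hcj : ∀ g : G, (∀ C, (∃ n, W E n A C) → ∃ n, W E n A (cj g C)) → cj g⁻¹ K ≤ K := by
    intro g hg
    apply le_sInf
    rintro C hC
    rw [cj_le_iff, inv_inv]
    exact sInf_le (hg C hC)
  have hnorm : ∀ X : Subgroup G, (∀ g ∈ X, ∀ C, (∃ n, W E n A C) → ∃ n, W E n A (cj g C)) →
      X ≤ NN K := by
    intro X hX g hg
    rw [mem_normalizer_iff_cj]
    apply le_antisymm
    · have := hcj g⁻¹ (hX _ (inv_mem hg)); rwa [inv_inv] at this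
    · have := hcj g (hX _ hg)
      rwa [cj_le_iff, inv_inv] at this
  have h1 : NN A ≤ NN K := by
    apply hnorm
    rintro g hg C ⟨n, hn⟩
    have := hE.wconj g hn
    rw [mem_normalizer_iff_cj.1 hg] at this
    exact ⟨n, this⟩
  have h2 : NN B ≤ NN K := by
    apply hnorm
    rintro g hg C ⟨n, hn⟩
    have h3 := hE.wconj g hn
    have h4 := hE.conj e g
    rw [mem_normalizer_iff_cj.1 hg] at h4
    exact ⟨n + 2, B, T, e, cj g A, cj g T, hE.symm h4, h3⟩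
  have h3 := hed.cn hP (hed.locA.isPGroup.to_le hKA) h1 h2
  rw [h3, le_bot_iff] at hAK
  exact hed.locA.zeta_ne hAK

/-- the structure of a critical pair, one direction -/
theorem crit_aux (hG : IsCIT G) (hP : P2 G) {A0 A1 T1 Ab' Ab Tb : Subgroup G}
    (e1 : Edge A0 A1 T1) (e2 : Edge Ab' Ab Tb) (h1 : zeta A0 ≤ Ab') (h2 : zeta Ab ≤ A1)
    (hne : ¬ zeta A0 ≤ Ab) (hidx : A0.relIndex (zeta Ab) ≤ Ab.relIndex (zeta A0)) :
    ∃ n, FF A0 T1 n ∧ FF Ab Tb n ∧ A0.relIndex (zeta Ab) = n + 1 ∧ Ab.relIndex (zeta A0) = n + 1 := by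
  have hZ0Tb : zeta A0 ≤ Tb := h1.trans (e2.locA.le_syl e2.sylA)
  have hZbT1 : zeta Ab ≤ T1 := h2.trans (e1.locB.le_syl e1.sylB)
  obtain ⟨n0, hn0⟩ := e1.locA.lData hG hP e1.sylA
  obtain ⟨nb, hnb⟩ := e2.locB.lData hG hP e2.sylB
  have hC1 : zeta Ab ⊓ centralizer (zeta A0 : Set G) = zeta Ab ⊓ A0 := by
    apply le_antisymm
    · refine le_inf inf_le_left ?_
      intro x hx
      apply e1.locA.mem_of_cent hG (e1.sylA.le (hZbT1 hx.1))
      intro z hz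
      exact ((mem_centralizer_iff.1 hx.2) z hz).symm
    · refine le_inf inf_le_left ?_
      intro x hx
      rw [mem_centralizer_iff]
      intro z hz
      exact Loc.zeta_le_Z hz hx.2
  obtain ⟨hFb, hrb⟩ := e2.locB.ff hG e2.sylB hnb hZ0Tb (fun x hx => (mem_zeta.1 hx).2.1) hne
    (by rw [hC1, inf_relIndex_left]; exact hidx)
  obtain ⟨t, ht, htb⟩ := SetLike.not_le_iff_exists.1 hne
  have hC2 : zeta Ab ⊓ centralizer (zeta A0 : Set G) = zeta Tb := by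
    apply le_antisymm
    · intro z hz
      exact hFb.cent t (hZ0Tb ht) htb z hz.1 ((mem_centralizer_iff.1 hz.2) t ht).symm
    · intro z hz
      refine mem_inf.2 ⟨e2.locB.zeta_syl_le hG e2.sylB hz, mem_centralizer_iff.2 ?_⟩
      intro x hx
      exact ((mem_zeta.1 hz).2.2 x (hZ0Tb hx)).symm
  have hr0 : A0.relIndex (zeta Ab) = nb + 1 := by
    rw [← inf_relIndex_left, ← hC1, hC2]
    have h3 := card_mul_rel (e2.locB.zeta_syl_le hG e2.sylB)
    rw [hFb.cardz, hFb.cardZ, pow_two] at h3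
    exact Nat.eq_of_mul_eq_mul_left (Nat.succ_pos nb) h3
  have hnot : ¬ zeta Ab ≤ A0 := by
    intro h3
    rw [← relIndex_eq_one, hr0] at h3
    have := hnb.pos
    omega
  have hC3 : zeta A0 ⊓ centralizer (zeta Ab : Set G) = zeta A0 ⊓ Ab := by
    apply le_antisymm
    · refine le_inf inf_le_left ?_
      intro x hx
      apply e2.locB.mem_of_cent hG (e2.sylB.le (hZ0Tb hx.1))
      intro z hz
      exact ((mem_centralizer_iff.1 hx.2) z hz).symm
    · refine le_inf inf_le_left ?_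
      intro x hx
      rw [mem_centralizer_iff]
      intro z hz
      exact Loc.zeta_le_Z hz hx.2
  obtain ⟨hF0, hr1⟩ := e1.locA.ff hG e1.sylA hn0 hZbT1 (fun x hx => (mem_zeta.1 hx).2.1) hnot
    (by rw [hC3, inf_relIndex_left, hr0, hrb])
  have hnn : n0 = nb := by omega
  subst hnn
  exact ⟨n0, hF0, hFb, hr1, hrb⟩

theorem zeta_le_of_crit {A0 T1 Ab Tb : Subgroup G} {n : ℕ} (hF0 : FF A0 T1 n) (hFb : FF Ab Tb n)
    (hZ0Tb : zeta A0 ≤ Tb) (hZbT1 : zeta Ab ≤ T1) (hNb : Tb ≤ NN Ab)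
    (hnot : ¬ zeta Ab ≤ A0) : zeta T1 ≤ zeta Tb := by
  obtain ⟨t, ht, htb⟩ := SetLike.not_le_iff_exists.1 hnot
  intro c hc
  obtain ⟨z, hz, hzc⟩ := hF0.surj t (hZbT1 ht) htb c hc
  have h1 := hFb.comm z (hZ0Tb hz) t ht
  have hz1 : z⁻¹ = z := zeta_inv hz
  have ht1 : t⁻¹ = t := zeta_inv ht
  have h2 : z * t * z⁻¹ ∈ zeta Ab := zeta_conj (hNb (hZ0Tb hz)) ht
  have h3 := zeta_comm ht h2
  have h4 : c = t * (z * t * z⁻¹) := by
    rw [h3, ← hzc, hz1, ht1]; group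
  rw [h4]; exact h1

theorem sup_eq_of_crit {A0 T1 B : Subgroup G} {n : ℕ} (hF0 : FF A0 T1 n) (hA : A0 ≤ T1)
    (hN : T1 ≤ NN A0) (hB : B ≤ T1) (hr : A0.relIndex B = n + 1) : A0 ⊔ B = T1 := by
  apply Subgroup.eq_of_le_of_card_ge (sup_le hA hB)
  have h1 := SubgroupTools.card_sup_mul_card_inf (N := A0) (H := B) (hB.trans hN)
  have h2 := card_mul_rel (inf_le_left : B ⊓ A0 ≤ B)
  rw [inf_relIndex_left, hr] at h2
  rw [hF0.cardT]
  have h3 : 0 < Nat.card (A0 ⊓ B : Subgroup G) := Nat.card_pos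
  rw [inf_comm] at h2
  have h4 : Nat.card (A0 ⊓ B : Subgroup G) * Nat.card (A0 ⊔ B : Subgroup G) =
    Nat.card (A0 ⊓ B : Subgroup G) * (Nat.card A0 * (n + 1)) := by
    rw [mul_comm, h1, ← h2]; ring
  exact (Nat.eq_of_mul_eq_mul_left h3 h4).ge

structure Crit (A0 T1 Ab Tb : Subgroup G) (n : ℕ) : Prop where
  ff0 : FF A0 T1 n
  ffb : FF Ab Tb n
  sup0 : A0 ⊔ zeta Ab = T1
  supb : Ab ⊔ zeta A0 = Tb
  zeta_eq : zeta T1 = zeta Tb

theorem crit (hG : IsCIT G) (hP : P2 G) {A0 A1 T1 Ab' Ab Tb : Subgroup G}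
    (e1 : Edge A0 A1 T1) (e2 : Edge Ab' Ab Tb) (h1 : zeta A0 ≤ Ab') (h2 : zeta Ab ≤ A1)
    (hne : ¬ zeta A0 ≤ Ab) : ∃ n, Crit A0 T1 Ab Tb n := by
  have hZ0Tb : zeta A0 ≤ Tb := h1.trans (e2.locA.le_syl e2.sylA)
  have hZbT1 : zeta Ab ≤ T1 := h2.trans (e1.locB.le_syl e1.sylB)
  have hnot : ¬ zeta Ab ≤ A0 := by
    intro h3
    apply hne
    intro x hx
    apply e2.locB.mem_of_cent hG (e2.sylB.le (hZ0Tb hx))
    intro z hz
    exact Loc.zeta_le_Z hx (h3 hz)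
  have key : ∃ n, FF A0 T1 n ∧ FF Ab Tb n ∧ A0.relIndex (zeta Ab) = n + 1 ∧
      Ab.relIndex (zeta A0) = n + 1 := by
    rcases le_total (A0.relIndex (zeta Ab)) (Ab.relIndex (zeta A0)) with h3 | h3
    · exact crit_aux hG hP e1 e2 h1 h2 hne h3
    · obtain ⟨n, a, b, c, d⟩ := crit_aux hG hP e2.symm e1.symm h2 h1 hnot h3
      exact ⟨n, b, a, d, c⟩
  obtain ⟨n, a, b, c, d⟩ := key
  refine ⟨n, a, b, ?_, ?_, ?_⟩
  · exact sup_eq_of_crit a (e1.locA.le_syl e1.sylA) e1.sylA.le hZbT1 c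
  · exact sup_eq_of_crit b (e2.locB.le_syl e2.sylB) e2.sylB.le hZ0Tb d
  · exact le_antisymm (zeta_le_of_crit a b hZ0Tb hZbT1 e2.sylB.le hnot)
      (zeta_le_of_crit b a hZbT1 hZ0Tb e1.sylA.le hne)

end edge

end Cfsg.Agent.Lib.CIT
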