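import Cfsg.Agent.Lib.CITSuz
import Cfsg.Agent.Lib.SuzukiPart
import Cfsg.Agent.Lib.Burnside
import Cfsg.Agent.S0252
import Cfsg.Agent.S0253
import Cfsg.Agent.S0254

set_option autoImplicit false
set_option linter.all false

/-!
# CIT-groups (helper6): simple groups all of whose elements have prime power order
-/

namespace Cfsg.Agent.Lib.CIT

open Subgroup SylowRel StrongEmbPt

variable {G : Type*} [Group G]

theorem primePow_order_two {n r : ℕ} (hr : r.Prime) (hn : IsPrimePow n) (h : r ∣ n) : ∃ k, n = r ^ k := by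
  obtain ⟨p, k, hp, hk, rfl⟩ := hn
  have hp' : p.Prime := Nat.prime_iff.2 hp
  have := (Nat.prime_dvd_prime_iff_eq hr hp').1 (hr.dvd_of_dvd_pow h)
  exact ⟨k, by rw [this]⟩

/-- in an EPPO group the centralizer of an element of prime order `r` is an `r`-group -/
theorem eppo_cent [Finite G] (h : ∀ g : G, g ≠ 1 → IsPrimePow (orderOf g)) {x : G} {r : ℕ} (hr : r.Prime)
    (hx : orderOf x = r) : IsPGroup r (centralizer ({x} : Set G)) := by
  haveI : Fact r.Prime := ⟨hr⟩
  rw [IsPGroup.iff_orderOf]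
  rintro ⟨c, hc⟩
  rw [Subgroup.orderOf_mk]
  have hcx := mem_cent.1 hc
  by_cases hc1 : c = 1
  · exact ⟨0, by rw [hc1, orderOf_one, pow_zero]⟩
  by_cases hrc : r ∣ orderOf c
  · exact primePow_order_two hr (h c hc1) hrc
  exfalso
  have hco : Nat.Coprime (orderOf c) (orderOf x) := by
    rw [hx]
    exact (Nat.Coprime.symm ((Nat.Prime.coprime_iff_not_dvd hr).2 hrc))
  have h1 : orderOf (c * x) = orderOf c * orderOf x :=
    Commute.orderOf_mul_eq_mul_orderOf_of_coprime (show Commute c x from hcx) hco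
  have h2 : c * x ≠ 1 := by
    intro h2
    rw [h2, orderOf_one, hx] at h1
    have := Nat.eq_one_of_mul_eq_one_left h1.symm
    exact hr.one_lt.ne' this
  obtain ⟨k, hk⟩ := primePow_order_two hr (h _ h2) (by rw [h1, hx]; exact dvd_mul_left _ _)
  rw [h1, hx] at hk
  have h3 : orderOf c ∣ r ^ k := ⟨r, hk.symm⟩
  obtain ⟨j, -, hj⟩ := (Nat.dvd_prime_pow hr).1 h3
  rcases Nat.eq_zero_or_pos j with h0 | h0
  · rw [h0, pow_zero] at hj
    exact hc1 (orderOf_eq_one_iff.1 hj)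
  · exact hrc (by rw [hj]; exact dvd_pow_self r h0.ne')

theorem cit_of_eppo [Finite G] (h : ∀ g : G, g ≠ 1 → IsPrimePow (orderOf g)) : IsCIT G :=
  fun t ht => eppo_cent h Nat.prime_two ht

/-! ### number theory -/

theorem two_pow_mod_three (n : ℕ) : 2 ^ n % 3 = if Even n then 1 else 2 := by
  induction n with
  | zero => simp
  | succ n ih =>
    rw [pow_succ, Nat.mul_mod, ih]
    by_cases h : Even n
    · simp [h, Nat.even_add_one]
    · simp [h, Nat.even_add_one]

theorem three_pow_of {n : ℕ} (hn : IsPrimePow n) (h : 3 ∣ n) : ∃ k, 0 < k ∧ n = 3 ^ k := by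
  obtain ⟨k, hk⟩ := primePow_order_two Nat.prime_three hn h
  refine ⟨k, ?_, hk⟩
  rcases Nat.eq_zero_or_pos k with h0 | h0
  · rw [h0, pow_zero] at hk
    rw [hk] at hn
    exact absurd hn (not_isPrimePow_one)
  · exact h0

theorem num_sub {n : ℕ} (h : IsPrimePow (2 ^ n - 1)) (hn : Even n) : n = 2 := by
  have hn0 : n ≠ 0 := by rintro rfl; simp at h; exact not_isPrimePow_zero h
  have h3 : 3 ∣ 2 ^ n - 1 := by
    have := two_pow_mod_three n
    rw [if_pos hn] at this
    omega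
  obtain ⟨k, hk, hk'⟩ := three_pow_of h h3
  have h1 : 3 ^ k + 1 = 2 ^ n := by
    have : 0 < 2 ^ n := by positivity
    omega
  have h2 := eq_of_add Nat.prime_three (by norm_num) hk h1
  rw [h2] at h1
  have h4 : 2 ^ n = 2 ^ 2 := by rw [← h1]; norm_num
  exact Nat.pow_right_injective le_rfl h4

theorem num_add {n : ℕ} (h : IsPrimePow (2 ^ n + 1)) (hn : Odd n) : n = 1 ∨ n = 3 := by
  have h3 : 3 ∣ 2 ^ n + 1 := by
    have := two_pow_mod_three n
    rw [if_neg (Nat.not_even_iff_odd.2 hn)] at this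
    omega
  obtain ⟨k, hk, hk'⟩ := three_pow_of h h3
  rcases eq_of_sub Nat.prime_three (by norm_num) hk hk'.symm with h2 | h2
  · left
    rw [h2] at hk'
    have h4 : 2 ^ n = 2 ^ 1 := by omega
    exact Nat.pow_right_injective le_rfl h4
  · right
    rw [h2] at hk'
    have h4 : 2 ^ n = 2 ^ 3 := by omega
    exact Nat.pow_right_injective le_rfl h4

theorem num_suz {m b N : ℕ} (hm : 1 ≤ m) (hN : N = 2 ^ (2 * m + 1) + 2 ^ (m + 1) + 1 ∨ N + 2 ^ (m + 1) = 2 ^ (2 * m + 1) + 1)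
    (h : N = 5 ^ b) : m = 1 ∨ m = 2 := by
  by_contra hcon
  have hm3 : 3 ≤ m := by omega
  have hdvd : 2 ^ (m + 1) ∣ 5 ^ b - 1 := by
    have hq : 2 ^ (2 * m + 1) = 2 ^ m * 2 ^ (m + 1) := by rw [← pow_add]; congr 1; omega
    rcases hN with hN | hN
    · refine ⟨2 ^ m + 1, ?_⟩
      rw [← h, hN, hq, Nat.add_sub_cancel]; ring
    · refine ⟨2 ^ m - 1, ?_⟩
      rw [← h, Nat.mul_sub, mul_one]
      rw [hq] at hN
      have : 2 ^ m * 2 ^ (m + 1) = 2 ^ (m + 1) * 2 ^ m := mul_comm _ _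
      omega
  have hb0 : b ≠ 0 := by
    rintro rfl
    rw [pow_zero] at h
    have h1 : 2 ^ (m + 1) < 2 ^ (2 * m + 1) := Nat.pow_lt_pow_right (by norm_num) (by omega)
    have h2 : 0 < 2 ^ (m + 1) := by positivity
    omega
  have hNle : N < 2 ^ (2 * m + 2) := by
    have h1 : 2 ^ (m + 1) < 2 ^ (2 * m + 1) := Nat.pow_lt_pow_right (by norm_num) (by omega)
    have h2 : 2 ^ (2 * m + 2) = 2 * 2 ^ (2 * m + 1) := by ring
    omega
  have h16 : 2 ^ (3 + 1) ≤ 2 ^ (m + 1) := Nat.pow_le_pow_right (by norm_num) (by omega)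
  rcases Nat.even_or_odd b with hbe | hbo
  · have h1 : padicValNat 2 (5 ^ b - 1 ^ b) + 1 = padicValNat 2 (5 + 1) + padicValNat 2 (5 - 1) + padicValNat 2 b :=
      padicValNat.pow_two_sub_pow (by norm_num) (by norm_num) (by norm_num) hb0 hbe
    have h6 : padicValNat 2 6 = 1 := by
      have : (6 : ℕ) = 2 * 3 := by norm_num
      rw [this, padicValNat.mul (by norm_num) (by norm_num), padicValNat.self (by norm_num),
        padicValNat.eq_zero_of_not_dvd (by norm_num)]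
    have h4 : padicValNat 2 4 = 2 := by
      have : (4 : ℕ) = 2 ^ 2 := by norm_num
      rw [this, padicValNat.prime_pow]
    norm_num at h1
    rw [h6, h4] at h1
    have hpos : 5 ^ b - 1 ≠ 0 := by
      have : 5 ^ 1 ≤ 5 ^ b := Nat.pow_le_pow_right (by norm_num) (by omega)
      omega
    have h7 : m + 1 ≤ padicValNat 2 (5 ^ b - 1) := (padicValNat_dvd_iff_le hpos).1 hdvd
    have h8 : 2 ^ (m - 1) ∣ b := (padicValNat_dvd_iff_le hb0).2 (by omega)
    have h9 : 2 ^ (m - 1) ≤ b := Nat.le_of_dvd (by omega) h8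
    have h10 : 2 * m + 2 ≤ 2 ^ m := by
      obtain ⟨j, rfl⟩ : ∃ j, m = j + 3 := ⟨m - 3, by omega⟩
      clear * -
      induction j with
      | zero => norm_num
      | succ j ih =>
        have : 2 ^ (j + 1 + 3) = 2 * 2 ^ (j + 3) := by ring
        omega
    have h11 : 2 ^ (2 * m + 2) ≤ 5 ^ b := by
      calc 2 ^ (2 * m + 2) ≤ 2 ^ (2 ^ m) := Nat.pow_le_pow_right (by norm_num) h10
        _ = 2 ^ (2 * 2 ^ (m - 1)) := by
            congr 1
            rw [← pow_succ']; congr 1; omega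
        _ = 4 ^ (2 ^ (m - 1)) := by rw [pow_mul]; norm_num
        _ ≤ 5 ^ (2 ^ (m - 1)) := Nat.pow_le_pow_left (by norm_num) _
        _ ≤ 5 ^ b := Nat.pow_le_pow_right (by norm_num) h9
    omega
  · -- b odd: 5^b - 1 = 4 mod 8
    obtain ⟨c, rfl⟩ := hbo
    have h1 : 5 ^ (2 * c + 1) % 8 = 5 := by
      rw [pow_succ, pow_mul, Nat.mul_mod, Nat.pow_mod]; norm_num
    have h2 : 2 ^ (2 + 1) ∣ 5 ^ (2 * c + 1) - 1 := (pow_dvd_pow 2 (by omega)).trans hdvd
    have h3 : 1 ≤ 5 ^ (2 * c + 1) := Nat.one_le_pow _ _ (by norm_num)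
    have h4 : 2 ^ (2 + 1) = 8 := by norm_num
    rw [h4] at h2
    clear hdvd hNle
    generalize 5 ^ (2 * c + 1) = X at *
    omega

end Cfsg.Agent.Lib.CIT
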