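import Cfsg.Agent.Lib.CITEppo

set_option autoImplicit false
set_option linter.all false

/-!
# CIT-groups (helper6): simple groups all of whose elements have prime power order, part 2
-/

namespace Cfsg.Agent.Lib.CIT

open Subgroup SylowRel StrongEmbPt

theorem card_ge_four {G : Type*} [Group G] [Finite G] [IsSimpleGroup G] (hna : ¬ ∀ a b : G, a * b = b * a)
    {F : Type*} [Field F] [Fintype F] (e : G ≃* Matrix.ProjectiveSpecialLinearGroup (Fin 2) F) :
    4 ≤ Fintype.card F := by
  by_contra h4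
  have h1 : 1 < Fintype.card F := Fintype.one_lt_card
  have hns := not_solvable_of_simple hna
  have h2 : Fintype.card F = 2 ∨ Fintype.card F = 3 := by omega
  apply hns
  rcases h2 with h2 | h2
  · have h6 : Nat.card G = 2 ^ 1 * 3 ^ 1 := by
      rw [Nat.card_congr e.toEquiv]
      have h3 := ClSLn.card_PSL_formula (F := F) h2 2 (by norm_num)
      norm_num [Finset.prod_range_succ] at h3
      simpa using h3
    exact Burnside.isSolvable_of_card_eq _ 2 3 1 1 Nat.prime_two Nat.prime_three h6 rfl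
  · have h6 : Nat.card G = 2 ^ 2 * 3 ^ 1 := by
      rw [Nat.card_congr e.toEquiv]
      have h3 := ClSLn.card_PSL_formula (F := F) h2 2 (by norm_num)
      norm_num [Finset.prod_range_succ] at h3
      omega
    exact Burnside.isSolvable_of_card_eq _ 2 3 2 1 Nat.prime_two Nat.prime_three h6 rfl

theorem psl_eppo {F : Type*} [Field F] [Fintype F]
    (h : ∀ g : Matrix.ProjectiveSpecialLinearGroup (Fin 2) F, g ≠ 1 → IsPrimePow (orderOf g)) (h4 : 4 ≤ Fintype.card F)
    (hc : Fintype.card F = 9 ∨ (∃ n : ℕ, Fintype.card F = 2 ^ n) ∨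
          ((Fintype.card F).Prime ∧ ∃ k : ℕ, Fintype.card F = 2 ^ k + 1 ∨ Fintype.card F + 1 = 2 ^ k)) :
    Fintype.card F = 4 ∨ Fintype.card F = 5 ∨ Fintype.card F = 7 ∨ Fintype.card F = 8 ∨ Fintype.card F = 9 ∨
      Fintype.card F = 17 := by
  classical
  obtain ⟨p, hchar⟩ := CharP.exists F
  obtain ⟨f, hp, hpf⟩ := FiniteField.card F p
  haveI : Fact p.Prime := ⟨hp⟩
  have hspec := PSL2Orders.spectrum (F := F) p
  have key : ∀ m : ℕ, 1 < m → (m ∣ (Fintype.card F - 1) / Nat.gcd 2 (Fintype.card F - 1) ∨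
        m ∣ (Fintype.card F + 1) / Nat.gcd 2 (Fintype.card F - 1)) → IsPrimePow m := by
    intro m hm hd
    have h1 : m ∈ Set.range (orderOf : Matrix.ProjectiveSpecialLinearGroup (Fin 2) F → ℕ) := by
      rw [hspec]
      exact Or.inr hd
    obtain ⟨x, rfl⟩ := h1
    apply h
    rintro rfl
    rw [orderOf_one] at hm; omega
  rcases hc with hc | ⟨n, hn⟩ | ⟨hpr, k, hk⟩
  · omega
  · rw [hn] at key h4 ⊢
    have hn2 : 2 ≤ n := by
      by_contra hcon
      have : n = 0 ∨ n = 1 := by omega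
      rcases this with rfl | rfl <;> norm_num at h4
    have hev : Even (2 ^ n) := (Nat.even_pow' (by omega)).2 (by decide)
    have hg : Nat.gcd 2 (2 ^ n - 1) = 1 := by
      have : Odd (2 ^ n - 1) := Nat.Even.sub_odd (by omega) hev odd_one
      exact (Nat.coprime_two_left.2 this)
    rw [hg, Nat.div_one, Nat.div_one] at key
    rcases Nat.even_or_odd n with h | h
    · have := num_sub (key (2 ^ n - 1) (by omega) (Or.inl dvd_rfl)) h
      subst this
      norm_num
    · rcases num_add (key (2 ^ n + 1) (by omega) (Or.inr dvd_rfl)) h with h | h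
      · omega
      · subst h
        norm_num
  · have hodd : Odd (Fintype.card F) := hpr.odd_of_ne_two (by omega)
    have hg : Nat.gcd 2 (Fintype.card F - 1) = 2 := by
      obtain ⟨c, hc⟩ := hodd
      have : Fintype.card F - 1 = 2 * c := by omega
      rw [this]; simp
    rw [hg] at key
    have h3q : ¬ 3 ∣ Fintype.card F := by
      intro h3
      have := (Nat.prime_dvd_prime_iff_eq Nat.prime_three hpr).1 h3
      omega
    have hk0 : k ≠ 0 := by
      rintro rfl
      norm_num at hk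
      omega
    obtain ⟨j, rfl⟩ : ∃ j, k = j + 1 := ⟨k - 1, by omega⟩
    have hmod := two_pow_mod_three (j + 1)
    rw [pow_succ] at hk hmod
    rcases hk with hk | hk
    · have hjo : Odd j := by
        by_contra hj
        rw [Nat.not_odd_iff_even] at hj
        rw [if_neg (by rw [Nat.even_add_one]; simpa using hj)] at hmod
        apply h3q
        omega
      have h5 : (Fintype.card F + 1) / 2 = 2 ^ j + 1 := by omega
      rw [h5] at key
      have h0 : 0 < 2 ^ j := by positivity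
      rcases num_add (key (2 ^ j + 1) (by omega) (Or.inr dvd_rfl)) hjo with h | h
      · subst h; norm_num at hk; omega
      · subst h; norm_num at hk; omega
    · have hje : Even j := by
        by_contra hj
        rw [if_pos (by rw [Nat.even_add_one]; exact hj)] at hmod
        apply h3q
        omega
      have h5 : (Fintype.card F - 1) / 2 = 2 ^ j - 1 := by omega
      rw [h5] at key
      have := num_sub (key (2 ^ j - 1) (by omega) (Or.inl dvd_rfl)) hje
      subst this
      norm_num at hk; omega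

theorem suz_eppo {F : Type*} [Field F] [Fintype F] {m : ℕ} (hm : 1 ≤ m) (hF : Fintype.card F = 2 ^ (2 * m + 1))
    (h : ∀ g : Cfsg.Sz F m, g ≠ 1 → IsPrimePow (orderOf g)) : m = 1 ∨ m = 2 := by
  have hchar : CharP F 2 := SuzukiFin.charTwo hF
  have hθ := SuzukiFin.th_sq hF
  have hne := SuzukiFin.th_ne hm hF
  have hF' : Nat.card F = 2 ^ (2 * m + 1) := by rw [Nat.card_eq_fintype_card, hF]
  obtain ⟨x, y, hx, hy, -, -, -, -, h1, h2⟩ := SuzukiTori.two_classes (SuzukiFin.th F m) hθ hne hm hF'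
  have heq := SuzukiFin.Sz_eq (F := F) m
  have h' : ∀ g : SuzukiOvoid.Gz (SuzukiFin.th F m), g ≠ 1 → IsPrimePow (orderOf g) := by
    intro g hg
    let e : Cfsg.Sz F m ≃* SuzukiOvoid.Gz (SuzukiFin.th F m) := MulEquiv.subgroupCongr heq
    have h2 := h (e.symm g) (fun h3 => hg (by simpa using h3))
    rwa [MulEquiv.orderOf_eq] at h2
  have key : ∀ x : SuzukiOvoid.Gz (SuzukiFin.th F m), SuzukiNoFix.NoFix (SuzukiFin.th F m) x →
      5 ∣ Nat.card (Subgroup.centralizer {x}) → ∃ b, Nat.card (Subgroup.centralizer {x}) = 5 ^ b := by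
    intro x hx h5
    haveI : Fact (Nat.Prime 5) := ⟨by norm_num⟩
    obtain ⟨⟨z, hz⟩, hz5⟩ := exists_prime_orderOf_dvd_card' 5 h5
    rw [Subgroup.orderOf_mk] at hz5
    have hz1 : z ≠ 1 := by rintro rfl; rw [orderOf_one] at hz5; omega
    have h3 := SuzukiNoFix.NoFix.centralizer_eq (SuzukiFin.th F m) hθ hne hx
      (Subgroup.mem_centralizer_singleton_iff.mp hz).symm hz1
    rw [← h3]
    exact (eppo_cent h' (by norm_num) hz5).exists_card_eq
  have h5 : 5 ∣ Nat.card (Subgroup.centralizer {x}) ∨ 5 ∣ Nat.card (Subgroup.centralizer {y}) := by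
    have h5p : Nat.Prime 5 := by norm_num
    rw [← h5p.dvd_mul]
    have e1 : Nat.card (Subgroup.centralizer {x}) * Nat.card (Subgroup.centralizer {y}) = (2 ^ (2 * m + 1)) ^ 2 + 1 := by
      have hr : (2 ^ (m + 1)) ^ 2 = 2 * 2 ^ (2 * m + 1) := by ring
      obtain ⟨b, hb⟩ : ∃ b, b = Nat.card (Subgroup.centralizer {y}) := ⟨_, rfl⟩
      rw [h1, ← hb]
      rw [← hb] at h2
      generalize 2 ^ (2 * m + 1) = q at *
      generalize 2 ^ (m + 1) = r at *
      have h6 : (q : ℤ) + 1 - r = b := by omega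
      have h7 : ((r : ℤ)) ^ 2 = 2 * q := by exact_mod_cast hr
      have h8 : (((q + r + 1) * b : ℕ) : ℤ) = ((q ^ 2 + 1 : ℕ) : ℤ) := by
        push_cast
        rw [← h6]
        linear_combination -h7
      exact_mod_cast h8
    rw [e1]
    have : (2 ^ (2 * m + 1)) ^ 2 % 5 = 4 := by
      have e2 : (2 ^ (2 * m + 1)) ^ 2 = 16 ^ m * 4 := by
        rw [← pow_mul, show (2 * m + 1) * 2 = 4 * m + 2 by ring, pow_add, pow_mul]; norm_num
      rw [e2, Nat.mul_mod, Nat.pow_mod]; norm_num
    omega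
  rcases h5 with h5 | h5
  · obtain ⟨b, hb⟩ := key x hx h5
    exact num_suz hm (Or.inl h1) hb
  · obtain ⟨b, hb⟩ := key y hy h5
    exact num_suz hm (Or.inr h2) hb

/-- **simple groups all of whose elements have prime power order** -/
theorem eppo_simple {G : Type*} [Group G] [Finite G] [IsSimpleGroup G] (hna : ¬ ∀ a b : G, a * b = b * a)
    (h : ∀ g : G, g ≠ 1 → IsPrimePow (orderOf g)) :
    (∃ (F : Type) (_ : Field F) (_ : Fintype F), Fintype.card F ∈ ({4, 7, 8, 9, 17} : Finset ℕ) ∧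
      Nonempty (G ≃* Matrix.ProjectiveSpecialLinearGroup (Fin 2) F)) ∨
    (∃ (F : Type) (_ : Field F) (_ : Fintype F), Fintype.card F = 4 ∧
      Nonempty (G ≃* Matrix.ProjectiveSpecialLinearGroup (Fin 3) F)) ∨
    (∃ (F : Type) (_ : Field F) (_ : Fintype F),
      (Fintype.card F = 8 ∧ Nonempty (G ≃* ↥(Cfsg.Lie.Sz F 4))) ∨ (Fintype.card F = 32 ∧ Nonempty (G ≃* ↥(Cfsg.Lie.Sz F 8)))) := by
  classical
  have hcit := cit_of_eppo h
  rcases main_iso hna hcit with ⟨F, i1, i2, hc, ⟨e⟩⟩ | h1 | h1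
  · left
    have h' : ∀ g : Matrix.ProjectiveSpecialLinearGroup (Fin 2) F, g ≠ 1 → IsPrimePow (orderOf g) := by
      intro g hg
      have h2 := h (e.symm g) (fun h3 => hg (by simpa using h3))
      rwa [MulEquiv.orderOf_eq] at h2
    have h4 := card_ge_four hna e
    rcases psl_eppo h' h4 hc with h | h | h | h | h | h
    · exact ⟨F, i1, i2, by simp [h], ⟨e⟩⟩
    · -- PSL2(5) = PSL2(4)
      obtain ⟨e1⟩ := Cfsg.Agent.S0253.result (F := F) h
      have hF : Nat.card (GaloisField 2 2) = 4 := by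
        rw [GaloisField.card 2 2 (by norm_num)]; norm_num
      haveI : Fintype (GaloisField 2 2) := Fintype.ofFinite _
      have hF' : Fintype.card (GaloisField 2 2) = 4 := by rw [← Nat.card_eq_fintype_card, hF]
      obtain ⟨e2⟩ := Cfsg.Agent.S0252.result (F := GaloisField 2 2) hF'
      exact ⟨GaloisField 2 2, inferInstance, inferInstance, by simp [hF'], ⟨(e.trans e1).trans e2.symm⟩⟩
    · exact ⟨F, i1, i2, by simp [h], ⟨e⟩⟩
    · exact ⟨F, i1, i2, by simp [h], ⟨e⟩⟩
    · exact ⟨F, i1, i2, by simp [h], ⟨e⟩⟩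
    · exact ⟨F, i1, i2, by simp [h], ⟨e⟩⟩
  · exact Or.inr (Or.inl h1)
  · right; right
    obtain ⟨F, i1, i2, m, hm, hF, ⟨e⟩⟩ := SuzukiLie.isoSuzuki_iff.1 h1
    have hm' := suz_eppo hm hF (by
      intro g hg
      have h2 := h (e.symm g) (fun h3 => hg (by simpa using h3))
      rwa [MulEquiv.orderOf_eq] at h2)
    have hchar : CharP F 2 := SuzukiFin.charTwo hF
    have e2 := SuzukiLie.szEquiv (F := F) m hm hF
    refine ⟨F, i1, i2, ?_⟩
    rcases hm' with rfl | rfl
    · left
      exact ⟨by rw [hF]; norm_num, ⟨e.trans e2⟩⟩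
    · right
      exact ⟨by rw [hF]; norm_num, ⟨e.trans e2⟩⟩

end Cfsg.Agent.Lib.CIT
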