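import Cfsg.Agent.Lib.FrobCType
import Cfsg.Agent.Lib.FrobAction2
import Cfsg.Agent.Lib.FrobAction3
import Cfsg.Agent.Lib.HallPi
import Cfsg.Agent.Lib.H70Basic2

set_option autoImplicit false

/-!
Groups in which every element has prime power order.
-/

namespace Cfsg.Agent.Lib.EPPO

open Subgroup Cfsg

universe u

/-- every nontrivial element has prime power order -/
def IsEPPO (G : Type u) [Group G] : Prop := ∀ g : G, g ≠ 1 → IsPrimePow (orderOf g)

theorem not_isPrimePow_mul {p q : ℕ} (hp : p.Prime) (hq : q.Prime) (hpq : p ≠ q) : ¬ IsPrimePow (p * q) := by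
  intro h
  rw [isPrimePow_nat_iff] at h
  obtain ⟨r, k, hr, _, hk⟩ := h
  have h1 : p = r := (Nat.prime_dvd_prime_iff_eq hp hr).1 (hp.dvd_of_dvd_pow (hk ▸ Dvd.intro _ rfl))
  have h2 : q = r := (Nat.prime_dvd_prime_iff_eq hq hr).1 (hq.dvd_of_dvd_pow (hk ▸ Dvd.intro_left _ rfl))
  exact hpq (h1.trans h2.symm)

theorem no_mixed {G : Type u} [Group G] (hE : IsEPPO G) {p q : ℕ} (hp : p.Prime) (hq : q.Prime) (hpq : p ≠ q)
    {x y : G} (hxy : Commute x y) (hx : orderOf x = p) (hy : orderOf y = q) : False := by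
  have hcop : (orderOf x).Coprime (orderOf y) := by rw [hx, hy]; exact (Nat.coprime_primes hp hq).2 hpq
  have h1 := hxy.orderOf_mul_eq_mul_orderOf_of_coprime hcop
  rw [hx, hy] at h1
  have h2 : x * y ≠ 1 := by
    intro h
    rw [h, orderOf_one] at h1
    have := hp.two_le
    have := hq.two_le
    nlinarith
  have h3 := hE _ h2
  rw [h1] at h3
  exact not_isPrimePow_mul hp hq hpq h3

theorem IsEPPO.subgroup {G : Type u} [Group G] (hE : IsEPPO G) (H : Subgroup G) : IsEPPO H := by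
  intro g hg
  rw [← Subgroup.orderOf_coe]
  exact hE g (fun h => hg (Subtype.ext h))

theorem IsEPPO.quotient {G : Type u} [Group G] [Finite G] (hE : IsEPPO G) (N : Subgroup G) [N.Normal] :
    IsEPPO (G ⧸ N) := by
  intro g hg
  obtain ⟨x, rfl⟩ := QuotientGroup.mk_surjective g
  have hx : x ≠ 1 := by rintro rfl; exact hg rfl
  have h1 : orderOf (QuotientGroup.mk' N x) ∣ orderOf x := orderOf_map_dvd _ _
  refine (hE x hx).dvd h1 ?_
  rw [Ne, orderOf_eq_one_iff]
  exact hg

/-- a solvable group acting fixed-point-freely all of whose elements have prime power order is a `q`-group -/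
theorem isPGroup_of_fpf {L V : Type u} [Group L] [Finite L] [Group.IsSolvable L] [CommGroup V] [Finite V]
    [Nontrivial V] {act : L →* MulAut V} (hf : FrobAction.IsFPF act) (hE : IsEPPO L) {q r : ℕ} (hq : q.Prime)
    (hr : r.Prime) (hqr : q ≠ r) (hqL : q ∣ Nat.card L) (hrL : r ∣ Nat.card L) : False := by
  classical
  have hnt : Nontrivial L := by
    rw [← Finite.one_lt_card_iff_nontrivial]
    exact lt_of_lt_of_le hq.one_lt (Nat.le_of_dvd Nat.card_pos hqL)
  obtain ⟨Q, hQ, hQ1, hmin⟩ := Cfsg.Agent.Lib.H70Basic2.exists_minimal_normal (G := L)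
  obtain ⟨hQc, s, hs, hsQ⟩ := Cfsg.Agent.Lib.Fitting.minimal_normal_solvable hQ1 inferInstance hmin
  obtain ⟨⟨x, hxQ⟩, hx1'⟩ := Subgroup.ne_bot_iff_exists_ne_one.1 hQ1
  have hx1 : x ≠ 1 := fun h => hx1' (Subtype.ext h)
  have := Fact.mk hs
  have hxo : orderOf x = s := orderOf_eq_prime (hsQ x hxQ) hx1
  -- a prime `t ≠ s` dividing `|L|`
  obtain ⟨t, ht, htL, hts⟩ : ∃ t : ℕ, t.Prime ∧ t ∣ Nat.card L ∧ t ≠ s := by
    by_cases h : q = s
    · exact ⟨r, hr, hrL, fun h2 => hqr (h.trans h2.symm)⟩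
    · exact ⟨q, hq, hqL, h⟩
  have := Fact.mk ht
  obtain ⟨y, hy⟩ := exists_prime_orderOf_dvd_card' t htL
  have hzp : ∀ z ∈ Q, z ∈ zpowers x := by
    intro z hz
    by_cases hz1 : z = 1
    · rw [hz1]; exact one_mem _
    · have hzo : orderOf z = s := orderOf_eq_prime (hsQ z hz) hz1
      have hcomm : Commute z x := congrArg Subtype.val (hQc.is_comm.comm ⟨z, hz⟩ ⟨x, hxQ⟩)
      exact FrobAction.mem_zpowers_of_commute hf hcomm hzo hxo
  have h1 : y * x * y⁻¹ ∈ zpowers x := hzp _ (hQ.conj_mem x hxQ y)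
  have h2 : Commute y x := FrobAction3.commute_of_normalizes hf (by rw [hy]; exact ht) (by rw [hxo]; exact hs) h1
  exact no_mixed hE ht hs hts h2 hy hxo

theorem isFPF_of_coprime {G : Type u} [Group G] [Finite G] (hE : IsEPPO G) {p : ℕ} (hp : p.Prime) {V L : Subgroup G}
    (hV : ∀ x ∈ V, x ^ p = 1) (hL : ¬ p ∣ Nat.card L) (hn : L ≤ normalizer (V : Set G)) :
    FrobAction.IsFPF (FrobAction2.conjAct hn) := by
  apply FrobAction2.isFPF_conjAct
  intro a ha ha1
  rw [eq_bot_iff]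
  rintro v ⟨hv1, hv2⟩
  rw [Subgroup.mem_bot]
  by_contra hv
  have := Fact.mk hp
  have hvo : orderOf v = p := orderOf_eq_prime (hV v hv1) hv
  have hcomm : Commute v a := Subgroup.mem_centralizer_singleton_iff.1 hv2
  obtain ⟨q, hq, k, hk⟩ := Nat.exists_prime_and_dvd (n := orderOf a) (by rwa [Ne, orderOf_eq_one_iff])
  have hk0 : k ≠ 0 := by
    rintro rfl
    have := orderOf_pos a
    rw [hk] at this
    simp at this
  have hak : orderOf (a ^ k) = q := by
    rw [orderOf_pow_of_dvd hk0 (by rw [hk]; exact Dvd.intro_left _ rfl), hk, Nat.mul_div_cancel _ (Nat.pos_of_ne_zero hk0)]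
  have hqL : q ∣ Nat.card L := by
    have h1 := orderOf_dvd_natCard (⟨a, ha⟩ : L)
    rw [Subgroup.orderOf_mk] at h1
    exact (Dvd.intro _ hk.symm).trans h1
  have hpq : p ≠ q := by rintro rfl; exact hL hqL
  exact no_mixed hE hp hq hpq (hcomm.pow_right k) hvo hak

theorem card_primeFactors_le {H : Type u} [Group H] [Finite H] [Group.IsSolvable H] (hE : IsEPPO H) :
    (Nat.card H).primeFactors.card ≤ 2 := by
  classical
  by_contra hcon
  push Not at hcon
  have hnt : Nontrivial H := by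
    rw [← Finite.one_lt_card_iff_nontrivial]
    by_contra h
    have h1 : Nat.card H = 1 := by
      have : 0 < Nat.card H := Nat.card_pos
      omega
    rw [h1] at hcon
    simp at hcon
  obtain ⟨N, hN, hN1, hmin⟩ := Cfsg.Agent.Lib.H70Basic2.exists_minimal_normal (G := H)
  obtain ⟨hNc, p, hp, hpN⟩ := Cfsg.Agent.Lib.Fitting.minimal_normal_solvable hN1 inferInstance hmin
  obtain ⟨L, hL⟩ := HallPi.exists_isPiHall (G := H) ({p} : Set ℕ)ᶜ
  rw [HallPi.isPiHall_iff] at hL
  obtain ⟨hL1, hL2⟩ := hL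
  have hLp : ¬ p ∣ Nat.card L := fun h => hL1 p hp h rfl
  have hdvd : ∀ q : ℕ, q.Prime → q ∣ Nat.card H → q ≠ p → q ∣ Nat.card L := by
    intro q hq hqH hqp
    rw [← L.card_mul_index] at hqH
    rcases (Nat.Prime.dvd_mul hq).1 hqH with h | h
    · exact h
    · exact absurd (hL2 q hq h) (fun h2 => h2 hqp)
  -- two primes different from `p`
  obtain ⟨q, r, hq, hr, hqr⟩ : ∃ q r, q ∈ (Nat.card H).primeFactors.erase p ∧ r ∈ (Nat.card H).primeFactors.erase p ∧ q ≠ r := by
    rw [← Finset.one_lt_card_iff]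
    have := Finset.pred_card_le_card_erase (s := (Nat.card H).primeFactors) (a := p)
    omega
  rw [Finset.mem_erase, Nat.mem_primeFactors] at hq hr
  have hLn : L ≤ normalizer (N : Set H) := by rw [normalizer_eq_top]; exact le_top
  have hf := isFPF_of_coprime hE hp hpN hLp hLn
  let _ : CommGroup N := { (inferInstance : Group N) with mul_comm := hNc.is_comm.comm }
  have : Nontrivial N := (Subgroup.nontrivial_iff_ne_bot N).2 hN1
  exact isPGroup_of_fpf (act := FrobAction2.conjAct hLn) hf (hE.subgroup L) hq.2.1 hr.2.1 hqr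
    (hdvd q hq.2.1 hq.2.2.1 hq.1) (hdvd r hr.2.1 hr.2.2.1 hr.1)

end Cfsg.Agent.Lib.EPPO
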