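import Cfsg.Agent.Lib.CITEppo2
import Cfsg.Agent.Lib.EPPO
import Cfsg.Agent.Lib.ClSeven

set_option autoImplicit false
set_option linter.all false

/-!
# CIT-groups (helper6): groups all of whose elements have prime power order, part 3: orders
-/

namespace Cfsg.Agent.Lib.CIT

open Subgroup SylowRel StrongEmbPt

theorem five_dvd_sz {F : Type*} [Field F] [Fintype F] {m : ℕ} (hm : 1 ≤ m) (hF : Fintype.card F = 2 ^ (2 * m + 1)) :
    5 ∣ Nat.card (Cfsg.Sz F m) := by
  have hchar : CharP F 2 := SuzukiFin.charTwo hF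
  have h1 := SuzukiGroup.card_G (SuzukiFin.th F m) (SuzukiFin.th_sq hF) (SuzukiFin.th_ne hm hF)
  have heq := SuzukiFin.Sz_eq (F := F) m
  have h2 : Nat.card (Cfsg.Sz F m) = Nat.card (SuzukiOvoid.Gz (SuzukiFin.th F m)) := by rw [heq]
  rw [h2, h1, Nat.card_eq_fintype_card, hF]
  apply Dvd.dvd.mul_right
  apply Dvd.dvd.mul_left
  have e2 : (2 ^ (2 * m + 1)) ^ 2 = 16 ^ m * 4 := by
    rw [← pow_mul, show (2 * m + 1) * 2 = 4 * m + 2 by ring, pow_add, pow_mul]; norm_num
  have : (2 ^ (2 * m + 1)) ^ 2 % 5 = 4 := by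
    rw [e2, Nat.mul_mod, Nat.pow_mod]; norm_num
  omega

theorem five_dvd_psl {F : Type*} [Field F] [Fintype F] (hF : Fintype.card F = 4 ∨ Fintype.card F = 9) :
    5 ∣ Nat.card (Matrix.ProjectiveSpecialLinearGroup (Fin 2) F) := by
  rcases hF with h | h
  · have h3 := ClSLn.card_PSL_formula (F := F) h 2 (by norm_num)
    norm_num [Finset.prod_range_succ] at h3
    omega
  · have h3 := ClSLn.card_PSL_formula (F := F) h 2 (by norm_num)
    norm_num [Finset.prod_range_succ] at h3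
    omega

theorem five_dvd_psl3 {F : Type*} [Field F] [Fintype F] (hF : Fintype.card F = 4) :
    5 ∣ Nat.card (Matrix.ProjectiveSpecialLinearGroup (Fin 3) F) := by
  have h3 := ClSLn.card_PSL_formula (F := F) hF 3 (by norm_num)
  norm_num [Finset.prod_range_succ] at h3
  omega

/-- every divisor of an element order is an element order; from an order of the quotient -/
theorem exists_order_of_quot {G : Type*} [Group G] [Finite G] (N : Subgroup G) [N.Normal] {k : ℕ}
    (h : ∃ x : G ⧸ N, orderOf x = k) : ∃ g : G, orderOf g = k := by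
  obtain ⟨x, hx⟩ := h
  obtain ⟨g, rfl⟩ := QuotientGroup.mk_surjective x
  have h1 : orderOf (QuotientGroup.mk g : G ⧸ N) ∣ orderOf g := orderOf_map_dvd (QuotientGroup.mk' N) g
  rw [hx] at h1
  have h0 : orderOf g ≠ 0 := (orderOf_pos g).ne'
  exact ⟨g ^ (orderOf g / k), orderOf_pow_orderOf_div h0 h1⟩

theorem psl_iso_of_card {F K : Type*} [Field F] [Fintype F] [Field K] [Fintype K] (n : ℕ) (h : Fintype.card F = Fintype.card K) :
    Nonempty (Matrix.ProjectiveSpecialLinearGroup (Fin n) F ≃* Matrix.ProjectiveSpecialLinearGroup (Fin n) K) :=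
  ⟨ClSeven.pslCongr n (FiniteField.ringEquivOfCardEq h)⟩

theorem isPrimePow_quot {G : Type*} [Group G] [Finite G] (N : Subgroup G) [N.Normal]
    (h : ∀ g : G, g ≠ 1 → IsPrimePow (orderOf g)) : ∀ g : G ⧸ N, g ≠ 1 → IsPrimePow (orderOf g) := by
  intro x hx
  obtain ⟨g, hg⟩ := exists_order_of_quot N ⟨x, rfl⟩
  rw [← hg]
  apply h
  rintro rfl
  rw [orderOf_one] at hg
  exact hx (orderOf_eq_one_iff.1 hg.symm)

/-- simple EPPO groups of order not divisible by 5 -/
theorem eppo_five {G : Type*} [Group G] [Finite G] [IsSimpleGroup G] (hna : ¬ ∀ a b : G, a * b = b * a)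
    (h : ∀ g : G, g ≠ 1 → IsPrimePow (orderOf g)) (h5 : ¬ 5 ∣ Nat.card G) :
    (∃ (F : Type) (_ : Field F) (_ : Fintype F), Fintype.card F ∈ ({7, 8, 17} : Finset ℕ) ∧
      Nonempty (G ≃* Matrix.ProjectiveSpecialLinearGroup (Fin 2) F)) := by
  rcases eppo_simple hna h with ⟨F, i1, i2, hF, ⟨e⟩⟩ | ⟨F, i1, i2, hF, ⟨e⟩⟩ | ⟨F, i1, i2, hF⟩
  · refine ⟨F, i1, i2, ?_, ⟨e⟩⟩
    simp only [Finset.mem_insert, Finset.mem_singleton] at hF ⊢
    have h49 : ¬ (Fintype.card F = 4 ∨ Fintype.card F = 9) := by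
      intro h
      apply h5
      rw [Nat.card_congr e.toEquiv]
      exact five_dvd_psl h
    omega
  · exfalso
    apply h5
    rw [Nat.card_congr e.toEquiv]
    exact five_dvd_psl3 hF
  · exfalso
    apply h5
    rcases hF with ⟨hF, ⟨e⟩⟩ | ⟨hF, ⟨e⟩⟩
    · have hF' : Fintype.card F = 2 ^ (2 * 1 + 1) := by rw [hF]; norm_num
      have hchar : CharP F 2 := SuzukiFin.charTwo hF'
      have e2 := SuzukiLie.szEquiv (F := F) 1 le_rfl hF'
      rw [Nat.card_congr (e.trans e2.symm).toEquiv]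
      exact five_dvd_sz le_rfl hF'
    · have hF' : Fintype.card F = 2 ^ (2 * 2 + 1) := by rw [hF]; norm_num
      have hchar : CharP F 2 := SuzukiFin.charTwo hF'
      have e2 := SuzukiLie.szEquiv (F := F) 2 (by norm_num) hF'
      rw [Nat.card_congr (e.trans e2.symm).toEquiv]
      exact five_dvd_sz (by norm_num) hF'

/-- `PSL(2,F)` with `|F| = 8` or `17` has elements of order 9 -/
theorem nine_psl {F : Type*} [Field F] [Fintype F] (hF : Fintype.card F = 8 ∨ Fintype.card F = 17) :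
    ∃ g : Matrix.ProjectiveSpecialLinearGroup (Fin 2) F, orderOf g = 9 := by
  classical
  obtain ⟨p, hchar⟩ := CharP.exists F
  obtain ⟨f, hp, hpf⟩ := FiniteField.card F p
  haveI : Fact p.Prime := ⟨hp⟩
  have hspec := PSL2Orders.spectrum (F := F) p
  have h1 : 9 ∈ Set.range (orderOf : Matrix.ProjectiveSpecialLinearGroup (Fin 2) F → ℕ) := by
    rw [hspec]
    right; right
    rcases hF with h | h
    · rw [h]; norm_num
    · rw [h]; norm_num
  exact h1

end Cfsg.Agent.Lib.CIT
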