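import Cfsg.Agent.Lib.CITWalk

/-!
# CIT-groups (helper6): existence of edges
-/

set_option autoImplicit false
set_option linter.all false

namespace Cfsg.Agent.Lib.CIT

open Subgroup SylowRel StrongEmbPt

section exist

variable {G : Type*} [Group G] [Finite G]

theorem card_lt_of_lt {H K : Subgroup G} (h : H < K) : Nat.card H < Nat.card K := by
  by_contra hcon
  exact h.ne (Subgroup.eq_of_le_of_card_ge h.le (not_lt.1 hcon))

theorem NN_O2_ge {A : Subgroup G} (hA : IsPGroup 2 A) : A ≤ O2 (NN A) :=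
  le_O2 le_normalizer hA le_rfl

/-- enlarge a local subgroup -/
theorem exists_radical {K : Subgroup G} (hK : IsPGroup 2 K) (hK1 : K ≠ ⊥) :
    ∃ K' : Subgroup G, IsPGroup 2 K' ∧ K' ≠ ⊥ ∧ NN K ≤ NN K' ∧ O2 (NN K') = K' := by
  obtain ⟨K', ⟨h1, h2, h3⟩, hmax⟩ := (wellFounded_gt (α := Subgroup G)).has_min
    {K' : Subgroup G | IsPGroup 2 K' ∧ K' ≠ ⊥ ∧ NN K ≤ NN K'} ⟨K, hK, hK1, le_rfl⟩
  refine ⟨K', h1, h2, h3, ?_⟩
  by_contra hne
  have hle := NN_O2_ge h1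
  exact hmax (O2 (NN K')) ⟨O2_isPGroup _, fun h => h2 (by rw [h, le_bot_iff] at hle; exact hle),
    h3.trans (le_normalizer_O2 _)⟩ (lt_of_le_of_ne hle (Ne.symm hne))

theorem mem_of_two {S L : Subgroup G} (hS : IsSyl 2 S L) {x : G} (hx : x ∈ L) (hxS : x ∈ NN S)
    {k : ℕ} (hk : x ^ 2 ^ k = 1) : x ∈ S := by
  haveI : Fact (Nat.Prime 2) := ⟨Nat.prime_two⟩
  have h3 : IsPGroup 2 (S ⊔ zpowers x : Subgroup G) :=
    IsPGroup.to_sup_of_normal_left' hS.isPGroup (isPGroup_zpowers hk) (zpowers_le.2 hxS)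
  rw [← hS.eq_of_le h3 le_sup_left (sup_le hS.le (zpowers_le.2 hx))]
  exact mem_sup_right (mem_zpowers x)

def Mx (S M : Subgroup G) : Prop :=
  (∃ A : Subgroup G, A ≠ ⊥ ∧ IsPGroup 2 A ∧ S ≤ NN A ∧ M = NN A ∧ O2 (NN A) = A) ∧
    ∀ K : Subgroup G, K ≠ ⊥ → IsPGroup 2 K → S ≤ NN K → NN K ≤ M

theorem Mx.unique {S M M' : Subgroup G} (h : Mx S M) (h' : Mx S M') : M = M' := by
  obtain ⟨⟨A, h1, h2, h3, rfl, -⟩, h4⟩ := h
  obtain ⟨⟨A', h1', h2', h3', rfl, -⟩, h4'⟩ := h'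
  exact le_antisymm (h4' A h1 h2 h3) (h4 A' h1' h2' h3')

theorem NN_cj (g : G) (A : Subgroup G) : NN (cj g A) = cj g (NN A) := (cj_normalizer g A).symm

theorem Mx.conj {S M : Subgroup G} (h : Mx S M) (g : G) : Mx (cj g S) (cj g M) := by
  obtain ⟨⟨A, h1, h2, h3, rfl, h5⟩, h4⟩ := h
  refine ⟨⟨cj g A, fun h => h1 (cj_eq_bot_iff.1 h), isPGroup_cj h2, ?_, ?_, ?_⟩, ?_⟩
  · rw [NN_cj]; exact cj_mono h3
  · rw [NN_cj]
  · rw [NN_cj, O2_cj, h5]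
  · intro K hK hKp hS
    rw [← cj_le_cj_iff (g := g⁻¹), cj_inv_cj, ← NN_cj]
    refine h4 _ (fun h => hK (cj_eq_bot_iff.1 h)) (isPGroup_cj hKp) ?_
    rw [NN_cj, ← cj_inv_cj g S]
    exact cj_mono hS

theorem not_edge_or (hno : ∀ A B T : Subgroup G, ¬ Edge A B T) {S K' : Subgroup G}
    (hS : IsSyl 2 S ⊤) (hp : IsPGroup 2 K') (h1 : K' ≠ ⊥) (h2 : O2 (NN K') = K') (h3 : S ≤ NN K') :
    (Loc K' ∧ ∀ A, Loc A → S ≤ NN A → A = K') ∨ K' = S := by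
  haveI : Fact (Nat.Prime 2) := ⟨Nat.prime_two⟩
  by_cases hsyl : IsSyl 2 K' (NN K')
  · right
    have h4 : IsSyl 2 S (NN K') := hS.mono h3 le_top
    have h5 : K' ≤ S := by rw [← h2]; exact O2_le_isSyl h4
    exact (hsyl.eq_of_le hS.isPGroup h5 h3).symm
  · left
    refine ⟨⟨h1, h2, hsyl⟩, fun A hA hSA => ?_⟩
    by_contra hne
    exact hno A K' S ⟨hA, ⟨h1, h2, hsyl⟩, hne, hS.mono hSA le_top, hS.mono h3 le_top⟩

theorem mx_of_loc (hno : ∀ A B T : Subgroup G, ¬ Edge A B T) {S A : Subgroup G}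
    (hS : IsSyl 2 S ⊤) (hA : Loc A) (hSA : S ≤ NN A) : Mx S (NN A) := by
  refine ⟨⟨A, hA.ne, hA.isPGroup, hSA, rfl, hA.o2⟩, ?_⟩
  intro K hK hKp hSK
  obtain ⟨K', h1, h2, h3, h4⟩ := exists_radical hKp hK
  rcases not_edge_or hno hS h1 h2 h4 (hSK.trans h3) with ⟨-, h5⟩ | h5
  · rw [h5 A hA hSA]; exact h3
  · refine h3.trans ?_
    rw [h5]
    intro g hg
    rw [mem_normalizer_iff_cj]
    by_contra hne
    have h6 : S ≤ NN (cj g A) := by
      rw [NN_cj, ← mem_normalizer_iff_cj.1 hg]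
      exact cj_mono hSA
    exact hno (cj g A) A S ⟨hA.conj_mem g, hA, hne, hS.mono h6 le_top, hS.mono hSA le_top⟩

theorem exists_mx (hno : ∀ A B T : Subgroup G, ¬ Edge A B T) {S : Subgroup G}
    (hS : IsSyl 2 S ⊤) (hS1 : S ≠ ⊥) : ∃ M, Mx S M := by
  by_cases hA : ∃ A, Loc A ∧ S ≤ NN A
  · obtain ⟨A, hA, hSA⟩ := hA
    exact ⟨_, mx_of_loc hno hS hA hSA⟩
  · push Not at hA
    refine ⟨NN S, ⟨S, hS1, hS.isPGroup, le_normalizer, rfl, ?_⟩, ?_⟩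
    · exact hS.eq_of_le (O2_isPGroup _) (NN_O2_ge hS.isPGroup) le_top
    · intro K hK hKp hSK
      obtain ⟨K', h1, h2, h3, h4⟩ := exists_radical hKp hK
      rcases not_edge_or hno hS h1 h2 h4 (hSK.trans h3) with ⟨h5, -⟩ | h5
      · exact absurd (hSK.trans h3) (hA _ h5)
      · rw [← h5]; exact h3

theorem Mx.self_norm {S M : Subgroup G} (h : Mx S M) : NN M ≤ M := by
  obtain ⟨⟨A, h1, h2, h3, rfl, h5⟩, h4⟩ := h
  intro g hg
  rw [mem_normalizer_iff_cj] at hg ⊢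
  rw [← h5, ← O2_cj, hg]

theorem exists_edge (hG : IsCIT G) (hP : P2 G) (hO : Cfsg.pCore 2 G = ⊥) (hTI : ¬ TI2 G) :
    ∃ A B T : Subgroup G, Edge A B T := by
  classical
  haveI : Fact (Nat.Prime 2) := ⟨Nat.prime_two⟩
  by_contra hcon
  push Not at hcon
  have hno : ∀ A B T : Subgroup G, ¬ Edge A B T := hcon
  obtain ⟨S, hS, -⟩ := exists_isSyl (p := 2) (Q := (⊥ : Subgroup G)) (H := ⊤) IsPGroup.of_bot bot_le
  have hS1 : S ≠ ⊥ := by
    rintro rfl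
    apply hTI
    intro P Q hP hQ _
    obtain ⟨x, -, hx⟩ := hS.exists_cj_eq hP
    rw [← hx, cj_bot, bot_inf_eq]
  have hsyl1 : ∀ T : Subgroup G, IsSyl 2 T ⊤ → T ≠ ⊥ := by
    rintro T hT rfl
    obtain ⟨x, -, hx⟩ := hT.exists_cj_eq hS
    rw [cj_bot] at hx
    exact hS1 hx.symm
  have hMx : ∀ T : Subgroup G, IsSyl 2 T ⊤ → ∃ M, Mx T M := fun T hT => exists_mx hno hT (hsyl1 T hT)
  choose! M hM using hMx
  have hMcj : ∀ T : Subgroup G, IsSyl 2 T ⊤ → ∀ g : G, M (cj g T) = cj g (M T) := by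
    intro T hT g
    have h1 : IsSyl 2 (cj g T) ⊤ := by have := hT.cj g; rwa [cj_top] at this
    exact (hM _ h1).unique ((hM T hT).conj g)
  have hTM : ∀ T : Subgroup G, IsSyl 2 T ⊤ → T ≤ M T := by
    intro T hT
    obtain ⟨⟨A, h1, h2, h3, h4, h5⟩, -⟩ := hM T hT
    rw [h4]; exact h3
  -- a bad pair
  have hbad : ∃ p : Subgroup G × Subgroup G, IsSyl 2 p.1 ⊤ ∧ IsSyl 2 p.2 ⊤ ∧ M p.1 ≠ M p.2 ∧
      p.1 ⊓ p.2 ≠ ⊥ := by
    by_contra hb
    push Not at hb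
    have hb' : ∀ T T' : Subgroup G, IsSyl 2 T ⊤ → IsSyl 2 T' ⊤ → T ⊓ T' ≠ ⊥ → M T = M T' := by
      intro T T' h1 h2 h3
      by_contra h4
      exact h3 (hb (T, T') h1 h2 h4)
    apply hTI
    have hSM : IsSyl 2 S (M S) := hS.mono (hTM S hS) le_top
    obtain ⟨⟨A, hA1, hA2, hA3, hA4, hA5⟩, -⟩ := id (hM S hS)
    have hMS : ∀ S₁ : Subgroup G, IsSyl 2 S₁ (M S) → IsSyl 2 S₁ ⊤ ∧ M S₁ = M S := by
      intro S₁ h1
      obtain ⟨m, hm, rfl⟩ := hSM.exists_cj_eq h1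
      refine ⟨by have := hS.cj m; rwa [cj_top] at this, ?_⟩
      rw [hMcj S hS, cj_eq_of_mem hm]
    have hSE : Cfsg.IsStronglyEmbedded (M S) := by
      apply of_fix
      · intro h1
        rw [hA4] at h1
        have h2 : A.Normal := normalizer_eq_top_iff.1 h1
        have := Fitting.le_pCore 2 h2 hA2
        rw [hO, le_bot_iff] at this
        exact hA1 this
      · obtain ⟨u, hu, hu1⟩ := exists_mem_ne_one hS1
        obtain ⟨k, hk⟩ := pow_two_of_isPGroup hS.isPGroup hu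
        obtain ⟨m, hm⟩ := exists_pow_two hu1 hk
        rw [even_iff_two_dvd, ← hm]
        exact Subgroup.orderOf_dvd_natCard _ (hTM S hS (pow_mem hu m))
      · intro x g hxo hx hgx
        have hxk : ∀ y : G, orderOf y = 2 → y ^ 2 ^ 1 = 1 := fun y hy => by
          rw [pow_one, ← hy, pow_orderOf_eq_one]
        have hgo : orderOf (g * x * g⁻¹) = 2 := by
          rw [← hxo]
          have := orderOf_injective (MulAut.conj g).toMonoidHom (MulAut.conj g).injective x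
          simpa using this
        obtain ⟨S₁, hS₁, hxS₁⟩ := exists_isSyl (isPGroup_zpowers (hxk x hxo)) (zpowers_le.2 hx)
        obtain ⟨S₂, hS₂, hxS₂⟩ := exists_isSyl (isPGroup_zpowers (hxk _ hgo)) (zpowers_le.2 hgx)
        obtain ⟨h1, h2⟩ := hMS S₁ hS₁
        obtain ⟨h3, h4⟩ := hMS S₂ hS₂
        have h5 : IsSyl 2 (cj g⁻¹ S₂) ⊤ := by have := h3.cj g⁻¹; rwa [cj_top] at this
        have h6 : x ∈ (S₁ ⊓ cj g⁻¹ S₂ : Subgroup G) := by
          refine mem_inf.2 ⟨hxS₁ (mem_zpowers x), ?_⟩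
          rw [mem_cj, inv_inv]
          exact hxS₂ (mem_zpowers _)
        have h7 := hb' S₁ (cj g⁻¹ S₂) h1 h5 (by
          intro h8
          rw [h8, mem_bot] at h6
          rw [h6, orderOf_one] at hxo; omega)
        rw [h2, hMcj S₂ h3, h4] at h7
        apply (hM S hS).self_norm
        rw [mem_normalizer_iff_cj, cj_eq_iff]; exact h7
    have hO2M : O2 (M S) ≠ ⊥ := by rw [hA4, hA5]; exact hA1
    have h1 := hG.le_normalizer_of_se hSE hO2M hSM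
    have h2 : M S ≤ NN (O2 (M S)) := le_normalizer_O2 _
    rw [← h1] at h2
    exact ti_of_se hG hSE hSM h2
  obtain ⟨⟨T, T'⟩, ⟨hT, hT', hMne, hD1⟩, hmax⟩ := Set.exists_max_image
    {p : Subgroup G × Subgroup G | IsSyl 2 p.1 ⊤ ∧ IsSyl 2 p.2 ⊤ ∧ M p.1 ≠ M p.2 ∧ p.1 ⊓ p.2 ≠ ⊥}
    (fun p => Nat.card (p.1 ⊓ p.2 : Subgroup G)) (Set.toFinite _) hbad
  simp only at hT hT' hMne hD1 hmax
  have hmax' : ∀ X Y : Subgroup G, IsSyl 2 X ⊤ → IsSyl 2 Y ⊤ → X ⊓ Y ≠ ⊥ →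
      Nat.card (T ⊓ T' : Subgroup G) < Nat.card (X ⊓ Y : Subgroup G) → M X = M Y := by
    intro X Y h1 h2 h3 h4
    by_contra h5
    exact absurd (hmax (X, Y) ⟨h1, h2, h5, h3⟩) (not_le_of_gt h4)
  set D := T ⊓ T' with hD
  have hTT' : T ≠ T' := by rintro rfl; exact hMne rfl
  have hDp : IsPGroup 2 D := hT.isPGroup.to_le inf_le_left
  have hgrow : ∀ X Y : Subgroup G, IsSyl 2 X ⊤ → IsSyl 2 Y ⊤ → X ≠ Y → X ⊓ Y = D → D < X ⊓ NN D := by
    intro X Y hX hY hXY hXYD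
    have hDX : D ≤ X := by rw [← hXYD]; exact inf_le_left
    refine lt_of_le_of_ne (le_inf hDX le_normalizer) ?_
    intro h1
    have h2 := eq_of_norm hX.isPGroup hDX h1.ge
    apply hXY
    exact (hX.eq_of_le hY.isPGroup (by rw [h2, ← hXYD]; exact inf_le_right) le_top).symm
  have hg1 := hgrow T T' hT hT' hTT' rfl
  have hg2 := hgrow T' T hT' hT hTT'.symm (by rw [inf_comm])
  obtain ⟨R, hR, hR1⟩ := exists_isSyl (hT.isPGroup.to_le (inf_le_left : T ⊓ NN D ≤ T))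
    (inf_le_right : T ⊓ NN D ≤ NN D)
  obtain ⟨R', hR', hR1'⟩ := exists_isSyl (hT'.isPGroup.to_le (inf_le_left : T' ⊓ NN D ≤ T'))
    (inf_le_right : T' ⊓ NN D ≤ NN D)
  obtain ⟨T₁, hT₁, hRT₁⟩ := exists_isSyl hR.isPGroup (le_top : R ≤ ⊤)
  obtain ⟨T₁', hT₁', hRT₁'⟩ := exists_isSyl hR'.isPGroup (le_top : R' ≤ ⊤)
  have hne_bot : ∀ X : Subgroup G, D ≤ X → X ≠ ⊥ := by
    rintro X h1 rfl
    rw [le_bot_iff] at h1; exact hD1 h1
  have hM1 : M T = M T₁ := by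
    have h1 : T ⊓ NN D ≤ T ⊓ T₁ := le_inf inf_le_left (hR1.trans hRT₁)
    apply hmax' T T₁ hT hT₁ (hne_bot _ (hg1.le.trans h1))
    exact lt_of_lt_of_le (card_lt_of_lt hg1) (Subgroup.card_le_of_le h1)
  have hM2 : M T' = M T₁' := by
    have h1 : T' ⊓ NN D ≤ T' ⊓ T₁' := le_inf inf_le_left (hR1'.trans hRT₁')
    apply hmax' T' T₁' hT' hT₁' (hne_bot _ (hg2.le.trans h1))
    exact lt_of_lt_of_le (card_lt_of_lt hg2) (Subgroup.card_le_of_le h1)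
  have hDR : D ≤ R := hg1.le.trans hR1
  have hDR' : D ≤ R' := hg2.le.trans hR1'
  have hDT₁ : D ≤ T₁ ⊓ T₁' := le_inf (hDR.trans hRT₁) (hDR'.trans hRT₁')
  have hDeq : T₁ ⊓ T₁' = D := by
    by_contra h1
    apply hMne
    rw [hM1, hM2]
    apply hmax' T₁ T₁' hT₁ hT₁' (hne_bot _ hDT₁)
    exact card_lt_of_lt (lt_of_le_of_ne hDT₁ (Ne.symm h1))
  have hRR' : R ≠ R' := by
    rintro rfl
    have h1 : R ≤ D := by rw [← hDeq]; exact le_inf hRT₁ hRT₁'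
    exact absurd (hR1.trans h1) (not_le_of_gt hg1)
  have hO2D : O2 (NN D) ≠ ⊥ := hne_bot _ (NN_O2_ge hDp)
  have hO2D' : O2 (NN D) = D := by
    rw [← hP _ R R' hO2D hR hR' hRR']
    apply le_antisymm
    · rw [← hDeq]; exact inf_le_inf hRT₁ hRT₁'
    · exact le_inf hDR hDR'
  have hLoc : Loc D := by
    refine ⟨hD1, hO2D', fun h1 => ?_⟩
    have h2 : R = D := h1.eq_of_le hR.isPGroup hDR hR.le
    rw [h2] at hR1
    exact absurd hR1 (not_le_of_gt hg1)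
  by_cases hRT : R = T₁
  · have hRT' : R' = T₁' := by
      apply Subgroup.eq_of_le_of_card_ge hRT₁'
      rw [hT₁'.card_eq hT₁, ← hRT, hR.card_eq hR']
    apply hMne
    rw [hM1, hM2, (hM T₁ hT₁).unique (mx_of_loc hno hT₁ hLoc (by rw [← hRT]; exact hR.le)),
      (hM T₁' hT₁').unique (mx_of_loc hno hT₁' hLoc (by rw [← hRT']; exact hR'.le))]
  · have h1 : ¬ T₁ ⊓ NN R ≤ R := fun h => hRT (eq_of_norm hT₁.isPGroup hRT₁ h).symm
    obtain ⟨g, hg, hgR⟩ := SetLike.not_le_iff_exists.1 h1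
    obtain ⟨k, hk⟩ := pow_two_of_isPGroup hT₁.isPGroup hg.1
    have h2 : cj g D ≠ D := by
      intro h3
      exact hgR (mem_of_two hR (mem_normalizer_iff_cj.2 h3) hg.2 hk)
    have h3 : IsSyl 2 R (NN (cj g D)) := by
      have := syl_conj hR g
      rwa [mem_normalizer_iff_cj.1 hg.2] at this
    exact hno D (cj g D) R ⟨hLoc, hLoc.conj_mem g, h2.symm, hR, h3⟩

end exist

end Cfsg.Agent.Lib.CIT
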