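import Cfsg.Agent.Lib.CITQuot

/-!
# CIT-groups (helper6): failure of factorization lemma
-/

set_option autoImplicit false
set_option linter.all false

namespace Cfsg.Agent.Lib.CIT

open Subgroup SylowRel StrongEmbPt

section aut

/-- an involution inverting a fixed-point-free automorphism -/
theorem sq_aut {V : Type*} [CommGroup V] [Finite V] (hV2 : ∀ v : V, v * v = 1) (τ η : MulAut V)
    (hτ : ∀ v, τ (τ v) = v) (hη : ∀ v, τ (η (τ v)) = η⁻¹ v) (hf : ∀ v, η (η v) = v → v = 1) :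
    ∃ C : Subgroup V, (∀ v, v ∈ C ↔ τ v = v) ∧ Nat.card V = Nat.card C ^ 2 ∧
      ∀ c ∈ C, ∃ v, v * τ v = c := by
  classical
  let C : Subgroup V :=
    { carrier := {v | τ v = v}
      one_mem' := map_one τ
      mul_mem' := fun {a b} ha hb => by
        change τ (a * b) = a * b
        rw [map_mul, show τ a = a from ha, show τ b = b from hb]
      inv_mem' := fun {a} ha => by
        change τ a⁻¹ = a⁻¹
        rw [map_inv, show τ a = a from ha] }
  have hC : ∀ v, v ∈ C ↔ τ v = v := fun v => Iff.rfl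
  have hinv : ∀ v : V, v⁻¹ = v := fun v => inv_eq_of_mul_eq_one_left (hV2 v)
  let f : V →* V :=
    { toFun := fun v => v * τ v
      map_one' := by simp
      map_mul' := fun a b => by rw [map_mul]; exact mul_mul_mul_comm a b (τ a) (τ b) }
  have hf1 : ∀ v, f v = v * τ v := fun _ => rfl
  have hker : f.ker = C := by
    ext v
    rw [MonoidHom.mem_ker, hC, hf1]
    constructor
    · intro h
      have : τ v = v⁻¹ := (inv_eq_of_mul_eq_one_right h).symm
      rw [this, hinv]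
    · intro h; rw [h, hV2]
  have hrange : f.range ≤ C := by
    rintro _ ⟨v, rfl⟩
    rw [hC, hf1, map_mul, hτ, mul_comm]
  have hcard : Nat.card V = Nat.card f.range * Nat.card C := by
    have h1 := Subgroup.card_eq_card_quotient_mul_card_subgroup f.ker
    rw [Nat.card_congr (QuotientGroup.quotientKerEquivRange f).toEquiv, hker] at h1
    exact h1
  have hle : Nat.card f.range ≤ Nat.card C := Subgroup.card_le_of_le hrange
  -- C ∩ η C = 1
  set D : Subgroup V := C.map η.toMonoidHom with hD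
  have hDC : C ⊓ D = ⊥ := by
    rw [eq_bot_iff]
    rintro _ ⟨h1, v, hv, rfl⟩
    have h1' : τ (η v) = η v := h1
    have hv' : τ v = v := hv
    have h2 := hη v
    rw [hv', h1'] at h2
    have h3 : η (η v) = v := by
      have : η (η v) = η (η⁻¹ v) := by rw [h2]
      rw [this]; exact MulAut.apply_inv_self V η v
    rw [hf v h3]
    simp
  have hDcard : Nat.card D = Nat.card C := by
    rw [hD]
    exact Nat.card_congr (Subgroup.equivMapOfInjective C η.toMonoidHom η.injective).toEquiv.symm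
  have h4 : Nat.card C * Nat.card C ≤ Nat.card V := by
    have h5 := SubgroupTools.card_sup_mul_card_inf (N := C) (H := D)
      (by intro x _; rw [mem_normalizer_iff]; intro y; rw [mul_comm x y, mul_inv_cancel_right])
    rw [hDC, Subgroup.card_bot, mul_one, hDcard] at h5
    rw [← h5]
    exact Subgroup.card_le_card_group _
  have hCpos : 0 < Nat.card C := Nat.card_pos
  have h6 : Nat.card C ≤ Nat.card f.range := by
    rw [hcard] at h4
    exact Nat.le_of_mul_le_mul_right h4 hCpos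
  have h7 : Nat.card f.range = Nat.card C := le_antisymm hle h6
  refine ⟨C, hC, ?_, ?_⟩
  · rw [hcard, h7, pow_two]
  · intro c hc
    have h8 : f.range = C := Subgroup.eq_of_le_of_card_ge hrange h6
    rw [← h8] at hc
    obtain ⟨v, hv⟩ := hc
    exact ⟨v, hv⟩

end aut

section card

theorem card_le_succ {X : Type*} [Group X] [Finite X] {H K : Subgroup X}
    (h : ∀ x ∈ H, x ≠ 1 → x ∈ K ∧ orderOf x = 2) :
    Nat.card H ≤ Nat.card {x : X // x ∈ K ∧ orderOf x = 2} + 1 := by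
  have h1 : (H : Set X) ⊆ insert 1 {x | x ∈ K ∧ orderOf x = 2} := by
    intro x hx
    by_cases hx1 : x = 1
    · exact Or.inl hx1
    · exact Or.inr (h x hx hx1)
  have h2 := Set.ncard_le_ncard h1 (Set.toFinite _)
  exact h2.trans (Set.ncard_insert_le _ _)

theorem card_eq_succ {X : Type*} [Group X] [Finite X] {H : Subgroup X}
    (h : ∀ x ∈ H, x ≠ 1 → orderOf x = 2) :
    Nat.card H = Nat.card {x : X // x ∈ H ∧ orderOf x = 2} + 1 := by
  have h1 : (H : Set X) = insert 1 {x | x ∈ H ∧ orderOf x = 2} := by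
    ext x
    constructor
    · intro hx
      by_cases hx1 : x = 1
      · exact Or.inl hx1
      · exact Or.inr ⟨hx, h x hx hx1⟩
    · rintro (rfl | hx)
      · exact H.one_mem
      · exact hx.1
  have h2 : (H : Set X).ncard = (insert 1 {x | x ∈ H ∧ orderOf x = 2} : Set X).ncard := by rw [← h1]
  rw [Set.ncard_insert_of_notMem (by
    rintro ⟨-, h3⟩
    rw [orderOf_one] at h3; omega) (Set.toFinite _)] at h2
  exact h2

end card

section ff

variable {G : Type*} [Group G] [Finite G]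

/-- `C_Z(t)` -/
abbrev CZ (A : Subgroup G) (t : G) : Subgroup G := zeta A ⊓ centralizer ({t} : Set G)

theorem mem_CZ {A : Subgroup G} {t z : G} : z ∈ CZ A t ↔ z ∈ zeta A ∧ z * t = t * z := by
  rw [CZ, mem_inf, mem_cent]

theorem zeta_inv {A : Subgroup G} {z : G} (hz : z ∈ zeta A) : z⁻¹ = z :=
  inv_eq_of_mul_eq_one_left (mem_zeta.1 hz).2.1

theorem zeta_comm {A : Subgroup G} {z w : G} (hz : z ∈ zeta A) (hw : w ∈ zeta A) :
    z * w = w * z := (mem_zeta.1 hz).2.2 w (zeta_le A hw)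

theorem zeta_conj {A : Subgroup G} {g z : G} (hg : g ∈ NN A) (hz : z ∈ zeta A) :
    g * z * g⁻¹ ∈ zeta A := (mem_normalizer_iff.1 (le_normalizer_zeta A hg) z).1 hz

theorem Loc.sq (hG : IsCIT G) {A : Subgroup G} (h : Loc A) {t : G} (ht : t ∈ NN A) (htA : t ∉ A)
    (ht2 : t * t ∈ A) : Nat.card (zeta A) = Nat.card (CZ A t) ^ 2 ∧
      ∀ c ∈ CZ A t, ∃ z ∈ zeta A, z * (t * z * t⁻¹) = c := by
  classical
  have hAp := h.isPGroup
  obtain ⟨y, hy, hy1, hyo, a, ha, hta, htay⟩ := hG.exists_lift (L := NN A) (Q := A) le_normalizer hAp h.ne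
    le_rfl (fun N h1 h2 h3 => by rw [← h.o2]; exact le_O2 h1 h2 h3) ht ht2 htA
  set V := zeta A with hV
  letI : CommGroup V := { (inferInstance : Group V) with
    mul_comm := fun a b => Subtype.ext (zeta_comm a.2 b.2) }
  have htan : t * a ∈ NN V := le_normalizer_zeta A (mul_mem ht (le_normalizer ha))
  have hyn : y ∈ NN V := le_normalizer_zeta A hy
  let τ : MulAut V := V.normalizerMonoidHom ⟨t * a, htan⟩
  let η : MulAut V := V.normalizerMonoidHom ⟨y, hyn⟩
  have hτv : ∀ v : V, ((τ v : V) : G) = (t * a) * v * (t * a)⁻¹ := fun v => rfl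
  have hηv : ∀ v : V, ((η v : V) : G) = y * v * y⁻¹ := fun v => rfl
  have hτt : ∀ v : V, ((τ v : V) : G) = t * v * t⁻¹ := by
    intro v
    rw [hτv]
    have := Loc.zeta_le_Z v.2 ha
    calc t * a * (v : G) * (t * a)⁻¹ = t * (a * v) * a⁻¹ * t⁻¹ := by group
      _ = t * (v * a) * a⁻¹ * t⁻¹ := by rw [this]
      _ = t * v * t⁻¹ := by group
  obtain ⟨C, hC, hcard, hsurj⟩ := sq_aut (V := V) (fun v => Subtype.ext (mem_zeta.1 v.2).2.1) τ η
    (by
      intro v
      have h1 : τ (τ v) = (τ * τ) v := rfl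
      rw [h1]
      have h2 : τ * τ = 1 := by
        change V.normalizerMonoidHom ⟨t * a, htan⟩ * V.normalizerMonoidHom ⟨t * a, htan⟩ = 1
        rw [← map_mul]
        have : (⟨t * a, htan⟩ : NN V) * ⟨t * a, htan⟩ = 1 := Subtype.ext (mul_self hta)
        rw [this, map_one]
      rw [h2]; rfl)
    (by
      intro v
      have h1 : τ (η (τ v)) = (τ * η * τ) v := rfl
      rw [h1]
      congr 1
      change V.normalizerMonoidHom ⟨t * a, htan⟩ * V.normalizerMonoidHom ⟨y, hyn⟩ *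
        V.normalizerMonoidHom ⟨t * a, htan⟩ = (V.normalizerMonoidHom ⟨y, hyn⟩)⁻¹
      rw [← map_mul, ← map_mul, ← map_inv]
      congr 1
      apply Subtype.ext
      have := inv_eq_self hta
      change (t * a) * y * (t * a) = y⁻¹
      rw [← htay, this])
    (by
      intro v hv
      by_contra hv1
      have h1 : ((η (η v) : V) : G) = v := by rw [hv]
      rw [hηv, hηv] at h1
      have h2 : (y * y) * (v : G) = v * (y * y) := by
        rw [← mul_inv_eq_iff_eq_mul]
        calc y * y * (v : G) * (y * y)⁻¹ = y * (y * v * y⁻¹) * y⁻¹ := by group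
          _ = v := h1
      have h3 : y * y = 1 := by
        refine hG.eq_one hAp (zeta_le A v.2) (fun h => hv1 (Subtype.ext h)) ?_ h2
        rw [← pow_two]
        have : orderOf (y ^ 2) ∣ orderOf y := orderOf_pow_dvd 2
        exact hyo.of_dvd_nat this
      apply hy1
      have h4 : orderOf y ∣ 2 := orderOf_dvd_of_pow_eq_one (by rw [pow_two]; exact h3)
      rcases (Nat.dvd_prime Nat.prime_two).1 h4 with h5 | h5
      · exact orderOf_eq_one_iff.1 h5
      · rw [h5] at hyo; exact absurd hyo (by decide))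
  have hCC : C.map V.subtype = CZ A t := by
    ext x
    rw [mem_CZ]
    constructor
    · rintro ⟨v, hv, rfl⟩
      have h1 : τ v = v := (hC v).1 hv
      have h2 := hτt v
      rw [h1] at h2
      refine ⟨v.2, ?_⟩
      have h3 := eq_mul_inv_iff_mul_eq.1 h2
      exact h3
    · rintro ⟨h1, h2⟩
      refine ⟨⟨x, h1⟩, (hC _).2 (Subtype.ext ?_), rfl⟩
      rw [hτt]
      exact mul_inv_eq_iff_eq_mul.2 h2.symm
  have hCcard : Nat.card C = Nat.card (CZ A t) := by
    rw [← hCC]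
    exact Nat.card_congr (Subgroup.equivMapOfInjective C V.subtype V.subtype_injective).toEquiv
  refine ⟨by rw [hcard, hCcard], ?_⟩
  intro c hc
  rw [← hCC] at hc
  obtain ⟨c, hc, rfl⟩ := hc
  obtain ⟨v, hv⟩ := hsurj c hc
  refine ⟨v, v.2, ?_⟩
  rw [← hτt, ← hv]; rfl

theorem zeta_syl_card_ge (hG : IsCIT G) {A T : Subgroup G} (h : Loc A) (hT : IsSyl 2 T (NN A))
    {n : ℕ} (hn : LData A T n) : n + 1 ≤ Nat.card (zeta T) := by
  classical
  obtain ⟨w, hw, hw1⟩ := exists_mem_ne_one (zeta_ne_bot hT.isPGroup (by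
    rintro h1
    have := h.le_syl hT
    rw [h1, le_bot_iff] at this
    exact h.ne this))
  set M : Subgroup G := NN A ⊓ NN T with hM
  have hTM : T ≤ M := le_inf hT.le le_normalizer
  have hcent : ∀ m ∈ M, m * w = w * m → m ∈ T := by
    intro m hm hmw
    have h1 : IsPGroup 2 (M ⊓ centralizer ({w} : Set G) : Subgroup G) :=
      (hG.cent_of_mem hT.isPGroup (zeta_le T hw) hw1).to_le inf_le_right
    have h2 : T ≤ M ⊓ centralizer ({w} : Set G) :=
      le_inf hTM (fun x hx => mem_cent.2 ((mem_zeta.1 hw).2.2 x hx).symm)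
    rw [← hT.eq_of_le h1 h2 (inf_le_left.trans inf_le_left)]
    exact ⟨hm, mem_cent.2 hmw⟩
  let Y := {x : zeta T // x ≠ 1}
  have hY : Nat.card Y + 1 = Nat.card (zeta T) := by
    have : Fintype (zeta T) := Fintype.ofFinite _
    rw [Nat.card_eq_fintype_card, Nat.card_eq_fintype_card, Fintype.card_subtype_compl,
      Fintype.card_subtype_eq]
    have : 0 < Fintype.card (zeta T) := Fintype.card_pos
    omega
  have hMZ : ∀ m ∈ M, m * w * m⁻¹ ∈ zeta T := fun m hm =>
    (mem_normalizer_iff.1 (le_normalizer_zeta T (mem_inf.1 hm).2) w).1 hw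
  let f : (M ⧸ T.subgroupOf M) → Y := fun c =>
    ⟨⟨(c.out : G) * w * (c.out : G)⁻¹, hMZ _ c.out.2⟩, by
      intro h1
      have h2 : (c.out : G) * w * (c.out : G)⁻¹ = 1 := congrArg Subtype.val h1
      apply hw1
      have : w = (c.out : G)⁻¹ * ((c.out : G) * w * (c.out : G)⁻¹) * (c.out : G) := by group
      rw [this, h2]; group⟩
  have hf : Function.Injective f := by
    intro c d hcd
    have h1 : (c.out : G) * w * (c.out : G)⁻¹ = (d.out : G) * w * (d.out : G)⁻¹ :=
      congrArg (fun z : Y => ((z : zeta T) : G)) hcd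
    rw [← c.out_eq, ← d.out_eq, QuotientGroup.eq]
    change ((c.out : G))⁻¹ * (d.out : G) ∈ T
    apply hcent _ (mul_mem (inv_mem c.out.2) d.out.2)
    calc (c.out : G)⁻¹ * (d.out : G) * w
        = (c.out : G)⁻¹ * ((d.out : G) * w * (d.out : G)⁻¹) * (d.out : G) := by group
      _ = (c.out : G)⁻¹ * ((c.out : G) * w * (c.out : G)⁻¹) * (d.out : G) := by rw [h1]
      _ = w * ((c.out : G)⁻¹ * (d.out : G)) := by group
  have h1 := Nat.card_le_card_of_injective f hf
  have h2 : Nat.card (M ⧸ T.subgroupOf M) = n := by rw [← hn.rel]; rfl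
  omega

/-- the conclusion of the FF lemma -/
structure FF (A T : Subgroup G) (n : ℕ) : Prop where
  ldata : LData A T n
  cardT : Nat.card T = Nat.card A * (n + 1)
  cardZ : Nat.card (zeta A) = (n + 1) ^ 2
  cardz : Nat.card (zeta T) = n + 1
  sq : ∀ t ∈ T, t * t ∈ A
  cent : ∀ t ∈ T, t ∉ A → ∀ z ∈ zeta A, z * t = t * z → z ∈ zeta T
  comm : ∀ t ∈ T, ∀ z ∈ zeta A, z * (t * z * t⁻¹) ∈ zeta T
  surj : ∀ t ∈ T, t ∉ A → ∀ c ∈ zeta T, ∃ z ∈ zeta A, z * (t * z * t⁻¹) = c

theorem Loc.ff (hG : IsCIT G) {A T B : Subgroup G} (h : Loc A)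
    (hT : IsSyl 2 T (NN A)) {n : ℕ} (hn : LData A T n) (hBT : B ≤ T) (hB2 : ∀ x ∈ B, x * x = 1)
    (hBA : ¬ B ≤ A)
    (hidx : (zeta A ⊓ centralizer (B : Set G)).relIndex (zeta A) ≤ A.relIndex B) :
    FF A T n ∧ A.relIndex B = n + 1 := by
  classical
  have hAT := h.le_syl hT
  have hTN := hT.le
  have hAp := h.isPGroup
  obtain ⟨t0, ht0, ht0A⟩ := SetLike.not_le_iff_exists.1 hBA
  have ht02 : t0 * t0 ∈ A := by rw [hB2 t0 ht0]; exact one_mem _
  obtain ⟨hm, -⟩ := h.sq hG (hTN (hBT ht0)) ht0A ht02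
  set m := Nat.card (CZ A t0) with hmdef
  have hmt : ∀ t ∈ T, t ∉ A → t * t ∈ A → Nat.card (CZ A t) = m := by
    intro t ht htA ht2
    obtain ⟨h1, -⟩ := h.sq hG (hTN ht) htA ht2
    rw [hm] at h1
    exact (Nat.pow_left_injective (n := 2) (by norm_num) h1).symm
  -- index bound
  have hB : A.relIndex B ≤ n + 1 := by
    have hBN : B ≤ NN A := hBT.trans hTN
    set B' := B.subgroupOf (NN A) with hB'
    have h1 := SubgroupTools.card_map_mul_card_inf_ker (pr A) B'
    have h2 : B' ⊓ (pr A).ker = (B ⊓ A).subgroupOf (NN A) := by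
      rw [ker_pr]; ext x; rfl
    rw [h2, hB', SubgroupTools.card_subgroupOf_of_le hBN,
      SubgroupTools.card_subgroupOf_of_le (inf_le_left.trans hBN), ← hB'] at h1
    have h3 := card_mul_rel (inf_le_left : B ⊓ A ≤ B)
    rw [inf_relIndex_left] at h3
    have h4 : A.relIndex B = Nat.card (B'.map (pr A)) := by
      have h5 : 0 < Nat.card (B ⊓ A : Subgroup G) := Nat.card_pos
      have h6 : Nat.card (B ⊓ A : Subgroup G) * A.relIndex B =
        Nat.card (B ⊓ A : Subgroup G) * Nat.card (B'.map (pr A)) := by rw [h3, ← h1, mul_comm]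
      exact Nat.eq_of_mul_eq_mul_left h5 h6
    rw [h4, ← hn.inv]
    apply card_le_succ
    rintro _ ⟨y, hy, rfl⟩ hx
    refine ⟨(pr_mem_bar hAT).2 (hBT hy), orderOf_two ?_ hx⟩
    rw [← map_mul, pr_eq_one]
    have h7 : ((y * y : NN A) : G) = 1 := hB2 _ hy
    rw [h7]
    exact one_mem _
  have hzge := zeta_syl_card_ge hG h hT hn
  have hzle : ∀ t ∈ T, zeta T ≤ CZ A t := by
    intro t ht z hz
    exact mem_CZ.2 ⟨h.zeta_syl_le hG hT hz, (mem_zeta.1 hz).2.2 t ht⟩
  have hzm : Nat.card (zeta T) ≤ m := Subgroup.card_le_of_le (hzle t0 (hBT ht0))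
  have hmC : m ≤ A.relIndex B := by
    set C := zeta A ⊓ centralizer (B : Set G) with hC
    have h1 : C ≤ CZ A t0 := by
      intro z hz
      exact mem_CZ.2 ⟨(mem_inf.1 hz).1, ((mem_centralizer_iff.1 (mem_inf.1 hz).2) t0 ht0).symm⟩
    have h2 := card_mul_rel (inf_le_left : C ≤ zeta A)
    have h3 : Nat.card C ≤ m := Subgroup.card_le_of_le h1
    rw [hm] at h2
    have hmpos : 0 < m := Nat.card_pos
    have h4 : m * m ≤ m * C.relIndex (zeta A) := by
      rw [← pow_two, ← h2]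
      exact Nat.mul_le_mul_right _ h3
    exact (Nat.le_of_mul_le_mul_left h4 hmpos).trans hidx
  have hBn : A.relIndex B = n + 1 := by omega
  have hmn : m = n + 1 := by omega
  have hzn : Nat.card (zeta T) = n + 1 := by omega
  have hCZ : ∀ t ∈ T, t ∉ A → t * t ∈ A → zeta T = CZ A t := by
    intro t ht htA ht2
    apply Subgroup.eq_of_le_of_card_ge (hzle t ht)
    rw [hmt t ht htA ht2]; omega
  -- central involution
  have hbne : bar A T ≠ ⊥ := by
    intro h1
    have h2 : pr A ⟨t0, hTN (hBT ht0)⟩ ∈ bar A T := (pr_mem_bar hAT).2 (hBT ht0)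
    rw [h1, mem_bot, pr_eq_one] at h2
    exact ht0A h2
  obtain ⟨zb, hzb, hzb1⟩ := exists_mem_ne_one (zeta_ne_bot (h.bar_syl hT).isPGroup hbne)
  obtain ⟨z, rfl⟩ := pr_surj A zb
  obtain ⟨hz1, hz2, hz3⟩ := mem_zeta.1 hzb
  have hzT : (z : G) ∈ T := (pr_mem_bar hAT).1 hz1
  have hzA : (z : G) ∉ A := fun h1 => hzb1 (pr_eq_one.2 h1)
  have hzz : (z : G) * z ∈ A := by
    rw [← map_mul] at hz2; exact pr_eq_one.1 hz2
  have hzc : ∀ t ∈ T, (t * (z : G))⁻¹ * ((z : G) * t) ∈ A := by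
    intro t ht
    have h1 := hz3 (pr A ⟨t, hTN ht⟩) ((pr_mem_bar hAT).2 ht)
    have h2 : pr A ((⟨t, hTN ht⟩ * z)⁻¹ * (z * ⟨t, hTN ht⟩)) = 1 := by
      rw [map_mul, map_inv, map_mul, map_mul, h1, inv_mul_cancel]
    exact pr_eq_one.1 h2
  have hcz : ∀ v ∈ zeta A, v * ((z : G) * v * (z : G)⁻¹) ∈ zeta T := by
    intro v hv
    rw [hCZ z hzT hzA hzz, mem_CZ]
    have hvz := zeta_conj z.2 hv
    refine ⟨mul_mem hv hvz, ?_⟩
    have h1 := Loc.zeta_le_Z hv hzz
    have h2 := zeta_comm hv hvz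
    calc v * ((z : G) * v * (z : G)⁻¹) * z = (z * v * (z : G)⁻¹) * v * z := by rw [h2]
      _ = z * v * (z : G)⁻¹ * (v * (z * z)) * (z : G)⁻¹ := by group
      _ = z * v * (z : G)⁻¹ * ((z * z) * v) * (z : G)⁻¹ := by rw [h1]
      _ = z * (v * (z * v * (z : G)⁻¹)) := by group
  have hcomm : ∀ t ∈ T, ∀ v ∈ zeta A, v * (t * v * t⁻¹) ∈ zeta T := by
    intro t ht v hv
    rw [hCZ z hzT hzA hzz, mem_CZ]
    have hvt := zeta_conj (hTN ht) hv
    have hvz := zeta_conj z.2 hv
    refine ⟨mul_mem hv hvt, ?_⟩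
    rw [eq_comm, ← mul_inv_eq_iff_eq_mul]
    -- goal: z * (v * v^t) * z⁻¹ = v * v^t
    set a := (t * (z : G))⁻¹ * ((z : G) * t) with ha
    have haA : a ∈ A := hzc t ht
    have hzt : (z : G) * t = t * z * a := by rw [ha]; group
    have hav : a * v = v * a := (Loc.zeta_le_Z hv haA).symm
    have e1 : (z : G) * (t * v * t⁻¹) * (z : G)⁻¹ = t * (z * v * (z : G)⁻¹) * t⁻¹ := by
      calc (z : G) * (t * v * t⁻¹) * (z : G)⁻¹ = (z * t) * v * (z * t)⁻¹ := by group
        _ = (t * z * a) * v * (t * z * a)⁻¹ := by rw [hzt]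
        _ = t * z * (a * v) * a⁻¹ * (z : G)⁻¹ * t⁻¹ := by group
        _ = t * z * (v * a) * a⁻¹ * (z : G)⁻¹ * t⁻¹ := by rw [hav]
        _ = t * (z * v * (z : G)⁻¹) * t⁻¹ := by group
    set vz := (z : G) * v * (z : G)⁻¹ with hvzdef
    set c := v * vz with hc
    have hcT : c ∈ zeta T := hcz v hv
    have hct : t * c * t⁻¹ = c := by
      rw [← (mem_zeta.1 hcT).2.2 t ht, mul_inv_cancel_right]
    have hvv : v * v = 1 := (mem_zeta.1 hv).2.1
    have hvz' : vz = v * c := by rw [hc, ← mul_assoc, hvv, one_mul]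
    calc (z : G) * (v * (t * v * t⁻¹)) * (z : G)⁻¹
        = (z * v * (z : G)⁻¹) * (z * (t * v * t⁻¹) * (z : G)⁻¹) := by group
      _ = vz * (t * vz * t⁻¹) := by rw [e1]
      _ = v * c * (t * (v * c) * t⁻¹) := by rw [hvz']
      _ = v * c * (t * v * t⁻¹ * (t * c * t⁻¹)) := by group
      _ = v * c * (t * v * t⁻¹ * c) := by rw [hct]
      _ = v * (c * (t * v * t⁻¹)) * c := by group
      _ = v * ((t * v * t⁻¹) * c) * c := by
          rw [(mem_zeta.1 hcT).2.2 (t * v * t⁻¹) (hAT (zeta_le A hvt))]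
      _ = v * (t * v * t⁻¹) * (c * c) := by group
      _ = v * (t * v * t⁻¹) := by rw [(mem_zeta.1 hcT).2.1, mul_one]
  have hsq : ∀ t ∈ T, t * t ∈ A := by
    intro t ht
    apply h.mem_of_cent hG (hTN (mul_mem ht ht))
    intro v hv
    have hc := hcomm t ht v hv
    have hvv : v * v = 1 := (mem_zeta.1 hv).2.1
    set c := v * (t * v * t⁻¹) with hcdef
    have hvt : t * v * t⁻¹ = v * c := by rw [hcdef, ← mul_assoc, hvv, one_mul]
    have hct : t * c * t⁻¹ = c := by
      rw [← (mem_zeta.1 hc).2.2 t ht, mul_inv_cancel_right]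
    rw [← mul_inv_eq_iff_eq_mul]
    calc t * t * v * (t * t)⁻¹ = t * (t * v * t⁻¹) * t⁻¹ := by group
      _ = t * (v * c) * t⁻¹ := by rw [hvt]
      _ = (t * v * t⁻¹) * (t * c * t⁻¹) := by group
      _ = v * c * c := by rw [hct, hvt]
      _ = v := by rw [mul_assoc, (mem_zeta.1 hc).2.1, mul_one]
  have hbarcard : Nat.card (bar A T) = n + 1 := by
    rw [← hn.inv]
    apply card_eq_succ
    rintro _ ⟨y, hy, rfl⟩ hx
    refine orderOf_two ?_ hx
    rw [← map_mul, pr_eq_one]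
    exact hsq _ hy
  refine ⟨⟨hn, ?_, ?_, hzn, hsq, ?_, hcomm, ?_⟩, hBn⟩
  · rw [card_bar hAT hTN, hbarcard]
  · rw [hm, hmn]
  · intro t ht htA z' hz' hzt
    rw [hCZ t ht htA (hsq t ht)]
    exact mem_CZ.2 ⟨hz', hzt⟩
  · intro t ht htA c hc
    rw [hCZ t ht htA (hsq t ht)] at hc
    exact (h.sq hG (hTN ht) htA (hsq t ht)).2 c hc

end ff

end Cfsg.Agent.Lib.CIT
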