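import Cfsg.Agent.Lib.CITStr4
import Cfsg.Agent.Lib.AltSix
import Cfsg.Agent.Lib.BaerSuzuki
import Cfsg.Agent.S0254

set_option autoImplicit false
set_option linter.all false

/-!
# CIT-groups (helper6): a CIT-group with a normal subgroup `A6` of index 2 has elements of order 8
-/

namespace Cfsg.Agent.Lib.CIT

namespace ASix

open Equiv Equiv.Perm

set_option maxRecDepth 100000 in
theorem card_inv_aux : (Finset.univ.filter
    (fun g : Perm (Fin 6) => (g * g = 1 ∧ g ≠ 1) ∧ sign g = 1)).card = 45 := by decide +kernel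

theorem card_inv : Nat.card {g : alternatingGroup (Fin 6) // orderOf g = 2} = 45 := by
  rw [← card_inv_aux, ← Fintype.card_coe, ← Nat.card_eq_fintype_card]
  refine Nat.card_congr ⟨fun g => ⟨g.1.1, ?_⟩, fun g => ⟨⟨g.1, ?_⟩, ?_⟩, fun g => rfl, fun g => rfl⟩
  · rw [Finset.mem_filter]
    refine ⟨Finset.mem_univ _, ⟨?_, ?_⟩, mem_alternatingGroup.1 g.1.2⟩
    · have h1 := pow_orderOf_eq_one g.1
      rw [g.2, pow_two] at h1
      exact congrArg Subtype.val h1
    · intro h
      have h1 : g.1 = 1 := Subtype.ext h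
      have h2 := g.2
      rw [h1, orderOf_one] at h2
      omega
  · exact mem_alternatingGroup.2 (Finset.mem_filter.1 g.2).2.2
  · have h1 := (Finset.mem_filter.1 g.2).2.1
    apply orderOf_eq_prime
    · exact Subtype.ext (by simpa [pow_two] using h1.1)
    · intro h
      exact h1.2 (congrArg Subtype.val h)

def c3 : Perm (Fin 6) := swap 0 1 * swap 1 2
def c33 : Perm (Fin 6) := swap 0 1 * swap 1 2 * (swap 3 4 * swap 4 5)
def c5 : Perm (Fin 6) := swap 0 1 * swap 1 2 * swap 2 3 * swap 3 4

theorem ct3 {g : Perm (Fin 6)} (ho : orderOf g = 3) : g.cycleType = {3} ∨ g.cycleType = {3, 3} := by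
  have := Fact.mk Nat.prime_three
  obtain ⟨n, hn⟩ := cycleType_prime_order (σ := g) (by rw [ho]; exact Nat.prime_three)
  rw [ho] at hn
  have h1 := sum_cycleType_le g
  rw [hn] at h1
  simp at h1
  have h3 : n = 0 ∨ n = 1 := by omega
  rcases h3 with rfl | rfl
  · left; rw [hn]; rfl
  · right; rw [hn]; rfl

theorem ct5 {g : Perm (Fin 6)} (ho : orderOf g = 5) : g.cycleType = {5} := by
  have := Fact.mk (show Nat.Prime 5 by norm_num)
  obtain ⟨n, hn⟩ := cycleType_prime_order (σ := g) (by rw [ho]; norm_num)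
  rw [ho] at hn
  have h1 := sum_cycleType_le g
  rw [hn] at h1
  simp at h1
  have h3 : n = 0 := by omega
  rw [hn, h3]; rfl

theorem ct_c3 : c3.cycleType = {3} := by
  rcases ct3 (g := c3) (orderOf_eq_prime (by decide +kernel) (by decide +kernel)) with h | h
  · exact h
  · exfalso
    have h1 := sum_cycleType c3
    rw [h] at h1
    have h2 : c3.support.card = 3 := by decide +kernel
    rw [h2] at h1
    simp at h1

theorem ct_c33 : c33.cycleType = {3, 3} := by
  rcases ct3 (g := c33) (orderOf_eq_prime (by decide +kernel) (by decide +kernel)) with h | h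
  · exfalso
    have h1 := sum_cycleType c33
    rw [h] at h1
    have h2 : c33.support.card = 6 := by decide +kernel
    rw [h2] at h1
    simp at h1
  · exact h

theorem ct_c5 : c5.cycleType = {5} := by
  haveI := Fact.mk (show Nat.Prime 5 by norm_num)
  exact ct5 (g := c5) (orderOf_eq_prime (by decide +kernel) (by decide +kernel))

theorem inv_of {y y0 : Perm (Fin 6)} (h : y.cycleType = y0.cycleType) (s0 : Perm (Fin 6)) (hs : sign s0 = 1)
    (hi : s0 * y0 * s0⁻¹ = y0⁻¹) : ∃ s : Perm (Fin 6), sign s = 1 ∧ s * y * s⁻¹ = y⁻¹ := by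
  obtain ⟨σ, hσ⟩ := isConj_iff.1 ((Equiv.Perm.isConj_iff_cycleType_eq).2 h)
  refine ⟨σ⁻¹ * s0 * σ, ?_, ?_⟩
  · rw [Equiv.Perm.sign_mul, Equiv.Perm.sign_mul, hs, mul_one, Equiv.Perm.sign_inv]
    exact Int.units_mul_self _
  · have h1 : y = σ⁻¹ * y0 * σ := by rw [← hσ]; group
    rw [h1]
    calc σ⁻¹ * s0 * σ * (σ⁻¹ * y0 * σ) * (σ⁻¹ * s0 * σ)⁻¹ = σ⁻¹ * (s0 * y0 * s0⁻¹) * σ := by group
      _ = σ⁻¹ * y0⁻¹ * σ := by rw [hi]
      _ = _ := by group

theorem inverted (y : alternatingGroup (Fin 6)) (hy : orderOf y = 3 ∨ orderOf y = 5) :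
    ∃ s : alternatingGroup (Fin 6), s * y * s⁻¹ = y⁻¹ := by
  have key : ∃ s : Perm (Fin 6), sign s = 1 ∧ s * (y : Perm (Fin 6)) * s⁻¹ = (y : Perm (Fin 6))⁻¹ := by
    rcases hy with hy | hy
    · rw [← Subgroup.orderOf_coe] at hy
      rcases ct3 hy with h | h
      · exact inv_of (h.trans ct_c3.symm) (swap 0 1 * swap 3 4) (by decide +kernel) (by decide +kernel)
      · exact inv_of (h.trans ct_c33.symm) (swap 0 1 * swap 3 4) (by decide +kernel) (by decide +kernel)
    · rw [← Subgroup.orderOf_coe] at hy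
      exact inv_of ((ct5 hy).trans ct_c5.symm) (swap 0 4 * swap 1 3) (by decide +kernel) (by decide +kernel)
  obtain ⟨s, h1, h2⟩ := key
  exact ⟨⟨s, mem_alternatingGroup.2 h1⟩, Subtype.ext h2⟩

theorem card_cent (t : alternatingGroup (Fin 6)) (ht : orderOf t = 2) :
    Nat.card (Subgroup.centralizer ({t} : Set (alternatingGroup (Fin 6)))) = 8 := by
  obtain ⟨e⟩ := AltSix.cent t ht
  rw [Nat.card_congr e.toEquiv, DihedralGroup.nat_card]

theorem cent_nc (t : alternatingGroup (Fin 6)) (ht : orderOf t = 2) :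
    ∃ a b : alternatingGroup (Fin 6), a * t = t * a ∧ b * t = t * b ∧ a * b ≠ b * a := by
  obtain ⟨e⟩ := AltSix.cent t ht
  refine ⟨(e.symm (DihedralGroup.r 1) : alternatingGroup (Fin 6)), (e.symm (DihedralGroup.sr 0) : alternatingGroup (Fin 6)),
    Subgroup.mem_centralizer_singleton_iff.1 (e.symm _).2, Subgroup.mem_centralizer_singleton_iff.1 (e.symm _).2, ?_⟩
  intro h
  have h1 : e.symm (DihedralGroup.r 1) * e.symm (DihedralGroup.sr 0) = e.symm (DihedralGroup.sr 0) * e.symm (DihedralGroup.r 1) :=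
    Subtype.ext h
  rw [← map_mul, ← map_mul] at h1
  have h2 := e.symm.injective h1
  exact absurd h2 (by decide)

end ASix

open Subgroup SylowRel StrongEmbPt

variable {G : Type*} [Group G] [Finite G]

/-- the group `M10`: elements of order 8 -/
theorem IsCIT.exists_eight (hG : IsCIT G) (hO : Cfsg.pCore 2 G = ⊥) {N : Subgroup G} (hN : N.Normal) (hidx : N.index = 2)
    (e : N ≃* alternatingGroup (Fin 6)) : ∃ g : G, orderOf g = 8 := by
  classical
  haveI : Fact (Nat.Prime 2) := ⟨Nat.prime_two⟩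
  by_contra h8
  push Not at h8
  have hmul : ∀ a b : G, a ∉ N → b ∉ N → a * b ∈ N := by
    intro a b ha hb
    rw [Subgroup.mul_mem_iff_of_index_two hidx]
    simp [ha, hb]
  have hoddN : ∀ x : G, Odd (orderOf x) → x ∈ N := by
    intro x hx
    obtain ⟨c, hc⟩ := hx
    by_contra hxN
    have h1 : x ^ (2 * c) ∈ N := by
      rw [pow_mul]
      exact N.pow_mem (by rw [pow_two]; exact hmul x x hxN hxN) c
    have h2 : x ^ (2 * c + 1) = 1 := by rw [← hc, pow_orderOf_eq_one]
    rw [pow_succ] at h2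
    have h3 : x = (x ^ (2 * c))⁻¹ := by
      rw [eq_inv_iff_mul_eq_one, ← h2]
      exact (Commute.pow_self x (2 * c)).symm
    exact hxN (by rw [h3]; exact N.inv_mem h1)
  have hcN : Nat.card N = 360 := by rw [Nat.card_congr e.toEquiv, AltSix.card_A6]
  -- no involutions outside `N`
  have hinv : ∀ t : G, orderOf t = 2 → t ∈ N := by
    intro t ht
    by_contra htN
    obtain ⟨h, h1, hodd, hth⟩ := BaerSuzuki.exists_inverted_odd t ht (by
      intro N' hN' hp htN'
      have h1 := Fitting.le_pCore 2 hN' hp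
      rw [hO, le_bot_iff] at h1
      rw [h1, mem_bot] at htN'
      rw [htN', orderOf_one] at ht; omega)
    obtain ⟨r, hr, hrd⟩ := Nat.exists_prime_and_dvd (n := orderOf h) (fun h2 => h1 (orderOf_eq_one_iff.1 h2))
    set y := h ^ (orderOf h / r) with hy
    have hyo : orderOf y = r := orderOf_pow_orderOf_div (orderOf_pos h).ne' hrd
    have hty : t * y * t⁻¹ = y⁻¹ := by
      rw [hy, ← conj_pow, hth, inv_pow]
    have hr2 : Odd r := hodd.of_dvd_nat hrd
    have hyN : y ∈ N := hoddN y (by rw [hyo]; exact hr2)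
    have hr35 : r = 3 ∨ r = 5 := by
      have h3 : r ∣ 360 := by
        rw [← hcN, ← hyo]
        exact Subgroup.orderOf_dvd_natCard N hyN
      have h4 : (360 : ℕ) = 2 ^ 3 * (3 ^ 2 * 5) := by norm_num
      rw [h4] at h3
      rcases (hr.dvd_mul).1 h3 with h5 | h5
      · have := (Nat.prime_dvd_prime_iff_eq hr Nat.prime_two).1 (hr.dvd_of_dvd_pow h5)
        rw [this] at hr2
        exact absurd hr2 (by decide)
      · rcases (hr.dvd_mul).1 h5 with h5 | h5
        · exact Or.inl ((Nat.prime_dvd_prime_iff_eq hr Nat.prime_three).1 (hr.dvd_of_dvd_pow h5))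
        · exact Or.inr ((Nat.prime_dvd_prime_iff_eq hr (by norm_num)).1 h5)
    obtain ⟨s, hs⟩ := ASix.inverted (e ⟨y, hyN⟩) (by
      rw [MulEquiv.orderOf_eq, Subgroup.orderOf_mk, hyo]; exact hr35)
    set s' : G := ((e.symm s : N) : G) with hs'
    have hsN : s' ∈ N := (e.symm s).2
    have hsy : s' * y * s'⁻¹ = y⁻¹ := by
      have h2 : e.symm s * ⟨y, hyN⟩ * (e.symm s)⁻¹ = (⟨y, hyN⟩ : N)⁻¹ := by
        apply e.injective
        rw [map_mul, map_mul, map_inv, map_inv, MulEquiv.apply_symm_apply]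
        exact hs
      exact congrArg Subtype.val h2
    have hc : t * s' ∈ centralizer ((zpowers y : Subgroup G) : Set G) := by
      rw [mem_centralizer_iff]
      intro z hz
      obtain ⟨k, rfl⟩ := mem_zpowers_iff.1 hz
      have h2 : t * s' * y * (t * s')⁻¹ = y := by
        calc t * s' * y * (t * s')⁻¹ = t * (s' * y * s'⁻¹) * t⁻¹ := by group
          _ = (t * y * t⁻¹)⁻¹ := by rw [hsy]; group
          _ = y := by rw [hty, inv_inv]
      have h3 : t * s' * y = y * (t * s') := by
        rw [mul_inv_eq_iff_eq_mul] at h2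
        exact h2
      exact ((show Commute (t * s') y from h3).zpow_right k).symm
    have hoc := hG.odd_cent (R := zpowers y) (by rw [Nat.card_zpowers, hyo]; exact hr2) (by
      rw [Ne, zpowers_eq_bot]
      intro h2
      rw [h2, orderOf_one] at hyo
      exact hr.one_lt.ne hyo)
    have h4 : t * s' ∈ N := hoddN _ (odd_orderOf hoc hc)
    exact htN ((N.mul_mem_cancel_right hsN).1 h4)
  -- squares
  have hord : ∀ x : G, x ∉ N → orderOf (x * x) = 2 := by
    intro x hx
    have hev : Even (orderOf x) := by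
      by_contra h
      exact hx (hoddN x (Nat.not_even_iff_odd.1 h))
    obtain ⟨k, hk⟩ := hG.pow_two_of_even hev
    have hk3 : k < 3 := by
      by_contra h
      have h1 : orderOf (x ^ 2 ^ (k - 3)) = 8 := by
        have h2 := orderOf_pow_orderOf_div (x := x) (n := 8) (orderOf_pos x).ne' (by
          rw [hk]; exact pow_dvd_pow 2 (show 3 ≤ k by omega))
        rw [← h2, hk]
        congr 2
        obtain ⟨j, rfl⟩ : ∃ j, k = j + 3 := ⟨k - 3, by omega⟩
        rw [Nat.add_sub_cancel, pow_add]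
        norm_num
      exact h8 _ h1
    have hk2 : k = 2 := by
      rcases (show k = 0 ∨ k = 1 ∨ k = 2 by omega) with rfl | rfl | rfl
      · rw [pow_zero] at hk
        rw [hk] at hev
        exact absurd hev (by decide)
      · exact absurd (hinv x (by simpa using hk)) hx
      · rfl
    rw [← pow_two, orderOf_pow, hk, hk2]
    norm_num
  -- pigeonhole
  haveI : Fintype G := Fintype.ofFinite G
  set X : Finset G := Finset.univ.filter (fun x => x ∉ N) with hX
  set I : Finset G := Finset.univ.filter (fun s => s ∈ N ∧ orderOf s = 2) with hI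
  have hXc : X.card = 360 := by
    have h1 : Nat.card G = 720 := by rw [← N.card_mul_index, hcN, hidx]
    have h2 : (Finset.univ.filter (fun x : G => x ∈ N)).card = 360 := by
      rw [← hcN, Nat.card_eq_fintype_card, ← Fintype.card_coe]
      refine Fintype.card_congr ⟨fun x => ⟨x.1, (Finset.mem_filter.1 x.2).2⟩, fun x => ⟨x.1, by simp⟩, fun x => rfl, fun x => rfl⟩
    have h3 := Finset.card_filter_add_card_filter_not (s := (Finset.univ : Finset G)) (fun x : G => x ∈ N)
    rw [h2, Finset.card_univ, ← Nat.card_eq_fintype_card, h1] at h3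
    rw [hX]
    omega
  have hIc : I.card = 45 := by
    rw [← ASix.card_inv, ← Fintype.card_coe, ← Nat.card_eq_fintype_card]
    refine Nat.card_congr ⟨fun s => ⟨e ⟨s.1, (Finset.mem_filter.1 s.2).2.1⟩, ?_⟩, fun s => ⟨(e.symm s.1 : N), ?_⟩, ?_, ?_⟩
    · rw [MulEquiv.orderOf_eq, Subgroup.orderOf_mk]
      exact (Finset.mem_filter.1 s.2).2.2
    · rw [Finset.mem_filter]
      refine ⟨Finset.mem_univ _, (e.symm s.1).2, ?_⟩
      rw [Subgroup.orderOf_coe, MulEquiv.orderOf_eq]
      exact s.2
    · intro s; simp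
    · intro s; simp
  have hf : ∀ x ∈ X, x * x ∈ I := by
    intro x hx
    have hx' := (Finset.mem_filter.1 hx).2
    rw [hI, Finset.mem_filter]
    exact ⟨Finset.mem_univ _, hmul x x hx' hx', hord x hx'⟩
  have hIn : I.Nonempty := by rw [← Finset.card_pos, hIc]; norm_num
  obtain ⟨s, hs, h8s⟩ := Finset.exists_le_card_fiber_of_mul_le_card_of_maps_to (f := fun x => x * x) (n := 8) hf hIn
    (by rw [hXc, hIc])
  obtain ⟨-, hsN, hso⟩ := Finset.mem_filter.1 hs
  set F : Finset G := X.filter (fun x => x * x = s) with hF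
  obtain ⟨x0, hx0⟩ : F.Nonempty := by rw [← Finset.card_pos]; omega
  have hx0N : x0 ∉ N := (Finset.mem_filter.1 (Finset.mem_filter.1 hx0).1).2
  have hx0s : x0 * x0 = s := (Finset.mem_filter.1 hx0).2
  -- the centralizer of s in N
  set C : Finset G := Finset.univ.filter (fun d => d ∈ N ∧ d * s = s * d) with hC
  have hes : orderOf (e ⟨s, hsN⟩) = 2 := by rw [MulEquiv.orderOf_eq, Subgroup.orderOf_mk, hso]
  have hCc : C.card = 8 := by
    rw [← ASix.card_cent _ hes, ← Fintype.card_coe, ← Nat.card_eq_fintype_card]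
    refine Nat.card_congr ⟨fun d => ⟨e ⟨d.1, (Finset.mem_filter.1 d.2).2.1⟩, ?_⟩, fun d => ⟨(e.symm d.1 : N), ?_⟩, ?_, ?_⟩
    · rw [Subgroup.mem_centralizer_singleton_iff, ← map_mul, ← map_mul]
      congr 1
      exact Subtype.ext (Finset.mem_filter.1 d.2).2.2
    · rw [Finset.mem_filter]
      refine ⟨Finset.mem_univ _, (e.symm d.1).2, ?_⟩
      have h1 := Subgroup.mem_centralizer_singleton_iff.1 d.2
      have h2 : e.symm d.1 * ⟨s, hsN⟩ = ⟨s, hsN⟩ * e.symm d.1 := by
        apply e.injective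
        rw [map_mul, map_mul, MulEquiv.apply_symm_apply]
        exact h1
      exact congrArg Subtype.val h2
    · intro d; simp
    · intro d; simp
  have hsub : F ⊆ C.image (fun d => x0 * d) := by
    intro x hx
    have hxN : x ∉ N := (Finset.mem_filter.1 (Finset.mem_filter.1 hx).1).2
    have hxs : x * x = s := (Finset.mem_filter.1 hx).2
    rw [Finset.mem_image]
    refine ⟨x0⁻¹ * x, ?_, by group⟩
    rw [Finset.mem_filter]
    refine ⟨Finset.mem_univ _, hmul _ _ (by simpa using hx0N) hxN, ?_⟩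
    have h1 : x * s = s * x := by rw [← hxs, mul_assoc]
    have h2 : x0 * s = s * x0 := by rw [← hx0s, mul_assoc]
    have h3 : x0⁻¹ * s = s * x0⁻¹ := by
      rw [inv_mul_eq_iff_eq_mul, ← mul_assoc, h2, mul_assoc, mul_inv_cancel, mul_one]
    rw [mul_assoc, h1, ← mul_assoc, h3, mul_assoc]
  have heq : F = C.image (fun d => x0 * d) := by
    apply Finset.eq_of_subset_of_card_le hsub
    rw [Finset.card_image_of_injective _ (mul_right_injective x0), hCc]
    exact h8s
  have hconj : ∀ d : G, d ∈ N → d * s = s * d → x0 * d * x0⁻¹ = d⁻¹ := by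
    intro d hd hds
    have h1 : x0 * d ∈ F := by
      rw [heq]
      exact Finset.mem_image_of_mem _ (by rw [hC, Finset.mem_filter]; exact ⟨Finset.mem_univ _, hd, hds⟩)
    have h2 : x0 * d * (x0 * d) = s := (Finset.mem_filter.1 h1).2
    rw [← hx0s] at h2
    have h3 : d * (x0 * d) = x0 := by
      have : x0 * (d * (x0 * d)) = x0 * x0 := by rw [← h2]; group
      exact mul_left_cancel this
    have h4 : x0 * d = d⁻¹ * x0 := by
      rw [eq_inv_mul_iff_mul_eq]; exact h3
    rw [h4, mul_assoc, mul_inv_cancel, mul_one]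
  obtain ⟨a, b, ha, hb, hab⟩ := ASix.cent_nc _ hes
  have tr : ∀ a : alternatingGroup (Fin 6), a * e ⟨s, hsN⟩ = e ⟨s, hsN⟩ * a →
      ((e.symm a : N) : G) * s = s * ((e.symm a : N) : G) := by
    intro a ha
    have h2 : e.symm a * ⟨s, hsN⟩ = ⟨s, hsN⟩ * e.symm a := by
      apply e.injective
      rw [map_mul, map_mul, MulEquiv.apply_symm_apply]
      exact ha
    exact congrArg Subtype.val h2
  have ha' := tr a ha
  have hb' := tr b hb
  set u : G := ((e.symm a : N) : G) with hu
  set v : G := ((e.symm b : N) : G) with hv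
  have huN : u ∈ N := (e.symm a).2
  have hvN : v ∈ N := (e.symm b).2
  have h1 := hconj u huN ha'
  have h2 := hconj v hvN hb'
  have h3 := hconj (u * v) (N.mul_mem huN hvN) (by rw [mul_assoc, hb', ← mul_assoc, ha', mul_assoc])
  have h4 : u⁻¹ * v⁻¹ = (u * v)⁻¹ := by
    rw [← h1, ← h2, ← h3]; group
  have h5 : u * v = v * u := by
    have := congrArg (·⁻¹) h4
    simp only [mul_inv_rev, inv_inv] at this
    exact this.symm
  apply hab
  have h6 : e.symm a * e.symm b = e.symm b * e.symm a := Subtype.ext h5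
  have h7 := congrArg e h6
  simpa using h7

end Cfsg.Agent.Lib.CIT
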