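import Cfsg.Agent.Lib.CITMod
import Cfsg.Agent.Lib.CITTen
import Cfsg.Agent.Lib.CITEppo3
import Cfsg.Agent.Lib.H58AltSpec

set_option autoImplicit false
set_option linter.all false

/-!
# CIT-groups (helper6): groups with element orders 1, 2, 3, 4, 5
-/

namespace Cfsg.Agent.Lib.CIT

open Subgroup SylowRel StrongEmbPt

variable {G : Type*} [Group G] [Finite G]

theorem primePow_le_five {n : ℕ} (h1 : 1 < n) (h5 : n ≤ 5) : IsPrimePow n := by
  rcases (show n = 2 ∨ n = 3 ∨ n = 4 ∨ n = 5 by omega) with rfl | rfl | rfl | rfl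
  · exact Nat.prime_two.isPrimePow
  · exact Nat.prime_three.isPrimePow
  · exact (Nat.prime_two.isPrimePow).pow (show (2 : ℕ) ≠ 0 by norm_num)
  · exact (show Nat.Prime 5 by norm_num).isPrimePow

theorem prime_dvd_le_five (h : ∀ g : G, orderOf g ≤ 5) {p : ℕ} (hp : p.Prime) (hd : p ∣ Nat.card G) : p ≤ 5 := by
  haveI : Fact p.Prime := ⟨hp⟩
  obtain ⟨g, hg⟩ := exists_prime_orderOf_dvd_card' p hd
  rw [← hg]; exact h g

theorem card_seven {K : Type*} [Field K] [Fintype K] (hK : Fintype.card K = 7) :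
    Nat.card (Matrix.ProjectiveSpecialLinearGroup (Fin 2) K) = 168 := by
  have h3 := ClSLn.card_PSL_formula (F := K) hK 2 (by norm_num)
  norm_num [Finset.prod_range_succ] at h3
  omega

theorem card_eight {K : Type*} [Field K] [Fintype K] (hK : Fintype.card K = 8) :
    Nat.card (Matrix.ProjectiveSpecialLinearGroup (Fin 2) K) = 504 := by
  have h3 := ClSLn.card_PSL_formula (F := K) hK 2 (by norm_num)
  norm_num [Finset.prod_range_succ] at h3
  omega

theorem card_seventeen {K : Type*} [Field K] [Fintype K] (hK : Fintype.card K = 17) :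
    Nat.card (Matrix.ProjectiveSpecialLinearGroup (Fin 2) K) = 2448 := by
  have h3 := ClSLn.card_PSL_formula (F := K) hK 2 (by norm_num)
  norm_num [Finset.prod_range_succ] at h3
  omega

theorem card_three_four {K : Type*} [Field K] [Fintype K] (hK : Fintype.card K = 4) :
    Nat.card (Matrix.ProjectiveSpecialLinearGroup (Fin 3) K) = 20160 := by
  have h3 := ClSLn.card_PSL_formula (F := K) hK 3 (by norm_num)
  norm_num [Finset.prod_range_succ] at h3
  omega

/-- **Groups with element orders 1, 2, 3, 4, 5.** -/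
theorem five_main (h : Set.range (orderOf : G → ℕ) = {k : ℕ | 1 ≤ k ∧ k ≤ 5}) :
    IsCIT G ∧ (Nonempty (G ≃* alternatingGroup (Fin 6)) ∨
      (Cfsg.pCore 2 G ≠ ⊥ ∧ ∃ _ : (Cfsg.pCore 2 G).Normal, ∃ (F : Type) (_ : Field F) (_ : Fintype F) (_ : CharP F 2),
        Fintype.card F = 4 ∧ Nonempty (G ⧸ Cfsg.pCore 2 G ≃* Matrix.ProjectiveSpecialLinearGroup (Fin 2) F))) := by
  classical
  have hle : ∀ g : G, orderOf g ≤ 5 := by
    intro g
    have h1 : orderOf g ∈ Set.range (orderOf : G → ℕ) := ⟨g, rfl⟩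
    rw [h] at h1
    exact h1.2
  have hex : ∀ k : ℕ, 1 ≤ k → k ≤ 5 → ∃ g : G, orderOf g = k := by
    intro k h1 h2
    have h3 : k ∈ Set.range (orderOf : G → ℕ) := by rw [h]; exact ⟨h1, h2⟩
    exact h3
  have hE : ∀ g : G, g ≠ 1 → IsPrimePow (orderOf g) := by
    intro g hg
    apply primePow_le_five _ (hle g)
    have h1 := orderOf_pos g
    have h2 : orderOf g ≠ 1 := fun h => hg (orderOf_eq_one_iff.1 h)
    omega
  have hcit := cit_of_eppo hE
  have hdvd : ∀ k : ℕ, 1 ≤ k → k ≤ 5 → k ∣ Nat.card G := by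
    intro k h1 h2
    obtain ⟨g, hg⟩ := hex k h1 h2
    rw [← hg]; exact orderOf_dvd_natCard g
  have hns : ¬ Group.IsSolvable G := by
    intro hs
    have h1 := EPPO.card_primeFactors_le (H := G) hE
    have h2 : ({2, 3, 5} : Finset ℕ) ⊆ (Nat.card G).primeFactors := by
      intro p hp
      simp only [Finset.mem_insert, Finset.mem_singleton] at hp
      rw [Nat.mem_primeFactors]
      rcases hp with rfl | rfl | rfl
      · exact ⟨by norm_num, hdvd _ (by norm_num) (by norm_num), Nat.card_pos.ne'⟩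
      · exact ⟨by norm_num, hdvd _ (by norm_num) (by norm_num), Nat.card_pos.ne'⟩
      · exact ⟨by norm_num, hdvd _ (by norm_num) (by norm_num), Nat.card_pos.ne'⟩
    have h3 := Finset.card_le_card h2
    have h4 : ({2, 3, 5} : Finset ℕ).card = 3 := by decide
    omega
  refine ⟨hcit, ?_⟩
  have h7 : ¬ 7 ∣ Nat.card G := fun h => by
    have := prime_dvd_le_five hle (show Nat.Prime 7 by norm_num) h; omega
  have h31 : ¬ 31 ∣ Nat.card G := fun h => by
    have := prime_dvd_le_five hle (show Nat.Prime 31 by norm_num) h; omega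
  have h17 : ¬ 17 ∣ Nat.card G := fun h => by
    have := prime_dvd_le_five hle (show Nat.Prime 17 by norm_num) h; omega
  rcases hcit.structure hns with hs | ⟨hO, N, hN, hidx, F', i1, i2, hF', ⟨e⟩⟩ | ⟨hO, hn, hs, hcq, hTI, hnsq⟩
  · left
    have hna := not_comm_of_not_solvable hns
    rcases eppo_simple hna hE with ⟨K, i1, i2, hK, ⟨e⟩⟩ | ⟨K, i1, i2, hK, ⟨e⟩⟩ | ⟨K, i1, i2, hK⟩
    · simp only [Finset.mem_insert, Finset.mem_singleton] at hK
      rcases hK with hK | hK | hK | hK | hK
      · exfalso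
        -- PSL2(4) has no elements of order 4
        obtain ⟨p, hchar⟩ := CharP.exists K
        obtain ⟨f, hp, hpf⟩ := FiniteField.card K p
        haveI : Fact p.Prime := ⟨hp⟩
        have hspec := PSL2Orders.spectrum (F := K) p
        have hp2 : p = 2 := by
          have h1 : p ∣ 2 ^ 2 := by
            have : p ∣ p ^ (f : ℕ) := dvd_pow_self p f.pos.ne'
            rw [← hpf, hK] at this
            simpa using this
          exact (Nat.prime_dvd_prime_iff_eq hp Nat.prime_two).1 (hp.dvd_of_dvd_pow h1)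
        obtain ⟨g, hg⟩ := hex 4 (by norm_num) (by norm_num)
        have h1 : 4 ∈ Set.range (orderOf : Matrix.ProjectiveSpecialLinearGroup (Fin 2) K → ℕ) :=
          ⟨e g, by rw [MulEquiv.orderOf_eq, hg]⟩
        rw [hspec, hp2, hK] at h1
        rcases h1 with h1 | h1 | h1 <;> · revert h1; norm_num
      · exfalso; apply h7
        rw [Nat.card_congr e.toEquiv]
        rw [card_seven hK]; norm_num
      · exfalso; apply h7
        rw [Nat.card_congr e.toEquiv]
        rw [card_eight hK]; norm_num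
      · obtain ⟨f⟩ := Cfsg.Agent.S0254.result hK
        exact ⟨e.trans f⟩
      · exfalso; apply h17
        rw [Nat.card_congr e.toEquiv]
        rw [card_seventeen hK]; norm_num
    · exfalso; apply h7
      rw [Nat.card_congr e.toEquiv]
      rw [card_three_four hK]; norm_num
    · exfalso
      rcases hK with ⟨hK, ⟨e⟩⟩ | ⟨hK, ⟨e⟩⟩
      · have hF' : Fintype.card K = 2 ^ (2 * 1 + 1) := by rw [hK]; norm_num
        have hchar : CharP K 2 := SuzukiFin.charTwo hF'
        have e2 := SuzukiLie.szEquiv (F := K) 1 le_rfl hF'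
        apply h7
        rw [Nat.card_congr (e.trans e2.symm).toEquiv]
        have h1 := SuzukiGroup.card_G (SuzukiFin.th K 1) (SuzukiFin.th_sq hF') (SuzukiFin.th_ne le_rfl hF')
        have heq := SuzukiFin.Sz_eq (F := K) 1
        have h2 : Nat.card (Cfsg.Sz K 1) = Nat.card (SuzukiOvoid.Gz (SuzukiFin.th K 1)) := by rw [heq]
        rw [h2, h1, Nat.card_eq_fintype_card, hK]
        norm_num
      · have hF' : Fintype.card K = 2 ^ (2 * 2 + 1) := by rw [hK]; norm_num
        have hchar : CharP K 2 := SuzukiFin.charTwo hF'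
        have e2 := SuzukiLie.szEquiv (F := K) 2 (by norm_num) hF'
        apply h31
        rw [Nat.card_congr (e.trans e2.symm).toEquiv]
        have h1 := SuzukiGroup.card_G (SuzukiFin.th K 2) (SuzukiFin.th_sq hF') (SuzukiFin.th_ne (by norm_num) hF')
        have heq := SuzukiFin.Sz_eq (F := K) 2
        have h2 : Nat.card (Cfsg.Sz K 2) = Nat.card (SuzukiOvoid.Gz (SuzukiFin.th K 2)) := by rw [heq]
        rw [h2, h1, Nat.card_eq_fintype_card, hK]
        norm_num
  · exfalso
    obtain ⟨f⟩ := Cfsg.Agent.S0254.result hF'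
    obtain ⟨g, hg⟩ := hcit.exists_eight hO hN hidx (e.trans f)
    have := hle g
    omega
  · right
    refine ⟨hO, hn, ?_⟩
    have hna := not_comm_of_not_solvable hnsq
    have hqle : ∀ x : G ⧸ Cfsg.pCore 2 G, orderOf x ≤ 5 := by
      intro x
      obtain ⟨g, hg⟩ := exists_order_of_quot _ ⟨x, rfl⟩
      rw [← hg]; exact hle g
    have hqE := isPrimePow_quot (Cfsg.pCore 2 G) hE
    rcases ti_suz hna hcq hTI with ⟨F, i1, i2, hch, h4, ⟨e⟩⟩ | hsz
    · have h' : ∀ g : Matrix.ProjectiveSpecialLinearGroup (Fin 2) F, g ≠ 1 → IsPrimePow (orderOf g) := by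
        intro g hg
        have h2 := hqE (e.symm g) (fun h3 => hg (by simpa using h3))
        rwa [MulEquiv.orderOf_eq] at h2
      obtain ⟨n, hpf⟩ := card_eq_two_pow (F := F)
      have h1 := psl_eppo h' h4 (Or.inr (Or.inl ⟨_, hpf⟩))
      have hn0 : n ≠ 0 := by rintro rfl; rw [pow_zero] at hpf; omega
      have hev : Even (Fintype.card F) := by rw [hpf]; exact even_two.pow_of_ne_zero hn0
      obtain ⟨c, hc⟩ := hev
      have h2 : Fintype.card F = 4 ∨ Fintype.card F = 8 := by omega
      rcases h2 with h2 | h2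
      · exact ⟨F, i1, i2, hch, h2, ⟨e⟩⟩
      · exfalso
        obtain ⟨g, hg⟩ := nine_psl (Or.inl h2)
        have h3 := hqle (e.symm g)
        rw [MulEquiv.orderOf_eq, hg] at h3
        omega
    · exfalso
      obtain ⟨F, i1, i2, m, hm, hF, ⟨e⟩⟩ := SuzukiLie.isoSuzuki_iff.1 hsz
      have h12 := suz_eppo hm hF (by
        intro g hg
        have h2 := hqE (e.symm g) (fun h3 => hg (by simpa using h3))
        rwa [MulEquiv.orderOf_eq] at h2)
      have hchar : CharP F 2 := SuzukiFin.charTwo hF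
      have h1 := SuzukiGroup.card_G (SuzukiFin.th F m) (SuzukiFin.th_sq hF) (SuzukiFin.th_ne hm hF)
      have heq := SuzukiFin.Sz_eq (F := F) m
      have h2 : Nat.card (Cfsg.Sz F m) = Nat.card (SuzukiOvoid.Gz (SuzukiFin.th F m)) := by rw [heq]
      have h3 : Nat.card (G ⧸ Cfsg.pCore 2 G) = Nat.card F ^ 2 * (Nat.card F ^ 2 + 1) * (Nat.card F - 1) := by
        rw [Nat.card_congr e.toEquiv, h2, h1]
      rw [Nat.card_eq_fintype_card (α := F), hF] at h3
      have h4 : Nat.card (G ⧸ Cfsg.pCore 2 G) ∣ Nat.card G := Subgroup.card_quotient_dvd_card _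
      rcases h12 with rfl | rfl
      · apply h7
        apply dvd_trans _ h4
        rw [h3]; norm_num
      · apply h31
        apply dvd_trans _ h4
        rw [h3]; norm_num

end Cfsg.Agent.Lib.CIT
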