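import Cfsg.Agent.Lib.CITZass
import Cfsg.Agent.Lib.UniqueInvolution
import Cfsg.Agent.Lib.Cores
import Cfsg.Agent.Lib.Cores3
import Cfsg.Agent.S0205

/-!
# CIT-groups (helper6): sections of 2-local subgroups have TI Sylow 2-subgroups
-/

set_option autoImplicit false
set_option linter.all false

namespace Cfsg.Agent.Lib.CIT

open Subgroup SylowRel StrongEmbPt

universe u

section general

variable {G : Type*} [Group G]

theorem isPGroup_zpowers {x : G} {k : ℕ} (hk : x ^ 2 ^ k = 1) : IsPGroup 2 (zpowers x) := by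
  obtain ⟨j, -, hj⟩ := (Nat.dvd_prime_pow Nat.prime_two).1 (orderOf_dvd_of_pow_eq_one hk)
  exact IsPGroup.of_card (n := j) (by rw [Nat.card_zpowers, hj])

theorem exists_fixed [Finite G] {P : Subgroup G} (hP : IsPGroup 2 P) (hP1 : P ≠ ⊥) {x : G}
    (hx : x ∈ normalizer (P : Set G)) {k : ℕ} (hk : x ^ 2 ^ k = 1) :
    ∃ c ∈ P, c ≠ 1 ∧ x * c = c * x := by
  haveI : Fact (Nat.Prime 2) := ⟨Nat.prime_two⟩
  set R : Subgroup G := P ⊔ zpowers x with hR
  have hRp : IsPGroup 2 R :=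
    IsPGroup.to_sup_of_normal_left' hP (isPGroup_zpowers hk) (zpowers_le.2 hx)
  have hRn : R ≤ normalizer (P : Set G) := sup_le le_normalizer (zpowers_le.2 hx)
  have hn : (P.subgroupOf R).Normal := SubgroupTools.normal_subgroupOf_iff_le_normalizer' hRn
  have hPR : P ≤ R := le_sup_left
  have hne : P.subgroupOf R ≠ ⊥ := by
    intro h
    obtain ⟨u, hu, hu1⟩ := exists_mem_ne_one hP1
    have : (⟨u, hPR hu⟩ : R) ∈ P.subgroupOf R := hu
    rw [h, mem_bot] at this
    exact hu1 (congrArg Subtype.val this)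
  obtain ⟨z, hz, hz1, hzc⟩ := UniqueInvolution.exists_central_of_normal hRp _ hne
  refine ⟨z, hz, fun h => hz1 (Subtype.ext h), ?_⟩
  exact congrArg Subtype.val (hzc ⟨x, mem_sup_right (mem_zpowers x)⟩)

/-- TI Sylow `2`-subgroups -/
def TI2 (X : Type*) [Group X] : Prop :=
  ∀ P Q : Subgroup X, IsSyl 2 P ⊤ → IsSyl 2 Q ⊤ → P ≠ Q → P ⊓ Q = ⊥

/-- nontrivial odd order elements act without fixed points -/
def FPF {X V : Type*} [Group X] [CommGroup V] (φ : X →* MulAut V) : Prop :=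
  ∀ y : X, y ≠ 1 → Odd (orderOf y) → ∀ v : V, φ y v = v → v = 1

theorem FPF.comp {X V : Type*} [Group X] [CommGroup V] {φ : X →* MulAut V} (h : FPF φ)
    (N : Subgroup X) : FPF (φ.comp N.subtype) := by
  intro y hy hyo v hv
  exact h y (fun h1 => hy (Subtype.ext h1)) (by rw [orderOf_coe]; exact hyo) v hv

theorem TI2.isSyl {X : Type*} [Group X] {N : Subgroup X} (h : TI2 N) {P Q : Subgroup X}
    (hP : IsSyl 2 P N) (hQ : IsSyl 2 Q N) (hne : P ≠ Q) : P ⊓ Q = ⊥ := by
  obtain ⟨S, hS⟩ := hP.exists_sylow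
  obtain ⟨T, hT⟩ := hQ.exists_sylow
  have h1 := h _ _ (isSyl_top S) (isSyl_top T) (by
    rw [hS, hT]
    intro h1
    apply hne
    have h2 := congrArg (Subgroup.map N.subtype) h1
    rwa [map_subgroupOf_eq_of_le hP.le, map_subgroupOf_eq_of_le hQ.le] at h2)
  rw [hS, hT] at h1
  rw [eq_bot_iff]
  intro x hx
  have h2 : (⟨x, hP.le hx.1⟩ : N) ∈ (P.subgroupOf N ⊓ Q.subgroupOf N : Subgroup N) :=
    ⟨hx.1, hx.2⟩
  rw [h1, mem_bot] at h2
  exact congrArg Subtype.val h2

end general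

def NoFPF (E : Type u) [Group E] : Prop :=
  ∀ (V : Type u) [CommGroup V] [Finite V], (∀ v : V, v * v = 1) → (∃ v : V, v ≠ 1) →
    ∀ φ : E →* MulAut V, ¬ FPF φ

def Ind (N : ℕ) : Prop :=
  ∀ (E : Type u) [Group E] [Finite E] [IsSimpleGroup E], IsCIT E → (¬ ∀ a b : E, a * b = b * a) →
    Nat.card E < N → TI2 E ∨ NoFPF.{u} E

section fpf

variable {X V : Type u} [Group X] [Finite X] [CommGroup V] [Finite V]

theorem isCyclic_of_fpf {φ : X →* MulAut V} (h : FPF φ) (hV2 : ∀ v : V, v * v = 1)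
    (hV : ∃ v : V, v ≠ 1) {N : Subgroup X} (hN : IsMulCommutative N) (hNo : Odd (Nat.card N)) :
    IsCyclic N := by
  classical
  by_contra hnc
  let ψ : N →* MulAut V := φ.comp N.subtype
  let G' := V ⋊[ψ] N
  have hfin : Finite G' := Finite.of_equiv _ (SemidirectProduct.equivProd (φ := ψ)).symm
  let K : Subgroup G' := (SemidirectProduct.inl : V →* G').range
  let A : Subgroup G' := (SemidirectProduct.inr : N →* G').range
  have hKn : K.Normal := by
    have : K = (SemidirectProduct.rightHom : G' →* N).ker := SemidirectProduct.range_inl_eq_ker_rightHom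
    rw [this]; infer_instance
  have hAe : N ≃* A := MonoidHom.ofInjective SemidirectProduct.inr_injective
  have hA : IsMulCommutative A := by
    rw [isMulCommutative_iff]
    intro a b
    obtain ⟨a', rfl⟩ := hAe.surjective a
    obtain ⟨b', rfl⟩ := hAe.surjective b
    rw [← map_mul, ← map_mul, (isMulCommutative_iff.1 hN a' b')]
  have hAnc : ¬ IsCyclic A := fun hc => hnc (isCyclic_of_surjective hAe.symm.toMonoidHom hAe.symm.surjective)
  have hKcard : Nat.card K = Nat.card V :=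
    (Nat.card_congr (MonoidHom.ofInjective SemidirectProduct.inl_injective).toEquiv).symm
  have hVp : IsPGroup 2 V := fun v => ⟨1, by rw [pow_one, pow_two]; exact hV2 v⟩
  haveI : Fact (Nat.Prime 2) := ⟨Nat.prime_two⟩
  obtain ⟨k, hk⟩ := (IsPGroup.iff_card).1 hVp
  have hcop : (Nat.card A).Coprime (Nat.card K) := by
    rw [hKcard, hk, ← Nat.card_congr hAe.toEquiv]
    exact (Nat.coprime_two_right.2 hNo).pow_right k
  have h1 := CoprimeGen.iSup_centralizer_eq hA hAnc
    (by rw [normalizer_eq_top_iff.2 hKn]; exact le_top : A ≤ normalizer (K : Set G')) hcop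
  have h2 : K = ⊥ := by
    rw [← h1, eq_bot_iff]
    refine iSup₂_le ?_
    rintro a ⟨⟨n, rfl⟩, ha1⟩
    rintro x ⟨⟨v, rfl⟩, hx⟩
    have hn1 : n ≠ 1 := fun h => ha1 (by rw [h, map_one])
    have h3 : (SemidirectProduct.inr n : G') * SemidirectProduct.inl v * (SemidirectProduct.inr n)⁻¹ =
        SemidirectProduct.inl (ψ n v) := by
      rw [SemidirectProduct.inl_aut, map_inv]
    have h4 := mem_cent.1 hx
    rw [← h4, mul_inv_cancel_right] at h3
    have h5 := SemidirectProduct.inl_injective h3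
    have h6 := (h.comp N) n hn1 (hNo.of_dvd_nat (_root_.orderOf_dvd_natCard n)) v h5.symm
    rw [mem_bot, h6, map_one]
  obtain ⟨v, hv⟩ := hV
  have h3 : (SemidirectProduct.inl v : G') ∈ K := ⟨v, rfl⟩
  rw [h2, mem_bot] at h3
  exact hv (SemidirectProduct.inl_injective (by rw [h3, map_one]))

end fpf

/-- strongly embedded with normal Sylow: TI -/
theorem ti_of_se {G : Type*} [Group G] [Finite G] (h : IsCIT G) {M S : Subgroup G}
    (hM : Cfsg.IsStronglyEmbedded M) (hS : IsSyl 2 S M) (hn : M ≤ normalizer (S : Set G)) :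
    TI2 G := by
  classical
  haveI : Fact (Nat.Prime 2) := ⟨Nat.prime_two⟩
  have hSne : ∃ x ∈ S, orderOf x = 2 := by
    obtain ⟨t, ht, hto⟩ := exists_involution hM.2.1
    have hk : t ^ 2 ^ 1 = 1 := by rw [pow_one, ← hto, pow_orderOf_eq_one]
    obtain ⟨x, hx, hxS⟩ := hS.exists_cj_le (isPGroup_zpowers hk) (zpowers_le.2 ht)
    refine ⟨x * t * x⁻¹, hxS (conj_mem_cj (mem_zpowers t)), ?_⟩
    rw [← hto]
    have := orderOf_injective (MulAut.conj x).toMonoidHom (MulAut.conj x).injective t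
    simpa using this
  obtain ⟨x, hx, hxo⟩ := hSne
  have hStop : IsSyl 2 S ⊤ :=
    isSyl_top_of_normalizer_le hS (normalizer_le hM hxo hx hS.le)
  intro P Q hP hQ hne
  by_contra hint
  obtain ⟨u, hu, hu1⟩ := exists_mem_ne_one hint
  obtain ⟨k, hk⟩ := pow_two_of_isPGroup hP.isPGroup hu.1
  obtain ⟨m, hm⟩ := exists_pow_two hu1 hk
  have htP : u ^ m ∈ P := pow_mem hu.1 m
  have htQ : u ^ m ∈ Q := pow_mem hu.2 m
  obtain ⟨a, -, ha⟩ := hStop.exists_cj_eq hP
  obtain ⟨b, -, hb⟩ := hStop.exists_cj_eq hQ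
  have h1 : (u ^ m) • (QuotientGroup.mk a : G ⧸ M) = QuotientGroup.mk a := by
    rw [smul_mk_eq_iff]; rw [← ha, mem_cj] at htP; exact hS.le htP
  have h2 : (u ^ m) • (QuotientGroup.mk b : G ⧸ M) = QuotientGroup.mk b := by
    rw [smul_mk_eq_iff]; rw [← hb, mem_cj] at htQ; exact hS.le htQ
  have h3 := unique_fix_point hM hm h1 h2
  rw [QuotientGroup.eq] at h3
  apply hne
  rw [← ha, ← hb]
  have : b = a * (a⁻¹ * b) := by group
  rw [this, cj_mul, mem_normalizer_iff_cj.1 (hn h3)]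


section caseA

variable {X : Type u} [Group X] [Finite X]

/-- a group with a cyclic self-centralizing-like normal odd subgroup -/
theorem ti_of_cyclic_normal (h : IsCIT X) {N : Subgroup X} (hN : N.Normal) (hN1 : N ≠ ⊥)
    (hNo : Odd (Nat.card N)) (hNc : IsCyclic N) : TI2 X := by
  classical
  haveI : Fact (Nat.Prime 2) := ⟨Nat.prime_two⟩
  obtain ⟨x0, hx0, hx01⟩ := exists_mem_ne_one hN1
  set C : Subgroup X := centralizer (N : Set X) with hC
  have hCn : C.Normal := by rw [hC]; infer_instance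
  have hCo : Odd (Nat.card C) := by
    apply odd_card_of_forall
    intro t ht hto
    apply hx01
    apply h.eq_one' hto (odd_orderOf hNo hx0)
    exact (mem_centralizer_iff.1 ht) x0 hx0
  -- commutators centralize N
  have hcomm : ∀ a b : X, a * b * a⁻¹ * b⁻¹ ∈ C := by
    intro a b
    obtain ⟨g, hg⟩ := hNc.exists_generator
    have hpow : ∀ z ∈ N, ∃ k : ℤ, (g : X) ^ k = z := by
      intro z hz
      obtain ⟨k, hk⟩ := mem_zpowers_iff.1 (hg ⟨z, hz⟩)
      exact ⟨k, by simpa using congrArg Subtype.val hk⟩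
    obtain ⟨i, hi⟩ := hpow _ (hN.conj_mem g g.2 a)
    obtain ⟨j, hj⟩ := hpow _ (hN.conj_mem g g.2 b)
    have ha : ∀ k : ℤ, a * (g : X) ^ k * a⁻¹ = (g : X) ^ (i * k) := by
      intro k; rw [← conj_zpow, ← hi, zpow_mul]
    have hb : ∀ k : ℤ, b * (g : X) ^ k * b⁻¹ = (g : X) ^ (j * k) := by
      intro k; rw [← conj_zpow, ← hj, zpow_mul]
    have h1 : (a * b) * (g : X) * (a * b)⁻¹ = (b * a) * (g : X) * (b * a)⁻¹ := by
      have e1 : (a * b) * (g : X) * (a * b)⁻¹ = a * (b * (g : X) * b⁻¹) * a⁻¹ := by group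
      have e2 : (b * a) * (g : X) * (b * a)⁻¹ = b * (a * (g : X) * a⁻¹) * b⁻¹ := by group
      rw [e1, e2, ← hj, ← hi, ha, hb, mul_comm]
    have h2 : (a * b * a⁻¹ * b⁻¹) * (g : X) = (g : X) * (a * b * a⁻¹ * b⁻¹) := by
      have h3 : ∀ z ∈ N, (a * b) * z * (a * b)⁻¹ = (b * a) * z * (b * a)⁻¹ := by
        intro z hz
        obtain ⟨k, rfl⟩ := hpow z hz
        rw [← conj_zpow, ← conj_zpow, h1]
      have h4 := h3 _ (hN.conj_mem g g.2 (b * a)⁻¹)
      rw [inv_inv] at h4
      have h5 : (b * a) * ((b * a)⁻¹ * (g : X) * (b * a)) * (b * a)⁻¹ = g := by group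
      rw [h5] at h4
      have h6 : (a * b * a⁻¹ * b⁻¹) * (g : X) * (a * b * a⁻¹ * b⁻¹)⁻¹ = g := by
        calc (a * b * a⁻¹ * b⁻¹) * (g : X) * (a * b * a⁻¹ * b⁻¹)⁻¹
            = a * b * ((b * a)⁻¹ * (g : X) * (b * a)) * (a * b)⁻¹ := by group
          _ = g := h4
      exact mul_inv_eq_iff_eq_mul.1 h6
    rw [hC, mem_centralizer_iff]
    intro z hz
    obtain ⟨k, rfl⟩ := hpow z hz
    exact (Commute.zpow_right (show Commute (a * b * a⁻¹ * b⁻¹) (g : X) from h2) k).symm
  intro P Q hP hQ hne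
  by_contra hint
  obtain ⟨t, ht, ht1⟩ := exists_mem_ne_one hint
  obtain ⟨k, hk⟩ := pow_two_of_isPGroup hP.isPGroup ht.1
  set R : Subgroup X := C ⊔ P with hR
  have hmemR : ∀ {x : X}, x ∈ R ↔ ∃ c ∈ C, ∃ p ∈ P, c * p = x := by
    intro x
    exact SubgroupTools.mem_sup_of_le_normalizer (by rw [normalizer_eq_top_iff.2 hCn]; exact le_top)
  obtain ⟨x, -, hx⟩ := hP.exists_cj_eq hQ
  have hQR : Q ≤ R := by
    rw [← hx]
    intro y hy
    rw [mem_cj] at hy
    have h1 : y = (y * x * y⁻¹ * x⁻¹) * (x * y * x⁻¹ * y⁻¹) * y := by group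
    have h2 : y = (x * (x⁻¹ * y * x) * x⁻¹ * (x⁻¹ * y * x)⁻¹) * (x⁻¹ * y * x) := by group
    rw [h2]
    exact mul_mem (mem_sup_left (hcomm _ _)) (mem_sup_right hy)
  have hPR : IsSyl 2 P R := hP.mono le_sup_right le_top
  have hQR' : IsSyl 2 Q R := hQ.mono hQR le_top
  obtain ⟨y, hy, hyQ⟩ := hPR.exists_cj_eq hQR'
  obtain ⟨c, hc, p, hp, rfl⟩ := hmemR.1 hy
  rw [cj_mul, cj_eq_of_mem hp] at hyQ
  have h1 : c⁻¹ * t * c ∈ P := by
    have := ht.2
    change t ∈ Q at this
    rw [← hyQ, mem_cj] at this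
    exact this
  have h2 : c⁻¹ * t * c * t⁻¹ ∈ C := by
    have : c⁻¹ * t * c * t⁻¹ = c⁻¹ * (t * c * t⁻¹) := by group
    rw [this]; exact mul_mem (inv_mem hc) (hCn.conj_mem c hc t)
  have h3 : c⁻¹ * t * c * t⁻¹ ∈ P := mul_mem h1 (inv_mem ht.1)
  have h4 : c⁻¹ * t * c * t⁻¹ = 1 := odd_of_isPGroup hP.isPGroup h3 (odd_orderOf hCo h2)
  have h5 : c = 1 := by
    apply h.eq_one hP.isPGroup ht.1 ht1 (odd_orderOf hCo hc)
    have h6 : t * c = c * t := by
      have := mul_inv_eq_one.1 h4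
      calc t * c = c * (c⁻¹ * t * c) := by group
        _ = c * t := by rw [this]
    exact h6.symm
  apply hne
  rw [← hyQ, h5, cj_one]

end caseA

section caseB

variable {X : Type u} [Group X] [Finite X]

theorem O2_bot_of {N : Subgroup X} (hN : N.Normal) (hO : Cfsg.pCore 2 X = ⊥) : O2 N = ⊥ := by
  have h1 : (O2 N).Normal := by
    rw [← normalizer_eq_top_iff, eq_top_iff]
    intro x _
    rw [mem_normalizer_iff_cj, ← O2_cj, cj_eq_of_normal hN]
  have := Fitting.le_pCore 2 h1 (O2_isPGroup N)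
  rwa [hO, le_bot_iff] at this

theorem involution_exists {N : Subgroup X} (h : ¬ Odd (Nat.card N)) : ∃ t ∈ N, orderOf t = 2 :=
  exists_involution (Nat.not_odd_iff_even.1 h)

/-- minimal normal subgroups of CIT groups with O₂ = 1, nonabelian case: simple -/
theorem simple_of_minNormal (h : IsCIT X) (hO : Cfsg.pCore 2 X = ⊥) {N : Subgroup X}
    (hN : N.Normal) (hN1 : N ≠ ⊥)
    (hmin : ∀ M : Subgroup X, M.Normal → M ≤ N → M = ⊥ ∨ M = N)
    (hNodd : ¬ Odd (Nat.card N)) : IsSimpleGroup N := by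
  classical
  -- a minimal N-invariant subgroup
  obtain ⟨E, ⟨hE1, hE2, hE3⟩, hEmin⟩ := (wellFounded_lt (α := Subgroup X)).has_min
    {E : Subgroup X | E ≠ ⊥ ∧ E ≤ N ∧ N ≤ normalizer (E : Set X)} ⟨N, hN1, le_rfl, le_normalizer⟩
  have hEmin' : ∀ F : Subgroup X, F ≠ ⊥ → F ≤ E → N ≤ normalizer (F : Set X) → F = E := by
    intro F h1 h2 h3
    by_contra hne
    exact hEmin F ⟨h1, h2.trans hE2, h3⟩ (lt_of_le_of_ne h2 hne)
  -- E is not a 2-group
  have hE2' : ¬ IsPGroup 2 E := by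
    intro hp
    have := le_O2 hE2 hp hE3
    rw [O2_bot_of hN hO, le_bot_iff] at this
    exact hE1 this
  -- E has even order
  have hEodd : ¬ Odd (Nat.card E) := by
    intro ho
    have h1 : E.subgroupOf N ≤ Cfsg.pPrimeCore 2 N := by
      apply Fitting.le_pPrimeCore 2 (SubgroupTools.normal_subgroupOf_iff_le_normalizer' hE3)
      rw [SubgroupTools.card_subgroupOf_of_le hE2]
      exact (Nat.coprime_two_right.2 ho)
    set O : Subgroup X := (Cfsg.pPrimeCore 2 N).map N.subtype with hOdef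
    have hEO : E ≤ O := by
      have := map_mono (f := N.subtype) h1
      rwa [map_subgroupOf_eq_of_le hE2] at this
    have hOn : O.Normal := by
      have hch : (Cfsg.pPrimeCore 2 N).Characteristic := Fitting.characteristic_pPrimeCore 2
      have : N.Normal := hN
      rw [hOdef]; infer_instance
    rcases hmin O hOn (map_subtype_le _) with h2 | h2
    · rw [h2, le_bot_iff] at hEO; exact hE1 hEO
    · apply hNodd
      rw [← h2, hOdef, Nat.card_congr (equivMapOfInjective _ _ N.subtype_injective).toEquiv.symm]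
      exact Nat.coprime_two_right.1 (Fitting.coprime_card_pPrimeCore 2)
  obtain ⟨t, ht, hto⟩ := involution_exists hEodd
  obtain ⟨y, hy, hy1, hyo⟩ := exists_odd_of_not hE2'
  have hEn : ∀ x : X, cj x E = E := by
    intro x
    by_contra hne
    have hxN : cj x E ≤ N := by rw [← cj_eq_of_normal hN (g := x)]; exact cj_mono hE2
    have hxn : N ≤ normalizer (cj x E : Set X) := by
      rw [← cj_normalizer, ← cj_eq_of_normal hN (g := x)]
      exact cj_mono hE3
    have hinf : E ⊓ cj x E = ⊥ := by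
      by_contra hb
      have h1 := hEmin' (E ⊓ cj x E) hb inf_le_left (by
        intro g hg
        rw [mem_normalizer_iff_cj, cj_inf, mem_normalizer_iff_cj.1 (hE3 hg),
          mem_normalizer_iff_cj.1 (hxn hg)])
      apply hne
      symm
      have h1' : E ≤ cj x E := by
        have h1'' : E ⊓ cj x E ≤ cj x E := inf_le_right
        rwa [h1] at h1''
      apply eq_of_le_of_card_ge h1'
      rw [card_cj]
    apply hy1
    have h2 : x * y * x⁻¹ = 1 := by
      have hy' : x * y * x⁻¹ ∈ cj x E := conj_mem_cj hy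
      apply h.eq_one' hto
      · have := orderOf_injective (MulAut.conj x).toMonoidHom (MulAut.conj x).injective y
        have e1 : orderOf (x * y * x⁻¹) = orderOf y := by rw [← this]; simp
        rw [e1]; exact hyo
      · have h3 : (x * y * x⁻¹) * t * (x * y * x⁻¹)⁻¹ * t⁻¹ ∈ (E ⊓ cj x E : Subgroup X) := by
          refine mem_inf.2 ⟨?_, ?_⟩
          · exact mul_mem ((mem_normalizer_iff.1 (hE3 (hxN hy')) t).1 ht) (inv_mem ht)
          · have e1 : (x * y * x⁻¹) * t * (x * y * x⁻¹)⁻¹ * t⁻¹ =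
                (x * y * x⁻¹) * (t * (x * y * x⁻¹)⁻¹ * t⁻¹) := by group
            rw [e1]
            exact mul_mem hy' ((mem_normalizer_iff.1 (hxn (hE2 ht)) _).1 (inv_mem hy'))
        rw [hinf, mem_bot] at h3
        have h4 := mul_inv_eq_one.1 h3
        exact mul_inv_eq_iff_eq_mul.1 h4
    have : y = x⁻¹ * (x * y * x⁻¹) * x := by group
    rw [this, h2]; group
  have hEnormal : E.Normal := by
    rw [← normalizer_eq_top_iff, eq_top_iff]
    intro x _
    rw [mem_normalizer_iff_cj]; exact hEn x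
  have hEN : E = N := by
    rcases hmin E hEnormal hE2 with h1 | h1
    · exact absurd h1 hE1
    · exact h1
  have hnt : Nontrivial N := (Subgroup.nontrivial_iff_ne_bot N).2 hN1
  refine { exists_pair_ne := hnt.exists_pair_ne, eq_bot_or_eq_top_of_normal := ?_ }
  intro H hH
  by_cases hb : H = ⊥
  · exact Or.inl hb
  · right
    have h1 : H.map N.subtype = E := by
      apply hEmin'
      · intro h2; apply hb
        rw [eq_bot_iff]
        intro x hx
        have : (x : X) ∈ H.map N.subtype := ⟨x, hx, rfl⟩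
        rw [h2, mem_bot] at this
        rw [mem_bot]; exact Subtype.ext this
      · rw [hEN]; exact map_subtype_le _
      · intro g hg
        rw [mem_normalizer_iff]
        intro x
        constructor
        · rintro ⟨y, hy, rfl⟩
          exact ⟨⟨g, hg⟩ * y * ⟨g, hg⟩⁻¹, hH.conj_mem y hy _, by simp⟩
        · rintro ⟨y, hy, hyx⟩
          refine ⟨⟨g, hg⟩⁻¹ * y * ⟨g, hg⟩, by simpa using hH.conj_mem y hy (⟨g, hg⟩⁻¹), ?_⟩
          have : (y : X) = g * x * g⁻¹ := hyx
          simp [this, mul_assoc]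
    rw [hEN] at h1
    rw [eq_top_iff]
    intro x _
    have h2 : (x : X) ∈ H.map N.subtype := by rw [h1]; exact x.2
    obtain ⟨y, hy, hyx⟩ := h2
    have : y = x := Subtype.ext hyx
    rw [← this]; exact hy

/-- a normal subgroup with TI Sylow `2`-subgroups -/
theorem ti_of_normal_ti (h : IsCIT X) (hO : Cfsg.pCore 2 X = ⊥) {N : Subgroup X}
    (hN : N.Normal) (hNodd : ¬ Odd (Nat.card N)) (hTI : TI2 N) : TI2 X := by
  classical
  haveI : Fact (Nat.Prime 2) := ⟨Nat.prime_two⟩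
  obtain ⟨T, hT, -⟩ := exists_isSyl (p := 2) (Q := (⊥ : Subgroup X)) (H := N) IsPGroup.of_bot bot_le
  have hT1 : T ≠ ⊥ := by
    intro h1
    have := hT.not_dvd_relIndex
    rw [h1, relIndex_bot_left] at this
    exact hNodd (Nat.not_even_iff_odd.1 (fun he => this he.two_dvd))
  set M : Subgroup X := normalizer (T : Set X) with hM
  have hTM : T ≤ M := le_normalizer
  have hMtop : M ≠ ⊤ := by
    intro h1
    have h2 : T.Normal := normalizer_eq_top_iff.1 h1
    have := Fitting.le_pCore 2 h2 hT.isPGroup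
    rw [hO, le_bot_iff] at this
    exact hT1 this
  have hMeven : Even (Nat.card M) := by
    obtain ⟨u, hu, hu1⟩ := exists_mem_ne_one hT1
    obtain ⟨k, hk⟩ := pow_two_of_isPGroup hT.isPGroup hu
    obtain ⟨m, hm⟩ := exists_pow_two hu1 hk
    rw [even_iff_two_dvd, ← hm]
    exact Subgroup.orderOf_dvd_natCard _ (hTM (pow_mem hu m))
  have hcjT : ∀ g : X, IsSyl 2 (cj g T) N := by
    intro g
    have := hT.cj g
    rwa [cj_eq_of_normal hN] at this
  have hSE : Cfsg.IsStronglyEmbedded M := by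
    apply of_fix hMtop hMeven
    intro x g hxo hx hgx
    rw [← inv_inv g]
    apply inv_mem
    rw [hM, mem_normalizer_iff_cj]
    by_contra hne
    -- x normalizes T and T2 = cj g⁻¹ T
    have hx2 : x ∈ normalizer (cj g⁻¹ T : Set X) := by
      rw [← cj_normalizer, mem_cj, inv_inv]; exact hgx
    have hxk : x ^ 2 ^ 1 = 1 := by rw [pow_one, ← hxo, pow_orderOf_eq_one]
    obtain ⟨c1, hc1, hc11, hc1c⟩ := exists_fixed hT.isPGroup hT1 hx hxk
    obtain ⟨c2, hc2, hc21, hc2c⟩ := exists_fixed (hcjT g⁻¹).isPGroup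
      (by rw [Ne, cj_eq_bot_iff]; exact hT1) hx2 hxk
    set D : Subgroup X := centralizer ({x} : Set X) ⊓ N with hD
    have hDp : IsPGroup 2 D := (h x hxo).to_le inf_le_left
    obtain ⟨T3, hT3, hDT3⟩ := exists_isSyl hDp (inf_le_right : D ≤ N)
    have hc1D : c1 ∈ D := mem_inf.2 ⟨mem_cent.2 hc1c.symm, hT.le hc1⟩
    have hc2D : c2 ∈ D := mem_inf.2 ⟨mem_cent.2 hc2c.symm, (hcjT g⁻¹).le hc2⟩
    have e1 : T3 = T := by
      by_contra hne'
      have := hTI.isSyl hT3 hT hne'
      have h2 : c1 ∈ (T3 ⊓ T : Subgroup X) := ⟨hDT3 hc1D, hc1⟩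
      rw [this, mem_bot] at h2
      exact hc11 h2
    have e2 : T3 = cj g⁻¹ T := by
      by_contra hne'
      have := hTI.isSyl hT3 (hcjT g⁻¹) hne'
      have h2 : c2 ∈ (T3 ⊓ cj g⁻¹ T : Subgroup X) := ⟨hDT3 hc2D, hc2⟩
      rw [this, mem_bot] at h2
      exact hc21 h2
    exact hne (e2.symm.trans e1)
  have hO2M : O2 M ≠ ⊥ := by
    intro h1
    have := le_O2 hTM hT.isPGroup (le_refl M)
    rw [h1, le_bot_iff] at this
    exact hT1 this
  obtain ⟨S, hS, -⟩ := exists_isSyl (p := 2) (Q := (⊥ : Subgroup X)) (H := M) IsPGroup.of_bot bot_le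
  have hSO := h.le_normalizer_of_se hSE hO2M hS
  exact ti_of_se h hSE hS (by rw [hSO]; exact le_normalizer_O2 M)

end caseB

end Cfsg.Agent.Lib.CIT
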