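import Cfsg.Agent.Lib.CITCount
import Cfsg.Agent.Lib.Fitting
import Cfsg.Agent.Lib.SubgroupTools

/-!
# CIT-groups (helper6): O_2 of a subgroup, lifting involutions, strongly embedded subgroups
-/

set_option autoImplicit false
set_option linter.all false

namespace Cfsg.Agent.Lib.CIT

open Subgroup SylowRel StrongEmbPt

variable {G : Type*} [Group G]

/-- `O₂(M)` inside the ambient group -/
def O2 (M : Subgroup G) : Subgroup G := (Cfsg.pCore 2 M).map M.subtype

theorem O2_le (M : Subgroup G) : O2 M ≤ M := map_subtype_le _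

theorem O2_isPGroup [Finite G] (M : Subgroup G) : IsPGroup 2 (O2 M) :=
  (Fitting.isPGroup_pCore 2).map _

theorem le_normalizer_O2 (M : Subgroup G) : M ≤ normalizer (O2 M : Set G) := by
  have h := Fitting.normal_pCore 2 (G := M)
  intro g hg
  rw [mem_normalizer_iff]
  intro x
  constructor
  · rintro ⟨y, hy, rfl⟩
    exact ⟨⟨g, hg⟩ * y * ⟨g, hg⟩⁻¹, h.conj_mem y hy _, by simp⟩
  · rintro ⟨y, hy, hyx⟩
    refine ⟨⟨g, hg⟩⁻¹ * y * ⟨g, hg⟩, by simpa using h.conj_mem y hy (⟨g, hg⟩⁻¹), ?_⟩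
    have : (y : G) = g * x * g⁻¹ := hyx
    simp [this, mul_assoc]

theorem le_O2 {M N : Subgroup G} (h1 : N ≤ M) (h2 : IsPGroup 2 N)
    (h3 : M ≤ normalizer (N : Set G)) : N ≤ O2 M := by
  have hn : (N.subgroupOf M).Normal := SubgroupTools.normal_subgroupOf_iff_le_normalizer' h3
  have hp : IsPGroup 2 (N.subgroupOf M) := h2.comap_of_injective _ M.subtype_injective
  have := Fitting.le_pCore 2 hn hp
  have h4 := map_mono (f := M.subtype) this
  rwa [map_subgroupOf_eq_of_le h1] at h4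

theorem O2_eq_of {M Q : Subgroup G} [Finite G] (h1 : Q ≤ M) (h2 : IsPGroup 2 Q)
    (h3 : M ≤ normalizer (Q : Set G))
    (h4 : ∀ N : Subgroup G, N ≤ M → IsPGroup 2 N → M ≤ normalizer (N : Set G) → N ≤ Q) :
    O2 M = Q :=
  le_antisymm (h4 _ (O2_le M) (O2_isPGroup M) (le_normalizer_O2 M)) (le_O2 h1 h2 h3)

theorem O2_cj [Finite G] (g : G) (M : Subgroup G) : O2 (cj g M) = cj g (O2 M) := by
  apply O2_eq_of
  · exact cj_mono (O2_le M)
  · exact isPGroup_cj (O2_isPGroup M)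
  · rw [← cj_normalizer]; exact cj_mono (le_normalizer_O2 M)
  · intro N hN hp hn
    rw [← cj_le_cj_iff (g := g⁻¹), cj_inv_cj]
    refine le_O2 ?_ (isPGroup_cj hp) ?_
    · rw [← cj_inv_cj g M]; exact cj_mono hN
    · rw [← cj_normalizer, ← cj_inv_cj g M]; exact cj_mono hn

/-- `N_G(T)` for a Sylow `2`-subgroup different from `Q`. -/
theorem O2_le_isSyl [Finite G] {M S : Subgroup G} (hS : IsSyl 2 S M) : O2 M ≤ S := by
  have h1 : IsPGroup 2 (O2 M ⊔ S : Subgroup G) :=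
    IsPGroup.to_sup_of_normal_left' (O2_isPGroup M) hS.isPGroup
      (hS.le.trans (le_normalizer_O2 M)) 
  have h2 := hS.eq_of_le h1 le_sup_right (sup_le (O2_le M) hS.le)
  rw [← h2]; exact le_sup_left

/-- **Lifting lemma**: an involution modulo `Q = O₂(L)` outside `Q` has a representative inverting a
nontrivial element of odd order. -/
theorem exists_lift [Finite G] {L Q : Subgroup G} (hQL : Q ≤ L)
    (hQ : IsPGroup 2 Q) (hn : L ≤ normalizer (Q : Set G)) 
    (hmax : ∀ N : Subgroup G, N ≤ L → IsPGroup 2 N → L ≤ normalizer (N : Set G) → N ≤ Q)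
    {t : G} (htL : t ∈ L) (ht2 : t * t ∈ Q) (htQ : t ∉ Q) :
    ∃ y ∈ L, y ≠ 1 ∧ Odd (orderOf y) ∧ ∃ q ∈ Q, (t * q) * y * (t * q)⁻¹ = y⁻¹ := by
  classical
  set Q' : Subgroup L := Q.subgroupOf L with hQ'
  have hQ'n : Q'.Normal := SubgroupTools.normal_subgroupOf_iff_le_normalizer' hn
  have hQ'p : IsPGroup 2 Q' := hQ.comap_of_injective _ L.subtype_injective
  set f := QuotientGroup.mk' Q' with hf
  set tt : L := ⟨t, htL⟩ with htt
  have hft : orderOf (f tt) = 2 := by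
    apply orderOf_two
    · rw [← map_mul, hf, QuotientGroup.mk'_apply, QuotientGroup.eq_one_iff]
      exact ht2
    · intro h1
      rw [hf, QuotientGroup.mk'_apply, QuotientGroup.eq_one_iff] at h1
      exact htQ h1
  obtain ⟨h', h1, h2, h3⟩ := BaerSuzuki.exists_inverted_odd (f tt) hft (by
    intro N hN hNp hmem
    have h4 : IsPGroup 2 (N.comap f) := by
      apply hNp.comap_of_ker_isPGroup
      rw [hf, QuotientGroup.ker_mk']; exact hQ'p
    have h5 : ((N.comap f).map L.subtype) ≤ Q := by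
      apply hmax _ (map_subtype_le _) (h4.map _)
      have h6 : (N.comap f).Normal := hN.comap f
      intro g hg
      rw [mem_normalizer_iff]
      intro x
      constructor
      · rintro ⟨y, hy, rfl⟩
        exact ⟨⟨g, hg⟩ * y * ⟨g, hg⟩⁻¹, h6.conj_mem y hy _, by simp⟩
      · rintro ⟨y, hy, hyx⟩
        refine ⟨⟨g, hg⟩⁻¹ * y * ⟨g, hg⟩, by simpa using h6.conj_mem y hy (⟨g, hg⟩⁻¹), ?_⟩
        have : (y : G) = g * x * g⁻¹ := hyx
        simp [this, mul_assoc]
    exact htQ (h5 ⟨tt, hmem, rfl⟩))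
  -- pass to prime order
  obtain ⟨p, hp, hpd⟩ := Nat.exists_prime_and_dvd (fun h => h1 (orderOf_eq_one_iff.1 h))
  obtain ⟨c, hc⟩ := hpd
  have hpodd : Odd p := h2.of_dvd_nat ⟨c, hc⟩
  haveI : Fact p.Prime := ⟨hp⟩
  have hc0 : 0 < c := by
    rcases Nat.eq_zero_or_pos c with h | h
    · exfalso; rw [h, mul_zero] at hc; exact (orderOf_pos h').ne' hc
    · exact h
  have hk : orderOf (h' ^ c) = p := by
    rw [orderOf_pow_of_dvd hc0.ne' ⟨p, by rw [hc, mul_comm]⟩, hc, Nat.mul_div_cancel _ hc0]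
  have hk3 : f tt * h' ^ c * (f tt)⁻¹ = (h' ^ c)⁻¹ := by
    rw [← conj_pow, h3, inv_pow]
  obtain ⟨y0, hy0⟩ := QuotientGroup.mk'_surjective Q' (h' ^ c)
  obtain ⟨e, he, hey⟩ := exists_odd_lift f y0 (by rw [hy0, hk]; exact hpodd)
  set y := y0 ^ e with hy
  have hfy : f y = h' ^ c := by rw [hey, hy0]
  have hodd_one : ∀ z : L, z ∈ Q' → Odd (orderOf z) → z = 1 := fun z hz ho =>
    odd_of_isPGroup hQ'p hz ho
  have hyp : orderOf y = p := by
    apply orderOf_eq_prime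
    · apply hodd_one
      · rw [← QuotientGroup.eq_one_iff]
        have : f (y ^ p) = 1 := by rw [map_pow, hfy, ← hk, pow_orderOf_eq_one]
        exact this
      · exact he.of_dvd_nat (orderOf_pow_dvd p)
    · intro h4
      rw [h4, map_one] at hfy
      rw [← hfy, orderOf_one] at hk
      exact hp.one_lt.ne hk
  -- both ⟨y⟩ and ⟨tyt⁻¹⟩ are Sylow in Q'⟨y⟩
  have hQ'top : ∀ K : Subgroup L, K ≤ normalizer (Q' : Set L) := fun K => by
    rw [normalizer_eq_top_iff.2 hQ'n]; exact le_top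
  set R : Subgroup L := Q' ⊔ zpowers y with hR
  have hcardQ : ∃ n, Nat.card Q' = 2 ^ n := (IsPGroup.iff_card).1 hQ'p
  have hpcop : ¬ p ∣ Nat.card Q' := by
    obtain ⟨n, hn'⟩ := hcardQ
    rw [hn']
    intro h4
    have h5 := hp.dvd_of_dvd_pow h4
    have h6 := (Nat.prime_dvd_prime_iff_eq hp Nat.prime_two).1 h5
    rw [h6] at hpodd
    exact absurd hpodd (by decide)
  have hcardR : ∀ z : L, orderOf z = p → Nat.card (Q' ⊔ zpowers z : Subgroup L) = Nat.card Q' * p := by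
    intro z hz
    rw [SubgroupTools.card_sup_of_coprime (hQ'top _), Nat.card_zpowers, hz]
    rw [Nat.card_zpowers, hz]
    exact ((Nat.Prime.coprime_iff_not_dvd hp).2 hpcop).symm
  have hsyl : ∀ z : L, orderOf z = p → z ∈ R → IsSyl p (zpowers z) R := by
    intro z hz hzR
    have hzle : zpowers z ≤ R := by rw [zpowers_le]; exact hzR
    apply isSyl_of_not_dvd
    · apply IsPGroup.of_card (n := 1); rw [Nat.card_zpowers, hz, pow_one]
    · exact hzle
    · intro hdvd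
      have h4 := card_mul_rel hzle
      rw [Nat.card_zpowers, hz, hR, hcardR y hyp, mul_comm (Nat.card Q') p] at h4
      have h5 := Nat.eq_of_mul_eq_mul_left hp.pos h4
      apply hpcop
      rw [← h5]; exact hdvd
  set w : L := tt * y * tt⁻¹ with hw
  have hwo : orderOf w = p := by
    have := orderOf_injective (MulAut.conj tt).toMonoidHom (MulAut.conj tt).injective y
    rw [← hyp, ← this]; simp [hw]
  have hfw : f w = (f y)⁻¹ := by
    rw [hw, map_mul, map_mul, map_inv, hfy, hk3]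
  have hwR : w ∈ R := by
    have h4 : w * y ∈ Q' := by
      rw [← QuotientGroup.eq_one_iff]
      have : f (w * y) = 1 := by rw [map_mul, hfw, inv_mul_cancel]
      exact this
    have : w = (w * y) * y⁻¹ := by group
    rw [this, hR]
    exact mul_mem (mem_sup_left h4) (mem_sup_right (inv_mem (mem_zpowers y)))
  obtain ⟨x, hxR, hx⟩ := (hsyl y hyp (mem_sup_right (mem_zpowers y))).exists_cj_eq (hsyl w hwo hwR)
  rw [hR, SubgroupTools.mem_sup_of_le_normalizer (hQ'top _)] at hxR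
  obtain ⟨q, hq, k, hk', rfl⟩ := hxR
  rw [cj_mul, cj_eq_of_mem hk'] at hx
  -- cj q ⟨y⟩ = ⟨w⟩ = cj tt ⟨y⟩
  have h5 : cj tt (zpowers y) = zpowers w := by
    rw [hw]
    exact (MonoidHom.map_zpowers _ _).trans (by simp)
  have h6 : cj (q⁻¹ * tt) (zpowers y) = zpowers y := by
    rw [cj_mul, h5, ← hx, cj_inv_cj]
  have h7 : (q⁻¹ * tt) * y * (q⁻¹ * tt)⁻¹ ∈ zpowers y := by
    rw [← h6]; exact conj_mem_cj (mem_zpowers y)
  have h8 : (q⁻¹ * tt) * y * (q⁻¹ * tt)⁻¹ = y⁻¹ := by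
    have h9 : ((q⁻¹ * tt) * y * (q⁻¹ * tt)⁻¹) * y ∈ Q' := by
      rw [← QuotientGroup.eq_one_iff]
      have hfq : f q = 1 := by
        rw [hf, QuotientGroup.mk'_apply, QuotientGroup.eq_one_iff]; exact hq
      have : f (((q⁻¹ * tt) * y * (q⁻¹ * tt)⁻¹) * y) = 1 := by
        simp only [map_mul, map_inv, hfq, hfy, inv_one, one_mul, hk3]
        rw [inv_mul_cancel]
      exact this
    have h10 : ((q⁻¹ * tt) * y * (q⁻¹ * tt)⁻¹) * y ∈ zpowers y := mul_mem h7 (mem_zpowers y)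
    have h11 := hodd_one _ h9 (by
      have h12 : orderOf (((q⁻¹ * tt) * y * (q⁻¹ * tt)⁻¹) * y) ∣ p := by
        rw [← hyp, ← Nat.card_zpowers y]
        exact Subgroup.orderOf_dvd_natCard _ h10
      exact hpodd.of_dvd_nat h12)
    exact eq_inv_of_mul_eq_one_left h11
  refine ⟨y, y.2, ?_, ?_, ((tt⁻¹ * q⁻¹ * tt : L) : G), ?_, ?_⟩
  · intro h9
    have : y = 1 := Subtype.ext h9
    rw [this, orderOf_one] at hyp
    exact hp.one_lt.ne hyp
  · rw [orderOf_coe, hyp]; exact hpodd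
  · have := hQ'n.conj_mem q⁻¹ (inv_mem hq) tt⁻¹
    rw [inv_inv] at this
    exact this
  · have h9 := congrArg (Subtype.val) h8
    have h10 : t * ((tt⁻¹ * q⁻¹ * tt : L) : G) = ((q⁻¹ * tt : L) : G) := by
      simp [htt, mul_assoc]
    rw [h10]
    simpa using h9

/-- In a CIT group the lift is an involution outside `Q`, provided `Q ≠ 1`. -/
theorem IsCIT.exists_lift [Finite G] (h : IsCIT G) {L Q : Subgroup G} (hQL : Q ≤ L)
    (hQ : IsPGroup 2 Q) (hQ1 : Q ≠ ⊥) (hn : L ≤ normalizer (Q : Set G)) 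
    (hmax : ∀ N : Subgroup G, N ≤ L → IsPGroup 2 N → L ≤ normalizer (N : Set G) → N ≤ Q)
    {t : G} (htL : t ∈ L) (ht2 : t * t ∈ Q) (htQ : t ∉ Q) :
    ∃ y ∈ L, y ≠ 1 ∧ Odd (orderOf y) ∧ ∃ q ∈ Q, orderOf (t * q) = 2 ∧
      (t * q) * y * (t * q)⁻¹ = y⁻¹ := by
  obtain ⟨y, hy, hy1, hyo, q, hq, hqy⟩ := CIT.exists_lift hQL hQ hn hmax htL ht2 htQ
  refine ⟨y, hy, hy1, hyo, q, hq, ?_, hqy⟩
  apply orderOf_two
  · by_contra hne
    apply hy1
    have h1 : (t * q) * (t * q) ∈ Q := by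
      have h2 : (t * q) * (t * q) = (t * q * t⁻¹) * (t * t) * q := by group
      rw [h2]
      exact mul_mem (mul_mem ((mem_normalizer_iff.1 (hn htL) q).1 hq) ht2) hq
    refine h.eq_one hQ h1 hne hyo ?_
    have h3 : (t * q) * (t * q) * y * ((t * q) * (t * q))⁻¹ = y := by
      calc (t * q) * (t * q) * y * ((t * q) * (t * q))⁻¹
          = (t * q) * ((t * q) * y * (t * q)⁻¹) * (t * q)⁻¹ := by group
        _ = (t * q) * y⁻¹ * (t * q)⁻¹ := by rw [hqy]
        _ = ((t * q) * y * (t * q)⁻¹)⁻¹ := by group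
        _ = y := by rw [hqy, inv_inv]
    have h4 := mul_inv_eq_iff_eq_mul.1 h3
    exact h4.symm
  · intro h1
    apply htQ
    rw [eq_inv_of_mul_eq_one_left h1]; exact inv_mem hq

/-- **SE lemma**: in a CIT group a strongly embedded subgroup with `O₂ ≠ 1` has a normal Sylow
`2`-subgroup. -/
theorem IsCIT.le_normalizer_of_se [Finite G] (h : IsCIT G) {M : Subgroup G}
    (hM : Cfsg.IsStronglyEmbedded M) (hO : O2 M ≠ ⊥) {S : Subgroup G} (hS : IsSyl 2 S M) :
    S = O2 M := by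
  obtain ⟨n, hn⟩ := h.seData hM
  obtain ⟨u, hu, hu1⟩ := exists_mem_ne_one hO
  obtain ⟨k, hk⟩ := pow_two_of_isPGroup (O2_isPGroup M) hu
  obtain ⟨m, hm⟩ := exists_pow_two hu1 hk
  have hzO : u ^ m ∈ O2 M := pow_mem hu m
  -- all involutions of M lie in O2 M
  have hall : ∀ w ∈ M, orderOf w = 2 → w ∈ O2 M := by
    intro w hw hwo
    obtain ⟨x, hx, rfl⟩ := hn.conj _ w (O2_le M hzO) hm hw hwo
    exact (mem_normalizer_iff.1 (le_normalizer_O2 M hx) _).1 hzO
  apply le_antisymm _ (O2_le_isSyl hS)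
  by_contra hnot
  -- an element of S \ O2 with square in O2
  have hex : ∃ t ∈ S, t ∉ O2 M ∧ t * t ∈ O2 M := by
    obtain ⟨s, hs, hsO⟩ := SetLike.not_le_iff_exists.1 hnot
    obtain ⟨k, hk⟩ := pow_two_of_isPGroup hS.isPGroup hs
    have : ∃ j, s ^ 2 ^ j ∈ O2 M := ⟨k, by rw [hk]; exact one_mem _⟩
    classical
    have hj := Nat.find_spec this
    have hj' := fun m => Nat.find_min this (m := m)
    set j := Nat.find this with hjdef
    have hj0 : j ≠ 0 := by
      intro h0; rw [h0] at hj; simp at hj; exact hsO hj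
    obtain ⟨i, hi⟩ := Nat.exists_eq_succ_of_ne_zero hj0
    refine ⟨s ^ 2 ^ i, pow_mem hs _, hj' i (by omega), ?_⟩
    rw [← pow_two, ← pow_mul, ← pow_succ]
    rw [hi] at hj; exact hj
  obtain ⟨t, htS, htO, ht2⟩ := hex
  obtain ⟨y, -, -, -, q, hq, hqo, -⟩ := h.exists_lift (O2_le M) (O2_isPGroup M) hO
    (le_normalizer_O2 M) (fun N h1 h2 h3 => le_O2 h1 h2 h3) (hS.le htS) ht2 htO
  have h1 := hall _ (mul_mem (hS.le htS) (O2_le M hq)) hqo
  apply htO
  have : t = (t * q) * q⁻¹ := by group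
  rw [this]; exact mul_mem h1 (inv_mem hq)

end Cfsg.Agent.Lib.CIT
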