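import Cfsg.Agent.Lib.CITInd
import Cfsg.Agent.Lib.Cores2

/-!
# CIT-groups (helper6): sections of 2-local subgroups have TI Sylow 2-subgroups
-/

set_option autoImplicit false
set_option linter.all false

namespace Cfsg.Agent.Lib.CIT

open Subgroup SylowRel StrongEmbPt

universe u

theorem comm_lt {X : Type*} [Group X] {N : Subgroup X} (hs : Group.IsSolvable N) (hN : N ≠ ⊥) :
    ⁅N, N⁆ < N := by
  rw [← nontrivial_iff_ne_bot] at hN
  have h := Group.IsSolvable.commutator_lt_top_of_nontrivial N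
  have h2 := (Subgroup.map_subtype_lt_map_subtype (G' := N)).2 h
  rwa [commutator_def, Subgroup.map_commutator, ← MonoidHom.range_eq_map, N.range_subtype] at h2

section fpf

variable {X V : Type u} [Group X] [Finite X] [CommGroup V] [Finite V]

theorem ti_of_fpf (h : IsCIT X) (hO : Cfsg.pCore 2 X = ⊥) {φ : X →* MulAut V} (hφ : FPF φ)
    (hV2 : ∀ v : V, v * v = 1) (hV : ∃ v : V, v ≠ 1) (hI : Ind.{u} (Nat.card X + 1)) : TI2 X := by
  classical
  haveI : Fact (Nat.Prime 2) := ⟨Nat.prime_two⟩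
  by_cases htriv : (⊤ : Subgroup X) = ⊥
  · intro P Q _ _ hne
    exfalso; apply hne
    have h1 : ∀ R : Subgroup X, R = ⊥ := fun R => by
      rw [eq_bot_iff, ← htriv]; exact le_top
    rw [h1 P, h1 Q]
  obtain ⟨N, hN, hN1, -, hmin⟩ := Cores.exists_minNormal_le (G := X) (K := ⊤) inferInstance htriv
  by_cases hNo : Odd (Nat.card N)
  · have hsol : Group.IsSolvable N := Cfsg.Agent.S0205.result hNo
    have hab : IsMulCommutative N := by
      have h1 : ⁅N, N⁆ < N := comm_lt hsol hN1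
      have h2 : ⁅N, N⁆ = ⊥ := by
        rcases hmin ⁅N, N⁆ inferInstance h1.le with h2 | h2
        · exact h2
        · exact absurd h2 h1.ne
      rw [isMulCommutative_iff]
      intro a b
      have := commutator_mem_commutator a.2 b.2
      rw [h2, Subgroup.mem_bot, commutatorElement_eq_one_iff_mul_comm] at this
      exact Subtype.ext this
    exact ti_of_cyclic_normal h hN hN1 hNo (isCyclic_of_fpf hφ hV2 hV hab hNo)
  · have hsimp := simple_of_minNormal h hO hN hN1 hmin hNo
    have hna : ¬ ∀ a b : N, a * b = b * a := by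
      intro hcomm
      have h1 := Cores.minNormal_elementary hN1 hmin
        (fun a ha b hb => congrArg Subtype.val (hcomm ⟨a, ha⟩ ⟨b, hb⟩))
      obtain ⟨p, hp, hpx⟩ := h1
      obtain ⟨t, ht, hto⟩ := involution_exists hNo
      have h2 : p = 2 := by
        have h3 := orderOf_dvd_of_pow_eq_one (hpx t ht)
        rw [hto] at h3
        exact ((Nat.prime_dvd_prime_iff_eq Nat.prime_two hp).1 h3).symm
      subst h2
      have h3 : IsPGroup 2 N := fun x => ⟨1, Subtype.ext (by simpa using hpx x x.2)⟩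
      have := Fitting.le_pCore 2 hN h3
      rw [hO, le_bot_iff] at this
      exact hN1 this
    have hcard : Nat.card N < Nat.card X + 1 := Nat.lt_succ_of_le (Subgroup.card_le_card_group N)
    rcases hI N (h.subgroup N) hna hcard with h1 | h1
    · exact ti_of_normal_ti h hO hN hNo h1
    · exact absurd (hφ.comp N) (h1 V hV2 hV _)

end fpf

section quot

theorem isSyl_map_quot {G X : Type*} [Group G] [Finite G] [Group X] [Finite X] {L T : Subgroup G}
    (π : L →* X) (hs : Function.Surjective π) (hT : IsSyl 2 T L) :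
    IsSyl 2 ((T.subgroupOf L).map π) ⊤ := by
  haveI : Fact (Nat.Prime 2) := ⟨Nat.prime_two⟩
  apply isSyl_of_not_dvd ((hT.isPGroup.comap_of_injective _ L.subtype_injective).map _) le_top
  rw [relIndex_top_right]
  intro h
  exact hT.not_dvd_relIndex (h.trans (index_map_dvd _ hs))

theorem isSyl_comap_quot {G X : Type*} [Group G] [Finite G] [Group X] [Finite X] {L : Subgroup G}
    (π : L →* X) (hs : Function.Surjective π) (hk : IsPGroup 2 π.ker) {P : Subgroup X}
    (hP : IsSyl 2 P ⊤) : IsSyl 2 ((P.comap π).map L.subtype) L := by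
  haveI : Fact (Nat.Prime 2) := ⟨Nat.prime_two⟩
  apply isSyl_of_not_dvd ((hP.isPGroup.comap_of_ker_isPGroup _ hk).map _) (map_subtype_le _)
  have h1 : ((P.comap π).map L.subtype).subgroupOf L = P.comap π := by
    rw [subgroupOf, comap_map_eq_self_of_injective L.subtype_injective]
  rw [relIndex, h1, index_comap_of_surjective _ hs, ← relIndex_top_right]
  exact hP.not_dvd_relIndex

theorem inf_le_of_ti {G X : Type*} [Group G] [Finite G] [Group X] [Finite X] {L T T' : Subgroup G}
    (π : L →* X) (hs : Function.Surjective π) (hTI : TI2 X) (hT : IsSyl 2 T L)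
    (hT' : IsSyl 2 T' L) (hk : π.ker ≤ T.subgroupOf L) (hk' : π.ker ≤ T'.subgroupOf L)
    (hne : T ≠ T') : T ⊓ T' ≤ π.ker.map L.subtype := by
  have h1 := hTI _ _ (isSyl_map_quot π hs hT) (isSyl_map_quot π hs hT') (by
    intro h
    apply hne
    have h2 := congrArg (fun R => (R.comap π).map L.subtype) h
    rw [comap_map_eq_self hk, comap_map_eq_self hk', map_subgroupOf_eq_of_le hT.le,
      map_subgroupOf_eq_of_le hT'.le] at h2
    exact h2)
  intro x hx
  have hxL : x ∈ L := hT.le hx.1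
  have h2 : π ⟨x, hxL⟩ ∈ (((T.subgroupOf L).map π) ⊓ ((T'.subgroupOf L).map π) : Subgroup X) :=
    ⟨⟨⟨x, hxL⟩, hx.1, rfl⟩, ⟨⟨x, hxL⟩, hx.2, rfl⟩⟩
  rw [h1, mem_bot] at h2
  exact ⟨⟨x, hxL⟩, h2, rfl⟩

theorem ti_of_inf_le {G X : Type*} [Group G] [Finite G] [Group X] [Finite X] {L : Subgroup G}
    (π : L →* X) (hs : Function.Surjective π) (hk : IsPGroup 2 π.ker)
    (h : ∀ T T' : Subgroup G, IsSyl 2 T L → IsSyl 2 T' L → T ≠ T' → T ⊓ T' ≤ π.ker.map L.subtype) :
    TI2 X := by
  intro P Q hP hQ hne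
  have h1 := h _ _ (isSyl_comap_quot π hs hk hP) (isSyl_comap_quot π hs hk hQ) (by
    intro h2
    apply hne
    have h3 := congrArg (fun R => (R.comap L.subtype).map π) h2
    rwa [comap_map_eq_self_of_injective L.subtype_injective,
      comap_map_eq_self_of_injective L.subtype_injective, map_comap_eq_self_of_surjective hs,
      map_comap_eq_self_of_surjective hs] at h3)
  rw [eq_bot_iff]
  intro x hx
  obtain ⟨y, rfl⟩ := hs x
  have h2 : (y : G) ∈ ((P.comap π).map L.subtype ⊓ (Q.comap π).map L.subtype : Subgroup G) :=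
    ⟨⟨y, hx.1, rfl⟩, ⟨y, hx.2, rfl⟩⟩
  obtain ⟨z, hz, hzy⟩ := h1 h2
  have : z = y := Subtype.ext hzy
  rw [← this]; exact hz

end quot

section zeta

variable {G : Type*} [Group G]

/-- `Ω₁(Z(T))` -/
def zeta (T : Subgroup G) : Subgroup G where
  carrier := {x | x ∈ T ∧ x * x = 1 ∧ ∀ y ∈ T, x * y = y * x}
  one_mem' := ⟨one_mem _, by simp, by simp⟩
  mul_mem' := by
    rintro a b ⟨ha, ha2, hac⟩ ⟨hb, hb2, hbc⟩
    refine ⟨mul_mem ha hb, ?_, ?_⟩
    · calc a * b * (a * b) = a * (b * a) * b := by group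
        _ = a * (a * b) * b := by rw [hac b hb]
        _ = (a * a) * (b * b) := by group
        _ = 1 := by rw [ha2, hb2, one_mul]
    · intro y hy
      rw [mul_assoc, hbc y hy, ← mul_assoc, hac y hy, mul_assoc]
  inv_mem' := by
    rintro a ⟨ha, ha2, hac⟩
    have : a⁻¹ = a := inv_eq_of_mul_eq_one_left ha2
    rw [this]; exact ⟨ha, ha2, hac⟩

theorem mem_zeta {T : Subgroup G} {x : G} :
    x ∈ zeta T ↔ x ∈ T ∧ x * x = 1 ∧ ∀ y ∈ T, x * y = y * x := Iff.rfl

theorem zeta_le (T : Subgroup G) : zeta T ≤ T := fun _ h => h.1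

theorem zeta_cj (g : G) (T : Subgroup G) : zeta (cj g T) = cj g (zeta T) := by
  ext x
  rw [mem_cj, mem_zeta, mem_zeta, mem_cj]
  refine and_congr Iff.rfl (and_congr ?_ ?_)
  · constructor
    · intro h
      calc g⁻¹ * x * g * (g⁻¹ * x * g) = g⁻¹ * (x * x) * g := by group
        _ = 1 := by rw [h]; group
    · intro h
      calc x * x = g * (g⁻¹ * x * g * (g⁻¹ * x * g)) * g⁻¹ := by group
        _ = 1 := by rw [h]; group
  · constructor
    · intro h y hy
      have := h (g * y * g⁻¹) (conj_mem_cj hy)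
      calc g⁻¹ * x * g * y = g⁻¹ * (x * (g * y * g⁻¹)) * g := by group
        _ = y * (g⁻¹ * x * g) := by rw [this]; group
    · intro h y hy
      have := h (g⁻¹ * y * g) (mem_cj.1 hy)
      calc x * y = g * (g⁻¹ * x * g * (g⁻¹ * y * g)) * g⁻¹ := by group
        _ = y * x := by rw [this]; group

theorem le_normalizer_zeta (T : Subgroup G) : normalizer (T : Set G) ≤ normalizer (zeta T : Set G) := by
  intro g hg
  rw [mem_normalizer_iff_cj, ← zeta_cj, mem_normalizer_iff_cj.1 hg]

theorem zeta_ne_bot [Finite G] {T : Subgroup G} (hT : IsPGroup 2 T) (hT1 : T ≠ ⊥) :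
    zeta T ≠ ⊥ := by
  haveI : Fact (Nat.Prime 2) := ⟨Nat.prime_two⟩
  have hne : (⊤ : Subgroup T) ≠ ⊥ := by
    obtain ⟨u, hu, hu1⟩ := exists_mem_ne_one hT1
    intro h
    have : (⟨u, hu⟩ : T) ∈ (⊤ : Subgroup T) := mem_top _
    rw [h, mem_bot] at this
    exact hu1 (congrArg Subtype.val this)
  obtain ⟨z, -, hz1, hzc⟩ := UniqueInvolution.exists_central_of_normal hT ⊤ hne
  have hz1' : (z : G) ≠ 1 := fun h => hz1 (Subtype.ext h)
  obtain ⟨k, hk⟩ := pow_two_of_isPGroup hT z.2
  obtain ⟨m, hm⟩ := exists_pow_two hz1' hk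
  intro h
  have h1 : (z : G) ^ m ∈ zeta T := by
    refine ⟨pow_mem z.2 m, mul_self hm, fun y hy => ?_⟩
    have := congrArg Subtype.val (hzc ⟨y, hy⟩)
    have h2 : Commute (z : G) y := by first | exact this | exact this.symm
    exact (h2.pow_left m)
  rw [h, mem_bot] at h1
  rw [h1, orderOf_one] at hm
  omega

end zeta

section p2

variable {G : Type u} [Group G] [Finite G]

def P2 (G : Type*) [Group G] : Prop :=
  ∀ L T T' : Subgroup G, O2 L ≠ ⊥ → IsSyl 2 T L → IsSyl 2 T' L → T ≠ T' → T ⊓ T' = O2 L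

theorem IsCIT.p2 (h : IsCIT G) (hI : Ind.{u} (Nat.card G)) : P2 G := by
  classical
  haveI : Fact (Nat.Prime 2) := ⟨Nat.prime_two⟩
  intro L T T' hL hT hT' hne
  have hn := Fitting.normal_pCore 2 (G := L)
  have hO := O2_isPGroup L
  have hpc : IsPGroup 2 (Cfsg.pCore 2 L) := Fitting.isPGroup_pCore 2
  set X := L ⧸ Cfsg.pCore 2 L with hX
  set V : Subgroup G := zeta (O2 L) with hV
  have hVL : V ≤ L := (zeta_le _).trans (O2_le L)
  have hLV : L ≤ normalizer (V : Set G) := (le_normalizer_O2 L).trans (le_normalizer_zeta _)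
  have hVn : (V.subgroupOf L).Normal := SubgroupTools.normal_subgroupOf_iff_le_normalizer' hLV
  -- work with the type `W = V.subgroupOf L`
  let W : Subgroup L := V.subgroupOf L
  have hW : ∀ w : L, w ∈ W ↔ (w : G) ∈ V := fun w => Iff.rfl
  letI : CommGroup W := { (inferInstance : Group W) with
    mul_comm := by
      rintro ⟨a, ha⟩ ⟨b, hb⟩
      apply Subtype.ext; apply Subtype.ext
      exact ((mem_zeta.1 ((hW _).1 ha)).2.2 _ (zeta_le _ ((hW _).1 hb))) }
  let φ0 : L →* MulAut W := MulAut.conjNormal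
  have hker : Cfsg.pCore 2 L ≤ φ0.ker := by
    intro x hx
    rw [MonoidHom.mem_ker]
    ext w
    have h1 : ((w : L) : G) ∈ V := (hW _).1 w.2
    have h2 : (x : G) ∈ O2 L := ⟨x, hx, rfl⟩
    have h3 := (mem_zeta.1 h1).2.2 _ h2
    have h4 : ((φ0 x w : L) : G) = (x : G) * w * (x : G)⁻¹ := by
      have := MulAut.conjNormal_apply (H := W) x w
      rw [show φ0 x w = MulAut.conjNormal x w from rfl, this]; simp
    rw [h4, MulAut.one_apply, ← h3, mul_inv_cancel_right]
  let φ : X →* MulAut W := QuotientGroup.lift (Cfsg.pCore 2 L) φ0 hker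
  have hφ : FPF φ := by
    intro y hy hyo v hv
    obtain ⟨z, rfl⟩ := QuotientGroup.mk'_surjective _ y
    obtain ⟨e, he, hez⟩ := exists_odd_lift (QuotientGroup.mk' (Cfsg.pCore 2 L)) z hyo
    rw [← hez] at hy hv
    by_contra hv1
    apply hy
    have h1 : φ (QuotientGroup.mk' (Cfsg.pCore 2 L) (z ^ e)) v = φ0 (z ^ e) v := rfl
    rw [h1] at hv
    have h2 : (((z ^ e : L) : G)) * ((v : L) : G) * (((z ^ e : L) : G))⁻¹ = ((v : L) : G) := by
      have := MulAut.conjNormal_apply (H := W) (z ^ e) v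
      have h3 := congrArg (fun w : W => ((w : L) : G)) hv
      rw [show φ0 (z ^ e) v = MulAut.conjNormal (z ^ e) v from rfl, this] at h3
      simpa using h3
    have h4 : ((z ^ e : L) : G) = 1 := by
      refine h.eq_one hO (zeta_le _ ((hW _).1 v.2)) ?_ ?_ (mul_inv_eq_iff_eq_mul.1 h2)
      · intro h5; exact hv1 (Subtype.ext (Subtype.ext h5))
      · rw [orderOf_coe]; exact he
    have h5 : z ^ e = 1 := Subtype.ext h4
    rw [h5, map_one]
  have hV2 : ∀ v : W, v * v = 1 := fun v =>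
    Subtype.ext (Subtype.ext (mem_zeta.1 ((hW _).1 v.2)).2.1)
  have hVne : ∃ v : W, v ≠ 1 := by
    obtain ⟨u, hu, hu1⟩ := exists_mem_ne_one (zeta_ne_bot hO hL)
    exact ⟨⟨⟨u, hVL hu⟩, hu⟩, fun h => hu1 (congrArg (fun w : W => ((w : L) : G)) h)⟩
  have hXc : IsCIT X := (h.subgroup L).quotient _ hpc
  have hXO : Cfsg.pCore 2 X = ⊥ := Fitting.pCore_quotient_pCore 2
  have hcard : Nat.card X + 1 ≤ Nat.card G := by
    have h1 : Nat.card X * Nat.card (Cfsg.pCore 2 L) = Nat.card L := by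
      rw [hX]; exact (Subgroup.card_eq_card_quotient_mul_card_subgroup _).symm
    have h2 : 1 < Nat.card (Cfsg.pCore 2 L) := by
      rw [Subgroup.one_lt_card_iff_ne_bot]
      intro h3
      apply hL
      rw [O2, h3, Subgroup.map_bot]
    have h3 : Nat.card L ≤ Nat.card G := Subgroup.card_le_card_group L
    have h4 : 0 < Nat.card X := Nat.card_pos
    nlinarith
  have hTI : TI2 X := ti_of_fpf hXc hXO hφ hV2 hVne (by
    intro E _ _ _ h1 h2 h3
    exact hI E h1 h2 (lt_of_lt_of_le h3 hcard))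
  have hk : (QuotientGroup.mk' (Cfsg.pCore 2 L)).ker = Cfsg.pCore 2 L := QuotientGroup.ker_mk' _
  have hle : ∀ R : Subgroup G, IsSyl 2 R L → (QuotientGroup.mk' (Cfsg.pCore 2 L)).ker ≤ R.subgroupOf L := by
    intro R hR x hx
    rw [hk] at hx
    exact O2_le_isSyl hR ⟨x, hx, rfl⟩
  apply le_antisymm
  · have := inf_le_of_ti (QuotientGroup.mk' (Cfsg.pCore 2 L)) (QuotientGroup.mk'_surjective _) hTI
      hT hT' (hle T hT) (hle T' hT') hne
    rwa [hk] at this
  · exact le_inf (O2_le_isSyl hT) (O2_le_isSyl hT')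

end p2

end Cfsg.Agent.Lib.CIT
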