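import Cfsg.Prelude
import Mathlib
import Cfsg.Agent.Lib.CITBasic
import Cfsg.Agent.Lib.PSL2Orders

/-!
# CIT-groups (helper6): which `PSL₂(q)`, `q` odd, are CIT-groups
-/

set_option autoImplicit false
set_option linter.all false

namespace Cfsg.Agent.Lib.CIT

theorem pow_odd_modEq {p f N : ℕ} (h : p ^ 2 ≡ 1 [MOD N]) (hf : Odd f) : p ^ f ≡ p [MOD N] := by
  obtain ⟨c, rfl⟩ := hf
  have h1 : (p ^ 2) ^ c ≡ 1 ^ c [MOD N] := h.pow c
  rw [one_pow, ← pow_mul] at h1
  rw [pow_succ]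
  simpa using h1.mul_right p

theorem eq_of_sub {p f m : ℕ} (hp : p.Prime) (hp2 : p ≠ 2) (hf : 0 < f) (h : p ^ f = 2 ^ m + 1) :
    f = 1 ∨ p ^ f = 9 := by
  have hpo : Odd p := hp.odd_of_ne_two hp2
  have hp3 : 3 ≤ p := by have := hp.two_le; omega
  rcases Nat.even_or_odd f with ⟨g, hg⟩ | hfo
  · right
    obtain ⟨r, hr⟩ : ∃ r, r = p ^ g := ⟨_, rfl⟩
    have hr1 : 3 ≤ r := by
      rw [hr]
      calc 3 ≤ p := hp3
        _ = p ^ 1 := (pow_one p).symm
        _ ≤ p ^ g := Nat.pow_le_pow_right hp.pos (by omega)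
    have hrr : r * r = 2 ^ m + 1 := by rw [hr, ← pow_add, ← hg, h]
    obtain ⟨s, rfl⟩ : ∃ s, r = s + 1 := ⟨r - 1, by omega⟩
    have hs : s * (s + 2) = 2 ^ m := by nlinarith
    obtain ⟨a, ha, ha'⟩ := (Nat.dvd_prime_pow Nat.prime_two).1 (Dvd.intro _ hs)
    obtain ⟨b, hb, hb'⟩ := (Nat.dvd_prime_pow Nat.prime_two).1 (Dvd.intro_left _ hs)
    have ha1 : a = 1 := by
      rcases Nat.lt_or_ge a 1 with h1 | h1
      · have : a = 0 := by omega
        subst this; simp at ha'; omega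
      · by_contra h2
        have h3 : (2 : ℕ) ^ 2 ∣ 2 ^ a := pow_dvd_pow 2 (by omega)
        have h4 : b ≠ 0 ∧ b ≠ 1 := by
          constructor
          · rintro rfl; simp at hb'
          · rintro rfl; simp at hb'; omega
        have h5 : (2 : ℕ) ^ 2 ∣ 2 ^ b := pow_dvd_pow 2 (by omega)
        rw [← ha'] at h3
        rw [← hb'] at h5
        omega
    rw [ha1] at ha'
    have : s = 2 := by simpa using ha'
    subst this
    rw [h, ← hs]
  · left
    by_contra hf1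
    have h1 : p - 1 ∣ 2 ^ m := by
      have h2 := Nat.sub_dvd_pow_sub_pow p 1 f
      rw [one_pow, h, Nat.add_sub_cancel] at h2
      exact h2
    obtain ⟨a, ha, ha'⟩ := (Nat.dvd_prime_pow Nat.prime_two).1 h1
    have ha1 : 1 ≤ a := by
      by_contra h2
      have : a = 0 := by omega
      rw [this, pow_zero] at ha'; omega
    have hpa : p = 2 ^ a + 1 := by omega
    have h2 : p ^ 2 ≡ 1 [MOD 2 ^ (a + 1)] := by
      have h3 : p ^ 2 = 2 ^ (a + 1) * (2 ^ (a - 1) + 1) + 1 := by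
        obtain ⟨c, rfl⟩ : ∃ c, a = c + 1 := ⟨a - 1, by omega⟩
        rw [hpa, Nat.add_sub_cancel]; ring
      rw [h3]
      exact (Nat.modEq_iff_dvd' (by omega)).2 (by simp) |>.symm
    have h3 := pow_odd_modEq h2 hfo
    have hlt : a < m := by
      have h4 : p ^ 1 < p ^ f := Nat.pow_lt_pow_right (by omega) (by omega)
      rw [pow_one, h, hpa] at h4
      exact (Nat.pow_lt_pow_iff_right (by norm_num : 1 < 2)).1 (by omega)
    rw [h] at h3
    rw [hpa] at h3
    have h4 : 2 ^ m ≡ 2 ^ a [MOD 2 ^ (a + 1)] := Nat.ModEq.add_right_cancel' 1 h3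
    have h5 : (2 : ℕ) ^ (a + 1) ∣ 2 ^ m := pow_dvd_pow 2 hlt
    have h6 : (2 : ℕ) ^ (a + 1) ∣ 2 ^ a := (h4.dvd_iff dvd_rfl).1 h5
    have := (Nat.pow_dvd_pow_iff_le_right (by norm_num : 1 < 2)).1 h6
    omega

theorem eq_of_add {p f m : ℕ} (hp : p.Prime) (hp2 : p ≠ 2) (hf : 0 < f) (h : p ^ f + 1 = 2 ^ m) :
    f = 1 := by
  have hpo : Odd p := hp.odd_of_ne_two hp2
  have hp3 : 3 ≤ p := by have := hp.two_le; omega
  rcases Nat.even_or_odd f with ⟨g, hg⟩ | hfo
  · exfalso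
    obtain ⟨r, hr⟩ : ∃ r, r = p ^ g := ⟨_, rfl⟩
    have hro : Odd r := by rw [hr]; exact hpo.pow
    have hrr : r * r + 1 = 2 ^ m := by rw [hr, ← pow_add, ← hg, h]
    have hr1 : 3 ≤ r := by
      rw [hr]
      calc 3 ≤ p := hp3
        _ = p ^ 1 := (pow_one p).symm
        _ ≤ p ^ g := Nat.pow_le_pow_right hp.pos (by omega)
    have hm : 2 ≤ m := by
      by_contra hcon
      have h1 : 2 ^ m ≤ 2 ^ 1 := Nat.pow_le_pow_right (by norm_num) (by omega)
      nlinarith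
    have h1 : (2 : ℕ) ^ 2 ∣ 2 ^ m := pow_dvd_pow 2 hm
    rw [← hrr] at h1
    obtain ⟨c, rfl⟩ := hro
    have h2 : (2 * c + 1) * (2 * c + 1) + 1 = 4 * (c * c + c) + 2 := by ring
    rw [h2] at h1
    omega
  · by_contra hf1
    have h1 : p + 1 ∣ 2 ^ m := by
      have h2 := hfo.nat_add_dvd_pow_add_pow p 1
      rw [one_pow, h] at h2
      exact h2
    obtain ⟨a, ha, ha'⟩ := (Nat.dvd_prime_pow Nat.prime_two).1 h1
    have ha1 : 1 ≤ a := by
      by_contra h2
      have : a = 0 := by omega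
      rw [this, pow_zero] at ha'; omega
    have h2 : p ^ 2 ≡ 1 [MOD 2 ^ (a + 1)] := by
      have h4 : p ^ 2 + 2 * (p + 1) = (p + 1) * (p + 1) + 1 := by ring
      have h5 : (p + 1) * (p + 1) + 1 ≡ 1 [MOD 2 ^ (a + 1)] := by
        rw [ha']
        refine ((Nat.modEq_iff_dvd' (by omega)).2 ?_).symm
        rw [Nat.add_sub_cancel, ← pow_add]
        exact pow_dvd_pow 2 (by omega)
      have h6 : p ^ 2 + 2 * (p + 1) ≡ p ^ 2 [MOD 2 ^ (a + 1)] := by
        rw [ha', ← pow_succ']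
        refine ((Nat.modEq_iff_dvd' (by omega)).2 ?_).symm
        simp
      exact h6.symm.trans (h4 ▸ h5)
    have h3 := pow_odd_modEq h2 hfo
    have hlt : a < m := by
      have h4 : p ^ 1 < p ^ f := Nat.pow_lt_pow_right (by omega) (by omega)
      rw [pow_one] at h4
      exact (Nat.pow_lt_pow_iff_right (by norm_num : 1 < 2)).1 (by omega)
    have h4 : 2 ^ m ≡ 2 ^ a [MOD 2 ^ (a + 1)] := by
      rw [← h, ← ha']; exact h3.add_right 1
    have h5 : (2 : ℕ) ^ (a + 1) ∣ 2 ^ m := pow_dvd_pow 2 hlt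
    have h6 : (2 : ℕ) ^ (a + 1) ∣ 2 ^ a := (h4.dvd_iff dvd_rfl).1 h5
    have := (Nat.pow_dvd_pow_iff_le_right (by norm_num : 1 < 2)).1 h6
    omega

theorem IsCIT.pow_two_of_even {G : Type*} [Group G] [Finite G] (h : IsCIT G) {x : G} (hx : Even (orderOf x)) :
    ∃ k, orderOf x = 2 ^ k := by
  haveI : Fact (Nat.Prime 2) := ⟨Nat.prime_two⟩
  obtain ⟨n, hn⟩ := hx
  have hpos := orderOf_pos x
  have h1 : orderOf (x ^ n) = 2 := by
    rw [orderOf_pow_of_dvd (by omega) (by rw [hn]; exact Dvd.intro_left 2 (by ring)), hn,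
      show n + n = 2 * n by ring, Nat.mul_div_cancel _ (by omega)]
  have h2 : x ∈ Subgroup.centralizer ({x ^ n} : Set G) := by
    rw [mem_cent]; exact (Commute.refl x).pow_right n
  obtain ⟨k, hk⟩ := pow_two_of_isPGroup (h _ h1) h2
  obtain ⟨j, -, hj⟩ := (Nat.dvd_prime_pow Nat.prime_two).1 (orderOf_dvd_of_pow_eq_one hk)
  exact ⟨j, hj⟩

theorem IsCIT.equiv {G H : Type*} [Group G] [Group H] (h : IsCIT G) (e : G ≃* H) : IsCIT H := by
  intro t ht
  have h1 := h (e.symm t) (by rw [MulEquiv.orderOf_eq]; exact ht)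
  refine IsPGroup.of_injective h1
    ((e.symm.toMonoidHom.comp (Subgroup.centralizer ({t} : Set H)).subtype).codRestrict _ ?_) ?_
  · intro x
    have := mem_cent.1 x.2
    rw [mem_cent]
    have h2 := congrArg e.symm this
    simpa using h2
  · intro x y hxy
    have := congrArg (fun z : (Subgroup.centralizer ({e.symm t} : Set G)) => (z : G)) hxy
    exact Subtype.ext (e.symm.injective this)

theorem psl2_restrict {F : Type*} [Field F] [Fintype F] (hodd : Odd (Fintype.card F))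
    (h : IsCIT (Matrix.ProjectiveSpecialLinearGroup (Fin 2) F)) :
    Fintype.card F = 9 ∨
      ((Fintype.card F).Prime ∧ ∃ k : ℕ, Fintype.card F = 2 ^ k + 1 ∨ Fintype.card F + 1 = 2 ^ k) := by
  classical
  obtain ⟨p, hchar⟩ := CharP.exists F
  obtain ⟨f, hp, hpf⟩ := FiniteField.card F p
  haveI : Fact p.Prime := ⟨hp⟩
  have hspec := PSL2Orders.spectrum (F := F) p
  have hg : Nat.gcd 2 (Fintype.card F - 1) = 2 := by
    obtain ⟨c, hc⟩ := hodd
    have : Fintype.card F - 1 = 2 * c := by omega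
    rw [this]; simp
  rw [hg] at hspec
  have hp2 : p ≠ 2 := by
    rintro rfl
    rw [hpf] at hodd
    have : Even (2 ^ (f : ℕ)) := (even_two).pow_of_ne_zero f.pos.ne'
    exact (Nat.not_even_iff_odd.2 hodd) this
  have hfin : Finite (Matrix.ProjectiveSpecialLinearGroup (Fin 2) F) := inferInstance
  have key : ∀ m : ℕ, m ∈ Set.range (orderOf : Matrix.ProjectiveSpecialLinearGroup (Fin 2) F → ℕ) →
      Even m → ∃ k, m = 2 ^ k := by
    rintro m ⟨x, rfl⟩ hm
    exact h.pow_two_of_even hm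
  have hq : 1 < Fintype.card F := Fintype.one_lt_card
  have hdich : ∃ k : ℕ, Fintype.card F = 2 ^ k + 1 ∨ Fintype.card F + 1 = 2 ^ k := by
    obtain ⟨c, hc⟩ := hodd
    rcases Nat.even_or_odd c with hce | hco
    · obtain ⟨k, hk⟩ := key c (by rw [hspec]; right; left; rw [hc]; simp) hce
      refine ⟨k + 1, Or.inl ?_⟩
      rw [hc, pow_succ, ← hk]; ring
    · obtain ⟨k, hk⟩ := key (c + 1) (by
        rw [hspec]; right; right; rw [hc]
        have : (2 * c + 1 + 1) / 2 = c + 1 := by omega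
        rw [this]) (hco.add_odd odd_one)
      refine ⟨k + 1, Or.inr ?_⟩
      rw [hc, pow_succ, ← hk]; ring
  obtain ⟨k, hk⟩ := hdich
  rcases hk with hk | hk
  · rcases eq_of_sub hp hp2 f.pos (by rw [← hpf]; exact hk) with h1 | h1
    · right
      refine ⟨?_, k, Or.inl hk⟩
      rw [hpf, h1, pow_one]; exact hp
    · left; rw [hpf]; exact h1
  · have h1 := eq_of_add hp hp2 f.pos (by rw [← hpf]; exact hk)
    right
    refine ⟨?_, k, Or.inr hk⟩
    rw [hpf, h1, pow_one]; exact hp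

end Cfsg.Agent.Lib.CIT
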