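import Mathlib

set_option autoImplicit false

/-!
# Sharply 3-transitive groups: elements of order 3 (helper12)
-/

namespace Cfsg.Agent.Lib.Sharp3Ord

open MulAction

variable {G : Type*} [Group G] [Finite G] {α : Type*} [Fintype α] [DecidableEq α] [MulAction G α]

/-- an embedding from three distinct points -/
def emb3 {a b c : α} (hab : a ≠ b) (hac : a ≠ c) (hbc : b ≠ c) : Fin 3 ↪ α where
  toFun := ![a, b, c]
  inj' := by
    intro i j hij
    fin_cases i <;> fin_cases j <;> simp_all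

omit [Finite G] [Fintype α] [DecidableEq α] in
theorem sharp_of (hsharp : ∀ x : Fin 3 ↪ α, stabilizer G x = ⊥) {a b c : α} (hab : a ≠ b)
    (hac : a ≠ c) (hbc : b ≠ c) {g : G} (ha : g • a = a) (hb : g • b = b) (hc : g • c = c) :
    g = 1 := by
  have h1 : g ∈ stabilizer G (emb3 hab hac hbc) := by
    rw [mem_stabilizer_iff]
    ext i
    rw [Function.Embedding.smul_apply]
    fin_cases i
    · exact ha
    · exact hb
    · exact hc
  rw [hsharp, Subgroup.mem_bot] at h1
  exact h1

omit [Finite G] [Fintype α] [DecidableEq α] in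
theorem exists_of (h3 : IsMultiplyPretransitive G α 3) {a b c a' b' c' : α} (hab : a ≠ b)
    (hac : a ≠ c) (hbc : b ≠ c) (hab' : a' ≠ b') (hac' : a' ≠ c') (hbc' : b' ≠ c') :
    ∃ g : G, g • a = a' ∧ g • b = b' ∧ g • c = c' := by
  obtain ⟨g, hg⟩ := h3.exists_smul_eq (emb3 hab hac hbc) (emb3 hab' hac' hbc')
  refine ⟨g, ?_, ?_, ?_⟩
  · exact congrArg (fun e : Fin 3 ↪ α => e 0) hg
  · exact congrArg (fun e : Fin 3 ↪ α => e 1) hg
  · exact congrArg (fun e : Fin 3 ↪ α => e 2) hg

omit [Finite G] in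
theorem fix_le (hsharp : ∀ x : Fin 3 ↪ α, stabilizer G x = ⊥) {g : G} (hg : g ≠ 1) :
    (Finset.univ.filter (fun x : α => g • x = x)).card ≤ 2 := by
  by_contra hcon
  push Not at hcon
  obtain ⟨a, ha, b, hb, c, hc, hab, hac, hbc⟩ := Finset.two_lt_card.mp hcon
  exact hg (sharp_of hsharp hab hac hbc (Finset.mem_filter.mp ha).2 (Finset.mem_filter.mp hb).2
    (Finset.mem_filter.mp hc).2)

omit [Finite G] in
theorem fix_mod {g : G} (hg : g ^ 3 = 1) :
    Fintype.card α ≡ (Finset.univ.filter (fun x : α => g • x = x)).card [MOD 3] := by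
  have := Fact.mk Nat.prime_three
  let f : Function.End α := fun x => g • x
  have hf : f ^ 3 ^ 1 = 1 := by
    funext x
    show g • g • g • x = x
    rw [← mul_smul, ← mul_smul, ← pow_two, ← pow_succ, hg, one_smul]
  have h := Equiv.Perm.card_fixedPoints_modEq hf
  have h1 : Fintype.card (Function.fixedPoints f) =
      (Finset.univ.filter (fun x : α => g • x = x)).card := by
    rw [← Fintype.card_subtype]
    exact Fintype.card_congr (Equiv.refl _)
  rw [h1] at h
  exact h

/-- In a sharply 3-transitive group a two point stabiliser has at most two elements of order 3. -/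
theorem order_three (h3 : IsMultiplyPretransitive G α 3)
    (hsharp : ∀ x : Fin 3 ↪ α, stabilizer G x = ⊥) {a b : α} (hab : a ≠ b) {x₀ : G}
    (hx₀ : x₀ ≠ 1) (hx₀3 : x₀ ^ 3 = 1) (hxa : x₀ • a = a) (hxb : x₀ • b = b)
    (hn3 : 3 ≤ Fintype.card α) :
    Nat.card {x : {x : G // x ≠ 1 ∧ x ^ 3 = 1} // x.1 • a = a ∧ x.1 • b = b} = 2 := by
  classical
  let _ : Fintype G := Fintype.ofFinite G
  set n := Fintype.card α with hn
  have hn2 : n ≡ 2 [MOD 3] := by
    have h1 := fix_le hsharp hx₀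
    have h2 : 2 ≤ (Finset.univ.filter (fun x : α => x₀ • x = x)).card := by
      rw [← Finset.card_pair hab]
      apply Finset.card_le_card
      intro y hy
      rw [Finset.mem_insert, Finset.mem_singleton] at hy
      rcases hy with rfl | rfl
      · exact Finset.mem_filter.mpr ⟨Finset.mem_univ _, hxa⟩
      · exact Finset.mem_filter.mpr ⟨Finset.mem_univ _, hxb⟩
    have h3 := fix_mod (α := α) hx₀3
    rw [show (Finset.univ.filter (fun x : α => x₀ • x = x)).card = 2 by omega] at h3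
    exact h3
  let T : Type _ := {x : G // x ≠ 1 ∧ x ^ 3 = 1}
  have hfix : ∀ x : T, (Finset.univ.filter (fun y : α => x.1 • y = y)).card = 2 := by
    intro x
    have h1 := fix_le (α := α) hsharp x.2.1
    have h2 := (fix_mod (α := α) x.2.2).symm.trans hn2
    have h3 : (Finset.univ.filter (fun y : α => x.1 • y = y)).card % 3 = 2 := h2
    omega
  have hfix' : ∀ x : T, Nat.card {y : α // x.1 • y = y} = 2 := by
    intro x
    rw [← hfix x, Nat.card_eq_fintype_card, Fintype.card_subtype]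
  have hmov : ∀ x : T, Nat.card {y : α // x.1 • y ≠ y} = n - 2 := by
    intro x
    have h1 := Fintype.card_subtype_compl (fun y : α => x.1 • y = y)
    have h2 := hfix' x
    rw [Nat.card_eq_fintype_card] at h2 ⊢
    rw [h2] at h1
    exact h1
  have hT3 : ∀ x : T, ∀ y : α, x.1 • x.1 • x.1 • y = y := by
    intro x y
    rw [← mul_smul, ← mul_smul, ← pow_two, ← pow_succ, x.2.2, one_smul]
  -- first count
  have hne3 : ∀ (x : T) (y : α), x.1 • y ≠ y → y ≠ x.1 • y ∧ y ≠ x.1 • x.1 • y ∧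
      x.1 • y ≠ x.1 • x.1 • y := by
    intro x y h
    refine ⟨h.symm, ?_, fun h6 => h (smul_left_cancel x.1 h6).symm⟩
    intro h6
    have h7 : x.1 • y = x.1 • x.1 • x.1 • y := congrArg (fun z => x.1 • z) h6
    rw [hT3] at h7
    exact h h7
  let f : (Σ x : T, {y : α // x.1 • y ≠ y}) → (Fin 3 ↪ α) := fun q =>
    emb3 (hne3 q.1 q.2.1 q.2.2).1 (hne3 q.1 q.2.1 q.2.2).2.1 (hne3 q.1 q.2.1 q.2.2).2.2
  have hf : Function.Bijective f := by
    constructor
    · rintro ⟨x, y, hy⟩ ⟨x', y', hy'⟩ h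
      have e0 : y = y' := congrArg (fun e : Fin 3 ↪ α => e 0) h
      have e1 : x.1 • y = x'.1 • y' := congrArg (fun e : Fin 3 ↪ α => e 1) h
      have e2 : x.1 • x.1 • y = x'.1 • x'.1 • y' := congrArg (fun e : Fin 3 ↪ α => e 2) h
      subst e0
      have h1 : x.1⁻¹ * x'.1 = 1 := by
        obtain ⟨ha, hb, hc⟩ := hne3 x y hy
        apply sharp_of hsharp ha hb hc
        · rw [mul_smul, ← e1, inv_smul_smul]
        · rw [mul_smul, e1, ← e2, inv_smul_smul]
          rw [e1]
        · rw [mul_smul, e2, hT3, inv_smul_eq_iff, ← e2, hT3]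
      have h2 : x = x' := Subtype.ext (inv_mul_eq_one.mp h1)
      subst h2
      rfl
    · intro e
      have h01 : e 0 ≠ e 1 := by simp [e.injective.eq_iff]
      have h02 : e 0 ≠ e 2 := by simp [e.injective.eq_iff]
      have h12 : e 1 ≠ e 2 := by simp [e.injective.eq_iff]
      obtain ⟨g, h4, h5, h6⟩ := exists_of h3 h01 h02 h12 h12 h01.symm h02.symm
      have e3 : ∀ x : α, g ^ 3 • x = g • g • g • x := by
        intro x; rw [pow_succ, pow_two, mul_smul, mul_smul]
      have hg3 : g ^ 3 = 1 := by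
        apply sharp_of hsharp h01 h02 h12
        · rw [e3, h4, h5, h6]
        · rw [e3, h5, h6, h4]
        · rw [e3, h6, h4, h5]
      have hg1 : g ≠ 1 := by
        intro h7
        rw [h7, one_smul] at h4
        exact h01 h4
      refine ⟨⟨⟨g, hg1, hg3⟩, ⟨e 0, by
        show g • e 0 ≠ e 0
        rw [h4]; exact h01.symm⟩⟩, ?_⟩
      ext i
      fin_cases i
      · rfl
      · exact h4
      · show g • g • e 0 = e 2
        rw [h4, h5]
  have hcount1 : Nat.card T * (n - 2) = n * (n - 1) * (n - 2) := by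
    have h1 := Nat.card_congr (Equiv.ofBijective f hf)
    rw [Nat.card_sigma, Finset.sum_congr rfl (fun x _ => hmov x), Finset.sum_const,
      Finset.card_univ, smul_eq_mul, ← Nat.card_eq_fintype_card,
      Nat.card_eq_fintype_card (α := Fin 3 ↪ α), Fintype.card_embedding_eq, Fintype.card_fin,
      ← hn] at h1
    rw [h1]
    simp only [Nat.descFactorial, mul_one, Nat.sub_zero]
    ring
  have hcardT : Nat.card T = n * (n - 1) :=
    Nat.eq_of_mul_eq_mul_right (by omega) hcount1
  -- second count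
  let e2 : Fin 2 ↪ α := ⟨![a, b], by
    intro i j hij
    fin_cases i <;> fin_cases j <;> simp_all⟩
  have hcount2 : Nat.card (Σ x : T, {e : Fin 2 ↪ α // x.1 • e = e}) = Nat.card T * 2 := by
    have h1 : ∀ x : T, Nat.card {e : Fin 2 ↪ α // x.1 • e = e} = 2 := by
      intro x
      have h2 : Nat.card (Fin 2 ↪ {y : α // x.1 • y = y}) = 2 := by
        rw [Nat.card_eq_fintype_card, Fintype.card_embedding_eq, Fintype.card_fin,
          ← Nat.card_eq_fintype_card, hfix' x]
        rfl
      refine Eq.trans (Nat.card_congr ?_) h2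
      refine ⟨fun e => ⟨fun i => ⟨e.1 i, ?_⟩, ?_⟩, fun e => ⟨⟨fun i => (e i).1, ?_⟩, ?_⟩,
        ?_, ?_⟩
      · exact congrArg (fun u : Fin 2 ↪ α => u i) e.2
      · intro i j hij
        exact e.1.injective (congrArg Subtype.val hij)
      · intro i j hij
        exact e.injective (Subtype.ext hij)
      · ext i; exact (e i).2
      · intro e; rfl
      · intro e; rfl
    rw [Nat.card_sigma, Finset.sum_congr rfl (fun x _ => h1 x), Finset.sum_const,
      Finset.card_univ, smul_eq_mul, ← Nat.card_eq_fintype_card]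
  have h2t : IsMultiplyPretransitive G α 2 :=
    isMultiplyPretransitive_of_le (n := 3) (by omega) (by rw [Nat.card_eq_fintype_card]; omega)
  have hcount3 : Nat.card (Σ x : T, {e : Fin 2 ↪ α // x.1 • e = e}) =
      n * (n - 1) * Nat.card {x : T // x.1 • a = a ∧ x.1 • b = b} := by
    have h1 : Nat.card (Σ x : T, {e : Fin 2 ↪ α // x.1 • e = e}) =
        Nat.card (Σ e : Fin 2 ↪ α, {x : T // x.1 • e = e}) :=
      Nat.card_congr ⟨fun q => ⟨q.2.1, ⟨q.1, q.2.2⟩⟩, fun q => ⟨q.2.1, ⟨q.1, q.2.2⟩⟩,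
        fun q => rfl, fun q => rfl⟩
    have h2 : ∀ e : Fin 2 ↪ α, Nat.card {x : T // x.1 • e = e} =
        Nat.card {x : T // x.1 • a = a ∧ x.1 • b = b} := by
      intro e
      obtain ⟨g, hg⟩ := h2t.exists_smul_eq e2 e
      have hkey : ∀ x : G, x • e = e ↔ (g⁻¹ * x * g) • a = a ∧ (g⁻¹ * x * g) • b = b := by
        intro x
        have h5 : (x • e = e) ↔ (g⁻¹ * x * g) • e2 = e2 := by
          rw [← hg, mul_smul, mul_smul, inv_smul_eq_iff]
        rw [h5]
        constructor
        · intro h6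
          exact ⟨congrArg (fun u : Fin 2 ↪ α => u 0) h6, congrArg (fun u : Fin 2 ↪ α => u 1) h6⟩
        · rintro ⟨h6, h7⟩
          ext i
          fin_cases i
          · exact h6
          · exact h7
      refine Nat.card_congr ⟨fun x => ⟨⟨g⁻¹ * x.1.1 * g, ?_, ?_⟩, (hkey _).mp x.2⟩,
        fun x => ⟨⟨g * x.1.1 * g⁻¹, ?_, ?_⟩, (hkey _).mpr ?_⟩, ?_, ?_⟩
      · intro h
        apply x.1.2.1
        have : x.1.1 = g * (g⁻¹ * x.1.1 * g) * g⁻¹ := by group
        rw [this, h]; group
      · have : (g⁻¹ * x.1.1 * g) ^ 3 = g⁻¹ * x.1.1 ^ 3 * g := by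
          have := conj_pow (i := 3) (a := g⁻¹) (b := x.1.1)
          rwa [inv_inv] at this
        rw [this, x.1.2.2]; group
      · intro h
        apply x.1.2.1
        have : x.1.1 = g⁻¹ * (g * x.1.1 * g⁻¹) * g := by group
        rw [this, h]; group
      · rw [conj_pow, x.1.2.2]; group
      · have : g⁻¹ * (g * x.1.1 * g⁻¹) * g = x.1.1 := by group
        rw [this]; exact x.2
      · intro x
        apply Subtype.ext; apply Subtype.ext
        show g * (g⁻¹ * x.1.1 * g) * g⁻¹ = x.1.1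
        group
      · intro x
        apply Subtype.ext; apply Subtype.ext
        show g⁻¹ * (g * x.1.1 * g⁻¹) * g = x.1.1
        group
    rw [h1, Nat.card_sigma, Finset.sum_congr rfl (fun e _ => h2 e), Finset.sum_const,
      Finset.card_univ, smul_eq_mul, Fintype.card_embedding_eq, Fintype.card_fin, ← hn]
    simp only [Nat.descFactorial, mul_one, Nat.sub_zero]
    ring
  rw [hcount2, hcardT] at hcount3
  exact (Nat.eq_of_mul_eq_mul_left (by
    have : 0 < n - 1 := by omega
    positivity) hcount3).symm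

/-- A two point stabiliser has at most one subgroup of order 3. -/
theorem unique (h3 : IsMultiplyPretransitive G α 3)
    (hsharp : ∀ x : Fin 3 ↪ α, stabilizer G x = ⊥) (hn3 : 3 ≤ Fintype.card α) {a b : α}
    (hab : a ≠ b) (A B : Subgroup G) (hA : A ≤ stabilizer G a ⊓ stabilizer G b)
    (hB : B ≤ stabilizer G a ⊓ stabilizer G b) (hA3 : Nat.card A = 3) (hB3 : Nat.card B = 3) :
    A = B := by
  classical
  let X : Set G := {x | (x ≠ 1 ∧ x ^ 3 = 1) ∧ x • a = a ∧ x • b = b}
  have hmem : ∀ C : Subgroup G, C ≤ stabilizer G a ⊓ stabilizer G b → Nat.card C = 3 →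
      (C : Set G) \ {1} ⊆ X ∧ ((C : Set G) \ {1}).ncard = 2 := by
    intro C hC hC3
    constructor
    · rintro x ⟨hx, hx1⟩
      have h1 : x ^ 3 = 1 := by
        have h2 := pow_card_eq_one' (x := (⟨x, hx⟩ : C))
        rw [hC3] at h2
        exact congrArg Subtype.val h2
      exact ⟨⟨hx1, h1⟩, (hC hx).1, (hC hx).2⟩
    · have h1 : (C : Set G).ncard = 3 := hC3
      have h2 := Set.ncard_sdiff_singleton_of_mem (one_mem C : (1 : G) ∈ (C : Set G))
      rw [h1] at h2
      exact h2
  obtain ⟨hA1, hA2⟩ := hmem A hA hA3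
  obtain ⟨hB1, hB2⟩ := hmem B hB hB3
  obtain ⟨x₀, hx₀⟩ : ((A : Set G) \ {1}).Nonempty := by
    rw [← Set.ncard_pos, hA2]; norm_num
  obtain ⟨⟨hx1, hx3⟩, hxa, hxb⟩ := hA1 hx₀
  have h4 := order_three h3 hsharp hab hx1 hx3 hxa hxb hn3
  have h5 : X.ncard = 2 := by
    rw [← h4]
    exact Nat.card_congr ⟨fun x => ⟨⟨x.1, x.2.1⟩, x.2.2⟩, fun x => ⟨x.1.1, x.1.2, x.2⟩,
      fun x => rfl, fun x => rfl⟩
  have h6 : (A : Set G) \ {1} = X :=
    Set.eq_of_subset_of_ncard_le hA1 (by rw [h5, hA2]) (Set.toFinite _)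
  have h7 : (B : Set G) \ {1} = X :=
    Set.eq_of_subset_of_ncard_le hB1 (by rw [h5, hB2]) (Set.toFinite _)
  ext x
  by_cases hx : x = 1
  · rw [hx]; exact ⟨fun _ => one_mem B, fun _ => one_mem A⟩
  · have h8 : x ∈ (A : Set G) \ {1} ↔ x ∈ (B : Set G) \ {1} := by rw [h6, h7]
    constructor
    · intro h; exact (h8.mp ⟨h, hx⟩).1
    · intro h; exact (h8.mpr ⟨h, hx⟩).1

end Cfsg.Agent.Lib.Sharp3Ord
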