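import Mathlib.GroupTheory.GroupAction.Jordan
import Mathlib.GroupTheory.Sylow
import Mathlib.Data.Fintype.CardEmbedding
import Mathlib.Tactic

/-!
Sharply doubly transitive groups (helper12).
-/

set_option autoImplicit false

namespace Cfsg.Agent.Lib.Sharply2

open MulAction

variable {G Ω : Type*} [Group G] [MulAction G Ω]

theorem sharp_of_stabilizer (h : ∀ x : Fin 2 ↪ Ω, stabilizer G x = ⊥) :
    ∀ g : G, ∀ a b : Ω, a ≠ b → g • a = a → g • b = b → g = 1 := by
  intro g a b hab ha hb
  have : g ∈ stabilizer G (Function.Embedding.embFinTwo hab) := by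
    rw [mem_stabilizer_iff]
    ext i
    fin_cases i
    · exact ha
    · exact hb
  rw [h, Subgroup.mem_bot] at this
  exact this

theorem card_group [Finite Ω] (h2 : IsMultiplyPretransitive G Ω 2)
    (hs : ∀ g : G, ∀ a b : Ω, a ≠ b → g • a = a → g • b = b → g = 1)
    (hn : 2 ≤ Nat.card Ω) :
    Finite G ∧ Nat.card G = Nat.card Ω * (Nat.card Ω - 1) := by
  classical
  have : Fintype Ω := Fintype.ofFinite Ω
  obtain ⟨a, b, hab⟩ : ∃ a b : Ω, a ≠ b := by
    rw [Nat.card_eq_fintype_card] at hn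
    exact Fintype.exists_pair_of_one_lt_card (by omega)
  let x0 := Function.Embedding.embFinTwo hab
  have hbij : Function.Bijective (fun g : G => g • x0) := by
    constructor
    · intro g h hgh
      have h1 : g • x0 = h • x0 := hgh
      have ha : g • a = h • a := DFunLike.congr_fun h1 0
      have hb : g • b = h • b := DFunLike.congr_fun h1 1
      have := hs (h⁻¹ * g) a b hab (by rw [mul_smul, ha, inv_smul_smul])
        (by rw [mul_smul, hb, inv_smul_smul])
      exact (inv_mul_eq_one.mp this).symm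
    · intro y
      exact h2.exists_smul_eq x0 y
  refine ⟨Finite.of_injective _ hbij.1, ?_⟩
  rw [Nat.card_congr (Equiv.ofBijective _ hbij), Nat.card_eq_fintype_card,
    Fintype.card_embedding_eq, Fintype.card_fin, ← Nat.card_eq_fintype_card]
  simp [Nat.descFactorial_succ]
  ring

/-- Number of fixed-point-free elements in a sharply 2-transitive group. -/
theorem card_fpf [Finite Ω] (h2 : IsMultiplyPretransitive G Ω 2)
    (hs : ∀ g : G, ∀ a b : Ω, a ≠ b → g • a = a → g • b = b → g = 1)
    (hn : 2 ≤ Nat.card Ω) :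
    Nat.card {g : G // ∀ a : Ω, g • a ≠ a} = Nat.card Ω - 1 := by
  classical
  obtain ⟨hfin, hcard⟩ := card_group h2 hs hn
  have : Fintype Ω := Fintype.ofFinite Ω
  have : Fintype G := Fintype.ofFinite G
  have htrans : IsPretransitive G Ω := isPretransitive_of_is_two_pretransitive
  obtain ⟨a0⟩ : Nonempty Ω := by
    rw [← Finite.card_pos_iff]; omega
  have hone : Fintype.card (Quotient (orbitRel G Ω)) = 1 := by
    rw [Fintype.card_eq_one_iff]
    refine ⟨Quotient.mk'' a0, fun y => ?_⟩
    refine Quotient.inductionOn' y fun b => ?_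
    apply Quotient.sound'
    rw [orbitRel_apply]
    exact exists_smul_eq G a0 b
  have hB := sum_card_fixedBy_eq_card_orbits_mul_card_group G Ω
  rw [hone, one_mul] at hB
  have hpt : ∀ g : G, Fintype.card (fixedBy Ω g) + (if (∀ a : Ω, g • a ≠ a) then 1 else 0) =
      1 + (if g = 1 then Nat.card Ω - 1 else 0) := by
    intro g
    by_cases hg : g = 1
    · subst hg
      have h1 : Fintype.card (fixedBy Ω (1 : G)) = Nat.card Ω := by
        rw [Nat.card_eq_fintype_card]
        refine Fintype.card_congr (Equiv.subtypeUnivEquiv ?_)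
        intro x; simp
      rw [h1, if_neg, if_pos rfl]
      · omega
      · push Not; exact ⟨a0, one_smul _ _⟩
    · rw [if_neg hg]
      by_cases hf : ∀ a : Ω, g • a ≠ a
      · rw [if_pos hf]
        have : IsEmpty (fixedBy Ω g) := ⟨fun ⟨x, hx⟩ => hf x hx⟩
        rw [Fintype.card_eq_zero]
      · rw [if_neg hf]
        push Not at hf
        obtain ⟨a, ha⟩ := hf
        rw [add_zero, add_zero, Fintype.card_eq_one_iff]
        refine ⟨⟨a, ha⟩, fun ⟨y, hy⟩ => ?_⟩
        by_contra hne
        have hya : y ≠ a := fun h => hne (Subtype.ext h)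
        exact hg (hs g y a hya hy ha)
  have hsum := Finset.sum_congr (s₁ := (Finset.univ : Finset G)) rfl (fun g _ => hpt g)
  rw [Finset.sum_add_distrib, Finset.sum_add_distrib, hB] at hsum
  simp only [Finset.sum_boole, Finset.sum_const, Finset.card_univ, smul_eq_mul, mul_one,
    Finset.sum_ite_eq', Finset.mem_univ, if_true, Nat.cast_id] at hsum
  rw [Nat.card_eq_fintype_card, Fintype.card_subtype]
  omega

/-- The structure theorem: the fixed-point-free elements together with `1` form a normal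
elementary abelian subgroup of order `|Ω|`. -/
theorem main [Finite Ω] (h2 : IsMultiplyPretransitive G Ω 2)
    (hs : ∀ g : G, ∀ a b : Ω, a ≠ b → g • a = a → g • b = b → g = 1)
    (hn : 2 ≤ Nat.card Ω) :
    ∃ p : ℕ, p.Prime ∧ ∃ N : Subgroup G, N.Normal ∧
      (∀ g : G, g ∈ N ↔ g = 1 ∨ ∀ a : Ω, g • a ≠ a) ∧ Nat.card N = Nat.card Ω ∧
      (∀ x ∈ N, x ^ p = 1) ∧ (∀ x ∈ N, ∀ y ∈ N, x * y = y * x) := by
  classical
  obtain ⟨hfin, hcard⟩ := card_group h2 hs hn
  have hfpf := card_fpf h2 hs hn
  set n := Nat.card Ω with hndef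
  obtain ⟨p, hp, hpn⟩ := Nat.exists_prime_and_dvd (n := n) (by omega)
  have : Fact p.Prime := ⟨hp⟩
  obtain ⟨x, hx⟩ := exists_prime_orderOf_dvd_card' (G := G) p (hcard ▸ Dvd.dvd.mul_right hpn _)
  have hx1 : x ≠ 1 := by
    intro h; rw [h, orderOf_one] at hx; exact hp.one_lt.ne hx
  -- x is fixed-point-free
  have hxf : ∀ a : Ω, x • a ≠ a := by
    intro a ha
    have hpg : IsPGroup p (Subgroup.zpowers x) := by
      apply IsPGroup.of_card (n := 1)
      rw [Nat.card_zpowers, hx, pow_one]
    have hmod := hpg.card_modEq_card_fixedPoints Ω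
    have hone : Nat.card (fixedPoints (Subgroup.zpowers x) Ω) = 1 := by
      rw [Nat.card_eq_one_iff_unique]
      refine ⟨⟨fun ⟨y, hy⟩ ⟨z, hz⟩ => ?_⟩, ⟨⟨a, ?_⟩⟩⟩
      · by_contra hne
        have hyz : y ≠ z := fun h => hne (Subtype.ext h)
        have hy' : x • y = y := hy ⟨x, Subgroup.mem_zpowers x⟩
        have hz' : x • z = z := hz ⟨x, Subgroup.mem_zpowers x⟩
        exact hx1 (hs x y z hyz hy' hz')
      · rintro ⟨g, hg⟩
        obtain ⟨k, rfl⟩ := Subgroup.mem_zpowers_iff.mp hg
        have : x ∈ stabilizer G a := ha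
        exact (stabilizer G a).zpow_mem this k
    rw [hone] at hmod
    have h0 : n ≡ 0 [MOD p] := (Nat.modEq_zero_iff_dvd).mpr hpn
    have h1 : 0 ≡ 1 [MOD p] := h0.symm.trans hmod
    have h2 : p ∣ 1 := (Nat.modEq_zero_iff_dvd).mp h1.symm
    exact hp.one_lt.ne' (Nat.dvd_one.mp h2)
  set C := Subgroup.centralizer ({x} : Set G) with hC
  have hCmem : ∀ c, c ∈ C ↔ x * c = c * x := by
    intro c
    rw [hC, Subgroup.mem_centralizer_singleton_iff]
    exact eq_comm
  have hCfpf : ∀ c ∈ C, ∀ a : Ω, c • a = a → c = 1 := by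
    intro c hc a ha
    refine hs c (x • a) a (hxf a) ?_ ha
    rw [← mul_smul, ← (hCmem c).mp hc, mul_smul, ha]
  have hCle : Nat.card C ≤ n := by
    obtain ⟨a0⟩ : Nonempty Ω := by
      rw [← Finite.card_pos_iff]; omega
    refine Nat.card_le_card_of_injective (fun c : C => c.1 • a0) ?_
    intro c d hcd
    have hcd' : c.1 • a0 = d.1 • a0 := hcd
    have := hCfpf (d.1⁻¹ * c.1) (C.mul_mem (C.inv_mem d.2) c.2) a0
      (by rw [mul_smul, hcd', inv_smul_smul])
    exact Subtype.ext (inv_mul_eq_one.mp this).symm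
  let f : G ⧸ C → {g : G // ∀ a : Ω, g • a ≠ a} := fun q =>
    ⟨q.out * x * q.out⁻¹, fun a h => by
      have : x • (q.out⁻¹ • a) = q.out⁻¹ • a := by
        rw [eq_inv_smul_iff, ← mul_smul, ← mul_smul]
        exact h
      exact hxf _ this⟩
  have hf : Function.Injective f := by
    intro q r hqr
    have h1 : q.out * x * q.out⁻¹ = r.out * x * r.out⁻¹ := congrArg Subtype.val hqr
    have h3 : r.out⁻¹ * q.out ∈ C := by
      rw [hCmem]
      have h4 : q.out * x = r.out * x * r.out⁻¹ * q.out := by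
        rw [← h1]; group
      calc x * (r.out⁻¹ * q.out) = r.out⁻¹ * (r.out * x * r.out⁻¹ * q.out) := by group
        _ = r.out⁻¹ * q.out * x := by rw [← h4]; group
    have h5 : (r.out : G ⧸ C) = (q.out : G ⧸ C) := (QuotientGroup.eq).mpr h3
    rw [QuotientGroup.out_eq', QuotientGroup.out_eq'] at h5
    exact h5.symm
  have hidx : Nat.card G = Nat.card (G ⧸ C) * Nat.card C :=
    Subgroup.card_eq_card_quotient_mul_card_subgroup C
  have hle2 : Nat.card (G ⧸ C) ≤ n - 1 := by
    rw [← hfpf]; exact Nat.card_le_card_of_injective f hf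
  have hCn : Nat.card C = n := by
    rw [hcard] at hidx
    have h6 : n * (n - 1) ≤ (n - 1) * Nat.card C := by
      rw [hidx]; exact Nat.mul_le_mul_right _ hle2
    have h7 : 0 < n - 1 := by omega
    have h8 : n ≤ Nat.card C := by
      rw [mul_comm] at h6
      exact Nat.le_of_mul_le_mul_left h6 h7
    omega
  have hQ : Nat.card (G ⧸ C) = n - 1 := by
    rw [hcard, hCn, mul_comm] at hidx
    exact (Nat.eq_of_mul_eq_mul_right (by omega) hidx).symm
  have hfb : Function.Bijective f := by
    refine (Nat.bijective_iff_injective_and_card f).mpr ⟨hf, ?_⟩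
    rw [hQ, hfpf]
  -- C = {1} ∪ fpf
  have hCset : ∀ g : G, g ∈ C ↔ g = 1 ∨ ∀ a : Ω, g • a ≠ a := by
    have hsub : (C : Set G) ⊆ {g : G | g = 1 ∨ ∀ a : Ω, g • a ≠ a} := by
      intro c hc
      by_cases h : c = 1
      · left; exact h
      · right; intro a ha; exact h (hCfpf c hc a ha)
    have heq : (C : Set G) = {g : G | g = 1 ∨ ∀ a : Ω, g • a ≠ a} := by
      apply Set.eq_of_subset_of_ncard_le hsub _ (Set.toFinite _)
      have h9 : {g : G | g = 1 ∨ ∀ a : Ω, g • a ≠ a} = insert 1 {g : G | ∀ a : Ω, g • a ≠ a} := by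
        ext g; simp
      rw [h9]
      refine (Set.ncard_insert_le _ _).trans ?_
      have h10 : ({g : G | ∀ a : Ω, g • a ≠ a}).ncard = n - 1 := by
        rw [← hfpf]; rfl
      have h11 : (C : Set G).ncard = n := by rw [← hCn]; rfl
      rw [h10, h11]
      omega
    intro g
    exact Set.ext_iff.mp heq g
  have hconj : ∀ y : G, (∀ a : Ω, y • a ≠ a) → ∃ g : G, g * x * g⁻¹ = y := by
    intro y hy
    obtain ⟨q, hq⟩ := hfb.2 ⟨y, hy⟩
    exact ⟨q.out, congrArg Subtype.val hq⟩
  have hnormal : C.Normal := by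
    constructor
    intro c hc g
    rw [hCset] at hc ⊢
    rcases hc with rfl | hc
    · left; simp
    · right
      intro a ha
      apply hc (g⁻¹ • a)
      rw [eq_inv_smul_iff, ← mul_smul, ← mul_smul]
      exact ha
  refine ⟨p, hp, C, hnormal, hCset, hCn, ?_, ?_⟩
  · intro y hy
    rcases (hCset y).mp hy with rfl | hy'
    · simp
    · obtain ⟨g, rfl⟩ := hconj y hy'
      rw [conj_pow, ← hx, pow_orderOf_eq_one]
      group
  · intro y hy z hz
    rcases (hCset y).mp hy with rfl | hy'
    · simp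
    · obtain ⟨g, rfl⟩ := hconj y hy'
      -- z ∈ C, g⁻¹ z g ∈ C
      have h12 : g⁻¹ * z * g ∈ C := by
        have := hnormal.conj_mem z hz g⁻¹
        simpa using this
      have h13 := (hCmem _).mp h12
      calc g * x * g⁻¹ * z = g * (x * (g⁻¹ * z * g)) * g⁻¹ := by group
        _ = g * (g⁻¹ * z * g * x) * g⁻¹ := by rw [h13]
        _ = z * (g * x * g⁻¹) := by group

end Cfsg.Agent.Lib.Sharply2
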