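import Cfsg.Agent.Lib.ElemCent3
import Cfsg.Agent.Lib.Sharply2
import Cfsg.Agent.Lib.Sharp3Ord
import Cfsg.Agent.Lib.SharpMult
import Cfsg.Agent.Lib.ClSmall
import Mathlib.Tactic

/-!
Sharply 3-transitive groups of degree `2^f + 1` (helper12).
-/

set_option autoImplicit false

namespace Cfsg.Agent.Lib.Sharp3Pgl

open MulAction

variable {G α : Type*} [Group G] [Finite G] [MulAction G α] [Fintype α] [DecidableEq α]

omit [Finite G] in
theorem fix_mod_two {g : G} (hg : g ^ 2 = 1) :
    Fintype.card α ≡ (Finset.univ.filter (fun x : α => g • x = x)).card [MOD 2] := by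
  have := Fact.mk Nat.prime_two
  let f : Function.End α := fun x => g • x
  have hf : f ^ 2 ^ 1 = 1 := by
    funext x
    show g • g • x = x
    rw [← mul_smul, ← pow_two, hg, one_smul]
  have h := Equiv.Perm.card_fixedPoints_modEq hf
  refine h.trans ?_
  have e : Fintype.card (Function.fixedPoints f) = (Finset.univ.filter (fun x : α => g • x = x)).card := by
    rw [← Fintype.card_coe]
    apply Fintype.card_congr
    exact Equiv.subtypeEquivRight (fun x => by
      simp only [Finset.mem_filter, Finset.mem_univ, true_and]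
      exact Iff.rfl)
  rw [e]

omit [Finite G] in
/-- an involution has exactly one fixed point. -/
theorem invol_fix (hsharp : ∀ x : Fin 3 ↪ α, stabilizer G x = ⊥) (hodd : Odd (Fintype.card α))
    {t : G} (ht : orderOf t = 2) : ∃ a : α, t • a = a ∧ ∀ b : α, t • b = b → b = a := by
  have ht2 : t ^ 2 = 1 := by rw [← ht, pow_orderOf_eq_one]
  have ht1 : t ≠ 1 := by rintro rfl; rw [orderOf_one] at ht; omega
  have h1 := Sharp3Ord.fix_le hsharp ht1
  have h2 := fix_mod_two (α := α) ht2
  have h3 : (Finset.univ.filter (fun x : α => t • x = x)).card = 1 := by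
    have h4 : Fintype.card α % 2 = 1 := Nat.odd_iff.mp hodd
    unfold Nat.ModEq at h2
    omega
  obtain ⟨a, ha⟩ := Finset.card_eq_one.mp h3
  refine ⟨a, ?_, ?_⟩
  · have : a ∈ (Finset.univ.filter (fun x : α => t • x = x)) := by rw [ha]; exact Finset.mem_singleton_self a
    exact (Finset.mem_filter.mp this).2
  · intro b hb
    have : b ∈ (Finset.univ.filter (fun x : α => t • x = x)) := Finset.mem_filter.mpr ⟨Finset.mem_univ b, hb⟩
    rw [ha] at this
    exact Finset.mem_singleton.mp this

theorem cent (h3 : IsMultiplyPretransitive G α 3) (hsharp : ∀ x : Fin 3 ↪ α, stabilizer G x = ⊥)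
    (hodd : Odd (Fintype.card α)) (hn : 3 ≤ Fintype.card α) (t : G) (ht : orderOf t = 2) :
    IsMulCommutative (Subgroup.centralizer ({t} : Set G)) ∧
      ∀ c ∈ Subgroup.centralizer ({t} : Set G), c ^ 2 = 1 := by
  classical
  obtain ⟨a, hta, htu⟩ := invol_fix hsharp hodd ht
  have ht1 : t ≠ 1 := by rintro rfl; rw [orderOf_one] at ht; omega
  have hca : ∀ c ∈ Subgroup.centralizer ({t} : Set G), c • a = a := by
    intro c hc
    rw [Subgroup.mem_centralizer_singleton_iff] at hc
    apply htu
    rw [smul_smul, ← hc, ← smul_smul, hta]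
  have hcf : ∀ c ∈ Subgroup.centralizer ({t} : Set G), c ≠ 1 → ∀ b : α, b ≠ a → c • b ≠ b := by
    intro c hc hc1 b hba hcb
    apply hc1
    have hca' := hca c hc
    rw [Subgroup.mem_centralizer_singleton_iff] at hc
    have htb : t • b ≠ b := fun h => hba (htu b h)
    have htba : t • b ≠ a := by
      intro h
      apply hba
      have := congrArg (fun x => t • x) h
      simp only [smul_smul] at this
      rw [← pow_two, ← ht, pow_orderOf_eq_one, one_smul, hta] at this
      exact this
    refine Sharp3Ord.sharp_of hsharp (a := a) (b := b) (c := t • b) (Ne.symm hba) (Ne.symm htba)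
      (Ne.symm htb) hca' hcb ?_
    rw [smul_smul, hc, ← smul_smul, hcb]
  have h2' : IsMultiplyPretransitive G α 2 := isMultiplyPretransitive_of_le (n := 3) (by norm_num)
    (by rw [Nat.card_eq_fintype_card]; exact hn)
  have htr : IsPretransitive G α := isPretransitive_of_is_two_pretransitive
  have h2 : IsMultiplyPretransitive (stabilizer G a) (SubMulAction.ofStabilizer G a) 2 :=
    (SubMulAction.ofStabilizer.isMultiplyPretransitive (a := a)).mp h3
  have hs : ∀ g : stabilizer G a, ∀ x y : SubMulAction.ofStabilizer G a, x ≠ y → g • x = x →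
      g • y = y → g = 1 := by
    intro g x y hxy hx hy
    apply Subtype.ext
    have hxa : (x : α) ≠ a := (SubMulAction.mem_ofStabilizer_iff G a).mp x.2
    have hya : (y : α) ≠ a := (SubMulAction.mem_ofStabilizer_iff G a).mp y.2
    exact Sharp3Ord.sharp_of hsharp (a := a) (b := (x : α)) (c := (y : α)) (Ne.symm hxa) (Ne.symm hya)
      (fun h => hxy (Subtype.ext h)) g.2 (congrArg Subtype.val hx) (congrArg Subtype.val hy)
  have hcard : Nat.card (SubMulAction.ofStabilizer G a) + 1 = Fintype.card α := by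
    have h4 := Nat.card_congr (Equiv.sumCompl (fun b : α => b = a))
    rw [Nat.card_sum, Nat.card_unique, Nat.card_eq_fintype_card (α := α)] at h4
    rw [← h4, add_comm]
    rfl
  obtain ⟨p, hp, N, -, hN, -, hNp, hNc⟩ := Sharply2.main h2 hs (by omega)
  have hmem : ∀ c (hc : c ∈ Subgroup.centralizer ({t} : Set G)), (⟨c, hca c hc⟩ : stabilizer G a) ∈ N := by
    intro c hc
    rw [hN]
    by_cases h1 : c = 1
    · left; exact Subtype.ext h1
    · right
      intro x hx
      have hxa : (x : α) ≠ a := (SubMulAction.mem_ofStabilizer_iff G a).mp x.2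
      exact hcf c hc h1 x hxa (congrArg Subtype.val hx)
  have htc : t ∈ Subgroup.centralizer ({t} : Set G) := by
    rw [Subgroup.mem_centralizer_singleton_iff]
  have hp2 : p = 2 := by
    have h1 := congrArg Subtype.val (hNp _ (hmem t htc))
    have h2 : t ^ p = 1 := h1
    have h3 := orderOf_dvd_of_pow_eq_one h2
    rw [ht] at h3
    exact ((Nat.prime_dvd_prime_iff_eq Nat.prime_two hp).mp h3).symm
  subst hp2
  refine ⟨⟨⟨fun x y => ?_⟩⟩, ?_⟩
  · apply Subtype.ext
    have := congrArg (fun z : stabilizer G a => (z : G)) (hNc _ (hmem x x.2) _ (hmem y y.2))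
    exact this
  · intro c hc
    exact congrArg Subtype.val (hNp _ (hmem c hc))

omit [Finite G] in
/-- elements commuting with an involution fix its fixed point. -/
theorem fix_of_commute {t c : G} {a : α} (hta : t • a = a) (htu : ∀ b : α, t • b = b → b = a)
    (h : c * t = t * c) : c • a = a := by
  apply htu
  rw [smul_smul, ← h, ← smul_smul, hta]

/-- `PSL(2,F) = PGL(2,F)` for `|F| = 2^f`. -/
theorem psl_equiv_pgl {F : Type*} [Field F] [Fintype F] {f : ℕ} (hf : 1 ≤ f)
    (hF : Fintype.card F = 2 ^ f) :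
    Nonempty (Matrix.ProjectiveSpecialLinearGroup (Fin 2) F ≃* Matrix.ProjGenLinGroup (Fin 2) F) := by
  refine ⟨MulEquiv.ofBijective Matrix.ProjectiveSpecialLinearGroup.toPGL
    ⟨Matrix.ProjectiveSpecialLinearGroup.toPGL_injective,
    Matrix.ProjectiveSpecialLinearGroup.toPGL_surj_of_roots fun r => ⟨r ^ (2 ^ (f - 1)), ?_⟩⟩⟩
  rw [Fintype.card_fin, ← pow_mul, ← pow_succ, Nat.sub_add_cancel hf]
  apply Units.ext
  rw [Units.val_pow_eq_pow_val, ← hF, FiniteField.pow_card]

theorem perm3_equiv_pgl : Nonempty (Equiv.Perm (Fin 3) ≃* Matrix.ProjGenLinGroup (Fin 2) (ZMod 2)) := by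
  have h2 : Fact (Nat.Prime 2) := ⟨Nat.prime_two⟩
  obtain ⟨e1⟩ := ClSmall.sl2_two (F := ZMod 2) (by rw [ZMod.card])
  obtain ⟨e2⟩ := psl_equiv_pgl (F := ZMod 2) (f := 1) le_rfl (by rw [ZMod.card]; rfl)
  have hc : Subgroup.center (Matrix.SpecialLinearGroup (Fin 2) (ZMod 2)) = ⊥ := by
    apply Subgroup.eq_bot_of_card_eq
    rw [ClSLn.card_center_SL (F := ZMod 2) rfl 2 (by norm_num), ZMod.card]
    norm_num
  have e3 : Matrix.SpecialLinearGroup (Fin 2) (ZMod 2) ≃* Matrix.ProjectiveSpecialLinearGroup (Fin 2) (ZMod 2) := by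
    refine MulEquiv.ofBijective (QuotientGroup.mk' (Subgroup.center _)) ⟨?_, QuotientGroup.mk'_surjective _⟩
    rw [← MonoidHom.ker_eq_bot_iff, QuotientGroup.ker_mk', hc]
  exact ⟨(e1.symm.trans e3).trans e2⟩

/-- the main case. -/
theorem main_case {f : ℕ} (hf : 2 ≤ f) (hα : Fintype.card α = 2 ^ f + 1)
    (h3 : IsMultiplyPretransitive G α 3) (hsharp : ∀ x : Fin 3 ↪ α, stabilizer G x = ⊥) :
    ∃ (F : Type) (_ : Field F) (_ : Fintype F), Fintype.card F = 2 ^ f ∧
      Nonempty (G ≃* Matrix.ProjGenLinGroup (Fin 2) F) := by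
  classical
  have h2 : Fact (Nat.Prime 2) := ⟨Nat.prime_two⟩
  have h4 : 4 ≤ 2 ^ f := by
    calc 4 = 2 ^ 2 := by norm_num
      _ ≤ 2 ^ f := Nat.pow_le_pow_right (by norm_num) hf
  have heven : 2 ∣ 2 ^ f := dvd_pow_self 2 (by omega)
  have hodd : Odd (Fintype.card α) := by
    rw [hα, Nat.odd_iff]; omega
  have hcent : ∀ t : G, orderOf t = 2 → IsMulCommutative (Subgroup.centralizer ({t} : Set G)) ∧
      ∀ c ∈ Subgroup.centralizer ({t} : Set G), c ^ 2 = 1 := fun t ht =>
    cent h3 hsharp hodd (by omega) t ht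
  have hcardG : Nat.card G = 2 ^ f * ((2 ^ f + 1) * (2 ^ f - 1)) := by
    have h1 := SharpMult.card_of_sharp h3 (by rw [Nat.card_eq_fintype_card]; omega) hsharp
    rw [h1, Nat.card_eq_fintype_card, hα]
    simp only [Nat.descFactorial]
    have e1 : 2 ^ f + 1 - 2 = 2 ^ f - 1 := by omega
    have e2 : 2 ^ f + 1 - 1 = 2 ^ f := by omega
    rw [e1, e2, Nat.sub_zero]; ring
  obtain ⟨T⟩ : Nonempty (Sylow 2 G) := inferInstance
  have hT : Nat.card T = 2 ^ f := by
    apply ClSLn.card_sylow_eq_of_mul 2 T (2 ^ f) f ((2 ^ f + 1) * (2 ^ f - 1)) rfl _ hcardG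
    rw [Nat.prime_two.dvd_mul]
    omega
  have hnc : ¬ IsCyclic (T : Subgroup G) := by
    intro hcyc
    obtain ⟨x, hx⟩ := hcyc.exists_ofOrder_eq_natCard
    rw [hT] at hx
    have hx' : orderOf (x : G) = 2 ^ f := by rw [Subgroup.orderOf_coe, hx]
    have ht : orderOf ((x : G) ^ (2 ^ (f - 1))) = 2 := by
      rw [orderOf_pow' _ (by positivity), hx']
      have e1 : 2 ^ f = 2 ^ (f - 1) * 2 := by rw [← pow_succ]; congr 1; omega
      rw [e1, Nat.gcd_mul_right_left, Nat.mul_div_cancel_left _ (by positivity)]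
    have h1 := (hcent _ ht).2 (x : G) (by
      rw [Subgroup.mem_centralizer_singleton_iff, ← pow_succ, ← pow_succ'])
    have h2 := orderOf_dvd_of_pow_eq_one h1
    rw [hx'] at h2
    have := Nat.le_of_dvd (by norm_num) h2
    omega
  have htr : IsPretransitive G α := by
    have h2' : IsMultiplyPretransitive G α 2 := isMultiplyPretransitive_of_le (n := 3) (by norm_num)
      (by rw [Nat.card_eq_fintype_card]; omega)
    exact isPretransitive_of_is_two_pretransitive
  have hnn : ¬ (T : Subgroup G).Normal := by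
    intro hTn
    obtain ⟨t, ht⟩ := exists_prime_orderOf_dvd_card' (G := (T : Subgroup G)) 2 (by
      have : Nat.card (T : Subgroup G) = 2 ^ f := hT
      rw [this]; exact heven)
    have ht' : orderOf (t : G) = 2 := by rw [Subgroup.orderOf_coe, ht]
    obtain ⟨a, hta, htu⟩ := invol_fix (G := G) (α := α) hsharp hodd ht'
    obtain ⟨b, hb⟩ : ∃ b : α, b ≠ a := by
      by_contra hcon
      push Not at hcon
      have : Fintype.card α ≤ 1 := Fintype.card_le_one_iff.mpr (fun x y => by rw [hcon x, hcon y])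
      omega
    obtain ⟨g, hg⟩ := exists_smul_eq G a b
    -- elements of T commute
    obtain ⟨s, hs, hsc⟩ : ∃ s : G, orderOf s = 2 ∧ ∀ x ∈ (T : Subgroup G), x * s = s * x := by
      have hZ : Nontrivial (Subgroup.center (T : Subgroup G)) := by
        have : Nontrivial (T : Subgroup G) := by
          rw [← Finite.one_lt_card_iff_nontrivial]
          have : Nat.card (T : Subgroup G) = 2 ^ f := hT
          omega
        exact T.2.center_nontrivial
      have hZ2 : 2 ∣ Nat.card (Subgroup.center (T : Subgroup G)) := by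
        have hp : IsPGroup 2 (Subgroup.center (T : Subgroup G)) := T.2.to_subgroup _
        obtain ⟨k, hk⟩ := IsPGroup.iff_card.mp hp
        rw [hk]
        apply dvd_pow_self
        rintro rfl
        rw [pow_zero] at hk
        have := Finite.one_lt_card_iff_nontrivial.mpr hZ
        omega
      obtain ⟨z, hz⟩ := exists_prime_orderOf_dvd_card' 2 hZ2
      refine ⟨((z : (T : Subgroup G)) : G), by rw [Subgroup.orderOf_coe, Subgroup.orderOf_coe, hz], ?_⟩
      intro x hx
      exact congrArg Subtype.val (Subgroup.mem_center_iff.mp z.2 ⟨x, hx⟩)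
    have hTc : ∀ x ∈ (T : Subgroup G), ∀ y ∈ (T : Subgroup G), x * y = y * x := by
      intro x hx y hy
      have hx' : x ∈ Subgroup.centralizer ({s} : Set G) := by
        rw [Subgroup.mem_centralizer_singleton_iff]; exact hsc x hx
      have hy' : y ∈ Subgroup.centralizer ({s} : Set G) := by
        rw [Subgroup.mem_centralizer_singleton_iff]; exact hsc y hy
      exact congrArg Subtype.val ((hcent s hs).1.is_comm.comm ⟨x, hx'⟩ ⟨y, hy'⟩)
    have h1 := hTc _ (hTn.conj_mem t t.2 g) _ t.2
    have h2 := fix_of_commute hta htu h1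
    apply hb
    have h5 : (t : G) • (g⁻¹ • a) = g⁻¹ • a := by
      rw [eq_inv_smul_iff, smul_smul, smul_smul]
      exact h2
    have h6 := htu _ h5
    rw [inv_smul_eq_iff] at h6
    rw [← hg, ← h6]
  obtain ⟨F, iF, iFt, hF, ⟨e⟩⟩ := ElemCent.psl_two T hnc hnn hcent
  rw [hT] at hF
  obtain ⟨e2⟩ := psl_equiv_pgl (F := F) (f := f) (by omega) hF
  exact ⟨F, iF, iFt, hF, ⟨e.trans e2⟩⟩

end Cfsg.Agent.Lib.Sharp3Pgl
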