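import Mathlib
import Cfsg.Prelude.Def_Solvable

set_option autoImplicit false

open Cfsg
open scoped Pointwise

namespace Cfsg.Agent.Lib.FrobBasic

variable {G : Type*} [Group G]

theorem mem_conj_smul_iff (H : Subgroup G) (g x : G) :
    x ∈ MulAut.conj g • H ↔ g⁻¹ * x * g ∈ H := by
  rw [Subgroup.mem_pointwise_smul_iff_inv_smul_mem]
  have : (MulAut.conj g)⁻¹ • x = g⁻¹ * x * g := by
    rw [MulAut.smul_def, ← map_inv, MulAut.conj_apply, inv_inv]
  rw [this]

theorem isFrobeniusComplement_iff (H : Subgroup G) :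
    IsFrobeniusComplement H ↔
      H ≠ ⊥ ∧ H ≠ ⊤ ∧ ∀ g : G, g ∉ H → ∀ h ∈ H, g⁻¹ * h * g ∈ H → h = 1 := by
  unfold IsFrobeniusComplement
  refine and_congr_right fun _ => and_congr_right fun _ => forall_congr' fun g =>
    forall_congr' fun _ => ?_
  rw [Subgroup.eq_bot_iff_forall]
  constructor
  · intro h x hx hx'
    exact h x ⟨hx, (mem_conj_smul_iff H g x).2 hx'⟩
  · intro h x hx
    exact h x hx.1 ((mem_conj_smul_iff H g x).1 hx.2)

theorem mem_frobeniusKernel_iff (H : Subgroup G) (x : G) :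
    x ∈ frobeniusKernel H ↔ x = 1 ∨ ∀ g : G, g⁻¹ * x * g ∉ H := by
  unfold frobeniusKernel
  simp only [Set.mem_setOf_eq, mem_conj_smul_iff]

end Cfsg.Agent.Lib.FrobBasic
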