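import Mathlib
import Cfsg.Prelude.Def_LieExceptional
import Cfsg.Agent.Lib.ZassBasic

set_option autoImplicit false

/-!
# Zassenhaus groups: kernel and two-point stabiliser (helper15)
-/

namespace Cfsg.Agent.Lib.ZassKernel

open MulAction ZassBasic

universe u v

variable {G : Type u} {Ω : Type v} [Group G] [MulAction G Ω]

theorem fix3_of_zass (hZ : Cfsg.IsZassenhausGroup G Ω) : Fix3 G Ω := hZ.2.2.1

/-- There are at least three points. -/
theorem three_le_card [Finite Ω] (hZ : Cfsg.IsZassenhausGroup G Ω) : 3 ≤ Nat.card Ω := by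
  classical
  have := Fintype.ofFinite Ω
  obtain ⟨hf, h2, h3, ⟨g, hg, a, b, hab, ha, hb⟩, -⟩ := hZ
  obtain ⟨c, hc⟩ : ∃ c : Ω, g • c ≠ c := by
    by_contra hcon
    push Not at hcon
    apply hg
    apply FaithfulSMul.eq_of_smul_eq_smul (α := Ω)
    intro x
    rw [hcon x, one_smul]
  have hca : c ≠ a := by rintro rfl; exact hc ha
  have hcb : c ≠ b := by rintro rfl; exact hc hb
  rw [Nat.card_eq_fintype_card]
  have h4 : ({a, b, c} : Finset Ω).card = 3 := by
    rw [Finset.card_insert_of_notMem, Finset.card_insert_of_notMem, Finset.card_singleton]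
    · simpa using hcb.symm
    · simp only [Finset.mem_insert, Finset.mem_singleton, not_or]
      exact ⟨hab, hca.symm⟩
  rw [← h4]
  exact Finset.card_le_univ _

theorem card_ne [Finite Ω] (a : Ω) : Nat.card {x : Ω // x ≠ a} + 1 = Nat.card Ω := by
  classical
  have := Fintype.ofFinite Ω
  have hpos : 0 < Nat.card Ω := by
    have : Nonempty Ω := ⟨a⟩
    exact Nat.card_pos
  rw [Nat.card_eq_fintype_card, Fintype.card_subtype_compl, Fintype.card_subtype_eq,
    ← Nat.card_eq_fintype_card]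
  omega

/-- The elements of the kernel: exactly the elements with `InK`. -/
theorem mem_kernel_iff [Finite G] [Finite Ω] (hZ : Cfsg.IsZassenhausGroup G Ω) (a : Ω)
    (H : Subgroup G) (hHa : H ≤ stabilizer G a) (hHcard : Nat.card H + 1 = Nat.card Ω)
    (hHfix : ∀ u ∈ H, u ≠ 1 → ∀ c : Ω, u • c = c → c = a) (u : G) : u ∈ H ↔ InK a u := by
  classical
  obtain ⟨hf, h2, h3, ⟨g, hg, a', b', hab, ha, hb⟩, hreg⟩ := hZ
  have hc : ∃ c, a ≠ c := by
    by_cases h : a = a'
    · exact ⟨b', h ▸ hab⟩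
    · exact ⟨a', h⟩
  obtain ⟨c, hc⟩ := hc
  have h4 := card_InK h2 h3 hc
  have hto : ∀ u ∈ H, InK a u := by
    intro u hu
    exact ⟨hHa hu, fun h x hx hux => hx (hHfix u hu h x hux)⟩
  refine ⟨hto u, ?_⟩
  intro hu
  let F : H → {u : G // InK a u} := fun x => ⟨x, hto x x.2⟩
  have hF : Function.Injective F := fun x y h =>
    Subtype.ext (congrArg (fun z : {u : G // InK a u} => z.1) h)
  have h5 : Nat.card H = Nat.card {u : G // InK a u} := by
    have := card_ne a
    omega
  have : Finite {u : G // InK a u} := inferInstance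
  obtain ⟨y, hy⟩ := ((Nat.bijective_iff_injective_and_card F).mpr ⟨hF, h5⟩).2 ⟨u, hu⟩
  have h6 : (y : G) = u := congrArg Subtype.val hy
  rw [← h6]; exact y.2

theorem kernel_ti [Finite G] (a : Ω)
    (H : Subgroup G) (hHa : H ≤ stabilizer G a)
    (hHfix : ∀ u ∈ H, u ≠ 1 → ∀ c : Ω, u • c = c → c = a) (g : G) (hg : g ∉ stabilizer G a)
    (u : G) (hu : u ∈ H) (hgu : g * u * g⁻¹ ∈ H) : u = 1 := by
  by_contra hu1
  apply hg
  have h1 : g * u * g⁻¹ ≠ 1 := by
    intro h
    apply hu1
    have : u = g⁻¹ * (g * u * g⁻¹) * g := by group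
    rw [this, h]; group
  apply hHfix _ hgu h1
  have h2 : u • a = a := hHa hu
  rw [mul_smul, mul_smul, inv_smul_smul, h2]

theorem normalizer_kernel [Finite G] [Finite Ω] (hZ : Cfsg.IsZassenhausGroup G Ω) (a : Ω)
    (H : Subgroup G) (hHa : H ≤ stabilizer G a) (hHcard : Nat.card H + 1 = Nat.card Ω)
    (hHfix : ∀ u ∈ H, u ≠ 1 → ∀ c : Ω, u • c = c → c = a) :
    Subgroup.normalizer (H : Set G) = stabilizer G a := by
  apply le_antisymm
  · intro n hn
    by_contra hna
    have h3 := three_le_card hZ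
    have hnt : Nontrivial H := by
      rw [← Finite.one_lt_card_iff_nontrivial]
      omega
    obtain ⟨u, hu⟩ := exists_ne (1 : H)
    apply hu
    apply Subtype.ext
    exact kernel_ti a H hHa hHfix n hna u u.2 ((Subgroup.mem_normalizer_iff.mp hn u).mp u.2)
  · intro n hn
    rw [Subgroup.mem_normalizer_iff]
    intro u
    rw [mem_kernel_iff hZ a H hHa hHcard hHfix, mem_kernel_iff hZ a H hHa hHcard hHfix]
    constructor
    · intro h
      exact inK_conj h hn
    · intro h
      have h1 : n⁻¹ • a = a := by rw [inv_smul_eq_iff]; exact (show n • a = a from hn).symm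
      have h2 := inK_conj h h1
      have h3 : n⁻¹ * (n * u * n⁻¹) * n⁻¹⁻¹ = u := by group
      rwa [h3] at h2

/-- An element conjugating a nonidentity element of the two-point stabiliser into it
preserves the pair. -/
theorem pair_of_conj (h3 : Fix3 G Ω) {a b : Ω} (hab : a ≠ b) {g x : G} (hx1 : x ≠ 1)
    (hx : x ∈ stabilizer G a ⊓ stabilizer G b)
    (hgx : g * x * g⁻¹ ∈ stabilizer G a ⊓ stabilizer G b) :
    (g • a = a ∧ g • b = b) ∨ (g • a = b ∧ g • b = a) := by
  have hxa : x • a = a := hx.1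
  have hxb : x • b = b := hx.2
  have h1 : (g * x * g⁻¹) • (g • a) = g • a := by
    rw [mul_smul, mul_smul, inv_smul_smul, hxa]
  have h2 : (g * x * g⁻¹) • (g • b) = g • b := by
    rw [mul_smul, mul_smul, inv_smul_smul, hxb]
  have hne : g * x * g⁻¹ ≠ 1 := by
    intro h
    apply hx1
    have : x = g⁻¹ * (g * x * g⁻¹) * g := by group
    rw [this, h]; group
  have ha' : (g * x * g⁻¹) • a = a := hgx.1
  have hb' : (g * x * g⁻¹) • b = b := hgx.2
  have key : ∀ c : Ω, (g * x * g⁻¹) • c = c → c = a ∨ c = b := by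
    intro c hc
    by_contra hcon
    push Not at hcon
    exact hne (h3 _ a b c hab (Ne.symm hcon.2) (Ne.symm hcon.1) ha' hb' hc)
  have hgab : g • a ≠ g • b := fun h => hab (MulAction.injective g h)
  rcases key _ h1 with h4 | h4 <;> rcases key _ h2 with h5 | h5
  · exact absurd (h4.trans h5.symm) hgab
  · exact Or.inl ⟨h4, h5⟩
  · exact Or.inr ⟨h4, h5⟩
  · exact absurd (h4.trans h5.symm) hgab

theorem mem_normalizer_of_pair {a b : Ω} {g : G}
    (hg : (g • a = a ∧ g • b = b) ∨ (g • a = b ∧ g • b = a)) :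
    g ∈ Subgroup.normalizer ((stabilizer G a ⊓ stabilizer G b : Subgroup G) : Set G) := by
  rw [Subgroup.mem_normalizer_iff]
  intro x
  have e1 : ∀ c : Ω, (g * x * g⁻¹) • (g • c) = g • c ↔ x • c = c := by
    intro c
    rw [mul_smul, mul_smul, inv_smul_smul]
    constructor
    · intro h; exact MulAction.injective g h
    · intro h; rw [h]
  constructor
  · rintro ⟨h1, h2⟩
    have h1' : x • a = a := h1
    have h2' : x • b = b := h2
    rcases hg with ⟨ha, hb⟩ | ⟨ha, hb⟩
    · refine ⟨?_, ?_⟩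
      · have := (e1 a).mpr h1'
        rw [ha] at this; exact this
      · have := (e1 b).mpr h2'
        rw [hb] at this; exact this
    · refine ⟨?_, ?_⟩
      · have := (e1 b).mpr h2'
        rw [hb] at this; exact this
      · have := (e1 a).mpr h1'
        rw [ha] at this; exact this
  · rintro ⟨h1, h2⟩
    have h1' : (g * x * g⁻¹) • a = a := h1
    have h2' : (g * x * g⁻¹) • b = b := h2
    rcases hg with ⟨ha, hb⟩ | ⟨ha, hb⟩
    · refine ⟨?_, ?_⟩
      · rw [← ha] at h1'
        exact (e1 a).mp (by rw [ha]; rwa [ha] at h1')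
      · exact (e1 b).mp (by rw [hb]; exact h2')
    · refine ⟨?_, ?_⟩
      · exact (e1 a).mp (by rw [ha]; exact h2')
      · exact (e1 b).mp (by rw [hb]; exact h1')

theorem mem_normalizer_iff_pair [Finite G] [Finite Ω] (hZ : Cfsg.IsZassenhausGroup G Ω) {a b : Ω}
    (hab : a ≠ b) (g : G) :
    g ∈ Subgroup.normalizer ((stabilizer G a ⊓ stabilizer G b : Subgroup G) : Set G) ↔
      (g • a = a ∧ g • b = b) ∨ (g • a = b ∧ g • b = a) := by
  refine ⟨?_, mem_normalizer_of_pair⟩
  intro hg
  obtain ⟨hf, h2, h3, ⟨x, hx, a', b', hab', ha, hb⟩, hreg⟩ := hZ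
  obtain ⟨k, hk1, hk2⟩ := exists_move h2 hab' hab
  have hmem : k * x * k⁻¹ ∈ stabilizer G a ⊓ stabilizer G b := by
    refine ⟨?_, ?_⟩
    · change (k * x * k⁻¹) • a = a
      rw [mul_smul, mul_smul, ← hk1, inv_smul_smul, ha]
    · change (k * x * k⁻¹) • b = b
      rw [mul_smul, mul_smul, ← hk2, inv_smul_smul, hb]
  have hne : k * x * k⁻¹ ≠ 1 := by
    intro h
    apply hx
    have : x = k⁻¹ * (k * x * k⁻¹) * k := by group
    rw [this, h]; group
  exact pair_of_conj h3 hab hne hmem ((Subgroup.mem_normalizer_iff.mp hg _).mp hmem)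

theorem twoPoint [Finite G] [Finite Ω] (hZ : Cfsg.IsZassenhausGroup G Ω) {a b : Ω}
    (hab : a ≠ b) :
    (∀ g : G, g ∉ Subgroup.normalizer
        ((stabilizer G a ⊓ stabilizer G b : Subgroup G) : Set G) →
      ∀ x ∈ (stabilizer G a ⊓ stabilizer G b : Subgroup G),
        g * x * g⁻¹ ∈ (stabilizer G a ⊓ stabilizer G b : Subgroup G) → x = 1) ∧
    ((stabilizer G a ⊓ stabilizer G b : Subgroup G).subgroupOf (Subgroup.normalizer
      ((stabilizer G a ⊓ stabilizer G b : Subgroup G) : Set G))).index = 2 := by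
  constructor
  · intro g hg x hx hgx
    by_contra hx1
    exact hg (mem_normalizer_of_pair (pair_of_conj hZ.2.2.1 hab hx1 hx hgx))
  · obtain ⟨s, hs1, hs2⟩ := exists_move hZ.2.1 hab hab.symm
    rw [Subgroup.index_eq_two_iff]
    refine ⟨⟨s, mem_normalizer_of_pair (Or.inr ⟨hs1, hs2⟩)⟩, ?_⟩
    rintro ⟨g, hg⟩
    rw [mem_normalizer_iff_pair hZ hab] at hg
    rw [xor_iff_iff_not, Subgroup.mem_subgroupOf, Subgroup.mem_subgroupOf]
    change (g * s ∈ stabilizer G a ⊓ stabilizer G b) ↔
      ¬ (g ∈ stabilizer G a ⊓ stabilizer G b)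
    rcases hg with ⟨ha, hb⟩ | ⟨ha, hb⟩
    · constructor
      · rintro ⟨h1, -⟩
        have h1' : (g * s) • a = a := h1
        rw [mul_smul, hs1, hb] at h1'
        exact absurd h1'.symm hab
      · intro h
        exact absurd ⟨ha, hb⟩ h
    · constructor
      · rintro - ⟨h1, -⟩
        have h1' : g • a = a := h1
        rw [ha] at h1'
        exact hab h1'.symm
      · intro _
        refine ⟨?_, ?_⟩
        · change (g * s) • a = a
          rw [mul_smul, hs1, hb]
        · change (g * s) • b = b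
          rw [mul_smul, hs2, ha]

end Cfsg.Agent.Lib.ZassKernel
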