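import Mathlib
import Cfsg.Prelude.Def_LieExceptional
import Cfsg.Agent.Lib.ZassKernel
import Cfsg.Agent.Lib.FusionControl
import Cfsg.Agent.Lib.FrobBasic
import Cfsg.Agent.Lib.FrobThm
import Cfsg.Agent.Lib.FrobAction2
import Cfsg.Agent.Lib.FrobAction3
import Cfsg.Agent.Lib.TransferApps

set_option autoImplicit false

/-!
# Zassenhaus groups with two-point stabiliser of odd order (helper15)

`E = G_{ab}` is cyclic and inverted by every element swapping `a` and `b` if `G` is simple.
-/

namespace Cfsg.Agent.Lib.ZassOdd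

open MulAction ZassBasic ZassKernel

universe u v

variable {G : Type u} {Ω : Type v} [Group G] [MulAction G Ω]

theorem exists_ne_of_zass (hZ : Cfsg.IsZassenhausGroup G Ω) (a : Ω) : ∃ b, a ≠ b := by
  obtain ⟨-, -, -, ⟨g, hg, a', b', hab, ha, hb⟩, -⟩ := hZ
  by_cases h : a = a'
  · exact ⟨b', h ▸ hab⟩
  · exact ⟨a', h⟩

theorem isPretransitive (hZ : Cfsg.IsZassenhausGroup G Ω) : IsPretransitive G Ω := by
  refine ⟨fun x y => ?_⟩
  by_cases h : x = y
  · exact ⟨1, by rw [h, one_smul]⟩
  · obtain ⟨g, h1, -⟩ := exists_move hZ.2.1 h (Ne.symm h)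
    exact ⟨g, h1⟩

theorem card_stab1 [Finite G] [Finite Ω] (hZ : Cfsg.IsZassenhausGroup G Ω) {a b : Ω}
    (hab : a ≠ b) :
    Nat.card (stabilizer G a) =
      (Nat.card Ω - 1) * Nat.card ↥(stabilizer G a ⊓ stabilizer G b : Subgroup G) := by
  rw [card_stab hZ.2.1 hab]
  congr 1
  have := card_ne a
  omega

theorem card_group [Finite G] [Finite Ω] (hZ : Cfsg.IsZassenhausGroup G Ω) {a b : Ω}
    (hab : a ≠ b) :
    Nat.card G = Nat.card Ω * ((Nat.card Ω - 1) *
      Nat.card ↥(stabilizer G a ⊓ stabilizer G b : Subgroup G)) := by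
  have := isPretransitive hZ
  rw [← card_stab1 hZ hab, ← (stabilizer G a).card_mul_index, mul_comm,
    index_stabilizer_of_transitive]

/-- the two-point stabilisers are not trivial -/
theorem exists_ne_one [Finite Ω] (hZ : Cfsg.IsZassenhausGroup G Ω) {a b : Ω}
    (hab : a ≠ b) : ∃ x ∈ (stabilizer G a ⊓ stabilizer G b : Subgroup G), x ≠ 1 := by
  obtain ⟨hf, h2, h3, ⟨x, hx, a', b', hab', ha, hb⟩, hreg⟩ := hZ
  obtain ⟨k, hk1, hk2⟩ := exists_move h2 hab' hab
  refine ⟨k * x * k⁻¹, ⟨?_, ?_⟩, ?_⟩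
  · change (k * x * k⁻¹) • a = a
    rw [mul_smul, mul_smul, ← hk1, inv_smul_smul, ha]
  · change (k * x * k⁻¹) • b = b
    rw [mul_smul, mul_smul, ← hk2, inv_smul_smul, hb]
  · intro h
    apply hx
    have : x = k⁻¹ * (k * x * k⁻¹) * k := by group
    rw [this, h]; group

theorem three_le_of_odd [Finite G] [Finite Ω] (hZ : Cfsg.IsZassenhausGroup G Ω) {a b : Ω}
    (hab : a ≠ b)
    (hodd : Odd (Nat.card ↥(stabilizer G a ⊓ stabilizer G b : Subgroup G))) :
    3 ≤ Nat.card ↥(stabilizer G a ⊓ stabilizer G b : Subgroup G) := by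
  obtain ⟨x, hx, hx1⟩ := exists_ne_one hZ hab
  have hnt : Nontrivial ↥(stabilizer G a ⊓ stabilizer G b : Subgroup G) :=
    ⟨⟨x, hx⟩, 1, fun h => hx1 (congrArg Subtype.val h)⟩
  have h1 : 1 < Nat.card ↥(stabilizer G a ⊓ stabilizer G b : Subgroup G) :=
    Finite.one_lt_card_iff_nontrivial.mpr hnt
  obtain ⟨k, hk⟩ := hodd
  omega

/-- `G_{ab}` is a Frobenius complement in `G_a`. -/
theorem frobComplement [Finite G] [Finite Ω] (hZ : Cfsg.IsZassenhausGroup G Ω) {a b : Ω}
    (hab : a ≠ b) :
    IsFrobeniusComplement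
      ((stabilizer G a ⊓ stabilizer G b : Subgroup G).subgroupOf (stabilizer G a)) := by
  have hcardE : Nat.card ↥((stabilizer G a ⊓ stabilizer G b : Subgroup G).subgroupOf
      (stabilizer G a)) = Nat.card ↥(stabilizer G a ⊓ stabilizer G b : Subgroup G) :=
    Nat.card_congr (Subgroup.subgroupOfEquivOfLe inf_le_left).toEquiv
  rw [FrobBasic.isFrobeniusComplement_iff]
  refine ⟨?_, ?_, ?_⟩
  · intro h
    obtain ⟨x, hx, hx1⟩ := exists_ne_one hZ hab
    have h1 : (⟨x, hx.1⟩ : stabilizer G a) ∈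
        ((stabilizer G a ⊓ stabilizer G b : Subgroup G).subgroupOf (stabilizer G a)) := by
      rw [Subgroup.mem_subgroupOf]; exact hx
    rw [h, Subgroup.mem_bot] at h1
    exact hx1 (congrArg Subtype.val h1)
  · intro h
    have h1 := congrArg (fun K : Subgroup (stabilizer G a) => Nat.card K) h
    rw [hcardE, Subgroup.card_top, card_stab1 hZ hab] at h1
    have h3 := three_le_card hZ
    have hpos : 0 < Nat.card ↥(stabilizer G a ⊓ stabilizer G b : Subgroup G) := Nat.card_pos
    have : 2 * Nat.card ↥(stabilizer G a ⊓ stabilizer G b : Subgroup G) ≤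
        (Nat.card Ω - 1) * Nat.card ↥(stabilizer G a ⊓ stabilizer G b : Subgroup G) :=
      Nat.mul_le_mul_right _ (by omega)
    omega
  · rintro ⟨g, hga⟩ hg ⟨x, hxa⟩ hx hgx
    rw [Subgroup.mem_subgroupOf] at hg hx hgx
    simp only [Subgroup.coe_mul, Subgroup.coe_inv] at hg hx hgx
    have hga' : g • a = a := hga
    have hgb : g • b ≠ b := fun h => hg ⟨hga, h⟩
    have hxb : x • b = b := hx.2
    have h1 : x • (g • b) = g • b := by
      have h2 : (g⁻¹ * x * g) • b = b := hgx.2
      rw [mul_smul, mul_smul, inv_smul_eq_iff] at h2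
      exact h2
    apply Subtype.ext
    refine hZ.2.2.1 x a b (g • b) hab (Ne.symm hgb) ?_ hxa hxb h1
    intro h
    apply hab
    apply MulAction.injective g
    change g • a = g • b
    rw [hga', ← h]

/-- Existence of the Frobenius kernel of `G_a`. -/
theorem exists_kernel [Finite G] [Finite Ω] (hZ : Cfsg.IsZassenhausGroup G Ω) (a : Ω) :
    ∃ H : Subgroup G, H ≤ stabilizer G a ∧ Nat.card H + 1 = Nat.card Ω ∧
      ∀ u ∈ H, u ≠ 1 → ∀ c : Ω, u • c = c → c = a := by
  obtain ⟨b, hab⟩ := exists_ne_of_zass hZ a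
  have hF := frobComplement hZ hab
  obtain ⟨N, hN, hNn, hc⟩ := FrobThm.exists_kernel hF
  have hcardE : Nat.card ↥((stabilizer G a ⊓ stabilizer G b : Subgroup G).subgroupOf
      (stabilizer G a)) = Nat.card ↥(stabilizer G a ⊓ stabilizer G b : Subgroup G) :=
    Nat.card_congr (Subgroup.subgroupOfEquivOfLe inf_le_left).toEquiv
  refine ⟨N.map (stabilizer G a).subtype, Subgroup.map_subtype_le _, ?_, ?_⟩
  · have h1 := hc.card_mul_card
    rw [hcardE, card_stab1 hZ hab] at h1
    have hpos : 0 < Nat.card ↥(stabilizer G a ⊓ stabilizer G b : Subgroup G) := Nat.card_pos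
    have h2 := Nat.eq_of_mul_eq_mul_right hpos h1
    have h3 := three_le_card hZ
    rw [Subgroup.card_map_of_injective (Subgroup.subtype_injective _), h2]
    omega
  · rintro _ ⟨⟨u, hua⟩, hu, rfl⟩ hu1 c hc'
    by_contra hca
    change u • c = c at hc'
    have h1 : (⟨u, hua⟩ : stabilizer G a) ∈ (N : Set (stabilizer G a)) := hu
    rw [hN, FrobBasic.mem_frobeniusKernel_iff] at h1
    rcases h1 with h1 | h1
    · exact hu1 (congrArg Subtype.val h1)
    · obtain ⟨g, hg1, hg2⟩ := exists_move hZ.2.1 hab (Ne.symm hca)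
      apply h1 ⟨g, hg1⟩
      rw [Subgroup.mem_subgroupOf]
      refine ⟨?_, ?_⟩
      · change (g⁻¹ * u * g) • a = a
        have hua' : u • a = a := hua
        rw [mul_smul, mul_smul, hg1, hua', inv_smul_eq_iff, hg1]
      · change (g⁻¹ * u * g) • b = b
        rw [mul_smul, mul_smul, hg2, hc', inv_smul_eq_iff, hg2]

/-- The two-point stabiliser of odd order is a Z-group. -/
theorem isZGroup [Finite G] [Finite Ω] (hZ : Cfsg.IsZassenhausGroup G Ω) {a b : Ω}
    (hab : a ≠ b)
    (hodd : Odd (Nat.card ↥(stabilizer G a ⊓ stabilizer G b : Subgroup G))) :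
    IsZGroup ↥(stabilizer G a ⊓ stabilizer G b : Subgroup G) := by
  have hF := frobComplement hZ hab
  obtain ⟨N, hN, hNn, hc⟩ := FrobThm.exists_kernel hF
  have hcardE : Nat.card ↥((stabilizer G a ⊓ stabilizer G b : Subgroup G).subgroupOf
      (stabilizer G a)) = Nat.card ↥(stabilizer G a ⊓ stabilizer G b : Subgroup G) :=
    Nat.card_congr (Subgroup.subgroupOfEquivOfLe inf_le_left).toEquiv
  have hN1 : N ≠ ⊥ := by
    intro h
    have h1 := hc.card_mul_card
    rw [hcardE, card_stab1 hZ hab, h, Subgroup.card_bot] at h1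
    have hpos : 0 < Nat.card ↥(stabilizer G a ⊓ stabilizer G b : Subgroup G) := Nat.card_pos
    have h2 := Nat.eq_of_mul_eq_mul_right hpos h1
    have h3 := three_le_card hZ
    omega
  have hfpf := (FrobGroup.isFrobeniusComplement_iff hc hN1 hF.1).mp hF
  obtain ⟨V, act, -, hV1, hVab, hact⟩ := FrobAction2.exists_fpf_action hc hN1 hfpf
  let _ : CommGroup V := { (inferInstance : Group V) with
    mul_comm := fun a b => Subtype.ext (hVab a a.2 b b.2) }
  have : Nontrivial V := (Subgroup.nontrivial_iff_ne_bot V).2 hV1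
  have hf : FrobAction.IsFPF act := hact
  have hz := FrobAction3.isZGroup_of_odd hf (by
    rw [hcardE]; exact hodd.not_two_dvd_nat)
  exact IsZGroup.of_injective (f := (Subgroup.subgroupOfEquivOfLe
    (inf_le_left : stabilizer G a ⊓ stabilizer G b ≤ stabilizer G a)).symm.toMonoidHom)
    (MulEquiv.injective _)

/-- `e ∣ h - 1`. -/
theorem card_dvd [Finite G] [Finite Ω] (hZ : Cfsg.IsZassenhausGroup G Ω) {a b : Ω}
    (hab : a ≠ b) :
    Nat.card ↥(stabilizer G a ⊓ stabilizer G b : Subgroup G) ∣ Nat.card Ω - 2 := by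
  have hF := frobComplement hZ hab
  have hcardE : Nat.card ↥((stabilizer G a ⊓ stabilizer G b : Subgroup G).subgroupOf
      (stabilizer G a)) = Nat.card ↥(stabilizer G a ⊓ stabilizer G b : Subgroup G) :=
    Nat.card_congr (Subgroup.subgroupOfEquivOfLe inf_le_left).toEquiv
  have h1 := FrobGroup.index_modEq hF
  rw [hcardE] at h1
  have h2 := ((stabilizer G a ⊓ stabilizer G b : Subgroup G).subgroupOf
      (stabilizer G a)).card_mul_index
  rw [hcardE, card_stab1 hZ hab, mul_comm] at h2
  have hpos : 0 < Nat.card ↥(stabilizer G a ⊓ stabilizer G b : Subgroup G) := Nat.card_pos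
  have h3 := Nat.eq_of_mul_eq_mul_right hpos h2
  rw [h3] at h1
  have : Nat.card Ω - 1 - 1 = Nat.card Ω - 2 := by omega
  rwa [this] at h1

theorem index_twoPoint [Finite G] [Finite Ω] (hZ : Cfsg.IsZassenhausGroup G Ω) {a b : Ω}
    (hab : a ≠ b) :
    (stabilizer G a ⊓ stabilizer G b : Subgroup G).index = Nat.card Ω * (Nat.card Ω - 1) := by
  have h1 := (stabilizer G a ⊓ stabilizer G b : Subgroup G).card_mul_index
  rw [card_group hZ hab] at h1
  have hpos : 0 < Nat.card ↥(stabilizer G a ⊓ stabilizer G b : Subgroup G) := Nat.card_pos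
  apply Nat.eq_of_mul_eq_mul_left hpos
  rw [h1]
  ring

theorem coprime_index [Finite G] [Finite Ω] (hZ : Cfsg.IsZassenhausGroup G Ω) {a b : Ω}
    (hab : a ≠ b)
    (hodd : Odd (Nat.card ↥(stabilizer G a ⊓ stabilizer G b : Subgroup G))) :
    Nat.Coprime (Nat.card ↥(stabilizer G a ⊓ stabilizer G b : Subgroup G))
      (stabilizer G a ⊓ stabilizer G b : Subgroup G).index := by
  rw [index_twoPoint hZ hab]
  have h3 := three_le_card hZ
  obtain ⟨k, hk⟩ := card_dvd hZ hab
  set e := Nat.card ↥(stabilizer G a ⊓ stabilizer G b : Subgroup G) with he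
  have h4 : Nat.card Ω = 2 + e * k := by omega
  have h5 : Nat.card Ω - 1 = 1 + e * k := by omega
  rw [h5, h4]
  apply Nat.Coprime.mul_right
  · rw [Nat.coprime_add_mul_left_right]
    exact hodd.coprime_two_right
  · rw [Nat.coprime_add_mul_left_right]
    exact Nat.coprime_one_right e

theorem not_comm (hZ : Cfsg.IsZassenhausGroup G Ω) : ¬ ∀ x y : G, x * y = y * x := by
  intro hcomm
  have hpt := isPretransitive hZ
  obtain ⟨hf, -, -, ⟨x, hx, a, b, hab, ha, hb⟩, -⟩ := hZ
  apply hx
  apply FaithfulSMul.eq_of_smul_eq_smul (α := Ω)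
  intro c
  obtain ⟨g, rfl⟩ := exists_smul_eq G a c
  rw [one_smul, smul_smul, hcomm, mul_smul, ha]

theorem commutator_eq_top (hZ : Cfsg.IsZassenhausGroup G Ω) [IsSimpleGroup G] :
    commutator G = ⊤ := by
  rcases (inferInstance : (commutator G).Normal).eq_bot_or_eq_top with h | h
  · exfalso
    apply not_comm hZ
    intro x y
    rw [commutator_eq_bot_iff_center_eq_top] at h
    have hx : x ∈ Subgroup.center G := by rw [h]; trivial
    exact (Subgroup.mem_center_iff.mp hx y).symm
  · exact h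

open Subgroup in
/-- In a simple group `E ≤ [M, M]`, `M = N_G(E)`. -/
theorem le_commutator [Finite G] [Finite Ω] (hZ : Cfsg.IsZassenhausGroup G Ω) {a b : Ω}
    (hab : a ≠ b) [IsSimpleGroup G]
    (hodd : Odd (Nat.card ↥(stabilizer G a ⊓ stabilizer G b : Subgroup G))) :
    (stabilizer G a ⊓ stabilizer G b : Subgroup G) ≤
      ⁅normalizer ((stabilizer G a ⊓ stabilizer G b : Subgroup G) : Set G),
        normalizer ((stabilizer G a ⊓ stabilizer G b : Subgroup G) : Set G)⁆ := by
  set E : Subgroup G := stabilizer G a ⊓ stabilizer G b with hE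
  set M : Subgroup G := normalizer (E : Set G) with hM
  have hEM : E ≤ M := le_normalizer
  rw [← relIndex_eq_one]
  by_contra hne
  obtain ⟨p, hp, hpd⟩ := Nat.exists_prime_and_dvd hne
  have : Fact p.Prime := ⟨hp⟩
  obtain ⟨Q⟩ : Nonempty (Sylow p E) := inferInstance
  have hpE : p ∣ Nat.card E := hpd.trans (relIndex_dvd_card _ _)
  have hpidx : ¬ p ∣ E.index := by
    intro h
    have := coprime_index hZ hab hodd
    exact Nat.Prime.one_lt hp |>.ne' (Nat.eq_one_of_dvd_coprimes this hpE h)
  have hQp : IsPGroup p ((Q : Subgroup E).map E.subtype) := Q.2.map _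
  have hQi : ¬ p ∣ ((Q : Subgroup E).map E.subtype).index := by
    rw [index_map_subtype]
    intro h
    rcases (Nat.Prime.dvd_mul hp).mp h with h | h
    · exact Q.not_dvd_index h
    · exact hpidx h
  let P : Sylow p G := hQp.toSylow hQi
  have hPE : (P : Subgroup G) ≤ E := map_subtype_le _
  have h1 := FusionControl.commutator_inf_eq_of_controls P M (hPE.trans hEM) (by
    intro x hx g hgx
    by_cases hx1 : x = 1
    · exact ⟨1, M.one_mem, by rw [hx1]; group⟩
    · refine ⟨g, ?_, rfl⟩
      exact mem_normalizer_of_pair (pair_of_conj hZ.2.2.1 hab hx1 (hPE hx) (hPE hgx)))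
  rw [commutator_eq_top hZ, top_inf_eq] at h1
  have h2 : (P : Subgroup G) ≤ ⁅M, M⁆ := by rw [h1]; exact inf_le_left
  have h3 : (Q : Subgroup E) ≤ ⁅M, M⁆.subgroupOf E := by
    intro x hx
    rw [mem_subgroupOf]
    exact h2 ⟨x, hx, rfl⟩
  exact Q.not_dvd_index (hpd.trans (index_dvd_of_le h3))

open Subgroup in
theorem isZGroup_normalizer [Finite G] [Finite Ω] (hZ : Cfsg.IsZassenhausGroup G Ω) {a b : Ω}
    (hab : a ≠ b)
    (hodd : Odd (Nat.card ↥(stabilizer G a ⊓ stabilizer G b : Subgroup G))) :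
    IsZGroup ↥(normalizer ((stabilizer G a ⊓ stabilizer G b : Subgroup G) : Set G)) := by
  have hEZ := isZGroup hZ hab hodd
  obtain ⟨-, hidx⟩ := twoPoint hZ hab
  set E : Subgroup G := stabilizer G a ⊓ stabilizer G b with hE
  set M : Subgroup G := normalizer (E : Set G) with hM
  have hEM : E ≤ M := le_normalizer
  have hcardE : Nat.card (E.subgroupOf M) = Nat.card E :=
    Nat.card_congr (subgroupOfEquivOfLe hEM).toEquiv
  have hcard : Nat.card M = 2 * Nat.card E := by
    rw [← (E.subgroupOf M).card_mul_index, hidx, hcardE, mul_comm]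
  refine ⟨fun p hp R => ?_⟩
  have : Fact p.Prime := ⟨hp⟩
  by_cases hp2 : p = 2
  · subst hp2
    have h1 : Nat.card (R : Subgroup M) = 2 := by
      have h2 := R.card_eq_multiplicity
      rw [hcard, Nat.factorization_mul (by norm_num) Nat.card_pos.ne', Finsupp.add_apply,
        Nat.Prime.factorization_self Nat.prime_two,
        Nat.factorization_eq_zero_of_not_dvd hodd.not_two_dvd_nat] at h2
      simpa using h2
    exact isCyclic_of_prime_card h1
  · have hR : ∀ r ∈ (R : Subgroup M), (r : G) ∈ E := by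
      intro r hr
      obtain ⟨k, hk⟩ := R.2 ⟨r, hr⟩
      have hk' : r ^ p ^ k = 1 := congrArg Subtype.val hk
      have hoddp : Odd (p ^ k) := (hp.odd_of_ne_two hp2).pow
      obtain ⟨m, hm⟩ := hoddp
      have h1 : r = (r⁻¹ ^ 2) ^ m := by
        rw [hm, pow_add, pow_one, pow_mul] at hk'
        rw [inv_pow, inv_pow, eq_inv_iff_mul_eq_one, ← hk']
        exact (Commute.pow_right (Commute.pow_right (Commute.refl r) 2) m).eq
      have h2 : (r⁻¹ ^ 2) ∈ E.subgroupOf M := sq_mem_of_index_two hidx _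
      have h3 : r ∈ E.subgroupOf M := by
        rw [h1]
        exact pow_mem h2 m
      exact h3
    let f : (R : Subgroup M) →* E :=
      { toFun := fun r => ⟨((r : M) : G), hR r r.2⟩
        map_one' := rfl
        map_mul' := fun _ _ => rfl }
    have hf : Function.Injective f := by
      intro x y hxy
      exact Subtype.ext (Subtype.ext (congrArg (fun z : E => (z : G)) hxy))
    have hz : IsZGroup (R : Subgroup M) := IsZGroup.of_injective hf
    have hn : Group.IsNilpotent (R : Subgroup M) := R.2.isNilpotent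
    infer_instance

open Subgroup in
theorem structure_of_simple [Finite G] [Finite Ω] (hZ : Cfsg.IsZassenhausGroup G Ω) {a b : Ω}
    (hab : a ≠ b) [IsSimpleGroup G]
    (hodd : Odd (Nat.card ↥(stabilizer G a ⊓ stabilizer G b : Subgroup G))) :
    IsCyclic ↥(stabilizer G a ⊓ stabilizer G b : Subgroup G) ∧
    ∀ t : G, t • a = b → t • b = a → ∀ y ∈ (stabilizer G a ⊓ stabilizer G b : Subgroup G),
      t * y * t⁻¹ = y⁻¹ := by
  have hz := isZGroup_normalizer hZ hab hodd
  have hle := le_commutator hZ hab hodd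
  obtain ⟨-, hidx⟩ := twoPoint hZ hab
  have hpair := fun g : G => mem_normalizer_of_pair (G := G) (a := a) (b := b) (g := g)
  set E : Subgroup G := stabilizer G a ⊓ stabilizer G b with hE
  set M : Subgroup G := normalizer (E : Set G) with hM
  have hEM : E ≤ M := le_normalizer
  have hle' : ∀ y : M, (y : G) ∈ E → y ∈ commutator M := by
    intro y hy
    have h1 := hle hy
    rw [← map_subtype_commutator] at h1
    obtain ⟨z, hz1, hz2⟩ := h1
    have : z = y := Subtype.ext hz2
    rw [← this]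
    exact hz1
  have hcyc : IsCyclic (commutator M) := IsZGroup.isCyclic_commutator M
  have hcycE : IsCyclic E := by
    let f : E →* commutator M :=
      { toFun := fun y => ⟨⟨y, hEM y.2⟩, hle' _ y.2⟩
        map_one' := rfl
        map_mul' := fun _ _ => rfl }
    have hf : Function.Injective f := by
      intro x y hxy
      exact Subtype.ext (congrArg (fun z : commutator M => ((z : M) : G)) hxy)
    exact isCyclic_of_injective f hf
  refine ⟨hcycE, ?_⟩
  have hcomm : ∀ x ∈ E, ∀ y ∈ E, x * y = y * x := by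
    intro x hx y hy
    have : IsMulCommutative E := inferInstance
    exact congrArg Subtype.val (this.is_comm.comm (⟨x, hx⟩ : E) ⟨y, hy⟩)
  have hfix : ∀ t : G, t • a = b → t • b = a → ∀ y ∈ E, t * y * t⁻¹ = y → y = 1 := by
    intro t hta htb y hy hty
    have htM : t ∈ M := hpair t (Or.inr ⟨hta, htb⟩)
    have htE : t ∉ E := by
      rintro ⟨h, -⟩
      have h' : t • a = a := h
      rw [hta] at h'
      exact hab h'.symm
    have hcen : (⟨y, hEM hy⟩ : M) ∈ center M := by
      rw [mem_center_iff]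
      intro m
      apply Subtype.ext
      change (m : G) * y = y * m
      by_cases hm : (m : G) ∈ E
      · exact hcomm _ hm _ hy
      · have h1 : t⁻¹ * (m : G) ∈ E := by
          have h2 : (⟨t, htM⟩ : M)⁻¹ * m ∈ E.subgroupOf M := by
            rw [mul_mem_iff_of_index_two hidx, inv_mem_iff]
            rw [mem_subgroupOf, mem_subgroupOf]
            exact ⟨fun h => absurd h htE, fun h => absurd h hm⟩
          exact h2
        have h3 := hcomm _ h1 _ hy
        calc (m : G) * y = t * (t⁻¹ * m * y) := by group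
          _ = t * (y * (t⁻¹ * m)) := by rw [h3]
          _ = (t * y * t⁻¹) * m := by group
          _ = y * m := by rw [hty]
    have h4 : (⟨y, hEM hy⟩ : M) ∈ commutator M ⊓ center M := ⟨hle' _ hy, hcen⟩
    rw [TransferApps.commutator_inf_center_eq_bot_of_abelian_sylows (fun p hp P => by
      have : Fact p.Prime := ⟨hp⟩
      infer_instance), mem_bot] at h4
    exact congrArg Subtype.val h4
  intro t hta htb y hy
  have hconj : ∀ z ∈ E, t * z * t⁻¹ ∈ E := fun z hz =>
    (mem_normalizer_iff.mp (hpair t (Or.inr ⟨hta, htb⟩)) z).mp hz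
  have ht2 : t * t ∈ E := by
    refine ⟨?_, ?_⟩
    · change (t * t) • a = a
      rw [mul_smul, hta, htb]
    · change (t * t) • b = b
      rw [mul_smul, htb, hta]
  have h1 : t * (t * y * t⁻¹) * t⁻¹ = y := by
    have h2 := hcomm _ ht2 _ hy
    calc t * (t * y * t⁻¹) * t⁻¹ = (t * t * y) * (t * t)⁻¹ := by group
      _ = y * (t * t) * (t * t)⁻¹ := by rw [h2]
      _ = y := by group
  have h2 : y * (t * y * t⁻¹) = 1 := by
    apply hfix t hta htb _ (E.mul_mem hy (hconj y hy))
    calc t * (y * (t * y * t⁻¹)) * t⁻¹ = (t * y * t⁻¹) * (t * (t * y * t⁻¹) * t⁻¹) := by group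
      _ = (t * y * t⁻¹) * y := by rw [h1]
      _ = y * (t * y * t⁻¹) := hcomm _ (hconj y hy) _ hy
  exact (inv_eq_of_mul_eq_one_right h2).symm

end Cfsg.Agent.Lib.ZassOdd
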