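import Cfsg.Agent.Lib.ZassKernel

/-!
# The Frobenius kernel of a point stabiliser is regular (helper6)
-/

set_option autoImplicit false
set_option linter.all false

namespace Cfsg.Agent.Lib.ZassReg

open MulAction ZassBasic ZassKernel

universe u v

variable {G : Type u} {Ω : Type v} [Group G] [MulAction G Ω]

theorem reg_of_kernel [Finite G] [Finite Ω] {a : Ω}
    (H : Subgroup G) (hHa : H ≤ stabilizer G a) (hHcard : Nat.card H + 1 = Nat.card Ω)
    (hHfix : ∀ u ∈ H, u ≠ 1 → ∀ c : Ω, u • c = c → c = a) (y z : Ω) (hy : y ≠ a) (hz : z ≠ a) :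
    ∃! u : H, (u : G) • y = z := by
  classical
  let F : H → {x : Ω // x ≠ a} := fun u => ⟨(u : G) • y, by
    intro h
    apply hy
    have h1 : (u : G) • a = a := hHa u.2
    apply MulAction.injective (u : G)
    change (u : G) • y = (u : G) • a
    rw [h1, h]⟩
  have hF : Function.Injective F := by
    intro u w huw
    have h1 : (u : G) • y = (w : G) • y := congrArg Subtype.val huw
    have h2 : ((w : G)⁻¹ * u) • y = y := by rw [mul_smul, h1, inv_smul_smul]
    have h3 : (w : G)⁻¹ * u = 1 := by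
      by_contra h
      exact hy (hHfix _ (H.mul_mem (H.inv_mem w.2) u.2) h y h2)
    exact Subtype.ext (inv_mul_eq_one.1 h3).symm
  have hbij : Function.Bijective F := (Nat.bijective_iff_injective_and_card F).mpr ⟨hF, by
    have h1 := card_ne a
    omega⟩
  obtain ⟨v, hv⟩ := hbij.2 ⟨z, hz⟩
  refine ⟨v, congrArg Subtype.val hv, ?_⟩
  intro w hw
  apply hbij.1
  rw [hv]
  exact Subtype.ext hw

theorem normal_of_kernel [Finite G] [Finite Ω] (hZ : Cfsg.IsZassenhausGroup G Ω) {a : Ω}
    (H : Subgroup G) (hHa : H ≤ stabilizer G a) (hHcard : Nat.card H + 1 = Nat.card Ω)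
    (hHfix : ∀ u ∈ H, u ≠ 1 → ∀ c : Ω, u • c = c → c = a) :
    (H.subgroupOf (stabilizer G a)).Normal := by
  rw [Subgroup.normal_subgroupOf_iff_le_normalizer hHa,
    normalizer_kernel hZ a H hHa hHcard hHfix]

end Cfsg.Agent.Lib.ZassReg
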