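import Mathlib

/-!
A two-dimensional "Hecke algebra" of block matrices over a finite group and the integrality of its
parameters (helper13).
-/

set_option autoImplicit false

namespace Cfsg.Agent.Lib.HeckeAlg

open Matrix

universe u

variable {G : Type u} [Group G] {n : ℕ}

/-- the `G`-circulant block matrix of a matrix valued function -/
def Mt (Q : G → Matrix (Fin n) (Fin n) ℂ) : Matrix (G × Fin n) (G × Fin n) ℂ :=
  fun x y => Q (x.1⁻¹ * y.1) x.2 y.2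

theorem Mt_mul [Fintype G] (Q Q' : G → Matrix (Fin n) (Fin n) ℂ) :
    Mt Q * Mt Q' = Mt (fun g => ∑ r, Q r * Q' (r⁻¹ * g)) := by
  ext ⟨g, i⟩ ⟨g', j⟩
  rw [Matrix.mul_apply, Fintype.sum_prod_type]
  show (∑ r, ∑ k, Q (g⁻¹ * r) i k * Q' (r⁻¹ * g') k j) =
    (∑ r, Q r * Q' (r⁻¹ * (g⁻¹ * g'))) i j
  rw [Matrix.sum_apply]
  refine Eq.trans ?_ (Equiv.sum_comp (Equiv.mulLeft g⁻¹)
    (fun r => (Q r * Q' (r⁻¹ * (g⁻¹ * g'))) i j))
  apply Finset.sum_congr rfl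
  intro r _
  rw [Equiv.coe_mulLeft, Matrix.mul_apply]
  apply Finset.sum_congr rfl
  intro k _
  have e : (g⁻¹ * r)⁻¹ * (g⁻¹ * g') = r⁻¹ * g' := by group
  show Q (g⁻¹ * r) i k * Q' (r⁻¹ * g') k j = Q (g⁻¹ * r) i k * Q' ((g⁻¹ * r)⁻¹ * (g⁻¹ * g')) k j
  rw [e]

theorem trace_Mt [Fintype G] (Q : G → Matrix (Fin n) (Fin n) ℂ) :
    (Mt Q).trace = (Nat.card G : ℂ) * (Q 1).trace := by
  rw [Matrix.trace, Fintype.sum_prod_type]
  have : ∀ g : G, ∑ i, (Mt Q).diag (g, i) = (Q 1).trace := by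
    intro g
    apply Finset.sum_congr rfl
    intro i _
    show Q (g⁻¹ * g) i i = Q 1 i i
    rw [inv_mul_cancel]
  simp only [this, Finset.sum_const, Finset.card_univ, nsmul_eq_mul, Nat.card_eq_fintype_card]

theorem Mt_smul (c : ℂ) (Q : G → Matrix (Fin n) (Fin n) ℂ) : Mt (fun g => c • Q g) = c • Mt Q := rfl

theorem Mt_add (Q Q' : G → Matrix (Fin n) (Fin n) ℂ) :
    Mt (fun g => Q g + Q' g) = Mt Q + Mt Q' := rfl

theorem trace_idem {ι : Type*} [Fintype ι] [DecidableEq ι] (A : Matrix ι ι ℂ) (hA : A * A = A) :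
    ∃ k : ℕ, A.trace = k := by
  have h1 : IsIdempotentElem (Matrix.toLin' A) := by
    show Matrix.toLin' A * Matrix.toLin' A = Matrix.toLin' A
    rw [Module.End.mul_eq_comp, ← Matrix.toLin'_mul, hA]
  refine ⟨Module.finrank ℂ (LinearMap.range (Matrix.toLin' A)), ?_⟩
  rw [← Matrix.trace_toLin'_eq]
  exact (LinearMap.IsIdempotentElem.isProj_range _ h1).trace

theorem exists_sq [Fintype G] (hn : 0 < n) (P R : G → Matrix (Fin n) (Fin n) ℂ) (β q : ℕ) (m : ℤ)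
    (hβ : 0 < β) (hq : 0 < q)
    (hRR : ∀ g, ∑ r, R r * R (r⁻¹ * g) = (β : ℂ) • R g)
    (hRP : ∀ g, ∑ r, R r * P (r⁻¹ * g) = (β : ℂ) • P g)
    (hPR : ∀ g, ∑ r, P r * R (r⁻¹ * g) = (β : ℂ) • P g)
    (hPP : ∀ g, ∑ r, P r * P (r⁻¹ * g) = (β : ℂ) • ((q : ℂ) • R g + (m : ℂ) • P g))
    (hR1 : (R 1).trace = n) (hP1 : (P 1).trace = 0) (hm : m ≠ 0)
    (hcard : Nat.card G = β * (q + 1)) :
    IsSquare (m ^ 2 + 4 * q) := by
  classical
  set N : ℤ := m ^ 2 + 4 * q with hN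
  have hNpos : 0 < N := by positivity
  obtain ⟨Δ, hΔ⟩ : ∃ Δ : ℂ, Δ * Δ = (N : ℂ) := by
    obtain ⟨Δ, h⟩ := IsAlgClosed.exists_pow_nat_eq (N : ℂ) (n := 2) (by norm_num)
    exact ⟨Δ, by rw [← h]; ring⟩
  have hΔ0 : Δ ≠ 0 := by
    rintro rfl
    rw [mul_zero] at hΔ
    have : N = 0 := by exact_mod_cast hΔ.symm
    omega
  have hβ0 : (β : ℂ) ≠ 0 := by exact_mod_cast hβ.ne'
  obtain ⟨e, he⟩ : ∃ e : Matrix (G × Fin n) (G × Fin n) ℂ, e = (β : ℂ)⁻¹ • Mt R := ⟨_, rfl⟩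
  obtain ⟨t, ht⟩ : ∃ t : Matrix (G × Fin n) (G × Fin n) ℂ, t = (β : ℂ)⁻¹ • Mt P := ⟨_, rfl⟩
  have key : ∀ (Q Q' Q'' : G → Matrix (Fin n) (Fin n) ℂ),
      (∀ g, ∑ r, Q r * Q' (r⁻¹ * g) = (β : ℂ) • Q'' g) →
      ((β : ℂ)⁻¹ • Mt Q) * ((β : ℂ)⁻¹ • Mt Q') = (β : ℂ)⁻¹ • Mt Q'' := by
    intro Q Q' Q'' h
    rw [smul_mul_smul_comm, Mt_mul]
    have : (fun g => ∑ r, Q r * Q' (r⁻¹ * g)) = fun g => (β : ℂ) • Q'' g := funext h
    rw [this, Mt_smul, smul_smul]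
    congr 1
    field_simp
  have hee : e * e = e := by rw [he]; exact key R R R hRR
  have het : e * t = t := by rw [he, ht]; exact key R P P hRP
  have hte : t * e = t := by rw [he, ht]; exact key P R P hPR
  have htt : t * t = (q : ℂ) • e + (m : ℂ) • t := by
    rw [ht, key P P (fun g => (q : ℂ) • R g + (m : ℂ) • P g) hPP, he]
    rw [Mt_add, Mt_smul, Mt_smul, smul_add, smul_comm, smul_comm (β : ℂ)⁻¹ (m : ℂ)]
  obtain ⟨τ, hτ⟩ : ∃ τ : ℂ, τ = ((m : ℂ) - Δ) / 2 := ⟨_, rfl⟩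
  have hτ2 : τ * τ = (m : ℂ) * τ + q := by
    have h1 : (N : ℂ) = (m : ℂ) ^ 2 + 4 * q := by rw [hN]; push_cast; ring
    rw [hτ]
    have h2 : Δ * Δ = (m : ℂ) ^ 2 + 4 * q := by rw [hΔ, h1]
    linear_combination (1 / 4 : ℂ) * h2
  have hτΔ : (m : ℂ) - 2 * τ = Δ := by rw [hτ]; ring
  obtain ⟨E₁, hE₁⟩ : ∃ E₁ : Matrix (G × Fin n) (G × Fin n) ℂ, E₁ = Δ⁻¹ • (t - τ • e) := ⟨_, rfl⟩
  have hE : E₁ * E₁ = E₁ := by
    have h1 : (t - τ • e) * (t - τ • e) = Δ • (t - τ • e) := by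
      have h2 : ((m : ℂ) - 2 * τ) * τ = -(m * τ + 2 * q) := by linear_combination (-2 : ℂ) * hτ2
      have h3 : ((m : ℂ) - 2 * τ) • (t - τ • e) =
          ((m : ℂ) - 2 * τ) • t - (((m : ℂ) - 2 * τ) * τ) • e := by module
      rw [sub_mul, mul_sub, mul_sub, htt, smul_mul_assoc, smul_mul_assoc, mul_smul_comm,
        mul_smul_comm, het, hte, hee, smul_smul, hτ2, ← hτΔ, h3, h2]
      module
    rw [hE₁, smul_mul_smul_comm, h1, smul_smul]
    congr 1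
    field_simp
  obtain ⟨k, hk⟩ := trace_idem E₁ hE
  have htr : E₁.trace = Δ⁻¹ * (-(τ * ((q + 1 : ℕ) * n))) := by
    rw [hE₁, Matrix.trace_smul, Matrix.trace_sub, Matrix.trace_smul, ht, he, Matrix.trace_smul,
      Matrix.trace_smul, trace_Mt, trace_Mt, hR1, hP1, hcard]
    simp only [smul_eq_mul]
    push_cast
    field_simp
    ring
  rw [htr] at hk
  -- Δ (2k - (q+1)n) = -m (q+1) n
  have h1 : Δ * (2 * k - (q + 1 : ℕ) * n) = -(m * ((q + 1 : ℕ) * n)) := by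
    have h2 : -(τ * ((q + 1 : ℕ) * n)) = k * Δ := by
      rw [← hk]; field_simp
    rw [hτ] at h2
    linear_combination (-2 : ℂ) * h2
  have h2 : (N : ℂ) * (2 * k - (q + 1 : ℕ) * n) ^ 2 = (m * ((q + 1 : ℕ) * n)) ^ 2 := by
    rw [← hΔ]
    linear_combination (Δ * (2 * k - (q + 1 : ℕ) * n) - (m * ((q + 1 : ℕ) * n))) * h1
  have h3 : N * (2 * k - (q + 1 : ℕ) * n) ^ 2 = (m * ((q + 1 : ℕ) * n)) ^ 2 := by
    exact_mod_cast h2
  set A : ℤ := 2 * k - (q + 1 : ℕ) * n with hA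
  set C : ℤ := m * ((q + 1 : ℕ) * n) with hC
  have hC0 : C ≠ 0 := by
    rw [hC]
    have : (0 : ℤ) < ((q + 1 : ℕ) : ℤ) * n := by positivity
    exact mul_ne_zero hm this.ne'
  have hA0 : A ≠ 0 := by
    intro h
    rw [h] at h3
    apply hC0
    have : C ^ 2 = 0 := by rw [← h3]; ring
    exact pow_eq_zero_iff (two_ne_zero) |>.1 this
  rw [← Rat.isSquare_intCast_iff]
  refine ⟨(C : ℚ) / A, ?_⟩
  have hA0' : (A : ℚ) ≠ 0 := by exact_mod_cast hA0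
  have h4 : (N : ℚ) * (A : ℚ) ^ 2 = (C : ℚ) ^ 2 := by exact_mod_cast h3
  field_simp
  linear_combination h4

/-- the final arithmetic -/
theorem eq_of_isSquare {p f q : ℕ} {m : ℤ} (hp : p.Prime) (hq : q = p ^ f) (hm : 0 < m)
    (hmq : m ∣ (q : ℤ) - 1) (hq1 : 1 < q) (hsq : IsSquare (m ^ 2 + 4 * q)) : m = q - 1 := by
  obtain ⟨y, hy⟩ := hsq
  wlog hy0 : 0 ≤ y with H
  · exact H hp hq hm hmq hq1 (-y) (by rw [hy]; ring) (by omega)
  have hym : m < y := by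
    by_contra hle
    push Not at hle
    have h1 : y * y ≤ m * m := mul_self_le_mul_self hy0 hle
    have h2 : (0 : ℤ) < q := by exact_mod_cast (by omega : 0 < q)
    nlinarith
  -- y ≡ m mod 2
  have hpar : ∃ x : ℤ, y = m + 2 * x := by
    have h1 : (y - m) * (y + m) = 4 * q := by linear_combination -hy
    have h2 : (y - m) % 2 = 0 := by
      rcases Int.emod_two_eq_zero_or_one (y - m) with h | h
      · exact h
      · exfalso
        have h3 : (y + m) % 2 = 1 := by omega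
        have h4 : ((y - m) * (y + m)) % 2 = 1 := by
          rw [Int.mul_emod, h, h3]; norm_num
        rw [h1] at h4
        omega
    exact ⟨(y - m) / 2, by omega⟩
  obtain ⟨x, hx⟩ := hpar
  have hx0 : 0 < x := by omega
  have hprod : x * (x + m) = q := by
    have : (m + 2 * x) * (m + 2 * x) = m ^ 2 + 4 * q := by rw [← hx, hy]
    linarith [this]
  have hpq : (p : ℤ) ∣ q → (p : ℤ) ∣ m → False := by
    intro h1 h2
    have h3 : (p : ℤ) ∣ (q : ℤ) - 1 := h2.trans hmq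
    have h4 : (p : ℤ) ∣ 1 := by
      have := dvd_sub h1 h3
      simpa using this
    have := Int.natCast_dvd_natCast.1 (by exact_mod_cast h4 : (p : ℤ) ∣ ((1 : ℕ) : ℤ))
    exact hp.one_lt.ne' (Nat.dvd_one.1 this)
  have hf : f ≠ 0 := by
    rintro rfl
    rw [pow_zero] at hq
    omega
  have hpq' : (p : ℤ) ∣ q := by
    rw [hq]
    exact_mod_cast dvd_pow_self p hf
  -- x is a power of p
  have hxnat : x.toNat ∣ p ^ f := by
    have h1 : x ∣ (q : ℤ) := ⟨x + m, hprod.symm⟩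
    have h2 : ((x.toNat : ℕ) : ℤ) = x := Int.toNat_of_nonneg hx0.le
    rw [← hq, ← Int.natCast_dvd_natCast, h2]
    exact h1
  obtain ⟨i, -, hi⟩ := (Nat.dvd_prime_pow hp).1 hxnat
  have hxi : x = ((p ^ i : ℕ) : ℤ) := by
    rw [← hi]; exact (Int.toNat_of_nonneg hx0.le).symm
  have hxmnat : (x + m).toNat ∣ p ^ f := by
    have h1 : (x + m) ∣ (q : ℤ) := ⟨x, by rw [mul_comm, hprod]⟩
    have h2 : (((x + m).toNat : ℕ) : ℤ) = x + m := Int.toNat_of_nonneg (by omega)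
    rw [← hq, ← Int.natCast_dvd_natCast, h2]
    exact h1
  obtain ⟨j, -, hj⟩ := (Nat.dvd_prime_pow hp).1 hxmnat
  have hxmj : x + m = ((p ^ j : ℕ) : ℤ) := by
    rw [← hj]; exact (Int.toNat_of_nonneg (by omega)).symm
  by_cases hi0 : i = 0
  · have hx1 : x = 1 := by rw [hxi, hi0]; simp
    rw [hx1] at hprod
    linarith
  · exfalso
    have hj0 : j ≠ 0 := by
      rintro rfl
      have : x + m = 1 := by rw [hxmj]; simp
      omega
    apply hpq hpq'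
    have h1 : (p : ℤ) ∣ x := by
      rw [hxi]; exact_mod_cast dvd_pow_self p hi0
    have h2 : (p : ℤ) ∣ x + m := by
      rw [hxmj]; exact_mod_cast dvd_pow_self p hj0
    exact (Int.dvd_add_right h1).1 h2

end Cfsg.Agent.Lib.HeckeAlg
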