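import Mathlib
import Cfsg.Agent.Lib.HeckeAlg

/-!
The Hecke algebra identities for a group with a "split rank one BN-pair" (helper13).
-/

set_option autoImplicit false

namespace Cfsg.Agent.Lib.HeckeConv

open Matrix HeckeAlg

universe u

variable {G : Type u} [Group G]

/-- data attached to the projection `G → L` -/
structure Proj (B K L : Subgroup G) (prt : G → L) : Prop where
  spec : ∀ g, ∃ k ∈ K, ∃ k' ∈ K, g = k * prt g * k'
  eq : ∀ g, ∀ k ∈ K, ∀ w : L, ∀ k' ∈ K, g = k * w * k' → prt g = w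
  mem : ∀ g, (prt g : G) ∈ B ↔ g ∈ B
  mul_left : ∀ b ∈ B, ∀ g, prt (b * g) = prt b * prt g
  mul_right : ∀ b ∈ B, ∀ g, prt (g * b) = prt g * prt b
  inv : ∀ g, prt g⁻¹ = (prt g)⁻¹

theorem exists_proj (B K L : Subgroup G)
    (h1 : ∀ g, ∃ k ∈ K, ∃ w ∈ L, ∃ k' ∈ K, g = k * w * k')
    (h2 : ∀ k ∈ K, ∀ w ∈ L, ∀ k' ∈ K, ∀ w' ∈ L, k * w * k' = w' → w = w')
    (hKB : K ≤ B) (hn : ∀ w ∈ L, w ∈ B → ∀ k ∈ K, w * k * w⁻¹ ∈ K) :
    ∃ prt : G → L, Proj B K L prt := by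
  choose κ hκ w hw κ' hκ' he using h1
  let prt : G → L := fun g => ⟨w g, hw g⟩
  have hspec : ∀ g, ∃ k ∈ K, ∃ k' ∈ K, g = k * prt g * k' :=
    fun g => ⟨κ g, hκ g, κ' g, hκ' g, he g⟩
  have heq : ∀ g, ∀ k ∈ K, ∀ w : L, ∀ k' ∈ K, g = k * w * k' → prt g = w := by
    intro g k hk x k' hk' hg
    apply Subtype.ext
    symm
    apply h2 ((κ g)⁻¹ * k) (K.mul_mem (K.inv_mem (hκ g)) hk) x x.2 (k' * (κ' g)⁻¹)
      (K.mul_mem hk' (K.inv_mem (hκ' g))) (w g) (hw g)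
    have h3 : k * x * k' = κ g * w g * κ' g := by rw [← hg]; exact he g
    calc (κ g)⁻¹ * k * x * (k' * (κ' g)⁻¹) = (κ g)⁻¹ * (k * x * k') * (κ' g)⁻¹ := by group
      _ = (κ g)⁻¹ * (κ g * w g * κ' g) * (κ' g)⁻¹ := by rw [h3]
      _ = w g := by group
  have hmem : ∀ g, (prt g : G) ∈ B ↔ g ∈ B := by
    intro g
    obtain ⟨k, hk, k', hk', h⟩ := hspec g
    constructor
    · intro hp
      rw [h]
      exact B.mul_mem (B.mul_mem (hKB hk) hp) (hKB hk')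
    · intro hg
      have : (prt g : G) = k⁻¹ * g * k'⁻¹ := by
        conv_rhs => rw [h]
        group
      rw [this]
      exact B.mul_mem (B.mul_mem (B.inv_mem (hKB hk)) hg) (B.inv_mem (hKB hk'))
  refine ⟨prt, hspec, heq, hmem, ?_, ?_, ?_⟩
  · intro b hb g
    obtain ⟨k, hk, k', hk', h⟩ := hspec b
    obtain ⟨l, hl, l', hl', h'⟩ := hspec g
    apply heq _ (k * ((prt b : G) * (k' * l) * (prt b : G)⁻¹))
      (K.mul_mem hk (hn _ (prt b).2 ((hmem b).2 hb) _ (K.mul_mem hk' hl))) _ l' hl'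
    conv_lhs => rw [h, h']
    rw [Subgroup.coe_mul]
    group
  · intro b hb g
    obtain ⟨k, hk, k', hk', h⟩ := hspec b
    obtain ⟨l, hl, l', hl', h'⟩ := hspec g
    have hconj : (prt b : G)⁻¹ * (l' * k) * (prt b : G) ∈ K := by
      have := hn (prt b : G)⁻¹ (L.inv_mem (prt b).2) (B.inv_mem ((hmem b).2 hb)) _
        (K.mul_mem hl' hk)
      rwa [inv_inv] at this
    apply heq _ l hl _ (((prt b : G)⁻¹ * (l' * k) * (prt b : G)) * k') (K.mul_mem hconj hk')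
    conv_lhs => rw [h, h']
    rw [Subgroup.coe_mul]
    group
  · intro g
    obtain ⟨k, hk, k', hk', h⟩ := hspec g
    apply heq _ k'⁻¹ (K.inv_mem hk') _ k⁻¹ (K.inv_mem hk)
    conv_lhs => rw [h]
    rw [Subgroup.coe_inv]
    group

section conv

variable {B K L : Subgroup G} {prt : G → L} {n : ℕ}

open scoped Classical in
/-- the part on `B` -/
noncomputable def Rf (B : Subgroup G) (prt : G → L) (ρ : L →* Matrix (Fin n) (Fin n) ℂ) (g : G) :
    Matrix (Fin n) (Fin n) ℂ :=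
  if g ∈ B then ρ (prt g) else 0

open scoped Classical in
/-- the part off `B` -/
noncomputable def Pf (B : Subgroup G) (prt : G → L) (ρ : L →* Matrix (Fin n) (Fin n) ℂ) (g : G) :
    Matrix (Fin n) (Fin n) ℂ :=
  if g ∈ B then 0 else ρ (prt g)

variable (hp : Proj B K L prt) (ρ : L →* Matrix (Fin n) (Fin n) ℂ)
include hp

theorem Rf_mem {g : G} (hg : g ∈ B) : Rf B prt ρ g = ρ (prt g) := if_pos hg
omit hp in
theorem Rf_notMem {g : G} (hg : g ∉ B) : Rf B prt ρ g = 0 := if_neg hg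
omit hp in
theorem Pf_mem {g : G} (hg : g ∈ B) : Pf B prt ρ g = 0 := if_pos hg
omit hp in
theorem Pf_notMem {g : G} (hg : g ∉ B) : Pf B prt ρ g = ρ (prt g) := if_neg hg

theorem Rf_mul_left {b : G} (hb : b ∈ B) (g : G) :
    Rf B prt ρ (b * g) = ρ (prt b) * Rf B prt ρ g := by
  by_cases hg : g ∈ B
  · rw [Rf_mem hp ρ (B.mul_mem hb hg), Rf_mem hp ρ hg, hp.mul_left b hb, map_mul]
  · rw [Rf_notMem ρ (fun h => hg ((B.mul_mem_cancel_left hb).1 h)), Rf_notMem ρ hg, mul_zero]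

theorem Pf_mul_left {b : G} (hb : b ∈ B) (g : G) :
    Pf B prt ρ (b * g) = ρ (prt b) * Pf B prt ρ g := by
  by_cases hg : g ∈ B
  · rw [Pf_mem ρ (B.mul_mem hb hg), Pf_mem ρ hg, mul_zero]
  · rw [Pf_notMem ρ (fun h => hg ((B.mul_mem_cancel_left hb).1 h)), Pf_notMem ρ hg,
      hp.mul_left b hb, map_mul]

theorem Pf_mul_right {b : G} (hb : b ∈ B) (g : G) :
    Pf B prt ρ (g * b) = Pf B prt ρ g * ρ (prt b) := by
  by_cases hg : g ∈ B
  · rw [Pf_mem ρ (B.mul_mem hg hb), Pf_mem ρ hg, zero_mul]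
  · rw [Pf_notMem ρ (fun h => hg ((B.mul_mem_cancel_right hb).1 h)), Pf_notMem ρ hg,
      hp.mul_right b hb, map_mul]

theorem rho_inv_mul (w : L) : ρ w⁻¹ * ρ w = 1 := by
  rw [← map_mul, inv_mul_cancel, map_one]

theorem rho_mul_inv (w : L) : ρ w * ρ w⁻¹ = 1 := by
  rw [← map_mul, mul_inv_cancel, map_one]

variable [Fintype G]

theorem sum_B (f : G → Matrix (Fin n) (Fin n) ℂ) (M : Matrix (Fin n) (Fin n) ℂ)
    (h1 : ∀ r ∈ B, f r = M) (h2 : ∀ r, r ∉ B → f r = 0) :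
    ∑ r, f r = (Nat.card B : ℂ) • M := by
  classical
  have h3 : ∀ r, f r = if r ∈ B then M else 0 := by
    intro r
    split_ifs with h
    · exact h1 r h
    · exact h2 r h
  simp only [h3]
  rw [← Finset.sum_filter, Finset.sum_const, ← Nat.cast_smul_eq_nsmul ℂ]
  congr 2
  rw [← Fintype.card_subtype, ← Nat.card_eq_fintype_card]

theorem conv_RR (g : G) : ∑ r, Rf B prt ρ r * Rf B prt ρ (r⁻¹ * g) =
    (Nat.card B : ℂ) • Rf B prt ρ g := by
  apply sum_B hp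
  · intro r hr
    rw [Rf_mul_left hp ρ (B.inv_mem hr), ← mul_assoc, Rf_mem hp ρ hr, hp.inv, rho_mul_inv hp,
      one_mul]
  · intro r hr
    rw [Rf_notMem ρ hr, zero_mul]

theorem conv_RP (g : G) : ∑ r, Rf B prt ρ r * Pf B prt ρ (r⁻¹ * g) =
    (Nat.card B : ℂ) • Pf B prt ρ g := by
  apply sum_B hp
  · intro r hr
    rw [Pf_mul_left hp ρ (B.inv_mem hr), ← mul_assoc, Rf_mem hp ρ hr, hp.inv, rho_mul_inv hp,
      one_mul]
  · intro r hr
    rw [Rf_notMem ρ hr, zero_mul]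

theorem conv_PR (g : G) : ∑ r, Pf B prt ρ r * Rf B prt ρ (r⁻¹ * g) =
    (Nat.card B : ℂ) • Pf B prt ρ g := by
  rw [← Equiv.sum_comp ((Equiv.inv G).trans (Equiv.mulLeft g))]
  apply sum_B hp
  · intro b hb
    show Pf B prt ρ (g * b⁻¹) * Rf B prt ρ ((g * b⁻¹)⁻¹ * g) = Pf B prt ρ g
    have e : (g * b⁻¹)⁻¹ * g = b := by group
    rw [e, Pf_mul_right hp ρ (B.inv_mem hb), Rf_mem hp ρ hb, mul_assoc, hp.inv, rho_inv_mul hp,
      mul_one]
  · intro b hb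
    show Pf B prt ρ (g * b⁻¹) * Rf B prt ρ ((g * b⁻¹)⁻¹ * g) = 0
    have e : (g * b⁻¹)⁻¹ * g = b := by group
    rw [e, Rf_notMem ρ hb, mul_zero]

theorem sum_not_B (f : G → Matrix (Fin n) (Fin n) ℂ) (M : Matrix (Fin n) (Fin n) ℂ) (q : ℕ)
    (hcard : Nat.card G = Nat.card B * (q + 1))
    (h1 : ∀ r, r ∉ B → f r = M) (h2 : ∀ r, r ∈ B → f r = 0) :
    ∑ r, f r = (Nat.card B : ℂ) • ((q : ℂ) • M) := by
  have h3 := sum_B hp (fun r => M - f r) M (fun r hr => by rw [h2 r hr, sub_zero])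
    (fun r hr => by rw [h1 r hr, sub_self])
  rw [Finset.sum_sub_distrib, Finset.sum_const, Finset.card_univ, ← Nat.card_eq_fintype_card,
    hcard, ← Nat.cast_smul_eq_nsmul ℂ] at h3
  have h4 : ∑ r, f r = ((Nat.card B * (q + 1) : ℕ) : ℂ) • M - (Nat.card B : ℂ) • M := by
    rw [← h3]; abel
  rw [h4]
  push_cast
  module

theorem conv_PP {s : L} (hsB : (s : G) ∉ B) (hL : ∀ w : L, (w : G) ∉ B → ((s⁻¹ * w : L) : G) ∈ B)
    (q : ℕ) (hcard : Nat.card G = Nat.card B * (q + 1)) (c : ℂ)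
    (hs : ∑ r, Pf B prt ρ r * Pf B prt ρ (r⁻¹ * s) = (Nat.card B : ℂ) • (c • ρ s)) (g : G) :
    ∑ r, Pf B prt ρ r * Pf B prt ρ (r⁻¹ * g) =
      (Nat.card B : ℂ) • ((q : ℂ) • Rf B prt ρ g + c • Pf B prt ρ g) := by
  by_cases hg : g ∈ B
  · rw [Rf_mem hp ρ hg, Pf_mem ρ hg, smul_zero, add_zero]
    apply sum_not_B hp _ _ q hcard
    · intro r hr
      have hr' : r⁻¹ ∉ B := fun h => hr (inv_mem_iff.1 h)
      rw [Pf_mul_right hp ρ hg, Pf_notMem ρ hr, Pf_notMem ρ hr', hp.inv, ← mul_assoc,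
        rho_mul_inv hp, one_mul]
    · intro r hr
      rw [Pf_mem ρ hr, zero_mul]
  · rw [Rf_notMem ρ hg, Pf_notMem ρ hg, smul_zero, zero_add]
    obtain ⟨k, hk, k', hk', h⟩ := hp.spec g
    have hw : ((prt g : L) : G) ∉ B := fun h' => hg ((hp.mem g).1 h')
    have hkB : k ∈ B := by
      rw [← hp.mem]
      have : prt k = 1 := hp.eq k k hk 1 1 K.one_mem (by simp)
      rw [this]; exact B.one_mem
    have hkB' : k' ∈ B := by
      rw [← hp.mem]
      have : prt k' = 1 := hp.eq k' k' hk' 1 1 K.one_mem (by simp)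
      rw [this]; exact B.one_mem
    have hk1 : prt k = 1 := hp.eq k k hk 1 1 K.one_mem (by simp)
    set b : G := ((s⁻¹ * prt g : L) : G) * k' with hb
    have hbB : b ∈ B := B.mul_mem (hL _ hw) hkB'
    have hgb : g = k * (s * b) := by
      rw [hb]
      conv_lhs => rw [h]
      rw [Subgroup.coe_mul, Subgroup.coe_inv]
      group
    have e1 : ∑ r, Pf B prt ρ r * Pf B prt ρ (r⁻¹ * g) =
        ∑ r, (Pf B prt ρ r * Pf B prt ρ (r⁻¹ * s)) * ρ (prt b) := by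
      rw [← Equiv.sum_comp (Equiv.mulLeft k)]
      apply Finset.sum_congr rfl
      intro r _
      show Pf B prt ρ (k * r) * Pf B prt ρ ((k * r)⁻¹ * g) = _
      have e2 : (k * r)⁻¹ * g = (r⁻¹ * s) * b := by
        rw [hgb]; group
      rw [e2, Pf_mul_left hp ρ hkB, Pf_mul_right hp ρ hbB, hk1, map_one, one_mul, mul_assoc]
    rw [e1, ← Finset.sum_mul, hs, smul_mul_assoc, smul_mul_assoc, ← map_mul]
    have hps : prt (s : G) = s := hp.eq _ 1 K.one_mem s 1 K.one_mem (by simp)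
    have e3 : prt g = s * prt b := by
      conv_lhs => rw [hgb]
      rw [hp.mul_left k hkB, hp.mul_right b hbB, hk1, one_mul, hps]
    rw [e3]

end conv

end Cfsg.Agent.Lib.HeckeConv
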