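import Mathlib
import Cfsg.Agent.Lib.HeckeConv
import Cfsg.Agent.Lib.ZassHalf

/-!
Sharply triply transitive groups of even degree: the Hecke operator (helper13).
-/

set_option autoImplicit false

namespace Cfsg.Agent.Lib.Sharp3

open MulAction ZassBasic HeckeConv HeckeAlg

universe u v

variable {G : Type u} {Ω : Type v} [Group G] [MulAction G Ω]

/-- the setwise stabiliser of a pair, as an explicit subgroup -/
def pairStab (G : Type u) {Ω : Type v} [Group G] [MulAction G Ω] (a b : Ω) : Subgroup G where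
  carrier := {g | (g • a = a ∧ g • b = b) ∨ (g • a = b ∧ g • b = a)}
  one_mem' := Or.inl ⟨one_smul _ _, one_smul _ _⟩
  mul_mem' := by
    rintro g h (⟨h1, h2⟩ | ⟨h1, h2⟩) (⟨h3, h4⟩ | ⟨h3, h4⟩)
    · exact Or.inl ⟨by rw [mul_smul, h3, h1], by rw [mul_smul, h4, h2]⟩
    · exact Or.inr ⟨by rw [mul_smul, h3, h2], by rw [mul_smul, h4, h1]⟩
    · exact Or.inr ⟨by rw [mul_smul, h3, h1], by rw [mul_smul, h4, h2]⟩
    · exact Or.inl ⟨by rw [mul_smul, h3, h2], by rw [mul_smul, h4, h1]⟩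
  inv_mem' := by
    rintro g (⟨h1, h2⟩ | ⟨h1, h2⟩)
    · exact Or.inl ⟨by rw [inv_smul_eq_iff, h1], by rw [inv_smul_eq_iff, h2]⟩
    · exact Or.inr ⟨by rw [inv_smul_eq_iff, h2], by rw [inv_smul_eq_iff, h1]⟩

theorem mem_pairStab {a b : Ω} {g : G} :
    g ∈ pairStab G a b ↔ (g • a = a ∧ g • b = b) ∨ (g • a = b ∧ g • b = a) := Iff.rfl

/-- moving triples -/
def Move3 (G : Type u) (Ω : Type v) [Group G] [MulAction G Ω] : Prop :=
  ∀ x y z x' y' z' : Ω, x ≠ y → x ≠ z → y ≠ z → x' ≠ y' → x' ≠ z' → y' ≠ z' →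
    ∃ g : G, g • x = x' ∧ g • y = y' ∧ g • z = z'

theorem move3_of_pretransitive (h : IsMultiplyPretransitive G Ω 3) : Move3 G Ω := by
  intro x y z x' y' z' h1 h2 h3 h4 h5 h6
  have inj : ∀ x y z : Ω, x ≠ y → x ≠ z → y ≠ z → Function.Injective ![x, y, z] := by
    intro x y z h1 h2 h3 i j hij
    fin_cases i <;> fin_cases j <;> simp_all
  obtain ⟨g, hg⟩ := (isMultiplyPretransitive_iff.mp h) ⟨_, inj x y z h1 h2 h3⟩
    ⟨_, inj x' y' z' h4 h5 h6⟩
  exact ⟨g, DFunLike.congr_fun hg 0, DFunLike.congr_fun hg 1, DFunLike.congr_fun hg 2⟩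

theorem fix3_of_stabilizer (h : ∀ x : Fin 3 ↪ Ω, stabilizer G x = ⊥) : Fix3 G Ω := by
  intro g a b c hab hbc hac ha hb hc
  have inj : Function.Injective ![a, b, c] := by
    intro i j hij
    fin_cases i <;> fin_cases j <;> simp_all
  have : g ∈ stabilizer G (⟨_, inj⟩ : Fin 3 ↪ Ω) := by
    rw [mem_stabilizer_iff]
    ext i
    fin_cases i
    · exact ha
    · exact hb
    · exact hc
  rw [h, Subgroup.mem_bot] at this
  exact this

/-- an element is determined by the images of three points -/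
theorem eq_of_three (h3 : Fix3 G Ω) {g h : G} {x y z : Ω} (hxy : x ≠ y) (hxz : x ≠ z) (hyz : y ≠ z)
    (e1 : g • x = h • x) (e2 : g • y = h • y) (e3 : g • z = h • z) : g = h := by
  have := h3 (h⁻¹ * g) x y z hxy hyz hxz (by rw [mul_smul, e1, inv_smul_smul])
    (by rw [mul_smul, e2, inv_smul_smul]) (by rw [mul_smul, e3, inv_smul_smul])
  exact (inv_mul_eq_one.1 this).symm

/-- the standing configuration -/
structure Config (G : Type u) (Ω : Type v) [Group G] [MulAction G Ω] (a b c : Ω) (s z u : G)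
    (K : Subgroup G) : Prop where
  h2 : IsMultiplyPretransitive G Ω 2
  h3 : Fix3 G Ω
  mv : Move3 G Ω
  hab : a ≠ b
  hac : a ≠ c
  hbc : b ≠ c
  hsa : s • a = b
  hsb : s • b = a
  hsc : s • c = c
  hss : s * s = 1
  hza : z • a = a
  hzb : z • b = b
  hzz : z * z = 1
  hz1 : z ≠ 1
  hzs : z * s = s * z
  hK : ∀ g, g ∈ K ↔ InK a g
  hreg : ∀ y : Ω, y ≠ a → ∃! k : K, (k : G) • b = y
  huK : u ∈ K
  hub : u • b = c
  hzu : z * u * z = u⁻¹
  zuniq : ∀ t : G, t * t = 1 → t ≠ 1 → t • a = a → t • b = b → t = z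

theorem exists_config [Finite G] [Finite Ω] (h2 : IsMultiplyPretransitive G Ω 2) (h3 : Fix3 G Ω)
    (mv : Move3 G Ω) {a b c : Ω} (hab : a ≠ b) (hac : a ≠ c) (hbc : b ≠ c) {s : G}
    (hsa : s • a = b) (hsb : s • b = a) (hsc : s • c = c)
    (heven : Even (Nat.card ↥(stabilizer G a ⊓ stabilizer G b))) :
    ∃ z u K, Config G Ω a b c s z u K := by
  have hss : s * s = 1 := h3 (s * s) a b c hab hbc hac (by rw [mul_smul, hsa, hsb])
    (by rw [mul_smul, hsb, hsa]) (by rw [mul_smul, hsc, hsc])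
  obtain ⟨z, hz⟩ : ∃ z : ↥(stabilizer G a ⊓ stabilizer G b), orderOf z = 2 := by
    have := Fact.mk Nat.prime_two
    exact exists_prime_orderOf_dvd_card' 2 (even_iff_two_dvd.1 heven)
  have hz1 : (z : G) ≠ 1 := by
    intro h
    have : z = 1 := Subtype.ext h
    rw [this, orderOf_one] at hz
    omega
  have hzz : (z : G) * z = 1 := by
    have : z * z = 1 := by rw [← sq, ← hz, pow_orderOf_eq_one]
    exact congrArg Subtype.val this
  have hza : (z : G) • a = a := z.2.1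
  have hzb : (z : G) • b = b := z.2.2
  have zuniq : ∀ t : G, t * t = 1 → t ≠ 1 → t • a = a → t • b = b → t = z := by
    intro t ht ht1 hta htb
    exact (unique_involution h2 h3 hab hac.symm hbc.symm hzz hz1 hza hzb ht ht1 hta htb).symm
  have hzs : (z : G) * s = s * z := by
    have hs' : s⁻¹ = s := inv_eq_of_mul_eq_one_right hss
    have h5 : s * z * s = z := by
      apply zuniq
      · have : s * z * s * (s * z * s) = s * (z : G) * (s * s) * z * s := by group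
        rw [this, hss, mul_one, mul_assoc s, hzz, mul_one, hss]
      · intro h
        apply hz1
        have : (z : G) = s * (s * z * s) * s := by
          have : s * (s * z * s) * s = (s * s) * z * (s * s) := by group
          rw [this, hss, one_mul, mul_one]
        rw [this, h, mul_one, hss]
      · rw [mul_smul, mul_smul, hsa, hzb, hsb]
      · rw [mul_smul, mul_smul, hsb, hza, hsa]
    calc (z : G) * s = (s * z * s) * s := by rw [h5]
      _ = s * z * (s * s) := by group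
      _ = s * z := by rw [hss, mul_one]
  let K := kernel h2 h3 hab hzz hz1 hza hzb
  have hK : ∀ g, g ∈ K ↔ InK a g := fun g => Iff.rfl
  have hreg := ZassHalf.kernel_regular h2 h3 hab K hK
  obtain ⟨u, hu, -⟩ := hreg c hac.symm
  exact ⟨z, u, K, {
    h2 := h2, h3 := h3, mv := mv, hab := hab, hac := hac, hbc := hbc, hsa := hsa, hsb := hsb,
    hsc := hsc, hss := hss, hza := hza, hzb := hzb, hzz := hzz, hz1 := hz1, hzs := hzs,
    hK := hK, hreg := hreg, huK := u.2, hub := hu,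
    hzu := inK_invert h2 h3 hab hzz hz1 hza hzb ((hK u).1 u.2), zuniq := zuniq }⟩

namespace Config

variable {a b c : Ω} {s z u : G} {K : Subgroup G} (C : Config G Ω a b c s z u K)
include C

theorem sinv : s⁻¹ = s := inv_eq_of_mul_eq_one_right C.hss

theorem Ka {k : G} (hk : k ∈ K) : k • a = a := ((C.hK k).1 hk).1

theorem K_one {k : G} (hk : k ∈ K) (hb : k • b = b) : k = 1 := by
  by_contra h
  exact ((C.hK k).1 hk).2 h b C.hab.symm hb

/-- the fundamental relation -/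
theorem rel : s * u * s = u * (z * s) * u := by
  have hzc : u • z • c = b := by
    have h1 : z • c = u⁻¹ • b := by
      rw [← C.hzu, mul_smul, mul_smul, C.hzb, C.hub]
    rw [h1, smul_inv_smul]
  have hzcb : z • c ≠ b := by
    intro h
    apply C.hbc
    have : z • c = z • b := by rw [h, C.hzb]
    exact (MulAction.injective z this).symm
  have hzca : z • c ≠ a := by
    intro h
    apply C.hac
    have : z • c = z • a := by rw [h, C.hza]
    exact (MulAction.injective z this).symm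
  have hszc : s • z • c = z • c := by
    rw [smul_smul, ← C.hzs, mul_smul, C.hsc]
  apply eq_of_three C.h3 C.hab hzca.symm hzcb.symm
  · rw [mul_smul, mul_smul, C.hsa, C.hub, C.hsc]
    rw [mul_smul, mul_smul, C.Ka C.huK, mul_smul, C.hsa, C.hzb, C.hub]
  · rw [mul_smul, mul_smul, C.hsb, C.Ka C.huK, C.hsa]
    rw [mul_smul, mul_smul, C.hub, mul_smul, C.hsc, hzc]
  · rw [mul_smul, mul_smul, hszc, hzc, C.hsb]
    rw [mul_smul, mul_smul, hzc, mul_smul, C.hsb, C.hza, C.Ka C.huK]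

theorem h1' (g : G) : ∃ k ∈ K, ∃ w ∈ pairStab G a b, ∃ k' ∈ K, g = k * w * k' := by
  by_cases hg : g • a = a
  · have hgb : g • b ≠ a := fun h => C.hab (MulAction.injective g (hg.trans h.symm))
    obtain ⟨k, hk, -⟩ := C.hreg (g • b) hgb
    refine ⟨k, k.2, (k : G)⁻¹ * g, Or.inl ⟨?_, ?_⟩, 1, K.one_mem, by group⟩
    · rw [mul_smul, hg, inv_smul_eq_iff, C.Ka k.2]
    · rw [mul_smul, ← hk, inv_smul_smul]
  · have hg' : g⁻¹ • a ≠ a := by
      intro h
      apply hg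
      rw [inv_smul_eq_iff] at h
      exact h.symm
    obtain ⟨k, hk, -⟩ := C.hreg (g • a) hg
    obtain ⟨k', hk', -⟩ := C.hreg (g⁻¹ • a) hg'
    refine ⟨k, k.2, (k : G)⁻¹ * g * k', Or.inr ⟨?_, ?_⟩, (k' : G)⁻¹, K.inv_mem k'.2, by group⟩
    · rw [mul_smul, mul_smul, C.Ka k'.2, ← hk, inv_smul_smul]
    · rw [mul_smul, mul_smul, hk', smul_inv_smul, inv_smul_eq_iff, C.Ka k.2]

theorem h2' [Finite G] [Finite Ω] : ∀ k ∈ K, ∀ w ∈ pairStab G a b, ∀ k' ∈ K, ∀ w' ∈ pairStab G a b,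
    k * w * k' = w' → w = w' := by
  intro k hk w hw k' hk' w' hw' h
  rcases hw with ⟨h1, h2⟩ | ⟨h1, h2⟩
  · -- w fixes a and b
    have hconj : w * k' * w⁻¹ ∈ K := (C.hK _).2 (inK_conj ((C.hK _).1 hk') h1)
    have hkk : k * (w * k' * w⁻¹) ∈ K := K.mul_mem hk hconj
    have e : w' = (k * (w * k' * w⁻¹)) * w := by rw [← h]; group
    have hb : w' • b = (k * (w * k' * w⁻¹)) • b := by rw [e, mul_smul, h2]
    have hbK : (k * (w * k' * w⁻¹)) • b ≠ a := by
      intro h'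
      exact C.hab (MulAction.injective _ ((C.Ka hkk).trans h'.symm))
    rcases hw' with ⟨h3, h4⟩ | ⟨h3, h4⟩
    · have : k * (w * k' * w⁻¹) = 1 := C.K_one hkk (by rw [← hb, h4])
      rw [e, this, one_mul]
    · exact absurd (hb.symm.trans h4) hbK
  · have e1 : w' • a = k • b := by rw [← h, mul_smul, mul_smul, C.Ka hk', h1]
    have e2 : w'⁻¹ • a = k'⁻¹ • b := by
      rw [← h, mul_inv_rev, mul_inv_rev, mul_smul, mul_smul]
      have h5 : k⁻¹ • a = a := C.Ka (K.inv_mem hk)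
      have h6 : w⁻¹ • a = b := by rw [inv_smul_eq_iff, h2]
      rw [h5, h6]
    have hkb : k • b ≠ a := fun h' => C.hab (MulAction.injective _ ((C.Ka hk).trans h'.symm))
    have hkb' : k'⁻¹ • b ≠ a := fun h' =>
      C.hab (MulAction.injective _ ((C.Ka (K.inv_mem hk')).trans h'.symm))
    rcases hw' with ⟨h3, h4⟩ | ⟨h3, h4⟩
    · exact absurd (e1.symm.trans h3) hkb
    · have hk1 : k = 1 := C.K_one hk (by rw [← e1, h3])
      have h5 : w'⁻¹ • a = b := by rw [inv_smul_eq_iff, h4]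
      have hk1' : k'⁻¹ = 1 := C.K_one (K.inv_mem hk') (by rw [← e2, h5])
      rw [← h, hk1, one_mul, inv_eq_one.1 hk1', mul_one]

theorem exists_proj [Finite G] [Finite Ω] : ∃ prt : G → pairStab G a b, Proj (stabilizer G a) K (pairStab G a b) prt :=
  HeckeConv.exists_proj _ _ _ C.h1' C.h2' (fun _ hk => C.Ka hk)
    (fun _ _ hw _ hk => (C.hK _).2 (inK_conj ((C.hK _).1 hk) hw))

theorem s_mem : s ∈ pairStab G a b := Or.inr ⟨C.hsa, C.hsb⟩
theorem z_mem : z ∈ pairStab G a b := Or.inl ⟨C.hza, C.hzb⟩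

open scoped Classical in
theorem hs [Fintype G] [Finite Ω] {n : ℕ} {prt : G → pairStab G a b}
    (hp : Proj (stabilizer G a) K (pairStab G a b) prt)
    (ρ : pairStab G a b →* Matrix (Fin n) (Fin n) ℂ) (m : ℂ)
    (hM : ∑ η : ↥(stabilizer G a ⊓ stabilizer G b), ρ (⟨η, Or.inl η.2⟩ * (⟨z, C.z_mem⟩ *
      ⟨s, C.s_mem⟩) * (⟨η, Or.inl η.2⟩ : pairStab G a b)⁻¹) = m • 1) :
    ∑ r, Pf (stabilizer G a) prt ρ r * Pf (stabilizer G a) prt ρ (r⁻¹ * s) =
      (Nat.card (stabilizer G a) : ℂ) • (m • ρ ⟨s, C.s_mem⟩) := by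
  set B := stabilizer G a with hB
  have hsB : s ∉ B := by
    intro h
    exact C.hab ((h : s • a = a).symm.trans C.hsa)
  let φ : ↥(stabilizer G a ⊓ stabilizer G b) × B → G := fun x =>
    (s * (x.1 : G) * s) * u * (s * (x.1 : G) * s)⁻¹ * s * (x.2 : G)
  have hHs : ∀ η : ↥(stabilizer G a ⊓ stabilizer G b), (s * (η : G) * s) • a = a ∧
      (s * (η : G) * s) • b = b := by
    intro η
    have h1 : (η : G) • a = a := η.2.1
    have h2 : (η : G) • b = b := η.2.2
    constructor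
    · rw [mul_smul, mul_smul, C.hsa, h2, C.hsb]
    · rw [mul_smul, mul_smul, C.hsb, h1, C.hsa]
  have hφa : ∀ x, φ x • a = (s * (x.1 : G) * s) • c := by
    intro x
    have h1 : (x.2 : G) • a = a := x.2.2
    have h2 : (s * (x.1 : G) * s)⁻¹ • b = b := by rw [inv_smul_eq_iff, (hHs x.1).2]
    show ((s * (x.1 : G) * s) * u * (s * (x.1 : G) * s)⁻¹ * s * (x.2 : G)) • a = _
    rw [mul_smul, h1, mul_smul, C.hsa, mul_smul, h2, mul_smul, C.hub]
  have hφinj : Function.Injective φ := by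
    intro x y hxy
    have h1 : (s * (x.1 : G) * s) • c = (s * (y.1 : G) * s) • c := by
      rw [← hφa, ← hφa, hxy]
    have h4 : s * (x.1 : G) * s = s * (y.1 : G) * s :=
      eq_of_three C.h3 C.hab C.hac C.hbc ((hHs x.1).1.trans (hHs y.1).1.symm)
        ((hHs x.1).2.trans (hHs y.1).2.symm) h1
    have h5 : x.1 = y.1 := Subtype.ext (mul_left_cancel (mul_right_cancel h4))
    have h6 : φ x = φ y := hxy
    have h7 : x.2 = y.2 := by
      apply Subtype.ext
      have h8 : (s * (x.1 : G) * s) * u * (s * (x.1 : G) * s)⁻¹ * s * (x.2 : G) =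
        (s * (y.1 : G) * s) * u * (s * (y.1 : G) * s)⁻¹ * s * (y.2 : G) := h6
      rw [h5] at h8
      exact mul_left_cancel h8
    exact Prod.ext h5 h7
  have hprt1 : ∀ k ∈ K, prt k = 1 := fun k hk => hp.eq k k hk 1 1 K.one_mem (by simp)
  have hprtL : ∀ w : pairStab G a b, prt w = w := fun w => hp.eq _ 1 K.one_mem w 1 K.one_mem (by simp)
  have hKB : ∀ k ∈ K, k ∈ B := fun k hk => C.Ka hk
  have hsum : ∑ r, Pf B prt ρ r * Pf B prt ρ (r⁻¹ * s) =
      ∑ x : ↥(stabilizer G a ⊓ stabilizer G b) × B, Pf B prt ρ (φ x) * Pf B prt ρ ((φ x)⁻¹ * s) := by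
    symm
    apply Finset.sum_of_injOn φ (hφinj.injOn) (fun _ _ => Finset.mem_coe.2 (Finset.mem_univ _))
    · intro r _ hr
      by_cases hrB : r ∈ B
      · rw [Pf_mem ρ hrB, zero_mul]
      by_cases hrb : r • a = b
      · have : r⁻¹ * s ∈ B := by
          show (r⁻¹ * s) • a = a
          rw [mul_smul, C.hsa, inv_smul_eq_iff, hrb]
        rw [Pf_mem ρ this, mul_zero]
      · exfalso
        apply hr
        have hra : r • a ≠ a := hrB
        obtain ⟨g, hg1, hg2, hg3⟩ := C.mv a b c a b (r • a) C.hab C.hac C.hbc C.hab hra.symm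
          (fun h => hrb h.symm)
        have hη : s * g * s ∈ stabilizer G a ⊓ stabilizer G b := by
          refine ⟨?_, ?_⟩
          · show (s * g * s) • a = a
            rw [mul_smul, mul_smul, C.hsa, hg2, C.hsb]
          · show (s * g * s) • b = b
            rw [mul_smul, mul_smul, C.hsb, hg1, C.hsa]
        have hsgs : s * (s * g * s) * s = g := by
          have : s * (s * g * s) * s = (s * s) * g * (s * s) := by group
          rw [this, C.hss, one_mul, mul_one]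
        have hgb : g⁻¹ • b = b := by rw [inv_smul_eq_iff, hg2]
        have hb' : (g * u * g⁻¹ * s)⁻¹ * r ∈ B := by
          show ((g * u * g⁻¹ * s)⁻¹ * r) • a = a
          rw [mul_smul, inv_smul_eq_iff, ← hg3, mul_smul, C.hsa, mul_smul, hgb, mul_smul, C.hub]
        refine ⟨(⟨s * g * s, hη⟩, ⟨_, hb'⟩), Finset.mem_coe.2 (Finset.mem_univ _), ?_⟩
        show (s * (s * g * s) * s) * u * (s * (s * g * s) * s)⁻¹ * s * ((g * u * g⁻¹ * s)⁻¹ * r) = r
        rw [hsgs]; group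
    · intro x _; rfl
  rw [hsum, Fintype.sum_prod_type]
  have hterm : ∀ (η : ↥(stabilizer G a ⊓ stabilizer G b)) (b' : B),
      Pf B prt ρ (φ (η, b')) * Pf B prt ρ ((φ (η, b'))⁻¹ * s) =
      ρ ⟨s, C.s_mem⟩ * ρ (⟨η, Or.inl η.2⟩ * (⟨z, C.z_mem⟩ *
      ⟨s, C.s_mem⟩) * (⟨η, Or.inl η.2⟩ : pairStab G a b)⁻¹) := by
    intro η b'
    have hkK : (s * (η : G) * s) * u * (s * (η : G) * s)⁻¹ ∈ K :=
      (C.hK _).2 (inK_conj ((C.hK _).1 C.huK) (hHs η).1)
    have e1 : Pf B prt ρ (φ (η, b')) = ρ ⟨s, C.s_mem⟩ * ρ (prt b') := by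
      have : φ (η, b') = ((s * (η : G) * s) * u * (s * (η : G) * s)⁻¹) * (s * (b' : G)) := by
        show (s * (η : G) * s) * u * (s * (η : G) * s)⁻¹ * s * (b' : G) = _
        group
      rw [this, Pf_mul_left hp ρ (hKB _ hkK), Pf_mul_right hp ρ b'.2, hprt1 _ hkK, map_one,
        one_mul, Pf_notMem ρ hsB]
      congr 2
      exact hprtL ⟨s, C.s_mem⟩
    have hηB : (η : G) ∈ B := η.2.1
    have e2 : (φ (η, b'))⁻¹ * s = (b' : G)⁻¹ * ((η : G) * (u⁻¹ * ((z * s) * (u⁻¹ * (η : G)⁻¹)))) := by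
      have h1 : (φ (η, b'))⁻¹ * s = (b' : G)⁻¹ * (s⁻¹ * ((s * (η : G) * s) * u⁻¹ *
          (s * (η : G) * s)⁻¹) * s) := by
        show ((s * (η : G) * s) * u * (s * (η : G) * s)⁻¹ * s * (b' : G))⁻¹ * s = _
        group
      have h2 : s⁻¹ * ((s * (η : G) * s) * u⁻¹ * (s * (η : G) * s)⁻¹) * s =
          (η : G) * (s * u⁻¹ * s⁻¹) * (η : G)⁻¹ := by group
      have h4 : s * u⁻¹ * s⁻¹ = u⁻¹ * (z * s) * u⁻¹ := by
        have h5 : s * u⁻¹ * s⁻¹ = (s * u * s)⁻¹ := by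
          have h7 : s * u⁻¹ * s⁻¹ = s * u⁻¹ * s := by rw [C.sinv]
          have h8 : (s * u * s)⁻¹ = s * u⁻¹ * s := by
            rw [mul_inv_rev, mul_inv_rev, C.sinv, mul_assoc]
          rw [h7, h8]
        rw [h5, C.rel]
        have h6 : (z * s)⁻¹ = z * s := by
          rw [mul_inv_rev, C.sinv, inv_eq_of_mul_eq_one_right C.hzz, C.hzs]
        rw [mul_inv_rev, mul_inv_rev, h6]
        group
      rw [h1, h2, h4]
      group
    have hzsB : z * s ∉ B := by
      intro h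
      have h1 : (z * s) • a = a := h
      rw [mul_smul, C.hsa, C.hzb] at h1
      exact C.hab h1.symm
    have e3 : Pf B prt ρ ((φ (η, b'))⁻¹ * s) = ρ (prt b')⁻¹ * ρ (⟨η, Or.inl η.2⟩ *
        (⟨z, C.z_mem⟩ * ⟨s, C.s_mem⟩) * (⟨η, Or.inl η.2⟩ : pairStab G a b)⁻¹) := by
      have huK' : u⁻¹ ∈ K := K.inv_mem C.huK
      rw [e2, Pf_mul_left hp ρ (B.inv_mem b'.2), Pf_mul_left hp ρ hηB,
        Pf_mul_left hp ρ (hKB _ huK'), Pf_mul_right hp ρ (B.mul_mem (hKB _ huK') (B.inv_mem hηB)),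
        hp.mul_left _ (hKB _ huK'), hprt1 _ huK', map_one, one_mul, one_mul, Pf_notMem ρ hzsB,
        hp.inv]
      have h1 : prt (η : G) = ⟨η, Or.inl η.2⟩ := hprtL ⟨η, Or.inl η.2⟩
      have h2 : prt (z * s) = ⟨z, C.z_mem⟩ * ⟨s, C.s_mem⟩ := hprtL (⟨z, C.z_mem⟩ * ⟨s, C.s_mem⟩)
      have h4 : prt (η : G)⁻¹ = (⟨η, Or.inl η.2⟩ : pairStab G a b)⁻¹ := by rw [hp.inv, h1]
      rw [h1, h2, h4]
      simp only [map_mul, mul_assoc]
    rw [e1, e3, mul_assoc, ← mul_assoc (ρ (prt (b' : G))), rho_mul_inv hp, one_mul]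
  have hinner : ∀ η : ↥(stabilizer G a ⊓ stabilizer G b),
      ∑ b' : B, Pf B prt ρ (φ (η, b')) * Pf B prt ρ ((φ (η, b'))⁻¹ * s) =
      (Nat.card B : ℂ) • (ρ ⟨s, C.s_mem⟩ * ρ (⟨η, Or.inl η.2⟩ * (⟨z, C.z_mem⟩ *
      ⟨s, C.s_mem⟩) * (⟨η, Or.inl η.2⟩ : pairStab G a b)⁻¹)) := by
    intro η
    rw [Finset.sum_congr rfl (fun b' _ => hterm η b'), Finset.sum_const, Finset.card_univ,
      Nat.card_eq_fintype_card, Nat.cast_smul_eq_nsmul ℂ]
  rw [Finset.sum_congr rfl (fun η _ => hinner η), ← Finset.smul_sum, ← Finset.mul_sum, hM,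
    mul_smul_comm, mul_one]

end Config

end Cfsg.Agent.Lib.Sharp3
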