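import Mathlib
import Cfsg.Agent.Lib.Sharp3
import Cfsg.Agent.Lib.CharBasic2
import Cfsg.Agent.Lib.CharDegrees

/-!
Sharply triply transitive groups of even degree: the characters of the stabiliser of a pair
(helper13).
-/

set_option autoImplicit false

namespace Cfsg.Agent.Lib.Sharp3

open MulAction ZassBasic HeckeConv HeckeAlg Module

universe u v

/-! ### the existence of a third linear-like character -/

section Chi

variable {L : Type u} [Group L] [Finite L]

theorem exists_int_of_involution {χ : L → ℂ} (hχ : IsCharacter L χ) {s : L} (hs : s * s = 1) :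
    ∃ k : ℤ, χ s = k := by
  obtain ⟨n, ρ, rfl⟩ := hχ
  obtain ⟨μ, h1, h2⟩ := CharValues.exists_eigenvalues ρ s
  have h3 : ∀ i, μ i = 1 ∨ μ i = -1 := by
    intro i
    have h4 : orderOf s ∣ 2 := orderOf_dvd_of_pow_eq_one (by rw [sq, hs])
    have h5 : μ i ^ 2 = 1 := by
      obtain ⟨c, hc⟩ := h4
      rw [hc, pow_mul, h1, one_pow]
    have h6 : (μ i - 1) * (μ i + 1) = 0 := by linear_combination h5
    rcases mul_eq_zero.1 h6 with h | h
    · exact Or.inl (by linear_combination h)
    · exact Or.inr (by linear_combination h)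
  have h4 := h2 1
  rw [pow_one] at h4
  rw [h4]
  refine ⟨∑ i, if μ i = 1 then 1 else -1, ?_⟩
  push_cast
  apply Finset.sum_congr rfl
  intro i _
  rcases h3 i with h | h
  · rw [if_pos h, h]; norm_num
  · have : μ i ≠ 1 := by rw [h]; norm_num
    rw [if_neg this, h]; norm_num

theorem exists_chi (sgn : L →* ℂˣ) (hsq : ∀ g, (sgn g : ℂ) * sgn g = 1) {s : L} (hs : s * s = 1)
    (hsgn : (sgn s : ℂ) = -1)
    (hC : Nat.card (Subgroup.centralizer ({s} : Set L)) = 4) :
    ∃ χ : L → ℂ, IsIrrCharacter L χ ∧ χ s ^ 2 = 1 ∧ χ ≠ (fun _ => 1) ∧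
      χ ≠ (fun g => (sgn g : ℂ)) := by
  classical
  have hint : ∀ χ : IrrCharacter L, ∃ k : ℤ, (χ : L → ℂ) s = k := fun χ =>
    exists_int_of_involution χ.2.isCharacter hs
  choose k hk using hint
  have hsum : ∑ χ : IrrCharacter L, (k χ) ^ 2 = 4 := by
    have h := CharBasic.column_orthogonality s s
    rw [if_pos (IsConj.refl s), hC] at h
    have h2 : ∑ χ : IrrCharacter L, ((k χ : ℂ)) ^ 2 = 4 := by
      rw [← Nat.cast_ofNat (R := ℂ), ← h]
      apply Finset.sum_congr rfl
      intro χ _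
      rw [hk χ, map_intCast, sq]
    exact_mod_cast h2
  let e1 : IrrCharacter L := ⟨fun _ => 1, CharBasic.isIrrCharacter_fun_one⟩
  let e2 : IrrCharacter L := ⟨fun g => (sgn g : ℂ), CharBasic.isIrrCharacter_of_unitsHom sgn⟩
  have hk1 : k e1 = 1 := by
    have := hk e1
    have h2 : (1 : ℂ) = k e1 := this
    exact_mod_cast h2.symm
  have hk2 : k e2 = -1 := by
    have := hk e2
    have h2 : (sgn s : ℂ) = k e2 := this
    rw [hsgn] at h2
    exact_mod_cast h2.symm
  have h12 : e1 ≠ e2 := by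
    intro h
    rw [h, hk2] at hk1
    norm_num at hk1
  -- some other character does not vanish at s
  have hex : ∃ χ : IrrCharacter L, χ ≠ e1 ∧ χ ≠ e2 ∧ k χ ≠ 0 := by
    by_contra hcon
    push Not at hcon
    have : ∑ χ : IrrCharacter L, (k χ) ^ 2 = ∑ χ ∈ ({e1, e2} : Finset (IrrCharacter L)), (k χ) ^ 2 := by
      symm
      apply Finset.sum_subset (Finset.subset_univ _)
      intro χ _ hχ
      rw [Finset.mem_insert, Finset.mem_singleton, not_or] at hχ
      rw [hcon χ hχ.1 hχ.2]; norm_num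
    rw [hsum, Finset.sum_pair h12, hk1, hk2] at this
    norm_num at this
  obtain ⟨χ, hχ1, hχ2, hχ0⟩ := hex
  refine ⟨χ, χ.2, ?_, fun h => hχ1 (Subtype.ext h), fun h => hχ2 (Subtype.ext h)⟩
  have hirr : IsIrrCharacter L ((χ : L → ℂ) * fun g => (sgn g : ℂ)) :=
    χ.2.mul_linear (CharBasic.isCharacter_of_unitsHom sgn) (by simp)
  let χ' : IrrCharacter L := ⟨_, hirr⟩
  have hkχ' : k χ' = - k χ := by
    have h1 : (χ : L → ℂ) s * (sgn s : ℂ) = k χ' := hk χ'
    rw [hk χ, hsgn] at h1
    have : ((-k χ : ℤ) : ℂ) = k χ' := by rw [← h1]; push_cast; ring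
    exact_mod_cast this.symm
  have hne : χ ≠ χ' := by
    intro h
    rw [← h] at hkχ'
    omega
  have hkey : ∑ ψ ∈ ({e1, e2, χ, χ'} : Finset (IrrCharacter L)), (k ψ) ^ 2 ≤ 4 := by
    rw [← hsum]
    exact Finset.sum_le_sum_of_subset_of_nonneg (Finset.subset_univ _) (fun _ _ _ => sq_nonneg _)
  have hχ'1 : χ' ≠ e1 := by
    intro h
    apply hχ2
    apply Subtype.ext
    funext g
    have h1 : (χ : L → ℂ) g * (sgn g : ℂ) = 1 := congrFun (congrArg Subtype.val h) g
    exact mul_right_cancel₀ (Units.ne_zero (sgn g)) (h1.trans (hsq g).symm)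
  have hχ'2 : χ' ≠ e2 := by
    intro h
    apply hχ1
    apply Subtype.ext
    funext g
    have h1 : (χ : L → ℂ) g * (sgn g : ℂ) = (sgn g : ℂ) := congrFun (congrArg Subtype.val h) g
    have h2 := mul_right_cancel₀ (Units.ne_zero (sgn g)) (h1.trans (one_mul _).symm)
    exact h2
  rw [Finset.sum_insert, Finset.sum_insert, Finset.sum_pair hne, hk1, hk2, hkχ'] at hkey
  · have h1 : (k χ) ^ 2 ≤ 1 := by nlinarith
    have h2 : (k χ) ^ 2 = 1 := by
      have : 0 < (k χ) ^ 2 := by positivity
      omega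
    rw [hk χ]
    exact_mod_cast h2
  · simp only [Finset.mem_insert, Finset.mem_singleton, not_or]
    exact ⟨hχ2.symm, hχ'2.symm⟩
  · simp only [Finset.mem_insert, Finset.mem_singleton, not_or]
    exact ⟨h12, hχ1.symm, hχ'1.symm⟩

end Chi

/-! ### counting in the configuration -/

theorem card_H_aux {G : Type u} {Ω : Type v} [Group G] [MulAction G Ω] [Finite G] [Finite Ω]
    (mv : Move3 G Ω) (h3 : Fix3 G Ω) {a b c : Ω} (hab : a ≠ b) (hac : a ≠ c) (hbc : b ≠ c) :
    Nat.card ↥(stabilizer G a ⊓ stabilizer G b) + 2 = Nat.card Ω := by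
  classical
  have e : Option (Option ↥(stabilizer G a ⊓ stabilizer G b)) ≃ Ω := Equiv.ofBijective
    (fun x => match x with
      | none => a
      | some none => b
      | some (some k) => (k : G) • c) (by
      have hne : ∀ k : ↥(stabilizer G a ⊓ stabilizer G b), (k : G) • c ≠ a := fun k h' =>
        hac (MulAction.injective _ ((k.2.1 : (k : G) • a = a).trans h'.symm))
      have hne' : ∀ k : ↥(stabilizer G a ⊓ stabilizer G b), (k : G) • c ≠ b := fun k h' =>
        hbc (MulAction.injective _ ((k.2.2 : (k : G) • b = b).trans h'.symm))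
      constructor
      · intro x y hxy
        rcases x with _ | _ | k <;> rcases y with _ | _ | l
        · rfl
        · exact absurd hxy hab
        · exact absurd (Eq.symm hxy) (hne l)
        · exact absurd hxy hab.symm
        · rfl
        · exact absurd (Eq.symm hxy) (hne' l)
        · exact absurd hxy (hne k)
        · exact absurd hxy (hne' k)
        · have : k = l := Subtype.ext (eq_of_three h3 hab hac hbc
            ((k.2.1 : (k : G) • a = a).trans (l.2.1 : (l : G) • a = a).symm)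
            ((k.2.2 : (k : G) • b = b).trans (l.2.2 : (l : G) • b = b).symm) hxy)
          rw [this]
      · intro x
        by_cases hx : x = a
        · exact ⟨none, hx.symm⟩
        · by_cases hx' : x = b
          · exact ⟨some none, hx'.symm⟩
          · obtain ⟨g, hg1, hg2, hg3⟩ := mv a b c a b x hab hac hbc hab (Ne.symm hx)
              (Ne.symm hx')
            exact ⟨some (some ⟨g, hg1, hg2⟩), hg3⟩)
  rw [← Nat.card_congr e, Finite.card_option, Finite.card_option]

namespace Config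

variable {G : Type u} {Ω : Type v} [Group G] [MulAction G Ω]
variable {a b c : Ω} {s z u : G} {K : Subgroup G} (C : Config G Ω a b c s z u K)
include C

omit C in
theorem s_smul_ne' {w : G} (hw : w ∈ pairStab G a b) (h : w • a ≠ a) : w • a = b ∧ w • b = a := by
  rcases hw with h1 | h1
  · exact absurd h1.1 h
  · exact h1

theorem s_smul_ne {w : G} (hw : w ∈ pairStab G a b) (h : w • a ≠ a) : w • a = b ∧ w • b = a := by
  have := C.hab
  exact s_smul_ne' hw h

theorem sw_mem {w : G} (hw : w ∈ pairStab G a b) (h : w • a ≠ a) :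
    s * w ∈ stabilizer G a ⊓ stabilizer G b := by
  obtain ⟨h1, h2⟩ := C.s_smul_ne hw h
  refine ⟨?_, ?_⟩
  · show (s * w) • a = a
    rw [mul_smul, h1, C.hsb]
  · show (s * w) • b = b
    rw [mul_smul, h2, C.hsa]

theorem ws_mem {w : G} (hw : w ∈ pairStab G a b) (h : w • a ≠ a) :
    w * s ∈ stabilizer G a ⊓ stabilizer G b := by
  obtain ⟨h1, h2⟩ := C.s_smul_ne hw h
  refine ⟨?_, ?_⟩
  · show (w * s) • a = a
    rw [mul_smul, C.hsa, h2]
  · show (w * s) • b = b
    rw [mul_smul, C.hsb, h1]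

omit C in
theorem H_le_L : stabilizer G a ⊓ stabilizer G b ≤ pairStab G a b := fun _ h => Or.inl ⟨h.1, h.2⟩

omit C in
theorem mem_H_of_fix {w : G} (hw : w ∈ pairStab G a b) (h : w • a = a) (hab : a ≠ b) :
    w ∈ stabilizer G a ⊓ stabilizer G b := by
  rcases hw with h1 | h1
  · exact h1
  · exact absurd (h.symm.trans h1.1) hab

/-- the sign homomorphism of the stabiliser of the pair -/
theorem exists_sgn : ∃ sgn : pairStab G a b →* ℂˣ, (∀ w : pairStab G a b, (w : G) • a = a → sgn w = 1) ∧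
    (∀ w : pairStab G a b, (w : G) • a ≠ a → sgn w = -1) := by
  classical
  refine ⟨{
    toFun := fun w => if (w : G) • a = a then 1 else -1
    map_one' := by rw [if_pos]; exact one_smul _ _
    map_mul' := ?_ }, fun w h => if_pos h, fun w h => if_neg h⟩
  intro w w'
  show (if ((w * w' : pairStab G a b) : G) • a = a then (1 : ℂˣ) else -1) =
    (if (w : G) • a = a then 1 else -1) * (if (w' : G) • a = a then 1 else -1)
  have e : ((w * w' : pairStab G a b) : G) • a = (w : G) • (w' : G) • a := by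
    rw [smul_smul]; rfl
  rw [e]
  by_cases h : (w : G) • a = a
  · by_cases h' : (w' : G) • a = a
    · rw [if_pos h, if_pos h', h', if_pos h, mul_one]
    · obtain ⟨h1, h2⟩ := C.s_smul_ne w'.2 h'
      have h3 : (w : G) • b = b := (mem_H_of_fix w.2 h C.hab).2
      rw [if_pos h, if_neg h', h1, h3, if_neg C.hab.symm, one_mul]
  · obtain ⟨h1, h2⟩ := C.s_smul_ne w.2 h
    by_cases h' : (w' : G) • a = a
    · rw [if_neg h, if_pos h', h', h1, if_neg C.hab.symm, mul_one]
    · obtain ⟨h3, h4⟩ := C.s_smul_ne w'.2 h'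
      rw [if_neg h, if_neg h', h3, h2, if_pos rfl]
      norm_num

/-- the fixed points of `s` -/
theorem fix_s {x : Ω} (hx : s • x = x) : x = c ∨ x = z • c := by
  by_contra h
  push Not at h
  have hzc : s • z • c = z • c := by rw [smul_smul, ← C.hzs, mul_smul, C.hsc]
  have hne : c ≠ z • c := by
    intro h'
    exact C.hz1 (C.h3 z a b c C.hab C.hbc C.hac C.hza C.hzb h'.symm)
  have := C.h3 s x c (z • c) h.1 hne h.2 hx C.hsc hzc
  rw [this] at C
  exact C.hab (by have := C.hsa; rw [one_smul] at this; exact this)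

theorem centralizer_card [Finite G] :
    Nat.card (Subgroup.centralizer ({⟨s, C.s_mem⟩} : Set (pairStab G a b))) = 4 := by
  set sL : pairStab G a b := ⟨s, C.s_mem⟩ with hsL
  set zL : pairStab G a b := ⟨z, C.z_mem⟩ with hzL
  have key : ∀ w : pairStab G a b, (w : G) • a = a → w * sL = sL * w → w = 1 ∨ w = zL := by
    intro w hw hc
    have hwH := mem_H_of_fix w.2 hw C.hab
    have hc' : (w : G) * s = s * w := congrArg Subtype.val hc
    have h1 : s • (w : G) • c = (w : G) • c := by rw [smul_smul, ← hc', mul_smul, C.hsc]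
    rcases C.fix_s h1 with h | h
    · left
      apply Subtype.ext
      exact C.h3 _ a b c C.hab C.hbc C.hac hwH.1 hwH.2 h
    · right
      apply Subtype.ext
      exact eq_of_three C.h3 C.hab C.hac C.hbc ((hwH.1 : (w : G) • a = a).trans C.hza.symm)
        ((hwH.2 : (w : G) • b = b).trans C.hzb.symm) h
  have hss : sL * sL = 1 := Subtype.ext C.hss
  have hzs : zL * sL = sL * zL := Subtype.ext C.hzs
  have hset : ((Subgroup.centralizer ({sL} : Set (pairStab G a b)) : Subgroup _) : Set (pairStab G a b)) =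
      {1, zL, sL, zL * sL} := by
    ext w
    simp only [SetLike.mem_coe, Subgroup.mem_centralizer_iff, Set.mem_singleton_iff, forall_eq,
      Set.mem_insert_iff]
    constructor
    · intro h
      by_cases hw : (w : G) • a = a
      · rcases key w hw h.symm with h1 | h1
        · exact Or.inl h1
        · exact Or.inr (Or.inl h1)
      · obtain ⟨h1, h2⟩ := C.s_smul_ne w.2 hw
        have h3 : ((w * sL : pairStab G a b) : G) • a = a := by
          show ((w : G) * s) • a = a
          rw [mul_smul, C.hsa, h2]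
        have h4 : (w * sL) * sL = sL * (w * sL) := by rw [← mul_assoc, h]
        rcases key _ h3 h4 with h5 | h5
        · right; right; left
          have : w = (w * sL) * sL := by rw [mul_assoc, hss, mul_one]
          rw [this, h5, one_mul]
        · right; right; right
          have : w = (w * sL) * sL := by rw [mul_assoc, hss, mul_one]
          rw [this, h5]
    · rintro (rfl | rfl | rfl | rfl)
      · rw [mul_one, one_mul]
      · exact hzs.symm
      · rfl
      · rw [← mul_assoc, ← hzs]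
  have h1z : (1 : pairStab G a b) ≠ zL := fun h => C.hz1 (congrArg Subtype.val h).symm
  have hfa : ∀ w : pairStab G a b, (w : G) • a = a → w ≠ sL ∧ w ≠ zL * sL := by
    intro w hw
    constructor
    · rintro rfl
      exact C.hab (hw.symm.trans C.hsa)
    · rintro rfl
      have : (z * s) • a = a := hw
      rw [mul_smul, C.hsa, C.hzb] at this
      exact C.hab this.symm
  have h1a := hfa 1 (one_smul _ _)
  have hza := hfa zL C.hza
  have hszs : sL ≠ zL * sL := by
    intro h
    apply h1z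
    exact mul_right_cancel ((one_mul sL).trans h)
  rw [← SetLike.coe_sort_coe, Nat.card_coe_set_eq, hset]
  rw [Set.ncard_insert_of_notMem, Set.ncard_insert_of_notMem, Set.ncard_pair hszs]
  · simp only [Set.mem_insert_iff, Set.mem_singleton_iff, not_or]
    exact hza
  · simp only [Set.mem_insert_iff, Set.mem_singleton_iff, not_or]
    exact ⟨h1z, h1a⟩

theorem card_L [Finite G] :
    Nat.card (pairStab G a b) = 2 * Nat.card ↥(stabilizer G a ⊓ stabilizer G b) := by
  classical
  have e : Bool × ↥(stabilizer G a ⊓ stabilizer G b) ≃ pairStab G a b := Equiv.ofBijective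
    (fun x => if x.1 then ⟨s, C.s_mem⟩ * ⟨x.2, H_le_L x.2.2⟩ else ⟨x.2, H_le_L x.2.2⟩) (by
      constructor
      · rintro ⟨i, x⟩ ⟨j, y⟩ hxy
        have hx : (x : G) • a = a := x.2.1
        have hy : (y : G) • a = a := y.2.1
        cases i <;> cases j
        · have : (x : G) = y := by simpa using congrArg Subtype.val hxy
          rw [Subtype.ext this]
        · exfalso
          have : (x : G) = s * y := by simpa using congrArg Subtype.val hxy
          rw [this, mul_smul, hy, C.hsa] at hx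
          exact C.hab hx.symm
        · exfalso
          have : s * (x : G) = y := by simpa using congrArg Subtype.val hxy
          rw [← this, mul_smul, hx, C.hsa] at hy
          exact C.hab hy.symm
        · have : s * (x : G) = s * y := by simpa using congrArg Subtype.val hxy
          rw [Subtype.ext (mul_left_cancel this)]
      · intro w
        by_cases hw : (w : G) • a = a
        · exact ⟨⟨false, ⟨w, mem_H_of_fix w.2 hw C.hab⟩⟩, rfl⟩
        · refine ⟨⟨true, ⟨s * w, C.sw_mem w.2 hw⟩⟩, ?_⟩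
          apply Subtype.ext
          show s * (s * (w : G)) = w
          rw [← mul_assoc, C.hss, one_mul])
  rw [← Nat.card_congr e, Nat.card_prod, Nat.card_eq_fintype_card (α := Bool), Fintype.card_bool]

theorem card_K [Finite G] [Finite Ω] : Nat.card K + 1 = Nat.card Ω := by
  classical
  have e : Option K ≃ Ω := Equiv.ofBijective
    (fun x => match x with
      | none => a
      | some k => (k : G) • b) (by
      have hne : ∀ k : K, (k : G) • b ≠ a := fun k h' =>
        C.hab (MulAction.injective _ ((C.Ka k.2).trans h'.symm))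
      constructor
      · intro x y hxy
        cases x with
        | none =>
          cases y with
          | none => rfl
          | some k => exact absurd (Eq.symm hxy) (hne k)
        | some k =>
          cases y with
          | none => exact absurd hxy (hne k)
          | some l =>
            obtain ⟨m, _, hm⟩ := C.hreg ((k : G) • b) (hne k)
            rw [hm k rfl, hm l hxy.symm]
      · intro x
        by_cases hx : x = a
        · exact ⟨none, hx.symm⟩
        · obtain ⟨k, hk, _⟩ := C.hreg x hx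
          exact ⟨some k, hk⟩)
  rw [← Nat.card_congr e, Finite.card_option]

theorem card_H [Finite G] [Finite Ω] :
    Nat.card ↥(stabilizer G a ⊓ stabilizer G b) + 2 = Nat.card Ω :=
  card_H_aux C.mv C.h3 C.hab C.hac C.hbc

theorem card_G [Finite G] [Finite Ω] :
    Nat.card G = Nat.card (stabilizer G a) * (Nat.card K + 1) := by
  have : IsPretransitive G Ω := by
    constructor
    intro x y
    by_cases hxy : x = y
    · exact ⟨1, by rw [one_smul, hxy]⟩
    · obtain ⟨g, hg, _⟩ := exists_move C.h2 hxy (Ne.symm hxy)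
      exact ⟨g, hg⟩
  rw [C.card_K, ← MulAction.index_stabilizer_of_transitive G a, Subgroup.card_mul_index]

theorem card_K_prime_pow [Finite G] [Finite Ω] : ∃ p f : ℕ, p.Prime ∧ Nat.card K = p ^ f := by
  classical
  have hu1 : u ≠ 1 := by
    intro h
    have := C.hub
    rw [h, one_smul] at this
    exact C.hbc this
  have hconj : ∀ k ∈ K, k ≠ 1 → ∃ g : G, k = g * u * g⁻¹ := by
    intro k hk hk1
    have hkb : k • b ≠ b := fun h => hk1 (C.K_one hk h)
    have hka : k • b ≠ a := fun h' => C.hab (MulAction.injective _ ((C.Ka hk).trans h'.symm))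
    obtain ⟨g, hg1, hg2, hg3⟩ := C.mv a b c a b (k • b) C.hab C.hac C.hbc C.hab hka.symm hkb.symm
    refine ⟨g, ?_⟩
    have hgu : g * u * g⁻¹ ∈ K := (C.hK _).2 (inK_conj ((C.hK _).1 C.huK) hg1)
    have hgb : g⁻¹ • b = b := by rw [inv_smul_eq_iff, hg2]
    obtain ⟨m, _, hm⟩ := C.hreg (k • b) hka
    have h1 := hm ⟨k, hk⟩ rfl
    have h2 := hm ⟨_, hgu⟩ (by
      show (g * u * g⁻¹) • b = k • b
      rw [mul_smul, hgb, mul_smul, C.hub, hg3])
    exact congrArg Subtype.val (h1.trans h2.symm)
  have hcard1 : Nat.card K ≠ 1 := by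
    intro h
    have h1 := Nat.card_eq_one_iff_unique.1 h
    obtain ⟨h1, -⟩ := h1
    have : (⟨u, C.huK⟩ : K) = 1 := Subsingleton.elim _ _
    exact hu1 (congrArg Subtype.val this)
  obtain ⟨p, hp, hpd⟩ := Nat.exists_prime_and_dvd hcard1
  have := Fact.mk hp
  obtain ⟨x, hx⟩ := exists_prime_orderOf_dvd_card' p hpd
  have hx1 : x ≠ 1 := by
    intro h
    rw [h, orderOf_one] at hx
    exact hp.one_lt.ne hx
  have hup : u ^ p = 1 := by
    obtain ⟨g, hg⟩ := hconj x x.2 (fun h => hx1 (Subtype.ext h))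
    have h1 : (x : G) ^ p = 1 := by
      rw [← hx]
      exact_mod_cast congrArg Subtype.val (pow_orderOf_eq_one x)
    rw [hg, conj_pow] at h1
    have : u ^ p = g⁻¹ * (g * u ^ p * g⁻¹) * g := by group
    rw [this, h1, mul_one, inv_mul_cancel]
  have hpg : IsPGroup p K := by
    intro k
    refine ⟨1, ?_⟩
    by_cases hk : k = 1
    · rw [hk, one_pow]
    · obtain ⟨g, hg⟩ := hconj k k.2 (fun h => hk (Subtype.ext h))
      apply Subtype.ext
      show (k : G) ^ (p ^ 1) = 1
      rw [pow_one, hg, conj_pow, hup, mul_one, mul_inv_cancel]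
  obtain ⟨f, hf⟩ := (IsPGroup.iff_card (p := p) (G := K)).1 hpg
  exact ⟨p, f, hp, hf⟩

theorem z_central : (⟨z, C.z_mem⟩ : pairStab G a b) ∈ Subgroup.center (pairStab G a b) := by
  rw [Subgroup.mem_center_iff]
  intro w
  have h : (w : G) * z * (w : G)⁻¹ = z := by
    apply C.zuniq
    · have : (w : G) * z * (w : G)⁻¹ * ((w : G) * z * (w : G)⁻¹) = w * (z * z) * (w : G)⁻¹ := by group
      rw [this, C.hzz, mul_one, mul_inv_cancel]
    · intro h
      apply C.hz1
      have : z = (w : G)⁻¹ * ((w : G) * z * (w : G)⁻¹) * w := by group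
      rw [this, h, mul_one, inv_mul_cancel]
    · rcases w.2 with ⟨h1, h2⟩ | ⟨h1, h2⟩
      · rw [mul_smul, mul_smul, inv_smul_eq_iff.2 h1.symm, C.hza, h1]
      · rw [mul_smul, mul_smul, inv_smul_eq_iff.2 h2.symm, C.hzb, h2]
    · rcases w.2 with ⟨h1, h2⟩ | ⟨h1, h2⟩
      · rw [mul_smul, mul_smul, inv_smul_eq_iff.2 h2.symm, C.hzb, h2]
      · rw [mul_smul, mul_smul, inv_smul_eq_iff.2 h1.symm, C.hza, h1]
  apply Subtype.ext
  show (w : G) * z = z * w
  calc (w : G) * z = ((w : G) * z * (w : G)⁻¹) * w := by group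
    _ = z * w := by rw [h]

theorem finrank_dvd [Finite G] {n : ℕ} (ρ' : Representation ℂ (pairStab G a b) (Fin n → ℂ))
    [ρ'.IsIrreducible] : n ∣ Nat.card ↥(stabilizer G a ⊓ stabilizer G b) := by
  have h1 := CharDegrees.finrank_dvd_index_center ρ'
  rw [finrank_fin_fun] at h1
  have h2 := (Subgroup.center (pairStab G a b)).card_mul_index
  rw [C.card_L] at h2
  have h3 : 2 ∣ Nat.card (Subgroup.center (pairStab G a b)) := by
    have h4 : orderOf (⟨⟨z, C.z_mem⟩, C.z_central⟩ : Subgroup.center (pairStab G a b)) = 2 := by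
      apply orderOf_eq_prime
      · apply Subtype.ext
        apply Subtype.ext
        show z ^ 2 = 1
        rw [sq, C.hzz]
      · intro h
        exact C.hz1 (Subtype.ext_iff.1 (Subtype.ext_iff.1 h))
    rw [← h4]
    exact orderOf_dvd_natCard _
  obtain ⟨t, ht⟩ := h3
  rw [ht, mul_assoc] at h2
  have h5 : t * (Subgroup.center (pairStab G a b)).index =
      Nat.card ↥(stabilizer G a ⊓ stabilizer G b) := Nat.eq_of_mul_eq_mul_left (by norm_num) h2
  rw [← h5]
  exact Dvd.dvd.mul_left h1 t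

/-- the matrix form of a representation -/
noncomputable def mat {L : Type*} [Group L] {n : ℕ} (ρ' : Representation ℂ L (Fin n → ℂ)) :
    L →* Matrix (Fin n) (Fin n) ℂ :=
  ((LinearMap.toMatrixAlgEquiv' : ((Fin n → ℂ) →ₗ[ℂ] (Fin n → ℂ)) ≃ₐ[ℂ] _).toAlgHom.toMonoidHom).comp ρ'

theorem degree_one [Finite G] [Finite Ω] {n : ℕ}
    (ρ' : Representation ℂ (pairStab G a b) (Fin n → ℂ)) [ρ'.IsIrreducible]
    (hχ : ρ'.character ⟨s, C.s_mem⟩ ^ 2 = 1) : n = 1 := by
  classical
  have := Fintype.ofFinite G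
  set H := stabilizer G a ⊓ stabilizer G b with hH
  set sL : pairStab G a b := ⟨s, C.s_mem⟩ with hsL
  set zL : pairStab G a b := ⟨z, C.z_mem⟩ with hzL
  have hnpos : 0 < n := by
    have := CharCentral.finrank_pos_of_irreducible ρ'
    rwa [finrank_fin_fun] at this
  have hn0 : (n : ℂ) ≠ 0 := by exact_mod_cast hnpos.ne'
  have hzc := C.z_central
  rw [Subgroup.mem_center_iff] at hzc
  have hzs : zL * sL = sL * zL := Subtype.ext C.hzs
  have hss : sL * sL = 1 := Subtype.ext C.hss
  -- z acts as a scalar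
  obtain ⟨ω, hω⟩ := CharCentral.exists_scalar_of_commute ρ' (ρ' zL) (by
    intro w v
    rw [← Module.End.mul_apply, ← Module.End.mul_apply, ← map_mul, ← map_mul, hzc w])
  have hω2 : ω ^ 2 = 1 := by
    have h1 : ρ' zL * ρ' zL = 1 := by
      rw [← map_mul]
      have : zL * zL = 1 := Subtype.ext C.hzz
      rw [this, map_one]
    rw [hω] at h1
    have h2 := congrArg (fun f => f (fun _ => 1) ⟨0, hnpos⟩) h1
    simp at h2
    rw [sq]; exact h2
  have hχzs : ρ'.character (zL * sL) ^ 2 = 1 := by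
    have h1 : ρ'.character (zL * sL) = ω * ρ'.character sL := by
      show LinearMap.trace ℂ _ (ρ' (zL * sL)) = ω * LinearMap.trace ℂ _ (ρ' sL)
      rw [map_mul, hω]
      have : (ω • (LinearMap.id : (Fin n → ℂ) →ₗ[ℂ] (Fin n → ℂ))) * ρ' sL = ω • ρ' sL := by
        ext v; rfl
      rw [this, map_smul, smul_eq_mul]
    rw [h1, mul_pow, hω2, hχ, one_mul]
  -- the averaged operator
  let f : (Fin n → ℂ) →ₗ[ℂ] (Fin n → ℂ) :=
    ∑ η : H, ρ' (⟨η, H_le_L η.2⟩ * (zL * sL) * (⟨η, H_le_L η.2⟩ : pairStab G a b)⁻¹)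
  have hfc : ∀ w : pairStab G a b, ρ' w * f * ρ' w⁻¹ = f := by
    intro w
    have h1 : ρ' w * f * ρ' w⁻¹ = ∑ η : H, ρ' ((w * ⟨η, H_le_L η.2⟩) * (zL * sL) *
        (w * ⟨η, H_le_L η.2⟩)⁻¹) := by
      show ρ' w * (∑ η : H, ρ' (⟨η, H_le_L η.2⟩ * (zL * sL) *
        (⟨η, H_le_L η.2⟩ : pairStab G a b)⁻¹)) * ρ' w⁻¹ = _
      rw [Finset.mul_sum, Finset.sum_mul]
      apply Finset.sum_congr rfl
      intro η _
      rw [← map_mul, ← map_mul]
      congr 1
      group
    rw [h1]
    by_cases hw : (w : G) • a = a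
    · have hwH : (w : G) ∈ H := mem_H_of_fix w.2 hw C.hab
      exact Equiv.sum_comp (Equiv.mulLeft (⟨w, hwH⟩ : H)) (fun η : H =>
        ρ' (⟨η, H_le_L η.2⟩ * (zL * sL) * (⟨η, H_le_L η.2⟩ : pairStab G a b)⁻¹))
    · have hwsH : (w : G) * s ∈ H := C.ws_mem w.2 hw
      have hconj : ∀ η : H, s * (η : G) * s ∈ H := by
        intro η
        have h1 : (η : G) • a = a := η.2.1
        have h2 : (η : G) • b = b := η.2.2
        refine ⟨?_, ?_⟩
        · show (s * (η : G) * s) • a = a
          rw [mul_smul, mul_smul, C.hsa, h2, C.hsb]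
        · show (s * (η : G) * s) • b = b
          rw [mul_smul, mul_smul, C.hsb, h1, C.hsa]
      let φ : H ≃ H := {
        toFun := fun η => ⟨s * (η : G) * s, hconj η⟩
        invFun := fun η => ⟨s * (η : G) * s, hconj η⟩
        left_inv := fun η => Subtype.ext (by
          show s * (s * (η : G) * s) * s = η
          calc s * (s * (η : G) * s) * s = (s * s) * η * (s * s) := by group
            _ = η := by rw [C.hss, one_mul, mul_one])
        right_inv := fun η => Subtype.ext (by
          show s * (s * (η : G) * s) * s = η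
          calc s * (s * (η : G) * s) * s = (s * s) * η * (s * s) := by group
            _ = η := by rw [C.hss, one_mul, mul_one]) }
      have h2 := Equiv.sum_comp (φ.trans (Equiv.mulLeft (⟨_, hwsH⟩ : H))) (fun η : H =>
        ρ' (⟨η, H_le_L η.2⟩ * (zL * sL) * (⟨η, H_le_L η.2⟩ : pairStab G a b)⁻¹))
      refine Eq.trans ?_ h2
      apply Finset.sum_congr rfl
      intro η _
      congr 1
      have e1 : (⟨((φ.trans (Equiv.mulLeft (⟨_, hwsH⟩ : H))) η : H), H_le_L
          ((φ.trans (Equiv.mulLeft (⟨_, hwsH⟩ : H))) η).2⟩ : pairStab G a b) =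
          (w * ⟨η, H_le_L η.2⟩) * sL := by
        apply Subtype.ext
        show (w : G) * s * (s * (η : G) * s) = w * η * s
        calc (w : G) * s * (s * (η : G) * s) = w * (s * s) * η * s := by group
          _ = w * η * s := by rw [C.hss, mul_one]
      rw [e1]
      have e2 : sL⁻¹ = sL := inv_eq_of_mul_eq_one_right hss
      have e3 : sL * (zL * sL) * sL⁻¹ = zL * sL := by
        rw [e2]
        calc sL * (zL * sL) * sL = (sL * zL) * (sL * sL) := by group
          _ = zL * sL := by rw [hss, mul_one, hzs]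
      calc (w * ⟨η, H_le_L η.2⟩) * (zL * sL) * (w * ⟨η, H_le_L η.2⟩)⁻¹ =
          (w * ⟨η, H_le_L η.2⟩) * (sL * (zL * sL) * sL⁻¹) * (w * ⟨η, H_le_L η.2⟩)⁻¹ := by rw [e3]
        _ = _ := by group
  obtain ⟨m, hm⟩ := CharCentral.exists_scalar_of_commute ρ' f (by
    intro w v
    have h1 : f * ρ' w = ρ' w * f := by
      have h2 := hfc w
      have h3 : ρ' w⁻¹ * ρ' w = 1 := by rw [← map_mul, inv_mul_cancel, map_one]
      calc f * ρ' w = (ρ' w * f * ρ' w⁻¹) * ρ' w := by rw [h2]
        _ = ρ' w * f := by rw [mul_assoc, h3, mul_one]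
    exact LinearMap.congr_fun h1 v)
  have htr : m * n = (Nat.card H : ℂ) * ρ'.character (zL * sL) := by
    have h1 : LinearMap.trace ℂ _ f = m * n := by
      rw [hm, map_smul, LinearMap.trace_id, finrank_fin_fun, smul_eq_mul]
    rw [← h1]
    show LinearMap.trace ℂ _ (∑ η : H, ρ' (⟨η, H_le_L η.2⟩ * (zL * sL) *
      (⟨η, H_le_L η.2⟩ : pairStab G a b)⁻¹)) = _
    rw [map_sum]
    have h2 : ∀ η : H, LinearMap.trace ℂ _ (ρ' (⟨η, H_le_L η.2⟩ * (zL * sL) *
      (⟨η, H_le_L η.2⟩ : pairStab G a b)⁻¹)) = ρ'.character (zL * sL) := by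
      intro η
      exact ρ'.char_conj _ _
    rw [Finset.sum_congr rfl (fun η _ => h2 η), Finset.sum_const, Finset.card_univ, nsmul_eq_mul,
      Nat.card_eq_fintype_card]
  obtain ⟨k, hk⟩ := C.finrank_dvd ρ'
  have hkpos : 0 < k := by
    rcases Nat.eq_zero_or_pos k with h | h
    · rw [h, mul_zero] at hk
      have : 0 < Nat.card H := Nat.card_pos
      rw [hk] at this
      exact absurd this (lt_irrefl 0)
    · exact h
  -- m = ± k
  have hm2 : m = k ∨ m = -k := by
    have h1 : m * n = n * k * ρ'.character (zL * sL) := by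
      rw [htr, hk]; push_cast; ring
    have h2 : m = k * ρ'.character (zL * sL) := by
      apply mul_right_cancel₀ hn0
      rw [h1]; ring
    have h6 : (ρ'.character (zL * sL) - 1) * (ρ'.character (zL * sL) + 1) = 0 := by
      linear_combination hχzs
    rcases mul_eq_zero.1 h6 with h | h
    · left
      rw [h2, sub_eq_zero.1 h, mul_one]
    · right
      rw [h2, eq_neg_of_add_eq_zero_left h]; ring
  obtain ⟨prt, hp⟩ := C.exists_proj
  let ρ := mat ρ'
  have hM : ∑ η : ↥(stabilizer G a ⊓ stabilizer G b), ρ (⟨η, Or.inl η.2⟩ * (⟨z, C.z_mem⟩ *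
      ⟨s, C.s_mem⟩) * (⟨η, Or.inl η.2⟩ : pairStab G a b)⁻¹) = m • 1 := by
    have h1 := congrArg (LinearMap.toMatrixAlgEquiv' : ((Fin n → ℂ) →ₗ[ℂ] (Fin n → ℂ)) ≃ₐ[ℂ] _) hm
    rw [map_sum, map_smul] at h1
    rw [show (LinearMap.id : (Fin n → ℂ) →ₗ[ℂ] (Fin n → ℂ)) = 1 from rfl, map_one] at h1
    exact h1
  have hq : Nat.card G = Nat.card (stabilizer G a) * (Nat.card K + 1) := C.card_G
  obtain ⟨p, e, hp', he⟩ := C.card_K_prime_pow
  have hsB : ((⟨s, C.s_mem⟩ : pairStab G a b) : G) ∉ stabilizer G a := by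
    intro h
    have : s • a = a := h
    exact C.hab (this.symm.trans C.hsa)
  have hLL : ∀ w : pairStab G a b, (w : G) ∉ stabilizer G a →
      (((⟨s, C.s_mem⟩ : pairStab G a b)⁻¹ * w : pairStab G a b) : G) ∈ stabilizer G a := by
    intro w hw
    have hw' : (w : G) • a ≠ a := hw
    have h1 := C.sw_mem w.2 hw'
    show s⁻¹ * (w : G) ∈ stabilizer G a
    rw [C.sinv]
    exact h1.1
  have hsq : ∀ m' : ℤ, (m' : ℂ) = m → IsSquare (m' ^ 2 + 4 * (Nat.card K : ℤ)) := by
    intro m' hm'
    have hKpos : 0 < Nat.card K := Nat.card_pos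
    refine exists_sq hnpos (Pf (stabilizer G a) prt ρ) (Rf (stabilizer G a) prt ρ)
      (Nat.card (stabilizer G a)) (Nat.card K) m' Nat.card_pos hKpos
      (conv_RR hp ρ) (conv_RP hp ρ) (conv_PR hp ρ) ?_ ?_ ?_ ?_ hq
    · intro g
      have := conv_PP hp ρ hsB hLL (Nat.card K) hq m (C.hs hp ρ m hM) g
      rw [hm']
      exact this
    · rw [Rf_mem hp ρ (Subgroup.one_mem _)]
      have : prt 1 = 1 := hp.eq 1 1 K.one_mem 1 1 K.one_mem (by simp)
      rw [this, map_one, Matrix.trace_one, Fintype.card_fin]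
    · rw [Pf_mem ρ (Subgroup.one_mem _), Matrix.trace_zero]
    · rintro rfl
      rw [Int.cast_zero] at hm'
      have hk0 : (k : ℂ) ≠ 0 := by exact_mod_cast hkpos.ne'
      rcases hm2 with h | h
      · exact hk0 (h.symm.trans hm'.symm)
      · rw [← hm'] at h
        exact hk0 (neg_eq_zero.1 h.symm)
  have hsq' : IsSquare ((k : ℤ) ^ 2 + 4 * (Nat.card K : ℤ)) := by
    rcases hm2 with h | h
    · exact hsq k (by rw [h]; push_cast; rfl)
    · have := hsq (-(k : ℤ)) (by rw [h]; push_cast; rfl)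
      rwa [neg_sq] at this
  have hcH : Nat.card H + 2 = Nat.card Ω := C.card_H
  have hcK : Nat.card K + 1 = Nat.card Ω := C.card_K
  have hHpos : 0 < Nat.card H := Nat.card_pos
  have hkq : (k : ℤ) = (Nat.card K : ℤ) - 1 := by
    apply eq_of_isSquare hp' he (by exact_mod_cast hkpos) _ _ hsq'
    · refine ⟨n, ?_⟩
      have h1 : Nat.card H + 1 = Nat.card K := by omega
      have h2 : (Nat.card H : ℤ) = n * k := by exact_mod_cast hk
      have h3 : (Nat.card H : ℤ) + 1 = Nat.card K := by exact_mod_cast h1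
      linarith
    · omega
  have h1 : Nat.card H + 1 = Nat.card K := by omega
  have h2 : k = Nat.card H := by omega
  rw [h2] at hk
  have h3 : n * Nat.card H = 1 * Nat.card H := by rw [one_mul]; exact hk.symm
  exact Nat.eq_of_mul_eq_mul_right hHpos h3

/-- there is a linear character of the stabiliser of the pair which is trivial at `s` and
nontrivial on `H` -/
theorem exists_lam [Finite G] [Finite Ω] : ∃ lam : pairStab G a b →* ℂˣ, lam ⟨s, C.s_mem⟩ = 1 ∧
    ∃ h : ↥(stabilizer G a ⊓ stabilizer G b), lam ⟨h, H_le_L h.2⟩ ≠ 1 := by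
  classical
  obtain ⟨sgn, hs1, hs2⟩ := C.exists_sgn
  have hsa' : s • a ≠ a := fun h => C.hab (h.symm.trans C.hsa)
  have hsgns : sgn ⟨s, C.s_mem⟩ = -1 := hs2 _ hsa'
  have hss : (⟨s, C.s_mem⟩ : pairStab G a b) * ⟨s, C.s_mem⟩ = 1 := Subtype.ext C.hss
  obtain ⟨χ, hχ, hχs, hχ1, hχ2⟩ := exists_chi sgn (by
    intro g
    by_cases hg : (g : G) • a = a
    · rw [hs1 g hg]; simp
    · rw [hs2 g hg]; simp) hss (by rw [hsgns]; simp) C.centralizer_card
  have hch := hχ.isCharacter
  obtain ⟨n, ρ', hirr, hchar⟩ := hχ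
  have hn := C.degree_one ρ' (by rw [hchar]; exact hχs)
  have hχone : χ 1 = 1 := by
    rw [← hchar, Representation.char_one, finrank_fin_fun, hn, Nat.cast_one]
  obtain ⟨f, hf⟩ := hch.exists_hom hχone
  have hfs : f ⟨s, C.s_mem⟩ = 1 ∨ f ⟨s, C.s_mem⟩ = -1 := by
    rw [hf] at hχs
    have h6 : ((f ⟨s, C.s_mem⟩ : ℂ) - 1) * ((f ⟨s, C.s_mem⟩ : ℂ) + 1) = 0 := by
      linear_combination hχs
    rcases mul_eq_zero.1 h6 with h | h
    · left
      apply Units.ext
      rw [Units.val_one]
      exact sub_eq_zero.1 h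
    · right
      apply Units.ext
      rw [Units.val_neg, Units.val_one]
      exact eq_neg_of_add_eq_zero_left h
  have hnon : ∀ lam : pairStab G a b →* ℂˣ, lam ⟨s, C.s_mem⟩ = 1 → lam ≠ 1 →
      ∃ h : ↥(stabilizer G a ⊓ stabilizer G b), lam ⟨h, H_le_L h.2⟩ ≠ 1 := by
    intro lam hl hne
    by_contra hcon
    push Not at hcon
    apply hne
    ext w
    by_cases hw : (w : G) • a = a
    · rw [MonoidHom.one_apply, Units.val_one, Units.val_eq_one]
      exact hcon ⟨w, mem_H_of_fix w.2 hw C.hab⟩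
    · have h1 := hcon ⟨s * w, C.sw_mem w.2 hw⟩
      have h2 : (⟨s * w, H_le_L (C.sw_mem w.2 hw)⟩ : pairStab G a b) = ⟨s, C.s_mem⟩ * w := rfl
      rw [h2, map_mul, hl, one_mul] at h1
      rw [MonoidHom.one_apply, Units.val_one, Units.val_eq_one]
      exact h1
  rcases hfs with h | h
  · refine ⟨f, h, hnon f h ?_⟩
    rintro rfl
    apply hχ1
    funext g
    rw [hf]; simp
  · refine ⟨f * sgn, ?_, hnon (f * sgn) ?_ ?_⟩
    · rw [MonoidHom.mul_apply, h, hsgns]; norm_num
    · rw [MonoidHom.mul_apply, h, hsgns]; norm_num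
    · intro h'
      apply hχ2
      funext g
      rw [hf]
      have h1 : f g * sgn g = 1 := DFunLike.congr_fun h' g
      have h2 : sgn g * sgn g = 1 := by
        by_cases hg : (g : G) • a = a
        · rw [hs1 g hg, one_mul]
        · rw [hs2 g hg]; norm_num
      have h3 : f g = sgn g := mul_right_cancel (h1.trans h2.symm)
      rw [h3]

/-- the normal subgroup of index two attached to a linear character -/
theorem main_aux [Finite G] (lam : pairStab G a b →* ℂˣ) (hls : lam ⟨s, C.s_mem⟩ = 1)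
    (hx0 : ∃ h : ↥(stabilizer G a ⊓ stabilizer G b), lam ⟨h, H_le_L h.2⟩ ≠ 1) :
    ∃ N : Subgroup G, N ≤ stabilizer G a ⊓ stabilizer G b ∧
    (N.subgroupOf (stabilizer G a ⊓ stabilizer G b)).Normal ∧
    N.relIndex (stabilizer G a ⊓ stabilizer G b) = 2 ∧ (∀ n ∈ N, s * n * s⁻¹ ∈ N) ∧
    (∀ x ∈ stabilizer G a ⊓ stabilizer G b, s * x * s * x⁻¹ ∈ N) ∧
    (∀ (x : G) (hx : x ∈ stabilizer G a ⊓ stabilizer G b), x ∈ N ↔ lam ⟨x, H_le_L hx⟩ = 1) := by
  classical
  set H := stabilizer G a ⊓ stabilizer G b with hH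
  obtain ⟨h0, hh0⟩ := hx0
  have hHL : H ≤ pairStab G a b := H_le_L
  let N : Subgroup G := {
    carrier := {g | ∃ hg : g ∈ H, lam ⟨g, hHL hg⟩ = 1}
    one_mem' := ⟨H.one_mem, by
      have : (⟨1, hHL H.one_mem⟩ : pairStab G a b) = 1 := rfl
      rw [this, map_one]⟩
    mul_mem' := by
      rintro x y ⟨hx, hx1⟩ ⟨hy, hy1⟩
      refine ⟨H.mul_mem hx hy, ?_⟩
      have : (⟨x * y, hHL (H.mul_mem hx hy)⟩ : pairStab G a b) = ⟨x, hHL hx⟩ * ⟨y, hHL hy⟩ := rfl
      rw [this, map_mul, hx1, hy1, one_mul]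
    inv_mem' := by
      rintro x ⟨hx, hx1⟩
      refine ⟨H.inv_mem hx, ?_⟩
      have : (⟨x⁻¹, hHL (H.inv_mem hx)⟩ : pairStab G a b) = ⟨x, hHL hx⟩⁻¹ := rfl
      rw [this, map_inv, hx1, inv_one] }
  have hNmem : ∀ (x : G) (hx : x ∈ H), x ∈ N ↔ lam ⟨x, hHL hx⟩ = 1 := fun x hx =>
    ⟨fun ⟨_, h⟩ => h, fun h => ⟨hx, h⟩⟩
  have hNH : N ≤ H := fun x hx => hx.1
  have hsH : ∀ x ∈ H, s * x * s ∈ H := by
    intro x hx
    have h1 : x • a = a := hx.1
    have h2 : x • b = b := hx.2
    refine ⟨?_, ?_⟩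
    · show (s * x * s) • a = a
      rw [mul_smul, mul_smul, C.hsa, h2, C.hsb]
    · show (s * x * s) • b = b
      rw [mul_smul, mul_smul, C.hsb, h1, C.hsa]
  have hlsx : ∀ (x : G) (hx : x ∈ H), lam ⟨s * x * s, hHL (hsH x hx)⟩ = lam ⟨x, hHL hx⟩ := by
    intro x hx
    have : (⟨s * x * s, hHL (hsH x hx)⟩ : pairStab G a b) = ⟨s, C.s_mem⟩ * ⟨x, hHL hx⟩ *
      ⟨s, C.s_mem⟩ := rfl
    rw [this, map_mul, map_mul, hls, one_mul, mul_one]
  have hX : ∀ x ∈ H, s * x * s * x⁻¹ ∈ N := by
    intro x hx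
    have h1 : s * x * s * x⁻¹ ∈ H := H.mul_mem (hsH x hx) (H.inv_mem hx)
    rw [hNmem _ h1]
    have : (⟨s * x * s * x⁻¹, hHL h1⟩ : pairStab G a b) = ⟨s * x * s, hHL (hsH x hx)⟩ *
      ⟨x, hHL hx⟩⁻¹ := rfl
    rw [this, map_mul, hlsx x hx, map_inv, mul_inv_cancel]
  refine ⟨N, hNH, ?_, ?_, ?_, hX, hNmem⟩
  · constructor
    intro n hn g
    rw [Subgroup.mem_subgroupOf] at hn ⊢
    have hnH := n.2
    rw [hNmem _ (g * n * g⁻¹ : H).2]
    rw [hNmem _ n.2] at hn
    have : (⟨((g * n * g⁻¹ : H) : G), hHL (g * n * g⁻¹ : H).2⟩ : pairStab G a b) =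
      ⟨g, hHL g.2⟩ * ⟨n, hHL n.2⟩ * ⟨g, hHL g.2⟩⁻¹ := rfl
    rw [this, map_mul, map_mul, hn, mul_one, map_inv, mul_inv_cancel]
  · show N.relIndex H = 2
    have hne1 : N.relIndex H ≠ 1 := by
      intro h
      rw [Subgroup.relIndex_eq_one] at h
      exact hh0 ((hNmem _ h0.2).1 (h h0.2))
    have hmul : N.relIndex H * Nat.card N = Nat.card H := by
      rw [Subgroup.relIndex, ← Nat.card_congr (Subgroup.subgroupOfEquivOfLe hNH).toEquiv,
        Subgroup.index_mul_card]
    have hle : Nat.card H ≤ 2 * Nat.card N := by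
      have := Fintype.ofFinite G
      let φ : H → N := fun x => ⟨s * x * s * (x : G)⁻¹, hX x x.2⟩
      have h1 := Finset.card_le_mul_card_image (f := φ) Finset.univ 2 (by
        intro y _
        by_cases hex : ∃ x0 : H, φ x0 = y
        · obtain ⟨x0, hx0⟩ := hex
          have hzH : z ∈ H := ⟨C.hza, C.hzb⟩
          have hsub : Finset.univ.filter (fun x => φ x = y) ⊆ {x0, x0 * ⟨z, hzH⟩} := by
            intro x hx
            rw [Finset.mem_filter] at hx
            have h2 : φ x = φ x0 := hx.2.trans hx0.symm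
            have h3 : s * (x : G) * s * (x : G)⁻¹ = s * (x0 : G) * s * (x0 : G)⁻¹ :=
              congrArg Subtype.val h2
            have h4 : (x : G) * s * (x : G)⁻¹ = x0 * s * (x0 : G)⁻¹ := by
              have h5 : s * ((x : G) * s * (x : G)⁻¹) = s * (x0 * s * (x0 : G)⁻¹) := by
                rw [← mul_assoc, ← mul_assoc, ← mul_assoc, ← mul_assoc]; exact h3
              exact mul_left_cancel h5
            set w : G := (x0 : G)⁻¹ * x with hw
            have hwH : w ∈ H := H.mul_mem (H.inv_mem x0.2) x.2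
            have hws : s * w = w * s := by
              rw [hw]
              calc s * ((x0 : G)⁻¹ * x) = (x0 : G)⁻¹ * (x0 * s * (x0 : G)⁻¹) * x := by group
                _ = (x0 : G)⁻¹ * (x * s * (x : G)⁻¹) * x := by rw [h4]
                _ = (x0 : G)⁻¹ * x * s := by group
            have hfix : s • w • c = w • c := by rw [smul_smul, hws, mul_smul, C.hsc]
            have hwa : w • a = a := hwH.1
            have hwb : w • b = b := hwH.2
            rw [Finset.mem_insert, Finset.mem_singleton]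
            rcases C.fix_s hfix with h5 | h5
            · left
              have : w = 1 := C.h3 w a b c C.hab C.hbc C.hac hwa hwb h5
              apply Subtype.ext
              have h6 : (x : G) = x0 * w := by rw [hw]; group
              rw [h6, this, mul_one]
            · right
              have : w = z := eq_of_three C.h3 C.hab C.hac C.hbc (hwa.trans C.hza.symm)
                (hwb.trans C.hzb.symm) h5
              apply Subtype.ext
              have h6 : (x : G) = x0 * w := by rw [hw]; group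
              rw [h6, this]; rfl
          exact (Finset.card_le_card hsub).trans (Finset.card_le_two)
        · have : Finset.univ.filter (fun x => φ x = y) = ∅ := by
            rw [Finset.filter_eq_empty_iff]
            intro x _ hx
            exact hex ⟨x, hx⟩
          rw [this]; simp)
      rw [Finset.card_univ] at h1
      have h2 : (Finset.univ.image φ).card ≤ Nat.card N := by
        rw [Nat.card_eq_fintype_card]; exact Finset.card_le_univ _
      rw [Nat.card_eq_fintype_card (α := H)]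
      omega
    have hNpos : 0 < Nat.card N := Nat.card_pos
    have hne0 : N.relIndex H ≠ 0 := by
      intro h
      rw [h, zero_mul] at hmul
      have : 0 < Nat.card H := Nat.card_pos
      omega
    have h2 : N.relIndex H ≤ 2 := by
      rw [← hmul] at hle
      exact Nat.le_of_mul_le_mul_right hle hNpos
    omega
  · intro n hn
    rw [C.sinv]
    have hnH := hNH hn
    rw [hNmem _ (hsH n hnH), hlsx n hnH]
    exact (hNmem n hnH).1 hn

/-- the normal subgroup of index two -/
theorem main [Finite G] [Finite Ω] : ∃ N : Subgroup G, N ≤ stabilizer G a ⊓ stabilizer G b ∧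
    (N.subgroupOf (stabilizer G a ⊓ stabilizer G b)).Normal ∧
    N.relIndex (stabilizer G a ⊓ stabilizer G b) = 2 ∧ (∀ n ∈ N, s * n * s⁻¹ ∈ N) ∧
    (∀ x ∈ stabilizer G a ⊓ stabilizer G b, s * x * s * x⁻¹ ∈ N) := by
  obtain ⟨lam, hls, hx0⟩ := C.exists_lam
  obtain ⟨N, h1, h2, h3, h4, h5, -⟩ := C.main_aux lam hls hx0
  exact ⟨N, h1, h2, h3, h4, h5⟩

/-- the values on `H` are signs -/
theorem lam_sq [Finite G] (lam : pairStab G a b →* ℂˣ) (hls : lam ⟨s, C.s_mem⟩ = 1)
    (hx0 : ∃ h : ↥(stabilizer G a ⊓ stabilizer G b), lam ⟨h, H_le_L h.2⟩ ≠ 1)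
    (x : G) (hx : x ∈ stabilizer G a ⊓ stabilizer G b) : lam ⟨x, H_le_L hx⟩ ^ 2 = 1 := by
  obtain ⟨N, h1, h2, h3, h4, h5, h6⟩ := C.main_aux lam hls hx0
  set H := stabilizer G a ⊓ stabilizer G b with hH
  have h7 : (⟨x, hx⟩ : H) * ⟨x, hx⟩ ∈ N.subgroupOf H :=
    Subgroup.mul_self_mem_of_index_two h3 _
  rw [Subgroup.mem_subgroupOf] at h7
  have h8 := (h6 (x * x) (H.mul_mem hx hx)).1 h7
  have h9 : (⟨x * x, H_le_L (H.mul_mem hx hx)⟩ : pairStab G a b) = ⟨x, H_le_L hx⟩ * ⟨x, H_le_L hx⟩ := rfl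
  rw [h9, map_mul] at h8
  rw [sq, h8]

end Config

end Cfsg.Agent.Lib.Sharp3
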