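import Mathlib
import Cfsg.Agent.Lib.Sharp3Main

/-!
Sharply triply transitive groups of even degree have a homomorphism onto a group of order two
(helper13).
-/

set_option autoImplicit false

namespace Cfsg.Agent.Lib.Sharp3

open MulAction ZassBasic HeckeConv HeckeAlg Module

universe u v

theorem eq_one_of_norm {z : ℂ} (h1 : ‖z‖ = 1) (h2 : z.re = 1) : z = 1 := by
  have h3 : z.re ^ 2 + z.im ^ 2 = 1 := by
    have h4 := Complex.sq_norm z
    rw [h1, Complex.normSq_apply] at h4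
    nlinarith
  rw [h2] at h3
  have h4 : z.im ^ 2 = 0 := by linarith
  have h5 : z.im = 0 := by
    rcases pow_eq_zero_iff (two_ne_zero) |>.1 h4 with h
    exact h
  apply Complex.ext
  · rw [h2, Complex.one_re]
  · rw [h5, Complex.one_im]

theorem all_eq_one {ι : Type*} [Fintype ι] (t : ι → ℂ) (h1 : ∀ i, ‖t i‖ = 1)
    (h : ∑ i, t i = (Fintype.card ι : ℂ)) (i : ι) : t i = 1 := by
  apply eq_one_of_norm (h1 i)
  have h2 : ∑ i, (t i).re = ∑ i : ι, (1 : ℝ) := by
    have := congrArg Complex.re h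
    rw [Complex.re_sum, Complex.natCast_re] at this
    rw [this]; simp
  have h3 : ∀ i ∈ Finset.univ, (t i).re ≤ 1 := by
    intro i _
    rw [← h1 i]; exact Complex.re_le_norm _
  exact (Finset.sum_eq_sum_iff_of_le h3).1 h2 i (Finset.mem_univ _)

namespace Config

variable {G : Type u} {Ω : Type v} [Group G] [MulAction G Ω]
variable {a b c : Ω} {s z u : G} {K : Subgroup G} (C : Config G Ω a b c s z u K)
include C

theorem exists_hom [Finite G] [Finite Ω] : ∃ Lam : G →* ℂˣ, (∀ k ∈ K, Lam k = 1) ∧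
    (∀ h ∈ stabilizer G a ⊓ stabilizer G b, Lam h ^ 2 = 1) ∧
    (∃ h ∈ stabilizer G a ⊓ stabilizer G b, Lam h ≠ 1) ∧ Lam s ^ 2 = 1 := by
  classical
  have := Fintype.ofFinite G
  set H := stabilizer G a ⊓ stabilizer G b with hH
  obtain ⟨lam, hls, hx0⟩ : ∃ lam : pairStab G a b →* ℂˣ, lam ⟨s, C.s_mem⟩ = 1 ∧
    ∃ h : H, lam ⟨h, H_le_L h.2⟩ ≠ 1 := C.exists_lam
  have hlsq := C.lam_sq lam hls hx0
  obtain ⟨h0, hh0⟩ := hx0
  have hnorm : ∀ w : pairStab G a b, ‖(lam w : ℂ)‖ = 1 := by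
    intro w
    have h1 : (lam w : ℂ) ^ orderOf w = 1 := by
      rw [← Units.val_pow_eq_pow_val, ← map_pow, pow_orderOf_eq_one, map_one, Units.val_one]
    exact Complex.norm_eq_one_of_pow_eq_one h1 (orderOf_pos w).ne'
  obtain ⟨prt, hp⟩ := C.exists_proj
  set sL : pairStab G a b := ⟨s, C.s_mem⟩ with hsL
  set zL : pairStab G a b := ⟨z, C.z_mem⟩ with hzL
  let ρ : pairStab G a b →* Matrix (Fin 1) (Fin 1) ℂ :=
    ((Matrix.scalar (Fin 1)).toMonoidHom).comp ((Units.coeHom ℂ).comp lam)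
  have hρ : ∀ w, ρ w = (lam w : ℂ) • (1 : Matrix (Fin 1) (Fin 1) ℂ) := by
    intro w
    show Matrix.scalar (Fin 1) ((lam w : ℂ)) = _
    rw [Matrix.scalar_apply, ← Matrix.smul_one_eq_diagonal]
  have hz2 : (lam zL : ℂ) * (lam zL : ℂ) = 1 := by
    rw [← Units.val_mul, ← map_mul]
    have : zL * zL = 1 := Subtype.ext C.hzz
    rw [this, map_one, Units.val_one]
  set ε : ℂ := (lam zL : ℂ) with hε
  have hcH : Nat.card H + 2 = Nat.card Ω := C.card_H
  have hcK : Nat.card K + 1 = Nat.card Ω := C.card_K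
  have hcHK : (Nat.card H : ℂ) = (Nat.card K : ℂ) - 1 := by
    have : Nat.card H + 1 = Nat.card K := by omega
    rw [← this]; push_cast; ring
  have hM : ∑ η : ↥(stabilizer G a ⊓ stabilizer G b), ρ (⟨η, Or.inl η.2⟩ * (⟨z, C.z_mem⟩ *
      ⟨s, C.s_mem⟩) * (⟨η, Or.inl η.2⟩ : pairStab G a b)⁻¹) =
      (((Nat.card K : ℂ) - 1) * ε) • 1 := by
    have h1 : ∀ η : ↥(stabilizer G a ⊓ stabilizer G b), ρ (⟨η, Or.inl η.2⟩ * (⟨z, C.z_mem⟩ *
      ⟨s, C.s_mem⟩) * (⟨η, Or.inl η.2⟩ : pairStab G a b)⁻¹) = ε • 1 := by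
      intro η
      rw [hρ]
      congr 1
      rw [map_mul, map_mul, map_mul, hls, mul_one, map_inv]
      have : lam (⟨η, Or.inl η.2⟩ : pairStab G a b) * lam zL * (lam ⟨η, Or.inl η.2⟩)⁻¹ = lam zL := by
        rw [mul_comm (lam _) (lam zL), mul_inv_cancel_right]
      rw [this]
    rw [Finset.sum_congr rfl (fun η _ => h1 η), Finset.sum_const, Finset.card_univ,
      ← Nat.card_eq_fintype_card, ← hcHK, mul_smul]
    exact (Nat.cast_smul_eq_nsmul ℂ _ _).symm
  have hq : Nat.card G = Nat.card (stabilizer G a) * (Nat.card K + 1) := C.card_G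
  have hsB : ((⟨s, C.s_mem⟩ : pairStab G a b) : G) ∉ stabilizer G a := by
    intro h
    have : s • a = a := h
    exact C.hab (this.symm.trans C.hsa)
  have hLL : ∀ w : pairStab G a b, (w : G) ∉ stabilizer G a →
      (((⟨s, C.s_mem⟩ : pairStab G a b)⁻¹ * w : pairStab G a b) : G) ∈ stabilizer G a := by
    intro w hw
    have hw' : (w : G) • a ≠ a := hw
    have h1 := C.sw_mem w.2 hw'
    show s⁻¹ * (w : G) ∈ stabilizer G a
    rw [C.sinv]
    exact h1.1
  set B := stabilizer G a with hB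
  set R := Rf B prt ρ with hR
  set P := Pf B prt ρ with hP
  have hRR : ∀ g, ∑ r, R r * R (r⁻¹ * g) = (Nat.card B : ℂ) • R g := conv_RR hp ρ
  have hRP : ∀ g, ∑ r, R r * P (r⁻¹ * g) = (Nat.card B : ℂ) • P g := conv_RP hp ρ
  have hPR : ∀ g, ∑ r, P r * R (r⁻¹ * g) = (Nat.card B : ℂ) • P g := conv_PR hp ρ
  have hPP : ∀ g, ∑ r, P r * P (r⁻¹ * g) = (Nat.card B : ℂ) • ((Nat.card K : ℂ) • R g +
      (((Nat.card K : ℂ) - 1) * ε) • P g) :=
    conv_PP hp ρ hsB hLL (Nat.card K) hq _ (C.hs hp ρ _ hM)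
  let t : G → ℂ := fun g => if g ∈ B then (lam (prt g) : ℂ) else ε * (lam (prt g) : ℂ)
  have ht : ∀ g, t g = R g 0 0 + ε * P g 0 0 := by
    intro g
    by_cases hg : g ∈ B
    · have h1 : t g = (lam (prt g) : ℂ) := if_pos hg
      have h2 : R g = ρ (prt g) := Rf_mem hp ρ hg
      have h3 : P g = 0 := Pf_mem ρ hg
      rw [h1, h2, h3, hρ]
      simp
    · have h1 : t g = ε * (lam (prt g) : ℂ) := if_neg hg
      have h2 : R g = 0 := Rf_notMem ρ hg
      have h3 : P g = ρ (prt g) := Pf_notMem ρ hg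
      rw [h1, h2, h3, hρ]
      simp
  have h00 : ∀ (A A' : Matrix (Fin 1) (Fin 1) ℂ), (A * A') 0 0 = A 0 0 * A' 0 0 := by
    intro A A'
    rw [Matrix.mul_apply, Fin.sum_univ_one]
  have e1 : ∀ (X Y : G → Matrix (Fin 1) (Fin 1) ℂ) (Z : Matrix (Fin 1) (Fin 1) ℂ) (g : G),
      ∑ r, X r * Y (r⁻¹ * g) = Z → ∑ r, X r 0 0 * Y (r⁻¹ * g) 0 0 = Z 0 0 := by
    intro X Y Z g h
    rw [← h, Matrix.sum_apply]
    apply Finset.sum_congr rfl
    intro r _
    rw [h00]
  have hnormε : ‖ε‖ = 1 := hnorm zL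
  have htn : ∀ g, ‖t g‖ = 1 := by
    intro g
    by_cases hg : g ∈ B
    · have h1 : t g = (lam (prt g) : ℂ) := if_pos hg
      rw [h1, hnorm]
    · have h1 : t g = ε * (lam (prt g) : ℂ) := if_neg hg
      rw [h1, norm_mul, hnormε, hnorm, mul_one]
  have ht0 : ∀ g, t g ≠ 0 := by
    intro g h
    have := htn g
    rw [h, norm_zero] at this
    exact zero_ne_one this
  have hconv : ∀ g, ∑ r, t r * t (r⁻¹ * g) = (Nat.card G : ℂ) * t g := by
    intro g
    have h1 := e1 R R _ g (hRR g)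
    have h2 := e1 R P _ g (hRP g)
    have h3 := e1 P R _ g (hPR g)
    have h4 := e1 P P _ g (hPP g)
    have h5 : ∑ r, t r * t (r⁻¹ * g) = (∑ r, R r 0 0 * R (r⁻¹ * g) 0 0) +
        ε * (∑ r, R r 0 0 * P (r⁻¹ * g) 0 0) + ε * (∑ r, P r 0 0 * R (r⁻¹ * g) 0 0) +
        ε * ε * (∑ r, P r 0 0 * P (r⁻¹ * g) 0 0) := by
      rw [Finset.mul_sum, Finset.mul_sum, Finset.mul_sum, ← Finset.sum_add_distrib,
        ← Finset.sum_add_distrib, ← Finset.sum_add_distrib]
      apply Finset.sum_congr rfl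
      intro r _
      rw [ht, ht]; ring
    rw [h5, h1, h2, h3, h4, hz2, ht, hq]
    simp only [Matrix.smul_apply, Matrix.add_apply, smul_eq_mul]
    push_cast
    linear_combination (0 : ℂ) * hz2
  have hmul : ∀ r g, t (r * g) = t r * t g := by
    intro r g
    have h1 := all_eq_one (fun r' => t r' * t (r'⁻¹ * (r * g)) * (t (r * g))⁻¹) (by
      intro i
      rw [norm_mul, norm_mul, norm_inv, htn, htn, htn]; norm_num) (by
      rw [← Finset.sum_mul, hconv, Nat.card_eq_fintype_card, mul_assoc, mul_inv_cancel₀ (ht0 _),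
        mul_one]) r
    have h2 : r⁻¹ * (r * g) = g := by group
    simp only [h2] at h1
    have h3 : t r * t g * (t (r * g))⁻¹ * t (r * g) = 1 * t (r * g) := by rw [h1]
    rw [mul_assoc, inv_mul_cancel₀ (ht0 _), mul_one, one_mul] at h3
    exact h3.symm
  have hprt1 : ∀ k ∈ K, prt k = 1 := fun k hk => hp.eq k k hk 1 1 K.one_mem (by simp)
  have hprtL : ∀ w : pairStab G a b, prt w = w := fun w => hp.eq _ 1 K.one_mem w 1 K.one_mem (by simp)
  have htK : ∀ k ∈ K, t k = 1 := by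
    intro k hk
    have h1 : t k = (lam (prt k) : ℂ) := if_pos (C.Ka hk)
    rw [h1, hprt1 k hk, map_one, Units.val_one]
  let T : G →* ℂ := {
    toFun := t
    map_one' := htK 1 K.one_mem
    map_mul' := hmul }
  have hTH : ∀ (h : G) (hh : h ∈ H), T h = (lam ⟨h, H_le_L hh⟩ : ℂ) := by
    intro h hh
    have h1 : t h = (lam (prt h) : ℂ) := if_pos hh.1
    have h2 : prt h = ⟨h, H_le_L hh⟩ := hprtL ⟨h, H_le_L hh⟩
    show t h = _
    rw [h1, h2]
  refine ⟨T.toHomUnits, ?_, ?_, ?_, ?_⟩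
  · intro k hk
    apply Units.ext
    rw [MonoidHom.coe_toHomUnits]
    exact htK k hk
  · intro h hh
    apply Units.ext
    rw [Units.val_pow_eq_pow_val, MonoidHom.coe_toHomUnits, hTH h hh, ← Units.val_pow_eq_pow_val,
      hlsq h hh]
  · refine ⟨h0, h0.2, ?_⟩
    intro h
    apply hh0
    apply Units.ext
    rw [← hTH h0 h0.2, ← MonoidHom.coe_toHomUnits, h]
  · apply Units.ext
    rw [Units.val_pow_eq_pow_val, MonoidHom.coe_toHomUnits, ← map_pow, sq, C.hss, map_one]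
    rfl

end Config

end Cfsg.Agent.Lib.Sharp3
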