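import Mathlib
import Cfsg.Agent.Lib.Sharp3Hom

/-!
Dichotomy for Zassenhaus groups with two-point stabilisers of even order (helper13).
-/

set_option autoImplicit false

namespace Cfsg.Agent.Lib.Sharp3

open MulAction ZassBasic

universe u v

variable {G : Type u} {Ω : Type v} [Group G] [MulAction G Ω] [Finite G] [Finite Ω]

/-- if the two-point stabiliser is big, the group is sharply triply transitive -/
theorem move3_of_big (h2 : IsMultiplyPretransitive G Ω 2) (h3 : Fix3 G Ω) {a b c : Ω}
    (hab : a ≠ b) (hac : a ≠ c) (hbc : b ≠ c)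
    (hd : ¬ 2 * Nat.card ↥(stabilizer G a ⊓ stabilizer G b) ≤ Nat.card Ω - 2) : Move3 G Ω := by
  classical
  have := Fintype.ofFinite Ω
  have := Fintype.ofFinite G
  set H := stabilizer G a ⊓ stabilizer G b with hH
  have key : ∀ x, x ≠ a → x ≠ b → ∃ h ∈ H, h • c = x := by
    intro x hxa hxb
    by_contra hcon
    push Not at hcon
    apply hd
    let φ : H × Bool → Ω := fun y => if y.2 then (y.1 : G) • c else (y.1 : G) • x
    have hinj : ∀ (y : Ω), a ≠ y → b ≠ y → ∀ h k : H, (h : G) • y = (k : G) • y → h = k := by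
      intro y hay hby h k hhk
      apply Subtype.ext
      exact eq_of_three h3 hab hay hby ((h.2.1 : (h : G) • a = a).trans (k.2.1 : (k : G) • a = a).symm)
        ((h.2.2 : (h : G) • b = b).trans (k.2.2 : (k : G) • b = b).symm) hhk
    have hφ : Function.Injective φ := by
      rintro ⟨h, i⟩ ⟨k, j⟩ hyy
      cases i <;> cases j
      · have h1 : (h : G) • x = (k : G) • x := hyy
        rw [hinj x hxa.symm hxb.symm h k h1]
      · exfalso
        have h1 : (h : G) • x = (k : G) • c := hyy
        apply hcon ((h : G)⁻¹ * k) (H.mul_mem (H.inv_mem h.2) k.2)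
        rw [mul_smul, ← h1, inv_smul_smul]
      · exfalso
        have h1 : (h : G) • c = (k : G) • x := hyy
        apply hcon ((k : G)⁻¹ * h) (H.mul_mem (H.inv_mem k.2) h.2)
        rw [mul_smul, h1, inv_smul_smul]
      · have h1 : (h : G) • c = (k : G) • c := hyy
        rw [hinj c hac hbc h k h1]
    have hsub : Finset.univ.image φ ⊆ Finset.univ \ {a, b} := by
      intro y hy
      rw [Finset.mem_image] at hy
      obtain ⟨⟨h, i⟩, -, rfl⟩ := hy
      rw [Finset.mem_sdiff, Finset.mem_insert, Finset.mem_singleton]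
      refine ⟨Finset.mem_univ _, ?_⟩
      have hha : (h : G) • a = a := h.2.1
      have hhb : (h : G) • b = b := h.2.2
      rintro (h1 | h1)
      · cases i
        · have h2 : (h : G) • x = a := h1
          exact hxa (MulAction.injective (h : G) (h2.trans hha.symm))
        · have h2 : (h : G) • c = a := h1
          exact hac (MulAction.injective (h : G) (h2.trans hha.symm)).symm
      · cases i
        · have h2 : (h : G) • x = b := h1
          exact hxb (MulAction.injective (h : G) (h2.trans hhb.symm))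
        · have h2 : (h : G) • c = b := h1
          exact hbc (MulAction.injective (h : G) (h2.trans hhb.symm)).symm
    have h4 := Finset.card_le_card hsub
    rw [Finset.card_image_of_injective _ hφ, Finset.card_sdiff_of_subset (Finset.subset_univ _),
      Finset.card_pair hab, Finset.card_univ, Finset.card_univ, Fintype.card_prod,
      Fintype.card_bool] at h4
    rw [Nat.card_eq_fintype_card, Nat.card_eq_fintype_card]
    omega
  have key2 : ∀ x y z : Ω, x ≠ y → x ≠ z → y ≠ z → ∃ g : G, g • a = x ∧ g • b = y ∧ g • c = z := by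
    intro x y z hxy hxz hyz
    obtain ⟨g, hga, hgb⟩ := exists_move h2 hab hxy
    obtain ⟨h, hh, hhc⟩ := key (g⁻¹ • z) (by
      intro h
      rw [inv_smul_eq_iff, hga] at h
      exact hxz h.symm) (by
      intro h
      rw [inv_smul_eq_iff, hgb] at h
      exact hyz h.symm)
    have hha : h • a = a := hh.1
    have hhb : h • b = b := hh.2
    exact ⟨g * h, by rw [mul_smul, hha, hga], by rw [mul_smul, hhb, hgb], by
      rw [mul_smul, hhc, smul_inv_smul]⟩
  intro x y z x' y' z' h1 h2 h3 h4 h5 h6
  obtain ⟨g, hg1, hg2, hg3⟩ := key2 x y z h1 h2 h3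
  obtain ⟨k, hk1, hk2, hk3⟩ := key2 x' y' z' h4 h5 h6
  exact ⟨k * g⁻¹, by rw [mul_smul, ← hg1, inv_smul_smul, hk1],
    by rw [mul_smul, ← hg2, inv_smul_smul, hk2], by rw [mul_smul, ← hg3, inv_smul_smul, hk3]⟩

/-- a sharply triply transitive group with two-point stabilisers of even order has a proper
normal subgroup -/
theorem not_simple_of_move3 (h2 : IsMultiplyPretransitive G Ω 2) (h3 : Fix3 G Ω)
    (mv : Move3 G Ω) {a b c : Ω} (hab : a ≠ b) (hac : a ≠ c) (hbc : b ≠ c)
    (heven : Even (Nat.card ↥(stabilizer G a ⊓ stabilizer G b))) : ¬ IsSimpleGroup G := by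
  intro hs
  obtain ⟨s, hs1, hs2, hs3⟩ := mv a b c b a c hab hac hbc hab.symm hbc hac
  obtain ⟨z, u, K, C⟩ := exists_config h2 h3 mv hab hac hbc hs1 hs2 hs3 heven
  obtain ⟨Lam, hK, -, ⟨h, hh, hh1⟩, -⟩ := C.exists_hom
  rcases hs.eq_bot_or_eq_top_of_normal (MonoidHom.ker Lam) inferInstance with h4 | h4
  · have h5 : u ∈ MonoidHom.ker Lam := hK u C.huK
    rw [h4, Subgroup.mem_bot] at h5
    have := C.hub
    rw [h5, one_smul] at this
    exact C.hbc this
  · have h5 : h ∈ MonoidHom.ker Lam := by rw [h4]; exact Subgroup.mem_top _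
    exact hh1 h5

end Cfsg.Agent.Lib.Sharp3
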