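import Cfsg.Agent.Lib.ZassSz7

/-!
# Zassenhaus groups whose Frobenius kernel is a nonabelian 2-group (helper6): main theorem
-/

set_option autoImplicit false
set_option linter.all false

namespace Cfsg.Agent.Lib.ZassSz

open MulAction ZassBasic ZassKernel ZassOdd ZassFeit

universe u v

variable {G : Type u} {Ω : Type v} [Group G] [MulAction G Ω]

theorem order_arith {q e : ℕ} (hq : e + 1 = q) {n : ℕ} (hn : 2 ≤ n) (hqn : q = 2 ^ n)
    (h : e + 2 ∣ (q ^ 2 + 1) * (q ^ 2 * e)) : False := by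
  have hq4 : 4 ≤ q := by
    rw [hqn]
    calc 4 = 2 ^ 2 := by norm_num
      _ ≤ 2 ^ n := Nat.pow_le_pow_right (by norm_num) hn
  have he : e + 2 = q + 1 := by omega
  rw [he] at h
  have heven : Even q := by
    rw [hqn]
    exact (Nat.even_pow.2 ⟨even_two, by omega⟩)
  have hodd : Odd (q + 1) := Even.add_one heven
  have h2 : Nat.Coprime (q + 1) 2 := Nat.Coprime.symm (Nat.coprime_two_left.2 hodd)
  have h1 : Nat.Coprime (q + 1) q := by
    rw [Nat.coprime_self_add_left]; exact Nat.coprime_one_left q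
  have h3 : Nat.Coprime (q + 1) (q ^ 2 + 1) := by
    have e1 : q ^ 2 + 1 = (q + 1) * (q - 1) + 2 := by
      obtain ⟨k, rfl⟩ : ∃ k, q = k + 1 := ⟨q - 1, by omega⟩
      rw [Nat.add_sub_cancel]; ring
    rw [e1, Nat.coprime_mul_left_add_right]
    exact h2
  have h4 : Nat.Coprime (q + 1) e := by
    have e1 : q + 1 = e + 2 := by omega
    rw [e1, Nat.coprime_self_add_left]
    apply Nat.Coprime.symm
    rw [Nat.coprime_two_right]
    rw [← hq] at heven
    rcases Nat.even_or_odd e with h | h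
    · exact absurd heven (Nat.not_even_iff_odd.2 h.add_one)
    · exact h
  have h5 := h3.dvd_of_dvd_mul_left h
  have h6 := (Nat.Coprime.pow_right 2 h1).dvd_of_dvd_mul_left h5
  have h7 := Nat.Coprime.eq_one_of_dvd h4 h6
  omega

theorem odd_of_five {n : ℕ} (h : 5 ∣ (2 ^ n) ^ 2 + 1) : Odd n := by
  rcases Nat.even_or_odd n with ⟨k, hk⟩ | ho
  · exfalso
    rw [hk] at h
    have e1 : (2 ^ (k + k)) ^ 2 = 16 ^ k := by
      rw [← pow_mul]
      have : (k + k) * 2 = 4 * k := by ring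
      rw [this, pow_mul]
      norm_num
    rw [e1] at h
    have h1 : 16 ^ k ≡ 1 [MOD 5] := by
      have := Nat.ModEq.pow k (show 16 ≡ 1 [MOD 5] by decide)
      rwa [one_pow] at this
    have h2 : 16 ^ k + 1 ≡ 2 [MOD 5] := h1.add_right 1
    have h3 := (Nat.modEq_zero_iff_dvd.2 h).symm.trans h2
    exact absurd h3 (by decide)
  · exact ho

theorem main [Finite G] [Finite Ω] [IsSimpleGroup G] {e : ℕ} {a b : Ω} {H : Subgroup G}
    (K : KerHyp G Ω e a b H) (h2 : IsPGroup 2 H) (hna : ∃ u ∈ H, ∃ v ∈ H, u * v ≠ v * u) :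
    ∃ n : ℕ, Odd n ∧ 1 < n ∧ Nat.card Ω = 2 ^ (2 * n) + 1 ∧ e + 1 = 2 ^ n ∧
      ∃ (F : Type) (_ : Field F) (_ : Fintype F) (φ : F ≃+* F), Fintype.card F = 2 ^ n ∧
        Nonempty (H ≃* Cfsg.suzukiTypeA F (φ : F →+* F)) := by
  classical
  haveI : Fintype G := Fintype.ofFinite G
  obtain ⟨D, _, i, φ, hi, hir, hφ, hyp, hDe⟩ := exists_action K h2
  haveI : Finite D := Finite.of_injective i hi
  obtain ⟨F, _, ι, χ, hFfin, hF2, f⟩ := hyp.exists_fld
  have hna' : ∃ x y : H, x * y ≠ y * x := by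
    obtain ⟨u, hu, v, hv, huv⟩ := hna
    exact ⟨⟨u, hu⟩, ⟨v, hv⟩, fun h => huv (congrArg Subtype.val h)⟩
  obtain ⟨n, hn, hFn⟩ := hyp.card_F f
  have hZ1 := f.card_Z hyp
  have hZ2 := card_Z_eq hyp
  have hqe : e + 1 = 2 ^ n := by rw [← hDe, ← hZ2, hZ1, hFn]
  have hsq : Nat.card H = Nat.card F ^ 2 := by
    rcases hyp.card_eq hna' f with h | h
    · exact h
    · exfalso
      obtain ⟨E, X⟩ := exists_EHyp K h2 hna
      exact no_cube K X h2 hn hqe (by rw [h, hFn, hqe])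
  have hHc : Nat.card H = (2 ^ n) ^ 2 := by rw [hsq, hFn]
  have hΩ : Nat.card Ω = (2 ^ n) ^ 2 + 1 := by rw [← hHc]; exact K.hHcard.symm
  -- the element t s
  obtain ⟨t, hta, htb⟩ := K.exists_swap
  obtain ⟨s, hs, hs1, hss, r, hr, hrel⟩ := exists_triple K h2 hta htb
  have hodd : Odd n := by
    rcases dichotomy K h2 hna hta htb hs hs1 hss hr hrel with ⟨-, h⟩ | ⟨h, h5⟩
    · exfalso
      have h1 := braid_dvd K h2 hta htb hs hs1 hss h
      rw [K.card_group, hHc, ← hqe] at h1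
      exact order_arith rfl hn hqe h1
    · have h1 := five_dvd K hta htb hs hs1 hss hr hrel h h5
      rw [hΩ] at h1
      exact odd_of_five h1
  obtain ⟨E', _, _, ψ, hE', -, -, hiso⟩ := hyp.typeA hna' f hsq
  refine ⟨n, hodd, by omega, ?_, hqe, E', _, _, ψ, by rw [hE', hFn], hiso⟩
  rw [hΩ, ← pow_mul, mul_comm n 2]

end Cfsg.Agent.Lib.ZassSz
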