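import Mathlib

/-!
Abstract rank one groups with abelian root group: the functional equations (helper13).
-/

set_option autoImplicit false

namespace Cfsg.Agent.Lib.Rk1

universe u v

/-- The data of a doubly transitive group with abelian kernel `V` and abelian, inverted, semiregular
two-point stabiliser `H`, read off from the relation `s f s = S(f) s η(f) T(f)`. -/
structure Data (V : Type u) (H : Type v) [AddCommGroup V] [CommGroup H] [DistribMulAction H V] where
  S : V → V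
  η : V → H
  S_zero : S 0 = 0
  S_ne : ∀ {v}, v ≠ 0 → S v ≠ 0
  S_S : ∀ v, S (S v) = v
  S_smul : ∀ (h : H) (v : V), S (h • v) = h⁻¹ • S v
  η_smul : ∀ (h : H) {v : V}, v ≠ 0 → η (h • v) = h ^ 2 * η v
  η_neg : ∀ {v}, v ≠ 0 → η (-v) = η v
  η_S : ∀ {v}, v ≠ 0 → η (S v) = (η v)⁻¹
  braid : ∀ {v}, v ≠ 0 → S (-S v) = -(η v • S (-v))
  free : ∀ (h : H) {v : V}, v ≠ 0 → h • v = v → h = 1
  w_ne : ∀ {f g}, f ≠ 0 → g ≠ 0 → f + g ≠ 0 → -S (-f) + S g ≠ 0
  S_add : ∀ {f g}, f ≠ 0 → g ≠ 0 → f + g ≠ 0 →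
    S (f + g) = S f + (η f)⁻¹ • S (-S (-f) + S g)
  η_add : ∀ {f g}, f ≠ 0 → g ≠ 0 → f + g ≠ 0 →
    η (f + g) = η f * η g * η (-S (-f) + S g)

variable {V : Type u} {H : Type v} [AddCommGroup V] [CommGroup H] [DistribMulAction H V]

namespace Data

variable (D : Data V H)

/-- the other swap -/
def T (v : V) : V := -D.S (-v)

theorem T_neg (v : V) : D.T (-v) = -D.S v := by rw [T, neg_neg]
theorem S_neg (v : V) : D.S (-v) = -D.T v := by rw [T, neg_neg]
theorem T_T (v : V) : D.T (D.T v) = v := by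
  rw [T, T, neg_neg, D.S_S, neg_neg]
theorem T_zero : D.T 0 = 0 := by rw [T, neg_zero, D.S_zero, neg_zero]
theorem T_ne {v : V} (hv : v ≠ 0) : D.T v ≠ 0 := neg_ne_zero.2 (D.S_ne (neg_ne_zero.2 hv))
theorem T_smul (h : H) (v : V) : D.T (h • v) = h⁻¹ • D.T v := by
  rw [T, T, ← smul_neg, D.S_smul, smul_neg]
theorem η_T {v : V} (hv : v ≠ 0) : D.η (D.T v) = (D.η v)⁻¹ := by
  rw [T, D.η_neg (D.S_ne (neg_ne_zero.2 hv)), D.η_S (neg_ne_zero.2 hv), D.η_neg hv]
theorem T_S {v : V} (hv : v ≠ 0) : D.T (D.S v) = -(D.η v • D.T v) := by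
  rw [T, D.braid hv, T]
  simp
theorem S_T {v : V} (hv : v ≠ 0) : D.S (D.T v) = -(D.η v • D.S v) := by
  rw [T, D.braid (neg_ne_zero.2 hv), D.η_neg hv, neg_neg]
theorem S_inj {v w : V} (h : D.S v = D.S w) : v = w := by rw [← D.S_S v, h, D.S_S]
theorem T_inj {v w : V} (h : D.T v = D.T w) : v = w := by rw [← D.T_T v, h, D.T_T]

theorem S_add' {f g : V} (hf : f ≠ 0) (hg : g ≠ 0) (hfg : f + g ≠ 0) :
    D.S (f + g) = D.S f + (D.η f)⁻¹ • D.S (D.T f + D.S g) := D.S_add hf hg hfg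

theorem η_add' {f g : V} (hf : f ≠ 0) (hg : g ≠ 0) (hfg : f + g ≠ 0) :
    D.η (f + g) = D.η f * D.η g * D.η (D.T f + D.S g) := D.η_add hf hg hfg

theorem w_ne' {f g : V} (hf : f ≠ 0) (hg : g ≠ 0) (hfg : f + g ≠ 0) :
    D.T f + D.S g ≠ 0 := D.w_ne hf hg hfg

theorem T_add' {f g : V} (hf : f ≠ 0) (hg : g ≠ 0) (hfg : f + g ≠ 0) :
    D.T (f + g) = (D.η g)⁻¹ • D.T (D.T f + D.S g) + D.T g := by
  have h1 : -g + -f ≠ 0 := by
    intro h
    apply hfg
    have : f + g = -(-g + -f) := by abel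
    rw [this, h, neg_zero]
  have h2 := D.S_add' (neg_ne_zero.2 hg) (neg_ne_zero.2 hf) h1
  have h3 : -(f + g) = -g + -f := by abel
  have h4 : D.T (-g) + D.S (-f) = -(D.T f + D.S g) := by
    rw [D.T_neg, D.S_neg]; abel
  have h5 : D.T (f + g) = -D.S (-g + -f) := by rw [T, h3]
  rw [h5, h2, h4, D.S_neg, D.S_neg, D.η_neg hg]
  rw [smul_neg]; abel

/-- the sum of the two swaps -/
def σ (v : V) : V := D.S v + D.T v

theorem σ_smul (h : H) (v : V) : D.σ (h • v) = h⁻¹ • D.σ v := by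
  rw [σ, σ, D.S_smul, D.T_smul, smul_add]

/-- `f ∈ E` -/
def InE (f : V) : Prop := f ≠ 0 ∧ D.η f = 1

variable {D}

theorem InE.neg {f : V} (h : D.InE f) : D.InE (-f) := ⟨neg_ne_zero.2 h.1, by rw [D.η_neg h.1, h.2]⟩
theorem InE.S {f : V} (h : D.InE f) : D.InE (D.S f) := ⟨D.S_ne h.1, by rw [D.η_S h.1, h.2, inv_one]⟩
theorem InE.T {f : V} (h : D.InE f) : D.InE (D.T f) := ⟨D.T_ne h.1, by rw [D.η_T h.1, h.2, inv_one]⟩
theorem InE.T_S {f : V} (h : D.InE f) : D.T (D.S f) = -D.T f := by rw [D.T_S h.1, h.2, one_smul]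
theorem InE.S_T {f : V} (h : D.InE f) : D.S (D.T f) = -D.S f := by rw [D.S_T h.1, h.2, one_smul]

theorem InE.S_add {f g : V} (hf : D.InE f) (hg : D.InE g) (hfg : f + g ≠ 0) :
    D.S (f + g) = D.S f + D.S (D.T f + D.S g) := by
  rw [D.S_add' hf.1 hg.1 hfg, hf.2, inv_one, one_smul]

theorem InE.T_add {f g : V} (hf : D.InE f) (hg : D.InE g) (hfg : f + g ≠ 0) :
    D.T (f + g) = D.T (D.T f + D.S g) + D.T g := by
  rw [D.T_add' hf.1 hg.1 hfg, hg.2, inv_one, one_smul]

theorem InE.η_add {f g : V} (hf : D.InE f) (hg : D.InE g) (hfg : f + g ≠ 0) :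
    D.η (f + g) = D.η (D.T f + D.S g) := by
  rw [D.η_add' hf.1 hg.1 hfg, hf.2, hg.2, one_mul, one_mul]

theorem InE.add_comm_ne {f g : V} (hfg : f + g ≠ 0) : g + f ≠ 0 := by rwa [add_comm]

/-- two-types -/
def Two (D : Data V H) (f : V) : Prop := D.S f = -f

theorem InE.T_of_two {f : V} (h : D.InE f) (h2 : D.Two f) : D.T f = -f := by
  have h3 := h.T_S
  rw [h2, D.T_neg, h2] at h3
  -- - - f = - T f
  rw [neg_neg] at h3
  rw [eq_neg_iff_add_eq_zero, add_comm, ← eq_neg_iff_add_eq_zero]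
  exact h3

theorem InE.two_of_T {f : V} (h : D.InE f) (h2 : D.T f = -f) : D.Two f := by
  have h3 := h.S_T
  rw [h2, D.S_neg, h2, neg_neg] at h3
  show D.S f = -f
  rw [← neg_eq_iff_eq_neg, ← h3]

theorem InE.two_of_eq {f : V} (h : D.InE f) (h2 : D.S f = D.T f) : D.Two f := by
  have h3 := h.T_S
  rw [h2, D.T_T] at h3
  show D.S f = -f
  rw [h2]
  exact neg_eq_iff_eq_neg.1 h3.symm

theorem InE.two_neg {f : V} (h : D.InE f) (h2 : D.Two f) : D.Two (-f) := by
  show D.S (-f) = - -f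
  rw [D.S_neg, h.T_of_two h2]

/-- the fundamental identity -/
theorem InE.two_smul_defect {f : V} (h : D.InE f) (h2 : ¬ D.Two f) :
    (2 : ℤ) • (D.S f + D.T f - f) = 0 := by
  set A := D.S f with hA
  set B := D.T f with hB
  have hAE : D.InE A := h.S
  have hBE : D.InE B := h.T
  have hfA : f + A ≠ 0 := fun h' => h2 (by
    show D.S f = -f
    rw [eq_neg_iff_add_eq_zero, add_comm]; exact h')
  have hfB : f + B ≠ 0 := fun h' => h2 (h.two_of_T (by
    rw [eq_neg_iff_add_eq_zero, add_comm]; exact h'))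
  have hSA : D.S A = f := D.S_S f
  have hTA : D.T A = -B := h.T_S
  have hSB : D.S B = -A := h.S_T
  have hTB : D.T B = f := D.T_T f
  have e1 := h.S_add hAE hfA
  have e2 := h.S_add hBE hfB
  have e3 := hAE.S_add h (InE.add_comm_ne hfA)
  have e4 := h.T_add hAE hfA
  have e5 := h.T_add hBE hfB
  have e6 := hAE.T_add h (InE.add_comm_ne hfA)
  rw [hSA, ← hA, ← hB] at e1
  rw [hSB, ← hA, ← hB] at e2
  rw [hSA, hTA, ← hA] at e3
  rw [hSA, hTA, ← hB] at e4
  rw [hSB, hTB, ← hB] at e5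
  rw [hTA, ← hA, ← hB] at e6
  -- normalise the arguments
  have c1 : B + f = f + B := add_comm _ _
  have c2 : A + f = f + A := add_comm _ _
  have c3 : -B + A = -(B + -A) := by abel
  rw [c1] at e1 e4
  rw [c2] at e3 e6
  rw [c3, D.S_neg] at e3
  rw [c3, D.T_neg] at e6
  rw [e2, e3] at e1
  rw [e5, e6] at e4
  linear_combination (norm := module) e4 - e1

/-! ### the sum of the swaps -/

theorem InE.sum_rel {f g : V} (hf : D.InE f) (hg : D.InE g) (hfg : f + g ≠ 0) :
    D.T f + D.S g ≠ 0 ∧ D.S f + D.T g ≠ 0 ∧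
    D.η (D.T f + D.S g) = D.η (f + g) ∧ D.η (D.S f + D.T g) = D.η (f + g) ∧
    D.σ (f + g) = D.σ (D.T f + D.S g) + (D.S f + D.T g) ∧
    D.σ (f + g) = D.σ (D.S f + D.T g) + (D.T f + D.S g) ∧
    (D.T f + D.S g) + (D.S f + D.T g) = D.σ f + D.σ g := by
  have hgf := InE.add_comm_ne hfg
  have c1 : D.S f + D.T g = D.T g + D.S f := add_comm _ _
  have c2 : f + g = g + f := add_comm _ _
  refine ⟨D.w_ne' hf.1 hg.1 hfg, ?_, (hf.η_add hg hfg).symm, ?_, ?_, ?_, ?_⟩
  · rw [c1]; exact D.w_ne' hg.1 hf.1 hgf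
  · rw [c1, c2]; exact (hg.η_add hf hgf).symm
  · rw [σ, σ, hf.S_add hg hfg, hf.T_add hg hfg]; abel
  · rw [σ, σ, c1, c2, hg.S_add hf hgf, hg.T_add hf hgf]; abel
  · rw [σ, σ]; abel

theorem InE.σ_two {x : V} (h : D.InE x) (h2 : D.Two x) : D.σ x = -x + -x := by
  rw [σ, h.T_of_two h2, h2]

theorem InE.two_ne {x : V} (h : D.InE x) (hodd : ∀ v : V, v + v = 0 → v = 0) : x + x ≠ 0 :=
  fun h' => h.1 (hodd x h')

/-- `σ (x + x') = - x` for two-types -/
theorem InE.σ_add_two {x x' : V} (h : D.InE x) (h2 : D.Two x) (h' : D.InE x') (h2' : D.Two x')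
    (hne : x + x' ≠ 0) : D.σ (x + x') = -x := by
  have h1 := h.S_add h' hne
  rw [h2, h.T_of_two h2, h2'] at h1
  have h3 : -x + -x' = -(x + x') := by abel
  rw [h3, D.S_neg] at h1
  rw [σ, h1]; abel

theorem InE.two_unique {x x' : V} (h : D.InE x) (h2 : D.Two x) (h' : D.InE x') (h2' : D.Two x') :
    x' = x ∨ x' = -x := by
  by_cases hne : x + x' = 0
  · right
    rw [eq_neg_iff_add_eq_zero, add_comm]; exact hne
  · left
    have h1 := h.σ_add_two h2 h' h2' hne
    have h3 := h'.σ_add_two h2' h h2 (InE.add_comm_ne hne)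
    rw [add_comm x' x] at h3
    exact neg_injective (h3.symm.trans h1)

theorem InE.two_S {f : V} (_h : D.InE f) (h2 : D.Two (D.S f)) : D.Two f := by
  have h3 : D.S (D.S f) = -D.S f := h2
  rw [D.S_S] at h3
  show D.S f = -f
  exact neg_eq_iff_eq_neg.1 h3.symm

theorem InE.two_T {f : V} (h : D.InE f) (h2 : D.Two (D.T f)) : D.Two f := by
  have h3 := h.T.T_of_two h2
  rw [D.T_T] at h3
  apply h.two_of_T
  exact neg_eq_iff_eq_neg.1 h3.symm

theorem InE.two_neg_iff {f : V} (h : D.InE f) : D.Two (-f) ↔ D.Two f := by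
  constructor
  · intro h2
    have := h.neg.two_neg h2
    rwa [neg_neg] at this
  · exact h.two_neg

omit [AddCommGroup V] [DistribMulAction H V] in
theorem sq_inj (hH : Odd (Nat.card H)) {h k : H} (e : h ^ 2 = k ^ 2) : h = k :=
  (powCoprime hH.coprime_two_right).injective e

omit [AddCommGroup V] [DistribMulAction H V] in
theorem exists_sqrt (hH : Odd (Nat.card H)) (x : H) : ∃ h : H, h ^ 2 = x :=
  (powCoprime hH.coprime_two_right).surjective x

theorem smul_ne {v : V} (h : H) (hv : v ≠ 0) : h • v ≠ 0 := by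
  intro h0
  apply hv
  rw [← smul_zero h] at h0
  exact MulAction.injective h h0

variable (D)

theorem exists_E (hH : Odd (Nat.card H)) {v : V} (hv : v ≠ 0) : ∃ h : H, D.InE (h • v) := by
  obtain ⟨h, hh⟩ := exists_sqrt hH (D.η v)⁻¹
  exact ⟨h, smul_ne h hv, by rw [D.η_smul h hv, hh, inv_mul_cancel]⟩

variable {D}

theorem inE_smul (hH : Odd (Nat.card H)) {h : H} {v : V} (hv : D.InE v) (hhv : D.InE (h • v)) :
    h = 1 := by
  have h1 := hhv.2
  rw [D.η_smul h hv.1, hv.2, mul_one] at h1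
  exact sq_inj hH (h1.trans (one_pow 2).symm)

theorem inE_of_η {v w : V} {h : H} (hv : D.InE (h • v)) (hv0 : v ≠ 0) (hw : w ≠ 0)
    (e : D.η w = D.η v) : D.InE (h • w) := by
  refine ⟨smul_ne h hw, ?_⟩
  have h1 := hv.2
  rw [D.η_smul h hv0] at h1
  rw [D.η_smul h hw, e, h1]

theorem σ_of_smul {v : V} {h : H} {y : V} (hy : D.σ (h • v) = y) : D.σ v = h • y := by
  rw [D.σ_smul] at hy
  rw [← hy, smul_inv_smul]

/-- `κ v - κ w = v - w` forces `κ = 1` -/
theorem kappa_one (D : Data V H) (hH : Odd (Nat.card H)) {h : H} {v w : V} (hne : v ≠ w)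
    (e : h • h • v - h • h • w = v - w) : h = 1 := by
  have h1 : (h * h) • (v - w) = v - w := by
    rw [smul_sub, mul_smul, mul_smul]; exact e
  have h3 := D.free (h * h) (sub_ne_zero.2 hne) h1
  rw [← sq] at h3
  exact sq_inj hH (h3.trans (one_pow 2).symm)

theorem kappa_one' (D : Data V H) (hH : Odd (Nat.card H)) {h : H} {v : V} (hne : v ≠ 0)
    (e : h • h • v = v) : h = 1 := by
  have h3 := D.free (h * h) hne (by rw [mul_smul]; exact e)
  rw [← sq] at h3
  exact sq_inj hH (h3.trans (one_pow 2).symm)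

/-! ### the case without 2-torsion -/

section NoTorsion

variable (hH : Odd (Nat.card H)) (htor : ∀ v : V, v + v = 0 → v = 0)

include htor in
theorem InE.σ_eq {f : V} (h : D.InE f) (h2 : ¬ D.Two f) : D.σ f = f := by
  have h1 := h.two_smul_defect h2
  have h3 := htor (D.S f + D.T f - f) (by rw [← h1]; module)
  exact sub_eq_zero.1 h3

include htor in
theorem σ_nontwo {h : H} {v : V} (hv : D.InE (h • v)) (h2 : ¬ D.Two (h • v)) :
    D.σ v = h • h • v := σ_of_smul (hv.σ_eq htor h2)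

include htor in
/-- a two-type whose double is in `E` -/
theorem not_double {x : V} (hx : D.InE x) (hx2 : D.Two x) (h3x : x + x + x ≠ 0) :
    ¬ (D.InE (x + x) ∧ ¬ D.Two (x + x)) := by
  rintro ⟨h1, h2⟩
  have h3 := h1.σ_eq htor h2
  have h4 := hx.σ_add_two hx2 hx hx2 h1.1
  rw [h3] at h4
  apply h3x
  rw [h4]; abel

include htor in
theorem not_double_neg {x : V} (hx : D.InE x) (hx2 : D.Two x) (h3x : x + x + x ≠ 0) {y : V}
    (hy : y = -(x + x)) : ¬ (D.InE y ∧ ¬ D.Two y) := by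
  rintro ⟨h1, h2⟩
  apply not_double htor hx hx2 h3x
  have h3 : x + x = -y := by rw [hy, neg_neg]
  rw [h3]
  exact ⟨h1.neg, fun h => h2 (h1.two_neg_iff.1 h)⟩

/-- `v - x` is, up to a multiplier, a two-type of `E` -/
def Good (D : Data V H) (x v : V) : Prop := ∃ h : H, D.InE (h • (v - x)) ∧ D.Two (h • (v - x))

include hH in
theorem good_iff {x v : V} {h : H} (hh : D.InE (h • (v - x))) :
    Good D x v ↔ D.Two (h • (v - x)) := by
  constructor
  · rintro ⟨k, hk, hk2⟩
    have h1 : D.InE ((k * h⁻¹) • (h • (v - x))) := by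
      rw [smul_smul, inv_mul_cancel_right]; exact hk
    have h2 := inE_smul hH hh h1
    have h3 : k = h := by
      rw [mul_inv_eq_one] at h2; exact h2
    rw [← h3]; exact hk2
  · intro h2
    exact ⟨h, hh, h2⟩

include hH htor in
theorem good_xor {x : V} (hx : D.InE x) (hx2 : D.Two x) (h3x : x + x + x ≠ 0) {f : V} (hf : D.InE f)
    (hf2 : ¬ D.Two f) : ¬ (Good D x (D.T f) ↔ Good D x (D.S f)) := by
  have hTx := hx.T_of_two hx2
  have hSx : D.S x = -x := hx2
  have hfx : f + x ≠ 0 := by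
    intro h
    apply hf2
    have h1 : f = -x := by rw [eq_neg_iff_add_eq_zero]; exact h
    rw [h1]; exact hx.two_neg hx2
  have hrel := hf.sum_rel hx hfx
  rw [hSx, hTx, ← sub_eq_add_neg, ← sub_eq_add_neg, hf.σ_eq htor hf2, hx.σ_two hx2] at hrel
  obtain ⟨h2ne, h3ne, e2, e3, s2, s3, s4⟩ := hrel
  obtain ⟨h, hh1⟩ := D.exists_E hH hfx
  have hh2 : D.InE (h • (D.T f - x)) := inE_of_η hh1 hfx h2ne e2
  have hh3 : D.InE (h • (D.S f - x)) := inE_of_η hh1 hfx h3ne e3
  rw [good_iff hH hh2, good_iff hH hh3]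
  have hu23 : D.T f - x ≠ D.S f - x := by
    intro h'
    apply hf2
    apply hf.two_of_eq
    exact (sub_left_injective h').symm
  intro hiff
  by_cases t2 : D.Two (h • (D.T f - x))
  · have t3 := hiff.1 t2
    have e5 : (D.T f - x) + (D.S f - x) = 0 := by
      rcases hx.two_unique hx2 hh2 t2 with k2 | k2 <;> rcases hx.two_unique hx2 hh3 t3 with k3 | k3
      · exact absurd (MulAction.injective h (k2.trans k3.symm)) hu23
      · apply MulAction.injective h
        show h • _ = h • (0 : V)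
        rw [smul_add, k2, k3, smul_zero]; abel
      · apply MulAction.injective h
        show h • _ = h • (0 : V)
        rw [smul_add, k2, k3, smul_zero]; abel
      · exact absurd (MulAction.injective h (k2.trans k3.symm)) hu23
    rw [s4] at e5
    have e6 : f = x + x := by linear_combination (norm := module) e5
    apply not_double htor hx hx2 h3x
    rw [← e6]
    exact ⟨hf, hf2⟩
  · have t3 : ¬ D.Two (h • (D.S f - x)) := fun h' => t2 (hiff.2 h')
    have r2 := σ_nontwo htor hh2 t2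
    have r3 := σ_nontwo htor hh3 t3
    have e5 : h • h • (D.T f - x) - h • h • (D.S f - x) = (D.T f - x) - (D.S f - x) := by
      rw [r2] at s2
      rw [r3] at s3
      linear_combination (norm := abel) s3 - s2
    have h1 := D.kappa_one hH hu23 e5
    rw [h1, one_smul] at hh1
    rw [h1, one_smul, one_smul] at r2
    rw [r2, s4] at s2
    by_cases t1 : D.Two (f + x)
    · rcases hx.two_unique hx2 hh1 t1 with k1 | k1
      · apply hf.1
        linear_combination (norm := module) k1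
      · apply not_double_neg htor hx hx2 h3x (y := f) (by linear_combination (norm := module) k1)
        exact ⟨hf, hf2⟩
    · rw [hh1.σ_eq htor t1] at s2
      apply h3x
      linear_combination (norm := module) s2

include hH htor in
/-- if some element of `E` is not a two-type then `σ` is the identity on `E` -/
theorem σ_eq_all {f0 : V} (hf0 : D.InE f0) (hf02 : ¬ D.Two f0) {f : V} (hf : D.InE f) :
    D.σ f = f := by
  by_cases h2 : D.Two f
  swap
  · exact hf.σ_eq htor h2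
  have h3 : f + f + f = 0 := by
    by_contra h3x
    have g1 := good_xor hH htor hf h2 h3x hf0 hf02
    have hS := hf0.S
    have hT := hf0.T
    have g2 := good_xor hH htor hf h2 h3x hS.neg (fun h => hf02 (hf0.two_S (hS.two_neg_iff.1 h)))
    have g3 := good_xor hH htor hf h2 h3x hT.neg (fun h => hf02 (hf0.two_T (hT.two_neg_iff.1 h)))
    rw [D.T_neg, D.S_S, D.S_neg, hf0.T_S, neg_neg] at g2
    rw [D.T_neg, hf0.S_T, neg_neg, D.S_neg, D.T_T] at g3
    tauto
  rw [hf.σ_two h2]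
  linear_combination (norm := module) -h3

include hH htor in
/-- `E` together with `0` is closed under addition if it contains a non-two-type -/
theorem add_mem {f0 : V} (hf0 : D.InE f0) (hf02 : ¬ D.Two f0) {f g : V} (hf : D.InE f)
    (hg : D.InE g) (hfg : f + g ≠ 0) : D.InE (f + g) := by
  have hσ : ∀ {v : V}, D.InE v → D.σ v = v := fun hv => σ_eq_all hH htor hf0 hf02 hv
  obtain ⟨h2ne, h3ne, e2, e3, s2, s3, s4⟩ := hf.sum_rel hg hfg
  obtain ⟨h, hh1⟩ := D.exists_E hH hfg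
  have hh2 := inE_of_η hh1 hfg h2ne e2
  have r1 := σ_of_smul (hσ hh1)
  have r2 := σ_of_smul (hσ hh2)
  rw [hσ hf, hσ hg] at s4
  rw [r1, r2, ← s4, smul_add, smul_add] at s2
  have h1 := D.kappa_one' hH h3ne (by linear_combination (norm := abel) s2)
  rw [h1, one_smul] at hh1
  exact hh1

end NoTorsion

end Data

end Cfsg.Agent.Lib.Rk1
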