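import Mathlib
import Cfsg.Agent.Lib.Rk1

/-!
Rank one data from a group (helper13).
-/

set_option autoImplicit false

namespace Cfsg.Agent.Lib.Rk1

universe u v w x

theorem mk_data {G : Type u} {Ω : Type v} [Group G] [MulAction G Ω] {V : Type w} {H : Type x}
    [AddCommGroup V] [CommGroup H] [DistribMulAction H V] {a b : Ω} (hab : a ≠ b)
    (τ : V → G) (hτadd : ∀ x y, τ (x + y) = τ x * τ y) (hτa : ∀ x, τ x • a = a)
    (hτb : ∀ x y, τ x • b = τ y • b → x = y) (hτs : ∀ y, y ≠ a → ∃ x, τ x • b = y)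
    (χ : H →* G) (hχinj : Function.Injective χ) (hχa : ∀ h, χ h • a = a) (hχb : ∀ h, χ h • b = b)
    (hχs : ∀ g : G, g • a = a → g • b = b → ∃ h, χ h = g)
    (hχτ : ∀ h x, χ h * τ x * (χ h)⁻¹ = τ (h • x))
    {s : G} (hss : s * s = 1) (hsa : s • a = b) (hsb : s • b = a)
    (hinv : ∀ h, s * χ h * s = (χ h)⁻¹)
    (free : ∀ (h : H) {v : V}, v ≠ 0 → h • v = v → h = 1) :
    ∃ D : Data V H, ∀ v, v ≠ 0 → s • τ v • b = τ (D.S v) • b := by
  classical
  have hsinv : s⁻¹ = s := inv_eq_of_mul_eq_one_right hss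
  have hτ0 : τ 0 = 1 := by
    have h := hτadd 0 0
    rw [add_zero] at h
    exact (mul_eq_left.1 h.symm)
  have hτneg : ∀ x, τ (-x) = (τ x)⁻¹ := by
    intro x
    rw [eq_inv_iff_mul_eq_one, ← hτadd, neg_add_cancel, hτ0]
  have hτne : ∀ x, τ x • b ≠ a := by
    intro x h
    have h1 := hτa x
    exact hab (MulAction.injective (τ x) (h1.trans h.symm))
  -- commutation rules
  have hχs' : ∀ h, χ h * s = s * (χ h)⁻¹ := by
    intro h
    rw [← hinv h, ← mul_assoc, ← mul_assoc, hss, one_mul]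
  have hχs2 : ∀ h, (χ h)⁻¹ * s = s * χ h := by
    intro h
    have := hχs' h⁻¹
    rwa [map_inv, inv_inv] at this
  have hχτ' : ∀ h x, χ h * τ x = τ (h • x) * χ h := by
    intro h x
    rw [← hχτ]; group
  have hχτ2 : ∀ h x, τ x * χ h = χ h * τ (h⁻¹ • x) := by
    intro h x
    rw [hχτ', smul_inv_smul]
  -- decomposition
  have hdec : ∀ g : G, g • a ≠ a → ∃ x h y, g = τ x * s * χ h * τ y := by
    intro g hg
    obtain ⟨x, hx⟩ := hτs _ hg
    set g1 := s * (τ x)⁻¹ * g with hg1
    have h1 : g1 • a = a := by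
      rw [hg1, mul_smul, mul_smul, ← hx, inv_smul_smul, hsb]
    have h2 : g1⁻¹ • b ≠ a := by
      intro h
      rw [inv_smul_eq_iff] at h
      exact hab (h1.symm.trans h.symm)
    obtain ⟨y, hy⟩ := hτs _ h2
    obtain ⟨h, hh⟩ := hχs (g1 * τ y) (by rw [mul_smul, hτa, h1]) (by
      rw [mul_smul, hy, smul_inv_smul])
    refine ⟨x, h, -y, ?_⟩
    rw [hh, hτneg, hg1]
    calc g = τ x * (s * s) * (τ x)⁻¹ * g := by rw [hss]; group
      _ = τ x * s * (s * (τ x)⁻¹ * g * τ y) * (τ y)⁻¹ := by group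
  have huniq : ∀ {x x' y y' : V} {h h' : H}, τ x * s * χ h * τ y = τ x' * s * χ h' * τ y' →
      x = x' ∧ h = h' ∧ y = y' := by
    intro x x' y y' h h' e
    have h1 : x = x' := by
      apply hτb
      have h2 := congrArg (fun g : G => g • a) e
      simp only [mul_smul, hτa, hχa, hsa] at h2
      exact h2
    subst h1
    have h2 : χ h * τ y = χ h' * τ y' := by
      have : τ x * s * (χ h * τ y) = τ x * s * (χ h' * τ y') := by
        rw [← mul_assoc, ← mul_assoc]; exact e
      exact mul_left_cancel this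
    have h3 : y = y' := by
      have h4 : (χ h * τ y)⁻¹ • b = (χ h' * τ y')⁻¹ • b := by rw [h2]
      rw [mul_inv_rev, mul_inv_rev, mul_smul, mul_smul, inv_smul_eq_iff.2 (hχb h).symm,
        inv_smul_eq_iff.2 (hχb h').symm, ← hτneg, ← hτneg] at h4
      exact neg_injective (hτb _ _ h4)
    subst h3
    exact ⟨rfl, hχinj (mul_right_cancel h2), rfl⟩
  have hsne : ∀ x, x ≠ 0 → (s * τ x * s) • a ≠ a := by
    intro x hx h
    apply hx
    rw [mul_smul, mul_smul, hsa] at h
    apply hτb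
    rw [hτ0, one_smul]
    have h1 : s • τ x • b = s • b := by rw [h, hsb]
    exact MulAction.injective s h1
  have hex : ∀ x, ∃ y : V × H × V, x ≠ 0 → s * τ x * s = τ y.1 * s * χ y.2.1 * τ y.2.2 := by
    intro x
    by_cases hx : x = 0
    · exact ⟨(0, 1, 0), fun h => absurd hx h⟩
    · obtain ⟨y, h, z, e⟩ := hdec _ (hsne x hx)
      exact ⟨(y, h, z), fun _ => e⟩
  choose F hF using hex
  let S : V → V := fun x => if x = 0 then 0 else (F x).1
  let η : V → H := fun x => (F x).2.1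
  let T : V → V := fun x => (F x).2.2
  have hS0 : S 0 = 0 := if_pos rfl
  have key : ∀ x, x ≠ 0 → s * τ x * s = τ (S x) * s * χ (η x) * τ (T x) := by
    intro x hx
    have : S x = (F x).1 := if_neg hx
    rw [this]
    exact hF x hx
  have kuniq : ∀ {x y z : V} {h : H}, x ≠ 0 → s * τ x * s = τ y * s * χ h * τ z →
      S x = y ∧ η x = h ∧ T x = z := fun hx e => huniq ((key _ hx).symm.trans e)
  have hneg : ∀ x, x ≠ 0 → S (-x) = -T x ∧ η (-x) = η x ∧ T (-x) = -S x := by
    intro x hx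
    apply kuniq (neg_ne_zero.2 hx)
    have h1 : s * τ (-x) * s = (s * τ x * s)⁻¹ := by
      rw [hτneg, mul_inv_rev, mul_inv_rev, hsinv, mul_assoc]
    rw [h1, key x hx, hτneg, hτneg]
    calc (τ (S x) * s * χ (η x) * τ (T x))⁻¹ = (τ (T x))⁻¹ * ((χ (η x))⁻¹ * s⁻¹) * (τ (S x))⁻¹ := by
          group
      _ = (τ (T x))⁻¹ * (s * χ (η x)) * (τ (S x))⁻¹ := by rw [hsinv, hχs2]
      _ = (τ (T x))⁻¹ * s * χ (η x) * (τ (S x))⁻¹ := by group
  have hSne : ∀ x, x ≠ 0 → S x ≠ 0 := by
    intro x hx h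
    have h1 := congrArg (fun g : G => g • a) (key x hx)
    simp only [mul_smul, hτa, hχa, hsa] at h1
    rw [h, hτ0, one_smul] at h1
    -- s • τ x • b = b
    have h2 : τ x • b = a := by
      have h3 : s • τ x • b = s • a := by rw [h1, hsa]
      exact MulAction.injective s h3
    exact hτne x h2
  have hSS : ∀ x, x ≠ 0 → S (S x) = x ∧ η (S x) = (η x)⁻¹ ∧ T (S x) = η x • (-T x) := by
    intro x hx
    apply kuniq (hSne x hx)
    have h1 : τ (S x) = (s * τ x * s) * τ (-T x) * (χ (η x))⁻¹ * s := by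
      rw [key x hx, hτneg]
      calc τ (S x) = τ (S x) * (s * s) := by rw [hss, mul_one]
        _ = τ (S x) * s * χ (η x) * τ (T x) * (τ (T x))⁻¹ * (χ (η x))⁻¹ * s := by group
    have h2 : s * τ (S x) * s = (s * s) * τ x * s * (τ (-T x) * (χ (η x))⁻¹) * (s * s) := by
      rw [h1]; group
    rw [h2, hss, one_mul, mul_one]
    have h3 : τ (-T x) * (χ (η x))⁻¹ = χ (η x)⁻¹ * τ (η x • (-T x)) := by
      rw [← map_inv, hχτ2, inv_inv]
    rw [h3]; group
  have hsm : ∀ (h : H) x, x ≠ 0 → S (h • x) = h⁻¹ • S x ∧ η (h • x) = h * η x * h ∧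
      T (h • x) = h⁻¹ • T x := by
    intro h x hx
    have hx' : h • x ≠ 0 := by
      intro h0
      apply hx
      rw [← smul_zero h] at h0
      exact MulAction.injective h h0
    apply kuniq hx'
    rw [← hχτ]
    have h1 : s * (χ h * τ x * (χ h)⁻¹) * s = (s * χ h) * τ x * ((χ h)⁻¹ * s) := by group
    have h2 : s * χ h = χ h⁻¹ * s := by rw [← hχs2, map_inv]
    rw [h1, h2, hχs2]
    -- χ h⁻¹ s τ x s χ h
    have h3 : χ h⁻¹ * s * τ x * (s * χ h) = χ h⁻¹ * (s * τ x * s) * χ h := by group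
    rw [h3, key x hx]
    have h4 : χ h⁻¹ * (τ (S x) * s * χ (η x) * τ (T x)) * χ h =
        (χ h⁻¹ * τ (S x)) * s * χ (η x) * (τ (T x) * χ h) := by group
    rw [h4, hχτ' h⁻¹ (S x), hχτ2 h (T x)]
    have h5 : τ (h⁻¹ • S x) * χ h⁻¹ * s * χ (η x) * (χ h * τ (h⁻¹ • T x)) =
        τ (h⁻¹ • S x) * (χ h⁻¹ * s) * χ (η x) * χ h * τ (h⁻¹ • T x) := by group
    rw [h5, ← h2]
    simp only [map_mul]
    group
  have hadd : ∀ f g, f ≠ 0 → g ≠ 0 → f + g ≠ 0 → T f + S g ≠ 0 ∧
      S (f + g) = S f + (η f)⁻¹ • S (T f + S g) ∧ η (f + g) = η f * η g * η (T f + S g) := by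
    intro f g hf hg hfg
    have e1 : s * τ (f + g) * s = τ (S f) * s * χ (η f) * τ (T f + S g) * s * χ (η g) * τ (T g) := by
      have : s * τ (f + g) * s = (s * τ f * s) * (s * τ g * s) := by
        rw [hτadd]
        calc s * (τ f * τ g) * s = s * τ f * 1 * τ g * s := by group
          _ = s * τ f * (s * s) * τ g * s := by rw [hss]
          _ = (s * τ f * s) * (s * τ g * s) := by group
      rw [this, key f hf, key g hg, hτadd]
      group
    have hw : T f + S g ≠ 0 := by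
      intro h0
      apply hsne _ hfg
      rw [e1, h0, hτ0]
      simp only [mul_smul, hτa, hχa, hsa, hχb, one_smul, hsb]
    refine ⟨hw, ?_⟩
    set w := T f + S g with hwdef
    have hw' : η f • w ≠ 0 := by
      intro h0
      apply hw
      rw [← smul_zero (η f)] at h0
      exact MulAction.injective (η f) h0
    obtain ⟨m1, m2, m3⟩ := hsm (η f) w hw
    have e2 : s * τ (f + g) * s = τ (S f + (η f)⁻¹ • S w) * s * χ (η f * η g * η w) *
        τ (((η f)⁻¹ * η g)⁻¹ • T (η f • w) + T g) := by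
      rw [e1, hτadd (S f) _, hτadd _ (T g)]
      have h1 : τ (S f) * s * χ (η f) * τ w * s * χ (η g) * τ (T g) =
          τ (S f) * (s * (χ (η f) * τ w) * s) * χ (η g) * τ (T g) := by group
      have h2 : s * (χ (η f) * τ w) * s = (s * τ (η f • w) * s) * χ (η f)⁻¹ := by
        rw [hχτ']
        have : s * (τ (η f • w) * χ (η f)) * s = s * τ (η f • w) * (χ (η f) * s) := by group
        rw [this, hχs', map_inv]; group
      rw [h1, h2, key _ hw', m1]
      have h3 : τ (S f) * (τ ((η f)⁻¹ • S w) * s * χ (η (η f • w)) * τ (T (η f • w)) * χ (η f)⁻¹) *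
          χ (η g) * τ (T g) = τ (S f) * τ ((η f)⁻¹ • S w) * s * χ (η (η f • w)) *
          (τ (T (η f • w)) * χ ((η f)⁻¹ * η g)) * τ (T g) := by
        rw [map_mul]; group
      rw [h3, hχτ2, m2]
      have h4 : η f * η g * η w = η f * η w * η f * ((η f)⁻¹ * η g) := by
        calc η f * η g * η w = η f * (η g * η w) := mul_assoc _ _ _
          _ = η f * (η w * η g) := by rw [mul_comm (η g)]
          _ = η f * η w * η f * ((η f)⁻¹ * η g) := by group
      rw [h4]
      simp only [map_mul]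
      group
    obtain ⟨n1, n2, -⟩ := kuniq hfg e2
    exact ⟨n1, n2⟩
  refine ⟨{
    S := S
    η := η
    S_zero := hS0
    S_ne := fun {v} hv => hSne v hv
    S_S := fun v => by
      by_cases hv : v = 0
      · rw [hv, hS0, hS0]
      · exact (hSS v hv).1
    S_smul := fun h v => by
      by_cases hv : v = 0
      · rw [hv, smul_zero, hS0, smul_zero]
      · exact (hsm h v hv).1
    η_smul := fun h {v} hv => by
      rw [(hsm h v hv).2.1, sq, mul_assoc, mul_comm (η v), mul_assoc]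
    η_neg := fun {v} hv => (hneg v hv).2.1
    η_S := fun {v} hv => (hSS v hv).2.1
    braid := fun {v} hv => by
      rw [(hneg _ (hSne v hv)).1, (hSS v hv).2.2, (hneg v hv).1, smul_neg]
    free := free
    w_ne := fun {f g} hf hg hfg => by
      rw [(hneg f hf).1, neg_neg]
      exact (hadd f g hf hg hfg).1
    S_add := fun {f g} hf hg hfg => by
      rw [(hneg f hf).1, neg_neg]
      exact (hadd f g hf hg hfg).2.1
    η_add := fun {f g} hf hg hfg => by
      rw [(hneg f hf).1, neg_neg]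
      exact (hadd f g hf hg hfg).2.2 }, ?_⟩
  intro x hx
  have h1 := congrArg (fun g : G => g • a) (key x hx)
  simp only [mul_smul, hτa, hχa, hsa] at h1
  exact h1

end Cfsg.Agent.Lib.Rk1
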