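import Mathlib
import Cfsg.Agent.Lib.Rk1
import Cfsg.Agent.Lib.FrobAction

/-!
Abstract rank one groups, odd order: counting and the near-field (helper13).
-/

set_option autoImplicit false

namespace Cfsg.Agent.Lib.Rk1

universe u v

variable {V : Type u} {H : Type v} [AddCommGroup V] [CommGroup H] [DistribMulAction H V]

namespace Data

variable {D : Data V H}

/-- if all elements of `E` are two-types, then `|V| = 2 |H| + 1` -/
theorem card_of_two [Finite V] [Finite H] (hH : Odd (Nat.card H)) (htor : ∀ v : V, v + v = 0 → v = 0)
    {x : V} (hx : D.InE x) (hall : ∀ f, D.InE f → D.Two f) : Nat.card V = 2 * Nat.card H + 1 := by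
  classical
  have hnx : x ≠ -x := by
    intro h
    apply hx.1
    apply htor
    nth_rw 2 [h]
    exact add_neg_cancel x
  have hinj : ∀ h k : H, h • x = k • x → h = k := by
    intro h k e
    have h1 : (k⁻¹ * h) • x = x := by rw [mul_smul, e, inv_smul_smul]
    have h2 := D.free _ hx.1 h1
    exact (inv_mul_eq_one.1 h2).symm
  have hneg : ∀ h k : H, h • x = -(k • x) → False := by
    intro h k e
    have h1 : (k⁻¹ * h) • x = -x := by rw [mul_smul, e, smul_neg, inv_smul_smul]
    have h2 := inE_smul hH hx (h := k⁻¹ * h) (by rw [h1]; exact hx.neg)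
    rw [h2, one_smul] at h1
    exact hnx h1
  have e : Option (Bool × H) ≃ V := Equiv.ofBijective
    (fun y => match y with
      | none => 0
      | some (i, h) => if i then h • x else -(h • x)) (by
      constructor
      · intro y z hyz
        rcases y with _ | ⟨i, h⟩ <;> rcases z with _ | ⟨j, k⟩
        · rfl
        · exfalso
          cases j
          · have h1 : (0 : V) = -(k • x) := hyz
            exact smul_ne k hx.1 (neg_eq_zero.1 h1.symm)
          · have h1 : (0 : V) = k • x := hyz
            exact smul_ne k hx.1 h1.symm
        · exfalso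
          cases i
          · have h1 : -(h • x) = (0 : V) := hyz
            exact smul_ne h hx.1 (neg_eq_zero.1 h1)
          · have h1 : h • x = (0 : V) := hyz
            exact smul_ne h hx.1 h1
        · cases i <;> cases j
          · have h1 : -(h • x) = -(k • x) := hyz
            rw [hinj h k (neg_injective h1)]
          · have h1 : -(h • x) = k • x := hyz
            exact absurd h1.symm (fun h2 => hneg k h h2)
          · have h1 : h • x = -(k • x) := hyz
            exact absurd h1 (fun h2 => hneg h k h2)
          · have h1 : h • x = k • x := hyz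
            rw [hinj h k h1]
      · intro v
        by_cases hv : v = 0
        · exact ⟨none, hv.symm⟩
        · obtain ⟨h, hh⟩ := D.exists_E hH hv
          rcases hx.two_unique (hall x hx) hh (hall _ hh) with h1 | h1
          · refine ⟨some (true, h⁻¹), ?_⟩
            show h⁻¹ • x = v
            rw [← h1, inv_smul_smul]
          · refine ⟨some (false, h⁻¹), ?_⟩
            show -(h⁻¹ • x) = v
            rw [← smul_neg, ← h1, inv_smul_smul])
  rw [← Nat.card_congr e, Finite.card_option, Nat.card_prod, Nat.card_eq_fintype_card (α := Bool),
    Fintype.card_bool]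

/-! ### the subgroup `U = E ∪ {0}` -/

section Closed

variable (hH : Odd (Nat.card H)) (hcl : ∀ {f g : V}, D.InE f → D.InE g → f + g ≠ 0 → D.InE (f + g))

/-- `E ∪ {0}` as a subgroup -/
def U (D : Data V H) (hcl : ∀ {f g : V}, D.InE f → D.InE g → f + g ≠ 0 → D.InE (f + g)) :
    AddSubgroup V where
  carrier := {v | v = 0 ∨ D.InE v}
  zero_mem' := Or.inl rfl
  add_mem' := by
    rintro x y (rfl | hx) (rfl | hy)
    · left; exact add_zero _
    · right; rw [zero_add]; exact hy
    · right; rw [add_zero]; exact hx
    · by_cases h : x + y = 0
      · exact Or.inl h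
      · exact Or.inr (hcl hx hy h)
  neg_mem' := by
    rintro x (rfl | hx)
    · left; exact neg_zero
    · exact Or.inr hx.neg

theorem mem_U {x : V} : x ∈ D.U hcl ↔ x = 0 ∨ D.InE x := Iff.rfl

include hH hcl in
/-- the components are closed under addition -/
theorem comp_add {v w : V} (hv : v ≠ 0) (hw : w ≠ 0) (hvw : v + w ≠ 0) (e : D.η v = D.η w) :
    D.η (v + w) = D.η v := by
  obtain ⟨h, hh⟩ := D.exists_E hH hv
  have h1 := inE_of_η hh hv hw e.symm
  have h2 : D.InE (h • (v + w)) := by
    rw [smul_add]
    apply hcl hh h1
    rw [← smul_add]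
    exact smul_ne h hvw
  have h3 := hh.2
  rw [D.η_smul h hv] at h3
  have h4 := h2.2
  rw [D.η_smul h hvw] at h4
  exact mul_left_cancel (h4.trans h3.symm)

include hH hcl in
theorem comp_nsmul {v : V} (hv : v ≠ 0) (n : ℕ) (hn : n • v ≠ 0) : D.η (n • v) = D.η v := by
  induction n with
  | zero => exact absurd (zero_smul ℕ v) hn
  | succ n ih =>
    by_cases h0 : n • v = 0
    · rw [succ_nsmul, h0, zero_add]
    · rw [succ_nsmul] at hn ⊢
      rw [comp_add hH hcl h0 hv hn (ih h0), ih h0]

include hH hcl in
theorem exponent_aux {p : ℕ} {x y : V} (hx : x ≠ 0) (hpx : p • x = 0) (hy : y ≠ 0)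
    (hxy : D.η y ≠ D.η x) : p • y = 0 := by
  by_contra hpy
  have hxy0 : x + y ≠ 0 := by
    intro h
    apply hxy
    have : y = -x := by rw [eq_neg_iff_add_eq_zero, add_comm]; exact h
    rw [this, D.η_neg hx]
  have h1 : p • (x + y) = p • y := by rw [smul_add, hpx, zero_add]
  have h2 : D.η (x + y) ≠ D.η y := by
    intro h
    apply hxy
    have h3 : x = (x + y) + -y := by abel
    have h4 := comp_add hH hcl hxy0 (neg_ne_zero.2 hy) (by rw [← h3]; exact hx)
      (by rw [D.η_neg hy]; exact h)
    rw [← h3, h] at h4
    exact h4.symm
  apply h2
  rw [← comp_nsmul hH hcl hxy0 p (by rw [h1]; exact hpy), h1, comp_nsmul hH hcl hy p hpy]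

include hH hcl in
theorem exponent [Finite V] [Nontrivial H] [Nontrivial V] : ∃ p : ℕ, p.Prime ∧ ∀ v : V, p • v = 0 := by
  have h1 : Nat.card V ≠ 1 := by
    intro h
    have := (Nat.card_eq_one_iff_unique.1 h).1
    exact not_subsingleton V this
  obtain ⟨p, hp, hpV⟩ := Nat.exists_prime_and_dvd h1
  have := Fact.mk hp
  obtain ⟨x, hx⟩ := exists_prime_addOrderOf_dvd_card' p hpV
  have hx0 : x ≠ 0 := by
    rintro rfl
    rw [addOrderOf_zero] at hx
    exact hp.one_lt.ne hx
  have hpx : p • x = 0 := by rw [← hx]; exact addOrderOf_nsmul_eq_zero x
  obtain ⟨h, hh⟩ := exists_ne (1 : H)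
  have hne : D.η (h • x) ≠ D.η x := by
    rw [D.η_smul h hx0]
    intro e
    have h2 : h ^ 2 = 1 := by
      have : h ^ 2 * D.η x = 1 * D.η x := by rw [one_mul]; exact e
      exact mul_right_cancel this
    exact hh (sq_inj hH (h2.trans (one_pow 2).symm))
  refine ⟨p, hp, fun v => ?_⟩
  by_cases hv : v = 0
  · rw [hv, smul_zero]
  by_cases hvx : D.η v = D.η x
  · apply exponent_aux hH hcl (x := h • x) (smul_ne h hx0) (by rw [smul_comm, hpx, smul_zero]) hv
    rw [hvx]; exact hne.symm
  · exact exponent_aux hH hcl hx0 hpx hv hvx

section Near

variable (hσ : ∀ {f : V}, D.InE f → D.σ f = f)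

open scoped Classical in
/-- near-field addition on `U ∪ {∞}` -/
noncomputable def op (D : Data V H) : Option V → Option V → Option V
  | none, y => y
  | some x, none => some x
  | some x, some y => if x = y then none else some (y + D.S (x - y))

theorem op_none_left (y : Option V) : op D none y = y := by
  cases y <;> rfl
theorem op_none_right (x : Option V) : op D x none = x := by
  cases x <;> rfl
theorem op_self (x : Option V) : op D x x = none := by
  cases x with
  | none => rfl
  | some x => exact if_pos rfl
theorem op_ne {x y : V} (h : x ≠ y) : op D (some x) (some y) = some (y + D.S (x - y)) := if_neg h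

/-- elements of `U` -/
def InU (D : Data V H) (x : Option V) : Prop := ∀ y, x = some y → y = 0 ∨ D.InE y

include hcl in
theorem sub_mem {x y : V} (hx : InU D (some x)) (hy : InU D (some y)) (hxy : x ≠ y) :
    D.InE (x - y) := by
  have h1 : x - y ∈ D.U hcl := (D.U hcl).sub_mem ((mem_U hcl).2 (hx x rfl)) ((mem_U hcl).2 (hy y rfl))
  exact h1.resolve_left (sub_ne_zero.2 hxy)

include hcl in
theorem op_mem {x y : Option V} (hx : InU D x) (hy : InU D y) : InU D (op D x y) := by
  cases x with
  | none => rw [op_none_left]; exact hy
  | some x =>
    cases y with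
    | none => rw [op_none_right]; exact hx
    | some y =>
      by_cases h : x = y
      · rw [h, op_self]; intro z hz; cases hz
      · rw [op_ne h]
        intro z hz
        have h1 : y + D.S (x - y) = z := Option.some_injective _ hz
        rw [← h1]
        exact (D.U hcl).add_mem ((mem_U hcl).2 (hy y rfl))
          ((mem_U hcl).2 (Or.inr (sub_mem hcl hx hy h).S))

include hcl hσ in
theorem op_comm {x y : Option V} (hx : InU D x) (hy : InU D y) : op D x y = op D y x := by
  cases x with
  | none => rw [op_none_left, op_none_right]
  | some x =>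
    cases y with
    | none => rw [op_none_left, op_none_right]
    | some y =>
      by_cases h : x = y
      · rw [h]
      · rw [op_ne h, op_ne (Ne.symm h)]
        have h1 := hσ (sub_mem hcl hx hy h)
        have h2 : y - x = -(x - y) := by abel
        rw [σ] at h1
        rw [h2, D.S_neg]
        congr 1
        linear_combination (norm := abel) h1

include hcl hσ in
theorem op_assoc {x y z : Option V} (hx : InU D x) (hy : InU D y) (hz : InU D z) :
    op D (op D x y) z = op D x (op D y z) := by
  cases x with
  | none => rw [op_none_left, op_none_left]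
  | some x =>
  cases y with
  | none => rw [op_none_left, op_none_right]
  | some y =>
  cases z with
  | none => rw [op_none_right, op_none_right]
  | some z =>
  -- `x ∘ (x ∘ z) = z`
  have key : ∀ {x z : V}, InU D (some x) → InU D (some z) →
      op D (some x) (op D (some x) (some z)) = some z := by
    intro x z hx hz
    by_cases h : x = z
    · rw [h, op_self, op_none_right]
    · rw [op_ne h]
      have hE := sub_mem hcl hx hz h
      have h1 := hσ hE
      rw [σ] at h1
      have hne : x ≠ z + D.S (x - z) := by
        intro h'
        apply D.T_ne hE.1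
        have h3 : D.T (x - z) = (x - z) - D.S (x - z) := by linear_combination (norm := abel) h1
        rw [h3, sub_eq_zero]
        linear_combination (norm := abel) h'
      rw [op_ne hne]
      have h4 : x - (z + D.S (x - z)) = D.T (x - z) := by linear_combination (norm := abel) -h1
      rw [h4, hE.S_T]
      congr 1; abel
  by_cases hxy : x = y
  · subst hxy
    rw [op_self, op_none_left, key hx hz]
  by_cases hyz : y = z
  · subst hyz
    rw [op_self, op_none_right, op_comm hcl hσ (op_mem hcl hx hy) hy, op_comm hcl hσ hx hy,
      key hy hx]
  have hf := sub_mem hcl hy hz hyz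
  have hg := (sub_mem hcl hx hy hxy).S
  by_cases htz : y + D.S (x - y) = z
  · -- both sides vanish
    have h1 : op D (some x) (some y) = some z := by rw [op_ne hxy, htz]
    have h2 : some x = op D (some y) (some z) := by
      rw [op_comm hcl hσ hx hy] at h1
      rw [← h1, key hy hx]
    rw [h1, op_self, ← h2, op_self]
  · have hw : x ≠ z + D.S (y - z) := by
      intro h
      apply htz
      have h2 : op D (some y) (some z) = some x := by rw [op_ne hyz, ← h]
      have h3 : op D (some y) (some x) = some z := by rw [← h2, key hy hz]
      rw [op_comm hcl hσ hy hx, op_ne hxy] at h3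
      exact Option.some_injective _ h3
    rw [op_ne hxy, op_ne hyz, op_ne htz, op_ne hw]
    congr 1
    have hfg : (y - z) + D.S (x - y) ≠ 0 := by
      intro h
      apply htz
      linear_combination (norm := abel) h
    have h1 := hf.S_add hg hfg
    rw [D.S_S] at h1
    have h2 := hσ hf
    rw [σ] at h2
    have h3 : D.T (y - z) + (x - y) = x - (z + D.S (y - z)) := by
      linear_combination (norm := abel) h2
    rw [h3] at h1
    have h4 : y + D.S (x - y) - z = (y - z) + D.S (x - y) := by abel
    rw [h4, h1]; abel

include hcl hσ in
/-- `U` is cyclic -/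
theorem U_cyclic [Finite V] : IsAddCyclic (D.U hcl) := by
  classical
  let W := {x : Option V // InU D x}
  have hWfin : Finite W := inferInstance
  let _ : CommGroup W := {
    mul := fun x y => ⟨op D x.1 y.1, op_mem hcl x.2 y.2⟩
    one := ⟨none, fun y h => by cases h⟩
    inv := fun x => x
    mul_assoc := fun x y z => Subtype.ext (op_assoc hcl hσ x.2 y.2 z.2)
    one_mul := fun x => Subtype.ext (op_none_left (D := D) x.1)
    mul_one := fun x => Subtype.ext (op_none_right (D := D) x.1)
    inv_mul_cancel := fun x => Subtype.ext (op_self (D := D) x.1)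
    mul_comm := fun x y => Subtype.ext (op_comm hcl hσ x.2 y.2) }
  have hmul : ∀ x y : W, (x * y).1 = op D x.1 y.1 := fun _ _ => rfl
  have hone : (1 : W).1 = none := rfl
  have hnt : Nontrivial W := ⟨⟨⟨some 0, fun y h => Or.inl (Option.some_injective _ h).symm⟩, 1, fun h => by
    have := congrArg Subtype.val h
    cases this⟩⟩
  let tr : V → Option V → Option V := fun u x => x.map (fun y => y + u)
  have htrU : ∀ u ∈ D.U hcl, ∀ x, InU D x → InU D (tr u x) := by
    intro u hu x hx z hz
    cases x with
    | none => cases hz
    | some x =>
      have h1 : x + u = z := Option.some_injective _ hz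
      rw [← h1]
      exact (D.U hcl).add_mem ((mem_U hcl).2 (hx x rfl)) hu
  have htrop : ∀ u x y, tr u (op D x y) = op D (tr u x) (tr u y) := by
    intro u x y
    cases x with
    | none => rw [op_none_left]; exact (op_none_left _).symm
    | some x =>
      cases y with
      | none => rw [op_none_right]; exact (op_none_right _).symm
      | some y =>
        by_cases h : x = y
        · rw [h, op_self, op_self]; rfl
        · have h' : x + u ≠ y + u := fun h2 => h (add_right_cancel h2)
          rw [op_ne h]
          show some ((y + D.S (x - y)) + u) = op D (some (x + u)) (some (y + u))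
          rw [op_ne h']
          have : x + u - (y + u) = x - y := by abel
          rw [this]
          congr 1; abel
  have htr0 : ∀ x, tr 0 x = x := by
    intro x
    cases x with
    | none => rfl
    | some x => show some (x + 0) = some x; rw [add_zero]
  have htradd : ∀ u v x, tr (u + v) x = tr u (tr v x) := by
    intro u v x
    cases x with
    | none => rfl
    | some x => show some (x + (u + v)) = some (x + v + u); congr 1; abel
  let act : Multiplicative (D.U hcl) →* MulAut W := {
    toFun := fun u => {
      toFun := fun x => ⟨tr (Multiplicative.toAdd u).1 x.1, htrU _ (Multiplicative.toAdd u).2 _ x.2⟩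
      invFun := fun x => ⟨tr (-(Multiplicative.toAdd u).1) x.1,
        htrU _ ((D.U hcl).neg_mem (Multiplicative.toAdd u).2) _ x.2⟩
      left_inv := fun x => Subtype.ext (by
        show tr _ (tr _ x.1) = x.1
        rw [← htradd, neg_add_cancel, htr0])
      right_inv := fun x => Subtype.ext (by
        show tr _ (tr _ x.1) = x.1
        rw [← htradd, add_neg_cancel, htr0])
      map_mul' := fun x y => Subtype.ext (htrop _ x.1 y.1) }
    map_one' := by
      apply MulEquiv.ext
      intro x
      exact Subtype.ext (htr0 x.1)
    map_mul' := fun u v => by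
      apply MulEquiv.ext
      intro x
      exact Subtype.ext (htradd _ _ x.1) }
  have hf : FrobAction.IsFPF act := by
    intro u hu x hx
    have h1 : tr (Multiplicative.toAdd u).1 x.1 = x.1 := congrArg Subtype.val hx
    apply Subtype.ext
    show x.1 = none
    cases h2 : x.1 with
    | none => rfl
    | some y =>
      exfalso
      apply hu
      rw [h2] at h1
      have h3 : y + (Multiplicative.toAdd u).1 = y := Option.some_injective _ h1
      have h4 : (Multiplicative.toAdd u).1 = 0 := by
        rwa [add_eq_left] at h3
      apply Multiplicative.toAdd.injective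
      exact Subtype.ext h4
  have hc := FrobAction.isCyclic_of_comm hf (fun a b => mul_comm a b)
  exact isCyclic_multiplicative_iff.1 hc

end Near

end Closed

end Data

end Cfsg.Agent.Lib.Rk1
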