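import Mathlib
import Cfsg.Agent.Lib.Rk1b
import Cfsg.Agent.Lib.PF9Field

/-!
Abstract rank one groups, odd order: the final contradiction (helper13).
-/

set_option autoImplicit false

namespace Cfsg.Agent.Lib.Rk1

universe u v

variable {V : Type u} {H : Type v} [AddCommGroup V] [CommGroup H] [DistribMulAction H V]

namespace Data

variable {D : Data V H}

theorem lin_indep {𝕂 : Type*} [Field 𝕂] (P : Subfield 𝕂) {x A B : 𝕂} (hx : x ∉ P) (hA : A ∈ P)
    (hB : B ∈ P) (e : x * A = B) : A = 0 ∧ B = 0 := by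
  by_cases h : A = 0
  · refine ⟨h, ?_⟩
    rw [← e, h, mul_zero]
  · exfalso
    apply hx
    have : x = B / A := by field_simp; exact e
    rw [this]
    exact P.div_mem hB hA

/-- the contradiction in the field -/
theorem field_aux [Finite H] (hH : Odd (Nat.card H)) (hσ : ∀ {f : V}, D.InE f → D.σ f = f)
    {𝕂 : Type*} [Field 𝕂] (P : Subfield 𝕂) (e : V ≃+ 𝕂) (ψ : H →* 𝕂)
    (hψ : ∀ h v, e (h • v) = ψ h * e v) (hP : ∀ f, D.InE f → e f ∈ P) {h0 : H} (hh0 : ψ h0 ∉ P)
    {f0 : V} (hf0 : D.InE f0) (hf02 : ¬ D.Two f0) : False := by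
  have h01 : h0 ≠ 1 := by
    rintro rfl
    apply hh0
    rw [map_one]; exact P.one_mem
  have he0 : ∀ {v}, v ≠ 0 → e v ≠ 0 := fun hv h => hv (e.injective (h.trans e.map_zero.symm))
  have hψ0 : ∀ h, ψ h ≠ 0 := by
    intro h h'
    have h1 : ψ h * ψ h⁻¹ = 1 := by rw [← map_mul, mul_inv_cancel, map_one]
    rw [h', zero_mul] at h1
    exact zero_ne_one h1
  set x := ψ h0 with hx
  have hxne : x ≠ 0 := hψ0 h0
  have key : ∀ α β, D.InE α → D.InE β → e β * e (D.S β) = e α * e (D.T α) ∧
      (∃ y, D.InE y ∧ e y * e (D.S y) = -(e β * e (D.S α) * e (D.S β)) / e α) := by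
    intro α β hα hβ
    have hf : h0 • α ≠ 0 := smul_ne h0 hα.1
    have hfg : h0 • α + β ≠ 0 := by
      intro h
      apply h01
      have h1 : h0 • α = -β := by rw [eq_neg_iff_add_eq_zero]; exact h
      exact inE_smul hH hα (by rw [h1]; exact hβ.neg)
    have hS := D.S_add' hf hβ.1 hfg
    have hη := D.η_add' hf hβ.1 hfg
    have hw := D.w_ne' hf hβ.1 hfg
    set w := D.T (h0 • α) + D.S β with hwdef
    set v := h0 • α + β with hvdef
    rw [D.η_smul h0 hα.1, hα.2, mul_one] at hS hη
    rw [hβ.2, mul_one] at hη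
    obtain ⟨k, hk⟩ := D.exists_E hH hfg
    have hk2 : D.InE (k • (h0 • w)) := inE_of_η hk hfg (smul_ne h0 hw) (by rw [D.η_smul h0 hw, hη])
    set y := k • v with hy
    set y2 := k • (h0 • w) with hy2
    set κ := ψ k with hκ
    have hκ0 : κ ≠ 0 := hψ0 k
    -- coordinates
    have c1 : e y = κ * (x * e α + e β) := by rw [hy, hψ, hvdef, map_add, hψ]
    have c2 : e (D.S v) = κ * e (D.S y) := by
      rw [hy, D.S_smul, hψ]
      have : κ * ψ k⁻¹ = 1 := by rw [hκ, ← map_mul, mul_inv_cancel, map_one]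
      rw [← mul_assoc, this, one_mul]
    have hinvx : ψ h0⁻¹ * x = 1 := by rw [hx, ← map_mul, inv_mul_cancel, map_one]
    have c3 : e w * x = e (D.T α) + x * e (D.S β) := by
      rw [hwdef, map_add, D.T_smul, hψ, add_mul]
      linear_combination (e (D.T α)) * hinvx
    have c4 : e y2 = κ * (x * e w) := by rw [hy2, hψ, hψ]
    have c5 : e (D.S w) = κ * x * e (D.S y2) := by
      rw [hy2, D.S_smul, D.S_smul, hψ, hψ]
      have h1 : κ * ψ k⁻¹ = 1 := by rw [hκ, ← map_mul, mul_inv_cancel, map_one]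
      linear_combination (-(x * ψ h0⁻¹) * e (D.S w)) * h1 - (e (D.S w)) * hinvx
    have c6 : e (D.S v) * (x * x) = x * e (D.S α) + e (D.S w) := by
      rw [hS, map_add, hψ, D.S_smul, hψ]
      have h2 : ψ (h0 ^ 2)⁻¹ * (x * x) = 1 := by
        rw [hx, ← map_mul, ← map_mul, ← sq, inv_mul_cancel, map_one]
      linear_combination (x * e (D.S α)) * hinvx + (e (D.S w)) * h2
    -- memberships
    have pα := hP α hα
    have pβ := hP β hβ
    have pSα := hP _ hα.S
    have pTα := hP _ hα.T
    have pSβ := hP _ hβ.S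
    have py := hP _ hk
    have pSy := hP _ hk.S
    have py2 := hP _ hk2
    have pSy2 := hP _ hk2.S
    -- the relations
    have r1 : κ * (x * e (D.S y)) = e (D.S α) + κ * e (D.S y2) := by
      apply mul_left_cancel₀ hxne
      rw [c2, c5] at c6
      linear_combination c6
    have r2 : x * (e (D.S y) * e y - e α * e (D.S α)) = e β * e (D.S α) + e (D.S y2) * e y := by
      have hκv : κ ≠ 0 := hκ0
      apply mul_left_cancel₀ hκv
      linear_combination (e y) * r1 + (e (D.S α)) * c1
    have r3 : x * (e y * e (D.S β) - e y2 * e α) = e y2 * e β - e y * e (D.T α) := by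
      have h1 : e y2 = κ * (e (D.T α) + x * e (D.S β)) := by rw [c4, mul_comm x, c3]
      apply mul_left_cancel₀ hκ0
      linear_combination (-(e y)) * h1 + (e y2) * c1
    obtain ⟨a1, a2⟩ := lin_indep P hh0 (P.sub_mem (P.mul_mem pSy py) (P.mul_mem pα pSα))
      (P.add_mem (P.mul_mem pβ pSα) (P.mul_mem pSy2 py)) r2
    obtain ⟨a3, a4⟩ := lin_indep P hh0 (P.sub_mem (P.mul_mem py pSβ) (P.mul_mem py2 pα))
      (P.sub_mem (P.mul_mem py2 pβ) (P.mul_mem py pTα)) r3
    have ey0 := he0 hk.1
    have eα0 := he0 hα.1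
    refine ⟨?_, y2, hk2, ?_⟩
    · apply mul_left_cancel₀ ey0
      linear_combination (e β) * a3 + (e α) * a4
    · rw [eq_div_iff eα0]
      apply mul_left_cancel₀ ey0
      linear_combination (e y2 * e α) * a2 + (e β * e (D.S α)) * a3
  -- the product is constant
  set c := e f0 * e (D.T f0) with hc
  have hc1 : ∀ β, D.InE β → e β * e (D.S β) = c := fun β hβ => (key f0 β hf0 hβ).1
  have hc0 : c ≠ 0 := mul_ne_zero (he0 hf0.1) (he0 hf0.T.1)
  have hc2 : ∀ α, D.InE α → e α * e α = -c := by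
    intro α hα
    obtain ⟨-, y, hy, h1⟩ := key α α hα hα
    rw [hc1 y hy] at h1
    have hα0 := he0 hα.1
    have h2 := hc1 α hα
    have h3 : c * (e α * e α) = -(c * c) := by
      have h4 : c * e α = -(e α * e (D.S α) * e (D.S α)) := by
        rw [h1]; field_simp
      calc c * (e α * e α) = (c * e α) * e α := by ring
        _ = -((e α * e (D.S α)) * (e α * e (D.S α))) := by rw [h4]; ring
        _ = -(c * c) := by rw [h2]
    apply mul_left_cancel₀ hc0
    rw [h3]; ring
  have h1 := hc2 f0 hf0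
  have h2 := hc2 _ hf0.S
  have h3 : (e (D.S f0) - e f0) * (e (D.S f0) + e f0) = 0 := by linear_combination h2 - h1
  rcases mul_eq_zero.1 h3 with h | h
  · have h4 : D.S f0 = f0 := e.injective (sub_eq_zero.1 h)
    have h5 := hσ hf0
    rw [σ, h4, add_eq_left] at h5
    exact hf0.T.1 h5
  · apply hf02
    show D.S f0 = -f0
    apply e.injective
    rw [map_neg]
    exact eq_neg_of_add_eq_zero_left h

/-- all elements of `E` are two-types -/
theorem all_two [Finite V] [Finite H] [Nontrivial H] (hH : Odd (Nat.card H))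
    (htor : ∀ v : V, v + v = 0 → v = 0) {f0 : V} (hf0 : D.InE f0) : D.Two f0 := by
  classical
  by_contra hf02
  have hcl : ∀ {f g : V}, D.InE f → D.InE g → f + g ≠ 0 → D.InE (f + g) := fun hf hg hfg =>
    add_mem hH htor hf0 hf02 hf hg hfg
  have hσ : ∀ {f : V}, D.InE f → D.σ f = f := fun hf => σ_eq_all hH htor hf0 hf02 hf
  have hntV : Nontrivial V := ⟨⟨f0, 0, hf0.1⟩⟩
  obtain ⟨p, hp, hexp⟩ := exponent hH hcl
  have hpf := Fact.mk hp
  set U := D.U hcl with hU
  have hUcyc : IsAddCyclic U := U_cyclic hcl hσ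
  have hUmem : ∀ {v}, v ∈ U ↔ v = 0 ∨ D.InE v := Iff.rfl
  have hf0U : f0 ∈ U := Or.inr hf0
  -- `|U| = p`
  have hUcard : Nat.card U = p := by
    obtain ⟨g, hg⟩ := IsAddCyclic.exists_generator (α := U)
    have h1 : addOrderOf g = Nat.card U := addOrderOf_eq_card_of_forall_mem_zmultiples hg
    have h2 : addOrderOf g ∣ p := addOrderOf_dvd_of_nsmul_eq_zero (Subtype.ext (hexp g))
    rw [h1] at h2
    rcases (Nat.dvd_prime hp).1 h2 with h | h
    · exfalso
      have := (Nat.card_eq_one_iff_unique.1 h).1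
      exact hf0.1 (congrArg Subtype.val (Subsingleton.elim (⟨f0, hf0U⟩ : U) 0))
    · exact h
  have hord : addOrderOf f0 = p := by
    have h2 : addOrderOf f0 ∣ p := addOrderOf_dvd_of_nsmul_eq_zero (hexp f0)
    rcases (Nat.dvd_prime hp).1 h2 with h | h
    · exact absurd (AddMonoid.addOrderOf_eq_one_iff.1 h) hf0.1
    · exact h
  have hmult : ∀ u ∈ U, ∃ k : ℕ, k • f0 = u := by
    intro u hu
    have h1 : AddSubgroup.zmultiples f0 ≤ U := by
      rw [AddSubgroup.zmultiples_le]; exact hf0U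
    have h2 : AddSubgroup.zmultiples f0 = U := by
      apply AddSubgroup.eq_of_le_of_card_ge h1
      rw [hUcard, Nat.card_zmultiples, hord]
    rw [← h2, ← mem_multiples_iff_mem_zmultiples] at hu
    exact AddSubmonoid.mem_multiples_iff _ _ |>.1 hu
  -- `|V| ≤ 1 + |H| (p - 1)`
  have hEcard : Nat.card {u // D.InE u} = p - 1 := by
    have e : Option {u // D.InE u} ≃ U := Equiv.ofBijective
      (fun y => match y with
        | none => ⟨0, Or.inl rfl⟩
        | some u => ⟨u.1, Or.inr u.2⟩) (by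
        constructor
        · intro y z hyz
          rcases y with _ | y <;> rcases z with _ | z
          · rfl
          · exact absurd (congrArg Subtype.val hyz).symm z.2.1
          · exact absurd (congrArg Subtype.val hyz) y.2.1
          · have h0 : (⟨y.1, Or.inr y.2⟩ : U) = ⟨z.1, Or.inr z.2⟩ := hyz
            have h1 : y.1 = z.1 := congrArg (fun w : U => (w : V)) h0
            rw [Subtype.ext h1]
        · rintro ⟨u, hu⟩
          rcases hu with hu | hu
          · exact ⟨none, Subtype.ext hu.symm⟩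
          · exact ⟨some ⟨u, hu⟩, rfl⟩)
    have h1 := Nat.card_congr e
    rw [Finite.card_option, hUcard] at h1
    omega
  have hVle : Nat.card V ≤ Nat.card H * (p - 1) + 1 := by
    have hsurj : Function.Surjective (fun y : Option (H × {u // D.InE u}) => match y with
        | none => (0 : V)
        | some (h, u) => h • u.1) := by
      intro v
      by_cases hv : v = 0
      · exact ⟨none, hv.symm⟩
      · obtain ⟨h, hh⟩ := D.exists_E hH hv
        exact ⟨some (h⁻¹, ⟨_, hh⟩), inv_smul_smul h v⟩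
    have h1 := Nat.card_le_card_of_surjective _ hsurj
    rwa [Finite.card_option, Nat.card_prod, hEcard] at h1
  -- irreducibility
  have hirr : ∀ W : AddSubgroup V, (∀ h : H, ∀ w ∈ W, h • w ∈ W) → W = ⊥ ∨ W = ⊤ := by
    intro W hW
    by_contra hcon
    push Not at hcon
    obtain ⟨hbot, htop⟩ := hcon
    obtain ⟨w, hw, hw0⟩ : ∃ w ∈ W, w ≠ 0 := by
      by_contra hc
      push Not at hc
      apply hbot
      rw [eq_bot_iff]
      intro w hw
      rw [AddSubgroup.mem_bot]
      exact hc w hw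
    have h1 : Nat.card H + 1 ≤ Nat.card W := by
      let φ : Option H → W := fun y => match y with
        | none => 0
        | some h => ⟨h • w, hW h w hw⟩
      have hφ : Function.Injective φ := by
        intro y z hyz
        rcases y with _ | y <;> rcases z with _ | z
        · rfl
        · exact absurd (congrArg Subtype.val hyz).symm (smul_ne z hw0)
        · exact absurd (congrArg Subtype.val hyz) (smul_ne y hw0)
        · have h1 : y • w = z • w := congrArg Subtype.val hyz
          have h2 : (z⁻¹ * y) • w = w := by rw [mul_smul, h1, inv_smul_smul]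
          rw [inv_mul_eq_one.1 (D.free _ hw0 h2)]
      have := Nat.card_le_card_of_injective φ hφ
      rwa [Finite.card_option] at this
    have h2 : p ≤ W.index := by
      have h3 : W.index ≠ 1 := fun h => htop (AddSubgroup.index_eq_one.1 h)
      obtain ⟨q, hq, hqd⟩ := Nat.exists_prime_and_dvd h3
      have := Fact.mk hq
      have h4 : q ∣ Nat.card (V ⧸ W) := hqd
      obtain ⟨y, hy⟩ := exists_prime_addOrderOf_dvd_card' q h4
      have h5 : addOrderOf y ∣ p := by
        apply addOrderOf_dvd_of_nsmul_eq_zero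
        obtain ⟨v, rfl⟩ := QuotientAddGroup.mk_surjective y
        rw [← QuotientAddGroup.mk_nsmul, hexp v, QuotientAddGroup.mk_zero]
      rw [hy] at h5
      have h6 : q = p := (Nat.prime_dvd_prime_iff_eq hq hp).1 h5
      rw [← h6]
      exact Nat.le_of_dvd (Nat.pos_of_ne_zero AddSubgroup.index_ne_zero_of_finite) hqd
    have h3 := W.index_mul_card
    have h4 : p * (Nat.card H + 1) ≤ Nat.card V := by
      rw [← h3]; exact Nat.mul_le_mul h2 h1
    have h5 : 1 < p := hp.one_lt
    have h6 : 0 < Nat.card H := Nat.card_pos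
    have h7 : Nat.card H * (p - 1) + 1 < p * (Nat.card H + 1) := by
      have : Nat.card H * (p - 1) ≤ Nat.card H * p := Nat.mul_le_mul_left _ (Nat.sub_le _ _)
      nlinarith
    omega
  obtain ⟨𝕂, hK, hKf, e, ψ, hψ, -⟩ := PF9Field.exists_field
    (DistribMulAction.toAddMonoidEnd H V) (fun u v => by
      rw [← map_mul, ← map_mul, mul_comm]) hirr
  have hψ' : ∀ (h : H) (v : V), e (h • v) = ψ h * e v := hψ
  have hef0 : e f0 ≠ 0 := fun h => hf0.1 (e.injective (h.trans e.map_zero.symm))
  -- rescale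
  let e' : V ≃+ 𝕂 := e.trans (AddEquiv.mk' (Equiv.mulLeft₀ (e f0)⁻¹ (inv_ne_zero hef0)) (fun x y => by
    show (e f0)⁻¹ * (x + y) = (e f0)⁻¹ * x + (e f0)⁻¹ * y
    ring))
  have he' : ∀ v, e' v = (e f0)⁻¹ * e v := fun v => rfl
  have hψe : ∀ (h : H) (v : V), e' (h • v) = ψ h * e' v := by
    intro h v
    rw [he', he', hψ']; ring
  have he'f0 : e' f0 = 1 := by rw [he', inv_mul_cancel₀ hef0]
  have hchar : CharP 𝕂 p := by
    have h1 : e' (p • f0) = (p : 𝕂) := by
      rw [map_nsmul, he'f0, nsmul_eq_mul, mul_one]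
    have h2 : (p : 𝕂) = 0 := by rw [← h1, hexp, map_zero]
    obtain ⟨q, hq⟩ := CharP.exists 𝕂
    have hqp : q.Prime := CharP.char_is_prime 𝕂 q
    have h3 : q ∣ p := (CharP.cast_eq_zero_iff 𝕂 q p).1 h2
    rw [← (Nat.prime_dvd_prime_iff_eq hqp hp).1 h3]
    exact hq
  let P : Subfield 𝕂 := (ZMod.castHom (dvd_refl p) 𝕂).fieldRange
  have hP1 : ∀ u ∈ U, e' u ∈ P := by
    intro u hu
    obtain ⟨k, hk⟩ := hmult u hu
    rw [← hk, map_nsmul, he'f0, nsmul_eq_mul, mul_one]
    exact natCast_mem P k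
  have hP2 : ∀ r ∈ P, ∃ u ∈ U, e' u = r := by
    rintro r ⟨n, rfl⟩
    refine ⟨n.val • f0, U.nsmul_mem hf0U _, ?_⟩
    rw [map_nsmul, he'f0, nsmul_eq_mul, mul_one, ZMod.castHom_apply, ZMod.natCast_val]
  obtain ⟨h0, hh0⟩ := exists_ne (1 : H)
  have hψh0 : ψ h0 ∉ P := by
    intro h
    obtain ⟨u, hu, hu1⟩ := hP2 _ h
    have h1 : e' (h0 • f0) = e' u := by rw [hψe, he'f0, mul_one, hu1]
    have h2 : h0 • f0 = u := e'.injective h1
    have h3 : D.InE (h0 • f0) := by
      rw [h2]
      rcases hu with hu | hu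
      · exfalso
        rw [hu] at h2
        exact smul_ne h0 hf0.1 h2
      · exact hu
    exact hh0 (inE_smul hH hf0 h3)
  exact field_aux hH hσ P e' ψ hψe (fun f hf => hP1 f (Or.inr hf)) hψh0 hf0 hf02

/-- the odd case: `|V| = 2 |H| + 1` -/
theorem card_odd [Finite V] [Finite H] [Nontrivial H] [Nontrivial V] (hH : Odd (Nat.card H))
    (htor : ∀ v : V, v + v = 0 → v = 0) (D : Data V H) : Nat.card V = 2 * Nat.card H + 1 := by
  obtain ⟨v, hv⟩ := exists_ne (0 : V)
  obtain ⟨h, hh⟩ := D.exists_E hH hv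
  exact card_of_two hH htor hh (fun f hf => all_two hH htor hf)

end Data

end Cfsg.Agent.Lib.Rk1
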