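import Mathlib
import Cfsg.Agent.Lib.Rk1b

/-!
Abstract rank one groups: the case with involutions (helper13).
-/

set_option autoImplicit false

namespace Cfsg.Agent.Lib.Rk1

universe u v

variable {V : Type u} {H : Type v} [AddCommGroup V] [CommGroup H] [DistribMulAction H V]

namespace Data

variable {D : Data V H}

/-! ### case (a): `S u₀ = u₀` -/

section CaseA

variable (hH : Odd (Nat.card H)) {u0 : V} (hu0 : D.InE u0) (hu2 : u0 + u0 = 0)
  (huniq : ∀ v, D.InE v → v + v = 0 → v = u0) (hS : D.S u0 = u0)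

include hu0 hu2 hS in
theorem Tu0 : D.T u0 = u0 := by
  have h : -u0 = u0 := neg_eq_of_add_eq_zero_left hu2
  rw [T, h, hS, h]

include hu0 hu2 hS in
theorem two_u0 {x : V} (hx : D.InE x) (h2 : D.Two x) : x = u0 := by
  have h : -u0 = u0 := neg_eq_of_add_eq_zero_left hu2
  have hu : D.Two u0 := by
    show D.S u0 = -u0
    rw [hS, h]
  rcases hu0.two_unique hu hx h2 with h1 | h1
  · exact h1
  · rw [h1, h]

include hu0 hu2 hS in
theorem ne_add {f : V} (hne : f ≠ u0) : f + u0 ≠ 0 := by
  intro h
  apply hne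
  have h1 : f = -u0 := by rw [eq_neg_iff_add_eq_zero]; exact h
  rw [h1]; exact neg_eq_of_add_eq_zero_left hu2

include hu0 hu2 hS in
/-- `σ (f + u₀) = f` -/
theorem σ_add_u0 {f : V} (hf : D.InE f) (hne : f ≠ u0) : D.σ (f + u0) = f := by
  have hneg : -u0 = u0 := neg_eq_of_add_eq_zero_left hu2
  have hT := Tu0 hu0 hu2 hS
  have p1 : ∀ {g : V}, D.InE g → g ≠ u0 → D.S (g + u0) = D.S g + D.S (D.T g + u0) := by
    intro g hg hgu
    have h1 := hg.S_add hu0 (ne_add hu0 hu2 hS hgu)
    rwa [hS] at h1
  have p2 : ∀ {g : V}, D.InE g → g ≠ u0 → D.S (g + u0) = u0 + D.S (D.S g + u0) := by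
    intro g hg hgu
    have h1 := hu0.S_add hg (InE.add_comm_ne (ne_add hu0 hu2 hS hgu))
    rwa [hS, hT, add_comm u0 g, add_comm u0 (D.S g)] at h1
  have hSne : ∀ {g : V}, g ≠ u0 → D.S g ≠ u0 := fun hg h => hg (D.S_inj (h.trans hS.symm))
  have hTne : ∀ {g : V}, g ≠ u0 → D.T g ≠ u0 := fun hg h => hg (D.T_inj (h.trans hT.symm))
  -- apply to `S f`
  have q1 := p1 hf.S (hSne hne)
  rw [D.S_S, hf.T_S] at q1
  -- q1 : S (S f + u0) = f + S (-T f + u0)
  have q2 := p2 hf hne
  have q3 := p2 hf.neg (fun h => hne (by rw [← neg_neg f, h, hneg]))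
  rw [D.S_neg] at q3
  -- q3 : S (-f + u0) = u0 + S (-T f + u0)
  have q4 : D.T (f + u0) = -D.S (-f + u0) := by
    rw [T]
    congr 2
    rw [neg_add, hneg]
  rw [σ, q4, q3, q2, q1]
  abel

include hH hu0 hu2 huniq hS in
theorem mem_add_u0 {f : V} (hf : D.InE f) (hne : f ≠ u0) : D.InE (f + u0) := by
  have hv := ne_add hu0 hu2 hS hne
  obtain ⟨h, hh⟩ := D.exists_E hH hv
  have hff : f + f ≠ 0 := fun h' => hne (huniq f hf h')
  have hy : h • (f + u0) ≠ u0 := by
    intro h'
    apply hff
    have h1 : h • (f + u0) + h • (f + u0) = 0 := by rw [h', hu2]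
    rw [← smul_add] at h1
    have h2 : (f + u0) + (f + u0) = 0 := by
      by_contra h3
      exact smul_ne h h3 h1
    linear_combination (norm := abel) h2 - hu2
  have h2 : ¬ D.Two (h • (f + u0)) := fun h' => hy (two_u0 hu0 hu2 hS hh h')
  have h3 := hh.two_smul_defect h2
  have h4 := σ_add_u0 hu0 hu2 hS hf hne
  have h5 : D.S (h • (f + u0)) + D.T (h • (f + u0)) = h⁻¹ • f := by
    have := D.σ_smul h (f + u0)
    rw [h4] at this
    exact this
  rw [h5] at h3
  -- 2 (h⁻¹ f - h (f + u0)) = 0
  have h6 : h • h • (f + f) = f + f := by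
    have h7 := congrArg (fun v => h • v) h3
    simp only [smul_zero] at h7
    have h8 : h • ((2 : ℤ) • (h⁻¹ • f - h • (f + u0))) =
        (f + f) - (h • h • (f + f) + h • h • (u0 + u0)) := by
      rw [two_smul, smul_add, smul_sub, smul_inv_smul]
      simp only [smul_add]; abel
    rw [h8, hu2, smul_zero, smul_zero, add_zero] at h7
    exact (sub_eq_zero.1 h7).symm
  have h7 := D.kappa_one' hH hff h6
  rw [h7, one_smul] at hh
  exact hh

include hH hu0 hu2 huniq hS in
theorem σ_eq_u0 {g : V} (hg : D.InE g) : D.σ g = g + u0 := by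
  by_cases hne : g = u0
  · rw [hne, σ, hS, Tu0 hu0 hu2 hS]
  · have h1 := mem_add_u0 hH hu0 hu2 huniq hS hg hne
    have h2 : g + u0 ≠ u0 := by
      intro h
      rw [add_eq_right] at h
      exact hg.1 h
    have h3 := σ_add_u0 hu0 hu2 hS h1 h2
    rw [add_assoc, hu2, add_zero] at h3
    exact h3

include hH hu0 hu2 huniq hS in
theorem add_mem_a {f g : V} (hf : D.InE f) (hg : D.InE g) (hfg : f + g ≠ 0) : D.InE (f + g) := by
  have hσ : ∀ {v : V}, D.InE v → D.σ v = v + u0 := fun hv => σ_eq_u0 hH hu0 hu2 huniq hS hv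
  obtain ⟨h2ne, h3ne, e2, e3, s2, s3, s4⟩ := hf.sum_rel hg hfg
  obtain ⟨h, hh1⟩ := D.exists_E hH hfg
  have hh2 := inE_of_η hh1 hfg h2ne e2
  have r1 := σ_of_smul (hσ hh1)
  have r2 := σ_of_smul (hσ hh2)
  rw [hσ hf, hσ hg] at s4
  have s5 : f + g = (D.T f + D.S g) + (D.S f + D.T g) := by
    rw [s4]
    linear_combination (norm := abel) -hu2
  rw [r1, r2, s5] at s2
  simp only [smul_add] at s2 ⊢
  have h1 := D.kappa_one' hH h3ne (by
    simp only [smul_add]
    linear_combination (norm := abel) s2)
  rw [h1, one_smul] at hh1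
  exact hh1

include hH hu0 hu2 huniq hS in
theorem card_a [Finite V] [Finite H] [Nontrivial H] : Nat.card V = Nat.card H + 1 := by
  classical
  have hntV : Nontrivial V := ⟨⟨u0, 0, hu0.1⟩⟩
  obtain ⟨p, hp, hexp⟩ := exponent (D := D) hH (fun hf hg hfg => add_mem_a hH hu0 hu2 huniq hS hf hg hfg)
  have hp2 : p = 2 := by
    have h1 : addOrderOf u0 = 2 := by
      have := Fact.mk Nat.prime_two
      exact addOrderOf_eq_prime (by rw [two_nsmul, hu2]) hu0.1
    have h2 : addOrderOf u0 ∣ p := addOrderOf_dvd_of_nsmul_eq_zero (hexp u0)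
    rw [h1] at h2
    exact ((Nat.prime_dvd_prime_iff_eq Nat.prime_two hp).1 h2).symm
  have hE : ∀ f, D.InE f → f = u0 := by
    intro f hf
    apply huniq f hf
    have := hexp f
    rwa [hp2, two_nsmul] at this
  have e : Option H ≃ V := Equiv.ofBijective
    (fun y => match y with
      | none => 0
      | some h => h • u0) (by
      constructor
      · intro y z hyz
        rcases y with _ | y <;> rcases z with _ | z
        · rfl
        · have h1 : (0 : V) = z • u0 := hyz
          exact absurd h1.symm (smul_ne z hu0.1)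
        · have h1 : y • u0 = (0 : V) := hyz
          exact absurd h1 (smul_ne y hu0.1)
        · have h1 : y • u0 = z • u0 := hyz
          have h2 : (z⁻¹ * y) • u0 = u0 := by rw [mul_smul, h1, inv_smul_smul]
          rw [inv_mul_eq_one.1 (D.free _ hu0.1 h2)]
      · intro v
        by_cases hv : v = 0
        · exact ⟨none, hv.symm⟩
        · obtain ⟨h, hh⟩ := D.exists_E hH hv
          refine ⟨some h⁻¹, ?_⟩
          show h⁻¹ • u0 = v
          rw [← hE _ hh, inv_smul_smul])
  rw [← Nat.card_congr e, Finite.card_option]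

end CaseA

/-! ### case (b): `S u₀ ≠ u₀` -/

section CaseB

variable (hH : Odd (Nat.card H)) {u0 : V} (hu0 : D.InE u0) (hu2 : u0 + u0 = 0)
  (huniq : ∀ v, D.InE v → v + v = 0 → v = u0)
  (htr : ∀ v : V, v ≠ 0 → v + v = 0 → ∃ h : H, h • u0 = v) (hS : D.S u0 ≠ u0)

theorem fpf {h k : H} {v : V} (hhk : h ≠ k) (e : h • v = k • v) (D : Data V H) : v = 0 := by
  by_contra hv
  apply hhk
  have h1 : (k⁻¹ * h) • v = v := by rw [mul_smul, e, inv_smul_smul]
  exact (inv_mul_eq_one.1 (D.free _ hv h1)).symm

include hH hu0 hu2 huniq htr hS in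
theorem caseb_z {k : H} (hk : k ≠ 1) :
    D.InE (D.S u0 + (k • D.S u0 + k • D.S u0)) ∧ D.Two (D.S u0 + (k • D.S u0 + k • D.S u0)) ∧
    (∀ X : V, X = D.S u0 + D.S u0 → X + k • X + k • k • X = 0) ∧ k * k * k = 1 := by
  set a := D.S u0 with ha
  have hneg : -u0 = u0 := neg_eq_of_add_eq_zero_left hu2
  have haE : D.InE a := hu0.S
  have ha2 : a + a ≠ 0 := fun h => hS (huniq a haE h)
  have hTu : D.T u0 = -a := by rw [T, hneg]
  -- the multiplier `k'`
  have hku : k • u0 ≠ u0 := fun h => hk (D.free k hu0.1 h)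
  have hsum : u0 + k • u0 ≠ 0 := by
    intro h
    apply hku
    have h1 : k • u0 = -u0 := by rw [eq_neg_iff_add_eq_zero, add_comm]; exact h
    rw [h1, hneg]
  obtain ⟨l, hl⟩ := htr (u0 + k • u0) hsum (by
    have : u0 + k • u0 + (u0 + k • u0) = (u0 + u0) + k • (u0 + u0) := by
      rw [smul_add]; abel
    rw [this, hu2, smul_zero, add_zero])
  have hl1 : l ≠ 1 := by
    rintro rfl
    rw [one_smul, left_eq_add] at hl
    exact smul_ne k hu0.1 hl
  have hlk : l ≠ k := by
    rintro rfl
    rw [right_eq_add] at hl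
    exact hu0.1 hl
  have hkk := smul_ne k hu0.1
  have e1 := D.S_add' hu0.1 hkk hsum
  have e2 := D.η_add' hu0.1 hkk hsum
  have e3 := D.T_add' hu0.1 hkk hsum
  have hw := D.w_ne' hu0.1 hkk hsum
  rw [hu0.2, inv_one, one_smul, ← hl, D.S_smul, ← ha] at e1
  rw [hu0.2, one_mul, D.η_smul k hu0.1, hu0.2, mul_one, ← hl, D.η_smul l hu0.1, hu0.2, mul_one] at e2
  rw [D.η_smul k hu0.1, hu0.2, mul_one, ← hl, D.T_smul, D.T_smul, hTu] at e3
  rw [hTu, D.S_smul, ← ha] at e1 e2 hw
  rw [D.S_smul, ← ha] at e3
  set w := -a + k⁻¹ • a with hwdef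
  -- the element `z`
  set z := (l⁻¹ * k) • w with hz
  have hzE : D.InE z := by
    refine ⟨smul_ne _ hw, ?_⟩
    rw [hz, D.η_smul _ hw]
    have : (l⁻¹ * k) ^ 2 * D.η w = (l ^ 2)⁻¹ * (k ^ 2 * D.η w) := by
      rw [mul_pow, inv_pow, mul_assoc]
    rw [this, ← e2, inv_mul_cancel]
  have f1 : l • z = a - k • a := by
    rw [hz, smul_smul, ← mul_assoc, mul_inv_cancel, one_mul, hwdef, smul_add, smul_neg, smul_inv_smul]
    abel
  have f2 : k • D.S z = a - l • a := by
    have h1 : D.S w = l⁻¹ • a - a := by rw [e1]; abel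
    rw [hz, D.S_smul, h1, smul_smul]
    have h2 : k * (l⁻¹ * k)⁻¹ = l := by
      rw [mul_inv_rev, inv_inv, mul_inv_cancel_left]
    rw [h2, smul_sub, smul_inv_smul]
  have f3 : D.T z = l • a - k • a := by
    have h1 : D.T w = k • a - (k * k * l⁻¹) • a := by
      have h2 : (k ^ 2)⁻¹ • D.T w = k⁻¹ • a - l⁻¹ • a := by
        rw [smul_neg, smul_neg] at e3
        linear_combination (norm := abel) -e3
      have h3 := congrArg (fun v => (k ^ 2) • v) h2
      simp only [smul_inv_smul] at h3
      rw [h3, smul_sub, smul_smul, smul_smul, sq]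
      congr 2
      group
    rw [hz, D.T_smul, h1, smul_sub, smul_smul, smul_smul]
    have h2 : (l⁻¹ * k)⁻¹ * k = l := by
      rw [mul_inv_rev, inv_inv, mul_comm k⁻¹ l, inv_mul_cancel_right]
    have h3 : (l⁻¹ * k)⁻¹ * (k * k * l⁻¹) = k := by
      rw [mul_inv_rev, inv_inv]
      calc k⁻¹ * l * (k * k * l⁻¹) = k⁻¹ * (l * (k * k)) * l⁻¹ := by group
        _ = k⁻¹ * ((k * k) * l) * l⁻¹ := by rw [mul_comm l]
        _ = k := by group
    rw [h2, h3]
  -- `z` is a two-type
  have htwo : D.Two z := by
    by_contra hnt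
    have h1 := hzE.two_smul_defect hnt
    apply ha2
    set A := a + a with hA
    have b1 : A - l • A = 0 ∨ A - l • A ≠ 0 := em _
    have h2 : l • ((A - l • A) - k • (A - l • A)) = k • ((A - l • A) - k • (A - l • A)) := by
      have h3 := congrArg (fun v => l • k • v) h1
      simp only [smul_zero] at h3
      have h4 : l • k • ((2 : ℤ) • (D.S z + D.T z - z)) =
          l • ((k • D.S z) + (k • D.S z)) + l • k • (D.T z + D.T z) - k • (l • z + l • z) := by
        rw [two_smul]
        simp only [smul_add, smul_sub, smul_smul, mul_comm k l]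
        abel
      rw [h4, f1, f2, f3] at h3
      rw [hA, ← sub_eq_zero, ← h3]
      simp only [smul_add, smul_sub, smul_smul, mul_comm, mul_left_comm, mul_assoc]
      abel
    have h5 := fpf hlk h2 D
    have h6 : k • (A - l • A) = (1 : H) • (A - l • A) := by
      rw [one_smul]; exact (sub_eq_zero.1 h5).symm
    have h7 := fpf hk h6 D
    have h8 : l • A = (1 : H) • A := by
      rw [one_smul]; exact (sub_eq_zero.1 h7).symm
    exact fpf hl1 h8 D
  have hSz : D.S z = -z := htwo
  have hTz : D.T z = -z := hzE.T_of_two htwo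
  rw [hSz, smul_neg] at f2
  rw [hTz] at f3
  -- g1 : k z = l a - a, g2 : z = k a - l a, g3 : l z = a - k a
  have g4 : l • z = -z - k • z := by linear_combination (norm := abel) f1 - f2 - f3
  have g5 : l • a = -a - k • a := by
    have h1 : (1 : H) • (l • a + a + k • a) = k • (l • a + a + k • a) := by
      rw [one_smul]
      have h2 : l • (a - k • a) + (a - k • a) + k • (a - k • a) = 0 := by
        rw [← f1]
        have h3 : l • (l • z) + l • z + k • (l • z) = l • (l • z + z + k • z) := by
          rw [smul_add, smul_add, smul_comm k l]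
        rw [h3, g4]
        have : -z - k • z + z + k • z = 0 := by abel
        rw [this, smul_zero]
      simp only [smul_add, smul_sub, smul_comm l k] at h2 ⊢
      linear_combination (norm := abel) h2
    have h2 := fpf (Ne.symm hk) h1 D
    linear_combination (norm := abel) h2
  have g6 : z = a + (k • a + k • a) := by
    rw [g5] at f3
    linear_combination (norm := abel) -f3
  have g7 : (a + a) + k • (a + a) + k • k • (a + a) = 0 := by
    have h1 := g4.symm.trans f1
    rw [g6] at h1
    simp only [smul_add] at h1 ⊢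
    linear_combination (norm := abel) -h1
  have g8 : k * k * k = 1 := by
    have h1 := congrArg (fun v => k • v) g7
    simp only [smul_add, smul_zero] at h1
    have h2 : (k * k * k) • (a + a) = (1 : H) • (a + a) := by
      rw [one_smul, mul_smul, mul_smul]
      simp only [smul_add] at g7 ⊢
      linear_combination (norm := abel) h1 - g7
    by_contra hne
    exact ha2 (fpf hne h2 D)
  refine ⟨by rw [← g6]; exact hzE, by rw [← g6]; exact htwo, ?_, g8⟩
  rintro X rfl
  exact g7

/-- no 3-torsion -/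
theorem no_three {k : H} (hk : k ≠ 1) (hk3 : k * k * k = 1) (D : Data V H) {Y : V}
    (hY : Y + Y + Y = 0) : Y = 0 := by
  have hinj : ∀ y : V, k • y - y = 0 → y = 0 := by
    intro y hy
    have : k • y = (1 : H) • y := by rw [one_smul]; exact sub_eq_zero.1 hy
    exact fpf hk this D
  have h1 : k • (k • (k • Y - Y) - (k • Y - Y)) - (k • (k • Y - Y) - (k • Y - Y)) = 0 := by
    have h2 : k • k • k • Y = Y := by rw [← mul_smul, ← mul_smul, hk3, one_smul]
    have h3 : k • (Y + Y + Y) = 0 := by rw [hY, smul_zero]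
    have h4 : k • k • (Y + Y + Y) = 0 := by rw [hY, smul_zero, smul_zero]
    simp only [smul_sub, smul_add] at h3 h4 ⊢
    linear_combination (norm := abel) h2 - h4 + h3
  exact hinj _ (hinj _ (hinj _ h1))

include hH hu0 hu2 huniq htr hS in
theorem caseb_false [Nontrivial H] : False := by
  set a := D.S u0 with ha
  have hneg : -u0 = u0 := neg_eq_of_add_eq_zero_left hu2
  have haE : D.InE a := hu0.S
  have ha2 : a + a ≠ 0 := fun h => hS (huniq a haE h)
  obtain ⟨k, hk⟩ := exists_ne (1 : H)
  obtain ⟨hxE, hx2, -, hk3⟩ := caseb_z hH hu0 hu2 huniq htr hS hk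
  rw [← ha] at hxE hx2
  set x := a + (k • a + k • a) with hx
  have hcube : ∀ h : H, h * h * h = 1 := by
    intro h
    by_cases h1 : h = 1
    · rw [h1, one_mul, one_mul]
    · exact (caseb_z hH hu0 hu2 huniq htr hS h1).2.2.2
  have no3 : ∀ {Y : V}, Y + Y + Y = 0 → Y = 0 := fun hY => no_three hk hk3 D hY
  have hxx : x + x ≠ 0 := by
    intro h
    have h1 := huniq x hxE h
    apply hS
    rw [h1] at hx2
    have h2 : D.S u0 = -u0 := hx2
    rw [hneg] at h2
    exact h2
  have hσ := hxE.σ_add_two hx2 hxE hx2 hxx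
  obtain ⟨h, hh⟩ := D.exists_E hH hxx
  have hc : ∀ v : V, h • h • h • v = v := by
    intro v
    rw [← mul_smul, ← mul_smul, hcube, one_smul]
  by_cases ht : D.Two (h • (x + x))
  · rcases hxE.two_unique hx2 hh ht with h1 | h1
    · -- `2 h x = x`
      have hh1 : h ≠ 1 := by
        rintro rfl
        rw [one_smul, add_eq_left] at h1
        exact hxE.1 h1
      obtain ⟨hzE, hz2, hz3, -⟩ := caseb_z hH hu0 hu2 huniq htr hS hh1
      rw [← ha] at hzE hz2 hz3
      have e4 := hz3 _ rfl
      have hx1 : h • x + h • x = x := by rw [← smul_add]; exact h1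
      have hx3 : h • h • x + h • h • x = h • x := by
        have := congrArg (fun v => h • v) hx1
        simpa only [smul_add] using this
      have hx4 : x + x = h • h • x := by
        have := congrArg (fun v => h • v) hx3
        simp only [smul_add, hc] at this
        exact this
      simp only [smul_add] at e4
      have hfin : ∀ y : V, D.InE y → h • h • a = y → False := by
        intro y hy e
        rw [← mul_smul] at e
        have h5 := inE_smul hH haE (h := h * h) (by rw [e]; exact hy)
        have h6 := hcube h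
        rw [h5, one_mul] at h6
        exact hh1 h6
      rcases hxE.two_unique hx2 hzE hz2 with h2 | h2
      · have h3 := congrArg (fun v => h • v) h2
        have h4 := congrArg (fun v => h • v) h3
        simp only [smul_add, hc] at h3 h4
        have hbx : h • a - (x + x) = 0 := by
          apply no3
          linear_combination (norm := abel) h3 - e4 + (2 : ℤ) • h2 - hx3 - (2 : ℤ) • hx4
        apply hfin x hxE
        linear_combination (norm := abel) h4 - (2 : ℤ) • h2 - hx4 + (4 : ℤ) • hbx +
          (hx1 + (2 : ℤ) • hx3 + (4 : ℤ) • hx4)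
      · have h3 := congrArg (fun v => h • v) h2
        have h4 := congrArg (fun v => h • v) h3
        simp only [smul_add, smul_neg, hc] at h3 h4
        have hbx : h • a + (x + x) = 0 := by
          apply no3
          linear_combination (norm := abel) h3 - e4 + (2 : ℤ) • h2 + hx3 + (2 : ℤ) • hx4
        apply hfin (-x) hxE.neg
        linear_combination (norm := abel) h4 - (2 : ℤ) • h2 + hx4 + (4 : ℤ) • hbx -
          (hx1 + (2 : ℤ) • hx3 + (4 : ℤ) • hx4)
    · -- `2 h x = - x`
      have hx1 : h • x + h • x = -x := by rw [← smul_add]; exact h1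
      have hx3 : h • h • x + h • h • x = -(h • x) := by
        have := congrArg (fun v => h • v) hx1
        simpa only [smul_add, smul_neg] using this
      have hx4 : x + x = -(h • h • x) := by
        have := congrArg (fun v => h • v) hx3
        simp only [smul_add, smul_neg, hc] at this
        exact this
      apply hxE.1
      apply no3
      apply no3
      linear_combination (norm := abel) hx1 - (2 : ℤ) • hx3 + (4 : ℤ) • hx4
  · have h3 := hh.two_smul_defect ht
    have h4 : D.S (h • (x + x)) + D.T (h • (x + x)) = h⁻¹ • (-x) := by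
      have := D.σ_smul h (x + x)
      rw [hσ] at this
      exact this
    rw [h4] at h3
    have h5 : x + x + (h • h • (x + x) + h • h • (x + x)) = 0 := by
      have h6 := congrArg (fun v => h • v) h3
      simp only [smul_zero] at h6
      have h7 : h • ((2 : ℤ) • (h⁻¹ • (-x) - h • (x + x))) =
          -(x + x + (h • h • (x + x) + h • h • (x + x))) := by
        rw [two_smul, smul_add, smul_sub, smul_inv_smul]
        simp only [smul_add]; abel
      rw [h7] at h6
      exact neg_eq_zero.1 h6
    have h6 := congrArg (fun v => h • h • v) h5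
    have h7 := congrArg (fun v => h • h • v) h6
    simp only [smul_add, smul_zero, hc] at h5 h6 h7
    apply hxx
    apply no3
    apply no3
    linear_combination (norm := abel) h5 - (2 : ℤ) • h6 + (4 : ℤ) • h7

end CaseB

/-- the case with involutions: `|V| = |H| + 1` -/
theorem card_even [Finite V] [Finite H] [Nontrivial H] (hH : Odd (Nat.card H)) (D : Data V H)
    (hex : ∃ v : V, v ≠ 0 ∧ v + v = 0)
    (htr : ∀ v w : V, v ≠ 0 → v + v = 0 → w ≠ 0 → w + w = 0 → ∃ h : H, h • v = w) :
    Nat.card V = Nat.card H + 1 := by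
  obtain ⟨v, hv, hv2⟩ := hex
  obtain ⟨h, hh⟩ := D.exists_E hH hv
  set u0 := h • v with hu0
  have hu2 : u0 + u0 = 0 := by rw [hu0, ← smul_add, hv2, smul_zero]
  have huniq : ∀ w, D.InE w → w + w = 0 → w = u0 := by
    intro w hw hw2
    obtain ⟨k, hk⟩ := htr u0 w hh.1 hu2 hw.1 hw2
    have h1 := inE_smul hH hh (h := k) (by rw [hk]; exact hw)
    rw [← hk, h1, one_smul]
  have htr' : ∀ w : V, w ≠ 0 → w + w = 0 → ∃ k : H, k • u0 = w := fun w hw hw2 =>
    htr u0 w hh.1 hu2 hw hw2
  by_cases hS : D.S u0 = u0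
  · exact card_a hH hh hu2 huniq hS
  · exact (caseb_false hH hh hu2 huniq htr' hS).elim

end Data

end Cfsg.Agent.Lib.Rk1
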