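import Mathlib
import Cfsg.Agent.Lib.Rk1c
import Cfsg.Agent.Lib.Rk1d
import Cfsg.Agent.Lib.Rk1Of
import Cfsg.Agent.Lib.Sharp3Simple

/-!
Zassenhaus groups with abelian kernel and inverted two-point stabilisers of odd order (helper13).
-/

set_option autoImplicit false

namespace Cfsg.Agent.Lib.ZassAb

open MulAction ZassBasic Rk1

universe u v

variable {G : Type u} {Ω : Type v} [Group G] [MulAction G Ω]

/-- conjugation action on the additive version of a commutative kernel -/
theorem card_eq [Finite G] [Finite Ω] [FaithfulSMul G Ω] (h2 : IsMultiplyPretransitive G Ω 2)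
    (h3 : Fix3 G Ω) {a b : Ω} (hab : a ≠ b) (K : Subgroup G) (hKa : ∀ k ∈ K, k • a = a)
    (hKc : ∀ x ∈ K, ∀ y ∈ K, x * y = y * x)
    (hKn : ∀ g : G, g • a = a → ∀ k ∈ K, g * k * g⁻¹ ∈ K)
    (hK1 : ∀ x ∈ K, ∀ y, y ≠ a → x • y = y → x = 1)
    (hKt : ∀ y, y ≠ a → ∃ x ∈ K, x • b = y)
    (hHc : ∀ x ∈ stabilizer G a ⊓ stabilizer G b, ∀ y ∈ stabilizer G a ⊓ stabilizer G b,
      x * y = y * x)
    (hHodd : Odd (Nat.card ↥(stabilizer G a ⊓ stabilizer G b)))
    (hH1 : ∃ x ∈ stabilizer G a ⊓ stabilizer G b, x ≠ 1)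
    (hinv : ∀ c d : Ω, c ≠ d → ∀ s : G, s • c = d → s • d = c →
      ∀ h ∈ stabilizer G c ⊓ stabilizer G d, s * h * s⁻¹ = h⁻¹) :
    Nat.card K = 2 * Nat.card ↥(stabilizer G a ⊓ stabilizer G b) + 1 ∨
      Nat.card K = Nat.card ↥(stabilizer G a ⊓ stabilizer G b) + 1 := by
  classical
  set H : Subgroup G := stabilizer G a ⊓ stabilizer G b with hH
  letI : CommGroup K := { (inferInstance : Group K) with
    mul_comm := fun x y => Subtype.ext (hKc x.1 x.2 y.1 y.2) }
  letI : CommGroup H := { (inferInstance : Group H) with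
    mul_comm := fun x y => Subtype.ext (hHc x.1 x.2 y.1 y.2) }
  letI actH : DistribMulAction H (Additive K) :=
    { smul := fun h x => Additive.ofMul (⟨h.1 * (Additive.toMul x).1 * h.1⁻¹,
        hKn h.1 h.2.1 _ (Additive.toMul x).2⟩ : K)
      one_smul := by
        intro x
        apply Additive.toMul.injective
        apply Subtype.ext
        change (1 : G) * (Additive.toMul x).1 * (1 : G)⁻¹ = _
        rw [one_mul, inv_one, mul_one]
      mul_smul := by
        intro g h x
        apply Additive.toMul.injective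
        apply Subtype.ext
        change (g.1 * h.1) * (Additive.toMul x).1 * (g.1 * h.1)⁻¹ =
          g.1 * (h.1 * (Additive.toMul x).1 * h.1⁻¹) * g.1⁻¹
        group
      smul_zero := by
        intro g
        apply Additive.toMul.injective
        apply Subtype.ext
        change g.1 * (1 : G) * g.1⁻¹ = 1
        group
      smul_add := by
        intro g x y
        apply Additive.toMul.injective
        apply Subtype.ext
        change g.1 * ((Additive.toMul x).1 * (Additive.toMul y).1) * g.1⁻¹ =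
          (g.1 * (Additive.toMul x).1 * g.1⁻¹) * (g.1 * (Additive.toMul y).1 * g.1⁻¹)
        group }
  let τ : Additive K → G := fun x => (Additive.toMul x).1
  have hτsm : ∀ (h : H) x, τ (h • x) = h.1 * τ x * h.1⁻¹ := fun h x => rfl
  have hτinj : Function.Injective τ := fun x y hxy =>
    Additive.toMul.injective (Subtype.ext hxy)
  have hτ0 : τ 0 = 1 := rfl
  have hτadd : ∀ x y, τ (x + y) = τ x * τ y := fun x y => rfl
  have hτmem : ∀ x, τ x ∈ K := fun x => (Additive.toMul x).2
  have hKb : ∀ x ∈ K, x • b ≠ a := by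
    intro x hx h
    exact hab (MulAction.injective x ((hKa x hx).trans h.symm))
  obtain ⟨t0, ht0⟩ := exists_involution h2 hab
  obtain ⟨g0, hg1, hg2⟩ := exists_conj_swap h2 ht0 hab
  set s : G := g0 * t0 * g0⁻¹ with hs
  have hss : s * s = 1 := by
    have h4 : t0 * t0 = 1 := by rw [← sq, ← ht0, pow_orderOf_eq_one]
    rw [hs, show g0 * t0 * g0⁻¹ * (g0 * t0 * g0⁻¹) = g0 * (t0 * t0) * g0⁻¹ by group, h4]
    group
  have hfree : ∀ (h : H) {v : Additive K}, v ≠ 0 → h • v = v → h = 1 := by
    intro h v hv hhv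
    have h4 : h.1 * τ v * h.1⁻¹ = τ v := by rw [← hτsm, hhv]
    have h5 : h.1 * τ v = τ v * h.1 := by
      rw [← mul_inv_eq_iff_eq_mul]; exact h4
    have hv1 : τ v ≠ 1 := fun h' => hv (hτinj h')
    apply Subtype.ext
    refine h3 h.1 a b (τ v • b) hab (fun h' => hv1 (hK1 _ (hτmem v) b hab.symm h'.symm))
      (Ne.symm (hKb _ (hτmem v))) h.2.1 h.2.2 ?_
    have hhb : h.1 • b = b := h.2.2
    rw [← mul_smul, h5, mul_smul, hhb]
  obtain ⟨D, -⟩ := mk_data (G := G) (Ω := Ω) (V := Additive K) (H := H) hab τ hτadd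
    (fun x => hKa _ (hτmem x))
    (by
      intro x y hxy
      have h4 : ((τ y)⁻¹ * τ x) • b = b := by rw [mul_smul, hxy, inv_smul_smul]
      have h5 := hK1 _ (K.mul_mem (K.inv_mem (hτmem y)) (hτmem x)) b hab.symm h4
      exact hτinj (inv_mul_eq_one.1 h5).symm)
    (by
      intro y hy
      obtain ⟨x, hx, hxb⟩ := hKt y hy
      exact ⟨Additive.ofMul ⟨x, hx⟩, hxb⟩)
    H.subtype (Subgroup.subtype_injective H) (fun h => h.2.1) (fun h => h.2.2)
    (fun g h4 h5 => ⟨⟨g, h4, h5⟩, rfl⟩)
    (fun h x => rfl) hss hg1 hg2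
    (by
      intro h
      have h4 := hinv a b hab s hg1 hg2 h.1 h.2
      have h5 : s⁻¹ = s := inv_eq_of_mul_eq_one_right hss
      rw [h5] at h4
      exact h4)
    hfree
  have hKcard : Nat.card (Additive K) = Nat.card K := Nat.card_congr Additive.toMul
  have : Finite (Additive K) := inferInstanceAs (Finite K)
  obtain ⟨h1, hh1, hh1'⟩ := hH1
  have : Nontrivial H := ⟨⟨⟨h1, hh1⟩, 1, fun h => hh1' (congrArg Subtype.val h)⟩⟩
  -- K is nontrivial
  obtain ⟨c, hc⟩ := exists_moved (Ω := Ω) hh1'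
  have hac : c ≠ a := by rintro rfl; exact hc hh1.1
  have hbc : c ≠ b := by rintro rfl; exact hc hh1.2
  obtain ⟨k, hk, hkb⟩ := hKt c hac
  have hk1 : k ≠ 1 := by
    rintro rfl
    rw [one_smul] at hkb
    exact hbc hkb.symm
  have : Nontrivial (Additive K) := ⟨⟨Additive.ofMul ⟨k, hk⟩, 0, fun h => hk1 (congrArg τ h)⟩⟩
  rcases Nat.even_or_odd (Nat.card K) with heven | hodd
  · right
    rw [← hKcard]
    refine Data.card_even hHodd D ?_ ?_
    · have := Fact.mk Nat.prime_two
      obtain ⟨z, hz⟩ := exists_prime_orderOf_dvd_card' (G := K) 2 (even_iff_two_dvd.1 heven)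
      refine ⟨Additive.ofMul z, ?_, ?_⟩
      · intro h
        have h4 : z = 1 := Additive.ofMul.injective h
        rw [h4, orderOf_one] at hz
        omega
      · have h4 : z * z = 1 := by rw [← sq, ← hz, pow_orderOf_eq_one]
        exact congrArg Additive.ofMul h4
    · intro v w hv hv2 hw hw2
      have hv1 : τ v ≠ 1 := fun h => hv (hτinj h)
      have hw1 : τ w ≠ 1 := fun h => hw (hτinj h)
      have hvv : τ v * τ v = 1 := by rw [← hτadd, hv2, hτ0]
      have hww : τ w * τ w = 1 := by rw [← hτadd, hw2, hτ0]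
      have hvb : b ≠ τ v • b := fun h => hv1 (hK1 _ (hτmem v) b hab.symm h.symm)
      have hwb : b ≠ τ w • b := fun h => hw1 (hK1 _ (hτmem w) b hab.symm h.symm)
      obtain ⟨g, hgb, hgv⟩ := exists_move h2 hvb hwb
      set t : G := g * τ v * g⁻¹ with ht
      have htt : t * t = 1 := by
        rw [ht, show g * τ v * g⁻¹ * (g * τ v * g⁻¹) = g * (τ v * τ v) * g⁻¹ by group, hvv]
        group
      have htb : t • b = τ w • b := by
        rw [ht, mul_smul, mul_smul, inv_smul_eq_iff.2 hgb.symm, hgv]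
      have htb' : t • τ w • b = b := by
        rw [← htb, smul_smul, htt, one_smul]
      have htinv : t⁻¹ = t := inv_eq_of_mul_eq_one_right htt
      set x : G := t * τ w with hx
      have hxH : x ∈ stabilizer G b ⊓ stabilizer G (τ w • b) := by
        constructor
        · change x • b = b
          rw [hx, mul_smul, htb']
        · change x • τ w • b = τ w • b
          rw [hx, mul_smul, smul_smul (τ w), hww, one_smul, htb]
      have hcard' : Nat.card ↥(stabilizer G b ⊓ stabilizer G (τ w • b)) = Nat.card H := by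
        rw [hH, inf_comm (stabilizer G a)]
        exact card_stab2_eq h2 hwb hab.symm
      -- square root of x
      obtain ⟨y, hyH, hyx⟩ : ∃ y ∈ stabilizer G b ⊓ stabilizer G (τ w • b), y * y = x := by
        obtain ⟨m, hm⟩ := hHodd
        refine ⟨x ^ (m + 1), Subgroup.pow_mem _ hxH _, ?_⟩
        have h4 : x ^ (2 * m + 1) = 1 := by
          rw [← hm, ← hcard']
          have h6 : (⟨x, hxH⟩ : ↥(stabilizer G b ⊓ stabilizer G (τ w • b))) ^
              Nat.card ↥(stabilizer G b ⊓ stabilizer G (τ w • b)) = 1 := pow_card_eq_one'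
          exact congrArg Subtype.val h6
        rw [← pow_add, show m + 1 + (m + 1) = (2 * m + 1) + 1 by ring, pow_succ, h4, one_mul]
      have hty : t * y * t⁻¹ = y⁻¹ := hinv b _ hwb t htb htb' y hyH
      have hconj : (y⁻¹ * g) * τ v * (y⁻¹ * g)⁻¹ = τ w := by
        have h4 : (y⁻¹ * g) * τ v * (y⁻¹ * g)⁻¹ = y⁻¹ * t * y := by
          rw [ht]; group
        rw [h4, ← hty]
        calc t * y * t⁻¹ * t * y = t * (y * y) := by group
          _ = t * t * τ w := by rw [hyx, hx]; group
          _ = τ w := by rw [htt, one_mul]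
      have hyb : y⁻¹ • b = b := inv_smul_of_smul hyH.1
      have hgb' : (y⁻¹ * g) • b = b := by rw [mul_smul, hgb, hyb]
      have hga' : (y⁻¹ * g) • a = a := by
        by_contra hne
        apply hw1
        apply hK1 _ (hτmem w) _ hne
        rw [← hconj, mul_smul, mul_smul, inv_smul_smul, hKa _ (hτmem v)]
      refine ⟨⟨y⁻¹ * g, hga', hgb'⟩, ?_⟩
      apply hτinj
      rw [hτsm]
      exact hconj
  · left
    rw [← hKcard]
    refine Data.card_odd hHodd ?_ D
    intro v hv
    apply hτinj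
    rw [hτ0]
    have h4 : τ v ^ 2 = 1 := by rw [sq, ← hτadd, hv, hτ0]
    have h5 : orderOf (τ v) ∣ 2 := orderOf_dvd_of_pow_eq_one h4
    have h6 : orderOf (τ v) ∣ Nat.card K := Subgroup.orderOf_dvd_natCard _ (hτmem v)
    have h8 := Nat.dvd_gcd h5 h6
    rw [Nat.Coprime.gcd_eq_one hodd.coprime_two_left, Nat.dvd_one, orderOf_eq_one_iff] at h8
    exact h8

end Cfsg.Agent.Lib.ZassAb
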