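import Cfsg.Agent.Lib.ZassOdd
import Cfsg.Agent.Lib.PNilp

/-!
# Zassenhaus groups with odd two-point stabiliser and no normal `q`-complement (helper1)

Generalises `ZassOdd.structure_of_simple`.
-/

set_option autoImplicit false
set_option linter.all false

namespace Cfsg.Agent.Lib.H1Zass

open MulAction ZassBasic ZassKernel ZassOdd

universe u v

variable {G : Type u} {Ω : Type v} [Group G] [MulAction G Ω]

open Subgroup in
theorem le_commutator [Finite G] [Finite Ω] (hZ : Cfsg.IsZassenhausGroup G Ω) {a b : Ω}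
    (hab : a ≠ b)
    (hodd : Odd (Nat.card ↥(stabilizer G a ⊓ stabilizer G b : Subgroup G)))
    (hnil : ∀ q : ℕ, q.Prime → q ∣ Nat.card ↥(stabilizer G a ⊓ stabilizer G b : Subgroup G) →
      ¬ Cfsg.HasNormalPComplement q G) :
    (stabilizer G a ⊓ stabilizer G b : Subgroup G) ≤
      ⁅normalizer ((stabilizer G a ⊓ stabilizer G b : Subgroup G) : Set G),
        normalizer ((stabilizer G a ⊓ stabilizer G b : Subgroup G) : Set G)⁆ := by
  have hMZ := isZGroup_normalizer hZ hab hodd
  set E : Subgroup G := stabilizer G a ⊓ stabilizer G b with hE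
  set M : Subgroup G := normalizer (E : Set G) with hM
  have hEM : E ≤ M := le_normalizer
  rw [← relIndex_eq_one]
  by_contra hne
  obtain ⟨p, hp, hpd⟩ := Nat.exists_prime_and_dvd hne
  have : Fact p.Prime := ⟨hp⟩
  obtain ⟨Q⟩ : Nonempty (Sylow p E) := inferInstance
  have hpE : p ∣ Nat.card E := hpd.trans (relIndex_dvd_card _ _)
  have hpidx : ¬ p ∣ E.index := by
    intro h
    have := coprime_index hZ hab hodd
    exact Nat.Prime.one_lt hp |>.ne' (Nat.eq_one_of_dvd_coprimes this hpE h)
  have hQp : IsPGroup p ((Q : Subgroup E).map E.subtype) := Q.2.map _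
  have hQi : ¬ p ∣ ((Q : Subgroup E).map E.subtype).index := by
    rw [index_map_subtype]
    intro h
    rcases (Nat.Prime.dvd_mul hp).mp h with h | h
    · exact Q.not_dvd_index h
    · exact hpidx h
  let P : Sylow p G := hQp.toSylow hQi
  have hPE : (P : Subgroup G) ≤ E := map_subtype_le _
  have h1 := FusionControl.commutator_inf_eq_of_controls P M (hPE.trans hEM) (by
    intro x hx g hgx
    by_cases hx1 : x = 1
    · exact ⟨1, M.one_mem, by rw [hx1]; group⟩
    · refine ⟨g, ?_, rfl⟩
      exact mem_normalizer_of_pair (pair_of_conj hZ.2.2.1 hab hx1 (hPE hx) (hPE hgx)))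
  -- `⁅M, M⁆` has order prime to `p`
  have h2 : ¬ p ∣ Nat.card (⁅M, M⁆ : Subgroup G) := by
    have h3 : ⁅M, M⁆ = (commutator M).map M.subtype := (map_subtype_commutator M).symm
    have h4 : Nat.card (⁅M, M⁆ : Subgroup G) = Nat.card (commutator M) := by
      rw [h3, card_map_of_injective M.subtype_injective]
    rw [h4]
    intro hd
    have h5 := hMZ.coprime_commutator_index
    have h6 : p ∣ (commutator M).index := by
      refine hpd.trans ?_
      rw [h3]
      have h7 : ((commutator M).map M.subtype).relIndex E =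
          (commutator M).relIndex (E.subgroupOf M) := by
        rw [← relIndex_subgroupOf hEM, subgroupOf, comap_map_eq_self_of_injective M.subtype_injective]
      rw [h7]
      exact relIndex_dvd_index_of_normal _ _
    exact Nat.Prime.one_lt hp |>.ne' (Nat.eq_one_of_dvd_coprimes h5 hd h6)
  apply hnil p hp hpE
  rw [PNilp.hasNormalPComplement_iff_inf_eq_bot P, eq_bot_iff]
  refine (FusionControl.inf_pResidual_le_focalSubgroup P).trans ?_
  rw [← Subgroup.commutator_inf_eq_focalSubgroup, h1, le_bot_iff]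
  apply inf_eq_bot_of_coprime
  obtain ⟨k, hk⟩ := IsPGroup.iff_card.mp P.isPGroup'
  rw [hk]
  exact (Nat.Coprime.pow_left _ ((Nat.Prime.coprime_iff_not_dvd hp).mpr h2)).symm

open Subgroup in
theorem structure_of_le [Finite G] [Finite Ω] (hZ : Cfsg.IsZassenhausGroup G Ω) {a b : Ω}
    (hab : a ≠ b)
    (hodd : Odd (Nat.card ↥(stabilizer G a ⊓ stabilizer G b : Subgroup G)))
    (hle : (stabilizer G a ⊓ stabilizer G b : Subgroup G) ≤
      ⁅normalizer ((stabilizer G a ⊓ stabilizer G b : Subgroup G) : Set G),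
        normalizer ((stabilizer G a ⊓ stabilizer G b : Subgroup G) : Set G)⁆) :
    IsCyclic ↥(stabilizer G a ⊓ stabilizer G b : Subgroup G) ∧
    ∀ t : G, t • a = b → t • b = a → ∀ y ∈ (stabilizer G a ⊓ stabilizer G b : Subgroup G),
      t * y * t⁻¹ = y⁻¹ := by
  have hz := isZGroup_normalizer hZ hab hodd
  obtain ⟨-, hidx⟩ := twoPoint hZ hab
  have hpair := fun g : G => mem_normalizer_of_pair (G := G) (a := a) (b := b) (g := g)
  set E : Subgroup G := stabilizer G a ⊓ stabilizer G b with hE
  set M : Subgroup G := normalizer (E : Set G) with hM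
  have hEM : E ≤ M := le_normalizer
  have hle' : ∀ y : M, (y : G) ∈ E → y ∈ commutator M := by
    intro y hy
    have h1 := hle hy
    rw [← map_subtype_commutator] at h1
    obtain ⟨z, hz1, hz2⟩ := h1
    have : z = y := Subtype.ext hz2
    rw [← this]
    exact hz1
  have hcyc : IsCyclic (commutator M) := IsZGroup.isCyclic_commutator M
  have hcycE : IsCyclic E := by
    let f : E →* commutator M :=
      { toFun := fun y => ⟨⟨y, hEM y.2⟩, hle' _ y.2⟩
        map_one' := rfl
        map_mul' := fun _ _ => rfl }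
    have hf : Function.Injective f := by
      intro x y hxy
      exact Subtype.ext (congrArg (fun z : commutator M => ((z : M) : G)) hxy)
    exact isCyclic_of_injective f hf
  refine ⟨hcycE, ?_⟩
  have hcomm : ∀ x ∈ E, ∀ y ∈ E, x * y = y * x := by
    intro x hx y hy
    have : IsMulCommutative E := inferInstance
    exact congrArg Subtype.val (this.is_comm.comm (⟨x, hx⟩ : E) ⟨y, hy⟩)
  have hfix : ∀ t : G, t • a = b → t • b = a → ∀ y ∈ E, t * y * t⁻¹ = y → y = 1 := by
    intro t hta htb y hy hty
    have htM : t ∈ M := hpair t (Or.inr ⟨hta, htb⟩)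
    have htE : t ∉ E := by
      rintro ⟨h, -⟩
      have h' : t • a = a := h
      rw [hta] at h'
      exact hab h'.symm
    have hcen : (⟨y, hEM hy⟩ : M) ∈ center M := by
      rw [mem_center_iff]
      intro m
      apply Subtype.ext
      change (m : G) * y = y * m
      by_cases hm : (m : G) ∈ E
      · exact hcomm _ hm _ hy
      · have h1 : t⁻¹ * (m : G) ∈ E := by
          have h2 : (⟨t, htM⟩ : M)⁻¹ * m ∈ E.subgroupOf M := by
            rw [mul_mem_iff_of_index_two hidx, inv_mem_iff]
            rw [mem_subgroupOf, mem_subgroupOf]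
            exact ⟨fun h => absurd h htE, fun h => absurd h hm⟩
          exact h2
        have h3 := hcomm _ h1 _ hy
        calc (m : G) * y = t * (t⁻¹ * m * y) := by group
          _ = t * (y * (t⁻¹ * m)) := by rw [h3]
          _ = (t * y * t⁻¹) * m := by group
          _ = y * m := by rw [hty]
    have h4 : (⟨y, hEM hy⟩ : M) ∈ commutator M ⊓ center M := ⟨hle' _ hy, hcen⟩
    rw [TransferApps.commutator_inf_center_eq_bot_of_abelian_sylows (fun p hp P => by
      have : Fact p.Prime := ⟨hp⟩
      infer_instance), mem_bot] at h4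
    exact congrArg Subtype.val h4
  intro t hta htb y hy
  have hconj : ∀ z ∈ E, t * z * t⁻¹ ∈ E := fun z hz =>
    (mem_normalizer_iff.mp (hpair t (Or.inr ⟨hta, htb⟩)) z).mp hz
  have ht2 : t * t ∈ E := by
    refine ⟨?_, ?_⟩
    · change (t * t) • a = a
      rw [mul_smul, hta, htb]
    · change (t * t) • b = b
      rw [mul_smul, htb, hta]
  have h1 : t * (t * y * t⁻¹) * t⁻¹ = y := by
    have h2 := hcomm _ ht2 _ hy
    calc t * (t * y * t⁻¹) * t⁻¹ = (t * t * y) * (t * t)⁻¹ := by group
      _ = y * (t * t) * (t * t)⁻¹ := by rw [h2]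
      _ = y := by group
  have h2 : y * (t * y * t⁻¹) = 1 := by
    apply hfix t hta htb _ (E.mul_mem hy (hconj y hy))
    calc t * (y * (t * y * t⁻¹)) * t⁻¹ = (t * y * t⁻¹) * (t * (t * y * t⁻¹) * t⁻¹) := by group
      _ = (t * y * t⁻¹) * y := by rw [h1]
      _ = y * (t * y * t⁻¹) := hcomm _ (hconj y hy) _ hy
  exact (inv_eq_of_mul_eq_one_right h2).symm


open Subgroup in
theorem main [Finite G] [Finite Ω] (hZ : Cfsg.IsZassenhausGroup G Ω) {a b : Ω}
    (hab : a ≠ b)
    (hodd : Odd (Nat.card ↥(stabilizer G a ⊓ stabilizer G b : Subgroup G)))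
    (hnil : ∀ q : ℕ, q.Prime → q ∣ Nat.card ↥(stabilizer G a ⊓ stabilizer G b : Subgroup G) →
      ¬ Cfsg.HasNormalPComplement q G) :
    IsCyclic ↥(stabilizer G a ⊓ stabilizer G b : Subgroup G) ∧
    centralizer ((stabilizer G a ⊓ stabilizer G b : Subgroup G) : Set G) =
      stabilizer G a ⊓ stabilizer G b ∧
    ∀ t : G, t • a = b → t • b = a → ∀ y ∈ (stabilizer G a ⊓ stabilizer G b : Subgroup G),
      t * y * t⁻¹ = y⁻¹ := by
  obtain ⟨hcyc, hinv⟩ := structure_of_le hZ hab hodd (le_commutator hZ hab hodd hnil)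
  refine ⟨hcyc, ?_, hinv⟩
  apply le_antisymm
  · intro g hg
    have hgN : g ∈ normalizer ((stabilizer G a ⊓ stabilizer G b : Subgroup G) : Set G) := by
      rw [mem_normalizer_iff]
      intro x
      rw [mem_centralizer_iff] at hg
      constructor
      · intro hx
        have := hg x hx
        rwa [← this, mul_inv_cancel_right]
      · intro hx
        have h1 := hg _ hx
        have h2 : g * x * g⁻¹ = x := by
          have : g * x * g⁻¹ * g = g * (g * x * g⁻¹) := h1
          have h3 : g * x = g * (g * x * g⁻¹) := by rw [← this]; group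
          exact (mul_left_cancel h3).symm
        rwa [h2] at hx
    rcases (mem_normalizer_iff_pair hZ hab g).1 hgN with ⟨h1, h2⟩ | ⟨h1, h2⟩
    · exact ⟨h1, h2⟩
    · exfalso
      obtain ⟨x, hx, hx1⟩ := exists_ne_one hZ hab
      have h3 := hinv g h1 h2 x hx
      have h4 : x * g = g * x := (mem_centralizer_iff.1 hg) x hx
      rw [← h4, mul_inv_cancel_right] at h3
      have h5 : x ^ 2 = 1 := by
        rw [pow_two]
        nth_rewrite 2 [h3]
        exact mul_inv_cancel x
      apply hx1
      have h6 : orderOf x ∣ 2 := orderOf_dvd_of_pow_eq_one h5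
      have h7 : orderOf x ∣ Nat.card ↥(stabilizer G a ⊓ stabilizer G b : Subgroup G) :=
        Subgroup.orderOf_dvd_natCard _ hx
      have h8 := Nat.dvd_gcd h6 h7
      rw [Nat.Coprime.gcd_eq_one hodd.coprime_two_left, Nat.dvd_one, orderOf_eq_one_iff] at h8
      exact h8
  · haveI : IsMulCommutative ↥(stabilizer G a ⊓ stabilizer G b : Subgroup G) := inferInstance
    exact le_centralizer _

end Cfsg.Agent.Lib.H1Zass
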