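import Mathlib
import Cfsg.Agent.Lib.ZassAb
import Cfsg.Agent.Lib.PSL2Data
import Cfsg.Agent.S0741
import Cfsg.Agent.S0739
import Cfsg.Agent.S0740
import Cfsg.Agent.S0339

/-!
Zassenhaus groups with abelian kernel (helper13).
-/

set_option autoImplicit false

namespace Cfsg.Agent.Lib.ZassMain

open MulAction ZassBasic

universe u v

theorem card_ne {Ω : Type v} [Finite Ω] (a : Ω) : Nat.card {x : Ω // x ≠ a} + 1 = Nat.card Ω := by
  classical
  have := Fintype.ofFinite Ω
  rw [Nat.card_eq_fintype_card, Fintype.card_subtype_compl, Fintype.card_subtype_eq,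
    Nat.card_eq_fintype_card]
  have : 0 < Fintype.card Ω := Fintype.card_pos_iff.2 ⟨a⟩
  omega

theorem simple_odd {G : Type u} {Ω : Type v} [Group G] [MulAction G Ω] [Finite G] [Finite Ω]
    (hZ : Cfsg.IsZassenhausGroup G Ω) [IsSimpleGroup G] {a b : Ω} (hab : a ≠ b)
    (hodd : Odd (Nat.card ↥(stabilizer G a ⊓ stabilizer G b))) :
    IsCyclic ↥(stabilizer G a ⊓ stabilizer G b) ∧ ∀ s : G, s • a = b → s • b = a →
      ∀ h ∈ stabilizer G a ⊓ stabilizer G b, s * h * s⁻¹ = h⁻¹ := by
  classical
  have := Fintype.ofFinite Ω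
  have hZ' := hZ
  obtain ⟨hfaith, h2, h3, hmv, -⟩ := hZ'
  have hGnt : Nontrivial G := IsSimpleGroup.toNontrivial
  have hnil : ∀ q : ℕ, q.Prime → q ∣ Nat.card ↥(MulAction.stabilizer G a ⊓ MulAction.stabilizer G b) →
      ¬ ∃ N : Subgroup G, N.Normal ∧ N.index = q ^ (Nat.card G).factorization q := by
    rintro q hq hqd ⟨N, hN, hidx⟩
    have hqG : q ∣ Nat.card G := hqd.trans (Subgroup.card_subgroup_dvd_card _)
    have hv : (Nat.card G).factorization q ≠ 0 :=
      (hq.factorization_pos_of_dvd Nat.card_pos.ne' hqG).ne'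
    rcases hN.eq_bot_or_eq_top with h | h
    · rw [h, Subgroup.index_bot] at hidx
      -- G is a q-group, but |Ω| (|Ω| - 1) divides |G|
      have hcs := ZassBasic.card_stab h2 hab
      have htr : MulAction.IsPretransitive G Ω := by
        constructor
        intro x y
        by_cases hxy : x = y
        · exact ⟨1, by rw [one_smul, hxy]⟩
        · obtain ⟨g, hg, _⟩ := ZassBasic.exists_move h2 hxy (Ne.symm hxy)
          exact ⟨g, hg⟩
      have hidxa := MulAction.index_stabilizer_of_transitive G a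
      have hG := (MulAction.stabilizer G a).index_mul_card
      rw [hidxa, hcs] at hG
      have hcard : Nat.card {x : Ω // x ≠ a} + 1 = Nat.card Ω := card_ne a
      obtain ⟨g, hg1, a', b', hab', hga', hgb'⟩ := hmv
      obtain ⟨c', hc'⟩ := ZassBasic.exists_moved (Ω := Ω) (s := g) hg1
      have h3Ω : 3 ≤ Nat.card Ω := by
        have hac : a' ≠ c' := by rintro rfl; exact hc' hga'
        have hbc : b' ≠ c' := by rintro rfl; exact hc' hgb'
        rw [Nat.card_eq_fintype_card]
        exact Fintype.two_lt_card_iff.2 ⟨a', b', c', hab', hac, hbc⟩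
      set m := Nat.card {x : Ω // x ≠ a} with hm
      have hd1 : m ∣ q ^ (Nat.card G).factorization q := by
        rw [← hidx, ← hG]
        exact Dvd.dvd.mul_left (Dvd.intro _ rfl) _
      have hd2 : m + 1 ∣ q ^ (Nat.card G).factorization q := by
        rw [← hidx, ← hG, hcard]
        exact Dvd.intro _ rfl
      obtain ⟨i, -, hi⟩ := (Nat.dvd_prime_pow hq).1 hd1
      obtain ⟨j, -, hj⟩ := (Nat.dvd_prime_pow hq).1 hd2
      have hi0 : i ≠ 0 := by
        rintro rfl
        rw [pow_zero] at hi
        omega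
      have hj0 : j ≠ 0 := by
        rintro rfl
        rw [pow_zero] at hj
        omega
      have h1 : q ∣ m := by rw [hi]; exact dvd_pow_self _ hi0
      have h2 : q ∣ m + 1 := by rw [hj]; exact dvd_pow_self _ hj0
      have h3 : q ∣ 1 := (Nat.dvd_add_right h1).1 h2
      exact hq.one_lt.ne' (Nat.dvd_one.1 h3)
    · rw [h, Subgroup.index_top] at hidx
      have : 1 < q ^ (Nat.card G).factorization q := Nat.one_lt_pow hv hq.one_lt
      omega
  obtain ⟨hcyc, -, hinv⟩ := Cfsg.Agent.S0739.result hZ hab hodd hnil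
  exact ⟨hcyc, hinv⟩

/-- two-point stabilisers are nontrivial -/
theorem stab2_ne {G : Type u} {Ω : Type v} [Group G] [MulAction G Ω] [Finite G] [Finite Ω]
    (hZ : Cfsg.IsZassenhausGroup G Ω) {a b : Ω} (hab : a ≠ b) :
    ∃ x ∈ stabilizer G a ⊓ stabilizer G b, x ≠ 1 := by
  obtain ⟨-, h2, -, ⟨g, hg1, c, d, hcd, hgc, hgd⟩, -⟩ := hZ
  obtain ⟨k, hk1, hk2⟩ := exists_move h2 hcd hab
  refine ⟨k * g * k⁻¹, ⟨?_, ?_⟩, ?_⟩
  · change (k * g * k⁻¹) • a = a
    rw [mul_smul, mul_smul, inv_smul_eq_iff.2 hk1.symm, hgc, hk1]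
  · change (k * g * k⁻¹) • b = b
    rw [mul_smul, mul_smul, inv_smul_eq_iff.2 hk2.symm, hgd, hk2]
  · intro h
    apply hg1
    have : g = k⁻¹ * (k * g * k⁻¹) * k := by group
    rw [this, h]; group

theorem exists_third {G : Type u} {Ω : Type v} [Group G] [MulAction G Ω] [Finite G] [Finite Ω]
    (hZ : Cfsg.IsZassenhausGroup G Ω) {a b : Ω} (hab : a ≠ b) : ∃ c, a ≠ c ∧ b ≠ c := by
  obtain ⟨x, hx, hx1⟩ := stab2_ne hZ hab
  have := hZ.1
  obtain ⟨c, hc⟩ := exists_moved (Ω := Ω) hx1
  refine ⟨c, ?_, ?_⟩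
  · rintro rfl; exact hc hx.1
  · rintro rfl; exact hc hx.2

/-- the two-point stabiliser is small -/
theorem card_stab2_le {G : Type u} {Ω : Type v} [Group G] [MulAction G Ω] [Finite G] [Finite Ω]
    (h3 : Fix3 G Ω) {a b c : Ω} (hab : a ≠ b) (hac : a ≠ c) (hbc : b ≠ c) :
    Nat.card ↥(stabilizer G a ⊓ stabilizer G b) + 2 ≤ Nat.card Ω := by
  classical
  have := Fintype.ofFinite Ω
  have := Fintype.ofFinite G
  let φ : ↥(stabilizer G a ⊓ stabilizer G b) → {x : Ω // x ∈ Finset.univ \ ({a, b} : Finset Ω)} :=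
    fun h => ⟨(h : G) • c, by
      have hha : (h : G) • a = a := h.2.1
      have hhb : (h : G) • b = b := h.2.2
      rw [Finset.mem_sdiff, Finset.mem_insert, Finset.mem_singleton]
      refine ⟨Finset.mem_univ _, ?_⟩
      rintro (h1 | h1)
      · exact hac (MulAction.injective (h : G) (hha.trans h1.symm))
      · exact hbc (MulAction.injective (h : G) (hhb.trans h1.symm))⟩
  have hφ : Function.Injective φ := by
    intro h k hhk
    apply Subtype.ext
    exact Sharp3.eq_of_three h3 hab hac hbc
      ((h.2.1 : (h : G) • a = a).trans (k.2.1 : (k : G) • a = a).symm)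
      ((h.2.2 : (h : G) • b = b).trans (k.2.2 : (k : G) • b = b).symm) (congrArg Subtype.val hhk)
  have h1 := Nat.card_le_card_of_injective φ hφ
  have h2 : Nat.card {x : Ω // x ∈ Finset.univ \ ({a, b} : Finset Ω)} = Nat.card Ω - 2 := by
    rw [Nat.card_eq_fintype_card, Fintype.card_coe, Finset.card_sdiff_of_subset (Finset.subset_univ _),
      Finset.card_univ, Finset.card_pair hab, Nat.card_eq_fintype_card]
  have h3 : 2 < Nat.card Ω := by
    rw [Nat.card_eq_fintype_card]
    exact Fintype.two_lt_card_iff.2 ⟨a, b, c, hab, hac, hbc⟩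
  omega

theorem inK_coe {G : Type u} {Ω : Type v} [Group G] [MulAction G Ω] (N : Subgroup G) (a : Ω)
    (u : N) : InK a (u : G) ↔ InK a u := by
  constructor
  · rintro ⟨h1, h2⟩
    exact ⟨h1, fun hu x hx => h2 (fun h => hu (Subtype.ext h)) x hx⟩
  · rintro ⟨h1, h2⟩
    exact ⟨h1, fun hu x hx => h2 (fun h => hu (congrArg Subtype.val h)) x hx⟩

/-- orders, by induction -/
theorem card_cases {Ω : Type v} [Finite Ω] (n : ℕ) :
    ∀ (G : Type u) [Group G] [MulAction G Ω] [Finite G], Nat.card G = n →
    Cfsg.IsZassenhausGroup G Ω → ∀ {a b : Ω}, a ≠ b → ∀ K : Subgroup G, (∀ u, u ∈ K ↔ InK a u) →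
    (∀ x ∈ K, ∀ y ∈ K, x * y = y * x) → Odd (Nat.card ↥(stabilizer G a ⊓ stabilizer G b)) →
    (Nat.card Ω = 2 * Nat.card ↥(stabilizer G a ⊓ stabilizer G b) + 2 ∧ IsSimpleGroup G) ∨
      Nat.card Ω = Nat.card ↥(stabilizer G a ⊓ stabilizer G b) + 2 := by
  classical
  induction n using Nat.strong_induction_on with
  | _ n ih =>
  intro G _ _ _ hGn hZ a b hab K hK hKc hodd
  obtain ⟨hfaith, h2, h3, -, -⟩ := id hZ
  have h3' : Fix3 G Ω := h3
  obtain ⟨c, hac, hbc⟩ := exists_third hZ hab
  by_cases hsimple : IsSimpleGroup G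
  · have hKcard : Nat.card K + 1 = Nat.card Ω := by
      rw [← card_ne a, ← card_InK h2 h3 hab]
      congr 1
      exact Nat.card_congr (Equiv.subtypeEquivRight hK)
    have hcardpair : ∀ x y : Ω, x ≠ y → Nat.card ↥(stabilizer G x ⊓ stabilizer G y) =
        Nat.card ↥(stabilizer G a ⊓ stabilizer G b) := by
      intro x y hxy
      by_cases hxa : x = a
      · subst hxa
        exact card_stab2_eq h2 hxy hab
      · rw [card_stab2_eq h2 hxy hxa, inf_comm]
        exact card_stab2_eq h2 (Ne.symm hxa) hab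
    have h := ZassAb.card_eq h2 h3' hab K (fun k hk => ((hK k).1 hk).1) hKc
      (fun g hg k hk => (hK _).2 (inK_conj ((hK k).1 hk) hg))
      (fun x hx y hya hxy => by
        by_contra hx1
        exact ((hK x).1 hx).2 hx1 y hya hxy)
      (fun y hy => by
        obtain ⟨u, hu, -⟩ := ZassHalf.kernel_regular h2 h3' hab K hK y hy
        exact ⟨u, u.2, hu⟩)
      (by
        obtain ⟨hcyc, -⟩ := simple_odd hZ hab hodd
        intro x hx y hy
        have := IsCyclic.isMulCommutative (α := ↥(stabilizer G a ⊓ stabilizer G b))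
        exact Subgroup.mul_comm_of_mem_isMulCommutative _ hx hy)
      hodd (stab2_ne hZ hab)
      (by
        intro x y hxy
        have hodd' : Odd (Nat.card ↥(stabilizer G x ⊓ stabilizer G y)) := by
          rw [hcardpair x y hxy]; exact hodd
        exact (simple_odd hZ hxy hodd').2)
    rcases h with h | h
    · left
      exact ⟨by omega, hsimple⟩
    · right
      omega
  · -- a proper normal subgroup
    have hnt : Nontrivial G := by
      obtain ⟨x, -, hx⟩ := stab2_ne hZ hab
      exact ⟨⟨x, 1, hx⟩⟩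
    obtain ⟨N, hN, hNbot, hNtop⟩ : ∃ N : Subgroup G, N.Normal ∧ N ≠ ⊥ ∧ N ≠ ⊤ := by
      by_contra hcon
      push Not at hcon
      apply hsimple
      refine ⟨fun N hN => ?_⟩
      by_cases h : N = ⊥
      · exact Or.inl h
      · exact Or.inr (hcon N hN h)
    have hZN := Cfsg.Agent.S0339.result hZ N hNbot
    obtain ⟨hfaithN, h2N, h3N, -, -⟩ := id hZN
    have hlt : Nat.card N < n := by
      rw [← hGn]
      have h5 := Subgroup.card_le_card_group N
      refine lt_of_le_of_ne h5 fun h6 => hNtop (Subgroup.eq_top_of_card_eq N h6)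
    -- two-point stabiliser of N
    let ι : ↥(stabilizer N a ⊓ stabilizer N b) →* ↥(stabilizer G a ⊓ stabilizer G b) :=
      { toFun := fun x => ⟨(x : N), x.2.1, x.2.2⟩
        map_one' := rfl
        map_mul' := fun x y => rfl }
    have hι : Function.Injective ι := by
      intro x y hxy
      have h5 : (ι x : G) = (ι y : G) := congrArg Subtype.val hxy
      exact Subtype.ext (Subtype.ext h5)
    have hdvd : Nat.card ↥(stabilizer N a ⊓ stabilizer N b) ∣
        Nat.card ↥(stabilizer G a ⊓ stabilizer G b) := Subgroup.card_dvd_of_injective ι hι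
    have hoddN : Odd (Nat.card ↥(stabilizer N a ⊓ stabilizer N b)) := hodd.of_dvd_nat hdvd
    have hle := card_stab2_le h3' hab hac hbc
    have hposN : 0 < Nat.card ↥(stabilizer N a ⊓ stabilizer N b) := Nat.card_pos
    obtain ⟨k, hk⟩ := hdvd
    have hkodd : Odd k := by
      rw [hk] at hodd
      exact (Nat.odd_mul.1 hodd).2
    have hk1 : k = 1 ∨ 3 ≤ k := by
      obtain ⟨j, hj⟩ := hkodd
      omega
    rcases ih (Nat.card N) hlt N rfl hZN hab (K.subgroupOf N)
      (fun u => by rw [Subgroup.mem_subgroupOf, hK, inK_coe])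
      (fun x hx y hy => Subtype.ext (hKc x.1 hx y.1 hy)) hoddN with ⟨h, hs⟩ | h
    · -- then `N` has the order of `G`
      exfalso
      have hk1' : k = 1 := by
        rcases hk1 with h | h3k
        · exact h
        · exfalso
          rw [hk, h] at hle
          have : Nat.card ↥(stabilizer N a ⊓ stabilizer N b) * 3 ≤
            Nat.card ↥(stabilizer N a ⊓ stabilizer N b) * k := Nat.mul_le_mul_left _ h3k
          omega
      apply hNtop
      apply Subgroup.eq_top_of_card_eq
      have htrG : IsPretransitive G Ω := by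
        constructor
        intro x y
        by_cases hxy : x = y
        · exact ⟨1, by rw [one_smul, hxy]⟩
        · obtain ⟨g, hg, _⟩ := ZassBasic.exists_move h2 hxy (Ne.symm hxy)
          exact ⟨g, hg⟩
      have htrN : IsPretransitive N Ω := by
        constructor
        intro x y
        by_cases hxy : x = y
        · exact ⟨1, by rw [one_smul, hxy]⟩
        · obtain ⟨g, hg, _⟩ := ZassBasic.exists_move h2N hxy (Ne.symm hxy)
          exact ⟨g, hg⟩
      rw [← (stabilizer N a).index_mul_card, ← (stabilizer G a).index_mul_card,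
        index_stabilizer_of_transitive, index_stabilizer_of_transitive, card_stab h2N hab,
        card_stab h2 hab, hk, hk1', mul_one]
    · right
      rcases hk1 with h' | h3k
      · rw [hk, h', mul_one]; exact h
      · exfalso
        rw [hk, h] at hle
        have : Nat.card ↥(stabilizer N a ⊓ stabilizer N b) * 3 ≤
          Nat.card ↥(stabilizer N a ⊓ stabilizer N b) * k := Nat.mul_le_mul_left _ h3k
        omega

/-- **Zassenhaus groups with abelian kernel.** -/
theorem main {G : Type u} {Ω : Type v} [Group G] [MulAction G Ω] [Finite G] [Finite Ω]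
    (hZ : Cfsg.IsZassenhausGroup G Ω) {a b : Ω} (hab : a ≠ b) (K : Subgroup G)
    (hK : ∀ u, u ∈ K ↔ InK a u) (hKc : ∀ x ∈ K, ∀ y ∈ K, x * y = y * x) :
    Sharp3.Move3 G Ω ∨ ∃ (E : Type) (_ : Field E) (_ : Fintype E), ringChar E ≠ 2 ∧
      Nat.card Ω = Fintype.card E + 1 ∧
      Nat.card Ω = 2 * Nat.card ↥(stabilizer G a ⊓ stabilizer G b) + 2 ∧
      Nonempty (G ≃* Matrix.ProjectiveSpecialLinearGroup (Fin 2) E) := by
  classical
  have := Fintype.ofFinite Ω
  obtain ⟨hfaith, h2, h3, -, -⟩ := id hZ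
  have h3' : Fix3 G Ω := h3
  obtain ⟨c, hac, hbc⟩ := exists_third hZ hab
  rcases Nat.even_or_odd (Nat.card ↥(stabilizer G a ⊓ stabilizer G b)) with heven | hodd
  · have hge := Cfsg.Agent.S0741.result hZ hab heven
    rw [← Nat.card_eq_fintype_card] at hge
    have h3Ω : 2 < Nat.card Ω := by
      rw [Nat.card_eq_fintype_card]
      exact Fintype.two_lt_card_iff.2 ⟨a, b, c, hab, hac, hbc⟩
    by_cases hd : 2 * Nat.card ↥(stabilizer G a ⊓ stabilizer G b) ≤ Nat.card Ω - 2
    · right
      obtain ⟨E, i1, i2, h4, h5, h6⟩ := ZassHalf.psl_of_half h2 h3' hab heven hd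
      exact ⟨E, i1, i2, h4, h5, by omega, h6⟩
    · left
      exact Sharp3.move3_of_big h2 h3' hab hac hbc hd
  · rcases card_cases (Nat.card G) G rfl hZ hab K hK hKc hodd with ⟨h, hs⟩ | h
    · right
      obtain ⟨hcyc, hinv⟩ := simple_odd hZ hab hodd
      have hKcard : Nat.card K + 1 = Nat.card Ω := by
        rw [← card_ne a, ← card_InK h2 h3 hab]
        congr 1
        exact Nat.card_congr (Equiv.subtypeEquivRight hK)
      obtain ⟨t0, ht0⟩ := exists_involution h2 hab
      obtain ⟨g0, hg1, hg2⟩ := exists_conj_swap h2 ht0 hab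
      set s : G := g0 * t0 * g0⁻¹ with hs
      have hss : s * s = 1 := by
        have h4 : t0 * t0 = 1 := by rw [← sq, ← ht0, pow_orderOf_eq_one]
        rw [hs, show g0 * t0 * g0⁻¹ * (g0 * t0 * g0⁻¹) = g0 * (t0 * t0) * g0⁻¹ by group, h4]
        group
      have hsinv : s⁻¹ = s := inv_eq_of_mul_eq_one_right hss
      obtain ⟨E, i1, i2, h4, h5⟩ := PSL2Data.psl2_of_action hab K (stabilizer G a ⊓ stabilizer G b)
        hKc
        (by
          intro x hx y hy
          have := IsCyclic.isMulCommutative (α := ↥(stabilizer G a ⊓ stabilizer G b))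
          exact Subgroup.mul_comm_of_mem_isMulCommutative _ hx hy)
        (fun d hd x hx => (hK _).2 (inK_conj ((hK x).1 hx) hd.1))
        (by
          intro d hd x hx hdx hx1
          have hxb : x • b ≠ b := ((hK x).1 hx).2 hx1 b hab.symm
          have hxa : x • b ≠ a := fun h' =>
            hab (MulAction.injective x (((hK x).1 hx).1.trans h'.symm))
          have hdb : d • b = b := hd.2
          refine h3' d a b (x • b) hab hxb.symm hxa.symm hd.1 hdb ?_
          rw [← mul_smul, hdx, mul_smul, hdb])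
        (by omega)
        (by
          intro g hga
          have hgb : g • b ≠ a := fun h' => hab (MulAction.injective g (hga.trans h'.symm))
          obtain ⟨u, hu, -⟩ := ZassHalf.kernel_regular h2 h3' hab K hK _ hgb
          have hua : (u : G) • a = a := ((hK u).1 u.2).1
          refine ⟨u, u.2, (u : G)⁻¹ * g, ⟨?_, ?_⟩, by group⟩
          · change ((u : G)⁻¹ * g) • a = a
            rw [mul_smul, hga, inv_smul_of_smul hua]
          · change ((u : G)⁻¹ * g) • b = b
            rw [mul_smul, ← hu, inv_smul_smul])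
        (fun x hx => ((hK x).1 hx).1) (fun d hd => hd.1) (fun d hd => hd.2)
        (fun y hy => by
          obtain ⟨u, hu, -⟩ := ZassHalf.kernel_regular h2 h3' hab K hK y hy
          exact ⟨u, u.2, hu⟩)
        (fun x hx hxb => by
          by_contra hx1
          exact ((hK x).1 hx).2 hx1 b hab.symm hxb)
        s hss hg1
        (fun d hd => by
          have h6 := hinv s hg1 hg2 d hd
          rwa [hsinv] at h6)
      refine ⟨E, i1, i2, ?_, by omega, h, h5⟩
      intro hchar
      have hodd' : Odd (Fintype.card E) := by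
        rw [h4]
        exact ⟨Nat.card ↥(stabilizer G a ⊓ stabilizer G b), by omega⟩
      have h6 := FiniteField.even_card_of_char_two hchar
      rw [Nat.odd_iff] at hodd'
      omega
    · left
      refine Sharp3.move3_of_big h2 h3' hab hac hbc ?_
      have h3Ω : 2 < Nat.card Ω := by
        rw [Nat.card_eq_fintype_card]
        exact Fintype.two_lt_card_iff.2 ⟨a, b, c, hab, hac, hbc⟩
      omega

end Cfsg.Agent.Lib.ZassMain
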