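import Cfsg.Agent.Lib.ZassOdd

set_option autoImplicit false

/-!
# The socle of a Zassenhaus group (helper15)

The subgroup generated by the Frobenius kernels of the point stabilisers is simple and is again a
Zassenhaus group.
-/

namespace Cfsg.Agent.Lib.ZassRed

open MulAction ZassBasic ZassKernel ZassOdd

universe u v

variable {G : Type u} {Ω : Type v} [Group G] [MulAction G Ω]

/-- regular kernel of a transitive group whose two-point stabilisers are trivial -/
theorem exists_regular [Finite G] [Finite Ω] (T : Subgroup G) {a b : Ω} (hab : a ≠ b)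
    (htrans : ∀ c d : Ω, ∃ t ∈ T, t • c = d)
    (h1 : ∀ c d : Ω, c ≠ d → ∀ t ∈ T, t • c = c → t • d = d → t = 1) :
    ∃ F : Subgroup G, (∀ x, x ∈ F ↔ x ∈ T ∧ (x = 1 ∨ ∀ c : Ω, x • c ≠ c)) ∧
      (∀ c d : Ω, ∃ f ∈ F, f • c = d) ∧ Nat.card F = Nat.card Ω := by
  classical
  have hpt : IsPretransitive T Ω := ⟨fun c d => by
    obtain ⟨t, ht, h⟩ := htrans c d
    exact ⟨⟨t, ht⟩, h⟩⟩
  have key : ∀ F : Subgroup G, (∀ x, x ∈ F ↔ x ∈ T ∧ (x = 1 ∨ ∀ c : Ω, x • c ≠ c)) →
      Nat.card F = Nat.card Ω → ∀ c d : Ω, ∃ f ∈ F, f • c = d := by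
    intro F hF hcard c
    let φ : F → Ω := fun f => (f : G) • c
    have hφ : Function.Injective φ := by
      intro f f' hff
      have h2 : ((f'⁻¹ * f : F) : G) ∈ F := (f'⁻¹ * f).2
      have h3 : ((f'⁻¹ * f : F) : G) • c = c := by
        change ((f' : G)⁻¹ * f) • c = c
        rw [mul_smul]
        change (f' : G)⁻¹ • φ f = c
        rw [hff]
        exact inv_smul_smul _ _
      rcases ((hF _).mp h2).2 with h4 | h4
      · have : f'⁻¹ * f = 1 := Subtype.ext h4
        exact (inv_mul_eq_one.mp this).symm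
      · exact absurd h3 (h4 c)
    intro d
    obtain ⟨f, hf⟩ := ((Nat.bijective_iff_injective_and_card φ).mpr ⟨hφ, hcard⟩).2 d
    exact ⟨f, f.2, hf⟩
  set A : Subgroup T := stabilizer T a with hA
  have hidx : A.index = Nat.card Ω := index_stabilizer_of_transitive T a
  by_cases hbot : A = ⊥
  · have hTF : ∀ x, x ∈ T ↔ x ∈ T ∧ (x = 1 ∨ ∀ c : Ω, x • c ≠ c) := by
      intro x
      refine ⟨fun hx => ⟨hx, ?_⟩, fun h => h.1⟩
      by_cases hex : ∃ c : Ω, x • c = c
      · left
        obtain ⟨c, hc⟩ := hex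
        obtain ⟨t, ht, htc⟩ := htrans a c
        have h2 : (⟨t⁻¹ * x * t, T.mul_mem (T.mul_mem (T.inv_mem ht) hx) ht⟩ : T) ∈ A := by
          change (t⁻¹ * x * t) • a = a
          rw [mul_smul, mul_smul, htc, hc, inv_smul_eq_iff, htc]
        rw [hbot, Subgroup.mem_bot] at h2
        have h3 : t⁻¹ * x * t = 1 := congrArg Subtype.val h2
        have h4 : x = t * (t⁻¹ * x * t) * t⁻¹ := by group
        rw [h4, h3]; group
      · right
        push Not at hex
        exact hex
    have hcard : Nat.card T = Nat.card Ω := by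
      rw [← hidx, hbot, Subgroup.index_bot]
    exact ⟨T, hTF, key T hTF hcard, hcard⟩
  · have hF : IsFrobeniusComplement A := by
      rw [FrobBasic.isFrobeniusComplement_iff]
      refine ⟨hbot, ?_, ?_⟩
      · intro h
        obtain ⟨t, ht, hta⟩ := htrans a b
        have h2 : (⟨t, ht⟩ : T) ∈ A := by rw [h]; trivial
        have h3 : t • a = a := h2
        rw [hta] at h3
        exact hab h3.symm
      · intro g hg x hx hgx
        have hga : (g : G) • a ≠ a := hg
        have hxa : (x : G) • a = a := hx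
        have hgx' : ((g : G)⁻¹ * x * g) • a = a := hgx
        apply Subtype.ext
        apply h1 a ((g : G) • a) (Ne.symm hga) x x.2 hxa
        rw [mul_smul, mul_smul, inv_smul_eq_iff] at hgx'
        exact hgx'
    obtain ⟨N, hN, hNn, hc⟩ := FrobThm.exists_kernel hF
    have hmem : ∀ x, x ∈ N.map T.subtype ↔ x ∈ T ∧ (x = 1 ∨ ∀ c : Ω, x • c ≠ c) := by
      intro x
      constructor
      · rintro ⟨y, hy, rfl⟩
        refine ⟨y.2, ?_⟩
        have h2 : y ∈ (N : Set T) := hy
        rw [hN, FrobBasic.mem_frobeniusKernel_iff] at h2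
        rcases h2 with h2 | h2
        · left; rw [h2]; rfl
        · right
          intro c hyc
          obtain ⟨t, ht, htc⟩ := htrans a c
          apply h2 ⟨t, ht⟩
          change (t⁻¹ * (y : G) * t) • a = a
          have hyc' : (y : G) • c = c := hyc
          rw [mul_smul, mul_smul, htc, hyc', inv_smul_eq_iff, htc]
      · rintro ⟨hxT, hx⟩
        refine ⟨⟨x, hxT⟩, ?_, rfl⟩
        have h2 : (⟨x, hxT⟩ : T) ∈ (N : Set T) := by
          rw [hN, FrobBasic.mem_frobeniusKernel_iff]
          rcases hx with hx | hx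
          · left; exact Subtype.ext hx
          · right
            intro g hg
            have h3 : ((g : G)⁻¹ * x * g) • a = a := hg
            rw [mul_smul, mul_smul, inv_smul_eq_iff] at h3
            exact hx _ h3
        exact h2
    have hcard : Nat.card (N.map T.subtype) = Nat.card Ω := by
      rw [Subgroup.card_map_of_injective (Subgroup.subtype_injective _), ← hidx,
        hc.index_eq_card]
    exact ⟨_, hmem, key _ hmem hcard, hcard⟩

theorem inK_conj' {c : Ω} {u : G} (hu : InK c u) (g : G) : InK (g • c) (g * u * g⁻¹) := by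
  refine ⟨by rw [mul_smul, mul_smul, inv_smul_smul, hu.1], fun h x hx hux => ?_⟩
  have hu1 : u ≠ 1 := by
    rintro rfl
    apply h
    rw [mul_one, mul_inv_cancel]
  apply hu.2 hu1 (g⁻¹ • x)
  · intro h'
    apply hx
    rw [← h', smul_inv_smul]
  · rw [mul_smul, mul_smul] at hux
    rw [eq_inv_smul_iff, hux]

/-- the kernel is transitive on the other points -/
theorem exists_inK [Finite G] [Finite Ω] (hZ : Cfsg.IsZassenhausGroup G Ω) {f c d : Ω}
    (hc : c ≠ f) (hd : d ≠ f) : ∃ u : G, InK f u ∧ u • c = d := by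
  classical
  obtain ⟨H, hHf, hHcard, hHfix⟩ := exists_kernel hZ f
  let φ : H → {x : Ω // x ≠ f} := fun u => ⟨(u : G) • c, fun h => hc (by
    apply MulAction.injective (u : G)
    change (u : G) • c = (u : G) • f
    rw [h]
    exact (hHf u.2).symm)⟩
  have hφ : Function.Injective φ := by
    intro u u' huu
    have h1 : (u : G) • c = (u' : G) • c := congrArg Subtype.val huu
    have h2 : ((u' : G)⁻¹ * u) • c = c := by
      rw [mul_smul, h1, inv_smul_smul]
    by_contra hne
    have h3 : (u' : G)⁻¹ * u ≠ 1 := fun h => hne (Subtype.ext (inv_mul_eq_one.mp h).symm)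
    exact hc (hHfix _ (H.mul_mem (H.inv_mem u'.2) u.2) h3 c h2)
  have hcard : Nat.card H = Nat.card {x : Ω // x ≠ f} := by
    have := card_ne f
    omega
  obtain ⟨u, hu⟩ := ((Nat.bijective_iff_injective_and_card φ).mpr ⟨hφ, hcard⟩).2 ⟨d, hd⟩
  exact ⟨u, (mem_kernel_iff hZ f H hHf hHcard hHfix _).mp u.2, congrArg Subtype.val hu⟩

/-- A subgroup normalised by the kernel at `c` and containing a nonidentity element fixing `c` and
another point contains the kernel. -/
theorem kernel_le [Finite G] [Finite Ω] (hZ : Cfsg.IsZassenhausGroup G Ω) (T : Subgroup G)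
    {c d : Ω} (hcd : c ≠ d) {x : G} (hxT : x ∈ T) (hx1 : x ≠ 1) (hc : x • c = c) (hd : x • d = d)
    (hnorm : ∀ u, InK c u → ∀ t ∈ T, u * t * u⁻¹ ∈ T) (w : G) (hw : InK c w) : w ∈ T := by
  classical
  obtain ⟨H, hHc, hHcard, hHfix⟩ := exists_kernel hZ c
  have hmem := mem_kernel_iff hZ c H hHc hHcard hHfix
  let φ : H → H := fun u => ⟨(x * u * x⁻¹) * (u : G)⁻¹, H.mul_mem
    ((hmem _).mpr (inK_conj ((hmem _).mp u.2) hc)) (H.inv_mem u.2)⟩
  have hφ : Function.Injective φ := by
    intro u v huv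
    have h1 : x * (u : G) * x⁻¹ * (u : G)⁻¹ = x * (v : G) * x⁻¹ * (v : G)⁻¹ :=
      congrArg Subtype.val huv
    set w : G := (v : G)⁻¹ * u with hw
    have hwH : w ∈ H := H.mul_mem (H.inv_mem v.2) u.2
    have h2 : x * w = w * x := by
      have h3 : (u : G) * x⁻¹ * (u : G)⁻¹ = (v : G) * x⁻¹ * (v : G)⁻¹ := by
        apply mul_left_cancel (a := x)
        rw [← mul_assoc, ← mul_assoc, ← mul_assoc, ← mul_assoc]
        exact h1
      have h4 : w * x⁻¹ = x⁻¹ * w := by
        calc w * x⁻¹ = (v : G)⁻¹ * ((u : G) * x⁻¹ * (u : G)⁻¹) * u := by rw [hw]; group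
          _ = (v : G)⁻¹ * ((v : G) * x⁻¹ * (v : G)⁻¹) * u := by rw [h3]
          _ = x⁻¹ * w := by rw [hw]; group
      calc x * w = x * (w * x⁻¹) * x := by group
        _ = x * (x⁻¹ * w) * x := by rw [h4]
        _ = w * x := by group
    by_contra hne
    have hw1 : w ≠ 1 := fun h => hne (Subtype.ext (inv_mul_eq_one.mp h).symm)
    apply hx1
    have h5 : w • d ≠ d := fun h => hcd (hHfix w hwH hw1 d h).symm
    refine hZ.2.2.1 x c d (w • d) hcd (Ne.symm h5) ?_ hc hd ?_
    · intro h
      apply hcd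
      have h6 : w • c = c := hHc hwH
      apply MulAction.injective w
      change w • c = w • d
      rw [← h, h6]
    · rw [← mul_smul, h2, mul_smul, hd]
  obtain ⟨u, hu⟩ := (Finite.injective_iff_surjective.mp hφ) ⟨w, (hmem w).mpr hw⟩
  have h1 : x * (u : G) * x⁻¹ * (u : G)⁻¹ = w := congrArg Subtype.val hu
  have h2 : w = x * ((u : G) * x⁻¹ * (u : G)⁻¹) := by rw [← h1]; group
  rw [h2]
  exact T.mul_mem hxT (hnorm u ((hmem _).mp u.2) _ (T.inv_mem hxT))

/-- the subgroup generated by the kernels -/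
def soc (G : Type u) (Ω : Type v) [Group G] [MulAction G Ω] : Subgroup G :=
  Subgroup.closure {u : G | ∃ c : Ω, InK c u}

theorem inK_mem_soc {c : Ω} {u : G} (hu : InK c u) : u ∈ soc G Ω :=
  Subgroup.subset_closure ⟨c, hu⟩

instance soc_normal : (soc G Ω).Normal := by
  constructor
  intro n hn g
  unfold soc at hn ⊢
  induction hn using Subgroup.closure_induction with
  | mem x hx =>
    obtain ⟨c, hc⟩ := hx
    exact Subgroup.subset_closure ⟨g • c, inK_conj' hc g⟩
  | one => simp
  | mul x y _ _ hx hy =>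
    have : g * (x * y) * g⁻¹ = (g * x * g⁻¹) * (g * y * g⁻¹) := by group
    rw [this]
    exact Subgroup.mul_mem _ hx hy
  | inv x _ hx =>
    have : g * x⁻¹ * g⁻¹ = (g * x * g⁻¹)⁻¹ := by group
    rw [this]
    exact Subgroup.inv_mem _ hx

section
variable [Finite G] [Finite Ω] (hZ : Cfsg.IsZassenhausGroup G Ω)
include hZ

omit [Finite G] in
theorem exists_third (c d : Ω) : ∃ f : Ω, c ≠ f ∧ d ≠ f := by
  classical
  have := Fintype.ofFinite Ω
  have h3 := three_le_card hZ
  by_contra hcon
  push Not at hcon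
  have hsub : (Finset.univ : Finset Ω) ⊆ {c, d} := by
    intro f _
    by_cases hcf : c = f
    · simp [hcf]
    · simp [hcon f hcf]
  have h4 := Finset.card_le_card hsub
  rw [Finset.card_univ, ← Nat.card_eq_fintype_card] at h4
  have h5 := Finset.card_le_two (a := c) (b := d)
  omega

theorem soc_trans (c d : Ω) : ∃ u ∈ soc G Ω, u • c = d := by
  obtain ⟨f, hcf, hdf⟩ := exists_third hZ c d
  obtain ⟨u, hu, h⟩ := exists_inK hZ hcf hdf
  exact ⟨u, inK_mem_soc hu, h⟩

theorem soc_two_trans {c d c' d' : Ω} (hcd : c ≠ d) (hcd' : c' ≠ d') :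
    ∃ u ∈ soc G Ω, u • c = c' ∧ u • d = d' := by
  obtain ⟨u, hu, huc⟩ := soc_trans hZ c c'
  have h1 : u • d ≠ c' := by
    intro h
    apply hcd
    apply MulAction.injective u
    change u • c = u • d
    rw [huc, h]
  obtain ⟨w, hw, hwd⟩ := exists_inK hZ h1 (Ne.symm hcd')
  refine ⟨w * u, (soc G Ω).mul_mem (inK_mem_soc hw) hu, ?_, ?_⟩
  · rw [mul_smul, huc, hw.1]
  · rw [mul_smul, hwd]

theorem soc_exists : ∃ c d : Ω, c ≠ d ∧ ∃ x ∈ soc G Ω, x ≠ 1 ∧ x • c = c ∧ x • d = d := by
  by_contra hcon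
  push Not at hcon
  have hZ' := hZ
  obtain ⟨-, -, -, ⟨-, -, a, b, hab, -, -⟩, hreg⟩ := hZ
  obtain ⟨F, hF, hFt, hFc⟩ := exists_regular (soc G Ω) hab (soc_trans hZ')
    (fun c d hcd t ht hc hd => by
      by_contra ht1
      exact hcon c d hcd t ht ht1 hc hd)
  have hFn : F.Normal := by
    constructor
    intro n hn g
    rw [hF] at hn ⊢
    refine ⟨soc_normal.conj_mem n hn.1 g, ?_⟩
    rcases hn.2 with h | h
    · left; rw [h, mul_one, mul_inv_cancel]
    · right
      intro c hc
      apply h (g⁻¹ • c)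
      rw [mul_smul, mul_smul] at hc
      rw [eq_inv_smul_iff, hc]
  have hFp : IsPretransitive F Ω := ⟨fun c d => by
    obtain ⟨f, hf, h⟩ := hFt c d
    exact ⟨⟨f, hf⟩, h⟩⟩
  obtain ⟨c, hc⟩ := hreg F hFn hFp
  apply hc
  rw [eq_bot_iff]
  intro f hf
  rw [Subgroup.mem_bot]
  have hfc : (f : G) • c = c := hf
  rcases ((hF _).mp f.2).2 with h | h
  · exact Subtype.ext h
  · exact absurd hfc (h c)

/-- A nontrivial subgroup of the socle normalised by it is the socle. -/
theorem soc_le_of_normal (S : Subgroup G) (hS : S ≤ soc G Ω)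
    (hn : ∀ m ∈ soc G Ω, ∀ s ∈ S, m * s * m⁻¹ ∈ S) {x : G} (hx : x ∈ S) (hx1 : x ≠ 1) :
    soc G Ω ≤ S := by
  classical
  have := hZ.1
  -- `S` is transitive
  have hSt : ∀ c d : Ω, c ≠ d → ∃ s ∈ S, s • c = d := by
    intro c d hcd
    obtain ⟨p, hp⟩ := exists_moved (Ω := Ω) hx1
    obtain ⟨m, hm, h1, h2⟩ := soc_two_trans hZ (Ne.symm hp) hcd
    refine ⟨m * x * m⁻¹, hn m hm x hx, ?_⟩
    rw [mul_smul, mul_smul, ← h1, inv_smul_smul, h2]
  have hSt' : ∀ c d : Ω, ∃ s ∈ S, s • c = d := by
    intro c d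
    by_cases hcd : c = d
    · exact ⟨1, S.one_mem, by rw [one_smul, hcd]⟩
    · exact hSt c d hcd
  by_cases hfix : ∃ c d : Ω, c ≠ d ∧ ∃ y ∈ S, y ≠ 1 ∧ y • c = c ∧ y • d = d
  · obtain ⟨c, d, hcd, y, hy, hy1, hyc, hyd⟩ := hfix
    unfold soc
    rw [Subgroup.closure_le]
    rintro u ⟨f, hu⟩
    obtain ⟨b, hb⟩ := exists_ne_of_zass hZ f
    obtain ⟨m, hm, h1, h2⟩ := soc_two_trans hZ hcd hb
    have hz1 : m * y * m⁻¹ ≠ 1 := by
      intro h
      apply hy1
      have : y = m⁻¹ * (m * y * m⁻¹) * m := by group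
      rw [this, h]; group
    refine kernel_le hZ S hb (hn m hm y hy) hz1 ?_ ?_ (fun w hw t ht =>
      hn w (inK_mem_soc hw) t ht) u hu
    · rw [mul_smul, mul_smul, ← h1, inv_smul_smul, hyc]
    · rw [mul_smul, mul_smul, ← h2, inv_smul_smul, hyd]
  · exfalso
    push Not at hfix
    obtain ⟨-, -, -, ⟨-, -, a, b, hab, -, -⟩, hreg⟩ := id hZ
    obtain ⟨F, hF, hFt, hFc⟩ := exists_regular S hab hSt'
      (fun c d hcd t ht hc hd => by
        by_contra ht1
        exact hfix c d hcd t ht ht1 hc hd)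
    have hFM : F ≤ soc G Ω := fun f hf => hS ((hF f).mp hf).1
    have hfree : ∀ f ∈ F, ∀ c : Ω, f • c = c → f = 1 := by
      intro f hf c hc
      rcases ((hF f).mp hf).2 with h | h
      · exact h
      · exact absurd hc (h c)
    have hFm : ∀ m ∈ soc G Ω, ∀ f ∈ F, m * f * m⁻¹ ∈ F := by
      intro m hm f hf
      rw [hF] at hf ⊢
      refine ⟨hn m hm f hf.1, ?_⟩
      rcases hf.2 with h | h
      · left; rw [h, mul_one, mul_inv_cancel]
      · right
        intro c hc
        apply h (m⁻¹ • c)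
        rw [mul_smul, mul_smul] at hc
        rw [eq_inv_smul_iff, hc]
    -- `F` is normal in `G`
    have hFn : F.Normal := by
      constructor
      intro f hf g
      -- the conjugate
      set F' : Subgroup G := F.map (MulAut.conj g).toMonoidHom with hF'
      have hF'mem : ∀ y, y ∈ F' ↔ g⁻¹ * y * g ∈ F := by
        intro y
        constructor
        · rintro ⟨z, hz, rfl⟩
          have : g⁻¹ * (g * z * g⁻¹) * g = z := by group
          change g⁻¹ * (g * z * g⁻¹) * g ∈ F
          rw [this]; exact hz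
        · intro hy
          refine ⟨_, hy, ?_⟩
          change g * (g⁻¹ * y * g) * g⁻¹ = y
          group
      have hF'M : F' ≤ soc G Ω := by
        intro y hy
        rw [hF'mem] at hy
        have h1 := soc_normal.conj_mem _ (hFM hy) g
        have : g * (g⁻¹ * y * g) * g⁻¹ = y := by group
        rwa [this] at h1
      have hF'm : ∀ m ∈ soc G Ω, ∀ y ∈ F', m * y * m⁻¹ ∈ F' := by
        intro m hm y hy
        rw [hF'mem] at hy ⊢
        have h1 : g⁻¹ * m * g ∈ soc G Ω := by
          have := soc_normal.conj_mem m hm g⁻¹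
          rwa [inv_inv] at this
        have h2 := hFm _ h1 _ hy
        have : g⁻¹ * m * g * (g⁻¹ * y * g) * (g⁻¹ * m * g)⁻¹ = g⁻¹ * (m * y * m⁻¹) * g := by group
        rwa [this] at h2
      have hcardF' : Nat.card F' = Nat.card Ω := by
        rw [hF', Subgroup.card_map_of_injective (MulAut.conj g).injective, hFc]
      have hle : F ≤ F' := by
        by_cases hint : ∃ x ∈ F, x ∈ F' ∧ x ≠ 1
        · obtain ⟨x, hxF, hxF', hx1⟩ := hint
          intro y hy
          by_cases hy1 : y = 1
          · rw [hy1]; exact F'.one_mem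
          have hxa : x • a ≠ a := fun h => hx1 (hfree x hxF a h)
          have hya : y • a ≠ a := fun h => hy1 (hfree y hy a h)
          obtain ⟨u, hu, huxy⟩ := exists_inK hZ hxa hya
          have h1 : u * x * u⁻¹ ∈ F := hFm u (inK_mem_soc hu) x hxF
          have h2 : (u * x * u⁻¹) • a = y • a := by
            rw [mul_smul, mul_smul, inv_smul_of_smul hu.1, huxy]
          have h3 : y⁻¹ * (u * x * u⁻¹) = 1 := by
            apply hfree _ (F.mul_mem (F.inv_mem hy) h1) a
            rw [mul_smul, h2, inv_smul_smul]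
          have h4 : u * x * u⁻¹ = y := (inv_mul_eq_one.mp h3).symm
          rw [← h4]
          exact hF'm u (inK_mem_soc hu) x hxF'
        · exfalso
          push Not at hint
          -- work in the socle
          set FM : Subgroup (soc G Ω) := F.subgroupOf (soc G Ω) with hFMdef
          set FM' : Subgroup (soc G Ω) := F'.subgroupOf (soc G Ω) with hFMdef'
          have hn1 : FM.Normal := ⟨fun f hf m => hFm m m.2 f hf⟩
          have hn2 : FM'.Normal := ⟨fun f hf m => hF'm m m.2 f hf⟩
          have hc1 : Nat.card FM = Nat.card Ω := by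
            rw [← hFc]
            exact Nat.card_congr (Subgroup.subgroupOfEquivOfLe hFM).toEquiv
          have hc2 : Nat.card FM' = Nat.card Ω := by
            rw [← hcardF']
            exact Nat.card_congr (Subgroup.subgroupOfEquivOfLe hF'M).toEquiv
          have hinf : FM ⊓ FM' = ⊥ := by
            rw [eq_bot_iff]
            rintro y ⟨hy1, hy2⟩
            rw [Subgroup.mem_bot]
            exact Subtype.ext (hint y hy1 hy2)
          have hcD : Nat.card (FM' ⊔ FM : Subgroup (soc G Ω)) = Nat.card Ω * Nat.card Ω := by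
            have e1 : FM.relIndex (FM' ⊔ FM) = FM.relIndex FM' := Subgroup.relIndex_sup_right _ _
            have e2 : FM.relIndex FM' = Nat.card FM' := by
              rw [← Subgroup.inf_relIndex_right, hinf, Subgroup.relIndex_bot_left]
            have e3 := (FM.subgroupOf (FM' ⊔ FM)).card_mul_index
            have e4 : Nat.card (FM.subgroupOf (FM' ⊔ FM)) = Nat.card FM :=
              Nat.card_congr (Subgroup.subgroupOfEquivOfLe le_sup_right).toEquiv
            have e5 : (FM.subgroupOf (FM' ⊔ FM)).index = Nat.card FM' := by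
              rw [← e2, ← e1]; rfl
            rw [← e3, e4, e5, hc1, hc2]
          set D : Subgroup (soc G Ω) := FM' ⊔ FM with hD
          have hDt : IsPretransitive D Ω := ⟨fun c d => by
            obtain ⟨f, hf, h⟩ := hFt c d
            exact ⟨⟨⟨f, hFM hf⟩, (le_sup_right : FM ≤ D) hf⟩, h⟩⟩
          have hstab : Nat.card (stabilizer D a) = Nat.card Ω := by
            have h3 := three_le_card hZ
            have e1 := (stabilizer D a).card_mul_index
            rw [index_stabilizer_of_transitive, hcD] at e1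
            exact Nat.eq_of_mul_eq_mul_right (by omega) e1
          have hdvd : Nat.card (stabilizer D a) ∣ Nat.card (stabilizer G a) := by
            let ι : stabilizer D a →* stabilizer G a :=
              { toFun := fun x => ⟨((x : D) : soc G Ω), x.2⟩
                map_one' := rfl
                map_mul' := fun _ _ => rfl }
            have hι : Function.Injective ι := by
              intro x y hxy
              exact Subtype.ext (Subtype.ext (Subtype.ext
                (congrArg (fun z : stabilizer G a => (z : G)) hxy)))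
            exact Subgroup.card_dvd_of_injective ι hι
          rw [hstab, card_stab1 hZ hab] at hdvd
          have h3 := three_le_card hZ
          have hcop : Nat.Coprime (Nat.card Ω) (Nat.card Ω - 1) := by
            have := Nat.coprime_self_sub_right (show 1 ≤ Nat.card Ω by omega)
            rw [this]
            exact Nat.coprime_one_right _
          have h4 := hcop.dvd_of_dvd_mul_left hdvd
          have h5 := Nat.le_of_dvd Nat.card_pos h4
          have h6 := Nat.le_of_dvd (by omega) (card_dvd hZ hab)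
          omega
      have hFF' : F = F' := Subgroup.eq_of_le_of_card_ge hle (by rw [hcardF', hFc])
      rw [hFF', hF'mem]
      have : g⁻¹ * (g * f * g⁻¹) * g = f := by group
      rw [this]; exact hf
    have hFp : IsPretransitive F Ω := ⟨fun c d => by
      obtain ⟨f, hf, h⟩ := hFt c d
      exact ⟨⟨f, hf⟩, h⟩⟩
    obtain ⟨c, hc⟩ := hreg F hFn hFp
    apply hc
    rw [eq_bot_iff]
    intro f hf
    rw [Subgroup.mem_bot]
    have hfc : (f : G) • c = c := hf
    exact Subtype.ext (hfree f f.2 c hfc)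

theorem soc_simple : IsSimpleGroup (soc G Ω) := by
  obtain ⟨c, d, hcd, x, hx, hx1, -, -⟩ := soc_exists hZ
  have hnt : Nontrivial (soc G Ω) := ⟨⟨x, hx⟩, 1, fun h => hx1 (congrArg Subtype.val h)⟩
  refine { exists_pair_ne := hnt.exists_pair_ne, eq_bot_or_eq_top_of_normal := ?_ }
  intro N hN
  by_cases hbot : N = ⊥
  · exact Or.inl hbot
  right
  obtain ⟨y, hy, hy1⟩ := (Subgroup.ne_bot_iff_exists_ne_one.mp hbot : ∃ a : N, a ≠ 1) |>.elim
    fun y hy => (⟨(y : soc G Ω), y.2, fun h => hy (Subtype.ext h)⟩ :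
      ∃ y : soc G Ω, y ∈ N ∧ y ≠ 1)
  have h1 := soc_le_of_normal hZ (N.map (soc G Ω).subtype) (Subgroup.map_subtype_le _) (by
    rintro m hm _ ⟨s, hs, rfl⟩
    exact ⟨⟨m, hm⟩ * s * ⟨m, hm⟩⁻¹, hN.conj_mem s hs _, rfl⟩) (x := (y : G)) ⟨y, hy, rfl⟩
    (fun h => hy1 (Subtype.ext h))
  rw [eq_top_iff]
  intro z _
  obtain ⟨w, hw, hwz⟩ := h1 z.2
  have : w = z := Subtype.ext hwz
  rw [← this]; exact hw

theorem soc_zass : Cfsg.IsZassenhausGroup (soc G Ω) Ω := by
  have hsimple := soc_simple hZ
  obtain ⟨c, d, hcd, x, hx, hx1, hxc, hxd⟩ := soc_exists hZ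
  have hf := hZ.1
  refine ⟨⟨fun {m m'} h => Subtype.ext (FaithfulSMul.eq_of_smul_eq_smul (α := Ω)
    (fun w => h w))⟩, ?_, ?_, ?_, ?_⟩
  · rw [is_two_pretransitive_iff]
    intro a b c d hab hcd
    obtain ⟨u, hu, h1, h2⟩ := soc_two_trans hZ hab hcd
    exact ⟨⟨u, hu⟩, h1, h2⟩
  · intro g a b c hab hbc hac h1 h2 h3
    exact Subtype.ext (hZ.2.2.1 g a b c hab hbc hac h1 h2 h3)
  · exact ⟨⟨x, hx⟩, fun h => hx1 (congrArg Subtype.val h), c, d, hcd, hxc, hxd⟩
  · intro N hN hNt
    rcases hN.eq_bot_or_eq_top with h | h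
    · exfalso
      obtain ⟨n, hn⟩ := hNt.exists_smul_eq c d
      apply hcd
      have h1 : (n : soc G Ω) = 1 := Subgroup.mem_bot.mp (h.le n.2)
      rw [← hn]
      change c = (n : soc G Ω) • c
      rw [h1, one_smul]
    · refine ⟨c, ?_⟩
      intro hbot
      have h1 : (⟨⟨x, hx⟩, by rw [h]; trivial⟩ : N) ∈ stabilizer N c := hxc
      rw [hbot, Subgroup.mem_bot] at h1
      exact hx1 (congrArg (fun z : N => ((z : soc G Ω) : G)) h1)

end

end Cfsg.Agent.Lib.ZassRed
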