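import Cfsg.Agent.Lib.ZassFeit4
import Cfsg.Agent.Lib.ZassRed

set_option autoImplicit false

/-!
# Feit's theorem on Zassenhaus groups (helper15)
-/

open Cfsg
open Cfsg.Agent.Lib.CharBasic

namespace Cfsg.Agent.Lib.ZassFeit

open MulAction ZassBasic ZassKernel ZassOdd ZassInd TIFN ZassRed

universe u v

variable {G : Type u} {Ω : Type v} [Group G] [MulAction G Ω]

/-- The kernel of `G_a` is the Frobenius kernel. -/
theorem subgroupOf_eq_kernel [Finite G] [Finite Ω] (hZ : Cfsg.IsZassenhausGroup G Ω) {a b : Ω}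
    (hab : a ≠ b) (H : Subgroup G) (hHa : H ≤ stabilizer G a)
    (hHcard : Nat.card H + 1 = Nat.card Ω)
    (hHfix : ∀ u ∈ H, u ≠ 1 → ∀ c : Ω, u • c = c → c = a) :
    ((H.subgroupOf (stabilizer G a) : Subgroup (stabilizer G a)) : Set (stabilizer G a)) =
      frobeniusKernel
        ((stabilizer G a ⊓ stabilizer G b : Subgroup G).subgroupOf (stabilizer G a)) := by
  ext x
  rw [FrobBasic.mem_frobeniusKernel_iff, SetLike.mem_coe, Subgroup.mem_subgroupOf,
    mem_kernel_iff hZ a H hHa hHcard hHfix]
  constructor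
  · intro hx
    by_cases hx1 : x = 1
    · exact Or.inl hx1
    · right
      intro g hg
      have hg' : ((g : G)⁻¹ * x * g) • b = b := (Subgroup.mem_subgroupOf.mp hg).2
      rw [mul_smul, mul_smul, inv_smul_eq_iff] at hg'
      apply hx.2 (fun h => hx1 (Subtype.ext h)) ((g : G) • b) _ hg'
      intro h
      apply hab
      apply MulAction.injective (g : G)
      change (g : G) • a = (g : G) • b
      rw [h]
      exact g.2
  · intro hx
    refine ⟨x.2, fun hx1 c hca hxc => ?_⟩
    rcases hx with hx | hx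
    · exact hx1 (by rw [hx]; rfl)
    · obtain ⟨g, hg1, hg2⟩ := exists_move hZ.2.1 hab (Ne.symm hca)
      apply hx ⟨g, hg1⟩
      rw [Subgroup.mem_subgroupOf]
      have hxa : (x : G) • a = a := x.2
      refine ⟨?_, ?_⟩
      · change (g⁻¹ * (x : G) * g) • a = a
        rw [mul_smul, mul_smul, hg1, hxa, inv_smul_eq_iff, hg1]
      · change (g⁻¹ * (x : G) * g) • b = b
        rw [mul_smul, mul_smul, hg2, hxc, inv_smul_eq_iff, hg2]

theorem main [Fintype G] [Finite Ω] (hZ : Cfsg.IsZassenhausGroup G Ω) {a b : Ω}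
    (hab : a ≠ b)
    (hodd : Odd (Nat.card ↥(stabilizer G a ⊓ stabilizer G b : Subgroup G)))
    (H : Subgroup G) (hHa : H ≤ stabilizer G a) (hHcard : Nat.card H + 1 = Nat.card Ω)
    (hHfix : ∀ u ∈ H, u ≠ 1 → ∀ c : Ω, u • c = c → c = a) (hnil : Group.IsNilpotent H) :
    Nat.card H - 1 ≤ 2 * Nat.card ↥(stabilizer G a ⊓ stabilizer G b : Subgroup G) ∨
      (IsPGroup 2 H ∧ (∃ u v : H, u * v ≠ v * u) ∧ (commutator H).index ≤
        4 * (Nat.card ↥(stabilizer G a ⊓ stabilizer G b : Subgroup G)) ^ 2 + 1) := by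
  classical
  have hsimple := soc_simple hZ
  have hZ' := soc_zass hZ
  set M : Subgroup G := soc G Ω with hM
  have : Fintype M := Fintype.ofFinite M
  have hHM : H ≤ M := fun u hu =>
    inK_mem_soc ((mem_kernel_iff hZ a H hHa hHcard hHfix u).mp hu)
  set e := Nat.card ↥(stabilizer G a ⊓ stabilizer G b : Subgroup G) with he
  set e' := Nat.card ↥(stabilizer M a ⊓ stabilizer M b : Subgroup M) with he'
  have hdvd : e' ∣ e := by
    let ι : ↥(stabilizer M a ⊓ stabilizer M b : Subgroup M) →*
        ↥(stabilizer G a ⊓ stabilizer G b : Subgroup G) :=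
      { toFun := fun x => ⟨((x : M) : G), x.2.1, x.2.2⟩
        map_one' := rfl
        map_mul' := fun _ _ => rfl }
    have hι : Function.Injective ι := by
      intro x y hxy
      exact Subtype.ext (Subtype.ext (congrArg
        (fun z : ↥(stabilizer G a ⊓ stabilizer G b : Subgroup G) => (z : G)) hxy))
    exact Subgroup.card_dvd_of_injective ι hι
  have hepos : 0 < e := Nat.card_pos
  have hle : e' ≤ e := Nat.le_of_dvd hepos hdvd
  have hodd' : Odd e' := by
    obtain ⟨c, hc⟩ := hdvd
    rw [hc] at hodd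
    exact Nat.Odd.of_mul_left hodd
  have hyp := hyp_of_simple hZ' hab hodd'
  rw [← he'] at hyp
  have hcardHM : Nat.card (H.subgroupOf M) = Nat.card H :=
    Nat.card_congr (Subgroup.subgroupOfEquivOfLe hHM).toEquiv
  have K : KerHyp M Ω e' a b (H.subgroupOf M) :=
    { hyp := hyp
      hab := hab
      hHa := fun u hu => hHa hu
      hHcard := by rw [hcardHM, hHcard]
      hHfix := fun u hu hu1 c hc => hHfix u hu (fun h => hu1 (Subtype.ext h)) c hc }
  have hnil' : Group.IsNilpotent (H.subgroupOf M) :=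
    (Group.isNilpotent_congr (Subgroup.subgroupOfEquivOfLe hHM)).mpr hnil
  have h3 := three_le_of_odd hZ' hab hodd'
  have hle2 : e' ≤ Nat.card Ω - 2 := by
    have := three_le_card hZ
    exact Nat.le_of_dvd (by omega) (card_dvd hZ' hab)
  rcases K.feit_bound hnil' h3 hle2 with h | ⟨h1, ⟨u, v, huv⟩, h2⟩
  · left
    rw [hcardHM] at h
    omega
  · right
    let E := Subgroup.subgroupOfEquivOfLe hHM
    refine ⟨IsPGroup.of_equiv h1 E, ⟨E u, E v, ?_⟩, ?_⟩
    · intro h
      apply huv
      apply E.injective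
      rw [map_mul, map_mul, h]
    · have hmap : (commutator (H.subgroupOf M)).map E.toMonoidHom = commutator H := by
        rw [commutator_def, Subgroup.map_commutator, Subgroup.map_top_of_surjective _ E.surjective,
          ← commutator_def]
      have hidx : (commutator H).index = (commutator (H.subgroupOf M)).index := by
        rw [← hmap]
        exact Subgroup.index_map_equiv _ E
      rw [hidx]
      refine h2.trans ?_
      have := Nat.pow_le_pow_left hle 2
      omega

end Cfsg.Agent.Lib.ZassFeit
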