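import Cfsg.Prelude
import Mathlib
import Cfsg.Agent.Lib.CITDih
import Cfsg.Agent.Lib.CITNum
import Cfsg.Agent.Lib.FrobThm
import Cfsg.Agent.S0340
import Cfsg.Agent.S0205

/-!
# CIT-groups (helper6): the classification of simple CIT-groups
-/

set_option autoImplicit false
set_option linter.all false

namespace Cfsg.Agent.Lib.CIT

open Subgroup SylowRel StrongEmbPt

variable {G : Type*} [Group G] [Finite G]

theorem even_of_simple [IsSimpleGroup G] (hna : ¬ ∀ a b : G, a * b = b * a) : Even (Nat.card G) := by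
  by_contra h
  rw [Nat.not_even_iff_odd] at h
  have hs := Cfsg.Agent.S0205.result h
  apply hna
  have h2 : IsMulCommutative G := by
    first
    | exact (IsSimpleGroup.comm_iff_isSolvable).2 hs
    | exact ⟨⟨fun a b => IsSimpleGroup.comm_iff_isSolvable.2 hs a b⟩⟩
  exact fun a b => mul_comm' a b

theorem SEData.frob {M : Subgroup G} (hM : Cfsg.IsStronglyEmbedded M) (h : SEData M 1) :
    Cfsg.IsFrobeniusComplement M := by
  refine ⟨?_, hM.1, ?_⟩
  · rintro rfl
    have h1 := hM.2.1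
    rw [Subgroup.card_bot] at h1
    exact absurd h1 (by decide)
  · intro g hg
    obtain ⟨u, -, -, h2, -⟩ := h.swap g hg
    exact Subgroup.card_eq_one.1 h2

theorem SEData.n_ne_one [IsSimpleGroup G] {M : Subgroup G} (hM : Cfsg.IsStronglyEmbedded M)
    (h : SEData M 1) : False := by
  have hf := h.frob hM
  obtain ⟨N, -, hN, hc⟩ := FrobThm.exists_kernel hf
  rcases hN.eq_bot_or_eq_top with h1 | h1
  · apply hf.2.1
    rw [h1] at hc
    have := hc.sup_eq_top
    simpa using this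
  · apply hf.1
    rw [h1] at hc
    have := hc.disjoint.eq_bot
    simpa using this

theorem ZData.zass [IsSimpleGroup G] {M S : Subgroup G} {n : ℕ} (hM : M ≠ ⊤) (hMb : M ≠ ⊥) (h : ZData M S n)
    (hSM : S ≤ M) (hS : S ≠ ⊥) (hn : n ≠ 1) : Cfsg.IsZassenhausGroup G (G ⧸ M) := by
  have hS2 : 2 ≤ Nat.card S := by
    have h1 : Nat.card S ≠ 1 := fun h1 => hS (Subgroup.card_eq_one.1 h1)
    have h2 : 0 < Nat.card S := Nat.card_pos
    omega
  have h3c : 3 ≤ Nat.card (G ⧸ M) := by rw [h.card]; omega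
  have htr : ∀ c d : G ⧸ M, c ≠ d → ∃ u : G, u • c = d := by
    intro c d hcd
    obtain ⟨u, -, hu, -⟩ := h.se.swap' hcd
    exact ⟨u, hu⟩
  have hex : ∃ c d e : G ⧸ M, c ≠ d ∧ d ≠ e ∧ c ≠ e := by
    classical
    haveI := Fintype.ofFinite (G ⧸ M)
    rw [Nat.card_eq_fintype_card] at h3c
    obtain ⟨c, d, e, h1, h2, h3⟩ := Fintype.two_lt_card_iff.1 (by omega : 2 < Fintype.card (G ⧸ M))
    exact ⟨c, d, e, h1, h3, h2⟩
  obtain ⟨c, d, e, hcd, hde, hce⟩ := hex
  have hfaith : ∀ x : G, (∀ c : G ⧸ M, x • c = c) → x = 1 := fun x hx =>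
    h.three x c d e hcd hde hce (hx c) (hx d) (hx e)
  refine ⟨⟨?_⟩, ?_, ?_, ?_, ?_⟩
  · intro x y hxy
    have h1 := hfaith (y⁻¹ * x) (fun c => by rw [mul_smul, hxy c, inv_smul_smul])
    rw [inv_mul_eq_one] at h1
    exact h1.symm
  · rw [MulAction.is_two_pretransitive_iff]
    intro a b c d hab hcd
    have h1 : ∃ g : G, g • a = c := by
      by_cases hac : a = c
      · exact ⟨1, by rw [one_smul, hac]⟩
      · exact htr a c hac
    obtain ⟨g, hg⟩ := h1
    have hgb : g • b ≠ c := by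
      rw [← hg]; intro h2; exact hab (smul_left_cancel g h2).symm
    obtain ⟨x, rfl⟩ := QuotientGroup.mk_surjective c
    obtain ⟨s, hs, hsd⟩ := h.reg x (g • b) d hgb hcd.symm
    have hsx : s • (QuotientGroup.mk x : G ⧸ M) = QuotientGroup.mk x := by
      have : s ∈ MulAction.stabilizer G (QuotientGroup.mk x : G ⧸ M) := by
        rw [stab_eq]
        exact cj_mono hSM hs
      exact this
    exact ⟨s * g, by rw [mul_smul, hg, hsx], by rw [mul_smul, hsd]⟩
  · intro g a b c hab hbc hac h1 h2 h3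
    exact h.three g a b c hab hbc hac h1 h2 h3
  · obtain ⟨u, -, -, -, h2, -⟩ := h.se.swap' hcd
    have h3 : (MulAction.stabilizer G c ⊓ MulAction.stabilizer G d : Subgroup G) ≠ ⊥ := by
      intro h4
      rw [h4, Subgroup.card_bot] at h2
      exact hn h2.symm
    obtain ⟨g, hg, hg1⟩ := exists_mem_ne_one h3
    exact ⟨g, hg1, c, d, hcd, hg.1, hg.2⟩
  · intro N hN hNt
    rcases hN.eq_bot_or_eq_top with h1 | h1
    · exfalso
      obtain ⟨⟨g, hg⟩, hgd⟩ := hNt.exists_smul_eq c d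
      apply hcd
      rw [h1, mem_bot] at hg
      subst hg
      have : (1 : G) • c = d := hgd
      rwa [one_smul] at this
    · subst h1
      refine ⟨QuotientGroup.mk (1 : G), ?_⟩
      intro h2
      apply hMb
      rw [eq_bot_iff]
      intro x hx
      have h3 : (⟨x, mem_top x⟩ : (⊤ : Subgroup G)) ∈
          MulAction.stabilizer (⊤ : Subgroup G) (QuotientGroup.mk (1 : G) : G ⧸ M) := by
        show (x • (QuotientGroup.mk (1 : G) : G ⧸ M)) = QuotientGroup.mk 1
        rw [MulAction.Quotient.smul_mk, QuotientGroup.eq]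
        simpa using M.inv_mem hx
      have h4 := h2.le h3
      rw [mem_bot] at h4
      exact mem_bot.2 (congrArg Subtype.val h4)

theorem of_ti [IsSimpleGroup G] (hna : ¬ ∀ a b : G, a * b = b * a) (hG : IsCIT G) (hTI : TI2 G) :
    (∃ (F : Type) (_ : Field F) (_ : Fintype F),
      Nonempty (G ≃* Matrix.ProjectiveSpecialLinearGroup (Fin 2) F)) ∨ Cfsg.IsSuzuki G := by
  haveI : Fact (Nat.Prime 2) := ⟨Nat.prime_two⟩
  have hev := even_of_simple hna
  obtain ⟨P, hP, -⟩ := exists_isSyl (p := 2) (Q := (⊥ : Subgroup G)) (H := ⊤) IsPGroup.of_bot bot_le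
  have hPb : P ≠ ⊥ := by
    rintro rfl
    obtain ⟨t, -, ht⟩ := StrongEmbPt.exists_involution (K := (⊤ : Subgroup G)) (by rw [Subgroup.card_top]; exact hev)
    have ht2 : t ^ 2 ^ 1 = 1 := by rw [pow_one, ← ht, pow_orderOf_eq_one]
    have h1 := hP.eq_of_le (isPGroup_zpowers ht2) bot_le le_top
    rw [zpowers_eq_bot] at h1
    rw [h1, orderOf_one] at ht; omega
  have hPn : ∃ g, g ∉ NN P := by
    by_contra hcon
    push Not at hcon
    have hn : P.Normal := normalizer_eq_top_iff.1 (eq_top_iff.2 (fun g _ => hcon g))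
    have h1 : P ≤ Cfsg.pCore 2 G := Fitting.le_pCore 2 hn hP.isPGroup
    rw [pCore_bot_of_simple hna, le_bot_iff] at h1
    exact hPb h1
  have hSE := se_of_ti hTI hP hPb hPn
  obtain ⟨n, hn⟩ := hG.seData hSE
  have hPM : P ≤ NN P := le_normalizer
  by_cases hn1 : n = 1
  · subst hn1
    exact (hn.n_ne_one hSE).elim
  · have hSyl : IsSyl 2 P (NN P) := ⟨hPM, hP.isPGroup, fun Q hQ h1 h2 => hP.eq_of_le hQ h1 le_top⟩
    have hz := hG.zData hn hSE hSyl le_rfl hn1
    have hMb : NN P ≠ ⊥ := fun h => hPb (le_bot_iff.1 (h ▸ hPM))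
    exact Cfsg.Agent.S0340.result (hz.zass hSE.1 hMb hPM hPb hn1)

/-- **Suzuki.** simple CIT-groups -/
theorem main [IsSimpleGroup G] (hna : ¬ ∀ a b : G, a * b = b * a) (hG : IsCIT G) :
    (∃ (F : Type) (_ : Field F) (_ : Fintype F),
        (Fintype.card F = 9 ∨ (∃ n : ℕ, Fintype.card F = 2 ^ n) ∨
          ((Fintype.card F).Prime ∧ ∃ k : ℕ, Fintype.card F = 2 ^ k + 1 ∨ Fintype.card F + 1 = 2 ^ k)) ∧
        Nonempty (G ≃* Matrix.ProjectiveSpecialLinearGroup (Fin 2) F)) ∨
    (∃ (F : Type) (_ : Field F) (_ : Fintype F), Fintype.card F = 4 ∧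
        Nonempty (G ≃* Matrix.ProjectiveSpecialLinearGroup (Fin 3) F)) ∨
    Cfsg.IsSuzuki G := by
  have hna' : ¬ IsMulCommutative G := fun h => hna (fun a b => mul_comm' a b)
  have hP := p2_all hG
  have hres : ∀ (F : Type) (_ : Field F) (_ : Fintype F),
      Nonempty (G ≃* Matrix.ProjectiveSpecialLinearGroup (Fin 2) F) →
      (Fintype.card F = 9 ∨ (∃ n : ℕ, Fintype.card F = 2 ^ n) ∨
          ((Fintype.card F).Prime ∧ ∃ k : ℕ, Fintype.card F = 2 ^ k + 1 ∨ Fintype.card F + 1 = 2 ^ k)) := by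
    intro F _ _ ⟨e⟩
    rcases Nat.even_or_odd (Fintype.card F) with hev | hodd
    · right; left
      obtain ⟨p, hchar⟩ := CharP.exists F
      obtain ⟨f, hp, hpf⟩ := FiniteField.card F p
      have hp2 : p = 2 := by
        rw [hpf] at hev
        have := (Nat.even_pow.1 hev).1
        exact (hp.even_iff).1 this
      subst hp2
      exact ⟨_, hpf⟩
    · rcases psl2_restrict hodd (hG.equiv e) with h | h
      · exact Or.inl h
      · exact Or.inr (Or.inr h)
  by_cases hTI : TI2 G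
  · rcases of_ti hna hG hTI with ⟨F, i1, i2, h⟩ | h
    · exact Or.inl ⟨F, i1, i2, hres F i1 i2 h, h⟩
    · exact Or.inr (Or.inr h)
  · obtain ⟨A, B, T, e⟩ := exists_edge hG hP (pCore_bot_of_simple hna) hTI
    by_cases h1 : ∃ (A B T : Subgroup G), NatEdge A B T 1
    · obtain ⟨A, B, T, N⟩ := h1
      obtain ⟨F, i1, i2, -, h⟩ := N.psl2 hna' hG
      exact Or.inl ⟨F, i1, i2, hres F i1 i2 h, h⟩
    · push Not at h1
      have h3 : ∀ (A B T : Subgroup G) (n : ℕ), NatEdge A B T n → n = 3 := by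
        intro A B T n N
        rcases N.n_eq hG hP with rfl | h
        · exact absurd N (h1 A B T)
        · exact h
      obtain ⟨n, N⟩ := e.natural hG hP
      obtain rfl := h3 _ _ _ _ N
      right; left
      have hS := N.isSyl hna' hG hP h3
      have hF : Nat.card (GaloisField 2 2) = 4 := by
        rw [GaloisField.card 2 2 (by norm_num)]; norm_num
      haveI : Fintype (GaloisField 2 2) := Fintype.ofFinite _
      refine ⟨GaloisField 2 2, inferInstance, inferInstance, ?_, ?_⟩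
      · rw [← Nat.card_eq_fintype_card, hF]
      · exact Pln.iso (⟨hG, hP, N, hS⟩ : Pln A B T) hF

end Cfsg.Agent.Lib.CIT
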