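import Mathlib

/-!
The group ring quotient of `SL₂(K)`, `K` a finite field of characteristic two, by the relations
`g + g⁻¹ = -1` for `g` of trace `1` (S3050, Higman): in characteristic two it is the matrix ring.
-/

set_option autoImplicit false

namespace Cfsg.Agent.Lib.HigSL2

variable {K : Type*} [Field K]

/-- constructor for elements of `SL₂(K)` -/
def mk4 (a b c d : K) (h : a * d - b * c = 1) : Matrix.SpecialLinearGroup (Fin 2) K :=
  ⟨!![a, b; c, d], by rw [Matrix.det_fin_two_of]; exact h⟩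

theorem mk4_ext {a b c d a' b' c' d' : K} (h : a * d - b * c = 1) (h' : a' * d' - b' * c' = 1)
    (ha : a = a') (hb : b = b') (hc : c = c') (hd : d = d') : mk4 a b c d h = mk4 a' b' c' d' h' := by
  subst ha hb hc hd; rfl

theorem mk4_mul {a b c d a' b' c' d' : K} (h : a * d - b * c = 1) (h' : a' * d' - b' * c' = 1) :
    mk4 a b c d h * mk4 a' b' c' d' h' =
      mk4 (a * a' + b * c') (a * b' + b * d') (c * a' + d * c') (c * b' + d * d')
        (by linear_combination (a' * d' - b' * c') * h + h') := by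
  apply Subtype.ext
  change !![a, b; c, d] * !![a', b'; c', d'] = _
  rw [Matrix.mul_fin_two]
  rfl

theorem mk4_inv {a b c d : K} (h : a * d - b * c = 1) :
    (mk4 a b c d h)⁻¹ = mk4 d (-b) (-c) a (by linear_combination h) := by
  rw [inv_eq_iff_mul_eq_one, mk4_mul]
  apply Subtype.ext
  change !![_, _; _, _] = (1 : Matrix (Fin 2) (Fin 2) K)
  rw [Matrix.one_fin_two]
  congr 1
  simp only [Matrix.vecCons_inj, and_true]
  refine ⟨⟨by linear_combination h, by ring⟩, by ring, by linear_combination h⟩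

theorem one_eq : (1 : Matrix.SpecialLinearGroup (Fin 2) K) = mk4 1 0 0 1 (by ring) := by
  apply Subtype.ext
  change (1 : Matrix (Fin 2) (Fin 2) K) = !![1, 0; 0, 1]
  rw [Matrix.one_fin_two]

theorem eq_mk4 (g : Matrix.SpecialLinearGroup (Fin 2) K) :
    g = mk4 (g.1 0 0) (g.1 0 1) (g.1 1 0) (g.1 1 1) (by rw [← Matrix.det_fin_two]; exact g.2) := by
  apply Subtype.ext
  exact Matrix.eta_fin_two _

theorem exists_mk4 (g : Matrix.SpecialLinearGroup (Fin 2) K) :
    ∃ (a b c d : K) (h : a * d - b * c = 1), g = mk4 a b c d h := ⟨_, _, _, _, _, eq_mk4 g⟩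

/-- the trace -/
def tr (g : Matrix.SpecialLinearGroup (Fin 2) K) : K := g.1 0 0 + g.1 1 1

theorem tr_mk4 {a b c d : K} (h : a * d - b * c = 1) : tr (mk4 a b c d h) = a + d := rfl

theorem tr_mul_comm (g s : Matrix.SpecialLinearGroup (Fin 2) K) : tr (g * s) = tr (s * g) := by
  obtain ⟨a, b, c, d, h, rfl⟩ := exists_mk4 g
  obtain ⟨a', b', c', d', h', rfl⟩ := exists_mk4 s
  rw [mk4_mul, mk4_mul, tr_mk4, tr_mk4]
  ring

theorem tr_conj (g s : Matrix.SpecialLinearGroup (Fin 2) K) : tr (g * s * g⁻¹) = tr s := by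
  rw [tr_mul_comm, ← mul_assoc, inv_mul_cancel, one_mul]

theorem tr_inv (g : Matrix.SpecialLinearGroup (Fin 2) K) : tr g⁻¹ = tr g := by
  obtain ⟨a, b, c, d, h, rfl⟩ := exists_mk4 g
  rw [mk4_inv, tr_mk4, tr_mk4, add_comm]

/-- upper unipotent -/
def U (a : K) : Matrix.SpecialLinearGroup (Fin 2) K := mk4 1 a 0 1 (by ring)
/-- lower unipotent -/
def Lo (b : K) : Matrix.SpecialLinearGroup (Fin 2) K := mk4 1 0 b 1 (by ring)
/-- diagonal -/
def H (d : Kˣ) : Matrix.SpecialLinearGroup (Fin 2) K := mk4 d 0 0 (d⁻¹ : Kˣ) (by simp)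

theorem U_zero : U (0 : K) = 1 := one_eq.symm
theorem Lo_zero : Lo (0 : K) = 1 := one_eq.symm

theorem U_mul (a b : K) : U a * U b = U (a + b) := by
  unfold U; rw [mk4_mul]; apply mk4_ext <;> ring

theorem Lo_mul (a b : K) : Lo a * Lo b = Lo (a + b) := by
  unfold Lo; rw [mk4_mul]; apply mk4_ext <;> ring

theorem H_mul (a b : Kˣ) : H a * H b = H (a * b) := by
  unfold H; rw [mk4_mul]; apply mk4_ext <;> push_cast <;> ring

theorem H_one : H (1 : Kˣ) = 1 := by
  unfold H; rw [one_eq]; apply mk4_ext <;> simp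

theorem H_inv (a : Kˣ) : (H a)⁻¹ = H a⁻¹ := by
  rw [inv_eq_iff_mul_eq_one, H_mul, mul_inv_cancel, H_one]

theorem H_U (d : Kˣ) (a : K) : H d * U a = U (a * d * d) * H d := by
  have h : (d : K) * (d⁻¹ : Kˣ) = 1 := Units.mul_inv d
  unfold U H; rw [mk4_mul, mk4_mul]
  apply mk4_ext
  · ring
  · linear_combination (-a * d) * h
  · ring
  · ring

/-- Generation of `SL₂(K)` by unipotents. -/
theorem closure_induction {P : Subgroup (Matrix.SpecialLinearGroup (Fin 2) K)} (hU : ∀ a, U a ∈ P)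
    (hL : ∀ b, Lo b ∈ P) : P = ⊤ := by
  have key : ∀ a b c d : K, ∀ h : a * d - b * c = 1, c ≠ 0 → mk4 a b c d h ∈ P := by
    intro a b c d h hc
    have : mk4 a b c d h = U ((a - 1) / c) * Lo c * U ((d - 1) / c) := by
      unfold U Lo; rw [mk4_mul, mk4_mul]
      apply mk4_ext
      · field_simp; ring
      · field_simp; linear_combination -h
      · ring
      · field_simp; ring
    rw [this]
    exact mul_mem (mul_mem (hU _) (hL _)) (hU _)
  rw [eq_top_iff]
  intro g _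
  obtain ⟨a, b, c, d, h, rfl⟩ := exists_mk4 g
  by_cases hc : c = 0
  · have ha : a ≠ 0 := by
      rintro rfl
      rw [hc] at h
      simp at h
    have h1 : Lo 1 * mk4 a b c d h = mk4 a b (a + c) (b + d) (by linear_combination h) := by
      unfold Lo; rw [mk4_mul]; apply mk4_ext <;> ring
    have h2 : mk4 a b (a + c) (b + d) (by linear_combination h) ∈ P := key _ _ _ _ _ (by rw [hc, add_zero]; exact ha)
    rw [← h1] at h2
    exact (Subgroup.mul_mem_cancel_left P (hL 1)).mp h2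
  · exact key _ _ _ _ _ hc

section char2

variable [CharP K 2]

theorem two_eq : (2 : K) = 0 := CharTwo.two_eq_zero

theorem U_inv (a : K) : (U a)⁻¹ = U a := by
  rw [inv_eq_iff_mul_eq_one, U_mul, CharTwo.add_self_eq_zero, U_zero]

/-- the Weyl element -/
def w : Matrix.SpecialLinearGroup (Fin 2) K := mk4 0 1 1 0 (by linear_combination -(two_eq (K := K)))

theorem w_mul : (w : Matrix.SpecialLinearGroup (Fin 2) K) * w = 1 := by
  unfold w; rw [mk4_mul, one_eq]; apply mk4_ext <;> ring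

theorem w_inv : (w : Matrix.SpecialLinearGroup (Fin 2) K)⁻¹ = w := by
  rw [inv_eq_iff_mul_eq_one, w_mul]

theorem w_U (a : K) : w * U a * w = Lo a := by
  unfold w U Lo; rw [mk4_mul, mk4_mul]; apply mk4_ext <;> ring

theorem w_Lo (a : K) : w * Lo a * w = U a := by
  unfold w U Lo; rw [mk4_mul, mk4_mul]; apply mk4_ext <;> ring

theorem w_H (d : Kˣ) : w * H d * w = H d⁻¹ := by
  unfold w H; rw [mk4_mul, mk4_mul]; apply mk4_ext <;> simp

/-- the involution `z(k, X)` -/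
def z (k : K) (X : Kˣ) : Matrix.SpecialLinearGroup (Fin 2) K :=
  mk4 k X ((1 + k) ^ 2 * (X⁻¹ : Kˣ)) k (by
    have h : (X : K) * (X⁻¹ : Kˣ) = 1 := Units.mul_inv X
    linear_combination (-(1 + k) ^ 2) * h - (1 + k) * two_eq (K := K))

theorem z_mul (k : K) (X : Kˣ) : z k X * z k X = 1 := by
  have h : (X : K) * (X⁻¹ : Kˣ) = 1 := Units.mul_inv X
  unfold z; rw [mk4_mul, one_eq]
  apply mk4_ext
  · linear_combination (1 + k) ^ 2 * h + (k + k ^ 2) * two_eq (K := K)
  · linear_combination (k * X) * two_eq (K := K)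
  · linear_combination (k * (1 + k) ^ 2 * (X⁻¹ : Kˣ)) * two_eq (K := K)
  · linear_combination (1 + k) ^ 2 * h + (k + k ^ 2) * two_eq (K := K)

theorem tr_z_H (k : K) (X : Kˣ) (c : Kˣ) : tr (z k X * H c) = k * (c + (c⁻¹ : Kˣ)) := by
  unfold z H; rw [mk4_mul, tr_mk4]; ring

theorem U_eq_z {k : K} (hk : k ≠ 0) (hk1 : 1 + k ≠ 0) {a : K} (ha : a ≠ 0) :
    ∃ X Y : Kˣ, U a = z k Y * z k X * z k Y := by
  refine ⟨Units.mk0 (a * k ^ 2) (by positivity), Units.mk0 ((1 + k) * k * a) (by positivity), ?_⟩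
  unfold U z; rw [mk4_mul, mk4_mul]
  have h2 := two_eq (K := K)
  apply mk4_ext
  · simp only [Units.val_mk0, Units.val_inv_eq_inv_val]
    field_simp
    linear_combination (-(2 * k + 3 * k ^ 2 + 2 * k ^ 3)) * h2
  · simp only [Units.val_mk0, Units.val_inv_eq_inv_val]
    field_simp
    linear_combination (-(2 * k + 3 * k ^ 2 + 3 * k ^ 3 + 2 * k ^ 4)) * h2
  · simp only [Units.val_mk0, Units.val_inv_eq_inv_val]
    field_simp
    linear_combination (-(1 + 3 * k + 2 * k ^ 2)) * h2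
  · simp only [Units.val_mk0, Units.val_inv_eq_inv_val]
    field_simp
    linear_combination (-(2 * k + 3 * k ^ 2 + 2 * k ^ 3)) * h2

/-! ### representations in rings -/

/-- the relations `g + g⁻¹ = -1` for `g` of trace one -/
def Rel {S : Type*} [Ring S] (ρ : Matrix.SpecialLinearGroup (Fin 2) K →* S) : Prop :=
  ∀ g, tr g = 1 → ρ g + ρ g⁻¹ = -1

section ring

variable {S : Type*} [Ring S] {ρ : Matrix.SpecialLinearGroup (Fin 2) K →* S}

omit [CharP K 2] in
theorem Rel.F1 (h : Rel ρ) {s g : Matrix.SpecialLinearGroup (Fin 2) K} (hs : s * s = 1) (ht : tr (s * g) = 1) :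
    ρ s * (ρ g + ρ g⁻¹) + (ρ g + ρ g⁻¹) * ρ s = -2 := by
  have hsi : s⁻¹ = s := inv_eq_iff_mul_eq_one.mpr hs
  have h1 := h _ ht
  have h2 := h (g * s) (by rw [tr_mul_comm]; exact ht)
  rw [mul_inv_rev, hsi, map_mul, map_mul] at h1 h2
  have : ρ s * (ρ g + ρ g⁻¹) + (ρ g + ρ g⁻¹) * ρ s = (ρ s * ρ g + ρ g⁻¹ * ρ s) + (ρ g * ρ s + ρ s * ρ g⁻¹) := by
    noncomm_ring
  rw [this, h1, h2]
  norm_num

/-- conjugation by the Weyl element -/
def wconj : Matrix.SpecialLinearGroup (Fin 2) K →* Matrix.SpecialLinearGroup (Fin 2) K where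
  toFun g := w * g * w
  map_one' := by rw [mul_one, w_mul]
  map_mul' a b := by
    have : w * a * w * (w * b * w) = w * a * ((w * w) * b * w) := by group
    rw [this, w_mul]; group

theorem wconj_U (a : K) : wconj (U a) = Lo a := w_U a
theorem wconj_H (d : Kˣ) : wconj (H d) = H d⁻¹ := w_H d

theorem Rel.wconj (h : Rel ρ) : Rel (ρ.comp wconj) := by
  intro g hg
  have h1 : ∀ g : Matrix.SpecialLinearGroup (Fin 2) K, HigSL2.wconj g = w * g * w⁻¹ := by
    intro g; rw [w_inv]; rfl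
  rw [MonoidHom.comp_apply, MonoidHom.comp_apply, map_inv, h1]
  apply h
  rw [tr_conj, hg]

section two

variable (h2S : (2 : S) = 0)

include h2S

theorem add_self' (x : S) : x + x = 0 := by rw [← two_mul, h2S, zero_mul]
theorem neg_eq' (x : S) : -x = x := by
  rw [neg_eq_iff_add_eq_zero]; exact add_self' h2S x

theorem Rel.comm_H (h : Rel ρ) (c : Kˣ) (a : K) :
    ρ (U a) * (ρ (H c) + ρ (H c)⁻¹) = (ρ (H c) + ρ (H c)⁻¹) * ρ (U a) := by
  have h2 := two_eq (K := K)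
  have hcc : (c : K) * (c⁻¹ : Kˣ) = 1 := Units.mul_inv c
  by_cases ha : a = 0
  · rw [ha, U_zero, map_one, one_mul, mul_one]
  by_cases hc : c = 1
  · rw [hc, H_one, inv_one, map_one]
    rw [add_self' h2S, mul_zero, zero_mul]
  have hc1 : (c : K) + (c⁻¹ : Kˣ) ≠ 0 := by
    intro h0
    apply hc
    have h3 : ((c : K) + 1) * ((c : K) + 1) = 0 := by
      linear_combination c * h0 - hcc + c * h2
    have h4 : (c : K) + 1 = 0 := by
      rcases mul_eq_zero.mp h3 with h | h <;> exact h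
    apply Units.ext
    rw [Units.val_one]
    linear_combination h4 - h2
  by_cases hc2 : (c : K) + (c⁻¹ : Kˣ) = 1
  · have h3 := h (H c) hc2
    rw [h3, mul_neg, neg_mul, mul_one, one_mul]
  set k : K := ((c : K) + (c⁻¹ : Kˣ))⁻¹ with hk
  have hk0 : k ≠ 0 := inv_ne_zero hc1
  have hk1 : 1 + k ≠ 0 := by
    intro h0
    apply hc2
    have h3 : k = 1 := by linear_combination h0 - h2
    rw [hk, inv_eq_one] at h3
    exact h3
  have hkt : k * ((c : K) + (c⁻¹ : Kˣ)) = 1 := inv_mul_cancel₀ hc1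
  obtain ⟨X, Y, hXY⟩ := U_eq_z hk0 hk1 ha
  have hz : ∀ X : Kˣ, Commute (ρ (z k X)) (ρ (H c) + ρ (H c)⁻¹) := by
    intro X
    have h3 := h.F1 (z_mul k X) (g := H c) (by rw [tr_z_H]; exact hkt)
    rw [h2S, neg_zero] at h3
    have h4 := eq_neg_of_add_eq_zero_left h3
    rw [neg_eq' h2S] at h4
    exact h4
  rw [hXY, map_mul, map_mul]
  exact ((hz Y).mul_left (hz X)).mul_left (hz Y)

/-- `N a = ρ(U a) + 1` -/
theorem Rel.L1 (h : Rel ρ) (a : K) (c : Kˣ) :
    (ρ (U a) + 1) * ρ (H c) = ρ (H c⁻¹) * (ρ (U a) + 1) := by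
  by_cases hc : c = 1
  · rw [hc, inv_one, H_one, map_one, mul_one, one_mul]
  have h2 := two_eq (K := K)
  have hcc : (c : K) * (c⁻¹ : Kˣ) = 1 := Units.mul_inv c
  have hc1 : (1 : K) + c * c ≠ 0 := by
    intro h0
    apply hc
    have h3 : ((c : K) + 1) * ((c : K) + 1) = 0 := by
      linear_combination h0 + (c : K) * h2
    have h4 : (c : K) + 1 = 0 := by
      rcases mul_eq_zero.mp h3 with h | h <;> exact h
    apply Units.ext
    rw [Units.val_one]
    linear_combination h4 - h2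
  set x : K := a / (1 + c * c) with hx
  have hxa : x + x * c * c = a := by
    have : x + x * c * c = x * (1 + c * c) := by ring
    rw [this, hx, div_mul_cancel₀ _ hc1]
  have h3 : U a * H c = U x * H c * (U x)⁻¹ := by
    rw [U_inv, mul_assoc, H_U, ← mul_assoc, U_mul, hxa]
  have h4 : (U a * H c)⁻¹ = U x * (H c)⁻¹ * (U x)⁻¹ := by
    rw [h3]; group
  have h5 : ρ (U a) * ρ (H c) + ρ (H c)⁻¹ * ρ (U a) = ρ (H c) + ρ (H c)⁻¹ := by
    calc ρ (U a) * ρ (H c) + ρ (H c)⁻¹ * ρ (U a) = ρ (U a * H c) + ρ ((U a * H c)⁻¹) := by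
          rw [map_mul, mul_inv_rev, map_mul, U_inv]
      _ = ρ (U x) * (ρ (H c) + ρ (H c)⁻¹) * ρ (U x)⁻¹ := by
          rw [h4, h3]
          simp only [map_mul]
          noncomm_ring
      _ = ρ (H c) + ρ (H c)⁻¹ := by
          rw [h.comm_H h2S, mul_assoc, ← map_mul, mul_inv_cancel, map_one, mul_one]
  rw [← H_inv]
  have h6 : (ρ (U a) + 1) * ρ (H c) + ρ (H c)⁻¹ * (ρ (U a) + 1) = 0 := by
    have : (ρ (U a) + 1) * ρ (H c) + ρ (H c)⁻¹ * (ρ (U a) + 1) =
      (ρ (U a) * ρ (H c) + ρ (H c)⁻¹ * ρ (U a)) + (ρ (H c) + ρ (H c)⁻¹) := by noncomm_ring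
    rw [this, h5, add_self' h2S]
  rw [eq_neg_of_add_eq_zero_left h6, neg_eq' h2S]

variable [Finite K]

theorem Rel.L2 (h : Rel ρ) (a : K) (d : Kˣ) :
    (ρ (U a) + 1) * ρ (H d) = ρ (U (a * (d⁻¹ : Kˣ))) + 1 := by
  obtain ⟨c, hc⟩ : ∃ c : Kˣ, d = c * c := by
    have : Fintype K := Fintype.ofFinite K
    obtain ⟨c, hc⟩ := FiniteField.isSquare_of_char_two (F := K) (ringChar.eq K 2 ▸ rfl) (d : K)
    have hc0 : c ≠ 0 := by
      rintro rfl
      rw [mul_zero] at hc
      exact d.ne_zero hc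
    exact ⟨Units.mk0 c hc0, Units.ext hc⟩
  subst hc
  have h1 := h.L1 h2S a c
  have h2 : ρ (H c⁻¹) * (ρ (U a) + 1) = (ρ (U (a * ((c * c)⁻¹ : Kˣ))) + 1) * ρ (H c⁻¹) := by
    rw [mul_add, add_mul, ← map_mul, ← map_mul, H_U, mul_one, one_mul]
    have h3 : a * (c⁻¹ : Kˣ) * (c⁻¹ : Kˣ) = a * ((c * c)⁻¹ : Kˣ) := by
      rw [mul_inv, Units.val_mul]; ring
    rw [h3]
  rw [h2] at h1
  calc (ρ (U a) + 1) * ρ (H (c * c)) = (ρ (U a) + 1) * ρ (H c) * ρ (H c) := by
        rw [← H_mul, map_mul, mul_assoc]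
    _ = (ρ (U (a * ((c * c)⁻¹ : Kˣ))) + 1) * (ρ (H c⁻¹) * ρ (H c)) := by rw [h1, mul_assoc]
    _ = _ := by rw [← map_mul, H_mul, inv_mul_cancel, H_one, map_one, mul_one]

theorem Rel.L3 (h : Rel ρ) (a : K) (d : Kˣ) :
    ρ (H d) * (ρ (U a) + 1) = ρ (U (a * d)) + 1 := by
  have h1 := h.L1 h2S a d⁻¹
  rw [inv_inv] at h1
  rw [← h1, h.L2 h2S, inv_inv]

theorem Rel.NN (h : Rel ρ) (a b : K) : (ρ (U a) + 1) * (ρ (U b) + 1) = 0 := by
  have haa : (ρ (U a) + 1) * (ρ (U a) + 1) = 0 := by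
    have : (ρ (U a) + 1) * (ρ (U a) + 1) = ρ (U a) * ρ (U a) + 1 + (ρ (U a) + ρ (U a)) := by noncomm_ring
    rw [this, ← map_mul, U_mul, CharTwo.add_self_eq_zero, U_zero, map_one, add_self' h2S, add_self' h2S, zero_add]
  by_cases ha : a = 0
  · rw [ha, U_zero, map_one, add_self' h2S, zero_mul]
  by_cases hb : b = 0
  · rw [hb, U_zero, map_one, add_self' h2S, mul_zero]
  have h1 := h.L2 h2S a (Units.mk0 (a / b) (div_ne_zero ha hb))
  have h2 : a * ((Units.mk0 (a / b) (div_ne_zero ha hb))⁻¹ : Kˣ) = b := by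
    rw [Units.val_inv_eq_inv_val, Units.val_mk0]
    field_simp
  rw [h2] at h1
  rw [← h1, ← mul_assoc, haa, zero_mul]

theorem Rel.Nadd (h : Rel ρ) (a b : K) : ρ (U (a + b)) + 1 = (ρ (U a) + 1) + (ρ (U b) + 1) := by
  have h1 := h.NN h2S a b
  have h2 : (ρ (U a) + 1) * (ρ (U b) + 1) = ρ (U a) * ρ (U b) + 1 + ((ρ (U a) + 1) + (ρ (U b) + 1)) - (1 + 1) := by
    noncomm_ring
  rw [h2, add_self' h2S, sub_zero, ← map_mul, U_mul] at h1
  have h3 := eq_neg_of_add_eq_zero_left h1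
  rw [neg_eq' h2S] at h3
  exact h3

/-- the opposite root group -/
theorem Rel.M2 (h : Rel ρ) (a : K) (d : Kˣ) : (ρ (Lo a) + 1) * ρ (H d) = ρ (Lo (a * d)) + 1 := by
  have h1 := h.wconj.L2 h2S a d⁻¹
  simp only [MonoidHom.comp_apply, wconj_U, wconj_H, inv_inv] at h1
  exact h1

theorem Rel.M3 (h : Rel ρ) (a : K) (d : Kˣ) : ρ (H d) * (ρ (Lo a) + 1) = ρ (Lo (a * (d⁻¹ : Kˣ))) + 1 := by
  have h1 := h.wconj.L3 h2S a d⁻¹
  simp only [MonoidHom.comp_apply, wconj_U, wconj_H, inv_inv] at h1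
  exact h1

theorem Rel.MM (h : Rel ρ) (a b : K) : (ρ (Lo a) + 1) * (ρ (Lo b) + 1) = 0 := by
  have h1 := h.wconj.NN h2S a b
  simp only [MonoidHom.comp_apply, wconj_U] at h1
  exact h1

theorem Rel.Madd (h : Rel ρ) (a b : K) : ρ (Lo (a + b)) + 1 = (ρ (Lo a) + 1) + (ρ (Lo b) + 1) := by
  have h1 := h.wconj.Nadd h2S a b
  simp only [MonoidHom.comp_apply, wconj_U] at h1
  exact h1

omit [Finite K] in
theorem Rel.NM (h : Rel ρ) (a : Kˣ) :
    (ρ (U (a : K)) + 1) * (ρ (Lo ((a⁻¹ : Kˣ) : K)) + 1) + (ρ (Lo ((a⁻¹ : Kˣ) : K)) + 1) * (ρ (U (a : K)) + 1) = 1 := by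
  have haa : (a : K) * (a⁻¹ : Kˣ) = 1 := Units.mul_inv a
  have h1 := h (U (a : K) * Lo ((a⁻¹ : Kˣ) : K)) (by
    unfold U Lo; rw [mk4_mul, tr_mk4]
    linear_combination haa + two_eq (K := K))
  have hLi : (Lo ((a⁻¹ : Kˣ) : K))⁻¹ = Lo ((a⁻¹ : Kˣ) : K) := by
    rw [inv_eq_iff_mul_eq_one, Lo_mul, CharTwo.add_self_eq_zero, Lo_zero]
  rw [mul_inv_rev, hLi, U_inv, map_mul, map_mul, neg_eq' h2S] at h1
  have : (ρ (U (a : K)) + 1) * (ρ (Lo ((a⁻¹ : Kˣ) : K)) + 1) + (ρ (Lo ((a⁻¹ : Kˣ) : K)) + 1) * (ρ (U (a : K)) + 1) =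
    (ρ (U (a : K)) * ρ (Lo ((a⁻¹ : Kˣ) : K)) + ρ (Lo ((a⁻¹ : Kˣ) : K)) * ρ (U (a : K))) + ((ρ (U (a : K)) + ρ (Lo ((a⁻¹ : Kˣ) : K))) +
      (ρ (U (a : K)) + ρ (Lo ((a⁻¹ : Kˣ) : K)))) + (1 + 1) := by noncomm_ring
  rw [this, h1, add_self' h2S, add_self' h2S, add_zero, add_zero]

/-! ### the ring homomorphism from the matrix ring -/

/-- `N a = ρ(U a) + 1` -/
def N (ρ : Matrix.SpecialLinearGroup (Fin 2) K →* S) (a : K) : S := ρ (U a) + 1
/-- `M b = ρ(Lo b) + 1` -/
def M (ρ : Matrix.SpecialLinearGroup (Fin 2) K →* S) (b : K) : S := ρ (Lo b) + 1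

theorem Rel.N0 : N ρ 0 = 0 := by unfold N; rw [U_zero, map_one, add_self' h2S]
theorem Rel.M0 : M ρ 0 = 0 := by unfold M; rw [Lo_zero, map_one, add_self' h2S]

omit [Finite K] in
theorem Rel.NM1 (h : Rel ρ) : N ρ 1 * M ρ 1 + M ρ 1 * N ρ 1 = 1 := by
  have := h.NM h2S 1
  simpa [N, M] using this

theorem Rel.K1 (h : Rel ρ) (b a : K) : N ρ b * M ρ 1 * N ρ a = N ρ (b * a) := by
  by_cases hb : b = 0
  · rw [hb, zero_mul, Rel.N0 h2S, zero_mul, zero_mul]
  have h1 := h.NM h2S (Units.mk0 b hb)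
  change N ρ b * M ρ ((Units.mk0 b hb)⁻¹ : Kˣ) + M ρ ((Units.mk0 b hb)⁻¹ : Kˣ) * N ρ b = 1 at h1
  have h2 : N ρ b * M ρ ((Units.mk0 b hb)⁻¹ : Kˣ) * N ρ (b * a) = N ρ (b * a) := by
    have h3 := congrArg (· * N ρ (b * a)) h1
    simp only [add_mul, one_mul] at h3
    rw [mul_assoc (M ρ _) (N ρ b) (N ρ (b * a)), show N ρ b * N ρ (b * a) = 0 from h.NN h2S _ _, mul_zero,
      add_zero] at h3
    exact h3
  have h3 := h.M2 h2S 1 (Units.mk0 b hb)⁻¹
  rw [one_mul] at h3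
  have h4 := h.L3 h2S (b * a) (Units.mk0 b hb)⁻¹
  have h5 : b * a * ((Units.mk0 b hb)⁻¹ : Kˣ) = a := by
    rw [Units.val_inv_eq_inv_val, Units.val_mk0]; field_simp
  rw [h5] at h4
  rw [← h2]
  change _ = N ρ b * (ρ (Lo ((Units.mk0 b hb)⁻¹ : Kˣ)) + 1) * (ρ (U (b * a)) + 1)
  rw [← h3, mul_assoc, mul_assoc, mul_assoc, h4]
  rfl

theorem Rel.K2 (h : Rel ρ) (b c : K) : N ρ b * M ρ c = N ρ (b * c) * M ρ 1 := by
  by_cases hc : c = 0
  · rw [hc, mul_zero, Rel.N0 h2S, Rel.M0 h2S, zero_mul, mul_zero]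
  have h1 := h.M3 h2S 1 (Units.mk0 c hc)⁻¹
  rw [one_mul, inv_inv] at h1
  have h2 := h.L2 h2S b (Units.mk0 c hc)⁻¹
  rw [inv_inv] at h2
  unfold N M
  change _ * (ρ (Lo ((Units.mk0 c hc : Kˣ) : K)) + 1) = (ρ (U (b * ((Units.mk0 c hc : Kˣ) : K))) + 1) * _
  rw [← h1, ← h2, mul_assoc]

theorem Rel.K3 (h : Rel ρ) (c b : K) : M ρ c * N ρ b = M ρ 1 * N ρ (c * b) := by
  by_cases hc : c = 0
  · rw [hc, zero_mul, Rel.N0 h2S, Rel.M0 h2S, zero_mul, mul_zero]
  have h1 := h.M2 h2S 1 (Units.mk0 c hc)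
  rw [one_mul] at h1
  have h2 := h.L3 h2S b (Units.mk0 c hc)
  unfold N M
  rw [mul_comm c b]
  change (ρ (Lo ((Units.mk0 c hc : Kˣ) : K)) + 1) * _ = _ * (ρ (U (b * ((Units.mk0 c hc : Kˣ) : K))) + 1)
  rw [← h1, ← h2, mul_assoc]

theorem Rel.K4 (h : Rel ρ) (a : K) : M ρ 1 * N ρ a * M ρ 1 = M ρ a := by
  have h1 := h.K2 h2S 1 a
  rw [one_mul] at h1
  rw [mul_assoc, ← h1, ← mul_assoc]
  have h2 := congrArg (· * M ρ a) (h.NM1 h2S)
  simp only [add_mul, one_mul] at h2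
  rw [mul_assoc (N ρ 1), show M ρ 1 * M ρ a = 0 from h.MM h2S _ _, mul_zero, zero_add] at h2
  exact h2

/-- the matrix ring acts -/
def Rel.Phi (h : Rel ρ) : Matrix (Fin 2) (Fin 2) K →+* S where
  toFun A := N ρ (A 0 0) * M ρ 1 + N ρ (A 0 1) + M ρ (A 1 0) + M ρ 1 * N ρ (A 1 1)
  map_one' := by
    simp only [Matrix.one_apply_eq, ne_eq, zero_ne_one, not_false_eq_true, Matrix.one_apply_ne, one_ne_zero]
    rw [Rel.N0 h2S, Rel.M0 h2S, add_zero, add_zero, h.NM1 h2S]
  map_zero' := by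
    simp only [Matrix.zero_apply]
    rw [Rel.N0 h2S, Rel.M0 h2S]; simp
  map_add' A B := by
    simp only [Matrix.add_apply]
    have hN : ∀ a b, N ρ (a + b) = N ρ a + N ρ b := h.Nadd h2S
    have hM : ∀ a b, M ρ (a + b) = M ρ a + M ρ b := h.Madd h2S
    rw [hN, hN, hM, hN]
    noncomm_ring
  map_mul' A B := by
    simp only [Matrix.mul_apply, Fin.sum_univ_two]
    generalize A 0 0 = p
    generalize A 0 1 = q
    generalize A 1 0 = r
    generalize A 1 1 = s
    generalize B 0 0 = p'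
    generalize B 0 1 = q'
    generalize B 1 0 = r'
    generalize B 1 1 = s'
    have hN : ∀ a b, N ρ (a + b) = N ρ a + N ρ b := h.Nadd h2S
    have hM : ∀ a b, M ρ (a + b) = M ρ a + M ρ b := h.Madd h2S
    have hNN : ∀ a b, N ρ a * N ρ b = 0 := h.NN h2S
    have hMM : ∀ a b, M ρ a * M ρ b = 0 := h.MM h2S
    have k1 := h.K1 h2S
    have k2 := h.K2 h2S
    have k3 := h.K3 h2S
    have k4 := h.K4 h2S
    have e11 : N ρ p * M ρ 1 * (N ρ p' * M ρ 1) = N ρ (p * p') * M ρ 1 := by rw [← mul_assoc, k1]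
    have e12 : N ρ p * M ρ 1 * N ρ q' = N ρ (p * q') := k1 _ _
    have e13 : N ρ p * M ρ 1 * M ρ r' = 0 := by rw [mul_assoc, hMM, mul_zero]
    have e14 : N ρ p * M ρ 1 * (M ρ 1 * N ρ s') = 0 := by
      rw [mul_assoc, ← mul_assoc (M ρ 1) (M ρ 1), hMM, zero_mul, mul_zero]
    have e21 : N ρ q * (N ρ p' * M ρ 1) = 0 := by rw [← mul_assoc, hNN, zero_mul]
    have e22 : N ρ q * N ρ q' = 0 := hNN _ _
    have e23 : N ρ q * M ρ r' = N ρ (q * r') * M ρ 1 := k2 _ _
    have e24 : N ρ q * (M ρ 1 * N ρ s') = N ρ (q * s') := by rw [← mul_assoc, k1]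
    have e31 : M ρ r * (N ρ p' * M ρ 1) = M ρ (r * p') := by rw [← mul_assoc, k3, k4]
    have e32 : M ρ r * N ρ q' = M ρ 1 * N ρ (r * q') := k3 _ _
    have e33 : M ρ r * M ρ r' = 0 := hMM _ _
    have e34 : M ρ r * (M ρ 1 * N ρ s') = 0 := by rw [← mul_assoc, hMM, zero_mul]
    have e41 : M ρ 1 * N ρ s * (N ρ p' * M ρ 1) = 0 := by
      rw [mul_assoc, ← mul_assoc (N ρ s), hNN, zero_mul, mul_zero]
    have e42 : M ρ 1 * N ρ s * N ρ q' = 0 := by rw [mul_assoc, hNN, mul_zero]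
    have e43 : M ρ 1 * N ρ s * M ρ r' = M ρ (s * r') := by rw [mul_assoc, k2, ← mul_assoc, k4]
    have e44 : M ρ 1 * N ρ s * (M ρ 1 * N ρ s') = M ρ 1 * N ρ (s * s') := by
      rw [mul_assoc, ← mul_assoc (N ρ s), k1]
    rw [hN, hN, hM, hN]
    simp only [add_mul, mul_add, e11, e12, e13, e14, e21, e22, e23, e24, e31, e32, e33, e34, e41, e42, e43, e44]
    abel

theorem Rel.Phi_apply (h : Rel ρ) (A : Matrix (Fin 2) (Fin 2) K) :
    h.Phi h2S A = N ρ (A 0 0) * M ρ 1 + N ρ (A 0 1) + M ρ (A 1 0) + M ρ 1 * N ρ (A 1 1) := rfl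

theorem Rel.Phi_coe (h : Rel ρ) (g : Matrix.SpecialLinearGroup (Fin 2) K) : h.Phi h2S g.1 = ρ g := by
  let P : Subgroup (Matrix.SpecialLinearGroup (Fin 2) K) :=
    { carrier := {g | h.Phi h2S g.1 = ρ g}
      one_mem' := by
        change h.Phi h2S 1 = ρ 1
        rw [map_one, map_one]
      mul_mem' := by
        intro a b ha hb
        change h.Phi h2S (a.1 * b.1) = ρ (a * b)
        rw [map_mul, map_mul, ← show h.Phi h2S a.1 = ρ a from ha, ← show h.Phi h2S b.1 = ρ b from hb]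
      inv_mem' := by
        intro a ha
        have h1 : h.Phi h2S (a⁻¹).1 * h.Phi h2S a.1 = 1 := by
          rw [← map_mul]
          have : (a⁻¹).1 * a.1 = (a⁻¹ * a).1 := rfl
          rw [this, inv_mul_cancel]
          exact map_one _
        have h2 : h.Phi h2S a.1 * ρ a⁻¹ = 1 := by
          rw [show h.Phi h2S a.1 = ρ a from ha, ← map_mul, mul_inv_cancel, map_one]
        exact left_inv_eq_right_inv h1 h2 }
  have hP : P = ⊤ := by
    apply closure_induction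
    · intro a
      change h.Phi h2S !![1, a; 0, 1] = ρ (U a)
      rw [h.Phi_apply]
      change N ρ 1 * M ρ 1 + N ρ a + M ρ 0 + M ρ 1 * N ρ 1 = _
      have h1 : N ρ 1 * M ρ 1 + N ρ a + M ρ 0 + M ρ 1 * N ρ 1 = (N ρ 1 * M ρ 1 + M ρ 1 * N ρ 1) + N ρ a + M ρ 0 := by
        abel
      rw [h1, h.NM1 h2S, Rel.M0 h2S, add_zero]
      unfold N
      rw [add_comm, add_assoc, add_self' h2S, add_zero]
    · intro a
      change h.Phi h2S !![1, 0; a, 1] = ρ (Lo a)
      rw [h.Phi_apply]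
      change N ρ 1 * M ρ 1 + N ρ 0 + M ρ a + M ρ 1 * N ρ 1 = _
      have h1 : N ρ 1 * M ρ 1 + N ρ 0 + M ρ a + M ρ 1 * N ρ 1 = (N ρ 1 * M ρ 1 + M ρ 1 * N ρ 1) + N ρ 0 + M ρ a := by
        abel
      rw [h1, h.NM1 h2S, Rel.N0 h2S, add_zero]
      unfold M
      rw [add_comm, add_assoc, add_self' h2S, add_zero]
  have : g ∈ P := by rw [hP]; trivial
  exact this

end two

/-! ### characteristic four is impossible -/

omit [CharP K 2] in
theorem four_aux (x : S) (h4 : (4 : S) = 0) : (2 : S) * (2 * x) = 0 := by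
  rw [← mul_assoc]
  norm_num
  rw [h4, zero_mul]

/-- congruence modulo two -/
def con2 (S : Type*) [Ring S] : RingCon S where
  r x y := ∃ z, x = y + 2 * z
  iseqv := by
    constructor
    · intro x; exact ⟨0, by simp⟩
    · rintro x y ⟨z, rfl⟩; exact ⟨-z, by noncomm_ring⟩
    · rintro x y u ⟨z, rfl⟩ ⟨v, rfl⟩; exact ⟨v + z, by noncomm_ring⟩
  mul' := by
    rintro a b c d ⟨z, rfl⟩ ⟨v, rfl⟩
    exact ⟨b * v + z * d + 2 * z * v, by noncomm_ring⟩
  add' := by
    rintro a b c d ⟨z, rfl⟩ ⟨v, rfl⟩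
    exact ⟨v + z, by noncomm_ring⟩

theorem Rel.two_eq_zero_aux [Finite K] (h : Rel ρ) (h4 : (4 : S) = 0)
    (hgen : Subring.closure (Set.range ρ) = ⊤) (c : Kˣ) (hc : c ≠ 1) : (2 : S) = 0 := by
  have h2 := two_eq (K := K)
  have hcc : (c : K) * (c⁻¹ : Kˣ) = 1 := Units.mul_inv c
  have hc1 : (c : K) + (c⁻¹ : Kˣ) ≠ 0 := by
    intro h0
    apply hc
    have h3 : ((c : K) + 1) * ((c : K) + 1) = 0 := by
      linear_combination c * h0 - hcc + c * h2
    have h4 : (c : K) + 1 = 0 := by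
      rcases mul_eq_zero.mp h3 with h | h <;> exact h
    apply Units.ext
    rw [Units.val_one]
    linear_combination h4 - h2
  by_cases hc2 : (c : K) + (c⁻¹ : Kˣ) = 1
  · -- an involution `s` with `tr (s * H c) = 1` while `H c` has trace `1`
    have h3 := h (H c) hc2
    have h5 := h.F1 (s := U 1) (g := H c) (by rw [U_mul, CharTwo.add_self_eq_zero, U_zero]) (by
      unfold U H; rw [mk4_mul, tr_mk4]; linear_combination hc2)
    rw [h3] at h5
    have h6 : (2 : S) * ρ (U 1) = 2 := by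
      have h7 : -(ρ (U 1) + ρ (U 1)) = -2 := by rw [← h5]; noncomm_ring
      rw [two_mul]; exact neg_injective h7
    have h8 := h (U 1 * Lo 1) (by
      unfold U Lo; rw [mk4_mul, tr_mk4]; linear_combination h2)
    have hLi : (Lo (1 : K))⁻¹ = Lo 1 := by
      rw [inv_eq_iff_mul_eq_one, Lo_mul, CharTwo.add_self_eq_zero, Lo_zero]
    rw [mul_inv_rev, hLi, U_inv, map_mul, map_mul] at h8
    have h9 : (2 : S) * (ρ (U 1) * ρ (Lo 1) + ρ (Lo 1) * ρ (U 1)) = 4 * ρ (Lo 1) := by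
      have e1 : (2 : S) * (ρ (Lo 1) * ρ (U 1)) = ρ (Lo 1) * (2 * ρ (U 1)) := by noncomm_ring
      rw [mul_add, ← mul_assoc, h6, e1, h6]
      noncomm_ring
    rw [h8, h4, zero_mul, mul_neg, mul_one, neg_eq_zero] at h9
    exact h9
  · set k : K := ((c : K) + (c⁻¹ : Kˣ))⁻¹ with hk
    set T : K := (c : K) + (c⁻¹ : Kˣ) with hT
    have hk0 : k ≠ 0 := inv_ne_zero hc1
    have hk1 : 1 + k ≠ 0 := by
      intro h0
      apply hc2
      have h3 : k = 1 := by linear_combination h0 - h2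
      rw [hk, inv_eq_one] at h3
      exact h3
    have hkt : k * T = 1 := inv_mul_cancel₀ hc1
    have hT1 : 1 + T ≠ 0 := by
      intro h0
      apply hc2
      linear_combination h0 - h2
    let q : S →+* (con2 S).Quotient := (con2 S).mk'
    have hq : ∀ x y, q x = q y ↔ ∃ z, x = y + 2 * z := fun x y => (con2 S).eq
    have h2q : (2 : (con2 S).Quotient) = 0 := by
      have : q 2 = q 0 := (hq _ _).mpr ⟨1, by simp⟩
      rwa [map_ofNat, map_zero] at this
    have hρq : Rel ((q : S →* (con2 S).Quotient).comp ρ) := by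
      intro g hg
      have := congrArg q (h g hg)
      rw [map_add, map_neg, map_one] at this
      exact this
    have hqρ : ∀ g, q (ρ g) = hρq.Phi h2q g.1 := fun g => (hρq.Phi_coe h2q g).symm
    set t : S := ρ (H c) + ρ (H c)⁻¹ with ht
    have hqt : q t = hρq.Phi h2q (Matrix.scalar (Fin 2) T) := by
      rw [ht, map_add, hqρ, hqρ, ← map_add]
      congr 1
      rw [H_inv]
      change !![(c : K), 0; 0, (c⁻¹ : Kˣ)] + !![((c⁻¹ : Kˣ) : K), 0; 0, ((c⁻¹)⁻¹ : Kˣ)] = _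
      rw [inv_inv]
      ext i j
      fin_cases i <;> fin_cases j <;> simp [hT, add_comm]
    -- the involution `z` and its reduction
    set X : Kˣ := Units.mk0 (1 + k) hk1 with hX
    have hF := h.F1 (z_mul k X) (g := H c) (by rw [tr_z_H]; exact hkt)
    rw [← ht] at hF
    set z0 : S := ρ (z k X) with hz0
    set w0 : S := ρ w with hw0
    have hw : w0 * t = t * w0 := by
      rw [ht, hw0, mul_add, add_mul, ← map_mul, ← map_mul, ← map_mul, ← map_mul]
      have e1 : w * H c = (H c)⁻¹ * w := by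
        have := w_H c
        rw [H_inv, ← this, mul_assoc _ w w, w_mul, mul_one]
      have e2 : w * (H c)⁻¹ = H c * w := by
        have := w_H c⁻¹
        rw [inv_inv] at this
        rw [H_inv, ← this, mul_assoc _ w w, w_mul, mul_one]
      rw [e1, e2, add_comm]
    clear_value t
    have hqz : q (t * z0) = q (1 + (1 + t) * w0) := by
      rw [map_mul, map_add, map_one, map_mul, map_add, map_one, hqt, hz0, hw0, hqρ, hqρ,
        ← map_one (hρq.Phi h2q), ← map_mul, ← map_add, ← map_mul, ← map_add]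
      congr 1
      change Matrix.scalar (Fin 2) T * !![k, (X : K); (1 + k) ^ 2 * (X⁻¹ : Kˣ), k] =
        1 + (1 + Matrix.scalar (Fin 2) T) * !![0, 1; 1, 0]
      have hXX : (1 + k) ^ 2 * ((X⁻¹ : Kˣ) : K) = 1 + k := by
        rw [hX, Units.val_inv_eq_inv_val, Units.val_mk0]; field_simp
      rw [hXX]
      have hXv : (X : K) = 1 + k := rfl
      rw [hXv]
      have e1 : Matrix.scalar (Fin 2) T = !![T, 0; 0, T] := by
        ext i j; fin_cases i <;> fin_cases j <;> simp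
      have e2 : (1 : Matrix (Fin 2) (Fin 2) K) = !![1, 0; 0, 1] := Matrix.one_fin_two
      rw [e1, e2, Matrix.mul_fin_two]
      ext i j
      fin_cases i <;> fin_cases j <;>
        simp [Matrix.add_apply, Matrix.mul_apply, Fin.sum_univ_two]
      · linear_combination hkt
      · linear_combination hkt
      · linear_combination hkt
      · linear_combination hkt
    obtain ⟨y, hy⟩ := (hq _ _).mp hqz
    set P : S := 1 + (1 + t) * w0 with hP
    have hPt : t * P = P * t := by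
      have e1 : t * P = t + (1 + t) * (t * w0) := by rw [hP]; noncomm_ring
      have e2 : P * t = t + (1 + t) * (w0 * t) := by rw [hP]; noncomm_ring
      rw [e1, e2, hw]
    -- `t` is central modulo two
    have hcen : ∃ v, y * t = t * y + 2 * v := by
      rw [← hq, map_mul, map_mul]
      have h8 : (Subring.closure (Set.range ρ)) ≤ (Subring.centralizer {q t}).comap q := by
        rw [Subring.closure_le]
        rintro _ ⟨g, rfl⟩
        rw [SetLike.mem_coe, Subring.mem_comap, Subring.mem_centralizer_iff]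
        rintro _ rfl
        rw [hqt, hqρ, ← map_mul, ← map_mul]
        congr 1
        exact (Matrix.scalar_commute T (fun r' => mul_comm _ _) _)
      rw [hgen] at h8
      have h9 := h8 (Subring.mem_top y)
      rw [Subring.mem_comap, Subring.mem_centralizer_iff] at h9
      exact (h9 _ rfl).symm
    obtain ⟨v, hv⟩ := hcen
    have h5 : t * (z0 * t + t * z0) = t * (-2) := by rw [hF]
    have h6 : t * (z0 * t + t * z0) = 2 * (t * P) + (2 * (2 * (t * y))) + 2 * (2 * v) := by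
      have : t * (z0 * t + t * z0) = (t * z0) * t + t * (t * z0) := by noncomm_ring
      rw [this, hy, add_mul, ← hPt, mul_assoc 2 y t, hv]
      noncomm_ring
    rw [h5, four_aux _ h4, four_aux _ h4, add_zero, add_zero] at h6
    have h7 : 2 * (t * (1 + t) * w0) = 0 := by
      have : 2 * (t * (1 + t) * w0) = 2 * (t * P) - 2 * t := by rw [hP]; noncomm_ring
      rw [this, ← h6]
      have : t * -2 - 2 * t = - (4 * t) := by noncomm_ring
      rw [this, h4, zero_mul, neg_zero]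
    have h8 : 2 * (t * (1 + t)) = 0 := by
      have h9 := congrArg (· * w0) h7
      simp only [zero_mul] at h9
      have h10 : w0 * w0 = 1 := by rw [hw0, ← map_mul, w_mul, map_one]
      rw [mul_assoc 2, mul_assoc (t * (1 + t)), h10, mul_one] at h9
      exact h9
    obtain ⟨u, hu⟩ := (con2 S).mk'_surjective (hρq.Phi h2q (Matrix.scalar (Fin 2) (T * (1 + T))⁻¹))
    have hu' : q u = hρq.Phi h2q (Matrix.scalar (Fin 2) (T * (1 + T))⁻¹) := hu
    have h9 : q (u * (t * (1 + t))) = q 1 := by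
      rw [map_mul, map_mul, map_add, map_one, hu', hqt, ← map_one (hρq.Phi h2q), ← map_add, ← map_mul, ← map_mul]
      congr 1
      rw [← map_one (Matrix.scalar (Fin 2)), ← map_add, ← map_mul, ← map_mul]
      rw [inv_mul_cancel₀ (mul_ne_zero hc1 hT1), map_one]
    obtain ⟨v', hv'⟩ := (hq _ _).mp h9
    have h10 : 2 * (u * (t * (1 + t))) = u * (2 * (t * (1 + t))) := by noncomm_ring
    rw [h8, mul_zero, hv', mul_add, mul_one, four_aux _ h4, add_zero] at h10
    exact h10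

theorem Rel.two_eq_zero [Finite K] (h : Rel ρ) (h4 : (4 : S) = 0) (c : Kˣ) (hc : c ≠ 1) : (2 : S) = 0 := by
  let R := Subring.closure (Set.range ρ)
  let ρ' : Matrix.SpecialLinearGroup (Fin 2) K →* R :=
    { toFun := fun g => ⟨ρ g, Subring.subset_closure ⟨g, rfl⟩⟩
      map_one' := Subtype.ext (map_one ρ)
      map_mul' := fun a b => Subtype.ext (map_mul ρ a b) }
  have h' : Rel ρ' := fun g hg => Subtype.ext (h g hg)
  have h4' : (4 : R) = 0 := Subtype.ext h4
  have hgen : Subring.closure (Set.range ρ') = ⊤ := by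
    rw [eq_top_iff]
    rintro ⟨x, hx⟩ -
    induction hx using Subring.closure_induction with
    | mem x hx =>
      obtain ⟨g, rfl⟩ := hx
      exact Subring.subset_closure ⟨g, rfl⟩
    | zero => exact zero_mem _
    | one => exact one_mem _
    | add x y hx hy ihx ihy => exact add_mem ihx ihy
    | neg x hx ihx => exact neg_mem ihx
    | mul x y hx hy ihx ihy => exact mul_mem ihx ihy
  exact congrArg Subtype.val (h'.two_eq_zero_aux h4' hgen c hc)

end ring

end char2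

end Cfsg.Agent.Lib.HigSL2
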