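import Mathlib
import Cfsg.Agent.Lib.HigSL2

/-!
S3050 (Higman): elements of trace one of `SL₂(K)`, the commutator argument, the induction.
-/

set_option autoImplicit false

namespace Cfsg.Agent.Lib.HigSL2

variable {K : Type*} [Field K] [CharP K 2]

/-- the standard element of order three -/
def x0 : Matrix.SpecialLinearGroup (Fin 2) K := mk4 0 1 1 1 (by linear_combination -(two_eq (K := K)))

theorem exists_sqrt [Finite K] {a : K} : ∃ l : K, a = l * l := by
  have : Fintype K := Fintype.ofFinite K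
  exact FiniteField.isSquare_of_char_two (F := K) (ringChar.eq K 2 ▸ rfl) a

theorem conj_x0 [Finite K] {g : Matrix.SpecialLinearGroup (Fin 2) K} (hg : tr g = 1) :
    ∃ k, g = k * x0 * k⁻¹ := by
  have h2 := two_eq (K := K)
  obtain ⟨p, q, r, s, h, rfl⟩ := exists_mk4 g
  rw [tr_mk4] at hg
  suffices hs : ∃ k, mk4 p q r s h * k = k * x0 by
    obtain ⟨k, hk⟩ := hs
    exact ⟨k, eq_mul_inv_of_mul_eq hk⟩
  by_cases hr : r = 0
  · by_cases hq : q = 0
    · subst hr hq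
      refine ⟨mk4 1 p 1 s (by linear_combination hg - p * h2), ?_⟩
      unfold x0
      rw [mk4_mul, mk4_mul]
      apply mk4_ext
      · ring
      · linear_combination p * hg - h - h2
      · ring
      · linear_combination s * hg - h - h2
    · subst hr
      obtain ⟨l, hl⟩ := exists_sqrt (a := q⁻¹)
      have hlq : l * l * q = 1 := by rw [← hl]; exact inv_mul_cancel₀ hq
      refine ⟨mk4 0 (l * q) l (l * s) (by linear_combination - hlq - h2), ?_⟩
      unfold x0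
      rw [mk4_mul, mk4_mul]
      apply mk4_ext
      · ring
      · linear_combination (l * q) * hg
      · ring
      · linear_combination (l * s) * hg - l * h - l * h2
  · obtain ⟨l, hl⟩ := exists_sqrt (a := r⁻¹)
    have hlr : l * l * r = 1 := by rw [← hl]; exact inv_mul_cancel₀ hr
    refine ⟨mk4 l (l * p) 0 (l * r) (by linear_combination hlr), ?_⟩
    unfold x0
    rw [mk4_mul, mk4_mul]
    apply mk4_ext
    · ring
    · linear_combination (l * p) * hg - l * h - l * h2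
    · ring
    · linear_combination (l * r) * hg

theorem conj_of_tr [Finite K] {g g' : Matrix.SpecialLinearGroup (Fin 2) K} (hg : tr g = 1) (hg' : tr g' = 1) :
    ∃ k, g = k * g' * k⁻¹ := by
  obtain ⟨k, hk⟩ := conj_x0 hg
  obtain ⟨k', hk'⟩ := conj_x0 hg'
  refine ⟨k * k'⁻¹, ?_⟩
  rw [hk, hk']
  group

theorem tr_eq_one {g : Matrix.SpecialLinearGroup (Fin 2) K} (h3 : g * g * g = 1) (h1 : g ≠ 1) : tr g = 1 := by
  have h2 := two_eq (K := K)
  obtain ⟨p, q, r, s, h, rfl⟩ := exists_mk4 g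
  rw [tr_mk4]
  have h4 : mk4 p q r s h * mk4 p q r s h = (mk4 p q r s h)⁻¹ := eq_inv_of_mul_eq_one_left h3
  rw [mk4_mul, mk4_inv] at h4
  have e1 := congrArg (fun g : Matrix.SpecialLinearGroup (Fin 2) K => g.1 0 0) h4
  have e2 := congrArg (fun g : Matrix.SpecialLinearGroup (Fin 2) K => g.1 0 1) h4
  have e3 := congrArg (fun g : Matrix.SpecialLinearGroup (Fin 2) K => g.1 1 0) h4
  change p * p + q * r = s at e1
  change p * q + q * s = -q at e2
  change r * p + s * r = -r at e3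
  by_contra hne
  have hne' : p + s + 1 ≠ 0 := by
    intro h0
    apply hne
    linear_combination h0 - h2
  have hq : q = 0 := by
    have : q * (p + s + 1) = 0 := by linear_combination e2
    exact (mul_eq_zero.mp this).resolve_right hne'
  have hr : r = 0 := by
    have : r * (p + s + 1) = 0 := by linear_combination e3
    exact (mul_eq_zero.mp this).resolve_right hne'
  subst hq hr
  have h5 : (p + 1) * (p + s + 1) = 0 := by
    linear_combination e1 + h + (p + s + 1) * h2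
  have h6 : p + 1 = 0 := (mul_eq_zero.mp h5).resolve_right hne'
  have hp : p = 1 := by linear_combination h6 - h2
  subst hp
  apply h1
  rw [one_eq]
  apply mk4_ext
  · rfl
  · rfl
  · rfl
  · linear_combination h

theorem sq_of_tr {g : Matrix.SpecialLinearGroup (Fin 2) K} (hg : tr g = 1) : g * g = g⁻¹ := by
  have h2 := two_eq (K := K)
  obtain ⟨p, q, r, s, h, rfl⟩ := exists_mk4 g
  rw [tr_mk4] at hg
  rw [mk4_mul, mk4_inv]
  apply mk4_ext
  · linear_combination p * hg - h + (p - 1) * h2 - hg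
  · linear_combination q * hg + q * h2
  · linear_combination r * hg + r * h2
  · linear_combination s * hg - h + (s - 1) * h2 - hg

section ring

variable {S : Type*} [Ring S] {ρ : Matrix.SpecialLinearGroup (Fin 2) K →* S} [Finite K]

/-- a combination of two commutators of elements of trace one is invertible -/
theorem exists_inv (h : Rel ρ) (h2S : (2 : S) = 0) (a : Kˣ) (ha : a ≠ 1) :
    ∃ (x y x' y' : Matrix.SpecialLinearGroup (Fin 2) K) (u : S), tr x = 1 ∧ tr y = 1 ∧ tr x' = 1 ∧ tr y' = 1 ∧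
      u * ((ρ (x * y) - ρ (y * x)) + (ρ (x' * y') - ρ (y' * x'))) = 1 := by
  have h2 := two_eq (K := K)
  have haa : (a : K) * (a⁻¹ : Kˣ) = 1 := Units.mul_inv a
  have hne : ∀ c : Kˣ, c ≠ 1 → (c : K) + 1 ≠ 0 := by
    intro c hc h0
    apply hc
    apply Units.ext
    rw [Units.val_one]
    linear_combination h0 - h2
  have ha1 := hne a ha
  have ha2 := hne a⁻¹ (by rwa [Ne, inv_eq_one])
  have hx : tr (U (1 : K) * Lo 1) = 1 := by
    unfold U Lo; rw [mk4_mul, tr_mk4]; linear_combination h2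
  have hy : tr (U (a : K) * Lo ((a⁻¹ : Kˣ) : K)) = 1 := by
    unfold U Lo; rw [mk4_mul, tr_mk4]; linear_combination haa + h2
  refine ⟨U 1 * Lo 1, U (a : K) * Lo ((a⁻¹ : Kˣ) : K), H a * (U 1 * Lo 1) * (H a)⁻¹,
    H a * (U (a : K) * Lo ((a⁻¹ : Kˣ) : K)) * (H a)⁻¹,
    h.Phi h2S !![0, ((((a⁻¹ : Kˣ) : K) + 1) * (((a⁻¹ : Kˣ) : K) + 1) * (((a⁻¹ : Kˣ) : K) + 1))⁻¹;
      (((a : K) + 1) * ((a : K) + 1) * ((a : K) + 1))⁻¹, 0], hx, hy, ?_, ?_, ?_⟩
  · rw [tr_conj, hx]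
  · rw [tr_conj, hy]
  · rw [← h.Phi_coe h2S, ← h.Phi_coe h2S, ← h.Phi_coe h2S, ← h.Phi_coe h2S, ← map_sub, ← map_sub, ← map_add,
      ← map_mul, ← map_one (h.Phi h2S)]
    congr 1
    have hA : (U 1 * Lo 1 : Matrix.SpecialLinearGroup (Fin 2) K) = mk4 0 1 1 1 (by linear_combination -h2) := by
      unfold U Lo; rw [mk4_mul]; apply mk4_ext
      · linear_combination h2
      · ring
      · ring
      · ring
    have hB : (U (a : K) * Lo ((a⁻¹ : Kˣ) : K)) = mk4 0 (a : K) ((a⁻¹ : Kˣ) : K) 1 (by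
        linear_combination -haa - h2) := by
      unfold U Lo; rw [mk4_mul]; apply mk4_ext
      · linear_combination haa + h2
      · ring
      · ring
      · ring
    have hconj : ∀ (p q r s : K) (hh : p * s - q * r = 1), H a * mk4 p q r s hh * (H a)⁻¹ =
        mk4 p (a * a * q) (((a⁻¹ : Kˣ) : K) * ((a⁻¹ : Kˣ) : K) * r) s (by
          linear_combination hh - (q * r * ((a : K) * (a⁻¹ : Kˣ) + 1)) * haa) := by
      intro p q r s hh
      rw [H_inv]
      unfold H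
      rw [mk4_mul, mk4_mul]
      apply mk4_ext
      · linear_combination p * haa
      · rw [inv_inv]; ring
      · ring
      · rw [inv_inv]; linear_combination s * haa
    rw [show H a * (U 1 * Lo 1) * (H a)⁻¹ * (H a * (U (a : K) * Lo ((a⁻¹ : Kˣ) : K)) * (H a)⁻¹) =
      H a * ((U 1 * Lo 1) * (U (a : K) * Lo ((a⁻¹ : Kˣ) : K))) * (H a)⁻¹ by group,
      show H a * (U (a : K) * Lo ((a⁻¹ : Kˣ) : K)) * (H a)⁻¹ * (H a * (U 1 * Lo 1) * (H a)⁻¹) =
      H a * ((U (a : K) * Lo ((a⁻¹ : Kˣ) : K)) * (U 1 * Lo 1)) * (H a)⁻¹ by group]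
    rw [hA, hB, mk4_mul, mk4_mul, hconj, hconj]
    generalize ((a⁻¹ : Kˣ) : K) = b at *
    generalize (a : K) = a' at *
    have ha3 : (a' + 1) * (a' + 1) * (a' + 1) ≠ 0 := mul_ne_zero (mul_ne_zero ha1 ha1) ha1
    have ha4 : (b + 1) * (b + 1) * (b + 1) ≠ 0 := mul_ne_zero (mul_ne_zero ha2 ha2) ha2
    have hi3 := inv_mul_cancel₀ ha3
    have hi4 := inv_mul_cancel₀ ha4
    generalize ((a' + 1) * (a' + 1) * (a' + 1))⁻¹ = u at *
    generalize ((b + 1) * (b + 1) * (b + 1))⁻¹ = v at *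
    unfold mk4
    ext i j
    fin_cases i <;> fin_cases j <;> simp [Matrix.mul_apply, Fin.sum_univ_two]
    · linear_combination hi4 + v * (- 2 * b ^ 2 - b - 1) * h2
    · right; linear_combination (a' - b) * h2
    · right; linear_combination (b - a') * h2
    · linear_combination hi3 + u * (- 2 * a' - a' ^ 2 - a' ^ 3) * h2

end ring

/-! ### actions -/

section act

universe u

variable {G : Type u} [Group G] {π : G →* Matrix.SpecialLinearGroup (Fin 2) K}

/-- automorphisms as endomorphisms of the additive group -/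
def toEnd (E : Type*) [CommGroup E] : MulAut E →* AddMonoid.End (Additive E) where
  toFun f := MonoidHom.toAdditive f.toMonoidHom
  map_one' := rfl
  map_mul' _ _ := rfl

omit [CharP K 2] in
theorem exists_rep (hπ : Function.Surjective π) {E : Type*} [CommGroup E] (φ : G →* MulAut E)
    (hker : ∀ g, π g = 1 → φ g = 1) :
    ∃ ρ : Matrix.SpecialLinearGroup (Fin 2) K →* AddMonoid.End (Additive E),
      ∀ g e, ρ (π g) e = Additive.ofMul (φ g e.toMul) := by
  let f : Matrix.SpecialLinearGroup (Fin 2) K →* MulAut E := π.liftOfSurjective hπ ⟨φ, hker⟩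
  have hf : ∀ g, f (π g) = φ g := fun g => MonoidHom.liftOfRightInverse_comp_apply π _ _ ⟨φ, hker⟩ g
  refine ⟨(toEnd E).comp f, fun g e => ?_⟩
  rw [MonoidHom.comp_apply, hf]
  rfl

theorem rel_of_rep (hπ : Function.Surjective π) {E : Type*} [CommGroup E] (φ : G →* MulAut E)
    {ρ : Matrix.SpecialLinearGroup (Fin 2) K →* AddMonoid.End (Additive E)}
    (hρ : ∀ g e, ρ (π g) e = Additive.ofMul (φ g e.toMul))
    (h3 : ∀ y, tr (π y) = 1 → ∀ e, e * φ y e * φ y (φ y e) = 1) : Rel ρ := by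
  intro g hg
  obtain ⟨y, rfl⟩ := hπ g
  apply AddMonoidHom.ext
  intro e
  have h1 := h3 y hg e.toMul
  rw [← sq_of_tr hg, map_mul]
  change ρ (π y) e + ρ (π y) (ρ (π y) e) = - e
  rw [hρ, hρ, eq_neg_iff_add_eq_zero]
  apply Additive.toMul.injective
  change φ y e.toMul * φ y (φ y e.toMul) * e.toMul = 1
  rw [← h1]
  rw [mul_comm, mul_assoc]

variable [Finite K]

/-- the relation `1 + y + y² = 0` on an abelian section -/
theorem rel3 {G' : Type*} [Group G'] (ψ : G →* G') (E : Subgroup G') [hE : E.Normal]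
    (hπ : Function.Surjective π)
    (hcomm : ∀ a ∈ E, ∀ b ∈ E, a * b = b * a) (hker : ∀ q, π q = 1 → ∀ u ∈ E, ψ q * u = u * ψ q)
    {x : G} (hx : x * x * x = 1) (hxt : tr (π x) = 1) (hfpf : ∀ u ∈ E, ψ x * u * (ψ x)⁻¹ = u → u = 1)
    {y : G} (hy : tr (π y) = 1) {u : G'} (hu : u ∈ E) :
    u * (ψ y * u * (ψ y)⁻¹) * (ψ y * (ψ y * u * (ψ y)⁻¹) * (ψ y)⁻¹) = 1 := by
  have hψ3 : ψ x * ψ x * ψ x = 1 := by rw [← map_mul, ← map_mul, hx, map_one]
  have base : ∀ u ∈ E, u * (ψ x * u * (ψ x)⁻¹) * (ψ x * (ψ x * u * (ψ x)⁻¹) * (ψ x)⁻¹) = 1 := by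
    intro u hu
    have hu1 := hE.conj_mem u hu (ψ x)
    have hu2 := hE.conj_mem _ hu1 (ψ x)
    apply hfpf
    · exact mul_mem (mul_mem hu hu1) hu2
    · have hu3 : ψ x * (ψ x * (ψ x * u * (ψ x)⁻¹) * (ψ x)⁻¹) * (ψ x)⁻¹ = u := by
        have : ψ x * (ψ x * (ψ x * u * (ψ x)⁻¹) * (ψ x)⁻¹) * (ψ x)⁻¹ =
          (ψ x * ψ x * ψ x) * u * (ψ x * ψ x * ψ x)⁻¹ := by group
        rw [this, hψ3, one_mul, inv_one, mul_one]
      have h1 : ψ x * (u * (ψ x * u * (ψ x)⁻¹) * (ψ x * (ψ x * u * (ψ x)⁻¹) * (ψ x)⁻¹)) * (ψ x)⁻¹ =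
        (ψ x * u * (ψ x)⁻¹) * (ψ x * (ψ x * u * (ψ x)⁻¹) * (ψ x)⁻¹) *
          (ψ x * (ψ x * (ψ x * u * (ψ x)⁻¹) * (ψ x)⁻¹) * (ψ x)⁻¹) := by group
      rw [h1, hu3, hcomm _ (mul_mem hu1 hu2) u hu]
      exact (mul_assoc _ _ _).symm
  obtain ⟨k, hk⟩ := conj_of_tr hy hxt
  obtain ⟨g, rfl⟩ := hπ k
  -- `y = g x g⁻¹ q`
  have hyq : ∀ u ∈ E, ψ y * u * (ψ y)⁻¹ = ψ (g * x * g⁻¹) * u * (ψ (g * x * g⁻¹))⁻¹ := by
    intro u hu
    obtain ⟨q, hq⟩ : ∃ q, y = g * x * g⁻¹ * q := ⟨(g * x * g⁻¹)⁻¹ * y, by group⟩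
    have h1 : π q = 1 := by
      have h2 : π y = π (g * x * g⁻¹) * π q := by rw [← map_mul, ← hq]
      rw [hk, ← map_inv, ← map_mul, ← map_mul] at h2
      exact left_eq_mul.mp h2
    have h2 := hker _ h1 u hu
    rw [hq, map_mul ψ (g * x * g⁻¹) q, mul_inv_rev]
    generalize ψ (g * x * g⁻¹) = A at *
    generalize ψ q = B at *
    calc A * B * u * (B⁻¹ * A⁻¹) = A * (B * u) * (B⁻¹ * A⁻¹) := by group
      _ = A * u * A⁻¹ := by rw [h2]; group
  have hv := hE.conj_mem u hu (ψ g)⁻¹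
  rw [inv_inv] at hv
  have h1 := base _ hv
  rw [hyq u hu, hyq _ (hE.conj_mem u hu (ψ (g * x * g⁻¹)))]
  simp only [map_mul, map_inv]
  have h2 : u * (ψ g * ψ x * (ψ g)⁻¹ * u * (ψ g * ψ x * (ψ g)⁻¹)⁻¹) *
      (ψ g * ψ x * (ψ g)⁻¹ * (ψ g * ψ x * (ψ g)⁻¹ * u * (ψ g * ψ x * (ψ g)⁻¹)⁻¹) * (ψ g * ψ x * (ψ g)⁻¹)⁻¹) =
      ψ g * ((ψ g)⁻¹ * u * ψ g * (ψ x * ((ψ g)⁻¹ * u * ψ g) * (ψ x)⁻¹) *
        (ψ x * (ψ x * ((ψ g)⁻¹ * u * ψ g) * (ψ x)⁻¹) * (ψ x)⁻¹)) * (ψ g)⁻¹ := by group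
  rw [h2, h1]
  group

end act

end Cfsg.Agent.Lib.HigSL2
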