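import Mathlib
import Cfsg.Agent.Lib.HigSL2b

/-!
S3050 (Higman): the commutator argument and the induction.
-/

set_option autoImplicit false

namespace Cfsg.Agent.Lib.HigSL2

open Subgroup

universe u

variable {K : Type*} [Field K] [CharP K 2] [Finite K]
variable {G : Type u} [Group G] {π : G →* Matrix.SpecialLinearGroup (Fin 2) K}

/-- the abstract commutator argument -/
theorem gamma_zero {A : Type*} [AddCommGroup A] (h2A : ∀ a : A, a + a = 0)
    {ρ : Matrix.SpecialLinearGroup (Fin 2) K →* AddMonoid.End A} (hρ : Rel ρ) (a : Kˣ) (ha : a ≠ 1)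
    (hπ : Function.Surjective π)
    (γ : G → G → A)
    (hmul : ∀ u ∈ π.ker, ∀ v ∈ π.ker, ∀ u' ∈ π.ker, γ (u * v) u' = γ u u' + γ v u')
    (hmul' : ∀ u ∈ π.ker, ∀ v ∈ π.ker, ∀ u' ∈ π.ker, γ u' (u * v) = γ u' u + γ u' v)
    (hconj : ∀ y, ∀ u ∈ π.ker, ∀ u' ∈ π.ker, ρ (π y) (γ u u') = γ (y * u * y⁻¹) (y * u' * y⁻¹))
    (h3 : ∀ y, tr (π y) = 1 → ∀ u ∈ π.ker, ∀ u' ∈ π.ker,
      γ (u * (y * u * y⁻¹) * (y * (y * u * y⁻¹) * y⁻¹)) u' = 0)
    (h3' : ∀ y, tr (π y) = 1 → ∀ u ∈ π.ker, ∀ u' ∈ π.ker,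
      γ u' (u * (y * u * y⁻¹) * (y * (y * u * y⁻¹) * y⁻¹)) = 0)
    (u : G) (hu : u ∈ π.ker) (u' : G) (hu' : u' ∈ π.ker) : γ u u' = 0 := by
  have hQ : ∀ y u, u ∈ π.ker → y * u * y⁻¹ ∈ π.ker := fun y u hu => (inferInstance : π.ker.Normal).conj_mem u hu y
  have h2S : (2 : AddMonoid.End A) = 0 := by
    apply AddMonoidHom.ext
    intro x
    have : (2 : AddMonoid.End A) = 1 + 1 := one_add_one_eq_two.symm
    rw [this]
    exact h2A x
  have hcancel : ∀ x y : A, x + y = 0 → x = y := by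
    intro x y hxy
    rw [eq_neg_of_add_eq_zero_left hxy, neg_eq_iff_add_eq_zero]
    exact h2A y
  -- `1 + Y + Y² = 0`
  have hY : ∀ y, tr (π y) = 1 → ∀ v, ρ (π y) (ρ (π y) v) = v + ρ (π y) v := by
    intro y hy v
    have h1 := hρ _ hy
    rw [← sq_of_tr hy, map_mul] at h1
    have h4 := DFunLike.congr_fun h1 v
    change ρ (π y) v + ρ (π y) (ρ (π y) v) = - v at h4
    have h5 : v + (ρ (π y) v + ρ (π y) (ρ (π y) v)) = 0 := by rw [h4]; abel
    rw [← add_assoc] at h5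
    exact (hcancel _ _ h5).symm
  have hY3 : ∀ y, tr (π y) = 1 → ∀ v, ρ (π y) (ρ (π y) (ρ (π y) v)) = v := by
    intro y hy v
    rw [hY y hy v, map_add, hY y hy v]
    have : ρ (π y) v + (v + ρ (π y) v) = v + (ρ (π y) v + ρ (π y) v) := by abel
    rw [this, h2A, add_zero]
  -- F
  have hF : ∀ y, tr (π y) = 1 → ∀ u ∈ π.ker, ∀ u' ∈ π.ker, ρ (π y) (γ (y * u * y⁻¹) u') = γ u u' := by
    intro y hy u hu u' hu'
    set f0 := γ u u' with hf0
    set f1 := γ (y * u * y⁻¹) u' with hf1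
    set f2 := γ (y * (y * u * y⁻¹) * y⁻¹) u' with hf2
    have hu1 := hQ y u hu
    have hu2 := hQ y _ hu1
    have hu1' := hQ y u' hu'
    have hu2' := hQ y _ hu1'
    have eA : f0 + f1 + f2 = 0 := by
      rw [← h3 y hy u hu u' hu', hmul _ (mul_mem hu hu1) _ hu2 _ hu', hmul _ hu _ hu1 _ hu']
    have eB : f2 + ρ (π y) f1 + ρ (π y) (ρ (π y) f0) = 0 := by
      rw [← h3' y hy u' hu' _ hu2, hmul' _ (mul_mem hu' hu1') _ hu2' _ hu2, hmul' _ hu' _ hu1' _ hu2,
        hf1, hconj y _ hu1 _ hu', hf0, hconj y _ hu _ hu', hconj y _ hu1 _ hu1']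
    have e2 : f2 = f0 + f1 := (hcancel _ _ eA).symm
    rw [e2, hY y hy f0] at eB
    -- `f0 + f1 + Y f1 + f0 + Y f0 = 0`
    have e3 : (f1 + ρ (π y) f1) + ρ (π y) f0 = 0 := by
      have : f0 + f1 + ρ (π y) f1 + (f0 + ρ (π y) f0) = (f0 + f0) + ((f1 + ρ (π y) f1) + ρ (π y) f0) := by abel
      rw [this, h2A, zero_add] at eB
      exact eB
    rw [← hY y hy f1] at e3
    have e4 := congrArg (fun v => ρ (π y) (ρ (π y) v)) e3
    simp only [map_add, map_zero] at e4
    rw [hY3 y hy, hY3 y hy] at e4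
    exact hcancel _ _ e4
  -- commutation
  have hG : ∀ x y, tr (π x) = 1 → tr (π y) = 1 → ρ (π x) (ρ (π y) (γ u u')) = ρ (π y) (ρ (π x) (γ u u')) := by
    intro x y hx hy
    have hu1 : x⁻¹ * u * x ∈ π.ker := by
      have := hQ x⁻¹ u hu
      rwa [inv_inv] at this
    have e1 : x * (x⁻¹ * u * x) * x⁻¹ = u := by group
    have k1 := hF x hx _ hu1 u' hu'
    rw [e1] at k1
    have k2 := hF y hy u hu u' hu'
    have k3 := hF y hy _ hu1 u' hu'
    have hyx : tr (π (y * x * y⁻¹)) = 1 := by rw [map_mul, map_mul, map_inv, tr_conj, hx]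
    have k4 := hF (y * x * y⁻¹) hyx _ (hQ y _ hu1) u' hu'
    have e2 : y * x * y⁻¹ * (y * (x⁻¹ * u * x) * y⁻¹) * (y * x * y⁻¹)⁻¹ = y * u * y⁻¹ := by group
    rw [e2] at k4
    -- `ρ(g) = Y X Y Y`
    have e3 : ∀ v, ρ (π (y * x * y⁻¹)) v = ρ (π y) (ρ (π x) (ρ (π y) (ρ (π y) v))) := by
      intro v
      rw [map_mul, map_mul, map_inv, ← sq_of_tr hy, map_mul, map_mul, map_mul]
      rfl
    rw [e3] at k4
    have k5 := congrArg (ρ (π y)) k4
    rw [k3, ← k1] at k5
    -- `Y Y X Y (Y c2) = X c0`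
    rw [k2] at k5
    have k6 := congrArg (ρ (π y)) k5
    rw [hY3 y hy] at k6
    exact k6
  obtain ⟨x, y, x', y', i, hx, hy, hx', hy', hi⟩ := exists_inv hρ h2S a ha
  obtain ⟨x, rfl⟩ := hπ x
  obtain ⟨y, rfl⟩ := hπ y
  obtain ⟨x', rfl⟩ := hπ x'
  obtain ⟨y', rfl⟩ := hπ y'
  have h4 := DFunLike.congr_fun hi (γ u u')
  rw [map_mul, map_mul, map_mul, map_mul] at h4
  change i ((ρ (π x) (ρ (π y) (γ u u')) - ρ (π y) (ρ (π x) (γ u u'))) +
    (ρ (π x') (ρ (π y') (γ u u')) - ρ (π y') (ρ (π x') (γ u u')))) = γ u u' at h4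
  rw [hG x y hx hy, hG x' y' hx' hy', sub_self, sub_self, add_zero, map_zero] at h4
  exact h4.symm

theorem comm_step (hπ : Function.Surjective π) (a : Kˣ) (ha : a ≠ 1) (V : Subgroup G) [hVn : V.Normal]
    (hVQ : ∀ v ∈ V, ∀ q ∈ π.ker, q * v = v * q) (hVle : V ≤ π.ker) (hV2 : ∀ v ∈ V, v * v = 1)
    (hQV : ∀ u ∈ π.ker, ∀ u' ∈ π.ker, u * u' * u⁻¹ * u'⁻¹ ∈ V)
    {x : G} (hx : x * x * x = 1) (hxt : tr (π x) = 1) (hfpf : ∀ u ∈ π.ker, x * u * x⁻¹ = u → u = 1)
    (hfpf' : ∀ u ∈ π.ker, x * u * x⁻¹ * u⁻¹ ∈ V → u ∈ V)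
    (u : G) (hu : u ∈ π.ker) (u' : G) (hu' : u' ∈ π.ker) : u * u' = u' * u := by
  classical
  have hVcomm : ∀ a ∈ V, ∀ b ∈ V, a * b = b * a := fun a ha b hb => hVQ b hb a (hVle ha)
  let _ : CommGroup V := { (inferInstance : Group V) with
    mul_comm := fun a b => Subtype.ext (hVcomm a a.2 b b.2) }
  let φ : G →* MulAut V := MulAut.conjNormal
  have hφ : ∀ g (v : V), ((φ g v : V) : G) = g * v * g⁻¹ := fun g v => rfl
  obtain ⟨ρ, hρ⟩ := exists_rep hπ φ (by
    intro g hg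
    apply MulEquiv.ext
    intro v
    apply Subtype.ext
    rw [hφ, hVQ v v.2 g hg, mul_inv_cancel_right]
    rfl)
  have hRel : Rel ρ := by
    apply rel_of_rep hπ φ hρ
    intro y hy e
    apply Subtype.ext
    have h1 := rel3 (MonoidHom.id G) V hπ hVcomm (fun q hq u hu => hVQ u hu q hq) hx hxt
      (fun u hu h => hfpf u (hVle hu) h) hy e.2
    exact h1
  have h2A : ∀ a : Additive V, a + a = 0 := by
    intro a
    apply Additive.toMul.injective
    exact Subtype.ext (hV2 _ (a.toMul).2)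
  -- the quotient
  have hQc : ∀ y, tr (π y) = 1 → ∀ u ∈ π.ker, u * (y * u * y⁻¹) * (y * (y * u * y⁻¹) * y⁻¹) ∈ V := by
    intro y hy u hu
    have h1 := rel3 (QuotientGroup.mk' V) (π.ker.map (QuotientGroup.mk' V)) hπ
      (by
        rintro _ ⟨a, ha, rfl⟩ _ ⟨b, hb, rfl⟩
        rw [← map_mul, ← map_mul]
        have h2 := hQV a ha b hb
        have h3 : QuotientGroup.mk' V (a * b * a⁻¹ * b⁻¹) = 1 := (QuotientGroup.eq_one_iff _).mpr h2
        have h4 : a * b = (a * b * a⁻¹ * b⁻¹) * (b * a) := by group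
        rw [h4, map_mul _ (a * b * a⁻¹ * b⁻¹), h3, one_mul])
      (by
        rintro q hq _ ⟨b, hb, rfl⟩
        rw [← map_mul, ← map_mul]
        have h2 := hQV q hq b hb
        have h3 : QuotientGroup.mk' V (q * b * q⁻¹ * b⁻¹) = 1 := (QuotientGroup.eq_one_iff _).mpr h2
        have h4 : q * b = (q * b * q⁻¹ * b⁻¹) * (b * q) := by group
        rw [h4, map_mul _ (q * b * q⁻¹ * b⁻¹), h3, one_mul])
      hx hxt
      (by
        rintro _ ⟨b, hb, rfl⟩ h
        rw [← map_mul, ← map_inv, ← map_mul] at h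
        apply (QuotientGroup.eq_one_iff _).mpr
        apply hfpf' b hb
        rw [← QuotientGroup.eq_one_iff]
        change QuotientGroup.mk' V (x * b * x⁻¹ * b⁻¹) = 1
        rw [map_mul, h, ← map_mul, mul_inv_cancel, map_one])
      hy (mem_map_of_mem _ hu)
    rw [← map_mul, ← map_inv, ← map_mul, ← map_mul, ← map_mul, ← map_mul, ← map_mul] at h1
    exact (QuotientGroup.eq_one_iff _).mp h1
  let γ : G → G → Additive V := fun u u' =>
    if h : u * u' * u⁻¹ * u'⁻¹ ∈ V then Additive.ofMul ⟨u * u' * u⁻¹ * u'⁻¹, h⟩ else 0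
  have hγ : ∀ u ∈ π.ker, ∀ u' ∈ π.ker, (((γ u u').toMul : V) : G) = u * u' * u⁻¹ * u'⁻¹ := by
    intro u hu u' hu'
    have : γ u u' = Additive.ofMul ⟨u * u' * u⁻¹ * u'⁻¹, hQV u hu u' hu'⟩ := dif_pos (hQV u hu u' hu')
    rw [this]
    rfl
  have hext : ∀ a b : Additive V, ((a.toMul : V) : G) = ((b.toMul : V) : G) → a = b := by
    intro a b h
    exact Additive.toMul.injective (Subtype.ext h)
  have hV0 : ∀ v ∈ V, ∀ u' ∈ π.ker, γ v u' = 0 := by
    intro v hv u' hu'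
    apply hext
    rw [hγ v (hVle hv) u' hu', ← hVQ v hv u' hu']
    change u' * v * v⁻¹ * u'⁻¹ = 1
    group
  have hV0' : ∀ v ∈ V, ∀ u' ∈ π.ker, γ u' v = 0 := by
    intro v hv u' hu'
    apply hext
    rw [hγ u' hu' v (hVle hv), hVQ v hv u' hu']
    change v * u' * u'⁻¹ * v⁻¹ = 1
    group
  have key := gamma_zero h2A hRel a ha hπ γ
    (by
      intro u hu v hv u' hu'
      apply hext
      rw [hγ _ (mul_mem hu hv) u' hu']
      change _ = (((γ u u').toMul : V) : G) * (((γ v u').toMul : V) : G)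
      rw [hγ u hu u' hu', hγ v hv u' hu']
      have h1 := hVQ _ (hQV v hv u' hu') _ (mul_mem (mul_mem hu hu') (inv_mem hu))
      calc u * v * u' * (u * v)⁻¹ * u'⁻¹ = u * (v * u' * v⁻¹ * u'⁻¹) * u⁻¹ * (u * u' * u⁻¹ * u'⁻¹) := by group
        _ = _ := by
          rw [hVQ _ (hQV v hv u' hu') u hu, mul_inv_cancel_right]
          exact hVcomm _ (hQV v hv u' hu') _ (hQV u hu u' hu'))
    (by
      intro u hu v hv u' hu'
      apply hext
      rw [hγ u' hu' _ (mul_mem hu hv)]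
      change _ = (((γ u' u).toMul : V) : G) * (((γ u' v).toMul : V) : G)
      rw [hγ u' hu' u hu, hγ u' hu' v hv]
      calc u' * (u * v) * u'⁻¹ * (u * v)⁻¹ = (u' * u * u'⁻¹ * u⁻¹) * (u * (u' * v * u'⁻¹ * v⁻¹) * u⁻¹) := by group
        _ = _ := by rw [hVQ _ (hQV u' hu' v hv) u hu, mul_inv_cancel_right])
    (by
      intro y u hu u' hu'
      apply hext
      rw [hρ]
      change ((φ y ((γ u u').toMul) : V) : G) = _
      rw [hφ, hγ u hu u' hu', hγ _ ((inferInstance : π.ker.Normal).conj_mem u hu y) _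
        ((inferInstance : π.ker.Normal).conj_mem u' hu' y)]
      group)
    (fun y hy u hu u' hu' => hV0 _ (hQc y hy u hu) u' hu')
    (fun y hy u hu u' hu' => hV0' _ (hQc y hy u hu) u' hu') u hu u' hu'
  have h1 := hγ u hu u' hu'
  rw [key] at h1
  have h2 : u * u' * u⁻¹ * u'⁻¹ = 1 := h1.symm
  calc u * u' = (u * u' * u⁻¹ * u'⁻¹) * (u' * u) := by group
    _ = u' * u := by rw [h2, one_mul]

/-- the representation on a commutative kernel -/
theorem exists_rep_ker (hπ : Function.Surjective π) (hcomm : ∀ a ∈ π.ker, ∀ b ∈ π.ker, a * b = b * a)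
    {x : G} (hx : x * x * x = 1) (hxt : tr (π x) = 1) (hfpf : ∀ u ∈ π.ker, x * u * x⁻¹ = u → u = 1) :
    ∃ (E : Type u) (_ : CommGroup E) (ι : E →* G) (ρ : Matrix.SpecialLinearGroup (Fin 2) K →* AddMonoid.End (Additive E)),
      Function.Injective ι ∧ ι.range = π.ker ∧ Rel ρ ∧
        ∀ g (e : Additive E), ι ((ρ (π g) e).toMul) = g * ι e.toMul * g⁻¹ := by
  let _ : CommGroup π.ker := { (inferInstance : Group π.ker) with
    mul_comm := fun a b => Subtype.ext (hcomm a a.2 b b.2) }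
  let φ : G →* MulAut π.ker := MulAut.conjNormal
  have hφ : ∀ g (v : π.ker), ((φ g v : π.ker) : G) = g * v * g⁻¹ := fun g v => rfl
  obtain ⟨ρ, hρ⟩ := exists_rep hπ φ (by
    intro g hg
    apply MulEquiv.ext
    intro v
    apply Subtype.ext
    rw [hφ, hcomm g hg v v.2, mul_inv_cancel_right]
    rfl)
  refine ⟨π.ker, inferInstance, π.ker.subtype, ρ, π.ker.subtype_injective, π.ker.range_subtype, ?_, ?_⟩
  · apply rel_of_rep hπ φ hρ
    intro y hy e
    apply Subtype.ext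
    have h1 := rel3 (MonoidHom.id G) π.ker hπ hcomm (fun q hq u hu => hcomm q hq u hu) hx hxt hfpf hy e.2
    exact h1
  · intro g e
    rw [hρ]
    exact hφ g e.toMul

theorem exp_step (hπ : Function.Surjective π) (a : Kˣ) (ha : a ≠ 1)
    (hcomm : ∀ a ∈ π.ker, ∀ b ∈ π.ker, a * b = b * a)
    {x : G} (hx : x * x * x = 1) (hxt : tr (π x) = 1) (hfpf : ∀ u ∈ π.ker, x * u * x⁻¹ = u → u = 1)
    (h4 : ∀ u ∈ π.ker, u * u * (u * u) = 1) : ∀ u ∈ π.ker, u * u = 1 := by
  obtain ⟨E, _, ι, ρ, hι, hr, hRel, hρ⟩ := exists_rep_ker hπ hcomm hx hxt hfpf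
  have h4S : (4 : AddMonoid.End (Additive E)) = 0 := by
    apply AddMonoidHom.ext
    intro v
    have : (4 : AddMonoid.End (Additive E)) = (1 + 1) + (1 + 1) := by norm_num
    rw [this]
    apply Additive.toMul.injective
    apply hι
    change ι (v.toMul * v.toMul * (v.toMul * v.toMul)) = ι 1
    rw [map_mul, map_mul, map_one]
    apply h4
    rw [← hr]
    exact ⟨_, rfl⟩
  have h2S := hRel.two_eq_zero h4S a ha
  intro u hu
  rw [← hr] at hu
  obtain ⟨e, rfl⟩ := hu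
  have h1 := DFunLike.congr_fun h2S (Additive.ofMul e)
  have : (2 : AddMonoid.End (Additive E)) = 1 + 1 := one_add_one_eq_two.symm
  rw [this] at h1
  rw [← map_mul, ← map_one ι]
  congr 1

theorem main_aux (a : Kˣ) (ha : a ≠ 1) (n : ℕ) : ∀ (G : Type u) [Group G] [Finite G], Nat.card G = n →
    ∀ (π : G →* Matrix.SpecialLinearGroup (Fin 2) K), Function.Surjective π → IsPGroup 2 π.ker →
    ∀ x : G, x * x * x = 1 → tr (π x) = 1 → (∀ u ∈ π.ker, x * u * x⁻¹ = u → u = 1) →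
      (∀ a ∈ π.ker, ∀ b ∈ π.ker, a * b = b * a) ∧ ∀ a ∈ π.ker, a * a = 1 := by
  induction n using Nat.strong_induction_on with
  | _ n ih =>
    intro G _ _ hn π hπ hQ x hx hxt hfpf
    by_cases hbot : π.ker = ⊥
    · rw [hbot]
      constructor
      · intro a ha b hb
        rw [mem_bot.mp ha, mem_bot.mp hb]
      · intro a ha
        rw [mem_bot.mp ha, one_mul]
    have hkn : ∀ g, ∀ u ∈ π.ker, g * u * g⁻¹ ∈ π.ker := fun g u hu =>
      (inferInstance : π.ker.Normal).conj_mem u hu g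
    let V : Subgroup G :=
      { carrier := {v | v ∈ π.ker ∧ (∀ q ∈ π.ker, q * v = v * q) ∧ v * v = 1}
        one_mem' := ⟨one_mem _, fun q _ => by rw [mul_one, one_mul], mul_one 1⟩
        mul_mem' := by
          rintro a b ⟨ha, ha', ha2⟩ ⟨hb, hb', hb2⟩
          refine ⟨mul_mem ha hb, ?_, ?_⟩
          · intro q hq
            rw [← mul_assoc, ha' q hq, mul_assoc, hb' q hq, mul_assoc]
          · calc a * b * (a * b) = a * (b * a) * b := by group
              _ = (a * a) * (b * b) := by rw [ha' b hb]; group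
              _ = 1 := by rw [ha2, hb2, one_mul]
        inv_mem' := by
          rintro a ⟨ha, ha', ha2⟩
          have : a⁻¹ = a := inv_eq_of_mul_eq_one_left ha2
          rw [this]
          exact ⟨ha, ha', ha2⟩ }
    have hVle : V ≤ π.ker := fun v hv => hv.1
    have hVQ : ∀ v ∈ V, ∀ q ∈ π.ker, q * v = v * q := fun v hv => hv.2.1
    have hV2 : ∀ v ∈ V, v * v = 1 := fun v hv => hv.2.2
    have hVn : V.Normal := by
      constructor
      rintro v ⟨hv, hv', hv2⟩ g
      refine ⟨hkn g v hv, ?_, ?_⟩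
      · intro q hq
        have h1 := hkn g⁻¹ q hq
        rw [inv_inv] at h1
        have h2 := hv' _ h1
        calc q * (g * v * g⁻¹) = g * ((g⁻¹ * q * g) * v) * g⁻¹ := by group
          _ = g * v * g⁻¹ * q := by rw [h2]; group
      · calc g * v * g⁻¹ * (g * v * g⁻¹) = g * (v * v) * g⁻¹ := by group
          _ = 1 := by rw [hv2]; group
    have hVne : V ≠ ⊥ := by
      have : Nontrivial π.ker := (nontrivial_iff_ne_bot _).mpr hbot
      have h1 : Nontrivial (center π.ker) := hQ.center_nontrivial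
      have h2 : IsPGroup 2 (center π.ker) := hQ.to_subgroup _
      obtain ⟨k, hk⟩ := IsPGroup.iff_card.mp h2
      have hk0 : k ≠ 0 := by
        rintro rfl
        rw [pow_zero] at hk
        exact (Finite.one_lt_card_iff_nontrivial.mpr h1).ne' hk
      obtain ⟨c, hc⟩ := exists_prime_orderOf_dvd_card' (G := center π.ker) 2 (by rw [hk]; exact dvd_pow_self 2 hk0)
      intro hV
      have h3 : ((c : π.ker) : G) ∈ V := by
        refine ⟨(c : π.ker).2, ?_, ?_⟩
        · intro q hq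
          exact congrArg Subtype.val (mem_center_iff.mp c.2 ⟨q, hq⟩)
        · have h4 : c ^ 2 = 1 := by
            have h5 := pow_orderOf_eq_one c
            rwa [hc] at h5
          rw [pow_two] at h4
          exact congrArg (fun z : center π.ker => ((z : π.ker) : G)) h4
      rw [hV, mem_bot] at h3
      have h4 : c = 1 := Subtype.ext (Subtype.ext h3)
      rw [h4, orderOf_one] at hc
      omega
    -- fixed points on `Q/V`
    have hfpf' : ∀ u ∈ π.ker, x * u * x⁻¹ * u⁻¹ ∈ V → u ∈ V := by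
      intro u hu hw
      have hVcomm : ∀ a ∈ V, ∀ b ∈ V, a * b = b * a := fun a ha b hb => hVQ b hb a (hVle ha)
      let f : V → V := fun v => v⁻¹ * ⟨x * v * x⁻¹, hVn.conj_mem v v.2 x⟩
      have hf : Function.Injective f := by
        intro v v' hvv
        have h1 : (v : G)⁻¹ * (x * v * x⁻¹) = (v' : G)⁻¹ * (x * v' * x⁻¹) := congrArg Subtype.val hvv
        have h2 : x * ((v : G) * (v' : G)⁻¹) * x⁻¹ = v * (v' : G)⁻¹ := by
          have e1 : x * ((v : G) * (v' : G)⁻¹) * x⁻¹ = (x * v * x⁻¹) * (x * v' * x⁻¹)⁻¹ := by group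
          have e2 : x * (v : G) * x⁻¹ = v * ((v' : G)⁻¹ * (x * v' * x⁻¹)) := by rw [← h1]; group
          rw [e1, e2]; group
        have h3 := hfpf _ (hVle (V.mul_mem v.2 (V.inv_mem v'.2))) h2
        exact Subtype.ext (mul_inv_eq_one.mp h3)
      obtain ⟨v, hv⟩ := Finite.surjective_of_injective hf ⟨_, V.inv_mem hw⟩
      have hv' : (v : G)⁻¹ * (x * v * x⁻¹) = (x * u * x⁻¹ * u⁻¹)⁻¹ := congrArg Subtype.val hv
      have h1 : x * (u * v) * x⁻¹ = u * v := by
        have e1 : x * (v : G) * x⁻¹ = v * (x * u * x⁻¹ * u⁻¹)⁻¹ := by rw [← hv']; group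
        have e2 : x * (u * v) * x⁻¹ = (x * u * x⁻¹ * u⁻¹) * u * (x * v * x⁻¹) := by group
        rw [e2, e1, hVcomm v v.2 _ (V.inv_mem hw)]
        have e3 := hVQ _ hw u hu
        rw [← e3]
        group
      have h2 := hfpf _ (mul_mem hu (hVle v.2)) h1
      rw [mul_eq_one_iff_eq_inv] at h2
      rw [h2]
      exact V.inv_mem v.2
    -- the quotient
    let π' : G ⧸ V →* Matrix.SpecialLinearGroup (Fin 2) K := QuotientGroup.lift V π hVle
    have hπ' : ∀ g, π' (QuotientGroup.mk' V g) = π g := fun g => rfl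
    have hker' : ∀ y, y ∈ π'.ker → ∃ u ∈ π.ker, QuotientGroup.mk' V u = y := by
      intro y hy
      obtain ⟨u, rfl⟩ := QuotientGroup.mk'_surjective V y
      exact ⟨u, hy, rfl⟩
    have hlt : Nat.card (G ⧸ V) < n := by
      have h1 := Subgroup.card_mul_index V
      have h2 : 1 < Nat.card V := (Subgroup.one_lt_card_iff_ne_bot V).mpr hVne
      have h3 : Nat.card (G ⧸ V) = V.index := rfl
      have h4 : 0 < V.index := Nat.pos_of_ne_zero Subgroup.index_ne_zero_of_finite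
      rw [h3, ← hn]
      nlinarith
    obtain ⟨hc1, hc2⟩ := ih _ hlt (G ⧸ V) rfl π'
      (by
        intro s
        obtain ⟨g, hg⟩ := hπ s
        exact ⟨QuotientGroup.mk' V g, hg⟩)
      (by
        rintro ⟨y, hy⟩
        obtain ⟨u, hu, rfl⟩ := hker' y hy
        obtain ⟨k, hk⟩ := hQ ⟨u, hu⟩
        refine ⟨k, ?_⟩
        apply Subtype.ext
        have h1 : u ^ (2 ^ k) = 1 := congrArg Subtype.val hk
        change (QuotientGroup.mk' V u) ^ (2 ^ k) = 1
        rw [← map_pow, h1, map_one])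
      (QuotientGroup.mk' V x) (by rw [← map_mul, ← map_mul, hx, map_one]) hxt
      (by
        intro y hy hxy
        obtain ⟨u, hu, rfl⟩ := hker' y hy
        rw [← map_mul, ← map_inv, ← map_mul] at hxy
        apply (QuotientGroup.eq_one_iff _).mpr
        apply hfpf' u hu
        rw [← QuotientGroup.eq_one_iff]
        change QuotientGroup.mk' V (x * u * x⁻¹ * u⁻¹) = 1
        rw [map_mul, hxy, ← map_mul, mul_inv_cancel, map_one])
    have hcomm := comm_step hπ a ha V hVQ hVle hV2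
      (by
        intro u hu u' hu'
        rw [← QuotientGroup.eq_one_iff]
        change QuotientGroup.mk' V (u * u' * u⁻¹ * u'⁻¹) = 1
        have h1 := hc1 (QuotientGroup.mk' V u) hu (QuotientGroup.mk' V u') hu'
        rw [map_mul, map_mul, map_mul, h1, map_inv, map_inv]
        group)
      hx hxt hfpf hfpf'
    refine ⟨hcomm, ?_⟩
    apply exp_step hπ a ha hcomm hx hxt hfpf
    intro u hu
    apply hV2
    rw [← QuotientGroup.eq_one_iff]
    change QuotientGroup.mk' V (u * u) = 1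
    rw [map_mul]
    exact hc2 _ hu

end Cfsg.Agent.Lib.HigSL2
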