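import Mathlib
import Cfsg.Agent.Lib.HigSL2c
import Cfsg.Prelude.Def_BaumannBlocks

/-!
S3050 (Higman): decomposition of a module for the matrix ring into natural modules.
-/

set_option autoImplicit false

namespace Cfsg.Agent.Lib.HigSL2

open Subgroup

universe u

variable {K : Type*} [Field K]

/-- a column as a matrix -/
def col (x : Fin 2 → K) : Matrix (Fin 2) (Fin 2) K := !![x 0, 0; x 1, 0]

theorem mul_col (M : Matrix (Fin 2) (Fin 2) K) (x : Fin 2 → K) : M * col x = col (M.mulVec x) := by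
  unfold col
  ext i j
  fin_cases i <;> fin_cases j <;> simp [Matrix.mul_apply, Matrix.mulVec, dotProduct, Fin.sum_univ_two]

theorem col_add (x y : Fin 2 → K) : col (x + y) = col x + col y := by
  unfold col
  ext i j
  fin_cases i <;> fin_cases j <;> simp

section

variable {A : Type*} [AddCommGroup A] [Module (Matrix (Fin 2) (Fin 2) K) A]

theorem exists_theta (W : Submodule (Matrix (Fin 2) (Fin 2) K) A) [hW : IsSimpleModule (Matrix (Fin 2) (Fin 2) K) W] :
    ∃ ψ : W ≃+ (Fin 2 → K), ∀ (M : Matrix (Fin 2) (Fin 2) K) (a : W), ψ (M • a) = M.mulVec (ψ a) := by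
  have hnt : Nontrivial W := IsSimpleModule.nontrivial (Matrix (Fin 2) (Fin 2) K) W
  obtain ⟨a0, ha0⟩ : ∃ a : W, col (K := K) ![1, 0] • a ≠ 0 := by
    by_contra hcon
    push Not at hcon
    obtain ⟨a, ha⟩ := exists_ne (0 : W)
    apply ha
    have h1 : (1 : Matrix (Fin 2) (Fin 2) K) = col ![1, 0] + !![0, 0; 1, 0] * (col ![1, 0] * !![0, 1; 0, 0]) := by
      unfold col
      ext i j
      fin_cases i <;> fin_cases j <;> simp [Matrix.mul_apply, Fin.sum_univ_two]
    rw [← one_smul (Matrix (Fin 2) (Fin 2) K) a, h1, add_smul, mul_smul, mul_smul, hcon, hcon, smul_zero, add_zero]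
  set v1 : W := col (K := K) ![1, 0] • a0 with hv1
  have hv1' : col (K := K) ![1, 0] • v1 = v1 := by
    rw [hv1, ← mul_smul]
    congr 1
    unfold col
    ext i j
    fin_cases i <;> fin_cases j <;> simp [Matrix.mul_apply, Fin.sum_univ_two]
  let θ : (Fin 2 → K) →+ W :=
    { toFun := fun x => col x • v1
      map_zero' := by
        have : col (0 : Fin 2 → K) = 0 := by
          unfold col; ext i j; fin_cases i <;> fin_cases j <;> simp
        rw [this, zero_smul]
      map_add' := fun x y => by rw [col_add, add_smul] }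
  have hθ : ∀ (M : Matrix (Fin 2) (Fin 2) K) x, θ (M.mulVec x) = M • θ x := by
    intro M x
    calc col (M.mulVec x) • v1 = (M * col x) • v1 := by rw [mul_col]
      _ = M • col x • v1 := mul_smul _ _ _
  have hinj : Function.Injective θ := by
    rw [injective_iff_map_eq_zero]
    intro x hx
    have key : ∀ M : Matrix (Fin 2) (Fin 2) K, M.mulVec x = ![1, 0] → False := by
      intro M hM
      have h1 := hθ M x
      rw [hx, smul_zero, hM] at h1
      have h2 : θ ![1, 0] = v1 := hv1'
      rw [h2] at h1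
      exact ha0 h1
    by_contra hne
    by_cases h0 : x 0 = 0
    · have h1 : x 1 ≠ 0 := by
        intro h1
        apply hne
        ext i
        fin_cases i
        · exact h0
        · exact h1
      apply key !![0, (x 1)⁻¹; 0, 0]
      ext i
      fin_cases i <;> simp [Matrix.mulVec, dotProduct, Fin.sum_univ_two, h1]
    · apply key !![(x 0)⁻¹, 0; 0, 0]
      ext i
      fin_cases i <;> simp [Matrix.mulVec, dotProduct, Fin.sum_univ_two, h0]
  have hsurj : Function.Surjective θ := by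
    let P : Submodule (Matrix (Fin 2) (Fin 2) K) W :=
      { carrier := Set.range θ
        add_mem' := by
          rintro _ _ ⟨x, rfl⟩ ⟨y, rfl⟩
          exact ⟨x + y, map_add θ x y⟩
        zero_mem' := ⟨0, map_zero θ⟩
        smul_mem' := by
          rintro M _ ⟨x, rfl⟩
          exact ⟨_, hθ M x⟩ }
    have hP : P = ⊤ := by
      rcases eq_bot_or_eq_top P with h | h
      · exfalso
        apply ha0
        have : v1 ∈ P := ⟨![1, 0], hv1'⟩
        rw [h, Submodule.mem_bot] at this
        exact this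
      · exact h
    intro w
    have : w ∈ P := by rw [hP]; trivial
    exact this
  let e : (Fin 2 → K) ≃+ W := AddEquiv.ofBijective θ ⟨hinj, hsurj⟩
  refine ⟨e.symm, fun M a => ?_⟩
  obtain ⟨x, rfl⟩ := e.surjective a
  rw [e.symm_apply_apply]
  have : M • e x = e (M.mulVec x) := (hθ M x).symm
  rw [this, e.symm_apply_apply]

end

theorem exists_decomp {A : Type*} [AddCommGroup A] [Finite A] (Φ : Matrix (Fin 2) (Fin 2) K →+* AddMonoid.End A) :
    ∃ (k : ℕ) (V : Fin k → AddSubgroup A), (∀ i, ∃ ψ : V i ≃+ (Fin 2 → K),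
      ∀ (M : Matrix (Fin 2) (Fin 2) K) (a : V i), ∃ h : Φ M a ∈ V i, ψ ⟨Φ M a, h⟩ = M.mulVec (ψ a)) ∧
      iSupIndep V ∧ ⨆ i, V i = ⊤ := by
  let _ : Module (Matrix (Fin 2) (Fin 2) K) A := Module.compHom A Φ
  have hsm : ∀ (M : Matrix (Fin 2) (Fin 2) K) (a : A), M • a = Φ M a := fun _ _ => rfl
  obtain ⟨s, hs1, hs2, hs3⟩ := IsSemisimpleModule.exists_sSupIndep_sSup_simples_eq_top (Matrix (Fin 2) (Fin 2) K) A
  have hfin : Finite s := by
    have : Finite (Submodule (Matrix (Fin 2) (Fin 2) K) A) :=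
      Finite.of_injective (fun W => (W : Set A)) SetLike.coe_injective
    infer_instance
  obtain ⟨k, ⟨e⟩⟩ := Finite.exists_equiv_fin s
  let W : Fin k → Submodule (Matrix (Fin 2) (Fin 2) K) A := fun i => (e.symm i).1
  have hW1 : iSupIndep W := by
    rw [sSupIndep_iff] at hs1
    exact hs1.comp e.symm.injective
  have hW2 : ⨆ i, W i = ⊤ := by
    rw [← hs2, sSup_eq_iSup']
    exact e.symm.iSup_comp (g := fun m : s => (m : Submodule (Matrix (Fin 2) (Fin 2) K) A))
  refine ⟨k, fun i => (W i).toAddSubgroup, ?_, ?_, ?_⟩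
  · intro i
    have : IsSimpleModule (Matrix (Fin 2) (Fin 2) K) (W i) := hs3 _ (e.symm i).2
    obtain ⟨ψ, hψ⟩ := exists_theta (W i)
    refine ⟨ψ, fun M a => ⟨(W i).smul_mem M a.2, ?_⟩⟩
    exact hψ M a
  · rw [iSupIndep_def] at hW1 ⊢
    intro i
    rw [AddSubgroup.disjoint_def]
    intro x hx hx'
    have h1 : (⨆ (j) (_ : j ≠ i), (W j).toAddSubgroup) ≤ (⨆ (j) (_ : j ≠ i), W j).toAddSubgroup := by
      apply iSup_le
      intro j
      apply iSup_le
      intro hj y hy
      exact (le_iSup₂ (f := fun (j : Fin k) (_ : j ≠ i) => W j) j hj) hy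
    exact Submodule.disjoint_def.mp (hW1 i) x hx (h1 hx')
  · rw [eq_top_iff]
    intro x _
    have hx : x ∈ ⨆ i, W i := by rw [hW2]; trivial
    induction hx using Submodule.iSup_induction' with
    | mem i x hx => exact (le_iSup (fun i => (W i).toAddSubgroup) i) hx
    | zero => exact zero_mem _
    | add x y _ _ hx hy => exact add_mem (hx trivial) (hy trivial)

/-- decomposition of the kernel -/
theorem final [CharP K 2] [Finite K] {G : Type u} [Group G] [Finite G]
    {π : G →* Matrix.SpecialLinearGroup (Fin 2) K} (hπ : Function.Surjective π)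
    (hcomm : ∀ a ∈ π.ker, ∀ b ∈ π.ker, a * b = b * a) (h2 : ∀ a ∈ π.ker, a * a = 1)
    {x : G} (hx : x * x * x = 1) (hxt : tr (π x) = 1) (hfpf : ∀ u ∈ π.ker, x * u * x⁻¹ = u → u = 1) :
    ∃ (k : ℕ) (V : Fin k → Subgroup G), (∀ i, V i ≤ π.ker ∧ (V i).Normal ∧
        Cfsg.ActsAsSL2OnSection K ⊤ ⊤ (V i) ⊥) ∧ iSupIndep V ∧ ⨆ i, V i = π.ker := by
  obtain ⟨E, _, ι, ρ, hι, hr, hRel, hρ⟩ := exists_rep_ker hπ hcomm hx hxt hfpf
  have hfin : Finite E := Finite.of_injective ι hι
  have hfin' : Finite (Additive E) := hfin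
  have h2S : (2 : AddMonoid.End (Additive E)) = 0 := by
    apply AddMonoidHom.ext
    intro v
    have : (2 : AddMonoid.End (Additive E)) = 1 + 1 := one_add_one_eq_two.symm
    rw [this]
    apply Additive.toMul.injective
    apply hι
    change ι (v.toMul * v.toMul) = ι 1
    rw [map_mul, map_one]
    apply h2
    rw [← hr]
    exact ⟨_, rfl⟩
  obtain ⟨k, V', h1, h3, h4⟩ := exists_decomp (hRel.Phi h2S)
  have hΦ : ∀ g : G, hRel.Phi h2S (π g).1 = ρ (π g) := fun g => hRel.Phi_coe h2S _
  let W : Fin k → Subgroup E := fun i => AddSubgroup.toSubgroup' (V' i)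
  have hWV : ∀ i (y : E), y ∈ W i ↔ Additive.ofMul y ∈ V' i := fun i y => Iff.rfl
  have hW1 : iSupIndep W := h3.map_orderIso AddSubgroup.toSubgroup'
  have hW2 : ⨆ i, W i = ⊤ := by
    have h5 := OrderIso.map_iSup (AddSubgroup.toSubgroup' (G := E)) V'
    rw [h4, OrderIso.map_top] at h5
    exact h5.symm
  refine ⟨k, fun i => (W i).map ι, ?_, ?_, ?_⟩
  · intro i
    obtain ⟨ψ, hψ⟩ := h1 i
    have hconj : ∀ (g : G) (y : E) (hy : y ∈ W i), ∃ z : E, ∃ hz : z ∈ W i, ι z = g * ι y * g⁻¹ ∧
        ψ ⟨Additive.ofMul z, hz⟩ = (π g).1.mulVec (ψ ⟨Additive.ofMul y, hy⟩) := by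
      intro g y hy
      obtain ⟨h5, h6⟩ := hψ (π g).1 ⟨Additive.ofMul y, hy⟩
      refine ⟨(ρ (π g) (Additive.ofMul y)).toMul, ?_, ?_, ?_⟩
      · rw [hWV]
        rw [hΦ] at h5
        exact h5
      · rw [hρ]; rfl
      · rw [← h6]
        congr 1
        apply Subtype.ext
        change ρ (π g) (Additive.ofMul y) = hRel.Phi h2S (π g).1 (Additive.ofMul y)
        rw [hΦ]
    have hle : (W i).map ι ≤ π.ker := by
      rw [← hr]
      exact map_le_range _ _
    have hn : ((W i).map ι).Normal := by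
      constructor
      rintro _ ⟨y, hy, rfl⟩ g
      obtain ⟨z, hz, hz1, -⟩ := hconj g y hy
      exact ⟨z, hz, hz1⟩
    let ψm : W i →* Multiplicative (Fin 2 → K) :=
      { toFun := fun y => Multiplicative.ofAdd (ψ ⟨Additive.ofMul (y : E), y.2⟩)
        map_one' := congrArg Multiplicative.ofAdd (map_zero ψ)
        map_mul' := fun a b => congrArg Multiplicative.ofAdd
          (map_add ψ ⟨Additive.ofMul (a : E), a.2⟩ ⟨Additive.ofMul (b : E), b.2⟩) }
    have hψm : ∀ y : W i, ψm y = Multiplicative.ofAdd (ψ ⟨Additive.ofMul (y : E), y.2⟩) := fun _ => rfl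
    have hψm_inj : Function.Injective ψm := by
      intro a b hab
      have h5 := ψ.injective (Multiplicative.ofAdd.injective hab)
      exact Subtype.ext (congrArg (fun v : V' i => ((v : Additive E)).toMul) h5)
    have hψm_surj : Function.Surjective ψm := by
      intro c
      obtain ⟨v, hv⟩ := ψ.surjective (Multiplicative.toAdd c)
      refine ⟨⟨(v : Additive E).toMul, v.2⟩, ?_⟩
      rw [hψm]
      change Multiplicative.ofAdd (ψ v) = c
      rw [hv]
      rfl
    let e := (W i).equivMapOfInjective ι hι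
    have he : ∀ y : W i, ((e y : (W i).map ι) : G) = ι y := fun y => coe_equivMapOfInjective_apply _ _ hι y
    refine ⟨hle, hn, le_normalizer_of_normal, bot_le, π.comp (⊤ : Subgroup G).subtype,
      ψm.comp e.symm.toMonoidHom, ?_, ?_, ?_, ?_⟩
    · rw [MonoidHom.range_comp, range_subtype, ← MonoidHom.range_eq_map]
      exact MonoidHom.range_eq_top.mpr hπ
    · exact hψm_surj.comp e.symm.surjective
    · intro u
      rw [mem_bot]
      change ψm (e.symm u) = 1 ↔ _
      rw [map_eq_one_iff ψm hψm_inj, map_eq_one_iff e.symm e.symm.injective]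
      exact (OneMemClass.coe_eq_one).symm
    · rintro g u
      obtain ⟨z, hz, hz1, hz2⟩ := hconj g (e.symm u : E) (e.symm u).2
      refine ⟨e ⟨z, hz⟩, ?_, ?_⟩
      · rw [he]
        change ι z = _
        rw [hz1, ← he (e.symm u), e.apply_symm_apply]
      · change Multiplicative.toAdd (ψm (e.symm (e ⟨z, hz⟩))) = (π g).1.mulVec (Multiplicative.toAdd (ψm (e.symm u)))
        rw [e.symm_apply_apply]
        exact hz2
  · rw [iSupIndep_def] at hW1 ⊢
    intro i
    rw [disjoint_def]
    rintro _ ⟨y, hy, rfl⟩ hx'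
    have h5 : (⨆ (j) (_ : j ≠ i), (W j).map ι) = (⨆ (j) (_ : j ≠ i), W j).map ι := by
      simp only [Subgroup.map_iSup]
    rw [h5] at hx'
    obtain ⟨y', hy', hyy⟩ := hx'
    rw [hι hyy] at hy'
    rw [disjoint_def.mp (hW1 i) hy hy', map_one]
  · rw [← Subgroup.map_iSup, hW2, ← MonoidHom.range_eq_map, hr]

end Cfsg.Agent.Lib.HigSL2
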