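import Cfsg.Agent.Lib.CITSuz
import Cfsg.Agent.S3050

set_option autoImplicit false
set_option linter.all false

/-!
# CIT-groups (helper6): the normal 2-subgroup when the quotient is `PSL(2, 2^n)`
-/

namespace Cfsg.Agent.Lib.CIT

open Subgroup SylowRel StrongEmbPt

variable {G : Type*} [Group G] [Finite G]

theorem card_eq_two_pow {F : Type*} [Field F] [Fintype F] [hch : CharP F 2] : ∃ n : ℕ, Fintype.card F = 2 ^ n := by
  obtain ⟨p, hchar⟩ := CharP.exists F
  obtain ⟨f, hp, hpf⟩ := FiniteField.card F p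
  have hp2 : p = 2 := CharP.eq F hchar hch
  subst hp2
  exact ⟨_, hpf⟩

noncomputable def pslSl {F : Type*} [Field F] [CharP F 2] :
    Matrix.ProjectiveSpecialLinearGroup (Fin 2) F ≃* Matrix.SpecialLinearGroup (Fin 2) F :=
  (QuotientGroup.quotientMulEquivOfEq (SL2EvenMisc.center_eq_bot_of_char_two (F := F))).trans QuotientGroup.quotientBot

/-- in a CIT-group an element of odd order commutes with no nontrivial 2-element -/
theorem IsCIT.fpf (hG : IsCIT G) {Q : Subgroup G} (hQ : IsPGroup 2 Q) {x : G} (hx : Odd (orderOf x)) (hx1 : x ≠ 1)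
    {q : G} (hq : q ∈ Q) (h : x * q * x⁻¹ = q) : q = 1 := by
  by_contra hq1
  haveI : Fact (Nat.Prime 2) := ⟨Nat.prime_two⟩
  obtain ⟨k, hk⟩ := (IsPGroup.iff_orderOf.1 hQ) ⟨q, hq⟩
  rw [Subgroup.orderOf_mk] at hk
  have hk0 : k ≠ 0 := by
    rintro rfl
    rw [pow_zero] at hk
    exact hq1 (orderOf_eq_one_iff.1 hk)
  have h2 : orderOf (q ^ (orderOf q / 2)) = 2 :=
    orderOf_pow_orderOf_div (orderOf_pos q).ne' (by rw [hk]; exact dvd_pow_self 2 hk0)
  apply hx1
  apply hG.eq_one' h2 hx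
  have h3 : Commute x q := by
    rw [mul_inv_eq_iff_eq_mul] at h
    exact h
  exact h3.pow_right _

theorem IsCIT.module (hG : IsCIT G) (Q : Subgroup G) [hn : Q.Normal] (hQ : IsPGroup 2 Q)
    {F : Type*} [Field F] [Fintype F] [hch : CharP F 2] (h4 : 4 ≤ Fintype.card F)
    (e : G ⧸ Q ≃* Matrix.ProjectiveSpecialLinearGroup (Fin 2) F) :
    Cfsg.IsElementaryAbelian 2 Q ∧
      ∃ (k : ℕ) (V : Fin k → Subgroup G), (∀ i, V i ≤ Q ∧ (V i).Normal ∧
        Cfsg.ActsAsSL2OnSection F ⊤ ⊤ (V i) ⊥) ∧ iSupIndep V ∧ ⨆ i, V i = Q := by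
  obtain ⟨n, hF⟩ := card_eq_two_pow (F := F)
  have hn2 : 2 ≤ n := by
    by_contra hcon
    have h : n = 0 ∨ n = 1 := by omega
    rcases h with rfl | rfl <;> · norm_num at hF; omega
  have h3 : 3 ∣ Nat.card G := by
    have h1 : 3 ∣ Nat.card (G ⧸ Q) := by
      rw [Nat.card_congr e.toEquiv]
      exact three_dvd_psl hF
    exact h1.trans (Subgroup.card_quotient_dvd_card Q)
  haveI : Fact (Nat.Prime 3) := ⟨Nat.prime_three⟩
  obtain ⟨x, hx⟩ := exists_prime_orderOf_dvd_card' 3 h3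
  exact Cfsg.Agent.S3050.result Q hQ n hn2 F hF (e.trans pslSl) x hx
    (fun q hq h => hG.fpf hQ (by rw [hx]; decide) (by rintro rfl; rw [orderOf_one] at hx; omega) hq h)

end Cfsg.Agent.Lib.CIT
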