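import Cfsg.Agent.Lib.CITSmall
import Cfsg.Agent.Lib.CITExist

/-!
# CIT-groups (helper6): groups with natural edges have no fixed-point-free modules
-/

set_option autoImplicit false
set_option linter.all false

namespace Cfsg.Agent.Lib.CIT

open Subgroup SylowRel StrongEmbPt

universe u

section fpf

variable {G V : Type*} [Group G] [CommGroup V] {φ : G →* MulAut V}

theorem fpf_three (h : FPF φ) {y : G} (hy1 : y ≠ 1) (hy3 : y * y * y = 1) (v : V) :
    v * φ y v * φ y (φ y v) = 1 := by
  apply h y hy1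
  · have h1 : orderOf y ∣ 3 := orderOf_dvd_of_pow_eq_one (by rw [pow_succ, pow_two]; exact hy3)
    exact Odd.of_dvd_nat (by decide) h1
  · have h1 : φ y (φ y (φ y v)) = v := by
      have : φ y (φ y (φ y v)) = (φ y * φ y * φ y) v := rfl
      rw [this, ← map_mul, ← map_mul, hy3, map_one]; rfl
    rw [map_mul, map_mul, h1]
    rw [mul_comm, mul_assoc]

set_option maxHeartbeats 2000000 in
/-- the four group lemma -/
theorem fpf_four (h : FPF φ) (hV2 : ∀ v : V, v * v = 1) {y a b : G} (hy1 : y ≠ 1)
    (hy3 : y * y * y = 1) (ha : a * a = 1) (hb : b * b = 1) (hab : a * b = b * a)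
    (hyb : y * a * y⁻¹ = b) (hyc : y * b * y⁻¹ = a * b) (v : V) :
    v * φ a v * (φ b v * φ a (φ b v)) = 1 := by
  have hyca : y * (a * b) * y⁻¹ = a := by
    calc y * (a * b) * y⁻¹ = (y * a * y⁻¹) * (y * b * y⁻¹) := by group
      _ = b * (a * b) := by rw [hyb, hyc]
      _ = b * (b * a) := by rw [hab]
      _ = (b * b) * a := by group
      _ = a := by rw [hb, one_mul]
  have hne : ∀ x : G, x * x = 1 → x * y ≠ 1 := by
    intro x hx hxy
    have h1 : y = x⁻¹ := (inv_eq_of_mul_eq_one_right hxy).symm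
    have h2 : y * y = 1 := by rw [h1, ← mul_inv_rev, hx, inv_one]
    rw [h2, one_mul] at hy3
    exact hy1 hy3
  have e1 : y * a = b * y := by rw [← hyb]; group
  have e2 : y * b = a * b * y := by rw [← hyc]; group
  have e3 : y * (a * b) = a * y := by
    calc y * (a * b) = (y * (a * b) * y⁻¹) * y := by group
      _ = a * y := by rw [hyca]
  have t1 : (a * y) * (a * y) * (a * y) = 1 := by
    calc (a * y) * (a * y) * (a * y) = a * (y * a) * y * a * y := by group
      _ = a * (b * y) * y * a * y := by rw [e1]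
      _ = a * b * y * (y * a) * y := by group
      _ = a * b * y * (b * y) * y := by rw [e1]
      _ = a * b * (y * b) * y * y := by group
      _ = a * b * (a * b * y) * y * y := by rw [e2]
      _ = a * (b * a) * b * (y * y * y) := by group
      _ = a * (a * b) * b * (y * y * y) := by rw [hab]
      _ = (a * a) * (b * b) * (y * y * y) := by group
      _ = 1 := by rw [ha, hb, hy3]; group
  have hcc : (a * b) * (a * b) = 1 := by
    calc (a * b) * (a * b) = a * (b * a) * b := by group
      _ = a * (a * b) * b := by rw [hab]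
      _ = (a * a) * (b * b) := by group
      _ = 1 := by rw [ha, hb, one_mul]
  have t2 : (b * y) * (b * y) * (b * y) = 1 := by
    calc (b * y) * (b * y) * (b * y) = b * (y * b) * y * b * y := by group
      _ = b * (a * b * y) * y * b * y := by rw [e2]
      _ = b * a * b * y * (y * b) * y := by group
      _ = b * a * b * y * (a * b * y) * y := by rw [e2]
      _ = b * a * b * (y * (a * b)) * y * y := by group
      _ = b * a * b * (a * y) * y * y := by rw [e3]
      _ = (b * a) * (b * a) * (y * y * y) := by group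
      _ = (a * b) * (a * b) * (y * y * y) := by rw [hab]
      _ = 1 := by rw [hcc, hy3]; group
  have t3 : (a * b * y) * (a * b * y) * (a * b * y) = 1 := by
    calc (a * b * y) * (a * b * y) * (a * b * y)
        = a * b * (y * (a * b)) * y * (a * b) * y := by group
      _ = a * b * (a * y) * y * (a * b) * y := by rw [e3]
      _ = a * b * a * y * (y * (a * b)) * y := by group
      _ = a * b * a * y * (a * y) * y := by rw [e3]
      _ = a * b * a * (y * a) * y * y := by group
      _ = a * b * a * (b * y) * y * y := by rw [e1]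
      _ = (a * b) * (a * b) * (y * y * y) := by group
      _ = 1 := by rw [hcc, hy3]; group
  have r0 := fpf_three h hy1 hy3 v
  have r1 := fpf_three h (hne a ha) t1 v
  have r2 := fpf_three h (hne b hb) t2 v
  have r3 := fpf_three h (hne _ hcc) t3 v
  have hm : ∀ x z : G, ∀ w : V, φ (x * z) w = φ x (φ z w) := fun x z w => by rw [map_mul]; rfl
  have f1 : ∀ w, φ y (φ a w) = φ b (φ y w) := fun w => by rw [← hm, ← hm, e1]
  have f2 : ∀ w, φ y (φ b w) = φ a (φ b (φ y w)) := fun w => by rw [← hm, ← hm, ← hm, e2]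
  have fa : ∀ w, φ a (φ a w) = w := fun w => by rw [← hm, ha, map_one]; rfl
  have fb : ∀ w, φ b (φ b w) = w := fun w => by rw [← hm, hb, map_one]; rfl
  have fab : ∀ w, φ b (φ a w) = φ a (φ b w) := fun w => by rw [← hm, ← hm, hab]
  simp only [hm, f1, f2, fa, fb, fab] at r1 r2 r3
  have hcan : ∀ v w : V, v * (v * w) = w := fun v w => by rw [← mul_assoc, hV2, one_mul]
  -- `P(w) = w · a w · b w · a b w`
  have hP : ∀ w : V, (φ y w * φ a (φ y w) * φ b (φ y w) * φ a (φ b (φ y w))) *
      (φ y (φ y w) * φ a (φ y (φ y w)) * φ b (φ y (φ y w)) * φ a (φ b (φ y (φ y w)))) =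
      w * φ a w * (φ b w * φ a (φ b w)) := by
    intro w
    have r := fpf_three h hy1 hy3 w
    have r' : w = φ y w * φ y (φ y w) := by
      have h1 : w⁻¹ = φ y w * φ y (φ y w) := inv_eq_of_mul_eq_one_right (by rw [← mul_assoc]; exact r)
      rwa [inv_eq_of_mul_eq_one_left (hV2 w)] at h1
    conv_rhs => rw [r']
    simp only [map_mul]
    simp only [mul_assoc, mul_comm, mul_left_comm]
  rw [← hP]
  have key : (v * φ y v * φ y (φ y v)) * (v * φ a (φ y v) * φ a (φ b (φ y (φ y v)))) *
      (v * φ b (φ y v) * φ a (φ y (φ y v))) * (v * φ a (φ b (φ y v)) * φ b (φ y (φ y v))) = 1 := by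
    rw [r0, r1, r2, r3]; simp
  rw [← key]
  simp only [mul_assoc, mul_comm, mul_left_comm, hcan, hV2]

end fpf

section main

variable {G : Type*} [Group G] [Finite G] {A B T : Subgroup G} {n : ℕ}

theorem odd_ne {y : G} (hy : Odd (orderOf y)) (hy1 : y ≠ 1) : y * y ≠ 1 := by
  intro h
  apply hy1
  have h4 : orderOf y ∣ 2 := orderOf_dvd_of_pow_eq_one (by rw [pow_two]; exact h)
  rcases (Nat.dvd_prime Nat.prime_two).1 h4 with h5 | h5
  · exact orderOf_eq_one_iff.1 h5
  · rw [h5] at hy; exact absurd hy (by decide)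

theorem odd_sq {y : G} (hy : Odd (orderOf y)) : Odd (orderOf (y * y)) := by
  rw [← pow_two]; exact hy.of_dvd_nat (orderOf_pow_dvd 2)

/-- a relation in `A` from an element of order three -/
theorem NatEdge.orbit (hG : IsCIT G) (N : NatEdge A B T n) {y a : G} (hyA : y ∈ NN A)
    (hy1 : y ≠ 1) (hyo : Odd (orderOf y)) (hy3 : y * y * y = 1) (ha : a ∈ A) :
    y * (y * a * y⁻¹) * y⁻¹ = a * (y * a * y⁻¹) := by
  have hb : y * a * y⁻¹ ∈ A := (mem_normalizer_iff.1 hyA a).1 ha
  have hc : y * (y * a * y⁻¹) * y⁻¹ ∈ A := (mem_normalizer_iff.1 hyA _).1 hb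
  set b := y * a * y⁻¹ with hbdef
  set c := y * b * y⁻¹ with hcdef
  have hya : y * c * y⁻¹ = a := by
    calc y * c * y⁻¹ = (y * y * y) * a * (y * y * y)⁻¹ := by rw [hcdef, hbdef]; group
      _ = a := by rw [hy3]; group
  have h1 : y * (a * b * c) = (a * b * c) * y := by
    rw [← mul_inv_eq_iff_eq_mul]
    calc y * (a * b * c) * y⁻¹ = (y * a * y⁻¹) * (y * b * y⁻¹) * (y * c * y⁻¹) := by group
      _ = b * c * a := by rw [hya]
      _ = a * (b * c) := N.commA _ (mul_mem hb hc) _ ha
      _ = a * b * c := by group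
  have h2 : a * b * c = 1 := by
    by_contra hne
    exact hy1 (hG.eq_one N.edge.locA.isPGroup (mul_mem (mul_mem ha hb) hc) hne hyo h1)
  calc c = (a * b)⁻¹ * (a * b * c) := by group
    _ = a * b := by rw [h2, mul_one, inv_eq_of_mul_eq_one_left (N.sqA _ (mul_mem ha hb))]

/-- elements of `H \ T` have order three -/
theorem NatEdge.three_of_not_mem (hG : IsCIT G) (N : NatEdge A B T 3) {x : G} (hxA : x ∈ NN A)
    (hxT : x ∈ NN T) (hx : x ∉ T) : Odd (orderOf x) ∧ x * x * x = 1 := by
  have hTn : (T.subgroupOf (NN A ⊓ NN T)).Normal :=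
    SubgroupTools.normal_subgroupOf_iff_le_normalizer' inf_le_right
  have hcard : Nat.card ((NN A ⊓ NN T : Subgroup G) ⧸ T.subgroupOf (NN A ⊓ NN T)) = 3 := by
    have := N.ffA.ldata.rel
    rw [← this]; rfl
  let X : (NN A ⊓ NN T : Subgroup G) := ⟨x, mem_inf.2 ⟨hxA, hxT⟩⟩
  let f := QuotientGroup.mk' (T.subgroupOf (NN A ⊓ NN T))
  have hf : ∀ z : (NN A ⊓ NN T : Subgroup G), f z = 1 ↔ (z : G) ∈ T := fun z =>
    QuotientGroup.eq_one_iff (N := T.subgroupOf (NN A ⊓ NN T)) z
  have hfo : orderOf (f X) ∣ 3 := by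
    rw [← hcard]; exact orderOf_dvd_natCard _
  obtain ⟨e, he, hfe⟩ := exists_odd_lift f X (Odd.of_dvd_nat (by decide) hfo)
  have hXe : X ^ e ≠ 1 := by
    intro h1
    rw [h1, map_one] at hfe
    exact hx ((hf X).1 hfe.symm)
  have hXo : Odd (orderOf X) := by
    by_contra hne
    rw [Nat.not_odd_iff_even, even_iff_two_dvd] at hne
    obtain ⟨m, hm⟩ := hne
    have hm0 : m ≠ 0 := by
      rintro rfl
      have := orderOf_pos X
      omega
    have h1 : orderOf (X ^ m) = 2 := by
      rw [orderOf_pow_of_dvd hm0 (Dvd.intro_left 2 hm.symm), hm]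
      exact Nat.mul_div_cancel _ (Nat.pos_of_ne_zero hm0)
    apply hXe
    have h2 : ((X ^ e : (NN A ⊓ NN T : Subgroup G)) : G) = 1 := by
      apply hG.eq_one' (u := ((X ^ m : (NN A ⊓ NN T : Subgroup G)) : G))
      · rw [orderOf_coe]; exact h1
      · rw [orderOf_coe]; exact he
      · exact congrArg Subtype.val (Commute.pow_pow (Commute.refl X) e m)
    exact Subtype.ext h2
  have hxo : Odd (orderOf x) := by
    have : orderOf ((X : (NN A ⊓ NN T : Subgroup G)) : G) = orderOf X := orderOf_coe X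
    rw [← this] at hXo; exact hXo
  refine ⟨hxo, ?_⟩
  have h3 : x * x * x ∈ T := by
    have h4 : f (X * X * X) = 1 := by
      have : X * X * X = X ^ 3 := by rw [pow_succ, pow_two]
      rw [this, map_pow]
      exact orderOf_dvd_iff_pow_eq_one.1 hfo
    exact (hf _).1 h4
  apply odd_of_isPGroup N.edge.sylA.isPGroup h3
  have : x * x * x = x ^ 3 := by rw [pow_succ, pow_two]
  rw [this]; exact hxo.of_dvd_nat (orderOf_pow_dvd 3)

end main

section nofpf

variable {G V : Type*} [Group G] [Finite G] [CommGroup V] {φ : G →* MulAut V}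
  {A B T : Subgroup G} {n : ℕ}

/-- `(1+a)(1+yay⁻¹) = 0` -/
theorem NatEdge.four (hG : IsCIT G) (N : NatEdge A B T n) (h : FPF φ) (hV2 : ∀ v : V, v * v = 1)
    {y a : G} (hyA : y ∈ NN A)
    (hy1 : y ≠ 1) (hyo : Odd (orderOf y)) (hy3 : y * y * y = 1) (ha : a ∈ A) (v : V) :
    v * φ a v * (φ (y * a * y⁻¹) v * φ a (φ (y * a * y⁻¹) v)) = 1 := by
  have hb : y * a * y⁻¹ ∈ A := (mem_normalizer_iff.1 hyA a).1 ha
  exact fpf_four h hV2 hy1 hy3 (N.sqA a ha) (N.sqA _ hb) (N.commA a ha _ hb) rfl
    (N.orbit hG hyA hy1 hyo hy3 ha) v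

/-- quadratic action -/
theorem NatEdge.quad (hG : IsCIT G) (hP : P2 G) (N : NatEdge A B T n) (h : FPF φ)
    (hV2 : ∀ v : V, v * v = 1)
    {c a : G} (hc : c ∈ zeta T) (ha : a ∈ A) (haW : a ∉ zeta T) (v : V) :
    v * φ a v * (φ c v * φ a (φ c v)) = 1 := by
  classical
  by_cases hc1 : c = 1
  · rw [hc1, map_one]
    change v * φ a v * (v * φ a v) = 1
    rw [hV2]
  have hcA := N.W_le hc
  have hm : ∀ x z : G, ∀ w : V, φ (x * z) w = φ x (φ z w) := fun x z w => by rw [map_mul]; rfl
  have hcan : ∀ v w : V, v * (v * w) = w := fun v w => by rw [← mul_assoc, hV2, one_mul]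
  rcases N.n_eq hG hP with hn | hn
  · -- |A| = 4
    have hcardA : Nat.card A = 4 := by rw [N.cardA, hn]; norm_num
    have hcardW : Nat.card (zeta T) = 2 := by rw [N.ffA.cardz, hn]
    -- an element of odd order
    have hTA : ¬ T ≤ A := fun h1 => N.edge.locA.ne_syl N.edge.sylA (le_antisymm N.A_le h1)
    obtain ⟨t, ht, htA⟩ := SetLike.not_le_iff_exists.1 hTA
    obtain ⟨y, hyA, hy1, hyo, -⟩ := hG.exists_lift (L := NN A) (Q := A) le_normalizer
      N.edge.locA.isPGroup N.edge.locA.ne le_rfl
      (fun N' h1 h2 h3 => by rw [← N.edge.locA.o2]; exact le_O2 h1 h2 h3) (N.T_le ht) (N.ffA.sq t ht) htA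
    have hfix : ∀ z : G, z ≠ 1 → Odd (orderOf z) → ∀ x ∈ A, x ≠ 1 → z * x * z⁻¹ ≠ x := by
      intro z hz hzo x hx hx1 h1
      exact hz (hG.eq_one N.edge.locA.isPGroup hx hx1 hzo (mul_inv_eq_iff_eq_mul.1 h1))
    have hne1 : ∀ z x : G, x ≠ 1 → z * x * z⁻¹ ≠ 1 := by
      intro z x hx h1
      apply hx
      calc x = z⁻¹ * (z * x * z⁻¹) * z := by group
        _ = 1 := by rw [h1]; group
    have hmemA : ∀ x ∈ A, y * x * y⁻¹ ∈ A := fun x hx => (mem_normalizer_iff.1 hyA x).1 hx
    -- all elements of A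
    have hall : ∀ x ∈ A, x = 1 ∨ x = c ∨ x = y * c * y⁻¹ ∨ x = y * (y * c * y⁻¹) * y⁻¹ := by
      intro x hx
      by_contra hcon
      push Not at hcon
      obtain ⟨n1, n2, n3, n4⟩ := hcon
      have hyc := hmemA c hcA
      have hyyc := hmemA _ hyc
      have hsub : ({1, c, y * c * y⁻¹, y * (y * c * y⁻¹) * y⁻¹, x} : Finset G).card ≤ 4 := by
        rw [← hcardA]
        have h1 : (({1, c, y * c * y⁻¹, y * (y * c * y⁻¹) * y⁻¹, x} : Finset G) : Set G) ⊆ (A : Set G) := by
          intro z hz
          simp only [Finset.coe_insert, Finset.coe_singleton, Set.mem_insert_iff,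
            Set.mem_singleton_iff] at hz
          rcases hz with rfl | rfl | rfl | rfl | rfl
          · exact A.one_mem
          · exact hcA
          · exact hyc
          · exact hyyc
          · exact hx
        have h2 := Set.ncard_le_ncard h1 (Set.toFinite _)
        rw [Set.ncard_coe_finset] at h2
        exact h2
      have d1 : (1 : G) ≠ c := fun h => hc1 h.symm
      have d2 : (1 : G) ≠ y * c * y⁻¹ := fun h => hne1 y c hc1 h.symm
      have d3 : (1 : G) ≠ y * (y * c * y⁻¹) * y⁻¹ := fun h => hne1 y _ (hne1 y c hc1) h.symm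
      have d4 : c ≠ y * c * y⁻¹ := fun h => hfix y hy1 hyo c hcA hc1 h.symm
      have d5 : c ≠ y * (y * c * y⁻¹) * y⁻¹ := by
        intro h
        apply hfix (y * y) (odd_ne hyo hy1) (odd_sq hyo) c hcA hc1
        calc (y * y) * c * (y * y)⁻¹ = y * (y * c * y⁻¹) * y⁻¹ := by group
          _ = c := h.symm
      have d6 : y * c * y⁻¹ ≠ y * (y * c * y⁻¹) * y⁻¹ := fun h =>
        hfix y hy1 hyo _ hyc (hne1 y c hc1) h.symm
      have : ({1, c, y * c * y⁻¹, y * (y * c * y⁻¹) * y⁻¹, x} : Finset G).card = 5 := by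
        rw [Finset.card_insert_of_notMem, Finset.card_insert_of_notMem,
          Finset.card_insert_of_notMem, Finset.card_insert_of_notMem, Finset.card_singleton]
        · simp only [Finset.mem_singleton]; exact fun h => n4 h.symm
        · simp only [Finset.mem_insert, Finset.mem_singleton]
          rintro (h | h)
          · exact d6 h
          · exact n3 h.symm
        · simp only [Finset.mem_insert, Finset.mem_singleton]
          rintro (h | h | h)
          · exact d4 h
          · exact d5 h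
          · exact n2 h.symm
        · simp only [Finset.mem_insert, Finset.mem_singleton]
          rintro (h | h | h | h)
          · exact d1 h
          · exact d2 h
          · exact d3 h
          · exact n1 h.symm
      omega
    -- y has order 3
    have hy3 : y * y * y = 1 := by
      by_contra hne
      have hy3o : Odd (orderOf (y * y * y)) := by
        have : y * y * y = y ^ 3 := by rw [pow_succ, pow_two]
        rw [this]; exact hyo.of_dvd_nat (orderOf_pow_dvd 3)
      have hx : y * (y * (y * c * y⁻¹) * y⁻¹) * y⁻¹ ∈ A := hmemA _ (hmemA _ (hmemA c hcA))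
      rcases hall _ hx with h1 | h1 | h1 | h1
      · exact hne1 y _ (hne1 y _ (hne1 y c hc1)) h1
      · apply hfix _ hne hy3o c hcA hc1
        calc (y * y * y) * c * (y * y * y)⁻¹ = y * (y * (y * c * y⁻¹) * y⁻¹) * y⁻¹ := by group
          _ = c := h1
      · apply hfix (y * y) (odd_ne hyo hy1) (odd_sq hyo) _ (hmemA c hcA) (hne1 y c hc1)
        calc (y * y) * (y * c * y⁻¹) * (y * y)⁻¹ = y * (y * (y * c * y⁻¹) * y⁻¹) * y⁻¹ := by group
          _ = _ := h1
      · exact hfix y hy1 hyo _ (hmemA _ (hmemA c hcA)) (hne1 y _ (hne1 y c hc1)) h1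
    have horb := N.orbit hG hyA hy1 hyo hy3 hcA
    have hfour := N.four hG h hV2 hyA hy1 hyo hy3 hcA v
    rcases hall a ha with h1 | h1 | h1 | h1
    · exact absurd (by rw [h1]; exact one_mem _) haW
    · exact absurd (by rw [h1]; exact hc) haW
    · rw [← h1] at hfour
      have hac := N.commA a ha c hcA
      have e1 : φ a (φ c v) = φ c (φ a v) := by rw [← hm, ← hm, hac]
      rw [e1, ← hfour]
      simp only [mul_assoc, mul_comm, mul_left_comm]
    · rw [horb] at h1
      set b := y * c * y⁻¹ with hb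
      have hbA : b ∈ A := hmemA c hcA
      have hcc := N.sqA c hcA
      have e0 : φ a v = φ c (φ b v) := by rw [h1, hm]
      have e1 : φ a (φ c v) = φ b v := by
        rw [h1, ← hm]
        have : c * b * c = b := by
          calc c * b * c = c * (b * c) := by group
            _ = c * (c * b) := by rw [N.commA b hbA c hcA]
            _ = (c * c) * b := by group
            _ = b := by rw [hcc, one_mul]
        rw [this]
      rw [e0, e1, ← hfour]
      simp only [mul_assoc, mul_comm, mul_left_comm]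
  · -- n = 3
    subst hn
    have hex : ∃ k : G, k ∈ NN A ∧ k ∈ NN T ∧ k ∉ T := by
      by_contra hcon
      push Not at hcon
      have h1 := N.ffA.ldata.rel
      rw [relIndex_eq_one.2 (fun x hx => hcon x (mem_inf.1 hx).1 (mem_inf.1 hx).2)] at h1
      omega
    obtain ⟨k, hkA, hkT, hknT⟩ := hex
    obtain ⟨hko, hk3⟩ := N.three_of_not_mem hG hkA hkT hknT
    have hb1 : k * a * k⁻¹ ∈ A := (mem_normalizer_iff.1 hkA a).1 ha
    have hb1W : k * a * k⁻¹ ∉ zeta T := by
      intro h1
      apply haW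
      have := zeta_conj_NT h1 (inv_mem hkT)
      have h2 : k⁻¹ * (k * a * k⁻¹) * k⁻¹⁻¹ = a := by group
      rwa [h2] at this
    have hb1B : k * a * k⁻¹ ∉ B := fun h1 => hb1W (by rw [← N.inf]; exact ⟨hb1, h1⟩)
    set b := k * a * k⁻¹ with hb
    obtain ⟨z, hz, hzc⟩ := N.ffB.surj b (N.A_le hb1) hb1B c hc
    have hzB := zeta_le B hz
    have hzT := N.B_le hzB
    have hzz := N.sqB z hzB
    have hzi : z⁻¹ = z := inv_eq_of_mul_eq_one_left hzz
    have hzb : z * b * z⁻¹ = c * b := by
      rw [hzi, ← hzc]; group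
    have hxA : z * k ∈ NN A := mul_mem (N.T_le hzT) hkA
    have hxT : z * k ∈ NN T := mul_mem (le_normalizer hzT) hkT
    have hxnT : z * k ∉ T := by
      intro h1
      apply hknT
      have : k = z⁻¹ * (z * k) := by group
      rw [this]; exact mul_mem (inv_mem hzT) h1
    obtain ⟨hxo, hx3⟩ := N.three_of_not_mem hG hxA hxT hxnT
    have hxa : (z * k) * a * (z * k)⁻¹ = c * b := by
      rw [← hzb, hb]; group
    have hne : ∀ x : G, x ∉ T → x ≠ 1 := by
      rintro x hx rfl; exact hx (one_mem _)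
    have hbb := N.sqA b hb1
    have hbbv : φ b (φ b v) = v := by rw [← hm, hbb, map_one]; rfl
    have f1 := N.four hG h hV2 hkA (hne k hknT) hko hk3 ha (φ b v)
    have f2 := N.four hG h hV2 hxA (hne _ hxnT) hxo hx3 ha (φ b v)
    rw [hxa, hm c b, hbbv] at f2
    rw [← hb, hbbv] at f1
    have f3 : (φ b v * φ a (φ b v) * (v * φ a v)) * (φ b v * φ a (φ b v) * (φ c v * φ a (φ c v))) = 1 := by
      rw [f1, f2, mul_one]
    rw [← f3]
    simp only [mul_assoc, mul_comm, mul_left_comm, hcan, hV2, one_mul, mul_one]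

/-- groups with a natural edge admit no fixed-point-free module -/
theorem NatEdge.noFPF (hG : IsCIT G) (hP : P2 G) (hO : Cfsg.pCore 2 G = ⊥) (N : NatEdge A B T n)
    [Finite V] (h : FPF φ) (hV2 : ∀ v : V, v * v = 1) (hV1 : ∃ v : V, v ≠ 1) : False := by
  classical
  haveI : Fact (Nat.Prime 2) := ⟨Nat.prime_two⟩
  have hm : ∀ x z : G, ∀ w : V, φ (x * z) w = φ x (φ z w) := fun x z w => by rw [map_mul]; rfl
  obtain ⟨c, hc, hc1⟩ := exists_mem_ne_one (zeta_ne_bot N.edge.sylA.isPGroup (by
      rintro h2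
      have := N.A_le
      rw [h2, le_bot_iff] at this
      exact N.edge.locA.ne this))
  have hcA := N.W_le hc
  have hcB := N.W_le' hc
  have hcc := N.sqA c hcA
  have hci : c⁻¹ = c := inv_eq_of_mul_eq_one_left hcc
  -- c inverts an element of odd order
  obtain ⟨y, -, hy1, hyo, q, hq, hqy⟩ := CIT.exists_lift (G := G) (L := ⊤) (Q := ⊥) bot_le
    IsPGroup.of_bot (by rw [normalizer_eq_top_iff.2 inferInstance])
    (fun N' _ h2 h3 => by
      rw [← hO]
      exact Fitting.le_pCore 2 (normalizer_eq_top_iff.1 (top_le_iff.1 h3)) h2)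
    (mem_top c) (by rw [hcc]; exact one_mem _) (by rw [mem_bot]; exact hc1)
  rw [mem_bot] at hq
  rw [hq, mul_one] at hqy
  obtain ⟨C, hC, hcard, hsurj⟩ := sq_aut hV2 (φ c) (φ y)
    (by intro v; rw [← hm, hcc, map_one]; rfl)
    (by
      intro v
      rw [← map_inv, ← hm, ← hm]
      congr 2
      rw [← hqy, hci, mul_assoc])
    (by
      intro v hv
      by_contra hv1
      exact hv1 (h (y * y) (odd_ne hyo hy1) (odd_sq hyo) v (by rw [hm]; exact hv)))
  -- C is centralized by A and B
  have key : ∀ {A B : Subgroup G}, NatEdge A B T n → ∀ a ∈ A, ∀ x ∈ C, φ a x = x := by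
    intro A B N
    have hcA := N.W_le hc
    have h1 : ∀ a ∈ A, a ∉ zeta T → ∀ x ∈ C, φ a x = x := by
      intro a ha haW x hx
      obtain ⟨v, rfl⟩ := hsurj x hx
      have h2 := N.quad hG hP h hV2 hc ha haW v
      rw [map_mul]
      have h3 : (v * φ c v) * (φ a v * φ a (φ c v)) = 1 := by
        rw [← h2]; simp only [mul_assoc, mul_comm, mul_left_comm]
      have h4 := inv_eq_of_mul_eq_one_right h3
      rw [← h4]
      exact inv_eq_of_mul_eq_one_left (hV2 _)
    intro a ha x hx
    by_cases haW : a ∈ zeta T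
    · -- choose a' outside
      have hex : ∃ a' ∈ A, a' ∉ zeta T := by
        by_contra hcon
        push Not at hcon
        have h5 : Nat.card A ≤ Nat.card (zeta T) := Subgroup.card_le_of_le hcon
        rw [N.cardA, N.ffA.cardz] at h5
        have := N.ffA.ldata.pos
        nlinarith
      obtain ⟨a', ha', ha'W⟩ := hex
      have h6 : a * a' ∉ zeta T := by
        intro h7
        apply ha'W
        have : a' = a⁻¹ * (a * a') := by group
        rw [this]; exact mul_mem (inv_mem haW) h7
      have h8 := h1 _ (mul_mem ha ha') h6 x hx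
      rw [hm, h1 a' ha' ha'W x hx] at h8
      exact h8
    · exact h1 a ha haW x hx
  have keyA := key N
  have keyB := key N.symm
  let K : Subgroup G :=
    { carrier := {g | ∀ x ∈ C, φ g x = x}
      one_mem' := fun x _ => by rw [map_one]; rfl
      mul_mem' := fun {a b} ha hb x hx => by rw [hm, hb x hx, ha x hx]
      inv_mem' := fun {a} ha x hx => by
        have : φ a⁻¹ (φ a x) = x := by rw [← hm, inv_mul_cancel, map_one]; rfl
        rw [ha x hx] at this; exact this }
  have hK : ∀ g, g ∈ K ↔ ∀ x ∈ C, φ g x = x := fun g => Iff.rfl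
  have hC1 : ∃ x ∈ C, x ≠ 1 := by
    by_contra hcon
    push Not at hcon
    have h1 : C = ⊥ := Subgroup.eq_bot_iff_forall _ |>.2 hcon
    rw [h1, Subgroup.card_bot, one_pow] at hcard
    obtain ⟨v, hv⟩ := hV1
    have := (Nat.card_eq_one_iff_unique.1 hcard).1
    exact hv (Subsingleton.elim _ _)
  have hKp : IsPGroup 2 K := by
    by_contra hcon
    obtain ⟨z, hz, hz1, hzo⟩ := exists_odd_of_not hcon
    obtain ⟨x, hx, hx1⟩ := hC1
    exact hx1 (h z hz1 hzo x (hz x hx))
  have hstab : ∀ {A B : Subgroup G}, NatEdge A B T n → NN A ≤ NN K := by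
    intro A B N g hg
    have hkey := key N
    have hcA := N.W_le hc
    -- C is g-stable
    have h1 : ∀ g ∈ NN A, ∀ x ∈ C, φ g x ∈ C := by
      intro g hg x hx
      rw [hC]
      have h2 : g⁻¹ * c * g ∈ A := by
        have := (mem_normalizer_iff.1 (inv_mem hg) c).1 hcA; rwa [inv_inv] at this
      have h3 := hkey _ h2 x hx
      have h4 : c * g = g * (g⁻¹ * c * g) := by group
      rw [← hm, h4, hm, h3]
    have h5 : ∀ g ∈ NN A, ∀ k ∈ K, g * k * g⁻¹ ∈ K := by
      intro g hg k hk x hx
      have h6 := h1 g⁻¹ (inv_mem hg) x hx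
      rw [hm, hm, hk _ h6, ← hm, mul_inv_cancel, map_one]; rfl
    rw [mem_normalizer_iff]
    intro k
    refine ⟨h5 g hg k, fun hk => ?_⟩
    have := h5 g⁻¹ (inv_mem hg) _ hk
    have h7 : g⁻¹ * (g * k * g⁻¹) * g⁻¹⁻¹ = k := by group
    rwa [h7] at this
  have hKbot := N.edge.cn hP hKp (hstab N) (hstab N.symm)
  have hAK : A ≤ K := fun a ha => keyA a ha
  rw [hKbot, le_bot_iff] at hAK
  exact N.edge.locA.ne hAK

end nofpf

section induction

theorem pCore_bot_of_simple {G : Type*} [Group G] [Finite G] [IsSimpleGroup G]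
    (hna : ¬ ∀ a b : G, a * b = b * a) : Cfsg.pCore 2 G = ⊥ := by
  haveI : Fact (Nat.Prime 2) := ⟨Nat.prime_two⟩
  have hn := Fitting.normal_pCore 2 (G := G)
  rcases hn.eq_bot_or_eq_top with h | h
  · exact h
  · exfalso
    have hp : IsPGroup 2 G := by
      have h1 := Fitting.isPGroup_pCore 2 (G := G)
      rw [h] at h1
      intro x
      obtain ⟨k, hk⟩ := h1 ⟨x, mem_top x⟩
      exact ⟨k, congrArg Subtype.val hk⟩
    have hnil : Group.IsNilpotent G := hp.isNilpotent
    apply hna
    have hcn : (center G).Normal := inferInstance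
    have hc : center G = ⊤ := by
      rcases hcn.eq_bot_or_eq_top with h1 | h1
      · exfalso
        have : Nontrivial (center G) := hp.center_nontrivial
        rw [h1] at this
        exact not_nontrivial _ this
      · exact h1
    intro a b
    have : b ∈ center G := by rw [hc]; trivial
    exact mem_center_iff.1 this a

/-- **every simple non-abelian CIT group** is TI or has no fixed-point-free module -/
theorem ind_all (N : ℕ) : Ind.{u} N := by
  induction N using Nat.strong_induction_on with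
  | _ N ih =>
  intro E _ _ _ hE hna hcard
  by_cases hTI : TI2 E
  · exact Or.inl hTI
  right
  have hP : P2 E := hE.p2 (ih _ hcard)
  have hO := pCore_bot_of_simple hna
  obtain ⟨A, B, T, e⟩ := exists_edge hE hP hO hTI
  obtain ⟨n, hn⟩ := e.natural hE hP
  intro V _ _ hV2 hV1 φ hφ
  exact hn.noFPF hE hP hO hφ hV2 hV1

/-- in a CIT group all 2-local subgroups have TI quotients -/
theorem p2_all {G : Type*} [Group G] [Finite G] (hG : IsCIT G) : P2 G :=
  hG.p2 (ind_all _)

end induction

end Cfsg.Agent.Lib.CIT
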