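import Cfsg.Agent.Lib.CITNoFPF
import Cfsg.Agent.Lib.PlanePSL

/-!
# CIT-groups (helper6): natural edge with `q = 4` and `T` a Sylow subgroup of `G`: `PSL₃(4)`
-/

set_option autoImplicit false
set_option linter.all false

namespace Cfsg.Agent.Lib.CIT

open Subgroup SylowRel StrongEmbPt

section gen

variable {G : Type*} [Group G] [Finite G] {A B T : Subgroup G} {n : ℕ}

theorem NatEdge.conj (hG : IsCIT G) (hP : P2 G) (N : NatEdge A B T n) (g : G) :
    NatEdge (cj g A) (cj g B) (cj g T) n := by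
  obtain ⟨m, hm⟩ := (N.edge.conj g).natural hG hP
  have h1 := hm.cardA
  rw [card_cj, N.cardA] at h1
  have h2 : n + 1 = m + 1 := Nat.pow_left_injective (n := 2) (by norm_num) h1
  have h3 : n = m := by omega
  rw [h3]; exact hm

/-- elementary abelian subgroups of order `(n+1)²` -/
theorem NatEdge.eq_or (N : NatEdge A B T n) {P : Subgroup G} (hPT : P ≤ T)
    (hP2 : ∀ x ∈ P, x * x = 1) (hc : Nat.card P = (n + 1) ^ 2) : P = A ∨ P = B := by
  by_cases h1 : P ≤ A
  · left; exact Subgroup.eq_of_le_of_card_ge h1 (by rw [hc, N.cardA])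
  by_cases h2 : P ≤ B
  · right; exact Subgroup.eq_of_le_of_card_ge h2 (by rw [hc, N.symm.cardA])
  exfalso
  obtain ⟨x, hx, hxA⟩ := SetLike.not_le_iff_exists.1 h1
  obtain ⟨y, hy, hyB⟩ := SetLike.not_le_iff_exists.1 h2
  have hxB : x ∈ B := (N.mem_or (hPT hx) (hP2 x hx)).resolve_left hxA
  have hyA : y ∈ A := (N.mem_or (hPT hy) (hP2 y hy)).resolve_right hyB
  have hxy := mul_mem hx hy
  rcases N.mem_or (hPT hxy) (hP2 _ hxy) with h3 | h3
  · apply hxA
    have : x = (x * y) * y⁻¹ := by group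
    rw [this]; exact mul_mem h3 (inv_mem hyA)
  · apply hyB
    have : y = x⁻¹ * (x * y) := by group
    rw [this]; exact mul_mem (inv_mem hxB) h3

theorem sq_cj {A : Subgroup G} (h : ∀ x ∈ A, x * x = 1) (g : G) : ∀ x ∈ cj g A, x * x = 1 := by
  intro x hx
  rw [mem_cj] at hx
  have h1 := h _ hx
  calc x * x = g * (g⁻¹ * x * g * (g⁻¹ * x * g)) * g⁻¹ := by group
    _ = 1 := by rw [h1]; group

theorem NatEdge.T_ne (N : NatEdge A B T n) : T ≠ ⊥ := by
  rintro h
  have := N.A_le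
  rw [h, le_bot_iff] at this
  exact N.edge.locA.ne this

end gen

section plane

variable {G : Type*} [Group G] [Finite G] {A B S : Subgroup G}

/-- the setting -/
structure Pln (A B S : Subgroup G) : Prop where
  cit : IsCIT G
  p2 : P2 G
  nat : NatEdge A B S 3
  syl : IsSyl 2 S ⊤

theorem Pln.symm (h : Pln A B S) : Pln B A S := ⟨h.cit, h.p2, h.nat.symm, h.syl⟩

theorem Pln.conj (h : Pln A B S) (g : G) : Pln (cj g A) (cj g B) (cj g S) :=
  ⟨h.cit, h.p2, h.nat.conj h.cit h.p2 g, by have := h.syl.cj g; rwa [cj_top] at this⟩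

theorem Pln.cardA (h : Pln A B S) : Nat.card A = 16 := by rw [h.nat.cardA]; norm_num
theorem Pln.cardS (h : Pln A B S) : Nat.card S = 64 := by rw [h.nat.cardT]; norm_num
theorem Pln.cardW (h : Pln A B S) : Nat.card (zeta S) = 4 := by rw [h.nat.ffA.cardz]

theorem Pln.cent_eq (h : Pln A B S) {w : G} (hw : w ∈ zeta S) (hw1 : w ≠ 1) :
    centralizer ({w} : Set G) = S := by
  have h1 : IsPGroup 2 (centralizer ({w} : Set G)) :=
    h.cit.cent_of_mem h.syl.isPGroup (zeta_le S hw) hw1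
  have h2 : S ≤ centralizer ({w} : Set G) :=
    fun x hx => mem_cent.2 ((mem_zeta.1 hw).2.2 x hx).symm
  exact h.syl.eq_of_le h1 h2 le_top

theorem Pln.cardM (h : Pln A B S) : Nat.card (NN A ⊓ NN S : Subgroup G) = 192 := by
  have h1 := card_mul_rel (le_inf h.nat.T_le le_normalizer : S ≤ NN A ⊓ NN S)
  rw [h.nat.ffA.ldata.rel, h.cardS] at h1
  omega

theorem Pln.relAS (h : Pln A B S) : A.relIndex S = 4 := by
  have h1 := card_mul_rel h.nat.A_le
  rw [h.cardA, h.cardS] at h1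
  omega

theorem Pln.cardN (h : Pln A B S) : Nat.card (NN A) = 960 := by
  rw [h.nat.ffA.ldata.card (by norm_num), h.cardM, h.relAS]

/-- orbit counting -/
theorem exists_conj_of_card {L : Subgroup G} {X : Set G} {w : G} (hX : ∀ g ∈ L, g * w * g⁻¹ ∈ X)
    (hc : Nat.card X * Nat.card (L ⊓ centralizer ({w} : Set G) : Subgroup G) ≤ Nat.card L) {x : G}
    (hx : x ∈ X) : ∃ g ∈ L, g * w * g⁻¹ = x := by
  classical
  set C : Subgroup G := L ⊓ centralizer ({w} : Set G) with hC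
  let f : (L ⧸ C.subgroupOf L) → X := fun c => ⟨(c.out : G) * w * (c.out : G)⁻¹, hX _ c.out.2⟩
  have hf : Function.Injective f := by
    intro c d hcd
    have h1 : (c.out : G) * w * (c.out : G)⁻¹ = (d.out : G) * w * (d.out : G)⁻¹ :=
      congrArg (fun z : X => (z : G)) hcd
    rw [← c.out_eq, ← d.out_eq, QuotientGroup.eq]
    change ((c.out : G))⁻¹ * (d.out : G) ∈ C
    refine mem_inf.2 ⟨mul_mem (inv_mem c.out.2) d.out.2, mem_cent.2 ?_⟩
    calc (c.out : G)⁻¹ * (d.out : G) * w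
        = (c.out : G)⁻¹ * ((d.out : G) * w * (d.out : G)⁻¹) * (d.out : G) := by group
      _ = (c.out : G)⁻¹ * ((c.out : G) * w * (c.out : G)⁻¹) * (d.out : G) := by rw [h1]
      _ = w * ((c.out : G)⁻¹ * (d.out : G)) := by group
  have h2 : Nat.card C * Nat.card (L ⧸ C.subgroupOf L) = Nat.card L := by
    have h3 := Subgroup.card_eq_card_quotient_mul_card_subgroup (C.subgroupOf L)
    rw [SubgroupTools.card_subgroupOf_of_le inf_le_left] at h3
    rw [h3, mul_comm]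
  have hCpos : 0 < Nat.card C := Nat.card_pos
  have h3 : Nat.card X ≤ Nat.card (L ⧸ C.subgroupOf L) := by
    rw [← h2, mul_comm] at hc
    exact Nat.le_of_mul_le_mul_left hc hCpos
  have hbij : Function.Bijective f := by
    have : Fintype (L ⧸ C.subgroupOf L) := Fintype.ofFinite _
    have : Fintype X := Fintype.ofFinite _
    rw [Fintype.bijective_iff_injective_and_card]
    refine ⟨hf, le_antisymm (Fintype.card_le_of_injective f hf) ?_⟩
    rw [← Nat.card_eq_fintype_card, ← Nat.card_eq_fintype_card]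
    exact h3
  obtain ⟨c, hc⟩ := hbij.2 ⟨x, hx⟩
  exact ⟨c.out, c.out.2, congrArg (fun z : X => (z : G)) hc⟩

theorem card_ne_one (H : Subgroup G) : Nat.card {x : G | x ∈ H ∧ x ≠ 1} + 1 = Nat.card H := by
  have h1 : (H : Set G) = insert 1 {x : G | x ∈ H ∧ x ≠ 1} := by
    ext x
    constructor
    · intro hx
      by_cases hx1 : x = 1
      · exact Or.inl hx1
      · exact Or.inr ⟨hx, hx1⟩
    · rintro (rfl | hx)
      · exact H.one_mem
      · exact hx.1
  have h2 : (H : Set G).ncard = (insert 1 {x : G | x ∈ H ∧ x ≠ 1} : Set G).ncard := by rw [← h1]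
  rw [Set.ncard_insert_of_notMem (fun h3 => h3.2 rfl) (Set.toFinite _)] at h2
  exact h2.symm

theorem Pln.exists_conj (h : Pln A B S) {a : G} (ha : a ∈ A) (ha1 : a ≠ 1) :
    ∃ g ∈ NN A, a ∈ zeta (cj g S) ∧ centralizer ({a} : Set G) = cj g S := by
  obtain ⟨w, hw, hw1⟩ := exists_mem_ne_one (zeta_ne_bot h.syl.isPGroup h.nat.T_ne)
  have hc := h.cent_eq hw hw1
  obtain ⟨g, hg, hgw⟩ := exists_conj_of_card (L := NN A) (X := {x : G | x ∈ A ∧ x ≠ 1}) (w := w)
    (by
      intro g hg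
      refine ⟨(mem_normalizer_iff.1 hg w).1 (h.nat.W_le hw), fun h1 => hw1 ?_⟩
      calc w = g⁻¹ * (g * w * g⁻¹) * g := by group
        _ = 1 := by rw [h1]; group)
    (by
      have h1 := card_ne_one A
      rw [h.cardA] at h1
      rw [hc, inf_eq_right.2 h.nat.T_le, h.cardS, h.cardN]
      have h2 : Nat.card {x : G | x ∈ A ∧ x ≠ 1} = 15 := by omega
      rw [h2]) (⟨ha, ha1⟩ : a ∈ {x : G | x ∈ A ∧ x ≠ 1})
  refine ⟨g, hg, ?_, ?_⟩
  · rw [← hgw, zeta_cj]; exact conj_mem_cj hw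
  · rw [← hgw, ← cj_centralizer_singleton, hc]

/-- `A` and `B` are not conjugate -/
theorem Pln.not_conj (h : Pln A B S) (x : G) : cj x A ≠ B := by
  haveI : Fact (Nat.Prime 2) := ⟨Nat.prime_two⟩
  intro hx
  have h1 : IsSyl 2 (cj x S) (NN B) := by
    rw [← hx]; exact syl_conj h.nat.edge.sylA x
  obtain ⟨y, hy, hyS⟩ := h1.exists_cj_eq h.nat.edge.sylB
  obtain ⟨z, hz⟩ : ∃ z, z = y * x := ⟨_, rfl⟩
  have hzS : cj z S = S := by rw [hz, cj_mul, hyS]
  have hzA : cj z A = B := by rw [hz, cj_mul, hx, mem_normalizer_iff_cj.1 hy]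
  have hNz : ∀ z : G, cj z S = S → (cj z A = A ∨ cj z A = B) ∧ (cj z B = A ∨ cj z B = B) := by
    intro z hz
    constructor
    · exact h.nat.eq_or (by rw [← hz]; exact cj_mono h.nat.A_le) (sq_cj h.nat.sqA z)
        (by rw [card_cj, h.nat.cardA])
    · exact h.nat.eq_or (by rw [← hz]; exact cj_mono h.nat.B_le) (sq_cj h.nat.sqB z)
        (by rw [card_cj, h.nat.symm.cardA])
  have hzB : cj z B = A := by
    rcases (hNz z hzS).2 with h2 | h2
    · exact h2
    · exact absurd (cj_inj.1 (hzA.trans h2.symm)) h.nat.edge.ne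
  have hodd : ∀ k : ℕ, cj (z ^ (2 * k + 1)) A = B := by
    intro k
    induction k with
    | zero => simpa using hzA
    | succ k ih =>
      have : z ^ (2 * (k + 1) + 1) = z * (z * z ^ (2 * k + 1)) := by
        rw [← pow_succ', ← pow_succ']; congr 1
      rw [this, cj_mul, cj_mul, ih, hzB, hzA]
  obtain ⟨a, m, hm, hn⟩ := Nat.exists_eq_two_pow_mul_odd (n := orderOf z) (orderOf_pos z).ne'
  obtain ⟨k, hk⟩ := hm
  have h3 : z ^ m ∈ S := by
    apply mem_of_two h.syl (mem_top _) (k := a)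
    · exact pow_mem (mem_normalizer_iff_cj.2 hzS) m
    · rw [← pow_mul, mul_comm, ← hn, pow_orderOf_eq_one]
  have h4 := hodd k
  rw [← hk, mem_normalizer_iff_cj.1 (h.nat.T_le h3)] at h4
  exact h.nat.edge.ne h4

theorem Pln.pt_le (h : Pln A B S) {x : G} (hx : cj x A ≤ S) : cj x A = A := by
  rcases h.nat.eq_or hx (sq_cj h.nat.sqA x) (by rw [card_cj, h.nat.cardA]) with h1 | h1
  · exact h1
  · exact absurd h1 (h.not_conj x)

/-- elements of a point: centralizer -/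
theorem Pln.cent_pt (h : Pln A B S) {x u : G} (hu : u ∈ cj x A) (hu1 : u ≠ 1) :
    ∃ g, cj x A = cj g A ∧ u ∈ zeta (cj g S) ∧ centralizer ({u} : Set G) = cj g S := by
  obtain ⟨g, hg, h1, h2⟩ := (h.conj x).exists_conj hu hu1
  refine ⟨g * x, ?_, ?_, ?_⟩
  · rw [cj_mul, mem_normalizer_iff_cj.1 hg]
  · rw [cj_mul]; exact h1
  · rw [cj_mul]; exact h2

/-- two points with a common element are equal -/
theorem Pln.pt_eq (h : Pln A B S) {x y u : G} (hu : u ∈ cj x A) (hu' : u ∈ cj y A) (hu1 : u ≠ 1) :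
    cj x A = cj y A := by
  obtain ⟨g, hg, -, hgc⟩ := h.cent_pt hu hu1
  have h1 : cj y A ≤ cj g S := by
    rw [← hgc]
    intro z hz
    exact mem_cent.2 (comm_of_sq (sq_cj h.nat.sqA y) z hz u hu')
  have h2 : cj (g⁻¹ * y) A ≤ S := by
    rw [cj_mul, ← cj_inv_cj g S]; exact cj_mono h1
  have h3 := h.pt_le h2
  rw [cj_mul, cj_eq_iff, inv_inv] at h3
  rw [hg, h3]

/-- a point and a line with a common element -/
theorem Pln.flag (h : Pln A B S) {x y u : G} (hu : u ∈ cj x A) (hu' : u ∈ cj y B) (hu1 : u ≠ 1) :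
    ∃ g, cj x A = cj g A ∧ cj y B = cj g B ∧ centralizer ({u} : Set G) = cj g S ∧
      u ∈ zeta (cj g S) := by
  obtain ⟨g, hg, hgz, hgc⟩ := h.cent_pt hu hu1
  refine ⟨g, hg, ?_, hgc, hgz⟩
  have h1 : cj y B ≤ cj g S := by
    rw [← hgc]
    intro z hz
    exact mem_cent.2 (comm_of_sq (sq_cj h.nat.sqB y) z hz u hu')
  have h2 : cj (g⁻¹ * y) B ≤ S := by
    rw [cj_mul, ← cj_inv_cj g S]; exact cj_mono h1
  have h3 := h.symm.pt_le h2
  rw [cj_mul, cj_eq_iff, inv_inv] at h3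
  exact h3

/-- every involution of the group is on a point -/
theorem Pln.inv_mem_pt (h : Pln A B S) {u : G} (hu2 : u * u = 1) (hu1 : u ≠ 1) :
    ∃ g, centralizer ({u} : Set G) = cj g S ∧ u ∈ zeta (cj g S) := by
  haveI : Fact (Nat.Prime 2) := ⟨Nat.prime_two⟩
  have hk : u ^ 2 ^ 1 = 1 := by rw [pow_one, pow_two]; exact hu2
  obtain ⟨x, -, hx⟩ := h.syl.exists_cj_le (isPGroup_zpowers hk) (le_top : zpowers u ≤ ⊤)
  have h1 : x * u * x⁻¹ ∈ S := hx (conj_mem_cj (mem_zpowers u))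
  have h2 : x * u * x⁻¹ * (x * u * x⁻¹) = 1 := by
    calc x * u * x⁻¹ * (x * u * x⁻¹) = x * (u * u) * x⁻¹ := by group
      _ = 1 := by rw [hu2]; group
  have hex : (∃ y, u ∈ cj y A) ∨ (∃ y, u ∈ cj y B) := by
    rcases h.nat.mem_or h1 h2 with h3 | h3
    · left; exact ⟨x⁻¹, by rw [mem_cj, inv_inv]; exact h3⟩
    · right; exact ⟨x⁻¹, by rw [mem_cj, inv_inv]; exact h3⟩
  rcases hex with ⟨y, hy⟩ | ⟨y, hy⟩
  · obtain ⟨g, -, h4, h5⟩ := h.cent_pt hy hu1
    exact ⟨g, h5, h4⟩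
  · obtain ⟨g, -, h4, h5⟩ := h.symm.cent_pt hy hu1
    exact ⟨g, h5, h4⟩

/-- collinearity of `cj x A` and `cj y A` -/
def Col (A B : Subgroup G) (x y : G) : Prop :=
  ∃ z : G, cj x A ⊓ cj z B ≠ ⊥ ∧ cj y A ⊓ cj z B ≠ ⊥

theorem ne_bot_of {P Q : Subgroup G} {u : G} (h1 : u ∈ P) (h2 : u ∈ Q) (hu : u ≠ 1) : P ⊓ Q ≠ ⊥ := by
  intro h
  have h3 : u ∈ P ⊓ Q := mem_inf.2 ⟨h1, h2⟩
  rw [h, mem_bot] at h3
  exact hu h3

theorem Pln.col_of (h : Pln A B S) {x y s t u : G} (hs : s ∈ cj x A) (hs1 : s ≠ 1) (ht : t ∈ cj y A)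
    (ht1 : t ≠ 1) (hne : cj x A ≠ cj y A) (hu : u ≠ 1) (hu2 : u * u = 1) (hus : u * s = s * u)
    (hut : u * t = t * u) : Col A B x y := by
  obtain ⟨g, hg, hgz, hgc⟩ := h.cent_pt hs hs1
  obtain ⟨k, hk, hkz, hkc⟩ := h.cent_pt ht ht1
  have h1 : u ∈ cj g S := by rw [← hgc]; exact mem_cent.2 hus
  have h2 : u ∈ cj k S := by rw [← hkc]; exact mem_cent.2 hut
  have hsB : s ∈ cj g B := (h.conj g).nat.W_le' hgz
  have htB : t ∈ cj k B := (h.conj k).nat.W_le' hkz
  rcases (h.conj g).nat.mem_or h1 hu2 with h3 | h3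
  · rcases (h.conj k).nat.mem_or h2 hu2 with h4 | h4
    · exfalso
      apply hne
      rw [hg, hk]; exact h.pt_eq h3 h4 hu
    · exact ⟨k, ne_bot_of (by rw [hg]; exact h3) h4 hu, ne_bot_of ht htB ht1⟩
  · rcases (h.conj k).nat.mem_or h2 hu2 with h4 | h4
    · exact ⟨g, ne_bot_of hs hsB hs1, ne_bot_of (by rw [hk]; exact h4) h3 hu⟩
    · have h5 := h.symm.pt_eq h3 h4 hu
      exact ⟨g, ne_bot_of hs hsB hs1, ne_bot_of ht (by rw [h5]; exact htB) ht1⟩

/-- **any two points are collinear** -/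
theorem Pln.col (h : Pln A B S) {x y : G} (hne : cj x A ≠ cj y A) : Col A B x y := by
  classical
  by_contra hcol
  -- the involution swapping s and t
  have hr : ∀ s ∈ cj x A, ∀ t ∈ cj y A, s ≠ 1 → t ≠ 1 → ∃ r : G, r * r = 1 ∧ r * s * r⁻¹ = t ∧
      cj r (cj x A) = cj y A := by
    intro s hs t ht hs1 ht1
    have hss := sq_cj h.nat.sqA x s hs
    have htt := sq_cj h.nat.sqA y t ht
    have hsi : s⁻¹ = s := inv_eq_of_mul_eq_one_left hss
    have hti : t⁻¹ = t := inv_eq_of_mul_eq_one_left htt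
    have hinv : s * (s * t) * s⁻¹ = (s * t)⁻¹ := by
      rw [mul_inv_rev, hsi, hti, ← mul_assoc, hss, one_mul]
    have hinvt : t * (s * t) * t⁻¹ = (s * t)⁻¹ := by
      rw [mul_inv_rev, hsi, mul_assoc, mul_assoc, mul_inv_cancel, mul_one, hti]
    have hpow : ∀ k : ℕ, s * (s * t) ^ k * s⁻¹ = ((s * t) ^ k)⁻¹ := by
      intro k; rw [← conj_pow, hinv, inv_pow]
    have hpowt : ∀ k : ℕ, t * (s * t) ^ k * t⁻¹ = ((s * t) ^ k)⁻¹ := by
      intro k; rw [← conj_pow, hinvt, inv_pow]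
    by_cases heven : Even (orderOf (s * t))
    · exfalso
      apply hcol
      obtain ⟨m, hm⟩ := heven
      have hpos := orderOf_pos (s * t)
      have hu : (s * t) ^ m ≠ 1 := by
        intro h1
        have := Nat.le_of_dvd (by omega) (orderOf_dvd_of_pow_eq_one h1)
        omega
      have hu2 : (s * t) ^ m * (s * t) ^ m = 1 := by
        rw [← pow_add, ← hm, pow_orderOf_eq_one]
      have hui : ((s * t) ^ m)⁻¹ = (s * t) ^ m := inv_eq_of_mul_eq_one_left hu2
      refine h.col_of hs hs1 ht ht1 hne hu hu2 ?_ ?_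
      · have := hpow m
        rw [hui] at this
        exact (mul_inv_eq_iff_eq_mul.1 this).symm
      · have := hpowt m
        rw [hui] at this
        exact (mul_inv_eq_iff_eq_mul.1 this).symm
    · rw [Nat.not_even_iff_odd] at heven
      obtain ⟨k, hk⟩ := heven
      -- r = (st)^k s
      set d := s * t with hd
      have hd1 : d ^ k * d ^ k * d = 1 := by
        rw [← pow_add, ← pow_succ, ← two_mul, ← hk, pow_orderOf_eq_one]
      have hsd : s * d ^ k = (d ^ k)⁻¹ * s := mul_inv_eq_iff_eq_mul.1 (hpow k)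
      have hrr : (d ^ k * s) * (d ^ k * s) = 1 := by
        calc (d ^ k * s) * (d ^ k * s) = d ^ k * (s * d ^ k) * s := by group
          _ = d ^ k * ((d ^ k)⁻¹ * s) * s := by rw [hsd]
          _ = s * s := by group
          _ = 1 := hss
      have hrs : (d ^ k * s) * s * (d ^ k * s)⁻¹ = t := by
        have e1 : (d ^ k)⁻¹ = d ^ k * d := by
          rw [eq_comm, eq_inv_iff_mul_eq_one, mul_assoc, ← pow_succ', ← pow_add] 
          rw [show k + (k + 1) = 2 * k + 1 by ring, ← hk, pow_orderOf_eq_one]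
        calc (d ^ k * s) * s * (d ^ k * s)⁻¹ = d ^ k * s * (d ^ k)⁻¹ := by group
          _ = d ^ k * (s * d ^ k) * d := by rw [e1]; group
          _ = d ^ k * ((d ^ k)⁻¹ * s) * d := by rw [hsd]
          _ = s * d := by group
          _ = t := by rw [hd, ← mul_assoc, hss, one_mul]
      refine ⟨d ^ k * s, hrr, hrs, ?_⟩
      rw [← cj_mul]
      refine h.pt_eq (u := t) ?_ ht ht1
      rw [cj_mul, ← hrs]
      exact conj_mem_cj hs
  obtain ⟨s0, hs0, hs01⟩ : ∃ s ∈ cj x A, s ≠ 1 := exists_mem_ne_one (fun h1 =>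
    (h.conj x).nat.edge.locA.ne h1)
  obtain ⟨t0, ht0, ht01⟩ : ∃ t ∈ cj y A, t ≠ 1 := exists_mem_ne_one (fun h1 =>
    (h.conj y).nat.edge.locA.ne h1)
  set D : Subgroup G := NN (cj x A) ⊓ NN (cj y A) with hD
  -- D has no involution
  have hDodd : Odd (Nat.card D) := by
    apply odd_card_of_forall
    intro u hu huo
    apply hcol
    have hu1 : u ≠ 1 := by
      rintro rfl; rw [orderOf_one] at huo; omega
    have hu2 := mul_self huo
    have huk : u ^ 2 ^ 1 = 1 := by rw [pow_one, ← huo, pow_orderOf_eq_one]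
    obtain ⟨s, hs, hs1, hus⟩ := exists_fixed (h.conj x).nat.edge.locA.isPGroup
      (h.conj x).nat.edge.locA.ne (mem_inf.1 hu).1 huk
    obtain ⟨t, ht, ht1, hut⟩ := exists_fixed (h.conj y).nat.edge.locA.isPGroup
      (h.conj y).nat.edge.locA.ne (mem_inf.1 hu).2 huk
    exact h.col_of hs hs1 ht ht1 hne hu1 hu2 hus hut
  have hreg : ∀ d ∈ D, ∀ s ∈ cj x A, s ≠ 1 → d * s = s * d → d = 1 := by
    intro d hd s hs hs1 hds
    exact h.cit.eq_one (h.conj x).nat.edge.locA.isPGroup hs hs1 (odd_orderOf hDodd hd) hds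
  obtain ⟨r, hrr, hrs, hrA⟩ := hr s0 hs0 t0 ht0 hs01 ht01
  have hri : r⁻¹ = r := inv_eq_of_mul_eq_one_left hrr
  -- transitivity with elements inverted by r
  have htrans : ∀ s ∈ cj x A, s ≠ 1 → ∃ d ∈ D, d * s0 * d⁻¹ = s ∧ r * d * r⁻¹ = d⁻¹ := by
    intro s hs hs1
    obtain ⟨r', hrr', hrs', hrA'⟩ := hr s hs t0 ht0 hs1 ht01
    have hri' : r'⁻¹ = r' := inv_eq_of_mul_eq_one_left hrr'
    have hrA2 : cj r (cj y A) = cj x A := by
      rw [← hrA, ← cj_mul, hrr, cj_one]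
    have hrA2' : cj r' (cj y A) = cj x A := by
      rw [← hrA', ← cj_mul, hrr', cj_one]
    refine ⟨r' * r, mem_inf.2 ⟨?_, ?_⟩, ?_, ?_⟩
    · rw [mem_normalizer_iff_cj, cj_mul, hrA, hrA2']
    · rw [mem_normalizer_iff_cj, cj_mul, hrA2, hrA']
    · calc r' * r * s0 * (r' * r)⁻¹ = r' * (r * s0 * r⁻¹) * r'⁻¹ := by group
        _ = r'⁻¹ * (r' * s * r'⁻¹) * r' := by rw [hrs, ← hrs', hri']
        _ = s := by group
    · rw [mul_inv_rev, hri', hri]
      calc r * (r' * r) * r = r * r' * (r * r) := by group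
        _ = r * r' := by rw [hrr, mul_one]
  -- every element of D is inverted by r
  have hinvD : ∀ d ∈ D, r * d * r⁻¹ = d⁻¹ := by
    intro d hd
    have hds : d * s0 * d⁻¹ ∈ cj x A := (mem_normalizer_iff.1 (mem_inf.1 hd).1 s0).1 hs0
    have hds1 : d * s0 * d⁻¹ ≠ 1 := by
      intro h1
      apply hs01
      calc s0 = d⁻¹ * (d * s0 * d⁻¹) * d := by group
        _ = 1 := by rw [h1]; group
    obtain ⟨e, he, hes, her⟩ := htrans _ hds hds1
    have h1 : e⁻¹ * d = 1 := by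
      apply hreg _ (mul_mem (inv_mem he) hd) s0 hs0 hs01
      rw [← mul_inv_eq_iff_eq_mul]
      calc e⁻¹ * d * s0 * (e⁻¹ * d)⁻¹ = e⁻¹ * (d * s0 * d⁻¹) * e := by group
        _ = e⁻¹ * (e * s0 * e⁻¹) * e := by rw [hes]
        _ = s0 := by group
    have h2 : d = e := (inv_mul_eq_one.1 h1).symm
    rw [h2]; exact her
  have hab : ∀ d ∈ D, ∀ e ∈ D, d * e = e * d := by
    intro d hd e he
    have h1 := hinvD _ (mul_mem hd he)
    have h2 : r * (d * e) * r⁻¹ = d⁻¹ * e⁻¹ := by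
      calc r * (d * e) * r⁻¹ = (r * d * r⁻¹) * (r * e * r⁻¹) := by group
        _ = _ := by rw [hinvD d hd, hinvD e he]
    rw [h2] at h1
    have h3 : (e * d)⁻¹ = (d * e)⁻¹ := by rw [← h1, mul_inv_rev]
    exact (inv_injective h3).symm
  -- D is transitive on the Sylow subgroups
  obtain ⟨g0, hg0, hg0z, hg0c⟩ := h.cent_pt hs0 hs01
  have hsy0 : IsSyl 2 (cj g0 S) (NN (cj x A)) := by
    rw [hg0]; exact syl_conj h.nat.edge.sylA g0
  -- a nontrivial element of D normalizing cj g0 S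
  have hW3 : ∃ w ∈ zeta (cj g0 S), w ≠ 1 ∧ w ≠ s0 := by
    by_contra hcon
    push Not at hcon
    have h1 : Nat.card (zeta (cj g0 S)) ≤ 2 := by
      have h2 : (zeta (cj g0 S) : Set G) ⊆ {1, s0} := by
        intro w hw
        by_cases hw1 : w = 1
        · left; exact hw1
        · right; exact hcon w hw hw1
      have h3 := Set.ncard_le_ncard h2 (Set.toFinite _)
      exact h3.trans ((Set.ncard_insert_le _ _).trans (by rw [Set.ncard_singleton]))
    rw [(h.conj g0).cardW] at h1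
    omega
  obtain ⟨w, hw, hw1, hws⟩ := hW3
  have hwA : w ∈ cj x A := by rw [hg0]; exact (h.conj g0).nat.W_le hw
  obtain ⟨d0, hd0, hd0s, -⟩ := htrans w hwA hw1
  have hd01 : d0 ≠ 1 := by
    rintro rfl
    apply hws
    rw [← hd0s]; group
  have hcw : centralizer ({w} : Set G) = cj g0 S := (h.conj g0).cent_eq hw hw1
  have hd0S : d0 ∈ NN (cj g0 S) := by
    rw [mem_normalizer_iff_cj]
    conv_lhs => rw [← hg0c]
    rw [cj_centralizer_singleton, hd0s, hcw]
  -- all Sylow subgroups are normalized by d0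
  have hall : ∀ k ∈ NN (cj x A), d0 ∈ NN (cj k (cj g0 S)) := by
    intro k hk
    have h1 : k * s0 * k⁻¹ ∈ cj x A := (mem_normalizer_iff.1 hk s0).1 hs0
    have h2 : k * s0 * k⁻¹ ≠ 1 := by
      intro h1
      apply hs01
      calc s0 = k⁻¹ * (k * s0 * k⁻¹) * k := by group
        _ = 1 := by rw [h1]; group
    obtain ⟨d, hd, hds, -⟩ := htrans _ h1 h2
    have h3 : cj k (cj g0 S) = cj d (cj g0 S) := by
      rw [← hg0c, cj_centralizer_singleton, cj_centralizer_singleton, hds]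
    rw [h3, NN_cj, mem_cj]
    have h4 : d⁻¹ * d0 * d = d0 := by
      rw [mul_assoc, hab d0 hd0 d hd, inv_mul_cancel_left]
    rw [h4]; exact hd0S
  have hLoc := (h.conj x).nat.edge.locA
  have hsy0' := hsy0
  obtain ⟨n, hn⟩ := hLoc.lData h.cit h.p2 hsy0
  obtain ⟨k1, k2, hk1, hk2, c1, c2, c3⟩ := hLoc.exists_two h.p2 hsy0
  have hn3 : n ≠ 1 := by
    intro h1
    have h2 := hn.rel
    have h3 := (h.conj g0).nat.ffA.ldata.rel
    rw [hg0] at h2
    rw [h1] at h2
    rw [h2] at h3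
    omega
  have hd0A : d0 ∈ cj x A := hn.three hn3 1 k1 k2 d0 (one_mem _) hk1 hk2 (by rw [cj_one]; exact c1.symm)
    c3 (by rw [cj_one]; exact c2.symm) (mem_inf.1 hd0).1 (by rw [cj_one]; exact hd0S)
    (hall k1 hk1) (hall k2 hk2)
  exact hd01 (odd_of_isPGroup hLoc.isPGroup hd0A (odd_orderOf hDodd hd0))

theorem comm_zeta (N : NatEdge A B S 3) {a b : G} (ha : a ∈ A) (hb : b ∈ B) :
    a * b * a⁻¹ * b⁻¹ ∈ zeta S := by
  have h1 := N.symm.comm (N.A_le ha) hb
  have h2 := N.sqB b hb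
  have h3 : b⁻¹ = b := inv_eq_of_mul_eq_one_left h2
  have h4 : a * b * a⁻¹ ∈ B := (mem_normalizer_iff.1 (N.symm.T_le (N.A_le ha)) b).1 hb
  have h5 : a * b * a⁻¹ * b⁻¹ = b * (a * b * a⁻¹) := by
    rw [h3, comm_of_sq N.sqB _ h4 b hb]
  rw [h5]; exact h1

/-- uniqueness of the joining line -/
theorem Pln.line_unique (h : Pln A B S) {x y z w : G} (hne : cj x A ≠ cj y A)
    (h1 : cj x A ⊓ cj z B ≠ ⊥) (h2 : cj y A ⊓ cj z B ≠ ⊥) (h3 : cj x A ⊓ cj w B ≠ ⊥)
    (h4 : cj y A ⊓ cj w B ≠ ⊥) : cj z B = cj w B := by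
  by_contra hzw
  obtain ⟨u1, hu1, hu1'⟩ := exists_mem_ne_one h1
  obtain ⟨u2, hu2, hu2'⟩ := exists_mem_ne_one h2
  obtain ⟨u3, hu3, hu3'⟩ := exists_mem_ne_one h3
  obtain ⟨u4, hu4, hu4'⟩ := exists_mem_ne_one h4
  -- flags
  obtain ⟨a, ha1, ha2, -, -⟩ := h.flag (mem_inf.1 hu1).1 (mem_inf.1 hu1).2 hu1'
  obtain ⟨d, hd1, hd2, -, -⟩ := h.flag (mem_inf.1 hu4).1 (mem_inf.1 hu4).2 hu4'
  -- u3 ∈ A1 ∩ B2, u2 ∈ A2 ∩ B1
  have Na := (h.conj a).nat
  have Nd := (h.conj d).nat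
  rw [← ha1, ← ha2] at Na
  rw [← hd1, ← hd2] at Nd
  -- [u3,u2] ∈ ζ(cj a S) ∩ ζ(cj d S)
  have c1 : u3 * u2 * u3⁻¹ * u2⁻¹ ∈ zeta (cj a S) := comm_zeta Na (mem_inf.1 hu3).1 (mem_inf.1 hu2).2
  have c2 : u2 * u3 * u2⁻¹ * u3⁻¹ ∈ zeta (cj d S) := comm_zeta Nd (mem_inf.1 hu2).1 (mem_inf.1 hu3).2
  have c3 : u3 * u2 * u3⁻¹ * u2⁻¹ = 1 := by
    by_contra hne1
    apply hne
    have e1 : u3 * u2 * u3⁻¹ * u2⁻¹ ∈ cj x A := Na.W_le c1
    have e2 : u3 * u2 * u3⁻¹ * u2⁻¹ ∈ cj y A := by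
      have : u3 * u2 * u3⁻¹ * u2⁻¹ = (u2 * u3 * u2⁻¹ * u3⁻¹)⁻¹ := by group
      rw [this]; exact inv_mem (Nd.W_le c2)
    exact h.pt_eq e1 e2 hne1
  have c4 : u3 * u2 = u2 * u3 := by
    have := mul_inv_eq_one.1 c3
    exact mul_inv_eq_iff_eq_mul.1 this
  have hu2T : u2 ∈ cj a S := Na.B_le (mem_inf.1 hu2).2
  have hu2A : u2 ∉ cj x A := fun h5 => hne (h.pt_eq h5 (mem_inf.1 hu2).1 hu2')
  have c5 := Na.cent hu2T hu2A (mem_inf.1 hu3).1 c4
  have c6 : u3 ∈ cj z B := Na.W_le' c5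
  exact hzw (h.symm.pt_eq c6 (mem_inf.1 hu3).2 hu3')

/-- the number of points on a line -/
theorem Pln.card_on_line (h : Pln A B S) :
    Nat.card {P : Subgroup G // (∃ g, P = cj g A) ∧ P ⊓ B ≠ ⊥} = 5 := by
  classical
  set L := NN B with hL
  set M := NN B ⊓ NN S with hM
  have hMA : ∀ g ∈ NN B, (cj g A = A ↔ g ∈ M) := by
    intro g hg
    constructor
    · intro hgA
      refine mem_inf.2 ⟨hg, mem_normalizer_iff_cj.2 ?_⟩
      rw [← h.nat.sup, cj_sup, hgA, mem_normalizer_iff_cj.1 hg]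
    · intro hgM
      exact mem_normalizer_iff_cj.1 (h.nat.symm.NN_T hg (mem_inf.1 hgM).2)
  let f : (L ⧸ M.subgroupOf L) → {P : Subgroup G // (∃ g, P = cj g A) ∧ P ⊓ B ≠ ⊥} := fun c =>
    ⟨cj (c.out : G) A, ⟨_, rfl⟩, by
      obtain ⟨u, hu, hu1⟩ := exists_mem_ne_one (zeta_ne_bot (h.conj (c.out : G)).syl.isPGroup
        (h.conj (c.out : G)).nat.T_ne)
      refine ne_bot_of ((h.conj (c.out : G)).nat.W_le hu) ?_ hu1
      have := (h.conj (c.out : G)).nat.W_le' hu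
      rwa [mem_normalizer_iff_cj.1 c.out.2] at this⟩
  have hf : Function.Bijective f := by
    constructor
    · intro c d hcd
      have h1 : cj (c.out : G) A = cj (d.out : G) A := congrArg Subtype.val hcd
      rw [← c.out_eq, ← d.out_eq, QuotientGroup.eq]
      change ((c.out : G))⁻¹ * (d.out : G) ∈ M
      rw [← hMA _ (mul_mem (inv_mem c.out.2) d.out.2), cj_mul, ← h1, cj_inv_cj]
    · rintro ⟨P, ⟨g, rfl⟩, hP⟩
      obtain ⟨u, hu, hu1⟩ := exists_mem_ne_one hP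
      obtain ⟨k, hk1, hk2, -, -⟩ := h.flag (mem_inf.1 hu).1
        (by rw [cj_one]; exact (mem_inf.1 hu).2 : u ∈ cj 1 B) hu1
      rw [cj_one] at hk2
      have hkL : k ∈ L := mem_normalizer_iff_cj.2 hk2.symm
      refine ⟨QuotientGroup.mk ⟨k, hkL⟩, Subtype.ext ?_⟩
      change cj ((Quotient.out (QuotientGroup.mk ⟨k, hkL⟩ : L ⧸ M.subgroupOf L) : L) : G) A = cj g A
      rw [hk1]
      obtain ⟨m, hm⟩ := QuotientGroup.mk_out_eq_mul (M.subgroupOf L) ⟨k, hkL⟩
      rw [hm]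
      have : cj ((⟨k, hkL⟩ * (m : L) : L) : G) A = cj k (cj ((m : L) : G) A) := by
        rw [← cj_mul]; rfl
      rw [this, (hMA _ (m : L).2).2 m.2]
  rw [← Nat.card_congr (Equiv.ofBijective f hf)]
  have h2 : Nat.card M * Nat.card (L ⧸ M.subgroupOf L) = Nat.card L := by
    have h3 := Subgroup.card_eq_card_quotient_mul_card_subgroup (M.subgroupOf L)
    rw [SubgroupTools.card_subgroupOf_of_le inf_le_left] at h3
    rw [h3, mul_comm]
  rw [h.symm.cardM, h.symm.cardN] at h2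
  omega

theorem Pln.card_on_line' (h : Pln A B S) (x : G) :
    Nat.card {P : Subgroup G // (∃ g, P = cj g A) ∧ P ⊓ cj x B ≠ ⊥} = 5 := by
  rw [← (h.conj x).card_on_line]
  apply Nat.card_congr
  apply Equiv.subtypeEquivRight
  intro P
  apply and_congr_left
  intro _
  constructor
  · rintro ⟨g, rfl⟩
    exact ⟨g * x⁻¹, by rw [cj_mul, cj_inv_cj]⟩
  · rintro ⟨g, rfl⟩
    exact ⟨g * x, by rw [cj_mul]⟩

end plane

section final

open scoped Pointwise

variable {G : Type*} [Group G] [Finite G] {A B S : Subgroup G}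

/-- points -/
abbrev Pt (A : Subgroup G) : Type _ := {P : Subgroup G // ∃ g, P = cj g A}

instance (A : Subgroup G) : MulAction G (Pt A) where
  smul g P := ⟨cj g P.1, by obtain ⟨x, hx⟩ := P.2; exact ⟨g * x, by rw [hx, cj_mul]⟩⟩
  one_smul P := Subtype.ext (cj_one P.1)
  mul_smul g h P := Subtype.ext (cj_mul g h P.1)

theorem smul_val (g : G) (P : Pt A) : (g • P).1 = cj g P.1 := rfl

theorem Pln.card_pts (h : Pln A B S) : Nat.card (Pt A) = 21 := by
  classical
  have : Fintype (Pt A) := Fintype.ofFinite _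
  have : Fintype (Pt B) := Fintype.ofFinite _
  let P0 : Pt A := ⟨A, 1, by rw [cj_one]⟩
  -- lines through P0
  let Ls : Finset (Pt B) := Finset.univ.filter (fun Q => Q.1 ⊓ A ≠ ⊥)
  let pts : Pt B → Finset (Pt A) := fun Q => Finset.univ.filter (fun P => P.1 ⊓ Q.1 ≠ ⊥)
  have hLs : Ls.card = 5 := by
    have h1 := h.symm.card_on_line
    rw [← h1, ← Fintype.card_coe, ← Nat.card_eq_fintype_card]
    refine Nat.card_congr
      { toFun := fun Q => ⟨Q.1.1, Q.1.2, (Finset.mem_filter.1 Q.2).2⟩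
        invFun := fun Q => ⟨⟨Q.1, Q.2.1⟩, Finset.mem_filter.2 ⟨Finset.mem_univ _, Q.2.2⟩⟩
        left_inv := fun Q => rfl
        right_inv := fun Q => rfl }
  have hpts : ∀ Q : Pt B, (pts Q).card = 5 := by
    rintro ⟨_, x, rfl⟩
    have h1 := h.card_on_line' x
    rw [← h1, ← Fintype.card_coe, ← Nat.card_eq_fintype_card]
    refine Nat.card_congr
      { toFun := fun Q => ⟨Q.1.1, Q.1.2, (Finset.mem_filter.1 Q.2).2⟩
        invFun := fun Q => ⟨⟨Q.1, Q.2.1⟩, Finset.mem_filter.2 ⟨Finset.mem_univ _, Q.2.2⟩⟩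
        left_inv := fun Q => rfl
        right_inv := fun Q => rfl }
  have huniv : (Finset.univ : Finset (Pt A)) = insert P0 (Ls.biUnion (fun Q => (pts Q).erase P0)) := by
    ext P
    simp only [Finset.mem_univ, true_iff, Finset.mem_insert, Finset.mem_biUnion, Finset.mem_erase]
    by_cases hP : P = P0
    · left; exact hP
    · right
      obtain ⟨P, x, rfl⟩ := P
      have hne : cj x A ≠ cj 1 A := by
        rw [cj_one]; intro h1; exact hP (Subtype.ext h1)
      obtain ⟨z, hz1, hz2⟩ := h.col hne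
      rw [cj_one] at hz2
      refine ⟨⟨cj z B, z, rfl⟩, Finset.mem_filter.2 ⟨Finset.mem_univ _, by rw [inf_comm]; exact hz2⟩, hP,
        Finset.mem_filter.2 ⟨Finset.mem_univ _, hz1⟩⟩
  rw [Nat.card_eq_fintype_card, ← Finset.card_univ, huniv, Finset.card_insert_of_notMem,
    Finset.card_biUnion]
  · have h2 : ∀ Q ∈ Ls, ((pts Q).erase P0).card = 4 := by
      intro Q hQ
      rw [Finset.card_erase_of_mem, hpts]
      exact Finset.mem_filter.2 ⟨Finset.mem_univ _, by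
        rw [inf_comm]; exact (Finset.mem_filter.1 hQ).2⟩
    rw [Finset.sum_congr rfl h2, Finset.sum_const, hLs]
    rfl
  · intro Q hQ Q' hQ' hne
    change Disjoint ((pts Q).erase P0) ((pts Q').erase P0)
    rw [Finset.disjoint_left]
    intro P hP hP'
    obtain ⟨hP1, hP2⟩ := Finset.mem_erase.1 hP
    obtain ⟨-, hP3⟩ := Finset.mem_erase.1 hP'
    obtain ⟨P, x, rfl⟩ := P
    obtain ⟨Q, z, rfl⟩ := Q
    obtain ⟨Q', w, rfl⟩ := Q'
    apply hne
    apply Subtype.ext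
    refine h.line_unique (x := x) (y := 1) (by rw [cj_one]; intro h1; exact hP1 (Subtype.ext h1))
      (Finset.mem_filter.1 hP2).2 ?_ (Finset.mem_filter.1 hP3).2 ?_
    · rw [cj_one, inf_comm]; exact (Finset.mem_filter.1 hQ).2
    · rw [cj_one, inf_comm]; exact (Finset.mem_filter.1 hQ').2
  · simp [Finset.mem_biUnion]

theorem Pln.card_G (h : Pln A B S) : Nat.card G = 20160 := by
  classical
  have : Fintype G := Fintype.ofFinite G
  have : Fintype (Pt A) := Fintype.ofFinite _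
  have : Fintype (MulAction.stabilizer G (⟨A, 1, by rw [cj_one]⟩ : Pt A)) := Fintype.ofFinite _
  have : Fintype (MulAction.orbit G (⟨A, 1, by rw [cj_one]⟩ : Pt A)) := Fintype.ofFinite _
  have h1 := MulAction.card_orbit_mul_card_stabilizer_eq_card_group G (⟨A, 1, by rw [cj_one]⟩ : Pt A)
  have h2 : MulAction.orbit G (⟨A, 1, by rw [cj_one]⟩ : Pt A) = Set.univ := by
    ext P
    simp only [Set.mem_univ, iff_true]
    obtain ⟨P, x, rfl⟩ := P
    exact ⟨x, rfl⟩
  have h3 : MulAction.stabilizer G (⟨A, 1, by rw [cj_one]⟩ : Pt A) = NN A := by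
    ext g
    rw [MulAction.mem_stabilizer_iff, mem_normalizer_iff_cj]
    exact ⟨fun h => congrArg Subtype.val h, fun h => Subtype.ext h⟩
  simp only [← Nat.card_eq_fintype_card] at h1
  rw [h3, h.cardN] at h1
  have h4 : Nat.card (MulAction.orbit G (⟨A, 1, by rw [cj_one]⟩ : Pt A)) = 21 := by
    rw [h2, Nat.card_congr (Equiv.Set.univ _), h.card_pts]
  rw [h4] at h1
  omega

/-- **identification** -/
theorem Pln.iso [IsSimpleGroup G] (h : Pln A B S) {F : Type*} [Field F] (hF : Nat.card F = 4) :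
    Nonempty (G ≃* Matrix.ProjectiveSpecialLinearGroup (Fin 3) F) := by
  classical
  have hfin : Fintype (Pt A) := Fintype.ofFinite _
  let L : Set (Finset (Pt A)) := {s | ∃ z : G, ∀ P : Pt A, P ∈ s ↔ P.1 ⊓ cj z B ≠ ⊥}
  have hcard : Fintype.card (Pt A) = 21 := by rw [← Nat.card_eq_fintype_card, h.card_pts]
  have hL : Cfsg.IsSteinerSystem 2 5 L := by
    constructor
    · rintro s ⟨z, hz⟩
      rw [← h.card_on_line' z, ← Fintype.card_coe, ← Nat.card_eq_fintype_card]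
      refine Nat.card_congr
        { toFun := fun Q => ⟨Q.1.1, Q.1.2, (hz Q.1).1 Q.2⟩
          invFun := fun Q => ⟨⟨Q.1, Q.2.1⟩, (hz ⟨Q.1, Q.2.1⟩).2 Q.2.2⟩
          left_inv := fun Q => rfl
          right_inv := fun Q => rfl }
    · intro s hs
      obtain ⟨P, Q, hPQ, rfl⟩ := Finset.card_eq_two.1 hs
      obtain ⟨P, x, rfl⟩ := P
      obtain ⟨Q, y, rfl⟩ := Q
      have hne : cj x A ≠ cj y A := fun h1 => hPQ (Subtype.ext h1)
      obtain ⟨z, hz1, hz2⟩ := h.col hne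
      refine ⟨Finset.univ.filter (fun P : Pt A => P.1 ⊓ cj z B ≠ ⊥), ⟨⟨z, fun P => by simp⟩, ?_⟩, ?_⟩
      · intro P hP
        rw [Finset.mem_insert, Finset.mem_singleton] at hP
        rcases hP with rfl | rfl
        · simpa using hz1
        · simpa using hz2
      · rintro b ⟨⟨w, hw⟩, hb⟩
        have h1 := (hw ⟨cj x A, x, rfl⟩).1 (hb (Finset.mem_insert_self _ _))
        have h2 := (hw ⟨cj y A, y, rfl⟩).1 (hb (Finset.mem_insert_of_mem (Finset.mem_singleton_self _)))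
        have h3 := h.line_unique hne hz1 hz2 h1 h2
        ext P
        rw [hw, Finset.mem_filter, h3]
        simp
  let φ : G →* Equiv.Perm (Pt A) := MulAction.toPermHom G (Pt A)
  have hφ : Function.Injective φ := by
    rw [← MonoidHom.ker_eq_bot_iff]
    have hn : φ.ker.Normal := inferInstance
    rcases hn.eq_bot_or_eq_top with h1 | h1
    · exact h1
    · exfalso
      have hA : NN A = ⊤ := by
        rw [eq_top_iff]
        intro g _
        have h2 : g ∈ φ.ker := by rw [h1]; trivial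
        rw [MonoidHom.mem_ker] at h2
        have h3 := congrArg (fun σ : Equiv.Perm (Pt A) => σ ⟨A, 1, by rw [cj_one]⟩) h2
        rw [mem_normalizer_iff_cj]
        exact congrArg Subtype.val h3
      have h2 := h.cardN
      rw [hA, Subgroup.card_top, h.card_G] at h2
      omega
  have hM : φ.range ≤ Cfsg.setSystemAut L := by
    rintro _ ⟨g, rfl⟩
    rw [MulAction.mem_stabilizer_iff]
    have hsub : ∀ g : G, φ g • L ⊆ L := by
      intro g
      rw [Set.smul_set_subset_iff]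
      rintro s ⟨z, hz⟩
      refine ⟨g * z, fun P => ?_⟩
      have h1 : P ∈ φ g • s ↔ (φ g)⁻¹ • P ∈ s := Finset.inv_smul_mem_iff.symm
      rw [h1, hz]
      have h2 : ((φ g)⁻¹ • P).1 = cj g⁻¹ P.1 := by
        rw [← map_inv]; rfl
      rw [h2, cj_mul]
      have h3 : cj g⁻¹ P.1 ⊓ cj z B = cj g⁻¹ (P.1 ⊓ cj g (cj z B)) := by
        rw [cj_inf, cj_inv_cj]
      rw [h3, Ne, cj_eq_bot_iff]
    apply Set.Subset.antisymm (hsub g)
    have h1 := hsub g⁻¹
    rw [map_inv] at h1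
    exact Set.subset_smul_set_iff.2 h1
  have hc : Nat.card φ.range = 20160 := by
    rw [← h.card_G]
    exact (Nat.card_congr (MonoidHom.ofInjective hφ).toEquiv).symm
  obtain ⟨e⟩ := Cfsg.Agent.Lib.PlanePSL.iso_of_subgroup hcard hL φ.range hM hc hF
  exact ⟨(MonoidHom.ofInjective hφ).trans e⟩

end final

end Cfsg.Agent.Lib.CIT
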