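import Cfsg.Agent.Lib.CITLoc

/-!
# CIT-groups (helper6): the quotient `N(A)/A`
-/

set_option autoImplicit false
set_option linter.all false

namespace Cfsg.Agent.Lib.CIT

open Subgroup SylowRel StrongEmbPt

section quot

variable {G : Type*} [Group G]

/-- short name for the normalizer -/
abbrev NN (A : Subgroup G) : Subgroup G := normalizer (A : Set G)

abbrev LQ (A : Subgroup G) : Type _ := (NN A) ⧸ (A.subgroupOf (NN A))

def pr (A : Subgroup G) : NN A →* LQ A := QuotientGroup.mk' _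

theorem pr_surj (A : Subgroup G) : Function.Surjective (pr A) := QuotientGroup.mk'_surjective _

theorem ker_pr (A : Subgroup G) : (pr A).ker = A.subgroupOf (NN A) := QuotientGroup.ker_mk' _

theorem pr_eq_one {A : Subgroup G} {x : NN A} : pr A x = 1 ↔ (x : G) ∈ A := by
  rw [← MonoidHom.mem_ker, ker_pr]; rfl

def bar (A T : Subgroup G) : Subgroup (LQ A) := (T.subgroupOf (NN A)).map (pr A)

theorem pr_mem_bar {A T : Subgroup G} (hAT : A ≤ T) {x : NN A} : pr A x ∈ bar A T ↔ (x : G) ∈ T := by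
  constructor
  · rintro ⟨y, hy, hyx⟩
    have h1 : pr A (x⁻¹ * y) = 1 := by rw [map_mul, map_inv, hyx, inv_mul_cancel]
    have h2 : ((x : G)⁻¹ * y) ∈ A := pr_eq_one.1 h1
    have h3 : (x : G) = y * ((x : G)⁻¹ * y)⁻¹ := by group
    rw [h3]; exact mul_mem hy (inv_mem (hAT h2))
  · intro h; exact ⟨x, h, rfl⟩

theorem le_cj_of_NN {A T : Subgroup G} (hT : A ≤ T) {g : G} (hg : g ∈ NN A) : A ≤ cj g T := by
  have := cj_mono (g := g) hT
  rwa [mem_normalizer_iff_cj.1 hg] at this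

theorem cj_le_NN {A T : Subgroup G} (hT : T ≤ NN A) {g : G} (hg : g ∈ NN A) : cj g T ≤ NN A := by
  have := cj_mono (g := g) hT
  rwa [cj_eq_of_mem hg] at this

theorem bar_cj {A T : Subgroup G} (hAT : A ≤ T) (g : NN A) :
    bar A (cj (g : G) T) = cj (pr A g) (bar A T) := by
  have hA : A ≤ cj (g : G) T := le_cj_of_NN hAT g.2
  ext x
  obtain ⟨x, rfl⟩ := pr_surj A x
  rw [pr_mem_bar hA, mem_cj, mem_cj, ← map_inv, ← map_mul, ← map_mul, pr_mem_bar hAT]
  rfl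

theorem bar_inj {A T T' : Subgroup G} (hAT : A ≤ T) (hAT' : A ≤ T') (hT : T ≤ NN A)
    (hT' : T' ≤ NN A) : bar A T = bar A T' ↔ T = T' := by
  refine ⟨fun h => ?_, fun h => by rw [h]⟩
  ext x
  constructor
  · intro hx
    have := (pr_mem_bar hAT (x := ⟨x, hT hx⟩)).2 hx
    rw [h, pr_mem_bar hAT'] at this; exact this
  · intro hx
    have := (pr_mem_bar hAT' (x := ⟨x, hT' hx⟩)).2 hx
    rw [← h, pr_mem_bar hAT] at this; exact this

theorem pr_mem_norm {A T : Subgroup G} (hAT : A ≤ T) (hT : T ≤ NN A) {x : NN A} :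
    pr A x ∈ NN (bar A T) ↔ (x : G) ∈ NN T := by
  rw [mem_normalizer_iff_cj, mem_normalizer_iff_cj, ← bar_cj hAT,
    bar_inj (le_cj_of_NN hAT x.2) hAT (cj_le_NN hT x.2) hT]

theorem smul_mk_iff {A T : Subgroup G} (hAT : A ≤ T) (hT : T ≤ NN A) {x a b : NN A} :
    (pr A x) • (QuotientGroup.mk (pr A a) : LQ A ⧸ NN (bar A T)) = QuotientGroup.mk (pr A b) ↔
      cj (x : G) (cj (a : G) T) = cj (b : G) T := by
  rw [MulAction.Quotient.smul_mk, smul_eq_mul, QuotientGroup.eq, ← map_mul, ← map_inv, ← map_mul,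
    pr_mem_norm hAT hT, mem_normalizer_iff_cj]
  have h1 : cj (((x * a)⁻¹ * b : NN A) : G) T = cj ((x : G) * a)⁻¹ (cj (b : G) T) := by
    rw [← cj_mul]; rfl
  rw [h1, cj_eq_iff, inv_inv, cj_mul]
  exact eq_comm

theorem smul_mk_iff' {A T : Subgroup G} (hAT : A ≤ T) (hT : T ≤ NN A) {x a : NN A} :
    (pr A x) • (QuotientGroup.mk (pr A a) : LQ A ⧸ NN (bar A T)) = QuotientGroup.mk (pr A a) ↔
      (x : G) ∈ NN (cj (a : G) T) := by
  rw [smul_mk_iff hAT hT, mem_normalizer_iff_cj]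

theorem mk_eq_iff {A T : Subgroup G} (hAT : A ≤ T) (hT : T ≤ NN A) {a b : NN A} :
    (QuotientGroup.mk (pr A a) : LQ A ⧸ NN (bar A T)) = QuotientGroup.mk (pr A b) ↔
      cj (a : G) T = cj (b : G) T := by
  have := smul_mk_iff hAT hT (x := 1) (a := a) (b := b)
  rw [map_one, one_smul] at this
  rw [this]
  simp only [OneMemClass.coe_one]
  rw [cj_one]

theorem card_bar [Finite G] {A T : Subgroup G} (hAT : A ≤ T) (hT : T ≤ NN A) :
    Nat.card T = Nat.card A * Nat.card (bar A T) := by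
  have h1 := SubgroupTools.card_map_mul_card_inf_ker (pr A) (T.subgroupOf (NN A))
  have h2 : T.subgroupOf (NN A) ⊓ (pr A).ker = A.subgroupOf (NN A) := by
    rw [ker_pr]
    apply le_antisymm inf_le_right
    exact le_inf (fun x hx => hAT hx) le_rfl
  rw [h2, SubgroupTools.card_subgroupOf_of_le hT, SubgroupTools.card_subgroupOf_of_le le_normalizer] at h1
  rw [← h1, mul_comm]
  rfl

end quot

section loc

variable {G : Type*} [Group G]

structure Loc (A : Subgroup G) : Prop where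
  ne : A ≠ ⊥
  o2 : O2 (NN A) = A
  nsyl : ¬ IsSyl 2 A (NN A)

theorem Loc.isPGroup [Finite G] {A : Subgroup G} (h : Loc A) : IsPGroup 2 A := by
  rw [← h.o2]; exact O2_isPGroup _

theorem Loc.le_syl [Finite G] {A T : Subgroup G} (h : Loc A) (hT : IsSyl 2 T (NN A)) : A ≤ T := by
  have := O2_le_isSyl hT
  rwa [h.o2] at this

theorem Loc.ne_syl {A T : Subgroup G} (h : Loc A) (hT : IsSyl 2 T (NN A)) : A ≠ T := by
  rintro rfl; exact h.nsyl hT

theorem Loc.conj_mem [Finite G] {A : Subgroup G} (h : Loc A) (g : G) : Loc (cj g A) := by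
  refine ⟨fun h1 => h.ne (cj_eq_bot_iff.1 h1), ?_, ?_⟩
  · rw [NN, ← cj_normalizer, O2_cj, h.o2]
  · intro h1
    rw [NN, ← cj_normalizer] at h1
    exact h.nsyl (IsSyl.cj_iff.1 h1)

/-- two different Sylow subgroups -/
theorem Loc.exists_ne [Finite G] {A T : Subgroup G} (h : Loc A) (hT : IsSyl 2 T (NN A)) :
    ∃ g ∈ NN A, g ∉ NN T := by
  by_contra hcon
  push Not at hcon
  have h1 : T ≤ A := by
    have := le_O2 hT.le hT.isPGroup (fun g hg => hcon g hg)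
    rwa [h.o2] at this
  exact h.ne_syl hT (le_antisymm (h.le_syl hT) h1)

theorem Loc.cent_le [Finite G] (hG : IsCIT G) {A : Subgroup G} (h : Loc A) :
    centralizer (A : Set G) ≤ A := by
  have h1 : centralizer (A : Set G) ≤ NN A := by
    intro x hx
    rw [mem_normalizer_iff]
    intro y
    rw [mem_centralizer_iff] at hx
    constructor
    · intro hy
      rw [← hx y hy, mul_inv_cancel_right]; exact hy
    · intro hy
      have := hx _ hy
      have h2 : y = x⁻¹ * ((x * y * x⁻¹) * x) := by group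
      rw [h2, this]
      have h3 : x⁻¹ * (x * (x * y * x⁻¹)) = x * y * x⁻¹ := by group
      rw [h3]; exact hy
  have h2 := le_O2 h1 (hG.cent h.isPGroup h.ne) (by
    intro g hg
    rw [mem_normalizer_iff_cj, cj_centralizer, mem_normalizer_iff_cj.1 hg])
  rwa [h.o2] at h2

theorem Loc.zeta_syl_le [Finite G] (hG : IsCIT G) {A T : Subgroup G} (h : Loc A)
    (hT : IsSyl 2 T (NN A)) : zeta T ≤ zeta A := by
  intro x hx
  have hx' := mem_zeta.1 hx
  refine mem_zeta.2 ⟨h.cent_le hG ?_, hx'.2.1, fun y hy => hx'.2.2 y (h.le_syl hT hy)⟩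
  rw [mem_centralizer_iff]
  intro y hy
  exact (hx'.2.2 y (h.le_syl hT hy)).symm

theorem Loc.zeta_ne [Finite G] {A : Subgroup G} (h : Loc A) : zeta A ≠ ⊥ :=
  zeta_ne_bot h.isPGroup h.ne

theorem Loc.zeta_le_Z {A : Subgroup G} {x y : G} (hx : x ∈ zeta A) (hy : y ∈ A) : x * y = y * x :=
  (mem_zeta.1 hx).2.2 y hy

/-- `C_{N(A)}(Z_A) = A` -/
theorem Loc.mem_of_cent [Finite G] (hG : IsCIT G) {A : Subgroup G} (h : Loc A) {x : G} (hx : x ∈ NN A)
    (hc : ∀ z ∈ zeta A, x * z = z * x) : x ∈ A := by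
  have h1 : IsPGroup 2 (centralizer (zeta A : Set G)) :=
    hG.cent (h.isPGroup.to_le (zeta_le A)) h.zeta_ne
  have h2 := le_O2 (M := NN A) (N := NN A ⊓ centralizer (zeta A : Set G)) inf_le_left
    (h1.to_le inf_le_right) (by
      intro g hg
      rw [mem_normalizer_iff_cj, cj_inf, cj_centralizer, ← zeta_cj, mem_normalizer_iff_cj.1 hg,
        cj_eq_of_mem hg])
  rw [h.o2] at h2
  refine h2 (mem_inf.2 ⟨hx, ?_⟩)
  rw [mem_centralizer_iff]
  intro z hz
  exact (hc z hz).symm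

end loc

section data

variable {G : Type*} [Group G] [Finite G]

theorem Loc.citQ (hG : IsCIT G) {A : Subgroup G} (h : Loc A) : IsCIT (LQ A) :=
  (hG.subgroup (NN A)).quotient _ (h.isPGroup.comap_of_injective _ (NN A).subtype_injective)

theorem map_ker_pr (A : Subgroup G) : (pr A).ker.map (NN A).subtype = A := by
  rw [ker_pr, map_subgroupOf_eq_of_le le_normalizer]

theorem isPGroup_ker {A : Subgroup G} (h : IsPGroup 2 A) : IsPGroup 2 (pr A).ker := by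
  rw [ker_pr]; exact h.comap_of_injective _ (NN A).subtype_injective

theorem Loc.ne_bot_O2 {A : Subgroup G} (h : Loc A) : O2 (NN A) ≠ ⊥ := by
  rw [h.o2]; exact h.ne

theorem Loc.ti (hP : P2 G) {A : Subgroup G} (h : Loc A) : TI2 (LQ A) := by
  apply ti_of_inf_le (pr A) (pr_surj A) (isPGroup_ker h.isPGroup)
  intro T T' hT hT' hne
  rw [hP _ T T' h.ne_bot_O2 hT hT' hne, h.o2, map_ker_pr]

theorem Loc.inf_eq (hP : P2 G) {A T T' : Subgroup G} (h : Loc A) (hT : IsSyl 2 T (NN A))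
    (hT' : IsSyl 2 T' (NN A)) (hne : T ≠ T') : T ⊓ T' = A := by
  rw [hP _ T T' h.ne_bot_O2 hT hT' hne, h.o2]

theorem Loc.bar_syl {A T : Subgroup G} (h : Loc A) (hT : IsSyl 2 T (NN A)) :
    IsSyl 2 (bar A T) ⊤ := isSyl_map_quot (pr A) (pr_surj A) hT

theorem se_of_ti {X : Type*} [Group X] [Finite X] (hTI : TI2 X) {P : Subgroup X}
    (hP : IsSyl 2 P ⊤) (hP1 : P ≠ ⊥) (hPn : ∃ g, g ∉ NN P) : Cfsg.IsStronglyEmbedded (NN P) := by
  haveI : Fact (Nat.Prime 2) := ⟨Nat.prime_two⟩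
  obtain ⟨g0, hg0⟩ := hPn
  apply of_fix
  · intro h; apply hg0; rw [h]; trivial
  · obtain ⟨u, hu, hu1⟩ := exists_mem_ne_one hP1
    obtain ⟨k, hk⟩ := pow_two_of_isPGroup hP.isPGroup hu
    obtain ⟨m, hm⟩ := exists_pow_two hu1 hk
    rw [even_iff_two_dvd, ← hm]
    exact Subgroup.orderOf_dvd_natCard _ (le_normalizer (pow_mem hu m))
  · intro x g hxo hx hgx
    have hmem : ∀ y, orderOf y = 2 → y ∈ NN P → y ∈ P := by
      intro y hyo hy
      have hyk : y ^ 2 ^ 1 = 1 := by rw [pow_one, ← hyo, pow_orderOf_eq_one]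
      have h1 : IsPGroup 2 (P ⊔ zpowers y : Subgroup X) :=
        IsPGroup.to_sup_of_normal_left' hP.isPGroup (isPGroup_zpowers hyk) (zpowers_le.2 hy)
      rw [← hP.eq_of_le h1 le_sup_left le_top]
      exact mem_sup_right (mem_zpowers y)
    have h1 := hmem x hxo hx
    have h2 := hmem (g * x * g⁻¹) (by
      rw [← hxo]
      have := orderOf_injective (MulAut.conj g).toMonoidHom (MulAut.conj g).injective x
      simpa using this) hgx
    rw [mem_normalizer_iff_cj]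
    by_contra hne
    have h3 := hTI _ _ (hP.cj g |> (by rw [cj_top] at *; exact ·)) hP hne
    have h4 : g * x * g⁻¹ ∈ (cj g P ⊓ P : Subgroup X) := ⟨conj_mem_cj h1, h2⟩
    rw [h3, mem_bot] at h4
    have h5 : x = 1 := by
      have : x = g⁻¹ * (g * x * g⁻¹) * g := by group
      rw [this, h4]; group
    rw [h5, orderOf_one] at hxo; omega

/-- The data of `N(A)/A`. -/
structure LData (A T : Subgroup G) (n : ℕ) : Prop where
  pos : 0 < n
  odd : Odd n
  rel : T.relIndex (NN A ⊓ NN T) = n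
  inv : Nat.card {x : LQ A // x ∈ bar A T ∧ orderOf x = 2} = n
  conj : ∀ z w : G, z ∈ T → z ∉ A → z * z ∈ A → w ∈ T → w ∉ A → w * w ∈ A →
    ∃ m ∈ NN A, m ∈ NN T ∧ w⁻¹ * (m * z * m⁻¹) ∈ A
  swap : ∀ g ∈ NN A, g ∉ NN T → ∃ u ∈ NN A, u ∉ A ∧ u * u ∈ A ∧ cj u T = cj g T ∧
    (∀ x ∈ NN A, x ∈ NN T → x ∈ NN (cj g T) → u * x * u⁻¹ * x ∈ A) ∧
    Nat.card (NN A ⊓ NN T ⊓ NN (cj g T) : Subgroup G) = Nat.card A * n
  card : n ≠ 1 → Nat.card (NN A) = Nat.card (NN A ⊓ NN T : Subgroup G) * (A.relIndex T + 1)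
  three : n ≠ 1 → ∀ a b c x : G, a ∈ NN A → b ∈ NN A → c ∈ NN A → cj a T ≠ cj b T → cj b T ≠ cj c T →
    cj a T ≠ cj c T → x ∈ NN A → x ∈ NN (cj a T) → x ∈ NN (cj b T) → x ∈ NN (cj c T) → x ∈ A
  reg : n ≠ 1 → ∀ a b c : G, a ∈ NN A → b ∈ NN A → c ∈ NN A → cj b T ≠ cj a T → cj c T ≠ cj a T →
    ∃ s ∈ cj a T, cj s (cj b T) = cj c T
  comm : n ≠ 1 → ∀ a b : G, a ∈ NN A → b ∈ NN A → cj a T ≠ cj b T → ∀ x y : G, x ∈ NN A → y ∈ NN A →
    x ∈ NN (cj a T) → y ∈ NN (cj a T) → x ∈ NN (cj b T) → y ∈ NN (cj b T) →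
    (y * x)⁻¹ * (x * y) ∈ A

theorem NN_mem_of {A T : Subgroup G} {g x : G} (hx : x ∈ NN (cj g T)) : g⁻¹ * x * g ∈ NN T := by
  rw [NN, ← cj_normalizer, mem_cj] at hx; exact hx

/-- elements of `N(A) ∩ N(T)` that square into `A` lie in `T` -/
theorem mem_syl_of_sq {A T : Subgroup G} (hT : IsSyl 2 T (NN A)) (hA : IsPGroup 2 A) {x : G}
    (hx : x ∈ NN A) (hxT : x ∈ NN T) (hx2 : x * x ∈ A) : x ∈ T := by
  haveI : Fact (Nat.Prime 2) := ⟨Nat.prime_two⟩
  obtain ⟨k, hk⟩ := pow_two_of_isPGroup hA hx2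
  have hxk : x ^ 2 ^ (k+1) = 1 := by
    rw [pow_succ', pow_mul, pow_two]; exact hk
  have h1 : IsPGroup 2 (T ⊔ zpowers x : Subgroup G) :=
    IsPGroup.to_sup_of_normal_left' hT.isPGroup (isPGroup_zpowers hxk) (zpowers_le.2 hxT)
  rw [← hT.eq_of_le h1 le_sup_left (sup_le hT.le (zpowers_le.2 hx))]
  exact mem_sup_right (mem_zpowers x)

theorem Loc.lData (hG : IsCIT G) (hP : P2 G) {A T : Subgroup G} (h : Loc A)
    (hT : IsSyl 2 T (NN A)) : ∃ n, LData A T n := by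
  classical
  haveI : Fact (Nat.Prime 2) := ⟨Nat.prime_two⟩
  have hAT := h.le_syl hT
  have hTN := hT.le
  have hAT' : A ≠ T := h.ne_syl hT
  have hAp := h.isPGroup
  have hX := h.citQ hG
  have hTI := h.ti hP
  have hbS := h.bar_syl hT
  have hb1 : bar A T ≠ ⊥ := by
    intro h1
    apply hAT'
    apply le_antisymm hAT
    intro x hx
    have h2 : pr A ⟨x, hTN hx⟩ ∈ bar A T := (pr_mem_bar hAT).2 hx
    rw [h1, mem_bot, pr_eq_one] at h2
    exact h2
  obtain ⟨g0, hg0, hg0'⟩ := h.exists_ne hT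
  have hSE : Cfsg.IsStronglyEmbedded (NN (bar A T)) :=
    se_of_ti hTI hbS hb1 ⟨pr A ⟨g0, hg0⟩, fun h1 => hg0' ((pr_mem_norm hAT hTN).1 h1)⟩
  obtain ⟨n, hn⟩ := hX.seData hSE
  have hbM : IsSyl 2 (bar A T) (NN (bar A T)) := hbS.mono le_normalizer le_top
  -- cards
  have hMcard : Nat.card (NN A ⊓ NN T : Subgroup G) = Nat.card A * Nat.card (NN (bar A T)) := by
    have h1 := card_bar (A := A) (T := NN A ⊓ NN T) (le_inf le_normalizer (hAT.trans le_normalizer))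
      inf_le_left
    rw [h1]
    congr 2
    have : bar A (NN A ⊓ NN T) = NN (bar A T) := by
      ext x
      obtain ⟨x, rfl⟩ := pr_surj A x
      rw [pr_mem_bar (le_inf le_normalizer (hAT.trans le_normalizer)), pr_mem_norm hAT hTN]
      exact ⟨fun h => h.2, fun h => ⟨x.2, h⟩⟩
    rw [this]
  have hTM : T ≤ NN A ⊓ NN T := le_inf hTN le_normalizer
  have hApos : 0 < Nat.card A := Nat.card_pos
  have hrel : T.relIndex (NN A ⊓ NN T) = n := by
    have h1 := card_mul_rel hTM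
    have h2 := card_mul_rel (le_normalizer : bar A T ≤ NN (bar A T))
    rw [hn.relIndex _ hbM] at h2
    rw [hMcard, card_bar hAT hTN, ← h2] at h1
    have h3 : 0 < Nat.card (bar A T) := Nat.card_pos
    have h4 : (Nat.card A * Nat.card (bar A T)) * T.relIndex (NN A ⊓ NN T) =
      (Nat.card A * Nat.card (bar A T)) * n := by rw [h1]; ring
    exact Nat.eq_of_mul_eq_mul_left (Nat.mul_pos hApos h3) h4
  have hmemT : ∀ x : LQ A, x ∈ NN (bar A T) → orderOf x = 2 → x ∈ bar A T := by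
    intro x hx hxo
    obtain ⟨x, rfl⟩ := pr_surj A x
    rw [pr_mem_bar hAT]
    apply mem_syl_of_sq hT hAp x.2 ((pr_mem_norm hAT hTN).1 hx)
    have : pr A (x * x) = 1 := by rw [map_mul]; exact mul_self hxo
    exact pr_eq_one.1 this
  have horder : ∀ z : NN A, (z : G) ∉ A → (z : G) * z ∈ A → orderOf (pr A z) = 2 := by
    intro z h1 h2
    apply orderOf_two
    · rw [← map_mul]; exact pr_eq_one.2 h2
    · intro h3; exact h1 (pr_eq_one.1 h3)
  -- zData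
  have hZ : n ≠ 1 → ZData (NN (bar A T)) (bar A T) n := fun hn1 =>
    hX.zData hn hSE hbM le_rfl hn1
  refine ⟨n, ⟨hn.pos, hn.odd, hrel, ?_, ?_, ?_, ?_, ?_, ?_, ?_⟩⟩
  · rw [← hn.card_inv]
    refine Nat.card_congr (Equiv.subtypeEquivRight ?_)
    intro x
    constructor
    · rintro ⟨h1, h2⟩; exact ⟨le_normalizer h1, h2⟩
    · rintro ⟨h1, h2⟩; exact ⟨hmemT x h1 h2, h2⟩
  · intro z w hz hzA hz2 hw hwA hw2
    obtain ⟨m, hm, hmz⟩ := hn.conj (pr A ⟨z, hTN hz⟩) (pr A ⟨w, hTN hw⟩)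
      (le_normalizer ((pr_mem_bar hAT).2 hz)) (horder _ hzA hz2)
      (le_normalizer ((pr_mem_bar hAT).2 hw)) (horder _ hwA hw2)
    obtain ⟨m, rfl⟩ := pr_surj A m
    refine ⟨m, m.2, (pr_mem_norm hAT hTN).1 hm, ?_⟩
    have : pr A (⟨w, hTN hw⟩⁻¹ * (m * ⟨z, hTN hz⟩ * m⁻¹)) = 1 := by
      rw [map_mul, map_mul, map_mul, map_inv, map_inv, hmz, inv_mul_cancel]
    exact pr_eq_one.1 this
  · intro g hg hgT
    obtain ⟨u, huo, hu, hcard, hinv⟩ := hn.swap (pr A ⟨g, hg⟩)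
      (fun h1 => hgT ((pr_mem_norm hAT hTN).1 h1))
    obtain ⟨u, rfl⟩ := pr_surj A u
    refine ⟨u, u.2, ?_, ?_, ?_, ?_, ?_⟩
    · intro h1
      rw [← pr_eq_one] at h1
      rw [h1, orderOf_one] at huo; omega
    · have : pr A (u * u) = 1 := by rw [map_mul]; exact mul_self huo
      exact pr_eq_one.1 this
    · have h1 : pr A (⟨g, hg⟩⁻¹ * u) ∈ NN (bar A T) := by rw [map_mul, map_inv]; exact hu
      rw [pr_mem_norm hAT hTN, mem_normalizer_iff_cj] at h1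
      have h2 : cj (g⁻¹ * (u : G)) T = T := h1
      rw [cj_mul, cj_eq_iff, inv_inv] at h2
      exact h2
    · intro x hx hxT hxg
      have h1 : pr A ⟨x, hx⟩ ∈ NN (bar A T) ⊓ cj (pr A ⟨g, hg⟩) (NN (bar A T)) := by
        refine mem_inf.2 ⟨(pr_mem_norm hAT hTN).2 hxT, ?_⟩
        rw [mem_cj, ← map_inv, ← map_mul, ← map_mul, pr_mem_norm hAT hTN]
        exact NN_mem_of (A := A) hxg
      have h2 := hinv _ h1
      have h3 : pr A (u * ⟨x, hx⟩ * u⁻¹ * ⟨x, hx⟩) = 1 := by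
        rw [map_mul, map_mul, map_mul, map_inv, h2, inv_mul_cancel]
      exact pr_eq_one.1 h3
    · have h1 : A ≤ NN A ⊓ NN T ⊓ NN (cj g T) := by
        refine le_inf (le_inf le_normalizer (hAT.trans le_normalizer)) ?_
        exact (le_cj_of_NN hAT hg).trans le_normalizer
      rw [card_bar h1 (inf_le_left.trans inf_le_left), ← hcard]
      congr 2
      have : bar A (NN A ⊓ NN T ⊓ NN (cj g T)) = NN (bar A T) ⊓ cj (pr A ⟨g, hg⟩) (NN (bar A T)) := by
        ext x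
        obtain ⟨x, rfl⟩ := pr_surj A x
        have e1 : pr A x ∈ NN (bar A T) ⊓ cj (pr A ⟨g, hg⟩) (NN (bar A T)) ↔
            (x : G) ∈ NN T ∧ g⁻¹ * (x : G) * g ∈ NN T := by
          rw [mem_inf, mem_cj, ← map_inv, ← map_mul, ← map_mul, pr_mem_norm hAT hTN,
            pr_mem_norm hAT hTN]
          rfl
        rw [e1, pr_mem_bar h1, mem_inf, mem_inf]
        constructor
        · rintro ⟨⟨-, h3⟩, h4⟩
          exact ⟨h3, NN_mem_of (A := A) h4⟩
        · rintro ⟨h3, h4⟩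
          refine ⟨⟨x.2, h3⟩, ?_⟩
          rw [NN, ← cj_normalizer, mem_cj]; exact h4
      rw [this]
  · intro hn1
    have hz := (hZ hn1).card
    have h1 := Subgroup.card_eq_card_quotient_mul_card_subgroup (NN (bar A T))
    have h2 : Nat.card (NN A) = Nat.card A * Nat.card (LQ A) := by
      have h3 := Subgroup.card_eq_card_quotient_mul_card_subgroup (A.subgroupOf (NN A))
      rw [SubgroupTools.card_subgroupOf_of_le le_normalizer] at h3
      rw [h3, mul_comm]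
    have h4 : Nat.card (bar A T) = A.relIndex T := by
      have h5 := card_mul_rel hAT
      rw [card_bar hAT hTN] at h5
      exact (Nat.eq_of_mul_eq_mul_left hApos h5).symm
    rw [h2, h1, hz, hMcard, h4]; ring
  · intro hn1 a b c x ha hb hc hab hbc hac hx hxa hxb hxc
    have h1 := (hZ hn1).three (pr A ⟨x, hx⟩) (QuotientGroup.mk (pr A ⟨a, ha⟩))
      (QuotientGroup.mk (pr A ⟨b, hb⟩)) (QuotientGroup.mk (pr A ⟨c, hc⟩))
      (fun h => hab ((mk_eq_iff hAT hTN).1 h)) (fun h => hbc ((mk_eq_iff hAT hTN).1 h))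
      (fun h => hac ((mk_eq_iff hAT hTN).1 h)) ((smul_mk_iff' hAT hTN).2 hxa)
      ((smul_mk_iff' hAT hTN).2 hxb) ((smul_mk_iff' hAT hTN).2 hxc)
    exact pr_eq_one.1 h1
  · intro hn1 a b c ha hb hc hab hac
    obtain ⟨s, hs, hsb⟩ := (hZ hn1).reg (pr A ⟨a, ha⟩) (QuotientGroup.mk (pr A ⟨b, hb⟩))
      (QuotientGroup.mk (pr A ⟨c, hc⟩)) (fun h => hab ((mk_eq_iff hAT hTN).1 h))
      (fun h => hac ((mk_eq_iff hAT hTN).1 h))
    obtain ⟨s, rfl⟩ := pr_surj A s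
    rw [← bar_cj hAT, pr_mem_bar (le_cj_of_NN hAT ha)] at hs
    exact ⟨s, hs, (smul_mk_iff hAT hTN).1 hsb⟩
  · intro hn1 a b ha hb hab x y hx hy hxa hya hxb hyb
    have hst : ∀ (x : NN A) (a : NN A), (x : G) ∈ NN (cj (a : G) T) → pr A x ∈ MulAction.stabilizer (LQ A)
        (QuotientGroup.mk (pr A a) : LQ A ⧸ NN (bar A T)) := by
      intro x a hxa
      rw [MulAction.mem_stabilizer_iff]
      exact (smul_mk_iff' hAT hTN).2 hxa
    have h1 := (hZ hn1).comm (QuotientGroup.mk (pr A ⟨a, ha⟩)) (QuotientGroup.mk (pr A ⟨b, hb⟩))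
      (fun h => hab ((mk_eq_iff hAT hTN).1 h)) (pr A ⟨x, hx⟩)
      (mem_inf.2 ⟨hst ⟨x, hx⟩ ⟨a, ha⟩ hxa, hst ⟨x, hx⟩ ⟨b, hb⟩ hxb⟩) (pr A ⟨y, hy⟩)
      (mem_inf.2 ⟨hst ⟨y, hy⟩ ⟨a, ha⟩ hya, hst ⟨y, hy⟩ ⟨b, hb⟩ hyb⟩)
    have h2 : pr A ((⟨y, hy⟩ * ⟨x, hx⟩)⁻¹ * (⟨x, hx⟩ * ⟨y, hy⟩)) = 1 := by
      rw [map_mul, map_inv, map_mul, map_mul, h1, inv_mul_cancel]
    exact pr_eq_one.1 h2

end data

end Cfsg.Agent.Lib.CIT
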