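import Mathlib
import Cfsg.Agent.Lib.CITBasic
import Cfsg.Agent.Lib.MinNormal
import Cfsg.Agent.Lib.SchurZassenhaus
import Cfsg.Agent.S0205

/-!
# Non-solvable CIT groups: the simple socle of `G / O₂(G)` (helper69)
-/

set_option autoImplicit false
set_option linter.unusedSectionVars false

namespace Cfsg.Agent.Lib.CITRad

open Subgroup Cfsg Cfsg.Agent.Lib.CIT
open scoped commutatorElement
open Cfsg.Agent.Lib.MinNormal (InvBy MinBy)

variable {X : Type*} [Group X] [Finite X]

/-- an involution without fixed points on a subgroup `N` of odd order it normalises inverts `N` -/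
theorem inverts {N : Subgroup X} {t : X} (ht : t * t = 1)
    (hn : ∀ y ∈ N, t * y * t⁻¹ ∈ N) (hf : ∀ y ∈ N, t * y = y * t → y = 1) :
    ∀ y ∈ N, t * y * t⁻¹ = y⁻¹ := by
  classical
  have hti : t⁻¹ = t := inv_eq_of_mul_eq_one_left ht
  let f : N → N := fun y => ⟨(y : X)⁻¹ * (t * (y : X) * t⁻¹), N.mul_mem (N.inv_mem y.2) (hn _ y.2)⟩
  have hinj : Function.Injective f := by
    intro a b hab
    have h1 := congrArg Subtype.val hab
    change (a : X)⁻¹ * (t * (a : X) * t⁻¹) = (b : X)⁻¹ * (t * (b : X) * t⁻¹) at h1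
    have h0 : t * ((b : X) * (a : X)⁻¹) * t⁻¹ = (b : X) * (a : X)⁻¹ := by
      calc t * ((b : X) * (a : X)⁻¹) * t⁻¹ =
          b * ((b : X)⁻¹ * (t * b * t⁻¹)) * ((a : X)⁻¹ * (t * a * t⁻¹))⁻¹ * (a : X)⁻¹ := by group
        _ = (b : X) * (a : X)⁻¹ := by rw [h1]; group
    have h2 : t * ((b : X) * (a : X)⁻¹) = ((b : X) * (a : X)⁻¹) * t := by
      calc t * ((b : X) * (a : X)⁻¹) = (t * ((b : X) * (a : X)⁻¹) * t⁻¹) * t := by group
        _ = _ := by rw [h0]
    have h3 := hf _ (N.mul_mem b.2 (N.inv_mem a.2)) h2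
    exact Subtype.ext (mul_inv_eq_one.1 h3).symm
  have hsurj : Function.Surjective f := Finite.injective_iff_surjective.1 hinj
  intro y hy
  obtain ⟨a, ha⟩ := hsurj ⟨y, hy⟩
  have h1 := congrArg Subtype.val ha
  change (a : X)⁻¹ * (t * (a : X) * t⁻¹) = y at h1
  rw [← h1, hti]
  have h2 : t * ((a : X)⁻¹ * (t * (a : X) * t)) * t = (t * (a : X)⁻¹ * t) * (a : X) * (t * t) := by group
  rw [h2, ht, mul_one, mul_inv_rev, mul_inv_rev, mul_inv_rev, inv_inv, hti]
  group

/-- elements of odd order are squares of their powers -/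
theorem exists_sq {N : Subgroup X} (hN : Odd (Nat.card N)) {c : X} (hc : c ∈ N) :
    ∃ d ∈ N, d * d = c := by
  obtain ⟨k, hk⟩ := hN
  refine ⟨c ^ (k + 1), N.pow_mem hc _, ?_⟩
  have h1 : c ^ Nat.card N = 1 := by
    have h2 : (⟨c, hc⟩ : N) ^ Nat.card N = 1 := pow_card_eq_one'
    exact congrArg Subtype.val h2
  rw [← pow_add, show k + 1 + (k + 1) = Nat.card N + 1 from by omega, pow_add, h1, one_mul, pow_one]

theorem odd_orderOf {N : Subgroup X} (hN : Odd (Nat.card N)) {y : X} (hy : y ∈ N) : Odd (orderOf y) :=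
  Odd.of_dvd_nat hN (Subgroup.orderOf_dvd_natCard N hy)

theorem odd_of_no_invol {N : Subgroup X} (h : ∀ y ∈ N, orderOf y ≠ 2) : Odd (Nat.card N) := by
  rw [← Nat.not_even_iff_odd, even_iff_two_dvd]
  intro h2
  have : Fact (Nat.Prime 2) := ⟨Nat.prime_two⟩
  obtain ⟨y, hy⟩ := exists_prime_orderOf_dvd_card' 2 h2
  exact h y y.2 (by rw [← hy, orderOf_coe])

theorem isSolvable_of_quot {N : Subgroup X} [N.Normal] (h1 : Group.IsSolvable N)
    (h2 : Group.IsSolvable (X ⧸ N)) : Group.IsSolvable X := by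
  refine Group.isSolvable_of_ker_le_range N.subtype (QuotientGroup.mk' N) ?_
  rw [QuotientGroup.ker_mk', Subgroup.range_subtype]

/-- a CIT group with a nontrivial normal subgroup of odd order is solvable -/
theorem solvable_of_odd_normal (h : IsCIT X) {N : Subgroup X} [hNn : N.Normal] (hN : N ≠ ⊥)
    (hodd : Odd (Nat.card N)) : Group.IsSolvable X := by
  have : Fact (Nat.Prime 2) := ⟨Nat.prime_two⟩
  rcases Nat.even_or_odd (Nat.card X) with hev | ho
  swap
  · exact Cfsg.Agent.S0205.result ho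
  obtain ⟨t, ht⟩ := exists_prime_orderOf_dvd_card' 2 (even_iff_two_dvd.1 hev)
  obtain ⟨y, hy, hy1⟩ := exists_mem_ne_one hN
  have hyo := odd_orderOf hodd hy
  have hinvN : ∀ s : X, orderOf s = 2 → ∀ z ∈ N, s * z * s⁻¹ = z⁻¹ := by
    intro s hs
    apply inverts
    · rw [← pow_two, ← hs, pow_orderOf_eq_one]
    · exact fun z hz => hNn.conj_mem z hz s
    · intro z hz hc
      exact h.eq_one' hs (odd_orderOf hodd hz) hc.symm
  set C : Subgroup X := centralizer (N : Set X) with hC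
  have hCn : C.Normal := Subgroup.normal_centralizer
  have hCo : Odd (Nat.card C) := by
    apply odd_of_no_invol
    intro c hc hc2
    apply hy1
    exact h.eq_one' hc2 hyo (mem_centralizer_iff.1 hc y hy)
  have hCs : Group.IsSolvable C := Cfsg.Agent.S0205.result hCo
  have htt : t * t = 1 := by rw [← pow_two, ← ht, pow_orderOf_eq_one]
  have hti : t⁻¹ = t := inv_eq_of_mul_eq_one_left htt
  have htC : ∀ y ∈ C, t * y * t⁻¹ = y⁻¹ := by
    apply inverts htt
    · exact fun z hz => hCn.conj_mem z hz t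
    · intro z hz hc
      exact h.eq_one' ht (odd_orderOf hCo hz) hc.symm
  have hq : IsPGroup 2 (X ⧸ C) := by
    intro g'
    obtain ⟨g, rfl⟩ := QuotientGroup.mk'_surjective C g'
    -- g t g⁻¹ t ∈ C
    have hgt : orderOf (g * t * g⁻¹) = 2 := by
      rw [← ht]
      exact orderOf_injective (MulAut.conj g).toMonoidHom (MulAut.conj g).injective t
    have hc : (g * t * g⁻¹) * t ∈ C := by
      rw [hC, mem_centralizer_iff]
      intro z hz
      have h1 := hinvN t ht z hz
      have h2 := hinvN _ hgt z⁻¹ (N.inv_mem hz)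
      rw [inv_inv] at h2
      have h3 : (g * t * g⁻¹) * (t * z * t⁻¹) * (g * t * g⁻¹)⁻¹ = z := by rw [h1, h2]
      calc z * ((g * t * g⁻¹) * t) = ((g * t * g⁻¹) * (t * z * t⁻¹) * (g * t * g⁻¹)⁻¹) * ((g * t * g⁻¹) * t) := by
            rw [h3]
        _ = _ := by group
    obtain ⟨d, hd, hdc⟩ := exists_sq hCo hc
    have h4 : d * t * d⁻¹ = g * t * g⁻¹ := by
      have e1 : t * d⁻¹ * t⁻¹ = d := by rw [htC _ (C.inv_mem hd), inv_inv]
      calc d * t * d⁻¹ = d * (t * d⁻¹ * t⁻¹) * t := by group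
        _ = (g * t * g⁻¹) * t * t := by rw [e1, hdc]
        _ = g * t * g⁻¹ := by rw [mul_assoc, htt, mul_one]
    have h5 : d⁻¹ * g ∈ centralizer ({t} : Set X) := by
      rw [mem_cent]
      have e2 : g⁻¹ * (d * t * d⁻¹) * g = t := by rw [h4]; group
      calc d⁻¹ * g * t = d⁻¹ * g * (g⁻¹ * (d * t * d⁻¹) * g) := by rw [e2]
        _ = t * (d⁻¹ * g) := by group
    obtain ⟨k, hk⟩ := h t ht ⟨_, h5⟩
    refine ⟨k, ?_⟩
    have h6 : (d⁻¹ * g) ^ 2 ^ k = 1 := by simpa using congrArg Subtype.val hk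
    have h7 : QuotientGroup.mk' C g = QuotientGroup.mk' C (d⁻¹ * g) := by
      rw [map_mul]
      have : QuotientGroup.mk' C d⁻¹ = 1 := (QuotientGroup.eq_one_iff _).2 (C.inv_mem hd)
      rw [this, one_mul]
    rw [h7, ← map_pow, h6, map_one]
  have hqs : Group.IsSolvable (X ⧸ C) := by
    have := hq.isNilpotent
    infer_instance
  exact isSolvable_of_quot hCs hqs

/-- the simple socle of a non-solvable CIT group with `O₂ = 1` -/
theorem exists_simple (h : IsCIT X) (hns : ¬ Group.IsSolvable X) (hO2 : Cfsg.pCore 2 X = ⊥) :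
    ∃ T : Subgroup X, T.Normal ∧ IsSimpleGroup T ∧ (¬ ∀ a b : T, a * b = b * a) ∧
      centralizer (T : Set X) = ⊥ ∧ ∃ z ∈ T, orderOf z = 2 := by
  classical
  have h2 : Fact (Nat.Prime 2) := ⟨Nat.prime_two⟩
  have htop : (⊤ : Subgroup X) ≠ ⊥ := by
    intro h0
    apply hns
    have : Subsingleton X := by
      rw [← Subgroup.subsingleton_iff]
      exact subsingleton_of_bot_eq_top h0.symm
    infer_instance
  obtain ⟨N, -, hN⟩ := MinNormal.exists_minBy (⊤ : Subgroup X) ⊤ htop (MinNormal.InvBy.self _)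
  have hNn := hN.normal
  have hno : ¬ Odd (Nat.card N) := fun ho => hns (solvable_of_odd_normal h hN.ne_bot ho)
  have hnab : ¬ ∀ x ∈ N, ∀ y ∈ N, x * y = y * x := by
    intro hab
    obtain ⟨r, hr, hr'⟩ := hN.elementary hab
    rcases hr.eq_two_or_odd' with rfl | hro
    · have hp : IsPGroup 2 N := by
        intro y
        exact ⟨1, Subtype.ext (by simpa using hr' y y.2)⟩
      have := Fitting.le_pCore 2 hNn hp
      rw [hO2, le_bot_iff] at this
      exact hN.ne_bot this
    · apply hno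
      apply odd_of_no_invol
      intro y hy hy2
      have h3 := orderOf_dvd_of_pow_eq_one (hr' y hy)
      rw [hy2] at h3
      exact (Nat.not_even_iff_odd.2 hro) (even_iff_two_dvd.2 h3)
  obtain ⟨T, hTN, hT⟩ := MinNormal.exists_minBy N N hN.ne_bot (MinNormal.InvBy.self _)
  have hTna := hN.nonabelian_of hT hTN hnab
  -- `T` contains an involution
  have hTe : ∃ z ∈ T, orderOf z = 2 := by
    by_contra hcon
    push Not at hcon
    have ho := odd_of_no_invol hcon
    have hs : Group.IsSolvable T := Cfsg.Agent.S0205.result ho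
    have hlt : ⁅T, T⁆ < T := by
      have hT1 : Nontrivial T := (Subgroup.nontrivial_iff_ne_bot T).2 hT.ne_bot
      have h3 := Group.IsSolvable.commutator_lt_top_of_nontrivial T
      have h4 := (Subgroup.map_subtype_lt_map_subtype (G' := T)).2 h3
      rwa [_root_.commutator_def, Subgroup.map_commutator, ← MonoidHom.range_eq_map, T.range_subtype] at h4
    have hinv : InvBy N ⁅T, T⁆ := by
      intro n hn t ht
      have h5 : MinNormal.cj n T = T := by
        apply le_antisymm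
        · rintro _ ⟨x, hx, rfl⟩
          exact hT.inv n hn x hx
        · intro x hx
          rw [MinNormal.mem_cj]
          simpa using hT.inv n⁻¹ (N.inv_mem hn) x hx
      have h6 : (MulAut.conj n).toMonoidHom t ∈ (⁅T, T⁆ : Subgroup X).map (MulAut.conj n).toMonoidHom :=
        Subgroup.mem_map_of_mem _ ht
      rw [Subgroup.map_commutator] at h6
      change _ ∈ ⁅MinNormal.cj n T, MinNormal.cj n T⁆ at h6
      rw [h5] at h6
      exact h6
    rcases hT.min _ hinv hlt.le with h5 | h5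
    · apply hTna
      intro x hx y hy
      have h6 : ⁅x, y⁆ ∈ (⁅T, T⁆ : Subgroup X) := Subgroup.commutator_mem_commutator hx hy
      rw [h5, Subgroup.mem_bot, commutatorElement_eq_one_iff_mul_comm] at h6
      exact h6
    · exact hlt.ne h5
  have hTeq : T = N := by
    by_contra hne
    obtain ⟨g, hg⟩ := hN.exists_conj_le hT hTN hne
    obtain ⟨x, hx, hxp, hx2⟩ := MinNormal.exists_prime_ne_of_not_pgroup Nat.prime_two
      (hT.not_pgroup hTna 2 Nat.prime_two)
    obtain ⟨z, hz, hz2⟩ := hTe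
    obtain ⟨y, hy, hyo⟩ := MinNormal.exists_mem_order_of_cj hg hz
    have hxo : Odd (orderOf x) := hxp.odd_of_ne_two hx2
    have h3 := h.eq_one' (u := y) (y := x) (by rw [hyo, hz2]) hxo
      (mem_centralizer_iff.1 hy.2 x hx)
    rw [h3, orderOf_one] at hxp
    exact Nat.not_prime_one hxp
  subst hTeq
  refine ⟨T, hNn, ?_, ?_, ?_, hTe⟩
  · have hT1 : Nontrivial T := (Subgroup.nontrivial_iff_ne_bot T).2 hT.ne_bot
    refine ⟨fun K hK => ?_⟩
    have hinv : InvBy T (K.map T.subtype) := by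
      rintro n hn _ ⟨k, hk, rfl⟩
      exact ⟨⟨n, hn⟩ * k * ⟨n, hn⟩⁻¹, hK.conj_mem k hk _, by simp⟩
    rcases hT.min _ hinv (Subgroup.map_subtype_le _) with h3 | h3
    · left
      exact (Subgroup.map_eq_bot_iff_of_injective K T.subtype_injective).1 h3
    · right
      rw [eq_top_iff]
      intro x _
      have : (x : X) ∈ K.map T.subtype := by rw [h3]; exact x.2
      obtain ⟨k, hk, hkx⟩ := this
      have : k = x := Subtype.ext hkx
      rwa [← this]
  · intro hcomm
    exact hTna fun x hx y hy => congrArg Subtype.val (hcomm ⟨x, hx⟩ ⟨y, hy⟩)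
  · obtain ⟨z, hz, hz2⟩ := hTe
    have hp : IsPGroup 2 (centralizer (T : Set X)) := (h z hz2).to_le (by
      intro y hy
      rw [mem_cent]
      exact (mem_centralizer_iff.1 hy z hz).symm)
    have hn : (centralizer (T : Set X)).Normal := Subgroup.normal_centralizer
    have := Fitting.le_pCore 2 hn hp
    rwa [hO2, le_bot_iff] at this

/-- if all involutions of the normal subgroup `T` are conjugate under `T`, then `X/T` is a 2-group -/
theorem quot_two_group (h : IsCIT X) {T : Subgroup X} [hTn : T.Normal] {z : X} (hz : z ∈ T)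
    (hz2 : orderOf z = 2) (hc : ∀ w ∈ T, orderOf w = 2 → ∃ m ∈ T, m * z * m⁻¹ = w) :
    IsPGroup 2 (X ⧸ T) := by
  intro g'
  obtain ⟨g, rfl⟩ := QuotientGroup.mk'_surjective T g'
  have hgt : orderOf (g * z * g⁻¹) = 2 := by
    rw [← hz2]
    exact orderOf_injective (MulAut.conj g).toMonoidHom (MulAut.conj g).injective z
  obtain ⟨m, hm, hmz⟩ := hc _ (hTn.conj_mem z hz g) hgt
  have h5 : m⁻¹ * g ∈ centralizer ({z} : Set X) := by
    rw [mem_cent]
    have e2 : g⁻¹ * (m * z * m⁻¹) * g = z := by rw [hmz]; group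
    calc m⁻¹ * g * z = m⁻¹ * g * (g⁻¹ * (m * z * m⁻¹) * g) := by rw [e2]
      _ = z * (m⁻¹ * g) := by group
  obtain ⟨k, hk⟩ := h z hz2 ⟨_, h5⟩
  refine ⟨k, ?_⟩
  have h6 : (m⁻¹ * g) ^ 2 ^ k = 1 := congrArg Subtype.val hk
  have h7 : QuotientGroup.mk' T g = QuotientGroup.mk' T (m⁻¹ * g) := by
    rw [map_mul]
    have : QuotientGroup.mk' T m⁻¹ = 1 := (QuotientGroup.eq_one_iff _).2 (T.inv_mem hm)
    rw [this, one_mul]
  rw [h7, ← map_pow, h6, map_one]

/-- odd primes dividing `|X|` divide `|T|` when `X/T` is a 2-group -/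
theorem dvd_of_quot {T : Subgroup X} [T.Normal] (hq : IsPGroup 2 (X ⧸ T)) {r : ℕ} (hr : r.Prime)
    (hr2 : r ≠ 2) (h : r ∣ Nat.card X) : r ∣ Nat.card T := by
  have h2 : Fact (Nat.Prime 2) := ⟨Nat.prime_two⟩
  rw [Subgroup.card_eq_card_quotient_mul_card_subgroup T] at h
  rcases hr.dvd_mul.1 h with h1 | h1
  · obtain ⟨n, hn⟩ := IsPGroup.iff_card.1 hq
    rw [hn] at h1
    exact absurd ((Nat.prime_dvd_prime_iff_eq hr Nat.prime_two).1 (hr.dvd_of_dvd_pow h1)) hr2
  · exact h1

end Cfsg.Agent.Lib.CITRad
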