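import Mathlib
import Cfsg.Agent.Lib.CITMain
import Cfsg.Agent.Lib.CITRad

/-!
# CIT groups with a simple normal subgroup having TI Sylow 2-subgroups (helper69)
-/

set_option autoImplicit false
set_option linter.unusedSectionVars false

namespace Cfsg.Agent.Lib.CITRad

open Subgroup Cfsg Cfsg.Agent.Lib.CIT Cfsg.Agent.Lib.SylowRel

universe u

/-- the data of a simple CIT group with TI Sylow 2-subgroups -/
theorem ti_data {G : Type*} [Group G] [Finite G] [IsSimpleGroup G] (hna : ¬ ∀ a b : G, a * b = b * a)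
    (hG : IsCIT G) (hTI : TI2 G) {P : Subgroup G} (hP : IsSyl 2 P ⊤) :
    ∃ n, n ≠ 1 ∧ SEData (NN P) n ∧ ZData (NN P) P n ∧ ∃ g, g ∉ NN P := by
  have : Fact (Nat.Prime 2) := ⟨Nat.prime_two⟩
  have hev := even_of_simple hna
  have hPb : P ≠ ⊥ := by
    rintro rfl
    obtain ⟨t, -, ht⟩ := StrongEmbPt.exists_involution (K := (⊤ : Subgroup G)) (by rw [Subgroup.card_top]; exact hev)
    have ht2 : t ^ 2 ^ 1 = 1 := by rw [pow_one, ← ht, pow_orderOf_eq_one]
    have h1 := hP.eq_of_le (isPGroup_zpowers ht2) bot_le le_top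
    rw [zpowers_eq_bot] at h1
    rw [h1, orderOf_one] at ht; omega
  have hPn : ∃ g, g ∉ NN P := by
    by_contra hcon
    push Not at hcon
    have hn : P.Normal := normalizer_eq_top_iff.1 (eq_top_iff.2 (fun g _ => hcon g))
    have h1 : P ≤ Cfsg.pCore 2 G := Fitting.le_pCore 2 hn hP.isPGroup
    rw [pCore_bot_of_simple hna, le_bot_iff] at h1
    exact hPb h1
  have hSE := se_of_ti hTI hP hPb hPn
  obtain ⟨n, hn⟩ := hG.seData hSE
  have hPM : P ≤ NN P := le_normalizer
  by_cases hn1 : n = 1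
  · subst hn1
    exact (hn.n_ne_one hSE).elim
  · have hSyl : IsSyl 2 P (NN P) := ⟨hPM, hP.isPGroup, fun Q hQ h1 h2 => hP.eq_of_le hQ h1 le_top⟩
    have hz := hG.zData hn hSE hSyl le_rfl hn1
    exact ⟨n, hn1, hn, hz, hPn⟩

theorem ti_conj {G : Type*} [Group G] [Finite G] {P : Subgroup G} (hP : IsSyl 2 P ⊤) {n : ℕ}
    (hn : SEData (NN P) n) {z w : G} (hz : orderOf z = 2) (hw : orderOf w = 2) :
    ∃ m : G, m * z * m⁻¹ = w := by
  have : Fact (Nat.Prime 2) := ⟨Nat.prime_two⟩
  have key : ∀ v : G, orderOf v = 2 → ∃ x : G, x * v * x⁻¹ ∈ NN P := by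
    intro v hv
    have hv2 : v ^ 2 ^ 1 = 1 := by rw [pow_one, ← hv, pow_orderOf_eq_one]
    obtain ⟨x, -, hx⟩ := hP.exists_cj_le (isPGroup_zpowers hv2) le_top
    refine ⟨x, le_normalizer (hx ?_)⟩
    rw [mem_cj]
    have : x⁻¹ * (x * v * x⁻¹) * x = v := by group
    rw [this]; exact mem_zpowers v
  have ho : ∀ x v : G, orderOf v = 2 → orderOf (x * v * x⁻¹) = 2 := by
    intro x v hv
    rw [← hv]
    exact orderOf_injective (MulAut.conj x).toMonoidHom (MulAut.conj x).injective v
  obtain ⟨x, hx⟩ := key z hz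
  obtain ⟨y, hy⟩ := key w hw
  obtain ⟨m, -, hm⟩ := hn.conj _ _ hx (ho x z hz) hy (ho y w hw)
  refine ⟨y⁻¹ * m * x, ?_⟩
  calc y⁻¹ * m * x * z * (y⁻¹ * m * x)⁻¹ = y⁻¹ * (m * (x * z * x⁻¹) * m⁻¹) * y := by group
    _ = w := by rw [hm]; group

/-- an involution `u` acting on an abelian group of exponent two: `|E| ≤ |C_E(u)|²` -/
theorem card_le_sq {X : Type*} [Group X] [Finite X] {E : Subgroup X} (hE2 : ∀ x ∈ E, x * x = 1)
    (hEc : ∀ x ∈ E, ∀ y ∈ E, x * y = y * x) {u : X} (hu : u * u = 1)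
    (hn : ∀ x ∈ E, u * x * u⁻¹ ∈ E) (hc : 5 ≤ Nat.card E) :
    ∃ e ∈ E, ∃ e' ∈ E, e ≠ 1 ∧ e' ≠ 1 ∧ e ≠ e' ∧ u * e = e * u ∧ u * e' = e' * u := by
  classical
  have hui : u⁻¹ = u := inv_eq_of_mul_eq_one_left hu
  let φ : E →* E :=
    { toFun := fun e => ⟨(e : X) * (u * e * u⁻¹), E.mul_mem e.2 (hn _ e.2)⟩
      map_one' := by apply Subtype.ext; simp
      map_mul' := by
        intro a b
        apply Subtype.ext
        change (a : X) * b * (u * ((a : X) * b) * u⁻¹) = (a : X) * (u * a * u⁻¹) * ((b : X) * (u * b * u⁻¹))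
        have h1 := hEc _ b.2 _ (hn _ a.2)
        calc (a : X) * b * (u * ((a : X) * b) * u⁻¹) = (a : X) * ((b : X) * (u * a * u⁻¹)) * (u * b * u⁻¹) := by group
          _ = (a : X) * ((u * a * u⁻¹) * b) * (u * b * u⁻¹) := by rw [h1]
          _ = _ := by group }
  have hker : ∀ e : E, e ∈ φ.ker ↔ u * (e : X) = e * u := by
    intro e
    rw [MonoidHom.mem_ker]
    constructor
    · intro h
      have h1 : (e : X) * (u * e * u⁻¹) = 1 := congrArg Subtype.val h
      have h2 : u * (e : X) * u⁻¹ = e := by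
        calc u * (e : X) * u⁻¹ = ((e : X) * e) * (u * e * u⁻¹) := by rw [hE2 _ e.2, one_mul]
          _ = e * ((e : X) * (u * e * u⁻¹)) := by group
          _ = e := by rw [h1, mul_one]
      calc u * (e : X) = (u * (e : X) * u⁻¹) * u := by group
        _ = e * u := by rw [h2]
    · intro h
      apply Subtype.ext
      change (e : X) * (u * e * u⁻¹) = 1
      rw [h]
      have := hE2 _ e.2
      calc (e : X) * (e * u * u⁻¹) = e * e := by group
        _ = 1 := this
  have hrk : φ.range ≤ φ.ker := by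
    rintro _ ⟨e, rfl⟩
    rw [hker]
    change u * ((e : X) * (u * e * u⁻¹)) = ((e : X) * (u * e * u⁻¹)) * u
    have h1 := hEc _ e.2 _ (hn _ e.2)
    calc u * ((e : X) * (u * e * u⁻¹)) = (u * e * u⁻¹) * (u * u) * e * u⁻¹ := by group
      _ = (u * e * u⁻¹) * e * u := by rw [hu, mul_one, hui]
      _ = _ := by rw [h1]
  have hcard : Nat.card E = Nat.card φ.ker * Nat.card φ.range := by
    rw [← Subgroup.index_ker, Subgroup.card_mul_index]
  have hle : Nat.card φ.range ≤ Nat.card φ.ker := Subgroup.card_le_of_le hrk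
  have h3 : 3 ≤ Nat.card φ.ker := by
    by_contra hcon
    push Not at hcon
    have : Nat.card φ.ker * Nat.card φ.range ≤ 2 * 2 := Nat.mul_le_mul (by omega) (by omega)
    omega
  -- three different elements in the kernel
  obtain ⟨a, ha⟩ : ∃ a : φ.ker, a ≠ 1 := by
    by_contra hcon
    push Not at hcon
    have : Subsingleton φ.ker := ⟨fun x y => by rw [hcon x, hcon y]⟩
    have := Nat.card_of_subsingleton (1 : φ.ker)
    omega
  obtain ⟨b, hb1, hba⟩ : ∃ b : φ.ker, b ≠ 1 ∧ b ≠ a := by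
    by_contra hcon
    push Not at hcon
    let _ : Fintype φ.ker := Fintype.ofFinite _
    have h4 : (Finset.univ : Finset φ.ker) ⊆ {1, a} := by
      intro x _
      by_cases hx : x = 1
      · simp [hx]
      · simp [hcon x hx]
    have h5 := Finset.card_le_card h4
    rw [Finset.card_univ, ← Nat.card_eq_fintype_card] at h5
    have h6 : ({1, a} : Finset φ.ker).card ≤ 2 := Finset.card_le_two
    omega
  refine ⟨((a : E) : X), (a : E).2, ((b : E) : X), (b : E).2, ?_, ?_, ?_, (hker _).1 a.2, (hker _).1 b.2⟩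
  · intro h; exact ha (Subtype.ext (Subtype.ext h))
  · intro h; exact hb1 (Subtype.ext (Subtype.ext h))
  · intro h; exact hba (Subtype.ext (Subtype.ext h.symm))

theorem cj_subtype {X : Type*} [Group X] {T : Subgroup X} (g : T) (M : Subgroup T) :
    (cj g M).map T.subtype = cj (g : X) (M.map T.subtype) := by
  ext x
  rw [mem_cj]
  constructor
  · rintro ⟨y, hy, rfl⟩
    rw [SetLike.mem_coe, mem_cj] at hy
    exact ⟨_, hy, by simp⟩
  · rintro ⟨y, hy, hyx⟩
    refine ⟨g * y * g⁻¹, ?_, ?_⟩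
    · rw [SetLike.mem_coe, mem_cj]
      have : g⁻¹ * (g * y * g⁻¹) * g = y := by group
      rw [this]; exact hy
    · change (g : X) * y * (g : X)⁻¹ = x
      have h1 : (y : X) = (g : X)⁻¹ * x * g := hyx
      rw [h1]; group

/-- If `T ⊴ X` is simple with TI Sylow 2-subgroups containing more than three involutions, and `X/T` is a
2-group, then `T = X`. -/
theorem eq_top_of_ti {X : Type*} [Group X] [Finite X] (h : IsCIT X) {T : Subgroup X} [hTn : T.Normal]
    [IsSimpleGroup T] (hna : ¬ ∀ a b : T, a * b = b * a) (hTI : TI2 T) (hq : IsPGroup 2 (X ⧸ T))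
    {P : Subgroup T} (hP : IsSyl 2 P ⊤) (hinv : 4 ≤ Nat.card {t : T // t ∈ NN P ∧ orderOf t = 2}) :
    T = ⊤ := by
  classical
  have h2f : Fact (Nat.Prime 2) := ⟨Nat.prime_two⟩
  obtain ⟨n, hn1, hn, hz, g, hg⟩ := ti_data hna (h.subgroup T) hTI hP
  have hPp := hP.isPGroup
  have hPM : P ≤ NN P := le_normalizer
  have hSylM : IsSyl 2 P (NN P) := ⟨hPM, hPp, fun Q hQ h1 h2 => hP.eq_of_le hQ h1 le_top⟩
  obtain ⟨a, ha⟩ := IsPGroup.iff_card.1 hPp
  -- the complement
  obtain ⟨-, -, -, hKn, -⟩ := hn.swap g hg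
  set K : Subgroup T := NN P ⊓ cj g (NN P) with hK
  have hcop : (Nat.card P).Coprime (Nat.card K) := by
    rw [ha, hKn]
    exact (Nat.coprime_two_left.2 hn.odd).pow_left a
  have hKP : K ≤ normalizer (P : Set T) := inf_le_left
  have hsup : P ⊔ K = NN P := by
    apply Subgroup.eq_of_le_of_card_ge (sup_le hPM hKP)
    rw [SubgroupTools.card_sup_of_coprime hKP hcop, hKn, ← hn.relIndex P hSylM]
    have := Subgroup.card_mul_index (P.subgroupOf (NN P))
    rw [Nat.card_congr (Subgroup.subgroupOfEquivOfLe hPM).toEquiv] at this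
    exact this.ge
  -- everything inside `X`
  set S : Subgroup X := P.map T.subtype with hS
  set K' : Subgroup X := K.map T.subtype with hK'
  set M' : Subgroup X := (NN P).map T.subtype with hM'
  have hSp : IsPGroup 2 S := hPp.map _
  have hcardS : Nat.card S = Nat.card P := Subgroup.card_map_of_injective T.subtype_injective
  have hcardK : Nat.card K' = Nat.card K := Subgroup.card_map_of_injective T.subtype_injective
  have hsup' : S ⊔ K' = M' := by rw [hS, hK', hM', ← Subgroup.map_sup, hsup]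
  have hmemM : ∀ x : X, x ∈ M' ↔ x ∈ T ∧ x ∈ normalizer (S : Set X) := by
    intro x
    constructor
    · rintro ⟨y, hy, rfl⟩
      refine ⟨y.2, ?_⟩
      have hy' : cj y P = P := mem_normalizer_iff_cj.1 hy
      rw [mem_normalizer_iff_cj]
      change cj (y : X) S = S
      rw [hS, ← cj_subtype, hy']
    · rintro ⟨hxT, hx⟩
      refine ⟨⟨x, hxT⟩, ?_, rfl⟩
      have hx' : cj x S = S := mem_normalizer_iff_cj.1 hx
      rw [SetLike.mem_coe, mem_normalizer_iff_cj]
      apply Subgroup.map_injective T.subtype_injective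
      rw [cj_subtype]
      exact hx'
  have hK'T : K' ≤ T := Subgroup.map_subtype_le _
  have hK'S : K' ≤ normalizer (S : Set X) := by
    intro x hx
    have : x ∈ M' := by rw [← hsup']; exact le_sup_right (α := Subgroup X) hx
    exact ((hmemM x).1 this).2
  have hKodd : Odd (Nat.card K') := by rw [hcardK, hKn]; exact hn.odd
  -- Frattini
  have hfrat : ∀ x : X, ∃ t ∈ T, ∃ y ∈ (normalizer (S : Set X) ⊓ normalizer (K' : Set X) : Subgroup X),
      x = t * y := by
    obtain ⟨Q, hQ⟩ := hP.exists_sylow_top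
    have hf := Sylow.normalizer_sup_eq_top Q
    intro x
    have hx : x ∈ (normalizer (((Q : Subgroup T).map T.subtype : Subgroup X) : Set X) ⊔ T : Subgroup X) := by
      rw [hf]; trivial
    rw [hQ, sup_comm] at hx
    obtain ⟨t, ht, y, hy, rfl⟩ := (Subgroup.mem_sup_of_normal_left).1 hx
    change y ∈ normalizer (S : Set X) at hy
    have hyM : cj y M' = M' := by
      ext v
      rw [mem_cj, hmemM, hmemM]
      constructor
      · rintro ⟨h1, h2⟩
        refine ⟨?_, ?_⟩
        · have := hTn.conj_mem _ h1 y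
          have e : y * (y⁻¹ * v * y) * y⁻¹ = v := by group
          rwa [e] at this
        · have := mul_mem (mul_mem hy h2) (inv_mem hy)
          have e : y * (y⁻¹ * v * y) * y⁻¹ = v := by group
          rwa [e] at this
      · rintro ⟨h1, h2⟩
        refine ⟨?_, mul_mem (mul_mem (inv_mem hy) h2) hy⟩
        have := hTn.conj_mem _ h1 y⁻¹
        rwa [inv_inv] at this
    have hyS : cj y S = S := mem_normalizer_iff_cj.1 hy
    have hsy : S ⊔ cj y K' = M' := by
      calc S ⊔ cj y K' = cj y S ⊔ cj y K' := by rw [hyS]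
        _ = cj y (S ⊔ K') := (Subgroup.map_sup _ _ _).symm
        _ = M' := by rw [hsup', hyM]
    have hcy : Nat.card (cj y K' : Subgroup X) = Nat.card K' := card_cj _ _
    obtain ⟨s, hs, hsK⟩ := SchurZassenhaus.conj_of_solvable_left (N := S) (H := cj y K') (K := K')
      (by
        intro v hv
        have : v ∈ M' := by rw [← hsy]; exact le_sup_right (α := Subgroup X) hv
        exact ((hmemM v).1 this).2) hK'S (by rw [hsy, hsup'])
      (by rw [hcy, hcardS, hcardK]; exact hcop) (by rw [hcardS, hcardK]; exact hcop)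
      (by
        have := hSp.isNilpotent
        infer_instance)
    refine ⟨t * s⁻¹, T.mul_mem ht (T.inv_mem (Subgroup.map_subtype_le _ hs)), s * y, ⟨?_, ?_⟩, by group⟩
    · exact mul_mem (le_normalizer hs) hy
    · change s * y ∈ normalizer (K' : Set X)
      rw [mem_normalizer_iff_cj, cj_mul]
      exact hsK
  by_contra hne
  -- an involution in `W`
  obtain ⟨u, hu, hu2⟩ : ∃ u ∈ (normalizer (S : Set X) ⊓ normalizer (K' : Set X) : Subgroup X), orderOf u = 2 := by
    by_contra hcon
    push Not at hcon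
    have hWo := odd_of_no_invol hcon
    apply hne
    rw [eq_top_iff]
    intro x _
    obtain ⟨t, ht, y, hy, rfl⟩ := hfrat x
    refine T.mul_mem ht ?_
    have h1 : (QuotientGroup.mk' T y) = 1 := by
      obtain ⟨k, hk⟩ := hq (QuotientGroup.mk' T y)
      have h3 : orderOf (QuotientGroup.mk' T y) ∣ 2 ^ k := orderOf_dvd_of_pow_eq_one hk
      have h4 : orderOf (QuotientGroup.mk' T y) ∣ orderOf y := orderOf_map_dvd _ _
      have h5 : Odd (orderOf y) := odd_orderOf hWo hy
      have h6 : (orderOf y).Coprime (2 ^ k) := (Nat.coprime_two_right.2 h5).pow_right k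
      exact orderOf_eq_one_iff.1 (Nat.eq_one_of_dvd_coprimes h6 h4 h3)
    exact (QuotientGroup.eq_one_iff _).1 h1
  have huu : u * u = 1 := by rw [← pow_two, ← hu2, pow_orderOf_eq_one]
  have hui : u⁻¹ = u := inv_eq_of_mul_eq_one_left huu
  have hinvK : ∀ k ∈ K', u * k * u⁻¹ = k⁻¹ := by
    apply inverts huu
    · intro k hk
      exact (mem_normalizer_iff.1 hu.2 k).1 hk
    · intro k hk hc
      exact h.eq_one' hu2 (odd_orderOf hKodd hk) hc.symm
  -- `E`
  have hSb : S ≠ ⊥ := by
    intro h0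
    have h1 : Nat.card S = 1 := by rw [h0, Subgroup.card_bot]
    have h3 : ∀ t : {t : T // t ∈ NN P ∧ orderOf t = 2}, False := by
      rintro ⟨t, ht, ht2⟩
      have ht2' : t ^ 2 ^ 1 = 1 := by rw [pow_one, ← ht2, pow_orderOf_eq_one]
      have h4 := hSylM.card_le (isPGroup_zpowers ht2') (zpowers_le.2 ht)
      rw [Nat.card_zpowers, ht2, ← hcardS, h1] at h4
      omega
    have : IsEmpty {t : T // t ∈ NN P ∧ orderOf t = 2} := ⟨h3⟩
    rw [Nat.card_of_isEmpty] at hinv
    omega
  have hzb : zeta S ≠ ⊥ := zeta_ne_bot hSp hSb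
  obtain ⟨z, hzE, hz1⟩ := exists_mem_ne_one hzb
  have hz' := mem_zeta.1 hzE
  have hzo : orderOf z = 2 := orderOf_eq_prime (by rw [pow_two]; exact hz'.2.1) hz1
  -- all involutions of `M'` are `K'`-conjugate to `z`
  have hconj : ∀ w ∈ M', orderOf w = 2 → ∃ k ∈ K', k * z * k⁻¹ = w := by
    intro w hw hw2
    obtain ⟨w', hw', rfl⟩ := hw
    obtain ⟨z', hz', hzz⟩ : ∃ z' ∈ NN P, (z' : X) = z := by
      obtain ⟨v, hv, hv2⟩ := hz'.1
      exact ⟨v, hPM hv, hv2⟩
    obtain ⟨m, hm, hmw⟩ := hn.conj z' w' hz' (by rw [← orderOf_coe, hzz]; exact hzo) hw'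
      (by rw [← orderOf_coe]; exact hw2)
    have hm' : (m : X) ∈ S ⊔ K' := by
      rw [hsup']; exact ⟨m, hm, rfl⟩
    obtain ⟨k, hk, s, hs, hks⟩ := (SubgroupTools.mem_sup_of_le_normalizer' hK'S).1 hm'
    refine ⟨k, hk, ?_⟩
    have h5 : z * s = s * z := (mem_zeta.1 hzE).2.2 s hs
    calc k * z * k⁻¹ = k * (z * s) * s⁻¹ * k⁻¹ := by group
      _ = (k * s) * z * (k * s)⁻¹ := by rw [h5]; group
      _ = (m : X) * z' * (m : X)⁻¹ := by rw [hks, hzz]
      _ = ((m * z' * m⁻¹ : T) : X) := rfl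
      _ = _ := by rw [hmw]; rfl
  have hzn : ∀ x ∈ normalizer (S : Set X), ∀ e ∈ zeta S, x * e * x⁻¹ ∈ zeta S := by
    intro x hx e he
    exact (mem_normalizer_iff.1 (le_normalizer_zeta S hx) e).1 he
  have hEin : ∀ w ∈ M', orderOf w = 2 → w ∈ zeta S := by
    intro w hw hw2
    obtain ⟨k, hk, rfl⟩ := hconj w hw hw2
    exact hzn k (hK'S hk) z hzE
  have hcardE : 5 ≤ Nat.card (zeta S) := by
    let f : Option {t : T // t ∈ NN P ∧ orderOf t = 2} → zeta S := fun o =>
      match o with
      | none => 1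
      | some t => ⟨((t : T) : X), hEin _ ⟨t, t.2.1, rfl⟩ (by rw [orderOf_coe]; exact t.2.2)⟩
    have hf : Function.Injective f := by
      intro x y hxy
      match x, y with
      | none, none => rfl
      | none, some t =>
        exfalso
        have h1 := congrArg Subtype.val hxy
        change (1 : X) = ((t : T) : X) at h1
        have h3 := t.2.2
        rw [show (t : T) = 1 from Subtype.ext h1.symm, orderOf_one] at h3
        omega
      | some t, none =>
        exfalso
        have h1 := congrArg Subtype.val hxy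
        change ((t : T) : X) = 1 at h1
        have h3 := t.2.2
        rw [show (t : T) = 1 from Subtype.ext h1, orderOf_one] at h3
        omega
      | some t, some s =>
        have h1 := congrArg Subtype.val hxy
        change ((t : T) : X) = ((s : T) : X) at h1
        exact congrArg some (Subtype.ext (Subtype.ext h1))
    have h3 := Nat.card_le_card_of_injective f hf
    rw [Finite.card_option] at h3
    omega
  obtain ⟨e, he, e', he', hne1, hne1', hee, hue, hue'⟩ := card_le_sq (E := zeta S)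
    (fun x hx => (mem_zeta.1 hx).2.1) (fun x hx y hy => (mem_zeta.1 hx).2.2 y (zeta_le S hy)) huu
    (hzn u hu.1) hcardE
  have hSM : S ≤ M' := by rw [← hsup']; exact le_sup_left
  have hord : ∀ x ∈ zeta S, x ≠ 1 → orderOf x = 2 := fun x hx hx1 =>
    orderOf_eq_prime (by rw [pow_two]; exact (mem_zeta.1 hx).2.1) hx1
  obtain ⟨k1, hk1, hk1e⟩ := hconj e (hSM (zeta_le S he)) (hord e he hne1)
  obtain ⟨k2, hk2, hk2e⟩ := hconj e' (hSM (zeta_le S he')) (hord e' he' hne1')
  -- e' = k e k⁻¹
  set k : X := k2 * k1⁻¹ with hk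
  have hkK : k ∈ K' := K'.mul_mem hk2 (K'.inv_mem hk1)
  have hke : k * e * k⁻¹ = e' := by rw [hk, ← hk1e, ← hk2e]; group
  have h7 : (k * k) * e = e * (k * k) := by
    -- `k⁻¹ u k = u k²`
    have e1 : u * k⁻¹ * u⁻¹ = k := by rw [hinvK _ (K'.inv_mem hkK), inv_inv]
    have e2 : k⁻¹ * u * k = u * (k * k) := by
      calc k⁻¹ * u * k = (u * u) * k⁻¹ * u⁻¹ * (u * u) * k := by rw [huu, hui]; simp [mul_assoc]
        _ = u * (u * k⁻¹ * u⁻¹) * (u * u) * k := by group
        _ = u * (k * k) := by rw [e1, huu, mul_one, mul_assoc]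
    have e3 : (k⁻¹ * u * k) * e = e * (k⁻¹ * u * k) := by
      calc (k⁻¹ * u * k) * e = k⁻¹ * (u * (k * e * k⁻¹)) * k := by group
        _ = k⁻¹ * ((k * e * k⁻¹) * u) * k := by rw [hke, hue']
        _ = _ := by group
    rw [e2] at e3
    have e4 : u * (k * k * e) = u * (e * (k * k)) := by
      calc u * (k * k * e) = u * (k * k) * e := by group
        _ = e * (u * (k * k)) := e3
        _ = (e * u) * (k * k) := by group
        _ = (u * e) * (k * k) := by rw [hue]
        _ = _ := by group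
    exact mul_left_cancel e4
  have h8 : k * k = 1 := h.eq_one' (hord e he hne1) (odd_orderOf hKodd (K'.mul_mem hkK hkK)) h7
  have h9 : k = 1 := by
    have h10 : orderOf k ∣ 2 := orderOf_dvd_of_pow_eq_one (by rw [pow_two]; exact h8)
    have h11 := odd_orderOf hKodd hkK
    rcases (Nat.dvd_prime Nat.prime_two).1 h10 with h12 | h12
    · exact orderOf_eq_one_iff.1 h12
    · rw [h12] at h11; exact absurd h11 (by decide)
  apply hee
  rw [← hke, h9]; group

end Cfsg.Agent.Lib.CITRad
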