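import Mathlib
import Cfsg.Agent.S2904

/-!
# Number theory for the prime graph of `PSL(2, 2^m)` (helper69)
-/

set_option autoImplicit false

namespace Cfsg.Agent.Lib.CITRadN

/-- `r` is a primitive prime divisor of `2^N - 1` -/
def Prim (r N : ℕ) : Prop :=
  r.Prime ∧ r ∣ 2 ^ N - 1 ∧ ∀ k : ℕ, 0 < k → k < N → ¬ r ∣ 2 ^ k - 1

theorem exists_prim {N : ℕ} (h1 : 2 < N) (h6 : N ≠ 6) : ∃ r, Prim r N := by
  obtain ⟨r, h2, h3, h4⟩ := Cfsg.Agent.S2904.result 2 N (by norm_num) (by omega) (by omega)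
    (by rintro ⟨h, -⟩; omega)
  exact ⟨r, h2, h3, h4⟩

theorem Prim.dvd {r N j : ℕ} (h : Prim r N) (hN : 0 < N) (hj : r ∣ 2 ^ j - 1) : N ∣ j := by
  have h1 : r ∣ Nat.gcd (2 ^ N - 1) (2 ^ j - 1) := Nat.dvd_gcd h.2.1 hj
  rw [Nat.pow_sub_one_gcd_pow_sub_one] at h1
  have h2 : Nat.gcd N j ≤ N := Nat.le_of_dvd hN (Nat.gcd_dvd_left _ _)
  have h3 : 0 < Nat.gcd N j := Nat.gcd_pos_of_pos_left _ hN
  rcases Nat.lt_or_ge (Nat.gcd N j) N with h4 | h4
  · exact absurd h1 (h.2.2 _ h3 h4)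
  · have h5 : Nat.gcd N j = N := le_antisymm h2 h4
    rw [← h5]; exact Nat.gcd_dvd_right _ _

theorem odd_pow_sub {N : ℕ} (hN : 0 < N) : Odd (2 ^ N - 1) := by
  obtain ⟨k, rfl⟩ : ∃ k, N = k + 1 := ⟨N - 1, by omega⟩
  have h1 : 1 ≤ 2 ^ k := Nat.one_le_two_pow
  exact ⟨2 ^ k - 1, by rw [pow_succ]; omega⟩

theorem Prim.odd {r N : ℕ} (h : Prim r N) (hN : 0 < N) : Odd r :=
  Odd.of_dvd_nat (odd_pow_sub hN) h.2.1

theorem fac (k : ℕ) : 2 ^ (2 * k) - 1 = (2 ^ k - 1) * (2 ^ k + 1) := by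
  have h1 : 1 ≤ 2 ^ k := Nat.one_le_two_pow
  rw [pow_mul', pow_two]
  obtain ⟨a, ha⟩ := Nat.exists_eq_add_of_le h1
  rw [ha]
  have : (1 + a) * (1 + a) = a * (1 + a + 1) + 1 := by ring
  rw [this]; simp

theorem not_two {ℓ : ℕ} (h : Odd ℓ) (hd : ℓ ∣ 2) : ℓ = 1 := by
  have h1 : ℓ ≤ 2 := Nat.le_of_dvd (by norm_num) hd
  obtain ⟨k, hk⟩ := h
  omega

theorem prime_not_dvd_two_pow {ℓ : ℕ} (hp : ℓ.Prime) (h : Odd ℓ) (k : ℕ) : ¬ ℓ ∣ 2 ^ k := by
  intro h1
  have h2 := hp.dvd_of_dvd_pow h1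
  have := not_two h h2
  exact hp.one_lt.ne' this

/-- the main arithmetic lemma -/
theorem main {m q : ℕ} (hm : 4 ≤ m) (hq2 : 2 ≤ q)
    (hq : q = 9 ∨ (∃ n : ℕ, q = 2 ^ n) ∨ (q.Prime ∧ ∃ k : ℕ, q = 2 ^ k + 1 ∨ q + 1 = 2 ^ k))
    (H : ∀ ℓ : ℕ, ℓ.Prime → Odd ℓ → (ℓ ∣ q * (q ^ 2 - 1) ↔ ℓ ∣ 2 ^ (2 * m) - 1)) : q = 2 ^ m := by
  obtain ⟨r, hr⟩ := exists_prim (N := 2 * m) (by omega) (by omega)
  have h2m : 0 < 2 * m := by omega
  have hro := hr.odd h2m
  have hrp := hr.1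
  have hrq := (H r hrp hro).2 hr.2.1
  rcases hq with rfl | ⟨n, rfl⟩ | ⟨hp, k, hk⟩
  · exfalso
    have h1 : r ∣ 2 ^ 4 * (3 ^ 2 * (3 ^ 0 * 5)) := by
      have : 9 * (9 ^ 2 - 1) = 2 ^ 4 * (3 ^ 2 * (3 ^ 0 * 5)) := by norm_num
      rwa [this] at hrq
    rcases (Nat.Prime.dvd_mul hrp).1 h1 with h2 | h2
    · exact prime_not_dvd_two_pow hrp hro _ h2
    rcases (Nat.Prime.dvd_mul hrp).1 h2 with h2 | h2
    · have h3 := hrp.dvd_of_dvd_pow h2
      exact hr.2.2 2 (by norm_num) (by omega) (by norm_num; exact h3)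
    rcases (Nat.Prime.dvd_mul hrp).1 h2 with h2 | h2
    · rw [pow_zero, Nat.dvd_one] at h2; exact hrp.one_lt.ne' h2
    · exact hr.2.2 4 (by norm_num) (by omega) (h2.trans (by norm_num))
  · rcases (Nat.Prime.dvd_mul hrp).1 hrq with h2 | h2
    · exact absurd h2 (prime_not_dvd_two_pow hrp hro _)
    rw [← pow_mul, mul_comm n 2] at h2
    have h3 := hr.dvd h2m h2
    have h4 : m ∣ n := Nat.dvd_of_mul_dvd_mul_left (by norm_num) h3
    have hn0 : n ≠ 0 := by
      rintro rfl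
      norm_num at hq2
    have hmn : m ≤ n := Nat.le_of_dvd (Nat.pos_of_ne_zero hn0) h4
    obtain ⟨s, hs⟩ := exists_prim (N := 2 * n) (by omega) (by omega)
    have h2n : 0 < 2 * n := by omega
    have h5 : s ∣ 2 ^ n * ((2 ^ n) ^ 2 - 1) := by
      rw [← pow_mul, mul_comm n 2]; exact hs.2.1.mul_left _
    have h6 := hs.dvd h2n ((H s hs.1 (hs.odd h2n)).1 h5)
    have h7 : n ∣ m := Nat.dvd_of_mul_dvd_mul_left (by norm_num) h6
    rw [Nat.dvd_antisymm h7 h4]
  · exfalso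
    rcases hk with rfl | hk
    · -- `q = 2^k + 1`
      have hk0 : k ≠ 0 := by
        rintro rfl
        have h1 : r ∣ 2 * 3 := by simpa using hrq
        rcases (Nat.Prime.dvd_mul hrp).1 h1 with h2 | h2
        · exact hrp.one_lt.ne' (not_two hro h2)
        · exact hr.2.2 2 (by norm_num) (by omega) (by norm_num; exact h2)
      obtain ⟨j, rfl⟩ : ∃ j, k = j + 1 := ⟨k - 1, by omega⟩
      have hexp : (2 ^ (j + 1) + 1) * ((2 ^ (j + 1) + 1) ^ 2 - 1) =
          (2 ^ (j + 1) + 1) * (2 ^ (j + 2) * (2 ^ j + 1)) := by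
        congr 1
        have : (2 ^ (j + 1) + 1) ^ 2 = 2 ^ (j + 2) * (2 ^ j + 1) + 1 := by ring
        rw [this]; simp
      have hodd : Odd (2 ^ (j + 1) + 1) := Even.add_one (by rw [pow_succ]; exact even_two.mul_left _)
      have hpd : 2 ^ (j + 1) + 1 ∣ 2 ^ (2 * m) - 1 := (H _ hp hodd).1 (dvd_mul_right _ _)
      have hpd2 : 2 ^ (j + 1) + 1 ∣ 2 ^ (2 * (j + 1)) - 1 := by rw [fac]; exact dvd_mul_left _ _
      rw [hexp] at hrq
      rcases (Nat.Prime.dvd_mul hrp).1 hrq with h2 | h2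
      · have hrp' : r = 2 ^ (j + 1) + 1 := (Nat.prime_dvd_prime_iff_eq hrp hp).1 h2
        have h3 : 2 * m ∣ 2 * (j + 1) := hr.dvd h2m (hrp' ▸ hpd2)
        have h4 : m ∣ j + 1 := Nat.dvd_of_mul_dvd_mul_left (by norm_num) h3
        have h5 : m ≤ j + 1 := Nat.le_of_dvd (by omega) h4
        have h6 : r ∣ (2 ^ m - 1) * (2 ^ m + 1) := by rw [← fac]; exact hr.2.1
        have h7 : r ∣ 2 ^ m + 1 := by
          rcases (Nat.Prime.dvd_mul hrp).1 h6 with h7 | h7
          · exact absurd h7 (hr.2.2 m (by omega) (by omega))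
          · exact h7
        have h8 : 2 ^ (j + 1) + 1 ≤ 2 ^ m + 1 := by rw [← hrp']; exact Nat.le_of_dvd (by positivity) h7
        have h9 : j + 1 ≤ m := by
          have : 2 ^ (j + 1) ≤ 2 ^ m := by omega
          exact (Nat.pow_le_pow_iff_right (by norm_num)).1 this
        have hjm : j + 1 = m := le_antisymm h9 h5
        rw [hjm] at hp
        have hm6 : m ≠ 6 := by
          rintro rfl
          norm_num at hp
        obtain ⟨s, hs⟩ := exists_prim (N := m) (by omega) hm6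
        have hm0 : 0 < m := by omega
        have hso := hs.odd hm0
        have h10 : s ∣ 2 ^ (2 * m) - 1 := by rw [fac]; exact hs.2.1.mul_right _
        have h11 := (H s hs.1 hso).2 h10
        rw [hexp] at h11
        rcases (Nat.Prime.dvd_mul hs.1).1 h11 with h12 | h12
        · rw [hjm] at h12
          have h13 := Nat.dvd_sub h12 hs.2.1
          have h14 : 2 ^ m + 1 - (2 ^ m - 1) = 2 := by
            have : 1 ≤ 2 ^ m := Nat.one_le_two_pow
            omega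
          rw [h14] at h13
          exact hs.1.one_lt.ne' (not_two hso h13)
        rcases (Nat.Prime.dvd_mul hs.1).1 h12 with h12 | h12
        · exact prime_not_dvd_two_pow hs.1 hso _ h12
        · have h13 : s ∣ 2 ^ (2 * j) - 1 := by rw [fac]; exact h12.mul_left _
          have h14 : m ∣ 2 * j := hs.dvd hm0 h13
          have h15 : m ∣ 2 * (j + 1) := by rw [hjm]; exact dvd_mul_left _ _
          have h16 := Nat.dvd_sub h15 h14
          have h17 : 2 * (j + 1) - 2 * j = 2 := by omega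
          rw [h17] at h16
          have := Nat.le_of_dvd (by norm_num) h16
          omega
      rcases (Nat.Prime.dvd_mul hrp).1 h2 with h2 | h2
      · exact prime_not_dvd_two_pow hrp hro _ h2
      · have h13 : r ∣ 2 ^ (2 * j) - 1 := by rw [fac]; exact h2.mul_left _
        have h14 : 2 * m ∣ 2 * j := hr.dvd h2m h13
        have h15 : m ∣ j := Nat.dvd_of_mul_dvd_mul_left (by norm_num) h14
        have h16 : Nat.gcd m (j + 1) = 1 := by
          have h17 : Nat.gcd m (j + 1) ∣ 1 := by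
            have h18 := (Nat.gcd_dvd_left m (j + 1)).trans h15
            have h19 := Nat.gcd_dvd_right m (j + 1)
            exact (Nat.dvd_add_right h18).1 h19
          exact Nat.dvd_one.1 h17
        have h17 : 2 ^ (j + 1) + 1 ∣ Nat.gcd (2 ^ (2 * m) - 1) (2 ^ (2 * (j + 1)) - 1) := Nat.dvd_gcd hpd hpd2
        rw [Nat.pow_sub_one_gcd_pow_sub_one, Nat.gcd_mul_left, h16] at h17
        have h18 : 2 ^ (j + 1) + 1 ≤ 3 := Nat.le_of_dvd (by norm_num) (by simpa using h17)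
        have hj0 : j = 0 := by
          by_contra hj
          have : 2 ^ 2 ≤ 2 ^ (j + 1) := Nat.pow_le_pow_right (by norm_num) (by omega)
          omega
        subst hj0
        exact hrp.one_lt.ne' (not_two hro (by simpa using h2))
    · -- `q = 2^k - 1`
      have hk2 : 2 ≤ k := by
        by_contra h
        have hk1 : k = 0 ∨ k = 1 := by omega
        have := hp.two_le
        rcases hk1 with rfl | rfl
        · simp at hk; omega
        · simp at hk; omega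
      obtain ⟨j, rfl⟩ : ∃ j, k = j + 2 := ⟨k - 2, by omega⟩
      have hqe : q = 2 ^ (j + 2) - 1 := by omega
      have hodd : Odd q := by rw [hqe]; exact odd_pow_sub (by omega)
      have hpd : q ∣ 2 ^ (2 * m) - 1 := (H _ hp hodd).1 (dvd_mul_right _ _)
      have hle : j + 2 ≤ 2 * m := by
        have h1 : q ≤ 2 ^ (2 * m) - 1 := Nat.le_of_dvd (by
          have : 2 ^ 1 ≤ 2 ^ (2 * m) := Nat.pow_le_pow_right (by norm_num) (by omega)
          omega) hpd
        have h2 : 2 ^ (j + 2) ≤ 2 ^ (2 * m) := by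
          have : 1 ≤ 2 ^ (2 * m) := Nat.one_le_two_pow
          omega
        exact (Nat.pow_le_pow_iff_right (by norm_num)).1 h2
      have hexp : q ^ 2 - 1 = 2 ^ (j + 2) * (2 * (2 ^ (j + 1) - 1)) := by
        have h1 : q ^ 2 - 1 = (q + 1) * (q - 1) := by
          have := Nat.sq_sub_sq q 1
          simpa using this
        rw [h1, hk]
        congr 1
        rw [hqe, pow_succ 2 (j + 1)]
        have : 1 ≤ 2 ^ (j + 1) := Nat.one_le_two_pow
        omega
      rw [hexp] at hrq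
      rcases (Nat.Prime.dvd_mul hrp).1 hrq with h2 | h2
      · have hrp' : r = q := (Nat.prime_dvd_prime_iff_eq hrp hp).1 h2
        have h3 : 2 * m ∣ j + 2 := hr.dvd h2m (by rw [← hqe, ← hrp'])
        have h4 : 2 * m ≤ j + 2 := Nat.le_of_dvd (by omega) h3
        have h5 : j + 2 = 2 * m := le_antisymm hle h4
        rw [hqe, h5, fac] at hp
        refine Nat.not_prime_mul ?_ ?_ hp
        · have : 2 ^ 4 ≤ 2 ^ m := Nat.pow_le_pow_right (by norm_num) hm
          omega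
        · have : 2 ^ 4 ≤ 2 ^ m := Nat.pow_le_pow_right (by norm_num) hm
          omega
      rcases (Nat.Prime.dvd_mul hrp).1 h2 with h2 | h2
      · exact prime_not_dvd_two_pow hrp hro _ h2
      rcases (Nat.Prime.dvd_mul hrp).1 h2 with h2 | h2
      · exact hrp.one_lt.ne' (not_two hro h2)
      · have h3 := hr.dvd h2m h2
        have := Nat.le_of_dvd (by omega) h3
        omega

end Cfsg.Agent.Lib.CITRadN
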