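import Mathlib
import Cfsg.Agent.Lib.CITMain
import Cfsg.Agent.Lib.CITRad
import Cfsg.Agent.Lib.CITRad2
import Cfsg.Agent.Lib.CITRadN
import Cfsg.Agent.Lib.BinPslA
import Cfsg.Agent.Lib.ClSLn
import Cfsg.Agent.Lib.ClSeven

/-!
# Non-solvable CIT groups with the prime divisors of `PSL(2, 2^m)` (helper69)
-/

set_option autoImplicit false
set_option linter.unusedSectionVars false

namespace Cfsg.Agent.Lib.CITRad

open Subgroup Cfsg Cfsg.Agent.Lib.CIT Cfsg.Agent.Lib.SylowRel

universe u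

theorem card_psl2 {F : Type u} [Field F] [Fintype F] {q : ℕ} (hF : Fintype.card F = q) :
    Nat.gcd 2 (q - 1) * Nat.card (Matrix.ProjectiveSpecialLinearGroup (Fin 2) F) = q * (q ^ 2 - 1) := by
  have h := ClSLn.card_PSL_formula hF 2 (by norm_num)
  have hq : 1 < q := by rw [← hF]; exact Fintype.one_lt_card
  simp only [Finset.prod_range_succ, Finset.range_zero, Finset.prod_empty] at h
  have h0 : 0 < q - 1 := by omega
  apply Nat.eq_of_mul_eq_mul_left h0
  calc (q - 1) * (Nat.gcd 2 (q - 1) * Nat.card (Matrix.ProjectiveSpecialLinearGroup (Fin 2) F)) =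
      Nat.gcd 2 (q - 1) * ((q - 1) * Nat.card (Matrix.ProjectiveSpecialLinearGroup (Fin 2) F)) := by ring
    _ = _ := by rw [h]; simp; ring

theorem card_psl3 {F : Type u} [Field F] [Fintype F] (hF : Fintype.card F = 4) :
    Nat.card (Matrix.ProjectiveSpecialLinearGroup (Fin 3) F) = 64 * 315 := by
  have h := ClSLn.card_PSL_formula hF 3 (by norm_num)
  simp only [Finset.prod_range_succ, Finset.range_zero, Finset.prod_empty] at h
  norm_num at h
  omega

theorem odd_dvd_psl2 {F : Type u} [Field F] [Fintype F] {q : ℕ} (hF : Fintype.card F = q) {r : ℕ}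
    (hr : r.Prime) (hr2 : Odd r) :
    r ∣ q * (q ^ 2 - 1) ↔ r ∣ Nat.card (Matrix.ProjectiveSpecialLinearGroup (Fin 2) F) := by
  rw [← card_psl2 hF]
  constructor
  · intro h
    rcases hr.dvd_mul.1 h with h1 | h1
    · exact absurd (CITRadN.not_two hr2 (h1.trans (Nat.gcd_dvd_left _ _))) hr.one_lt.ne'
    · exact h1
  · exact fun h => h.mul_left _

/-- an element of odd prime order acting on a normal subgroup: `r ∣ |S| - 1` for a Sylow 2-subgroup -/
theorem out {X : Type*} [Group X] [Finite X] (h : IsCIT X) {T : Subgroup X} [hTn : T.Normal] (S : Sylow 2 T)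
    {r : ℕ} (hr : r.Prime) (hr2 : Odd r) (hrT : ¬ r ∣ Nat.card T) (hrX : r ∣ Nat.card X) :
    r ∣ Nat.card S - 1 := by
  classical
  have h2f : Fact (Nat.Prime 2) := ⟨Nat.prime_two⟩
  have hrf : Fact r.Prime := ⟨hr⟩
  set S' : Subgroup X := (S : Subgroup T).map T.subtype with hS'
  have hcS : Nat.card S' = Nat.card S := Subgroup.card_map_of_injective T.subtype_injective
  have hpS : IsPGroup 2 S' := S.2.map _
  have hfr : normalizer (S' : Set X) ⊔ T = ⊤ := Sylow.normalizer_sup_eq_top S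
  have h1 : T.index = T.relIndex (normalizer (S' : Set X)) := by
    rw [← Subgroup.relIndex_top_right, ← hfr, Subgroup.relIndex_sup_right]
  have h2 : r ∣ Nat.card (normalizer (S' : Set X)) := by
    rw [← Subgroup.card_mul_index T] at hrX
    rcases hr.dvd_mul.1 hrX with h3 | h3
    · exact absurd h3 hrT
    · rw [h1] at h3
      exact h3.trans (Subgroup.relIndex_dvd_card _ _)
  obtain ⟨y, hy⟩ := exists_prime_orderOf_dvd_card' r h2
  have hyo : orderOf (y : X) = r := by rw [orderOf_coe]; exact hy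
  -- the action
  set K : Subgroup (normalizer (S' : Set X)) := S'.subgroupOf (normalizer (S' : Set X)) with hK
  have hKn : K.Normal := Subgroup.normal_in_normalizer
  let φ : zpowers y →* MulAut K := (MulAut.conjNormal (H := K)).comp (zpowers y).subtype
  let _ : MulAction (zpowers y) K := MulAction.compHom _ φ
  have hpy : IsPGroup r (zpowers y) := IsPGroup.of_card (n := 1) (by rw [Nat.card_zpowers, hy, pow_one])
  have h3 := hpy.card_modEq_card_fixedPoints K
  have h4 : Nat.card (MulAction.fixedPoints (zpowers y) K) = 1 := by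
    rw [Nat.card_eq_one_iff_exists]
    refine ⟨⟨1, fun g => ?_⟩, ?_⟩
    · exact map_one (φ g)
    · rintro ⟨x, hx⟩
      apply Subtype.ext
      have hx1 : φ ⟨y, mem_zpowers y⟩ x = x := hx ⟨y, mem_zpowers y⟩
      have hx2 : (((φ ⟨y, mem_zpowers y⟩ x : K) : normalizer (S' : Set X)) : X) = ((x : normalizer (S' : Set X)) : X) := by
        rw [hx1]
      have hx3 : (y : X) * (x : X) * (y : X)⁻¹ = (x : X) := hx2
      by_contra hne
      have hxS : ((x : normalizer (S' : Set X)) : X) ∈ S' := x.2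
      have hxne : ((x : normalizer (S' : Set X)) : X) ≠ 1 := fun h0 => hne (Subtype.ext (Subtype.ext h0))
      have hy1 := h.eq_one (y := (y : X)) hpS hxS hxne (by rw [hyo]; exact hr2) (mul_inv_eq_iff_eq_mul.1 hx3)
      rw [hy1, orderOf_one] at hyo
      exact hr.one_lt.ne hyo
  rw [h4] at h3
  have h5 : Nat.card K = Nat.card S := by
    rw [← hcS]
    exact Nat.card_congr (Subgroup.subgroupOfEquivOfLe (le_normalizer)).toEquiv
  rw [h5] at h3
  exact (Nat.modEq_iff_dvd' Nat.card_pos).1 h3.symm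

/-- an involution of `PSL(2,F)` in the form used below -/
theorem conj_psl2 {T : Type*} [Group T] {F : Type u} [Field F] [Fintype F]
    (e : T ≃* Matrix.ProjectiveSpecialLinearGroup (Fin 2) F) {z w : T} (hz : orderOf z = 2)
    (hw : orderOf w = 2) : ∃ m : T, m * z * m⁻¹ = w := by
  have key : ∀ v : T, orderOf v = 2 → e v ≠ 1 ∧ e v * e v = 1 := by
    intro v hv
    have h1 : orderOf (e v) = 2 := (MulEquiv.orderOf_eq e v).trans hv
    refine ⟨?_, ?_⟩
    · intro h0; rw [h0, orderOf_one] at h1; omega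
    · have h2 := pow_orderOf_eq_one (e v)
      rwa [h1, pow_two] at h2
  obtain ⟨g, hg⟩ := BinPslA.exists_conj_of_invol (key z hz).1 (key z hz).2 (key w hw).1 (key w hw).2
  refine ⟨e.symm g, e.injective ?_⟩
  simp [hg]

theorem card_invol {T : Type*} [Group T] [Finite T] {F : Type u} [Field F] [Fintype F]
    (e : T ≃* Matrix.ProjectiveSpecialLinearGroup (Fin 2) F) {m : ℕ} (hm : 3 ≤ m)
    (hF : Fintype.card F = 2 ^ m) {P : Subgroup T} (hP : IsSyl 2 P ⊤) :
    4 ≤ Nat.card {t : T // t ∈ NN P ∧ orderOf t = 2} := by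
  classical
  have h2f : Fact (Nat.Prime 2) := ⟨Nat.prime_two⟩
  have h20 : (2 : F) = 0 := by
    obtain ⟨p, hchar⟩ := CharP.exists F
    obtain ⟨f, hp, hpf⟩ := FiniteField.card F p
    have h1 : p ∣ 2 ^ m := by rw [← hF, hpf]; exact dvd_pow_self _ f.ne_zero
    have hp2 : p = 2 := (Nat.prime_dvd_prime_iff_eq hp Nat.prime_two).1 (hp.dvd_of_dvd_pow h1)
    subst hp2
    have := CharP.cast_eq_zero F 2
    exact_mod_cast this
  obtain ⟨S, hS⟩ := hP.exists_sylow_top
  have hcardT : Nat.card T = 2 ^ m * ((2 ^ m) ^ 2 - 1) := by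
    rw [← card_psl2 hF, Nat.card_congr e.toEquiv]
    have h1 : Nat.gcd 2 (2 ^ m - 1) = 1 := by
      have := CITRadN.odd_pow_sub (N := m) (by omega)
      exact Nat.coprime_two_left.2 this
    rw [h1, one_mul]
  have hcard : 2 ^ m ∣ Nat.card P := by
    rw [← hS]
    exact S.pow_dvd_card_of_pow_dvd_card (by rw [hcardT]; exact dvd_mul_right _ _)
  have hle : 8 ≤ Nat.card P := by
    have h1 := Nat.le_of_dvd Nat.card_pos hcard
    have h2 : 2 ^ 3 ≤ 2 ^ m := Nat.pow_le_pow_right (by norm_num) hm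
    omega
  have hnt : Nontrivial P := by
    rw [← Finite.one_lt_card_iff_nontrivial]; omega
  have hct := hP.isPGroup.center_nontrivial
  obtain ⟨c, hc⟩ := exists_ne (1 : center P)
  obtain ⟨k, hk⟩ := (hP.isPGroup.to_subgroup (center P)) c
  obtain ⟨j, hj⟩ := CIT.exists_pow_two hc hk
  set g : P := ((c ^ j : center P) : P) with hg
  have hgo : orderOf (g : T) = 2 := by rw [orderOf_coe, hg, orderOf_coe]; exact hj
  have hgc : ∀ x : P, x * g = g * x := fun x => mem_center_iff.1 (c ^ j : center P).2 x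
  have hge : e (g : T) ≠ 1 ∧ e (g : T) * e (g : T) = 1 := by
    have h1 : orderOf (e (g : T)) = 2 := (MulEquiv.orderOf_eq e _).trans hgo
    refine ⟨?_, ?_⟩
    · intro h0; rw [h0, orderOf_one] at h1; omega
    · have h2 := pow_orderOf_eq_one (e (g : T))
      rwa [h1, pow_two] at h2
  have hsq : ∀ x : P, x * x = 1 := by
    intro x
    apply Subtype.ext
    apply e.injective
    have h1 := BinPslA.sq_of_comm h20 (g := e (g : T)) (x := e (x : T)) hge.1 hge.2 (by
      rw [← map_mul, ← map_mul]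
      exact congrArg e (congrArg Subtype.val (hgc x)))
    simpa using h1
  let f : {x : P // x ≠ 1} → {t : T // t ∈ NN P ∧ orderOf t = 2} := fun x =>
    ⟨x.1, le_normalizer x.1.2, by
      rw [orderOf_coe]
      exact orderOf_eq_prime (by rw [pow_two]; exact hsq _) x.2⟩
  have hinj : Function.Injective f := by
    intro a b hab
    have h0 : (f a).1 = (f b).1 := congrArg Subtype.val hab
    exact Subtype.ext (Subtype.ext h0)
  have h5 := Nat.card_le_card_of_injective f hinj
  have h6 : Nat.card {x : P // x ≠ 1} = Nat.card P - 1 := by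
    let _ : Fintype P := Fintype.ofFinite _
    rw [Nat.card_eq_fintype_card, Nat.card_eq_fintype_card, Fintype.card_subtype_compl, Fintype.card_subtype_eq]
  omega

/-- the non-TI simple CIT groups -/
theorem non_ti {G : Type*} [Group G] [Finite G] [IsSimpleGroup G] (hna : ¬ ∀ a b : G, a * b = b * a)
    (hG : IsCIT G) (hTI : ¬ TI2 G) :
    (∃ (F : Type) (_ : Field F) (_ : Fintype F), Odd (Fintype.card F) ∧
        Nonempty (G ≃* Matrix.ProjectiveSpecialLinearGroup (Fin 2) F)) ∨
    (∃ (F : Type) (_ : Field F) (_ : Fintype F), Fintype.card F = 4 ∧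
        Nonempty (G ≃* Matrix.ProjectiveSpecialLinearGroup (Fin 3) F)) := by
  have hna' : ¬ IsMulCommutative G := fun h => hna (fun a b => mul_comm' a b)
  have hP := p2_all hG
  obtain ⟨A, B, T, e⟩ := exists_edge hG hP (pCore_bot_of_simple hna) hTI
  by_cases h1 : ∃ (A B T : Subgroup G), NatEdge A B T 1
  · obtain ⟨A, B, T, N⟩ := h1
    obtain ⟨F, i1, i2, h0, h⟩ := N.psl2 hna' hG
    exact Or.inl ⟨F, i1, i2, h0, h⟩
  · push Not at h1
    have h3 : ∀ (A B T : Subgroup G) (n : ℕ), NatEdge A B T n → n = 3 := by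
      intro A B T n N
      rcases N.n_eq hG hP with rfl | h
      · exact absurd N (h1 A B T)
      · exact h
    obtain ⟨n, N⟩ := e.natural hG hP
    obtain rfl := h3 _ _ _ _ N
    right
    have hS := N.isSyl hna' hG hP h3
    have hF : Nat.card (GaloisField 2 2) = 4 := by
      rw [GaloisField.card 2 2 (by norm_num)]; norm_num
    let _ : Fintype (GaloisField 2 2) := Fintype.ofFinite _
    refine ⟨GaloisField 2 2, inferInstance, inferInstance, ?_, ?_⟩
    · rw [← Nat.card_eq_fintype_card, hF]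
    · exact Pln.iso (⟨hG, hP, N, hS⟩ : Pln A B T) hF

theorem field_list {G : Type*} [Group G] [Finite G] (hG : IsCIT G) {F : Type} [Field F] [Fintype F]
    (e : G ≃* Matrix.ProjectiveSpecialLinearGroup (Fin 2) F) :
    (Fintype.card F = 9 ∨ (∃ n : ℕ, Fintype.card F = 2 ^ n) ∨
          ((Fintype.card F).Prime ∧ ∃ k : ℕ, Fintype.card F = 2 ^ k + 1 ∨ Fintype.card F + 1 = 2 ^ k)) := by
  rcases Nat.even_or_odd (Fintype.card F) with hev | hodd
  · right; left
    obtain ⟨p, hchar⟩ := CharP.exists F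
    obtain ⟨f, hp, hpf⟩ := FiniteField.card F p
    have hp2 : p = 2 := by
      rw [hpf] at hev
      have := (Nat.even_pow.1 hev).1
      exact (hp.even_iff).1 this
    subst hp2
    exact ⟨_, hpf⟩
  · rcases psl2_restrict hodd (hG.equiv e) with h | h
    · exact Or.inl h
    · exact Or.inr (Or.inr h)

/-- **Non-solvable CIT groups with trivial 2-core whose odd prime divisors are those of `2^(2m) - 1`** -/
theorem core {X : Type*} [Group X] [Finite X] (h : IsCIT X) (hns : ¬ Group.IsSolvable X)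
    (hO2 : Cfsg.pCore 2 X = ⊥) {m : ℕ} (hm : 4 ≤ m)
    (hπ : ∀ ℓ : ℕ, ℓ.Prime → Odd ℓ → (ℓ ∣ Nat.card X ↔ ℓ ∣ 2 ^ (2 * m) - 1)) :
    ∃ (F : Type) (_ : Field F) (_ : Fintype F), Fintype.card F = 2 ^ m ∧
      Nonempty (X ≃* Matrix.ProjectiveSpecialLinearGroup (Fin 2) F) := by
  have h2f : Fact (Nat.Prime 2) := ⟨Nat.prime_two⟩
  obtain ⟨T, hTn, hTs, hna, hCT, z, hz, hz2⟩ := exists_simple h hns hO2
  -- when the involutions of `T` are conjugate
  have hconj : (∀ x y : T, orderOf x = 2 → orderOf y = 2 → ∃ m : T, m * x * m⁻¹ = y) →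
      IsPGroup 2 (X ⧸ T) := by
    intro hc
    refine quot_two_group h hz hz2 (fun w hw hw2 => ?_)
    obtain ⟨m, hm⟩ := hc ⟨z, hz⟩ ⟨w, hw⟩ (by rw [← hz2, ← orderOf_coe]) (by rw [← hw2, ← orderOf_coe])
    exact ⟨m, m.2, congrArg Subtype.val hm⟩
  have hprimes : IsPGroup 2 (X ⧸ T) → ∀ ℓ : ℕ, ℓ.Prime → Odd ℓ → (ℓ ∣ Nat.card T ↔ ℓ ∣ 2 ^ (2 * m) - 1) := by
    intro hq ℓ hℓ hℓ2
    rw [← hπ ℓ hℓ hℓ2]
    refine ⟨fun h1 => h1.trans (Subgroup.card_subgroup_dvd_card T), fun h1 => dvd_of_quot hq hℓ ?_ h1⟩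
    rintro rfl
    exact absurd hℓ2 (by decide)
  have hpsl : ∀ (F : Type) (_ : Field F) (_ : Fintype F),
      Nonempty (T ≃* Matrix.ProjectiveSpecialLinearGroup (Fin 2) F) →
      IsPGroup 2 (X ⧸ T) ∧ Fintype.card F = 2 ^ m := by
    intro F _ _ ⟨e⟩
    have hq := hconj (fun x y hx hy => conj_psl2 e hx hy)
    refine ⟨hq, CITRadN.main hm Fintype.one_lt_card (field_list (h.subgroup T) e) (fun ℓ hℓ hℓ2 => ?_)⟩
    rw [odd_dvd_psl2 rfl hℓ hℓ2, ← Nat.card_congr e.toEquiv]
    exact hprimes hq ℓ hℓ hℓ2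
  by_cases hTI : TI2 T
  · rcases of_ti hna (h.subgroup T) hTI with ⟨F, i1, i2, ⟨e⟩⟩ | ⟨-, k, hk, hcard⟩
    · obtain ⟨hq, hF⟩ := hpsl F i1 i2 ⟨e⟩
      obtain ⟨P, hP, -⟩ := exists_isSyl (p := 2) (Q := (⊥ : Subgroup T)) (H := ⊤) IsPGroup.of_bot bot_le
      have htop := eq_top_of_ti h hna hTI hq hP (card_invol e (by omega) hF hP)
      exact ⟨F, i1, i2, hF, ⟨(Subgroup.topEquiv.symm.trans (MulEquiv.subgroupCongr htop.symm)).trans e⟩⟩
    · exfalso
      obtain ⟨P, hP, -⟩ := exists_isSyl (p := 2) (Q := (⊥ : Subgroup T)) (H := ⊤) IsPGroup.of_bot bot_le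
      obtain ⟨n, hn1, hn, hz', g, hg⟩ := ti_data hna (h.subgroup T) hTI hP
      have hq := hconj (fun x y hx hy => ti_conj hP hn hx hy)
      have h3 : 3 ∣ 2 ^ (2 * m) - 1 := by
        rw [pow_mul]
        have := Nat.sub_dvd_pow_sub_pow (2 ^ 2) 1 m
        simpa using this
      have h4 := (hprimes hq 3 (by norm_num) (by decide)).2 h3
      rw [hcard] at h4
      have h5 : 2 ^ (2 * k + 1) % 3 = 2 := by
        rw [pow_succ, pow_mul, Nat.mul_mod, Nat.pow_mod]; norm_num
      have h6 : 2 ≤ 2 ^ (2 * k + 1) := by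
        have : 2 ^ 1 ≤ 2 ^ (2 * k + 1) := Nat.pow_le_pow_right (by norm_num) (by omega)
        omega
      generalize 2 ^ (2 * k + 1) = Q at h4 h5 h6
      have hp3 : Nat.Prime 3 := by norm_num
      rcases hp3.dvd_mul.1 h4 with h7 | h7
      · rcases hp3.dvd_mul.1 h7 with h7 | h7
        · have := hp3.dvd_of_dvd_pow h7
          omega
        · have h8 : (Q ^ 2 + 1) % 3 = 2 := by rw [Nat.add_mod, Nat.pow_mod, h5]
          omega
      · omega
  · rcases non_ti hna (h.subgroup T) hTI with ⟨F, i1, i2, hodd, ⟨e⟩⟩ | ⟨F, i1, i2, hF, ⟨e⟩⟩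
    · exfalso
      obtain ⟨hq, hF⟩ := hpsl F i1 i2 ⟨e⟩
      rw [hF] at hodd
      exact absurd hodd (by rw [Nat.not_odd_iff_even]; exact Nat.even_pow.2 ⟨even_two, by omega⟩)
    · exfalso
      obtain ⟨r, hr⟩ := CITRadN.exists_prim (N := 2 * m) (by omega) (by omega)
      have h2m : 0 < 2 * m := by omega
      have hro := hr.odd h2m
      have hcT : Nat.card T = 64 * 315 := by rw [Nat.card_congr e.toEquiv]; exact card_psl3 hF
      have hrX := (hπ r hr.1 hro).2 hr.2.1
      have h3 : ¬ r ∣ 3 := fun h0 => hr.2.2 2 (by norm_num) (by omega) (by norm_num; exact h0)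
      have h5 : ¬ r ∣ 5 := fun h0 => hr.2.2 4 (by norm_num) (by omega) (h0.trans (by norm_num))
      have h7 : ¬ r ∣ 7 := fun h0 => hr.2.2 3 (by norm_num) (by omega) (by norm_num; exact h0)
      have hrT : ¬ r ∣ Nat.card T := by
        rw [hcT, show 64 * 315 = 2 ^ 6 * (3 ^ 2 * (5 * 7)) by norm_num]
        intro h0
        rcases hr.1.dvd_mul.1 h0 with h1 | h1
        · exact CITRadN.prime_not_dvd_two_pow hr.1 hro _ h1
        rcases hr.1.dvd_mul.1 h1 with h1 | h1
        · exact h3 (hr.1.dvd_of_dvd_pow h1)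
        rcases hr.1.dvd_mul.1 h1 with h1 | h1
        · exact h5 h1
        · exact h7 h1
      obtain ⟨S⟩ : Nonempty (Sylow 2 T) := inferInstance
      have hcS : Nat.card S = 64 := by
        rw [S.card_eq_multiplicity, hcT]
        have : (64 * 315).factorization 2 = 6 := by
          rw [show 64 * 315 = 2 ^ 6 * 315 by norm_num, Nat.factorization_mul (by norm_num) (by norm_num),
            Nat.factorization_pow]
          simp [Nat.Prime.factorization Nat.prime_two, Nat.factorization_eq_zero_of_not_dvd]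
        rw [this]; norm_num
      have h8 := out h S hr.1 hro hrT hrX
      rw [hcS, show 64 - 1 = 3 ^ 2 * 7 by norm_num] at h8
      rcases hr.1.dvd_mul.1 h8 with h1 | h1
      · exact h3 (hr.1.dvd_of_dvd_pow h1)
      · exact h7 h1

end Cfsg.Agent.Lib.CITRad
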