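import Cfsg.Agent.Lib.CITWalk

/-!
# CIT-groups (helper6): natural edges have `q = 2` or `q = 4`
-/

set_option autoImplicit false
set_option linter.all false

namespace Cfsg.Agent.Lib.CIT

open Subgroup SylowRel StrongEmbPt

section abstract

theorem abs_small {H V : Type*} [Group H] [CommGroup V] (σ : H →* MulAut V)
    (h2 : ∀ v : V, v * v = 1) (hc : ∀ (h k : H) (v : V), σ h (σ k v) = σ k (σ h v))
    (ht : ∀ v w : V, v ≠ 1 → w ≠ 1 → ∃ h, σ h v = w)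
    (hp : ∀ μ ν : H, (∀ v, v * σ μ v * σ ν v = 1) →
      ∀ v, v * σ μ⁻¹ (σ μ⁻¹ v) * σ ν⁻¹ (σ ν⁻¹ v) = 1)
    {α β : H} (hα : σ α ≠ 1) (hβ : σ β ≠ 1) : σ (α * β) = 1 ∨ σ α = σ β := by
  have hinv : ∀ v : V, v⁻¹ = v := fun v => inv_eq_of_mul_eq_one_left (h2 v)
  have hcan : ∀ v w : V, v * (v * w) = w := fun v w => by rw [← mul_assoc, h2, one_mul]
  have heq : ∀ v w : V, v * w = 1 → v = w := fun v w h => by
    rw [← hinv w]; exact eq_inv_of_mul_eq_one_left h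
  have hfree : ∀ (h : H) (v : V), v ≠ 1 → σ h v = v → σ h = 1 := by
    intro h v hv hhv
    ext w
    by_cases hw : w = 1
    · rw [hw, map_one, map_one]
    · obtain ⟨k, rfl⟩ := ht v w hv hw
      rw [hc, hhv]; rfl
  have hii : ∀ (h : H) (v : V), σ h⁻¹ (σ h v) = v := by
    intro h v
    have : σ h⁻¹ (σ h v) = (σ h⁻¹ * σ h) v := rfl
    rw [this, ← map_mul, inv_mul_cancel, map_one]; rfl
  have key : ∀ μ : H, σ μ ≠ 1 → ∀ v : V, v * σ μ v * σ μ (σ μ v) = 1 := by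
    intro μ hμ v
    by_cases hv : v = 1
    · rw [hv]; simp
    have h3 : v * σ μ v ≠ 1 := by
      intro h
      exact hμ (hfree μ v hv (heq _ _ h).symm)
    obtain ⟨ν, hν⟩ := ht v _ hv h3
    have h4 : ∀ w : V, w * σ μ w * σ ν w = 1 := by
      intro w
      by_cases hw : w = 1
      · rw [hw]; simp
      · obtain ⟨k, rfl⟩ := ht v w hv hw
        rw [hc μ k, hc ν k, ← map_mul, ← map_mul, hν, h2, map_one]
    have h5 : ∀ w : V, σ ν w = w * σ μ w := fun w => (heq _ _ (h4 w)).symm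
    have h6 := hp μ ν h4
    have h7 : ∀ x : V, x * σ μ (σ μ x) * σ μ (σ μ (σ μ (σ μ x))) = 1 := by
      intro x
      have h8 := h6 (σ μ (σ μ (σ ν (σ ν x))))
      have h9 : σ μ⁻¹ (σ μ⁻¹ (σ μ (σ μ (σ ν (σ ν x))))) = σ ν (σ ν x) := by rw [hii, hii]
      have h10 : σ ν⁻¹ (σ ν⁻¹ (σ μ (σ μ (σ ν (σ ν x))))) = σ μ (σ μ x) := by
        rw [hc μ ν (σ ν x), hc μ ν (σ μ (σ ν x)), hc μ ν x, hc μ ν (σ μ x), hii, hii]
      rw [h9, h10] at h8
      simp only [h5, map_mul] at h8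
      have h11 : x * σ μ (σ μ x) * σ μ (σ μ (σ μ (σ μ x))) = 1 := by
        rw [← h8]
        simp only [mul_assoc, mul_comm, mul_left_comm, hcan, h2]
      exact h11
    have h12 : ∀ x : V, x ≠ 1 → x * σ μ x * σ μ (σ μ x) = 1 → ∀ w : V, w * σ μ w * σ μ (σ μ w) = 1 := by
      intro x hx hxx w
      by_cases hw : w = 1
      · rw [hw]; simp
      · obtain ⟨k, rfl⟩ := ht x w hx hw
        rw [hc μ k, hc μ k, ← map_mul, ← map_mul, hxx, map_one]
    by_cases h13 : v * σ μ v * σ μ (σ μ v) = 1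
    · exact h13
    · refine h12 _ h13 ?_ v
      have h14 := h7 v
      rw [← h14]
      simp only [map_mul, mul_assoc, mul_comm, mul_left_comm, hcan, h2]
  by_cases hαβ : σ (α * β) = 1
  · exact Or.inl hαβ
  right
  ext v
  have k1 := key α hα
  have k2 := key β hβ v
  have k3 := key (α * β) hαβ v
  have hmul : ∀ x, σ (α * β) x = σ α (σ β x) := fun x => by rw [map_mul]; rfl
  rw [hmul, hmul] at k3
  have e1 : σ α (σ β (σ α (σ β v))) = σ α (σ α (σ β (σ β v))) := by rw [hc β α (σ β v)]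
  rw [e1] at k3
  have a1 : ∀ x, σ α (σ α x) = x * σ α x := fun x => (heq _ _ (k1 x)).symm
  have a2 : σ β (σ β v) = v * σ β v := (heq _ _ k2).symm
  rw [a1, a2] at k3
  simp only [map_mul] at k3
  apply heq
  rw [← k3]
  simp only [mul_assoc, mul_comm, mul_left_comm, hcan, h2, one_mul, mul_one]

end abstract

section nat

variable {G : Type*} [Group G] [Finite G] {A B T : Subgroup G} {n : ℕ}

theorem NatEdge.A_le (N : NatEdge A B T n) : A ≤ T := N.edge.locA.le_syl N.edge.sylA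
theorem NatEdge.B_le (N : NatEdge A B T n) : B ≤ T := N.edge.locB.le_syl N.edge.sylB
theorem NatEdge.T_le (N : NatEdge A B T n) : T ≤ NN A := N.edge.sylA.le

theorem comm_of_sq {A : Subgroup G} (h : ∀ x ∈ A, x * x = 1) : ∀ x ∈ A, ∀ y ∈ A, x * y = y * x := by
  intro x hx y hy
  have h1 := h _ (mul_mem hx hy)
  have h2 : (x * y)⁻¹ = x * y := inv_eq_of_mul_eq_one_left h1
  rw [← h2, mul_inv_rev, inv_eq_of_mul_eq_one_left (h x hx), inv_eq_of_mul_eq_one_left (h y hy)]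

theorem NatEdge.commA (N : NatEdge A B T n) : ∀ x ∈ A, ∀ y ∈ A, x * y = y * x := comm_of_sq N.sqA

theorem NatEdge.zetaA (N : NatEdge A B T n) : zeta A = A :=
  le_antisymm (zeta_le A) (fun x hx => mem_zeta.2 ⟨hx, N.sqA x hx, fun y hy => N.commA x hx y hy⟩)

theorem NatEdge.cardA (N : NatEdge A B T n) : Nat.card A = (n + 1) ^ 2 := by
  rw [← N.zetaA]; exact N.ffA.cardZ

theorem NatEdge.cardT (N : NatEdge A B T n) : Nat.card T = (n + 1) ^ 3 := by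
  rw [N.ffA.cardT, N.cardA]; ring

theorem NatEdge.comm (N : NatEdge A B T n) {t a : G} (ht : t ∈ T) (ha : a ∈ A) :
    a * (t * a * t⁻¹) ∈ zeta T := N.ffA.comm t ht a (by rw [N.zetaA]; exact ha)

theorem NatEdge.cent (N : NatEdge A B T n) {t a : G} (ht : t ∈ T) (htA : t ∉ A) (ha : a ∈ A)
    (h : a * t = t * a) : a ∈ zeta T := N.ffA.cent t ht htA a (by rw [N.zetaA]; exact ha) h

theorem NatEdge.W_le (N : NatEdge A B T n) : zeta T ≤ A := by rw [← N.inf]; exact inf_le_left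

theorem NatEdge.W_le' (N : NatEdge A B T n) : zeta T ≤ B := by rw [← N.inf]; exact inf_le_right

theorem NatEdge.exists_mul (N : NatEdge A B T n) {t : G} (ht : t ∈ T) : ∃ a ∈ A, ∃ b ∈ B, a * b = t :=
  (SubgroupTools.mem_sup_of_le_normalizer (N := A) (H := B) (N.B_le.trans N.T_le)).1
    (by rw [N.sup]; exact ht)

/-- involutions of `T` lie in `A ∪ B` -/
theorem NatEdge.mem_or (N : NatEdge A B T n) {x : G} (hx : x ∈ T) (hx2 : x * x = 1) :
    x ∈ A ∨ x ∈ B := by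
  obtain ⟨a, ha, b, hb, rfl⟩ := N.exists_mul hx
  have h1 : a * b = b * a := by
    have h2 : (a * b)⁻¹ = a * b := inv_eq_of_mul_eq_one_left hx2
    rw [← h2, mul_inv_rev, inv_eq_of_mul_eq_one_left (N.sqA a ha),
      inv_eq_of_mul_eq_one_left (N.sqB b hb)]
  by_cases hbA : b ∈ A
  · left; exact mul_mem ha hbA
  · right
    exact mul_mem (N.W_le' (N.cent (N.B_le hb) hbA ha h1)) hb

theorem NatEdge.NN_T (N : NatEdge A B T n) {h : G} (hA : h ∈ NN A) (hT : h ∈ NN T) : h ∈ NN B := by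
  have key : ∀ h : G, h ∈ NN A → h ∈ NN T → cj h B ≤ B := by
    intro h hA hT x hx
    have hxT : x ∈ T := by
      rw [← mem_normalizer_iff_cj.1 hT]; exact cj_mono N.B_le hx
    have hx2 : x * x = 1 := by
      rw [mem_cj] at hx
      have h1 := N.sqB _ hx
      calc x * x = h * (h⁻¹ * x * h * (h⁻¹ * x * h)) * h⁻¹ := by group
        _ = 1 := by rw [h1]; group
    rcases N.mem_or hxT hx2 with h1 | h1
    · have h2 : x ∈ (A ⊓ cj h B : Subgroup G) := ⟨h1, hx⟩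
      have h3 : A ⊓ cj h B = zeta T := by
        conv_lhs => rw [← mem_normalizer_iff_cj.1 hA]
        rw [← cj_inf, N.inf, ← zeta_cj, mem_normalizer_iff_cj.1 hT]
      rw [h3] at h2
      exact N.W_le' h2
    · exact h1
  rw [mem_normalizer_iff_cj]
  apply le_antisymm (key h hA hT)
  have := cj_mono (g := h) (key h⁻¹ (inv_mem hA) (inv_mem hT))
  rwa [cj_cj_inv] at this

/-- semiregularity on `W` -/
theorem NatEdge.free (hG : IsCIT G) (N : NatEdge A B T n) {h w : G} (hA : h ∈ NN A)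
    (hw : w ∈ zeta T) (hw1 : w ≠ 1) (hhw : h * w = w * h) : h ∈ T := by
  have h1 : IsPGroup 2 (NN A ⊓ centralizer ({w} : Set G) : Subgroup G) :=
    (hG.cent_of_mem N.edge.sylA.isPGroup (zeta_le T hw) hw1).to_le inf_le_right
  have h2 : T ≤ NN A ⊓ centralizer ({w} : Set G) :=
    le_inf N.T_le (fun x hx => mem_cent.2 ((mem_zeta.1 hw).2.2 x hx).symm)
  rw [← N.edge.sylA.eq_of_le h1 h2 inf_le_left]
  exact mem_inf.2 ⟨hA, mem_cent.2 hhw⟩

/-- transitivity on `W \ 1` -/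
theorem NatEdge.trans (hG : IsCIT G) (N : NatEdge A B T n) {w w' : G} (hw : w ∈ zeta T) (hw1 : w ≠ 1)
    (hw' : w' ∈ zeta T) (hw1' : w' ≠ 1) : ∃ h ∈ NN A, h ∈ NN T ∧ h * w * h⁻¹ = w' := by
  classical
  set M : Subgroup G := NN A ⊓ NN T with hM
  let Y := {x : zeta T // x ≠ 1}
  have hY : Nat.card Y + 1 = Nat.card (zeta T) := by
    have : Fintype (zeta T) := Fintype.ofFinite _
    rw [Nat.card_eq_fintype_card, Nat.card_eq_fintype_card, Fintype.card_subtype_compl,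
      Fintype.card_subtype_eq]
    have : 0 < Fintype.card (zeta T) := Fintype.card_pos
    omega
  have hMZ : ∀ m ∈ M, m * w * m⁻¹ ∈ zeta T := fun m hm =>
    (mem_normalizer_iff.1 (le_normalizer_zeta T (mem_inf.1 hm).2) w).1 hw
  let f : (M ⧸ T.subgroupOf M) → Y := fun c =>
    ⟨⟨(c.out : G) * w * (c.out : G)⁻¹, hMZ _ c.out.2⟩, by
      intro h1
      have h2 : (c.out : G) * w * (c.out : G)⁻¹ = 1 := congrArg Subtype.val h1
      apply hw1
      have : w = (c.out : G)⁻¹ * ((c.out : G) * w * (c.out : G)⁻¹) * (c.out : G) := by group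
      rw [this, h2]; group⟩
  have hf : Function.Injective f := by
    intro c d hcd
    have h1 : (c.out : G) * w * (c.out : G)⁻¹ = (d.out : G) * w * (d.out : G)⁻¹ :=
      congrArg (fun z : Y => ((z : zeta T) : G)) hcd
    rw [← c.out_eq, ← d.out_eq, QuotientGroup.eq]
    change ((c.out : G))⁻¹ * (d.out : G) ∈ T
    apply N.free hG (mul_mem (inv_mem (mem_inf.1 c.out.2).1) (mem_inf.1 d.out.2).1) hw hw1
    calc (c.out : G)⁻¹ * (d.out : G) * w
        = (c.out : G)⁻¹ * ((d.out : G) * w * (d.out : G)⁻¹) * (d.out : G) := by group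
      _ = (c.out : G)⁻¹ * ((c.out : G) * w * (c.out : G)⁻¹) * (d.out : G) := by rw [h1]
      _ = w * ((c.out : G)⁻¹ * (d.out : G)) := by group
  have h2 : Nat.card (M ⧸ T.subgroupOf M) = n := by rw [← N.ffA.ldata.rel]; rfl
  have h3 : Nat.card Y = n := by
    have := N.ffA.cardz
    omega
  have hbij : Function.Bijective f := by
    have : Fintype (M ⧸ T.subgroupOf M) := Fintype.ofFinite _
    have : Fintype Y := Fintype.ofFinite _
    rw [Fintype.bijective_iff_injective_and_card]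
    refine ⟨hf, ?_⟩
    rw [← Nat.card_eq_fintype_card, ← Nat.card_eq_fintype_card, h2, h3]
  obtain ⟨c, hc⟩ := hbij.2 ⟨⟨w', hw'⟩, fun h => hw1' (congrArg Subtype.val h)⟩
  exact ⟨c.out, (mem_inf.1 c.out.2).1, (mem_inf.1 c.out.2).2,
    congrArg (fun z : Y => ((z : zeta T) : G)) hc⟩

/-- the action on `A` -/
def NatEdge.rho (A : Subgroup G) : NN A →* MulAut A := A.normalizerMonoidHom

theorem rho_apply {x : NN A} {a : A} : ((NatEdge.rho A x a : A) : G) = x * a * (x : G)⁻¹ := rfl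

theorem NatEdge.rho_eq_one (N : NatEdge A B T n) {x : NN A} (hx : (x : G) ∈ A) :
    NatEdge.rho A x = 1 := by
  ext a
  rw [rho_apply, N.commA x hx a a.2, mul_inv_cancel_right]; rfl

theorem NatEdge.rho_eq (N : NatEdge A B T n) {x y : NN A} (h : (x : G)⁻¹ * y ∈ A) :
    NatEdge.rho A x = NatEdge.rho A y := by
  have h1 : NatEdge.rho A (x⁻¹ * y) = 1 := N.rho_eq_one h
  rw [map_mul, map_inv] at h1
  exact (inv_mul_eq_one.1 h1)

/-- swapping data -/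
structure Sw (A T : Subgroup G) (n : ℕ) (u t : G) : Prop where
  uA : u ∈ NN A
  u2 : u * u ∈ A
  uT : cj u T ≠ T
  tT : t ∈ T
  tA : t ∉ A
  invK : ∀ x ∈ NN A, x ∈ NN T → x ∈ NN (cj u T) → u * x * u⁻¹ * x ∈ A
  cardK : Nat.card (NN A ⊓ NN T ⊓ NN (cj u T) : Subgroup G) = Nat.card A * n
  rel : ∀ w ∈ zeta T, t * (u * w * u⁻¹) * t⁻¹ = (u * w * u⁻¹) * w

theorem NatEdge.exists_sw (hG : IsCIT G) (N : NatEdge A B T n) (hn : n ≠ 1) :
    ∃ u t : G, Sw A T n u t := by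
  classical
  haveI : Fact (Nat.Prime 2) := ⟨Nat.prime_two⟩
  have L := N.ffA.ldata
  obtain ⟨g, hg, hgT⟩ := N.edge.locA.exists_ne N.edge.sylA
  obtain ⟨u, hu, huA, hu2, huT, hinv, hcard⟩ := L.swap g hg hgT
  have hTne : cj u T ≠ T := by
    rw [huT]; exact fun h => hgT (mem_normalizer_iff_cj.2 h)
  have hAp := N.edge.locA.isPGroup
  have hsT := N.edge.sylA
  -- the Sylow subgroup containing u
  obtain ⟨k, hk⟩ := pow_two_of_isPGroup hAp hu2
  have huk : u ^ 2 ^ (k+1) = 1 := by rw [pow_succ', pow_mul, pow_two]; exact hk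
  have hRp : IsPGroup 2 (A ⊔ zpowers u : Subgroup G) :=
    IsPGroup.to_sup_of_normal_left' hAp (isPGroup_zpowers huk) (zpowers_le.2 hu)
  obtain ⟨T'', hT'', hRT''⟩ := exists_isSyl hRp (sup_le le_normalizer (zpowers_le.2 hu) :
    A ⊔ zpowers u ≤ NN A)
  have huT'' : u ∈ T'' := hRT'' (mem_sup_right (mem_zpowers u))
  obtain ⟨c, hc, rfl⟩ := hsT.exists_cj_eq hT''
  set T' := cj u T with hT'
  have hsT' : IsSyl 2 T' (NN A) := hsT.cj_mem hu
  have huuT : cj u T' = T := by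
    rw [hT', ← cj_mul, cj_eq_of_mem (N.A_le hu2)]
  have h1 : cj c T ≠ T := by
    intro h
    rw [h] at huT''
    exact hTne (cj_eq_of_mem huT'')
  have h2 : cj c T ≠ T' := by
    intro h
    rw [h] at huT''
    have := cj_eq_of_mem huT''
    rw [huuT] at this
    exact hTne this.symm
  obtain ⟨t, ht, htT'⟩ := L.reg hn 1 u c (one_mem _) hu hc (by rw [cj_one]; exact hTne)
    (by rw [cj_one]; exact h1)
  rw [cj_one] at ht
  have htA : t ∉ A := by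
    intro h
    have h3 : t ∈ T' := N.edge.locA.le_syl hsT' h
    rw [cj_eq_of_mem h3] at htT'
    exact h2 htT'.symm
  have ht2 : t * t ∈ A := N.ffA.sq t ht
  have htT'' : cj t (cj c T) = T' := by
    rw [← htT', ← cj_mul, ← hT', cj_eq_of_mem (N.edge.locA.le_syl hsT' ht2)]
  have htT : cj t T = T := cj_eq_of_mem ht
  have huc : cj u (cj c T) = cj c T := cj_eq_of_mem huT''
  have s1 : cj (u * t) T = T' := by rw [cj_mul, htT]
  have s2 : cj (u * t) T' = cj c T := by rw [cj_mul, hT', htT', huc]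
  have s3 : cj (u * t) (cj c T) = T := by rw [cj_mul, htT'', huuT]
  have hx : (u * t) * (u * t) * (u * t) ∈ A := by
    apply L.three hn 1 u c _ (one_mem _) hu hc
    · rw [cj_one]; exact hTne.symm
    · exact h2.symm
    · rw [cj_one]; exact h1.symm
    · have := mul_mem hu (N.T_le ht)
      exact mul_mem (mul_mem this this) this
    · rw [cj_one, mem_normalizer_iff_cj, cj_mul, cj_mul, s1, s2, s3]
    · rw [mem_normalizer_iff_cj, cj_mul, cj_mul, ← hT', s2, s3, s1]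
    · rw [mem_normalizer_iff_cj, cj_mul, cj_mul, s3, s1, s2]
  refine ⟨u, t, ⟨hu, hu2, hTne, ht, htA, ?_, ?_, ?_⟩⟩
  · intro x hx hxT hxT'
    rw [← hT', huT] at hxT'
    exact hinv x hx hxT hxT'
  · rw [← hT', huT]; exact hcard
  · intro w hw
    have hwA : w ∈ A := N.W_le hw
    let U := NatEdge.rho A ⟨u, hu⟩
    let τ := NatEdge.rho A ⟨t, N.T_le ht⟩
    have hUU : U * U = 1 := by
      change NatEdge.rho A ⟨u, hu⟩ * NatEdge.rho A ⟨u, hu⟩ = 1
      rw [← map_mul]; exact N.rho_eq_one hu2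
    have hττ : τ * τ = 1 := by
      change NatEdge.rho A ⟨t, N.T_le ht⟩ * NatEdge.rho A ⟨t, N.T_le ht⟩ = 1
      rw [← map_mul]; exact N.rho_eq_one ht2
    have h3 : (U * τ) * (U * τ) * (U * τ) = 1 := by
      change (NatEdge.rho A ⟨u, hu⟩ * NatEdge.rho A ⟨t, N.T_le ht⟩) *
        (NatEdge.rho A ⟨u, hu⟩ * NatEdge.rho A ⟨t, N.T_le ht⟩) *
        (NatEdge.rho A ⟨u, hu⟩ * NatEdge.rho A ⟨t, N.T_le ht⟩) = 1
      rw [← map_mul, ← map_mul, ← map_mul]; exact N.rho_eq_one hx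
    have hUi : U⁻¹ = U := inv_eq_of_mul_eq_one_left hUU
    have hτi : τ⁻¹ = τ := inv_eq_of_mul_eq_one_left hττ
    have h4 : U * τ * U = τ * U * τ := by
      calc U * τ * U = ((U * τ) * (U * τ) * (U * τ)) * τ⁻¹ * U⁻¹ * τ⁻¹ := by group
        _ = τ * U * τ := by rw [h3, hUi, hτi, one_mul]
    let w0 : A := ⟨w, hwA⟩
    have hτw : τ w0 = w0 := by
      apply Subtype.ext
      change t * w * t⁻¹ = w
      rw [← (mem_zeta.1 hw).2.2 t ht, mul_inv_cancel_right]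
    have h5 : U (τ (U w0)) = τ (U w0) := by
      have h6 : (U * τ * U) w0 = (τ * U * τ) w0 := by rw [h4]
      have h7 : (U * τ * U) w0 = U (τ (U w0)) := rfl
      have h8 : (τ * U * τ) w0 = τ (U (τ w0)) := rfl
      rw [h7, h8, hτw] at h6; exact h6
    set w' := u * w * u⁻¹ with hw'
    have hw'A : w' ∈ A := (mem_normalizer_iff.1 hu w).1 hwA
    set d := w' * (t * w' * t⁻¹) with hd
    have hdW : d ∈ zeta T := N.comm ht hw'A
    have hww : w' * w' = 1 := N.sqA _ hw'A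
    have h9 : t * w' * t⁻¹ = w' * d := by
      calc t * w' * t⁻¹ = (w' * w') * (t * w' * t⁻¹) := by rw [hww, one_mul]
        _ = w' * d := by rw [hd]; group
    have h10 : u * (t * w' * t⁻¹) * u⁻¹ = t * w' * t⁻¹ := congrArg Subtype.val h5
    have huw : u * w' * u⁻¹ = w := by
      have h11 : U (U w0) = w0 := by
        have : U (U w0) = (U * U) w0 := rfl
        rw [this, hUU]; rfl
      exact congrArg Subtype.val h11
    have h12 : w * (u * d * u⁻¹) = w' * d := by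
      rw [h9] at h10
      rw [← h10]
      calc w * (u * d * u⁻¹) = (u * w' * u⁻¹) * (u * d * u⁻¹) := by rw [huw]
        _ = u * (w' * d) * u⁻¹ := by group
    have hdA : d ∈ A := N.W_le hdW
    have hudA : u * d * u⁻¹ ∈ A := (mem_normalizer_iff.1 hu d).1 hdA
    have h13 : u * (w * d) * u⁻¹ = w * d := by
      have h14 : w * w = 1 := N.sqA w hwA
      have h15 : d * d = 1 := N.sqA d hdA
      have h16 : u * d * u⁻¹ = w * (w' * d) := by
        calc u * d * u⁻¹ = (w * w) * (u * d * u⁻¹) := by rw [h14, one_mul]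
          _ = w * (w * (u * d * u⁻¹)) := by group
          _ = w * (w' * d) := by rw [h12]
      calc u * (w * d) * u⁻¹ = w' * (u * d * u⁻¹) := by rw [hw']; group
        _ = w' * (w * (w' * d)) := by rw [h16]
        _ = w' * w * w' * d := by group
        _ = w * w' * w' * d := by rw [N.commA w' hw'A w hwA]
        _ = w * (w' * w') * d := by group
        _ = w * d := by rw [hww, mul_one]
    have h17 : w * d = 1 := by
      by_contra hne
      have h18 : u ∈ T := N.free hG hu (mul_mem hw hdW) hne (mul_inv_eq_iff_eq_mul.1 h13)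
      exact hTne (cj_eq_of_mem h18)
    have h19 : d = w := by
      have h14 : w * w = 1 := N.sqA w hwA
      calc d = w * w * d := by rw [h14, one_mul]
        _ = w * (w * d) := by group
        _ = w := by rw [h17, mul_one]
    rw [h9, h19]

theorem syl_eq_of_mem (hG : IsCIT G) {A T T' : Subgroup G} (hT : IsSyl 2 T (NN A))
    (hT' : IsSyl 2 T' (NN A)) {w : G} (hw : w ∈ zeta T) (hw' : w ∈ zeta T') (hw1 : w ≠ 1) : T = T' := by
  have h1 : IsPGroup 2 (NN A ⊓ centralizer ({w} : Set G) : Subgroup G) :=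
    (hG.cent_of_mem hT.isPGroup (zeta_le T hw) hw1).to_le inf_le_right
  have h2 : T ≤ NN A ⊓ centralizer ({w} : Set G) :=
    le_inf hT.le (fun x hx => mem_cent.2 ((mem_zeta.1 hw).2.2 x hx).symm)
  have h3 : T' ≤ NN A ⊓ centralizer ({w} : Set G) :=
    le_inf hT'.le (fun x hx => mem_cent.2 ((mem_zeta.1 hw').2.2 x hx).symm)
  rw [← hT.eq_of_le h1 h2 inf_le_left, ← hT'.eq_of_le h1 h3 inf_le_left]

section sw

variable {u t : G}

theorem NatEdge.decomp (hP : P2 G) (N : NatEdge A B T n) (S : Sw A T n u t) {h : G} (hA : h ∈ NN A)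
    (hT : h ∈ NN T) : ∃ s ∈ T, ∃ k : G, k ∈ NN A ∧ k ∈ NN T ∧ k ∈ NN (cj u T) ∧ s * k = h := by
  set K : Subgroup G := NN A ⊓ NN T ⊓ NN (cj u T) with hK
  have hKT : K ≤ NN T := inf_le_left.trans inf_le_right
  have hsT := N.edge.sylA
  have hsT' : IsSyl 2 (cj u T) (NN A) := hsT.cj_mem S.uA
  have h1 : T ⊓ K = A := by
    apply le_antisymm
    · intro x hx
      obtain ⟨hxT, hxK⟩ := mem_inf.1 hx
      obtain ⟨k, hk⟩ := pow_two_of_isPGroup hsT.isPGroup hxT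
      have h2 : x ∈ cj u T := by
        haveI : Fact (Nat.Prime 2) := ⟨Nat.prime_two⟩
        have h3 : IsPGroup 2 (cj u T ⊔ zpowers x : Subgroup G) :=
          IsPGroup.to_sup_of_normal_left' hsT'.isPGroup (isPGroup_zpowers hk)
            (zpowers_le.2 (mem_inf.1 hxK).2)
        rw [← hsT'.eq_of_le h3 le_sup_left (sup_le hsT'.le (zpowers_le.2 (hsT.le hxT)))]
        exact mem_sup_right (mem_zpowers x)
      rw [← N.edge.locA.inf_eq hP hsT hsT' S.uT.symm]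
      exact ⟨hxT, h2⟩
    · refine le_inf N.A_le (le_inf (le_inf le_normalizer (N.A_le.trans le_normalizer)) ?_)
      exact (N.edge.locA.le_syl hsT').trans le_normalizer
  have h2 := SubgroupTools.card_sup_mul_card_inf (N := T) (H := K) hKT
  rw [h1, S.cardK] at h2
  have hApos : 0 < Nat.card A := Nat.card_pos
  have hTM : T ≤ NN A ⊓ NN T := le_inf N.T_le le_normalizer
  have h3 := card_mul_rel hTM
  rw [N.ffA.ldata.rel] at h3
  have h4 : Nat.card (T ⊔ K : Subgroup G) = Nat.card T * n := by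
    have h5 : Nat.card A * Nat.card (T ⊔ K : Subgroup G) = Nat.card A * (Nat.card T * n) := by
      rw [mul_comm, h2]; ring
    exact Nat.eq_of_mul_eq_mul_left hApos h5
  have h5 : T ⊔ K = NN A ⊓ NN T := by
    apply Subgroup.eq_of_le_of_card_ge (sup_le hTM inf_le_left)
    rw [h4, h3]
  have h6 : h ∈ T ⊔ K := by rw [h5]; exact ⟨hA, hT⟩
  obtain ⟨s, hs, k, hk, hsk⟩ := (SubgroupTools.mem_sup_of_le_normalizer hKT).1 h6
  exact ⟨s, hs, k, (mem_inf.1 (mem_inf.1 hk).1).1, (mem_inf.1 (mem_inf.1 hk).1).2,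
    (mem_inf.1 hk).2, hsk⟩

/-- `B`-side: conjugation inverted -/
theorem NatEdge.conj_u (N : NatEdge A B T n) (S : Sw A T n u t) {k a : G} (hk : k ∈ NN A)
    (hkT : k ∈ NN T) (hkT' : k ∈ NN (cj u T)) (ha : a ∈ A) :
    k * (u * a * u⁻¹) * k⁻¹ = u * (k⁻¹ * a * k) * u⁻¹ := by
  have h1 := S.invK k hk hkT hkT'
  have h2 : NatEdge.rho A (⟨u, S.uA⟩ * ⟨k, hk⟩ * ⟨u, S.uA⟩⁻¹ * ⟨k, hk⟩) = 1 := N.rho_eq_one h1
  rw [map_mul, map_mul, map_mul, map_inv] at h2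
  have h3 : NatEdge.rho A ⟨k, hk⟩ * NatEdge.rho A ⟨u, S.uA⟩ =
      NatEdge.rho A ⟨u, S.uA⟩ * (NatEdge.rho A ⟨k, hk⟩)⁻¹ := by
    have h5 : NatEdge.rho A ⟨u, S.uA⟩ * NatEdge.rho A ⟨u, S.uA⟩ = 1 := by
      rw [← map_mul]; exact N.rho_eq_one S.u2
    have h6 : (NatEdge.rho A ⟨u, S.uA⟩)⁻¹ = NatEdge.rho A ⟨u, S.uA⟩ := inv_eq_of_mul_eq_one_left h5
    rw [h6] at h2
    set U := NatEdge.rho A ⟨u, S.uA⟩
    set k' := NatEdge.rho A ⟨k, hk⟩
    calc k' * U = U⁻¹ * k'⁻¹ * (k' * U * k' * U) := by group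
      _ = U⁻¹ * k'⁻¹ * (U⁻¹ * (U * k' * U * k') * U) := by group
      _ = U * k'⁻¹ := by rw [h2, h6]; rw [mul_one, h5, mul_one]
  have h4 := congrArg (fun f : MulAut A => ((f ⟨a, ha⟩ : A) : G)) h3
  have h5 : (((NatEdge.rho A ⟨k, hk⟩ * NatEdge.rho A ⟨u, S.uA⟩) ⟨a, ha⟩ : A) : G) =
    k * (u * a * u⁻¹) * k⁻¹ := rfl
  have h6 : (((NatEdge.rho A ⟨u, S.uA⟩ * (NatEdge.rho A ⟨k, hk⟩)⁻¹) ⟨a, ha⟩ : A) : G) =
    u * (k⁻¹ * a * k) * u⁻¹ := by
    rw [← map_inv]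
    change u * (k⁻¹ * a * k⁻¹⁻¹) * u⁻¹ = _
    rw [inv_inv]
  calc _ = _ := h5.symm
    _ = _ := h4
    _ = _ := h6

theorem NatEdge.split (hG : IsCIT G) (N : NatEdge A B T n) (S : Sw A T n u t) {a : G} (ha : a ∈ A) :
    ∃ w0 ∈ zeta T, ∃ w ∈ zeta T, w0 * (u * w * u⁻¹) = a := by
  have h1 : zeta T ⊓ cj u (zeta T) = ⊥ := by
    by_contra hne
    obtain ⟨v, hv, hv1⟩ := exists_mem_ne_one hne
    apply S.uT
    exact (syl_eq_of_mem hG N.edge.sylA (N.edge.sylA.cj_mem S.uA) (mem_inf.1 hv).1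
      (by rw [zeta_cj]; exact (mem_inf.1 hv).2) hv1).symm
  have hcjA : cj u (zeta T) ≤ A := by
    have := cj_mono (g := u) N.W_le
    rwa [mem_normalizer_iff_cj.1 S.uA] at this
  have hnorm : cj u (zeta T) ≤ NN (zeta T) := by
    intro x hx
    have hxT : x ∈ T := N.A_le (hcjA hx)
    exact le_normalizer_zeta T (le_normalizer hxT)
  have h2 := SubgroupTools.card_sup_mul_card_inf (N := zeta T) (H := cj u (zeta T)) hnorm
  rw [h1, Subgroup.card_bot, mul_one, card_cj, N.ffA.cardz, ← pow_two, ← N.cardA] at h2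
  have h3 : zeta T ⊔ cj u (zeta T) = A :=
    Subgroup.eq_of_le_of_card_ge (sup_le N.W_le hcjA) h2.ge
  rw [← h3] at ha
  obtain ⟨w0, hw0, x, hx, hxa⟩ := (SubgroupTools.mem_sup_of_le_normalizer hnorm).1 ha
  refine ⟨w0, hw0, u⁻¹ * x * u, mem_cj.1 hx, ?_⟩
  rw [← hxa]; group

theorem NatEdge.quot_ab (N : NatEdge A B T n) {x y : G} (hx : x ∈ T) (hy : y ∈ T) :
    x * y * x⁻¹ * y⁻¹ ∈ A := by
  have h1 := N.ffA.sq _ (mul_mem hx hy)
  have h2 := N.ffA.sq _ hx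
  have h3 := N.ffA.sq _ hy
  have h4 : x * y * x⁻¹ * y⁻¹ = (x * y * (x * y)) * (y⁻¹ * (x * x)⁻¹ * y⁻¹⁻¹) * (y * y)⁻¹ := by group
  rw [h4]
  exact mul_mem (mul_mem h1 ((mem_normalizer_iff.1 (inv_mem (N.T_le hy)) _).1 (inv_mem h2))) (inv_mem h3)

/-- conj on `W` by `T` is trivial -/
theorem zeta_conj_T {T : Subgroup G} {w s : G} (hw : w ∈ zeta T) (hs : s ∈ T) : s * w * s⁻¹ = w := by
  rw [← (mem_zeta.1 hw).2.2 s hs, mul_inv_cancel_right]

theorem zeta_conj_NT {T : Subgroup G} {w h : G} (hw : w ∈ zeta T) (hh : h ∈ NN T) :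
    h * w * h⁻¹ ∈ zeta T := (mem_normalizer_iff.1 (le_normalizer_zeta T hh) w).1 hw

theorem NatEdge.lemB (hG : IsCIT G) (hP : P2 G) (N : NatEdge A B T n) (S : Sw A T n u t) {h w : G}
    (hA : h ∈ NN A) (hT : h ∈ NN T) (hw : w ∈ zeta T) :
    (h * t * h⁻¹) * (u * w * u⁻¹) * (h * t * h⁻¹)⁻¹ = (u * w * u⁻¹) * (h * (h * w * h⁻¹) * h⁻¹) := by
  obtain ⟨s, hs, k, hkA, hkT, hkT', rfl⟩ := N.decomp hP S hA hT
  have hwA := N.W_le hw
  have hv : u * w * u⁻¹ ∈ A := (mem_normalizer_iff.1 S.uA w).1 hwA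
  -- the K-version
  have h1 : (k * t * k⁻¹) * (u * w * u⁻¹) * (k * t * k⁻¹)⁻¹ =
      (u * w * u⁻¹) * (k * (k * w * k⁻¹) * k⁻¹) := by
    have h2 := N.conj_u S (inv_mem hkA) (inv_mem hkT) (inv_mem hkT') hwA
    rw [inv_inv] at h2
    -- k⁻¹ v k = u (k w k⁻¹) u⁻¹
    have h3 := S.rel _ (zeta_conj_NT hw hkT)
    calc (k * t * k⁻¹) * (u * w * u⁻¹) * (k * t * k⁻¹)⁻¹
        = k * (t * (k⁻¹ * (u * w * u⁻¹) * k) * t⁻¹) * k⁻¹ := by group
      _ = k * (t * (u * (k * w * k⁻¹) * u⁻¹) * t⁻¹) * k⁻¹ := by rw [h2]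
      _ = k * ((u * (k * w * k⁻¹) * u⁻¹) * (k * w * k⁻¹)) * k⁻¹ := by rw [h3]
      _ = k * (k⁻¹ * (u * w * u⁻¹) * k * (k * w * k⁻¹)) * k⁻¹ := by rw [h2]
      _ = (u * w * u⁻¹) * (k * (k * w * k⁻¹) * k⁻¹) := by group
  have hkt : k * t * k⁻¹ ∈ T := (mem_normalizer_iff.1 hkT t).1 S.tT
  have h4 : s * (k * t * k⁻¹) * s⁻¹ * (k * t * k⁻¹)⁻¹ ∈ A := N.quot_ab hs hkt
  set c := k * t * k⁻¹ with hc
  set e := s * c * s⁻¹ * c⁻¹ with he
  have h5 : (s * k) * t * (s * k)⁻¹ = e * c := by rw [he, hc]; group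
  have h6 : (s * k) * ((s * k) * w * (s * k)⁻¹) * (s * k)⁻¹ = k * (k * w * k⁻¹) * k⁻¹ := by
    have h7 : (s * k) * w * (s * k)⁻¹ = k * w * k⁻¹ := by
      calc (s * k) * w * (s * k)⁻¹ = s * (k * w * k⁻¹) * s⁻¹ := by group
        _ = k * w * k⁻¹ := zeta_conj_T (zeta_conj_NT hw hkT) hs
    rw [h7]
    calc (s * k) * (k * w * k⁻¹) * (s * k)⁻¹ = s * (k * (k * w * k⁻¹) * k⁻¹) * s⁻¹ := by group
      _ = k * (k * w * k⁻¹) * k⁻¹ := zeta_conj_T (zeta_conj_NT (zeta_conj_NT hw hkT) hkT) hs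
  rw [h5, h6]
  have h7 : c * (u * w * u⁻¹) * c⁻¹ ∈ A := (mem_normalizer_iff.1 (N.T_le hkt) _).1 hv
  calc e * c * (u * w * u⁻¹) * (e * c)⁻¹ = e * (c * (u * w * u⁻¹) * c⁻¹) * e⁻¹ := by group
    _ = c * (u * w * u⁻¹) * c⁻¹ := by rw [N.commA e h4 _ h7, mul_inv_cancel_right]
    _ = _ := h1

/-- the action of `H = N(A) ∩ N(T)` on `W` -/
def sig (A T : Subgroup G) : (NN A ⊓ NN T : Subgroup G) →* MulAut (zeta T) :=
  ((zeta T).normalizerMonoidHom).comp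
    (Subgroup.inclusion (inf_le_right.trans (le_normalizer_zeta T)))

theorem sig_apply {A T : Subgroup G} (h : (NN A ⊓ NN T : Subgroup G)) (w : zeta T) :
    ((sig A T h w : zeta T) : G) = (h : G) * w * (h : G)⁻¹ := rfl

theorem sig_T {A T : Subgroup G} (h : (NN A ⊓ NN T : Subgroup G)) (hT : (h : G) ∈ T) :
    sig A T h = 1 := by
  ext w
  rw [sig_apply, zeta_conj_T w.2 hT]; rfl

theorem NatEdge.sig_comm (hP : P2 G) (N : NatEdge A B T n) (S : Sw A T n u t) (hn : n ≠ 1)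
    (h k : (NN A ⊓ NN T : Subgroup G)) (v : zeta T) : sig A T h (sig A T k v) = sig A T k (sig A T h v) := by
  obtain ⟨s, hs, x, hxA, hxT, hxT', hsx⟩ := N.decomp hP S (mem_inf.1 h.2).1 (mem_inf.1 h.2).2
  obtain ⟨s', hs', y, hyA, hyT, hyT', hsy⟩ := N.decomp hP S (mem_inf.1 k.2).1 (mem_inf.1 k.2).2
  have hTM : T ≤ NN A ⊓ NN T := le_inf N.T_le le_normalizer
  have e1 : sig A T h = sig A T ⟨x, mem_inf.2 ⟨hxA, hxT⟩⟩ := by
    have : h = ⟨s, hTM hs⟩ * ⟨x, mem_inf.2 ⟨hxA, hxT⟩⟩ := Subtype.ext hsx.symm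
    rw [this, map_mul, sig_T _ hs, one_mul]
  have e2 : sig A T k = sig A T ⟨y, mem_inf.2 ⟨hyA, hyT⟩⟩ := by
    have : k = ⟨s', hTM hs'⟩ * ⟨y, mem_inf.2 ⟨hyA, hyT⟩⟩ := Subtype.ext hsy.symm
    rw [this, map_mul, sig_T _ hs', one_mul]
  rw [e1, e2]
  have h1 := N.ffA.ldata.comm hn 1 u (one_mem _) S.uA (by rw [cj_one]; exact S.uT.symm) x y hxA hyA
    (by rw [cj_one]; exact hxT) (by rw [cj_one]; exact hyT) hxT' hyT'
  set X : (NN A ⊓ NN T : Subgroup G) := ⟨x, mem_inf.2 ⟨hxA, hxT⟩⟩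
  set Y : (NN A ⊓ NN T : Subgroup G) := ⟨y, mem_inf.2 ⟨hyA, hyT⟩⟩
  have h2 : sig A T ((Y * X)⁻¹ * (X * Y)) = 1 := sig_T _ (N.A_le h1)
  rw [map_mul, map_inv, inv_mul_eq_one, map_mul, map_mul] at h2
  have h3 := congrArg (fun f : MulAut (zeta T) => f v) h2
  exact h3.symm

/-- `A`-side property for the special `t` -/
theorem NatEdge.PA0 (hG : IsCIT G) (hP : P2 G) (N : NatEdge A B T n) (S : Sw A T n u t)
    {y1 y2 y3 w : G} (h1 : y1 ∈ NN A ⊓ NN T) (h2 : y2 ∈ NN A ⊓ NN T) (h3 : y3 ∈ NN A ⊓ NN T)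
    (hw : w ∈ zeta T)
    (hprod : (y1 * t * y1⁻¹) * (y2 * t * y2⁻¹) * (y3 * t * y3⁻¹) ∈ A) :
    (y1 * (y1 * w * y1⁻¹) * y1⁻¹) * (y2 * (y2 * w * y2⁻¹) * y2⁻¹) * (y3 * (y3 * w * y3⁻¹) * y3⁻¹) = 1 := by
  have b1 := N.lemB hG hP S h1.1 h1.2 hw
  have b2 := N.lemB hG hP S h2.1 h2.2 hw
  have b3 := N.lemB hG hP S h3.1 h3.2 hw
  have z1 := zeta_conj_NT (zeta_conj_NT hw h1.2) h1.2
  have z2 := zeta_conj_NT (zeta_conj_NT hw h2.2) h2.2
  have z3 := zeta_conj_NT (zeta_conj_NT hw h3.2) h3.2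
  have c1 : y1 * t * y1⁻¹ ∈ T := (mem_normalizer_iff.1 h1.2 t).1 S.tT
  have c2 : y2 * t * y2⁻¹ ∈ T := (mem_normalizer_iff.1 h2.2 t).1 S.tT
  have c3 : y3 * t * y3⁻¹ ∈ T := (mem_normalizer_iff.1 h3.2 t).1 S.tT
  have hv : u * w * u⁻¹ ∈ A := (mem_normalizer_iff.1 S.uA w).1 (N.W_le hw)
  set v := u * w * u⁻¹
  set x1 := y1 * t * y1⁻¹
  set x2 := y2 * t * y2⁻¹
  set x3 := y3 * t * y3⁻¹
  set w1 := y1 * (y1 * w * y1⁻¹) * y1⁻¹
  set w2 := y2 * (y2 * w * y2⁻¹) * y2⁻¹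
  set w3 := y3 * (y3 * w * y3⁻¹) * y3⁻¹
  have e1 : (x1 * x2 * x3) * v * (x1 * x2 * x3)⁻¹ = v := by
    rw [N.commA _ hprod v hv, mul_inv_cancel_right]
  have e2 : (x1 * x2 * x3) * v * (x1 * x2 * x3)⁻¹ = v * (w1 * w2 * w3) := by
    calc (x1 * x2 * x3) * v * (x1 * x2 * x3)⁻¹ = x1 * (x2 * (x3 * v * x3⁻¹) * x2⁻¹) * x1⁻¹ := by group
      _ = x1 * (x2 * (v * w3) * x2⁻¹) * x1⁻¹ := by rw [b3]
      _ = x1 * ((x2 * v * x2⁻¹) * (x2 * w3 * x2⁻¹)) * x1⁻¹ := by group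
      _ = x1 * ((v * w2) * w3) * x1⁻¹ := by rw [b2, zeta_conj_T z3 c2]
      _ = (x1 * v * x1⁻¹) * (x1 * w2 * x1⁻¹) * (x1 * w3 * x1⁻¹) := by group
      _ = (v * w1) * w2 * w3 := by rw [b1, zeta_conj_T z2 c1, zeta_conj_T z3 c1]
      _ = v * (w1 * w2 * w3) := by group
  rw [e1] at e2
  exact (mul_eq_left.1 e2.symm)

theorem NatEdge.PA (hG : IsCIT G) (hP : P2 G) (N : NatEdge A B T n) (S : Sw A T n u t) (hn : n ≠ 1)
    {b : G} (hb : b ∈ T) (hbA : b ∉ A) (y1 y2 y3 : (NN A ⊓ NN T : Subgroup G)) (w : zeta T)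
    (hprod : ((y1 : G) * b * (y1 : G)⁻¹) * ((y2 : G) * b * (y2 : G)⁻¹) * ((y3 : G) * b * (y3 : G)⁻¹) ∈ A) :
    sig A T y1 (sig A T y1 w) * sig A T y2 (sig A T y2 w) * sig A T y3 (sig A T y3 w) = 1 := by
  obtain ⟨m, hmA, hmT, hm⟩ := N.ffA.ldata.conj t b S.tT S.tA (N.ffA.sq t S.tT) hb hbA (N.ffA.sq b hb)
  let M : (NN A ⊓ NN T : Subgroup G) := ⟨m, mem_inf.2 ⟨hmA, hmT⟩⟩
  -- the product with `y_i m`
  have hbN := N.T_le hb
  have htN := N.T_le S.tT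
  have hkey : ((y1 * M : (NN A ⊓ NN T : Subgroup G)) : G) * t * ((y1 * M : (NN A ⊓ NN T : Subgroup G)) : G)⁻¹ *
      (((y2 * M : (NN A ⊓ NN T : Subgroup G)) : G) * t * ((y2 * M : (NN A ⊓ NN T : Subgroup G)) : G)⁻¹) *
      (((y3 * M : (NN A ⊓ NN T : Subgroup G)) : G) * t * ((y3 * M : (NN A ⊓ NN T : Subgroup G)) : G)⁻¹) ∈ A := by
    let Y1 : NN A := ⟨y1, (mem_inf.1 y1.2).1⟩
    let Y2 : NN A := ⟨y2, (mem_inf.1 y2.2).1⟩
    let Y3 : NN A := ⟨y3, (mem_inf.1 y3.2).1⟩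
    let Bt : NN A := ⟨b, hbN⟩
    let Tt : NN A := ⟨t, htN⟩
    let Mt : NN A := ⟨m, hmA⟩
    have h1 : pr A Bt = pr A (Mt * Tt * Mt⁻¹) := by
      have : pr A (Bt⁻¹ * (Mt * Tt * Mt⁻¹)) = 1 := pr_eq_one.2 hm
      rw [map_mul, map_inv] at this
      exact inv_mul_eq_one.1 this
    have h2 : pr A ((Y1 * Bt * Y1⁻¹) * (Y2 * Bt * Y2⁻¹) * (Y3 * Bt * Y3⁻¹)) = 1 := pr_eq_one.2 hprod
    have h3 : pr A (((Y1 * Mt) * Tt * (Y1 * Mt)⁻¹) * ((Y2 * Mt) * Tt * (Y2 * Mt)⁻¹) *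
        ((Y3 * Mt) * Tt * (Y3 * Mt)⁻¹)) = 1 := by
      rw [← h2]
      simp only [map_mul, map_inv] at h1 ⊢
      rw [h1]; group
    exact pr_eq_one.1 h3
  let w' : zeta T := (sig A T M)⁻¹ ((sig A T M)⁻¹ w)
  have h4 := N.PA0 hG hP S (y1 * M).2 (y2 * M).2 (y3 * M).2 w'.2 hkey
  have h5 : sig A T (y1 * M) (sig A T (y1 * M) w') * sig A T (y2 * M) (sig A T (y2 * M) w') *
    sig A T (y3 * M) (sig A T (y3 * M) w') = 1 := Subtype.ext h4
  have h6 : ∀ y : (NN A ⊓ NN T : Subgroup G), sig A T (y * M) (sig A T (y * M) w') =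
      sig A T y (sig A T y w) := by
    intro y
    have h7 : ∀ v, sig A T (y * M) v = sig A T y (sig A T M v) := fun v => by rw [map_mul]; rfl
    rw [h7, h7, N.sig_comm hP S hn M y]
    congr 2
    change sig A T M (sig A T M ((sig A T M)⁻¹ ((sig A T M)⁻¹ w))) = w
    rw [MulAut.apply_inv_self, MulAut.apply_inv_self]
  rw [h6, h6, h6] at h5
  exact h5

/-- `B`-side property (stated on the `A`-side) -/
theorem NatEdge.QA (hG : IsCIT G) (hP : P2 G) (N : NatEdge A B T n) (S : Sw A T n u t)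
    {a : G} (ha : a ∈ A) (y1 y2 y3 : G) (h1 : y1 ∈ NN A ⊓ NN T) (h2 : y2 ∈ NN A ⊓ NN T)
    (h3 : y3 ∈ NN A ⊓ NN T) (hw : ∀ w ∈ zeta T, (y1⁻¹ * w * y1) * (y2⁻¹ * w * y2) * (y3⁻¹ * w * y3) = 1) :
    (y1 * a * y1⁻¹) * (y2 * a * y2⁻¹) * (y3 * a * y3⁻¹) ∈ zeta T := by
  obtain ⟨w0, hw0, w, hww, rfl⟩ := N.split hG S ha
  have key : ∀ y ∈ NN A ⊓ NN T, ∃ w1 ∈ zeta T, y * (w0 * (u * w * u⁻¹)) * y⁻¹ =
      (u * (y⁻¹ * w * y) * u⁻¹) * w1 := by
    intro y hy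
    obtain ⟨s, hs, k, hkA, hkT, hkT', rfl⟩ := N.decomp hP S hy.1 hy.2
    have hwA := N.W_le hww
    have e1 := N.conj_u S hkA hkT hkT' hwA
    have hk1 : k⁻¹ * w * k ∈ zeta T := by
      have := zeta_conj_NT hww (inv_mem hkT); rwa [inv_inv] at this
    have e2 : (s * k)⁻¹ * w * (s * k) = k⁻¹ * w * k := by
      have h5 := zeta_conj_T hww (inv_mem hs)
      rw [inv_inv] at h5
      calc (s * k)⁻¹ * w * (s * k) = k⁻¹ * (s⁻¹ * w * s) * k := by group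
        _ = _ := by rw [h5]
    have hz : k * w0 * k⁻¹ ∈ zeta T := zeta_conj_NT hw0 hkT
    set p := u * (k⁻¹ * w * k) * u⁻¹ with hp
    have hpA : p ∈ A := (mem_normalizer_iff.1 S.uA _).1 (N.W_le hk1)
    have hpc := N.comm hs hpA
    have e3 : s * p * s⁻¹ = p * (p * (s * p * s⁻¹)) := by
      calc s * p * s⁻¹ = (p * p) * (s * p * s⁻¹) := by rw [N.sqA p hpA, one_mul]
        _ = _ := by group
    refine ⟨(p * (s * p * s⁻¹)) * (k * w0 * k⁻¹), mul_mem hpc hz, ?_⟩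
    rw [e2, ← hp]
    calc (s * k) * (w0 * (u * w * u⁻¹)) * (s * k)⁻¹
        = s * ((k * w0 * k⁻¹) * (k * (u * w * u⁻¹) * k⁻¹)) * s⁻¹ := by group
      _ = s * ((k * w0 * k⁻¹) * p) * s⁻¹ := by rw [e1]
      _ = (s * (k * w0 * k⁻¹) * s⁻¹) * (s * p * s⁻¹) := by group
      _ = (k * w0 * k⁻¹) * (s * p * s⁻¹) := by rw [zeta_conj_T hz hs]
      _ = (s * p * s⁻¹) * (k * w0 * k⁻¹) :=
          (mem_zeta.1 hz).2.2 _ (mul_mem (mul_mem hs (N.A_le hpA)) (inv_mem hs))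
      _ = p * (p * (s * p * s⁻¹)) * (k * w0 * k⁻¹) := by rw [← e3]
      _ = p * ((p * (s * p * s⁻¹)) * (k * w0 * k⁻¹)) := by group
  obtain ⟨z1, hz1, e1⟩ := key y1 h1
  obtain ⟨z2, hz2, e2⟩ := key y2 h2
  obtain ⟨z3, hz3, e3⟩ := key y3 h3
  rw [e1, e2, e3]
  have hA : ∀ y ∈ NN A ⊓ NN T, u * (y⁻¹ * w * y) * u⁻¹ ∈ T := by
    intro y hy
    have : y⁻¹ * w * y ∈ zeta T := by
      have := zeta_conj_NT hww (inv_mem hy.2); rwa [inv_inv] at this
    exact N.A_le ((mem_normalizer_iff.1 S.uA _).1 (N.W_le this))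
  have f2 := (mem_zeta.1 hz1).2.2 _ (hA y2 h2)
  have f3 := (mem_zeta.1 (mul_mem hz1 hz2)).2.2 _ (hA y3 h3)
  have f4 := hw w hww
  set p1 := y1⁻¹ * w * y1
  set p2 := y2⁻¹ * w * y2
  set p3 := y3⁻¹ * w * y3
  have e4 : u * p1 * u⁻¹ * z1 * (u * p2 * u⁻¹ * z2) * (u * p3 * u⁻¹ * z3) = z1 * z2 * z3 := by
    calc u * p1 * u⁻¹ * z1 * (u * p2 * u⁻¹ * z2) * (u * p3 * u⁻¹ * z3)
        = u * p1 * u⁻¹ * (z1 * (u * p2 * u⁻¹)) * z2 * (u * p3 * u⁻¹ * z3) := by group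
      _ = u * p1 * u⁻¹ * ((u * p2 * u⁻¹) * z1) * z2 * (u * p3 * u⁻¹ * z3) := by rw [f2]
      _ = u * p1 * u⁻¹ * (u * p2 * u⁻¹) * ((z1 * z2) * (u * p3 * u⁻¹)) * z3 := by group
      _ = u * p1 * u⁻¹ * (u * p2 * u⁻¹) * ((u * p3 * u⁻¹) * (z1 * z2)) * z3 := by rw [f3]
      _ = u * (p1 * p2 * p3) * u⁻¹ * (z1 * z2 * z3) := by group
      _ = z1 * z2 * z3 := by rw [f4]; group
  rw [e4]
  exact mul_mem (mul_mem hz1 hz2) hz3

end sw

/-- natural edges have `q = 2` or `q = 4` -/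
theorem NatEdge.n_eq (hG : IsCIT G) (hP : P2 G) (N : NatEdge A B T n) : n = 1 ∨ n = 3 := by
  classical
  by_cases hn : n = 1
  · exact Or.inl hn
  right
  obtain ⟨u, t, S⟩ := N.exists_sw hG hn
  obtain ⟨u', t', S'⟩ := N.symm.exists_sw hG hn
  set H : Subgroup G := NN A ⊓ NN T with hH
  have hHB : ∀ h ∈ H, h ∈ NN B ⊓ NN T := fun h hh => mem_inf.2 ⟨N.NN_T hh.1 hh.2, hh.2⟩
  letI : CommGroup (zeta T) := { (inferInstance : Group (zeta T)) with
    mul_comm := fun a b => Subtype.ext (zeta_comm a.2 b.2) }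
  -- an element of `B \ A`
  have hBA : ¬ B ≤ A := by
    intro h
    have h1 : A ⊓ B = B := inf_eq_right.2 h
    have h2 : B = zeta T := h1.symm.trans N.inf
    have h3 := N.symm.cardA
    rw [h2, N.ffA.cardz] at h3
    have h4 := N.ffA.ldata.pos
    nlinarith
  obtain ⟨b, hb, hbA⟩ := SetLike.not_le_iff_exists.1 hBA
  have hsig : ∀ h : H, sig A T h = 1 → (h : G) ∈ T := by
    intro h h1
    obtain ⟨w, hw, hw1⟩ := exists_mem_ne_one (zeta_ne_bot N.edge.sylA.isPGroup (by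
      rintro h2
      have := N.A_le
      rw [h2, le_bot_iff] at this
      exact N.edge.locA.ne this))
    apply N.free hG (mem_inf.1 h.2).1 hw hw1
    have h2 : ((sig A T h ⟨w, hw⟩ : zeta T) : G) = w := by rw [h1]; rfl
    rw [sig_apply] at h2
    exact mul_inv_eq_iff_eq_mul.1 h2
  have habs : ∀ α β : H, sig A T α ≠ 1 → sig A T β ≠ 1 →
      sig A T (α * β) = 1 ∨ sig A T α = sig A T β := by
    intro α β hα hβ
    apply abs_small (sig A T) (fun v => Subtype.ext (mem_zeta.1 v.2).2.1)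
      (fun h k v => N.sig_comm hP S hn h k v) ?_ ?_ hα hβ
    · intro v w hv hw
      obtain ⟨h, hhA, hhT, hhw⟩ := N.trans hG v.2 (fun h => hv (Subtype.ext h)) w.2
        (fun h => hw (Subtype.ext h))
      exact ⟨⟨h, mem_inf.2 ⟨hhA, hhT⟩⟩, Subtype.ext hhw⟩
    · intro μ ν hμν v
      have h1 : ∀ w ∈ zeta T, ((1 : G)⁻¹ * w * 1) * (((μ : G)⁻¹)⁻¹ * w * (μ : G)⁻¹) *
          (((ν : G)⁻¹)⁻¹ * w * (ν : G)⁻¹) = 1 := by
        intro w hw
        have := congrArg Subtype.val (hμν ⟨w, hw⟩)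
        change w * ((μ : G) * w * (μ : G)⁻¹) * ((ν : G) * w * (ν : G)⁻¹) = 1 at this
        calc ((1 : G)⁻¹ * w * 1) * (((μ : G)⁻¹)⁻¹ * w * (μ : G)⁻¹) * (((ν : G)⁻¹)⁻¹ * w * (ν : G)⁻¹)
            = w * ((μ : G) * w * (μ : G)⁻¹) * ((ν : G) * w * (ν : G)⁻¹) := by group
          _ = 1 := this
      have h2 := N.symm.QA hG hP S' hb 1 (μ : G)⁻¹ (ν : G)⁻¹ (one_mem _)
        (hHB _ (inv_mem μ.2)) (hHB _ (inv_mem ν.2)) h1
      have h3 := N.PA hG hP S hn (N.B_le hb) hbA (1 : H) μ⁻¹ ν⁻¹ v (N.W_le h2)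
      rw [map_one] at h3
      exact h3
  have hnodd := N.ffA.ldata.odd
  have hTM : T ≤ H := le_inf N.T_le le_normalizer
  have hcard : Nat.card (H ⧸ T.subgroupOf H) = n := by rw [← N.ffA.ldata.rel]; rfl
  -- an element outside T
  have hex : ∃ α : H, (α : G) ∉ T := by
    by_contra hcon
    push Not at hcon
    apply hn
    rw [← N.ffA.ldata.rel, relIndex_eq_one]
    exact fun x hx => hcon ⟨x, hx⟩
  obtain ⟨α, hα⟩ := hex
  have hle : n ≤ 3 := by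
    rw [← hcard]
    have hcov : (Set.univ : Set (H ⧸ T.subgroupOf H)) ⊆
        {QuotientGroup.mk 1, QuotientGroup.mk α, QuotientGroup.mk α⁻¹} := by
      intro c _
      induction c using QuotientGroup.induction_on with
      | H β =>
      by_cases hβ : (β : G) ∈ T
      · left
        apply QuotientGroup.eq.2
        change ((β : G))⁻¹ * 1 ∈ T
        rw [mul_one]; exact inv_mem hβ
      · rcases habs α β (fun h => hα (hsig α h)) (fun h => hβ (hsig β h)) with h1 | h1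
        · right; right
          apply QuotientGroup.eq.2
          change ((β : G))⁻¹ * (α : G)⁻¹ ∈ T
          have h2 := hsig _ h1
          rw [← mul_inv_rev]
          exact inv_mem h2
        · right; left
          apply QuotientGroup.eq.2
          change ((β : G))⁻¹ * (α : G) ∈ T
          apply hsig (β⁻¹ * α)
          rw [map_mul, map_inv, h1, inv_mul_cancel]
    have h1 := Set.ncard_le_ncard hcov (Set.toFinite _)
    rw [Set.ncard_univ] at h1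
    refine h1.trans ?_
    refine (Set.ncard_insert_le _ _).trans ?_
    have := Set.ncard_insert_le (QuotientGroup.mk α : H ⧸ T.subgroupOf H) {QuotientGroup.mk α⁻¹}
    rw [Set.ncard_singleton] at this
    omega
  obtain ⟨k, hk⟩ := hnodd
  omega

end nat

end Cfsg.Agent.Lib.CIT
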