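import Cfsg.Agent.Lib.CITMain
import Cfsg.Agent.Lib.ElemCent3
import Cfsg.Agent.Lib.ClSL2Syl

/-!
# CIT-groups (helper6): structure of nonsolvable CIT-groups, part 1
-/

set_option autoImplicit false
set_option linter.all false

namespace Cfsg.Agent.Lib.CIT

open Subgroup SylowRel StrongEmbPt

variable {G : Type*} [Group G] [Finite G]

theorem solvable_of_quot {N : Subgroup G} [N.Normal] (h1 : Group.IsSolvable N)
    (h2 : Group.IsSolvable (G ⧸ N)) : Group.IsSolvable G :=
  Group.isSolvable_of_ker_le_range N.subtype (QuotientGroup.mk' N) (by simp)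

/-- `a` of odd order inverted by the involution `t`: `t` and `t * a` are conjugate by a power of `a` -/
theorem exists_pow_conj {t a : G} (ht : t * a * t⁻¹ = a⁻¹) (ha : Odd (orderOf a)) :
    ∃ k : ℕ, a ^ k * t * (a ^ k)⁻¹ = t * a := by
  obtain ⟨k, hk⟩ := ha
  refine ⟨k, ?_⟩
  have h1 : t * (a ^ k)⁻¹ = a ^ k * t := by
    have : t * (a ^ k)⁻¹ * t⁻¹ = a ^ k := by
      have h2 : t * (a ^ k)⁻¹ * t⁻¹ = ((t * a * t⁻¹) ^ k)⁻¹ := by rw [conj_pow]; group
      rw [h2, ht]; simp
    rw [mul_inv_eq_iff_eq_mul] at this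
    exact this
  have h2 : a ^ k * a ^ k = a⁻¹ := by
    have h3 : a ^ (2 * k + 1) = 1 := by rw [← hk, pow_orderOf_eq_one]
    rw [← pow_add, ← two_mul]
    rw [pow_succ] at h3
    exact eq_inv_of_mul_eq_one_left h3
  calc a ^ k * t * (a ^ k)⁻¹ = a ^ k * (t * (a ^ k)⁻¹) := by group
    _ = a ^ k * a ^ k * t := by rw [h1]; group
    _ = (t * a * t⁻¹) * t := by rw [h2, ht]
    _ = t * a := by group

theorem IsCIT.solvable_of_odd_normal (hG : IsCIT G) {N : Subgroup G} (hNn : N.Normal)
    (hN : Odd (Nat.card N)) (hN1 : N ≠ ⊥) : Group.IsSolvable G := by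
  classical
  haveI : Fact (Nat.Prime 2) := ⟨Nat.prime_two⟩
  by_cases hev : Even (Nat.card G)
  swap
  · exact Cfsg.Agent.S0205.result (Nat.not_even_iff_odd.1 hev)
  obtain ⟨t, -, ht⟩ := StrongEmbPt.exists_involution (K := (⊤ : Subgroup G)) (by rw [Subgroup.card_top]; exact hev)
  obtain ⟨n0, hn0, hn01⟩ := exists_mem_ne_one hN1
  set C : Subgroup G := centralizer (N : Set G) with hC
  have hCn : C.Normal := by rw [hC]; infer_instance
  have hCo : Odd (Nat.card C) := by
    apply odd_card_of_forall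
    intro s hs hso
    apply hn01
    apply hG.eq_one' hso (odd_orderOf hN hn0)
    exact (mem_centralizer_iff.1 hs) n0 hn0
  have hinv : ∀ s : G, orderOf s = 2 → ∀ n ∈ N, s * n * s⁻¹ = n⁻¹ := by
    intro s hs n hn
    have hfp : MonoidHom.FixedPointFree (MulAut.conjNormal s : MulAut N) := by
      intro m hm
      have h1 : s * (m : G) * s⁻¹ = m := by
        have := congrArg Subtype.val hm
        rwa [MulAut.conjNormal_apply] at this
      apply Subtype.ext
      apply hG.eq_one' hs (odd_orderOf hN m.2)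
      show (m : G) * s = s * m
      rw [mul_inv_eq_iff_eq_mul] at h1
      exact h1.symm
    have hin : Function.Involutive (MulAut.conjNormal s : MulAut N) := by
      intro m
      have h1 : (MulAut.conjNormal s : MulAut N) ((MulAut.conjNormal s : MulAut N) m) =
          (MulAut.conjNormal (s * s) : MulAut N) m := by rw [map_mul]; rfl
      rw [h1, mul_self hs, map_one]; rfl
    have h2 := congrFun (hfp.coe_eq_inv_of_involutive hin) ⟨n, hn⟩
    have h3 := congrArg Subtype.val h2
    rw [MulAut.conjNormal_apply] at h3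
    exact h3
  have key : ∀ g : G, ∃ c ∈ C, c⁻¹ * g ∈ centralizer ({t} : Set G) := by
    intro g
    set s := g * t * g⁻¹ with hs
    have hso : orderOf s = 2 := by
      rw [← ht]
      have := orderOf_injective (MulAut.conj g).toMonoidHom (MulAut.conj g).injective t
      simpa using this
    have hts : t * s ∈ C := by
      rw [hC, mem_centralizer_iff]
      intro n hn
      have h1 := hinv s hso n hn
      have h2 := hinv t ht _ (inv_mem hn)
      rw [inv_inv] at h2
      have h3 : t * s * n * (t * s)⁻¹ = n := by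
        have : t * s * n * (t * s)⁻¹ = t * (s * n * s⁻¹) * t⁻¹ := by group
        rw [this, h1, h2]
      rw [mul_inv_eq_iff_eq_mul] at h3
      exact h3.symm
    have hodd : Odd (orderOf (t * s)) := odd_orderOf hCo hts
    have h4 : t * (t * s) * t⁻¹ = (t * s)⁻¹ := by
      rw [mul_inv_rev, inv_eq_self ht, inv_eq_self hso, ← mul_assoc, mul_self ht, one_mul]
    obtain ⟨k, hk⟩ := exists_pow_conj h4 hodd
    refine ⟨(t * s) ^ k, pow_mem hts k, ?_⟩
    rw [← mul_assoc t t s, mul_self ht, one_mul, hs] at hk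
    rw [mem_cent]
    set c := (t * (g * t * g⁻¹)) ^ k with hc
    calc c⁻¹ * g * t = c⁻¹ * (g * t * g⁻¹) * g := by group
      _ = c⁻¹ * (c * t * c⁻¹) * g := by rw [hk]
      _ = t * (c⁻¹ * g) := by group
  have hq : IsPGroup 2 (G ⧸ C) := by
    intro x
    obtain ⟨g, rfl⟩ := QuotientGroup.mk'_surjective C x
    obtain ⟨c, hc, hcg⟩ := key g
    obtain ⟨k, hk⟩ := pow_two_of_isPGroup (hG t ht) hcg
    refine ⟨k, ?_⟩
    have h1 : QuotientGroup.mk' C g = QuotientGroup.mk' C (c⁻¹ * g) := by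
      rw [map_mul, map_inv]
      have : QuotientGroup.mk' C c = 1 := (QuotientGroup.eq_one_iff c).2 hc
      rw [this]; simp
    rw [h1, ← map_pow, hk, map_one]
  haveI := hq.isNilpotent
  have h1 : Group.IsSolvable (G ⧸ C) := inferInstance
  exact solvable_of_quot (Cfsg.Agent.S0205.result hCo) h1

/-- basic data of a TI CIT-group without normal 2-subgroups -/
theorem IsCIT.zdata_of_ti (hG : IsCIT G) (hns : ¬ Group.IsSolvable G) (hO : Cfsg.pCore 2 G = ⊥)
    (hTI : TI2 G) : ∃ (P : Subgroup G) (n : ℕ), IsSyl 2 P ⊤ ∧ P ≠ ⊥ ∧ n ≠ 1 ∧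
      Cfsg.IsStronglyEmbedded (NN P) ∧ ZData (NN P) P n := by
  haveI : Fact (Nat.Prime 2) := ⟨Nat.prime_two⟩
  have hev : Even (Nat.card G) := by
    by_contra h
    exact hns (Cfsg.Agent.S0205.result (Nat.not_even_iff_odd.1 h))
  obtain ⟨P, hP, -⟩ := exists_isSyl (p := 2) (Q := (⊥ : Subgroup G)) (H := ⊤) IsPGroup.of_bot bot_le
  have hPb : P ≠ ⊥ := by
    rintro rfl
    obtain ⟨t, -, ht⟩ := StrongEmbPt.exists_involution (K := (⊤ : Subgroup G)) (by rw [Subgroup.card_top]; exact hev)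
    have ht2 : t ^ 2 ^ 1 = 1 := by rw [pow_one, ← ht, pow_orderOf_eq_one]
    have h1 := hP.eq_of_le (isPGroup_zpowers ht2) bot_le le_top
    rw [zpowers_eq_bot] at h1
    rw [h1, orderOf_one] at ht; omega
  have hPn : ∃ g, g ∉ NN P := by
    by_contra hcon
    push Not at hcon
    have hn : P.Normal := normalizer_eq_top_iff.1 (eq_top_iff.2 (fun g _ => hcon g))
    have h1 : P ≤ Cfsg.pCore 2 G := Fitting.le_pCore 2 hn hP.isPGroup
    rw [hO, le_bot_iff] at h1
    exact hPb h1
  have hSE := se_of_ti hTI hP hPb hPn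
  obtain ⟨n, hn⟩ := hG.seData hSE
  have hPM : P ≤ NN P := le_normalizer
  have hn1 : n ≠ 1 := by
    rintro rfl
    have hf := hn.frob hSE
    obtain ⟨N, -, hN, hc⟩ := FrobThm.exists_kernel hf
    have hNo : Odd (Nat.card N) := by
      have h1 := FrobGroup.coprime_card_index hf
      have h2 : Nat.card N = (NN P).index := hc.index_eq_card.symm
      rw [h2, ← Nat.not_even_iff_odd]
      intro he
      have h3 := Nat.dvd_gcd hSE.2.1.two_dvd he.two_dvd
      rw [h1] at h3
      exact absurd h3 (by decide)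
    by_cases hNb : N = ⊥
    · apply hf.2.1
      rw [hNb] at hc
      have := hc.sup_eq_top
      simpa using this
    · exact hns (hG.solvable_of_odd_normal hN hNo hNb)
  have hSyl : IsSyl 2 P (NN P) := ⟨hPM, hP.isPGroup, fun Q hQ h1 h2 => hP.eq_of_le hQ h1 le_top⟩
  exact ⟨P, n, hP, hPb, hn1, hSE, hG.zData hn hSE hSyl le_rfl hn1⟩

theorem IsCIT.simple_of_ti (hG : IsCIT G) (hns : ¬ Group.IsSolvable G) (hO : Cfsg.pCore 2 G = ⊥)
    (hTI : TI2 G) : IsSimpleGroup G := by
  classical
  haveI : Fact (Nat.Prime 2) := ⟨Nat.prime_two⟩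
  obtain ⟨P, n, hP, hPb, hn1, hSE, hz⟩ := hG.zdata_of_ti hns hO hTI
  have hnt : Nontrivial G := by
    by_contra h
    rw [not_nontrivial_iff_subsingleton] at h
    exact hns (Group.isSolvable_of_comm (fun a b => Subsingleton.elim _ _))
  refine ⟨fun N hN => ?_⟩
  by_cases hNb : N = ⊥
  · exact Or.inl hNb
  right
  have hNe : Even (Nat.card N) := by
    by_contra h
    exact hns (hG.solvable_of_odd_normal hN (Nat.not_even_iff_odd.1 h) hNb)
  obtain ⟨t, htN, ht⟩ := StrongEmbPt.exists_involution hNe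
  have hU := uniqueFix hSE
  -- every involution lies in `N`
  have hinv : ∀ s : G, orderOf s = 2 → s ∈ N := by
    intro s hs
    have hmem : ∀ s : G, orderOf s = 2 → ∃ g : G, g⁻¹ * s * g ∈ NN P := by
      intro s hs
      obtain ⟨c, hc, -⟩ := hU s hs
      obtain ⟨g, rfl⟩ := QuotientGroup.mk_surjective c
      exact ⟨g, by
        rw [smul_mk_eq_iff] at hc
        simpa [mul_assoc] using hc⟩
    obtain ⟨g, hg⟩ := hmem s hs
    obtain ⟨h, hh⟩ := hmem t ht
    have ho : ∀ g x : G, orderOf x = 2 → orderOf (g⁻¹ * x * g) = 2 := by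
      intro g x hx
      have := orderOf_injective (MulAut.conj g⁻¹).toMonoidHom (MulAut.conj g⁻¹).injective x
      rw [← hx, ← this]; simp
    obtain ⟨m, -, hm⟩ := hz.se.conj _ _ hh (ho h t ht) hg (ho g s hs)
    have h1 : s = g * (m * (h⁻¹ * t * h) * m⁻¹) * g⁻¹ := by rw [hm]; group
    rw [h1]
    refine hN.conj_mem _ (hN.conj_mem _ ?_ _) _
    have := hN.conj_mem t htN h⁻¹
    simpa using this
  -- two point stabilizers
  have hK : ∀ c d : G ⧸ NN P, c ≠ d → ∀ x ∈ (MulAction.stabilizer G c ⊓ MulAction.stabilizer G d : Subgroup G),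
      x ∈ N := by
    intro c d hcd x hx
    obtain ⟨u, huo, -, -, hcard, hu⟩ := hz.se.swap' hcd
    have hodd : Odd (orderOf x) := odd_orderOf (by rw [hcard]; exact hz.se.odd) hx
    have h1 := hu x⁻¹ (inv_mem hx)
    rw [inv_inv] at h1
    have h2 : x * x ∈ N := by
      have h3 : x * x = (x * u * x⁻¹) * u⁻¹ := by
        calc x * x = x * (u * x⁻¹ * u⁻¹) := by rw [h1]
          _ = _ := by group
      rw [h3]
      exact mul_mem (hN.conj_mem _ (hinv u huo) x) (inv_mem (hinv u huo))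
    obtain ⟨k, hk⟩ := hodd
    have h4 : x = (x * x) ^ (k + 1) := by
      have h5 : x ^ (2 * k + 1) = 1 := by rw [← hk, pow_orderOf_eq_one]
      rw [← sq, ← pow_mul, show 2 * (k + 1) = (2 * k + 1) + 1 by ring, pow_succ, h5, one_mul]
    rw [h4]; exact pow_mem h2 _
  have hex : ∃ d : G ⧸ NN P, (QuotientGroup.mk 1 : G ⧸ NN P) ≠ d := by
    by_contra hcon
    push Not at hcon
    apply hSE.1
    rw [eq_top_iff]
    intro g _
    have := hcon (QuotientGroup.mk g)
    rw [QuotientGroup.eq] at this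
    simpa using this
  obtain ⟨d, hd⟩ := hex
  have hst : MulAction.stabilizer G (QuotientGroup.mk (1 : G) : G ⧸ NN P) = NN P := by
    rw [stab_eq, cj_one]
  obtain ⟨k, hk, hk1⟩ : ∃ k ∈ (MulAction.stabilizer G (QuotientGroup.mk (1 : G) : G ⧸ NN P) ⊓
      MulAction.stabilizer G d : Subgroup G), k ≠ 1 := by
    apply exists_mem_ne_one
    intro h
    obtain ⟨u, -, -, -, hcard, -⟩ := hz.se.swap' hd
    rw [h, Subgroup.card_bot] at hcard
    exact hn1 hcard.symm
  have hko : Odd (orderOf k) := by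
    obtain ⟨u, -, -, -, hcard, -⟩ := hz.se.swap' hd
    exact odd_orderOf (by rw [hcard]; exact hz.se.odd) hk
  have hkP : k ∈ NN P := by rw [← hst]; exact hk.1
  have hkN : k ∈ N := hK _ d hd k hk
  have hPN : P ≤ N := by
    let f : P → P := fun p => ⟨(p : G) * k * (p : G)⁻¹ * k⁻¹, by
      have : (p : G) * k * (p : G)⁻¹ * k⁻¹ = p * (k * (p : G)⁻¹ * k⁻¹) := by group
      rw [this]
      exact mul_mem p.2 ((mem_normalizer_iff.1 hkP _).1 (inv_mem p.2))⟩
    have hf : Function.Injective f := by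
      intro p q hpq
      have h1 : (p : G) * k * (p : G)⁻¹ * k⁻¹ = q * k * (q : G)⁻¹ * k⁻¹ := congrArg Subtype.val hpq
      have h2 : (p : G) * k * (p : G)⁻¹ = q * k * (q : G)⁻¹ := mul_right_cancel h1
      by_contra hne
      apply hk1
      refine hG.eq_one hP.isPGroup (u := (q : G)⁻¹ * p) (mul_mem (inv_mem q.2) p.2) ?_ hko ?_
      · intro h3
        exact hne (Subtype.ext (inv_mul_eq_one.1 h3).symm)
      · show k * ((q : G)⁻¹ * p) = (q : G)⁻¹ * p * k
        calc k * ((q : G)⁻¹ * p) = (q : G)⁻¹ * (q * k * (q : G)⁻¹) * p := by group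
          _ = (q : G)⁻¹ * (p * k * (p : G)⁻¹) * p := by rw [h2]
          _ = _ := by group
    have hsurj := Finite.injective_iff_surjective.1 hf
    intro p hp
    obtain ⟨q, hq⟩ := hsurj ⟨p, hp⟩
    have h1 : (q : G) * k * (q : G)⁻¹ * k⁻¹ = p := congrArg Subtype.val hq
    rw [← h1]
    exact mul_mem (hN.conj_mem _ hkN _) (inv_mem hkN)
  have hMN : NN P ≤ N := by
    intro m hm
    have hm1 : m • (QuotientGroup.mk (1 : G) : G ⧸ NN P) = QuotientGroup.mk 1 := by
      rw [← hst] at hm; exact hm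
    have hmd : m • d ≠ QuotientGroup.mk 1 := by
      intro h; rw [← hm1] at h
      exact hd (smul_left_cancel m h).symm
    obtain ⟨s, hs, hsd⟩ := hz.reg 1 d (m • d) hd.symm hmd
    rw [cj_one] at hs
    have hs1 : s • (QuotientGroup.mk (1 : G) : G ⧸ NN P) = QuotientGroup.mk 1 := by
      have : s ∈ MulAction.stabilizer G (QuotientGroup.mk (1 : G) : G ⧸ NN P) := by
        rw [hst]; exact le_normalizer hs
      exact this
    have h1 : s⁻¹ * m ∈ N := by
      apply hK _ d hd
      refine mem_inf.2 ⟨?_, ?_⟩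
      · show (s⁻¹ * m) • (QuotientGroup.mk (1 : G) : G ⧸ NN P) = _
        rw [mul_smul, hm1, inv_smul_eq_iff, hs1]
      · show (s⁻¹ * m) • d = d
        rw [mul_smul, ← hsd, inv_smul_smul]
    have h2 : m = s * (s⁻¹ * m) := by group
    rw [h2]; exact mul_mem (hPN hs) h1
  rw [eq_top_iff]
  intro g _
  by_cases hg : (QuotientGroup.mk (1 : G) : G ⧸ NN P) = QuotientGroup.mk g
  · rw [QuotientGroup.eq] at hg
    exact hMN (by simpa using hg)
  · obtain ⟨u, huo, hu1, -, -, -⟩ := hz.se.swap' hg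
    have h1 : u⁻¹ * g ∈ NN P := by
      have h2 : u • (QuotientGroup.mk (1 : G) : G ⧸ NN P) = QuotientGroup.mk u := by
        rw [MulAction.Quotient.smul_mk, smul_eq_mul, mul_one]
      rw [h2, QuotientGroup.eq] at hu1
      exact hu1
    have h2 : g = u * (u⁻¹ * g) := by group
    rw [h2]; exact mul_mem (hinv u huo) (hMN h1)

end Cfsg.Agent.Lib.CIT
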