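import Cfsg.Agent.Lib.CITStr

/-!
# CIT-groups (helper6): structure of nonsolvable CIT-groups, part 2: Frattini arguments
-/

set_option autoImplicit false
set_option linter.all false

namespace Cfsg.Agent.Lib.CIT

open Subgroup SylowRel StrongEmbPt

theorem exists_norm_not_cent {M : Type*} [Group M] [Finite M] [IsSimpleGroup M]
    (hna : ¬ ∀ a b : M, a * b = b * a) {r : ℕ} [hr : Fact r.Prime] (S : Sylow r M)
    (hS : (S : Subgroup M) ≠ ⊥) : ∃ l ∈ normalizer ((S : Subgroup M) : Set M),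
      l ∉ centralizer ((S : Subgroup M) : Set M) := by
  by_contra hcon
  push Not at hcon
  have hP : normalizer ((S : Subgroup M) : Set M) ≤ centralizer ((S : Subgroup M) : Set M) := hcon
  have hc := MonoidHom.ker_transferSylow_isComplement' S hP
  rcases (inferInstance : (MonoidHom.transferSylow S hP).ker.Normal).eq_bot_or_eq_top with h1 | h1
  · rw [h1] at hc
    have h2 : (S : Subgroup M) = ⊤ := by simpa using hc.sup_eq_top
    apply hna
    have h3 : IsPGroup r M := by
      have h4 := S.isPGroup'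
      intro x
      obtain ⟨k, hk⟩ := h4 ⟨x, by rw [h2]; exact mem_top x⟩
      exact ⟨k, by simpa using congrArg Subtype.val hk⟩
    haveI := h3.isNilpotent
    have h5 : Group.IsSolvable M := inferInstance
    exact (IsSimpleGroup.comm_iff_isSolvable).2 h5
  · rw [h1] at hc
    apply hS
    have := hc.disjoint.eq_bot
    simpa using this

variable {G : Type*} [Group G] [Finite G]

theorem frattini {M R : Subgroup G} (hM : M.Normal) {r : ℕ} [Fact r.Prime] (hR : IsSyl r R M) (g : G) :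
    ∃ m ∈ M, m⁻¹ * g ∈ NN R := by
  have h1 : IsSyl r (cj g R) M := by
    have := hR.cj g
    rwa [cj_eq_of_normal hM] at this
  obtain ⟨m, hm, hmx⟩ := hR.exists_cj_eq h1
  refine ⟨m, hm, ?_⟩
  rw [mem_normalizer_iff_cj, cj_mul, ← hmx, cj_inv_cj]

theorem frattini_index {M R : Subgroup G} (hM : M.Normal) {r : ℕ} [Fact r.Prime] (hR : IsSyl r R M) :
    Nat.card (NN R) = Nat.card (M ⊓ NN R : Subgroup G) * M.index := by
  have hsup : M ⊔ NN R = ⊤ := by
    rw [eq_top_iff]
    intro g _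
    obtain ⟨m, hm, hmg⟩ := frattini hM hR g
    have h1 : g = m * (m⁻¹ * g) := by group
    rw [h1]
    exact mul_mem (mem_sup_left hm) (mem_sup_right hmg)
  have h1 : M.index = M.relIndex (NN R) := by
    rw [← relIndex_top_right, ← hsup, relIndex_sup_left]
  rw [h1, ← inf_relIndex_right]
  exact (card_mul_rel inf_le_right).symm

/-- the action of the normalizer of a cyclic group -/
theorem comm_act {R : Subgroup G} (hR : IsCyclic R) {x y : G} (hx : x ∈ NN R) (hy : y ∈ NN R) :
    y⁻¹ * (x * y * x⁻¹) ∈ centralizer (R : Set G) := by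
  obtain ⟨ρ, hρ⟩ := hR.exists_generator
  have hex : ∀ z ∈ NN R, ∃ i : ℤ, z * ρ * z⁻¹ = (ρ : G) ^ i := by
    intro z hz
    have h1 : z * ρ * z⁻¹ ∈ R := (mem_normalizer_iff.1 hz _).1 ρ.2
    obtain ⟨i, hi⟩ := mem_zpowers_iff.1 (hρ ⟨_, h1⟩)
    exact ⟨i, by simpa using (congrArg Subtype.val hi).symm⟩
  obtain ⟨i, hi⟩ := hex x hx
  obtain ⟨j, hj⟩ := hex y hy
  have h1 : (x * y) * ρ * (x * y)⁻¹ = (y * x) * ρ * (y * x)⁻¹ := by
    calc (x * y) * ρ * (x * y)⁻¹ = x * (y * ρ * y⁻¹) * x⁻¹ := by group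
      _ = (x * ρ * x⁻¹) ^ j := by rw [hj, conj_zpow]
      _ = (y * ρ * y⁻¹) ^ i := by rw [hi, hj, ← zpow_mul, ← zpow_mul, mul_comm]
      _ = y * (x * ρ * x⁻¹) * y⁻¹ := by rw [hi, conj_zpow]
      _ = _ := by group
  have h2 : ∀ i : ℤ, (x * y) * (ρ : G) ^ i * (x * y)⁻¹ = (y * x) * (ρ : G) ^ i * (y * x)⁻¹ := by
    intro i
    rw [← conj_zpow, ← conj_zpow, h1]
  rw [mem_centralizer_iff]
  intro s hs
  -- `t = x⁻¹ s x` lies in `R`
  have hs' : x⁻¹ * s * x ∈ R := by
    have := (mem_normalizer_iff.1 (inv_mem hx) s).1 hs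
    simpa using this
  obtain ⟨k, hk⟩ := mem_zpowers_iff.1 (hρ ⟨_, hs'⟩)
  have hk' : (ρ : G) ^ k = x⁻¹ * s * x := by simpa using congrArg Subtype.val hk
  have h3 := h2 k
  rw [hk'] at h3
  have h4 : x * y * (x⁻¹ * s * x) * (x * y)⁻¹ = y * s * y⁻¹ := by
    rw [h3]; group
  calc s * (y⁻¹ * (x * y * x⁻¹)) = y⁻¹ * (y * s * y⁻¹) * (x * y * x⁻¹) := by group
    _ = y⁻¹ * (x * y * (x⁻¹ * s * x) * (x * y)⁻¹) * (x * y * x⁻¹) := by rw [h4]
    _ = _ := by group

theorem IsCIT.odd_cent (hG : IsCIT G) {R : Subgroup G} (hR : Odd (Nat.card R)) (hRb : R ≠ ⊥) :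
    Odd (Nat.card (centralizer (R : Set G))) := by
  obtain ⟨x, hx, hx1⟩ := exists_mem_ne_one hRb
  apply odd_card_of_forall
  intro s hs hso
  apply hx1
  apply hG.eq_one' hso (odd_orderOf hR hx)
  exact (mem_centralizer_iff.1 hs) x hx

theorem relIndex_cent_dvd {R : Subgroup G} (hR : IsCyclic R) :
    (centralizer (R : Set G)).relIndex (NN R) ∣ Nat.totient (Nat.card R) := by
  have key := card_dvd_of_injective _ (QuotientGroup.kerLift_injective R.normalizerMonoidHom)
  rw [normalizerMonoidHom_ker, ← index, ← relIndex] at key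
  rwa [hR.card_mulAut] at key

theorem cent_le_NN (R : Subgroup G) : centralizer (R : Set G) ≤ NN R := by
  intro x hx
  rw [mem_normalizer_iff]
  intro y
  rw [mem_centralizer_iff] at hx
  constructor
  · intro hy
    rw [← hx y hy, mul_inv_cancel_right]; exact hy
  · intro hy
    have := hx _ hy
    have h2 : y = x⁻¹ * ((x * y * x⁻¹) * x) := by group
    rw [h2, this]
    have h3 : x⁻¹ * (x * (x * y * x⁻¹)) = x * y * x⁻¹ := by group
    rw [h3]; exact hy

/-- a cyclic Sylow `r`-subgroup, `r = 3 mod 4`, forces odd index. -/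
theorem IsCIT.odd_index (hG : IsCIT G) {M R : Subgroup G} (hM : M.Normal) (hMs : IsSimpleGroup M)
    (hMn : ¬ ∀ a b : M, a * b = b * a) {r : ℕ} (hr : r.Prime) (hr4 : r % 4 = 3) (hR : IsSyl r R M)
    (hRc : IsCyclic R) (hRb : R ≠ ⊥) : Odd M.index := by
  classical
  haveI : Fact r.Prime := ⟨hr⟩
  haveI : Fact (Nat.Prime 2) := ⟨Nat.prime_two⟩
  rw [← Nat.not_even_iff_odd]
  intro hev
  obtain ⟨a, ha⟩ := IsPGroup.iff_card.1 hR.isPGroup
  have hrodd : Odd r := by
    rw [Nat.odd_iff]; omega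
  have ha0 : 0 < a := by
    rcases Nat.eq_zero_or_pos a with h | h
    · rw [h, pow_zero] at ha
      exact absurd (Subgroup.card_eq_one.1 ha) hRb
    · exact h
  have hRo : Odd (Nat.card R) := by rw [ha]; exact hrodd.pow
  have hCo := hG.odd_cent hRo hRb
  have h4 : ¬ 4 ∣ Nat.card (NN R) := by
    rw [← card_mul_rel (cent_le_NN R)]
    intro h
    have h1 : 4 ∣ (centralizer (R : Set G)).relIndex (NN R) := by
      refine (Nat.Coprime.dvd_of_dvd_mul_left ?_ h)
      have : (2 ^ 2).Coprime (Nat.card (centralizer (R : Set G))) := (Nat.coprime_two_left.2 hCo).pow_left 2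
      simpa using this
    have h2 := h1.trans (relIndex_cent_dvd hRc)
    rw [ha, Nat.totient_prime_pow hr ha0] at h2
    have h3 : 4 ∣ r - 1 := by
      refine Nat.Coprime.dvd_of_dvd_mul_left ?_ h2
      have : (2 ^ 2).Coprime (r ^ (a - 1)) := (Nat.coprime_two_left.2 hrodd.pow).pow_left 2
      simpa using this
    omega
  have hidx := frattini_index hM hR
  set L : Subgroup G := M ⊓ NN R with hL
  have hLo : Odd (Nat.card L) := by
    rw [← Nat.not_even_iff_odd]
    intro hLe
    apply h4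
    rw [hidx]
    exact Nat.mul_dvd_mul hLe.two_dvd hev.two_dvd
  have hNe : Even (Nat.card (NN R)) := by
    rw [hidx]; exact hev.mul_left _
  obtain ⟨u, huN, hu⟩ := StrongEmbPt.exists_involution hNe
  obtain ⟨S, hS⟩ := hR.exists_sylow
  have hSb : (S : Subgroup M) ≠ ⊥ := by
    rw [hS]
    intro h
    apply hRb
    rw [← map_subgroupOf_eq_of_le hR.le, h, Subgroup.map_bot]
  obtain ⟨l, hl1, hl2⟩ := exists_norm_not_cent hMn S hSb
  have hlN : (l : G) ∈ NN R := by
    rw [mem_normalizer_iff] at hl1 ⊢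
    intro y
    constructor
    · intro hy
      have h1 : (⟨y, hR.le hy⟩ : M) ∈ (S : Subgroup M) := by rw [hS]; exact hy
      have h2 := (hl1 _).1 h1
      rw [hS] at h2
      exact h2
    · intro hy
      have hyM : y ∈ M := by
        have h1 := hR.le hy
        have h2 : y = (l : G)⁻¹ * ((l : G) * y * (l : G)⁻¹) * l := by group
        rw [h2]; exact mul_mem (mul_mem (inv_mem l.2) h1) l.2
      have h1 : l * ⟨y, hyM⟩ * l⁻¹ ∈ (S : Subgroup M) := by rw [hS]; exact hy
      have h2 := (hl1 _).2 h1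
      rw [hS] at h2
      exact h2
  have hlC : (l : G) ∉ centralizer (R : Set G) := by
    intro h
    apply hl2
    rw [mem_centralizer_iff] at h ⊢
    intro y hy
    have hy' : (y : G) ∈ R := by
      have : y ∈ (S : Subgroup M) := hy
      rw [hS] at this; exact this
    exact Subtype.ext (h y hy')
  set D : Subgroup G := centralizer (R : Set G) ⊓ M with hD
  have huD : u ∈ normalizer (D : Set G) := by
    rw [mem_normalizer_iff_cj, hD, cj_inf, cj_centralizer, mem_normalizer_iff_cj.1 huN,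
      cj_eq_of_normal hM]
  have hDo : Odd (Nat.card D) := Odd.of_dvd_nat hCo (card_dvd_of_le inf_le_left)
  obtain ⟨d, hd, hld⟩ := CoprimeGen.exists_mul_commute (D := D) (y := u) (k := (l : G)) huD
    (by rw [hu]; exact Nat.coprime_two_left.2 hDo) (by
      refine mem_inf.2 ⟨comm_act hRc huN hlN, ?_⟩
      exact mul_mem (inv_mem l.2) (hM.conj_mem _ l.2 u))
  have hL1 : (l : G) * d ∈ L := by
    refine mem_inf.2 ⟨mul_mem l.2 hd.2, mul_mem hlN (cent_le_NN R hd.1)⟩
  have h5 : (l : G) * d = 1 := hG.eq_one' hu (odd_orderOf hLo hL1) (mem_cent.1 hld)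
  apply hlC
  have h6 : (l : G) = d⁻¹ := eq_inv_of_mul_eq_one_left h5
  rw [h6]; exact inv_mem hd.1

/-- Sylow subgroups of order `5`. -/
theorem IsCIT.index_five (hG : IsCIT G) {M R : Subgroup G} (hM : M.Normal) (hMs : IsSimpleGroup M)
    (hMn : ¬ ∀ a b : M, a * b = b * a) (hR : IsSyl 5 R M) (hRc : Nat.card R = 5) : ¬ 4 ∣ M.index := by
  classical
  haveI : Fact (Nat.Prime 5) := ⟨by norm_num⟩
  haveI : Fact (Nat.Prime 2) := ⟨Nat.prime_two⟩
  intro h4
  have hRcyc : IsCyclic R := isCyclic_of_prime_card hRc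
  have hRb : R ≠ ⊥ := by rintro rfl; rw [Subgroup.card_bot] at hRc; omega
  have hCo := hG.odd_cent (by rw [hRc]; decide) hRb
  have h8 : ¬ 8 ∣ Nat.card (NN R) := by
    rw [← card_mul_rel (cent_le_NN R)]
    intro h
    have h1 : 8 ∣ (centralizer (R : Set G)).relIndex (NN R) := by
      refine (Nat.Coprime.dvd_of_dvd_mul_left ?_ h)
      have : (2 ^ 3).Coprime (Nat.card (centralizer (R : Set G))) := (Nat.coprime_two_left.2 hCo).pow_left 3
      simpa using this
    have h2 := h1.trans (relIndex_cent_dvd hRcyc)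
    rw [hRc] at h2
    exact absurd h2 (by decide)
  have hidx := frattini_index hM hR
  set L : Subgroup G := M ⊓ NN R with hL
  obtain ⟨S, hS⟩ := hR.exists_sylow
  have hSb : (S : Subgroup M) ≠ ⊥ := by
    rw [hS]
    intro h
    apply hRb
    rw [← map_subgroupOf_eq_of_le hR.le, h, Subgroup.map_bot]
  obtain ⟨l, hl1, hl2⟩ := exists_norm_not_cent hMn S hSb
  have hlN : (l : G) ∈ NN R := by
    rw [mem_normalizer_iff] at hl1 ⊢
    intro y
    constructor
    · intro hy
      have h1 : (⟨y, hR.le hy⟩ : M) ∈ (S : Subgroup M) := by rw [hS]; exact hy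
      have h2 := (hl1 _).1 h1
      rw [hS] at h2
      exact h2
    · intro hy
      have hyM : y ∈ M := by
        have h1 := hR.le hy
        have h2 : y = (l : G)⁻¹ * ((l : G) * y * (l : G)⁻¹) * l := by group
        rw [h2]; exact mul_mem (mul_mem (inv_mem l.2) h1) l.2
      have h1 : l * ⟨y, hyM⟩ * l⁻¹ ∈ (S : Subgroup M) := by rw [hS]; exact hy
      have h2 := (hl1 _).2 h1
      rw [hS] at h2
      exact h2
  have hlC : (l : G) ∉ centralizer (R : Set G) := by
    intro h
    apply hl2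
    rw [mem_centralizer_iff] at h ⊢
    intro y hy
    have hy' : (y : G) ∈ R := by
      have : y ∈ (S : Subgroup M) := hy
      rw [hS] at this; exact this
    exact Subtype.ext (h y hy')
  have hLe : 2 ∣ Nat.card L := by
    -- the image of `L` in `Aut R` is a nontrivial `2`-group
    have h1 : (centralizer (R : Set G)).relIndex L ∣ 4 := by
      have h2 : (centralizer (R : Set G)).relIndex L ∣ (centralizer (R : Set G)).relIndex (NN R) := by
        haveI : ((centralizer (R : Set G)).subgroupOf (NN R)).Normal := by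
          rw [← normalizerMonoidHom_ker]; infer_instance
        have h3 : ((centralizer (R : Set G)).subgroupOf (NN R)).relIndex (L.subgroupOf (NN R)) ∣
            ((centralizer (R : Set G)).subgroupOf (NN R)).index := relIndex_dvd_index_of_normal _ _
        rwa [relIndex_subgroupOf inf_le_right] at h3
      have h3 := h2.trans (relIndex_cent_dvd hRcyc)
      rw [hRc] at h3
      exact h3
    have h2 : (centralizer (R : Set G)).relIndex L ≠ 1 := by
      intro h3
      rw [relIndex_eq_one] at h3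
      exact hlC (h3 (mem_inf.2 ⟨l.2, hlN⟩))
    have h3 : 2 ∣ (centralizer (R : Set G)).relIndex L := by
      obtain ⟨j, hj, hj'⟩ := (Nat.dvd_prime_pow Nat.prime_two).1 (by simpa using h1 : _ ∣ 2 ^ 2)
      rw [hj'] at h2 ⊢
      rcases Nat.eq_zero_or_pos j with h | h
      · rw [h] at h2; simp at h2
      · exact dvd_pow_self 2 h.ne'
    exact h3.trans (relIndex_dvd_card _ _)
  apply h8
  rw [hidx]
  exact Nat.mul_dvd_mul (a := 2) (b := Nat.card L) hLe h4

/-- if `Ω₁(Z(S))` has order two, then `G/M` is a `2`-group. -/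
theorem IsCIT.index_two_pow (hG : IsCIT G) {M S : Subgroup G} (hM : M.Normal) (hS : IsSyl 2 S M)
    (hz : Nat.card (zeta S) = 2) : ∃ k, M.index = 2 ^ k := by
  haveI : Fact (Nat.Prime 2) := ⟨Nat.prime_two⟩
  have hzb : zeta S ≠ ⊥ := by intro h; rw [h, Subgroup.card_bot] at hz; omega
  obtain ⟨z, hz1, hz2⟩ := exists_mem_ne_one hzb
  have hzo : orderOf z = 2 := orderOf_two (mem_zeta.1 hz1).2.1 hz2
  have hzz : zeta S = zpowers z := by
    symm
    apply eq_of_le_of_card_ge (zpowers_le.2 hz1)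
    rw [Nat.card_zpowers, hzo, hz]
  have hle : NN S ≤ centralizer ({z} : Set G) := by
    intro x hx
    have h1 := le_normalizer_zeta S hx
    have h2 : x * z * x⁻¹ ∈ zpowers z := by
      rw [← hzz]; exact (mem_normalizer_iff.1 h1 z).1 hz1
    rw [mem_cent]
    obtain ⟨i, hi⟩ := mem_zpowers_iff.1 h2
    have h3 : x * z * x⁻¹ = 1 ∨ x * z * x⁻¹ = z := by
      rw [← hi]
      rcases Int.even_or_odd i with ⟨j, hj⟩ | ⟨j, hj⟩
      · left
        rw [hj, ← two_mul, zpow_mul, zpow_ofNat, sq, mul_self hzo, one_zpow]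
      · right
        rw [hj, zpow_add, zpow_mul, zpow_ofNat, sq, mul_self hzo, one_zpow, one_mul, zpow_one]
    rcases h3 with h3 | h3
    · exact absurd (conj_eq_one_iff.1 h3) hz2
    · exact mul_inv_eq_iff_eq_mul.1 h3
  have h1 : IsPGroup 2 (NN S) := (hG z hzo).to_le hle
  obtain ⟨k, hk⟩ := IsPGroup.iff_card.1 h1
  have h2 := frattini_index hM hS
  rw [hk] at h2
  obtain ⟨j, -, hj⟩ := (Nat.dvd_prime_pow Nat.prime_two).1 (Dvd.intro_left _ h2.symm)
  exact ⟨j, hj⟩

end Cfsg.Agent.Lib.CIT
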