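import Cfsg.Agent.Lib.CITStr2

/-!
# CIT-groups (helper6): structure of nonsolvable CIT-groups, part 3
-/

set_option autoImplicit false
set_option linter.all false

namespace Cfsg.Agent.Lib.CIT

open Subgroup SylowRel StrongEmbPt

theorem zeta_map {G H : Type*} [Group G] [Group H] (f : G →* H) (hf : Function.Injective f)
    (S : Subgroup G) : zeta (S.map f) = (zeta S).map f := by
  ext x
  constructor
  · intro hx
    obtain ⟨⟨y, hy, rfl⟩, h2, h3⟩ := mem_zeta.1 hx
    refine ⟨y, mem_zeta.2 ⟨hy, ?_, ?_⟩, rfl⟩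
    · apply hf; rw [map_mul, h2, map_one]
    · intro z hz
      apply hf
      rw [map_mul, map_mul]
      exact h3 _ (mem_map_of_mem f hz)
  · rintro ⟨y, hy, rfl⟩
    obtain ⟨h1, h2, h3⟩ := mem_zeta.1 hy
    refine mem_zeta.2 ⟨mem_map_of_mem f h1, ?_, ?_⟩
    · rw [← map_mul, h2, map_one]
    · rintro _ ⟨z, hz, rfl⟩
      rw [← map_mul, ← map_mul, h3 z hz]

variable {G : Type*} [Group G] [Finite G]

theorem NatEdge.card_zeta_two (hG : IsCIT G) {A B T S : Subgroup G} (N : NatEdge A B T 1)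
    (hS : IsPGroup 2 S) (hTS : T ≤ S) : Nat.card (zeta S) = 2 := by
  haveI : Fact (Nat.Prime 2) := ⟨Nat.prime_two⟩
  have hAS : A ≤ S := N.A_le.trans hTS
  have hSb : S ≠ ⊥ := by
    rintro rfl
    have h1 := Subgroup.card_le_of_le hTS
    rw [N.cardT, Subgroup.card_bot] at h1
    norm_num at h1
  have hle : zeta S ≤ A := by
    intro x hx
    obtain ⟨h1, h2, h3⟩ := mem_zeta.1 hx
    apply N.edge.locA.cent_le hG
    rw [mem_centralizer_iff]
    intro y hy
    exact (h3 y (hAS hy)).symm
  have hcA : Nat.card A = 4 := by rw [N.cardA]; norm_num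
  have h1 : Nat.card (zeta S) ∣ 4 := by rw [← hcA]; exact card_dvd_of_le hle
  have h2 : Nat.card (zeta S) ≠ 1 := fun h => zeta_ne_bot hS hSb (Subgroup.card_eq_one.1 h)
  have h3 : Nat.card (zeta S) ≠ 4 := by
    intro h
    have h4 : zeta S = A := eq_of_le_of_card_ge hle (by rw [h, hcA])
    have h5 : S ≤ A := by
      intro s hs
      apply N.edge.locA.cent_le hG
      rw [mem_centralizer_iff]
      intro y hy
      rw [SetLike.mem_coe, ← h4] at hy
      exact (mem_zeta.1 hy).2.2 s hs
    have h6 := Subgroup.card_le_of_le (hTS.trans h5)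
    rw [N.cardT, hcA] at h6
    norm_num at h6
  have h4 : Nat.card (zeta S) ≤ 4 := Nat.le_of_dvd (by norm_num) h1
  have h5 : 0 < Nat.card (zeta S) := Nat.card_pos
  generalize Nat.card (zeta S) = c at *
  interval_cases c <;> first | rfl | omega

theorem main_nti [IsSimpleGroup G] (hna : ¬ ∀ a b : G, a * b = b * a) (hG : IsCIT G)
    (hTI : ¬ TI2 G) :
    (∃ (F : Type) (_ : Field F) (_ : Fintype F), Odd (Fintype.card F) ∧
        (Fintype.card F = 9 ∨ (Fintype.card F).Prime) ∧
        Nonempty (G ≃* Matrix.ProjectiveSpecialLinearGroup (Fin 2) F) ∧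
        ∃ A B T : Subgroup G, NatEdge A B T 1) ∨ ∃ A B T : Subgroup G, Pln A B T := by
  have hna' : ¬ IsMulCommutative G := fun h => hna (fun a b => mul_comm' a b)
  have hP := p2_all hG
  obtain ⟨A, B, T, e⟩ := exists_edge hG hP (pCore_bot_of_simple hna) hTI
  by_cases h1 : ∃ (A B T : Subgroup G), NatEdge A B T 1
  · obtain ⟨A, B, T, N⟩ := h1
    obtain ⟨F, i1, i2, ho, ⟨h⟩⟩ := N.psl2 hna' hG
    refine Or.inl ⟨F, i1, i2, ho, ?_, ⟨h⟩, A, B, T, N⟩
    rcases psl2_restrict ho (hG.equiv h) with h | h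
    · exact Or.inl h
    · exact Or.inr h.1
  · push Not at h1
    have h3 : ∀ (A B T : Subgroup G) (n : ℕ), NatEdge A B T n → n = 3 := by
      intro A B T n N
      rcases N.n_eq hG hP with rfl | h
      · exact absurd N (h1 A B T)
      · exact h
    obtain ⟨n, N⟩ := e.natural hG hP
    obtain rfl := h3 _ _ _ _ N
    right
    exact ⟨A, B, T, hG, hP, N, N.isSyl hna' hG hP h3⟩

/-- Sylow `3`-subgroups of `PSL₂(q)`, `q` prime to `6`. -/
theorem psl2_sylow_three {F : Type*} [Field F] [Fintype F] (ho : Odd (Fintype.card F))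
    (h3 : ¬ 3 ∣ Fintype.card F) :
    ∃ x : Matrix.ProjectiveSpecialLinearGroup (Fin 2) F, x ≠ 1 ∧ ∃ a, orderOf x = 3 ^ a ∧
      ¬ 3 ∣ Nat.card (Matrix.ProjectiveSpecialLinearGroup (Fin 2) F) / orderOf x := by
  classical
  obtain ⟨p, hchar⟩ := CharP.exists F
  obtain ⟨f, hp, hpf⟩ := FiniteField.card F p
  haveI : Fact p.Prime := ⟨hp⟩
  have hspec := PSL2Orders.spectrum (F := F) p
  obtain ⟨c, hc⟩ := ho
  have hg : Nat.gcd 2 (Fintype.card F - 1) = 2 := by
    have : Fintype.card F - 1 = 2 * c := by omega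
    rw [this]; simp
  rw [hg] at hspec
  have hcard := ClSL2Syl.card_PSL2 (F := F) ⟨c, hc⟩
  have hcard' : Nat.card (Matrix.ProjectiveSpecialLinearGroup (Fin 2) F) = (2 * c + 1) * (2 * c * (c + 1)) := by
    have h1 : (2 * c + 1) ^ 2 - 1 = 2 * (2 * c * (c + 1)) := by
      have : (2 * c + 1) ^ 2 = 2 * (2 * c * (c + 1)) + 1 := by ring
      omega
    rw [hc, h1] at hcard
    have : (2 * c + 1) * (2 * (2 * c * (c + 1))) = 2 * ((2 * c + 1) * (2 * c * (c + 1))) := by ring
    rw [this] at hcard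
    exact Nat.eq_of_mul_eq_mul_left (by norm_num) hcard
  have hfin : Finite (Matrix.ProjectiveSpecialLinearGroup (Fin 2) F) := inferInstance
  -- an element of order `m` with `3 ∣ m`
  have hex : ∃ m k : ℕ, m ∈ Set.range (orderOf : Matrix.ProjectiveSpecialLinearGroup (Fin 2) F → ℕ) ∧
      3 ∣ m ∧ 0 < m ∧ Nat.card (Matrix.ProjectiveSpecialLinearGroup (Fin 2) F) = m * k ∧ ¬ 3 ∣ k := by
    rw [hc] at h3
    have h4 : 3 ∣ c ∨ 3 ∣ c + 1 := by
      have h5 : c % 3 = 0 ∨ c % 3 = 1 ∨ c % 3 = 2 := by omega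
      rcases h5 with h5 | h5 | h5
      · left; omega
      · exfalso; apply h3; omega
      · right; omega
    rcases h4 with h4 | h4
    · refine ⟨c, (2 * c + 1) * (2 * (c + 1)), ?_, h4, ?_, by rw [hcard']; ring, ?_⟩
      · rw [hspec]; right; left; rw [hc]; simp
      · rcases Nat.eq_zero_or_pos c with h | h
        · have : Fintype.card F = 1 := by omega
          exact absurd this Fintype.one_lt_card.ne'
        · exact h
      · intro h
        rcases (Nat.Prime.dvd_mul Nat.prime_three).1 h with h | h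
        · exact h3 h
        · omega
    · refine ⟨c + 1, (2 * c + 1) * (2 * c), ?_, h4, by omega, by rw [hcard']; ring, ?_⟩
      · rw [hspec]; right; right; rw [hc]
        have : (2 * c + 1 + 1) / 2 = c + 1 := by omega
        rw [this]
      · intro h
        rcases (Nat.Prime.dvd_mul Nat.prime_three).1 h with h | h
        · exact h3 h
        · omega
  obtain ⟨m, k, ⟨x, hx⟩, hm3, hm, hmk, hk⟩ := hex
  obtain ⟨a, l, hl, hml⟩ := Nat.exists_eq_pow_mul_and_not_dvd hm.ne' 3 (by norm_num)
  have hl0 : 0 < l := by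
    rcases Nat.eq_zero_or_pos l with h | h
    · rw [h] at hml; omega
    · exact h
  have hxo : orderOf (x ^ l) = 3 ^ a := by
    rw [orderOf_pow_of_dvd hl0.ne' (by rw [hx, hml]; exact Dvd.intro_left _ rfl), hx, hml,
      Nat.mul_div_cancel _ hl0]
  refine ⟨x ^ l, ?_, a, hxo, ?_⟩
  · intro h
    rw [h, orderOf_one] at hxo
    have : a = 0 := by
      by_contra ha
      have := Nat.one_lt_pow ha (by norm_num : 1 < 3)
      omega
    rw [this] at hml
    simp at hml
    rw [← hml] at hl
    exact hl hm3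
  · rw [hxo, hmk, hml, mul_assoc, Nat.mul_div_cancel_left _ (by positivity)]
    intro h
    rcases (Nat.Prime.dvd_mul Nat.prime_three).1 h with h | h
    · exact hl h
    · exact hk h

theorem isSyl_zpowers {M : Subgroup G} {r : ℕ} [hr : Fact r.Prime] {x : G} (hx : x ∈ M) {a : ℕ}
    (ha : orderOf x = r ^ a) (h : ¬ r ∣ Nat.card M / orderOf x) : IsSyl r (zpowers x) M := by
  refine isSyl_of_not_dvd (IsPGroup.of_card (n := a) (by rw [Nat.card_zpowers, ha])) (zpowers_le.2 hx) ?_
  intro h1
  apply h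
  have h2 := card_mul_rel (zpowers_le.2 hx)
  rw [Nat.card_zpowers] at h2
  rw [← h2, Nat.mul_div_cancel_left _ (orderOf_pos x)]
  exact h1

/-- Sylow subgroup of prime order -/
theorem exists_isSyl_prime {M : Subgroup G} {r k : ℕ} [hr : Fact r.Prime] (hc : Nat.card M = r * k)
    (hk : ¬ r ∣ k) : ∃ R : Subgroup G, IsSyl r R M ∧ Nat.card R = r := by
  obtain ⟨R, hR, -⟩ := exists_isSyl (p := r) (Q := (⊥ : Subgroup G)) (H := M) IsPGroup.of_bot bot_le
  refine ⟨R, hR, ?_⟩
  obtain ⟨j, hj⟩ := IsPGroup.iff_card.1 hR.isPGroup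
  have h1 := card_mul_rel hR.le
  have h2 := hR.not_dvd_relIndex
  rw [hj, hc] at h1
  rcases Nat.lt_trichotomy j 1 with h | h | h
  · have : j = 0 := by omega
    rw [this, pow_zero, one_mul] at h1
    exact absurd (Dvd.intro _ h1.symm) h2
  · rw [hj, h, pow_one]
  · exfalso
    apply hk
    obtain ⟨i, rfl⟩ : ∃ i, j = i + 2 := ⟨j - 2, by omega⟩
    have h3 : r * (r * (r ^ i * R.relIndex M)) = r * k := by rw [← h1]; ring
    have h4 := Nat.eq_of_mul_eq_mul_left hr.out.pos h3
    exact Dvd.intro _ h4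

/-- a nonsolvable CIT-group without normal `2`-subgroups, Sylow subgroups not TI. -/
theorem IsCIT.simple_or (hG : IsCIT G) (hns : ¬ Group.IsSolvable G) (hO : Cfsg.pCore 2 G = ⊥)
    (hTI : ¬ TI2 G) : IsSimpleGroup G ∨ ∃ N : Subgroup G, N.Normal ∧ N.index = 2 ∧
      ∃ (F : Type) (_ : Field F) (_ : Fintype F), Fintype.card F = 9 ∧
        Nonempty (N ≃* Matrix.ProjectiveSpecialLinearGroup (Fin 2) F) := by
  classical
  haveI : Fact (Nat.Prime 2) := ⟨Nat.prime_two⟩
  haveI : Fact (Nat.Prime 3) := ⟨Nat.prime_three⟩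
  haveI : Fact (Nat.Prime 5) := ⟨by norm_num⟩
  haveI : Fact (Nat.Prime 7) := ⟨by norm_num⟩
  have hnt : Nontrivial G := by
    by_contra h
    rw [not_nontrivial_iff_subsingleton] at h
    exact hns (Group.isSolvable_of_comm (fun a b => Subsingleton.elim _ _))
  -- minimal normal subgroup
  obtain ⟨M, ⟨hMn, hMb⟩, hmin⟩ := (wellFounded_lt (α := Subgroup G)).has_min
    {M : Subgroup G | M.Normal ∧ M ≠ ⊥} ⟨⊤, inferInstance, top_ne_bot⟩
  have hmin' : ∀ K : Subgroup G, K.Normal → K ≤ M → K = ⊥ ∨ K = M := by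
    intro K hK hKM
    by_cases hKb : K = ⊥
    · exact Or.inl hKb
    · right
      by_contra hne
      exact hmin K ⟨hK, hKb⟩ (lt_of_le_of_ne hKM hne)
  have hMe : ¬ Odd (Nat.card M) := fun h => hns (hG.solvable_of_odd_normal hMn h hMb)
  have hMs : IsSimpleGroup M := simple_of_minNormal hG hO hMn hMb hmin' hMe
  have hMna : ¬ ∀ a b : M, a * b = b * a := by
    intro h
    obtain ⟨t, ht, hto⟩ := StrongEmbPt.exists_involution (Nat.not_odd_iff_even.1 hMe)
    have h1 : zpowers (⟨t, ht⟩ : M) = ⊥ ∨ zpowers (⟨t, ht⟩ : M) = ⊤ := by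
      have hn : (zpowers (⟨t, ht⟩ : M)).Normal := ⟨fun n hn g => by
        rw [h g n, mul_inv_cancel_right]; exact hn⟩
      exact hn.eq_bot_or_eq_top
    have ht1 : t ≠ 1 := by rintro rfl; rw [orderOf_one] at hto; omega
    rcases h1 with h1 | h1
    · rw [zpowers_eq_bot] at h1
      exact ht1 (congrArg Subtype.val h1)
    · have h2 : Nat.card M = 2 := by
        rw [← Subgroup.card_top (G := M), ← h1, Nat.card_zpowers, ← orderOf_coe]
        exact hto
      have h3 : M ≤ Cfsg.pCore 2 G := Fitting.le_pCore 2 hMn (IsPGroup.of_card (n := 1) (by rw [h2, pow_one]))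
      rw [hO, le_bot_iff] at h3
      exact hMb h3
  have hMTI : ¬ TI2 M := fun h => hTI (ti_of_normal_ti hG hO hMn hMe h)
  have hMc : IsCIT M := hG.subgroup M
  have hiso : M = ⊤ → IsSimpleGroup G := by
    rintro rfl
    exact (Subgroup.topEquiv (G := G)).symm.isSimpleGroup
  rcases main_nti hMna hMc hMTI with ⟨F, i1, i2, ho, hF, ⟨e⟩, A, B, T, N⟩ | ⟨A, B, T, N⟩
  · -- `PSL₂`
    have hcM : Nat.card M = Nat.card (Matrix.ProjectiveSpecialLinearGroup (Fin 2) F) := Nat.card_congr e.toEquiv
    obtain ⟨S, hTS⟩ := N.edge.sylA.isPGroup.exists_le_sylow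
    have hS : IsSyl 2 ((S : Subgroup M).map M.subtype) M := isSyl_map S
    have hz : Nat.card (zeta ((S : Subgroup M).map M.subtype)) = 2 := by
      rw [zeta_map _ M.subtype_injective, Subgroup.card_map_of_injective M.subtype_injective]
      exact N.card_zeta_two hMc S.isPGroup' hTS
    obtain ⟨k, hk⟩ := hG.index_two_pow hMn hS hz
    rcases hF with hF | hF
    · -- `q = 9`
      have hc := ClSL2Syl.card_PSL2 (F := F) ho
      rw [hF, ← hcM] at hc
      have hc' : Nat.card M = 5 * 72 := by omega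
      obtain ⟨R, hR, hRc⟩ := exists_isSyl_prime (r := 5) hc' (by norm_num)
      have h4 := hG.index_five hMn hMs hMna hR hRc
      rw [hk] at h4
      have hk1 : k < 2 := by
        by_contra h
        exact h4 (by
          have : (2 : ℕ) ^ 2 ∣ 2 ^ k := pow_dvd_pow 2 (by omega)
          simpa using this)
      interval_cases k
      · left
        exact hiso (index_eq_one.1 (by rw [hk]; rfl))
      · right
        exact ⟨M, hMn, by rw [hk]; rfl, F, i1, i2, hF, ⟨e⟩⟩
    · -- `q` prime
      left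
      have h3 : ¬ 3 ∣ Fintype.card F := by
        intro h
        have h1 : Fintype.card F = 3 := ((Nat.prime_dvd_prime_iff_eq Nat.prime_three hF).1 h).symm
        have hc := ClSL2Syl.card_PSL2 (F := F) ho
        rw [h1, ← hcM] at hc
        have hT8 : 8 ∣ Nat.card M := by
          have := Subgroup.card_subgroup_dvd_card T
          rwa [N.cardT] at this
        omega
      obtain ⟨x, hx1, a, hxo, hx3⟩ := psl2_sylow_three ho h3
      have hyo : orderOf ((e.symm x : M) : G) = 3 ^ a := by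
        rw [orderOf_coe, MulEquiv.orderOf_eq, hxo]
      have hR := isSyl_zpowers (M := M) (r := 3) (e.symm x).2 hyo (by
        rw [hyo, hcM, ← hxo]; exact hx3)
      have hodd := hG.odd_index hMn hMs hMna Nat.prime_three (by norm_num) hR inferInstance (by
        intro h
        rw [zpowers_eq_bot] at h
        apply hx1
        have h5 : e.symm x = 1 := Subtype.ext h
        rw [← map_one e.symm] at h5
        exact e.symm.injective h5)
      apply hiso
      rw [← index_eq_one, hk]
      rw [hk] at hodd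
      rcases Nat.eq_zero_or_pos k with h | h
      · rw [h, pow_zero]
      · exact absurd hodd (Nat.not_odd_iff_even.2 ((even_two).pow_of_ne_zero h.ne'))
  · -- `PSL₃(4)`
    left
    have hcM : Nat.card M = 7 * 2880 := by rw [N.card_G]
    obtain ⟨R, hR, hRc⟩ := exists_isSyl_prime (r := 7) hcM (by norm_num)
    have hodd := hG.odd_index hMn hMs hMna (by norm_num : Nat.Prime 7) (by norm_num) hR
      (isCyclic_of_prime_card hRc) (by rintro rfl; rw [Subgroup.card_bot] at hRc; omega)
    -- Sylow `2`-subgroup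
    have hcT : Nat.card T = 64 := by rw [N.nat.cardT]; norm_num
    set T' : Subgroup G := T.map M.subtype with hT'
    have hcT' : Nat.card T' = 64 := by rw [hT', Subgroup.card_map_of_injective M.subtype_injective, hcT]
    have hTP : IsPGroup 2 T' := IsPGroup.of_card (n := 6) (by rw [hcT']; norm_num)
    have hT'M : T' ≤ M := map_subtype_le _
    have hSylT : IsSyl 2 T' ⊤ := by
      apply isSyl_of_not_dvd hTP le_top
      rw [← relIndex_mul_relIndex T' M ⊤ hT'M le_top, relIndex_top_right]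
      intro h
      rcases (Nat.Prime.dvd_mul Nat.prime_two).1 h with h | h
      · have h1 := card_mul_rel hT'M
        rw [hcT', hcM] at h1
        omega
      · exact (Nat.not_even_iff_odd.2 hodd) (even_iff_two_dvd.2 h)
    have hzT : Nat.card (zeta T') = 4 := by
      rw [hT', zeta_map _ M.subtype_injective, Subgroup.card_map_of_injective M.subtype_injective]
      rw [N.nat.ffA.cardz]
    have hP := p2_all hG
    obtain ⟨A', B', T1, e1⟩ := exists_edge hG hP hO hTI
    obtain ⟨n, N1⟩ := e1.natural hG hP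
    rcases N1.n_eq hG hP with rfl | rfl
    · exfalso
      obtain ⟨S, hS, hTS⟩ := exists_isSyl N1.edge.sylA.isPGroup (le_top : T1 ≤ ⊤)
      have h2 := N1.card_zeta_two hG hS.isPGroup hTS
      obtain ⟨x, -, hx⟩ := hS.exists_cj_eq hSylT
      rw [← hx, zeta_cj, card_cj, h2] at hzT
      omega
    · have hT1 : IsSyl 2 T1 ⊤ := by
        obtain ⟨S, hS, hTS⟩ := exists_isSyl N1.edge.sylA.isPGroup (le_top : T1 ≤ ⊤)
        have h1 : Nat.card S = 64 := by rw [hS.card_eq hSylT, hcT']
        have h2 : T1 = S := eq_of_le_of_card_ge hTS (by rw [h1, N1.cardT]; norm_num)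
        rw [h2]; exact hS
      have h3 : Nat.card G = 20160 := Pln.card_G (⟨hG, hP, N1, hT1⟩ : Pln A' B' T1)
      apply hiso
      apply Subgroup.eq_top_of_card_eq
      rw [hcM, h3]

end Cfsg.Agent.Lib.CIT
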