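import Cfsg.Agent.Lib.CITStr3

/-!
# CIT-groups (helper6): structure of nonsolvable CIT-groups, part 4: the theorem
-/

set_option autoImplicit false
set_option linter.all false

namespace Cfsg.Agent.Lib.CIT

open Subgroup SylowRel StrongEmbPt

variable {G : Type*} [Group G] [Finite G]

theorem O2_top : O2 (⊤ : Subgroup G) = Cfsg.pCore 2 G := by
  have hn := Fitting.normal_pCore 2 (G := G)
  refine O2_eq_of le_top (Fitting.isPGroup_pCore 2) ?_ ?_
  · rw [normalizer_eq_top_iff.2 hn]
  · intro N _ hN hN2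
    exact Fitting.le_pCore 2 (normalizer_eq_top_iff.1 (top_le_iff.1 hN2)) hN

theorem IsCIT.ti_quot (hG : IsCIT G) (hO : Cfsg.pCore 2 G ≠ ⊥) :
    haveI := Fitting.normal_pCore 2 (G := G)
    TI2 (G ⧸ Cfsg.pCore 2 G) := by
  haveI hn := Fitting.normal_pCore 2 (G := G)
  have hP := p2_all hG
  set f : (⊤ : Subgroup G) →* (G ⧸ Cfsg.pCore 2 G) := (QuotientGroup.mk' (Cfsg.pCore 2 G)).comp
    (Subgroup.topEquiv (G := G)).toMonoidHom with hf
  have hfs : Function.Surjective f := by
    rw [hf]
    exact (QuotientGroup.mk'_surjective _).comp (Subgroup.topEquiv (G := G)).surjective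
  have hk : f.ker = (Cfsg.pCore 2 G).subgroupOf ⊤ := by
    ext x
    rw [MonoidHom.mem_ker, mem_subgroupOf]
    exact QuotientGroup.eq_one_iff (x : G)
  apply ti_of_inf_le f hfs
  · rw [hk]
    exact (Fitting.isPGroup_pCore 2).comap_of_injective _ (Subgroup.subtype_injective _)
  · intro T T' hT hT' hne
    rw [hP ⊤ T T' (by rw [O2_top]; exact hO) hT hT' hne, O2_top, hk, map_subgroupOf_eq_of_le le_top]

theorem not_solvable_quot {N : Subgroup G} [N.Normal] (hN : IsPGroup 2 N) (hns : ¬ Group.IsSolvable G) :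
    ¬ Group.IsSolvable (G ⧸ N) := by
  haveI : Fact (Nat.Prime 2) := ⟨Nat.prime_two⟩
  intro h
  haveI := hN.isNilpotent
  have h1 : Group.IsSolvable N := inferInstance
  exact hns (solvable_of_quot h1 h)

/-- **Suzuki.** Nonsolvable CIT-groups. -/
theorem IsCIT.structure (hG : IsCIT G) (hns : ¬ Group.IsSolvable G) :
    IsSimpleGroup G ∨
    (Cfsg.pCore 2 G = ⊥ ∧ ∃ N : Subgroup G, N.Normal ∧ N.index = 2 ∧
      ∃ (F : Type) (_ : Field F) (_ : Fintype F), Fintype.card F = 9 ∧
        Nonempty (N ≃* Matrix.ProjectiveSpecialLinearGroup (Fin 2) F)) ∨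
    (Cfsg.pCore 2 G ≠ ⊥ ∧ ∃ _ : (Cfsg.pCore 2 G).Normal, IsSimpleGroup (G ⧸ Cfsg.pCore 2 G) ∧
      IsCIT (G ⧸ Cfsg.pCore 2 G) ∧ TI2 (G ⧸ Cfsg.pCore 2 G) ∧ ¬ Group.IsSolvable (G ⧸ Cfsg.pCore 2 G)) := by
  haveI : Fact (Nat.Prime 2) := ⟨Nat.prime_two⟩
  by_cases hO : Cfsg.pCore 2 G = ⊥
  · by_cases hTI : TI2 G
    · exact Or.inl (hG.simple_of_ti hns hO hTI)
    · rcases hG.simple_or hns hO hTI with h | h
      · exact Or.inl h
      · exact Or.inr (Or.inl ⟨hO, h⟩)
  · right; right
    haveI hn := Fitting.normal_pCore 2 (G := G)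
    have hp : IsPGroup 2 (Cfsg.pCore 2 G) := Fitting.isPGroup_pCore 2
    have h1 : IsCIT (G ⧸ Cfsg.pCore 2 G) := hG.quotient _ hp
    have h2 := hG.ti_quot hO
    have h3 := not_solvable_quot hp hns
    exact ⟨hO, hn, h1.simple_of_ti h3 (Fitting.pCore_quotient_pCore 2) h2, h1, h2, h3⟩

theorem not_comm_of_not_solvable (hns : ¬ Group.IsSolvable G) : ¬ ∀ a b : G, a * b = b * a :=
  fun h => hns (Group.isSolvable_of_comm h)

theorem not_solvable_of_simple [IsSimpleGroup G] (hna : ¬ ∀ a b : G, a * b = b * a) :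
    ¬ Group.IsSolvable G := fun h => hna ((IsSimpleGroup.comm_iff_isSolvable).2 h)

section ti

/-- the number theory excluding odd `q ≠ 5`. -/
theorem num_ti {q s n N : ℕ} (hq : Odd q) (hq2 : q = 9 ∨ q.Prime ∧ ∃ k : ℕ, q = 2 ^ k + 1 ∨ q + 1 = 2 ^ k)
    (hN : 2 * N = q * (q ^ 2 - 1)) (hNs : N = s * n * (s + 1)) {e : ℕ} (hs : s = 2 ^ e) (he : 0 < e)
    (hn : Odd n) {a : ℕ} (hna : n + 1 = 2 ^ a) : q = 5 ∧ s = 4 ∧ n = 3 := by
  have key : ∀ {x y m m' : ℕ}, 2 ^ x * m = 2 ^ y * m' → Odd m → Odd m' → x = y ∧ m = m' := by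
    intro x y m m' h hm hm'
    have h1 : x = y := by
      rcases Nat.lt_trichotomy x y with hlt | heq | hgt
      · exfalso
        obtain ⟨d, rfl⟩ : ∃ d, y = x + (d + 1) := ⟨y - x - 1, by omega⟩
        rw [pow_add, mul_assoc] at h
        have h2 := Nat.eq_of_mul_eq_mul_left (by positivity) h
        rw [h2, pow_succ] at hm
        exact (Nat.not_even_iff_odd.2 hm) ((even_two.mul_left _).mul_right _)
      · exact heq
      · exfalso
        obtain ⟨d, rfl⟩ : ∃ d, x = y + (d + 1) := ⟨x - y - 1, by omega⟩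
        rw [pow_add, mul_assoc] at h
        have h2 := Nat.eq_of_mul_eq_mul_left (by positivity) h
        rw [← h2, pow_succ] at hm'
        exact (Nat.not_even_iff_odd.2 hm') ((even_two.mul_left _).mul_right _)
    subst h1
    exact ⟨rfl, Nat.eq_of_mul_eq_mul_left (by positivity) h⟩
  have hse : Even s := by rw [hs]; exact even_two.pow_of_ne_zero he.ne'
  have hso : Odd (n * (s + 1)) := hn.mul hse.add_one
  have hN2 : N = 2 ^ e * (n * (s + 1)) := by rw [hNs, hs]; ring
  rcases hq2 with rfl | ⟨-, k, hk | hk⟩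
  · have h1 : N = 2 ^ 3 * 45 := by omega
    rw [h1] at hN2
    obtain ⟨h2, h3⟩ := key hN2 (by decide) hso
    rw [← h2] at hs
    rw [hs] at h3
    have h4 : n = 5 := by omega
    rw [h4] at hna
    have ha : a < 3 := by
      by_contra h
      have : (2 : ℕ) ^ 3 ≤ 2 ^ a := Nat.pow_le_pow_right (by norm_num) (by omega)
      omega
    interval_cases a <;> omega
  · -- `q = 2^k + 1`
    rcases Nat.lt_or_ge k 2 with h | h
    · exfalso
      interval_cases k
      · rw [hk] at hq; exact absurd hq (by decide)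
      · rw [hk] at hN
        have h1 : N = 2 ^ 2 * 3 := by omega
        rw [h1] at hN2
        obtain ⟨h2, h3⟩ := key hN2 (by decide) hso
        rw [← h2] at hs
        rw [hs] at h3
        omega
    · obtain ⟨j, rfl⟩ : ∃ j, k = j + 2 := ⟨k - 2, by omega⟩
      have h1 : N = 2 ^ (j + 2) * ((2 ^ (j + 1) + 1) * (2 ^ (j + 2) + 1)) := by
        have h2 : q * (q ^ 2 - 1) = 2 * (2 ^ (j + 2) * ((2 ^ (j + 1) + 1) * (2 ^ (j + 2) + 1))) := by
          have h3 : q ^ 2 = 2 * (2 ^ (j + 2) * (2 ^ (j + 1) + 1)) + 1 := by rw [hk]; ring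
          rw [h3, Nat.add_sub_cancel, hk]; ring
        rw [h2] at hN
        exact Nat.eq_of_mul_eq_mul_left (by norm_num) hN
      rw [h1] at hN2
      have ho1 : Odd (2 ^ (j + 1) + 1) := (even_two.pow_of_ne_zero (by omega)).add_one
      have ho2 : Odd (2 ^ (j + 2) + 1) := (even_two.pow_of_ne_zero (by omega)).add_one
      obtain ⟨h2, h3⟩ := key hN2 (ho1.mul ho2) hso
      rw [← h2] at hs
      rw [← hs] at h3
      have h4 : n = 2 ^ (j + 1) + 1 := (Nat.eq_of_mul_eq_mul_right (by omega) h3).symm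
      rcases Nat.eq_zero_or_pos j with hj | hj
      · subst hj
        simp only [zero_add, Nat.reduceAdd, Nat.reducePow] at hk hs h4
        exact ⟨by omega, hs, h4⟩
      · exfalso
        obtain ⟨i, rfl⟩ : ∃ i, j = i + 1 := ⟨j - 1, by omega⟩
        have h5 : 2 ^ 1 * (2 ^ (i + 1) + 1) = 2 ^ a * 1 := by
          rw [mul_one, ← hna, h4]; ring
        obtain ⟨-, h6⟩ := key h5 ((even_two.pow_of_ne_zero (by omega)).add_one) (by decide)
        have : 0 < 2 ^ (i + 1) := by positivity
        omega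
  · -- `q + 1 = 2^k`
    exfalso
    rcases Nat.lt_or_ge k 2 with h | h
    · interval_cases k
      · have : q = 0 := by omega
        rw [this] at hq; exact absurd hq (by decide)
      · have : q = 1 := by omega
        rw [this] at hN
        have hN0 : N = 0 := by omega
        rw [hN0, hs] at hNs
        have : 0 < 2 ^ e * n * (2 ^ e + 1) := by
          have := hn.pos
          positivity
        omega
    · obtain ⟨j, rfl⟩ : ∃ j, k = j + 2 := ⟨k - 2, by omega⟩
      have hp : 1 ≤ 2 ^ (j + 1) := Nat.one_le_two_pow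
      obtain ⟨w, hw⟩ : ∃ w, 2 ^ (j + 1) = w + 1 := ⟨2 ^ (j + 1) - 1, by omega⟩
      have hqw : q = 2 * w + 1 := by rw [pow_succ, hw] at hk; omega
      have h1 : N = 2 ^ (j + 2) * (w * (2 * w + 1)) := by
        have h2 : q * (q ^ 2 - 1) = 2 * (2 ^ (j + 2) * (w * (2 * w + 1))) := by
          have h3 : q ^ 2 = 2 * (2 * (w + 1)) * w + 1 := by rw [hqw]; ring
          rw [h3, Nat.add_sub_cancel, hqw, pow_succ, hw]; ring
        rw [h2] at hN
        exact Nat.eq_of_mul_eq_mul_left (by norm_num) hN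
      rw [h1] at hN2
      have hwo : Odd w := by
        rw [← Nat.not_even_iff_odd]
        intro he
        have h2 : Even (w + 1) := by rw [← hw]; exact even_two.pow_of_ne_zero (by omega)
        exact (Nat.not_even_iff_odd.2 he.add_one) h2
      have ho1 : Odd (w * (2 * w + 1)) := hwo.mul ((even_two_mul w).add_one)
      obtain ⟨h2, h3⟩ := key hN2 ho1 hso
      rw [← h2] at hs
      have hs' : s = 2 * w + 2 := by rw [hs, pow_succ, hw]; ring
      rw [hs'] at h3
      -- `w (2w+1) = n (2w+3)`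
      have hd : (2 * w + 2 + 1) ∣ w * (2 * w + 1) := Dvd.intro_left _ h3.symm
      have hc : (2 * w + 2 + 1).Coprime (2 * w + 1) := by
        have : (2 * w + 2 + 1) = (2 * w + 1) + 2 := by ring
        rw [this]
        rw [Nat.coprime_self_add_left]
        exact Nat.coprime_two_left.2 ((even_two_mul w).add_one)
      have h5 := hc.dvd_of_dvd_mul_right hd
      have h6 := Nat.le_of_dvd hwo.pos h5
      omega

theorem ti_main [IsSimpleGroup G] (hna : ¬ ∀ a b : G, a * b = b * a) (hG : IsCIT G) (hTI : TI2 G) :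
    (∃ (F : Type) (_ : Field F) (_ : Fintype F), CharP F 2 ∧ 4 ≤ Fintype.card F ∧
      Nonempty (G ≃* Matrix.ProjectiveSpecialLinearGroup (Fin 2) F)) ∨ Cfsg.IsSuzuki G := by
  classical
  haveI : Fact (Nat.Prime 2) := ⟨Nat.prime_two⟩
  rcases of_ti hna hG hTI with ⟨F, i1, i2, ⟨e⟩⟩ | h
  swap
  · exact Or.inr h
  left
  rcases Nat.even_or_odd (Fintype.card F) with hev | hodd
  · have hch : CharP F 2 := by
      obtain ⟨p, hchar⟩ := CharP.exists F
      obtain ⟨f, hp, hpf⟩ := FiniteField.card F p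
      have hp2 : p = 2 := by
        rw [hpf] at hev
        have := (Nat.even_pow.1 hev).1
        exact (hp.even_iff).1 this
      subst hp2
      exact hchar
    refine ⟨F, i1, i2, hch, ?_, ⟨e⟩⟩
    by_contra h4
    have h1 : 1 < Fintype.card F := Fintype.one_lt_card
    obtain ⟨c, hc⟩ := hev
    have h2 : Fintype.card F = 2 := by omega
    -- order 6
    have h6 : Nat.card G = 6 := by
      rw [Nat.card_congr e.toEquiv]
      have h3 := ClSLn.card_PSL_formula (F := F) h2 2 (by norm_num)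
      norm_num [Finset.prod_range_succ] at h3
      simpa using h3
    haveI : Fact (Nat.Prime 3) := ⟨Nat.prime_three⟩
    obtain ⟨R, hR, hRc⟩ := exists_isSyl_prime (M := (⊤ : Subgroup G)) (r := 3) (k := 2)
      (by rw [Subgroup.card_top, h6]) (by norm_num)
    have hidx : R.index = 2 := by
      have := R.card_mul_index
      rw [hRc, h6] at this
      omega
    have hn : R.Normal := normal_of_index_eq_two hidx
    rcases hn.eq_bot_or_eq_top with h | h
    · rw [h, Subgroup.card_bot] at hRc; omega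
    · rw [h, index_top] at hidx; omega
  · have hns := not_solvable_of_simple hna
    obtain ⟨P, n, hP, hPb, hn1, hSE, hz⟩ := hG.zdata_of_ti hns (pCore_bot_of_simple hna) hTI
    have hPM : P ≤ NN P := le_normalizer
    have hSyl : IsSyl 2 P (NN P) := ⟨hPM, hP.isPGroup, fun Q hQ h1 h2 => hP.eq_of_le hQ h1 le_top⟩
    obtain ⟨e', he'⟩ := IsPGroup.iff_card.1 hP.isPGroup
    have he0 : 0 < e' := by
      rcases Nat.eq_zero_or_pos e' with h | h
      · rw [h, pow_zero] at he'; exact absurd (Subgroup.card_eq_one.1 he') hPb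
      · exact h
    have hcG : Nat.card G = Nat.card P * n * (Nat.card P + 1) := by
      have h1 := card_eq_card_quotient_mul_card_subgroup (NN P)
      rw [hz.card, ← card_mul_rel hPM, hz.se.relIndex P hSyl] at h1
      rw [h1]; ring
    -- involutions
    have hzb := zeta_ne_bot hP.isPGroup hPb
    obtain ⟨z, hz1, hz2⟩ := exists_mem_ne_one hzb
    have hzo : orderOf z = 2 := orderOf_two (mem_zeta.1 hz1).2.1 hz2
    have hinv : ∀ t : G, t ∈ NN P → orderOf t = 2 → t ∈ zeta P := by
      intro t ht hto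
      obtain ⟨m, hm, hmz⟩ := hz.se.conj z t (hPM (zeta_le P hz1)) hzo ht hto
      rw [← hmz]
      exact (mem_normalizer_iff.1 (le_normalizer_zeta P hm) z).1 hz1
    have hn2 : n + 1 = Nat.card (zeta P) := by
      haveI : Fintype (zeta P) := Fintype.ofFinite _
      have h1 : Nat.card {t : G // t ∈ NN P ∧ orderOf t = 2} = Nat.card {x : zeta P // x ≠ 1} := by
        refine Nat.card_congr ⟨fun t => ⟨⟨t.1, hinv _ t.2.1 t.2.2⟩, ?_⟩, fun x => ⟨x.1.1, hPM (zeta_le P x.1.2), ?_⟩, ?_, ?_⟩
        · intro h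
          have h2 := t.2.2
          have h3 : t.1 = 1 := congrArg Subtype.val h
          rw [h3, orderOf_one] at h2; omega
        · exact orderOf_two (mem_zeta.1 x.1.2).2.1 (fun h => x.2 (Subtype.ext h))
        · intro t; rfl
        · intro x; rfl
      rw [hz.se.card_inv] at h1
      rw [h1, Nat.card_eq_fintype_card, Fintype.card_subtype_compl]
      have h2 : 0 < Fintype.card (zeta P) := Fintype.card_pos
      simp
      omega
    obtain ⟨a, ha⟩ := IsPGroup.iff_card.1 (hP.isPGroup.to_le (zeta_le P))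
    have hres := num_ti hodd (psl2_restrict hodd (hG.equiv e)) (N := Nat.card G) (by
      rw [Nat.card_congr e.toEquiv]; exact ClSL2Syl.card_PSL2 hodd) hcG he' he0 hz.se.odd
      (by rw [hn2, ha])
    obtain ⟨h5, hs4, hn3⟩ := hres
    have hzP : zeta P = P := by
      apply eq_of_le_of_card_ge (zeta_le P)
      rw [← hn2, hs4, hn3]
    -- centralizers of involutions
    obtain ⟨T, hT⟩ := hP.exists_sylow_top
    have hcen : ∀ t ∈ P, orderOf t = 2 → centralizer ({t} : Set G) ≤ P := by
      intro t ht hto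
      obtain ⟨Q, hQ, hcQ⟩ := exists_isSyl (hG t hto) (le_top : _ ≤ (⊤ : Subgroup G))
      have htQ : t ∈ Q := hcQ (mem_cent.2 rfl)
      by_cases h : Q = P
      · rw [← h]; exact hcQ
      · exfalso
        have h1 := hTI Q P hQ hP h
        have h2 : t ∈ (Q ⊓ P : Subgroup G) := ⟨htQ, ht⟩
        rw [h1, mem_bot] at h2
        rw [h2, orderOf_one] at hto; omega
    have hC : ∀ t : G, orderOf t = 2 → IsMulCommutative (Subgroup.centralizer ({t} : Set G)) ∧
        ∀ c ∈ Subgroup.centralizer ({t} : Set G), c ^ 2 = 1 := by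
      intro t hto
      have hk : IsPGroup 2 (zpowers t) := isPGroup_zpowers (k := 1) (by rw [pow_one, ← hto, pow_orderOf_eq_one])
      obtain ⟨g, -, hg⟩ := hP.exists_cj_le hk le_top
      have h1 : g * t * g⁻¹ ∈ P := hg (conj_mem_cj (mem_zpowers t))
      have ho : orderOf (g * t * g⁻¹) = 2 := by
        rw [← hto]
        have := orderOf_injective (MulAut.conj g).toMonoidHom (MulAut.conj g).injective t
        simpa using this
      have h2 := hcen _ h1 ho
      have h3 : ∀ c ∈ centralizer ({t} : Set G), g * c * g⁻¹ ∈ zeta P := by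
        intro c hc
        rw [hzP]
        apply h2
        rw [mem_cent] at hc ⊢
        calc g * c * g⁻¹ * (g * t * g⁻¹) = g * (c * t) * g⁻¹ := by group
          _ = g * (t * c) * g⁻¹ := by rw [hc]
          _ = _ := by group
      refine ⟨⟨⟨fun x y => ?_⟩⟩, ?_⟩
      · apply Subtype.ext
        have h4 := (mem_zeta.1 (h3 x x.2)).2.2 _ (zeta_le P (h3 y y.2))
        have h5 : g * ((x : G) * y) * g⁻¹ = g * ((y : G) * x) * g⁻¹ := by
          calc g * ((x : G) * y) * g⁻¹ = g * x * g⁻¹ * (g * y * g⁻¹) := by group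
            _ = g * y * g⁻¹ * (g * x * g⁻¹) := h4
            _ = _ := by group
        exact mul_left_cancel (mul_right_cancel h5)
      · intro c hc
        have h4 := (mem_zeta.1 (h3 c hc)).2.1
        have h5 : g * (c * c) * g⁻¹ = 1 := by
          rw [← h4]; group
        rw [sq]
        exact conj_eq_one_iff.1 h5
    have hnc : ¬ IsCyclic (T : Subgroup G) := by
      intro h
      have h1 : IsCyclic P := by rw [← hT]; exact h
      obtain ⟨ρ, hρ⟩ := h1.exists_generator
      have h2 : (ρ : G) * ρ = 1 := (mem_zeta.1 (by rw [hzP]; exact ρ.2)).2.1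
      have h3 : orderOf ρ = 4 := by rw [orderOf_eq_card_of_forall_mem_zpowers hρ, hs4]
      have h4 : ρ ^ 2 = 1 := Subtype.ext (by simpa [sq] using h2)
      have h5 := orderOf_dvd_of_pow_eq_one h4
      rw [h3] at h5
      omega
    have hnn : ¬ (T : Subgroup G).Normal := by
      rw [hT]
      intro h
      rcases h.eq_bot_or_eq_top with h | h
      · exact hPb h
      · apply hSE.1
        rw [h]
        exact normalizer_eq_top_iff.2 inferInstance
    obtain ⟨K, j1, j2, hK, hKe⟩ := ElemCent.psl_two T hnc hnn hC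
    rw [hT, hs4] at hK
    refine ⟨K, j1, j2, ?_, by rw [hK], hKe⟩
    obtain ⟨p, hchar⟩ := CharP.exists K
    obtain ⟨f, hp, hpf⟩ := FiniteField.card K p
    rw [hK] at hpf
    have hp2 : p ∣ 2 ^ 2 := by
      have : p ∣ p ^ (f : ℕ) := dvd_pow_self p f.pos.ne'
      rw [← hpf] at this
      simpa using this
    have := (Nat.prime_dvd_prime_iff_eq hp Nat.prime_two).1 (hp.dvd_of_dvd_pow hp2)
    subst this
    exact hchar

end ti

end Cfsg.Agent.Lib.CIT
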