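import Cfsg.Agent.Lib.H26SuzP

/-!
# The rank one set-up: the sharply 2-transitive group of degree 9
-/

set_option autoImplicit false
open MulAction

namespace Cfsg.Agent.Lib.H26SuzN

open Subgroup Cfsg.Agent.Lib.RankOne Cfsg.Agent.Lib.RankOneB Cfsg.Agent.Lib.RankOneC Cfsg.Agent.Lib.H26SuzKD
  Cfsg.Agent.Lib.H26SuzPP Cfsg.Agent.Lib.H26SuzInd Cfsg.Agent.Lib.H26SuzW

universe u v

variable {G : Type u} {Ω : Type v} [Group G] [Finite G] [MulAction G Ω] [FaithfulSMul G Ω] {a : Ω} {t : G} {Q : Subgroup G}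
  (hS : Cfsg.IsRankOneSetup G Ω a t Q)
  (h2 : ∃ x y : G, x ≠ 1 ∧ y ≠ 1 ∧ x ≠ y ∧ x * x = 1 ∧ y * y = 1 ∧ x * y = y * x)

include hS h2

theorem nine {v : G} (hv : v ∈ DD G a t) (hvt : v * t = t * v)
    (hV : ∀ d ∈ DD G a t, d * t = t * d → d ∈ zpowers v) (hKC : ∀ k ∈ Cfsg.invertedBy (DD G a t) t, v * k = k * v → k = 1)
    (hc : Nat.card ↥(Q ⊓ centralizer {v}) = 8) {s r : G} (hs : s ∈ Q) (hr : r ∈ Q) (hs1 : s ≠ 1) (hss : s * s = 1)
    (hst : t * s * t = r⁻¹ * t * r) : r * r = 1 := by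
  classical
  have htt := hS.mul_self
  have hsi : s ∈ Cfsg.involutionsIn (stabilizer G a : Set G) := ⟨hS.le hs, hs1, hss⟩
  obtain ⟨hvs, hvr⟩ := cent_r hS hsi hr hst hv hvt
  have hX : ∀ x ∈ ({v} : Set G), (x • a = a ∧ x • t • a = t • a) ∧ x * t = t * x := by
    rintro x rfl; exact ⟨⟨hv.1, hv.2⟩, hvt⟩
  have hS' := cent_setup hS hX
  set C := centralizer ({v} : Set G) with hC
  have htC : t ∈ C := mem_centralizer_singleton_iff.2 hvt.symm
  have hsC : s ∈ C := mem_centralizer_singleton_iff.2 hvs.symm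
  have hrC : r ∈ C := mem_centralizer_singleton_iff.2 hvr.symm
  have hvC : v ∈ C := mem_centralizer_singleton_iff.2 rfl
  have haF : a ∈ Fx Ω {v} := a_mem_Fx hS hX
  set D' := stabilizer C (⟨a, haF⟩ : Fx Ω {v}) ⊓ stabilizer C ((⟨t, htC⟩ : C) • (⟨a, haF⟩ : Fx Ω {v})) with hD'
  have hD'eq : D' = zpowers (⟨v, hvC⟩ : C) := by
    apply le_antisymm
    · intro d hd
      have hdD : (d : G) ∈ DD G a t := ⟨mem_stabilizer_iff.2 (congrArg Subtype.val (mem_stabilizer_iff.1 hd.1)),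
        mem_stabilizer_iff.2 (congrArg Subtype.val (mem_stabilizer_iff.1 hd.2))⟩
      have hdv := mem_centralizer_singleton_iff.1 d.2
      obtain ⟨p, ⟨hp1, hp2, hp3⟩, -⟩ := OddInv.exists_unique_mul t hS.mul_self (stabilizer G a ⊓ stabilizer G (t • a)) hS.odd_card
          (fun x hx => t_conj_D hS hx) d hdD
      have h1 : p.1 ∈ zpowers v := hV _ hp1.1 (mem_centralizer_singleton_iff.1 hp1.2)
      obtain ⟨i, hi⟩ := Subgroup.mem_zpowers_iff.1 h1
      have h3 : v * p.1 = p.1 * v := by rw [← hi]; exact ((Commute.refl v).zpow_right i).eq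
      have h4 : v * p.2 = p.2 * v := by
        have e : p.2 = p.1⁻¹ * d := by rw [hp3]; group
        have h5 : v * p.1⁻¹ = p.1⁻¹ * v := by
          rw [eq_inv_mul_iff_mul_eq, ← mul_assoc, ← h3, mul_inv_cancel_right]
        rw [e, ← mul_assoc, h5, mul_assoc, ← hdv, mul_assoc]
      have h5 := hKC _ hp2 h4
      refine Subgroup.mem_zpowers_iff.2 ⟨i, Subtype.ext ?_⟩
      show v ^ i = d
      rw [hp3, h5, mul_one, hi]
    · rw [zpowers_le]
      exact ⟨mem_stabilizer_iff.2 (Subtype.ext (hX v rfl).1.1), mem_stabilizer_iff.2 (Subtype.ext (hX v rfl).1.2)⟩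
  set N := H26SuzInd.ker C (Fx Ω {v}) with hN
  have hND : N = D' := by
    apply le_antisymm
    · exact ker_le hS'
    · rw [hD'eq, zpowers_le, hN, H26SuzInd.mem_ker]
      intro c
      exact Subtype.ext (c.2 v rfl)
  have hQC : Nat.card (Q.subgroupOf C) = 8 := by
    rw [← hc, ← Nat.card_congr (subgroupOfEquivOfLe (inf_le_right : Q ⊓ C ≤ C)).toEquiv, inf_subgroupOf_right]
  have hcard : Nat.card (C ⧸ N) = 72 := by
    have h1 := card_G hS'
    rw [hQC, ← hD', ← hND, Subgroup.card_eq_card_quotient_mul_card_subgroup N] at h1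
    have h3 : 0 < Nat.card N := Nat.card_pos
    have h4 : Nat.card (C ⧸ N) * Nat.card N = 72 * Nat.card N := by rw [h1]; ring
    exact Nat.eq_of_mul_eq_mul_right h3 h4
  obtain ⟨n, hn⟩ : ∃ n : C, n = ⟨t * s, C.mul_mem htC hsC⟩ := ⟨_, rfl⟩
  have hnG : (n : G) = t * s := by rw [hn]
  -- `r⁻¹ n r = n ^ 2`
  have hsr : s * r = r * s := EE_central hS h2 (Or.inr hsi) hr
  have hrn : r⁻¹ * (t * s) * r = (t * s) ^ 2 := by
    calc r⁻¹ * (t * s) * r = r⁻¹ * t * (s * r) := by group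
      _ = (r⁻¹ * t * r) * s := by rw [hsr]; group
      _ = _ := by rw [← hst, pow_two]; group
  obtain ⟨m, hm⟩ : ∃ m : G, m = t * s := ⟨_, rfl⟩
  rw [← hm] at hrn hnG
  have hpow : ∀ i : ℕ, (r ^ i)⁻¹ * m * r ^ i = m ^ 2 ^ i := by
    intro i
    induction i with
    | zero => simp
    | succ i ih =>
      have e : (r ^ (i + 1))⁻¹ * m * r ^ (i + 1) = r⁻¹ * ((r ^ i)⁻¹ * m * r ^ i) * r := by
        rw [pow_succ]; group
      rw [e, ih]
      have e2 : r⁻¹ * m ^ 2 ^ i * r = (r⁻¹ * m * r) ^ 2 ^ i := by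
        have := conj_pow (i := 2 ^ i) (a := r⁻¹) (b := m)
        rw [inv_inv] at this
        exact this.symm
      rw [e2, hrn, ← pow_mul, pow_succ']
  have hr8 : r ^ 8 = 1 := by
    have h1 : (⟨r, hr, hrC⟩ : ↥(Q ⊓ C)) ^ Nat.card ↥(Q ⊓ C) = 1 := pow_card_eq_one'
    rw [hc] at h1
    exact congrArg Subtype.val h1
  have hm255 : m ^ 255 = 1 := by
    have h1 := hpow 8
    rw [hr8, inv_one, one_mul, mul_one] at h1
    have h3 : m ^ 255 * m = m := by rw [← pow_succ]; exact h1.symm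
    exact mul_eq_right.1 h3
  have hm72 : n ^ 72 ∈ N := by
    rw [← QuotientGroup.eq_one_iff, QuotientGroup.mk_pow, ← hcard]
    exact pow_card_eq_one'
  have hm3 : m ^ 3 • a = a := by
    have h1 : n ^ 3 ∈ N := by
      have h3 : n ^ 3 = (n ^ 72) ^ 39 := by
        apply Subtype.ext
        show (n : G) ^ 3 = ((n : G) ^ 72) ^ 39
        rw [hnG, ← pow_mul]
        have e : 72 * 39 = 255 * 11 + 3 := by norm_num
        rw [e, pow_add, pow_mul, hm255, one_pow, one_mul]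
      rw [h3]; exact N.pow_mem hm72 39
    rw [hN, H26SuzInd.mem_ker] at h1
    have h3 : (n : G) ^ 3 • a = a := congrArg Subtype.val (h1 ⟨a, haF⟩)
    rwa [hnG] at h3
  have hm3' : (m ^ 3)⁻¹ • a = a := by rw [inv_smul_eq_iff, hm3]
  have hra : r • a = a := Q_fix hS hr
  have hsa : s • a = a := Q_fix hS hs
  have hsi' : s⁻¹ = s := by rw [inv_eq_iff_mul_eq_one]; exact hss
  have hti : t⁻¹ = t := t_inv hS
  by_contra hrr
  have hy1 : r * s ≠ 1 := by
    intro h
    apply hrr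
    have h1 : r = s := by rw [← hsi']; exact eq_inv_of_mul_eq_one_left h
    rw [h1, hss]
  apply ta_ne hS
  refine Q_free hS (Q.mul_mem hr hs) hy1 ?_
  -- `(r s) • t • a = t • a`
  have hta : t • a = m • a := by rw [hm, mul_smul, hsa]
  have hyinv : (r * s)⁻¹ • a = a := by rw [inv_smul_eq_iff, mul_smul, hsa, hra]
  have h1 : (r * s) * m = (m * (r * (m ^ 3)⁻¹ * r⁻¹)) * (r * s) := by
    have h3 : m = r * m ^ 2 * r⁻¹ := by rw [← hrn]; group
    have h4 : s * m = m⁻¹ * s := by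
      have : m⁻¹ = s * t := by rw [hm, mul_inv_rev, hsi', hti]
      rw [this, hm]; group
    have h5 : r * m⁻¹ = m * (r * (m ^ 3)⁻¹) := by
      have h6 : m * r = r * m ^ 2 := by nth_rw 1 [h3]; group
      calc r * m⁻¹ = r * m ^ 2 * (m ^ 3)⁻¹ := by group
        _ = _ := by rw [← h6]; group
    calc (r * s) * m = r * (s * m) := by group
      _ = (r * m⁻¹) * s := by rw [h4]; group
      _ = _ := by rw [h5]; group
  rw [hta, smul_smul, h1, mul_smul, mul_smul, mul_smul r s, hsa, hra, mul_smul, mul_smul]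
  have h3 : r⁻¹ • a = a := by rw [inv_smul_eq_iff, hra]
  rw [h3, hm3', hra]

end Cfsg.Agent.Lib.H26SuzN
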