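import Cfsg.Agent.Lib.SuzX10
import Cfsg.Agent.Lib.H26SuzN

set_option autoImplicit false
open MulAction

/-!
# `H26SuzP.Inputs` and `P(G)` (helper69)
-/

namespace Cfsg.Agent.Lib.SuzX9

open Subgroup Cfsg.Agent.Lib.RankOne Cfsg.Agent.Lib.RankOneB Cfsg.Agent.Lib.RankOneC Cfsg.Agent.Lib.H26SuzKD
  Cfsg.Agent.Lib.H26SuzPP Cfsg.Agent.Lib.H26SuzT Cfsg.Agent.Lib.H26SuzS1 Cfsg.Agent.Lib.H26SuzW Cfsg.Agent.Lib.H26SuzF
  Cfsg.Agent.Lib.H26SuzB2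

universe u v

variable {G : Type u} {Ω : Type v} [Group G] [Finite G] [MulAction G Ω] [FaithfulSMul G Ω] {a : Ω} {t : G} {Q : Subgroup G}
  (hS : Cfsg.IsRankOneSetup G Ω a t Q)
  (h2 : ∃ x y : G, x ≠ 1 ∧ y ≠ 1 ∧ x ≠ y ∧ x * x = 1 ∧ y * y = 1 ∧ x * y = y * x)

include h2 in
theorem inputs : H26SuzP.Inputs hS where
  odd := fun hp hv1 hvp hv hvt hV hKC hq => inputs_odd hS h2 hp hv1 hvp hv hvt hV hKC hq
  abel := fun hp hv1 hvp hv hvt hV hKC hq hcomm _ j hj => inputs_abel hS h2 hp hv1 hvp hv hvt hV hKC hq hcomm j hj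
  nine := fun _ _ _ hv hvt hV hKC hc _ _ hs _ hr hs1 hss hst => H26SuzN.nine hS h2 hv hvt hV hKC hc hs hr hs1 hss hst

theorem ih_all (n : ℕ) : IH.{u, v} n := by
  induction n with
  | zero =>
    intro G Ω _ _ _ _ a t Q _ _ h
    exact absurd h (Nat.not_lt_zero _)
  | succ n ih =>
    intro G Ω _ _ _ _ a t Q hS h2 h
    have hI : IH.{u, v} (Nat.card G) := by
      intro G' Ω' _ _ _ _ a' t' Q' hS' h2' h'
      exact ih G' Ω' a' t' Q' hS' h2' (lt_of_lt_of_le h' (Nat.le_of_lt_succ h))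
    exact H26SuzP.step hS h2 hI (inputs hS h2)

include hS h2 in
/-- **P(G)** -/
theorem PG : PP t Q := ih_all (Nat.card G + 1) G Ω a t Q hS h2 (Nat.lt_succ_self _)

end Cfsg.Agent.Lib.SuzX9
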