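import Cfsg.Agent.Lib.SUSMain
import Cfsg.Agent.Lib.SuzX11

set_option autoImplicit false

/-!
# Suzuki's theorem S1136 (helper24)
-/

namespace Cfsg.Agent.Lib.SUSFinal

open MulAction

universe u v

variable {G : Type u} {Ω : Type v} [Group G] [Finite G] [MulAction G Ω] [FaithfulSMul G Ω] {a : Ω} {t : G}
  {Q : Subgroup G}

theorem main (hS : Cfsg.IsRankOneSetup G Ω a t Q)
    (h2 : ∃ x y : G, x ≠ 1 ∧ y ≠ 1 ∧ x ≠ y ∧ x * x = 1 ∧ y * y = 1 ∧ x * y = y * x) : SUS10.Concl G :=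
  SUSMain.concl_of_PP hS h2 (Cfsg.Agent.Lib.SuzX9.PG hS h2)

end Cfsg.Agent.Lib.SUSFinal
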