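import Cfsg.Agent.Lib.SUZcor
import Cfsg.Agent.Lib.SUSFinal

set_option autoImplicit false

/-!
# Suzuki's theorem S1136 for simple groups, with `IsoSuzuki` (helper24)
-/

namespace Cfsg.Agent.Lib.SUZcor2

open MulAction Cfsg.Agent.Lib.SUS10

universe u

theorem iso_of_concl {G : Type u} [Group G] [Finite G] [hs : IsSimpleGroup G] (heven : Even (Nat.card G))
    (h : Concl G) :
    (∃ (F : Type) (_ : Field F) (_ : Fintype F), (∃ n : ℕ, 2 ≤ n ∧ Fintype.card F = 2 ^ n) ∧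
      Nonempty (G ≃* Matrix.ProjectiveSpecialLinearGroup (Fin 2) F)) ∨
    Cfsg.Lie.IsoSuzuki G ∨
    (∃ (F : Type) (_ : Field F) (_ : Fintype F) (n : ℕ), 2 ≤ n ∧ Fintype.card F = (2 ^ n) ^ 2 ∧
      Nonempty (G ≃* Cfsg.PSU 3 F (2 ^ n))) := by
  obtain ⟨L, hn, ho, h⟩ := h
  have hL : L = ⊤ := by
    rcases hn.eq_bot_or_eq_top with h1 | h1
    · rw [h1, Subgroup.index_bot] at ho
      exact absurd heven (Nat.not_even_iff_odd.2 ho)
    · exact h1
  subst hL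
  let e : G ≃* (⊤ : Subgroup G) := Subgroup.topEquiv.symm
  rcases h with ⟨F, i1, i2, h1, ⟨f⟩⟩ | h | ⟨F, i1, i2, n, h1, h2, ⟨f⟩⟩
  · exact Or.inl ⟨F, i1, i2, h1, ⟨e.trans f⟩⟩
  · right; left
    obtain ⟨F, i1, i2, m, hm, hF, ⟨f⟩⟩ := SuzukiLie.isoSuzuki_iff.1 h
    exact SuzukiLie.isoSuzuki_iff.2 ⟨F, i1, i2, m, hm, hF, ⟨e.trans f⟩⟩
  · exact Or.inr (Or.inr ⟨F, i1, i2, n, h1, h2, ⟨e.trans f⟩⟩)

/-- **Suzuki's theorem for simple groups**: a simple group with a subgroup `H` of even order, `H ∩ H^t` of odd order for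
the involutions `t ∉ H`, and a normal subgroup `Q` of `H` regular on the cosets outside `H` -/
theorem main {G : Type u} [Group G] [Finite G] [hs : IsSimpleGroup G] {H Q : Subgroup G} (hH : H ≠ ⊤)
    (heven : Even (Nat.card H))
    (hodd : ∀ t : G, t * t = 1 → t ∉ H → Odd (Nat.card ↥(H ⊓ H.map (MulAut.conj t).toMonoidHom)))
    (hQH : Q ≤ H) (hQn : ∀ h ∈ H, ∀ x ∈ Q, h * x * h⁻¹ ∈ Q)
    (htrans : ∀ t g : G, t ∉ H → g ∉ H → ∃ u ∈ Q, (u * t)⁻¹ * g ∈ H)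
    (hreg : ∀ t : G, t ∉ H → ∀ x ∈ Q, t⁻¹ * x * t ∈ H → x = 1) :
    (∃ (F : Type) (_ : Field F) (_ : Fintype F), (∃ n : ℕ, 2 ≤ n ∧ Fintype.card F = 2 ^ n) ∧
      Nonempty (G ≃* Matrix.ProjectiveSpecialLinearGroup (Fin 2) F)) ∨
    Cfsg.Lie.IsoSuzuki G ∨
    (∃ (F : Type) (_ : Field F) (_ : Fintype F) (n : ℕ), 2 ≤ n ∧ Fintype.card F = (2 ^ n) ^ 2 ∧
      Nonempty (G ≃* Cfsg.PSU 3 F (2 ^ n))) := by
  obtain ⟨t, htt, htH⟩ := SUZcor.exists_invol hH heven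
  have hS := SUZcor.setup htt htH hQH hQn (fun g hg => htrans t g htH hg) (fun x hx => hreg t htH x hx)
    (hodd t htt htH) heven
  have hf : FaithfulSMul G (G ⧸ H) := by
    have h1 : H.normalCore = ⊥ := by
      rcases (inferInstance : H.normalCore.Normal).eq_bot_or_eq_top with h | h
      · exact h
      · exact absurd (top_le_iff.1 (h ▸ H.normalCore_le)) hH
    constructor
    intro g g' h
    have h2 : g⁻¹ * g' ∈ H.normalCore := by
      rw [Subgroup.normalCore_eq_ker, MonoidHom.mem_ker]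
      ext x
      show (g⁻¹ * g') • x = x
      rw [mul_smul, ← h x, inv_smul_smul]
    rw [h1, Subgroup.mem_bot] at h2
    exact (inv_mul_eq_one.1 h2)
  exact iso_of_concl (even_iff_two_dvd.2 (heven.two_dvd.trans (Subgroup.card_subgroup_dvd_card H)))
    (SUSFinal.main hS (SUZcor.two_comm hH heven))

end Cfsg.Agent.Lib.SUZcor2
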