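import Cfsg.Agent.Lib.CITStr4
import Cfsg.Agent.Lib.SUZcor2
import Cfsg.Agent.Lib.SylU3

set_option autoImplicit false
set_option linter.all false

/-!
# Simple CIT-groups with TI Sylow 2-subgroups: the Suzuki groups up to isomorphism (helper6)
-/

namespace Cfsg.Agent.Lib.CIT

open Subgroup SylowRel StrongEmbPt

variable {G : Type*} [Group G] [Finite G]

theorem not_three_dvd_suzuki (h : Cfsg.IsSuzuki G) : ¬ 3 ∣ Nat.card G := by
  obtain ⟨-, m, -, hc⟩ := h
  rw [hc]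
  have h4 : (2 ^ (2 * m + 1)) % 3 = 2 := by
    rw [pow_succ, pow_mul, Nat.mul_mod, Nat.pow_mod]
    norm_num
  set q := 2 ^ (2 * m + 1) with hq
  obtain ⟨k, hk⟩ : ∃ k, q = 3 * k + 2 := ⟨q / 3, by omega⟩
  rw [hk]
  have h1 : 3 * k + 2 - 1 = 3 * k + 1 := by omega
  rw [h1]
  intro h2
  have h3 : (3 * k + 2) ^ 2 * ((3 * k + 2) ^ 2 + 1) * (3 * k + 1) =
      3 * (81 * k ^ 5 + 243 * k ^ 4 + 297 * k ^ 3 + 183 * k ^ 2 + 56 * k + 6) + 2 := by ring
  rw [h3] at h2
  omega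

theorem three_dvd_psl {F : Type*} [Field F] [Fintype F] {n : ℕ} (hF : Fintype.card F = 2 ^ n) :
    3 ∣ Nat.card (Matrix.ProjectiveSpecialLinearGroup (Fin 2) F) := by
  have h1 := ClSLn.card_PSL_formula (F := F) hF 2 (by norm_num)
  set c := Nat.card (Matrix.ProjectiveSpecialLinearGroup (Fin 2) F) with hc
  have hn : n ≠ 0 := by
    rintro rfl
    have h : 1 < Fintype.card F := Fintype.one_lt_card
    rw [hF, pow_zero] at h; omega
  have hq1 : 1 < 2 ^ n := Nat.one_lt_two_pow hn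
  have h3 : (2 ^ n) % 3 = 1 ∨ (2 ^ n) % 3 = 2 := by
    have : ¬ 3 ∣ 2 ^ n := fun h => by
      have := (Nat.prime_three.dvd_of_dvd_pow h)
      omega
    omega
  have hev : Even (2 ^ n) := (Nat.even_pow' hn).2 (by decide)
  set q := 2 ^ n with hq
  have hg : Nat.gcd 2 (q - 1) = 1 := by
    have : Odd (q - 1) := Nat.Even.sub_odd hq1.le hev odd_one
    exact (Nat.coprime_two_left.2 this)
  rw [hg, one_mul] at h1
  norm_num [Finset.prod_range_succ] at h1
  obtain ⟨r, hr⟩ : ∃ r, q = r + 1 := ⟨q - 1, by omega⟩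
  rw [hr] at h1 h3
  have h4 : r + 1 - 1 = r := by omega
  have h5 : (r + 1) ^ 2 - 1 = r * (r + 2) := by
    have : (r + 1) ^ 2 = r * (r + 2) + 1 := by ring
    omega
  rw [h4, h5] at h1
  have hr0 : 0 < r := by omega
  have h6 : c = (r + 1) * (r * (r + 2)) := by
    apply Nat.eq_of_mul_eq_mul_left hr0
    rw [h1]; ring
  rw [h6]
  rcases h3 with h3 | h3
  · exact Dvd.dvd.mul_left (Dvd.dvd.mul_right (by omega) _) _
  · exact Dvd.dvd.mul_left (Dvd.dvd.mul_left (by omega) _) _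

theorem three_dvd_psu {F : Type*} [Field F] [Fintype F] {n : ℕ} (hF : Fintype.card F = (2 ^ n) ^ 2) :
    3 ∣ Nat.card (Cfsg.PSU 3 F (2 ^ n)) := by
  have h1 := SylU3.card_PSU_three (q := 2 ^ n) hF
  set c := Nat.card (Cfsg.PSU 3 F (2 ^ n)) with hc
  have h3 : (2 ^ n) % 3 = 1 ∨ (2 ^ n) % 3 = 2 := by
    have : ¬ 3 ∣ 2 ^ n := fun h => by
      have := (Nat.prime_three.dvd_of_dvd_pow h)
      omega
    omega
  set q := 2 ^ n with hq
  rcases h3 with h3 | h3
  · have hg : Nat.gcd 3 (q + 1) = 1 := by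
      rcases (Nat.dvd_prime Nat.prime_three).1 (Nat.gcd_dvd_left 3 (q + 1)) with h | h
      · exact h
      · have := Nat.gcd_dvd_right 3 (q + 1)
        rw [h] at this
        omega
    rw [hg, one_mul] at h1
    rw [h1]
    apply Dvd.dvd.mul_left
    apply Dvd.dvd.mul_right
    obtain ⟨k, hk⟩ : ∃ k, q = 3 * k + 1 := ⟨q / 3, by omega⟩
    rw [hk]
    have : (3 * k + 1) ^ 2 - 1 = 3 * (3 * k ^ 2 + 2 * k) := by
      have : (3 * k + 1) ^ 2 = 3 * (3 * k ^ 2 + 2 * k) + 1 := by ring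
      omega
    rw [this]
    exact dvd_mul_right _ _
  · have hg : Nat.gcd 3 (q + 1) = 3 := Nat.gcd_eq_left (by omega)
    rw [hg] at h1
    obtain ⟨k, hk⟩ : ∃ k, q = 3 * k + 2 := ⟨q / 3, by omega⟩
    rw [hk] at h1
    have h5 : (3 * k + 2) ^ 2 - 1 = 3 * (3 * k ^ 2 + 4 * k + 1) := by
      have : (3 * k + 2) ^ 2 = 3 * (3 * k ^ 2 + 4 * k + 1) + 1 := by ring
      omega
    have h6 : (3 * k + 2) ^ 3 + 1 = 3 * (9 * k ^ 3 + 18 * k ^ 2 + 12 * k + 3) := by ring
    rw [h5, h6] at h1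
    have h7 : c = 3 * ((3 * k + 2) ^ 3 * ((3 * k ^ 2 + 4 * k + 1) * (9 * k ^ 3 + 18 * k ^ 2 + 12 * k + 3))) := by
      apply Nat.eq_of_mul_eq_mul_left (show 0 < 3 by norm_num)
      rw [h1]; ring
    rw [h7]
    exact dvd_mul_right _ _

/-- simple CIT-groups with TI Sylow 2-subgroups, up to isomorphism -/
theorem ti_suz [IsSimpleGroup G] (hna : ¬ ∀ a b : G, a * b = b * a) (hG : IsCIT G) (hTI : TI2 G) :
    (∃ (F : Type) (_ : Field F) (_ : Fintype F), CharP F 2 ∧ 4 ≤ Fintype.card F ∧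
      Nonempty (G ≃* Matrix.ProjectiveSpecialLinearGroup (Fin 2) F)) ∨ Cfsg.Lie.IsoSuzuki G := by
  haveI : Fact (Nat.Prime 2) := ⟨Nat.prime_two⟩
  rcases ti_main hna hG hTI with h | hsuz
  · exact Or.inl h
  right
  have h3 := not_three_dvd_suzuki hsuz
  have hns := not_solvable_of_simple hna
  obtain ⟨P, n, hP, hPb, hn1, hSE, hz⟩ := hG.zdata_of_ti hns (pCore_bot_of_simple hna) hTI
  have hPM : P ≤ NN P := le_normalizer
  have hev : Even (Nat.card (NN P)) := hSE.2.1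
  have hodd : ∀ t : G, t * t = 1 → t ∉ NN P → Odd (Nat.card ↥(NN P ⊓ (NN P).map (MulAut.conj t).toMonoidHom)) :=
    fun t _ ht => hSE.2.2 t ht
  have hQn : ∀ h ∈ NN P, ∀ x ∈ P, h * x * h⁻¹ ∈ P := fun h hh x hx => (mem_normalizer_iff.1 hh x).1 hx
  have htr : ∀ t g : G, t ∉ NN P → g ∉ NN P → ∃ u ∈ P, (u * t)⁻¹ * g ∈ NN P := by
    intro t g ht hg
    obtain ⟨u, hu, h⟩ := hz.reg 1 (QuotientGroup.mk t) (QuotientGroup.mk g)
      (by rw [Ne, QuotientGroup.eq]; intro h; apply ht; simpa using (NN P).inv_mem h)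
      (by rw [Ne, QuotientGroup.eq]; intro h; apply hg; simpa using (NN P).inv_mem h)
    have h1 : u ∈ P := by
      rw [mem_cj] at hu
      simpa using hu
    exact ⟨u, h1, QuotientGroup.eq.1 h⟩
  have hreg : ∀ t : G, t ∉ NN P → ∀ x ∈ P, t⁻¹ * x * t ∈ NN P → x = 1 := by
    intro t ht x hx h
    have h1 : x ∈ (NN P ⊓ (NN P).map (MulAut.conj t).toMonoidHom : Subgroup G) := by
      refine ⟨hPM hx, t⁻¹ * x * t, h, ?_⟩
      show t * (t⁻¹ * x * t) * t⁻¹ = x
      group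
    have h2 := odd_orderOf (hSE.2.2 t ht) h1
    obtain ⟨k, hk⟩ := (IsPGroup.iff_orderOf.1 hP.isPGroup) ⟨x, hx⟩
    have hk' : orderOf x = 2 ^ k := by rw [← hk, Subgroup.orderOf_mk]
    rw [hk'] at h2
    have hk0 : k = 0 := by
      by_contra h0
      exact (Nat.not_odd_iff_even.2 ((Nat.even_pow' h0).2 even_two)) h2
    rw [hk0, pow_zero] at hk'
    exact orderOf_eq_one_iff.1 hk'
  rcases SUZcor2.main (G := G) (H := NN P) (Q := P) hSE.1 hev hodd hPM hQn htr hreg with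
    ⟨F, i1, i2, ⟨m, hm, hF⟩, ⟨e⟩⟩ | h | ⟨F, i1, i2, m, hm, hF, ⟨e⟩⟩
  · exfalso; apply h3
    rw [Nat.card_congr e.toEquiv]
    exact three_dvd_psl hF
  · exact h
  · exfalso; apply h3
    rw [Nat.card_congr e.toEquiv]
    exact three_dvd_psu hF

/-- **simple CIT-groups, up to isomorphism** -/
theorem main_iso [IsSimpleGroup G] (hna : ¬ ∀ a b : G, a * b = b * a) (hG : IsCIT G) :
    (∃ (F : Type) (_ : Field F) (_ : Fintype F),
        (Fintype.card F = 9 ∨ (∃ n : ℕ, Fintype.card F = 2 ^ n) ∨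
          ((Fintype.card F).Prime ∧ ∃ k : ℕ, Fintype.card F = 2 ^ k + 1 ∨ Fintype.card F + 1 = 2 ^ k)) ∧
        Nonempty (G ≃* Matrix.ProjectiveSpecialLinearGroup (Fin 2) F)) ∨
    (∃ (F : Type) (_ : Field F) (_ : Fintype F), Fintype.card F = 4 ∧
        Nonempty (G ≃* Matrix.ProjectiveSpecialLinearGroup (Fin 3) F)) ∨
    Cfsg.Lie.IsoSuzuki G := by
  by_cases hTI : TI2 G
  · rcases ti_suz hna hG hTI with ⟨F, i1, i2, hch, h4, he⟩ | h
    · left
      obtain ⟨p, hchar⟩ := CharP.exists F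
      obtain ⟨f, hp, hpf⟩ := FiniteField.card F p
      have hp2 : p = 2 := CharP.eq F hchar hch
      subst hp2
      exact ⟨F, i1, i2, Or.inr (Or.inl ⟨_, hpf⟩), he⟩
    · exact Or.inr (Or.inr h)
  · have hna' : ¬ IsMulCommutative G := fun h => hna (fun a b => mul_comm' a b)
    have hP := p2_all hG
    obtain ⟨A, B, T, e⟩ := exists_edge hG hP (pCore_bot_of_simple hna) hTI
    by_cases h1 : ∃ (A B T : Subgroup G), NatEdge A B T 1
    · obtain ⟨A, B, T, N⟩ := h1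
      obtain ⟨F, i1, i2, ho, ⟨h⟩⟩ := N.psl2 hna' hG
      refine Or.inl ⟨F, i1, i2, ?_, ⟨h⟩⟩
      rcases psl2_restrict ho (hG.equiv h) with h | h
      · exact Or.inl h
      · exact Or.inr (Or.inr h)
    · push Not at h1
      have h3 : ∀ (A B T : Subgroup G) (n : ℕ), NatEdge A B T n → n = 3 := by
        intro A B T n N
        rcases N.n_eq hG hP with rfl | h
        · exact absurd N (h1 A B T)
        · exact h
      obtain ⟨n, N⟩ := e.natural hG hP
      obtain rfl := h3 _ _ _ _ N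
      right; left
      have hS := N.isSyl hna' hG hP h3
      have hF : Nat.card (GaloisField 2 2) = 4 := by
        rw [GaloisField.card 2 2 (by norm_num)]; norm_num
      haveI : Fintype (GaloisField 2 2) := Fintype.ofFinite _
      refine ⟨GaloisField 2 2, inferInstance, inferInstance, ?_, ?_⟩
      · rw [← Nat.card_eq_fintype_card, hF]
      · exact Pln.iso (⟨hG, hP, N, hS⟩ : Pln A B T) hF

end Cfsg.Agent.Lib.CIT
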