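import Cfsg.Agent.Lib.CITEdge

/-!
# CIT-groups (helper6): critical distance one
-/

set_option autoImplicit false
set_option linter.all false

namespace Cfsg.Agent.Lib.CIT

open Subgroup SylowRel StrongEmbPt
open scoped commutatorElement

section walk

variable {G : Type*} [Group G] [Finite G]

theorem cj_commutator {G : Type*} [Group G] (g : G) (A B : Subgroup G) :
    cj g ⁅A, B⁆ = ⁅cj g A, cj g B⁆ := Subgroup.map_commutator _ _ _

theorem comm_le_self {G : Type*} [Group G] (A : Subgroup G) : ⁅A, A⁆ ≤ A := by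
  rw [commutator_le]
  intro a ha b hb
  rw [commutatorElement_def]
  exact mul_mem (mul_mem (mul_mem ha hb) (inv_mem ha)) (inv_mem hb)

theorem eq_top_of_comm_sup {A D : Subgroup G} (hA : IsPGroup 2 A) (hDA : D ≤ A)
    (hn : A ≤ NN D) (h : A ≤ ⁅A, A⁆ ⊔ D) : A ≤ D := by
  haveI : Fact (Nat.Prime 2) := ⟨Nat.prime_two⟩
  have hN : (D.subgroupOf A).Normal := SubgroupTools.normal_subgroupOf_iff_le_normalizer' hn
  by_contra hne
  set Q := A ⧸ D.subgroupOf A with hQ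
  have hQp : IsPGroup 2 Q := hA.to_quotient _
  have hQs : Group.IsNilpotent Q := hQp.isNilpotent
  have hQs' : Group.IsSolvable Q := inferInstance
  have hnt : Nontrivial Q := by
    obtain ⟨a, ha, had⟩ := SetLike.not_le_iff_exists.1 hne
    refine ⟨⟨QuotientGroup.mk' (D.subgroupOf A) ⟨a, ha⟩, 1, fun h1 => had ?_⟩⟩
    exact (QuotientGroup.eq_one_iff (N := D.subgroupOf A) (⟨a, ha⟩ : A)).1 h1
  have h1 := Group.IsSolvable.commutator_lt_top_of_nontrivial Q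
  apply h1.ne
  rw [eq_top_iff]
  intro x _
  obtain ⟨⟨a, ha⟩, rfl⟩ := QuotientGroup.mk'_surjective _ x
  -- write a = c d
  have h2 := h ha
  have h3 : A ≤ NN ⁅A, A⁆ := by
    intro g hg
    rw [mem_normalizer_iff_cj, cj_commutator, cj_eq_of_mem hg]
  obtain ⟨c, hc, d, hd, hcd⟩ := (SubgroupTools.mem_sup_of_le_normalizer (N := ⁅A, A⁆) (H := D)
    (hDA.trans h3)).1 h2
  have hcA : c ∈ A := comm_le_self A hc
  have h5 : QuotientGroup.mk' (D.subgroupOf A) ⟨a, ha⟩ = QuotientGroup.mk' (D.subgroupOf A) ⟨c, hcA⟩ := by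
    rw [eq_comm]
    apply QuotientGroup.eq.2
    change c⁻¹ * a ∈ D
    rw [← hcd, inv_mul_cancel_left]; exact hd
  rw [h5]
  have h6 : (⟨c, hcA⟩ : A) ∈ commutator A := by
    have h7 : (commutator A).map A.subtype = ⁅A, A⁆ := by
      rw [_root_.commutator_def, Subgroup.map_commutator, ← MonoidHom.range_eq_map, A.range_subtype]
    rw [← h7] at hc
    obtain ⟨z, hz, hzc⟩ := hc
    have : z = ⟨c, hcA⟩ := Subtype.ext hzc
    rw [← this]; exact hz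
  have h8 : (commutator A).map (QuotientGroup.mk' (D.subgroupOf A)) ≤ commutator Q := by
    rw [_root_.commutator_def, _root_.commutator_def, Subgroup.map_commutator]
    exact commutator_mono le_top le_top
  exact h8 ⟨_, h6, rfl⟩

/-- case (ii) -/
theorem caseii (hG : IsCIT G) {A0 A1 T1 Ab Tb : Subgroup G} {n : ℕ}
    (e : Edge A0 A1 T1) (hc : Crit A0 T1 Ab Tb n) (hZb : zeta Ab ≤ A1) {g : G} (hg : g ∈ NN A0)
    (hgT : cj g T1 ≠ T1) (hle : zeta (cj g A1) ≤ Tb) (hAbTb : Ab ≤ Tb) (hTb : Tb ≤ NN Ab) : False := by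
  classical
  haveI : Fact (Nat.Prime 2) := ⟨Nat.prime_two⟩
  set A' := cj g A1 with hA'
  set T' := cj g T1 with hT'
  have e' : Edge A0 A' T' := by
    have := e.conj g
    rwa [mem_normalizer_iff_cj.1 hg] at this
  have hT1N := e.sylA.le
  have hZbT1 : zeta Ab ≤ T1 := hZb.trans (e.locB.le_syl e.sylB)
  have hA0T' := e'.locA.le_syl e'.sylA
  have hA'T' := e'.locB.le_syl e'.sylB
  have hA0p := e.locA.isPGroup
  -- (a)
  have hcomm : ∀ x ∈ zeta A', ∀ y ∈ zeta Ab, ∃ z ∈ zeta A0, y * x * y⁻¹ = x * z := by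
    intro x hx y hy
    have hx1 := hle hx
    rw [← hc.supb] at hx1
    obtain ⟨a, ha, z, hz, rfl⟩ := (SubgroupTools.mem_sup_of_le_normalizer (N := Ab) (H := zeta A0)
      ((le_sup_right.trans hc.supb.le).trans hTb)).1 hx1
    have hyz : y * z * y⁻¹ ∈ zeta A0 := zeta_conj (hT1N (hZbT1 hy)) hz
    refine ⟨z⁻¹ * (y * z * y⁻¹), mul_mem (inv_mem hz) hyz, ?_⟩
    have h1 := Loc.zeta_le_Z hy ha
    calc y * (a * z) * y⁻¹ = (y * a) * (z * y⁻¹) := by group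
      _ = (a * y) * (z * y⁻¹) := by rw [h1]
      _ = a * z * (z⁻¹ * (y * z * y⁻¹)) := by group
  set D := A0 ⊓ A' with hD
  have hDA0 : D ≤ A0 := inf_le_left
  have hA0D : A0 ≤ NN D := by
    intro x hx
    rw [mem_normalizer_iff_cj, cj_inf, cj_eq_of_mem hx,
      mem_normalizer_iff_cj.1 (e'.sylB.le (hA0T' hx))]
  have hZbD : zeta Ab ≤ NN D := by
    have key : ∀ y ∈ zeta Ab, ∀ d ∈ D, y * d * y⁻¹ ∈ D := by
      intro y hy d hd
      have hyN := hT1N (hZbT1 hy)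
      have h1 : y * d * y⁻¹ ∈ A0 := (mem_normalizer_iff.1 hyN d).1 hd.1
      refine mem_inf.2 ⟨h1, e'.locB.mem_of_cent hG (e'.sylB.le (hA0T' h1)) ?_⟩
      intro z hz
      obtain ⟨w, hw, hzw⟩ := hcomm z hz y⁻¹ (inv_mem hy)
      rw [inv_inv] at hzw
      have h2 := Loc.zeta_le_Z hz hd.2
      have h3 := Loc.zeta_le_Z hw hd.1
      have h4 : d * (y⁻¹ * z * y) = (y⁻¹ * z * y) * d := by
        rw [hzw]
        calc d * (z * w) = (d * z) * w := by group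
          _ = z * (d * w) := by rw [← h2]; group
          _ = z * w * d := by rw [← h3]; group
      calc y * d * y⁻¹ * z = y * (d * (y⁻¹ * z * y)) * y⁻¹ := by group
        _ = y * ((y⁻¹ * z * y) * d) * y⁻¹ := by rw [h4]
        _ = z * (y * d * y⁻¹) := by group
    intro y hy
    rw [mem_normalizer_iff]
    intro d
    refine ⟨key y hy d, fun h => ?_⟩
    have := key y⁻¹ (inv_mem hy) _ h
    have h5 : y⁻¹ * (y * d * y⁻¹) * y⁻¹⁻¹ = d := by group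
    rwa [h5] at this
  have hT1D : T1 ≤ NN D := by rw [← hc.sup0]; exact sup_le hA0D hZbD
  have hT'D : T' ≤ NN D := by
    intro x hx
    rw [mem_normalizer_iff_cj, cj_inf, mem_normalizer_iff_cj.1 (e'.sylA.le hx),
      mem_normalizer_iff_cj.1 (e'.sylB.le hx)]
  set F := ⁅A0, A0⁆ ⊔ D with hF
  have hFA0 : F ≤ A0 := sup_le (comm_le_self A0) hDA0
  have hFn : NN A0 ⊓ NN D ≤ NN F := by
    intro x hx
    rw [mem_normalizer_iff_cj, hF, cj_sup, mem_normalizer_iff_cj.1 hx.2, cj_commutator,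
      mem_normalizer_iff_cj.1 hx.1]
  have hA0F : A0 ≤ NN F := (le_inf le_normalizer hA0D).trans hFn
  let Q : Subgroup G :=
    { carrier := {t | t ∈ NN A0 ∧ t ∈ NN D ∧ ∀ a ∈ A0, a⁻¹ * (t * a * t⁻¹) ∈ F}
      one_mem' := ⟨one_mem _, one_mem _, fun a _ => by simp [F.one_mem]⟩
      mul_mem' := by
        rintro t s ⟨ht1, ht2, ht3⟩ ⟨hs1, hs2, hs3⟩
        refine ⟨mul_mem ht1 hs1, mul_mem ht2 hs2, fun a ha => ?_⟩
        have h1 := hs3 a ha
        have hb : s * a * s⁻¹ ∈ A0 := (mem_normalizer_iff.1 hs1 a).1 ha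
        have h2 := ht3 _ hb
        have h3 : a⁻¹ * (t * s * a * (t * s)⁻¹) =
            (a⁻¹ * (s * a * s⁻¹)) * ((s * a * s⁻¹)⁻¹ * (t * (s * a * s⁻¹) * t⁻¹)) := by group
        rw [h3]; exact mul_mem h1 h2
      inv_mem' := by
        rintro t ⟨ht1, ht2, ht3⟩
        refine ⟨inv_mem ht1, inv_mem ht2, fun a ha => ?_⟩
        have hb : t⁻¹ * a * t⁻¹⁻¹ ∈ A0 := (mem_normalizer_iff.1 (inv_mem ht1) a).1 ha
        have h2 := ht3 _ hb
        have h3 : a⁻¹ * (t⁻¹ * a * t⁻¹⁻¹) =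
            ((t⁻¹ * a * t⁻¹⁻¹)⁻¹ * (t * (t⁻¹ * a * t⁻¹⁻¹) * t⁻¹))⁻¹ := by group
        rw [h3]; exact inv_mem h2 }
  have hQA0 : A0 ≤ Q := by
    intro x hx
    refine ⟨le_normalizer hx, hA0D hx, fun a ha => mem_sup_left ?_⟩
    have : a⁻¹ * (x * a * x⁻¹) = ⁅a⁻¹, x⁆ := by rw [commutatorElement_def]; group
    rw [this]
    exact commutator_mem_commutator (inv_mem ha) hx
  have hQA' : A' ≤ Q := by
    intro x hx
    refine ⟨e'.sylA.le (hA'T' hx), hT'D (hA'T' hx), fun a ha => mem_sup_right ?_⟩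
    refine mem_inf.2 ⟨mul_mem (inv_mem ha) ((mem_normalizer_iff.1 (e'.sylA.le (hA'T' hx)) a).1 ha), ?_⟩
    have : a⁻¹ * (x * a * x⁻¹) = (a⁻¹ * x * a⁻¹⁻¹) * x⁻¹ := by group
    rw [this]
    exact mul_mem ((mem_normalizer_iff.1 (e'.sylB.le (hA0T' (inv_mem ha))) x).1 hx) (inv_mem hx)
  have hT'sup : T' ≤ A0 ⊔ A' := by
    have h1 : T1 ≤ A0 ⊔ A1 := by rw [← hc.sup0]; exact sup_le_sup_left hZb _
    have h2 := cj_mono (g := g) h1
    rwa [cj_sup, mem_normalizer_iff_cj.1 hg] at h2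
  have hQT' : T' ≤ Q := hT'sup.trans (sup_le hQA0 hQA')
  set R := T1 ⊔ T' with hR
  have hRN : R ≤ NN A0 := sup_le hT1N e'.sylA.le
  have hRD : R ≤ NN D := sup_le hT1D hT'D
  have hsyl1 : IsSyl 2 T1 R := e.sylA.mono le_sup_left hRN
  have hsyl2 : IsSyl 2 T' R := e'.sylA.mono le_sup_right hRN
  obtain ⟨r, hr, hrT⟩ := hsyl2.exists_cj_eq hsyl1
  have hQT1 : T1 ≤ Q := by
    intro t ht
    rw [← hrT, mem_cj] at ht
    obtain ⟨-, -, h3⟩ := hQT' ht
    refine ⟨hT1N (by rw [← hrT, mem_cj]; exact ht), hT1D (by rw [← hrT, mem_cj]; exact ht), fun a ha => ?_⟩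
    have hra : r⁻¹ * a * r⁻¹⁻¹ ∈ A0 := (mem_normalizer_iff.1 (inv_mem (hRN hr)) a).1 ha
    have h4 := h3 _ hra
    have h5 := (mem_normalizer_iff.1 (hFn ⟨hRN hr, hRD hr⟩) _).1 h4
    have h6 : r * ((r⁻¹ * a * r⁻¹⁻¹)⁻¹ * (r⁻¹ * t * r * (r⁻¹ * a * r⁻¹⁻¹) * (r⁻¹ * t * r)⁻¹)) * r⁻¹ =
      a⁻¹ * (t * a * t⁻¹) := by group
    rwa [h6] at h5
  have hQR : R ≤ Q := sup_le hQT1 hQT'
  have hRnot : ¬ IsPGroup 2 R := by
    intro h
    have h1 := hsyl1.eq_of_le h le_sup_left le_rfl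
    have h2 := hsyl2.eq_of_le h le_sup_right le_rfl
    exact hgT (h2.symm.trans h1)
  obtain ⟨y, hy, hy1, hyo⟩ := exists_odd_of_not hRnot
  have hA0F' : A0 ≤ F := by
    intro a ha
    exact hG.mem_of_fixed_coset hA0p hFA0 hyo hy1 (hFn ⟨hRN hy, hRD hy⟩) ha ((hQR hy).2.2 a ha)
  have hA0D' := eq_top_of_comm_sup hA0p hDA0 hA0D hA0F'
  have hA0A' : A0 ≤ A' := hA0D'.trans inf_le_right
  have hA0A1 : A0 ≤ A1 := by
    have h1 : cj g A0 ≤ cj g A1 := by rw [mem_normalizer_iff_cj.1 hg]; exact hA0A'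
    exact cj_le_cj_iff.1 h1
  have hT1A1 : T1 ≤ A1 := by rw [← hc.sup0]; exact sup_le hA0A1 hZb
  exact e.locB.ne_syl e.sylB (le_antisymm (e.locB.le_syl e.sylB) hT1A1)

/-- two different Sylow subgroups have different `ζ` -/
theorem zeta_ne_of_ne (hG : IsCIT G) {A T T' : Subgroup G} (h : Loc A) (hT : IsSyl 2 T (NN A))
    (hT' : IsSyl 2 T' (NN A)) (hz : zeta T = zeta T') : T = T' := by
  obtain ⟨w, hw, hw1⟩ := exists_mem_ne_one (zeta_ne_bot hT.isPGroup (by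
    rintro h1
    have := h.le_syl hT
    rw [h1, le_bot_iff] at this
    exact h.ne this))
  have h1 : IsPGroup 2 (NN A ⊓ centralizer ({w} : Set G) : Subgroup G) :=
    (hG.cent_of_mem hT.isPGroup (zeta_le T hw) hw1).to_le inf_le_right
  have h2 : T ≤ NN A ⊓ centralizer ({w} : Set G) :=
    le_inf hT.le (fun x hx => mem_cent.2 ((mem_zeta.1 hw).2.2 x hx).symm)
  rw [hz] at hw
  have h3 : T' ≤ NN A ⊓ centralizer ({w} : Set G) :=
    le_inf hT'.le (fun x hx => mem_cent.2 ((mem_zeta.1 hw).2.2 x hx).symm)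
  rw [← hT.eq_of_le h1 h2 inf_le_left, ← hT'.eq_of_le h1 h3 inf_le_left]

/-- three Sylow subgroups -/
theorem Loc.exists_two (hP : P2 G) {A T : Subgroup G} (h : Loc A) (hT : IsSyl 2 T (NN A)) :
    ∃ g g' : G, g ∈ NN A ∧ g' ∈ NN A ∧ cj g T ≠ T ∧ cj g' T ≠ T ∧ cj g T ≠ cj g' T := by
  haveI : Fact (Nat.Prime 2) := ⟨Nat.prime_two⟩
  obtain ⟨g, hg, hgT⟩ := h.exists_syl_ne hT
  have hAT := h.le_syl hT
  have hne : ¬ T ≤ A := fun h1 => h.ne_syl hT (le_antisymm hAT h1)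
  obtain ⟨t, ht, htA⟩ := SetLike.not_le_iff_exists.1 hne
  refine ⟨g, t * g, hg, mul_mem (hT.le ht) hg, hgT, ?_, ?_⟩
  · rw [cj_mul]
    intro h1
    apply hgT
    rw [cj_eq_iff, cj_eq_of_mem (inv_mem ht)] at h1
    exact h1
  · intro h1
    rw [cj_mul] at h1
    have h2 : t ∈ NN (cj g T) := mem_normalizer_iff_cj.2 h1.symm
    have hg' := hT.cj_mem hg
    obtain ⟨k, hk⟩ := pow_two_of_isPGroup hT.isPGroup ht
    have h3 : IsPGroup 2 (cj g T ⊔ zpowers t : Subgroup G) :=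
      IsPGroup.to_sup_of_normal_left' hg'.isPGroup (isPGroup_zpowers hk) (zpowers_le.2 h2)
    have h4 : t ∈ cj g T := by
      rw [← hg'.eq_of_le h3 le_sup_left (sup_le hg'.le (zpowers_le.2 (hT.le ht)))]
      exact mem_sup_right (mem_zpowers t)
    apply htA
    rw [← h.inf_eq hP hT hg' hgT.symm]
    exact ⟨ht, h4⟩

variable {E : Subgroup G → Subgroup G → Subgroup G → Prop}

theorem no_long (hG : IsCIT G) (hP : P2 G) (hE : EdgeSys E) {k : ℕ}
    (hmin : ∀ m ≤ k + 1, ∀ A C, W E m A C → zeta A ≤ C) {A0 Ab : Subgroup G}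
    (hw : W E (k + 2) A0 Ab) (hne : ¬ zeta A0 ≤ Ab) : False := by
  obtain ⟨A1, T1, hE1, hw1⟩ := id hw
  obtain ⟨Ab', Tb, hw2, hE2⟩ := W_snoc.1 hw
  obtain ⟨Ab'', Tb', hw3, hE3⟩ := W_snoc.1 hw2
  have e1 := hE.edge hE1
  have e2 := hE.edge hE2
  have e3 := hE.edge hE3
  have hZb : zeta Ab ≤ A1 := hmin (k+1) le_rfl _ _ (hE.wsymm hw1)
  have hZ0 : zeta A0 ≤ Ab' := hmin (k+1) le_rfl _ _ hw2
  obtain ⟨n, hc⟩ := crit hG hP e1 e2 hZ0 hZb hne
  have key : ∀ g ∈ NN A0, cj g T1 ≠ T1 → zeta (cj g T1) = zeta Tb' := by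
    intro g hg hgT
    have hE' : E (cj g A1) A0 (cj g T1) := by
      have := hE.symm (hE.conj hE1 g)
      rwa [mem_normalizer_iff_cj.1 hg] at this
    by_cases hle : zeta (cj g A1) ≤ Ab'
    · exact (caseii hG e1 hc hZb hg hgT (hle.trans (e2.locA.le_syl e2.sylA))
        (e2.locB.le_syl e2.sylB) e2.sylB.le).elim
    · -- critical pair (A_{-1}, A_{b-1})
      have hwa : W E (k+1) (cj g A1) Ab'' := ⟨A0, cj g T1, hE', hw3⟩
      have h1 : zeta (cj g A1) ≤ Ab'' := hmin (k+1) le_rfl _ _ hwa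
      have h2 : zeta Ab' ≤ A0 := hmin (k+1) le_rfl _ _ (hE.wsymm hw2)
      obtain ⟨m, hm⟩ := crit hG hP (hE.edge hE') e3 h1 h2 hle
      exact hm.zeta_eq
  obtain ⟨g, g', hg, hg', h1, h2, h3⟩ := e1.locA.exists_two hP e1.sylA
  apply h3
  exact zeta_ne_of_ne hG e1.locA (e1.sylA.cj_mem hg) (e1.sylA.cj_mem hg')
    ((key g hg h1).trans (key g' hg' h2).symm)

/-- natural edges -/
structure NatEdge (A B T : Subgroup G) (n : ℕ) : Prop where
  edge : Edge A B T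
  ffA : FF A T n
  ffB : FF B T n
  sqA : ∀ x ∈ A, x * x = 1
  sqB : ∀ x ∈ B, x * x = 1
  inf : A ⊓ B = zeta T
  sup : A ⊔ B = T

theorem NatEdge.symm {A B T : Subgroup G} {n : ℕ} (h : NatEdge A B T n) : NatEdge B A T n :=
  ⟨h.edge.symm, h.ffB, h.ffA, h.sqB, h.sqA, by rw [inf_comm]; exact h.inf,
    by rw [sup_comm]; exact h.sup⟩

theorem natural_of_crit (hG : IsCIT G) (hP : P2 G) {A B T : Subgroup G} (e : Edge A B T)
    (hne : ¬ zeta A ≤ B) : ∃ n, NatEdge A B T n := by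
  obtain ⟨n, hc⟩ := crit hG hP e e (zeta_le A) (zeta_le B) hne
  -- squares
  have hsq : ∀ {A B : Subgroup G}, Edge A B T → B ⊔ zeta A = T → ∀ x ∈ A, ∃ b ∈ A ⊓ B, x * x = b * b := by
    intro A B e hsup x hx
    have hxT : x ∈ B ⊔ zeta A := by rw [hsup]; exact e.locA.le_syl e.sylA hx
    obtain ⟨b, hb, z, hz, rfl⟩ := (SubgroupTools.mem_sup_of_le_normalizer (N := B) (H := zeta A)
      ((zeta_le A).trans ((e.locA.le_syl e.sylA).trans e.sylB.le))).1 hxT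
    have hbA : b ∈ A := by
      have : b = (b * z) * z⁻¹ := by group
      rw [this]; exact mul_mem hx (inv_mem (zeta_le A hz))
    refine ⟨b, ⟨hbA, hb⟩, ?_⟩
    have h1 := Loc.zeta_le_Z hz hbA
    calc b * z * (b * z) = b * (z * b) * z := by group
      _ = b * (b * z) * z := by rw [h1]
      _ = b * b * (z * z) := by group
      _ = b * b := by rw [(mem_zeta.1 hz).2.1, mul_one]
  let Φ : Subgroup G → Subgroup G := fun A => Subgroup.closure {y | ∃ x ∈ A, y = x * x}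
  have hΦ : ∀ A : Subgroup G, NN A ≤ NN (Φ A) := by
    intro A g hg
    rw [mem_normalizer_iff_cj, cj, MonoidHom.map_closure]
    congr 1
    ext y
    constructor
    · rintro ⟨_, ⟨x, hx, rfl⟩, rfl⟩
      exact ⟨g * x * g⁻¹, (mem_normalizer_iff.1 hg x).1 hx, by simp [mul_assoc]⟩
    · rintro ⟨x, hx, rfl⟩
      exact ⟨_, ⟨g⁻¹ * x * g⁻¹⁻¹, (mem_normalizer_iff.1 (inv_mem hg) x).1 hx, rfl⟩, by simp [mul_assoc]⟩
  have hΦle : ∀ {A B : Subgroup G}, Edge A B T → B ⊔ zeta A = T → Φ A ≤ Φ B := by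
    intro A B e hsup
    rw [Subgroup.closure_le]
    rintro _ ⟨x, hx, rfl⟩
    obtain ⟨b, hb, hbx⟩ := hsq e hsup x hx
    exact Subgroup.subset_closure ⟨b, hb.2, hbx⟩
  have hΦeq : Φ A = Φ B := le_antisymm (hΦle e hc.supb) (hΦle e.symm hc.sup0)
  have hΦp : IsPGroup 2 (Φ A) := by
    apply e.locA.isPGroup.to_le
    rw [Subgroup.closure_le]
    rintro _ ⟨x, hx, rfl⟩
    exact mul_mem hx hx
  have hΦ1 : Φ A = ⊥ := e.cn hP hΦp (hΦ A) (by rw [hΦeq]; exact hΦ B)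
  have hsqA : ∀ x ∈ A, x * x = 1 := by
    intro x hx
    have h1 : x * x ∈ Φ A := Subgroup.subset_closure ⟨x, hx, rfl⟩
    rw [hΦ1, mem_bot] at h1; exact h1
  have hsqB : ∀ x ∈ B, x * x = 1 := by
    intro x hx
    have h1 : x * x ∈ Φ B := Subgroup.subset_closure ⟨x, hx, rfl⟩
    rw [← hΦeq, hΦ1, mem_bot] at h1; exact h1
  have hab : ∀ {A : Subgroup G}, (∀ x ∈ A, x * x = 1) → ∀ x ∈ A, ∀ y ∈ A, x * y = y * x := by
    intro A h x hx y hy
    have h1 := h _ (mul_mem hx hy)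
    have h2 : (x * y)⁻¹ = x * y := inv_eq_of_mul_eq_one_left h1
    rw [← h2, mul_inv_rev, inv_eq_of_mul_eq_one_left (h x hx), inv_eq_of_mul_eq_one_left (h y hy)]
  have hsup : A ⊔ B = T := by
    apply le_antisymm (sup_le (e.locA.le_syl e.sylA) (e.locB.le_syl e.sylB))
    rw [← hc.sup0]; exact sup_le_sup_left (zeta_le B) _
  refine ⟨n, e, hc.ff0, hc.ffb, hsqA, hsqB, ?_, hsup⟩
  apply le_antisymm
  · intro x hx
    refine mem_zeta.2 ⟨e.locA.le_syl e.sylA hx.1, hsqA x hx.1, ?_⟩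
    have h1 : T ≤ centralizer ({x} : Set G) := by
      rw [← hsup]
      exact sup_le (fun y hy => mem_cent.2 (hab hsqA y hy x hx.1))
        (fun y hy => mem_cent.2 (hab hsqB y hy x hx.2))
    intro y hy
    exact (mem_cent.1 (h1 hy)).symm
  · exact le_inf ((e.locA.zeta_syl_le hG e.sylA).trans (zeta_le A))
      ((e.locB.zeta_syl_le hG e.sylB).trans (zeta_le B))

/-- **every edge is natural** -/
theorem Edge.natural (hG : IsCIT G) (hP : P2 G) {A B T : Subgroup G} (e : Edge A B T) :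
    ∃ n, NatEdge A B T n := by
  classical
  let E : Subgroup G → Subgroup G → Subgroup G → Prop := fun X Y Z =>
    ∃ g : G, (X = cj g A ∧ Y = cj g B ∧ Z = cj g T) ∨ (X = cj g B ∧ Y = cj g A ∧ Z = cj g T)
  have hE : EdgeSys E := by
    refine ⟨?_, ?_, ?_⟩
    · rintro X Y Z ⟨g, ⟨rfl, rfl, rfl⟩ | ⟨rfl, rfl, rfl⟩⟩
      · exact e.conj g
      · exact e.symm.conj g
    · rintro X Y Z ⟨g, ⟨rfl, rfl, rfl⟩ | ⟨rfl, rfl, rfl⟩⟩
      · exact ⟨g, Or.inr ⟨rfl, rfl, rfl⟩⟩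
      · exact ⟨g, Or.inl ⟨rfl, rfl, rfl⟩⟩
    · rintro X Y Z ⟨g, ⟨rfl, rfl, rfl⟩ | ⟨rfl, rfl, rfl⟩⟩ h
      · exact ⟨h * g, Or.inl ⟨by rw [cj_mul], by rw [cj_mul], by rw [cj_mul]⟩⟩
      · exact ⟨h * g, Or.inr ⟨by rw [cj_mul], by rw [cj_mul], by rw [cj_mul]⟩⟩
  have hEe : E A B T := ⟨1, Or.inl ⟨by rw [cj_one], by rw [cj_one], by rw [cj_one]⟩⟩
  obtain ⟨m0, hm0⟩ : ∃ m, ∃ A C, W E m A C ∧ ¬ zeta A ≤ C := hE.exists_crit hP hEe
  have hex : ∃ m, ∃ A C, W E m A C ∧ ¬ zeta A ≤ C := ⟨m0, hm0⟩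
  obtain ⟨A0, C0, hw, hne⟩ := Nat.find_spec hex
  have hmin : ∀ m < Nat.find hex, ∀ A C, W E m A C → zeta A ≤ C := by
    intro m hm A C hAC
    by_contra hcon
    exact Nat.find_min hex hm ⟨A, C, hAC, hcon⟩
  rcases hfind : Nat.find hex with _ | _ | k
  · rw [hfind] at hw
    exact absurd (show zeta A0 ≤ C0 by rw [← (show A0 = C0 from hw)]; exact zeta_le A0) hne
  · rw [hfind] at hw
    obtain ⟨B0, T0, hE0, hB0⟩ := hw
    have hB0 : B0 = C0 := hB0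
    subst hB0
    obtain ⟨g, ⟨rfl, rfl, rfl⟩ | ⟨rfl, rfl, rfl⟩⟩ := hE0
    · rw [zeta_cj, cj_le_cj_iff] at hne
      exact natural_of_crit hG hP e hne
    · rw [zeta_cj, cj_le_cj_iff] at hne
      obtain ⟨n, hn⟩ := natural_of_crit hG hP e.symm hne
      exact ⟨n, hn.symm⟩
  · rw [hfind] at hw hmin
    exact (no_long hG hP hE (fun m hm => hmin m (by omega)) hw hne).elim

end walk

end Cfsg.Agent.Lib.CIT
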