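import Cfsg.Prelude.Def_LieExceptional
import Cfsg.Prelude.Def_OddOrderLocal
import Cfsg.Agent.Lib.H23Nilp
import Cfsg.Agent.Lib.CoprimeGen
import Cfsg.Agent.Lib.Cores3
import Cfsg.Agent.Lib.RelSylow
import Cfsg.Agent.Lib.Fitting

/-!
# CN-groups, first part: subgroups, quotients by solvable normal subgroups
-/

set_option autoImplicit false
open Cfsg

namespace Cfsg.Agent.Lib.CN

open Subgroup

variable {G : Type*} [Group G]

/-- Subgroups of CN-groups are CN-groups. -/
theorem subgroup (h : IsCNGroup G) (H : Subgroup G) : IsCNGroup H := by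
  intro g hg
  have hg' : (g : G) ≠ 1 := fun h => hg (Subtype.ext h)
  have h1 := h (g : G) hg'
  have h2 : Group.IsNilpotent ↥((centralizer ({g} : Set H)).map H.subtype) := by
    refine H23Nilp.isNilpotent_of_le ?_ h1
    rintro x ⟨y, hy, rfl⟩
    rw [mem_centralizer_singleton_iff]
    have := mem_centralizer_singleton_iff.mp hy
    exact congrArg Subtype.val this
  exact Group.nilpotent_of_mulEquiv
    ((centralizer ({g} : Set H)).equivMapOfInjective H.subtype H.subtype_injective).symm

theorem of_mulEquiv {G' : Type*} [Group G'] (e : G ≃* G') (h : IsCNGroup G) : IsCNGroup G' := by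
  intro g hg
  have hg' : e.symm g ≠ 1 := fun h => hg (by simpa using h)
  have h1 := h _ hg'
  have h2 : (centralizer ({e.symm g} : Set G)).map e.toMonoidHom = centralizer ({g} : Set G') := by
    ext x
    rw [mem_map_equiv, mem_centralizer_singleton_iff, mem_centralizer_singleton_iff,
      ← map_mul, ← map_mul]
    exact e.symm.injective.eq_iff
  rw [← h2]
  exact Group.nilpotent_of_mulEquiv
    ((centralizer ({e.symm g} : Set G)).equivMapOfInjective e.toMonoidHom e.injective)

/-- Elements of coprime orders centralizing a common nonidentity element commute. -/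
theorem comm_of_comm (h : IsCNGroup G) {z x y : G} (hz : z ≠ 1) (hx : x * z = z * x)
    (hy : y * z = z * y) (hc : (orderOf x).Coprime (orderOf y)) : x * y = y * x :=
  H23Nilp.commute_of_coprime_of_mem (h z hz) (mem_centralizer_singleton_iff.mpr hx)
    (mem_centralizer_singleton_iff.mpr hy) hc

theorem isNilpotent_of_le_centralizer (h : IsCNGroup G) {z : G} (hz : z ≠ 1) {A : Subgroup G}
    (hA : A ≤ centralizer {z}) : Group.IsNilpotent A :=
  H23Nilp.isNilpotent_of_le hA (h z hz)

/-- A CN-group with a nontrivial central element is nilpotent. -/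
theorem isNilpotent_of_central (h : IsCNGroup G) {z : G} (hz : z ≠ 1) (hc : ∀ x : G, x * z = z * x) :
    Group.IsNilpotent G := by
  have h1 : Group.IsNilpotent (⊤ : Subgroup G) :=
    isNilpotent_of_le_centralizer h hz (fun x _ => mem_centralizer_singleton_iff.mpr (hc x))
  exact Group.nilpotent_of_mulEquiv Subgroup.topEquiv

/-- Two subgroups of a finite group are equal if all Sylow... : a subgroup containing, for each prime, a
subgroup of index prime to it, is everything. -/
theorem eq_top_of_sylow_le [Finite G] {H : Subgroup G}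
    (h : ∀ p : ℕ, p.Prime → ∃ P : Subgroup G, P ≤ H ∧ ¬ p ∣ P.index) : H = ⊤ :=
  Fitting.eq_top_of_sylow_le h

/-- A finite CN-group, `p` prime, `X` a normal `p`-subgroup, `H ≤ X` a nontrivial normal subgroup, `x ∈ X \ H`
central modulo `H`: then `G` is nilpotent. -/
theorem isNilpotent_of_central_mod [Finite G] (hCN : IsCNGroup G) (p : ℕ) [hp : Fact p.Prime]
    {H X : Subgroup G} [hHn : H.Normal] [hXn : X.Normal] (hX : IsPGroup p X) (hHX : H ≤ X) (hH : H ≠ ⊥)
    {x : G} (hx : x ∈ X) (hxH : x ∉ H) (hc : ∀ g : G, g * x * g⁻¹ * x⁻¹ ∈ H) :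
    Group.IsNilpotent G := by
  classical
  obtain ⟨P⟩ : Nonempty (Sylow p G) := inferInstance
  have hXP : X ≤ P := by
    have := hX
    exact hX.le_sylow_of_normal P
  -- a central element of P inside H
  have hPn : Group.IsNilpotent P := P.2.isNilpotent
  obtain ⟨z, hzH, hzc, hz1⟩ := Cores.exists_mem_center_of_normal (G := P) (K := H.subgroupOf P)
    inferInstance (by
      intro h
      apply hH
      rw [eq_bot_iff]
      intro a ha
      have : (⟨a, hXP (hHX ha)⟩ : P) ∈ H.subgroupOf P := mem_subgroupOf.mpr ha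
      rw [h, mem_bot] at this
      rw [mem_bot]
      exact congrArg Subtype.val this)
  have hz1' : (z : G) ≠ 1 := fun h => hz1 (Subtype.ext h)
  have hzP : ∀ g ∈ P, g * (z : G) = z * g := fun g hg =>
    congrArg Subtype.val (Subgroup.mem_center_iff.mp hzc ⟨g, hg⟩)
  have hzo : ∃ k, orderOf (z : G) = p ^ k := by
    have := IsPGroup.iff_orderOf.mp P.2 z
    simpa using this
  -- elements of order prime to p centralize z
  have hy : ∀ y : G, (orderOf y).Coprime p → y * z = z * y := by
    intro y hy
    have hHp : IsPGroup p H := hX.to_le hHX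
    obtain ⟨n, hn⟩ := (IsPGroup.iff_card).mp hHp
    have hyH : y ∈ normalizer (H : Set G) := by rw [normalizer_eq_top]; trivial
    obtain ⟨d, hd, hxd⟩ := CoprimeGen.exists_mul_commute (D := H) (y := y) (k := x) hyH
      (by rw [hn]; exact Nat.Coprime.pow_right _ hy) (by
        have h1 := hc y
        have h2 := hHn.conj_mem _ h1 (x⁻¹)
        have h3 : x⁻¹ * (y * x * y⁻¹) = x⁻¹ * (y * x * y⁻¹ * x⁻¹) * x⁻¹⁻¹ := by group
        rw [h3]; exact h2)
    have hxd1 : x * d ≠ 1 := by
      intro h
      apply hxH
      rw [eq_inv_of_mul_eq_one_left h]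
      exact H.inv_mem hd
    have hxdP : x * d ∈ P := hXP (X.mul_mem hx (hHX hd))
    obtain ⟨k, hk⟩ := hzo
    refine comm_of_comm hCN (z := x * d) hxd1 ?_ ?_ (by rw [hk]; exact Nat.Coprime.pow_right _ hy)
    · exact (mem_centralizer_singleton_iff.mp hxd).symm
    · exact (hzP _ hxdP).symm
  have htop : centralizer ({(z : G)} : Set G) = ⊤ := by
    apply eq_top_of_sylow_le
    intro q hq
    have := Fact.mk hq
    by_cases hqp : q = p
    · subst hqp
      exact ⟨P, fun g hg => mem_centralizer_singleton_iff.mpr (hzP g hg), P.not_dvd_index⟩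
    · obtain ⟨Q⟩ : Nonempty (Sylow q G) := inferInstance
      refine ⟨Q, fun g hg => mem_centralizer_singleton_iff.mpr (hy g ?_), Q.not_dvd_index⟩
      obtain ⟨k, hk⟩ := IsPGroup.iff_orderOf.mp Q.2 ⟨g, hg⟩
      rw [orderOf_mk] at hk
      rw [hk]
      exact Nat.Coprime.pow_left _ ((Nat.coprime_primes hq hp.out).mpr hqp)
  refine isNilpotent_of_central hCN hz1' (fun g => ?_)
  have : g ∈ centralizer ({(z : G)} : Set G) := by rw [htop]; trivial
  exact mem_centralizer_singleton_iff.mp this

theorem isNilpotent_map {G' : Type*} [Group G'] (f : G →* G') {A : Subgroup G} (hA : Group.IsNilpotent A) :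
    Group.IsNilpotent (A.map f) :=
  Group.nilpotent_of_surjective (f.subgroupMap A) (f.subgroupMap_surjective A)

theorem quotient_aux [Finite G] (hCN : IsCNGroup G) (p : ℕ) [hp : Fact p.Prime] (H : Subgroup G)
    [hHn : H.Normal] (hH : IsPGroup p H) (hH1 : H ≠ ⊥) (r : ℕ) (hr : r.Prime) (y : G ⧸ H)
    (hy : orderOf y = r) : Group.IsNilpotent (centralizer ({y} : Set (G ⧸ H))) := by
  classical
  set f := QuotientGroup.mk' H with hf
  have hfs : Function.Surjective f := QuotientGroup.mk'_surjective H
  obtain ⟨x₀, hx₀⟩ := hfs y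
  have := Fact.mk hr
  by_cases hrp : r = p
  · subst hrp
    set C : Subgroup G := (centralizer ({y} : Set (G ⧸ H))).comap f with hC
    have hmemC : ∀ g : G, g ∈ C ↔ f g * y = y * f g := fun g => by
      rw [hC, mem_comap, mem_centralizer_singleton_iff]
    have hHC : H ≤ C := by
      intro h hh
      rw [hmemC]
      have : f h = 1 := (QuotientGroup.eq_one_iff h).mpr hh
      rw [this, one_mul, mul_one]
    set X : Subgroup G := (zpowers y).comap f with hXdef
    have hXC : X ≤ C := by
      intro h hh
      rw [hmemC]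
      obtain ⟨k, hk⟩ := mem_zpowers_iff.mp (mem_comap.mp hh)
      rw [← hk]
      exact ((Commute.refl y).zpow_left k).eq
    have hHX : H ≤ X := by
      intro h hh
      rw [hXdef, mem_comap]
      have : f h = 1 := (QuotientGroup.eq_one_iff h).mpr hh
      rw [this]; exact one_mem _
    have hXp : IsPGroup r X := by
      have h1 : IsPGroup r (zpowers y) := IsPGroup.of_card (n := 1) (by rw [Nat.card_zpowers, hy, pow_one])
      apply h1.comap_of_ker_isPGroup
      rw [hf, QuotientGroup.ker_mk']
      exact hH
    have hn1 : (H.subgroupOf C).Normal := inferInstance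
    have hn2 : (X.subgroupOf C).Normal := by
      refine ⟨fun n hn g => ?_⟩
      rw [mem_subgroupOf] at hn ⊢
      rw [hXdef, mem_comap] at hn ⊢
      have h1 := (hmemC g).mp g.2
      obtain ⟨k, hk⟩ := mem_zpowers_iff.mp hn
      rw [coe_mul, coe_mul, map_mul, map_mul, coe_inv, map_inv, ← hk]
      have h2 : Commute (f g) (y ^ k) := Commute.zpow_right h1 k
      rw [h2.eq, mul_inv_cancel_right]
      exact mem_zpowers_iff.mpr ⟨k, rfl⟩
    have hCnil : Group.IsNilpotent C := by
      refine isNilpotent_of_central_mod (subgroup hCN C) r (H := H.subgroupOf C) (X := X.subgroupOf C)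
        (hXp.comap_of_injective _ (subtype_injective _)) (fun h hh => hHX hh) ?_
        (x := ⟨x₀, (hmemC x₀).mpr (by rw [hx₀])⟩) ?_ ?_ ?_
      · intro h
        apply hH1
        rw [eq_bot_iff]
        intro a ha
        have : (⟨a, hHC ha⟩ : C) ∈ H.subgroupOf C := mem_subgroupOf.mpr ha
        rw [h, mem_bot] at this
        rw [mem_bot]
        exact congrArg Subtype.val this
      · rw [mem_subgroupOf, hXdef, mem_comap]
        show f x₀ ∈ _
        rw [hx₀]
        exact mem_zpowers y
      · intro h
        rw [mem_subgroupOf] at h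
        have h1 : f x₀ = 1 := (QuotientGroup.eq_one_iff x₀).mpr h
        rw [hx₀] at h1
        rw [h1, orderOf_one] at hy
        exact hr.one_lt.ne hy
      · intro g
        rw [mem_subgroupOf]
        have h1 := (hmemC g).mp g.2
        have h2 : f ((g : G) * x₀ * (g : G)⁻¹ * x₀⁻¹) = 1 := by
          rw [map_mul, map_mul, map_mul, map_inv, map_inv, hx₀, h1]
          group
        exact (QuotientGroup.eq_one_iff _).mp h2
    have h3 : centralizer ({y} : Set (G ⧸ H)) = C.map f := by
      rw [hC, map_comap_eq_self_of_surjective hfs]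
    rw [h3]
    exact isNilpotent_map f hCnil
  · -- r ≠ p
    obtain ⟨k, hk⟩ := (IsPGroup.iff_card).mp hH
    have hcop : Nat.Coprime r (p ^ k) := Nat.Coprime.pow_right _ ((Nat.coprime_primes hr hp.out).mpr hrp)
    obtain ⟨m, hm1, hm2⟩ := Nat.chineseRemainder hcop 1 0
    set x := x₀ ^ m with hxdef
    have hfx : f x = y := by
      rw [hxdef, map_pow, hx₀]
      conv_rhs => rw [← pow_one y]
      rw [pow_eq_pow_iff_modEq, hy]
      exact hm1
    have hxr : x ^ r = 1 := by
      have h1 : x₀ ^ r ∈ H := by
        rw [← QuotientGroup.eq_one_iff]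
        show f (x₀ ^ r) = 1
        rw [map_pow, hx₀, ← hy]
        exact pow_orderOf_eq_one y
      obtain ⟨j, hj⟩ := (Nat.modEq_zero_iff_dvd).mp hm2
      rw [hxdef, ← pow_mul, mul_comm, pow_mul, hj, pow_mul, ← hk]
      have h2 := H23Nilp.pow_card_eq_one_of_mem h1
      rw [h2, one_pow]
    have hxp : IsPGroup r (zpowers x) := by
      apply SubgroupTools.isPGroup_of_forall_pow_eq_one
      intro a ha
      obtain ⟨j, rfl⟩ := mem_zpowers_iff.mp ha
      rw [← zpow_natCast, ← zpow_mul, mul_comm, zpow_mul, zpow_natCast, hxr, one_zpow]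
    have hrH : ¬ r ∣ Nat.card H := by
      rw [hk]
      intro h
      exact hrp ((Nat.prime_dvd_prime_iff_eq hr hp.out).mp (hr.dvd_of_dvd_pow h))
    have hx1 : x ≠ 1 := by
      intro h
      rw [h, map_one] at hfx
      rw [← hfx, orderOf_one] at hy
      exact hr.one_lt.ne hy
    refine H23Nilp.isNilpotent_of_le (B := (centralizer ({x} : Set G)).map f) ?_ (isNilpotent_map f (hCN x hx1))
    intro g' hg'
    obtain ⟨g, rfl⟩ := hfs g'
    have hg := mem_centralizer_singleton_iff.mp hg'
    obtain ⟨n, hn, c, hc, hgn⟩ := RelSylow.exists_centralizer_of_mod (N := H) (P := zpowers x) hrH hxp (g := g) (by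
      intro a ha
      obtain ⟨j, rfl⟩ := mem_zpowers_iff.mp ha
      have h2 : f (g * x ^ j * g⁻¹ * (x ^ j)⁻¹) = 1 := by
        rw [map_mul, map_mul, map_mul, map_inv, map_inv, map_zpow, hfx]
        have h3 : Commute (f g) (y ^ j) := Commute.zpow_right hg j
        rw [h3.eq]
        group
      exact (QuotientGroup.eq_one_iff _).mp h2)
    refine ⟨c, ?_, ?_⟩
    · exact mem_centralizer_singleton_iff.mpr ((mem_centralizer_iff.mp hc x (mem_zpowers x)).symm)
    · rw [hgn, map_mul]
      have : f n = 1 := (QuotientGroup.eq_one_iff n).mpr hn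
      rw [this, one_mul]

/-- The quotient of a finite CN-group by a normal `p`-subgroup is a CN-group. -/
theorem quotient_pgroup [Finite G] (hCN : IsCNGroup G) (p : ℕ) [hp : Fact p.Prime] (H : Subgroup G)
    [hHn : H.Normal] (hH : IsPGroup p H) (hH1 : H ≠ ⊥) : IsCNGroup (G ⧸ H) := by
  intro y hy
  have hyo : orderOf y ≠ 1 := fun h => hy (orderOf_eq_one_iff.mp h)
  obtain ⟨r, hr, hry⟩ := Nat.exists_prime_and_dvd hyo
  refine H23Nilp.isNilpotent_of_le ?_ (quotient_aux hCN p H hH hH1 r hr (y ^ (orderOf y / r))
    (orderOf_pow_orderOf_div (orderOf_pos y).ne' hry))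
  intro g hg
  rw [mem_centralizer_singleton_iff] at hg ⊢
  exact (Commute.pow_right hg _).eq

/-- The quotient of a finite CN-group by a solvable normal subgroup is a CN-group. -/
theorem quotient {G : Type*} [Group G] [Finite G] (hCN : IsCNGroup G) (H : Subgroup G) [hHn : H.Normal]
    (hH : Group.IsSolvable H) : IsCNGroup (G ⧸ H) := by
  induction hn : Nat.card H using Nat.strong_induction_on generalizing G with
  | _ n ih =>
    subst hn
    by_cases hH1 : H = ⊥
    · subst hH1
      exact of_mulEquiv (QuotientGroup.quotientBot (G := G)).symm hCN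
    have : Nontrivial H := (Subgroup.nontrivial_iff_ne_bot H).2 hH1
    obtain ⟨p, E, hp, hE1, hEc, hEab, hEp⟩ := SubgroupTools.exists_characteristic_elementary H
    have := Fact.mk hp
    set N : Subgroup G := E.map H.subtype with hN
    have hNn : N.Normal := Fitting.normal_map_subtype_of_characteristic hEc
    have hNH : N ≤ H := map_subtype_le E
    have hN1 : N ≠ ⊥ := by
      intro h
      exact hE1 ((map_eq_bot_iff_of_injective _ H.subtype_injective).mp h)
    have hNp : IsPGroup p N := by
      have := SubgroupTools.isPGroup_of_forall_pow_eq_one hEp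
      exact this.map _
    have hQ := quotient_pgroup hCN p N hNp hN1
    have hcard : Nat.card (H.map (QuotientGroup.mk' N)) < Nat.card H := by
      have h1 := Cores.card_map_mk (N := N) (H := H) hNH
      have h2 : 1 < Nat.card N := (Subgroup.one_lt_card_iff_ne_bot N).mpr hN1
      have h3 : 0 < Nat.card (H.map (QuotientGroup.mk' N)) := Nat.card_pos
      nlinarith
    have hsol : Group.IsSolvable (H.map (QuotientGroup.mk' N)) := SubgroupTools.isSolvable_map _ hH
    have hnorm : (H.map (QuotientGroup.mk' N)).Normal := hHn.map _ (QuotientGroup.mk'_surjective N)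
    have h4 := ih _ hcard (G := G ⧸ N) hQ (H.map (QuotientGroup.mk' N)) hsol rfl
    exact of_mulEquiv (QuotientGroup.quotientQuotientEquivQuotient N H hNH) h4

end Cfsg.Agent.Lib.CN
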