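import Cfsg.Agent.Lib.CN9
import Cfsg.Agent.Lib.FrobThm

/-!
# CN-groups, tenth part: maximal subgroups of minimal simple CN-groups of odd order
-/

set_option autoImplicit false
open Cfsg

namespace Cfsg.Agent.Lib.CN

open Subgroup
open scoped Pointwise

variable {G : Type*} [Group G] [Finite G]

theorem mns_ti (hG : IsMinSimpleOddOrder G) (hCN : IsCNGroup G) {H : Subgroup G} (hH : IsMaxNilp H) (g : G)
    (hg : H.map (MulAut.conj g).toMonoidHom ≠ H) : H ⊓ H.map (MulAut.conj g).toMonoidHom = ⊥ := by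
  classical
  by_cases hpp : IsPrimePow (Nat.card H)
  · obtain ⟨p, k, hp, hk, hpk⟩ := (isPrimePow_nat_iff _).mp hpp
    have := Fact.mk hp
    have hpd : p ∣ Nat.card H := by rw [← hpk]; exact dvd_pow_self p hk.ne'
    obtain ⟨P, hPH, hP⟩ := hH.exists_isSyl_top hCN hpd
    have hHp : IsPGroup p H := IsPGroup.of_card hpk.symm
    have hPH' : P = H := hP.eq_of_le hHp le_top hPH
    subst hPH'
    have hP1 : P ≠ ⊥ := by
      intro h
      rw [h, Subgroup.card_bot] at hpd
      exact hp.one_lt.ne' (Nat.dvd_one.mp hpd)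
    obtain ⟨-, -, h3⟩ := sylow_main hG hCN hP hP1
    rw [eq_bot_iff]
    rintro x ⟨hx, hxg⟩
    rw [mem_bot]
    by_contra hx1
    have hxg' : g⁻¹ * x * g ∈ P := RelSylow.mem_conj_iff.mp hxg
    have h4 := h3 (g⁻¹ * x * g) hxg' (by
      intro h
      apply hx1
      have : x = g * (g⁻¹ * x * g) * g⁻¹ := by group
      rw [this, h]; group) g (by
      have : g * (g⁻¹ * x * g) * g⁻¹ = x := by group
      rw [this]; exact hx)
    exact hg (RelSylow.conj_eq_of_mem_normalizer h4)
  · exact hH.ti_of_not_primePow hCN hpp g hg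

theorem mns_centralizer_le (hG : IsMinSimpleOddOrder G) (hCN : IsCNGroup G) {H : Subgroup G}
    (hH : IsMaxNilp H) {x : G} (hx : x ∈ H) (hx1 : x ≠ 1) : centralizer ({x} : Set G) ≤ H :=
  hH.centralizer_le_of_ti hCN (fun g hg => mns_ti hG hCN hH g hg) hx hx1

theorem mns_ne_bot (hG : IsMinSimpleOddOrder G) {H : Subgroup G} (hH : IsMaxNilp H) : H ≠ ⊥ := by
  have := (MinSimpleOdd.isSimple hG).toNontrivial
  exact hH.ne_bot

theorem mns_ne_top (hG : IsMinSimpleOddOrder G) {H : Subgroup G} (hH : IsMaxNilp H) : H ≠ ⊤ := by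
  have := hH.1
  exact MinSimpleOdd.ne_top_of_isSolvable hG inferInstance

theorem mns_lt_normalizer (hG : IsMinSimpleOddOrder G) (hCN : IsCNGroup G) {H : Subgroup G}
    (hH : IsMaxNilp H) : H < normalizer (H : Set G) := by
  refine lt_of_le_of_ne le_normalizer (fun heq => ?_)
  have hF : IsFrobeniusComplement H := by
    refine ⟨mns_ne_bot hG hH, mns_ne_top hG hH, fun g hg => ?_⟩
    rw [SubgroupTools.conj_smul_eq_map]
    apply mns_ti hG hCN hH g
    intro h
    apply hg
    rw [heq]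
    exact RelSylow.mem_normalizer_iff_map.mpr h
  obtain ⟨N, -, hNn, hNc⟩ := FrobThm.exists_kernel hF
  rcases MinSimpleOdd.normal_eq hG hNn with h | h
  · rw [h] at hNc
    exact mns_ne_top hG hH (isComplement'_bot_left.mp hNc)
  · rw [h] at hNc
    exact mns_ne_bot hG hH (isComplement'_top_left.mp hNc)

/-- Structure of maximal subgroups. -/
theorem mns_coatom (hG : IsMinSimpleOddOrder G) (hCN : IsCNGroup G) {M : Subgroup G} (hM : IsCoatom M) :
    fittingHallOf M ≠ ⊥ ∧ (∀ a ∈ M, ∀ b ∈ M, a * b * a⁻¹ * b⁻¹ ∈ fittingHallOf M) ∧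
      (∀ x ∈ fittingHallOf M, x ≠ 1 → ∀ y ∈ M, y * x = x * y → y ∈ fittingHallOf M) := by
  classical
  have hs : Group.IsSolvable M := MinSimpleOdd.isCoatom_solvable hG hM
  have hM1 := MinSimpleOdd.isCoatom_ne_bot hG hM
  have hnt : Nontrivial M := (Subgroup.nontrivial_iff_ne_bot M).2 hM1
  have hne : fittingHall M ≠ ⊥ := by
    intro h
    obtain ⟨r, hr, hT⟩ := isThreeStep_of_fittingHall_eq_bot (subgroup hCN M) h
    have := Fact.mk hr
    exact no_threeStep hG hCN M r hT
  refine ⟨?_, ?_, ?_⟩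
  · intro h
    exact hne ((Subgroup.map_eq_bot_iff_of_injective _ M.subtype_injective).mp h)
  · intro a ha b hb
    have h1 := commutator_le_fittingHall (MinSimpleOdd.odd_card_subgroup hG M) (subgroup hCN M) hne
      (Subgroup.commutator_mem_commutator (mem_top (⟨a, ha⟩ : M)) (mem_top (⟨b, hb⟩ : M)))
    exact ⟨_, h1, rfl⟩
  · rintro _ ⟨x, hx, rfl⟩ hx1 y hy hyx
    have h1 := centralizer_le_fittingHall (subgroup hCN M) hx (fun h => hx1 (by rw [h]; rfl))
    have h2 : (⟨y, hy⟩ : M) ∈ centralizer ({x} : Set M) :=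
      mem_centralizer_singleton_iff.mpr (Subtype.ext hyx)
    exact ⟨_, h1 h2, rfl⟩

theorem mns_isCoatom_normalizer (hG : IsMinSimpleOddOrder G) (hCN : IsCNGroup G) {H : Subgroup G}
    (hH : IsMaxNilp H) : IsCoatom (normalizer (H : Set G)) := by
  classical
  have hNtop : normalizer (H : Set G) ≠ ⊤ :=
    MinSimpleOdd.normalizer_ne_top hG (mns_ne_bot hG hH) (mns_ne_top hG hH)
  obtain ⟨M, hM, hNM⟩ := MinSimpleOdd.exists_isCoatom_ge hNtop
  obtain ⟨hK1, hKab, hKc⟩ := mns_coatom hG hCN hM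
  set K := fittingHallOf M with hK
  have hHM : H ≤ M := le_normalizer.trans hNM
  have hMK : M ≤ normalizer (K : Set G) := H23Nilp.le_normalizer_fittingHallOf M
  have hKnil : Group.IsNilpotent K := H23Nilp.fittingHallOf_isNilpotent M
  by_cases hKH : K ⊓ H = ⊥
  · exfalso
    obtain ⟨h, hh, hh1⟩ := H.bot_or_exists_ne_one.resolve_left (mns_ne_bot hG hH)
    apply absurd (mns_lt_normalizer hG hCN hH)
    apply not_lt_of_ge
    refine le_trans ?_ (mns_centralizer_le hG hCN hH hh hh1)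
    intro n hn
    have h1 : n * h * n⁻¹ * h⁻¹ ∈ K ⊓ H :=
      ⟨hKab n (hNM hn) h (hHM hh), H.mul_mem ((mem_normalizer_iff.mp hn h).mp hh) (H.inv_mem hh)⟩
    rw [hKH, mem_bot, mul_inv_eq_one, mul_inv_eq_iff_eq_mul] at h1
    exact mem_centralizer_singleton_iff.mpr h1
  · have hHnil := hH.1
    have hn : ((K ⊓ H).subgroupOf H).Normal := by
      apply SubgroupTools.normal_subgroupOf_iff_le_normalizer'
      intro x hx
      have h1 : x ∈ normalizer (K : Set G) := hMK (hHM hx)
      rw [mem_normalizer_iff] at h1 ⊢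
      intro y
      rw [mem_inf, mem_inf, ← h1 y]
      constructor
      · rintro ⟨h2, h3⟩
        exact ⟨h2, H.mul_mem (H.mul_mem hx h3) (H.inv_mem hx)⟩
      · rintro ⟨h2, h3⟩
        refine ⟨h2, ?_⟩
        have h4 := H.mul_mem (H.mul_mem (H.inv_mem hx) h3) hx
        have h5 : x⁻¹ * (x * y * x⁻¹) * x = y := by group
        rwa [h5] at h4
    obtain ⟨u, huK, huc, hu1⟩ := Cores.exists_mem_center_of_normal (G := H) (K := (K ⊓ H).subgroupOf H) hn (by
      intro h
      apply hKH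
      rw [eq_bot_iff]
      intro a ha
      have : (⟨a, ha.2⟩ : H) ∈ (K ⊓ H).subgroupOf H := mem_subgroupOf.mpr ha
      rw [h, mem_bot] at this
      rw [mem_bot]
      exact congrArg Subtype.val this)
    have hu1' : (u : G) ≠ 1 := fun h => hu1 (Subtype.ext h)
    have hHK : H ≤ K := by
      intro h hh
      exact hKc u (mem_subgroupOf.mp huK).1 hu1' h (hHM hh)
        (congrArg Subtype.val (Subgroup.mem_center_iff.mp huc ⟨h, hh⟩))
    have hKH' : K = H := hH.2 K hKnil hHK
    have h1 : M ≤ normalizer (H : Set G) := by rw [← hKH']; exact hMK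
    have h2 : normalizer (H : Set G) = M := le_antisymm hNM h1
    rw [h2]; exact hM

theorem mns_isMaxNilp_of_coatom (hG : IsMinSimpleOddOrder G) (hCN : IsCNGroup G) {M : Subgroup G}
    (hM : IsCoatom M) : IsMaxNilp (fittingHallOf M) ∧ normalizer (fittingHallOf M : Set G) = M := by
  classical
  obtain ⟨hK1, hKab, hKc⟩ := mns_coatom hG hCN hM
  set K := fittingHallOf M with hK
  have hMK : M ≤ normalizer (K : Set G) := H23Nilp.le_normalizer_fittingHallOf M
  have hKnil : Group.IsNilpotent K := H23Nilp.fittingHallOf_isNilpotent M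
  have hKM : K ≤ M := H23Nilp.fittingHallOf_le M
  obtain ⟨H, hH, hKH⟩ := exists_isMaxNilp_ge hKnil
  have hMH : M ≤ normalizer (H : Set G) := by
    intro m hm
    rw [RelSylow.mem_normalizer_iff_map]
    by_contra hne
    have h1 := mns_ti hG hCN hH m hne
    apply hK1
    rw [eq_bot_iff, ← h1]
    refine le_inf hKH ?_
    rw [← RelSylow.conj_eq_of_mem_normalizer (hMK hm)]
    exact map_mono hKH
  have hN := mns_isCoatom_normalizer hG hCN hH
  have hMeq : M = normalizer (H : Set G) := MinSimpleOdd.isCoatom_eq_of_le hM hN hMH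
  have hHM : H ≤ M := by rw [hMeq]; exact le_normalizer
  have hHK : H ≤ K := by
    apply H23Nilp.le_fittingHallOf hHM hMH hH.1
    exact Nat.Coprime.coprime_dvd_right (Subgroup.relIndex_dvd_index_of_le hHM) (hH.coprime_index hCN)
  have hEq : K = H := le_antisymm hKH hHK
  rw [hEq]
  exact ⟨hH, hMeq.symm⟩

theorem mns_complement (hG : IsMinSimpleOddOrder G) (hCN : IsCNGroup G) {H : Subgroup G}
    (hH : IsMaxNilp H) : ∃ E : Subgroup G, IsComplIn H E (normalizer (H : Set G)) ∧ E ≠ ⊥ ∧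
      ∀ e ∈ E, e ≠ 1 → H ⊓ centralizer ({e} : Set G) = ⊥ := by
  classical
  have hc : (Nat.card H).Coprime (H.relIndex (normalizer (H : Set G))) :=
    Nat.Coprime.coprime_dvd_right (Subgroup.relIndex_dvd_index_of_le le_normalizer) (hH.coprime_index hCN)
  obtain ⟨E, hEN, hHE, hsup, hcard⟩ := HallPi.exists_complement_rel le_normalizer le_rfl hc
  refine ⟨E, ⟨le_normalizer, hEN, hHE, fun m hm => ?_⟩, ?_, fun e he he1 => ?_⟩
  · rw [← hsup, SubgroupTools.mem_sup_of_le_normalizer hEN] at hm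
    obtain ⟨a, ha, b, hb, h⟩ := hm
    exact ⟨a, ha, b, hb, h.symm⟩
  · rintro rfl
    rw [sup_bot_eq] at hsup
    exact (mns_lt_normalizer hG hCN hH).ne hsup
  · rw [eq_bot_iff]
    rintro x ⟨hx, hxe⟩
    rw [mem_bot]
    by_contra hx1
    have h1 : e ∈ H := mns_centralizer_le hG hCN hH hx hx1
      (mem_centralizer_singleton_iff.mpr (mem_centralizer_singleton_iff.mp hxe).symm)
    have h2 : e ∈ H ⊓ E := ⟨h1, he⟩
    rw [hHE, mem_bot] at h2
    exact he1 h2

end Cfsg.Agent.Lib.CN
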