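import Cfsg.Agent.Lib.CN10

/-!
# CN-groups, eleventh part: conjugacy of maximal nilpotent subgroups
-/

set_option autoImplicit false
open Cfsg

namespace Cfsg.Agent.Lib.CN

open Subgroup
open scoped Pointwise

variable {G : Type*} [Group G] [Finite G]

/-- Maximal nilpotent subgroups of a CN-group with a common prime divisor are conjugate. -/
theorem IsMaxNilp.conj_of_dvd (hCN : IsCNGroup G) {H K : Subgroup G} (hH : IsMaxNilp H) (hK : IsMaxNilp K)
    {p : ℕ} (hp : p.Prime) (hpH : p ∣ Nat.card H) (hpK : p ∣ Nat.card K) :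
    ∃ g : G, K = H.map (MulAut.conj g).toMonoidHom := by
  classical
  have := Fact.mk hp
  obtain ⟨P, hPH, hP⟩ := hH.exists_isSyl_top hCN hpH
  obtain ⟨Q, hQK, hQ⟩ := hK.exists_isSyl_top hCN hpK
  obtain ⟨g, -, hg⟩ := hP.conj hQ
  refine ⟨g, ?_⟩
  have hHg := hH.map_conj g
  have hQ1 : Q ≠ ⊥ := by
    rintro rfl
    have h1 := not_dvd_index_of_isSyl_top hQ (le_refl (⊥ : Subgroup G))
    rw [Subgroup.index_bot] at h1
    exact h1 (hpH.trans (Subgroup.card_subgroup_dvd_card H))
  obtain ⟨z, hz, hz1, hzc⟩ := exists_central hQ.2.1.isNilpotent hQ1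
  -- z is centralized by any nilpotent subgroup containing Q
  have key : ∀ L : Subgroup G, Group.IsNilpotent L → Q ≤ L → ∀ y ∈ L, y * z = z * y := by
    intro L hL hQL
    have hQL' : RelSylow.IsSyl p Q L := hQ.of_le hQL le_top
    have h1 : L ≤ centralizer ({z} : Set G) := by
      apply le_of_forall_pElement
      rintro q hq w hw ⟨k, hk⟩
      rw [mem_centralizer_singleton_iff]
      by_cases hqp : q = p
      · subst hqp
        exact hzc w (mem_of_isSyl hL hQL' hw ⟨k, hk⟩)
      · obtain ⟨j, hj⟩ := IsPGroup.iff_orderOf.mp hQ.2.1 ⟨z, hz⟩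
        rw [orderOf_mk] at hj
        refine H23Nilp.commute_of_coprime_of_mem hL hw (hQL hz) ?_
        rw [hk, hj]
        exact Nat.Coprime.pow _ _ ((Nat.coprime_primes hq hp).mpr hqp)
    intro y hy
    exact mem_centralizer_singleton_iff.mp (h1 hy)
  have h1 := hK.centralizer_eq hCN hz1 (key K hK.1 hQK)
  have h2 := hHg.centralizer_eq hCN hz1 (key _ hHg.1 (by rw [← hg]; exact map_mono hPH))
  exact h1.symm.trans h2

theorem IsMaxNilp.conj_or_coprime (hCN : IsCNGroup G) {H K : Subgroup G} (hH : IsMaxNilp H)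
    (hK : IsMaxNilp K) : (∃ g : G, K = H.map (MulAut.conj g).toMonoidHom) ∨
      (Nat.card H).Coprime (Nat.card K) := by
  by_cases h : (Nat.card H).Coprime (Nat.card K)
  · exact Or.inr h
  · left
    obtain ⟨p, hp, hpH, hpK⟩ := Nat.Prime.not_coprime_iff_dvd.mp h
    exact hH.conj_of_dvd hCN hK hp hpH hpK

theorem dvd_card_of_pElement {H : Subgroup G} {p : ℕ} (hp : p.Prime) {x : G} (hx : x ∈ H) (hx1 : x ≠ 1)
    (hxp : IsPGroup p (zpowers x)) : p ∣ Nat.card H := by
  have := Fact.mk hp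
  obtain ⟨k, hk⟩ := IsPGroup.iff_card.mp hxp
  have hk0 : k ≠ 0 := by
    rintro rfl
    rw [pow_zero] at hk
    exact hx1 (zpowers_eq_bot.mp (Subgroup.card_eq_one.mp hk))
  have h1 : p ∣ Nat.card (zpowers x) := by rw [hk]; exact dvd_pow_self p hk0
  exact h1.trans (Subgroup.card_dvd_of_le (by rw [zpowers_le]; exact hx))

theorem exists_isMaxNilp_of_comm {x y : G} (hxy : x * y = y * x) : ∃ H, IsMaxNilp H ∧ x ∈ H ∧ y ∈ H := by
  have h1 : Group.IsNilpotent (closure ({x, y} : Set G)) := by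
    apply isNilpotent_of_comm
    have hc : ∀ a ∈ ({x, y} : Set G), ∀ b ∈ ({x, y} : Set G), a * b = b * a := by
      intro a ha b hb
      rcases ha with rfl | ha <;> rcases hb with rfl | hb
      · rfl
      · rw [Set.mem_singleton_iff] at hb; subst hb; exact hxy
      · rw [Set.mem_singleton_iff] at ha; subst ha; exact hxy.symm
      · rw [Set.mem_singleton_iff] at ha hb; subst ha; rw [hb]
    have h2 : ∀ a b : closure ({x, y} : Set G), a * b = b * a := by
      letI := Subgroup.closureCommGroupOfComm hc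
      exact fun a b => mul_comm a b
    intro a ha b hb
    exact congrArg Subtype.val (h2 ⟨a, ha⟩ ⟨b, hb⟩)
  obtain ⟨H, hH, hle⟩ := exists_isMaxNilp_ge h1
  exact ⟨H, hH, hle (subset_closure (by simp)), hle (subset_closure (by simp))⟩

end Cfsg.Agent.Lib.CN
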