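import Cfsg.Agent.Lib.FrobPart

/-!
# The final character-theoretic contradiction, with nilpotent kernels (assembly of helper26's `FrobPart`)
-/

set_option autoImplicit false
open Cfsg

namespace Cfsg.Agent.Lib.CN12

open FrobPart
open Cfsg.Agent.Lib.CharBasic

universe u v

theorem no_partition {G : Type u} [Group G] [Finite G] (hodd : Odd (Nat.card G)) {ι : Type v} [Fintype ι]
    (hι : 2 ≤ Fintype.card ι) (L H : ι → Subgroup G) (hHL : ∀ i, H i < L i) (hH1 : ∀ i, H i ≠ ⊥)
    (hnil : ∀ i, Group.IsNilpotent (H i))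
    (hHn : ∀ i, ∀ x ∈ L i, ∀ h ∈ H i, x * h * x⁻¹ ∈ H i)
    (hfrob : ∀ i, ∀ h ∈ H i, h ≠ 1 → L i ⊓ Subgroup.centralizer ({h} : Set G) ≤ H i)
    (hcop : ∀ i j, i ≠ j → Nat.Coprime (Nat.card (H i)) (Nat.card (H j)))
    (hTI : ∀ i, Cfsg.IsTISubset (H i : Set G) ∧ Subgroup.normalizer (H i : Set G) = L i)
    (hcover : ∀ g : G, g ≠ 1 → ∃ i, ∃ x : G, x * g * x⁻¹ ∈ H i) : False := by
  classical
  have hF : Fintype G := Fintype.ofFinite G
  have hFL : ∀ i, Fintype (L i) := fun i => Fintype.ofFinite _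
  have hex : ∀ i, ∃ (K : Subgroup (L i)) (σ : (L i → ℂ) → (G → ℂ)) (ζ : L i → ℂ), Data (H i) (L i) K σ ζ :=
    fun i => exists_data (H i) (L i) (hodd.of_dvd_nat (Subgroup.card_subgroup_dvd_card _)) (hHL i) (hH1 i)
      (hnil i) (hHn i) (hfrob i) (hTI i).1 (hTI i).2
  choose K σ ζ d using hex
  have hKcard : ∀ i, Nat.card (K i) = Nat.card (H i) := by
    intro i
    rw [(d i).hKH]
    exact Nat.card_congr (Subgroup.subgroupOfEquivOfLe (hHL i).le).toEquiv
  have hdis : ∀ i j, i ≠ j → ∀ g x y : G, x * g * x⁻¹ ∈ H i → y * g * y⁻¹ ∈ H j → g = 1 := by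
    intro i j hij g x y hx hy
    have h1 : orderOf g ∣ Nat.card (H i) := by
      have : orderOf (x * g * x⁻¹) = orderOf g := MulEquiv.orderOf_eq (MulAut.conj x) g
      rw [← this, ← Subgroup.orderOf_mk _ hx]
      exact orderOf_dvd_natCard _
    have h2 : orderOf g ∣ Nat.card (H j) := by
      have : orderOf (y * g * y⁻¹) = orderOf g := MulEquiv.orderOf_eq (MulAut.conj y) g
      rw [← this, ← Subgroup.orderOf_mk _ hy]
      exact orderOf_dvd_natCard _
    exact orderOf_eq_one_iff.mp (Nat.dvd_one.mp ((hcop i j hij) ▸ Nat.dvd_gcd h1 h2))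
  have hcc : ∀ i j, ∃ c : ℤ, i ≠ j → ((∀ x : L j, (x : G) ∈ H j → x ≠ 1 → σ i (ζ i) x = c) ∧
      classInner (σ i (ζ i)) (indFun (L j) (indFun (K j) (fun _ => 1) - ζ j)) = c) := by
    intro i j
    by_cases hij : i = j
    · exact ⟨0, fun h => absurd hij h⟩
    · obtain ⟨c, hc⟩ := exists_const_cross (d i) (d j) (hdis i j hij)
      exact ⟨c, fun _ => hc⟩
  choose c hc using hcc
  have hne : Nonempty ι := by
    rw [← Fintype.card_pos_iff]; omega
  have hidx : ∀ i, (1 : ℝ) < (K i).index := fun i => by exact_mod_cast (d i).one_lt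
  have hpos : ∀ i, (0 : ℝ) < Nat.card (K i) := fun i => by exact_mod_cast Nat.card_pos
  have hGpos : (0 : ℝ) < Nat.card G := by exact_mod_cast Nat.card_pos
  refine numeric (ι := ι) (fun i => ((K i).index : ℝ)) (fun i => (Nat.card (K i) : ℝ)) c hidx ?_ ?_
    (Nat.card G : ℝ) ?_ ?_ ?_ ?_
  · intro i
    exact_mod_cast (d i).hle
  · intro i j hij h
    have h1 : Nat.card (H i) = Nat.card (H j) := by
      rw [← hKcard, ← hKcard]
      exact_mod_cast h
    have h2 := hcop i j hij
    rw [h1, Nat.coprime_self] at h2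
    exact hH1 j (Subgroup.card_eq_one.mp h2)
  · have h1 := sum_partition H L (fun i => (hHL i).le) hcop (fun i => (hTI i).1) hcover
      (fun i => Finset.univ.filter (fun x : L i => (x : G) ∈ H i ∧ x ≠ 1)) (by intro i x; simp)
      (fun _ => 1) (fun _ _ => rfl)
    simp only [Finset.sum_const, nsmul_eq_mul, mul_one] at h1
    have h2 : ∀ i, ((Finset.univ.filter (fun x : L i => (x : G) ∈ H i ∧ x ≠ 1)).card : ℝ) =
        (Nat.card (K i) : ℝ) - 1 := by
      intro i
      have h3 : (Finset.univ.filter (fun x : L i => (x : G) ∈ H i ∧ x ≠ 1)) =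
          (Finset.univ.filter (fun x : L i => x ∈ K i)).erase 1 := by
        ext x
        simp only [Finset.mem_filter, Finset.mem_univ, true_and, Finset.mem_erase]
        rw [(d i).hKH, Subgroup.mem_subgroupOf]
        tauto
      rw [h3, Finset.card_erase_of_mem (by simp [(K i).one_mem])]
      have h4 : (Finset.univ.filter (fun x : L i => x ∈ K i)).card = Nat.card (K i) := by
        rw [Nat.card_eq_fintype_card, Fintype.card_subtype]
      rw [h4, Nat.cast_sub Nat.card_pos]
      simp
    have h3 : ∀ i, ((Subgroup.normalizer (H i : Set G)).index : ℝ) =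
        (Nat.card G : ℝ) / ((K i).index * Nat.card (K i)) := by
      intro i
      rw [(hTI i).2, eq_div_iff (by have := hpos i; have := hidx i; positivity)]
      have h4 := (K i).card_mul_index
      have h5 := (L i).card_mul_index
      have h6 : (((L i).index * ((K i).index * Nat.card (K i)) : ℕ) : ℝ) = (Nat.card G : ℝ) := by
        rw [← h5, ← h4]; congr 1; ring
      exact_mod_cast h6
    simp only [h2, h3] at h1
    rw [Finset.card_univ, ← Nat.card_eq_fintype_card] at h1
    have h7 : (Nat.card G : ℝ) * (∑ i, ((Nat.card (K i) : ℝ) - 1) / ((K i).index * Nat.card (K i))) =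
        (Nat.card G : ℝ) * (1 - 1 / (Nat.card G : ℝ)) := by
      rw [mul_sub, mul_one_div_cancel hGpos.ne', mul_one, eq_sub_iff_add_eq, Finset.mul_sum]
      conv_rhs => rw [h1]
      rw [add_comm]
      congr 1
      refine Finset.sum_congr rfl fun i _ => ?_
      ring
    exact mul_left_cancel₀ hGpos.ne' h7
  · intro i
    exact norm_family hcop hcover d i (c i) (fun j hj => (hc i j (Ne.symm hj)).1)
  · intro i
    exact bessel_family d hdis i (fun j => c j i) (fun j hj => (hc j i hj).2)
  · intro i j hij h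
    exact not_both_zero hodd (d i) (d j) (hdis i j hij) (hc i j hij).2 (hc j i (Ne.symm hij)).2 h

end Cfsg.Agent.Lib.CN12
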