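import Cfsg.Agent.Lib.CN1

/-!
# CN-groups, second part: maximal nilpotent subgroups
-/

set_option autoImplicit false
open Cfsg

namespace Cfsg.Agent.Lib.CN

open Subgroup

variable {G : Type*} [Group G]

/-- An element lies in `A` as soon as all elements of prime power order of the cyclic group it generates do. -/
theorem mem_of_forall_pElement [Finite G] {A : Subgroup G} {y : G}
    (h : ∀ p : ℕ, p.Prime → ∀ w ∈ zpowers y, (∃ k, orderOf w = p ^ k) → w ∈ A) : y ∈ A := by
  classical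
  have h1 : A.subgroupOf (zpowers y) = ⊤ := by
    apply Fitting.eq_top_of_sylow_le
    intro p hp
    have := Fact.mk hp
    obtain ⟨P⟩ : Nonempty (Sylow p (zpowers y)) := inferInstance
    refine ⟨P, ?_, P.not_dvd_index⟩
    intro x hx
    rw [mem_subgroupOf]
    obtain ⟨k, hk⟩ := IsPGroup.iff_orderOf.mp P.2 ⟨x, hx⟩
    rw [orderOf_mk] at hk
    exact h p hp x x.2 ⟨k, by rw [orderOf_coe]; exact hk⟩
  have h2 : (⟨y, mem_zpowers y⟩ : zpowers y) ∈ A.subgroupOf (zpowers y) := by rw [h1]; trivial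
  exact mem_subgroupOf.mp h2

theorem le_of_forall_pElement [Finite G] {A B : Subgroup G}
    (h : ∀ p : ℕ, p.Prime → ∀ w ∈ B, (∃ k, orderOf w = p ^ k) → w ∈ A) : B ≤ A := by
  intro y hy
  exact mem_of_forall_pElement (fun p hp w hw hk => h p hp w (zpowers_le.mpr hy hw) hk)

theorem isNilpotent_of_comm {A : Subgroup G} (h : ∀ a ∈ A, ∀ b ∈ A, a * b = b * a) :
    Group.IsNilpotent A := by
  letI : CommGroup A := { (inferInstance : Group A) with
    mul_comm := fun a b => Subtype.ext (h a a.2 b b.2) }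
  exact CommGroup.isNilpotent

theorem isNilpotent_zpowers (x : G) : Group.IsNilpotent (zpowers x) := by
  apply isNilpotent_of_comm
  intro a ha b hb
  obtain ⟨i, rfl⟩ := mem_zpowers_iff.mp ha
  obtain ⟨j, rfl⟩ := mem_zpowers_iff.mp hb
  exact ((Commute.refl x).zpow_zpow i j).eq

/-- Maximal nilpotent subgroups. -/
def IsMaxNilp (H : Subgroup G) : Prop :=
  Group.IsNilpotent H ∧ ∀ L : Subgroup G, Group.IsNilpotent L → H ≤ L → L = H

theorem exists_isMaxNilp_ge [Finite G] {A : Subgroup G} (hA : Group.IsNilpotent A) :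
    ∃ H, IsMaxNilp H ∧ A ≤ H := by
  obtain ⟨H, hAH, hH⟩ := Set.Finite.exists_le_maximal (s := {L : Subgroup G | Group.IsNilpotent L})
    (Set.toFinite _) hA
  exact ⟨H, ⟨hH.prop, fun L hL hHL => le_antisymm (hH.le_of_ge hL hHL) hHL⟩, hAH⟩

theorem IsMaxNilp.map_conj {H : Subgroup G} (hH : IsMaxNilp H) (g : G) :
    IsMaxNilp (H.map (MulAut.conj g).toMonoidHom) := by
  refine ⟨isNilpotent_map _ hH.1, fun L hL hHL => ?_⟩
  have h1 : H ≤ L.map (MulAut.conj g⁻¹).toMonoidHom := by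
    intro x hx
    rw [RelSylow.mem_conj_iff, inv_inv]
    apply hHL
    rw [RelSylow.mem_conj_iff]
    have : g⁻¹ * (g * x * g⁻¹) * g = x := by group
    rwa [this]
  have h2 := hH.2 _ (isNilpotent_map _ hL) h1
  rw [← h2, RelSylow.conj_conj, mul_inv_cancel, RelSylow.conj_one]

/-- In a finite nilpotent subgroup `H` of order divisible by `p` there is a central element of order `p`. -/
theorem exists_central_of_dvd [Finite G] {H : Subgroup G} (hH : Group.IsNilpotent H) {p : ℕ}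
    [hp : Fact p.Prime] (hd : p ∣ Nat.card H) :
    ∃ z ∈ H, orderOf z = p ∧ ∀ h ∈ H, h * z = z * h := by
  classical
  obtain ⟨P⟩ : Nonempty (Sylow p H) := inferInstance
  have hPn : (P : Subgroup H).Normal :=
    Sylow.normal_of_normalizerCondition (Group.normalizerCondition_of_isNilpotent) P
  have hP1 : (P : Subgroup H) ≠ ⊥ := P.ne_bot_of_dvd_card hd
  obtain ⟨z, hzP, hzc, hz1⟩ := Cores.exists_mem_center_of_normal (G := H) (K := P) hPn hP1
  obtain ⟨k, hk⟩ := IsPGroup.iff_orderOf.mp P.2 ⟨z, hzP⟩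
  rw [orderOf_mk] at hk
  have hk0 : k ≠ 0 := by
    rintro rfl
    rw [pow_zero, orderOf_eq_one_iff] at hk
    exact hz1 hk
  have hdz : p ∣ orderOf z := by rw [hk]; exact dvd_pow_self p hk0
  set z' := z ^ (orderOf z / p) with hz'
  have hz'o : orderOf z' = p := orderOf_pow_orderOf_div (orderOf_pos z).ne' hdz
  refine ⟨z', z'.2, by rw [orderOf_coe]; exact hz'o, fun h hh => ?_⟩
  have h1 : Commute (⟨h, hh⟩ : H) z := Subgroup.mem_center_iff.mp hzc ⟨h, hh⟩
  exact congrArg Subtype.val (h1.pow_right _).eq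

/-- In a finite nontrivial nilpotent subgroup there is a nontrivial central element. -/
theorem exists_central [Finite G] {H : Subgroup G} (hH : Group.IsNilpotent H) (hH1 : H ≠ ⊥) :
    ∃ z ∈ H, z ≠ 1 ∧ ∀ h ∈ H, h * z = z * h := by
  have h1 : Nat.card H ≠ 1 := by
    intro h
    exact hH1 (Subgroup.card_eq_one.mp h)
  obtain ⟨p, hp, hpd⟩ := Nat.exists_prime_and_dvd h1
  have := Fact.mk hp
  obtain ⟨z, hz, hzo, hzc⟩ := exists_central_of_dvd hH hpd
  refine ⟨z, hz, ?_, hzc⟩
  rintro rfl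
  rw [orderOf_one] at hzo
  exact hp.one_lt.ne hzo

theorem IsMaxNilp.centralizer_eq (hCN : IsCNGroup G) {H : Subgroup G} (hH : IsMaxNilp H) {z : G}
    (hz1 : z ≠ 1) (hc : ∀ h ∈ H, h * z = z * h) : centralizer ({z} : Set G) = H :=
  hH.2 _ (hCN z hz1) (fun h hh => mem_centralizer_singleton_iff.mpr (hc h hh))

theorem IsMaxNilp.ne_bot [Finite G] [Nontrivial G] {H : Subgroup G} (hH : IsMaxNilp H) : H ≠ ⊥ := by
  rintro rfl
  obtain ⟨x, hx⟩ := exists_ne (1 : G)
  have h1 : Group.IsNilpotent (zpowers x) := isNilpotent_zpowers x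
  have h2 := hH.2 _ h1 bot_le
  exact hx (zpowers_eq_bot.mp h2)

/-- A Sylow subgroup of a nilpotent subgroup contains all `p`-elements. -/
theorem mem_of_isSyl [Finite G] {H P : Subgroup G} (hH : Group.IsNilpotent H) {p : ℕ}
    [hp : Fact p.Prime] (hP : RelSylow.IsSyl p P H) {x : G} (hx : x ∈ H) (hxp : ∃ k, orderOf x = p ^ k) :
    x ∈ P := by
  obtain ⟨Q, hQ1, hQ2⟩ := hP.exists_sylow
  have hQn : (Q : Subgroup H).Normal :=
    Sylow.normal_of_normalizerCondition (Group.normalizerCondition_of_isNilpotent) Q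
  have h1 : IsPGroup p (zpowers (⟨x, hx⟩ : H)) := by
    obtain ⟨k, hk⟩ := hxp
    exact IsPGroup.of_card (n := k) (by rw [Nat.card_zpowers, orderOf_mk]; exact hk)
  obtain ⟨g, hg⟩ := h1.exists_le_sylow
  have h2 : g = Q := by
    letI := Q.unique_of_normal hQn
    exact Subsingleton.elim _ _
  have h3 : (⟨x, hx⟩ : H) ∈ (Q : Subgroup H) := h2 ▸ hg (mem_zpowers _)
  rw [← hQ1]
  exact ⟨⟨x, hx⟩, h3, rfl⟩

/-- Maximal nilpotent subgroups of CN-groups are Hall subgroups: they contain a Sylow subgroup of the whole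
group for each prime dividing their order. -/
theorem IsMaxNilp.exists_isSyl_top [Finite G] (hCN : IsCNGroup G) {H : Subgroup G} (hH : IsMaxNilp H) {p : ℕ}
    [hp : Fact p.Prime] (hd : p ∣ Nat.card H) : ∃ P, P ≤ H ∧ RelSylow.IsSyl p P ⊤ := by
  classical
  obtain ⟨z, hz, hzo, hzc⟩ := exists_central_of_dvd hH.1 hd
  have hz1 : z ≠ 1 := by
    rintro rfl
    rw [orderOf_one] at hzo
    exact hp.out.one_lt.ne hzo
  obtain ⟨P, hP⟩ := RelSylow.exists_syl p H
  obtain ⟨P₁, hPP₁, hP₁⟩ := RelSylow.exists_isSyl_ge (H := ⊤) hP.2.1 le_top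
  have hzP : z ∈ P := mem_of_isSyl hH.1 hP hz ⟨1, by rw [hzo, pow_one]⟩
  have hP₁n : Group.IsNilpotent P₁ := hP₁.2.1.isNilpotent
  have hP₁1 : P₁ ≠ ⊥ := by
    intro h
    have := hPP₁ hzP
    rw [h, mem_bot] at this
    exact hz1 this
  obtain ⟨z₁, hz₁P, hz₁1, hz₁c⟩ := exists_central hP₁n hP₁1
  have hCz := hH.centralizer_eq hCN hz1 hzc
  have hz₁H : z₁ ∈ H := by
    rw [← hCz, mem_centralizer_singleton_iff]
    exact (hz₁c z (hPP₁ hzP)).symm
  have hHz₁ : ∀ h ∈ H, h * z₁ = z₁ * h := by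
    have h1 : H ≤ centralizer ({z₁} : Set G) := by
      apply le_of_forall_pElement
      intro q hq w hw hwk
      rw [mem_centralizer_singleton_iff]
      by_cases hqp : q = p
      · subst hqp
        exact hz₁c w (hPP₁ (mem_of_isSyl hH.1 hP hw hwk))
      · obtain ⟨k, hk⟩ := hwk
        obtain ⟨j, hj⟩ := IsPGroup.iff_orderOf.mp hP₁.2.1 ⟨z₁, hz₁P⟩
        rw [orderOf_mk] at hj
        refine H23Nilp.commute_of_coprime_of_mem hH.1 hw hz₁H ?_
        rw [hk, hj]
        exact Nat.Coprime.pow _ _ ((Nat.coprime_primes hq hp.out).mpr hqp)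
    intro h hh
    exact mem_centralizer_singleton_iff.mp (h1 hh)
  have hCz₁ := hH.centralizer_eq hCN hz₁1 hHz₁
  refine ⟨P₁, ?_, hP₁⟩
  rw [← hCz₁]
  intro x hx
  exact mem_centralizer_singleton_iff.mpr (hz₁c x hx)

theorem not_dvd_index_of_isSyl_top [Finite G] {P H : Subgroup G} {p : ℕ} [Fact p.Prime]
    (hP : RelSylow.IsSyl p P ⊤) (hPH : P ≤ H) : ¬ p ∣ H.index := by
  obtain ⟨Q, hQ⟩ := hP.toSylow
  intro h
  apply Q.not_dvd_index
  rw [hQ]
  exact h.trans (index_dvd_of_le hPH)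

theorem IsMaxNilp.coprime_index [Finite G] (hCN : IsCNGroup G) {H : Subgroup G} (hH : IsMaxNilp H) :
    (Nat.card H).Coprime H.index := by
  apply Nat.coprime_of_dvd
  intro p hp h1 h2
  have := Fact.mk hp
  obtain ⟨P, hPH, hP⟩ := hH.exists_isSyl_top hCN h1
  exact not_dvd_index_of_isSyl_top hP hPH h2

/-- If the order of the maximal nilpotent subgroup is not a prime power, centralizers of its elements lie
in it. -/
theorem IsMaxNilp.centralizer_le_of_not_primePow [Finite G] (hCN : IsCNGroup G) {H : Subgroup G}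
    (hH : IsMaxNilp H) (hnp : ¬ IsPrimePow (Nat.card H)) {x : G} (hx : x ∈ H) (hx1 : x ≠ 1) :
    centralizer ({x} : Set G) ≤ H := by
  classical
  have hxo : orderOf x ≠ 1 := fun h => hx1 (orderOf_eq_one_iff.mp h)
  obtain ⟨p, hp, hpx⟩ := Nat.exists_prime_and_dvd hxo
  have := Fact.mk hp
  have hpH : p ∣ Nat.card H := hpx.trans (by
    have := orderOf_dvd_natCard (⟨x, hx⟩ : H)
    rwa [orderOf_mk] at this)
  obtain ⟨q, hq, hqp, hqH⟩ : ∃ q : ℕ, q.Prime ∧ q ≠ p ∧ q ∣ Nat.card H := by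
    by_contra hcon
    push Not at hcon
    apply hnp
    have h1 : ∀ q : ℕ, q.Prime → q ∣ Nat.card H → q = p := fun q hq hqd => by
      by_contra h
      exact hcon q hq h hqd
    have h2 := Nat.eq_prime_pow_of_unique_prime_dvd (n := Nat.card H) Nat.card_pos.ne' (fun {q} hq hd => h1 q hq hd)
    rw [h2]
    refine hp.isPrimePow.pow ?_
    intro h0
    rw [h0, pow_zero] at h2
    rw [h2] at hpH
    exact hp.one_lt.ne' (Nat.dvd_one.mp hpH)
  have := Fact.mk hq
  obtain ⟨z₁, hz₁, hz₁o, hz₁c⟩ := exists_central_of_dvd hH.1 hpH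
  obtain ⟨z₂, hz₂, hz₂o, hz₂c⟩ := exists_central_of_dvd hH.1 hqH
  have hz₁1 : z₁ ≠ 1 := by
    rintro rfl
    rw [orderOf_one] at hz₁o
    exact hp.one_lt.ne hz₁o
  have hz₂1 : z₂ ≠ 1 := by
    rintro rfl
    rw [orderOf_one] at hz₂o
    exact hq.one_lt.ne hz₂o
  apply le_of_forall_pElement
  rintro r hr w hw ⟨k, hk⟩
  rw [mem_centralizer_singleton_iff] at hw
  by_cases hrp : r = p
  · subst hrp
    rw [← hH.centralizer_eq hCN hz₂1 hz₂c, mem_centralizer_singleton_iff]
    refine comm_of_comm hCN hx1 hw (hz₂c x hx).symm ?_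
    rw [hk, hz₂o]
    exact Nat.Coprime.pow_left _ ((Nat.coprime_primes hr hq).mpr (Ne.symm hqp))
  · rw [← hH.centralizer_eq hCN hz₁1 hz₁c, mem_centralizer_singleton_iff]
    refine comm_of_comm hCN hx1 hw (hz₁c x hx).symm ?_
    rw [hk, hz₁o]
    exact Nat.Coprime.pow_left _ ((Nat.coprime_primes hr hp).mpr hrp)


/-- If `H`, `K` are maximal nilpotent, `x` a nonidentity element of both, and centralizers of nonidentity
elements of `K` lie in `K`, then `H = K`. -/
theorem IsMaxNilp.eq_of_centralizer_le [Finite G] (hCN : IsCNGroup G) {H K : Subgroup G}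
    (hH : IsMaxNilp H) (hK : IsMaxNilp K) (hKc : ∀ x ∈ K, x ≠ 1 → centralizer ({x} : Set G) ≤ K)
    {x : G} (hx : x ∈ H) (hxK : x ∈ K) (hx1 : x ≠ 1) : H = K := by
  have hH1 : H ≠ ⊥ := by
    rintro rfl
    exact hx1 (mem_bot.mp hx)
  obtain ⟨z, hz, hz1, hzc⟩ := exists_central hH.1 hH1
  have hzK : z ∈ K := hKc x hxK hx1 (mem_centralizer_singleton_iff.mpr (hzc x hx).symm)
  have h1 : H ≤ K := by
    rw [← hH.centralizer_eq hCN hz1 hzc]
    exact hKc z hzK hz1
  exact (hH.2 K hK.1 h1).symm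

theorem IsMaxNilp.ti_of_not_primePow [Finite G] (hCN : IsCNGroup G) {H : Subgroup G} (hH : IsMaxNilp H)
    (hnp : ¬ IsPrimePow (Nat.card H)) (g : G) (hg : H.map (MulAut.conj g).toMonoidHom ≠ H) :
    H ⊓ H.map (MulAut.conj g).toMonoidHom = ⊥ := by
  rw [eq_bot_iff]
  rintro x ⟨hx, hxg⟩
  rw [mem_bot]
  by_contra hx1
  apply hg
  have hK := hH.map_conj g
  have hnpK : ¬ IsPrimePow (Nat.card (H.map (MulAut.conj g).toMonoidHom)) := by
    rw [RelSylow.card_conj]; exact hnp
  exact (hH.eq_of_centralizer_le hCN hK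
    (fun y hy hy1 => hK.centralizer_le_of_not_primePow hCN hnpK hy hy1) hx hxg hx1).symm

/-- If the maximal nilpotent subgroup `H` is a trivial intersection subgroup, centralizers of its
nonidentity elements lie in it. -/
theorem IsMaxNilp.centralizer_le_of_ti [Finite G] (hCN : IsCNGroup G) {H : Subgroup G} (hH : IsMaxNilp H)
    (hTI : ∀ g : G, H.map (MulAut.conj g).toMonoidHom ≠ H → H ⊓ H.map (MulAut.conj g).toMonoidHom = ⊥)
    {x : G} (hx : x ∈ H) (hx1 : x ≠ 1) : centralizer ({x} : Set G) ≤ H := by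
  classical
  have hH1 : H ≠ ⊥ := by
    rintro rfl
    exact hx1 (mem_bot.mp hx)
  obtain ⟨z, hz, hz1, hzc⟩ := exists_central hH.1 hH1
  have hCz := hH.centralizer_eq hCN hz1 hzc
  have hL1 : centralizer ({x} : Set G) ≠ ⊥ := by
    intro h
    have : x ∈ centralizer ({x} : Set G) := mem_centralizer_singleton_iff.mpr rfl
    rw [h, mem_bot] at this
    exact hx1 this
  obtain ⟨u, hu, hu1, huc⟩ := exists_central (hCN x hx1) hL1
  have hzL : z ∈ centralizer ({x} : Set G) := mem_centralizer_singleton_iff.mpr (hzc x hx).symm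
  have huH : u ∈ H := by
    rw [← hCz, mem_centralizer_singleton_iff]
    exact (huc z hzL).symm
  have hnorm : centralizer ({x} : Set G) ≤ normalizer (H : Set G) := by
    intro y hy
    rw [RelSylow.mem_normalizer_iff_map]
    by_contra hne
    have h1 := hTI y hne
    have h2 : u ∈ H ⊓ H.map (MulAut.conj y).toMonoidHom := by
      refine ⟨huH, RelSylow.mem_conj_iff.mpr ?_⟩
      have h3 := huc y hy
      have h4 : y⁻¹ * u * y = u := by
        rw [mul_assoc, ← h3]; group
      rw [h4]; exact huH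
    rw [h1, mem_bot] at h2
    exact hu1 h2
  apply le_of_forall_pElement
  rintro r hr w hw ⟨k, hk⟩
  have := Fact.mk hr
  by_cases hrH : r ∣ Nat.card H
  · -- w normalizes H and is an r-element with r dividing |H|
    obtain ⟨P, hPH, hP⟩ := hH.exists_isSyl_top hCN hrH
    have hwN := hnorm hw
    have hPN : RelSylow.IsSyl r P (normalizer (H : Set G)) :=
      hP.of_le (hPH.trans le_normalizer) le_top
    have hwp : IsPGroup r (zpowers w) := IsPGroup.of_card (n := k) (by rw [Nat.card_zpowers]; exact hk)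
    obtain ⟨n, hn, hle⟩ := hPN.exists_conj_le hwp (by rw [zpowers_le]; exact hwN)
    have h5 : w ∈ P.map (MulAut.conj n).toMonoidHom := hle (mem_zpowers w)
    have h6 : P.map (MulAut.conj n).toMonoidHom ≤ H.map (MulAut.conj n).toMonoidHom := map_mono hPH
    have h7 := h6 h5
    rwa [RelSylow.conj_eq_of_mem_normalizer hn] at h7
  · -- w has order prime to |H|
    rw [← hCz, mem_centralizer_singleton_iff]
    refine comm_of_comm hCN hx1 (mem_centralizer_singleton_iff.mp hw) (hzc x hx).symm ?_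
    rw [hk]
    apply Nat.Coprime.pow_left
    rw [Nat.Prime.coprime_iff_not_dvd hr]
    intro h
    apply hrH
    have := orderOf_dvd_natCard (⟨z, hz⟩ : H)
    rw [orderOf_mk] at this
    exact h.trans this

end Cfsg.Agent.Lib.CN
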