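import Cfsg.Agent.Lib.CN2
import Cfsg.Agent.Lib.FrobAction2
import Cfsg.Agent.Lib.FrobAction3

/-!
# CN-groups, third part: CN-groups with a normal Sylow subgroup are Frobenius groups
-/

set_option autoImplicit false
open Cfsg

namespace Cfsg.Agent.Lib.CN

open Subgroup

variable {G : Type*} [Group G]

theorem orderOf_dvd_card_of_mem {H : Subgroup G} {y : G} (hy : y ∈ H) : orderOf y ∣ Nat.card H := by
  have := orderOf_dvd_natCard (⟨y, hy⟩ : H)
  rwa [orderOf_mk] at this

/-- A normal subgroup of order coprime to its index contains all `q`-elements for `q ∣ |H|`. -/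
theorem mem_of_hall_normal [Finite G] {H : Subgroup G} [hHn : H.Normal] (hc : (Nat.card H).Coprime H.index)
    {q : ℕ} (hq : q.Prime) (hqH : q ∣ Nat.card H) {w : G} (hw : ∃ k, orderOf w = q ^ k) : w ∈ H := by
  obtain ⟨k, hk⟩ := hw
  rw [← QuotientGroup.eq_one_iff, ← orderOf_eq_one_iff]
  have h1 : orderOf (w : G ⧸ H) ∣ q ^ k := by
    rw [← hk]; exact orderOf_map_dvd (QuotientGroup.mk' H) w
  have h2 : orderOf (w : G ⧸ H) ∣ H.index := orderOf_dvd_natCard _
  have h3 : Nat.Coprime (q ^ k) H.index := Nat.Coprime.pow_left _ (Nat.Coprime.coprime_dvd_left hqH hc)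
  exact Nat.eq_one_of_dvd_coprimes h3 h1 h2

/-- The Sylow `q`-subgroup of a normal nilpotent subgroup, as a normal subgroup of the whole group. -/
theorem exists_normal_syl [Finite G] {C : Subgroup G} [hCn : C.Normal] (hC : Group.IsNilpotent C) (q : ℕ)
    [hq : Fact q.Prime] : ∃ Q : Subgroup G, Q.Normal ∧ Q ≤ C ∧ IsPGroup q Q ∧
      ∀ x ∈ C, (∃ k, orderOf x = q ^ k) → x ∈ Q := by
  obtain ⟨S⟩ : Nonempty (Sylow q C) := inferInstance
  have hSn : (S : Subgroup C).Normal :=
    Sylow.normal_of_normalizerCondition (Group.normalizerCondition_of_isNilpotent) S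
  have hSc : (S : Subgroup C).Characteristic := S.characteristic_of_normal hSn
  refine ⟨(S : Subgroup C).map C.subtype, Fitting.normal_map_subtype_of_characteristic hSc,
    map_subtype_le _, S.2.map _, fun x hx hxk => ?_⟩
  exact mem_of_isSyl hC (RelSylow.isSyl_of_sylow S) hx hxk

theorem not_dvd_of_pElement {q k : ℕ} (hq : q.Prime) {n : ℕ} (hn : ¬ q ∣ n) {d : ℕ} (hd : d ∣ n) :
    Nat.Coprime (q ^ k) d :=
  Nat.Coprime.pow_left _ ((Nat.Prime.coprime_iff_not_dvd hq).mpr (fun h => hn (h.trans hd)))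

/-- In a finite CN-group, centralizers of nonidentity elements of `H = fittingHall G` lie in `H`. -/
theorem centralizer_le_fittingHall [Finite G] (hCN : IsCNGroup G) {x : G} (hx : x ∈ fittingHall G)
    (hx1 : x ≠ 1) : centralizer ({x} : Set G) ≤ fittingHall G := by
  classical
  set H := fittingHall G with hHdef
  obtain ⟨hHn, hHnil, hHc⟩ := H23Nilp.fittingHall_spec (G := G)
  rw [← hHdef] at hHn hHnil hHc
  apply le_of_forall_pElement
  rintro q hq e he ⟨k, hk⟩
  have := Fact.mk hq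
  rw [mem_centralizer_singleton_iff] at he
  by_cases hqH : q ∣ Nat.card H
  · exact mem_of_hall_normal hHc hq hqH ⟨k, hk⟩
  by_contra heH
  have he1 : e ≠ 1 := by
    rintro rfl
    exact heH (one_mem _)
  -- a prime dividing the order of x
  have hxo : orderOf x ≠ 1 := fun h => hx1 (orderOf_eq_one_iff.mp h)
  obtain ⟨r, hr, hrx⟩ := Nat.exists_prime_and_dvd hxo
  have := Fact.mk hr
  have hrH : r ∣ Nat.card H := hrx.trans (orderOf_dvd_card_of_mem hx)
  obtain ⟨z, hz, hzo, hzc⟩ := exists_central_of_dvd hHnil hrH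
  have hz1 : z ≠ 1 := by
    rintro rfl
    rw [orderOf_one] at hzo
    exact hr.one_lt.ne hzo
  have hez : e * z = z * e := by
    refine comm_of_comm hCN hx1 he (hzc x hx).symm ?_
    rw [hk]
    exact not_dvd_of_pElement hq hqH (orderOf_dvd_card_of_mem hz)
  have heH' : ∀ y ∈ H, y * e = e * y := by
    intro y hy
    refine (comm_of_comm hCN hz1 hez (hzc y hy) ?_).symm
    rw [hk]
    exact not_dvd_of_pElement hq hqH (orderOf_dvd_card_of_mem hy)
  set C := centralizer (H : Set G) with hCdef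
  have hCn : C.Normal := inferInstance
  have heC : e ∈ C := mem_centralizer_iff.mpr heH'
  have hCnil : Group.IsNilpotent C := by
    refine isNilpotent_of_le_centralizer hCN hz1 ?_
    intro y hy
    exact mem_centralizer_singleton_iff.mpr (mem_centralizer_iff.mp hy z hz).symm
  obtain ⟨Q, hQn, hQC, hQp, hQmem⟩ := exists_normal_syl hCnil q
  have heQ : e ∈ Q := hQmem e heC ⟨k, hk⟩
  obtain ⟨Q₁⟩ : Nonempty (Sylow q G) := inferInstance
  have hQQ₁ : Q ≤ Q₁ := hQp.le_sylow_of_normal Q₁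
  have hQ₁n : Group.IsNilpotent Q₁ := Q₁.2.isNilpotent
  obtain ⟨u, huQ, huc, hu1⟩ := Cores.exists_mem_center_of_normal (G := Q₁) (K := Q.subgroupOf Q₁)
    inferInstance (by
      intro h
      have : (⟨e, hQQ₁ heQ⟩ : Q₁) ∈ Q.subgroupOf Q₁ := mem_subgroupOf.mpr heQ
      rw [h, mem_bot] at this
      exact he1 (congrArg Subtype.val this))
  have hu1' : (u : G) ≠ 1 := fun h => hu1 (Subtype.ext h)
  have huC : (u : G) ∈ C := hQC (mem_subgroupOf.mp huQ)
  have hQ₁C : (Q₁ : Subgroup G) ≤ C := by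
    intro w hw
    rw [hCdef, mem_centralizer_iff]
    intro y hy
    refine (comm_of_comm hCN hu1' (x := w) (y := y) ?_ ?_ ?_).symm
    · exact congrArg Subtype.val (Subgroup.mem_center_iff.mp huc ⟨w, hw⟩)
    · exact mem_centralizer_iff.mp huC y hy
    · obtain ⟨j, hj⟩ := IsPGroup.iff_orderOf.mp Q₁.2 ⟨w, hw⟩
      rw [orderOf_mk] at hj
      rw [hj]
      exact not_dvd_of_pElement hq hqH (orderOf_dvd_card_of_mem hy)
  have hQ₁Q : (Q₁ : Subgroup G) ≤ Q := by
    intro w hw
    refine hQmem w (hQ₁C hw) ?_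
    obtain ⟨j, hj⟩ := IsPGroup.iff_orderOf.mp Q₁.2 ⟨w, hw⟩
    rw [orderOf_mk] at hj
    exact ⟨j, hj⟩
  have hEq : Q = Q₁ := le_antisymm hQQ₁ hQ₁Q
  have hQnil : Group.IsNilpotent Q := H23Nilp.isNilpotent_of_le hQC hCnil
  have hQcop : (Nat.card Q).Coprime Q.index := by
    rw [hEq]
    exact Q₁.card_coprime_index
  have hQH : Q ≤ H := H23Nilp.le_fittingHall hQn hQnil hQcop
  exact heH (hQH heQ)

/-- In a finite CN-group which is not nilpotent but has a nontrivial normal Sylow subgroup, `fittingHall G` is the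
kernel of a Frobenius group with nilpotent complement. -/
theorem frobenius_of_normal_sylow [Finite G] (hCN : IsCNGroup G) (hnn : ¬ Group.IsNilpotent G)
    (hne : fittingHall G ≠ ⊥) :
    fittingHall G ≠ ⊤ ∧
      (∃ E : Subgroup G, Subgroup.IsComplement' (fittingHall G) E ∧ IsFrobeniusComplement E ∧
        (∀ e ∈ E, e ≠ 1 → fittingHall G ⊓ Subgroup.centralizer ({e} : Set G) = ⊥) ∧
        Group.IsNilpotent E) ∧
      Group.IsNilpotent (G ⧸ fittingHall G) := by
  obtain ⟨hHn, hHnil, hHc⟩ := H23Nilp.fittingHall_spec (G := G)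
  have hK : ∀ x ∈ fittingHall G, x ≠ 1 → centralizer ({x} : Set G) ≤ fittingHall G :=
    fun x hx hx1 => centralizer_le_fittingHall hCN hx hx1
  set H := fittingHall G with hHdef
  have hHtop : H ≠ ⊤ := by
    intro h
    apply hnn
    rw [h] at hHnil
    exact Group.nilpotent_of_mulEquiv Subgroup.topEquiv
  obtain ⟨E, hE⟩ := Subgroup.exists_right_complement'_of_coprime hHc
  have hE1 : E ≠ ⊥ := by
    rintro rfl
    exact hHtop (isComplement'_bot_right.mp hE)
  have hfpf : ∀ e ∈ E, e ≠ 1 → H ⊓ Subgroup.centralizer ({e} : Set G) = ⊥ := by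
    intro e he he1
    rw [eq_bot_iff]
    rintro x ⟨hxH, hxe⟩
    rw [mem_bot]
    by_contra hx1
    have h1 : e ∈ H := hK x hxH hx1 (mem_centralizer_singleton_iff.mpr
      (mem_centralizer_singleton_iff.mp hxe).symm)
    have h2 : e ∈ H ⊓ E := ⟨h1, he⟩
    rw [hE.disjoint.eq_bot, mem_bot] at h2
    exact he1 h2
  have hF : IsFrobeniusComplement E := (FrobGroup.isFrobeniusComplement_iff hE hne hE1).mpr hfpf
  have hEnil : Group.IsNilpotent E := by
    obtain ⟨V, act, -, hV1, hVab, hact⟩ := FrobAction2.exists_fpf_action hE hne hfpf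
    let _ : CommGroup V := { (inferInstance : Group V) with
      mul_comm := fun a b => Subtype.ext (hVab a a.2 b b.2) }
    have : Nontrivial V := (Subgroup.nontrivial_iff_ne_bot V).2 hV1
    have : Nontrivial E := (Subgroup.nontrivial_iff_ne_bot E).2 hE1
    obtain ⟨z, hz1, hz⟩ := FrobAction3.exists_central (act := act) hact
    exact isNilpotent_of_central (subgroup hCN E) hz1 hz
  refine ⟨hHtop, ⟨E, hE, hF, hfpf, hEnil⟩, ?_⟩
  exact Group.nilpotent_of_mulEquiv hE.symm.QuotientMulEquiv.symm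

end Cfsg.Agent.Lib.CN
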