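import Cfsg.Agent.Lib.CN3
import Cfsg.Agent.Lib.Supersolvable
import Mathlib.GroupTheory.SpecificGroups.ZGroup

/-!
# CN-groups, fourth part: solvable CN-groups
-/

set_option autoImplicit false
open Cfsg

namespace Cfsg.Agent.Lib.CN

open Subgroup

variable {G : Type*} [Group G]

/-- Nilpotent groups acting fixed-point-freely on abelian groups. -/
theorem nilpotent_fpf_structure {A V : Type*} [Group A] [CommGroup V] [Finite A] [Finite V] [Nontrivial V]
    {act : A →* MulAut V} (hf : FrobAction.IsFPF act) (hn : Group.IsNilpotent A) :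
    IsCyclic A ∨ ∃ C Q : Subgroup A, C ⊔ Q = ⊤ ∧ (∀ a ∈ C, ∀ b ∈ Q, a * b = b * a) ∧ IsCyclic C ∧
      Odd (Nat.card C) ∧ ∃ n : ℕ, Nonempty (↥Q ≃* QuaternionGroup (2 ^ n)) := by
  classical
  by_cases hZ : IsZGroup A
  · exact Or.inl inferInstance
  right
  rw [isZGroup_iff] at hZ
  push Not at hZ
  obtain ⟨p, hp, P, hP⟩ := hZ
  have := Fact.mk hp
  have hPf := hf.comp (P : Subgroup A).subtype (P : Subgroup A).subtype_injective
  rcases FrobAction.pgroup_cyclic_or_quaternion hPf (p := p) P.2 with h | ⟨h2, n, -, hn'⟩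
  · exact absurd h hP
  subst h2
  have hCc : (Nat.card (pPrimeCore 2 A)).Coprime 2 := Cores.coprime_card_pPrimeCore 2 A
  have hCodd : Odd (Nat.card (pPrimeCore 2 A)) := Nat.coprime_two_right.mp hCc
  have hCf := hf.comp (pPrimeCore 2 A).subtype (pPrimeCore 2 A).subtype_injective
  have hCZ : IsZGroup (pPrimeCore 2 A) := FrobAction3.isZGroup_of_odd hCf
    (fun h => (Nat.not_even_iff_odd.mpr hCodd) (even_iff_two_dvd.mpr h))
  refine ⟨pPrimeCore 2 A, P, ?_, ?_, inferInstance, hCodd, n, hn'⟩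
  · apply Fitting.eq_top_of_sylow_le
    intro q hq
    have := Fact.mk hq
    by_cases hq2 : q = 2
    · subst hq2
      exact ⟨P, le_sup_right, P.not_dvd_index⟩
    · obtain ⟨R⟩ : Nonempty (Sylow q A) := inferInstance
      refine ⟨R, le_trans ?_ le_sup_left, R.not_dvd_index⟩
      have hRn : (R : Subgroup A).Normal :=
        Sylow.normal_of_normalizerCondition (Group.normalizerCondition_of_isNilpotent) R
      apply Cores.le_pPrimeCore hRn
      obtain ⟨k, hk⟩ := IsPGroup.iff_card.mp R.2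
      rw [hk]
      exact Nat.Coprime.pow_left _ ((Nat.coprime_primes hq Nat.prime_two).mpr hq2)
  · intro a ha b hb
    apply H23Nilp.commute_of_coprime_orderOf A
    obtain ⟨k, hk⟩ := IsPGroup.iff_orderOf.mp P.2 ⟨b, hb⟩
    rw [orderOf_mk] at hk
    rw [hk]
    exact Nat.Coprime.pow_right _ (Nat.Coprime.coprime_dvd_left (orderOf_dvd_card_of_mem ha) hCc)

/-- Solvable CN-groups without nontrivial normal Sylow subgroups. -/
theorem struct_of_fittingHall_eq_bot [Finite G] [hs : Group.IsSolvable G] [Nontrivial G] (hCN : IsCNGroup G)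
    (h0 : fittingHall G = ⊥) : ∃ p : ℕ, p.Prime ∧ pCore p G ≠ ⊥ ∧
      centralizer (pCore p G : Set G) ≤ pCore p G ∧ fittingSubgroup G = pCore p G := by
  classical
  have hF1 : fittingSubgroup G ≠ ⊥ := Cores.fittingSubgroup_ne_bot
  have h1 : ∃ p : ℕ, p.Prime ∧ pCore p G ≠ ⊥ := by
    by_contra hcon
    push Not at hcon
    apply hF1
    rw [Cores.fittingSubgroup_eq_iSup, iSup_eq_bot]
    intro p
    exact hcon p p.2
  obtain ⟨p, hp, hp1⟩ := h1
  have := Fact.mk hp
  have hq : ∀ q : ℕ, q.Prime → q ≠ p → pCore q G = ⊥ := by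
    intro q hq hqp
    have := Fact.mk hq
    by_contra hq1
    obtain ⟨P⟩ : Nonempty (Sylow p G) := inferInstance
    have hPnil : Group.IsNilpotent P := P.2.isNilpotent
    have hOP : pCore p G ≤ P := Cores.pCore_le_sylow P
    obtain ⟨z, hzO, hzc, hz1⟩ := Cores.exists_mem_center_of_normal (G := P) (K := (pCore p G).subgroupOf P)
      inferInstance (by
        intro h
        apply hp1
        rw [eq_bot_iff]
        intro a ha
        have : (⟨a, hOP ha⟩ : P) ∈ (pCore p G).subgroupOf P := mem_subgroupOf.mpr ha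
        rw [h, mem_bot] at this
        rw [mem_bot]
        exact congrArg Subtype.val this)
    have hz1' : (z : G) ≠ 1 := fun h => hz1 (Subtype.ext h)
    have hzO' : (z : G) ∈ pCore p G := mem_subgroupOf.mp hzO
    -- elements of O_q commute with elements of O_p
    have hpel : ∀ x ∈ (P : Subgroup G), ∃ k, orderOf x = p ^ k := by
      intro x hx
      obtain ⟨k, hk⟩ := IsPGroup.iff_orderOf.mp P.2 ⟨x, hx⟩
      rw [orderOf_mk] at hk
      exact ⟨k, hk⟩
    have hqel : ∀ x ∈ pCore q G, ∃ k, orderOf x = q ^ k := by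
      intro x hx
      obtain ⟨k, hk⟩ := IsPGroup.iff_orderOf.mp (Cores.isPGroup_pCore q G) ⟨x, hx⟩
      rw [orderOf_mk] at hk
      exact ⟨k, hk⟩
    have hcp : ∀ a b : ℕ, Nat.Coprime (q ^ a) (p ^ b) := fun a b =>
      Nat.Coprime.pow _ _ ((Nat.coprime_primes hq hp).mpr hqp)
    have hOO : ∀ x ∈ pCore p G, ∀ y ∈ pCore q G, y * x = x * y := by
      intro x hx y hy
      have h1 : ⁅pCore p G, pCore q G⁆ = ⊥ := by
        rw [eq_bot_iff]
        refine (Subgroup.commutator_le_inf _ _).trans ?_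
        rintro w ⟨hw1, hw2⟩
        obtain ⟨a, ha⟩ := hpel w (hOP hw1)
        obtain ⟨b, hb⟩ := hqel w hw2
        have h3 := hcp b a
        rw [← ha, ← hb, Nat.coprime_self, orderOf_eq_one_iff] at h3
        rw [mem_bot]; exact h3
      rw [Subgroup.commutator_eq_bot_iff_le_centralizer] at h1
      exact mem_centralizer_iff.mp (h1 hx) y hy
    have hPO : ∀ x ∈ (P : Subgroup G), ∀ y ∈ pCore q G, y * x = x * y := by
      intro x hx y hy
      obtain ⟨a, ha⟩ := hpel x hx
      obtain ⟨b, hb⟩ := hqel y hy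
      refine comm_of_comm hCN hz1' (hOO z hzO' y hy) ?_ (by rw [ha, hb]; exact hcp b a)
      exact congrArg Subtype.val (Subgroup.mem_center_iff.mp hzc ⟨x, hx⟩)
    have hOqn : (pCore q G).Normal := Subgroup.normal_of_characteristic _
    set C := centralizer (pCore q G : Set G) with hC
    have hCn : C.Normal := inferInstance
    obtain ⟨u, huO, hu1⟩ := (pCore q G).bot_or_exists_ne_one.resolve_left hq1
    have hCnil : Group.IsNilpotent C := isNilpotent_of_le_centralizer hCN hu1 (fun y hy =>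
      mem_centralizer_singleton_iff.mpr (mem_centralizer_iff.mp hy u huO).symm)
    have hPC : (P : Subgroup G) ≤ C := fun x hx => mem_centralizer_iff.mpr (hPO x hx)
    obtain ⟨Q, hQn, hQC, hQp, hQmem⟩ := exists_normal_syl hCnil p
    have hPQ : (P : Subgroup G) = Q := by
      apply le_antisymm
      · intro x hx
        exact hQmem x (hPC hx) (hpel x hx)
      · exact hQp.le_sylow_of_normal P
    have hPH : (P : Subgroup G) ≤ fittingHall G :=
      H23Nilp.le_fittingHall (hPQ ▸ hQn) hPnil P.card_coprime_index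
    rw [h0, le_bot_iff] at hPH
    rw [hPH, le_bot_iff] at hOP
    exact hp1 hOP
  have hFp : fittingSubgroup G = pCore p G := by
    apply le_antisymm
    · rw [Cores.fittingSubgroup_eq_iSup, iSup_le_iff]
      intro q
      by_cases hqp : (q : ℕ) = p
      · rw [hqp]
      · rw [hq q q.2 hqp]; exact bot_le
    · exact Cores.pCore_le_fittingSubgroup p
  refine ⟨p, hp, hp1, ?_, hFp⟩
  have h2 := Cores.centralizer_fittingSubgroup_le (G := G)
  rwa [hFp] at h2

/-- If `C_G(O_p(G)) ≤ O_p(G) ≠ 1` and `N` is a normal subgroup of `G` containing `O_p(G)` as a Sylow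
`p`-subgroup, then centralizers in `N` of nonidentity elements of `O_p(G)` lie in `O_p(G)`. -/
theorem mem_pCore_of_commute [Finite G] (hCN : IsCNGroup G) (p : ℕ) [hp : Fact p.Prime]
    (hF : centralizer (pCore p G : Set G) ≤ pCore p G) {N : Subgroup G}
    (hFN : pCore p G ≤ N) (hN : ¬ p ∣ (pCore p G).relIndex N) {x : G} (hx : x ∈ pCore p G) (hx1 : x ≠ 1)
    {y : G} (hy : y ∈ N) (hyx : y * x = x * y) : y ∈ pCore p G := by
  classical
  have hFn : (pCore p G).Normal := Subgroup.normal_of_characteristic _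
  have hFp := Cores.isPGroup_pCore p G
  have hF1 : pCore p G ≠ ⊥ := by
    intro h
    rw [h, mem_bot] at hx
    exact hx1 hx
  obtain ⟨z, hz, hz1, hzc⟩ := exists_central (H := pCore p G) hFp.isNilpotent hF1
  have hpel : ∀ x ∈ pCore p G, ∃ k, orderOf x = p ^ k := by
    intro x hx
    obtain ⟨k, hk⟩ := IsPGroup.iff_orderOf.mp hFp ⟨x, hx⟩
    rw [orderOf_mk] at hk
    exact ⟨k, hk⟩
  apply mem_of_forall_pElement
  rintro q hq w hw ⟨k, hk⟩
  have := Fact.mk hq
  have hwN : w ∈ N := zpowers_le.mpr hy hw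
  have hwx : w * x = x * w := by
    obtain ⟨j, rfl⟩ := mem_zpowers_iff.mp hw
    exact (Commute.zpow_left hyx j).eq
  by_cases hqp : q = p
  · subst hqp
    have h1 : w ∈ N ∧ IsPGroup q (zpowers w) := ⟨hwN, IsPGroup.of_card (n := k) (by rw [Nat.card_zpowers]; exact hk)⟩
    have h2 : RelSylow.IsSyl q (pCore q G) N := ⟨hFN, hFp, hN⟩
    obtain ⟨n, hn, hle⟩ := h2.exists_conj_le h1.2 (by rw [zpowers_le]; exact hwN)
    have h3 := hle (mem_zpowers w)
    rwa [RelSylow.conj_eq_of_mem_normalizer (by rw [normalizer_eq_top]; trivial)] at h3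
  · have hcp : ∀ b, Nat.Coprime (q ^ k) (p ^ b) := fun b =>
      Nat.Coprime.pow _ _ ((Nat.coprime_primes hq hp.out).mpr hqp)
    have hwz : w * z = z * w := by
      obtain ⟨b, hb⟩ := hpel z hz
      exact comm_of_comm hCN hx1 hwx (hzc x hx).symm (by rw [hk, hb]; exact hcp b)
    apply hF
    rw [mem_centralizer_iff]
    intro f hf
    obtain ⟨b, hb⟩ := hpel f hf
    exact (comm_of_comm hCN hz1 hwz (hzc f hf) (by rw [hk, hb]; exact hcp b)).symm

end Cfsg.Agent.Lib.CN
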