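import Cfsg.Agent.Lib.CN4
import Cfsg.Agent.Lib.HallPi
import Cfsg.Agent.Lib.SchurZassenhaus

/-!
# CN-groups, fifth part: three-step groups
-/

set_option autoImplicit false
open Cfsg

namespace Cfsg.Agent.Lib.CN

open Subgroup
open scoped Pointwise

variable {G : Type*} [Group G]

/-- unique involution in a normal subgroup: central -/
theorem central_of_unique_involution [Finite G] {N : Subgroup G} [hN : N.Normal] {t : G} (ht : t ∈ N)
    (ht1 : t ≠ 1) (ht2 : t * t = 1) (hu : ∀ s ∈ N, s ≠ 1 → s * s = 1 → s = t) (g : G) : g * t = t * g := by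
  have h1 : g * t * g⁻¹ = t := by
    apply hu _ (hN.conj_mem t ht g)
    · intro h
      apply ht1
      have : t = g⁻¹ * (g * t * g⁻¹) * g := by group
      rw [this, h]; group
    · have : g * t * g⁻¹ * (g * t * g⁻¹) = g * (t * t) * g⁻¹ := by group
      rw [this, ht2]; group
  calc g * t = g * t * g⁻¹ * g := by group
    _ = t * g := by rw [h1]

theorem isThreeStep_of_fittingHall_eq_bot [Finite G] [hs : Group.IsSolvable G] [Nontrivial G]
    (hCN : IsCNGroup G) (h0 : fittingHall G = ⊥) : ∃ p : ℕ, p.Prime ∧ IsThreeStepGroup p G := by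
  classical
  obtain ⟨p, hp, hF1, hCF, hFF⟩ := struct_of_fittingHall_eq_bot hCN h0
  have := Fact.mk hp
  refine ⟨p, hp, hF1, ?_⟩
  set F := pCore p G with hFdef
  have hFn : F.Normal := Subgroup.normal_of_characteristic _
  have hFp : IsPGroup p F := Cores.isPGroup_pCore p G
  set π := QuotientGroup.mk' F with hπ
  have hπs : Function.Surjective π := QuotientGroup.mk'_surjective F
  have hπker : ∀ x, π x = 1 ↔ x ∈ F := fun x => QuotientGroup.eq_one_iff x
  have hCNq : IsCNGroup (G ⧸ F) := quotient_pgroup hCN p F hFp hF1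
  have hOq : pCore p (G ⧸ F) = ⊥ := Cores.pCore_quotient_pCore p G
  set Kb := fittingSubgroup (G ⧸ F) with hKb
  have hKbn : Kb.Normal := Cores.fittingSubgroup_normal _
  have hKbnil : Group.IsNilpotent Kb := Cores.isNilpotent_fittingSubgroup _
  set K := Kb.comap π with hK
  have hKn : K.Normal := hKbn.comap π
  have hFK : F ≤ K := by
    intro x hx
    rw [hK, mem_comap, (hπker x).mpr hx]
    exact one_mem _
  -- F is a Sylow p-subgroup of K
  have hpKb : ¬ p ∣ Nat.card Kb := by
    intro hd
    obtain ⟨Q, hQn, hQC, hQp, hQmem⟩ := exists_normal_syl hKbnil p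
    have h1 : Q ≤ pCore p (G ⧸ F) := Cores.le_pCore hQn hQp
    rw [hOq, le_bot_iff] at h1
    obtain ⟨x, hx⟩ := exists_prime_orderOf_dvd_card' (G := Kb) p hd
    have h2 := hQmem x x.2 ⟨1, by rw [orderOf_coe, hx, pow_one]⟩
    rw [h1, mem_bot] at h2
    have h3 : x = 1 := Subtype.ext h2
    rw [h3, orderOf_one] at hx
    exact hp.one_lt.ne hx
  have hcardK : Nat.card K = Nat.card F * Nat.card Kb := by
    rw [hK, hπ, Cores.card_comap_mk]
  have hrel : F.relIndex K = Nat.card Kb := by
    have h1 := Cores.card_mul_relIndex hFK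
    rw [hcardK] at h1
    exact Nat.eq_of_mul_eq_mul_left Nat.card_pos h1
  have hFsylK : ¬ p ∣ F.relIndex K := by rw [hrel]; exact hpKb
  -- the complement A
  have hcop : (Nat.card F).Coprime (F.relIndex K) := by
    obtain ⟨n, hn⟩ := IsPGroup.iff_card.mp hFp
    rw [hn]
    exact Nat.Coprime.pow_left _ ((Nat.Prime.coprime_iff_not_dvd hp).mpr hFsylK)
  obtain ⟨A, hAK, hFA, hFAK, hAcard⟩ := HallPi.exists_complement_rel hFK
    (by rw [normalizer_eq_top]; exact le_top) hcop
  have hcardA : Nat.card A = Nat.card Kb := by rw [hAcard, hrel]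
  have hAp : (Nat.card A).Coprime p := by
    rw [hcardA]
    exact ((Nat.Prime.coprime_iff_not_dvd hp).mpr hpKb).symm
  have hπA : A.map π = Kb := by
    have h1 : K.map π = Kb := by rw [hK, map_comap_eq_self_of_surjective hπs]
    have h2 : (F ⊔ A).map π = A.map π := by
      rw [Subgroup.map_sup]
      have : F.map π = ⊥ := by
        rw [Subgroup.map_eq_bot_iff, hπ, QuotientGroup.ker_mk']
      rw [this, bot_sup_eq]
    rw [← h2, hFAK, h1]
  have hπinj : ∀ a ∈ A, π a = 1 → a = 1 := by
    intro a ha h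
    have : a ∈ F ⊓ A := ⟨(hπker a).mp h, ha⟩
    rw [hFA, mem_bot] at this
    exact this
  have hπinj' : ∀ a ∈ A, ∀ b ∈ A, π a = π b → a = b := by
    intro a ha b hb h
    have h1 : a * b⁻¹ = 1 := hπinj _ (A.mul_mem ha (A.inv_mem hb)) (by rw [map_mul, map_inv, h, mul_inv_cancel])
    exact mul_inv_eq_one.mp h1
  -- A acts fixed-point-freely on F
  have hfpf : ∀ a ∈ A, a ≠ 1 → ∀ x ∈ F, x * a = a * x → x = 1 := by
    intro a ha ha1 x hx hxa
    by_contra hx1
    have h1 : a ∈ F := mem_pCore_of_commute hCN p hCF hFK hFsylK hx hx1 (hAK ha) hxa.symm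
    exact ha1 (by
      have : a ∈ F ⊓ A := ⟨h1, ha⟩
      rwa [hFA, mem_bot] at this)
  -- Ḡ is not nilpotent and not trivial
  have hGbnn : ¬ Group.IsNilpotent (G ⧸ F) := by
    intro hnil
    have h1 : Kb = ⊤ := (Cores.fittingSubgroup_eq_top_iff).mpr hnil
    have h2 : K = ⊤ := by rw [hK, h1, comap_top]
    rw [h2] at hFsylK
    rw [relIndex_top_right] at hFsylK
    have h3 : F ≤ fittingHall G := by
      apply H23Nilp.le_fittingHall hFn hFp.isNilpotent
      obtain ⟨n, hn⟩ := IsPGroup.iff_card.mp hFp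
      rw [hn]
      exact Nat.Coprime.pow_left _ ((Nat.Prime.coprime_iff_not_dvd hp).mpr hFsylK)
    rw [h0, le_bot_iff] at h3
    exact hF1 h3
  have hGbnt : Nontrivial (G ⧸ F) := by
    by_contra h
    rw [not_nontrivial_iff_subsingleton] at h
    exact hGbnn inferInstance
  have hKb1 : Kb ≠ ⊥ := Cores.fittingSubgroup_ne_bot
  have hA1 : A ≠ ⊥ := by
    rintro rfl
    rw [Subgroup.map_bot] at hπA
    exact hKb1 hπA.symm
  have hAnt : Nontrivial A := (Subgroup.nontrivial_iff_ne_bot A).2 hA1
  -- the abelian group V = Z(F)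
  set V : Subgroup G := (center F).map F.subtype with hV
  have hVn : V.Normal := Fitting.normal_map_subtype_of_characteristic inferInstance
  have hVF : V ≤ F := map_subtype_le _
  have hVc : ∀ v ∈ V, ∀ f ∈ F, f * v = v * f := by
    rintro v ⟨w, hw, rfl⟩ f hf
    exact congrArg Subtype.val (Subgroup.mem_center_iff.mp hw ⟨f, hf⟩)
  have hV1 : V ≠ ⊥ := by
    obtain ⟨z, hz, hz1, hzc⟩ := exists_central (H := F) hFp.isNilpotent hF1
    intro h
    have : z ∈ V := ⟨⟨z, hz⟩, Subgroup.mem_center_iff.mpr (fun g => Subtype.ext (hzc g g.2)), rfl⟩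
    rw [h, mem_bot] at this
    exact hz1 this
  have hVnt : Nontrivial V := (Subgroup.nontrivial_iff_ne_bot V).2 hV1
  let _ : CommGroup V := { (inferInstance : Group V) with
    mul_comm := fun a b => Subtype.ext (hVc b b.2 a (hVF a.2)) }
  have hAV : A ≤ normalizer (V : Set G) := by rw [normalizer_eq_top]; exact le_top
  have hactA := FrobAction2.isFPF_conjAct hAV (by
    intro a ha ha1
    rw [eq_bot_iff]
    rintro v ⟨hv, hva⟩
    rw [mem_bot]
    exact hfpf a ha ha1 v (hVF hv) (mem_centralizer_singleton_iff.mp hva))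
  -- A has odd order
  have hodd : ¬ 2 ∣ Nat.card A := by
    intro h2
    have := Fact.mk Nat.prime_two
    obtain ⟨t, ht⟩ := exists_prime_orderOf_dvd_card' (G := A) 2 h2
    have ht1 : t ≠ 1 := by rintro rfl; rw [orderOf_one] at ht; omega
    have ht2 : t * t = 1 := by rw [← pow_two, ← ht]; exact pow_orderOf_eq_one t
    apply hGbnn
    refine isNilpotent_of_central hCNq (z := π t) ?_ ?_
    · intro h
      exact ht1 (Subtype.ext (hπinj t t.2 h))
    · intro g
      refine central_of_unique_involution (N := Kb) ?_ ?_ ?_ ?_ g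
      · rw [← hπA]; exact mem_map_of_mem π t.2
      · intro h
        exact ht1 (Subtype.ext (hπinj t t.2 h))
      · rw [← map_mul]
        have : (t : G) * t = 1 := congrArg Subtype.val ht2
        rw [this, map_one]
      · intro s hs hs1 hs2
        rw [← hπA] at hs
        obtain ⟨s', hs', rfl⟩ := hs
        have h3 : s' * s' = 1 := hπinj _ (A.mul_mem hs' hs') (by rw [map_mul]; exact hs2)
        have h4 : s' ≠ 1 := by rintro rfl; exact hs1 (map_one π)
        have h5 : (⟨s', hs'⟩ : A) = t := by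
          exact FrobAction.invol_unique hactA (Subtype.ext h3) (fun h => h4 (congrArg Subtype.val h)) ht2 ht1
        rw [← h5]
  have hAodd : Odd (Nat.card A) := by
    rw [← Nat.not_even_iff_odd, even_iff_two_dvd]; exact hodd
  have hAnil : Group.IsNilpotent A := by
    have e : A ≃* Kb := by
      refine MulEquiv.ofBijective ((MulEquiv.subgroupCongr hπA).toMonoidHom.comp (π.subgroupMap A)) ?_
      constructor
      · intro a b hab
        have h1 : π a = π b := congrArg Subtype.val hab
        exact Subtype.ext (hπinj' a a.2 b b.2 h1)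
      · intro k
        have hk : (k : G ⧸ F) ∈ A.map π := by rw [hπA]; exact k.2
        obtain ⟨a, ha, hak⟩ := hk
        exact ⟨⟨a, ha⟩, Subtype.ext hak⟩
    exact Group.nilpotent_of_mulEquiv e.symm
  have hAZ : IsZGroup A := FrobAction3.isZGroup_of_odd hactA hodd
  have hAcyc : IsCyclic A := inferInstance
  have hKbcyc : IsCyclic Kb := by
    rw [← hπA]
    exact isCyclic_of_surjective (π.subgroupMap A) (π.subgroupMap_surjective A)
  -- commutators lie in Kb
  have hcomm : commutator (G ⧸ F) ≤ Kb := by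
    obtain ⟨y, hy⟩ := (Subgroup.isCyclic_iff_exists_zpowers_eq_top Kb).mp hKbcyc
    have hyn : (zpowers y).Normal := by rw [hy]; exact hKbn
    have h1 := Supersolvable.commutator_le_centralizer_zpowers hyn
    rw [hy] at h1
    exact h1.trans Cores.centralizer_fittingSubgroup_le
  -- fittingHall of the quotient is not trivial
  have hne : fittingHall (G ⧸ F) ≠ ⊥ := by
    intro h
    obtain ⟨q, hq, hq1, -, hqF⟩ := struct_of_fittingHall_eq_bot hCNq h
    have := Fact.mk hq
    obtain ⟨Q⟩ : Nonempty (Sylow q (G ⧸ F)) := inferInstance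
    have h1 : Kb ≤ Q := by
      rw [hKb, hqF]; exact Cores.pCore_le_sylow Q
    have h2 : (Q : Subgroup (G ⧸ F)).Normal := by
      refine ⟨fun n hn g => ?_⟩
      have h3 : g * n * g⁻¹ * n⁻¹ ∈ (Q : Subgroup (G ⧸ F)) := h1 (hcomm
        (Subgroup.commutator_mem_commutator (mem_top g) (mem_top n)))
      have h4 : g * n * g⁻¹ = g * n * g⁻¹ * n⁻¹ * n := by group
      rw [h4]
      exact mul_mem h3 hn
    have h3 : (Q : Subgroup (G ⧸ F)) ≤ fittingHall (G ⧸ F) :=
      H23Nilp.le_fittingHall h2 Q.2.isNilpotent Q.card_coprime_index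
    rw [h, le_bot_iff] at h3
    rw [h3, le_bot_iff] at h1
    exact hKb1 h1
  have hKbab : ∀ a ∈ Kb, ∀ b ∈ Kb, a * b = b * a := by
    intro a ha b hb
    obtain ⟨y, hy⟩ := (Subgroup.isCyclic_iff_exists_zpowers_eq_top Kb).mp hKbcyc
    rw [← hy] at ha hb
    obtain ⟨i, rfl⟩ := mem_zpowers_iff.mp ha
    obtain ⟨j, rfl⟩ := mem_zpowers_iff.mp hb
    exact ((Commute.refl y).zpow_zpow i j).eq
  have hC : ∀ x ∈ Kb, x ≠ 1 → centralizer ({x} : Set (G ⧸ F)) ≤ Kb := by
    have hle : fittingHall (G ⧸ F) ≤ Kb := H23Nilp.fittingHall_le_fittingSubgroup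
    obtain ⟨u, hu, hu1⟩ := (fittingHall (G ⧸ F)).bot_or_exists_ne_one.resolve_left hne
    have hKH : Kb ≤ fittingHall (G ⧸ F) := by
      refine le_trans ?_ (centralizer_le_fittingHall hCNq hu hu1)
      intro y hy
      exact mem_centralizer_singleton_iff.mpr (hKbab y hy u (hle hu))
    intro x hx hx1
    exact (centralizer_le_fittingHall hCNq (hKH hx) hx1).trans hle
  have hKbtop : Kb ≠ ⊤ := by
    intro h
    exact hGbnn (Cores.fittingSubgroup_eq_top_iff.mp h)
  have hKtop : K ≠ ⊤ := by
    intro h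
    apply hKbtop
    have h1 : K.map π = Kb := by rw [hK, map_comap_eq_self_of_surjective hπs]
    rw [← h1, h, Subgroup.map_top_of_surjective π hπs]
  -- Frattini argument
  have hfrat : ∀ g : G, ∃ f ∈ F, f⁻¹ * g ∈ normalizer (A : Set G) := by
    intro g
    have hgA : (MulAut.conj g • A : Subgroup G) ≤ K := by
      intro x hx
      rw [SubgroupTools.mem_conj_smul] at hx
      have h1 := hKn.conj_mem _ (hAK hx) g
      have h2 : g * (g⁻¹ * x * g) * g⁻¹ = x := by group
      rwa [h2] at h1
    have hsup : F ⊔ A = F ⊔ (MulAut.conj g • A : Subgroup G) := by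
      have h1 : (MulAut.conj g • (F ⊔ A) : Subgroup G) = F ⊔ A := by
        rw [hFAK]; exact SubgroupTools.conj_smul_normal g K
      rw [SubgroupTools.conj_smul_sup, SubgroupTools.conj_smul_normal g F] at h1
      exact h1.symm
    have hcFA : (Nat.card F).Coprime (Nat.card A) := by
      obtain ⟨n, hn⟩ := IsPGroup.iff_card.mp hFp
      rw [hn]
      exact Nat.Coprime.pow_left _ hAp.symm
    obtain ⟨f, hf, hfA⟩ := SchurZassenhaus.conj_of_solvable (N := F) (H := A) (K := MulAut.conj g • A)
      (by rw [normalizer_eq_top]; exact le_top) (by rw [normalizer_eq_top]; exact le_top) hsup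
      hcFA (by rw [SubgroupTools.card_conj_smul]; exact hcFA) (Or.inr inferInstance)
    refine ⟨f, hf, ?_⟩
    rw [SubgroupTools.mem_normalizer_iff_conj_smul, SubgroupTools.conj_smul_mul, ← hfA,
      ← SubgroupTools.conj_smul_mul, inv_mul_cancel, SubgroupTools.conj_smul_one]
  have hNK : ∀ y ∈ K, y ∈ normalizer (A : Set G) → y ∈ A := by
    intro y hy hyN
    rw [← hFAK, SubgroupTools.mem_sup_of_le_normalizer (by rw [normalizer_eq_top]; exact le_top)] at hy
    obtain ⟨f, hf, a, ha, rfl⟩ := hy
    have hfN : f ∈ normalizer (A : Set G) := by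
      have h1 := mul_mem hyN (inv_mem (le_normalizer ha))
      rwa [mul_inv_cancel_right] at h1
    obtain ⟨a', ha', ha'1⟩ := A.bot_or_exists_ne_one.resolve_left hA1
    have h2 : f * a' * f⁻¹ * a'⁻¹ ∈ F ⊓ A := by
      refine Subgroup.mem_inf.mpr ⟨?_, ?_⟩
      · have h3 := mul_mem hf (hFn.conj_mem _ (inv_mem hf) a')
        have h4 : f * (a' * f⁻¹ * a'⁻¹) = f * a' * f⁻¹ * a'⁻¹ := by group
        rwa [h4] at h3
      · exact mul_mem ((mem_normalizer_iff.mp hfN a').mp ha') (inv_mem ha')
    rw [hFA, mem_bot, mul_inv_eq_one, mul_inv_eq_iff_eq_mul] at h2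
    have h5 := hfpf a' ha' ha'1 f hf h2
    rw [h5, one_mul]
    exact ha
  -- the index of K is a power of p
  have hindex : ∃ n : ℕ, K.index = p ^ n := by
    refine ⟨_, Nat.eq_prime_pow_of_unique_prime_dvd (Nat.pos_of_ne_zero (Subgroup.index_ne_zero_of_finite)).ne'
      (fun {r} hr hrd => ?_)⟩
    by_contra hrp
    have := Fact.mk hr
    obtain ⟨c, hc⟩ := exists_prime_orderOf_dvd_card' (G := G ⧸ K) r hrd
    obtain ⟨g, rfl⟩ := QuotientGroup.mk'_surjective K c
    obtain ⟨f, hf, hb⟩ := hfrat g
    set b := f⁻¹ * g with hbdef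
    have hbg : QuotientGroup.mk' K b = QuotientGroup.mk' K g := by
      rw [hbdef, map_mul]
      have : QuotientGroup.mk' K f⁻¹ = 1 := (QuotientGroup.eq_one_iff _).mpr (inv_mem (hFK hf))
      rw [this, one_mul]
    rw [← hbg] at hc
    have hbK : b ∉ K := by
      intro h
      have : QuotientGroup.mk' K b = 1 := (QuotientGroup.eq_one_iff _).mpr h
      rw [this, orderOf_one] at hc
      exact hr.one_lt.ne hc
    have hbrK : b ^ r ∈ K := by
      apply (QuotientGroup.eq_one_iff _).mp
      show QuotientGroup.mk' K (b ^ r) = 1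
      rw [map_pow, ← hc]; exact pow_orderOf_eq_one _
    have hπb : ∀ a ∈ A, a ≠ 1 → b * a = a * b → False := by
      intro a ha ha1 hba
      apply hbK
      rw [hK, mem_comap]
      apply hC (π a) (by rw [← hπA]; exact mem_map_of_mem π ha) (fun h => ha1 (hπinj a ha h))
      rw [mem_centralizer_singleton_iff, ← map_mul, ← map_mul, hba]
    have hbr : b ^ r = 1 := by
      by_contra h
      exact hπb (b ^ r) (hNK _ hbrK (pow_mem hb r)) h (Commute.self_pow b r).eq
    have hb1 : b ≠ 1 := by
      rintro h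
      exact hbK (by rw [h]; exact one_mem _)
    have hbo : orderOf b = r := orderOf_eq_prime hbr hb1
    -- b has no fixed points on V
    have hbV : ∀ v ∈ V, v * b = b * v → v = 1 := by
      intro v hv hvb
      by_contra hv1
      apply hbK
      apply hFK
      apply hCF
      rw [mem_centralizer_iff]
      intro x hx
      obtain ⟨k, hk⟩ := IsPGroup.iff_orderOf.mp hFp ⟨x, hx⟩
      rw [orderOf_mk] at hk
      refine (comm_of_comm hCN hv1 hvb.symm (hVc v hv x hx) ?_).symm
      rw [hbo, hk]
      exact Nat.Coprime.pow_right _ ((Nat.coprime_primes hr hp).mpr hrp)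
    set D : Subgroup G := A ⊔ zpowers b with hD
    have hDV : D ≤ normalizer (V : Set G) := by rw [normalizer_eq_top]; exact le_top
    have hDA : D ≤ normalizer (A : Set G) := sup_le le_normalizer (by rw [zpowers_le]; exact hb)
    have hAD : (A.subgroupOf D).Normal := SubgroupTools.normal_subgroupOf_iff_le_normalizer' hDA
    obtain ⟨v, hv, hv1⟩ := V.bot_or_exists_ne_one.resolve_left hV1
    have hpow := FrobAction.pow_card_kernel_eq_one (FrobAction2.conjAct hDV) (A.subgroupOf D)
      ((zpowers b).subgroupOf D) (by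
        intro h hh h1 k hk hcomm
        rw [mem_subgroupOf] at hh hk
        have h1' : (h : G) ≠ 1 := fun h' => h1 (Subtype.ext h')
        have hbz : b ∈ zpowers (h : G) := by
          have h2 : zpowers (h : G) ≤ zpowers b := by rw [zpowers_le]; exact hh
          have h3 : Nat.card (zpowers (h : G)) = Nat.card (zpowers b) := by
            have h4 := Subgroup.card_dvd_of_le h2
            rw [Nat.card_zpowers b, hbo] at h4
            rcases (Nat.dvd_prime hr).mp h4 with h5 | h5
            · exact absurd (Subgroup.card_eq_one.mp h5) (fun h' => h1' (zpowers_eq_bot.mp h'))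
            · rw [h5, Nat.card_zpowers, hbo]
          have h6 := Subgroup.eq_of_le_of_card_ge h2 h3.ge
          rw [h6]; exact mem_zpowers b
        obtain ⟨j, hj⟩ := mem_zpowers_iff.mp hbz
        by_contra hk1
        apply hπb (k : G) hk (fun h' => hk1 (Subtype.ext h'))
        have h7 : Commute (h : G) (k : G) := congrArg Subtype.val hcomm
        rw [← hj]
        exact (h7.zpow_left j).eq) (by
        intro w hw
        obtain ⟨a, ha, ha1⟩ := A.bot_or_exists_ne_one.resolve_left hA1
        have h2 := hw ⟨a, (le_sup_left : A ≤ D) ha⟩ (mem_subgroupOf.mpr ha)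
        rw [FrobAction2.conjAct_fixed] at h2
        exact Subtype.ext (hfpf a ha ha1 w (hVF w.2) h2.symm)) (by
        intro w hw
        have h2 := hw ⟨b, (le_sup_right : zpowers b ≤ D) (mem_zpowers b)⟩ (mem_subgroupOf.mpr (mem_zpowers b))
        rw [FrobAction2.conjAct_fixed] at h2
        exact Subtype.ext (hbV w w.2 h2.symm)) ⟨v, hv⟩
    rw [SubgroupTools.card_subgroupOf_of_le le_sup_left] at hpow
    have h8 : v ^ Nat.card A = 1 := congrArg Subtype.val hpow
    obtain ⟨k, hk⟩ := IsPGroup.iff_orderOf.mp hFp ⟨v, hVF hv⟩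
    rw [orderOf_mk] at hk
    have h9 : orderOf v ∣ Nat.card A := orderOf_dvd_of_pow_eq_one h8
    have h10 : Nat.Coprime (orderOf v) (Nat.card A) := by
      rw [hk]; exact Nat.Coprime.pow_left _ hAp.symm
    exact hv1 (orderOf_eq_one_iff.mp (Nat.Coprime.eq_one_of_dvd h10 h9))
  refine ⟨A, hA1, hAcyc, hAodd, hAp, ?_, ?_, ?_, ?_, ?_⟩
  · rw [hFAK]; exact hKn
  · rw [hFAK]; exact hKtop
  · rw [hFAK]; exact hindex
  · intro a ha ha1
    rw [eq_bot_iff]
    rintro x ⟨hx, hxa⟩
    rw [mem_bot]
    exact hfpf a ha ha1 x hx (mem_centralizer_singleton_iff.mp hxa)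
  · intro x hx a ha ha1 hmem
    apply hx
    rw [hFAK, hK, mem_comap]
    apply hC (π a) (by rw [← hπA]; exact mem_map_of_mem π ha) (fun h => ha1 (hπinj a ha h))
    rw [mem_centralizer_singleton_iff]
    have h1 := (hπker _).mpr hmem
    rw [map_mul, map_mul, map_mul, map_inv, map_inv, mul_inv_eq_one, mul_inv_eq_iff_eq_mul] at h1
    exact h1

end Cfsg.Agent.Lib.CN
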