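import Cfsg.Agent.Lib.CN5
import Cfsg.Agent.Lib.ThompsonJ

/-!
# CN-groups, sixth part: the Thompson subgroup of a three-step group of odd order
-/

set_option autoImplicit false
open Cfsg

namespace Cfsg.Agent.Lib.CN

open Subgroup
open scoped Pointwise

variable {G : Type*} [Group G]

/-- A nontrivial `p`-subgroup acting by conjugation without fixed points on `A`: `|A| ≡ 1 mod p`. -/
theorem card_modEq_one [Finite G] {p : ℕ} [hp : Fact p.Prime] {A B : Subgroup G} (hB : IsPGroup p B)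
    (hBA : B ≤ normalizer (A : Set G)) (hfpf : ∀ a ∈ A, (∀ b ∈ B, b * a = a * b) → a = 1) :
    Nat.card A ≡ 1 [MOD p] := by
  classical
  let act : MulAction B A := MulAction.compHom A (FrobAction2.conjAct hBA)
  have h1 := hB.card_modEq_card_fixedPoints (α := A)
  have h2 : MulAction.fixedPoints B A = {1} := by
    ext a
    rw [MulAction.mem_fixedPoints, Set.mem_singleton_iff]
    constructor
    · intro h
      apply Subtype.ext
      apply hfpf a a.2
      intro b hb
      exact (FrobAction2.conjAct_fixed hBA ⟨b, hb⟩ a).mp (h ⟨b, hb⟩)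
    · rintro rfl b
      show FrobAction2.conjAct hBA b 1 = 1
      exact map_one _
  rw [h2] at h1
  have h3 : Nat.card ({1} : Set A) = 1 := by simp
  rwa [h3] at h1

theorem le_pCore_of_maxElem [Finite G] (hodd : Odd (Nat.card G)) {p : ℕ} [hp : Fact p.Prime]
    (hT : IsThreeStepGroup p G) {R : Subgroup G} (hR : IsPGroup p R) (hFR : pCore p G ≤ R) {E : Subgroup G}
    (hE : E ∈ ThompsonJ.maxIn (IsElementaryAbelian p) R) : E ≤ pCore p G := by
  classical
  obtain ⟨hF1, A, hA1, hAcyc, hAodd, hAp, hKn, hKtop, ⟨n, hn⟩, hfpf, hmod⟩ := hT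
  set F := pCore p G with hFdef
  have hFn : F.Normal := Subgroup.normal_of_characteristic _
  have hFp : IsPGroup p F := Cores.isPGroup_pCore p G
  set K := F ⊔ A with hK
  have hFK : F ≤ K := le_sup_left
  have hAK : A ≤ K := le_sup_right
  have hcopFA : (Nat.card F).Coprime (Nat.card A) := by
    obtain ⟨m, hm⟩ := IsPGroup.iff_card.mp hFp
    rw [hm]
    exact Nat.Coprime.pow_left _ hAp.symm
  have hFA : F ⊓ A = ⊥ := SubgroupTools.inf_eq_bot_of_coprime' hcopFA
  have hmemK : ∀ x, x ∈ K ↔ ∃ f ∈ F, ∃ a ∈ A, f * a = x := fun x =>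
    SubgroupTools.mem_sup_of_le_normalizer (by rw [normalizer_eq_top]; exact le_top)
  have hcardK : Nat.card K = Nat.card F * Nat.card A :=
    SubgroupTools.card_sup_of_coprime (by rw [normalizer_eq_top]; exact le_top) hcopFA
  have hFK' : ¬ p ∣ F.relIndex K := by
    have h1 := Cores.card_mul_relIndex hFK
    rw [hcardK] at h1
    have h2 := Nat.eq_of_mul_eq_mul_left Nat.card_pos h1
    rw [h2]
    exact (Nat.Prime.coprime_iff_not_dvd hp.out).mp hAp.symm
  -- p-elements of K lie in F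
  have hpK : ∀ b ∈ K, (∃ k, orderOf b = p ^ k) → b ∈ F := by
    rintro b hb ⟨k, hk⟩
    have h2 : RelSylow.IsSyl p F K := ⟨hFK, hFp, hFK'⟩
    obtain ⟨m, hm, hle⟩ := h2.exists_conj_le
      (IsPGroup.of_card (n := k) (by rw [Nat.card_zpowers]; exact hk)) (by rw [zpowers_le]; exact hb)
    have h3 := hle (mem_zpowers b)
    rwa [RelSylow.conj_eq_of_mem_normalizer (by rw [normalizer_eq_top]; trivial)] at h3
  obtain ⟨hER, hEel, hEmax⟩ := hE
  rw [ThompsonJ.elemAb_iff] at hEel
  have hEab : ∀ x ∈ E, ∀ y ∈ E, x * y = y * x := fun x hx y hy =>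
    (mem_centralizer_iff.mp (hEel.1 hx) y hy).symm
  by_contra hEF
  obtain ⟨b, hbE, hbF⟩ := SetLike.not_le_iff_exists.mp hEF
  have hb1 : b ≠ 1 := by
    rintro rfl
    exact hbF (one_mem _)
  have hbo : orderOf b = p := orderOf_eq_prime (hEel.2 b hbE) hb1
  have hEK : ∀ x ∈ E, x ∈ K → x ∈ F := by
    intro x hx hxK
    refine hpK x hxK ?_
    obtain ⟨k, hk⟩ := IsPGroup.iff_orderOf.mp hR ⟨x, hER hx⟩
    rw [orderOf_mk] at hk
    exact ⟨k, hk⟩
  have hbK : b ∉ K := fun h => hbF (hEK b hbE h)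
  -- V
  set Z : Subgroup G := (center F).map F.subtype with hZdef
  have hZn : Z.Normal := Fitting.normal_map_subtype_of_characteristic inferInstance
  have hZF : Z ≤ F := map_subtype_le _
  have hZc : ∀ v ∈ Z, ∀ f ∈ F, f * v = v * f := by
    rintro v ⟨w, hw, rfl⟩ f hf
    exact congrArg Subtype.val (Subgroup.mem_center_iff.mp hw ⟨f, hf⟩)
  have hZcomm : IsMulCommutative Z := ⟨⟨fun a b => Subtype.ext (hZc b b.2 a (hZF a.2))⟩⟩
  set V := omegaOne p Z with hVdef
  have hVmem : ∀ x, x ∈ V ↔ x ∈ Z ∧ x ^ p = 1 := fun x => ThompsonJ.mem_omegaOne_iff hZcomm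
  have hVZ : V ≤ Z := fun x hx => ((hVmem x).mp hx).1
  have hVF : V ≤ F := hVZ.trans hZF
  have hVn : V.Normal := by
    refine ⟨fun v hv g => ?_⟩
    rw [hVmem] at hv ⊢
    refine ⟨hZn.conj_mem v hv.1 g, ?_⟩
    rw [conj_pow, hv.2]; group
  have hVel : IsElementaryAbelian p V := ThompsonJ.elemAb_omegaOne hZcomm
  have hV1 : V ≠ ⊥ := by
    have hpF : p ∣ Nat.card F := by
      obtain ⟨m, hm⟩ := IsPGroup.iff_card.mp hFp
      rw [hm]
      apply dvd_pow_self
      rintro rfl
      rw [pow_zero] at hm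
      exact hF1 (Subgroup.card_eq_one.mp hm)
    obtain ⟨z, hz, hzo, hzc⟩ := exists_central_of_dvd hFp.isNilpotent hpF
    intro h
    have h1 : z ∈ V := by
      rw [hVmem]
      refine ⟨⟨⟨z, hz⟩, Subgroup.mem_center_iff.mpr (fun g => Subtype.ext (hzc g g.2)), rfl⟩, ?_⟩
      rw [← hzo]; exact pow_orderOf_eq_one z
    rw [h, mem_bot] at h1
    rw [h1, orderOf_one] at hzo
    exact hp.out.one_lt.ne hzo
  -- elements of K \ F have no fixed points on V
  have hfpfK : ∀ c ∈ K, c ∉ F → ∀ v ∈ V, c * v = v * c → v = 1 := by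
    intro c hc hcF v hv hcv
    obtain ⟨f, hf, a, ha, rfl⟩ := (hmemK c).mp hc
    have ha1 : a ≠ 1 := by
      rintro rfl
      rw [mul_one] at hcF
      exact hcF hf
    have h1 : a * v = v * a := by
      have h2 : f * (a * v) = f * (v * a) := by
        calc f * (a * v) = f * a * v := by group
          _ = v * (f * a) := hcv
          _ = v * f * a := by group
          _ = f * v * a := by rw [hZc v (hVZ hv) f hf]
          _ = f * (v * a) := by group
      exact mul_left_cancel h2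
    have h3 : v ∈ F ⊓ centralizer ({a} : Set G) :=
      ⟨hVF hv, mem_centralizer_singleton_iff.mpr h1.symm⟩
    rw [hfpf a ha ha1, mem_bot] at h3
    exact h3
  -- quotient by F
  set π := QuotientGroup.mk' F with hπ
  have hπs : Function.Surjective π := QuotientGroup.mk'_surjective F
  have hπker : ∀ x, π x = 1 ↔ x ∈ F := fun x => QuotientGroup.eq_one_iff x
  set Ab := A.map π with hAb
  have hAbK : Ab = K.map π := by
    rw [hK, Subgroup.map_sup]
    have : F.map π = ⊥ := by rw [Subgroup.map_eq_bot_iff, hπ, QuotientGroup.ker_mk']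
    rw [this, bot_sup_eq]
  have hAbn : Ab.Normal := by rw [hAbK]; exact hKn.map π hπs
  have hAb_mod : ∀ x : G, x ∉ K → ∀ a ∈ Ab, π x * a = a * π x → a = 1 := by
    rintro x hx _ ⟨a, ha, rfl⟩ hxa
    by_contra ha1
    have ha1' : a ≠ 1 := by
      rintro rfl
      exact ha1 (map_one π)
    apply hmod x hx a ha ha1'
    rw [← hπker, map_mul, map_mul, map_mul, map_inv, map_inv, hxa]
    group
  have hcardAb : Nat.card Ab = Nat.card A := by
    apply SubgroupTools.card_map_of_disjoint_ker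
    rw [hπ, QuotientGroup.ker_mk', disjoint_iff, inf_comm]
    exact hFA
  have hAbnt : Nontrivial Ab := by
    rw [← Finite.one_lt_card_iff_nontrivial, hcardAb]
    exact (Subgroup.one_lt_card_iff_ne_bot A).mpr hA1
  have hAbcomm : ∀ x ∈ Ab, ∀ y ∈ Ab, x * y = y * x := by
    rintro _ ⟨x, hx, rfl⟩ _ ⟨y, hy, rfl⟩
    obtain ⟨g, hg⟩ := (Subgroup.isCyclic_iff_exists_zpowers_eq_top A).mp hAcyc
    rw [← hg] at hx hy
    obtain ⟨i, rfl⟩ := mem_zpowers_iff.mp hx
    obtain ⟨j, rfl⟩ := mem_zpowers_iff.mp hy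
    rw [← map_mul, ← map_mul, ((Commute.refl g).zpow_zpow i j).eq]
  set Eb := E.map π with hEb
  let _ : CommGroup Ab := { (inferInstance : Group Ab) with
    mul_comm := fun a b => Subtype.ext (hAbcomm a a.2 b b.2) }
  have hEbAb : Eb ≤ normalizer (Ab : Set (G ⧸ F)) := by rw [normalizer_eq_top]; exact le_top
  have hactE := FrobAction2.isFPF_conjAct hEbAb (by
    rintro _ ⟨x, hx, rfl⟩ hx1
    rw [eq_bot_iff]
    rintro a ⟨ha, hxa⟩
    rw [mem_bot]
    have hxK : x ∉ K := fun h => hx1 ((hπker x).mpr (hEK x hx h))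
    exact hAb_mod x hxK a ha (mem_centralizer_singleton_iff.mp hxa).symm)
  have hπb1 : π b ≠ 1 := fun h => hbF ((hπker b).mp h)
  have hEbz : Eb ≤ zpowers (π b) := by
    rintro _ ⟨x, hx, rfl⟩
    by_cases hx1 : π x = 1
    · rw [hx1]; exact one_mem _
    have h1 : orderOf (⟨π x, mem_map_of_mem π hx⟩ : Eb) = p := by
      rw [orderOf_mk]
      exact orderOf_eq_prime (by rw [← map_pow, hEel.2 x hx, map_one]) hx1
    have h2 : orderOf (⟨π b, mem_map_of_mem π hbE⟩ : Eb) = p := by
      rw [orderOf_mk]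
      exact orderOf_eq_prime (by rw [← map_pow, hEel.2 b hbE, map_one]) hπb1
    have h3 := FrobAction.mem_zpowers_of_commute hactE (x := ⟨π x, mem_map_of_mem π hx⟩)
      (y := ⟨π b, mem_map_of_mem π hbE⟩) (Subtype.ext (by
        show π x * π b = π b * π x
        rw [← map_mul, ← map_mul, hEab x hx b hbE])) h1 h2
    obtain ⟨k, hk⟩ := mem_zpowers_iff.mp h3
    rw [mem_zpowers_iff]
    exact ⟨k, by have := congrArg Subtype.val hk; simpa using this⟩
  have hEbcard : Nat.card Eb = p := by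
    have h1 : Eb = zpowers (π b) := le_antisymm hEbz (by rw [zpowers_le]; exact mem_map_of_mem π hbE)
    rw [h1, Nat.card_zpowers]
    exact orderOf_eq_prime (by rw [← map_pow, hEel.2 b hbE, map_one]) hπb1
  have hcardE : Nat.card E = p * Nat.card (E ⊓ F : Subgroup G) := by
    have h1 := SubgroupTools.card_map_mul_card_inf_ker π E
    rw [hπ, QuotientGroup.ker_mk'] at h1
    rw [← h1, ← hEbcard]
  -- |V| ≤ p |C_V(b)|
  set C := V ⊓ centralizer ({b} : Set G) with hC
  have hVC : Nat.card V ≤ p * Nat.card C := by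
    have hnorm : V ≤ normalizer ((E ⊓ F : Subgroup G) : Set G) := by
      intro v hv
      have h2 : v ∈ centralizer ((E ⊓ F : Subgroup G) : Set G) := by
        rw [mem_centralizer_iff]
        intro x hx
        exact hZc v (hVZ hv) x hx.2
      exact centralizer_le_normalizer _ h2
    have h1 := SubgroupTools.card_sup_mul_card_inf hnorm
    have hsup : IsElementaryAbelian p ((E ⊓ F : Subgroup G) ⊔ V : Subgroup G) := by
      refine ThompsonJ.elemAb_sup (ThompsonJ.elemAb_mono (ThompsonJ.elemAb_iff.mpr hEel) inf_le_left) hVel ?_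
      intro x hx
      rw [mem_centralizer_iff]
      intro v hv
      exact (hZc v (hVZ hv) x hx.2).symm
    have h2 : Nat.card ((E ⊓ F : Subgroup G) ⊔ V : Subgroup G) ≤ Nat.card E :=
      hEmax _ (sup_le (inf_le_left.trans hER) (hVF.trans hFR)) hsup
    have h3 : Nat.card ((E ⊓ F : Subgroup G) ⊓ V : Subgroup G) ≤ Nat.card C := by
      apply Subgroup.card_le_of_le
      rintro x ⟨⟨hxE, -⟩, hxV⟩
      exact ⟨hxV, mem_centralizer_singleton_iff.mpr (hEab x hxE b hbE)⟩
    rw [hcardE] at h2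
    have h4 : 0 < Nat.card (E ⊓ F : Subgroup G) := Nat.card_pos
    have h5 : Nat.card (E ⊓ F : Subgroup G) * Nat.card V ≤
        Nat.card (E ⊓ F : Subgroup G) * (p * Nat.card C) := by
      rw [← h1]
      calc _ ≤ (p * Nat.card (E ⊓ F : Subgroup G)) * Nat.card C := Nat.mul_le_mul h2 h3
        _ = _ := by ring
    exact Nat.le_of_mul_le_mul_left h5 h4
  -- distinct conjugates of C under A meet trivially
  have hCC : ∀ x ∈ A, ∀ y ∈ A, x ≠ y → ∀ c ∈ C, ∀ d ∈ C, x * c * x⁻¹ = y * d * y⁻¹ → c = 1 := by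
    intro x hx y hy hxy c hc d hd h
    set v := x * c * x⁻¹ with hv
    have hvV : v ∈ V := hVn.conj_mem c hc.1 x
    have hcb : c * b = b * c := mem_centralizer_singleton_iff.mp hc.2
    have hdb : d * b = b * d := mem_centralizer_singleton_iff.mp hd.2
    have h1 : Commute (x * b * x⁻¹) v := by
      rw [hv]
      show x * b * x⁻¹ * (x * c * x⁻¹) = x * c * x⁻¹ * (x * b * x⁻¹)
      calc _ = x * (b * c) * x⁻¹ := by group
        _ = x * (c * b) * x⁻¹ := by rw [hcb]
        _ = _ := by group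
    have h2 : Commute (y * b * y⁻¹) v := by
      rw [h]
      show y * b * y⁻¹ * (y * d * y⁻¹) = y * d * y⁻¹ * (y * b * y⁻¹)
      calc _ = y * (b * d) * y⁻¹ := by group
        _ = y * (d * b) * y⁻¹ := by rw [hdb]
        _ = _ := by group
    have h3 : Commute ((x * b * x⁻¹)⁻¹ * (y * b * y⁻¹)) v := (h1.inv_left).mul_left h2
    set a := x⁻¹ * y with ha
    have haA : a ∈ A := A.mul_mem (A.inv_mem hx) hy
    have ha1 : a ≠ 1 := fun h' => hxy (inv_mul_eq_one.mp h')
    have h4 : (x * b * x⁻¹)⁻¹ * (y * b * y⁻¹) = x * (b⁻¹ * a * b⁻¹⁻¹ * a⁻¹) * x⁻¹ := by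
      rw [ha]; group
    have hw1 : b⁻¹ * a * b⁻¹⁻¹ * a⁻¹ ∈ K := K.mul_mem (hKn.conj_mem a (hAK haA) b⁻¹) (K.inv_mem (hAK haA))
    have hw2 : b⁻¹ * a * b⁻¹⁻¹ * a⁻¹ ∉ F := hmod b⁻¹ (fun h' => hbK (by
      have := K.inv_mem h'
      rwa [inv_inv] at this)) a haA ha1
    have h5 : v = 1 := by
      refine hfpfK ((x * b * x⁻¹)⁻¹ * (y * b * y⁻¹)) ?_ ?_ v hvV h3.eq
      · rw [h4]; exact hKn.conj_mem _ hw1 x
      · rw [h4]
        intro h'
        apply hw2
        have h6 := hFn.conj_mem _ h' x⁻¹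
        have h7 : x⁻¹ * (x * (b⁻¹ * a * b⁻¹⁻¹ * a⁻¹) * x⁻¹) * x⁻¹⁻¹ = b⁻¹ * a * b⁻¹⁻¹ * a⁻¹ := by group
        rwa [h7] at h6
    have h8 : c = x⁻¹ * v * x := by rw [hv]; group
    rw [h8, h5]; group
  -- counting
  have hCfin : Finite C := inferInstance
  have hcount : Nat.card A * (Nat.card C - 1) ≤ Nat.card V - 1 := by
    have e1 : Nat.card {c : C // c ≠ 1} = Nat.card C - 1 := by
      have := Fintype.ofFinite C
      rw [Nat.card_eq_fintype_card, Nat.card_eq_fintype_card, Fintype.card_subtype_compl,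
        Fintype.card_subtype_eq]
    have e2 : Nat.card {c : V // c ≠ 1} = Nat.card V - 1 := by
      have := Fintype.ofFinite V
      rw [Nat.card_eq_fintype_card, Nat.card_eq_fintype_card, Fintype.card_subtype_compl,
        Fintype.card_subtype_eq]
    rw [← e1, ← e2, ← Nat.card_prod]
    refine Nat.card_le_card_of_injective (fun q : A × {c : C // c ≠ 1} =>
      (⟨⟨(q.1 : G) * (q.2.1 : G) * (q.1 : G)⁻¹, hVn.conj_mem _ q.2.1.2.1 _⟩, ?_⟩ : {c : V // c ≠ 1})) ?_
    · intro h
      have h1 : (q.1 : G) * (q.2.1 : G) * (q.1 : G)⁻¹ = 1 := congrArg Subtype.val h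
      apply q.2.2
      apply Subtype.ext
      have h2 : (q.2.1 : G) = (q.1 : G)⁻¹ * ((q.1 : G) * (q.2.1 : G) * (q.1 : G)⁻¹) * (q.1 : G) := by group
      rw [h2, h1]
      show _ = (1 : G)
      group
    · rintro ⟨x, c, hc1⟩ ⟨y, d, hd1⟩ h
      have h1 : (x : G) * (c : G) * (x : G)⁻¹ = (y : G) * (d : G) * (y : G)⁻¹ :=
        congrArg (fun w : {c : V // c ≠ 1} => ((w : V) : G)) h
      by_cases hxy : (x : G) = y
      · have hxy' : x = y := Subtype.ext hxy
        subst hxy'
        have h2 : (c : G) = d := by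
          have := mul_left_cancel (mul_right_cancel h1)
          exact this
        have h3 : c = d := Subtype.ext h2
        subst h3
        rfl
      · exact absurd (Subtype.ext (hCC x x.2 y y.2 hxy c c.2 d d.2 h1)) hc1
  -- |C|^2 ≤ |V|
  obtain ⟨a₀, ha₀, ha₀1⟩ := A.bot_or_exists_ne_one.resolve_left hA1
  have hsq : Nat.card C * Nat.card C ≤ Nat.card V := by
    rw [← Nat.card_prod]
    refine Nat.card_le_card_of_injective (fun q : C × C =>
      (⟨(q.1 : G) * (a₀ * (q.2 : G) * a₀⁻¹), V.mul_mem q.1.2.1 (hVn.conj_mem _ q.2.2.1 _)⟩ : V)) ?_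
    rintro ⟨c, d⟩ ⟨c', d'⟩ h
    have h1 : (c : G) * (a₀ * (d : G) * a₀⁻¹) = (c' : G) * (a₀ * (d' : G) * a₀⁻¹) := congrArg Subtype.val h
    have h2 : (1 : G) * ((c' : G)⁻¹ * c) * (1 : G)⁻¹ = a₀ * ((d' : G) * (d : G)⁻¹) * a₀⁻¹ := by
      have h3 : (c' : G)⁻¹ * c = (a₀ * (d' : G) * a₀⁻¹) * (a₀ * (d : G) * a₀⁻¹)⁻¹ := by
        rw [inv_mul_eq_iff_eq_mul, ← mul_assoc, ← h1]; group
      rw [one_mul, inv_one, mul_one, h3]; group
    have h4 := hCC 1 (one_mem _) a₀ ha₀ (Ne.symm ha₀1) ((c' : G)⁻¹ * c) (C.mul_mem (C.inv_mem c'.2) c.2)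
      ((d' : G) * (d : G)⁻¹) (C.mul_mem d'.2 (C.inv_mem d.2)) h2
    have h5 : (c' : G) = c := inv_mul_eq_one.mp h4
    have h6 : (d : G) = d' := by
      rw [h5] at h1
      exact mul_left_cancel (mul_right_cancel (mul_left_cancel h1))
    rw [Prod.mk.injEq]
    exact ⟨Subtype.ext h5.symm, Subtype.ext h6⟩
  -- |C| is a nontrivial power of p
  have hpC : p ≤ Nat.card C := by
    have hC1 : C ≠ ⊥ := by
      intro hCbot
      have hVp : IsPGroup p V := ThompsonJ.elemAb_isPGroup hVel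
      have h1 := card_modEq_one (A := V) (B := zpowers b) (p := p)
        (IsPGroup.of_card (n := 1) (by rw [Nat.card_zpowers, hbo, pow_one]))
        (by rw [normalizer_eq_top]; exact le_top) (by
          intro v hv h
          have : v ∈ C := ⟨hv, mem_centralizer_singleton_iff.mpr (h b (mem_zpowers b)).symm⟩
          rw [hCbot, mem_bot] at this
          exact this)
      obtain ⟨m, hm⟩ := IsPGroup.iff_card.mp hVp
      have hm0 : m ≠ 0 := by
        rintro rfl
        rw [pow_zero] at hm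
        exact hV1 (Subgroup.card_eq_one.mp hm)
      have h2 : p ∣ Nat.card V := by rw [hm]; exact dvd_pow_self p hm0
      have h3 : (0 : ℕ) ≡ 1 [MOD p] := ((Nat.modEq_zero_iff_dvd.mpr h2).symm).trans h1
      have h4 := (Nat.modEq_iff_dvd' (Nat.zero_le 1)).mp h3
      exact hp.out.one_lt.ne' (Nat.dvd_one.mp h4)
    have hCp : IsPGroup p C := (ThompsonJ.elemAb_isPGroup hVel).to_le inf_le_left
    obtain ⟨m, hm⟩ := IsPGroup.iff_card.mp hCp
    have hm0 : m ≠ 0 := by
      rintro rfl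
      rw [pow_zero] at hm
      exact hC1 (Subgroup.card_eq_one.mp hm)
    rw [hm]
    exact Nat.le_self_pow hm0 p
  have hCp' : Nat.card C ≤ p := by
    have h1 : Nat.card C * Nat.card C ≤ p * Nat.card C := hsq.trans hVC
    exact Nat.le_of_mul_le_mul_right h1 Nat.card_pos
  have hCeq : Nat.card C = p := le_antisymm hCp' hpC
  have hA_le : Nat.card A ≤ p + 1 := by
    rw [hCeq] at hcount hVC
    have hp2 := hp.out.two_le
    have h1 : Nat.card A * (p - 1) ≤ (p + 1) * (p - 1) := by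
      refine hcount.trans ((Nat.sub_le_sub_right hVC 1).trans ?_)
      obtain ⟨q, rfl⟩ : ∃ q, p = q + 1 := ⟨p - 1, by omega⟩
      have e : (q + 1) * (q + 1) = (q + 1 + 1) * (q + 1 - 1) + 1 := by
        rw [Nat.add_sub_cancel]; ring
      rw [e, Nat.add_sub_cancel]
    exact Nat.le_of_mul_le_mul_right h1 (by omega)
  -- |A| ≡ 1 mod p
  have hAmod : Nat.card A ≡ 1 [MOD p] := by
    rw [← hcardAb]
    refine card_modEq_one (A := Ab) (B := zpowers (π b)) (p := p)
      (IsPGroup.of_card (n := 1) (by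
        rw [Nat.card_zpowers, pow_one]
        exact orderOf_eq_prime (by rw [← map_pow, hEel.2 b hbE, map_one]) hπb1))
      (by rw [normalizer_eq_top]; exact le_top) (fun a ha h => ?_)
    exact hAb_mod b hbK a ha (h _ (mem_zpowers _))
  have hA2 : 1 < Nat.card A := (Subgroup.one_lt_card_iff_ne_bot A).mpr hA1
  have hAge : p + 1 ≤ Nat.card A := by
    have h1 := (Nat.modEq_iff_dvd' hA2.le).mp hAmod.symm
    have h2 := Nat.le_of_dvd (by omega) h1
    omega
  have hAeq : Nat.card A = p + 1 := le_antisymm hA_le hAge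
  have hpodd : Odd p := by
    have h1 : p ∣ Nat.card G := by
      rw [← hbo]; exact orderOf_dvd_natCard b
    exact hodd.of_dvd_nat h1
  rw [hAeq] at hAodd
  exact (Nat.not_even_iff_odd.mpr hAodd) (hpodd.add_odd odd_one)

end Cfsg.Agent.Lib.CN
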