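import Cfsg.Agent.Lib.CN6
import Cfsg.Agent.Lib.StrongPEmb
import Cfsg.Agent.Lib.FusionControl
import Cfsg.Agent.Lib.MinSimpleOdd

/-!
# CN-groups, seventh part: minimal simple CN-groups of odd order, Sylow subgroups
-/

set_option autoImplicit false
open Cfsg

namespace Cfsg.Agent.Lib.CN

open Subgroup
open scoped Pointwise

variable {G : Type*} [Group G]

/-- In a three-step group with respect to `p`, `O_q` is trivial for `q ≠ p`. -/
theorem pCore_eq_bot_of_threeStep [Finite G] {p q : ℕ} [hp : Fact p.Prime] [hq : Fact q.Prime] (hqp : q ≠ p)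
    (hT : IsThreeStepGroup p G) : pCore q G = ⊥ := by
  classical
  obtain ⟨hF1, A, hA1, hAcyc, hAodd, hAp, hKn, hKtop, ⟨n, hn⟩, hfpf, hmod⟩ := hT
  rw [eq_bot_iff]
  intro y hy
  rw [mem_bot]
  have hFn : (pCore p G).Normal := Subgroup.normal_of_characteristic _
  have hOn : (pCore q G).Normal := Subgroup.normal_of_characteristic _
  have hFp := Cores.isPGroup_pCore p G
  obtain ⟨k, hk⟩ := IsPGroup.iff_orderOf.mp (Cores.isPGroup_pCore q G) ⟨y, hy⟩
  rw [orderOf_mk] at hk
  have hyK : y ∈ pCore p G ⊔ A := by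
    rw [← QuotientGroup.eq_one_iff, ← orderOf_eq_one_iff]
    have h1 : orderOf (y : G ⧸ (pCore p G ⊔ A)) ∣ q ^ k := by
      rw [← hk]; exact orderOf_map_dvd (QuotientGroup.mk' _) y
    have h2 : orderOf (y : G ⧸ (pCore p G ⊔ A)) ∣ p ^ n := by
      rw [← hn]; exact orderOf_dvd_natCard _
    exact Nat.eq_one_of_dvd_coprimes (Nat.Coprime.pow _ _ ((Nat.coprime_primes hq.out hp.out).mpr hqp)) h1 h2
  obtain ⟨f, hf, a, ha, rfl⟩ := (SubgroupTools.mem_sup_of_le_normalizer
    (by rw [normalizer_eq_top]; exact le_top)).mp hyK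
  -- the product commutes with F
  have hcomm : ∀ x ∈ pCore p G, f * a * x = x * (f * a) := by
    have h1 : ⁅pCore q G, pCore p G⁆ = ⊥ := by
      rw [eq_bot_iff]
      refine (Subgroup.commutator_le_inf _ _).trans ?_
      rintro w ⟨hw1, hw2⟩
      obtain ⟨i, hi⟩ := IsPGroup.iff_orderOf.mp (Cores.isPGroup_pCore q G) ⟨w, hw1⟩
      obtain ⟨j, hj⟩ := IsPGroup.iff_orderOf.mp hFp ⟨w, hw2⟩
      rw [orderOf_mk] at hi hj
      have h3 : Nat.Coprime (q ^ i) (p ^ j) :=
        Nat.Coprime.pow _ _ ((Nat.coprime_primes hq.out hp.out).mpr hqp)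
      rw [← hi, ← hj, Nat.coprime_self, orderOf_eq_one_iff] at h3
      rw [mem_bot]; exact h3
    rw [Subgroup.commutator_eq_bot_iff_le_centralizer] at h1
    intro x hx
    exact (mem_centralizer_iff.mp (h1 hy) x hx).symm
  by_cases ha1 : a = 1
  · subst ha1
    rw [mul_one] at hk ⊢
    obtain ⟨j, hj⟩ := IsPGroup.iff_orderOf.mp hFp ⟨f, hf⟩
    rw [orderOf_mk] at hj
    have h3 : Nat.Coprime (q ^ k) (p ^ j) :=
      Nat.Coprime.pow _ _ ((Nat.coprime_primes hq.out hp.out).mpr hqp)
    rwa [← hk, ← hj, Nat.coprime_self, orderOf_eq_one_iff] at h3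
  · exfalso
    obtain ⟨v, hv, hv1, hvc⟩ := exists_central (H := pCore p G) hFp.isNilpotent hF1
    have h1 : a * v = v * a := by
      have h2 : f * (a * v) = f * (v * a) := by
        calc f * (a * v) = f * a * v := by group
          _ = v * (f * a) := hcomm v hv
          _ = v * f * a := by group
          _ = f * v * a := by rw [hvc f hf]
          _ = f * (v * a) := by group
      exact mul_left_cancel h2
    have h3 : v ∈ pCore p G ⊓ centralizer ({a} : Set G) :=
      ⟨hv, mem_centralizer_singleton_iff.mpr h1.symm⟩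
    rw [hfpf a ha ha1, mem_bot] at h3
    exact hv1 h3

theorem fittingSubgroup_le_fittingHall [Finite G] (hCN : IsCNGroup G) (h : fittingHall G ≠ ⊥) :
    fittingSubgroup G ≤ fittingHall G := by
  have hle : fittingHall G ≤ fittingSubgroup G := H23Nilp.fittingHall_le_fittingSubgroup
  have hF1 : fittingSubgroup G ≠ ⊥ := fun h' => h (by rw [h', le_bot_iff] at hle; exact hle)
  obtain ⟨z, hz, hz1, hzc⟩ := exists_central (Cores.isNilpotent_fittingSubgroup G) hF1
  obtain ⟨u, hu, hu1⟩ := (fittingHall G).bot_or_exists_ne_one.resolve_left h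
  have hzH : z ∈ fittingHall G := centralizer_le_fittingHall hCN hu hu1
    (mem_centralizer_singleton_iff.mpr (hzc u (hle hu)).symm)
  intro x hx
  exact centralizer_le_fittingHall hCN hzH hz1 (mem_centralizer_singleton_iff.mpr (hzc x hx))

/-- A Sylow subgroup lying in a normal nilpotent subgroup is normal. -/
theorem sylow_normal_of_le [Finite G] {p : ℕ} [hp : Fact p.Prime] (P : Sylow p G) {C : Subgroup G} [C.Normal]
    (hC : Group.IsNilpotent C) (hPC : (P : Subgroup G) ≤ C) : (P : Subgroup G).Normal := by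
  obtain ⟨Q, hQn, hQC, hQp, hQmem⟩ := exists_normal_syl hC p
  have h : (P : Subgroup G) = Q := by
    apply le_antisymm
    · intro x hx
      obtain ⟨k, hk⟩ := IsPGroup.iff_orderOf.mp P.2 ⟨x, hx⟩
      rw [orderOf_mk] at hk
      exact hQmem x (hPC hx) ⟨k, hk⟩
    · exact hQp.le_sylow_of_normal P
  rw [h]; exact hQn

theorem sylow_normal_or_threeStep [Finite G] [hs : Group.IsSolvable G] (hCN : IsCNGroup G) {p : ℕ}
    [hp : Fact p.Prime] {Q : Subgroup G} (hQn : Q.Normal) (hQp : IsPGroup p Q) (hQ1 : Q ≠ ⊥)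
    (R : Sylow p G) : (R : Subgroup G).Normal ∨ IsThreeStepGroup p G := by
  classical
  by_cases hnil : Group.IsNilpotent G
  · exact Or.inl (Sylow.normal_of_normalizerCondition (Group.normalizerCondition_of_isNilpotent) R)
  have hnt : Nontrivial G := by
    by_contra h
    rw [not_nontrivial_iff_subsingleton] at h
    exact hnil inferInstance
  have hQF : Q ≤ fittingSubgroup G := Cores.le_fittingSubgroup hQn hQp.isNilpotent
  by_cases h0 : fittingHall G = ⊥
  · obtain ⟨r, hr, hT⟩ := isThreeStep_of_fittingHall_eq_bot hCN h0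
    have := Fact.mk hr
    by_cases hrp : r = p
    · subst hrp; exact Or.inr hT
    · exfalso
      have h1 := pCore_eq_bot_of_threeStep (Ne.symm hrp) hT
      have h2 : Q ≤ pCore p G := Cores.le_pCore hQn hQp
      rw [h1, le_bot_iff] at h2
      exact hQ1 h2
  · left
    have hQH := hQF.trans (fittingSubgroup_le_fittingHall hCN h0)
    obtain ⟨hHn, hHnil, hHc⟩ := H23Nilp.fittingHall_spec (G := G)
    have hpH : p ∣ Nat.card (fittingHall G) := by
      obtain ⟨m, hm⟩ := IsPGroup.iff_card.mp hQp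
      have hm0 : m ≠ 0 := by
        rintro rfl
        rw [pow_zero] at hm
        exact hQ1 (Subgroup.card_eq_one.mp hm)
      have h2 : p ∣ Nat.card Q := by rw [hm]; exact dvd_pow_self p hm0
      exact h2.trans (Subgroup.card_dvd_of_le hQH)
    apply sylow_normal_of_le R hHnil
    intro x hx
    obtain ⟨k, hk⟩ := IsPGroup.iff_orderOf.mp R.2 ⟨x, hx⟩
    rw [orderOf_mk] at hk
    exact mem_of_hall_normal hHc hp.out hpH ⟨k, hk⟩

theorem normal_of_normalizer_eq {H : Subgroup G} (h : ∀ g : G, g ∈ normalizer (H : Set G)) : H.Normal :=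
  normalizer_eq_top_iff.mp (eq_top_iff.mpr fun g _ => h g)

/-- In a solvable CN-group of odd order with a nontrivial normal `p`-subgroup, the Thompson subgroup of a
Sylow `p`-subgroup is normal. -/
theorem J_normal [Finite G] [hs : Group.IsSolvable G] (hodd : Odd (Nat.card G)) (hCN : IsCNGroup G) {p : ℕ}
    [hp : Fact p.Prime] {Q : Subgroup G} (hQn : Q.Normal) (hQp : IsPGroup p Q) (hQ1 : Q ≠ ⊥)
    (R : Sylow p G) : (ThompsonJ.J (IsElementaryAbelian p) (R : Subgroup G)).Normal := by
  rcases sylow_normal_or_threeStep hCN hQn hQp hQ1 R with h | hT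
  · apply normal_of_normalizer_eq
    intro g
    exact ThompsonJ.normalizer_le_normalizer_J_elem _ (by rw [normalizer_eq_top]; trivial)
  · have hFR : pCore p G ≤ R := Cores.pCore_le_sylow R
    have hJ : ThompsonJ.J (IsElementaryAbelian p) (R : Subgroup G) ≤ pCore p G := by
      apply sSup_le
      intro E hE
      exact le_pCore_of_maxElem hodd hT R.2 hFR hE
    have h1 := ThompsonJ.J_eq_of_J_le (ThompsonJ.maxElem_nonempty p (R : Subgroup G)) hFR hJ
    have hFn : (pCore p G).Normal := Subgroup.normal_of_characteristic _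
    rw [← h1]
    apply normal_of_normalizer_eq
    intro g
    exact ThompsonJ.normalizer_le_normalizer_J_elem _ (by rw [normalizer_eq_top]; trivial)

/-- Generic local-to-global argument: `W` a characteristic subgroup functor such that `N(Q) ≤ N(W(R))` for
`R` Sylow in `N(Q)`; then `N(Q) ≤ N(W(P))` for all nontrivial `Q ≤ P`, `P` Sylow. -/
theorem normalizer_le_of_local [Finite G] {p : ℕ} [hp : Fact p.Prime] (W : Subgroup G → Subgroup G)
    (hW1 : ∀ R : Subgroup G, IsPGroup p R → R ≠ ⊥ → W R ≠ ⊥) (hWle : ∀ R : Subgroup G, W R ≤ R)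
    (hWn : ∀ R : Subgroup G, normalizer (R : Set G) ≤ normalizer (W R : Set G))
    (hloc : ∀ Q R : Subgroup G, IsPGroup p Q → Q ≠ ⊥ → RelSylow.IsSyl p R (normalizer (Q : Set G)) →
      normalizer (Q : Set G) ≤ normalizer (W R : Set G)) {P : Subgroup G} (hP : RelSylow.IsSyl p P ⊤) :
    ∀ n : ℕ, ∀ Q : Subgroup G, Q ≤ P → Q ≠ ⊥ →
      Nat.card P - Nat.card (P ⊓ normalizer (Q : Set G) : Subgroup G) = n →
      normalizer (Q : Set G) ≤ normalizer (W P : Set G) := by
  classical
  intro n
  induction n using Nat.strong_induction_on with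
  | _ n ih =>
    intro Q hQP hQ1 hn
    have hPp : IsPGroup p P := hP.2.1
    have hQp : IsPGroup p Q := hPp.to_le hQP
    set P₀ := P ⊓ normalizer (Q : Set G) with hP₀
    have hcard_le : ∀ X : Subgroup G, Nat.card (P ⊓ X : Subgroup G) ≤ Nat.card P := fun X =>
      Subgroup.card_le_of_le inf_le_left
    have hlt : ∀ Q' : Subgroup G, Q' ≤ P → Q' ≠ ⊥ →
        Nat.card P₀ < Nat.card (P ⊓ normalizer (Q' : Set G) : Subgroup G) →
        normalizer (Q' : Set G) ≤ normalizer (W P : Set G) := by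
      intro Q' hQ'P hQ'1 hlt
      refine ih _ ?_ Q' hQ'P hQ'1 rfl
      have h1 := hcard_le (normalizer (Q' : Set G))
      have h2 := hcard_le (normalizer (Q : Set G))
      omega
    obtain ⟨R₀, hPR₀, hR₀⟩ := RelSylow.exists_isSyl_ge (hPp.to_le (inf_le_left : P₀ ≤ P))
      (inf_le_right : P₀ ≤ normalizer (Q : Set G))
    by_cases hcase : P₀ = P
    · -- P normalizes Q
      have h1 : P ≤ R₀ := hcase ▸ hPR₀
      have h2 : P = R₀ := hP.eq_of_le hR₀.2.1 le_top h1
      rw [h2]
      exact hloc Q R₀ hQp hQ1 hR₀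
    have hP₀lt : P₀ < P := lt_of_le_of_ne inf_le_left hcase
    have hP₀1 : P₀ ≠ ⊥ := by
      intro h
      apply hQ1
      rw [eq_bot_iff, ← h]
      exact le_inf hQP le_normalizer
    have hgrow := GroupUtil.lt_inf_normalizer_of_isPGroup hPp hP₀lt
    have hNP₀ : normalizer (P₀ : Set G) ≤ normalizer (W P : Set G) :=
      hlt P₀ hP₀lt.le hP₀1 (GroupUtil.card_lt_card hgrow)
    have hPM : P ≤ normalizer (W P : Set G) := le_normalizer.trans (hWn P)
    by_cases hR : P₀ = R₀
    · -- P₀ is Sylow in N(Q)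
      have h1 := hloc Q R₀ hQp hQ1 hR₀
      rw [← hR] at h1
      have hW₀1 : W P₀ ≠ ⊥ := hW1 P₀ (hPp.to_le hP₀lt.le) hP₀1
      refine h1.trans (hlt (W P₀) ((hWle P₀).trans hP₀lt.le) hW₀1 ?_)
      refine (GroupUtil.card_lt_card hgrow).trans_le (Subgroup.card_le_of_le ?_)
      exact inf_le_inf le_rfl (hWn P₀)
    · -- P₀ is not Sylow in N(Q)
      have hP₀R : P₀ < R₀ := lt_of_le_of_ne hPR₀ hR
      have hgrow' := GroupUtil.lt_inf_normalizer_of_isPGroup hR₀.2.1 hP₀R
      set X := R₀ ⊓ normalizer (P₀ : Set G) with hX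
      have hXM : X ≤ normalizer (W P : Set G) := inf_le_right.trans hNP₀
      have hPM' : RelSylow.IsSyl p P (normalizer (W P : Set G)) := hP.of_le hPM le_top
      obtain ⟨m, hm, hXm⟩ := hPM'.exists_conj_le (hR₀.2.1.to_le (inf_le_left : X ≤ R₀)) hXM
      -- conjugate by m⁻¹
      have hconj : ∀ Y : Subgroup G, Y ≤ X → Y.map (MulAut.conj m⁻¹).toMonoidHom ≤ P := by
        intro Y hY
        have h1 := RelSylow.conj_map_mono m⁻¹ (hY.trans hXm)
        rwa [RelSylow.conj_conj, inv_mul_cancel, RelSylow.conj_one] at h1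
      have hQX : Q ≤ X := (le_inf hQP le_normalizer : Q ≤ P₀).trans hgrow'.le
      set Q' := Q.map (MulAut.conj m⁻¹).toMonoidHom with hQ'
      have hQ'1 : Q' ≠ ⊥ := by
        intro h
        exact hQ1 ((Subgroup.map_eq_bot_iff_of_injective _ (MulAut.conj m⁻¹).injective).mp h)
      have hNQ' : normalizer (Q' : Set G) = (normalizer (Q : Set G)).map (MulAut.conj m⁻¹).toMonoidHom :=
        (RelSylow.normalizer_conj m⁻¹ Q).symm
      have h2 : normalizer (Q' : Set G) ≤ normalizer (W P : Set G) := by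
        refine hlt Q' (hconj Q hQX) hQ'1 ?_
        calc Nat.card P₀ < Nat.card X := GroupUtil.card_lt_card hgrow'
          _ = Nat.card (X.map (MulAut.conj m⁻¹).toMonoidHom : Subgroup G) := (RelSylow.card_conj _ _).symm
          _ ≤ _ := Subgroup.card_le_of_le (le_inf (hconj X le_rfl) (by
              rw [hNQ']
              exact map_mono (inf_le_left.trans hR₀.1)))
      intro g hg
      have h3 : m⁻¹ * g * m⁻¹⁻¹ ∈ normalizer (W P : Set G) := by
        apply h2
        rw [hNQ']
        exact ⟨g, hg, rfl⟩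
      have h4 := mul_mem (mul_mem hm h3) (inv_mem hm)
      have h5 : m * (m⁻¹ * g * m⁻¹⁻¹) * m⁻¹ = g := by group
      rwa [h5] at h4

end Cfsg.Agent.Lib.CN
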