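import Cfsg.Agent.Lib.CN7

/-!
# CN-groups, eighth part: minimal simple CN-groups of odd order
-/

set_option autoImplicit false
open Cfsg

namespace Cfsg.Agent.Lib.CN

open Subgroup
open scoped Pointwise

variable {G : Type*} [Group G]

/-- A Sylow `p`-subgroup of a three-step group with respect to `p` is not contained in the derived
subgroup. -/
theorem not_le_commutator_of_threeStep [Finite G] {p : ℕ} [hp : Fact p.Prime] (hT : IsThreeStepGroup p G)
    (P : Sylow p G) : ¬ (P : Subgroup G) ≤ commutator G := by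
  classical
  obtain ⟨hF1, A, hA1, hAcyc, hAodd, hAp, hKn, hKtop, ⟨n, hn⟩, hfpf, hmod⟩ := hT
  set K := pCore p G ⊔ A with hK
  intro hle
  set π := QuotientGroup.mk' K with hπ
  have hπs : Function.Surjective π := QuotientGroup.mk'_surjective K
  have h1 := (RelSylow.isSyl_top_iff P).map π
  rw [Subgroup.map_top_of_surjective π hπs] at h1
  have hp' : IsPGroup p (⊤ : Subgroup (G ⧸ K)) := IsPGroup.of_card (n := n) (by
    rw [Subgroup.card_top]; exact hn)
  have h2 : (P : Subgroup G).map π = ⊤ := h1.eq_of_le hp' le_rfl le_top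
  have h3 : (⊤ : Subgroup (G ⧸ K)) ≤ commutator (G ⧸ K) := by
    rw [← h2]
    refine (map_mono hle).trans ?_
    rw [_root_.commutator_def, _root_.commutator_def, Subgroup.map_commutator]
    exact Subgroup.commutator_mono le_top le_top
  have hnt : Nontrivial (G ⧸ K) := by
    rw [← Finite.one_lt_card_iff_nontrivial]
    have : K.index ≠ 1 := fun h => hKtop (Subgroup.index_eq_one.mp h)
    have h4 : 0 < K.index := Nat.pos_of_ne_zero Subgroup.index_ne_zero_of_finite
    show 1 < K.index
    omega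
  have hpg : IsPGroup p (G ⧸ K) := IsPGroup.of_card (n := n) hn
  have hnil : Group.IsNilpotent (G ⧸ K) := hpg.isNilpotent
  have hlt := Group.IsSolvable.commutator_lt_top_of_nontrivial (G ⧸ K)
  exact absurd h3 (not_le_of_gt hlt)

theorem J_ne_bot [Finite G] {p : ℕ} [hp : Fact p.Prime] {R : Subgroup G} (hR : IsPGroup p R) (hR1 : R ≠ ⊥) :
    ThompsonJ.J (IsElementaryAbelian p) R ≠ ⊥ := by
  obtain ⟨E, hE⟩ := ThompsonJ.maxElem_nonempty p R
  intro h
  have hEJ := ThompsonJ.le_J hE
  rw [h, le_bot_iff] at hEJ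
  subst hEJ
  obtain ⟨m, hm⟩ := IsPGroup.iff_card.mp hR
  have hm0 : m ≠ 0 := by
    rintro rfl
    rw [pow_zero] at hm
    exact hR1 (Subgroup.card_eq_one.mp hm)
  have h2 : p ∣ Nat.card R := by rw [hm]; exact dvd_pow_self p hm0
  obtain ⟨x, hx⟩ := exists_prime_orderOf_dvd_card' (G := R) p h2
  have h3 : (x : G) ^ p = 1 := by
    rw [← hx, ← orderOf_coe]; exact pow_orderOf_eq_one _
  have h4 := hE.2.2 (zpowers (x : G)) (by rw [zpowers_le]; exact x.2) (ThompsonJ.elemAb_zpowers h3)
  rw [Nat.card_zpowers, orderOf_coe, hx, Subgroup.card_bot] at h4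
  exact absurd hp.out.one_lt (not_lt.mpr h4)

variable [Finite G]

theorem normalizer_le_normalizer_J (hG : IsMinSimpleOddOrder G) (hCN : IsCNGroup G) {p : ℕ}
    [hp : Fact p.Prime] {P : Subgroup G} (hP : RelSylow.IsSyl p P ⊤) {Q : Subgroup G} (hQP : Q ≤ P)
    (hQ1 : Q ≠ ⊥) : normalizer (Q : Set G) ≤
      normalizer (ThompsonJ.J (IsElementaryAbelian p) P : Set G) := by
  classical
  refine normalizer_le_of_local (fun R => ThompsonJ.J (IsElementaryAbelian p) R) ?_ ?_ ?_ ?_ hP _ Q hQP hQ1 rfl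
  · intro R hR hR1
    exact J_ne_bot hR hR1
  · intro R
    exact ThompsonJ.J_le
  · intro R
    exact ThompsonJ.normalizer_le_normalizer_J_elem R
  · intro Q R hQp hQ1 hR
    set N := normalizer (Q : Set G) with hN
    have hNtop : N ≠ ⊤ := MinSimpleOdd.normalizer_ne_top hG hQ1 (MinSimpleOdd.ne_top_of_isPGroup hG hQp)
    have hNs : Group.IsSolvable N := MinSimpleOdd.solvable_of_ne_top hG hNtop
    obtain ⟨R', hR'1, hR'2⟩ := hR.exists_sylow
    have hQN : Q ≤ N := le_normalizer
    have hQn : (Q.subgroupOf N).Normal := SubgroupTools.normal_subgroupOf_iff_le_normalizer' le_rfl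
    have h1 := J_normal (G := N) (MinSimpleOdd.odd_card_subgroup hG N) (subgroup hCN N) (p := p)
      (Q := Q.subgroupOf N) hQn (hQp.comap_of_injective _ (subtype_injective _)) (by
        intro h
        apply hQ1
        rw [eq_bot_iff]
        intro a ha
        have : (⟨a, hQN ha⟩ : N) ∈ Q.subgroupOf N := mem_subgroupOf.mpr ha
        rw [h, mem_bot] at this
        rw [mem_bot]
        exact congrArg Subtype.val this) R'
    have h2 := ThompsonJ.map_J_elem (p := p) (f := N.subtype) N.subtype_injective (R' : Subgroup N)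
    rw [hR'1] at h2
    show N ≤ normalizer (ThompsonJ.J (IsElementaryAbelian p) R : Set G)
    rw [← h2]
    exact Cores.le_normalizer_map_subtype _

/-- Sylow subgroups of minimal simple CN-groups of odd order. -/
theorem sylow_main (hG : IsMinSimpleOddOrder G) (hCN : IsCNGroup G) {p : ℕ}
    [hp : Fact p.Prime] {P : Subgroup G} (hP : RelSylow.IsSyl p P ⊤) (hP1 : P ≠ ⊥) :
    (∀ Q ≤ P, Q ≠ ⊥ → normalizer (Q : Set G) ≤ normalizer (P : Set G)) ∧
    P ≤ ⁅normalizer (P : Set G), normalizer (P : Set G)⁆ ∧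
    (∀ x ∈ P, x ≠ 1 → ∀ g : G, g * x * g⁻¹ ∈ P → g ∈ normalizer (P : Set G)) := by
  classical
  have hS := MinSimpleOdd.isSimple hG
  set J := ThompsonJ.J (IsElementaryAbelian p) P with hJ
  set M := normalizer (J : Set G) with hM
  have hPp : IsPGroup p P := hP.2.1
  have hJP : J ≤ P := ThompsonJ.J_le
  have hJ1 : J ≠ ⊥ := J_ne_bot hPp hP1
  have hJp : IsPGroup p J := hPp.to_le hJP
  have hMtop : M ≠ ⊤ := MinSimpleOdd.normalizer_ne_top hG hJ1 (MinSimpleOdd.ne_top_of_isPGroup hG hJp)
  have hPM : P ≤ M := le_normalizer.trans (ThompsonJ.normalizer_le_normalizer_J_elem P)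
  have hNQ : ∀ Q ≤ P, Q ≠ ⊥ → normalizer (Q : Set G) ≤ M := fun Q hQP hQ1 =>
    normalizer_le_normalizer_J hG hCN hP hQP hQ1
  obtain ⟨S, hS'⟩ := hP.toSylow
  have hdvd : p ∣ Nat.card G := by
    obtain ⟨m, hm⟩ := IsPGroup.iff_card.mp hPp
    have hm0 : m ≠ 0 := by
      rintro rfl
      rw [pow_zero] at hm
      exact hP1 (Subgroup.card_eq_one.mp hm)
    have h2 : p ∣ Nat.card P := by rw [hm]; exact dvd_pow_self p hm0
    exact h2.trans (Subgroup.card_subgroup_dvd_card P)
  have hSE : IsStronglyPEmbedded p M := by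
    rw [StrongPEmb.isStronglyPEmbedded_iff_exists]
    exact ⟨hdvd, hMtop, S, fun Q hQ hQ1 => hNQ Q (hS' ▸ hQ) hQ1⟩
  have hctl : ∀ x ∈ P, x ≠ 1 → ∀ g : G, g * x * g⁻¹ ∈ P → g ∈ M := by
    intro x hx hx1 g hg
    refine StrongPEmb.mem_of_cj_le hSE (Q := zpowers x) (hPp.to_le (by rw [zpowers_le]; exact hx))
      (fun h => hx1 (zpowers_eq_bot.mp h)) (by rw [zpowers_le]; exact hPM hx) ?_
    rintro _ ⟨y, hy, rfl⟩
    obtain ⟨k, rfl⟩ := mem_zpowers_iff.mp hy
    show g * x ^ k * g⁻¹ ∈ M
    rw [← conj_zpow]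
    exact M.zpow_mem (hPM hg) k
  have hfocal := FusionControl.commutator_inf_eq_of_controls S M (hS' ▸ hPM) (by
    intro x hx g hg
    by_cases hx1 : x = 1
    · exact ⟨1, one_mem _, by rw [hx1]; group⟩
    · have hx' : x ∈ P := by
        have : x ∈ (S : Subgroup G) := hx
        rwa [hS'] at this
      have hg' : g * x * g⁻¹ ∈ P := by
        have : g * x * g⁻¹ ∈ (S : Subgroup G) := hg
        rwa [hS'] at this
      exact ⟨g, hctl x hx' hx1 g hg', rfl⟩)
  have hperf : commutator G = ⊤ := by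
    rcases MinSimpleOdd.normal_eq hG (N := commutator G) inferInstance with h | h
    · exfalso
      apply MinSimpleOdd.not_comm hG
      refine ⟨⟨fun a b => ?_⟩⟩
      have h1 := Subgroup.commutator_mem_commutator (mem_top a) (mem_top b)
      rw [← _root_.commutator_def, h, mem_bot] at h1
      exact commutatorElement_eq_one_iff_mul_comm.mp h1
    · exact h
  rw [hperf, top_inf_eq, hS'] at hfocal
  have hPMM : P ≤ ⁅M, M⁆ := by rw [hfocal]; exact inf_le_left
  -- P is normal in M
  have hMs : Group.IsSolvable M := MinSimpleOdd.solvable_of_ne_top hG hMtop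
  have hPM' : RelSylow.IsSyl p P M := hP.of_le hPM le_top
  obtain ⟨P', hP'1, hP'2⟩ := hPM'.exists_sylow
  have hJn : (J.subgroupOf M).Normal := SubgroupTools.normal_subgroupOf_iff_le_normalizer' le_rfl
  have hMP : M ≤ normalizer (P : Set G) := by
    rcases sylow_normal_or_threeStep (G := M) (subgroup hCN M) hJn
      (hJp.comap_of_injective _ (subtype_injective _)) (by
        intro h
        apply hJ1
        rw [eq_bot_iff]
        intro a ha
        have : (⟨a, hPM (hJP ha)⟩ : M) ∈ J.subgroupOf M := mem_subgroupOf.mpr ha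
        rw [h, mem_bot] at this
        rw [mem_bot]
        exact congrArg Subtype.val this) P' with h | h
    · rw [← hP'1]
      exact Cores.le_normalizer_map_subtype _
    · exfalso
      apply not_le_commutator_of_threeStep h P'
      rw [hP'2]
      intro x hx
      have h1 : (x : G) ∈ ⁅M, M⁆ := hPMM (mem_subgroupOf.mp hx)
      have h2 : (commutator M).map M.subtype = ⁅M, M⁆ := by
        rw [_root_.commutator_def, Subgroup.map_commutator, ← MonoidHom.range_eq_map, Subgroup.range_subtype]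
      rw [← h2] at h1
      obtain ⟨y, hy, hyx⟩ := h1
      have : y = x := Subtype.ext hyx
      rwa [← this]
  have hPeq : normalizer (P : Set G) = M := le_antisymm (ThompsonJ.normalizer_le_normalizer_J_elem P) hMP
  rw [hPeq]
  exact ⟨hNQ, hPMM, hctl⟩

theorem no_threeStep (hG : IsMinSimpleOddOrder G) (hCN : IsCNGroup G) (H : Subgroup G) (p : ℕ)
    [hp : Fact p.Prime] : ¬ IsThreeStepGroup p ↥H := by
  classical
  intro hT
  have hT' := hT
  obtain ⟨hF1, A, hA1, hAcyc, hAodd, hAp, hKn, hKtop, ⟨n, hn⟩, hfpf, hmod⟩ := hT'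
  set F : Subgroup G := (pCore p H).map H.subtype with hF
  have hFp : IsPGroup p F := (Cores.isPGroup_pCore p H).map _
  have hFne : F ≠ ⊥ := fun h => hF1 ((Subgroup.map_eq_bot_iff_of_injective _ H.subtype_injective).mp h)
  obtain ⟨P, hFP, hP⟩ := RelSylow.exists_isSyl_ge hFp (le_top : F ≤ ⊤)
  have hP1 : P ≠ ⊥ := by
    rintro rfl
    exact hFne (le_bot_iff.mp hFP)
  obtain ⟨h1, h2, h3⟩ := sylow_main hG hCN hP hP1
  have hHP : H ≤ normalizer (P : Set G) := (Cores.le_normalizer_map_subtype _).trans (h1 F hFP hFne)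
  -- all p-elements of H lie in pCore p H
  have hpel : ∀ x : H, (∃ k, orderOf x = p ^ k) → x ∈ pCore p H := by
    rintro x ⟨k, hk⟩
    have hPN : RelSylow.IsSyl p P (normalizer (P : Set G)) := hP.of_le le_normalizer le_top
    obtain ⟨m, hm, hle⟩ := hPN.exists_conj_le (Q := zpowers (x : G))
      (IsPGroup.of_card (n := k) (by rw [Nat.card_zpowers, orderOf_coe]; exact hk))
      (by rw [zpowers_le]; exact hHP x.2)
    have h4 := hle (mem_zpowers (x : G))
    rw [RelSylow.conj_eq_of_mem_normalizer hm] at h4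
    have h5 : (P.subgroupOf H).Normal := SubgroupTools.normal_subgroupOf_iff_le_normalizer' hHP
    have h6 : P.subgroupOf H ≤ pCore p H :=
      Cores.le_pCore h5 (hP.2.1.comap_of_injective _ (subtype_injective _))
    exact h6 (mem_subgroupOf.mpr h4)
  -- contradiction with the index
  have hn0 : n ≠ 0 := by
    rintro rfl
    rw [pow_zero] at hn
    exact hKtop (Subgroup.index_eq_one.mp hn)
  obtain ⟨S⟩ : Nonempty (Sylow p H) := inferInstance
  have hSF : (S : Subgroup H) ≤ pCore p H ⊔ A := by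
    intro x hx
    obtain ⟨k, hk⟩ := IsPGroup.iff_orderOf.mp S.2 ⟨x, hx⟩
    rw [orderOf_mk] at hk
    exact (le_sup_left : pCore p H ≤ pCore p H ⊔ A) (hpel x ⟨k, hk⟩)
  apply S.not_dvd_index
  have h7 : p ∣ (pCore p H ⊔ A).index := by rw [hn]; exact dvd_pow_self p hn0
  exact h7.trans (Subgroup.index_dvd_of_le hSF)

end Cfsg.Agent.Lib.CN
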