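import Cfsg.Agent.Lib.CN8

/-!
# CN-groups, ninth part: Frobenius groups of odd order, degenerate three-step groups
-/

set_option autoImplicit false
open Cfsg

namespace Cfsg.Agent.Lib.CN

open Subgroup
open scoped Pointwise

variable {G : Type*} [Group G]

theorem fittingHall_eq_top_of_isNilpotent [Finite G] (h : Group.IsNilpotent G) : fittingHall G = ⊤ := by
  rw [eq_top_iff]
  apply H23Nilp.le_fittingHall inferInstance
  · exact Group.nilpotent_of_mulEquiv Subgroup.topEquiv.symm
  · rw [Subgroup.index_top]; exact Nat.coprime_one_right _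

/-- In a CN-group of odd order with `fittingHall G ≠ ⊥`, the quotient by `fittingHall G` is abelian. -/
theorem commutator_le_fittingHall [Finite G] (hodd : Odd (Nat.card G)) (hCN : IsCNGroup G)
    (hne : fittingHall G ≠ ⊥) : commutator G ≤ fittingHall G := by
  classical
  by_cases hnil : Group.IsNilpotent G
  · rw [fittingHall_eq_top_of_isNilpotent hnil]; exact le_top
  obtain ⟨hHtop, ⟨E, hE, hF, hfpf, hEnil⟩, -⟩ := frobenius_of_normal_sylow hCN hnil hne
  obtain ⟨V, act, -, hV1, hVab, hact⟩ := FrobAction2.exists_fpf_action hE hne hfpf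
  let _ : CommGroup V := { (inferInstance : Group V) with
    mul_comm := fun a b => Subtype.ext (hVab a a.2 b b.2) }
  have : Nontrivial V := (Subgroup.nontrivial_iff_ne_bot V).2 hV1
  have hEodd : ¬ 2 ∣ Nat.card E := by
    intro h
    have h1 := h.trans (Subgroup.card_subgroup_dvd_card E)
    exact (Nat.not_even_iff_odd.mpr hodd) (even_iff_two_dvd.mpr h1)
  have hZ : IsZGroup E := FrobAction3.isZGroup_of_odd (act := act) hact hEodd
  have hcyc : IsCyclic E := inferInstance
  have e : G ⧸ fittingHall G ≃* E := hE.symm.QuotientMulEquiv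
  have hcyc' : IsCyclic (G ⧸ fittingHall G) := isCyclic_of_surjective e.symm e.symm.surjective
  have hcomm : ∀ a b : G ⧸ fittingHall G, a * b = b * a := by
    intro a b
    letI : CommGroup (G ⧸ fittingHall G) := IsCyclic.commGroup
    exact mul_comm a b
  rw [_root_.commutator_def, Subgroup.commutator_le]
  intro a _ b _
  rw [← QuotientGroup.eq_one_iff]
  show QuotientGroup.mk' (fittingHall G) _ = 1
  rw [map_commutatorElement, commutatorElement_eq_one_iff_mul_comm]
  exact hcomm _ _

theorem fittingHall_eq_fittingSubgroup [Finite G] (hCN : IsCNGroup G) (h : fittingHall G ≠ ⊥) :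
    fittingHall G = fittingSubgroup G :=
  le_antisymm H23Nilp.fittingHall_le_fittingSubgroup (fittingSubgroup_le_fittingHall hCN h)

/-- A "three-step group" (for an arbitrary natural number `p`) cannot be a solvable CN-group of odd order with
`fittingHall ≠ ⊥`. -/
theorem not_threeStep_of_fittingHall [Finite G] [hs : Group.IsSolvable G] (hodd : Odd (Nat.card G))
    (hCN : IsCNGroup G) (hne : fittingHall G ≠ ⊥) (p : ℕ) : ¬ IsThreeStepGroup p G := by
  classical
  rintro ⟨hF1, A, hA1, hAcyc, hAodd, hAp, hKn, hKtop, ⟨n, hn⟩, hfpf, hmod⟩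
  obtain ⟨hHn, hHnil, hHc⟩ := H23Nilp.fittingHall_spec (G := G)
  set N := fittingHall G with hN
  set F := pCore p G with hFdef
  have hFn : F.Normal := Subgroup.normal_of_characteristic _
  have hFp : IsPGroup p F := Cores.isPGroup_pCore p G
  set K := F ⊔ A with hK
  have hFK : F ≤ K := le_sup_left
  have hAK : A ≤ K := le_sup_right
  -- elements of F have order dividing a power of p
  have hpel : ∀ x ∈ F, ∃ k, orderOf x ∣ p ^ k := by
    intro x hx
    obtain ⟨k, hk⟩ := hFp ⟨x, hx⟩
    exact ⟨k, orderOf_dvd_of_pow_eq_one (congrArg Subtype.val hk)⟩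
  -- a nontrivial element of F ∩ N
  obtain ⟨v, hvF, hvN, hv1⟩ : ∃ v ∈ F, v ∈ N ∧ v ≠ 1 := by
    have : Nontrivial F := (Subgroup.nontrivial_iff_ne_bot F).2 hF1
    have h1 : fittingSubgroup F ≠ ⊥ := Cores.fittingSubgroup_ne_bot
    obtain ⟨w, hw, hw1⟩ := (fittingSubgroup F).bot_or_exists_ne_one.resolve_left h1
    have h2 : (w : G) ∈ (fittingSubgroup F).map F.subtype := mem_map_of_mem F.subtype hw
    rw [Cores.map_fittingSubgroup_subtype_eq] at h2
    refine ⟨w, h2.1, ?_, fun h => hw1 (Subtype.ext h)⟩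
    rw [hN, fittingHall_eq_fittingSubgroup hCN hne]
    exact h2.2
  have hcomm := commutator_le_fittingHall hodd hCN hne
  obtain ⟨x, hx⟩ : ∃ x, x ∉ K := by
    by_contra h
    push Not at h
    exact hKtop (eq_top_iff.mpr fun y _ => h y)
  obtain ⟨a, ha, ha1⟩ := A.bot_or_exists_ne_one.resolve_left hA1
  apply hmod x hx a ha ha1
  set w := x * a * x⁻¹ * a⁻¹ with hw
  have hwK : w ∈ K := K.mul_mem (hKn.conj_mem a (hAK ha) x) (K.inv_mem (hAK ha))
  have hwN : w ∈ N := hcomm (Subgroup.commutator_mem_commutator (mem_top x) (mem_top a))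
  -- show w ∈ F
  apply mem_of_forall_pElement
  rintro q hq u hu ⟨k, hk⟩
  have := Fact.mk hq
  have huK : u ∈ K := zpowers_le.mpr hwK hu
  have huN : u ∈ N := zpowers_le.mpr hwN hu
  have hmemK : ∀ x, x ∈ K ↔ ∃ f ∈ F, ∃ a ∈ A, f * a = x := fun x =>
    SubgroupTools.mem_sup_of_le_normalizer (by rw [normalizer_eq_top]; exact le_top)
  -- image of K in G/F has order dividing |A|
  have hKF : ∀ y ∈ K, orderOf (QuotientGroup.mk' F y) ∣ Nat.card A := by
    intro y hy
    obtain ⟨f, hf, a, ha, rfl⟩ := (hmemK y).mp hy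
    have h1 : QuotientGroup.mk' F (f * a) = QuotientGroup.mk' F a := by
      rw [map_mul]
      have : QuotientGroup.mk' F f = 1 := (QuotientGroup.eq_one_iff f).mpr hf
      rw [this, one_mul]
    rw [h1]
    exact (orderOf_map_dvd (QuotientGroup.mk' F) a).trans (orderOf_dvd_card_of_mem ha)
  by_cases hqp : q ∣ p
  · -- u is a π-element
    rw [← QuotientGroup.eq_one_iff]
    show QuotientGroup.mk' F u = 1
    rw [← orderOf_eq_one_iff]
    have h1 := hKF u huK
    have h2 : orderOf (QuotientGroup.mk' F u) ∣ q ^ k := by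
      rw [← hk]; exact orderOf_map_dvd (QuotientGroup.mk' F) u
    have h3 : Nat.Coprime (Nat.card A) (q ^ k) :=
      Nat.Coprime.pow_right _ (Nat.Coprime.coprime_dvd_right hqp hAp)
    exact Nat.eq_one_of_dvd_coprimes h3 h1 h2
  · -- u is a π'-element
    have huv : u * v = v * u := by
      obtain ⟨j, hj⟩ := hpel v hvF
      refine H23Nilp.commute_of_coprime_of_mem hHnil huN hvN ?_
      rw [hk]
      exact Nat.Coprime.coprime_dvd_right hj (Nat.Coprime.pow _ _ ((Nat.Prime.coprime_iff_not_dvd hq).mpr hqp))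
    by_contra huF
    have hu1 : u ≠ 1 := by
      rintro rfl
      exact huF (one_mem _)
    -- A is a Hall subgroup of K
    have hdisj : F ⊓ A = ⊥ := by
      rw [eq_bot_iff]
      rintro y ⟨hyF, hyA⟩
      obtain ⟨j, hj⟩ := hpel y hyF
      have h1 : Nat.Coprime (Nat.card A) (p ^ j) := Nat.Coprime.pow_right _ hAp
      rw [mem_bot, ← orderOf_eq_one_iff]
      exact Nat.eq_one_of_dvd_coprimes h1 (orderOf_dvd_card_of_mem hyA) hj
    have hrel : A.relIndex K = Nat.card F := by
      have h1 : Nat.card K = Nat.card F * Nat.card A :=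
        SubgroupTools.card_sup_of_disjoint (by rw [normalizer_eq_top]; exact le_top) (disjoint_iff.mpr hdisj)
      have h2 := Cores.card_mul_relIndex hAK
      rw [h1, mul_comm] at h2
      exact Nat.eq_of_mul_eq_mul_right Nat.card_pos h2
    have hKs : Group.IsSolvable K := inferInstance
    have hHall : IsPiHallOf {r : ℕ | ¬ r ∣ p} A K := by
      refine ⟨hAK, fun r hr hrA hrp => ?_, fun r hr hrp hrF => ?_⟩
      · exact hr.one_lt.ne' (Nat.eq_one_of_dvd_coprimes hAp hrA hrp)
      · rw [hrel] at hrF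
        have := Fact.mk hr
        obtain ⟨y, hy⟩ := exists_prime_orderOf_dvd_card' (G := F) r hrF
        obtain ⟨j, hj⟩ := hpel y y.2
        rw [orderOf_coe, hy] at hj
        exact hrp (hr.dvd_of_dvd_pow hj)
    obtain ⟨g, hg, hle⟩ := HallPi.exists_conj_le_rel hKs hHall (K := zpowers u)
      (by rw [zpowers_le]; exact huK) (by
        intro r hr hrd
        rw [Nat.card_zpowers, hk] at hrd
        have := (Nat.prime_dvd_prime_iff_eq hr hq).mp (hr.dvd_of_dvd_pow hrd)
        rw [this]; exact hqp)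
    have h4 := hle (mem_zpowers u)
    rw [SubgroupTools.mem_conj_smul] at h4
    have h5 : g⁻¹ * u * g ≠ 1 := by
      intro h
      apply hu1
      have : u = g * (g⁻¹ * u * g) * g⁻¹ := by group
      rw [this, h]; group
    have h6 : g⁻¹ * v * g ∈ F ⊓ centralizer ({g⁻¹ * u * g} : Set G) := by
      refine ⟨?_, mem_centralizer_singleton_iff.mpr ?_⟩
      · have := hFn.conj_mem v hvF g⁻¹
        rwa [inv_inv] at this
      · calc g⁻¹ * v * g * (g⁻¹ * u * g) = g⁻¹ * (v * u) * g := by group
          _ = g⁻¹ * (u * v) * g := by rw [huv]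
          _ = _ := by group
    rw [hfpf _ h4 h5, mem_bot] at h6
    apply hv1
    have : v = g * (g⁻¹ * v * g) * g⁻¹ := by group
    rw [this, h6]; group

end Cfsg.Agent.Lib.CN
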