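import Cfsg.Agent.Lib.CNMain
import Cfsg.Agent.Lib.CITStr
import Cfsg.Agent.Lib.CN1
import Cfsg.Agent.S0071
import Cfsg.Agent.S0205
import Mathlib

/-!
# CN-groups (helper6): nonsolvable CN-groups are CIT-groups
-/

set_option autoImplicit false
set_option linter.all false

namespace Cfsg.Agent.Lib.CIT

open Subgroup SylowRel

variable {G : Type*} [Group G] [Finite G]

theorem cn_coprime {T : Subgroup G} (hT : IsPGroup 2 T) {x y : G} (hx : x ∈ T) (hy : Odd (orderOf y)) :
    (orderOf x).Coprime (orderOf y) := by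
  obtain ⟨k, hk⟩ := pow_two_of_isPGroup hT hx
  exact Nat.Coprime.coprime_dvd_left (orderOf_dvd_of_pow_eq_one hk) ((Nat.coprime_two_left.2 hy).pow_left k)

/-- an element of odd order centralizing a nontrivial `2`-element centralizes a Sylow `2`-subgroup -/
theorem cn_syl_comm (hCN : Cfsg.IsCNGroup G) {t y : G} (ht : t ≠ 1) {T : Sylow 2 G}
    (htT : t ∈ (T : Subgroup G)) (hy : Odd (orderOf y)) (hc : t * y = y * t) :
    ∀ x ∈ (T : Subgroup G), x * y = y * x := by
  haveI : Fact (Nat.Prime 2) := ⟨Nat.prime_two⟩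
  haveI : Nontrivial (T : Subgroup G) := ⟨⟨⟨t, htT⟩, 1, fun h => ht (congrArg Subtype.val h)⟩⟩
  haveI := T.isPGroup'.center_nontrivial
  obtain ⟨z, hz⟩ := exists_ne (1 : Subgroup.center (T : Subgroup G))
  set z0 : G := ((z : (T : Subgroup G)) : G) with hz0
  have hz1 : z0 ≠ 1 := fun h => hz (Subtype.ext (Subtype.ext h))
  have hzT : z0 ∈ (T : Subgroup G) := (z : (T : Subgroup G)).2
  have hzc : ∀ x ∈ (T : Subgroup G), x * z0 = z0 * x := fun x hx =>
    congrArg Subtype.val ((Subgroup.mem_center_iff.1 z.2) ⟨x, hx⟩)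
  have h1 : z0 * y = y * z0 :=
    CN.comm_of_comm hCN ht (hzc t htT).symm hc.symm (cn_coprime T.isPGroup' hzT hy)
  intro x hx
  exact CN.comm_of_comm hCN hz1 (hzc x hx) h1.symm (cn_coprime T.isPGroup' hx hy)

theorem exists_syl_mem {t : G} (ht : orderOf t = 2) : ∃ T : Sylow 2 G, t ∈ (T : Subgroup G) := by
  haveI : Fact (Nat.Prime 2) := ⟨Nat.prime_two⟩
  have h1 : IsPGroup 2 (zpowers t) := by
    apply IsPGroup.of_card (n := 1)
    rw [Nat.card_zpowers, ht, pow_one]
  obtain ⟨T, hT⟩ := h1.exists_le_sylow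
  exact ⟨T, hT (mem_zpowers t)⟩

theorem cn_not_cit (hCN : Cfsg.IsCNGroup G) (h : ¬ IsCIT G) :
    ∃ (T : Sylow 2 G) (y : G), y ≠ 1 ∧ Odd (orderOf y) ∧ ∀ x ∈ (T : Subgroup G), x * y = y * x := by
  unfold IsCIT at h
  push Not at h
  obtain ⟨t, ht, hn⟩ := h
  obtain ⟨y, hy, hy1, hyo⟩ := exists_odd_of_not hn
  obtain ⟨T, hT⟩ := exists_syl_mem ht
  have ht1 : t ≠ 1 := by rintro rfl; rw [orderOf_one] at ht; omega
  exact ⟨T, y, hy1, hyo, cn_syl_comm hCN ht1 hT hyo (mem_cent.1 hy).symm⟩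

theorem solvable_of_compl (S : Sylow 2 G) {N : Subgroup G} [N.Normal] (h : N.IsComplement' (S : Subgroup G)) :
    Group.IsSolvable G := by
  haveI : Fact (Nat.Prime 2) := ⟨Nat.prime_two⟩
  have h1 : Odd (Nat.card N) := by
    rw [← Nat.not_even_iff_odd, even_iff_two_dvd, ← h.index_eq_card]
    exact S.not_dvd_index
  have h2 : IsPGroup 2 (G ⧸ N) := by
    obtain ⟨n, hn⟩ := IsPGroup.iff_card.1 S.isPGroup'
    apply IsPGroup.of_card (n := n)
    rw [← hn, ← Subgroup.index_eq_card, h.symm.index_eq_card]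
  haveI := h2.isNilpotent
  have h3 : Group.IsSolvable (G ⧸ N) := inferInstance
  exact solvable_of_quot (Cfsg.Agent.S0205.result h1) h3

theorem pow_mul_mem' {C : Subgroup G} {g d : G} (hg : g ∈ normalizer (C : Set G)) (hd : d ∈ C) (n : ℕ) :
    (g ^ n)⁻¹ * (g * d) ^ n ∈ C := by
  induction n with
  | zero => simp
  | succ n ih =>
    have h1 : g⁻¹ * ((g ^ n)⁻¹ * (g * d) ^ n) * g ∈ C := by
      have := (mem_normalizer_iff.1 (inv_mem hg) _).1 ih
      rwa [inv_inv] at this
    have h2 : (g ^ (n + 1))⁻¹ * (g * d) ^ (n + 1) = g⁻¹ * ((g ^ n)⁻¹ * (g * d) ^ n) * g * d := by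
      rw [pow_succ, pow_succ, mul_inv_rev]
      group
    rw [h2]
    exact mul_mem h1 hd

theorem cn_caseA (hCN : Cfsg.IsCNGroup G) {M : Subgroup G} [hM : M.Normal] (hMs : ¬ Group.IsSolvable M)
    (hMc : IsCIT M) : IsCIT G := by
  classical
  by_contra hcon
  haveI : Fact (Nat.Prime 2) := ⟨Nat.prime_two⟩
  obtain ⟨T, y0, hy01, hy0o, hTy0⟩ := cn_not_cit hCN hcon
  let S : Sylow 2 M := default
  have hS2 : IsPGroup 2 ((S : Subgroup M).map M.subtype) := S.isPGroup'.map _
  obtain ⟨T', hT'⟩ := hS2.exists_le_sylow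
  obtain ⟨g0, hg0⟩ := MulAction.exists_smul_eq G T T'
  obtain ⟨y, hy⟩ : ∃ y, y = g0 * y0 * g0⁻¹ := ⟨_, rfl⟩
  have hy1 : y ≠ 1 := by
    rw [hy]; intro h
    apply hy01
    have : y0 = g0⁻¹ * (g0 * y0 * g0⁻¹) * g0 := by group
    rw [this, h]; group
  have hyo : Odd (orderOf y) := by
    have h1 : orderOf y = orderOf y0 := by
      rw [hy]
      exact orderOf_injective (MulAut.conj g0).toMonoidHom (MulAut.conj g0).injective y0
    rw [h1]; exact hy0o
  have hTy : ∀ x ∈ (T' : Subgroup G), x * y = y * x := by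
    intro x hx
    rw [← hg0] at hx
    have h1 : g0⁻¹ * x * g0 ∈ (T : Subgroup G) := by
      have h2 := Subgroup.mem_pointwise_smul_iff_inv_smul_mem.1 hx
      simpa [MulAut.conj_apply] using h2
    have h3 := hTy0 _ h1
    rw [hy]
    calc x * (g0 * y0 * g0⁻¹) = g0 * (g0⁻¹ * x * g0 * y0) * g0⁻¹ := by group
      _ = g0 * (y0 * (g0⁻¹ * x * g0)) * g0⁻¹ := by rw [h3]
      _ = g0 * y0 * g0⁻¹ * x := by group
  have hSy : ∀ s : M, s ∈ (S : Subgroup M) → (s : G) * y = y * s := fun s hs => hTy _ (hT' ⟨s, hs, rfl⟩)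
  have hSb : (S : Subgroup M) ≠ ⊥ := by
    apply S.ne_bot_of_dvd_card
    by_contra h
    exact hMs (Cfsg.Agent.S0205.result (Nat.not_even_iff_odd.1 (by rwa [even_iff_two_dvd])))
  obtain ⟨s, hs, hs1⟩ := exists_mem_ne_one hSb
  have key : ∀ m : G, m ∈ M → m * y = y * m → ∃ k : ℕ, m ^ 2 ^ k = 1 := by
    intro m hm hmy
    have h2 : IsPGroup 2 ↥(M ⊓ centralizer ({y} : Set G)) := by
      by_contra hn
      obtain ⟨w, hw, hw1, hwo⟩ := exists_odd_of_not hn
      have h3 : (s : G) * w = w * s := by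
        apply CN.comm_of_comm hCN hy1 (hSy s hs) (mem_cent.1 hw.2)
        exact cn_coprime (T := ((S : Subgroup M).map M.subtype)) hS2 ⟨s, hs, rfl⟩ hwo
      have h4 : (⟨w, hw.1⟩ : M) = 1 := by
        apply hMc.eq_one S.isPGroup' hs hs1
        · rw [← orderOf_coe]; exact hwo
        · apply Subtype.ext
          exact h3.symm
      exact hw1 (congrArg Subtype.val h4)
    exact pow_two_of_isPGroup h2 ⟨hm, mem_cent.2 hmy⟩
  obtain ⟨N, hN, hNS⟩ := (Cfsg.Agent.S0071.result S).2 (by
    intro Q hQS g hg hco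
    by_cases hQb : Q = ⊥
    · rw [hQb, mem_centralizer_iff]
      intro h hh
      rw [SetLike.mem_coe, mem_bot] at hh
      rw [hh, one_mul, mul_one]
    have hQ2 : IsPGroup 2 Q := S.isPGroup'.to_le hQS
    have hQy : ∀ q ∈ Q, (q : G) * y = y * q := fun q hq => hSy q (hQS hq)
    let C : Subgroup G := (centralizer (Q : Set M)).map M.subtype
    have hC : ∀ x, x ∈ C ↔ x ∈ M ∧ ∀ q ∈ Q, (q : G) * x = x * q := by
      intro x
      constructor
      · rintro ⟨x', hx', rfl⟩
        refine ⟨x'.2, fun q hq => ?_⟩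
        exact congrArg Subtype.val ((mem_centralizer_iff.1 hx') q hq)
      · rintro ⟨hx1, hx2⟩
        refine ⟨⟨x, hx1⟩, ?_, rfl⟩
        rw [SetLike.mem_coe, mem_centralizer_iff]
        intro q hq
        exact Subtype.ext (hx2 q hq)
    have hC2 : IsPGroup 2 C := (hMc.cent hQ2 hQb).map _
    -- normalization
    have hnorm : ∀ v : G, (∀ q ∈ Q, ∃ q' ∈ Q, v⁻¹ * (q : G) * v = (q' : G)) → ∀ x ∈ C, v * x * v⁻¹ ∈ C := by
      intro v hv x hx
      rw [hC] at hx ⊢
      refine ⟨hM.conj_mem _ hx.1 _, fun q hq => ?_⟩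
      obtain ⟨q', hq', hqq⟩ := hv q hq
      have h5 := hx.2 q' hq'
      rw [← hqq] at h5
      calc (q : G) * (v * x * v⁻¹) = v * (v⁻¹ * q * v * x) * v⁻¹ := by group
        _ = v * (x * (v⁻¹ * q * v)) * v⁻¹ := by rw [h5]
        _ = v * x * v⁻¹ * q := by group
    have hyN : y ∈ normalizer (C : Set G) := by
      have h6 : ∀ q ∈ Q, y⁻¹ * (q : G) * y = q := by
        intro q hq
        rw [mul_assoc, hQy q hq, inv_mul_cancel_left]
      have h7 : ∀ q ∈ Q, y * (q : G) * y⁻¹ = q := by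
        intro q hq
        rw [← hQy q hq, mul_inv_cancel_right]
      rw [mem_normalizer_iff]
      intro x
      constructor
      · exact hnorm y (fun q hq => ⟨q, hq, h6 q hq⟩) x
      · intro h
        have h8 := hnorm y⁻¹ (fun q hq => ⟨q, hq, by rw [inv_inv]; exact h7 q hq⟩) _ h
        have h9 : y⁻¹ * (y * x * y⁻¹) * y⁻¹⁻¹ = x := by group
        rwa [h9] at h8
    have hgQ : ∀ q ∈ Q, g * q * g⁻¹ ∈ Q := fun q hq => (mem_normalizer_iff.1 hg q).1 hq
    have hgQ' : ∀ q ∈ Q, g⁻¹ * q * g ∈ Q := fun q hq => by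
      have := (mem_normalizer_iff.1 (inv_mem hg) q).1 hq
      rwa [inv_inv] at this
    have hgN : (g : G) ∈ normalizer (C : Set G) := by
      rw [mem_normalizer_iff]
      intro x
      constructor
      · exact hnorm g (fun q hq => ⟨g⁻¹ * q * g, hgQ' q hq, rfl⟩) x
      · intro h
        have h8 := hnorm (g : G)⁻¹ (fun q hq => ⟨g * q * g⁻¹, hgQ q hq, by rw [inv_inv]; rfl⟩) _ h
        have h9 : (g : G)⁻¹ * ((g : G) * x * (g : G)⁻¹) * (g : G)⁻¹⁻¹ = x := by group
        rwa [h9] at h8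
    have hf : (g : G)⁻¹ * (y * g * y⁻¹) ∈ C := by
      rw [hC]
      refine ⟨mul_mem (inv_mem g.2) (hM.conj_mem _ g.2 _), fun q hq => ?_⟩
      have h10 := hQy _ (hgQ q hq)
      have h11 := hQy _ hq
      have h12 : ((g * q * g⁻¹ : M) : G) = (g : G) * q * (g : G)⁻¹ := rfl
      rw [h12] at h10
      have h13 : (q : G) * y⁻¹ = y⁻¹ * q := by
        rw [mul_inv_eq_iff_eq_mul, mul_assoc, h11, inv_mul_cancel_left]
      calc (q : G) * ((g : G)⁻¹ * (y * g * y⁻¹)) = (g : G)⁻¹ * ((g : G) * q * (g : G)⁻¹ * y) * g * y⁻¹ := by group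
        _ = (g : G)⁻¹ * (y * ((g : G) * q * (g : G)⁻¹)) * g * y⁻¹ := by rw [h10]
        _ = (g : G)⁻¹ * y * g * (q * y⁻¹) := by group
        _ = (g : G)⁻¹ * (y * g * y⁻¹) * q := by rw [h13]; group
    obtain ⟨d, hd, hgd⟩ := CoprimeGen.exists_mul_commute hyN (coprime_card hC2 hyo) hf
    have hdM : d ∈ M := ((hC d).1 hd).1
    obtain ⟨k, hk⟩ := key _ (mul_mem g.2 hdM) (mem_cent.1 hgd)
    have h14 := pow_mul_mem' hgN hd (2 ^ k)
    rw [hk, mul_one] at h14
    obtain ⟨l, hl⟩ := pow_two_of_isPGroup hC2 (inv_mem h14)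
    rw [inv_inv, ← pow_mul, ← pow_add] at hl
    have h15 : orderOf g ∣ 2 ^ (k + l) := by
      apply orderOf_dvd_of_pow_eq_one
      apply Subtype.ext
      exact hl
    have h16 : orderOf g = 1 := Nat.Coprime.eq_one_of_dvd (hco.pow_right _) h15
    rw [orderOf_eq_one_iff] at h16
    rw [h16]
    exact one_mem _)
  exact hMs (solvable_of_compl S hNS)

theorem cn_cent_solvable (hCN : Cfsg.IsCNGroup G) {A : Subgroup G} (hAb : A ≠ ⊥) :
    Group.IsNilpotent (centralizer (A : Set G)) := by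
  obtain ⟨a, ha, ha1⟩ := exists_mem_ne_one hAb
  apply CN.isNilpotent_of_le_centralizer hCN ha1
  intro x hx
  exact mem_cent.2 ((mem_centralizer_iff.1 hx) a ha).symm

theorem cn_odd_normal (hCN : Cfsg.IsCNGroup G) {A : Subgroup G} [hA : A.Normal] (hAb : A ≠ ⊥)
    (hAo : Odd (Nat.card A)) (hAc : ∀ a ∈ A, ∀ b ∈ A, a * b = b * a) : Group.IsSolvable G := by
  classical
  haveI : Fact (Nat.Prime 2) := ⟨Nat.prime_two⟩
  set C : Subgroup G := centralizer (A : Set G) with hC
  have hCn : C.Normal := by rw [hC]; infer_instance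
  have hCnil : Group.IsNilpotent C := cn_cent_solvable hCN hAb
  have hCs : Group.IsSolvable C := inferInstance
  by_cases h : ∃ t : G, orderOf t = 2 ∧ ∃ a ∈ A, a ≠ 1 ∧ t * a = a * t
  · obtain ⟨t, ht, a, ha, ha1, hta⟩ := h
    have ht1 : t ≠ 1 := by rintro rfl; rw [orderOf_one] at ht; omega
    obtain ⟨T, hT⟩ := exists_syl_mem ht
    have hTC : (T : Subgroup G) ≤ C := by
      intro x hx
      rw [hC, mem_centralizer_iff]
      intro b hb
      have hbo : Odd (orderOf b) := odd_orderOf hAo hb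
      have h1 : t * b = b * t := by
        apply CN.comm_of_comm hCN ha1 hta (hAc b hb a ha)
        exact cn_coprime T.isPGroup' hT hbo
      exact (cn_syl_comm hCN ht1 hT hbo h1 x hx).symm
    apply solvable_of_quot hCs
    apply Cfsg.Agent.S0205.result
    rw [← Subgroup.index_eq_card, ← Nat.not_even_iff_odd, even_iff_two_dvd]
    intro h2
    exact T.not_dvd_index (h2.trans (index_dvd_of_le hTC))
  push Not at h
  by_cases hev : Even (Nat.card G)
  swap
  · exact Cfsg.Agent.S0205.result (Nat.not_even_iff_odd.1 hev)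
  obtain ⟨t, -, ht⟩ := StrongEmbPt.exists_involution (K := (⊤ : Subgroup G)) (by rw [Subgroup.card_top]; exact hev)
  have ht1 : t ≠ 1 := by rintro rfl; rw [orderOf_one] at ht; omega
  obtain ⟨n0, hn0, hn01⟩ := exists_mem_ne_one hAb
  have hCo : Odd (Nat.card C) := by
    apply odd_card_of_forall
    intro s hs hso
    exact h s hso n0 hn0 hn01 ((mem_centralizer_iff.1 hs) n0 hn0).symm
  have hinv : ∀ s : G, orderOf s = 2 → ∀ n ∈ A, s * n * s⁻¹ = n⁻¹ := by
    intro s hs n hn
    have hfp : MonoidHom.FixedPointFree (MulAut.conjNormal s : MulAut A) := by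
      intro m hm
      have h1 : s * (m : G) * s⁻¹ = m := by
        have := congrArg Subtype.val hm
        rwa [MulAut.conjNormal_apply] at this
      by_contra hm1
      apply h s hs m m.2 (fun h2 => hm1 (Subtype.ext h2))
      rw [mul_inv_eq_iff_eq_mul] at h1
      exact h1
    have hin : Function.Involutive (MulAut.conjNormal s : MulAut A) := by
      intro m
      have h1 : (MulAut.conjNormal s : MulAut A) ((MulAut.conjNormal s : MulAut A) m) =
          (MulAut.conjNormal (s * s) : MulAut A) m := by rw [map_mul]; rfl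
      rw [h1, mul_self hs, map_one]; rfl
    have h2 := congrFun (hfp.coe_eq_inv_of_involutive hin) ⟨n, hn⟩
    have h3 := congrArg Subtype.val h2
    rw [MulAut.conjNormal_apply] at h3
    exact h3
  have key : ∀ g : G, ∃ c ∈ C, c⁻¹ * g ∈ centralizer ({t} : Set G) := by
    intro g
    set s := g * t * g⁻¹ with hs
    have hso : orderOf s = 2 := by
      rw [← ht]
      have := orderOf_injective (MulAut.conj g).toMonoidHom (MulAut.conj g).injective t
      simpa using this
    have hts : t * s ∈ C := by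
      rw [hC, mem_centralizer_iff]
      intro n hn
      have h1 := hinv s hso n hn
      have h2 := hinv t ht _ (inv_mem hn)
      rw [inv_inv] at h2
      have h3 : t * s * n * (t * s)⁻¹ = n := by
        have : t * s * n * (t * s)⁻¹ = t * (s * n * s⁻¹) * t⁻¹ := by group
        rw [this, h1, h2]
      rw [mul_inv_eq_iff_eq_mul] at h3
      exact h3.symm
    have hodd : Odd (orderOf (t * s)) := odd_orderOf hCo hts
    have h4 : t * (t * s) * t⁻¹ = (t * s)⁻¹ := by
      rw [mul_inv_rev, inv_eq_self ht, inv_eq_self hso, ← mul_assoc, mul_self ht, one_mul]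
    obtain ⟨k, hk⟩ := exists_pow_conj h4 hodd
    refine ⟨(t * s) ^ k, pow_mem hts k, ?_⟩
    rw [← mul_assoc t t s, mul_self ht, one_mul, hs] at hk
    rw [mem_cent]
    set c := (t * (g * t * g⁻¹)) ^ k with hc
    calc c⁻¹ * g * t = c⁻¹ * (g * t * g⁻¹) * g := by group
      _ = c⁻¹ * (c * t * c⁻¹) * g := by rw [hk]
      _ = t * (c⁻¹ * g) := by group
  have hmap : (centralizer ({t} : Set G)).map (QuotientGroup.mk' C) = ⊤ := by
    rw [eq_top_iff]
    intro x _
    obtain ⟨g, rfl⟩ := QuotientGroup.mk'_surjective C x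
    obtain ⟨c, hc, hcg⟩ := key g
    refine ⟨c⁻¹ * g, hcg, ?_⟩
    rw [map_mul, map_inv]
    have : QuotientGroup.mk' C c = 1 := (QuotientGroup.eq_one_iff c).2 hc
    rw [this]; simp
  have h5 : Group.IsNilpotent ↥((centralizer ({t} : Set G)).map (QuotientGroup.mk' C)) :=
    CN.isNilpotent_map _ (hCN t ht1)
  rw [hmap] at h5
  have h6 : Group.IsNilpotent (G ⧸ C) := Group.nilpotent_of_mulEquiv Subgroup.topEquiv
  have h7 : Group.IsSolvable (G ⧸ C) := inferInstance
  exact solvable_of_quot hCs h7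

theorem cn_odd_normal' (hCN : Cfsg.IsCNGroup G) {N : Subgroup G} [hN : N.Normal] (hNb : N ≠ ⊥)
    (hNo : Odd (Nat.card N)) : Group.IsSolvable G := by
  haveI : Nontrivial N := (Subgroup.nontrivial_iff_ne_bot N).2 hNb
  haveI : Group.IsSolvable N := Cfsg.Agent.S0205.result hNo
  obtain ⟨p, E, hp, hE1, hEc, hEab, hEp⟩ := SubgroupTools.exists_characteristic_elementary N
  haveI hAn : (E.map N.subtype).Normal := Fitting.normal_map_subtype_of_characteristic hEc
  apply cn_odd_normal hCN (A := E.map N.subtype)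
  · intro h
    exact hE1 ((map_eq_bot_iff_of_injective _ N.subtype_injective).mp h)
  · exact Odd.of_dvd_nat hNo (Subgroup.card_dvd_of_le (map_subtype_le E))
  · rintro _ ⟨a, ha, rfl⟩ _ ⟨b, hb, rfl⟩
    exact congrArg Subtype.val (isMulCommutative_iff_of_setLike.mp hEab a ha b hb)

theorem cn_caseB (hCN : Cfsg.IsCNGroup G) (hns : ¬ Group.IsSolvable G) {N : Subgroup G} [hN : N.Normal]
    (hNs : Group.IsSolvable N) (hNb : N ≠ ⊥) : IsCIT G := by
  classical
  haveI : Fact (Nat.Prime 2) := ⟨Nat.prime_two⟩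
  haveI : Nontrivial N := (Subgroup.nontrivial_iff_ne_bot N).2 hNb
  obtain ⟨p, E, hp, hE1, hEc, hEab, hEp⟩ := SubgroupTools.exists_characteristic_elementary N
  haveI : Fact p.Prime := ⟨hp⟩
  set A : Subgroup G := E.map N.subtype with hA
  haveI hAn : A.Normal := Fitting.normal_map_subtype_of_characteristic hEc
  have hAb : A ≠ ⊥ := by
    intro h
    exact hE1 ((map_eq_bot_iff_of_injective _ N.subtype_injective).mp h)
  have hAp : IsPGroup p A := by
    have := SubgroupTools.isPGroup_of_forall_pow_eq_one hEp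
    exact this.map _
  have hAc : ∀ a ∈ A, ∀ b ∈ A, a * b = b * a := by
    rintro _ ⟨a, ha, rfl⟩ _ ⟨b, hb, rfl⟩
    exact congrArg Subtype.val (isMulCommutative_iff_of_setLike.mp hEab a ha b hb)
  rcases hp.eq_two_or_odd' with h2 | hodd
  swap
  · exfalso
    apply hns
    obtain ⟨n, hn⟩ := IsPGroup.iff_card.1 hAp
    exact cn_odd_normal hCN hAb (by rw [hn]; exact hodd.pow) hAc
  subst h2
  set K : Subgroup G := centralizer (A : Set G) with hK
  haveI hKn : K.Normal := by rw [hK]; infer_instance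
  haveI hKnil : Group.IsNilpotent K := cn_cent_solvable hCN hAb
  have hK2 : IsPGroup 2 K := by
    by_contra hcon
    obtain ⟨w, hw, hw1, hwo⟩ := exists_odd_of_not hcon
    have hwo1 : orderOf w ≠ 1 := fun h => hw1 (orderOf_eq_one_iff.1 h)
    obtain ⟨q, hq, hqw⟩ := Nat.exists_prime_and_dvd hwo1
    haveI : Fact q.Prime := ⟨hq⟩
    have hqo : Odd q := Odd.of_dvd_nat hwo hqw
    have hqK : q ∣ Nat.card K := hqw.trans (Subgroup.orderOf_dvd_natCard K hw)
    let S : Sylow q K := default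
    have hSn : (S : Subgroup K).Normal := (Group.isNilpotent_of_finite_tfae.out 0 3 rfl rfl |>.mp hKnil) q inferInstance S
    haveI hSc : (S : Subgroup K).Characteristic := S.characteristic_of_normal hSn
    haveI hSn' : ((S : Subgroup K).map K.subtype).Normal := Fitting.normal_map_subtype_of_characteristic hSc
    apply hns
    apply cn_odd_normal' hCN (N := (S : Subgroup K).map K.subtype)
    · intro h
      exact S.ne_bot_of_dvd_card hqK ((map_eq_bot_iff_of_injective _ K.subtype_injective).mp h)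
    · have h3 : IsPGroup q ((S : Subgroup K).map K.subtype) := S.isPGroup'.map _
      obtain ⟨n, hn⟩ := IsPGroup.iff_card.1 h3
      rw [hn]; exact hqo.pow
  by_contra hcon
  obtain ⟨T, y, hy1, hyo, hTy⟩ := cn_not_cit hCN hcon
  have hAT : A ≤ (T : Subgroup G) := by
    have h4 : IsPGroup 2 (A ⊔ (T : Subgroup G) : Subgroup G) := IsPGroup.to_sup_of_normal_left hAp T.isPGroup'
    have h5 := T.is_maximal' h4 le_sup_right
    rw [← h5]; exact le_sup_left
  apply hy1
  apply odd_of_isPGroup hK2 _ hyo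
  rw [hK, mem_centralizer_iff]
  exact fun a ha => hTy a (hAT ha)

universe u

/-- **Suzuki.** A nonsolvable CN-group is a CIT-group. -/
theorem cit_of_cn_nonsolvable : ∀ (n : ℕ) (G : Type u) [Group G] [Finite G], Nat.card G = n →
    Cfsg.IsCNGroup G → ¬ Group.IsSolvable G → IsCIT G := by
  intro n
  induction n using Nat.strong_induction_on with
  | _ n ih =>
  intro G _ _ hn hCN hns
  by_cases hs : IsSimpleGroup G
  · apply cit_of_cn _ hCN
    intro hc
    exact hns (Group.isSolvable_of_comm hc)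
  · haveI : Nontrivial G := by
      by_contra h
      rw [not_nontrivial_iff_subsingleton] at h
      exact hns inferInstance
    obtain ⟨N, hN, hNb, hNt⟩ : ∃ N : Subgroup G, N.Normal ∧ N ≠ ⊥ ∧ N ≠ ⊤ := by
      by_contra hcon
      push Not at hcon
      apply hs
      refine ⟨fun H hH => ?_⟩
      by_cases h : H = ⊥
      · exact Or.inl h
      · exact Or.inr (hcon H hH h)
    by_cases hNs : Group.IsSolvable N
    · exact cn_caseB hCN hns hNs hNb
    · apply cn_caseA hCN hNs
      apply ih (Nat.card N) _ N rfl (CN.subgroup hCN N) hNs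
      rw [← hn]
      have h1 := Subgroup.card_eq_card_quotient_mul_card_subgroup N
      have h2 : 1 < Nat.card (G ⧸ N) := by
        rw [← Subgroup.index_eq_card]
        have h3 : N.index ≠ 1 := fun h => hNt (Subgroup.index_eq_one.1 h)
        have h4 : N.index ≠ 0 := Subgroup.index_ne_zero_of_finite
        omega
      have h3 : 0 < Nat.card N := Nat.card_pos
      rw [h1]
      nlinarith

end Cfsg.Agent.Lib.CIT
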