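import Cfsg.Agent.Lib.CITZass

/-!
# CN-groups (helper6): TI nilpotent subgroups of even order ==> Zassenhaus
-/

set_option autoImplicit false
set_option linter.all false

namespace Cfsg.Agent.Lib.CIT

open Subgroup SylowRel StrongEmbPt

variable {G : Type*} [Group G]

/-- nilpotent-like TI data: `H` is a TI subgroup of even order containing the centralizers of its
nonidentity elements, of odd index in its normalizer `M ≠ G`. -/
structure NTI (M H : Subgroup G) : Prop where
  le : H ≤ M
  nor : M ≤ normalizer (H : Set G)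
  ti : ∀ g : G, g ∉ M → H ⊓ cj g H = ⊥
  cent : ∀ h ∈ H, h ≠ 1 → centralizer ({h} : Set G) ≤ H
  odd_index : Odd (H.relIndex M)
  even : Even (Nat.card H)
  ne_top : M ≠ ⊤

theorem mem_of_odd_relIndex [Finite G] {H M : Subgroup G} (hHM : H ≤ M) (hn : M ≤ normalizer (H : Set G))
    (hodd : Odd (H.relIndex M)) {t : G} (htM : t ∈ M) {k : ℕ} (hk : t ^ 2 ^ k = 1) : t ∈ H := by
  haveI : (H.subgroupOf M).Normal := (normal_subgroupOf_iff_le_normalizer hHM).2 hn
  have h1 : (QuotientGroup.mk (⟨t, htM⟩ : M) : M ⧸ H.subgroupOf M) = 1 := by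
    rw [← orderOf_eq_one_iff]
    have h2 : orderOf (QuotientGroup.mk (⟨t, htM⟩ : M) : M ⧸ H.subgroupOf M) ∣ 2 ^ k := by
      apply orderOf_dvd_of_pow_eq_one
      rw [← QuotientGroup.mk_pow]
      have : (⟨t, htM⟩ : M) ^ 2 ^ k = 1 := Subtype.ext (by simpa using hk)
      rw [this]; rfl
    have h3 : orderOf (QuotientGroup.mk (⟨t, htM⟩ : M) : M ⧸ H.subgroupOf M) ∣ H.relIndex M := by
      exact orderOf_dvd_natCard _
    exact Nat.eq_one_of_dvd_coprimes ((Nat.coprime_two_left.2 hodd).pow_left k) h2 h3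
  rw [QuotientGroup.eq_one_iff, mem_subgroupOf] at h1
  exact h1

theorem NTI.mem_of_inv [Finite G] {M H : Subgroup G} (h : NTI M H) {t : G} (htM : t ∈ M)
    (ht : orderOf t = 2) : t ∈ H :=
  mem_of_odd_relIndex h.le h.nor h.odd_index htM (k := 1) (by rw [pow_one, ← ht, pow_orderOf_eq_one])

theorem NTI.se [Finite G] {M H : Subgroup G} (h : NTI M H) : Cfsg.IsStronglyEmbedded M := by
  refine ⟨h.ne_top, ?_, ?_⟩
  · have h1 := card_dvd_of_le h.le
    exact (even_iff_two_dvd.2 ((even_iff_two_dvd.1 h.even).trans h1))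
  · intro g hg
    show Odd (Nat.card (M ⊓ cj g M : Subgroup G))
    rw [← Nat.not_even_iff_odd]
    intro he
    obtain ⟨t, ht, hto⟩ := exists_involution he
    have h1 := h.mem_of_inv ht.1 hto
    have h2 : g⁻¹ * t * g ∈ H := by
      refine h.mem_of_inv (mem_cj.1 ht.2) ?_
      have := orderOf_injective (MulAut.conj g⁻¹).toMonoidHom (MulAut.conj g⁻¹).injective t
      rw [← hto, ← this]; simp
    have h3 : t ∈ (H ⊓ cj g H : Subgroup G) := mem_inf.2 ⟨h1, mem_cj.2 h2⟩
    rw [h.ti g hg, mem_bot] at h3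
    rw [h3, orderOf_one] at hto
    omega

/-- `D ⊓ H = ⊥` -/
theorem NTI.inf_bot {M H : Subgroup G} (h : NTI M H) {u : G} (hu : u ∉ M) (huo : orderOf u = 2) :
    (M ⊓ cj u M : Subgroup G) ⊓ H = ⊥ := by
  have huu := mul_self huo
  have hui := inv_eq_self huo
  rw [eq_bot_iff]
  rintro x ⟨⟨hxM, hxM'⟩, hxH⟩
  rw [mem_bot]
  by_contra hx1
  have hxM'' : u⁻¹ * x * u ∈ M := mem_cj.1 hxM'
  set y := u * x * u⁻¹ with hy
  have hyM : y ∈ M := by
    rw [hui] at hxM''; rw [hy, hui]; exact hxM''
  have hyH : y ∈ cj u H := by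
    rw [mem_cj, hy]
    have : u⁻¹ * (u * x * u⁻¹) * u = x := by group
    rw [this]; exact hxH
  -- commutator
  have h1 : x * y * x⁻¹ * y⁻¹ ∈ H := by
    have : x * y * x⁻¹ * y⁻¹ = x * (y * x⁻¹ * y⁻¹) := by group
    rw [this]
    exact mul_mem hxH ((mem_normalizer_iff.1 (h.nor hyM) _).1 (inv_mem hxH))
  have h2 : x * y * x⁻¹ * y⁻¹ ∈ cj u H := by
    refine mul_mem ?_ (inv_mem hyH)
    rw [mem_cj]
    have : u⁻¹ * (x * y * x⁻¹) * u = (u⁻¹ * x * u) * (u⁻¹ * y * u) * (u⁻¹ * x * u)⁻¹ := by group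
    rw [this]
    exact (mem_normalizer_iff.1 (h.nor hxM'') _).1 (mem_cj.1 hyH)
  have h3 : x * y * x⁻¹ * y⁻¹ ∈ (H ⊓ cj u H : Subgroup G) := mem_inf.2 ⟨h1, h2⟩
  rw [h.ti u hu, mem_bot] at h3
  have h4 : y ∈ H := by
    apply h.cent x hxH hx1
    rw [mem_cent]
    calc y * x = (x * y * x⁻¹ * y⁻¹)⁻¹ * (x * y) := by group
      _ = x * y := by rw [h3]; simp
  have h5 : y ∈ (H ⊓ cj u H : Subgroup G) := mem_inf.2 ⟨h4, hyH⟩
  rw [h.ti u hu, mem_bot] at h5
  apply hx1
  have : x = u⁻¹ * y * u := by rw [hy]; group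
  rw [this, h5]; group

theorem card_le_relIndex [Finite G] {D H M : Subgroup G} (hD : D ≤ M) (hDH : D ⊓ H = ⊥) :
    Nat.card D ≤ H.relIndex M := by
  have h1 : H.relIndex D ≤ H.relIndex M := by
    exact relIndex_le_of_le_right hD (by exact index_ne_zero_of_finite)
  have h2 : H.relIndex D = Nat.card D := by
    rw [← inf_relIndex_right, inf_comm, hDH, relIndex_bot_left]
  rw [← h2]; exact h1

/-- the data of `M`, `H` -/
structure NData (M H : Subgroup G) (n : ℕ) : Prop where
  pos : 0 < n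
  odd : Odd n
  card_inv : Nat.card {t : G // t ∈ M ∧ orderOf t = 2} = n
  relIndex : H.relIndex M = n
  swap : ∀ g : G, g ∉ M → ∃ u : G, orderOf u = 2 ∧ g⁻¹ * u ∈ M ∧
    Nat.card (M ⊓ cj g M : Subgroup G) = n ∧ ∀ x ∈ (M ⊓ cj g M : Subgroup G), u * x * u⁻¹ = x⁻¹

theorem NTI.nData [Finite G] {M H : Subgroup G} (h : NTI M H) :
    ∃ n, NData M H n := by
  have hM := h.se
  classical
  have := Fintype.ofFinite G
  have := Fintype.ofFinite (G ⧸ M)
  haveI : Fact (Nat.Prime 2) := ⟨Nat.prime_two⟩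
  obtain ⟨z, hzM, hz⟩ := exists_involution hM.2.1
  set r := H.relIndex M with hr
  have hrodd : Odd r := h.odd_index
  have hrpos : 0 < r := hrodd.pos
  have hMr : Nat.card M = Nat.card H * r := by
    rw [hr, card_mul_rel h.le]
  set n := Nat.card {t : G // t ∈ M ∧ orderOf t = 2} with hn
  -- class of an involution in `M`
  set Inv : Finset G := Finset.univ.filter (fun t => t ∈ M ∧ orderOf t = 2) with hInv
  have hncard : Inv.card = n := by
    rw [hn, Nat.card_eq_fintype_card, Fintype.card_subtype]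
  have hclass : ∀ w ∈ M, orderOf w = 2 →
      r ≤ (Finset.univ.filter (fun t => ∃ m ∈ M, m * w * m⁻¹ = t)).card := by
    intro w hw hwo
    -- orbit of w under M
    have h1 : Nat.card (MulAction.orbit (ConjAct M) (⟨w, hw⟩ : M)) =
        (Finset.univ.filter (fun t => ∃ m ∈ M, m * w * m⁻¹ = t)).card := by
      have h0 : Nat.card {t : G // ∃ m ∈ M, m * w * m⁻¹ = t} =
          (Finset.univ.filter (fun t => ∃ m ∈ M, m * w * m⁻¹ = t)).card := by
        rw [Nat.card_eq_fintype_card, Fintype.card_subtype]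
      rw [← h0]
      refine Nat.card_congr (Equiv.ofBijective (fun x => ⟨((x : M) : G), ?_⟩) ⟨?_, ?_⟩)
      · obtain ⟨m, hm⟩ := x.2
        refine ⟨(ConjAct.ofConjAct m : M), (ConjAct.ofConjAct m : M).2, ?_⟩
        rw [← hm]; simp [ConjAct.smul_def]
      · intro x y hxy
        apply Subtype.ext; apply Subtype.ext
        simpa only [Subtype.mk.injEq] using hxy
      · rintro ⟨t, m, hm, rfl⟩
        refine ⟨⟨⟨m * w * m⁻¹, M.mul_mem (M.mul_mem hm hw) (M.inv_mem hm)⟩,
          ConjAct.toConjAct ⟨m, hm⟩, ?_⟩, rfl⟩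
        apply Subtype.ext
        simp [ConjAct.smul_def]
    have h2 : Nat.card (MulAction.orbit (ConjAct M) (⟨w, hw⟩ : M)) *
        Nat.card (MulAction.stabilizer (ConjAct M) (⟨w, hw⟩ : M)) = Nat.card M := by
      rw [← Nat.card_prod, Nat.card_congr (MulAction.orbitProdStabilizerEquivGroup (ConjAct M) (⟨w, hw⟩ : M))]
      exact Nat.card_congr ConjAct.ofConjAct.toEquiv
    have h3 : Nat.card (MulAction.stabilizer (ConjAct M) (⟨w, hw⟩ : M)) ≤ Nat.card H := by
      have hw1 : w ≠ 1 := by rintro rfl; rw [orderOf_one] at hwo; omega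
      have hwH := h.mem_of_inv hw hwo
      refine Nat.card_le_card_of_injective (fun x => (⟨((ConjAct.ofConjAct (x : ConjAct M) : M) : G), ?_⟩ : H)) ?_
      · apply h.cent w hwH hw1
        have := x.2
        rw [MulAction.mem_stabilizer_iff, ConjAct.smul_def] at this
        have h7 := congrArg Subtype.val this
        simp only [Subgroup.coe_mul, Subgroup.coe_inv] at h7
        rw [mem_cent]
        exact mul_inv_eq_iff_eq_mul.1 h7
      · intro x y hxy
        apply Subtype.ext
        apply ConjAct.ofConjAct.injective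
        apply Subtype.ext
        exact congrArg (fun z : H => (z : G)) hxy
    rw [← h1]
    have h4 : r * Nat.card H ≤ Nat.card (MulAction.orbit (ConjAct M) (⟨w, hw⟩ : M)) * Nat.card H := by
      calc r * Nat.card H = Nat.card M := by rw [hMr, mul_comm]
        _ = _ := h2.symm
        _ ≤ _ := Nat.mul_le_mul_left _ h3
    exact Nat.le_of_mul_le_mul_right h4 Nat.card_pos
  have hclass_sub : ∀ w ∈ M, orderOf w = 2 →
      (Finset.univ.filter (fun t => ∃ m ∈ M, m * w * m⁻¹ = t)) ⊆ Inv := by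
    intro w hw hwo t ht
    rw [Finset.mem_filter] at ht
    obtain ⟨-, m, hm, rfl⟩ := ht
    rw [hInv, Finset.mem_filter]
    refine ⟨Finset.mem_univ _, M.mul_mem (M.mul_mem hm hw) (M.inv_mem hm), ?_⟩
    rw [← hwo]
    exact orderOf_injective (MulAut.conj m).toMonoidHom (MulAut.conj m).injective w |> (fun h => by
      simpa using h)
  have hrn : r ≤ n := by
    rw [← hncard]
    exact (hclass z hzM hz).trans (Finset.card_le_card (hclass_sub z hzM hz))
  -- fibres
  set I : Finset G := Finset.univ.filter (fun t => orderOf t = 2) with hI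
  have hU := uniqueFix hM
  have hfix : I.card = n * M.index := by
    have h1 : ∑ c : G ⧸ M, (I.filter (fun t => t • c = c)).card = ∑ t ∈ I, (Finset.univ.filter
        (fun c : G ⧸ M => t • c = c)).card := by
      simp only [Finset.card_filter]
      exact Finset.sum_comm
    have h2 : ∀ t ∈ I, (Finset.univ.filter (fun c : G ⧸ M => t • c = c)).card = 1 := by
      intro t ht
      rw [hI, Finset.mem_filter] at ht
      obtain ⟨c, hc, hc'⟩ := hU t ht.2
      rw [Finset.card_eq_one]
      refine ⟨c, ?_⟩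
      ext d
      simp only [Finset.mem_filter, Finset.mem_univ, true_and, Finset.mem_singleton]
      exact ⟨fun h => hc' d h, fun h => h ▸ hc⟩
    rw [Finset.sum_congr rfl h2, Finset.sum_const, smul_eq_mul, mul_one] at h1
    rw [← h1]
    have h3 : ∀ c : G ⧸ M, (I.filter (fun t => t • c = c)).card = n := by
      intro c
      induction c using QuotientGroup.induction_on with
      | H g =>
        rw [← hncard]
        refine Finset.card_bij (fun t _ => g⁻¹ * t * g) ?_ ?_ ?_
        · intro t ht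
          rw [Finset.mem_filter, hI, Finset.mem_filter, smul_mk_eq_iff] at ht
          rw [hInv, Finset.mem_filter]
          refine ⟨Finset.mem_univ _, ht.2, ?_⟩
          rw [← ht.1.2]
          have := orderOf_injective (MulAut.conj g⁻¹).toMonoidHom (MulAut.conj g⁻¹).injective t
          simpa using this
        · intro t _ t' _ h
          exact mul_left_cancel (mul_right_cancel h)
        · intro t ht
          rw [hInv, Finset.mem_filter] at ht
          refine ⟨g * t * g⁻¹, ?_, by group⟩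
          rw [Finset.mem_filter, hI, Finset.mem_filter, smul_mk_eq_iff]
          refine ⟨⟨Finset.mem_univ _, ?_⟩, by simpa [mul_assoc] using ht.2.1⟩
          rw [← ht.2.2]
          have := orderOf_injective (MulAut.conj g).toMonoidHom (MulAut.conj g).injective t
          simpa using this
    rw [Finset.sum_congr rfl (fun c _ => h3 c), Finset.sum_const, smul_eq_mul, Finset.card_univ,
      ← Nat.card_eq_fintype_card, mul_comm]
    rfl
  have hfib : I.card = ∑ c : G ⧸ M, (I.filter (fun t => (QuotientGroup.mk t : G ⧸ M) = c)).card :=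
    Finset.card_eq_sum_card_fiberwise (fun x _ => Finset.mem_univ _)
  set c1 : G ⧸ M := QuotientGroup.mk 1 with hc1
  have hfib1 : (I.filter (fun t => (QuotientGroup.mk t : G ⧸ M) = c1)).card = n := by
    rw [← hncard]
    congr 1
    ext t
    rw [Finset.mem_filter, hI, hInv, Finset.mem_filter, Finset.mem_filter, hc1]
    have : (QuotientGroup.mk t : G ⧸ M) = QuotientGroup.mk 1 ↔ t ∈ M := by
      rw [eq_comm, QuotientGroup.eq]; simp
    rw [this]
    constructor
    · rintro ⟨⟨h1, h2⟩, h3⟩; exact ⟨h1, h3, h2⟩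
    · rintro ⟨h1, h3, h2⟩; exact ⟨⟨h1, h2⟩, h3⟩
  -- bound for the other fibres
  have hD : ∀ u : G, u ∉ M → orderOf u = 2 →
      (I.filter (fun t => (QuotientGroup.mk t : G ⧸ M) = QuotientGroup.mk u)).card ≤
        Nat.card (M ⊓ cj u M : Subgroup G) ∧ Nat.card (M ⊓ cj u M : Subgroup G) ≤ r ∧
        (Nat.card (M ⊓ cj u M : Subgroup G) ≤
          (I.filter (fun t => (QuotientGroup.mk t : G ⧸ M) = QuotientGroup.mk u)).card →
          ∀ x ∈ (M ⊓ cj u M : Subgroup G), u * x * u⁻¹ = x⁻¹) := by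
    intro u hu huo
    have huu := mul_self huo
    have hui := inv_eq_self huo
    have key : ∀ t ∈ I.filter (fun t => (QuotientGroup.mk t : G ⧸ M) = QuotientGroup.mk u),
        u⁻¹ * t ∈ (Finset.univ.filter (fun x => x ∈ (M ⊓ cj u M : Subgroup G))) ∧
          u * (u⁻¹ * t) * u⁻¹ = (u⁻¹ * t)⁻¹ := by
      intro t ht
      rw [Finset.mem_filter, hI, Finset.mem_filter] at ht
      obtain ⟨⟨-, hto⟩, htu⟩ := ht
      have hmem : u⁻¹ * t ∈ M := by
        rw [eq_comm, QuotientGroup.eq] at htu; exact htu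
      have htt := inv_eq_self hto
      have h2 : u * (u⁻¹ * t) * u⁻¹ = (u⁻¹ * t)⁻¹ := by
        calc u * (u⁻¹ * t) * u⁻¹ = t * u⁻¹ := by group
          _ = (u⁻¹ * t)⁻¹ := by rw [mul_inv_rev, htt, inv_inv, hui]
      refine ⟨?_, h2⟩
      rw [Finset.mem_filter]
      refine ⟨Finset.mem_univ _, mem_inf.2 ⟨hmem, ?_⟩⟩
      rw [mem_cj]
      have h3 : u⁻¹ * (u⁻¹ * t) * u = (u⁻¹ * t)⁻¹ := by
        rw [← h2, hui]
      rw [h3]; exact M.inv_mem hmem
    have hinj : Set.InjOn (fun t => u⁻¹ * t)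
        (I.filter (fun t => (QuotientGroup.mk t : G ⧸ M) = QuotientGroup.mk u) : Set G) :=
      fun a _ b _ hab => mul_left_cancel hab
    have hcardD : (Finset.univ.filter (fun x => x ∈ (M ⊓ cj u M : Subgroup G))).card =
        Nat.card (M ⊓ cj u M : Subgroup G) := by
      rw [Nat.card_eq_fintype_card, Fintype.card_subtype]
    have hle := Finset.card_le_card_of_injOn (fun t => u⁻¹ * t) (fun t ht => (key t ht).1) hinj
    refine ⟨by rw [← hcardD]; exact hle, ?_, ?_⟩
    · exact card_le_relIndex inf_le_left (h.inf_bot hu huo)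
    · intro hge x hx
      have himg : (I.filter (fun t => (QuotientGroup.mk t : G ⧸ M) = QuotientGroup.mk u)).image
          (fun t => u⁻¹ * t) = Finset.univ.filter (fun x => x ∈ (M ⊓ cj u M : Subgroup G)) := by
        apply Finset.eq_of_subset_of_card_le
        · intro y hy
          rw [Finset.mem_image] at hy
          obtain ⟨t, ht, rfl⟩ := hy
          exact (key t ht).1
        · rw [Finset.card_image_of_injOn hinj, hcardD]; exact hge
      have hx' : x ∈ (I.filter (fun t => (QuotientGroup.mk t : G ⧸ M) = QuotientGroup.mk u)).image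
          (fun t => u⁻¹ * t) := by
        rw [himg, Finset.mem_filter]; exact ⟨Finset.mem_univ _, hx⟩
      rw [Finset.mem_image] at hx'
      obtain ⟨t, ht, rfl⟩ := hx'
      exact (key t ht).2
  have hbound : ∀ c : G ⧸ M, c ≠ c1 →
      (I.filter (fun t => (QuotientGroup.mk t : G ⧸ M) = c)).card ≤ r := by
    intro c hc
    rcases (I.filter (fun t => (QuotientGroup.mk t : G ⧸ M) = c)).eq_empty_or_nonempty with he | ⟨u, hu⟩
    · rw [he]; simp
    · rw [Finset.mem_filter, hI, Finset.mem_filter] at hu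
      obtain ⟨⟨-, huo⟩, rfl⟩ := hu
      have huM : u ∉ M := by
        intro h1; apply hc
        rw [hc1, eq_comm, QuotientGroup.eq]; simpa using h1
      obtain ⟨h1, h2, -⟩ := hD u huM huo
      exact h1.trans h2
  have hidx : 1 < M.index := by
    have h1 : M.index ≠ 1 := fun h1 => hM.1 (index_eq_one.1 h1)
    have h2 : M.index ≠ 0 := index_ne_zero_of_finite
    omega
  have hcardc : (Finset.univ : Finset (G ⧸ M)).card = M.index := by
    rw [Finset.card_univ, ← Nat.card_eq_fintype_card]; rfl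
  have hsum : n * M.index = n + ∑ c ∈ Finset.univ.erase c1,
      (I.filter (fun t => (QuotientGroup.mk t : G ⧸ M) = c)).card := by
    rw [← hfix, hfib, ← Finset.add_sum_erase _ _ (Finset.mem_univ c1), hfib1]
  have hcarderase : (Finset.univ.erase c1).card = M.index - 1 := by
    rw [Finset.card_erase_of_mem (Finset.mem_univ _), hcardc]
  obtain ⟨k, hk⟩ : ∃ k, M.index = k + 1 := ⟨M.index - 1, by omega⟩
  have hk0 : 0 < k := by omega
  have hsum' : n * k = ∑ c ∈ Finset.univ.erase c1,
      (I.filter (fun t => (QuotientGroup.mk t : G ⧸ M) = c)).card := by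
    rw [hk, mul_add, mul_one] at hsum; omega
  have hnr : n ≤ r := by
    have h1 : n * k ≤ r * k := by
      rw [hsum']
      calc _ ≤ ∑ c ∈ Finset.univ.erase c1, r :=
            Finset.sum_le_sum (fun c hc => hbound c (Finset.ne_of_mem_erase hc))
        _ = r * k := by rw [Finset.sum_const, hcarderase, smul_eq_mul, hk]; simp [mul_comm]
    exact Nat.le_of_mul_le_mul_right h1 hk0
  have hnr' : n = r := le_antisymm hnr hrn
  have hall : ∀ c ∈ Finset.univ.erase c1,
      (I.filter (fun t => (QuotientGroup.mk t : G ⧸ M) = c)).card = r := by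
    have h1 : ∑ c ∈ Finset.univ.erase c1,
        (I.filter (fun t => (QuotientGroup.mk t : G ⧸ M) = c)).card =
        ∑ c ∈ Finset.univ.erase c1, r := by
      rw [← hsum', Finset.sum_const, hcarderase, smul_eq_mul, hk, hnr']; simp [mul_comm]
    exact (Finset.sum_eq_sum_iff_of_le (fun c hc => hbound c (Finset.ne_of_mem_erase hc))).1 h1
  refine ⟨n, by omega, by rw [hnr']; exact hrodd, rfl, hnr'.symm, ?_⟩
  · intro g hg
    have hc : (QuotientGroup.mk g : G ⧸ M) ≠ c1 := by
      intro h1; apply hg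
      rw [hc1, eq_comm, QuotientGroup.eq] at h1; simpa using h1
    have h1 := hall _ (Finset.mem_erase.2 ⟨hc, Finset.mem_univ _⟩)
    obtain ⟨u, hu⟩ := Finset.card_pos.1 (by rw [h1]; exact hrpos)
    rw [Finset.mem_filter, hI, Finset.mem_filter] at hu
    obtain ⟨⟨-, huo⟩, hug⟩ := hu
    have huM : u ∉ M := by
      intro h2; apply hc
      rw [← hug, hc1, eq_comm, QuotientGroup.eq]; simpa using h2
    have hgu : g⁻¹ * u ∈ M := by
      have := QuotientGroup.eq.1 hug.symm; exact this
    obtain ⟨h3, h4, h5⟩ := hD u huM huo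
    rw [hug, h1] at h3 h5
    have h6 : Nat.card (M ⊓ cj u M : Subgroup G) = r := le_antisymm h4 h3
    have h7 : cj u M = cj g M := cj_eq_of_inv_mul_mem hgu
    rw [h7] at h5 h6
    exact ⟨u, huo, hgu, by rw [hnr']; exact h6, h5 (by rw [h6])⟩

end Cfsg.Agent.Lib.CIT
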