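import Cfsg.Agent.Lib.CNZass
import Cfsg.Agent.Lib.CITMain
import Cfsg.Agent.Lib.H23Nilp
import Cfsg.Agent.S0885

/-!
# CN-groups (helper6): simple CN-groups are CIT-groups
-/

set_option autoImplicit false
set_option linter.all false

namespace Cfsg.Agent.Lib.CIT

open Subgroup SylowRel StrongEmbPt

variable {G : Type*} [Group G] [Finite G]

theorem NTI.frob {M H : Subgroup G} (h : NTI M H) (hn : NData M H 1) :
    Cfsg.IsFrobeniusComplement M := by
  refine ⟨?_, h.ne_top, ?_⟩
  · rintro rfl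
    have h1 := h.se.2.1
    rw [Subgroup.card_bot] at h1
    exact absurd h1 (by decide)
  · intro g hg
    obtain ⟨u, -, -, h2, -⟩ := hn.swap g hg
    exact Subgroup.card_eq_one.1 h2

theorem NTI.n_ne_one [IsSimpleGroup G] {M H : Subgroup G} (h : NTI M H) (hn : NData M H 1) : False := by
  have hf := h.frob hn
  obtain ⟨N, -, hN, hc⟩ := FrobThm.exists_kernel hf
  rcases hN.eq_bot_or_eq_top with h1 | h1
  · apply hf.2.1
    rw [h1] at hc
    have := hc.sup_eq_top
    simpa using this
  · apply hf.1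
    rw [h1] at hc
    have := hc.disjoint.eq_bot
    simpa using this

theorem NZ.zass [IsSimpleGroup G] {M S : Subgroup G} {n : ℕ} (h0 : NTI M S) (h : NZ M S n)
    (hn : n ≠ 1) : Cfsg.IsZassenhausGroup G (G ⧸ M) := by
  have hSM := h0.le
  have hM := h0.ne_top
  have hS : S ≠ ⊥ := by
    rintro rfl
    have h1 := h0.even
    rw [Subgroup.card_bot] at h1
    exact absurd h1 (by decide)
  have hMb : M ≠ ⊥ := fun h1 => hS (le_bot_iff.1 (h1 ▸ hSM))
  have hS2 : 2 ≤ Nat.card S := by
    have h1 : Nat.card S ≠ 1 := fun h1 => hS (Subgroup.card_eq_one.1 h1)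
    have h2 : 0 < Nat.card S := Nat.card_pos
    omega
  have h3c : 3 ≤ Nat.card (G ⧸ M) := by rw [h.card]; omega
  have htr : ∀ c d : G ⧸ M, c ≠ d → ∃ u : G, u • c = d := by
    intro c d hcd
    obtain ⟨u, -, hu, -⟩ := h.nd.swap' hcd
    exact ⟨u, hu⟩
  have hex : ∃ c d e : G ⧸ M, c ≠ d ∧ d ≠ e ∧ c ≠ e := by
    classical
    haveI := Fintype.ofFinite (G ⧸ M)
    rw [Nat.card_eq_fintype_card] at h3c
    obtain ⟨c, d, e, h1, h2, h3⟩ := Fintype.two_lt_card_iff.1 (by omega : 2 < Fintype.card (G ⧸ M))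
    exact ⟨c, d, e, h1, h3, h2⟩
  obtain ⟨c, d, e, hcd, hde, hce⟩ := hex
  have hfaith : ∀ x : G, (∀ c : G ⧸ M, x • c = c) → x = 1 := fun x hx =>
    h.three x c d e hcd hde hce (hx c) (hx d) (hx e)
  refine ⟨⟨?_⟩, ?_, ?_, ?_, ?_⟩
  · intro x y hxy
    have h1 := hfaith (y⁻¹ * x) (fun c => by rw [mul_smul, hxy c, inv_smul_smul])
    rw [inv_mul_eq_one] at h1
    exact h1.symm
  · rw [MulAction.is_two_pretransitive_iff]
    intro a b c d hab hcd
    have h1 : ∃ g : G, g • a = c := by
      by_cases hac : a = c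
      · exact ⟨1, by rw [one_smul, hac]⟩
      · exact htr a c hac
    obtain ⟨g, hg⟩ := h1
    have hgb : g • b ≠ c := by
      rw [← hg]; intro h2; exact hab (smul_left_cancel g h2).symm
    obtain ⟨x, rfl⟩ := QuotientGroup.mk_surjective c
    obtain ⟨s, hs, hsd⟩ := h.reg x (g • b) d hgb hcd.symm
    have hsx : s • (QuotientGroup.mk x : G ⧸ M) = QuotientGroup.mk x := by
      have : s ∈ MulAction.stabilizer G (QuotientGroup.mk x : G ⧸ M) := by
        rw [stab_eq]
        exact cj_mono hSM hs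
      exact this
    exact ⟨s * g, by rw [mul_smul, hg, hsx], by rw [mul_smul, hsd]⟩
  · intro g a b c hab hbc hac h1 h2 h3
    exact h.three g a b c hab hbc hac h1 h2 h3
  · obtain ⟨u, -, -, -, h2, -⟩ := h.nd.swap' hcd
    have h3 : (MulAction.stabilizer G c ⊓ MulAction.stabilizer G d : Subgroup G) ≠ ⊥ := by
      intro h4
      rw [h4, Subgroup.card_bot] at h2
      exact hn h2.symm
    obtain ⟨g, hg, hg1⟩ := exists_mem_ne_one h3
    exact ⟨g, hg1, c, d, hcd, hg.1, hg.2⟩
  · intro N hN hNt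
    rcases hN.eq_bot_or_eq_top with h1 | h1
    · exfalso
      obtain ⟨⟨g, hg⟩, hgd⟩ := hNt.exists_smul_eq c d
      apply hcd
      rw [h1, mem_bot] at hg
      subst hg
      have : (1 : G) • c = d := hgd
      rwa [one_smul] at this
    · subst h1
      refine ⟨QuotientGroup.mk (1 : G), ?_⟩
      intro h2
      apply hMb
      rw [eq_bot_iff]
      intro x hx
      have h3 : (⟨x, mem_top x⟩ : (⊤ : Subgroup G)) ∈
          MulAction.stabilizer (⊤ : Subgroup G) (QuotientGroup.mk (1 : G) : G ⧸ M) := by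
        show (x • (QuotientGroup.mk (1 : G) : G ⧸ M)) = QuotientGroup.mk 1
        rw [MulAction.Quotient.smul_mk, QuotientGroup.eq]
        simpa using M.inv_mem hx
      have h4 := h2.le h3
      rw [mem_bot] at h4
      exact mem_bot.2 (congrArg Subtype.val h4)

/-- the number of involutions of `H` plus one is at most the order of a normal Sylow subgroup. -/
theorem card_inv_lt {H : Subgroup G} (hH : Group.IsNilpotent H) :
    ∃ s k : ℕ, Nat.card H = s * k ∧ Odd k ∧ (∃ j, s = 2 ^ j) ∧
      Nat.card {t : G // t ∈ H ∧ orderOf t = 2} + 1 ≤ s := by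
  haveI : Fact (Nat.Prime 2) := ⟨Nat.prime_two⟩
  let P : Sylow 2 H := default
  have hPn : (P : Subgroup H).Normal := inferInstance
  refine ⟨Nat.card P, (P : Subgroup H).index, ((P : Subgroup H).card_mul_index).symm, ?_,
    IsPGroup.iff_card.1 P.isPGroup', ?_⟩
  · rw [← Nat.not_even_iff_odd, even_iff_two_dvd]
    exact P.not_dvd_index
  · rw [← Finite.card_option]
    have hmem : ∀ t : {t : G // t ∈ H ∧ orderOf t = 2}, (⟨t.1, t.2.1⟩ : H) ∈ (P : Subgroup H) := by
      intro t
      have h1 : IsPGroup 2 (zpowers (⟨t.1, t.2.1⟩ : H)) := by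
        refine isPGroup_zpowers (k := 1) ?_
        rw [pow_one]
        apply Subtype.ext
        have := pow_orderOf_eq_one t.1
        rw [t.2.2] at this
        simpa using this
      obtain ⟨Q, hQ⟩ := h1.exists_le_sylow
      have hQP : Q = P := by
        obtain ⟨g, hg⟩ := MulAction.exists_smul_eq H P Q
        rw [← hg]; exact Sylow.smul_eq_of_normal
      rw [← hQP]; exact hQ (mem_zpowers _)
    refine Nat.card_le_card_of_injective (fun o : Option {t : G // t ∈ H ∧ orderOf t = 2} =>
      match o with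
      | none => (1 : P)
      | some t => ⟨⟨t.1, t.2.1⟩, hmem t⟩) ?_
    have hne : ∀ t : {t : G // t ∈ H ∧ orderOf t = 2}, (⟨⟨t.1, t.2.1⟩, hmem t⟩ : P) ≠ 1 := by
      intro t h1
      have h2 : t.1 = 1 := by
        have := congrArg (fun z : P => ((z : H) : G)) h1
        simpa using this
      have h3 := t.2.2
      rw [h2, orderOf_one] at h3; omega
    intro a b hab
    rcases a with _ | t <;> rcases b with _ | t'
    · rfl
    · exact absurd hab.symm (hne t')
    · exact absurd hab (hne t)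
    · congr 1
      apply Subtype.ext
      exact congrArg (fun z : P => ((z : H) : G)) hab

/-- a nilpotent `NTI` subgroup of a simple group is a `2`-group. -/
theorem NTI.isPGroup [IsSimpleGroup G] {M H : Subgroup G} (h : NTI M H) (hH : Group.IsNilpotent H) :
    IsPGroup 2 H := by
  classical
  by_contra hcon
  obtain ⟨n, hn⟩ := h.nData
  have hn1 : n ≠ 1 := by rintro rfl; exact h.n_ne_one hn
  have hz := h.nZ hn hn1
  have hZ := hz.zass h hn1
  haveI := Fintype.ofFinite (G ⧸ M)
  have hex : ∃ d : G ⧸ M, (QuotientGroup.mk (1 : G) : G ⧸ M) ≠ d := by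
    by_contra hcon
    push Not at hcon
    apply h.ne_top
    rw [eq_top_iff]
    intro g _
    have := hcon (QuotientGroup.mk g)
    rw [QuotientGroup.eq] at this
    simpa using this
  obtain ⟨d, hd⟩ := hex
  have hcard : Fintype.card (G ⧸ M) = Nat.card H + 1 := by rw [← Nat.card_eq_fintype_card, hz.card]
  have hst : (MulAction.stabilizer G (QuotientGroup.mk (1 : G) : G ⧸ M)) = M := by
    rw [stab_eq, cj_one]
  have he : Nat.card (MulAction.stabilizer G (QuotientGroup.mk (1 : G) : G ⧸ M) ⊓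
      MulAction.stabilizer G d : Subgroup G) = n := by
    obtain ⟨u, -, -, -, h2, -⟩ := hn.swap' hd
    exact h2
  have hres := Cfsg.Agent.S0885.result hZ hd (Nat.card H) n hcard he hn.odd H
    (by rw [hst]; exact h.le) hcard.symm (by
      intro u hu hu1 c hc
      by_contra hne
      exact hu1 (hz.semi 1 c hne u (by rw [cj_one]; exact hu) hc))
  rcases hres with h1 | ⟨h1, -⟩
  · obtain ⟨s, k, hsk, hk, ⟨j, hj⟩, hs⟩ := card_inv_lt hH
    have hcI : Nat.card {t : G // t ∈ H ∧ orderOf t = 2} = n := by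
      rw [← hn.card_inv]
      refine Nat.card_congr (Equiv.subtypeEquivRight ?_)
      intro t
      exact ⟨fun h1 => ⟨h.le h1.1, h1.2⟩, fun h1 => ⟨h.mem_of_inv h1.1 h1.2, h1.2⟩⟩
    rw [hcI] at hs
    have hk1 : k ≠ 1 := by
      rintro rfl
      apply hcon
      rw [mul_one, hj] at hsk
      exact IsPGroup.of_card hsk
    have hk3 : 3 ≤ k := by
      obtain ⟨c, hc⟩ := hk
      omega
    have h2 : 3 * s ≤ Nat.card H := by
      rw [hsk, mul_comm]; exact Nat.mul_le_mul_left s hk3
    omega
  · exact hcon h1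

/-- elements of the centre -/
theorem exists_center {X : Type*} [Group X] [Finite X] [hX : Group.IsNilpotent X] {p : ℕ} [hp : Fact p.Prime]
    (h : p ∣ Nat.card X) : ∃ z : X, z ≠ 1 ∧ (∃ k, orderOf z = p ^ k) ∧ ∀ x : X, x * z = z * x := by
  let P : Sylow p X := default
  have hPn : (P : Subgroup X).Normal := inferInstance
  have hPb : (P : Subgroup X) ≠ ⊥ := P.ne_bot_of_dvd_card h
  haveI : Nontrivial P := (Subgroup.nontrivial_iff_ne_bot _).2 hPb
  haveI hc : Nontrivial (center P) := P.isPGroup'.center_nontrivial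
  obtain ⟨⟨z, hz⟩, hz1⟩ := exists_ne (1 : center P)
  have hz1' : (z : X) ≠ 1 := by
    intro h1; apply hz1
    apply Subtype.ext; apply Subtype.ext; exact h1
  have hzo : ∃ k, orderOf (z : X) = p ^ k := by
    obtain ⟨k, hk⟩ := P.isPGroup' z
    have h1 : (z : X) ^ p ^ k = 1 := by simpa using congrArg Subtype.val hk
    obtain ⟨j, -, hj⟩ := (Nat.dvd_prime_pow hp.out).1 (orderOf_dvd_of_pow_eq_one h1)
    exact ⟨j, hj⟩
  refine ⟨z, hz1', hzo, ?_⟩
  have htop : centralizer ({(z : X)} : Set X) = ⊤ := by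
    apply Fitting.eq_top_of_sylow_le
    intro q hq
    haveI : Fact q.Prime := ⟨hq⟩
    let Q : Sylow q X := default
    refine ⟨Q, ?_, Q.not_dvd_index⟩
    intro x hx
    rw [mem_cent]
    by_cases hqp : q = p
    · subst hqp
      have hQP : Q = P := by
        obtain ⟨g, hg⟩ := MulAction.exists_smul_eq X P Q
        rw [← hg]; exact Sylow.smul_eq_of_normal
      rw [hQP] at hx
      have := mem_center_iff.1 hz ⟨x, hx⟩
      exact congrArg Subtype.val this
    · apply H23Nilp.commute_of_coprime_orderOf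
      obtain ⟨k, hk⟩ := hzo
      obtain ⟨j, hj⟩ := Q.isPGroup' ⟨x, hx⟩
      have h1 : x ^ q ^ j = 1 := by simpa using congrArg Subtype.val hj
      rw [hk]
      refine Nat.Coprime.coprime_dvd_left (orderOf_dvd_of_pow_eq_one h1) ?_
      exact Nat.coprime_pow_primes _ _ hq hp.out hqp
  intro x
  exact mem_cent.1 (by rw [htop]; exact mem_top x)

theorem cn_nti [IsSimpleGroup G] (hna : ¬ ∀ a b : G, a * b = b * a) (hCN : Cfsg.IsCNGroup G)
    {H : Subgroup G} (hH : Group.IsNilpotent H) (hmax : ∀ K : Subgroup G, Group.IsNilpotent K → H ≤ K → K = H)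
    (hev : Even (Nat.card H)) (hnp : ∀ p : ℕ, p.Prime → ¬ IsPGroup p H) : NTI (normalizer (H : Set G)) H := by
  haveI : Fact (Nat.Prime 2) := ⟨Nat.prime_two⟩
  have hZ : ∀ z ∈ H, z ≠ 1 → (∀ x ∈ H, x * z = z * x) → centralizer ({z} : Set G) = H := by
    intro z hz hz1 hc
    exact hmax _ (hCN z hz1) (fun x hx => mem_cent.2 (hc x hx))
  have hex : ∀ p : ℕ, p.Prime → p ∣ Nat.card H → ∃ z ∈ H, z ≠ 1 ∧ (∃ k, orderOf z = p ^ k) ∧
      centralizer ({z} : Set G) = H := by
    intro p hp hd
    haveI : Fact p.Prime := ⟨hp⟩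
    obtain ⟨z, hz1, ⟨k, hk⟩, hc⟩ := exists_center (X := H) hd
    refine ⟨z, z.2, fun h => hz1 (Subtype.ext h), ⟨k, by rw [orderOf_coe]; exact hk⟩, ?_⟩
    refine hZ z z.2 (fun h => hz1 (Subtype.ext h)) ?_
    intro x hx
    exact congrArg Subtype.val (hc ⟨x, hx⟩)
  have hother : ∀ p : ℕ, p.Prime → ∃ q : ℕ, q.Prime ∧ q ≠ p ∧ q ∣ Nat.card H := by
    intro p hp
    by_contra hcon
    push Not at hcon
    apply hnp p hp
    have h1 : Nat.card H = p ^ (Nat.card H).primeFactorsList.length := by
      apply Nat.eq_prime_pow_of_unique_prime_dvd Nat.card_pos.ne'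
      intro q hq hqd
      by_contra hne
      exact hcon q hq hne hqd
    exact IsPGroup.of_card h1
  have hcent : ∀ h ∈ H, h ≠ 1 → centralizer ({h} : Set G) ≤ H := by
    intro h hh hh1
    -- power of prime order
    obtain ⟨p, hp, hpd⟩ := Nat.exists_prime_and_dvd (n := orderOf h) (by
      intro h1; exact hh1 (orderOf_eq_one_iff.1 h1))
    set g := h ^ (orderOf h / p) with hg
    have hgo : orderOf g = p := by
      rw [hg]; exact orderOf_pow_orderOf_div (orderOf_pos h).ne' hpd
    have hg1 : g ≠ 1 := by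
      intro h1; rw [h1, orderOf_one] at hgo; exact hp.one_lt.ne hgo
    have hgH : g ∈ H := pow_mem hh _
    have hle : centralizer ({h} : Set G) ≤ centralizer ({g} : Set G) := by
      intro y hy
      rw [mem_cent] at hy ⊢
      exact (Commute.pow_right (show Commute y h from hy) _)
    refine hle.trans ?_
    set K := centralizer ({g} : Set G) with hK
    have hKn : Group.IsNilpotent K := hCN g hg1
    obtain ⟨q, hq, hqp, hqd⟩ := hother p hp
    have hpH : p ∣ Nat.card H := by rw [← hgo]; exact Subgroup.orderOf_dvd_natCard _ hgH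
    obtain ⟨a, haH, ha1, ⟨ka, hka⟩, hca⟩ := hex p hp hpH
    obtain ⟨b, hbH, hb1, ⟨kb, hkb⟩, hcb⟩ := hex q hq hqd
    have hcomm : ∀ w, centralizer ({w} : Set G) = H → w ∈ K := by
      intro w hw
      rw [hK, mem_cent]
      have : g ∈ centralizer ({w} : Set G) := by rw [hw]; exact hgH
      exact (mem_cent.1 this).symm
    have htop : H.subgroupOf K = ⊤ := by
      apply Fitting.eq_top_of_sylow_le
      intro r hr
      haveI : Fact r.Prime := ⟨hr⟩
      let R : Sylow r K := default
      refine ⟨R, ?_, R.not_dvd_index⟩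
      intro x hx
      rw [mem_subgroupOf]
      obtain ⟨j, hj⟩ := R.isPGroup' ⟨x, hx⟩
      have h1 : (x : G) ^ r ^ j = 1 := by
        have := congrArg (fun z : R => ((z : K) : G)) hj
        simpa using this
      by_cases hrq : r = q
      · rw [← hca, mem_cent]
        refine H23Nilp.commute_of_coprime_of_mem hKn x.2 (hcomm a hca) ?_
        rw [hka]
        refine Nat.Coprime.coprime_dvd_left (orderOf_dvd_of_pow_eq_one h1) ?_
        exact Nat.coprime_pow_primes _ _ hr hp (by rw [hrq]; exact hqp)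
      · rw [← hcb, mem_cent]
        refine H23Nilp.commute_of_coprime_of_mem hKn x.2 (hcomm b hcb) ?_
        rw [hkb]
        refine Nat.Coprime.coprime_dvd_left (orderOf_dvd_of_pow_eq_one h1) ?_
        exact Nat.coprime_pow_primes _ _ hr hq hrq
    exact subgroupOf_eq_top.1 htop
  have hHb : H ≠ ⊥ := by
    rintro rfl
    rw [Subgroup.card_bot] at hev
    exact absurd hev (by decide)
  refine ⟨le_normalizer, le_rfl, ?_, hcent, ?_, hev, ?_⟩
  · intro g hg
    by_contra hne
    apply hg
    rw [mem_normalizer_iff_cj]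
    obtain ⟨h, hh, hh1⟩ := exists_mem_ne_one hne
    have hcj : ∀ x ∈ cj g H, x ≠ 1 → centralizer ({x} : Set G) ≤ cj g H := by
      intro x hx hx1 y hy
      rw [mem_cj] at hx ⊢
      refine hcent _ hx ?_ (mem_cent.2 ?_)
      · intro h1; apply hx1
        have : x = g * (g⁻¹ * x * g) * g⁻¹ := by group
        rw [this, h1]; group
      · rw [mem_cent] at hy
        calc g⁻¹ * y * g * (g⁻¹ * x * g) = g⁻¹ * (y * x) * g := by group
          _ = g⁻¹ * (x * y) * g := by rw [hy]
          _ = _ := by group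
    obtain ⟨z, hzH, hz1, -, hcz⟩ := hex 2 Nat.prime_two (even_iff_two_dvd.1 hev)
    have hzg : z ∈ cj g H := by
      apply hcj h hh.2 hh1
      rw [mem_cent]
      have : h ∈ centralizer ({z} : Set G) := by rw [hcz]; exact hh.1
      exact (mem_cent.1 this).symm
    have hle : H ≤ cj g H := hcz.symm.le.trans (hcj z hzg hz1)
    exact (eq_of_le_of_card_ge hle (by rw [card_cj])).symm
  · obtain ⟨z, hzH, hz1, ⟨k, hk⟩, hcz⟩ := hex 2 Nat.prime_two (even_iff_two_dvd.1 hev)
    have hzp : IsPGroup 2 (zpowers z) := isPGroup_zpowers (k := k) (by rw [← hk, pow_orderOf_eq_one])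
    obtain ⟨S, hS⟩ := hzp.exists_le_sylow
    have hzS : z ∈ (S : Subgroup G) := hS (mem_zpowers z)
    haveI : Nontrivial S := ⟨⟨⟨z, hzS⟩, 1, fun h => hz1 (congrArg Subtype.val h)⟩⟩
    haveI hc : Nontrivial (center S) := S.isPGroup'.center_nontrivial
    obtain ⟨⟨w, hw⟩, hw1⟩ := exists_ne (1 : center S)
    have hw1' : (w : G) ≠ 1 := by
      intro h1; apply hw1
      apply Subtype.ext; apply Subtype.ext; exact h1
    have hcw : ∀ s ∈ (S : Subgroup G), s * w = w * s := by
      intro s hs
      exact congrArg Subtype.val (mem_center_iff.1 hw ⟨s, hs⟩)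
    have hwH : (w : G) ∈ H := by
      rw [← hcz, mem_cent]; exact (hcw z hzS).symm
    have hSH : (S : Subgroup G) ≤ H := fun s hs => hcent w hwH hw1' (mem_cent.2 (hcw s hs))
    have h1 : H.index ∣ (S : Subgroup G).index := index_dvd_of_le hSH
    have h2 : H.relIndex (normalizer (H : Set G)) ∣ H.index := relIndex_dvd_index_of_le le_normalizer
    rw [← Nat.not_even_iff_odd, even_iff_two_dvd]
    intro h3
    exact S.not_dvd_index ((h3.trans h2).trans h1)
  · intro htop
    have hn : H.Normal := normalizer_eq_top_iff.1 htop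
    rcases hn.eq_bot_or_eq_top with h1 | h1
    · exact hHb h1
    · apply hna
      have h2 : Group.IsNilpotent (⊤ : Subgroup G) := h1 ▸ hH
      have h3 : Group.IsNilpotent G := Group.nilpotent_of_mulEquiv (Subgroup.topEquiv (G := G))
      have hs' : Group.IsSolvable G := inferInstance
      exact (IsSimpleGroup.comm_iff_isSolvable).2 hs'

/-- **Suzuki.** a simple CN-group is a CIT-group. -/
theorem cit_of_cn [IsSimpleGroup G] (hna : ¬ ∀ a b : G, a * b = b * a) (hCN : Cfsg.IsCNGroup G) :
    IsCIT G := by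
  classical
  haveI : Fact (Nat.Prime 2) := ⟨Nat.prime_two⟩
  intro t ht
  by_contra hcon
  have ht1 : t ≠ 1 := by rintro rfl; rw [orderOf_one] at ht; omega
  -- maximal nilpotent subgroup
  have hfin : ({K : Subgroup G | Group.IsNilpotent K ∧ centralizer ({t} : Set G) ≤ K}).Finite := Set.toFinite _
  obtain ⟨H, hH1, hH2⟩ := hfin.exists_maximal ⟨_, hCN t ht1, le_rfl⟩
  have htH : t ∈ H := hH1.2 (mem_cent.2 rfl)
  have hNTI := cn_nti hna hCN hH1.1 (fun K hK hHK => (le_antisymm (hH2 ⟨hK, hH1.2.trans hHK⟩ hHK) hHK))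
    (by
      rw [even_iff_two_dvd, ← ht]
      exact Subgroup.orderOf_dvd_natCard _ htH)
    (by
      intro p hp hpG
      by_cases hp2 : p = 2
      · subst hp2
        exact hcon (hpG.to_le hH1.2)
      · obtain ⟨k, hk⟩ := hpG ⟨t, htH⟩
        have h1 : t ^ p ^ k = 1 := by simpa using congrArg Subtype.val hk
        have h2 := orderOf_dvd_of_pow_eq_one h1
        rw [ht] at h2
        have h3 := (Nat.prime_dvd_prime_iff_eq Nat.prime_two hp).1 (Nat.prime_two.dvd_of_dvd_pow h2)
        exact hp2 h3.symm)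
  exact hcon ((hNTI.isPGroup hH1.1).to_le hH1.2)

end Cfsg.Agent.Lib.CIT
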