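import Cfsg.Agent.Lib.CNCount

/-!
# CN-groups (helper6): TI nilpotent subgroups of even order ==> Zassenhaus, part 2
-/

set_option autoImplicit false
set_option linter.all false

namespace Cfsg.Agent.Lib.CIT

open Subgroup SylowRel StrongEmbPt

variable {G : Type*} [Group G]

/-- swapping involutions, general position -/
theorem NData.swap' [Finite G] {M H : Subgroup G} {n : ℕ} (hn : NData M H n) {c d : G ⧸ M}
    (hcd : c ≠ d) : ∃ u : G, orderOf u = 2 ∧ u • c = d ∧ u • d = c ∧
      Nat.card (MulAction.stabilizer G c ⊓ MulAction.stabilizer G d : Subgroup G) = n ∧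
      ∀ x ∈ (MulAction.stabilizer G c ⊓ MulAction.stabilizer G d : Subgroup G),
        u * x * u⁻¹ = x⁻¹ := by
  induction c using QuotientGroup.induction_on with
  | H a =>
  induction d using QuotientGroup.induction_on with
  | H b =>
  have hg : a⁻¹ * b ∉ M := fun h => hcd (QuotientGroup.eq.2 h)
  obtain ⟨u, huo, hu, hcard, hinv⟩ := hn.swap _ hg
  have hu1 : (a * u * a⁻¹) • (QuotientGroup.mk a : G ⧸ M) = QuotientGroup.mk b := by
    rw [MulAction.Quotient.smul_mk, eq_comm, QuotientGroup.eq, smul_eq_mul]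
    have : b⁻¹ * (a * u * a⁻¹ * a) = (a⁻¹ * b)⁻¹ * u := by group
    rw [this]; exact hu
  have huo' : orderOf (a * u * a⁻¹) = 2 := by
    have := orderOf_injective (MulAut.conj a).toMonoidHom (MulAut.conj a).injective u
    rw [← huo, ← this]; simp
  have hinf : (MulAction.stabilizer G (QuotientGroup.mk a : G ⧸ M) ⊓
      MulAction.stabilizer G (QuotientGroup.mk b : G ⧸ M) : Subgroup G) =
      cj a (M ⊓ cj (a⁻¹ * b) M) := by
    rw [stab_eq, stab_eq, cj_inf, ← cj_mul]; congr 2; group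
  refine ⟨a * u * a⁻¹, huo', hu1, ?_, ?_, ?_⟩
  · rw [← hu1, ← mul_smul, mul_self huo', one_smul]
  · rw [hinf, card_cj, hcard]
  · intro x hx
    rw [hinf, mem_cj] at hx
    have := hinv _ hx
    have h2 : a * (u * (a⁻¹ * x * a) * u⁻¹) * a⁻¹ = a * (a⁻¹ * x * a)⁻¹ * a⁻¹ := by rw [this]
    calc a * u * a⁻¹ * x * (a * u * a⁻¹)⁻¹ = a * (u * (a⁻¹ * x * a) * u⁻¹) * a⁻¹ := by group
      _ = x⁻¹ := by rw [h2]; group

/-- the data of a Zassenhaus-type action on the cosets of `M` -/
structure NZ (M S : Subgroup G) (n : ℕ) : Prop where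
  nd : NData M S n
  card : Nat.card (G ⧸ M) = Nat.card S + 1
  three : ∀ x : G, ∀ c d e : G ⧸ M, c ≠ d → d ≠ e → c ≠ e → x • c = c → x • d = d → x • e = e → x = 1
  reg : ∀ a : G, ∀ d e : G ⧸ M, d ≠ QuotientGroup.mk a → e ≠ QuotientGroup.mk a →
    ∃ s ∈ cj a S, s • d = e
  semi : ∀ a : G, ∀ d : G ⧸ M, d ≠ QuotientGroup.mk a → ∀ s ∈ cj a S, s • d = d → s = 1

theorem NTI.nZ [Finite G] {M S : Subgroup G} (h : NTI M S) {n : ℕ} (hn : NData M S n)
    (hn2 : n ≠ 1) : NZ M S n := by
  have hM := h.se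
  classical
  haveI : Fact (Nat.Prime 2) := ⟨Nat.prime_two⟩
  have hfin : Finite (G ⧸ M) := inferInstance
  have hn1 : 1 < n := lt_of_le_of_ne hn.pos (Ne.symm hn2)
  set St : G ⧸ M → Subgroup G := fun c => MulAction.stabilizer G c with hSt
  -- conjugates
  have hcjM : ∀ c : G ⧸ M, ∃ a : G, c = QuotientGroup.mk a ∧ St c = cj a M := by
    intro c
    induction c using QuotientGroup.induction_on with
    | H a => exact ⟨a, rfl, stab_eq a⟩
  have hlt : ∀ a : G, ∀ D : Subgroup G, D ≤ St (QuotientGroup.mk a) → (∀ x ∈ D, x ∈ cj a S → x = 1) →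
      Nat.card D ≤ n := by
    intro a D hD hDo
    have hD' : D ≤ cj a M := by rw [← stab_eq]; exact hD
    have h1 : cj a⁻¹ D ≤ M := by rw [← cj_inv_cj a M]; exact cj_mono hD'
    rw [← card_cj a⁻¹ D, ← hn.relIndex]
    refine card_le_relIndex h1 ?_
    rw [eq_bot_iff]
    rintro x ⟨hx, hxS⟩
    rw [mem_bot]
    have hx' : a * x * a⁻¹ ∈ D := by
      have := mem_cj.1 hx
      simpa [mul_assoc] using this
    have h2 := hDo _ hx' (conj_mem_cj hxS)
    have : x = a⁻¹ * (a * x * a⁻¹) * a := by group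
    rw [this, h2]; group
  have hcard : ∀ c d : G ⧸ M, c ≠ d → Nat.card (St c ⊓ St d : Subgroup G) = n := by
    intro c d hcd
    obtain ⟨u, -, -, -, h4, -⟩ := hn.swap' hcd
    exact h4
  have hoddD : ∀ c d : G ⧸ M, c ≠ d → Odd (Nat.card (St c ⊓ St d : Subgroup G)) := by
    intro c d hcd; rw [hcard c d hcd]; exact hn.odd
  have hsemi : ∀ a : G, ∀ d : G ⧸ M, d ≠ QuotientGroup.mk a → ∀ s ∈ cj a S, s • d = d → s = 1 := by
    intro a d hd s hs hsd
    obtain ⟨b, rfl⟩ := QuotientGroup.mk_surjective d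
    have hg : a⁻¹ * b ∉ M := fun h1 => hd (QuotientGroup.eq.2 h1).symm
    obtain ⟨u, huo, hu, -, -⟩ := hn.swap _ hg
    have huM : u ∉ M := by
      intro h1
      apply hg
      have : a⁻¹ * b = u * ((a⁻¹ * b)⁻¹ * u)⁻¹ := by group
      rw [this]; exact mul_mem h1 (inv_mem hu)
    have hcu : cj u M = cj (a⁻¹ * b) M := cj_eq_of_inv_mul_mem hu
    have hs1 : a⁻¹ * s * a ∈ S := mem_cj.1 hs
    have hs2 : s ∈ cj b M := by
      rw [← stab_eq]; exact hsd
    have hs3 : a⁻¹ * s * a ∈ cj (a⁻¹ * b) M := by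
      rw [mem_cj] at hs2 ⊢
      have : (a⁻¹ * b)⁻¹ * (a⁻¹ * s * a) * (a⁻¹ * b) = b⁻¹ * s * b := by group
      rw [this]; exact hs2
    have h3 : a⁻¹ * s * a ∈ ((M ⊓ cj u M) ⊓ S : Subgroup G) :=
      mem_inf.2 ⟨mem_inf.2 ⟨h.le hs1, by rw [hcu]; exact hs3⟩, hs1⟩
    rw [h.inf_bot huM huo, mem_bot] at h3
    have : s = a * (a⁻¹ * s * a) * a⁻¹ := by group
    rw [this, h3]; group
  have hcentS : ∀ a : G, ∀ y ∈ cj a S, y ≠ 1 → ∀ x, x * y = y * x → x ∈ cj a S := by
    intro a y hy hy1 x hxy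
    rw [mem_cj] at hy ⊢
    refine h.cent _ hy ?_ (mem_cent.2 ?_)
    · intro h1; apply hy1
      have : y = a * (a⁻¹ * y * a) * a⁻¹ := by group
      rw [this, h1]; group
    · calc a⁻¹ * x * a * (a⁻¹ * y * a) = a⁻¹ * (x * y) * a := by group
        _ = a⁻¹ * (y * x) * a := by rw [hxy]
        _ = _ := by group
  have hcomm : ∀ c d : G ⧸ M, c ≠ d → ∀ x ∈ (St c ⊓ St d : Subgroup G),
      ∀ y ∈ (St c ⊓ St d : Subgroup G), x * y = y * x := by
    intro c d hcd x hx y hy
    obtain ⟨u, -, -, -, -, h5⟩ := hn.swap' hcd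
    have h6 := h5 _ (mul_mem hx hy)
    have h7 : u * (x * y) * u⁻¹ = (u * x * u⁻¹) * (u * y * u⁻¹) := by group
    rw [h7, h5 x hx, h5 y hy, ← mul_inv_rev] at h6
    exact (inv_injective h6).symm
  have hcent : ∀ c d : G ⧸ M, c ≠ d → ∀ x ∈ (St c ⊓ St d : Subgroup G), x ≠ 1 →
      centralizer ({x} : Set G) ⊓ St c = St c ⊓ St d := by
    intro c d hcd x hx hx1
    symm
    apply eq_of_le_of_card_ge
    · intro y hy
      exact mem_inf.2 ⟨mem_cent.2 (hcomm c d hcd y hy x hx), hy.1⟩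
    · rw [hcard c d hcd]
      obtain ⟨a, hca, -⟩ := hcjM c
      apply hlt a _ (by rw [← hca]; exact inf_le_right)
      intro t ht htS
      by_contra ht1
      apply hx1
      refine hsemi a d (by rw [← hca]; exact Ne.symm hcd) x ?_ hx.2
      exact hcentS a t htS ht1 x (mem_cent.1 ht.1).symm
  have hne : ∀ c d : G ⧸ M, c ≠ d → ∃ x ∈ (St c ⊓ St d : Subgroup G), x ≠ 1 := by
    intro c d hcd
    apply exists_mem_ne_one
    intro h1
    have h2 := hcard c d hcd
    rw [h1, card_bot] at h2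
    omega
  have hSle : ∀ a : G, cj a S ≤ St (QuotientGroup.mk a) := by
    intro a; show cj a S ≤ MulAction.stabilizer G _; rw [stab_eq]; exact cj_mono h.le
  have hSnor : ∀ a : G, St (QuotientGroup.mk a) ≤ normalizer (cj a S : Set G) := by
    intro a; show MulAction.stabilizer G _ ≤ _; rw [stab_eq, ← cj_normalizer]; exact cj_mono h.nor
  -- a 2-element of St (mk a) lies in cj a S
  have hmemS : ∀ a : G, ∀ s ∈ St (QuotientGroup.mk a), (∃ k, s ^ 2 ^ k = 1) → s ∈ cj a S := by
    intro a s hs hk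
    obtain ⟨k, hk⟩ := hk
    have hs' : s ∈ cj a M := by rw [← stab_eq]; exact hs
    rw [mem_cj] at hs' ⊢
    refine mem_of_odd_relIndex h.le h.nor h.odd_index hs' (k := k) ?_
    have : (a⁻¹ * s * a) ^ 2 ^ k = a⁻¹ * s ^ 2 ^ k * a := by
      have := conj_pow (i := 2 ^ k) (a := a⁻¹) (b := s)
      simpa using this
    rw [this, hk]; group
  -- Fix(D) = {c,d}
  have hfix : ∀ c d e : G ⧸ M, c ≠ d → d ≠ e → c ≠ e → ¬ (St c ⊓ St d ≤ St e) := by
    intro c d e hcd hde hce hle
    set D : Subgroup G := St c ⊓ St d with hD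
    have hD1 : D = St c ⊓ St e := by
      apply eq_of_le_of_card_ge (le_inf inf_le_left hle)
      rw [hcard c e hce, hcard c d hcd]
    have hD2 : D = St d ⊓ St e := by
      apply eq_of_le_of_card_ge (le_inf inf_le_right hle)
      rw [hcard d e hde, hcard c d hcd]
    obtain ⟨u, huo, hu1, hu2, -, hu3⟩ := hn.swap' hcd
    obtain ⟨v, hvo, hv1, hv2, -, hv3⟩ := hn.swap' hde
    obtain ⟨w, hwo, hw1, hw2, -, hw3⟩ := hn.swap' hce
    have hu3' : ∀ x ∈ D, u * x * u⁻¹ = x⁻¹ := hu3
    have hv3' : ∀ x ∈ D, v * x * v⁻¹ = x⁻¹ := by rw [hD2]; exact hv3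
    have hw3' : ∀ x ∈ D, w * x * w⁻¹ = x⁻¹ := by rw [hD1]; exact hw3
    set y := w * (v * u) with hy
    have hyc : y • c = c := by rw [hy, mul_smul, mul_smul, hu1, hv1, hw2]
    have hyinv : ∀ x ∈ D, y * x * y⁻¹ = x⁻¹ := by
      intro x hx
      have : y * x * y⁻¹ = w * (v * (u * x * u⁻¹) * v⁻¹) * w⁻¹ := by rw [hy]; group
      rw [this, hu3' x hx, hv3' _ (inv_mem hx), hw3' _ (inv_mem (inv_mem hx)), inv_inv]
    obtain ⟨x, hx, hx1⟩ := hne c d hcd
    -- odd power of y which is a 2-element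
    obtain ⟨k, m, hm, hord⟩ := Nat.exists_eq_two_pow_mul_odd (n := orderOf y) (orderOf_pos y).ne'
    have hs2 : (y ^ m) ^ 2 ^ k = 1 := by rw [← pow_mul, mul_comm, ← hord, pow_orderOf_eq_one]
    have hyD : ∀ j : ℕ, Odd j → ∀ x ∈ D, y ^ j * x * (y ^ j)⁻¹ = x⁻¹ := by
      intro j hj x hx
      obtain ⟨i, rfl⟩ := hj
      induction i with
      | zero => simpa using hyinv x hx
      | succ i ih =>
        have : y ^ (2 * (i + 1) + 1) * x * (y ^ (2 * (i + 1) + 1))⁻¹ =
            y * (y * (y ^ (2 * i + 1) * x * (y ^ (2 * i + 1))⁻¹) * y⁻¹) * y⁻¹ := by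
          rw [show 2 * (i + 1) + 1 = 1 + (1 + (2 * i + 1)) by ring, pow_add, pow_add, pow_one]; group
        rw [this, ih, hyinv _ (inv_mem hx), hyinv _ (inv_mem (inv_mem hx)), inv_inv]
    have hsinv := hyD m hm
    obtain ⟨a, hca, -⟩ := hcjM c
    have hsc : y ^ m ∈ St (QuotientGroup.mk a) := by
      rw [← hca]; exact pow_mem (show y ∈ St c from hyc) m
    have hsS := hmemS a _ hsc ⟨k, hs2⟩
    -- [y^m, x] ∈ S_c ⊓ D
    have h1 : y ^ m * x * (y ^ m)⁻¹ * x⁻¹ ∈ cj a S := by
      have h2 : y ^ m * x * (y ^ m)⁻¹ * x⁻¹ = y ^ m * (x * (y ^ m)⁻¹ * x⁻¹) := by group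
      rw [h2]
      refine mul_mem hsS ?_
      have hxc : x ∈ St (QuotientGroup.mk a) := by rw [← hca]; exact hx.1
      exact (mem_normalizer_iff.1 (hSnor a hxc) _).1 (inv_mem hsS)
    rw [hsinv x hx] at h1
    have h2 : x⁻¹ * x⁻¹ = 1 := by
      refine hsemi a d (by rw [← hca]; exact Ne.symm hcd) _ h1 ?_
      exact (mul_mem (inv_mem hx) (inv_mem hx)).2
    apply hx1
    have h3 : x⁻¹ = x := by
      have := eq_inv_of_mul_eq_one_left h2
      rwa [inv_inv] at this
    by_contra hx1'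
    have h4 : orderOf x = 2 := orderOf_two (by rw [h3] at h2; exact h2) hx1'
    have := odd_orderOf (hoddD c d hcd) hx
    rw [h4] at this
    exact absurd this (by decide)
  have hthree : ∀ x : G, ∀ c d e : G ⧸ M, c ≠ d → d ≠ e → c ≠ e → x • c = c → x • d = d →
      x • e = e → x = 1 := by
    intro x c d e hcd hde hce hc hd he
    by_contra hx1
    have h1 := hcent c d hcd x (mem_inf.2 ⟨hc, hd⟩) hx1
    have h2 := hcent c e hce x (mem_inf.2 ⟨hc, he⟩) hx1
    apply hfix c d e hcd hde hce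
    rw [← h1, h2]; exact inf_le_right
  have hcardSt : ∀ a : G, Nat.card (St (QuotientGroup.mk a)) = Nat.card S * n := by
    intro a
    show Nat.card (MulAction.stabilizer G _) = _
    rw [stab_eq, card_cj, ← card_mul_rel h.le, hn.relIndex]
  -- upper bound for the number of points
  have hle : ∀ a : G, Nat.card {d : G ⧸ M // d ≠ QuotientGroup.mk a} ≤ Nat.card S := by
    intro a
    set c : G ⧸ M := QuotientGroup.mk a with hc
    -- injection  (d, x ∈ D_cd \ 1)  ->  St c \ S_c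
    let A := Σ d : {d : G ⧸ M // d ≠ c}, {x : G // x ∈ (St c ⊓ St d : Subgroup G) ∧ x ≠ 1}
    let B := {x : G // x ∈ St c ∧ x ∉ cj a S}
    have hAB : Nat.card A ≤ Nat.card B := by
      apply Nat.card_le_card_of_injective (fun p : A => (⟨p.2, p.2.2.1.1, fun hxS =>
        p.2.2.2 (hsemi a p.1 p.1.2 _ hxS p.2.2.1.2)⟩ : B))
      rintro ⟨d, x, hx, hx1⟩ ⟨e, y, hy, hy1⟩ hxy
      have hxy' : x = y := congrArg (fun z : B => (z : G)) hxy
      subst hxy'
      have hde : d = e := by
        by_contra hne'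
        have hne'' : (d : G ⧸ M) ≠ e := fun h => hne' (Subtype.ext h)
        exact hx1 (hthree x c d e (Ne.symm d.2) hne'' (Ne.symm e.2) hx.1 hx.2 hy.2)
      subst hde
      rfl
    have hfib : ∀ d : {d : G ⧸ M // d ≠ c},
        Nat.card {x : G // x ∈ (St c ⊓ St d : Subgroup G) ∧ x ≠ 1} = n - 1 := by
      intro d
      have h1 : Nat.card (St c ⊓ St d : Subgroup G) = n := hcard c d (Ne.symm d.2)
      have := Fintype.ofFinite G
      rw [Nat.card_eq_fintype_card, Fintype.card_subtype]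
      have h2 : (Finset.univ.filter (fun x : G => x ∈ (St c ⊓ St d : Subgroup G) ∧ x ≠ 1)) =
          (Finset.univ.filter (fun x : G => x ∈ (St c ⊓ St d : Subgroup G))).erase 1 := by
        ext x; simp [and_comm]
      rw [h2, Finset.card_erase_of_mem (by simp [one_mem]), ← h1]
      congr 1
      rw [Nat.card_eq_fintype_card, Fintype.card_subtype]
    have hA : Nat.card A = Nat.card {d : G ⧸ M // d ≠ c} * (n - 1) := by
      have := Fintype.ofFinite {d : G ⧸ M // d ≠ c}
      rw [Nat.card_sigma, Finset.sum_congr rfl (fun d _ => hfib d), Finset.sum_const, smul_eq_mul,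
        Finset.card_univ, Nat.card_eq_fintype_card]
    have hB : Nat.card B = Nat.card S * n - Nat.card S := by
      have := Fintype.ofFinite G
      rw [Nat.card_eq_fintype_card, Fintype.card_subtype]
      have h2 : (Finset.univ.filter (fun x : G => x ∈ St c ∧ x ∉ cj a S)) =
          (Finset.univ.filter (fun x : G => x ∈ St c)) \ (Finset.univ.filter (fun x : G => x ∈ cj a S)) := by
        ext x; simp
      rw [h2, Finset.card_sdiff_of_subset]
      · congr 1
        · rw [← hcardSt a, Nat.card_eq_fintype_card, Fintype.card_subtype]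
        · rw [← card_cj a S, Nat.card_eq_fintype_card, Fintype.card_subtype]
      · intro x hx
        rw [Finset.mem_filter] at hx ⊢
        exact ⟨hx.1, hSle a hx.2⟩
    rw [hA, hB] at hAB
    have h3 : Nat.card S * n - Nat.card S = Nat.card S * (n - 1) := by
      rw [Nat.mul_sub, mul_one]
    rw [h3] at hAB
    exact Nat.le_of_mul_le_mul_right hAB (by omega)
  have hreg : ∀ a : G, ∀ d e : G ⧸ M, d ≠ QuotientGroup.mk a → e ≠ QuotientGroup.mk a →
      ∃ s ∈ cj a S, s • d = e := by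
    intro a d e hd he
    let F : cj a S → {d : G ⧸ M // d ≠ QuotientGroup.mk a} := fun s => ⟨(s : G) • d, by
      intro h1
      apply hd
      have h2 : (s : G) • (QuotientGroup.mk a : G ⧸ M) = QuotientGroup.mk a := hSle a s.2
      have h3 : (s : G) • d = (s : G) • (QuotientGroup.mk a : G ⧸ M) := by rw [h1, h2]
      exact smul_left_cancel _ h3⟩
    have hF : Function.Injective F := by
      intro s t hst
      have h1 : (s : G) • d = (t : G) • d := congrArg Subtype.val hst
      have h2 : ((t : G)⁻¹ * s) • d = d := by rw [mul_smul, h1, inv_smul_smul]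
      have h3 := hsemi a d hd _ (mul_mem (inv_mem t.2) s.2) h2
      exact Subtype.ext (inv_mul_eq_one.1 h3).symm
    have hFs : Function.Surjective F := by
      have := Fintype.ofFinite (cj a S)
      have := Fintype.ofFinite {d : G ⧸ M // d ≠ QuotientGroup.mk a}
      apply ((Fintype.bijective_iff_injective_and_card F).2 ⟨hF, ?_⟩).2
      apply le_antisymm (Fintype.card_le_of_injective F hF)
      rw [← Nat.card_eq_fintype_card, ← Nat.card_eq_fintype_card, card_cj]
      exact hle a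
    obtain ⟨s, hs⟩ := hFs ⟨e, he⟩
    exact ⟨s, s.2, congrArg Subtype.val hs⟩
  refine ⟨hn, ?_, hthree, hreg, hsemi⟩
  · -- cardinality
    have hidx : ∃ d : G ⧸ M, d ≠ QuotientGroup.mk 1 := by
      by_contra hcon
      push Not at hcon
      apply hM.1
      rw [eq_top_iff]
      intro g _
      have := hcon (QuotientGroup.mk g)
      rw [eq_comm, QuotientGroup.eq] at this
      simpa using this
    obtain ⟨d0, hd0⟩ := hidx
    have h1 : Nat.card (G ⧸ M) = Nat.card {d : G ⧸ M // d ≠ QuotientGroup.mk 1} + 1 := by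
      have := Fintype.ofFinite (G ⧸ M)
      rw [Nat.card_eq_fintype_card, Nat.card_eq_fintype_card, Fintype.card_subtype_compl]
      simp
      have : 0 < Fintype.card (G ⧸ M) := Fintype.card_pos_iff.2 ⟨d0⟩
      omega
    rw [h1]
    congr 1
    apply le_antisymm (hle 1)
    have hinj : Function.Injective (fun s : S => (⟨(s : G) • d0, by
        intro h1
        apply hd0
        have h2 : (s : G) • (QuotientGroup.mk 1 : G ⧸ M) = QuotientGroup.mk 1 :=
          (smul_one_eq_iff _).2 (h.le s.2)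
        have h3 : (s : G) • d0 = (s : G) • (QuotientGroup.mk 1 : G ⧸ M) := by rw [h1, h2]
        exact smul_left_cancel _ h3⟩ : {d : G ⧸ M // d ≠ QuotientGroup.mk 1})) := by
      intro s t hst
      have h1 : (s : G) • d0 = (t : G) • d0 := congrArg Subtype.val hst
      have h2 : ((t : G)⁻¹ * s) • d0 = d0 := by rw [mul_smul, h1, inv_smul_smul]
      have h3 := hsemi 1 d0 hd0 _ (by rw [cj_one]; exact mul_mem (inv_mem t.2) s.2) h2
      exact Subtype.ext (inv_mul_eq_one.1 h3).symm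
    exact Nat.card_le_card_of_injective _ hinj

end Cfsg.Agent.Lib.CIT
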