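import Mathlib

/-!
(helper67) A finite group is not the union of the conjugates of a proper subgroup.
-/

set_option autoImplicit false

namespace Cfsg.Agent.Lib.ConjCover

variable {G : Type*} [Group G]

/-- If every element of a finite group `G` is conjugate into `D` then `D = G`. -/
theorem eq_top_of_forall_conj [Finite G] (D : Subgroup G) (h : ∀ g : G, ∃ c : G, c⁻¹ * g * c ∈ D) :
    D = ⊤ := by
  classical
  have := Fintype.ofFinite G
  have : Fintype (G ⧸ D) := Fintype.ofFinite _
  have hB := MulAction.sum_card_fixedBy_eq_card_orbits_mul_card_group G (G ⧸ D)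
  have horb : Fintype.card (Quotient (MulAction.orbitRel G (G ⧸ D))) = 1 := by
    have : Subsingleton (Quotient (MulAction.orbitRel G (G ⧸ D))) :=
      (MulAction.pretransitive_iff_subsingleton_quotient G (G ⧸ D)).1 inferInstance
    have : Nonempty (Quotient (MulAction.orbitRel G (G ⧸ D))) := ⟨Quotient.mk'' ((1 : G) : G ⧸ D)⟩
    exact Fintype.card_eq_one_iff_nonempty_unique.2 ⟨Unique.mk' _⟩
  rw [horb, one_mul] at hB
  have hpos : ∀ g : G, 1 ≤ Fintype.card (MulAction.fixedBy (G ⧸ D) g) := by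
    intro g
    obtain ⟨c, hc⟩ := h g
    refine Fintype.card_pos_iff.2 ⟨⟨(c : G ⧸ D), ?_⟩⟩
    rw [MulAction.mem_fixedBy]
    show ((g * c : G) : G ⧸ D) = c
    rw [eq_comm, QuotientGroup.eq]
    simpa [mul_assoc] using hc
  by_contra hD
  have h1 : 1 < Fintype.card (MulAction.fixedBy (G ⧸ D) (1 : G)) := by
    have h2 : Fintype.card (MulAction.fixedBy (G ⧸ D) (1 : G)) = Fintype.card (G ⧸ D) := by
      refine Fintype.card_congr ⟨fun x => x.1, fun x => ⟨x, by simp⟩, fun x => rfl, fun x => rfl⟩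
    rw [h2, ← Nat.card_eq_fintype_card]
    have : D.index ≠ 1 := fun h => hD (Subgroup.index_eq_one.1 h)
    have h3 : D.index ≠ 0 := Subgroup.index_ne_zero_of_finite
    show 1 < D.index
    omega
  have h2 : ∑ _g : G, 1 < ∑ g : G, Fintype.card (MulAction.fixedBy (G ⧸ D) g) :=
    Finset.sum_lt_sum (fun g _ => hpos g) ⟨1, Finset.mem_univ _, h1⟩
  rw [hB] at h2
  simp at h2

end Cfsg.Agent.Lib.ConjCover
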