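import Mathlib
import Cfsg.Agent.Lib.ConjCover

/-!
# Class sizes: the index of the centre (helper69)

`n g` is the size of the conjugacy class of `g`, `d g` the order of `C(g)/Z(G)`.
-/

set_option autoImplicit false
set_option linter.unusedSectionVars false

namespace Cfsg.Agent.Lib.CSP

open Subgroup

variable {G : Type*} [Group G]

/-- the centralizer of an element -/
abbrev C (g : G) : Subgroup G := centralizer ({g} : Set G)

/-- class size -/
noncomputable abbrev n (g : G) : ℕ := (centralizer ({g} : Set G)).index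

/-- order of `C(g)/Z(G)` -/
noncomputable abbrev d (g : G) : ℕ := (center G).relIndex (centralizer ({g} : Set G))

theorem mem_C {g x : G} : x ∈ C g ↔ x * g = g * x := mem_centralizer_singleton_iff

theorem mem_C_comm {g x : G} : x ∈ C g ↔ g ∈ C x := by
  rw [mem_C, mem_C]; exact ⟨fun h => h.symm, fun h => h.symm⟩

theorem self_mem (g : G) : g ∈ C g := mem_C.2 rfl

theorem center_le (g : G) : center G ≤ C g := fun _ hz => mem_C.2 (mem_center_iff.1 hz g).symm

theorem d_mul_n (g : G) : d g * n g = (center G).index := relIndex_mul_index (center_le g)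

theorem C_le_of_mem_zpowers {x y : G} (h : y ∈ zpowers x) : C x ≤ C y := by
  obtain ⟨k, rfl⟩ := mem_zpowers_iff.1 h
  intro w hw
  rw [mem_C] at hw ⊢
  exact (Commute.zpow_right (show Commute w x from hw) k)

theorem le_C_mul {H : Subgroup G} {u v : G} (hu : H ≤ C u) (hv : H ≤ C v) : H ≤ C (u * v) := by
  intro w hw
  have h1 := mem_C.1 (hu hw)
  have h2 := mem_C.1 (hv hw)
  rw [mem_C, ← mul_assoc, h1, mul_assoc, h2, mul_assoc]

theorem C_eq_top {z : G} (hz : z ∈ center G) : C z = ⊤ := by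
  rw [eq_top_iff]; intro w _; exact mem_C.2 (mem_center_iff.1 hz w)

theorem mem_center_of_C_top {z : G} (h : C z = ⊤) : z ∈ center G :=
  mem_center_iff.2 (fun g => mem_C.1 (h ▸ mem_top g))

theorem C_conj (g x : G) (w : G) : w ∈ C (g * x * g⁻¹) ↔ g⁻¹ * w * g ∈ C x := by
  rw [mem_C, mem_C]
  constructor
  · intro h
    calc g⁻¹ * w * g * x = g⁻¹ * (w * (g * x * g⁻¹)) * g := by group
      _ = x * (g⁻¹ * w * g) := by rw [h]; group
  · intro h
    calc w * (g * x * g⁻¹) = g * (g⁻¹ * w * g * x) * g⁻¹ := by group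
      _ = g * x * g⁻¹ * w := by rw [h]; group

theorem conj_mem_center {g x : G} (h : g * x * g⁻¹ ∈ center G) : x ∈ center G := by
  have h1 := mem_center_iff.1 h g
  have h2 : x = g * x * g⁻¹ := by
    calc x = g⁻¹ * (g * (g * x * g⁻¹)) * g * g⁻¹ := by
          rw [h1]; group
      _ = g * x * g⁻¹ := by group
  rw [h2]; exact h

theorem n_conj (g x : G) : n (g * x * g⁻¹) = n x := by
  have h1 : C (g * x * g⁻¹) = (C x).map (MulAut.conj g).toMonoidHom := by
    ext w
    rw [C_conj]
    constructor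
    · intro h
      exact ⟨_, h, by simp [mul_assoc]⟩
    · rintro ⟨v, hv, rfl⟩
      have : g⁻¹ * ((MulAut.conj g).toMonoidHom v) * g = v := by simp [mul_assoc]
      rw [this]; exact hv
  show (C (g * x * g⁻¹)).index = (C x).index
  rw [h1]
  exact Subgroup.index_map_equiv _ (MulAut.conj g)

/-- `C g` is neither properly contained in nor properly contains the centralizer of a noncentral element -/
def Iso (x : G) : Prop :=
  ∀ y : G, y ∉ center G → (C y ≤ C x → C x ≤ C y) ∧ (C x ≤ C y → C y ≤ C x)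

variable [Finite G]

theorem le_of_n_eq {x y : G} (h : C y ≤ C x) (hn : n y = n x) : C x ≤ C y := by
  have h1 : (C y).relIndex (C x) * (C x).index = (C y).index := relIndex_mul_index h
  have h2 : (C x).index ≠ 0 := index_ne_zero_of_finite
  have h3 : (C y).relIndex (C x) = 1 := by
    have h4 : (C y).relIndex (C x) * (C x).index = 1 * (C x).index := by rw [one_mul, h1]; exact hn
    exact Nat.eq_of_mul_eq_mul_right (Nat.pos_of_ne_zero h2) h4
  exact relIndex_eq_one.1 h3

theorem Iso.of_dvd {x : G} (h1 : ∀ y ∉ center G, n y ∣ n x → n y = n x)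
    (h2 : ∀ y ∉ center G, n x ∣ n y → n y = n x) : Iso x := by
  intro y hy
  refine ⟨fun h => le_of_n_eq h (h2 y hy (index_dvd_of_le h)), fun h => ?_⟩
  exact le_of_n_eq h (h1 y hy (index_dvd_of_le h)).symm

theorem mem_zpowers_mul {x y : G} (hc : x * y = y * x) (hco : (orderOf x).Coprime (orderOf y)) :
    x ∈ zpowers (x * y) := by
  have h1 : (x * y) ^ orderOf y = x ^ orderOf y := by
    rw [(show Commute x y from hc).mul_pow, pow_orderOf_eq_one, mul_one]
  have h2 : x ∈ zpowers (x ^ orderOf y) := mem_zpowers_pow_iff.2 hco.symm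
  have h3 : x ^ orderOf y ∈ zpowers (x * y) := by rw [← h1]; exact pow_mem (mem_zpowers _) _
  exact (zpowers_le.2 h3) h2

/-- `r`-part and `r'`-part -/
theorem parts {r : ℕ} (hr : r.Prime) (x : G) : ∃ u v : G, u * v = x ∧ v * u = x ∧ u ∈ zpowers x ∧
    v ∈ zpowers x ∧ (∃ a, orderOf u = r ^ a) ∧ (orderOf v).Coprime r := by
  obtain ⟨a, m, hm, hx⟩ := Nat.exists_eq_pow_mul_and_not_dvd (orderOf_pos x).ne' r hr.ne_one
  have hco : (r ^ a).Coprime m := ((Nat.Prime.coprime_iff_not_dvd hr).2 hm).pow_left a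
  obtain ⟨k, hk1, hk2⟩ := Nat.chineseRemainder hco 1 0
  obtain ⟨l, hl1, hl2⟩ := Nat.chineseRemainder hco 0 1
  have hkl : k + l ≡ 1 [MOD orderOf x] := by
    rw [hx]
    refine (Nat.modEq_and_modEq_iff_modEq_mul hco).1 ⟨?_, ?_⟩
    · simpa using hk1.add hl1
    · simpa using hk2.add hl2
  have hsum : x ^ (k + l) = x := by
    conv_rhs => rw [← pow_one x]
    exact pow_eq_pow_iff_modEq.2 hkl
  refine ⟨x ^ k, x ^ l, by rw [← pow_add, hsum], by rw [← pow_add, add_comm, hsum], pow_mem (mem_zpowers x) _,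
    pow_mem (mem_zpowers x) _, ?_, ?_⟩
  · have h1 : (x ^ k) ^ r ^ a = 1 := by
      rw [← pow_mul]
      apply orderOf_dvd_iff_pow_eq_one.1
      rw [hx, mul_comm]
      exact Nat.mul_dvd_mul ((Nat.modEq_zero_iff_dvd).1 hk2) dvd_rfl
    obtain ⟨b, -, hb⟩ := (Nat.dvd_prime_pow hr).1 (orderOf_dvd_of_pow_eq_one h1)
    exact ⟨b, hb⟩
  · have h1 : (x ^ l) ^ m = 1 := by
      rw [← pow_mul]
      apply orderOf_dvd_iff_pow_eq_one.1
      rw [hx]
      exact Nat.mul_dvd_mul ((Nat.modEq_zero_iff_dvd).1 hl1) dvd_rfl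
    exact Nat.Coprime.coprime_dvd_left (orderOf_dvd_of_pow_eq_one h1)
      ((Nat.Prime.coprime_iff_not_dvd hr).2 hm).symm

/-- a subgroup whose index over the centre is divisible by `r` contains a noncentral `r`-element -/
theorem exists_rel {r : ℕ} (hr : r.Prime) {H : Subgroup G} (h : r ∣ (center G).relIndex H) :
    ∃ a ∈ H, a ∉ center G ∧ ∃ k, orderOf a = r ^ k := by
  have hrf : Fact r.Prime := ⟨hr⟩
  obtain ⟨R⟩ : Nonempty (Sylow r H) := inferInstance
  by_contra hcon
  push Not at hcon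
  have h1 : (R : Subgroup H) ≤ (center G).subgroupOf H := by
    intro x hx
    rw [mem_subgroupOf]
    by_contra hx1
    obtain ⟨k, hk⟩ := R.2 ⟨x, hx⟩
    have h2 : (x : G) ^ r ^ k = 1 := by
      have h3 : x ^ r ^ k = 1 := by simpa using congrArg Subtype.val hk
      have := congrArg Subtype.val h3
      simpa using this
    obtain ⟨b, -, hb⟩ := (Nat.dvd_prime_pow hr).1 (orderOf_dvd_of_pow_eq_one h2)
    exact hcon x x.2 hx1 b hb
  exact R.not_dvd_index (h.trans (index_dvd_of_le h1))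

/-- a noncentral element has a noncentral power of prime power order -/
theorem exists_prim : ∀ (N : ℕ) (y : G), orderOf y = N → y ∉ center G →
    ∃ p : ℕ, p.Prime ∧ ∃ u ∈ zpowers y, u ∉ center G ∧ ∃ a, orderOf u = p ^ a := by
  intro N
  induction N using Nat.strong_induction_on with
  | _ N ih =>
    intro y hN hy
    have h1 : orderOf y ≠ 1 := by
      intro h0
      rw [orderOf_eq_one_iff] at h0
      exact hy (h0 ▸ one_mem _)
    obtain ⟨p, hp, hpd⟩ := Nat.exists_prime_and_dvd h1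
    obtain ⟨u, v, huv, -, hu, hv, ⟨a, ha⟩, hco⟩ := parts hp y
    by_cases huc : u ∈ center G
    · have hvc : v ∉ center G := fun hvc => hy (huv ▸ mul_mem huc hvc)
      have hlt : orderOf v < N := by
        have h2 : orderOf v ∣ orderOf y := orderOf_dvd_of_mem_zpowers hv
        have h3 : orderOf v ≤ orderOf y := Nat.le_of_dvd (orderOf_pos y) h2
        rcases lt_or_eq_of_le h3 with h4 | h4
        · rw [← hN]; exact h4
        · rw [h4] at hco
          exact absurd ((Nat.Prime.coprime_iff_not_dvd hp).1 hco.symm) (by simpa using hpd)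
      obtain ⟨q, hq, w, hw, h5⟩ := ih _ hlt v rfl hvc
      exact ⟨q, hq, w, (zpowers_le.2 hv) hw, h5⟩
    · exact ⟨p, hp, u, hu, huc, a, ha⟩

/-- Lemma A -/
theorem comm_or {r : ℕ} (hr : r.Prime) {x : G} (hiso : Iso x) (hxc : x ∉ center G) (hx : ∃ a, orderOf x = r ^ a) :
    (∀ w ∈ C x, C x ≤ C w) ∨ (∀ y ∈ C x, (orderOf y).Coprime r → y ∈ center G) := by
  by_cases h : ∀ y ∈ C x, (orderOf y).Coprime r → y ∈ center G
  · exact Or.inr h
  left
  obtain ⟨a, ha⟩ := hx
  have key : ∀ v ∈ C x, (orderOf v).Coprime r → C x ≤ C v := by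
    intro v hv hvr
    have hc : x * v = v * x := (mem_C.1 hv).symm
    have hco : (orderOf x).Coprime (orderOf v) := by rw [ha]; exact (hvr.symm.pow_left a)
    have h1 := mem_zpowers_mul hc hco
    have h2 : v ∈ zpowers (x * v) := by rw [hc]; exact mem_zpowers_mul hc.symm hco.symm
    have h3 : x * v ∉ center G := fun h0 => hxc ((zpowers_le.2 h0) h1)
    exact ((hiso _ h3).1 (C_le_of_mem_zpowers h1)).trans (C_le_of_mem_zpowers h2)
  push Not at h
  obtain ⟨y, hy, hyr, hyc⟩ := h
  have hxy := key y hy hyr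
  have hyx := (hiso y hyc).2 hxy
  intro w hw
  obtain ⟨u, v, huv, -, hu, hv, ⟨b, hb⟩, hco⟩ := parts hr w
  have hu' : u ∈ C x := (zpowers_le.2 hw) hu
  have hv' : v ∈ C x := (zpowers_le.2 hw) hv
  have h1 := key v hv' hco
  have h2 : C x ≤ C u := by
    have hc : u * y = y * u := mem_C.1 (hxy hu')
    have hco : (orderOf u).Coprime (orderOf y) := by rw [hb]; exact (hyr.symm.pow_left b)
    have h3 := mem_zpowers_mul hc hco
    have h4 : y ∈ zpowers (u * y) := by rw [hc]; exact mem_zpowers_mul hc.symm hco.symm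
    have h5 : u * y ∉ center G := fun h0 => hyc ((zpowers_le.2 h0) h4)
    exact ((hiso _ h5).1 ((C_le_of_mem_zpowers h4).trans hyx)).trans (C_le_of_mem_zpowers h3)
  rw [← huv]
  exact le_C_mul h2 h1

theorem Iso.congr {x y : G} (h : Iso x) (hxy : C x = C y) : Iso y := by
  intro w hw
  rw [← hxy]
  exact h w hw

/-- Lemma C -/
theorem exists_abel {y : G} (hiso : Iso y) (hyc : y ∉ center G) {r s : ℕ} (hr : r.Prime) (hs : s.Prime)
    (hrs : r ≠ s) (hrd : r ∣ d y) (hsd : s ∣ d y) :
    (∀ w ∈ C y, C y ≤ C w) ∧ ∃ a, a ∉ center G ∧ (∃ k, orderOf a = r ^ k) ∧ C a = C y := by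
  obtain ⟨p, hp, u, hu, huc, a, ha⟩ := exists_prim _ y rfl hyc
  have h1 : C y ≤ C u := C_le_of_mem_zpowers hu
  have h2 : C u ≤ C y := (hiso u huc).2 h1
  have h3 : C y = C u := le_antisymm h1 h2
  have hu2 := hiso.congr h3
  obtain ⟨b, hb, hbc, k, hk⟩ := exists_rel hr hrd
  obtain ⟨b', hb', hbc', k', hk'⟩ := exists_rel hs hsd
  have hab : ∀ w ∈ C y, C y ≤ C w := by
    rcases comm_or hp hu2 huc ⟨a, ha⟩ with h4 | h4
    · intro w hw
      rw [h3] at hw ⊢
      exact h4 w hw
    · exfalso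
      have hb := h1 hb
      have hb' := h1 hb'
      by_cases hpr : r = p
      · exact hbc' (h4 b' hb' (by
          rw [hk', ← hpr]
          exact ((Nat.coprime_primes hs hr).2 (Ne.symm hrs)).pow_left k'))
      · exact hbc (h4 b hb (by
          rw [hk]
          exact ((Nat.coprime_primes hr hp).2 hpr).pow_left k))
  refine ⟨hab, b, hbc, ⟨k, hk⟩, ?_⟩
  exact le_antisymm ((hiso b hbc).2 (hab b hb)) (hab b hb)

/-- an `r`-element is conjugate into any subgroup of index prime to `r` -/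
theorem exists_conj_mem {r : ℕ} (hr : r.Prime) {a : G} (ha : ∃ k, orderOf a = r ^ k) {H : Subgroup G}
    (hH : ¬ r ∣ H.index) : ∃ g : G, g⁻¹ * a * g ∈ H := by
  have hrf : Fact r.Prime := ⟨hr⟩
  obtain ⟨k, hk⟩ := ha
  have hp : IsPGroup r (zpowers a) := IsPGroup.of_card (n := k) (by rw [Nat.card_zpowers, hk])
  obtain ⟨x, hx⟩ := hp.nonempty_fixed_point_of_prime_not_dvd_card (G ⧸ H) hH
  obtain ⟨g, rfl⟩ := QuotientGroup.mk_surjective x
  refine ⟨g, ?_⟩
  have h1 := hx ⟨a, mem_zpowers a⟩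
  have h2 : (QuotientGroup.mk (a * g) : G ⧸ H) = QuotientGroup.mk g := h1
  rw [eq_comm, QuotientGroup.eq] at h2
  rw [mul_assoc]; exact h2

/-- Lemma B -/
theorem no_k {r : ℕ} (hr : r.Prime) {a t : G} (ha : ∃ k, orderOf a = r ^ k) (hab : ∀ w ∈ C a, C a ≤ C w)
    (hiso : Iso a) (htc : t ∉ center G) (ht : ¬ r ∣ n t) (har : r ∣ n a) : False := by
  obtain ⟨g, hg⟩ := exists_conj_mem hr ha ht
  have h1 : g * t * g⁻¹ ∈ C a := by
    rw [mem_C_comm, C_conj]; exact hg
  have h2 : g * t * g⁻¹ ∉ center G := fun h => htc (conj_mem_center h)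
  have h3 := hab _ h1
  have h4 := (hiso _ h2).2 h3
  have h5 : n (g * t * g⁻¹) = n a := by
    show (C (g * t * g⁻¹)).index = (C a).index
    rw [le_antisymm h4 h3]
  rw [n_conj] at h5
  exact ht (h5 ▸ har)

/-- Lemma D -/
theorem exists_dvd_n {r : ℕ} (hr : r.Prime) (h : r ∣ (center G).index) : ∃ x : G, r ∣ n x := by
  by_contra hcon
  push Not at hcon
  obtain ⟨a, -, hac, k, hk⟩ := exists_rel (H := (⊤ : Subgroup G)) hr (by rw [relIndex_top_right]; exact h)
  apply hac
  apply mem_center_of_C_top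
  apply ConjCover.eq_top_of_forall_conj
  intro t
  obtain ⟨g, hg⟩ := exists_conj_mem hr ⟨k, hk⟩ (hcon t)
  refine ⟨g⁻¹, ?_⟩
  rw [inv_inv, mem_C_comm, C_conj]
  exact hg

/-- class sizes of the shape `BC, AC, AB, 2AB` -/
structure Sizes (G : Type*) [Group G] (A B D : ℕ) : Prop where
  hA : 1 < A
  hB : 1 < B
  hD : 2 < D
  hAB : A.Coprime B
  hAD : A.Coprime D
  hBD : B.Coprime D
  hs : ∀ g : G, g ∉ center G → n g = B * D ∨ n g = A * D ∨ n g = A * B ∨ (n g = 2 * (A * B) ∧ 2 ∣ D)
  h1 : ∃ g : G, n g = B * D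
  h2 : ∃ g : G, n g = A * D
  h3 : ∃ g : G, n g = A * B

theorem not_center_of_n {g : G} {N : ℕ} (h : n g = N) (hN : 1 < N) : g ∉ center G := by
  intro hc
  have h1 : n g = 1 := by
    show (C g).index = 1
    rw [C_eq_top hc, index_top]
  omega

variable {A B D : ℕ}

theorem Sizes.iso1 (h : Sizes G A B D) {x : G} (hx : n x = B * D) : Iso x := by
  have hA := h.hA; have hB := h.hB; have hD := h.hD
  apply Iso.of_dvd
  · intro y hy hyx
    rw [hx] at hyx ⊢
    rcases h.hs y hy with h1 | h1 | h1 | ⟨h1, -⟩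
    · exact h1
    · exfalso
      rw [h1] at hyx
      have h2 : A ∣ B := Nat.dvd_of_mul_dvd_mul_right (by omega) hyx
      exact absurd (Nat.eq_one_of_dvd_coprimes h.hAB dvd_rfl h2) (by omega)
    · exfalso
      rw [h1, mul_comm A B] at hyx
      have h2 : A ∣ D := Nat.dvd_of_mul_dvd_mul_left (by omega) hyx
      exact absurd (Nat.eq_one_of_dvd_coprimes h.hAD dvd_rfl h2) (by omega)
    · exfalso
      rw [h1] at hyx
      have h2 : A ∣ B * D := (Dvd.intro _ rfl : A ∣ A * B).trans ((Dvd.intro_left _ rfl).trans hyx)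
      exact absurd (Nat.eq_one_of_dvd_coprimes (h.hAB.mul_right h.hAD) dvd_rfl h2) (by omega)
  · intro y hy hyx
    rw [hx] at hyx ⊢
    rcases h.hs y hy with h1 | h1 | h1 | ⟨h1, -⟩
    · exact h1
    · exfalso
      rw [h1] at hyx
      have h2 : B ∣ A := Nat.dvd_of_mul_dvd_mul_right (by omega) hyx
      exact absurd (Nat.eq_one_of_dvd_coprimes h.hAB h2 dvd_rfl) (by omega)
    · exfalso
      rw [h1, mul_comm A B] at hyx
      have h2 : D ∣ A := Nat.dvd_of_mul_dvd_mul_left (by omega) hyx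
      exact absurd (Nat.eq_one_of_dvd_coprimes h.hAD h2 dvd_rfl) (by omega)
    · exfalso
      rw [h1, show 2 * (A * B) = B * (A * 2) by ring] at hyx
      have h2 : D ∣ A * 2 := Nat.dvd_of_mul_dvd_mul_left (by omega) hyx
      have h3 : D ∣ 2 := h.hAD.symm.dvd_of_dvd_mul_left h2
      exact absurd (Nat.le_of_dvd (by norm_num) h3) (by omega)

theorem Sizes.iso2 (h : Sizes G A B D) {x : G} (hx : n x = A * D) : Iso x := by
  have hA := h.hA; have hB := h.hB; have hD := h.hD
  apply Iso.of_dvd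
  · intro y hy hyx
    rw [hx] at hyx ⊢
    rcases h.hs y hy with h1 | h1 | h1 | ⟨h1, -⟩
    · exfalso
      rw [h1] at hyx
      have h2 : B ∣ A := Nat.dvd_of_mul_dvd_mul_right (by omega) hyx
      exact absurd (Nat.eq_one_of_dvd_coprimes h.hAB h2 dvd_rfl) (by omega)
    · exact h1
    · exfalso
      rw [h1] at hyx
      have h2 : B ∣ D := Nat.dvd_of_mul_dvd_mul_left (by omega) hyx
      exact absurd (Nat.eq_one_of_dvd_coprimes h.hBD dvd_rfl h2) (by omega)
    · exfalso
      rw [h1] at hyx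
      have h2 : B ∣ A * D := (Dvd.intro_left _ rfl : B ∣ A * B).trans ((Dvd.intro_left _ rfl).trans hyx)
      exact absurd (Nat.eq_one_of_dvd_coprimes (h.hAB.symm.mul_right h.hBD) dvd_rfl h2) (by omega)
  · intro y hy hyx
    rw [hx] at hyx ⊢
    rcases h.hs y hy with h1 | h1 | h1 | ⟨h1, -⟩
    · exfalso
      rw [h1] at hyx
      have h2 : A ∣ B := Nat.dvd_of_mul_dvd_mul_right (by omega) hyx
      exact absurd (Nat.eq_one_of_dvd_coprimes h.hAB dvd_rfl h2) (by omega)
    · exact h1
    · exfalso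
      rw [h1] at hyx
      have h2 : D ∣ B := Nat.dvd_of_mul_dvd_mul_left (by omega) hyx
      exact absurd (Nat.eq_one_of_dvd_coprimes h.hBD h2 dvd_rfl) (by omega)
    · exfalso
      rw [h1, show 2 * (A * B) = A * (B * 2) by ring] at hyx
      have h2 : D ∣ B * 2 := Nat.dvd_of_mul_dvd_mul_left (by omega) hyx
      have h3 : D ∣ 2 := h.hBD.symm.dvd_of_dvd_mul_left h2
      exact absurd (Nat.le_of_dvd (by norm_num) h3) (by omega)

theorem Sizes.n_dvd (h : Sizes G A B D) (g : G) : n g ∣ A * B * D := by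
  by_cases hg : g ∈ center G
  · have h1 : n g = 1 := by
      show (C g).index = 1
      rw [C_eq_top hg, index_top]
    rw [h1]; exact one_dvd _
  · rcases h.hs g hg with h1 | h1 | h1 | ⟨h1, k, hk⟩
    · rw [h1]; exact ⟨A, by ring⟩
    · rw [h1]; exact ⟨B, by ring⟩
    · rw [h1]; exact ⟨D, by ring⟩
    · rw [h1]; exact ⟨k, by rw [hk]; ring⟩

/-- the index of the centre -/
theorem Sizes.index_center (h : Sizes G A B D) : (center G).index = A * B * D := by
  have hA := h.hA; have hB := h.hB; have hD := h.hD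
  obtain ⟨x1, hx1⟩ := h.h1
  obtain ⟨x2, hx2⟩ := h.h2
  obtain ⟨x3, hx3⟩ := h.h3
  have hBD1 : 1 < B * D := Nat.one_lt_mul_iff.2 ⟨by omega, by omega, Or.inl hB⟩
  have hAD1 : 1 < A * D := Nat.one_lt_mul_iff.2 ⟨by omega, by omega, Or.inl hA⟩
  have hAB1 : 1 < A * B := Nat.one_lt_mul_iff.2 ⟨by omega, by omega, Or.inl hA⟩
  have e1 := d_mul_n x1
  have e2 := d_mul_n x2
  have e3 := d_mul_n x3
  rw [hx1] at e1; rw [hx2] at e2; rw [hx3] at e3
  have hdvd : A * B * D ∣ (center G).index := by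
    have h1 : A * B ∣ (center G).index := ⟨_, (e3.symm.trans (mul_comm _ _))⟩
    have h2 : D ∣ (center G).index := ⟨d x1 * B, by rw [← e1]; ring⟩
    exact Nat.Coprime.mul_dvd_of_dvd_of_dvd (h.hAD.mul_left h.hBD) h1 h2
  obtain ⟨k, hk⟩ := hdvd
  have hpos : 0 < A * B * D := by positivity
  have d1 : d x1 = A * k := by
    apply Nat.eq_of_mul_eq_mul_right (by omega : 0 < B * D)
    rw [e1, hk]; ring
  have d2 : d x2 = B * k := by
    apply Nat.eq_of_mul_eq_mul_right (by omega : 0 < A * D)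
    rw [e2, hk]; ring
  have hk1 : k = 1 := by
    by_contra hk1
    obtain ⟨r, hr, hrk⟩ := Nat.exists_prime_and_dvd hk1
    obtain ⟨x, hx⟩ := exists_dvd_n (G := G) hr (by rw [hk]; exact hrk.mul_left _)
    have hrABD := hx.trans (h.n_dvd x)
    -- a prime of `A`
    obtain ⟨pA, hpA, hpAA⟩ := Nat.exists_prime_and_dvd hA.ne'
    obtain ⟨pB, hpB, hpBB⟩ := Nat.exists_prime_and_dvd hB.ne'
    have useA : r ∣ D ∨ r ∣ B → ∀ t : G, t ∉ center G → ¬ r ∣ n t → False := by
      intro hr' t ht htr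
      have hne : r ≠ pA := by
        rintro rfl
        rcases hr' with h4 | h4
        · exact hr.one_lt.ne' (Nat.eq_one_of_dvd_coprimes h.hAD hpAA h4)
        · exact hr.one_lt.ne' (Nat.eq_one_of_dvd_coprimes h.hAB hpAA h4)
      obtain ⟨hab, a, hac, hao, hay⟩ := exists_abel (h.iso1 hx1) (not_center_of_n hx1 hBD1) hr hpA hne
        (by rw [d1]; exact hrk.mul_left _) (by rw [d1]; exact hpAA.mul_right _)
      refine no_k hr hao (by rw [hay]; exact hab) ((h.iso1 hx1).congr hay.symm) ht htr ?_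
      show r ∣ (C a).index
      rw [hay]
      show r ∣ n x1
      rw [hx1]
      rcases hr' with h4 | h4
      · exact h4.mul_left _
      · exact h4.mul_right _
    rcases (Nat.Prime.dvd_mul hr).1 hrABD with h5 | h5
    · rcases (Nat.Prime.dvd_mul hr).1 h5 with h5 | h5
      · -- `r ∣ A`
        have hne : r ≠ pB := by
          rintro rfl
          exact hr.one_lt.ne' (Nat.eq_one_of_dvd_coprimes h.hAB h5 hpBB)
        obtain ⟨hab, a, hac, hao, hay⟩ := exists_abel (h.iso2 hx2) (not_center_of_n hx2 hAD1) hr hpB hne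
          (by rw [d2]; exact hrk.mul_left _) (by rw [d2]; exact hpBB.mul_right _)
        refine no_k hr hao (by rw [hay]; exact hab) ((h.iso2 hx2).congr hay.symm) (not_center_of_n hx1 hBD1)
          ?_ ?_
        · rw [hx1]
          intro h6
          exact hr.one_lt.ne' (Nat.eq_one_of_dvd_coprimes (h.hAB.mul_right h.hAD) h5 h6)
        · show r ∣ (C a).index
          rw [hay]
          show r ∣ n x2
          rw [hx2]; exact h5.mul_right _
      · -- `r ∣ B`
        refine useA (Or.inr h5) x2 (not_center_of_n hx2 hAD1) ?_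
        rw [hx2]
        intro h6
        exact hr.one_lt.ne' (Nat.eq_one_of_dvd_coprimes (h.hAB.symm.mul_right h.hBD) h5 h6)
    · refine useA (Or.inl h5) x3 (not_center_of_n hx3 hAB1) ?_
      rw [hx3]
      intro h6
      exact hr.one_lt.ne' (Nat.eq_one_of_dvd_coprimes (h.hAD.symm.mul_right h.hBD.symm) h5 h6)
  rw [hk, hk1, mul_one]

/-- orders of the centralizers modulo the centre -/
theorem Sizes.d_cases (h : Sizes G A B D) {g : G} (hg : g ∉ center G) :
    d g = A ∨ d g = B ∨ d g = D ∨ 2 * d g = D := by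
  have hA := h.hA; have hB := h.hB; have hD := h.hD
  have h1 := d_mul_n g
  rw [h.index_center] at h1
  rcases h.hs g hg with h2 | h2 | h2 | ⟨h2, -⟩
  · left
    rw [h2] at h1
    apply Nat.eq_of_mul_eq_mul_right (by positivity : 0 < B * D)
    rw [h1]; ring
  · right; left
    rw [h2] at h1
    apply Nat.eq_of_mul_eq_mul_right (by positivity : 0 < A * D)
    rw [h1]; ring
  · right; right; left
    rw [h2] at h1
    apply Nat.eq_of_mul_eq_mul_right (by positivity : 0 < A * B)
    rw [h1]; ring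
  · right; right; right
    rw [h2] at h1
    apply Nat.eq_of_mul_eq_mul_right (by positivity : 0 < A * B)
    rw [mul_comm (A * B) D] at h1
    rw [← h1]; ring

/-- the order of the image of `g` divides `d g` -/
theorem orderOf_mk_dvd (g : G) : orderOf (QuotientGroup.mk g : G ⧸ center G) ∣ d g := by
  have h1 : (⟨g, self_mem g⟩ : C g) ^ d g ∈ (center G).subgroupOf (C g) :=
    Subgroup.pow_index_mem _ _
  apply orderOf_dvd_of_pow_eq_one
  rw [← QuotientGroup.mk_pow, QuotientGroup.eq_one_iff]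
  exact h1

/-- the centralizer in the quotient -/
theorem card_cent_mk {r : ℕ} (hr : r.Prime) (g : G) (hg : ∃ k, orderOf (QuotientGroup.mk g : G ⧸ center G) = r ^ k) :
    ∃ j, Nat.card (centralizer ({(QuotientGroup.mk g : G ⧸ center G)} : Set (G ⧸ center G))) = d g * r ^ j := by
  obtain ⟨k, hk⟩ := hg
  set H : Subgroup G := (centralizer ({(QuotientGroup.mk g : G ⧸ center G)} : Set (G ⧸ center G))).comap
    (QuotientGroup.mk' (center G)) with hH
  have hmem : ∀ x : G, x ∈ H ↔ x * g * x⁻¹ * g⁻¹ ∈ center G := by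
    intro x
    rw [hH, mem_comap, mem_centralizer_singleton_iff]
    rw [← QuotientGroup.eq_one_iff]
    change (QuotientGroup.mk x * QuotientGroup.mk g : G ⧸ center G) = QuotientGroup.mk g * QuotientGroup.mk x ↔
      (QuotientGroup.mk x * QuotientGroup.mk g * (QuotientGroup.mk x)⁻¹ * (QuotientGroup.mk g)⁻¹ : G ⧸ center G) = 1
    rw [mul_inv_eq_one, mul_inv_eq_iff_eq_mul]
  have hZH : center G ≤ H := by
    intro z hz
    rw [hmem, ← mem_center_iff.1 hz g]
    simp [mul_assoc]
  have hCH : C g ≤ H := by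
    intro x hx
    rw [hmem, mem_C.1 hx]
    simp
  -- the commutator map
  let φ : H →* center G :=
    { toFun := fun x => ⟨(x : G) * g * (x : G)⁻¹ * g⁻¹, (hmem x).1 x.2⟩
      map_one' := by apply Subtype.ext; simp
      map_mul' := by
        intro x y
        apply Subtype.ext
        have hy := mem_center_iff.1 ((hmem y).1 y.2)
        have h1 : ((x * y : H) : G) * g * ((x * y : H) : G)⁻¹ * g⁻¹ =
            (x : G) * ((y : G) * g * (y : G)⁻¹ * g⁻¹) * (g * (x : G)⁻¹ * g⁻¹) := by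
          rw [Subgroup.coe_mul]; group
        change ((x * y : H) : G) * g * ((x * y : H) : G)⁻¹ * g⁻¹ =
          ((x : G) * g * (x : G)⁻¹ * g⁻¹) * ((y : G) * g * (y : G)⁻¹ * g⁻¹)
        rw [h1, hy (x : G), mul_assoc, ← hy]
        congr 1
        group }
  have hker : φ.ker = (C g).subgroupOf H := by
    ext x
    rw [MonoidHom.mem_ker, mem_subgroupOf, mem_C]
    constructor
    · intro h1
      have h2 : (x : G) * g * (x : G)⁻¹ * g⁻¹ = 1 := congrArg Subtype.val h1
      rwa [mul_inv_eq_one, mul_inv_eq_iff_eq_mul] at h2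
    · intro h1
      apply Subtype.ext
      change (x : G) * g * (x : G)⁻¹ * g⁻¹ = 1
      rw [mul_inv_eq_one, mul_inv_eq_iff_eq_mul]
      exact h1
  have hrange : ∃ j, Nat.card φ.range = r ^ j := by
    have hp : IsPGroup r φ.range := by
      rintro ⟨w, x, hx⟩
      refine ⟨k, ?_⟩
      apply Subtype.ext
      apply Subtype.ext
      change ((w : G)) ^ r ^ k = 1
      have hw : (w : G) = (x : G) * g * (x : G)⁻¹ * g⁻¹ := (congrArg Subtype.val hx).symm
      have hwc : (w : G) ∈ center G := w.2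
      have h1 : (w : G) * g = (x : G) * g * (x : G)⁻¹ := by rw [hw]; group
      have h2 : ((w : G) * g) ^ r ^ k = (x : G) * g ^ r ^ k * (x : G)⁻¹ := by
        rw [h1, conj_pow]
      have h3 : g ^ r ^ k ∈ center G := by
        rw [← QuotientGroup.eq_one_iff, QuotientGroup.mk_pow, ← hk, pow_orderOf_eq_one]
      have h4 : (x : G) * g ^ r ^ k * (x : G)⁻¹ = g ^ r ^ k := by
        rw [mem_center_iff.1 h3 (x : G)]; group
      have h5 : Commute (w : G) g := (mem_center_iff.1 hwc g).symm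
      rw [h4, h5.mul_pow] at h2
      exact mul_eq_right.1 h2
    have : Fact r.Prime := ⟨hr⟩
    exact (IsPGroup.iff_card).1 hp
  obtain ⟨j, hj⟩ := hrange
  refine ⟨j, ?_⟩
  have h1 : Nat.card (centralizer ({(QuotientGroup.mk g : G ⧸ center G)} : Set (G ⧸ center G))) =
      (center G).relIndex H := by
    have h2 : (⊥ : Subgroup (G ⧸ center G)).relIndex
        (centralizer ({(QuotientGroup.mk g : G ⧸ center G)} : Set (G ⧸ center G))) =
        (center G).relIndex H := by
      have h3 := Subgroup.relIndex_comap (⊥ : Subgroup (G ⧸ center G)) (QuotientGroup.mk' (center G)) H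
      rw [MonoidHom.comap_bot, QuotientGroup.ker_mk'] at h3
      rw [h3, hH, Subgroup.map_comap_eq_self_of_surjective (QuotientGroup.mk'_surjective _)]
    rw [← h2, Subgroup.relIndex_bot_left]
  rw [h1, ← relIndex_mul_relIndex (center G) (C g) H (center_le g) hCH]
  congr 1
  rw [← hj, Subgroup.relIndex, ← hker, Subgroup.index_ker]

end Cfsg.Agent.Lib.CSP
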