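import Mathlib
import Cfsg.Agent.Lib.CSPa
import Cfsg.Agent.S3633
import Cfsg.Agent.Lib.CITRad3
import Cfsg.Agent.Lib.Cores

/-!
# Class sizes: the central quotient (helper69)
-/

set_option autoImplicit false
set_option linter.unusedSectionVars false

namespace Cfsg.Agent.Lib.CSP

open Subgroup

variable {G : Type*} [Group G] [Finite G] {A B D : ℕ}

theorem Sizes.card_quot (h : Sizes G A B D) : Nat.card (G ⧸ center G) = A * B * D := h.index_center

theorem ne_one_iff {g : G} : (QuotientGroup.mk g : G ⧸ center G) ≠ 1 ↔ g ∉ center G := by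
  rw [Ne, QuotientGroup.eq_one_iff]

theorem Sizes.orderOf_dvd (h : Sizes G A B D) (x : G ⧸ center G) :
    orderOf x ∣ A ∨ orderOf x ∣ B ∨ orderOf x ∣ D := by
  by_cases hx : x = 1
  · left; rw [hx, orderOf_one]; exact one_dvd _
  obtain ⟨g, rfl⟩ := QuotientGroup.mk_surjective x
  have hg := ne_one_iff.1 hx
  have h1 := orderOf_mk_dvd g
  rcases h.d_cases hg with h2 | h2 | h2 | h2
  · left; rw [← h2]; exact h1
  · right; left; rw [← h2]; exact h1
  · right; right; rw [← h2]; exact h1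
  · right; right; rw [← h2]; exact h1.mul_left _

theorem Sizes.not_adj (h : Sizes G A B D) {r s : ℕ} (hr : r.Prime) (hs : s.Prime)
    (hrs : (r ∣ A ∧ ¬ s ∣ A) ∨ (r ∣ B ∧ ¬ s ∣ B) ∨ (r ∣ D ∧ ¬ s ∣ D)) : ¬ ∃ x : G ⧸ center G, orderOf x = r * s := by
  rintro ⟨x, hx⟩
  have h1 := h.orderOf_dvd x
  rw [hx] at h1
  rcases h1 with h1 | h1 | h1
  · have ha : r ∣ A := (dvd_mul_right r s).trans h1
    have hb : s ∣ A := (dvd_mul_left s r).trans h1
    rcases hrs with h2 | h2 | h2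
    · exact h2.2 hb
    · exact hr.one_lt.ne' (Nat.eq_one_of_dvd_coprimes h.hAB ha h2.1)
    · exact hr.one_lt.ne' (Nat.eq_one_of_dvd_coprimes h.hAD ha h2.1)
  · have ha : r ∣ B := (dvd_mul_right r s).trans h1
    have hb : s ∣ B := (dvd_mul_left s r).trans h1
    rcases hrs with h2 | h2 | h2
    · exact hr.one_lt.ne' (Nat.eq_one_of_dvd_coprimes h.hAB h2.1 ha)
    · exact h2.2 hb
    · exact hr.one_lt.ne' (Nat.eq_one_of_dvd_coprimes h.hBD ha h2.1)
  · have ha : r ∣ D := (dvd_mul_right r s).trans h1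
    have hb : s ∣ D := (dvd_mul_left s r).trans h1
    rcases hrs with h2 | h2 | h2
    · exact hr.one_lt.ne' (Nat.eq_one_of_dvd_coprimes h.hAD h2.1 ha)
    · exact hr.one_lt.ne' (Nat.eq_one_of_dvd_coprimes h.hBD h2.1 ha)
    · exact h2.2 hb

theorem Sizes.not_solvable (h : Sizes G A B D) : ¬ Group.IsSolvable (G ⧸ center G) := by
  have hA := h.hA; have hB := h.hB; have hD := h.hD
  obtain ⟨r, hr, hrA⟩ := Nat.exists_prime_and_dvd (n := A) (by omega)
  obtain ⟨s, hs, hsB⟩ := Nat.exists_prime_and_dvd (n := B) (by omega)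
  obtain ⟨u, hu, huD⟩ := Nat.exists_prime_and_dvd (n := D) (by omega)
  have hrB : ¬ r ∣ B := fun h1 => hr.one_lt.ne' (Nat.eq_one_of_dvd_coprimes h.hAB hrA h1)
  have hrD : ¬ r ∣ D := fun h1 => hr.one_lt.ne' (Nat.eq_one_of_dvd_coprimes h.hAD hrA h1)
  have hsA : ¬ s ∣ A := fun h1 => hs.one_lt.ne' (Nat.eq_one_of_dvd_coprimes h.hAB h1 hsB)
  have hsD : ¬ s ∣ D := fun h1 => hs.one_lt.ne' (Nat.eq_one_of_dvd_coprimes h.hBD hsB h1)
  have huA : ¬ u ∣ A := fun h1 => hu.one_lt.ne' (Nat.eq_one_of_dvd_coprimes h.hAD h1 huD)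
  have huB : ¬ u ∣ B := fun h1 => hu.one_lt.ne' (Nat.eq_one_of_dvd_coprimes h.hBD h1 huD)
  have hrs : r ≠ s := by rintro rfl; exact hrB hsB
  have hru : r ≠ u := by rintro rfl; exact hrD huD
  have hsu : s ≠ u := by rintro rfl; exact hsD huD
  have hcard3 : 3 ≤ ({r, s, u} : Finset ℕ).card := by
    rw [Finset.card_insert_of_notMem (by simp [hrs, hru]), Finset.card_insert_of_notMem (by simpa using hsu),
      Finset.card_singleton]
  have n1 := h.not_adj hr hs (Or.inl ⟨hrA, hsA⟩)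
  have n2 := h.not_adj hr hu (Or.inl ⟨hrA, huA⟩)
  have n3 := h.not_adj hs hr (Or.inr (Or.inl ⟨hsB, hrB⟩))
  have n4 := h.not_adj hs hu (Or.inr (Or.inl ⟨hsB, huB⟩))
  have n5 := h.not_adj hu hr (Or.inr (Or.inr ⟨huD, hrD⟩))
  have n6 := h.not_adj hu hs (Or.inr (Or.inr ⟨huD, hsD⟩))
  have hc := h.card_quot
  refine (Cfsg.Agent.S3633.result (G := G ⧸ center G) ({r, s, u} : Finset ℕ) hcard3 ⟨?_, ?_⟩ ⊥ inferInstance).2
  · intro a ha
    simp only [Finset.mem_insert, Finset.mem_singleton] at ha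
    rw [hc]
    rcases ha with rfl | rfl | rfl
    · exact ⟨hr, (hrA.mul_right _).mul_right _⟩
    · exact ⟨hs, (hsB.mul_left _).mul_right _⟩
    · exact ⟨hu, huD.mul_left _⟩
  · intro a ha b hb hab
    simp only [Finset.mem_insert, Finset.mem_singleton] at ha hb
    rcases ha with rfl | rfl | rfl <;> rcases hb with rfl | rfl | rfl <;>
      first | exact absurd rfl hab | assumption

/-- centralizers of `r`-elements, `r ∣ A` -/
theorem Sizes.cent_A (h : Sizes G A B D) {r : ℕ} (hr : r.Prime) (hrA : r ∣ A) {x : G ⧸ center G} (hx : x ≠ 1)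
    (hxr : ∃ k, orderOf x = r ^ k) : Nat.card (centralizer ({x} : Set (G ⧸ center G))) = A := by
  obtain ⟨g, rfl⟩ := QuotientGroup.mk_surjective x
  have hg := ne_one_iff.1 hx
  obtain ⟨j, hj⟩ := card_cent_mk hr g hxr
  obtain ⟨k, hk⟩ := hxr
  have hrg : r ∣ d g := by
    refine dvd_trans ?_ (orderOf_mk_dvd g)
    rw [hk]
    refine dvd_pow_self r ?_
    rintro rfl
    rw [pow_zero, orderOf_eq_one_iff] at hk
    exact hx hk
  have hB0 : ¬ r ∣ B := fun h1 => hr.one_lt.ne' (Nat.eq_one_of_dvd_coprimes h.hAB hrA h1)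
  have hD0 : ¬ r ∣ D := fun h1 => hr.one_lt.ne' (Nat.eq_one_of_dvd_coprimes h.hAD hrA h1)
  have hdA : d g = A := by
    rcases h.d_cases hg with h2 | h2 | h2 | h2
    · exact h2
    · rw [h2] at hrg; exact absurd hrg hB0
    · rw [h2] at hrg; exact absurd hrg hD0
    · exact absurd (h2 ▸ hrg.mul_left 2) hD0
  have h3 : A * r ^ j ∣ A * (B * D) := by
    rw [← mul_assoc, ← h.card_quot, ← hdA, ← hj]
    exact Subgroup.card_subgroup_dvd_card _
  have hA := h.hA
  have h4 : r ^ j ∣ B * D := Nat.dvd_of_mul_dvd_mul_left (by omega) h3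
  have hj0 : j = 0 := by
    by_contra hj0
    have h5 := (dvd_pow_self r hj0).trans h4
    rcases (Nat.Prime.dvd_mul hr).1 h5 with h6 | h6
    · exact hB0 h6
    · exact hD0 h6
  rw [hj, hj0, pow_zero, mul_one, hdA]

/-- centralizers of involutions, `D` even -/
theorem Sizes.cent_D (h : Sizes G A B D) (hA2 : Odd A) (hB2 : Odd B) (hD2 : 2 ∣ D) {x : G ⧸ center G}
    (hx : orderOf x = 2) : Nat.card (centralizer ({x} : Set (G ⧸ center G))) ≤ D := by
  have hx1 : x ≠ 1 := by rintro rfl; rw [orderOf_one] at hx; omega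
  have hA := h.hA; have hB := h.hB; have hD := h.hD
  obtain ⟨g, rfl⟩ := QuotientGroup.mk_surjective x
  have hg := ne_one_iff.1 hx1
  obtain ⟨j, hj⟩ := card_cent_mk Nat.prime_two g ⟨1, by rw [hx, pow_one]⟩
  have hrg : 2 ∣ d g := by
    have := orderOf_mk_dvd g
    rwa [hx] at this
  have h0 : d g * 2 ^ j ∣ A * B * D := by
    rw [← h.card_quot, ← hj]
    exact Subgroup.card_subgroup_dvd_card _
  have hAB2 : ¬ 2 ∣ A * B := by
    rw [← even_iff_two_dvd, Nat.not_even_iff_odd]; exact hA2.mul hB2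
  rw [hj]
  rcases h.d_cases hg with h2 | h2 | h2 | h2
  · exfalso
    rw [h2, ← even_iff_two_dvd] at hrg
    exact (Nat.not_even_iff_odd.2 hA2) hrg
  · exfalso
    rw [h2, ← even_iff_two_dvd] at hrg
    exact (Nat.not_even_iff_odd.2 hB2) hrg
  · rw [h2, mul_comm D] at h0
    have h3 : 2 ^ j ∣ A * B := Nat.dvd_of_mul_dvd_mul_right (by omega) h0
    have hj0 : j = 0 := by
      by_contra hj0
      exact hAB2 ((dvd_pow_self 2 hj0).trans h3)
    rw [h2, hj0, pow_zero, mul_one]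
  · have hd0 : 0 < d g := by omega
    have h3 : 2 ^ j ∣ A * B * 2 := by
      apply Nat.dvd_of_mul_dvd_mul_left hd0
      have : d g * (A * B * 2) = A * B * D := by rw [← h2]; ring
      rw [this]; exact h0
    have hj1 : j ≤ 1 := by
      by_contra hj1
      have h4 : 2 ^ 2 ∣ A * B * 2 := (pow_dvd_pow 2 (by omega : 2 ≤ j)).trans h3
      exact hAB2 (Nat.dvd_of_mul_dvd_mul_right (by norm_num : 0 < 2) (by simpa [pow_two] using h4))
    have h5 : 2 ^ j ≤ 2 := by
      calc 2 ^ j ≤ 2 ^ 1 := Nat.pow_le_pow_right (by norm_num) hj1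
        _ = 2 := by norm_num
    calc d g * 2 ^ j ≤ d g * 2 := Nat.mul_le_mul_left _ h5
      _ = D := by rw [← h2]; ring

end Cfsg.Agent.Lib.CSP
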