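import Mathlib
import Cfsg.Agent.Lib.CITRad3
import Cfsg.Agent.Lib.Cores
import Cfsg.Agent.S0252
import Cfsg.Agent.S0253

/-!
# CIT groups of order `|PSL(2,q)|`, `q` even (helper69)
-/

set_option autoImplicit false
set_option linter.unusedSectionVars false

namespace Cfsg.Agent.Lib.CSPe

open Subgroup Cfsg Cfsg.Agent.Lib.CIT Cfsg.Agent.Lib.CITRad

theorem small_arith {q q' t : ℕ} (hq : q = 4 ∨ q = 8) (hq' : 2 ≤ q') (ht : Nat.gcd 2 (q' - 1) * t = q' * (q' ^ 2 - 1))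
    (h1 : t ∣ q * (q ^ 2 - 1)) (h2 : q ^ 2 - 1 ∣ t) : t = q * (q ^ 2 - 1) ∧ (q' = q ∨ (q' = 5 ∧ q = 4)) := by
  have h10 : q' ≤ 10 := by
    by_contra hcon
    have hg : Nat.gcd 2 (q' - 1) ≤ 2 := Nat.gcd_le_left _ (by norm_num)
    have ht2 : t ≤ 504 := by
      rcases hq with rfl | rfl
      · exact (Nat.le_of_dvd (by norm_num) h1).trans (by norm_num)
      · exact (Nat.le_of_dvd (by norm_num) h1).trans (by norm_num)
    have h3 : q' * (q' ^ 2 - 1) ≤ 2 * 504 := by rw [← ht]; exact Nat.mul_le_mul hg ht2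
    have h4 : 11 * (11 ^ 2 - 1) ≤ q' * (q' ^ 2 - 1) := by
      apply Nat.mul_le_mul (by omega)
      apply Nat.sub_le_sub_right
      exact Nat.pow_le_pow_left (by omega) 2
    omega
  rcases hq with rfl | rfl
  · norm_num at h1 h2 ⊢
    obtain ⟨k, hk⟩ := h2
    have hk4 : k ≤ 4 := by
      have := Nat.le_of_dvd (by norm_num) h1
      omega
    interval_cases q' <;> simp at ht <;> interval_cases k <;> omega
  · norm_num at h1 h2 ⊢
    obtain ⟨k, hk⟩ := h2
    have hk4 : k ≤ 8 := by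
      have := Nat.le_of_dvd (by norm_num) h1
      omega
    interval_cases q' <;> simp at ht <;> interval_cases k <;> omega

theorem small {X : Type*} [Group X] [Finite X] (h : IsCIT X) (hns : ¬ Group.IsSolvable X)
    (hO2 : Cfsg.pCore 2 X = ⊥) {q : ℕ} (hq : q = 4 ∨ q = 8) (h1 : Nat.card X ∣ q * (q ^ 2 - 1))
    (h2 : q ^ 2 - 1 ∣ Nat.card X) :
    ∃ (F : Type) (_ : Field F) (_ : Fintype F), Fintype.card F = q ∧
      Nonempty (X ≃* Matrix.ProjectiveSpecialLinearGroup (Fin 2) F) := by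
  have h2f : Fact (Nat.Prime 2) := ⟨Nat.prime_two⟩
  obtain ⟨T, hTn, hTs, hna, hCT, z, hz, hz2⟩ := exists_simple h hns hO2
  have hTX : Nat.card T ∣ Nat.card X := Subgroup.card_subgroup_dvd_card T
  have hT504 : Nat.card T ≤ 504 := by
    have h3 := hTX.trans h1
    rcases hq with rfl | rfl
    · exact (Nat.le_of_dvd (by norm_num) h3).trans (by norm_num)
    · exact (Nat.le_of_dvd (by norm_num) h3).trans (by norm_num)
  rcases CIT.main hna (h.subgroup T) with ⟨F, i1, i2, -, ⟨e⟩⟩ | ⟨F, i1, i2, hF, ⟨e⟩⟩ | ⟨-, k, hk, hcard⟩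
  · have hqt : IsPGroup 2 (X ⧸ T) := by
      refine quot_two_group h hz hz2 (fun w hw hw2 => ?_)
      obtain ⟨m, hm⟩ := conj_psl2 e (z := ⟨z, hz⟩) (w := ⟨w, hw⟩) (by rw [← hz2, ← orderOf_coe])
        (by rw [← hw2, ← orderOf_coe])
      exact ⟨m, m.2, congrArg Subtype.val hm⟩
    obtain ⟨a, ha⟩ := IsPGroup.iff_card.1 hqt
    have hXT := Subgroup.card_eq_card_quotient_mul_card_subgroup T
    have hq2 : (q ^ 2 - 1).Coprime (2 ^ a) := by
      apply Nat.Coprime.pow_right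
      rcases hq with rfl | rfl <;> norm_num
    have h3 : q ^ 2 - 1 ∣ Nat.card T := by
      rw [hXT, ha] at h2
      exact hq2.dvd_of_dvd_mul_left h2
    have h4 := card_psl2 (F := F) (q := Fintype.card F) rfl
    rw [← Nat.card_congr e.toEquiv] at h4
    obtain ⟨h5, h6⟩ := small_arith hq Fintype.one_lt_card h4 (hTX.trans h1) h3
    have h7 : T = ⊤ := by
      apply Subgroup.eq_top_of_card_eq
      apply le_antisymm (Nat.le_of_dvd Nat.card_pos hTX)
      rw [h5]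
      exact Nat.le_of_dvd (by rcases hq with rfl | rfl <;> norm_num) h1
    have e2 : X ≃* Matrix.ProjectiveSpecialLinearGroup (Fin 2) F :=
      (Subgroup.topEquiv.symm.trans (MulEquiv.subgroupCongr h7.symm)).trans e
    rcases h6 with h6 | ⟨h6, rfl⟩
    · exact ⟨F, i1, i2, h6, ⟨e2⟩⟩
    · obtain ⟨e3⟩ := Cfsg.Agent.S0253.result (F := F) h6
      have hF4 : Nat.card (GaloisField 2 2) = 4 := by
        rw [GaloisField.card 2 2 (by norm_num)]; norm_num
      let _ : Fintype (GaloisField 2 2) := Fintype.ofFinite _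
      have hF4' : Fintype.card (GaloisField 2 2) = 4 := by rw [← Nat.card_eq_fintype_card, hF4]
      obtain ⟨e4⟩ := Cfsg.Agent.S0252.result (F := GaloisField 2 2) hF4'
      exact ⟨GaloisField 2 2, inferInstance, inferInstance, hF4', ⟨(e2.trans e3).trans e4.symm⟩⟩
  · exfalso
    rw [Nat.card_congr e.toEquiv, card_psl3 hF] at hT504
    omega
  · exfalso
    have h8 : 8 ≤ 2 ^ (2 * k + 1) := by
      have : 2 ^ 3 ≤ 2 ^ (2 * k + 1) := Nat.pow_le_pow_right (by norm_num) (by omega)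
      omega
    rw [hcard] at hT504
    have h9 : 8 ^ 2 * (8 ^ 2 + 1) * (8 - 1) ≤ (2 ^ (2 * k + 1)) ^ 2 * ((2 ^ (2 * k + 1)) ^ 2 + 1) * (2 ^ (2 * k + 1) - 1) := by
      have h10 := Nat.pow_le_pow_left h8 2
      exact Nat.mul_le_mul (Nat.mul_le_mul h10 (by omega)) (by omega)
    omega

/-- CIT groups with the order of `PSL(2, 2^f)` -/
theorem main {H : Type*} [Group H] [Finite H] (h : IsCIT H) (hns : ¬ Group.IsSolvable H) {f : ℕ} (hf : 2 ≤ f)
    (hcard : Nat.card H = 2 ^ f * ((2 ^ f) ^ 2 - 1)) :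
    ∃ (F : Type) (_ : Field F) (_ : Fintype F), Fintype.card F = 2 ^ f ∧
      Nonempty (H ≃* Matrix.ProjectiveSpecialLinearGroup (Fin 2) F) := by
  have h2f : Fact (Nat.Prime 2) := ⟨Nat.prime_two⟩
  have hN : IsPGroup 2 (Cfsg.pCore 2 H) := Fitting.isPGroup_pCore 2
  have hNn : (Cfsg.pCore 2 H).Normal := Fitting.normal_pCore 2
  have hX := h.quotient (Cfsg.pCore 2 H) hN
  have hXs : ¬ Group.IsSolvable (H ⧸ Cfsg.pCore 2 H) := by
    intro h1
    have : Group.IsNilpotent (Cfsg.pCore 2 H) := hN.isNilpotent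
    exact hns (isSolvable_of_quot inferInstance h1)
  have hXO : Cfsg.pCore 2 (H ⧸ Cfsg.pCore 2 H) = ⊥ := Cores.pCore_quotient_pCore 2 _
  obtain ⟨k, hk⟩ := IsPGroup.iff_card.1 hN
  have hHX := Subgroup.card_eq_card_quotient_mul_card_subgroup (Cfsg.pCore 2 H)
  have hodd : Odd ((2 ^ f) ^ 2 - 1) := by
    rw [← pow_mul]; exact CITRadN.odd_pow_sub (by omega)
  have hcop : ((2 ^ f) ^ 2 - 1).Coprime (2 ^ k) := (Nat.coprime_two_right.2 hodd).pow_right k
  have hdvd : (2 ^ f) ^ 2 - 1 ∣ Nat.card (H ⧸ Cfsg.pCore 2 H) := by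
    have h1 : (2 ^ f) ^ 2 - 1 ∣ Nat.card (H ⧸ Cfsg.pCore 2 H) * 2 ^ k := by
      rw [← hk, ← hHX, hcard]; exact dvd_mul_left _ _
    exact hcop.dvd_of_dvd_mul_right h1
  have hXH : Nat.card (H ⧸ Cfsg.pCore 2 H) ∣ 2 ^ f * ((2 ^ f) ^ 2 - 1) := by
    rw [← hcard, hHX]; exact dvd_mul_right _ _
  have main' : ∃ (F : Type) (_ : Field F) (_ : Fintype F), Fintype.card F = 2 ^ f ∧
      Nonempty ((H ⧸ Cfsg.pCore 2 H) ≃* Matrix.ProjectiveSpecialLinearGroup (Fin 2) F) := by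
    by_cases hf4 : 4 ≤ f
    · refine core hX hXs hXO hf4 (fun ℓ hℓ hℓ2 => ?_)
      rw [show 2 ^ (2 * f) - 1 = (2 ^ f) ^ 2 - 1 by rw [← pow_mul, mul_comm f 2]]
      refine ⟨fun h1 => ?_, fun h1 => h1.trans hdvd⟩
      rcases hℓ.dvd_mul.1 (h1.trans hXH) with h3 | h3
      · exact absurd h3 (CITRadN.prime_not_dvd_two_pow hℓ hℓ2 _)
      · exact h3
    · have hf' : (2 : ℕ) ^ f = 4 ∨ (2 : ℕ) ^ f = 8 := by
        have : f = 2 ∨ f = 3 := by omega
        rcases this with rfl | rfl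
        · left; norm_num
        · right; norm_num
      exact small hX hXs hXO hf' hXH hdvd
  obtain ⟨F, i1, i2, hF, ⟨e⟩⟩ := main'
  refine ⟨F, i1, i2, hF, ?_⟩
  have h3 : Nat.card (H ⧸ Cfsg.pCore 2 H) = Nat.card H := by
    rw [hcard, Nat.card_congr e.toEquiv, ← card_psl2 hF]
    have : Nat.gcd 2 (2 ^ f - 1) = 1 := Nat.coprime_two_left.2 (CITRadN.odd_pow_sub (by omega))
    rw [this, one_mul]
  have h4 : Cfsg.pCore 2 H = ⊥ := by
    rw [← Subgroup.card_eq_one]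
    rw [h3] at hHX
    have : 0 < Nat.card H := Nat.card_pos
    exact (Nat.eq_of_mul_eq_mul_left this (by rw [mul_one]; exact hHX)).symm
  exact ⟨((QuotientGroup.quotientMulEquivOfEq h4).trans QuotientGroup.quotientBot).symm.trans e⟩

end Cfsg.Agent.Lib.CSPe
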