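import Cfsg.Agent.Lib.PConstraint

/-!
# `p`-stability and the quotient by `O_{p'}(G)`
-/
set_option autoImplicit false

namespace Cfsg.Agent.Lib.PStableQuot

open Subgroup Cfsg.Agent.Lib.Cores Cfsg.Agent.Lib.RelSylow Cfsg.Agent.Lib.PConstraint
open scoped commutatorElement Pointwise

universe u v

variable {G : Type u} [Group G] {p : ℕ}

theorem stab_iff (P A : Subgroup G) :
    ((A.subgroupOf (normalizer (P : Set G))).map
          (QuotientGroup.mk' ((centralizer (P : Set G)).subgroupOf (normalizer (P : Set G)))) ≤ pCore p _) ↔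
      ∃ D : Subgroup G, centralizer (P : Set G) ≤ D ∧ D ≤ normalizer (P : Set G) ∧
        (∀ g ∈ normalizer (P : Set G), ∀ d ∈ D, g * d * g⁻¹ ∈ D) ∧ A ⊓ normalizer (P : Set G) ≤ D ∧
        ∀ d ∈ D, ∃ k : ℕ, d ^ p ^ k ∈ centralizer (P : Set G) := by
  constructor
  · intro h
    refine ⟨((pCore p (normalizer (P : Set G) ⧸
      (centralizer (P : Set G)).subgroupOf (normalizer (P : Set G)))).comap (QuotientGroup.mk' _)).map
        (normalizer (P : Set G)).subtype, ?_, map_subtype_le _, ?_, ?_, ?_⟩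
    · intro x hx
      refine ⟨⟨x, centralizer_le_normalizer _ hx⟩, ?_, rfl⟩
      rw [SetLike.mem_coe, mem_comap]
      have h1 : QuotientGroup.mk' ((centralizer (P : Set G)).subgroupOf (normalizer (P : Set G)))
        ⟨x, centralizer_le_normalizer _ hx⟩ = 1 := (QuotientGroup.eq_one_iff _).2 hx
      rw [h1]
      exact one_mem _
    · rintro g hg _ ⟨d, hd, rfl⟩
      refine ⟨⟨g, hg⟩ * d * ⟨g, hg⟩⁻¹, ?_, rfl⟩
      exact Normal.conj_mem inferInstance d hd _
    · rintro a ⟨ha, haN⟩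
      exact ⟨⟨a, haN⟩, h ⟨⟨a, haN⟩, ha, rfl⟩, rfl⟩
    · rintro _ ⟨d, hd, rfl⟩
      obtain ⟨k, hk⟩ := isPGroup_pCore p _ ⟨_, hd⟩
      refine ⟨k, ?_⟩
      have h1 := congrArg Subtype.val hk
      have h2 : QuotientGroup.mk' ((centralizer (P : Set G)).subgroupOf (normalizer (P : Set G)))
        (d ^ p ^ k) = 1 := by rw [map_pow]; exact h1
      exact (QuotientGroup.eq_one_iff (N := (centralizer (P : Set G)).subgroupOf (normalizer (P : Set G)))
        (d ^ p ^ k)).1 h2
  · rintro ⟨D, hCD, hDN, hconj, hAD, hpow⟩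
    have h1 : (D.subgroupOf (normalizer (P : Set G))).map
          (QuotientGroup.mk' ((centralizer (P : Set G)).subgroupOf (normalizer (P : Set G)))) ≤ pCore p _ := by
      apply le_pCore
      · apply Normal.map _ _ (QuotientGroup.mk'_surjective _)
        refine ⟨fun d hd g => ?_⟩
        exact hconj g g.2 d hd
      · rintro ⟨_, d, hd, rfl⟩
        obtain ⟨k, hk⟩ := hpow d hd
        refine ⟨k, ?_⟩
        apply Subtype.ext
        show (QuotientGroup.mk' ((centralizer (P : Set G)).subgroupOf (normalizer (P : Set G))) d) ^ p ^ k = 1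
        rw [← map_pow]
        exact (QuotientGroup.eq_one_iff _).2 hk
    refine le_trans (map_mono ?_) h1
    intro x hx
    exact hAD ⟨hx, x.2⟩

/-- pushing a pair `(P, A)` to the quotient -/
theorem stab_map [Finite G] [hp : Fact p.Prime] {N P A : Subgroup G} [N.Normal]
    (hN : ¬ p ∣ Nat.card N) (hP : IsPGroup p P) (hA : A ≤ normalizer (P : Set G)) :
    (∃ D : Subgroup G, centralizer (P : Set G) ≤ D ∧ D ≤ normalizer (P : Set G) ∧
        (∀ g ∈ normalizer (P : Set G), ∀ d ∈ D, g * d * g⁻¹ ∈ D) ∧ A ⊓ normalizer (P : Set G) ≤ D ∧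
        ∀ d ∈ D, ∃ k : ℕ, d ^ p ^ k ∈ centralizer (P : Set G)) ↔
    (∃ D : Subgroup (G ⧸ N), centralizer ((P.map (QuotientGroup.mk' N) : Subgroup (G ⧸ N)) : Set (G ⧸ N)) ≤ D ∧
        D ≤ normalizer ((P.map (QuotientGroup.mk' N) : Subgroup (G ⧸ N)) : Set (G ⧸ N)) ∧
        (∀ g ∈ normalizer ((P.map (QuotientGroup.mk' N) : Subgroup (G ⧸ N)) : Set (G ⧸ N)), ∀ d ∈ D,
          g * d * g⁻¹ ∈ D) ∧
        A.map (QuotientGroup.mk' N) ⊓
          normalizer ((P.map (QuotientGroup.mk' N) : Subgroup (G ⧸ N)) : Set (G ⧸ N)) ≤ D ∧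
        ∀ d ∈ D, ∃ k : ℕ, d ^ p ^ k ∈
          centralizer ((P.map (QuotientGroup.mk' N) : Subgroup (G ⧸ N)) : Set (G ⧸ N))) := by
  have hmc := map_centralizer_eq hN hP
  have hmn := map_normalizer_eq hN hP
  constructor
  · rintro ⟨D, hCD, hDN, hconj, hAD, hpow⟩
    refine ⟨D.map (QuotientGroup.mk' N), ?_, ?_, ?_, ?_, ?_⟩
    · rw [← hmc]; exact map_mono hCD
    · rw [← hmn]; exact map_mono hDN
    · intro g hg d hd
      rw [← hmn] at hg
      obtain ⟨g, hg, rfl⟩ := hg
      obtain ⟨d, hd, rfl⟩ := hd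
      exact ⟨g * d * g⁻¹, hconj g hg d hd, by simp⟩
    · refine inf_le_left.trans (map_mono ?_)
      exact (le_inf le_rfl hA).trans hAD
    · rintro _ ⟨d, hd, rfl⟩
      obtain ⟨k, hk⟩ := hpow d hd
      refine ⟨k, ?_⟩
      rw [← hmc]
      exact ⟨_, hk, by simp⟩
  · rintro ⟨D, hCD, hDN, hconj, hAD, hpow⟩
    refine ⟨D.comap (QuotientGroup.mk' N) ⊓ normalizer (P : Set G), ?_, inf_le_right, ?_, ?_, ?_⟩
    · refine le_inf ?_ (centralizer_le_normalizer _)
      rw [← map_le_iff_le_comap, hmc]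
      exact hCD
    · intro g hg d hd
      rw [mem_inf] at hd ⊢
      refine ⟨?_, mul_mem (mul_mem hg hd.2) (inv_mem hg)⟩
      rw [mem_comap]
      simp only [map_mul, map_inv]
      refine hconj _ ?_ _ hd.1
      rw [← hmn]
      exact ⟨g, hg, rfl⟩
    · refine le_inf ?_ inf_le_right
      refine inf_le_left.trans ?_
      rw [← map_le_iff_le_comap]
      refine le_trans (le_inf le_rfl ?_) hAD
      rw [← hmn]
      exact map_mono hA
    · rintro d ⟨hd, hd2⟩
      obtain ⟨k, hk⟩ := hpow _ hd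
      refine ⟨k, ?_⟩
      rw [mem_centralizer_iff]
      intro y hy
      have h1 : d ^ p ^ k ∈ normalizer (P : Set G) := pow_mem hd2 _
      have h2 : y * d ^ p ^ k * y⁻¹ * (d ^ p ^ k)⁻¹ ∈ P := by
        rw [mul_assoc, mul_assoc, ← mul_assoc (d ^ p ^ k)]
        exact P.mul_mem hy ((mem_normalizer_iff.1 h1 y⁻¹).1 (P.inv_mem hy))
      have h3 : y * d ^ p ^ k * y⁻¹ * (d ^ p ^ k)⁻¹ ∈ N := by
        rw [← QuotientGroup.ker_mk' N, MonoidHom.mem_ker]
        simp only [map_mul, map_inv, map_pow]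
        have h4 := mem_centralizer_iff.1 hk (QuotientGroup.mk' N y) ⟨y, hy, rfl⟩
        rw [h4]
        simp
      have h5 := eq_one_of_mem hN hP h3 h2
      rw [mul_inv_eq_one, mul_inv_eq_iff_eq_mul] at h5
      exact h5

theorem commutator_map_eq_bot_iff [Finite G] [hp : Fact p.Prime] {N P A : Subgroup G} [N.Normal]
    (hN : ¬ p ∣ Nat.card N) (hP : IsPGroup p P) (hA : A ≤ normalizer (P : Set G)) :
    ⁅⁅P.map (QuotientGroup.mk' N), A.map (QuotientGroup.mk' N)⁆, A.map (QuotientGroup.mk' N)⁆ = ⊥ ↔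
      ⁅⁅P, A⁆, A⁆ = ⊥ := by
  rw [← map_commutator, ← map_commutator, Subgroup.map_eq_bot_iff, QuotientGroup.ker_mk']
  constructor
  · intro h
    have h1 : ⁅P, A⁆ ≤ P := le_normalizer_iff_commutator_le_left.mp hA
    have h2 : ⁅⁅P, A⁆, A⁆ ≤ P := (commutator_mono h1 le_rfl).trans h1
    rw [eq_bot_iff]
    intro x hx
    exact eq_one_of_mem hN hP (h hx) (h2 hx)
  · intro h
    rw [h]; exact bot_le

theorem le_normalizer_of_forall {A P : Subgroup G} (h : ∀ a ∈ A, ∀ x ∈ P, a * x * a⁻¹ ∈ P) :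
    A ≤ normalizer (P : Set G) := by
  intro a ha
  rw [mem_normalizer_iff]
  intro x
  refine ⟨h a ha x, fun hx => ?_⟩
  have := h a⁻¹ (inv_mem ha) _ hx
  simpa [mul_assoc] using this

/-- S0632 -/
theorem isPStable_iff_quotient [Finite G] [hp : Fact p.Prime] (hO : pCore p G ≠ ⊥) :
    IsPStable p G ↔ IsPStable p (G ⧸ pPrimeCore p G) := by
  have hN : ¬ p ∣ Nat.card (pPrimeCore p G) := not_dvd_card_pPrimeCore
  have hbot : pPrimeCore p (G ⧸ pPrimeCore p G) = ⊥ := pPrimeCore_quotient_pPrimeCore p G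
  constructor
  · rintro ⟨hodd, _, hst⟩
    refine ⟨hodd, ?_, ?_⟩
    · intro h
      have h1 := map_pCore_le (QuotientGroup.mk' (pPrimeCore p G)) (QuotientGroup.mk'_surjective _) (p := p)
      rw [h, le_bot_iff, Subgroup.map_eq_bot_iff, QuotientGroup.ker_mk'] at h1
      apply hO
      rw [← pCore_inf_pPrimeCore (p := p) (G := G)]
      exact (inf_eq_left.2 h1).symm
    · intro A' P' hA' hP' hAP' hP'le hP'n hcomm'
      rw [hbot, bot_sup_eq] at hP'n
      have hAN' : A' ≤ normalizer (P' : Set (G ⧸ pPrimeCore p G)) := le_normalizer_of_forall hAP'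
      obtain ⟨P, hP⟩ := exists_syl p (P'.comap (QuotientGroup.mk' (pPrimeCore p G)))
      have hmapcomap : ∀ K : Subgroup (G ⧸ pPrimeCore p G),
          (K.comap (QuotientGroup.mk' (pPrimeCore p G))).map (QuotientGroup.mk' (pPrimeCore p G)) = K :=
        fun K => map_comap_eq_self_of_surjective (QuotientGroup.mk'_surjective _) K
      have hPmap : P.map (QuotientGroup.mk' (pPrimeCore p G)) = P' := by
        have h1 := hP.map (QuotientGroup.mk' (pPrimeCore p G))
        rw [hmapcomap] at h1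
        exact IsSyl_eq_of_isPGroup h1 hP'
      have hLn : (P'.comap (QuotientGroup.mk' (pPrimeCore p G))).Normal := hP'n.comap _
      set X := (A' ⊔ P').comap (QuotientGroup.mk' (pPrimeCore p G)) with hX
      have hLX : P'.comap (QuotientGroup.mk' (pPrimeCore p G)) ≤ X := comap_mono le_sup_right
      have hXn : X ≤ normalizer (P'.comap (QuotientGroup.mk' (pPrimeCore p G)) : Set G) := by
        rw [normalizer_eq_top]; exact le_top
      have hfr := hP.frattini_sup hLX hXn
      set Y := X ⊓ normalizer (P : Set G) with hY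
      have hPY : P ≤ Y := le_inf (hP.1.trans hLX) le_normalizer
      have hYmap : Y.map (QuotientGroup.mk' (pPrimeCore p G)) = A' ⊔ P' := by
        have h1 := congrArg (Subgroup.map (QuotientGroup.mk' (pPrimeCore p G))) hfr
        rw [Subgroup.map_sup, hmapcomap, hX, hmapcomap] at h1
        rw [← h1, eq_comm, sup_eq_right, ← hPmap]
        exact map_mono hPY
      have hAPp : IsPGroup p (A' ⊔ P' : Subgroup (G ⧸ pPrimeCore p G)) :=
        IsPGroup.to_sup_of_normal_right hA' hP'
      obtain ⟨S, hS⟩ := exists_syl p Y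
      have hSmap : S.map (QuotientGroup.mk' (pPrimeCore p G)) = A' ⊔ P' := by
        have h1 := hS.map (QuotientGroup.mk' (pPrimeCore p G))
        rw [hYmap] at h1
        exact IsSyl_eq_of_isPGroup h1 hAPp
      set A := S ⊓ A'.comap (QuotientGroup.mk' (pPrimeCore p G)) with hA
      have hAmap : A.map (QuotientGroup.mk' (pPrimeCore p G)) = A' := by
        apply le_antisymm
        · rw [map_le_iff_le_comap]; exact inf_le_right
        · intro a ha
          have h1 : a ∈ S.map (QuotientGroup.mk' (pPrimeCore p G)) := by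
            rw [hSmap]; exact mem_sup_left ha
          obtain ⟨s, hs, rfl⟩ := h1
          exact ⟨s, ⟨hs, ha⟩, rfl⟩
      have hAp : IsPGroup p A := hS.2.1.to_le inf_le_left
      have hAN : A ≤ normalizer (P : Set G) := inf_le_left.trans (hS.1.trans inf_le_right)
      have h2 : P ≤ pPrimePCore p G := by
        refine hP.1.trans ?_
        apply comap_mono
        exact le_pCore hP'n hP'
      have h3 : (pPrimeCore p G ⊔ P).Normal := by
        have h4 : pPrimeCore p G ⊔ P = P'.comap (QuotientGroup.mk' (pPrimeCore p G)) := by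
          rw [← hPmap, comap_map_eq, QuotientGroup.ker_mk', sup_comm]
        rw [h4]; exact hLn
      have h5 : ⁅⁅P, A⁆, A⁆ = ⊥ := by
        rw [← commutator_map_eq_bot_iff hN hP.2.1 hAN, hPmap, hAmap]
        exact hcomm'
      have h6 := hst A P hAp hP.2.1 (fun a ha x hx => (mem_normalizer_iff.1 (hAN ha) x).1 hx) h2 h3 h5
      rw [stab_iff, stab_map hN hP.2.1 hAN, hPmap, hAmap, ← stab_iff] at h6
      exact h6
  · rintro ⟨hodd, _, hst⟩
    refine ⟨hodd, hO, ?_⟩
    intro A P hA hP hAP hPle hPn hcomm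
    have hAN : A ≤ normalizer (P : Set G) := le_normalizer_of_forall hAP
    rw [stab_iff, stab_map hN hP hAN, ← stab_iff]
    apply hst
    · exact hA.map _
    · exact hP.map _
    · rintro _ ⟨a, ha, rfl⟩ _ ⟨x, hx, rfl⟩
      exact ⟨a * x * a⁻¹, hAP a ha x hx, by simp⟩
    · refine le_trans ?_ (pCore_le_pPrimePCore p _)
      rw [← map_pPrimePCore]
      exact map_mono hPle
    · rw [hbot, bot_sup_eq]
      have h1 : P.map (QuotientGroup.mk' (pPrimeCore p G)) =
          (pPrimeCore p G ⊔ P).map (QuotientGroup.mk' (pPrimeCore p G)) := by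
        rw [Subgroup.map_sup, QuotientGroup.map_mk'_self, bot_sup_eq]
      rw [h1]
      exact hPn.map _ (QuotientGroup.mk'_surjective _)
    · rw [commutator_map_eq_bot_iff hN hP hAN]
      exact hcomm

end Cfsg.Agent.Lib.PStableQuot
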