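import Mathlib
import Cfsg.Agent.Lib.ConstrainedLocal
import Cfsg.Agent.Lib.Fitting
import Cfsg.Agent.Lib.SylowRel
import Cfsg.Agent.Lib.ZJLocal
import Cfsg.Agent.S0657
import Cfsg.Agent.S0632
import Cfsg.Agent.S0658

/-!
# Groups in which the centralizers of the `p`-elements are Sylow subgroups: `P` is abelian (helper69)
-/

set_option autoImplicit false
set_option linter.unusedSectionVars false

namespace Cfsg.Agent.Lib.CSPo

open Subgroup Cfsg Cfsg.Agent.Lib.SylowRel

theorem sl2_orderOf (p : ℕ) [hp : Fact p.Prime] (hp2 : p ≠ 2) :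
    ∃ x : Matrix.SpecialLinearGroup (Fin 2) (ZMod p), orderOf x = 2 * p := by
  have hp' := hp.out
  let u : Matrix.SpecialLinearGroup (Fin 2) (ZMod p) := ⟨!![1, 1; 0, 1], by simp⟩
  have hu : ∀ k : ℕ, ((u ^ k : Matrix.SpecialLinearGroup (Fin 2) (ZMod p)) : Matrix (Fin 2) (Fin 2) (ZMod p)) =
      !![1, (k : ZMod p); 0, 1] := by
    intro k
    induction k with
    | zero => simp [Matrix.one_fin_two]
    | succ k ih =>
      rw [pow_succ, Matrix.SpecialLinearGroup.coe_mul, ih]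
      simp [u, add_comm]
  have h1 : orderOf u = p := by
    refine orderOf_eq_prime ?_ ?_
    · apply Subtype.ext
      rw [hu]; simp [Matrix.one_fin_two]
    · intro h
      have := congrArg (fun x : Matrix.SpecialLinearGroup (Fin 2) (ZMod p) => (x : Matrix (Fin 2) (Fin 2) (ZMod p)) 0 1) h
      simp [u] at this
  have hne : (-1 : Matrix.SpecialLinearGroup (Fin 2) (ZMod p)) ≠ 1 := by
    intro h
    have h2 := congrArg (fun x : Matrix.SpecialLinearGroup (Fin 2) (ZMod p) => (x : Matrix (Fin 2) (Fin 2) (ZMod p)) 0 0) h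
    simp at h2
    have h3 : (2 : ZMod p) = 0 := by
      have : (1 : ZMod p) + 1 = 0 := by
        nth_rewrite 1 [← h2]; ring
      rw [← this]; norm_num
    have h4 : ((2 : ℕ) : ZMod p) = 0 := by exact_mod_cast h3
    rw [ZMod.natCast_eq_zero_iff] at h4
    exact hp2 ((Nat.prime_dvd_prime_iff_eq hp' Nat.prime_two).1 h4)
  have h2 : orderOf (-1 : Matrix.SpecialLinearGroup (Fin 2) (ZMod p)) = 2 := by
    refine orderOf_eq_prime ?_ hne
    rw [pow_two]; simp
  have hc : Commute (-1 : Matrix.SpecialLinearGroup (Fin 2) (ZMod p)) u := by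
    show -1 * u = u * -1
    simp
  refine ⟨-1 * u, ?_⟩
  rw [hc.orderOf_mul_eq_mul_orderOf_of_coprime, h1, h2]
  rw [h1, h2]
  exact (Nat.coprime_primes Nat.prime_two hp').2 (Ne.symm hp2)

variable {H : Type*} [Group H] [Finite H] {p q : ℕ}

/-- `p`-elements have centralizers of order `q = p^f` -/
theorem zj (hp : p.Prime) (hp2 : p ≠ 2) {f : ℕ} (hq : q = p ^ f)
    (hC : ∀ x : H, x ≠ 1 → (∃ k, orderOf x = p ^ k) → Nat.card (centralizer ({x} : Set H)) = q)
    (h2p : ¬ ∃ x : H, orderOf x = 2 * p) (P : Sylow p H) (Q : Subgroup H)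
    (hQP : Q ≤ (P : Subgroup H)) (hQ1 : Q ≠ ⊥) :
    normalizer (Q : Set H) ≤ normalizer (Cfsg.centerThompsonAOf (P : Subgroup H) : Set H) := by
  have hpf : Fact p.Prime := ⟨hp⟩
  refine Cfsg.Agent.S0658.result hp2 ?_ P Q hQP hQ1
  intro Q hQ hQ1
  have hCp : ∀ x ∈ Q, x ≠ 1 → IsPGroup p (centralizer ({x} : Set H)) := by
    intro x hx hx1
    obtain ⟨k, hk⟩ := hQ ⟨x, hx⟩
    have hk1 : x ^ p ^ k = 1 := by simpa using congrArg Subtype.val hk
    obtain ⟨j, -, hj⟩ := (Nat.dvd_prime_pow hp).1 (orderOf_dvd_of_pow_eq_one hk1)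
    exact IsPGroup.of_card (n := f) (by rw [hC x hx1 ⟨j, hj⟩, hq])
  set N := normalizer (Q : Set H) with hN
  obtain ⟨x, hx, hx1⟩ : ∃ x ∈ Q, x ≠ 1 := by
    by_contra hcon
    push Not at hcon
    exact hQ1 ((Subgroup.eq_bot_iff_forall _).2 hcon)
  have hQN : Q ≤ N := le_normalizer
  have hQ'n : (Q.subgroupOf N).Normal := Subgroup.normal_in_normalizer
  have hQ'p : IsPGroup p (Q.subgroupOf N) := by
    refine hQ.of_injective (Subgroup.subgroupOfEquivOfLe hQN).toMonoidHom ?_
    exact (Subgroup.subgroupOfEquivOfLe hQN).injective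
  have hQle : Q.subgroupOf N ≤ pCore p N := Fitting.le_pCore p hQ'n hQ'p
  have hxO : (⟨x, hQN hx⟩ : N) ∈ pCore p N := hQle (by rw [mem_subgroupOf]; exact hx)
  have hcent : centralizer (pCore p N : Set N) ≤ pCore p N := by
    have hn : (pCore p N).Normal := Fitting.normal_pCore p
    refine Fitting.le_pCore p inferInstance ?_
    intro y
    have hy := (mem_centralizer_iff.1 y.2) _ hxO
    have h1 : ((y : N) : H) ∈ centralizer ({x} : Set H) := by
      rw [mem_centralizer_singleton_iff]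
      exact (congrArg Subtype.val hy).symm
    obtain ⟨k, hk⟩ := hCp x hx hx1 ⟨_, h1⟩
    refine ⟨k, ?_⟩
    apply Subtype.ext; apply Subtype.ext
    simpa using congrArg Subtype.val hk
  have hchar := (ConstrainedLocal.charP_iff (p := p) (G := N)).1 hcent
  refine ⟨hchar.1, hchar.2, ?_⟩
  have hO : pCore p N ≠ ⊥ := by
    intro h0
    rw [h0, mem_bot] at hxO
    exact hx1 (congrArg Subtype.val hxO)
  rw [Cfsg.Agent.S0632.result hO]
  by_contra hns
  have hlt : Cfsg.pPrimeCore p N < Cfsg.pPrimePCore p N := by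
    rw [hchar.1]
    apply bot_lt_iff_ne_bot.2
    intro h0
    have h1 : pCore p N ≤ Cfsg.pPrimePCore p N := by
      intro y hy
      unfold Cfsg.pPrimePCore
      rw [mem_comap]
      have hnn : ((pCore p N).map (QuotientGroup.mk' (Cfsg.pPrimeCore p N))).Normal :=
        (Fitting.normal_pCore p).map _ (QuotientGroup.mk'_surjective _)
      exact Fitting.le_pCore p hnn ((Fitting.isPGroup_pCore p).map _) (mem_map_of_mem _ hy)
    rw [h0] at h1
    exact hO (le_bot_iff.1 h1)
  obtain ⟨K, L, hL, -, ⟨e⟩⟩ := Cfsg.Agent.S0657.result hp2 hlt hns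
  obtain ⟨s, hs⟩ := sl2_orderOf p hp2
  obtain ⟨k, hk⟩ := QuotientGroup.mk_surjective (e.symm s)
  have h1 : orderOf (QuotientGroup.mk k : K ⧸ L.subgroupOf K) = 2 * p := by
    rw [hk, MulEquiv.orderOf_eq]; exact hs
  have h2 : 2 * p ∣ orderOf k := by
    rw [← h1]
    exact orderOf_map_dvd (QuotientGroup.mk' (L.subgroupOf K)) k
  have h3 : orderOf (((k : K) : N) : H) = orderOf k := by
    rw [Subgroup.orderOf_coe, Subgroup.orderOf_coe]
  apply h2p
  obtain ⟨c, hc⟩ := h2
  refine ⟨(((k : K) : N) : H) ^ c, ?_⟩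
  have hc0 : c ≠ 0 := by
    rintro rfl
    have := orderOf_pos k
    omega
  rw [orderOf_pow' _ hc0, h3, hc, Nat.gcd_eq_right (dvd_mul_left c (2 * p))]
  exact Nat.mul_div_cancel _ (Nat.pos_of_ne_zero hc0)

/-- the Sylow subgroup is the centralizer of each of its nontrivial elements -/
theorem cent_eq (hp : p.Prime) (hp2 : p ≠ 2) {f : ℕ} (hf : f ≠ 0) (hq : q = p ^ f)
    (hC : ∀ x : H, x ≠ 1 → (∃ k, orderOf x = p ^ k) → Nat.card (centralizer ({x} : Set H)) = q)
    (h2p : ¬ ∃ x : H, orderOf x = 2 * p) (P : Sylow p H) (hPq : Nat.card P = q) {x : H} (hx : x ∈ P)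
    (hx1 : x ≠ 1) : centralizer ({x} : Set H) = P := by
  have hpf : Fact p.Prime := ⟨hp⟩
  set W := Cfsg.centerThompsonAOf (P : Subgroup H) with hW
  have hPb : (P : Subgroup H) ≠ ⊥ := by
    intro h0
    have hx' : x ∈ (P : Subgroup H) := hx
    rw [h0, mem_bot] at hx'
    exact hx1 hx'
  have hWZ := ZJThm.centerThompsonAOf_eq (P : Subgroup H)
  have hWb : W ≠ ⊥ := by rw [hW, hWZ]; exact ZJLocal.ZJ_ne_bot P.2 hPb
  have hWP : W ≤ (P : Subgroup H) := by
    rw [hW, hWZ]
    exact (ZJThm.fam_ab (p := p)).ZJ_le_self _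
  have hWp : IsPGroup p W := P.2.to_le hWP
  have hcardC : ∀ y ∈ (P : Subgroup H), y ≠ 1 → Nat.card (centralizer ({y} : Set H)) = q := by
    intro y hy hy1
    obtain ⟨k, hk⟩ := P.2 ⟨y, hy⟩
    have hk1 : y ^ p ^ k = 1 := by simpa using congrArg Subtype.val hk
    obtain ⟨j, -, hj⟩ := (Nat.dvd_prime_pow hp).1 (orderOf_dvd_of_pow_eq_one hk1)
    exact hC y hy1 ⟨j, hj⟩
  have hSyl : ∀ y ∈ (P : Subgroup H), y ≠ 1 → IsSyl p (centralizer ({y} : Set H)) ⊤ := by
    intro y hy hy1
    have h1 : IsPGroup p (centralizer ({y} : Set H)) := IsPGroup.of_card (n := f) (by rw [hcardC y hy hy1, hq])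
    refine ⟨le_top, h1, fun R hR hle _ => ?_⟩
    obtain ⟨S, hS⟩ := hR.exists_le_sylow
    refine (Subgroup.eq_of_le_of_card_ge hle ?_).symm
    rw [hcardC y hy hy1, ← hPq, ← (isSyl_top S).card_eq_top P]
    exact Subgroup.card_le_of_le hS
  have hPM : (P : Subgroup H) ≤ normalizer (W : Set H) :=
    le_normalizer.trans (zj hp hp2 hq hC h2p P _ le_rfl hPb)
  have hCM : ∀ y ∈ (P : Subgroup H), y ≠ 1 → centralizer ({y} : Set H) ≤ normalizer (W : Set H) := by
    intro y hy hy1
    refine le_trans ?_ (zj hp hp2 hq hC h2p P (zpowers y) (zpowers_le.2 hy) (by rwa [Ne, zpowers_eq_bot]))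
    intro z hz
    have hzy : z * y = y * z := mem_centralizer_singleton_iff.1 hz
    have hc : Commute z y := hzy
    rw [mem_normalizer_iff]
    intro w
    constructor
    · intro hw
      obtain ⟨k, rfl⟩ := mem_zpowers_iff.1 hw
      have : z * y ^ k * z⁻¹ = y ^ k := by rw [(hc.zpow_right k).eq, mul_inv_cancel_right]
      rw [this]; exact zpow_mem (mem_zpowers y) k
    · intro hw
      obtain ⟨k, hk⟩ := mem_zpowers_iff.1 hw
      have : w = y ^ k := by
        have h1 : w = z⁻¹ * (z * w * z⁻¹) * z := by group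
        rw [h1, ← hk, mul_assoc, ← (hc.zpow_right k).eq]; group
      rw [this]; exact zpow_mem (mem_zpowers y) k
  have hcj : ∀ m ∈ normalizer (W : Set H), cj m W = W := by
    intro m hm
    ext y
    rw [mem_cj]
    have := mem_normalizer_iff.1 (inv_mem hm) y
    rw [inv_inv] at this
    exact this.symm
  -- `W` centralizes `P`, and all the conjugates
  have key : ∀ y ∈ (P : Subgroup H), y ≠ 1 → ∃ m ∈ normalizer (W : Set H),
      cj m (P : Subgroup H) = centralizer ({y} : Set H) := by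
    intro y hy hy1
    exact ((isSyl_top P).mono hPM le_top).exists_cj_eq ((hSyl y hy hy1).mono (hCM y hy hy1) le_top)
  have hWC : ∀ y ∈ (P : Subgroup H), y ≠ 1 → W ≤ centralizer ({y} : Set H) := by
    intro y hy hy1
    obtain ⟨m, hm, hmP⟩ := key y hy hy1
    rw [← hmP, ← hcj m hm]
    exact cj_mono hWP
  obtain ⟨w, hw, hw1⟩ : ∃ w ∈ W, w ≠ 1 := by
    by_contra hcon
    push Not at hcon
    exact hWb ((Subgroup.eq_bot_iff_forall _).2 hcon)
  have hWP2 : ∀ v ∈ W, ∀ y ∈ (P : Subgroup H), v * y = y * v := by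
    intro v hv y hy
    by_cases hy1 : y = 1
    · rw [hy1]; simp
    · exact mem_centralizer_singleton_iff.1 (hWC y hy hy1 hv)
  have hCw : (P : Subgroup H) = centralizer ({w} : Set H) := by
    refine Subgroup.eq_of_le_of_card_ge ?_ ?_
    · intro y hy
      rw [mem_centralizer_singleton_iff]
      exact (hWP2 w hw y hy).symm
    · rw [hcardC w (hWP hw) hw1, hPq]
  obtain ⟨m, hm, hmP⟩ := key x hx hx1
  refine Subgroup.eq_of_le_of_card_ge ?_ ?_
  · rw [hCw, ← hmP]
    intro y hy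
    rw [mem_cj] at hy
    rw [mem_centralizer_singleton_iff]
    have hw' : m⁻¹ * w * m ∈ W := by
      have h1 : w ∈ cj m W := by rw [hcj m hm]; exact hw
      exact mem_cj.1 h1
    have h2 := hWP2 _ hw' _ hy
    calc y * w = m * ((m⁻¹ * y * m) * (m⁻¹ * w * m)) * m⁻¹ := by group
      _ = w * y := by rw [← h2]; group
  · rw [hcardC x hx hx1, hPq]

end Cfsg.Agent.Lib.CSPo
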