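import Mathlib
import Cfsg.Agent.Lib.CSPo
import Cfsg.Agent.Lib.CITRad3
import Cfsg.Agent.S0731
import Cfsg.Agent.Lib.SharpMult

/-!
# Recognition of `PSL(2,q)`, `q` odd, by the centralizers of the `p`-elements (helper69)
-/

set_option autoImplicit false
set_option linter.unusedSectionVars false

namespace Cfsg.Agent.Lib.CSPz

open Subgroup

theorem dvd_of_orbits {K X : Type*} [Group K] [MulAction K X] [Finite X] {n : ℕ}
    (h : ∀ x : X, Nat.card (MulAction.orbit K x) = n) : n ∣ Nat.card X := by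
  classical
  let _ : Fintype (Quotient (MulAction.orbitRel K X)) := Fintype.ofFinite _
  rw [Nat.card_congr (MulAction.selfEquivSigmaOrbits K X), Nat.card_sigma]
  simp_rw [h]
  rw [Finset.sum_const]
  exact ⟨_, by rw [smul_eq_mul, mul_comm]⟩

variable {H : Type*} [Group H] [Finite H] {p q : ℕ} [hpf : Fact p.Prime] (P : Sylow p H)

local notation "NP" => normalizer ((P : Subgroup H) : Set H)

theorem fix_iff {M : Subgroup H} {g x : H} :
    g • (QuotientGroup.mk x : H ⧸ M) = QuotientGroup.mk x ↔ x⁻¹ * g * x ∈ M := by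
  have h1 : g • (QuotientGroup.mk x : H ⧸ M) = QuotientGroup.mk (g * x) := rfl
  rw [h1, eq_comm, QuotientGroup.eq, mul_assoc]

variable {P}

theorem fix_P (hC : ∀ x ∈ P, x ≠ 1 → centralizer ({x} : Set H) = P) {u x : H} (hu : u ∈ P) (hu1 : u ≠ 1)
    (h : u • (QuotientGroup.mk x : H ⧸ NP) = QuotientGroup.mk x) : x ∈ NP := by
  rw [fix_iff] at h
  have hpu : IsPGroup p (zpowers (x⁻¹ * u * x)) := by
    obtain ⟨k, hk⟩ := P.2 ⟨u, hu⟩
    have hk1 : u ^ p ^ k = 1 := by simpa using congrArg Subtype.val hk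
    have h2 : (x⁻¹ * u * x) ^ p ^ k = 1 := by
      have h3 : (x⁻¹ * u * (x⁻¹)⁻¹) ^ p ^ k = x⁻¹ * u ^ p ^ k * (x⁻¹)⁻¹ := conj_pow
      rw [inv_inv] at h3
      rw [h3, hk1]; group
    obtain ⟨j, -, hj⟩ := (Nat.dvd_prime_pow hpf.out).1 (orderOf_dvd_of_pow_eq_one h2)
    exact IsPGroup.of_card (n := j) (by rw [Nat.card_zpowers, hj])
  have hy : x⁻¹ * u * x ∈ (P : Subgroup H) := by
    have h1 := hpu.inf_normalizer_sylow P
    have h2 : x⁻¹ * u * x ∈ zpowers (x⁻¹ * u * x) ⊓ (P : Subgroup H) := by
      rw [← h1]; exact ⟨mem_zpowers _, h⟩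
    exact h2.2
  have hy1 : x⁻¹ * u * x ≠ 1 := by
    intro h0
    apply hu1
    calc u = x * (x⁻¹ * u * x) * x⁻¹ := by group
      _ = 1 := by rw [h0]; group
  have c1 := hC _ hy hy1
  have c2 := hC _ hu hu1
  rw [mem_normalizer_iff]
  intro w
  have e1 : w ∈ (P : Subgroup H) ↔ w * (x⁻¹ * u * x) = (x⁻¹ * u * x) * w := by
    rw [← c1, mem_centralizer_singleton_iff]
  have e2 : x * w * x⁻¹ ∈ (P : Subgroup H) ↔ (x * w * x⁻¹) * u = u * (x * w * x⁻¹) := by
    rw [← c2, mem_centralizer_singleton_iff]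
  change w ∈ (P : Subgroup H) ↔ x * w * x⁻¹ ∈ (P : Subgroup H)
  rw [e1, e2]
  constructor
  · intro h3
    calc x * w * x⁻¹ * u = x * (w * (x⁻¹ * u * x)) * x⁻¹ := by group
      _ = u * (x * w * x⁻¹) := by rw [h3]; group
  · intro h3
    calc w * (x⁻¹ * u * x) = x⁻¹ * (x * w * x⁻¹ * u) * x := by group
      _ = x⁻¹ * u * x * w := by rw [h3]; group

theorem base_ne {x : H} : (QuotientGroup.mk x : H ⧸ NP) ≠ QuotientGroup.mk 1 ↔ x ∉ NP := by
  rw [Ne, eq_comm, QuotientGroup.eq, inv_one, one_mul]

theorem P_base {u : H} (hu : u ∈ P) : u • (QuotientGroup.mk 1 : H ⧸ NP) = QuotientGroup.mk 1 := by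
  rw [fix_iff, inv_one, one_mul, mul_one]
  exact le_normalizer hu

theorem nu_dvd (hC : ∀ x ∈ P, x ≠ 1 → centralizer ({x} : Set H) = P) {ν : ℕ} (hq : Nat.card P = q)
    (hν : Nat.card NP = q * ν) : ν ∣ q - 1 := by
  classical
  let X := {x : H // x ∈ (P : Subgroup H) ∧ x ≠ 1}
  have hmem : ∀ (n : NP) (x : X), (n : H) * x * (n : H)⁻¹ ∈ (P : Subgroup H) ∧ (n : H) * x * (n : H)⁻¹ ≠ 1 := by
    intro n x
    refine ⟨(mem_normalizer_iff.1 n.2 x).1 x.2.1, fun h0 => x.2.2 ?_⟩
    calc (x : H) = (n : H)⁻¹ * ((n : H) * x * (n : H)⁻¹) * n := by group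
      _ = 1 := by rw [h0]; group
  let _ : MulAction NP X :=
    { smul := fun n x => ⟨(n : H) * x * (n : H)⁻¹, hmem n x⟩
      one_smul := by
        intro x; apply Subtype.ext
        change ((1 : NP) : H) * x * ((1 : NP) : H)⁻¹ = x
        simp
      mul_smul := by
        intro a b x; apply Subtype.ext
        change ((a * b : NP) : H) * x * ((a * b : NP) : H)⁻¹ = a * (b * x * (b : H)⁻¹) * (a : H)⁻¹
        rw [Subgroup.coe_mul]; group }
  have horb : ∀ x : X, Nat.card (MulAction.orbit NP x) = ν := by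
    intro x
    have h1 := Nat.card_congr (MulAction.orbitProdStabilizerEquivGroup NP x)
    rw [Nat.card_prod, hν] at h1
    have h2 : Nat.card (MulAction.stabilizer NP x) = q := by
      rw [← hq]
      have h3 : (MulAction.stabilizer NP x) = (P : Subgroup H).subgroupOf NP := by
        ext n
        rw [MulAction.mem_stabilizer_iff, mem_subgroupOf]
        have h4 : n • x = x ↔ (n : H) * x * (n : H)⁻¹ = x := by
          constructor
          · intro h; exact congrArg Subtype.val h
          · intro h; exact Subtype.ext h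
        rw [h4, mul_inv_eq_iff_eq_mul, ← mem_centralizer_singleton_iff, hC x x.2.1 x.2.2]
      rw [h3]
      exact Nat.card_congr (Subgroup.subgroupOfEquivOfLe (le_normalizer)).toEquiv
    rw [h2, mul_comm q ν] at h1
    exact Nat.eq_of_mul_eq_mul_right (by rw [← hq]; exact Nat.card_pos) h1
  have h5 := dvd_of_orbits horb
  have h6 : Nat.card X = q - 1 := by
    rw [← hq]
    have e : X ≃ {x : (P : Subgroup H) // x ≠ 1} :=
      { toFun := fun x => ⟨⟨x.1, x.2.1⟩, fun h => x.2.2 (congrArg Subtype.val h)⟩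
        invFun := fun x => ⟨x.1, x.1.2, fun h => x.2 (Subtype.ext h)⟩
        left_inv := fun x => rfl
        right_inv := fun x => rfl }
    rw [Nat.card_congr e]
    let _ : Fintype (P : Subgroup H) := Fintype.ofFinite _
    rw [Nat.card_eq_fintype_card, Nat.card_eq_fintype_card, Fintype.card_subtype_compl, Fintype.card_subtype_eq]
  rwa [h6] at h5

/-- the action of `P` on the points different from the base point -/
theorem orbits_P (hC : ∀ x ∈ P, x ≠ 1 → centralizer ({x} : Set H) = P) (hq : Nat.card P = q) :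
    q ∣ Nat.card (H ⧸ NP) - 1 ∧ (Nat.card (H ⧸ NP) - 1 = q → ∀ x y : H ⧸ NP, x ≠ QuotientGroup.mk 1 →
      y ≠ QuotientGroup.mk 1 → ∃ u ∈ (P : Subgroup H), u • x = y) := by
  classical
  let X := {x : H ⧸ NP // x ≠ QuotientGroup.mk 1}
  have hmem : ∀ (n : (P : Subgroup H)) (x : X), (n : H) • (x : H ⧸ NP) ≠ QuotientGroup.mk 1 := by
    intro n x h0
    apply x.2
    have h1 : (n : H) • (x : H ⧸ NP) = (n : H) • (QuotientGroup.mk 1 : H ⧸ NP) := h0.trans (P_base n.2).symm
    exact smul_left_cancel _ h1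
  let _ : MulAction (P : Subgroup H) X :=
    { smul := fun n x => ⟨(n : H) • (x : H ⧸ NP), hmem n x⟩
      one_smul := by
        intro x; apply Subtype.ext
        change ((1 : (P : Subgroup H)) : H) • (x : H ⧸ NP) = x
        simp
      mul_smul := by
        intro a b x; apply Subtype.ext
        change ((a * b : (P : Subgroup H)) : H) • (x : H ⧸ NP) = (a : H) • ((b : H) • (x : H ⧸ NP))
        rw [Subgroup.coe_mul, mul_smul] }
  have horb : ∀ x : X, Nat.card (MulAction.orbit (P : Subgroup H) x) = q := by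
    intro x
    have h1 := Nat.card_congr (MulAction.orbitProdStabilizerEquivGroup (P : Subgroup H) x)
    rw [Nat.card_prod, hq] at h1
    have h2 : MulAction.stabilizer (P : Subgroup H) x = ⊥ := by
      rw [eq_bot_iff]
      intro n hn
      rw [MulAction.mem_stabilizer_iff] at hn
      have h3 : (n : H) • (x : H ⧸ NP) = x := congrArg Subtype.val hn
      rw [mem_bot]
      by_contra hn1
      obtain ⟨z, hz⟩ := QuotientGroup.mk_surjective (x : H ⧸ NP)
      rw [← hz] at h3
      have h4 := fix_P hC n.2 (fun h0 => hn1 (Subtype.ext h0)) h3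
      apply x.2
      rw [← hz]
      by_contra h5
      exact (base_ne.1 h5) h4
    rw [h2, Subgroup.card_bot, mul_one] at h1
    exact h1
  have hX : Nat.card X = Nat.card (H ⧸ NP) - 1 := by
    let _ : Fintype (H ⧸ NP) := Fintype.ofFinite _
    rw [Nat.card_eq_fintype_card, Nat.card_eq_fintype_card, Fintype.card_subtype_compl, Fintype.card_subtype_eq]
  refine ⟨?_, ?_⟩
  · rw [← hX]; exact dvd_of_orbits horb
  · intro hcard x y hx hy
    have h1 : MulAction.orbit (P : Subgroup H) (⟨x, hx⟩ : X) = Set.univ := by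
      apply Set.eq_of_subset_of_ncard_le (Set.subset_univ _)
      rw [Set.ncard_univ, hX, hcard]
      exact (horb ⟨x, hx⟩).ge
    have h2 : (⟨y, hy⟩ : X) ∈ MulAction.orbit (P : Subgroup H) (⟨x, hx⟩ : X) := by rw [h1]; trivial
    obtain ⟨u, hu⟩ := h2
    exact ⟨u, u.2, congrArg Subtype.val hu⟩

theorem arith {q ν m : ℕ} (hq7 : 7 ≤ q) (hν : ν ∣ q - 1) (hm : q ∣ m - 1) (h : 2 * (m * ν) = q ^ 2 - 1) :
    m = q + 1 ∧ 2 * ν = q - 1 := by
  obtain ⟨e, he⟩ := hν
  obtain ⟨l, hl⟩ := hm
  have hν0 : 0 < ν := by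
    rcases Nat.eq_zero_or_pos ν with h0 | h0
    · rw [h0, zero_mul] at he; omega
    · exact h0
  have h1 : q ^ 2 - 1 = (q - 1) * (q + 1) := by
    have := Nat.sq_sub_sq q 1
    rw [one_pow] at this
    rw [this, mul_comm]
  have h2 : 2 * m = e * (q + 1) := by
    apply Nat.eq_of_mul_eq_mul_left hν0
    calc ν * (2 * m) = 2 * (m * ν) := by ring
      _ = ν * e * (q + 1) := by rw [h, h1, he]
      _ = ν * (e * (q + 1)) := by ring
  have hm1 : 1 ≤ m := by
    rcases Nat.eq_zero_or_pos m with h0 | h0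
    · rw [h0] at h2
      have : e = 0 := by
        rcases Nat.eq_zero_or_pos e with h3 | h3
        · exact h3
        · have : 0 < e * (q + 1) := by positivity
          omega
      rw [this, mul_zero] at he; omega
    · exact h0
  have h3 : m = q * l + 1 := by omega
  have he1 : e ≤ q - 1 := by rw [he]; exact Nat.le_mul_of_pos_left e hν0
  have h4 : 2 * (q * l) + 2 = e * q + e := by rw [h3] at h2; linarith [h2]
  -- `e ≡ 2 mod q`
  have h5 : e = 2 := by
    have h6 : (2 * l) * q + 2 = e * q + e := by rw [← h4]; ring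
    rcases Nat.lt_trichotomy e 2 with h7 | h7 | h7
    · -- e = 0, 1
      have : e = 0 ∨ e = 1 := by omega
      rcases this with rfl | rfl
      · omega
      · have h8 : (2 * l) * q + 1 = 1 * q := by omega
        have h9 : q ∣ 1 := by
          have h10 : q ∣ (2 * l) * q + 1 := by rw [h8]; exact dvd_mul_left _ _
          exact (Nat.dvd_add_right (dvd_mul_left q (2 * l))).1 h10
        have := Nat.le_of_dvd (by norm_num) h9
        omega
    · exact h7
    · have h8 : (2 * l) * q = e * q + (e - 2) := by omega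
      have h9 : q ∣ e - 2 := by
        have h10 : q ∣ e * q + (e - 2) := by rw [← h8]; exact dvd_mul_left _ _
        exact (Nat.dvd_add_right (dvd_mul_left q e)).1 h10
      have := Nat.le_of_dvd (by omega) h9
      omega
  subst h5
  constructor
  · omega
  · omega

theorem mono {k q : ℕ} (h : k * (k ^ 2 - 1) = q * (q ^ 2 - 1)) (hk : 2 ≤ k) (hq : 2 ≤ q) : k = q := by
  have key : ∀ a b : ℕ, 2 ≤ a → a < b → a * (a ^ 2 - 1) < b * (b ^ 2 - 1) := by
    intro a b ha hab
    have h1 : a ^ 2 < b ^ 2 := Nat.pow_lt_pow_left hab (by norm_num)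
    have h2 : 2 ^ 2 ≤ a ^ 2 := Nat.pow_le_pow_left ha 2
    apply Nat.mul_lt_mul_of_lt_of_le hab (by omega) (by omega)
  rcases lt_trichotomy k q with h1 | h1 | h1
  · have := key k q hk h1; omega
  · exact h1
  · have := key q k hq h1; omega

/-- recognition of `PSL(2,q)` -/
theorem main (hC : ∀ x ∈ P, x ≠ 1 → centralizer ({x} : Set H) = P) (hq : Nat.card P = q) (hq7 : 7 ≤ q)
    (hqo : Odd q) (hcard : 2 * Nat.card H = q * (q ^ 2 - 1))
    (hinv : ∀ t : H, orderOf t = 2 → Nat.card (centralizer ({t} : Set H)) ≤ q + 1) :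
    ∃ (E : Type) (_ : Field E) (_ : Fintype E), Fintype.card E = q ∧
      Nonempty (H ≃* Matrix.ProjectiveSpecialLinearGroup (Fin 2) E) := by
  classical
  have h2f : Fact (Nat.Prime 2) := ⟨Nat.prime_two⟩
  -- orders
  obtain ⟨ν, hν⟩ : q ∣ Nat.card NP := by rw [← hq]; exact Subgroup.card_dvd_of_le le_normalizer
  have hνd := nu_dvd hC hq hν
  obtain ⟨hqd, htrP⟩ := orbits_P hC hq
  have hH : Nat.card H = Nat.card (H ⧸ NP) * Nat.card NP := Subgroup.card_eq_card_quotient_mul_card_subgroup _
  have hmain : 2 * (Nat.card (H ⧸ NP) * ν) = q ^ 2 - 1 := by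
    apply Nat.eq_of_mul_eq_mul_left (by omega : 0 < q)
    rw [← hcard, hH, hν]; ring
  obtain ⟨hΩ, hν2⟩ := arith hq7 hνd hqd hmain
  have htrP := htrP (by omega)
  set a : H ⧸ NP := QuotientGroup.mk 1 with ha
  -- regularity
  have hreg : ∀ u ∈ (P : Subgroup H), ∀ y : H ⧸ NP, y ≠ a → u • y = y → u = 1 := by
    intro u hu y hy huy
    by_contra hu1
    obtain ⟨z, rfl⟩ := QuotientGroup.mk_surjective y
    exact (base_ne.1 hy) (fix_P hC hu hu1 huy)
  have hstab : ∀ g : H, g • a = a ↔ g ∈ NP := by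
    intro g
    rw [ha, fix_iff, inv_one, one_mul, mul_one]
  -- elements of `N` fixing two further points
  have hfix2 : ∀ g : H, g • a = a → ∀ b c : H ⧸ NP, b ≠ a → c ≠ a → b ≠ c → g • b = b → g • c = c → g = 1 := by
    intro g hga b c hb hc hbc hgb hgc
    obtain ⟨x, hx, hxb⟩ := htrP b c hb hc
    have hgN := (hstab g).1 hga
    have hx1 : x ≠ 1 := by rintro rfl; rw [one_smul] at hxb; exact hbc hxb
    have h1 : g⁻¹ * x⁻¹ * g ∈ (P : Subgroup H) := by
      have := (mem_normalizer_iff.1 (inv_mem hgN) x⁻¹).1 (inv_mem hx)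
      rwa [inv_inv] at this
    have h2 : (g⁻¹ * x⁻¹ * g * x) • b = b := by
      rw [mul_smul, hxb, mul_smul, hgc, ← hxb, ← mul_smul, mul_assoc, inv_mul_cancel, mul_one,
        inv_smul_eq_iff, hgb]
    have h3 := hreg _ (mul_mem h1 hx) b hb h2
    have h4 : g ∈ centralizer ({x} : Set H) := by
      rw [mem_centralizer_singleton_iff]
      have h5 : g⁻¹ * x⁻¹ * g * x = 1 := h3
      calc g * x = x * g * (g⁻¹ * x⁻¹ * g * x) := by group
        _ = x * g := by rw [h5, mul_one]
    rw [hC x hx hx1] at h4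
    exact hreg g h4 b hb hgb
  have htrans : ∀ x : H ⧸ NP, ∃ g : H, g • x = a := by
    intro x
    obtain ⟨z, rfl⟩ := QuotientGroup.mk_surjective x
    refine ⟨z⁻¹, ?_⟩
    change (QuotientGroup.mk (z⁻¹ * z) : H ⧸ NP) = _
    rw [inv_mul_cancel]
  have htwo : ∀ x y z w : H ⧸ NP, x ≠ y → z ≠ w → ∃ g : H, g • x = z ∧ g • y = w := by
    intro x y z w hxy hzw
    obtain ⟨g1, h1⟩ := htrans x
    obtain ⟨g2, h2⟩ := htrans z
    have h3 : g1 • y ≠ a := by rw [← h1]; intro h; exact hxy (smul_left_cancel _ h).symm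
    have h4 : g2 • w ≠ a := by rw [← h2]; intro h; exact hzw (smul_left_cancel _ h).symm
    obtain ⟨u, hu, huy⟩ := htrP _ _ h3 h4
    refine ⟨g2⁻¹ * u * g1, ?_, ?_⟩
    · rw [mul_smul, mul_smul, h1, P_base hu, inv_smul_eq_iff, h2]
    · rw [mul_smul, mul_smul, huy, inv_smul_smul]
  have hfix3 : ∀ g : H, ∀ x y z : H ⧸ NP, x ≠ y → y ≠ z → x ≠ z → g • x = x → g • y = y → g • z = z → g = 1 := by
    intro g x y z hxy hyz hxz h1 h2 h3
    obtain ⟨k, hk⟩ := htrans x
    have e : ∀ w : H ⧸ NP, g • w = w → (k * g * k⁻¹) • (k • w) = k • w := by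
      intro w hw
      rw [mul_smul, mul_smul, inv_smul_smul, hw]
    have h4 := hfix2 (k * g * k⁻¹) (by have := e x h1; rwa [hk] at this) (k • y) (k • z)
      (by rw [← hk]; intro h; exact hxy (smul_left_cancel _ h).symm)
      (by rw [← hk]; intro h; exact hxz (smul_left_cancel _ h).symm)
      (by intro h; exact hyz (smul_left_cancel _ h)) (e y h2) (e z h3)
    calc g = k⁻¹ * (k * g * k⁻¹) * k := by group
      _ = 1 := by rw [h4]; group
  have hΩ3 : 3 ≤ Nat.card (H ⧸ NP) := by omega
  obtain ⟨b, c, hba, hca, hbc⟩ : ∃ b c : H ⧸ NP, b ≠ a ∧ c ≠ a ∧ b ≠ c := by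
    let _ : Fintype (H ⧸ NP) := Fintype.ofFinite _
    rw [Nat.card_eq_fintype_card] at hΩ3
    obtain ⟨x, y, z, h1, h2, h3⟩ := Fintype.two_lt_card_iff.1 (by omega : 2 < Fintype.card (H ⧸ NP))
    by_cases hx : x = a
    · exact ⟨y, z, fun h => h1 (hx.trans h.symm), fun h => h2 (hx.trans h.symm), h3⟩
    · by_cases hy : y = a
      · exact ⟨x, z, hx, fun h => h3 (hy.trans h.symm), h2⟩
      · exact ⟨x, y, hx, hy, h1⟩
  have hZ : Cfsg.IsZassenhausGroup H (H ⧸ NP) := by
    refine ⟨⟨?_⟩, ?_, ?_, ?_, ?_⟩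
    · intro x y hxy
      have h1 : ∀ w : H ⧸ NP, (y⁻¹ * x) • w = w := fun w => by rw [mul_smul, hxy w, inv_smul_smul]
      have h2 := hfix3 (y⁻¹ * x) a b c (Ne.symm hba) hbc (Ne.symm hca) (h1 _) (h1 _) (h1 _)
      rw [inv_mul_eq_one] at h2
      exact h2.symm
    · rw [MulAction.is_two_pretransitive_iff]
      intro x y z w hxy hzw
      exact htwo x y z w hxy hzw
    · intro g x y z hxy hyz hxz h1 h2 h3
      exact hfix3 g x y z hxy hyz hxz h1 h2 h3
    · -- a nontrivial element fixing two points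
      by_contra hcon
      push Not at hcon
      -- then `|N| ≤ q`
      have h1 : Nat.card NP ≤ Nat.card {w : H ⧸ NP // w ≠ a} := by
        refine Nat.card_le_card_of_injective (fun g : NP => ⟨(g : H) • b, ?_⟩) ?_
        · intro h0
          apply hba
          have h2 : (g : H) • a = a := (hstab g).2 g.2
          rw [← h2] at h0
          exact smul_left_cancel _ h0
        · intro g g' hgg
          have h2 : (g : H) • b = (g' : H) • b := congrArg Subtype.val hgg
          have h3 : ((g' : H)⁻¹ * g) • b = b := by rw [mul_smul, h2, inv_smul_smul]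
          have h4 : ((g' : H)⁻¹ * g) • a = a := (hstab _).2 (mul_mem (inv_mem g'.2) g.2)
          by_contra hne
          refine hcon ((g' : H)⁻¹ * g) (fun h0 => hne ?_) a b (Ne.symm hba) h4 h3
          rw [inv_mul_eq_one] at h0
          exact Subtype.ext h0.symm
      have h2 : Nat.card {w : H ⧸ NP // w ≠ a} = q := by
        let _ : Fintype (H ⧸ NP) := Fintype.ofFinite _
        rw [Nat.card_eq_fintype_card, Fintype.card_subtype_compl, Fintype.card_subtype_eq,
          ← Nat.card_eq_fintype_card, hΩ]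
        omega
      rw [h2, hν] at h1
      have h3 : 3 ≤ ν := by omega
      nlinarith
    · intro M hM hMt
      by_contra hcon
      push Not at hcon
      have h1 : Nat.card M = q + 1 := by
        have h2 := Nat.card_congr (MulAction.orbitProdStabilizerEquivGroup M a)
        have hs : MulAction.stabilizer M a = ⊥ := hcon a
        rw [Nat.card_prod, hs, Subgroup.card_bot, mul_one] at h2
        rw [← h2, ← hΩ]
        have h3 : MulAction.orbit M a = Set.univ := by
          apply Set.eq_univ_of_forall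
          intro ω
          obtain ⟨m, hm⟩ := hMt.exists_smul_eq a ω
          exact ⟨m, hm⟩
        rw [h3]
        exact Nat.card_congr (Equiv.Set.univ _)
      obtain ⟨t, ht⟩ := exists_prime_orderOf_dvd_card' (G := M) 2 (by
        rw [h1]
        obtain ⟨k, hk⟩ := hqo
        exact ⟨k + 1, by omega⟩)
      have ht' : orderOf (t : H) = 2 := by rw [orderOf_coe]; exact ht
      have h4 := hinv t ht'
      -- the class of `t` lies in `M`
      have h5 : (centralizer ({(t : H)} : Set H)).index ≤ q := by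
        have h6 : (centralizer ({(t : H)} : Set H)).index ≤ Nat.card {m : M // m ≠ 1} := by
          have hf : ∀ x : H, x * t * x⁻¹ ∈ M := fun x => hM.conj_mem t t.2 x
          let f : H ⧸ (centralizer ({(t : H)} : Set H)) → {m : M // m ≠ 1} :=
            Quotient.lift (fun x : H => (⟨⟨x * t * x⁻¹, hf x⟩, by
              intro h0
              have h7 : x * (t : H) * x⁻¹ = 1 := congrArg Subtype.val h0
              have h8 : (t : H) = 1 := by
                calc (t : H) = x⁻¹ * (x * t * x⁻¹) * x := by group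
                  _ = 1 := by rw [h7]; group
              rw [h8, orderOf_one] at ht'
              omega⟩ : {m : M // m ≠ 1})) (by
              intro x y hxy
              apply Subtype.ext; apply Subtype.ext
              have h7 : x⁻¹ * y ∈ centralizer ({(t : H)} : Set H) := QuotientGroup.leftRel_apply.1 hxy
              rw [mem_centralizer_singleton_iff] at h7
              change x * t * x⁻¹ = y * t * y⁻¹
              calc x * t * x⁻¹ = x * (t * (x⁻¹ * y)) * y⁻¹ := by group
                _ = y * t * y⁻¹ := by rw [← h7]; group)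
          have hfi : Function.Injective f := by
            intro x y
            induction x using QuotientGroup.induction_on with
            | H x =>
              induction y using QuotientGroup.induction_on with
              | H y =>
                intro hxy
                have h7 : x * (t : H) * x⁻¹ = y * t * y⁻¹ := congrArg (fun m => ((m.1 : M) : H)) hxy
                rw [QuotientGroup.eq, mem_centralizer_singleton_iff]
                calc x⁻¹ * y * t = x⁻¹ * (y * t * y⁻¹) * y := by group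
                  _ = t * (x⁻¹ * y) := by rw [← h7]; group
          exact Nat.card_le_card_of_injective f hfi
        have h7 : Nat.card {m : M // m ≠ 1} = q := by
          let _ : Fintype M := Fintype.ofFinite _
          rw [Nat.card_eq_fintype_card, Fintype.card_subtype_compl, Fintype.card_subtype_eq,
            ← Nat.card_eq_fintype_card, h1]
          omega
        rw [h7] at h6
        exact h6
      have h8 : Nat.card H ≤ (q + 1) * q := by
        rw [← Subgroup.card_mul_index (centralizer ({(t : H)} : Set H))]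
        exact Nat.mul_le_mul h4 h5
      have h9 : q * (q ^ 2 - 1) ≤ 2 * ((q + 1) * q) := by rw [← hcard]; exact Nat.mul_le_mul_left 2 h8
      have h10 : q ^ 2 - 1 ≤ 2 * (q + 1) := by
        apply Nat.le_of_mul_le_mul_left _ (by omega : 0 < q)
        calc q * (q ^ 2 - 1) ≤ 2 * ((q + 1) * q) := h9
          _ = q * (2 * (q + 1)) := by ring
      have h11 : 7 * q ≤ q ^ 2 := by rw [pow_two]; exact Nat.mul_le_mul_right q hq7
      omega
  have hfle : (P : Subgroup H) ≤ MulAction.stabilizer H a := fun u hu => P_base hu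
  have hfn : ((P : Subgroup H).subgroupOf (MulAction.stabilizer H a)).Normal := by
    refine ⟨fun n hn g => ?_⟩
    rw [mem_subgroupOf] at hn ⊢
    exact (mem_normalizer_iff.1 ((hstab g).1 g.2) n).1 hn
  have hab : IsMulCommutative (P : Subgroup H) := by
    refine ⟨⟨fun x y => ?_⟩⟩
    by_cases hy : y = 1
    · rw [hy, one_mul, mul_one]
    · apply Subtype.ext
      have h1 : (x : H) ∈ centralizer ({(y : H)} : Set H) := by
        rw [hC y y.2 (fun h => hy (Subtype.ext h))]; exact x.2
      exact mem_centralizer_singleton_iff.1 h1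
  rcases Cfsg.Agent.S0731.result hZ a (P : Subgroup H) hfle hfn hab (by
    intro y z hy hz
    obtain ⟨u, hu, huy⟩ := htrP y z hy hz
    refine ⟨⟨u, hu⟩, huy, fun v hv => ?_⟩
    apply Subtype.ext
    have h1 : (u⁻¹ * (v : H)) • y = y := by
      rw [mul_smul, inv_smul_eq_iff, huy]; exact hv
    have h2 := hreg _ (mul_mem (inv_mem hu) v.2) y hy h1
    rw [inv_mul_eq_one] at h2
    exact h2.symm) with ⟨h3t, hsharp⟩ | ⟨K, i1, i2, hK, ⟨e⟩⟩
  · exfalso
    have h1 := SharpMult.card_of_sharp h3t hΩ3 hsharp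
    rw [hΩ] at h1
    obtain ⟨m, hm⟩ : ∃ m, q = m + 2 := ⟨q - 2, by omega⟩
    have hde : (q + 1).descFactorial 3 = (q + 1) * (q * (q - 1)) := by
      rw [hm]; simp [Nat.descFactorial]; ring
    rw [hde] at h1
    have h2 : q ^ 2 - 1 = (q + 1) * (q - 1) := by
      have := Nat.sq_sub_sq q 1
      rwa [one_pow] at this
    rw [h1, h2] at hcard
    have h3 : 0 < (q + 1) * (q * (q - 1)) := by
      have : 0 < q - 1 := by omega
      positivity
    have h4 : q * ((q + 1) * (q - 1)) = (q + 1) * (q * (q - 1)) := by ring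
    omega
  · refine ⟨K, i1, i2, ?_, ⟨e⟩⟩
    have h1 := CITRad.card_psl2 (F := K) (q := Fintype.card K) rfl
    have hodd : Odd (Fintype.card K) := by
      rw [Nat.odd_iff]
      exact FiniteField.odd_card_of_char_ne_two hK
    have hk2 : 2 ≤ Fintype.card K := Fintype.one_lt_card
    have hg : Nat.gcd 2 (Fintype.card K - 1) = 2 := by
      apply Nat.gcd_eq_left
      obtain ⟨k, hk⟩ := hodd
      exact ⟨k, by omega⟩
    rw [hg, ← Nat.card_congr e.toEquiv, hcard] at h1
    exact (mono h1 (by omega) hk2).symm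

end Cfsg.Agent.Lib.CSPz
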