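import Mathlib
import Cfsg.Agent.Lib.CSPb
import Cfsg.Agent.Lib.CSPe
import Cfsg.Agent.Lib.CSPo
import Cfsg.Agent.Lib.CSPz
import Cfsg.Agent.Lib.ClSeven
import Cfsg.Agent.S2507
import Cfsg.Agent.S2508

/-!
# Groups with the class sizes of `PSL(2,q)`: the central quotient (helper69)
-/

set_option autoImplicit false
set_option linter.unusedSectionVars false

namespace Cfsg.Agent.Lib.CSP

open Subgroup

variable {G : Type*} [Group G] [Finite G]

theorem n_ne_one {g : G} (hg : g ∉ center G) : n g ≠ 1 := by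
  intro h
  apply hg
  apply mem_center_of_C_top
  exact Subgroup.index_eq_one.1 h

theorem sizes_even {q : ℕ} (hq2 : 2 ∣ q) (hq4 : 4 ≤ q)
    (h : Set.range (fun g : G => n g) = {1, q * (q - 1), q ^ 2 - 1, q * (q + 1)}) :
    Sizes G q (q - 1) (q + 1) := by
  have hfac : q ^ 2 - 1 = (q - 1) * (q + 1) := by
    have := Nat.sq_sub_sq q 1
    rw [one_pow] at this
    rw [this, mul_comm]
  have c1 : q.Coprime (q - 1) := by
    have h1 : q = (q - 1) + 1 := by omega
    rw [h1, Nat.add_sub_cancel, Nat.coprime_self_add_left]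
    exact Nat.coprime_one_left _
  have c2 : q.Coprime (q + 1) := by rw [Nat.coprime_self_add_right]; exact Nat.coprime_one_right _
  have c3 : (q - 1).Coprime (q + 1) := by
    have h1 : q + 1 = (q - 1) + 2 := by omega
    rw [h1, Nat.coprime_self_add_right, Nat.coprime_two_right]
    obtain ⟨k, hk⟩ := hq2
    exact ⟨k - 1, by omega⟩
  refine ⟨by omega, by omega, by omega, c1, c2, c3, ?_, ?_, ?_, ?_⟩
  · intro g hg
    have h1 : n g ∈ Set.range (fun g : G => n g) := ⟨g, rfl⟩
    rw [h] at h1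
    simp only [Set.mem_insert_iff, Set.mem_singleton_iff] at h1
    rcases h1 with h1 | h1 | h1 | h1
    · exact absurd h1 (n_ne_one hg)
    · exact Or.inr (Or.inr (Or.inl h1))
    · exact Or.inl (by rw [h1, hfac])
    · exact Or.inr (Or.inl h1)
  · have : (q - 1) * (q + 1) ∈ Set.range (fun g : G => n g) := by rw [h, ← hfac]; simp
    exact this
  · have : q * (q + 1) ∈ Set.range (fun g : G => n g) := by rw [h]; simp
    exact this
  · have : q * (q - 1) ∈ Set.range (fun g : G => n g) := by rw [h]; simp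
    exact this

theorem sizes_odd1 {q : ℕ} (hq4 : q % 4 = 1) (hq7 : 7 ≤ q)
    (h : Set.range (fun g : G => n g) = {1, (q ^ 2 - 1) / 2, q * (q + 1) / 2, q * (q - 1), q * (q + 1)}) :
    Sizes G q ((q + 1) / 2) (q - 1) := by
  obtain ⟨k, hk⟩ : ∃ k, q = 4 * k + 1 := ⟨q / 4, by omega⟩
  have e1 : (q + 1) / 2 = 2 * k + 1 := by omega
  have e2 : q - 1 = 4 * k := by omega
  have e3 : (q ^ 2 - 1) / 2 = (2 * k + 1) * (4 * k) := by
    have : q ^ 2 - 1 = 2 * ((2 * k + 1) * (4 * k)) := by
      have h1 : q ^ 2 = 2 * ((2 * k + 1) * (4 * k)) + 1 := by rw [hk]; ring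
      omega
    rw [this]; omega
  have e4 : q * (q + 1) / 2 = q * (2 * k + 1) := by
    have : q * (q + 1) = 2 * (q * (2 * k + 1)) := by rw [hk]; ring
    rw [this]; omega
  have e5 : q * (q + 1) = 2 * (q * (2 * k + 1)) := by rw [hk]; ring
  rw [e3, e4, e2] at h
  rw [e1, e2]
  have c1 : q.Coprime (2 * k + 1) := by
    have h1 : q + 1 = 2 * (2 * k + 1) := by omega
    have h2 : q.Coprime (q + 1) := by rw [Nat.coprime_self_add_right]; exact Nat.coprime_one_right _
    rw [h1] at h2
    exact Nat.Coprime.coprime_mul_left_right h2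
  have c2 : q.Coprime (4 * k) := by
    rw [hk, Nat.coprime_comm, Nat.coprime_self_add_right]; exact Nat.coprime_one_right _
  have c3 : (2 * k + 1).Coprime (4 * k) := by
    have h1 : (2 * k + 1).Coprime (2 * k) := by
      rw [Nat.coprime_comm, Nat.coprime_self_add_right]; exact Nat.coprime_one_right _
    have h2 : (2 * k + 1).Coprime 2 := Nat.coprime_two_right.2 ⟨k, rfl⟩
    have h3 : 4 * k = 2 * (2 * k) := by ring
    rw [h3]; exact h2.mul_right h1
  refine ⟨by omega, by omega, by omega, c1, c2, c3, ?_, ?_, ?_, ?_⟩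
  · intro g hg
    have h1 : n g ∈ Set.range (fun g : G => n g) := ⟨g, rfl⟩
    rw [h] at h1
    simp only [Set.mem_insert_iff, Set.mem_singleton_iff] at h1
    rcases h1 with h1 | h1 | h1 | h1 | h1
    · exact absurd h1 (n_ne_one hg)
    · exact Or.inl h1
    · exact Or.inr (Or.inr (Or.inl h1))
    · exact Or.inr (Or.inl h1)
    · exact Or.inr (Or.inr (Or.inr ⟨h1.trans e5, ⟨2 * k, by ring⟩⟩))
  · have : (2 * k + 1) * (4 * k) ∈ Set.range (fun g : G => n g) := by rw [h]; simp
    exact this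
  · have : q * (4 * k) ∈ Set.range (fun g : G => n g) := by rw [h]; simp
    exact this
  · have : q * (2 * k + 1) ∈ Set.range (fun g : G => n g) := by rw [h]; simp
    exact this

theorem sizes_odd3 {q : ℕ} (hq4 : q % 4 = 3) (hq7 : 7 ≤ q)
    (h : Set.range (fun g : G => n g) = {1, (q ^ 2 - 1) / 2, q * (q - 1) / 2, q * (q + 1), q * (q - 1)}) :
    Sizes G q ((q - 1) / 2) (q + 1) := by
  obtain ⟨k, hk⟩ : ∃ k, q = 4 * k + 3 := ⟨q / 4, by omega⟩
  have e1 : (q - 1) / 2 = 2 * k + 1 := by omega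
  have e2 : q + 1 = 4 * (k + 1) := by omega
  have e2' : q - 1 = 2 * (2 * k + 1) := by omega
  have e3 : (q ^ 2 - 1) / 2 = (2 * k + 1) * (4 * (k + 1)) := by
    have : q ^ 2 - 1 = 2 * ((2 * k + 1) * (4 * (k + 1))) := by
      have h1 : q ^ 2 = 2 * ((2 * k + 1) * (4 * (k + 1))) + 1 := by rw [hk]; ring
      omega
    rw [this]; omega
  have e5 : q * (q - 1) = 2 * (q * (2 * k + 1)) := by rw [e2']; ring
  have e4 : q * (q - 1) / 2 = q * (2 * k + 1) := by rw [e5]; omega
  rw [e3, e4, e2, e5] at h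
  rw [e1, e2]
  have c1 : q.Coprime (2 * k + 1) := by
    have h2 : q.Coprime (q - 1) := by
      have h1 : q = (q - 1) + 1 := by omega
      rw [h1, Nat.add_sub_cancel, Nat.coprime_self_add_left]
      exact Nat.coprime_one_left _
    rw [e2'] at h2
    exact Nat.Coprime.coprime_mul_left_right h2
  have c2 : q.Coprime (4 * (k + 1)) := by
    rw [← e2, Nat.coprime_self_add_right]; exact Nat.coprime_one_right _
  have c3 : (2 * k + 1).Coprime (4 * (k + 1)) := by
    have h1 : (2 * k + 1).Coprime (2 * k + 2) := by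
      rw [show 2 * k + 2 = (2 * k + 1) + 1 by ring, Nat.coprime_self_add_right]; exact Nat.coprime_one_right _
    have h2 : (2 * k + 1).Coprime 2 := Nat.coprime_two_right.2 ⟨k, rfl⟩
    have h3 : 4 * (k + 1) = 2 * (2 * k + 2) := by ring
    rw [h3]; exact h2.mul_right h1
  refine ⟨by omega, by omega, by omega, c1, c2, c3, ?_, ?_, ?_, ?_⟩
  · intro g hg
    have h1 : n g ∈ Set.range (fun g : G => n g) := ⟨g, rfl⟩
    rw [h] at h1
    simp only [Set.mem_insert_iff, Set.mem_singleton_iff] at h1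
    rcases h1 with h1 | h1 | h1 | h1 | h1
    · exact absurd h1 (n_ne_one hg)
    · exact Or.inl h1
    · exact Or.inr (Or.inr (Or.inl h1))
    · exact Or.inr (Or.inl h1)
    · exact Or.inr (Or.inr (Or.inr ⟨h1, ⟨2 * (k + 1), by ring⟩⟩))
  · have : (2 * k + 1) * (4 * (k + 1)) ∈ Set.range (fun g : G => n g) := by rw [h]; simp
    exact this
  · have : q * (4 * (k + 1)) ∈ Set.range (fun g : G => n g) := by rw [h]; simp
    exact this
  · have : q * (2 * k + 1) ∈ Set.range (fun g : G => n g) := by rw [h]; simp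
    exact this

theorem Sizes.odd_iso {p f q B D : ℕ} (hp : p.Prime) (hq : q = p ^ f) (hqo : Odd q) (hq7 : 7 ≤ q)
    (h : Sizes G q B D) (hB2 : Odd B) (hD2 : 2 ∣ D) (hD : D ≤ q + 1) (hBD : 2 * (B * D) = q ^ 2 - 1) :
    ∃ (E : Type) (_ : Field E) (_ : Fintype E), Fintype.card E = q ∧
      Nonempty (G ⧸ center G ≃* Matrix.ProjectiveSpecialLinearGroup (Fin 2) E) := by
  have hpf : Fact p.Prime := ⟨hp⟩
  have hf : f ≠ 0 := by rintro rfl; rw [pow_zero] at hq; omega
  have hpq : p ∣ q := by rw [hq]; exact dvd_pow_self _ hf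
  have hp2 : p ≠ 2 := by
    rintro rfl
    exact (Nat.not_even_iff_odd.2 hqo) (even_iff_two_dvd.2 hpq)
  obtain ⟨P⟩ : Nonempty (Sylow p (G ⧸ center G)) := inferInstance
  have hcard := h.card_quot
  have hPq : Nat.card P = q := by
    apply Nat.dvd_antisymm
    · obtain ⟨k, hk⟩ := IsPGroup.iff_card.1 P.2
      have h1 : Nat.card P ∣ q * (B * D) := by
        rw [← mul_assoc, ← hcard]; exact Subgroup.card_subgroup_dvd_card _
      have h2 : (Nat.card P).Coprime (B * D) := by
        rw [hk]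
        apply Nat.Coprime.pow_left
        exact Nat.Coprime.coprime_dvd_left hpq (h.hAB.mul_right h.hAD)
      exact h2.dvd_of_dvd_mul_right h1
    · rw [hq]
      apply P.pow_dvd_card_of_pow_dvd_card
      rw [hcard, ← hq, mul_assoc]; exact dvd_mul_right _ _
  have hC : ∀ x : G ⧸ center G, x ≠ 1 → (∃ k, orderOf x = p ^ k) →
      Nat.card (centralizer ({x} : Set (G ⧸ center G))) = q := fun x hx hxp => h.cent_A hp hpq hx hxp
  have hpD : ¬ p ∣ D := fun h1 => hp.one_lt.ne' (Nat.eq_one_of_dvd_coprimes h.hAD hpq h1)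
  have h2p : ¬ ∃ x : G ⧸ center G, orderOf x = 2 * p :=
    h.not_adj Nat.prime_two hp (Or.inr (Or.inr ⟨hD2, hpD⟩))
  refine CSPz.main (P := P) (fun x hx hx1 => CSPo.cent_eq hp hp2 hf hq hC h2p P hPq hx hx1) hPq hq7 hqo ?_ ?_
  · rw [hcard, mul_assoc, mul_left_comm, hBD]
  · intro t ht
    exact (h.cent_D hqo hB2 hD2 ht).trans hD

/-- the central quotient of a group with the class sizes of `PSL(2,q)` -/
theorem quot_iso {F : Type*} [Field F] [Fintype F]
    (hq : (2 ∣ Fintype.card F ∧ 2 < Fintype.card F) ∨ (¬ 2 ∣ Fintype.card F ∧ 7 ≤ Fintype.card F))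
    (h : Set.range (fun g : G => (Subgroup.centralizer ({g} : Set G)).index) =
      Set.range (fun g : (Matrix.ProjectiveSpecialLinearGroup (Fin 2) F) =>
        (Subgroup.centralizer ({g} : Set (Matrix.ProjectiveSpecialLinearGroup (Fin 2) F))).index)) :
    Nonempty (G ⧸ Subgroup.center G ≃* Matrix.ProjectiveSpecialLinearGroup (Fin 2) F) := by
  have hfin : ∃ (E : Type) (_ : Field E) (_ : Fintype E), Fintype.card E = Fintype.card F ∧
      Nonempty (G ⧸ center G ≃* Matrix.ProjectiveSpecialLinearGroup (Fin 2) E) := by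
    obtain ⟨p, hchar⟩ := CharP.exists F
    obtain ⟨f, hp, hpf⟩ := FiniteField.card F p
    rcases hq with ⟨h2, h3⟩ | ⟨h2, h7⟩
    · have hp2 : p = 2 := by
        rw [hpf] at h2
        exact ((Nat.prime_dvd_prime_iff_eq Nat.prime_two hp).1 (Nat.prime_two.dvd_of_dvd_pow h2)).symm
      subst hp2
      have hf2 : 2 ≤ (f : ℕ) := by
        by_contra hcon
        have : (f : ℕ) = 0 ∨ (f : ℕ) = 1 := by omega
        rcases this with h0 | h0 <;> rw [hpf, h0] at h3 <;> norm_num at h3
      have h4 : 4 ≤ Fintype.card F := by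
        obtain ⟨k, hk⟩ := h2; omega
      have hS := sizes_even (G := G) h2 h4 (h.trans (Cfsg.Agent.S2507.result h2 h4))
      have hcard := hS.card_quot
      have hfac : Fintype.card F ^ 2 - 1 = (Fintype.card F - 1) * (Fintype.card F + 1) := by
        have := Nat.sq_sub_sq (Fintype.card F) 1
        rw [one_pow] at this
        rw [this, mul_comm]
      have hCIT : CIT.IsCIT (G ⧸ center G) := by
        intro t ht
        have h5 := hS.cent_A Nat.prime_two h2 (x := t) (by rintro rfl; rw [orderOf_one] at ht; omega)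
          ⟨1, by rw [ht, pow_one]⟩
        exact IsPGroup.of_card (n := f) (by rw [h5, hpf])
      obtain ⟨E, i1, i2, hE, he⟩ := CSPe.main hCIT hS.not_solvable hf2 (by
        rw [hcard, mul_assoc, ← hfac, hpf])
      exact ⟨E, i1, i2, by rw [hE, hpf], he⟩
    · have hodd : Odd (Fintype.card F) := by
        rw [← Nat.not_even_iff_odd, even_iff_two_dvd]; exact h2
      obtain ⟨h1, h3⟩ := Cfsg.Agent.S2508.result (F := F) h2 h7
      have hmod : Fintype.card F % 4 = 1 ∨ Fintype.card F % 4 = 3 := by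
        obtain ⟨k, hk⟩ := hodd; omega
      set q := Fintype.card F with hqd
      rcases hmod with hm | hm
      · have hS := sizes_odd1 (G := G) hm h7 (h.trans (h1 hm))
        obtain ⟨k, hk⟩ : ∃ k, q = 4 * k + 1 := ⟨q / 4, by omega⟩
        have e1 : (q + 1) / 2 = 2 * k + 1 := by omega
        refine hS.odd_iso hp hpf hodd h7 ?_ ⟨2 * k, by omega⟩ (by omega) ?_
        · rw [e1]; exact ⟨k, rfl⟩
        · have h5 : q ^ 2 = 2 * ((2 * k + 1) * (4 * k)) + 1 := by rw [hk]; ring
          rw [e1, show q - 1 = 4 * k by omega]; omega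
      · have hS := sizes_odd3 (G := G) hm h7 (h.trans (h3 hm))
        obtain ⟨k, hk⟩ : ∃ k, q = 4 * k + 3 := ⟨q / 4, by omega⟩
        have e1 : (q - 1) / 2 = 2 * k + 1 := by omega
        refine hS.odd_iso hp hpf hodd h7 ?_ ⟨2 * k + 2, by omega⟩ (by omega) ?_
        · rw [e1]; exact ⟨k, rfl⟩
        · have h5 : q ^ 2 = 2 * ((2 * k + 1) * (4 * (k + 1))) + 1 := by rw [hk]; ring
          rw [e1, show q + 1 = 4 * (k + 1) by omega]; omega
  obtain ⟨E, i1, i2, hE, ⟨e⟩⟩ := hfin
  exact ⟨e.trans (ClSeven.pslCongr 2 (FiniteField.ringEquivOfCardEq hE))⟩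

end Cfsg.Agent.Lib.CSP
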