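import Mathlib
import Cfsg.Agent.Lib.CSPf
import Cfsg.Agent.Lib.BinPslA
import Cfsg.Agent.Lib.TransferApps

/-!
# Groups with the class sizes of `PSL(2,q)`: splitting (helper69)
-/

set_option autoImplicit false
set_option linter.unusedSectionVars false

namespace Cfsg.Agent.Lib.CSPs

open Matrix Cfsg.Agent.Lib.SL2Basic Cfsg.Agent.Lib.SL2Tori Cfsg.Agent.Lib.BinPslA
open scoped MatrixGroups

universe u

section PSL
variable {F : Type u} [Field F]

local notation "SL2" => Matrix.SpecialLinearGroup (Fin 2) F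
local notation "M2" => Matrix (Fin 2) (Fin 2) F
local notation "PSL2" => Matrix.ProjectiveSpecialLinearGroup (Fin 2) F

theorem inv_eq_neg' {A : SL2} (h : tr A = 0) : A⁻¹ = -A := by
  have h1 := sq_of_tr_zero h
  apply inv_eq_of_mul_eq_one_right
  rw [mul_neg, h1, neg_neg]

/-- the centralizer of an involution of `PSL(2,q)`, `q` odd -/
theorem invol_data [Fintype F] (h2 : (2 : F) ≠ 0) {τ : PSL2} (h1 : τ ≠ 1) (hτ : τ * τ = 1) :
    ∃ K : Subgroup PSL2, IsCyclic K ∧
      (∀ x y : PSL2, x * τ = τ * x → y * τ = τ * y → x ∉ K → y ∉ K → y⁻¹ * x ∈ K) ∧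
      (∀ b : PSL2, b * τ = τ * b → b ∉ K → ∀ x ∈ K, b * x * b⁻¹ = x⁻¹) ∧
      (∀ x ∈ K, x * x = 1 → x = 1 ∨ x = τ) := by
  obtain ⟨A, rfl⟩ := mk_surj τ
  have hA := noncentral h1
  have ht := tr_zero h1 hτ
  have h4 := PSL2ClassSize.tr_zero_sq h2 ht
  have hAinv := inv_eq_neg' ht
  have hcyc : IsCyclic (Subgroup.centralizer ({A} : Set SL2)) := by
    by_cases hr : ∀ x : F, x ^ 2 - tr A * x + 1 ≠ 0
    · exact (centralizer_of_no_root hr).1
    · push Not at hr
      obtain ⟨c, hc⟩ := hr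
      exact (centralizer_of_root h4 hc).1
  have anti : ∀ X : SL2, mk X * mk A = mk A * mk X → mk X ∉ (Subgroup.centralizer ({A} : Set SL2)).map
      (QuotientGroup.mk' (Subgroup.center SL2)) → X * A * X⁻¹ = A⁻¹ := by
    intro X hX hXK
    rcases mk_comm.1 hX with h | h
    · exfalso
      exact hXK ⟨X, Subgroup.mem_centralizer_singleton_iff.2 h, rfl⟩
    · rw [h, hAinv, neg_mul, mul_inv_cancel_right]
  refine ⟨(Subgroup.centralizer ({A} : Set SL2)).map (QuotientGroup.mk' (Subgroup.center SL2)), ?_, ?_, ?_, ?_⟩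
  · exact isCyclic_of_surjective _
      ((QuotientGroup.mk' (Subgroup.center SL2)).subgroupMap_surjective (Subgroup.centralizer ({A} : Set SL2)))
  · intro x y hx hy hxK hyK
    obtain ⟨X, rfl⟩ := mk_surj x
    obtain ⟨Y, rfl⟩ := mk_surj y
    have e1 := anti X hx hxK
    have e2 := anti Y hy hyK
    refine ⟨Y⁻¹ * X, Subgroup.mem_centralizer_singleton_iff.2 ?_, rfl⟩
    calc Y⁻¹ * X * A = Y⁻¹ * (X * A * X⁻¹) * X := by group
      _ = Y⁻¹ * (Y * A * Y⁻¹) * X := by rw [e1, e2]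
      _ = A * (Y⁻¹ * X) := by group
  · intro b hb hbK x hx
    obtain ⟨Y, rfl⟩ := mk_surj b
    obtain ⟨M, hM, rfl⟩ := hx
    have e1 := anti Y hb hbK
    have e2 := inverts_of_inverts hA e1 hM
    exact congrArg mk e2
  · intro x hx hxx
    obtain ⟨M, hM, rfl⟩ := hx
    by_cases hM1 : mk M = 1
    · exact Or.inl hM1
    right
    have htM := tr_zero hM1 hxx
    obtain ⟨x, y, hxy⟩ := (mem_centralizer_iff' hA).1 hM
    have htr := (tr_of_eq hxy).1
    rw [htM, ht] at htr
    have hx0 : x = 0 := by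
      have : (2 : F) * x = 0 := by linear_combination -htr
      exact (mul_eq_zero.1 this).resolve_left h2
    rw [hx0, zero_smul, zero_add] at hxy
    have hsq : (M : M2) * (M : M2) = -1 := by
      have := congrArg (fun Z : SL2 => (Z : M2)) (sq_of_tr_zero htM)
      simpa using this
    have hsqA : (A : M2) * (A : M2) = -1 := by
      have := congrArg (fun Z : SL2 => (Z : M2)) (sq_of_tr_zero ht)
      simpa using this
    rw [hxy, smul_mul_smul_comm, hsqA] at hsq
    have hyy : y * y = 1 := by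
      have := congrFun (congrFun hsq 0) 0
      simpa using this
    rcases mul_self_eq_one_iff.1 hyy with hy | hy
    · have : M = A := by
        apply Subtype.ext; rw [hxy, hy, one_smul]
      exact congrArg mk this
    · have : M = -A := by
        apply Subtype.ext
        rw [hxy, hy, neg_smul, one_smul]; rfl
      change mk M = mk A
      rw [this, mk_neg]

/-- the centralizers of order at least ... belong to involutions -/
theorem sq_of_index [Fintype F] (h2 : (2 : F) ≠ 0) {q B D : ℕ} (hF : Fintype.card F = q) (hB : 1 < B) (hD : 1 < D)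
    (hq : 0 < q) (hqD : q.Coprime D) (hBD' : B.Coprime D) (hBD : (q ^ 2 - 1) / 2 = B * D)
    (hp : q + 1 = D ∨ q + 1 = 2 * B) (hm : q - 1 = D ∨ q - 1 = 2 * B) {x : PSL2} (hx : x ≠ 1)
    (hdvd : (Subgroup.centralizer ({x} : Set PSL2)).index ∣ q * B) : x * x = 1 := by
  obtain ⟨A, rfl⟩ := mk_surj x
  have hA := noncentral hx
  by_cases ht : tr A = 0
  · exact invol_of_tr_zero ht
  exfalso
  have k1 : ¬ q * D ∣ q * B := by
    intro h
    have h3 : D ∣ B := Nat.dvd_of_mul_dvd_mul_left hq h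
    exact hD.ne' (Nat.eq_one_of_dvd_coprimes hBD' h3 dvd_rfl)
  have k2 : ¬ q * (2 * B) ∣ q * B := by
    intro h
    have h3 : 2 * B ∣ B := Nat.dvd_of_mul_dvd_mul_left hq h
    have := Nat.le_of_dvd (by omega) h3
    omega
  by_cases h4 : tr A ^ 2 = 4
  · rw [PSL2ClassSize.index_unip_odd h2 hA h4, hF, hBD, mul_comm q B] at hdvd
    have h3 : D ∣ q := Nat.dvd_of_mul_dvd_mul_left (by omega) hdvd
    exact hD.ne' (Nat.eq_one_of_dvd_coprimes hqD h3 dvd_rfl)
  by_cases hr : ∀ x : F, x ^ 2 - tr A * x + 1 ≠ 0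
  · rw [PSL2ClassSize.index_no_root_ne (Or.inr ht) hr, hF] at hdvd
    rcases hm with hm | hm
    · rw [hm] at hdvd; exact k1 hdvd
    · rw [hm] at hdvd; exact k2 hdvd
  · push Not at hr
    obtain ⟨c, hc⟩ := hr
    rw [PSL2ClassSize.index_root_ne (Or.inr ht) h4 hc, hF] at hdvd
    rcases hp with hp | hp
    · rw [hp] at hdvd; exact k1 hdvd
    · rw [hp] at hdvd; exact k2 hdvd

/-- `r`-subgroups of `PSL(2,q)` are abelian for `r` odd and for `q` even -/
theorem pgroup_comm [Fintype F] {r : ℕ} (hr : r.Prime) (h : r ≠ 2 ∨ (2 : F) = 0) {K : Subgroup PSL2} (hK : IsPGroup r K) :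
    ∀ x ∈ K, ∀ y ∈ K, x * y = y * x := by
  have hrf : Fact r.Prime := ⟨hr⟩
  have : Finite PSL2 := inferInstance
  intro x hx y hy
  by_cases hx1 : x = 1
  · rw [hx1]; simp
  have hnt : Nontrivial K := ⟨⟨⟨x, hx⟩, 1, fun h => hx1 (congrArg Subtype.val h)⟩⟩
  have hct := hK.center_nontrivial
  obtain ⟨c, hc⟩ := exists_ne (1 : Subgroup.center K)
  have hc1 : ((c : K) : PSL2) ≠ 1 := by
    intro h0
    exact hc (Subtype.ext (Subtype.ext h0))
  have hcx : ∀ z ∈ K, z * ((c : K) : PSL2) = ((c : K) : PSL2) * z := by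
    intro z hz
    exact congrArg Subtype.val (Subgroup.mem_center_iff.1 c.2 ⟨z, hz⟩)
  refine comm_of_comm hc1 ?_ (hcx x hx) (hcx y hy)
  rcases h with h | h
  · right
    intro h0
    obtain ⟨k, hk⟩ := hK (c : K)
    have h3 : ((c : K) : PSL2) ^ r ^ k = 1 := by simpa using congrArg Subtype.val hk
    have h4 : orderOf ((c : K) : PSL2) ∣ r ^ k := orderOf_dvd_of_pow_eq_one h3
    have h5 : orderOf ((c : K) : PSL2) ∣ 2 := orderOf_dvd_of_pow_eq_one (by rw [pow_two, h0])
    have h6 : (r ^ k).Coprime 2 := ((Nat.coprime_primes hr Nat.prime_two).2 h).pow_left k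
    exact hc1 (orderOf_eq_one_iff.1 (Nat.eq_one_of_dvd_coprimes h6 h4 h5))
  · exact Or.inl h

end PSL

end Cfsg.Agent.Lib.CSPs
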