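import Mathlib
import Cfsg.Agent.Lib.CSPs

/-!
# Groups with the class sizes of `PSL(2,q)`: splitting, group theory (helper69)
-/

set_option autoImplicit false
set_option linter.unusedSectionVars false

namespace Cfsg.Agent.Lib.CSP

open Subgroup

variable {G : Type*} [Group G] [Finite G] {A B D : ℕ}

/-- commuting modulo the centre implies commuting -/
theorem comm_lift {r : ℕ} (hr : r.Prime) {y : G} (hyr : ∃ k, orderOf (QuotientGroup.mk y : G ⧸ center G) = r ^ k)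
    (hn : ¬ r ∣ n y) {x : G} (hx : (QuotientGroup.mk x : G ⧸ center G) * QuotientGroup.mk y =
      QuotientGroup.mk y * QuotientGroup.mk x) : x * y = y * x := by
  obtain ⟨j, hj⟩ := card_cent_mk hr y hyr
  set H : Subgroup G := (centralizer ({(QuotientGroup.mk y : G ⧸ center G)} : Set (G ⧸ center G))).comap
    (QuotientGroup.mk' (center G)) with hH
  have hCH : C y ≤ H := by
    intro z hz
    rw [hH, mem_comap, mem_centralizer_singleton_iff]
    have := mem_C.1 hz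
    exact congrArg (QuotientGroup.mk : G → G ⧸ center G) this
  have h1 : Nat.card (centralizer ({(QuotientGroup.mk y : G ⧸ center G)} : Set (G ⧸ center G))) =
      (center G).relIndex H := by
    have h2 : (⊥ : Subgroup (G ⧸ center G)).relIndex
        (centralizer ({(QuotientGroup.mk y : G ⧸ center G)} : Set (G ⧸ center G))) =
        (center G).relIndex H := by
      have h3 := Subgroup.relIndex_comap (⊥ : Subgroup (G ⧸ center G)) (QuotientGroup.mk' (center G)) H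
      rw [MonoidHom.comap_bot, QuotientGroup.ker_mk'] at h3
      rw [h3, hH, Subgroup.map_comap_eq_self_of_surjective (QuotientGroup.mk'_surjective _)]
    rw [← h2, Subgroup.relIndex_bot_left]
  have hd0 : 0 < d y := by
    apply Nat.pos_of_ne_zero
    intro h0
    have h2 := d_mul_n y
    rw [h0, zero_mul] at h2
    exact (index_ne_zero_of_finite (H := center G)) h2.symm
  have hj0 : j = 0 := by
    by_contra hj0
    apply hn
    have h2 : d y * r ^ j ∣ d y * n y := by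
      rw [← hj, d_mul_n]
      exact Subgroup.card_subgroup_dvd_card _
    exact (dvd_pow_self r hj0).trans (Nat.dvd_of_mul_dvd_mul_left hd0 h2)
  rw [hj0, pow_zero, mul_one, h1, ← relIndex_mul_relIndex (center G) (C y) H (center_le y) hCH] at hj
  have h4 : (C y).relIndex H = 1 := by
    apply Nat.eq_of_mul_eq_mul_left hd0
    rw [mul_one]; exact hj
  have h5 : H ≤ C y := relIndex_eq_one.1 h4
  have h6 : x ∈ H := by
    rw [hH, mem_comap, mem_centralizer_singleton_iff]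
    exact hx
  exact mem_C.1 (h5 h6)

theorem mk_pow_prime {r : ℕ} (hr : r.Prime) {R : Subgroup G} (hR : IsPGroup r R) {y : G} (hy : y ∈ R) :
    ∃ k, orderOf (QuotientGroup.mk y : G ⧸ center G) = r ^ k := by
  obtain ⟨k, hk⟩ := hR ⟨y, hy⟩
  have hk1 : y ^ r ^ k = 1 := by simpa using congrArg Subtype.val hk
  have h2 : (QuotientGroup.mk y : G ⧸ center G) ^ r ^ k = 1 := by
    rw [← QuotientGroup.mk_pow, hk1]; rfl
  obtain ⟨j, -, hj⟩ := (Nat.dvd_prime_pow hr).1 (orderOf_dvd_of_pow_eq_one h2)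
  exact ⟨j, hj⟩

/-- Sylow subgroups with abelian image -/
theorem abel_sylow {r : ℕ} (hr : r.Prime) (R : Sylow r G)
    (hab : ∀ x ∈ (R : Subgroup G), ∀ y ∈ (R : Subgroup G), (QuotientGroup.mk x : G ⧸ center G) * QuotientGroup.mk y =
      QuotientGroup.mk y * QuotientGroup.mk x)
    (hn : ∀ y ∈ (R : Subgroup G), y ∉ center G → ¬ r ∣ n y) : IsMulCommutative (R : Subgroup G) := by
  refine ⟨⟨fun x y => Subtype.ext ?_⟩⟩
  change (x : G) * y = y * x
  by_cases hy : (y : G) ∈ center G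
  · exact mem_center_iff.1 hy x
  · exact comm_lift hr (mk_pow_prime hr R.2 y.2) (hn y y.2 hy) (hab x x.2 y y.2)

theorem Sizes.not_dvd (h : Sizes G A B D) {r : ℕ} (hr : r.Prime) (hr2 : r ≠ 2 ∨ ¬ 2 ∣ D) {R : Subgroup G}
    (hR : IsPGroup r R) {y : G} (hy : y ∈ R) (hyc : y ∉ center G) : ¬ r ∣ n y := by
  obtain ⟨k, hk⟩ := mk_pow_prime hr hR hy
  have hrd : r ∣ d y := by
    refine dvd_trans ?_ (orderOf_mk_dvd y)
    rw [hk]
    refine dvd_pow_self r ?_
    rintro rfl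
    rw [pow_zero, orderOf_eq_one_iff] at hk
    exact ne_one_iff.2 hyc hk
  have hm := d_mul_n y
  rw [h.index_center] at hm
  have hA := h.hA; have hB := h.hB; have hD := h.hD
  have cA : r ∣ A → ¬ r ∣ B * D := fun h1 h2 =>
    hr.one_lt.ne' (Nat.eq_one_of_dvd_coprimes (h.hAB.mul_right h.hAD) h1 h2)
  have cB : r ∣ B → ¬ r ∣ A * D := fun h1 h2 =>
    hr.one_lt.ne' (Nat.eq_one_of_dvd_coprimes (h.hAB.symm.mul_right h.hBD) h1 h2)
  have cD : r ∣ D → ¬ r ∣ A * B := fun h1 h2 =>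
    hr.one_lt.ne' (Nat.eq_one_of_dvd_coprimes (h.hAD.symm.mul_right h.hBD.symm) h1 h2)
  rcases h.d_cases hyc with h2 | h2 | h2 | h2
  · have e : n y = B * D := by
      apply Nat.eq_of_mul_eq_mul_left (by omega : 0 < A)
      rw [← mul_assoc, ← hm, h2]
    rw [e]; exact cA (h2 ▸ hrd)
  · have e : n y = A * D := by
      apply Nat.eq_of_mul_eq_mul_left (by omega : 0 < B)
      rw [show B * (A * D) = A * B * D by ring, ← hm, h2]
    rw [e]; exact cB (h2 ▸ hrd)
  · have e : n y = A * B := by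
      apply Nat.eq_of_mul_eq_mul_left (by omega : 0 < D)
      rw [show D * (A * B) = A * B * D by ring, ← hm, h2]
    rw [e]; exact cD (h2 ▸ hrd)
  · have hrD : r ∣ D := by rw [← h2]; exact hrd.mul_left _
    have hr2' : r ≠ 2 := by
      rcases hr2 with h3 | h3
      · exact h3
      · exact absurd ⟨d y, h2.symm⟩ h3
    have e : n y = 2 * (A * B) := by
      have hd0 : 0 < d y := by omega
      apply Nat.eq_of_mul_eq_mul_left hd0
      rw [hm, ← h2]; ring
    rw [e]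
    intro h4
    rcases (Nat.Prime.dvd_mul hr).1 h4 with h5 | h5
    · exact hr2' ((Nat.prime_dvd_prime_iff_eq hr Nat.prime_two).1 h5)
    · exact cD hrD h5

/-- the 2-part of the transfer argument -/
theorem two_part (Q : Sylow 2 G) (S0 : Subgroup G) (b : G) (hbQ : b ∈ (Q : Subgroup G)) (h0 : S0 ≤ (Q : Subgroup G))
    (hc : ∀ x ∈ S0, ∀ y ∈ S0, x * y = y * x) (hcov : ∀ x ∈ (Q : Subgroup G), x ∈ S0 ∨ b⁻¹ * x ∈ S0)
    (hconj : ∀ s ∈ S0, b * s * b⁻¹ ∈ S0) (hz : ∀ s ∈ S0, s * b * s⁻¹ * b⁻¹ ∈ center G → s * b = b * s)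
    {w : G} (hw : w ∈ (Q : Subgroup G)) (hwZ : w ∈ center G) (hwC : w ∈ commutator G) : w = 1 := by
  have h2f : Fact (Nat.Prime 2) := ⟨Nat.prime_two⟩
  -- the subgroup of the commutators
  have hin : ∀ s ∈ S0, s * (b * s⁻¹ * b⁻¹) ∈ S0 := fun s hs => mul_mem hs (hconj _ (inv_mem hs))
  let N1 : Subgroup G :=
    { carrier := {x | ∃ s ∈ S0, x = s * (b * s⁻¹ * b⁻¹)}
      one_mem' := ⟨1, one_mem _, by group⟩
      mul_mem' := by
        rintro x y ⟨s, hs, rfl⟩ ⟨u, hu, rfl⟩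
        refine ⟨s * u, mul_mem hs hu, ?_⟩
        have e1 := hc _ (hconj _ (inv_mem hs)) u hu
        have e2 := hc _ (hconj _ (inv_mem hs)) _ (hconj _ (inv_mem hu))
        calc s * (b * s⁻¹ * b⁻¹) * (u * (b * u⁻¹ * b⁻¹)) = s * ((b * s⁻¹ * b⁻¹) * u) * (b * u⁻¹ * b⁻¹) := by group
          _ = s * u * ((b * s⁻¹ * b⁻¹) * (b * u⁻¹ * b⁻¹)) := by rw [e1]; group
          _ = s * u * (b * (s * u)⁻¹ * b⁻¹) := by rw [e2]; group
      inv_mem' := by
        rintro x ⟨s, hs, rfl⟩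
        refine ⟨s⁻¹, inv_mem hs, ?_⟩
        have e1 := hc _ (hconj _ hs) _ (inv_mem hs)
        rw [inv_inv]
        calc (s * (b * s⁻¹ * b⁻¹))⁻¹ = (b * s * b⁻¹) * s⁻¹ := by group
          _ = s⁻¹ * (b * s * b⁻¹) := e1 }
  have hN1 : ∀ x, x ∈ N1 ↔ ∃ s ∈ S0, x = s * (b * s⁻¹ * b⁻¹) := fun x => Iff.rfl
  have key : ∀ x ∈ (Q : Subgroup G), ∀ y ∈ (Q : Subgroup G), x * y * x⁻¹ * y⁻¹ ∈ N1 := by
    intro x hx y hy
    rcases hcov x hx with hxS | hxS <;> rcases hcov y hy with hyS | hyS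
    · have : x * y * x⁻¹ * y⁻¹ = 1 := by rw [hc x hxS y hyS]; group
      rw [this]; exact one_mem _
    · refine (hN1 _).2 ⟨x, hxS, ?_⟩
      set s := b⁻¹ * y with hs
      have hy' : y = b * s := by rw [hs]; group
      have e := hc _ hyS _ (inv_mem hxS)
      rw [hy']
      calc x * (b * s) * x⁻¹ * (b * s)⁻¹ = x * b * (s * x⁻¹) * s⁻¹ * b⁻¹ := by group
        _ = x * (b * x⁻¹ * b⁻¹) := by rw [e]; group
    · refine (hN1 _).2 ⟨y⁻¹, inv_mem hyS, ?_⟩
      set s := b⁻¹ * x with hs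
      have hx' : x = b * s := by rw [hs]; group
      have e := hc _ hxS _ hyS
      rw [hx', inv_inv]
      have e2 := hc _ (hconj _ hyS) _ (inv_mem hyS)
      calc b * s * y * (b * s)⁻¹ * y⁻¹ = b * (s * y) * s⁻¹ * b⁻¹ * y⁻¹ := by group
        _ = (b * y * b⁻¹) * y⁻¹ := by rw [e]; group
        _ = y⁻¹ * (b * y * b⁻¹) := e2
    · set s := b⁻¹ * x with hs
      set u := b⁻¹ * y with hu
      have hx' : x = b * s := by rw [hs]; group
      have hy' : y = b * u := by rw [hu]; group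
      refine (hN1 _).2 ⟨b * (s * u⁻¹) * b⁻¹, hconj _ (mul_mem hxS (inv_mem hyS)), ?_⟩
      rw [hx', hy']
      have hv : b * (u * s⁻¹) * b⁻¹ ∈ S0 := hconj _ (mul_mem hyS (inv_mem hxS))
      have e1 := hc _ hv _ (inv_mem hyS)
      have e2 := hc _ hxS _ (inv_mem hyS)
      calc b * s * (b * u) * (b * s)⁻¹ * (b * u)⁻¹ = b * (s * ((b * (u * s⁻¹) * b⁻¹) * u⁻¹)) * b⁻¹ := by group
        _ = b * ((s * u⁻¹) * (b * (u * s⁻¹) * b⁻¹)) * b⁻¹ := by rw [e1]; group
        _ = b * (s * u⁻¹) * b⁻¹ * (b * (b * (s * u⁻¹) * b⁻¹)⁻¹ * b⁻¹) := by group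
  -- transfer
  have h1 := TransferApps.transfer_of_mem_center (H := (Q : Subgroup G)) (Abelianization.of) w hwZ hw
  have h2 := TransferApps.transfer_of_mem_commutator (H := (Q : Subgroup G)) (Abelianization.of) w hwC
  rw [h2] at h1
  have h3 : (Abelianization.of (⟨w, hw⟩ : (Q : Subgroup G))) ^ Nat.card Q = 1 := by
    rw [← map_pow, pow_card_eq_one', map_one]
  have h4 : Abelianization.of (⟨w, hw⟩ : (Q : Subgroup G)) = 1 := by
    have h5 := orderOf_dvd_of_pow_eq_one h1.symm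
    have h6 := orderOf_dvd_of_pow_eq_one h3
    exact orderOf_eq_one_iff.1 (Nat.eq_one_of_dvd_coprimes Q.card_coprime_index h6 h5)
  have h5 : (⟨w, hw⟩ : (Q : Subgroup G)) ∈ commutator (Q : Subgroup G) := by
    rw [← Abelianization.ker_of]; exact h4
  have h6 : commutator (Q : Subgroup G) ≤ N1.subgroupOf (Q : Subgroup G) := by
    rw [commutator_def, Subgroup.commutator_le]
    intro x _ y _
    rw [mem_subgroupOf]
    exact key x x.2 y y.2
  obtain ⟨s, hs, hws⟩ := (hN1 w).1 (mem_subgroupOf.1 (h6 h5))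
  have h7 := hz s hs (by
    have : s * b * s⁻¹ * b⁻¹ = w := by rw [hws]; group
    rw [this]; exact hwZ)
  rw [hws]
  calc s * (b * s⁻¹ * b⁻¹) = (s * b) * s⁻¹ * b⁻¹ := by group
    _ = 1 := by rw [h7]; group

/-- a `p`-subgroup is conjugate into any subgroup of index prime to `p` -/
theorem exists_conj_le {r : ℕ} (hr : r.Prime) {Q : Subgroup G} (hQ : IsPGroup r Q) {H : Subgroup G}
    (hH : ¬ r ∣ H.index) : ∃ g : G, ∀ x ∈ Q, g⁻¹ * x * g ∈ H := by
  have hrf : Fact r.Prime := ⟨hr⟩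
  obtain ⟨x, hx⟩ := hQ.nonempty_fixed_point_of_prime_not_dvd_card (G ⧸ H) hH
  obtain ⟨g, rfl⟩ := QuotientGroup.mk_surjective x
  refine ⟨g, fun a ha => ?_⟩
  have h1 := hx ⟨a, ha⟩
  have h2 : (QuotientGroup.mk (a * g) : G ⧸ H) = QuotientGroup.mk g := h1
  rw [eq_comm, QuotientGroup.eq] at h2
  rw [mul_assoc]; exact h2

end Cfsg.Agent.Lib.CSP
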