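import Mathlib
import Cfsg.Agent.Lib.CSPt

/-!
# Groups with the class sizes of `PSL(2,q)`: splitting, conclusion (helper69)
-/

set_option autoImplicit false
set_option linter.unusedSectionVars false

namespace Cfsg.Agent.Lib.CSP

open Subgroup
open scoped commutatorElement

variable {G : Type*} [Group G] [Finite G] {F : Type*} [Field F] [Fintype F]

local notation "PSL2" => Matrix.ProjectiveSpecialLinearGroup (Fin 2) F

/-- the quotient map to `PSL(2,q)` -/
def quo (e : G ⧸ center G ≃* PSL2) : G →* PSL2 := e.toMonoidHom.comp (QuotientGroup.mk' (center G))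

theorem quo_surj (e : G ⧸ center G ≃* PSL2) : Function.Surjective (quo e) :=
  e.surjective.comp (QuotientGroup.mk'_surjective _)

theorem quo_eq_one (e : G ⧸ center G ≃* PSL2) {x : G} : quo e x = 1 ↔ x ∈ center G := by
  change e (QuotientGroup.mk x) = 1 ↔ _
  rw [map_eq_one_iff e e.injective, QuotientGroup.eq_one_iff]

/-- odd primes, or even `q` -/
theorem split_abel (e : G ⧸ center G ≃* PSL2) {A B D r : ℕ} (h : Sizes G A B D) (hr : r.Prime)
    (hr2 : r ≠ 2 ∨ (¬ 2 ∣ D ∧ (2 : F) = 0)) (R : Sylow r G) {w : G} (hw : w ∈ (R : Subgroup G)) (hwZ : w ∈ center G)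
    (hwC : w ∈ commutator G) : w = 1 := by
  have hrf : Fact r.Prime := ⟨hr⟩
  have hR : IsPGroup r ((R : Subgroup G).map (quo e)) := R.2.map _
  have h1 := CSPs.pgroup_comm (F := F) hr (hr2.imp id And.right) hR
  have h2 : IsMulCommutative (R : Subgroup G) := by
    refine abel_sylow hr R ?_ ?_
    · intro x hx y hy
      apply e.injective
      rw [map_mul, map_mul]
      exact h1 _ ⟨x, hx, rfl⟩ _ ⟨y, hy, rfl⟩
    · intro y hy hyc
      exact h.not_dvd hr (hr2.imp id And.left) R.2 hy hyc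
  have h3 := TransferApps.abelian_hall_inf_commutator_inf_center (R : Subgroup G) h2 R.card_coprime_index
  have h4 : w ∈ (R : Subgroup G) ⊓ commutator G ⊓ center G := ⟨⟨hw, hwC⟩, hwZ⟩
  rw [h3] at h4
  exact h4

/-- the prime 2, odd `q` -/
theorem split_two (e : G ⧸ center G ≃* PSL2) {q B D : ℕ} (h : Sizes G q B D) (h2 : (2 : F) ≠ 0)
    (hF : Fintype.card F = q) (hqo : Odd q) (hBo : Odd B) (hBD : (q ^ 2 - 1) / 2 = B * D)
    (hp : q + 1 = D ∨ q + 1 = 2 * B) (hm : q - 1 = D ∨ q - 1 = 2 * B)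
    (Q : Sylow 2 G) {w : G} (hw : w ∈ (Q : Subgroup G)) (hwZ : w ∈ center G)
    (hwC : w ∈ commutator G) : w = 1 := by
  have hA := h.hA; have hB := h.hB; have hD := h.hD
  obtain ⟨t0, ht0⟩ := h.h3
  have hidx : ¬ 2 ∣ (C t0).index := by
    change ¬ 2 ∣ n t0
    rw [ht0, ← even_iff_two_dvd, Nat.not_even_iff_odd]
    exact hqo.mul hBo
  obtain ⟨g, hg⟩ := exists_conj_le Nat.prime_two Q.2 hidx
  set t := g * t0 * g⁻¹ with ht
  have htn : n t = q * B := by rw [ht, n_conj, ht0]
  have htQ : ∀ x ∈ (Q : Subgroup G), x * t = t * x := by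
    intro x hx
    have h1 : x ∈ C t := by rw [ht, C_conj]; exact hg x hx
    exact mem_C.1 h1
  have htc : t ∉ center G := not_center_of_n htn (by nlinarith)
  clear_value t
  have hτ1 : quo e t ≠ 1 := fun h1 => htc ((quo_eq_one e).1 h1)
  have hdvd : (centralizer ({quo e t} : Set PSL2)).index ∣ q * B := by
    rw [← htn, ← index_comap_of_surjective _ (quo_surj e)]
    refine index_dvd_of_le ?_
    intro z hz
    rw [mem_comap, mem_centralizer_singleton_iff]
    have h1 : z * t = t * z := mem_C.1 hz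
    rw [← map_mul, h1, map_mul]
  have hτ := CSPs.sq_of_index h2 hF hB (by omega) (by omega) h.hAD h.hBD hBD hp hm hτ1 hdvd
  obtain ⟨K, hKc, hK1, hK2, hK3⟩ := CSPs.invol_data h2 hτ1 hτ
  set S0 : Subgroup G := (Q : Subgroup G) ⊓ K.comap (quo e) with hS0
  have hcom : ∀ x ∈ (Q : Subgroup G), quo e x * quo e t = quo e t * quo e x := by
    intro x hx
    rw [← map_mul, htQ x hx, map_mul]
  have hc : ∀ x ∈ S0, ∀ y ∈ S0, x * y = y * x := by
    intro x hx y hy
    let f : S0 →* K := ((quo e).comp S0.subtype).codRestrict K (fun z => (mem_inf.1 z.2).2)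
    have hf : f.ker ≤ center S0 := by
      intro z hz
      have h1 : quo e (z : G) = 1 := congrArg Subtype.val ((MonoidHom.mem_ker).1 hz)
      rw [quo_eq_one] at h1
      rw [mem_center_iff]
      intro u
      exact Subtype.ext (mem_center_iff.1 h1 u)
    have h1 := MonoidHom.isMulCommutative_of_isCyclic_of_ker_le_center f hf
    exact congrArg Subtype.val (h1.is_comm.comm (⟨x, hx⟩ : S0) ⟨y, hy⟩)
  by_cases hb : ∃ b ∈ (Q : Subgroup G), quo e b ∉ K
  · obtain ⟨b, hbQ, hbK⟩ := hb
    refine two_part Q S0 b hbQ inf_le_left hc ?_ ?_ ?_ hw hwZ hwC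
    · intro x hx
      by_cases hxK : quo e x ∈ K
      · exact Or.inl ⟨hx, hxK⟩
      · right
        refine mem_inf.2 ⟨mul_mem (inv_mem hbQ) hx, ?_⟩
        rw [mem_comap, map_mul, map_inv]
        exact hK1 _ _ (hcom x hx) (hcom b hbQ) hxK hbK
    · intro s hs
      refine mem_inf.2 ⟨mul_mem (mul_mem hbQ hs.1) (inv_mem hbQ), ?_⟩
      rw [mem_comap, map_mul, map_mul, map_inv, hK2 _ (hcom b hbQ) hbK _ hs.2]
      exact inv_mem hs.2
    · intro s hs hz
      have h1 := (quo_eq_one e).2 hz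
      rw [map_mul, map_mul, map_mul, map_inv, map_inv] at h1
      have h3 := hK2 _ (hcom b hbQ) hbK _ (inv_mem hs.2 : (quo e s)⁻¹ ∈ K)
      rw [inv_inv] at h3
      have h4 : quo e s * quo e s = 1 := by
        calc quo e s * quo e s = quo e s * (quo e b * (quo e s)⁻¹ * (quo e b)⁻¹) := by rw [h3]
          _ = 1 := by rw [← mul_assoc, ← mul_assoc]; exact h1
      rcases hK3 _ hs.2 h4 with h5 | h5
      · exact (mem_center_iff.1 ((quo_eq_one e).1 h5) b).symm
      · have h6 : s * t⁻¹ ∈ center G := by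
          rw [← quo_eq_one e, map_mul, map_inv, h5, mul_inv_cancel]
        have h7 := mem_center_iff.1 h6 b
        calc s * b = (s * t⁻¹) * (t * b) := by group
          _ = (s * t⁻¹) * (b * t) := by rw [htQ b hbQ]
          _ = (s * t⁻¹ * b) * t := by group
          _ = (b * (s * t⁻¹)) * t := by rw [h7]
          _ = b * s := by group
  · push Not at hb
    refine two_part Q S0 1 (one_mem _) inf_le_left hc ?_ ?_ ?_ hw hwZ hwC
    · intro x hx
      exact Or.inl ⟨hx, hb x hx⟩
    · intro s hs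
      rw [one_mul, inv_one, mul_one]; exact hs
    · intro s _ _
      rw [one_mul, mul_one]

theorem inf_eq_bot_of_primes
    (h : ∀ r : ℕ, r.Prime → ∀ R : Sylow r G, ∀ w ∈ (R : Subgroup G), w ∈ center G → w ∈ commutator G → w = 1) :
    commutator G ⊓ center G = ⊥ := by
  by_contra hne
  have hcard : Nat.card (commutator G ⊓ center G : Subgroup G) ≠ 1 := fun h => hne (Subgroup.card_eq_one.mp h)
  obtain ⟨p, hp, hd⟩ := Nat.exists_prime_and_dvd hcard
  have : Fact p.Prime := ⟨hp⟩
  obtain ⟨x, hx⟩ := exists_prime_orderOf_dvd_card' p hd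
  have hz : IsPGroup p (Subgroup.zpowers (x : G)) := by
    apply IsPGroup.of_card (n := 1)
    rw [Nat.card_zpowers, Subgroup.orderOf_coe, hx, pow_one]
  obtain ⟨Q, hQ⟩ := hz.exists_le_sylow
  have h1 := h p hp Q x (hQ (Subgroup.mem_zpowers _)) x.2.2 x.2.1
  have h5 : orderOf x = 1 := by rw [← Subgroup.orderOf_coe, h1, orderOf_one]
  rw [hx] at h5
  exact hp.one_lt.ne' h5

theorem comm_inf_center (e : G ⧸ center G ≃* PSL2)
    (hq : (2 ∣ Fintype.card F ∧ 2 < Fintype.card F) ∨ (¬ 2 ∣ Fintype.card F ∧ 7 ≤ Fintype.card F))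
    (h : Set.range (fun g : G => (Subgroup.centralizer ({g} : Set G)).index) =
      Set.range (fun g : PSL2 => (Subgroup.centralizer ({g} : Set PSL2)).index)) :
    commutator G ⊓ center G = ⊥ := by
  apply inf_eq_bot_of_primes
  intro r hr R w hw hwZ hwC
  obtain ⟨p, hchar⟩ := CharP.exists F
  obtain ⟨f, hp, hpf⟩ := FiniteField.card F p
  rcases hq with ⟨h2, h3⟩ | ⟨h2, h7⟩
  · have hp2 : p = 2 := by
      rw [hpf] at h2
      exact ((Nat.prime_dvd_prime_iff_eq Nat.prime_two hp).1 (Nat.prime_two.dvd_of_dvd_pow h2)).symm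
    subst hp2
    have h20 : (2 : F) = 0 := CharTwo.two_eq_zero
    have hf2 : 2 ≤ (f : ℕ) := by
      by_contra hcon
      have : (f : ℕ) = 0 ∨ (f : ℕ) = 1 := by omega
      rcases this with h0 | h0 <;> rw [hpf, h0] at h3 <;> norm_num at h3
    have h4 : 4 ≤ Fintype.card F := by
      obtain ⟨k, hk⟩ := h2; omega
    have hS := sizes_even (G := G) h2 h4 (h.trans (Cfsg.Agent.S2507.result h2 h4))
    have hodd : ¬ 2 ∣ Fintype.card F + 1 := by omega
    exact split_abel e hS hr (Or.inr ⟨hodd, h20⟩) R hw hwZ hwC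
  · have hodd : Odd (Fintype.card F) := by
      rw [← Nat.not_even_iff_odd, even_iff_two_dvd]; exact h2
    have h20 : (2 : F) ≠ 0 := by
      intro h20
      have h5 : p ∣ 2 := by
        have : ((2 : ℕ) : F) = 0 := by exact_mod_cast h20
        exact (CharP.cast_eq_zero_iff F p 2).1 this
      have h6 : p = 2 := (Nat.prime_dvd_prime_iff_eq hp Nat.prime_two).1 h5
      apply h2
      rw [hpf, h6]
      exact dvd_pow_self _ f.pos.ne'
    obtain ⟨h1, h3⟩ := Cfsg.Agent.S2508.result (F := F) h2 h7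
    have hmod : Fintype.card F % 4 = 1 ∨ Fintype.card F % 4 = 3 := by
      obtain ⟨k, hk⟩ := hodd; omega
    have hF : Fintype.card F = Fintype.card F := rfl
    set q := Fintype.card F with hqd
    rcases hmod with hm | hm
    · have hS := sizes_odd1 (G := G) hm h7 (h.trans (h1 hm))
      obtain ⟨k, hk⟩ : ∃ k, q = 4 * k + 1 := ⟨q / 4, by omega⟩
      have e1 : (q + 1) / 2 = 2 * k + 1 := by omega
      have e2 : q - 1 = 4 * k := by omega
      have e3 : (q ^ 2 - 1) / 2 = (2 * k + 1) * (4 * k) := by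
        have : q ^ 2 - 1 = 2 * ((2 * k + 1) * (4 * k)) := by
          have h1 : q ^ 2 = 2 * ((2 * k + 1) * (4 * k)) + 1 := by rw [hk]; ring
          omega
        rw [this]; omega
      rcases eq_or_ne r 2 with rfl | hr2
      · refine split_two e hS h20 hF hodd ⟨k, e1⟩ ?_ (Or.inr (by omega)) (Or.inl rfl) R hw hwZ hwC
        rw [e3, e1, e2]
      · exact split_abel e hS hr (Or.inl hr2) R hw hwZ hwC
    · have hS := sizes_odd3 (G := G) hm h7 (h.trans (h3 hm))
      obtain ⟨k, hk⟩ : ∃ k, q = 4 * k + 3 := ⟨q / 4, by omega⟩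
      have e1 : (q - 1) / 2 = 2 * k + 1 := by omega
      have e2 : q + 1 = 4 * (k + 1) := by omega
      have e3 : (q ^ 2 - 1) / 2 = (2 * k + 1) * (4 * (k + 1)) := by
        have : q ^ 2 - 1 = 2 * ((2 * k + 1) * (4 * (k + 1))) := by
          have h1 : q ^ 2 = 2 * ((2 * k + 1) * (4 * (k + 1))) + 1 := by rw [hk]; ring
          omega
        rw [this]; omega
      rcases eq_or_ne r 2 with rfl | hr2
      · refine split_two e hS h20 hF hodd ⟨k, e1⟩ ?_ (Or.inl rfl) (Or.inr (by omega)) R hw hwZ hwC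
        rw [e3, e1, e2]
      · exact split_abel e hS hr (Or.inl hr2) R hw hwZ hwC

theorem split (e : G ⧸ center G ≃* PSL2) (h4 : 4 ≤ Fintype.card F)
    (h : Set.range (fun g : G => (Subgroup.centralizer ({g} : Set G)).index) =
      Set.range (fun g : PSL2 => (Subgroup.centralizer ({g} : Set PSL2)).index))
    (hbot : commutator G ⊓ center G = ⊥) :
    ∃ N A : Subgroup G, N.Normal ∧ A ≤ Subgroup.center G ∧ N ⊓ A = ⊥ ∧ N ⊔ A = ⊤ ∧ Nonempty (N ≃* PSL2) := by
  have hs : IsSimpleGroup PSL2 :=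
    Matrix.ProjectiveSpecialLinearGroup.rank_two_simple (by rw [Nat.card_eq_fintype_card]; omega)
  have h1 : commutator PSL2 = ⊤ := by
    rcases IsSimpleGroup.eq_bot_or_eq_top_of_normal (commutator PSL2) inferInstance with h0 | h0
    · exfalso
      have hcomm : ∀ a b : PSL2, a * b = b * a := by
        intro a b
        have h1 : ⁅a, b⁆ ∈ commutator PSL2 :=
          Subgroup.commutator_mem_commutator (Subgroup.mem_top a) (Subgroup.mem_top b)
        rw [h0, Subgroup.mem_bot, commutatorElement_eq_one_iff_mul_comm] at h1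
        exact h1
      have hall : ∀ x : G, x ∈ center G := by
        intro x
        have h1 : n x ∈ Set.range (fun g : G => (Subgroup.centralizer ({g} : Set G)).index) := ⟨x, rfl⟩
        rw [h] at h1
        obtain ⟨g, hg⟩ := h1
        have h2 : centralizer ({g} : Set PSL2) = ⊤ := by
          rw [eq_top_iff]
          intro z _
          exact mem_centralizer_singleton_iff.2 (hcomm z g)
        have h3 : n x = 1 := by
          rw [← hg]
          change (centralizer ({g} : Set PSL2)).index = 1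
          rw [h2, index_top]
        by_contra hx
        exact n_ne_one hx h3
      obtain ⟨y, hy⟩ := exists_ne (1 : PSL2)
      obtain ⟨x, rfl⟩ := quo_surj e y
      exact hy ((quo_eq_one e).2 (hall x))
    · exact h0
  have h2 : (commutator G).map (quo e) = ⊤ := by
    rw [← h1, _root_.commutator_def, _root_.commutator_def, Subgroup.map_commutator,
      ← MonoidHom.range_eq_map, MonoidHom.range_eq_top.2 (quo_surj e)]
  have htop : commutator G ⊔ center G = ⊤ := by
    rw [eq_top_iff]
    intro x _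
    have h3 : quo e x ∈ (commutator G).map (quo e) := by rw [h2]; trivial
    obtain ⟨y, hy, hyx⟩ := h3
    have h4 : y⁻¹ * x ∈ center G := by
      rw [← quo_eq_one e, map_mul, map_inv, hyx, inv_mul_cancel]
    have h5 : x = y * (y⁻¹ * x) := by group
    rw [h5]
    exact mul_mem_sup hy h4
  refine ⟨commutator G, center G, inferInstance, le_rfl, hbot, htop, ?_⟩
  refine ⟨MulEquiv.ofBijective ((quo e).comp (commutator G).subtype) ⟨?_, ?_⟩⟩
  · rw [injective_iff_map_eq_one]
    intro x hx
    have h3 : (x : G) ∈ center G := (quo_eq_one e).1 hx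
    have h4 : (x : G) ∈ commutator G ⊓ center G := ⟨x.2, h3⟩
    rw [hbot, mem_bot] at h4
    exact Subtype.ext h4
  · intro y
    have h3 : y ∈ (commutator G).map (quo e) := by rw [h2]; trivial
    obtain ⟨x, hx, hxy⟩ := h3
    exact ⟨⟨x, hx⟩, hxy⟩

end Cfsg.Agent.Lib.CSP
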