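import Mathlib
import Cfsg.Agent.Lib.BlockPC
import Cfsg.Agent.Lib.BlockTop

set_option autoImplicit false
set_option linter.all false

/-!
# Characters of a block of `G = D C(D)` with defect group `D`
-/

namespace Cfsg.Agent.Lib.CanonForm

open Cfsg Cfsg.Agent.Lib.BlockRing Cfsg.Agent.Lib.BlockGA Cfsg.Agent.Lib.BlockIdem Cfsg.Agent.Lib.BlockDefect
  Cfsg.Agent.Lib.BlockDeg Cfsg.Agent.Lib.PPart Cfsg.Agent.Lib.IndFun Cfsg.Agent.Lib.BlockPair
  Cfsg.Agent.Lib.BlockCentral Cfsg.Agent.Lib.BlockPC Cfsg.Agent.Lib.BlockCount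

universe u
variable {G : Type u} [Group G] [Finite G] {p : ℕ} {M : Ideal AlgInt}

theorem result (hM : IsPModular p M) (D : Subgroup G) (hD : IsPGroup p D)
    (hG : D ⊔ Subgroup.centralizer (D : Set G) = ⊤) (B : Set (IrrCharacter G)) (hB : IsPBlock M B)
    (hBD : IsDefectGroup p M B D) (χ : IrrCharacter G) (hχ : χ ∈ B)
    (hχD : ∀ y ∈ D, (χ : G → ℂ) y = (χ : G → ℂ) 1) :
    (∀ θ : IrrCharacter G, θ ∈ B ↔ ∃ ζ : IrrCharacter D,
      (∀ (y : D) (x : G), ¬ p ∣ orderOf x → Commute (y : G) x → (θ : G → ℂ) ((y : G) * x) = (ζ : D → ℂ) y * (χ : G → ℂ) x) ∧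
      (∀ z : G, (∀ y : G, IsPPart p z y → y ∉ D) → (θ : G → ℂ) z = 0)) ∧
    ∀ ζ : IrrCharacter D, ∃ θ ∈ B,
      (∀ (y : D) (x : G), ¬ p ∣ orderOf x → Commute (y : G) x → (θ : G → ℂ) ((y : G) * x) = (ζ : D → ℂ) y * (χ : G → ℂ) x) ∧
      (∀ z : G, (∀ y : G, IsPPart p z y → y ∉ D) → (θ : G → ℂ) z = 0) := by
  classical
  haveI := isPrime hM
  haveI : Fact p.Prime := ⟨hM.1⟩
  haveI := Fintype.ofFinite G
  haveI := Fintype.ofFinite D
  haveI := normal_of_sup hG
  obtain ⟨e, f, he⟩ := exists_isRegExp p hM.1 G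
  have hpp : ∀ z : G, IsPPart p z (z ^ f) := fun z =>
    ⟨z ^ e, by rw [← pow_add, add_comm, he.pow_add], Commute.pow_pow_self z f e, he.sing z, he.reg z⟩
  have key : ∀ ζ : IrrCharacter D,
      (∀ (y : D) (x : G), ¬ p ∣ orderOf x → Commute (y : G) x →
        (irrOf hM hD hG hB hBD hχ hχD he ζ : G → ℂ) ((y : G) * x) = (ζ : D → ℂ) y * (χ : G → ℂ) x) ∧
      (∀ z : G, (∀ y : G, IsPPart p z y → y ∉ D) → (irrOf hM hD hG hB hBD hχ hχD he ζ : G → ℂ) z = 0) := by
    intro ζ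
    refine ⟨fun y x hx _ => chi_mul hM hD hG he _ y hx, fun z hz => ?_⟩
    exact chi_not_mem (hz _ (hpp z))
  refine ⟨fun θ => ⟨fun hθ => ?_, ?_⟩, fun ζ => ⟨irrOf hM hD hG hB hBD hχ hχD he ζ, irrOf_mem hM hD hG hB hBD hχ hχD he ζ, key ζ⟩⟩
  · obtain ⟨μ, hμ, h1⟩ := (θ.2.isCharacter.restrict D).exists_constituent (by
      intro h
      exact θ.2.one_ne_zero (by
        have := congrFun h 1
        simpa using this))
    have h2 := eq_irrOf hM hD hG hB hBD hχ hχD he hθ (μ := ⟨μ, hμ⟩) h1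
    refine ⟨⟨μ, hμ⟩, ?_⟩
    rw [h2]
    exact key ⟨μ, hμ⟩
  · rintro ⟨ζ, h1, h2⟩
    have h3 : θ = irrOf hM hD hG hB hBD hχ hχD he ζ := by
      apply Subtype.ext
      funext g
      by_cases hg : g ^ f ∈ D
      · have h4 : g = ((⟨g ^ f, hg⟩ : D) : G) * g ^ e := by
          change g = g ^ f * g ^ e
          rw [← pow_add, add_comm, he.pow_add]
        rw [h4, h1 _ _ (he.reg g) (Commute.pow_pow_self g f e), (key ζ).1 _ _ (he.reg g) (Commute.pow_pow_self g f e)]
      · have h5 : ∀ y : G, IsPPart p g y → y ∉ D := by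
          rintro y ⟨x, hyx, hc, hy, hx⟩
          have h6 := (he.eq_of_mul (g := g) (s := x) (u := y) (by rw [← hyx]; exact hc.eq) hc.symm hx hy).2
          rw [← h6]
          exact hg
        rw [h2 g h5, (key ζ).2 g h5]
    rw [h3]
    exact irrOf_mem hM hD hG hB hBD hχ hχD he ζ

theorem blockRank_eq_one' (hp : p.Prime) {B : Set (IrrCharacter G)} {θ : IrrCharacter G} (hθ : θ ∈ B)
    (h : ∀ χ ∈ B, ∃ c : ℂ, ∀ g, ¬ p ∣ orderOf g → (χ : G → ℂ) g = c * (θ : G → ℂ) g) : blockRank p B = 1 := by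
  rw [BlockCount.blockRank_eq]
  have h1 : BlockCount.rsp p B = Submodule.span ℂ {preg p (θ : G → ℂ)} := by
    apply le_antisymm
    · apply Submodule.span_le.2
      rintro _ ⟨χ, hχ, rfl⟩
      obtain ⟨c, hc⟩ := h χ hχ
      have h2 : preg p (χ : G → ℂ) = c • preg p (θ : G → ℂ) := by
        funext g
        rw [Pi.smul_apply, smul_eq_mul]
        unfold preg
        split_ifs with hg
        · rw [mul_zero]
        · exact hc g hg
      show preg p (χ : G → ℂ) ∈ _
      rw [h2]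
      exact Submodule.smul_mem _ _ (Submodule.mem_span_singleton_self _)
    · rw [Submodule.span_singleton_le_iff_mem]
      exact Submodule.subset_span ⟨θ, hθ, rfl⟩
  rw [h1, finrank_span_singleton]
  intro h0
  have := congrFun h0 1
  unfold preg at this
  rw [if_neg (by rw [orderOf_one]; exact fun h => hp.one_lt.not_ge (Nat.le_of_dvd one_pos h))] at this
  exact θ.2.one_ne_zero this

theorem rank_one (hM : IsPModular p M) {B : Set (IrrCharacter G)} (hB : IsPBlock M B) (P : Subgroup G)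
    (hD : IsDefectGroup p M B P) (hPZ : P ≤ Subgroup.center G) : blockRank p B = 1 := by
  classical
  haveI := isPrime hM
  haveI : Fact p.Prime := ⟨hM.1⟩
  haveI := Fintype.ofFinite G
  haveI := Fintype.ofFinite P
  have hP : IsPGroup p P := defectGroup_isPGroup hD
  have hG : P ⊔ Subgroup.centralizer (P : Set G) = ⊤ := by
    rw [eq_top_iff]
    intro g _
    apply (le_sup_right : Subgroup.centralizer (P : Set G) ≤ _)
    rw [Subgroup.mem_centralizer_iff]
    intro x hx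
    exact (Subgroup.mem_center_iff.1 (hPZ hx) g).symm
  haveI := normal_of_sup hG
  obtain ⟨θ, hθ, hθP⟩ := BlockNormP.exists_trivial hM hP (unionOfBlocks_of_isPBlock hB) (isPBlock_nonempty hB)
  obtain ⟨e, f, he⟩ := exists_isRegExp p hM.1 G
  apply blockRank_eq_one' hM.1 hθ
  intro α hα
  obtain ⟨μ, hμ, h1⟩ := (α.2.isCharacter.restrict P).exists_constituent (by
      intro h
      exact α.2.one_ne_zero (by
        have := congrFun h 1
        simpa using this))
  have h2 := eq_irrOf hM hP hG hB hD hθ hθP he hα (μ := ⟨μ, hμ⟩) h1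
  refine ⟨μ 1, fun g hg => ?_⟩
  have h3 := chi_mul (θ := θ) hM hP hG he μ 1 hg
  rw [Subgroup.coe_one, one_mul] at h3
  rw [h2]
  exact h3

end Cfsg.Agent.Lib.CanonForm
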