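import Mathlib

set_option autoImplicit false

/-!
Two finite groups with the same Cayley graph are isomorphic (helper43); Sylow subgroups of groups
containing a common subgroup of odd index.
-/

namespace Cfsg.Agent.Lib.CayIso

variable {G G' ι : Type*} [Group G] [Group G']

theorem cay_iso {n : ℕ} [NeZero n] (σ : Fin n → ι → Fin n) (g : ι → G) (g' : ι → G') (e : Fin n → G) (e' : Fin n → G')
    (h0 : e 0 = 1) (h0' : e' 0 = 1) (hs : ∀ x k, e (σ x k) = e x * g k) (hs' : ∀ x k, e' (σ x k) = e' x * g' k)
    (hpar : ∀ x, x ≠ 0 → ∃ y, y < x ∧ ∃ k, σ y k = x) (hinj : Function.Injective e) (hinj' : ∀ x, e' x = 1 → x = 0) :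
    Nonempty (Subgroup.closure (Set.range g) ≃* Subgroup.closure (Set.range g')) ∧
      Nat.card (Subgroup.closure (Set.range g)) = n := by
  have hσ : ∀ k, Function.Bijective (fun x => σ x k) := by
    intro k
    rw [← Finite.injective_iff_bijective]
    intro x y hxy
    apply hinj
    have h1 : e (σ x k) = e (σ y k) := congrArg e hxy
    rw [hs, hs] at h1
    exact mul_right_cancel h1
  let D : Subgroup (G × G') := Subgroup.closure (Set.range fun k => (g k, g' k))
  have hD : ∀ z : G × G', z ∈ D ↔ ∃ x, (e x, e' x) = z := by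
    intro z
    constructor
    · intro hz
      induction hz using Subgroup.closure_induction_right with
      | one => exact ⟨0, by rw [h0, h0']; rfl⟩
      | mul_right x hx y hy ih =>
        obtain ⟨k, rfl⟩ := hy
        obtain ⟨w, hw⟩ := ih
        refine ⟨σ w k, ?_⟩
        rw [hs, hs', ← hw]; rfl
      | mul_inv_cancel x hx y hy ih =>
        obtain ⟨k, rfl⟩ := hy
        obtain ⟨w, hw⟩ := ih
        obtain ⟨v, hv⟩ := (hσ k).2 w
        refine ⟨v, ?_⟩
        rw [eq_mul_inv_iff_mul_eq, ← hw, ← hv]
        simp only [Prod.mk_mul_mk, hs, hs']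
    · rintro ⟨x, rfl⟩
      induction x using WellFoundedLT.induction with
      | _ x ih =>
      by_cases hx : x = 0
      · rw [hx, h0, h0']; exact D.one_mem
      · obtain ⟨y, hy, k, rfl⟩ := hpar x hx
        have h1 := ih y hy
        rw [hs, hs']
        exact D.mul_mem h1 (Subgroup.subset_closure ⟨k, rfl⟩)
  have m1 : D.map (MonoidHom.fst G G') = Subgroup.closure (Set.range g) := by
    rw [MonoidHom.map_closure, ← Set.range_comp]; rfl
  have m2 : D.map (MonoidHom.snd G G') = Subgroup.closure (Set.range g') := by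
    rw [MonoidHom.map_closure, ← Set.range_comp]; rfl
  have b1 : Function.Bijective ((MonoidHom.fst G G').subgroupMap D) := by
    refine ⟨?_, MonoidHom.subgroupMap_surjective _ _⟩
    rw [← MonoidHom.ker_eq_bot_iff, eq_bot_iff]
    rintro ⟨⟨a, b⟩, hab⟩ h
    have h1 : a = 1 := congrArg Subtype.val h
    obtain ⟨x, hx⟩ := (hD _).1 hab
    have h2 : e x = 1 := by rw [← h1]; exact congrArg Prod.fst hx
    have h3 : x = 0 := hinj (h2.trans h0.symm)
    have h4 : b = 1 := by
      have := congrArg Prod.snd hx
      rw [h3, h0'] at this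
      exact this.symm
    rw [Subgroup.mem_bot]
    apply Subtype.ext
    show (a, b) = 1
    rw [h1, h4]; rfl
  have b2 : Function.Bijective ((MonoidHom.snd G G').subgroupMap D) := by
    refine ⟨?_, MonoidHom.subgroupMap_surjective _ _⟩
    rw [← MonoidHom.ker_eq_bot_iff, eq_bot_iff]
    rintro ⟨⟨a, b⟩, hab⟩ h
    have h1 : b = 1 := congrArg Subtype.val h
    obtain ⟨x, hx⟩ := (hD _).1 hab
    have h2 : e' x = 1 := by rw [← h1]; exact congrArg Prod.snd hx
    have h3 : x = 0 := hinj' x h2
    have h4 : a = 1 := by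
      have := congrArg Prod.fst hx
      rw [h3, h0] at this
      exact this.symm
    rw [Subgroup.mem_bot]
    apply Subtype.ext
    show (a, b) = 1
    rw [h1, h4]; rfl
  have E1 : D ≃* Subgroup.closure (Set.range g) := (MulEquiv.ofBijective _ b1).trans (MulEquiv.subgroupCongr m1)
  have E2 : D ≃* Subgroup.closure (Set.range g') := (MulEquiv.ofBijective _ b2).trans (MulEquiv.subgroupCongr m2)
  refine ⟨⟨E1.symm.trans E2⟩, ?_⟩
  rw [← Nat.card_congr E1.toEquiv]
  have E3 : Fin n ≃ D := Equiv.ofBijective (fun x => ⟨(e x, e' x), (hD _).2 ⟨x, rfl⟩⟩) ⟨by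
    intro x y hxy
    exact hinj (congrArg (fun z : D => z.1.1) hxy), by
    rintro ⟨z, hz⟩
    obtain ⟨x, hx⟩ := (hD _).1 hz
    exact ⟨x, Subtype.ext hx⟩⟩
  rw [← Nat.card_congr E3, Nat.card_fin]

/-- a subgroup of order the full `p`-part is isomorphic to the Sylow subgroups -/
theorem sylow_of_card {p : ℕ} [Fact p.Prime] {G : Type*} [Group G] [Finite G] (H : Subgroup G)
    (h : Nat.card H = p ^ (Nat.card G).factorization p) (P : Sylow p G) : Nonempty (H ≃* P) := by
  let Q : Sylow p G := Sylow.ofCard H h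
  exact ⟨Q.equiv P⟩

/-- transport through an injective homomorphism -/
theorem sylow_of_inj {p : ℕ} [Fact p.Prime] {G W : Type*} [Group G] [Finite G] [Group W] [Finite W] (f : W →* G)
    (hf : Function.Injective f) (h : (Nat.card W).factorization p = (Nat.card G).factorization p)
    (R : Sylow p W) (P : Sylow p G) : Nonempty (R ≃* P) := by
  have e : R ≃* (R : Subgroup W).map f := (R : Subgroup W).equivMapOfInjective f hf
  have h1 : Nat.card ((R : Subgroup W).map f) = p ^ (Nat.card G).factorization p := by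
    rw [← Nat.card_congr e.toEquiv, ← h]
    exact R.card_eq_multiplicity
  obtain ⟨e'⟩ := sylow_of_card _ h1 P
  exact ⟨e.trans e'⟩

end Cfsg.Agent.Lib.CayIso
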