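import Cfsg.Agent.Lib.TwoDeg
import Cfsg.Agent.Lib.Taketa

/-!
# Groups with character degrees `1` and `p` (Isaacs 12.11)
-/

set_option autoImplicit false
set_option linter.all false

namespace Cfsg.Agent.Lib.CdP

open Cfsg Subgroup Module Cfsg.Agent.Lib Cfsg.Agent.Lib.CharBasic Cfsg.Agent.Lib.Clifford
  Cfsg.Agent.Lib.CliffordCorr Cfsg.Agent.Lib.TwoDeg
open scoped ComplexConjugate Pointwise

universe u

variable {G : Type u} [Group G]

theorem exists_max_abelian [Finite G] (B : Subgroup G) [hB : B.Normal] (hab : ∀ a ∈ B, ∀ b ∈ B, a * b = b * a) :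
    ∃ A : Subgroup G, A.Normal ∧ (∀ a ∈ A, ∀ b ∈ A, a * b = b * a) ∧ B ≤ A ∧
      ∀ M : Subgroup G, M.Normal → (∀ a ∈ M, ∀ b ∈ M, a * b = b * a) → A ≤ M → M = A := by
  obtain ⟨A, ⟨h1, h2, h3⟩, hmax⟩ := (wellFounded_gt (α := Subgroup G)).has_min
    {M : Subgroup G | M.Normal ∧ (∀ a ∈ M, ∀ b ∈ M, a * b = b * a) ∧ B ≤ M} ⟨B, hB, hab, le_rfl⟩
  refine ⟨A, h1, h2, h3, fun M hM hMab hAM => ?_⟩
  by_contra hne
  exact hmax M ⟨hM, hMab, h3.trans hAM⟩ (lt_of_le_of_ne hAM (Ne.symm hne))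

section A

variable {A : Subgroup G} [hA : A.Normal]

theorem inertia_lin [Finite G] {p : ℕ} (hp : p.Prime) (h : TwoDeg p G) (lam : Lam A)
    (hne : inertia A (cf lam) ≠ ⊤) : (inertia A (cf lam)).index = p ∧
      ∀ x ∈ inertia A (cf lam), ∀ y ∈ inertia A (cf lam),
        ∃ hA : x * y * x⁻¹ * y⁻¹ ∈ A, ev ⟨x * y * x⁻¹ * y⁻¹, hA⟩ lam = 1 := by
  classical
  letI := Fintype.ofFinite G
  letI := Fintype.ofFinite A
  set θ := cf lam with hθ
  set T := inertia A θ with hT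
  have hθi : IsIrrCharacter A θ := cf_irr lam
  have hAT : A ≤ T := le_inertia hθi.isClassFunction
  have hTm : ∀ g : G, g ∈ T ↔ cj A g θ = θ := fun g => Iff.rfl
  have hidx1 : T.index ≠ 1 := fun h' => hne (Subgroup.index_eq_one.1 h')
  have hidx : T.index = p := by
    obtain ⟨χ, hχ, hχθ⟩ := exists_over A hθi
    have h1 := degree_clifford hχ hθi hχθ
    obtain ⟨c, hc⟩ := (hχ.isCharacter.restrict A).classInner_nat hθi.isCharacter
    obtain ⟨d, hd, hd1⟩ := hχ.exists_degree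
    rw [hd1, hc, hθ, cf_one, mul_one, ← hθ, ← hT] at h1
    have h2 : d = c * T.index := by exact_mod_cast h1
    have h3 : d = 1 ∨ d = p := by
      rcases h χ hχ with h4 | h4
      · left; rw [hd1] at h4; exact_mod_cast h4
      · right; rw [hd1] at h4; exact_mod_cast h4
    rcases h3 with h3 | h3
    · rw [h3] at h2
      exact absurd (Nat.eq_one_of_mul_eq_one_left h2.symm) hidx1
    · rw [h3] at h2
      rcases (Nat.dvd_prime hp).1 (Dvd.intro_left c h2.symm) with h4 | h4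
      · exact absurd h4 hidx1
      · exact h4
  refine ⟨hidx, ?_⟩
  have hlinT : ∀ ψ : T → ℂ, IsIrrCharacter T ψ → classInner (resTo A T hAT ψ) θ ≠ 0 → ψ 1 = 1 := by
    intro ψ hψ hψθ
    have h1 := (corr_irr hAT hθi hTm hψ hψθ).1
    obtain ⟨d, hd, hd1⟩ := hψ.exists_degree
    have h2 := h _ h1
    rw [IndFun.indFun_one, hidx, hd1] at h2
    rcases h2 with h2 | h2
    · have : p * d = 1 := by exact_mod_cast h2
      exact absurd (Nat.eq_one_of_mul_eq_one_right this) hp.one_lt.ne'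
    · have : p * d = p := by exact_mod_cast h2
      have h3 : d = 1 := Nat.eq_of_mul_eq_mul_left hp.pos (this.trans (mul_one p).symm)
      rw [hd1, h3, Nat.cast_one]
  intro x hx y hy
  set A' := A.subgroupOf T with hA'
  set θ' : A' → ℂ := fun z => θ (subEquiv A T hAT z) with hθ'
  have hθ'i : IsIrrCharacter A' θ' := (isIrrCharacter_comp_mulEquiv_iff (subEquiv A T hAT)).mpr hθi
  set c : T := (⟨x, hx⟩ : T) * ⟨y, hy⟩ * (⟨x, hx⟩ : T)⁻¹ * (⟨y, hy⟩ : T)⁻¹ with hc
  have hcc : c ∈ commutator T := Subgroup.commutator_mem_commutator (Subgroup.mem_top _) (Subgroup.mem_top _)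
  have hInd : indFun A' θ' c = A'.index := by
    have hI := IsCharacter.indFun A' hθ'i.isCharacter
    have h1 : indFun A' θ' c = indFun A' θ' 1 := by
      rw [hI.isClassFunction.expansion_apply c, hI.isClassFunction.expansion_apply 1]
      refine Finset.sum_congr rfl fun ψ _ => ?_
      by_cases h0 : classInner (indFun A' θ') (ψ : T → ℂ) = 0
      · rw [h0, zero_mul, zero_mul]
      congr 1
      have h2 : (ψ : T → ℂ) 1 = 1 := by
        apply hlinT ψ ψ.2
        intro h3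
        apply h0
        rw [IndFun.frobenius_reciprocity A' _ _ ψ.2.isClassFunction, ← conj_classInner,
          classInner_resTo T hAT (ψ : T → ℂ) θ, h3, map_zero]
      rw [h2, ψ.2.isCharacter.eq_one_on_commutator h2 hcc]
    have h2 : θ' 1 = 1 := by
      show cf lam (subEquiv A T hAT 1) = 1
      rw [map_one, cf_one]
    rw [h1, IndFun.indFun_one, h2, mul_one]
  have hi0 : (A'.index : ℂ) ≠ 0 := by exact_mod_cast A'.index_ne_zero_of_finite
  have hcA : c ∈ A' := by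
    by_contra hcn
    rw [indFun_eq_zero_of_not_mem θ' hcn] at hInd
    exact hi0 hInd.symm
  refine ⟨hcA, ?_⟩
  have h1 := indFun_res (N := A') θ' ⟨c, hcA⟩
  rw [hInd] at h1
  have h2 : ∀ g : T, cj A' g θ' ⟨c, hcA⟩ = θ' ⟨c, hcA⟩ := by
    intro g
    have h3 := congrFun ((hTm g).1 g.2) (subEquiv A T hAT ⟨c, hcA⟩)
    rw [cj_apply] at h3
    rw [cj_apply, hθ']
    exact h3
  simp only [h2, Finset.sum_const, nsmul_eq_mul, Finset.card_univ] at h1
  have h3 := A'.card_mul_index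
  rw [Nat.card_eq_fintype_card (α := T)] at h3
  have h4 : (Nat.card A' : ℂ) ≠ 0 := by exact_mod_cast Nat.card_pos.ne'
  rw [eq_inv_mul_iff_mul_eq₀ h4] at h1
  have h5 : (Nat.card A' : ℂ) * A'.index = (Fintype.card T : ℂ) := by exact_mod_cast h3
  rw [h5] at h1
  have h6 : (Fintype.card T : ℂ) ≠ 0 := by exact_mod_cast Fintype.card_ne_zero
  have h7 : θ' ⟨c, hcA⟩ = 1 := by
    have : (Fintype.card T : ℂ) * 1 = Fintype.card T * θ' ⟨c, hcA⟩ := by rw [mul_one]; exact h1
    exact (mul_left_cancel₀ h6 this).symm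
  have h8 : ((ev (⟨x * y * x⁻¹ * y⁻¹, hcA⟩ : A) lam : ℂˣ) : ℂ) = 1 := h7
  exact Units.ext h8

/-- separation modulo a subgroup -/
theorem lam_sep [Finite G] (hab : ∀ a ∈ A, ∀ b ∈ A, a * b = b * a) (S : Subgroup A) {c : A} (hc : c ∉ S) :
    ∃ a : Lam A, (∀ s ∈ S, ev s a = 1) ∧ ev c a ≠ 1 := by
  by_contra hcon
  push Not at hcon
  apply hc
  have hcomm : ∀ x y : A, x * y = y * x := fun x y => Subtype.ext (hab x x.2 y y.2)
  haveI : S.Normal := ⟨fun n hn g => by rw [hcomm g n, mul_inv_cancel_right]; exact hn⟩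
  apply SylowExtend.mem_of_forall_ker S
  intro χ hχ
  have h1 : (χ : A → ℂ) 1 = 1 := χ.2.one_eq_one_of_comm hcomm
  obtain ⟨a, ha⟩ := exists_cf χ.2 h1
  have h2 := hcon a (by
    intro s hs
    have := hχ s hs
    rw [ha, cf_one] at this
    exact Units.ext this)
  rw [h1, ha]
  show ((ev c a : ℂˣ) : ℂ) = 1
  rw [h2, Units.val_one]

theorem normal_of_prime_index [Finite G] (hnil : Group.IsNilpotent G) {p : ℕ} (hp : p.Prime) {T : Subgroup G}
    (hT : T.index = p) : T.Normal := by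
  have htf := (Group.isNilpotent_of_finite_tfae (G := G)).out 0 2 rfl rfl
  apply htf.1 hnil
  constructor
  · intro h
    rw [h, Subgroup.index_top] at hT
    exact hp.one_lt.ne hT
  · intro K hK
    have h1 : K.index ∣ p := by rw [← hT]; exact Subgroup.index_dvd_of_le hK.le
    rcases (Nat.dvd_prime hp).1 h1 with h2 | h2
    · exact Subgroup.index_eq_one.1 h2
    · exfalso
      have h3 := T.card_mul_index
      have h4 := K.card_mul_index
      rw [hT] at h3
      rw [h2, ← h3] at h4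
      have h5 := Nat.eq_of_mul_eq_mul_right hp.pos h4
      exact hK.ne (Subgroup.eq_of_le_of_card_ge hK.le h5.le)

theorem sup_eq_top_of_index [Finite G] {p : ℕ} (hp : p.Prime) {T K : Subgroup G} (hT : T.index = p)
    (hK : ¬ K ≤ T) : T ⊔ K = ⊤ := by
  have h1 : (T ⊔ K).index ∣ p := by rw [← hT]; exact Subgroup.index_dvd_of_le le_sup_left
  rcases (Nat.dvd_prime hp).1 h1 with h2 | h2
  · exact Subgroup.index_eq_one.1 h2
  · exfalso
    have h3 := T.card_mul_index
    have h4 := (T ⊔ K).card_mul_index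
    rw [hT] at h3
    rw [h2, ← h3] at h4
    have h5 := Nat.eq_of_mul_eq_mul_right hp.pos h4
    have h6 : T = T ⊔ K := Subgroup.eq_of_le_of_card_ge le_sup_left h5.le
    exact hK (le_sup_right.trans h6.ge)

theorem eq_of_le_of_index [Finite G] {T K : Subgroup G} (h : K ≤ T) (hi : K.index = T.index) : K = T := by
  have h3 := T.card_mul_index
  have h4 := K.card_mul_index
  rw [hi, ← h3] at h4
  exact Subgroup.eq_of_le_of_card_ge h (Nat.eq_of_mul_eq_mul_right (Nat.pos_of_ne_zero T.index_ne_zero_of_finite) h4).ge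

theorem pair [Finite G] {p : ℕ} (hp : p.Prime) (h : TwoDeg p G) (hnil : Group.IsNilpotent G) {lam mu : Lam A}
    (hl : inertia A (cf lam) ≠ ⊤) (hm : inertia A (cf mu) ≠ ⊤)
    (hne : inertia A (cf lam) ≠ inertia A (cf mu)) :
    ∃ ε : Lam A, (∀ g, act g ε = ε) ∧ ε ^ p = 1 ∧ (∀ g, ∃ k : ℕ, act g lam = lam * ε ^ k) ∧
      (∃ g, act g lam = lam * ε) ∧ (∀ g, ∃ k : ℕ, act g mu = mu * ε ^ k) ∧
      (∃ g, act g mu = mu * ε⁻¹) := by
  classical
  set T := inertia A (cf lam) with hT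
  set T' := inertia A (cf mu) with hT'
  set K := inertia A (cf (lam * mu)) with hK
  have hmT : ∀ g, g ∈ T ↔ act g lam = lam := fun g => mem_inertia_act
  have hmT' : ∀ g, g ∈ T' ↔ act g mu = mu := fun g => mem_inertia_act
  have hmK : ∀ g, g ∈ K ↔ act g (lam * mu) = lam * mu := fun g => mem_inertia_act
  have hiT := (inertia_lin hp h lam hl).1
  have hiT' := (inertia_lin hp h mu hm).1
  have hK1 : K ≠ ⊤ := by
    intro h'
    apply hne
    apply eq_of_le_of_index _ (hiT.trans hiT'.symm)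
    intro x hx
    have h1 : act x (lam * mu) = lam * mu := (hmK x).1 (h' ▸ Subgroup.mem_top x)
    rw [map_mul, (hmT x).1 hx] at h1
    exact (hmT' x).2 (mul_left_cancel h1)
  have hiK := (inertia_lin hp h (lam * mu) hK1).1
  have hex : ∃ t ∈ K, t ∉ T := by
    by_contra hcon
    push Not at hcon
    have hKT : K = T := eq_of_le_of_index hcon (hiK.trans hiT.symm)
    apply hne
    apply eq_of_le_of_index _ (hiT.trans hiT'.symm)
    intro x hx
    have h1 : act x (lam * mu) = lam * mu := (hmK x).1 (hKT ▸ hx)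
    rw [map_mul, (hmT x).1 hx] at h1
    exact (hmT' x).2 (mul_left_cancel h1)
  obtain ⟨t, htK, htT⟩ := hex
  have hTn : T.Normal := normal_of_prime_index hnil hp hiT
  have hTn' : T'.Normal := normal_of_prime_index hnil hp hiT'
  set ε := act t lam * lam⁻¹ with hε
  have h1 : act t lam = lam * ε := by rw [hε]; rw [mul_comm lam, inv_mul_cancel_right]
  have h2 : act t mu = mu * ε⁻¹ := by
    have h3 := (hmK t).1 htK
    rw [map_mul, h1] at h3
    have h4 : ε * act t mu = mu := by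
      apply mul_left_cancel (a := lam)
      rw [← mul_assoc]; exact h3
    rw [eq_mul_inv_iff_mul_eq, mul_comm]; exact h4
  have htT' : t ∉ T' := by
    intro h'
    have h3 := (hmT' t).1 h'
    have h4 := (hmK t).1 htK
    rw [map_mul, h3] at h4
    exact htT ((hmT t).2 (mul_right_cancel h4))
  -- ε is invariant
  have hs : ∀ (S : Subgroup G), S.Normal → ∀ ν : Lam A, (∀ g, g ∈ S ↔ act g ν = ν) → ∀ s ∈ S,
      act s (act t ν) = act t ν := by
    intro S hS ν hν s hs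
    rw [act_act]
    have h3 : t * s = (t * s * t⁻¹) * t := by group
    rw [h3, ← act_act, (hν _).1 (hS.conj_mem s hs t)]
  have hinv : ∀ g, act g ε = ε := by
    have h3 : T ⊔ T' ≤ inertia A (cf ε) := by
      apply sup_le
      · intro s hsT
        rw [mem_inertia_act, hε, map_mul, map_inv, hs T hTn lam hmT s hsT, (hmT s).1 hsT]
      · intro s hsT
        have h4 : ε = mu * (act t mu)⁻¹ := by rw [h2, mul_inv, inv_inv, mul_inv_cancel_left]
        rw [mem_inertia_act, h4, map_mul, map_inv, hs T' hTn' mu hmT' s hsT, (hmT' s).1 hsT]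
    have h4 : T ⊔ T' = ⊤ := sup_eq_top_of_index hp hiT (by
      intro h5
      exact hne (eq_of_le_of_index h5 (hiT'.trans hiT.symm)).symm)
    rw [h4] at h3
    intro g
    exact mem_inertia_act.1 (h3 (Subgroup.mem_top g))
  have hpow : ∀ k : ℕ, act (t ^ k) lam = lam * ε ^ k := by
    intro k
    induction k with
    | zero => rw [pow_zero, pow_zero, mul_one]; exact act_of_comm (by simp) lam
    | succ k ih => rw [pow_succ, ← act_act, ih, map_mul, map_pow, hinv, h1, pow_succ]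
                   rw [mul_assoc, mul_comm ε]
  have hpow' : ∀ k : ℕ, act (t ^ k) mu = mu * ε⁻¹ ^ k := by
    intro k
    induction k with
    | zero => rw [pow_zero, pow_zero, mul_one]; exact act_of_comm (by simp) mu
    | succ k ih => rw [pow_succ, ← act_act, ih, map_mul, map_pow, map_inv, hinv, h2, pow_succ]
                   rw [mul_assoc, mul_comm ε⁻¹]
  have hεp : ε ^ p = 1 := by
    have h3 : t ^ p ∈ T := by rw [← hiT]; exact Subgroup.pow_index_mem T t
    have h4 := (hmT _).1 h3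
    rw [hpow] at h4
    exact mul_eq_left.1 h4
  have hnat : ∀ z : ℤ, ∃ k : ℕ, t ^ z = t ^ k := by
    intro z
    have h3 : t ^ z ∈ Submonoid.powers t := by
      rw [mem_powers_iff_mem_zpowers]; exact ⟨z, rfl⟩
    obtain ⟨k, hk⟩ := h3
    exact ⟨k, hk.symm⟩
  have hdec : ∀ S : Subgroup G, S.Normal → S.index = p → t ∉ S → ∀ g, ∃ s ∈ S, ∃ k : ℕ, g = s * t ^ k := by
    intro S hS hSi htS g
    have h3 : S ⊔ zpowers t = ⊤ := sup_eq_top_of_index hp hSi (by rw [zpowers_le]; exact htS)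
    have h4 : g ∈ S ⊔ zpowers t := by rw [h3]; trivial
    obtain ⟨s, hs, y, ⟨z, hz⟩, rfl⟩ := Subgroup.mem_sup_of_normal_left.1 h4
    obtain ⟨k, hk⟩ := hnat z
    exact ⟨s, hs, k, by rw [← hz]; simp only [hk]⟩
  refine ⟨ε, hinv, hεp, ?_, ⟨t, h1⟩, ?_, ⟨t, h2⟩⟩
  · intro g
    obtain ⟨s, hs, k, rfl⟩ := hdec T hTn hiT htT g
    refine ⟨k, ?_⟩
    rw [← act_act, (hmT s).1 hs, hpow]
  · intro g
    obtain ⟨s, hs, k, rfl⟩ := hdec T' hTn' hiT' htT' g
    refine ⟨(p - 1) * k, ?_⟩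
    rw [← act_act, (hmT' s).1 hs, hpow']
    congr 1
    rw [pow_mul]
    congr 1
    rw [inv_eq_iff_mul_eq_one, ← pow_succ', Nat.sub_add_cancel hp.one_lt.le, hεp]

/-- all the commutators of linear characters are powers of one `ε` -/
theorem exists_eps [Finite G] {p : ℕ} (hp : p.Prime) (h : TwoDeg p G) (hnil : Group.IsNilpotent G)
    (hab : ∀ a ∈ A, ∀ b ∈ A, a * b = b * a) (hcen : centralizer (A : Set G) = A)
    (hA1 : A ≠ ⊤) (hAi : A.index ≠ p) :
    ∃ ε : Lam A, (∀ g, act g ε = ε) ∧ ε ^ p = 1 ∧ (∀ z : A, (z : G) ∈ center G → ev z ε = 1) ∧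
      ∀ (lam : Lam A) (g : G), ∃ k : ℕ, act g lam = lam * ε ^ k := by
  classical
  -- a non invariant `lam1`
  have hsep : ∀ t : G, t ∉ A → ∃ lam : Lam A, t ∉ inertia A (cf lam) := by
    intro t ht
    obtain ⟨θ, hθ, htθ⟩ := exists_not_inertia hab (z := t) (by
      by_contra h'
      push Not at h'
      apply ht
      rw [← hcen, Subgroup.mem_centralizer_iff]
      intro n hn
      exact (h' n hn).symm)
    have hθ1 : θ 1 = 1 := hθ.one_eq_one_of_comm (fun a b => Subtype.ext (hab a a.2 b b.2))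
    obtain ⟨mu, rfl⟩ := exists_cf hθ hθ1
    exact ⟨mu, htθ⟩
  obtain ⟨t, ht⟩ : ∃ t, t ∉ A := by
    by_contra hcon
    push Not at hcon
    exact hA1 (eq_top_iff.2 fun x _ => hcon x)
  obtain ⟨lam1, hlam1⟩ := hsep t ht
  have hl1 : inertia A (cf lam1) ≠ ⊤ := fun h' => hlam1 (h' ▸ Subgroup.mem_top t)
  have hi1 := (inertia_lin hp h lam1 hl1).1
  obtain ⟨t2, ht2, ht2A⟩ : ∃ t2 ∈ inertia A (cf lam1), t2 ∉ A := by
    by_contra hcon
    push Not at hcon
    have h1 : inertia A (cf lam1) = A := le_antisymm hcon (le_inertia (cf_irr lam1).isClassFunction)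
    rw [h1] at hi1
    exact hAi hi1
  obtain ⟨lam2, hlam2⟩ := hsep t2 ht2A
  have hl2 : inertia A (cf lam2) ≠ ⊤ := fun h' => hlam2 (h' ▸ Subgroup.mem_top t2)
  have h12 : inertia A (cf lam1) ≠ inertia A (cf lam2) := fun h' => hlam2 (h' ▸ ht2)
  obtain ⟨ε, hinv, hεp, he1, ⟨g1, hg1⟩, he2, g2, hg2⟩ := pair hp h hnil hl1 hl2 h12
  refine ⟨ε, hinv, hεp, ?_, ?_⟩
  · intro z hz
    have h1 : ε = act g1 lam1 * lam1⁻¹ := by rw [hg1, mul_comm lam1, mul_inv_cancel_right]
    rw [h1, map_mul, map_inv, ev_act]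
    have h2 : (⟨g1 * z * g1⁻¹, hA.conj_mem z z.2 g1⟩ : A) = z := by
      apply Subtype.ext
      show g1 * (z : G) * g1⁻¹ = z
      rw [(Subgroup.mem_center_iff.1 hz) g1, mul_inv_cancel_right]
    rw [h2, mul_inv_cancel]
  · intro lam g
    by_cases hl : inertia A (cf lam) = ⊤
    · refine ⟨0, ?_⟩
      rw [pow_zero, mul_one]
      exact mem_inertia_act.1 (hl ▸ Subgroup.mem_top g)
    by_cases hne1 : inertia A (cf lam) = inertia A (cf lam1)
    · have hne2 : inertia A (cf lam) ≠ inertia A (cf lam2) := fun h' => h12 (hne1.symm.trans h')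
      obtain ⟨ε', -, hεp', hf1, -, -, g3, hg3⟩ := pair hp h hnil hl hl2 hne2
      obtain ⟨k, hk⟩ := hf1 g
      obtain ⟨j, hj⟩ := he2 g3
      have h1 : ε'⁻¹ = ε ^ j := mul_left_cancel (hg3.symm.trans hj)
      have h2 : ε' = ε ^ (j * (p - 1)) := by
        rw [pow_mul, ← h1, inv_pow, eq_inv_iff_mul_eq_one, ← pow_succ', Nat.sub_add_cancel hp.one_lt.le, hεp']
      exact ⟨j * (p - 1) * k, by rw [hk, h2, ← pow_mul]⟩
    · obtain ⟨ε', -, hεp', hf1, -, -, g3, hg3⟩ := pair hp h hnil hl hl1 hne1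
      obtain ⟨k, hk⟩ := hf1 g
      obtain ⟨j, hj⟩ := he1 g3
      have h1 : ε'⁻¹ = ε ^ j := mul_left_cancel (hg3.symm.trans hj)
      have h2 : ε' = ε ^ (j * (p - 1)) := by
        rw [pow_mul, ← h1, inv_pow, eq_inv_iff_mul_eq_one, ← pow_succ', Nat.sub_add_cancel hp.one_lt.le, hεp']
      exact ⟨j * (p - 1) * k, by rw [hk, h2, ← pow_mul]⟩

/-- structure of a self-centralizing abelian normal subgroup -/
theorem struct [Finite G] {p : ℕ} (hp : p.Prime) (h : TwoDeg p G) (hnil : Group.IsNilpotent G)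
    (hab : ∀ a ∈ A, ∀ b ∈ A, a * b = b * a) (hcen : centralizer (A : Set G) = A)
    (hA1 : A ≠ ⊤) (hAi : A.index ≠ p) :
    (∀ a ∈ A, ∀ g : G, a * g * a⁻¹ * g⁻¹ ∈ center G) ∧
    (∀ a ∈ A, a ∉ center G → ∀ b ∈ A, ∃ k : ℕ, ∃ z ∈ center G, b = a ^ k * z) ∧
    (∀ a ∈ A, a ^ p ∈ center G) ∧ (center G).index = A.index * p := by
  classical
  haveI : Fact p.Prime := ⟨hp⟩
  obtain ⟨ε, hinv, hεp, hεz, hall⟩ := exists_eps hp h hnil hab hcen hA1 hAi
  have hZA : center G ≤ A := by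
    rw [← hcen]
    exact Subgroup.center_le_centralizer _
  have hker : ∀ b : A, ev b ε = 1 → (b : G) ∈ center G := by
    intro b hb
    rw [Subgroup.mem_center_iff]
    intro g
    have h1 : (⟨g * b * g⁻¹, hA.conj_mem b b.2 g⟩ : A) * b⁻¹ = 1 := by
      by_contra hne
      obtain ⟨lam, -, hlam⟩ := lam_sep hab (⊥ : Subgroup A) (c := (⟨g * b * g⁻¹, hA.conj_mem b b.2 g⟩ : A) * b⁻¹)
        (by rw [Subgroup.mem_bot]; exact hne)
      apply hlam
      obtain ⟨k, hk⟩ := hall lam g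
      rw [ev_mul, ← ev_act, hk, map_mul, map_pow, hb, one_pow, mul_one, ← ev_mul, mul_inv_cancel, ev_one]
    have h2 := congrArg Subtype.val h1
    simp only [Subgroup.coe_mul, Subgroup.coe_inv, Subgroup.coe_one] at h2
    rw [mul_inv_eq_one, mul_inv_eq_iff_eq_mul] at h2
    exact h2
  have hevp : ∀ b : A, (ev b ε) ^ p = 1 := by
    intro b
    rw [← map_pow, hεp, map_one]
  refine ⟨?_, ?_, ?_, ?_⟩
  · intro a ha g
    have h1 : a * g * a⁻¹ * g⁻¹ ∈ A := by
      have : a * g * a⁻¹ * g⁻¹ = a * (g * a⁻¹ * g⁻¹) := by group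
      rw [this]
      exact A.mul_mem ha (hA.conj_mem _ (A.inv_mem ha) g)
    apply hker ⟨_, h1⟩
    have h2 : (⟨a * g * a⁻¹ * g⁻¹, h1⟩ : A) =
        ⟨a, ha⟩ * ⟨g * (⟨a, ha⟩⁻¹ : A) * g⁻¹, hA.conj_mem _ (⟨a, ha⟩⁻¹ : A).2 g⟩ := by
      apply Subtype.ext
      show a * g * a⁻¹ * g⁻¹ = a * (g * a⁻¹ * g⁻¹)
      group
    rw [h2, ev_mul, ← ev_act, hinv, ← ev_mul, mul_inv_cancel, ev_one]
  · intro a ha haZ b hb
    have hae : ev (⟨a, ha⟩ : A) ε ≠ 1 := fun h' => haZ (hker _ h')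
    have h0 : orderOf (ev (⟨a, ha⟩ : A) ε) = p := orderOf_eq_prime (hevp _) hae
    have h1 : IsPrimitiveRoot (ev (⟨a, ha⟩ : A) ε) p := by
      rw [IsPrimitiveRoot.iff_orderOf]; exact h0
    have h2 : IsPrimitiveRoot ((ev (⟨a, ha⟩ : A) ε : ℂˣ) : ℂ) p := IsPrimitiveRoot.coe_units_iff.2 h1
    have h3 : ((ev (⟨b, hb⟩ : A) ε : ℂˣ) : ℂ) ^ p = 1 := by
      rw [← Units.val_pow_eq_pow_val, hevp, Units.val_one]
    haveI : NeZero p := ⟨hp.ne_zero⟩
    obtain ⟨k, -, hk⟩ := h2.eq_pow_of_pow_eq_one h3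
    have hk' : (ev (⟨a, ha⟩ : A) ε) ^ k = ev (⟨b, hb⟩ : A) ε := by
      apply Units.ext
      rw [Units.val_pow_eq_pow_val]; exact hk
    refine ⟨k, (a ^ k)⁻¹ * b, ?_, by group⟩
    have h4 : (a ^ k)⁻¹ * b ∈ A := A.mul_mem (A.inv_mem (A.pow_mem ha k)) hb
    apply hker ⟨_, h4⟩
    have h5 : (⟨(a ^ k)⁻¹ * b, h4⟩ : A) = ((⟨a, ha⟩ : A) ^ k)⁻¹ * ⟨b, hb⟩ := rfl
    rw [h5, ev_mul, ← hk', ← ev_pow, ← ev_mul, inv_mul_cancel, ev_one]
  · intro a ha
    apply hker ⟨a ^ p, A.pow_mem ha p⟩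
    have h1 : (⟨a ^ p, A.pow_mem ha p⟩ : A) = (⟨a, ha⟩ : A) ^ p := rfl
    rw [h1, ev_pow, hevp]
  · have hkereq : (center G).subgroupOf A = (ε.hom).ker := by
      ext b
      constructor
      · intro hb
        exact hεz b hb
      · intro hb
        exact hker b hb
    have h1 : (center G).relIndex A = Nat.card (ε.hom).range := by
      rw [Subgroup.relIndex, hkereq, Subgroup.index_ker]
    haveI : NeZero p := ⟨hp.ne_zero⟩
    have h2 : (ε.hom).range ≤ rootsOfUnity p ℂ := by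
      rintro _ ⟨b, rfl⟩
      exact hevp b
    have h3 : Nat.card (ε.hom).range ∣ p := by
      have := Subgroup.card_dvd_of_le h2
      rw [Complex.card_rootsOfUnity] at this
      exact this
    have h4 : Nat.card (ε.hom).range ≠ 1 := by
      rw [← h1]
      intro h5
      rw [Subgroup.relIndex_eq_one] at h5
      apply hA1
      rw [← hcen, eq_top_iff]
      intro x _
      rw [Subgroup.mem_centralizer_iff]
      intro y hy
      exact ((Subgroup.mem_center_iff.1 (h5 hy)) x).symm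
    rw [← Subgroup.relIndex_mul_index hZA, h1, (Nat.dvd_prime hp).1 h3 |>.resolve_left h4, mul_comm]

end A

/-- commutation with `a` -/
def fa (a : G) (ha : ∀ g : G, a * g * a⁻¹ * g⁻¹ ∈ center G) : G →* G where
  toFun g := a * g * a⁻¹ * g⁻¹
  map_one' := by group
  map_mul' g h := by
    have h1 := Subgroup.mem_center_iff.1 (ha h) g⁻¹
    calc a * (g * h) * a⁻¹ * (g * h)⁻¹ = a * g * a⁻¹ * ((a * h * a⁻¹ * h⁻¹) * g⁻¹) := by group
      _ = a * g * a⁻¹ * (g⁻¹ * (a * h * a⁻¹ * h⁻¹)) := by rw [h1]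
      _ = a * g * a⁻¹ * g⁻¹ * (a * h * a⁻¹ * h⁻¹) := by group

theorem fa_apply (a : G) (ha : ∀ g : G, a * g * a⁻¹ * g⁻¹ ∈ center G) (g : G) :
    fa a ha g = a * g * a⁻¹ * g⁻¹ := rfl

theorem fa_pow (a : G) (ha : ∀ g : G, a * g * a⁻¹ * g⁻¹ ∈ center G) (g : G) (k : ℕ) :
    (fa a ha g) ^ k = a ^ k * g * (a ^ k)⁻¹ * g⁻¹ := by
  induction k with
  | zero => simp
  | succ k ih =>
    have h1 : a ^ k * g * (a ^ k)⁻¹ * g⁻¹ ∈ center G := by
      rw [← ih]; exact Subgroup.pow_mem _ (ha g) k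
    have h2 := Subgroup.mem_center_iff.1 h1 a
    calc (fa a ha g) ^ (k + 1) = (fa a ha g) ^ k * fa a ha g := pow_succ _ _
      _ = a ^ k * g * (a ^ k)⁻¹ * g⁻¹ * (a * g * a⁻¹ * g⁻¹) := by rw [ih, fa_apply]
      _ = (a ^ k * g * (a ^ k)⁻¹ * g⁻¹ * a) * (g * a⁻¹ * g⁻¹) := by group
      _ = (a * (a ^ k * g * (a ^ k)⁻¹ * g⁻¹)) * (g * a⁻¹ * g⁻¹) := by rw [h2]
      _ = a ^ (k + 1) * g * (a ^ (k + 1))⁻¹ * g⁻¹ := by rw [pow_succ']; group

section B

variable {A : Subgroup G} [hA : A.Normal]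

theorem comm_T [Finite G] {p : ℕ} (hp : p.Prime) (h : TwoDeg p G) (hnil : Group.IsNilpotent G)
    (hab : ∀ a ∈ A, ∀ b ∈ A, a * b = b * a) (hcen : centralizer (A : Set G) = A)
    (hA1 : A ≠ ⊤) (hAi : A.index ≠ p) {a : G} (haA : a ∈ A) (haZ : a ∉ center G)
    (ha : ∀ g : G, a * g * a⁻¹ * g⁻¹ ∈ center G) {T : Subgroup G} (hAT : A ≤ T) (hT : T.index = p)
    {x y : G} (hx : x ∈ T) (hy : y ∈ T) : ∃ t ∈ T, x * y * x⁻¹ * y⁻¹ = fa a ha t := by
  classical
  obtain ⟨h1, h2, h3, h4⟩ := struct hp h hnil hab hcen hA1 hAi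
  have hZA : center G ≤ A := by
    rw [← hcen]
    exact Subgroup.center_le_centralizer _
  by_contra hcon
  push Not at hcon
  set S : Subgroup G := T.map (fa a ha) with hS
  set S' : Subgroup A := S.subgroupOf A with hS'
  have hinv : ∀ (lam : Lam A) (t : G), act t lam = lam ↔ ev ⟨fa a ha t, hZA (ha t)⟩ lam = 1 := by
    intro lam t
    have e1 : (⟨t * (⟨a, haA⟩ : A) * t⁻¹, hA.conj_mem a haA t⟩ : A) =
        (⟨fa a ha t, hZA (ha t)⟩ : A)⁻¹ * ⟨a, haA⟩ := by
      apply Subtype.ext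
      show t * a * t⁻¹ = (fa a ha t)⁻¹ * a
      rw [fa_apply]; group
    have e2 : ev ⟨a, haA⟩ (act t lam) = (ev ⟨fa a ha t, hZA (ha t)⟩ lam)⁻¹ * ev ⟨a, haA⟩ lam := by
      rw [ev_act, e1, ev_mul]
      congr 1
      exact lam.hom.map_inv _
    constructor
    · intro h'
      rw [h'] at e2
      have := (mul_eq_right.1 e2.symm)
      exact inv_eq_one.1 this
    · intro h'
      apply lam_ext
      intro b
      obtain ⟨k, z, hz, hb⟩ := h2 a haA haZ b b.2
      have hb' : b = (⟨a, haA⟩ : A) ^ k * ⟨z, hZA hz⟩ := Subtype.ext hb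
      rw [hb', ev_mul, ev_mul, ev_pow, ev_pow, e2, h', inv_one, one_mul]
      congr 1
      rw [ev_act]
      congr 2
      apply Subtype.ext
      show t * z * t⁻¹ = z
      rw [(Subgroup.mem_center_iff.1 hz) t, mul_inv_cancel_right]
  -- an element outside `T`
  obtain ⟨g, hg⟩ : ∃ g, g ∉ T := by
    by_contra hcon'
    push Not at hcon'
    have hTt : T = ⊤ := eq_top_iff.2 (fun x _ => hcon' x)
    rw [hTt, Subgroup.index_top] at hT
    exact hp.one_lt.ne hT
  have hr : (⟨fa a ha g, hZA (ha g)⟩ : A) ∉ S' := by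
    rintro ⟨t, ht, htg⟩
    apply hg
    have htg' : fa a ha t = fa a ha g := htg
    have e1 : fa a ha (g * t⁻¹) = 1 := by rw [map_mul, map_inv, htg', mul_inv_cancel]
    have e2 : g * t⁻¹ ∈ A := by
      rw [← hcen, Subgroup.mem_centralizer_iff]
      intro b hb
      obtain ⟨k, z, hz, rfl⟩ := h2 a haA haZ b hb
      rw [fa_apply, mul_inv_eq_one, mul_inv_eq_iff_eq_mul] at e1
      have e3 : Commute a (g * t⁻¹) := e1
      have e4 : Commute (a ^ k) (g * t⁻¹) := e3.pow_left k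
      have e5 : Commute z (g * t⁻¹) := (Subgroup.mem_center_iff.1 hz (g * t⁻¹)).symm
      exact (e4.mul_left e5)
    have e3 : g = (g * t⁻¹) * t := by group
    rw [e3]
    exact T.mul_mem (hAT e2) ht
  have hlam : ∀ lam : Lam A, (∀ s ∈ S', ev s lam = 1) → ev ⟨fa a ha g, hZA (ha g)⟩ lam ≠ 1 →
      ∃ hc : x * y * x⁻¹ * y⁻¹ ∈ A, ev ⟨x * y * x⁻¹ * y⁻¹, hc⟩ lam = 1 := by
    intro lam hl1 hl2
    have e1 : T ≤ inertia A (cf lam) := by
      intro t ht
      rw [mem_inertia_act, hinv]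
      exact hl1 _ ⟨t, ht, rfl⟩
    have e2 : g ∉ inertia A (cf lam) := by
      rw [mem_inertia_act, hinv]; exact hl2
    have e3 : inertia A (cf lam) ≠ ⊤ := fun h' => e2 (h' ▸ Subgroup.mem_top g)
    exact (inertia_lin hp h lam e3).2 x (e1 hx) y (e1 hy)
  obtain ⟨lam0, h01, h02⟩ := lam_sep hab S' hr
  obtain ⟨hc, h03⟩ := hlam lam0 h01 h02
  have hcS : (⟨x * y * x⁻¹ * y⁻¹, hc⟩ : A) ∉ S' := by
    rintro ⟨t, ht, htc⟩
    exact hcon t ht htc.symm
  obtain ⟨lam1, h11, h12⟩ := lam_sep hab S' hcS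
  by_cases h13 : ev ⟨fa a ha g, hZA (ha g)⟩ lam1 = 1
  · obtain ⟨hc2, h23⟩ := hlam (lam0 * lam1) (by
      intro s hs
      rw [map_mul, h01 s hs, h11 s hs, mul_one]) (by
      rw [map_mul, h13, mul_one]; exact h02)
    rw [map_mul, h03, one_mul] at h23
    exact h12 h23
  · obtain ⟨hc2, h14⟩ := hlam lam1 h11 h13
    exact h12 h14

end B

theorem fa_ker {A : Subgroup G} [hA : A.Normal] (hab : ∀ a ∈ A, ∀ b ∈ A, a * b = b * a)
    (hcen : centralizer (A : Set G) = A) {a : G} (haA : a ∈ A)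
    (h2 : ∀ b ∈ A, ∃ k : ℕ, ∃ z ∈ center G, b = a ^ k * z)
    (ha : ∀ g : G, a * g * a⁻¹ * g⁻¹ ∈ center G) : (fa a ha).ker = A := by
  ext g
  rw [MonoidHom.mem_ker, fa_apply, mul_inv_eq_one, mul_inv_eq_iff_eq_mul]
  constructor
  · intro e1
    rw [← hcen, Subgroup.mem_centralizer_iff]
    intro b hb
    obtain ⟨k, z, hz, rfl⟩ := h2 b hb
    have e3 : Commute a g := e1
    have e4 : Commute (a ^ k) g := e3.pow_left k
    have e5 : Commute z g := (Subgroup.mem_center_iff.1 hz g).symm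
    exact (e4.mul_left e5)
  · intro hg
    exact hab a haA g hg

/-- **Isaacs 12.11**, the main direction -/
theorem index_center [Finite G] {p : ℕ} (hp : p.Prime) (h : TwoDeg p G) (hnil : Group.IsNilpotent G)
    (hex : ∃ χ : IrrCharacter G, (χ : G → ℂ) 1 = (p : ℂ))
    (hno : ¬ ∃ A : Subgroup G, A.Normal ∧ (∀ a ∈ A, ∀ b ∈ A, a * b = b * a) ∧ A.index = p) :
    (center G).index = p ^ 3 := by
  classical
  haveI : Fact p.Prime := ⟨hp⟩
  obtain ⟨χ, hχ⟩ := hex
  have hnab : ¬ ∀ a b : G, a * b = b * a := by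
    intro h'
    have := χ.2.one_eq_one_of_comm h'
    rw [hχ] at this
    exact hp.one_lt.ne' (by exact_mod_cast this)
  -- maximal abelian normal subgroups
  have hmaxA : ∀ B : Subgroup G, B.Normal → (∀ a ∈ B, ∀ b ∈ B, a * b = b * a) →
      ∃ A : Subgroup G, A.Normal ∧ (∀ a ∈ A, ∀ b ∈ A, a * b = b * a) ∧ B ≤ A ∧
        centralizer (A : Set G) = A ∧ A ≠ ⊤ ∧ A.index ≠ p := by
    intro B hB hBab
    obtain ⟨A, hA, hAab, hBA, hmax⟩ := exists_max_abelian B hBab
    refine ⟨A, hA, hAab, hBA, Cores.centralizer_eq_of_maximal_abelian A hAab hmax, ?_, ?_⟩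
    · rintro rfl
      exact hnab fun a b => hAab a (Subgroup.mem_top a) b (Subgroup.mem_top b)
    · intro h'
      exact hno ⟨A, hA, hAab, h'⟩
  obtain ⟨A, hA, hab, -, hcen, hA1, hAi⟩ := hmaxA ⊥ inferInstance (by
    intro a ha b hb
    rw [Subgroup.mem_bot.1 ha, Subgroup.mem_bot.1 hb])
  obtain ⟨h1, h2, h3, h4⟩ := struct hp h hnil hab hcen hA1 hAi
  have hi0 : 0 < A.index := Nat.pos_of_ne_zero A.index_ne_zero_of_finite
  have hexa : ∃ a ∈ A, a ∉ center G := by
    by_contra hcon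
    push Not at hcon
    have e1 : A = center G := le_antisymm hcon (by rw [← hcen]; exact Subgroup.center_le_centralizer _)
    rw [← e1] at h4
    have e2 : A.index * 1 = A.index * p := by rw [mul_one]; exact h4
    exact hp.one_lt.ne (Nat.eq_of_mul_eq_mul_left hi0 e2)
  obtain ⟨a, haA, haZ⟩ := hexa
  have ha := h1 a haA
  have hker := fa_ker hab hcen haA (h2 a haA haZ) ha
  set R := (fa a ha).range with hR
  have hRc : Nat.card R = A.index := by
    rw [hR, ← Subgroup.index_ker, hker]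
  have hRp : ∀ r ∈ R, r ^ p = 1 := by
    rintro _ ⟨g, rfl⟩
    rw [fa_pow]
    have e1 := Subgroup.mem_center_iff.1 (h3 a haA) g
    rw [mul_inv_eq_one, mul_inv_eq_iff_eq_mul]
    exact e1.symm
  have hRZ : R ≤ center G := by
    rintro _ ⟨g, rfl⟩
    exact ha g
  have hRpg : IsPGroup p R := fun r => ⟨1, Subtype.ext (by rw [pow_one]; exact hRp r r.2)⟩
  obtain ⟨n, hn⟩ := IsPGroup.iff_card.1 hRpg
  have hAn : A.index = p ^ n := by rw [← hRc, hn]
  have hn0 : n ≠ 0 := by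
    rintro rfl
    rw [pow_zero, Subgroup.index_eq_one] at hAn
    exact hA1 hAn
  have hn1 : n ≠ 1 := by
    rintro rfl
    rw [pow_one] at hAn
    exact hAi hAn
  suffices hn2 : n = 2 by rw [h4, hAn, hn2]; ring
  by_contra hn2
  -- commutators lie in `R`
  have hcR : ∀ x y : G, x * y * x⁻¹ * y⁻¹ ∈ R := by
    intro x y
    set f := (fa a ha).rangeRestrict with hf
    set H0 : Subgroup R := zpowers (f x) ⊔ zpowers (f y) with hH0
    have hord : ∀ r : R, orderOf r ∣ p := fun r => orderOf_dvd_of_pow_eq_one (Subtype.ext (hRp r r.2))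
    have hzc : ∀ r : R, Nat.card (zpowers r) ≤ p := by
      intro r
      rw [Nat.card_zpowers]
      exact Nat.le_of_dvd hp.pos (hord r)
    have hRcomm : ∀ r s : R, r * s = s * r := fun r s =>
      Subtype.ext ((Subgroup.mem_center_iff.1 (hRZ s.2)) r)
    have hnorm : ∀ S : Subgroup R, S.Normal := fun S =>
      ⟨fun n hn g => by rw [hRcomm g n, mul_inv_cancel_right]; exact hn⟩
    have hH0c : Nat.card H0 ≤ p * p := by
      haveI := hnorm (zpowers (f x))
      have e1 : Function.Surjective (fun q : zpowers (f x) × zpowers (f y) =>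
          (⟨(q.1 : R) * q.2, H0.mul_mem (Subgroup.mem_sup_left q.1.2) (Subgroup.mem_sup_right q.2.2)⟩ : H0)) := by
        rintro ⟨r, hr⟩
        obtain ⟨u, hu, v, hv, huv⟩ := Subgroup.mem_sup_of_normal_left.1 hr
        exact ⟨(⟨u, hu⟩, ⟨v, hv⟩), Subtype.ext huv⟩
      have e2 := Nat.card_le_card_of_surjective _ e1
      rw [Nat.card_prod] at e2
      exact e2.trans (Nat.mul_le_mul (hzc _) (hzc _))
    obtain ⟨j, hj⟩ := IsPGroup.iff_card.1 (hRpg.to_subgroup H0)
    have hj2 : j ≤ 2 := by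
      rw [hj] at hH0c
      have : p ^ j ≤ p ^ 2 := by rw [sq]; exact hH0c
      exact (Nat.pow_le_pow_iff_right hp.one_lt).1 this
    obtain ⟨K, hK, hHK⟩ := Sylow.exists_subgroup_card_pow_prime_le (p := p) (n := j) (m := n - 1) (by
      rw [hn]; exact pow_dvd_pow p (by omega)) H0 hj (by omega)
    set T := K.comap f with hT
    have hTi : T.index = p := by
      rw [hT, Subgroup.index_comap_of_surjective _ (MonoidHom.rangeRestrict_surjective _)]
      have e1 := K.card_mul_index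
      rw [hK, hn] at e1
      have e2 : p ^ n = p ^ (n - 1) * p := by rw [← pow_succ]; congr 1; omega
      rw [e2] at e1
      exact Nat.eq_of_mul_eq_mul_left (pow_pos hp.pos _) e1
    have hAT : A ≤ T := by
      intro b hb
      have e1 : f b = 1 := by
        apply Subtype.ext
        show fa a ha b = 1
        rw [← MonoidHom.mem_ker, hker]; exact hb
      rw [hT, Subgroup.mem_comap, e1]
      exact K.one_mem
    have hxT : x ∈ T := hHK (Subgroup.mem_sup_left (mem_zpowers _))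
    have hyT : y ∈ T := hHK (Subgroup.mem_sup_right (mem_zpowers _))
    obtain ⟨t, -, ht⟩ := comm_T hp h hnil hab hcen hA1 hAi haA haZ ha hAT hTi hxT hyT
    exact ⟨t, ht.symm⟩
  have hcZ : ∀ x y : G, x * y * x⁻¹ * y⁻¹ ∈ center G := fun x y => hRZ (hcR x y)
  -- an element of `Z(χ)` outside the centre
  have hexg : ∃ g, g ∉ center G ∧ (χ : G → ℂ) g ≠ 0 := by
    by_contra hcon
    push Not at hcon
    have e1 := GalConj.fully χ.2 hcon
    rw [hχ, h4, hAn] at e1
    have e2 : p * p = p ^ n * p := by exact_mod_cast e1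
    have e3 : p ^ 1 = p ^ n := by rw [pow_one]; exact Nat.eq_of_mul_eq_mul_right hp.pos e2
    exact hn1 (Nat.pow_right_injective hp.two_le e3).symm
  obtain ⟨g, hgZ, hg0⟩ := hexg
  have hgker : ∀ x : G, (χ : G → ℂ) (x * g * x⁻¹ * g⁻¹) = (χ : G → ℂ) 1 := by
    intro x
    by_contra hne
    exact hg0 (GalConj.vanish χ.2 (hcZ x g) hne)
  -- the abelian normal subgroup generated by `g` and the centre
  have hBn : (zpowers g ⊔ center G).Normal := by
    constructor
    intro b hb x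
    have e1 : x * b * x⁻¹ = (x * b * x⁻¹ * b⁻¹) * b := by group
    rw [e1]
    exact Subgroup.mul_mem _ (Subgroup.mem_sup_right (hcZ x b)) hb
  have hBab : ∀ b ∈ zpowers g ⊔ center G, ∀ c ∈ zpowers g ⊔ center G, b * c = c * b := by
    intro b hb c hc
    obtain ⟨b1, ⟨i, rfl⟩, z1, hz1, rfl⟩ := Subgroup.mem_sup_of_normal_right.1 hb
    obtain ⟨c1, ⟨j, rfl⟩, z2, hz2, rfl⟩ := Subgroup.mem_sup_of_normal_right.1 hc
    have e1 : Commute (g ^ i) (g ^ j) := Commute.zpow_zpow_self g i j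
    have e2 : ∀ y, Commute z1 y := fun y => (Subgroup.mem_center_iff.1 hz1 y).symm
    have e3 : ∀ y, Commute y z2 := fun y => Subgroup.mem_center_iff.1 hz2 y
    exact (e1.mul_right (e3 _)).mul_left (e2 _)
  obtain ⟨A', hA', hab', hBA', hcen', hA1', hAi'⟩ := hmaxA _ hBn hBab
  obtain ⟨h1', h2', h3', h4'⟩ := struct hp h hnil hab' hcen' hA1' hAi'
  have hgA' : g ∈ A' := hBA' (Subgroup.mem_sup_left (mem_zpowers g))
  have hg := h1' g hgA'
  have hker' := fa_ker hab' hcen' hgA' (h2' g hgA' hgZ) hg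
  have hRR : (fa g hg).range = R := by
    apply Subgroup.eq_of_le_of_card_ge
    · rintro _ ⟨x, rfl⟩
      exact hcR g x
    · rw [hRc, ← Subgroup.index_ker, hker']
      rw [h4] at h4'
      exact (Nat.eq_of_mul_eq_mul_right hp.pos h4').le
  have hlin := GalConj.lin_of_ker (χ := χ) (by
    rw [_root_.commutator_def, Subgroup.commutator_le]
    intro x _ y _
    rw [commutatorElement_def]
    have e1 := hcR x y
    rw [← hRR] at e1
    obtain ⟨t, ht⟩ := e1
    rw [← ht, fa_apply]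
    have e2 : g * t * g⁻¹ * t⁻¹ = (t * g * t⁻¹ * g⁻¹)⁻¹ := by group
    rw [e2]
    exact Subgroup.inv_mem _ (GalConj.mem_K.2 (hgker t)))
  rw [hχ] at hlin
  exact hp.one_lt.ne' (by exact_mod_cast hlin)

theorem sq_le_index_center [Finite G] {χ : G → ℂ} (hχ : IsIrrCharacter G χ) {d : ℕ} (hd : χ 1 = d) :
    d * d ≤ (center G).index := by
  classical
  letI := Fintype.ofFinite G
  have h1 := hχ.classInner_self
  rw [classInner_def, inv_mul_eq_one₀ (by exact_mod_cast Nat.card_pos.ne')] at h1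
  have h2 : ∀ g : G, χ g * conj (χ g) = ((‖χ g‖ ^ 2 : ℝ) : ℂ) := by
    intro g
    rw [Complex.mul_conj, Complex.normSq_eq_norm_sq]
  simp only [h2] at h1
  have h3 : (Nat.card G : ℝ) = ∑ g : G, ‖χ g‖ ^ 2 := by exact_mod_cast h1
  have h4 : ∑ g ∈ Finset.univ.filter (fun g => g ∈ center G), ‖χ g‖ ^ 2 ≤ ∑ g : G, ‖χ g‖ ^ 2 :=
    Finset.sum_le_sum_of_subset_of_nonneg (Finset.filter_subset _ _) (fun g _ _ => by positivity)
  have h5 : ∑ g ∈ Finset.univ.filter (fun g => g ∈ center G), ‖χ g‖ ^ 2 =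
      (Nat.card (center G) : ℝ) * (d * d) := by
    have h6 : ∀ g ∈ Finset.univ.filter (fun g => g ∈ center G), ‖χ g‖ ^ 2 = (d * d : ℝ) := by
      intro g hg
      have h7 := GalConj.norm_center hχ (Finset.mem_filter.1 hg).2
      rw [h2 g, hd] at h7
      exact_mod_cast h7
    rw [Finset.sum_congr rfl h6, Finset.sum_const, nsmul_eq_mul]
    congr 2
    rw [Nat.card_eq_fintype_card, Fintype.card_subtype]
  rw [h5, ← h3] at h4
  have h6 := (center G).card_mul_index
  have h7 : Nat.card (center G) * (d * d) ≤ Nat.card (center G) * (center G).index := by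
    rw [h6]; exact_mod_cast h4
  exact Nat.le_of_mul_le_mul_left h7 Nat.card_pos

theorem main [Finite G] (hG : ∃ a b : G, a * b ≠ b * a) (p : ℕ) (hp : p.Prime) :
    (TwoDeg p G ∧ ∃ χ : IrrCharacter G, (χ : G → ℂ) 1 = (p : ℂ)) ↔
      ((∃ A : Subgroup G, A.Normal ∧ (∀ a ∈ A, ∀ b ∈ A, a * b = b * a) ∧ A.index = p) ∨
        (center G).index = p ^ 3) := by
  classical
  constructor
  · rintro ⟨h, hex⟩
    by_cases hno : ∃ A : Subgroup G, A.Normal ∧ (∀ a ∈ A, ∀ b ∈ A, a * b = b * a) ∧ A.index = p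
    · exact Or.inl hno
    · right
      obtain ⟨χ, hχ⟩ := hex
      rcases h.main hp.one_lt.ne' ⟨χ, χ.2, hχ⟩ with h1 | h1
      · exact absurd h1 hno
      · exact index_center hp h h1 ⟨χ, hχ⟩ hno
  · intro h
    have h2 : TwoDeg p G := by
      intro χ hχ
      obtain ⟨d, hd, hd1⟩ := hχ.exists_degree
      rcases h with ⟨A, hA, hab, hAi⟩ | hZ
      · have h1 := CharDegrees.ito hχ A hab d hd1
        rw [hAi, Nat.dvd_prime hp] at h1
        rcases h1 with rfl | rfl
        · left; rw [hd1, Nat.cast_one]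
        · right; exact hd1
      · have h1 := CharDegrees.ito hχ (center G) (fun a ha b _ => ((Subgroup.mem_center_iff.1 ha) b).symm) d hd1
        rw [hZ, Nat.dvd_prime_pow hp] at h1
        obtain ⟨k, -, rfl⟩ := h1
        have h3 := sq_le_index_center hχ hd1
        rw [hZ, ← pow_add] at h3
        have h4 := (Nat.pow_le_pow_iff_right hp.one_lt).1 h3
        rcases (by omega : k = 0 ∨ k = 1) with rfl | rfl
        · left; rw [hd1]; simp
        · right; rw [hd1]; simp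
    refine ⟨h2, ?_⟩
    by_contra hcon
    push Not at hcon
    obtain ⟨a, b, hab⟩ := hG
    apply hab
    apply comm_of_forall_irr_linear
    intro χ hχ
    rcases h2 χ hχ with h3 | h3
    · exact h3
    · exact absurd h3 (hcon ⟨χ, hχ⟩)

end Cfsg.Agent.Lib.CdP
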