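import Mathlib

/-!
Bounds for centralizers from fixed points on cosets (helper60).
-/

set_option autoImplicit false

namespace Cfsg.Agent.Lib.CentCount

open Subgroup MulAction

variable {G : Type*} [Group G] [Finite G]

/-- the number of points in an orbit of a subgroup on the cosets of `H` -/
theorem orbit_coset (H C : Subgroup G) (g : G) :
    (orbit C (QuotientGroup.mk g : G ⧸ H)).ncard * Nat.card ↥(C ⊓ H.map (MulAut.conj g).toMonoidHom) = Nat.card C := by
  have h1 := index_stabilizer C (QuotientGroup.mk g : G ⧸ H)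
  have h2 : stabilizer C (QuotientGroup.mk g : G ⧸ H) = (C ⊓ H.map (MulAut.conj g).toMonoidHom).subgroupOf C := by
    ext c
    rw [mem_stabilizer_iff, mem_subgroupOf]
    have h3 : c • (QuotientGroup.mk g : G ⧸ H) = QuotientGroup.mk ((c : G) * g) := rfl
    rw [h3, eq_comm, QuotientGroup.eq]
    constructor
    · intro h
      refine ⟨c.2, _, h, ?_⟩
      change g * (g⁻¹ * (c * g)) * g⁻¹ = c
      group
    · rintro ⟨-, k, hk, hkc⟩
      have hkc' : g * k * g⁻¹ = c := hkc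
      have : g⁻¹ * ((c : G) * g) = k := by rw [← hkc']; group
      rw [this]; exact hk
  have h3 : Nat.card ((C ⊓ H.map (MulAut.conj g).toMonoidHom).subgroupOf C) =
      Nat.card ↥(C ⊓ H.map (MulAut.conj g).toMonoidHom) :=
    Nat.card_congr (subgroupOfEquivOfLe inf_le_left).toEquiv
  rw [← h1, h2, ← h3, mul_comm, Subgroup.card_mul_index]

/-- `|C_G(t)| ≤ |C_H(t)| · #Fix(t)` for the action on `G ⧸ H` -/
theorem card_centralizer_le_fix (H : Subgroup G) {t : G} (ht : t ∈ H) :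
    Nat.card (centralizer ({t} : Set G)) ≤
      Nat.card ↥(H ⊓ centralizer ({t} : Set G)) * Nat.card {x : G ⧸ H // t • x = x} := by
  have h1 := orbit_coset H (centralizer ({t} : Set G)) 1
  have h2 : centralizer ({t} : Set G) ⊓ H.map (MulAut.conj (1 : G)).toMonoidHom = H ⊓ centralizer ({t} : Set G) := by
    rw [inf_comm]
    congr 1
    ext x
    constructor
    · rintro ⟨k, hk, hkx⟩
      have : (1 : G) * k * (1 : G)⁻¹ = x := hkx
      rw [← this]
      simpa using hk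
    · intro hx
      exact ⟨x, hx, by change (1 : G) * x * (1 : G)⁻¹ = x; group⟩
  rw [h2] at h1
  rw [← h1, mul_comm]
  apply Nat.mul_le_mul_left
  have h3 : orbit (centralizer ({t} : Set G)) (QuotientGroup.mk (1 : G) : G ⧸ H) ⊆ {x : G ⧸ H | t • x = x} := by
    rintro _ ⟨c, rfl⟩
    have hc := mem_centralizer_singleton_iff.1 c.2
    change (QuotientGroup.mk (t * ((c : G) * 1)) : G ⧸ H) = QuotientGroup.mk ((c : G) * 1)
    rw [mul_one, ← hc, QuotientGroup.eq]
    have : ((c : G) * t)⁻¹ * c = t⁻¹ := by group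
    rw [this]
    exact H.inv_mem ht
  exact Set.ncard_le_ncard h3 (Set.toFinite _)

/-- counting the fixed points in one orbit of `H` -/
theorem fix_orbit_le (H K : Subgroup G) (g : G) {t : G} (_ht : t ∈ H)
    (hK : K = H ⊓ H.map (MulAut.conj g).toMonoidHom) (c f : ℕ)
    (hc : Nat.card {k : G // k ∈ K ∧ ∃ h ∈ H, k = h⁻¹ * t * h} ≤ c)
    (hf : Nat.card ↥(H ⊓ centralizer ({t} : Set G)) * c ≤ f * Nat.card K) :
    Nat.card {x : G ⧸ H // t • x = x ∧ ∃ h ∈ H, x = QuotientGroup.mk (h * g)} ≤ f := by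
  classical
  set X := {x : G ⧸ H // t • x = x ∧ ∃ h ∈ H, x = QuotientGroup.mk (h * g)} with hX
  set T := {k : G // k ∈ K ∧ ∃ h ∈ H, k = h⁻¹ * t * h} with hT
  let A := {h : G // h ∈ H ∧ h⁻¹ * t * h ∈ K}
  have hKmem : ∀ k : G, k ∈ K ↔ k ∈ H ∧ g⁻¹ * k * g ∈ H := by
    intro k
    rw [hK, mem_inf]
    constructor
    · rintro ⟨h1, l, hl, hlk⟩
      have hlk' : g * l * g⁻¹ = k := hlk
      refine ⟨h1, ?_⟩
      rw [← hlk']
      have : g⁻¹ * (g * l * g⁻¹) * g = l := by group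
      rwa [this]
    · rintro ⟨h1, h2⟩
      exact ⟨h1, _, h2, by change g * (g⁻¹ * k * g) * g⁻¹ = k; group⟩
  have hKg : ∀ k ∈ K, (QuotientGroup.mk (k * g) : G ⧸ H) = QuotientGroup.mk g := by
    intro k hk
    rw [eq_comm, QuotientGroup.eq]
    have : g⁻¹ * (k * g) = g⁻¹ * k * g := by group
    rw [this]
    exact ((hKmem k).1 hk).2
  -- first map
  choose r hrH hrx using (fun x : X => x.2.2)
  have hrA : ∀ x : X, (r x)⁻¹ * t * r x ∈ K := by
    intro x
    rw [hKmem]
    refine ⟨H.mul_mem (H.mul_mem (H.inv_mem (hrH x)) _ht) (hrH x), ?_⟩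
    have h1 := x.2.1
    rw [hrx x] at h1
    have h2 : (QuotientGroup.mk (t * (r x * g)) : G ⧸ H) = QuotientGroup.mk (r x * g) := h1
    rw [eq_comm, QuotientGroup.eq] at h2
    have : g⁻¹ * ((r x)⁻¹ * t * r x) * g = (r x * g)⁻¹ * (t * (r x * g)) := by group
    rw [this]; exact h2
  have h1 : Nat.card X * Nat.card K ≤ Nat.card A := by
    rw [← Nat.card_prod]
    let F : X × K → A := fun p => ⟨r p.1 * p.2, H.mul_mem (hrH p.1) ((hKmem _).1 p.2.2).1, by
      have h2 : (r p.1 * (p.2 : G))⁻¹ * t * (r p.1 * p.2) = (p.2 : G)⁻¹ * ((r p.1)⁻¹ * t * r p.1) * p.2 := by group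
      rw [h2]
      exact K.mul_mem (K.mul_mem (K.inv_mem p.2.2) (hrA p.1)) p.2.2⟩
    apply Nat.card_le_card_of_injective F
    rintro ⟨x, k⟩ ⟨y, l⟩ h
    have h2 : r x * (k : G) = r y * l := congrArg Subtype.val h
    have h3 : ∀ (x : X) (k : K), (x : G ⧸ H) = QuotientGroup.mk (r x * (k : G) * g) := by
      intro x k
      have h4 : (QuotientGroup.mk (r x * (k : G) * g) : G ⧸ H) = r x • (QuotientGroup.mk ((k : G) * g) : G ⧸ H) := by
        change _ = (QuotientGroup.mk (r x * ((k : G) * g)) : G ⧸ H)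
        rw [mul_assoc]
      rw [h4, hKg _ k.2]
      exact hrx x
    have h5 : x = y := by
      apply Subtype.ext
      rw [h3 x k, h3 y l, h2]
    subst h5
    have h6 : k = l := Subtype.ext (mul_left_cancel h2)
    rw [h6]
  -- second map
  choose s hsH hsx using (fun k : T => k.2.2)
  have h2 : Nat.card A ≤ Nat.card ↥(H ⊓ centralizer ({t} : Set G)) * Nat.card T := by
    rw [← Nat.card_prod]
    let τ : A → T := fun h => ⟨(h : G)⁻¹ * t * h, h.2.2, h, h.2.1, rfl⟩
    let F : A → ↥(H ⊓ centralizer ({t} : Set G)) × T := fun h => (⟨(h : G) * (s (τ h))⁻¹, by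
      refine ⟨H.mul_mem h.2.1 (H.inv_mem (hsH _)), ?_⟩
      refine mem_centralizer_singleton_iff.2 ?_
      have h3 : (h : G)⁻¹ * t * h = (s (τ h))⁻¹ * t * s (τ h) := hsx (τ h)
      calc (h : G) * (s (τ h))⁻¹ * t = (h : G) * ((s (τ h))⁻¹ * t * s (τ h)) * (s (τ h))⁻¹ := by group
        _ = (h : G) * ((h : G)⁻¹ * t * h) * (s (τ h))⁻¹ := by rw [h3]
        _ = t * ((h : G) * (s (τ h))⁻¹) := by group⟩, τ h)
    apply Nat.card_le_card_of_injective F
    intro h h' hh
    have h4 : τ h = τ h' := congrArg Prod.snd hh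
    have h5 : (h : G) * (s (τ h))⁻¹ = (h' : G) * (s (τ h'))⁻¹ := congrArg (fun p => (p.1 : G)) hh
    rw [h4] at h5
    exact Subtype.ext (mul_right_cancel h5)
  have h3 : Nat.card X * Nat.card K ≤ f * Nat.card K :=
    h1.trans (h2.trans ((Nat.mul_le_mul_left _ hc).trans hf))
  exact Nat.le_of_mul_le_mul_right h3 Nat.card_pos

/-- the intersections are determined by the sum of the indices -/
theorem stab_eq {ι : Type*} [Fintype ι] (H : Subgroup G) (g : ι → G) (K : ι → Subgroup G)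
    (hK : ∀ i, K i ≤ H ⊓ H.map (MulAut.conj (g i)).toMonoidHom)
    (hcov : ∀ x : G, ∃ i, ∃ h ∈ H, ∃ h' ∈ H, x = h * g i * h')
    (hsum : ∑ i, (K i).relIndex H ≤ H.index) (i : ι) : K i = H ⊓ H.map (MulAut.conj (g i)).toMonoidHom := by
  classical
  have h1 : ∀ i, (H ⊓ H.map (MulAut.conj (g i)).toMonoidHom).relIndex H =
      (orbit H (QuotientGroup.mk (g i) : G ⧸ H)).ncard := by
    intro i
    have h2 := orbit_coset H H (g i)
    have h3 := relIndex_mul_relIndex ⊥ (H ⊓ H.map (MulAut.conj (g i)).toMonoidHom) H bot_le inf_le_left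
    rw [relIndex_bot_left, relIndex_bot_left, ← h2, mul_comm] at h3
    exact Nat.eq_of_mul_eq_mul_right Nat.card_pos h3
  have h2 : H.index ≤ ∑ i, (H ⊓ H.map (MulAut.conj (g i)).toMonoidHom).relIndex H := by
    have h3 : (Set.univ : Set (G ⧸ H)) ⊆ ⋃ i ∈ (Finset.univ : Finset ι), orbit H (QuotientGroup.mk (g i) : G ⧸ H) := by
      intro x _
      obtain ⟨x, rfl⟩ := QuotientGroup.mk_surjective x
      obtain ⟨i, h, hh, h', hh', rfl⟩ := hcov x
      rw [Set.mem_iUnion₂]
      refine ⟨i, Finset.mem_univ i, ⟨h, hh⟩, ?_⟩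
      change (QuotientGroup.mk (h * g i) : G ⧸ H) = QuotientGroup.mk (h * g i * h')
      rw [QuotientGroup.eq]
      have : (h * g i)⁻¹ * (h * g i * h') = h' := by group
      rwa [this]
    have h4 := Set.ncard_le_ncard h3 (Set.toFinite _)
    have h5 : (Set.univ : Set (G ⧸ H)).ncard = H.index := by rw [Set.ncard_univ]; rfl
    rw [h5] at h4
    refine h4.trans ?_
    rw [Finset.sum_congr rfl (fun i _ => h1 i)]
    clear h4 h3
    induction (Finset.univ : Finset ι) using Finset.induction_on with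
    | empty => simp
    | insert a s ha ih =>
      rw [Finset.set_biUnion_insert, Finset.sum_insert ha]
      exact (Set.ncard_union_le _ _).trans (Nat.add_le_add_left ih _)
  have h3 : ∀ i, (H ⊓ H.map (MulAut.conj (g i)).toMonoidHom).relIndex H ≤ (K i).relIndex H := by
    intro i
    apply Nat.le_of_dvd
    · exact Nat.pos_of_ne_zero (index_ne_zero_of_finite (H := (K i).subgroupOf H))
    · exact relIndex_dvd_of_le_left H (hK i)
  have h4 : ∑ i, (H ⊓ H.map (MulAut.conj (g i)).toMonoidHom).relIndex H = ∑ i, (K i).relIndex H :=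
    le_antisymm (Finset.sum_le_sum (fun i _ => h3 i)) (hsum.trans h2)
  have h5 := (Finset.sum_eq_sum_iff_of_le (fun i _ => h3 i)).1 h4 i (Finset.mem_univ i)
  apply eq_of_le_of_card_ge (hK i)
  have e1 := relIndex_mul_relIndex ⊥ (K i) H bot_le ((hK i).trans inf_le_left)
  have e2 := relIndex_mul_relIndex ⊥ (H ⊓ H.map (MulAut.conj (g i)).toMonoidHom) H bot_le inf_le_left
  rw [relIndex_bot_left, relIndex_bot_left] at e1 e2
  rw [← e1, h5] at e2
  have h6 : 0 < (K i).relIndex H := Nat.pos_of_ne_zero (index_ne_zero_of_finite (H := (K i).subgroupOf H))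
  exact (Nat.eq_of_mul_eq_mul_right h6 e2).le

/-- the number of fixed points of `t ∈ H` on `G ⧸ H` -/
theorem fix_le {ι : Type*} [Fintype ι] (H : Subgroup G) (g : ι → G) (K : ι → Subgroup G)
    (hK : ∀ i, K i ≤ H ⊓ H.map (MulAut.conj (g i)).toMonoidHom)
    (hcov : ∀ x : G, ∃ i, ∃ h ∈ H, ∃ h' ∈ H, x = h * g i * h')
    (hsum : ∑ i, (K i).relIndex H ≤ H.index) {t : G} (ht : t ∈ H) (c f : ι → ℕ)
    (hc : ∀ i, Nat.card {k : G // k ∈ K i ∧ ∃ h ∈ H, k = h⁻¹ * t * h} ≤ c i)
    (hf : ∀ i, Nat.card ↥(H ⊓ centralizer ({t} : Set G)) * c i ≤ f i * Nat.card (K i)) :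
    Nat.card {x : G ⧸ H // t • x = x} ≤ ∑ i, f i := by
  classical
  have h1 : ∀ i, {x : G ⧸ H | t • x = x ∧ ∃ h ∈ H, x = QuotientGroup.mk (h * g i)}.ncard ≤ f i := fun i =>
    fix_orbit_le H (K i) (g i) ht (stab_eq H g K hK hcov hsum i) (c i) (f i) (hc i) (hf i)
  have h3 : {x : G ⧸ H | t • x = x} ⊆ ⋃ i ∈ (Finset.univ : Finset ι),
      {x : G ⧸ H | t • x = x ∧ ∃ h ∈ H, x = QuotientGroup.mk (h * g i)} := by
    intro x hx
    obtain ⟨x, rfl⟩ := QuotientGroup.mk_surjective x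
    obtain ⟨i, h, hh, h', hh', rfl⟩ := hcov x
    rw [Set.mem_iUnion₂]
    refine ⟨i, Finset.mem_univ i, hx, h, hh, ?_⟩
    rw [eq_comm, QuotientGroup.eq]
    have : (h * g i)⁻¹ * (h * g i * h') = h' := by group
    rwa [this]
  have h4 := Set.ncard_le_ncard h3 (Set.toFinite _)
  refine h4.trans ?_
  refine le_trans ?_ (Finset.sum_le_sum (fun i _ => h1 i))
  clear h4 h3
  induction (Finset.univ : Finset ι) using Finset.induction_on with
  | empty => simp
  | insert a s ha ih =>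
    rw [Finset.set_biUnion_insert, Finset.sum_insert ha]
    exact (Set.ncard_union_le _ _).trans (Nat.add_le_add_left ih _)

/-- the bound for the centralizer -/
theorem card_centralizer_le {ι : Type*} [Fintype ι] (H : Subgroup G) (g : ι → G) (K : ι → Subgroup G)
    (hK : ∀ i, K i ≤ H ⊓ H.map (MulAut.conj (g i)).toMonoidHom)
    (hcov : ∀ x : G, ∃ i, ∃ h ∈ H, ∃ h' ∈ H, x = h * g i * h')
    (hsum : ∑ i, (K i).relIndex H ≤ H.index) {t : G} (ht : t ∈ H) (c f : ι → ℕ)
    (hc : ∀ i, Nat.card {k : G // k ∈ K i ∧ ∃ h ∈ H, k = h⁻¹ * t * h} ≤ c i)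
    (hf : ∀ i, Nat.card ↥(H ⊓ centralizer ({t} : Set G)) * c i ≤ f i * Nat.card (K i)) :
    Nat.card (centralizer ({t} : Set G)) ≤ Nat.card ↥(H ⊓ centralizer ({t} : Set G)) * ∑ i, f i :=
  (card_centralizer_le_fix H ht).trans (Nat.mul_le_mul_left _ (fix_le H g K hK hcov hsum ht c f hc hf))

end Cfsg.Agent.Lib.CentCount
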