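import Cfsg.Agent.Lib.H53Iso
import Cfsg.Agent.Lib.AutAlt
import Cfsg.Agent.Lib.ThompsonTransfer
import Cfsg.Agent.Lib.PSL2OfData
import Cfsg.Agent.S1230
import Cfsg.Agent.S2508
import Cfsg.Agent.S0252

/-!
# Groups with an involution whose centraliser is dihedral of order 8 (helper83)
-/

set_option autoImplicit false
set_option linter.all false

namespace Cfsg.Agent.Lib.CentD8

open Cfsg

variable {G : Type*} [Group G] [Finite G]

open DihedralGroup in
/-- an embedding of the dihedral group of order 8 as the centraliser of `z` -/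
structure Emb (z : G) (ι : DihedralGroup 4 →* G) : Prop where
  inj : Function.Injective ι
  r2 : ι (r 2) = z
  surj : ∀ g, g * z = z * g → ∃ x, ι x = g

theorem center_D4 : ∀ x : DihedralGroup 4, (∀ y, x * y = y * x) → x = 1 ∨ x = DihedralGroup.r 2 := by
  decide

theorem exists_emb (z : G) (hz : orderOf z = 2)
    (hC : Nonempty (↥(Subgroup.centralizer ({z} : Set G)) ≃* DihedralGroup 4)) :
    ∃ ι : DihedralGroup 4 →* G, Emb z ι := by
  obtain ⟨e⟩ := hC
  have hzm : z ∈ Subgroup.centralizer ({z} : Set G) := by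
    rw [Subgroup.mem_centralizer_singleton_iff]
  have h1 : ∀ y, e ⟨z, hzm⟩ * y = y * e ⟨z, hzm⟩ := by
    intro y
    obtain ⟨c, rfl⟩ := e.surjective y
    rw [← map_mul, ← map_mul]
    congr 1
    apply Subtype.ext
    exact (Subgroup.mem_centralizer_singleton_iff.1 c.2).symm
  have h2 : e ⟨z, hzm⟩ = DihedralGroup.r 2 := by
    rcases center_D4 _ h1 with h | h
    · exfalso
      have h3 : (⟨z, hzm⟩ : Subgroup.centralizer ({z} : Set G)) = 1 := by
        apply e.injective; rw [h, map_one]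
      have h4 : z = 1 := congrArg Subtype.val h3
      rw [h4, orderOf_one] at hz
      exact absurd hz (by norm_num)
    · exact h
  refine ⟨(Subgroup.subtype _).comp e.symm.toMonoidHom, ?_, ?_, ?_⟩
  · exact Subtype.val_injective.comp e.symm.injective
  · show ((e.symm (DihedralGroup.r 2) : Subgroup.centralizer ({z} : Set G)) : G) = z
    rw [← h2, e.symm_apply_apply]
  · intro g hg
    refine ⟨e ⟨g, Subgroup.mem_centralizer_singleton_iff.2 hg⟩, ?_⟩
    show ((e.symm (e _) : Subgroup.centralizer ({z} : Set G)) : G) = g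
    rw [e.symm_apply_apply]

variable {z : G} {ι : DihedralGroup 4 →* G}

theorem comm_r2 : ∀ x : DihedralGroup 4, x * DihedralGroup.r 2 = DihedralGroup.r 2 * x := by decide

theorem Emb.comm (h : Emb z ι) (x : DihedralGroup 4) : ι x * z = z * ι x := by
  rw [← h.r2, ← map_mul, comm_r2, map_mul]

theorem Emb.range_eq (h : Emb z ι) : ι.range = Subgroup.centralizer ({z} : Set G) := by
  ext g
  rw [Subgroup.mem_centralizer_singleton_iff]
  constructor
  · rintro ⟨x, rfl⟩
    exact h.comm x
  · intro hg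
    exact h.surj g hg

theorem Emb.card_range (h : Emb z ι) : Nat.card ι.range = 8 := by
  rw [← Nat.card_congr (MonoidHom.ofInjective h.inj).toEquiv, Nat.card_eq_fintype_card]
  rfl

theorem Emb.card_centralizer (h : Emb z ι) : Nat.card (Subgroup.centralizer ({z} : Set G)) = 8 := by
  rw [← h.range_eq, h.card_range]

theorem Emb.z_ne_one (h : Emb z ι) : z ≠ 1 := by
  rw [← h.r2]
  intro h1
  rw [← map_one ι] at h1
  exact absurd (h.inj h1) (by decide)

theorem Emb.zz (h : Emb z ι) : z * z = 1 := by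
  rw [← h.r2, ← map_mul]
  have : (DihedralGroup.r 2 * DihedralGroup.r 2 : DihedralGroup 4) = 1 := by decide
  rw [this, map_one]

/-- the centraliser is a Sylow 2-subgroup -/
theorem Emb.exists_sylow (h : Emb z ι) : ∃ P : Sylow 2 G, (P : Subgroup G) = ι.range := by
  haveI : Fact (Nat.Prime 2) := ⟨Nat.prime_two⟩
  have h2 : IsPGroup 2 ι.range := IsPGroup.of_card (n := 3) (by rw [h.card_range]; norm_num)
  obtain ⟨P, hP⟩ := h2.exists_le_sylow
  refine ⟨P, le_antisymm ?_ hP⟩
  have hzP : z ∈ (P : Subgroup G) := hP ⟨_, h.r2⟩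
  haveI : Nontrivial (P : Subgroup G) := by
    rw [Subgroup.nontrivial_iff_exists_ne_one]
    exact ⟨z, hzP, h.z_ne_one⟩
  haveI := P.isPGroup'.center_nontrivial
  obtain ⟨c, hc1⟩ := exists_ne (1 : Subgroup.center (P : Subgroup G))
  have hcomm : ∀ p ∈ (P : Subgroup G), p * c.1.1 = c.1.1 * p := by
    intro p hp
    exact congrArg Subtype.val (Subgroup.mem_center_iff.1 c.2 ⟨p, hp⟩)
  obtain ⟨x, hx⟩ := h.surj c.1.1 (hcomm z hzP).symm
  have hxc : ∀ y, x * y = y * x := by
    intro y
    apply h.inj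
    rw [map_mul, map_mul, hx]
    exact (hcomm _ (hP ⟨y, rfl⟩)).symm
  have hcz : c.1.1 = z := by
    rcases center_D4 x hxc with h1 | h1
    · exfalso
      apply hc1
      apply Subtype.ext; apply Subtype.ext
      rw [← hx, h1, map_one]; rfl
    · rw [← hx, h1, h.r2]
  rw [h.range_eq]
  intro p hp
  rw [Subgroup.mem_centralizer_singleton_iff, ← hcz]
  exact hcomm p hp

theorem inv_D4 : ∀ x : DihedralGroup 4, x * x = 1 → x = 1 ∨ x = DihedralGroup.r 2 ∨
    x = DihedralGroup.sr 0 ∨ x = DihedralGroup.sr 2 ∨ x = DihedralGroup.sr 1 ∨ x = DihedralGroup.sr 3 := by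
  decide

theorem conj_sr2 : (DihedralGroup.r 1 * DihedralGroup.sr 2 * (DihedralGroup.r 1)⁻¹ : DihedralGroup 4) =
    DihedralGroup.sr 0 := by decide

theorem conj_sr3 : (DihedralGroup.r 1 * DihedralGroup.sr 3 * (DihedralGroup.r 1)⁻¹ : DihedralGroup 4) =
    DihedralGroup.sr 1 := by decide

theorem Emb.conj2 (h : Emb z ι) : IsConj (ι (DihedralGroup.sr 2)) (ι (DihedralGroup.sr 0)) := by
  rw [isConj_iff]
  exact ⟨ι (DihedralGroup.r 1), by rw [← map_inv, ← map_mul, ← map_mul, conj_sr2]⟩

theorem Emb.conj3 (h : Emb z ι) : IsConj (ι (DihedralGroup.sr 3)) (ι (DihedralGroup.sr 1)) := by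
  rw [isConj_iff]
  exact ⟨ι (DihedralGroup.r 1), by rw [← map_inv, ← map_mul, ← map_mul, conj_sr3]⟩

/-- no fusion: `G = C(z) O(G)` -/
theorem Emb.case_isolated (h : Emb z ι) (h0 : ¬ IsConj z (ι (DihedralGroup.sr 0)))
    (h1 : ¬ IsConj z (ι (DihedralGroup.sr 1))) :
    Subgroup.centralizer ({z} : Set G) ⊔ Cfsg.oddCore G = ⊤ := by
  have ho : orderOf z = 2 := orderOf_eq_prime (by rw [sq]; exact h.zz) h.z_ne_one
  apply H53Iso.centralizer_sup_of_isolated z ho
  intro g hg
  obtain ⟨x, hx⟩ := h.surj _ hg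
  have hconj : IsConj z (ι x) := by rw [hx, isConj_iff]; exact ⟨g, rfl⟩
  have hxx : x * x = 1 := by
    apply h.inj
    rw [map_mul, hx, map_one]
    calc g * z * g⁻¹ * (g * z * g⁻¹) = g * (z * z) * g⁻¹ := by group
      _ = 1 := by rw [h.zz]; group
  rcases inv_D4 x hxx with e | e | e | e | e | e
  · exfalso
    apply h.z_ne_one
    rw [e, map_one] at hx
    calc z = g⁻¹ * (g * z * g⁻¹) * g := by group
      _ = 1 := by rw [← hx]; group
  · rw [← hx, e, h.r2]
  · exact absurd (e ▸ hconj) h0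
  · exact absurd ((e ▸ hconj).trans h.conj2) h0
  · exact absurd (e ▸ hconj) h1
  · exact absurd ((e ▸ hconj).trans h.conj3) h1

/-- the four-group containing `sr 0` -/
def V4 : Subgroup (DihedralGroup 4) where
  carrier := {x | x = 1 ∨ x = DihedralGroup.r 2 ∨ x = DihedralGroup.sr 0 ∨ x = DihedralGroup.sr 2}
  one_mem' := Or.inl rfl
  mul_mem' := by
    intro a b
    revert a b
    show ∀ a b : DihedralGroup 4, _ → _ → _
    simp only [Set.mem_setOf_eq]
    decide
  inv_mem' := by
    intro a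
    revert a
    show ∀ a : DihedralGroup 4, _ → _
    simp only [Set.mem_setOf_eq]
    decide

theorem mem_V4 {x : DihedralGroup 4} : x ∈ V4 ↔
    x = 1 ∨ x = DihedralGroup.r 2 ∨ x = DihedralGroup.sr 0 ∨ x = DihedralGroup.sr 2 := Iff.rfl

instance : DecidablePred (· ∈ V4) := fun x => decidable_of_iff _ mem_V4.symm

theorem card_V4 : Nat.card V4 = 4 := by
  rw [Nat.card_eq_fintype_card]
  rfl

theorem perm4_of {G : Type*} [Group G] [Finite G] (hG : Nat.card G = 24) (a b : G)
    (hno : ∀ x : G, orderOf x = 3 → x * a ≠ a * x ∧ x * b ≠ b * x ∧ x * (a * b) ≠ (a * b) * x)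
    (hcen : ∀ t : G, orderOf t = 2 → ∃ g, g * t ≠ t * g) : Nonempty (G ≃* Equiv.Perm (Fin 4)) := by
  classical
  haveI : Fact (Nat.Prime 2) := ⟨Nat.prime_two⟩
  haveI : Fact (Nat.Prime 3) := ⟨Nat.prime_three⟩
  have hcard3 : ∀ R : Sylow 3 G, Nat.card (R : Subgroup G) = 3 := by
    intro R
    rw [R.card_eq_multiplicity, hG]
    have : (24 : ℕ).factorization 3 = 1 := by
      rw [show (24 : ℕ) = 3 * 8 by norm_num, Nat.factorization_mul (by norm_num) (by norm_num)]
      simp [Nat.factorization_eq_zero_of_not_dvd, Nat.prime_three.factorization_self]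
    rw [this, pow_one]
  have hidx : ∀ R : Sylow 3 G, (R : Subgroup G).index = 8 := by
    intro R
    have h3 := Subgroup.card_mul_index (R : Subgroup G)
    rw [hcard3 R, hG] at h3
    omega
  obtain ⟨R⟩ := (inferInstance : Nonempty (Sylow 3 G))
  have hn3 : Nat.card (Sylow 3 G) = 4 := by
    have h1 := card_sylow_modEq_one 3 G
    have h2 := R.card_dvd_index
    rw [hidx] at h2
    have h5 : Nat.card (Sylow 3 G) ≤ 8 := Nat.le_of_dvd (by norm_num) h2
    have h6 : Nat.card (Sylow 3 G) ≠ 1 := by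
      intro e
      haveI : Subsingleton (Sylow 3 G) := (Nat.card_eq_one_iff_unique.1 e).1
      have hRn : (R : Subgroup G).Normal := R.normal_of_subsingleton
      -- generator of `R`
      obtain ⟨⟨x, hxm⟩, hx⟩ := exists_prime_orderOf_dvd_card' (G := (R : Subgroup G)) 3 (by rw [hcard3 R])
      rw [Subgroup.orderOf_mk] at hx
      have hxR : Subgroup.zpowers x = (R : Subgroup G) := by
        apply Subgroup.eq_of_le_of_card_ge
        · rw [Subgroup.zpowers_le]; exact hxm
        · rw [hcard3 R, Nat.card_zpowers, hx]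
      have hinv : ∀ t : G, x * t ≠ t * x → t * x * t⁻¹ = x⁻¹ := by
        intro t ht
        have h7 : t * x * t⁻¹ ∈ (R : Subgroup G) := hRn.conj_mem _ hxm t
        rw [← hxR, mem_zpowers_iff_mem_range_orderOf, hx] at h7
        simp only [Finset.mem_image, Finset.mem_range] at h7
        obtain ⟨i, hi, hi'⟩ := h7
        have hx3 : x ^ 3 = 1 := by rw [← hx]; exact pow_orderOf_eq_one x
        interval_cases i
        · exfalso
          rw [pow_zero] at hi'
          have : x = 1 := by
            calc x = t⁻¹ * (t * x * t⁻¹) * t := by group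
              _ = 1 := by rw [← hi']; group
          rw [this, orderOf_one] at hx
          norm_num at hx
        · exfalso
          rw [pow_one] at hi'
          apply ht
          calc x * t = (t * x * t⁻¹) * t := by rw [← hi']
            _ = t * x := by group
        · rw [← hi']
          apply eq_inv_of_mul_eq_one_left
          rw [← pow_succ]; exact hx3
      obtain ⟨ha, hb, hab⟩ := hno x hx
      have e1 := hinv a ha
      have e2 := hinv b hb
      apply hab
      have e3 : (a * b) * x * (a * b)⁻¹ = x := by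
        calc (a * b) * x * (a * b)⁻¹ = a * (b * x * b⁻¹) * a⁻¹ := by group
          _ = (a * x * a⁻¹)⁻¹ := by rw [e2]; group
          _ = x := by rw [e1, inv_inv]
      calc x * (a * b) = ((a * b) * x * (a * b)⁻¹) * (a * b) := by rw [e3]
        _ = a * b * x := by group
    have h7 : Nat.card (Sylow 3 G) % 3 = 1 := by
      have := h1
      unfold Nat.ModEq at this
      simpa using this
    generalize Nat.card (Sylow 3 G) = n at *
    interval_cases n <;> simp_all
  -- the kernel
  let φ := MulAction.toPermHom G (Sylow 3 G)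
  have hK : ∀ x ∈ φ.ker, ∀ R : Sylow 3 G, x ∈ Subgroup.normalizer (R : Set G) := by
    intro x hx R
    rw [← Sylow.smul_eq_iff_mem_normalizer]
    exact DFunLike.congr_fun (MonoidHom.mem_ker.1 hx) R
  have hK3 : ¬ 3 ∣ Nat.card φ.ker := by
    intro h3
    obtain ⟨⟨x, hxm⟩, hx⟩ := exists_prime_orderOf_dvd_card' (G := φ.ker) 3 h3
    rw [Subgroup.orderOf_mk] at hx
    have hp : IsPGroup 3 (Subgroup.zpowers x) :=
      IsPGroup.of_card (n := 1) (by rw [Nat.card_zpowers, hx, pow_one])
    have hle : ∀ R : Sylow 3 G, Subgroup.zpowers x = (R : Subgroup G) := by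
      intro R
      have h1 := hp.inf_normalizer_sylow R
      have h2 : Subgroup.zpowers x ≤ Subgroup.normalizer (R : Set G) := by
        rw [Subgroup.zpowers_le]; exact hK x hxm R
      rw [inf_eq_left.2 h2] at h1
      have h3 : Subgroup.zpowers x ≤ (R : Subgroup G) := by
        rw [h1]; exact inf_le_right
      apply Subgroup.eq_of_le_of_card_ge h3
      rw [hcard3 R, Nat.card_zpowers, hx]
    have h4 : Nat.card (Sylow 3 G) ≤ 1 := by
      rw [Finite.card_le_one_iff_subsingleton]
      constructor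
      intro P Q
      apply Sylow.ext
      rw [← hle P, ← hle Q]
    omega
  have hK24 : Nat.card φ.ker ≤ 2 := by
    have h1 : φ.ker ≤ Subgroup.normalizer (R : Set G) := fun x hx => hK x hx R
    have h2 : Nat.card (Subgroup.normalizer (R : Set G)) = 6 := by
      have h3 := Subgroup.card_mul_index (Subgroup.normalizer (R : Set G))
      rw [← R.card_eq_index_normalizer, hn3, hG] at h3
      omega
    have h4 : Nat.card φ.ker ∣ 6 := by
      rw [← h2]
      exact Subgroup.card_dvd_of_le h1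
    have h5 := Nat.le_of_dvd (by norm_num) h4
    generalize Nat.card φ.ker = n at *
    interval_cases n <;> simp_all
  have hinj : Function.Injective φ := by
    rw [← MonoidHom.ker_eq_bot_iff]
    by_contra hne
    have h1 : Nat.card φ.ker ≠ 1 := fun e => hne (Subgroup.card_eq_one.1 e)
    have h0 : 0 < Nat.card φ.ker := Nat.card_pos
    have h2 : Nat.card φ.ker = 2 := by omega
    obtain ⟨⟨t, htm⟩, ht⟩ := exists_prime_orderOf_dvd_card' (G := φ.ker) 2 (by rw [h2])
    rw [Subgroup.orderOf_mk] at ht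
    obtain ⟨g, hg⟩ := hcen t ht
    apply hg
    have h3 : g * t * g⁻¹ ∈ φ.ker := φ.normal_ker.conj_mem t htm g
    have hz : Subgroup.zpowers t = φ.ker := by
      apply Subgroup.eq_of_le_of_card_ge
      · rw [Subgroup.zpowers_le]; exact htm
      · rw [h2, Nat.card_zpowers, ht]
    rw [← hz, mem_zpowers_iff_mem_range_orderOf, ht] at h3
    simp only [Finset.mem_image, Finset.mem_range] at h3
    obtain ⟨i, hi, hi'⟩ := h3
    interval_cases i
    · exfalso
      rw [pow_zero] at hi'
      have : t = 1 := by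
        calc t = g⁻¹ * (g * t * g⁻¹) * g := by group
          _ = 1 := by rw [← hi']; group
      rw [this, orderOf_one] at ht
      norm_num at ht
    · rw [pow_one] at hi'
      calc g * t = (g * t * g⁻¹) * g := by group
        _ = t * g := by rw [← hi']
  have hbij : Function.Bijective φ := by
    rw [Nat.bijective_iff_injective_and_card]
    refine ⟨hinj, ?_⟩
    rw [hG, Nat.card_perm, hn3]
    rfl
  have e : Sylow 3 G ≃ Fin 4 := Finite.equivFinOfCardEq hn3
  exact ⟨(MulEquiv.ofBijective φ hbij).trans e.permCongrHom⟩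

/-- the situation with exactly one fused class -/
structure One (z : G) (ι : DihedralGroup 4 →* G) (M : Subgroup G) : Prop extends Emb z ι where
  hA : IsConj z (ι (DihedralGroup.sr 0))
  normal : M.Normal
  index : M.index = 2
  mem_iff : ∀ x, ι x ∈ M ↔ x ∈ V4

theorem Emb.exists_M (h : Emb z ι) (hA : IsConj z (ι (DihedralGroup.sr 0)))
    (hB : ¬ IsConj z (ι (DihedralGroup.sr 1))) : ∃ M : Subgroup G, One z ι M := by
  haveI : Fact (Nat.Prime 2) := ⟨Nat.prime_two⟩
  obtain ⟨P, hP⟩ := h.exists_sylow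
  set u := ι (DihedralGroup.sr 1) with hu
  have huu : u * u = 1 := by
    rw [hu, ← map_mul]
    have : (DihedralGroup.sr 1 * DihedralGroup.sr 1 : DihedralGroup 4) = 1 := by decide
    rw [this, map_one]
  have hu1 : u ≠ 1 := by
    rw [hu, ← map_one ι]
    intro e
    exact absurd (h.inj e) (by decide)
  have ho : orderOf u = 2 := orderOf_eq_prime (by rw [sq]; exact huu) hu1
  have hQcard : Nat.card (V4.map ι) = 4 := by
    rw [Subgroup.card_map_of_injective h.inj, card_V4]
  have hQP : V4.map ι ≤ (P : Subgroup G) := by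
    rw [hP]
    rintro _ ⟨x, -, rfl⟩
    exact ⟨x, rfl⟩
  have hrel : (V4.map ι).relIndex (P : Subgroup G) = 2 := by
    have h1 := Subgroup.card_mul_index ((V4.map ι).subgroupOf (P : Subgroup G))
    rw [Nat.card_congr (Subgroup.subgroupOfEquivOfLe hQP).toEquiv, hQcard] at h1
    have h2 : Nat.card (P : Subgroup G) = 8 := by rw [hP, h.card_range]
    rw [h2] at h1
    show ((V4.map ι).subgroupOf (P : Subgroup G)).index = 2
    omega
  obtain ⟨M, hMn, hMi, huM⟩ := ThompsonTransfer.thompson_transfer P (V4.map ι) hrel u ho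
    (by rw [hP]; exact ⟨_, rfl⟩) (by
      rintro g ⟨x, hx, hxe⟩
      have hconj : IsConj u (ι x) := by rw [hxe, isConj_iff]; exact ⟨g, rfl⟩
      apply hB
      rcases mem_V4.1 hx with e | e | e | e
      · exfalso
        rw [e, map_one] at hxe
        apply hu1
        calc u = g⁻¹ * (g * u * g⁻¹) * g := by group
          _ = 1 := by rw [← hxe]; group
      · rw [e, h.r2] at hconj
        exact hconj.symm
      · rw [e] at hconj
        exact hA.trans hconj.symm
      · rw [e] at hconj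
        exact (hA.trans h.conj2.symm).trans hconj.symm)
  refine ⟨M, { toEmb := h, hA := hA, normal := hMn, index := hMi, mem_iff := ?_ }⟩
  have hz : z ∈ M := by
    have h1 := Subgroup.sq_mem_of_index_two hMi (ι (DihedralGroup.r 1))
    rw [sq, ← map_mul] at h1
    have h2 : (DihedralGroup.r 1 * DihedralGroup.r 1 : DihedralGroup 4) = DihedralGroup.r 2 := by decide
    rw [h2, h.r2] at h1
    exact h1
  have hs0 : ι (DihedralGroup.sr 0) ∈ M := by
    obtain ⟨g, hg⟩ := isConj_iff.1 hA
    rw [← hg]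
    exact hMn.conj_mem z hz g
  have hmap : ∀ x, x ∈ V4 → ι x ∈ M := by
    intro x hx
    rcases mem_V4.1 hx with e | e | e | e
    · rw [e, map_one]; exact M.one_mem
    · rw [e, h.r2]; exact hz
    · rw [e]; exact hs0
    · have h2 : (DihedralGroup.sr 2 : DihedralGroup 4) = DihedralGroup.r 2 * DihedralGroup.sr 0 := by decide
      rw [e, h2, map_mul, h.r2]
      exact M.mul_mem hz hs0
  intro x
  refine ⟨fun hx => ?_, hmap x⟩
  by_contra hxV
  apply huM
  have h3 : DihedralGroup.sr 1 * x⁻¹ ∈ V4 := by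
    revert hxV
    have : ∀ y : DihedralGroup 4, y ∉ V4 → DihedralGroup.sr 1 * y⁻¹ ∈ V4 := by decide
    exact this x
  have h4 := M.mul_mem (hmap _ h3) hx
  rw [← map_mul, inv_mul_cancel_right] at h4
  exact h4

section one

variable {M : Subgroup G}

theorem One.zM (h : One z ι M) : z ∈ M := by
  rw [← h.r2, h.mem_iff]
  exact Or.inr (Or.inl rfl)

/-- every involution of `M` is conjugate to `z` -/
theorem One.conj_of_invol (h : One z ι M) {t : G} (htM : t ∈ M) (htt : t * t = 1) (ht1 : t ≠ 1) : IsConj z t := by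
  haveI : Fact (Nat.Prime 2) := ⟨Nat.prime_two⟩
  haveI := h.normal
  obtain ⟨P, hP⟩ := h.toEmb.exists_sylow
  have ho : orderOf t = 2 := orderOf_eq_prime (by rw [sq]; exact htt) ht1
  have h2 : IsPGroup 2 (Subgroup.zpowers t) :=
    IsPGroup.of_card (n := 1) (by rw [Nat.card_zpowers, ho, pow_one])
  obtain ⟨R, hR⟩ := h2.exists_le_sylow
  obtain ⟨g, hg⟩ := MulAction.exists_smul_eq G R P
  have h3 : g * t * g⁻¹ ∈ (P : Subgroup G) := by
    rw [← hg]
    exact Subgroup.smul_mem_pointwise_smul (a := MulAut.conj g) (m := t) (S := (R : Subgroup G))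
      (hR (Subgroup.mem_zpowers t))
  rw [hP] at h3
  obtain ⟨x, hx⟩ := h3
  have hxM : ι x ∈ M := by rw [hx]; exact h.normal.conj_mem t htM g
  have hxV := (h.mem_iff x).1 hxM
  have hct : IsConj (ι x) t := by
    rw [hx, isConj_iff]; exact ⟨g⁻¹, by group⟩
  rcases mem_V4.1 hxV with e | e | e | e
  · exfalso
    apply ht1
    rw [e, map_one] at hx
    calc t = g⁻¹ * (g * t * g⁻¹) * g := by group
      _ = 1 := by rw [← hx]; group
  · rw [e, h.r2] at hct; exact hct
  · rw [e] at hct; exact h.hA.trans hct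
  · rw [e] at hct; exact (h.hA.trans h.toEmb.conj2.symm).trans hct

theorem V4_comm : ∀ x y : DihedralGroup 4, x ∈ V4 → y ∈ V4 → x * y = y * x := by decide

theorem V4_sq : ∀ x : DihedralGroup 4, x ∈ V4 → x * x = 1 := by decide

/-- elements of `M` commuting with an involution of `M` -/
theorem One.cent (h : One z ι M) {t : G} (ht : IsConj z t) :
    ∃ k : G, k * z * k⁻¹ = t ∧ ∀ c ∈ M, c * t = t * c → ∃ x ∈ V4, c = k * ι x * k⁻¹ := by
  obtain ⟨k, hk⟩ := isConj_iff.1 ht
  refine ⟨k, hk, ?_⟩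
  intro c hc hct
  have h1 : (k⁻¹ * c * k) * z = z * (k⁻¹ * c * k) := by
    rw [← hk] at hct
    calc (k⁻¹ * c * k) * z = k⁻¹ * (c * (k * z * k⁻¹)) * k := by group
      _ = k⁻¹ * (k * z * k⁻¹ * c) * k := by rw [hct]
      _ = z * (k⁻¹ * c * k) := by group
  obtain ⟨x, hx⟩ := h.surj _ h1
  refine ⟨x, ?_, ?_⟩
  · rw [← h.mem_iff, hx]
    have := h.normal.conj_mem c hc k⁻¹
    rwa [inv_inv] at this
  · rw [hx]; group

theorem One.hC (h : One z ι M) (t : M) (ht : orderOf t = 2) :
    IsMulCommutative (Subgroup.centralizer ({t} : Set M)) ∧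
      ∀ c ∈ Subgroup.centralizer ({t} : Set M), c ^ 2 = 1 := by
  have htt : (t : G) * t = 1 := by
    have : t ^ 2 = 1 := by rw [← ht, pow_orderOf_eq_one]
    rw [sq] at this
    exact congrArg Subtype.val this
  have ht1 : (t : G) ≠ 1 := by
    intro e
    have : t = 1 := Subtype.ext e
    rw [this, orderOf_one] at ht
    exact absurd ht (by norm_num)
  obtain ⟨k, hk, hc⟩ := h.cent (h.conj_of_invol t.2 htt ht1)
  have key : ∀ c ∈ Subgroup.centralizer ({t} : Set M), ∃ x ∈ V4, (c : G) = k * ι x * k⁻¹ := by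
    intro c hct
    exact hc c c.2 (congrArg Subtype.val (Subgroup.mem_centralizer_singleton_iff.1 hct))
  constructor
  · refine ⟨⟨fun a b => ?_⟩⟩
    obtain ⟨x, hx, hax⟩ := key a.1 a.2
    obtain ⟨y, hy, hby⟩ := key b.1 b.2
    apply Subtype.ext; apply Subtype.ext
    show (a.1 : G) * (b.1 : G) = (b.1 : G) * (a.1 : G)
    rw [hax, hby]
    calc k * ι x * k⁻¹ * (k * ι y * k⁻¹) = k * (ι x * ι y) * k⁻¹ := by group
      _ = k * (ι y * ι x) * k⁻¹ := by rw [← map_mul, V4_comm x y hx hy, map_mul]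
      _ = _ := by group
  · intro c hct
    obtain ⟨x, hx, hcx⟩ := key c hct
    apply Subtype.ext
    rw [sq]
    show (c : G) * c = 1
    rw [hcx]
    calc k * ι x * k⁻¹ * (k * ι x * k⁻¹) = k * (ι x * ι x) * k⁻¹ := by group
      _ = 1 := by rw [← map_mul, V4_sq x hx, map_one]; group

/-- the centraliser of `z` in `M` -/
theorem One.card_cent (h : One z ι M) :
    Nat.card (Subgroup.centralizer ({(⟨z, h.zM⟩ : M)} : Set M)) = 4 := by
  rw [← card_V4]
  symm
  apply Nat.card_congr
  apply Equiv.ofBijective (fun x : V4 => (⟨⟨ι x.1, (h.mem_iff _).2 x.2⟩, by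
    rw [Subgroup.mem_centralizer_singleton_iff]
    exact Subtype.ext (h.toEmb.comm x.1)⟩ : Subgroup.centralizer ({(⟨z, h.zM⟩ : M)} : Set M)))
  constructor
  · intro x y hxy
    apply Subtype.ext
    apply h.inj
    exact congrArg (fun w => ((w : Subgroup.centralizer ({(⟨z, h.zM⟩ : M)} : Set M)) : M).1) hxy
  · rintro ⟨⟨c, hcM⟩, hc⟩
    obtain ⟨x, hx⟩ := h.surj c (congrArg Subtype.val (Subgroup.mem_centralizer_singleton_iff.1 hc))
    refine ⟨⟨x, (h.mem_iff x).1 (by rw [hx]; exact hcM)⟩, ?_⟩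
    apply Subtype.ext; apply Subtype.ext
    exact hx

/-- the numbers -/
theorem One.cards (h : One z ι M) : ∃ m, m % 2 = 1 ∧ Nat.card G = 8 * m ∧ Nat.card M = 4 * m ∧
    (Subgroup.centralizer ({(⟨z, h.zM⟩ : M)} : Set M)).index = m := by
  haveI : Fact (Nat.Prime 2) := ⟨Nat.prime_two⟩
  obtain ⟨P, hP⟩ := h.toEmb.exists_sylow
  have h1 := Subgroup.card_mul_index (P : Subgroup G)
  have h2 : Nat.card (P : Subgroup G) = 8 := by rw [hP, h.toEmb.card_range]
  have h3 := P.not_dvd_index
  have h4 := Subgroup.card_mul_index M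
  rw [h.index] at h4
  have h5 := Subgroup.card_mul_index (Subgroup.centralizer ({(⟨z, h.zM⟩ : M)} : Set M))
  rw [h.card_cent] at h5
  rw [h2] at h1
  refine ⟨(P : Subgroup G).index, by omega, h1.symm, by omega, by omega⟩

theorem One.z_not_central (h : One z ι M) : ∃ g : G, g * z ≠ z * g := by
  obtain ⟨g, hg⟩ := isConj_iff.1 h.hA
  refine ⟨g, fun e => ?_⟩
  rw [e, mul_inv_cancel_right, ← h.r2] at hg
  exact absurd (h.inj hg) (by decide)

theorem One.not_cyclic (h : One z ι M) :
    ¬ IsCyclic (Subgroup.centralizer ({(⟨z, h.zM⟩ : M)} : Set M)) := by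
  intro hc
  obtain ⟨g, hg⟩ := IsCyclic.exists_ofOrder_eq_natCard (α := Subgroup.centralizer ({(⟨z, h.zM⟩ : M)} : Set M))
  rw [h.card_cent] at hg
  have ho : orderOf (⟨z, h.zM⟩ : M) = 2 := by
    apply orderOf_eq_prime
    · rw [sq]; exact Subtype.ext h.toEmb.zz
    · intro e; exact h.toEmb.z_ne_one (congrArg Subtype.val e)
  have h1 := (h.hC ⟨z, h.zM⟩ ho).2 g.1 g.2
  have h2 : g ^ 2 = 1 := Subtype.ext h1
  have h3 := orderOf_dvd_of_pow_eq_one h2
  rw [hg] at h3
  omega

/-- the normal case: `S4` -/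
theorem One.normal_case (h : One z ι M)
    (hn : (Subgroup.centralizer ({(⟨z, h.zM⟩ : M)} : Set M)).Normal) : Nonempty (G ≃* Equiv.Perm (Fin 4)) := by
  haveI : Fact (Nat.Prime 2) := ⟨Nat.prime_two⟩
  haveI : Fact (Nat.Prime 3) := ⟨Nat.prime_three⟩
  obtain ⟨m, hm, hG, hM, hidx⟩ := h.cards
  set C := Subgroup.centralizer ({(⟨z, h.zM⟩ : M)} : Set M) with hCdef
  have hzC : (⟨z, h.zM⟩ : M) ∈ C := by rw [hCdef, Subgroup.mem_centralizer_singleton_iff]
  -- the class of `z` in `M` has at most three elements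
  have hm3 : m ≤ 3 := by
    let f : M ⧸ C → C := Quotient.lift (fun g : M => (⟨g * ⟨z, h.zM⟩ * g⁻¹, hn.conj_mem _ hzC g⟩ : C)) (by
      intro a b hab
      have hab' : a⁻¹ * b ∈ C := QuotientGroup.leftRel_apply.1 hab
      rw [hCdef, Subgroup.mem_centralizer_singleton_iff] at hab'
      apply Subtype.ext
      show a * ⟨z, h.zM⟩ * a⁻¹ = b * ⟨z, h.zM⟩ * b⁻¹
      calc a * ⟨z, h.zM⟩ * a⁻¹ = a * (⟨z, h.zM⟩ * (a⁻¹ * b)) * b⁻¹ := by group
        _ = a * ((a⁻¹ * b) * ⟨z, h.zM⟩) * b⁻¹ := by rw [hab']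
        _ = b * ⟨z, h.zM⟩ * b⁻¹ := by group)
    have hfinj : Function.Injective (fun o : Option (M ⧸ C) => (match o with
        | Option.none => (1 : C)
        | Option.some q => f q)) := by
      have hne : ∀ q, f q ≠ 1 := by
        intro q
        obtain ⟨g, rfl⟩ := QuotientGroup.mk_surjective q
        intro e
        have e1 : g * ⟨z, h.zM⟩ * g⁻¹ = 1 := congrArg Subtype.val e
        apply h.toEmb.z_ne_one
        have e2 : (⟨z, h.zM⟩ : M) = 1 := by
          calc (⟨z, h.zM⟩ : M) = g⁻¹ * (g * ⟨z, h.zM⟩ * g⁻¹) * g := by group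
            _ = 1 := by rw [e1]; group
        exact congrArg Subtype.val e2
      rintro (_ | p) (_ | q) hpq
      · rfl
      · exact absurd hpq.symm (hne q)
      · exact absurd hpq (hne p)
      · congr 1
        obtain ⟨a, rfl⟩ := QuotientGroup.mk_surjective p
        obtain ⟨b, rfl⟩ := QuotientGroup.mk_surjective q
        have e1 : a * ⟨z, h.zM⟩ * a⁻¹ = b * ⟨z, h.zM⟩ * b⁻¹ := congrArg Subtype.val hpq
        rw [QuotientGroup.eq, hCdef, Subgroup.mem_centralizer_singleton_iff]
        calc a⁻¹ * b * ⟨z, h.zM⟩ = a⁻¹ * (b * ⟨z, h.zM⟩ * b⁻¹) * b := by group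
          _ = a⁻¹ * (a * ⟨z, h.zM⟩ * a⁻¹) * b := by rw [e1]
          _ = ⟨z, h.zM⟩ * (a⁻¹ * b) := by group
    have h1 := Nat.card_le_card_of_injective _ hfinj
    rw [Finite.card_option, h.card_cent, ← Subgroup.index_eq_card, hidx] at h1
    omega
  have hm1 : m ≠ 1 := by
    intro e
    obtain ⟨g, hg⟩ := h.z_not_central
    apply hg
    have h1 : Subgroup.centralizer ({z} : Set G) = ⊤ := by
      apply Subgroup.eq_top_of_card_eq
      rw [h.toEmb.card_centralizer, hG, e]
    have h2 : g ∈ Subgroup.centralizer ({z} : Set G) := by rw [h1]; trivial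
    exact Subgroup.mem_centralizer_singleton_iff.1 h2
  have hm3' : m = 3 := by omega
  rw [hm3'] at hG
  have hno3 : ∀ t : G, IsConj z t → ∀ x : G, orderOf x = 3 → x * t ≠ t * x := by
    intro t ht x hx hxt
    obtain ⟨k, hk⟩ := isConj_iff.1 ht
    have h1 : (k⁻¹ * x * k) * z = z * (k⁻¹ * x * k) := by
      rw [← hk] at hxt
      calc (k⁻¹ * x * k) * z = k⁻¹ * (x * (k * z * k⁻¹)) * k := by group
        _ = k⁻¹ * (k * z * k⁻¹ * x) * k := by rw [hxt]
        _ = z * (k⁻¹ * x * k) := by group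
    have h2 : k⁻¹ * x * k ∈ Subgroup.centralizer ({z} : Set G) := Subgroup.mem_centralizer_singleton_iff.2 h1
    have h3 : orderOf (k⁻¹ * x * k) ∣ 8 := by
      rw [← h.toEmb.card_centralizer, ← Subgroup.orderOf_mk _ h2]
      exact orderOf_dvd_natCard _
    have h4 : orderOf (k⁻¹ * x * k) = 3 := by
      have : k⁻¹ * x * k = MulAut.conj k⁻¹ x := by simp [MulAut.conj_apply]
      rw [this, MulEquiv.orderOf_eq, hx]
    rw [h4] at h3
    norm_num at h3
  apply perm4_of hG z (ι (DihedralGroup.sr 0))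
  · intro x hx
    refine ⟨hno3 z (IsConj.refl z) x hx, hno3 _ h.hA x hx, ?_⟩
    have e1 : z * ι (DihedralGroup.sr 0) = ι (DihedralGroup.sr 2) := by
      rw [← h.r2, ← map_mul]
      congr 1
    rw [e1]
    exact hno3 _ (h.hA.trans h.toEmb.conj2.symm) x hx
  · intro t ht
    by_contra hcon
    push_neg at hcon
    obtain ⟨x, hx⟩ := h.surj t (hcon z).symm
    have hxc : ∀ y, x * y = y * x := by
      intro y
      apply h.inj
      rw [map_mul, map_mul, hx]
      exact (hcon _).symm
    rcases center_D4 x hxc with h1 | h1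
    · rw [← hx, h1, map_one, orderOf_one] at ht
      norm_num at ht
    · obtain ⟨g, hg⟩ := h.z_not_central
      apply hg
      rw [← h.r2, ← h1, hx]
      exact hcon g

end one

end Cfsg.Agent.Lib.CentD8
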