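import Cfsg.Agent.Lib.CentD8

/-!
# Groups with an involution whose centraliser is dihedral of order 8, one fused class (helper83)
-/

set_option autoImplicit false
set_option linter.all false

namespace Cfsg.Agent.Lib.CentD8

open Cfsg

variable {G : Type*} [Group G] [Finite G] {z : G} {ι : DihedralGroup 4 →* G}

theorem V4_self_cent : ∀ x : DihedralGroup 4, (∀ y ∈ V4, x * y = y * x) → x ∈ V4 := by decide

section one

variable {M : Subgroup G}

theorem One.s5_case (h : One z ι M)
    (hn : ¬ (Subgroup.centralizer ({(⟨z, h.zM⟩ : M)} : Set M)).Normal) : Nonempty (G ≃* Equiv.Perm (Fin 5)) := by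
  haveI : Fact (Nat.Prime 2) := ⟨Nat.prime_two⟩
  haveI := h.normal
  obtain ⟨m, hm, hG, hM, hidx⟩ := h.cards
  have hp : IsPGroup 2 (Subgroup.centralizer ({(⟨z, h.zM⟩ : M)} : Set M)) :=
    IsPGroup.of_card (n := 2) (by rw [h.card_cent]; norm_num)
  let T : Sylow 2 M := hp.toSylow (by rw [hidx]; omega)
  have hT : (T : Subgroup M) = Subgroup.centralizer ({(⟨z, h.zM⟩ : M)} : Set M) := rfl
  obtain ⟨F, _, _, hF, ⟨e1⟩⟩ := Cfsg.Agent.S1230.result T (by
      show ¬ IsCyclic (Subgroup.centralizer ({(⟨z, h.zM⟩ : M)} : Set M))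
      exact h.not_cyclic) (by rw [hT]; exact hn) h.hC
  have hF4 : Fintype.card F = 4 := by
    rw [hF]
    exact h.card_cent
  obtain ⟨e2⟩ := Cfsg.Agent.S0252.result hF4
  have e := e1.trans e2
  have hM60 : Nat.card M = 60 := by
    rw [Nat.card_congr e.toEquiv, nat_card_alternatingGroup]
    simp [Nat.factorial]
  have hinj : Function.Injective (MulAut.conjNormal : G →* MulAut M) := by
    rw [injective_iff_map_eq_one]
    intro g hg
    have hc : ∀ a ∈ M, g * a = a * g := by
      intro a ha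
      have h1 := DFunLike.congr_fun hg (⟨a, ha⟩ : M)
      have h2 := congrArg Subtype.val h1
      rw [MulAut.conjNormal_apply] at h2
      change g * a * g⁻¹ = a at h2
      calc g * a = (g * a * g⁻¹) * g := by group
        _ = a * g := by rw [h2]
    obtain ⟨x, hx⟩ := h.surj g (hc z h.zM)
    have hxV : x ∈ V4 := by
      apply V4_self_cent
      intro y hy
      apply h.inj
      rw [map_mul, map_mul, hx]
      exact hc _ ((h.mem_iff y).2 hy)
    by_contra hg1
    have hgM : g ∈ M := by rw [← hx]; exact (h.mem_iff x).2 hxV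
    have hgg : g * g = 1 := by rw [← hx, ← map_mul, V4_sq x hxV, map_one]
    have hconj := h.conj_of_invol hgM hgg hg1
    obtain ⟨k, hk⟩ := isConj_iff.1 hconj
    have hle : M.map (MulAut.conj k⁻¹).toMonoidHom ≤ Subgroup.centralizer ({z} : Set G) := by
      rintro _ ⟨a, ha, rfl⟩
      rw [Subgroup.mem_centralizer_singleton_iff]
      show (k⁻¹ * a * k⁻¹⁻¹) * z = z * (k⁻¹ * a * k⁻¹⁻¹)
      rw [inv_inv]
      have h1 := hc a ha
      rw [← hk] at h1
      calc (k⁻¹ * a * k) * z = k⁻¹ * (a * (k * z * k⁻¹)) * k := by group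
        _ = k⁻¹ * (k * z * k⁻¹ * a) * k := by rw [h1]
        _ = z * (k⁻¹ * a * k) := by group
    have h2 := Subgroup.card_le_of_le hle
    rw [Subgroup.card_map_of_injective (MulAut.conj k⁻¹).injective, h.toEmb.card_centralizer, hM60] at h2
    omega
  let e3 : MulAut M ≃* MulAut (alternatingGroup (Fin 5)) := MulAut.congr e
  have hb := AutAlt.bijective_conjNormal (α := Fin 5) (by simp) (by simp)
  let e4 : Equiv.Perm (Fin 5) ≃* MulAut (alternatingGroup (Fin 5)) := MulEquiv.ofBijective _ hb
  let φ : G →* Equiv.Perm (Fin 5) := (e3.trans e4.symm).toMonoidHom.comp MulAut.conjNormal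
  have hφ : Function.Injective φ := (e3.trans e4.symm).injective.comp hinj
  have hbij : Function.Bijective φ := by
    rw [Nat.bijective_iff_injective_and_card]
    refine ⟨hφ, ?_⟩
    rw [Nat.card_perm, Nat.card_fin]
    have : Nat.card G = 120 := by omega
    rw [this]
    rfl
  exact ⟨MulEquiv.ofBijective φ hbij⟩

end one

/-- exactly one class of involutions fused: `S4` or `S5` -/
theorem Emb.case_one (h : Emb z ι) (hA : IsConj z (ι (DihedralGroup.sr 0)))
    (hB : ¬ IsConj z (ι (DihedralGroup.sr 1))) :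
    Nonempty (G ≃* Equiv.Perm (Fin 4)) ∨ Nonempty (G ≃* Equiv.Perm (Fin 5)) := by
  obtain ⟨M, hM⟩ := h.exists_M hA hB
  by_cases hn : (Subgroup.centralizer ({(⟨z, hM.zM⟩ : M)} : Set M)).Normal
  · exact Or.inl (hM.normal_case hn)
  · exact Or.inr (hM.s5_case hn)

/-- the automorphism `sr i ↦ sr (i + 1)` of the dihedral group -/
def rot : DihedralGroup 4 →* DihedralGroup 4 where
  toFun x := match x with
    | .r i => .r i
    | .sr i => .sr (i + 1)
  map_one' := rfl
  map_mul' := by decide

theorem rot_inj : Function.Injective rot := by decide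

theorem Emb.rot (h : Emb z ι) : Emb z (ι.comp CentD8.rot) where
  inj := h.inj.comp rot_inj
  r2 := h.r2
  surj := by
    intro g hg
    obtain ⟨x, hx⟩ := h.surj g hg
    obtain ⟨y, hy⟩ := (Finite.injective_iff_surjective.1 rot_inj) x
    exact ⟨y, by rw [← hx, ← hy]; rfl⟩

theorem Emb.case_one' (h : Emb z ι) (hA : ¬ IsConj z (ι (DihedralGroup.sr 0)))
    (hB : IsConj z (ι (DihedralGroup.sr 1))) :
    Nonempty (G ≃* Equiv.Perm (Fin 4)) ∨ Nonempty (G ≃* Equiv.Perm (Fin 5)) := by
  apply h.rot.case_one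
  · show IsConj z (ι (DihedralGroup.sr (0 + 1)))
    exact hB
  · show ¬ IsConj z (ι (DihedralGroup.sr (1 + 1)))
    intro e
    apply hA
    exact e.trans h.conj2

end Cfsg.Agent.Lib.CentD8
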