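import Cfsg.Agent.Lib.CentD8B
import Cfsg.Agent.S3282

/-!
# Groups with an involution whose centraliser is dihedral of order 8, all involutions fused (helper83)
-/

set_option autoImplicit false
set_option linter.all false

namespace Cfsg.Agent.Lib.CentD8

open Cfsg

variable {G : Type*} [Group G] [Finite G] {z : G} {ι : DihedralGroup 4 →* G}

/-- every involution is conjugate to `z` -/
theorem Emb.conj_all (h : Emb z ι) (hA : IsConj z (ι (DihedralGroup.sr 0)))
    (hB : IsConj z (ι (DihedralGroup.sr 1))) (t : G) (ht : orderOf t = 2) : IsConj z t := by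
  haveI : Fact (Nat.Prime 2) := ⟨Nat.prime_two⟩
  obtain ⟨P, hP⟩ := h.exists_sylow
  have htt : t * t = 1 := by rw [← sq, ← ht, pow_orderOf_eq_one]
  have ht1 : t ≠ 1 := by
    intro e; rw [e, orderOf_one] at ht; norm_num at ht
  have h2 : IsPGroup 2 (Subgroup.zpowers t) :=
    IsPGroup.of_card (n := 1) (by rw [Nat.card_zpowers, ht, pow_one])
  obtain ⟨R, hR⟩ := h2.exists_le_sylow
  obtain ⟨g, hg⟩ := MulAction.exists_smul_eq G R P
  have h3 : g * t * g⁻¹ ∈ (P : Subgroup G) := by
    rw [← hg]
    exact Subgroup.smul_mem_pointwise_smul (a := MulAut.conj g) (m := t) (S := (R : Subgroup G))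
      (hR (Subgroup.mem_zpowers t))
  rw [hP] at h3
  obtain ⟨x, hx⟩ := h3
  have hct : IsConj (ι x) t := by
    rw [hx, isConj_iff]; exact ⟨g⁻¹, by group⟩
  have hxx : x * x = 1 := by
    apply h.inj
    rw [map_mul, hx, map_one]
    calc g * t * g⁻¹ * (g * t * g⁻¹) = g * (t * t) * g⁻¹ := by group
      _ = 1 := by rw [htt]; group
  rcases inv_D4 x hxx with e | e | e | e | e | e
  · exfalso
    apply ht1
    rw [e, map_one] at hx
    calc t = g⁻¹ * (g * t * g⁻¹) * g := by group
      _ = 1 := by rw [← hx]; group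
  · rw [e, h.r2] at hct; exact hct
  · rw [e] at hct; exact hA.trans hct
  · rw [e] at hct; exact (hA.trans h.conj2.symm).trans hct
  · rw [e] at hct; exact hB.trans hct
  · rw [e] at hct; exact (hB.trans h.conj3.symm).trans hct

/-- the cyclic subgroup of order four -/
def C4 : Subgroup (DihedralGroup 4) where
  carrier := {x | x = 1 ∨ x = DihedralGroup.r 1 ∨ x = DihedralGroup.r 2 ∨ x = DihedralGroup.r 3}
  one_mem' := Or.inl rfl
  mul_mem' := by
    intro a b
    revert a b
    show ∀ a b : DihedralGroup 4, _ → _ → _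
    simp only [Set.mem_setOf_eq]
    decide
  inv_mem' := by
    intro a
    revert a
    show ∀ a : DihedralGroup 4, _ → _
    simp only [Set.mem_setOf_eq]
    decide

theorem mem_C4 {x : DihedralGroup 4} : x ∈ C4 ↔
    x = 1 ∨ x = DihedralGroup.r 1 ∨ x = DihedralGroup.r 2 ∨ x = DihedralGroup.r 3 := Iff.rfl

instance : DecidablePred (· ∈ C4) := fun x => decidable_of_iff _ mem_C4.symm

theorem C4_comm : ∀ x ∈ C4, ∀ y ∈ C4, x * y = y * x := by decide

theorem C4_inv : ∀ x ∈ C4, DihedralGroup.sr 0 * x * (DihedralGroup.sr 0)⁻¹ = x⁻¹ := by decide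

theorem C4_cent : ∀ x ∈ C4, x * DihedralGroup.sr 0 = DihedralGroup.sr 0 * x → x = 1 ∨ x = DihedralGroup.r 2 := by decide

theorem C4_pow : ∀ x ∈ C4, x ≠ 1 → (x = DihedralGroup.r 2) ∨ (x * x = DihedralGroup.r 2) := by decide

theorem C4_sq : ∀ x ∈ C4, x * x = 1 → x = 1 ∨ x = DihedralGroup.r 2 := by decide

theorem C4_or : ∀ x : DihedralGroup 4, x ∈ C4 ∨ ∃ y ∈ C4, x = y * DihedralGroup.sr 0 := by decide

/-- all involutions fused: `PSL(2,F)` -/
theorem Emb.psl2 (h : Emb z ι) (hA : IsConj z (ι (DihedralGroup.sr 0)))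
    (hB : IsConj z (ι (DihedralGroup.sr 1))) :
    ∃ (F : Type) (_ : Field F) (_ : Fintype F), Fintype.card F % 2 = 1 ∧
      2 * Nat.card G = Fintype.card F * (Fintype.card F + 1) * (Fintype.card F - 1) ∧
      Nonempty (G ≃* Matrix.ProjectiveSpecialLinearGroup (Fin 2) F) := by
  have hz : orderOf z = 2 := orderOf_eq_prime (by rw [sq]; exact h.zz) h.z_ne_one
  have hmem : ∀ {g : G}, g ∈ Subgroup.centralizer ({z} : Set G) ↔ ∃ x, ι x = g := by
    intro g
    rw [← h.range_eq]
    rfl
  have hs : orderOf (ι (DihedralGroup.sr 0)) = 2 := by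
    rw [orderOf_injective ι h.inj]
    exact orderOf_eq_prime (by decide) (by decide)
  obtain ⟨Q, D, h1, h2, h3, h4, h5, h6, h7⟩ := Cfsg.Agent.S3282.result z hz (C4.map ι) (by
      refine ⟨⟨?_⟩⟩
      rintro ⟨_, x, hx, rfl⟩ ⟨_, y, hy, rfl⟩
      apply Subtype.ext
      show ι x * ι y = ι y * ι x
      rw [← map_mul, C4_comm x hx y hy, map_mul]) (by
      rintro _ ⟨x, -, rfl⟩
      exact hmem.2 ⟨x, rfl⟩) ⟨DihedralGroup.r 2, Or.inr (Or.inr (Or.inl rfl)), h.r2⟩
      (ι (DihedralGroup.sr 0)) hs (hmem.2 ⟨_, rfl⟩) (by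
      rintro ⟨x, hx, hxe⟩
      have := h.inj hxe
      rw [this] at hx
      revert hx
      show ¬ (DihedralGroup.sr 0 ∈ C4)
      decide) (by
      apply le_antisymm
      · rw [sup_le_iff]
        constructor
        · rintro _ ⟨x, -, rfl⟩
          exact hmem.2 ⟨x, rfl⟩
        · rw [Subgroup.zpowers_le]
          exact hmem.2 ⟨_, rfl⟩
      · intro g hg
        obtain ⟨x, rfl⟩ := hmem.1 hg
        rcases C4_or x with hx | ⟨y, hy, rfl⟩
        · exact Subgroup.mem_sup_left ⟨x, hx, rfl⟩
        · rw [map_mul]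
          exact mul_mem (Subgroup.mem_sup_left ⟨y, hy, rfl⟩) (Subgroup.mem_sup_right (Subgroup.mem_zpowers _))) (by
      apply le_antisymm
      · rintro g ⟨⟨x, hx, rfl⟩, hg⟩
        have hg' : ι x * ι (DihedralGroup.sr 0) = ι (DihedralGroup.sr 0) * ι x :=
          Subgroup.mem_centralizer_singleton_iff.1 hg
        rw [← map_mul, ← map_mul] at hg'
        rcases C4_cent x hx (h.inj hg') with e | e
        · rw [e, map_one]; exact one_mem _
        · rw [e, h.r2]; exact Subgroup.mem_zpowers z
      · rw [Subgroup.zpowers_le]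
        refine ⟨⟨DihedralGroup.r 2, Or.inr (Or.inr (Or.inl rfl)), h.r2⟩, ?_⟩
        show z ∈ Subgroup.centralizer ({ι (DihedralGroup.sr 0)} : Set G)
        rw [Subgroup.mem_centralizer_singleton_iff]
        exact (h.comm _).symm) (by
      rintro _ ⟨x, hx, rfl⟩
      rw [← map_inv, ← map_mul, ← map_mul, C4_inv x hx, map_inv]) (by
      intro g hg
      rw [eq_bot_iff]
      rintro w ⟨⟨x, hx, hxw⟩, ⟨_, ⟨y, hy, rfl⟩, hyw⟩⟩
      rw [Subgroup.mem_bot]
      by_contra hw1
      apply hg
      change g * ι y * g⁻¹ = w at hyw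
      have hx1 : x ≠ 1 := by
        intro e; rw [e, map_one] at hxw; exact hw1 hxw.symm
      rw [Subgroup.mem_centralizer_singleton_iff]
      suffices hgz : g * z * g⁻¹ = z by
        calc g * z = (g * z * g⁻¹) * g := by group
          _ = z * g := by rw [hgz]
      rcases C4_pow x hx hx1 with e | e
      · -- `w = z` so `y` is an involution
        have hyy : y * y = 1 := by
          apply h.inj
          rw [map_mul, map_one]
          have e1 : ι y = g⁻¹ * w * g := by rw [← hyw]; group
          rw [e1, ← hxw, e, h.r2]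
          calc g⁻¹ * z * g * (g⁻¹ * z * g) = g⁻¹ * (z * z) * g := by group
            _ = 1 := by rw [h.zz]; group
        rcases C4_sq y hy hyy with e2 | e2
        · exfalso
          apply hw1
          rw [← hyw, e2, map_one]; group
        · rw [← hxw, e, h.r2, e2, h.r2] at hyw
          exact hyw
      · have e1 : w * w = z := by rw [← hxw, ← map_mul, e, h.r2]
        have e2 : ι (y * y) = g⁻¹ * z * g := by
          rw [map_mul, ← e1, ← hyw]; group
        have hy1 : y ≠ 1 := by
          intro e3; apply hw1; rw [← hyw, e3, map_one]; group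
        rcases C4_pow y hy hy1 with e3 | e3
        · exfalso
          rw [e3] at e2
          have e4 : (DihedralGroup.r 2 * DihedralGroup.r 2 : DihedralGroup 4) = 1 := by decide
          rw [e4, map_one] at e2
          apply h.z_ne_one
          calc z = g * (g⁻¹ * z * g) * g⁻¹ := by group
            _ = 1 := by rw [← e2]; group
        · rw [e3, h.r2] at e2
          calc g * z * g⁻¹ = g * (g⁻¹ * z * g) * g⁻¹ := by rw [← e2]
            _ = z := by group) (by
      intro x y hx hy
      exact (h.conj_all hA hB x hx).symm.trans (h.conj_all hA hB y hy))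
  obtain ⟨F, hF1, hF2, hF3, hF4⟩ := PSL2OfData.psl2_of_data Q D h1 h2 h3 h4 h5 h6 h7
  refine ⟨F, hF1, hF2, ?_, ?_, hF4⟩
  · rw [hF3]; omega
  · rw [hF3]; exact h1

set_option maxHeartbeats 1000000 in
/-- `q = 7` or `q = 9` -/
theorem Emb.q_eq (h : Emb z ι) (hA : IsConj z (ι (DihedralGroup.sr 0)))
    (F : Type) [Field F] [Fintype F] (hodd : Fintype.card F % 2 = 1)
    (hG : 2 * Nat.card G = Fintype.card F * (Fintype.card F + 1) * (Fintype.card F - 1))
    (e : G ≃* Matrix.ProjectiveSpecialLinearGroup (Fin 2) F) :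
    Fintype.card F = 7 ∨ Fintype.card F = 9 := by
  haveI : Fact (Nat.Prime 2) := ⟨Nat.prime_two⟩
  obtain ⟨P, hP⟩ := h.exists_sylow
  have h1 := Subgroup.card_mul_index (P : Subgroup G)
  have h2 : Nat.card (P : Subgroup G) = 8 := by rw [hP, h.card_range]
  have h3 := P.not_dvd_index
  rw [h2] at h1
  have h5 := Subgroup.card_mul_index (Subgroup.centralizer ({z} : Set G))
  rw [h.card_centralizer] at h5
  have h6 : (Subgroup.centralizer ({z} : Set G)).index ≠ 1 := by
    intro e
    obtain ⟨g, hg⟩ := isConj_iff.1 hA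
    have h7 : g ∈ Subgroup.centralizer ({z} : Set G) := by
      rw [Subgroup.index_eq_one.1 e]; trivial
    rw [Subgroup.mem_centralizer_singleton_iff] at h7
    rw [h7, mul_inv_cancel_right, ← h.r2] at hg
    exact absurd (h.inj hg) (by decide)
  have h8 : (Subgroup.centralizer ({e z} : Set (Matrix.ProjectiveSpecialLinearGroup (Fin 2) F))).index =
      (Subgroup.centralizer ({z} : Set G)).index := by
    have hcard : Nat.card (Subgroup.centralizer ({e z} : Set (Matrix.ProjectiveSpecialLinearGroup (Fin 2) F))) =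
        Nat.card (Subgroup.centralizer ({z} : Set G)) := by
      apply Nat.card_congr
      symm
      refine Equiv.ofBijective (fun c => ⟨e c.1, ?_⟩) ⟨?_, ?_⟩
      · rw [Subgroup.mem_centralizer_singleton_iff, ← map_mul, ← map_mul,
          Subgroup.mem_centralizer_singleton_iff.1 c.2]
      · intro a b hab
        exact Subtype.ext (e.injective (congrArg Subtype.val hab))
      · rintro ⟨c, hc⟩
        refine ⟨⟨e.symm c, ?_⟩, Subtype.ext (e.apply_symm_apply c)⟩
        rw [Subgroup.mem_centralizer_singleton_iff] at hc ⊢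
        apply e.injective
        rw [map_mul, map_mul, e.apply_symm_apply, hc]
    have h9 := Subgroup.card_mul_index (Subgroup.centralizer ({e z} : Set (Matrix.ProjectiveSpecialLinearGroup (Fin 2) F)))
    rw [hcard, ← Nat.card_congr e.toEquiv, h.card_centralizer, ← h5] at h9
    omega
  set i := (Subgroup.centralizer ({z} : Set G)).index with hi
  have h3' : (P : Subgroup G).index = i := by omega
  rw [h3'] at h3
  have h16 : Fintype.card F * (Fintype.card F + 1) * (Fintype.card F - 1) = 16 * i := by omega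
  set q := Fintype.card F with hq
  have hq1 : 1 < q := Fintype.one_lt_card
  -- small cases
  by_cases h7 : 7 ≤ q
  · have hcls := Cfsg.Agent.S2508.result (F := F) (by omega) h7
    have hmem : i ∈ Set.range (fun g : (Matrix.ProjectiveSpecialLinearGroup (Fin 2) F) =>
        (Subgroup.centralizer ({g} : Set (Matrix.ProjectiveSpecialLinearGroup (Fin 2) F))).index) :=
      ⟨e z, h8⟩
    obtain ⟨k, hk⟩ : ∃ k, q = 2 * k + 1 := ⟨q / 2, by omega⟩
    have hk3 : 3 ≤ k := by omega
    rw [hk] at h16
    have e1 : 2 * k + 1 - 1 = 2 * k := by omega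
    have e2 : (2 * k + 1) ^ 2 - 1 = 4 * (k * (k + 1)) := by
      have : (2 * k + 1) ^ 2 = 4 * (k * (k + 1)) + 1 := by ring
      omega
    rw [e1] at h16
    have h16' : (2 * k + 1) * (k + 1) * k = 4 * i := by nlinarith
    rcases (by omega : q % 4 = 1 ∨ q % 4 = 3) with hm | hm
    · rw [hcls.1 hm] at hmem
      simp only [Set.mem_insert_iff, Set.mem_singleton_iff] at hmem
      rw [← hq, hk, e1, e2] at hmem
      have e3 : 4 * (k * (k + 1)) / 2 = 2 * (k * (k + 1)) := by omega
      have e4 : (2 * k + 1) * (2 * k + 1 + 1) / 2 = (2 * k + 1) * (k + 1) := by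
        have : (2 * k + 1) * (2 * k + 1 + 1) = 2 * ((2 * k + 1) * (k + 1)) := by ring
        omega
      rw [e3, e4] at hmem
      rcases hmem with hh | hh | hh | hh | hh
      · exact absurd hh h6
      · exfalso
        rw [hh] at h16'
        have : (k * (k + 1)) * (2 * k + 1) = (k * (k + 1)) * 8 := by nlinarith
        have := Nat.eq_of_mul_eq_mul_left (by positivity) this
        omega
      · rw [hh] at h16'
        have : ((2 * k + 1) * (k + 1)) * k = ((2 * k + 1) * (k + 1)) * 4 := by nlinarith
        have := Nat.eq_of_mul_eq_mul_left (by positivity) this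
        omega
      · exfalso
        rw [hh] at h16'
        have : ((2 * k + 1) * k) * (k + 1) = ((2 * k + 1) * k) * 8 := by nlinarith
        have := Nat.eq_of_mul_eq_mul_left (by positivity) this
        omega
      · exfalso
        rw [hh] at h16'
        have : ((2 * k + 1) * (k + 1)) * k = ((2 * k + 1) * (k + 1)) * 8 := by nlinarith
        have := Nat.eq_of_mul_eq_mul_left (by positivity) this
        have hk8 : k = 8 := by omega
        rw [hk8] at hh
        omega
    · rw [hcls.2 hm] at hmem
      simp only [Set.mem_insert_iff, Set.mem_singleton_iff] at hmem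
      rw [← hq, hk, e1, e2] at hmem
      have e3 : 4 * (k * (k + 1)) / 2 = 2 * (k * (k + 1)) := by omega
      have e4 : (2 * k + 1) * (2 * k) / 2 = (2 * k + 1) * k := by
        have : (2 * k + 1) * (2 * k) = 2 * ((2 * k + 1) * k) := by ring
        omega
      rw [e3, e4] at hmem
      rcases hmem with hh | hh | hh | hh | hh
      · exact absurd hh h6
      · exfalso
        rw [hh] at h16'
        have : (k * (k + 1)) * (2 * k + 1) = (k * (k + 1)) * 8 := by nlinarith
        have := Nat.eq_of_mul_eq_mul_left (by positivity) this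
        omega
      · rw [hh] at h16'
        have : ((2 * k + 1) * k) * (k + 1) = ((2 * k + 1) * k) * 4 := by nlinarith
        have := Nat.eq_of_mul_eq_mul_left (by positivity) this
        omega
      · exfalso
        rw [hh] at h16'
        have : ((2 * k + 1) * (k + 1)) * k = ((2 * k + 1) * (k + 1)) * 8 := by nlinarith
        have := Nat.eq_of_mul_eq_mul_left (by positivity) this
        omega
      · exfalso
        rw [hh] at h16'
        have : ((2 * k + 1) * k) * (k + 1) = ((2 * k + 1) * k) * 8 := by nlinarith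
        have := Nat.eq_of_mul_eq_mul_left (by positivity) this
        have hk8 : k = 7 := by omega
        rw [hk8] at hh
        omega
  · exfalso
    have : q = 3 ∨ q = 5 := by omega
    rcases this with e | e
    · rw [e] at h16; omega
    · rw [e] at h16; omega

end Cfsg.Agent.Lib.CentD8
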