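import Mathlib

/-!
A finite group `H` with a nonabelian simple normal subgroup `D` all of whose nontrivial elements `d` have a maximal
"extended centralizer" `M d` (`M d ∩ D = C_D(d)`, `M d ≤ M (d^k)`) does not exist.
-/

set_option autoImplicit false

namespace Cfsg.Agent.Lib.CentMax

/-- Burnside's transfer theorem for simple groups. -/
theorem no_burnside {K : Type*} [Group K] [Finite K] [IsSimpleGroup K] (hnc : ¬ ∀ a b : K, a * b = b * a)
    (p : ℕ) [Fact p.Prime] (P : Sylow p K) (hP1 : (P : Subgroup K) ≠ ⊥)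
    (hP : Subgroup.normalizer ((P : Subgroup K) : Set K) ≤ Subgroup.centralizer ((P : Subgroup K) : Set K)) : False := by
  have hc := MonoidHom.ker_transferSylow_isComplement' P hP
  have hn : (MonoidHom.transferSylow P hP).ker.Normal := inferInstance
  rcases hn.eq_bot_or_eq_top with h | h
  · rw [h] at hc
    have h1 : (P : Subgroup K) = ⊤ := Subgroup.isComplement'_bot_left.mp hc
    apply hnc
    intro a b
    have ha : a ∈ Subgroup.normalizer ((P : Subgroup K) : Set K) := by
      apply Subgroup.le_normalizer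
      rw [h1]; trivial
    have := Subgroup.mem_centralizer_iff.mp (hP ha) b (by rw [h1]; trivial)
    exact this.symm
  · rw [h] at hc
    exact hP1 (Subgroup.isComplement'_top_left.mp hc)

theorem sum_inv_sq (n : ℕ) (hn : 2 ≤ n) : ∑ m ∈ Finset.Icc 2 n, (1 : ℚ) / (m : ℚ) ^ 2 ≤ 3 / 4 - 1 / n := by
  induction n, hn using Nat.le_induction with
  | base => norm_num
  | succ n hn ih =>
    rw [Finset.sum_Icc_succ_top (by omega)]
    have hn0 : (0 : ℚ) < n := by exact_mod_cast (by omega : 0 < n)
    have h1 : (1 : ℚ) / ((n + 1 : ℕ) : ℚ) ^ 2 ≤ 1 / n - 1 / ((n + 1 : ℕ) : ℚ) := by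
      push_cast
      rw [div_sub_div _ _ hn0.ne' (by positivity), div_le_div_iff₀ (by positivity) (by positivity)]
      nlinarith
    linarith

/-- The counting lemma. `K` is a finite simple nonabelian group in which every centralizer of a nontrivial element
is a self-normalising subgroup of prime power order: impossible. -/
theorem count_contra {K : Type*} [Group K] [Finite K] [IsSimpleGroup K] (hnc : ¬ ∀ a b : K, a * b = b * a)
    (hpp : ∀ d : K, d ≠ 1 → ∀ p : ℕ, p.Prime → p ∣ orderOf d → IsPGroup p (Subgroup.centralizer {d}))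
    (hself : ∀ d : K, d ≠ 1 → Subgroup.normalizer (Subgroup.centralizer {d} : Set K) ≤ Subgroup.centralizer {d}) : False := by
  classical
  have : Fintype K := Fintype.ofFinite K
  -- for each prime p, the set of nontrivial elements of order divisible by p
  let X : ℕ → Finset K := fun p => Finset.univ.filter (fun d => d ≠ 1 ∧ p ∣ orderOf d)
  set n := Fintype.card K with hn
  have hn0 : 0 < n := Fintype.card_pos
  have hn2 : 2 ≤ n := Fintype.one_lt_card
  have hcover : (Finset.univ.erase (1 : K)) ⊆ n.primeFactors.biUnion X := by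
    intro d hd
    have hd1 : d ≠ 1 := Finset.ne_of_mem_erase hd
    have ho : orderOf d ≠ 1 := fun h => hd1 (orderOf_eq_one_iff.mp h)
    obtain ⟨p, hp, hpd⟩ := Nat.exists_prime_and_dvd ho
    rw [Finset.mem_biUnion]
    refine ⟨p, Nat.mem_primeFactors.mpr ⟨hp, hpd.trans (orderOf_dvd_card), hn0.ne'⟩, ?_⟩
    exact Finset.mem_filter.mpr ⟨Finset.mem_univ _, hd1, hpd⟩
  have hcard1 : n - 1 ≤ ∑ p ∈ n.primeFactors, (X p).card := by
    have h1 := Finset.card_le_card hcover
    rw [Finset.card_erase_of_mem (Finset.mem_univ _), Finset.card_univ] at h1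
    exact h1.trans Finset.card_biUnion_le
  -- main bound
  have hbound : ∀ p ∈ n.primeFactors, (X p).card * p ^ 2 ≤ n := by
    intro p hpn
    have hp : p.Prime := Nat.prime_of_mem_primeFactors hpn
    have : Fact p.Prime := ⟨hp⟩
    -- each centralizer is a Sylow subgroup
    have hsyl : ∀ d ∈ X p, ∃ P : Sylow p K, (P : Subgroup K) = Subgroup.centralizer {d} := by
      intro d hd
      obtain ⟨-, hd1, hpd⟩ := Finset.mem_filter.mp hd
      have hpg := hpp d hd1 p hp hpd
      obtain ⟨P, hP⟩ := hpg.exists_le_sylow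
      refine ⟨P, ?_⟩
      by_contra hne
      -- normaliser condition in P
      have hnil : Group.IsNilpotent P := P.isPGroup'.isNilpotent
      have hlt : (Subgroup.centralizer {d}).subgroupOf (P : Subgroup K) < ⊤ := by
        rw [lt_top_iff_ne_top]
        intro htop
        rw [Subgroup.subgroupOf_eq_top] at htop
        exact hne (le_antisymm htop hP)
      have h2 := Group.normalizerCondition_of_isNilpotent (G := P) _ hlt
      obtain ⟨x, hx, hx'⟩ := Set.exists_of_ssubset h2
      apply hx'
      rw [SetLike.mem_coe, Subgroup.mem_subgroupOf]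
      apply hself d hd1
      apply Subgroup.mem_normalizer_fintype
      intro y hy
      have hy' : y ∈ Subgroup.centralizer {d} := hy
      have h3 := (Subgroup.mem_normalizer_iff.mp hx ⟨y, hP hy'⟩).mp (by
        rw [Subgroup.mem_subgroupOf]; exact hy')
      rw [Subgroup.mem_subgroupOf] at h3
      exact h3
    -- P nonabelian
    by_cases hX : (X p) = ∅
    · rw [hX]; simp
    obtain ⟨d0, hd0⟩ := Finset.nonempty_iff_ne_empty.mpr hX
    obtain ⟨P0, hP0⟩ := hsyl d0 hd0
    obtain ⟨-, hd01, hpd0⟩ := Finset.mem_filter.mp hd0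
    have hd0P : d0 ∈ (P0 : Subgroup K) := by
      rw [hP0, Subgroup.mem_centralizer_iff]; simp
    have hP01 : (P0 : Subgroup K) ≠ ⊥ := by
      intro h
      rw [h, Subgroup.mem_bot] at hd0P
      exact hd01 hd0P
    have hnab : ¬ ∀ a b : P0, a * b = b * a := by
      intro hab
      apply no_burnside hnc p P0 hP01
      rw [hP0]
      refine (hself d0 hd01).trans ?_
      intro x hx
      rw [Subgroup.mem_centralizer_iff]
      intro y hy
      have hy' : y ∈ (P0 : Subgroup K) := by rw [hP0]; exact hy
      have hx' : x ∈ (P0 : Subgroup K) := by rw [hP0]; exact hx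
      exact congrArg Subtype.val (hab ⟨y, hy'⟩ ⟨x, hx'⟩)
    -- |P : Z(P)| ≥ p²
    have hidx : p ^ 2 ≤ (Subgroup.center P0).index := by
      obtain ⟨k, hk⟩ := (IsPGroup.iff_card.mp (P0.isPGroup'.to_quotient (Subgroup.center P0)))
      rw [Subgroup.index_eq_card, hk]
      have hk2 : 2 ≤ k := by
        by_contra hlt
        apply hnab
        have hcyc : IsCyclic (P0 ⧸ Subgroup.center P0) := by
          interval_cases k
          · have : Subsingleton (P0 ⧸ Subgroup.center P0) := by
              rw [← Finite.card_le_one_iff_subsingleton, hk]; simp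
            infer_instance
          · exact isCyclic_of_prime_card (p := p) (by rw [hk, pow_one])
        intro a b
        exact ((QuotientGroup.mk' (Subgroup.center P0)).isMulCommutative_of_isCyclic_of_ker_le_center
          (by rw [QuotientGroup.ker_mk'])).is_comm.comm a b
      exact Nat.pow_le_pow_right hp.pos hk2
    have hPcard : p ^ 2 * Nat.card (Subgroup.center P0) ≤ Nat.card P0 := by
      rw [← Subgroup.index_mul_card (Subgroup.center P0)]
      exact Nat.mul_le_mul_right _ hidx
    -- number of Sylows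
    have hSyl : Nat.card (Sylow p K) * Nat.card P0 ≤ n := by
      rw [P0.card_eq_index_normalizer, hn, ← Nat.card_eq_fintype_card,
        ← Subgroup.index_mul_card (Subgroup.normalizer ((P0 : Subgroup K) : Set K))]
      exact Nat.mul_le_mul_left _ (Nat.card_le_card_of_injective
        (Subgroup.inclusion (Subgroup.le_normalizer)) (Subgroup.inclusion_injective _))
    -- |X p| ≤ #Syl * |Z|
    have hXcard : (X p).card ≤ Nat.card (Sylow p K) * Nat.card (Subgroup.center P0) := by
      choose! f hf using hsyl
      have hZ : ∀ P : Sylow p K, Nat.card (Subgroup.center P) = Nat.card (Subgroup.center P0) := by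
        intro P
        exact Nat.card_congr (Subgroup.centerCongr (P.equiv P0)).toEquiv
      have : Fintype (Sylow p K) := Fintype.ofFinite _
      have h1 : (X p).card ≤ ∑ P : Sylow p K, ((X p).filter (fun d => f d = P)).card := by
        rw [← Finset.card_eq_sum_card_fiberwise (f := f) (t := Finset.univ) (by intro x _; simp)]
      refine h1.trans ?_
      have h2 : ∀ P : Sylow p K, ((X p).filter (fun d => f d = P)).card ≤ Nat.card (Subgroup.center P0) := by
        intro P
        rw [← hZ P]
        have h3 : ∀ d ∈ (X p).filter (fun d => f d = P), ∃ z : Subgroup.center P, ((z : P) : K) = d := by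
          intro d hd
          rw [Finset.mem_filter] at hd
          obtain ⟨hdX, hdP⟩ := hd
          have h4 := hf d hdX
          rw [hdP] at h4
          have hdm : d ∈ (P : Subgroup K) := by
            rw [h4, Subgroup.mem_centralizer_iff]; simp
          refine ⟨⟨⟨d, hdm⟩, ?_⟩, rfl⟩
          rw [Subgroup.mem_center_iff]
          rintro ⟨y, hy⟩
          apply Subtype.ext
          have hy' : y ∈ (P : Subgroup K) := hy
          rw [h4, Subgroup.mem_centralizer_iff] at hy'
          exact (hy' d rfl).symm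
        choose! g hg using h3
        rw [← Fintype.card_coe, ← Nat.card_eq_fintype_card]
        apply Nat.card_le_card_of_injective (fun d : ((X p).filter (fun d => f d = P)) => g d)
        intro a b hab
        apply Subtype.ext
        rw [← hg a a.2, ← hg b b.2]
        exact congrArg (fun z : Subgroup.center P => ((z : P) : K)) hab
      calc ∑ P : Sylow p K, ((X p).filter (fun d => f d = P)).card
          ≤ ∑ _P : Sylow p K, Nat.card (Subgroup.center P0) := Finset.sum_le_sum (fun P _ => h2 P)
        _ = Nat.card (Sylow p K) * Nat.card (Subgroup.center P0) := by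
            rw [Finset.sum_const, Finset.card_univ, smul_eq_mul, Nat.card_eq_fintype_card (α := Sylow p K)]
    calc (X p).card * p ^ 2 ≤ Nat.card (Sylow p K) * Nat.card (Subgroup.center P0) * p ^ 2 :=
          Nat.mul_le_mul_right _ hXcard
      _ = Nat.card (Sylow p K) * (p ^ 2 * Nat.card (Subgroup.center P0)) := by ring
      _ ≤ Nat.card (Sylow p K) * Nat.card P0 := Nat.mul_le_mul_left _ hPcard
      _ ≤ n := hSyl
  -- final count
  have h1 : ((n : ℚ) - 1) ≤ ∑ p ∈ n.primeFactors, ((X p).card : ℚ) := by
    have : ((n - 1 : ℕ) : ℚ) ≤ ((∑ p ∈ n.primeFactors, (X p).card : ℕ) : ℚ) := by exact_mod_cast hcard1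
    rw [Nat.cast_sub (by omega)] at this
    push_cast at this
    exact this
  have h2 : ∑ p ∈ n.primeFactors, ((X p).card : ℚ) ≤ ∑ p ∈ n.primeFactors, (n : ℚ) * (1 / (p : ℚ) ^ 2) := by
    apply Finset.sum_le_sum
    intro p hp
    have hp0 : (0 : ℚ) < p := by exact_mod_cast (Nat.prime_of_mem_primeFactors hp).pos
    rw [mul_one_div, le_div_iff₀ (by positivity)]
    exact_mod_cast hbound p hp
  have h3 : ∑ p ∈ n.primeFactors, (n : ℚ) * (1 / (p : ℚ) ^ 2) ≤ (n : ℚ) * (3 / 4 - 1 / n) := by
    rw [← Finset.mul_sum]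
    apply mul_le_mul_of_nonneg_left _ (by positivity)
    refine le_trans ?_ (sum_inv_sq n hn2)
    apply Finset.sum_le_sum_of_subset_of_nonneg
    · intro p hp
      rw [Finset.mem_Icc]
      exact ⟨(Nat.prime_of_mem_primeFactors hp).two_le, Nat.le_of_mem_primeFactors hp⟩
    · intro i _ _
      positivity
  have hn0' : (0 : ℚ) < n := by exact_mod_cast hn0
  have h4 : (n : ℚ) * (3 / 4 - 1 / n) = 3 / 4 * n - 1 := by
    field_simp
  rw [h4] at h3
  linarith

/-- **Lemma X.** -/
theorem lemmaX {H : Type*} [Group H] [Finite H] (D : Subgroup H) (hDn : D.Normal)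
    (hnc : ¬ ∀ a ∈ D, ∀ b ∈ D, a * b = b * a)
    (hs : ∀ L : Subgroup H, L ≤ D → (∀ t ∈ D, ∀ l ∈ L, t * l * t⁻¹ ∈ L) → L = ⊥ ∨ L = D)
    (M : H → Subgroup H)
    (hmax : ∀ d ∈ D, d ≠ 1 → IsCoatom (M d))
    (hpow : ∀ d ∈ D, ∀ k : ℕ, d ^ k ≠ 1 → M d ≤ M (d ^ k))
    (hcent : ∀ d ∈ D, d ≠ 1 → ∀ x ∈ D, (x ∈ M d ↔ x * d = d * x)) : False := by
  classical
  -- D is simple as a group
  have hD1 : D ≠ ⊥ := by
    rintro rfl
    apply hnc
    intro a ha b hb
    rw [Subgroup.mem_bot] at ha hb
    rw [ha, hb]
  have hDnt : Nontrivial D := (Subgroup.nontrivial_iff_ne_bot D).mpr hD1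
  have hsimple : IsSimpleGroup D := by
    refine ⟨fun L hL => ?_⟩
    have h := hs (L.map D.subtype) (by
      intro x hx
      obtain ⟨y, _, rfl⟩ := Subgroup.mem_map.mp hx
      exact y.2) (by
      intro t ht l hl
      obtain ⟨y, hy, rfl⟩ := Subgroup.mem_map.mp hl
      refine Subgroup.mem_map.mpr ⟨⟨t, ht⟩ * y * ⟨t, ht⟩⁻¹, hL.conj_mem y hy _, ?_⟩
      simp)
    rcases h with h | h
    · left
      exact (Subgroup.map_eq_bot_iff_of_injective _ D.subtype_injective).mp h
    · right
      rw [eq_top_iff]
      intro x _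
      have : (x : H) ∈ L.map D.subtype := by rw [h]; exact x.2
      obtain ⟨y, hy, hyx⟩ := Subgroup.mem_map.mp this
      have : y = x := Subtype.ext hyx
      rwa [← this]
  have hDnc : ¬ ∀ a b : D, a * b = b * a := by
    intro h
    exact hnc (fun a ha b hb => congrArg Subtype.val (h ⟨a, ha⟩ ⟨b, hb⟩))
  -- powers have the same M
  have hpeq : ∀ d ∈ D, ∀ k : ℕ, d ^ k ≠ 1 → M d = M (d ^ k) := by
    intro d hd k hk
    have hd1 : d ≠ 1 := by rintro rfl; exact hk (one_pow k)
    rcases (hmax d hd hd1).le_iff.mp (hpow d hd k hk) with h | h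
    · exact absurd h (hmax _ (D.pow_mem hd k) hk).1
    · exact h.symm
  -- commuting elements of coprime order
  have hcop : ∀ t ∈ D, ∀ y ∈ D, t ≠ 1 → y ≠ 1 → Commute t y → (orderOf t).Coprime (orderOf y) → M t = M y := by
    intro t ht y hy ht1 hy1 hc hco
    have key : ∀ a b : H, a ∈ D → b ∈ D → a ≠ 1 → Commute a b → (orderOf a).Coprime (orderOf b) →
        M (a * b) = M a := by
      intro a b ha hb ha1 hab hco
      obtain ⟨k, hk1, hk2⟩ := Nat.chineseRemainder hco 1 0
      have e1 : a ^ k = a := by
        have := (pow_eq_pow_iff_modEq (x := a) (n := k) (m := 1)).mpr hk1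
        rwa [pow_one] at this
      have e2 : b ^ k = 1 := by
        have := (pow_eq_pow_iff_modEq (x := b) (n := k) (m := 0)).mpr hk2
        rwa [pow_zero] at this
      have e3 : (a * b) ^ k = a := by rw [hab.mul_pow, e1, e2, mul_one]
      have := hpeq (a * b) (D.mul_mem ha hb) k (by rw [e3]; exact ha1)
      rw [this, e3]
    rw [← key t y ht hy ht1 hc hco, ← key y t hy ht hy1 hc.symm hco.symm, hc.eq]
  -- normaliser fact
  have hnorm : ∀ d ∈ D, d ≠ 1 → ∀ S : Subgroup H, S ≤ D → S ≠ ⊥ → S ≠ D → (∀ m ∈ M d, ∀ s ∈ S, m * s * m⁻¹ ∈ S) →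
      ∀ x ∈ D, (∀ s ∈ S, x * s * x⁻¹ ∈ S) → x * d = d * x := by
    intro d hd hd1 S hSD hS1 hS2 hSM x hx hxS
    have h1 : M d ≤ Subgroup.normalizer (S : Set H) := by
      intro m hm
      exact Subgroup.mem_normalizer_fintype (fun s hs => hSM m hm s hs)
    have h2 : Subgroup.normalizer (S : Set H) ≠ ⊤ := by
      intro h
      rcases hs S hSD (fun t ht l hl => by
        have : t ∈ Subgroup.normalizer (S : Set H) := by rw [h]; trivial
        exact (Subgroup.mem_normalizer_iff.mp this l).mp hl) with h3 | h3
      · exact hS1 h3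
      · exact hS2 h3
    rcases (hmax d hd hd1).le_iff.mp h1 with h | h
    · exact absurd h h2
    · rw [← hcent d hd hd1 x hx, ← h]
      exact Subgroup.mem_normalizer_fintype (fun s hs => hxS s hs)
  -- prime order power
  have hprime : ∀ e ∈ D, ∀ q : ℕ, q.Prime → q ∣ orderOf e → ∃ k : ℕ, orderOf (e ^ k) = q := by
    intro e he q hq hqd
    obtain ⟨k, hk⟩ := hqd
    have hk0 : k ≠ 0 := by
      rintro rfl
      exact (orderOf_pos e).ne' (by simpa using hk)
    refine ⟨k, ?_⟩
    rw [orderOf_pow_of_dvd hk0 (by rw [hk]; exact dvd_mul_left k q), hk]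
    exact Nat.mul_div_cancel q (Nat.pos_of_ne_zero hk0)
  have hne_of : ∀ {e : H} {q : ℕ}, q.Prime → orderOf e = q → e ≠ 1 := by
    rintro e q hq he rfl
    rw [orderOf_one] at he
    exact hq.one_lt.ne he
  by_cases hmix : ∃ t ∈ D, ∃ y ∈ D, ∃ p r : ℕ, p.Prime ∧ r.Prime ∧ p ≠ r ∧ orderOf t = p ∧ orderOf y = r ∧ Commute t y
  · obtain ⟨t, ht, y, hy, p, r, hp, hr, hpr, hot, hoy, hty⟩ := hmix
    have ht1 := hne_of hp hot
    have hy1 := hne_of hr hoy
    have hMty : M t = M y := hcop t ht y hy ht1 hy1 hty (by
      rw [hot, hoy]; exact (Nat.coprime_primes hp hr).mpr hpr)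
    -- every nontrivial element of E = M t ∩ D has M e = M t
    have hE : ∀ e ∈ D, e ∈ M t → e ≠ 1 → M e = M t := by
      intro e he heM he1
      have ho : orderOf e ≠ 1 := fun h => he1 (orderOf_eq_one_iff.mp h)
      obtain ⟨q, hq, hqd⟩ := Nat.exists_prime_and_dvd ho
      obtain ⟨k, hk⟩ := hprime e he q hq hqd
      have hek1 := hne_of hq hk
      rw [hpeq e he k hek1]
      have hc1 : Commute e t := (hcent t ht ht1 e he).mp heM
      have hc2 : Commute e y := (hcent y hy hy1 e he).mp (hMty ▸ heM)
      by_cases hqp : q = p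
      · rw [hMty]
        apply hcop _ (D.pow_mem he k) y hy hek1 hy1 (hc2.pow_left k)
        rw [hk, hoy, hqp]
        exact (Nat.coprime_primes hp hr).mpr hpr
      · apply hcop _ (D.pow_mem he k) t ht hek1 ht1 (hc1.pow_left k)
        rw [hk, hot]
        exact (Nat.coprime_primes hq hp).mpr hqp
    have hEab : ∀ e ∈ D, e ∈ M t → ∀ f ∈ D, f ∈ M t → f * e = e * f := by
      intro e he heM f hf hfM
      by_cases he1 : e = 1
      · rw [he1]; simp
      · apply (hcent e he he1 f hf).mp
        rw [hE e he heM he1]; exact hfM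
    have : Fact p.Prime := ⟨hp⟩
    -- Sylow p-subgroup of D containing t
    have hpt : IsPGroup p (Subgroup.zpowers (⟨t, ht⟩ : D)) := by
      apply IsPGroup.of_card (n := 1)
      rw [Nat.card_zpowers, pow_one]
      rw [← hot]
      exact (Subgroup.orderOf_mk t ht)
    obtain ⟨P, hP⟩ := hpt.exists_le_sylow
    have htP : (⟨t, ht⟩ : D) ∈ (P : Subgroup D) := hP (Subgroup.mem_zpowers _)
    have hPnt : Nontrivial P := ⟨⟨⟨⟨t, ht⟩, htP⟩, 1, fun h => ht1 (congrArg (fun z : P => ((z : D) : H)) h)⟩⟩
    have hZnt := P.isPGroup'.center_nontrivial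
    obtain ⟨z, hz⟩ := exists_ne (1 : Subgroup.center P)
    have hzP : ∀ x : P, ((z : P) : D) * x = x * ((z : P) : D) := by
      intro x
      exact congrArg Subtype.val (Subgroup.mem_center_iff.mp z.2 x).symm
    have hz1 : (((z : P) : D) : H) ≠ 1 := by
      intro h
      apply hz
      apply Subtype.ext; apply Subtype.ext; apply Subtype.ext
      exact h
    have hzM : (((z : P) : D) : H) ∈ M t := by
      rw [hcent t ht ht1 _ ((z : P) : D).2]
      exact congrArg Subtype.val (hzP ⟨⟨t, ht⟩, htP⟩)
    have hMz : M (((z : P) : D) : H) = M t := hE _ ((z : P) : D).2 hzM hz1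
    -- P ≤ E
    have hPE : ∀ x : P, ((x : D) : H) ∈ M t := by
      intro x
      rw [← hMz, hcent _ ((z : P) : D).2 hz1 _ (x : D).2]
      exact congrArg Subtype.val (hzP x).symm
    -- Burnside
    apply no_burnside hDnc p P
    · intro h
      rw [h, Subgroup.mem_bot] at htP
      exact ht1 (congrArg Subtype.val htP)
    · intro x hx
      rw [Subgroup.mem_centralizer_iff]
      intro a ha
      -- x ∈ E
      have hxE : (x : H) * t = t * x := by
        apply hnorm t ht ht1 ((P : Subgroup D).map D.subtype)
        · intro w hw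
          obtain ⟨v, _, rfl⟩ := Subgroup.mem_map.mp hw
          exact v.2
        · intro h
          have : t ∈ (P : Subgroup D).map D.subtype := Subgroup.mem_map.mpr ⟨⟨t, ht⟩, htP, rfl⟩
          rw [h, Subgroup.mem_bot] at this
          exact ht1 this
        · intro h
          apply hnc
          intro a ha b hb
          have ha' := ha
          have hb' := hb
          rw [← h] at ha' hb'
          obtain ⟨v, hv, rfl⟩ := Subgroup.mem_map.mp ha'
          obtain ⟨w, hw, rfl⟩ := Subgroup.mem_map.mp hb'
          exact hEab _ w.2 (hPE ⟨w, hw⟩) _ v.2 (hPE ⟨v, hv⟩)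
        · -- M t normalises P : P is the set of p-elements of E
          intro m hm s hs
          obtain ⟨v, hv, rfl⟩ := Subgroup.mem_map.mp hs
          have hvD : m * (v : H) * m⁻¹ ∈ D := hDn.conj_mem _ v.2 m
          have hvM : m * (v : H) * m⁻¹ ∈ M t := (M t).mul_mem ((M t).mul_mem hm (hPE ⟨v, hv⟩)) ((M t).inv_mem hm)
          -- P ⊔ zpowers of this element is a p-group
          refine Subgroup.mem_map.mpr ⟨⟨m * (v : H) * m⁻¹, hvD⟩, ?_, rfl⟩
          set w : D := ⟨m * (v : H) * m⁻¹, hvD⟩ with hw
          have hwp : IsPGroup p (Subgroup.zpowers w) := by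
            obtain ⟨k, hk⟩ := P.isPGroup' ⟨v, hv⟩
            have hk' : (v : H) ^ (p ^ k) = 1 := congrArg (fun z : P => ((z : D) : H)) hk
            have h5 : w ^ (p ^ k) = 1 := by
              apply Subtype.ext
              rw [hw]
              show (m * (v : H) * m⁻¹) ^ (p ^ k) = 1
              rw [conj_pow, hk']; simp
            intro g
            obtain ⟨j, hj⟩ := Subgroup.mem_zpowers_iff.mp g.2
            refine ⟨k, Subtype.ext ?_⟩
            rw [Subgroup.coe_pow, ← hj, ← zpow_natCast, ← zpow_mul, mul_comm, zpow_mul, zpow_natCast, h5]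
            simp
          have hnormw : Subgroup.zpowers w ≤ Subgroup.normalizer ((P : Subgroup D) : Set D) := by
            rw [Subgroup.zpowers_le]
            apply Subgroup.mem_normalizer_fintype
            intro u hu
            have : w * u = u * w := by
              apply Subtype.ext
              exact hEab _ u.2 (hPE ⟨u, hu⟩) _ w.2 hvM
            rw [this, mul_inv_cancel_right]
            exact hu
          have hsup : IsPGroup p ((P : Subgroup D) ⊔ Subgroup.zpowers w : Subgroup D) :=
            IsPGroup.to_sup_of_normal_left' P.isPGroup' hwp hnormw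
          have := P.is_maximal' hsup le_sup_left
          have h6 : w ∈ ((P : Subgroup D) ⊔ Subgroup.zpowers w : Subgroup D) :=
            (le_sup_right : Subgroup.zpowers w ≤ _) (Subgroup.mem_zpowers w)
          rw [this] at h6
          exact h6
        · exact x.2
        · intro s hs
          obtain ⟨v, hv, rfl⟩ := Subgroup.mem_map.mp hs
          exact Subgroup.mem_map.mpr ⟨x * v * x⁻¹, (Subgroup.mem_normalizer_iff.mp hx v).mp hv, rfl⟩
      have hxM : (x : H) ∈ M t := (hcent t ht ht1 _ x.2).mpr hxE
      apply Subtype.ext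
      exact hEab _ x.2 hxM _ a.2 (hPE ⟨a, ha⟩)
  · -- pure case
    have huniq : ∀ t ∈ D, ∀ y ∈ D, Commute t y → ∀ p r : ℕ, p.Prime → r.Prime → p ∣ orderOf t → r ∣ orderOf y → p = r := by
      intro t ht y hy hty p r hp hr hpt hry
      by_contra hne
      obtain ⟨k, hk⟩ := hprime t ht p hp hpt
      obtain ⟨l, hl⟩ := hprime y hy r hr hry
      exact hmix ⟨t ^ k, D.pow_mem ht k, y ^ l, D.pow_mem hy l, p, r, hp, hr, hne, hk, hl, hty.pow_pow k l⟩
    -- mem centralizer in D
    have hmc : ∀ d x : D, x ∈ Subgroup.centralizer {d} ↔ (x : H) * d = d * x := by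
      intro d x
      rw [Subgroup.mem_centralizer_iff]
      constructor
      · intro h
        exact congrArg Subtype.val (h d rfl).symm
      · intro h y hy
        rw [Set.mem_singleton_iff] at hy
        subst hy
        exact Subtype.ext h.symm
    apply count_contra hDnc
    · intro d hd1 p hp hpd x
      have ho : orderOf ((x : D) : H) ∣ p ^ ((orderOf ((x : D) : H)).factorization p) := by
        have h7 : ∀ q : ℕ, q.Prime → q ∣ orderOf ((x : D) : H) → q = p := by
          intro q hq hqd
          exact huniq _ (x : D).2 _ d.2 ((hmc d x).mp x.2) q p hq hp hqd (by rwa [Subgroup.orderOf_coe])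
        have h8 := Nat.eq_prime_pow_of_unique_prime_dvd (orderOf_pos ((x : D) : H)).ne' (fun {d} h1 h2 => h7 d h1 h2)
        have h9 : (orderOf ((x : D) : H)).factorization p = (orderOf ((x : D) : H)).primeFactorsList.length := by
          conv_lhs => rw [h8]
          rw [hp.factorization_pow]; simp
        rw [h9, ← h8]
      refine ⟨(orderOf ((x : D) : H)).factorization p, ?_⟩
      apply Subtype.ext; apply Subtype.ext
      exact orderOf_dvd_iff_pow_eq_one.mp ho
    · intro d hd1 x hx
      rw [hmc]
      have hd1' : (d : H) ≠ 1 := fun h => hd1 (Subtype.ext h)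
      apply hnorm d d.2 hd1' ((Subgroup.centralizer {d}).map D.subtype)
      · intro w hw
        obtain ⟨v, _, rfl⟩ := Subgroup.mem_map.mp hw
        exact v.2
      · intro h
        have : (d : H) ∈ (Subgroup.centralizer {d}).map D.subtype :=
          Subgroup.mem_map.mpr ⟨d, by rw [hmc], rfl⟩
        rw [h, Subgroup.mem_bot] at this
        exact hd1' this
      · intro h
        -- d is central in D, so D is abelian
        have hdc : d ∈ Subgroup.center D := by
          rw [Subgroup.mem_center_iff]
          intro g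
          have : (g : H) ∈ (Subgroup.centralizer {d}).map D.subtype := by rw [h]; exact g.2
          obtain ⟨v, hv, hvg⟩ := Subgroup.mem_map.mp this
          have hvg' : v = g := Subtype.ext hvg
          rw [hvg', hmc] at hv
          exact Subtype.ext hv
        have hcn : (Subgroup.center D).Normal := inferInstance
        rcases hcn.eq_bot_or_eq_top with h1 | h1
        · rw [h1, Subgroup.mem_bot] at hdc
          exact hd1 hdc
        · apply hDnc
          intro a b
          have : a ∈ Subgroup.center D := by rw [h1]; trivial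
          exact (Subgroup.mem_center_iff.mp this b).symm
      · intro m hm s hs
        obtain ⟨v, hv, rfl⟩ := Subgroup.mem_map.mp hs
        have hv' := (hmc d v).mp hv
        have hvM : (v : H) ∈ M d := (hcent d d.2 hd1' v v.2).mpr hv'
        have hwD : m * (v : H) * m⁻¹ ∈ D := hDn.conj_mem _ v.2 m
        have hwM : m * (v : H) * m⁻¹ ∈ M d := (M d).mul_mem ((M d).mul_mem hm hvM) ((M d).inv_mem hm)
        refine Subgroup.mem_map.mpr ⟨⟨_, hwD⟩, ?_, rfl⟩
        rw [hmc]
        exact (hcent d d.2 hd1' _ hwD).mp hwM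
      · exact x.2
      · intro s hs
        obtain ⟨v, hv, rfl⟩ := Subgroup.mem_map.mp hs
        exact Subgroup.mem_map.mpr ⟨x * v * x⁻¹, (Subgroup.mem_normalizer_iff.mp hx v).mp hv, rfl⟩

end Cfsg.Agent.Lib.CentMax
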