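import Mathlib
import Cfsg.Agent.Lib.PiClasses2
import Cfsg.Agent.Lib.H23Nilp
import Cfsg.Agent.Lib.H64Basic
import Cfsg.Agent.Lib.H70Frattini
import Cfsg.Prelude.Def_Transfer

/-!
# Groups in which the centralizers of noncentral elements are maximal (helper65)
-/

set_option autoImplicit false

namespace Cfsg.Agent.Lib.CentMaximal

open Subgroup
open scoped commutatorElement

variable {G : Type*} [Group G]

/-- the centralizer of an element -/
abbrev C (x : G) : Subgroup G := centralizer ({x} : Set G)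

theorem mem_C {x y : G} : y ∈ C x ↔ y * x = x * y := mem_centralizer_singleton_iff

theorem mem_C_comm {x y : G} : y ∈ C x ↔ x ∈ C y := by rw [mem_C, mem_C, eq_comm]

theorem self_mem_C (x : G) : x ∈ C x := mem_C.2 rfl

theorem center_le_C (x : G) : center G ≤ C x := by
  intro z hz
  rw [mem_C]
  exact ((mem_center_iff.1 hz) x).symm

theorem C_eq_top_iff {x : G} : C x = ⊤ ↔ x ∈ center G := by
  rw [mem_center_iff]
  constructor
  · intro h g
    have : g ∈ C x := by rw [h]; trivial
    exact mem_C.1 this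
  · intro h
    rw [eq_top_iff]
    intro g _
    exact mem_C.2 (h g)

theorem C_le_of_mem_zpowers {x y : G} (hy : y ∈ zpowers x) : C x ≤ C y := by
  intro g hg
  obtain ⟨k, rfl⟩ := mem_zpowers_iff.1 hy
  rw [mem_C] at hg ⊢
  exact (Commute.zpow_right (show Commute g x from hg) k)

/-- hypothesis: centralizers of noncentral elements are maximal -/
def Hyp (G : Type*) [Group G] : Prop := ∀ x : G, x ∉ center G → IsCoatom (C x)

theorem eq_of_le (h : Hyp G) {x y : G} (hx : x ∉ center G) (hy : y ∉ center G) (hle : C x ≤ C y) : C x = C y := by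
  rcases (h x hx).le_iff.1 hle with h1 | h1
  · exact absurd (C_eq_top_iff.1 h1) hy
  · exact h1.symm

theorem eq_of_mem_zpowers (h : Hyp G) {x y : G} (hy : y ∈ zpowers x) (hyZ : y ∉ center G) : C x = C y := by
  have hx : x ∉ center G := by
    intro hx
    apply hyZ
    have h1 : zpowers x ≤ center G := zpowers_le.2 hx
    exact h1 hy
  exact eq_of_le h hx hyZ (C_le_of_mem_zpowers hy)

theorem mem_zpowers_mul {x y : G} (hc : Commute x y) (hco : (orderOf x).Coprime (orderOf y)) :
    x ∈ zpowers (x * y) := by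
  obtain ⟨m, hm⟩ := exists_pow_eq_self_of_coprime (x := x) (n := orderOf y) hco.symm
  have h1 : (x * y) ^ orderOf y = x ^ orderOf y := by
    rw [hc.mul_pow, pow_orderOf_eq_one, mul_one]
  have h2 : ((x * y) ^ orderOf y) ^ m = x := by rw [h1, hm]
  have h3 : ((x * y) ^ orderOf y) ^ m ∈ zpowers (x * y) := pow_mem (npow_mem_zpowers _ _) _
  rwa [h2] at h3

theorem mul_not_mem {x y : G} (hc : Commute x y) (hco : (orderOf x).Coprime (orderOf y))
    (hx : x ∉ center G) : x * y ∉ center G := by
  intro h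
  have h1 : zpowers (x * y) ≤ center G := zpowers_le.2 h
  exact hx (h1 (mem_zpowers_mul hc hco))

theorem eq_of_coprime (h : Hyp G) {x y : G} (hx : x ∉ center G) (hy : y ∉ center G) (hc : Commute x y)
    (hco : (orderOf x).Coprime (orderOf y)) : C x = C y := by
  have h1 := eq_of_mem_zpowers h (mem_zpowers_mul hc hco) hx
  have h2 := eq_of_mem_zpowers h (mem_zpowers_mul hc.symm hco.symm) hy
  rw [hc.eq] at h1
  exact h1.symm.trans h2

/-- `p`-element, `p'`-element -/
def PEl (p : ℕ) (x : G) : Prop := ∀ r : ℕ, r.Prime → r ∣ orderOf x → r = p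
def PEl' (p : ℕ) (x : G) : Prop := ∀ r : ℕ, r.Prime → r ∣ orderOf x → ¬ r = p

theorem PEl.coprime {p : ℕ} {x y : G} (hx : PEl p x) (hy : PEl' p y) : (orderOf x).Coprime (orderOf y) := by
  rw [Nat.coprime_iff_gcd_eq_one]
  by_contra hne
  obtain ⟨r, hr, hrd⟩ := Nat.exists_prime_and_dvd hne
  exact hy r hr (hrd.trans (Nat.gcd_dvd_right _ _)) (hx r hr (hrd.trans (Nat.gcd_dvd_left _ _)))

theorem PEl.conj {p : ℕ} {x : G} (hx : PEl p x) (g : G) : PEl p (g * x * g⁻¹) := by
  have := (MulAut.conj g).orderOf_eq x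
  rw [MulAut.conj_apply] at this
  unfold PEl
  rw [this]; exact hx

theorem PEl'.conj {p : ℕ} {x : G} (hx : PEl' p x) (g : G) : PEl' p (g * x * g⁻¹) := by
  have := (MulAut.conj g).orderOf_eq x
  rw [MulAut.conj_apply] at this
  unfold PEl'
  rw [this]; exact hx

theorem PEl.pow [Finite G] {p : ℕ} {x : G} (hx : PEl p x) : ∃ k, orderOf x = p ^ k :=
  ⟨_, Nat.eq_prime_pow_of_unique_prime_dvd (orderOf_pos x).ne' (fun {r} hr hrg => hx r hr hrg)⟩

theorem split [Finite G] (p : ℕ) (g : G) : ∃ a b : G, a ∈ zpowers g ∧ b ∈ zpowers g ∧ a * b = g ∧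
    PEl p a ∧ PEl' p b ∧ orderOf a ∣ orderOf g ∧ orderOf b ∣ orderOf g :=
  Cfsg.Agent.Lib.PiClasses2.exists_split_elem (fun r => r = p) g

/-- an element outside a subgroup has a primary part outside it. -/
theorem exists_primary [Finite G] (H : Subgroup G) (N : ℕ) : ∀ x : G, orderOf x ≤ N → x ∉ H →
    ∃ p : ℕ, p.Prime ∧ ∃ a ∈ zpowers x, a ∉ H ∧ PEl p a := by
  induction N with
  | zero =>
    intro x hx _
    have := orderOf_pos x
    omega
  | succ N ih =>
    intro x hx hxH
    have h1 : orderOf x ≠ 1 := by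
      intro h1
      rw [orderOf_eq_one_iff] at h1
      exact hxH (h1 ▸ H.one_mem)
    obtain ⟨p, hp, hpx⟩ := Nat.exists_prime_and_dvd h1
    obtain ⟨a, b, ha, hb, hab, hap, hbp, had, hbd⟩ := split p x
    by_cases haH : a ∈ H
    · have hbH : b ∉ H := by
        intro hbH
        exact hxH (hab ▸ mul_mem haH hbH)
      have h2 : orderOf b ≠ orderOf x := by
        intro heq
        exact hbp p hp (heq ▸ hpx) rfl
      have h3 := Nat.le_of_dvd (orderOf_pos x) hbd
      obtain ⟨q, hq, c, hc, hcH, hcq⟩ := ih b (by omega) hbH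
      exact ⟨q, hq, c, (zpowers_le.2 hb) hc, hcH, hcq⟩
    · exact ⟨p, hp, a, ha, haH, hap⟩

theorem comm_iff_le {M : Subgroup G} : IsMulCommutative M ↔ ∀ a ∈ M, ∀ b ∈ M, a * b = b * a := by
  constructor
  · intro h a ha b hb
    exact congrArg Subtype.val (h.is_comm.comm ⟨a, ha⟩ ⟨b, hb⟩)
  · intro h
    exact ⟨⟨fun a b => Subtype.ext (h a a.2 b b.2)⟩⟩

/-- If `C x` is nonabelian, then for some prime `p` all `p'`-elements of `C x` are central. -/
theorem nonabelian_prime [Finite G] (h : Hyp G) {x : G} (hx : x ∉ center G) (hM : ¬ IsMulCommutative (C x)) :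
    ∃ p : ℕ, p.Prime ∧ (∃ a ∈ zpowers x, a ∉ center G ∧ PEl p a) ∧ ∀ g ∈ C x, PEl' p g → g ∈ center G := by
  obtain ⟨p, hp, a, ha, haZ, hap⟩ := exists_primary (center G) _ x le_rfl hx
  refine ⟨p, hp, ⟨a, ha, haZ, hap⟩, ?_⟩
  have hCa : C x = C a := eq_of_mem_zpowers h ha haZ
  intro g hg hgp
  by_contra hgZ
  have hga : C g = C a := by
    symm
    apply eq_of_coprime h haZ hgZ _ (hap.coprime hgp)
    rw [hCa] at hg
    exact (mem_C.1 hg).symm
  apply hM
  -- every element of `C x` centralizes `C x`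
  have key : ∀ m ∈ C x, C x ≤ C m := by
    intro m hm
    obtain ⟨u, v, hu, hv, huv, hup, hvp, -, -⟩ := split p m
    have hu' : u ∈ C x := (zpowers_le.2 hm) hu
    have hv' : v ∈ C x := (zpowers_le.2 hm) hv
    have h1 : C x ≤ C u := by
      by_cases huZ : u ∈ center G
      · rw [C_eq_top_iff.2 huZ]; exact le_top
      · have : C u = C g := by
          apply eq_of_coprime h huZ hgZ _ (hup.coprime hgp)
          rw [hCa, ← hga] at hu'
          exact mem_C.1 hu'
        rw [this, hga, hCa]
    have h2 : C x ≤ C v := by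
      by_cases hvZ : v ∈ center G
      · rw [C_eq_top_iff.2 hvZ]; exact le_top
      · have : C a = C v := by
          apply eq_of_coprime h haZ hvZ _ (hap.coprime hvp)
          rw [hCa] at hv'
          exact (mem_C.1 hv').symm
        rw [← this, hCa]
    intro c hc
    rw [← huv, mem_C]
    exact (Commute.mul_right (mem_C.1 (h1 hc)) (mem_C.1 (h2 hc)))
  rw [comm_iff_le]
  intro m hm c hc
  exact (mem_C.1 (key m hm hc)).symm

theorem coatom_map_mk (M : Subgroup G) (hM : IsCoatom M) (hZ : center G ≤ M) :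
    IsCoatom (M.map (QuotientGroup.mk' (center G))) := by
  have hcm : (M.map (QuotientGroup.mk' (center G))).comap (QuotientGroup.mk' (center G)) = M := by
    rw [comap_map_eq, QuotientGroup.ker_mk', sup_eq_left]
    exact hZ
  constructor
  · intro htop
    apply hM.1
    rw [← hcm, htop, comap_top]
  · intro K hK
    have h1 : M < K.comap (QuotientGroup.mk' (center G)) := by
      refine lt_of_le_of_ne ?_ ?_
      · rw [← hcm]; exact comap_mono hK.le
      · intro heq
        apply hK.ne
        rw [heq, map_comap_eq_self_of_surjective (QuotientGroup.mk'_surjective _)]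
    have h2 := hM.2 _ h1
    have h3 := map_comap_eq_self_of_surjective (QuotientGroup.mk'_surjective (center G)) K
    rw [← h3, h2, ← MonoidHom.range_eq_map, MonoidHom.range_eq_top.2 (QuotientGroup.mk'_surjective _)]

theorem mem_map_mk {M : Subgroup G} (hZ : center G ≤ M) {g : G} :
    (QuotientGroup.mk' (center G) g) ∈ M.map (QuotientGroup.mk' (center G)) ↔ g ∈ M := by
  constructor
  · rintro ⟨m, hm, he⟩
    have h1 : m⁻¹ * g ∈ center G := QuotientGroup.eq.1 he
    have := mul_mem hm (hZ h1)
    rwa [mul_inv_cancel_left] at this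
  · intro hg
    exact ⟨g, hg, rfl⟩

/-- Case B: the central quotient is a `p`-group. -/
theorem elementary_of_isPGroup [Finite G] (h : Hyp G) {p : ℕ} [hp : Fact p.Prime]
    (hQ : IsPGroup p (G ⧸ center G)) : Cfsg.IsElementaryAbelian p (⊤ : Subgroup (G ⧸ center G)) := by
  have hfr : frattini (G ⧸ center G) = ⊥ := by
    rw [eq_bot_iff]
    intro g' hg'
    obtain ⟨g, rfl⟩ := QuotientGroup.mk'_surjective _ g'
    rw [mem_bot]
    apply (QuotientGroup.eq_one_iff g).2
    rw [mem_center_iff]
    intro x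
    by_cases hx : x ∈ center G
    · exact ((mem_center_iff.1 hx) g).symm
    · have h1 := coatom_map_mk (C x) (h x hx) (center_le_C x)
      have h2 : (QuotientGroup.mk' (center G) g) ∈ (C x).map (QuotientGroup.mk' (center G)) :=
        (frattini_le_coatom h1) hg'
      rw [mem_map_mk (center_le_C x)] at h2
      exact (mem_C.1 h2).symm
  constructor
  · have h1 := Cfsg.Agent.Lib.H70Frattini.commutator_le_frattini hQ
    rw [hfr] at h1
    have h2 : ∀ a b : G ⧸ center G, a * b = b * a := by
      intro a b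
      have h3 : ⁅a, b⁆ ∈ commutator (G ⧸ center G) := commutator_mem_commutator (mem_top a) (mem_top b)
      have h4 := h1 h3
      rwa [mem_bot, commutatorElement_eq_one_iff_mul_comm] at h4
    exact ⟨⟨fun a b => Subtype.ext (h2 a b)⟩⟩
  · intro a _
    have h1 := Cfsg.Agent.Lib.H70Frattini.pow_mem_frattini hQ a
    rwa [hfr, mem_bot] at h1

/-- a subgroup all of whose elements have a `p`-power in the center is nilpotent -/
theorem nilp_of_pow [Finite G] {p : ℕ} [hp : Fact p.Prime] {M : Subgroup G}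
    (hM : ∀ m ∈ M, ∃ k : ℕ, m ^ p ^ k ∈ center G) :
    IsPGroup p (M.map (QuotientGroup.mk' (center G))) ∧ Group.IsNilpotent M := by
  have h1 : IsPGroup p (M.map (QuotientGroup.mk' (center G))) := by
    rintro ⟨_, m, hm, rfl⟩
    obtain ⟨k, hk⟩ := hM m hm
    refine ⟨k, ?_⟩
    apply Subtype.ext
    show (QuotientGroup.mk' (center G) m) ^ p ^ k = 1
    rw [← map_pow]
    exact (QuotientGroup.eq_one_iff _).2 hk
  refine ⟨h1, ?_⟩
  have h2 : Group.IsNilpotent (M.map (QuotientGroup.mk' (center G))) := h1.isNilpotent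
  let f : M →* (M.map (QuotientGroup.mk' (center G))) :=
    ((QuotientGroup.mk' (center G)).comp M.subtype).codRestrict _ (fun m => ⟨m, m.2, rfl⟩)
  refine Subgroup.isNilpotent_of_ker_le_center f ?_
  intro m hm
  have h3 : (QuotientGroup.mk' (center G)) (m : G) = 1 := congrArg Subtype.val hm
  have h4 : (m : G) ∈ center G := (QuotientGroup.eq_one_iff _).1 h3
  rw [mem_center_iff]
  intro y
  exact Subtype.ext ((mem_center_iff.1 h4) y)

end Cfsg.Agent.Lib.CentMaximal
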