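import Cfsg.Agent.Lib.ChTwoGenA
set_option autoImplicit false

/-!
Two-generation of Chevalley groups over finite fields: the types (helper19).
-/

namespace Cfsg.Agent.Lib.ChTwoGen
open Cfsg.Lie Cfsg.Agent.Lib.ChevX Cfsg.Agent.Lib.ChevGood Cfsg.Agent.Lib.ChevRel Cfsg.Agent.Lib.ChevN

variable {K : Type*} [Field K]

set_option maxRecDepth 100000

/-- derivation for E6 -/
def LE6 : List (ℕ × ℕ × ℕ) := [(42, 56, 72), (47, 42, 72), (59, 47, 72), (52, 59, 72), (39, 52, 72), (37, 39, 72), (36, 37, 72), (57, 56, 42), (50, 57, 72), (64, 50, 72), (69, 64, 72), (54, 69, 72), (63, 56, 52), (43, 63, 72), (48, 43, 72), (60, 48, 72), (15, 60, 72), (29, 15, 72), (24, 29, 72), (12, 24, 72), (19, 12, 72), (32, 19, 72), (34, 32, 72), (35, 34, 72), (65, 56, 54), (44, 65, 72), (49, 44, 72), (25, 49, 72), (13, 25, 72), (20, 13, 72), (6, 20, 72), (27, 6, 72), (22, 27, 72), (46, 22, 72)]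

theorem chkE6 : chk chevE6 (Rw chevE6 [0, 1, 2, 3, 4, 5]) 1 LE6 [56] = true := by decide +kernel

theorem tgtE6 : tgt chevE6 ([56] ++ LE6.map Prod.fst) = true := by decide +kernel

theorem cfgE6 : cfg chevE6 [0, 1, 2, 3, 4, 5] 56 11 5 3 = true := by decide +kernel

theorem twoE6 [Finite K] (G : Good chevE6) :
    ∃ a b : ↥(chevE6.group K), Subgroup.closure ({a, b} : Set ↥(chevE6.group K)) = ⊤ := by
  by_cases hK : ∃ x : K, x ≠ 0 ∧ x ≠ 1
  · exact gen_one G hK cfgE6 chkE6 tgtE6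
  · push Not at hK
    refine gen_one_two G (fun x => ?_) (w := [0, 1, 2, 3, 4, 5]) (by unfold Valid; decide +kernel) chkE6 tgtE6
    by_cases hx : x = 0
    · exact Or.inl hx
    · exact Or.inr (hK x hx)

/-- derivation for E7 -/
def LE7 : List (ℕ × ℕ × ℕ) := [(95, 78, 126), (84, 95, 126), (104, 84, 126), (113, 104, 126), (88, 113, 126), (107, 88, 126), (76, 107, 126), (82, 76, 126), (47, 82, 126), (85, 78, 76), (105, 85, 126), (75, 105, 126), (81, 75, 126), (98, 81, 126), (32, 98, 126), (52, 32, 126), (46, 52, 126), (29, 46, 126), (40, 29, 126), (20, 40, 126), (50, 20, 126), (44, 50, 126), (27, 44, 126), (93, 27, 126), (73, 93, 126), (102, 78, 98), (74, 102, 126), (80, 74, 126), (97, 80, 126), (86, 97, 126), (69, 86, 126), (66, 69, 126), (64, 66, 126), (63, 64, 126), (23, 63, 126), (51, 23, 126), (45, 51, 126), (28, 45, 126), (39, 28, 126), (56, 39, 126), (59, 56, 126), (61, 59, 126), (62, 61, 126)]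

theorem chkE7 : chk chevE7 (Rw chevE7 [0, 1, 2, 3, 4, 5, 6]) 1 LE7 [78] = true := by decide +kernel

theorem tgtE7 : tgt chevE7 ([78] ++ LE7.map Prod.fst) = true := by decide +kernel

theorem cfgE7 : cfg chevE7 [0, 1, 2, 3, 4, 5, 6] 78 43 3 8 = true := by decide +kernel

theorem twoE7 [Finite K] (G : Good chevE7) :
    ∃ a b : ↥(chevE7.group K), Subgroup.closure ({a, b} : Set ↥(chevE7.group K)) = ⊤ := by
  by_cases hK : ∃ x : K, x ≠ 0 ∧ x ≠ 1
  · exact gen_one G hK cfgE7 chkE7 tgtE7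
  · push Not at hK
    refine gen_one_two G (fun x => ?_) (w := [0, 1, 2, 3, 4, 5, 6]) (by unfold Valid; decide +kernel) chkE7 tgtE7
    by_cases hx : x = 0
    · exact Or.inl hx
    · exact Or.inr (hK x hx)

/-- derivation for E8 -/
def LE8 : List (ℕ × ℕ × ℕ) := [(135, 162, 240), (142, 135, 240), (165, 142, 240), (149, 165, 240), (176, 149, 240), (190, 176, 240), (153, 190, 240), (179, 153, 240), (192, 179, 240), (154, 192, 240), (180, 154, 240), (138, 180, 240), (145, 138, 240), (168, 145, 240), (77, 168, 240), (104, 77, 240), (175, 162, 153), (189, 175, 240), (208, 189, 240), (195, 208, 240), (211, 195, 240), (197, 211, 240), (212, 197, 240), (198, 212, 240), (157, 198, 240), (182, 157, 240), (139, 182, 240), (146, 139, 240), (98, 146, 240), (75, 98, 240), (91, 75, 240), (64, 91, 240), (50, 64, 240), (31, 50, 240), (44, 31, 240), (28, 44, 240), (42, 28, 240), (27, 42, 240), (41, 27, 240), (82, 41, 240), (57, 82, 240), (100, 57, 240), (93, 100, 240),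 (141, 93, 240), (166, 162, 138), (150, 166, 240), (177, 150, 240), (137, 177, 240), (144, 137, 240), (167, 144, 240), (151, 167, 240), (130, 151, 240), (126, 130, 240), (123, 126, 240), (121, 123, 240), (120, 121, 240), (66, 120, 240), (103, 66, 240), (96, 103, 240), (73, 96, 240), (89, 73, 240), (62, 89, 240), (102, 62, 240), (95, 102, 240), (72, 95, 240), (88, 72, 240), (109, 88, 240), (113, 109, 240), (116, 113, 240), (118, 116, 240), (119, 118, 240)]

theorem chkE8 : chk chevE8 (Rw chevE8 [0, 1, 2, 3, 4, 5, 6, 7]) 1 LE8 [162] = true := by decide +kernel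

theorem tgtE8 : tgt chevE8 ([162] ++ LE8.map Prod.fst) = true := by decide +kernel

theorem cfgE8 : cfg chevE8 [0, 1, 2, 3, 4, 5, 6, 7] 162 71 8 5 = true := by decide +kernel

theorem twoE8 [Finite K] (G : Good chevE8) :
    ∃ a b : ↥(chevE8.group K), Subgroup.closure ({a, b} : Set ↥(chevE8.group K)) = ⊤ := by
  by_cases hK : ∃ x : K, x ≠ 0 ∧ x ≠ 1
  · exact gen_one G hK cfgE8 chkE8 tgtE8
  · push Not at hK
    refine gen_one_two G (fun x => ?_) (w := [0, 1, 2, 3, 4, 5, 6, 7]) (by unfold Valid; decide +kernel) chkE8 tgtE8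
    by_cases hx : x = 0
    · exact Or.inl hx
    · exact Or.inr (hK x hx)

/-- derivations for D4 -/
def LD41 : List (ℕ × ℕ × ℕ) := [(21, 10, 24), (15, 21, 24), (13, 15, 24)]

/-- derivations for D4 -/
def LD42 : List (ℕ × ℕ × ℕ) := [(1, 9, 24), (18, 1, 24), (14, 18, 24), (22, 14, 24), (5, 22, 24), (12, 9, 15), (3, 12, 24), (7, 3, 24), (11, 7, 24)]

theorem cfgD4 : cfg chevD4 [0, 1, 2, 3] 10 8 2 9 = true := by decide +kernel

theorem threeD4 [Finite K] (G : Good chevD4) (hK : ∃ x : K, x ≠ 0 ∧ x ≠ 1) :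
    ∃ a b : ↥(chevD4.group K), Subgroup.closure ({a, b} : Set ↥(chevD4.group K)) = ⊤ :=
  gen_two G hK cfgD4 (c := 1) (by norm_num) (fun t => ⟨t, pow_one t⟩) (s := 13) (by decide +kernel)
      (L1 := LD41) (by decide +kernel) (by decide +kernel) (L2 := LD42) (by decide +kernel) (by decide +kernel)

/-- derivations for B2 -/
def LB21 : List (ℕ × ℕ × ℕ) := [(1, 2, 8), (5, 1, 8)]

/-- derivations for B2 -/
def LB22 : List (ℕ × ℕ × ℕ) := [(7, 3, 8), (4, 7, 8)]

theorem cfgB2 : cfg chevB2 [0, 1] 2 6 0 3 = true := by decide +kernel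

/-- derivations for B2 -/
def LB23 : List (ℕ × ℕ × ℕ) := [(1, 2, 8), (5, 1, 8), (0, 2, 1), (3, 0, 8), (7, 3, 8), (4, 7, 8)]

theorem threeB2 [Finite K] (G : Good chevB2) (hK : ∃ x : K, x ≠ 0 ∧ x ≠ 1) :
    ∃ a b : ↥(chevB2.group K), Subgroup.closure ({a, b} : Set ↥(chevB2.group K)) = ⊤ := by
  by_cases hc : ((2 : ℕ) : K) = 0
  · exact gen_two G hK cfgB2 (c := 2) (by norm_num) (pow_surj (by norm_num) hc) (s := 5) (by decide +kernel)
      (L1 := LB21) (by decide +kernel) (by decide +kernel) (L2 := LB22) (by decide +kernel) (by decide +kernel)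
  · exact gen_one' G hK cfgB2 (c := 2) (by exact_mod_cast hc) (L := LB23) (by decide +kernel) (by decide +kernel)

/-- derivations for G2 -/
def LG21 : List (ℕ × ℕ × ℕ) := [(2, 4, 12), (3, 2, 12), (7, 3, 12)]

/-- derivations for G2 -/
def LG22 : List (ℕ × ℕ × ℕ) := [(10, 5, 12), (11, 10, 12), (6, 11, 12)]

theorem cfgG2 : cfg chevG2 [0, 1] 4 8 2 5 = true := by decide +kernel

/-- derivations for G2 -/
def LG23 : List (ℕ × ℕ × ℕ) := [(2, 4, 12), (3, 2, 12), (7, 3, 12), (1, 4, 2), (0, 1, 12), (5, 0, 12), (10, 5, 12), (11, 10, 12), (6, 11, 12)]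

theorem threeG2 [Finite K] (G : Good chevG2) (hK : ∃ x : K, x ≠ 0 ∧ x ≠ 1) :
    ∃ a b : ↥(chevG2.group K), Subgroup.closure ({a, b} : Set ↥(chevG2.group K)) = ⊤ := by
  by_cases hc : ((3 : ℕ) : K) = 0
  · exact gen_two G hK cfgG2 (c := 3) (by norm_num) (pow_surj (by norm_num) hc) (s := 7) (by decide +kernel)
      (L1 := LG21) (by decide +kernel) (by decide +kernel) (L2 := LG22) (by decide +kernel) (by decide +kernel)
  · exact gen_one' G hK cfgG2 (c := 3) (by exact_mod_cast hc) (L := LG23) (by decide +kernel) (by decide +kernel)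

/-- derivations for F4 -/
def LF41 : List (ℕ × ℕ × ℕ) := [(7, 3, 48), (8, 7, 48), (18, 8, 48), (34, 18, 48), (37, 34, 48), (11, 3, 37), (33, 11, 48), (27, 33, 48), (35, 27, 48), (38, 35, 48), (28, 38, 48), (36, 28, 48), (14, 36, 48), (20, 14, 48), (12, 20, 48), (9, 12, 48), (19, 9, 48)]

/-- derivations for F4 -/
def LF42 : List (ℕ × ℕ × ℕ) := [(17, 5, 48), (4, 17, 48), (16, 4, 48), (22, 16, 48), (23, 22, 48), (42, 23, 48), (30, 42, 48), (43, 30, 48), (31, 43, 48), (25, 31, 48), (24, 25, 48)]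

theorem cfgF4 : cfg chevF4 [0, 1, 2, 3] 3 10 1 5 = true := by decide +kernel

/-- derivations for F4 -/
def LF43 : List (ℕ × ℕ × ℕ) := [(7, 3, 48), (8, 7, 48), (18, 8, 48), (34, 18, 48), (37, 34, 48), (11, 3, 37), (33, 11, 48), (27, 33, 48), (35, 27, 48), (38, 35, 48), (28, 38, 48), (36, 28, 48), (14, 36, 48), (20, 14, 48), (4, 3, 27), (16, 4, 48), (22, 16, 48), (23, 22, 48), (42, 23, 48), (30, 42, 48), (43, 30, 48), (31, 43, 48), (25, 31, 48), (24, 25, 48)]

theorem threeF4 [Finite K] (G : Good chevF4) (hK : ∃ x : K, x ≠ 0 ∧ x ≠ 1) :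
    ∃ a b : ↥(chevF4.group K), Subgroup.closure ({a, b} : Set ↥(chevF4.group K)) = ⊤ := by
  by_cases hc : ((2 : ℕ) : K) = 0
  · exact gen_two G hK cfgF4 (c := 2) (by norm_num) (pow_surj (by norm_num) hc) (s := 28) (by decide +kernel)
      (L1 := LF41) (by decide +kernel) (by decide +kernel) (L2 := LF42) (by decide +kernel) (by decide +kernel)
  · exact gen_one' G hK cfgF4 (c := 2) (by exact_mod_cast hc) (L := LF43) (by decide +kernel) (by decide +kernel)

/-- derivation for F4(2) -/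
def LFq2 : List (ℕ × ℕ × ℕ) := [(13, 33, 48), (25, 24, 48), (11, 13, 48), (27, 13, 48), (21, 25, 48), (30, 25, 48), (12, 11, 48), (16, 21, 48), (31, 30, 48), (19, 12, 48), (15, 16, 48), (42, 31, 48), (20, 19, 48), (17, 15, 48), (26, 42, 48), (14, 20, 48), (6, 17, 48), (23, 26, 48), (22, 6, 48)]

theorem twoF4 [Finite K] (G : Good chevF4) :
    ∃ a b : ↥(chevF4.group K), Subgroup.closure ({a, b} : Set ↥(chevF4.group K)) = ⊤ := by
  by_cases hK : ∃ x : K, x ≠ 0 ∧ x ≠ 1
  · exact threeF4 G hK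
  · push Not at hK
    have hK' : ∀ x : K, x = 0 ∨ x = 1 := fun x => by
      by_cases hx : x = 0
      · exact Or.inl hx
      · exact Or.inr (hK x hx)
    exact gen_three_two G hK' (u := [3, 2]) (v := [1, 0]) (γ := 33) (α := 24) (by unfold Valid; decide +kernel) (by unfold Valid; decide +kernel)
      (by decide +kernel) (by decide +kernel) (by decide +kernel) (by decide +kernel) (by decide +kernel)
      (by decide +kernel) (L := LFq2) (by decide +kernel) (by decide +kernel)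

/-- derivation for D4(2) -/
def LDq2 : List (ℕ × ℕ × ℕ) := [(3, 12, 24), (7, 3, 24), (11, 7, 24), (8, 3, 24), (10, 8, 24), (21, 10, 24), (15, 21, 24), (13, 15, 24), (4, 12, 3), (9, 4, 24), (1, 9, 24), (18, 1, 24), (14, 18, 24), (22, 14, 24), (5, 22, 24)]

theorem twoD4 [Finite K] (G : Good chevD4) :
    ∃ a b : ↥(chevD4.group K), Subgroup.closure ({a, b} : Set ↥(chevD4.group K)) = ⊤ := by
  by_cases hK : ∃ x : K, x ≠ 0 ∧ x ≠ 1
  · exact threeD4 G hK
  · push Not at hK
    have hK' : ∀ x : K, x = 0 ∨ x = 1 := fun x => by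
      by_cases hx : x = 0
      · exact Or.inl hx
      · exact Or.inr (hK x hx)
    exact gen_y_two G hK' (w := [0, 1, 2, 3]) (by unfold Valid; decide +kernel) (i := 0) (α := 12) (by decide +kernel)
      (by decide +kernel) (by decide +kernel) (by decide +kernel) (by decide +kernel) (by decide +kernel)
      (by decide +kernel) (L := LDq2) (by decide +kernel) (by decide +kernel)

theorem main [Finite K] (D : ChevalleyDatum) (hD : D ∈ [chevG2, chevB2, chevD4, chevF4, chevE6, chevE7, chevE8])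
    (hF : D ∈ [chevB2, chevG2] → ∃ x : K, x ≠ 0 ∧ x ≠ 1) :
    ∃ a b : ↥(D.group K), Subgroup.closure ({a, b} : Set ↥(D.group K)) = ⊤ := by
  obtain ⟨G⟩ := good_of_mem hD
  simp only [List.mem_cons, List.not_mem_nil, or_false] at hD
  rcases hD with rfl | rfl | rfl | rfl | rfl | rfl | rfl
  · exact threeG2 G (hF (by simp))
  · exact threeB2 G (hF (by simp))
  · exact twoD4 G
  · exact twoF4 G
  · exact twoE6 G
  · exact twoE7 G
  · exact twoE8 G

end Cfsg.Agent.Lib.ChTwoGen
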