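import Mathlib

/-!
Divisibility of group orders by chains of subgroups (helper57).
-/

set_option autoImplicit false

namespace Cfsg.Agent.Lib.ChainCard

variable {G : Type*} [Group G]

/-- product of a subgroup and a subgroup normalising it -/
theorem mul_dvd_sup {A B : Subgroup G} (hB : B ≤ Subgroup.normalizer (A : Set G)) (h : A ⊓ B = ⊥) :
    Nat.card A * Nat.card B ∣ Nat.card (A ⊔ B : Subgroup G) := by
  have hA : A ≤ A ⊔ B := le_sup_left
  have hB2 : B ≤ A ⊔ B := le_sup_right
  have hn : (A ⊔ B : Subgroup G) ≤ Subgroup.normalizer (A : Set G) := sup_le Subgroup.le_normalizer hB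
  haveI hN : (A.subgroupOf (A ⊔ B)).Normal := by
    constructor
    intro a ha g
    rw [Subgroup.mem_subgroupOf] at ha ⊢
    exact (Subgroup.mem_normalizer_iff.1 (hn g.2) _).1 ha
  have hc : Nat.card (A.subgroupOf (A ⊔ B)) = Nat.card A := Nat.card_congr (Subgroup.subgroupOfEquivOfLe hA).toEquiv
  rw [Subgroup.card_eq_card_quotient_mul_card_subgroup (A.subgroupOf (A ⊔ B)), hc, mul_comm]
  apply Nat.mul_dvd_mul_right
  let f : B →* (↥(A ⊔ B) ⧸ A.subgroupOf (A ⊔ B)) := (QuotientGroup.mk' (A.subgroupOf (A ⊔ B))).comp (Subgroup.inclusion hB2)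
  apply Subgroup.card_dvd_of_injective f
  rw [injective_iff_map_eq_one]
  intro b hb
  have h1 : Subgroup.inclusion hB2 b ∈ A.subgroupOf (A ⊔ B) := (QuotientGroup.eq_one_iff _).1 hb
  rw [Subgroup.mem_subgroupOf] at h1
  have h2 : (b : G) ∈ A ⊓ B := ⟨h1, b.2⟩
  rw [h, Subgroup.mem_bot] at h2
  exact Subtype.ext h2

theorem mul_dvd {A B : Subgroup G} (hB : B ≤ Subgroup.normalizer (A : Set G)) (h : A ⊓ B = ⊥) :
    Nat.card A * Nat.card B ∣ Nat.card G :=
  (mul_dvd_sup hB h).trans (Subgroup.card_subgroup_dvd_card _)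

/-- one step of a chain of `p`-subgroups -/
theorem chain [Finite G] {p : ℕ} [Fact p.Prime] {A : Subgroup G} {w : G} (hw : w ∈ Subgroup.normalizer (A : Set G)) (hA : w ∉ A) {k : ℕ}
    (hp : w ^ p ^ k = 1) : p * Nat.card A ∣ Nat.card (A ⊔ Subgroup.zpowers w : Subgroup G) := by
  set B := A ⊔ Subgroup.zpowers w with hBd
  have hAB : A ≤ B := le_sup_left
  have hwB : w ∈ B := (le_sup_right : Subgroup.zpowers w ≤ B) (Subgroup.mem_zpowers w)
  have hn : B ≤ Subgroup.normalizer (A : Set G) := sup_le Subgroup.le_normalizer (Subgroup.zpowers_le.2 hw)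
  haveI hN : (A.subgroupOf B).Normal := by
    constructor
    intro a ha g
    rw [Subgroup.mem_subgroupOf] at ha ⊢
    exact (Subgroup.mem_normalizer_iff.1 (hn g.2) _).1 ha
  have hc : Nat.card (A.subgroupOf B) = Nat.card A := Nat.card_congr (Subgroup.subgroupOfEquivOfLe hAB).toEquiv
  rw [Subgroup.card_eq_card_quotient_mul_card_subgroup (A.subgroupOf B), hc]
  apply Nat.mul_dvd_mul_right
  let q : B ⧸ A.subgroupOf B := QuotientGroup.mk ⟨w, hwB⟩
  have h1 : q ≠ 1 := by
    intro h
    have h2 := (QuotientGroup.eq_one_iff (N := A.subgroupOf B) (⟨w, hwB⟩ : B)).1 h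
    rw [Subgroup.mem_subgroupOf] at h2
    exact hA h2
  have h3 : q ^ p ^ k = 1 := by
    have : ((QuotientGroup.mk' (A.subgroupOf B)) (⟨w, hwB⟩ ^ p ^ k)) = 1 := by
      have : (⟨w, hwB⟩ : B) ^ p ^ k = 1 := Subtype.ext hp
      rw [this, map_one]
    rw [map_pow] at this
    exact this
  obtain ⟨j, hj, hj2⟩ := (Nat.dvd_prime_pow (Fact.out : p.Prime)).1 (orderOf_dvd_of_pow_eq_one h3)
  have h4 : p ∣ orderOf q := by
    rw [hj2]
    cases j with
    | zero =>
      rw [pow_zero, orderOf_eq_one_iff] at hj2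
      exact absurd hj2 h1
    | succ j => exact dvd_pow_self p (Nat.succ_ne_zero j)
  exact h4.trans (orderOf_dvd_natCard q)

/-- the action of a normalising cyclic group by conjugation -/
@[reducible] def conjA (V : Subgroup G) (g : G) (hn : g ∈ Subgroup.normalizer (V : Set G)) : MulAction (Subgroup.zpowers g) V where
  smul k v := ⟨(k : G) * v * (k : G)⁻¹, (Subgroup.mem_normalizer_iff.1 (Subgroup.zpowers_le.2 hn k.2) _).1 v.2⟩
  one_smul v := Subtype.ext (by show ((1 : Subgroup.zpowers g) : G) * v * ((1 : Subgroup.zpowers g) : G)⁻¹ = v; simp)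
  mul_smul a b v := Subtype.ext (by
    show ((a * b : Subgroup.zpowers g) : G) * v * ((a * b : Subgroup.zpowers g) : G)⁻¹ = (a : G) * ((b : G) * v * (b : G)⁻¹) * (a : G)⁻¹
    rw [Subgroup.coe_mul]; group)

/-- counting the fixed points of an element of prime order -/
theorem fix_mod [Finite G] {q : ℕ} [Fact q.Prime] (V : Subgroup G) (g : G) (hg : g ^ q = 1) (hn : g ∈ Subgroup.normalizer (V : Set G)) :
    Nat.card V ≡ Nat.card (V ⊓ Subgroup.centralizer {g} : Subgroup G) [MOD q] := by
  letI := conjA V g hn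
  have hP : IsPGroup q (Subgroup.zpowers g) := by
    intro k
    refine ⟨1, ?_⟩
    obtain ⟨j, hj⟩ := Subgroup.mem_zpowers_iff.1 k.2
    apply Subtype.ext
    rw [pow_one, Subgroup.coe_pow, Subgroup.coe_one, ← hj, ← zpow_natCast, ← zpow_mul, mul_comm, zpow_mul, zpow_natCast, hg, one_zpow]
  have h1 := hP.card_modEq_card_fixedPoints V
  have h2 : Nat.card (MulAction.fixedPoints (Subgroup.zpowers g) V) = Nat.card (V ⊓ Subgroup.centralizer {g} : Subgroup G) := by
    apply Nat.card_congr
    refine ⟨fun v => ⟨v.1.1, v.1.2, ?_⟩, fun v => ⟨⟨v.1, v.2.1⟩, ?_⟩, fun v => rfl, fun v => rfl⟩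
    · show (v.1.1 : G) ∈ Subgroup.centralizer {g}
      rw [Subgroup.mem_centralizer_singleton_iff]
      have h3 := congrArg Subtype.val (v.2 ⟨g, Subgroup.mem_zpowers g⟩)
      have h4 : g * v.1.1 * g⁻¹ = v.1.1 := h3
      rw [mul_inv_eq_iff_eq_mul] at h4
      first | exact h4 | exact h4.symm
    · intro k
      apply Subtype.ext
      show (k : G) * v.1 * (k : G)⁻¹ = v.1
      have h3 : Subgroup.zpowers g ≤ Subgroup.centralizer {(v.1 : G)} := by
        rw [Subgroup.zpowers_le, Subgroup.mem_centralizer_singleton_iff]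
        have h5 := Subgroup.mem_centralizer_singleton_iff.1 v.2.2
        first | exact h5 | exact h5.symm
      have h4 := Subgroup.mem_centralizer_singleton_iff.1 (h3 k.2)
      rw [mul_inv_eq_iff_eq_mul]
      first | exact h4 | exact h4.symm
  rwa [h2] at h1

/-- powers of two modulo 23 -/
theorem two_23 : ∀ k, k < 11 → k ≠ 0 → ¬ 2 ^ k ≡ 1 [MOD 23] := by decide

/-- a 2-group of order at most 2^11 with an automorphism of order 23 -/
theorem fix_23 [Finite G] {V : Subgroup G} {g : G} (hg : g ^ 23 = 1) (hn : g ∈ Subgroup.normalizer (V : Set G)) {a : ℕ} (ha : Nat.card V = 2 ^ a)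
    {v : G} (hv : v ∈ V) (hvg : g * v ≠ v * g) :
    ∃ b, Nat.card (V ⊓ Subgroup.centralizer {g} : Subgroup G) = 2 ^ b ∧ b + 11 ≤ a := by
  haveI : Fact (Nat.Prime 23) := ⟨by norm_num⟩
  have h1 := fix_mod (q := 23) V g hg hn
  have h2 : Nat.card (V ⊓ Subgroup.centralizer {g} : Subgroup G) ∣ Nat.card V := Subgroup.card_dvd_of_le inf_le_left
  rw [ha] at h2
  obtain ⟨b, hb, hb2⟩ := (Nat.dvd_prime_pow Nat.prime_two).1 h2
  refine ⟨b, hb2, ?_⟩
  rw [ha, hb2] at h1
  have hne : b ≠ a := by
    intro h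
    have h3 : (V ⊓ Subgroup.centralizer {g} : Subgroup G) = V := by
      apply Subgroup.eq_of_le_of_card_ge inf_le_left
      rw [ha, hb2, h]
    have h4 : v ∈ Subgroup.centralizer {g} := by
      have : v ∈ (V ⊓ Subgroup.centralizer {g} : Subgroup G) := by rw [h3]; exact hv
      exact this.2
    have h5 := Subgroup.mem_centralizer_singleton_iff.1 h4
    first | exact hvg h5 | exact hvg h5.symm
  obtain ⟨d, rfl⟩ := Nat.exists_eq_add_of_le hb
  have h6 : 2 ^ d ≡ 1 [MOD 23] := by
    rw [pow_add] at h1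
    have h7 : 2 ^ b * 2 ^ d ≡ 2 ^ b * 1 [MOD 23] := by rw [mul_one]; exact h1
    exact Nat.ModEq.cancel_left_of_coprime (by
      have : Nat.Coprime 23 (2 ^ b) := Nat.Coprime.pow_right b (by norm_num)
      exact this) h7
  by_contra h8
  exact two_23 d (by omega) (by omega) h6

/-- extraspecial groups of order `p ^ 3`, relative to a centralised subgroup -/
theorem heis [Finite G] {p : ℕ} [Fact p.Prime] {s u c : G} (hs : s ^ p = 1) (hu : u ^ p = 1) (hsu : s * u = u * (s * c)) (hcs : s * c = c * s)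
    (hc1 : c ≠ 1) {A : Subgroup G} (hc : c ∈ A) (hA1 : A ≤ Subgroup.centralizer {s}) (hA2 : A ≤ Subgroup.centralizer {u}) :
    p ^ 2 * Nat.card A ∣ Nat.card G := by
  have com : ∀ {x y : G}, x ∈ Subgroup.centralizer {y} ↔ x * y = y * x := by
    intro x y
    exact Subgroup.mem_centralizer_singleton_iff
  have hne : s * u ≠ u * s := by
    intro h
    apply hc1
    rw [hsu] at h
    have := mul_left_cancel h
    exact mul_eq_left.1 this
  have hcu : c * u = u * c := com.1 (hA2 hc)
  have n1 : s ∈ Subgroup.normalizer (A : Set G) := by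
    rw [Subgroup.mem_normalizer_iff]
    intro x
    constructor
    · intro hx
      rw [← com.1 (hA1 hx), mul_inv_cancel_right]; exact hx
    · intro hx
      have h1 := com.1 (hA1 hx)
      have h2 : s * x = x * s := by
        have h3 : s * x * s⁻¹ * s = s * (s * x * s⁻¹) := h1
        have h4 : s * x = s * (s * x * s⁻¹) := by rw [inv_mul_cancel_right] at h3; exact h3
        have h5 := mul_left_cancel h4
        calc s * x = (s * x * s⁻¹) * s := by group
          _ = x * s := by rw [← h5]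
      rw [h2, mul_inv_cancel_right] at hx
      exact hx
  have s1 : s ∉ A := fun h => hne (com.1 (hA2 h))
  have c1 := chain (p := p) n1 s1 (k := 1) (by rw [pow_one]; exact hs)
  set B := A ⊔ Subgroup.zpowers s with hB
  have hAB : A ≤ B := le_sup_left
  have hsB : s ∈ B := (le_sup_right : Subgroup.zpowers s ≤ B) (Subgroup.mem_zpowers s)
  have hBs : B ≤ Subgroup.centralizer {s} := sup_le hA1 (by rw [Subgroup.zpowers_le]; exact com.2 rfl)
  have u1 : u ∉ B := fun h => hne (com.1 (hBs h)).symm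
  have key : ∀ v : G, (∀ x ∈ A, v * x * v⁻¹ ∈ B) → v * s * v⁻¹ ∈ B → ∀ x ∈ B, v * x * v⁻¹ ∈ B := by
    intro v h1 h2 x hx
    have h3 : B ≤ B.comap (MulAut.conj v).toMonoidHom := by
      rw [hB]
      apply sup_le
      · intro x hx
        exact h1 x hx
      · rw [Subgroup.zpowers_le]
        exact h2
    exact h3 hx
  have hcB : c ∈ B := hAB hc
  have n2 : u ∈ Subgroup.normalizer (B : Set G) := by
    rw [Subgroup.mem_normalizer_iff]
    intro x
    constructor
    · apply key u
      · intro x hx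
        rw [← com.1 (hA2 hx), mul_inv_cancel_right]; exact hAB hx
      · have h6 : u * s * u⁻¹ = s * c⁻¹ := by
          rw [mul_inv_eq_iff_eq_mul]
          have h7 : s * u * c⁻¹ = u * s := by rw [hsu]; group
          rw [← h7, mul_assoc, mul_assoc]
          congr 1
          rw [eq_inv_mul_iff_mul_eq, ← mul_assoc, hcu, mul_inv_cancel_right]
        rw [h6]
        exact B.mul_mem hsB (B.inv_mem hcB)
    · intro hx
      have h8 := key u⁻¹ ?_ ?_ _ hx
      · have h9 : u⁻¹ * (u * x * u⁻¹) * u⁻¹⁻¹ = x := by group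
        rwa [h9] at h8
      · intro x hx
        have h9 : u⁻¹ * x * u⁻¹⁻¹ = x := by
          rw [inv_inv, mul_assoc, com.1 (hA2 hx), inv_mul_cancel_left]
        rw [h9]; exact hAB hx
      · have h9 : u⁻¹ * s * u⁻¹⁻¹ = s * c := by
          rw [inv_inv, mul_assoc, hsu, inv_mul_cancel_left]
        rw [h9]
        exact B.mul_mem hsB hcB
  have c2 := chain (p := p) n2 u1 (k := 1) (by rw [pow_one]; exact hu)
  have h10 : p ^ 2 * Nat.card A ∣ p * Nat.card B := by
    rw [pow_two, mul_assoc]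
    exact Nat.mul_dvd_mul_left p c1
  exact (h10.trans c2).trans (Subgroup.card_subgroup_dvd_card _)

end Cfsg.Agent.Lib.ChainCard
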