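import Mathlib
import Cfsg.Prelude.Def_Characters
import Cfsg.Agent.Lib.CharBasic
import Cfsg.Agent.Lib.CharBasic2
import Cfsg.Agent.Lib.CharCentral
import Cfsg.Agent.Lib.CharGalois
import Cfsg.Agent.Lib.CharValues

set_option autoImplicit false

/-!
# Values at p-elements mod p; the product of the values of the irreducible characters (helper15)
-/

namespace Cfsg.Agent.Lib.CharNorm

open scoped ComplexConjugate
open CharBasic

universe u v

theorem exists_sum_pow_eq {R : Type*} [CommRing R] {p : ℕ} (hp : p.Prime) (n : ℕ) {ι : Type*}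
    (s : Finset ι) (x : ι → R) :
    ∃ r : R, (∑ i ∈ s, x i) ^ p ^ n = ∑ i ∈ s, x i ^ p ^ n + p * r := by
  classical
  induction s using Finset.induction_on with
  | empty => exact ⟨0, by simp [zero_pow (pow_ne_zero n hp.ne_zero)]⟩
  | insert a s ha ih =>
    obtain ⟨r, hr⟩ := ih
    obtain ⟨r', hr'⟩ := exists_add_pow_prime_pow_eq hp (x a) (∑ i ∈ s, x i) n
    refine ⟨r + x a * (∑ i ∈ s, x i) * r', ?_⟩
    rw [Finset.sum_insert ha, Finset.sum_insert ha, hr', hr]
    ring

variable {G : Type u} [Group G]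

/-- `χ(g)^(p^k) ≡ χ(1) mod p` for an element of order dividing `p^k`. -/
theorem pow_congr [Finite G] {χ : G → ℂ} (hχ : IsCharacter G χ) {p k : ℕ} (hp : p.Prime) {g : G}
    (hg : g ^ p ^ k = 1) : ∃ w : ℂ, IsIntegral ℤ w ∧ χ g ^ p ^ k = χ 1 + p * w := by
  obtain ⟨n, ρ, rfl⟩ := hχ
  obtain ⟨μ, h1, h2⟩ := CharValues.exists_eigenvalues ρ g
  have h3 := h2 1
  simp only [pow_one] at h3
  have hint : ∀ i, IsIntegral ℤ (μ i) := fun i =>
    IsIntegral.of_pow (orderOf_pos g) (by rw [h1 i]; exact isIntegral_one)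
  obtain ⟨r, hr⟩ := exists_sum_pow_eq (R := integralClosure ℤ ℂ) hp k Finset.univ
    (fun i => ⟨μ i, hint i⟩)
  refine ⟨r, r.2, ?_⟩
  have h4 := congrArg (Subtype.val) hr
  simp only [SubmonoidClass.coe_pow, AddSubmonoidClass.coe_finsetSum, AddMemClass.coe_add,
    MulMemClass.coe_mul] at h4
  rw [h3, h4, Representation.char_one]
  congr 1
  have h5 : ∀ i, μ i ^ p ^ k = 1 := by
    intro i
    obtain ⟨c, hc⟩ := orderOf_dvd_of_pow_eq_one hg
    rw [hc, pow_mul, h1, one_pow]
  simp [h5]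

/-- If a character vanishes at a `p`-element, its degree is divisible by `p`. -/
theorem dvd_of_apply_eq_zero [Finite G] {χ : G → ℂ} (hχ : IsCharacter G χ) {p k : ℕ} (hp : p.Prime)
    {g : G} (hg : g ^ p ^ k = 1) (h0 : χ g = 0) {n : ℕ} (hn : χ 1 = n) : p ∣ n := by
  obtain ⟨w, hw, h⟩ := pow_congr hχ hp hg
  rw [h0, zero_pow (pow_ne_zero k hp.ne_zero), hn] at h
  have hp0 : (p : ℂ) ≠ 0 := by exact_mod_cast hp.ne_zero
  have h1 : w = ((-(n : ℚ) / p : ℚ) : ℂ) := by
    push_cast
    field_simp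
    linear_combination -h
  obtain ⟨m, hm⟩ := CharCentral.exists_int_of_isIntegral_rat hw _ h1
  rw [hm] at h
  have h2 : (n : ℤ) = p * (-m) := by
    have : (n : ℂ) = p * (-m) := by linear_combination -h
    exact_mod_cast this
  exact Int.natCast_dvd_natCast.mp ⟨-m, h2⟩

/-- The product of the values of all irreducible characters at `g` is an integer. -/
theorem prod_irr_int [Finite G] (g : G) : ∃ m : ℤ, ∏ χ : IrrCharacter G, (χ : G → ℂ) g = m := by
  classical
  have hint : IsIntegral ℤ (∏ χ : IrrCharacter G, (χ : G → ℂ) g) := by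
    apply IsIntegral.prod
    intro χ _
    obtain ⟨n, ρ, hρ, h⟩ := χ.2
    rw [← h]
    exact CharValues.isIntegral_character ρ g
  have hfix : ∀ σ : ℂ →+* ℂ, σ (∏ χ : IrrCharacter G, (χ : G → ℂ) g) =
      ∏ χ : IrrCharacter G, (χ : G → ℂ) g := by
    intro σ
    rw [map_prod]
    let e : IrrCharacter G → IrrCharacter G :=
      fun χ => ⟨fun x => σ ((χ : G → ℂ) x), CharGalois.isIrrCharacter_map χ.2 σ⟩
    have he : Function.Bijective e := by
      apply (Finite.injective_iff_bijective (f := e)).mp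
      intro χ ψ h
      apply Subtype.ext
      funext x
      have := congrFun (congrArg Subtype.val h) x
      exact σ.injective this
    exact Function.Bijective.prod_comp he (fun χ : IrrCharacter G => (χ : G → ℂ) g)
  obtain ⟨q, hq⟩ := CharGalois.exists_rat_of_fixed (hint.tower_top (A := ℚ)) hfix
  exact CharCentral.exists_int_of_isIntegral_rat hint q hq

/-- Positive reals with product at least one have sum at least their
number, with equality only if all are one. -/
theorem sum_ge_of_prod_ge {ι : Type*} (s : Finset ι) (x : ι → ℝ) (hx : ∀ i ∈ s, 0 < x i)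
    (hprod : 1 ≤ ∏ i ∈ s, x i) :
    (s.card : ℝ) ≤ ∑ i ∈ s, x i ∧ ((s.card : ℝ) = ∑ i ∈ s, x i → ∀ i ∈ s, x i = 1) := by
  have h1 : ∀ i ∈ s, Real.log (x i) ≤ x i - 1 := fun i hi => Real.log_le_sub_one_of_pos (hx i hi)
  have h2 : 0 ≤ ∑ i ∈ s, Real.log (x i) := by
    rw [← Real.log_prod (fun i hi => (hx i hi).ne')]
    exact Real.log_nonneg hprod
  have h3 : ∑ i ∈ s, (x i - 1) = ∑ i ∈ s, x i - s.card := by
    rw [Finset.sum_sub_distrib, Finset.sum_const, nsmul_eq_mul, mul_one]
  have h4 := Finset.sum_le_sum h1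
  rw [h3] at h4
  refine ⟨by linarith, fun heq i hi => ?_⟩
  have h5 : ∑ i ∈ s, (x i - 1 - Real.log (x i)) = 0 := by
    rw [Finset.sum_sub_distrib, h3]
    linarith
  have h6 := (Finset.sum_eq_zero_iff_of_nonneg (fun i hi => sub_nonneg.mpr (h1 i hi))).mp h5 i hi
  by_contra hne
  have := Real.log_lt_sub_one_of_pos (hx i hi) hne
  linarith

end Cfsg.Agent.Lib.CharNorm
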