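import Mathlib.LinearAlgebra.Matrix.Charpoly.Coeff
import Mathlib.LinearAlgebra.Matrix.Adjugate
import Mathlib.Tactic

/-! Explicit determinant and characteristic polynomial of a 4 × 4 matrix. -/

set_option autoImplicit false

namespace Cfsg.Agent.Lib.CharpolyFour

open Matrix Polynomial

theorem det_four {R : Type*} [CommRing R] (A : Matrix (Fin 4) (Fin 4) R) : A.det =
  A 0 0 * (A 1 1 * (A 2 2 * A 3 3 - A 2 3 * A 3 2) - A 1 2 * (A 2 1 * A 3 3 - A 2 3 * A 3 1) + A 1 3 * (A 2 1 * A 3 2 - A 2 2 * A 3 1))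
  - A 0 1 * (A 1 0 * (A 2 2 * A 3 3 - A 2 3 * A 3 2) - A 1 2 * (A 2 0 * A 3 3 - A 2 3 * A 3 0) + A 1 3 * (A 2 0 * A 3 2 - A 2 2 * A 3 0))
  + A 0 2 * (A 1 0 * (A 2 1 * A 3 3 - A 2 3 * A 3 1) - A 1 1 * (A 2 0 * A 3 3 - A 2 3 * A 3 0) + A 1 3 * (A 2 0 * A 3 1 - A 2 1 * A 3 0))
  - A 0 3 * (A 1 0 * (A 2 1 * A 3 2 - A 2 2 * A 3 1) - A 1 1 * (A 2 0 * A 3 2 - A 2 2 * A 3 0) + A 1 2 * (A 2 0 * A 3 1 - A 2 1 * A 3 0)) := by
  rw [Matrix.det_succ_row_zero]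
  simp only [Fin.sum_univ_four, Matrix.det_fin_three]
  simp [Matrix.submatrix_apply, Fin.succAbove, Fin.lt_def]
  ring

/-- sum of the principal 3 × 3 minors -/
def e3 {R : Type*} [CommRing R] (A : Matrix (Fin 4) (Fin 4) R) : R :=
  (A 1 1 * (A 2 2 * A 3 3 - A 2 3 * A 3 2) - A 1 2 * (A 2 1 * A 3 3 - A 2 3 * A 3 1) + A 1 3 * (A 2 1 * A 3 2 - A 2 2 * A 3 1))
  + (A 0 0 * (A 2 2 * A 3 3 - A 2 3 * A 3 2) - A 0 2 * (A 2 0 * A 3 3 - A 2 3 * A 3 0) + A 0 3 * (A 2 0 * A 3 2 - A 2 2 * A 3 0))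
  + (A 0 0 * (A 1 1 * A 3 3 - A 1 3 * A 3 1) - A 0 1 * (A 1 0 * A 3 3 - A 1 3 * A 3 0) + A 0 3 * (A 1 0 * A 3 1 - A 1 1 * A 3 0))
  + (A 0 0 * (A 1 1 * A 2 2 - A 1 2 * A 2 1) - A 0 1 * (A 1 0 * A 2 2 - A 1 2 * A 2 0) + A 0 2 * (A 1 0 * A 2 1 - A 1 1 * A 2 0))

/-- sum of the principal 2 × 2 minors -/
def e2 {R : Type*} [CommRing R] (A : Matrix (Fin 4) (Fin 4) R) : R :=
  (A 0 0 * A 1 1 - A 0 1 * A 1 0) + (A 0 0 * A 2 2 - A 0 2 * A 2 0) + (A 0 0 * A 3 3 - A 0 3 * A 3 0)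
  + (A 1 1 * A 2 2 - A 1 2 * A 2 1) + (A 1 1 * A 3 3 - A 1 3 * A 3 1) + (A 2 2 * A 3 3 - A 2 3 * A 3 2)

theorem charpoly_four {R : Type*} [CommRing R] (A : Matrix (Fin 4) (Fin 4) R) : A.charpoly =
    X ^ 4 - C (A 0 0 + A 1 1 + A 2 2 + A 3 3) * X ^ 3 + C (e2 A) * X ^ 2 - C (e3 A) * X + C A.det := by
  rw [Matrix.charpoly, det_four, det_four]
  simp [e2, e3]
  ring

theorem trace_adjugate {R : Type*} [CommRing R] (A : Matrix (Fin 4) (Fin 4) R) : A.adjugate.trace = e3 A := by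
  rw [Matrix.trace, Fin.sum_univ_four]
  simp only [Matrix.diag_apply, Matrix.adjugate_fin_succ_eq_det_submatrix, Matrix.det_fin_three]
  simp [Matrix.submatrix_apply, Fin.succAbove, Fin.lt_def, e3]
  ring

/-- Cayley-Hamilton, explicitly -/
theorem cayley {R : Type*} [CommRing R] (A : Matrix (Fin 4) (Fin 4) R) :
    A ^ 4 - (A 0 0 + A 1 1 + A 2 2 + A 3 3) • A ^ 3 + (e2 A) • A ^ 2 - (e3 A) • A + A.det • 1 = 0 := by
  have h := Matrix.aeval_self_charpoly A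
  rw [charpoly_four] at h
  simp only [map_add, map_sub, map_mul, map_pow, aeval_X, aeval_C] at h
  simp only [Algebra.algebraMap_eq_smul_one, smul_mul_assoc, one_mul] at h
  have e1 : ∀ a b c d : R, ((a • (1 : Matrix (Fin 4) (Fin 4) R) + b • 1 + c • 1 + d • 1) * A ^ 3) = (a + b + c + d) • A ^ 3 := by
    intro a b c d
    simp [add_mul, add_smul]
  rw [e1] at h
  exact h

end Cfsg.Agent.Lib.CharpolyFour
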