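import Cfsg.Agent.Lib.ChevTab4
import Cfsg.Prelude.Def_ChevD4
set_option autoImplicit false

/-! Packed tables for the datum chevD4 (machine generated). -/

namespace Cfsg.Agent.Lib.ChevDataD4
open Cfsg.Lie Cfsg.Agent.Lib.ChevX Cfsg.Agent.Lib.ChevTab

def T : ℕ := 0xba0b40ac0a200009408a08207c0000000000000000000000000000000c20000000b20aa00000000009a09400007406c0000540000000000000000000000000c40000000ba0000a200000009a00008c07400000006404a0000000000000000000000c40000000ba0000a200000009a00000008406c00000005c0420000000000000000000c20000000000b20aa00000009a00000000007c00006405c00003c0000000000000000000ba0b20aa0a200000000000000000000000000005404c04403c0000000000000000c40bc00000000000000000008a08200007406c00000000000000003202a0000000000c20000b400000000000000009200007a0740000000640000000000320000240000000c20000000ac00000000000009200007a00006c00000005c00000003200000001c0000c40000000000a400000000000008a08200000000006405c0000000320000000000120000000000bc0b400000000009408c00000000000000000005204a00000000002a0220000000000bc0000ac00000009400008400000000000000005200004200000002a00001a0000000b40000a400000008c00007c00000000000000004a00003a0000000220000120000000000ac0a400000000008407c0000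0000000000000004203a00000000001a0120000000000bc00000000009c00000007206a00000000004c04400000000000002a00000000000a0000b200000009c00000007200000006200005400003c00000000000002200000000c0000000aa00009c00000000006a00000005a05400003c00000000000000001a00000c0000000000a409c00000000000000006205a00004c04400000000000000000001200a00000000000000009208a08207a00000000000000000000000000002c02401c01400000000000000000009200007206a00005200000000003400000002401c00000000000c00000000000000000008c07200000006204a00000003400000002c00001400000000a00000000000000000000008406a00000005a04200003400000002c00001400000000a00000000000000000000000007a00006205a00003a03400000000002401c00000000c00000000000000000000000000000005204c04403a00002c02201a014000000000000000000000000000000000000000000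

def W : List ℕ := [0x2e02202001e01c00b02d02b02902701a01801601400900700500302501201000e00c000, 0x2d02e02a02802502602201a01801302101f01100f01d01601400c00800b006004000003, 0x2e02902702c02a02401f01d02202001501801601b00e00c01301100a004002009007000, 0x2e02b02c02702802402102201d01e01a01701901401001300c00f00a006009002005000]

def rc : List Rec := [recD 4 0x4103d03cf38f3cf38f,
  recD 4 0x3cf44f3cf3cf3cf3cf,
  recD 4 0x44f40f40f3cf40f3cf,
  recD 4 0x3d140f3d03cf3d03cf,
  recD 4 0x4513cf4103cf4103cf,
  recD 4 0x41044e41040f41040f,
  recD 4 0x3cf4113cf3d03cf3d0,
  recD 4 0x44f3d140f3d040f3d0,
  recD 4 0x3d13d13d03d03d03d0,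
  recD 4 0x4513914103d04103d0,
  recD 4 0x40e45040f41040f410,
  recD 4 0x3904503d04103d0410,
  recD 4 0x4903d0450410450410,
  recD 4 0x4123d0411410411410,
  recD 4 0x3cf48f410450410450,
  recD 4 0x44f44f450450450450,
  recD 4 0x3d144f411450411450,
  recD 4 0x45140f451450451450,
  recD 4 0x4103d2410411410411,
  recD 4 0x3cf451410451410451,
  recD 4 0x44f411450451450451,
  recD 4 0x3d1411411451411451,
  recD 4 0x4513d1451451451451,
  recD 4 0x410450451491451491]

def A : Tab where
  wd := 12
  T := T
  W := W
  rc := rc

def R0 : List ℕ := [23]
def B0 : List (ℕ × ℕ) := [(23, 0), (23, 9), (23, 12), (23, 13), (23, 18), (23, 22), (23, 23)]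

end Cfsg.Agent.Lib.ChevDataD4
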