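import Cfsg.Agent.Lib.ChevTab4
import Cfsg.Prelude.Def_ChevG2
set_option autoImplicit false

/-! Packed tables for the datum chevG2 (machine generated). -/

namespace Cfsg.Agent.Lib.ChevDataG2
open Cfsg.Lie Cfsg.Agent.Lib.ChevX Cfsg.Agent.Lib.ChevTab

def T : ℕ := 0x5a00000000000000005200000004c00000003c00000000000000000000000000000000000000000000000000000000000006200000000000000005200000000000000004400000000000000003400000000000000000000000000000000006000000005800000000000000000000006004d00005e04100000000006204c02c05c04202400000000000000000000000006600000000000006605500000000006205204200000003e00000000000003802900000000003c02c01a00000000000000000000000005e00005805100000000005c05404a00000000000000000000000003600003602503202201a00000000000000000000000006400000000000000000000000004c00000000000000000000000000000000002a00000000000000000000000001200000005c00000000000000000000000004400000000000000000000000000000000002200000000000000000000000000a00000000000000000003c04a05400003e04900000003800000000000000000001201c02400000000000001001d00000001000000000000000000003204405400000000000003004500000000000000003000c01a02c00000000000000e01900000000000000000800000000000000000001202a04a00c02404200000000000001602d00000802100000000000000000000000001600000000e00000000000000000000000000000000003a00000000000000002a00000000000000001c00000000000000000c00000000000000000000000000000000000000000000000000000000000003200000002200000001c000000000000000014000000000000000000000000000000000000000000000000000000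

def W : List ℕ := [0x1600d01101200901400200f00400700b000, 0x1501601200f01000b00d006009004000003]

def rc : List Rec := [recD 2 0x3d038f38d,
  recD 2 0x44d3cf3cd,
  recD 2 0x40f34e3ce,
  recD 2 0x3d134f3cf,
  recD 2 0x44e40f40f,
  recD 2 0x3933d03d0,
  recD 2 0x48d450450,
  recD 2 0x3d2411411,
  recD 2 0x44f4d1451,
  recD 2 0x4114d2452,
  recD 2 0x3d3451453,
  recD 2 0x450491493]

def A : Tab where
  wd := 36
  T := T
  W := W
  rc := rc

def R0 : List ℕ := [9, 11]
def B0 : List (ℕ × ℕ) := [(9, 1), (9, 2), (9, 4), (9, 6), (9, 8), (9, 9), (9, 11), (11, 0), (11, 3), (11, 5), (11, 7), (11, 9), (11, 10), (11, 11)]

end Cfsg.Agent.Lib.ChevDataG2
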