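import Cfsg.Agent.Lib.ChevInvF

set_option autoImplicit false
set_option linter.unusedSectionVars false

/-!
Involution classes: tables for the types G2, F4, E6.
-/

namespace Cfsg.Agent.Lib.ChevInv
open Cfsg.Lie Cfsg.Agent.Lib.ChevX Cfsg.Agent.Lib.ChevGood Cfsg.Agent.Lib.ChevRel Cfsg.Agent.Lib.ChevLev
open Cfsg.Agent.Lib.ChevStd
open scoped MatrixGroups Matrix

def ordG2 : List ℕ := List.range 12

def tabG2 : List Ent := [
  ⟨[9], false, [], [], [9], []⟩,
  ⟨[9, 6], false, [0, 1, 2, 3, 4, 5, 6, 7, 8, 9, 10, 11], [], [9], [(false, 0), (true, 7), (true, 9), (false, 0)]⟩,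
  ⟨[11], false, [], [], [11], []⟩,
  ⟨[11, 7], false, [0, 1, 2, 3, 4, 5, 6, 7, 8, 9, 10, 11], [], [9], [(true, 8), (true, 9), (false, 1), (false, 0)]⟩]

theorem tabG2_ok : tableB chevG2 tabG2 [[11], [9]] = true := by decide +kernel

theorem ocG2 (F : Type*) [Field F] [CharP F 2] : OC chevG2 F :=
  oc_of_check ChevOkG2.good F (by decide +kernel)

theorem ceG2_0 : CE chevG2 [11] [] := ce_of_ceB (by decide +kernel)
theorem ceG2_1 : CE chevG2 [9] [10, 11] := ce_of_ceB (by decide +kernel)

def ordF4 : List ℕ := List.range 48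

def tabF4 : List Ent := [
  ⟨[44], false, [], [], [44], []⟩,
  ⟨[44, 29], false, ordF4, [], [47, 44], [(true, 41), (false, 0), (false, 1), (false, 2), (false, 1), (false, 0)]⟩,
  ⟨[44, 29, 28], false, ordF4, [], [39, 45], [(true, 41), (false, 0), (false, 1), (false, 2), (false, 3), (true, 25), (true, 24), (false, 2), (false, 1), (false, 0), (false, 0), (false, 1)]⟩,
  ⟨[44, 29, 28, 27], false, ordF4, [], [39, 45], [(true, 24), (false, 3), (false, 2), (true, 24), (true, 25), (true, 42), (true, 35), (true, 38), (false, 0), (false, 1), (false, 3), (false, 2), (false, 1), (false, 0), (false, 3), (false, 2), (false, 0), (false, 1)]⟩,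
  ⟨[44, 29, 30], false, ordF4, [], [39, 45], [(true, 41), (true, 36), (true, 37), (false, 0), (false, 1), (false, 2), (false, 1), (false, 0), (false, 3), (false, 2), (false, 0), (false, 1)]⟩,
  ⟨[44, 29, 30, 25], false, ordF4, [], [39, 45], [(true, 41), (true, 38), (true, 35), (false, 3), (true, 27), (true, 24), (true, 30), (false, 1), (false, 0), (false, 2), (false, 1), (false, 2), (false, 3), (false, 1), (false, 2), (false, 1), (false, 3), (false, 2)]⟩,
  ⟨[44, 32], false, [], [], [39, 45], [(false, 0), (false, 1)]⟩,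
  ⟨[44, 32, 24], false, ordF4, [], [39, 45], [(false, 0), (false, 1), (false, 2), (true, 37), (true, 25), (true, 45), (false, 1), (false, 0), (false, 2), (false, 1), (false, 2), (false, 3), (false, 0), (false, 1), (false, 3), (false, 2)]⟩,
  ⟨[44, 32, 24, 27], false, ordF4, [], [39, 45], [(true, 28), (true, 26), (true, 30), (true, 43), (true, 37), (true, 36), (false, 2), (false, 1), (false, 0), (false, 2), (false, 1), (false, 2), (false, 3), (false, 1), (false, 2), (false, 1), (false, 3), (false, 2)]⟩,
  ⟨[44, 32, 27], false, ordF4, [], [39, 45], [(true, 43), (true, 34), (true, 39), (false, 0), (false, 2), (false, 1), (false, 3), (false, 2), (false, 1), (false, 0), (false, 3), (false, 2), (false, 0), (false, 1)]⟩,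
  ⟨[44, 32, 27, 24], false, ordF4, [], [39, 45], [(true, 28), (true, 26), (true, 30), (true, 43), (true, 37), (true, 36), (false, 2), (false, 1), (false, 0), (false, 2), (false, 1), (false, 2), (false, 3), (false, 1), (false, 2), (false, 1), (false, 3), (false, 2)]⟩,
  ⟨[47], false, [], [], [47], []⟩,
  ⟨[47, 37], false, [], [], [39, 45], [(false, 3), (false, 2)]⟩,
  ⟨[47, 37, 25], false, ordF4, [], [39, 45], [(true, 38), (true, 26), (true, 45), (false, 1), (false, 0), (false, 3), (false, 2), (false, 1), (false, 2), (false, 3), (false, 0), (false, 1), (false, 3), (false, 2)]⟩,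
  ⟨[47, 37, 25, 33], false, ordF4, [], [39, 45], [(true, 30), (true, 34), (true, 28), (true, 38), (true, 32), (true, 42), (false, 1), (false, 0), (false, 3), (false, 2), (false, 1), (false, 2), (false, 3), (false, 0), (false, 2), (false, 1), (false, 3), (false, 2)]⟩,
  ⟨[47, 37, 33], false, ordF4, [], [39, 45], [(false, 3), (false, 2), (false, 1), (true, 32), (true, 27), (true, 39), (false, 2), (false, 1), (false, 3), (false, 2), (false, 1), (false, 0), (false, 3), (false, 2), (false, 0), (false, 1)]⟩,
  ⟨[47, 37, 33, 25], false, ordF4, [], [39, 45], [(true, 30), (true, 34), (true, 28), (true, 38), (true, 32), (true, 42), (false, 1), (false, 0), (false, 3), (false, 2), (false, 1), (false, 2), (false, 3), (false, 0), (false, 2), (false, 1), (false, 3), (false, 2)]⟩,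
  ⟨[47, 41], false, ordF4, [], [47, 44], [(true, 29), (false, 3), (false, 2), (false, 1), (false, 2), (false, 3)]⟩,
  ⟨[47, 41, 28], false, ordF4, [], [39, 45], [(true, 29), (true, 42), (true, 32), (false, 0), (false, 1), (false, 3), (false, 2), (false, 1), (false, 0), (false, 2), (false, 1), (false, 2), (false, 0), (false, 1)]⟩,
  ⟨[47, 41, 28, 27], false, ordF4, [], [39, 45], [(true, 29), (true, 43), (true, 31), (false, 0), (true, 25), (true, 33), (true, 28), (false, 0), (false, 3), (false, 2), (false, 1), (false, 2), (false, 3), (false, 0), (false, 2), (false, 1), (false, 3), (false, 2)]⟩,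
  ⟨[47, 41, 30], false, ordF4, [], [39, 45], [(true, 29), (false, 3), (false, 2), (false, 1), (false, 0), (true, 27), (true, 33), (false, 0), (false, 0), (false, 1)]⟩,
  ⟨[47, 41, 30, 25], false, ordF4, [], [39, 45], [(true, 33), (false, 0), (false, 1), (true, 33), (true, 27), (true, 36), (true, 31), (true, 43), (false, 0), (false, 3), (false, 2), (false, 1), (false, 2), (false, 3), (false, 0), (false, 1), (false, 3), (false, 2)]⟩]

theorem tabF4_ok : tableB chevF4 tabF4 [[47], [44], [47, 44], [39, 45]] = true := by decide +kernel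

theorem ocF4 (F : Type*) [Field F] [CharP F 2] : OC chevF4 F :=
  oc_of_check ChevOkF4.good F (by decide +kernel)

theorem ceF4_0 : CE chevF4 [47] [] := ce_of_ceB (by decide +kernel)
theorem ceF4_1 : CE chevF4 [44] [] := ce_of_ceB (by decide +kernel)
theorem ceF4_2 : CE chevF4 [47, 44] [] := ce_of_ceB (by decide +kernel)
theorem ceF4_3 : CE chevF4 [39, 45] [40, 44, 46, 47] := ce_of_ceB (by decide +kernel)

def ordE6 : List ℕ := List.range 72

def tabE6 : List Ent := [
  ⟨[71], false, [], [], [71], []⟩,
  ⟨[71, 60], false, [], [], [68, 66], [(false, 1), (false, 3), (false, 2)]⟩,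
  ⟨[71, 60, 44], false, [], [], [55, 65, 67], [(false, 5), (false, 1), (false, 3), (false, 4), (false, 5)]⟩,
  ⟨[71, 60, 44, 39], true, [44, 39, 46, 60, 51, 47, 53, 63, 69, 65, 70, 71], [46, 60, 44, 39, 46, 60, 44, 39], [60, 44, 39], []⟩]

theorem tabE6_ok : tableB chevE6 tabE6 [[71], [68, 66], [55, 65, 67]] = true := by decide +kernel

theorem ocE6 (F : Type*) [Field F] [CharP F 2] : OC chevE6 F :=
  oc_of_check ChevOkE6.good F (by decide +kernel)

theorem ceE6_0 : CE chevE6 [71] [] := ce_of_ceB (by decide +kernel)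
theorem ceE6_1 : CE chevE6 [68, 66] [69, 70, 71] := ce_of_ceB (by decide +kernel)
theorem ceE6_2 : CE chevE6 [55, 65, 67] [66, 68, 69, 70, 71] := ce_of_ceB (by decide +kernel)

end Cfsg.Agent.Lib.ChevInv
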