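import Cfsg.Agent.Lib.ChevInvF

set_option autoImplicit false
set_option linter.unusedSectionVars false

/-!
Involution classes: tables for the types E7.
-/

namespace Cfsg.Agent.Lib.ChevInv
open Cfsg.Lie Cfsg.Agent.Lib.ChevX Cfsg.Agent.Lib.ChevGood Cfsg.Agent.Lib.ChevRel Cfsg.Agent.Lib.ChevLev
open Cfsg.Agent.Lib.ChevStd
open scoped MatrixGroups Matrix

def ordE7 : List ℕ := List.range 126

def tabE7 : List Ent := [
  ⟨[125], false, [], [], [125], []⟩,
  ⟨[125, 92], false, [], [], [118, 121], [(false, 0), (false, 2), (false, 3), (false, 4)]⟩,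
  ⟨[125, 92, 63], false, [], [], [92, 107, 111], [(false, 5), (false, 4), (false, 3), (false, 1), (false, 0), (false, 2), (false, 3), (false, 4), (false, 5), (false, 1), (false, 3), (false, 4)]⟩,
  ⟨[125, 92, 63, 87], false, [], [], [92, 107, 111, 119], [(false, 5), (false, 4), (false, 3), (false, 1), (false, 0), (false, 2), (false, 3), (false, 4), (false, 5), (false, 1), (false, 3), (false, 4)]⟩,
  ⟨[125, 92, 63, 87, 66], true, [64, 66, 67, 63, 65, 68, 87, 88, 90, 89, 91, 92, 125], [64, 63, 87, 66, 64, 63, 87, 66], [125, 63, 87, 66], []⟩,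
  ⟨[125, 92, 63, 87, 73], true, [63, 92, 73, 87, 93, 108, 94, 103, 114, 123, 109, 124, 125], [93, 92, 87, 73, 93, 92, 87, 73], [92, 63, 87, 73], []⟩,
  ⟨[125, 92, 63, 87, 78], true, [78, 97, 63, 101, 98, 102, 87, 115, 119, 116, 120, 92, 125], [97, 63, 87, 78, 97, 63, 87, 78], [92, 63, 87, 78], []⟩,
  ⟨[125, 92, 87], false, [], [], [114, 116, 119], [(false, 5), (false, 6), (false, 0), (false, 2), (false, 3), (false, 4), (false, 5), (false, 6)]⟩,
  ⟨[125, 92, 87, 63], false, [], [], [92, 107, 111, 119], [(false, 5), (false, 4), (false, 3), (false, 1), (false, 0), (false, 2), (false, 3), (false, 4), (false, 5), (false, 1), (false, 3), (false, 4)]⟩,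
  ⟨[125, 92, 87, 63, 66], true, [66, 63, 64, 67, 65, 68, 87, 88, 90, 89, 91, 92, 125], [64, 87, 63, 66, 64, 87, 63, 66], [125, 87, 63, 66], []⟩,
  ⟨[125, 92, 87, 63, 73], true, [93, 73, 87, 63, 94, 103, 109, 92, 108, 114, 123, 124, 125], [93, 92, 87, 73, 93, 92, 87, 73], [92, 87, 63, 73], []⟩,
  ⟨[125, 92, 87, 63, 78], true, [97, 87, 115, 63, 98, 78, 101, 116, 119, 92, 102, 120, 125], [97, 87, 63, 78, 97, 87, 63, 78], [92, 87, 63, 78], []⟩,
  ⟨[125, 92, 87, 66], false, [], [], [92, 107, 111, 119], [(false, 3), (false, 1), (false, 5), (false, 6), (false, 0), (false, 2), (false, 3), (false, 4), (false, 5), (false, 1), (false, 3), (false, 4)]⟩,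
  ⟨[125, 92, 87, 66, 63], true, [66, 87, 63, 64, 67, 88, 90, 125, 65, 68, 89, 91, 92], [64, 87, 66, 63, 64, 87, 66, 63], [125, 87, 66, 63], []⟩,
  ⟨[125, 92, 87, 66, 73], true, [73, 93, 66, 94, 87, 103, 109, 92, 108, 114, 123, 124, 125], [93, 92, 87, 73, 93, 92, 87, 73], [92, 87, 66, 73], []⟩,
  ⟨[125, 92, 87, 66, 78], true, [66, 78, 95, 96, 92, 99, 100, 87, 117, 118, 121, 122, 125], [95, 92, 66, 78, 95, 92, 66, 78], [92, 87, 66, 78], []⟩,
  ⟨[125, 92, 87, 73], true, [93, 73, 94, 87, 103, 109, 92, 108, 114, 123, 124, 125], [93, 92, 87, 73, 93, 92, 87, 73], [92, 87, 73], []⟩,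
  ⟨[125, 92, 87, 78], false, [], [], [92, 107, 111, 119], [(false, 3), (false, 4), (false, 5), (false, 6), (false, 4), (false, 5), (false, 0), (false, 2), (false, 3), (false, 4), (false, 5), (false, 6)]⟩,
  ⟨[125, 92, 87, 78, 63], true, [63, 78, 87, 97, 98, 101, 102, 92, 115, 116, 119, 120, 125], [97, 87, 78, 63, 97, 87, 78, 63], [92, 87, 78, 63], []⟩,
  ⟨[125, 92, 87, 78, 66], true, [66, 78, 95, 96, 99, 100, 87, 92, 117, 118, 121, 122, 125], [95, 92, 78, 66, 95, 92, 78, 66], [92, 87, 78, 66], []⟩,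
  ⟨[125, 92, 87, 78, 73], true, [93, 73, 78, 94, 87, 103, 92, 109, 108, 114, 123, 124, 125], [93, 92, 87, 73, 93, 92, 87, 73], [92, 87, 78, 73], []⟩]

theorem tabE7_ok : tableB chevE7 tabE7 [[125], [118, 121], [114, 116, 119], [92, 107, 111], [92, 107, 111, 119]] = true := by decide +kernel

theorem ocE7 (F : Type*) [Field F] [CharP F 2] : OC chevE7 F :=
  oc_of_check ChevOkE7.good F (by decide +kernel)

theorem ceE7_0 : CE chevE7 [125] [] := ce_of_ceB (by decide +kernel)
theorem ceE7_1 : CE chevE7 [118, 121] [122, 123, 124, 125] := ce_of_ceB (by decide +kernel)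
theorem ceE7_2 : CE chevE7 [114, 116, 119] [117, 118, 120, 121, 122, 123, 124, 125] := ce_of_ceB (by decide +kernel)
theorem ceE7_3 : CE chevE7 [92, 107, 111] [108, 113, 114, 116, 117, 118, 120, 121, 122, 123, 124, 125] := ce_of_ceB (by decide +kernel)
theorem ceE7_4 : CE chevE7 [92, 107, 111, 119] [108, 113, 114, 116, 117, 118, 120, 121, 122, 123, 124, 125] := ce_of_ceB (by decide +kernel)

end Cfsg.Agent.Lib.ChevInv
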