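import Cfsg.Agent.Lib.ChevInvF

set_option autoImplicit false
set_option linter.unusedSectionVars false

/-!
Involution classes: tables for the types E8.
-/

namespace Cfsg.Agent.Lib.ChevInv
open Cfsg.Lie Cfsg.Agent.Lib.ChevX Cfsg.Agent.Lib.ChevGood Cfsg.Agent.Lib.ChevRel Cfsg.Agent.Lib.ChevLev
open Cfsg.Agent.Lib.ChevStd
open scoped MatrixGroups Matrix

def ordE8 : List ℕ := List.range 240

def tabE8 : List Ent := [
  ⟨[239], false, [], [], [239], []⟩,
  ⟨[239, 226], false, [], [], [232, 233], [(false, 7), (false, 6), (false, 5), (false, 4), (false, 3), (false, 2)]⟩,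
  ⟨[239, 226, 159], false, [], [], [228, 222, 218], [(false, 0), (false, 2), (false, 3), (false, 1), (false, 7), (false, 6), (false, 5), (false, 4), (false, 3), (false, 2), (false, 1), (false, 3), (false, 0), (false, 2)]⟩,
  ⟨[239, 226, 159, 121], true, [121, 120, 122, 159, 160, 161, 226, 227, 228, 237, 238, 239], [120, 226, 159, 121, 120, 226, 159, 121], [226, 159, 121], []⟩,
  ⟨[239, 226, 159, 152], false, [], [], [226, 220, 213, 216], [(false, 5), (false, 4), (false, 0), (false, 2), (false, 3), (false, 4), (false, 1), (false, 3), (false, 7), (false, 6), (false, 5), (false, 4), (false, 3), (false, 2), (false, 1), (false, 3), (false, 4), (false, 5), (false, 0), (false, 2)]⟩,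
  ⟨[239, 226, 159, 152, 121], true, [120, 121, 152, 122, 159, 226, 160, 227, 161, 228, 237, 238, 239], [120, 226, 159, 121, 120, 226, 159, 121], [226, 159, 152, 121], []⟩,
  ⟨[239, 226, 159, 152, 126], true, [152, 126, 159, 125, 155, 129, 158, 226, 229, 235, 230, 236, 239], [125, 226, 152, 126, 125, 226, 152, 126], [226, 159, 152, 126], []⟩,
  ⟨[239, 226, 159, 152, 135], true, [135, 162, 163, 152, 174, 159, 184, 181, 191, 214, 219, 226, 239], [162, 159, 152, 135, 162, 159, 152, 135], [239, 159, 152, 135], []⟩,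
  ⟨[239, 226, 159, 152, 141], true, [141, 152, 168, 173, 196, 206, 226, 159, 203, 213, 224, 225, 239], [168, 159, 152, 141, 168, 159, 152, 141], [226, 159, 152, 141], []⟩]

theorem tabE8_ok : tableB chevE8 tabE8 [[239], [232, 233], [228, 222, 218], [226, 220, 213, 216]] = true := by decide +kernel

theorem ocE8 (F : Type*) [Field F] [CharP F 2] : OC chevE8 F :=
  oc_of_check ChevOkE8.good F (by decide +kernel)

theorem ceE8_0 : CE chevE8 [239] [] := ce_of_ceB (by decide +kernel)
theorem ceE8_1 : CE chevE8 [232, 233] [234, 235, 236, 237, 238, 239] := ce_of_ceB (by decide +kernel)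
theorem ceE8_2 : CE chevE8 [228, 222, 218] [223, 224, 225, 229, 230, 231, 232, 233, 234, 235, 236, 237, 238, 239] := ce_of_ceB (by decide +kernel)
theorem ceE8_3 : CE chevE8 [226, 220, 213, 216] [217, 218, 221, 222, 223, 224, 225, 227, 228, 229, 230, 231, 232, 233, 234, 235, 236, 237, 238, 239] := ce_of_ceB (by decide +kernel)

end Cfsg.Agent.Lib.ChevInv
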