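import Cfsg.Agent.Lib.ChevInvJ
import Cfsg.Agent.Lib.ChevInvH
import Cfsg.Agent.Lib.ChevInvI
set_option autoImplicit false
set_option linter.unusedSectionVars false

/-!
Involution classes in characteristic two: non-conjugacy for types E7 and E8.
-/

namespace Cfsg.Agent.Lib.ChevInv
open Cfsg.Lie Cfsg.Agent.Lib.ChevX Cfsg.Agent.Lib.ChevGood Cfsg.Agent.Lib.ChevRel Cfsg.Agent.Lib.ChevLev
open Cfsg.Agent.Lib.ChevStd
open scoped MatrixGroups Matrix

section
variable (F : Type*) [Field F] [CharP F 2]

theorem ncE7 : ([[125], [118, 121], [114, 116, 119], [92, 107, 111], [92, 107, 111, 119]] : List (List ℕ)).Pairwise fun A' A => ∀ g ∈ chevE7.group F, ¬ (g * p1 chevE7 F A * g⁻¹ = p1 chevE7 F A') := by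
  have G := ChevOkE7.good
  simp only [List.pairwise_cons, List.mem_cons, List.not_mem_nil, or_false, forall_eq_or_imp, forall_eq, List.Pairwise.nil, and_true, false_imp_iff, implies_true]
  exact ⟨⟨fun g hg h => nonconj G ceE7_1 ceE7_0 (by decide +kernel) (by decide +kernel) hg h, fun g hg h => nonconj G ceE7_2 ceE7_0 (by decide +kernel) (by decide +kernel) hg h, fun g hg h => nonconj G ceE7_3 ceE7_0 (by decide +kernel) (by decide +kernel) hg h, fun g hg h => nonconj G ceE7_4 ceE7_0 (by decide +kernel) (by decide +kernel) hg h⟩, ⟨fun g hg h => nonconj G ceE7_2 ceE7_1 (by decide +kernel) (by decide +kernel) hg h, fun g hg h => nonconj G ceE7_3 ceE7_1 (by decide +kernel) (by decide +kernel) hg h, fun g hg h => nonconj G ceE7_4 ceE7_1 (by decide +kernel) (by decide +kernel) hg h⟩, ⟨fun g hg h => nonconj_par G ceE7_3 ceE7_2 (by decide +kernel) (by decide +kernel) (by decide +kernel) hg h, fun g hg h => nonconj G ceE7_4 ceE7_2 (by decide +kernel) (by decide +kernel) hg h⟩, fun g hg h => nonconj G ceE7_4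 ceE7_3 (by decide +kernel) (by decide +kernel) hg h⟩

theorem ncE8 : ([[239], [232, 233], [228, 222, 218], [226, 220, 213, 216]] : List (List ℕ)).Pairwise fun A' A => ∀ g ∈ chevE8.group F, ¬ (g * p1 chevE8 F A * g⁻¹ = p1 chevE8 F A') := by
  have G := ChevOkE8.good
  simp only [List.pairwise_cons, List.mem_cons, List.not_mem_nil, or_false, forall_eq_or_imp, forall_eq, List.Pairwise.nil, and_true, false_imp_iff, implies_true]
  exact ⟨⟨fun g hg h => nonconj G ceE8_1 ceE8_0 (by decide +kernel) (by decide +kernel) hg h, fun g hg h => nonconj G ceE8_2 ceE8_0 (by decide +kernel) (by decide +kernel) hg h, fun g hg h => nonconj G ceE8_3 ceE8_0 (by decide +kernel) (by decide +kernel) hg h⟩, ⟨fun g hg h => nonconj G ceE8_2 ceE8_1 (by decide +kernel) (by decide +kernel) hg h, fun g hg h => nonconj G ceE8_3 ceE8_1 (by decide +kernel) (by decide +kernel) hg h⟩, fun g hg h => nonconj G ceE8_3 ceE8_2 (by decide +kernel) (by decide +kernel) hg h⟩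

end

end Cfsg.Agent.Lib.ChevInv
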