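import Cfsg.Agent.Lib.ChevPar
import Cfsg.Agent.Lib.ChevBruhat
set_option autoImplicit false
set_option linter.unusedSectionVars false

/-!
Pairs of conjugates of the highest root subgroup.
-/

namespace Cfsg.Agent.Lib.ChevLong
open Cfsg.Lie Cfsg.Agent.Lib.ChevX Cfsg.Agent.Lib.ChevGood Cfsg.Agent.Lib.ChevRel
open Cfsg.Agent.Lib.ChevU Cfsg.Agent.Lib.ChevH Cfsg.Agent.Lib.ChevN Cfsg.Agent.Lib.ChevBN
open Cfsg.Agent.Lib.ChevBruhat (Listed)
open scoped MatrixGroups Matrix

variable {D : ChevalleyDatum} {F : Type*} [Field F]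

section
variable (G : Good D)
include G

/-- Bruhat decomposition with words -/
theorem exists_bwb (hD : Listed D) {g : GL D.Idx F} (hg : g ∈ D.group F) :
    ∃ b ∈ D.borelSubgroup F, ∃ w : List ℕ, Valid D w ∧ ∃ b' ∈ D.borelSubgroup F, g = b * nwd D F w * b' := by
  obtain ⟨b, hb, n, hn, b', hb', rfl⟩ := Cfsg.Agent.Lib.ChevBruhat.exists_dc G hD hg
  obtain ⟨w, hw, h, hh, rfl⟩ := exists_nwd G hn
  exact ⟨b, hb, w, hw, h * b', mul_mem (H_le_B hh) hb', by group⟩

/-- separating two positive roots -/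
theorem exists_separate {r s : ℕ} (hr : D.IsPosRoot r) (hs : D.IsPosRoot s) (hne : r ≠ s) :
    ∃ w : List ℕ, Valid D w ∧ D.IsPosRoot (wr D w r) ∧ D.IsNegRoot (wr D w s) := by
  have key : ∀ w : List ℕ, Valid D w → D.IsNegRoot (wr D w r) → D.IsNegRoot (wr D w s) →
      ∃ w' : List ℕ, Valid D w' ∧ ((D.IsPosRoot (wr D w' r) ∧ D.IsNegRoot (wr D w' s)) ∨
        (D.IsNegRoot (wr D w' r) ∧ D.IsPosRoot (wr D w' s))) := by
    intro w
    induction w with
    | nil => intro _ h; exact absurd h (fun h => not_pos_and_neg G hr h)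
    | cons i w ih =>
      intro hw h1 h2
      have hw' := hw.cons.2
      have hi := hw.cons.1
      rcases pos_or_neg G (wr_lt G hw' hr.1) with h3 | h3 <;> rcases pos_or_neg G (wr_lt G hw' hs.1) with h4 | h4
      · exfalso
        have e1 := eq_simple_of_neg G hi h3 h1
        have e2 := eq_simple_of_neg G hi h4 h2
        apply hne
        rw [← wr_reverse' G hw' hr.1, ← wr_reverse' G hw' hs.1, e1, e2]
      · exact ⟨w, hw', Or.inl ⟨h3, h4⟩⟩
      · exact ⟨w, hw', Or.inr ⟨h3, h4⟩⟩
      · exact ih hw' h3 h4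
  obtain ⟨w0, hw0, hlong⟩ := exists_longest G
  obtain ⟨w, hw, h | h⟩ := key w0 hw0 (hlong r hr) (hlong s hs)
  · exact ⟨w, hw, h⟩
  · refine ⟨w0 ++ w, hw0.append hw, ?_, ?_⟩
    · rw [wr_append]
      have h1 := wr_lt G hw hr.1
      have h2 := hlong _ ((isPos_neg_iff G h1).mpr h.1)
      rw [wr_neg G hw0 h1, isNeg_neg_iff G (wr_lt G hw0 h1)] at h2
      exact h2
    · rw [wr_append]; exact hlong _ h.2

/-- the highest root subgroup is centralized by `U` -/
theorem highest_comm {s : ℕ} (hs : D.IsPosRoot s) (t u : F) :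
    xg D F s t * xg D F (D.nroots - 1) u = xg D F (D.nroots - 1) u * xg D F s t := by
  have hlt : D.nroots - 1 < D.nroots := by have := hs.1; omega
  have hp : D.IsPosRoot (D.nroots - 1) := by
    rw [G.isPos_iff]
    have := (G.isPos_iff s).mp hs
    omega
  by_cases h : s = D.nroots - 1
  · rw [h, xg_add G, xg_add G, add_comm]
  have hne : s ≠ D.neg (D.nroots - 1) := by
    rintro rfl
    exact not_pos_and_neg G hs ((isNeg_neg_iff G hlt).mpr hp)
  rw [xg_comm G hlt hs.1 h hne u t]
  have h1 : D.commWord F (D.nroots - 1) s u t = [] := by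
    unfold ChevalleyDatum.commWord
    rw [List.map_eq_nil_iff, List.eq_nil_iff_forall_not_mem]
    intro c hc
    obtain ⟨h2, h3, h4, h5⟩ := commTerms_root G hlt hs.1 h hne hc
    have h6 := ord_comb G h2 hlt hs.1 h5
    have hp' := (G.isPos_iff _).mp hp
    have hs' := (G.isPos_iff _).mp hs
    have h7 := ord_pos G hlt hp'.1
    have h8 := ord_pos G hs.1 hs'.1
    have h9 : ¬ (D.nroots - 1 < c.1) := by omega
    rw [G.ord_mono _ hlt _ h2] at h9
    apply h9
    rw [h6]
    have h10 : (1 : ℤ) ≤ c.2.2.1 := by exact_mod_cast h3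
    have h11 : (1 : ℤ) ≤ c.2.2.2 := by exact_mod_cast h4
    nlinarith
  rw [h1, wg_nil, mul_one]

theorem highest_comm' {u : GL D.Idx F} (hu : u ∈ D.posUnipotent F) (t : F) :
    u * xg D F (D.nroots - 1) t * u⁻¹ = xg D F (D.nroots - 1) t := by
  rw [posUnipotent_eq G] at hu
  have h1 : XS D F {r | D.IsPosRoot r} ≤ Subgroup.centralizer {xg D F (D.nroots - 1) t} := XS_le fun r hr u => by
    rw [Subgroup.mem_centralizer_singleton_iff]
    exact highest_comm G hr u t
  have h2 := Subgroup.mem_centralizer_singleton_iff.mp (h1 hu)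
  rw [h2, mul_inv_cancel_right]

/-- conjugation of a root subgroup by `n_w` -/
theorem map_root {w : List ℕ} (hw : Valid D w) {s : ℕ} (hs : s < D.nroots) :
    (D.rootSubgroup F s).map (MulAut.conj (nwd D F w)).toMonoidHom = D.rootSubgroup F (wr D w s) := by
  obtain ⟨ε, hε, h1, -⟩ := nwd_conj G (F := F) hw hs
  have hεε : ε * ε = 1 := by rcases hε with h | h <;> rw [h] <;> simp
  ext x
  rw [Subgroup.mem_map, mem_rootSubgroup_iff G]
  constructor
  · rintro ⟨y, hy, rfl⟩
    obtain ⟨t, rfl⟩ := (mem_rootSubgroup_iff G).mp hy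
    exact ⟨ε * t, h1 t⟩
  · rintro ⟨t, rfl⟩
    refine ⟨xg D F s (ε * t), (mem_rootSubgroup_iff G).mpr ⟨_, rfl⟩, ?_⟩
    have := h1 (ε * t)
    rw [← mul_assoc, hεε, one_mul] at this
    exact this

/-- conjugation of the highest root subgroup by an element of the Borel subgroup -/
theorem map_highest {b : GL D.Idx F} (hb : b ∈ D.borelSubgroup F) :
    (D.rootSubgroup F (D.nroots - 1)).map (MulAut.conj b).toMonoidHom = D.rootSubgroup F (D.nroots - 1) := by
  have key : ∀ b ∈ D.borelSubgroup F, (D.rootSubgroup F (D.nroots - 1)).map (MulAut.conj b).toMonoidHom ≤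
      D.rootSubgroup F (D.nroots - 1) := by
    intro b hb
    have hn := diagonalSubgroup_le_normalizer (F := F) G (S := {D.nroots - 1})
    by_cases h0 : 0 < D.nroots
    · have hlt : D.nroots - 1 < D.nroots := by omega
      obtain ⟨u, hu, h, hh, rfl⟩ := (mem_borel_iff G).mp hb
      rw [Subgroup.map_le_iff_le_comap]
      intro x hx
      rw [Subgroup.mem_comap]
      change u * h * x * (u * h)⁻¹ ∈ _
      have h1 : h * x * h⁻¹ ∈ D.rootSubgroup F (D.nroots - 1) := by
        rw [rootSubgroup_eq G] at hx ⊢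
        exact (Subgroup.mem_normalizer_iff.mp (hn (by rintro r rfl; exact hlt) hh) x).mp hx
      obtain ⟨t, ht⟩ := (mem_rootSubgroup_iff G).mp h1
      have h2 : u * h * x * (u * h)⁻¹ = u * (h * x * h⁻¹) * u⁻¹ := by group
      rw [h2, ht, highest_comm' G hu, mem_rootSubgroup_iff G]
      exact ⟨t, rfl⟩
    · obtain ⟨u, hu, h, hh, rfl⟩ := (mem_borel_iff G).mp hb
      rintro _ ⟨x, hx, rfl⟩
      obtain ⟨t, rfl⟩ := (mem_rootSubgroup_iff G).mp hx
      have : xg D F (D.nroots - 1) t = 1 := by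
        apply Units.ext
        rw [coe_xg G, x_out (by omega)]; rfl
      rw [this, map_one]; exact one_mem _
  refine le_antisymm (key b hb) fun x hx => ?_
  have h1 := key _ (inv_mem hb) (Subgroup.mem_map_of_mem _ hx)
  refine ⟨_, h1, ?_⟩
  change b * (b⁻¹ * x * b⁻¹⁻¹) * b⁻¹ = x
  group

theorem posUnipotent_isPGroup [Fintype F] (p : ℕ) [Fact p.Prime] [CharP F p] : IsPGroup p (D.posUnipotent F) := by
  obtain ⟨n, -, h⟩ := FiniteField.card F p
  refine IsPGroup.of_card (n := n * (D.nroots / 2)) ?_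
  rw [card_posUnipotent G, h, pow_mul]

/-- S2186 -/
theorem long_pair [Fintype F] [CharP F 2] (hD : Listed D) {g : GL D.Idx F} (hg : g ∈ D.group F) :
    IsPGroup 2 ↥(D.rootSubgroup F (D.nroots - 1) ⊔ (D.rootSubgroup F (D.nroots - 1)).map (MulAut.conj g).toMonoidHom) ∨
    ∃ h ∈ D.group F, (D.rootSubgroup F (D.nroots - 1) ⊔
      (D.rootSubgroup F (D.nroots - 1)).map (MulAut.conj g).toMonoidHom).map (MulAut.conj h).toMonoidHom =
        D.rootSubgroup F (D.nroots - 1) ⊔ D.rootSubgroup F 0 := by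
  haveI : Fact (Nat.Prime 2) := ⟨Nat.prime_two⟩
  by_cases h0 : 0 < D.rank
  swap
  · exfalso
    simp only [Listed, List.mem_cons, List.not_mem_nil, or_false] at hD
    rcases hD with rfl | rfl | rfl | rfl | rfl | rfl | rfl <;> exact h0 (by decide)
  have hpos0 := simple_isPos G h0
  have hp0' := (G.isPos_iff _).mp hpos0
  have hlt : D.nroots - 1 < D.nroots := by omega
  have hp : D.IsPosRoot (D.nroots - 1) := by rw [G.isPos_iff]; omega
  set r0 := D.nroots - 1 with hr0
  obtain ⟨b, hb, w, hw, b', hb', rfl⟩ := exists_bwb G hD hg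
  have hmap : ∀ (x y : GL D.Idx F) (K : Subgroup (GL D.Idx F)), K.map (MulAut.conj (x * y)).toMonoidHom =
      (K.map (MulAut.conj y).toMonoidHom).map (MulAut.conj x).toMonoidHom := by
    intro x y K
    rw [Subgroup.map_map]
    congr 1
    ext z; simp
  have e1 : (D.rootSubgroup F r0).map (MulAut.conj (b * nwd D F w * b')).toMonoidHom =
      (D.rootSubgroup F (wr D w r0)).map (MulAut.conj b).toMonoidHom := by
    rw [hmap, hmap, map_highest G hb', map_root G hw hlt]
  have e2 : D.rootSubgroup F r0 ⊔ (D.rootSubgroup F r0).map (MulAut.conj (b * nwd D F w * b')).toMonoidHom =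
      (D.rootSubgroup F r0 ⊔ D.rootSubgroup F (wr D w r0)).map (MulAut.conj b).toMonoidHom := by
    rw [e1, Subgroup.map_sup, map_highest G hb]
  have hs := wr_lt G hw hlt
  have hcard : ∀ (x : GL D.Idx F) (K : Subgroup (GL D.Idx F)),
      IsPGroup 2 ↥(K.map (MulAut.conj x).toMonoidHom) → IsPGroup 2 ↥K := by
    intro x K h
    exact h.of_equiv (K.equivMapOfInjective (MulAut.conj x).toMonoidHom (MulAut.conj x).injective).symm
  have hU := posUnipotent_isPGroup (F := F) G 2
  rw [e2]
  by_cases hcase : wr D w r0 = 0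
  · right
    refine ⟨b⁻¹, inv_mem (B_le_group G hb), ?_⟩
    have h1 : (MulAut.conj (1 : GL D.Idx F)).toMonoidHom = MonoidHom.id _ := by ext x; simp
    rw [← hmap, inv_mul_cancel, hcase, h1, Subgroup.map_id]
  · left
    refine (IsPGroup.map ?_ _)
    set s := wr D w r0 with hsdef
    by_cases hsr : s = r0
    · rw [hsr, sup_idem]
      refine hU.to_le ?_
      rw [posUnipotent_eq G, rootSubgroup_eq G]
      exact XS_mono (by rintro r rfl; exact hp)
    rcases pos_or_neg G hs with h | h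
    · refine hU.to_le ?_
      rw [posUnipotent_eq G, rootSubgroup_eq G, rootSubgroup_eq G]
      exact sup_le (XS_mono (by rintro r rfl; exact hp)) (XS_mono (by rintro r rfl; exact h))
    · have h1 := (isPos_neg_iff G hs).mpr h
      have hne : r0 ≠ D.neg s := by
        intro h2
        apply hcase
        have h3 := congrArg D.neg h2
        rw [neg_neg G hs, G.neg_eq r0 hlt] at h3
        rw [← h3]; omega
      obtain ⟨v, hv, h2, h3⟩ := exists_separate G hp h1 hne
      rw [wr_neg G hv hs, isNeg_neg_iff G (wr_lt G hv hs)] at h3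
      apply hcard (nwd D F v)
      rw [Subgroup.map_sup, map_root G hv hlt, map_root G hv hs]
      refine hU.to_le ?_
      rw [posUnipotent_eq G, rootSubgroup_eq G, rootSubgroup_eq G]
      exact sup_le (XS_mono (by rintro r rfl; exact h2)) (XS_mono (by rintro r rfl; exact h3))

end

end Cfsg.Agent.Lib.ChevLong
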