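import Cfsg.Agent.Lib.SparseRep
import Cfsg.Prelude.Def_ChevD4
import Cfsg.Prelude.Def_ChevB2
set_option autoImplicit false

/-!
The natural orthogonal representations of the Steinberg groups of types `D₄` and `B₂` (machine generated data, helper44).
-/

namespace Cfsg.Agent.Lib.SparseRepData
open Cfsg.Lie Cfsg.Agent.Lib.ChevX Cfsg.Agent.Lib.ChevGood Cfsg.Agent.Lib.SparseRep

def colD4L : List (List (List (ℕ × ℕ × ℤ))) :=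
  [[[(0, 0, 1), (1, 5, 1)], [(0, 1, 1), (1, 4, -1)], [(0, 2, 1)], [(0, 3, 1)], [(0, 4, 1)], [(0, 5, 1)], [(0, 6, 1)], [(0, 7, 1)]],
    [[(0, 0, 1), (1, 6, 1)], [(0, 1, 1)], [(0, 2, 1), (1, 4, -1)], [(0, 3, 1)], [(0, 4, 1)], [(0, 5, 1)], [(0, 6, 1)], [(0, 7, 1)]],
    [[(0, 0, 1), (1, 3, 1)], [(0, 1, 1)], [(0, 2, 1)], [(0, 3, 1)], [(0, 4, 1)], [(0, 5, 1)], [(0, 6, 1)], [(0, 7, 1), (1, 4, -1)]],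
    [[(0, 0, 1), (1, 7, 1)], [(0, 1, 1)], [(0, 2, 1)], [(0, 3, 1), (1, 4, -1)], [(0, 4, 1)], [(0, 5, 1)], [(0, 6, 1)], [(0, 7, 1)]],
    [[(0, 0, 1), (1, 2, -1)], [(0, 1, 1)], [(0, 2, 1)], [(0, 3, 1)], [(0, 4, 1)], [(0, 5, 1)], [(0, 6, 1), (1, 4, 1)], [(0, 7, 1)]],
    [[(0, 0, 1), (1, 1, 1)], [(0, 1, 1)], [(0, 2, 1)], [(0, 3, 1)], [(0, 4, 1)], [(0, 5, 1), (1, 4, -1)], [(0, 6, 1)], [(0, 7, 1)]],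
    [[(0, 0, 1)], [(0, 1, 1), (1, 6, -1)], [(0, 2, 1), (1, 5, 1)], [(0, 3, 1)], [(0, 4, 1)], [(0, 5, 1)], [(0, 6, 1)], [(0, 7, 1)]],
    [[(0, 0, 1)], [(0, 1, 1), (1, 3, -1)], [(0, 2, 1)], [(0, 3, 1)], [(0, 4, 1)], [(0, 5, 1)], [(0, 6, 1)], [(0, 7, 1), (1, 5, 1)]],
    [[(0, 0, 1)], [(0, 1, 1), (1, 7, -1)], [(0, 2, 1)], [(0, 3, 1), (1, 5, 1)], [(0, 4, 1)], [(0, 5, 1)], [(0, 6, 1)], [(0, 7, 1)]],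
    [[(0, 0, 1)], [(0, 1, 1), (1, 2, 1)], [(0, 2, 1)], [(0, 3, 1)], [(0, 4, 1)], [(0, 5, 1)], [(0, 6, 1), (1, 5, -1)], [(0, 7, 1)]],
    [[(0, 0, 1)], [(0, 1, 1)], [(0, 2, 1), (1, 3, 1)], [(0, 3, 1)], [(0, 4, 1)], [(0, 5, 1)], [(0, 6, 1)], [(0, 7, 1), (1, 6, -1)]],
    [[(0, 0, 1)], [(0, 1, 1)], [(0, 2, 1), (1, 7, 1)], [(0, 3, 1), (1, 6, -1)], [(0, 4, 1)], [(0, 5, 1)], [(0, 6, 1)], [(0, 7, 1)]],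
    [[(0, 0, 1)], [(0, 1, 1)], [(0, 2, 1)], [(0, 3, 1)], [(0, 4, 1)], [(0, 5, 1)], [(0, 6, 1), (1, 3, -1)], [(0, 7, 1), (1, 2, 1)]],
    [[(0, 0, 1)], [(0, 1, 1)], [(0, 2, 1)], [(0, 3, 1), (1, 2, 1)], [(0, 4, 1)], [(0, 5, 1)], [(0, 6, 1), (1, 7, -1)], [(0, 7, 1)]],
    [[(0, 0, 1)], [(0, 1, 1)], [(0, 2, 1), (1, 1, 1)], [(0, 3, 1)], [(0, 4, 1)], [(0, 5, 1), (1, 6, -1)], [(0, 6, 1)], [(0, 7, 1)]],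
    [[(0, 0, 1)], [(0, 1, 1)], [(0, 2, 1)], [(0, 3, 1)], [(0, 4, 1)], [(0, 5, 1), (1, 3, 1)], [(0, 6, 1)], [(0, 7, 1), (1, 1, -1)]],
    [[(0, 0, 1)], [(0, 1, 1)], [(0, 2, 1)], [(0, 3, 1), (1, 1, -1)], [(0, 4, 1)], [(0, 5, 1), (1, 7, 1)], [(0, 6, 1)], [(0, 7, 1)]],
    [[(0, 0, 1)], [(0, 1, 1)], [(0, 2, 1)], [(0, 3, 1)], [(0, 4, 1)], [(0, 5, 1), (1, 2, 1)], [(0, 6, 1), (1, 1, -1)], [(0, 7, 1)]],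
    [[(0, 0, 1)], [(0, 1, 1), (1, 0, 1)], [(0, 2, 1)], [(0, 3, 1)], [(0, 4, 1), (1, 5, -1)], [(0, 5, 1)], [(0, 6, 1)], [(0, 7, 1)]],
    [[(0, 0, 1)], [(0, 1, 1)], [(0, 2, 1), (1, 0, -1)], [(0, 3, 1)], [(0, 4, 1), (1, 6, 1)], [(0, 5, 1)], [(0, 6, 1)], [(0, 7, 1)]],
    [[(0, 0, 1)], [(0, 1, 1)], [(0, 2, 1)], [(0, 3, 1)], [(0, 4, 1), (1, 3, -1)], [(0, 5, 1)], [(0, 6, 1)], [(0, 7, 1), (1, 0, 1)]],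
    [[(0, 0, 1)], [(0, 1, 1)], [(0, 2, 1)], [(0, 3, 1), (1, 0, 1)], [(0, 4, 1), (1, 7, -1)], [(0, 5, 1)], [(0, 6, 1)], [(0, 7, 1)]],
    [[(0, 0, 1)], [(0, 1, 1)], [(0, 2, 1)], [(0, 3, 1)], [(0, 4, 1), (1, 2, -1)], [(0, 5, 1)], [(0, 6, 1), (1, 0, 1)], [(0, 7, 1)]],
    [[(0, 0, 1)], [(0, 1, 1)], [(0, 2, 1)], [(0, 3, 1)], [(0, 4, 1), (1, 1, -1)], [(0, 5, 1), (1, 0, 1)], [(0, 6, 1)], [(0, 7, 1)]]]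

def dD4L : List (List (ℕ × ℕ)) :=
  [[(0, 1), (0, 1), (0, 0), (0, 0), (1, 0), (1, 0), (0, 0), (0, 0)],
    [(0, 1), (0, 0), (0, 1), (0, 0), (1, 0), (0, 0), (1, 0), (0, 0)],
    [(0, 1), (0, 0), (0, 0), (1, 0), (1, 0), (0, 0), (0, 0), (0, 1)],
    [(0, 1), (0, 0), (0, 0), (0, 1), (1, 0), (0, 0), (0, 0), (1, 0)],
    [(0, 1), (0, 0), (1, 0), (0, 0), (1, 0), (0, 0), (0, 1), (0, 0)],
    [(0, 1), (1, 0), (0, 0), (0, 0), (1, 0), (0, 1), (0, 0), (0, 0)],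
    [(0, 0), (0, 1), (0, 1), (0, 0), (0, 0), (1, 0), (1, 0), (0, 0)],
    [(0, 0), (0, 1), (0, 0), (1, 0), (0, 0), (1, 0), (0, 0), (0, 1)],
    [(0, 0), (0, 1), (0, 0), (0, 1), (0, 0), (1, 0), (0, 0), (1, 0)],
    [(0, 0), (0, 1), (1, 0), (0, 0), (0, 0), (1, 0), (0, 1), (0, 0)],
    [(0, 0), (0, 0), (0, 1), (1, 0), (0, 0), (0, 0), (1, 0), (0, 1)],
    [(0, 0), (0, 0), (0, 1), (0, 1), (0, 0), (0, 0), (1, 0), (1, 0)],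
    [(0, 0), (0, 0), (1, 0), (1, 0), (0, 0), (0, 0), (0, 1), (0, 1)],
    [(0, 0), (0, 0), (1, 0), (0, 1), (0, 0), (0, 0), (0, 1), (1, 0)],
    [(0, 0), (1, 0), (0, 1), (0, 0), (0, 0), (0, 1), (1, 0), (0, 0)],
    [(0, 0), (1, 0), (0, 0), (1, 0), (0, 0), (0, 1), (0, 0), (0, 1)],
    [(0, 0), (1, 0), (0, 0), (0, 1), (0, 0), (0, 1), (0, 0), (1, 0)],
    [(0, 0), (1, 0), (1, 0), (0, 0), (0, 0), (0, 1), (0, 1), (0, 0)],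
    [(1, 0), (0, 1), (0, 0), (0, 0), (0, 1), (1, 0), (0, 0), (0, 0)],
    [(1, 0), (0, 0), (0, 1), (0, 0), (0, 1), (0, 0), (1, 0), (0, 0)],
    [(1, 0), (0, 0), (0, 0), (1, 0), (0, 1), (0, 0), (0, 0), (0, 1)],
    [(1, 0), (0, 0), (0, 0), (0, 1), (0, 1), (0, 0), (0, 0), (1, 0)],
    [(1, 0), (0, 0), (1, 0), (0, 0), (0, 1), (0, 0), (0, 1), (0, 0)],
    [(1, 0), (1, 0), (0, 0), (0, 0), (0, 1), (0, 1), (0, 0), (0, 0)]]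

def colB2L : List (List (List (ℕ × ℕ × ℤ))) :=
  [[[(0, 0, 1)], [(0, 1, 1), (1, 4, 1)], [(0, 2, 1), (1, 3, -1)], [(0, 3, 1)], [(0, 4, 1)]],
    [[(0, 0, 1), (1, 3, 2)], [(0, 1, 1), (1, 0, -1), (2, 3, -1)], [(0, 2, 1)], [(0, 3, 1)], [(0, 4, 1)]],
    [[(0, 0, 1), (1, 4, 2)], [(0, 1, 1)], [(0, 2, 1), (1, 0, -1), (2, 4, -1)], [(0, 3, 1)], [(0, 4, 1)]],
    [[(0, 0, 1)], [(0, 1, 1), (1, 2, 1)], [(0, 2, 1)], [(0, 3, 1)], [(0, 4, 1), (1, 3, -1)]],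
    [[(0, 0, 1)], [(0, 1, 1)], [(0, 2, 1), (1, 1, 1)], [(0, 3, 1), (1, 4, -1)], [(0, 4, 1)]],
    [[(0, 0, 1), (1, 2, -2)], [(0, 1, 1)], [(0, 2, 1)], [(0, 3, 1)], [(0, 4, 1), (1, 0, 1), (2, 2, -1)]],
    [[(0, 0, 1), (1, 1, -2)], [(0, 1, 1)], [(0, 2, 1)], [(0, 3, 1), (1, 0, 1), (2, 1, -1)], [(0, 4, 1)]],
    [[(0, 0, 1)], [(0, 1, 1)], [(0, 2, 1)], [(0, 3, 1), (1, 2, -1)], [(0, 4, 1), (1, 1, 1)]]]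

def dB2L : List (List (ℕ × ℕ)) :=
  [[(0, 0), (0, 1), (0, 1), (1, 0), (1, 0)],
    [(0, 0), (0, 2), (0, 0), (2, 0), (0, 0)],
    [(0, 0), (0, 0), (0, 2), (0, 0), (2, 0)],
    [(0, 0), (0, 1), (1, 0), (1, 0), (0, 1)],
    [(0, 0), (1, 0), (0, 1), (0, 1), (1, 0)],
    [(0, 0), (0, 0), (2, 0), (0, 0), (0, 2)],
    [(0, 0), (2, 0), (0, 0), (0, 2), (0, 0)],
    [(0, 0), (1, 0), (1, 0), (0, 1), (0, 1)]]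

def colD4 : Col := fun r v => (colD4L.getD r []).getD v []
def colB2 : Col := fun r v => (colB2L.getD r []).getD v []

def repD4 : SRep chevD4 8 where
  col := colD4
  valid := by
    have h : ∀ r < 24, ∀ v < 8, ∀ x ∈ colD4 r v, x.2.1 < 8 := by decide +kernel
    exact h
  negOK := by decide +kernel
  inv := by decide +kernel
  add := by decide +kernel
  comm := by decide +kernel
  d := fun r v => (dD4L.getD r []).getD v (0, 0)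
  diag := by decide +kernel

def repB2 : SRep chevB2 5 where
  col := colB2
  valid := by
    have h : ∀ r < 8, ∀ v < 5, ∀ x ∈ colB2 r v, x.2.1 < 5 := by decide +kernel
    exact h
  negOK := by decide +kernel
  inv := by decide +kernel
  add := by decide +kernel
  comm := by decide +kernel
  d := fun r v => (dB2L.getD r []).getD v (0, 0)
  diag := by decide +kernel

end Cfsg.Agent.Lib.SparseRepData
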