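import Cfsg.Agent.Lib.HypSys
import Cfsg.Agent.Lib.SparseRepData
import Cfsg.Agent.Lib.QuadBridge
import Cfsg.Agent.Lib.QuadForms
import Cfsg.Agent.Lib.ChevSimple
import Cfsg.Agent.Lib.StPres
set_option autoImplicit false
set_option linter.unusedSectionVars false

/-!
`D₄(F) ≅ PΩ₈⁺(F)` and `B₂(F) ≅ PΩ₅(F)` (helper44).
-/

namespace Cfsg.Agent.Lib.ChevOrth
open QuadraticMap Module Matrix Cfsg.Lie Cfsg.Agent.Lib.ChevX Cfsg.Agent.Lib.ChevGood Cfsg.Agent.Lib.SparseRep
open Cfsg.Agent.Lib.SparseRepData Cfsg.Agent.Lib.Quad Cfsg.Agent.Lib.HypSys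

/-- the group theoretic identification -/
theorem iso_of {St G Om : Type*} [Group St] [Group G] [Group Om] [IsSimpleGroup G] (θ : St →* G)
    (hθ : Function.Surjective θ) (hk : θ.ker = Subgroup.center St) (ψ : St →* Om) (hψ : Function.Surjective ψ)
    (hnc : ∃ x y : Om, x * y ≠ y * x) : Nonempty (G ≃* Om ⧸ Subgroup.center Om) := by
  set Ψ := (QuotientGroup.mk' (Subgroup.center Om)).comp ψ with hΨd
  have hΨ : Function.Surjective Ψ := (QuotientGroup.mk'_surjective _).comp hψ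
  have h1 : Subgroup.center St ≤ Ψ.ker := by
    intro z hz
    rw [MonoidHom.mem_ker, hΨd, MonoidHom.comp_apply]
    show (QuotientGroup.mk (ψ z) : Om ⧸ Subgroup.center Om) = 1
    rw [QuotientGroup.eq_one_iff, Subgroup.mem_center_iff]
    intro y
    obtain ⟨x, rfl⟩ := hψ y
    rw [← map_mul, ← map_mul, Subgroup.mem_center_iff.1 hz x]
  have h2 : Ψ.ker ≤ θ.ker := by
    have hn : (Ψ.ker.map θ).Normal := Subgroup.Normal.map inferInstance θ hθ
    rcases hn.eq_bot_or_eq_top with h | h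
    · rwa [Subgroup.map_eq_bot_iff] at h
    · exfalso
      have h3 : Ψ.ker = ⊤ := by
        have h4 : (Ψ.ker.map θ).comap θ = ⊤ := by rw [h, Subgroup.comap_top]
        rw [Subgroup.comap_map_eq, hk, sup_eq_left.2 h1] at h4
        exact h4
      obtain ⟨x, y, hxy⟩ := hnc
      apply hxy
      obtain ⟨x, rfl⟩ := hψ x
      have h5 : x ∈ Ψ.ker := by rw [h3]; exact Subgroup.mem_top x
      rw [MonoidHom.mem_ker, hΨd, MonoidHom.comp_apply] at h5
      have h6 : ψ x ∈ Subgroup.center Om := by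
        rw [← QuotientGroup.eq_one_iff]; exact h5
      exact (Subgroup.mem_center_iff.1 h6 y).symm
  have h3 : θ.ker = Ψ.ker := le_antisymm (hk ▸ h1) h2
  exact ⟨(QuotientGroup.quotientKerEquivOfSurjective θ hθ).symm.trans
    ((QuotientGroup.quotientMulEquivOfEq h3).trans (QuotientGroup.quotientKerEquivOfSurjective Ψ hΨ))⟩

/-! ### the hyperbolic systems -/

/-- index of the basis vectors -/
def idx (m : ℕ) (p : Fin m × Bool) : Fin m ⊕ Fin m := if p.2 then .inr p.1 else .inl p.1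

theorem idx_inj {m : ℕ} {p q : Fin m × Bool} (h : idx m p = idx m q) : p = q := by
  obtain ⟨i, s⟩ := p
  obtain ⟨j, t⟩ := q
  cases s <;> cases t <;> simp_all [idx]

/-- the system of the plus form -/
def bP (m : ℕ) (F : Type*) [Field F] (p : Fin m × Bool) : Fin m ⊕ Fin m → F := Pi.single (idx m p) 1

/-- the system of the odd form -/
def bO (m : ℕ) (F : Type*) [Field F] (p : Fin m × Bool) : Unit ⊕ (Fin m ⊕ Fin m) → F := Pi.single (.inr (idx m p)) 1

/-- the anisotropic vector of the odd form -/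
def aO (m : ℕ) (F : Type*) [Field F] : Unit ⊕ (Fin m ⊕ Fin m) → F := Pi.single (.inl ()) 1

variable {F : Type*} [Field F] {m : ℕ}

theorem polar_bP (p : Fin m × Bool) (x : Fin m ⊕ Fin m → F) : polar (quadPlus m F) (bP m F p) x = x (idx m (op p)) := by
  rw [coe_quadPlus, polar_quadPlus]
  obtain ⟨i, s⟩ := p
  cases s <;> simp [bP, idx, op, Pi.single_apply, Finset.sum_add_distrib, Finset.sum_ite_eq]

theorem Q_bP (p : Fin m × Bool) : quadPlus m F (bP m F p) = 0 := by
  show Cfsg.quadFormPlus m F (bP m F p) = 0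
  obtain ⟨i, s⟩ := p
  cases s <;> simp [bP, idx, Cfsg.quadFormPlus, Pi.single_apply]

theorem hs_plus (m : ℕ) (F : Type*) [Field F] : HS (quadPlus m F) (bP m F) 0 where
  pb p q := by
    rw [polar_bP]
    unfold bP
    rw [Pi.single_apply]
    by_cases h : q = op p
    · rw [if_pos h, if_pos (by rw [h])]
    · rw [if_neg h, if_neg (fun h' => h (idx_inj h').symm)]
  qb := Q_bP
  ba p := by simp
  aniso c h := by simp
  compl x hx := by
    refine ⟨0, ?_⟩
    rw [smul_zero]
    funext j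
    rcases j with j | j
    · have := hx (j, true)
      rwa [polar_bP] at this
    · have := hx (j, false)
      rwa [polar_bP] at this

theorem polar_bO (p : Fin m × Bool) (x : Unit ⊕ (Fin m ⊕ Fin m) → F) :
    polar (quadOdd m F) (bO m F p) x = x (.inr (idx m (op p))) := by
  rw [coe_quadOdd, polar_quadOdd]
  obtain ⟨i, s⟩ := p
  cases s <;> simp [bO, idx, op, Pi.single_apply, Finset.sum_add_distrib, Finset.sum_ite_eq]

theorem Q_bO (p : Fin m × Bool) : quadOdd m F (bO m F p) = 0 := by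
  show Cfsg.quadFormOdd m F (bO m F p) = 0
  obtain ⟨i, s⟩ := p
  cases s <;> simp [bO, idx, Cfsg.quadFormOdd, Pi.single_apply]

theorem Q_aO : quadOdd m F (aO m F) = 1 := by
  show Cfsg.quadFormOdd m F (aO m F) = 1
  simp [aO, Cfsg.quadFormOdd, Pi.single_apply]

theorem polar_aO (x : Unit ⊕ (Fin m ⊕ Fin m) → F) : polar (quadOdd m F) (aO m F) x = 2 * x (.inl ()) := by
  rw [coe_quadOdd, polar_quadOdd]
  simp [aO, Pi.single_apply]

theorem hs_odd (m : ℕ) (F : Type*) [Field F] : HS (quadOdd m F) (bO m F) (aO m F) where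
  pb p q := by
    rw [polar_bO]
    unfold bO
    rw [Pi.single_apply]
    by_cases h : q = op p
    · rw [if_pos h, if_pos (by rw [h])]
    · rw [if_neg h, if_neg (fun h' => h (idx_inj (Sum.inr.inj h')).symm)]
  qb := Q_bO
  ba p := by
    rw [polar_bO]; simp [aO]
  aniso c h := by
    rw [Q_smul, Q_aO, mul_one] at h
    rw [mul_self_eq_zero.1 h, zero_smul]
  compl x hx := by
    refine ⟨x (.inl ()), ?_⟩
    funext j
    rcases j with j | j | j
    · simp [aO]
    · have := hx (j, true)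
      rw [polar_bO] at this
      simpa [aO, idx, op] using this
    · have := hx (j, false)
      rw [polar_bO] at this
      simpa [aO, idx, op] using this

/-! ### the enumerations and the tables -/

theorem encD4_aux : (∀ a b : Fin 4 ⊕ Fin 4, Sum.elim (fun i : Fin 4 => (i : ℕ)) (fun i : Fin 4 => 4 + (i : ℕ)) a =
      Sum.elim (fun i : Fin 4 => (i : ℕ)) (fun i : Fin 4 => 4 + (i : ℕ)) b → a = b) ∧
    (∀ a : Fin 4 ⊕ Fin 4, Sum.elim (fun i : Fin 4 => (i : ℕ)) (fun i : Fin 4 => 4 + (i : ℕ)) a < 8) ∧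
    (∀ v < 8, ∃ a : Fin 4 ⊕ Fin 4, Sum.elim (fun i : Fin 4 => (i : ℕ)) (fun i : Fin 4 => 4 + (i : ℕ)) a = v) := by
  decide +kernel

/-- enumeration of the coordinates for `D₄` -/
def encD4 : Enc (Fin 4 ⊕ Fin 4) 8 where
  enc := Sum.elim (fun i : Fin 4 => (i : ℕ)) (fun i : Fin 4 => 4 + (i : ℕ))
  inj := encD4_aux.1
  lt := encD4_aux.2.1
  surj := encD4_aux.2.2

/-- the coordinates for `B₂` -/
def eB2 : Unit ⊕ (Fin 2 ⊕ Fin 2) → ℕ :=
  Sum.elim (fun _ => 0) (Sum.elim (fun i : Fin 2 => 1 + (i : ℕ)) (fun i : Fin 2 => 3 + (i : ℕ)))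

theorem encB2_aux : (∀ a b, eB2 a = eB2 b → a = b) ∧ (∀ a, eB2 a < 5) ∧ (∀ v < 5, ∃ a, eB2 a = v) := by
  decide +kernel

/-- enumeration of the coordinates for `B₂` -/
def encB2 : Enc (Unit ⊕ (Fin 2 ⊕ Fin 2)) 5 where
  enc := eB2
  inj := encB2_aux.1
  lt := encB2_aux.2.1
  surj := encB2_aux.2.2

def cD (p : Fin 4 × Bool) : ℕ := encD4.enc (idx 4 p)
def cB (p : Fin 2 × Bool) : ℕ := encB2.enc (.inr (idx 2 p))

/-- table of the first vectors -/
def PD (r : ℕ) : Fin 4 × Bool :=
  ([(1, true), (2, true), (0, true), (3, true), (0, true), (0, true), (2, true), (1, true), (3, true), (1, true),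
    (2, true), (3, true), (3, false), (3, true), (2, true), (3, false), (3, true), (2, false), (1, true), (2, true),
    (3, false), (3, true), (2, false), (1, false)] : List (Fin 4 × Bool)).getD r (0, false)

/-- table of the second vectors -/
def QD (r : ℕ) : Fin 4 × Bool :=
  ([(0, true), (0, true), (3, false), (0, true), (2, false), (1, false), (1, true), (3, false), (1, true), (2, false),
    (3, false), (2, true), (2, false), (2, false), (1, false), (1, false), (1, false), (1, false), (0, false),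
    (0, false), (0, false), (0, false), (0, false), (0, false)] : List (Fin 4 × Bool)).getD r (0, false)

/-- table of the signs -/
def sD (r : ℕ) : ℤ :=
  ([-1, -1, 1, -1, -1, 1, 1, -1, 1, 1, 1, -1, 1, 1, 1, -1, -1, -1, 1, -1, 1, 1, 1, 1] : List ℤ).getD r 0

theorem tabD1 : ∀ r < 24, (QD r).1 ≠ (PD r).1 := by decide +kernel

theorem tabD2 : ∀ r < 24, ∀ s : Fin 4 × Bool, colD4 r (cD s) = (0, cD s, 1) ::
      ((if s = op (PD r) then [(1, cD (QD r), sD r)] else []) ++
        (if s = op (QD r) then [(1, cD (PD r), -sD r)] else [])) := by decide +kernel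

theorem tabD3 : ∀ r < 24, sD r = 1 ∨ sD r = -1 := by decide +kernel

theorem tabD4 : ∀ p q : Fin 4 × Bool, q.1 ≠ p.1 →
    (List.range 24).any fun r => ((PD r == p && QD r == q) || (PD r == q && QD r == p)) := by
  decide +kernel

theorem tabD4' (p q : Fin 4 × Bool) (h : q.1 ≠ p.1) : ∃ r < 24, ((PD r = p ∧ QD r = q) ∨ (PD r = q ∧ QD r = p)) := by
  have := tabD4 p q h
  rw [List.any_eq_true] at this
  obtain ⟨r, hr, h1⟩ := this
  refine ⟨r, List.mem_range.1 hr, ?_⟩
  simpa using h1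

theorem csem_cons' (τ : F) (m) (L : List (ℕ × ℕ × ℤ)) (row : ℕ) :
    csem τ (m :: L) row = ((m.2.2 : F) * τ ^ m.1) * (if row = m.2.1 then 1 else 0) + csem τ L row := by
  rw [csem_cons]; split_ifs <;> simp

theorem bP_apply (p : Fin 4 × Bool) (i : Fin 4 ⊕ Fin 4) :
    (if encD4.enc i = cD p then (1 : F) else 0) = bP 4 F p i := by
  unfold bP
  rw [Pi.single_apply]
  by_cases h : i = idx 4 p
  · rw [if_pos h, if_pos (by rw [h]; rfl)]
  · rw [if_neg h]
    exact if_neg (fun h' => h (encD4.inj _ _ h'))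

theorem X_D4 {r : ℕ} (hr : r < 24) (t : F) :
    toLE (repD4.X encD4 F r t) = sg (quadPlus 4 F) (bP 4 F (PD r)) (((sD r : F) * t) • bP 4 F (QD r)) := by
  have h1 := tabD1
  have h2 := tabD2
  have H := hs_plus 4 F
  have hz : polar (quadPlus 4 F) (bP 4 F (PD r)) (((sD r : F) * t) • bP 4 F (QD r)) = 0 := by
    rw [polar_smul_right, H.pbne (h1 r hr), smul_zero]
  apply H.ext_of
  · intro s
    rw [toLE_apply, repD4.coe_X encD4 hr, sg_apply (H.qb _) hz, H.pb, polar_smul_left, H.pb, Q_smul, H.qb]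
    have hb : bP 4 F s = Pi.single (idx 4 s) 1 := rfl
    conv_lhs => rw [hb]
    rw [Matrix.mulVec_single_one]
    funext i
    show csem t (colD4 r (cD s)) (encD4.enc i) = _
    rw [h2 r hr s]
    simp only [Pi.add_apply, Pi.sub_apply, Pi.smul_apply, smul_eq_mul]
    rw [csem_cons']
    simp only [bP_apply]
    by_cases e1 : s = op (PD r) <;> by_cases e2 : s = op (QD r)
    · rw [if_pos e1, if_pos e2, List.cons_append, csem_cons', List.nil_append, csem_cons', csem_nil]
      simp only [bP_apply]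
      push_cast
      simp only [e1.symm, e2.symm, if_true]
      ring
    · rw [if_pos e1, if_neg e2, List.append_nil, csem_cons', csem_nil]
      simp only [bP_apply]
      push_cast
      rw [if_pos e1, if_neg e2]
      ring
    · rw [if_neg e1, if_pos e2, List.nil_append, csem_cons', csem_nil]
      simp only [bP_apply]
      push_cast
      rw [if_neg e1, if_pos e2]
      ring
    · rw [if_neg e1, if_neg e2, List.nil_append, csem_nil]
      rw [if_neg e1, if_neg e2]
      push_cast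
      ring
  · rw [map_zero, map_zero]

/-- the root elements generate the commutator subgroup -/
theorem closure_D4 : ((repD4.hom encD4 F).range).map (toLE (ι := Fin 4 ⊕ Fin 4) (F := F)).toMonoidHom =
    Om (quadPlus 4 F) := by
  have H := hs_plus 4 F
  have h1 := tabD1
  have h3 := tabD3
  have h4 := tabD4'
  have hR : Om (quadPlus 4 F) = HS.R0 (quadPlus 4 F) (bP 4 F) 0 := by
    rw [H.R0_eq]
    exact le_antisymm (H.commutator_le (k := 0) (l := 1) (by decide)) (H.R_le_of_three rfl (by decide))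
  rw [hR, SRep.range_hom, MonoidHom.map_closure]
  apply le_antisymm
  · rw [Subgroup.closure_le]
    rintro _ ⟨_, ⟨r, hr, t, rfl⟩, rfl⟩
    show toLE (repD4.X encD4 F r t) ∈ _
    rw [X_D4 hr]
    exact Subgroup.subset_closure (Or.inl ⟨_, _, _, h1 r hr, rfl⟩)
  · rw [HS.R0, Subgroup.closure_le]
    rintro _ (⟨p, q, c, hqp, rfl⟩ | ⟨p, c, rfl⟩)
    · obtain ⟨r, hr, ⟨rfl, rfl⟩ | ⟨rfl, rfl⟩⟩ := h4 p q hqp
      · refine Subgroup.subset_closure ⟨_, ⟨r, hr, (sD r : F) * c, rfl⟩, ?_⟩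
        show toLE (repD4.X encD4 F r _) = _
        rw [X_D4 hr]
        have : (sD r : F) * ((sD r : F) * c) = c := by
          rcases h3 r hr with h | h <;> rw [h] <;> simp
        rw [this]
      · refine Subgroup.subset_closure ⟨_, ⟨r, hr, (sD r : F) * (-c), rfl⟩, ?_⟩
        show toLE (repD4.X encD4 F r _) = _
        rw [X_D4 hr]
        have : (sD r : F) * ((sD r : F) * (-c)) = -c := by
          rcases h3 r hr with h | h <;> rw [h] <;> simp
        have hpq : polar (quadPlus 4 F) (bP 4 F (QD r)) (bP 4 F (PD r)) = 0 := H.pbne hqp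
        have hqp' : polar (quadPlus 4 F) (bP 4 F (PD r)) (bP 4 F (QD r)) = 0 := by rw [polar_comm]; exact hpq
        rw [this, sg_swap (z := bP 4 F (QD r)) (H.qb _) (by rw [Q_smul, H.qb, mul_zero])
          (by rw [polar_smul_right, hpq, smul_zero]),
          sg_smul_left (H.qb _) (by rw [polar_neg_right, hqp', neg_zero]), smul_neg, neg_smul]
    · rw [smul_zero, sg_zero]; exact one_mem _

/-- lifting to the commutator subgroup -/
theorem exists_psi {ι : Type} [Fintype ι] [DecidableEq ι] {Q : QuadraticForm F (ι → F)} {St : Type*} [Group St]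
    (φ : St →* GL ι F) (h : φ.range.map (toLE (ι := ι) (F := F)).toMonoidHom = Om Q) :
    ∃ ψ : St →* ↥(Cfsg.Omega F ⇑Q), Function.Surjective ψ := by
  have h1 : ∀ x, toLE (φ x) ∈ Om Q := by
    intro x
    rw [← h]
    exact ⟨φ x, ⟨x, rfl⟩, rfl⟩
  have h2 : ∀ x, φ x ∈ Cfsg.isometryGroup F ⇑Q := by
    intro x
    rw [mem_isometryGroup_iff_toLE]
    exact Om_le (h1 x)
  refine ⟨(φ.codRestrict _ h2).codRestrict _ (fun x => ?_), ?_⟩
  · rw [mem_Omega_iff]
    exact h1 x
  · rintro ⟨g, hg⟩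
    have h3 := (mem_Omega_iff g).1 hg
    rw [← h] at h3
    obtain ⟨_, ⟨x, rfl⟩, hx⟩ := h3
    refine ⟨x, Subtype.ext (Subtype.ext ?_)⟩
    exact toLE.injective hx

theorem noncomm_Omega {ι : Type} [Fintype ι] [DecidableEq ι] {Q : QuadraticForm F (ι → F)}
    (h : ∃ g ∈ Om Q, ∃ g' ∈ Om Q, g * g' ≠ g' * g) : ∃ x y : ↥(Cfsg.Omega F ⇑Q), x * y ≠ y * x := by
  obtain ⟨g, hg, g', hg', h⟩ := h
  refine ⟨⟨ofO (Om_le hg), (ofO_mem_Omega _).2 hg⟩, ⟨ofO (Om_le hg'), (ofO_mem_Omega _).2 hg'⟩, fun h' => h ?_⟩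
  have h1 := congrArg (fun w : ↥(Cfsg.Omega F ⇑Q) => toLE ((w : ↥(Cfsg.isometryGroup F ⇑Q)) : GL ι F)) h'
  simp only [Subgroup.coe_mul, map_mul] at h1
  rw [toLE_ofO, toLE_ofO] at h1
  exact h1

section
variable {V : Type*} [AddCommGroup V] [Module F V] {Q : QuadraticForm F V} {I : Type} [DecidableEq I]
  {b : I × Bool → V} {a : V}

theorem bne (H : HS Q b a) (p : I × Bool) : b p ≠ 0 := by
  intro h1
  have h2 := H.pbo p
  rw [h1] at h2
  simp at h2

theorem noncomm3 (H : HS Q b a) (hR : R Q b ≤ ⁅O Q, O Q⁆) {p q s : I × Bool} (h1 : q.1 ≠ p.1) (h2 : s.1 ≠ p.1)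
    (h3 : s.1 ≠ q.1) : ∃ g ∈ Om Q, ∃ g' ∈ Om Q, g * g' ≠ g' * g := by
  have c1 : polar Q (b (op s)) (b q) = 0 := H.pbne h3.symm
  have d1 : polar Q (b p) (b s) = 0 := H.pbne h2
  have d2 : polar Q (b p) (b q) = 0 := H.pbne h1
  have hg : sg Q (b (op s)) (b q) ∈ O Q := sg_mem
  refine ⟨sg Q (b (op s)) (b q), hR (HS.mem_R c1 (by rw [op_op]; exact H.pbne h3.symm)), sg Q (b p) (b s),
    hR (HS.mem_R d1 (H.pbne (p := op p) h2)), fun h => ?_⟩
  have g1 : sg Q (b (op s)) (b q) (b s) = b s + b q := by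
    rw [sg_apply (H.qb _) c1, H.pob, H.pbne h3, H.qb]
    simp
  have g2 : sg Q (b (op s)) (b q) (b p) = b p := by
    rw [sg_apply (H.qb _) c1, H.pbne (p := op s) (q := p) h2.symm, H.pbne h1.symm, H.qb]
    simp
  have h5 := sg_conj hg (b p) (b s)
  rw [h, mul_inv_cancel_right, g1, g2, add_comm, sg_add (H.qb p) d2 d1] at h5
  have h6 : sg Q (b p) (b q) = 1 := (mul_eq_right.1 h5.symm)
  have h7 := congrArg (fun w : V ≃ₗ[F] V => w (b (op p))) h6
  simp only [sg_apply (H.qb p) d2, H.pbo, H.qb, H.pbne (p := q) (q := op p) h1.symm] at h7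
  apply bne H q
  simpa using h7

theorem noncomma (H : HS Q b a) (hR : R Q b ≤ ⁅O Q, O Q⁆) {p q : I × Bool} (h1 : q.1 ≠ p.1) (ha : Q a ≠ 0) :
    ∃ g ∈ Om Q, ∃ g' ∈ Om Q, g * g' ≠ g' * g := by
  have c1 : polar Q (b (op p)) (b q) = 0 := H.pbne h1
  have hg : sg Q (b (op p)) (b q) ∈ O Q := sg_mem
  refine ⟨sg Q (b (op p)) (b q), hR (HS.mem_R c1 (by rw [op_op]; exact H.pbne h1)), sg Q (b p) a,
    hR (HS.mem_R (H.ba _) (H.ba _)), fun h => ?_⟩
  have g1 : sg Q (b (op p)) (b q) (b p) = b p + b q := by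
    rw [sg_apply (H.qb _) c1, H.pob, H.pbne h1.symm, H.qb]
    simp
  have g2 : sg Q (b (op p)) (b q) a = a := by
    rw [sg_apply (H.qb _) c1, H.ba, H.ba, H.qb]
    simp
  have h5 := sg_conj hg (b p) a
  rw [h, mul_inv_cancel_right, g1, g2] at h5
  have e1 : Q (b p + b q) = 0 := by rw [Q_add, H.qb, H.qb, H.pbne h1]; ring
  have e2 : polar Q (b p + b q) a = 0 := by rw [polar_add_left, H.ba, H.ba, add_zero]
  have h7 := congrArg (fun w : V ≃ₗ[F] V => polar Q (b (op q)) (w (b (op q)))) h5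
  simp only [sg_apply (H.qb p) (H.ba p), sg_apply e1 e2, polar_add_left, polar_sub_right, polar_add_right,
    polar_smul_right, H.pbo, H.pob, H.ba, H.pab, H.pbb, H.pbne (p := p) (q := op q) h1,
    H.pbne (p := op q) (q := p) h1.symm] at h7
  apply ha
  simpa using h7
end

/-- `D₄(F) ≅ PΩ₈⁺(F)` -/
theorem d4 (F : Type*) [Field F] : Nonempty (↥(chevD4.group F) ≃* Cfsg.POmega F (Cfsg.quadFormPlus 4 F)) := by
  have hD : chevD4 ∈ [chevG2, chevB2, chevD4, chevF4, chevE6, chevE7, chevE8] := by simp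
  obtain ⟨hs, -⟩ := ChevSimple.simple (F := F) hD (by
    intro h
    rcases h with h | h
    · exact absurd (congrArg ChevalleyDatum.nroots h) (by decide)
    · exact absurd (congrArg ChevalleyDatum.nroots h) (by decide))
  obtain ⟨θ, h1, h2, -⟩ := Cfsg.Agent.Lib.StPres.ker_eq_center (K := F) hD
  obtain ⟨ψ, h3⟩ := exists_psi (Q := quadPlus 4 F) (repD4.hom encD4 F) closure_D4
  have H := hs_plus 4 F
  exact iso_of θ h1 h2 ψ h3 (noncomm_Omega (noncomm3 H (H.R_le_of_three rfl (by decide)) (p := (0, false))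
    (q := (1, false)) (s := (2, false)) (by decide) (by decide) (by decide)))

/-! ### type `B₂` -/

/-- table of the first vectors -/
def PB (r : ℕ) : Fin 2 × Bool :=
  ([(1, true), (0, true), (1, true), (0, true), (1, true), (1, false), (0, false), (1, false)] :
    List (Fin 2 × Bool)).getD r (0, false)

/-- table of the second vectors (long roots) -/
def QB (r : ℕ) : Fin 2 × Bool :=
  ([(0, true), (0, true), (0, true), (1, false), (0, false), (0, false), (0, false), (0, false)] :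
    List (Fin 2 × Bool)).getD r (0, false)

/-- table of the signs -/
def sB (r : ℕ) : ℤ := ([-1, -1, -1, 1, 1, 1, 1, 1] : List ℤ).getD r 0

theorem tabB1 : ∀ r ∈ [0, 3, 4, 7], (QB r).1 ≠ (PB r).1 := by decide +kernel

theorem tabB2 : ∀ r ∈ [0, 3, 4, 7], ∀ s : Fin 2 × Bool, colB2 r (cB s) = (0, cB s, 1) ::
      ((if s = op (PB r) then [(1, cB (QB r), sB r)] else []) ++
        (if s = op (QB r) then [(1, cB (PB r), -sB r)] else [])) := by decide +kernel

theorem tabB2' : ∀ r ∈ [0, 3, 4, 7], colB2 r 0 = [(0, 0, 1)] := by decide +kernel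

theorem tabB3 : ∀ r < 8, sB r = 1 ∨ sB r = -1 := by decide +kernel

theorem tabB4 : ∀ p q : Fin 2 × Bool, q.1 ≠ p.1 →
    [0, 3, 4, 7].any fun r => ((PB r == p && QB r == q) || (PB r == q && QB r == p)) := by
  decide +kernel

theorem tabB4' (p q : Fin 2 × Bool) (h : q.1 ≠ p.1) :
    ∃ r ∈ [0, 3, 4, 7], ((PB r = p ∧ QB r = q) ∨ (PB r = q ∧ QB r = p)) := by
  have := tabB4 p q h
  rw [List.any_eq_true] at this
  obtain ⟨r, hr, h1⟩ := this
  refine ⟨r, hr, ?_⟩
  simpa using h1

theorem tabB5 : ∀ r ∈ [1, 2, 5, 6], ∀ s : Fin 2 × Bool, colB2 r (cB s) = (0, cB s, 1) ::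
      (if s = op (PB r) then [(1, 0, sB r), (2, cB (PB r), -1)] else []) := by decide +kernel

theorem tabB5' : ∀ r ∈ [1, 2, 5, 6], colB2 r 0 = [(0, 0, 1), (1, cB (PB r), -(2 * sB r))] := by decide +kernel

theorem tabB6 : ∀ p : Fin 2 × Bool, [1, 2, 5, 6].any fun r => (PB r == p) := by decide +kernel

theorem tabB6' (p : Fin 2 × Bool) : ∃ r ∈ [1, 2, 5, 6], PB r = p := by
  have := tabB6 p
  rw [List.any_eq_true] at this
  obtain ⟨r, hr, h1⟩ := this
  refine ⟨r, hr, ?_⟩
  simpa using h1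

theorem lt8 {r : ℕ} (hr : r ∈ [0, 3, 4, 7] ∨ r ∈ [1, 2, 5, 6]) : r < 8 := by
  simp only [List.mem_cons, List.not_mem_nil, or_false] at hr
  omega

theorem cases8 {r : ℕ} (hr : r < 8) : r ∈ [0, 3, 4, 7] ∨ r ∈ [1, 2, 5, 6] := by
  simp only [List.mem_cons, List.not_mem_nil, or_false]
  omega

theorem bO_apply (p : Fin 2 × Bool) (i : Unit ⊕ (Fin 2 ⊕ Fin 2)) :
    (if encB2.enc i = cB p then (1 : F) else 0) = bO 2 F p i := by
  unfold bO
  rw [Pi.single_apply]
  by_cases h : i = .inr (idx 2 p)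
  · rw [if_pos h, if_pos (by rw [h]; rfl)]
  · rw [if_neg h]
    exact if_neg (fun h' => h (encB2.inj _ _ h'))

theorem aO_apply (i : Unit ⊕ (Fin 2 ⊕ Fin 2)) : (if encB2.enc i = 0 then (1 : F) else 0) = aO 2 F i := by
  unfold aO
  rw [Pi.single_apply]
  by_cases h : i = .inl ()
  · rw [if_pos h, if_pos (by rw [h]; rfl)]
  · rw [if_neg h]
    refine if_neg (fun h' => h (encB2.inj _ _ ?_))
    rw [h']; rfl

theorem X_B2_long {r : ℕ} (hr : r ∈ [0, 3, 4, 7]) (t : F) :
    toLE (repB2.X encB2 F r t) = sg (quadOdd 2 F) (bO 2 F (PB r)) (((sB r : F) * t) • bO 2 F (QB r)) := by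
  have h1 := tabB1
  have h2 := tabB2
  have H := hs_odd 2 F
  have hz : polar (quadOdd 2 F) (bO 2 F (PB r)) (((sB r : F) * t) • bO 2 F (QB r)) = 0 := by
    rw [polar_smul_right, H.pbne (h1 r hr), smul_zero]
  apply H.ext_of
  · intro s
    rw [toLE_apply, repB2.coe_X encB2 (lt8 (Or.inl hr)), sg_apply (H.qb _) hz, H.pb, polar_smul_left, H.pb, Q_smul,
      H.qb]
    have hb : bO 2 F s = Pi.single (.inr (idx 2 s)) 1 := rfl
    conv_lhs => rw [hb]
    rw [Matrix.mulVec_single_one]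
    funext i
    show csem t (colB2 r (cB s)) (encB2.enc i) = _
    rw [h2 r hr s]
    simp only [Pi.add_apply, Pi.sub_apply, Pi.smul_apply, smul_eq_mul]
    rw [csem_cons']
    simp only [bO_apply]
    by_cases e1 : s = op (PB r) <;> by_cases e2 : s = op (QB r)
    · rw [if_pos e1, if_pos e2, List.cons_append, csem_cons', List.nil_append, csem_cons', csem_nil]
      simp only [bO_apply]
      push_cast
      simp only [e1.symm, e2.symm, if_true]
      ring
    · rw [if_pos e1, if_neg e2, List.append_nil, csem_cons', csem_nil]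
      simp only [bO_apply]
      push_cast
      rw [if_pos e1, if_neg e2]
      ring
    · rw [if_neg e1, if_pos e2, List.nil_append, csem_cons', csem_nil]
      simp only [bO_apply]
      push_cast
      rw [if_neg e1, if_pos e2]
      ring
    · rw [if_neg e1, if_neg e2, List.nil_append, csem_nil]
      rw [if_neg e1, if_neg e2]
      push_cast
      ring
  · rw [toLE_apply, repB2.coe_X encB2 (lt8 (Or.inl hr)), sg_apply (H.qb _) hz, H.ba, polar_smul_left, H.ba]
    have hb : aO 2 F = Pi.single (.inl ()) 1 := rfl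
    conv_lhs => rw [hb]
    rw [Matrix.mulVec_single_one]
    funext i
    show csem t (colB2 r 0) (encB2.enc i) = _
    rw [tabB2' r hr, csem_cons', csem_nil]
    simp only [aO_apply]
    simp

theorem X_B2_short {r : ℕ} (hr : r ∈ [1, 2, 5, 6]) (t : F) :
    toLE (repB2.X encB2 F r t) = sg (quadOdd 2 F) (bO 2 F (PB r)) (((sB r : F) * t) • aO 2 F) := by
  have h2 := tabB5
  have H := hs_odd 2 F
  have hz : polar (quadOdd 2 F) (bO 2 F (PB r)) (((sB r : F) * t) • aO 2 F) = 0 := by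
    rw [polar_smul_right, H.ba, smul_zero]
  have hsq : (sB r : F) * (sB r : F) = 1 := by
    rcases tabB3 r (lt8 (Or.inr hr)) with h | h <;> rw [h] <;> simp
  apply H.ext_of
  · intro s
    rw [toLE_apply, repB2.coe_X encB2 (lt8 (Or.inr hr)), sg_apply (H.qb _) hz, H.pb, polar_smul_left, H.pab, Q_smul,
      Q_aO]
    have hb : bO 2 F s = Pi.single (.inr (idx 2 s)) 1 := rfl
    conv_lhs => rw [hb]
    rw [Matrix.mulVec_single_one]
    funext i
    show csem t (colB2 r (cB s)) (encB2.enc i) = _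
    rw [h2 r hr s]
    simp only [Pi.add_apply, Pi.sub_apply, Pi.smul_apply, smul_eq_mul]
    rw [csem_cons']
    simp only [bO_apply]
    by_cases e1 : s = op (PB r)
    · rw [if_pos e1, csem_cons', csem_cons', csem_nil]
      simp only [bO_apply, aO_apply]
      push_cast
      rw [if_pos e1]
      linear_combination (t ^ 2 * bO 2 F (PB r) i) * hsq
    · rw [if_neg e1, csem_nil, if_neg e1]
      push_cast
      ring
  · rw [toLE_apply, repB2.coe_X encB2 (lt8 (Or.inr hr)), sg_apply (H.qb _) hz, H.ba, polar_smul_left, polar_aO]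
    have hb : aO 2 F = Pi.single (.inl ()) 1 := rfl
    conv_lhs => rw [hb]
    rw [Matrix.mulVec_single_one]
    funext i
    show csem t (colB2 r 0) (encB2.enc i) = _
    have ha : aO 2 F (Sum.inl ()) = 1 := by simp [aO]
    rw [tabB5' r hr, csem_cons', csem_cons', csem_nil, ha]
    simp only [aO_apply, bO_apply, Pi.add_apply, Pi.sub_apply, Pi.smul_apply, smul_eq_mul]
    push_cast
    ring

/-- the root elements generate the commutator subgroup -/
theorem closure_B2 (hF : ∃ c : F, c ≠ 0 ∧ c ≠ 1) :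
    ((repB2.hom encB2 F).range).map (toLE (ι := Unit ⊕ (Fin 2 ⊕ Fin 2)) (F := F)).toMonoidHom = Om (quadOdd 2 F) := by
  have H := hs_odd 2 F
  have h1 := tabB1
  have h3 := tabB3
  have h4 := tabB4'
  have hR : Om (quadOdd 2 F) = HS.R0 (quadOdd 2 F) (bO 2 F) (aO 2 F) := by
    rw [H.R0_eq]
    exact le_antisymm (H.commutator_le (k := 0) (l := 1) (by decide)) (H.R_le_of_field hF)
  rw [hR, SRep.range_hom, MonoidHom.map_closure]
  apply le_antisymm
  · rw [Subgroup.closure_le]
    rintro _ ⟨_, ⟨r, hr, t, rfl⟩, rfl⟩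
    show toLE (repB2.X encB2 F r t) ∈ _
    rcases cases8 hr with hr | hr
    · rw [X_B2_long hr]
      exact Subgroup.subset_closure (Or.inl ⟨_, _, _, h1 r hr, rfl⟩)
    · rw [X_B2_short hr]
      exact Subgroup.subset_closure (Or.inr ⟨_, _, rfl⟩)
  · rw [HS.R0, Subgroup.closure_le]
    rintro _ (⟨p, q, c, hqp, rfl⟩ | ⟨p, c, rfl⟩)
    · obtain ⟨r, hr, ⟨rfl, rfl⟩ | ⟨rfl, rfl⟩⟩ := h4 p q hqp
      · refine Subgroup.subset_closure ⟨_, ⟨r, lt8 (Or.inl hr), (sB r : F) * c, rfl⟩, ?_⟩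
        show toLE (repB2.X encB2 F r _) = _
        rw [X_B2_long hr]
        have : (sB r : F) * ((sB r : F) * c) = c := by
          rcases h3 r (lt8 (Or.inl hr)) with h | h <;> rw [h] <;> simp
        rw [this]
      · refine Subgroup.subset_closure ⟨_, ⟨r, lt8 (Or.inl hr), (sB r : F) * (-c), rfl⟩, ?_⟩
        show toLE (repB2.X encB2 F r _) = _
        rw [X_B2_long hr]
        have : (sB r : F) * ((sB r : F) * (-c)) = -c := by
          rcases h3 r (lt8 (Or.inl hr)) with h | h <;> rw [h] <;> simp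
        have hpq : polar (quadOdd 2 F) (bO 2 F (QB r)) (bO 2 F (PB r)) = 0 := H.pbne hqp
        have hqp' : polar (quadOdd 2 F) (bO 2 F (PB r)) (bO 2 F (QB r)) = 0 := by rw [polar_comm]; exact hpq
        rw [this, sg_swap (z := bO 2 F (QB r)) (H.qb _) (by rw [Q_smul, H.qb, mul_zero])
          (by rw [polar_smul_right, hpq, smul_zero]),
          sg_smul_left (H.qb _) (by rw [polar_neg_right, hqp', neg_zero]), smul_neg, neg_smul]
    · obtain ⟨r, hr, rfl⟩ := tabB6' p
      refine Subgroup.subset_closure ⟨_, ⟨r, lt8 (Or.inr hr), (sB r : F) * c, rfl⟩, ?_⟩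
      show toLE (repB2.X encB2 F r _) = _
      rw [X_B2_short hr]
      have : (sB r : F) * ((sB r : F) * c) = c := by
        rcases h3 r (lt8 (Or.inr hr)) with h | h <;> rw [h] <;> simp
      rw [this]

/-- `B₂(F) ≅ PΩ₅(F)` if `F` has more than two elements -/
theorem b2 {F : Type*} [Field F] (hF : ∃ a : F, a ≠ 0 ∧ a ≠ 1) :
    Nonempty (↥(chevB2.group F) ≃* Cfsg.POmega F (Cfsg.quadFormOdd 2 F)) := by
  have hD : chevB2 ∈ [chevG2, chevB2, chevD4, chevF4, chevE6, chevE7, chevE8] := by simp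
  obtain ⟨hs, -⟩ := ChevSimple.simple (F := F) hD (fun _ => hF)
  obtain ⟨θ, h1, h2, -⟩ := Cfsg.Agent.Lib.StPres.ker_eq_center (K := F) hD
  obtain ⟨ψ, h3⟩ := exists_psi (Q := quadOdd 2 F) (repB2.hom encB2 F) (closure_B2 hF)
  have H := hs_odd 2 F
  exact iso_of θ h1 h2 ψ h3 (noncomm_Omega (noncomma H (H.R_le_of_field hF) (p := (0, false))
    (q := (1, false)) (by decide) (by rw [Q_aO]; exact one_ne_zero)))

end Cfsg.Agent.Lib.ChevOrth
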