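import Cfsg.Agent.Lib.ChevOutStr
import Cfsg.Prelude.Def_LieTwisted
set_option autoImplicit false

/-!
The orders of the outer automorphism groups of `G₂(q)` and `F₄(q)`, given the exceptional graph automorphisms.
-/

namespace Cfsg.Agent.Lib.ChevStd
open Cfsg.Lie Cfsg.Agent.Lib.ChevX Cfsg.Agent.Lib.ChevGood Cfsg.Agent.Lib.ChevRel Cfsg.Agent.Lib.ChevLev
open Cfsg.Agent.Lib.ChevU Cfsg.Agent.Lib.ChevH Cfsg.Agent.Lib.ChevN Cfsg.Agent.Lib.ChevBN Cfsg.Agent.Lib.ChevChar
open Cfsg.Agent.Lib.ChevDiagrams Cfsg.Agent.Lib.ChevGraph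
open scoped MatrixGroups Matrix

variable {F : Type*} [Field F]

/-- the graph automorphism of `G₂` in characteristic 3 -/
def GraphG2 (F : Type*) [Field F] : Prop :=
    ∃ α : ↥(Cfsg.Lie.chevG2.group F) ≃* ↥(Cfsg.Lie.chevG2.group F), ∀ (g : ↥(Cfsg.Lie.chevG2.group F)) (t : F),
      (((g : GL Cfsg.Lie.chevG2.Idx F) : Matrix _ _ F) = Cfsg.Lie.chevG2.x F Cfsg.Lie.g2a t →
        ((α g : GL Cfsg.Lie.chevG2.Idx F) : Matrix _ _ F) = Cfsg.Lie.chevG2.x F Cfsg.Lie.g2b (t ^ 3)) ∧
      (((g : GL Cfsg.Lie.chevG2.Idx F) : Matrix _ _ F) = Cfsg.Lie.chevG2.x F Cfsg.Lie.g2b t →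
        ((α g : GL Cfsg.Lie.chevG2.Idx F) : Matrix _ _ F) = Cfsg.Lie.chevG2.x F Cfsg.Lie.g2a t) ∧
      (((g : GL Cfsg.Lie.chevG2.Idx F) : Matrix _ _ F) = Cfsg.Lie.chevG2.x F Cfsg.Lie.g2ma t →
        ((α g : GL Cfsg.Lie.chevG2.Idx F) : Matrix _ _ F) = Cfsg.Lie.chevG2.x F Cfsg.Lie.g2mb (t ^ 3)) ∧
      (((g : GL Cfsg.Lie.chevG2.Idx F) : Matrix _ _ F) = Cfsg.Lie.chevG2.x F Cfsg.Lie.g2mb t →
        ((α g : GL Cfsg.Lie.chevG2.Idx F) : Matrix _ _ F) = Cfsg.Lie.chevG2.x F Cfsg.Lie.g2ma t)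

/-- the graph automorphism of `F₄` in characteristic 2 -/
def GraphF4 (K : Type*) [Field K] : Prop :=
    ∃ α : ↥(chevF4.group K) ≃* ↥(chevF4.group K), ∀ (g : ↥(chevF4.group K)) (i : ℕ) (t : K), i < chevF4.rank →
      (((g : GL chevF4.Idx K) : Matrix chevF4.Idx chevF4.Idx K) = chevF4.x K (chevF4.simple i) t →
        ((α g : GL chevF4.Idx K) : Matrix chevF4.Idx chevF4.Idx K) =
          chevF4.x K (chevF4.simple (([(3, 2), (2, 2), (1, 1), (0, 1)] : List (ℕ × ℕ)).getD i (0, 1)).1)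
            (t ^ (([(3, 2), (2, 2), (1, 1), (0, 1)] : List (ℕ × ℕ)).getD i (0, 1)).2)) ∧
      (((g : GL chevF4.Idx K) : Matrix chevF4.Idx chevF4.Idx K) = chevF4.x K (chevF4.neg (chevF4.simple i)) t →
        ((α g : GL chevF4.Idx K) : Matrix chevF4.Idx chevF4.Idx K) =
          chevF4.x K (chevF4.neg (chevF4.simple (([(3, 2), (2, 2), (1, 1), (0, 1)] : List (ℕ × ℕ)).getD i (0, 1)).1))
            (t ^ (([(3, 2), (2, 2), (1, 1), (0, 1)] : List (ℕ × ℕ)).getD i (0, 1)).2))

theorem sG2 : g2a = chevG2.simple 0 ∧ g2b = chevG2.simple 1 ∧ g2ma = chevG2.neg (chevG2.simple 0) ∧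
    g2mb = chevG2.neg (chevG2.simple 1) := by decide +kernel

theorem perfect_of_finite [Finite F] (p : ℕ) [Fact p.Prime] [CharP F p] : ∀ x : F, ∃ y : F, y ^ p = x := by
  intro x
  have hi : Function.Injective (frobenius F p) := frobenius_inj F p
  obtain ⟨y, hy⟩ := (Finite.injective_iff_surjective.mp hi) x
  exact ⟨y, by rw [← hy, frobenius_def]⟩

theorem nrm_G2 [Finite F] [CharP F 3] (G : Good chevG2) (h : GraphG2 F) :
    ∃ (α : MulAut ↥(chevG2.group F)) (f : Fin chevG2.rank → F ≃+* F), Nrm G α sw2 f := by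
  have : Fact (Nat.Prime 3) := ⟨Nat.prime_three⟩
  obtain ⟨α, hα⟩ := h
  obtain ⟨s0, s1, s2, s3⟩ := sG2
  have hp : Function.Bijective (frobenius F 3) :=
    ⟨frobenius_inj F 3, Finite.injective_iff_surjective.mp (frobenius_inj F 3)⟩
  let fr : F ≃+* F := RingEquiv.ofBijective (frobenius F 3) hp
  have hfr : ∀ t, fr t = t ^ 3 := fun t => rfl
  refine ⟨α, fun i => if i.val = 0 then fr else RingEquiv.refl F, ⟨fun i t => ?_, fun i t => ?_⟩⟩
  · rcases fin2 i with rfl | rfl
    · apply Subtype.ext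
      apply Units.ext
      have h1 := (hα (X G (chevG2.simple (0 : Fin 2)) t) t).1 (by rw [s0]; exact coe_xg G _ _)
      rw [h1, s1]; exact (coe_xg G (chevG2.simple 1) (t ^ 3)).symm
    · apply Subtype.ext
      apply Units.ext
      have h1 := (hα (X G (chevG2.simple (1 : Fin 2)) t) t).2.1 (by rw [s1]; exact coe_xg G _ _)
      rw [h1, s0]; exact (coe_xg G (chevG2.simple 0) t).symm
  · rcases fin2 i with rfl | rfl
    · apply Subtype.ext
      apply Units.ext
      have h1 := (hα (X G (chevG2.neg (chevG2.simple (0 : Fin 2))) t) t).2.2.1 (by rw [s2]; exact coe_xg G _ _)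
      rw [h1, s3]; exact (coe_xg G (chevG2.neg (chevG2.simple 1)) (t ^ 3)).symm
    · apply Subtype.ext
      apply Units.ext
      have h1 := (hα (X G (chevG2.neg (chevG2.simple (1 : Fin 2))) t) t).2.2.2 (by rw [s3]; exact coe_xg G _ _)
      rw [h1, s2]; exact (coe_xg G (chevG2.neg (chevG2.simple 0)) t).symm

theorem nrm_F4 [Finite F] [CharP F 2] (G : Good chevF4) (h : GraphF4 F) :
    ∃ (α : MulAut ↥(chevF4.group F)) (f : Fin chevF4.rank → F ≃+* F), Nrm G α flip4 f := by
  obtain ⟨α, hα⟩ := h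
  have hp : Function.Bijective (frobenius F 2) :=
    ⟨frobenius_inj F 2, Finite.injective_iff_surjective.mp (frobenius_inj F 2)⟩
  let fr : F ≃+* F := RingEquiv.ofBijective (frobenius F 2) hp
  have hfr : ∀ t, fr t = t ^ 2 := fun t => rfl
  refine ⟨α, fun i => if i.val < 2 then fr else RingEquiv.refl F,
    ⟨fun i t => ?_, fun i t => ?_⟩⟩
  · rcases fin4 i with rfl | rfl | rfl | rfl
    · apply Subtype.ext
      apply Units.ext
      have h1 := (hα (X G (chevF4.simple (0 : Fin 4)) t) 0 t (by decide)).1 (coe_xg G _ _)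
      rw [h1]; exact (coe_xg G (chevF4.simple 3) (t ^ 2)).symm
    · apply Subtype.ext
      apply Units.ext
      have h1 := (hα (X G (chevF4.simple (1 : Fin 4)) t) 1 t (by decide)).1 (coe_xg G _ _)
      rw [h1]; exact (coe_xg G (chevF4.simple 2) (t ^ 2)).symm
    · apply Subtype.ext
      apply Units.ext
      have h1 := (hα (X G (chevF4.simple (2 : Fin 4)) t) 2 t (by decide)).1 (coe_xg G _ _)
      rw [h1]; exact ((coe_xg G (chevF4.simple 1) t).trans (congrArg _ (pow_one t).symm)).symm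
    · apply Subtype.ext
      apply Units.ext
      have h1 := (hα (X G (chevF4.simple (3 : Fin 4)) t) 3 t (by decide)).1 (coe_xg G _ _)
      rw [h1]; exact ((coe_xg G (chevF4.simple 0) t).trans (congrArg _ (pow_one t).symm)).symm
  · rcases fin4 i with rfl | rfl | rfl | rfl
    · apply Subtype.ext
      apply Units.ext
      have h1 := (hα (X G (chevF4.neg (chevF4.simple (0 : Fin 4))) t) 0 t (by decide)).2 (coe_xg G _ _)
      rw [h1]; exact (coe_xg G (chevF4.neg (chevF4.simple 3)) (t ^ 2)).symm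
    · apply Subtype.ext
      apply Units.ext
      have h1 := (hα (X G (chevF4.neg (chevF4.simple (1 : Fin 4))) t) 1 t (by decide)).2 (coe_xg G _ _)
      rw [h1]; exact (coe_xg G (chevF4.neg (chevF4.simple 2)) (t ^ 2)).symm
    · apply Subtype.ext
      apply Units.ext
      have h1 := (hα (X G (chevF4.neg (chevF4.simple (2 : Fin 4))) t) 2 t (by decide)).2 (coe_xg G _ _)
      rw [h1]; exact ((coe_xg G (chevF4.neg (chevF4.simple 1)) t).trans (congrArg _ (pow_one t).symm)).symm
    · apply Subtype.ext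
      apply Units.ext
      have h1 := (hα (X G (chevF4.neg (chevF4.simple (3 : Fin 4))) t) 3 t (by decide)).2 (coe_xg G _ _)
      rw [h1]; exact ((coe_xg G (chevF4.neg (chevF4.simple 0)) t).trans (congrArg _ (pow_one t).symm)).symm

theorem out_G2 [Fintype F] {p f : ℕ} [Fact p.Prime] [CharP F p] (hF : Fintype.card F = p ^ f) (hq : 3 ≤ p ^ f)
    (hg : p = 3 → GraphG2 F) :
    Nat.card (Cfsg.Out ↥(chevG2.group F)) = (if p = 3 then 2 * f else f) := by
  have G := ChevOkG2.good
  have h1 := ChevHOrder.card_diagonal (F := F) rfl (chevG2, 1) (by simp)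
  rw [card_out_eq G ChevSimple.connG2 aG2 h1 hF]
  split_ifs with hp
  · subst hp
    obtain ⟨α, fs, h⟩ := nrm_G2 G (hg rfl)
    have h2 : Nat.card (P G F).range = 2 := by
      have hne : (sw2 : Equiv.Perm (Fin 2)) ≠ 1 := by decide
      refine card_two (a := sw2) hne fun ρ => ⟨fun _ => perm2 ρ, ?_⟩
      rintro (rfl | rfl)
      · exact one_mem _
      · exact (mem_range_P G).mpr ⟨α, _, h⟩
    rw [h2]; ring
  · have h2 : (P G F).range = ⊥ := by
      rw [eq_bot_iff]
      intro ρ hρ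
      obtain ⟨θ, fs, h⟩ := (mem_range_P G).mp hρ
      rcases perm2 ρ with rfl | rfl
      · exact Subgroup.mem_bot.mpr rfl
      · exfalso
        have h3 : ∀ t, fs (0 : Fin 2) t = (fs (1 : Fin 2) t) ^ 3 :=
          Nrm.flip_rel G h (i := (0 : Fin 2)) (j := (1 : Fin 2)) three_ne_zero (by decide +kernel) (by decide +kernel)
        have hr : ringChar F = p := (ringChar.eq_iff).mpr inferInstance
        rcases ringChar_three_of h3 with h4 | ⟨h4, h5⟩
        · exact hp (hr ▸ h4)
        · have h6 : ∀ t : F, t = 0 ∨ t = 1 := by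
            intro t
            have h7 : t * (t - 1) = 0 := by linear_combination h5 t
            rcases mul_eq_zero.mp h7 with h8 | h8
            · exact Or.inl h8
            · exact Or.inr (sub_eq_zero.mp h8)
          have h7 : Fintype.card F ≤ 2 := by
            classical
            have : (Finset.univ : Finset F) ⊆ {0, 1} := by
              intro t _
              rcases h6 t with h | h <;> simp [h]
            calc Fintype.card F = (Finset.univ : Finset F).card := rfl
              _ ≤ ({0, 1} : Finset F).card := Finset.card_le_card this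
              _ ≤ 2 := Finset.card_le_two
          omega
    rw [h2, Subgroup.card_bot]; ring

theorem out_F4 [Fintype F] {p f : ℕ} [Fact p.Prime] [CharP F p] (hF : Fintype.card F = p ^ f)
    (hg : p = 2 → GraphF4 F) : Nat.card (Cfsg.Out ↥(chevF4.group F)) = Nat.gcd 2 p * f := by
  have G := ChevOkF4.good
  have h1 := ChevHOrder.card_diagonal (F := F) rfl (chevF4, 1) (by simp)
  rw [card_out_eq G ChevSimple.connF4 aF4 h1 hF]
  by_cases hp : p = 2
  · subst hp
    obtain ⟨α, fs, h⟩ := nrm_F4 G (hg rfl)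
    have h2 : Nat.card (P G F).range = 2 := by
      have hne : (flip4 : Equiv.Perm (Fin 4)) ≠ 1 := by decide
      refine card_two (a := flip4) hne fun ρ => ⟨fun hρ => ?_, ?_⟩
      · obtain ⟨θ, f, h⟩ := (mem_range_P G).mp hρ
        exact permF4 ρ fun i j hij => Nrm.adj G h hij
      · rintro (rfl | rfl)
        · exact one_mem _
        · exact (mem_range_P G).mpr ⟨α, _, h⟩
    rw [h2, Nat.gcd_self]; ring
  · have h2 : (P G F).range = ⊥ := by
      rw [eq_bot_iff]
      intro ρ hρ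
      obtain ⟨θ, fs, h⟩ := (mem_range_P G).mp hρ
      rcases permF4 ρ (fun i j hij => Nrm.adj G h hij) with rfl | rfl
      · exact Subgroup.mem_bot.mpr rfl
      · exfalso
        have h3 : ∀ t, fs (1 : Fin 4) t = (fs (2 : Fin 4) t) ^ 2 :=
          Nrm.flip_rel G h (i := (1 : Fin 4)) (j := (2 : Fin 4)) two_ne_zero (by decide +kernel) (by decide +kernel)
        have hr : ringChar F = p := (ringChar.eq_iff).mpr inferInstance
        exact hp (hr ▸ ringChar_two_of h3)
    have h3 : Nat.gcd 2 p = 1 := (Nat.coprime_primes Nat.prime_two Fact.out).mpr (Ne.symm hp)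
    rw [h2, Subgroup.card_bot, h3]; ring

end Cfsg.Agent.Lib.ChevStd
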