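import Cfsg.Agent.Lib.ChevFix
import Cfsg.Agent.Lib.ChevSimple
set_option autoImplicit false
set_option linter.unusedSectionVars false

/-!
Subfield subgroups of Chevalley groups: centralizers and normalizers (helper44).
-/

namespace Cfsg.Agent.Lib.ChevSub
open Cfsg.Lie Cfsg.Agent.Lib.ChevX Cfsg.Agent.Lib.ChevGood Cfsg.Agent.Lib.ChevRel Cfsg.Agent.Lib.ChevNPerm
  Cfsg.Agent.Lib.ChevClosed Cfsg.Agent.Lib.ChevBruhat Cfsg.Agent.Lib.ChevFix
open scoped MatrixGroups Matrix

variable {D : ChevalleyDatum} {F : Type*} [Field F]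

section
variable (G : Good D)
include G

theorem ht_pos {r : Fin D.nroots} (hr : Pos D r) : 1 ≤ ht G r := by
  obtain ⟨j, hj, hne⟩ := G.rv_ne_zero r r.2
  have h1 : 0 < ht G r := by
    unfold ht
    apply Finset.sum_pos'
    · intro i _
      exact G.rv_nonneg r r.2 hr i
    · exact ⟨j, Finset.mem_range.mpr hj, lt_of_le_of_ne (G.rv_nonneg r r.2 hr j) (Ne.symm hne)⟩
  omega

theorem ht_simpF (i : Fin D.rank) : ht G (simpF G i) = 1 := by
  unfold ht
  rw [Finset.sum_congr rfl fun j _ => rv_simpF G i j, Finset.sum_ite_eq' _ (i : ℕ) (fun _ => (1 : ℤ)),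
    if_pos (Finset.mem_range.2 i.2)]

theorem commTerms_ht {r s : Fin D.nroots} (hr : Pos D r) (hs : Pos D s) (hrs : s ≠ r)
    {c : ℕ × ℤ × ℕ × ℕ} (hc : c ∈ D.commTerms r s) : 2 ≤ ht G c.1 := by
  have hneg : (s : ℕ) ≠ D.neg r := by
    intro h
    have h1 : s = negF G r := Fin.ext h
    rw [h1, pos_negF] at hs
    exact hs hr
  obtain ⟨hlt, hi, hj, hrv⟩ := commTerms_root G r.2 s.2 (fun hh => hrs (Fin.ext hh)) hneg hc
  have h1 : ht G c.1 = c.2.2.1 * ht G r + c.2.2.2 * ht G s := by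
    unfold ht
    rw [Finset.mul_sum, Finset.mul_sum, ← Finset.sum_add_distrib]
    exact Finset.sum_congr rfl fun j _ => by rw [hrv j]
  have h2 := ht_pos G hr
  have h3 := ht_pos G hs
  have h4 : (1 : ℤ) ≤ c.2.2.1 := by exact_mod_cast hi
  have h5 : (1 : ℤ) ≤ c.2.2.2 := by exact_mod_cast hj
  rw [h1]; nlinarith

/-- the positive roots different from a fundamental root -/
def Bi (i : Fin D.rank) : Set (Fin D.nroots) := {r | Pos D r ∧ r ≠ simpF G i}

theorem comm_Bi (i : Fin D.rank) {r s : Fin D.nroots} (hr : Pos D r) (hs : Pos D s) (hrs : s ≠ r) :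
    CommIn F r s (Bi G i) := by
  intro c hc _ k hk
  have h1 := commTerms_gt G hr hs hrs hc
  have h2 := commTerms_ht G hr hs hrs hc
  refine ⟨by unfold Pos; omega, ?_⟩
  rintro rfl
  rw [← hk, ht_simpF] at h2
  omega

theorem closed_Bi (i : Fin D.rank) : Closed F (Bi G i) :=
  ⟨fun _ hr => hr.1, fun _ hr _ hs hne => comm_Bi G i hr.1 hs.1 hne⟩

theorem conj_Bi (i : Fin D.rank) {u b : GL D.Idx F} (hu : u ∈ D.posUnipotent F) (hb : b ∈ XS D F (Bi G i)) :
    u * b * u⁻¹ ∈ XS D F (Bi G i) := by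
  rw [← XS_posS G] at hu
  have h : XS D F (posS D) ≤ Subgroup.normalizer (XS D F (Bi G i) : Set (GL D.Idx F)) := by
    apply XS_le
    intro r hr t
    have key : ∀ (t : F) (b : GL D.Idx F), b ∈ XS D F (Bi G i) → xg D F r t * b * (xg D F r t)⁻¹ ∈ XS D F (Bi G i) := by
      intro t b hb
      by_cases h1 : r = simpF G i
      · subst h1
        exact conj_mem_XS G (fun s hs => ⟨hs.2, ne_negF G hr hs.1, comm_Bi G i hr hs.1 hs.2⟩) t hb
      · have h2 : xg D F r t ∈ XS D F (Bi G i) := xg_mem_XS (A := Bi G i) ⟨hr, h1⟩ t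
        exact mul_mem (mul_mem h2 hb) (inv_mem h2)
    rw [Subgroup.mem_normalizer_iff]
    intro b
    refine ⟨key t b, fun h => ?_⟩
    have := key (-t) _ h
    rw [xg_neg G] at this
    rwa [show (xg D F r t)⁻¹ * (xg D F r t * b * (xg D F r t)⁻¹) * (xg D F r t)⁻¹⁻¹ = b by group] at this
  exact (Subgroup.mem_normalizer_iff.1 (h hu) b).1 hb

variable (hD : Listed D)
include hD

theorem simp_Bi (i : Fin D.rank) {a : F} (h : xg D F (simpF G i) a ∈ XS D F (Bi G i)) : a = 0 := by
  have h1 : Closed F ({simpF G i} : Set (Fin D.nroots)) := by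
    refine ⟨fun r hr => ?_, fun r hr s hs hne => ?_⟩
    · rw [Set.mem_singleton_iff] at hr; subst hr; exact pos_simpF G i
    · rw [Set.mem_singleton_iff] at hr hs
      exact absurd (hs.trans hr.symm) hne
  have h3 := XS_inf G hD h1 (closed_Bi G i) (xg_mem_XS (Set.mem_singleton (simpF G i)) a) h
  have h4 : (({simpF G i} : Set (Fin D.nroots)) ∩ Bi G i) = ∅ := by
    ext r
    simp only [Set.mem_inter_iff, Set.mem_singleton_iff, Set.mem_empty_iff_false, iff_false]
    rintro ⟨rfl, h6⟩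
    exact h6.2 rfl
  rw [h4] at h3
  have h5 : XS D F (∅ : Set (Fin D.nroots)) = ⊥ := by
    unfold XS; simp
  rw [h5, Subgroup.mem_bot, ← xg_zero G (simpF G i)] at h3
  exact ChevRel.xg_inj G (simpF G i).2 h3

/-- an element whose conjugates of the fundamental root elements `x_{p_i}(1)` lie in `U` lies in the Borel subgroup -/
theorem mem_borel_of_conj {g : GL D.Idx F} (hg' : g ∈ D.group F)
    (h : ∀ i : Fin D.rank, ∃ a : F, a ≠ 0 ∧ g * xg D F (simpF G i) a * g⁻¹ ∈ D.posUnipotent F) : g ∈ D.borelSubgroup F := by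
  obtain ⟨u, hu, n, hn, w, hw, u', hu', rfl⟩ := exists_bruhat G hD hg'
  have hu'' : u' ∈ D.posUnipotent F := by
    rw [← XS_posS G]
    exact XS_mono (fun r hr => hr.1) hu'
  have hpos : ∀ i, Pos D (w (simpF G i)) := by
    intro i
    by_contra hneg
    obtain ⟨a, ha, hx⟩ := h i
    -- `y = u' x u'⁻¹`
    have hy : u' * xg D F (simpF G i) a * u'⁻¹ ∈ XS D F (posS D) := by
      rw [XS_posS G]
      refine mul_mem (mul_mem hu'' ?_) (inv_mem hu'')
      rw [← XS_posS G]
      exact xg_mem_XS (A := posS D) (pos_simpF G i) _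
    have hny : n * (u' * xg D F (simpF G i) a * u'⁻¹) * n⁻¹ ∈ D.posUnipotent F := by
      have := mul_mem (mul_mem (inv_mem hu) hx) hu
      have h1 : u⁻¹ * (u * n * u' * xg D F (simpF G i) a * (u * n * u')⁻¹) * u =
        n * (u' * xg D F (simpF G i) a * u'⁻¹) * n⁻¹ := by group
      rwa [h1] at this
    obtain ⟨y1, hy1, y2, hy2, hye⟩ := exists_factor' G (closed_posS G) {r | Pos D (w r)} hy
    have h2 : n * y2 * n⁻¹ = 1 := by
      apply inf_BV G hD
      · apply borel_U G
        have h3 : n * y2 * n⁻¹ = (n * y1 * n⁻¹)⁻¹ * (n * (u' * xg D F (simpF G i) a * u'⁻¹) * n⁻¹) := by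
          rw [hye]; group
        rw [h3]
        exact mul_mem (inv_mem (conj_pos_mem G hw (XS_mono Set.inter_subset_right hy1))) hny
      · exact conj_neg_mem G hw (XS_mono (fun r hr => hr.2) hy2)
    have h3 : y2 = 1 := by
      have := congrArg (fun z => n⁻¹ * z * n) h2
      simpa [mul_assoc] using this
    rw [h3, mul_one] at hye
    have h4 : y1 ∈ XS D F (Bi G i) := by
      refine XS_mono ?_ hy1
      rintro r ⟨h5, h6⟩
      refine ⟨h5, ?_⟩
      rintro rfl
      exact hneg h6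
    have h5 := conj_Bi G i (inv_mem hu'') h4
    rw [← hye, inv_inv] at h5
    have h6 : u'⁻¹ * (u' * xg D F (simpF G i) a * u'⁻¹) * u' = xg D F (simpF G i) a := by group
    rw [h6] at h5
    exact ha (simp_Bi G hD i h5)
  have hnH := mem_diag_of_pos G hn hw hpos
  exact mul_mem (mul_mem (borel_U G hu) (borel_H G hnH)) (borel_U G hu'')

/-- the root elements `x_r(1)` generate a subgroup with trivial centralizer -/
theorem eq_one_of_comm {g : GL D.Idx F} (hg' : g ∈ D.group F)
    (h : ∀ r < D.nroots, g * xg D F r 1 * g⁻¹ = xg D F r 1) : g = 1 := by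
  have hU : ∀ r : Fin D.nroots, Pos D r → xg D F r 1 ∈ D.posUnipotent F := by
    intro r hr
    rw [← XS_posS G]
    exact xg_mem_XS (A := posS D) hr _
  have hB : g ∈ D.borelSubgroup F := by
    apply mem_borel_of_conj G hD hg'
    intro i
    refine ⟨1, one_ne_zero, ?_⟩
    rw [h _ (simpF G i).2]
    exact hU _ (pos_simpF G i)
  -- conjugate by the longest element
  obtain ⟨w, hw, hwn⟩ := ChevN.exists_longest G
  obtain ⟨n, hn, hnU⟩ := ChevN.exists_conj_U_eq_V (F := F) G
  obtain ⟨l, a, ha, rfl⟩ := exists_nl G hn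
  have hc : ∀ l : List (Fin D.rank), g * nl D F l * g⁻¹ = nl D F l := by
    intro l
    induction l with
    | nil => simp [nl]
    | cons i l ih =>
      rw [nl_cons G]
      have h1 : g * (nn D F i * nl D F l) * g⁻¹ = (g * nn D F i * g⁻¹) * (g * nl D F l * g⁻¹) := by group
      rw [h1, ih]
      congr 1
      unfold nn ng
      have h2 := h _ (G.simple_lt i i.2)
      have h3 := h _ (neg_lt G (G.simple_lt i i.2))
      have h4 : ∀ s, g * xg D F s 1 * g⁻¹ = xg D F s 1 → g * xg D F s (-1) * g⁻¹ = xg D F s (-1) := by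
        intro s hs
        rw [xg_neg G, show g * (xg D F s 1)⁻¹ * g⁻¹ = (g * xg D F s 1 * g⁻¹)⁻¹ by group, hs]
      have h5 : g * (xg D F (D.simple i) 1 * xg D F (D.neg (D.simple i)) (-1⁻¹) * xg D F (D.simple i) 1) * g⁻¹ =
        (g * xg D F (D.simple i) 1 * g⁻¹) * (g * xg D F (D.neg (D.simple i)) (-1⁻¹) * g⁻¹) * (g * xg D F (D.simple i) 1 * g⁻¹) := by
        group
      rw [h5, h2, inv_one, h4 _ h3]
  obtain ⟨u, hu, k, hk, rfl⟩ := mem_borel G hB
  have h1 : u * k ∈ D.negUnipotent F ⊔ D.diagonalSubgroup F := by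
    have h2 := hc l
    have h3 : u * k = (nl D F l * a) * (a⁻¹ * (u * k) * a) * (nl D F l * a)⁻¹ := by
      have h4 : (nl D F l * a) * (a⁻¹ * (u * k) * a) * (nl D F l * a)⁻¹ = nl D F l * (u * k) * (nl D F l)⁻¹ := by group
      rw [h4]
      have h5 : nl D F l * (u * k) = u * k * nl D F l := by
        have := congrArg (fun z => z * (u * k)) h2
        rw [← (this : _ = nl D F l * (u * k))]; group
      rw [h5]; group
    rw [h3]
    have h6 : a⁻¹ * (u * k) * a = (a⁻¹ * u * a) * (a⁻¹ * k * a) := by group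
    have h7 : (nl D F l * a) * ((a⁻¹ * u * a) * (a⁻¹ * k * a)) * (nl D F l * a)⁻¹ =
      ((nl D F l * a) * (a⁻¹ * u * a) * (nl D F l * a)⁻¹) * ((nl D F l * a) * (a⁻¹ * k * a) * (nl D F l * a)⁻¹) := by group
    rw [h6, h7]
    refine mul_mem (Subgroup.mem_sup_left ?_) (Subgroup.mem_sup_right ?_)
    · rw [← hnU]
      refine ⟨a⁻¹ * u * a, ?_, rfl⟩
      rw [SetLike.mem_coe, ← XS_posS G] at *
      have := diag_conj_XS G (inv_mem ha) hu
      rwa [inv_inv] at this
    · refine (Subgroup.mem_normalizer_iff.mp (ChevN.N_le_normalizer_H G hn) _).mp ?_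
      exact mul_mem (mul_mem (inv_mem ha) hk) ha
  have hH : u * k ∈ D.diagonalSubgroup F := by
    rw [← ChevH.B_inf_VH G]
    exact ⟨hB, h1⟩
  exact ChevSimple.H_eq_one_of_comm G hH h

theorem inf_centralizer {K : Subgroup (GL D.Idx F)} (hL : ∀ r < D.nroots, xg D F r 1 ∈ K) :
    D.group F ⊓ Subgroup.centralizer (K : Set (GL D.Idx F)) = ⊥ := by
  rw [eq_bot_iff]
  rintro g ⟨hg, hc⟩
  rw [Subgroup.mem_bot]
  apply eq_one_of_comm G hD hg
  intro r hr
  have := Subgroup.mem_centralizer_iff.1 hc _ (hL r hr)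
  rw [← this, mul_inv_cancel_right]

theorem mem_normalizer_iff_fixed (σ : F ≃+* F) {K : Subgroup (GL D.Idx F)} (hKG : K ≤ D.group F)
    (hL : ∀ r < D.nroots, ∀ t : F, σ t = t → xg D F r t ∈ K) (hfix : ∀ g ∈ K, em D (σ : F →+* F) g = g)
    {g : GL D.Idx F} (hg' : g ∈ D.group F) :
    g ∈ Subgroup.normalizer (K : Set (GL D.Idx F)) ↔ em D (σ : F →+* F) g = g := by
  constructor
  · intro hn
    have h1 : g * (em D (σ : F →+* F) g)⁻¹ ∈ D.group F ⊓ Subgroup.centralizer (K : Set (GL D.Idx F)) := by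
      refine Subgroup.mem_inf.2 ⟨mul_mem hg' (inv_mem (em_group G _ hg')), ?_⟩
      rw [Subgroup.mem_centralizer_iff]
      intro x hx
      have h2 : g⁻¹ * x * g ∈ K := by
        have := (Subgroup.mem_normalizer_iff.1 (inv_mem hn) x).1 hx
        rwa [inv_inv] at this
      have h3 := hfix _ h2
      rw [map_mul, map_mul, map_inv, hfix x hx] at h3
      have h4 := congrArg (fun z => g * z * (em D (σ : F →+* F) g)⁻¹) h3
      simp only [mul_assoc, mul_inv_cancel, mul_one, mul_inv_cancel_left] at h4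
      rw [mul_assoc]
      exact h4.symm
    rw [inf_centralizer G hD (fun r hr => hL r hr 1 (map_one σ)), Subgroup.mem_bot, mul_inv_eq_one] at h1
    exact h1.symm
  · intro h
    let F₀ := (σ : F →+* F).eqLocusField (RingHom.id F)
    have hF₀ : ∀ x : F, x ∈ F₀ ↔ σ x = x := fun x => Iff.rfl
    -- the decomposition of fixed elements
    have hdec : ∀ g ∈ D.group F, em D (σ : F →+* F) g = g → ∃ l : GL D.Idx F,
        (∀ M : Subgroup (GL D.Idx F), (∀ r < D.nroots, ∀ t : F, σ t = t → xg D F r t ∈ M) → l ∈ M) ∧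
        ∃ a ∈ D.diagonalSubgroup F, em D (σ : F →+* F) a = a ∧ g = l * a := by
      intro g hg' h
      obtain ⟨g0, hg0, a, ha, hfa, rfl⟩ := fixed_group G hD σ F₀.subtype (fun x hx => ⟨⟨x, hx⟩, rfl⟩) hg' h
      refine ⟨em D F₀.subtype g0, ?_, a, ha, hfa, rfl⟩
      intro M hM
      have : D.group F₀ ≤ M.comap (em D F₀.subtype) := by
        rw [ChevAuto.group_eq G, Subgroup.closure_le]
        rintro _ ⟨r, hr, t, rfl⟩
        rw [SetLike.mem_coe, Subgroup.mem_comap, em_xg G]
        exact hM r hr _ t.2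
      exact this hg0
    obtain ⟨l, hl, a, ha, hfa, rfl⟩ := hdec g hg' h
    -- the subgroup generated by the root elements over the fixed field
    let L : Subgroup (GL D.Idx F) := Subgroup.closure {g | ∃ r < D.nroots, ∃ t : F, σ t = t ∧ g = xg D F r t}
    have hLK : L ≤ K := by
      rw [Subgroup.closure_le]
      rintro _ ⟨r, hr, t, ht, rfl⟩
      exact hL r hr t ht
    have hmemL : ∀ r < D.nroots, ∀ t : F, σ t = t → xg D F r t ∈ L :=
      fun r hr t ht => Subgroup.subset_closure ⟨r, hr, t, ht, rfl⟩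
    have hHL : ∀ a ∈ D.diagonalSubgroup F, em D (σ : F →+* F) a = a → ∀ x ∈ L, a * x * a⁻¹ ∈ L := by
      intro a ha hfa
      obtain ⟨-, c, hc, -, hc2⟩ := mono_diag G ha
      have hσc : ∀ s, σ (c s) = c s := by
        intro s
        have h1 := hc2 s 1
        have h2 := congrArg (em D (σ : F →+* F)) h1
        rw [map_mul, map_mul, map_inv, hfa, em_xg G, em_xg G, map_one, h1, mul_one, RingHom.coe_coe] at h2
        exact (ChevRel.xg_inj G (Fin.isLt _) h2).symm
      intro x hx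
      induction hx using Subgroup.closure_induction with
      | mem x hx =>
        obtain ⟨r, hr, t, ht, rfl⟩ := hx
        rw [hc2 ⟨r, hr⟩ t]
        exact hmemL _ (Fin.isLt _) _ (by rw [map_mul, hσc, ht])
      | one => simp
      | mul x y _ _ hx hy =>
        rw [show a * (x * y) * a⁻¹ = (a * x * a⁻¹) * (a * y * a⁻¹) by group]
        exact mul_mem hx hy
      | inv x _ hx =>
        rw [show a * x⁻¹ * a⁻¹ = (a * x * a⁻¹)⁻¹ by group]
        exact inv_mem hx
    have hHK : ∀ a ∈ D.diagonalSubgroup F, em D (σ : F →+* F) a = a → ∀ x ∈ K, a * x * a⁻¹ ∈ K := by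
      intro a ha hfa x hx
      obtain ⟨m, hm, b, hb, hfb, rfl⟩ := hdec x (hKG hx) (hfix x hx)
      have hmL : m ∈ L := hm L hmemL
      have h1 : a * (m * b) * a⁻¹ = (a * m * a⁻¹) * m⁻¹ * (m * b) := by
        have h2 : a * b * a⁻¹ = b := by rw [ChevH.diag_comm G ha hb, mul_inv_cancel_right]
        calc a * (m * b) * a⁻¹ = (a * m * a⁻¹) * (a * b * a⁻¹) := by group
          _ = _ := by rw [h2]; group
      rw [h1]
      exact mul_mem (mul_mem (hLK (hHL a ha hfa m hmL)) (inv_mem (hLK hmL))) hx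
    have haN : a ∈ Subgroup.normalizer (K : Set (GL D.Idx F)) := by
      rw [Subgroup.mem_normalizer_iff]
      intro x
      refine ⟨hHK a ha hfa x, fun h => ?_⟩
      have := hHK a⁻¹ (inv_mem ha) (by rw [map_inv, hfa]) _ h
      rwa [inv_inv, show a⁻¹ * (a * x * a⁻¹) * a = x by group] at this
    exact mul_mem (Subgroup.le_normalizer (hLK (hl L hmemL))) haN

end

end Cfsg.Agent.Lib.ChevSub
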