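import Cfsg.Agent.Lib.ChevSyl2
import Cfsg.Agent.Lib.ChevOkE6

set_option autoImplicit false
set_option maxRecDepth 1000000

/-! Certificates of homocyclic Sylow subgroups of type E6 (machine generated, helper40). -/

namespace Cfsg.Agent.Lib.ChevSylE6
open Cfsg.Lie Cfsg.Agent.Lib.ChevTorus Cfsg.Agent.Lib.ChevTab Cfsg.Agent.Lib.ChevSyl

def s1 : SC where
  d := 1
  a := 6
  l := []
  ws := [56, 46, 42, 39, 37, 36]
  M := [[[0], [1], [0], [0], [0], [0]], [[0], [0], [0], [0], [1], [0]], [[1], [0], [0], [0], [0], [0]], [[0], [0], [0], [0], [0], [1]], [[0], [0], [0], [1], [0], [0]], [[0], [0], [1], [0], [0], [0]]]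
  b := [[0, 1, 0, 0, 0, 0], [0, 0, 0, 0, 1, 0], [1, 0, 0, 0, 0, 0], [0, 0, 0, 0, 0, 1], [0, 0, 0, 1, 0, 0], [0, 0, 1, 0, 0, 0]]

theorem s1_ok : SC.ok chevE6 ChevDataE6.A (rvT ChevDataE6.A) s1 = true := by decide +kernel

def s2 : SC where
  d := 2
  a := 4
  l := [4, 3, 2, 1, 3, 4, 3, 2, 1, 3, 2, 1]
  ws := [67, 25, 29, 32, 34, 55]
  M := [[[1], [-1], [-1], [0], [1], [0]], [[1], [0], [0], [-1], [0], [1]], [[0], [-2], [0], [1], [0], [0]], [[0], [1], [-1], [1], [-1], [0]]]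
  b := [[5, 1, 3, 2, 0, -3], [-4, -1, -3, -2, 0, 3], [-3, -1, -2, -1, 0, 2], [-1, 0, -1, 0, 0, 1]]

theorem s2_ok : SC.ok chevE6 ChevDataE6.A (rvT ChevDataE6.A) s2 = true := by decide +kernel

def s3 : SC where
  d := 3
  a := 3
  l := [4, 5, 1, 3, 4, 2, 3, 0, 2, 1, 3, 4, 5, 2, 1, 3, 4, 3, 0, 2, 1, 3, 0, 2]
  ws := [44, 60, 4, 30, 54, 19]
  M := [[[0, 0], [0, 0], [0, -1], [-1, 0], [1, 1], [0, 0]], [[0, 0], [1, 0], [0, 1], [0, 0], [0, -1], [0, 1]], [[0, 1], [0, 0], [0, -1], [0, 0], [-1, 0], [1, 0]]]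
  b := [[0, 0, 0, -1, 0, 0], [0, 1, 0, 0, 0, 0], [-1, 0, -1, -1, -1, 0]]

theorem s3_ok : SC.ok chevE6 ChevDataE6.A (rvT ChevDataE6.A) s3 = true := by decide +kernel

def s4 : SC where
  d := 4
  a := 2
  l := [4, 3, 2, 1, 3, 2]
  ws := [62, 42, 25, 27, 53, 38]
  M := [[[-1, 0], [0, -2], [2, 0], [-1, 1], [0, 0], [0, 0]], [[0, 0], [1, 1], [-1, 1], [1, -1], [-1, -1], [0, 1]]]
  b := [[-1, 0, 0, 0, 0, 0], [-2, 0, -1, 0, 0, 1]]

theorem s4_ok : SC.ok chevE6 ChevDataE6.A (rvT ChevDataE6.A) s4 = true := by decide +kernel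

def s5 : SC where
  d := 5
  a := 1
  l := [5, 3, 4, 1]
  ws := [56, 24, 43, 49, 30, 40]
  M := [[[0, 0, 0, 0], [0, -1, 1, 0], [0, -1, -1, 0], [0, 1, 0, -1], [-1, 0, 0, 1], [2, 1, 1, 1]]]
  b := [[0, -2, -3, -4, -3, -1]]

theorem s5_ok : SC.ok chevE6 ChevDataE6.A (rvT ChevDataE6.A) s5 = true := by decide +kernel

def s6 : SC where
  d := 6
  a := 2
  l := [1, 3, 4, 5, 3, 4, 0, 2, 1, 3, 0, 2]
  ws := [41, 63, 16, 15, 64, 24]
  M := [[[0, 0], [0, -1], [1, 0], [0, 0], [-1, 0], [1, 0]], [[1, 0], [1, -1], [-1, 0], [-1, 1], [1, 0], [0, 0]]]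
  b := [[1, 0, 1, 0, 0, 0], [1, 0, 0, 0, 0, 0]]

theorem s6_ok : SC.ok chevE6 ChevDataE6.A (rvT ChevDataE6.A) s6 = true := by decide +kernel

def s8 : SC where
  d := 8
  a := 1
  l := [4, 0, 2, 3, 1]
  ws := [42, 9, 40, 46, 58, 38]
  M := [[[0, -1, 2, -1], [1, -1, 0, 0], [1, 0, -1, 2], [-1, 0, 0, -1], [-1, 1, 0, 0], [1, 0, 0, 0]]]
  b := [[-2, 2, -4, -6, 0, -3]]

theorem s8_ok : SC.ok chevE6 ChevDataE6.A (rvT ChevDataE6.A) s8 = true := by decide +kernel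

def s9 : SC where
  d := 9
  a := 1
  l := [5, 1, 3, 4, 0, 2, 3, 2]
  ws := [52, 65, 33, 10, 57, 48]
  M := [[[0, 1, 0, 0, 1, -1], [1, 1, 0, 1, 0, 0], [0, -1, 0, 0, 0, 1], [-1, 0, 0, -1, 0, 0], [0, 0, 0, 1, 0, 0], [1, 0, 1, 0, 0, 0]]]
  b := [[0, 0, 0, -1, -1, 0]]

theorem s9_ok : SC.ok chevE6 ChevDataE6.A (rvT ChevDataE6.A) s9 = true := by decide +kernel

def s12 : SC where
  d := 12
  a := 1
  l := [4, 5, 1, 3, 0, 2]
  ws := [51, 40, 9, 57, 49, 33]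
  M := [[[0, 0, -1, 0], [-1, 0, 0, -1], [0, 1, 1, 0], [1, 0, 0, 0], [0, -1, -1, 0], [0, 1, 0, 0]]]
  b := [[0, 0, 0, 1, 0, 0]]

theorem s12_ok : SC.ok chevE6 ChevDataE6.A (rvT ChevDataE6.A) s12 = true := by decide +kernel

def Cs : List SC := [s1, s2, s3, s4, s5, s6, s8, s9, s12]

theorem Cs_ok : ∀ C ∈ Cs, SC.ok chevE6 ChevDataE6.A (rvT ChevDataE6.A) C = true := by
  intro C hC
  simp only [Cs, List.mem_cons, List.not_mem_nil, or_false] at hC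
  rcases hC with rfl | rfl | rfl | rfl | rfl | rfl | rfl | rfl | rfl
  · exact s1_ok
  · exact s2_ok
  · exact s3_ok
  · exact s4_ok
  · exact s5_ok
  · exact s6_ok
  · exact s8_ok
  · exact s9_ok
  · exact s12_ok

theorem cov : ∀ e ∈ ([2, 5, 6, 8, 9, 12] : List ℕ), ∀ d ∈ e.divisors, ∃ C ∈ Cs, C.d = d ∧ C.a = (([2, 5, 6, 8, 9, 12] : List ℕ).filter fun e => d ∣ e).length := by
  decide +kernel

theorem hW : ∀ i < chevE6.rank, ∀ s < chevE6.nroots, chevE6.reflectRoot i s = wT ChevDataE6.A i s :=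
  fun i hi _ hs => (c3_facts ChevOkE6.c1 ChevOkE6.c2 hi hs (ChevOkE6.c3 i hi)).refl
theorem hR : ChevOkE6.good.rv = rvT ChevDataE6.A := rfl

end Cfsg.Agent.Lib.ChevSylE6
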