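import Cfsg.Agent.Lib.ChevSyl2
import Cfsg.Agent.Lib.ChevOkE7

set_option autoImplicit false
set_option maxRecDepth 1000000

/-! Certificates of homocyclic Sylow subgroups of type E7 (machine generated, helper40). -/

namespace Cfsg.Agent.Lib.ChevSylE7
open Cfsg.Lie Cfsg.Agent.Lib.ChevTorus Cfsg.Agent.Lib.ChevTab Cfsg.Agent.Lib.ChevSyl

def s1 : SC where
  d := 1
  a := 7
  l := []
  ws := [93, 78, 73, 69, 66, 64, 63]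
  M := [[[0], [1], [0], [0], [0], [0], [0]], [[0], [0], [0], [0], [1], [0], [0]], [[1], [0], [0], [0], [0], [0], [0]], [[0], [0], [1], [0], [0], [0], [0]], [[0], [0], [0], [0], [0], [1], [0]], [[0], [0], [0], [0], [0], [0], [1]], [[0], [0], [0], [1], [0], [0], [0]]]
  b := [[0, 1, 0, 0, 0, 0, 0], [0, 0, 0, 0, 1, 0, 0], [1, 0, 0, 0, 0, 0, 0], [0, 0, 1, 0, 0, 0, 0], [0, 0, 0, 0, 0, 1, 0], [0, 0, 0, 0, 0, 0, 1], [0, 0, 0, 1, 0, 0, 0]]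

theorem s1_ok : SC.ok chevE7 ChevDataE7.A (rvT ChevDataE7.A) s1 = true := by decide +kernel

def s2 : SC where
  d := 2
  a := 7
  l := [6, 5, 4, 3, 2, 1, 3, 4, 5, 6, 0, 2, 3, 4, 5, 1, 3, 4, 2, 3, 0, 2, 1, 3, 4, 5, 6, 0, 2, 3, 4, 5, 1, 3, 4, 2, 3, 0, 2, 1, 3, 4, 5, 1, 3, 4, 2, 3, 0, 2, 1, 3, 4, 2, 3, 0, 2, 1, 3, 0, 2, 1, 0]
  ws := [32, 47, 52, 56, 59, 61, 62]
  M := [[[0], [1], [0], [0], [0], [0], [0]], [[0], [0], [0], [0], [1], [0], [0]], [[1], [0], [0], [0], [0], [0], [0]], [[0], [0], [1], [0], [0], [0], [0]], [[0], [0], [0], [0], [0], [1], [0]], [[0], [0], [0], [0], [0], [0], [1]], [[0], [0], [0], [1], [0], [0], [0]]]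
  b := [[0, 1, 0, 0, 0, 0, 0], [0, 0, 0, 0, 1, 0, 0], [1, 0, 0, 0, 0, 0, 0], [0, 0, 1, 0, 0, 0, 0], [0, 0, 0, 0, 0, 1, 0], [0, 0, 0, 0, 0, 0, 1], [0, 0, 0, 1, 0, 0, 0]]

theorem s2_ok : SC.ok chevE7 ChevDataE7.A (rvT ChevDataE7.A) s2 = true := by decide +kernel

def s3 : SC where
  d := 3
  a := 3
  l := [5, 3, 4, 2, 3, 0, 2, 1, 3, 4, 5, 3, 4, 2, 3, 0, 2, 1, 3, 4, 2, 3, 1, 0]
  ws := [29, 24, 103, 67, 35, 84, 117]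
  M := [[[0, 1], [-1, 0], [1, 1], [-1, -1], [1, 0], [0, 0], [0, 0]], [[-1, -1], [1, 0], [1, 0], [0, 1], [-1, 0], [0, -1], [0, 0]], [[0, 0], [-1, -1], [0, 1], [0, 0], [0, -1], [0, 1], [1, 0]]]
  b := [[1, 2, 3, 4, 4, 3, 2], [0, 1, 1, 1, 1, 1, 1], [-2, -3, -4, -6, -5, -4, -2]]

theorem s3_ok : SC.ok chevE7 ChevDataE7.A (rvT ChevDataE7.A) s3 = true := by decide +kernel

def s4 : SC where
  d := 4
  a := 2
  l := [2, 3, 4, 3, 0, 2, 1, 3, 1, 0]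
  ws := [55, 30, 87, 41, 100, 76, 63]
  M := [[[-1, 1], [0, -1], [-1, -1], [1, 0], [0, 1], [0, 0], [0, 0]], [[0, 0], [0, -1], [-1, 1], [0, -1], [0, 1], [1, 0], [0, 0]]]
  b := [[0, -1, 1, 2, 0, 1, 0], [-2, 2, -4, -6, 0, -3, 0]]

theorem s4_ok : SC.ok chevE7 ChevDataE7.A (rvT ChevDataE7.A) s4 = true := by decide +kernel

def s5 : SC where
  d := 5
  a := 1
  l := [2, 3, 1, 0]
  ws := [31, 42, 95, 78, 75, 64, 63]
  M := [[[1, -1, 0, 0], [-1, -1, -1, -2], [-1, 0, 1, 0], [0, 0, -1, 1], [1, 1, 1, 0], [0, 0, 0, 0], [0, 0, 0, 0]]]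
  b := [[1, 1, 1, 2, 2, 0, 0]]

theorem s5_ok : SC.ok chevE7 ChevDataE7.A (rvT ChevDataE7.A) s5 = true := by decide +kernel

def s6 : SC where
  d := 6
  a := 3
  l := [0, 2, 3, 4, 5, 6, 1, 3, 4, 5, 3, 0, 2, 1, 3, 4, 3, 2, 1, 3, 1]
  ws := [108, 59, 109, 14, 63, 76, 78]
  M := [[[1, 0], [0, 0], [-1, 1], [0, -1], [0, 0], [0, 1], [0, 0]], [[0, 1], [-1, 1], [0, 0], [0, -1], [1, 0], [-1, 0], [0, 1]], [[-1, 0], [0, 1], [0, 0], [0, 0], [1, -1], [-1, 0], [1, 0]]]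
  b := [[-1, -1, -2, -2, -1, 0, 0], [0, -1, 0, -1, -1, -1, 0], [-1, 0, -1, -1, 0, 0, 0]]

theorem s6_ok : SC.ok chevE7 ChevDataE7.A (rvT ChevDataE7.A) s6 = true := by decide +kernel

def s7 : SC where
  d := 7
  a := 1
  l := [5, 6, 4, 2, 3, 0]
  ws := [31, 85, 97, 49, 74, 68, 60]
  M := [[[-2, -1, -1, -1, -1, -1], [0, 0, -1, -1, -1, -1], [1, 2, 1, 1, 1, 1], [0, -1, 0, 0, 0, 1], [0, 0, 0, 0, 1, -1], [0, 0, 1, 0, -1, 0], [0, 0, -1, 1, 0, 0]]]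
  b := [[-2, -2, -3, -4, -3, -2, -1]]

theorem s7_ok : SC.ok chevE7 ChevDataE7.A (rvT ChevDataE7.A) s7 = true := by decide +kernel

def s8 : SC where
  d := 8
  a := 1
  l := [0, 2, 1, 3, 4]
  ws := [73, 95, 79, 66, 25, 101, 63]
  M := [[[-1, 2, -1, 0], [1, 0, 0, 1], [0, -1, 2, -1], [0, 0, -1, 1], [-1, 0, 0, -1], [1, 0, 0, 0], [0, 0, 0, 0]]]
  b := [[0, 0, 0, 0, 0, 1, 0]]

theorem s8_ok : SC.ok chevE7 ChevDataE7.A (rvT ChevDataE7.A) s8 = true := by decide +kernel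

def s9 : SC where
  d := 9
  a := 1
  l := [5, 2, 3, 4, 2, 3, 1, 0]
  ws := [30, 37, 97, 83, 52, 75, 65]
  M := [[[0, 1, -1, 0, 0, 0], [1, 0, -1, 0, 1, -1], [1, 0, 0, 0, 1, 1], [-1, -1, 0, 1, -1, -1], [0, 0, 1, -1, -1, 1], [-1, 1, 0, -1, 1, 0], [1, 0, 0, 1, 0, 0]]]
  b := [[1, 2, 2, 3, 3, 2, 2]]

theorem s9_ok : SC.ok chevE7 ChevDataE7.A (rvT ChevDataE7.A) s9 = true := by decide +kernel

def s10 : SC where
  d := 10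
  a := 1
  l := [3, 4, 5, 6, 2, 1, 3, 4]
  ws := [95, 75, 80, 64, 37, 89, 53]
  M := [[[-1, 0, -1, 0], [0, 0, 1, 0], [0, 0, 1, 0], [1, -1, 0, -1], [-1, 1, -1, 2], [1, 0, 0, -1], [-1, 1, 0, 0]]]
  b := [[-1, 0, -1, 0, 0, 0, 0]]

theorem s10_ok : SC.ok chevE7 ChevDataE7.A (rvT ChevDataE7.A) s10 = true := by decide +kernel

def s12 : SC where
  d := 12
  a := 1
  l := [0, 2, 1, 3, 4, 5, 3, 4, 0, 2]
  ws := [80, 96, 41, 85, 58, 26, 102]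
  M := [[[0, 0, 0, -1], [1, 0, -2, 1], [-1, 1, 0, 0], [1, -1, 1, 0], [-1, 1, 0, -1], [0, 0, 0, 1], [0, -1, 0, 0]]]
  b := [[1, 1, 2, 2, 0, 0, 0]]

theorem s12_ok : SC.ok chevE7 ChevDataE7.A (rvT ChevDataE7.A) s12 = true := by decide +kernel

def s14 : SC where
  d := 14
  a := 1
  l := [5, 6, 3, 0, 2, 1, 3, 4, 5, 4, 2]
  ws := [83, 94, 47, 82, 62, 21, 103]
  M := [[[1, 0, 1, 0, 1, 0], [1, 0, 0, 0, 1, 0], [-1, 1, -1, 0, -1, 1], [0, 0, 1, 1, 0, 0], [-1, -1, -1, -1, 0, 0], [0, 0, -1, 0, -1, 0], [0, 1, 1, 1, 1, 0]]]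
  b := [[1, 0, 0, 0, 0, 1, 0]]

theorem s14_ok : SC.ok chevE7 ChevDataE7.A (rvT ChevDataE7.A) s14 = true := by decide +kernel

def s18 : SC where
  d := 18
  a := 1
  l := [6, 5, 3, 4, 2, 1, 0]
  ws := [30, 46, 93, 89, 53, 70, 64]
  M := [[[0, 0, -1, 0, -1, 1], [-1, 0, -1, 0, 0, 0], [0, -1, 0, -1, 1, 0], [1, 1, 1, 1, 0, 0], [-1, -1, -1, 0, 0, 0], [0, 0, 1, 0, 0, 0], [0, 1, 0, 0, 0, 0]]]
  b := [[0, -1, 0, 0, 0, -1, 0]]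

theorem s18_ok : SC.ok chevE7 ChevDataE7.A (rvT ChevDataE7.A) s18 = true := by decide +kernel

def Cs : List SC := [s1, s2, s3, s4, s5, s6, s7, s8, s9, s10, s12, s14, s18]

theorem Cs_ok : ∀ C ∈ Cs, SC.ok chevE7 ChevDataE7.A (rvT ChevDataE7.A) C = true := by
  intro C hC
  simp only [Cs, List.mem_cons, List.not_mem_nil, or_false] at hC
  rcases hC with rfl | rfl | rfl | rfl | rfl | rfl | rfl | rfl | rfl | rfl | rfl | rfl | rfl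
  · exact s1_ok
  · exact s2_ok
  · exact s3_ok
  · exact s4_ok
  · exact s5_ok
  · exact s6_ok
  · exact s7_ok
  · exact s8_ok
  · exact s9_ok
  · exact s10_ok
  · exact s12_ok
  · exact s14_ok
  · exact s18_ok

theorem cov : ∀ e ∈ ([2, 6, 8, 10, 12, 14, 18] : List ℕ), ∀ d ∈ e.divisors, ∃ C ∈ Cs, C.d = d ∧ C.a = (([2, 6, 8, 10, 12, 14, 18] : List ℕ).filter fun e => d ∣ e).length := by
  decide +kernel

theorem hW : ∀ i < chevE7.rank, ∀ s < chevE7.nroots, chevE7.reflectRoot i s = wT ChevDataE7.A i s :=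
  fun i hi _ hs => (c3_facts ChevOkE7.c1 ChevOkE7.c2 hi hs (ChevOkE7.c3 i hi)).refl
theorem hR : ChevOkE7.good.rv = rvT ChevDataE7.A := rfl

end Cfsg.Agent.Lib.ChevSylE7
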