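import Cfsg.Agent.Lib.ChevSyl2
import Cfsg.Agent.Lib.ChevOkE8

set_option autoImplicit false
set_option maxRecDepth 1000000

/-! Certificates of homocyclic Sylow subgroups of type E8 (machine generated, helper40). -/

namespace Cfsg.Agent.Lib.ChevSylE8
open Cfsg.Lie Cfsg.Agent.Lib.ChevTorus Cfsg.Agent.Lib.ChevTab Cfsg.Agent.Lib.ChevSyl

def s1 : SC where
  d := 1
  a := 8
  l := []
  ws := [162, 141, 135, 130, 126, 123, 121, 120]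
  M := [[[0], [0], [1], [0], [0], [0], [0], [0]], [[0], [0], [0], [0], [1], [0], [0], [0]], [[1], [0], [0], [0], [0], [0], [0], [0]], [[0], [0], [0], [0], [0], [0], [0], [1]], [[0], [0], [0], [0], [0], [1], [0], [0]], [[0], [1], [0], [0], [0], [0], [0], [0]], [[0], [0], [0], [0], [0], [0], [1], [0]], [[0], [0], [0], [1], [0], [0], [0], [0]]]
  b := [[0, 0, 1, 0, 0, 0, 0, 0], [0, 0, 0, 0, 1, 0, 0, 0], [1, 0, 0, 0, 0, 0, 0, 0], [0, 0, 0, 0, 0, 0, 0, 1], [0, 0, 0, 0, 0, 1, 0, 0], [0, 1, 0, 0, 0, 0, 0, 0], [0, 0, 0, 0, 0, 0, 1, 0], [0, 0, 0, 1, 0, 0, 0, 0]]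

theorem s1_ok : SC.ok chevE8 ChevDataE8.A (rvT ChevDataE8.A) s1 = true := by decide +kernel

def s2 : SC where
  d := 2
  a := 8
  l := [7, 6, 5, 4, 3, 2, 1, 3, 4, 5, 6, 0, 2, 3, 4, 5, 1, 3, 4, 2, 3, 0, 2, 1, 3, 4, 5, 6, 7, 6, 5, 4, 3, 2, 1, 3, 4, 5, 6, 0, 2, 3, 4, 5, 1, 3, 4, 2, 3, 0, 2, 1, 3, 4, 5, 6, 7, 6, 5, 4, 3, 2, 1, 3, 4, 5, 6, 0, 2, 3, 4, 5, 1, 3, 4, 2, 3, 0, 2, 1, 3, 4, 5, 6, 0, 2, 3, 4, 5, 1, 3, 4, 2, 3, 0, 2, 1, 3, 4, 5, 1, 3, 4, 2, 3, 0, 2, 1, 3, 4, 2, 3, 0, 2, 1, 3, 0, 2, 1, 0]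
  ws := [77, 98, 104, 109, 113, 116, 118, 119]
  M := [[[0], [0], [1], [0], [0], [0], [0], [0]], [[0], [0], [0], [0], [1], [0], [0], [0]], [[1], [0], [0], [0], [0], [0], [0], [0]], [[0], [0], [0], [0], [0], [0], [0], [1]], [[0], [0], [0], [0], [0], [1], [0], [0]], [[0], [1], [0], [0], [0], [0], [0], [0]], [[0], [0], [0], [0], [0], [0], [1], [0]], [[0], [0], [0], [1], [0], [0], [0], [0]]]
  b := [[0, 0, 1, 0, 0, 0, 0, 0], [0, 0, 0, 0, 1, 0, 0, 0], [1, 0, 0, 0, 0, 0, 0, 0], [0, 0, 0, 0, 0, 0, 0, 1], [0, 0, 0, 0, 0, 1, 0, 0], [0, 1, 0, 0, 0, 0, 0, 0], [0, 0, 0, 0, 0, 0, 1, 0], [0, 0, 0, 1, 0, 0, 0, 0]]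

theorem s2_ok : SC.ok chevE8 ChevDataE8.A (rvT ChevDataE8.A) s2 = true := by decide +kernel

def s3 : SC where
  d := 3
  a := 4
  l := [1, 3, 4, 2, 3, 0, 2, 1, 3, 4, 5, 6, 7, 6, 5, 4, 3, 2, 1, 3, 4, 5, 6, 0, 2, 3, 4, 5, 1, 3, 4, 2, 3, 0, 2, 1, 3, 4, 5, 6, 7, 5, 6, 0, 2, 3, 4, 5, 1, 3, 4, 2, 3, 0, 2, 1, 3, 4, 5, 6, 5, 1, 3, 4, 2, 3, 0, 2, 1, 3, 4, 5, 2, 3, 4, 0, 2, 3, 2, 0]
  ws := [61, 232, 131, 44, 176, 22, 153, 128]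
  M := [[[0, -1], [0, 1], [0, 1], [0, -1], [-1, 0], [1, 0], [0, 0], [0, 0]], [[0, 0], [1, 1], [-1, 0], [0, -1], [0, 0], [0, 1], [0, 0], [1, 0]], [[1, 0], [-1, 0], [0, 0], [0, 0], [0, 0], [0, -1], [0, 1], [0, 0]], [[0, 0], [1, 0], [0, 0], [0, 1], [0, -1], [-1, 0], [1, 0], [-1, 0]]]
  b := [[-1, -1, -2, -2, -2, -1, -1, -1], [0, 0, -1, -1, -1, -1, -1, 0], [1, 0, 0, -1, -1, -1, -1, 0], [0, 0, -1, -1, -1, -1, -1, -1]]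

theorem s3_ok : SC.ok chevE8 ChevDataE8.A (rvT ChevDataE8.A) s3 = true := by decide +kernel

def s4 : SC where
  d := 4
  a := 4
  l := [1, 3, 4, 5, 6, 7, 2, 3, 4, 5, 6, 0, 2, 3, 4, 5, 1, 3, 4, 2, 3, 0, 2, 1, 3, 4, 5, 6, 7, 6, 4, 5, 3, 4, 2, 3, 0, 2, 1, 3, 4, 5, 6, 2, 3, 0, 2, 1, 3, 4, 5, 0, 2, 3, 4, 0, 2, 3, 2, 0]
  ws := [25, 239, 159, 79, 118, 51, 126, 136]
  M := [[[1, 0], [-1, 0], [0, 0], [0, 0], [0, -1], [1, 1], [-1, 0], [0, 0]], [[-1, -1], [1, 1], [1, 0], [-1, 0], [0, 0], [0, 0], [0, 0], [0, 0]], [[1, 0], [0, -1], [0, 0], [0, 0], [-1, 0], [1, 0], [0, 1], [0, 0]], [[1, -1], [0, 0], [0, 0], [-1, 0], [0, 0], [1, 0], [0, 0], [0, 1]]]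
  b := [[0, 0, 1, 1, 1, 1, 0, 0], [0, 0, 1, 0, 0, 0, 0, 0], [1, 1, 2, 2, 1, 1, 1, 1], [0, 0, -1, -1, 0, 0, 0, 0]]

theorem s4_ok : SC.ok chevE8 ChevDataE8.A (rvT ChevDataE8.A) s4 = true := by decide +kernel

def s5 : SC where
  d := 5
  a := 2
  l := [7, 5, 6, 4, 5, 1, 3, 4, 2, 3, 0, 2, 1, 3, 4, 5, 6, 7, 6, 4, 5, 3, 4, 2, 3, 0, 2, 1, 3, 4, 5, 6, 2, 3, 4, 5, 4, 3, 0, 2, 1, 3, 4, 0, 2, 3, 2, 0]
  ws := [52, 237, 177, 24, 67, 212, 78, 154]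
  M := [[[0, 0, 0, 0], [-1, -1, 1, 1], [0, 0, 0, 0], [1, 1, 0, 0], [0, -1, -1, -1], [-1, 0, 0, 1], [0, 0, 0, -1], [0, 0, 0, 0]], [[0, 0, 1, 1], [0, 1, 0, 0], [0, 0, 0, -1], [0, 0, 0, 0], [-1, -1, -1, 0], [1, 0, 1, 0], [0, 1, 0, 1], [1, 0, 0, 0]]]
  b := [[1, 1, 1, 2, 1, 0, 0, 1], [0, 0, 0, 0, 0, 0, 0, 1]]

theorem s5_ok : SC.ok chevE8 ChevDataE8.A (rvT ChevDataE8.A) s5 = true := by decide +kernel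

def s6 : SC where
  d := 6
  a := 4
  l := [1, 3, 4, 2, 3, 0, 2, 1, 3, 4, 5, 6, 7, 6, 5, 4, 3, 0, 2, 1, 3, 4, 5, 6, 5, 4, 3, 0, 2, 1, 3, 4, 5, 3, 4, 0, 2, 3, 2, 0]
  ws := [83, 234, 137, 50, 179, 23, 154, 129]
  M := [[[0, 0], [-1, -1], [1, -1], [0, 1], [0, 0], [0, 0], [0, 0], [0, 0]], [[0, -1], [0, 1], [0, 0], [0, 0], [0, 0], [-1, 0], [1, 0], [0, 0]], [[-1, 1], [0, 1], [0, -1], [0, 0], [1, 0], [-1, 0], [0, 0], [0, 0]], [[0, 0], [1, 0], [0, 0], [0, 0], [0, 0], [-1, 0], [0, 0], [0, 1]]]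
  b := [[1, 1, 2, 3, 2, 1, 1, 0], [0, 0, 0, 0, 0, 0, 1, 0], [0, 0, 0, 0, 1, 0, 0, 0], [0, 0, 0, 0, -1, -1, -1, 0]]

theorem s6_ok : SC.ok chevE8 ChevDataE8.A (rvT ChevDataE8.A) s6 = true := by decide +kernel

def s7 : SC where
  d := 7
  a := 1
  l := [5, 6, 4, 2, 3, 0]
  ws := [76, 149, 166, 101, 136, 128, 115, 125]
  M := [[[-2, -1, -1, -1, -1, -1], [0, 0, -1, -1, -1, -1], [1, 2, 1, 1, 1, 1], [0, -1, 0, 0, 0, 1], [0, 0, 0, 0, 1, -1], [0, 0, 1, 0, -1, 0], [0, 0, -1, 1, 0, 0], [0, 0, 0, -1, 0, 0]]]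
  b := [[-2, -2, -3, -4, -3, -2, -1, 0]]

theorem s7_ok : SC.ok chevE8 ChevDataE8.A (rvT ChevDataE8.A) s7 = true := by decide +kernel

def s8 : SC where
  d := 8
  a := 2
  l := [2, 1, 3, 4, 5, 6, 7, 5, 3, 4, 2, 3, 0, 2, 1, 3, 4, 5, 6, 3, 2, 1, 3, 4, 5, 3, 4, 0, 2, 3, 2, 0]
  ws := [66, 225, 171, 32, 186, 55, 111, 179]
  M := [[[0, 0, -1, 0], [0, 1, 1, 1], [0, -1, 0, 0], [0, 0, 0, 0], [-1, 0, 0, 0], [1, 0, -1, -1], [0, 0, 1, 0], [0, 0, 0, 1]], [[0, 1, 0, 0], [-1, -1, -1, 0], [0, -1, -1, 0], [0, 1, 1, 0], [0, -1, 0, 0], [1, 1, 0, -1], [0, 0, 0, 1], [0, 0, 0, 0]]]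
  b := [[-1, -1, -1, -2, -2, -1, -1, 0], [0, 0, 0, 0, 1, 1, 1, 1]]

theorem s8_ok : SC.ok chevE8 ChevDataE8.A (rvT ChevDataE8.A) s8 = true := by decide +kernel

def s9 : SC where
  d := 9
  a := 1
  l := [1, 3, 4, 5, 6, 3, 4, 3, 0, 2, 1, 3, 0, 2]
  ws := [131, 170, 83, 77, 175, 128, 94, 146]
  M := [[[0, -1, 0, 1, 0, 0], [-1, 0, 1, 0, 0, 1], [0, 0, 0, -1, -1, -1], [1, 0, -1, 0, 0, 0], [-1, 0, 0, 0, 1, 0], [0, 0, 1, 0, 0, 1], [0, 0, -1, 0, -1, -1], [1, 1, 1, 1, 1, 0]]]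
  b := [[0, -1, 0, 0, 0, 1, 0, 0]]

theorem s9_ok : SC.ok chevE8 ChevDataE8.A (rvT ChevDataE8.A) s9 = true := by decide +kernel

def s10 : SC where
  d := 10
  a := 2
  l := [1, 3, 4, 5, 6, 7, 2, 3, 4, 5, 6, 3, 4, 5, 0, 2, 1, 3, 4, 0, 2, 3, 2, 0]
  ws := [84, 213, 154, 80, 70, 204, 91, 135]
  M := [[[0, 0, 0, 0], [0, -1, -1, 0], [0, 0, 0, 0], [0, 0, 1, 0], [1, 0, 0, 0], [-1, 0, 0, -1], [0, 1, -1, 1], [0, 0, 0, 0]], [[-1, 0, -1, 0], [0, 1, 0, 0], [0, 0, 1, 0], [0, 0, -1, 1], [0, 0, 0, -1], [1, -1, 1, 0], [-1, 0, 0, 0], [0, 1, 0, 0]]]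
  b := [[0, 1, 1, 2, 2, 1, 1, 0], [-1, 0, -1, 0, 0, 0, 0, 0]]

theorem s10_ok : SC.ok chevE8 ChevDataE8.A (rvT ChevDataE8.A) s10 = true := by decide +kernel

def s12 : SC where
  d := 12
  a := 2
  l := [1, 3, 4, 5, 6, 7, 5, 4, 2, 3, 0, 2, 1, 3, 4, 5, 6, 3, 4, 5, 4, 2, 3, 0]
  ws := [82, 206, 161, 84, 153, 90, 63, 186]
  M := [[[1, 0, -1, -1], [-1, 0, 1, 1], [0, 0, 0, 1], [0, 0, 0, -1], [0, -1, 0, 1], [0, 1, -1, -1], [0, 0, 1, 0], [0, 0, 0, 0]], [[0, 0, 0, 0], [1, 1, -1, -2], [0, 1, 0, 0], [0, -1, 0, 1], [0, 0, 0, 0], [-1, 0, 1, 0], [0, 0, 0, 0], [1, 0, 0, 0]]]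
  b := [[0, -1, -1, -2, -1, -1, 0, 0], [0, 0, 0, 0, 0, 0, 0, 1]]

theorem s12_ok : SC.ok chevE8 ChevDataE8.A (rvT ChevDataE8.A) s12 = true := by decide +kernel

def s14 : SC where
  d := 14
  a := 1
  l := [4, 5, 6, 7, 0, 2, 3, 4, 3, 2, 1, 3, 1]
  ws := [138, 108, 170, 68, 144, 167, 120, 110]
  M := [[[-1, 1, -1, 0, -1, 1], [1, -1, 0, 0, 2, 0], [-1, 1, 0, 1, -1, 1], [1, 0, 1, -1, 0, -1], [-1, -1, 0, 1, 0, -1], [0, 0, -1, -1, 0, 1], [1, 0, 0, 0, 0, 0], [0, 1, 0, 0, 0, 0]]]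
  b := [[-2, -2, -2, -3, -2, -1, 0, 0]]

theorem s14_ok : SC.ok chevE8 ChevDataE8.A (rvT ChevDataE8.A) s14 = true := by decide +kernel

def s15 : SC where
  d := 15
  a := 1
  l := [5, 6, 7, 1, 3, 4, 5, 6, 5, 2, 3, 4, 0, 2, 3, 0]
  ws := [112, 208, 129, 66, 162, 150, 94, 143]
  M := [[[0, 1, 0, 0, 1, 0, 0, 1], [0, -1, -1, -1, -1, -1, -1, -1], [1, -1, 0, 0, -1, 1, 0, -1], [-1, 1, 1, 0, 1, 0, 0, 1], [1, 0, 0, 1, 0, 0, 1, 0], [0, -1, -1, 0, -1, 0, -1, -1], [0, 1, 0, 0, 1, 0, 1, 0], [0, 0, 0, 0, -1, 0, 0, 0]]]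
  b := [[1, 1, 1, 1, 1, 0, 0, 0]]

theorem s15_ok : SC.ok chevE8 ChevDataE8.A (rvT ChevDataE8.A) s15 = true := by decide +kernel

def s18 : SC where
  d := 18
  a := 1
  l := [4, 5, 6, 4, 5, 1, 3, 0, 2]
  ws := [149, 132, 68, 163, 145, 115, 113, 129]
  M := [[[0, -1, 0, -1, 1, 0], [0, -1, -1, 0, 0, 1], [1, 1, 1, 0, -1, 0], [0, 1, 0, 0, 0, -1], [-1, -1, 0, 0, 0, 0], [0, 0, -1, 0, 0, 1], [1, 0, 1, 0, 0, -1], [-1, 0, 0, 1, 1, 1]]]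
  b := [[0, 1, 0, 0, -1, -1, 0, 0]]

theorem s18_ok : SC.ok chevE8 ChevDataE8.A (rvT ChevDataE8.A) s18 = true := by decide +kernel

def s20 : SC where
  d := 20
  a := 1
  l := [7, 0, 2, 3, 4, 5, 6, 4, 5, 3, 4, 0, 2, 1, 3, 2]
  ws := [182, 140, 66, 101, 185, 126, 74, 167]
  M := [[[0, 1, 1, 1, 0, 0, 0, 0], [-1, 0, 0, 0, 0, 0, 0, 0], [0, 0, -1, -1, 0, 1, 0, -1], [0, 0, 1, 0, -1, -1, 1, 1], [1, 0, -1, 0, 1, 1, -1, 0], [0, 0, 0, 0, 1, 0, 0, -1], [-1, -1, 0, 1, -1, -1, 0, 1], [0, 0, 1, 0, 0, 0, 0, 0]]]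
  b := [[0, -1, 0, 0, 0, 0, 0, 0]]

theorem s20_ok : SC.ok chevE8 ChevDataE8.A (rvT ChevDataE8.A) s20 = true := by decide +kernel

def s24 : SC where
  d := 24
  a := 1
  l := [6, 7, 3, 2, 1, 3, 4, 5, 6, 2, 3, 4, 5, 0]
  ws := [70, 148, 174, 124, 120, 93, 103, 153]
  M := [[[0, -1, 0, -1, 0, 1, 0, 1], [2, 1, 1, 1, -1, -1, -1, -1], [0, 1, 0, 0, 1, -1, 0, 0], [-1, -1, 0, 0, 0, 1, 0, 0], [0, 1, 0, 0, 0, 0, 0, 0], [0, -1, -1, 0, 0, 0, 1, 1], [0, 0, 0, 0, 0, 0, 0, -1], [0, 0, 1, 0, 0, 0, 0, 0]]]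
  b := [[1, 1, 1, 1, 1, 1, 1, 0]]

theorem s24_ok : SC.ok chevE8 ChevDataE8.A (rvT ChevDataE8.A) s24 = true := by decide +kernel

def s30 : SC where
  d := 30
  a := 1
  l := [7, 5, 6, 1, 3, 4, 2, 1, 3, 0]
  ws := [70, 149, 175, 86, 136, 146, 114, 124]
  M := [[[1, 0, -1, -1, -1, -1, 1, 1], [1, 1, 1, 1, 1, 0, 0, 0], [0, 0, 0, 0, 0, 1, 0, 0], [-1, -1, 0, 0, 0, 0, 0, -1], [0, 0, -1, -1, 0, 0, 0, 1], [0, 1, 1, 1, 0, 0, 0, 0], [0, -1, -1, 0, 0, 0, 0, 0], [0, 0, 1, 0, 0, 0, 0, 0]]]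
  b := [[0, 0, 0, -1, -1, -1, 0, 0]]

theorem s30_ok : SC.ok chevE8 ChevDataE8.A (rvT ChevDataE8.A) s30 = true := by decide +kernel

def Cs : List SC := [s1, s2, s3, s4, s5, s6, s7, s8, s9, s10, s12, s14, s15, s18, s20, s24, s30]

theorem Cs_ok : ∀ C ∈ Cs, SC.ok chevE8 ChevDataE8.A (rvT ChevDataE8.A) C = true := by
  intro C hC
  simp only [Cs, List.mem_cons, List.not_mem_nil, or_false] at hC
  rcases hC with rfl | rfl | rfl | rfl | rfl | rfl | rfl | rfl | rfl | rfl | rfl | rfl | rfl | rfl | rfl | rfl | rfl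
  · exact s1_ok
  · exact s2_ok
  · exact s3_ok
  · exact s4_ok
  · exact s5_ok
  · exact s6_ok
  · exact s7_ok
  · exact s8_ok
  · exact s9_ok
  · exact s10_ok
  · exact s12_ok
  · exact s14_ok
  · exact s15_ok
  · exact s18_ok
  · exact s20_ok
  · exact s24_ok
  · exact s30_ok

theorem cov : ∀ e ∈ ([2, 8, 12, 14, 18, 20, 24, 30] : List ℕ), ∀ d ∈ e.divisors, ∃ C ∈ Cs, C.d = d ∧ C.a = (([2, 8, 12, 14, 18, 20, 24, 30] : List ℕ).filter fun e => d ∣ e).length := by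
  decide +kernel

theorem hW : ∀ i < chevE8.rank, ∀ s < chevE8.nroots, chevE8.reflectRoot i s = wT ChevDataE8.A i s :=
  fun i hi _ hs => (c3_facts ChevOkE8a.c1 ChevOkE8a.c2 hi hs (ChevOkE8.c3 i hi)).refl
theorem hR : ChevOkE8.good.rv = rvT ChevDataE8.A := rfl

end Cfsg.Agent.Lib.ChevSylE8
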