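import Cfsg.Agent.Lib.ChevSyl2
import Cfsg.Agent.Lib.ChevOkF4

set_option autoImplicit false
set_option maxRecDepth 1000000

/-! Certificates of homocyclic Sylow subgroups of type F4 (machine generated, helper40). -/

namespace Cfsg.Agent.Lib.ChevSylF4
open Cfsg.Lie Cfsg.Agent.Lib.ChevTorus Cfsg.Agent.Lib.ChevTab Cfsg.Agent.Lib.ChevSyl

def s1 : SC where
  d := 1
  a := 4
  l := []
  ws := [33, 27, 25, 24]
  M := [[[0], [1], [0], [0]], [[0], [0], [1], [0]], [[1], [0], [0], [0]], [[0], [0], [0], [1]]]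
  b := [[0, 1, 0, 0], [0, 0, 1, 0], [1, 0, 0, 0], [0, 0, 0, 1]]

theorem s1_ok : SC.ok chevF4 ChevDataF4.A (rvT ChevDataF4.A) s1 = true := by decide +kernel

def s2 : SC where
  d := 2
  a := 4
  l := [3, 2, 1, 2, 0, 1, 2, 3, 2, 1, 2, 0, 1, 2, 3, 2, 1, 2, 0, 1, 2, 0, 1, 0]
  ws := [14, 20, 22, 23]
  M := [[[0], [1], [0], [0]], [[0], [0], [1], [0]], [[1], [0], [0], [0]], [[0], [0], [0], [1]]]
  b := [[0, 1, 0, 0], [0, 0, 1, 0], [1, 0, 0, 0], [0, 0, 0, 1]]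

theorem s2_ok : SC.ok chevF4 ChevDataF4.A (rvT ChevDataF4.A) s2 = true := by decide +kernel

def s3 : SC where
  d := 3
  a := 2
  l := [2, 0, 1, 2, 3, 2, 1, 2, 0, 1, 2, 3, 1, 2, 0, 1]
  ws := [29, 7, 45, 5]
  M := [[[0, 0], [0, 1], [1, -1], [-1, 0]], [[1, 0], [-1, 0], [1, 0], [0, 1]]]
  b := [[0, 1, 1, 0], [1, 0, 0, 0]]

theorem s3_ok : SC.ok chevF4 ChevDataF4.A (rvT ChevDataF4.A) s3 = true := by decide +kernel

def s4 : SC where
  d := 4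
  a := 2
  l := [2, 3, 1, 2, 0, 1, 2, 3, 1, 2, 0, 1]
  ws := [37, 3, 47, 15]
  M := [[[1, 0], [-1, 1], [1, -1], [0, 0]], [[-1, -1], [1, 0], [0, 0], [-1, 1]]]
  b := [[1, 2, 2, 1], [0, 1, 1, 0]]

theorem s4_ok : SC.ok chevF4 ChevDataF4.A (rvT ChevDataF4.A) s4 = true := by decide +kernel

def s6 : SC where
  d := 6
  a := 2
  l := [2, 0, 1, 2, 3, 2, 0, 1]
  ws := [36, 8, 46, 6]
  M := [[[1, -1], [-1, 0], [0, 1], [1, 0]], [[0, -1], [0, 1], [0, -1], [1, 0]]]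
  b := [[-1, -2, -1, 0], [1, 2, 1, 1]]

theorem s6_ok : SC.ok chevF4 ChevDataF4.A (rvT ChevDataF4.A) s6 = true := by decide +kernel

def s8 : SC where
  d := 8
  a := 1
  l := [2, 3, 1, 2, 0, 1, 2, 3, 1, 0]
  ws := [11, 29, 41, 1]
  M := [[[0, -1, 1, -1], [1, 0, 0, 1], [-1, 1, -1, -1], [-1, 0, 1, 0]]]
  b := [[1, 2, 1, 0]]

theorem s8_ok : SC.ok chevF4 ChevDataF4.A (rvT ChevDataF4.A) s8 = true := by decide +kernel

def s12 : SC where
  d := 12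
  a := 1
  l := [2, 3, 0, 1]
  ws := [28, 12, 43, 21]
  M := [[[-1, 1, 0, -1], [0, 0, 1, 0], [1, -1, -1, 0], [0, 1, -1, 1]]]
  b := [[1, 3, 2, 1]]

theorem s12_ok : SC.ok chevF4 ChevDataF4.A (rvT ChevDataF4.A) s12 = true := by decide +kernel

def Cs : List SC := [s1, s2, s3, s4, s6, s8, s12]

theorem Cs_ok : ∀ C ∈ Cs, SC.ok chevF4 ChevDataF4.A (rvT ChevDataF4.A) C = true := by
  intro C hC
  simp only [Cs, List.mem_cons, List.not_mem_nil, or_false] at hC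
  rcases hC with rfl | rfl | rfl | rfl | rfl | rfl | rfl
  · exact s1_ok
  · exact s2_ok
  · exact s3_ok
  · exact s4_ok
  · exact s6_ok
  · exact s8_ok
  · exact s12_ok

theorem cov : ∀ e ∈ ([2, 6, 8, 12] : List ℕ), ∀ d ∈ e.divisors, ∃ C ∈ Cs, C.d = d ∧ C.a = (([2, 6, 8, 12] : List ℕ).filter fun e => d ∣ e).length := by
  decide +kernel

theorem hW : ∀ i < chevF4.rank, ∀ s < chevF4.nroots, chevF4.reflectRoot i s = wT ChevDataF4.A i s :=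
  fun i hi _ hs => (c3_facts ChevOkF4.c1 ChevOkF4.c2 hi hs (ChevOkF4.c3 i hi)).refl
theorem hR : ChevOkF4.good.rv = rvT ChevDataF4.A := rfl

end Cfsg.Agent.Lib.ChevSylF4
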