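import Cfsg.Agent.Lib.ChevTorus8
import Cfsg.Agent.Lib.ChevOkE6

set_option autoImplicit false
set_option maxRecDepth 1000000

/-! Certificate of a twisted torus of type E6 (machine generated, helper40). -/

namespace Cfsg.Agent.Lib.ChevTorusE6
open Cfsg.Lie Cfsg.Agent.Lib.ChevTorus Cfsg.Agent.Lib.ChevTab

def tc : TC where
  l := [0, 1, 2, 3, 4, 5]
  as := [2, 17, 31, 33, 62, 68, 53]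
  m := [[2, 1, -1, -1, 1, 2], [0, -1, 1, 0, 1, -1], [-2, 0, 1, 1, -1, -1], [1, 0, -1, 0, 0, 1], [-1, 0, 0, 0, 0, -1], [1, 0, 0, -1, 0, 1]]
  c := [1, 1, 0, -1, 0, 1]
  rows := [⟨[0, 1, 16, 30, 61, 67, 71, 70, 55, 41, 10, 4], [0, 1, 1, -1, 0, 0], [2, 1, 0, -1, 0, 1], 1⟩,
    ⟨[2, 17, 31, 33, 62, 68, 53, 66, 45, 14, 21, 7], [1, 0, 0, 0, 0, 0], [1, 0, 0, 0, 0, 0], 0⟩,
    ⟨[3, 18, 5, 26, 57, 50, 64, 69, 54, 40, 38, 9], [0, 1, 0, 0, 0, 0], [1, 1, 0, -1, 0, 1], 0⟩,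
    ⟨[6, 27, 22, 46, 58, 51, 65, 44, 49, 25, 13, 20], [1, 2, 0, -1, 0, 0], [2, 1, 0, -1, 0, 1], 1⟩,
    ⟨[8, 28, 23, 11, 56, 42, 47, 59, 52, 39, 37, 36], [0, 1, 1, 0, 0, 0], [1, 1, 0, -1, 0, 1], 1⟩,
    ⟨[12, 19, 32, 34, 35, 63, 43, 48, 60, 15, 29, 24], [1, 1, 0, 0, 0, 0], [1, 0, 0, 0, 0, 0], 1⟩]
  rows2 := [⟨[17, 31, 33, 62, 68, 53], [0, 0, -1, -1, 0, 0], [0, 0, 0, -1, -1, 0], 0⟩,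
    ⟨[31, 33, 62, 68, 53, 66], [0, 0, -1, 0, 0, 0], [0, 0, 0, 0, -1, 0], 0⟩,
    ⟨[33, 62, 68, 53, 66, 45], [-1, 0, 0, -1, 0, 0], [1, 1, 0, -2, 0, 1], 0⟩,
    ⟨[62, 68, 53, 66, 45, 14], [-1, 0, -1, 0, 0, 0], [1, 1, 0, -1, -1, 1], 0⟩,
    ⟨[68, 53, 66, 45, 14, 21], [-1, 0, 1, -1, 0, 0], [2, 0, -1, -1, 2, 0], 0⟩,
    ⟨[53, 66, 45, 14, 21, 7], [-1, 0, 0, 0, 0, 0], [1, 1, 0, -1, 0, 1], 0⟩,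
    ⟨[66, 45, 14, 21, 7, 2], [0, 0, -1, 1, 0, 0], [1, 2, -1, -1, 0, 2], 0⟩,
    ⟨[45, 14, 21, 7, 2, 17], [-2, 0, 1, 0, 0, 0], [3, 1, -1, -1, 2, 1], 0⟩,
    ⟨[14, 21, 7, 2, 17, 31], [-1, 0, 0, 1, 0, 0], [1, 1, 0, 0, 0, 1], 0⟩,
    ⟨[21, 7, 2, 17, 31, 33], [-1, 0, 1, 0, 0, 0], [0, -1, 1, 1, 0, -1], 0⟩,
    ⟨[7, 2, 17, 31, 33, 62], [-1, 0, 1, 1, 0, 0], [1, 1, 0, 0, 1, 1], 0⟩,
    ⟨[3, 18, 5, 26, 57, 50], [-1, 0, 1, 1, 0, 0], [0, 0, 1, 1, 0, 0], 0⟩,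
    ⟨[18, 5, 26, 57, 50, 64], [-1, 0, 0, 0, 0, 0], [-1, -1, 0, 1, 0, -1], 0⟩,
    ⟨[5, 26, 57, 50, 64, 69], [0, 0, -1, -1, 0, 0], [1, 0, -1, -1, 0, 0], 0⟩,
    ⟨[26, 57, 50, 64, 69, 54], [0, 0, -1, 0, 0, 0], [1, 1, -1, -1, 0, 1], 0⟩,
    ⟨[57, 50, 64, 69, 54, 40], [-1, 0, 0, -1, 0, 0], [1, -1, 0, 0, 0, -1], 0⟩,
    ⟨[50, 64, 69, 54, 40, 38], [0, 1, 0, 0, 0, 0], [1, 0, -1, 0, 1, 1], 0⟩,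
    ⟨[64, 69, 54, 40, 38, 9], [-1, 0, 1, -1, 0, 0], [-1, -1, 2, 0, -1, -1], 0⟩,
    ⟨[69, 54, 40, 38, 9, 3], [-1, 0, 0, 0, 0, 0], [1, 0, 0, 0, 0, 0], 0⟩,
    ⟨[54, 40, 38, 9, 3, 18], [0, 0, -1, 1, 0, 0], [0, 0, 0, 1, -1, 0], 0⟩,
    ⟨[40, 38, 9, 3, 18, 5], [-1, -1, 0, 0, 0, 0], [0, 0, 1, 1, 0, 0], 0⟩,
    ⟨[38, 9, 3, 18, 5, 26], [-1, 0, 0, 1, 0, 0], [1, 1, 0, 0, 0, 1], 0⟩,
    ⟨[9, 3, 18, 5, 26, 57], [-1, 0, 1, 0, 0, 0], [1, 1, 0, -1, 1, 1], 0⟩]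

def p1 : List PC := [⟨2, [0, -1], false⟩, ⟨1, [0, 0], false⟩, ⟨1, [0, -1], false⟩, ⟨2, [0, -1], false⟩, ⟨1, [0, -1], false⟩, ⟨1, [0, 0], false⟩]
def p2 : List PC := [⟨1, [1, 0], false⟩, ⟨1, [1, 0], false⟩, ⟨2, [0, -1], false⟩, ⟨3, [1, -1], false⟩, ⟨1, [-2, 0], false⟩, ⟨2, [0, -1], false⟩, ⟨1, [0, -2], false⟩, ⟨3, [-2, -1], false⟩, ⟨2, [0, -1], false⟩, ⟨1, [0, 1], false⟩, ⟨1, [-1, -1], false⟩, ⟨1, [0, 0], false⟩, ⟨2, [2, -1, -1, 1], true⟩, ⟨1, [0, 0], false⟩, ⟨1, [0, -1], false⟩, ⟨2, [0, 1], false⟩, ⟨1, [0, 1, 0, -1], true⟩, ⟨1, [1, 1], false⟩, ⟨2, [0, 0], false⟩, ⟨1, [1, 0], false⟩, ⟨1, [0, -1, 0, 0], true⟩, ⟨2, [0, -1], false⟩, ⟨1, [-1, -1], false⟩]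

def P : Bool → List ℤ := fun b => bif b then [1, 1, 1] else [1, 0, -1, 0, 1]

theorem basic : TC.basic chevE6 ChevDataE6.A (rvT ChevDataE6.A) tc = true := by decide +kernel
theorem rowsOK : TC.rowsOK chevE6 ChevDataE6.A (rvT ChevDataE6.A) tc = true := by decide +kernel
theorem sepsOK : TC.sepsOK chevE6 tc = true := by decide +kernel
theorem pcOK : TC.pcOK 6 P tc p1 p2 = true := by decide +kernel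
theorem kap : kapOK Cfsg.Agent.Lib.ChevFix.cdE6 tc (chevE8.simple 6) (2) = true := by decide +kernel
theorem hW : ∀ i < chevE6.rank, ∀ s < chevE6.nroots, chevE6.reflectRoot i s = wT ChevDataE6.A i s :=
  fun i hi _ hs => (c3_facts ChevOkE6.c1 ChevOkE6.c2 hi hs (ChevOkE6.c3 i hi)).refl

theorem hR : Cfsg.Agent.Lib.ChevGood.Good.rv ChevOkE6.good = rvT ChevDataE6.A := rfl

end Cfsg.Agent.Lib.ChevTorusE6
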