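import Cfsg.Agent.Lib.ChevTorus8
import Cfsg.Agent.Lib.ChevOkE7

set_option autoImplicit false
set_option maxRecDepth 1000000

/-! Certificate of a twisted torus of type E7 (machine generated, helper40). -/

namespace Cfsg.Agent.Lib.ChevTorusE7
open Cfsg.Lie Cfsg.Agent.Lib.ChevTorus Cfsg.Agent.Lib.ChevTab

def tc : TC where
  l := [3, 5, 1, 2, 4, 3, 6, 5, 2, 0, 4]
  as := [5, 7, 25, 79, 92, 119, 114, 109]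
  m := [[1, -1, -1, 2, -1, -1, 1], [0, 1, -1, 0, 1, 0, 0], [-1, 1, 1, -2, 0, 1, 0], [0, -1, 1, 1, -1, 0, 0], [0, 0, -1, -1, 1, 0, -1], [1, 0, 0, 1, 0, 0, 1], [-1, 0, 0, 0, 0, -1, 0]]
  c := [1, 0, -1, 1, 1, -1, 0]
  rows := [⟨[0, 12, 29, 88, 121, 124, 125, 113, 96, 37, 4, 1], [1, 1, -1, 0, 0, 0, 0], [1, 0, 0, 0, 0, 0, -1], 1⟩,
    ⟨[2, 3, 13, 31, 81, 85, 110, 111, 116, 107, 66, 36], [0, 1, 0, 0, 0, 0, 0], [0, 0, 1, 0, -1, 0, 0], 1⟩,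
    ⟨[5, 7, 25, 79, 92, 119, 114, 109, 98, 61, 42, 8], [1, 0, 0, 0, 0, 0, 0], [1, 0, 0, 0, 0, 0, 0], 0⟩,
    ⟨[6, 11, 16, 27, 64, 83, 117, 120, 118, 100, 46, 33], [0, 1, 0, 0, 0, 0, 0], [0, 0, 0, 0, 0, 0, -1], 0⟩,
    ⟨[9, 18, 59, 89, 123, 122, 112, 94, 44, 40, 15, 14], [0, 1, 0, -1, 0, 0, 0], [1, 1, 0, -1, 0, 1, 0], 1⟩,
    ⟨[10, 23, 50, 32, 104, 86, 115, 102, 75, 93, 21, 39], [1, 2, 0, -1, 0, 0, 0], [1, 0, 0, 0, 0, 0, -1], 1⟩,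
    ⟨[17, 41, 28, 71, 78, 76, 99, 77, 103, 68, 60, 38], [1, 1, 0, 0, 0, 0, 0], [0, 0, 1, 0, -1, 0, 0], 1⟩,
    ⟨[19, 69, 82, 90, 101, 73, 95, 63, 70, 51, 20, 34], [1, 1, -1, -1, 0, 0, 0], [-1, 0, 3, 0, -3, 0, 1], 2⟩,
    ⟨[22, 57, 65, 87, 108, 84, 97, 54, 47, 49, 26, 48], [1, 1, -1, -1, 0, 0, 0], [1, 1, 0, -1, 0, 1, 0], 1⟩,
    ⟨[24, 52, 30, 62, 55, 74, 105, 91, 106, 56, 43, 35], [1, 1, 0, 0, 0, 0, 0], [0, -1, 0, 1, 0, -1, -1], 2⟩,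
    ⟨[45, 58, 72, 80, 67, 53, 45], [1, -1, 0, 0, 0, 0, 0], [1, 0, 0, 0, 0, 0, 1], 2⟩]
  rows2 := [⟨[7, 25, 79, 92, 119, 114, 109], [0, 0, -1, -1, 0, 0, 0], [0, 0, 0, -1, -1, 0, 0], 0⟩,
    ⟨[25, 79, 92, 119, 114, 109, 98], [0, 0, -1, 0, 0, 0, 0], [0, 0, 0, 0, -1, 0, 0], 0⟩,
    ⟨[79, 92, 119, 114, 109, 98, 61], [-1, 0, 0, -1, 0, 0, 0], [0, 0, 0, -1, 0, 0, -1], 0⟩,
    ⟨[92, 119, 114, 109, 98, 61, 42], [-1, 0, -1, 0, 0, 0, 0], [0, 0, 0, 0, -1, 0, -1], 0⟩,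
    ⟨[119, 114, 109, 98, 61, 42, 8], [-1, 0, 1, -1, 0, 0, 0], [-1, 1, 1, -2, 0, 1, -1], 0⟩,
    ⟨[114, 109, 98, 61, 42, 8, 5], [-1, 0, 0, 0, 0, 0, 0], [0, 0, 0, 0, 0, 0, -1], 0⟩,
    ⟨[109, 98, 61, 42, 8, 5, 7], [0, 0, -1, 1, 0, 0, 0], [2, -1, -1, 2, 0, -1, 1], 0⟩,
    ⟨[98, 61, 42, 8, 5, 7, 25], [-2, 0, 1, 0, 0, 0, 0], [1, 1, -1, -1, 2, 1, -2], 0⟩,
    ⟨[61, 42, 8, 5, 7, 25, 79], [-1, 0, 0, 1, 0, 0, 0], [2, 0, 0, 1, 0, 0, 1], 0⟩,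
    ⟨[42, 8, 5, 7, 25, 79, 92], [-1, 0, 1, 0, 0, 0, 0], [0, 1, 1, -1, 0, 1, 0], 0⟩,
    ⟨[8, 5, 7, 25, 79, 92, 119], [-1, 0, 1, 1, 0, 0, 0], [0, 0, 2, 1, -1, 0, 1], 0⟩,
    ⟨[6, 11, 16, 27, 64, 83, 117], [-1, 0, 1, 1, 0, 0, 0], [1, 1, -1, 0, 2, 1, -1], 0⟩,
    ⟨[11, 16, 27, 64, 83, 117, 120], [-1, 0, 0, 0, 0, 0, 0], [0, 0, 0, 0, 0, 0, 1], 0⟩,
    ⟨[16, 27, 64, 83, 117, 120, 118], [0, 0, -1, -1, 0, 0, 0], [0, -1, -1, 0, 0, -1, -1], 0⟩,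
    ⟨[27, 64, 83, 117, 120, 118, 100], [0, 0, -1, 0, 0, 0, 0], [1, -1, -1, 1, 0, -1, 0], 0⟩,
    ⟨[64, 83, 117, 120, 118, 100, 46], [-1, 0, 0, -1, 0, 0, 0], [0, 0, 0, -1, 0, 0, -1], 0⟩,
    ⟨[83, 117, 120, 118, 100, 46, 33], [-1, -1, -1, 0, 0, 0, 0], [2, 0, -2, 0, 1, -1, -1], 0⟩,
    ⟨[117, 120, 118, 100, 46, 33, 6], [-1, 0, 1, -1, 0, 0, 0], [0, 0, 0, -1, 1, 0, -1], 0⟩,
    ⟨[120, 118, 100, 46, 33, 6, 11], [-1, 0, 0, 0, 0, 0, 0], [1, 0, 0, 0, 0, 0, 0], 0⟩,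
    ⟨[118, 100, 46, 33, 6, 11, 16], [0, 0, -1, 1, 0, 0, 0], [0, 0, 0, 1, -1, 0, 0], 0⟩,
    ⟨[100, 46, 33, 6, 11, 16, 27], [-1, 1, 1, 0, 0, 0, 0], [0, 0, 1, -1, -1, 0, 0], 0⟩,
    ⟨[46, 33, 6, 11, 16, 27, 64], [-1, 0, 0, 1, 0, 0, 0], [0, 0, 0, 1, 0, 0, -1], 0⟩,
    ⟨[33, 6, 11, 16, 27, 64, 83], [-1, 0, 1, 0, 0, 0, 0], [0, 0, 0, 0, 1, 0, -1], 0⟩]

def p1 : List PC := [⟨2, [1, 0, 1], false⟩, ⟨1, [1, 0, 0], false⟩, ⟨1, [0, 0, 0], false⟩, ⟨1, [1, 0, 1], false⟩, ⟨1, [0, -1, 0], false⟩, ⟨2, [1, 0, 1], false⟩, ⟨1, [1, 0, 0], false⟩, ⟨1, [2, 0, -1], false⟩, ⟨1, [0, -1, 0], false⟩, ⟨1, [1, 1, 1], false⟩, ⟨2, [1, 0, 0, -1], true⟩]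
def p2 : List PC := [⟨1, [1, 0, 0], false⟩, ⟨1, [1, 0, 0], false⟩, ⟨2, [1, 0, 1], false⟩, ⟨3, [2, 0, 1], false⟩, ⟨1, [1, -1, 1], false⟩, ⟨2, [1, 0, 1], false⟩, ⟨1, [-1, 1, -1], false⟩, ⟨3, [0, -1, 2], false⟩, ⟨2, [-1, 0, -1], false⟩, ⟨1, [0, -1, 0], false⟩, ⟨1, [0, 0, -1], false⟩, ⟨1, [-1, -1, 1], false⟩, ⟨2, [1, 0, 0, -1], true⟩, ⟨1, [1, 1, 1], false⟩, ⟨1, [0, 1, 0], false⟩, ⟨2, [1, 0, 1], false⟩, ⟨2, [-1, -1, 1, 1], true⟩, ⟨1, [0, 0, 1], false⟩, ⟨2, [0, 0, 0], false⟩, ⟨1, [1, 0, 0], false⟩, ⟨2, [1, 1, 0, 0], true⟩, ⟨2, [1, 0, 1], false⟩, ⟨1, [0, 0, 1], false⟩]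

def P : Bool → List ℤ := fun b => bif b then [1, 0, 0, 1] else [1, 0, -1, 0, 1]

theorem basic : TC.basic chevE7 ChevDataE7.A (rvT ChevDataE7.A) tc = true := by decide +kernel
theorem rowsOK : TC.rowsOK chevE7 ChevDataE7.A (rvT ChevDataE7.A) tc = true := by decide +kernel
theorem sepsOK : TC.sepsOK chevE7 tc = true := by decide +kernel
theorem pcOK : TC.pcOK 7 P tc p1 p2 = true := by decide +kernel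
theorem kap : kapOK Cfsg.Agent.Lib.ChevFix.cdE7 tc (chevE8.simple 7) (1) = true := by decide +kernel
theorem hW : ∀ i < chevE7.rank, ∀ s < chevE7.nroots, chevE7.reflectRoot i s = wT ChevDataE7.A i s :=
  fun i hi _ hs => (c3_facts ChevOkE7.c1 ChevOkE7.c2 hi hs (ChevOkE7.c3 i hi)).refl

theorem hR : Cfsg.Agent.Lib.ChevGood.Good.rv ChevOkE7.good = rvT ChevDataE7.A := rfl

end Cfsg.Agent.Lib.ChevTorusE7
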