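import Cfsg.Agent.Lib.ChevTorus4
import Cfsg.Agent.Lib.ChevOkE8

set_option autoImplicit false
set_option maxRecDepth 1000000

/-! Certificate of a twisted torus of type E8 (machine generated, helper40). -/

namespace Cfsg.Agent.Lib.ChevTorusE8
open Cfsg.Lie Cfsg.Agent.Lib.ChevTorus Cfsg.Agent.Lib.ChevTab

def tc : TC where
  l := [0, 1, 2, 3, 4, 5, 6, 7]
  as := [120, 66, 103, 96, 73, 89, 62, 102, 95]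
  m := [[-1, -1, 0, 0, 0, 1, 0, 0], [0, -1, -1, -1, 0, 0, 1, 1], [0, -1, -1, 0, 0, 0, 1, 0], [0, 1, 0, 0, 0, 0, -1, 0], [0, 0, 1, 0, 0, 0, 0, -1], [1, 1, 0, 0, -1, -1, 0, 1], [-1, 0, 1, 1, 1, 0, -1, -1], [1, 0, 0, 0, 0, 0, 0, 0]]
  c := [1, 1, 0, -1, -1, -1, 0, 1]
  rows := [⟨[0, 15, 21, 36, 78, 105, 169, 184, 204, 226, 234, 235, 236, 237, 238, 239, 224, 218, 203, 161, 134, 70, 55, 35, 13, 5, 4, 3, 2, 1], [-2, 0, 1, 1, 1, 0, -1, -1], [1, 0, 0, 0, 0, 0, 0, 0], 1⟩,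
    ⟨[6, 7, 14, 8, 16, 22, 37, 79, 106, 110, 170, 185, 205, 227, 219, 233, 232, 225, 231, 223, 217, 202, 160, 133, 129, 69, 54, 34, 12, 20], [-1, -1, 0, 1, 2, 1, -1, -2], [1, 0, 0, 0, 0, 0, 0, 0], 1⟩,
    ⟨[9, 17, 23, 38, 80, 56, 99, 163, 147, 174, 188, 207, 228, 220, 214, 230, 222, 216, 201, 159, 183, 140, 76, 92, 65, 51, 32, 11, 19, 25], [-1, -1, 1, 0, 2, 0, 0, -2], [1, 0, 0, 0, 0, 0, 0, 0], 1⟩,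
    ⟨[10, 18, 24, 39, 26, 40, 81, 107, 111, 114, 171, 186, 206, 194, 210, 229, 221, 215, 200, 213, 199, 158, 132, 128, 125, 68, 53, 33, 45, 29], [-2, 0, 1, 1, 1, 1, -2, -1], [1, 0, 0, 0, 0, 0, 0, 0], 1⟩,
    ⟨[27, 41, 82, 57, 100, 93, 141, 164, 148, 175, 189, 208, 195, 211, 197, 212, 198, 157, 182, 139, 146, 98, 75, 91, 64, 50, 31, 44, 28, 42], [-1, -1, 1, 1, 1, 0, -1, -1], [1, 0, 0, 0, 0, 0, 0, 0], 2⟩,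
    ⟨[30, 43, 83, 58, 46, 84, 108, 112, 115, 117, 172, 187, 152, 178, 191, 209, 196, 156, 181, 193, 155, 131, 127, 124, 122, 67, 52, 87, 61, 48], [-1, -1, 1, 1, 1, 0, 0, -2], [1, 0, 0, 0, 0, 0, 0, 0], 1⟩,
    ⟨[47, 85, 59, 101, 94, 71, 162, 135, 142, 165, 149, 176, 190, 153, 179, 192, 154, 180, 138, 145, 168, 77, 104, 97, 74, 90, 63, 49, 86, 60], [-1, 0, 0, 1, 1, 0, -1, -1], [1, 0, 0, 0, 0, 0, 0, 0], 3⟩,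
    ⟨[62, 102, 95, 72, 88, 109, 113, 116, 118, 119, 173, 136, 143, 166, 150, 177, 137, 144, 167, 151, 130, 126, 123, 121, 120, 66, 103, 96, 73, 89], [-1, 0, 1, 1, 0, 0, -1, -1], [1, 0, 0, 0, 0, 0, 0, 0], 0⟩]
  rows2 := [⟨[62, 102, 95, 72, 88, 109, 113, 116], [-4, 0, 2, 1, 0, 0, -3, -2], [1, 0, 2, 1, 0, 0, -3, -2], 0⟩,
    ⟨[102, 95, 72, 88, 109, 113, 116, 118], [0, -1, 1, -1, 1, -1, 1, -1], [1, -1, 1, -1, 1, -1, 1, -1], 0⟩,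
    ⟨[95, 72, 88, 109, 113, 116, 118, 119], [1, 1, -1, -1, -1, -1, 1, 1], [2, 1, -1, -1, -1, -1, 1, 1], 0⟩,
    ⟨[72, 88, 109, 113, 116, 118, 119, 173], [-1, 0, 0, 1, 0, 0, -1, 0], [0, 0, 0, 1, 0, 0, -1, 0], 0⟩,
    ⟨[88, 109, 113, 116, 118, 119, 173, 136], [-1, 0, 0, 0, 0, -1, 0, 0], [2, 0, 0, 0, 0, -1, 0, 0], 0⟩,
    ⟨[109, 113, 116, 118, 119, 173, 136, 143], [-3, -1, 2, 1, 1, 2, -2, -2], [-2, -1, 2, 1, 1, 2, -2, -2], 0⟩,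
    ⟨[113, 116, 118, 119, 173, 136, 143, 166], [-2, 0, 1, -2, 0, 0, 1, -1], [3, 0, 1, -2, 0, 0, 1, -1], 0⟩,
    ⟨[116, 118, 119, 173, 136, 143, 166, 150], [-1, -1, 0, 2, 1, -1, -1, 0], [0, -1, 0, 2, 1, -1, -1, 0], 0⟩,
    ⟨[118, 119, 173, 136, 143, 166, 150, 177], [-1, -1, 1, 0, 1, 0, 0, -1], [0, -1, 1, 0, 1, 0, 0, -1], 0⟩,
    ⟨[119, 173, 136, 143, 166, 150, 177, 137], [-1, 0, 0, 0, 0, 0, 0, 0], [1, 0, 0, 0, 0, 0, 0, 0], 0⟩,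
    ⟨[173, 136, 143, 166, 150, 177, 137, 144], [0, 1, -1, 0, -1, 0, 0, 1], [1, 1, -1, 0, -1, 0, 0, 1], 0⟩,
    ⟨[136, 143, 166, 150, 177, 137, 144, 167], [0, 1, 0, -2, -1, 1, 1, 0], [1, 1, 0, -2, -1, 1, 1, 0], 0⟩,
    ⟨[143, 166, 150, 177, 137, 144, 167, 151], [-3, 0, -1, 2, 0, 0, -1, 1], [2, 0, -1, 2, 0, 0, -1, 1], 0⟩,
    ⟨[166, 150, 177, 137, 144, 167, 151, 130], [2, 1, -2, -1, -1, -2, 2, 2], [3, 1, -2, -1, -1, -2, 2, 2], 0⟩,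
    ⟨[150, 177, 137, 144, 167, 151, 130, 126], [-2, 0, 0, 0, 0, 1, 0, 0], [1, 0, 0, 0, 0, 1, 0, 0], 0⟩,
    ⟨[177, 137, 144, 167, 151, 130, 126, 123], [0, 0, 0, -1, 0, 0, 1, 0], [1, 0, 0, -1, 0, 0, 1, 0], 0⟩,
    ⟨[137, 144, 167, 151, 130, 126, 123, 121], [-2, -1, 1, 1, 1, 1, -1, -1], [-1, -1, 1, 1, 1, 1, -1, -1], 0⟩,
    ⟨[144, 167, 151, 130, 126, 123, 121, 120], [-1, 1, -1, 1, -1, 1, -1, 1], [0, 1, -1, 1, -1, 1, -1, 1], 0⟩,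
    ⟨[167, 151, 130, 126, 123, 121, 120, 66], [-1, 0, -2, -1, 0, 0, 3, 2], [4, 0, -2, -1, 0, 0, 3, 2], 0⟩,
    ⟨[151, 130, 126, 123, 121, 120, 66, 103], [-1, 0, 0, 0, 0, 1, 0, 0], [0, 0, 0, 0, 0, 1, 0, 0], 0⟩,
    ⟨[130, 126, 123, 121, 120, 66, 103, 96], [-1, -1, 0, 1, 1, 0, 0, 0], [0, -1, 0, 1, 1, 0, 0, 0], 0⟩,
    ⟨[126, 123, 121, 120, 66, 103, 96, 73], [0, 0, -1, 0, 0, 0, 1, 1], [1, 0, -1, 0, 0, 0, 1, 1], 0⟩,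
    ⟨[123, 121, 120, 66, 103, 96, 73, 89], [-1, -1, 0, 0, 1, 1, 1, 0], [0, -1, 0, 0, 1, 1, 1, 0], 0⟩,
    ⟨[121, 120, 66, 103, 96, 73, 89, 62], [-1, -1, -1, 0, 1, 2, 2, 1], [0, -1, -1, 0, 1, 2, 2, 1], 0⟩,
    ⟨[66, 103, 96, 73, 89, 62, 102, 95], [0, 1, 1, 0, -1, -2, -2, -1], [1, 1, 1, 0, -1, -2, -2, -1], 0⟩,
    ⟨[103, 96, 73, 89, 62, 102, 95, 72], [0, 1, 0, 0, -1, -1, -1, 0], [1, 1, 0, 0, -1, -1, -1, 0], 0⟩,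
    ⟨[96, 73, 89, 62, 102, 95, 72, 88], [-1, 0, 1, 0, 0, 0, -1, -1], [0, 0, 1, 0, 0, 0, -1, -1], 0⟩,
    ⟨[73, 89, 62, 102, 95, 72, 88, 109], [0, 1, 0, -1, -1, 0, 0, 0], [1, 1, 0, -1, -1, 0, 0, 0], 0⟩,
    ⟨[89, 62, 102, 95, 72, 88, 109, 113], [0, 0, 0, 0, 0, -1, 0, 0], [1, 0, 0, 0, 0, -1, 0, 0], 0⟩]

theorem basic : TC.basic chevE8 ChevDataE8.A (rvT ChevDataE8.A) tc = true := by decide +kernel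
theorem rowsOK : TC.rowsOK chevE8 ChevDataE8.A (rvT ChevDataE8.A) tc = true := by decide +kernel
theorem sepsOK : TC.sepsOK chevE8 tc = true := by decide +kernel
theorem smallOK : TC.smallOK chevE8.rank tc = true := by decide +kernel
theorem hW : ∀ i < chevE8.rank, ∀ s < chevE8.nroots, chevE8.reflectRoot i s = wT ChevDataE8.A i s :=
  fun i hi _ hs => (c3_facts ChevOkE8a.c1 ChevOkE8a.c2 hi hs (ChevOkE8.c3 i hi)).refl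
theorem hR : ChevOkE8.good.rv = rvT ChevDataE8.A := rfl

end Cfsg.Agent.Lib.ChevTorusE8
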