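import Cfsg.Agent.Lib.ChevLong
import Cfsg.Agent.Lib.FratFit
import Cfsg.Agent.Lib.StPair
set_option autoImplicit false
set_option linter.unusedSectionVars false

/-!
Weakly closed subgroups of `U`.
-/

namespace Cfsg.Agent.Lib.ChevWC
open Cfsg.Lie Cfsg.Agent.Lib.ChevX Cfsg.Agent.Lib.ChevGood Cfsg.Agent.Lib.ChevRel
open Cfsg.Agent.Lib.ChevU Cfsg.Agent.Lib.ChevH Cfsg.Agent.Lib.ChevN Cfsg.Agent.Lib.ChevBN Cfsg.Agent.Lib.ChevPar
open Cfsg.Agent.Lib.ChevLong
open Cfsg.Agent.Lib.ChevBruhat (Listed)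
open scoped MatrixGroups Matrix

variable {D : ChevalleyDatum} {F : Type*} [Field F]

/-- the positive roots that are not fundamental -/
def NS (D : ChevalleyDatum) : Set ℕ := {r | D.IsPosRoot r ∧ ∀ i < D.rank, r ≠ D.simple i}

/-! ### generation of the non-fundamental root subgroups by commutators -/

def mem (a : ℕ) (L : List ℕ) : Bool := L.any (Nat.beq a)

theorem mem_iff {a : ℕ} {L : List ℕ} : mem a L = true ↔ a ∈ L := by
  unfold mem
  rw [List.any_eq_true]
  constructor
  · rintro ⟨b, hb, h⟩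
    rw [Nat.eq_of_beq_eq_true h]; exact hb
  · intro h
    exact ⟨a, h, Nat.beq_refl a⟩

def isU (C : ℤ) : Bool := decide (C = 1) || decide (C = -1)

theorem isU_iff {C : ℤ} : isU C = true ↔ C = 1 ∨ C = -1 := by
  unfold isU
  simp

/-- one step of the certificate: the kind and two positive roots -/
def step (D : ChevalleyDatum) (done : List ℕ) (k a b : ℕ) : Option (List ℕ) :=
  if Nat.ble (D.nroots / 2) a && (Nat.blt a D.nroots && (Nat.ble (D.nroots / 2) b && (Nat.blt b D.nroots && !Nat.beq a b))) then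
    match D.commTerms a b with
    | [] => none
    | (r, C, i, j) :: tl =>
      if isU C && (Nat.beq i 1 && Nat.beq j 1) then
        if Nat.beq k 0 then
          if tl.all (fun c => mem c.1 done) then some (r :: done) else none
        else match tl with
          | [] => none
          | (r2, C2, i2, j2) :: tl2 =>
            if isU C2 && ((Nat.beq i2 2 && Nat.beq j2 1) || (Nat.beq i2 1 && Nat.beq j2 2)) then
              if Nat.beq k 1 then
                if tl2.all (fun c => mem c.1 done) then some (r2 :: r :: done) else none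
              else match tl2 with
                | [] => none
                | (r3, C3, i3, j3) :: tl3 =>
                  if isU C3 && ((Nat.beq i3 (i2 + (i2 - 1)) && Nat.beq j3 (j2 + (j2 - 1))) &&
                    (tl3.all (fun c => mem c.1 done) && (D.commTerms r2 r3).isEmpty &&
                      (Nat.blt r2 D.nroots && (Nat.blt r3 D.nroots && (Nat.ble (D.nroots / 2) r2 && (Nat.ble (D.nroots / 2) r3 && !Nat.beq r2 r3)))))) then
                    some (r3 :: r2 :: r :: done)
                  else none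
            else none
      else none
  else none

def chk (D : ChevalleyDatum) : List (ℕ × ℕ × ℕ) → List ℕ → Bool
  | [], done => (List.range D.nroots).all fun r => Nat.blt r (D.nroots / 2) || (mem r done ||
      (List.range D.rank).any fun i => Nat.beq (D.simple i) r)
  | (k, a, b) :: rest, done => match step D done k a b with
    | none => false
    | some done' => chk D rest done'

section
variable (G : Good D)
include G

/-- all commutators of positive root elements lie in `M` -/
def CommM (M : Subgroup (GL D.Idx F)) : Prop := ∀ a b : ℕ, D.IsPosRoot a → D.IsPosRoot b → a ≠ b → ∀ t u : F,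
  wg D F (D.commWord F a b t u) ∈ M

omit G in
theorem wg_map_mem {M : Subgroup (GL D.Idx F)} {tl : List (ℕ × ℤ × ℕ × ℕ)}
    (h : ∀ c ∈ tl, ∀ s : F, xg D F c.1 s ∈ M) (t u : F) :
    wg D F (tl.map fun c => (c.1, (c.2.1 : F) * (-t) ^ c.2.2.1 * u ^ c.2.2.2)) ∈ M := by
  unfold wg
  apply Subgroup.list_prod_mem
  intro x hx
  rw [List.map_map] at hx
  obtain ⟨c, hc, rfl⟩ := List.mem_map.mp hx
  exact h c hc _

theorem kindB {M : Subgroup (GL D.Idx F)} (h3 : ∃ t1 t2 : F, t1 ≠ 0 ∧ t2 ≠ 0 ∧ t1 ≠ t2)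
    {r r2 : ℕ} {C C2 : F} (hC : C * C = 1) (hC2 : C2 * C2 = 1)
    (h : ∀ t v : F, t ≠ 0 → xg D F r (C * v) * xg D F r2 (C2 * (t * v)) ∈ M) :
    (∀ s, xg D F r2 s ∈ M) ∧ ∀ s, xg D F r s ∈ M := by
  obtain ⟨t1, t2, ht1, ht2, hne⟩ := h3
  have h1 : ∀ s, xg D F r2 s ∈ M := by
    intro s
    have e1 := h t1 (C2 * s / (t2 - t1)) ht1
    have e2 := h t2 (C2 * s / (t2 - t1)) ht2
    have e3 := mul_mem (inv_mem e1) e2
    have hne' : t2 - t1 ≠ 0 := sub_ne_zero.mpr hne.symm
    have e4 : (xg D F r (C * (C2 * s / (t2 - t1))) * xg D F r2 (C2 * (t1 * (C2 * s / (t2 - t1)))))⁻¹ *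
        (xg D F r (C * (C2 * s / (t2 - t1))) * xg D F r2 (C2 * (t2 * (C2 * s / (t2 - t1))))) = xg D F r2 s := by
      rw [mul_inv_rev, mul_assoc, inv_mul_cancel_left, ← xg_neg G, xg_add G]
      congr 1
      have : s = C2 * C2 * s := by rw [hC2, one_mul]
      conv_rhs => rw [this]
      field_simp
      ring
    rwa [e4] at e3
  refine ⟨h1, fun s => ?_⟩
  have e1 := h t1 (C * s) ht1
  have e2 := mul_mem e1 (inv_mem (h1 (C2 * (t1 * (C * s)))))
  rwa [mul_inv_cancel_right, ← mul_assoc, hC, one_mul] at e2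

theorem kindC {M : Subgroup (GL D.Idx F)} (h4 : ∃ t1 t2 t3 : F, t1 ≠ 0 ∧ t2 ≠ 0 ∧ t3 ≠ 0 ∧ t1 ≠ t2 ∧ t1 ≠ t3 ∧ t2 ≠ t3)
    {r r2 r3 : ℕ} {C C2 C3 : F} (hC : C * C = 1) (hC2 : C2 * C2 = 1) (hC3 : C3 * C3 = 1)
    (hcomm : ∀ s s' : F, xg D F r2 s * xg D F r3 s' = xg D F r3 s' * xg D F r2 s)
    (h : ∀ t v : F, t ≠ 0 → xg D F r (C * v) * (xg D F r2 (C2 * (t * v)) * xg D F r3 (C3 * (t * t * v))) ∈ M) :
    (∀ s, xg D F r3 s ∈ M) ∧ (∀ s, xg D F r2 s ∈ M) ∧ ∀ s, xg D F r s ∈ M := by
  obtain ⟨t1, t2, t3, ht1, ht2, ht3, h12, h13, h23⟩ := h4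
  have key : ∀ t t' : F, t ≠ 0 → t' ≠ 0 → t' ≠ t → ∀ k : F,
      xg D F r2 (C2 * k) * xg D F r3 (C3 * ((t + t') * k)) ∈ M := by
    intro t t' ht ht' hne k
    have hne' : t' - t ≠ 0 := sub_ne_zero.mpr hne
    have e1 := h t (k / (t' - t)) ht
    have e2 := h t' (k / (t' - t)) ht'
    have e3 := mul_mem (inv_mem e1) e2
    have e4 : (xg D F r (C * (k / (t' - t))) * (xg D F r2 (C2 * (t * (k / (t' - t)))) *
        xg D F r3 (C3 * (t * t * (k / (t' - t))))))⁻¹ * (xg D F r (C * (k / (t' - t))) *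
        (xg D F r2 (C2 * (t' * (k / (t' - t)))) * xg D F r3 (C3 * (t' * t' * (k / (t' - t)))))) =
        xg D F r2 (C2 * k) * xg D F r3 (C3 * ((t + t') * k)) := by
      set A := xg D F r2 (C2 * (t * (k / (t' - t)))) with hA
      set B := xg D F r3 (C3 * (t * t * (k / (t' - t)))) with hB
      set A' := xg D F r2 (C2 * (t' * (k / (t' - t)))) with hA'
      set B' := xg D F r3 (C3 * (t' * t' * (k / (t' - t)))) with hB'
      have e5 : xg D F r2 (C2 * k) = A⁻¹ * A' := by
        rw [hA, hA', ← xg_neg G, xg_add G]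
        congr 1
        field_simp
        ring
      have e6 : xg D F r3 (C3 * ((t + t') * k)) = B⁻¹ * B' := by
        rw [hB, hB', ← xg_neg G, xg_add G]
        congr 1
        field_simp
        ring
      have e7 : B⁻¹ * (A⁻¹ * A') = (A⁻¹ * A') * B⁻¹ := by
        rw [← e5, hB, ← xg_neg G, hcomm]
      rw [e5, e6]
      calc _ = B⁻¹ * (A⁻¹ * A') * B' := by group
        _ = _ := by rw [e7]; group
    rwa [e4] at e3
  have h3 : ∀ s, xg D F r3 s ∈ M := by
    intro s
    have hne' : t3 - t2 ≠ 0 := sub_ne_zero.mpr h23.symm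
    have e1 := key t1 t2 ht1 ht2 h12.symm (C3 * s / (t3 - t2))
    have e2 := key t1 t3 ht1 ht3 h13.symm (C3 * s / (t3 - t2))
    have e3 := mul_mem (inv_mem e1) e2
    rw [mul_inv_rev, mul_assoc, inv_mul_cancel_left, ← xg_neg G, xg_add G] at e3
    have e4 : -(C3 * ((t1 + t2) * (C3 * s / (t3 - t2)))) + C3 * ((t1 + t3) * (C3 * s / (t3 - t2))) = s := by
      have : s = C3 * C3 * s := by rw [hC3, one_mul]
      conv_rhs => rw [this]
      field_simp
      ring
    rwa [e4] at e3
  have h2 : ∀ s, xg D F r2 s ∈ M := by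
    intro s
    have e1 := key t1 t2 ht1 ht2 h12.symm (C2 * s)
    have e2 := mul_mem e1 (inv_mem (h3 (C3 * ((t1 + t2) * (C2 * s)))))
    rwa [mul_inv_cancel_right, ← mul_assoc, hC2, one_mul] at e2
  refine ⟨h3, h2, fun s => ?_⟩
  have e1 := h t1 (C * s) ht1
  have e2 := mul_mem e1 (inv_mem (mul_mem (h2 (C2 * (t1 * (C * s)))) (h3 (C3 * (t1 * t1 * (C * s))))))
  rwa [mul_inv_cancel_right, ← mul_assoc, hC, one_mul] at e2

theorem sq_of_isU {C : ℤ} (h : isU C = true) : (C : F) * C = 1 := by
  rcases isU_iff.mp h with rfl | rfl <;> simp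

theorem step_sound {M : Subgroup (GL D.Idx F)} (hM : CommM (D := D) M) {done done' : List ℕ} {k a b : ℕ}
    (h : step D done k a b = some done') (hdone : ∀ r ∈ done, ∀ s : F, xg D F r s ∈ M)
    (hB : k = 1 → ∃ t1 t2 : F, t1 ≠ 0 ∧ t2 ≠ 0 ∧ t1 ≠ t2)
    (hC : k ≠ 0 → k ≠ 1 → ∃ t1 t2 t3 : F, t1 ≠ 0 ∧ t2 ≠ 0 ∧ t3 ≠ 0 ∧ t1 ≠ t2 ∧ t1 ≠ t3 ∧ t2 ≠ t3) :
    ∀ r ∈ done', ∀ s : F, xg D F r s ∈ M := by
  unfold step at h
  split at h
  swap
  · cases h
  rename_i h0
  simp only [Bool.and_eq_true, Nat.ble_eq, Nat.blt_eq, Bool.not_eq_true'] at h0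
  obtain ⟨ha1, ha2, hb1, hb2, hab⟩ := h0
  have hab' : a ≠ b := Cfsg.Agent.Lib.StPair.ne_of_beq hab
  have hw := hM a b ((G.isPos_iff a).mpr ⟨ha1, ha2⟩) ((G.isPos_iff b).mpr ⟨hb1, hb2⟩) hab'
  unfold ChevalleyDatum.commWord at hw
  split at h
  · cases h
  rename_i r C i j tl hct
  rw [hct] at hw
  split at h
  swap
  · cases h
  rename_i h1
  by_cases h2 : Nat.beq k 0 = true
  · -- kind 0
    rw [if_pos h2] at h
    split at h
    swap
    · cases h
    rename_i h3
    simp only [Bool.and_eq_true] at h1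
    obtain ⟨hC0, hi, hj⟩ := h1
    have hi' := Nat.eq_of_beq_eq_true hi
    have hj' := Nat.eq_of_beq_eq_true hj
    subst hi' hj'
    simp only [Option.some.injEq] at h
    subst h
    rw [List.all_eq_true] at h3
    have htl : ∀ c ∈ tl, ∀ s : F, xg D F c.1 s ∈ M := fun c hc s => hdone _ (mem_iff.mp (h3 c hc)) s
    intro x hx s
    rw [List.mem_cons] at hx
    rcases hx with rfl | hx
    · have e1 := hw (-1) (C * s)
      rw [List.map_cons, wg_cons] at e1
      have e2 := mul_mem e1 (inv_mem (wg_map_mem htl (-1) (C * s)))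
      rw [mul_inv_cancel_right] at e2
      have e3 : (C : F) * (-(-1 : F)) ^ 1 * ((C : F) * s) ^ 1 = s := by
        have := sq_of_isU G (F := F) hC0
        linear_combination s * this
      rwa [e3] at e2
    · exact hdone x hx s
  · simp only [Bool.and_eq_true] at h1
    obtain ⟨hC0, hi, hj⟩ := h1
    have hi' := Nat.eq_of_beq_eq_true hi
    have hj' := Nat.eq_of_beq_eq_true hj
    subst hi' hj'
    rw [if_neg h2] at h
    split at h
    · cases h
    rename_i r2 C2 i2 j2 tl2
    split at h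
    swap
    · cases h
    rename_i h4
    by_cases h5 : Nat.beq k 1 = true
    · -- kind 1
      rw [if_pos h5] at h
      split at h
      swap
      · cases h
      rename_i h6
      simp only [Option.some.injEq] at h
      subst h
      simp only [Bool.and_eq_true, Bool.or_eq_true] at h4
      obtain ⟨hC2, hij⟩ := h4
      rw [List.all_eq_true] at h6
      have htl : ∀ c ∈ tl2, ∀ s : F, xg D F c.1 s ∈ M := fun c hc s => hdone _ (mem_iff.mp (h6 c hc)) s
      have hk1 : k = 1 := Nat.eq_of_beq_eq_true h5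
      have hall : ∀ t u : F, xg D F r (C * (-t) * u) * xg D F r2 (C2 * (-t) ^ i2 * u ^ j2) ∈ M := by
        intro t u
        have e1 := hw t u
        rw [List.map_cons, wg_cons, List.map_cons, wg_cons, ← mul_assoc] at e1
        have e2 := mul_mem e1 (inv_mem (wg_map_mem htl t u))
        rw [mul_inv_cancel_right] at e2
        simp only [pow_one] at e2
        exact e2
      have hres : (∀ s, xg D F r2 s ∈ M) ∧ ∀ s, xg D F r s ∈ M := by
        refine kindB G (hB hk1) (C := (C : F)) (C2 := (C2 : F)) (sq_of_isU G hC0) (sq_of_isU G hC2) fun t v ht => ?_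
        rcases hij with ⟨e1, e2⟩ | ⟨e1, e2⟩
        · have e1' := Nat.eq_of_beq_eq_true e1
          have e2' := Nat.eq_of_beq_eq_true e2
          subst e1' e2'
          have e3 := hall (-t) (v / t)
          have e4 : (C : F) * - -t * (v / t) = C * v := by field_simp
          have e5 : (C2 : F) * (- -t) ^ 2 * (v / t) ^ 1 = C2 * (t * v) := by field_simp
          rwa [e4, e5] at e3
        · have e1' := Nat.eq_of_beq_eq_true e1
          have e2' := Nat.eq_of_beq_eq_true e2
          subst e1' e2'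
          have e3 := hall (-(v / t)) t
          have e4 : (C : F) * - -(v / t) * t = C * v := by field_simp
          have e5 : (C2 : F) * (- -(v / t)) ^ 1 * t ^ 2 = C2 * (t * v) := by field_simp
          rwa [e4, e5] at e3
      intro x hx s
      simp only [List.mem_cons] at hx
      rcases hx with rfl | rfl | hx
      · exact hres.1 s
      · exact hres.2 s
      · exact hdone x hx s
    · -- kind 2
      rw [if_neg h5] at h
      simp only [Bool.and_eq_true, Bool.or_eq_true] at h4
      obtain ⟨hC2, hij⟩ := h4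
      split at h
      · cases h
      rename_i r3 C3 i3 j3 tl3
      split at h
      swap
      · cases h
      rename_i h7
      simp only [Option.some.injEq] at h
      subst h
      simp only [Bool.and_eq_true, Nat.ble_eq, Nat.blt_eq, Bool.not_eq_true'] at h7
      obtain ⟨hC3, ⟨hi3, hj3⟩, ⟨h8, h9⟩, h10, h11, h12, h13, h14⟩ := h7
      rw [List.all_eq_true] at h8
      have htl : ∀ c ∈ tl3, ∀ s : F, xg D F c.1 s ∈ M := fun c hc s => hdone _ (mem_iff.mp (h8 c hc)) s
      have hk0 : k ≠ 0 := fun hh => h2 (by rw [hh]; rfl)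
      have hk1 : k ≠ 1 := fun hh => h5 (by rw [hh]; rfl)
      have hall : ∀ t u : F, xg D F r (C * (-t) * u) * (xg D F r2 (C2 * (-t) ^ i2 * u ^ j2) *
          xg D F r3 (C3 * (-t) ^ i3 * u ^ j3)) ∈ M := by
        intro t u
        have e1 := hw t u
        rw [List.map_cons, wg_cons, List.map_cons, wg_cons, List.map_cons, wg_cons, ← mul_assoc (xg D F r2 _),
          ← mul_assoc] at e1
        have e2 := mul_mem e1 (inv_mem (wg_map_mem htl t u))
        rw [mul_inv_cancel_right] at e2
        simp only [pow_one] at e2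
        exact e2
      have hcomm : ∀ s s' : F, xg D F r2 s * xg D F r3 s' = xg D F r3 s' * xg D F r2 s := by
        intro s s'
        have hp2 : D.IsPosRoot r2 := (G.isPos_iff _).mpr ⟨h12, h10⟩
        have hp3 : D.IsPosRoot r3 := (G.isPos_iff _).mpr ⟨h13, h11⟩
        have hne : r3 ≠ r2 := fun hh => Cfsg.Agent.Lib.StPair.ne_of_beq h14 hh.symm
        have hneg : r3 ≠ D.neg r2 := by
          rintro rfl
          exact not_pos_and_neg G hp3 ((isNeg_neg_iff G h10).mpr hp2)
        have e1 := xg_comm G (F := F) h10 h11 hne hneg s s'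
        rw [e1]
        unfold ChevalleyDatum.commWord
        rw [List.isEmpty_iff.mp h9]
        simp [wg]
      have hres : (∀ s, xg D F r3 s ∈ M) ∧ (∀ s, xg D F r2 s ∈ M) ∧ ∀ s, xg D F r s ∈ M := by
        refine kindC G (hC hk0 hk1) (C := (C : F)) (C2 := (C2 : F)) (C3 := (C3 : F)) (sq_of_isU G hC0)
          (sq_of_isU G hC2) (sq_of_isU G hC3) hcomm fun t v ht => ?_
        rcases hij with ⟨e1, e2⟩ | ⟨e1, e2⟩
        · have e1' := Nat.eq_of_beq_eq_true e1
          have e2' := Nat.eq_of_beq_eq_true e2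
          subst e1' e2'
          have hi3' := Nat.eq_of_beq_eq_true hi3
          have hj3' := Nat.eq_of_beq_eq_true hj3
          subst hi3' hj3'
          have e3 := hall (-t) (v / t)
          have e4 : (C : F) * - -t * (v / t) = C * v := by field_simp
          have e5 : (C2 : F) * (- -t) ^ 2 * (v / t) ^ 1 = C2 * (t * v) := by field_simp
          have e6 : (C3 : F) * (- -t) ^ (2 + (2 - 1)) * (v / t) ^ (1 + (1 - 1)) = C3 * (t * t * v) := by
            norm_num
            field_simp
          rwa [e4, e5, e6] at e3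
        · have e1' := Nat.eq_of_beq_eq_true e1
          have e2' := Nat.eq_of_beq_eq_true e2
          subst e1' e2'
          have hi3' := Nat.eq_of_beq_eq_true hi3
          have hj3' := Nat.eq_of_beq_eq_true hj3
          subst hi3' hj3'
          have e3 := hall (-(v / t)) t
          have e4 : (C : F) * - -(v / t) * t = C * v := by field_simp
          have e5 : (C2 : F) * (- -(v / t)) ^ 1 * t ^ 2 = C2 * (t * v) := by field_simp
          have e6 : (C3 : F) * (- -(v / t)) ^ (1 + (1 - 1)) * t ^ (2 + (2 - 1)) = C3 * (t * t * v) := by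
            norm_num
            field_simp
          rwa [e4, e5, e6] at e3
      intro x hx s
      simp only [List.mem_cons] at hx
      rcases hx with rfl | rfl | rfl | hx
      · exact hres.1 s
      · exact hres.2.1 s
      · exact hres.2.2 s
      · exact hdone x hx s

/-- the certificate -/
theorem chk_sound {M : Subgroup (GL D.Idx F)} (hM : CommM (D := D) M) : ∀ (L : List (ℕ × ℕ × ℕ)) (done : List ℕ),
    chk D L done = true → (∀ r ∈ done, ∀ s : F, xg D F r s ∈ M) →
    (∀ p ∈ L, p.1 = 1 → ∃ t1 t2 : F, t1 ≠ 0 ∧ t2 ≠ 0 ∧ t1 ≠ t2) →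
    (∀ p ∈ L, p.1 ≠ 0 → p.1 ≠ 1 → ∃ t1 t2 t3 : F, t1 ≠ 0 ∧ t2 ≠ 0 ∧ t3 ≠ 0 ∧ t1 ≠ t2 ∧ t1 ≠ t3 ∧ t2 ≠ t3) →
    XS D F (NS D) ≤ M
  | [], done, h, hdone, _, _ => by
    refine XS_le fun r hr s => ?_
    unfold chk at h
    simp only [List.all_eq_true, List.mem_range, Bool.or_eq_true, Nat.blt_eq, List.any_eq_true] at h
    have hr1 := (G.isPos_iff r).mp hr.1
    rcases h r hr1.2 with h | h | ⟨i, hi, h⟩
    · omega
    · exact hdone r (mem_iff.mp h) s
    · exact absurd (Nat.eq_of_beq_eq_true h).symm (hr.2 i hi)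
  | (k, a, b) :: rest, done, h, hdone, hB, hC => by
    unfold chk at h
    split at h
    · cases h
    · rename_i done' hst
      exact chk_sound hM rest done' h (step_sound G hM hst hdone (hB _ List.mem_cons_self) (hC _ List.mem_cons_self))
        (fun p hp => hB p (List.mem_cons_of_mem _ hp)) (fun p hp => hC p (List.mem_cons_of_mem _ hp))

end

/-! ### elements of the torus -/

/-- `Σ_j m_j A_{j,r}` -/
def dot (D : ChevalleyDatum) (r : ℕ) : ℕ → List ℤ → ℤ
  | _, [] => 0
  | j, a :: m => a * D.cartan j r + dot D r (j + 1) m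

/-- the element with exponents `m` -/
noncomputable def hvec (D : ChevalleyDatum) (c : F) : ℕ → List ℤ → GL D.Idx F
  | _, [] => 1
  | j, a :: m => hg D F (D.simple j) (c ^ a) * hvec D c (j + 1) m

def nthL {α : Type*} (d : α) : List α → ℕ → α
  | [], _ => d
  | a :: _, 0 => a
  | _ :: l, n + 1 => nthL d l n

def okd (dm : ℕ) (d : ℤ) : Bool := decide (d = 1) || (Nat.beq dm 2 && decide (d = 2))

def sep (D : ChevalleyDatum) (dm : ℕ) (T : List (List (List ℤ))) : Bool :=
  (List.range D.rank).all fun i => (List.range D.rank).all fun k =>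
    Nat.ble (nthL [] (nthL [] T i) k).length D.rank && (okd dm (dot D (D.simple i) 0 (nthL [] (nthL [] T i) k)) &&
      (Nat.beq i k || decide (dot D (D.simple k) 0 (nthL [] (nthL [] T i) k) = 0)))

section
variable (G : Good D)
include G

theorem hvec_conj {r : ℕ} (hr : r < D.nroots) {c : F} (hc : c ≠ 0) : ∀ (m : List ℤ) (j : ℕ), j + m.length ≤ D.rank →
    ∀ t : F, hvec D c j m * xg D F r t * (hvec D c j m)⁻¹ = xg D F r (c ^ dot D r j m * t)
  | [], _, _, t => by simp [hvec, dot]
  | a :: m, j, hj, t => by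
    rw [List.length_cons] at hj
    have h1 := hvec_conj hr hc m (j + 1) (by omega) t
    have h2 : hvec D c j (a :: m) * xg D F r t * (hvec D c j (a :: m))⁻¹ = hg D F (D.simple j) (c ^ a) *
        (hvec D c (j + 1) m * xg D F r t * (hvec D c (j + 1) m)⁻¹) * (hg D F (D.simple j) (c ^ a))⁻¹ := by
      rw [show hvec D c j (a :: m) = hg D F (D.simple j) (c ^ a) * hvec D c (j + 1) m from rfl]
      group
    have h3 : ∑ j' ∈ Finset.range D.rank, co D (D.simple j) j' * D.cartan j' r = D.cartan j r :=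
      pr_simple G (by omega : j < D.rank)
    rw [h2, h1, hg_conj G (G.simple_lt j (by omega)) hr _ (zpow_ne_zero _ hc), h3, ← mul_assoc, ← zpow_mul,
      ← zpow_add₀ hc]
    rfl

theorem hvec_mem {c : F} (hc : c ≠ 0) : ∀ (m : List ℤ) (j : ℕ), j + m.length ≤ D.rank →
    hvec D c j m ∈ D.diagonalSubgroup F
  | [], _, _ => one_mem _
  | a :: m, j, hj => by
    rw [List.length_cons] at hj
    exact mul_mem (hg_mem G (G.simple_lt j (by omega)) (zpow_ne_zero _ hc)) (hvec_mem hc m (j + 1) (by omega))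

/-- the component at a fundamental root -/
def TT (D : ChevalleyDatum) (k : ℕ) (c : F) (u : GL D.Idx F) : Prop :=
  (xg D F (D.simple k) c)⁻¹ * u ∈ XS D F (posBut D k)

theorem TT_mul {k : ℕ} (hk : k < D.rank) {c c' : F} {u u' : GL D.Idx F} (h : TT D k c u) (h' : TT D k c' u') :
    TT D k (c + c') (u * u') := by
  unfold TT at *
  have h1 := (Subgroup.mem_normalizer_iff.mp (inv_mem (X_le_normalizer_posBut G hk
    (xg_mem_XS (F := F) (Set.mem_singleton (D.simple k)) c'))) _).mp h
  have h2 : (xg D F (D.simple k) (c + c'))⁻¹ * (u * u') = ((xg D F (D.simple k) c')⁻¹ *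
      ((xg D F (D.simple k) c)⁻¹ * u) * (xg D F (D.simple k) c')⁻¹⁻¹) * ((xg D F (D.simple k) c')⁻¹ * u') := by
    rw [← xg_add G]; group
  rw [h2]; exact mul_mem h1 h'

theorem TT_inv {k : ℕ} (hk : k < D.rank) {c : F} {u : GL D.Idx F} (h : TT D k c u) : TT D k (-c) u⁻¹ := by
  unfold TT at *
  have h1 := (Subgroup.mem_normalizer_iff.mp (X_le_normalizer_posBut G hk
    (xg_mem_XS (F := F) (Set.mem_singleton (D.simple k)) c)) _).mp (inv_mem h)
  have h2 : (xg D F (D.simple k) (-c))⁻¹ * u⁻¹ = xg D F (D.simple k) c * ((xg D F (D.simple k) c)⁻¹ * u)⁻¹ *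
      (xg D F (D.simple k) c)⁻¹ := by
    rw [xg_neg G]; group
  rw [h2]; exact h1

theorem TT_conj {k : ℕ} {c e : F} {u h : GL D.Idx F} (hh : h ∈ D.diagonalSubgroup F)
    (hc : ∀ t, h * xg D F (D.simple k) t * h⁻¹ = xg D F (D.simple k) (e * t)) (hu : TT D k c u) :
    TT D k (e * c) (h * u * h⁻¹) := by
  unfold TT at *
  have h1 := (Subgroup.mem_normalizer_iff.mp (diagonalSubgroup_le_normalizer G (fun r hr => posBut_lt r hr) hh) _).mp hu
  have h2 : (xg D F (D.simple k) (e * c))⁻¹ * (h * u * h⁻¹) = h * ((xg D F (D.simple k) c)⁻¹ * u) * h⁻¹ := by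
    rw [← hc]; group
  rw [h2]; exact h1

theorem TT_exists {k : ℕ} (hk : k < D.rank) {u : GL D.Idx F} (hu : u ∈ D.posUnipotent F) : ∃ c, TT D k c u := by
  rw [← posBut_sup G hk] at hu
  have h1 := Subgroup.coe_mul_of_right_le_normalizer_left (XS D F (posBut D k)) (D.rootSubgroup F (D.simple k))
    (by rw [rootSubgroup_eq G]; exact X_le_normalizer_posBut G hk)
  rw [← SetLike.mem_coe, h1, Set.mem_mul] at hu
  obtain ⟨v, hv, x, hx, rfl⟩ := hu
  obtain ⟨t, rfl⟩ := (mem_rootSubgroup_iff G).mp hx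
  refine ⟨t, ?_⟩
  unfold TT
  have h2 := (Subgroup.mem_normalizer_iff.mp (inv_mem (X_le_normalizer_posBut G hk
    (xg_mem_XS (F := F) (Set.mem_singleton (D.simple k)) t))) _).mp hv
  rw [inv_inv] at h2
  rwa [← mul_assoc]

theorem TT_zero {k : ℕ} {u : GL D.Idx F} : TT D k 0 u ↔ u ∈ XS D F (posBut D k) := by
  unfold TT; rw [xg_zero G, inv_one, one_mul]

theorem isClosed_posBut {k : ℕ} (hk : k < D.rank) : IsClosed G (posBut D k) := by
  intro r hr s hs m hm a b ha hb hrv
  exact (acts_posBut G hk _ (Set.mem_singleton _) s hs).2 |> fun _ => by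
    have hp := isClosed_pos G r hr.1 s hs.1 m hm a b ha hb hrv
    refine ⟨hp, ?_⟩
    rintro rfl
    -- a sum of two positive roots is not fundamental
    have h1 : ∀ l, (if l = k then (1 : ℤ) else 0) = a * G.rv r l + b * G.rv s l := fun l => by
      rw [← G.rv_simple k hk l]; exact hrv l
    have hr' := (G.isPos_iff _).mp hr.1
    have hs' := (G.isPos_iff _).mp hs.1
    have hz : ∀ (x : ℕ), x < D.nroots → D.nroots / 2 ≤ x → (∀ l, l ≠ k → G.rv x l = 0) → 1 ≤ G.rv x k := by
      intro x hx hx2 h0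
      obtain ⟨j, hj, hne⟩ := G.rv_ne_zero x hx
      have hjk : j = k := by
        by_contra h; exact hne (h0 j h)
      subst hjk
      have := G.rv_nonneg x hx hx2 j
      omega
    have e0 : ∀ l, l ≠ k → G.rv r l = 0 ∧ G.rv s l = 0 := by
      intro l hl
      have h2 := h1 l
      rw [if_neg hl] at h2
      have h3 := G.rv_nonneg r hr'.2 hr'.1 l
      have h4 := G.rv_nonneg s hs'.2 hs'.1 l
      have h5 : (1 : ℤ) ≤ a := by exact_mod_cast ha
      have h6 : (1 : ℤ) ≤ b := by exact_mod_cast hb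
      constructor <;> nlinarith
    have e1 := hz r hr'.2 hr'.1 fun l hl => (e0 l hl).1
    have e2 := hz s hs'.2 hs'.1 fun l hl => (e0 l hl).2
    have h2 := h1 k
    rw [if_pos rfl] at h2
    have h5 : (1 : ℤ) ≤ a := by exact_mod_cast ha
    have h6 : (1 : ℤ) ≤ b := by exact_mod_cast hb
    nlinarith

/-- an element with trivial fundamental components -/
theorem mem_NS {u : GL D.Idx F} (h0 : 0 < D.rank) (h : ∀ k < D.rank, u ∈ XS D F (posBut D k)) :
    u ∈ XS D F (NS D) := by
  obtain ⟨t, ht, hu⟩ := exists_normalForm G (fun r hr => hr.1) (isClosed_posBut G h0) (h 0 h0)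
  have hts : ∀ k < D.rank, t (D.simple k) = 0 := by
    intro k hk
    obtain ⟨t', ht', hu'⟩ := exists_normalForm G (fun r hr => hr.1) (isClosed_posBut G hk) (h k hk)
    rw [normalForm_unique G (hu.symm.trans hu') (simple_isPos G hk)]
    exact ht' _ fun hh => hh.2 rfl
  rw [hu]
  unfold wg
  apply Subgroup.list_prod_mem
  intro x hx
  rw [List.map_map, List.mem_map] at hx
  obtain ⟨r, hr, rfl⟩ := hx
  have hp := mem_posRoots.mp hr
  simp only [Function.comp]
  by_cases hn : r ∈ NS D
  · exact xg_mem_XS hn _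
  · have : ∃ i < D.rank, r = D.simple i := by
      by_contra hcon
      push Not at hcon
      exact hn ⟨hp, hcon⟩
    obtain ⟨i, hi, rfl⟩ := this
    rw [hts i hi, xg_zero G]; exact one_mem _

end

/-- elements of small order -/
theorem exists_pow_ne [Fintype F] {dm : ℕ} {d : ℤ} (hd : okd dm d = true) (h3 : 3 ≤ Fintype.card F)
    (h4 : dm = 2 → 4 ≤ Fintype.card F) : ∃ c : F, c ≠ 0 ∧ c ^ d ≠ 1 := by
  classical
  unfold okd at hd
  simp only [Bool.or_eq_true, decide_eq_true_eq, Bool.and_eq_true] at hd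
  rcases hd with rfl | ⟨h2, rfl⟩
  · by_contra hcon
    push Not at hcon
    have h5 : (Finset.univ : Finset F) ⊆ {0, 1} := by
      intro x _
      by_cases hx : x = 0
      · simp [hx]
      · have := hcon x hx
        rw [zpow_one] at this
        simp [this]
    have h6 := Finset.card_le_card h5
    rw [Finset.card_univ] at h6
    have h7 : ({0, 1} : Finset F).card ≤ 2 := Finset.card_le_two
    omega
  · by_contra hcon
    push Not at hcon
    have h5 : (Finset.univ : Finset F) ⊆ {0, 1, -1} := by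
      intro x _
      by_cases hx : x = 0
      · simp [hx]
      · have h7 := hcon x hx
        have h8 : x ^ (2 : ℕ) = 1 := by exact_mod_cast h7
        rw [pow_two] at h8
        rcases mul_self_eq_one_iff.mp h8 with h | h
        · simp [h]
        · simp [h]
    have h6 := Finset.card_le_card h5
    rw [Finset.card_univ] at h6
    have h7 : ({0, 1, -1} : Finset F).card ≤ 3 := Finset.card_le_three
    have := h4 (Nat.eq_of_beq_eq_true h2)
    omega

/-- additive sets stable under squares are everything -/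
theorem all_of_sq [Fintype F] {S : Set F} (hadd : ∀ a ∈ S, ∀ b ∈ S, a + b ∈ S) (hneg : ∀ a ∈ S, -a ∈ S) {c : F}
    (hc : c ∈ S) (hc0 : c ≠ 0) {d : ℤ} (hd : d = 1 ∨ d = 2) (hst : ∀ l : F, l ≠ 0 → ∀ a ∈ S, l ^ d * a ∈ S) :
    ∀ x : F, x ∈ S := by
  have h0 : (0 : F) ∈ S := by have := hadd _ hc _ (hneg _ hc); rwa [add_neg_cancel] at this
  have hst' : ∀ l : F, ∀ a ∈ S, l ^ d * a ∈ S := by
    intro l a ha
    by_cases hl : l = 0
    · rw [hl, zero_zpow _ (by omega), zero_mul]; exact h0
    · exact hst l hl a ha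
  intro x
  rcases hd with rfl | rfl
  · have := hst' (x / c) c hc
    rwa [zpow_one, div_mul_cancel₀ _ hc0] at this
  · have hsq : ∀ l : F, l ^ 2 * c ∈ S := fun l => by have := hst' l c hc; exact_mod_cast this
    by_cases h2 : (2 : F) = 0
    · haveI : CharP F 2 := CharTwo.of_one_ne_zero_of_two_eq_zero one_ne_zero h2
      obtain ⟨y, hy⟩ := FiniteField.isSquare_of_char_two (CharP.ringChar_of_prime_eq_zero Nat.prime_two (by exact_mod_cast h2) ▸ rfl : ringChar F = 2) (x / c)
      have := hsq y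
      rw [pow_two, ← hy, div_mul_cancel₀ _ hc0] at this
      exact this
    · have h3 := hadd _ (hadd _ (hsq (x / (2 * c) + 1)) _ (hneg _ (hsq (x / (2 * c))))) _ (hneg _ hc)
      have h4 : (x / (2 * c) + 1) ^ 2 * c + -((x / (2 * c)) ^ 2 * c) + -c = x := by
        field_simp
        ring
      rwa [h4] at h3

/-! ### the theorem -/

section
variable (G : Good D)
include G

theorem TT_unique {k : ℕ} (hk : k < D.rank) {c c' : F} {u : GL D.Idx F} (h : TT D k c u) (h' : TT D k c' u) :
    c = c' := by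
  have h1 := TT_mul G hk h (TT_inv G hk h')
  rw [mul_inv_cancel] at h1
  unfold TT at h1
  rw [mul_one, ← xg_neg G] at h1
  by_contra hne
  have h2 : -(c + -c') ≠ 0 := by
    intro h3; apply hne
    linear_combination -h3
  obtain ⟨t, ht, hu⟩ := exists_normalForm G (fun r hr => hr.1) (isClosed_posBut G hk) h1
  have h3 : xg D F (D.simple k) (-(c + -c')) ∈ XS D F {r | D.IsPosRoot r} := xg_mem_XS (simple_isPos G hk) _
  have h4 : IsClosed G ({D.simple k} : Set ℕ) := by
    intro r hr s hs m hm a b ha hb hrv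
    rw [Set.mem_singleton_iff] at hr hs
    subst hr; subst hs
    exfalso
    -- `m = (a + b) α_k` is not a root
    have e1 : ∀ l, G.rv m l = if l = k then ((a : ℤ) + b) else 0 := fun l => by
      rw [hrv l, G.rv_simple k hk l]; split_ifs <;> ring
    have hpos : D.nroots / 2 ≤ m := by
      by_contra hneg
      push Not at hneg
      have h5 := neg_lt G hm
      have h6 := (isPos_neg_iff G hm).mpr ((G.isNeg_iff m).mpr hneg)
      have h7 := (G.isPos_iff _).mp h6
      have h8 := G.rv_nonneg _ h7.2 h7.1 k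
      rw [G.rv_neg m hm, e1 k, if_pos rfl] at h8
      have h9 : (1 : ℤ) ≤ a := by exact_mod_cast ha
      have h10 : (1 : ℤ) ≤ b := by exact_mod_cast hb
      omega
    by_cases hmk : m = D.simple k
    · have e2 := e1 k
      rw [hmk, G.rv_simple k hk, if_pos rfl, if_pos rfl] at e2
      have h9 : (1 : ℤ) ≤ a := by exact_mod_cast ha
      have h10 : (1 : ℤ) ≤ b := by exact_mod_cast hb
      omega
    · have h5 := G.w_pos k hk m hm hpos hmk
      have h6 := G.rv_nonneg _ (G.w_lt k hk m hm) h5 k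
      rw [G.rv_w k hk m hm, if_pos rfl, G.ca_lin k hk m hm, Finset.sum_eq_single k, e1 k, if_pos rfl,
        G.ca_simple k hk] at h6
      · have h9 : (1 : ℤ) ≤ a := by exact_mod_cast ha
        have h10 : (1 : ℤ) ≤ b := by exact_mod_cast hb
        omega
      · intro l _ hl
        rw [e1 l, if_neg hl, zero_mul]
      · intro h; exact absurd (Finset.mem_range.mpr hk) h
  obtain ⟨t', ht', hu'⟩ := exists_normalForm G (S := {D.simple k})
    (by intro r hr; rw [Set.mem_singleton_iff.mp hr]; exact simple_isPos G hk) h4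
    (xg_mem_XS (F := F) (Set.mem_singleton (D.simple k)) (-(c + -c')))
  have h5 := normalForm_unique G (hu.symm.trans hu') (simple_isPos G hk)
  rw [ht _ (fun hh => hh.2 rfl)] at h5
  apply h2
  -- all coefficients vanish
  have h6 : wg D F (D.posRoots.map fun r => (r, t' r)) = 1 := by
    unfold wg
    rw [List.map_map]
    apply List.prod_eq_one
    intro x hx
    rw [List.mem_map] at hx
    obtain ⟨r, _, rfl⟩ := hx
    simp only [Function.comp]
    by_cases hr : r = D.simple k
    · rw [hr, ← h5, xg_zero G]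
    · rw [ht' r (by rw [Set.mem_singleton_iff]; exact hr), xg_zero G]
  rw [h6] at hu'
  exact (xg_eq_one_iff G (G.simple_lt k hk) _).mp hu'

/-- separating the components: starting from an element of `X` with nontrivial `i`-th component -/
theorem separate [Fintype F] {dm : ℕ} {T : List (List (List ℤ))} (hT : sep D dm T = true)
    (h3 : 3 ≤ Fintype.card F) (h4 : dm = 2 → 4 ≤ Fintype.card F) {X : Subgroup (GL D.Idx F)}
    (hXU : X ≤ D.posUnipotent F) (hH : ∀ h ∈ D.diagonalSubgroup F, ∀ x ∈ X, h * x * h⁻¹ ∈ X) {i : ℕ} (hi : i < D.rank) :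
    ∀ n : ℕ, n ≤ D.rank → (∃ x ∈ X, ∃ c : F, c ≠ 0 ∧ TT D i c x) →
      ∃ x ∈ X, (∃ c : F, c ≠ 0 ∧ TT D i c x) ∧ ∀ k < n, k ≠ i → TT D k 0 x := by
  unfold sep at hT
  simp only [List.all_eq_true, List.mem_range, Bool.and_eq_true, Nat.ble_eq, Bool.or_eq_true, decide_eq_true_eq] at hT
  intro n
  induction n with
  | zero => rintro - ⟨x, hx, c, hc, h⟩; exact ⟨x, hx, ⟨c, hc, h⟩, fun k hk => absurd hk (by omega)⟩
  | succ n ih =>
    intro hn hex
    obtain ⟨x, hx, ⟨c, hc, hxc⟩, h0⟩ := ih (by omega) hex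
    by_cases hni : n = i
    · refine ⟨x, hx, ⟨c, hc, hxc⟩, fun k hk hki => h0 k (by omega) hki⟩
    · obtain ⟨hlen, hd, hk0⟩ := hT i hi n (by omega)
      set m := nthL [] (nthL [] T i) n with hm
      obtain ⟨e, he, he1⟩ := exists_pow_ne (F := F) hd h3 h4
      have hh := hvec_mem G he m 0 (by omega)
      have hconj := fun (r : ℕ) (hr : r < D.nroots) (t : F) => hvec_conj G hr he m 0 (by omega) t
      set h := hvec D e 0 m with hhdef
      refine ⟨h * x * h⁻¹ * x⁻¹, mul_mem (hH h hh x hx) (inv_mem hx), ⟨e ^ dot D (D.simple i) 0 m * c + -c, ?_, ?_⟩, ?_⟩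
      · intro hz
        have : (e ^ dot D (D.simple i) 0 m - 1) * c = 0 := by linear_combination hz
        rcases mul_eq_zero.mp this with h' | h'
        · exact he1 (sub_eq_zero.mp h')
        · exact hc h'
      · exact TT_mul G hi (TT_conj G hh (hconj _ (G.simple_lt i hi)) hxc) (TT_inv G hi hxc)
      · intro k hk hki
        have hkr : k < D.rank := by omega
        by_cases hkn : k = n
        · subst hkn
          obtain ⟨b, hb⟩ := TT_exists G hkr (hXU hx)
          have h5 := TT_mul G hkr (TT_conj G hh (hconj _ (G.simple_lt k hkr)) hb) (TT_inv G hkr hb)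
          have h6 : dot D (D.simple k) 0 m = 0 := by
            rcases hk0 with h7 | h7
            · exact absurd (Nat.eq_of_beq_eq_true h7).symm hki
            · exact h7
          rw [h6, zpow_zero, one_mul, add_neg_cancel] at h5
          exact h5
        · have h5 := h0 k (by omega) hki
          have h6 := TT_mul G hkr (TT_conj G hh (hconj _ (G.simple_lt k hkr)) h5) (TT_inv G hkr h5)
          rw [mul_zero, neg_zero, add_zero] at h6
          exact h6

/-- `X XS(NS)` contains the fundamental root subgroup -/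
theorem simple_mem_sup [Fintype F] {dm : ℕ} {T : List (List (List ℤ))} (hT : sep D dm T = true)
    (h3 : 3 ≤ Fintype.card F) (h4 : dm = 2 → 4 ≤ Fintype.card F) {X : Subgroup (GL D.Idx F)}
    (hXU : X ≤ D.posUnipotent F) (hH : ∀ h ∈ D.diagonalSubgroup F, ∀ x ∈ X, h * x * h⁻¹ ∈ X) {i : ℕ} (hi : i < D.rank)
    (hex : ∃ x ∈ X, x ∉ XS D F (posBut D i)) (t : F) : xg D F (D.simple i) t ∈ X ⊔ XS D F (NS D) := by
  have hex' : ∃ x ∈ X, ∃ c : F, c ≠ 0 ∧ TT D i c x := by
    obtain ⟨x, hx, hx'⟩ := hex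
    obtain ⟨c, hc⟩ := TT_exists G hi (hXU hx)
    refine ⟨x, hx, c, ?_, hc⟩
    rintro rfl
    exact hx' ((TT_zero G).mp hc)
  obtain ⟨x, hx, ⟨c, hc, hxc⟩, h0⟩ := separate G hT h3 h4 hXU hH hi D.rank le_rfl hex'
  have hNSlt : ∀ r ∈ NS D, r < D.nroots := fun r hr => hr.1.1
  have h5 : (xg D F (D.simple i) c)⁻¹ * x ∈ XS D F (NS D) := by
    refine mem_NS G (by omega) fun k hk => ?_
    by_cases hki : k = i
    · subst hki; exact hxc
    · refine mul_mem (inv_mem (xg_mem_XS (S := posBut D k) ⟨simple_isPos G hi, fun h => hki ?_⟩ _)) ((TT_zero G).mp (h0 k hk hki))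
      exact (simple_inj G hi hk h).symm
  set M := X ⊔ XS D F (NS D) with hM
  have hcM : xg D F (D.simple i) c ∈ M := by
    have h6 : xg D F (D.simple i) c = x * ((xg D F (D.simple i) c)⁻¹ * x)⁻¹ := by group
    rw [h6]
    exact mul_mem (Subgroup.mem_sup_left hx) (Subgroup.mem_sup_right (inv_mem h5))
  have hHM : ∀ h ∈ D.diagonalSubgroup F, ∀ y ∈ M, h * y * h⁻¹ ∈ M := by
    intro h hh
    have h6 : M ≤ M.comap (MulAut.conj h).toMonoidHom := by
      conv_lhs => rw [hM]
      refine sup_le (fun y hy => ?_) (fun y hy => ?_)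
      · rw [Subgroup.mem_comap]; exact Subgroup.mem_sup_left (hH h hh y hy)
      · rw [Subgroup.mem_comap]
        exact Subgroup.mem_sup_right ((Subgroup.mem_normalizer_iff.mp (diagonalSubgroup_le_normalizer G hNSlt hh) y).mp hy)
    intro y hy
    exact h6 hy
  unfold sep at hT
  simp only [List.all_eq_true, List.mem_range, Bool.and_eq_true, Nat.ble_eq, Bool.or_eq_true, decide_eq_true_eq] at hT
  obtain ⟨hlen, hd, -⟩ := hT i hi i hi
  set m := nthL [] (nthL [] T i) i with hm
  have hd' : dot D (D.simple i) 0 m = 1 ∨ dot D (D.simple i) 0 m = 2 := by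
    unfold okd at hd
    simp only [Bool.or_eq_true, decide_eq_true_eq, Bool.and_eq_true] at hd
    tauto
  refine all_of_sq (S := {t | xg D F (D.simple i) t ∈ M}) (fun a ha b hb => ?_) (fun a ha => ?_) hcM hc hd'
    (fun l hl a ha => ?_) t
  · change xg D F (D.simple i) (a + b) ∈ M
    rw [← xg_add G]; exact mul_mem ha hb
  · change xg D F (D.simple i) (-a) ∈ M
    rw [xg_neg G]; exact inv_mem ha
  · change xg D F (D.simple i) _ ∈ M
    rw [← hvec_conj G (G.simple_lt i hi) hl m 0 (by omega)]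
    exact hHM _ (hvec_mem G hl m 0 (by omega)) _ ha

/-- the longest element of `W_J` -/
theorem exists_longestJ (J : Set ℕ) : ∃ w : List ℕ, Valid D w ∧ (∀ i ∈ w, i ∈ J) ∧
    ∀ s, D.IsPosRoot s → D.InRootSub J s → D.IsNegRoot (wr D w s) := by
  by_contra hcon
  push Not at hcon
  have key : ∀ k : ℕ, ∃ w : List ℕ, Valid D w ∧ (∀ i ∈ w, i ∈ J) ∧ k ≤ nneg D w := by
    intro k
    induction k with
    | zero => exact ⟨[], valid_nil, by simp, Nat.zero_le _⟩
    | succ k ih =>
      obtain ⟨w, hw, hwJ, hk⟩ := ih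
      obtain ⟨s, hs, hsJ, hs'⟩ := hcon w hw hwJ
      have h1 : ∃ i < D.rank, i ∈ J ∧ D.IsPosRoot (wr D w (D.simple i)) := by
        by_contra h2
        push Not at h2
        apply hs'
        have hws := wr_lt G hw hs.1
        rcases pos_or_neg G hws with h3 | h3
        · exfalso
          have h4 := (G.isPos_iff _).mp h3
          have hs1 := (G.isPos_iff _).mp hs
          obtain ⟨j, hj, hne⟩ := G.rv_ne_zero _ hws
          have h5 := G.rv_nonneg _ h4.2 h4.1 j
          have h6 : G.rv (wr D w s) j ≤ 0 := by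
            rw [rv_wr_lin G hw hs.1 j]
            refine Finset.sum_nonpos fun i hi => ?_
            have hir := Finset.mem_range.mp hi
            by_cases hiJ : i ∈ J
            · have h7 := (pos_or_neg G (wr_lt G hw (G.simple_lt i hir))).resolve_left (h2 i hir hiJ)
              have h8 := (isPos_neg_iff G (wr_lt G hw (G.simple_lt i hir))).mpr h7
              have h9 := (G.isPos_iff _).mp h8
              have h10 := G.rv_nonneg _ h9.2 h9.1 j
              rw [G.rv_neg _ (wr_lt G hw (G.simple_lt i hir))] at h10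
              have h11 := G.rv_nonneg s hs1.2 hs1.1 i
              nlinarith
            · rw [(inRootSub_iff G hs.1).mp hsJ i hir hiJ, zero_mul]
          omega
        · exact h3
      obtain ⟨i, hi, hiJ, h3⟩ := h1
      exact ⟨w ++ [i], hw.append (valid_single hi), by
        intro j hj
        rw [List.mem_append, List.mem_singleton] at hj
        rcases hj with hj | rfl
        · exact hwJ j hj
        · exact hiJ, by have := nneg_lt G hw hi h3; omega⟩
  obtain ⟨w, hw, -, hk⟩ := key (D.nroots + 1)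
  have h1 : nneg D w ≤ D.nroots := by
    unfold nneg
    exact (Finset.card_filter_le _ _).trans (by simp)
  omega

theorem U_nilpotent_gen [Fintype F] {M : Subgroup (GL D.Idx F)} (hM : M ≤ D.posUnipotent F)
    (h : D.posUnipotent F ≤ ((M.subgroupOf (D.posUnipotent F)) ⊔ commutator ↥(D.posUnipotent F)).map
      (D.posUnipotent F).subtype) : M = D.posUnipotent F := by
  haveI : Finite ↥(D.posUnipotent F) := inferInstance
  have h1 : (M.subgroupOf (D.posUnipotent F)) ⊔ commutator ↥(D.posUnipotent F) = ⊤ := by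
    rw [eq_top_iff]
    intro x _
    obtain ⟨y, hy, hyx⟩ := h x.2
    have : y = x := Subtype.ext hyx
    rwa [← this]
  have h2 := Cfsg.Agent.Lib.FratFit.commutator_le_frattini (isNilpotent_posUnipotent (F := F) G)
  have h3 : (M.subgroupOf (D.posUnipotent F)) ⊔ frattini ↥(D.posUnipotent F) = ⊤ := by
    rw [eq_top_iff, ← h1]
    exact sup_le_sup_left h2 _
  have h4 := frattini_nongenerating h3
  refine le_antisymm hM ?_
  intro x hx
  have : (⟨x, hx⟩ : ↥(D.posUnipotent F)) ∈ M.subgroupOf (D.posUnipotent F) := by rw [h4]; trivial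
  exact this

/-- weakly closed subgroups of `U` -/
theorem weakly_closed [Fintype F] {L : List (ℕ × ℕ × ℕ)} (hL : chk D L [] = true) {dm : ℕ}
    {T : List (List (List ℤ))} (hT : sep D dm T = true) (h3 : 3 ≤ Fintype.card F)
    (h4 : dm = 2 → 4 ≤ Fintype.card F) (hLk : ∀ p ∈ L, p.1 ≠ 0 → p.1 ≠ 1 → 4 ≤ Fintype.card F)
    {X : Subgroup (GL D.Idx F)} (hXU : X ≤ D.posUnipotent F)
    (hwc : ∀ g ∈ D.group F, X.map (MulAut.conj g).toMonoidHom ≤ D.posUnipotent F →
      X.map (MulAut.conj g).toMonoidHom = X) :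
    ∃ J : Set ℕ, (∀ j ∈ J, j < D.rank) ∧ X = D.unipotentRadical F J := by
  classical
  have hwc' : ∀ g ∈ D.group F, (∀ x ∈ X, g * x * g⁻¹ ∈ D.posUnipotent F) → ∀ x ∈ X, g * x * g⁻¹ ∈ X := by
    intro g hg h x hx
    have h1 := hwc g hg (by rintro _ ⟨y, hy, rfl⟩; exact h y hy)
    rw [← h1]
    exact ⟨x, hx, rfl⟩
  have hBX : ∀ b ∈ D.borelSubgroup F, ∀ x ∈ X, b * x * b⁻¹ ∈ X := by
    intro b hb
    refine hwc' b (B_le_group G hb) fun x hx => ?_
    obtain ⟨u, hu, h, hh, rfl⟩ := (mem_borel_iff G).mp hb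
    have h1 := (Subgroup.mem_normalizer_iff.mp (diagonal_le_normalizer_U G (F := F) hh) x).mp (hXU hx)
    have h2 : u * h * x * (u * h)⁻¹ = u * (h * x * h⁻¹) * u⁻¹ := by group
    rw [h2]
    exact mul_mem (mul_mem hu h1) (inv_mem hu)
  have hBn : D.borelSubgroup F ≤ Subgroup.normalizer (X : Set (GL D.Idx F)) := by
    intro b hb
    rw [Subgroup.mem_normalizer_iff]
    intro x
    refine ⟨hBX b hb x, fun h => ?_⟩
    have h1 := hBX b⁻¹ (inv_mem hb) _ h
    have h2 : b⁻¹ * (b * x * b⁻¹) * b⁻¹⁻¹ = x := by group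
    rwa [h2] at h1
  set J : Set ℕ := {j | j < D.rank ∧ ng D F (D.simple j) 1 ∈ Subgroup.normalizer (X : Set (GL D.Idx F))} with hJ
  have hout : ∀ i < D.rank, i ∉ J → ∃ x ∈ X, x ∉ XS D F (posBut D i) := by
    intro i hi hiJ
    by_contra hcon
    push Not at hcon
    apply hiJ
    refine ⟨hi, ?_⟩
    have h1 := ng_mem_normalizer_posBut G (F := F) hi
    have hg := ng_mem_group G (F := F) (G.simple_lt i hi) 1
    have hsub : XS D F (posBut D i) ≤ D.posUnipotent F := by
      rw [posUnipotent_eq G]; exact XS_mono fun r hr => hr.1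
    have e1 := hwc' _ hg fun x hx => hsub ((Subgroup.mem_normalizer_iff.mp h1 x).mp (hcon x hx))
    have e2 := hwc' _ (inv_mem hg) fun x hx => hsub ((Subgroup.mem_normalizer_iff.mp (inv_mem h1) x).mp (hcon x hx))
    rw [Subgroup.mem_normalizer_iff]
    intro x
    refine ⟨e1 x, fun h => ?_⟩
    have h2 := e2 _ h
    have h5 : (ng D F (D.simple i) 1)⁻¹ * (ng D F (D.simple i) 1 * x * (ng D F (D.simple i) 1)⁻¹) *
      (ng D F (D.simple i) 1)⁻¹⁻¹ = x := by group
    rwa [h5] at h2
  refine ⟨J, fun j hj => hj.1, ?_⟩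
  rw [unipotentRadical_eq G]
  have hlevi := levi G (F := F) J
  -- the positive roots of the Levi subsystem
  set ΦJ : Set ℕ := {r | D.IsPosRoot r ∧ D.InRootSub J r} with hΦJ
  have hXS_P : XS D F ΦJ ≤ D.parabolicSubgroup F J := XS_le fun r hr t => xg_mem_P G hr.2 t
  have hXQ : X ≤ XS D F (Psi D J) := by
    intro x hx
    have hxU := hXU hx
    have h1 : D.posUnipotent F ≤ XS D F (Psi D J) ⊔ XS D F ΦJ := by
      rw [posUnipotent_eq G]
      refine XS_le fun r hr t => ?_
      by_cases h : D.InRootSub J r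
      · exact Subgroup.mem_sup_right (xg_mem_XS (show r ∈ ΦJ from ⟨hr, h⟩) t)
      · exact Subgroup.mem_sup_left (xg_mem_XS (show r ∈ Psi D J from ⟨hr, h⟩) t)
    have h2 := Subgroup.coe_mul_of_right_le_normalizer_left (XS D F (Psi D J)) (XS D F ΦJ)
      (hXS_P.trans (P_le_normalizer G J))
    have h5 := h1 hxU
    rw [← SetLike.mem_coe, h2, Set.mem_mul] at h5
    obtain ⟨q, hq, l, hl, rfl⟩ := h5
    obtain ⟨w, hw, hwJ, hneg⟩ := exists_longestJ G J
    have hnX : ∀ w : List ℕ, Valid D w → (∀ i ∈ w, i ∈ J) →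
        nwd D F w ∈ Subgroup.normalizer (X : Set (GL D.Idx F)) ∧ nwd D F w ∈ D.parabolicSubgroup F J := by
      intro w
      induction w with
      | nil => intro _ _; exact ⟨one_mem _, one_mem _⟩
      | cons i w ih =>
        intro hw hwJ
        obtain ⟨e1, e2⟩ := ih hw.cons.2 fun j hj => hwJ j (List.mem_cons_of_mem _ hj)
        have hi := hwJ i List.mem_cons_self
        rw [nwd_cons]
        exact ⟨mul_mem hi.2 e1, mul_mem (ng_mem_P G hi hi.1) e2⟩
    obtain ⟨hn1, hn2⟩ := hnX w hw hwJ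
    set n := nwd D F w
    have e1 : n * (q * l) * n⁻¹ ∈ D.posUnipotent F := hXU ((Subgroup.mem_normalizer_iff.mp hn1 _).mp hx)
    have e2 : n * q * n⁻¹ ∈ XS D F (Psi D J) :=
      (Subgroup.mem_normalizer_iff.mp (P_le_normalizer G J hn2) _).mp hq
    have hQU : XS D F (Psi D J) ≤ D.posUnipotent F := by
      rw [posUnipotent_eq G]; exact XS_mono fun r hr => hr.1
    have e3 : n * l * n⁻¹ ∈ D.posUnipotent F := by
      have : n * l * n⁻¹ = (n * q * n⁻¹)⁻¹ * (n * (q * l) * n⁻¹) := by group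
      rw [this]; exact mul_mem (inv_mem (hQU e2)) e1
    have e4 : n * l * n⁻¹ ∈ D.negUnipotent F := by
      rw [negUnipotent_eq G]
      refine conj_XS_mem (fun s hs u => ?_) hl
      obtain ⟨ε, -, h1, -⟩ := nwd_conj G (F := F) hw hs.1.1
      rw [h1]
      exact xg_mem_XS (show wr D w s ∈ {r | D.IsNegRoot r} from hneg s hs.1 hs.2) _
    have e5 : n * l * n⁻¹ = 1 := by
      rw [← Subgroup.mem_bot, ← B_inf_V G]
      exact ⟨U_le_B e3, e4⟩
    have e6 : l = 1 := by
      have : l = n⁻¹ * (n * l * n⁻¹) * n := by group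
      rw [this, e5]; group
    rw [e6, mul_one]; exact hq
  refine le_antisymm hXQ ?_
  -- `U = X ⟨X_{α_j} : j ∈ J⟩`
  set SJ : Set ℕ := {r | ∃ j ∈ J, r = D.simple j} with hSJ
  have hSJpos : ∀ r ∈ SJ, D.IsPosRoot r := by rintro _ ⟨j, hj, rfl⟩; exact simple_isPos G hj.1
  have hU : X ⊔ XS D F SJ = D.posUnipotent F := by
    apply U_nilpotent_gen G
    · refine sup_le hXU ?_
      rw [posUnipotent_eq G]; exact XS_mono hSJpos
    · set M1 := ((((X ⊔ XS D F SJ).subgroupOf (D.posUnipotent F)) ⊔ commutator ↥(D.posUnipotent F)).map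
        (D.posUnipotent F).subtype) with hM1
      have hle1 : X ⊔ XS D F SJ ≤ M1 := by
        intro x hx
        have hxU : x ∈ D.posUnipotent F := (sup_le hXU (by rw [posUnipotent_eq G]; exact XS_mono hSJpos) :
          X ⊔ XS D F SJ ≤ D.posUnipotent F) hx
        exact ⟨⟨x, hxU⟩, Subgroup.mem_sup_left hx, rfl⟩
      have hcomm : CommM (D := D) M1 := by
        intro a b ha hb hab t u
        have hneg : b ≠ D.neg a := by
          rintro rfl
          exact not_pos_and_neg G hb ((isNeg_neg_iff G ha.1).mpr ha)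
        have h1 := xg_comm G (F := F) ha.1 hb.1 hab.symm hneg t u
        have hxa : xg D F a t ∈ D.posUnipotent F := by rw [posUnipotent_eq G]; exact xg_mem_XS ha t
        have hxb : xg D F b u ∈ D.posUnipotent F := by rw [posUnipotent_eq G]; exact xg_mem_XS hb u
        have hc : (⟨(xg D F b u)⁻¹, inv_mem hxb⟩ : ↥(D.posUnipotent F)) * ⟨(xg D F a t)⁻¹, inv_mem hxa⟩ *
            (⟨(xg D F b u)⁻¹, inv_mem hxb⟩ : ↥(D.posUnipotent F))⁻¹ *
            (⟨(xg D F a t)⁻¹, inv_mem hxa⟩ : ↥(D.posUnipotent F))⁻¹ ∈ commutator ↥(D.posUnipotent F) := by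
          have := Subgroup.commutator_mem_commutator
            (Subgroup.mem_top (⟨(xg D F b u)⁻¹, inv_mem hxb⟩ : ↥(D.posUnipotent F)))
            (Subgroup.mem_top (⟨(xg D F a t)⁻¹, inv_mem hxa⟩ : ↥(D.posUnipotent F)))
          rw [commutatorElement_def] at this
          exact this
        refine ⟨_, Subgroup.mem_sup_right hc, ?_⟩
        change (xg D F b u)⁻¹ * (xg D F a t)⁻¹ * (xg D F b u)⁻¹⁻¹ * (xg D F a t)⁻¹⁻¹ = _
        rw [inv_inv, inv_inv, mul_assoc _ (xg D F b u), h1]
        group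
      have hNS : XS D F (NS D) ≤ M1 := by
        refine chk_sound G hcomm L [] hL (by simp) (fun p _ _ => ?_) (fun p hp h0 h1 => ?_)
        · -- two distinct nonzero elements
          have : 2 < (Finset.univ : Finset F).card := by rw [Finset.card_univ]; omega
          obtain ⟨a, b, c, -, -, -, hab, hac, hbc⟩ := Finset.two_lt_card_iff.mp this
          by_cases ha : a = 0
          · exact ⟨b, c, fun h => hab (by rw [ha, h]), fun h => hac (by rw [ha, h]), hbc⟩
          · by_cases hb : b = 0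
            · exact ⟨a, c, ha, fun h => hbc (by rw [hb, h]), hac⟩
            · exact ⟨a, b, ha, hb, hab⟩
        · have h5 := hLk p hp h0 h1
          have : 3 ≤ ((Finset.univ : Finset F).erase 0).card := by
            rw [Finset.card_erase_of_mem (Finset.mem_univ _), Finset.card_univ]; omega
          obtain ⟨a, b, c, ha, hb, hc, hab, hac, hbc⟩ := Finset.two_lt_card_iff.mp this
          exact ⟨a, b, c, (Finset.mem_erase.mp ha).1, (Finset.mem_erase.mp hb).1, (Finset.mem_erase.mp hc).1,
            hab, hac, hbc⟩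
      rw [posUnipotent_eq G]
      refine XS_le fun r hr t => ?_
      by_cases hn : r ∈ NS D
      · exact hNS (xg_mem_XS hn t)
      · have : ∃ i < D.rank, r = D.simple i := by
          by_contra hcon
          push Not at hcon
          exact hn ⟨hr, hcon⟩
        obtain ⟨i, hi, rfl⟩ := this
        by_cases hiJ : i ∈ J
        · exact hle1 (Subgroup.mem_sup_right (xg_mem_XS (show D.simple i ∈ SJ from ⟨i, hiJ, rfl⟩) t))
        · have h5 := simple_mem_sup G hT h3 h4 hXU (fun h hh x hx => hBX h (H_le_B hh) x hx) hi (hout i hi hiJ) t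
          exact (sup_le (le_sup_left.trans hle1) hNS : X ⊔ XS D F (NS D) ≤ M1) h5
  intro q hq
  have hqU : q ∈ D.posUnipotent F := by
    rw [posUnipotent_eq G]; exact XS_mono (fun r hr => hr.1) hq
  have h5 := Subgroup.coe_mul_of_right_le_normalizer_left X (XS D F SJ)
    ((show XS D F SJ ≤ D.borelSubgroup F from
      (show XS D F SJ ≤ D.posUnipotent F from by rw [posUnipotent_eq G]; exact XS_mono hSJpos).trans U_le_B).trans hBn)
  rw [← hU, ← SetLike.mem_coe, h5, Set.mem_mul] at hqU
  obtain ⟨x, hx, l, hl, rfl⟩ := hqU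
  have e1 : l ∈ XS D F (Psi D J) := by
    have : l = x⁻¹ * (x * l) := by group
    rw [this]; exact mul_mem (inv_mem (hXQ hx)) hq
  have e2 : l ∈ D.leviSubgroup F J := by
    rw [leviSubgroup_eq G]
    refine Subgroup.mem_sup_right (XS_mono ?_ hl)
    rintro _ ⟨j, hj, rfl⟩
    exact simple_inRootSub G hj.1 hj
  have e3 : l = 1 := by
    rw [← Subgroup.mem_bot, ← hlevi.2.2, unipotentRadical_eq G]
    exact ⟨e1, e2⟩
  rw [e3, mul_one]; exact hx

end

end Cfsg.Agent.Lib.ChevWC
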