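import Cfsg.Agent.Lib.ChevWC
set_option autoImplicit false
set_option maxRecDepth 100000

/-!
Certificates for the weakly closed subgroups of `U`.
-/

namespace Cfsg.Agent.Lib.ChevWCData
open Cfsg.Lie Cfsg.Agent.Lib.ChevWC

def LG2 : List (ℕ × ℕ × ℕ) := [(0, 6, 10), (2, 6, 7)]
theorem cG2 : chk chevG2 LG2 [] = true := by decide +kernel
def SG2 : List (List (List ℤ)) := [[[0, -1], [2, 3]], [[1, 2], [-1, -1]]]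
theorem sG2 : sep chevG2 2 SG2 = true := by decide +kernel

def LB2 : List (ℕ × ℕ × ℕ) := [(1, 4, 5)]
theorem cB2 : chk chevB2 LB2 [] = true := by decide +kernel
def SB2 : List (List (List ℤ)) := [[[0, -1], [1, 1]], [[1, 2], [-1, 0]]]
theorem sB2 : sep chevB2 2 SB2 = true := by decide +kernel

def LD4 : List (ℕ × ℕ × ℕ) := [(0, 12, 14), (0, 12, 16), (0, 12, 19), (0, 12, 21), (0, 13, 14), (0, 13, 19), (0, 14, 18), (0, 14, 22)]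
theorem cD4 : chk chevD4 LD4 [] = true := by decide +kernel
def SD4 : List (List (List ℤ)) := [[[0, -1, 0, 0], [0, -1, -2, 0], [1, 0, 0, 0], [1, 0, 0, 0]], [[0, 0, -1, 0], [-1, 0, 0, 0], [-1, 0, 0, 0], [-1, 0, 0, 0]], [[0, 0, 1, 0], [-2, -1, 0, 0], [0, -1, 0, 0], [0, 0, 1, 0]], [[0, 0, 0, 1], [-2, -1, 0, 0], [0, 0, 0, 1], [0, -1, 0, 0]]]
theorem sD4 : sep chevD4 2 SD4 = true := by decide +kernel

def LF4 : List (ℕ × ℕ × ℕ) := [(0, 24, 25), (0, 24, 30), (0, 24, 41), (0, 24, 46), (0, 25, 31), (0, 24, 28), (0, 25, 38), (0, 25, 42), (0, 24, 35), (0, 25, 45), (0, 27, 33), (0, 27, 35), (0, 27, 36), (0, 27, 39), (0, 28, 33), (0, 28, 42), (0, 30, 42), (1, 25, 27), (1, 25, 34)]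
theorem cF4 : chk chevF4 LF4 [] = true := by decide +kernel
def SF4 : List (List (List ℤ)) := [[[0, -1, 0, 0], [0, -1, -2, 0], [1, 0, 0, 0], [0, -1, 0, 0]], [[0, 0, -1, 0], [-1, 0, 0, 0], [-1, 0, 0, 0], [-1, 0, 0, 0]], [[0, 0, 0, -1], [0, 0, 0, -1], [0, 0, 0, -1], [0, -1, 0, 0]], [[0, 0, -1, 0], [0, 0, 0, 1], [0, -1, -1, 0], [0, 0, -1, 0]]]
theorem sF4 : sep chevF4 2 SF4 = true := by decide +kernel

def LE6 : List (ℕ × ℕ × ℕ) := [(0, 36, 37), (0, 36, 40), (0, 36, 44), (0, 36, 48), (0, 36, 51), (0, 36, 53), (0, 36, 59), (0, 36, 62), (0, 36, 64), (0, 36, 67), (0, 37, 39), (0, 37, 43), (0, 37, 47), (0, 37, 50), (0, 37, 54), (0, 37, 58), (0, 37, 61), (0, 37, 65), (0, 37, 68), (0, 39, 42), (0, 39, 46), (0, 39, 51), (0, 39, 57), (0, 39, 62), (0, 39, 69), (0, 42, 47), (0, 42, 56), (0, 42, 64), (0, 46, 58),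 (0, 46, 70)]
theorem cE6 : chk chevE6 LE6 [] = true := by decide +kernel
def SE6 : List (List (List ℤ)) := [[[0, 0, -1, 0, 0, 0], [0, 0, -1, 0, 0, 0], [0, 0, -1, -2, 0, 0], [0, 1, -1, 0, 0, 0], [0, 0, -1, 0, 0, 0], [0, 0, -1, 0, 0, 0]], [[0, 0, 0, -1, 0, 0], [0, 0, 0, -1, 0, 0], [1, 0, 0, -1, 0, 0], [0, 0, -2, -1, 0, 0], [0, 0, 0, -1, 0, 1], [0, 0, 0, -1, 0, 0]], [[0, 0, 0, -1, 0, 0], [-1, 0, 0, 0, 0, 0], [-1, 0, 0, 0, 0, 0], [-1, 0, 0, 0, 0, 0], [-1, 0, 0, 0, 0, 0], [-1, 0, 0, 0, 0, 0]], [[0, -1, 0, 0, 0, 0], [0, 0, -1, 0, 0, 0], [0, -1, 0, 0, 0, 0], [0, -1, 0, 0, 0, 0], [0, -1, 0, 0, 0, 0], [0, -1, 0, 0, 0, 0]], [[0, 0, 0, -1, 0, 0], [0, 0, 0, 0, 0, -1], [0, 0, 0, 0, 0, -1], [0, 0, 0, 0, 0, -1], [0, 0, 0, -1, 0, 0], [0, 0, 0, -1, 0, 0]], [[0, 0, 0, 0, -1, 0], [0, 0, 0, 0, -1, 0], [0, 0, 0, 0, -1,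 0], [0, 1, 0, 0, -1, 0], [0, 0, 0, -2, -1, 0], [0, 0, 0, 0, -1, 0]]]
theorem sE6 : sep chevE6 1 SE6 = true := by decide +kernel

def LE7 : List (ℕ × ℕ × ℕ) := [(0, 63, 64), (0, 63, 67), (0, 63, 71), (0, 63, 76), (0, 63, 81), (0, 63, 85), (0, 63, 88), (0, 63, 90), (0, 63, 97), (0, 63, 101), (0, 63, 104), (0, 63, 106), (0, 63, 110), (0, 63, 112), (0, 63, 115), (0, 63, 119), (0, 64, 66), (0, 64, 70), (0, 64, 75), (0, 64, 80), (0, 64, 84), (0, 64, 87), (0, 64, 91), (0, 64, 96), (0, 64, 100), (0, 64, 103), (0, 64, 107), (0, 64, 109), (0, 64, 113), (0, 64, 116), (0, 64, 120), (0, 66, 69), (0, 66, 74), (0, 66, 79), (0, 66, 83), (0, 66, 88), (0, 66, 95), (0, 66, 99), (0, 66, 104), (0, 66, 110), (0, 66, 117), (0, 66, 121), (0, 69, 73), (0, 69, 78), (0, 69, 84), (0, 69, 94), (0, 69, 100), (0, 69, 112), (0,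 69, 122), (0, 73, 79), (0, 73, 93), (0, 73, 103), (0, 73, 123), (0, 78, 95), (0, 78, 115), (0, 93, 124)]
theorem cE7 : chk chevE7 LE7 [] = true := by decide +kernel
def SE7 : List (List (List ℤ)) := [[[0, 0, -1, 0, 0, 0, 0], [0, 0, -1, 0, 0, 0, 0], [0, 0, -1, -2, 0, 0, 0], [0, 1, -1, 0, 0, 0, 0], [0, 0, -1, 0, 0, 0, 0], [0, 0, -1, 0, 0, 0, 0], [0, 0, -1, 0, 0, 0, 0]], [[0, 0, 0, -1, 0, 0, 0], [0, 0, 0, -1, 0, 0, 0], [1, 0, 0, -1, 0, 0, 0], [0, 0, -2, -1, 0, 0, 0], [0, 0, 0, -1, 0, 1, 0], [0, 0, 0, -1, 0, 0, 0], [0, 0, 0, -1, 0, 0, 0]], [[0, 0, 0, -1, 0, 0, 0], [-1, 0, 0, 0, 0, 0, 0], [-1, 0, 0, 0, 0, 0, 0], [-1, 0, 0, 0, 0, 0, 0], [-1, 0, 0, 0, 0, 0, 0], [-1, 0, 0, 0, 0, 0, 0], [-1, 0, 0, 0, 0, 0, 0]], [[0, -1, 0, 0, 0, 0, 0], [0, 0, -1, 0, 0, 0, 0], [0, -1, 0, 0, 0, 0, 0], [0, -1, 0, 0, 0, 0, 0],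 [0, -1, 0, 0, 0, 0, 0], [0, -1, 0, 0, 0, 0, 0], [0, -1, 0, 0, 0, 0, 0]], [[0, 0, 0, -1, 0, 0, 0], [0, 0, 0, 0, 0, -1, 0], [0, 0, 0, 0, 0, -1, 0], [0, 0, 0, 0, 0, -1, 0], [0, 0, 0, -1, 0, 0, 0], [0, 0, 0, -1, 0, 0, 0], [0, 0, 0, -1, 0, 0, 0]], [[0, 0, 0, 0, -1, 0, 0], [0, 0, 0, 0, -1, 0, 0], [0, 0, 0, 0, -1, 0, 0], [0, 0, 0, 0, 0, 0, -1], [0, 0, 0, 0, 0, 0, -1], [0, 0, 0, 0, -1, 0, 0], [0, 0, 0, 0, -1, 0, 0]], [[0, 0, 0, 0, 0, -1, 0], [0, 0, 0, 0, 0, -1, 0], [0, 0, 0, 0, 0, -1, 0], [0, 0, 0, 0, 0, -1, 0], [0, 0, 0, 1, 0, -1, 0], [0, 0, 0, 0, -2, -1, 0], [0, 0, 0, 0, 0, -1, 0]]]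
theorem sE7 : sep chevE7 1 SE7 = true := by decide +kernel

def LE8 : List (ℕ × ℕ × ℕ) := [(0, 120, 121), (0, 120, 124), (0, 120, 128), (0, 120, 133), (0, 120, 139), (0, 120, 145), (0, 120, 150), (0, 120, 154), (0, 120, 157), (0, 120, 159), (0, 120, 167), (0, 120, 172), (0, 120, 176), (0, 120, 179), (0, 120, 181), (0, 120, 186), (0, 120, 189), (0, 120, 191), (0, 120, 195), (0, 120, 197), (0, 120, 200), (0, 120, 205), (0, 120, 207), (0, 120, 210), (0, 120, 214), (0, 120, 219), (0, 120, 226), (0, 120, 238), (0, 121, 123), (0, 121, 127), (0, 121, 132), (0, 121, 138), (0, 121, 144), (0, 121, 149), (0, 121, 153), (0, 121, 156), (0, 121, 160), (0, 121, 166), (0, 121, 171), (0, 121, 175), (0, 121, 178), (0, 121, 182), (0, 121, 185), (0, 121, 188), (0, 121, 192), (0, 121, 194), (0, 121, 198), (0, 121, 201),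 (0, 121, 204), (0, 121, 208), (0, 121, 211), (0, 121, 215), (0, 121, 220), (0, 121, 227), (0, 121, 237), (0, 123, 126), (0, 123, 131), (0, 123, 137), (0, 123, 143), (0, 123, 148), (0, 123, 152), (0, 123, 157), (0, 123, 165), (0, 123, 170), (0, 123, 174), (0, 123, 179), (0, 123, 184), (0, 123, 189), (0, 123, 195), (0, 123, 202), (0, 123, 205), (0, 123, 212), (0, 123, 216), (0, 123, 221), (0, 123, 228), (0, 123, 236), (0, 126, 130), (0, 126, 136), (0, 126, 142), (0, 126, 147), (0, 126, 153), (0, 126, 164), (0, 126, 169), (0, 126, 175), (0, 126, 185), (0, 126, 197), (0, 126, 207), (0, 126, 217), (0, 126, 222), (0, 126, 229), (0, 126, 235), (0, 130, 135), (0, 130, 141), (0, 130, 148), (0, 130, 163), (0, 130, 170), (0, 130, 188), (0, 130, 210), (0, 130, 223), (0, 130, 230), (0, 130, 234), (0, 135, 142),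 (0, 135, 162), (0, 135, 174), (0, 135, 214), (0, 135, 231), (0, 135, 233), (0, 141, 164), (0, 141, 194), (0, 141, 224), (0, 141, 231), (0, 162, 219)]
theorem cE8 : chk chevE8 LE8 [] = true := by decide +kernel
def SE8 : List (List (List ℤ)) := [[[0, 0, -1, 0, 0, 0, 0, 0], [0, 0, -1, 0, 0, 0, 0, 0], [0, 0, -1, -2, 0, 0, 0, 0], [0, 1, -1, 0, 0, 0, 0, 0], [0, 0, -1, 0, 0, 0, 0, 0], [0, 0, -1, 0, 0, 0, 0, 0], [0, 0, -1, 0, 0, 0, 0, 0], [0, 0, -1, 0, 0, 0, 0, 0]], [[0, 0, 0, -1, 0, 0, 0, 0], [0, 0, 0, -1, 0, 0, 0, 0], [1, 0, 0, -1, 0, 0, 0, 0], [0, 0, -2, -1, 0, 0, 0, 0], [0, 0, 0, -1, 0, 1, 0, 0], [0, 0, 0, -1, 0, 0, 0, 0], [0, 0, 0, -1, 0, 0, 0, 0], [0, 0, 0, -1, 0, 0, 0, 0]], [[0, 0, 0, -1, 0, 0, 0, 0], [-1, 0, 0, 0, 0, 0, 0, 0], [-1, 0, 0, 0, 0, 0, 0, 0], [-1, 0, 0, 0, 0, 0, 0, 0], [-1, 0, 0, 0, 0,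 0, 0, 0], [-1, 0, 0, 0, 0, 0, 0, 0], [-1, 0, 0, 0, 0, 0, 0, 0], [-1, 0, 0, 0, 0, 0, 0, 0]], [[0, -1, 0, 0, 0, 0, 0, 0], [0, 0, -1, 0, 0, 0, 0, 0], [0, -1, 0, 0, 0, 0, 0, 0], [0, -1, 0, 0, 0, 0, 0, 0], [0, -1, 0, 0, 0, 0, 0, 0], [0, -1, 0, 0, 0, 0, 0, 0], [0, -1, 0, 0, 0, 0, 0, 0], [0, -1, 0, 0, 0, 0, 0, 0]], [[0, 0, 0, -1, 0, 0, 0, 0], [0, 0, 0, 0, 0, -1, 0, 0], [0, 0, 0, 0, 0, -1, 0, 0], [0, 0, 0, 0, 0, -1, 0, 0], [0, 0, 0, -1, 0, 0, 0, 0], [0, 0, 0, -1, 0, 0, 0, 0], [0, 0, 0, -1, 0, 0, 0, 0], [0, 0, 0, -1, 0, 0, 0, 0]], [[0, 0, 0, 0, -1, 0, 0, 0], [0, 0, 0, 0, -1, 0, 0, 0], [0, 0, 0, 0, -1, 0, 0, 0], [0, 0, 0, 0, 0, 0, -1, 0], [0, 0, 0, 0, 0, 0, -1, 0], [0, 0, 0, 0, -1, 0, 0, 0], [0, 0, 0, 0, -1, 0, 0, 0], [0, 0, 0, 0, -1, 0, 0, 0]], [[0, 0, 0, 0, 0, -1, 0, 0], [0, 0, 0, 0, 0, -1, 0, 0], [0, 0,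 0, 0, 0, -1, 0, 0], [0, 0, 0, 0, 0, -1, 0, 0], [0, 0, 0, 0, 0, 0, 0, -1], [0, 0, 0, 0, 0, 0, 0, -1], [0, 0, 0, 0, 0, -1, 0, 0], [0, 0, 0, 0, 0, -1, 0, 0]], [[0, 0, 0, 0, 0, 0, -1, 0], [0, 0, 0, 0, 0, 0, -1, 0], [0, 0, 0, 0, 0, 0, -1, 0], [0, 0, 0, 0, 0, 0, -1, 0], [0, 0, 0, 0, 0, 0, -1, 0], [0, 0, 0, 0, 1, 0, -1, 0], [0, 0, 0, 0, 0, -2, -1, 0], [0, 0, 0, 0, 0, 0, -1, 0]]]
theorem sE8 : sep chevE8 1 SE8 = true := by decide +kernel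

end Cfsg.Agent.Lib.ChevWCData
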