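import Mathlib

/-! redundant Sylow subgroups: generalities -/

namespace Cfsg.Agent.Lib.ClRedund

open scoped Pointwise

variable {G H : Type*} [Group G] [Finite G] [Group H] {p : ℕ} [hp : Fact p.Prime]

def Redund (Q : Sylow p G) : Prop := ∀ x : G, (∃ k : ℕ, orderOf x = p ^ k) → ∃ P : Sylow p G, P ≠ Q ∧ x ∈ P

theorem isPGroup_zpowers {G : Type*} [Group G] {p : ℕ} [Fact p.Prime] (x : G) (hx : ∃ k : ℕ, orderOf x = p ^ k) :
    IsPGroup p (Subgroup.zpowers x) := by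
  obtain ⟨k, hk⟩ := hx
  exact IsPGroup.of_card (n := k) (by rw [Nat.card_zpowers, hk])

theorem exists_sylow {G : Type*} [Group G] {p : ℕ} [Fact p.Prime] (x : G) (hx : ∃ k : ℕ, orderOf x = p ^ k) :
    ∃ P : Sylow p G, x ∈ P := by
  obtain ⟨P, hP⟩ := (isPGroup_zpowers x hx).exists_le_sylow
  exact ⟨P, hP (Subgroup.mem_zpowers x)⟩

theorem orderOf_of_mem (P : Sylow p G) {x : G} (hx : x ∈ P) : ∃ k : ℕ, orderOf x = p ^ k := by
  obtain ⟨k, hk⟩ := (IsPGroup.iff_orderOf.1 P.2) ⟨x, hx⟩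
  exact ⟨k, by rw [← hk, Subgroup.orderOf_mk]⟩

theorem mem_smul_iff (g : G) (P : Sylow p G) (x : G) : x ∈ g • P ↔ g⁻¹ * x * g ∈ P := by
  change x ∈ ((g • P : Sylow p G) : Subgroup G) ↔ _
  rw [Sylow.coe_subgroup_smul, Subgroup.mem_pointwise_smul_iff_inv_smul_mem, ← map_inv, MulAut.smul_def,
    MulAut.conj_apply, inv_inv]
  rfl

theorem not_of_unique (x : G) (hx : ∃ k : ℕ, orderOf x = p ^ k)
    (huniq : ∀ P P' : Sylow p G, x ∈ P → x ∈ P' → P = P') : ¬ ∃ Q : Sylow p G, Redund Q := by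
  rintro ⟨Q, hQ⟩
  obtain ⟨P0, hP0⟩ := exists_sylow x hx
  obtain ⟨g, rfl⟩ := MulAction.exists_smul_eq G P0 Q
  obtain ⟨P, hP, hxP⟩ := hQ (g * x * g⁻¹) (by
    obtain ⟨k, hk⟩ := hx
    exact ⟨k, by rw [← hk]; exact (MulAut.conj g).orderOf_eq x⟩)
  apply hP
  have h1 : x ∈ g⁻¹ • P := by rw [mem_smul_iff, inv_inv]; exact hxP
  rw [← huniq _ _ h1 hP0, smul_inv_smul]

theorem not_of_cyclic (h : ∀ Q : Sylow p G, IsCyclic (Q : Subgroup G)) : ¬ ∃ Q : Sylow p G, Redund Q := by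
  obtain ⟨Q⟩ : Nonempty (Sylow p G) := inferInstance
  have := h Q
  obtain ⟨x, hx⟩ := IsCyclic.exists_generator (α := (Q : Subgroup G))
  apply not_of_unique (x : G) (orderOf_of_mem Q x.2)
  have key : ∀ P : Sylow p G, (x : G) ∈ P → P = Q := by
    intro P hP
    have hle : (Q : Subgroup G) ≤ P := by
      intro y hy
      obtain ⟨k, hk⟩ := Subgroup.mem_zpowers_iff.1 (hx ⟨y, hy⟩)
      have : (x : G) ^ k = y := by
        have := congrArg Subtype.val hk
        simpa using this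
      rw [← this]
      exact zpow_mem (K := (P : Subgroup G)) hP k
    exact Sylow.ext (Q.is_maximal' P.2 hle)
  intro P P' h1 h2
  rw [key P h1, key P' h2]

theorem exists_of (h : ∀ x : G, (∃ k : ℕ, orderOf x = p ^ k) → ∃ P P' : Sylow p G, P ≠ P' ∧ x ∈ P ∧ x ∈ P') :
    ∃ Q : Sylow p G, Redund Q := by
  obtain ⟨Q⟩ : Nonempty (Sylow p G) := inferInstance
  refine ⟨Q, fun x hx => ?_⟩
  obtain ⟨P, P', hne, h1, h2⟩ := h x hx
  by_cases hPQ : P = Q
  · exact ⟨P', fun h3 => hne (hPQ.trans h3.symm), h2⟩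
  · exact ⟨P, hPQ, h1⟩

section Central

variable (f : G →* H) (hf : Function.Surjective f) (hker : f.ker ≤ Subgroup.center G)

include hker

theorem central_mem (P : Sylow p G) {z : G} (hz : z ∈ Subgroup.center G) (hzp : ∃ k : ℕ, orderOf z = p ^ k) : z ∈ P := by
  have hn : (Subgroup.zpowers z).Normal := by
    constructor
    intro y hy g
    have : y ∈ Subgroup.center G := (Subgroup.zpowers_le.2 hz) hy
    rw [Subgroup.mem_center_iff] at this
    rw [this g, mul_assoc, mul_inv_cancel, mul_one]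
    exact hy
  have h1 : IsPGroup p ((P : Subgroup G) ⊔ Subgroup.zpowers z : Subgroup G) :=
    P.2.to_sup_of_normal_right (isPGroup_zpowers z hzp)
  have h2 := P.is_maximal' h1 le_sup_left
  have h3 : z ∈ ((P : Subgroup G) ⊔ Subgroup.zpowers z : Subgroup G) := Subgroup.mem_sup_right (Subgroup.mem_zpowers z)
  rw [h2] at h3
  exact h3

theorem mem_map_iff (P : Sylow p G) {x : G} (hx : ∃ k : ℕ, orderOf x = p ^ k) :
    f x ∈ P.mapSurjective hf ↔ x ∈ P := by
  constructor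
  · intro h
    obtain ⟨y, hy, hyx⟩ : ∃ y ∈ (P : Subgroup G), f y = f x := h
    have hz : y⁻¹ * x ∈ Subgroup.center G := hker (by rw [MonoidHom.mem_ker, map_mul, map_inv, hyx, inv_mul_cancel])
    obtain ⟨k, hk⟩ := hx
    obtain ⟨l, hl⟩ := orderOf_of_mem P hy
    have hcomm : Commute y⁻¹ x := by
      have h1 := Subgroup.mem_center_iff.1 hz y
      have h2 : Commute y (y⁻¹ * x) := h1
      have h3 : Commute y x := by
        have h4 := (Commute.refl y).mul_right h2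
        rwa [mul_inv_cancel_left] at h4
      exact h3.inv_left
    have h5 : y⁻¹ * x ∈ P := by
      apply central_mem f hker P hz
      have h6 : (y⁻¹ * x) ^ (p ^ (k + l)) = 1 := by
        have e1 : x ^ (p ^ (k + l)) = 1 := by rw [pow_add, pow_mul, ← hk, pow_orderOf_eq_one, one_pow]
        have e2 : y ^ (p ^ (k + l)) = 1 := by rw [pow_add, mul_comm, pow_mul, ← hl, pow_orderOf_eq_one, one_pow]
        rw [hcomm.mul_pow, e1, inv_pow, e2, inv_one, one_mul]
      obtain ⟨j, -, hj⟩ := (Nat.dvd_prime_pow hp.out).1 (orderOf_dvd_of_pow_eq_one h6)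
      exact ⟨j, hj⟩
    have h7 : y * (y⁻¹ * x) ∈ P := mul_mem (S := Subgroup G) hy h5
    rwa [mul_inv_cancel_left] at h7
  · intro h
    exact ⟨x, h, rfl⟩

include hf in
theorem central_iff [Finite H] : (∃ Q : Sylow p G, Redund Q) ↔ ∃ Q : Sylow p H, Redund Q := by
  constructor
  · rintro ⟨Q, hQ⟩
    refine ⟨Q.mapSurjective hf, fun y hy => ?_⟩
    obtain ⟨R, hR⟩ := exists_sylow y hy
    obtain ⟨S, rfl⟩ := Sylow.mapSurjective_surjective hf p R
    obtain ⟨x, hx, rfl⟩ : ∃ x ∈ (S : Subgroup G), f x = y := hR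
    have hxp := orderOf_of_mem S hx
    obtain ⟨P, hP, hxP⟩ := hQ x hxp
    refine ⟨P.mapSurjective hf, fun h => hP ?_, (mem_map_iff f hf hker P hxp).2 hxP⟩
    apply Sylow.ext
    apply le_antisymm
    · intro z hz
      have hzp := orderOf_of_mem P hz
      exact (mem_map_iff f hf hker Q hzp).1 (by rw [← h]; exact (mem_map_iff f hf hker P hzp).2 hz)
    · intro z hz
      have hzp := orderOf_of_mem Q hz
      exact (mem_map_iff f hf hker P hzp).1 (by rw [h]; exact (mem_map_iff f hf hker Q hzp).2 hz)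
  · rintro ⟨Q, hQ⟩
    obtain ⟨Q, rfl⟩ := Sylow.mapSurjective_surjective hf p Q
    refine ⟨Q, fun x hx => ?_⟩
    obtain ⟨R, hR, hxR⟩ := hQ (f x) (by
      obtain ⟨k, hk⟩ := hx
      obtain ⟨j, -, hj⟩ := (Nat.dvd_prime_pow hp.out).1 (hk ▸ orderOf_map_dvd f x)
      exact ⟨j, hj⟩)
    obtain ⟨P, rfl⟩ := Sylow.mapSurjective_surjective hf p R
    exact ⟨P, fun h => hR (by rw [h]), (mem_map_iff f hf hker P hx).1 hxR⟩

end Central

end Cfsg.Agent.Lib.ClRedund
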