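import Cfsg.Agent.Lib.ClRedund
import Cfsg.Agent.Lib.ClSL2Syl
import Cfsg.Agent.Lib.SL2Tori
import Cfsg.Agent.Lib.ClUtil

/-! redundant Sylow subgroups of `SL_2(q)` -/

namespace Cfsg.Agent.Lib.ClRedund2

open Cfsg.Agent.Lib Cfsg.Agent.Lib.ClRedund Cfsg.Agent.Lib.SL2Basic Cfsg.Agent.Lib.SL2Tori
open scoped Pointwise MatrixGroups

variable {F : Type*} [Field F] [Fintype F]

/-- defining characteristic -/
theorem not_char (p : ℕ) [Fact p.Prime] [CharP F p] : ¬ ∃ Q : Sylow p SL(2, F), Redund Q := by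
  have hcomm : ∀ P : Sylow p SL(2, F), ∀ a ∈ P, ∀ b ∈ P, a * b = b * a := by
    intro P a ha b hb
    obtain ⟨g, rfl⟩ := MulAction.exists_smul_eq SL(2, F) (ClSL2.sylowUS F p) P
    rw [mem_smul_iff] at ha hb
    obtain ⟨s, hs⟩ := ClSL2.exists_uS ha
    obtain ⟨t, ht⟩ := ClSL2.exists_uS hb
    have h1 : (g⁻¹ * a * g) * (g⁻¹ * b * g) = (g⁻¹ * b * g) * (g⁻¹ * a * g) := by
      rw [hs, ht]
      apply Matrix.SpecialLinearGroup.ext
      intro i j
      fin_cases i <;> fin_cases j <;> simp [Matrix.mul_apply, Fin.sum_univ_two, add_comm]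
    have h2 : g⁻¹ * (a * b) * g = g⁻¹ * (b * a) * g := by
      calc g⁻¹ * (a * b) * g = (g⁻¹ * a * g) * (g⁻¹ * b * g) := by group
        _ = (g⁻¹ * b * g) * (g⁻¹ * a * g) := h1
        _ = _ := by group
    exact mul_left_cancel (mul_right_cancel h2)
  have hu : (ClSL2.uS (1 : F)) ∈ ClSL2.sylowUS F p := ClSL2.uS_mem 1
  apply not_of_unique (ClSL2.uS (1 : F)) (orderOf_of_mem _ hu)
  intro P P' h1 h2
  by_contra hne
  have htop := ClSL2.sylow_SL2_sup_eq_top p P P' hne
  have hc : Subgroup.centralizer ({ClSL2.uS (1 : F)} : Set SL(2, F)) = ⊤ := by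
    rw [eq_top_iff, ← htop, sup_le_iff]
    constructor
    · intro a ha
      rw [Subgroup.mem_centralizer_singleton_iff]
      exact (hcomm P a ha _ h1)
    · intro a ha
      rw [Subgroup.mem_centralizer_singleton_iff]
      exact (hcomm P' a ha _ h2)
  have h3 : ClSL2.lS (1 : F) ∈ Subgroup.centralizer ({ClSL2.uS (1 : F)} : Set SL(2, F)) := by rw [hc]; trivial
  rw [Subgroup.mem_centralizer_singleton_iff] at h3
  have h4 := congrArg (fun A : SL(2, F) => (A : Matrix (Fin 2) (Fin 2) F) 0 0) h3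
  simp [Matrix.mul_apply, Fin.sum_univ_two] at h4

/-- the element of order four -/
def jj (F : Type*) [Field F] : SL(2, F) := ⟨!![0, 1; -1, 0], by simp [Matrix.det_fin_two]⟩

theorem tr_jj : tr (jj F) = 0 := by
  rw [tr_def]
  change (0 : F) + 0 = 0
  rw [add_zero]

theorem mul_self_of_tr {A : SL(2, F)} (h : tr A = 0) : A * A = -1 := by
  apply Subtype.ext
  have := sq_eq A
  rw [h, zero_smul, zero_sub] at this
  exact this

theorem tr_of_mul_self {A : SL(2, F)} (h : A * A = -1) : tr A = 0 := by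
  have h1 := sq_eq A
  have h2 : (A : Matrix (Fin 2) (Fin 2) F) * A = -1 := congrArg Subtype.val h
  rw [h2] at h1
  have h3 : tr A • (A : Matrix (Fin 2) (Fin 2) F) = 0 := by
    have := congrArg (· + (1 : Matrix (Fin 2) (Fin 2) F)) h1
    simpa using this.symm
  rcases smul_eq_zero.1 h3 with h4 | h4
  · exact h4
  · exfalso
    have := A.det_coe
    rw [h4, Matrix.det_zero] at this
    exact zero_ne_one this

variable (h2 : (2 : F) ≠ 0)

include h2

theorem tr_sq_ne : tr (jj F) ^ 2 ≠ 4 := by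
  rw [tr_jj]
  intro h
  apply h2
  have : (2 : F) * 2 = 0 := by linear_combination -h
  rcases mul_eq_zero.1 this with h | h <;> exact h

theorem neg_one_ne : (-1 : SL(2, F)) ≠ 1 := by
  intro h
  have := congrArg (fun A : SL(2, F) => (A : Matrix (Fin 2) (Fin 2) F) 0 0) h
  simp only [Matrix.SpecialLinearGroup.coe_neg, Matrix.SpecialLinearGroup.coe_one, Matrix.neg_apply, Matrix.one_apply_eq] at this
  apply h2
  linear_combination -this

theorem orderOf_four {A : SL(2, F)} (h : A * A = -1) : orderOf A = 4 := by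
  have : orderOf A = 2 ^ (1 + 1) := by
    apply orderOf_eq_prime_pow
    · rw [pow_one, sq, h]; exact neg_one_ne h2
    · have : A ^ (2 ^ (1 + 1)) = (A * A) * (A * A) := by simp [pow_succ, mul_assoc]
      rw [this, h]; simp
  rw [this]; norm_num

theorem four_dvd : 4 ∣ Nat.card (Subgroup.centralizer ({jj F} : Set SL(2, F))) := by
  have h1 := orderOf_four h2 (mul_self_of_tr (tr_jj (F := F)))
  have h3 : orderOf (⟨jj F, mem_centralizer_self _⟩ : Subgroup.centralizer ({jj F} : Set SL(2, F))) = 4 := by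
    rw [Subgroup.orderOf_mk, h1]
  rw [← h3]
  exact orderOf_dvd_natCard _

theorem card_T : IsCyclic (Subgroup.centralizer ({jj F} : Set SL(2, F))) ∧
    (Nat.card (Subgroup.centralizer ({jj F} : Set SL(2, F))) = Fintype.card F - 1 ∨
     Nat.card (Subgroup.centralizer ({jj F} : Set SL(2, F))) = Fintype.card F + 1) := by
  by_cases h : ∃ x : F, x ^ 2 - tr (jj F) * x + 1 = 0
  · obtain ⟨c, hc⟩ := h
    obtain ⟨h3, h4⟩ := centralizer_of_root (tr_sq_ne h2) hc
    rw [Nat.card_eq_fintype_card (α := F)] at h4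
    exact ⟨h3, Or.inl h4⟩
  · push Not at h
    obtain ⟨h3, h4⟩ := centralizer_of_no_root h
    rw [Nat.card_eq_fintype_card (α := F)] at h4
    exact ⟨h3, Or.inr h4⟩

theorem conj_T (x : SL(2, F)) (hx : ∃ k : ℕ, orderOf x = 2 ^ k) :
    ∃ g : SL(2, F), g * x * g⁻¹ ∈ Subgroup.centralizer ({jj F} : Set SL(2, F)) := by
  obtain ⟨k, hk⟩ := hx
  rcases Nat.lt_or_ge k 2 with hlt | hge
  · refine ⟨1, ?_⟩
    have hx2 : x * x = 1 := by
      have h3 : x ^ 2 = 1 := by
        apply orderOf_dvd_iff_pow_eq_one.1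
        rw [hk]
        exact (pow_dvd_pow 2 (show k ≤ 1 by omega)).trans (by norm_num)
      rw [← sq]; exact h3
    rw [one_mul, inv_one, mul_one]
    rcases eq_one_or_neg_one_of_sq h2 hx2 with rfl | rfl
    · exact one_mem _
    · rw [Subgroup.mem_centralizer_singleton_iff, neg_one_mul, mul_neg_one]
  · set y := x ^ (2 ^ (k - 2)) with hy
    have h1 : (y * y) * (y * y) = 1 := by
      have : (y * y) * (y * y) = x ^ (2 ^ k) := by
        have e : 2 ^ k = 2 ^ (k - 2) * 4 := by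
          rw [show (4 : ℕ) = 2 ^ 2 by norm_num, ← pow_add]
          congr 1; omega
        rw [e, pow_mul, ← hy]
        simp only [pow_succ, pow_zero, one_mul, mul_assoc]
      rw [this, ← hk, pow_orderOf_eq_one]
    have h3 : y * y ≠ 1 := by
      intro h
      have h4 : x ^ (2 ^ (k - 1)) = 1 := by
        have e : 2 ^ (k - 1) = 2 ^ (k - 2) * 2 := by
          rw [← pow_succ]; congr 1; omega
        rw [e, pow_mul, ← hy, sq, h]
      have h5 := orderOf_dvd_of_pow_eq_one h4
      rw [hk] at h5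
      have := (Nat.pow_dvd_pow_iff_le_right (by norm_num : 1 < 2)).1 h5
      omega
    have h4 : y * y = -1 := (eq_one_or_neg_one_of_sq h2 h1).resolve_left h3
    have h5 := tr_of_mul_self h4
    have h6 := exists_sl_conj_of_tr (A := y) (B := jj F) (by rw [h5, tr_jj]) (by
      rw [h5, ← tr_jj (F := F)]; exact tr_sq_ne h2)
    obtain ⟨g, hg⟩ := h6
    refine ⟨g, ?_⟩
    rw [Subgroup.mem_centralizer_singleton_iff, ← hg]
    have h7 : x * y = y * x := by rw [hy, ← pow_succ, ← pow_succ']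
    calc g * x * g⁻¹ * (g * y * g⁻¹) = g * (x * y) * g⁻¹ := by group
      _ = g * (y * x) * g⁻¹ := by rw [h7]
      _ = _ := by group

/-- the 2-part of the torus -/
def T2 : Subgroup SL(2, F) where
  carrier := {s | s ∈ Subgroup.centralizer ({jj F} : Set SL(2, F)) ∧ ∃ k : ℕ, s ^ (2 ^ k) = 1}
  one_mem' := ⟨one_mem _, 0, one_pow _⟩
  inv_mem' := by
    rintro s ⟨h1, k, hk⟩
    exact ⟨inv_mem h1, k, by rw [inv_pow, hk, inv_one]⟩
  mul_mem' := by
    rintro s t ⟨h1, k, hk⟩ ⟨h3, l, hl⟩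
    refine ⟨mul_mem h1 h3, k + l, ?_⟩
    have hc : Commute s t := centralizer_comm (not_mem_center_of_tr (tr_sq_ne h2)) h1 h3
    rw [hc.mul_pow, pow_add, pow_mul, hk, one_pow, one_mul, mul_comm, pow_mul, hl, one_pow]

theorem redundant_of (hnp : ¬ ∃ k : ℕ, Nat.card (Subgroup.centralizer ({jj F} : Set SL(2, F))) = 2 ^ k) :
    ∃ Q : Sylow 2 SL(2, F), Redund Q := by
  have h4 := tr_sq_ne h2
  have hnc := not_mem_center_of_tr h4
  obtain ⟨r, hr, hrT, hrodd⟩ := (Nat.eq_two_pow_or_exists_odd_prime_and_dvd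
    (Nat.card (Subgroup.centralizer ({jj F} : Set SL(2, F))))).resolve_left hnp
  haveI : Fact r.Prime := ⟨hr⟩
  obtain ⟨⟨t, htT⟩, ht⟩ := exists_prime_orderOf_dvd_card' r hrT
  rw [Subgroup.orderOf_mk] at ht
  obtain ⟨w, hw⟩ := exists_inverts h4
  have hww := sq_of_inverts h2 h4 hw
  have hinv : ∀ B ∈ Subgroup.centralizer ({jj F} : Set SL(2, F)), w * B * w⁻¹ = B⁻¹ :=
    fun B hB => inverts_of_inverts hnc hw hB
  have hW : IsPGroup 2 (Subgroup.zpowers w) := by
    apply isPGroup_zpowers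
    exact ⟨2, by rw [orderOf_four h2 hww]; norm_num⟩
  have hT2 : IsPGroup 2 (T2 h2) := by
    rintro ⟨s, hs, k, hk⟩
    exact ⟨k, Subtype.ext hk⟩
  have hnorm : Subgroup.zpowers w ≤ Subgroup.normalizer (T2 h2 : Set SL(2, F)) := by
    rw [Subgroup.zpowers_le, Subgroup.mem_normalizer_iff]
    intro s
    constructor
    · intro hs
      rw [hinv s hs.1]
      exact inv_mem hs
    · intro hs
      have h5 : s = (w * s * w⁻¹)⁻¹ := by
        have h6 : w * (w * s * w⁻¹) * w⁻¹ = s := by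
          have : w * (w * s * w⁻¹) * w⁻¹ = (w * w) * s * (w * w)⁻¹ := by group
          rw [this, hww]
          simp
        rw [← hinv _ hs.1, h6]
      rw [h5]
      exact inv_mem hs
  obtain ⟨P0, hP0⟩ := (hW.to_sup_of_normal_right' hT2 hnorm).exists_le_sylow
  have hwP : w ∈ P0 := hP0 (Subgroup.mem_sup_left (Subgroup.mem_zpowers w))
  have hTP : ∀ s ∈ T2 h2, s ∈ P0 := fun s hs => hP0 (Subgroup.mem_sup_right hs)
  have hTP1 : ∀ s ∈ T2 h2, s ∈ t • P0 := by
    intro s hs
    rw [mem_smul_iff]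
    have hc := centralizer_comm hnc hs.1 htT
    have : t⁻¹ * s * t = s := by rw [mul_assoc, hc, inv_mul_cancel_left]
    rw [this]
    exact hTP s hs
  have hne : P0 ≠ t • P0 := by
    intro h
    have h5 : w ∈ t • P0 := by rw [← h]; exact hwP
    rw [mem_smul_iff] at h5
    have h6 : t⁻¹ * w * t = t⁻¹ * t⁻¹ * w := by
      have := hinv t htT
      rw [mul_inv_eq_iff_eq_mul] at this
      rw [mul_assoc, this, mul_assoc]
    rw [h6] at h5
    have h7 : t⁻¹ * t⁻¹ ∈ P0 := by
      have := (P0 : Subgroup SL(2, F)).mul_mem h5 ((P0 : Subgroup SL(2, F)).inv_mem hwP)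
      rwa [mul_inv_cancel_right] at this
    obtain ⟨k, hk⟩ := orderOf_of_mem P0 h7
    have h8 : t ^ (2 ^ (k + 1)) = 1 := by
      have h9 : (t⁻¹ * t⁻¹) ^ (2 ^ k) = 1 := by rw [← hk, pow_orderOf_eq_one]
      rw [← sq, ← pow_mul, inv_pow, inv_eq_one] at h9
      rw [pow_succ', h9]
    have h9 := orderOf_dvd_of_pow_eq_one h8
    rw [ht] at h9
    have h10 := (Nat.prime_dvd_prime_iff_eq hr Nat.prime_two).1 (hr.dvd_of_dvd_pow h9)
    rw [h10] at hrodd
    exact absurd hrodd (by decide)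
  apply exists_of
  intro x hx
  obtain ⟨g, hg⟩ := conj_T h2 x hx
  have hg2 : g * x * g⁻¹ ∈ T2 h2 := by
    refine ⟨hg, ?_⟩
    obtain ⟨k, hk⟩ := hx
    refine ⟨k, ?_⟩
    rw [conj_pow, ← hk, pow_orderOf_eq_one, mul_one, mul_inv_cancel]
  refine ⟨g⁻¹ • P0, g⁻¹ • (t • P0), fun h => hne (smul_left_cancel _ h), ?_, ?_⟩
  · rw [mem_smul_iff, inv_inv]; exact hTP _ hg2
  · rw [mem_smul_iff, inv_inv]; exact hTP1 _ hg2

theorem not_redundant_of {k : ℕ} (hk : Nat.card (Subgroup.centralizer ({jj F} : Set SL(2, F))) = 2 ^ k) :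
    ¬ ∃ Q : Sylow 2 SL(2, F), Redund Q := by
  have h4 := tr_sq_ne h2
  have hnc := not_mem_center_of_tr h4
  set T := Subgroup.centralizer ({jj F} : Set SL(2, F)) with hT
  obtain ⟨hcyc, hcard⟩ := card_T h2
  obtain ⟨x, hx⟩ := IsCyclic.exists_generator (α := T)
  have hxo : orderOf (x : SL(2, F)) = 2 ^ k := by
    rw [Subgroup.orderOf_coe, orderOf_eq_card_of_forall_mem_zpowers hx, hk]
  have h4d := four_dvd h2
  rw [← hT, hk] at h4d
  have hk2 : 2 ≤ k := by
    rw [show (4 : ℕ) = 2 ^ 2 by norm_num] at h4d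
    exact (Nat.pow_dvd_pow_iff_le_right (by norm_num : 1 < 2)).1 h4d
  obtain ⟨l, rfl⟩ : ∃ l, k = l + 2 := ⟨k - 2, by omega⟩
  apply not_of_unique (x : SL(2, F)) ⟨_, hxo⟩
  have key : ∀ P : Sylow 2 SL(2, F), (x : SL(2, F)) ∈ P → (P : Subgroup SL(2, F)) = Subgroup.normalizer (T : Set SL(2, F)) := by
    intro P hP
    have hle : T ≤ P := by
      intro y hy
      obtain ⟨k, hk⟩ := Subgroup.mem_zpowers_iff.1 (hx ⟨y, hy⟩)
      have : (x : SL(2, F)) ^ k = y := by
        have := congrArg Subtype.val hk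
        simpa using this
      rw [← this]
      exact zpow_mem (K := (P : Subgroup SL(2, F))) hP k
    have hPc : Nat.card P = 2 * 2 ^ (l + 2) := by
      have hG := ClSL2.card_SL2 (F := F) rfl
      rcases hcard with h5 | h5
      · rw [hk] at h5
        have hq1 := Fintype.one_lt_card (α := F)
        have hq : Fintype.card F = 2 ^ (l + 2) + 1 := by rw [h5]; omega
        apply ClSLn.card_sylow_eq_of_mul 2 P _ (l + 3) (Fintype.card F * (2 ^ (l + 1) + 1)) (by ring)
        · rw [Nat.prime_two.dvd_mul]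
          rintro (h6 | h6)
          · rw [hq, pow_succ'] at h6; omega
          · rw [pow_succ'] at h6; omega
        · rw [hG, hq]
          have : (2 ^ (l + 2) + 1) ^ 2 - 1 = 2 ^ (l + 2) * (2 ^ (l + 2) + 2) := by
            rw [Nat.sub_eq_iff_eq_add (by nlinarith [Nat.one_le_two_pow (n := l + 2)])]
            ring
          rw [this]
          ring
      · rw [hk] at h5
        obtain ⟨c, hc⟩ : ∃ c, 2 ^ l = c + 1 := ⟨2 ^ l - 1, by have := Nat.one_le_two_pow (n := l); omega⟩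
        have e2 : 2 ^ (l + 2) = 4 * (c + 1) := by rw [← hc]; ring
        have hq : Fintype.card F = 4 * c + 3 := by omega
        apply ClSLn.card_sylow_eq_of_mul 2 P _ (l + 3) (Fintype.card F * (2 * c + 1)) (by ring)
        · rw [Nat.prime_two.dvd_mul]
          rintro (h6 | h6) <;> omega
        · rw [hG, hq, e2]
          have : (4 * c + 3) ^ 2 - 1 = (4 * c + 2) * (4 * (c + 1)) := by
            rw [Nat.sub_eq_iff_eq_add (by nlinarith)]
            ring
          rw [this]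
          ring
    have hidx : (T.subgroupOf (P : Subgroup SL(2, F))).index = 2 := by
      have h6 := Subgroup.card_mul_index (T.subgroupOf (P : Subgroup SL(2, F)))
      rw [Nat.card_congr (Subgroup.subgroupOfEquivOfLe hle).toEquiv, hk] at h6
      have h7 : 2 ^ (l + 2) * (T.subgroupOf (P : Subgroup SL(2, F))).index = 2 ^ (l + 2) * 2 := by
        rw [h6, mul_comm]; exact hPc
      exact Nat.eq_of_mul_eq_mul_left (by positivity) h7
    have hn : (T.subgroupOf (P : Subgroup SL(2, F))).Normal := Subgroup.normal_of_index_eq_two hidx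
    have hPN := (Subgroup.normal_subgroupOf_iff_le_normalizer hle).1 hn
    apply Subgroup.eq_of_le_of_card_ge hPN
    have hN := card_normalizer h2 h4
    rw [← hT] at hN
    rw [hN, hk]
    exact hPc.ge
  intro P P' h1 h3
  apply Sylow.ext
  rw [key P h1, key P' h3]

end Cfsg.Agent.Lib.ClRedund2
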