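import Mathlib

/-!
# Counting orbits through an equivariant invertible matrix (helper81)

`A : Matrix I J k` invertible, `H` acting on the finite sets `I` and `J` with `A (h • i) (h • j) = A i j`.
Then `H` has as many orbits on `I` as on `J`, and as many orbits of size `0` in `k` (equivalently, for
`k` of characteristic `p`, as many orbits of size prime to `p`).
-/

set_option autoImplicit false
set_option linter.unusedSectionVars false
set_option linter.style.haveILetI false

namespace Cfsg.Agent.Lib.OrbitCount

open scoped Classical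
open MulAction

universe u v w x

variable {k : Type u} [Field k] {H : Type v} [Group H]

section One

variable (k H) (I : Type w) [Fintype I] [MulAction H I]

/-- The functions constant on orbits. -/
def invFun : Submodule k (I → k) where
  carrier := {f | ∀ (h : H) (i : I), f (h • i) = f i}
  add_mem' := by intro f g hf hg h i; simp [hf h i, hg h i]
  zero_mem' := by intro h i; rfl
  smul_mem' := by intro c f hf h i; simp [hf h i]

variable {k H I}

theorem mem_invFun {f : I → k} : f ∈ invFun k H I ↔ ∀ (h : H) (i : I), f (h • i) = f i := Iff.rfl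

theorem invFun_eq_of_rel {f : I → k} (hf : f ∈ invFun k H I) {i j : I}
    (h : (Quotient.mk'' i : orbitRel.Quotient H I) = Quotient.mk'' j) : f i = f j := by
  rw [Quotient.eq''] at h
  obtain ⟨g, hg⟩ := h
  rw [← hg]
  exact hf g j

/-- Functions constant on orbits are functions on the set of orbits. -/
noncomputable def invEquiv : invFun k H I ≃ₗ[k] (orbitRel.Quotient H I → k) where
  toFun f q := (f : I → k) q.out
  map_add' f g := rfl
  map_smul' c f := rfl
  invFun F := ⟨fun i => F (Quotient.mk'' i), by
    intro h i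
    show F _ = F _
    congr 1
    rw [Quotient.eq'']
    exact ⟨h, rfl⟩⟩
  left_inv f := by
    apply Subtype.ext
    funext i
    exact invFun_eq_of_rel f.2 (Quotient.out_eq' _)
  right_inv F := by
    funext q
    show F (Quotient.mk'' q.out) = F q
    rw [Quotient.out_eq']

theorem finrank_invFun : Module.finrank k (invFun k H I) = Nat.card (orbitRel.Quotient H I) := by
  rw [LinearEquiv.finrank_eq (invEquiv (k := k) (H := H) (I := I)),
    Module.finrank_fintype_fun_eq_card, Nat.card_eq_fintype_card]

variable (H) in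
/-- The size of an orbit. -/
noncomputable def osize (q : orbitRel.Quotient H I) : ℕ :=
  Nat.card {i : I // (Quotient.mk'' i : orbitRel.Quotient H I) = q}

theorem osize_eq (i : I) :
    osize H (Quotient.mk'' i : orbitRel.Quotient H I) = Nat.card (MulAction.orbit H i) := by
  unfold osize
  apply Nat.card_congr
  apply Equiv.subtypeEquivRight
  intro j
  rw [Quotient.eq'']
  rfl

variable (k H I) in
/-- The radical of the standard bilinear form on the functions constant on orbits. -/
def radFun : Submodule k (I → k) where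
  carrier := {f | f ∈ invFun k H I ∧ ∀ f' ∈ invFun k H I, ∑ i, f i * f' i = 0}
  add_mem' := by
    rintro f g ⟨hf, hf'⟩ ⟨hg, hg'⟩
    refine ⟨(invFun k H I).add_mem hf hg, fun f' hh => ?_⟩
    simp only [Pi.add_apply, add_mul, Finset.sum_add_distrib, hf' f' hh, hg' f' hh, add_zero]
  zero_mem' := ⟨(invFun k H I).zero_mem, fun f' _ => by simp⟩
  smul_mem' := by
    rintro c f ⟨hf, hf'⟩
    refine ⟨(invFun k H I).smul_mem c hf, fun f' hh => ?_⟩
    simp only [Pi.smul_apply, smul_eq_mul, mul_assoc, ← Finset.mul_sum, hf' f' hh, mul_zero]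

theorem sum_mul_eq {f f' : I → k} (hf : f ∈ invFun k H I) (hf' : f' ∈ invFun k H I) :
    ∑ i, f i * f' i = ∑ q : orbitRel.Quotient H I, (osize H q : k) * (f q.out * f' q.out) := by
  rw [← Finset.sum_fiberwise_of_maps_to (s := Finset.univ) (t := Finset.univ)
    (g := fun i : I => (Quotient.mk'' i : orbitRel.Quotient H I)) (fun _ _ => Finset.mem_univ _)]
  refine Finset.sum_congr rfl fun q _ => ?_
  rw [Finset.sum_congr rfl (g := fun _ => f q.out * f' q.out)]
  · rw [Finset.sum_const, nsmul_eq_mul]
    congr 2
    rw [osize, Nat.card_eq_fintype_card, Fintype.card_subtype]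
  · intro i hi
    have hi' := (Finset.mem_filter.mp hi).2
    have h2 : (Quotient.mk'' i : orbitRel.Quotient H I) = Quotient.mk'' q.out := by
      rw [hi', Quotient.out_eq']
    rw [invFun_eq_of_rel hf h2, invFun_eq_of_rel hf' h2]

theorem mem_radFun {f : I → k} : f ∈ radFun k H I ↔
    f ∈ invFun k H I ∧ ∀ q : orbitRel.Quotient H I, (osize H q : k) ≠ 0 → f q.out = 0 := by
  constructor
  · rintro ⟨hf, h⟩
    refine ⟨hf, fun q hq => ?_⟩
    let f' : I → k := fun i => if (Quotient.mk'' i : orbitRel.Quotient H I) = q then 1 else 0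
    have hf' : f' ∈ invFun k H I := by
      intro h i
      show (if _ then _ else _) = (if _ then _ else _)
      have : (Quotient.mk'' (h • i) : orbitRel.Quotient H I) = Quotient.mk'' i := by
        rw [Quotient.eq'']; exact ⟨h, rfl⟩
      rw [this]
    have h2 := h f' hf'
    rw [sum_mul_eq hf hf', Finset.sum_eq_single q] at h2
    · have h3 : f' q.out = 1 := by
        show (if _ then _ else _) = _
        rw [if_pos (Quotient.out_eq' q)]
      rw [h3, mul_one] at h2
      exact (mul_eq_zero.mp h2).resolve_left hq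
    · intro q' _ hq'
      have h3 : f' q'.out = 0 := by
        show (if _ then _ else _) = _
        rw [if_neg]
        rw [Quotient.out_eq']
        exact hq'
      rw [h3, mul_zero, mul_zero]
    · intro h3; exact absurd (Finset.mem_univ _) h3
  · rintro ⟨hf, h⟩
    refine ⟨hf, fun f' hf' => ?_⟩
    rw [sum_mul_eq hf hf']
    apply Finset.sum_eq_zero
    intro q _
    by_cases hq : (osize H q : k) = 0
    · rw [hq, zero_mul]
    · rw [h q hq, zero_mul, mul_zero]

/-- The radical is the space of functions on the set of orbits of size zero in `k`. -/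
noncomputable def radEquiv :
    radFun k H I ≃ₗ[k] ({q : orbitRel.Quotient H I // (osize H q : k) = 0} → k) where
  toFun f q := (f : I → k) q.1.out
  map_add' f g := rfl
  map_smul' c f := rfl
  invFun F := ⟨fun i => if h : (osize H (Quotient.mk'' i : orbitRel.Quotient H I) : k) = 0
      then F ⟨Quotient.mk'' i, h⟩ else 0, by
    rw [mem_radFun]
    constructor
    · intro h i
      have : (Quotient.mk'' (h • i) : orbitRel.Quotient H I) = Quotient.mk'' i := by
        rw [Quotient.eq'']; exact ⟨h, rfl⟩
      simp only [this]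
    · intro q hq
      rw [dif_neg]
      rw [Quotient.out_eq']; exact hq⟩
  left_inv f := by
    apply Subtype.ext
    funext i
    show (if h : _ then _ else _) = _
    split_ifs with h
    · exact invFun_eq_of_rel (mem_radFun.mp f.2).1 (Quotient.out_eq' _)
    · have h2 := (mem_radFun.mp f.2).2 _ h
      rw [← h2]
      exact invFun_eq_of_rel (mem_radFun.mp f.2).1 (Quotient.out_eq' _)
  right_inv F := by
    funext q
    show (if h : _ then _ else _) = _
    rw [dif_pos]
    · congr 1
      apply Subtype.ext
      exact Quotient.out_eq' _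
    · rw [Quotient.out_eq']; exact q.2

theorem finrank_radFun : Module.finrank k (radFun k H I) =
    Nat.card {q : orbitRel.Quotient H I // (osize H q : k) = 0} := by
  rw [LinearEquiv.finrank_eq (radEquiv (k := k) (H := H) (I := I)),
    Module.finrank_fintype_fun_eq_card, Nat.card_eq_fintype_card]

end One

section Two

variable {I : Type w} {J : Type x} [Fintype I] [Fintype J] [DecidableEq I] [DecidableEq J]
  [MulAction H I] [MulAction H J]

theorem inv_equivariant {A : Matrix I J k} {D : Matrix J I k} (hAD : A * D = 1) (hDA : D * A = 1)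
    (hA : ∀ (h : H) i j, A (h • i) (h • j) = A i j) (h : H) (i : I) (j : J) :
    D (h • j) (h • i) = D j i := by
  let D' : Matrix J I k := fun j i => D (h • j) (h • i)
  have h1 : A * D' = 1 := by
    ext i i'
    rw [Matrix.mul_apply]
    have h2 : ∑ j, A i j * D' j i' = ∑ j, A (h • i) j * D j (h • i') := by
      rw [← Equiv.sum_comp (MulAction.toPerm h) (fun j => A (h • i) j * D j (h • i'))]
      refine Finset.sum_congr rfl fun j _ => ?_
      show A i j * D (h • j) (h • i') = A (h • i) (h • j) * D (h • j) (h • i')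
      rw [hA]
    rw [h2, ← Matrix.mul_apply, hAD, Matrix.one_apply, Matrix.one_apply]
    by_cases h3 : i = i'
    · rw [if_pos h3, if_pos (by rw [h3])]
    · rw [if_neg h3, if_neg (fun h4 => h3 (MulAction.injective h h4))]
  have h2 : D' = D := by
    calc D' = (D * A) * D' := by rw [hDA, Matrix.one_mul]
      _ = D * (A * D') := by rw [Matrix.mul_assoc]
      _ = D := by rw [h1, Matrix.mul_one]
  exact congrFun (congrFun h2 j) i

theorem mulVec_invFun {A : Matrix I J k} (hA : ∀ (h : H) i j, A (h • i) (h • j) = A i j)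
    {f : J → k} (hf : f ∈ invFun k H J) : A.mulVec f ∈ invFun k H I := by
  intro h i
  rw [Matrix.mulVec, Matrix.mulVec, dotProduct, dotProduct,
    ← Equiv.sum_comp (MulAction.toPerm h)]
  refine Finset.sum_congr rfl fun j _ => ?_
  show A (h • i) (h • j) * f (h • j) = _
  rw [hA, hf h j]

/-- The linear equivalence given by an invertible matrix. -/
noncomputable def matEquiv (A : Matrix I J k) (D : Matrix J I k) (hAD : A * D = 1)
    (hDA : D * A = 1) : (J → k) ≃ₗ[k] (I → k) where
  toFun f := A.mulVec f
  map_add' f g := Matrix.mulVec_add A f g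
  map_smul' c f := Matrix.mulVec_smul A c f
  invFun f := D.mulVec f
  left_inv f := by
    show D.mulVec (A.mulVec f) = f
    rw [Matrix.mulVec_mulVec, hDA, Matrix.one_mulVec]
  right_inv f := by
    show A.mulVec (D.mulVec f) = f
    rw [Matrix.mulVec_mulVec, hAD, Matrix.one_mulVec]

theorem map_invFun {A : Matrix I J k} {D : Matrix J I k} (hAD : A * D = 1) (hDA : D * A = 1)
    (hA : ∀ (h : H) i j, A (h • i) (h • j) = A i j) :
    (invFun k H J).map (matEquiv A D hAD hDA).toLinearMap = invFun k H I := by
  apply le_antisymm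
  · rintro _ ⟨f, hf, rfl⟩
    exact mulVec_invFun hA hf
  · intro f hf
    refine ⟨D.mulVec f, mulVec_invFun (fun h j i => inv_equivariant hAD hDA hA h i j) hf, ?_⟩
    exact (matEquiv A D hAD hDA).right_inv f

theorem sum_mulVec_mul {A : Matrix I J k} {D : Matrix J I k} (hDA : D * A = 1) (f f' : J → k) :
    ∑ i, A.mulVec f i * D.transpose.mulVec f' i = ∑ j, f j * f' j := by
  have h1 : ∑ i, A.mulVec f i * D.transpose.mulVec f' i =
      dotProduct (D.transpose.mulVec f') (A.mulVec f) := by
    rw [dotProduct]; exact Finset.sum_congr rfl fun i _ => mul_comm _ _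
  rw [h1, Matrix.mulVec_transpose, ← Matrix.dotProduct_mulVec, Matrix.mulVec_mulVec, hDA,
    Matrix.one_mulVec, dotProduct]
  exact Finset.sum_congr rfl fun i _ => mul_comm _ _

theorem map_radFun {A : Matrix I J k} {D : Matrix J I k} (hAD : A * D = 1) (hDA : D * A = 1)
    (hA : ∀ (h : H) i j, A (h • i) (h • j) = A i j) :
    (radFun k H J).map (matEquiv A D hAD hDA).toLinearMap = radFun k H I := by
  have hD : ∀ (h : H) j i, D (h • j) (h • i) = D j i :=
    fun h j i => inv_equivariant hAD hDA hA h i j
  have hDT : ∀ (h : H) i j, D.transpose (h • i) (h • j) = D.transpose i j := fun h i j => hD h j i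
  have hAT : ∀ (h : H) j i, A.transpose (h • j) (h • i) = A.transpose j i := fun h j i => hA h i j
  have hTT : A.transpose * D.transpose = 1 := by
    rw [← Matrix.transpose_mul, hDA, Matrix.transpose_one]
  have hTT' : D.transpose * A.transpose = 1 := by
    rw [← Matrix.transpose_mul, hAD, Matrix.transpose_one]
  apply le_antisymm
  · rintro _ ⟨f, ⟨hf, hf2⟩, rfl⟩
    refine ⟨mulVec_invFun hA hf, fun g hg => ?_⟩
    have h1 : g = D.transpose.mulVec (A.transpose.mulVec g) := by
      rw [Matrix.mulVec_mulVec, hTT', Matrix.one_mulVec]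
    show ∑ i, A.mulVec f i * g i = 0
    rw [h1, sum_mulVec_mul hDA]
    exact hf2 _ (mulVec_invFun hAT hg)
  · rintro g ⟨hg, hg2⟩
    refine ⟨D.mulVec g, ⟨mulVec_invFun hD hg, fun f hf => ?_⟩, (matEquiv A D hAD hDA).right_inv g⟩
    have h1 := sum_mulVec_mul hDA (D.mulVec g) f
    rw [← h1, Matrix.mulVec_mulVec, hAD, Matrix.one_mulVec]
    exact hg2 _ (mulVec_invFun hDT hf)

/-- Equal numbers of orbits. -/
theorem card_orbits_eq {A : Matrix I J k} {D : Matrix J I k} (hAD : A * D = 1) (hDA : D * A = 1)
    (hA : ∀ (h : H) i j, A (h • i) (h • j) = A i j) :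
    Nat.card (orbitRel.Quotient H I) = Nat.card (orbitRel.Quotient H J) := by
  rw [← finrank_invFun (k := k), ← finrank_invFun (k := k), ← map_invFun hAD hDA hA,
    LinearEquiv.finrank_map_eq]

/-- Equal numbers of orbits of size zero in `k`. -/
theorem card_orbits_zero_eq {A : Matrix I J k} {D : Matrix J I k} (hAD : A * D = 1)
    (hDA : D * A = 1) (hA : ∀ (h : H) i j, A (h • i) (h • j) = A i j) :
    Nat.card {q : orbitRel.Quotient H I // (osize H q : k) = 0} =
      Nat.card {q : orbitRel.Quotient H J // (osize H q : k) = 0} := by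
  rw [← finrank_radFun (k := k), ← finrank_radFun (k := k), ← map_radFun hAD hDA hA,
    LinearEquiv.finrank_map_eq]

/-- Equal numbers of orbits of size non-zero in `k`. -/
theorem card_orbits_nonzero_eq {A : Matrix I J k} {D : Matrix J I k} (hAD : A * D = 1)
    (hDA : D * A = 1) (hA : ∀ (h : H) i j, A (h • i) (h • j) = A i j) :
    Nat.card {q : orbitRel.Quotient H I // (osize H q : k) ≠ 0} =
      Nat.card {q : orbitRel.Quotient H J // (osize H q : k) ≠ 0} := by
  have h1 := card_orbits_eq hAD hDA hA
  have h2 := card_orbits_zero_eq hAD hDA hA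
  have h4 : Nat.card {q : orbitRel.Quotient H I // (osize H q : k) = 0} +
      Nat.card {q : orbitRel.Quotient H I // ¬ (osize H q : k) = 0} =
        Nat.card (orbitRel.Quotient H I) := by
    rw [Nat.card_eq_fintype_card, Nat.card_eq_fintype_card, Nat.card_eq_fintype_card,
      Fintype.card_subtype_compl]
    have := Fintype.card_subtype_le (fun q : orbitRel.Quotient H I => (osize H q : k) = 0)
    omega
  have h5 : Nat.card {q : orbitRel.Quotient H J // (osize H q : k) = 0} +
      Nat.card {q : orbitRel.Quotient H J // ¬ (osize H q : k) = 0} =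
        Nat.card (orbitRel.Quotient H J) := by
    rw [Nat.card_eq_fintype_card, Nat.card_eq_fintype_card, Nat.card_eq_fintype_card,
      Fintype.card_subtype_compl]
    have := Fintype.card_subtype_le (fun q : orbitRel.Quotient H J => (osize H q : k) = 0)
    omega
  show Nat.card {q : orbitRel.Quotient H I // ¬ (osize H q : k) = 0} =
      Nat.card {q : orbitRel.Quotient H J // ¬ (osize H q : k) = 0}
  omega

end Two


/-! ### Orbits stable under a commuting involution -/

section Invol

variable {I : Type w} [Fintype I] [MulAction H I]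

/-- The action of `H × C₂` given by an action of `H` and a commuting involution. -/
@[reducible] def involAct (c : I → I) (hc : ∀ i, c (c i) = i) (hcH : ∀ (h : H) i, c (h • i) = h • c i) :
    MulAction (H × ℤˣ) I where
  smul x i := if x.2 = 1 then x.1 • i else c (x.1 • i)
  one_smul i := by
    show (if (1 : H × ℤˣ).2 = 1 then (1 : H × ℤˣ).1 • i else _) = i
    simp
  mul_smul x y i := by
    obtain ⟨a, e⟩ := x
    obtain ⟨b, f⟩ := y
    show (if e * f = 1 then (a * b) • i else c ((a * b) • i)) =
      if e = 1 then a • (if f = 1 then b • i else c (b • i)) else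
        c (a • (if f = 1 then b • i else c (b • i)))
    have hne : (-1 : ℤˣ) ≠ 1 := by decide
    rcases Int.units_eq_one_or e with rfl | rfl <;> rcases Int.units_eq_one_or f with rfl | rfl
    · simp [mul_smul]
    · simp [hne, mul_smul, hcH]
    · simp [hne, mul_smul]
    · simp [hne, mul_smul, hcH, hc]

/-- The involution induced on orbits. -/
def cbar (c : I → I) (hcH : ∀ (h : H) i, c (h • i) = h • c i) :
    orbitRel.Quotient H I → orbitRel.Quotient H I :=
  Quotient.map' c (by
    rintro a b ⟨h, hh⟩
    refine ⟨h, ?_⟩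
    rw [← hh]
    exact (hcH h b).symm)

theorem cbar_mk (c : I → I) (hcH : ∀ (h : H) i, c (h • i) = h • c i) (i : I) :
    cbar c hcH (Quotient.mk'' i) = Quotient.mk'' (c i) := rfl

/-- The projection from `H`-orbits to `H × C₂`-orbits. -/
def toBig (c : I → I) (hc : ∀ i, c (c i) = i) (hcH : ∀ (h : H) i, c (h • i) = h • c i) :
    orbitRel.Quotient H I → @orbitRel.Quotient (H × ℤˣ) I _ (involAct c hc hcH) :=
  let _ := involAct c hc hcH
  Quotient.map' id (by
    rintro a b ⟨h, hh⟩
    refine ⟨(h, 1), ?_⟩
    show (if (1 : ℤˣ) = 1 then h • b else _) = a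
    rw [if_pos rfl]
    exact hh)

theorem toBig_eq_iff (c : I → I) (hc : ∀ i, c (c i) = i) (hcH : ∀ (h : H) i, c (h • i) = h • c i)
    (i : I) (q : orbitRel.Quotient H I) :
    toBig c hc hcH q = toBig c hc hcH (Quotient.mk'' i) ↔
      q = Quotient.mk'' i ∨ q = Quotient.mk'' (c i) := by
  let _ := involAct c hc hcH
  induction q using Quotient.inductionOn' with
  | _ j =>
  constructor
  · intro h
    have h' : (Quotient.mk'' j : @orbitRel.Quotient (H × ℤˣ) I _ (involAct c hc hcH)) =
      Quotient.mk'' i := h
    rw [Quotient.eq''] at h'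
    obtain ⟨⟨a, e⟩, he⟩ := h'
    have he' : (if e = 1 then a • i else c (a • i)) = j := he
    rcases Int.units_eq_one_or e with rfl | rfl
    · left
      rw [if_pos rfl] at he'
      rw [Quotient.eq'']
      exact ⟨a, he'⟩
    · right
      rw [if_neg (by decide), hcH] at he'
      rw [Quotient.eq'']
      exact ⟨a, he'⟩
  · rintro (h | h)
    · rw [h]
    · rw [h]
      show (Quotient.mk'' (c i) : @orbitRel.Quotient (H × ℤˣ) I _ (involAct c hc hcH)) =
        Quotient.mk'' i
      rw [Quotient.eq'']
      refine ⟨(1, -1), ?_⟩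
      show (if (-1 : ℤˣ) = 1 then (1 : H) • i else c ((1 : H) • i)) = c i
      rw [if_neg (by decide), one_smul]

theorem toBig_surjective (c : I → I) (hc : ∀ i, c (c i) = i)
    (hcH : ∀ (h : H) i, c (h • i) = h • c i) : Function.Surjective (toBig c hc hcH) := by
  let _ := involAct c hc hcH
  intro q
  induction q using Quotient.inductionOn' with
  | _ j => exact ⟨Quotient.mk'' j, rfl⟩

/-- Counting the orbits stable under the involution. -/
theorem card_add_card_fixed (c : I → I) (hc : ∀ i, c (c i) = i)
    (hcH : ∀ (h : H) i, c (h • i) = h • c i) (P : orbitRel.Quotient H I → Prop)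
    (P' : @orbitRel.Quotient (H × ℤˣ) I _ (involAct c hc hcH) → Prop)
    (hP : ∀ q, P' (toBig c hc hcH q) ↔ P q) :
    Nat.card {q : orbitRel.Quotient H I // P q} +
      Nat.card {q : orbitRel.Quotient H I // cbar c hcH q = q ∧ P q} =
        2 * Nat.card {q // P' q} := by
  let _ := involAct c hc hcH
  have e1 : Nat.card {q : orbitRel.Quotient H I // P q} =
      ∑ q' : @orbitRel.Quotient (H × ℤˣ) I _ (involAct c hc hcH),
        (Finset.univ.filter fun q : orbitRel.Quotient H I => P q ∧ toBig c hc hcH q = q').card := by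
    rw [Nat.card_eq_fintype_card, Fintype.card_subtype,
      Finset.card_eq_sum_card_fiberwise (f := toBig c hc hcH) (t := Finset.univ)
        (fun _ _ => Finset.mem_univ _)]
    refine Finset.sum_congr rfl fun q' _ => ?_
    rw [Finset.filter_filter]
  have e2 : Nat.card {q : orbitRel.Quotient H I // cbar c hcH q = q ∧ P q} =
      ∑ q' : @orbitRel.Quotient (H × ℤˣ) I _ (involAct c hc hcH),
        (Finset.univ.filter fun q : orbitRel.Quotient H I =>
          (cbar c hcH q = q ∧ P q) ∧ toBig c hc hcH q = q').card := by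
    rw [Nat.card_eq_fintype_card, Fintype.card_subtype,
      Finset.card_eq_sum_card_fiberwise (f := toBig c hc hcH) (t := Finset.univ)
        (fun _ _ => Finset.mem_univ _)]
    refine Finset.sum_congr rfl fun q' _ => ?_
    rw [Finset.filter_filter]
  have e3 : 2 * Nat.card {q // P' q} =
      ∑ q' : @orbitRel.Quotient (H × ℤˣ) I _ (involAct c hc hcH), if P' q' then 2 else 0 := by
    rw [Nat.card_eq_fintype_card, Fintype.card_subtype, ← Finset.sum_filter, Finset.sum_const,
      smul_eq_mul, mul_comm]
  rw [e1, e2, e3, ← Finset.sum_add_distrib]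
  refine Finset.sum_congr rfl fun q' _ => ?_
  obtain ⟨q, rfl⟩ := toBig_surjective c hc hcH q'
  induction q using Quotient.inductionOn' with
  | _ i =>
  by_cases hPi : P (Quotient.mk'' i)
  · rw [if_pos ((hP _).mpr hPi)]
    have hPci : P (Quotient.mk'' (c i)) := by
      rw [← hP, (toBig_eq_iff c hc hcH i (Quotient.mk'' (c i))).mpr (Or.inr rfl), hP]
      exact hPi
    have f1 : (Finset.univ.filter fun q : orbitRel.Quotient H I =>
        P q ∧ toBig c hc hcH q = toBig c hc hcH (Quotient.mk'' i)) =
          {Quotient.mk'' i, Quotient.mk'' (c i)} := by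
      ext q
      simp only [Finset.mem_filter, Finset.mem_univ, true_and, Finset.mem_insert,
        Finset.mem_singleton, toBig_eq_iff]
      constructor
      · rintro ⟨_, h⟩; exact h
      · rintro (h | h)
        · exact ⟨by rw [h]; exact hPi, Or.inl h⟩
        · exact ⟨by rw [h]; exact hPci, Or.inr h⟩
    by_cases hfix : (Quotient.mk'' (c i) : orbitRel.Quotient H I) = Quotient.mk'' i
    · have f2 : (Finset.univ.filter fun q : orbitRel.Quotient H I =>
        (cbar c hcH q = q ∧ P q) ∧ toBig c hc hcH q = toBig c hc hcH (Quotient.mk'' i)) =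
          {Quotient.mk'' i} := by
        ext q
        simp only [Finset.mem_filter, Finset.mem_univ, true_and,
          Finset.mem_singleton, toBig_eq_iff]
        constructor
        · rintro ⟨_, h | h⟩
          · exact h
          · rw [h, hfix]
        · rintro rfl
          exact ⟨⟨hfix, hPi⟩, Or.inl rfl⟩
      rw [f1, f2, hfix]
      simp
    · have f2 : (Finset.univ.filter fun q : orbitRel.Quotient H I =>
        (cbar c hcH q = q ∧ P q) ∧ toBig c hc hcH q = toBig c hc hcH (Quotient.mk'' i)) = ∅ := by
        ext q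
        simp only [Finset.mem_filter, Finset.mem_univ, true_and,
          toBig_eq_iff, Finset.notMem_empty, iff_false]
        rintro ⟨⟨h1, _⟩, h | h⟩
        · rw [h, cbar_mk] at h1; exact hfix h1
        · rw [h, cbar_mk, hc] at h1; exact hfix h1.symm
      rw [f1, f2, Finset.card_empty, add_zero, Finset.card_pair (fun h => hfix h.symm)]
  · rw [if_neg (fun h => hPi ((hP _).mp h))]
    have hPci : ¬ P (Quotient.mk'' (c i)) := by
      rw [← hP, (toBig_eq_iff c hc hcH i (Quotient.mk'' (c i))).mpr (Or.inr rfl), hP]
      exact hPi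
    have f1 : (Finset.univ.filter fun q : orbitRel.Quotient H I =>
        P q ∧ toBig c hc hcH q = toBig c hc hcH (Quotient.mk'' i)) = ∅ := by
      ext q
      simp only [Finset.mem_filter, Finset.mem_univ, true_and, toBig_eq_iff, Finset.notMem_empty,
        iff_false]
      rintro ⟨h1, h | h⟩
      · rw [h] at h1; exact hPi h1
      · rw [h] at h1; exact hPci h1
    have f2 : (Finset.univ.filter fun q : orbitRel.Quotient H I =>
        (cbar c hcH q = q ∧ P q) ∧ toBig c hc hcH q = toBig c hc hcH (Quotient.mk'' i)) = ∅ := by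
      ext q
      simp only [Finset.mem_filter, Finset.mem_univ, true_and, toBig_eq_iff, Finset.notMem_empty,
        iff_false]
      rintro ⟨⟨_, h1⟩, h | h⟩
      · rw [h] at h1; exact hPi h1
      · rw [h] at h1; exact hPci h1
    rw [f1, f2]; rfl

theorem osize_cbar (c : I → I) (hc : ∀ i, c (c i) = i)
    (hcH : ∀ (h : H) i, c (h • i) = h • c i) (q : orbitRel.Quotient H I) :
    osize H (cbar c hcH q) = osize H q := by
  unfold osize
  refine Nat.card_congr ⟨fun i => ⟨c i.1, ?_⟩, fun i => ⟨c i.1, ?_⟩, fun i => ?_, fun i => ?_⟩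
  · rw [← cbar_mk c hcH, i.2]
    induction q using Quotient.inductionOn' with
    | _ j => rw [cbar_mk, cbar_mk, hc]
  · rw [← cbar_mk c hcH, i.2]
  · exact Subtype.ext (hc _)
  · exact Subtype.ext (hc _)

theorem osize_toBig_of_fixed (c : I → I) (hc : ∀ i, c (c i) = i)
    (hcH : ∀ (h : H) i, c (h • i) = h • c i) (q : orbitRel.Quotient H I)
    (hq : cbar c hcH q = q) :
    @osize (H × ℤˣ) _ I (involAct c hc hcH) (toBig c hc hcH q) = osize H q := by
  let _ := involAct c hc hcH
  unfold osize
  apply Nat.card_congr
  apply Equiv.subtypeEquivRight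
  intro j
  induction q using Quotient.inductionOn' with
  | _ i =>
  have h1 : (Quotient.mk'' j : @orbitRel.Quotient (H × ℤˣ) I _ (involAct c hc hcH)) =
    toBig c hc hcH (Quotient.mk'' j) := rfl
  rw [h1, toBig_eq_iff]
  rw [cbar_mk] at hq
  constructor
  · rintro (h | h)
    · exact h
    · rw [h, hq]
  · intro h; exact Or.inl h

theorem osize_toBig_of_not_fixed (c : I → I) (hc : ∀ i, c (c i) = i)
    (hcH : ∀ (h : H) i, c (h • i) = h • c i) (q : orbitRel.Quotient H I)
    (hq : cbar c hcH q ≠ q) :
    @osize (H × ℤˣ) _ I (involAct c hc hcH) (toBig c hc hcH q) = 2 * osize H q := by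
  let _ := involAct c hc hcH
  have h0 : 2 * osize H q = osize H q + osize H (cbar c hcH q) := by
    rw [osize_cbar c hc hcH]; ring
  rw [h0]
  unfold osize
  rw [Nat.card_eq_fintype_card, Nat.card_eq_fintype_card, Nat.card_eq_fintype_card,
    Fintype.card_subtype, Fintype.card_subtype, Fintype.card_subtype,
    ← Finset.card_union_of_disjoint]
  · congr 1
    ext j
    simp only [Finset.mem_filter, Finset.mem_univ, true_and, Finset.mem_union]
    induction q using Quotient.inductionOn' with
    | _ i =>
    have h1 : (Quotient.mk'' j : @orbitRel.Quotient (H × ℤˣ) I _ (involAct c hc hcH)) =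
      toBig c hc hcH (Quotient.mk'' j) := rfl
    rw [h1, toBig_eq_iff]
    rfl
  · rw [Finset.disjoint_left]
    intro j hj hj'
    have h1 := (Finset.mem_filter.mp hj).2
    have h2 := (Finset.mem_filter.mp hj').2
    exact hq (h2.symm.trans h1)

theorem card_big_char_two (hk : (2 : k) = 0) (c : I → I) (hc : ∀ i, c (c i) = i)
    (hcH : ∀ (h : H) i, c (h • i) = h • c i) :
    Nat.card {q : @orbitRel.Quotient (H × ℤˣ) I _ (involAct c hc hcH) //
      (@osize (H × ℤˣ) _ I (involAct c hc hcH) q : k) ≠ 0} =
    Nat.card {q : orbitRel.Quotient H I // cbar c hcH q = q ∧ (osize H q : k) ≠ 0} := by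
  symm
  apply Nat.card_congr
  refine Equiv.ofBijective (fun q => ⟨toBig c hc hcH q.1, ?_⟩) ⟨?_, ?_⟩
  · rw [osize_toBig_of_fixed c hc hcH _ q.2.1]; exact q.2.2
  · rintro ⟨q, hq⟩ ⟨q', hq'⟩ heq
    have heq' : toBig c hc hcH q = toBig c hc hcH q' := congrArg Subtype.val heq
    apply Subtype.ext
    show q = q'
    have hq1 := hq'.1
    clear heq hq hq'
    induction q' using Quotient.inductionOn' with
    | _ i =>
    rw [toBig_eq_iff] at heq'
    rcases heq' with h | h
    · exact h
    · rw [h]; exact hq1
  · rintro ⟨q', hq'⟩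
    obtain ⟨q, rfl⟩ := toBig_surjective c hc hcH q'
    by_cases hf : cbar c hcH q = q
    · refine ⟨⟨q, hf, ?_⟩, rfl⟩
      rwa [osize_toBig_of_fixed c hc hcH _ hf] at hq'
    · exfalso
      apply hq'
      rw [osize_toBig_of_not_fixed c hc hcH _ hf]
      push_cast
      rw [hk, zero_mul]

theorem osize_big_ne_zero (hk : (2 : k) ≠ 0) (c : I → I) (hc : ∀ i, c (c i) = i)
    (hcH : ∀ (h : H) i, c (h • i) = h • c i) (q : orbitRel.Quotient H I) :
    (@osize (H × ℤˣ) _ I (involAct c hc hcH) (toBig c hc hcH q) : k) ≠ 0 ↔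
      (osize H q : k) ≠ 0 := by
  by_cases hf : cbar c hcH q = q
  · rw [osize_toBig_of_fixed c hc hcH _ hf]
  · rw [osize_toBig_of_not_fixed c hc hcH _ hf]
    push_cast
    simp [hk]

end Invol

section InvolTwo

variable {I : Type w} {J : Type x} [Fintype I] [Fintype J] [DecidableEq I] [DecidableEq J]
  [MulAction H I] [MulAction H J]

/-- The number of `c`-stable `H`-orbits on `I` and on `J` is the same. -/
theorem card_fixed_eq {A : Matrix I J k} {D : Matrix J I k} (hAD : A * D = 1) (hDA : D * A = 1)
    (hA : ∀ (h : H) i j, A (h • i) (h • j) = A i j)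
    (c : I → I) (hc : ∀ i, c (c i) = i) (hcH : ∀ (h : H) i, c (h • i) = h • c i)
    (d : J → J) (hd : ∀ j, d (d j) = j) (hdH : ∀ (h : H) j, d (h • j) = h • d j)
    (hcd : ∀ i j, A (c i) (d j) = A i j) :
    Nat.card {q : orbitRel.Quotient H I // cbar c hcH q = q} =
      Nat.card {q : orbitRel.Quotient H J // cbar d hdH q = q} := by
  have h1 := card_orbits_eq hAD hDA hA
  have h2 : Nat.card (@orbitRel.Quotient (H × ℤˣ) I _ (involAct c hc hcH)) =
      Nat.card (@orbitRel.Quotient (H × ℤˣ) J _ (involAct d hd hdH)) := by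
    let _ := involAct c hc hcH
    let _ := involAct d hd hdH
    apply card_orbits_eq hAD hDA
    rintro ⟨a, e⟩ i j
    show A (if e = 1 then a • i else c (a • i)) (if e = 1 then a • j else d (a • j)) = A i j
    split_ifs
    · exact hA a i j
    · rw [hcd]; exact hA a i j
  have h3 := card_add_card_fixed c hc hcH (fun _ => True) (fun _ => True) (fun _ => Iff.rfl)
  have h4 := card_add_card_fixed d hd hdH (fun _ => True) (fun _ => True) (fun _ => Iff.rfl)
  simp only [and_true] at h3 h4
  rw [Nat.card_congr (Equiv.subtypeUnivEquiv fun _ => trivial),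
    Nat.card_congr (Equiv.subtypeUnivEquiv fun _ => trivial)] at h3 h4
  omega

/-- The number of `c`-stable `H`-orbits of size non-zero in `k` on `I` and on `J` is the same. -/
theorem card_fixed_nonzero_eq {A : Matrix I J k} {D : Matrix J I k} (hAD : A * D = 1)
    (hDA : D * A = 1) (hA : ∀ (h : H) i j, A (h • i) (h • j) = A i j)
    (c : I → I) (hc : ∀ i, c (c i) = i) (hcH : ∀ (h : H) i, c (h • i) = h • c i)
    (d : J → J) (hd : ∀ j, d (d j) = j) (hdH : ∀ (h : H) j, d (h • j) = h • d j)
    (hcd : ∀ i j, A (c i) (d j) = A i j) :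
    Nat.card {q : orbitRel.Quotient H I // cbar c hcH q = q ∧ (osize H q : k) ≠ 0} =
      Nat.card {q : orbitRel.Quotient H J // cbar d hdH q = q ∧ (osize H q : k) ≠ 0} := by
  have h1 := card_orbits_nonzero_eq hAD hDA hA
  have h2 : Nat.card {q : @orbitRel.Quotient (H × ℤˣ) I _ (involAct c hc hcH) //
        (@osize (H × ℤˣ) _ I (involAct c hc hcH) q : k) ≠ 0} =
      Nat.card {q : @orbitRel.Quotient (H × ℤˣ) J _ (involAct d hd hdH) //
        (@osize (H × ℤˣ) _ J (involAct d hd hdH) q : k) ≠ 0} := by
    let _ := involAct c hc hcH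
    let _ := involAct d hd hdH
    apply card_orbits_nonzero_eq hAD hDA
    rintro ⟨a, e⟩ i j
    show A (if e = 1 then a • i else c (a • i)) (if e = 1 then a • j else d (a • j)) = A i j
    split_ifs
    · exact hA a i j
    · rw [hcd]; exact hA a i j
  by_cases hk : (2 : k) = 0
  · rw [← card_big_char_two hk c hc hcH, ← card_big_char_two hk d hd hdH, h2]
  · have h5 := card_add_card_fixed c hc hcH (fun q => (osize H q : k) ≠ 0)
      (fun q => (@osize (H × ℤˣ) _ I (involAct c hc hcH) q : k) ≠ 0)
      (osize_big_ne_zero hk c hc hcH)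
    have h6 := card_add_card_fixed d hd hdH (fun q => (osize H q : k) ≠ 0)
      (fun q => (@osize (H × ℤˣ) _ J (involAct d hd hdH) q : k) ≠ 0)
      (osize_big_ne_zero hk d hd hdH)
    omega

end InvolTwo

end Cfsg.Agent.Lib.OrbitCount
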