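import Cfsg.Agent.Lib.PermLemma
import Cfsg.Agent.Lib.CharValues
import Cfsg.Agent.Lib.OrbitCount

/-!
# Group actions on irreducible characters and classes, over an arbitrary field (helper81)

The character table of `X`, pushed to a field `k` by a ring homomorphism `ρ` from the algebraic
integers to `k` under which `|X|` does not vanish, is an invertible matrix.
-/

set_option autoImplicit false
set_option linter.unusedSectionVars false

namespace Cfsg.Agent.Lib.ClassAction

open scoped ComplexConjugate Classical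
open Cfsg Cfsg.Agent.Lib.CharBasic Cfsg.Agent.Lib.PermLemma Cfsg.Agent.Lib.OrbitCount
open MulAction

universe u v w

/-- The ring of algebraic integers. -/
abbrev AI : Subalgebra ℤ ℂ := integralClosure ℤ ℂ

section Table

variable {X : Type u} [Group X] [Finite X]

theorem isIntegral_irr {χ : X → ℂ} (hχ : IsIrrCharacter X χ) (x : X) : IsIntegral ℤ (χ x) := by
  obtain ⟨n, ρ, _, rfl⟩ := hχ
  exact CharValues.isIntegral_character ρ x

/-- Value of an irreducible character at a class, as an algebraic integer. -/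
noncomputable def val (χ : IrrCharacter X) (C : ConjClasses X) : AI :=
  ⟨classLift (χ : X → ℂ) C, isIntegral_irr χ.2 _⟩

theorem coe_val (χ : IrrCharacter X) (C : ConjClasses X) : (val χ C : ℂ) = classLift (χ : X → ℂ) C :=
  rfl

theorem coe_val_mk (χ : IrrCharacter X) (x : X) : (val χ (ConjClasses.mk x) : ℂ) = (χ : X → ℂ) x :=
  classLift_mk χ.2.isClassFunction x

/-- Size of a class. -/
noncomputable def csize (C : ConjClasses X) : ℕ := Nat.card {x : X // ConjClasses.mk x = C}

noncomputable instance instFintypeConjClasses' : Fintype (ConjClasses X) := Fintype.ofFinite _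

theorem sum_classes [Fintype X] {M : Type*} [AddCommMonoid M] (F : ConjClasses X → M) :
    ∑ x : X, F (ConjClasses.mk x) = ∑ C : ConjClasses X, csize C • F C := by
  rw [← Finset.sum_fiberwise_of_maps_to (s := Finset.univ) (t := Finset.univ)
    (g := fun x : X => ConjClasses.mk x) (fun _ _ => Finset.mem_univ _)]
  refine Finset.sum_congr rfl fun C _ => ?_
  rw [Finset.sum_congr rfl (g := fun _ => F C), Finset.sum_const]
  · congr 1
    rw [csize, Nat.card_eq_fintype_card, Fintype.card_subtype]
  · intro x hx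
    rw [(Finset.mem_filter.mp hx).2]

theorem sum_val_mul_val (χ ψ : IrrCharacter X) :
    ∑ C : ConjClasses X, (csize C : AI) * (val χ C * val (irrConj X ψ) C) =
      if χ = ψ then (Nat.card X : AI) else 0 := by
  have := Fintype.ofFinite X
  apply Subtype.val_injective
  have h1 : ((∑ C : ConjClasses X, (csize C : AI) * (val χ C * val (irrConj X ψ) C) : AI) : ℂ) =
      ∑ C : ConjClasses X, csize C • (classLift (χ : X → ℂ) C *
        classLift ((irrConj X ψ : IrrCharacter X) : X → ℂ) C) := by
    push_cast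
    refine Finset.sum_congr rfl fun C _ => ?_
    rw [nsmul_eq_mul]
    rfl
  rw [h1, ← sum_classes (fun C => classLift (χ : X → ℂ) C *
    classLift ((irrConj X ψ : IrrCharacter X) : X → ℂ) C)]
  have h2 : ∑ x : X, classLift (χ : X → ℂ) (ConjClasses.mk x) *
      classLift ((irrConj X ψ : IrrCharacter X) : X → ℂ) (ConjClasses.mk x) =
        ∑ x : X, (χ : X → ℂ) x * conj ((ψ : X → ℂ) x) := by
    refine Finset.sum_congr rfl fun x _ => ?_
    rw [classLift_mk χ.2.isClassFunction, classLift_mk (irrConj X ψ).2.isClassFunction,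
      irrConj_apply]
  rw [h2]
  have h3 := irr_orthonormal χ ψ
  rw [classInner_def] at h3
  have hX : (Nat.card X : ℂ) ≠ 0 := by exact_mod_cast Nat.card_pos.ne'
  have h4 : ∑ x : X, (χ : X → ℂ) x * conj ((ψ : X → ℂ) x) =
      (Nat.card X : ℂ) * (if χ = ψ then 1 else 0) := by
    rw [← h3]; field_simp
  rw [h4]
  split_ifs <;> simp

variable {k : Type w} [Field k] (ρ : AI →+* k)

/-- The character table over `k`. -/
noncomputable def tab : Matrix (IrrCharacter X) (ConjClasses X) k := fun χ C => ρ (val χ C)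

/-- The inverse of the character table over `k`. -/
noncomputable def tabInv : Matrix (ConjClasses X) (IrrCharacter X) k := fun C χ =>
  (Nat.card X : k)⁻¹ * ((csize C : k) * ρ (val (irrConj X χ) C))

theorem tab_mul_tabInv (hX : (Nat.card X : k) ≠ 0) :
    (tab ρ : Matrix (IrrCharacter X) (ConjClasses X) k) *
      (tabInv ρ : Matrix (ConjClasses X) (IrrCharacter X) k) = 1 := by
  ext χ ψ
  rw [Matrix.mul_apply, Matrix.one_apply]
  have h1 : ∑ C : ConjClasses X, tab ρ χ C * tabInv ρ C ψ =
      (Nat.card X : k)⁻¹ * ρ (∑ C : ConjClasses X, (csize C : AI) *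
        (val χ C * val (irrConj X ψ) C)) := by
    rw [map_sum, Finset.mul_sum]
    refine Finset.sum_congr rfl fun C _ => ?_
    rw [tab, tabInv, map_mul, map_mul, map_natCast]
    ring
  rw [h1, sum_val_mul_val]
  split_ifs
  · rw [map_natCast, inv_mul_cancel₀ hX]
  · rw [map_zero, mul_zero]

theorem tabInv_mul_tab (hX : (Nat.card X : k) ≠ 0) :
    (tabInv ρ : Matrix (ConjClasses X) (IrrCharacter X) k) *
      (tab ρ : Matrix (IrrCharacter X) (ConjClasses X) k) = 1 := by
  have h1 : Fintype.card (IrrCharacter X) = Fintype.card (ConjClasses X) := by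
    rw [← Nat.card_eq_fintype_card, ← Nat.card_eq_fintype_card]
    exact card_irr
  exact (Matrix.mul_eq_one_comm_of_card_eq _ _ _ h1).mp (tab_mul_tabInv ρ hX)

end Table

/-! ### Actions -/

section Action

variable {X : Type u} [Group X] {H : Type v} [Group H] (φ : H →* MulAut X)

/-- The action on irreducible characters: `(h • χ)(h • x) = χ(x)`. -/
@[reducible] noncomputable def irrAct : MulAction H (IrrCharacter X) where
  smul h χ := irrPerm (φ h⁻¹) χ
  one_smul χ := by
    apply Subtype.ext
    funext x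
    show (χ : X → ℂ) (φ (1 : H)⁻¹ x) = χ.1 x
    simp
  mul_smul a b χ := by
    apply Subtype.ext
    funext x
    show (χ : X → ℂ) (φ (a * b)⁻¹ x) = (χ : X → ℂ) (φ b⁻¹ (φ a⁻¹ x))
    rw [mul_inv_rev, map_mul]; rfl

/-- The action on conjugacy classes. -/
@[reducible] def clsAct : MulAction H (ConjClasses X) where
  smul h C := ConjClasses.map (φ h).toMonoidHom C
  one_smul C := by
    obtain ⟨x, rfl⟩ := ConjClasses.mk_surjective C
    show ConjClasses.mk (φ 1 x) = _
    simp
  mul_smul a b C := by
    obtain ⟨x, rfl⟩ := ConjClasses.mk_surjective C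
    show ConjClasses.mk (φ (a * b) x) = ConjClasses.mk (φ a (φ b x))
    rw [map_mul]; rfl

theorem irrAct_apply (h : H) (χ : IrrCharacter X) (x : X) :
    let _ := irrAct φ
    ((h • χ : IrrCharacter X) : X → ℂ) x = (χ : X → ℂ) (φ h⁻¹ x) := rfl

theorem irrAct_apply' (h : H) (χ : IrrCharacter X) (x : X) :
    let _ := irrAct φ
    ((h • χ : IrrCharacter X) : X → ℂ) (φ h x) = (χ : X → ℂ) x := by
  show (χ : X → ℂ) (φ h⁻¹ (φ h x)) = _
  rw [map_inv]
  simp

theorem clsAct_mk (h : H) (x : X) :
    let _ := clsAct φ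
    h • ConjClasses.mk x = ConjClasses.mk (φ h x) := rfl

variable [Finite X] {k : Type w} [Field k] (ρ : AI →+* k)

theorem tab_smul (h : H) (χ : IrrCharacter X) (C : ConjClasses X) :
    let _ := irrAct φ
    let _ := clsAct φ
    (tab ρ : Matrix (IrrCharacter X) (ConjClasses X) k) (h • χ) (h • C) = tab ρ χ C := by
  intro _ _
  obtain ⟨x, rfl⟩ := ConjClasses.mk_surjective C
  show ρ (val _ _) = ρ (val _ _)
  congr 1
  apply Subtype.val_injective
  rw [clsAct_mk, coe_val_mk, coe_val_mk, irrAct_apply']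

theorem tab_conj (χ : IrrCharacter X) (C : ConjClasses X) :
    (tab ρ : Matrix (IrrCharacter X) (ConjClasses X) k) (irrConj X χ) (classInv X C) =
      tab ρ χ C := by
  obtain ⟨x, rfl⟩ := ConjClasses.mk_surjective C
  show ρ (val _ _) = ρ (val _ _)
  congr 1
  apply Subtype.val_injective
  rw [classInv_mk, coe_val_mk, coe_val_mk, irrConj_apply, χ.2.inv]
  simp

theorem irrConj_irrConj (χ : IrrCharacter X) : irrConj X (irrConj X χ) = χ :=
  (irrConj X).left_inv χ

theorem classInv_classInv (C : ConjClasses X) : classInv X (classInv X C) = C :=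
  (classInv X).left_inv C

theorem irrConj_smul (h : H) (χ : IrrCharacter X) :
    let _ := irrAct φ
    irrConj X (h • χ) = h • irrConj X χ := rfl

theorem classInv_smul (h : H) (C : ConjClasses X) :
    let _ := clsAct φ
    classInv X (h • C) = h • classInv X C := by
  intro _
  obtain ⟨x, rfl⟩ := ConjClasses.mk_surjective C
  rw [clsAct_mk, classInv_mk, classInv_mk, clsAct_mk, map_inv]

/-- The number of real `H`-orbits (orbits stable under complex conjugation, resp. inversion). -/
theorem card_real_orbits_eq (ρ : AI →+* k) (hX : (Nat.card X : k) ≠ 0) :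
    let _ := irrAct φ
    let _ := clsAct φ
    Nat.card {q : orbitRel.Quotient H (IrrCharacter X) //
      cbar (irrConj X) (irrConj_smul φ) q = q} =
    Nat.card {q : orbitRel.Quotient H (ConjClasses X) //
      cbar (classInv X) (classInv_smul φ) q = q} := by
  intro _ _
  exact card_fixed_eq (tab_mul_tabInv ρ hX) (tabInv_mul_tab ρ hX) (tab_smul φ ρ)
    (irrConj X) irrConj_irrConj (irrConj_smul φ) (classInv X) classInv_classInv
    (classInv_smul φ) (tab_conj ρ)

/-- The number of real `H`-orbits of size non-zero in `k`. -/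
theorem card_real_orbits_nonzero_eq (ρ : AI →+* k) (hX : (Nat.card X : k) ≠ 0) :
    let _ := irrAct φ
    let _ := clsAct φ
    Nat.card {q : orbitRel.Quotient H (IrrCharacter X) //
      cbar (irrConj X) (irrConj_smul φ) q = q ∧ (osize H q : k) ≠ 0} =
    Nat.card {q : orbitRel.Quotient H (ConjClasses X) //
      cbar (classInv X) (classInv_smul φ) q = q ∧ (osize H q : k) ≠ 0} := by
  intro _ _
  exact card_fixed_nonzero_eq (tab_mul_tabInv ρ hX) (tabInv_mul_tab ρ hX) (tab_smul φ ρ)
    (irrConj X) irrConj_irrConj (irrConj_smul φ) (classInv X) classInv_classInv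
    (classInv_smul φ) (tab_conj ρ)

/-- The number of `H`-orbits of size non-zero in `k`. -/
theorem card_orbits_nonzero_eq' (ρ : AI →+* k) (hX : (Nat.card X : k) ≠ 0) :
    let _ := irrAct φ
    let _ := clsAct φ
    Nat.card {q : orbitRel.Quotient H (IrrCharacter X) // (osize H q : k) ≠ 0} =
    Nat.card {q : orbitRel.Quotient H (ConjClasses X) // (osize H q : k) ≠ 0} := by
  intro _ _
  exact card_orbits_nonzero_eq (tab_mul_tabInv ρ hX) (tabInv_mul_tab ρ hX) (tab_smul φ ρ)

end Action

/-! ### Residue fields of characteristic `p` -/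

section Residue

/-- For every prime `p` there is a ring homomorphism from the algebraic integers to a field of
characteristic `p`. -/
theorem exists_residue (p : ℕ) (hp : p.Prime) :
    ∃ (k : Type) (_ : Field k) (_ : CharP k p), Nonempty (AI →+* k) := by
  have hnu : ¬ IsUnit (p : AI) := by
    intro h
    obtain ⟨b, hb⟩ := h.exists_left_inv
    have h1 : ((b : ℂ)) = ((p : ℚ)⁻¹ : ℚ) := by
      have h2 := congrArg (fun x : AI => (x : ℂ)) hb
      push_cast at h2 ⊢
      exact eq_inv_of_mul_eq_one_left h2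
    have h3 : IsIntegral ℤ (((p : ℚ)⁻¹ : ℚ) : ℂ) := h1 ▸ b.2
    have h4 : IsIntegral ℤ ((p : ℚ)⁻¹ : ℚ) := by
      have h5 : (((p : ℚ)⁻¹ : ℚ) : ℂ) = algebraMap ℚ ℂ ((p : ℚ)⁻¹) := rfl
      rw [h5] at h3
      exact (isIntegral_algebraMap_iff (algebraMap ℚ ℂ).injective).mp h3
    rw [IsIntegrallyClosed.isIntegral_iff] at h4
    obtain ⟨y, hy⟩ := h4
    have h6 : (y : ℚ) * p = 1 := by
      have : (algebraMap ℤ ℚ y) = (y : ℚ) := rfl
      rw [← this, hy]
      exact inv_mul_cancel₀ (by exact_mod_cast hp.ne_zero)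
    have h7 : y * (p : ℤ) = 1 := by exact_mod_cast h6
    have h8 : (p : ℤ) ∣ 1 := ⟨y, by rw [mul_comm]; exact h7.symm⟩
    have h9 : p ∣ 1 := by exact_mod_cast h8
    exact hp.one_lt.ne' (Nat.dvd_one.mp h9)
  obtain ⟨M, hM, hpM⟩ := Ideal.exists_le_maximal (Ideal.span {(p : AI)}) (by
    rw [Ne, Ideal.span_singleton_eq_top]; exact hnu)
  let _ : Field (AI ⧸ M) := Ideal.Quotient.field M
  refine ⟨AI ⧸ M, inferInstance, ?_, ⟨Ideal.Quotient.mk M⟩⟩
  have hz : ((p : ℕ) : AI ⧸ M) = 0 := by
    have : Ideal.Quotient.mk M (p : AI) = 0 :=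
      Ideal.Quotient.eq_zero_iff_mem.mpr (hpM (Ideal.mem_span_singleton_self _))
    rw [map_natCast] at this
    exact this
  obtain ⟨q, hq⟩ := CharP.exists (AI ⧸ M)
  have h1 : q ∣ p := (CharP.cast_eq_zero_iff (AI ⧸ M) q p).mp hz
  rcases (Nat.dvd_prime hp).mp h1 with h | h
  · exfalso
    exact CharP.char_ne_one (AI ⧸ M) q h
  · rw [← h]; exact hq

end Residue

/-! ### Tools -/

section Tools

/-- Cardinality of a quotient through an invariant map. -/
theorem card_quot_eq {α β : Type*} (r : α → α → Prop) (F : α → β)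
    (h1 : ∀ a b, r a b ↔ F a = F b) (hs : Function.Surjective F) :
    Nat.card (Quot r) = Nat.card β := by
  apply Nat.card_congr
  refine Equiv.ofBijective (Quot.lift F fun a b h => (h1 a b).mp h) ⟨?_, ?_⟩
  · intro x y
    induction x using Quot.ind with
    | _ a =>
    induction y using Quot.ind with
    | _ b =>
    intro h
    exact Quot.sound ((h1 a b).mpr h)
  · intro b
    obtain ⟨a, rfl⟩ := hs b
    exact ⟨Quot.mk _ a, rfl⟩

/-- If an element of odd order (on the point `i`) moves `i` to `c i`, then `c i = i`. -/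
theorem invol_fixed_of_odd {G : Type*} [Group G] {I : Type*} [MulAction G I] (c : I → I)
    (hc : ∀ i, c (c i) = i) (hcG : ∀ (g : G) i, c (g • i) = g • c i) (i : I) (g : G)
    (hg : g • i = c i) (n : ℕ) (hn : Odd n) (hgn : g ^ n • i = i) : c i = i := by
  have h2 : (g * g) • i = i := by
    rw [mul_smul, hg, ← hcG, hg, hc]
  have h3 : ∀ m : ℕ, (g ^ (2 * m)) • i = i := by
    intro m
    induction m with
    | zero => simp
    | succ m ih =>
      rw [show 2 * (m + 1) = 2 * m + 2 by ring, pow_add, mul_smul, pow_two, h2, ih]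
  obtain ⟨m, rfl⟩ := hn
  rw [pow_add, pow_one, mul_smul, hg] at hgn
  have h4 := congrArg c hgn
  rw [hcG, hc, h3] at h4
  exact h4.symm

end Tools

/-! ### `p`-groups acting in characteristic `p` -/

section PGroup

variable {k : Type w} [Field k] {P : Type v} [Group P]

theorem osize_mk_ne_zero_iff {p : ℕ} [hp : Fact p.Prime] [CharP k p] (hP : IsPGroup p P)
    {I : Type*} [Fintype I] [MulAction P I] (i : I) :
    (osize P (Quotient.mk'' i : orbitRel.Quotient P I) : k) ≠ 0 ↔ ∀ h : P, h • i = i := by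
  rw [osize_eq]
  obtain ⟨n, hn⟩ := hP.card_orbit i
  constructor
  · intro h g
    have hn0 : n = 0 := by
      by_contra hn0
      apply h
      rw [hn, CharP.cast_eq_zero_iff k p]
      exact dvd_pow_self p hn0
    rw [hn0, pow_zero] at hn
    have h1 : Subsingleton (MulAction.orbit P i) := (Nat.card_eq_one_iff_unique.mp hn).1
    have h2 := h1.elim ⟨g • i, ⟨g, rfl⟩⟩ ⟨i, ⟨1, one_smul _ _⟩⟩
    exact congrArg Subtype.val h2
  · intro h
    have h1 : MulAction.orbit P i = {i} := by
      ext j
      constructor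
      · rintro ⟨g, rfl⟩; exact h g
      · rintro rfl; exact ⟨1, one_smul _ _⟩
    rw [h1]
    simp

theorem card_nonzero_eq_fixed (p : ℕ) [hp : Fact p.Prime] [CharP k p] (hP : IsPGroup p P)
    (I : Type*) [Fintype I] [MulAction P I] :
    Nat.card {q : orbitRel.Quotient P I // (osize P q : k) ≠ 0} =
      Nat.card {i : I // ∀ h : P, h • i = i} := by
  symm
  apply Nat.card_congr
  refine Equiv.ofBijective (fun i => ⟨Quotient.mk'' i.1, ?_⟩) ⟨?_, ?_⟩
  · exact (osize_mk_ne_zero_iff hP i.1).mpr i.2
  · rintro ⟨i, hi⟩ ⟨j, hj⟩ h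
    have h1 : (Quotient.mk'' i : orbitRel.Quotient P I) = Quotient.mk'' j :=
      congrArg Subtype.val h
    rw [Quotient.eq''] at h1
    obtain ⟨g, hg⟩ := h1
    have hg' : g • j = i := hg
    rw [hj g] at hg'
    exact Subtype.ext hg'.symm
  · rintro ⟨q, hq⟩
    induction q using Quotient.inductionOn' with
    | _ i => exact ⟨⟨i, (osize_mk_ne_zero_iff hP i).mp hq⟩, rfl⟩

theorem card_nonzero_eq_fixed_invol (p : ℕ) [hp : Fact p.Prime] [CharP k p] (hP : IsPGroup p P)
    (I : Type*) [Fintype I] [MulAction P I] (c : I → I)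
    (hcP : ∀ (h : P) i, c (h • i) = h • c i) :
    Nat.card {q : orbitRel.Quotient P I // cbar c hcP q = q ∧ (osize P q : k) ≠ 0} =
      Nat.card {i : I // c i = i ∧ ∀ h : P, h • i = i} := by
  symm
  apply Nat.card_congr
  refine Equiv.ofBijective (fun i => ⟨Quotient.mk'' i.1, ?_⟩) ⟨?_, ?_⟩
  · refine ⟨?_, (osize_mk_ne_zero_iff hP i.1).mpr i.2.2⟩
    rw [cbar_mk, i.2.1]
  · rintro ⟨i, hi⟩ ⟨j, hj⟩ h
    have h1 : (Quotient.mk'' i : orbitRel.Quotient P I) = Quotient.mk'' j :=
      congrArg Subtype.val h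
    rw [Quotient.eq''] at h1
    obtain ⟨g, hg⟩ := h1
    have hg' : g • j = i := hg
    rw [hj.2 g] at hg'
    exact Subtype.ext hg'.symm
  · rintro ⟨q, hq⟩
    induction q using Quotient.inductionOn' with
    | _ i =>
    have h2 := (osize_mk_ne_zero_iff hP i).mp hq.2
    have h3 := hq.1
    rw [cbar_mk, Quotient.eq''] at h3
    obtain ⟨g, hg⟩ := h3
    have hg' : g • i = c i := hg
    rw [h2 g] at hg'
    exact ⟨⟨i, hg'.symm, h2⟩, rfl⟩

variable {X : Type u} [Group X] [Finite X]

/-- A `p`-group acting on a `p'`-group fixes as many irreducible characters as classes. -/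
theorem card_fixed_irr_eq (p : ℕ) [hp : Fact p.Prime] (hP : IsPGroup p P)
    (hX : ¬ p ∣ Nat.card X) (φ : P →* MulAut X) :
    let _ := irrAct φ
    let _ := clsAct φ
    Nat.card {χ : IrrCharacter X // ∀ h : P, h • χ = χ} =
      Nat.card {C : ConjClasses X // ∀ h : P, h • C = C} := by
  intro _ _
  obtain ⟨k, _, _, ⟨ρ⟩⟩ := exists_residue p hp.out
  have hX' : (Nat.card X : k) ≠ 0 := by
    rw [Ne, CharP.cast_eq_zero_iff k p]; exact hX
  rw [← card_nonzero_eq_fixed (k := k) p hP, ← card_nonzero_eq_fixed (k := k) p hP]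
  exact card_orbits_nonzero_eq' φ ρ hX'

/-- A `p`-group acting on a `p'`-group fixes as many real irreducible characters as real
classes. -/
theorem card_fixed_real_irr_eq (p : ℕ) [hp : Fact p.Prime] (hP : IsPGroup p P)
    (hX : ¬ p ∣ Nat.card X) (φ : P →* MulAut X) :
    let _ := irrAct φ
    let _ := clsAct φ
    Nat.card {χ : IrrCharacter X // irrConj X χ = χ ∧ ∀ h : P, h • χ = χ} =
      Nat.card {C : ConjClasses X // classInv X C = C ∧ ∀ h : P, h • C = C} := by
  intro _ _
  obtain ⟨k, _, _, ⟨ρ⟩⟩ := exists_residue p hp.out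
  have hX' : (Nat.card X : k) ≠ 0 := by
    rw [Ne, CharP.cast_eq_zero_iff k p]; exact hX
  rw [← card_nonzero_eq_fixed_invol (k := k) p hP _ (irrConj X) (irrConj_smul φ),
    ← card_nonzero_eq_fixed_invol (k := k) p hP _ (classInv X) (classInv_smul φ)]
  exact card_real_orbits_nonzero_eq φ ρ hX'

theorem csize_dvd (C : ConjClasses X) : csize C ∣ Nat.card X := by
  obtain ⟨x, rfl⟩ := ConjClasses.mk_surjective C
  have h1 : csize (ConjClasses.mk x) = Nat.card {y : X // IsConj x y} := by
    apply Nat.card_congr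
    apply Equiv.subtypeEquivRight
    intro y
    rw [ConjClasses.mk_eq_mk_iff_isConj]
    exact isConj_comm
  rw [h1, card_isConj]
  exact Subgroup.index_dvd_card _

/-- A `p`-group stabilising a class of a `p'`-group fixes an element of it. -/
theorem exists_fixed_of_class (p : ℕ) [hp : Fact p.Prime] (hP : IsPGroup p P)
    (hX : ¬ p ∣ Nat.card X) (φ : P →* MulAut X) (x : X)
    (h : ∀ g : P, IsConj x (φ g x)) : ∃ y : X, IsConj x y ∧ ∀ g : P, φ g y = y := by
  let _ : MulAction P {y : X // ConjClasses.mk y = ConjClasses.mk x} :=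
    { smul := fun g y => ⟨φ g y.1, by
        rw [ConjClasses.mk_eq_mk_iff_isConj]
        have h1 := y.2
        rw [ConjClasses.mk_eq_mk_iff_isConj] at h1
        exact (((φ g).toMonoidHom.map_isConj h1).trans (h g).symm)⟩
      one_smul := fun y => Subtype.ext (by show φ 1 y.1 = y.1; simp)
      mul_smul := fun a b y => Subtype.ext (by
        show φ (a * b) y.1 = φ a (φ b y.1); rw [map_mul]; rfl) }
  have h1 : ¬ p ∣ Nat.card {y : X // ConjClasses.mk y = ConjClasses.mk x} :=
    fun h2 => hX (h2.trans (csize_dvd (ConjClasses.mk x)))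
  obtain ⟨y, hy⟩ := hP.nonempty_fixed_point_of_prime_not_dvd_card _ h1
  refine ⟨y.1, ?_, fun g => congrArg Subtype.val (hy g)⟩
  have := y.2
  rw [ConjClasses.mk_eq_mk_iff_isConj] at this
  exact this.symm

end PGroup

end Cfsg.Agent.Lib.ClassAction
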