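import Mathlib.GroupTheory.Transfer
import Mathlib.GroupTheory.Sylow
import Mathlib.GroupTheory.Subgroup.Centralizer
import Mathlib.Algebra.Order.BigOperators.Group.Finset
import Mathlib.Data.Set.Card.Arithmetic
import Cfsg.Prelude.Def_Transfer

set_option autoImplicit false

/-!
Counting the elements whose conjugacy class size is prime to `p`.

* `exists_sylow_le_centralizer`: if `p` does not divide `|G : C_G(x)|` then some Sylow `p`-subgroup
  centralises `x`.
* `card_not_dvd_mul_le`: `2 * #{x | p ∤ |x^G|} ≤ |G|` when `G` has no normal `p`-complement.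
-/

namespace Cfsg.Agent.Lib.ClassSizeCounting

open Subgroup

variable {G : Type*} [Group G] [Finite G]

/-- If `p` does not divide the class size of `x`, some Sylow `p`-subgroup of `G` centralises `x`. -/
theorem exists_sylow_le_centralizer (p : ℕ) [Fact p.Prime] (x : G)
    (hx : ¬ p ∣ (centralizer ({x} : Set G)).index) :
    ∃ Q : Sylow p G, (Q : Subgroup G) ≤ centralizer ({x} : Set G) := by
  obtain ⟨R⟩ : Nonempty (Sylow p (centralizer ({x} : Set G))) := inferInstance
  -- the image of R in G is a p-group with index prime to p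
  have hR : IsPGroup p ((R : Subgroup (centralizer ({x} : Set G))).map
      (centralizer ({x} : Set G)).subtype) := R.2.map _
  have hidx : ¬ p ∣ ((R : Subgroup (centralizer ({x} : Set G))).map
      (centralizer ({x} : Set G)).subtype).index := by
    rw [Subgroup.index_map]
    intro h
    rcases (Nat.Prime.dvd_mul (Fact.out : p.Prime)).1 h with h | h
    · have : ((centralizer ({x} : Set G)).subtype).ker = ⊥ := Subgroup.ker_subtype _
      rw [this, sup_bot_eq] at h
      exact R.not_dvd_index h
    · rw [Subgroup.range_subtype] at h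
      exact hx h
  refine ⟨hR.toSylow hidx, ?_⟩
  have : ((hR.toSylow hidx : Sylow p G) : Subgroup G) = (R : Subgroup (centralizer ({x} : Set G))).map
      (centralizer ({x} : Set G)).subtype := rfl
  rw [this]
  rintro _ ⟨y, _, rfl⟩
  exact y.2

/-- Conversely. -/
theorem not_dvd_of_sylow_le_centralizer (p : ℕ) [Fact p.Prime] (x : G)
    (Q : Sylow p G) (hQ : (Q : Subgroup G) ≤ centralizer ({x} : Set G)) :
    ¬ p ∣ (centralizer ({x} : Set G)).index := by
  intro h
  have h1 : (centralizer ({x} : Set G)).index ∣ (Q : Subgroup G).index :=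
    Subgroup.index_dvd_of_le hQ
  exact Q.not_dvd_index (h.trans h1)

/-- If `G` has no normal `p`-complement then `N_G(P)` is not contained in `C_G(P)`. -/
theorem not_normalizer_le_centralizer (p : ℕ) [Fact p.Prime]
    (hp : ¬ Cfsg.HasNormalPComplement p G) (P : Sylow p G) :
    ¬ normalizer (P : Set G) ≤ centralizer (P : Set G) := by
  intro hP
  refine hp ⟨P, (MonoidHom.transferSylow P hP).ker, inferInstance, ?_⟩
  exact MonoidHom.ker_transferSylow_isComplement' P hP

theorem card_sylow_mul_card_normalizer (p : ℕ) [Fact p.Prime] (P : Sylow p G) :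
    Nat.card (Sylow p G) * Nat.card (normalizer (P : Set G)) = Nat.card G := by
  rw [Sylow.card_eq_index_normalizer P, mul_comm]
  exact Subgroup.card_mul_index _

theorem card_centralizer_sylow_eq (p : ℕ) [Fact p.Prime] (P Q : Sylow p G) :
    Nat.card (centralizer (Q : Set G)) = Nat.card (centralizer (P : Set G)) := by
  obtain ⟨g, hg⟩ := MulAction.exists_smul_eq G P Q
  subst hg
  symm
  refine Nat.card_congr ?_
  refine Equiv.subtypeEquiv (MulAut.conj g).toEquiv ?_
  intro a
  simp only [mem_centralizer_iff, SetLike.mem_coe, MulEquiv.toEquiv_eq_coe, EquivLike.coe_coe,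
    MulAut.conj_apply]
  constructor
  · intro h y hy
    have hy' : g⁻¹ * y * g ∈ (P : Subgroup G) := by
      have : y ∈ ((g • P : Sylow p G) : Subgroup G) := hy
      rw [Sylow.coe_subgroup_smul, Subgroup.mem_pointwise_smul_iff_inv_smul_mem] at this
      simpa [MulAut.smul_def, ← map_inv, MulAut.conj_apply] using this
    have := h _ hy'
    calc y * (g * a * g⁻¹) = g * ((g⁻¹ * y * g) * a) * g⁻¹ := by group
      _ = g * (a * (g⁻¹ * y * g)) * g⁻¹ := by rw [this]
      _ = g * a * g⁻¹ * y := by group
  · intro h y hy
    have hy' : g * y * g⁻¹ ∈ (((g • P : Sylow p G) : Subgroup G) : Set G) := by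
      rw [SetLike.mem_coe, Sylow.coe_subgroup_smul, Subgroup.mem_pointwise_smul_iff_inv_smul_mem]
      have : g⁻¹ * (g * y * g⁻¹) * g = y := by group
      have h2 : (MulAut.conj g)⁻¹ • (g * y * g⁻¹) = y := by
        rw [← map_inv, MulAut.smul_def, MulAut.conj_apply, inv_inv, this]
      rw [h2]; exact hy
    have := h _ hy'
    calc y * a = g⁻¹ * ((g * y * g⁻¹) * (g * a * g⁻¹)) * g := by group
      _ = g⁻¹ * ((g * a * g⁻¹) * (g * y * g⁻¹)) * g := by rw [this]
      _ = a * y := by group

/-- The counting bound: the number of elements with class size prime to `p` is at most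
`|Syl_p(G)| * |C_G(P)|`. -/
theorem card_not_dvd_le (p : ℕ) [Fact p.Prime] (P : Sylow p G) :
    Nat.card {x : G // ¬ p ∣ (centralizer ({x} : Set G)).index} ≤
      Nat.card (Sylow p G) * Nat.card (centralizer (P : Set G)) := by
  classical
  have : Fintype (Sylow p G) := Fintype.ofFinite _
  have h1 : {x : G | ¬ p ∣ (centralizer ({x} : Set G)).index} ⊆
      ⋃ Q : Sylow p G, (centralizer (Q : Set G) : Set G) := by
    intro x hx
    obtain ⟨Q, hQ⟩ := exists_sylow_le_centralizer p x hx
    refine Set.mem_iUnion.2 ⟨Q, ?_⟩
    rw [SetLike.mem_coe, mem_centralizer_iff]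
    intro y hy
    exact (mem_centralizer_singleton_iff.1 (hQ hy))
  calc Nat.card {x : G // ¬ p ∣ (centralizer ({x} : Set G)).index}
      = ({x : G | ¬ p ∣ (centralizer ({x} : Set G)).index}).ncard := rfl
    _ ≤ (⋃ Q : Sylow p G, (centralizer (Q : Set G) : Set G)).ncard :=
        Set.ncard_le_ncard h1 (Set.toFinite _)
    _ ≤ ∑ Q : Sylow p G, ((centralizer (Q : Set G) : Set G)).ncard := by
        have := Finset.set_ncard_biUnion_le Finset.univ
          (fun Q : Sylow p G => (centralizer (Q : Set G) : Set G))
        simpa using this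
    _ = ∑ _Q : Sylow p G, Nat.card (centralizer (P : Set G)) := by
        refine Finset.sum_congr rfl fun Q _ => ?_
        exact card_centralizer_sylow_eq p P Q
    _ = Nat.card (Sylow p G) * Nat.card (centralizer (P : Set G)) := by
        rw [Finset.sum_const, Finset.card_univ, smul_eq_mul, ← Nat.card_eq_fintype_card]

theorem two_mul_card_not_dvd_le (p : ℕ) [Fact p.Prime] (hp : ¬ Cfsg.HasNormalPComplement p G) :
    2 * Nat.card {x : G // ¬ p ∣ (centralizer ({x} : Set G)).index} ≤ Nat.card G := by
  obtain ⟨P⟩ : Nonempty (Sylow p G) := inferInstance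
  have h1 := card_not_dvd_le p P
  have h2 := not_normalizer_le_centralizer p hp P
  have h3 : centralizer (P : Set G) ≤ normalizer (P : Set G) := centralizer_le_normalizer _
  have h4 : 2 * Nat.card (centralizer (P : Set G)) ≤ Nat.card (normalizer (P : Set G)) := by
    have h5 : (centralizer (P : Set G)).relIndex (normalizer (P : Set G)) ≠ 1 := by
      rw [Ne, Subgroup.relIndex_eq_one]; exact h2
    have h6 := Subgroup.card_mul_index ((centralizer (P : Set G)).subgroupOf (normalizer (P : Set G)))
    have h7 : Nat.card ((centralizer (P : Set G)).subgroupOf (normalizer (P : Set G))) =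
        Nat.card (centralizer (P : Set G)) :=
      Nat.card_congr (Subgroup.subgroupOfEquivOfLe h3).toEquiv
    rw [h7] at h6
    have h8 : (centralizer (P : Set G)).relIndex (normalizer (P : Set G)) ≠ 0 :=
      Subgroup.index_ne_zero_of_finite
    have h9 : 2 ≤ ((centralizer (P : Set G)).subgroupOf (normalizer (P : Set G))).index := by
      have : ((centralizer (P : Set G)).subgroupOf (normalizer (P : Set G))).index =
        (centralizer (P : Set G)).relIndex (normalizer (P : Set G)) := rfl
      omega
    calc 2 * Nat.card (centralizer (P : Set G)) = Nat.card (centralizer (P : Set G)) * 2 := by ring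
      _ ≤ Nat.card (centralizer (P : Set G)) * _ := Nat.mul_le_mul_left _ h9
      _ = _ := h6
  calc 2 * Nat.card {x : G // ¬ p ∣ (centralizer ({x} : Set G)).index}
      ≤ 2 * (Nat.card (Sylow p G) * Nat.card (centralizer (P : Set G))) := Nat.mul_le_mul_left _ h1
    _ = Nat.card (Sylow p G) * (2 * Nat.card (centralizer (P : Set G))) := by ring
    _ ≤ Nat.card (Sylow p G) * Nat.card (normalizer (P : Set G)) := Nat.mul_le_mul_left _ h4
    _ = Nat.card G := card_sylow_mul_card_normalizer p P

end Cfsg.Agent.Lib.ClassSizeCounting
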