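import Cfsg.Agent.Lib.TIFN2
import Cfsg.Agent.Lib.TIFN3

set_option autoImplicit false

/-!
# T.I. subgroups with Frobenius normaliser: counting nonexceptional characters (helper15)
-/

namespace Cfsg.Agent.Lib.TIFN

open scoped ComplexConjugate
open CharBasic

universe u v

section Abstract

variable {L : Type u} [Group L]

open scoped Classical in
/-- The irreducible characters nontrivial on `K`. -/
noncomputable def nontriv [Finite L] (K : Subgroup L) : Finset (IrrCharacter L) :=
  Finset.univ.filter (fun χ : IrrCharacter L => ¬ ∀ k ∈ K, (χ : L → ℂ) k = (χ : L → ℂ) 1)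

theorem mem_nontriv [Finite L] {K : Subgroup L} {χ : IrrCharacter L} :
    χ ∈ nontriv K ↔ ∃ k ∈ K, (χ : L → ℂ) k ≠ (χ : L → ℂ) 1 := by
  classical
  unfold nontriv
  rw [Finset.mem_filter]
  push Not
  simp

theorem sum_nontriv [Finite L] (K : Subgroup L) [hK : K.Normal] (F : IrrCharacter L → ℂ)
    (hF : ∀ χ : IrrCharacter L, (∀ k ∈ K, (χ : L → ℂ) k = (χ : L → ℂ) 1) →
      F χ = (χ : L → ℂ) 1 ^ 2) :
    ∑ χ ∈ nontriv K, F χ = ∑ χ : IrrCharacter L, F χ - (K.index : ℂ) := by
  classical
  have h2 := sum_degree_sq (G := L ⧸ K)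
  have h3 : ∑ ψ : IrrCharacter (L ⧸ K), (ψ : L ⧸ K → ℂ) 1 ^ 2 =
      ∑ ψ ∈ Finset.univ.filter (fun ψ : IrrCharacter L =>
        ∀ k ∈ K, (ψ : L → ℂ) k = (ψ : L → ℂ) 1), (ψ : L → ℂ) 1 ^ 2 := by
    exact (Equiv.sum_comp (irrQuotEquiv K) (fun ψ => ((ψ : IrrCharacter L) : L → ℂ) 1 ^ 2)).trans
      (Finset.sum_subtype (Finset.univ.filter (fun ψ : IrrCharacter L =>
        ∀ k ∈ K, (ψ : L → ℂ) k = (ψ : L → ℂ) 1)) (p := fun ψ : IrrCharacter L =>
        ∀ k ∈ K, (ψ : L → ℂ) k = (ψ : L → ℂ) 1) (by simp)
        (fun ψ : IrrCharacter L => (ψ : L → ℂ) 1 ^ 2)).symm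
  rw [h3] at h2
  have h4 : ∑ ψ ∈ Finset.univ.filter (fun ψ : IrrCharacter L =>
        ∀ k ∈ K, (ψ : L → ℂ) k = (ψ : L → ℂ) 1), F ψ = (K.index : ℂ) := by
    rw [Subgroup.index_eq_card, ← h2]
    apply Finset.sum_congr rfl
    intro ψ hψ
    exact hF ψ (Finset.mem_filter.mp hψ).2
  rw [← Finset.sum_filter_add_sum_filter_not Finset.univ
    (fun ψ : IrrCharacter L => ∀ k ∈ K, (ψ : L → ℂ) k = (ψ : L → ℂ) 1) F, h4,
    add_sub_cancel_left]
  rfl

end Abstract

section Coherent

variable {G : Type u} [Group G] {K : Subgroup G}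
variable [Fintype G] [Fintype (Subgroup.normalizer (K : Set G))]
  {S : Set ((Subgroup.normalizer (K : Set G)) → ℂ)}
  {star : ((Subgroup.normalizer (K : Set G)) → ℂ) → (G → ℂ)}

theorem CohHyp.mem_iff' (H : CohHyp K S star) {χ : IrrCharacter (Subgroup.normalizer (K : Set G))} :
    χ ∈ nontriv (K.subgroupOf (Subgroup.normalizer (K : Set G))) ↔
      (χ : (Subgroup.normalizer (K : Set G)) → ℂ) ∈ S := by
  rw [mem_nontriv, H.mem_iff]
  exact ⟨fun h => ⟨χ.2, h⟩, fun h => h.2⟩

/-- the exceptional characters -/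
theorem CohHyp.exists_exceptional (H : CohHyp K S star) :
    ∃ f : IrrCharacter (Subgroup.normalizer (K : Set G)) → IrrCharacter G,
      Set.InjOn f ↑(nontriv (K.subgroupOf (Subgroup.normalizer (K : Set G)))) ∧
      ∀ χ ∈ nontriv (K.subgroupOf (Subgroup.normalizer (K : Set G))),
        ((f χ : G → ℂ) = star χ ∨ (f χ : G → ℂ) = -star χ) := by
  classical
  have h1 : ∀ χ : IrrCharacter (Subgroup.normalizer (K : Set G)), ∃ ψ : IrrCharacter G,
      χ ∈ nontriv (K.subgroupOf (Subgroup.normalizer (K : Set G))) →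
        ((ψ : G → ℂ) = star χ ∨ (ψ : G → ℂ) = -star χ) := by
    intro χ
    by_cases hχ : χ ∈ nontriv (K.subgroupOf (Subgroup.normalizer (K : Set G)))
    · have hχS := H.mem_iff'.mp hχ
      have h3 : classInner (star χ) (star χ) = 1 := by
        rw [H.star_inner hχS hχS, χ.2.classInner_self]
      rcases (H.star_gen hχS).irr_or_neg_irr h3 with h | h
      · exact ⟨⟨_, h⟩, fun _ => Or.inl rfl⟩
      · exact ⟨⟨_, h⟩, fun _ => Or.inr rfl⟩
    · exact ⟨⟨_, isIrrCharacter_one⟩, fun h => absurd h hχ⟩
  choose f hf using h1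
  refine ⟨f, ?_, hf⟩
  intro χ hχ ξ hξ hfe
  rw [Finset.mem_coe] at hχ hξ
  have hχS := H.mem_iff'.mp hχ
  have hξS := H.mem_iff'.mp hξ
  by_contra hne
  have h0 : classInner (star χ) (star ξ) = 0 := by
    rw [H.star_inner hχS hξS]
    exact χ.2.classInner_eq_zero ξ.2 (fun h => hne (Subtype.ext h))
  have h2 : classInner (f χ : G → ℂ) (f ξ : G → ℂ) = 0 := by
    rcases hf χ hχ with h | h <;> rcases hf ξ hξ with h' | h' <;>
      rw [h, h'] <;> simp [classInner_neg_left, classInner_neg_right, h0]
  rw [hfe, (f ξ).2.classInner_self] at h2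
  exact one_ne_zero h2

theorem centralizer_card_eq (H : CohHyp K S star) {k : Subgroup.normalizer (K : Set G)}
    (hk : (k : G) ∈ K) (hk1 : k ≠ 1) :
    Nat.card (Subgroup.centralizer ({k} : Set (Subgroup.normalizer (K : Set G)))) =
      Nat.card (Subgroup.centralizer ({(k : G)} : Set G)) := by
  have hk1' : (k : G) ≠ 1 := fun h => hk1 (Subtype.ext h)
  have hle : Subgroup.centralizer ({(k : G)} : Set G) ≤ Subgroup.normalizer (K : Set G) :=
    (H.hC k hk hk1').trans Subgroup.le_normalizer
  refine Nat.card_congr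
    { toFun := fun x => ⟨((x : Subgroup.normalizer (K : Set G)) : G), ?_⟩
      invFun := fun x => ⟨⟨x, hle x.2⟩, ?_⟩
      left_inv := fun x => rfl
      right_inv := fun x => rfl }
  · have := Subgroup.mem_centralizer_singleton_iff.mp x.2
    exact Subgroup.mem_centralizer_singleton_iff.mpr (congrArg Subtype.val this)
  · have := Subgroup.mem_centralizer_singleton_iff.mp x.2
    exact Subgroup.mem_centralizer_singleton_iff.mpr (Subtype.ext this)

open scoped Classical in
theorem CohHyp.sum_compl (H : CohHyp K S star)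
    {f : IrrCharacter (Subgroup.normalizer (K : Set G)) → IrrCharacter G}
    (hinj : Set.InjOn f ↑(nontriv (K.subgroupOf (Subgroup.normalizer (K : Set G)))))
    (hf : ∀ χ ∈ nontriv (K.subgroupOf (Subgroup.normalizer (K : Set G))),
        ((f χ : G → ℂ) = star χ ∨ (f χ : G → ℂ) = -star χ))
    {m : ℤ} (hm : ∀ χ ∈ S, ∀ k : (Subgroup.normalizer (K : Set G)), (k : G) ∈ K → k ≠ 1 →
      star χ k - χ k =
        (m : ℂ) * χ 1 / ((K.subgroupOf (Subgroup.normalizer (K : Set G))).index : ℂ))
    (k : Subgroup.normalizer (K : Set G)) (hk : (k : G) ∈ K) (hk1 : k ≠ 1) :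
    ∑ ψ ∈ ((nontriv (K.subgroupOf (Subgroup.normalizer (K : Set G)))).image f)ᶜ,
      (ψ : G → ℂ) k * conj ((ψ : G → ℂ) k) =
      ((K.subgroupOf (Subgroup.normalizer (K : Set G))).index : ℂ) + 2 * m -
        m ^ 2 * ((Nat.card K : ℂ) - 1) /
          ((K.subgroupOf (Subgroup.normalizer (K : Set G))).index : ℂ) := by
  have hn := normal_subgroupOf_normalizer' K
  set K' := K.subgroupOf (Subgroup.normalizer (K : Set G)) with hK'
  set T := nontriv K' with hT
  have he : ((K'.index : ℕ) : ℂ) ≠ 0 := by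
    exact_mod_cast Subgroup.index_ne_zero_of_finite
  have hkK' : k ∈ K' := hk
  -- total sum
  have h1 := column_orthogonality (k : G) (k : G)
  rw [if_pos (IsConj.refl _), ← Finset.sum_add_sum_compl (T.image f),
    Finset.sum_image (fun x hx y hy h => hinj hx hy h)] at h1
  have h2 := column_orthogonality k k
  rw [if_pos (IsConj.refl _), centralizer_card_eq H hk hk1] at h2
  have h3 := column_orthogonality k 1
  rw [if_neg (fun h => hk1 (isConj_one_left.mp h))] at h3
  have h3' := column_orthogonality (1 : Subgroup.normalizer (K : Set G)) k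
  rw [if_neg (fun h => hk1 (isConj_one_right.mp h))] at h3'
  have h4 := sum_degree_sq (G := Subgroup.normalizer (K : Set G))
  have hreal : ∀ χ : IrrCharacter (Subgroup.normalizer (K : Set G)),
      conj ((χ : (Subgroup.normalizer (K : Set G)) → ℂ) 1) =
        (χ : (Subgroup.normalizer (K : Set G)) → ℂ) 1 := by
    intro χ
    obtain ⟨n, -, hn⟩ := χ.2.exists_degree
    rw [hn, Complex.conj_natCast]
  have s2 := sum_nontriv K' (fun χ : IrrCharacter (Subgroup.normalizer (K : Set G)) =>
    (χ : (Subgroup.normalizer (K : Set G)) → ℂ) k *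
      conj ((χ : (Subgroup.normalizer (K : Set G)) → ℂ) k)) (by
    intro χ hχ
    simp only [hχ k hkK', hreal]
    ring)
  have s3 := sum_nontriv K' (fun χ : IrrCharacter (Subgroup.normalizer (K : Set G)) =>
    (χ : (Subgroup.normalizer (K : Set G)) → ℂ) k *
      conj ((χ : (Subgroup.normalizer (K : Set G)) → ℂ) 1)) (by
    intro χ hχ
    simp only [hχ k hkK', hreal]
    ring)
  have s3' := sum_nontriv K' (fun χ : IrrCharacter (Subgroup.normalizer (K : Set G)) =>
    (χ : (Subgroup.normalizer (K : Set G)) → ℂ) 1 *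
      conj ((χ : (Subgroup.normalizer (K : Set G)) → ℂ) k)) (by
    intro χ hχ
    simp only [hχ k hkK', hreal]
    ring)
  have s4 := sum_nontriv K' (fun χ : IrrCharacter (Subgroup.normalizer (K : Set G)) =>
    (χ : (Subgroup.normalizer (K : Set G)) → ℂ) 1 ^ 2) (fun _ _ => rfl)
  rw [h2] at s2
  rw [h3, zero_sub] at s3
  rw [h3', zero_sub] at s3'
  rw [h4] at s4
  have hcard : (Nat.card (Subgroup.normalizer (K : Set G)) : ℂ) = (Nat.card K : ℂ) * K'.index := by
    rw [← K'.card_mul_index]
    have : Nat.card K' = Nat.card K :=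
      Nat.card_congr (Subgroup.subgroupOfEquivOfLe Subgroup.le_normalizer).toEquiv
    rw [this]
    push_cast
    rfl
  have h5 : ∑ χ ∈ T, (f χ : G → ℂ) k * conj ((f χ : G → ℂ) k) =
      ((Nat.card (Subgroup.centralizer ({(k : G)} : Set G)) : ℂ) - K'.index) +
        (m / K'.index : ℂ) * (-(K'.index : ℂ)) + (m / K'.index : ℂ) * (-(K'.index : ℂ)) +
        (m / K'.index : ℂ) ^ 2 * ((Nat.card (Subgroup.normalizer (K : Set G)) : ℂ) - K'.index) := by
    have e1 : ∀ χ ∈ T, (f χ : G → ℂ) k * conj ((f χ : G → ℂ) k) =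
        (χ : (Subgroup.normalizer (K : Set G)) → ℂ) k *
          conj ((χ : (Subgroup.normalizer (K : Set G)) → ℂ) k) +
        (m / K'.index : ℂ) * ((χ : (Subgroup.normalizer (K : Set G)) → ℂ) k *
          conj ((χ : (Subgroup.normalizer (K : Set G)) → ℂ) 1)) +
        (m / K'.index : ℂ) * ((χ : (Subgroup.normalizer (K : Set G)) → ℂ) 1 *
          conj ((χ : (Subgroup.normalizer (K : Set G)) → ℂ) k)) +
        (m / K'.index : ℂ) ^ 2 * ((χ : (Subgroup.normalizer (K : Set G)) → ℂ) 1 ^ 2) := by
      intro χ hχ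
      have e2 := hm χ (H.mem_iff'.mp hχ) k hk hk1
      have e3 : star (χ : (Subgroup.normalizer (K : Set G)) → ℂ) k =
          (χ : (Subgroup.normalizer (K : Set G)) → ℂ) k +
          (m / K'.index : ℂ) * (χ : (Subgroup.normalizer (K : Set G)) → ℂ) 1 := by
        rw [← sub_eq_iff_eq_add', e2]
        ring
      have e4 : (f χ : G → ℂ) k * conj ((f χ : G → ℂ) k) =
          star (χ : (Subgroup.normalizer (K : Set G)) → ℂ) k *
          conj (star (χ : (Subgroup.normalizer (K : Set G)) → ℂ) k) := by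
        rcases hf χ hχ with h | h <;> rw [h]
        simp
      rw [e4, e3]
      simp only [map_add, map_mul, map_div₀, Complex.conj_natCast, map_intCast, hreal]
      ring
    rw [Finset.sum_congr rfl e1, Finset.sum_add_distrib, Finset.sum_add_distrib,
      Finset.sum_add_distrib, ← Finset.mul_sum, ← Finset.mul_sum, ← Finset.mul_sum, s2, s3, s3',
      s4]
  rw [h5, hcard] at h1
  have h6 := eq_sub_of_add_eq' h1
  rw [h6]
  field_simp
  ring

theorem CohHyp.sum_nontriv_eq_zero (H : CohHyp K S star)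
    {χ : (Subgroup.normalizer (K : Set G)) → ℂ} (hχ : χ ∈ S) :
    classInner (fun _ => 1) χ = 0 := by
  apply isIrrCharacter_one.classInner_eq_zero (H.irr hχ)
  rintro rfl
  obtain ⟨-, k, -, hk⟩ := H.mem_iff.mp hχ
  exact hk rfl

/-- There are at least as many `G`-classes meeting `K` as characters in `S`, plus one. -/
theorem CohHyp.card_nontriv_lt (H : CohHyp K S star) :
    (nontriv (K.subgroupOf (Subgroup.normalizer (K : Set G)))).card + 1 ≤
      Nat.card {C : ConjClasses G // ∃ g ∈ K, ConjClasses.mk g = C} := by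
  classical
  have hn := normal_subgroupOf_normalizer' K
  have hfin : Finite {C : ConjClasses G // ∃ g ∈ K, ConjClasses.mk g = C} := inferInstance
  have := Fintype.ofFinite {C : ConjClasses G // ∃ g ∈ K, ConjClasses.mk g = C}
  set K' := K.subgroupOf (Subgroup.normalizer (K : Set G)) with hK'
  set T := nontriv K' with hT
  have hr : ∀ C : {C : ConjClasses G // ∃ g ∈ K, ConjClasses.mk g = C},
      ∃ g : (Subgroup.normalizer (K : Set G)), (g : G) ∈ K ∧ ConjClasses.mk (g : G) = C := by
    rintro ⟨C, g, hg, rfl⟩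
    exact ⟨⟨g, Subgroup.le_normalizer hg⟩, hg, rfl⟩
  choose r hrK hr using hr
  let Φ : (Option T → ℂ) →ₗ[ℂ] ({C : ConjClasses G // ∃ g ∈ K, ConjClasses.mk g = C} → ℂ) :=
    { toFun := fun a C => ∑ χ : T, a (some χ) * (χ.1 : (Subgroup.normalizer (K : Set G)) → ℂ) (r C) + a none
      map_add' := by
        intro a a'
        funext C
        simp only [Pi.add_apply, add_mul, Finset.sum_add_distrib]
        ring
      map_smul' := by
        intro c a
        funext C
        simp only [Pi.smul_apply, smul_eq_mul, RingHom.id_apply, mul_add, Finset.mul_sum,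
          mul_assoc] }
  have hΦ : Function.Injective Φ := by
    rw [← LinearMap.ker_eq_bot, LinearMap.ker_eq_bot']
    intro a ha
    let D : (Subgroup.normalizer (K : Set G)) → ℂ := fun x => ∑ χ : T, a (some χ) * (χ.1 : (Subgroup.normalizer (K : Set G)) → ℂ) x
    have hD1 : ∀ x : (Subgroup.normalizer (K : Set G)), (x : G) ∈ K → D x = -a none := by
      intro x hx
      set C : {C : ConjClasses G // ∃ g ∈ K, ConjClasses.mk g = C} :=
        ⟨ConjClasses.mk (x : G), x, hx, rfl⟩ with hC
      have h1 := congrFun ha C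
      change ∑ χ : T, a (some χ) * (χ.1 : (Subgroup.normalizer (K : Set G)) → ℂ) (r C) + a none = 0 at h1
      have h2 : ∀ χ : T, (χ.1 : (Subgroup.normalizer (K : Set G)) → ℂ) (r C) = (χ.1 : (Subgroup.normalizer (K : Set G)) → ℂ) x := by
        intro χ
        have h3 := hr C
        rw [hC] at h3
        change ConjClasses.mk ((r C : (Subgroup.normalizer (K : Set G))) : G) = ConjClasses.mk (x : G) at h3
        rw [ConjClasses.mk_eq_mk_iff_isConj] at h3
        obtain ⟨g, hg⟩ := isConj_iff.mp h3.symm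
        by_cases hx1 : (x : G) = 1
        · rw [hx1, mul_one, mul_inv_cancel] at hg
          have e1 : x = 1 := Subtype.ext hx1
          have e2 : r C = 1 := Subtype.ext hg.symm
          rw [e1, e2]
        · have hgN : g ∈ (Subgroup.normalizer (K : Set G)) := by
            by_contra hgN
            exact hx1 (H.hTI g hgN x hx (by rw [hg]; exact hrK C))
          have e1 : r C = ⟨g, hgN⟩ * x * ⟨g, hgN⟩⁻¹ := Subtype.ext hg.symm
          rw [e1, χ.1.2.isClassFunction]
      simp only [h2] at h1
      exact eq_neg_of_add_eq_zero_left h1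
    have hD0 : ∀ x : (Subgroup.normalizer (K : Set G)), (x : G) ∉ K → D x = 0 := by
      intro x hx
      apply Finset.sum_eq_zero
      intro χ _
      rw [H.vanish (H.mem_iff'.mp χ.2) hx, mul_zero]
    have hsome : ∀ ξ : T, a (some ξ) = 0 := by
      intro ξ
      have hξS := H.mem_iff'.mp ξ.2
      have h1 : classInner D (ξ.1 : (Subgroup.normalizer (K : Set G)) → ℂ) = a (some ξ) := by
        have h2 : D = ∑ χ : T, a (some χ) • (χ.1 : (Subgroup.normalizer (K : Set G)) → ℂ) := by
          funext x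
          simp [D, Finset.sum_apply]
        rw [h2, classInner_sum_left, Finset.sum_eq_single ξ]
        · rw [classInner_smul_left, ξ.1.2.classInner_self, mul_one]
        · intro χ _ hχ
          rw [classInner_smul_left, χ.1.2.classInner_eq_zero ξ.1.2, mul_zero]
          exact fun h => hχ (Subtype.ext (Subtype.ext h))
        · intro h; exact absurd (Finset.mem_univ _) h
      rw [← h1]
      have h3 : classInner D (ξ.1 : (Subgroup.normalizer (K : Set G)) → ℂ) = classInner ((-a none) • (fun _ : (Subgroup.normalizer (K : Set G)) => (1 : ℂ)))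
          (ξ.1 : (Subgroup.normalizer (K : Set G)) → ℂ) := by
        unfold classInner
        congr 1
        apply Finset.sum_congr rfl
        intro x _
        by_cases hx : (x : G) ∈ K
        · rw [hD1 x hx]; simp
        · rw [H.vanish hξS hx]; simp
      rw [h3, classInner_smul_left, H.sum_nontriv_eq_zero hξS, mul_zero]
    funext o
    cases o with
    | some ξ => exact hsome ξ
    | none =>
      have h1 := hD1 1 (by simp)
      have h2 : D 1 = 0 := by
        apply Finset.sum_eq_zero
        intro χ _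
        rw [hsome, zero_mul]
      rw [h2] at h1
      simpa using h1.symm
  have h := LinearMap.finrank_le_finrank_of_injective hΦ
  rw [Module.finrank_fintype_fun_eq_card, Module.finrank_fintype_fun_eq_card,
    Fintype.card_option, Fintype.card_coe] at h
  rw [Nat.card_eq_fintype_card]
  exact h

open scoped Classical in
/-- The number of nonexceptional characters. -/
theorem CohHyp.le_card_compl (H : CohHyp K S star)
    {f : IrrCharacter (Subgroup.normalizer (K : Set G)) → IrrCharacter G}
    (hinj : Set.InjOn f ↑(nontriv (K.subgroupOf (Subgroup.normalizer (K : Set G))))) :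
    Nat.card {C : ConjClasses G // ∀ g : G, ConjClasses.mk g = C → g ∉ K} + 1 ≤
      ((nontriv (K.subgroupOf (Subgroup.normalizer (K : Set G)))).image f)ᶜ.card := by
  have h1 := H.card_nontriv_lt
  have h2 : Nat.card {C : ConjClasses G // ∀ g : G, ConjClasses.mk g = C → g ∉ K} +
      Nat.card {C : ConjClasses G // ∃ g ∈ K, ConjClasses.mk g = C} =
      Nat.card (ConjClasses G) := by
    have e1 : {C : ConjClasses G // ∃ g ∈ K, ConjClasses.mk g = C} ≃
        {C : ConjClasses G // ¬ ∀ g : G, ConjClasses.mk g = C → g ∉ K} := by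
      apply Equiv.subtypeEquivRight
      intro C
      push Not
      exact ⟨fun ⟨g, h, h'⟩ => ⟨g, h', h⟩, fun ⟨g, h, h'⟩ => ⟨g, h', h⟩⟩
    rw [Nat.card_congr e1, ← Nat.card_sum]
    exact Nat.card_congr (Equiv.sumCompl _)
  have h3 : ((nontriv (K.subgroupOf (Subgroup.normalizer (K : Set G)))).image f).card =
      (nontriv (K.subgroupOf (Subgroup.normalizer (K : Set G)))).card :=
    Finset.card_image_of_injOn hinj
  have h4 := Finset.card_add_card_compl
    ((nontriv (K.subgroupOf (Subgroup.normalizer (K : Set G)))).image f)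
  rw [h3, ← Nat.card_eq_fintype_card, card_irr] at h4
  omega

end Coherent

end Cfsg.Agent.Lib.TIFN
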