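import Mathlib

/-!
Composition length through subnormal chains (helper95).

`Sub H l`: there is a chain `1 = H₀ < H₁ < ⋯ < H_l = H` with each term normal in the next.
`cl G`: the maximal length of such a chain for `H = G` (finite `G`).
-/

set_option autoImplicit false

namespace Cfsg.Agent.Lib.CompLength

open Subgroup

/-- there is a chain `1 = H₀ < H₁ < ⋯ < H_l = H` with each term normal in the next -/
inductive Sub {G : Type*} [Group G] : Subgroup G → ℕ → Prop
  | bot : Sub ⊥ 0
  | step {H K : Subgroup G} {l : ℕ} : Sub H l → H < K → (H.subgroupOf K).Normal → Sub K (l + 1)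

theorem card_mul_relIndex {G : Type*} [Group G] {H K : Subgroup G} (h : H ≤ K) :
    Nat.card H * H.relIndex K = Nat.card K := by
  have := Subgroup.relIndex_mul_relIndex ⊥ H K bot_le h
  rwa [relIndex_bot_left, relIndex_bot_left] at this

theorem Sub.le_cardFactors {G : Type*} [Group G] [Finite G] {H : Subgroup G} {l : ℕ} (h : Sub H l) :
    l ≤ ArithmeticFunction.cardFactors (Nat.card H) := by
  induction h with
  | bot => simp
  | @step H K l _ hlt _ ih =>
    have h1 := card_mul_relIndex hlt.le
    have h2 : H.relIndex K ≠ 0 := by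
      intro h0
      rw [h0, mul_zero] at h1
      exact Nat.card_pos.ne h1
    have h3 : H.relIndex K ≠ 1 := by
      intro h0
      exact absurd (Subgroup.relIndex_eq_one.mp h0) (not_le_of_gt hlt)
    rw [← h1, ArithmeticFunction.cardFactors_mul Nat.card_pos.ne' h2]
    have h4 : 0 < ArithmeticFunction.cardFactors (H.relIndex K) := by
      rw [Nat.pos_iff_ne_zero]
      intro h0
      rcases ArithmeticFunction.cardFactors_eq_zero_iff_eq_zero_or_one.mp h0 with h5 | h5
      · exact h2 h5
      · exact h3 h5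
    omega

theorem normal_iff {G : Type*} [Group G] {H K : Subgroup G} (hle : H ≤ K) :
    (H.subgroupOf K).Normal ↔ ∀ k ∈ K, ∀ h ∈ H, k * h * k⁻¹ ∈ H := by
  rw [Subgroup.normal_subgroupOf_iff hle]
  constructor
  · intro h k hk x hx; exact h x k hx hk
  · intro h x k hx hk; exact h k hk x hx

/-- intersection with the kernel and image of a homomorphism -/
theorem Sub.ker_map {G G' : Type*} [Group G] [Group G'] (f : G →* G') {H : Subgroup G} {l : ℕ} (h : Sub H l) :
    ∃ a b, Sub (H ⊓ f.ker) a ∧ Sub (H.map f) b ∧ l ≤ a + b := by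
  induction h with
  | bot => exact ⟨0, 0, by rw [bot_inf_eq]; exact Sub.bot, by rw [Subgroup.map_bot]; exact Sub.bot, le_rfl⟩
  | @step H K l _ hlt hn ih =>
    obtain ⟨a, b, ha, hb, hl⟩ := ih
    rw [normal_iff hlt.le] at hn
    have h1 : H ⊓ f.ker ≤ K ⊓ f.ker := inf_le_inf_right _ hlt.le
    have h2 : H.map f ≤ K.map f := Subgroup.map_mono hlt.le
    have hn1 : ((H ⊓ f.ker).subgroupOf (K ⊓ f.ker)).Normal := by
      rw [normal_iff h1]
      intro k hk h hh
      exact ⟨hn k hk.1 h hh.1, (inferInstance : f.ker.Normal).conj_mem h hh.2 k⟩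
    have hn2 : ((H.map f).subgroupOf (K.map f)).Normal := by
      rw [normal_iff h2]
      rintro _ ⟨k, hk, rfl⟩ _ ⟨h, hh, rfl⟩
      exact ⟨k * h * k⁻¹, hn k hk h hh, by simp⟩
    by_cases e1 : H ⊓ f.ker = K ⊓ f.ker
    · have e2 : H.map f ≠ K.map f := by
        intro e2
        apply hlt.ne
        apply le_antisymm hlt.le
        intro k hk
        have : f k ∈ H.map f := by rw [e2]; exact ⟨k, hk, rfl⟩
        obtain ⟨h, hh, hhk⟩ := this
        have h3 : h⁻¹ * k ∈ K ⊓ f.ker := by
          have h5 : h⁻¹ * k ∈ f.ker := by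
            rw [MonoidHom.mem_ker, map_mul, map_inv, hhk, inv_mul_cancel]
          exact ⟨K.mul_mem (K.inv_mem (hlt.le hh)) hk, h5⟩
        rw [← e1] at h3
        have h4 := H.mul_mem hh h3.1
        rwa [mul_inv_cancel_left] at h4
      refine ⟨a, b + 1, e1 ▸ ha, Sub.step hb (lt_of_le_of_ne h2 e2) hn2, by omega⟩
    · by_cases e2 : H.map f = K.map f
      · exact ⟨a + 1, b, Sub.step ha (lt_of_le_of_ne h1 e1) hn1, e2 ▸ hb, by omega⟩
      · exact ⟨a + 1, b + 1, Sub.step ha (lt_of_le_of_ne h1 e1) hn1, Sub.step hb (lt_of_le_of_ne h2 e2) hn2, by omega⟩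

theorem Sub.subgroupOf {G : Type*} [Group G] {H : Subgroup G} {l : ℕ} (h : Sub H l) :
    ∀ K : Subgroup G, H ≤ K → Sub (H.subgroupOf K) l := by
  induction h with
  | bot => intro K _; rw [Subgroup.bot_subgroupOf]; exact Sub.bot
  | @step H K l _ hlt hn ih =>
    intro L hL
    have h1 := ih L (hlt.le.trans hL)
    rw [normal_iff hlt.le] at hn
    have hle : H.subgroupOf L ≤ K.subgroupOf L := fun x hx => hlt.le hx
    refine Sub.step h1 (lt_of_le_of_ne hle ?_) ?_
    · intro he
      apply hlt.ne
      apply le_antisymm hlt.le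
      intro x hx
      have : (⟨x, hL hx⟩ : L) ∈ K.subgroupOf L := hx
      rw [← he] at this
      exact this
    · rw [normal_iff hle]
      intro k hk x hx
      exact hn k hk x hx

theorem Sub.map_of_injective {G G' : Type*} [Group G] [Group G'] (f : G →* G') (hf : Function.Injective f)
    {H : Subgroup G} {l : ℕ} (h : Sub H l) : Sub (H.map f) l := by
  induction h with
  | bot => rw [Subgroup.map_bot]; exact Sub.bot
  | @step H K l _ hlt hn ih =>
    rw [normal_iff hlt.le] at hn
    have hle : H.map f ≤ K.map f := Subgroup.map_mono hlt.le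
    refine Sub.step ih (lt_of_le_of_ne hle ?_) ?_
    · intro he
      exact hlt.ne (Subgroup.map_injective hf he)
    · rw [normal_iff hle]
      rintro _ ⟨k, hk, rfl⟩ _ ⟨h, hh, rfl⟩
      exact ⟨k * h * k⁻¹, hn k hk h hh, by simp⟩

theorem Sub.comap {G G' : Type*} [Group G] [Group G'] (f : G →* G') {a : ℕ} (ha : Sub f.ker a)
    {B : Subgroup G'} {b : ℕ} (h : Sub B b) : B ≤ f.range → Sub (B.comap f) (a + b) := by
  induction h with
  | bot => intro _; exact ha
  | @step H K l _ hlt hn ih =>
    intro hB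
    have h1 := ih (hlt.le.trans hB)
    rw [normal_iff hlt.le] at hn
    have hle : H.comap f ≤ K.comap f := Subgroup.comap_mono hlt.le
    refine Sub.step h1 (lt_of_le_of_ne hle ?_) ?_
    · intro he
      apply hlt.ne
      apply le_antisymm hlt.le
      intro x hx
      obtain ⟨y, rfl⟩ := hB hx
      have : y ∈ K.comap f := hx
      rw [← he] at this
      exact this
    · rw [normal_iff hle]
      intro k hk x hx
      show f (k * x * k⁻¹) ∈ H
      rw [map_mul, map_mul, map_inv]
      exact hn (f k) hk (f x) hx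

/-- the composition length of a finite group -/
noncomputable def cl (G : Type*) [Group G] : ℕ := sSup {l | Sub (⊤ : Subgroup G) l}

theorem bddAbove (G : Type*) [Group G] [Finite G] : BddAbove {l | Sub (⊤ : Subgroup G) l} := by
  refine ⟨ArithmeticFunction.cardFactors (Nat.card (⊤ : Subgroup G)), ?_⟩
  intro l hl
  exact hl.le_cardFactors

theorem Sub.le_cl {G : Type*} [Group G] [Finite G] {l : ℕ} (h : Sub (⊤ : Subgroup G) l) : l ≤ cl G :=
  le_csSup (bddAbove G) h

theorem sub_cl (G : Type*) [Group G] [Finite G] : Sub (⊤ : Subgroup G) (cl G) := by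
  have hne : {l | Sub (⊤ : Subgroup G) l}.Nonempty := by
    by_cases h : (⊥ : Subgroup G) = ⊤
    · refine ⟨0, ?_⟩
      show Sub (⊤ : Subgroup G) 0
      rw [← h]; exact Sub.bot
    · refine ⟨0 + 1, ?_⟩
      exact Sub.step Sub.bot (lt_of_le_of_ne bot_le h) (by rw [Subgroup.bot_subgroupOf]; infer_instance)
  exact Nat.sSup_mem hne (bddAbove G)

theorem cl_le_cardFactors (G : Type*) [Group G] [Finite G] : cl G ≤ ArithmeticFunction.cardFactors (Nat.card G) := by
  have := (sub_cl G).le_cardFactors
  rwa [Subgroup.card_top] at this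

theorem Sub.le_cl_subgroup {G : Type*} [Group G] [Finite G] {H : Subgroup G} {l : ℕ} (h : Sub H l) : l ≤ cl H := by
  have h1 := h.subgroupOf H le_rfl
  rw [Subgroup.subgroupOf_self] at h1
  exact h1.le_cl

theorem sub_cl_subgroup {G : Type*} [Group G] [Finite G] (H : Subgroup G) : Sub H (cl H) := by
  have h1 := (sub_cl H).map_of_injective H.subtype H.subtype_injective
  have h2 : (⊤ : Subgroup H).map H.subtype = H := by
    rw [← MonoidHom.range_eq_map, Subgroup.range_subtype]
  rwa [h2] at h1

/-- additivity -/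
theorem cl_eq {G G' : Type*} [Group G] [Finite G] [Group G'] [Finite G'] (f : G →* G') :
    cl G = cl f.ker + cl f.range := by
  apply le_antisymm
  · obtain ⟨a, b, ha, hb, hl⟩ := (sub_cl G).ker_map f
    rw [top_inf_eq] at ha
    rw [← MonoidHom.range_eq_map] at hb
    have := ha.le_cl_subgroup
    have := hb.le_cl_subgroup
    omega
  · have h1 := Sub.comap f (sub_cl_subgroup f.ker) (sub_cl_subgroup f.range) le_rfl
    have h2 : f.range.comap f = ⊤ := by
      rw [eq_top_iff]; intro x _; exact ⟨x, rfl⟩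
    rw [h2] at h1
    exact h1.le_cl

theorem cl_of_subsingleton (G : Type*) [Group G] [Finite G] (h : Nat.card G = 1) : cl G = 0 := by
  have := cl_le_cardFactors G
  rw [h] at this
  simpa using this

theorem cl_bot (G : Type*) [Group G] [Finite G] : cl (⊥ : Subgroup G) = 0 :=
  cl_of_subsingleton _ (Subgroup.card_bot)

theorem cl_range_of_injective {G G' : Type*} [Group G] [Finite G] [Group G'] [Finite G'] (f : G →* G')
    (hf : Function.Injective f) : cl G = cl f.range := by
  rw [cl_eq f, (MonoidHom.ker_eq_bot_iff f).mpr hf, cl_bot, zero_add]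

theorem cl_top (G : Type*) [Group G] [Finite G] : cl (⊤ : Subgroup G) = cl G := by
  have := cl_range_of_injective (MonoidHom.id G) Function.injective_id
  rw [this]
  have h : (MonoidHom.id G).range = ⊤ := by
    rw [MonoidHom.range_eq_top]; exact Function.surjective_id
  rw [h]

theorem cl_of_surjective {G G' : Type*} [Group G] [Finite G] [Group G'] [Finite G'] (f : G →* G')
    (hf : Function.Surjective f) : cl G = cl f.ker + cl G' := by
  rw [cl_eq f, (MonoidHom.range_eq_top).mpr hf, cl_top]

theorem cl_congr {G G' : Type*} [Group G] [Finite G] [Group G'] [Finite G'] (e : G ≃* G') : cl G = cl G' := by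
  rw [cl_of_surjective e.toMonoidHom e.surjective]
  have : e.toMonoidHom.ker = ⊥ := (MonoidHom.ker_eq_bot_iff _).mpr e.injective
  rw [this, cl_bot, zero_add]

theorem cl_quotient {G : Type*} [Group G] [Finite G] (N : Subgroup G) [N.Normal] : cl G = cl N + cl (G ⧸ N) := by
  rw [cl_of_surjective (QuotientGroup.mk' N) (QuotientGroup.mk'_surjective N), QuotientGroup.ker_mk']

theorem one_le_cl {G : Type*} [Group G] [Finite G] [Nontrivial G] : 1 ≤ cl G := by
  have h : (⊥ : Subgroup G) ≠ ⊤ := bot_ne_top
  exact (Sub.step Sub.bot (lt_of_le_of_ne bot_le h) (by rw [Subgroup.bot_subgroupOf]; infer_instance)).le_cl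

/-- a group without proper nontrivial normal subgroups has length at most one -/
theorem cl_le_one {G : Type*} [Group G] [Finite G] (h : ∀ N : Subgroup G, N.Normal → N = ⊥ ∨ N = ⊤) : cl G ≤ 1 := by
  have h1 := sub_cl G
  generalize hT : (⊤ : Subgroup G) = T at h1
  generalize cl G = l at h1
  cases h1 with
  | bot => omega
  | @step H _ l hH hlt hn =>
    subst hT
    have hHn : H.Normal := by
      rw [normal_iff hlt.le] at hn
      exact ⟨fun x hx g => hn g (Subgroup.mem_top g) x hx⟩
    rcases h H hHn with h2 | h2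
    · subst h2
      cases hH with
      | bot => omega
      | @step H' _ l _ hlt' _ => exact absurd hlt' not_lt_bot
    · exact absurd h2 hlt.ne

/-- `B = A S` with `A` normal in `B`: `cl B ≤ cl A + cl S`. -/
theorem cl_le_add {G : Type*} [Group G] [Finite G] (A B S : Subgroup G) (hAB : A ≤ B) (hSB : S ≤ B)
    (hn : ∀ b ∈ B, ∀ a ∈ A, b * a * b⁻¹ ∈ A) (hprod : ∀ b ∈ B, ∃ a ∈ A, ∃ s ∈ S, b = a * s) :
    cl B ≤ cl A + cl S := by
  have hN : (A.subgroupOf B).Normal := (normal_iff hAB).mpr hn
  rw [cl_quotient (A.subgroupOf B)]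
  have h1 : cl (A.subgroupOf B) = cl A := cl_congr (Subgroup.subgroupOfEquivOfLe hAB)
  rw [h1]
  let f : S →* B ⧸ A.subgroupOf B := (QuotientGroup.mk' (A.subgroupOf B)).comp (Subgroup.inclusion hSB)
  have hf : Function.Surjective f := by
    intro x
    obtain ⟨b, rfl⟩ := QuotientGroup.mk'_surjective _ x
    obtain ⟨a, ha, s, hs, hb⟩ := hprod b b.2
    refine ⟨⟨s, hs⟩, ?_⟩
    show (QuotientGroup.mk' (A.subgroupOf B)) ⟨s, hSB hs⟩ = (QuotientGroup.mk' (A.subgroupOf B)) b
    have h2 : b = ⟨a, hAB ha⟩ * ⟨s, hSB hs⟩ := Subtype.ext hb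
    rw [h2, map_mul]
    have h3 : (QuotientGroup.mk' (A.subgroupOf B)) ⟨a, hAB ha⟩ = 1 := by
      rw [QuotientGroup.mk'_apply, QuotientGroup.eq_one_iff]
      exact ha
    rw [h3, one_mul]
  have h4 := cl_of_surjective f hf
  omega

/-- the chain form used by the statements -/
theorem sub_of_chain {G : Type*} [Group G] (l : ℕ) (H : Fin (l + 1) → Subgroup G) (h0 : H 0 = ⊥)
    (hchain : ∀ i : Fin l, H i.castSucc < H i.succ ∧ ((H i.castSucc).subgroupOf (H i.succ)).Normal) :
    Sub (H (Fin.last l)) l := by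
  have h : ∀ j : ℕ, ∀ hj : j ≤ l, Sub (H ⟨j, by omega⟩) j := by
    intro j
    induction j with
    | zero => intro _; rw [show H ⟨0, by omega⟩ = ⊥ from h0]; exact Sub.bot
    | succ j ih =>
      intro hj
      have h1 := ih (by omega)
      have h2 := hchain ⟨j, by omega⟩
      exact Sub.step h1 h2.1 h2.2
  exact h l le_rfl

theorem le_cl_of_chain {G : Type*} [Group G] [Finite G] (l : ℕ) (H : Fin (l + 1) → Subgroup G) (h0 : H 0 = ⊥)
    (hl : H (Fin.last l) = ⊤)
    (hchain : ∀ i : Fin l, H i.castSucc < H i.succ ∧ ((H i.castSucc).subgroupOf (H i.succ)).Normal) :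
    l ≤ cl G := by
  have := sub_of_chain l H h0 hchain
  rw [hl] at this
  exact this.le_cl

end Cfsg.Agent.Lib.CompLength
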