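import Mathlib

/-!
Elements of prime order `p` in a group of order `p * m`, `p` prime to `m`: they are conjugate up to powers.
-/

set_option autoImplicit false

namespace Cfsg.Agent.Lib.ConjPrime

theorem conj_of_prime {G : Type*} [Group G] [Finite G] (p m : ℕ) (hp : p.Prime) (hm : Nat.card G = p * m)
    (hpm : ¬ p ∣ m) {x y : G} (hx : orderOf x = p) (hy : orderOf y = p) :
    ∃ (g : G) (k : ℕ), g * x * g⁻¹ = y ^ k ∧ ¬ p ∣ k := by
  have : Fact p.Prime := ⟨hp⟩
  have hm0 : m ≠ 0 := by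
    rintro rfl
    exact (Nat.card_pos (α := G)).ne' (by simpa using hm)
  have hf : (Nat.card G).factorization p = 1 := by
    rw [hm, Nat.factorization_mul hp.pos.ne' hm0, Finsupp.add_apply, hp.factorization_self,
      Nat.factorization_eq_zero_of_not_dvd hpm]
  let P : Sylow p G := Sylow.ofCard (Subgroup.zpowers x) (by rw [Nat.card_zpowers, hx, hf, pow_one])
  let Q : Sylow p G := Sylow.ofCard (Subgroup.zpowers y) (by rw [Nat.card_zpowers, hy, hf, pow_one])
  obtain ⟨g, hg⟩ := MulAction.exists_smul_eq G P Q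
  have h1 : g * x * g⁻¹ ∈ (Q : Subgroup G) := by
    rw [← hg]
    exact ⟨x, Subgroup.mem_zpowers x, rfl⟩
  have h2 : g * x * g⁻¹ ∈ Subgroup.zpowers y := h1
  classical
  rw [mem_zpowers_iff_mem_range_orderOf] at h2
  obtain ⟨k, -, hk⟩ := Finset.mem_image.1 h2
  refine ⟨g, k, hk.symm, ?_⟩
  intro hd
  have h3 : y ^ k = 1 := by
    apply orderOf_dvd_iff_pow_eq_one.1
    rw [hy]
    exact hd
  have hk' : y ^ k = g * x * g⁻¹ := hk
  rw [h3] at hk'
  have h4 : x = 1 := by
    have : x = g⁻¹ * (g * x * g⁻¹) * g := by group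
    rw [this, ← hk']; group
  rw [h4, orderOf_one] at hx
  exact hp.one_lt.ne hx

/-- powers prime to the order have the same centralizer -/
theorem comm_of_pow {G : Type*} [Group G] (y : G) (k : ℕ) (p : ℕ) (hp : p.Prime) (hy : orderOf y = p) (hk : ¬ p ∣ k)
    {g : G} (h : g * y ^ k = y ^ k * g) : g * y = y * g := by
  have hc : Nat.Coprime (orderOf y) k := by rw [hy]; exact (Nat.Prime.coprime_iff_not_dvd hp).2 hk
  obtain ⟨m, hm⟩ := exists_pow_eq_self_of_coprime hc.symm
  have h2 : Commute g (y ^ k) := h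
  have h3 := h2.pow_right m
  rw [hm] at h3
  exact h3

theorem card_cent_conj {G : Type*} [Group G] {x y : G} (h : IsConj x y) :
    Nat.card (Subgroup.centralizer ({x} : Set G)) = Nat.card (Subgroup.centralizer ({y} : Set G)) := by
  obtain ⟨c, rfl⟩ := isConj_iff.1 h
  apply Nat.card_congr
  refine ⟨fun a => ⟨c * a.1 * c⁻¹, ?_⟩, fun a => ⟨c⁻¹ * a.1 * c, ?_⟩, ?_, ?_⟩
  · rw [Subgroup.mem_centralizer_singleton_iff]
    have := Subgroup.mem_centralizer_singleton_iff.1 a.2
    calc c * a.1 * c⁻¹ * (c * x * c⁻¹) = c * (a.1 * x) * c⁻¹ := by group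
      _ = c * (x * a.1) * c⁻¹ := by rw [this]
      _ = _ := by group
  · rw [Subgroup.mem_centralizer_singleton_iff]
    have := Subgroup.mem_centralizer_singleton_iff.1 a.2
    calc c⁻¹ * a.1 * c * x = c⁻¹ * (a.1 * (c * x * c⁻¹)) * c := by group
      _ = c⁻¹ * ((c * x * c⁻¹) * a.1) * c := by rw [this]
      _ = _ := by group
  · intro a
    apply Subtype.ext
    show c⁻¹ * (c * a.1 * c⁻¹) * c = a.1
    group
  · intro a
    apply Subtype.ext
    show c * (c⁻¹ * a.1 * c) * c⁻¹ = a.1
    group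

/-- a proper subgroup of a finite simple group of order divisible by the prime `p` has index at least `p` -/
theorem le_index {G : Type*} [Group G] [Finite G] [IsSimpleGroup G] {p : ℕ} (hp : p.Prime) (h : p ∣ Nat.card G)
    {H : Subgroup G} (hH : H ≠ ⊤) : p ≤ H.index := by
  have h1 : H.normalCore = ⊥ := by
    rcases IsSimpleGroup.eq_bot_or_eq_top_of_normal H.normalCore inferInstance with h1 | h1
    · exact h1
    · exact absurd (top_le_iff.1 (h1 ▸ H.normalCore_le)) hH
  have h2 : Function.Injective (MulAction.toPermHom G (G ⧸ H)) := by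
    rw [← MonoidHom.ker_eq_bot_iff, ← Subgroup.normalCore_eq_ker, h1]
  have h3 : Nat.card G ∣ Nat.card (Equiv.Perm (G ⧸ H)) := Subgroup.card_dvd_of_injective _ h2
  rw [Nat.card_perm] at h3
  exact (hp.dvd_factorial).1 (h.trans h3)

end Cfsg.Agent.Lib.ConjPrime
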