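import Cfsg.Agent.Lib.QuatRec
import Cfsg.Agent.Lib.UniqueInvolution

set_option autoImplicit false

/-!
# 2-groups with many small centralizers (helper79)
-/

namespace Cfsg.Agent.Lib.ConstFour

variable {T : Type*} [Group T] [Finite T]

/-- An auxiliary counting fact. -/
theorem card_le_two_of_centralizes {S : Subgroup T}
    (hC : ∀ x ∉ S, Nat.card (Subgroup.centralizer ({x} : Set T)) ≤ 4) {x : T} (hx : x ∉ S)
    {A : Subgroup T} (hAS : A ≤ S) (hAC : A ≤ Subgroup.centralizer ({x} : Set T)) :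
    Nat.card A ≤ 2 := by
  have h1 := Subgroup.card_dvd_of_le hAC
  have h2 := hC x hx
  have h3 : Nat.card A ≠ Nat.card (Subgroup.centralizer ({x} : Set T)) := by
    intro h
    have h4 : A = Subgroup.centralizer ({x} : Set T) := Subgroup.eq_of_le_of_card_ge hAC h.ge
    apply hx
    apply hAS
    rw [h4, Subgroup.mem_centralizer_singleton_iff]
  obtain ⟨k, hk⟩ := h1
  have hpos : 0 < Nat.card A := Nat.card_pos
  have hk2 : 2 ≤ k := by
    rcases Nat.lt_or_ge k 2 with h | h
    · interval_cases k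
      · rw [mul_zero] at hk
        have : 0 < Nat.card (Subgroup.centralizer ({x} : Set T)) := Nat.card_pos
        omega
      · rw [mul_one] at hk
        exact absurd hk.symm h3
    · exact h
  have : Nat.card A * 2 ≤ Nat.card A * k := Nat.mul_le_mul_left _ hk2
  omega

theorem two_group (hT : IsPGroup 2 T) (S : Subgroup T) [hSn : S.Normal] (hidx : S.index = 4)
    (hC : ∀ x ∉ S, Nat.card (Subgroup.centralizer ({x} : Set T)) ≤ 4) (hS : S ≠ ⊥) :
    Nat.card S = 2 := by
  have hex : ∃ x : T, x ∉ S := by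
    by_contra hcon
    push Not at hcon
    have : S = ⊤ := by rw [eq_top_iff]; intro x _; exact hcon x
    rw [this, Subgroup.index_top] at hidx
    omega
  obtain ⟨z, hzS, hz1, hzc⟩ := UniqueInvolution.exists_central_of_normal hT S hS
  set Z : Subgroup T := S ⊓ Subgroup.center T with hZdef
  have hzZ : z ∈ Z := ⟨hzS, Subgroup.mem_center_iff.mpr hzc⟩
  have hZ2 : Nat.card Z = 2 := by
    obtain ⟨x, hx⟩ := hex
    have h1 : Nat.card Z ≤ 2 := card_le_two_of_centralizes hC hx inf_le_left
      (inf_le_right.trans (Subgroup.center_le_centralizer _))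
    have h2 : Nat.card Z ≠ 1 := by
      intro h
      rw [Subgroup.card_eq_one] at h
      rw [h] at hzZ
      exact hz1 (Subgroup.mem_bot.mp hzZ)
    have h3 : 0 < Nat.card Z := Nat.card_pos
    omega
  by_contra hne
  have hZn : Z.Normal := inferInstance
  have hSZ : ¬ S ≤ Z := by
    intro h
    have : S = Z := le_antisymm h inf_le_left
    rw [this] at hne
    exact hne hZ2
  have hmap : S.map (QuotientGroup.mk' Z) ≠ ⊥ := by
    intro h
    rw [Subgroup.map_eq_bot_iff, QuotientGroup.ker_mk'] at h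
    exact hSZ h
  have hmn : (S.map (QuotientGroup.mk' Z)).Normal := hSn.map _ (QuotientGroup.mk'_surjective Z)
  obtain ⟨rb, hrb, hrb1, hrbc⟩ := UniqueInvolution.exists_central_of_normal
    (hT.to_quotient Z) (S.map (QuotientGroup.mk' Z)) hmap
  obtain ⟨r, hrS, rfl⟩ := hrb
  have hrZ : r ∉ Z := by
    intro h
    apply hrb1
    rw [QuotientGroup.mk'_apply, QuotientGroup.eq_one_iff]
    exact h
  have hcomm : ∀ x : T, x * r * x⁻¹ * r⁻¹ ∈ Z := by
    intro x
    have h := hrbc (QuotientGroup.mk' Z x)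
    rw [← map_mul, ← map_mul] at h
    have h2 : QuotientGroup.mk' Z (x * r * x⁻¹ * r⁻¹) = 1 := by
      have : x * r * x⁻¹ * r⁻¹ = (x * r) * (r * x)⁻¹ := by group
      rw [this, map_mul, map_inv, h, mul_inv_cancel]
    rw [QuotientGroup.mk'_apply, QuotientGroup.eq_one_iff] at h2
    exact h2
  let f : T →* Z := MonoidHom.mk' (fun x => ⟨x * r * x⁻¹ * r⁻¹, hcomm x⟩) (by
    intro x y
    apply Subtype.ext
    change x * y * r * (x * y)⁻¹ * r⁻¹ = (x * r * x⁻¹ * r⁻¹) * (y * r * y⁻¹ * r⁻¹)
    have h1 : (y * r * y⁻¹ * r⁻¹) ∈ Subgroup.center T := (hcomm y).2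
    rw [Subgroup.mem_center_iff] at h1
    have h2 : x * y * r * (x * y)⁻¹ * r⁻¹ = x * (y * r * y⁻¹ * r⁻¹) * (r * x⁻¹ * r⁻¹) := by group
    rw [h2, h1 x]
    have h3 := h1 (x * r * x⁻¹ * r⁻¹)
    rw [h3]
    group)
  have hker : f.ker = Subgroup.centralizer ({r} : Set T) := by
    ext x
    rw [MonoidHom.mem_ker, Subgroup.mem_centralizer_singleton_iff]
    constructor
    · intro h
      have h1 : x * r * x⁻¹ * r⁻¹ = 1 := congrArg Subtype.val h
      rw [mul_inv_eq_one, mul_inv_eq_iff_eq_mul] at h1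
      exact h1
    · intro h
      apply Subtype.ext
      change x * r * x⁻¹ * r⁻¹ = 1
      rw [mul_inv_eq_one, mul_inv_eq_iff_eq_mul]
      exact h
  have hci : (Subgroup.centralizer ({r} : Set T)).index ≤ 2 := by
    rw [← hker, Subgroup.index_ker, ← hZ2]
    exact Subgroup.card_le_card_group _
  have hnot : ¬ Subgroup.centralizer ({r} : Set T) ≤ S := by
    intro h
    have h1 := Subgroup.index_dvd_of_le h
    rw [hidx] at h1
    have h2 : 0 < (Subgroup.centralizer ({r} : Set T)).index :=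
      Nat.pos_of_ne_zero Subgroup.index_ne_zero_of_finite
    have := Nat.le_of_dvd h2 h1
    omega
  obtain ⟨x, hxr, hxS⟩ := SetLike.not_le_iff_exists.mp hnot
  set A : Subgroup T := S ⊓ Subgroup.centralizer ({x} : Set T) with hAdef
  have hA2 : Nat.card A ≤ 2 := card_le_two_of_centralizes hC hxS inf_le_left inf_le_right
  have hZA : Z ≤ A := le_inf inf_le_left (inf_le_right.trans (Subgroup.center_le_centralizer _))
  have hrA : r ∈ A := by
    refine Subgroup.mem_inf.mpr ⟨hrS, ?_⟩
    rw [Subgroup.mem_centralizer_singleton_iff] at hxr ⊢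
    exact hxr.symm
  have hZeq : Z = A := Subgroup.eq_of_le_of_card_ge hZA (by rw [hZ2]; exact hA2)
  rw [hZeq] at hrZ
  exact hrZ hrA

theorem two_group_quat (hT : IsPGroup 2 T) (S : Subgroup T) [hSn : S.Normal] (hidx : S.index = 4)
    (hC : ∀ x ∉ S, Nat.card (Subgroup.centralizer ({x} : Set T)) ≤ 4) (hS : S ≠ ⊥)
    (hsq : ∀ x ∉ S, x * x ∈ S) {k : ℕ} (hk : ∀ x ∉ S, orderOf x = k) :
    k = 4 ∧ Nonempty (T ≃* QuaternionGroup 2) ∧ ∀ z ∈ S, z ≠ 1 → ∀ x ∉ S, x * x = z := by
  have hS2 := two_group hT S hidx hC hS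
  have hT8 : Nat.card T = 8 := by
    rw [← S.card_mul_index, hS2, hidx]
  have hex : ∃ x : T, x ∉ S := by
    by_contra hcon
    push Not at hcon
    have : S = ⊤ := by rw [eq_top_iff]; intro x _; exact hcon x
    rw [this, Subgroup.index_top] at hidx
    omega
  have hSsq : ∀ s ∈ S, s * s = 1 := by
    intro s hs
    have := pow_card_eq_one' (G := S) (x := ⟨s, hs⟩)
    rw [hS2, sq] at this
    exact congrArg Subtype.val this
  have hSuniq : ∀ s ∈ S, ∀ t ∈ S, s ≠ 1 → t ≠ 1 → s = t := by
    intro s hs t ht hs1 ht1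
    obtain ⟨y, -, hy⟩ := (Nat.card_eq_two_iff' (1 : S)).mp hS2
    have h1 := hy ⟨s, hs⟩ (fun h => hs1 (congrArg Subtype.val h))
    have h2 := hy ⟨t, ht⟩ (fun h => ht1 (congrArg Subtype.val h))
    exact congrArg Subtype.val (h1.trans h2.symm)
  -- not of exponent two
  have hne2 : ¬ ∀ x ∉ S, x * x = 1 := by
    intro hall
    have hab : ∀ a b : T, a * b = b * a := by
      intro a b
      have h1 : ∀ c : T, c * c = 1 := fun c => by
        by_cases hc : c ∈ S
        · exact hSsq c hc
        · exact hall c hc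
      have h2 : ∀ c : T, c⁻¹ = c := fun c => inv_eq_of_mul_eq_one_left (h1 c)
      rw [← h2 (a * b), mul_inv_rev, h2, h2]
    obtain ⟨x, hx⟩ := hex
    have h3 := hC x hx
    have h4 : Subgroup.centralizer ({x} : Set T) = ⊤ := by
      rw [eq_top_iff]
      intro y _
      rw [Subgroup.mem_centralizer_singleton_iff]
      exact hab _ _
    rw [h4, Subgroup.card_top, hT8] at h3
    omega
  have hk4 : k = 4 := by
    push Not at hne2
    obtain ⟨x, hx, hxx⟩ := hne2
    have h1 : x ^ 4 = 1 := by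
      have : x ^ 4 = (x * x) * (x * x) := by
        rw [← sq, ← sq, ← pow_mul]
      rw [this, hSsq _ (hsq x hx)]
    rw [← hk x hx]
    have h2 := orderOf_eq_prime_pow (p := 2) (n := 1) (x := x)
      (by rw [pow_one, sq]; exact hxx) (by simpa using h1)
    simpa using h2
  have hval : ∀ z ∈ S, z ≠ 1 → ∀ x ∉ S, x * x = z := by
    intro z hz hz1 x hx
    apply hSuniq _ (hsq x hx) _ hz _ hz1
    intro h
    have h1 := hk x hx
    rw [hk4] at h1
    have h2 : orderOf x ∣ 2 := orderOf_dvd_of_pow_eq_one (by rw [sq]; exact h)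
    rw [h1] at h2
    omega
  refine ⟨hk4, ?_, hval⟩
  rcases QuatRec.cyclic_or_quaternion_of_card_eight hT8 (by
    intro x y hx hy
    have hxS : x ∈ S := by
      by_contra h
      have := hk x h
      omega
    have hyS : y ∈ S := by
      by_contra h
      have := hk y h
      omega
    apply hSuniq x hxS y hyS
    · rintro rfl; simp at hx
    · rintro rfl; simp at hy) with h | h
  · exfalso
    obtain ⟨g, hg⟩ := h.exists_generator
    have h1 : orderOf g = 8 := by
      rw [← hT8]; exact orderOf_eq_card_of_forall_mem_zpowers hg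
    by_cases hgS : g ∈ S
    · have h2 : orderOf g ∣ 2 := orderOf_dvd_of_pow_eq_one (by rw [sq]; exact hSsq g hgS)
      rw [h1] at h2
      omega
    · have := hk g hgS
      omega
  · exact h

end Cfsg.Agent.Lib.ConstFour
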