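import Mathlib
import Cfsg.Agent.Lib.Pres235
import Cfsg.Agent.Lib.SL2Pres
import Cfsg.Agent.Lib.ClSmall
import Cfsg.Agent.Lib.Burnside

set_option autoImplicit false

/-! Recognition of `SL(2,5)`: presentation, and non-solvable groups of order 120 with quaternion Sylow
2-subgroups. -/

namespace Cfsg.Agent.Lib.SL25

open Cfsg.Agent.Lib.Pres235

/-- The relators. -/
def rels3 : Set (FreeGroup (Fin 3)) := {FreeGroup.of (0 : Fin 3) ^ 3, FreeGroup.of (1 : Fin 3) ^ 5, FreeGroup.of (2 : Fin 3) ^ 2,
        (FreeGroup.of (2 : Fin 3))⁻¹ * FreeGroup.of 0 * FreeGroup.of 2 * (FreeGroup.of (0 : Fin 3))⁻¹,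
        (FreeGroup.of (2 : Fin 3))⁻¹ * FreeGroup.of 1 * FreeGroup.of 2 * (FreeGroup.of (1 : Fin 3))⁻¹,
        (FreeGroup.of (0 : Fin 3) * FreeGroup.of 1) ^ 2 * (FreeGroup.of (2 : Fin 3))⁻¹}

/-- The relations. -/
structure Rel {G : Type*} [Group G] (x y z : G) : Prop where
  hx : x ^ 3 = 1
  hy : y ^ 5 = 1
  hz : z ^ 2 = 1
  hzx : x * z = z * x
  hzy : y * z = z * y
  hxy : (x * y) ^ 2 = z

theorem Rel.card_le {G : Type*} [Group G] {x y z : G} (h : Rel x y z)
    (hg : Subgroup.closure {x, y, z} = ⊤) : Finite G ∧ Nat.card G ≤ 120 := by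
  have hcen : ∀ g : G, g * z = z * g := by
    intro g
    have hgm : g ∈ Subgroup.closure ({x, y, z} : Set G) := by rw [hg]; trivial
    have : Subgroup.closure ({x, y, z} : Set G) ≤ Subgroup.centralizer {z} := by
      rw [Subgroup.closure_le]
      rintro s (rfl | rfl | rfl)
      · exact Subgroup.mem_centralizer_singleton_iff.2 h.hzx
      · exact Subgroup.mem_centralizer_singleton_iff.2 h.hzy
      · exact Subgroup.mem_centralizer_singleton_iff.2 rfl
    exact Subgroup.mem_centralizer_singleton_iff.1 (this hgm)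
  have hn : (Subgroup.zpowers z).Normal := by
    constructor
    intro n hn g
    obtain ⟨k, rfl⟩ := hn
    have : Commute g z := hcen g
    have h2 : g * z ^ k * g⁻¹ = z ^ k := by
      rw [(this.zpow_right k).eq, mul_inv_cancel_right]
    simp only
    rw [h2]
    exact ⟨k, rfl⟩
  have hq := Pres235.card_le (G := G ⧸ Subgroup.zpowers z) (x := (x : G ⧸ Subgroup.zpowers z))
    (y := (y : G ⧸ Subgroup.zpowers z)) (by rw [← QuotientGroup.mk_pow, h.hx]; rfl)
    (by rw [← QuotientGroup.mk_pow, h.hy]; rfl)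
    (by rw [← QuotientGroup.mk_mul, ← QuotientGroup.mk_pow, h.hxy]
        exact (QuotientGroup.eq_one_iff _).2 (Subgroup.mem_zpowers z)) (by
      rw [eq_top_iff]
      intro q _
      obtain ⟨g, rfl⟩ := QuotientGroup.mk_surjective q
      have hgm : g ∈ Subgroup.closure ({x, y, z} : Set G) := by rw [hg]; trivial
      induction hgm using Subgroup.closure_induction with
      | mem s hs =>
        rcases hs with rfl | rfl | rfl
        · exact Subgroup.subset_closure (Or.inl rfl)
        · exact Subgroup.subset_closure (Or.inr rfl)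
        · have : ((s : G) : G ⧸ Subgroup.zpowers s) = 1 := (QuotientGroup.eq_one_iff _).2 (Subgroup.mem_zpowers s)
          rw [this]; exact one_mem _
      | one => exact one_mem _
      | mul a b _ _ ha hb => rw [QuotientGroup.mk_mul]; exact mul_mem (ha trivial) (hb trivial)
      | inv a _ ha => rw [QuotientGroup.mk_inv]; exact inv_mem (ha trivial))
  obtain ⟨hfin, hcard⟩ := hq
  have hz : Nat.card (Subgroup.zpowers z) ≤ 2 := by
    rw [Nat.card_zpowers]
    exact orderOf_le_of_pow_eq_one (by norm_num) h.hz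
  have hzf : Finite (Subgroup.zpowers z) :=
    (isOfFinOrder_iff_pow_eq_one.2 ⟨2, by norm_num, h.hz⟩).finite_zpowers.to_subtype
  have hG : Finite G := by
    have hpos : Nat.card G ≠ 0 := by
      rw [Subgroup.card_eq_card_quotient_mul_card_subgroup (Subgroup.zpowers z)]
      exact mul_ne_zero Nat.card_pos.ne' Nat.card_pos.ne'
    exact Nat.finite_of_card_ne_zero hpos
  refine ⟨hG, ?_⟩
  rw [Subgroup.card_eq_card_quotient_mul_card_subgroup (Subgroup.zpowers z)]
  calc _ ≤ 60 * 2 := Nat.mul_le_mul hcard hz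
    _ = 120 := by norm_num

theorem rel_of : Rel (PresentedGroup.of 0 : PresentedGroup rels3) (PresentedGroup.of 1) (PresentedGroup.of 2) where
  hx := by
    have : (PresentedGroup.mk rels3 (FreeGroup.of 0 ^ 3)) = 1 := PresentedGroup.one_of_mem (Or.inl rfl)
    simpa [PresentedGroup.of] using this
  hy := by
    have : (PresentedGroup.mk rels3 (FreeGroup.of 1 ^ 5)) = 1 := PresentedGroup.one_of_mem (Or.inr (Or.inl rfl))
    simpa [PresentedGroup.of] using this
  hz := by
    have : (PresentedGroup.mk rels3 (FreeGroup.of 2 ^ 2)) = 1 :=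
      PresentedGroup.one_of_mem (Or.inr (Or.inr (Or.inl rfl)))
    simpa [PresentedGroup.of] using this
  hzx := by
    have : (PresentedGroup.mk rels3 ((FreeGroup.of (2 : Fin 3))⁻¹ * FreeGroup.of 0 * FreeGroup.of 2 *
      (FreeGroup.of (0 : Fin 3))⁻¹)) = 1 :=
      PresentedGroup.one_of_mem (Or.inr (Or.inr (Or.inr (Or.inl rfl))))
    simp only [map_mul, map_inv] at this
    rw [mul_inv_eq_one, mul_assoc, inv_mul_eq_iff_eq_mul] at this
    exact this
  hzy := by
    have : (PresentedGroup.mk rels3 ((FreeGroup.of (2 : Fin 3))⁻¹ * FreeGroup.of 1 * FreeGroup.of 2 *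
      (FreeGroup.of (1 : Fin 3))⁻¹)) = 1 :=
      PresentedGroup.one_of_mem (Or.inr (Or.inr (Or.inr (Or.inr (Or.inl rfl)))))
    simp only [map_mul, map_inv] at this
    rw [mul_inv_eq_one, mul_assoc, inv_mul_eq_iff_eq_mul] at this
    exact this
  hxy := by
    have : (PresentedGroup.mk rels3 ((FreeGroup.of (0 : Fin 3) * FreeGroup.of 1) ^ 2 *
      (FreeGroup.of (2 : Fin 3))⁻¹)) = 1 :=
      PresentedGroup.one_of_mem (Or.inr (Or.inr (Or.inr (Or.inr (Or.inr rfl)))))
    simp only [map_mul, map_inv, map_pow] at this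
    rw [mul_inv_eq_one] at this
    exact this

theorem closure_of3 : Subgroup.closure {(PresentedGroup.of 0 : PresentedGroup rels3), PresentedGroup.of 1,
    PresentedGroup.of 2} = ⊤ := by
  rw [← PresentedGroup.closure_range_of]
  congr 1
  ext g
  constructor
  · rintro (rfl | rfl | rfl)
    · exact ⟨0, rfl⟩
    · exact ⟨1, rfl⟩
    · exact ⟨2, rfl⟩
  · rintro ⟨i, rfl⟩
    fin_cases i
    · exact Or.inl rfl
    · exact Or.inr (Or.inl rfl)
    · exact Or.inr (Or.inr rfl)

/-- a group of order 120 generated by elements satisfying the relations. -/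
theorem Rel.equiv {G : Type*} [Group G] {x y z : G} (h : Rel x y z)
    (hg : Subgroup.closure {x, y, z} = ⊤) (hc : Nat.card G = 120) : Nonempty (PresentedGroup rels3 ≃* G) := by
  let f : PresentedGroup rels3 →* G := PresentedGroup.toGroup (f := ![x, y, z]) (by
    rintro r (rfl | rfl | rfl | rfl | rfl | rfl)
    · simpa using h.hx
    · simpa using h.hy
    · simpa using h.hz
    · simp only [map_mul, map_inv, FreeGroup.lift_apply_of, Matrix.cons_val]
      rw [mul_inv_eq_one, mul_assoc, inv_mul_eq_iff_eq_mul]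
      exact h.hzx
    · simp only [map_mul, map_inv, FreeGroup.lift_apply_of, Matrix.cons_val]
      rw [mul_inv_eq_one, mul_assoc, inv_mul_eq_iff_eq_mul]
      exact h.hzy
    · simp only [map_mul, map_inv, map_pow, FreeGroup.lift_apply_of, Matrix.cons_val]
      rw [mul_inv_eq_one]
      exact h.hxy)
  have f0 : f (PresentedGroup.of 0) = x := by simp [f]
  have f1 : f (PresentedGroup.of 1) = y := by simp [f]
  have f2 : f (PresentedGroup.of 2) = z := by simp [f]
  have hs : Function.Surjective f := by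
    rw [← MonoidHom.range_eq_top, eq_top_iff, ← hg, Subgroup.closure_le]
    rintro s (rfl | rfl | rfl)
    · exact ⟨_, f0⟩
    · exact ⟨_, f1⟩
    · exact ⟨_, f2⟩
  obtain ⟨hfin, hcard⟩ := rel_of.card_le closure_of3
  have hb : Function.Bijective f := by
    refine (Nat.bijective_iff_surjective_and_card f).2 ⟨hs, le_antisymm ?_ (Nat.card_le_card_of_surjective f hs)⟩
    rw [hc]; exact hcard
  exact ⟨MulEquiv.ofBijective f hb⟩

open Matrix in
/-- the generators in `SL(2,5)`. -/
def mx : SpecialLinearGroup (Fin 2) (ZMod 5) := ⟨!![0, -1; 1, -1], by simp [Matrix.det_fin_two]⟩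
open Matrix in
def my : SpecialLinearGroup (Fin 2) (ZMod 5) := ⟨!![1, 1; 0, 1], by simp [Matrix.det_fin_two]⟩
open Matrix in
def mz : SpecialLinearGroup (Fin 2) (ZMod 5) := ⟨!![-1, 0; 0, -1], by simp [Matrix.det_fin_two]⟩

theorem rel_mat : Rel mx my mz where
  hx := by decide
  hy := by decide
  hz := by decide
  hzx := by decide
  hzy := by decide
  hxy := by decide

local instance fact5 : Fact (Nat.Prime 5) := ⟨by norm_num⟩

theorem E_eq : ∀ t : ZMod 5, (SL2Pres.E t : Matrix.SpecialLinearGroup (Fin 2) (ZMod 5)) = my ^ t.val := by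
  decide

theorem E'_eq : ∀ t : ZMod 5, (SL2Pres.E' t : Matrix.SpecialLinearGroup (Fin 2) (ZMod 5)) =
    (mx * my) * my ^ (-t).val * (mx * my)⁻¹ := by
  decide

theorem closure_mat : Subgroup.closure {mx, my, mz} = ⊤ := by
  have hx : mx ∈ Subgroup.closure {mx, my, mz} := Subgroup.subset_closure (Or.inl rfl)
  have hy : my ∈ Subgroup.closure {mx, my, mz} := Subgroup.subset_closure (Or.inr (Or.inl rfl))
  rw [eq_top_iff, ← SL2Pres.closure_SL2, Subgroup.closure_le]
  rintro s (⟨t, rfl⟩ | ⟨t, rfl⟩)
  · rw [E_eq]; exact pow_mem hy _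
  · rw [E'_eq]; exact mul_mem (mul_mem (mul_mem hx hy) (pow_mem hy _)) (inv_mem (mul_mem hx hy))

theorem card_mat : Nat.card (Matrix.SpecialLinearGroup (Fin 2) (ZMod 5)) = 120 := by
  rw [Cfsg.Agent.Lib.ClSL2.card_SL2 (q := 5) (by simp)]
  norm_num

theorem presEquiv : Nonempty (PresentedGroup rels3 ≃* Matrix.SpecialLinearGroup (Fin 2) (ZMod 5)) :=
  rel_mat.equiv closure_mat card_mat

theorem sq30 : Squarefree 30 := by
  rw [Nat.squarefree_iff_prime_squarefree]
  rintro x hx ⟨k, hk⟩
  have h5 : x ≤ 5 := by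
    by_contra h
    push Not at h
    have hk0 : k ≠ 0 := by rintro rfl; simp at hk
    have h2 : 6 * 6 * 1 ≤ x * x * k := Nat.mul_le_mul (Nat.mul_le_mul h h) (Nat.one_le_iff_ne_zero.2 hk0)
    omega
  have := hx.two_le
  interval_cases x <;> omega

/-- groups of small order dividing 60 are solvable. -/
theorem solvable_of_dvd_sixty {G : Type*} [Group G] [Finite G] (h : Nat.card G ∣ 60) (hne : Nat.card G ≠ 60) :
    Group.IsSolvable G := by
  have hmem : Nat.card G ∈ Nat.divisors 60 := Nat.mem_divisors.2 ⟨h, by norm_num⟩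
  have hd : Nat.divisors 60 = {1, 2, 3, 4, 5, 6, 10, 12, 15, 20, 30, 60} := by decide
  rw [hd] at hmem
  simp only [Finset.mem_insert, Finset.mem_singleton] at hmem
  rcases hmem with h | h | h | h | h | h | h | h | h | h | h | h
  · exact Burnside.isSolvable_of_card_eq _ 2 3 0 0 (by norm_num) (by norm_num) (by rw [h]; norm_num) rfl
  · exact Burnside.isSolvable_of_card_eq _ 2 3 1 0 (by norm_num) (by norm_num) (by rw [h]; norm_num) rfl
  · exact Burnside.isSolvable_of_card_eq _ 2 3 0 1 (by norm_num) (by norm_num) (by rw [h]; norm_num) rfl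
  · exact Burnside.isSolvable_of_card_eq _ 2 3 2 0 (by norm_num) (by norm_num) (by rw [h]; norm_num) rfl
  · exact Burnside.isSolvable_of_card_eq _ 2 5 0 1 (by norm_num) (by norm_num) (by rw [h]; norm_num) rfl
  · exact Burnside.isSolvable_of_card_eq _ 2 3 1 1 (by norm_num) (by norm_num) (by rw [h]; norm_num) rfl
  · exact Burnside.isSolvable_of_card_eq _ 2 5 1 1 (by norm_num) (by norm_num) (by rw [h]; norm_num) rfl
  · exact Burnside.isSolvable_of_card_eq _ 2 3 2 1 (by norm_num) (by norm_num) (by rw [h]; norm_num) rfl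
  · exact Burnside.isSolvable_of_card_eq _ 3 5 1 1 (by norm_num) (by norm_num) (by rw [h]; norm_num) rfl
  · exact Burnside.isSolvable_of_card_eq _ 2 5 2 1 (by norm_num) (by norm_num) (by rw [h]; norm_num) rfl
  · have hsq : Squarefree (Nat.card G) := by
      rw [h]
      exact sq30
    have := IsZGroup.of_squarefree hsq
    infer_instance
  · exact absurd h hne

theorem isSimpleGroup_of_card_sixty {G : Type*} [Group G] [Finite G] (h : Nat.card G = 60)
    (hns : ¬ Group.IsSolvable G) : IsSimpleGroup G := by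
  have hnt : Nontrivial G := by
    rw [← Finite.one_lt_card_iff_nontrivial, h]; norm_num
  refine ⟨fun N hN => ?_⟩
  by_contra hcon
  push Not at hcon
  apply hns
  have hmul := N.card_mul_index
  rw [h] at hmul
  have h1 : Nat.card N ≠ 60 := fun h60 => hcon.2 (Subgroup.eq_top_of_card_eq N (by rw [h60, h]))
  have h2 : Nat.card N ≠ 1 := fun h1 => hcon.1 (Subgroup.card_eq_one.1 h1)
  have h3 : Nat.card (G ⧸ N) ≠ 60 := by
    intro h60
    change N.index = 60 at h60
    rw [h60] at hmul
    omega
  have s1 : Group.IsSolvable N := solvable_of_dvd_sixty (Dvd.intro _ hmul) h1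
  have s2 : Group.IsSolvable (G ⧸ N) := solvable_of_dvd_sixty (Dvd.intro_left _ hmul) h3
  exact Group.isSolvable_of_ker_le_range N.subtype (QuotientGroup.mk' N) (by simp)

/-- In a group isomorphic to `Q₈` every non-trivial subgroup contains every involution. -/
theorem q8_involution (z : QuaternionGroup 2) (hz : z ^ 2 = 1) (hz1 : z ≠ 1) : z = QuaternionGroup.a 2 := by
  revert z; decide

theorem q8_mem {S : Type*} [Group S] (e : S ≃* QuaternionGroup 2) {H : Subgroup S} (hH : H ≠ ⊥)
    {z : S} (hz : z ^ 2 = 1) (hz1 : z ≠ 1) : z ∈ H := by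
  have hf : Finite S := Finite.of_equiv _ e.symm.toEquiv
  have huniq : ∀ a : S, a ^ 2 = 1 → a ≠ 1 → a = e.symm (QuaternionGroup.a 2) := by
    intro a ha ha1
    have := q8_involution (e a) (by rw [← map_pow, ha, map_one]) (by simpa using ha1)
    rw [← this, MulEquiv.symm_apply_apply]
  have hcS : Nat.card S = 8 := by
    rw [Nat.card_congr e.toEquiv, Nat.card_eq_fintype_card, QuaternionGroup.card]
  have hdvd : Nat.card H ∣ 2 ^ 3 := by
    have := Subgroup.card_subgroup_dvd_card H
    rwa [hcS] at this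
  have h2 : 2 ∣ Nat.card H := by
    obtain ⟨k, hk, hk2⟩ := (Nat.dvd_prime_pow Nat.prime_two).1 hdvd
    rcases k with _ | k
    · exfalso; exact hH (Subgroup.card_eq_one.1 (by rw [hk2]; rfl))
    · rw [hk2, pow_succ]; exact Dvd.intro_left _ rfl
  obtain ⟨h, hh⟩ := exists_prime_orderOf_dvd_card' (p := 2) (G := H) h2
  have h1 : (h : S) ^ 2 = 1 := by
    rw [← Subgroup.coe_pow, ← hh, pow_orderOf_eq_one]; rfl
  have h3 : (h : S) ≠ 1 := by
    intro h4
    have : h = 1 := Subtype.ext h4
    rw [this, orderOf_one] at hh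
    omega
  rw [huniq z hz hz1, ← huniq h h1 h3]
  exact h.2

theorem closure_p : Subgroup.closure {px, py} = ⊤ := by
  obtain ⟨e, h0, h1⟩ := Pres235.equiv
  rw [← Subgroup.map_top_of_surjective e.toMonoidHom e.surjective, ← Pres235.closure_of, MonoidHom.map_closure,
    Set.image_pair]
  congr 1
  rw [← h0, ← h1]; rfl

/-- **Recognition of `SL(2,5)`**. -/
theorem recognize {G : Type*} [Group G] [Finite G] (hc : Nat.card G = 120) (hns : ¬ Group.IsSolvable G)
    (hQ : ∀ P : Sylow 2 G, Nonempty ((P : Subgroup G) ≃* QuaternionGroup 2)) :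
    Nonempty (PresentedGroup rels3 ≃* G) := by
  classical
  -- Sylow 5-subgroups
  have hP5 : ∀ P : Sylow 5 G, Nat.card P = 5 := by
    intro P
    have h1 := P.card_eq_multiplicity
    rw [h1, hc]
    have : (120 : ℕ).factorization 5 = 1 := by
      rw [show (120 : ℕ) = 5 * 24 by norm_num, Nat.factorization_mul (by norm_num) (by norm_num)]
      simp [Nat.Prime.factorization_self (show Nat.Prime 5 by norm_num),
        Nat.factorization_eq_zero_of_not_dvd (show ¬ 5 ∣ 24 by norm_num)]
    rw [this]; norm_num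
  obtain ⟨P⟩ := (inferInstance : Nonempty (Sylow 5 G))
  have hPi : (P : Subgroup G).index = 24 := by
    have h := (P : Subgroup G).card_mul_index
    have h5 := hP5 P
    rw [hc] at h
    rw [h5] at h
    omega
  have hn5 : Nat.card (Sylow 5 G) = 6 := by
    have h1 := card_sylow_modEq_one 5 G
    have h2 := P.card_dvd_index
    rw [hPi] at h2
    have hmem : Nat.card (Sylow 5 G) ∈ Nat.divisors 24 := Nat.mem_divisors.2 ⟨h2, by norm_num⟩
    have hd : Nat.divisors 24 = {1, 2, 3, 4, 6, 8, 12, 24} := by decide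
    rw [hd] at hmem
    simp only [Finset.mem_insert, Finset.mem_singleton] at hmem
    unfold Nat.ModEq at h1
    have hne : Nat.card (Sylow 5 G) ≠ 1 := by
      intro hone
      apply hns
      have hnorm : (P : Subgroup G).Normal := by
        have := P.card_eq_index_normalizer
        rw [hone] at this
        exact Subgroup.normalizer_eq_top_iff.1 (Subgroup.index_eq_one.1 this.symm)
      have s1 : Group.IsSolvable P :=
        Burnside.isSolvable_of_card_eq _ 2 5 0 1 (by norm_num) (by norm_num) (by rw [hP5]; norm_num) rfl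
      have s2 : Group.IsSolvable (G ⧸ (P : Subgroup G)) :=
        Burnside.isSolvable_of_card_eq _ 2 3 3 1 (by norm_num) (by norm_num)
          (by change (P : Subgroup G).index = _; rw [hPi]; norm_num) rfl
      exact Group.isSolvable_of_ker_le_range (P : Subgroup G).subtype (QuotientGroup.mk' (P : Subgroup G)) (by simp)
    rcases hmem with h | h | h | h | h | h | h | h
    · exact absurd h hne
    all_goals first | exact h | (rw [h] at h1; norm_num at h1)
  -- the kernel of the action on them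
  set f := MulAction.toPermHom G (Sylow 5 G) with hf
  set K := f.ker with hK
  have hKmem : ∀ k : G, k ∈ K ↔ ∀ Q : Sylow 5 G, k • Q = Q := by
    intro k
    rw [hK, MonoidHom.mem_ker]
    constructor
    · intro h Q
      have := congrArg (fun t => t Q) h
      simpa [hf] using this
    · intro h
      ext Q : 1
      simpa [hf] using h Q
  have hKN : ∀ Q : Sylow 5 G, K ≤ Subgroup.normalizer ((Q : Subgroup G) : Set G) := by
    intro Q k hk
    have := (hKmem k).1 hk Q
    exact Sylow.smul_eq_iff_mem_normalizer.1 this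
  have hKcard : Nat.card K ∣ 20 := by
    have h1 := Subgroup.card_dvd_of_le (hKN P)
    have h2 := P.card_eq_index_normalizer
    rw [hn5] at h2
    change 6 = (Subgroup.normalizer ((P : Subgroup G) : Set G)).index at h2
    have h3 := (Subgroup.normalizer ((P : Subgroup G) : Set G)).card_mul_index
    rw [← h2, hc] at h3
    have : Nat.card (Subgroup.normalizer ((P : Subgroup G) : Set G)) = 20 := by omega
    rwa [this] at h1
  -- the involution
  obtain ⟨S⟩ := (inferInstance : Nonempty (Sylow 2 G))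
  obtain ⟨e⟩ := hQ S
  set z' : S := e.symm (QuaternionGroup.a 2) with hz'
  have hz'2 : z' ^ 2 = 1 := by
    rw [hz', ← map_pow]
    have : (QuaternionGroup.a 2 : QuaternionGroup 2) ^ 2 = 1 := by decide
    rw [this, map_one]
  have hz'1 : z' ≠ 1 := by
    rw [hz']
    intro h
    have h2 : (QuaternionGroup.a 2 : QuaternionGroup 2) = 1 := by
      rw [← map_one e.symm] at h
      exact e.symm.injective h
    revert h2; decide
  set z : G := (z' : G) with hz
  have hz2 : z ^ 2 = 1 := by rw [hz, ← Subgroup.coe_pow, hz'2]; rfl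
  have hz1 : z ≠ 1 := by intro h; exact hz'1 (Subtype.ext h)
  have hzK : z ∈ K := by
    rw [hKmem]
    intro Q
    have hst : MulAction.stabilizer S Q ≠ ⊥ := by
      intro hbot
      have h1 := MulAction.index_stabilizer (G := S) Q
      rw [hbot, Subgroup.index_bot, Nat.card_congr e.toEquiv, Nat.card_eq_fintype_card,
        QuaternionGroup.card] at h1
      have h2 : (MulAction.orbit S Q).ncard ≤ Nat.card (Sylow 5 G) := Set.ncard_le_card _
      omega
    have := q8_mem e hst hz'2 hz'1
    exact this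
  have hK2 : 2 ∣ Nat.card K := by
    have : orderOf (⟨z, hzK⟩ : K) = 2 := by
      apply orderOf_eq_prime
      · exact Subtype.ext hz2
      · intro h; exact hz1 (congrArg Subtype.val h)
    rw [← this]
    exact orderOf_dvd_natCard _
  have hK5 : ¬ 5 ∣ Nat.card K := by
    intro h5
    obtain ⟨g, hg⟩ := exists_prime_orderOf_dvd_card' (p := 5) (G := K) h5
    have hg5 : orderOf (g : G) = 5 := by rw [Subgroup.orderOf_coe, hg]
    have hall : ∀ Q : Sylow 5 G, Subgroup.zpowers (g : G) = Q := by
      intro Q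
      have hp : IsPGroup 5 (Subgroup.zpowers (g : G)) := by
        apply IsPGroup.of_card (n := 1)
        rw [Nat.card_zpowers, hg5, pow_one]
      have h1 := hp.inf_normalizer_sylow Q
      have h2 : Subgroup.zpowers (g : G) ≤ Subgroup.normalizer ((Q : Subgroup G) : Set G) := by
        rw [Subgroup.zpowers_le]; exact hKN Q g.2
      change Subgroup.zpowers (g : G) ⊓ Subgroup.normalizer ((Q : Subgroup G) : Set G) = _ at h1
      rw [inf_eq_left.2 h2] at h1
      have h3 : Subgroup.zpowers (g : G) ≤ Q := inf_eq_left.1 h1.symm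
      exact Subgroup.eq_of_le_of_card_ge h3 (by rw [hP5, Nat.card_zpowers, hg5])
    have : Nat.card (Sylow 5 G) ≤ 1 := by
      rw [Finite.card_le_one_iff_subsingleton]
      exact ⟨fun a b => Sylow.ext (by rw [← hall a, ← hall b])⟩
    omega
  have hKi := K.card_mul_index
  rw [hc] at hKi
  have hK24 : Nat.card K = 2 ∨ Nat.card K = 4 := by
    have hmem : Nat.card K ∈ Nat.divisors 20 := Nat.mem_divisors.2 ⟨hKcard, by norm_num⟩
    have hd : Nat.divisors 20 = {1, 2, 4, 5, 10, 20} := by decide
    rw [hd] at hmem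
    simp only [Finset.mem_insert, Finset.mem_singleton] at hmem
    omega
  have hKc : Nat.card K = 2 := by
    rcases hK24 with h | h
    · exact h
    · exfalso
      apply hns
      have s1 : Group.IsSolvable K :=
        Burnside.isSolvable_of_card_eq _ 2 5 2 0 (by norm_num) (by norm_num) (by rw [h]; norm_num) rfl
      have h30 : Nat.card (G ⧸ K) = 30 := by change K.index = 30; rw [h] at hKi; omega
      have s2 : Group.IsSolvable (G ⧸ K) := by
        have hsq : Squarefree (Nat.card (G ⧸ K)) := by rw [h30]; exact sq30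
        have := IsZGroup.of_squarefree hsq
        infer_instance
      exact Group.isSolvable_of_ker_le_range K.subtype (QuotientGroup.mk' K) (by simp)
  have h60 : Nat.card (G ⧸ K) = 60 := by change K.index = 60; rw [hKc] at hKi; omega
  have hsimple : IsSimpleGroup (G ⧸ K) := by
    apply isSimpleGroup_of_card_sixty h60
    intro hs
    apply hns
    have s1 : Group.IsSolvable K :=
      Burnside.isSolvable_of_card_eq _ 2 5 1 0 (by norm_num) (by norm_num) (by rw [hKc]; norm_num) rfl
    exact Group.isSolvable_of_ker_le_range K.subtype (QuotientGroup.mk' K) (by simp)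
  obtain ⟨e5⟩ := Cfsg.Agent.Lib.ClSmall.equiv_alternating_five h60
  have hKel : ∀ k ∈ K, k = 1 ∨ k = z := by
    intro k hk
    by_contra hcon
    push Not at hcon
    have h3 : ({1, z, k} : Finset G).card = 3 := by
      rw [Finset.card_insert_of_notMem, Finset.card_insert_of_notMem, Finset.card_singleton]
      · simp [hcon.2.symm]
      · simp [hz1.symm, hcon.1.symm]
    have h4 : (({1, z, k} : Finset G) : Set G) ⊆ K := by
      intro y hy
      simp only [Finset.coe_insert, Finset.coe_singleton, Set.mem_insert_iff, Set.mem_singleton_iff] at hy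
      rcases hy with rfl | rfl | rfl
      · exact one_mem _
      · exact hzK
      · exact hk
    have h5 := Set.ncard_le_ncard h4 (Set.toFinite _)
    rw [Set.ncard_coe_finset, h3] at h5
    have h6 : (K : Set G).ncard = 2 := by rw [← hKc]; rfl
    omega
  have hKsq : ∀ k ∈ K, k ^ 2 = 1 := by
    intro k hk
    rcases hKel k hk with rfl | rfl
    · exact one_pow _
    · exact hz2
  have hzc : ∀ g : G, g * z = z * g := by
    intro g
    have hKn : K.Normal := MonoidHom.normal_ker f
    have h1 := hKn.conj_mem z hzK g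
    rcases hKel _ h1 with h | h
    · exfalso; exact hz1 (conj_eq_one_iff.1 h)
    · exact mul_inv_eq_iff_eq_mul.1 h
  -- lifts
  obtain ⟨g, hg⟩ : ∃ g : G, e5 (g : G ⧸ K) = px := by
    obtain ⟨g, hg⟩ := QuotientGroup.mk_surjective (e5.symm px)
    exact ⟨g, by rw [hg, MulEquiv.apply_symm_apply]⟩
  obtain ⟨h, hh⟩ : ∃ g : G, e5 (g : G ⧸ K) = py := by
    obtain ⟨g, hg⟩ := QuotientGroup.mk_surjective (e5.symm py)
    exact ⟨g, by rw [hg, MulEquiv.apply_symm_apply]⟩
  have hmemK : ∀ a : G, e5 (a : G ⧸ K) = 1 → a ∈ K := by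
    intro a ha
    rw [MulEquiv.map_eq_one_iff] at ha
    exact (QuotientGroup.eq_one_iff _).1 ha
  have hx3 : (g ^ 4) ^ 3 = 1 := by
    have h1 : g ^ 3 ∈ K := hmemK _ (by rw [QuotientGroup.mk_pow, map_pow, hg, px_pow])
    calc (g ^ 4) ^ 3 = ((g ^ 3) ^ 2) ^ 2 := by rw [← pow_mul, ← pow_mul, ← pow_mul]
      _ = 1 := by rw [hKsq _ h1, one_pow]
  have hy5 : (h ^ 6) ^ 5 = 1 := by
    have h1 : h ^ 5 ∈ K := hmemK _ (by rw [QuotientGroup.mk_pow, map_pow, hh, py_pow])
    calc (h ^ 6) ^ 5 = ((h ^ 5) ^ 2) ^ 3 := by rw [← pow_mul, ← pow_mul, ← pow_mul]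
      _ = 1 := by rw [hKsq _ h1, one_pow]
  have hxi : e5 ((g ^ 4 : G) : G ⧸ K) = px := by
    rw [QuotientGroup.mk_pow, map_pow, hg, show 4 = 3 + 1 from rfl, pow_succ, px_pow, one_mul]
  have hyi : e5 ((h ^ 6 : G) : G ⧸ K) = py := by
    rw [QuotientGroup.mk_pow, map_pow, hh, show 6 = 5 + 1 from rfl, pow_succ, py_pow, one_mul]
  have hxyi : e5 ((g ^ 4 * h ^ 6 : G) : G ⧸ K) = px * py := by
    rw [QuotientGroup.mk_mul, map_mul, hxi, hyi]
  have hxy2 : (g ^ 4 * h ^ 6) ^ 2 = z := by
    have h1 : (g ^ 4 * h ^ 6) ^ 2 ∈ K := hmemK _ (by rw [QuotientGroup.mk_pow, map_pow, hxyi, pxy_pow])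
    rcases hKel _ h1 with h2 | h2
    · exfalso
      have hne : g ^ 4 * h ^ 6 ∉ K := by
        intro hmem
        have : ((g ^ 4 * h ^ 6 : G) : G ⧸ K) = 1 := (QuotientGroup.eq_one_iff _).2 hmem
        rw [this, map_one] at hxyi
        exact pxy_ne hxyi.symm
      have hp : IsPGroup 2 (Subgroup.zpowers (g ^ 4 * h ^ 6)) := by
        apply IsPGroup.of_card (n := 1)
        rw [Nat.card_zpowers, pow_one]
        exact orderOf_eq_prime h2 (fun h0 => hne (by rw [h0]; exact one_mem _))
      obtain ⟨S', hS'⟩ := hp.exists_le_sylow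
      obtain ⟨e'⟩ := hQ S'
      have hwS : g ^ 4 * h ^ 6 ∈ S' := hS' (Subgroup.mem_zpowers _)
      have hzS : z ∈ S' := by
        obtain ⟨t, ht⟩ := MulAction.exists_smul_eq G S S'
        rw [← ht]
        have h3 : t * z * t⁻¹ = z := by rw [hzc, mul_inv_cancel_right]
        have : z ∈ ((t • S : Sylow 2 G) : Subgroup G) := by
          rw [Sylow.coe_subgroup_smul]
          refine ⟨z, z'.2, ?_⟩
          simpa using h3
        exact this
      have h4 := q8_mem e' (H := Subgroup.zpowers (⟨z, hzS⟩ : S')) (by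
        rw [Ne, Subgroup.zpowers_eq_bot]
        intro h0; exact hz1 (congrArg Subtype.val h0)) (z := ⟨g ^ 4 * h ^ 6, hwS⟩) (Subtype.ext h2)
        (fun h0 => hne (by rw [show g ^ 4 * h ^ 6 = 1 from congrArg Subtype.val h0]; exact one_mem _))
      obtain ⟨k, hk⟩ := h4
      have hk' : z ^ k = g ^ 4 * h ^ 6 := congrArg Subtype.val hk
      exact hne (hk' ▸ Subgroup.zpow_mem K hzK k)
    · exact h2
  have hrel : Rel (g ^ 4) (h ^ 6) z := ⟨hx3, hy5, hz2, hzc _, hzc _, hxy2⟩
  refine hrel.equiv ?_ hc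
  rw [eq_top_iff]
  intro a _
  have hKH : K ≤ Subgroup.closure {g ^ 4, h ^ 6, z} := by
    intro k hk
    rcases hKel k hk with rfl | rfl
    · exact one_mem _
    · exact Subgroup.subset_closure (Or.inr (Or.inr rfl))
  have key : ∀ b : alternatingGroup (Fin 5), b ∈ Subgroup.closure {px, py} →
      ∃ c ∈ Subgroup.closure {g ^ 4, h ^ 6, z}, e5 (c : G ⧸ K) = b := by
    intro b hb
    induction hb using Subgroup.closure_induction with
    | mem s hs =>
      rcases hs with rfl | rfl
      · exact ⟨g ^ 4, Subgroup.subset_closure (Or.inl rfl), hxi⟩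
      · exact ⟨h ^ 6, Subgroup.subset_closure (Or.inr (Or.inl rfl)), hyi⟩
    | one => exact ⟨1, one_mem _, by rw [QuotientGroup.mk_one, map_one]⟩
    | mul s t _ _ hs ht =>
      obtain ⟨c, hc1, hc2⟩ := hs
      obtain ⟨d, hd1, hd2⟩ := ht
      exact ⟨c * d, mul_mem hc1 hd1, by rw [QuotientGroup.mk_mul, map_mul, hc2, hd2]⟩
    | inv s _ hs =>
      obtain ⟨c, hc1, hc2⟩ := hs
      exact ⟨c⁻¹, inv_mem hc1, by rw [QuotientGroup.mk_inv, map_inv, hc2]⟩
  obtain ⟨c, hc1, hc2⟩ := key (e5 (a : G ⧸ K)) (by rw [closure_p]; trivial)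
  have h1 := e5.injective hc2
  have h2 : c⁻¹ * a ∈ K := QuotientGroup.eq.1 h1
  have : a = c * (c⁻¹ * a) := by rw [mul_inv_cancel_left]
  rw [this]
  exact mul_mem hc1 (hKH h2)

end Cfsg.Agent.Lib.SL25
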