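import Cfsg.Agent.Lib.ConstFour4
import Cfsg.Agent.Lib.SL25
import Cfsg.Agent.Lib.H23Basic
import Cfsg.Agent.Lib.BrauerFowler
import Cfsg.Agent.Lib.InvertSylow
import Cfsg.Agent.Lib.ClSmall
import Cfsg.Prelude.Def_CaseTheorems

set_option autoImplicit false

/-!
# Groups with a normal subgroup of index sixty and a small centralizer (helper79)
-/

namespace Cfsg.Agent.Lib.ConstFour

open Cfsg

section

variable {G : Type*} [Group G]

/-- A fixed point free action of an involution is inversion. -/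
theorem inverts [Finite G] {L : Subgroup G} {x : G} (hL : ∀ n ∈ L, x * n * x⁻¹ ∈ L)
    (h2 : ∀ n ∈ L, (x * x) * n = n * (x * x)) (hfix : ∀ n ∈ L, x * n = n * x → n = 1) :
    ∀ n ∈ L, x * n * x⁻¹ = n⁻¹ := by
  let ψ : L → L := fun n => ⟨(n : G)⁻¹ * (x * n * x⁻¹), L.mul_mem (L.inv_mem n.2) (hL n n.2)⟩
  have hinj : Function.Injective ψ := by
    intro n m h
    have h1 : (n : G)⁻¹ * (x * n * x⁻¹) = (m : G)⁻¹ * (x * m * x⁻¹) := congrArg Subtype.val h
    have h3 : x * ((m : G) * (n : G)⁻¹) = ((m : G) * (n : G)⁻¹) * x := by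
      have h4 : (m : G) * ((n : G)⁻¹ * (x * n * x⁻¹)) = x * m * x⁻¹ := by rw [h1]; group
      have h5 : (m : G) * (n : G)⁻¹ * x = x * m * (n : G)⁻¹ := by
        calc (m : G) * (n : G)⁻¹ * x = ((m : G) * ((n : G)⁻¹ * (x * n * x⁻¹))) * (x * (n : G)⁻¹) := by group
          _ = (x * m * x⁻¹) * (x * (n : G)⁻¹) := by rw [h4]
          _ = x * m * (n : G)⁻¹ := by group
      rw [h5]; group
    have h6 := hfix _ (L.mul_mem m.2 (L.inv_mem n.2)) h3
    exact Subtype.ext (mul_inv_eq_one.mp h6).symm
  have hsurj : Function.Surjective ψ := Finite.surjective_of_injective hinj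
  intro l hl
  obtain ⟨⟨n, hn⟩, hnl⟩ := hsurj ⟨l, hl⟩
  have h7 : l = n⁻¹ * (x * n * x⁻¹) := (congrArg Subtype.val hnl).symm
  have h8 := h2 n hn
  rw [h7]
  have h9 : x * (n⁻¹ * (x * n * x⁻¹)) * x⁻¹ = (x * n⁻¹ * x⁻¹) * ((x * x) * n * (x * x)⁻¹) := by group
  rw [h9, h8]
  group

theorem exists_pair {T : Type*} [Group T] [Finite T] (S : Subgroup T) [S.Normal] (hidx : S.index = 4) :
    ∃ x y : T, x ∉ S ∧ y ∉ S ∧ x * y ∉ S := by
  classical
  have hex : ∃ x : T, x ∉ S := by
    by_contra hcon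
    push Not at hcon
    have : S = ⊤ := by rw [eq_top_iff]; intro x _; exact hcon x
    rw [this, Subgroup.index_top] at hidx
    omega
  obtain ⟨x, hx⟩ := hex
  by_contra hcon
  push Not at hcon
  have h1 : ∀ q : T ⧸ S, q = 1 ∨ q = (QuotientGroup.mk' S x)⁻¹ := by
    intro q
    obtain ⟨y, rfl⟩ := QuotientGroup.mk'_surjective S q
    by_cases hy : y ∈ S
    · left
      rw [QuotientGroup.mk'_apply, QuotientGroup.eq_one_iff]; exact hy
    · right
      have h2 := hcon x y hx hy
      rw [eq_inv_iff_mul_eq_one, ← map_mul, QuotientGroup.mk'_apply, QuotientGroup.eq_one_iff]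
      have h3 : y * x = x⁻¹ * (x * y) * x := by group
      rw [h3]
      have := ‹S.Normal›.conj_mem _ h2 x⁻¹
      rwa [inv_inv] at this
  have h2 : Nat.card (T ⧸ S) ≤ 2 := by
    have hs : Function.Surjective (fun b : Bool => if b then (1 : T ⧸ S) else (QuotientGroup.mk' S x)⁻¹) := by
      intro q
      rcases h1 q with h | h
      · exact ⟨true, by simp [h]⟩
      · exact ⟨false, by simp [h]⟩
    have := Nat.card_le_card_of_surjective _ hs
    simpa using this
  change S.index ≤ 2 at h2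
  omega

theorem not_solvable_of_perfect [Nontrivial G] (hperf : commutator G = ⊤) :
    ¬ Group.IsSolvable G := by
  intro h
  have := Group.IsSolvable.commutator_lt_top_of_nontrivial G
  rw [hperf] at this
  exact lt_irrefl _ this

theorem perfect_quotient (hperf : commutator G = ⊤) (N : Subgroup G) [N.Normal] :
    commutator (G ⧸ N) = ⊤ := by
  rw [eq_top_iff, ← Subgroup.map_top_of_surjective _ (QuotientGroup.mk'_surjective N), ← hperf,
    commutator_def, Subgroup.map_commutator]
  exact Subgroup.commutator_mono le_top le_top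

theorem card_centralizer_of_isConj [Finite G] {x y : G} (h : IsConj x y) :
    Nat.card (Subgroup.centralizer ({x} : Set G)) = Nat.card (Subgroup.centralizer ({y} : Set G)) := by
  obtain ⟨c, hc⟩ := isConj_iff.mp h
  have h1 : Subgroup.centralizer ({y} : Set G) =
      (Subgroup.centralizer ({x} : Set G)).map (MulAut.conj c).toMonoidHom := by
    ext g
    rw [Subgroup.mem_centralizer_singleton_iff, Subgroup.mem_map]
    constructor
    · intro hg
      refine ⟨c⁻¹ * g * c, ?_, by simp [mul_assoc]⟩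
      rw [Subgroup.mem_centralizer_singleton_iff]
      have hx : x = c⁻¹ * y * c := by rw [← hc]; group
      rw [hx]
      calc c⁻¹ * g * c * (c⁻¹ * y * c) = c⁻¹ * (g * y) * c := by group
        _ = c⁻¹ * (y * g) * c := by rw [hg]
        _ = _ := by group
    · rintro ⟨w, hw, rfl⟩
      rw [Subgroup.mem_centralizer_singleton_iff] at hw
      simp only [MulEquiv.coe_toMonoidHom, MulAut.conj_apply]
      rw [← hc]
      calc c * w * c⁻¹ * (c * x * c⁻¹) = c * (w * x) * c⁻¹ := by group
        _ = c * (x * w) * c⁻¹ := by rw [hw]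
        _ = _ := by group
  rw [h1]
  exact (Subgroup.card_map_of_injective (MulAut.conj c).injective).symm

end

section Main

variable {G : Type*} [Group G] [Finite G] (hperf : commutator G = ⊤) (N : Subgroup G) [hNn : N.Normal]
  (hcard : Nat.card G = 60 * Nat.card N)

omit hNn in
include hcard in
theorem card_quot : Nat.card (G ⧸ N) = 60 := by
  change N.index = 60
  have h1 := N.card_mul_index
  rw [hcard, mul_comm] at h1
  exact Nat.eq_of_mul_eq_mul_right Nat.card_pos h1

include hperf hcard in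
theorem simple_quot : IsSimpleGroup (G ⧸ N) := by
  have h1 := card_quot N hcard
  have : Nontrivial (G ⧸ N) := by
    rw [← Finite.one_lt_card_iff_nontrivial, h1]; norm_num
  exact SL25.isSimpleGroup_of_card_sixty h1 (not_solvable_of_perfect (perfect_quotient hperf N))

include hcard in
theorem card_image (P : Sylow 2 G) : Nat.card ((P : Subgroup G).map (QuotientGroup.mk' N)) = 4 := by
  have h1 := (P.mapSurjective (QuotientGroup.mk'_surjective N)).card_eq_multiplicity
  rw [card_quot N hcard] at h1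
  have h2 : (60 : ℕ).factorization 2 = 2 := by
    have h5 := (Nat.prime_two.pow_dvd_iff_le_factorization (n := 60) (k := 2) (by norm_num)).1 (by norm_num)
    have h6 : ¬ 3 ≤ (60 : ℕ).factorization 2 := fun h =>
      absurd ((Nat.prime_two.pow_dvd_iff_le_factorization (n := 60) (k := 3) (by norm_num)).2 h) (by norm_num)
    omega
  rw [h2] at h1
  exact h1

include hcard in
theorem index_inter (P : Sylow 2 G) : (N.subgroupOf (P : Subgroup G)).index = 4 := by
  have h1 := Subgroup.relIndex_ker (QuotientGroup.mk' N) (K := (P : Subgroup G))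
  rw [QuotientGroup.ker_mk', card_image N hcard P] at h1
  exact h1

include hperf hcard in
theorem sq_mem (P : Sylow 2 G) {x : G} (hx : x ∈ P) : x * x ∈ N := by
  have hs := simple_quot hperf N hcard
  have hc := card_quot N hcard
  set Pb := P.mapSurjective (QuotientGroup.mk'_surjective N) with hPb
  have h4 : Nat.card (Pb : Subgroup (G ⧸ N)) = 4 := card_image N hcard P
  have hnc : ¬ IsCyclic (Pb : Subgroup (G ⧸ N)) := by
    intro hcyc
    obtain ⟨H, hH⟩ := BrauerFowler.exists_index_two_of_cyclic (by rw [hc]; decide) Pb hcyc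
    have hHn := Subgroup.normal_of_index_eq_two hH
    rcases hHn.eq_bot_or_eq_top with h | h
    · rw [h, Subgroup.index_bot, hc] at hH
      omega
    · rw [h, Subgroup.index_top] at hH
      omega
  have hxb : QuotientGroup.mk' N x ∈ (Pb : Subgroup (G ⧸ N)) := ⟨x, hx, rfl⟩
  set y : (Pb : Subgroup (G ⧸ N)) := ⟨QuotientGroup.mk' N x, hxb⟩ with hy
  have h5 : orderOf y ∣ 4 := by rw [← h4]; exact orderOf_dvd_natCard y
  have h6 : orderOf y ≠ 4 := by
    intro h
    exact hnc (isCyclic_of_orderOf_eq_card y (by rw [h, h4]))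
  have h7 : orderOf y ∣ 2 := by
    have hm : orderOf y ∈ Nat.divisors 4 := Nat.mem_divisors.mpr ⟨h5, by norm_num⟩
    have hd : Nat.divisors 4 = {1, 2, 4} := by decide
    rw [hd] at hm
    simp only [Finset.mem_insert, Finset.mem_singleton] at hm
    rcases hm with h | h | h
    · rw [h]; norm_num
    · rw [h]
    · exact absurd h h6
  have h8 := orderOf_dvd_iff_pow_eq_one.mp h7
  have h9 : QuotientGroup.mk' N (x * x) = 1 := by
    have := congrArg Subtype.val h8
    rw [hy] at this
    simp only [sq] at this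
    rw [map_mul]
    exact this
  rw [QuotientGroup.mk'_apply, QuotientGroup.eq_one_iff] at h9
  exact h9

/-- The hypothesis on the group. -/
structure GHyp (u : G) : Prop where
  perf : commutator G = ⊤
  card : Nat.card G = 60 * Nat.card N
  hu : u ∉ N
  huu : u * u ∈ N
  cent : Nat.card (Subgroup.centralizer ({u} : Set G)) = 4
  conj : ∀ x : G, x ∉ N → x * x ∈ N → IsConj x u

variable {N} {u : G}

theorem GHyp.cent_le (h : GHyp N u) (P : Sylow 2 G) (x : (P : Subgroup G))
    (hx : x ∉ N.subgroupOf (P : Subgroup G)) :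
    Nat.card (Subgroup.centralizer ({x} : Set (P : Subgroup G))) ≤ 4 := by
  have h1 := h.conj (x : G) (fun hh => hx (Subgroup.mem_subgroupOf.mpr hh))
    (sq_mem h.perf N h.card P x.2)
  rw [← h.cent, ← card_centralizer_of_isConj h1]
  apply Nat.card_le_card_of_injective
    (fun y : Subgroup.centralizer ({x} : Set (P : Subgroup G)) =>
      (⟨((y : (P : Subgroup G)) : G), by
        have := y.2
        rw [Subgroup.mem_centralizer_singleton_iff] at this ⊢
        exact congrArg Subtype.val this⟩ : Subgroup.centralizer ({(x : G)} : Set G)))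
  intro a b hab
  exact Subtype.ext (Subtype.ext (congrArg (fun w : Subgroup.centralizer ({(x : G)} : Set G) => (w : G)) hab))

/-- elements of odd order in the centralizer of an element of `P \ N` are trivial. -/
theorem GHyp.fix (h : GHyp N u) (P : Sylow 2 G) {x : G} (hxP : x ∈ P) (hxN : x ∉ N) {n : G}
    (hn : Odd (orderOf n)) (hc : x * n = n * x) : n = 1 := by
  have h1 := h.conj x hxN (sq_mem h.perf N h.card P hxP)
  have h2 : Nat.card (Subgroup.centralizer ({x} : Set G)) = 4 := by
    rw [card_centralizer_of_isConj h1, h.cent]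
  have h3 : n ∈ Subgroup.centralizer ({x} : Set G) := by
    rw [Subgroup.mem_centralizer_singleton_iff]; exact hc.symm
  have h4 : orderOf n ∣ 4 := by
    rw [← h2, ← Subgroup.orderOf_mk n h3]
    exact orderOf_dvd_natCard _
  have h5 : (orderOf n).Coprime 4 := by
    rw [show (4 : ℕ) = 2 ^ 2 by norm_num]
    exact Nat.Coprime.pow_right 2 (Nat.coprime_two_right.mpr hn)
  rw [← orderOf_eq_one_iff]
  exact Nat.Coprime.eq_one_of_dvd h5 h4

omit [Finite G] in
theorem odd_of_mem {K : Subgroup G} (hK : Odd (Nat.card K)) {n : G} (hn : n ∈ K) :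
    Odd (orderOf n) := by
  have h1 : orderOf n ∣ Nat.card K := by
    rw [← Subgroup.orderOf_mk n hn]; exact orderOf_dvd_natCard _
  exact hK.of_dvd_nat h1

omit [Finite G] in
theorem eq_one_of_sq {n : G} (hn : Odd (orderOf n)) (h : n = n⁻¹) : n = 1 := by
  have h1 : orderOf n ∣ 2 := by
    apply orderOf_dvd_of_pow_eq_one
    rw [sq]
    nth_rewrite 2 [h]
    exact mul_inv_cancel n
  rw [← orderOf_eq_one_iff]
  exact Nat.Coprime.eq_one_of_dvd (Nat.coprime_two_right.mpr hn) h1

/-- A normal subgroup of odd order lies in `N`. -/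
theorem GHyp.le_N (h : GHyp N u) {K : Subgroup G} [hKn : K.Normal] (hK : Odd (Nat.card K)) : K ≤ N := by
  have hs := simple_quot h.perf N h.card
  have h1 : (K.map (QuotientGroup.mk' N)).Normal := hKn.map _ (QuotientGroup.mk'_surjective N)
  rcases h1.eq_bot_or_eq_top with h2 | h2
  · rwa [Subgroup.map_eq_bot_iff, QuotientGroup.ker_mk'] at h2
  · exfalso
    have h3 := Subgroup.card_map_dvd K (QuotientGroup.mk' N)
    rw [h2, Subgroup.card_top, card_quot N h.card] at h3
    have h4 := hK.of_dvd_nat h3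
    revert h4; decide

/-- If `P` meets `N` trivially then `N` is trivial. -/
theorem GHyp.bot (h : GHyp N u) (P : Sylow 2 G) (hS : N.subgroupOf (P : Subgroup G) = ⊥) : N = ⊥ := by
  have hidx := index_inter N h.card P
  have hP4 : Nat.card (P : Subgroup G) = 4 := by
    rw [← (N.subgroupOf (P : Subgroup G)).card_mul_index, hS, Subgroup.card_bot, one_mul, ← hS, hidx]
  have hNodd : Odd (Nat.card N) := by
    rw [← Nat.not_even_iff_odd, even_iff_two_dvd]
    intro h2
    have h3 : 2 ^ 3 ∣ Nat.card G := by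
      rw [h.card]
      obtain ⟨k, hk⟩ := h2
      rw [hk]
      exact ⟨15 * k, by ring⟩
    have h4 := P.pow_dvd_card_of_pow_dvd_card h3
    rw [hP4] at h4
    revert h4; decide
  obtain ⟨x, y, hx, hy, hxy⟩ := exists_pair (N.subgroupOf (P : Subgroup G)) hidx
  rw [Subgroup.mem_subgroupOf] at hx hy hxy
  have hinv : ∀ w : (P : Subgroup G), (w : G) ∉ N → ∀ n ∈ N, (w : G) * n * (w : G)⁻¹ = n⁻¹ := by
    intro w hw
    apply inverts
    · intro n hn; exact hNn.conj_mem n hn _
    · intro n hn
      have h5 : (w : G) * w = 1 := by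
        have h6 : w * w ∈ N.subgroupOf (P : Subgroup G) :=
          Subgroup.mem_subgroupOf.mpr (sq_mem h.perf N h.card P w.2)
        rw [hS, Subgroup.mem_bot] at h6
        exact congrArg Subtype.val h6
      rw [h5, one_mul, mul_one]
    · intro n hn hc
      exact h.fix P w.2 hw (odd_of_mem hNodd hn) hc
  rw [eq_bot_iff]
  intro n hn
  rw [Subgroup.mem_bot]
  apply eq_one_of_sq (odd_of_mem hNodd hn)
  have h7 := hinv (x * y) hxy n hn
  have h8 : ((x * y : (P : Subgroup G)) : G) * n * ((x * y : (P : Subgroup G)) : G)⁻¹ =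
      (x : G) * ((y : G) * n * (y : G)⁻¹) * (x : G)⁻¹ := by
    rw [Subgroup.coe_mul]; group
  rw [h8, hinv y hy n hn, hinv x hx _ (N.inv_mem hn), inv_inv] at h7
  exact h7

theorem GHyp.caseA (h : GHyp N u) (hN : N = ⊥) : IsMulCommutative ↥(oddCore G) ∧
    Nonempty (G ⧸ oddCore G ≃* Matrix.ProjectiveSpecialLinearGroup (Fin 2) (ZMod 5)) ∧
    orderOf u = 2 := by
  have h60 : Nat.card G = 60 := by rw [h.card, hN, Subgroup.card_bot]
  have : Nontrivial G := by rw [← Finite.one_lt_card_iff_nontrivial, h60]; norm_num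
  have hs : IsSimpleGroup G := SL25.isSimpleGroup_of_card_sixty h60 (not_solvable_of_perfect h.perf)
  have hO : oddCore G = ⊥ := by
    rw [eq_bot_iff, ← hN]
    exact h.le_N H23Basic.odd_card_oddCore
  refine ⟨?_, ?_, ?_⟩
  · rw [hO]
    exact ⟨⟨fun a b => Subsingleton.elim _ _⟩⟩
  · obtain ⟨e1⟩ := ClSmall.equiv_alternating_five h60
    have : Fact (Nat.Prime 5) := ⟨by norm_num⟩
    obtain ⟨e2⟩ := ClSmall.psl2_five (F := ZMod 5) (by simp)
    exact ⟨((QuotientGroup.quotientMulEquivOfEq hO).trans QuotientGroup.quotientBot).trans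
      (e1.trans e2.symm)⟩
  · have h1 : u * u = 1 := by
      have := h.huu
      rwa [hN, Subgroup.mem_bot] at this
    have h2 : u ≠ 1 := by
      rintro rfl
      exact h.hu N.one_mem
    exact orderOf_eq_prime (by rw [sq]; exact h1) h2

omit [Finite G] in
theorem orderOf_eq_of_isConj {x y : G} (h : IsConj x y) : orderOf x = orderOf y := by
  obtain ⟨c, hc⟩ := isConj_iff.mp h
  rw [← hc]
  exact (MulEquiv.orderOf_eq (MulAut.conj c) x).symm

theorem GHyp.sylow (h : GHyp N u) (hN : N ≠ ⊥) (P : Sylow 2 G) :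
    orderOf u = 4 ∧ Nonempty ((P : Subgroup G) ≃* QuaternionGroup 2) ∧
    Nat.card (N.subgroupOf (P : Subgroup G)) = 2 ∧ Nat.card (P : Subgroup G) = 8 ∧
    ∃ z : G, z ∈ N ∧ z ∈ P ∧ z ≠ 1 ∧ ∀ x ∈ P, x ∉ N → x * x = z := by
  have hidx := index_inter N h.card P
  have hS : N.subgroupOf (P : Subgroup G) ≠ ⊥ := fun hh => hN (h.bot P hh)
  have h1 := two_group_quat P.isPGroup' (N.subgroupOf (P : Subgroup G)) hidx (h.cent_le P) hS
    (fun x _ => Subgroup.mem_subgroupOf.mpr (sq_mem h.perf N h.card P x.2)) (k := orderOf u) (by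
      intro x hx
      rw [← Subgroup.orderOf_coe]
      exact orderOf_eq_of_isConj (h.conj x (fun hh => hx (Subgroup.mem_subgroupOf.mpr hh))
        (sq_mem h.perf N h.card P x.2)))
  have h2 := two_group P.isPGroup' (N.subgroupOf (P : Subgroup G)) hidx (h.cent_le P) hS
  obtain ⟨hk, hQ, hz⟩ := h1
  have hex : ∃ z ∈ N.subgroupOf (P : Subgroup G), z ≠ 1 := by
    by_contra hcon
    push Not at hcon
    exact hS (by rw [eq_bot_iff]; intro z hz; exact Subgroup.mem_bot.mpr (hcon z hz))
  obtain ⟨z, hzS, hz1⟩ := hex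
  refine ⟨hk, hQ, h2, ?_, z, Subgroup.mem_subgroupOf.mp hzS, z.2, fun hh => hz1 (Subtype.ext hh), ?_⟩
  · rw [← (N.subgroupOf (P : Subgroup G)).card_mul_index, h2, hidx]
  · intro x hx hxN
    exact congrArg Subtype.val (hz z hzS hz1 ⟨x, hx⟩ (fun hh => hxN (Subgroup.mem_subgroupOf.mp hh)))

/-- The index of the odd core in `N` is two. -/
theorem GHyp.card_core (h : GHyp N u) (hN : N ≠ ⊥) : Nat.card N = 2 * Nat.card (oddCore G) := by
  obtain ⟨P⟩ : Nonempty (Sylow 2 G) := inferInstance
  obtain ⟨-, -, -, hP8, z, hzN, hzP, hz1, hz⟩ := h.sylow hN P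
  have hidx := index_inter N h.card P
  obtain ⟨x, -, hx, -, -⟩ := exists_pair (N.subgroupOf (P : Subgroup G)) hidx
  have hzz : z * z = 1 := by
    have h1 := hz x x.2 (fun hh => hx (Subgroup.mem_subgroupOf.mpr hh))
    have h2 : orderOf (x : G) = 4 := by
      rw [orderOf_eq_of_isConj (h.conj x (fun hh => hx (Subgroup.mem_subgroupOf.mpr hh))
        (sq_mem h.perf N h.card P x.2)), (h.sylow hN P).1]
    have h3 := pow_orderOf_eq_one (x : G)
    rw [h2] at h3
    rw [← h1]
    have : (x : G) * x * (x * x) = (x : G) ^ 4 := by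
      rw [← sq, ← sq, ← pow_mul]
    rw [this, h3]
  have hz2 : orderOf z = 2 := orderOf_eq_prime (by rw [sq]; exact hzz) hz1
  have h2N : 2 ∣ Nat.card N := by
    rw [← hz2, ← Subgroup.orderOf_mk z hzN]; exact orderOf_dvd_natCard _
  have h4N : ¬ 4 ∣ Nat.card N := by
    rintro ⟨k, hk⟩
    have h3 : 2 ^ 4 ∣ Nat.card G := by
      rw [h.card, hk]
      exact ⟨15 * k, by ring⟩
    have h4 := P.pow_dvd_card_of_pow_dvd_card h3
    rw [hP8] at h4
    revert h4; decide
  obtain ⟨H0, hH0⟩ := BrauerFowler.exists_index_two_of_two_mod_four (G := N) (by omega)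
  have hH0n := Subgroup.normal_of_index_eq_two hH0
  have hcH : Nat.card H0 * 2 = Nat.card N := by rw [← hH0]; exact H0.card_mul_index
  have hH0odd : Odd (Nat.card H0) := by
    rw [← Nat.not_even_iff_odd, even_iff_two_dvd]
    rintro ⟨k, hk⟩
    exact h4N ⟨k, by rw [← hcH, hk]; ring⟩
  set K₀ : Subgroup G := H0.map N.subtype with hK₀
  have hcK₀ : Nat.card K₀ = Nat.card H0 := Subgroup.card_map_of_injective N.subtype_injective
  have hmem : ∀ n : G, n ∈ K₀ ↔ n ∈ N ∧ Odd (orderOf n) := by
    intro n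
    constructor
    · rintro ⟨m, hm, rfl⟩
      refine ⟨m.2, ?_⟩
      have h5 := odd_of_mem (K := K₀) (by rw [hcK₀]; exact hH0odd) (n := (m : G)) ⟨m, hm, rfl⟩
      exact h5
    · rintro ⟨hn, ho⟩
      refine ⟨⟨n, hn⟩, ?_, rfl⟩
      have h6 : (⟨n, hn⟩ : N) ^ 2 ∈ H0 := by
        rw [sq]; exact Subgroup.mul_self_mem_of_index_two hH0 _
      obtain ⟨k, hk⟩ := ho
      have h7 : (⟨n, hn⟩ : N) = ((⟨n, hn⟩ : N) ^ 2) ^ (k + 1) := by
        apply Subtype.ext
        change n = (n ^ 2) ^ (k + 1)
        rw [← pow_mul]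
        have h8 : 2 * (k + 1) = orderOf n + 1 := by rw [hk]; ring
        rw [h8, pow_succ, pow_orderOf_eq_one, one_mul]
      rw [SetLike.mem_coe, h7]
      exact H0.pow_mem h6 _
  have hK₀n : K₀.Normal := by
    refine ⟨fun n hn g => ?_⟩
    rw [hmem] at hn ⊢
    refine ⟨hNn.conj_mem n hn.1 g, ?_⟩
    rw [← orderOf_eq_of_isConj (isConj_iff.mpr ⟨g, rfl⟩)]
    exact hn.2
  have hle : K₀ ≤ oddCore G := H23Basic.le_pPrimeCore hK₀n (by
    rw [Nat.coprime_two_right, hcK₀]; exact hH0odd)
  have hKodd : Odd (Nat.card (oddCore G)) := H23Basic.odd_card_oddCore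
  have hKN : oddCore G ≤ N := h.le_N hKodd
  have h9 : Nat.card (oddCore G) ∣ Nat.card H0 * 2 := by rw [hcH]; exact Subgroup.card_dvd_of_le hKN
  have h10 : Nat.card (oddCore G) ∣ Nat.card H0 :=
    Nat.Coprime.dvd_of_dvd_mul_right (Nat.coprime_two_right.mpr hKodd) h9
  have h11 : Nat.card K₀ ∣ Nat.card (oddCore G) := Subgroup.card_dvd_of_le hle
  rw [hcK₀] at h11
  have h12 := Nat.dvd_antisymm h10 h11
  rw [h12, ← hcH]; ring

theorem GHyp.caseB (h : GHyp N u) (hN : N ≠ ⊥) : IsMulCommutative ↥(oddCore G) ∧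
    Nonempty (G ⧸ oddCore G ≃* Matrix.SpecialLinearGroup (Fin 2) (ZMod 5)) ∧
    orderOf u = 4 := by
  obtain ⟨P⟩ : Nonempty (Sylow 2 G) := inferInstance
  obtain ⟨hu4, -, -, hP8, z, hzN, hzP, hz1, hz⟩ := h.sylow hN P
  have hidx := index_inter N h.card P
  obtain ⟨x, y, hx, hy, hxy⟩ := exists_pair (N.subgroupOf (P : Subgroup G)) hidx
  rw [Subgroup.mem_subgroupOf] at hx hy hxy
  have hKodd : Odd (Nat.card (oddCore G)) := H23Basic.odd_card_oddCore
  have hKn : (oddCore G).Normal := inferInstance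
  set K := oddCore G with hK
  have hz2 : z * z = 1 := by
    have h2 : orderOf (x : G) = 4 := by
      rw [orderOf_eq_of_isConj (h.conj x hx (sq_mem h.perf N h.card P x.2)), hu4]
    have h3 := pow_orderOf_eq_one (x : G)
    rw [h2] at h3
    rw [← hz x x.2 hx]
    have : (x : G) * x * (x * x) = (x : G) ^ 4 := by
      rw [← sq, ← sq, ← pow_mul]
    rw [this, h3]
  set L : Subgroup G := K ⊓ Subgroup.centralizer ({z} : Set G) with hL
  have hinv : ∀ w : (P : Subgroup G), (w : G) ∉ N → ∀ n ∈ L, (w : G) * n * (w : G)⁻¹ = n⁻¹ := by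
    intro w hw
    have hwz := hz w w.2 hw
    have hcomm : (w : G) * z = z * w := by rw [← hwz, mul_assoc]
    apply inverts
    · intro n hn
      refine Subgroup.mem_inf.mpr ⟨hKn.conj_mem n (Subgroup.mem_inf.mp hn).1 _, ?_⟩
      have h1 := (Subgroup.mem_inf.mp hn).2
      rw [Subgroup.mem_centralizer_singleton_iff] at h1 ⊢
      have h2 : (w : G)⁻¹ * z = z * (w : G)⁻¹ := by
        rw [inv_mul_eq_iff_eq_mul, ← mul_assoc, hcomm, mul_inv_cancel_right]
      calc (w : G) * n * (w : G)⁻¹ * z = (w : G) * n * ((w : G)⁻¹ * z) := by group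
        _ = (w : G) * (n * z) * (w : G)⁻¹ := by rw [h2]; group
        _ = ((w : G) * z) * n * (w : G)⁻¹ := by rw [h1]; group
        _ = z * ((w : G) * n * (w : G)⁻¹) := by rw [hcomm]; group
    · intro n hn
      have h1 := (Subgroup.mem_inf.mp hn).2
      rw [Subgroup.mem_centralizer_singleton_iff] at h1
      rw [hwz]; exact h1.symm
    · intro n hn hc
      exact h.fix P w.2 hw (odd_of_mem hKodd (Subgroup.mem_inf.mp hn).1) hc
  have hLbot : ∀ n ∈ L, n = 1 := by
    intro n hn
    apply eq_one_of_sq (odd_of_mem hKodd (Subgroup.mem_inf.mp hn).1)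
    have h7 := hinv (x * y) hxy n hn
    have h8 : ((x * y : (P : Subgroup G)) : G) * n * ((x * y : (P : Subgroup G)) : G)⁻¹ =
        (x : G) * ((y : G) * n * (y : G)⁻¹) * (x : G)⁻¹ := by
      rw [Subgroup.coe_mul]; group
    rw [h8, hinv y hy n hn, hinv x hx _ (L.inv_mem hn), inv_inv] at h7
    exact h7
  have hzinv : ∀ n ∈ K, z * n * z⁻¹ = n⁻¹ := by
    apply inverts
    · intro n hn; exact hKn.conj_mem n hn _
    · intro n _; rw [hz2, one_mul, mul_one]
    · intro n hn hc
      apply hLbot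
      refine Subgroup.mem_inf.mpr ⟨hn, ?_⟩
      rw [Subgroup.mem_centralizer_singleton_iff]
      exact hc.symm
  refine ⟨InvertSylow.comm_of_inverted hzinv, ?_, hu4⟩
  -- the quotient
  have h120 : Nat.card (G ⧸ K) = 120 := by
    change K.index = 120
    have h1 := K.card_mul_index
    rw [h.card, h.card_core hN, ← hK] at h1
    have h2 : Nat.card K * K.index = Nat.card K * 120 := by rw [h1]; ring
    exact Nat.eq_of_mul_eq_mul_left Nat.card_pos h2
  have hnt : Nontrivial (G ⧸ K) := by
    rw [← Finite.one_lt_card_iff_nontrivial, h120]; norm_num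
  have hns := not_solvable_of_perfect (perfect_quotient h.perf K)
  obtain ⟨e1⟩ := SL25.recognize h120 hns (by
    intro R
    obtain ⟨P', hP'⟩ := Sylow.mapSurjective_surjective (QuotientGroup.mk'_surjective K) 2 R
    obtain ⟨-, ⟨e⟩, -⟩ := h.sylow hN P'
    let f : (P' : Subgroup G) →* G ⧸ K := (QuotientGroup.mk' K).comp (P' : Subgroup G).subtype
    have hf : Function.Injective f := by
      rw [injective_iff_map_eq_one]
      intro w hw
      have h1 : (w : G) ∈ K := by
        rw [← QuotientGroup.eq_one_iff]; exact hw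
      have h2 := odd_of_mem hKodd h1
      have h3 : IsPGroup 2 (P' : Subgroup G) := P'.isPGroup'
      obtain ⟨k, hk⟩ := h3 w
      have h4 : orderOf (w : G) ∣ 2 ^ k := by
        apply orderOf_dvd_of_pow_eq_one
        exact congrArg Subtype.val hk
      have h5 : orderOf (w : G) = 1 :=
        Nat.Coprime.eq_one_of_dvd (Nat.Coprime.pow_right k (Nat.coprime_two_right.mpr h2)) h4
      rw [orderOf_eq_one_iff] at h5
      exact Subtype.ext h5
    have hr : f.range = (R : Subgroup (G ⧸ K)) := by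
      rw [← hP', MonoidHom.range_comp, Subgroup.range_subtype]
      rfl
    exact ⟨((MulEquiv.subgroupCongr hr).symm.trans (MonoidHom.ofInjective hf).symm).trans e⟩)
  obtain ⟨e2⟩ := SL25.presEquiv
  exact ⟨e1.symm.trans e2⟩

end Main

end Cfsg.Agent.Lib.ConstFour
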