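import Cfsg.Agent.Lib.CanonExt
import Cfsg.Agent.Lib.CharDegrees

set_option autoImplicit false
set_option linter.unusedSectionVars false

/-!
# `χ(1)/ϑ(1)` divides `[G:N]` (helper78)
-/

namespace Cfsg.Agent.Lib.DegRatio

open scoped ComplexConjugate
open Cfsg Cfsg.Agent.Lib.CharBasic Cfsg.Agent.Lib.Clifford Cfsg.Agent.Lib.CliffordCorr
open Cfsg.Agent.Lib.CanonExt Cfsg.Agent.Lib.ProjRep Cfsg.Agent.Lib.ScalarDeg
open Cfsg.Agent.Lib.CliffordExt

universe u

variable {G : Type u} [Group G] {N : Subgroup G} [hN : N.Normal] {d : ℕ}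

/-- The finite group of pairs of `Γ` with `det(T)^M = 1`. -/
def Gfin (σ : N →* GLd d) (M : ℕ) : Subgroup (Gam σ) where
  carrier := {x | detU d (x : G × GLd d).2 ^ M = 1}
  one_mem' := by simp
  mul_mem' := by
    intro a b ha hb
    change detU d ((a : G × GLd d).2 * (b : G × GLd d).2) ^ M = 1
    rw [map_mul, mul_pow]
    rw [show detU d (a : G × GLd d).2 ^ M = 1 from ha,
      show detU d (b : G × GLd d).2 ^ M = 1 from hb, one_mul]
  inv_mem' := by
    intro a ha
    change detU d ((a : G × GLd d).2⁻¹) ^ M = 1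
    rw [map_inv, inv_pow, show detU d (a : G × GLd d).2 ^ M = 1 from ha, inv_one]

theorem mem_Gfin {σ : N →* GLd d} {M : ℕ} {x : Gam σ} :
    x ∈ Gfin σ M ↔ detU d (x : G × GLd d).2 ^ M = 1 := Iff.rfl

def pr (σ : N →* GLd d) (M : ℕ) : Gfin σ M →* G := (proj σ).comp (Gfin σ M).subtype

theorem pr_surjective {σ : N →* GLd d} {M : ℕ} (hM : M ≠ 0) (hd : d ≠ 0)
    (hex : ∀ g : G, ∃ T : GLd d, (g, T) ∈ Gam σ) : Function.Surjective (pr σ M) := by
  intro g
  obtain ⟨T, hT⟩ := hex g
  obtain ⟨z0, hz0⟩ := IsAlgClosed.exists_pow_nat_eq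
    (((detU d T)⁻¹ : ℂˣ) : ℂ) (Nat.pos_of_ne_zero hd)
  have hz00 : z0 ≠ 0 := by
    rintro rfl
    rw [zero_pow hd] at hz0
    exact (Units.ne_zero _) hz0.symm
  set z : ℂˣ := Units.mk0 z0 hz00 with hz
  have hzm : z ^ d = (detU d T)⁻¹ := Units.ext hz0
  refine ⟨⟨⟨(g, sc d z * T), ?_⟩, ?_⟩, rfl⟩
  · have := (Gam σ).mul_mem (sc_mem_Gam σ z) hT
    simpa using this
  · rw [mem_Gfin]
    change detU d (sc d z * T) ^ M = 1
    rw [map_mul, detU_sc, hzm, inv_mul_cancel, one_pow]

theorem finite_Gfin [Finite G] {σ : N →* GLd d}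
    (hirr : Representation.IsIrreducible
      ((Units.coeHom _).comp σ : Representation ℂ N (Fin d → ℂ))) {M : ℕ} (hM : M ≠ 0) :
    Finite (Gfin σ M) := by
  have hd := d_ne_zero hirr
  have hne : NeZero (d * M) := ⟨Nat.mul_ne_zero hd hM⟩
  have hker : Finite (pr σ M).ker := by
    have hmem : ∀ c : rootsOfUnity (d * M) ℂ,
        (⟨((1 : G), sc d c), sc_mem_Gam σ c⟩ : Gam σ) ∈ Gfin σ M := by
      intro c
      rw [mem_Gfin]
      change detU d (sc d c) ^ M = 1
      rw [detU_sc, ← pow_mul]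
      exact (mem_rootsOfUnity _ _).mp c.2
    refine Finite.of_surjective (fun c : rootsOfUnity (d * M) ℂ =>
      (⟨⟨⟨((1 : G), sc d c), sc_mem_Gam σ c⟩, hmem c⟩, rfl⟩ : (pr σ M).ker)) ?_
    rintro ⟨⟨⟨⟨g, T⟩, hx⟩, hdet⟩, hk⟩
    have hg : g = 1 := hk
    subst hg
    obtain ⟨c, hc⟩ := Gam_unique hirr (Subgroup.one_mem (Gam σ)) hx
    change T = sc d c * 1 at hc
    rw [mul_one] at hc
    subst hc
    have hdet' : detU d (sc d c) ^ M = 1 := hdet
    rw [detU_sc, ← pow_mul] at hdet'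
    refine ⟨⟨c, (mem_rootsOfUnity _ _).mpr hdet'⟩, rfl⟩
  have hrange : Finite (pr σ M).range := inferInstance
  exact ((pr σ M).finite_iff_finite_ker_range).mpr ⟨hker, hrange⟩

/-- Invariant case: the ramification index divides `[G : N]`. -/
theorem ramification_dvd_index [Fintype G] [Fintype N] {ϑ : N → ℂ} (hϑ : IsIrrCharacter N ϑ)
    (hinv : ∀ g : G, cj N g ϑ = ϑ) {χ : G → ℂ} (hχ : IsIrrCharacter G χ) {e : ℕ}
    (he : (fun n : N => χ n) = (e : ℂ) • ϑ) (he0 : e ≠ 0) : e ∣ N.index := by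
  obtain ⟨d, σ, hirr, rfl⟩ := exists_sigma hϑ
  have hd := d_ne_zero hirr
  have hex := exists_mem_Gam hirr hinv
  set M := Nat.card N with hMdef
  have hM : M ≠ 0 := Nat.card_pos.ne'
  have hfin : Finite (Gfin σ M) := finite_Gfin hirr hM
  have := Fintype.ofFinite (Gfin σ M)
  have hsurj := pr_surjective hM hd hex
  -- the graph
  have hmem : ∀ n : N, (⟨((n : G), σ n), hat_mem_Gam σ n⟩ : Gam σ) ∈ Gfin σ M := by
    intro n
    rw [mem_Gfin]
    change detU d (σ n) ^ M = 1
    rw [← map_pow, ← map_pow, hMdef, pow_card_eq_one', map_one, map_one]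
  let ι : N →* Gfin σ M :=
    { toFun := fun n => ⟨⟨((n : G), σ n), hat_mem_Gam σ n⟩, hmem n⟩
      map_one' := by
        apply Subtype.ext; apply Subtype.ext
        exact map_one (hat σ)
      map_mul' := by
        intro a b
        apply Subtype.ext; apply Subtype.ext
        exact map_mul (hat σ) a b }
  have hιinj : Function.Injective ι := by
    intro a b h
    have h1 := congrArg (fun x : Gfin σ M => ((x : Gam σ) : G × GLd d).1) h
    exact Subtype.ext h1
  have hnorm : ι.range.Normal := by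
    constructor
    rintro _ ⟨n, rfl⟩ x
    refine ⟨MulAut.conjNormal ((x : Gam σ) : G × GLd d).1 n, ?_⟩
    rw [eq_mul_inv_iff_mul_eq]
    apply Subtype.ext; apply Subtype.ext
    exact (conj_hat (x : Gam σ).2 n).symm
  -- the natural character
  let R : Representation ℂ (Gfin σ M) (Fin d → ℂ) :=
    (Units.coeHom _).comp (((MonoidHom.snd G (GLd d)).comp (Gam σ).subtype).comp
      (Gfin σ M).subtype)
  let eN : N ≃* ι.range := MonoidHom.ofInjective hιinj
  have := Fintype.ofFinite ι.range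
  -- `R` restricted to the graph
  have hRN : (fun x : ι.range => R.character x) = fun x : ι.range =>
      (Representation.character
        ((Units.coeHom _).comp σ : Representation ℂ N (Fin d → ℂ))) (eN.symm x) := by
    funext x
    obtain ⟨n, rfl⟩ := eN.surjective x
    rw [MulEquiv.symm_apply_apply]
    rfl
  have hϑ' : IsIrrCharacter ι.range (fun x : ι.range => R.character x) := by
    rw [hRN]
    exact hϑ.comp_surjective (eN.symm : ι.range ≃* N).toMonoidHom eN.symm.surjective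
  have hR : IsIrrCharacter (Gfin σ M) R.character := (isCharacter_of_rep R).isIrr_of_restrict _ hϑ'
  have hχ' : IsIrrCharacter (Gfin σ M) (fun x => χ (pr σ M x)) := hχ.comp_surjective _ hsurj
  have hres : (fun x : ι.range => χ (pr σ M x)) = (e : ℂ) • fun x : ι.range => R.character x := by
    rw [hRN]
    funext x
    obtain ⟨n, rfl⟩ := eN.surjective x
    have h1 := congrFun he n
    simp only [Pi.smul_apply] at h1 ⊢
    rw [MulEquiv.symm_apply_apply, ← h1]
    rfl
  obtain ⟨β, hβ, hβc, hβ'⟩ := exists_gallagher (N := ι.range) hϑ' hR (fun x => rfl) hχ' (by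
    rw [hres, classInner_smul_left, hϑ'.classInner_self, mul_one]
    exact_mod_cast he0)
  have hβ1 : β 1 = e := by
    have h1 := congrFun hβ' 1
    have h2 := congrFun hres 1
    simp only [Pi.smul_apply, Pi.mul_apply, smul_eq_mul] at h1 h2
    rw [OneMemClass.coe_one] at h2
    rw [h1] at h2
    exact mul_right_cancel₀ hR.one_ne_zero h2
  obtain ⟨m, S, hS, hSβ⟩ := hβ
  have := hS
  have hme : m = e := by
    rw [← hSβ, Representation.char_one] at hβ1
    simpa using hβ1
  have hdvd := CharDegrees.finrank_dvd_index_of_scalar S (N.comap (pr σ M)) (by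
    intro a ha
    -- `a = n̂ · (1, c)`
    obtain ⟨c, hc⟩ := Gam_unique hirr (hat_mem_Gam σ ⟨_, ha⟩)
      (show (((⟨_, ha⟩ : N) : G), ((a : Gam σ) : G × GLd d).2) ∈ Gam σ from (a : Gam σ).2)
    -- the central element
    set z : Gfin σ M := (ι ⟨_, ha⟩)⁻¹ * a with hz
    have hz1 : ((z : Gam σ) : G × GLd d) = (1, sc d c) := by
      apply Prod.ext
      · change (pr σ M a)⁻¹ * pr σ M a = 1
        exact inv_mul_cancel _
      · change (σ ⟨_, ha⟩)⁻¹ * ((a : Gam σ) : G × GLd d).2 = sc d c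
        rw [hc, sc_comm, inv_mul_cancel_left]
    have hzc : ∀ x : Gfin σ M, z * x = x * z := by
      intro x
      apply Subtype.ext; apply Subtype.ext
      change ((z : Gam σ) : G × GLd d) * ((x : Gam σ) : G × GLd d) =
        ((x : Gam σ) : G × GLd d) * ((z : Gam σ) : G × GLd d)
      rw [hz1]
      apply Prod.ext
      · simp
      · exact sc_comm c _
    obtain ⟨w, hw⟩ := CharCentral.exists_scalar_of_commute S (S z) (by
      intro g v
      rw [← Module.End.mul_apply, ← Module.End.mul_apply, ← map_mul, ← map_mul, hzc])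
    refine ⟨w, ?_⟩
    have h3 : a = ι ⟨_, ha⟩ * z := by rw [hz]; group
    have h4 : S (ι ⟨_, ha⟩) = 1 := LinearMap.ext fun v =>
      acts_trivially_of_character_eq S ι.range (fun x hx => by
        rw [hSβ]; exact hβc ⟨x, hx⟩) _ ⟨_, rfl⟩ v
    rw [h3, map_mul, h4, one_mul, hw])
  rw [Subgroup.index_comap_of_surjective N hsurj] at hdvd
  simpa [hme] using hdvd

/-- `χ(1)/ϑ(1)` divides `[G : N]`. -/
theorem degree_ratio [Fintype G] [Fintype N] {χ : G → ℂ} (hχ : IsIrrCharacter G χ)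
    {ϑ : N → ℂ} (hϑ : IsIrrCharacter N ϑ) (hcon : classInner (fun n : N => χ n) ϑ ≠ 0)
    {c d : ℕ} (hc : χ 1 = c) (hd : ϑ 1 = d) : ∃ f : ℕ, c = f * d ∧ f ∣ N.index := by
  classical
  set T := inertia N ϑ with hTdef
  have hNT : N ≤ T := le_inertia hϑ.isClassFunction
  have hT : ∀ g : G, g ∈ T ↔ cj N g ϑ = ϑ := fun g => mem_inertia
  have := Fintype.ofFinite T
  obtain ⟨ψ, hψ, hind, hmult⟩ := corr_surj hNT hϑ hT hχ hcon
  set N' := N.subgroupOf T with hN'
  let eN : N' ≃* N := Subgroup.subgroupOfEquivOfLe hNT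
  have := Fintype.ofFinite N'
  set ϑ' : N' → ℂ := fun x => ϑ (eN x) with hϑ'def
  have hϑ' : IsIrrCharacter N' ϑ' := hϑ.comp_surjective eN.toMonoidHom eN.surjective
  have hinv' : ∀ t : T, cj N' t ϑ' = ϑ' := by
    intro t
    funext x
    have h1 := congrFun ((hT t).mp t.2) (eN x)
    rw [cj_apply] at h1 ⊢
    exact h1
  have hm : classInner (fun x : N' => ψ x) ϑ' = classInner (resTo N T hNT ψ) ϑ := by
    rw [← classInner_comp_equiv eN]
    rfl
  have hne : classInner (fun x : N' => ψ x) ϑ' ≠ 0 := by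
    rw [hm, hmult]; exact hcon
  have hres := res_eq_smul_of_invariant hψ hϑ' hinv' hne
  obtain ⟨e, he⟩ := (hψ.isCharacter.restrict N').classInner_nat hϑ'.isCharacter
  rw [he] at hres hne
  have he0 : e ≠ 0 := by
    rintro rfl
    exact hne (by simp)
  have hdvd := ramification_dvd_index hϑ' hinv' hψ hres he0
  have hψ1 : ψ 1 = e * d := by
    have h1 := congrFun hres 1
    simp only [Pi.smul_apply, smul_eq_mul, hϑ'def, map_one] at h1
    rw [OneMemClass.coe_one, hd] at h1
    exact h1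
  have hχ1 : χ 1 = T.index * (e * d) := by
    rw [← hind, IndFun.indFun_one, hψ1]
  refine ⟨T.index * e, ?_, ?_⟩
  · rw [hc] at hχ1
    have : c = T.index * (e * d) := by exact_mod_cast hχ1
    rw [this, mul_assoc]
  · have h1 : N'.index = N.relIndex T := rfl
    rw [h1] at hdvd
    have h2 := Subgroup.relIndex_mul_index hNT
    rw [← h2, mul_comm (N.relIndex T)]
    exact Nat.mul_dvd_mul_left _ hdvd

end Cfsg.Agent.Lib.DegRatio
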