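import Mathlib
import Cfsg.Prelude.Def_Transfer
import Cfsg.Agent.Lib.PNilp
import Cfsg.Agent.Lib.GroupUtil
import Cfsg.Agent.Lib.Transfer
import Cfsg.Agent.Lib.FusionControl
import Cfsg.Agent.Lib.AbelianCoprime
import Cfsg.Agent.Lib.TransferApps

/-!
# More applications of transfer (helper2): small abelian Sylow subgroups, perfect central
extensions, the Thompson transfer lemma.
-/

set_option autoImplicit false

open Subgroup
open scoped Pointwise commutatorElement

namespace Cfsg.Agent.Lib.TransferApps2

open Cfsg.Agent.Lib.PNilp Cfsg.Agent.Lib.GroupUtil Cfsg.Agent.Lib.Transfer Cfsg.Agent.Lib.FusionControl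
open Cfsg.Agent.Lib.AbelianCoprime Cfsg.Agent.Lib.TransferApps

variable {G : Type*} [Group G]

/-- the quotient by a normal maximal subgroup is simple. -/
theorem isSimpleGroup_quotient_of_isCoatom (M : Subgroup G) [M.Normal] (hM : IsCoatom M) :
    IsSimpleGroup (G ⧸ M) := by
  have hnt : Nontrivial (G ⧸ M) := by
    rw [QuotientGroup.nontrivial_iff]
    exact hM.1
  refine ⟨fun N _ => ?_⟩
  have hle : M ≤ N.comap (QuotientGroup.mk' M) := by
    intro x hx
    rw [Subgroup.mem_comap, QuotientGroup.mk'_apply, (QuotientGroup.eq_one_iff x).mpr hx]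
    exact N.one_mem
  rcases hM.le_iff.mp hle with h | h
  · right
    rw [eq_top_iff]
    intro y _
    obtain ⟨x, rfl⟩ := QuotientGroup.mk'_surjective M y
    have : x ∈ N.comap (QuotientGroup.mk' M) := by rw [h]; trivial
    exact this
  · left
    rw [eq_bot_iff]
    intro y hy
    obtain ⟨x, rfl⟩ := QuotientGroup.mk'_surjective M y
    have : x ∈ N.comap (QuotientGroup.mk' M) := hy
    rw [h] at this
    rw [Subgroup.mem_bot]
    exact (QuotientGroup.eq_one_iff x).mpr this

/-- fixed subgroup of a group of automorphisms -/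
def fixedSubgroup {T : Type*} [Group T] (R : Subgroup (MulAut T)) : Subgroup T where
  carrier := {t | ∀ a ∈ R, a t = t}
  one_mem' := fun a _ => map_one a
  mul_mem' := fun hx hy a ha => by rw [map_mul, hx a ha, hy a ha]
  inv_mem' := fun hx a ha => by rw [map_inv, hx a ha]

theorem mem_fixedSubgroup {T : Type*} [Group T] (R : Subgroup (MulAut T)) (t : T) :
    t ∈ fixedSubgroup R ↔ ∀ a ∈ R, a t = t := Iff.rfl

theorem card_modEq_fixedSubgroup {T : Type*} [Group T] [Finite T] {r : ℕ} [Fact r.Prime] (R : Subgroup (MulAut T))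
    (hR : IsPGroup r R) : Nat.card T ≡ Nat.card (fixedSubgroup R) [MOD r] := by
  have h := hR.card_modEq_card_fixedPoints T
  have h2 : MulAction.fixedPoints R T = (fixedSubgroup R : Set T) := by
    ext t
    simp only [MulAction.mem_fixedPoints, SetLike.mem_coe, mem_fixedSubgroup, Subtype.forall]
    rfl
  rw [h2] at h
  exact h

/-- an `r`-group of automorphisms of a group `T` is trivial if no proper divisor `d` of `|T|` is
congruent to `|T|` mod `r`. -/
theorem aut_trivial_of_small {T : Type*} [Group T] [Finite T] {r : ℕ} [Fact r.Prime] (R : Subgroup (MulAut T))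
    (hR : IsPGroup r R) (hT : ∀ d, d ∣ Nat.card T → Nat.card T ≡ d [MOD r] → d = Nat.card T) : R = ⊥ := by
  have h1 := hT _ (Subgroup.card_subgroup_dvd_card (fixedSubgroup R)) (card_modEq_fixedSubgroup R hR)
  have h2 : fixedSubgroup R = ⊤ := Subgroup.eq_top_of_card_eq _ h1
  rw [eq_bot_iff]
  intro a ha
  rw [Subgroup.mem_bot]
  ext t
  have : t ∈ fixedSubgroup R := by rw [h2]; trivial
  exact this a ha

theorem normalizer_le_centralizer_of_small [Finite G] {p : ℕ} [Fact p.Prime] (P : Sylow p G)
    (hP : IsMulCommutative P)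
    (h : ∀ r : ℕ, r.Prime → r ≠ p → r ∣ Nat.card G → ∀ d, d ∣ Nat.card P → Nat.card P ≡ d [MOD r] → d = Nat.card P) :
    normalizer (P : Set G) ≤ centralizer (P : Set G) := by
  set f := (P : Subgroup G).normalizerMonoidHom with hf
  have hker : f.ker = (centralizer ((P : Subgroup G) : Set G)).subgroupOf (normalizer ((P : Subgroup G) : Set G)) :=
    Subgroup.normalizerMonoidHom_ker _
  have hcard : Nat.card f.range = 1 := by
    by_contra hne
    obtain ⟨r, hr, hd⟩ := Nat.exists_prime_and_dvd hne
    have : Fact r.Prime := ⟨hr⟩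
    have hfin : Finite f.range := inferInstance
    by_cases hrp : r = p
    · -- p does not divide the index of the kernel
      subst hrp
      have h1 : Nat.card f.range = f.ker.index := (Subgroup.index_ker f).symm
      have h2 : (P : Subgroup G).subgroupOf (normalizer ((P : Subgroup G) : Set G)) ≤ f.ker := by
        rw [hker]
        apply Subgroup.comap_mono
        intro x hx y hy
        simpa using congrArg Subtype.val (hP.is_comm.comm (⟨y, hy⟩ : P) ⟨x, hx⟩)
      have h3 : f.ker.index ∣ (P : Subgroup G).relIndex (normalizer ((P : Subgroup G) : Set G)) :=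
        Subgroup.index_dvd_of_le h2
      have h4 : (P : Subgroup G).relIndex (normalizer ((P : Subgroup G) : Set G)) ∣ (P : Subgroup G).index :=
        Subgroup.relIndex_dvd_index_of_le Subgroup.le_normalizer
      rw [h1] at hd
      exact P.not_dvd_index ((hd.trans h3).trans h4)
    · obtain ⟨x, hx⟩ := exists_prime_orderOf_dvd_card' r hd
      have hx' : IsPGroup r (zpowers (x : MulAut (P : Subgroup G))) := by
        apply IsPGroup.of_card (n := 1)
        rw [Nat.card_zpowers, Subgroup.orderOf_coe, hx, pow_one]
      have hdG : r ∣ Nat.card G := by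
        have h5 : Nat.card f.range ∣ Nat.card (normalizer ((P : Subgroup G) : Set G)) := Subgroup.card_range_dvd f
        exact (hd.trans h5).trans (Subgroup.card_subgroup_dvd_card _)
      have h6 := aut_trivial_of_small _ hx' (h r hr hrp hdG)
      rw [Subgroup.zpowers_eq_bot] at h6
      have : orderOf x = 1 := by rw [← Subgroup.orderOf_coe, h6, orderOf_one]
      rw [hx] at this
      exact hr.one_lt.ne' this
  have h1 : f.ker.index = 1 := by rw [Subgroup.index_ker, hcard]
  rw [Subgroup.index_eq_one, hker, Subgroup.subgroupOf_eq_top] at h1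
  exact h1

theorem hasNormalPComplement_of_small [Finite G] {p : ℕ} [Fact p.Prime] (P : Sylow p G)
    (hP : IsMulCommutative P)
    (h : ∀ r : ℕ, r.Prime → r ≠ p → r ∣ Nat.card G → ∀ d, d ∣ Nat.card P → Nat.card P ≡ d [MOD r] → d = Nat.card P) :
    HasNormalPComplement p G :=
  hasNormalPComplement_of_normalizer_le_centralizer P (normalizer_le_centralizer_of_small P hP h)

/-- A simple group with a normal `p`-complement, `p ∣ |G|`, has commutative multiplication. -/
theorem simple_comm_of_hasNormalPComplement [Finite G] [IsSimpleGroup G] {p : ℕ} [Fact p.Prime]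
    (hp : p ∣ Nat.card G) (h : HasNormalPComplement p G) : ∀ x y : G, x * y = y * x := by
  obtain ⟨N, hN, h1, k, hk⟩ := hasNormalPComplement_iff.mp h
  rcases hN.eq_bot_or_eq_top with hb | ht
  · have hG : IsPGroup p G := by
      apply IsPGroup.of_card (n := k)
      rw [← hk, hb, Subgroup.index_bot]
    have hnil := hG.isNilpotent
    have hsol : Group.IsSolvable G := inferInstance
    exact IsSimpleGroup.comm_iff_isSolvable.mpr hsol
  · exfalso
    apply h1
    rwa [ht, Subgroup.card_top]

section perfect

/-- In a group equal to its derived subgroup, central elements of a Sylow subgroup lie in the kernel of every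
homomorphism from the Sylow subgroup to a commutative group. -/
theorem hom_eq_one_of_central_of_commutator [Finite G] {p : ℕ} [Fact p.Prime] (P : Sylow p G)
    {A : Type*} [CommGroup A] (ϕ : (P : Subgroup G) →* A) (x : G) (hx : x ∈ (P : Subgroup G)) (hz : x ∈ center G)
    (hc : x ∈ commutator G) : ϕ ⟨x, hx⟩ = 1 := by
  have h1 := transfer_of_mem_center ϕ x hz hx
  rw [transfer_of_mem_commutator ϕ x hc] at h1
  have h2 : (ϕ ⟨x, hx⟩) ^ Nat.card (P : Subgroup G) = 1 := by
    rw [← map_pow]
    have : (⟨x, hx⟩ : (P : Subgroup G)) ^ Nat.card (P : Subgroup G) = 1 := pow_card_eq_one'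
    rw [this, map_one]
  exact eq_one_of_pow_of_pow P.card_coprime_index h2 h1.symm

/-- central elements of a Sylow subgroup inside `G'` lie in the Frattini subgroup of the Sylow
subgroup. -/
theorem mem_frattini_of_central_of_commutator [Finite G] {p : ℕ} [Fact p.Prime] (P : Sylow p G)
    (x : G) (hx : x ∈ (P : Subgroup G)) (hz : x ∈ center G)
    (hc : x ∈ commutator G) : x ∈ (frattini P).map (P : Subgroup G).subtype := by
  refine ⟨⟨x, hx⟩, ?_, rfl⟩
  have hnil : Group.IsNilpotent (P : Subgroup G) := P.isPGroup'.isNilpotent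
  show (⟨x, hx⟩ : (P : Subgroup G)) ∈ Order.radical (Subgroup (P : Subgroup G))
  rw [Order.radical, Subgroup.mem_iInf]
  intro M
  rw [Subgroup.mem_iInf]
  intro hM
  have hMn : M.Normal := NormalizerCondition.normal_of_coatom M
    (Group.normalizerCondition_of_isNilpotent) hM
  have hcomm : ∀ a b : ((P : Subgroup G) ⧸ M), a * b = b * a := by
    have hidx : ∃ k, M.index = p ^ k := P.isPGroup'.index M
    -- the quotient is simple nilpotent
    have hsimple : IsSimpleGroup ((P : Subgroup G) ⧸ M) := by
      exact isSimpleGroup_quotient_of_isCoatom M hM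
    have hnil2 : Group.IsNilpotent ((P : Subgroup G) ⧸ M) := inferInstance
    have hsol : Group.IsSolvable ((P : Subgroup G) ⧸ M) := inferInstance
    exact IsSimpleGroup.comm_iff_isSolvable.mpr hsol
  letI : CommGroup ((P : Subgroup G) ⧸ M) := { (inferInstance : Group ((P : Subgroup G) ⧸ M)) with mul_comm := hcomm }
  have h1 := hom_eq_one_of_central_of_commutator P (QuotientGroup.mk' M) x hx hz hc
  exact (QuotientGroup.eq_one_iff _).mp h1

end perfect

end Cfsg.Agent.Lib.TransferApps2
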