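import Mathlib
import Cfsg.Prelude.Def_Transfer
import Cfsg.Agent.Lib.PNilp
import Cfsg.Agent.Lib.GroupUtil
import Cfsg.Agent.Lib.Transfer
import Cfsg.Agent.Lib.TransferApps
import Cfsg.Agent.Lib.TransferApps2

/-!
# Tate's theorem (helper2)

If `H ≤ G` has index prime to `p` and every homomorphism from `H` to a group of order `p` extends to `G`,
then `H ∩ O^p(G) = O^p(H)`.
-/

set_option autoImplicit false

open Subgroup
open scoped Pointwise commutatorElement

namespace Cfsg.Agent.Lib.Tate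

open Cfsg.Agent.Lib.PNilp Cfsg.Agent.Lib.GroupUtil Cfsg.Agent.Lib.Transfer Cfsg.Agent.Lib.TransferApps
open Cfsg.Agent.Lib.TransferApps2

universe u v

variable {G : Type u} [Group G]

/-- The key step: extension of a homomorphism `π : H → E` to a `p`-group `E`, central subgroup `C` of `E`, when
`H / π⁻¹(C) ≅ G / U`. -/
theorem exists_extension [Finite G] {p : ℕ} [Fact p.Prime] (H : Subgroup G) (hidx : ¬ p ∣ H.index)
    {E : Type v} [Group E] [Finite E] (π : H →* E) (hπ : Function.Surjective π) (C : Subgroup E)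
    (hC : C ≤ center E) (hCp : IsPGroup p C) (U : Subgroup G) [U.Normal] (hHU : H ⊔ U = ⊤)
    (hU : ∀ h : H, (h : G) ∈ U ↔ π h ∈ C)
    (hext : ∀ δ : H →* C, ∃ δ' : G →* C, ∀ h : H, δ' h = δ h) :
    ∃ s : G →* E, ∀ h : H, s h = π h := by
  classical
  have hCc : ∀ c ∈ C, ∀ e : E, e * c = c * e := fun c hc e => Subgroup.mem_center_iff.mp (hC hc) e
  -- the fibre product
  let Γ : Subgroup (G × E) :=
    { carrier := {x | ∃ h : H, (h : G)⁻¹ * x.1 ∈ U ∧ π h = x.2}
      one_mem' := ⟨1, by simp, by simp⟩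
      mul_mem' := by
        rintro ⟨g₁, e₁⟩ ⟨g₂, e₂⟩ ⟨h₁, hu₁, rfl⟩ ⟨h₂, hu₂, rfl⟩
        refine ⟨h₁ * h₂, ?_, by simp⟩
        have e : ((h₁ * h₂ : H) : G)⁻¹ * ((g₁, π h₁) * (g₂, π h₂) : G × E).1 =
            ((h₂ : G)⁻¹ * ((h₁ : G)⁻¹ * g₁) * (h₂ : G)⁻¹⁻¹) * ((h₂ : G)⁻¹ * g₂) := by
          simp [mul_assoc]
        rw [e]
        exact U.mul_mem ((inferInstance : U.Normal).conj_mem _ hu₁ _) hu₂
      inv_mem' := by
        rintro ⟨g, e⟩ ⟨h, hu, rfl⟩
        refine ⟨h⁻¹, ?_, by simp⟩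
        have e : ((h⁻¹ : H) : G)⁻¹ * ((g, π h)⁻¹ : G × E).1 = h * ((h : G)⁻¹ * g)⁻¹ * (h : G)⁻¹ := by
          simp [mul_assoc]
        rw [e]
        exact (inferInstance : U.Normal).conj_mem _ (U.inv_mem hu) _ }
  have hΓ : ∀ (g : G) (e : E), (g, e) ∈ Γ ↔ ∃ h : H, (h : G)⁻¹ * g ∈ U ∧ π h = e := fun g e => Iff.rfl
  let pr : Γ →* G := (MonoidHom.fst G E).comp Γ.subtype
  have hpr : Function.Surjective pr := by
    intro g
    have hg : g ∈ H ⊔ U := by rw [hHU]; trivial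
    obtain ⟨h, hh, y, hy, rfl⟩ := (Subgroup.mem_sup_of_normal_right).mp hg
    exact ⟨⟨(h * y, π ⟨h, hh⟩), ⟨h, hh⟩, by simpa using hy, rfl⟩, rfl⟩
  -- elements over H
  have hover : ∀ (h : H) (e : E), ((h : G), e) ∈ Γ → (π h)⁻¹ * e ∈ C := by
    rintro h e ⟨h', hu, rfl⟩
    have h1 : ((h'⁻¹ * h : H) : G) ∈ U := by simpa using hu
    have h2 := (hU _).mp h1
    have h3 : (π h)⁻¹ * π h' = (π (h'⁻¹ * h))⁻¹ := by simp
    rw [h3]; exact C.inv_mem h2
  have hone : ∀ (h : H), ((h : G), π h) ∈ Γ := fun h => ⟨h, by simp, rfl⟩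
  -- the subgroup over H
  let ΓH : Subgroup Γ := H.comap pr
  have hΓHidx : ΓH.index = H.index := Subgroup.index_comap_of_surjective _ hpr
  letI : CommGroup C := { (inferInstance : Group C) with
    mul_comm := fun a b => Subtype.ext (hCc b b.2 a) }
  let φ : ΓH →* C :=
    { toFun := fun x => ⟨(π ⟨x.1.1.1, x.2⟩)⁻¹ * x.1.1.2, hover ⟨x.1.1.1, x.2⟩ x.1.1.2 x.1.2⟩
      map_one' := by
        apply Subtype.ext
        have : (⟨((1 : ΓH) : Γ).1.1, (1 : ΓH).2⟩ : H) = 1 := rfl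
        simp only [this, map_one]
        simp
      map_mul' := by
        intro x y
        apply Subtype.ext
        have hc := hover ⟨x.1.1.1, x.2⟩ x.1.1.2 x.1.2
        show (π (⟨x.1.1.1, x.2⟩ * ⟨y.1.1.1, y.2⟩))⁻¹ * (x.1.1.2 * y.1.1.2) =
          ((π ⟨x.1.1.1, x.2⟩)⁻¹ * x.1.1.2) * ((π ⟨y.1.1.1, y.2⟩)⁻¹ * y.1.1.2)
        rw [map_mul]
        have h3 := hCc _ hc (π ⟨y.1.1.1, y.2⟩)⁻¹
        calc (π ⟨x.1.1.1, x.2⟩ * π ⟨y.1.1.1, y.2⟩)⁻¹ * (x.1.1.2 * y.1.1.2)
            = ((π ⟨y.1.1.1, y.2⟩)⁻¹ * ((π ⟨x.1.1.1, x.2⟩)⁻¹ * x.1.1.2)) * y.1.1.2 := by group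
          _ = (((π ⟨x.1.1.1, x.2⟩)⁻¹ * x.1.1.2) * (π ⟨y.1.1.1, y.2⟩)⁻¹) * y.1.1.2 := by rw [h3]
          _ = _ := by group }
  have hφ : ∀ (x : ΓH), ((φ x : C) : E) = (π ⟨x.1.1.1, x.2⟩)⁻¹ * x.1.1.2 := fun x => rfl
  let τ : Γ →* C := MonoidHom.transfer φ
  -- the central elements (1, z)
  have hcoset : ∀ z ∈ C, ((1 : G), z) ∈ Γ := by
    intro z hz
    obtain ⟨r, rfl⟩ := hπ z
    exact ⟨r, by simpa using U.inv_mem ((hU r).mpr hz), rfl⟩
  have hτ : ∀ (z : E) (hz : z ∈ C), τ ⟨(1, z), hcoset z hz⟩ = (⟨z, hz⟩ : C) ^ H.index := by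
    intro z hz
    have hcen : (⟨(1, z), hcoset z hz⟩ : Γ) ∈ center Γ := by
      rw [Subgroup.mem_center_iff]
      rintro ⟨⟨g, e⟩, hge⟩
      apply Subtype.ext
      show ((g, e) : G × E) * (1, z) = (1, z) * (g, e)
      rw [Prod.mk_mul_mk, Prod.mk_mul_mk, mul_one, one_mul, hCc z hz e]
    have hmem : (⟨(1, z), hcoset z hz⟩ : Γ) ∈ ΓH := by
      show (1 : G) ∈ H
      exact H.one_mem
    have := transfer_of_mem_center φ _ hcen hmem
    rw [hΓHidx] at this
    rw [show τ = MonoidHom.transfer φ from rfl, this]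
    congr 1
    apply Subtype.ext
    rw [hφ]
    have h1 : (⟨(1 : G), hmem⟩ : H) = 1 := rfl
    show (π ⟨(1 : G), hmem⟩)⁻¹ * z = z
    rw [h1, map_one, inv_one, one_mul]
  -- normalise
  have hcop : (Nat.card C).Coprime H.index := by
    obtain ⟨k, hk⟩ := IsPGroup.iff_card.mp hCp
    rw [hk]
    exact Nat.Coprime.pow_left _ ((Nat.Prime.coprime_iff_not_dvd Fact.out).mpr hidx)
  obtain ⟨m, hm⟩ : ∃ m : ℕ, ∀ c : C, (c ^ H.index) ^ m = c := by
    rcases Nat.lt_or_ge 1 (Nat.card C) with h1 | h1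
    · obtain ⟨m, -, hm⟩ := Nat.exists_mul_mod_eq_one_of_coprime hcop.symm h1
      refine ⟨m, fun c => ?_⟩
      rw [← pow_mul]
      have h2 : c ^ (Nat.card C) = 1 := pow_card_eq_one'
      conv_lhs => rw [← Nat.div_add_mod (H.index * m) (Nat.card C), pow_add, pow_mul, h2, one_pow, hm, one_mul, pow_one]
    · refine ⟨0, fun c => ?_⟩
      have hc1 : Nat.card C = 1 := by
        have : 0 < Nat.card C := Nat.card_pos
        omega
      have : Subsingleton C := (Nat.card_eq_one_iff_unique.mp hc1).1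
      exact Subsingleton.elim _ _
  let ρ : Γ →* C := (powMonoidHom m).comp τ
  have hρ : ∀ (z : E) (hz : z ∈ C), ρ ⟨(1, z), hcoset z hz⟩ = (⟨z, hz⟩ : C) := by
    intro z hz
    show (τ ⟨(1, z), hcoset z hz⟩) ^ m = _
    rw [hτ z hz, hm]
  let σ : Γ →* E :=
    { toFun := fun x => x.1.2 * ((ρ x : C) : E)⁻¹
      map_one' := by simp
      map_mul' := by
        intro x y
        have h2 : ((x * y : Γ) : G × E).2 = x.1.2 * y.1.2 := rfl
        rw [h2, map_mul, Subgroup.coe_mul, mul_inv_rev]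
        have h3 := hCc _ (C.inv_mem (ρ x).2) y.1.2
        have h4 := hCc _ (C.inv_mem (ρ x).2) ((ρ y : C) : E)⁻¹
        calc x.1.2 * y.1.2 * (((ρ y : C) : E)⁻¹ * ((ρ x : C) : E)⁻¹)
            = x.1.2 * y.1.2 * (((ρ x : C) : E)⁻¹ * ((ρ y : C) : E)⁻¹) := by rw [h4]
          _ = x.1.2 * (y.1.2 * ((ρ x : C) : E)⁻¹) * ((ρ y : C) : E)⁻¹ := by group
          _ = x.1.2 * (((ρ x : C) : E)⁻¹ * y.1.2) * ((ρ y : C) : E)⁻¹ := by rw [h3]
          _ = _ := by group }
  have hσker : pr.ker ≤ σ.ker := by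
    rintro ⟨⟨g, e⟩, hge⟩ hx
    have hg : g = 1 := hx
    subst hg
    have hz : e ∈ C := by
      have := hover 1 e hge
      simpa using this
    show e * ((ρ ⟨(1, e), hge⟩ : C) : E)⁻¹ = 1
    have := hρ e hz
    rw [this]
    simp
  let s : G →* E := (pr.liftOfSurjective hpr) ⟨σ, hσker⟩
  have hs : ∀ x : Γ, s (pr x) = σ x := fun x => pr.liftOfRightInverse_comp_apply _ _ ⟨σ, hσker⟩ x
  have hsH : ∀ h : H, s h = π h * ((ρ ⟨(h, π h), hone h⟩ : C) : E)⁻¹ := by
    intro h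
    exact hs ⟨(h, π h), hone h⟩
  -- the difference
  let ι : H →* Γ :=
    { toFun := fun h => ⟨(h, π h), hone h⟩
      map_one' := by apply Subtype.ext; simp
      map_mul' := fun a b => by apply Subtype.ext; simp }
  obtain ⟨δ', hδ'⟩ := hext (ρ.comp ι)
  refine ⟨{ toFun := fun g => s g * ((δ' g : C) : E), map_one' := by simp, map_mul' := ?_ }, ?_⟩
  · intro a b
    rw [map_mul, map_mul, Subgroup.coe_mul]
    have h3 := hCc _ (δ' a).2 (s b)
    calc s a * s b * (((δ' a : C) : E) * ((δ' b : C) : E)) = s a * (s b * ((δ' a : C) : E)) * ((δ' b : C) : E) := by group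
      _ = s a * (((δ' a : C) : E) * s b) * ((δ' b : C) : E) := by rw [h3]
      _ = _ := by group
  · intro h
    show s h * ((δ' h : C) : E) = π h
    rw [hsH, hδ']
    show π h * ((ρ ⟨(h, π h), hone h⟩ : C) : E)⁻¹ * ((ρ ⟨(h, π h), hone h⟩ : C) : E) = π h
    group

/-- subgroups of index prime to `p` and of `p`-power index generate. -/
theorem sup_eq_top_of_index [Finite G] {p : ℕ} [Fact p.Prime] (H N : Subgroup G) (hH : ¬ p ∣ H.index)
    {k : ℕ} (h : N.index = p ^ k) : H ⊔ N = ⊤ := by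
  rw [← Subgroup.index_eq_one]
  have h1 : (H ⊔ N).index ∣ p ^ k := h ▸ Subgroup.index_dvd_of_le le_sup_right
  have h2 : (H ⊔ N).index ∣ H.index := Subgroup.index_dvd_of_le le_sup_left
  obtain ⟨j, _, hj⟩ := (Nat.dvd_prime_pow Fact.out).mp h1
  rcases Nat.eq_zero_or_pos j with h0 | h0
  · rw [hj, h0, pow_zero]
  · exfalso
    apply hH
    exact (dvd_pow_self p h0.ne').trans (hj ▸ h2)

/-- in a finite `p`-group a nontrivial normal subgroup `R` contains a normal subgroup `S` of the whole group,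
with `R / S` central of order `p`. -/
theorem exists_normal_index_p {E : Type*} [Group E] [Finite E] {p : ℕ} [Fact p.Prime] (hE : IsPGroup p E)
    (R : Subgroup E) [R.Normal] (hR : R ≠ ⊥) :
    ∃ S : Subgroup E, S.Normal ∧ S < R ∧ ⁅R, (⊤ : Subgroup E)⁆ ≤ S ∧ S.relIndex R = p := by
  have hnil := hE.isNilpotent
  have hnilt : Group.IsNilpotent (⊤ : Subgroup E) := (Group.isNilpotent_top (G := E)).mpr hnil
  set B := ⁅R, (⊤ : Subgroup E)⁆ with hB
  have hBR : B ≤ R := Subgroup.commutator_le_left R ⊤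
  have hBne : B.subgroupOf R ≠ ⊤ := by
    intro h
    rw [Subgroup.subgroupOf_eq_top] at h
    exact hR (eq_bot_of_le_commutator (P := (⊤ : Subgroup E)) le_top h)
  obtain ⟨S', hS', hBS'⟩ := (eq_top_or_exists_le_coatom (B.subgroupOf R)).resolve_left hBne
  have hRp : IsPGroup p R := hE.to_subgroup R
  have hRnil := hRp.isNilpotent
  have hS'n : S'.Normal := NormalizerCondition.normal_of_coatom S' (Group.normalizerCondition_of_isNilpotent) hS'
  have hsimple := isSimpleGroup_quotient_of_isCoatom S' hS'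
  have hcomm : ∀ a b : (R ⧸ S'), a * b = b * a := by
    have hnil2 : Group.IsNilpotent (R ⧸ S') := inferInstance
    have hsol : Group.IsSolvable (R ⧸ S') := inferInstance
    exact IsSimpleGroup.comm_iff_isSolvable.mpr hsol
  letI : CommGroup (R ⧸ S') := { (inferInstance : Group (R ⧸ S')) with mul_comm := hcomm }
  have hprime : (Nat.card (R ⧸ S')).Prime := IsSimpleGroup.prime_card
  have hp' : Nat.card (R ⧸ S') = p := by
    obtain ⟨k, hk⟩ := IsPGroup.iff_card.mp (hRp.to_quotient S')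
    rw [hk] at hprime ⊢
    have hk1 : k = 1 := by
      rcases Nat.lt_or_ge 1 k with h | h
      · exact absurd hprime (Nat.Prime.not_prime_pow h)
      · rcases Nat.le_one_iff_eq_zero_or_eq_one.mp h with h0 | h1
        · rw [h0, pow_zero] at hprime
          exact absurd hprime Nat.not_prime_one
        · exact h1
    rw [hk1, pow_one]
  have hBS : B ≤ S'.map R.subtype := by
    intro x hx
    exact ⟨⟨x, hBR hx⟩, hBS' hx, rfl⟩
  have hSR : S'.map R.subtype ≤ R := by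
    rintro _ ⟨x, _, rfl⟩
    exact x.2
  have hrel : (S'.map R.subtype).relIndex R = p := by
    rw [Subgroup.relIndex, Subgroup.subgroupOf, Subgroup.comap_map_eq_self_of_injective R.subtype_injective,
      Subgroup.index_eq_card, hp']
  refine ⟨S'.map R.subtype, ?_, ?_, hBS, hrel⟩
  · constructor
    intro x hx e
    have h1 : ⁅e, x⁆ ∈ B := by
      rw [hB, Subgroup.commutator_comm]
      exact Subgroup.commutator_mem_commutator (Subgroup.mem_top e) (hSR hx)
    have h2 : e * x * e⁻¹ = ⁅e, x⁆ * x := by rw [commutatorElement_def]; group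
    rw [h2]
    exact Subgroup.mul_mem _ (hBS h1) hx
  · refine lt_of_le_of_ne hSR ?_
    intro h
    rw [h, Subgroup.relIndex_self] at hrel
    exact (Fact.out : p.Prime).one_lt.ne hrel

/-- **Tate's theorem**. -/
theorem tate [Finite G] {p : ℕ} [Fact p.Prime] (H : Subgroup G) (hidx : ¬ p ∣ H.index)
    (hext : ∀ δ : H →* Multiplicative (ZMod p), ∃ δ' : G →* Multiplicative (ZMod p), ∀ h : H, δ' h = δ h) :
    H ⊓ pResidual p G = (pResidual p H).map H.subtype := by
  have hle : (pResidual p H).map H.subtype ≤ H ⊓ pResidual p G := by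
    apply le_inf
    · rintro _ ⟨x, _, rfl⟩
      exact x.2
    · exact map_subtype_pResidual_le p H
  refine le_antisymm ?_ hle
  set U := pResidual p G with hU
  set T := pResidual p H with hT
  set R : Subgroup H := U.subgroupOf H with hR
  have hTR : T ≤ R := by
    intro x hx
    rw [hR, Subgroup.mem_subgroupOf]
    exact (hle ⟨x, hx, rfl⟩).2
  suffices h : R ≤ T by
    rintro x ⟨hxH, hxU⟩
    exact ⟨⟨x, hxH⟩, h hxU, rfl⟩
  by_contra hRT
  -- the p-group H / T
  have hE0 : IsPGroup p (H ⧸ T) := isPGroup_quotient_pResidual p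
  set R0 : Subgroup (H ⧸ T) := R.map (QuotientGroup.mk' T) with hR0
  have hR0n : R0.Normal := Subgroup.Normal.map inferInstance _ (QuotientGroup.mk'_surjective T)
  have hR0ne : R0 ≠ ⊥ := by
    intro h
    apply hRT
    rw [hR0, Subgroup.map_eq_bot_iff, QuotientGroup.ker_mk'] at h
    exact h
  obtain ⟨S0, hS0n, hS0R0, hcomm, hrel⟩ := exists_normal_index_p hE0 R0 hR0ne
  let π : H →* (H ⧸ T) ⧸ S0 := (QuotientGroup.mk' S0).comp (QuotientGroup.mk' T)
  have hπ : Function.Surjective π := (QuotientGroup.mk'_surjective S0).comp (QuotientGroup.mk'_surjective T)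
  set C : Subgroup ((H ⧸ T) ⧸ S0) := R0.map (QuotientGroup.mk' S0) with hC
  have hEp : IsPGroup p ((H ⧸ T) ⧸ S0) := hE0.to_quotient S0
  have hCcard : Nat.card C = p := by
    have := Subgroup.relIndex_ker (K := R0) (QuotientGroup.mk' S0)
    rw [QuotientGroup.ker_mk', hrel] at this
    exact this.symm
  have hCcen : C ≤ center ((H ⧸ T) ⧸ S0) := by
    rintro _ ⟨x, hx, rfl⟩
    rw [Subgroup.mem_center_iff]
    intro e
    obtain ⟨y, rfl⟩ := QuotientGroup.mk'_surjective S0 e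
    rw [← map_mul, ← map_mul, QuotientGroup.mk'_apply, QuotientGroup.mk'_apply, QuotientGroup.eq]
    have h1 : ⁅x⁻¹, y⁻¹⁆ ∈ S0 := hcomm (Subgroup.commutator_mem_commutator (R0.inv_mem hx) (Subgroup.mem_top _))
    have h2 : (y * x)⁻¹ * (x * y) = ⁅x⁻¹, y⁻¹⁆ := by rw [commutatorElement_def]; group
    rw [h2]; exact h1
  have hUiff : ∀ h : H, (h : G) ∈ U ↔ π h ∈ C := by
    intro h
    have hT1 : ∀ y : H, QuotientGroup.mk' T y ∈ R0 ↔ y ∈ R := by
      intro y
      constructor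
      · rintro ⟨z, hz, hzy⟩
        have h1 : z⁻¹ * y ∈ T := QuotientGroup.eq.mp hzy
        have h2 := R.mul_mem hz (hTR h1)
        rwa [mul_inv_cancel_left] at h2
      · intro hy; exact ⟨y, hy, rfl⟩
    have hS1 : ∀ y : H ⧸ T, QuotientGroup.mk' S0 y ∈ C ↔ y ∈ R0 := by
      intro y
      constructor
      · rintro ⟨z, hz, hzy⟩
        have h1 : z⁻¹ * y ∈ S0 := QuotientGroup.eq.mp hzy
        have h2 := R0.mul_mem hz (hS0R0.le h1)
        rwa [mul_inv_cancel_left] at h2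
      · intro hy; exact ⟨y, hy, rfl⟩
    rw [← Subgroup.mem_subgroupOf, ← hR, ← hT1, ← hS1]
    rfl
  obtain ⟨k, hk⟩ := pResidual_index (G := G) p
  have hCp : IsPGroup p C := hEp.to_subgroup C
  have e : C ≃* Multiplicative (ZMod p) := mulEquivOfPrimeCardEq (p := p) hCcard (by simp)
  have hextC : ∀ δ : H →* C, ∃ δ' : G →* C, ∀ h : H, δ' h = δ h := by
    intro δ
    obtain ⟨δ', hδ'⟩ := hext (e.toMonoidHom.comp δ)
    refine ⟨e.symm.toMonoidHom.comp δ', fun h => ?_⟩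
    rw [MonoidHom.comp_apply, hδ' h, MonoidHom.comp_apply]
    exact e.symm_apply_apply _
  obtain ⟨s, hs⟩ := exists_extension H hidx π hπ C hCcen hCp U (sup_eq_top_of_index H U hidx hk) hUiff hextC
  have hker : U ≤ s.ker := pResidual_le_ker hEp s
  apply (not_le_of_gt hS0R0)
  rintro _ ⟨x, hx, rfl⟩
  have h1 : s x = 1 := hker hx
  rw [hs] at h1
  exact (QuotientGroup.eq_one_iff _).mp h1

end Cfsg.Agent.Lib.Tate
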