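import Mathlib
import Cfsg.Prelude.Def_Transfer
import Cfsg.Agent.Lib.PNilp
import Cfsg.Agent.Lib.GroupUtil
import Cfsg.Agent.Lib.Transfer
import Cfsg.Agent.Lib.FusionControl
import Cfsg.Agent.Lib.TransferApps
import Cfsg.Agent.Lib.TransferApps2
import Cfsg.Agent.Lib.Tate

/-!
# Applications of Tate's theorem (helper2)
-/

set_option autoImplicit false

open Subgroup
open scoped Pointwise commutatorElement

namespace Cfsg.Agent.Lib.TateApps

open Cfsg.Agent.Lib.PNilp Cfsg.Agent.Lib.GroupUtil Cfsg.Agent.Lib.Transfer Cfsg.Agent.Lib.TransferApps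
open Cfsg.Agent.Lib.TransferApps2 Cfsg.Agent.Lib.Tate Cfsg.Agent.Lib.FusionControl

variable {G : Type*} [Group G]

theorem pResidual_eq_bot_of_isPGroup {p : ℕ} [Fact p.Prime] (h : IsPGroup p G) : pResidual p G = ⊥ := by
  have := pResidual_le_ker h (MonoidHom.id G)
  rw [eq_bot_iff]
  intro x hx
  exact this hx

/-- If every homomorphism of a Sylow subgroup to `Z/p` extends to the group then there is a normal
`p`-complement. -/
theorem hasNormalPComplement_of_extend [Finite G] {p : ℕ} [Fact p.Prime] (P : Sylow p G)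
    (hext : ∀ δ : (P : Subgroup G) →* Multiplicative (ZMod p), ∃ δ' : G →* Multiplicative (ZMod p),
      ∀ h : (P : Subgroup G), δ' h = δ h) : HasNormalPComplement p G := by
  rw [hasNormalPComplement_iff_inf_eq_bot P, tate (P : Subgroup G) P.not_dvd_index hext,
    pResidual_eq_bot_of_isPGroup P.2, Subgroup.map_bot]

theorem isCoatom_of_index_prime [Finite G] {p : ℕ} (hp : p.Prime) (K : Subgroup G) (h : K.index = p) :
    IsCoatom K := by
  constructor
  · intro h1
    rw [h1, Subgroup.index_top] at h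
    exact hp.one_lt.ne h
  · intro L hL
    have h1 : L.index ∣ p := h ▸ Subgroup.index_dvd_of_le hL.le
    rcases (Nat.dvd_prime hp).mp h1 with h2 | h2
    · exact Subgroup.index_eq_one.mp h2
    · exfalso
      have := Subgroup.index_strictAnti hL
      omega

theorem hom_eq_one_of_mem_frattini [Finite G] {p : ℕ} [Fact p.Prime] (δ : G →* Multiplicative (ZMod p)) {x : G}
    (hx : x ∈ frattini G) : δ x = 1 := by
  have h1 : Nat.card δ.range ∣ p := by
    have := Subgroup.card_subgroup_dvd_card δ.range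
    simpa using this
  rcases (Nat.dvd_prime Fact.out).mp h1 with h | h
  · rw [Subgroup.card_eq_one] at h
    have : δ x ∈ δ.range := ⟨x, rfl⟩
    rwa [h, Subgroup.mem_bot] at this
  · have h2 : δ.ker.index = p := by rw [Subgroup.index_ker, h]
    exact frattini_le_coatom (isCoatom_of_index_prime Fact.out _ h2) hx

/-- Tate: a normal subgroup meeting `P` inside the Frattini subgroup of `P` has a normal `p`-complement; in fact
so does `P N`. -/
theorem tate_frattini_sup [Finite G] {p : ℕ} [Fact p.Prime] (P : Sylow p G) (N : Subgroup G) [N.Normal]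
    (h : N ⊓ (P : Subgroup G) ≤ (frattini P).map (P : Subgroup G).subtype) :
    HasNormalPComplement p ((P : Subgroup G) ⊔ N : Subgroup G) := by
  set G0 := (P : Subgroup G) ⊔ N with hG0
  have hP0 : (P : Subgroup G) ≤ G0 := le_sup_left
  have hN0 : N ≤ G0 := le_sup_right
  set P0 : Sylow p G0 := P.subtype hP0 with hP0def
  have hN0n : (N.subgroupOf G0).Normal := inferInstance
  apply hasNormalPComplement_of_extend P0
  intro δ
  let q : (P0 : Subgroup G0) →* G0 ⧸ N.subgroupOf G0 :=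
    (QuotientGroup.mk' (N.subgroupOf G0)).comp (P0 : Subgroup G0).subtype
  have hq : Function.Surjective q := by
    intro y
    obtain ⟨⟨g, hg⟩, rfl⟩ := QuotientGroup.mk'_surjective _ y
    obtain ⟨x, hx, n, hn, rfl⟩ := (Subgroup.mem_sup_of_normal_right).mp hg
    refine ⟨⟨⟨x, hP0 hx⟩, hx⟩, ?_⟩
    show QuotientGroup.mk' _ (⟨x, hP0 hx⟩ : G0) = QuotientGroup.mk' _ ⟨x * n, hg⟩
    rw [QuotientGroup.mk'_apply, QuotientGroup.mk'_apply, QuotientGroup.eq, Subgroup.mem_subgroupOf]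
    simpa using hn
  have hker : q.ker ≤ δ.ker := by
    rintro ⟨⟨x, hxG⟩, hxP⟩ hx
    have hxN : x ∈ N := by
      have h1 : (⟨x, hxG⟩ : G0) ∈ N.subgroupOf G0 := (QuotientGroup.eq_one_iff _).mp hx
      rwa [Subgroup.mem_subgroupOf] at h1
    have hxP' : x ∈ (P : Subgroup G) := hxP
    obtain ⟨y, hy, hyx⟩ := h ⟨hxN, hxP'⟩
    let e : (P : Subgroup G) →* (P0 : Subgroup G0) :=
      { toFun := fun z => ⟨⟨z, hP0 z.2⟩, z.2⟩
        map_one' := rfl
        map_mul' := fun _ _ => rfl }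
    have h2 := hom_eq_one_of_mem_frattini (δ.comp e) hy
    have h3 : e y = ⟨⟨x, hxG⟩, hxP⟩ := by
      apply Subtype.ext
      apply Subtype.ext
      exact hyx
    rw [MonoidHom.comp_apply, h3] at h2
    exact h2
  refine ⟨(q.liftOfSurjective hq ⟨δ, hker⟩).comp (QuotientGroup.mk' (N.subgroupOf G0)), fun x => ?_⟩
  have h1 := q.liftOfRightInverse_comp_apply _ (Function.rightInverse_surjInv hq) ⟨δ, hker⟩ x
  exact h1

theorem tate_frattini [Finite G] {p : ℕ} [Fact p.Prime] (P : Sylow p G) (N : Subgroup G) [N.Normal]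
    (h : N ⊓ (P : Subgroup G) ≤ (frattini P).map (P : Subgroup G).subtype) : HasNormalPComplement p N :=
  HasNormalPComplement.mono (le_sup_right) (tate_frattini_sup P N h)

/-- If `M ≥ P` controls fusion in `P`, homomorphisms `M → Z/p` extend to `G`. -/
theorem extend_of_controls [Finite G] {p : ℕ} [Fact p.Prime] (P : Sylow p G) (M : Subgroup G)
    (hPM : (P : Subgroup G) ≤ M)
    (hM : ∀ x ∈ P, ∀ g : G, g * x * g⁻¹ ∈ P → ∃ m ∈ M, m * x * m⁻¹ = g * x * g⁻¹)
    {A : Type*} [CommGroup A] [Finite A] (hA : IsPGroup p A) (δ : M →* A) :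
    ∃ δ' : G →* A, ∀ h : M, δ' h = δ h := by
  have hidx : ¬ p ∣ M.index := fun h => P.not_dvd_index (h.trans (Subgroup.index_dvd_of_le hPM))
  have hcop : (Nat.card A).Coprime M.index := by
    obtain ⟨k, hk⟩ := IsPGroup.iff_card.mp hA
    rw [hk]
    exact Nat.Coprime.pow_left _ ((Nat.Prime.coprime_iff_not_dvd Fact.out).mpr hidx)
  obtain ⟨m, hm⟩ : ∃ m : ℕ, ∀ c : A, (c ^ M.index) ^ m = c := by
    rcases Nat.lt_or_ge 1 (Nat.card A) with h1 | h1
    · obtain ⟨m, -, hm⟩ := Nat.exists_mul_mod_eq_one_of_coprime hcop.symm h1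
      refine ⟨m, fun c => ?_⟩
      rw [← pow_mul]
      have h2 : c ^ (Nat.card A) = 1 := pow_card_eq_one'
      conv_lhs => rw [← Nat.div_add_mod (M.index * m) (Nat.card A), pow_add, pow_mul, h2, one_pow, hm, one_mul, pow_one]
    · refine ⟨0, fun c => ?_⟩
      have hc1 : Nat.card A = 1 := by
        have : 0 < Nat.card A := Nat.card_pos
        omega
      have : Subsingleton A := (Nat.card_eq_one_iff_unique.mp hc1).1
      exact Subsingleton.elim _ _
  -- invariance of δ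
  have hinv : ∀ y ∈ P, ∀ (t : G) (hy : y ∈ M) (ht : t⁻¹ * y * t ∈ M), δ ⟨t⁻¹ * y * t, ht⟩ = δ ⟨y, hy⟩ := by
    intro y hyP t hy ht
    have hz : IsPGroup p (zpowers (⟨t⁻¹ * y * t, ht⟩ : M)) := by
      obtain ⟨k, hk⟩ := (IsPGroup.iff_orderOf.mp P.2) ⟨y, hyP⟩
      rw [Subgroup.orderOf_mk] at hk
      apply IsPGroup.of_card (n := k)
      rw [Nat.card_zpowers, Subgroup.orderOf_mk]
      have h1 : t⁻¹ * y * t = MulAut.conj t⁻¹ y := by simp
      rw [h1, MulEquiv.orderOf_eq, hk]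
    obtain ⟨R, hR⟩ := hz.exists_le_sylow
    obtain ⟨a, ha⟩ := MulAction.exists_smul_eq M R (P.subtype hPM)
    have h2 : a * ⟨t⁻¹ * y * t, ht⟩ * a⁻¹ ∈ ((P.subtype hPM : Sylow p M) : Subgroup M) := by
      rw [← ha, mem_smul_sylow]
      have : a⁻¹ * (a * ⟨t⁻¹ * y * t, ht⟩ * a⁻¹) * a = ⟨t⁻¹ * y * t, ht⟩ := by group
      rw [this]
      exact hR (mem_zpowers _)
    have h3 : (a : G) * (t⁻¹ * y * t) * (a : G)⁻¹ ∈ P := h2
    have h4 : ((a : G) * t⁻¹) * y * ((a : G) * t⁻¹)⁻¹ = (a : G) * (t⁻¹ * y * t) * (a : G)⁻¹ := by group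
    obtain ⟨n, hn, hny⟩ := hM y hyP ((a : G) * t⁻¹) (by rw [h4]; exact h3)
    rw [h4] at hny
    have h5 : (⟨n, hn⟩ : M) * ⟨y, hy⟩ * ⟨n, hn⟩⁻¹ = a * ⟨t⁻¹ * y * t, ht⟩ * a⁻¹ := Subtype.ext hny
    have h6 := congrArg δ h5
    rw [map_mul, map_mul, map_mul, map_mul, map_inv, map_inv, mul_comm (δ ⟨n, hn⟩), mul_inv_cancel_right,
      mul_comm (δ a), mul_inv_cancel_right] at h6
    exact h6.symm
  have hfac : ∀ x (hxP : x ∈ P), ∀ (k : ℕ) (t : G) (ht : t⁻¹ * x ^ k * t ∈ M),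
      δ ⟨t⁻¹ * x ^ k * t, ht⟩ = (δ ⟨x, hPM hxP⟩) ^ k := by
    intro x hxP k t ht
    rw [hinv (x ^ k) (P.pow_mem hxP k) t (M.pow_mem (hPM hxP) k) ht, ← map_pow]
    rfl
  have hV : ∀ x (hxP : x ∈ P), MonoidHom.transfer δ x = (δ ⟨x, hPM hxP⟩) ^ M.index := by
    intro x hxP
    have : Fintype (Quotient (MulAction.orbitRel (zpowers (x : G)) (G ⧸ M))) := Fintype.ofFinite _
    rw [MonoidHom.transfer_eq_prod_quotient_orbitRel_zpowers_quot, index_eq_sum_minimalPeriod M x,
      ← Finset.prod_pow_eq_pow_sum]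
    apply Finset.prod_congr rfl
    intro q _
    exact hfac x hxP _ _ _
  let δ' : G →* A := (powMonoidHom m).comp (MonoidHom.transfer δ)
  have hδ'P : ∀ x (hxP : x ∈ P), δ' x = δ ⟨x, hPM hxP⟩ := by
    intro x hxP
    show (MonoidHom.transfer δ x) ^ m = _
    rw [hV x hxP, hm]
  refine ⟨δ', fun h => ?_⟩
  have htop := sylow_sup_pResidual (P.subtype hPM)
  have hle : ((P.subtype hPM : Sylow p M) : Subgroup M) ⊔ pResidual p M ≤
      MonoidHom.eqLocus (δ'.comp M.subtype) δ := by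
    apply sup_le
    · intro x hx
      exact hδ'P x hx
    · intro x hx
      have h1 := pResidual_le_ker hA (δ'.comp M.subtype) hx
      have h2 := pResidual_le_ker hA δ hx
      show (δ'.comp M.subtype) x = δ x
      rw [MonoidHom.mem_ker.mp h1, MonoidHom.mem_ker.mp h2]
  rw [htop] at hle
  exact hle (Subgroup.mem_top h)

/-- If `M ≥ P` controls fusion in `P` then `M ∩ O^p(G) = O^p(M)`. -/
theorem inf_pResidual_eq_of_controls [Finite G] {p : ℕ} [Fact p.Prime] (P : Sylow p G) (M : Subgroup G)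
    (hPM : (P : Subgroup G) ≤ M)
    (hM : ∀ x ∈ P, ∀ g : G, g * x * g⁻¹ ∈ P → ∃ m ∈ M, m * x * m⁻¹ = g * x * g⁻¹) :
    M ⊓ pResidual p G = (pResidual p M).map M.subtype := by
  apply tate
  · exact fun h => P.not_dvd_index (h.trans (Subgroup.index_dvd_of_le hPM))
  · intro δ
    have hA : IsPGroup p (Multiplicative (ZMod p)) := IsPGroup.of_card (n := 1) (by simp)
    exact extend_of_controls P M hPM hM hA δ

theorem sylow_inf_pResidual_eq_of_controls [Finite G] {p : ℕ} [Fact p.Prime] (P : Sylow p G) (M : Subgroup G)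
    (hPM : (P : Subgroup G) ≤ M)
    (hM : ∀ x ∈ P, ∀ g : G, g * x * g⁻¹ ∈ P → ∃ m ∈ M, m * x * m⁻¹ = g * x * g⁻¹) :
    (P : Subgroup G) ⊓ pResidual p G = (P : Subgroup G) ⊓ (pResidual p M).map M.subtype := by
  rw [← inf_pResidual_eq_of_controls P M hPM hM, ← inf_assoc, inf_eq_left.mpr hPM]

/-- If `M ≥ P` controls fusion in `P` and has a normal `p`-complement then so does `G`. -/
theorem hasNormalPComplement_of_controls [Finite G] {p : ℕ} [Fact p.Prime] (P : Sylow p G) (M : Subgroup G)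
    (hPM : (P : Subgroup G) ≤ M)
    (hM : ∀ x ∈ P, ∀ g : G, g * x * g⁻¹ ∈ P → ∃ m ∈ M, m * x * m⁻¹ = g * x * g⁻¹)
    (h : HasNormalPComplement p M) : HasNormalPComplement p G := by
  rw [hasNormalPComplement_iff_inf_eq_bot P, sylow_inf_pResidual_eq_of_controls P M hPM hM]
  have h1 := (hasNormalPComplement_iff_inf_eq_bot (P.subtype hPM)).mp h
  rw [eq_bot_iff]
  rintro x ⟨hxP, y, hy, rfl⟩
  have h2 : y ∈ ((P.subtype hPM : Sylow p M) : Subgroup M) ⊓ pResidual p M := ⟨hxP, hy⟩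
  rw [h1, Subgroup.mem_bot] at h2
  rw [h2]; simp

/-- `p`-normal groups: the centre of `P` is weakly closed. -/
theorem weaklyClosed_of_pnormal [Finite G] {p : ℕ} [Fact p.Prime] (P : Sylow p G)
    (hn : ∀ Q : Sylow p G, (P : Subgroup G) ⊓ centralizer (P : Set G) ≤ (Q : Subgroup G) →
      (Q : Subgroup G) ⊓ centralizer (Q : Set G) = (P : Subgroup G) ⊓ centralizer (P : Set G)) :
    IsWeaklyClosed ((P : Subgroup G) ⊓ centralizer (P : Set G)) (P : Subgroup G) := by
  refine ⟨inf_le_left, fun g hg => ?_⟩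
  set Z := (P : Subgroup G) ⊓ centralizer (P : Set G) with hZ
  have h1 : Z ≤ ((g⁻¹ • P : Sylow p G) : Subgroup G) := by
    intro z hz
    rw [mem_smul_sylow, inv_inv]
    apply hg
    rw [mem_map_conj]
    have e : g⁻¹ * (g * z * g⁻¹) * g = z := by group
    rwa [e]
  have h2 := hn _ h1
  -- Z(g⁻¹ P g) = g⁻¹ Z g
  have h3 : ∀ z : G, z ∈ Z ↔ g * z * g⁻¹ ∈ Z := by
    intro z
    conv_lhs => rw [← h2]
    rw [Subgroup.mem_inf, mem_smul_sylow, inv_inv, hZ, Subgroup.mem_inf]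
    constructor
    · rintro ⟨hz1, hz2⟩
      refine ⟨hz1, ?_⟩
      intro y hy
      have hy' : g⁻¹ * y * g ∈ ((g⁻¹ • P : Sylow p G) : Subgroup G) := by
        rw [mem_smul_sylow, inv_inv]
        have e : g * (g⁻¹ * y * g) * g⁻¹ = y := by group
        rw [e]; exact hy
      have h4 := hz2 _ hy'
      calc y * (g * z * g⁻¹) = g * ((g⁻¹ * y * g) * z) * g⁻¹ := by group
        _ = g * (z * (g⁻¹ * y * g)) * g⁻¹ := by rw [h4]
        _ = g * z * g⁻¹ * y := by group
    · rintro ⟨hz1, hz2⟩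
      refine ⟨hz1, ?_⟩
      intro y hy
      have hy' : y ∈ ((g⁻¹ • P : Sylow p G) : Subgroup G) := hy
      rw [mem_smul_sylow, inv_inv] at hy'
      have h4 := hz2 _ hy'
      calc y * z = g⁻¹ * ((g * y * g⁻¹) * (g * z * g⁻¹)) * g := by group
        _ = g⁻¹ * ((g * z * g⁻¹) * (g * y * g⁻¹)) * g := by rw [h4]
        _ = z * y := by group
  ext z
  rw [mem_map_conj, h3]
  have e : g * (g⁻¹ * z * g) * g⁻¹ = z := by group
  rw [e]

end Cfsg.Agent.Lib.TateApps
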