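import Mathlib
import Cfsg.Agent.Lib.PDegreeH82
import Cfsg.Agent.Lib.PNilp
import Cfsg.Agent.Lib.FusionControl
import Cfsg.Agent.Lib.TransferApps
import Cfsg.Agent.Lib.TateApps
import Cfsg.Agent.Lib.FratFit

/-!
# Extending `p'`-degree characters of a Sylow normalizer
-/

set_option autoImplicit false
set_option linter.all false
set_option maxHeartbeats 400000

namespace Cfsg.Agent.Lib.SylowExtend

open Cfsg Cfsg.Agent.Lib.CharBasic Cfsg.Agent.Lib.BlockGA Cfsg.Agent.Lib.PDegreeH82 Cfsg.Agent.Lib.PNilp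
open scoped ComplexConjugate commutatorElement

universe u

variable {G : Type u} [Group G] {p : ℕ}

/-- The common kernel of a set of irreducible characters. -/
def kerSub [Finite G] (S : Set (IrrCharacter G)) : Subgroup G where
  carrier := {g | ∀ χ ∈ S, (χ : G → ℂ) g = (χ : G → ℂ) 1}
  one_mem' := fun χ _ => rfl
  mul_mem' := by
    intro a b ha hb χ hχ
    have h1 := ha χ hχ
    have h2 := hb χ hχ
    obtain ⟨n, ρ, hρ, hρχ⟩ := χ.2
    rw [← hρχ] at h1 h2 ⊢
    rw [Representation.char_one] at h1 h2 ⊢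
    rw [CharValues.character_eq_finrank_iff] at h1 h2 ⊢
    rw [map_mul, h1, h2]; rfl
  inv_mem' := by
    intro a ha χ hχ
    have h1 := ha χ hχ
    obtain ⟨n, ρ, hρ, hρχ⟩ := χ.2
    rw [← hρχ] at h1 ⊢
    rw [Representation.char_one] at h1 ⊢
    rw [CharValues.character_eq_finrank_iff] at h1 ⊢
    have h2 : ρ a⁻¹ * ρ a = 1 := by rw [← map_mul, inv_mul_cancel, map_one]
    have h3 : ρ a = 1 := h1
    rw [h3, mul_one] at h2
    exact h2

theorem mem_kerSub [Finite G] {S : Set (IrrCharacter G)} {g : G} :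
    g ∈ kerSub S ↔ ∀ χ ∈ S, (χ : G → ℂ) g = (χ : G → ℂ) 1 := Iff.rfl

instance kerSub_normal [Finite G] (S : Set (IrrCharacter G)) : (kerSub S).Normal :=
  ⟨fun n hn g χ hχ => by rw [χ.2.isClassFunction n g]; exact hn χ hχ⟩

/-- A normal subgroup is the common kernel of the irreducible characters containing it in the kernel. -/
theorem mem_of_forall_ker [Finite G] (D : Subgroup G) [D.Normal] {x : G}
    (h : ∀ χ : IrrCharacter G, (∀ n ∈ D, (χ : G → ℂ) n = (χ : G → ℂ) 1) → (χ : G → ℂ) x = (χ : G → ℂ) 1) :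
    x ∈ D := by
  classical
  by_contra hx
  have h1 := congrArg (fun z : GA G => z.coeff x) (eB_ker D)
  have h2 := congrArg (fun z : GA G => z.coeff 1) (eB_ker D)
  simp only [eB, BlockCore.normE, coeff_ofFun, if_pos D.one_mem, if_neg hx] at h1 h2
  have h3 : blockCoeff {χ : IrrCharacter G | ∀ n ∈ D, (χ : G → ℂ) n = (χ : G → ℂ) 1} x =
      blockCoeff {χ : IrrCharacter G | ∀ n ∈ D, (χ : G → ℂ) n = (χ : G → ℂ) 1} 1 := by
    rw [blockCoeff, blockCoeff]
    congr 1
    refine finsum_congr fun χ => finsum_congr fun hχ => ?_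
    rw [h χ hχ]
  rw [h1, h2] at h3
  exact inv_ne_zero (by exact_mod_cast (Nat.card_pos (α := D)).ne') h3.symm

/-- Tate: lifting `p`-nilpotence over a normal subgroup inside the Frattini subgroup of a Sylow. -/
theorem tate_lift [Finite G] [Fact p.Prime] (P : Sylow p G) (R : Subgroup G) [R.Normal]
    (hRP : R ⊓ (P : Subgroup G) ≤ (frattini P).map (P : Subgroup G).subtype)
    (hq : HasNormalPComplement p (G ⧸ R)) : HasNormalPComplement p G := by
  rw [hasNormalPComplement_iff] at hq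
  obtain ⟨V', hV', hV1, k, hk⟩ := hq
  set V := V'.comap (QuotientGroup.mk' R) with hV
  have hVk : V.index = p ^ k := by
    rw [hV, Subgroup.index_comap_of_surjective _ (QuotientGroup.mk'_surjective R), hk]
  have hVP : V ⊓ (P : Subgroup G) ≤ (frattini P).map (P : Subgroup G).subtype := by
    refine le_trans (b := R ⊓ (P : Subgroup G)) (fun x hx => ⟨?_, hx.2⟩) hRP
    have h1 : orderOf (QuotientGroup.mk' R x) ∣ Nat.card V' := by
      have : orderOf (⟨QuotientGroup.mk' R x, hx.1⟩ : V') = orderOf (QuotientGroup.mk' R x) :=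
        Subgroup.orderOf_mk _ _
      rw [← this]; exact orderOf_dvd_natCard _
    obtain ⟨j, hj⟩ := IsPGroup.iff_orderOf.1 P.2 ⟨x, hx.2⟩
    rw [Subgroup.orderOf_mk] at hj
    have h2 : orderOf (QuotientGroup.mk' R x) ∣ p ^ j := by
      rw [← hj]; exact orderOf_map_dvd _ x
    have h3 : Nat.Coprime (p ^ j) (Nat.card V') :=
      Nat.Coprime.pow_left _ ((Nat.Prime.coprime_iff_not_dvd Fact.out).2 hV1)
    have h4 : orderOf (QuotientGroup.mk' R x) = 1 := Nat.eq_one_of_dvd_coprimes h3 h2 h1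
    rw [orderOf_eq_one_iff] at h4
    exact (QuotientGroup.eq_one_iff x).1 h4
  have h5 := TateApps.tate_frattini P V hVP
  have h6 : pResidual p G ≤ V := pResidual_le_of_index V hVk
  have h7 := HasNormalPComplement.mono h6 h5
  rw [hasNormalPComplement_iff_pResidual, pResidual_pResidual, Subgroup.card_top] at h7
  rw [hasNormalPComplement_iff_pResidual]
  exact h7

/-- A self-normalizing Sylow subgroup which becomes abelian modulo `R`, `R ∩ P ≤ Φ(P)`. -/
theorem selfnormalizing [Finite G] [Fact p.Prime] (P : Sylow p G) (R : Subgroup G) [R.Normal]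
    (hRP : R ⊓ (P : Subgroup G) ≤ (frattini P).map (P : Subgroup G).subtype)
    (hab : ⁅(P : Subgroup G), (P : Subgroup G)⁆ ≤ R)
    (hN : Subgroup.normalizer ((P : Subgroup G) : Set G) ≤ P) : HasNormalPComplement p G := by
  apply tate_lift P R hRP
  set f := QuotientGroup.mk' R with hf
  have hfs : Function.Surjective f := QuotientGroup.mk'_surjective R
  apply TransferApps.hasNormalPComplement_of_normalizer_le_centralizer (P.mapSurjective hfs)
  have hcoe : ((P.mapSurjective hfs : Sylow p (G ⧸ R)) : Subgroup (G ⧸ R)) = (P : Subgroup G).map f := rfl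
  intro x' hx'
  obtain ⟨x, rfl⟩ := hfs x'
  have hx : x ∈ (P : Subgroup G) ⊔ R := by
    set L := (P : Subgroup G) ⊔ R with hL
    have hLc : L = ((P : Subgroup G).map f).comap f := by
      rw [Subgroup.comap_map_eq, hf, QuotientGroup.ker_mk']
    have h1 : ((x • P : Sylow p G) : Subgroup G) ≤ L := by
      intro y hy
      rw [Sylow.coe_subgroup_smul, Subgroup.mem_pointwise_smul_iff_inv_smul_mem] at hy
      rw [hLc, Subgroup.mem_comap]
      have h2 : x⁻¹ * y * x ∈ (P : Subgroup G) := by simpa using hy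
      have h3 : f (x⁻¹ * y * x) ∈ (P : Subgroup G).map f := ⟨_, h2, rfl⟩
      have h4 := (Subgroup.mem_set_normalizer_iff.1 hx' (f (x⁻¹ * y * x))).1 h3
      have h5 : f x * f (x⁻¹ * y * x) * (f x)⁻¹ = f y := by
        rw [← map_mul, ← map_inv, ← map_mul]; congr 1; group
      rw [h5] at h4
      exact h4
    obtain ⟨h, hh, hn⟩ := FusionControl.exists_mul_mem_normalizer P L x le_sup_left h1
    have h6 : h * x ∈ L := le_sup_left (a := (P : Subgroup G)) (hN hn)
    have := L.mul_mem (L.inv_mem hh) h6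
    rwa [inv_mul_cancel_left] at this
  have hx1 : f x ∈ (P : Subgroup G).map f := by
    have : x ∈ ((P : Subgroup G).map f).comap f := by
      rw [Subgroup.comap_map_eq, hf, QuotientGroup.ker_mk']; exact hx
    exact this
  rw [Subgroup.mem_centralizer_iff]
  intro y' hy'
  obtain ⟨y, hy, rfl⟩ : y' ∈ (P : Subgroup G).map f := hy'
  obtain ⟨w, hw, hwx⟩ := hx1
  rw [← hwx, ← map_mul, ← map_mul]
  apply QuotientGroup.eq.2
  have h1 : (y * w)⁻¹ * (w * y) = ⁅w⁻¹, y⁻¹⁆ := by rw [commutatorElement_def]; group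
  rw [h1]
  exact hab (Subgroup.commutator_mem_commutator (Subgroup.inv_mem _ hw) (Subgroup.inv_mem _ hy))

/-- For a normal Sylow subgroup: the `p'`-degree characters are those with `P'` in the kernel. -/
theorem pdegree_iff [Finite G] [hp : Fact p.Prime] (P : Subgroup G) [P.Normal] (hP : IsPGroup p P)
    (hPi : ¬ p ∣ P.index) (χ : IrrCharacter G) :
    ¬ p ∣ charDegree (χ : G → ℂ) ↔ ∀ x ∈ ⁅P, P⁆, (χ : G → ℂ) x = (χ : G → ℂ) 1 := by
  classical
  constructor
  · intro h
    have := Fintype.ofFinite (⁅P, P⁆ : Subgroup G)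
    exact ker_of_sum_ne_zero ⁅P, P⁆ χ.2
      (sum_commutator_ne_zero hp.out P hP χ.2.isCharacter h _ le_rfl)
  · intro h
    exact not_dvd_of_ker P hPi χ.2 h

theorem commutator_map_le_frattini [Finite G] [hp : Fact p.Prime] (P : Sylow p G) :
    ⁅(P : Subgroup G), (P : Subgroup G)⁆ ≤ (frattini P).map (P : Subgroup G).subtype := by
  have h1 : (commutator (P : Subgroup G)).map (P : Subgroup G).subtype = ⁅(P : Subgroup G), (P : Subgroup G)⁆ := by
    rw [commutator_def, Subgroup.map_commutator, ← MonoidHom.range_eq_map, Subgroup.range_subtype]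
  rw [← h1]
  apply Subgroup.map_mono
  exact FratFit.commutator_le_frattini P.2.isNilpotent

theorem key_step [Finite G] [hp : Fact p.Prime] (P : Sylow p G) (R O : Subgroup G) [R.Normal] [O.Normal]
    (hRN : R ⊓ Subgroup.normalizer ((P : Subgroup G) : Set G) ≤ ⁅(P : Subgroup G), (P : Subgroup G)⁆)
    (hPR : ⁅(P : Subgroup G), (P : Subgroup G)⁆ ≤ R) (hPO : (P : Subgroup G) ≤ O)
    (hON : O ⊓ Subgroup.normalizer ((P : Subgroup G) : Set G) ≤ (P : Subgroup G)) :
    HasNormalPComplement p O := by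
  have hPN : (P : Subgroup G) ≤ Subgroup.normalizer ((P : Subgroup G) : Set G) := Subgroup.le_normalizer
  have hPOc : ((P.subtype hPO : Sylow p O) : Subgroup O) = (P : Subgroup G).subgroupOf O := rfl
  have hRn : (R.subgroupOf O).Normal := inferInstance
  have hcomm : ⁅((P.subtype hPO : Sylow p O) : Subgroup O), ((P.subtype hPO : Sylow p O) : Subgroup O)⁆.map
      O.subtype = ⁅(P : Subgroup G), (P : Subgroup G)⁆ := by
    rw [Subgroup.map_commutator, hPOc, Subgroup.map_subgroupOf_eq_of_le hPO]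
  apply selfnormalizing (P.subtype hPO) (R.subgroupOf O)
  · refine le_trans ?_ (commutator_map_le_frattini (P.subtype hPO))
    intro x hx
    have h1 : (x : G) ∈ ⁅(P : Subgroup G), (P : Subgroup G)⁆ := hRN ⟨hx.1, hPN hx.2⟩
    rw [← hcomm] at h1
    obtain ⟨y, hy, hyx⟩ := h1
    have : y = x := Subtype.ext hyx
    rw [← this]; exact hy
  · intro x hx
    have h1 : (x : G) ∈ ⁅(P : Subgroup G), (P : Subgroup G)⁆ := by
      rw [← hcomm]; exact ⟨x, hx, rfl⟩
    exact hPR h1
  · intro x hx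
    have hxN : (x : G) ∈ Subgroup.normalizer ((P : Subgroup G) : Set G) := by
      rw [Subgroup.mem_set_normalizer_iff]
      rw [Subgroup.mem_set_normalizer_iff] at hx
      intro y
      constructor
      · intro hy
        exact (hx ⟨y, hPO hy⟩).1 hy
      · intro hy
        have h1 : (x : G) * y * (x : G)⁻¹ ∈ O := hPO hy
        have h2 : y ∈ O := by
          have := O.mul_mem (O.mul_mem (O.inv_mem x.2) h1) x.2
          simpa [mul_assoc] using this
        exact (hx ⟨y, h2⟩).2 hy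
    exact hON ⟨x.2, hxN⟩

theorem final_step [Finite G] [hp : Fact p.Prime] (P : Sylow p G) (O : Subgroup G) [O.Normal]
    (hPO : (P : Subgroup G) ≤ O)
    (hON : O ⊓ Subgroup.normalizer ((P : Subgroup G) : Set G) ≤ (P : Subgroup G))
    (key : HasNormalPComplement p O) :
    ∃ K : Subgroup G, K.Normal ∧ K ⊔ Subgroup.normalizer ((P : Subgroup G) : Set G) = ⊤ ∧
      K ⊓ Subgroup.normalizer ((P : Subgroup G) : Set G) = ⊥ := by
  have hPN : (P : Subgroup G) ≤ Subgroup.normalizer ((P : Subgroup G) : Set G) := Subgroup.le_normalizer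
  have hPOc : ((P.subtype hPO : Sylow p O) : Subgroup O) = (P : Subgroup G).subgroupOf O := rfl
  rw [hasNormalPComplement_iff_pResidual] at key
  have hchar : (pResidual p O).Characteristic := pResidual_characteristic p
  refine ⟨(pResidual p O).map O.subtype, inferInstance, ?_, ?_⟩
  · have h1 : (P : Subgroup G) ⊔ (pResidual p O).map O.subtype = O := by
      have h2 := congrArg (Subgroup.map O.subtype) (sylow_sup_pResidual (P.subtype hPO))
      rw [Subgroup.map_sup, hPOc, Subgroup.map_subgroupOf_eq_of_le hPO, ← MonoidHom.range_eq_map,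
        Subgroup.range_subtype] at h2
      exact h2
    have h2 := Sylow.normalizer_sup_eq_top' P hPO
    rw [eq_top_iff, ← h2]
    apply sup_le
    · exact le_sup_right
    · exact h1.ge.trans (sup_le (hPN.trans le_sup_right) le_sup_left)
  · rw [eq_bot_iff]
    intro x hx
    have h1 : x ∈ (P : Subgroup G) := hON ⟨Subgroup.map_subtype_le _ hx.1, hx.2⟩
    obtain ⟨j, hj⟩ := IsPGroup.iff_orderOf.1 P.2 ⟨x, h1⟩
    rw [Subgroup.orderOf_mk] at hj
    obtain ⟨y, hy, hyx⟩ := hx.1
    have h2 : orderOf y ∣ Nat.card (pResidual p O) := by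
      have : orderOf (⟨y, hy⟩ : pResidual p O) = orderOf y := Subgroup.orderOf_mk _ _
      rw [← this]; exact orderOf_dvd_natCard _
    have h3 : Nat.Coprime (p ^ j) (Nat.card (pResidual p O)) :=
      Nat.Coprime.pow_left _ ((Nat.Prime.coprime_iff_not_dvd Fact.out).2 key)
    have h5 : orderOf y = p ^ j := by
      rw [← hj, ← hyx]; exact (Subgroup.orderOf_coe y).symm
    rw [h5] at h2
    have h4 : p ^ j = 1 := Nat.Coprime.eq_one_of_dvd h3 h2
    rw [h4] at hj
    exact Subgroup.mem_bot.2 (orderOf_eq_one_iff.1 hj)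

/-- If all `p'`-degree characters of the Sylow normalizer extend, it has a normal complement. -/
theorem complement_of_extends [Finite G] [hp : Fact p.Prime] (P : Sylow p G)
    (h : ∀ θ : IrrCharacter (Subgroup.normalizer ((P : Subgroup G) : Set G)),
      ¬ p ∣ charDegree (θ : Subgroup.normalizer ((P : Subgroup G) : Set G) → ℂ) →
      ∃ χ : IrrCharacter G, ∀ x : Subgroup.normalizer ((P : Subgroup G) : Set G),
        (χ : G → ℂ) x = (θ : Subgroup.normalizer ((P : Subgroup G) : Set G) → ℂ) x) :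
    ∃ K : Subgroup G, K.Normal ∧ K ⊔ Subgroup.normalizer ((P : Subgroup G) : Set G) = ⊤ ∧
      K ⊓ Subgroup.normalizer ((P : Subgroup G) : Set G) = ⊥ := by
  classical
  set N := Subgroup.normalizer ((P : Subgroup G) : Set G) with hNdef
  have hPN : (P : Subgroup G) ≤ N := Subgroup.le_normalizer
  set PN : Sylow p N := P.subtype hPN with hPNdef
  have hPNc : (PN : Subgroup N) = (P : Subgroup G).subgroupOf N := rfl
  have hPNn : (PN : Subgroup N).Normal := by rw [hPNc]; exact Subgroup.normal_in_normalizer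
  have hPNi : ¬ p ∣ (PN : Subgroup N).index := PN.not_dvd_index
  have hd := fun θ : IrrCharacter N => pdegree_iff (PN : Subgroup N) PN.2 hPNi θ
  -- the extensions
  let ext : {θ : IrrCharacter N // ¬ p ∣ charDegree (θ : N → ℂ)} → IrrCharacter G :=
    fun θ => (h θ.1 θ.2).choose
  have hext : ∀ (θ : {θ : IrrCharacter N // ¬ p ∣ charDegree (θ : N → ℂ)}) (x : N),
      (ext θ : G → ℂ) x = (θ.1 : N → ℂ) x := fun θ => (h θ.1 θ.2).choose_spec
  have hext1 : ∀ (θ : {θ : IrrCharacter N // ¬ p ∣ charDegree (θ : N → ℂ)}),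
      (ext θ : G → ℂ) 1 = (θ.1 : N → ℂ) 1 := fun θ => hext θ 1
  set R := kerSub (Set.range ext) with hR
  set O := kerSub (ext '' {θ | ∀ x ∈ (PN : Subgroup N), (θ.1 : N → ℂ) x = (θ.1 : N → ℂ) 1}) with hO
  have hRO : R ≤ O := by
    intro g hg χ hχ
    obtain ⟨θ, -, rfl⟩ := hχ
    exact hg _ ⟨θ, rfl⟩
  have hRN : R ⊓ N ≤ ⁅(P : Subgroup G), (P : Subgroup G)⁆ := by
    intro x hx
    have h1 : (⟨x, hx.2⟩ : N) ∈ ⁅(PN : Subgroup N), (PN : Subgroup N)⁆ := by
      apply mem_of_forall_ker
      intro θ hθ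
      have h2 := (hd θ).2 hθ
      have h3 := hx.1 _ ⟨⟨θ, h2⟩, rfl⟩
      rw [hext1] at h3
      rw [← h3]
      exact (hext ⟨θ, h2⟩ ⟨x, hx.2⟩).symm
    have h2 := Subgroup.mem_map_of_mem N.subtype h1
    rw [Subgroup.map_commutator, hPNc, Subgroup.map_subgroupOf_eq_of_le hPN] at h2
    exact h2
  have hPR : ⁅(P : Subgroup G), (P : Subgroup G)⁆ ≤ R := by
    intro x hx
    have h0 : ⁅(PN : Subgroup N), (PN : Subgroup N)⁆.map N.subtype = ⁅(P : Subgroup G), (P : Subgroup G)⁆ := by
      rw [Subgroup.map_commutator, hPNc, Subgroup.map_subgroupOf_eq_of_le hPN]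
    rw [← h0] at hx
    obtain ⟨y, hy, rfl⟩ := hx
    rintro _ ⟨θ, rfl⟩
    rw [hext1]
    show (ext θ : G → ℂ) (y : G) = _
    rw [hext]
    exact (hd θ.1).1 θ.2 y hy
  have hPO : (P : Subgroup G) ≤ O := by
    intro x hx
    rintro _ ⟨θ, hθ, rfl⟩
    rw [hext1]
    have : (ext θ : G → ℂ) x = (θ.1 : N → ℂ) ⟨x, hPN hx⟩ := hext θ ⟨x, hPN hx⟩
    rw [this]
    exact hθ ⟨x, hPN hx⟩ hx
  have hON : O ⊓ N ≤ (P : Subgroup G) := by
    intro x hx
    have h1 : (⟨x, hx.2⟩ : N) ∈ (PN : Subgroup N) := by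
      apply mem_of_forall_ker
      intro θ hθ
      have h2 : ¬ p ∣ charDegree (θ : N → ℂ) :=
        (hd θ).2 (fun y hy => hθ y (Subgroup.commutator_le_self _ hy))
      have h3 := hx.1 _ ⟨⟨θ, h2⟩, hθ, rfl⟩
      rw [hext1] at h3
      rw [← h3]
      exact (hext ⟨θ, h2⟩ ⟨x, hx.2⟩).symm
    exact h1
  exact final_step P O hPO hON (key_step P R O hRN hPR hPO hON)

/-- The retraction onto a complement of a normal subgroup. -/
theorem exists_retraction (K N : Subgroup G) [K.Normal] (h1 : K ⊔ N = ⊤) (h2 : K ⊓ N = ⊥) :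
    ∃ f : G →* N, (∀ x : N, f x = x) ∧ ∀ k ∈ K, f k = 1 := by
  have hc : N.IsComplement' K := by
    apply Subgroup.isComplement'_of_disjoint_and_mul_eq_univ
    · rw [disjoint_iff, inf_comm]; exact h2
    · rw [← Subgroup.mul_normal, sup_comm, h1]; rfl
  refine ⟨hc.QuotientMulEquiv.toMonoidHom.comp (QuotientGroup.mk' K), fun x => ?_, fun k hk => ?_⟩
  · show hc.QuotientMulEquiv (QuotientGroup.mk' K x) = x
    rw [← MulEquiv.eq_symm_apply]
    rfl
  · show hc.QuotientMulEquiv (QuotientGroup.mk' K k) = 1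
    rw [show QuotientGroup.mk' K k = 1 from (QuotientGroup.eq_one_iff k).2 hk, map_one]

end Cfsg.Agent.Lib.SylowExtend
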