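import Cfsg.Agent.Lib.CanonExt
import Cfsg.Agent.Lib.DegRatio
import Cfsg.Agent.Lib.BlockCover2
import Cfsg.Agent.Lib.BlockIndPart
import Cfsg.Agent.Lib.CharApps
import Cfsg.Agent.Lib.SylowExtend

/-!
# Characters of degree prime to the index of a normal Hall subgroup
-/

set_option autoImplicit false
set_option linter.all false

namespace Cfsg.Agent.Lib.CoprimeCount

open Cfsg Cfsg.Agent.Lib.CharBasic Cfsg.Agent.Lib.Clifford Cfsg.Agent.Lib.CanonExt

universe u

variable {G : Type u} [Group G]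

theorem detOrder_dvd_card [Finite G] {χ : G → ℂ} (hχ : IsCharacter G χ) : detOrder χ ∣ Nat.card G := by
  obtain ⟨δ, hδ⟩ := DetChar.exists_detHom hχ
  unfold detOrder
  rw [funext hδ, LinExt.orderOf_coe, LinExt.orderOf_dvd_iff']
  intro h
  rw [← map_pow, pow_card_eq_one', map_one]

variable (K : Subgroup G) [hK : K.Normal]

theorem card_coprime_degree [Finite G] (hcop : (Nat.card K).Coprime K.index) :
    Nat.card {χ : IrrCharacter G // (charDegree (χ : G → ℂ)).Coprime K.index} =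
    Nat.card {θ : IrrCharacter K // ∀ g : G, cj K g (θ : K → ℂ) = (θ : K → ℂ)} *
      Nat.card {β : G →* ℂˣ // ∀ k ∈ K, β k = 1} := by
  classical
  have := Fintype.ofFinite G
  have := Fintype.ofFinite K
  have hex : ∀ θ : {θ : IrrCharacter K // ∀ g : G, cj K g (θ : K → ℂ) = (θ : K → ℂ)},
      ∃ χ : G → ℂ, IsIrrCharacter G χ ∧ ∀ n : K, χ n = (θ.1 : K → ℂ) n := by
    intro θ
    obtain ⟨d, hd0, hd⟩ := θ.1.2.exists_degree
    have hdc : d ∣ Nat.card K := CharApps.irr_degree_dvd_card θ.1.2 hd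
    have hoc : detOrder (θ.1 : K → ℂ) ∣ Nat.card K := detOrder_dvd_card θ.1.2.isCharacter
    obtain ⟨χ, ⟨h1, h2, -⟩, -⟩ := canonical_extension θ.1.2 θ.2 hd
      (Nat.Coprime.mul_right (Nat.Coprime.coprime_dvd_right hoc hcop.symm)
        (Nat.Coprime.coprime_dvd_right hdc hcop.symm))
    exact ⟨χ, h1, h2⟩
  choose ext hext1 hext2 using hex
  have hmulchar : ∀ (θ : {θ : IrrCharacter K // ∀ g : G, cj K g (θ : K → ℂ) = (θ : K → ℂ)})
      (β : {β : G →* ℂˣ // ∀ k ∈ K, β k = 1}),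
      IsIrrCharacter G (fun g => (β.1 g : ℂ) * ext θ g) := by
    intro θ β
    refine isIrr_of_ext θ.1.2 (χ := fun g => (β.1 g : ℂ) * ext θ g) ?_ ?_
    · exact (BrauerInd.isCharacter_hom β.1).mul (hext1 θ).isCharacter
    · intro n
      rw [β.2 n n.2, Units.val_one, one_mul, hext2]
  have hdeg : ∀ (θ : {θ : IrrCharacter K // ∀ g : G, cj K g (θ : K → ℂ) = (θ : K → ℂ)})
      (β : {β : G →* ℂˣ // ∀ k ∈ K, β k = 1}),
      (charDegree (fun g => (β.1 g : ℂ) * ext θ g)).Coprime K.index := by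
    intro θ β
    obtain ⟨d, hd0, hd⟩ := θ.1.2.exists_degree
    have hdc : d ∣ Nat.card K := CharApps.irr_degree_dvd_card θ.1.2 hd
    have h1 : charDegree (fun g => (β.1 g : ℂ) * ext θ g) = d := by
      apply BlockIndPart.charDegree_of_eq
      show (β.1 1 : ℂ) * ext θ 1 = d
      rw [map_one, Units.val_one, one_mul]
      have := hext2 θ 1
      rw [OneMemClass.coe_one] at this
      rw [this, hd]
    rw [h1]
    exact Nat.Coprime.coprime_dvd_left hdc hcop
  rw [← Nat.card_prod]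
  symm
  refine Nat.card_congr (Equiv.ofBijective
    (fun x => ⟨⟨_, hmulchar x.1 x.2⟩, hdeg x.1 x.2⟩) ⟨?_, ?_⟩)
  · rintro ⟨θ, β⟩ ⟨θ', β'⟩ h
    have h1 : (fun g => (β.1 g : ℂ) * ext θ g) = fun g => (β'.1 g : ℂ) * ext θ' g :=
      congrArg (fun x : {χ : IrrCharacter G // (charDegree (χ : G → ℂ)).Coprime K.index} => (x.1 : G → ℂ)) h
    have h2 : θ = θ' := by
      apply Subtype.ext
      apply Subtype.ext
      funext n
      have h3 := congrFun h1 n
      simp only [β.2 n n.2, β'.2 n n.2, Units.val_one, one_mul, hext2] at h3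
      exact h3
    subst h2
    have h4 : (fun g => (β.1 g : ℂ)) = (fun g => (β'.1 g : ℂ)) := by
      refine (bijOn θ.1.2 (hext1 θ) (hext2 θ)).injOn ?_ ?_ ?_
      rotate_left 2
      · funext g
        exact congrFun h1 g
      · refine ⟨(BrauerInd.isCharacter_hom β.1).isIrr_of_one_eq_one (by simp), fun n => ?_⟩
        simp [β.2 n n.2]
      · refine ⟨(BrauerInd.isCharacter_hom β'.1).isIrr_of_one_eq_one (by simp), fun n => ?_⟩
        simp [β'.2 n n.2]
    congr 1
    apply Subtype.ext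
    ext g
    exact congrFun h4 g
  · rintro ⟨χ, hχ⟩
    obtain ⟨θ, hθ⟩ := BlockCover.exists_constituent_res K χ
    obtain ⟨c, hc0, hc⟩ := χ.2.exists_degree
    obtain ⟨d, hd0, hd⟩ := θ.2.exists_degree
    obtain ⟨f, hf, hfd⟩ := DegRatio.degree_ratio χ.2 θ.2 hθ hc hd
    have hcc : charDegree (χ : G → ℂ) = c := BlockIndPart.charDegree_of_eq hc
    rw [hcc] at hχ
    have hf1 : f = 1 := by
      have h1 : f ∣ c := ⟨d, hf⟩
      have h2 := Nat.dvd_gcd h1 hfd
      rw [hχ] at h2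
      exact Nat.dvd_one.1 h2
    rw [hf1, one_mul] at hf
    have h3 := degree_le_of_constituent' (χ.2.isCharacter.restrict K) θ.2 hθ (m := c) (n := d) hc hd
    have h4 : (fun n : K => (χ : G → ℂ) n) = (θ : K → ℂ) := h3.2 hf.le
    have h5 : ∀ n : K, (χ : G → ℂ) n = (θ : K → ℂ) n := fun n => congrFun h4 n
    have hinv := fun g => cj_eq_of_ext χ.2.isClassFunction h5 g
    obtain ⟨β, hβ1, hβ2⟩ := exists_linear_twist θ.2 (hext1 ⟨θ, hinv⟩) (hext2 ⟨θ, hinv⟩) χ.2 h5
    refine ⟨⟨⟨θ, hinv⟩, ⟨β, fun k hk => hβ1 ⟨k, hk⟩⟩⟩, ?_⟩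
    apply Subtype.ext
    apply Subtype.ext
    exact hβ2.symm

/-- linear characters trivial on `K` are those of a complement. -/
theorem card_lin [Finite G] (H : Subgroup G) (h1 : K ⊔ H = ⊤) (h2 : K ⊓ H = ⊥) :
    Nat.card {β : G →* ℂˣ // ∀ k ∈ K, β k = 1} = Nat.card (H →* ℂˣ) := by
  obtain ⟨f, hf1, hf2⟩ := SylowExtend.exists_retraction K H h1 h2
  refine Nat.card_congr
    { toFun := fun β => β.1.comp H.subtype
      invFun := fun l => ⟨l.comp f, fun k hk => by rw [MonoidHom.comp_apply, hf2 k hk, map_one]⟩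
      left_inv := ?_
      right_inv := ?_ }
  · intro β
    apply Subtype.ext
    refine MonoidHom.ext fun g => ?_
    have hg : g ∈ ((K ⊔ H : Subgroup G) : Set G) := by rw [h1]; exact Subgroup.mem_top g
    rw [Subgroup.normal_mul] at hg
    obtain ⟨k, hk, h, hh, rfl⟩ := hg
    show β.1 (f (k * h)) = β.1 (k * h)
    rw [map_mul, map_mul, hf2 k hk, one_mul, β.2 k hk, one_mul]
    congr 1
    exact congrArg Subtype.val (hf1 ⟨h, hh⟩)
  · intro l
    refine MonoidHom.ext fun h => ?_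
    show l (f h) = l h
    rw [hf1]

end Cfsg.Agent.Lib.CoprimeCount
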