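import Mathlib.GroupTheory.Sylow
import Mathlib.GroupTheory.OrderOfElement
import Mathlib.Algebra.Group.End
import Mathlib.Tactic.Group

/-!
The norm map for the action of a finite group on an abelian group of coprime order (relative to a subgroup `H`).
-/

set_option autoImplicit false
set_option maxHeartbeats 400000

namespace Cfsg.Agent.Lib.CoprimeNorm

variable {A Z : Type*} [Group A] [CommGroup Z] [Finite A]

theorem exists_norm (ρ : A →* MulAut Z) (H : Subgroup A) : ∃ N : Z →* Z,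
    (∀ z, (∀ a, ρ a z = z) → N z = z ^ H.index) ∧
    (∀ z, (∀ h ∈ H, ρ h z = z) → ∀ a, ρ a (N z) = N z) ∧
    (∀ (K : Subgroup Z) (z : Z), (∀ a, ρ a z * z⁻¹ ∈ K) → N z * (z ^ H.index)⁻¹ ∈ K) := by
  classical
  haveI : Fintype (A ⧸ H) := Fintype.ofFinite _
  let N : Z →* Z :=
    { toFun := fun z => ∏ c : A ⧸ H, ρ c.out z
      map_one' := by simp
      map_mul' := fun x y => by
        simp only [map_mul]
        rw [Finset.prod_mul_distrib] }
  have hN : ∀ z, N z = ∏ c : A ⧸ H, ρ c.out z := fun _ => rfl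
  have hidx : H.index = Fintype.card (A ⧸ H) := by
    rw [Subgroup.index, Nat.card_eq_fintype_card]
  refine ⟨N, fun z hz => ?_, fun z hz a => ?_, fun K z hz => ?_⟩
  · rw [hN, Finset.prod_congr rfl (fun c _ => hz _), Finset.prod_const, Finset.card_univ, hidx]
  · rw [hN, map_prod]
    rw [← Equiv.prod_comp (MulAction.toPerm a) (fun c : A ⧸ H => ρ c.out z)]
    refine Finset.prod_congr rfl fun c _ => ?_
    have h1 : (QuotientGroup.mk (a * c.out) : A ⧸ H) = QuotientGroup.mk ((a • c : A ⧸ H).out) := by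
      rw [QuotientGroup.out_eq']
      show a • (QuotientGroup.mk c.out : A ⧸ H) = _
      rw [QuotientGroup.out_eq']
    have h2 := QuotientGroup.eq.1 h1
    have h3 := hz _ h2
    show ρ a (ρ c.out z) = ρ (a • c : A ⧸ H).out z
    conv_rhs => rw [show (a • c : A ⧸ H).out = (a * c.out) * ((a * c.out)⁻¹ * (a • c : A ⧸ H).out) by group]
    rw [map_mul ρ (a * c.out), MulAut.mul_apply, h3, map_mul, MulAut.mul_apply]
  · have h1 : N z * (z ^ H.index)⁻¹ = ∏ c : A ⧸ H, (ρ c.out z * z⁻¹) := by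
      rw [Finset.prod_mul_distrib, Finset.prod_inv_distrib, Finset.prod_const, Finset.card_univ, hidx, hN]
    rw [h1]
    exact Subgroup.prod_mem _ (fun c _ => hz _)

theorem pow_eq_one_of_coprime {m : ℕ} {Z : Type*} [Group Z] (hm : (Nat.card Z).Coprime m) {z : Z} (h : z ^ m = 1) :
    z = 1 := by
  have h3 : orderOf z ∣ m := orderOf_dvd_of_pow_eq_one h
  exact orderOf_eq_one_iff.1 (Nat.eq_one_of_dvd_coprimes hm (orderOf_dvd_natCard z) h3)

/-- every element is an `m`-th power of a power of itself -/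
theorem exists_pow_eq {m : ℕ} {Z : Type*} [Group Z] (hm : (Nat.card Z).Coprime m) (z : Z) :
    ∃ k : ℕ, (z ^ m) ^ k = z := by
  have h1 : (orderOf z).Coprime m := Nat.Coprime.coprime_dvd_left (orderOf_dvd_natCard z) hm
  have h2 := exists_pow_eq_self_of_coprime h1.symm
  exact h2

/-- Coprime decomposition relative to a subgroup. -/
theorem exists_complement (ρ : A →* MulAut Z) (H : Subgroup A) (hm : (Nat.card Z).Coprime H.index) :
    ∃ K : Subgroup Z, (∀ z ∈ K, ∀ h ∈ H, ρ h z = z) ∧ (∀ z ∈ K, (∀ a, ρ a z = z) → z = 1) ∧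
      ∀ z, (∀ h ∈ H, ρ h z = z) → ∃ k ∈ K, ∃ c, (∀ a, ρ a c = c) ∧ k * c = z := by
  obtain ⟨N, hN1, hN2, -⟩ := exists_norm ρ H
  let V : Subgroup Z :=
    { carrier := {z | ∀ h ∈ H, ρ h z = z}
      one_mem' := fun h _ => map_one _
      mul_mem' := fun {a b} ha hb h hh => by rw [map_mul, ha h hh, hb h hh]
      inv_mem' := fun {a} ha h hh => by rw [map_inv, ha h hh] }
  refine ⟨V ⊓ N.ker, fun z hz => hz.1, fun z hz hz2 => ?_, fun z hz => ?_⟩
  · have h1 : N z = 1 := hz.2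
    rw [hN1 z hz2] at h1
    exact pow_eq_one_of_coprime hm h1
  · obtain ⟨k, hk⟩ := exists_pow_eq hm z
    have hzV : z ∈ V := hz
    have hNz : ∀ a, ρ a (N z) = N z := hN2 z hz
    have hNV : N z ∈ V := fun h _ => hNz h
    refine ⟨(z ^ H.index * (N z)⁻¹) ^ k, V.toSubmonoid.pow_mem ?_ k |> fun h => ⟨h, ?_⟩, (N z) ^ k, fun a => ?_, ?_⟩
    · exact V.mul_mem (V.pow_mem hzV _) (V.inv_mem hNV)
    · show N ((z ^ H.index * (N z)⁻¹) ^ k) = 1
      rw [map_pow, map_mul, map_inv, map_pow, hN1 _ hNz, mul_inv_cancel, one_pow]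
    · rw [map_pow, hNz]
    · rw [← mul_pow, inv_mul_cancel_right, hk]


theorem exists_norm_full (ρ : A →* MulAut Z) : ∃ N : Z →* Z,
    (∀ z, (∀ a, ρ a z = z) → N z = z ^ Nat.card A) ∧ (∀ z a, ρ a (N z) = N z) ∧ (∀ z a, N (ρ a z) = N z) ∧
    (∀ (K : Subgroup Z) (z : Z), (∀ a, ρ a z * z⁻¹ ∈ K) → N z * (z ^ Nat.card A)⁻¹ ∈ K) := by
  classical
  haveI : Fintype A := Fintype.ofFinite _
  let N : Z →* Z :=
    { toFun := fun z => ∏ a : A, ρ a z
      map_one' := by simp
      map_mul' := fun x y => by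
        simp only [map_mul]
        rw [Finset.prod_mul_distrib] }
  have hN : ∀ z, N z = ∏ a : A, ρ a z := fun _ => rfl
  refine ⟨N, fun z hz => ?_, fun z a => ?_, fun z a => ?_, fun K z hz => ?_⟩
  · rw [hN, Finset.prod_congr rfl (fun c _ => hz _), Finset.prod_const, Finset.card_univ, Nat.card_eq_fintype_card]
  · rw [hN, map_prod, ← Equiv.prod_comp (Equiv.mulLeft a) (fun c : A => ρ c z)]
    refine Finset.prod_congr rfl fun c _ => ?_
    rw [Equiv.coe_mulLeft, map_mul, MulAut.mul_apply]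
  · rw [hN, hN, ← Equiv.prod_comp (Equiv.mulRight a) (fun c : A => ρ c z)]
    refine Finset.prod_congr rfl fun c _ => ?_
    rw [Equiv.coe_mulRight, map_mul, MulAut.mul_apply]
  · have h1 : N z * (z ^ Nat.card A)⁻¹ = ∏ a : A, (ρ a z * z⁻¹) := by
      rw [Finset.prod_mul_distrib, Finset.prod_inv_distrib, Finset.prod_const, Finset.card_univ,
        Nat.card_eq_fintype_card, hN]
    rw [h1]
    exact Subgroup.prod_mem _ (fun c _ => hz _)

/-- Coprime action on an abelian group: fixed points and commutators. -/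
theorem coprime_decomp (ρ : A →* MulAut Z) (hm : (Nat.card Z).Coprime (Nat.card A)) :
    (∀ z ∈ Subgroup.closure {y : Z | ∃ a z, y = ρ a z * z⁻¹}, (∀ a, ρ a z = z) → z = 1) ∧
    ∀ z, ∃ k ∈ Subgroup.closure {y : Z | ∃ a z, y = ρ a z * z⁻¹}, ∃ c, (∀ a, ρ a c = c) ∧ k * c = z := by
  obtain ⟨N, h1, h2, h3, h4⟩ := exists_norm_full ρ
  constructor
  · intro z hz hfix
    have h5 : Subgroup.closure {y : Z | ∃ a z, y = ρ a z * z⁻¹} ≤ N.ker := by
      rw [Subgroup.closure_le]
      rintro y ⟨a, z, rfl⟩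
      show N (ρ a z * z⁻¹) = 1
      rw [map_mul, map_inv, h3, mul_inv_cancel]
    have h6 : N z = 1 := h5 hz
    rw [h1 z hfix] at h6
    exact pow_eq_one_of_coprime hm h6
  · intro z
    obtain ⟨k, hk⟩ := exists_pow_eq hm z
    have h5 := h4 (Subgroup.closure {y : Z | ∃ a z, y = ρ a z * z⁻¹}) z (fun a => Subgroup.subset_closure ⟨a, z, rfl⟩)
    refine ⟨(z ^ Nat.card A * (N z)⁻¹) ^ k, Subgroup.pow_mem _ ?_ k, (N z) ^ k, fun a => ?_, ?_⟩
    · have := Subgroup.inv_mem _ h5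
      rwa [mul_inv_rev, inv_inv] at this
    · rw [map_pow, h2]
    · rw [← mul_pow, inv_mul_cancel_right, hk]

end Cfsg.Agent.Lib.CoprimeNorm
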