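import Mathlib

set_option autoImplicit false

/-!
Linear representations of a finite group `H` (characteristic prime to `|H|`) spanned by one orbit:
fixed vectors, and vectors whose orbit length is coprime to the spanning orbit.
-/

namespace Cfsg.Agent.Lib.CoprimeOrbitLin

open Subgroup

variable {k V H : Type*} [Field k] [AddCommGroup V] [Module k V] [Group H]

/-- The stabiliser of a vector. -/
def stab (ρ : Representation k H V) (v : V) : Subgroup H where
  carrier := {h | ρ h v = v}
  mul_mem' := by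
    intro a b ha hb
    show ρ (a * b) v = v
    have ha' : ρ a v = v := ha
    have hb' : ρ b v = v := hb
    rw [map_mul, Module.End.mul_apply, hb', ha']
  one_mem' := by show ρ 1 v = v; rw [map_one]; rfl
  inv_mem' := by
    intro a ha
    have ha' : ρ a v = v := ha
    show ρ a⁻¹ v = v
    calc ρ a⁻¹ v = ρ a⁻¹ (ρ a v) := by rw [ha']
      _ = (ρ a⁻¹ * ρ a) v := rfl
      _ = v := by rw [← map_mul, inv_mul_cancel, map_one]; rfl

theorem mem_stab (ρ : Representation k H V) (v : V) (h : H) : h ∈ stab ρ v ↔ ρ h v = v := Iff.rfl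

theorem rho_mul (ρ : Representation k H V) (g h : H) (v : V) : ρ (g * h) v = ρ g (ρ h v) := by
  rw [map_mul]; rfl

/-- orbit size = index of the stabiliser -/
theorem card_orbit (ρ : Representation k H V) (v : V) :
    Nat.card {u : V | ∃ h : H, ρ h v = u} = (stab ρ v).index := by
  symm
  let f : H ⧸ stab ρ v → {u : V | ∃ h : H, ρ h v = u} :=
    fun q => Quotient.liftOn' q (fun h => ⟨ρ h v, h, rfl⟩) (by
      intro g h hgh
      rw [QuotientGroup.leftRel_apply, mem_stab] at hgh
      apply Subtype.ext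
      show ρ g v = ρ h v
      calc ρ g v = ρ g (ρ (g⁻¹ * h) v) := by rw [hgh]
        _ = ρ h v := by rw [← rho_mul, mul_inv_cancel_left])
  refine Nat.card_congr (Equiv.ofBijective f ⟨?_, ?_⟩)
  · intro q₁ q₂
    refine Quotient.inductionOn₂' q₁ q₂ ?_
    intro g h hgh
    have h' : ρ g v = ρ h v := congrArg Subtype.val hgh
    apply Quotient.sound'
    rw [QuotientGroup.leftRel_apply, mem_stab, rho_mul, ← h', ← rho_mul, inv_mul_cancel, map_one]
    rfl
  · rintro ⟨u, h, rfl⟩
    exact ⟨Quotient.mk'' h, rfl⟩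

/-- subgroups of coprime index factorise the group -/
theorem exists_mul_eq_of_coprime_index [Finite H] (A B : Subgroup H) (hcop : A.index.Coprime B.index) (h : H) :
    ∃ b ∈ B, ∃ a ∈ A, b * a = h := by
  -- A.relIndex B = A.index
  have h1 : (A ⊓ B).index = A.relIndex B * B.index := by
    rw [← Subgroup.inf_relIndex_right]
    exact (Subgroup.relIndex_mul_index inf_le_right).symm
  have h2 : A.index ∣ A.relIndex B * B.index := by
    rw [← h1]; exact Subgroup.index_dvd_of_le inf_le_left
  have h3 : A.index ∣ A.relIndex B := hcop.dvd_of_dvd_mul_right h2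
  -- the map B ⧸ (A ∩ B) → H ⧸ A is injective, hence bijective
  let f : B ⧸ A.subgroupOf B → H ⧸ A := fun q => Quotient.liftOn' q (fun b => (QuotientGroup.mk (b : H) : H ⧸ A)) (by
      intro b c hbc
      rw [QuotientGroup.leftRel_apply] at hbc
      exact QuotientGroup.eq.2 hbc)
  have hf : Function.Injective f := by
    intro q₁ q₂
    refine Quotient.inductionOn₂' q₁ q₂ ?_
    intro b c hbc
    apply Quotient.sound'
    rw [QuotientGroup.leftRel_apply]
    have hbc' : (QuotientGroup.mk (b : H) : H ⧸ A) = QuotientGroup.mk (c : H) := hbc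
    show (b : H)⁻¹ * (c : H) ∈ A
    exact QuotientGroup.eq.1 hbc'
  have hcard : Nat.card (H ⧸ A) ≤ Nat.card (B ⧸ A.subgroupOf B) :=
    Nat.le_of_dvd (Nat.pos_of_ne_zero (Subgroup.index_ne_zero_of_finite (H := A.subgroupOf B))) h3
  have hsurj : Function.Surjective f :=
    (Function.Injective.bijective_of_nat_card_le hf hcard).2
  obtain ⟨q, hq⟩ := hsurj (QuotientGroup.mk h)
  obtain ⟨b, rfl⟩ := QuotientGroup.mk_surjective q
  have h4 : (b : H)⁻¹ * h ∈ A := QuotientGroup.eq.1 hq
  exact ⟨b, b.2, _, h4, mul_inv_cancel_left _ _⟩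

variable [Finite H]

/-- The sum over a subgroup, as a linear map. -/
noncomputable def avg (ρ : Representation k H V) (B : Subgroup H) : V →ₗ[k] V :=
  letI := Fintype.ofFinite B
  ∑ g : B, ρ (g : H)

theorem avg_apply (ρ : Representation k H V) (B : Subgroup H) (v : V) :
    avg ρ B v = (letI := Fintype.ofFinite B; ∑ g : B, ρ (g : H) v) := by
  simp [avg, LinearMap.sum_apply]

theorem avg_rho (ρ : Representation k H V) (B : Subgroup H) (v : V) (g : H) (hg : g ∈ B) :
    avg ρ B (ρ g v) = avg ρ B v := by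
  let _ := Fintype.ofFinite B
  rw [avg_apply, avg_apply]
  refine Fintype.sum_equiv (Equiv.mulRight (⟨g, hg⟩ : B)) _ _ ?_
  intro x
  rw [← rho_mul]; rfl

theorem rho_avg (ρ : Representation k H V) (B : Subgroup H) (v : V) (g : H) (hg : g ∈ B) :
    ρ g (avg ρ B v) = avg ρ B v := by
  let _ := Fintype.ofFinite B
  rw [avg_apply, map_sum]
  refine Fintype.sum_equiv (Equiv.mulLeft (⟨g, hg⟩ : B)) _ _ ?_
  intro x
  rw [← rho_mul]; rfl

theorem avg_of_fixed (ρ : Representation k H V) (B : Subgroup H) (v : V) (hv : ∀ g ∈ B, ρ g v = v) :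
    avg ρ B v = (Nat.card B : k) • v := by
  let _ := Fintype.ofFinite B
  rw [avg_apply, Finset.sum_congr rfl (fun (g : B) _ => hv g g.2), Finset.sum_const, Finset.card_univ,
    Nat.card_eq_fintype_card, Nat.cast_smul_eq_nsmul]

/-- `Σ_{g∈B} g` after `Σ_{h∈H} h`. -/
theorem avg_avg_top (ρ : Representation k H V) (B : Subgroup H) (v : V) :
    avg ρ B (avg ρ ⊤ v) = (Nat.card B : k) • avg ρ ⊤ v :=
  avg_of_fixed ρ B _ (fun g _ => rho_avg ρ ⊤ v g (mem_top g))

/-- The main lemma: the orbit of `a` spans `V`, `|H|` invertible in `k`, and `B` is a subgroup with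
`H = B * stab(a)`; then every vector fixed by `B` is a multiple of `Σ_h h a`. -/
theorem mem_span_of_fixed (ρ : Representation k H V) (hH : (Nat.card H : k) ≠ 0) (a : V)
    (hspan : Submodule.span k {u : V | ∃ h : H, ρ h a = u} = ⊤) (B : Subgroup H)
    (hB : ∀ h : H, ∃ b ∈ B, ∃ s ∈ stab ρ a, b * s = h) (v : V) (hv : ∀ g ∈ B, ρ g v = v) :
    v ∈ Submodule.span k {avg ρ ⊤ a} := by
  -- avg_B of any orbit element is avg_B a
  have h1 : ∀ h : H, avg ρ B (ρ h a) = avg ρ B a := by
    intro h
    obtain ⟨b, hb, s, hs, rfl⟩ := hB h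
    rw [rho_mul, (mem_stab ρ a s).1 hs, avg_rho ρ B a b hb]
  have hBne : (Nat.card B : k) ≠ 0 := by
    intro h0
    apply hH
    obtain ⟨c, hc⟩ := Subgroup.card_subgroup_dvd_card B
    rw [hc, Nat.cast_mul, h0, zero_mul]
  -- |H| avg_B a = |B| avg_H a
  have h2 : (Nat.card H : k) • avg ρ B a = (Nat.card B : k) • avg ρ ⊤ a := by
    rw [← avg_avg_top]
    let _ := Fintype.ofFinite (⊤ : Subgroup H)
    rw [avg_apply ρ ⊤, map_sum, Finset.sum_congr rfl (fun (g : (⊤ : Subgroup H)) _ => h1 g),
      Finset.sum_const, Finset.card_univ, ← Nat.card_eq_fintype_card, Subgroup.card_top,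
      Nat.cast_smul_eq_nsmul]
  have h3 : avg ρ B a ∈ Submodule.span k {avg ρ ⊤ a} := by
    have h4 : avg ρ B a = ((Nat.card H : k)⁻¹ * (Nat.card B : k)) • avg ρ ⊤ a := by
      rw [mul_smul, ← h2, smul_smul, inv_mul_cancel₀ hH, one_smul]
    rw [h4]
    exact Submodule.smul_mem _ _ (Submodule.mem_span_singleton_self _)
  have h4 : ∀ w : V, avg ρ B w ∈ Submodule.span k {avg ρ ⊤ a} := by
    intro w
    have hw : w ∈ Submodule.span k {u : V | ∃ h : H, ρ h a = u} := hspan ▸ Submodule.mem_top
    induction hw using Submodule.span_induction with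
    | mem x hx =>
      obtain ⟨h, rfl⟩ := hx
      rw [h1]; exact h3
    | zero => rw [map_zero]; exact Submodule.zero_mem _
    | add x y _ _ hx hy => rw [map_add]; exact Submodule.add_mem _ hx hy
    | smul c x _ hx => rw [map_smul]; exact Submodule.smul_mem _ _ hx
  have h5 : v = (Nat.card B : k)⁻¹ • avg ρ B v := by
    rw [avg_of_fixed ρ B v hv, smul_smul, inv_mul_cancel₀ hBne, one_smul]
  rw [h5]
  exact Submodule.smul_mem _ _ (h4 v)

theorem fixed_of_mem_span (ρ : Representation k H V) (a v : V) (hv : v ∈ Submodule.span k {avg ρ ⊤ a}) (h : H) :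
    ρ h v = v := by
  obtain ⟨c, rfl⟩ := Submodule.mem_span_singleton.1 hv
  rw [map_smul, rho_avg ρ ⊤ a h (mem_top h)]

/-- dimension of the fixed space and fixedness of vectors with coprime orbit -/
theorem main (ρ : Representation k H V) (hH : (Nat.card H : k) ≠ 0) (a : V)
    (hspan : Submodule.span k {u : V | ∃ h : H, ρ h a = u} = ⊤) :
    ρ.invariants ≤ Submodule.span k {avg ρ ⊤ a} ∧
    ∀ b : V, (stab ρ a).index.Coprime (stab ρ b).index → b ∈ Submodule.span k {avg ρ ⊤ a} := by
  constructor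
  · intro v hv
    refine mem_span_of_fixed ρ hH a hspan ⊤ (fun h => ⟨h, mem_top h, 1, one_mem _, mul_one h⟩) v ?_
    intro g _
    exact hv g
  · intro b hcop
    exact mem_span_of_fixed ρ hH a hspan (stab ρ b) (fun h => exists_mul_eq_of_coprime_index _ _ hcop h) b
      (fun g hg => hg)

theorem finrank_le_one_of_le_span {W : Submodule k V} {v : V} (h : W ≤ Submodule.span k {v}) :
    Module.finrank k W ≤ 1 := by
  have h1 : Module.finrank k (Submodule.span k {v}) ≤ 1 := by
    by_cases hv : v = 0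
    · rw [hv, Submodule.span_singleton_eq_bot.2 rfl, finrank_bot]; exact Nat.zero_le 1
    · rw [finrank_span_singleton hv]
  exact (Submodule.finrank_mono h).trans h1

end Cfsg.Agent.Lib.CoprimeOrbitLin
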