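import Cfsg.Agent.Lib.PairMax

/-!
# A normal `p'`-subgroup `K` with a stable simple block that extends to `L = KQ`

If `w` is a central idempotent of `kG` below `ε` with `br_Q(w) = 0`, then `w = 0`.
-/

set_option autoImplicit false

namespace Cfsg.Agent.Lib.CoverUp

open Cfsg.Agent.Lib.BrauerMap Cfsg.Agent.Lib.BlkIdem

section fix

/-- A `p`-group acting additively on an elementary abelian group has a nonzero fixed point in the
closure of any orbit. -/
theorem exists_fixed_vec {p : ℕ} [hp : Fact p.Prime] {P : Type*} [Group P] [Finite P]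
    (hP : IsPGroup p P) {V : Type*} [AddCommGroup V] (hV : ∀ v : V, p • v = 0) (f : P → V →+ V)
    (hf : ∀ (g h : P) (v : V), f (g * h) v = f g (f h v)) {v0 : V} (h1 : f 1 v0 = v0)
    (h0 : v0 ≠ 0) :
    ∃ v ≠ 0, v ∈ AddSubgroup.closure (Set.range fun g => f g v0) ∧ ∀ g, f g v = v := by
  classical
  set W := AddSubgroup.closure (Set.range fun g => f g v0) with hW
  have hstab : ∀ g, ∀ w ∈ W, f g w ∈ W := by
    intro g w hw
    have h2 : W ≤ W.comap (f g) := by
      rw [hW, AddSubgroup.closure_le]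
      rintro _ ⟨h, rfl⟩
      show f g (f h v0) ∈ W
      rw [← hf]
      exact AddSubgroup.subset_closure ⟨g * h, rfl⟩
    exact h2 hw
  have hone : ∀ w ∈ W, f 1 w = w := by
    intro w hw
    have h2 : W ≤ (f 1 - AddMonoidHom.id V).ker := by
      rw [hW, AddSubgroup.closure_le]
      rintro _ ⟨h, rfl⟩
      show (f 1 - AddMonoidHom.id V) (f h v0) = 0
      rw [AddMonoidHom.sub_apply, ← hf, one_mul, AddMonoidHom.id_apply, sub_self]
    have h3 : (f 1 - AddMonoidHom.id V) w = 0 := h2 hw
    rw [AddMonoidHom.sub_apply, AddMonoidHom.id_apply, sub_eq_zero] at h3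
    exact h3
  have hfin : Finite W := by
    have hfg : AddGroup.FG W := by
      rw [AddGroup.fg_iff_addSubgroup_fg]
      exact ⟨(Set.finite_range fun g => f g v0).toFinset, by rw [Set.Finite.coe_toFinset]⟩
    refine AddCommGroup.finite_of_fg_isAddTorsion W ?_
    intro w
    rw [isOfFinAddOrder_iff_nsmul_eq_zero]
    exact ⟨p, hp.out.pos, Subtype.ext (hV w)⟩
  let act : MulAction P W :=
    { smul := fun g w => ⟨f g w, hstab g w w.2⟩
      one_smul := fun w => Subtype.ext (hone w w.2)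
      mul_smul := fun g h w => Subtype.ext (hf g h w) }
  have hv0 : v0 ∈ W := by
    have : f 1 v0 ∈ W := AddSubgroup.subset_closure ⟨1, rfl⟩
    rwa [h1] at this
  have hdvd : p ∣ Nat.card W := by
    have h2 : addOrderOf (⟨v0, hv0⟩ : W) = p := by
      refine addOrderOf_eq_prime (Subtype.ext (hV v0)) ?_
      intro h
      exact h0 (congrArg Subtype.val h)
    rw [← h2]
    exact addOrderOf_dvd_natCard _
  have h0W : (0 : W) ∈ MulAction.fixedPoints P W := by
    intro g
    exact Subtype.ext (map_zero (f g))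
  obtain ⟨w, hw, hw0⟩ := hP.exists_fixed_point_of_prime_dvd_card_of_fixed_point W hdvd h0W
  refine ⟨w, fun h => hw0 (Subtype.ext h.symm), w.2, fun g => congrArg Subtype.val (hw g)⟩

end fix

section star

variable {p : ℕ} [hp : Fact p.Prime] {k : Type*} [Field k] [CharP k p] {G : Type*} [Group G]
  [Finite G]

/-- the data: `x` is the reduction of a character of `L` extending a `G`-invariant irreducible
character of the normal subgroup `K`, `c` its degree divided by `|K|`. -/
structure ExtData (K L : Subgroup G) (c : k) (x : G → k) : Prop where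
  le : K ≤ L
  comm : ∀ g ∈ L, ∀ h ∈ L, x (g * h) = x (h * g)
  conv : ∀ [Fintype G] [DecidablePred (· ∈ K)], ∀ a ∈ L, ∀ b ∈ L,
    c * ∑ y : G with y ∈ K, x (a * y) * x (y⁻¹ * b) = x (a * b)
  inv : ∀ h : G, ∀ l ∈ L, x (h * l * h⁻¹) = x l

variable {K L : Subgroup G} {c : k} {x : G → k}

open Classical in
/-- the element of `kK` acting like `l` -/
noncomputable def rr (K : Subgroup G) (c : k) (x : G → k) (l : G) : MonoidAlgebra k G :=
  ofFun fun g => if g ∈ K then c * x (g⁻¹ * l) else 0

theorem rr_coeff_mem {l g : G} (hg : g ∈ K) : (rr K c x l).coeff g = c * x (g⁻¹ * l) := by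
  rw [rr, ofFun_coeff, if_pos hg]

theorem rr_coeff_not_mem {l g : G} (hg : g ∉ K) : (rr K c x l).coeff g = 0 := by
  rw [rr, ofFun_coeff, if_neg hg]

theorem rr_mem_supp (l : G) : rr K c x l ∈ suppAlg k K := fun _ hg => rr_coeff_not_mem hg

theorem rr_mul (h : ExtData K L c x) {l m : G} (hl : l ∈ L) (hm : m ∈ L) :
    rr K c x l * rr K c x m = rr K c x (l * m) := by
  classical
  have := Fintype.ofFinite G
  apply ext_coeff; intro z
  by_cases hz : z ∈ K
  · rw [rr_coeff_mem hz, mul_coeff]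
    have h1 : ∀ y : G, (rr K c x l).coeff y * (rr K c x m).coeff (y⁻¹ * z) =
        if y⁻¹ ∈ K then c * (c * (x (l * y⁻¹) * x ((y⁻¹)⁻¹ * (m * z⁻¹)))) else 0 := by
      intro y
      by_cases hy : y ∈ K
      · rw [if_pos (inv_mem hy), rr_coeff_mem hy, rr_coeff_mem (mul_mem (inv_mem hy) hz),
          h.comm _ (h.le (inv_mem hy)) _ hl, mul_inv_rev, inv_inv]
        have h2 : x (z⁻¹ * y * m) = x (y * (m * z⁻¹)) := by
          rw [mul_assoc, h.comm _ (h.le (inv_mem hz)) _ (mul_mem (h.le hy) hm), mul_assoc]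
        rw [h2]; ring
      · rw [if_neg (fun hc => hy (by simpa using inv_mem hc)), rr_coeff_not_mem hy, zero_mul]
    rw [Finset.sum_congr rfl fun y _ => h1 y]
    have h2 := Equiv.sum_comp (Equiv.inv G)
      (fun y => if y ∈ K then c * (c * (x (l * y) * x (y⁻¹ * (m * z⁻¹)))) else 0)
    simp only [Equiv.inv_apply] at h2
    rw [h2, ← Finset.sum_filter, ← Finset.mul_sum, ← Finset.mul_sum,
      h.conv l hl (m * z⁻¹) (mul_mem hm (h.le (inv_mem hz)))]
    congr 1
    rw [← mul_assoc, h.comm _ (mul_mem hl hm) _ (h.le (inv_mem hz))]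
  · rw [rr_coeff_not_mem hz]
    exact Subalgebra.mul_mem _ (rr_mem_supp l) (rr_mem_supp m) z hz

theorem cj_rr (hN : K.Normal) (h : ExtData K L c x) (g : G) {l : G} (hl : l ∈ L) :
    cj g (rr K c x l) = rr K c x (g * l * g⁻¹) := by
  apply ext_coeff; intro z
  rw [cj_coeff]
  have hiff : g⁻¹ * z * g ∈ K ↔ z ∈ K := by
    constructor
    · intro hz
      have := hN.conj_mem _ hz g
      have e1 : g * (g⁻¹ * z * g) * g⁻¹ = z := by group
      rwa [e1] at this
    · intro hz
      have := hN.conj_mem _ hz g⁻¹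
      rwa [inv_inv] at this
  by_cases hz : z ∈ K
  · rw [rr_coeff_mem hz, rr_coeff_mem (hiff.mpr hz)]
    have h1 := h.inv g ((g⁻¹ * z * g)⁻¹ * l) (mul_mem (h.le (inv_mem (hiff.mpr hz))) hl)
    rw [← h1]
    congr 2
    group
  · rw [rr_coeff_not_mem hz, rr_coeff_not_mem (fun hc => hz (hiff.mp hc))]

/-- the group element `g` in `kG` -/
noncomputable def sg (k : Type*) [CommRing k] {G : Type*} [Group G] (g : G) : MonoidAlgebra k G :=
  MonoidAlgebra.single g 1

omit [Finite G] in
theorem sg_mul (g h : G) : sg k (g * h) = sg k g * sg k h := by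
  unfold sg; rw [MonoidAlgebra.single_mul_single, one_mul]

omit [Finite G] in
theorem sg_one : sg k (1 : G) = 1 := rfl

theorem sg_cj (g : G) (a : MonoidAlgebra k G) : cj g a = sg k g * a * sg k g⁻¹ := by
  classical
  have := Fintype.ofFinite G
  apply ext_coeff; intro z
  rw [cj_coeff, sg, sg, MonoidAlgebra.coeff_mul_single_apply, MonoidAlgebra.coeff_single_mul_apply]
  rw [one_mul, mul_one, inv_inv, mul_assoc]

theorem sg_mul_comm (g : G) (a : MonoidAlgebra k G) : sg k g * a = cj g a * sg k g := by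
  rw [sg_cj, mul_assoc, ← sg_mul, inv_mul_cancel, sg_one, mul_one]

/-- the element `U(l) = r(l⁻¹) l`, which centralizes `kK` -/
noncomputable def uu (K : Subgroup G) (c : k) (x : G → k) (l : G) : MonoidAlgebra k G :=
  rr K c x l⁻¹ * sg k l

theorem uu_mul (hN : K.Normal) (h : ExtData K L c x) {l m : G} (hl : l ∈ L) (hm : m ∈ L) :
    uu K c x l * uu K c x m = uu K c x (l * m) := by
  unfold uu
  have e1 : rr K c x l⁻¹ * sg k l * (rr K c x m⁻¹ * sg k m) =
      rr K c x l⁻¹ * (sg k l * rr K c x m⁻¹) * sg k m := by simp only [mul_assoc]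
  rw [e1, sg_mul_comm, cj_rr hN h l (inv_mem hm), ← mul_assoc, rr_mul h (inv_mem hl)
    (mul_mem (mul_mem hl (inv_mem hm)) (inv_mem hl)), mul_assoc, ← sg_mul]
  congr 2
  group

theorem cj_uu (hN : K.Normal) (h : ExtData K L c x) (g : G) {l : G} (hl : l ∈ L) :
    cj g (uu K c x l) = uu K c x (g * l * g⁻¹) := by
  unfold uu
  rw [map_mul, cj_rr hN h g (inv_mem hl)]
  congr 1
  · congr 1; group
  · rw [sg_cj, ← sg_mul, ← sg_mul]

theorem rr_one_mul (h : ExtData K L c x) {l : G} (hl : l ∈ L) :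
    rr K c x 1 * rr K c x l = rr K c x l := by
  rw [rr_mul h (one_mem L) hl, one_mul]

/-- `r(y) = y ε` for `y ∈ K` -/
theorem rr_of_mem {y : G} (hy : y ∈ K) : rr K c x y = sg k y * rr K c x 1 := by
  classical
  have := Fintype.ofFinite G
  apply ext_coeff; intro z
  rw [sg, MonoidAlgebra.coeff_single_mul_apply, one_mul]
  by_cases hz : z ∈ K
  · rw [rr_coeff_mem hz, rr_coeff_mem (mul_mem (inv_mem hy) hz)]
    congr 2
    group
  · rw [rr_coeff_not_mem hz, rr_coeff_not_mem]
    intro hc
    apply hz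
    have := mul_mem hy hc
    rwa [mul_inv_cancel_left] at this

theorem uu_of_mem (hN : K.Normal) (h : ExtData K L c x) {y : G} (hy : y ∈ K) :
    uu K c x y = rr K c x 1 := by
  unfold uu
  rw [rr_of_mem (inv_mem hy), mul_assoc, ← mul_assoc]
  have h1 : sg k y⁻¹ * rr K c x 1 * sg k y = cj y⁻¹ (rr K c x 1) := by
    rw [sg_cj, inv_inv]
  rw [h1, cj_rr hN h _ (one_mem L)]
  congr 1; group

/-- `K`-average (without normalization) -/
noncomputable def tt (K : Subgroup G) (a : MonoidAlgebra k G) : MonoidAlgebra k G :=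
  ∑ᶠ y : K, cj (y : G) a

omit [Finite G] in
theorem tt_eq [Fintype K] (a : MonoidAlgebra k G) : tt K a = ∑ y : K, cj (y : G) a :=
  finsum_eq_sum_of_fintype _

theorem tt_fix (a : MonoidAlgebra k G) : tt K a ∈ fixAlg k K := by
  have := Fintype.ofFinite K
  intro z hz
  rw [tt_eq, map_sum]
  refine Fintype.sum_equiv (Equiv.mulLeft (⟨z, hz⟩ : K)) _ _ ?_
  intro y
  rw [← cj_mul]
  rfl

theorem tt_cj (hN : K.Normal) (g : G) (a : MonoidAlgebra k G) : tt K (cj g a) = cj g (tt K a) := by
  have := Fintype.ofFinite K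
  rw [tt_eq, tt_eq, map_sum]
  refine Fintype.sum_equiv (MulAut.conjNormal (g⁻¹ : G) : K ≃* K).toEquiv _ _ ?_
  intro y
  rw [← cj_mul, ← cj_mul]
  congr 2
  show (y : G) * g = g * ((MulAut.conjNormal (g⁻¹ : G) y : K) : G)
  rw [MulAut.conjNormal_apply]; group

theorem tt_of_fix {a : MonoidAlgebra k G} (ha : a ∈ fixAlg k K) :
    tt K a = (Nat.card K : k) • a := by
  have := Fintype.ofFinite K
  rw [tt_eq, Finset.sum_congr rfl fun (y : K) _ => ha (y : G) y.2, Finset.sum_const,
    Finset.card_univ, Nat.card_eq_fintype_card, Nat.cast_smul_eq_nsmul]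

theorem tt_sum {ι : Type*} (s : Finset ι) (f : ι → MonoidAlgebra k G) :
    tt K (∑ i ∈ s, f i) = ∑ i ∈ s, tt K (f i) := by
  have := Fintype.ofFinite K
  simp only [tt_eq, map_sum]
  exact Finset.sum_comm

theorem tt_smul (b : k) (a : MonoidAlgebra k G) : tt K (b • a) = b • tt K a := by
  have := Fintype.ofFinite K
  simp only [tt_eq, map_smul, Finset.smul_sum]

/-- Main step: a central idempotent below `ε` killed by `br_Q` vanishes. -/
theorem eq_zero_of_br (hN : K.Normal) (hL : L.Normal) (h : ExtData K L c x) (hK : (Nat.card K : k) ≠ 0)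
    {Q : Subgroup G} (hQ : IsPGroup p Q) (hQL : Q ≤ L) (hKQ : ∀ l ∈ L, ∃ y ∈ K, ∃ q ∈ Q, l = y * q)
    {w : MonoidAlgebra k G} (hw : w ∈ ZAlg k (⊤ : Subgroup G)) (hww : w * w = w)
    (hwe : rr K c x 1 * w = w) (h0 : br Q w = 0) : w = 0 := by
  classical
  have := Fintype.ofFinite G
  by_contra hne
  have hchar : ∀ v : MonoidAlgebra k G, p • v = 0 := by
    intro v
    rw [← Nat.cast_smul_eq_nsmul k, CharP.cast_eq_zero, zero_smul]
  have hcomm : ∀ a : MonoidAlgebra k G, a * w = w * a := fun a =>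
    comm_of_supp_fix (mem_suppAlg_top a) hw.2
  -- the fixed vector
  obtain ⟨v, hv0, hvW, hv⟩ := exists_fixed_vec hQ hchar
    (fun q : Q => AddMonoidHom.mulLeft (uu K c x (q : G)))
    (fun q q' a => by
      show uu K c x ((q * q' : Q) : G) * a = uu K c x (q : G) * (uu K c x (q' : G) * a)
      rw [← mul_assoc, uu_mul hN h (hQL q.2) (hQL q'.2), Subgroup.coe_mul])
    (v0 := w) (by
      show uu K c x ((1 : Q) : G) * w = w
      rw [Subgroup.coe_one, uu_of_mem hN h (one_mem K), hwe]) hne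
  have hv' : ∀ q ∈ Q, uu K c x q * v = v := fun q hq => hv ⟨q, hq⟩
  have hwv : w * v = v := by
    have h1 : AddSubgroup.closure (Set.range fun g : Q => (AddMonoidHom.mulLeft (uu K c x (g : G))) w) ≤
        (AddMonoidHom.mulLeft w - AddMonoidHom.id _).ker := by
      rw [AddSubgroup.closure_le]
      rintro _ ⟨q, rfl⟩
      show w * (uu K c x (q : G) * w) - uu K c x (q : G) * w = 0
      rw [← hcomm, mul_assoc, hww, sub_self]
    have h2 : w * v - v = 0 := h1 hvW
    rwa [sub_eq_zero] at h2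
  have hev : rr K c x 1 * v = v := by
    rw [← hwv, ← mul_assoc, hwe]
  have hvL : ∀ l ∈ L, uu K c x l * v = v := by
    intro l hl
    obtain ⟨y, hy, q, hq, rfl⟩ := hKQ l hl
    rw [← uu_mul hN h (h.le hy) (hQL hq), mul_assoc, hv' q hq, uu_of_mem hN h hy, hev]
  -- the submodule of fixed vectors
  have hmod : ∀ a : MonoidAlgebra k G, ∀ l ∈ L, uu K c x l * (a * v) = a * v := by
    intro a l hl
    induction a using MonoidAlgebra.induction_linear with
    | zero => rw [zero_mul, mul_zero]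
    | add a b ha hb => rw [add_mul, mul_add, ha, hb]
    | single g b =>
      have e1 : MonoidAlgebra.single g b = b • sg k g := by
        rw [sg, MonoidAlgebra.smul_single, smul_eq_mul, mul_one]
      rw [e1, smul_mul_assoc, mul_smul_comm]
      congr 1
      have h1 : uu K c x l * sg k g = sg k g * cj g⁻¹ (uu K c x l) := by
        rw [sg_cj, inv_inv, ← mul_assoc, ← mul_assoc, ← sg_mul, mul_inv_cancel, sg_one, one_mul]
      rw [← mul_assoc, h1, cj_uu hN h _ hl, mul_assoc, hvL]
      exact hL.conj_mem l hl g⁻¹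
  have hinvact : ∀ a : MonoidAlgebra k G, ∀ q ∈ Q, rr K c x q⁻¹ * (a * v) = sg k q⁻¹ * (a * v) := by
    intro a q hq
    have h1 := hmod (sg k q⁻¹ * a) q (hQL hq)
    rw [uu, mul_assoc, ← mul_assoc (sg k q), ← mul_assoc (sg k q), ← sg_mul, mul_inv_cancel, sg_one,
      one_mul, mul_assoc] at h1
    exact h1
  -- invariance
  have hinv : ∀ q ∈ Q, ∀ a, tt K (cj q a) * v = tt K a * v := by
    intro q hq a
    have h1 : sg k q⁻¹ * v = rr K c x q⁻¹ * v := by
      have := hinvact 1 q hq
      rw [one_mul] at this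
      exact this.symm
    rw [tt_cj hN, sg_cj, mul_assoc, h1, mul_assoc, ← mul_assoc (tt K a),
      ← comm_of_supp_fix (rr_mem_supp q⁻¹) (tt_fix a), mul_assoc (rr K c x q⁻¹), hinvact _ q hq,
      ← mul_assoc, ← sg_mul, mul_inv_cancel, sg_one, one_mul]
  -- the sum
  have hwsum : w = ∑ g : G, w.coeff g • sg k g := by
    apply ext_coeff; intro z
    rw [sum_coeff, Finset.sum_eq_single z]
    · rw [smul_coeff, sg, MonoidAlgebra.coeff_single, Finsupp.single_eq_same, mul_one]
    · intro b _ hb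
      rw [smul_coeff, sg, MonoidAlgebra.coeff_single, Finsupp.single_eq_of_ne (by tauto), mul_zero]
    · intro hz; exact absurd (Finset.mem_univ z) hz
  have hkey : tt K w * v = 0 := by
    apply ext_coeff; intro z
    have h1 : tt K w * v = ∑ g : G, w.coeff g • (tt K (sg k g) * v) := by
      conv_lhs => rw [hwsum]
      rw [tt_sum, Finset.sum_mul]
      exact Finset.sum_congr rfl fun g _ => by rw [tt_smul, smul_mul_assoc]
    rw [h1, sum_coeff, zero_coeff]
    rw [sum_conj_fixed (p := p) Q hQ (fun g => (w.coeff g • (tt K (sg k g) * v)).coeff z) ?_]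
    · refine Finset.sum_eq_zero ?_
      intro g hg
      have hg' := (Finset.mem_filter.mp hg).2
      have h2 := coeff_eq_of_eq h0 g
      rw [br_coeff_mem hg', zero_coeff] at h2
      rw [smul_coeff, h2, zero_mul]
    · intro u hu g
      show (w.coeff (u * g * u⁻¹) • (tt K (sg k (u * g * u⁻¹)) * v)).coeff z = _
      rw [coeff_conj hw.2 (Subgroup.mem_top u)]
      have h2 : sg k (u * g * u⁻¹) = cj u (sg k g) := by
        rw [sg_cj, ← sg_mul, ← sg_mul]
      rw [h2, hinv u hu]
  rw [tt_of_fix (fixAlg_anti le_top hw.2), smul_mul_assoc, hwv] at hkey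
  exact hv0 ((smul_eq_zero.mp hkey).resolve_left hK)

end star

end Cfsg.Agent.Lib.CoverUp
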