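import Cfsg.Agent.Lib.StabQuot
import Cfsg.Agent.Lib.PrincPairs
import Cfsg.Agent.Lib.CoverUp

/-!
# Stable blocks of a normal `p'`-subgroup and their Brauer images
-/

set_option autoImplicit false

namespace Cfsg.Agent.Lib.CoreBlk

open Cfsg Cfsg.Agent.Lib.BlockRing Cfsg.Agent.Lib.BlockGA Cfsg.Agent.Lib.BlockIdem
open Cfsg.Agent.Lib.BlkIdem Cfsg.Agent.Lib.BlockAlg Cfsg.Agent.Lib.PairAlg Cfsg.Agent.Lib.PairMax
open Cfsg.Agent.Lib.BrauerPairs Cfsg.Agent.Lib.NormalPBlk Cfsg.Agent.Lib.DefPairs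
open Cfsg.Agent.Lib.InducedPair Cfsg.Agent.Lib.BlkTransport Cfsg.Agent.Lib.StabQuot

universe u

section gen

variable {k : Type*} [Field k] {G : Type*} [Group G] [Finite G]

/-- an idempotent under which there is only one block is a block -/
theorem isBlk_of_unique (hb : HasBlocks k G) {H : Subgroup G} {z : MonoidAlgebra k G}
    (hz : z ∈ BrauerMap.ZAlg k H) (hzz : z * z = z) (hz0 : z ≠ 0)
    (huniq : ∀ f g, IsBlk H f → IsBlk H g → z * f = f → z * g = g → f = g) : IsBlk H z := by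
  obtain ⟨f, hf, hzf⟩ := exists_blk_of_idem hb hz hzz hz0
  have hfz : f * z = f := by rw [← hf.comm hz]; exact hzf
  have h1 : z - f = 0 := by
    by_contra hne
    have h2 : (z - f) * (z - f) = z - f := by
      rw [sub_mul, mul_sub, mul_sub, hzz, hzf, hfz, hf.idem, sub_self, sub_zero]
    obtain ⟨g, hg, hg2⟩ := exists_blk_of_idem hb (Subalgebra.sub_mem _ hz hf.mem) h2 hne
    have h3 : z * g = g := by
      have : z * ((z - f) * g) = (z - f) * g := by
        rw [← mul_assoc, mul_sub, hzz, hzf]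
      rwa [hg2] at this
    have h4 := huniq f g hf hg hzf h3
    rw [← h4, sub_mul, hzf, hf.idem, sub_self] at hg2
    exact hf.ne_zero hg2.symm
  rw [sub_eq_zero] at h1
  rw [h1]
  exact hf

end gen

variable {p : ℕ} [hp : Fact p.Prime] {M : Ideal AlgInt} [hMm : M.IsMaximal] [hchar : CharP (Kf M) p]
  {G : Type u} [Group G] [Finite G]

/-- a stable block of a normal subgroup of `p`-power index is a block -/
theorem isBlk_of_ppower (hM : IsPModular p M) {K L : Subgroup G} (hKL : K ≤ L)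
    (hN : L ≤ Subgroup.normalizer (K : Set G)) (hpow : ∃ n, K.relIndex L = p ^ n)
    {e : MonoidAlgebra (Kf M) G} (he : IsBlk K e) (hst : ∀ x ∈ L, BrauerMap.cj x e = e) :
    IsBlk L e := by
  have _hchar := hchar
  have hb := hasBlocks (M := M) (G := G)
  have heL : e ∈ BrauerMap.ZAlg (Kf M) L := ⟨BrauerMap.suppAlg_mono hKL he.mem.1, hst⟩
  refine isBlk_of_unique hb heL he.idem he.ne_zero ?_
  have key : ∀ f, IsBlk L f → e * f = f → f = e := by
    intro f hf hef
    obtain ⟨b, hbb, rfl⟩ := exists_bid hf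
    have hsupp : bid M L b ∈ BrauerMap.suppAlg (Kf M) K := by
      intro g hg
      by_cases hgL : g ∈ L
      · have h1 := bid_coeff_coe (M := M) L b ⟨g, hgL⟩
        rw [h1]
        have hreg : p ∣ orderOf (⟨g, hgL⟩ : L) := by
          by_contra hcon
          apply hg
          obtain ⟨n, hn⟩ := hpow
          have h2 : g ^ p ^ n ∈ K := by
            have hnorm : (K.subgroupOf L).Normal := by
              constructor
              intro m hm t
              rw [Subgroup.mem_subgroupOf] at hm ⊢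
              exact (Subgroup.mem_normalizer_iff.mp (hN t.2) m).mp hm
            have h3 := Subgroup.pow_index_mem (K.subgroupOf L) (⟨g, hgL⟩ : L)
            have h4 : (K.subgroupOf L).index = p ^ n := hn
            rw [h4] at h3
            exact Subgroup.mem_subgroupOf.mp h3
          have h3 : g ^ orderOf g ∈ K := by rw [pow_orderOf_eq_one]; exact one_mem K
          rw [Subgroup.orderOf_mk] at hcon
          have h1 := Nat.gcd_eq_gcd_ab (p ^ n) (orderOf g)
          have hco : (p ^ n).Coprime (orderOf g) :=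
            Nat.Coprime.pow_left _ ((Nat.Prime.coprime_iff_not_dvd hp.out).mpr hcon)
          rw [hco] at h1
          have h2' : g = (g ^ p ^ n) ^ ((p ^ n).gcdA (orderOf g)) * (g ^ orderOf g) ^ ((p ^ n).gcdB (orderOf g)) := by
            rw [← zpow_natCast, ← zpow_natCast, ← zpow_mul, ← zpow_mul, ← zpow_add, ← h1]
            simp
          rw [h2']
          exact mul_mem (zpow_mem h2 _) (zpow_mem h3 _)
        have h2 := BlockOsima.blockCoeff_eq_zero hM hbb hreg
        rw [h2, red_zero]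
      · exact bid_coeff_not_mem _ _ hgL
    have hfK : bid M L b ∈ BrauerMap.ZAlg (Kf M) K :=
      ⟨hsupp, BrauerMap.fixAlg_anti hKL hf.mem.2⟩
    rcases he.mul_idem hfK hf.idem with h1 | h1
    · rw [← he.comm hfK, h1] at hef
      exact hef.symm
    · rw [← he.comm hfK, h1] at hef
      exact absurd hef.symm hf.ne_zero
  intro f g hf hg h1 h2
  rw [key f hf h1, key g hg h2]

theorem inf_eq_bot_of_pgroup {K S : Subgroup G} (hS : IsPGroup p S)
    (hK : ¬ p ∣ Nat.card K) {x : G} (hxS : x ∈ S) (hxK : x ∈ K) : x = 1 := by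
  obtain ⟨n, hn⟩ := hS ⟨x, hxS⟩
  have h1 : x ^ p ^ n = 1 := congrArg Subtype.val hn
  have h2 : orderOf x ∣ p ^ n := orderOf_dvd_of_pow_eq_one h1
  have h3 : orderOf x ∣ Nat.card K := by
    have := orderOf_dvd_natCard (⟨x, hxK⟩ : K)
    rwa [Subgroup.orderOf_mk] at this
  by_contra hne
  have h4 : orderOf x ≠ 1 := fun h => hne (orderOf_eq_one_iff.mp h)
  obtain ⟨q, hq, hqd⟩ := Nat.exists_prime_and_dvd h4
  have h5 := (hq.dvd_of_dvd_pow (hqd.trans h2))
  have : q = p := (Nat.prime_dvd_prime_iff_eq hq hp.out).mp h5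
  apply hK
  rw [← this]
  exact hqd.trans h3

/-- a `p`-supplement of the normal `p'`-subgroup `K` of `L` is a Sylow subgroup -/
theorem index_of_supplement {K L S : Subgroup G} (hSL : S ≤ L) (hKL : K ≤ L) (hS : IsPGroup p S) (hK : ¬ p ∣ Nat.card K)
    (hsup : ∀ t ∈ L, ∃ s ∈ S, s⁻¹ * t ∈ K) : ¬ p ∣ (S.subgroupOf L).index := by
  have h1 : Disjoint S K := by
    rw [Subgroup.disjoint_def]
    intro x hx hxK
    exact inf_eq_bot_of_pgroup hS hK hx hxK
  have h2 : Nat.card S * Nat.card K = Nat.card L := by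
    rw [← Nat.card_prod]
    refine Nat.card_congr (Equiv.ofBijective
      (fun x : S × K => (⟨(x.1 : G) * x.2, mul_mem (hSL x.1.2) (hKL x.2.2)⟩ : L)) ⟨?_, ?_⟩)
    · rintro ⟨s, k⟩ ⟨s', k'⟩ h
      have h3 : (s : G) * k = s' * k' := congrArg Subtype.val h
      have h4 : (s' : G)⁻¹ * s = k' * (k : G)⁻¹ := by
        rw [eq_mul_inv_iff_mul_eq, mul_assoc, h3, inv_mul_cancel_left]
      have h5 : (s' : G)⁻¹ * s = 1 := by
        refine inf_eq_bot_of_pgroup hS hK (mul_mem (inv_mem s'.2) s.2) ?_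
        rw [h4]; exact mul_mem k'.2 (inv_mem k.2)
      have h6 : s = s' := Subtype.ext (inv_mul_eq_one.mp h5).symm
      subst h6
      have h7 : k = k' := Subtype.ext (mul_left_cancel h3)
      rw [h7]
    · rintro ⟨t, ht⟩
      obtain ⟨s, hs, hst⟩ := hsup t ht
      exact ⟨(⟨s, hs⟩, ⟨_, hst⟩), Subtype.ext (by simp)⟩
  have h3 := Subgroup.card_mul_index (S.subgroupOf L)
  rw [Nat.card_congr (Subgroup.subgroupOfEquivOfLe hSL).toEquiv, ← h2] at h3
  have h4 : (S.subgroupOf L).index = Nat.card K := Nat.eq_of_mul_eq_mul_left Nat.card_pos h3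
  rw [h4]; exact hK

/-- Brauer images of stable blocks of a `p'`-group (Glauberman correspondence) -/
theorem isBlk_br (hM : IsPModular p M) {K R : Subgroup G} (hR : IsPGroup p R)
    (hRK : R ≤ Subgroup.normalizer (K : Set G)) (hK : ¬ p ∣ Nat.card K)
    {e : MonoidAlgebra (Kf M) G} (he : IsBlk K e) (hst : ∀ x ∈ R, BrauerMap.cj x e = e) :
    IsBlk (Subgroup.centralizer (R : Set G) ⊓ (R ⊔ K)) (BrauerMap.br R e) ∧
      IsBlk (Subgroup.centralizer (R : Set G) ⊓ K) (BrauerMap.br R e) := by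
  have hb := hasBlocks (M := M) (G := G)
  have hKL : K ≤ R ⊔ K := le_sup_right
  have hRL : R ≤ R ⊔ K := le_sup_left
  have hLN : R ⊔ K ≤ Subgroup.normalizer (K : Set G) := sup_le hRK Subgroup.le_normalizer
  have hstL : ∀ x ∈ R ⊔ K, BrauerMap.cj x e = e := by
    intro x hx
    obtain ⟨r, hr, hrx⟩ := (mem_sup_iff_of_norm hRK).mp hx
    have h1 := he.mem.2 _ hrx
    have h2 : x = r * (r⁻¹ * x) := by group
    rw [h2, BrauerMap.cj_mul, h1, hst r hr]
  have hpow := relIndex_sup_ppow hRK hR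
  have heL : IsBlk (R ⊔ K) e := isBlk_of_ppower hM hKL hLN hpow he hstL
  obtain ⟨S, hSL, hSp, hsup, y, hyK, hyS, hy0⟩ := exists_supplement hKL hLN he hstL hpow
  -- `S` and `R` are conjugate in `R ⊔ K`
  have hSi := index_of_supplement hSL hKL hSp hK hsup
  have hRi := index_of_supplement hRL hKL hR hK (fun t ht => (mem_sup_iff_of_norm hRK).mp ht)
  have hSp' : IsPGroup p (S.subgroupOf (R ⊔ K)) := hSp.comap_of_injective _ (Subgroup.subtype_injective _)
  have hRp' : IsPGroup p (R.subgroupOf (R ⊔ K)) := hR.comap_of_injective _ (Subgroup.subtype_injective _)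
  obtain ⟨x, hx⟩ := MulAction.exists_smul_eq (R ⊔ K : Subgroup G) (hSp'.toSylow hSi) (hRp'.toSylow hRi)
  have hxc : ∀ r ∈ R, (x : G)⁻¹ * r * x ∈ S := by
    intro r hr
    have h1 : (⟨r, hRL hr⟩ : (R ⊔ K : Subgroup G)) ∈ hRp'.toSylow hRi :=
      (IsPGroup.mem_toSylow hRp' hRi).mpr (Subgroup.mem_subgroupOf.mpr hr)
    rw [← hx] at h1
    have h2 : (⟨r, hRL hr⟩ : (R ⊔ K : Subgroup G)) ∈
        ((x • (hSp'.toSylow hSi) : Sylow p (R ⊔ K : Subgroup G)) : Subgroup (R ⊔ K : Subgroup G)) := h1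
    rw [Sylow.coe_subgroup_smul, Subgroup.mem_pointwise_smul_iff_inv_smul_mem] at h2
    have h3 : ((MulAut.conj x)⁻¹ • (⟨r, hRL hr⟩ : (R ⊔ K : Subgroup G))) =
        x⁻¹ * ⟨r, hRL hr⟩ * x := by
      rw [← map_inv, MulAut.smul_def, MulAut.conj_apply, inv_inv]
    rw [h3] at h2
    exact Subgroup.mem_subgroupOf.mp h2
  have hne : BrauerMap.br R e ≠ 0 := by
    intro h0
    apply hy0
    have hyc : (x : G) * y * (x : G)⁻¹ ∈ Subgroup.centralizer (R : Set G) := by
      rw [Subgroup.mem_centralizer_iff]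
      intro r hr
      have h1 := Subgroup.mem_centralizer_iff.mp hyS _ (hxc r hr)
      calc r * ((x : G) * y * (x : G)⁻¹) = x * (((x : G)⁻¹ * r * x) * y) * (x : G)⁻¹ := by group
        _ = x * (y * ((x : G)⁻¹ * r * x)) * (x : G)⁻¹ := by rw [h1]
        _ = (x : G) * y * (x : G)⁻¹ * r := by group
    have h1 := BrauerMap.coeff_eq_of_eq h0 ((x : G) * y * (x : G)⁻¹)
    rw [BrauerMap.br_coeff_mem hyc, BrauerMap.zero_coeff, BrauerMap.coeff_conj heL.mem.2 x.2] at h1
    exact h1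
  have hzz : BrauerMap.br R e * BrauerMap.br R e = BrauerMap.br R e := br_idem hR he.idem hst
  have hsupp : BrauerMap.br R e ∈ BrauerMap.suppAlg (Kf M) (Subgroup.centralizer (R : Set G) ⊓ K) := by
    intro g hg
    by_cases hgR : g ∈ Subgroup.centralizer (R : Set G)
    · rw [BrauerMap.br_coeff_mem hgR]
      exact he.mem.1 g (fun h => hg ⟨hgR, h⟩)
    · exact BrauerMap.br_coeff_not_mem hgR e
  have hCN : Subgroup.centralizer (R : Set G) ⊓ (R ⊔ K) ≤ Subgroup.normalizer (R : Set G) :=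
    inf_le_left.trans (centralizer_le_normalizer R)
  have hCK : Subgroup.centralizer (R : Set G) ⊓ K ≤ Subgroup.centralizer (R : Set G) ⊓ (R ⊔ K) :=
    inf_le_inf_left _ le_sup_right
  have hzL : BrauerMap.br R e ∈ BrauerMap.ZAlg (Kf M) (Subgroup.centralizer (R : Set G) ⊓ (R ⊔ K)) :=
    ⟨BrauerMap.suppAlg_mono hCK hsupp,
      BrauerMap.br_mem_fixAlg hCN (BrauerMap.fixAlg_anti inf_le_right heL.mem.2)⟩
  -- decomposition of the normalizer
  have hdec : ∀ t ∈ R ⊔ K, t ∈ Subgroup.normalizer (R : Set G) →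
      ∃ r ∈ R, ∃ c ∈ Subgroup.centralizer (R : Set G) ⊓ K, t = r * c := by
    intro t ht htN
    obtain ⟨r, hr, hrt⟩ := (mem_sup_iff_of_norm hRK).mp ht
    refine ⟨r, hr, r⁻¹ * t, ⟨?_, hrt⟩, by group⟩
    have hcN : r⁻¹ * t ∈ Subgroup.normalizer (R : Set G) :=
      mul_mem (inv_mem (Subgroup.le_normalizer hr)) htN
    show r⁻¹ * t ∈ Subgroup.centralizer (R : Set G)
    rw [Subgroup.mem_centralizer_iff]
    intro s hs
    -- the commutator lies in `R ∩ K`
    set c := r⁻¹ * t with hc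
    have h1 : s * (c * s⁻¹ * c⁻¹) ∈ R :=
      mul_mem hs ((Subgroup.mem_normalizer_iff.mp hcN s⁻¹).mp (inv_mem hs))
    have h2 : (s * c * s⁻¹) * c⁻¹ ∈ K :=
      mul_mem ((Subgroup.mem_normalizer_iff.mp (hRK hs) c).mp hrt) (inv_mem hrt)
    have h3 : s * (c * s⁻¹ * c⁻¹) = (s * c * s⁻¹) * c⁻¹ := by group
    have h4 : s * (c * s⁻¹ * c⁻¹) = 1 := inf_eq_bot_of_pgroup hR hK h1 (by rw [h3]; exact h2)
    have h5 : s * c = s * (c * s⁻¹ * c⁻¹) * (c * s) := by group
    rw [h5, h4, one_mul]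
  have hcjR : ∀ r ∈ R, ∀ f ∈ BrauerMap.suppAlg (Kf M) (Subgroup.centralizer (R : Set G)),
      BrauerMap.cj r f = f := fun r hr f hf => mem_fixAlg_of_supp_centralizer hf r hr
  have hblkL : IsBlk (Subgroup.centralizer (R : Set G) ⊓ (R ⊔ K)) (BrauerMap.br R e) := by
    refine isBlk_of_unique hb hzL hzz hne ?_
    intro f g hf hg hzf hzg
    -- go down to the group `R ⊔ K`
    have hCeq : (Subgroup.centralizer (R : Set G) ⊓ (R ⊔ K)).subgroupOf (R ⊔ K) =
        Subgroup.centralizer ((R.subgroupOf (R ⊔ K) : Subgroup (R ⊔ K : Subgroup G)) : Set (R ⊔ K : Subgroup G)) := by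
      ext t
      rw [mem_centralizer_subgroupOf hRL, Subgroup.mem_subgroupOf]
      exact ⟨fun h => h.1, fun h => ⟨h, t.2⟩⟩
    have hle : Subgroup.centralizer (R : Set G) ⊓ (R ⊔ K) ≤ R ⊔ K := inf_le_right
    have e0 : inc (R ⊔ K) (res (R ⊔ K) e) = e := inc_res _ heL.mem.1
    have ef : inc (R ⊔ K) (res (R ⊔ K) f) = f := inc_res _ (BrauerMap.suppAlg_mono hle hf.mem.1)
    have eg : inc (R ⊔ K) (res (R ⊔ K) g) = g := inc_res _ (BrauerMap.suppAlg_mono hle hg.mem.1)
    have hB : IsBlk (⊤ : Subgroup (R ⊔ K : Subgroup G)) (res (R ⊔ K) e) := by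
      rw [← isBlk_inc_top_iff, e0]; exact heL
    have hpf : BPair p (R.subgroupOf (R ⊔ K)) (res (R ⊔ K) f) := by
      refine ⟨hRp', ?_⟩
      rw [← hCeq, ← isBlk_inc_iff hle, ef]; exact hf
    have hpg : BPair p (R.subgroupOf (R ⊔ K)) (res (R ⊔ K) g) := by
      refine ⟨hRp', ?_⟩
      rw [← hCeq, ← isBlk_inc_iff hle, eg]; exact hg
    have hbf : BrauerMap.br (R.subgroupOf (R ⊔ K)) (res (R ⊔ K) e) * res (R ⊔ K) f = res (R ⊔ K) f := by
      apply inc_injective (M := M) (R ⊔ K)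
      rw [map_mul, inc_br hRL, e0, ef]; exact hzf
    have hbg : BrauerMap.br (R.subgroupOf (R ⊔ K)) (res (R ⊔ K) e) * res (R ⊔ K) g = res (R ⊔ K) g := by
      apply inc_injective (M := M) (R ⊔ K)
      rw [map_mul, inc_br hRL, e0, eg]; exact hzg
    have hms : ∀ u : MonoidAlgebra (Kf M) (R ⊔ K : Subgroup G), MaxPair p (R.subgroupOf (R ⊔ K)) u := by
      intro u
      have := PrincPairs.maxPair_sylow (hRp'.toSylow hRi) u
      rwa [IsPGroup.toSylow_coe] at this
    obtain ⟨t, htN, ht⟩ := MaxPair.conj_same (hasBlocks (M := M) (G := (R ⊔ K : Subgroup G))) hB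
      hpf hbf (hms _) hpg hbg (hms _)
    have ht' := congrArg (inc (M := M) (R ⊔ K)) ht
    rw [inc_cj, ef, eg] at ht'
    obtain ⟨r, hr, c, hc, htc⟩ := hdec t t.2 ((mem_normalizer_subgroupOf hRL).mp htN)
    rw [htc, BrauerMap.cj_mul, hf.mem.2 c (hCK hc),
      hcjR r hr f (BrauerMap.suppAlg_mono inf_le_left hf.mem.1)] at ht'
    exact ht'
  refine ⟨hblkL, ?_⟩
  refine isBlk_of_unique hb ⟨hsupp, BrauerMap.fixAlg_anti hCK hzL.2⟩ hzz hne ?_
  have key : ∀ f, IsBlk (Subgroup.centralizer (R : Set G) ⊓ K) f → BrauerMap.br R e * f = f →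
      f = BrauerMap.br R e := by
    intro f hf hzf
    have hfZ : f ∈ BrauerMap.ZAlg (Kf M) (Subgroup.centralizer (R : Set G) ⊓ (R ⊔ K)) := by
      refine ⟨BrauerMap.suppAlg_mono hCK hf.mem.1, ?_⟩
      intro t ht
      obtain ⟨r, hr, c, hc, htc⟩ := hdec t ht.2 (hCN ht)
      rw [htc, BrauerMap.cj_mul, hf.mem.2 c hc,
        hcjR r hr f (BrauerMap.suppAlg_mono inf_le_left hf.mem.1)]
    rcases hblkL.mul_idem hfZ hf.idem with h1 | h1
    · rw [← hblkL.comm hfZ, h1] at hzf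
      exact hzf.symm
    · rw [← hblkL.comm hfZ, h1] at hzf
      exact absurd hzf.symm hf.ne_zero
  intro f g hf hg h1 h2
  rw [key f hf h1, key g hg h2]

end Cfsg.Agent.Lib.CoreBlk
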