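import Cfsg.Agent.Lib.CanonExt
import Cfsg.Agent.Lib.CharMisc

set_option autoImplicit false
set_option linter.unusedSectionVars false

/-!
# Coset averages against an extension (helper78)
-/

namespace Cfsg.Agent.Lib.CosetAvg

open scoped ComplexConjugate
open Cfsg Cfsg.Agent.Lib.CharBasic Cfsg.Agent.Lib.Clifford Cfsg.Agent.Lib.CliffordCorr
open Cfsg.Agent.Lib.CanonExt

universe u

variable {G : Type u} [Group G] {N : Subgroup G} [hN : N.Normal]

theorem sum_coset_eq_zero [Fintype N] {γ : G → ℂ} (hγ : IsIrrCharacter G γ)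
    (h : ∃ n : N, γ n ≠ γ 1) (g : G) : ∑ n : N, γ (n * g) = 0 := by
  obtain ⟨m, ρ, hρ, rfl⟩ := hγ
  have := hρ
  have h1 := CharMisc.sum_normal_eq_zero ρ N (by
    obtain ⟨n, hn⟩ := h
    refine ⟨n, n.2, fun h2 => hn ?_⟩
    simp only [Representation.character, h2, map_one]
    rfl)
  have h2 : ∑ n : N, ρ.character (n * g) = LinearMap.trace ℂ _ ((∑ n : N, ρ (n : G)) * ρ g) := by
    rw [Finset.sum_mul, map_sum]
    simp only [Representation.character, map_mul]
  rw [h2, h1, zero_mul, map_zero]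

theorem classInner_avg [Fintype G] [Fintype N] (f a : G → ℂ)
    (ha : ∀ (n : N) (g : G), a (n * g) = a g) :
    classInner (fun g => (Nat.card N : ℂ)⁻¹ * ∑ n : N, f (n * g)) a = classInner f a := by
  rw [classInner_def, classInner_def]
  congr 1
  have h1 : ∀ g : G, ((Nat.card N : ℂ)⁻¹ * ∑ n : N, f (n * g)) * conj (a g) =
      (Nat.card N : ℂ)⁻¹ * ∑ n : N, f (n * g) * conj (a (n * g)) := by
    intro g
    rw [mul_assoc, Finset.sum_mul]
    congr 1
    apply Finset.sum_congr rfl
    intro n _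
    rw [ha]
  simp only [h1]
  rw [← Finset.mul_sum, Finset.sum_comm]
  have h2 : ∀ n : N, ∑ g : G, f (n * g) * conj (a (n * g)) = ∑ g : G, f g * conj (a g) := by
    intro n
    exact Fintype.sum_equiv (Equiv.mulLeft (n : G)) _ _ (fun g => rfl)
  simp only [h2, Finset.sum_const, Finset.card_univ, nsmul_eq_mul]
  rw [Nat.card_eq_fintype_card, ← mul_assoc, inv_mul_cancel₀, one_mul]
  exact_mod_cast Fintype.card_ne_zero

theorem mul_eq_of_const' [Finite G] {β : G → ℂ} (hβ : IsCharacter G β)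
    (hc : ∀ n : N, β n = β 1) (n : N) (g : G) : β (n * g) = β g := by
  have h := hβ.mul_eq_of_const N (fun x hx => hc ⟨x, hx⟩) g (g⁻¹ * n * g) (by
    have := hN.conj_mem (n : G) n.2 g⁻¹
    rwa [inv_inv] at this)
  rw [← h]
  congr 1
  group

/-- A class function constant on the cosets of `N` is determined by the inner products with the
irreducible characters constant on `N`. -/
theorem eq_zero_of_orth [Fintype G] {f : G → ℂ} (hf : IsClassFunction G f)
    (hfN : ∀ (n : N) (g : G), f (n * g) = f g)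
    (h : ∀ β : G → ℂ, IsIrrCharacter G β → (∀ n : N, β n = β 1) → classInner f β = 0) :
    f = 0 := by
  have := Fintype.ofFinite N
  apply hf.eq_zero_of_orthogonal
  intro γ hγ
  by_cases hc : ∀ n : N, γ n = γ 1
  · exact h γ hγ hc
  · push Not at hc
    rw [← conj_classInner, ← classInner_avg (N := N) γ f hfN]
    simp only [sum_coset_eq_zero hγ hc, mul_zero]
    rw [← Pi.zero_def, IndFun.classInner_zero_left, map_zero]

theorem isClassFunction_avg [Fintype G] [Fintype N] {f : G → ℂ} (hf : IsClassFunction G f) :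
    IsClassFunction G (fun g => (Nat.card N : ℂ)⁻¹ * ∑ n : N, f (n * g)) := by
  intro g h
  simp only
  congr 1
  refine Fintype.sum_equiv (MulAut.conjNormal h⁻¹ : N ≃* N).toEquiv _ _ ?_
  intro n
  change f (n * (h * g * h⁻¹)) = f ((MulAut.conjNormal h⁻¹ n : N) * g)
  rw [MulAut.conjNormal_apply, ← hf (h⁻¹ * n * h⁻¹⁻¹ * g) h]
  congr 1
  group

theorem avg_left_inv [Fintype N] (f : G → ℂ) (n : N) (g : G) :
    (Nat.card N : ℂ)⁻¹ * ∑ m : N, f (m * (n * g)) = (Nat.card N : ℂ)⁻¹ * ∑ m : N, f (m * g) := by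
  congr 1
  refine Fintype.sum_equiv (Equiv.mulRight n) _ _ ?_
  intro m
  simp [mul_assoc]

theorem avg_ext [Fintype G] [Fintype N] {ϑ : N → ℂ} (hϑ : IsIrrCharacter N ϑ) {χ ψ : G → ℂ}
    (hχ : IsIrrCharacter G χ) (hext : ∀ n : N, χ n = ϑ n) (hψ : IsIrrCharacter G ψ)
    {β : G → ℂ} (hβ : IsClassFunction G β) (hβN : ∀ (n : N) (g : G), β (n * g) = β g)
    (h : ∀ γ : G → ℂ, IsIrrCharacter G γ → (∀ n : N, γ n = γ 1) →
      classInner ψ (γ * χ) = classInner β γ) (g : G) :
    (Nat.card N : ℂ)⁻¹ * ∑ n : N, ψ (n * g) * conj (χ (n * g)) = β g := by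
  have hf : IsClassFunction G (fun g => ψ g * conj (χ g)) := by
    intro g h
    simp only [hψ.isClassFunction g h, hχ.isClassFunction g h]
  have hF := isClassFunction_avg (N := N) hf
  have h0 := eq_zero_of_orth (N := N) (hF.sub hβ) (by
    intro n g
    simp only [Pi.sub_apply, hβN]
    congr 1
    exact avg_left_inv (fun g => ψ g * conj (χ g)) n g) (by
    intro γ hγ hc
    have h5 := classInner_avg (N := N) (fun g => ψ g * conj (χ g)) γ
      (mul_eq_of_const' hγ.isCharacter hc)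
    rw [classInner_sub_left, h5, ← h γ hγ hc, sub_eq_zero, classInner_def, classInner_def]
    congr 1
    apply Finset.sum_congr rfl
    intro x _
    simp only [Pi.mul_apply, map_mul]
    ring)
  have h1 := congrFun h0 g
  simp only [Pi.sub_apply, Pi.zero_apply, sub_eq_zero] at h1
  exact h1

/-- Coset average against an extension. -/
theorem coset_average [Fintype G] [Fintype N] {ϑ : N → ℂ} (hϑ : IsIrrCharacter N ϑ) {χ ψ : G → ℂ}
    (hχ : IsIrrCharacter G χ) (hext : ∀ n : N, χ n = ϑ n) (hψ : IsIrrCharacter G ψ) :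
    (∀ β : G → ℂ, IsIrrCharacter G β → (∀ n : N, β n = β 1) → ψ = β * χ →
      ∀ g, (Nat.card N : ℂ)⁻¹ * ∑ n : N, ψ (n * g) * conj (χ (n * g)) = β g) ∧
    (classInner (fun n : N => ψ n) ϑ = 0 →
      ∀ g, (Nat.card N : ℂ)⁻¹ * ∑ n : N, ψ (n * g) * conj (χ (n * g)) = 0) := by
  have hbij := bijOn hϑ hχ hext
  constructor
  · intro β hβ hβc hβ'
    apply avg_ext hϑ hχ hext hψ hβ.isClassFunction (mul_eq_of_const' hβ.isCharacter hβc)
    intro γ hγ hγc
    have h1 := hbij.mapsTo ⟨hγ, hγc⟩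
    by_cases hbg : β = γ
    · rw [← hbg, ← hβ', hψ.classInner_self, hβ.classInner_self]
    · rw [hβ.classInner_eq_zero hγ hbg]
      apply hψ.classInner_eq_zero h1.1
      intro h2
      apply hbg
      rw [hβ'] at h2
      exact hbij.injOn ⟨hβ, hβc⟩ ⟨hγ, hγc⟩ h2
  · intro h0 g
    have := avg_ext hϑ hχ hext hψ (β := 0) (fun g h => rfl) (fun _ _ => rfl) (by
      intro γ hγ hγc
      rw [IndFun.classInner_zero_left]
      have h1 := hbij.mapsTo ⟨hγ, hγc⟩
      apply hψ.classInner_eq_zero h1.1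
      intro h2
      have h3 := h1.2
      rw [← h2, IndFun.frobenius_reciprocity N _ ψ hψ.isClassFunction, ← conj_classInner, h0,
        map_zero] at h3
      exact h3 rfl) g
    exact this

end Cfsg.Agent.Lib.CosetAvg
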