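import Cfsg.Agent.Lib.CoreBlk
import Cfsg.Agent.Lib.H76Ext
import Cfsg.Agent.Lib.CosetAvg

/-!
# Extension data for a stable character of a normal `p'`-subgroup
-/

set_option autoImplicit false

namespace Cfsg.Agent.Lib.CoreExt

open Cfsg Cfsg.Agent.Lib.BlockRing Cfsg.Agent.Lib.BlockGA Cfsg.Agent.Lib.BlockIdem
open Cfsg.Agent.Lib.BlkIdem Cfsg.Agent.Lib.BlockAlg Cfsg.Agent.Lib.PairAlg Cfsg.Agent.Lib.PairMax
open Cfsg.Agent.Lib.BrauerPairs Cfsg.Agent.Lib.NormalPBlk Cfsg.Agent.Lib.DefPairs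
open Cfsg.Agent.Lib.InducedPair Cfsg.Agent.Lib.BlkTransport Cfsg.Agent.Lib.StabQuot
open Cfsg.Agent.Lib.CoverUp Cfsg.Agent.Lib.CharBasic
open Cfsg.Agent.Lib.Clifford (cj)
open scoped ComplexConjugate

universe u

section conv

variable {L : Type u} [Group L] [Finite L] {N : Subgroup L} [hN : N.Normal]

/-- convolution over a coset of `N` for a character with irreducible restriction to `N` -/
theorem coset_conv [Fintype N] {ϑ : N → ℂ} (hϑ : IsIrrCharacter N ϑ) {χ : L → ℂ}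
    (hχ : IsIrrCharacter L χ) (hext : ∀ n : N, χ n = ϑ n) (a b : L) :
    χ 1 * ∑ y : N, χ (a * y) * χ ((y : L)⁻¹ * b) = (Nat.card N : ℂ) * χ (a * b) := by
  classical
  have := Fintype.ofFinite L
  have hcl := hχ.isClassFunction
  have hcomm : ∀ g h : L, χ (g * h) = χ (h * g) := by
    intro g h
    have := hcl (g * h) h
    rw [← this]
    congr 1; group
  have hnorm := (CosetAvg.coset_average hϑ hχ hext hχ).1 1 isIrrCharacter_one (fun _ => rfl)
    (one_mul χ).symm a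
  obtain ⟨n, ρ, hρ, rfl⟩ := hχ
  let σ : Representation ℂ N (Fin n → ℂ) := ρ.comp N.subtype
  have hσc : σ.character = ϑ := by
    funext m
    rw [← hext m]; rfl
  have hσ : σ.IsIrreducible := isIrreducible_of_isIrrCharacter σ (by rw [hσc]; exact hϑ)
  set T : Module.End ℂ (Fin n → ℂ) := ∑ y : N, ρ.character (a * y) • ρ ((y : L)⁻¹ * a⁻¹) with hT
  have hTcomm : ∀ m : N, T * ρ m = ρ m * T := by
    intro m
    rw [hT, Finset.sum_mul, Finset.mul_sum]
    -- substitute `y ↦ (a⁻¹ m⁻¹ a) y m`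
    let φ : N ≃ N := (Equiv.mulLeft (⟨a⁻¹ * (m : L)⁻¹ * a, by
      have := hN.conj_mem ((m : L)⁻¹) (inv_mem m.2) a⁻¹; rwa [inv_inv] at this⟩ : N)).trans
        (Equiv.mulRight (m : N))
    refine Fintype.sum_equiv φ _ _ ?_
    intro y
    have hφ : ((φ y : N) : L) = a⁻¹ * (m : L)⁻¹ * a * y * (m : L) := rfl
    rw [hφ, smul_mul_assoc, mul_smul_comm, ← map_mul, ← map_mul]
    congr 1
    · have h1 : a * (a⁻¹ * (m : L)⁻¹ * a * y * (m : L)) = (m : L)⁻¹ * (a * y) * ((m : L)⁻¹)⁻¹ := by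
        group
      rw [h1, hcl]
    · congr 1; group
  let f : Representation.IntertwiningMap σ σ := ⟨T, fun g => by
    have h1 := hTcomm g
    exact h1⟩
  obtain ⟨c, hc⟩ := (Representation.IsIrreducible.algebraMap_intertwiningMap_bijective_of_isAlgClosed
    (ρ := σ) (k := ℂ)).2 f
  have h1 : f.toLinearMap = (algebraMap ℂ (Representation.IntertwiningMap σ σ) c).toLinearMap := by
    rw [hc]
  have h2 : f.toLinearMap = T := rfl
  have h3 : T = c • (1 : Module.End ℂ (Fin n → ℂ)) := by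
    rw [← h2, h1, Algebra.algebraMap_eq_smul_one]
    rfl
  have htr : ∀ g : L, LinearMap.trace ℂ (Fin n → ℂ) (ρ g) = ρ.character g := fun g => rfl
  have h4 : ∀ g : L, LinearMap.trace ℂ (Fin n → ℂ) (T * ρ g) = c * ρ.character g := by
    intro g
    rw [h3, smul_mul_assoc, one_mul, map_smul, htr, smul_eq_mul]
  have h5 : ∀ g : L, LinearMap.trace ℂ (Fin n → ℂ) (T * ρ g) =
      ∑ y : N, ρ.character (a * y) * ρ.character ((y : L)⁻¹ * a⁻¹ * g) := by
    intro g
    rw [hT, Finset.sum_mul, map_sum]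
    refine Finset.sum_congr rfl fun y _ => ?_
    rw [smul_mul_assoc, ← map_mul, map_smul, htr, smul_eq_mul]
  have h6 : c * ρ.character 1 = Nat.card N := by
    rw [← h4 1, h5 1]
    have hNc : (Nat.card N : ℂ) ≠ 0 := by
      exact_mod_cast Nat.card_pos.ne'
    rw [Pi.one_apply, inv_mul_eq_iff_eq_mul₀ hNc, mul_one] at hnorm
    rw [← hnorm]
    refine Finset.sum_congr rfl fun y _ => ?_
    rw [mul_one, hcomm a y]
    have h7 : (y : L)⁻¹ * a⁻¹ = (a * y)⁻¹ := by group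
    rw [h7, Cfsg.IsIrrCharacter.inv ⟨n, ρ, hρ, rfl⟩, hcomm a y]
  have h7 := (h4 (a * b)).symm.trans (h5 (a * b))
  have h8 : ∀ y : N, (y : L)⁻¹ * a⁻¹ * (a * b) = (y : L)⁻¹ * b := fun y => by group
  simp only [h8] at h7
  rw [← h7, ← h6]; ring

end conv

section data

variable {p : ℕ} [hp : Fact p.Prime] {M : Ideal AlgInt} [hMm : M.IsMaximal] [hchar : CharP (Kf M) p]
  {G : Type u} [Group G] [Finite G]

/-- elements of `p`-power order of `ℂˣ` reduce to `1` -/
theorem red_eq_one_of_pow {z : ℂ} (hz : MemLocalRing M z) {n : ℕ}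
    (h : z ^ p ^ n = 1) : red M z = 1 := by
  have hMP := hMm.isPrime
  have h1 : red M z ^ p ^ n = 1 := by
    have h2 : ∀ m : ℕ, red M (z ^ m) = red M z ^ m := by
      intro m
      induction m with
      | zero => rw [pow_zero, pow_zero, red_one]
      | succ m ih => rw [pow_succ, pow_succ, red_mul (loc_pow hz m) hz, ih]
    rw [← h2, h, red_one]
  have h2 : (red M z - 1) ^ p ^ n = 0 := by
    rw [sub_pow_char_pow, h1, one_pow, sub_self]
  exact sub_eq_zero.mp (pow_eq_zero_iff (pow_ne_zero _ hp.out.ne_zero) |>.mp h2)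

theorem exists_extData (hM : IsPModular p M) {K L : Subgroup G} [hKn : K.Normal] [hLn : L.Normal]
    (hKL : K ≤ L) (hpow : ∃ n, K.relIndex L = p ^ n) (hK : ¬ p ∣ Nat.card K) (θ : IrrCharacter K)
    (hinv : ∀ g : G, IsConjCharOf K g (θ : K → ℂ) (θ : K → ℂ)) :
    ∃ (c : Kf M) (x : G → Kf M), ExtData K L c x ∧ rr K c x 1 = bid M K {θ} := by
  classical
  have hMP := hMm.isPrime
  have := Fintype.ofFinite G
  have := Fintype.ofFinite K
  obtain ⟨n, hn⟩ := hpow
  set N : Subgroup L := K.subgroupOf L with hNd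
  have hNn : N.Normal := inferInstance
  have := Fintype.ofFinite N
  set ϑ : IrrCharacter N := irrMap (subEquiv hKL) θ with hϑ
  have hcard : Nat.card N = Nat.card K := Nat.card_congr (subEquiv hKL).toEquiv.symm
  have hinvN : ∀ l : L, cj N l (ϑ : N → ℂ) = (ϑ : N → ℂ) := by
    intro l
    funext m
    rw [Clifford.cj_apply, hϑ, irrMap_apply, irrMap_apply]
    apply hinv (l : G)
    rw [subEquiv_symm_coe, subEquiv_symm_coe]
    rfl
  have hcop : Nat.Coprime N.index (Nat.card N) := by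
    have h1 : N.index = p ^ n := hn
    rw [h1, hcard]
    exact Nat.Coprime.pow_left _ ((Nat.Prime.coprime_iff_not_dvd hp.out).mpr hK)
  obtain ⟨χ, hχ, hext⟩ := H76Ext.exists_extension_of_coprime_card N ϑ.2 hinvN hcop
  have hcl := hχ.isClassFunction
  have hcomm : ∀ g h : L, χ (g * h) = χ (h * g) := by
    intro g h
    have := hcl (g * h) h
    rw [← this]
    congr 1; group
  have hloc : ∀ l : L, MemLocalRing M (χ l) := fun l => loc_value hχ.isCharacter l
  have hKc : (Nat.card K : ℂ) ≠ 0 := by exact_mod_cast Nat.card_pos.ne'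
  have hKinv : MemLocalRing M ((Nat.card K : ℂ)⁻¹) := loc_inv_natCast hM hK
  have hθ1 : MemLocalRing M ((θ : K → ℂ) 1) := loc_irr θ 1
  have hχ1 : χ 1 = (θ : K → ℂ) 1 := by
    have := hext 1
    rw [Subgroup.coe_one] at this
    rw [this, hϑ, irrMap_apply, map_one]
  let X : G → ℂ := fun g => if h : g ∈ L then χ ⟨g, h⟩ else 0
  have hX : ∀ (g : G) (h : g ∈ L), X g = χ ⟨g, h⟩ := fun g h => by simp only [X, dif_pos h]
  have hXl : ∀ g, MemLocalRing M (X g) := by
    intro g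
    by_cases h : g ∈ L
    · rw [hX g h]; exact hloc _
    · simp only [X, dif_neg h]; exact loc_zero
  have hXK : ∀ y : K, X (y : G) = (θ : K → ℂ) y := by
    intro y
    rw [hX _ (hKL y.2)]
    have := hext (subEquiv hKL y)
    rw [hϑ, irrMap_apply, MulEquiv.symm_apply_apply] at this
    exact this
  refine ⟨red M ((Nat.card K : ℂ)⁻¹ * (θ : K → ℂ) 1), fun g => red M (X g), ⟨hKL, ?_, ?_, ?_⟩, ?_⟩
  · intro g hg h hh
    show red M (X (g * h)) = red M (X (h * g))
    rw [hX _ (mul_mem hg hh), hX _ (mul_mem hh hg)]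
    exact congrArg (red M) (hcomm ⟨g, hg⟩ ⟨h, hh⟩)
  · intro inst1 inst2 a ha b hb
    show red M ((Nat.card K : ℂ)⁻¹ * (θ : K → ℂ) 1) * ∑ y : G with y ∈ K, red M (X (a * y)) * red M (X (y⁻¹ * b)) =
      red M (X (a * b))
    have h1 : ∀ y ∈ Finset.univ.filter (fun y : G => y ∈ K), red M (X (a * y)) * red M (X (y⁻¹ * b)) =
        red M (X (a * y) * X (y⁻¹ * b)) := fun y _ => (red_mul (hXl _) (hXl _)).symm
    rw [Finset.sum_congr rfl h1, ← red_sum (fun y _ => loc_mul (hXl _) (hXl _)),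
      ← red_mul (loc_mul hKinv hθ1) (loc_sum fun y _ => loc_mul (hXl _) (hXl _))]
    congr 1
    have h2 := coset_conv ϑ.2 hχ hext ⟨a, ha⟩ ⟨b, hb⟩
    rw [hcard] at h2
    have h3 : ∑ y : G with y ∈ K, X (a * y) * X (y⁻¹ * b) =
        ∑ y : N, χ (⟨a, ha⟩ * y) * χ ((y : L)⁻¹ * ⟨b, hb⟩) := by
      symm
      refine Finset.sum_bij (fun (y : N) _ => ((y : L) : G)) ?_ ?_ ?_ ?_
      · intro y _
        rw [Finset.mem_filter]
        exact ⟨Finset.mem_univ _, Subgroup.mem_subgroupOf.mp y.2⟩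
      · intro y _ y' _ h
        exact Subtype.ext (Subtype.ext h)
      · intro y hy
        have hyK := (Finset.mem_filter.mp hy).2
        exact ⟨⟨⟨y, hKL hyK⟩, Subgroup.mem_subgroupOf.mpr hyK⟩, Finset.mem_univ _, rfl⟩
      · intro y _
        rw [hX _ (mul_mem ha (y : L).2), hX _ (mul_mem (inv_mem (y : L).2) hb)]
        rfl
    rw [h3, hX _ (mul_mem ha hb)]
    have h4 : χ (⟨a, ha⟩ * ⟨b, hb⟩) = χ ⟨a * b, mul_mem ha hb⟩ := rfl
    rw [h4, hχ1] at h2
    rw [mul_assoc, h2, inv_mul_cancel_left₀ hKc]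
  · intro h l hl
    show red M (X (h * l * h⁻¹)) = red M (X l)
    have hlc : h * l * h⁻¹ ∈ L := hLn.conj_mem l hl h
    rw [hX _ hlc, hX _ hl]
    -- the conjugate extension differs by a linear character of `p`-power order
    set f : L ≃* L := MulAut.conjNormal h with hf
    have hψ : IsIrrCharacter L (fun l => χ (f l)) := (isIrrCharacter_comp_mulEquiv_iff f).mpr hχ
    have hψext : ∀ m : N, (fun l => χ (f l)) (m : L) = (ϑ : N → ℂ) m := by
      intro m
      have hm : ((m : L) : G) ∈ K := Subgroup.mem_subgroupOf.mp m.2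
      have hmc : h * ((m : L) : G) * h⁻¹ ∈ K := hKn.conj_mem _ hm h
      have h1 : f (m : L) = ⟨h * ((m : L) : G) * h⁻¹, hKL hmc⟩ := Subtype.ext (MulAut.conjNormal_apply h _)
      show χ (f (m : L)) = _
      rw [h1]
      have h2 := hXK ⟨_, hmc⟩
      rw [hX _ (hKL hmc)] at h2
      rw [h2, hϑ, irrMap_apply]
      exact hinv h _ _ (by rw [subEquiv_symm_coe])
    obtain ⟨β, hβN, hβ⟩ := CanonExt.exists_linear_twist ϑ.2 hχ hext hψ hψext
    have h1 : χ ⟨h * l * h⁻¹, hlc⟩ = (β ⟨l, hl⟩ : ℂ) * χ ⟨l, hl⟩ := by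
      have := congrFun hβ ⟨l, hl⟩
      rw [← this]
      rfl
    have h2 : (β ⟨l, hl⟩ : ℂ) ^ p ^ n = 1 := by
      have h3 := Subgroup.pow_index_mem N (⟨l, hl⟩ : L)
      have h4 : N.index = p ^ n := hn
      rw [h4] at h3
      have h5 := hβN ⟨_, h3⟩
      rw [← Units.val_pow_eq_pow_val, ← map_pow]
      have h6 : β ((⟨l, hl⟩ : L) ^ p ^ n) = 1 := h5
      rw [h6, Units.val_one]
    have h3 : MemLocalRing M (β ⟨l, hl⟩ : ℂ) := by
      apply loc_of_isIntegral
      exact IsIntegral.of_pow (pow_pos hp.out.pos n) (by rw [h2]; exact isIntegral_one)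
    rw [h1, red_mul h3 (hloc _), red_eq_one_of_pow (p := p) h3 h2, one_mul]
  · apply BrauerMap.ext_coeff; intro y
    by_cases hy : y ∈ K
    · rw [rr_coeff_mem hy, mul_one]
      have h1 := bid_coeff_coe (M := M) K {θ} ⟨y, hy⟩
      have h2 : blockCoeff ({θ} : Set (IrrCharacter K)) ⟨y, hy⟩ =
          (Nat.card K : ℂ)⁻¹ * (θ : K → ℂ) 1 * X y⁻¹ := by
        have h3 := hXK (⟨y, hy⟩⁻¹)
        rw [blockCoeff, finsum_mem_singleton, ← Cfsg.IsIrrCharacter.inv θ.2, mul_assoc, ← h3]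
        rfl
      rw [h1, h2, red_mul (loc_mul hKinv hθ1) (hXl _)]
    · rw [rr_coeff_not_mem hy, bid_coeff_not_mem _ _ hy]

end data

end Cfsg.Agent.Lib.CoreExt
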