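import Cfsg.Agent.Lib.CoreExt
import Cfsg.Agent.Lib.PConstrained
import Cfsg.Agent.Lib.LocalLayer2
import Cfsg.Agent.Lib.BlockPPrime

/-!
# `p`-constrained groups: a stable block of `O_{p'}(G)` is a block of `G`
-/

set_option autoImplicit false

namespace Cfsg.Agent.Lib.CoreTop

open Cfsg Cfsg.Agent.Lib.BlockRing Cfsg.Agent.Lib.BlockGA Cfsg.Agent.Lib.BlockIdem
open Cfsg.Agent.Lib.BlkIdem Cfsg.Agent.Lib.BlockAlg Cfsg.Agent.Lib.PairAlg Cfsg.Agent.Lib.PairMax
open Cfsg.Agent.Lib.BrauerPairs Cfsg.Agent.Lib.NormalPBlk Cfsg.Agent.Lib.DefPairs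
open Cfsg.Agent.Lib.InducedPair Cfsg.Agent.Lib.BlkTransport Cfsg.Agent.Lib.StabQuot
open Cfsg.Agent.Lib.CoverUp Cfsg.Agent.Lib.CharBasic Cfsg.Agent.Lib.CoreBlk Cfsg.Agent.Lib.CoreExt

universe u

variable {p : ℕ} [hp : Fact p.Prime] {M : Ideal AlgInt} [hMm : M.IsMaximal] [hchar : CharP (Kf M) p]
  {G : Type u} [Group G] [Finite G]

omit hp hchar in
/-- blocks of a `p'`-group are singletons -/
theorem eq_singleton_of_not_dvd (hM : IsPModular p M) {K : Type u} [Group K] [Finite K]
    (hK : ¬ p ∣ Nat.card K) {b : Set (IrrCharacter K)} (hb : IsPBlock M b) :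
    ∃ θ : IrrCharacter K, b = {θ} := by
  have hMP := hMm.isPrime
  obtain ⟨θ, hθ⟩ := isPBlock_nonempty hb
  refine ⟨θ, ?_⟩
  have h1 := BlockPPrime.unionOfBlocks_of_not_dvd (M := M) hM hK ({θ} : Set (IrrCharacter K))
  ext ψ
  rw [Set.mem_singleton_iff]
  constructor
  · intro hψ
    exact h1 θ rfl ψ (sameBlock_of_mem hb hθ hψ)
  · rintro rfl; exact hθ

omit hp hchar in
theorem isPBlock_singleton (hM : IsPModular p M) {K : Type u} [Group K] [Finite K]
    (hK : ¬ p ∣ Nat.card K) (θ : IrrCharacter K) : IsPBlock M ({θ} : Set (IrrCharacter K)) := by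
  have hMP := hMm.isPrime
  have hb : IsPBlock M (blockOf M (θ : K → ℂ)) := ⟨θ, rfl⟩
  obtain ⟨θ', h⟩ := eq_singleton_of_not_dvd hM hK hb
  have h2 : θ ∈ blockOf M (θ : K → ℂ) := mem_blockOf_self θ
  rw [h, Set.mem_singleton_iff] at h2
  rw [h2, ← h]
  exact hb

/-- The main theorem for one group. -/
theorem isBlk_top (hM : IsPModular p M) {K L Q : Subgroup G} [hKn : K.Normal] [hLn : L.Normal]
    (hL : L = Q ⊔ K) (hQ : IsPGroup p Q) (hK : ¬ p ∣ Nat.card K)
    (hC : Subgroup.centralizer (Q : Set G) ≤ L) {e : MonoidAlgebra (Kf M) G} (he : IsBlk K e)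
    (hst : ∀ x : G, BrauerMap.cj x e = e) : IsBlk (⊤ : Subgroup G) e := by
  have hMP := hMm.isPrime
  have hb := hasBlocks (M := M) (G := G)
  have hKL : K ≤ L := by rw [hL]; exact le_sup_right
  have hQL : Q ≤ L := by rw [hL]; exact le_sup_left
  have hQK : Q ≤ Subgroup.normalizer (K : Set G) := Subgroup.le_normalizer_of_normal
  have hpow : ∃ n, K.relIndex L = p ^ n := by rw [hL]; exact relIndex_sup_ppow hQK hQ
  -- extension data
  obtain ⟨b, hbb, rfl⟩ := exists_bid he
  obtain ⟨θ, rfl⟩ := eq_singleton_of_not_dvd hM hK hbb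
  have hinv : ∀ g : G, IsConjCharOf K g (θ : K → ℂ) (θ : K → ℂ) := by
    intro g
    have h1 := (stabilizesBlock_iff (M := M) (K := K) (x := g)
      (by rw [Subgroup.normalizer_eq_top]; trivial) hbb).mpr (hst g)
    obtain ⟨θ', hθ', hc⟩ := h1.2 θ rfl
    rw [Set.mem_singleton_iff] at hθ'
    rwa [hθ'] at hc
  obtain ⟨c, x, hx, hrr⟩ := exists_extData hM hKL hpow hK θ hinv
  have hKk : (Nat.card K : Kf M) ≠ 0 := by
    intro h0
    exact hK ((CharP.cast_eq_zero_iff (Kf M) p _).mp h0)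
  have hKQ : ∀ l ∈ L, ∃ y ∈ K, ∃ q ∈ Q, l = y * q := by
    intro l hl
    rw [hL] at hl
    obtain ⟨q, hq, hql⟩ := (mem_sup_iff_of_norm hQK).mp hl
    refine ⟨q * (q⁻¹ * l) * q⁻¹, hKn.conj_mem _ hql q, q, hq, by group⟩
  set e := bid M K {θ} with hedef
  have heZ : e ∈ BrauerMap.ZAlg (Kf M) (⊤ : Subgroup G) :=
    ⟨BrauerMap.mem_suppAlg_top e, fun x _ => hst x⟩
  have hstar : ∀ w, w ∈ BrauerMap.ZAlg (Kf M) (⊤ : Subgroup G) → w * w = w → e * w = w →
      BrauerMap.br Q w = 0 → w = 0 := by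
    intro w hw hww hew h0
    exact eq_zero_of_br hKn hLn hx hKk hQ hQL hKQ hw hww (by rw [hrr]; exact hew) h0
  have hbr := (isBlk_br hM hQ hQK hK he (fun x _ => hst x)).1
  have hCL : Subgroup.centralizer (Q : Set G) ⊓ (Q ⊔ K) = Subgroup.centralizer (Q : Set G) := by
    rw [← hL]; exact inf_eq_left.mpr hC
  rw [hCL] at hbr
  refine isBlk_of_unique hb heZ he.idem he.ne_zero ?_
  have hfix : ∀ w ∈ BrauerMap.ZAlg (Kf M) (⊤ : Subgroup G), w ∈ BrauerMap.fixAlg (Kf M) Q :=
    fun w hw => BrauerMap.fixAlg_anti le_top hw.2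
  have key : ∀ f, IsBlk (⊤ : Subgroup G) f → e * f = f → BrauerMap.br Q f = BrauerMap.br Q e := by
    intro f hf hef
    have hne : BrauerMap.br Q f ≠ 0 := fun h0 => hf.ne_zero (hstar f hf.mem hf.idem hef h0)
    have hfZ : BrauerMap.br Q f ∈ BrauerMap.ZAlg (Kf M) (Subgroup.centralizer (Q : Set G)) :=
      ⟨BrauerMap.br_mem_suppAlg Q f, BrauerMap.br_mem_fixAlg (centralizer_le_normalizer Q)
        (BrauerMap.fixAlg_anti le_top hf.mem.2)⟩
    have hff : BrauerMap.br Q f * BrauerMap.br Q f = BrauerMap.br Q f := by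
      rw [← BrauerMap.br_mul (p := p) hQ (hfix f hf.mem) (hfix f hf.mem), hf.idem]
    have hef' : BrauerMap.br Q e * BrauerMap.br Q f = BrauerMap.br Q f := by
      rw [← BrauerMap.br_mul (p := p) hQ (hfix e heZ) (hfix f hf.mem), hef]
    rcases hbr.mul_idem hfZ hff with h1 | h1
    · rw [← hbr.comm hfZ, h1] at hef'
      exact hef'.symm
    · rw [← hbr.comm hfZ, h1] at hef'
      exact absurd hef'.symm hne
  intro f g hf hg h1 h2
  by_contra hne
  have h3 := hf.orth hg hne
  have h4 : BrauerMap.br Q f * BrauerMap.br Q g = 0 := by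
    rw [← BrauerMap.br_mul (p := p) hQ (hfix f hf.mem) (hfix g hg.mem), h3, BrauerMap.br_zero]
  rw [key f hf h1, key g hg h2, hbr.idem] at h4
  exact hbr.ne_zero h4

section constrained

open Cfsg.Agent.Lib.PConstrained Cfsg.Agent.Lib.PComponents Cfsg.Agent.Lib.LocalLayer

omit hMm hchar in
theorem pPrimePCore_eq_sup (P : Sylow p (pPrimePCore p G)) :
    pPrimePCore p G = (P : Subgroup (pPrimePCore p G)).map (pPrimePCore p G).subtype ⊔ pPrimeCore p G := by
  have h1 := map_sylow_pPrimePCore P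
  have h2 := congrArg (Subgroup.comap (QuotientGroup.mk' (pPrimeCore p G))) h1
  rw [Subgroup.comap_map_eq, QuotientGroup.ker_mk'] at h2
  exact h2.symm

/-- a stable block of `O_{p'}(G)` is a block of the `p`-constrained group `G` -/
theorem isBlk_top_of_constrained (hM : IsPModular p M) (hG : IsPConstrained p G)
    {e : MonoidAlgebra (Kf M) G} (he : IsBlk (pPrimeCore p G) e)
    (hst : ∀ x : G, BrauerMap.cj x e = e) : IsBlk (⊤ : Subgroup G) e := by
  have hn1 : (pPrimeCore p G).Normal := inferInstance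
  have hn2 : (pPrimePCore p G).Normal := by
    have : (pCore p (G ⧸ pPrimeCore p G)).Normal := inferInstance
    exact this.comap _
  let P : Sylow p (pPrimePCore p G) := default
  exact isBlk_top hM (pPrimePCore_eq_sup P) (P.isPGroup'.map _) not_dvd_card_pPrimeCore (hG P) he hst

omit hMm hchar in
/-- the `p`-layer of the centralizer of a `p`-subgroup is trivial if that of `G` is -/
theorem pLayer_centralizer_eq_bot (hL : pLayer p G = ⊥) {R : Subgroup G} (hR : IsPGroup p R) :
    pLayer p ↥(Subgroup.centralizer (R : Set G)) = ⊥ := by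
  have h0 := pLayer_normalizer_eq_bot hL hR
  set N := Subgroup.normalizer (R : Set G) with hN
  set C := Subgroup.centralizer (R : Set G) with hC
  have hCN : C ≤ N := centralizer_le_normalizer R
  rw [eq_bot_iff]
  refine sSup_le ?_
  intro K hK
  set K' := K.map C.subtype with hK'
  have hK'C : K' ≤ C := Subgroup.map_subtype_le _
  have hKK : K'.subgroupOf C = K := Subgroup.comap_map_eq_self_of_injective C.subtype_injective _
  have h1 : IsPComponent p (K'.subgroupOf C) := by rw [hKK]; exact hK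
  have h2 := (isPComponent_subgroupOf_iff hK'C).mp h1
  have h3 : IsPComponent p (K'.subgroupOf N) :=
    (isPComponent_subgroupOf_iff (hK'C.trans hCN)).mpr
      ⟨isSubnormal_transfer h2.1 hK'C le_rfl hCN (normalizer_le_normalizer_centralizer R), h2.2⟩
  have h4 : K'.subgroupOf N ≤ pLayer p ↥N := le_sSup h3
  rw [h0, le_bot_iff] at h4
  have h5 : K' = ⊥ := by
    have := congrArg (Subgroup.map N.subtype) h4
    rwa [Subgroup.subgroupOf_map_subtype, inf_eq_left.mpr (hK'C.trans hCN), Subgroup.map_bot] at this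
  rw [le_bot_iff, ← hKK, h5, Subgroup.bot_subgroupOf]

omit hMm hchar in
theorem map_pPrimeCore_centralizer (hL : pLayer p G = ⊥) {R : Subgroup G} (hR : IsPGroup p R) :
    (Subgroup.centralizer (R : Set G) ⊓ pPrimeCore p G).subgroupOf (Subgroup.centralizer (R : Set G)) =
      pPrimeCore p ↥(Subgroup.centralizer (R : Set G)) := by
  have hn1 : (pPrimeCore p G).Normal := inferInstance
  set C := Subgroup.centralizer (R : Set G) with hC
  apply le_antisymm
  · refine le_sSup ⟨?_, ?_⟩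
    · rw [Subgroup.inf_subgroupOf_left]
      infer_instance
    · rw [Subgroup.inf_subgroupOf_left]
      have h2 : Nat.card ↥((pPrimeCore p G).subgroupOf C) ∣ Nat.card ↥(pPrimeCore p G) :=
        Subgroup.card_comap_dvd_of_injective _ _ C.subtype_injective
      exact Nat.Coprime.coprime_dvd_left h2 (Cores.coprime_card_pPrimeCore p G)
  · intro x hx
    rw [Subgroup.mem_subgroupOf]
    refine ⟨x.2, ?_⟩
    have hn : (pPrimeCore p ↥C).Normal := inferInstance
    refine le_pPrimeCore_of_pLayer_eq_bot hL hR (K := (pPrimeCore p ↥C).map C.subtype)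
      (Subgroup.map_subtype_le _) ?_ ?_ ⟨x, hx, rfl⟩
    · intro c hc
      rw [Subgroup.mem_normalizer_iff]
      intro y
      constructor
      · rintro ⟨z, hz, rfl⟩
        exact ⟨⟨c, hc⟩ * z * ⟨c, hc⟩⁻¹, hn.conj_mem z hz ⟨c, hc⟩, rfl⟩
      · rintro ⟨z, hz, hzy⟩
        refine ⟨⟨c, hc⟩⁻¹ * z * ⟨c, hc⟩, ?_, ?_⟩
        · have := hn.conj_mem z hz ⟨c, hc⟩⁻¹
          rwa [inv_inv] at this
        · show c⁻¹ * (z : G) * c = y
          have h1 : (z : G) = c * y * c⁻¹ := hzy
          rw [h1]; group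
    · rw [Cores.card_map_subtype]
      exact Cores.coprime_card_pPrimeCore p _

/-- Brauer images of stable blocks of `O_{p'}(G)` in a `p`-constrained group -/
theorem isBlk_br_of_constrained (hM : IsPModular p M) (hG : IsPConstrained p G)
    {e : MonoidAlgebra (Kf M) G} (he : IsBlk (pPrimeCore p G) e)
    (hst : ∀ x : G, BrauerMap.cj x e = e) {R : Subgroup G} (hR : IsPGroup p R) :
    IsBlk (Subgroup.centralizer (R : Set G)) (BrauerMap.br R e) := by
  have hn1 : (pPrimeCore p G).Normal := inferInstance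
  have hL := isPConstrained_iff_pLayer.mp hG
  have h1 := (isBlk_br hM hR Subgroup.le_normalizer_of_normal not_dvd_card_pPrimeCore he
    (fun x _ => hst x)).2
  set C := Subgroup.centralizer (R : Set G) with hC
  have hi : inc C (res C (BrauerMap.br R e)) = BrauerMap.br R e :=
    inc_res C (BrauerMap.br_mem_suppAlg R e)
  have h2 : IsBlk (pPrimeCore p ↥C) (res C (BrauerMap.br R e)) := by
    rw [← map_pPrimeCore_centralizer hL hR, ← isBlk_inc_iff inf_le_left, hi]
    exact h1
  have h3 : ∀ x : C, BrauerMap.cj x (res C (BrauerMap.br R e)) = res C (BrauerMap.br R e) := by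
    intro x
    apply inc_injective (M := M) C
    rw [inc_cj, hi, BrauerMap.cj_br (centralizer_le_normalizer R x.2), hst]
  have h4 := isBlk_top_of_constrained hM
    (isPConstrained_iff_pLayer.mpr (pLayer_centralizer_eq_bot hL hR)) h2 h3
  rw [← isBlk_inc_top_iff, hi] at h4
  exact h4

end constrained

end Cfsg.Agent.Lib.CoreTop
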