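import Mathlib

/-!
# Order estimates from transversals
-/

set_option autoImplicit false

namespace Cfsg.Agent.Lib.CosetGe

variable {G : Type*} [Group G]

theorem card_rel {T J : Subgroup G} (h : T ≤ J) : Nat.card T * T.relIndex J = Nat.card J := by
  have := (T.subgroupOf J).card_mul_index
  rw [Nat.card_congr (Subgroup.subgroupOfEquivOfLe h).toEquiv] at this
  exact this

/-- elements in distinct cosets -/
theorem coset_ge {T J : Subgroup G} (h : T ≤ J) [Finite J] {α : Type*} (f : G → α)
    (hf : ∀ g ∈ J, ∀ t ∈ T, f (g * t) = f g) (l : List G) (hl : ∀ g ∈ l, g ∈ J) (hnd : (l.map f).Nodup) :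
    l.length * Nat.card T ≤ Nat.card J := by
  have hfT : Finite T := Finite.of_injective (Subgroup.inclusion h) (Subgroup.inclusion_injective h)
  let F : Fin l.length × T → J := fun p => ⟨l[p.1] * p.2, J.mul_mem (hl _ (List.getElem_mem p.1.2)) (h p.2.2)⟩
  have hF : Function.Injective F := by
    rintro ⟨i, t⟩ ⟨j, u⟩ he
    have h1 : l[i] * (t : G) = l[j] * (u : G) := congrArg Subtype.val he
    have h2 : f l[i.1] = f l[j.1] :=
      (hf _ (hl _ (List.getElem_mem i.2)) _ t.2).symm.trans
        ((congrArg f h1).trans (hf _ (hl _ (List.getElem_mem j.2)) _ u.2))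
    have h3 : i = j := by
      apply Fin.ext
      have hi : i.1 < (l.map f).length := by rw [List.length_map]; exact i.2
      have hj : j.1 < (l.map f).length := by rw [List.length_map]; exact j.2
      refine (List.Nodup.getElem_inj_iff hnd (hi := hi) (hj := hj)).mp ?_
      rw [List.getElem_map, List.getElem_map]; exact h2
    subst h3
    have h4 : t = u := Subtype.ext (mul_left_cancel h1)
    rw [h4]
  have := Nat.card_le_card_of_injective F hF
  rwa [Nat.card_prod, Nat.card_fin] at this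

/-- induction over a subgroup given by generators -/
theorem gen_all {S : Type*} [Group S] (C : Subgroup G) (Γ : Subgroup (C × S)) (T : Set G)
    (hC : C = Subgroup.closure T) (hT : ∀ t ∈ T, ∃ (ht : t ∈ C) (m : S), ((⟨t, ht⟩ : C), m) ∈ Γ) :
    ∀ h : C, ∃ m : S, (h, m) ∈ Γ := by
  have key : ∀ g ∈ Subgroup.closure T, ∃ (hg : g ∈ C) (m : S), ((⟨g, hg⟩ : C), m) ∈ Γ := by
    intro g hg
    induction hg using Subgroup.closure_induction with
    | mem g hg' => exact hT g hg'
    | one => exact ⟨C.one_mem, 1, Γ.one_mem⟩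
    | mul a b _ _ iha ihb =>
      obtain ⟨ha, m, hm⟩ := iha
      obtain ⟨hb, n, hn⟩ := ihb
      exact ⟨C.mul_mem ha hb, m * n, Γ.mul_mem hm hn⟩
    | inv a _ iha =>
      obtain ⟨ha, m, hm⟩ := iha
      exact ⟨C.inv_mem ha, m⁻¹, Γ.inv_mem hm⟩
  rintro ⟨g, hg⟩
  obtain ⟨_, m, hm⟩ := key g (hC ▸ hg)
  exact ⟨m, hm⟩

/-- the range of a homomorphism is controlled by the generators -/
theorem range_le_of_gens {S : Type*} [Group S] (C : Subgroup G) (ψ : C →* S) (K : Subgroup S) (T : Set G)
    (hC : C = Subgroup.closure T) (hT : ∀ t ∈ T, ∃ (ht : t ∈ C), ψ ⟨t, ht⟩ ∈ K) : ψ.range ≤ K := by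
  have key : ∀ g ∈ Subgroup.closure T, ∃ (hg : g ∈ C), ψ ⟨g, hg⟩ ∈ K := by
    intro g hg
    induction hg using Subgroup.closure_induction with
    | mem g hg' => exact hT g hg'
    | one => exact ⟨C.one_mem, by
        have := K.one_mem
        rwa [← map_one ψ] at this⟩
    | mul a b _ _ iha ihb =>
      obtain ⟨ha, hm⟩ := iha
      obtain ⟨hb, hn⟩ := ihb
      refine ⟨C.mul_mem ha hb, ?_⟩
      have := K.mul_mem hm hn
      rwa [← map_mul] at this
    | inv a _ iha =>
      obtain ⟨ha, hm⟩ := iha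
      refine ⟨C.inv_mem ha, ?_⟩
      have := K.inv_mem hm
      rwa [← map_inv] at this
  rintro _ ⟨⟨g, hg⟩, rfl⟩
  exact (key g (hC ▸ hg)).2

end Cfsg.Agent.Lib.CosetGe
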