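import Cfsg.Agent.Lib.CovDefs
import Cfsg.Agent.Lib.CyclicComm

/-! S2483, piece Q2: polynomials, transports (helper84) -/

set_option autoImplicit false

namespace Cfsg.Agent.Lib.CovQ2

open Module Polynomial Cfsg.Agent.Lib.CyclicProd Cfsg.Agent.Lib.CovDefs

universe u

variable {F : Type u} [Field F]

/-- the trinomial -/
noncomputable def tri (e : ℕ) (u b : F) : F[X] := X ^ e + C u * X + C b

theorem tri_eval (e : ℕ) (u b x : F) : (tri e u b).eval x = x ^ e + u * x + b := by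
  simp [tri]

theorem tri_deg_lt {e : ℕ} (he : 2 ≤ e) (u b : F) : (C u * X + C b : F[X]).degree < (e : WithBot ℕ) := by
  refine lt_of_le_of_lt (degree_linear_le) ?_
  exact_mod_cast (by omega : 1 < e)

theorem tri_monic {e : ℕ} (he : 2 ≤ e) (u b : F) : (tri e u b).Monic := by
  unfold tri
  rw [add_assoc]
  exact monic_X_pow_add (tri_deg_lt he u b)

theorem tri_natDegree {e : ℕ} (he : 2 ≤ e) (u b : F) : (tri e u b).natDegree = e := by
  unfold tri
  rw [add_assoc]
  rw [natDegree_add_eq_left_of_degree_lt (by rw [degree_X_pow]; exact tri_deg_lt he u b), natDegree_X_pow]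

theorem tri_coeff {e : ℕ} (he : 2 ≤ e) (u b : F) : (tri e u b).coeff 0 = b := by
  unfold tri
  simp only [coeff_add, coeff_X_pow, coeff_C_mul, coeff_X_zero, coeff_C_zero, mul_zero, add_zero]
  rw [if_neg (by omega), zero_add]

theorem exists_tri [Fintype F] {e : ℕ} (he : 2 ≤ e) {b : F} (hb : b ≠ 0) :
    ∃ u : F, ∀ x : F, (tri e u b).eval x ≠ 0 := by
  classical
  have h1 : ¬ Function.Surjective (fun x : Fˣ => -(((x : F) ^ e + b) / (x : F))) := by
    intro hs
    have h2 := Fintype.card_le_of_surjective _ hs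
    have h3 : Fintype.card Fˣ = Fintype.card F - 1 := Fintype.card_units F
    have h4 : 0 < Fintype.card F := Fintype.card_pos
    omega
  unfold Function.Surjective at h1
  push Not at h1
  obtain ⟨u, hu⟩ := h1
  refine ⟨u, fun x hx => ?_⟩
  rw [tri_eval] at hx
  by_cases h0 : x = 0
  · subst h0
    rw [zero_pow (by omega), mul_zero, zero_add, zero_add] at hx
    exact hb hx
  · apply hu (Units.mk0 x h0)
    rw [Units.val_mk0]
    field_simp
    linear_combination -hx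

theorem coprime_X_sub {h : F[X]} {c : F} (hc : h.eval c ≠ 0) : IsCoprime h (X - C c) := by
  rw [isCoprime_comm]
  apply (irreducible_X_sub_C c).coprime_iff_not_dvd.mpr
  rw [dvd_iff_isRoot]
  exact hc

theorem coprime_C {h : F[X]} {a : F} (ha : a ≠ 0) : IsCoprime h (C a) :=
  ⟨0, C a⁻¹, by rw [zero_mul, zero_add, ← C_mul, inv_mul_cancel₀ ha, C_1]⟩

theorem coprime_tri {e : ℕ} {u₁ u₂ b₁ b₂ : F} (hb : b₁ ≠ b₂) (h1 : ∀ x, (tri e u₁ b₁).eval x ≠ 0) :
    IsCoprime (tri e u₁ b₁) (tri e u₂ b₂) := by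
  have e1 : tri e u₂ b₂ = (C (u₂ - u₁) * X + C (b₂ - b₁)) + tri e u₁ b₁ * 1 := by
    unfold tri
    rw [C_sub, C_sub]; ring
  rw [e1]
  apply IsCoprime.add_mul_left_right
  by_cases hu : u₁ = u₂
  · rw [hu, sub_self, C_0, zero_mul, zero_add]
    exact coprime_C (sub_ne_zero.mpr hb.symm)
  · have hu' : u₂ - u₁ ≠ 0 := sub_ne_zero.mpr (Ne.symm hu)
    have e2 : (C (u₂ - u₁) * X + C (b₂ - b₁) : F[X]) = C (u₂ - u₁) * (X - C (-(b₂ - b₁) / (u₂ - u₁))) := by
      rw [mul_sub, ← C_mul, mul_div_cancel₀ _ hu', C_neg, sub_neg_eq_add]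
    rw [e2]
    apply IsCoprime.mul_right
    · exact coprime_C hu'
    · exact coprime_X_sub (h1 _)

/-- the good polynomial -/
noncomputable def gd (e : ℕ) (u b c : F) : F[X] := tri e u b * (X - C c)

theorem gd_monic {e : ℕ} (he : 2 ≤ e) (u b c : F) : (gd e u b c).Monic := (tri_monic he u b).mul (monic_X_sub_C c)

theorem gd_natDegree {e : ℕ} (he : 2 ≤ e) (u b c : F) : (gd e u b c).natDegree = e + 1 := by
  unfold gd
  rw [(tri_monic he u b).natDegree_mul (monic_X_sub_C c), tri_natDegree he, natDegree_X_sub_C]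

theorem gd_coeff {e : ℕ} (he : 2 ≤ e) (u b c : F) : (gd e u b c).coeff 0 = -(b * c) := by
  unfold gd
  rw [mul_coeff_zero, tri_coeff he]
  simp

theorem gd_sr {e : ℕ} {u b : F} (c : F) (h : ∀ x, (tri e u b).eval x ≠ 0) : SR (gd e u b c) := ⟨c, _, rfl, h c⟩

theorem gd_eval {e : ℕ} {u b c x : F} (h : ∀ x, (tri e u b).eval x ≠ 0) (hx : x ≠ c) : (gd e u b c).eval x ≠ 0 := by
  unfold gd
  rw [eval_mul]
  refine mul_ne_zero (h x) ?_
  simp [sub_ne_zero, hx]

theorem gd_coprime {e : ℕ} {u₁ u₂ b₁ b₂ c₁ c₂ : F} (hb : b₁ ≠ b₂) (hc : c₁ ≠ c₂) (h1 : ∀ x, (tri e u₁ b₁).eval x ≠ 0)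
    (h2 : ∀ x, (tri e u₂ b₂).eval x ≠ 0) : IsCoprime (gd e u₁ b₁ c₁) (gd e u₂ b₂ c₂) := by
  unfold gd
  apply IsCoprime.mul_left
  · apply IsCoprime.mul_right
    · exact coprime_tri hb h1
    · exact coprime_X_sub (h1 _)
  · apply IsCoprime.mul_right
    · exact (coprime_X_sub (h2 _)).symm
    · apply coprime_X_sub
      simp [sub_ne_zero, hc.symm]

theorem sr_mul {p q : F[X]} (hp : SR p) (h : ∀ c, p.eval c = 0 → q.eval c ≠ 0) : SR (p * q) := by
  obtain ⟨c, p', rfl, hc⟩ := hp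
  refine ⟨c, p' * q, by ring, ?_⟩
  rw [eval_mul]
  exact mul_ne_zero hc (h c (by simp))

section transport

variable {V V₂ : Type u} [AddCommGroup V] [Module F V] [AddCommGroup V₂] [Module F V₂]

theorem cyc_transport {A : V ≃ₗ[F] V} {B : V₂ ≃ₗ[F] V₂} (e : V ≃ₗ[F] V₂) (he : ∀ x, e (A x) = B (e x)) {p : F[X]}
    (h : Cyc B p) : Cyc A p := by
  obtain ⟨h1, h2, ⟨v, hv⟩, h4⟩ := h
  have he' : ∀ x, e.symm (B x) = A (e.symm x) := by
    intro x
    apply e.injective
    rw [he, LinearEquiv.apply_symm_apply, LinearEquiv.apply_symm_apply]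
  refine ⟨h1, by rw [h2, e.finrank_eq], ⟨e.symm v, CyclicComm.cycVec_conj e.symm he' hv⟩, ?_⟩
  ext x
  have h5 := CyclicComm.aeval_conj (T := A.toLinearMap) (T₂ := B.toLinearMap) e he p x
  rw [h4, LinearMap.zero_apply] at h5
  rw [LinearMap.zero_apply]
  exact e.map_eq_zero_iff.mp h5

theorem det_bs {U W : Type u} [AddCommGroup U] [Module F U] [FiniteDimensional F U] [AddCommGroup W] [Module F W]
    [FiniteDimensional F W] (A : U ≃ₗ[F] U) (B : W ≃ₗ[F] W) :
    LinearEquiv.det (bs A B) = LinearEquiv.det A * LinearEquiv.det B := by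
  apply Units.ext
  rw [Units.val_mul, LinearEquiv.coe_det, LinearEquiv.coe_det, LinearEquiv.coe_det]
  exact LinearMap.det_prodMap _ _

theorem det_eq_of_sim {A : V ≃ₗ[F] V} {B : V₂ ≃ₗ[F] V₂} (e : V ≃ₗ[F] V₂) (he : ∀ x, e (A x) = B (e x)) :
    LinearEquiv.det A = LinearEquiv.det B := by
  have h1 : B = (e.symm.trans A).trans e := by
    ext x
    change B x = e (A (e.symm x))
    rw [he, LinearEquiv.apply_symm_apply]
  rw [h1]
  apply Units.ext
  rw [LinearEquiv.coe_det, LinearEquiv.coe_det]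
  exact (LinearMap.det_conj A.toLinearMap e).symm

end transport

/-- powers of scalars -/
theorem sc_ip (V : Type u) [AddCommGroup V] [Module F V] (l : Fˣ) (k : ℕ) :
    IP (sc V l) (List.replicate k 1) (sc V (l ^ k)) := by
  induction k with
  | zero =>
    rw [pow_zero]
    change sc V 1 = 1
    ext x; simp [sc, LinearEquiv.smulOfUnit]
  | succ k ih =>
    refine ⟨1, sc V (l ^ k), map_one _, ih, ?_⟩
    ext x
    change (l ^ (k + 1) : Fˣ) • x = (1 : V ≃ₗ[F] V) ((sc V l) ((1 : V ≃ₗ[F] V)⁻¹ ((sc V (l ^ k)) x)))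
    rw [inv_one]
    change (l ^ (k + 1) : Fˣ) • x = l • (l ^ k • x)
    rw [pow_succ', mul_smul]

theorem sc_wp (V : Type u) [AddCommGroup V] [Module F V] (l : Fˣ) (k : ℕ) : WP (sc V l) k (sc V (l ^ k)) :=
  ⟨List.replicate k 1, List.length_replicate, sc_ip V l k⟩

/-- one-dimensional cyclic operators -/
theorem sc_cyc (m : Fˣ) : Cyc (sc F m) (X - C (m : F)) := by
  refine ⟨monic_X_sub_C _, by rw [natDegree_X_sub_C, finrank_self], ⟨(1 : F), ?_⟩, ?_⟩
  · intro W h1 _
    rw [eq_top_iff]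
    intro x _
    have : x = x • (1 : F) := by simp
    rw [this]; exact W.smul_mem _ h1
  · ext
    simp [sc, LinearEquiv.smulOfUnit, Units.smul_def]

end Cfsg.Agent.Lib.CovQ2
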