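import Mathlib
import Cfsg.Agent.Lib.CovQ2
import Cfsg.Agent.Lib.CovW

set_option autoImplicit false

/-!
Piece Q2 of S2483, final form (helper69).
-/

namespace Cfsg.Agent.Lib.CovQ2

open Module Polynomial Cfsg.Agent.Lib.CyclicProd Cfsg.Agent.Lib.CovDefs

universe u

variable {F : Type u} [Field F]

theorem wStmt : WStmt F := fun _ _ _ _ _ _ _ _ l _ _ hC h2 _ hk1 hk => CovW.W l hC h2 hk1 hk

set_option linter.unusedVariables false in
theorem Q2 [Fintype F] (h4 : 4 ≤ Fintype.card F) {E U U' : Type u}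
    [AddCommGroup E] [Module F E] [FiniteDimensional F E]
    [AddCommGroup U] [Module F U] [FiniteDimensional F U]
    [AddCommGroup U'] [Module F U'] [FiniteDimensional F U'] (l : Fˣ) {C : U ≃ₗ[F] U}
    {C' : U' ≃ₗ[F] U'} {f : F[X]} (hU : finrank F U = 2) (hU' : finrank F U' = 2)
    (hC : Cyc C f) (hC' : Cyc C' f) (hE : 2 ≤ finrank F E)
    (hf : f.eval (l : F) = 0) : H (bs (sc E l) (bs C C')) :=
  Q2_ofW wStmt h4 l hU hU' hC hC' hE

end Cfsg.Agent.Lib.CovQ2
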