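import Mathlib
import Cfsg.Agent.Lib.CovSC3b
import Cfsg.Agent.Lib.CovPEEL

set_option autoImplicit false

/-!
Scalars as products of conjugates of `l ⊕ C`, `C` cyclic of size three (S2483, piece SC3).
-/

namespace Cfsg.Agent.Lib.CovSC3

open Module Polynomial Cfsg.Agent.Lib.CyclicProd Cfsg.Agent.Lib.CovDefs

universe u

variable {F : Type u} [Field F]

/-- **SC3.** -/
theorem SC3 [Fintype F] (h4 : 4 ≤ Fintype.card F) {E U : Type u}
    [AddCommGroup E] [Module F E] [FiniteDimensional F E]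
    [AddCommGroup U] [Module F U] [FiniteDimensional F U] (l : Fˣ) {C : U ≃ₗ[F] U} {f : F[X]}
    (hC : Cyc C f) (hU : finrank F U = 3) (hE : 1 ≤ finrank F E) (hf : f.eval (l : F) = 0)
    (hd : LinearEquiv.det (bs (sc E l) C) = 1) :
    ∃ z : Fˣ, WP (bs (sc E l) C) (finrank F E + 3) (sc (E × U) z) :=
  SC3_of h4 (fun l _ _ hC h3 _ hN _ hM hdet => Cfsg.Agent.Lib.CovPEEL.PEEL h4 l hC h3 hN hM hdet) l hC hU hE hf hd

end Cfsg.Agent.Lib.CovSC3
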