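import Mathlib

/-!
# `GL₄(2) ≅ A₈`

The 28 invertible alternating `4 × 4` matrices over `𝔽₂` are the sums `vv a + vv b`, `a ≠ b`, of eight alternating
matrices `vv 0 = 0, vv 1, …, vv 7` (with sum zero).  `GL₄(2)` acts by `A ↦ g A gᵀ`, and permutes the eight indices.
-/

set_option autoImplicit false

namespace Cfsg.Agent.Lib.GL4A8

open Matrix

/-- 4 by 4 matrices over the field with two elements -/
abbrev M4 := Matrix (Fin 4) (Fin 4) (ZMod 2)

/-- eight alternating matrices -/
def vv : Fin 8 → M4 :=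
  ![!![0, 0, 0, 0; 0, 0, 0, 0; 0, 0, 0, 0; 0, 0, 0, 0],
    !![0, 0, 0, 1; 0, 0, 1, 0; 0, 1, 0, 0; 1, 0, 0, 0],
    !![0, 0, 1, 1; 0, 0, 0, 1; 1, 0, 0, 0; 1, 1, 0, 0],
    !![0, 1, 1, 0; 1, 0, 1, 1; 1, 1, 0, 0; 0, 1, 0, 0],
    !![0, 1, 1, 1; 1, 0, 0, 0; 1, 0, 0, 1; 1, 0, 1, 0],
    !![0, 1, 0, 0; 1, 0, 1, 0; 0, 1, 0, 1; 0, 0, 1, 0],
    !![0, 1, 0, 1; 1, 0, 0, 1; 0, 0, 0, 1; 1, 1, 1, 0],
    !![0, 0, 1, 0; 0, 0, 1, 1; 1, 1, 0, 1; 0, 1, 1, 0]]

/-- permutation table of the transvections -/
def pt : Fin 4 → Fin 4 → Fin 8 → Fin 8 :=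
  ![![id, ![4, 5, 6, 7, 0, 1, 2, 3], ![2, 3, 0, 1, 6, 7, 4, 5], ![1, 0, 3, 2, 5, 4, 7, 6]],
    ![![5, 6, 4, 7, 2, 0, 1, 3], id, ![1, 0, 3, 2, 7, 6, 5, 4], ![3, 2, 1, 0, 6, 7, 4, 5]],
    ![![7, 2, 1, 5, 6, 3, 4, 0], ![1, 0, 7, 6, 5, 4, 3, 2], id, ![5, 4, 6, 7, 1, 0, 2, 3]],
    ![![1, 0, 7, 4, 3, 6, 5, 2], ![2, 7, 0, 5, 6, 3, 4, 1], ![6, 5, 4, 7, 2, 1, 0, 3], id]]

theorem pt_invol : ∀ i j a, pt i j (pt i j a) = a := by decide +kernel

/-- the permutation attached to a transvection -/
def ptPerm (i j : Fin 4) : Equiv.Perm (Fin 8) := ⟨pt i j, pt i j, pt_invol i j, pt_invol i j⟩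

theorem ptPerm_sign : ∀ i j, Equiv.Perm.sign (ptPerm i j) = 1 := by decide +kernel

/-- the action of matrices on matrices -/
def act (g A : M4) : M4 := g * A * gᵀ

theorem act_mul (g h A : M4) : act (g * h) A = act g (act h A) := by
  simp only [act, Matrix.transpose_mul, Matrix.mul_assoc]

theorem act_add (g A B : M4) : act g (A + B) = act g A + act g B := by
  simp only [act, Matrix.mul_add, Matrix.add_mul]

theorem act_one (A : M4) : act 1 A = A := by
  simp [act]

/-- `g` induces the permutation `π` -/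
def Good (g : M4) (π : Equiv.Perm (Fin 8)) : Prop := ∀ a, act g (vv a) = vv (π a) + vv (π 0)

instance (g : M4) (π : Equiv.Perm (Fin 8)) : Decidable (Good g π) := by
  unfold Good; infer_instance

theorem add_self' (A : M4) : A + A = 0 := by
  ext i j
  simp only [Matrix.add_apply, Matrix.zero_apply]
  exact CharTwo.add_self_eq_zero _

theorem Good.mul {g h : M4} {π σ : Equiv.Perm (Fin 8)} (hg : Good g π) (hh : Good h σ) :
    Good (g * h) (π * σ) := by
  intro a
  rw [act_mul, hh a, act_add, hg, hg]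
  simp only [Equiv.Perm.mul_apply]
  have : vv (π (σ a)) + vv (π 0) + (vv (π (σ 0)) + vv (π 0))
      = vv (π (σ a)) + vv (π (σ 0)) + (vv (π 0) + vv (π 0)) := by abel
  rw [this, add_self', add_zero]

theorem Good.one : Good 1 1 := by
  intro a
  rw [act_one]
  have : vv ((1 : Equiv.Perm (Fin 8)) 0) = 0 := by decide +kernel
  rw [this, add_zero]
  rfl

theorem vv_add : ∀ a b c d : Fin 8, a ≠ b → vv a + vv b = vv c + vv d →
    (a = c ∧ b = d) ∨ (a = d ∧ b = c) := by decide +kernel

theorem good_transvection : ∀ i j : Fin 4, i ≠ j → Good (Matrix.transvection i j 1) (ptPerm i j) := by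
  decide +kernel


theorem Good.unique {g : M4} {π σ : Equiv.Perm (Fin 8)} (h : Good g π) (h' : Good g σ) : π = σ := by
  have key : ∀ a : Fin 8, a ≠ 0 → (π a = σ a ∧ π 0 = σ 0) ∨ (π a = σ 0 ∧ π 0 = σ a) := by
    intro a ha
    apply vv_add _ _ _ _ (fun h0 => ha (π.injective h0))
    rw [← h a, h' a]
  have h0 : π 0 = σ 0 := by
    by_contra hne
    have h1 := key 1 (by decide)
    have h2 := key 2 (by decide)
    rcases h1 with h1 | h1
    · exact hne h1.2
    · rcases h2 with h2 | h2
      · exact hne h2.2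
      · have : (1 : Fin 8) = 2 := π.injective (h1.1.trans h2.1.symm)
        exact absurd this (by decide)
  ext a
  by_cases ha : a = 0
  · rw [ha, h0]
  · rcases key a ha with h1 | h1
    · rw [h1.1]
    · exact absurd (π.injective (h1.1.trans h0.symm)) ha

theorem zmod2_cases : ∀ x : ZMod 2, x = 0 ∨ x = 1 := by decide

theorem exists_good (g : M4) (hg : g.det ≠ 0) : ∃ π : Equiv.Perm (Fin 8), Good g π ∧ Equiv.Perm.sign π = 1 := by
  refine Matrix.diagonal_transvection_induction_of_det_ne_zero
    (fun g => ∃ π : Equiv.Perm (Fin 8), Good g π ∧ Equiv.Perm.sign π = 1) g hg ?_ ?_ ?_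
  · intro D hD
    have h1 : D = 1 := by
      funext i
      rw [Matrix.det_diagonal] at hD
      have h2 := Finset.prod_ne_zero_iff.mp hD i (Finset.mem_univ i)
      rcases zmod2_cases (D i) with h3 | h3
      · exact absurd h3 h2
      · exact h3
    rw [h1, Matrix.diagonal_one']
    exact ⟨1, Good.one, map_one _⟩
  · rintro ⟨i, j, hij, c⟩
    rcases zmod2_cases c with rfl | rfl
    · refine ⟨1, ?_, map_one _⟩
      simp only [Matrix.TransvectionStruct.toMatrix, Matrix.transvection_zero]
      exact Good.one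
    · exact ⟨ptPerm i j, good_transvection i j hij, ptPerm_sign i j⟩
  · rintro A B hA hB ⟨π, hπ, hπs⟩ ⟨σ, hσ, hσs⟩
    exact ⟨π * σ, hπ.mul hσ, by rw [map_mul, hπs, hσs, mul_one]⟩

theorem det_ne_zero (g : GL (Fin 4) (ZMod 2)) : (g : M4).det ≠ 0 := by
  have := (Matrix.isUnit_iff_isUnit_det (g : M4)).mp g.isUnit
  exact this.ne_zero

/-- the permutation of eight objects attached to an invertible matrix -/
noncomputable def permOf (g : GL (Fin 4) (ZMod 2)) : Equiv.Perm (Fin 8) :=
  (exists_good (g : M4) (det_ne_zero g)).choose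

theorem permOf_good (g : GL (Fin 4) (ZMod 2)) : Good (g : M4) (permOf g) :=
  (exists_good (g : M4) (det_ne_zero g)).choose_spec.1

theorem permOf_sign (g : GL (Fin 4) (ZMod 2)) : Equiv.Perm.sign (permOf g) = 1 :=
  (exists_good (g : M4) (det_ne_zero g)).choose_spec.2

/-- the homomorphism from `GL₄(2)` to the alternating group of degree 8 -/
noncomputable def toAlt : GL (Fin 4) (ZMod 2) →* alternatingGroup (Fin 8) where
  toFun g := ⟨permOf g, Equiv.Perm.mem_alternatingGroup.mpr (permOf_sign g)⟩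
  map_one' := by
    apply Subtype.ext
    exact (permOf_good 1).unique (by rw [Units.val_one]; exact Good.one)
  map_mul' g h := by
    apply Subtype.ext
    refine (permOf_good (g * h)).unique ?_
    rw [Units.val_mul]
    exact (permOf_good g).mul (permOf_good h)

/-- subsets of the `vv` with a given elementary sum -/
def ss : Fin 4 → Fin 4 → Finset (Fin 8) :=
  ![![∅, {1, 2, 3}, {1, 4, 5}, {2, 4, 6}],
    ![{1, 2, 3}, ∅, {3, 5, 7}, {1, 5, 6}],
    ![{1, 4, 5}, {3, 5, 7}, ∅, {1, 2, 7}],
    ![{2, 4, 6}, {1, 5, 6}, {1, 2, 7}, ∅]]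

theorem ss_sum : ∀ i j : Fin 4, i ≠ j →
    (Matrix.single i j 1 + Matrix.single j i 1 : M4) = ∑ a ∈ ss i j, vv a := by
  decide +kernel

theorem vv_zero : vv 0 = 0 := by decide +kernel

theorem act_sum (g : M4) {ι : Type*} (s : Finset ι) (f : ι → M4) :
    act g (∑ a ∈ s, f a) = ∑ a ∈ s, act g (f a) := by
  classical
  induction s using Finset.induction_on with
  | empty => simp [act]
  | insert a s ha ih => rw [Finset.sum_insert ha, act_add, ih, Finset.sum_insert ha]

theorem eq_one_of_good_one (g : M4) (h : Good g 1) : g = 1 := by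
  have h1 : ∀ a, act g (vv a) = vv a := by
    intro a
    have := h a
    simp only [Equiv.Perm.coe_one, id] at this
    rwa [vv_zero, add_zero] at this
  have h2 : ∀ i j : Fin 4, i ≠ j → act g (Matrix.single i j 1 + Matrix.single j i 1) =
      Matrix.single i j 1 + Matrix.single j i 1 := by
    intro i j hij
    rw [ss_sum i j hij, act_sum]
    exact Finset.sum_congr rfl (fun a _ => h1 a)
  -- entries
  have h3 : ∀ i j : Fin 4, i ≠ j → ∀ k l : Fin 4, g k i * g l j + g k j * g l i =
      (Matrix.single i j 1 + Matrix.single j i 1 : M4) k l := by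
    intro i j hij k l
    rw [← h2 i j hij]
    simp only [act, Matrix.mul_add, Matrix.add_mul, Matrix.add_apply]
    congr 1
    · rw [Matrix.mul_apply]
      simp [Matrix.mul_apply, Matrix.single_apply, Matrix.transpose_apply, ite_and]
    · rw [Matrix.mul_apply]
      simp [Matrix.mul_apply, Matrix.single_apply, Matrix.transpose_apply, ite_and]
  -- off-diagonal entries vanish
  have h4 : ∀ k i : Fin 4, k ≠ i → g k i = 0 := by
    intro k i hki
    obtain ⟨j, hji, hjk⟩ : ∃ j : Fin 4, j ≠ i ∧ j ≠ k := by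
      revert k i; decide
    have e1 := h3 i j hji.symm i j
    have e2 := h3 i j hji.symm j k
    have e3 := h3 i j hji.symm i k
    have f1 : (Matrix.single i j 1 + Matrix.single j i 1 : M4) i j = 1 := by
      simp [Matrix.single_apply, hji, hji.symm]
    have f2 : (Matrix.single i j 1 + Matrix.single j i 1 : M4) j k = 0 := by
      simp [Matrix.single_apply, hji, hji.symm, hki, hki.symm, hjk, hjk.symm]
    have f3 : (Matrix.single i j 1 + Matrix.single j i 1 : M4) i k = 0 := by
      simp [Matrix.single_apply, hji, hji.symm, hki, hki.symm, hjk, hjk.symm]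
    rw [f1] at e1
    rw [f2] at e2
    rw [f3] at e3
    have h20 : (2 : ZMod 2) = 0 := by decide
    linear_combination (-(g k i)) * e1 + (g i i) * e2 + (g j i) * e3 - (g i i * g j i * g k j) * h20
  have h5 : ∀ i : Fin 4, g i i = 1 := by
    intro i
    obtain ⟨j, hji⟩ : ∃ j : Fin 4, j ≠ i := by
      revert i; decide
    have e1 := h3 i j hji.symm i j
    have f1 : (Matrix.single i j 1 + Matrix.single j i 1 : M4) i j = 1 := by
      simp [Matrix.single_apply, hji, hji.symm]
    rw [f1, h4 i j hji.symm, zero_mul, add_zero] at e1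
    rcases zmod2_cases (g i i) with h6 | h6
    · rw [h6, zero_mul] at e1
      exact absurd e1 (by decide)
    · exact h6
  ext i j
  by_cases hij : i = j
  · subst hij
    rw [h5, Matrix.one_apply_eq]
  · rw [h4 i j hij, Matrix.one_apply_ne hij]

theorem toAlt_injective : Function.Injective toAlt := by
  rw [injective_iff_map_eq_one]
  intro g hg
  have h1 : permOf g = 1 := congrArg Subtype.val hg
  have h2 := permOf_good g
  rw [h1] at h2
  exact Units.ext (eq_one_of_good_one _ h2)

theorem card_GL4 : Nat.card (GL (Fin 4) (ZMod 2)) = 20160 := by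
  rw [Matrix.card_GL_field]
  simp only [ZMod.card]
  decide +kernel

theorem card_A8 : Nat.card (alternatingGroup (Fin 8)) = 20160 := by
  rw [nat_card_alternatingGroup, Nat.card_eq_fintype_card, Fintype.card_fin]
  decide +kernel

theorem toAlt_bijective : Function.Bijective toAlt := by
  exact (Nat.bijective_iff_injective_and_card toAlt).mpr
    ⟨toAlt_injective, by rw [card_GL4, card_A8]⟩

/-- `GL₄(2) ≅ A₈` -/
noncomputable def equivA8 : GL (Fin 4) (ZMod 2) ≃* alternatingGroup (Fin 8) :=
  MulEquiv.ofBijective toAlt toAlt_bijective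

/-! ### PSL₄(2) -/

/-- over a field with two elements a unit is 1 -/
theorem eq_one_of_ne_zero {F : Type*} [Field F] [Fintype F] (hF : Fintype.card F = 2) (x : F) (hx : x ≠ 0) :
    x = 1 := by
  have h1 : x ^ (Fintype.card F - 1) = 1 := FiniteField.pow_card_sub_one_eq_one x hx
  rw [hF] at h1
  simpa using h1

/-- `SL₄(F) ≅ GL₄(2)` for `|F| = 2`. -/
noncomputable def slEquiv {F : Type*} [Field F] [Fintype F] (hF : Fintype.card F = 2) :
    Matrix.SpecialLinearGroup (Fin 4) F ≃* GL (Fin 4) (ZMod 2) :=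
  let e : F ≃+* ZMod 2 := (ZMod.ringEquivOfPrime F Nat.prime_two hF).symm
  MulEquiv.ofBijective
    ((Matrix.SpecialLinearGroup.toGL).comp (Matrix.SpecialLinearGroup.map (e : F →+* ZMod 2))) (by
    constructor
    · rw [injective_iff_map_eq_one]
      intro A hA
      have h1 : ((Matrix.SpecialLinearGroup.toGL ((Matrix.SpecialLinearGroup.map (e : F →+* ZMod 2)) A)) : M4) = 1 := by
        rw [show Matrix.SpecialLinearGroup.toGL ((Matrix.SpecialLinearGroup.map (e : F →+* ZMod 2)) A) = 1 from hA]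
        rfl
      apply Matrix.SpecialLinearGroup.ext
      intro i j
      have h2 := congrFun (congrFun h1 i) j
      have h3 : ((Matrix.SpecialLinearGroup.toGL ((Matrix.SpecialLinearGroup.map (e : F →+* ZMod 2)) A)) : M4) i j
        = e (A.1 i j) := rfl
      rw [h3] at h2
      apply e.injective
      rw [h2]
      by_cases hij : i = j
      · subst hij
        rw [Matrix.one_apply_eq]
        change 1 = e ((1 : Matrix (Fin 4) (Fin 4) F) i i)
        rw [Matrix.one_apply_eq, map_one]
      · rw [Matrix.one_apply_ne hij]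
        change 0 = e ((1 : Matrix (Fin 4) (Fin 4) F) i j)
        rw [Matrix.one_apply_ne hij, map_zero]
    · intro g
      have hdet : (g : M4).det = 1 := by
        rcases zmod2_cases (g : M4).det with h | h
        · exact absurd h (det_ne_zero g)
        · exact h
      refine ⟨⟨(g : M4).map e.symm, ?_⟩, ?_⟩
      · have := RingHom.map_det (e.symm : ZMod 2 →+* F) (g : M4)
        rw [hdet, map_one] at this
        exact this.symm
      · apply Units.ext
        ext i j
        change e (e.symm ((g : M4) i j)) = _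
        rw [e.apply_symm_apply])

theorem center_sl_eq_bot {F : Type*} [Field F] [Fintype F] (hF : Fintype.card F = 2) :
    Subgroup.center (Matrix.SpecialLinearGroup (Fin 4) F) = ⊥ := by
  rw [eq_bot_iff]
  intro A hA
  obtain ⟨r, hr, hrA⟩ := Matrix.SpecialLinearGroup.mem_center_iff.mp hA
  have hr0 : r ≠ 0 := by
    rintro rfl
    simp at hr
  have hr1 := eq_one_of_ne_zero hF r hr0
  rw [hr1, map_one] at hrA
  rw [Subgroup.mem_bot]
  apply Subtype.ext
  exact hrA.symm

theorem psl_equiv {F : Type*} [Field F] [Fintype F] (hF : Fintype.card F = 2) :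
    Nonempty (Matrix.ProjectiveSpecialLinearGroup (Fin 4) F ≃* alternatingGroup (Fin 8)) := by
  refine ⟨?_⟩
  refine (QuotientGroup.quotientMulEquivOfEq (center_sl_eq_bot hF)).trans ?_
  exact QuotientGroup.quotientBot.trans ((slEquiv hF).trans equivA8)

end Cfsg.Agent.Lib.GL4A8
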