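import Cfsg.Agent.Lib.Fi22A

set_option autoImplicit false
set_option linter.all false
set_option maxRecDepth 100000

namespace Cfsg.Agent.Lib.Fi22AIdx
open Cfsg.Spor Cfsg.Agent.Lib.BenesPerm Cfsg.Agent.Lib.BenesAct Cfsg.Agent.Lib.BenesWord
open Cfsg.Agent.Lib.BenesPlane Cfsg.Agent.Lib.CosetClosure Cfsg.Agent.Lib.CosetFacts
open Cfsg.Agent.Lib.CosetMain Cfsg.Agent.Lib.CoxBridge Cfsg.Agent.Lib.CosetGroup Cfsg.Agent.Lib.CosetInst Cfsg.Agent.Lib.CosetInj
open Cfsg.Agent.Lib.Fi22Rel Cfsg.Agent.Lib.Fi22NetsA Cfsg.Agent.Lib.Fi22CertA Cfsg.Agent.Lib.Fi22A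

/-- reachability steps for the whole group -/
def steps0 : List ℕ := [1, 0, 2, 3, 1, 4, 7, 5, 8, 3, 2, 6, 4, 7, 3, 1, 5, 4, 2, 7, 8, 3, 5, 1, 0, 6, 7, 8, 2, 4, 3, 1, 5, 0, 6, 2, 7, 1, 3, 2]

/-- orbit mask -/
noncomputable def M0 : ℕ := (nat_lit 0x3ffffffffffffffffffffffffffe7ffffffffffffffffffffffffffff6ff3ffffffffffffdfffffffffffff6ffffffffffffff6fff1fffffffffffffffffffafffffffffffffffb4ffffffffffffffd9fffc7fffffffffffffffffffedff97ffffffffffffffe327ffffffffffdfe4fffcffffffffffffff6ffffffffcbfe1effffffffffffffc43ffffffffdfc3ffefffffffffffffffff27fffffff87fc3e8fffffffffffff03fffffcfc3ffdfffffffffdfffffe7fffc1fffffe1fe17c1fffffeffff07fff9f0fffffffdffffff8fffffc3fff83fffc3f03fc1fffe7fb87fe387ffffffffc7ffff7f83fffc3fe1ff8781ffc3ff1f61f98ffffffffffffb87fff7e7c3ff0fc3f180ffde1f9d8e47fffffffffffffffffcfc3ff3ff0fc3f1c7103f78e68c9fffffffde7ffffffffffffe3f87e1f8e38c641ce3210ffffffffdf8e77fffffffffff03e38e3192064407fffffffeffdf1c66bffffffffe038c6480400fffffffffcfffc38c91fffffff032400007fffffffebff81900fffffc100000fffffff07fc101ffff00007ffffe0ff007ffc003fffe27e03ff01fff89f07f87ff82f8fcffc0bcfbfc00bdff8037fe00ff83f8fbbe)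
/-- steps -/
def l0 : List ℕ := [0, 1, 2, 3, 6, 4, 7, 8, 2, 5, 1, 4, 7, 6, 2, 3, 1, 8, 7, 2, 4, 5, 6, 8, 7, 4, 3, 2, 8, 1]

theorem o0_inv : invK nets (WS.map (Wd.flat iv)) M0 = true := by decide +kernel
theorem o0_reach : reachK nets (stepsW (WS.map (Wd.flat iv)) l0) (2 ^ 1) (fun V => Nat.beq V M0) = true := by decide +kernel
theorem o0_lt : M0 < 2 ^ 2 ^ 12 := by decide +kernel
theorem o0_pop : popK 12 M0 = 2816 := by decide +kernel

/-- orbit mask -/
noncomputable def M1 : ℕ := (nat_lit 0x180000000000000000000000000000900c000000000000200000000000009000000000000009000e000000000000000000050000000000000004b0000000000000026000380000000000000000000120068000000000000001cd80000000000201b0003000000000000009000000003401e1000000000000003bc00000000203c00100000000000000000d800000007803c170000000000000fc00000303c002000000000200000180003e000001e01e83e0000010000f800060f000000020000007000003c0007c0003c0fc03e00018047801c7800000000380000807c0003c01e00787e003c00e09e0670000000000004780008183c00f03c0e7f0021e06271b800000000000000000303c00c00f03c0e38efc0871973600000002180000000000001c0781e071c739be31cdef0000000020718800000000000fc1c71ce6df9bbf8000000010020e3994000000001fc739b7fbff00000000030003c736e0000000fcdbffff8000000014007e6ff000003efffff0000000f803efe0000ffff800001f00ff8003ffc0001d81fc00fe000760f8078007d0703003f430403ff42007fc801ff007c070440)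
/-- steps -/
def l1 : List ℕ := [2, 1, 3, 6, 4, 7, 8, 2, 5, 4, 7, 3, 6, 2, 5, 1, 4, 6, 3, 7, 8, 2, 3, 4, 6, 7]

theorem o1_inv : invK nets (WS.map (Wd.flat iv)) M1 = true := by decide +kernel
theorem o1_reach : reachK nets (stepsW (WS.map (Wd.flat iv)) l1) (2 ^ 6) (fun V => Nat.beq V M1) = true := by decide +kernel
theorem o1_lt : M1 < 2 ^ 2 ^ 12 := by decide +kernel
theorem o1_pop : popK 12 M1 = 693 := by decide +kernel

theorem c_fix : invK nets (WS.map (Wd.flat iv)) (2 ^ 0) = true := by decide +kernel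
theorem c_inv0 : invK nets ((letterW 9).map (Wd.flat iv)) (2 ^ 3510 - 1) = true := by decide +kernel
theorem c_reach0 : reachK nets (stepsW ((letterW 9).map (Wd.flat iv)) steps0) (2 ^ 0) (fun V => Nat.beq V (2 ^ 3510 - 1)) = true := by decide +kernel

/-- index of the subgroup, action on the cosets and suborbits -/
theorem main (H : Subgroup (CoxPresented Fi22.Gen Fi22.edges Fi22.extra)) (hH : H = Subgroup.closure (wset (C.x L0) WS)) :
    ∃ (φ : (CoxPresented Fi22.Gen Fi22.edges Fi22.extra) →* Equiv.Perm ℕ) (f : ℕ → (CoxPresented Fi22.Gen Fi22.edges Fi22.extra) ⧸ H), (∀ c, φ (C.x L0 c) = sperm nets c) ∧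
      f 0 = ((1 : (CoxPresented Fi22.Gen Fi22.edges Fi22.extra)) : (CoxPresented Fi22.Gen Fi22.edges Fi22.extra) ⧸ H) ∧ (∀ g i, i < 3510 → g • f i = f (φ g i)) ∧ (∀ g i, i < 3510 → φ g i < 3510) ∧
      (∀ i j, i < 3510 → j < 3510 → f i = f j → i = j) ∧ (∀ j, (∃ g, φ g 0 = j) ↔ j < 3510) ∧
      (∀ h ∈ H, φ h 0 = 0) ∧ (∀ q : (CoxPresented Fi22.Gen Fi22.edges Fi22.extra) ⧸ H, ∃ i, i < 3510 ∧ f i = q) ∧ H.index = 3510 ∧
      (MulAction.orbit H (f 1) = f '' {i | Nat.testBit M0 i = true} ∧ (MulAction.orbit H (f 1)).ncard = 2816) ∧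
      (MulAction.orbit H (f 6) = f '' {i | Nat.testBit M1 i = true} ∧ (MulAction.orbit H (f 6)).ncard = 693) := by
  obtain ⟨φ, f, hφ, hf0, hf⟩ := full H hH
  have h := cert_full (k := 12) (n := 3510) (nc := 9) c_nets hφ x_iv0 (C.closure_letters L0) (by norm_num)
    c_full WS c_fix steps0 c_inv0 c_reach0 H hH f hf0 hf
  have h' := cert_index (k := 12) (n := 3510) (nc := 9) c_nets hφ x_iv0 (C.closure_letters L0) (by norm_num) (by norm_num)
    c_full WS c_fix steps0 c_inv0 c_reach0 H hH f hf0 hf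
  refine ⟨φ, f, hφ, hf0, h.2.1, h.2.2.1, h.2.2.2.1, h.2.2.2.2.1, h.2.2.2.2.2.1, h.2.2.2.2.2.2, h.1, ?_, ?_⟩
  · have h2 := h'.2 1 M0 l0 (by norm_num) o0_lt o0_inv o0_reach
    exact ⟨h2.1, h2.2.trans o0_pop⟩
  · have h2 := h'.2 6 M1 l1 (by norm_num) o1_lt o1_inv o1_reach
    exact ⟨h2.1, h2.2.trans o1_pop⟩

end Cfsg.Agent.Lib.Fi22AIdx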