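import Cfsg.Agent.Lib.Fi22Rel
import Cfsg.Agent.Lib.CosetChain

set_option autoImplicit false
set_option linter.all false
set_option maxRecDepth 100000

namespace Cfsg.Agent.Lib.Fi22L2
open Cfsg.Spor Cfsg.Agent.Lib.BenesPerm Cfsg.Agent.Lib.BenesAct Cfsg.Agent.Lib.BenesWord
open Cfsg.Agent.Lib.BenesPlane Cfsg.Agent.Lib.CosetClosure Cfsg.Agent.Lib.CosetFacts
open Cfsg.Agent.Lib.CosetMain Cfsg.Agent.Lib.CoxBridge Cfsg.Agent.Lib.CosetGroup Cfsg.Agent.Lib.CosetInst Cfsg.Agent.Lib.CosetInj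
open Cfsg.Agent.Lib.BenesPack Cfsg.Agent.Lib.CosetPack Cfsg.Agent.Lib.CosetChain
open Cfsg.Agent.Lib.Fi22Rel (rels)

noncomputable def m0_0 : Nat := (nat_lit 0x100500)
noncomputable def m0_1 : Nat := (nat_lit 0x121020)
noncomputable def m0_2 : Nat := (nat_lit 0xc0000)
noncomputable def m0_3 : Nat := (nat_lit 0x800000)
noncomputable def m0_4 : Nat := (nat_lit 0x8000)
noncomputable def m0_5 : Nat := (nat_lit 0x800000)
noncomputable def m0_6 : Nat := (nat_lit 0x80000)
noncomputable def m0_7 : Nat := (nat_lit 0x120000)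
noncomputable def m0_8 : Nat := (nat_lit 0x100000)
noncomputable def n0 : Net := (Net.cons (nat_lit 1) m0_0 (Net.cons (nat_lit 2) m0_1 (Net.cons (nat_lit 4) m0_2 (Net.cons (nat_lit 8) m0_3 (Net.cons (nat_lit 16) m0_4 (Net.cons (nat_lit 8) m0_5 (Net.cons (nat_lit 4) m0_6 (Net.cons (nat_lit 2) m0_7 (Net.cons (nat_lit 1) m0_8 Net.nil)))))))))
noncomputable def m1_0 : Nat := (nat_lit 0x100010)
noncomputable def m1_1 : Nat := (nat_lit 0x12100)
noncomputable def m1_2 : Nat := (nat_lit 0x1020c00)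
noncomputable def m1_3 : Nat := (nat_lit 0x140040)
noncomputable def m1_4 : Nat := (nat_lit 0x400)
noncomputable def m1_5 : Nat := (nat_lit 0x40000)
noncomputable def m1_6 : Nat := (nat_lit 0x1000400)
noncomputable def m1_7 : Nat := (nat_lit 0x12100)
noncomputable def m1_8 : Nat := (nat_lit 0x100000)
noncomputable def n1 : Net := (Net.cons (nat_lit 1) m1_0 (Net.cons (nat_lit 2) m1_1 (Net.cons (nat_lit 4) m1_2 (Net.cons (nat_lit 8) m1_3 (Net.cons (nat_lit 16) m1_4 (Net.cons (nat_lit 8) m1_5 (Net.cons (nat_lit 4) m1_6 (Net.cons (nat_lit 2) m1_7 (Net.cons (nat_lit 1) m1_8 Net.nil)))))))))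
noncomputable def m2_0 : Nat := (nat_lit 0x40010)
noncomputable def m2_1 : Nat := (nat_lit 0x1110320)
noncomputable def m2_2 : Nat := (nat_lit 0x8)
noncomputable def m2_3 : Nat := (nat_lit 0x20)
noncomputable def m2_4 : Nat := (nat_lit 0x40010)
noncomputable def n2 : Net := (Net.cons (nat_lit 1) m2_0 (Net.cons (nat_lit 2) m2_1 (Net.cons (nat_lit 4) m2_2 (Net.cons (nat_lit 2) m2_3 (Net.cons (nat_lit 1) m2_4 Net.nil)))))
noncomputable def m3_0 : Nat := (nat_lit 0x5014004)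
noncomputable def m3_1 : Nat := (nat_lit 0x1001000)
noncomputable def m3_2 : Nat := (nat_lit 0x4020c00)
noncomputable def m3_3 : Nat := (nat_lit 0x600000)
noncomputable def m3_4 : Nat := (nat_lit 0x2000)
noncomputable def m3_5 : Nat := (nat_lit 0x200000)
noncomputable def m3_6 : Nat := (nat_lit 0x4020000)
noncomputable def m3_7 : Nat := (nat_lit 0x1001000)
noncomputable def m3_8 : Nat := (nat_lit 0x1014000)
noncomputable def n3 : Net := (Net.cons (nat_lit 1) m3_0 (Net.cons (nat_lit 2) m3_1 (Net.cons (nat_lit 4) m3_2 (Net.cons (nat_lit 8) m3_3 (Net.cons (nat_lit 16) m3_4 (Net.cons (nat_lit 8) m3_5 (Net.cons (nat_lit 4) m3_6 (Net.cons (nat_lit 2) m3_7 (Net.cons (nat_lit 1) m3_8 Net.nil)))))))))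
noncomputable def m4_0 : Nat := (nat_lit 0x4404004)
noncomputable def m4_1 : Nat := (nat_lit 0x221002)
noncomputable def m4_2 : Nat := (nat_lit 0x40b0000)
noncomputable def m4_3 : Nat := (nat_lit 0xc00000)
noncomputable def m4_4 : Nat := (nat_lit 0x8000)
noncomputable def m4_5 : Nat := (nat_lit 0x800000)
noncomputable def m4_6 : Nat := (nat_lit 0x4080000)
noncomputable def m4_7 : Nat := (nat_lit 0x220000)
noncomputable def m4_8 : Nat := (nat_lit 0x4404004)
noncomputable def n4 : Net := (Net.cons (nat_lit 1) m4_0 (Net.cons (nat_lit 2) m4_1 (Net.cons (nat_lit 4) m4_2 (Net.cons (nat_lit 8) m4_3 (Net.cons (nat_lit 16) m4_4 (Net.cons (nat_lit 8) m4_5 (Net.cons (nat_lit 4) m4_6 (Net.cons (nat_lit 2) m4_7 (Net.cons (nat_lit 1) m4_8 Net.nil)))))))))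
noncomputable def m5_0 : Nat := (nat_lit 0x40001)
noncomputable def m5_1 : Nat := (nat_lit 0x2000000)
noncomputable def m5_2 : Nat := (nat_lit 0x50a0000)
noncomputable def m5_3 : Nat := (nat_lit 0xd00000)
noncomputable def m5_4 : Nat := (nat_lit 0x8000)
noncomputable def m5_5 : Nat := (nat_lit 0x800000)
noncomputable def m5_6 : Nat := (nat_lit 0x5080000)
noncomputable def m5_7 : Nat := (nat_lit 0x40000)
noncomputable def n5 : Net := (Net.cons (nat_lit 1) m5_0 (Net.cons (nat_lit 2) m5_1 (Net.cons (nat_lit 4) m5_2 (Net.cons (nat_lit 8) m5_3 (Net.cons (nat_lit 16) m5_4 (Net.cons (nat_lit 8) m5_5 (Net.cons (nat_lit 4) m5_6 (Net.cons (nat_lit 1) m5_7 Net.nil))))))))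
noncomputable def m6_0 : Nat := (nat_lit 0x4000110)
noncomputable def m6_1 : Nat := (nat_lit 0x2000130)
noncomputable def m6_2 : Nat := (nat_lit 0x4080600)
noncomputable def m6_3 : Nat := (nat_lit 0x400060)
noncomputable def m6_4 : Nat := (nat_lit 0x4000600)
noncomputable def m6_5 : Nat := (nat_lit 0x100)
noncomputable def m6_6 : Nat := (nat_lit 0x4000040)
noncomputable def n6 : Net := (Net.cons (nat_lit 1) m6_0 (Net.cons (nat_lit 2) m6_1 (Net.cons (nat_lit 4) m6_2 (Net.cons (nat_lit 8) m6_3 (Net.cons (nat_lit 4) m6_4 (Net.cons (nat_lit 2) m6_5 (Net.cons (nat_lit 1) m6_6 Net.nil)))))))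
noncomputable def nets : List Net := [n0, n1, n2, n3, n4, n5, n6]

noncomputable def r0_0 : Nat := (nat_lit 0x1e5534a)
noncomputable def r0_1 : Nat := (nat_lit 0xe017c0c)
noncomputable def r0_2 : Nat := (nat_lit 0x27a050)
noncomputable def r0_3 : Nat := (nat_lit 0xfd80000)
noncomputable def r0 : List Nat := (List.cons r0_0 (List.cons r0_1 (List.cons r0_2 (List.cons r0_3 List.nil))))
noncomputable def r1_0 : Nat := (nat_lit 0x1e1c5ca)
noncomputable def r1_1 : Nat := (nat_lit 0xf32920c)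
noncomputable def r1_2 : Nat := (nat_lit 0x9680)
noncomputable def r1_3 : Nat := (nat_lit 0xecc0000)
noncomputable def r1 : List Nat := (List.cons r1_0 (List.cons r1_1 (List.cons r1_2 (List.cons r1_3 List.nil))))
noncomputable def r2_0 : Nat := (nat_lit 0xf0e082)
noncomputable def r2_1 : Nat := (nat_lit 0xf00f004)
noncomputable def r2_2 : Nat := (nat_lit 0xf0e0)
noncomputable def r2_3 : Nat := (nat_lit 0xaa60000)
noncomputable def r2 : List Nat := (List.cons r2_0 (List.cons r2_1 (List.cons r2_2 (List.cons r2_3 List.nil))))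
noncomputable def r3_0 : Nat := (nat_lit 0xcb08192)
noncomputable def r3_1 : Nat := (nat_lit 0xd008210)
noncomputable def r3_2 : Nat := (nat_lit 0x83e0)
noncomputable def r3_3 : Nat := (nat_lit 0xdbe0000)
noncomputable def r3 : List Nat := (List.cons r3_0 (List.cons r3_1 (List.cons r3_2 (List.cons r3_3 List.nil))))
noncomputable def r4_0 : Nat := (nat_lit 0xea00990)
noncomputable def r4_1 : Nat := (nat_lit 0x5000e18)
noncomputable def r4_2 : Nat := (nat_lit 0xfe0)
noncomputable def r4_3 : Nat := (nat_lit 0x7242000)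
noncomputable def r4 : List Nat := (List.cons r4_0 (List.cons r4_1 (List.cons r4_2 (List.cons r4_3 List.nil))))
noncomputable def r5_0 : Nat := (nat_lit 0x811994)
noncomputable def r5_1 : Nat := (nat_lit 0xa881e18)
noncomputable def r5_2 : Nat := (nat_lit 0x1fe0)
noncomputable def r5_3 : Nat := (nat_lit 0xa896000)
noncomputable def r5 : List Nat := (List.cons r5_0 (List.cons r5_1 (List.cons r5_2 (List.cons r5_3 List.nil))))
noncomputable def r6_0 : Nat := (nat_lit 0x30e40a)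
noncomputable def r6_1 : Nat := (nat_lit 0x100f80c)
noncomputable def r6_2 : Nat := (nat_lit 0x600fc00)
noncomputable def r6_3 : Nat := (nat_lit 0x7370000)
noncomputable def r6 : List Nat := (List.cons r6_0 (List.cons r6_1 (List.cons r6_2 (List.cons r6_3 List.nil))))
noncomputable def R : List (List Nat) := (List.cons r0 (List.cons r1 (List.cons r2 (List.cons r3 (List.cons r4 (List.cons r5 (List.cons r6 List.nil)))))))
noncomputable def d6 : Nat := (nat_lit 0x8800340)
noncomputable def d5 : Nat := (nat_lit 0x5240002)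
noncomputable def d4 : Nat := (nat_lit 0x528004)
noncomputable def d3 : Nat := (nat_lit 0x2015008)
noncomputable def d2 : Nat := (nat_lit 0x80c10)
noncomputable def d1 : Nat := (nat_lit 0x2020)
noncomputable def d0 : Nat := (nat_lit 0x80)
noncomputable def D : Net := (Net.cons (nat_lit 0) d0 (Net.cons (nat_lit 1) d1 (Net.cons (nat_lit 2) d2 (Net.cons (nat_lit 3) d3 (Net.cons (nat_lit 4) d4 (Net.cons (nat_lit 5) d5 (Net.cons (nat_lit 6) d6 Net.nil)))))))
noncomputable def Tp0 : Nat := (nat_lit 0x60000000000000004000000000000000300000000000000020000000000000001000000000000000000000000000)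
noncomputable def T : Tr := (Tr.leaf Tp0)
noncomputable def DTp0 : Nat := (nat_lit 0x0)
noncomputable def DT : Tr := (Tr.leaf DTp0)
noncomputable def scr : Scr := Scr.nil
noncomputable def E : Ex := (Ex.cons (nat_lit 0) (nat_lit 0) (nat_lit 0) (Ex.cons (nat_lit 1) (nat_lit 0) (nat_lit 1) (Ex.cons (nat_lit 2) (nat_lit 0) (nat_lit 2) (Ex.cons (nat_lit 3) (nat_lit 0) (nat_lit 3) (Ex.cons (nat_lit 4) (nat_lit 0) (nat_lit 4) (Ex.cons (nat_lit 6) (nat_lit 0) (nat_lit 5) Ex.nil))))))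
noncomputable def nd : Nat := (nat_lit 0)
noncomputable def g : Nat := (nat_lit 6)

/-- letters of the group -/
def sub : List ℕ := [1, 2, 3, 4, 5, 6, 7]
/-- letters of the subgroup -/
def sub' : List ℕ := [1, 2, 3, 4, 5, 7]

/-- relators in the local letters -/
def lrels : List Wd := [(Wd.pow (Wd.mul (Wd.g 0) (Wd.g 1)) 3),
  (Wd.pow (Wd.mul (Wd.g 0) (Wd.g 2)) 2),
  (Wd.pow (Wd.mul (Wd.g 1) (Wd.g 2)) 3),
  (Wd.pow (Wd.mul (Wd.g 0) (Wd.g 3)) 2),
  (Wd.pow (Wd.mul (Wd.g 1) (Wd.g 3)) 2),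
  (Wd.pow (Wd.mul (Wd.g 2) (Wd.g 3)) 3),
  (Wd.pow (Wd.mul (Wd.g 0) (Wd.g 4)) 2),
  (Wd.pow (Wd.mul (Wd.g 1) (Wd.g 4)) 2),
  (Wd.pow (Wd.mul (Wd.g 2) (Wd.g 4)) 2),
  (Wd.pow (Wd.mul (Wd.g 3) (Wd.g 4)) 3),
  (Wd.pow (Wd.mul (Wd.g 0) (Wd.g 5)) 2),
  (Wd.pow (Wd.mul (Wd.g 1) (Wd.g 5)) 2),
  (Wd.pow (Wd.mul (Wd.g 2) (Wd.g 5)) 2),
  (Wd.pow (Wd.mul (Wd.g 3) (Wd.g 5)) 2),
  (Wd.pow (Wd.mul (Wd.g 4) (Wd.g 5)) 3),
  (Wd.pow (Wd.mul (Wd.g 0) (Wd.g 6)) 2),
  (Wd.pow (Wd.mul (Wd.g 1) (Wd.g 6)) 2),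
  (Wd.pow (Wd.mul (Wd.g 2) (Wd.g 6)) 3),
  (Wd.pow (Wd.mul (Wd.g 3) (Wd.g 6)) 2),
  (Wd.pow (Wd.mul (Wd.g 4) (Wd.g 6)) 2),
  (Wd.pow (Wd.mul (Wd.g 5) (Wd.g 6)) 2),
  (Wd.pow (Wd.mul (Wd.mul (Wd.mul (Wd.mul (Wd.mul (Wd.mul (Wd.g 0) (Wd.g 1)) (Wd.g 2)) (Wd.g 3)) (Wd.g 4)) (Wd.g 5)) (Wd.g 6)) 9)]

/-- periods -/
def pers : List ℕ := [2, 2, 2, 2, 2, 2, 2, 2, 2, 2, 2, 2, 2, 2, 2, 2, 2, 2, 2, 2, 2, 7]

theorem c_relok : relOK rels lrels sub = true := by decide
theorem c_nets : netsCheck (2 ^ 5) nets = true := by decide +kernel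
theorem c_iv : ivK nets 5 ivI 7 = true := by decide +kernel
theorem c_full : fullInvK nets 28 7 = true := by decide +kernel
theorem c_len : lenK R 4 7 = true := by decide +kernel
theorem c_sym : symK nets ivI R 7 = true := by decide +kernel
theorem c_disj : disjK D 1 = true := by decide +kernel
theorem c_tree : treeK nets 5 D = true := by decide +kernel
theorem c_treelet : netLetK 7 D = true := by decide +kernel
theorem c_dtab : dtabK (2 ^ 5) nd DT = true := by decide +kernel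
theorem c_given : ∀ j, j < 6 → eSrc (T.get j) = 0 ∧ eDst (T.get j) = 0 ∧ eLet (T.get j) < sub.length ∧
  nthK 0 sub (eLet (T.get j)) ∈ sub' := by decide +kernel
theorem c_facts : factsK nets ivI R 7 28 (2 ^ 5) nd T DT ((lpats 7 lrels).map (fun W => (W.flat ivI).reverse)) 6 scr = true := by decide +kernel
theorem c_ex : exK nets R 7 T (6 + scr.len) E = true := by decide +kernel
theorem c_simdlet : simdLetK ivI 7 (lrels.zip pers) = true := by decide +kernel
theorem c_cover : force (2 ^ 5) (fun N => relsMDK nets ivI R N 2 4 ((lrels.zip pers).map (splitW ivI)) (exM E D) (fun ms => coverK nets ivI 28 ms 7)) = true := by decide +kernel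
theorem c_rels : relsD nets 5 3 ivI lrels = true := by decide +kernel

/-- the step of the chain -/
theorem step {G : Type*} [Group G] {x : ℕ → G} (hrels : ∀ W ∈ rels, W.eval x = 1) (hinv : ∀ c ∈ sub, x c * x c = 1)
    (hfin : Finite (LG x [1, 2, 3, 4, 5, 7])) : Finite (LG x [1, 2, 3, 4, 5, 6, 7]) ∧ Nat.card (LG x [1, 2, 3, 4, 5, 6, 7]) ≤ 28 * Nat.card (LG x [1, 2, 3, 4, 5, 7]) :=
  CosetChain.step hrels sub sub' pers c_relok hinv (by decide) (j := 2) (jk := 3) (P := 4) (D := D) (R := R)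
    (scr := scr) (E := E) (T := T) (DT := DT) (nd := nd) (g := 6) (k := 5) (n := 28) rfl
    c_nets (by norm_num) (by norm_num) (by norm_num) c_iv c_full c_len c_sym c_disj c_tree c_treelet c_dtab c_given
    (by decide) c_facts c_ex c_rels c_simdlet c_cover hfin

end Cfsg.Agent.Lib.Fi22L2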