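import Cfsg.Agent.Lib.Fi22Rel
import Cfsg.Agent.Lib.CosetChain

set_option autoImplicit false
set_option linter.all false
set_option maxRecDepth 100000

namespace Cfsg.Agent.Lib.Fi22L3
open Cfsg.Spor Cfsg.Agent.Lib.BenesPerm Cfsg.Agent.Lib.BenesAct Cfsg.Agent.Lib.BenesWord
open Cfsg.Agent.Lib.BenesPlane Cfsg.Agent.Lib.CosetClosure Cfsg.Agent.Lib.CosetFacts
open Cfsg.Agent.Lib.CosetMain Cfsg.Agent.Lib.CoxBridge Cfsg.Agent.Lib.CosetGroup Cfsg.Agent.Lib.CosetInst Cfsg.Agent.Lib.CosetInj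
open Cfsg.Agent.Lib.BenesPack Cfsg.Agent.Lib.CosetPack Cfsg.Agent.Lib.CosetChain
open Cfsg.Agent.Lib.Fi22Rel (rels)

noncomputable def m0_0 : Nat := (nat_lit 0x4000100)
noncomputable def m0_1 : Nat := (nat_lit 0x2010310)
noncomputable def m0_2 : Nat := (nat_lit 0x40a00)
noncomputable def m0_3 : Nat := (nat_lit 0x400080)
noncomputable def m0_4 : Nat := (nat_lit 0x4000)
noncomputable def m0_5 : Nat := (nat_lit 0x400000)
noncomputable def m0_6 : Nat := (nat_lit 0x40800)
noncomputable def m0_7 : Nat := (nat_lit 0x10200)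
noncomputable def m0_8 : Nat := (nat_lit 0x4000100)
noncomputable def n0 : Net := (Net.cons (nat_lit 1) m0_0 (Net.cons (nat_lit 2) m0_1 (Net.cons (nat_lit 4) m0_2 (Net.cons (nat_lit 8) m0_3 (Net.cons (nat_lit 16) m0_4 (Net.cons (nat_lit 8) m0_5 (Net.cons (nat_lit 4) m0_6 (Net.cons (nat_lit 2) m0_7 (Net.cons (nat_lit 1) m0_8 Net.nil)))))))))
noncomputable def m1_0 : Nat := (nat_lit 0x1000050)
noncomputable def m1_1 : Nat := (nat_lit 0x13030)
noncomputable def m1_2 : Nat := (nat_lit 0x408)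
noncomputable def m1_3 : Nat := (nat_lit 0x1020)
noncomputable def m1_4 : Nat := (nat_lit 0x50)
noncomputable def n1 : Net := (Net.cons (nat_lit 1) m1_0 (Net.cons (nat_lit 2) m1_1 (Net.cons (nat_lit 4) m1_2 (Net.cons (nat_lit 2) m1_3 (Net.cons (nat_lit 1) m1_4 Net.nil)))))
noncomputable def m2_0 : Nat := (nat_lit 0x1040004)
noncomputable def m2_1 : Nat := (nat_lit 0x2020300)
noncomputable def m2_2 : Nat := (nat_lit 0x8000800)
noncomputable def m2_3 : Nat := (nat_lit 0x880080)
noncomputable def m2_4 : Nat := (nat_lit 0x800)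
noncomputable def m2_5 : Nat := (nat_lit 0x80000)
noncomputable def m2_6 : Nat := (nat_lit 0x8000800)
noncomputable def m2_7 : Nat := (nat_lit 0x2020200)
noncomputable def m2_8 : Nat := (nat_lit 0x1000000)
noncomputable def n2 : Net := (Net.cons (nat_lit 1) m2_0 (Net.cons (nat_lit 2) m2_1 (Net.cons (nat_lit 4) m2_2 (Net.cons (nat_lit 8) m2_3 (Net.cons (nat_lit 16) m2_4 (Net.cons (nat_lit 8) m2_5 (Net.cons (nat_lit 4) m2_6 (Net.cons (nat_lit 2) m2_7 (Net.cons (nat_lit 1) m2_8 Net.nil)))))))))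
noncomputable def m3_0 : Nat := (nat_lit 0x401004)
noncomputable def m3_1 : Nat := (nat_lit 0x203202)
noncomputable def m3_2 : Nat := (nat_lit 0x80400)
noncomputable def m3_3 : Nat := (nat_lit 0x201000)
noncomputable def m3_4 : Nat := (nat_lit 0x1004)
noncomputable def n3 : Net := (Net.cons (nat_lit 1) m3_0 (Net.cons (nat_lit 2) m3_1 (Net.cons (nat_lit 4) m3_2 (Net.cons (nat_lit 2) m3_3 (Net.cons (nat_lit 1) m3_4 Net.nil)))))
noncomputable def m4_0 : Nat := (nat_lit 0x5001)
noncomputable def m4_1 : Nat := (nat_lit 0x120000)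
noncomputable def m4_2 : Nat := (nat_lit 0x50800)
noncomputable def m4_3 : Nat := (nat_lit 0x500000)
noncomputable def m4_4 : Nat := (nat_lit 0x5000)
noncomputable def m4_5 : Nat := (nat_lit 0x500000)
noncomputable def m4_6 : Nat := (nat_lit 0x50000)
noncomputable def m4_7 : Nat := (nat_lit 0x5000)
noncomputable def n4 : Net := (Net.cons (nat_lit 1) m4_0 (Net.cons (nat_lit 2) m4_1 (Net.cons (nat_lit 4) m4_2 (Net.cons (nat_lit 8) m4_3 (Net.cons (nat_lit 16) m4_4 (Net.cons (nat_lit 8) m4_5 (Net.cons (nat_lit 4) m4_6 (Net.cons (nat_lit 1) m4_7 Net.nil))))))))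
noncomputable def m5_0 : Nat := (nat_lit 0x500140)
noncomputable def m5_1 : Nat := (nat_lit 0x100030)
noncomputable def m5_2 : Nat := (nat_lit 0xa0208)
noncomputable def m5_3 : Nat := (nat_lit 0x20)
noncomputable def m5_4 : Nat := (nat_lit 0x200)
noncomputable def m5_5 : Nat := (nat_lit 0x20)
noncomputable def m5_6 : Nat := (nat_lit 0x500140)
noncomputable def n5 : Net := (Net.cons (nat_lit 1) m5_0 (Net.cons (nat_lit 2) m5_1 (Net.cons (nat_lit 4) m5_2 (Net.cons (nat_lit 8) m5_3 (Net.cons (nat_lit 4) m5_4 (Net.cons (nat_lit 2) m5_5 (Net.cons (nat_lit 1) m5_6 Net.nil)))))))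
noncomputable def nets : List Net := [n0, n1, n2, n3, n4, n5]

noncomputable def r0_0 : Nat := (nat_lit 0x166398a)
noncomputable def r0_1 : Nat := (nat_lit 0x186ae0c)
noncomputable def r0_2 : Nat := (nat_lit 0x7d020)
noncomputable def r0_3 : Nat := (nat_lit 0x1f80000)
noncomputable def r0 : List Nat := (List.cons r0_0 (List.cons r0_1 (List.cons r0_2 (List.cons r0_3 List.nil))))
noncomputable def r1_0 : Nat := (nat_lit 0x62a9a2)
noncomputable def r1_1 : Nat := (nat_lit 0x874004)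
noncomputable def r1_2 : Nat := (nat_lit 0x4024b40)
noncomputable def r1_3 : Nat := (nat_lit 0x4f80000)
noncomputable def r1 : List Nat := (List.cons r1_0 (List.cons r1_1 (List.cons r1_2 (List.cons r1_3 List.nil))))
noncomputable def r2_0 : Nat := (nat_lit 0x26d0832)
noncomputable def r2_1 : Nat := (nat_lit 0x2017030)
noncomputable def r2_2 : Nat := (nat_lit 0x4017840)
noncomputable def r2_3 : Nat := (nat_lit 0x6700000)
noncomputable def r2 : List Nat := (List.cons r2_0 (List.cons r2_1 (List.cons r2_2 (List.cons r2_3 List.nil))))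
noncomputable def r3_0 : Nat := (nat_lit 0x2c30130)
noncomputable def r3_1 : Nat := (nat_lit 0x3034038)
noncomputable def r3_2 : Nat := (nat_lit 0x40341c0)
noncomputable def r3_3 : Nat := (nat_lit 0x7140000)
noncomputable def r3 : List Nat := (List.cons r3_0 (List.cons r3_1 (List.cons r3_2 (List.cons r3_3 List.nil))))
noncomputable def r4_0 : Nat := (nat_lit 0x2d01334)
noncomputable def r4_1 : Nat := (nat_lit 0x3001438)
noncomputable def r4_2 : Nat := (nat_lit 0x40017c0)
noncomputable def r4_3 : Nat := (nat_lit 0x7a00000)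
noncomputable def r4 : List Nat := (List.cons r4_0 (List.cons r4_1 (List.cons r4_2 (List.cons r4_3 List.nil))))
noncomputable def r5_0 : Nat := (nat_lit 0x2018c02)
noncomputable def r5_1 : Nat := (nat_lit 0x301f004)
noncomputable def r5_2 : Nat := (nat_lit 0x401fe00)
noncomputable def r5_3 : Nat := (nat_lit 0x7040000)
noncomputable def r5 : List Nat := (List.cons r5_0 (List.cons r5_1 (List.cons r5_2 (List.cons r5_3 List.nil))))
noncomputable def R : List (List Nat) := (List.cons r0 (List.cons r1 (List.cons r2 (List.cons r3 (List.cons r4 (List.cons r5 List.nil))))))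
noncomputable def d5 : Nat := (nat_lit 0xd001a0)
noncomputable def d4 : Nat := (nat_lit 0xd4002)
noncomputable def d3 : Nat := (nat_lit 0x20a804)
noncomputable def d2 : Nat := (nat_lit 0x1020608)
noncomputable def d1 : Nat := (nat_lit 0x2001010)
noncomputable def d0 : Nat := (nat_lit 0x4000040)
noncomputable def D : Net := (Net.cons (nat_lit 0) d0 (Net.cons (nat_lit 1) d1 (Net.cons (nat_lit 2) d2 (Net.cons (nat_lit 3) d3 (Net.cons (nat_lit 4) d4 (Net.cons (nat_lit 5) d5 Net.nil))))))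
noncomputable def Tp0 : Nat := (nat_lit 0x5000000000000000300000000000000020000000000000001000000000000000000000000000)
noncomputable def T : Tr := (Tr.leaf Tp0)
noncomputable def DTp0 : Nat := (nat_lit 0x0)
noncomputable def DT : Tr := (Tr.leaf DTp0)
noncomputable def scr : Scr := Scr.nil
noncomputable def E : Ex := (Ex.cons (nat_lit 0) (nat_lit 0) (nat_lit 0) (Ex.cons (nat_lit 1) (nat_lit 0) (nat_lit 1) (Ex.cons (nat_lit 2) (nat_lit 0) (nat_lit 2) (Ex.cons (nat_lit 3) (nat_lit 0) (nat_lit 3) (Ex.cons (nat_lit 5) (nat_lit 0) (nat_lit 4) Ex.nil)))))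
noncomputable def nd : Nat := (nat_lit 0)
noncomputable def g : Nat := (nat_lit 5)

/-- letters of the group -/
def sub : List ℕ := [1, 2, 3, 4, 5, 7]
/-- letters of the subgroup -/
def sub' : List ℕ := [1, 2, 3, 4, 7]

/-- relators in the local letters -/
def lrels : List Wd := [(Wd.pow (Wd.mul (Wd.g 0) (Wd.g 1)) 3),
  (Wd.pow (Wd.mul (Wd.g 0) (Wd.g 2)) 2),
  (Wd.pow (Wd.mul (Wd.g 1) (Wd.g 2)) 3),
  (Wd.pow (Wd.mul (Wd.g 0) (Wd.g 3)) 2),
  (Wd.pow (Wd.mul (Wd.g 1) (Wd.g 3)) 2),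
  (Wd.pow (Wd.mul (Wd.g 2) (Wd.g 3)) 3),
  (Wd.pow (Wd.mul (Wd.g 0) (Wd.g 4)) 2),
  (Wd.pow (Wd.mul (Wd.g 1) (Wd.g 4)) 2),
  (Wd.pow (Wd.mul (Wd.g 2) (Wd.g 4)) 2),
  (Wd.pow (Wd.mul (Wd.g 3) (Wd.g 4)) 3),
  (Wd.pow (Wd.mul (Wd.g 0) (Wd.g 5)) 2),
  (Wd.pow (Wd.mul (Wd.g 1) (Wd.g 5)) 2),
  (Wd.pow (Wd.mul (Wd.g 2) (Wd.g 5)) 3),
  (Wd.pow (Wd.mul (Wd.g 3) (Wd.g 5)) 2),
  (Wd.pow (Wd.mul (Wd.g 4) (Wd.g 5)) 2)]

/-- periods -/
def pers : List ℕ := [2, 2, 2, 2, 2, 2, 2, 2, 2, 2, 2, 2, 2, 2, 2]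

theorem c_relok : relOK rels lrels sub = true := by decide
theorem c_nets : netsCheck (2 ^ 5) nets = true := by decide +kernel
theorem c_iv : ivK nets 5 ivI 6 = true := by decide +kernel
theorem c_full : fullInvK nets 27 6 = true := by decide +kernel
theorem c_len : lenK R 4 6 = true := by decide +kernel
theorem c_sym : symK nets ivI R 6 = true := by decide +kernel
theorem c_disj : disjK D 1 = true := by decide +kernel
theorem c_tree : treeK nets 5 D = true := by decide +kernel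
theorem c_treelet : netLetK 6 D = true := by decide +kernel
theorem c_dtab : dtabK (2 ^ 5) nd DT = true := by decide +kernel
theorem c_given : ∀ j, j < 5 → eSrc (T.get j) = 0 ∧ eDst (T.get j) = 0 ∧ eLet (T.get j) < sub.length ∧
  nthK 0 sub (eLet (T.get j)) ∈ sub' := by decide +kernel
theorem c_facts : factsK nets ivI R 6 27 (2 ^ 5) nd T DT ((lpats 6 lrels).map (fun W => (W.flat ivI).reverse)) 5 scr = true := by decide +kernel
theorem c_ex : exK nets R 6 T (5 + scr.len) E = true := by decide +kernel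
theorem c_simdlet : simdLetK ivI 6 (lrels.zip pers) = true := by decide +kernel
theorem c_cover : force (2 ^ 5) (fun N => relsMDK nets ivI R N 2 4 ((lrels.zip pers).map (splitW ivI)) (exM E D) (fun ms => coverK nets ivI 27 ms 6)) = true := by decide +kernel
theorem c_rels : relsD nets 5 3 ivI lrels = true := by decide +kernel

/-- the step of the chain -/
theorem step {G : Type*} [Group G] {x : ℕ → G} (hrels : ∀ W ∈ rels, W.eval x = 1) (hinv : ∀ c ∈ sub, x c * x c = 1)
    (hfin : Finite (LG x [1, 2, 3, 4, 7])) : Finite (LG x [1, 2, 3, 4, 5, 7]) ∧ Nat.card (LG x [1, 2, 3, 4, 5, 7]) ≤ 27 * Nat.card (LG x [1, 2, 3, 4, 7]) :=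
  CosetChain.step hrels sub sub' pers c_relok hinv (by decide) (j := 2) (jk := 3) (P := 4) (D := D) (R := R)
    (scr := scr) (E := E) (T := T) (DT := DT) (nd := nd) (g := 5) (k := 5) (n := 27) rfl
    c_nets (by norm_num) (by norm_num) (by norm_num) c_iv c_full c_len c_sym c_disj c_tree c_treelet c_dtab c_given
    (by decide) c_facts c_ex c_rels c_simdlet c_cover hfin

end Cfsg.Agent.Lib.Fi22L3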