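import Cfsg.Agent.Lib.CosetOdd
import Cfsg.Agent.Lib.Fi22AIdx
import Cfsg.Agent.Lib.Fi22L1
import Cfsg.Agent.Lib.Fi22L2
import Cfsg.Agent.Lib.Fi22L3
import Cfsg.Agent.Lib.Fi22L4
import Cfsg.Agent.Lib.Fi22BIdx

set_option autoImplicit false
set_option linter.all false
set_option maxRecDepth 100000

namespace Cfsg.Agent.Lib.Fi22Ord
open Cfsg.Spor Cfsg.Agent.Lib.BenesPerm Cfsg.Agent.Lib.BenesAct Cfsg.Agent.Lib.BenesWord
open Cfsg.Agent.Lib.BenesPlane Cfsg.Agent.Lib.CosetClosure Cfsg.Agent.Lib.CosetFacts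
open Cfsg.Agent.Lib.CosetMain Cfsg.Agent.Lib.CoxBridge Cfsg.Agent.Lib.CosetGroup Cfsg.Agent.Lib.CosetInst Cfsg.Agent.Lib.CosetInj
open Cfsg.Agent.Lib.BenesPack Cfsg.Agent.Lib.CosetPack Cfsg.Agent.Lib.CosetChain Cfsg.Agent.Lib.CosetOrder Cfsg.Agent.Lib.CosetOdd
open Cfsg.Agent.Lib.Fi22Rel Cfsg.Agent.Lib.Fi22NetsA Cfsg.Agent.Lib.Fi22A Cfsg.Agent.Lib.Fi22AIdx

/-- strong generators of level 1 -/
def ws1 : List (List ℕ) := [[2], [3], [4], [5], [6], [7], [8], [1, 0, 2, 1, 3, 2, 7, 3, 4, 3, 7, 2, 3, 1, 2, 0, 1]]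

/-- basic orbit 1 -/
noncomputable def B1 : ℕ := (nat_lit 0x3ffffffffffffffffffffffffffe7ffffffffffffffffffffffffffff6ff3ffffffffffffdfffffffffffff6ffffffffffffff6fff1fffffffffffffffffffafffffffffffffffb4ffffffffffffffd9fffc7fffffffffffffffffffedff97ffffffffffffffe327ffffffffffdfe4fffcffffffffffffff6ffffffffcbfe1effffffffffffffc43ffffffffdfc3ffefffffffffffffffff27fffffff87fc3e8fffffffffffff03fffffcfc3ffdfffffffffdfffffe7fffc1fffffe1fe17c1fffffeffff07fff9f0fffffffdffffff8fffffc3fff83fffc3f03fc1fffe7fb87fe387ffffffffc7ffff7f83fffc3fe1ff8781ffc3ff1f61f98ffffffffffffb87fff7e7c3ff0fc3f180ffde1f9d8e47fffffffffffffffffcfc3ff3ff0fc3f1c7103f78e68c9fffffffde7ffffffffffffe3f87e1f8e38c641ce3210ffffffffdf8e77fffffffffff03e38e3192064407fffffffeffdf1c66bffffffffe038c6480400fffffffffcfffc38c91fffffff032400007fffffffebff81900fffffc100000fffffff07fc101ffff00007ffffe0ff007ffc003fffe27e03ff01fff89f07f87ff82f8fcffc0bcfbfc00bdff8037fe00ff83f8fbbe)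
/-- steps -/
def st1 : List ℕ := [0, 7, 1, 3, 6, 2, 5, 4, 7, 1, 3, 2, 6, 0, 5, 4, 7, 6, 1, 3, 5, 7, 2, 0, 4, 1, 6, 3, 5, 7, 0, 2]

theorem b1_fix0 : invK nets ws1 (2 ^ 0) = true := by decide +kernel
theorem b1_inv : invK nets ws1 B1 = true := by decide +kernel
theorem b1_reach : reachK nets (stepsW ws1 st1) (2 ^ 1) (fun V => Nat.beq V B1) = true := by decide +kernel
theorem b1_lt : B1 < 2 ^ 2 ^ 12 := by decide +kernel
theorem b1_pop : popK 12 B1 = 2816 := by decide +kernel

/-- strong generators of level 2 -/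
def ws2 : List (List ℕ) := [[3], [5], [6], [7], [8], [0, 2, 1, 0, 3, 2, 1, 7, 3, 2, 4, 3, 7, 2, 3, 4, 1, 2, 3, 0, 1, 2, 0, 1]]

/-- basic orbit 2 -/
noncomputable def B2 : ℕ := (nat_lit 0x3fffffffffffffffffffffffffe07ffffffdfffffffffefffffffffff0403ffffffffffefcffffffffffffc0effffffffeffff06001effffffefffffdffe6f8ffffffffffffffc00e7ffff5fffdfbfc060005f37fffffff9dfffeaffe0df81fffffffffffffe00031fffe9fff7cfe04000c7c5bdffffffff06bffe8ffc13e1067fffafffffdfc0011fff07ffc7c0000ff01cd367fff5d7fb023ffc1ff807c08047ffc3ffbf3f0001fe1fc3c0000ffec0220645ffc3e07f3c00ff0fe01e04000ff0fe3c70007c38300007ffec400004007f87c03e3803e1c03000001f0e0c8006208001fffffc80000000003e1c032018808000003104002001f81ffffffff000000000003101004000000002000001ffff80627ffffffff8000000000000400000000000000fffffd800003cd9dfffffdc000000000000000000000ffffdee80000003fbf7ffdef60000000000000007fff7bdb43bc0000037ffef7b6800000000000f7fef7b6a03fbc00001fbdeda80000000077beeda803bd80000eeda8000000076f350003b4001cd4000004d520009a005200001240004802000080001000000000000000000000000000000000000000000000000)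
/-- steps -/
def st2 : List ℕ := [0, 2, 5, 1, 3, 5, 4, 1, 3, 5, 4, 0, 3, 5, 2, 1, 4, 2, 3, 0]

theorem b2_fix0 : invK nets ws2 (2 ^ 0) = true := by decide +kernel
theorem b2_fix1 : invK nets ws2 (2 ^ 1) = true := by decide +kernel
theorem b2_inv : invK nets ws2 B2 = true := by decide +kernel
theorem b2_reach : reachK nets (stepsW ws2 st2) (2 ^ 192) (fun V => Nat.beq V B2) = true := by decide +kernel
theorem b2_lt : B2 < 2 ^ 2 ^ 12 := by decide +kernel
theorem b2_pop : popK 12 B2 = 1680 := by decide +kernel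

/-- strong generators of level 3 -/
def ws3 : List (List ℕ) := [[4], [5], [7], [8], [2, 1, 0, 3, 2, 1, 4, 3, 2, 5, 4, 3, 7, 3, 4, 5, 2, 3, 4, 1, 2, 3, 0, 1, 2], [2, 1, 0, 3, 2, 1, 7, 3, 2, 4, 3, 7, 8, 7, 3, 4, 2, 3, 7, 1, 2, 3, 0, 1, 2]]

/-- basic orbit 3 -/
noncomputable def B3 : ℕ := (nat_lit 0x10000000000000000000010000000000000000000000000000000003000000000000000000000000c0000000000000010000000000000000000001c000000000000000000080203800000000000000005000000000000050000020300000004000000005000703008000080004000003600000000000003c0000c04000014000000d10002f0c008000180000c00000f000000100000f0003800003400001b000001ec2028000500001c0001e000006c000f0030000c0003c000000407a00298001a000c00300003cc00603200800030000000000807401e0c006004010000d8e01848000000000100000000000080300360140100000071822000000000200000000000000000000802800000004410000000000000000000000000000000000000002000000000200000000000000000000000000000000000004900000000000000000000000000000012550000000000000000000000004af80000000000000000005fc00000000000000be00000000000380002000008000c0000000e000000180000040000000000000)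
/-- steps -/
def st3 : List ℕ := [0, 3, 4, 5, 1, 2, 0, 3, 1, 5, 0]

theorem b3_fix0 : invK nets ws3 (2 ^ 0) = true := by decide +kernel
theorem b3_fix1 : invK nets ws3 (2 ^ 1) = true := by decide +kernel
theorem b3_fix2 : invK nets ws3 (2 ^ 192) = true := by decide +kernel
theorem b3_inv : invK nets ws3 B3 = true := by decide +kernel
theorem b3_reach : reachK nets (stepsW ws3 st3) (2 ^ 54) (fun V => Nat.beq V B3) = true := by decide +kernel
theorem b3_lt : B3 < 2 ^ 2 ^ 12 := by decide +kernel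
theorem b3_pop : popK 12 B3 = 243 := by decide +kernel

/-- strong generators of level 4 -/
def ws4 : List (List ℕ) := [[7], [3, 7, 8, 2, 1, 0, 3, 2, 1, 4, 3, 2, 5, 4, 3, 7, 3, 4, 5, 2, 3, 4, 1, 2, 3, 0, 1, 2, 7, 3, 6, 5, 4, 2, 1, 0, 3, 2, 1, 7, 3, 2, 4, 3, 7, 8, 7, 3, 4, 2, 3, 7, 1, 2, 3, 0, 1, 2, 5, 6], [3, 7, 2, 1, 0, 3, 2, 1, 4, 3, 2, 5, 4, 3, 7, 3, 4, 5, 2, 3, 4, 1, 2, 3, 0, 1, 2, 8, 7, 3, 6, 5, 2, 1, 0, 3, 2, 1, 7, 3, 2, 4, 3, 7, 8, 7, 3, 4, 2, 3, 7, 1, 2, 3, 0, 1, 2, 4, 5, 6]]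

/-- basic orbit 4 -/
noncomputable def B4 : ℕ := (nat_lit 0x400000000000000000000000000000000000000000000300000000000000000000000000000000000000000000000000000000100000000000000000000000000000000000000000000000000000000000000000000000000000000000000000000000000000000000000000000000000000000000000000000000000000000000020000000000000000000000000000000000000000004000000000000000000400000000000000000000000000000000000000800000000000000000000000000000000000000000000000000000000000000000000000000000000000000000000000000000000000000000000000000000000000000000000100000000000000000000000000000000000000000000000000180000000000000000000000000000000000000000000002000000000000000000000000000000000000000000000000000000000000000000000000000000000000000000000000000000000000000000000000000000000000000000000000000000000000000000000000000000000000000000000000000000000000000000000806100)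
/-- steps -/
def st4 : List ℕ := [0, 1, 2, 1, 1]

theorem b4_fix0 : invK nets ws4 (2 ^ 0) = true := by decide +kernel
theorem b4_fix1 : invK nets ws4 (2 ^ 1) = true := by decide +kernel
theorem b4_fix2 : invK nets ws4 (2 ^ 192) = true := by decide +kernel
theorem b4_fix3 : invK nets ws4 (2 ^ 54) = true := by decide +kernel
theorem b4_inv : invK nets ws4 B4 = true := by decide +kernel
theorem b4_reach : reachK nets (stepsW ws4 st4) (2 ^ 8) (fun V => Nat.beq V B4) = true := by decide +kernel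
theorem b4_lt : B4 < 2 ^ 2 ^ 12 := by decide +kernel
theorem b4_pop : popK 12 B4 = 16 := by decide +kernel

theorem full_lt : (2 ^ 3510 - 1 : ℕ) < 2 ^ 2 ^ 12 := by decide +kernel
theorem full_pop : popK 12 (2 ^ 3510 - 1) = 3510 := by decide +kernel
theorem union_eq : unionK [M0, M1] = 2 ^ 3510 - 1 := by decide +kernel
theorem z0 : Nat.testBit M0 0 = false := by decide +kernel
theorem t0_1 : Nat.testBit M0 6 = false := by decide +kernel
theorem z1 : Nat.testBit M1 0 = false := by decide +kernel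
theorem t1_0 : Nat.testBit M1 1 = false := by decide +kernel
theorem arith : ∀ I : Finset (Fin 2), (1 + ∑ i ∈ I, ([2816, 693] : List ℕ)[i.1]'(by have := i.2; simpa using this)) ∣ 3510 →
    (1 + ∑ i ∈ I, ([2816, 693] : List ℕ)[i.1]'(by have := i.2; simpa using this)) = 1 ∨
    (1 + ∑ i ∈ I, ([2816, 693] : List ℕ)[i.1]'(by have := i.2; simpa using this)) = 3510 := by decide +kernel

/-- element of order 13 -/
def v : Wd := (Wd.mul (Wd.mul (Wd.mul (Wd.mul (Wd.mul (Wd.mul (Wd.mul (Wd.g 4) (Wd.g 8)) (Wd.g 7)) (Wd.g 2)) (Wd.g 3)) (Wd.g 5)) (Wd.g 1)) (Wd.g 6))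
theorem v_rels : relsD nets 12 4 iv [Wd.pow v 13, Wd.pow (Wd.mul (Wd.mul (Wd.g 0) (Wd.g 1)) v) 13] = true := by decide +kernel

theorem rel_eval' : ∀ W ∈ rels, W.eval (C.x L0) = 1 := rel_eval L0

theorem invol : ∀ c, c < 9 → C.x L0 c * C.x L0 c = 1 := (C.rel_x L0).2.2

theorem bound5 : Finite (LG (C.x L0) []) ∧ Nat.card (LG (C.x L0) []) ≤ 1 := bot_bound _

theorem bound4 : Finite (LG (C.x L0) [1, 2, 3, 4, 7]) ∧ Nat.card (LG (C.x L0) [1, 2, 3, 4, 7]) ≤ 1920 :=
  chain_bound (n := 1920) (Cfsg.Agent.Lib.Fi22L4.step rel_eval' (by intro c hc; apply invol; revert c hc; decide)) bound5 (by norm_num)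

theorem bound3 : Finite (LG (C.x L0) [1, 2, 3, 4, 5, 7]) ∧ Nat.card (LG (C.x L0) [1, 2, 3, 4, 5, 7]) ≤ 51840 :=
  chain_bound (n := 27) (Cfsg.Agent.Lib.Fi22L3.step rel_eval' (by intro c hc; apply invol; revert c hc; decide)) bound4 (by norm_num)

theorem bound2 : Finite (LG (C.x L0) [1, 2, 3, 4, 5, 6, 7]) ∧ Nat.card (LG (C.x L0) [1, 2, 3, 4, 5, 6, 7]) ≤ 1451520 :=
  chain_bound (n := 28) (Cfsg.Agent.Lib.Fi22L2.step rel_eval' (by intro c hc; apply invol; revert c hc; decide)) bound3 (by norm_num)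

theorem bound1 : Finite (LG (C.x L0) [1, 2, 3, 4, 5, 6, 7, 8]) ∧ Nat.card (LG (C.x L0) [1, 2, 3, 4, 5, 6, 7, 8]) ≤ 4585351680 :=
  chain_bound (n := 3159) (Cfsg.Agent.Lib.Fi22L1.step rel_eval' (by intro c hc; apply invol; revert c hc; decide)) bound2 (by norm_num)

theorem index_top : (LG (C.x L0) [1, 2, 3, 4, 5, 6, 7, 8]).index = 14080 := by
  obtain ⟨φ, f, _, _, _, _, _, _, _, _, h, _⟩ := Cfsg.Agent.Lib.Fi22BIdx.main (LG (C.x L0) [1, 2, 3, 4, 5, 6, 7, 8]) rfl
  exact h

/-- everything about the presented group -/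
theorem main : IsSimpleGroup (CoxPresented Fi22.Gen Fi22.edges Fi22.extra) ∧ Nat.card (CoxPresented Fi22.Gen Fi22.edges Fi22.extra) = 64561751654400 ∧
    ∃ (φ : (CoxPresented Fi22.Gen Fi22.edges Fi22.extra) →* Equiv.Perm ℕ), (∀ c, φ (C.x L0 c) = sperm nets c) ∧ Function.Injective φ ∧
      ∀ g, (∀ b ∈ [8, 54, 192, 1, 0], φ g b = b) → g = 1 := by
  have hgen := C.closure_letters L0
  obtain ⟨φ, hφ⟩ := phi_exists
  obtain ⟨f, hf0, hf⟩ := map_exists _ rfl
  have hc := cert_full (k := 12) (n := 3510) (nc := 9) c_nets hφ x_iv0 hgen (by norm_num)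
    c_full WS c_fix steps0 c_inv0 c_reach0 _ rfl f hf0 hf
  have hc' := cert_index (k := 12) (n := 3510) (nc := 9) c_nets hφ x_iv0 hgen (by norm_num) (by norm_num)
    c_full WS c_fix steps0 c_inv0 c_reach0 _ rfl f hf0 hf
  obtain ⟨hidx, heq, hpres, hfinj, horb, hfix, hfsurj⟩ := hc
  have hGU := index_bound (n := 14080) (V := 64561751654400) index_top (by norm_num) rfl bound1 (by norm_num)
  obtain ⟨hG, hcU⟩ := hGU
  have hfr : Finite φ.range := Finite.of_surjective _ φ.rangeRestrict_surjective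
  have hw : ∀ w : List ℕ, (w.map (sperm nets)).prod ∈ φ.range := fun w => word_mem_range hφ w
  have e0 : 3510 * Nat.card (stabs φ.range [0]) ≤ Nat.card φ.range :=
    level c_nets hfr hw [] ((letterW 9).map (Wd.flat iv)) (by intro b hb; exact absurd hb (by simp)) full_lt steps0 c_inv0 c_reach0 full_pop
  have lv1 : 2816 * Nat.card (stabs φ.range [1, 0]) ≤ Nat.card (stabs φ.range [0]) :=
    level c_nets hfr hw [0] ws1 (by
      intro b hb
      simp only [List.mem_cons, List.not_mem_nil, or_false] at hb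
      rcases hb with rfl
      · exact b1_fix0) b1_lt st1 b1_inv b1_reach b1_pop
  have e1 : 9884160 * Nat.card (stabs φ.range [1, 0]) ≤ Nat.card φ.range := level_trans e0 lv1 (by norm_num)
  have lv2 : 1680 * Nat.card (stabs φ.range [192, 1, 0]) ≤ Nat.card (stabs φ.range [1, 0]) :=
    level c_nets hfr hw [1, 0] ws2 (by
      intro b hb
      simp only [List.mem_cons, List.not_mem_nil, or_false] at hb
      rcases hb with rfl | rfl
      · exact b2_fix1
      · exact b2_fix0) b2_lt st2 b2_inv b2_reach b2_pop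
  have e2 : 16605388800 * Nat.card (stabs φ.range [192, 1, 0]) ≤ Nat.card φ.range := level_trans e1 lv2 (by norm_num)
  have lv3 : 243 * Nat.card (stabs φ.range [54, 192, 1, 0]) ≤ Nat.card (stabs φ.range [192, 1, 0]) :=
    level c_nets hfr hw [192, 1, 0] ws3 (by
      intro b hb
      simp only [List.mem_cons, List.not_mem_nil, or_false] at hb
      rcases hb with rfl | rfl | rfl
      · exact b3_fix2
      · exact b3_fix1
      · exact b3_fix0) b3_lt st3 b3_inv b3_reach b3_pop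
  have e3 : 4035109478400 * Nat.card (stabs φ.range [54, 192, 1, 0]) ≤ Nat.card φ.range := level_trans e2 lv3 (by norm_num)
  have lv4 : 16 * Nat.card (stabs φ.range [8, 54, 192, 1, 0]) ≤ Nat.card (stabs φ.range [54, 192, 1, 0]) :=
    level c_nets hfr hw [54, 192, 1, 0] ws4 (by
      intro b hb
      simp only [List.mem_cons, List.not_mem_nil, or_false] at hb
      rcases hb with rfl | rfl | rfl | rfl
      · exact b4_fix3
      · exact b4_fix2
      · exact b4_fix1
      · exact b4_fix0) b4_lt st4 b4_inv b4_reach b4_pop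
  have e4 : 64561751654400 * Nat.card (stabs φ.range [8, 54, 192, 1, 0]) ≤ Nat.card φ.range := level_trans e3 lv4 (by norm_num)
  obtain ⟨hcard, hinj, hbase⟩ := order_of_bounds φ hG (U := 64561751654400) hcU e4
  refine ⟨?_, hcard, φ, hφ, hinj, hbase⟩
  have hev : ∀ W ∈ [Wd.pow v 13, Wd.pow (Wd.mul (Wd.mul (Wd.g 0) (Wd.g 1)) v) 13], W.eval (C.x L0) = 1 := fun W hW =>
    eval_eq_one hinj c_nets x_iv0 hφ (relK_of_relsD c_nets v_rels W hW)
  apply simple_order (nc := 9) (n := 3510) (U := 64561751654400) (p := 13) (h := 18393661440) (φ := φ) (bs := [8, 54, 192, 1, 0])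
    (H := Subgroup.closure (wset (C.x L0) WS)) hgen hcard hG (by norm_num) hidx hfix horb (by decide) hbase
    ?_ (by norm_num) (by norm_num) (by norm_num) (by norm_num)
  · intro N hN hpN
    have hij : C.x L0 0 * C.x L0 1 ∈ N := mem_of_pow hpN (p := 13) (a := C.x L0 0 * C.x L0 1) (b := Wd.eval (C.x L0) v)
      (hev (Wd.pow v 13) (by simp)) (hev (Wd.pow (Wd.mul (Wd.mul (Wd.g 0) (Wd.g 1)) v) 13) (by simp))
    have q0 : ((C.x L0 0 : (CoxPresented Fi22.Gen Fi22.edges Fi22.extra)) : (CoxPresented Fi22.Gen Fi22.edges Fi22.extra) ⧸ N) = ((C.x L0 0 : (CoxPresented Fi22.Gen Fi22.edges Fi22.extra)) : (CoxPresented Fi22.Gen Fi22.edges Fi22.extra) ⧸ N) := rfl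
    have q1 : ((C.x L0 1 : (CoxPresented Fi22.Gen Fi22.edges Fi22.extra)) : (CoxPresented Fi22.Gen Fi22.edges Fi22.extra) ⧸ N) = ((C.x L0 0 : (CoxPresented Fi22.Gen Fi22.edges Fi22.extra)) : (CoxPresented Fi22.Gen Fi22.edges Fi22.extra) ⧸ N) := (eqv_of_mem hN (invol 1 (by norm_num)) hij).symm
    have q2 : ((C.x L0 2 : (CoxPresented Fi22.Gen Fi22.edges Fi22.extra)) : (CoxPresented Fi22.Gen Fi22.edges Fi22.extra) ⧸ N) = ((C.x L0 0 : (CoxPresented Fi22.Gen Fi22.edges Fi22.extra)) : (CoxPresented Fi22.Gen Fi22.edges Fi22.extra) ⧸ N) :=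
      (eqv_step hN (invol 2 (by norm_num)) (q1.trans q0.symm) (m := 1) (rel_eval' (Wd.pow (Wd.mul (Wd.g 1) (Wd.g 2)) 3) (by decide)) (rel_eval' (Wd.pow (Wd.mul (Wd.g 0) (Wd.g 2)) 2) (by decide))).trans q1
    have q3 : ((C.x L0 3 : (CoxPresented Fi22.Gen Fi22.edges Fi22.extra)) : (CoxPresented Fi22.Gen Fi22.edges Fi22.extra) ⧸ N) = ((C.x L0 0 : (CoxPresented Fi22.Gen Fi22.edges Fi22.extra)) : (CoxPresented Fi22.Gen Fi22.edges Fi22.extra) ⧸ N) :=
      (eqv_step hN (invol 3 (by norm_num)) (q2.trans q0.symm) (m := 1) (rel_eval' (Wd.pow (Wd.mul (Wd.g 2) (Wd.g 3)) 3) (by decide)) (rel_eval' (Wd.pow (Wd.mul (Wd.g 0) (Wd.g 3)) 2) (by decide))).trans q2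
    have q4 : ((C.x L0 4 : (CoxPresented Fi22.Gen Fi22.edges Fi22.extra)) : (CoxPresented Fi22.Gen Fi22.edges Fi22.extra) ⧸ N) = ((C.x L0 0 : (CoxPresented Fi22.Gen Fi22.edges Fi22.extra)) : (CoxPresented Fi22.Gen Fi22.edges Fi22.extra) ⧸ N) :=
      (eqv_step hN (invol 4 (by norm_num)) (q3.trans q0.symm) (m := 1) (rel_eval' (Wd.pow (Wd.mul (Wd.g 3) (Wd.g 4)) 3) (by decide)) (rel_eval' (Wd.pow (Wd.mul (Wd.g 0) (Wd.g 4)) 2) (by decide))).trans q3
    have q5 : ((C.x L0 5 : (CoxPresented Fi22.Gen Fi22.edges Fi22.extra)) : (CoxPresented Fi22.Gen Fi22.edges Fi22.extra) ⧸ N) = ((C.x L0 0 : (CoxPresented Fi22.Gen Fi22.edges Fi22.extra)) : (CoxPresented Fi22.Gen Fi22.edges Fi22.extra) ⧸ N) :=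
      (eqv_step hN (invol 5 (by norm_num)) (q4.trans q0.symm) (m := 1) (rel_eval' (Wd.pow (Wd.mul (Wd.g 4) (Wd.g 5)) 3) (by decide)) (rel_eval' (Wd.pow (Wd.mul (Wd.g 0) (Wd.g 5)) 2) (by decide))).trans q4
    have q6 : ((C.x L0 6 : (CoxPresented Fi22.Gen Fi22.edges Fi22.extra)) : (CoxPresented Fi22.Gen Fi22.edges Fi22.extra) ⧸ N) = ((C.x L0 0 : (CoxPresented Fi22.Gen Fi22.edges Fi22.extra)) : (CoxPresented Fi22.Gen Fi22.edges Fi22.extra) ⧸ N) :=
      (eqv_step hN (invol 6 (by norm_num)) (q5.trans q0.symm) (m := 1) (rel_eval' (Wd.pow (Wd.mul (Wd.g 5) (Wd.g 6)) 3) (by decide)) (rel_eval' (Wd.pow (Wd.mul (Wd.g 0) (Wd.g 6)) 2) (by decide))).trans q5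
    have q7 : ((C.x L0 7 : (CoxPresented Fi22.Gen Fi22.edges Fi22.extra)) : (CoxPresented Fi22.Gen Fi22.edges Fi22.extra) ⧸ N) = ((C.x L0 0 : (CoxPresented Fi22.Gen Fi22.edges Fi22.extra)) : (CoxPresented Fi22.Gen Fi22.edges Fi22.extra) ⧸ N) :=
      (eqv_step hN (invol 7 (by norm_num)) (q3.trans q0.symm) (m := 1) (rel_eval' (Wd.pow (Wd.mul (Wd.g 3) (Wd.g 7)) 3) (by decide)) (rel_eval' (Wd.pow (Wd.mul (Wd.g 0) (Wd.g 7)) 2) (by decide))).trans q3
    have q8 : ((C.x L0 8 : (CoxPresented Fi22.Gen Fi22.edges Fi22.extra)) : (CoxPresented Fi22.Gen Fi22.edges Fi22.extra) ⧸ N) = ((C.x L0 0 : (CoxPresented Fi22.Gen Fi22.edges Fi22.extra)) : (CoxPresented Fi22.Gen Fi22.edges Fi22.extra) ⧸ N) :=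
      (eqv_step hN (invol 8 (by norm_num)) (q7.trans q0.symm) (m := 1) (rel_eval' (Wd.pow (Wd.mul (Wd.g 7) (Wd.g 8)) 3) (by decide)) (rel_eval' (Wd.pow (Wd.mul (Wd.g 0) (Wd.g 8)) 2) (by decide))).trans q7
    have ht : C.x L0 0 ∈ N := by
      refine odd_rel hN (x := C.x L0) (nn := 9) (invol 0 (by norm_num)) ?_ (W := (Wd.pow (Wd.mul (Wd.mul (Wd.mul (Wd.mul (Wd.mul (Wd.mul (Wd.g 0) (Wd.g 1)) (Wd.g 2)) (Wd.g 3)) (Wd.g 4)) (Wd.g 5)) (Wd.g 7)) 9)) (by decide) (by decide) (rel_eval' _ (by decide))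
      intro c hc
      interval_cases c
      · exact q0
      · exact q1
      · exact q2
      · exact q3
      · exact q4
      · exact q5
      · exact q6
      · exact q7
      · exact q8
    have n0 : C.x L0 0 ∈ N := mem_of_eqv hN ht q0
    have n1 : C.x L0 1 ∈ N := mem_of_eqv hN ht q1
    have n2 : C.x L0 2 ∈ N := mem_of_eqv hN ht q2
    have n3 : C.x L0 3 ∈ N := mem_of_eqv hN ht q3
    have n4 : C.x L0 4 ∈ N := mem_of_eqv hN ht q4
    have n5 : C.x L0 5 ∈ N := mem_of_eqv hN ht q5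
    have n6 : C.x L0 6 ∈ N := mem_of_eqv hN ht q6
    have n7 : C.x L0 7 ∈ N := mem_of_eqv hN ht q7
    have n8 : C.x L0 8 ∈ N := mem_of_eqv hN ht q8
    intro c hc
    interval_cases c
    · exact n0
    · exact n1
    · exact n2
    · exact n3
    · exact n4
    · exact n5
    · exact n6
    · exact n7
    · exact n8
  · refine maximal_of_block hidx (by norm_num) (r := 2) (fun i => ([2816, 693] : List ℕ)[i.1]'(by have := i.2; simpa using this)) ?_ arith
    intro K hK
    refine block_of_masks (by norm_num) f hf0 hfinj hfsurj [1, 6] [M0, M1] [2816, 693] rfl rfl ?_ ?_ union_eq ?_ ?_ K hK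
    · decide
    · intro i
      fin_cases i
      · have h2 := hc'.2 1 M0 l0 (by norm_num) o0_lt o0_inv o0_reach
        exact ⟨h2.1, h2.2.trans o0_pop⟩
      · have h2 := hc'.2 6 M1 l1 (by norm_num) o1_lt o1_inv o1_reach
        exact ⟨h2.1, h2.2.trans o1_pop⟩
    · intro i j h
      fin_cases i <;> fin_cases j
      · rfl
      · exact absurd (h.symm.trans t1_0) (by decide)
      · exact absurd (h.symm.trans t0_1) (by decide)
      · rfl
    · intro i
      fin_cases i
      · exact z0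
      · exact z1

end Cfsg.Agent.Lib.Fi22Ord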