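import Cfsg.Agent.Lib.H58SMf

/-!
Schur multiplier engine, part g: faster checks with packed coordinates (helper58)
-/

set_option autoImplicit false

namespace Cfsg.Agent.Lib.H58SM

/-- steps of a word: forward / backward, the table of the letter, the item offset -/
inductive Stp where
  | F (tb io : ℕ) : Stp
  | B (tb io : ℕ) : Stp

/-- data with packed coordinates. `TL l` is the table of the letter `l` (entries of `wb` bits); `RE x` contains the rank
of the item `x` in the lowest `b0` bits and the coordinates in fields of `b` bits above -/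
structure DatQ where
  n : ℕ
  k : ℕ
  J : ℕ
  p : ℕ
  m : ℕ
  d : ℕ
  wb : ℕ
  mkT : ℕ
  b0 : ℕ
  mk0 : ℕ
  b : ℕ
  mb : ℕ
  LM : ℕ
  TL : ℕ → ℕ
  pi : ℕ → ℕ
  pq : ℕ → ℕ
  W : ℕ → List ℕ
  S : ℕ → List Stp
  RE : ℕ → ℕ
  lp : ℕ → ℕ
  par : ℕ → ℕ
  Zl : List ℕ

namespace DatQ

variable (Q : DatQ)

def T (l a : ℕ) : ℕ := gt (Q.TL l) Q.wb Q.mkT a
def EP (x : ℕ) : ℕ := Nat.shiftRight (Q.RE x) Q.b0
def rk (x : ℕ) : ℕ := Nat.land (Q.RE x) Q.mk0
def E (t x : ℕ) : ℕ := Nat.land (Nat.shiftRight (Q.EP x) (Nat.mul Q.b t)) Q.mb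

/-- the associated data -/
def toDat : Dat where
  n := Q.n
  k := Q.k
  J := Q.J
  p := Q.p
  m := Q.m
  d := Q.d
  T := Q.T
  pi := Q.pi
  pq := Q.pq
  W := Q.W
  rk := Q.rk
  lp := Q.lp
  E := Q.E
  par := Q.par
  Zl := Q.Zl

/-- all `d` fields are divisible by `m` -/
def fz (d s : ℕ) : Bool := Nat.rec (fun _ => true) (fun _ ih s =>
  cond (Nat.beq (Nat.mod (Nat.land s Q.mb) Q.m) 0) (frc (Nat.shiftRight s Q.b) fun s' => ih s') false) d s

/-- all `d` fields are less than `m`, the rest is zero -/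
def fok (d s : ℕ) : Bool := Nat.rec (fun s => Nat.beq s 0) (fun _ ih s =>
  cond (Nat.blt (Nat.land s Q.mb) Q.m) (frc (Nat.shiftRight s Q.b) fun s' => ih s') false) d s

/-- treatment of one item: `q` its coefficient -/
def stp (it r q x s c : ℕ) (cont : ℕ → ℕ → Bool) : Bool :=
  frc (Q.RE x) fun re => frc (Nat.add s (Nat.mul q (Nat.shiftRight re Q.b0))) fun s' =>
    cond (Nat.beq x it) (frc (Nat.add c q) fun c' => cont s' c')
      (cond (Nat.blt (Nat.land re Q.mk0) r) (cont s' c) false)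

/-- the walk -/
noncomputable def wlk (it r : ℕ) (fin : ℕ → ℕ → Bool) (w : List Stp) : ℕ → ℕ → ℕ → Bool :=
  List.rec (motive := fun _ => ℕ → ℕ → ℕ → Bool) (fun _ s c => fin s c)
    (fun st _ ih a s c => Stp.rec (motive := fun _ => Bool)
      (fun tb io => frc (gt tb Q.wb Q.mkT a) fun b => frc (Nat.add io a) fun x =>
        Q.stp it r 1 x s c fun s' c' => ih b s' c')
      (fun tb io => frc (gt tb Q.wb Q.mkT a) fun b => frc (Nat.add io b) fun x =>
        Q.stp it r (Nat.sub Q.m 1) x s c fun s' c' => ih b s' c') st) w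

/-- final check -/
def fin (s c : ℕ) : Bool := cond (Nat.beq (Nat.mod c Q.p) 0) false (Q.fz Q.d s)

/-- check of an item of positive rank -/
noncomputable def chk1 (it r : ℕ) : Bool :=
  frc (Q.lp it) fun L => frc (Nat.div L Q.n) fun j => frc (Nat.mod L Q.n) fun a =>
    cond (Nat.blt j Q.J) (cond (Nat.blt a Q.n) (frc (Nat.add (Nat.mul Q.k Q.n) j) fun z =>
      Q.wlk it r (fun s c => Q.stp it r (Nat.sub Q.m 1) z s c fun s' c' => Q.fin s' c') (Q.S j) a 0 0) false) false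

/-- check of the coordinates of an item -/
def chkE (it : ℕ) : Bool := Q.fok Q.d (Q.EP it)

/-- check of an item -/
noncomputable def chk (it : ℕ) : Bool :=
  cond (Q.chkE it) (frc (Q.rk it) fun r => cond (Nat.beq r 0) (Q.toDat.chk0 it) (Q.chk1 it r)) false

/-- a step list represents a word -/
def okS : List Stp → List ℕ → Bool
  | [], [] => true
  | (Stp.F tb io) :: S, l :: w => Nat.beq (Nat.land l 1) 0 && (Nat.beq tb (Q.TL l) &&
      (Nat.beq io (Nat.mul (Nat.div l 2) Q.n) && okS S w))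
  | (Stp.B tb io) :: S, l :: w => (!(Nat.beq (Nat.land l 1) 0)) && (Nat.beq tb (Q.TL l) &&
      (Nat.beq io (Nat.mul (Nat.div l 2) Q.n) && okS S w))
  | _, _ => false

def sOk : Bool := alln (fun j => Q.okS (Q.S j) (Q.W j) && Nat.ble (Q.W j).length Q.LM) Q.J

/-- parameters of the packing -/
def pOk : Bool := Nat.beq Q.mb (2 ^ Q.b - 1) && (Nat.beq Q.mk0 (2 ^ Q.b0 - 1) && (Nat.beq Q.mkT (2 ^ Q.wb - 1) && (Nat.blt 1 Q.m &&
  Nat.blt ((Q.LM + 1) * ((Q.m - 1) * (Q.m - 1))) (2 ^ Q.b))))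

section proofs

variable {Q}

theorem land_mask {x mk b : ℕ} (h : mk = 2 ^ b - 1) : Nat.land x mk = x % 2 ^ b := by
  rw [h]; exact Nat.and_two_pow_sub_one_eq_mod x b

theorem shift_eq (x b : ℕ) : Nat.shiftRight x b = x / 2 ^ b := Nat.shiftRight_eq_div_pow x b

theorem cond_true_eq {b x : Bool} (h : cond b x false = true) : b = true ∧ x = true := by
  cases b
  · exact absurd h (by simp)
  · exact ⟨rfl, h⟩

theorem fz_succ (d s : ℕ) : Q.fz (d + 1) s = cond (Nat.beq (Nat.mod (Nat.land s Q.mb) Q.m) 0)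
    (Q.fz d (Nat.shiftRight s Q.b)) false := by
  show cond _ (frc _ _) _ = _
  rw [frc_eq]; rfl

theorem fok_succ (d s : ℕ) : Q.fok (d + 1) s = cond (Nat.blt (Nat.land s Q.mb) Q.m)
    (Q.fok d (Nat.shiftRight s Q.b)) false := by
  show cond _ (frc _ _) _ = _
  rw [frc_eq]; rfl

/-- packed number of a vector of fields -/
def pkf (b : ℕ) (f : ℕ → ℕ) : ℕ → ℕ
  | 0 => 0
  | d + 1 => f 0 + 2 ^ b * pkf b (fun t => f (t + 1)) d

theorem pkf_congr {b : ℕ} {f g : ℕ → ℕ} {d : ℕ} (h : ∀ t < d, f t = g t) : pkf b f d = pkf b g d := by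
  induction d generalizing f g with
  | zero => rfl
  | succ d ih =>
    show f 0 + 2 ^ b * _ = g 0 + 2 ^ b * _
    rw [h 0 (by omega), ih (fun t ht => h (t + 1) (by omega))]

theorem pkf_add (b : ℕ) (f g : ℕ → ℕ) (d : ℕ) : pkf b (fun t => f t + g t) d = pkf b f d + pkf b g d := by
  induction d generalizing f g with
  | zero => rfl
  | succ d ih =>
    show f 0 + g 0 + 2 ^ b * _ = f 0 + 2 ^ b * _ + (g 0 + 2 ^ b * _)
    rw [ih (fun t => f (t + 1)) (fun t => g (t + 1))]; ring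

theorem pkf_mul (b q : ℕ) (f : ℕ → ℕ) (d : ℕ) : pkf b (fun t => q * f t) d = q * pkf b f d := by
  induction d generalizing f with
  | zero => rfl
  | succ d ih =>
    show q * f 0 + 2 ^ b * _ = q * (f 0 + 2 ^ b * _)
    rw [ih (fun t => f (t + 1))]; ring

theorem pkf_zero (b d : ℕ) : pkf b (fun _ => 0) d = 0 := by
  induction d with
  | zero => rfl
  | succ d ih =>
    show 0 + 2 ^ b * _ = 0
    rw [ih, mul_zero, add_zero]

theorem fz_spec (hmb : Q.mb = 2 ^ Q.b - 1) {f : ℕ → ℕ} {d : ℕ} (hf : ∀ t < d, f t < 2 ^ Q.b)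
    (h : Q.fz d (pkf Q.b f d) = true) : ∀ t < d, f t % Q.m = 0 := by
  induction d generalizing f with
  | zero => intro t ht; exact absurd ht (Nat.not_lt_zero t)
  | succ d ih =>
    rw [fz_succ] at h
    obtain ⟨h1, h2⟩ := cond_true_eq h
    have h0 := hf 0 (by omega)
    have h3 : pkf Q.b f (d + 1) % 2 ^ Q.b = f 0 := by
      show (f 0 + 2 ^ Q.b * _) % 2 ^ Q.b = f 0
      rw [Nat.add_mul_mod_self_left, Nat.mod_eq_of_lt h0]
    have h4 : pkf Q.b f (d + 1) / 2 ^ Q.b = pkf Q.b (fun t => f (t + 1)) d := by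
      show (f 0 + 2 ^ Q.b * _) / 2 ^ Q.b = _
      rw [Nat.add_mul_div_left _ _ (by positivity), Nat.div_eq_of_lt h0, zero_add]
    rw [land_mask hmb, h3] at h1
    rw [shift_eq, h4] at h2
    intro t ht
    rcases t with _ | t
    · exact Sol.beq_iff.1 h1
    · exact ih (f := fun t => f (t + 1)) (fun t ht => hf (t + 1) (by omega)) h2 t (by omega)

theorem fok_spec (hmb : Q.mb = 2 ^ Q.b - 1) {d s : ℕ} (h : Q.fok d s = true) :
    (∀ t < d, s / 2 ^ (Q.b * t) % 2 ^ Q.b < Q.m) ∧ s = pkf Q.b (fun t => s / 2 ^ (Q.b * t) % 2 ^ Q.b) d := by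
  induction d generalizing s with
  | zero =>
    refine ⟨fun t ht => absurd ht (Nat.not_lt_zero t), ?_⟩
    exact Sol.beq_iff.1 h
  | succ d ih =>
    rw [fok_succ] at h
    obtain ⟨h1, h2⟩ := cond_true_eq h
    rw [land_mask hmb] at h1
    rw [shift_eq] at h2
    obtain ⟨h3, h4⟩ := ih h2
    have h5 : ∀ t, s / 2 ^ Q.b / 2 ^ (Q.b * t) = s / 2 ^ (Q.b * (t + 1)) := by
      intro t
      rw [Nat.div_div_eq_div_mul, ← pow_add]
      congr 2; ring
    refine ⟨?_, ?_⟩
    · intro t ht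
      rcases t with _ | t
      · rw [Nat.mul_zero, pow_zero, Nat.div_one]; exact Sol.blt_iff.1 h1
      · rw [← h5]; exact h3 t (by omega)
    · show s = s / 2 ^ (Q.b * 0) % 2 ^ Q.b + 2 ^ Q.b * pkf Q.b (fun t => s / 2 ^ (Q.b * (t + 1)) % 2 ^ Q.b) d
      rw [Nat.mul_zero, pow_zero, Nat.div_one]
      have h6 : (fun t => s / 2 ^ (Q.b * (t + 1)) % 2 ^ Q.b) = fun t => s / 2 ^ Q.b / 2 ^ (Q.b * t) % 2 ^ Q.b := by
        funext t; rw [h5]
      rw [h6, ← h4, Nat.mod_add_div]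

theorem E_eq (hmb : Q.mb = 2 ^ Q.b - 1) (t x : ℕ) : Q.E t x = Q.EP x / 2 ^ (Q.b * t) % 2 ^ Q.b := by
  show Nat.land (Nat.shiftRight (Q.EP x) (Q.b * t)) Q.mb = _
  rw [land_mask hmb, shift_eq]

theorem E_lt (hmb : Q.mb = 2 ^ Q.b - 1) {x : ℕ} (h : Q.chkE x = true) {t : ℕ} (ht : t < Q.d) : Q.E t x < Q.m := by
  rw [E_eq hmb]; exact (fok_spec hmb h).1 t ht

theorem EP_eq (hmb : Q.mb = 2 ^ Q.b - 1) {x : ℕ} (h : Q.chkE x = true) : Q.EP x = pkf Q.b (fun t => Q.E t x) Q.d := by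
  have h1 := (fok_spec hmb h).2
  have h2 : (fun t => Q.E t x) = fun t => Q.EP x / 2 ^ (Q.b * t) % 2 ^ Q.b := by
    funext t; exact E_eq hmb t x
  rw [h2]; exact h1

theorem wk_start (n m : ℕ) (T : ℕ → ℕ → ℕ) (f : ℕ → ℕ) (w : List ℕ) (a s : ℕ) :
    wk n m T f w a s = s + wk n m T f w a 0 := by
  induction w generalizing a s with
  | nil => show s = s + 0; rw [add_zero]
  | cons l w ih =>
    rw [wk_cons, wk_cons, ih]
    conv_rhs => rw [ih]
    by_cases h : l % 2 = 0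
    · rw [if_pos h, if_pos h]; ring
    · rw [if_neg h, if_neg h]; ring

theorem wk_pkf (n m : ℕ) (T : ℕ → ℕ → ℕ) {P : ℕ → Bool} {F : ℕ → ℕ} {E : ℕ → ℕ → ℕ} {b d : ℕ}
    (hF : ∀ x, P x = true → F x = pkf b (fun t => E t x) d) {w : List ℕ} {a : ℕ} (hp : pall n T P w a = true) :
    wk n m T F w a 0 = pkf b (fun t => wk n m T (E t) w a 0) d := by
  induction w generalizing a with
  | nil => exact (pkf_zero b d).symm
  | cons l w ih =>
    rw [pall_cons, Bool.and_eq_true] at hp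
    rw [wk_cons, wk_start, ih hp.2]
    have h1 : ∀ t, wk n m T (E t) (l :: w) a 0 = (if l % 2 = 0 then E t (itm n T l a) else (m - 1) * E t (itm n T l a)) +
        wk n m T (E t) w (T l a) 0 := by
      intro t
      rw [wk_cons, wk_start, zero_add, zero_add]
    rw [pkf_congr fun t _ => h1 t, pkf_add]
    congr 1
    by_cases h : l % 2 = 0
    · simp only [if_pos h, zero_add]; exact hF _ hp.1
    · simp only [if_neg h, zero_add]; rw [hF _ hp.1, pkf_mul]

theorem wk_le (n m : ℕ) (T : ℕ → ℕ → ℕ) {P : ℕ → Bool} {f : ℕ → ℕ} {M : ℕ} (hm : 1 < m) (hf : ∀ x, P x = true → f x ≤ M)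
    {w : List ℕ} {a : ℕ} (hp : pall n T P w a = true) : wk n m T f w a 0 ≤ w.length * ((m - 1) * M) := by
  induction w generalizing a with
  | nil => exact Nat.zero_le _
  | cons l w ih =>
    rw [pall_cons, Bool.and_eq_true] at hp
    rw [wk_cons, wk_start, List.length_cons, Nat.add_mul, one_mul, add_comm]
    apply Nat.add_le_add (ih hp.2)
    have h1 := hf _ hp.1
    have h2 : 1 ≤ m - 1 := by omega
    by_cases h : l % 2 = 0
    · rw [if_pos h, zero_add]
      calc f (itm n T l a) ≤ 1 * M := by omega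
        _ ≤ (m - 1) * M := Nat.mul_le_mul_right _ h2
    · rw [if_neg h, zero_add]
      exact Nat.mul_le_mul_left _ h1

theorem stp_eq (it r q x s c : ℕ) (cont : ℕ → ℕ → Bool) : Q.stp it r q x s c cont =
    cond (Nat.beq x it) (cont (s + q * Q.EP x) (c + q)) (cond (Nat.blt (Q.rk x) r) (cont (s + q * Q.EP x) c) false) := by
  show frc _ _ = _
  rw [frc_eq, frc_eq, frc_eq]; rfl

theorem stp_spec {it r q x s c : ℕ} {cont : ℕ → ℕ → Bool} (h : Q.stp it r q x s c cont = true) :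
    (Nat.beq x it || Nat.blt (Q.rk x) r) = true ∧
      cont (s + q * Q.EP x) (c + q * (cond (Nat.beq x it) 1 0)) = true := by
  rw [stp_eq] at h
  cases hx : Nat.beq x it
  · rw [hx, cond_false] at h
    obtain ⟨h1, h2⟩ := cond_true_eq h
    rw [h1]
    refine ⟨rfl, ?_⟩
    rw [cond_false, mul_zero, add_zero]; exact h2
  · rw [hx, cond_true] at h
    refine ⟨rfl, ?_⟩
    rw [cond_true, mul_one]; exact h

theorem wlk_F (it r : ℕ) (fin : ℕ → ℕ → Bool) (tb io : ℕ) (S : List Stp) (a s c : ℕ) :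
    Q.wlk it r fin (Stp.F tb io :: S) a s c = Q.stp it r 1 (io + a) s c fun s' c' =>
      Q.wlk it r fin S (gt tb Q.wb Q.mkT a) s' c' := by
  have h : Q.wlk it r fin (Stp.F tb io :: S) a s c = frc (gt tb Q.wb Q.mkT a) (fun b => frc (Nat.add io a) fun x =>
    Q.stp it r 1 x s c fun s' c' => Q.wlk it r fin S b s' c') := rfl
  rw [h, frc_eq, frc_eq]; rfl

theorem wlk_B (it r : ℕ) (fin : ℕ → ℕ → Bool) (tb io : ℕ) (S : List Stp) (a s c : ℕ) :
    Q.wlk it r fin (Stp.B tb io :: S) a s c = Q.stp it r (Q.m - 1) (io + gt tb Q.wb Q.mkT a) s c fun s' c' =>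
      Q.wlk it r fin S (gt tb Q.wb Q.mkT a) s' c' := by
  have h : Q.wlk it r fin (Stp.B tb io :: S) a s c = frc (gt tb Q.wb Q.mkT a) (fun b => frc (Nat.add io b) fun x =>
    Q.stp it r (Nat.sub Q.m 1) x s c fun s' c' => Q.wlk it r fin S b s' c') := rfl
  rw [h, frc_eq, frc_eq]; rfl

theorem wlk_spec {it r : ℕ} {fin : ℕ → ℕ → Bool} {S : List Stp} {w : List ℕ} (hS : Q.okS S w = true) {a s c : ℕ}
    (h : Q.wlk it r fin S a s c = true) :
    pall Q.n Q.T (fun x => Nat.beq x it || Nat.blt (Q.rk x) r) w a = true ∧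
      fin (s + wk Q.n Q.m Q.T Q.EP w a 0) (c + wk Q.n Q.m Q.T (fun x => cond (Nat.beq x it) 1 0) w a 0) = true := by
  induction S generalizing w a s c with
  | nil =>
    cases w with
    | nil =>
      refine ⟨rfl, ?_⟩
      exact h
    | cons l w => exact absurd hS (by simp [okS])
  | cons st S ih =>
    cases w with
    | nil => cases st <;> exact absurd hS (by simp [okS])
    | cons l w =>
      cases st with
      | F tb io =>
        have hS : (Nat.beq (Nat.land l 1) 0 && (Nat.beq tb (Q.TL l) &&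
          (Nat.beq io (Nat.mul (Nat.div l 2) Q.n) && Q.okS S w))) = true := hS
        rw [Bool.and_eq_true, Bool.and_eq_true, Bool.and_eq_true, Sol.beq_iff, Sol.beq_iff, Sol.beq_iff, land_one] at hS
        obtain ⟨h1, h2, h3, h4⟩ := hS
        rw [wlk_F] at h
        obtain ⟨h5, h6⟩ := stp_spec h
        have hT : gt tb Q.wb Q.mkT a = Q.T l a := by rw [h2]; rfl
        have hI : io + a = itm Q.n Q.T l a := by
          unfold itm; rw [if_pos h1, h3]; rfl
        rw [hT] at h6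
        rw [hI] at h5 h6
        obtain ⟨h7, h8⟩ := ih h4 h6
        rw [pall_cons, Bool.and_eq_true, wk_cons, wk_cons, if_pos h1, if_pos h1, zero_add, zero_add, wk_start,
          wk_start _ _ _ (fun x => cond (Nat.beq x it) 1 0), ← add_assoc, ← add_assoc]
        rw [one_mul, one_mul] at h8
        exact ⟨⟨h5, h7⟩, h8⟩
      | B tb io =>
        have hS : ((!(Nat.beq (Nat.land l 1) 0)) && (Nat.beq tb (Q.TL l) &&
          (Nat.beq io (Nat.mul (Nat.div l 2) Q.n) && Q.okS S w))) = true := hS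
        rw [Bool.and_eq_true, Bool.and_eq_true, Bool.and_eq_true, Sol.beq_iff, Sol.beq_iff, land_one] at hS
        obtain ⟨h1, h2, h3, h4⟩ := hS
        have h1 : ¬ l % 2 = 0 := by
          intro h0
          rw [h0] at h1
          exact absurd h1 (by decide)
        rw [wlk_B] at h
        obtain ⟨h5, h6⟩ := stp_spec h
        have hT : gt tb Q.wb Q.mkT a = Q.T l a := by rw [h2]; rfl
        rw [hT] at h5 h6
        have hI : io + Q.T l a = itm Q.n Q.T l a := by
          unfold itm; rw [if_neg h1, h3]; rfl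
        rw [hI] at h5 h6
        obtain ⟨h7, h8⟩ := ih h4 h6
        rw [pall_cons, Bool.and_eq_true, wk_cons, wk_cons, if_neg h1, if_neg h1, zero_add, zero_add, wk_start,
          wk_start _ _ _ (fun x => cond (Nat.beq x it) 1 0), ← add_assoc, ← add_assoc]
        exact ⟨⟨h5, h7⟩, h8⟩

theorem itm_lt {n k : ℕ} {T : ℕ → ℕ → ℕ} (hT : ∀ l < 2 * k, ∀ a < n, T l a < n) {l a : ℕ} (hl : l < 2 * k) (ha : a < n) :
    itm n T l a < k * n := by
  have h1 : ∀ b < n, l / 2 * n + b < k * n := by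
    intro b hb
    have h2 : l / 2 < k := by omega
    calc l / 2 * n + b < l / 2 * n + n := by omega
      _ = (l / 2 + 1) * n := by ring
      _ ≤ k * n := Nat.mul_le_mul_right _ (by omega)
  unfold itm
  split_ifs
  · exact h1 _ ha
  · exact h1 _ (hT l hl a ha)

theorem pall_lt {n k : ℕ} {T : ℕ → ℕ → ℕ} (hT : ∀ l < 2 * k, ∀ a < n, T l a < n) {P : ℕ → Bool} {w : List ℕ}
    (hw : ∀ l ∈ w, l < 2 * k) {a : ℕ} (ha : a < n) (h : pall n T P w a = true) :
    pall n T (fun x => Nat.blt x (Nat.mul k n) && P x) w a = true := by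
  induction w generalizing a with
  | nil => rfl
  | cons l w ih =>
    have hl := hw l List.mem_cons_self
    rw [pall_cons, Bool.and_eq_true] at h ⊢
    refine ⟨?_, ih (fun l hl => hw l (List.mem_cons_of_mem _ hl)) (hT l hl a ha) h.2⟩
    rw [h.1, Bool.and_true]
    exact Sol.blt_iff.2 (itm_lt hT hl ha)

theorem pall_mono {n : ℕ} {T : ℕ → ℕ → ℕ} {P P' : ℕ → Bool} (hP : ∀ x, P x = true → P' x = true) {w : List ℕ} {a : ℕ}
    (h : pall n T P w a = true) : pall n T P' w a = true := by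
  induction w generalizing a with
  | nil => rfl
  | cons l w ih =>
    rw [pall_cons, Bool.and_eq_true] at h ⊢
    exact ⟨hP _ h.1, ih h.2⟩

/-- the packed checks imply the original ones -/
theorem chk_of (hp : Q.pOk = true) (hS : Q.sOk = true) (hW : Q.toDat.wOk = true)
    (hT : ∀ l < 2 * Q.k, ∀ a < Q.n, Q.T l a < Q.n) (h : ∀ x < Q.toDat.N, Q.chk x = true) :
    ∀ x < Q.toDat.N, Q.toDat.chk x = true := by
  unfold pOk at hp
  simp only [Bool.and_eq_true, Nat.beq_eq, Nat.blt_eq] at hp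
  obtain ⟨hmb, hmk0, hmk, hm, hLM⟩ := hp
  have hE : ∀ x < Q.toDat.N, Q.chkE x = true := fun x hx => (cond_true_eq (h x hx)).1
  have hWl := Dat.wOk_iff hW
  intro it hit
  have h1 := (cond_true_eq (h it hit)).2
  rw [frc_eq] at h1
  show cond (Nat.beq (Q.rk it) 0) _ _ = true
  by_cases hr : Nat.beq (Q.rk it) 0 = true
  · rw [hr, cond_true] at h1 ⊢; exact h1
  · have hr : Nat.beq (Q.rk it) 0 = false := by
      cases hh : Nat.beq (Q.rk it) 0
      · rfl
      · exact absurd hh hr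
    rw [hr, cond_false] at h1 ⊢
    unfold chk1 at h1
    rw [frc_eq, frc_eq, frc_eq] at h1
    obtain ⟨hj, h2⟩ := cond_true_eq h1
    obtain ⟨ha', h2⟩ := cond_true_eq h2
    rw [frc_eq] at h2
    set j := Nat.div (Q.lp it) Q.n with hjdef
    set a := Nat.mod (Q.lp it) Q.n with hadef
    have hj' : j < Q.J := Sol.blt_iff.1 hj
    have ha : a < Q.n := Sol.blt_iff.1 ha'
    have hSj := alln_iff.1 hS j hj'
    rw [Bool.and_eq_true] at hSj
    obtain ⟨h3, h4⟩ := wlk_spec hSj.1 h2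
    obtain ⟨h5, h6⟩ := stp_spec h4
    have hz : Nat.add (Nat.mul Q.k Q.n) j < Q.toDat.N := by
      show Q.k * Q.n + j < Q.k * Q.n + Q.J
      omega
    set z := Nat.add (Nat.mul Q.k Q.n) j with hzdef
    have hzi : Q.toDat.zi j = z := rfl
    rw [zero_add, zero_add] at h6
    unfold fin at h6
    have h7 : Nat.beq (Nat.mod (wk Q.n Q.m Q.T (fun x => cond (Nat.beq x it) 1 0) (Q.W j) a 0 +
        Nat.sub Q.m 1 * (cond (Nat.beq z it) 1 0)) Q.p) 0 = false := by
      cases hh : Nat.beq (Nat.mod (wk Q.n Q.m Q.T (fun x => cond (Nat.beq x it) 1 0) (Q.W j) a 0 +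
        Nat.sub Q.m 1 * (cond (Nat.beq z it) 1 0)) Q.p) 0
      · rfl
      · rw [hh, cond_true] at h6
        exact absurd h6 (by simp)
    rw [h7, cond_false] at h6
    have hlet := hWl j hj'
    have h8 : pall Q.n Q.T (fun x => Nat.blt x (Nat.mul Q.k Q.n) && (Nat.beq x it || Nat.blt (Q.rk x) (Q.rk it)))
      (Q.W j) a = true := pall_lt hT hlet ha h3
    have hPE : ∀ x, (Nat.blt x (Nat.mul Q.k Q.n) && (Nat.beq x it || Nat.blt (Q.rk x) (Q.rk it))) = true →
        Q.chkE x = true := by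
      intro x hx
      rw [Bool.and_eq_true] at hx
      have h9 : x < Q.k * Q.n := Sol.blt_iff.1 hx.1
      exact hE x (by show x < Q.k * Q.n + Q.J; omega)
    have h9 : wk Q.n Q.m Q.T Q.EP (Q.W j) a 0 = pkf Q.b (fun t => wk Q.n Q.m Q.T (Q.E t) (Q.W j) a 0) Q.d :=
      wk_pkf Q.n Q.m Q.T (fun x hx => EP_eq hmb (hPE x hx)) h8
    have h10 : wk Q.n Q.m Q.T Q.EP (Q.W j) a 0 + Nat.sub Q.m 1 * Q.EP z =
        pkf Q.b (fun t => wk Q.n Q.m Q.T (Q.E t) (Q.W j) a 0 + Nat.sub Q.m 1 * Q.E t z) Q.d := by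
      rw [h9, pkf_add, pkf_mul, ← EP_eq hmb (hE z hz)]
    rw [h10] at h6
    have hlen : (Q.W j).length ≤ Q.LM := Nat.le_of_ble_eq_true hSj.2
    have h11 : ∀ t < Q.d, wk Q.n Q.m Q.T (Q.E t) (Q.W j) a 0 + Nat.sub Q.m 1 * Q.E t z < 2 ^ Q.b := by
      intro t ht
      have h12 := wk_le Q.n Q.m Q.T (f := Q.E t) (M := Q.m - 1) hm (fun x hx => by
        have := E_lt hmb (hPE x hx) ht
        omega) h8
      have h13 : Nat.sub Q.m 1 * Q.E t z ≤ (Q.m - 1) * (Q.m - 1) := by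
        have := E_lt hmb (hE z hz) ht
        exact Nat.mul_le_mul_left _ (by omega)
      have h14 : (Q.W j).length * ((Q.m - 1) * (Q.m - 1)) ≤ Q.LM * ((Q.m - 1) * (Q.m - 1)) :=
        Nat.mul_le_mul_right _ hlen
      have h15 : (Q.LM + 1) * ((Q.m - 1) * (Q.m - 1)) = Q.LM * ((Q.m - 1) * (Q.m - 1)) + (Q.m - 1) * (Q.m - 1) := by ring
      omega
    have h16 := fz_spec hmb h11 h6
    unfold Dat.chk1
    rw [frc_eq, frc_eq, frc_eq, frc_eq]
    have e1 : Nat.div (Q.toDat.lp it) Q.toDat.n = j := rfl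
    have e2 : Nat.mod (Q.toDat.lp it) Q.toDat.n = a := rfl
    rw [e1, e2, hzi]
    rw [Bool.and_eq_true, Bool.and_eq_true, Bool.and_eq_true, Bool.and_eq_true, Bool.and_eq_true]
    refine ⟨hj, ha', h5, h8, ?_, ?_⟩
    · show (!(Nat.beq (Nat.mod (Nat.add (wk Q.n Q.m Q.T (fun x => cond (Nat.beq x it) 1 0) (Q.W j) a 0)
        (Nat.mul (Nat.sub Q.m 1) (cond (Nat.beq z it) 1 0))) Q.p) 0)) = true
      have h7' : Nat.beq (Nat.mod (Nat.add (wk Q.n Q.m Q.T (fun x => cond (Nat.beq x it) 1 0) (Q.W j) a 0)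
        (Nat.mul (Nat.sub Q.m 1) (cond (Nat.beq z it) 1 0))) Q.p) 0 = false := h7
      rw [h7']; rfl
    · rw [Sol.allt_iff]
      intro t ht
      exact Sol.beq_iff.2 (h16 t ht)

end proofs

end DatQ

end Cfsg.Agent.Lib.H58SM
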