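import Mathlib
import Cfsg.Prelude.Def_CaseTheorems
import Cfsg.Agent.Lib.Critical
import Cfsg.Agent.Lib.H3PGroup

/-!
# Characteristic subgroups of exponent `p` detecting `p'`-automorphisms (`p` odd) (helper2)
-/

set_option autoImplicit false

open Subgroup
open scoped commutatorElement

namespace Cfsg.Agent.Lib.Critical2

open Cfsg.Agent.Lib.Critical

variable {P : Type*} [Group P]

/-- `p` odd: there is a characteristic subgroup `D` of exponent dividing `p` and class at most two such that every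
nontrivial `p'`-automorphism acts nontrivially on `D`. -/
theorem exists_critical_omega [Finite P] {p : ℕ} [hp : Fact p.Prime] (hp2 : p ≠ 2) (hP : IsPGroup p P) :
    ∃ D : Subgroup P, D.Characteristic ∧ (∀ x ∈ D, x ^ p = 1) ∧
      (∀ x ∈ D, ∀ g : P, ⁅x, g⁆ ∈ centralizer (D : Set P)) ∧
      ∀ a : MulAut P, Nat.Coprime (orderOf a) p → (∀ x ∈ D, a x = x) → a = 1 := by
  obtain ⟨H, hHc, hF, hHP, hC, hpow⟩ := exists_critical hP
  have hHn : H.Normal := Subgroup.normal_of_characteristic H
  -- `p`-th powers are multiplicative on `H`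
  have hmul : ∀ x ∈ H, ∀ y ∈ H, (x * y) ^ p = x ^ p * y ^ p := by
    intro x hx y hy
    have hc : ⁅y⁻¹, x⁻¹⁆ ∈ H ⊓ centralizer (H : Set P) :=
      hHP (commutator_mem_commutator (inv_mem hy) (mem_top _))
    set c := ⁅y⁻¹, x⁻¹⁆ with hcdef
    have e1 : y * x = x * y * c := by
      rw [hcdef, commutatorElement_def]; group
    have hcx : Commute c x := (mem_centralizer_iff.mp hc.2 x hx).symm
    have hcy : Commute c y := (mem_centralizer_iff.mp hc.2 y hy).symm
    have h2 := PGroupOdd.pow_eq_one_of_comm' e1 hcy (n := p) (by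
      have := mem_centralizer_iff.mp (hpow y hy) x hx
      exact this.symm)
    rw [PGroupOdd.mul_pow_of_comm e1 hcx hcy, PGroupOdd.pow_choose_two_eq_one hp.out hp2 h2, mul_one]
  let D : Subgroup P :=
    { carrier := {x | x ∈ H ∧ x ^ p = 1}
      one_mem' := ⟨one_mem _, one_pow _⟩
      mul_mem' := by
        rintro x y ⟨hx, hx'⟩ ⟨hy, hy'⟩
        exact ⟨H.mul_mem hx hy, by rw [hmul x hx y hy, hx', hy', one_mul]⟩
      inv_mem' := by
        rintro x ⟨hx, hx'⟩
        exact ⟨H.inv_mem hx, by rw [inv_pow, hx', inv_one]⟩ }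
  have hDmem : ∀ x, x ∈ D ↔ x ∈ H ∧ x ^ p = 1 := fun x => Iff.rfl
  refine ⟨D, ?_, fun x hx => ((hDmem x).mp hx).2, ?_, ?_⟩
  · rw [characteristic_iff_le_comap]
    intro φ x hx
    rw [mem_comap, hDmem]
    obtain ⟨h1, h2⟩ := (hDmem x).mp hx
    refine ⟨characteristic_iff_le_comap.mp hHc φ h1, ?_⟩
    show (φ x) ^ p = 1
    rw [← map_pow, h2, map_one]
  · intro x hx g
    have h1 : ⁅x, g⁆ ∈ H ⊓ centralizer (H : Set P) :=
      hHP (commutator_mem_commutator ((hDmem x).mp hx).1 (mem_top g))
    exact centralizer_le (fun y hy => ((hDmem y).mp hy).1) h1.2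
  · intro a ha h
    apply eq_one_of_self_centralizing hP H hHn hC a ha
    have key : ∀ n : ℕ, ∀ x ∈ H, x ^ (p ^ n) = 1 → a x = x := by
      intro n
      induction n with
      | zero =>
        intro x hx hx1
        rw [pow_zero, pow_one] at hx1
        rw [hx1, map_one]
      | succ n ih =>
        intro x hx hx1
        have hax : a x ∈ H := characteristic_iff_le_comap.mp hHc a hx
        have h1 : a (x ^ p) = x ^ p := by
          apply ih _ (pow_mem hx p)
          rw [← pow_mul, ← pow_succ', hx1]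
        apply fixed_of_fixed hP a ha
        apply h
        rw [hDmem]
        refine ⟨mul_mem (inv_mem hx) hax, ?_⟩
        rw [hmul _ (inv_mem hx) _ hax, ← map_pow, h1, inv_pow, inv_mul_cancel]
    intro x hx
    obtain ⟨k, hk⟩ := hP x
    exact key k x hx hk

/-- fixed points of an automorphism in a subgroup -/
def fixIn (a : MulAut P) (K : Subgroup P) : Subgroup P where
  carrier := {x | x ∈ K ∧ a x = x}
  one_mem' := ⟨one_mem _, map_one a⟩
  mul_mem' := by
    rintro x y ⟨hx, hx'⟩ ⟨hy, hy'⟩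
    exact ⟨mul_mem hx hy, by rw [map_mul, hx', hy']⟩
  inv_mem' := by
    rintro x ⟨hx, hx'⟩
    exact ⟨inv_mem hx, by rw [map_inv, hx']⟩

theorem mem_fixIn {a : MulAut P} {K : Subgroup P} {x : P} : x ∈ fixIn a K ↔ x ∈ K ∧ a x = x := Iff.rfl

/-- Counting: an automorphism of prime order `q` satisfies `|K| ≡ |C_K(a)| mod q`. -/
theorem card_modEq [Finite P] {q : ℕ} [hq : Fact q.Prime] (a : MulAut P) (ha : orderOf a = q) (K : Subgroup P)
    (hK : ∀ (b : MulAut P), b ∈ zpowers a → ∀ x ∈ K, b x ∈ K) : Nat.card K ≡ Nat.card (fixIn a K) [MOD q] := by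
  let act : MulAction (zpowers a) K :=
    { smul := fun b x => ⟨(b : MulAut P) x, hK b b.2 x x.2⟩
      one_smul := fun x => Subtype.ext rfl
      mul_smul := fun b c x => Subtype.ext rfl }
  have hqg : IsPGroup q (zpowers a) := IsPGroup.of_card (n := 1) (by rw [Nat.card_zpowers, ha, pow_one])
  have h1 := hqg.card_modEq_card_fixedPoints K
  have h2 : Nat.card (MulAction.fixedPoints (zpowers a) K) = Nat.card (fixIn a K) := by
    refine Nat.card_congr ⟨fun x => ⟨x.1, x.1.2, ?_⟩, fun x => ⟨⟨x, x.2.1⟩, ?_⟩, fun _ => rfl, fun _ => rfl⟩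
    · exact congrArg Subtype.val (x.2 ⟨a, mem_zpowers a⟩)
    · rintro ⟨b, k, rfl⟩
      apply Subtype.ext
      show (a ^ k) (x : P) = x
      have hx : a (x : P) = x := x.2.2
      have hx' : a⁻¹ (x : P) = x := by
        conv_lhs => rw [← hx]
        exact MulAut.inv_apply_self P a x
      induction k using Int.induction_on with
      | zero => rfl
      | succ j ih => rw [zpow_add_one, MulAut.mul_apply, hx, ih]
      | pred j ih => rw [zpow_sub_one, MulAut.mul_apply, hx', ih]
  rwa [h2] at h1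

theorem dvd_of_card [Finite P] {p q : ℕ} [hp : Fact p.Prime] [hq : Fact q.Prime] (hqp : q ≠ p) (a : MulAut P)
    (ha : orderOf a = q) (K : Subgroup P) (hK : ∀ (b : MulAut P), b ∈ zpowers a → ∀ x ∈ K, b x ∈ K) {k j : ℕ}
    (hk : Nat.card K = p ^ k) (hj : Nat.card (fixIn a K) = p ^ j) : j ≤ k ∧ q ∣ p ^ (k - j) - 1 := by
  have h1 := card_modEq a ha K hK
  rw [hk, hj] at h1
  have hle : j ≤ k := by
    have h2 : fixIn a K ≤ K := fun x hx => hx.1
    have h3 := Subgroup.card_dvd_of_le h2
    rw [hk, hj] at h3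
    exact (Nat.pow_dvd_pow_iff_le_right hp.out.one_lt).mp h3
  refine ⟨hle, ?_⟩
  have h2 : q ∣ p ^ k - p ^ j := (Nat.modEq_iff_dvd' (Nat.pow_le_pow_right hp.out.pos hle)).mp h1.symm
  have h3 : p ^ k - p ^ j = p ^ j * (p ^ (k - j) - 1) := by
    rw [Nat.mul_sub, ← pow_add, mul_one, Nat.add_sub_cancel' hle]
  rw [h3] at h2
  have h4 : Nat.Coprime q (p ^ j) := Nat.Coprime.pow_right _ ((Nat.coprime_primes hq.out hp.out).mpr hqp)
  exact h4.dvd_of_dvd_mul_left h2

/-- A `p`-group of rank at most two, `p` odd: exponent `p`, class at most two implies order at most `p³`. -/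
theorem card_le_of_rank [Finite P] {p : ℕ} [hp : Fact p.Prime] (hP : IsPGroup p P) (hrk : Cfsg.PRankLE p 2 P)
    (D : Subgroup P) (hD : ∀ x ∈ D, x ^ p = 1) : Nat.card D ≤ p ^ 3 := by
  have hDp : IsPGroup p D := hP.to_subgroup D
  obtain ⟨A, -, hAn, hAc, hAC⟩ := PGroupOdd.exists_scn hDp (A₀ := (⊥ : Subgroup D)) inferInstance inferInstance
  have hA2 : Nat.card A ≤ p ^ 2 := by
    have h1 := hrk (A.map D.subtype) (by
      refine ⟨⟨?_⟩⟩
      rintro ⟨_, a, ha, rfl⟩ ⟨_, b, hb, rfl⟩
      apply Subtype.ext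
      exact congrArg D.subtype (isMulCommutative_iff_of_setLike.mp hAc a ha b hb)) (by
      rintro _ ⟨a, _, rfl⟩
      exact hD a a.2)
    rwa [Subgroup.card_map_of_injective D.subtype_injective] at h1
  obtain ⟨a, ha⟩ := IsPGroup.iff_card.mp (hDp.to_subgroup A)
  have h2 := H3PGroup.index_centralizer_le a hDp A ha
  rw [hAC] at h2
  have h3 : a ≤ 2 := by
    rw [ha] at hA2
    exact (Nat.pow_le_pow_iff_right hp.out.one_lt).mp hA2
  rw [← A.card_mul_index, ha]
  calc p ^ a * A.index ≤ p ^ a * p ^ (a * (a - 1) / 2) := Nat.mul_le_mul_left _ h2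
    _ = p ^ (a + a * (a - 1) / 2) := (pow_add _ _ _).symm
    _ ≤ p ^ 3 := by
      apply Nat.pow_le_pow_right hp.out.pos
      interval_cases a <;> norm_num

/-- For odd `p`, a prime `q ≠ p` dividing `|Aut P|`, `P` a `p`-group of rank at most two, divides `p² - 1`. -/
theorem prime_dvd_aut [Finite P] {p : ℕ} [hp : Fact p.Prime] (hp2 : p ≠ 2) (hP : IsPGroup p P)
    (hrk : Cfsg.PRankLE p 2 P) (q : ℕ) (hq : q.Prime) (hqp : q ≠ p) (hdvd : q ∣ Nat.card (MulAut P)) :
    q ∣ p ^ 2 - 1 ∧ q < p := by
  have hq' : Fact q.Prime := ⟨hq⟩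
  have hfin : Finite (MulAut P) := by
    exact Finite.of_injective (fun a : MulAut P => (a : P → P)) (fun a b h => MulEquiv.ext (congrFun h))
  obtain ⟨a, ha⟩ := exists_prime_orderOf_dvd_card' q hdvd
  obtain ⟨D, hDc, hDp, hDcl, hD⟩ := exists_critical_omega hp2 hP
  have hinv : ∀ (K : Subgroup P), K.Characteristic → ∀ (b : MulAut P), b ∈ zpowers a → ∀ x ∈ K, b x ∈ K :=
    fun K hK b _ x hx => characteristic_iff_le_comap.mp hK b hx
  have hane : a ≠ 1 := by
    rintro rfl
    rw [orderOf_one] at ha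
    exact hq.one_lt.ne ha
  have hnt : fixIn a D ≠ D := by
    intro h
    apply hane
    apply hD a (by rw [ha]; exact (Nat.coprime_primes hq hp.out).mpr hqp)
    intro x hx
    rw [← h] at hx
    exact hx.2
  -- the key: q | p^i - 1 with i ∈ {1, 2}
  have hkey : ∀ (K : Subgroup P), K.Characteristic → fixIn a K ≠ K → ∀ j k : ℕ, Nat.card K = p ^ k →
      Nat.card (fixIn a K) = p ^ j → k - j ≤ 2 → q ∣ p ^ 2 - 1 := by
    intro K hK hKn j k hk hj hkj
    obtain ⟨hle, hd⟩ := dvd_of_card hqp a ha K (hinv K hK) hk hj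
    have hne : k ≠ j := by
      rintro rfl
      apply hKn
      exact Subgroup.eq_of_le_of_card_ge (fun x hx => hx.1) (by rw [hk, hj])
    have h12 : k - j = 1 ∨ k - j = 2 := by omega
    rcases h12 with h | h
    · rw [h, pow_one] at hd
      refine hd.trans ⟨p + 1, ?_⟩
      have := hp.out.one_lt
      obtain ⟨t, rfl⟩ : ∃ t, p = t + 1 := ⟨p - 1, by omega⟩
      simp only [Nat.add_sub_cancel]
      have e : (t + 1) ^ 2 = t * (t + 1 + 1) + 1 := by ring
      rw [e, Nat.add_sub_cancel]
    · rwa [h] at hd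
  have hmain : q ∣ p ^ 2 - 1 := by
    obtain ⟨k, hk⟩ := IsPGroup.iff_card.mp (hP.to_subgroup D)
    obtain ⟨j, hj⟩ := IsPGroup.iff_card.mp (hP.to_subgroup (fixIn a D))
    have hle := card_le_of_rank hP hrk D hDp
    have hk3 : k ≤ 3 := by
      rw [hk] at hle
      exact (Nat.pow_le_pow_iff_right hp.out.one_lt).mp hle
    by_cases hj0 : 1 ≤ j
    · exact hkey D hDc hnt j k hk hj (by omega)
    · by_cases hk2 : k ≤ 2
      · exact hkey D hDc hnt j k hk hj (by omega)
      · -- k = 3, fixed points trivial; use the centre of D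
        have hj' : j = 0 := by omega
        subst hj'
        set Z := D ⊓ centralizer (D : Set P) with hZ
        have hZc : Z.Characteristic := by
          rw [characteristic_iff_le_comap]
          rintro φ x ⟨hx1, hx2⟩
          refine ⟨characteristic_iff_le_comap.mp hDc φ hx1, ?_⟩
          show φ x ∈ centralizer (D : Set P)
          rw [mem_centralizer_iff]
          intro y hy
          have h5 : φ.symm y ∈ D := characteristic_iff_le_comap.mp hDc φ.symm hy
          have := mem_centralizer_iff.mp hx2 _ h5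
          have h4 := congrArg φ this
          simpa using h4
        have hZne : Z ≠ ⊥ := by
          intro h
          have hDn : Nontrivial D := by
            rw [← Finite.one_lt_card_iff_nontrivial, hk]
            exact Nat.one_lt_pow (by omega) hp.out.one_lt
          have h1 := (hP.to_subgroup D).center_nontrivial
          obtain ⟨⟨⟨z, hzD⟩, hz⟩, hz1⟩ := exists_ne (1 : center D)
          apply hz1
          apply Subtype.ext
          apply Subtype.ext
          have h2 : z ∈ Z := by
            refine ⟨hzD, ?_⟩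
            show z ∈ centralizer (D : Set P)
            rw [mem_centralizer_iff]
            intro y hy
            exact congrArg Subtype.val (mem_center_iff.mp hz ⟨y, hy⟩)
          rw [h, mem_bot] at h2
          exact h2
        have hZfix : fixIn a Z ≠ Z := by
          intro h
          apply hZne
          rw [pow_zero, Subgroup.card_eq_one] at hj
          rw [eq_bot_iff, ← hj]
          intro x hx
          rw [← h] at hx
          exact ⟨hx.1.1, hx.2⟩
        obtain ⟨kz, hkz⟩ := IsPGroup.iff_card.mp (hP.to_subgroup Z)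
        obtain ⟨jz, hjz⟩ := IsPGroup.iff_card.mp (hP.to_subgroup (fixIn a Z))
        have hz2 : kz ≤ 2 := by
          have h1 := hrk Z (by
            rw [← le_centralizer_iff_isMulCommutative]
            exact inf_le_right.trans (centralizer_le inf_le_left)) (fun x hx => hDp x hx.1)
          rw [hkz] at h1
          exact (Nat.pow_le_pow_iff_right hp.out.one_lt).mp h1
        exact hkey Z hZc hZfix jz kz hkz hjz (by omega)
  refine ⟨hmain, ?_⟩
  have hp3 : 3 ≤ p := by
    have := hp.out.two_le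
    omega
  have hodd : Odd p := hp.out.odd_of_ne_two hp2
  have hfac : p ^ 2 - 1 = (p + 1) * (p - 1) := by
    obtain ⟨t, rfl⟩ : ∃ t, p = t + 1 := ⟨p - 1, by omega⟩
    simp only [Nat.add_sub_cancel]
    have e : (t + 1) ^ 2 = (t + 1 + 1) * t + 1 := by ring
    rw [e, Nat.add_sub_cancel]
  rw [hfac] at hmain
  rcases (Nat.Prime.dvd_mul hq).mp hmain with h | h
  · obtain ⟨s, hs⟩ := hodd
    rw [hs] at h
    have e : 2 * s + 1 + 1 = 2 * (s + 1) := by ring
    rw [e] at h
    rcases (Nat.Prime.dvd_mul hq).mp h with h1 | h1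
    · have := Nat.le_of_dvd (by norm_num) h1
      omega
    · have := Nat.le_of_dvd (by omega) h1
      omega
  · have := Nat.le_of_dvd (by omega) h
    omega

end Cfsg.Agent.Lib.Critical2
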