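import Cfsg.Agent.Lib.DegTools
import Cfsg.Agent.Lib.DefectZero
import Cfsg.Agent.Lib.CliffordCorr
import Cfsg.Agent.Lib.CanonExt

/-!
# Characters of degree prime to `p` above a given character (helper95)
-/

set_option autoImplicit false

namespace Cfsg.Agent.Lib.CrossDeg

open Cfsg Cfsg.Agent.Lib Cfsg.Agent.Lib.CharBasic Cfsg.Agent.Lib.Clifford
  Cfsg.Agent.Lib.DefectZero
open scoped ComplexConjugate

universe u

variable {G : Type u} [Group G] [Finite G]

/-- above a character of degree prime to `p` of a subgroup of index prime to `p` there is an irreducible character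
of degree prime to `p`. -/
theorem exists_over {p : ℕ} [hp : Fact p.Prime] (H : Subgroup G) [Fintype H] (hi : ¬ p ∣ H.index) {ψ : H → ℂ}
    (hψ : IsIrrCharacter H ψ) (hd : ¬ p ∣ charDegree ψ) :
    ∃ χ : IrrCharacter G, ¬ p ∣ charDegree (χ : G → ℂ) ∧ classInner (fun h : H => (χ : G → ℂ) h) ψ ≠ 0 := by
  classical
  have := Fintype.ofFinite G
  by_contra hcon
  push Not at hcon
  have h1 := Clifford.isCharacter_indFun H hψ.isCharacter
  have h2 := congrFun h1.isClassFunction.expansion 1
  rw [IndFun.indFun_one, ← charDegree_eq hψ.isCharacter, Finset.sum_apply] at h2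
  choose m hm using fun χ : IrrCharacter G => h1.classInner_nat χ.2.isCharacter
  have h3 : ∀ χ : IrrCharacter G, p ∣ m χ * charDegree (χ : G → ℂ) := by
    intro χ
    by_cases hχ : p ∣ charDegree (χ : G → ℂ)
    · exact hχ.mul_left _
    · have h4 := hcon χ hχ
      have h5 := hm χ
      rw [IndFun.frobenius_reciprocity H ψ χ χ.2.isClassFunction, ← conj_classInner, h4, map_zero] at h5
      have h6 : m χ = 0 := by exact_mod_cast h5.symm
      rw [h6, zero_mul]
      exact dvd_zero p
  have h4 : H.index * charDegree ψ = ∑ χ : IrrCharacter G, m χ * charDegree (χ : G → ℂ) := by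
    have h5 : ((H.index * charDegree ψ : ℕ) : ℂ) = ((∑ χ : IrrCharacter G, m χ * charDegree (χ : G → ℂ) : ℕ) : ℂ) := by
      push_cast
      rw [h2]
      refine Finset.sum_congr rfl fun χ _ => ?_
      rw [Pi.smul_apply, smul_eq_mul, hm χ, charDegree_eq χ.2.isCharacter]
    exact_mod_cast h5
  have h5 : p ∣ H.index * charDegree ψ := by
    rw [h4]
    exact Finset.dvd_sum fun χ _ => h3 χ
  rcases hp.out.dvd_mul.mp h5 with h | h
  · exact hi h
  · exact hd h

/-- constituents of restrictions in two steps -/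
theorem classInner_ne_zero_of_ext {H N : Subgroup G} [Fintype H] [Fintype N] (hNH : N ≤ H) {χ : G → ℂ}
    (hχ : IsCharacter G χ) {ψ : H → ℂ} (hψ : IsIrrCharacter H ψ) {θ : N → ℂ} (hθ : IsIrrCharacter N θ)
    (hext : ∀ n : N, ψ ⟨n, hNH n.2⟩ = θ n) (h : classInner (fun x : H => χ x) ψ ≠ 0) :
    classInner (fun n : N => χ n) θ ≠ 0 := by
  obtain ⟨b, hb, hbe⟩ := Clifford.degree_le_of_constituent (hχ.restrict H) hψ h
  let ι : N →* H := Subgroup.inclusion hNH
  have hbN : IsCharacter N (fun n => b (ι n)) := hb.comp ι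
  have h1 : (fun n : N => χ n) = θ + fun n => b (ι n) := by
    funext n
    have h2 := congrFun hbe (ι n)
    rw [Pi.add_apply] at h2 ⊢
    rw [← hext n]
    exact h2
  rw [h1, classInner_add_left, hθ.classInner_self]
  obtain ⟨m, hm⟩ := hbN.classInner_nat hθ.isCharacter
  rw [hm]
  have : ((1 + m : ℕ) : ℂ) ≠ 0 := by
    rw [Nat.cast_ne_zero]; omega
  push_cast at this
  exact this

/-- the index of the inertia group divides the degree -/
theorem inertia_index_dvd (N : Subgroup G) [N.Normal] [Fintype N] {χ : G → ℂ} (hχ : IsIrrCharacter G χ)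
    {θ : N → ℂ} (hθ : IsIrrCharacter N θ) (h : classInner (fun n : N => χ n) θ ≠ 0) :
    (inertia N θ).index ∣ charDegree χ := by
  have := Fintype.ofFinite G
  have h3 := CliffordCorr.degree_clifford hχ hθ h
  obtain ⟨e, he⟩ := (hχ.isCharacter.restrict N).classInner_nat hθ.isCharacter
  rw [he, ← charDegree_eq hχ.isCharacter, ← charDegree_eq hθ.isCharacter] at h3
  have h4 : charDegree χ = e * ((inertia N θ).index * charDegree θ) := by
    exact_mod_cast h3
  rw [h4]
  exact (dvd_mul_right _ _).mul_left _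

end Cfsg.Agent.Lib.CrossDeg
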