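import Cfsg.Agent.Lib.CycG9
import Cfsg.Agent.Lib.CycG4

set_option autoImplicit false
set_option linter.all false

/-!
# Blocks with cyclic defect group: local data (helper78)
-/

namespace Cfsg.Agent.Lib.CycG10

open Cfsg Cfsg.Agent.Lib.BlockRing Cfsg.Agent.Lib.BlockGA Cfsg.Agent.Lib.BlockAlg
open Cfsg.Agent.Lib.BlkIdem Cfsg.Agent.Lib.PairAlg Cfsg.Agent.Lib.PairMax Cfsg.Agent.Lib.BrauerPairs
open Cfsg.Agent.Lib.CycG2 Cfsg.Agent.Lib.CycG3 Cfsg.Agent.Lib.CycG4 Cfsg.Agent.Lib.CycG5 Cfsg.Agent.Lib.CycG6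
open Cfsg.Agent.Lib.CycG7 Cfsg.Agent.Lib.CycG8 Cfsg.Agent.Lib.CycG9 Cfsg.Agent.Lib.AbCount
open Cfsg.Agent.Lib.BlockIdem Cfsg.Agent.Lib.BrauerMap Cfsg.Agent.Lib.BlkTransport Cfsg.Agent.Lib.PairCount
open Module Cfsg.Agent.Lib.ModRep
open MonoidAlgebra (single)

universe u

section grp

variable {p : ℕ} [hp : Fact p.Prime] {G : Type u} [Group G] [Finite G] {P : Subgroup G}

/-- the subgroup of order `p` -/
theorem exists_Q (hPp : IsPGroup p P) (hcyc : IsCyclic P) (hP1 : P ≠ ⊥) :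
    ∃ Q : Subgroup G, Q ≤ P ∧ Nat.card Q = p ∧ ∀ x ∈ P, x ^ p = 1 → x ∈ Q := by
  classical
  have := Fintype.ofFinite P
  have hnt : Nontrivial P := (Subgroup.nontrivial_iff_ne_bot P).2 hP1
  have hdvd : p ∣ Nat.card P := by
    obtain ⟨n, hn⟩ := hPp.exists_card_eq
    rw [hn]
    apply dvd_pow_self
    rintro rfl
    rw [pow_zero] at hn
    have h1 : 1 < Nat.card P := Finite.one_lt_card
    omega
  obtain ⟨y, hy⟩ := exists_prime_orderOf_dvd_card' (G := P) p hdvd
  have hyG : orderOf (y : G) = p := by rw [Subgroup.orderOf_coe, hy]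
  refine ⟨Subgroup.zpowers (y : G), Subgroup.zpowers_le.2 y.2, by rw [Nat.card_zpowers, hyG], ?_⟩
  intro x hx hxp
  have h1 : (Finset.univ.filter (fun z : P => z ∈ Subgroup.zpowers y)) ⊆
      Finset.univ.filter (fun z : P => z ^ p = 1) := by
    intro z hz
    rw [Finset.mem_filter] at hz ⊢
    refine ⟨Finset.mem_univ _, ?_⟩
    obtain ⟨j, hj⟩ := Subgroup.mem_zpowers_iff.1 hz.2
    rw [← hj, ← zpow_natCast, ← zpow_mul, mul_comm, zpow_mul, zpow_natCast, ← hy, pow_orderOf_eq_one, one_zpow]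
  have h2 : (Finset.univ.filter (fun z : P => z ^ p = 1)).card ≤ p := IsCyclic.card_pow_eq_one_le hp.out.pos
  have h3 : (Finset.univ.filter (fun z : P => z ∈ Subgroup.zpowers y)).card = p := by
    rw [← Fintype.card_subtype, ← hy, ← Nat.card_zpowers, Nat.card_eq_fintype_card]
  have h4 := Finset.eq_of_subset_of_card_le h1 (by rw [h3]; exact h2)
  have h5 : (⟨x, hx⟩ : P) ∈ Finset.univ.filter (fun z : P => z ^ p = 1) := by
    rw [Finset.mem_filter]
    exact ⟨Finset.mem_univ _, Subtype.ext hxp⟩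
  rw [← h4, Finset.mem_filter] at h5
  obtain ⟨j, hj⟩ := Subgroup.mem_zpowers_iff.1 h5.2
  exact Subgroup.mem_zpowers_iff.2 ⟨j, congrArg Subtype.val hj⟩

theorem sep_Q (hPp : IsPGroup p P) {Q : Subgroup G} (hQ : Q ≤ P) (hcQ : Nat.card Q = p)
    (hQx : ∀ x ∈ P, x ^ p = 1 → x ∈ Q) {g : G} (hg : g ∉ Subgroup.normalizer (Q : Set G)) :
    ∀ x ∈ P, g⁻¹ * x * g ∈ P → x = 1 := by
  classical
  intro x hx hxg
  by_contra hx1
  apply hg
  obtain ⟨k, hk⟩ := orderOf_mem hPp hx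
  have hk0 : k ≠ 0 := by
    rintro rfl
    rw [pow_zero, orderOf_eq_one_iff] at hk
    exact hx1 hk
  obtain ⟨j, rfl⟩ := Nat.exists_eq_succ_of_ne_zero hk0
  set y := x ^ p ^ j with hy
  have hyP : y ∈ P := pow_mem hx _
  have hyp : y ^ p = 1 := by
    rw [hy, ← pow_mul, ← pow_succ]
    change x ^ p ^ (j.succ) = 1
    rw [← hk, pow_orderOf_eq_one]
  have hy1 : y ≠ 1 := by
    intro h
    have h1 := orderOf_dvd_of_pow_eq_one h
    rw [hk, Nat.pow_dvd_pow_iff_le_right hp.out.one_lt] at h1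
    omega
  have hyQ : y ∈ Q := hQx y hyP hyp
  have hyo : orderOf y = p := (orderOf_eq_prime hyp hy1)
  have hgen : Subgroup.zpowers y = Q := by
    apply Subgroup.eq_of_le_of_card_ge (Subgroup.zpowers_le.2 hyQ)
    rw [Nat.card_zpowers, hyo, hcQ]
  have hyg : g⁻¹ * y * g ∈ Q := by
    have e1 : g⁻¹ * y * g = (g⁻¹ * x * g) ^ p ^ j := by
      have := conj_pow (i := p ^ j) (a := g⁻¹) (b := x)
      rw [inv_inv] at this
      rw [this]
    apply hQx
    · rw [e1]; exact pow_mem hxg _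
    · have := conj_pow (i := p) (a := g⁻¹) (b := y)
      rw [inv_inv] at this
      rw [this, hyp]; group
  have hall : ∀ q ∈ Q, g⁻¹ * q * g ∈ Q := by
    intro q hq
    rw [← hgen] at hq
    obtain ⟨i, rfl⟩ := Subgroup.mem_zpowers_iff.1 hq
    have := conj_zpow (i := i) (a := g⁻¹) (b := y)
    rw [inv_inv] at this
    rw [← this]
    exact zpow_mem hyg _
  rw [Subgroup.mem_normalizer_iff]
  intro h
  constructor
  · intro hh
    have hinj : Function.Injective (fun q : Q => (⟨g⁻¹ * q * g, hall q q.2⟩ : Q)) := by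
      intro a b hab
      have h1 := congrArg Subtype.val hab
      exact Subtype.ext (mul_left_cancel (mul_right_cancel h1))
    obtain ⟨q, hq⟩ := (Finite.injective_iff_surjective.1 hinj) ⟨h, hh⟩
    have h1 : g⁻¹ * (q : G) * g = h := congrArg Subtype.val hq
    rw [← h1]
    have : g * (g⁻¹ * (q : G) * g) * g⁻¹ = q := by group
    rw [this]; exact q.2
  · intro hh
    have := hall _ hh
    have e1 : g⁻¹ * (g * h * g⁻¹) * g = h := by group
    rwa [e1] at this

end grp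

section blk

variable {p : ℕ} [hp : Fact p.Prime] {M : Ideal AlgInt} [hMm : M.IsMaximal] [hchar : CharP (Kf M) p]
  {G : Type u} [Group G] [Finite G] {B : Set (IrrCharacter G)} {P : Subgroup G} {c : MonoidAlgebra (Kf M) G}

/-- **The algebra of a block with cyclic defect group and trivial inertial index.** -/
theorem exists_uni (hM : IsPModular p M) (h : AbMax p B P c) (hcyc : IsCyclic P) (hP1 : P ≠ ⊥)
    (hst : ∀ t ∈ stab (Subgroup.normalizer (P : Set G)) c, t ∈ Subgroup.centralizer (P : Set G)) :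
    ∃ (x : MonoidAlgebra (Kf M) G) (q n : ℕ) (σ : G →* Module.End (Kf M) (Fin n → Kf M)),
      1 ≤ q ∧ Uni (bidG M B) x q σ := by
  classical
  have hMp := hMm.isPrime
  haveI : IsAlgClosed (Kf M) := H25BpTw.isAlgClosed_Kf
  have hnt : Nontrivial P := (Subgroup.nontrivial_iff_ne_bot P).2 hP1
  obtain ⟨hl, hB⟩ := h.nilpotent hM (Nat.card G) le_rfl (by
    intro t ht x hx
    have h1 := Subgroup.mem_centralizer_iff.1 (hst t ht) x hx
    rw [← h1]; group)
  obtain ⟨⟨v, hv⟩, hgen⟩ := hcyc.exists_generator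
  have hvP : Subgroup.zpowers v = P := by
    apply le_antisymm (Subgroup.zpowers_le.2 hv)
    intro x hx
    obtain ⟨n, hn⟩ := Subgroup.mem_zpowers_iff.1 (hgen ⟨x, hx⟩)
    exact Subgroup.mem_zpowers_iff.2 ⟨n, by simpa using congrArg Subtype.val hn⟩
  have h1 : 1 < Nat.card P := Finite.one_lt_card
  obtain ⟨q, hq⟩ : ∃ q, Nat.card P = q + 1 := ⟨Nat.card P - 1, by omega⟩
  obtain ⟨x, hxc, hfx, hxm, hsoc⟩ := exists_x hM h hst hv hvP hq (by omega) (by rw [hB, hq])
  have hblk : IsBlk ⊤ (bidG M B) := isBlk_bidG h.blk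
  have hfc : ∀ z, z * bidG M B = bidG M B * z := fun z => comm_of_supp_fix (mem_suppAlg_top z) hblk.mem.2
  obtain ⟨n, σ, hσ, hσf⟩ := exists_irr_of_block hblk.idem hfc hblk.ne_zero
  refine ⟨x, q, n, σ, by omega, ⟨hblk.idem, hfc, hxc, hfx, hxm, hsoc, hσ, hσf, ?_⟩⟩
  intro a ha hσa n' τ hτ
  rcases op_idem hτ hblk.idem hfc with h0 | h1
  · rw [← ha, map_mul, h0, zero_mul]
  · obtain ⟨φ, hφ, hbij⟩ := simple_unique hM h.blk hl hσ hσf hτ h1
    apply LinearMap.ext
    intro w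
    obtain ⟨v', rfl⟩ := hbij.2 w
    rw [← op_hom σ τ hφ, hσa, LinearMap.zero_apply, map_zero, LinearMap.zero_apply]

omit hp hchar in
theorem cj_of_central {x : MonoidAlgebra (Kf M) G} (hx : ∀ w, w * x = x * w) (t : G) : cj t x = x := by
  have := Fintype.ofFinite G
  apply ext_coeff
  intro g
  rw [cj_coeff]
  have h1 := coeff_eq_of_eq (hx (single t 1)) (g * t)
  rw [MonoidAlgebra.coeff_single_mul_apply, MonoidAlgebra.coeff_mul_single_apply, one_mul, mul_one] at h1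
  rw [mul_assoc, h1, mul_assoc, mul_inv_cancel, mul_one]

omit hp hchar in
theorem inc_central {C : Subgroup G} {x : MonoidAlgebra (Kf M) C} (hx : ∀ w, w * x = x * w) :
    inc C x ∈ ZAlg (Kf M) C := by
  refine ⟨fun g hg => inc_coeff_not_mem C x hg, ?_⟩
  intro t ht
  have h1 := inc_cj (⟨t, ht⟩ : C) x
  rw [cj_of_central hx] at h1
  exact h1.symm

omit hp hchar in
theorem inc_supp {C : Subgroup G} (x : MonoidAlgebra (Kf M) C) : inc C x ∈ suppAlg (Kf M) C :=
  fun g hg => inc_coeff_not_mem C x hg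

/-- `T ∩ p`-groups -/
theorem le_of_pgroup {C T R : Subgroup G} (hCT : (C.subgroupOf T).Normal) (hidx : ¬ p ∣ C.relIndex T)
    (hR : R ≤ T) (hRp : IsPGroup p R) : R ≤ C := by
  intro r hr
  obtain ⟨k, hk⟩ := hRp ⟨r, hr⟩
  have hk' : r ^ p ^ k = 1 := by simpa using congrArg Subtype.val hk
  have h1 : (QuotientGroup.mk (⟨r, hR hr⟩ : T) : T ⧸ C.subgroupOf T) ^ p ^ k = 1 := by
    rw [← QuotientGroup.mk_pow, QuotientGroup.eq_one_iff, Subgroup.mem_subgroupOf]
    change r ^ p ^ k ∈ C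
    rw [hk']; exact one_mem _
  have h2 := orderOf_dvd_of_pow_eq_one h1
  obtain ⟨j, _, hj⟩ := (Nat.dvd_prime_pow hp.out).1 h2
  have h3 : orderOf (QuotientGroup.mk (⟨r, hR hr⟩ : T) : T ⧸ C.subgroupOf T) ∣ C.relIndex T := orderOf_dvd_natCard _
  have hj0 : j = 0 := by
    by_contra hj0
    apply hidx
    rw [hj] at h3
    exact (dvd_pow_self p hj0).trans h3
  rw [hj0, pow_zero, orderOf_eq_one_iff, QuotientGroup.eq_one_iff, Subgroup.mem_subgroupOf] at hj
  exact hj

/-- the defect condition for the local block -/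
theorem defIn_loc (h : AbMax p B P c) {Q T : Subgroup G} (hQ : Q ≤ P)
    (hCT : Subgroup.centralizer (Q : Set G) ≤ T)
    (hn : ((Subgroup.centralizer (Q : Set G)).subgroupOf T).Normal)
    (hidx : ¬ p ∣ (Subgroup.centralizer (Q : Set G)).relIndex T) : DefIn p T P (pr p P c Q) := by
  intro g hg R hRT hR hgR
  have hRC := le_of_pgroup hn hidx hRT hR
  have h1 := h.resQ hQ
  have h2 := h1.max.defIn hasBlocks (isBlk_bidG h1.blk) h1.pair h1.br
  have hinc : inc (Subgroup.centralizer (Q : Set G)) (bidG M (bQ p P c Q)) = pr p P c Q :=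
    (blkOf_spec (pr_pair h.pair hQ).2).2
  have hgC : g ∈ Subgroup.centralizer (Q : Set G) := by
    by_contra hcon
    exact hg ((pr_pair h.pair hQ).2.mem.1 g hcon)
  have h3 : (bidG M (bQ p P c Q)).coeff ⟨g, hgC⟩ ≠ 0 := by
    rw [← inc_coeff_coe, hinc]
    exact hg
  obtain ⟨x, _, hx⟩ := h2 ⟨g, hgC⟩ h3 (R.subgroupOf (Subgroup.centralizer (Q : Set G))) le_top
    (hR.comap_of_injective _ Subtype.val_injective) (by
      rw [Subgroup.mem_centralizer_iff]
      intro y hy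
      apply Subtype.ext
      exact Subgroup.mem_centralizer_iff.1 hgR (y : G) (Subgroup.mem_subgroupOf.1 hy))
  refine ⟨x, hCT x.2, ?_⟩
  intro r hr
  exact Subgroup.mem_subgroupOf.1 (hx ⟨r, hRC hr⟩ (Subgroup.mem_subgroupOf.2 hr))

end blk

end Cfsg.Agent.Lib.CycG10
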