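import Cfsg.Agent.Lib.CycG10

set_option autoImplicit false
set_option linter.all false

/-!
# Blocks with cyclic defect group: the number of simple modules (helper78)
-/

namespace Cfsg.Agent.Lib.CycG11

open Cfsg Cfsg.Agent.Lib.BlockRing Cfsg.Agent.Lib.BlockGA Cfsg.Agent.Lib.BlockAlg
open Cfsg.Agent.Lib.BlkIdem Cfsg.Agent.Lib.PairAlg Cfsg.Agent.Lib.PairMax Cfsg.Agent.Lib.BrauerPairs
open Cfsg.Agent.Lib.CycG2 Cfsg.Agent.Lib.CycG3 Cfsg.Agent.Lib.CycG4 Cfsg.Agent.Lib.CycG5 Cfsg.Agent.Lib.CycG6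
open Cfsg.Agent.Lib.CycG7 Cfsg.Agent.Lib.CycG8 Cfsg.Agent.Lib.CycG9 Cfsg.Agent.Lib.AbCount Cfsg.Agent.Lib.CycG10
open Cfsg.Agent.Lib.BlockIdem Cfsg.Agent.Lib.BrauerMap Cfsg.Agent.Lib.BlkTransport Cfsg.Agent.Lib.PairCount
open Module Cfsg.Agent.Lib.ModRep
open MonoidAlgebra (single)

universe u

section gen

variable {K : Type*} [Field K] {G : Type*} [Group G]

theorem irr_comp {G' : Type*} [Group G'] {V : Type*} [AddCommGroup V] [Module K V] {ρ : G →* Module.End K V}
    (h : Irr ρ) (f : G' →* G) (hf : Function.Surjective f) : Irr (ρ.comp f) := by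
  refine ⟨h.nt, fun W hW => h.irr W ?_⟩
  intro g w hw
  obtain ⟨g', rfl⟩ := hf g
  exact hW g' w hw

end gen

section loc

variable {p : ℕ} [hp : Fact p.Prime] {M : Ideal AlgInt} [hMm : M.IsMaximal] [hchar : CharP (Kf M) p]
  {G : Type u} [Group G] [Finite G] {B : Set (IrrCharacter G)} {P : Subgroup G} {c : MonoidAlgebra (Kf M) G}

theorem CT_le (h : AbMax p B P c) {Q : Subgroup G} (hQ : Q ≤ P) :
    Subgroup.centralizer (Q : Set G) ≤ stab (Subgroup.normalizer (Q : Set G)) (pr p P c Q) :=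
  fun t ht => ⟨centralizer_le_normalizer Q ht, (pr_pair h.pair hQ).2.mem.2 t ht⟩

theorem CT_nrm {Q : Subgroup G} {f : MonoidAlgebra (Kf M) G} :
    ∀ t ∈ stab (Subgroup.normalizer (Q : Set G)) f, ∀ c, c ∈ Subgroup.centralizer (Q : Set G) ↔
      t * c * t⁻¹ ∈ Subgroup.centralizer (Q : Set G) := fun t ht c =>
  Subgroup.mem_normalizer_iff.1 (normalizer_le_normalizer_centralizer Q (stab_le _ _ ht)) c

theorem CT_normal {Q : Subgroup G} {f : MonoidAlgebra (Kf M) G} :
    ((Subgroup.centralizer (Q : Set G)).subgroupOf (stab (Subgroup.normalizer (Q : Set G)) f)).Normal := by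
  constructor
  intro n hn g
  rw [Subgroup.mem_subgroupOf] at hn ⊢
  exact (CT_nrm (g : G) g.2 (n : G)).1 hn

theorem CT_idx (h : AbMax p B P c) (hcyc : IsCyclic P) {Q : Subgroup G} (hQ : Q ≤ P) (hQ1 : Q ≠ ⊥) :
    ¬ p ∣ (Subgroup.centralizer (Q : Set G)).relIndex (stab (Subgroup.normalizer (Q : Set G)) (pr p P c Q)) := by
  rw [h.relIndex_eq hQ (cyclic_normalizes hcyc hQ) (fun t ht htQ => h.cyclic_free hcyc hQ hQ1 ht htQ)]
  exact h.not_dvd_relIndex

theorem inc_b (h : AbMax p B P c) {Q : Subgroup G} (hQ : Q ≤ P) :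
    inc (Subgroup.centralizer (Q : Set G)) (bidG M (bQ p P c Q)) = pr p P c Q :=
  (blkOf_spec (pr_pair h.pair hQ).2).2

theorem exists_loc (hM : IsPModular p M) (h : AbMax p B P c) (hcyc : IsCyclic P) {Q : Subgroup G} (hQ : Q ≤ P)
    (hQ1 : Q ≠ ⊥) :
    ∃ (x : MonoidAlgebra (Kf M) (Subgroup.centralizer (Q : Set G))) (q n : ℕ)
      (σ : Subgroup.centralizer (Q : Set G) →* Module.End (Kf M) (Fin n → Kf M)) (i : MonoidAlgebra (Kf M) G) (N : ℕ)
      (a b : Fin N → MonoidAlgebra (Kf M) G),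
      1 ≤ q ∧ Uni (bidG M (bQ p P c Q)) x q σ ∧
      Loc (Subgroup.centralizer (Q : Set G)) (stab (Subgroup.normalizer (Q : Set G)) (pr p P c Q)) (pr p P c Q)
        (inc (Subgroup.centralizer (Q : Set G)) x) i a b := by
  classical
  haveI : IsAlgClosed (Kf M) := H25BpTw.isAlgClosed_Kf
  set C := Subgroup.centralizer (Q : Set G) with hC
  set f := pr p P c Q with hf
  set T := stab (Subgroup.normalizer (Q : Set G)) f with hT
  have hP1 : P ≠ ⊥ := by
    rintro rfl
    exact hQ1 (le_bot_iff.1 hQ)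
  have hres := h.resQ hQ
  have hPC : P ≤ C := h.P_leQ hQ
  have hcyc' : IsCyclic (P.subgroupOf C) := by
    exact isCyclic_of_surjective (Subgroup.subgroupOfEquivOfLe hPC).symm (Subgroup.subgroupOfEquivOfLe hPC).symm.surjective
  have hP1' : P.subgroupOf C ≠ ⊥ := by
    intro h0
    apply hP1
    rw [Subgroup.eq_bot_iff_forall] at h0 ⊢
    intro x hx
    exact congrArg Subtype.val (h0 ⟨x, hPC hx⟩ (Subgroup.mem_subgroupOf.2 hx))
  obtain ⟨x, q, n, σ, hq, hU⟩ := exists_uni hM hres hcyc' hP1' (by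
    intro t ht
    have h1 := (h.mem_stab_resQ hQ).1 ht
    have h2 := h.cyclic_free hcyc hQ hQ1 h1 t.2
    rw [Subgroup.mem_centralizer_iff]
    intro y hy
    apply Subtype.ext
    exact Subgroup.mem_centralizer_iff.1 h2 (y : G) (Subgroup.mem_subgroupOf.1 hy))
  obtain ⟨i, N, a, b, hii, hfi, hsum, hloc⟩ := hU.structure
  have hinc : inc C (bidG M (bQ p P c Q)) = f := inc_b h hQ
  have hfZ : f ∈ ZAlg (Kf M) C := (pr_pair h.pair hQ).2.mem
  have hxZ : inc C x ∈ ZAlg (Kf M) C := inc_central hU.xc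
  have hf0 : bidG M (bQ p P c Q) ≠ 0 := (isBlk_bidG hres.blk).ne_zero
  refine ⟨x, q, n, σ, inc C i, N, fun r => inc C (a r), fun r => inc C (b r), hq, hU, ?_⟩
  refine ⟨CT_le h hQ, CT_nrm, ?_, hfZ, fun t ht => ht.2, hxZ, ?_, inc_supp i, ?_, ?_, fun r => inc_supp _, fun r => inc_supp _,
    ?_, ?_⟩
  · rw [Ne, CharP.cast_eq_zero_iff (Kf M) p]
    exact CT_idx h hcyc hQ hQ1
  · intro t ht
    have hs : cj t (inc C x) ∈ suppAlg (Kf M) C := by
      intro g hg
      rw [cj_coeff]
      apply hxZ.1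
      intro hcon
      apply hg
      have := (CT_nrm t ht _).1 hcon
      have e1 : t * (t⁻¹ * g * t) * t⁻¹ = g := by group
      rwa [e1] at this
    have hz : inc C (res C (cj t (inc C x))) = cj t (inc C x) := inc_res C hs
    obtain ⟨y, hy⟩ := uni_nilp hU hq hf0 (z := res C (cj t (inc C x))) (by
      intro w
      apply inc_injective (M := M) C
      rw [map_mul, map_mul, hz]
      have h1 : cj t⁻¹ (inc C w) * inc C x = inc C x * cj t⁻¹ (inc C w) := by
        apply comm_of_supp_fix (H := C) _ hxZ.2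
        intro g hg
        rw [cj_coeff]
        apply inc_coeff_not_mem
        intro hcon
        apply hg
        have := (CT_nrm t ht _).2 (by
          have e1 : t⁻¹⁻¹ * g * t⁻¹ = t * g * t⁻¹ := by group
          rw [e1] at hcon
          exact hcon)
        exact this
      have h2 := congrArg (cj t) h1
      rw [map_mul, map_mul, cj_cj_inv] at h2
      exact h2) (by
      apply inc_injective (M := M) C
      rw [map_mul, hz, hinc]
      have h1 : cj t f = f := ht.2
      rw [← h1, ← map_mul, ← hinc, ← map_mul, hU.fx]) (by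
      rw [← isNilpotent_inc_iff, hz]
      refine ⟨q + 1, ?_⟩
      rw [← map_pow, ← map_pow, hU.xm, map_zero, map_zero])
    refine ⟨inc C y, inc_supp y, ?_⟩
    rw [← hz, hy, map_mul]
  · rw [← map_mul, hii]
  · rw [← hinc, ← map_mul, hfi]
  · rw [← hinc, ← hsum, map_sum]
    exact Finset.sum_congr rfl fun r _ => by rw [map_mul, map_mul]
  · intro z hz
    obtain ⟨R, hR⟩ := hloc (res C z)
    refine ⟨R, ?_⟩
    have h1 := congrArg (inc C) hR
    rw [map_mul, map_mul, inc_res C hz, map_mul] at h1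
    rw [h1]
    congr 1
    exact (Polynomial.aeval_algHom_apply (inc C) x R).symm

/-- the quotient is cyclic -/
theorem T_cyclic (h : AbMax p B P c) {Q : Subgroup G} (hQ : Q ≤ P) (hcQ : Nat.card Q = p) {f : MonoidAlgebra (Kf M) G}
    (hn : ((Subgroup.centralizer (Q : Set G)).subgroupOf (stab (Subgroup.normalizer (Q : Set G)) f)).Normal) :
    IsCyclic (↥(stab (Subgroup.normalizer (Q : Set G)) f) ⧸
      (Subgroup.centralizer (Q : Set G)).subgroupOf (stab (Subgroup.normalizer (Q : Set G)) f)) := by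
  classical
  set T := stab (Subgroup.normalizer (Q : Set G)) f with hT
  haveI : Fact (Nat.card Q).Prime := ⟨hcQ ▸ hp.out⟩
  haveI : IsCyclic Q := isCyclic_of_prime_card (p := p) hcQ
  have hAut : IsCyclic (MulAut Q) :=
    isCyclic_of_surjective (IsCyclic.mulAutMulEquiv Q).symm (IsCyclic.mulAutMulEquiv Q).symm.surjective
  let φ : T →* MulAut Q := Q.normalizerMonoidHom.comp (Subgroup.inclusion (stab_le _ _))
  have hker : φ.ker = (Subgroup.centralizer (Q : Set G)).subgroupOf T := by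
    ext t
    rw [MonoidHom.mem_ker, Subgroup.mem_subgroupOf]
    change Q.normalizerMonoidHom (Subgroup.inclusion (stab_le _ _) t) = 1 ↔ _
    rw [← MonoidHom.mem_ker, Subgroup.normalizerMonoidHom_ker, Subgroup.mem_subgroupOf]
    rfl
  have h1 : IsCyclic φ.range := inferInstance
  have h2 := isCyclic_of_surjective (QuotientGroup.quotientKerEquivRange φ).symm
    (QuotientGroup.quotientKerEquivRange φ).symm.surjective
  exact isCyclic_of_surjective (QuotientGroup.quotientMulEquivOfEq hker) (QuotientGroup.quotientMulEquivOfEq hker).surjective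

end loc

end Cfsg.Agent.Lib.CycG11
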