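import Cfsg.Agent.Lib.H76BDim
import Cfsg.Agent.Lib.DefOneGram

/-!
# Complex dimensions of corners of group algebras; the block algebra as a corner
-/

set_option autoImplicit false
set_option linter.all false
set_option synthInstance.maxHeartbeats 400000

namespace Cfsg.Agent.Lib.H76BDim

open Cfsg Cfsg.Agent.Lib.BlockRing Cfsg.Agent.Lib.BlockGA Cfsg.Agent.Lib.BlockIdem
open Cfsg.Agent.Lib.BlockAlg Cfsg.Agent.Lib.CharBasic Cfsg.Agent.Lib.H76Alg
open scoped ComplexConjugate

universe u

section complex

variable {G : Type u} [Group G] [Finite G]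

/-- the standard basis -/
noncomputable def stdB (G : Type u) [Group G] [Finite G] : Module.Basis G ℂ (GA G) := by
  classical
  exact letI := Fintype.ofFinite G
    Module.Basis.ofEquivFun (LinearEquiv.ofBijective (coeffL ℂ G)
      ⟨coeffL_injective ℂ, fun f => ⟨BrauerMap.ofFun f, rfl⟩⟩)

theorem stdB_repr (x : GA G) (g : G) : (stdB G).repr x g = x.coeff g := by
  classical
  letI := Fintype.ofFinite G
  unfold stdB
  rw [Module.Basis.ofEquivFun_repr_apply]
  rfl

theorem stdB_apply (g : G) : stdB G g = MonoidAlgebra.single g 1 := by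
  classical
  apply (stdB G).repr.injective
  ext h
  rw [Module.Basis.repr_self, stdB_repr, MonoidAlgebra.coeff_single]

theorem trace_eq [Fintype G] (T : GA G →ₗ[ℂ] GA G) :
    LinearMap.trace ℂ (GA G) T = ∑ g : G, (T (MonoidAlgebra.single g 1)).coeff g := by
  classical
  rw [LinearMap.trace_eq_matrix_trace ℂ (stdB G), Matrix.trace]
  refine Finset.sum_congr rfl fun g _ => ?_
  rw [Matrix.diag_apply, LinearMap.toMatrix_apply, stdB_repr, stdB_apply]

theorem coeff_mid [Fintype G] [DecidableEq G] (E F : GA G) (g : G) :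
    (E * MonoidAlgebra.single g 1 * F).coeff g =
      ∑ y : G, ∑ z : G, E.coeff y * F.coeff z * (if y * g * z = g then 1 else 0) := by
  conv_lhs => rw [eq_sum_single E, eq_sum_single F]
  rw [Finset.sum_mul, Finset.sum_mul, coeff_finset_sum]
  refine Finset.sum_congr rfl fun y _ => ?_
  rw [Finset.mul_sum, coeff_finset_sum]
  refine Finset.sum_congr rfl fun z _ => ?_
  rw [MonoidAlgebra.single_mul_single, MonoidAlgebra.single_mul_single, MonoidAlgebra.coeff_single,
    Finsupp.single_apply, mul_one]
  split_ifs <;> simp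

theorem card_fix [Fintype G] [DecidableEq G] (y z : G) :
    ∑ g : G, (if y * g * z = g then (1 : ℂ) else 0) =
      ∑ χ : IrrCharacter G, (χ : G → ℂ) y * (χ : G → ℂ) z := by
  have h1 : ∀ χ : IrrCharacter G, (χ : G → ℂ) z = conj ((χ : G → ℂ) z⁻¹) := by
    intro χ
    rw [χ.2.inv, Complex.conj_conj]
  simp only [h1]
  rw [DefOneGram.column_card]
  rw [← Equiv.sum_comp (Equiv.inv G)]
  refine Finset.sum_congr rfl fun g _ => ?_
  have : (y * g⁻¹ * z = g⁻¹) ↔ (g * y * g⁻¹ = z⁻¹) := by
    constructor
    · intro h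
      have : g * (y * g⁻¹ * z) = 1 := by rw [h, mul_inv_cancel]
      rw [eq_inv_iff_mul_eq_one]
      simpa [mul_assoc] using this
    · intro h
      rw [eq_inv_iff_mul_eq_one] at h
      have h2 : g⁻¹ * (g * y * g⁻¹ * z) = g⁻¹ := by rw [h, mul_one]
      simpa [mul_assoc] using h2
  show (if y * g⁻¹ * z = g⁻¹ then (1 : ℂ) else 0) = _
  simp only [this]

/-- **dimension of `e ℂG f`** -/
theorem finrank_PW_complex {E F : GA G} (hE : E * E = E) (hF : F * F = F) :
    (Module.finrank ℂ (PW ℂ E F) : ℂ) = ∑ χ : IrrCharacter G, lin (χ : G → ℂ) E * lin (χ : G → ℂ) F := by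
  classical
  letI := Fintype.ofFinite G
  let T : GA G →ₗ[ℂ] GA G := (LinearMap.mulRight ℂ F) ∘ₗ (LinearMap.mulLeft ℂ E)
  have hT : ∀ x, T x = E * x * F := fun x => rfl
  have hp : LinearMap.IsProj (PW ℂ E F) T := by
    constructor
    · intro x
      rw [hT]
      exact mul_mem_PW hE hF x
    · intro x hx
      rw [hT]
      exact PW_eq hx
  rw [← hp.trace, trace_eq]
  simp only [hT, coeff_mid]
  have h1 : ∀ χ : IrrCharacter G, lin (χ : G → ℂ) E * lin (χ : G → ℂ) F =
      ∑ y : G, ∑ z : G, E.coeff y * F.coeff z * ((χ : G → ℂ) y * (χ : G → ℂ) z) := by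
    intro χ
    rw [lin_apply, lin_apply, Finset.sum_mul_sum]
    refine Finset.sum_congr rfl fun y _ => Finset.sum_congr rfl fun z _ => ?_
    ring
  simp only [h1]
  rw [Finset.sum_comm]
  rw [Finset.sum_comm (s := (Finset.univ : Finset (IrrCharacter G)))]
  refine Finset.sum_congr rfl fun y _ => ?_
  rw [Finset.sum_comm]
  rw [Finset.sum_comm (s := (Finset.univ : Finset (IrrCharacter G)))]
  refine Finset.sum_congr rfl fun z _ => ?_
  rw [← Finset.mul_sum, card_fix, ← Finset.mul_sum]

end complex

section centre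

variable {G : Type u} [Group G] [Finite G]

theorem central_iff {K : Type*} [Field K] {z : MonoidAlgebra K G} :
    (∀ a, a * z = z * a) ↔ ∀ g x : G, z.coeff (x * g * x⁻¹) = z.coeff g := by
  constructor
  · intro h g x
    have h1 := congrArg (fun w : MonoidAlgebra K G => w.coeff (x * g)) (h (MonoidAlgebra.single x 1))
    simp only [MonoidAlgebra.coeff_mul_single_apply, MonoidAlgebra.coeff_single_mul_apply, one_mul,
      mul_one, inv_mul_cancel_left] at h1
    exact h1.symm
  · intro h w
    induction w using MonoidAlgebra.induction_linear with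
    | zero => simp
    | add a b ha hb => rw [add_mul, mul_add, ha, hb]
    | single x a =>
      apply BrauerMap.ext_coeff
      intro g
      rw [MonoidAlgebra.coeff_mul_single_apply, MonoidAlgebra.coeff_single_mul_apply, mul_comm]
      congr 1
      have := h (x⁻¹ * g) x
      rw [← this]
      congr 1
      group

theorem finrank_ZW_one (K : Type*) [Field K] :
    Module.finrank K (ZW K (1 : MonoidAlgebra K G)) = Nat.card (ConjClasses G) := by
  classical
  have := Fintype.ofFinite G
  have := Fintype.ofFinite (ConjClasses G)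
  let F : (ConjClasses G → K) →ₗ[K] ZW K (1 : MonoidAlgebra K G) :=
    { toFun := fun f => ⟨BrauerMap.ofFun (fun g => f (ConjClasses.mk g)), by
        refine ⟨central_iff.mpr fun g x => ?_, one_mul _⟩
        show f (ConjClasses.mk (x * g * x⁻¹)) = f (ConjClasses.mk g)
        congr 1
        exact (ConjClasses.mk_eq_mk_iff_isConj.mpr (isConj_iff.mpr ⟨x, rfl⟩)).symm⟩
      map_add' := fun a b => Subtype.ext (BrauerMap.ext_coeff fun g => rfl)
      map_smul' := fun c a => Subtype.ext (BrauerMap.ext_coeff fun g => rfl) }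
  have hF : Function.Bijective F := by
    constructor
    · intro f f' h
      funext c
      obtain ⟨g, rfl⟩ := ConjClasses.exists_rep c
      have h1 := congrArg Subtype.val h
      exact BrauerMap.coeff_eq_of_eq h1 g
    · intro z
      refine ⟨fun c => (z : MonoidAlgebra K G).coeff c.out, ?_⟩
      apply Subtype.ext
      apply BrauerMap.ext_coeff
      intro g
      show (z : MonoidAlgebra K G).coeff (ConjClasses.mk g).out = (z : MonoidAlgebra K G).coeff g
      have h2 : IsConj g (ConjClasses.mk g).out := by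
        rw [← ConjClasses.mk_eq_mk_iff_isConj]
        exact (Quotient.out_eq (ConjClasses.mk g)).symm
      obtain ⟨x, hx⟩ := isConj_iff.mp h2
      rw [← hx]
      exact central_iff.mp z.2.1 g x
  rw [← (LinearEquiv.ofBijective F hF).finrank_eq, Module.finrank_fintype_fun_eq_card,
    Nat.card_eq_fintype_card]

theorem mem_center_of_ZW {z : GA G} {e : GA G} (h : z ∈ ZW ℂ e) : z ∈ Subalgebra.center ℂ (GA G) :=
  Subalgebra.mem_center_iff.mpr h.1

theorem finrank_ZW_complex_le (B : Set (IrrCharacter G)) :
    Module.finrank ℂ (ZW ℂ (eB B)) ≤ Nat.card B := by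
  classical
  have := Fintype.ofFinite B
  let F : ZW ℂ (eB B) →ₗ[ℂ] (B → ℂ) :=
    { toFun := fun z χ => omega ((χ : IrrCharacter G) : G → ℂ) (z : GA G)
      map_add' := fun a b => funext fun χ => omega_add _ _ _
      map_smul' := fun c a => funext fun χ => omega_smul _ _ _ }
  have hF : Function.Injective F := by
    rw [injective_iff_map_eq_zero]
    intro z hz
    apply Subtype.ext
    apply center_ext (mem_center_of_ZW z.2) (Subalgebra.zero_mem _)
    intro χ
    rw [omega_zero]
    by_cases hχ : χ ∈ B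
    · exact congrFun hz ⟨χ, hχ⟩
    · have h1 : (z : GA G) = eB B * z := z.2.2.symm
      rw [h1, omega_mul χ.2 (eB_mem_center B), omega_eB_not_mem hχ, zero_mul]
  have h1 := LinearMap.finrank_le_finrank_of_injective hF
  rwa [Module.finrank_fintype_fun_eq_card, ← Nat.card_eq_fintype_card] at h1

variable {M : Ideal AlgInt} [hMm : M.IsMaximal]

theorem ZW_le {E : GA G} (hE : LocA M E) (hEE : E * E = E) (hc : E ∈ Subalgebra.center ℂ (GA G)) :
    Module.finrank (Kf M) (ZW (Kf M) (redA M E)) ≤ Module.finrank ℂ (ZW ℂ E) := by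
  haveI := hMm.isPrime
  apply finrank_le (M := M)
  intro u hu
  have hcu : lftA u ∈ Subalgebra.center ℂ (GA G) := lftA_center (fun g h => central_iff.mp hu.1 g h)
  refine ⟨E * lftA u, ⟨?_, ?_⟩, locA_mul hE (locA_lftA u), ?_⟩
  · exact Subalgebra.mem_center_iff.mp (Subalgebra.mul_mem _ hc hcu)
  · rw [← mul_assoc, hEE]
  · rw [redA_mul hE (locA_lftA u), redA_lftA]
    exact hu.2

theorem redA_central {E : GA G} (hc : E ∈ Subalgebra.center ℂ (GA G)) (a : MonoidAlgebra (Kf M) G) :
    a * redA M E = redA M E * a := by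
  refine (central_iff.mpr fun g x => ?_) a
  show red M (E.coeff (x * g * x⁻¹)) = red M (E.coeff g)
  have h1 : E.coeff (x * g * x⁻¹) = E.coeff g := mem_center_iff.mp hc g x
  rw [h1]

/-- **dimension of the centre of a block algebra** -/
theorem finrank_ZW_block {B : Set (IrrCharacter G)} (hB : IsPBlock M B) :
    Module.finrank (Kf M) (ZW (Kf M) (redA M (eB B))) = Nat.card B := by
  classical
  haveI := hMm.isPrime
  have hE := locA_eB hB
  have hEE := eB_mul_self B
  have hc := eB_mem_center B
  have h1 := ZW_le hE hEE hc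
  have h2 := finrank_ZW_complex_le B
  have hE' : LocA M (1 - eB B) := locA_sub locA_one hE
  have hEE' := one_sub_idem hEE
  have hc' : (1 - eB B) ∈ Subalgebra.center ℂ (GA G) :=
    Subalgebra.sub_mem _ (Subalgebra.one_mem _) hc
  have h3 := ZW_le hE' hEE' hc'
  have h4 : 1 - eB B = eB Bᶜ := by
    rw [← eB_univ, ← Set.union_compl_self B, eB_union_of_disjoint disjoint_compl_right]
    abel
  have h5 := finrank_ZW_complex_le Bᶜ
  rw [← h4] at h5
  have h6 := finrank_ZW (K := Kf M) (red_idem hE hEE) (redA_central hc)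
  rw [finrank_ZW_one, ← red_one_sub hE] at h6
  have h7 : Nat.card B + Nat.card (Bᶜ : Set (IrrCharacter G)) = Nat.card (ConjClasses G) := by
    rw [← card_irr (G := G)]
    rw [Nat.card_coe_set_eq, Nat.card_coe_set_eq, Set.ncard_add_ncard_compl]
  omega

end centre

end Cfsg.Agent.Lib.H76BDim
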