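import Cfsg.Agent.Lib.CycG5
import Cfsg.Agent.Lib.CycTI
import Cfsg.Agent.Lib.DefOneRank
import Cfsg.Agent.Lib.H76BDim2
import Cfsg.Agent.Lib.AbCount2
import Cfsg.Agent.Lib.H25BpTw

set_option autoImplicit false
set_option linter.all false

/-!
# Blocks with cyclic defect group and trivial inertial index: the algebra (helper78)
-/

namespace Cfsg.Agent.Lib.CycG6

open Cfsg Cfsg.Agent.Lib.BlockRing Cfsg.Agent.Lib.BlockGA Cfsg.Agent.Lib.BlockAlg
open Cfsg.Agent.Lib.BlockCount (rsp blockRank_eq)
open Cfsg.Agent.Lib.BlockPair (preg)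
open Cfsg.Agent.Lib.BlkIdem Cfsg.Agent.Lib.PairAlg Cfsg.Agent.Lib.PairMax Cfsg.Agent.Lib.BrauerPairs
open Cfsg.Agent.Lib.CycG2 Cfsg.Agent.Lib.CycG5 Cfsg.Agent.Lib.AbCount
open Cfsg.Agent.Lib.BlockIdem
open Cfsg.Agent.Lib (BrauerMap.br BrauerMap.cj BrauerMap.fixAlg BrauerMap.suppAlg BrauerMap.ZAlg)
open Module Cfsg.Agent.Lib.ModRep

universe u

section count

variable {p : ℕ} [hp : Fact p.Prime] {M : Ideal AlgInt} [hMm : M.IsMaximal] [hchar : CharP (Kf M) p]
  {G : Type u} [Group G] [Finite G]

theorem resFun_eq_red {z : ℂ} (hz : MemLocalRing M z) : DefOneRes.resFun M (mkK M) z = red M z := by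
  have := hMm.isPrime
  obtain ⟨a, b, hb, rfl⟩ := hz
  rw [red_div hb, DefOneRes.resFun_eq (mkK M) (fun a => mkK_eq_zero_iff) hb rfl, div_eq_mul_inv]

theorem opr_eq_op [Fintype G] {V : Type*} [AddCommGroup V] [Module (Kf M) V] (ρ : G →* Module.End (Kf M) V)
    {z : GA G} (hz : LocA M z) : DefOneRes.opr M (mkK M) ρ z = op ρ (redA M z) := by
  apply LinearMap.ext
  intro v
  rw [DefOneRes.opr_apply, op_apply]
  refine Finset.sum_congr rfl fun g _ => ?_
  rw [resFun_eq_red (hz g)]
  rfl

/-- the number of simple modules of a block is at most the rank of the block -/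
theorem card_simple_le (hM : IsPModular p M) {B : Set (IrrCharacter G)} (hB : IsPBlock M B) {ι : Type} [Fintype ι]
    {n : ι → ℕ} (ρ : ∀ i, G →* Module.End (Kf M) (Fin (n i) → Kf M)) (hρ : ∀ i, Irr (ρ i))
    (hne : ∀ i j, i ≠ j → ∀ f : (Fin (n i) → Kf M) →ₗ[Kf M] (Fin (n j) → Kf M),
      (∀ g x, f (ρ i g x) = ρ j g (f x)) → f = 0)
    (hBρ : ∀ i, op (ρ i) (bidG M B) = 1) : Fintype.card ι ≤ blockRank p B := by
  classical
  have := hMm.isPrime
  have := Fintype.ofFinite G
  have := Fintype.ofFinite B
  haveI : IsAlgClosed (Kf M) := H25BpTw.isAlgClosed_Kf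
  let Φ : (B → ℂ) →ₗ[ℂ] (G → ℂ) :=
    { toFun := fun c g => ∑ χ : B, c χ * preg p ((χ : IrrCharacter G) : G → ℂ) g
      map_add' := fun c d => by
        funext g
        rw [Pi.add_apply, ← Finset.sum_add_distrib]
        exact Finset.sum_congr rfl fun χ _ => by rw [Pi.add_apply, add_mul]
      map_smul' := fun c d => by
        funext g
        rw [Pi.smul_apply, RingHom.id_apply, smul_eq_mul, Finset.mul_sum]
        exact Finset.sum_congr rfl fun χ _ => by rw [Pi.smul_apply, smul_eq_mul, mul_assoc] }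
  have hΦ : ∀ c g, Φ c g = ∑ χ : B, c χ * preg p ((χ : IrrCharacter G) : G → ℂ) g := fun c g => rfl
  have hrange : LinearMap.range Φ = rsp p B := by
    apply le_antisymm
    · rintro _ ⟨c, rfl⟩
      have h1 : Φ c = ∑ χ : B, c χ • preg p ((χ : IrrCharacter G) : G → ℂ) := by
        funext g
        rw [hΦ, Finset.sum_apply]
        rfl
      rw [h1]
      apply Submodule.sum_mem
      intro χ _
      apply Submodule.smul_mem
      exact Submodule.subset_span ⟨χ, χ.2, rfl⟩
    · rw [rsp, Submodule.span_le]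
      rintro _ ⟨χ, hχ, rfl⟩
      refine ⟨Pi.single ⟨χ, hχ⟩ 1, ?_⟩
      funext g
      rw [hΦ, Finset.sum_eq_single (⟨χ, hχ⟩ : B)]
      · rw [Pi.single_eq_same, one_mul]
      · intro ψ _ hψ
        rw [Pi.single_eq_of_ne hψ, zero_mul]
      · intro h; exact absurd (Finset.mem_univ _) h
  let b := Module.finBasis ℂ (LinearMap.ker Φ)
  have hb : LinearIndependent ℂ (fun i => ((b i : LinearMap.ker Φ) : B → ℂ)) :=
    b.linearIndependent.map' (LinearMap.ker Φ).subtype (Submodule.ker_subtype _)
  have h1 := DefOneRank.rank_bound (mkK M) (p := p) hM (fun a => mkK_eq_zero_iff) mkK_surjective (B := B)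
    (locA_eB hB) ρ hρ hne (fun i => by rw [opr_eq_op _ (locA_eB hB)]; exact hBρ i)
    (fun i => ((b i : LinearMap.ker Φ) : B → ℂ)) hb (by
      intro i g hg
      have h2 := congrFun (LinearMap.mem_ker.1 (b i).2) g
      rw [hΦ] at h2
      rw [Pi.zero_apply] at h2
      rw [← h2]
      refine Finset.sum_congr rfl fun χ _ => ?_
      rw [preg, if_neg hg])
  rw [Fintype.card_fin] at h1
  have h3 := LinearMap.finrank_range_add_finrank_ker Φ
  rw [Module.finrank_fintype_fun_eq_card, hrange, ← blockRank_eq, ← Nat.card_eq_fintype_card] at h3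
  omega

/-- a central idempotent acts as `0` or `1` on an irreducible representation -/
theorem op_idem {K : Type*} [Field K] [IsAlgClosed K] {V : Type*} [AddCommGroup V] [Module K V] [FiniteDimensional K V]
    {ρ : G →* Module.End K V} (hρ : Irr ρ) {f : MonoidAlgebra K G} (hff : f * f = f) (hfc : ∀ z, z * f = f * z) :
    op ρ f = 0 ∨ op ρ f = 1 := by
  obtain ⟨c, hc⟩ := schur hρ (op ρ f) (by
    intro g
    have h1 := hfc (MonoidAlgebra.single g 1)
    have h2 := congrArg (op ρ) h1
    rw [map_mul, map_mul, op_single, one_smul] at h2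
    exact h2.symm)
  have h1 : op ρ f * op ρ f = op ρ f := by rw [← map_mul, hff]
  have := hρ.nt
  rw [hc, smul_mul_smul_comm, one_mul] at h1
  have h2 : c * c = c := smul_left_injective K (one_ne_zero (α := Module.End K V)) h1
  by_cases h3 : c = 0
  · left; rw [hc, h3, zero_smul]
  · right
    have h4 : c = 1 := mul_left_cancel₀ h3 (by rw [h2, mul_one])
    rw [hc, h4, one_smul]

theorem exists_irr_of_block {K : Type*} [Field K] [IsAlgClosed K] {f : MonoidAlgebra K G} (hff : f * f = f)
    (hfc : ∀ z, z * f = f * z) (hf0 : f ≠ 0) :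
    ∃ (n : ℕ) (σ : G →* Module.End K (Fin n → K)), Irr σ ∧ op σ f = 1 := by
  by_contra hcon
  push Not at hcon
  have h1 : ∀ a ∈ Submodule.span K {f}, ∀ (n : ℕ) (τ : G →* Module.End K (Fin n → K)), Irr τ → op τ a = 0 := by
    intro a ha n τ hτ
    obtain ⟨c, rfl⟩ := Submodule.mem_span_singleton.1 ha
    rcases op_idem hτ hff hfc with h | h
    · rw [map_smul, h, smul_zero]
    · exact absurd h (hcon n τ hτ)
  obtain ⟨n, hn⟩ := nil_pow h1
  have h2 : f ^ n ∈ (Submodule.span K {f}) ^ n := Submodule.pow_mem_pow _ (Submodule.mem_span_singleton_self f) n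
  rw [hn, Submodule.mem_bot] at h2
  exact hf0 (idem_nilpotent_eq_zero hff ⟨n, h2⟩)

/-- transport of the action of an element along a homomorphism of irreducible representations -/
theorem op_hom {K : Type*} [Field K] {V W : Type*} [AddCommGroup V] [Module K V] [AddCommGroup W] [Module K W]
    (ρ : G →* Module.End K V) (τ : G →* Module.End K W) {f : V →ₗ[K] W} (hf : ∀ g x, f (ρ g x) = τ g (f x))
    (a : MonoidAlgebra K G) (v : V) : f (op ρ a v) = op τ a (f v) := by
  classical
  have := Fintype.ofFinite G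
  rw [op_apply, op_apply, map_sum]
  exact Finset.sum_congr rfl fun g _ => by rw [map_smul, hf]

theorem simple_unique (hM : IsPModular p M) {B : Set (IrrCharacter G)} (hB : IsPBlock M B) (hl : blockRank p B = 1)
    {n : ℕ} {σ : G →* Module.End (Kf M) (Fin n → Kf M)} (hσ : Irr σ) (hσB : op σ (bidG M B) = 1)
    {n' : ℕ} {τ : G →* Module.End (Kf M) (Fin n' → Kf M)} (hτ : Irr τ) (hτB : op τ (bidG M B) = 1) :
    ∃ f : (Fin n → Kf M) →ₗ[Kf M] (Fin n' → Kf M), (∀ g x, f (σ g x) = τ g (f x)) ∧ Function.Bijective f := by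
  classical
  by_contra hcon
  have hno : ∀ f : (Fin n → Kf M) →ₗ[Kf M] (Fin n' → Kf M), (∀ g x, f (σ g x) = τ g (f x)) → f = 0 := by
    intro f hf
    by_contra h0
    exact hcon ⟨f, hf, DefOneTrace.inter_bij hσ hτ hf h0⟩
  have hno' : ∀ f : (Fin n' → Kf M) →ₗ[Kf M] (Fin n → Kf M), (∀ g x, f (τ g x) = σ g (f x)) → f = 0 := by
    intro f hf
    by_contra h0
    have hbij := DefOneTrace.inter_bij hτ hσ hf h0
    let e := LinearEquiv.ofBijective f hbij
    refine hcon ⟨e.symm.toLinearMap, ?_, e.symm.bijective⟩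
    intro g x
    obtain ⟨y, rfl⟩ := e.surjective x
    change e.symm (σ g (f y)) = τ g (e.symm (e y))
    rw [← hf, e.symm_apply_apply]
    exact e.symm_apply_apply _
  let nn : Bool → ℕ := fun b => if b then n else n'
  let ρ : ∀ b : Bool, G →* Module.End (Kf M) (Fin (nn b) → Kf M) := fun b => match b with
    | true => σ
    | false => τ
  have h1 := card_simple_le (p := p) hM hB (ι := Bool) (n := nn) ρ (by
    intro b
    cases b
    · exact hτ
    · exact hσ) (by
    intro i j hij f hf
    cases i <;> cases j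
    · exact absurd rfl hij
    · exact hno' f hf
    · exact hno f hf
    · exact absurd rfl hij) (by
    intro b
    cases b
    · exact hτB
    · exact hσB)
  rw [hl, Fintype.card_bool] at h1
  omega

end count

section nilop

/-- nilpotent operators with maximal nilpotency index -/
theorem nilop {K : Type*} [Field K] {V : Type*} [AddCommGroup V] [Module K V] [FiniteDimensional K V]
    (L : Module.End K V) (hn : IsNilpotent L) {q : ℕ} (hq : finrank K V = q + 1) (hL : L ^ q ≠ 0) :
    L ^ (q + 1) = 0 ∧ ∀ v, L v = 0 → ∀ u, (L ^ q) u ≠ 0 → ∃ c : K, v = c • (L ^ q) u := by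
  classical
  let d : ℕ → ℕ := fun k => finrank K (LinearMap.range (L ^ k))
  have hanti : ∀ k, LinearMap.range (L ^ (k + 1)) ≤ LinearMap.range (L ^ k) := by
    rintro k _ ⟨w, rfl⟩
    rw [pow_succ, Module.End.mul_apply]
    exact ⟨_, rfl⟩
  have hstrict : ∀ k, LinearMap.range (L ^ k) ≠ ⊥ → d (k + 1) < d k := by
    intro k hk
    apply Submodule.finrank_lt_finrank_of_lt
    refine lt_of_le_of_ne (hanti k) ?_
    intro heq
    apply hk
    have h1 : ∀ j, LinearMap.range (L ^ (k + j)) = LinearMap.range (L ^ k) := by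
      intro j
      induction j with
      | zero => rfl
      | succ j ih =>
        have h2 : LinearMap.range (L ^ (k + (j + 1))) = (LinearMap.range (L ^ (k + j))).map L := by
          rw [← add_assoc, pow_succ']
          exact LinearMap.range_comp _ _
        have h3 : LinearMap.range (L ^ (k + 1)) = (LinearMap.range (L ^ k)).map L := by
          rw [pow_succ']
          exact LinearMap.range_comp _ _
        rw [h2, ih, ← h3, heq]
    obtain ⟨n, hn⟩ := hn
    rw [← h1 n, pow_add, hn, mul_zero, LinearMap.range_zero]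
  have hne : ∀ k, LinearMap.range (L ^ k) ≠ ⊥ ↔ 0 < d k := by
    intro k
    rw [Nat.pos_iff_ne_zero, not_iff_not]
    change _ ↔ finrank K (LinearMap.range (L ^ k)) = 0
    rw [Submodule.finrank_eq_zero]
  have hd0 : d 0 = q + 1 := by
    change finrank K (LinearMap.range (L ^ 0)) = _
    rw [pow_zero, ← hq]
    have : LinearMap.range (1 : Module.End K V) = ⊤ := LinearMap.range_id
    rw [this, finrank_top]
  have hup : ∀ k, d k ≤ q + 1 - k := by
    intro k
    induction k with
    | zero => rw [hd0]; omega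
    | succ k ih =>
      by_cases h : 0 < d k
      · have := hstrict k ((hne k).2 h)
        omega
      · have h2 : d (k + 1) ≤ d k := Submodule.finrank_mono (hanti k)
        omega
  have hdq : 0 < d q := by
    rw [← hne]
    intro h
    exact hL (LinearMap.range_eq_bot.1 h)
  have hdq1 : d q = 1 := by
    have := hup q
    omega
  have hdlow : ∀ k ≤ q, q + 1 - k ≤ d k := by
    intro k hk
    induction hk using Nat.decreasingInduction with
    | self => rw [hdq1]; omega
    | of_succ k hk ih =>
      have h1 : 0 < d k := by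
        by_contra h0
        have h2 : d (k + 1) ≤ d k := Submodule.finrank_mono (hanti k)
        omega
      have := hstrict k ((hne k).2 h1)
      omega
  constructor
  · have h1 : d (q + 1) = 0 := by
      have := hup (q + 1)
      omega
    exact LinearMap.range_eq_bot.1 (Submodule.finrank_eq_zero.1 h1)
  · intro v hv u hu
    have hker : finrank K (LinearMap.ker L) ≤ 1 := by
      have h1 := LinearMap.finrank_range_add_finrank_ker L
      rw [hq] at h1
      rcases Nat.eq_zero_or_pos q with h0 | h0
      · omega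
      · have h2 := hdlow 1 h0
        have h3 : d 1 = finrank K (LinearMap.range L) := by
          change finrank K (LinearMap.range (L ^ 1)) = _
          rw [pow_one]
        omega
    have hmem : (L ^ q) u ∈ LinearMap.ker L := by
      rw [LinearMap.mem_ker, ← Module.End.mul_apply, ← pow_succ']
      have h1 : d (q + 1) = 0 := by
        have := hup (q + 1)
        omega
      rw [LinearMap.range_eq_bot.1 (Submodule.finrank_eq_zero.1 h1)]; rfl
    have hpos : finrank K (LinearMap.ker L) = 1 := by
      apply le_antisymm hker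
      rw [Nat.one_le_iff_ne_zero]
      intro h0
      have h1 := Submodule.finrank_eq_zero.1 h0
      rw [h1, Submodule.mem_bot] at hmem
      exact hu hmem
    have h2 := (finrank_eq_one_iff_of_nonzero' (⟨_, hmem⟩ : LinearMap.ker L) (by
      intro h
      exact hu (congrArg Subtype.val h))).1 hpos ⟨v, LinearMap.mem_ker.2 hv⟩
    obtain ⟨c, hc⟩ := h2
    exact ⟨c, (congrArg Subtype.val hc).symm⟩

end nilop

end Cfsg.Agent.Lib.CycG6
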