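import Cfsg.Agent.Lib.CycG6

set_option autoImplicit false
set_option linter.all false

/-!
# Blocks with cyclic defect group and trivial inertial index: the central element (helper78)
-/

namespace Cfsg.Agent.Lib.CycG7

open Cfsg Cfsg.Agent.Lib.BlockRing Cfsg.Agent.Lib.BlockGA Cfsg.Agent.Lib.BlockAlg
open Cfsg.Agent.Lib.BlkIdem Cfsg.Agent.Lib.PairAlg Cfsg.Agent.Lib.PairMax Cfsg.Agent.Lib.BrauerPairs
open Cfsg.Agent.Lib.CycG2 Cfsg.Agent.Lib.CycG5 Cfsg.Agent.Lib.CycG6 Cfsg.Agent.Lib.AbCount
open Cfsg.Agent.Lib.BlockIdem Cfsg.Agent.Lib.BrauerMap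
open Module Cfsg.Agent.Lib.ModRep
open MonoidAlgebra (single)

universe u

section free

variable {K : Type*} [Field K] {G : Type*} [Group G] [Finite G]

/-- an element fixed by left multiplication with `v` is a multiple of the sum of the powers of `v` -/
theorem exists_sum_mul (v : G) {y : MonoidAlgebra K G} (hy : single v 1 * y = y) :
    ∃ z, y = (∑ j ∈ Finset.range (orderOf v), (single v 1 : MonoidAlgebra K G) ^ j) * z := by
  classical
  have := Fintype.ofFinite G
  -- orbits
  let st : Setoid G :=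
    { r := fun a b => ∃ w ∈ Subgroup.zpowers v, b = w * a
      iseqv :=
        { refl := fun a => ⟨1, one_mem _, (one_mul a).symm⟩
          symm := by
            rintro a b ⟨x, hx, rfl⟩
            exact ⟨x⁻¹, inv_mem hx, by group⟩
          trans := by
            rintro a b c ⟨x, hx, rfl⟩ ⟨y, hy, rfl⟩
            exact ⟨y * x, mul_mem hy hx, by group⟩ } }
  let rep : G → G := fun g => (Quotient.mk st g).out
  have hrep : ∀ g, ∃ w ∈ Subgroup.zpowers v, rep g = w * g := by
    intro g
    have h1 : st.r (rep g) g := Quotient.mk_out (s := st) g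
    exact st.iseqv.symm h1
  have hrep2 : ∀ g, ∀ w ∈ Subgroup.zpowers v, rep (w * g) = rep g := by
    intro g w hw
    have : Quotient.mk st (w * g) = Quotient.mk st g :=
      (Quotient.sound (s := st) (show st.r g (w * g) from ⟨w, hw, rfl⟩)).symm
    show (Quotient.mk st (w * g)).out = _
    rw [this]
  have hy1 : ∀ g, y.coeff (v⁻¹ * g) = y.coeff g := by
    intro g
    have h1 := coeff_eq_of_eq hy g
    rw [MonoidAlgebra.coeff_single_mul_apply, one_mul] at h1
    exact h1
  have hy1' : ∀ g, y.coeff (v * g) = y.coeff g := by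
    intro g
    have := hy1 (v * g)
    rwa [inv_mul_cancel_left, eq_comm] at this
  have hy2 : ∀ (j : ℕ) g, y.coeff (v ^ j * g) = y.coeff g := by
    intro j
    induction j with
    | zero => intro g; rw [pow_zero, one_mul]
    | succ j ih => intro g; rw [pow_succ', mul_assoc, hy1', ih]
  have hy3 : ∀ w ∈ Subgroup.zpowers v, ∀ g, y.coeff (w * g) = y.coeff g := by
    intro w hw g
    rw [← mem_powers_iff_mem_zpowers] at hw
    obtain ⟨j, rfl⟩ := hw
    exact hy2 j g
  let z : MonoidAlgebra K G := ofFun (fun g => if rep g = g then y.coeff g else 0)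
  have hz : ∀ g, z.coeff g = if rep g = g then y.coeff g else 0 := fun g => rfl
  refine ⟨z, ?_⟩
  apply ext_coeff
  intro g
  have h1 : ∀ j : ℕ, (single v 1 : MonoidAlgebra K G) ^ j = single (v ^ j) 1 := by
    intro j
    rw [MonoidAlgebra.single_pow, one_pow]
  simp only [h1]
  rw [Finset.sum_mul, sum_coeff]
  have h2 : ∀ j, ((single (v ^ j) 1 : MonoidAlgebra K G) * z).coeff g = z.coeff ((v ^ j)⁻¹ * g) := by
    intro j
    rw [MonoidAlgebra.coeff_single_mul_apply, one_mul]
  rw [Finset.sum_congr rfl (fun j _ => h2 j)]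
  obtain ⟨w, hw, hwg⟩ := hrep g
  have hw' : w⁻¹ ∈ Subgroup.zpowers v := inv_mem hw
  rw [← mem_powers_iff_mem_zpowers] at hw'
  obtain ⟨j0, hj0⟩ := hw'
  have hj0' : v ^ j0 = w⁻¹ := hj0
  set j1 := j0 % orderOf v with hj1
  have hj1' : v ^ j1 = w⁻¹ := by rw [hj1, pow_mod_orderOf, hj0']
  have hj1r : j1 ∈ Finset.range (orderOf v) := Finset.mem_range.2 (Nat.mod_lt _ (orderOf_pos v))
  rw [Finset.sum_eq_single j1]
  · rw [hj1', inv_inv, ← hwg, hz]
    have h3 : rep (rep g) = rep g := by rw [hwg, hrep2 _ _ hw]; exact hwg.symm ▸ rfl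
    rw [if_pos h3, hwg, hy3 w hw]
  · intro j hj hne
    rw [hz, if_neg]
    intro h3
    apply hne
    have h4 : (v ^ j)⁻¹ ∈ Subgroup.zpowers v := inv_mem (Subgroup.npow_mem_zpowers v j)
    rw [hrep2 _ _ h4, hwg] at h3
    have h5 : w = (v ^ j)⁻¹ := mul_right_cancel h3
    have h6 : v ^ j = v ^ j1 := by rw [hj1', h5, inv_inv]
    exact pow_injOn_Iio_orderOf (Finset.mem_range.1 hj) (Finset.mem_range.1 hj1r) h6
  · intro h; exact absurd hj1r h

/-- a nonzero idempotent commuting with `v` of prime power order is not killed by the sum of the powers of `v` -/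
theorem sum_mul_ne_zero {p : ℕ} [Fact p.Prime] [CharP K p] {n : ℕ} (v : G) (hv : v ^ p ^ n = 1) {c : MonoidAlgebra K G}
    (hcc : c * c = c) (hc0 : c ≠ 0) (hcv : single v 1 * c = c * single v 1) :
    (∑ j ∈ Finset.range (orderOf v), (single v 1 : MonoidAlgebra K G) ^ j) * c ≠ 0 := by
  classical
  intro h0
  set S := ∑ j ∈ Finset.range (orderOf v), (single v 1 : MonoidAlgebra K G) ^ j with hS
  set s : MonoidAlgebra K G := single v 1 with hs
  -- the largest power of `s - 1` not killing `c`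
  have hnil : (s - 1) ^ (p ^ n) = 0 := by
    have h1 : CharP (MonoidAlgebra K G) p :=
      charP_of_injective_algebraMap (FaithfulSMul.algebraMap_injective K (MonoidAlgebra K G)) p
    rw [sub_pow_char_pow_of_commute (p := p) n (Commute.one_right s), one_pow, hs, MonoidAlgebra.single_pow, hv, one_pow]
    exact sub_self _
  have hex : ∃ k : ℕ, (s - 1) ^ k * c = 0 := ⟨_, by rw [hnil, zero_mul]⟩
  have hk0 : Nat.find hex ≠ 0 := by
    intro h
    have := Nat.find_spec hex
    rw [h, pow_zero, one_mul] at this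
    exact hc0 this
  obtain ⟨k, hk⟩ := Nat.exists_eq_succ_of_ne_zero hk0
  have hy0 : (s - 1) ^ k * c ≠ 0 := Nat.find_min hex (by rw [hk]; exact Nat.lt_succ_self k)
  have hy1 : (s - 1) ^ (k + 1) * c = 0 := by
    have := Nat.find_spec hex
    rwa [hk] at this
  set y := (s - 1) ^ k * c with hy
  have hsy : s * y = y := by
    have h1 : (s - 1) * y = 0 := by rw [hy, ← mul_assoc, ← pow_succ', hy1]
    rw [sub_mul, one_mul, sub_eq_zero] at h1
    exact h1
  obtain ⟨z, hz⟩ := exists_sum_mul v hsy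
  have hcs : Commute c s := hcv.symm
  have hcS : Commute c S := by
    rw [hS]
    apply Commute.sum_right
    intro j _
    exact hcs.pow_right j
  have hcy : c * y = y := by
    have h1 : Commute c ((s - 1) ^ k) := (hcs.sub_right (Commute.one_right c)).pow_right k
    rw [hy, ← mul_assoc, h1.eq, mul_assoc, hcc]
  apply hy0
  rw [← hcy, hz, ← mul_assoc, hcS.eq, h0, zero_mul]

end free

section elt

variable {p : ℕ} [hp : Fact p.Prime] {M : Ideal AlgInt} [hMm : M.IsMaximal] [hchar : CharP (Kf M) p]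
  {G : Type u} [Group G] [Finite G] {B : Set (IrrCharacter G)} {P : Subgroup G} {c : MonoidAlgebra (Kf M) G}

omit hp hMm hchar in
theorem tr_supp {k : Type*} [Field k] {P H N : Subgroup G} (hN : N ≤ Subgroup.normalizer (P : Set G))
    {w : MonoidAlgebra k G} (hw : w ∈ suppAlg k (Subgroup.centralizer (P : Set G))) :
    tr H N w ∈ suppAlg k (Subgroup.centralizer (P : Set G)) := by
  classical
  have := Fintype.ofFinite (N ⧸ H.subgroupOf N)
  unfold tr
  rw [finsum_eq_sum_of_fintype]
  apply sum_mem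
  intro c _ g hg
  rw [cj_coeff]
  apply hw
  intro h
  exact hg ((mem_centralizer_conj (hN c.out.2) g).mpr h)

/-- central elements with prescribed Brauer image -/
theorem exists_central (h : AbMax p B P c)
    (hst : ∀ t ∈ stab (Subgroup.normalizer (P : Set G)) c, t ∈ Subgroup.centralizer (P : Set G)) {v : G} (hv : v ∈ P) :
    ∃ z ∈ ZAlg (Kf M) (⊤ : Subgroup G), c * br P z = single v 1 * c := by
  classical
  set Nn := Subgroup.normalizer (P : Set G) with hNn
  have hcC : c ∈ suppAlg (Kf M) (Subgroup.centralizer (P : Set G)) := h.pair.2.mem.1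
  have hvc : v ∈ Subgroup.centralizer (P : Set G) := h.ab hv
  have hvs : (single v 1 : MonoidAlgebra (Kf M) G) ∈ suppAlg (Kf M) (Subgroup.centralizer (P : Set G)) := by
    intro g hg
    have : v ≠ g := by rintro rfl; exact hg hvc
    simp [this]
  have hcjv : ∀ t, t ∈ Subgroup.centralizer (P : Set G) → cj t (single v (1 : Kf M)) = single v 1 := by
    intro t ht
    apply ext_coeff
    intro g
    rw [cj_coeff]
    have h1 : t * v * t⁻¹ = v := by
      rw [Subgroup.mem_centralizer_iff] at ht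
      rw [← ht v hv]; group
    by_cases hg : g = v
    · subst hg
      have : t⁻¹ * g * t = g := by
        calc t⁻¹ * g * t = t⁻¹ * (t * g * t⁻¹) * t := by rw [h1]
          _ = g := by group
      rw [this]
    · have h2 : t⁻¹ * g * t ≠ v := by
        intro h3
        apply hg
        rw [← h1, ← h3]; group
      simp [Ne.symm hg, Ne.symm h2]
  have hvf : (single v 1 : MonoidAlgebra (Kf M) G) ∈ fixAlg (Kf M) (stab Nn c) := fun t ht => hcjv t (hst t ht)
  have hcv : c * single v 1 = single v 1 * c := (comm_of_supp_fix hvs h.pair.2.mem.2).symm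
  set w := c * single v 1 with hw
  have hwf : w ∈ fixAlg (Kf M) (stab Nn c) := mul_mem (mem_fixAlg_stab Nn c) hvf
  have hd : DefIn p (stab Nn c) P w :=
    (h.max.defIn_stab hasBlocks h.pair le_rfl).mul (mem_fixAlg_stab Nn c) hvf
  have hW1 : tr (stab Nn c) Nn w ∈ fixAlg (Kf M) Nn := tr_mem_fixAlg hwf
  have hW2 : DefIn p Nn P (tr (stab Nn c) Nn w) := tr_defIn (stab_le Nn c) hwf hd
  have hW3 : tr (stab Nn c) Nn w ∈ suppAlg (Kf M) (Subgroup.centralizer (P : Set G)) :=
    tr_supp le_rfl (mul_mem hcC hvs)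
  have hz : tr Nn ⊤ (tr (stab Nn c) Nn w) ∈ fixAlg (Kf M) (⊤ : Subgroup G) := tr_mem_fixAlg hW1
  refine ⟨tr Nn ⊤ (tr (stab Nn c) Nn w), ⟨mem_suppAlg_top _, hz⟩, ?_⟩
  rw [br_tr h.pair.1 hW1 hW3 hW2]
  have := Fintype.ofFinite (Nn ⧸ (stab Nn c).subgroupOf Nn)
  rw [H25BpTr.tr_eq_sum, Finset.mul_sum, Finset.sum_eq_single (QuotientGroup.mk (1 : Nn))]
  · rw [cj_out hwf]
    change c * cj (1 : G) w = _
    rw [cj_one, hw, ← mul_assoc, h.pair.2.idem, ← hw, hcv]
  · intro q _ hq
    rw [hw, map_mul, ← mul_assoc]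
    have h1 : c * cj ((q.out : Nn) : G) c = 0 := by
      apply h.pair.2.orth (isBlk_cj_of_normalizer (q.out.2) h.pair.2)
      intro heq
      apply hq
      rw [← QuotientGroup.out_eq' q]
      apply QuotientGroup.eq.mpr
      rw [Subgroup.mem_subgroupOf]
      refine ⟨mul_mem (inv_mem q.out.2) (one_mem _), ?_⟩
      change cj (((q.out : Nn) : G)⁻¹ * 1) c = c
      rw [mul_one]
      exact (congrArg (cj (((q.out : Nn) : G)⁻¹)) heq).trans (cj_inv_cj _ _)
    rw [h1, zero_mul]
  · intro h; exact absurd (Finset.mem_univ _) h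

/-- **The central element.** -/
theorem exists_x (hM : IsPModular p M) (h : AbMax p B P c)
    (hst : ∀ t ∈ stab (Subgroup.normalizer (P : Set G)) c, t ∈ Subgroup.centralizer (P : Set G)) {v : G} (hv : v ∈ P)
    (hgen : Subgroup.zpowers v = P) {q : ℕ} (hq : Nat.card P = q + 1) (hq1 : 1 ≤ q) (hB : Nat.card B = q + 1) :
    ∃ x : MonoidAlgebra (Kf M) G, (∀ z, z * x = x * z) ∧ bidG M B * x = x ∧ x ^ (q + 1) = 0 ∧
      ∀ z, (∀ w, w * z = z * w) → bidG M B * z = z → x * z = 0 → ∃ c : Kf M, z = c • x ^ q := by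
  classical
  have hMp := hMm.isPrime
  have := Fintype.ofFinite G
  obtain ⟨x0, hx0, hx0c⟩ := exists_central h hst hv
  set f := bidG M B with hf
  have hblk : IsBlk ⊤ f := isBlk_bidG h.blk
  have hff : f * f = f := hblk.idem
  have hcen : ∀ z ∈ ZAlg (Kf M) (⊤ : Subgroup G), ∀ w, w * z = z * w := fun z hz w =>
    comm_of_supp_fix (mem_suppAlg_top w) hz.2
  have hPp : IsPGroup p P := h.pair.1
  obtain ⟨n, hn⟩ : ∃ n : ℕ, Nat.card P = p ^ n := hPp.exists_card_eq
  have hord : orderOf v = p ^ n := by rw [← Nat.card_zpowers, hgen, hn]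
  have hvn : v ^ p ^ n = 1 := by rw [← hord, pow_orderOf_eq_one]
  set s : MonoidAlgebra (Kf M) G := single v 1 with hs
  have hcc : c * c = c := h.pair.2.idem
  have hvs : s ∈ suppAlg (Kf M) (Subgroup.centralizer (P : Set G)) := by
    intro g hg
    have : v ≠ g := by rintro rfl; exact hg (h.ab hv)
    rw [hs]
    simp [this]
  have hcs : s * c = c * s := comm_of_supp_fix hvs h.pair.2.mem.2
  -- the algebra map
  have hbrc : ∀ z, br P z * c = c * br P z := fun z => comm_of_supp_fix (br_mem_suppAlg P z) h.pair.2.mem.2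
  have hmul : ∀ z ∈ ZAlg (Kf M) (⊤ : Subgroup G), ∀ w ∈ ZAlg (Kf M) (⊤ : Subgroup G),
      c * br P (z * w) = (c * br P z) * (c * br P w) := by
    intro z hz w hw
    rw [BrauerMap.br_mul (p := p) hPp (fixAlg_anti le_top hz.2) (fixAlg_anti le_top hw.2)]
    calc c * (br P z * br P w) = (c * c) * (br P z * br P w) := by rw [hcc]
      _ = c * (c * br P z) * br P w := by noncomm_ring
      _ = c * (br P z * c) * br P w := by rw [hbrc]
      _ = _ := by noncomm_ring
  have hpow : ∀ z ∈ ZAlg (Kf M) (⊤ : Subgroup G), ∀ k : ℕ, c * br P (z ^ (k + 1)) = (c * br P z) ^ (k + 1) := by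
    intro z hz k
    induction k with
    | zero => rw [zero_add, pow_one, pow_one]
    | succ k ih =>
      rw [pow_succ z, hmul _ (pow_mem hz _) _ hz, ih]
      exact (pow_succ _ _).symm
  have hcf : c * br P f = c := by rw [← hbrc]; exact h.br
  -- the shifted generator
  set y := s * c - c with hy
  have hynil : y ^ (p ^ n) = 0 := by
    have h1 : y = (s - 1) * c := by rw [hy, sub_mul, one_mul]
    have h2 : Commute (s - 1) c := by
      change (s - 1) * c = c * (s - 1)
      rw [sub_mul, mul_sub, hcs, one_mul, mul_one]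
    have h3 : CharP (MonoidAlgebra (Kf M) G) p :=
      charP_of_injective_algebraMap (FaithfulSMul.algebraMap_injective (Kf M) (MonoidAlgebra (Kf M) G)) p
    have h4 : (s - 1) ^ (p ^ n) = 0 := by
      rw [sub_pow_char_pow_of_commute (p := p) n (Commute.one_right s), one_pow, hs, MonoidAlgebra.single_pow, hvn, one_pow]
      exact sub_self _
    rw [h1, h2.mul_pow, h4, zero_mul]
  -- nilpotency
  have hxz : x0 * f - f ∈ ZAlg (Kf M) (⊤ : Subgroup G) := sub_mem (mul_mem hx0 hblk.mem) hblk.mem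
  have hbx : c * br P (x0 * f - f) = y := by
    rw [br_sub, mul_sub, hmul _ hx0 _ hblk.mem, hx0c, hcf, mul_assoc, hcc]
  obtain ⟨l, hl⟩ := hblk.nilp x0 hx0
  have hl1 : l = 1 := by
    obtain ⟨k, hk⟩ := hl
    have h1 : x0 * f - l • f ∈ ZAlg (Kf M) (⊤ : Subgroup G) := sub_mem (mul_mem hx0 hblk.mem) (Subalgebra.smul_mem _ hblk.mem l)
    have h2 := hpow _ h1 k
    rw [pow_succ, hk, zero_mul, br_zero, mul_zero] at h2
    have h3 : c * br P (x0 * f - l • f) = s * c - l • c := by
      rw [br_sub, mul_sub, hmul _ hx0 _ hblk.mem, hx0c, br_smul, mul_smul_comm, hcf, mul_assoc, hcc]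
    rw [h3] at h2
    by_contra hl1
    have h4 : IsNilpotent (s * c - l • c) := ⟨_, h2.symm⟩
    have h5 : IsNilpotent y := ⟨_, hynil⟩
    have h6 : Commute (s * c - l • c) y := by
      have e1 : Commute c (s * c) := by
        change c * (s * c) = s * c * c
        rw [← mul_assoc, ← hcs]
      have e2 : Commute (s * c - l • c) c := by
        apply Commute.sub_left e1.symm
        exact (Commute.refl c).smul_left l
      have e3 : Commute (s * c - l • c) (s * c) := by
        apply Commute.sub_left (Commute.refl _)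
        exact e1.smul_left l
      exact e3.sub_right e2
    have h7 : IsNilpotent ((1 - l) • c) := by
      have e1 : (1 - l) • c = (s * c - l • c) - y := by
        rw [hy, sub_smul, one_smul]; abel
      rw [e1]
      exact h6.isNilpotent_sub h4 h5
    have h8 : IsNilpotent c := by
      have e1 : c = (1 - l)⁻¹ • ((1 - l) • c) := by
        rw [smul_smul, inv_mul_cancel₀ (sub_ne_zero.2 (Ne.symm hl1)), one_smul]
      rw [e1]
      exact h7.smul _
    exact h.pair.2.ne_zero (idem_nilpotent_eq_zero hcc h8)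
  rw [hl1, one_smul] at hl
  set x := x0 * f - f with hx
  have hxc : ∀ z, z * x = x * z := hcen _ hxz
  have hfx : f * x = x := by rw [hx, mul_sub, hff, ← mul_assoc, hcen _ hx0 f, mul_assoc, hff]
  -- the top power
  have hqp : q + 1 = p ^ n := by rw [← hq, hn]
  have hxq : x ^ q ≠ 0 := by
    intro h0
    rcases Nat.eq_zero_or_pos q with hq0 | hq0
    · rw [hq0, pow_zero] at h0
      apply hblk.ne_zero
      rw [← mul_one f, h0, mul_zero]
    obtain ⟨q', hq'⟩ := Nat.exists_eq_succ_of_ne_zero hq0.ne'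
    have h1 := hpow x hxz q'
    rw [← Nat.succ_eq_add_one, ← hq', h0, br_zero, mul_zero, hbx] at h1
    have h2 : y ^ q = (s - 1) ^ q * c := by
      have e1 : y = (s - 1) * c := by rw [hy, sub_mul, one_mul]
      have e2 : Commute (s - 1) c := by
        change (s - 1) * c = c * (s - 1)
        rw [sub_mul, mul_sub, hcs, one_mul, mul_one]
      rw [e1, e2.mul_pow]
      congr 1
      have e3 : ∀ k : ℕ, c ^ (k + 1) = c := by
        intro k
        induction k with
        | zero => rw [zero_add, pow_one]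
        | succ k ih => rw [pow_succ, ih, hcc]
      rw [hq', Nat.succ_eq_add_one, e3]
    have h3 : (s - 1) ^ q = ∑ j ∈ Finset.range (orderOf v), s ^ j := by
      rw [hord, CycTI.geom_char (k := Kf M) n s, ← hqp, Nat.add_sub_cancel]
    rw [h2, h3] at h1
    exact sum_mul_ne_zero v hvn hcc h.pair.2.ne_zero hcs h1.symm
  -- dimension
  have hdim : finrank (Kf M) (H76BDim.ZW (Kf M) f) = q + 1 := by
    rw [hf, ← hB]
    exact H76BDim.finrank_ZW_block h.blk
  have hmemW : ∀ z ∈ H76BDim.ZW (Kf M) f, x * z ∈ H76BDim.ZW (Kf M) f := by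
    intro z hz
    refine ⟨fun a => ?_, ?_⟩
    · rw [← mul_assoc, hxc, mul_assoc, hz.1, mul_assoc]
    · rw [← mul_assoc, hfx]
  let L : Module.End (Kf M) (H76BDim.ZW (Kf M) f) := (LinearMap.mulLeft (Kf M) x).restrict hmemW
  have hL : ∀ (k : ℕ) (z : H76BDim.ZW (Kf M) f), (((L ^ k) z : H76BDim.ZW (Kf M) f) : MonoidAlgebra (Kf M) G) = x ^ k * z := by
    intro k
    induction k with
    | zero => intro z; rw [pow_zero, pow_zero, one_mul]; rfl
    | succ k ih =>
      intro z
      rw [pow_succ', Module.End.mul_apply, pow_succ', mul_assoc, ← ih]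
      rfl
  have hfW : f ∈ H76BDim.ZW (Kf M) f := ⟨fun a => hcen _ hblk.mem a, hff⟩
  have hLq : (L ^ q) ⟨f, hfW⟩ ≠ 0 := by
    intro h0
    have h1 := congrArg Subtype.val h0
    rw [hL] at h1
    change x ^ q * f = 0 at h1
    apply hxq
    rcases Nat.eq_zero_or_pos q with hq0 | hq0
    · rw [hq0, pow_zero, one_mul] at h1
      exact absurd h1 hblk.ne_zero
    · obtain ⟨q', hq'⟩ := Nat.exists_eq_succ_of_ne_zero hq0.ne'
      rw [hq', pow_succ, mul_assoc, ← hxc f, hfx, ← pow_succ, ← Nat.succ_eq_add_one, ← hq'] at h1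
      exact h1
  have hLnil : IsNilpotent L := by
    obtain ⟨k, hk⟩ := hl
    refine ⟨k, ?_⟩
    apply LinearMap.ext
    intro z
    apply Subtype.ext
    rw [hL, hk, zero_mul]; rfl
  obtain ⟨h1, h2⟩ := nilop L hLnil hdim (fun h => hLq (by rw [h]; rfl))
  have hxf : ∀ k : ℕ, x ^ (k + 1) * f = x ^ (k + 1) := by
    intro k
    rw [pow_succ, mul_assoc, ← hxc f, hfx]
  refine ⟨x, hxc, hfx, ?_, ?_⟩
  · have h3 := congrArg Subtype.val (LinearMap.congr_fun h1 ⟨f, hfW⟩)
    rw [hL] at h3
    change x ^ (q + 1) * f = 0 at h3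
    rwa [hxf] at h3
  · intro z hz1 hz2 hz3
    obtain ⟨a, ha⟩ := h2 ⟨z, hz1, hz2⟩ (by
      apply Subtype.ext
      have := hL 1 ⟨z, hz1, hz2⟩
      rw [pow_one, pow_one] at this
      rw [this, hz3]; rfl) ⟨f, hfW⟩ hLq
    refine ⟨a, ?_⟩
    have h3 := congrArg Subtype.val ha
    change z = a • (((L ^ q) ⟨f, hfW⟩ : H76BDim.ZW (Kf M) f) : MonoidAlgebra (Kf M) G) at h3
    rw [h3, hL]
    obtain ⟨q', hq'⟩ := Nat.exists_eq_succ_of_ne_zero (Nat.pos_iff_ne_zero.1 hq1)
    rw [hq', Nat.succ_eq_add_one]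
    change a • (x ^ (q' + 1) * f) = _
    rw [hxf]

end elt

end Cfsg.Agent.Lib.CycG7
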