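import Cfsg.Agent.Lib.CycG7
import Cfsg.Agent.Lib.H25BpTr

set_option autoImplicit false
set_option linter.all false

/-!
# Blocks with cyclic defect group: extensions and traces (helper78)
-/

namespace Cfsg.Agent.Lib.CycG8

open Cfsg.Agent.Lib.BrauerMap Cfsg.Agent.Lib.PairMax Cfsg.Agent.Lib.CycG2 Cfsg.Agent.Lib.CycG5
open Cfsg.Agent.Lib.H25BpTr
open Module Cfsg.Agent.Lib.ModRep
open MonoidAlgebra (single)

section poly

variable {K : Type*} [Field K] {G : Type*} [Group G] [Finite G]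
variable {f x : MonoidAlgebra K G} {m : ℕ} {E : Type*} [AddCommGroup E] [Module K E]
  {σ : G →* Module.End K E}

omit [Finite G] in
theorem uni_poly (h : Uni f x m σ) (hm : 1 ≤ m) : ∀ k ≤ m + 1, ∀ z, (∀ w, w * z = z * w) → f * z = z →
    x ^ k * z = 0 → ∃ P : Polynomial K, z = Polynomial.aeval x P * f := by
  intro k
  induction k with
  | zero =>
    intro _ z _ _ hz
    rw [pow_zero, one_mul] at hz
    exact ⟨0, by rw [hz, map_zero, zero_mul]⟩
  | succ k ih =>
    intro hk z hzc hzf hz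
    have hxw : ∀ (j : ℕ) w, w * x ^ j = x ^ j * w := by
      intro j
      induction j with
      | zero => intro w; rw [pow_zero, mul_one, one_mul]
      | succ j ihj => intro w; rw [pow_succ, ← mul_assoc, ihj, mul_assoc, h.xc, ← mul_assoc]
    have hxmf : x ^ m * f = x ^ m := by
      obtain ⟨j, hj⟩ := Nat.exists_eq_succ_of_ne_zero (Nat.one_le_iff_ne_zero.1 hm)
      rw [hj, pow_succ, mul_assoc, h.fc x, h.fx]
    obtain ⟨c, hc⟩ := h.soc (x ^ k * z) (by
      intro w
      rw [← mul_assoc, hxw, mul_assoc, hzc, ← mul_assoc]) (by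
      rw [← mul_assoc, hxw, mul_assoc, hzf]) (by
      rw [← mul_assoc, ← pow_succ']
      exact hz)
    obtain ⟨P, hP⟩ := ih (by omega) (z - c • (x ^ (m - k) * f)) (by
      intro w
      rw [mul_sub, sub_mul, hzc, mul_smul_comm, smul_mul_assoc]
      congr 2
      rw [← mul_assoc, hxw, mul_assoc, h.fc, ← mul_assoc]) (by
      rw [mul_sub, hzf, mul_smul_comm, ← mul_assoc, hxw, mul_assoc, h.ff]) (by
      rw [mul_sub, hc, mul_smul_comm, ← mul_assoc, ← pow_add, show k + (m - k) = m by omega, hxmf, sub_self])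
    refine ⟨P + Polynomial.C c * Polynomial.X ^ (m - k), ?_⟩
    rw [map_add, add_mul, ← hP, map_mul, Polynomial.aeval_C, map_pow, Polynomial.aeval_X, mul_assoc,
      ← Algebra.smul_def, sub_add_cancel]

/-- nilpotent central elements of the block are multiples of `x` -/
theorem uni_nilp (h : Uni f x m σ) (hm : 1 ≤ m) (hf0 : f ≠ 0) {z : MonoidAlgebra K G} (hzc : ∀ w, w * z = z * w)
    (hzf : f * z = z) (hn : IsNilpotent z) : ∃ y, z = x * y := by
  obtain ⟨P, hP⟩ := uni_poly h hm (m + 1) le_rfl z hzc hzf (by rw [h.xm, zero_mul])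
  have h1 : P = Polynomial.X * P.divX + Polynomial.C (P.coeff 0) := (Polynomial.X_mul_divX_add P).symm
  have h2 : z = x * (Polynomial.aeval x P.divX * f) + (P.coeff 0) • f := by
    conv_lhs => rw [hP, h1]
    rw [map_add, map_mul, Polynomial.aeval_X, Polynomial.aeval_C, add_mul, mul_assoc, ← Algebra.smul_def]
  by_cases h0 : P.coeff 0 = 0
  · rw [h0, zero_smul, add_zero] at h2
    exact ⟨_, h2⟩
  · exfalso
    set y := Polynomial.aeval x P.divX * f with hy
    have hxn : IsNilpotent (x * y) := by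
      have : Commute x y := (h.xc y).symm
      exact this.isNilpotent_mul_right ⟨_, h.xm⟩
    have h3 : (P.coeff 0) • f = z - x * y := by rw [h2]; abel
    have h4 : IsNilpotent ((P.coeff 0) • f) := by
      rw [h3]
      have : Commute z (x * y) := (hzc (x * y)).symm
      exact this.isNilpotent_sub hn hxn
    have h5 : IsNilpotent f := by
      have e1 : f = (P.coeff 0)⁻¹ • ((P.coeff 0) • f) := by
        rw [smul_smul, inv_mul_cancel₀ h0, one_smul]
      rw [e1]
      exact h4.smul _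
    exact hf0 (Cfsg.Agent.Lib.BlkIdem.idem_nilpotent_eq_zero h.ff h5)

end poly

/-! ### extensions -/

section ext

/-- extension of a homomorphism from a normal subgroup with cyclic quotient -/
theorem ext_one {U : Type*} [Group U] {G : Type*} [Group G] {N : Subgroup G} [N.Normal] (s : N →* U) (g : G) (A : U)
    (hA : ∀ n : N, A * s n = s (MulAut.conjNormal g n) * A) {e : ℕ} (hge : g ^ e ∈ N) (hAe : A ^ e = s ⟨g ^ e, hge⟩)
    (hgen : ∀ x : G, ∃ k : ℤ, x * (g ^ k)⁻¹ ∈ N) (hord : ∀ k : ℤ, g ^ k ∈ N → (e : ℤ) ∣ k) :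
    ∃ ρ : G →* U, (∀ n : N, ρ n = s n) ∧ ρ g = A := by
  classical
  let S : Subgroup (G × U) :=
    { carrier := {y | ∀ n : N, y.2 * s n = s (MulAut.conjNormal y.1 n) * y.2}
      one_mem' := by intro n; simp
      mul_mem' := by
        rintro a b ha hb n
        change a.2 * b.2 * s n = s (MulAut.conjNormal (a.1 * b.1) n) * (a.2 * b.2)
        rw [mul_assoc, hb, ← mul_assoc, ha, mul_assoc, map_mul]; rfl
      inv_mem' := by
        intro a ha n
        change a.2⁻¹ * s n = s (MulAut.conjNormal a.1⁻¹ n) * a.2⁻¹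
        have h1 := ha (MulAut.conjNormal a.1⁻¹ n)
        have h2 : MulAut.conjNormal a.1 (MulAut.conjNormal a.1⁻¹ n) = n := by
          rw [← MulAut.mul_apply, ← map_mul, mul_inv_cancel, map_one, MulAut.one_apply]
        rw [h2] at h1
        rw [inv_mul_eq_iff_eq_mul, ← mul_assoc, h1, mul_assoc, mul_inv_cancel, mul_one] }
  have hS : (g, A) ∈ S := hA
  have hk : ∀ (k : ℤ) (n : N), A ^ k * s n = s (MulAut.conjNormal (g ^ k) n) * A ^ k := fun k n =>
    (zpow_mem hS k : (g, A) ^ k ∈ S) n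
  have key : ∀ (n n' : N) (k k' : ℤ), (n : G) * g ^ k = n' * g ^ k' → s n * A ^ k = s n' * A ^ k' := by
    intro n n' k k' hh
    have h1 : g ^ (k - k') = ((n⁻¹ * n' : N) : G) := by
      rw [zpow_sub]
      change g ^ k * (g ^ k')⁻¹ = (n : G)⁻¹ * (n' : G)
      rw [eq_inv_mul_iff_mul_eq, ← mul_assoc, hh, mul_assoc, mul_inv_cancel, mul_one]
    obtain ⟨j, hj⟩ := hord (k - k') (by rw [h1]; exact (n⁻¹ * n' : N).2)
    have h2 : A ^ (k - k') = s (n⁻¹ * n') := by
      rw [hj, zpow_mul, zpow_natCast, hAe, ← map_zpow]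
      congr 1
      apply Subtype.ext
      rw [← h1, hj, zpow_mul, zpow_natCast]
      simp
    have h3 : A ^ k = A ^ (k - k') * A ^ k' := by rw [← zpow_add, sub_add_cancel]
    rw [h3, h2, ← mul_assoc, ← map_mul, mul_inv_cancel_left]
  choose κ hκ using hgen
  let ν : G → N := fun x => ⟨x * (g ^ κ x)⁻¹, hκ x⟩
  have hν : ∀ x, (ν x : G) * g ^ κ x = x := fun x => by
    change x * (g ^ κ x)⁻¹ * g ^ κ x = x
    group
  let ρ : G →* U := MonoidHom.mk' (fun x => s (ν x) * A ^ κ x) (by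
    intro x y
    have h1 : s (ν x) * A ^ κ x * (s (ν y) * A ^ κ y) =
        s (ν x * MulAut.conjNormal (g ^ κ x) (ν y)) * A ^ (κ x + κ y) := by
      rw [map_mul, zpow_add, mul_assoc, ← mul_assoc (A ^ κ x), hk]
      simp only [mul_assoc]
    rw [h1]
    apply key
    rw [hν, zpow_add]
    conv_lhs => rw [← hν x, ← hν y]
    push_cast
    rw [MulAut.conjNormal_apply]
    group)
  have hρ : ∀ (n : N) (k : ℤ), ρ ((n : G) * g ^ k) = s n * A ^ k := by
    intro n k
    change s (ν _) * A ^ κ _ = _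
    apply key
    rw [hν]
  refine ⟨ρ, ?_, ?_⟩
  · intro n
    have := hρ n 0
    rwa [zpow_zero, zpow_zero, mul_one, mul_one] at this
  · have := hρ 1 1
    rwa [zpow_one, zpow_one, map_one, one_mul, Subgroup.coe_one, one_mul] at this

variable {K : Type*} [Field K] [IsAlgClosed K]

/-- **The extensions of an invariant irreducible representation over a cyclic quotient.** -/
theorem extend_e {G : Type*} [Group G] [Finite G] {N : Subgroup G} [N.Normal] (hcyc : IsCyclic (G ⧸ N))
    {V : Type*} [AddCommGroup V] [Module K V] [FiniteDimensional K V] (σ : N →* Module.End K V) (hσ : Irr σ)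
    (hinv : ∀ g : G, ∃ A : V →ₗ[K] V, (∀ (n : N) v, A (σ n v) = σ (MulAut.conjNormal g n) (A v)) ∧
      Function.Bijective A)
    (he : ((N.index : ℕ) : K) ≠ 0) :
    ∃ ρ : Fin N.index → (G →* Module.End K V), (∀ j (n : N), ρ j (n : G) = σ n) ∧
      ∀ i j, i ≠ j → ∀ φ : V →ₗ[K] V, (∀ g y, φ (ρ i g y) = ρ j g (φ y)) → φ = 0 := by
  classical
  have hnt := hσ.nt
  obtain ⟨q, hq⟩ := hcyc.exists_generator
  obtain ⟨g, rfl⟩ := QuotientGroup.mk_surjective q
  set e := N.index with hee
  have he0 : e ≠ 0 := by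
    intro h0
    apply he
    rw [h0, Nat.cast_zero]
  have hord : orderOf (QuotientGroup.mk g : G ⧸ N) = e := orderOf_eq_card_of_forall_mem_zpowers hq
  have hge : g ^ e ∈ N := by
    rw [← QuotientGroup.eq_one_iff, QuotientGroup.mk_pow, ← hord, pow_orderOf_eq_one]
  have hgen : ∀ x : G, ∃ k : ℤ, x * (g ^ k)⁻¹ ∈ N := by
    intro x
    obtain ⟨i, hi⟩ := hq (QuotientGroup.mk x)
    refine ⟨i, ?_⟩
    rw [← QuotientGroup.eq_one_iff, QuotientGroup.mk_mul, QuotientGroup.mk_inv, QuotientGroup.mk_zpow]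
    change (QuotientGroup.mk x : G ⧸ N) * ((QuotientGroup.mk g : G ⧸ N) ^ i)⁻¹ = 1
    have hi' : (QuotientGroup.mk g : G ⧸ N) ^ i = QuotientGroup.mk x := hi
    rw [hi', mul_inv_cancel]
  have hdvd : ∀ k : ℤ, g ^ k ∈ N → (e : ℤ) ∣ k := by
    intro k hk
    rw [← hord, orderOf_dvd_iff_zpow_eq_one, ← QuotientGroup.mk_zpow, QuotientGroup.eq_one_iff]
    exact hk
  let s : N →* (Module.End K V)ˣ := σ.toHomUnits
  have hs : ∀ n, ((s n : (Module.End K V)ˣ) : Module.End K V) = σ n := fun n => rfl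
  obtain ⟨A0, hA0, hA0b⟩ := hinv g
  let eA : V ≃ₗ[K] V := LinearEquiv.ofBijective A0 hA0b
  let A : (Module.End K V)ˣ :=
    { val := A0
      inv := eA.symm.toLinearMap
      val_inv := by
        apply LinearMap.ext
        intro v
        exact eA.apply_symm_apply v
      inv_val := by
        apply LinearMap.ext
        intro v
        exact eA.symm_apply_apply v }
  have hA : ∀ n : N, A * s n = s (MulAut.conjNormal g n) * A := by
    intro n
    apply Units.ext
    apply LinearMap.ext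
    intro v
    exact hA0 n v
  -- the subgroup of pairs
  have hpow : ∀ (k : ℕ) (n : N), A ^ k * s n = s (MulAut.conjNormal (g ^ k) n) * A ^ k := by
    intro k
    induction k with
    | zero => intro n; simp
    | succ k ih =>
      intro n
      rw [pow_succ, mul_assoc, hA, ← mul_assoc, ih, mul_assoc, pow_succ, map_mul]
      rfl
  -- scaling
  obtain ⟨c, hc⟩ := schur hσ (((A ^ e * (s ⟨g ^ e, hge⟩)⁻¹ : (Module.End K V)ˣ)) : Module.End K V) (by
    intro n
    rw [← hs n, ← Units.val_mul, ← Units.val_mul]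
    congr 1
    have h1 : MulAut.conjNormal (g ^ e) ((⟨g ^ e, hge⟩ : N)⁻¹ * n * ⟨g ^ e, hge⟩) = n := by
      apply Subtype.ext
      rw [MulAut.conjNormal_apply]
      change g ^ e * ((g ^ e)⁻¹ * (n : G) * g ^ e) * (g ^ e)⁻¹ = n
      group
    have h2 := hpow e ((⟨g ^ e, hge⟩ : N)⁻¹ * n * ⟨g ^ e, hge⟩)
    rw [h1] at h2
    rw [← mul_assoc, ← h2, map_mul, map_mul, map_inv]
    group)
  have hc0 : c ≠ 0 := by
    rintro rfl
    rw [zero_smul] at hc
    exact (Units.ne_zero (A ^ e * (s ⟨g ^ e, hge⟩)⁻¹)) hc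
  obtain ⟨z0, hz0⟩ := IsAlgClosed.exists_pow_nat_eq c⁻¹ (Nat.pos_of_ne_zero he0)
  have hz00 : z0 ≠ 0 := by
    rintro rfl
    rw [zero_pow he0] at hz0
    exact inv_ne_zero hc0 hz0.symm
  haveI : NeZero ((e : ℕ) : K) := ⟨he⟩
  obtain ⟨ζ, hζ⟩ := HasEnoughRootsOfUnity.exists_primitiveRoot K e
  have hζ0 : ζ ≠ 0 := hζ.ne_zero he0
  let w : Fin e → Kˣ := fun j => Units.mk0 (z0 * ζ ^ (j : ℕ)) (mul_ne_zero hz00 (pow_ne_zero _ hζ0))
  let sc : Kˣ →* (Module.End K V)ˣ := Units.map (algebraMap K (Module.End K V)).toMonoidHom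
  have hsc : ∀ u : Kˣ, ((sc u : (Module.End K V)ˣ) : Module.End K V) = (u : K) • 1 := fun u =>
    Algebra.algebraMap_eq_smul_one (u : K)
  have hscc : ∀ (u : Kˣ) (y : (Module.End K V)ˣ), sc u * y = y * sc u := by
    intro u y
    apply Units.ext
    rw [Units.val_mul, Units.val_mul, hsc, smul_one_mul, mul_smul_comm, mul_one]
  have hAj : ∀ j, ∃ ρ : G →* (Module.End K V)ˣ, (∀ n : N, ρ n = s n) ∧ ρ g = sc (w j) * A := by
    intro j
    apply ext_one s g (sc (w j) * A) (e := e)
    · intro n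
      rw [mul_assoc, hA, ← mul_assoc, hscc, mul_assoc]
    · have hcm : Commute (sc (w j)) A := hscc _ _
      rw [hcm.mul_pow, ← map_pow]
      have h1 : A ^ e = (A ^ e * (s ⟨g ^ e, hge⟩)⁻¹) * s ⟨g ^ e, hge⟩ := by group
      rw [h1, ← mul_assoc]
      have h2 : sc (w j ^ e) * (A ^ e * (s ⟨g ^ e, hge⟩)⁻¹) = 1 := by
        apply Units.ext
        rw [Units.val_mul, hc, hsc, Units.val_one, smul_one_mul, smul_smul]
        have : ((w j ^ e : Kˣ) : K) = c⁻¹ := by
          rw [Units.val_pow_eq_pow_val]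
          change (z0 * ζ ^ (j : ℕ)) ^ e = c⁻¹
          rw [mul_pow, hz0, ← pow_mul, mul_comm (j : ℕ) e, pow_mul, hζ.pow_eq_one, one_pow, mul_one]
        rw [this, inv_mul_cancel₀ hc0, one_smul]
      rw [h2, one_mul]
    · exact hgen
    · exact hdvd
  choose ρ hρN hρg using hAj
  refine ⟨fun j => (Units.coeHom _).comp (ρ j), ?_, ?_⟩
  · intro j n
    change ((ρ j (n : G) : (Module.End K V)ˣ) : Module.End K V) = σ n
    rw [hρN]; rfl
  · intro i j hij φ hφ
    have hφN : ∀ n : N, φ * σ n = σ n * φ := by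
      intro n
      apply LinearMap.ext
      intro y
      have h1 := hφ (n : G) y
      change φ (((ρ i (n : G) : (Module.End K V)ˣ) : Module.End K V) y) =
        ((ρ j (n : G) : (Module.End K V)ˣ) : Module.End K V) (φ y) at h1
      rw [hρN, hρN] at h1
      exact h1
    obtain ⟨d, hd⟩ := schur hσ φ hφN
    have h2 : φ * ((ρ i g : (Module.End K V)ˣ) : Module.End K V) = ((ρ j g : (Module.End K V)ˣ) : Module.End K V) * φ :=
      LinearMap.ext fun y => hφ g y
    rw [hρg, hρg, Units.val_mul, Units.val_mul, hsc, hsc, hd, smul_one_mul, smul_one_mul, mul_smul_comm, mul_one,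
      smul_one_mul, smul_smul, smul_smul] at h2
    have h3 : (d * (w i : K) - d * (w j : K)) • ((A : (Module.End K V)ˣ) : Module.End K V) = 0 := by
      rw [sub_smul, h2, sub_self]
    rcases smul_eq_zero.1 h3 with h4 | h4
    · rw [← mul_sub, mul_eq_zero] at h4
      rcases h4 with h5 | h5
      · rw [hd, h5, zero_smul]
      · exfalso
        apply hij
        change z0 * ζ ^ (i : ℕ) - z0 * ζ ^ (j : ℕ) = 0 at h5
        rw [← mul_sub, mul_eq_zero, or_iff_right hz00, sub_eq_zero] at h5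
        exact Fin.ext (hζ.pow_inj i.2 j.2 h5)
    · exact absurd h4 (Units.ne_zero A)

end ext

end Cfsg.Agent.Lib.CycG8
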