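import Cfsg.Agent.Lib.CycG8
import Cfsg.Agent.Lib.AbLocal

set_option autoImplicit false
set_option linter.all false

/-!
# Elements of the defect ideal are traces (helper78)
-/

namespace Cfsg.Agent.Lib.CycG9

open Cfsg.Agent.Lib.BrauerMap Cfsg.Agent.Lib.PairMax Cfsg.Agent.Lib.CycG2 Cfsg.Agent.Lib.CycG5
open Cfsg.Agent.Lib.H25BpTr
open Module Cfsg.Agent.Lib.ModRep
open MonoidAlgebra (single)

section trace

variable {p : ℕ} [hp : Fact p.Prime] {k : Type*} [Field k] [hk : CharP k p] {G : Type*} [Group G] [Finite G]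

omit hp hk in
theorem tr_fixed {H L : Subgroup G} {w : MonoidAlgebra k G} (hw : w ∈ fixAlg k L) :
    tr H L w = ((H.relIndex L : ℕ) : k) • w := by
  classical
  have := Fintype.ofFinite (L ⧸ H.subgroupOf L)
  rw [tr_eq_sum, Finset.sum_congr rfl (fun c _ => hw _ (c.out).2), Finset.sum_const, Finset.card_univ,
    ← Nat.card_eq_fintype_card, Nat.cast_smul_eq_nsmul]
  rfl

omit hp hk in
theorem tr_smul {H L : Subgroup G} (c : k) (w : MonoidAlgebra k G) : tr H L (c • w) = c • tr H L w := by
  classical
  have := Fintype.ofFinite (L ⧸ H.subgroupOf L)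
  rw [tr_eq_sum, tr_eq_sum, Finset.smul_sum]
  exact Finset.sum_congr rfl fun _ _ => map_smul _ _ _

omit hp hk in
theorem tr_add' {H L : Subgroup G} (v w : MonoidAlgebra k G) : tr H L (v + w) = tr H L v + tr H L w := by
  classical
  have := Fintype.ofFinite (L ⧸ H.subgroupOf L)
  rw [tr_eq_sum, tr_eq_sum, tr_eq_sum, ← Finset.sum_add_distrib]
  exact Finset.sum_congr rfl fun _ _ => map_add _ _ _

omit hp hk in
/-- the orbit sum -/
theorem tr_single {H S : Subgroup G} {g : G} (hS : ∀ x ∈ H, x ∈ S ↔ x * g * x⁻¹ = g) :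
    (tr S H (single g (1 : k))).coeff g = 1 ∧
      ∀ y, (tr S H (single g (1 : k))).coeff y ≠ 0 → ∃ h ∈ H, y = h * g * h⁻¹ := by
  classical
  have := Fintype.ofFinite (H ⧸ S.subgroupOf H)
  have hco : ∀ (x y : G), (cj x (single g (1 : k))).coeff y = if x⁻¹ * y * x = g then 1 else 0 := by
    intro x y
    rw [cj_coeff]
    by_cases h : x⁻¹ * y * x = g
    · rw [if_pos h, h]; simp
    · rw [if_neg h]; simp [Ne.symm h]
  constructor
  · rw [tr_eq_sum, sum_coeff, Finset.sum_eq_single (QuotientGroup.mk (1 : H))]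
    · rw [hco, if_pos]
      set o := ((QuotientGroup.mk (1 : H) : H ⧸ S.subgroupOf H).out : H) with ho
      have h1 : (o : G) ∈ S := by
        have h2 := QuotientGroup.eq.mp (QuotientGroup.out_eq' (QuotientGroup.mk (1 : H) : H ⧸ S.subgroupOf H)).symm
        rw [Subgroup.mem_subgroupOf, inv_one, one_mul] at h2
        exact h2
      have h2 := (hS _ (inv_mem o.2)).1 (inv_mem h1)
      rwa [inv_inv] at h2
    · intro c _ hc
      rw [hco, if_neg]
      intro h
      apply hc
      have h1 : (c.out : G)⁻¹ ∈ S := by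
        rw [hS _ (inv_mem c.out.2), inv_inv]
        exact h
      rw [← QuotientGroup.out_eq' c]
      apply QuotientGroup.eq.mpr
      rw [Subgroup.mem_subgroupOf, mul_one]
      exact h1
    · intro h; exact absurd (Finset.mem_univ _) h
  · intro y hy
    rw [tr_eq_sum, sum_coeff] at hy
    obtain ⟨c, _, hc⟩ := Finset.exists_ne_zero_of_sum_ne_zero hy
    rw [hco] at hc
    have h1 : (c.out : G)⁻¹ * y * (c.out : G) = g := by
      by_contra h
      rw [if_neg h] at hc
      exact hc rfl
    refine ⟨c.out, c.out.2, ?_⟩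
    rw [← h1]; group

omit hk in
/-- numeric part -/
theorem not_dvd_relIndex {S S' R' : Subgroup G} (hR'S' : R' ≤ S') (hR' : IsPGroup p R')
    (hcard : Nat.card S = Nat.card S') (R : Sylow p S) (hle : Nat.card R ≤ Nat.card R') : ¬ p ∣ R'.relIndex S' := by
  intro hd
  obtain ⟨j, hj⟩ := hR'.exists_card_eq
  have h1 : Nat.card R = p ^ (Nat.card S).factorization p := R.card_eq_multiplicity
  have h2 : R'.relIndex S' * Nat.card R' = Nat.card S' := by
    have h3 := Subgroup.relIndex_mul_relIndex (⊥ : Subgroup G) R' S' bot_le hR'S'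
    rw [Subgroup.relIndex_bot_left, Subgroup.relIndex_bot_left] at h3
    rw [mul_comm]
    exact h3
  obtain ⟨t, ht⟩ := hd
  have h3 : p ^ (j + 1) ∣ Nat.card S := by
    rw [hcard, ← h2, ht, hj, pow_succ]
    exact ⟨t, by ring⟩
  have h4 : j + 1 ≤ (Nat.card S).factorization p :=
    (hp.out.pow_dvd_iff_le_factorization Nat.card_pos.ne').1 h3
  rw [h1, hj] at hle
  have h5 := (Nat.pow_le_pow_iff_right hp.out.one_lt).1 hle
  omega

/-- **Elements of the defect ideal are traces.** -/
theorem exists_tr {D H : Subgroup G} (hDH : D ≤ H) (hD : IsPGroup p D) : ∀ (n : ℕ) (z : MonoidAlgebra k G),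
    z ∈ fixAlg k H → DefIn p H D z → Nat.card {g // z.coeff g ≠ 0} ≤ n → ∃ w ∈ fixAlg k D, tr D H w = z := by
  classical
  intro n
  induction n with
  | zero =>
    intro z hz _ hn
    have h0 : z = 0 := by
      apply ext_coeff
      intro g
      by_contra hg
      have h1 : Nonempty {g // z.coeff g ≠ 0} := ⟨⟨g, hg⟩⟩
      have h2 : 0 < Nat.card {g // z.coeff g ≠ 0} := Nat.card_pos
      omega
    refine ⟨0, zero_mem _, ?_⟩
    rw [h0]
    have := tr_smul (H := D) (L := H) (0 : k) 0
    rwa [zero_smul, zero_smul] at this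
  | succ n ih =>
    intro z hz hd hn
    by_cases h0 : z = 0
    · refine ⟨0, zero_mem _, ?_⟩
      rw [h0]
      have := tr_smul (H := D) (L := H) (0 : k) 0
      rwa [zero_smul, zero_smul] at this
    obtain ⟨g, hg⟩ : ∃ g, z.coeff g ≠ 0 := by
      by_contra hcon
      push Not at hcon
      exact h0 (ext_coeff hcon)
    set S := H ⊓ Subgroup.centralizer ({g} : Set G) with hS
    let R : Sylow p S := default
    set R1 : Subgroup G := (R : Subgroup S).map S.subtype with hR1
    have hR1S : R1 ≤ S := by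
      rintro _ ⟨r, _, rfl⟩
      exact r.2
    obtain ⟨x, hx, hxR⟩ := hd g hg R1 (hR1S.trans inf_le_left) (R.isPGroup'.map _) (by
      rw [Subgroup.mem_centralizer_iff]
      intro r hr
      exact Subgroup.mem_centralizer_singleton_iff.1 (hR1S hr).2)
    set g' := x⁻¹ * g * x with hg'
    set S' := H ⊓ Subgroup.centralizer ({g'} : Set G) with hS'
    set R' := D ⊓ Subgroup.centralizer ({g'} : Set G) with hR'
    have hR'S' : R' ≤ S' := inf_le_inf_right _ hDH
    have hR'p : IsPGroup p R' := hD.to_le inf_le_left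
    have hzg' : z.coeff g' = z.coeff g := by
      have := coeff_conj hz (inv_mem hx) g
      rw [inv_inv] at this
      exact this
    have hcard : Nat.card S = Nat.card S' := by
      refine Nat.card_congr
        { toFun := fun s => ⟨x⁻¹ * s * x, Subgroup.mem_inf.2 ⟨H.mul_mem (H.mul_mem (H.inv_mem hx) s.2.1) hx, ?_⟩⟩
          invFun := fun s => ⟨x * s * x⁻¹, Subgroup.mem_inf.2 ⟨H.mul_mem (H.mul_mem hx s.2.1) (H.inv_mem hx), ?_⟩⟩
          left_inv := fun s => Subtype.ext (by change x * (x⁻¹ * s * x) * x⁻¹ = s; group)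
          right_inv := fun s => Subtype.ext (by change x⁻¹ * (x * s * x⁻¹) * x = s; group) }
      · rw [Subgroup.mem_centralizer_singleton_iff]
        have h1 := Subgroup.mem_centralizer_singleton_iff.1 s.2.2
        calc x⁻¹ * (s : G) * x * g' = x⁻¹ * ((s : G) * g) * x := by rw [hg']; group
          _ = x⁻¹ * (g * s) * x := by rw [h1]
          _ = g' * (x⁻¹ * s * x) := by rw [hg']; group
      · rw [Subgroup.mem_centralizer_singleton_iff]
        have h1 := Subgroup.mem_centralizer_singleton_iff.1 s.2.2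
        have h2 : g = x * g' * x⁻¹ := by rw [hg']; group
        calc x * (s : G) * x⁻¹ * g = x * ((s : G) * g') * x⁻¹ := by rw [h2]; group
          _ = x * (g' * s) * x⁻¹ := by rw [h1]
          _ = g * (x * s * x⁻¹) := by rw [h2]; group
    have hRle : Nat.card R ≤ Nat.card R' := by
      refine Nat.card_le_card_of_injective (fun r : R => (⟨x⁻¹ * ((r : S) : G) * x, Subgroup.mem_inf.2 ⟨?_, ?_⟩⟩ : R')) ?_
      · exact hxR _ ⟨(r : S), r.2, rfl⟩
      · rw [Subgroup.mem_centralizer_singleton_iff]
        have h1 := Subgroup.mem_centralizer_singleton_iff.1 (r : S).2.2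
        calc x⁻¹ * ((r : S) : G) * x * g' = x⁻¹ * (((r : S) : G) * g) * x := by rw [hg']; group
          _ = x⁻¹ * (g * ((r : S) : G)) * x := by rw [h1]
          _ = g' * (x⁻¹ * ((r : S) : G) * x) := by rw [hg']; group
      · intro r r' h
        have h1 := congrArg Subtype.val h
        change x⁻¹ * ((r : S) : G) * x = x⁻¹ * ((r' : S) : G) * x at h1
        exact Subtype.ext (Subtype.ext (mul_left_cancel (mul_right_cancel h1)))
    have hnd := not_dvd_relIndex (p := p) hR'S' hR'p hcard R hRle
    have hnd' : ((R'.relIndex S' : ℕ) : k) ≠ 0 := by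
      rw [Ne, CharP.cast_eq_zero_iff k p]
      exact hnd
    have hSg : ∀ y ∈ S', cj y (single g' (1 : k)) = single g' 1 := by
      intro y hy
      have h1 := Subgroup.mem_centralizer_singleton_iff.1 hy.2
      apply ext_coeff
      intro u
      rw [cj_coeff]
      by_cases hu : u = g'
      · have h2 : y⁻¹ * u * y = g' := by
          rw [hu, mul_assoc, ← h1]; group
        rw [h2, hu]
      · have h2 : y⁻¹ * u * y ≠ g' := by
          intro h3
          apply hu
          have h4 : u = y * g' * y⁻¹ := by rw [← h3]; group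
          rw [h4, h1]; group
        simp [Ne.symm hu, Ne.symm h2]
    have hfS : (single g' (1 : k)) ∈ fixAlg k S' := hSg
    have hfR : (single g' (1 : k)) ∈ fixAlg k R' := fixAlg_anti hR'S' hfS
    obtain ⟨hO1, hO2⟩ := tr_single (k := k) (H := H) (S := S') (g := g') (by
      intro y hy
      rw [hS', Subgroup.mem_inf, Subgroup.mem_centralizer_singleton_iff]
      constructor
      · intro h
        rw [h.2]; group
      · intro h
        refine ⟨hy, ?_⟩
        calc y * g' = y * g' * y⁻¹ * y := by group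
          _ = g' * y := by rw [h])
    set O := tr S' H (single g' (1 : k)) with hO
    have hOf : O ∈ fixAlg k H := tr_mem_fixAlg hfS
    set w0 := (z.coeff g' * ((R'.relIndex S' : ℕ) : k)⁻¹) • tr R' D (single g' (1 : k)) with hw0
    have hw0f : w0 ∈ fixAlg k D := Subalgebra.smul_mem _ (tr_mem_fixAlg hfR) _
    have hw0t : tr D H w0 = z.coeff g' • O := by
      rw [hw0, tr_smul, tr_trans inf_le_left hDH hfR, ← tr_trans hR'S' inf_le_left hfR, tr_fixed hfS, tr_smul, smul_smul,
        mul_assoc, inv_mul_cancel₀ hnd', mul_one]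
    set z' := z - z.coeff g' • O with hz'
    have hz'f : z' ∈ fixAlg k H := sub_mem hz (Subalgebra.smul_mem _ hOf _)
    have hz'c : ∀ y, z'.coeff y = z.coeff y - z.coeff g' * O.coeff y := fun y => rfl
    have hz'g : z'.coeff g' = 0 := by rw [hz'c, hO1, mul_one, sub_self]
    have hsupp : ∀ y, z'.coeff y ≠ 0 → z.coeff y ≠ 0 := by
      intro y hy
      by_cases hOy : O.coeff y = 0
      · rwa [hz'c, hOy, mul_zero, sub_zero] at hy
      · exfalso
        obtain ⟨h, hh, rfl⟩ := hO2 y hOy
        rw [coeff_conj hz'f hh] at hy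
        exact hy hz'g
    obtain ⟨w, hw, hwt⟩ := ih z' hz'f (fun y hy => hd y (hsupp y hy)) (by
      have h1 : Nat.card {g // z'.coeff g ≠ 0} < Nat.card {g // z.coeff g ≠ 0} := by
        have := Fintype.ofFinite G
        haveI : Fintype {g // z.coeff g ≠ 0} := Fintype.ofFinite _
        haveI : Fintype {g // z'.coeff g ≠ 0} := Fintype.ofFinite _
        rw [Nat.card_eq_fintype_card, Nat.card_eq_fintype_card]
        apply Fintype.card_lt_of_injective_of_notMem
          (fun y : {g // z'.coeff g ≠ 0} => (⟨y.1, hsupp y.1 y.2⟩ : {g // z.coeff g ≠ 0})) (by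
            intro a b hab
            have h2 := congrArg Subtype.val hab
            exact Subtype.ext h2) (b := ⟨g', by rw [hzg']; exact hg⟩)
        rintro ⟨y, hy⟩
        have h3 : (y : G) = g' := congrArg Subtype.val hy
        exact y.2 (by rw [h3]; exact hz'g)
      omega)
    refine ⟨w + w0, add_mem hw hw0f, ?_⟩
    rw [tr_add', hwt, hw0t, hz', sub_add_cancel]

end trace

end Cfsg.Agent.Lib.CycG9
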