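import Mathlib

/-!
Numerical lemmas on `p^l = 2^m + 1`, semiregular actions (helper59).
-/

set_option autoImplicit false

namespace Cfsg.Agent.Lib.CycNum

/-- the order of `2` modulo `2^m + 1` is `2 m` -/
theorem dvd_of_dvd_pow_sub_one {m e : ℕ} (hm : 0 < m) (h : 2 ^ m + 1 ∣ 2 ^ e - 1) : 2 * m ∣ e := by
  have h1 : (2 : ℤ) ^ e ≡ 1 [ZMOD (2 ^ m + 1)] := by
    have h2 : ((2 ^ m + 1 : ℕ) : ℤ) ∣ ((2 ^ e - 1 : ℕ) : ℤ) := Int.natCast_dvd_natCast.2 h
    have h3 : ((2 ^ e - 1 : ℕ) : ℤ) = 2 ^ e - 1 := by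
      have : 1 ≤ 2 ^ e := Nat.one_le_two_pow
      push_cast [Nat.cast_sub this]; ring
    rw [h3] at h2
    push_cast at h2
    exact (Int.modEq_iff_dvd.2 (by
      have := (dvd_neg).2 h2
      rwa [neg_sub] at this))
  have hm1 : (2 : ℤ) ^ m ≡ -1 [ZMOD (2 ^ m + 1)] := by
    rw [Int.modEq_iff_dvd]
    exact ⟨-1, by ring⟩
  have hm2 : (2 : ℤ) ^ (2 * m) ≡ 1 [ZMOD (2 ^ m + 1)] := by
    have := hm1.pow 2
    rw [← pow_mul, mul_comm m 2] at this
    simpa using this
  set a := e / (2 * m) with ha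
  set b := e % (2 * m) with hb
  have hab : e = 2 * m * a + b := (Nat.div_add_mod e (2 * m)).symm
  have hblt : b < 2 * m := Nat.mod_lt _ (by omega)
  have h2 : (2 : ℤ) ^ b ≡ 1 [ZMOD (2 ^ m + 1)] := by
    have h3 : (2 : ℤ) ^ e ≡ 2 ^ b [ZMOD (2 ^ m + 1)] := by
      rw [hab, pow_add, pow_mul]
      have h4 := (hm2.pow a).mul_right (2 ^ b)
      simpa using h4
    exact h3.symm.trans h1
  have hb0 : b = 0 := by
    by_contra hb0
    rcases lt_or_ge b m with hbm | hbm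
    · have h3 : ((2 : ℤ) ^ m + 1) ∣ 2 ^ b - 1 := by
        have := Int.modEq_iff_dvd.1 h2.symm
        exact this
      have h4 : (0 : ℤ) < 2 ^ b - 1 := by
        have : (2 : ℤ) ^ 1 ≤ 2 ^ b := pow_le_pow_right₀ (by norm_num) (by omega)
        linarith
      have h5 := Int.le_of_dvd h4 h3
      have h6 : (2 : ℤ) ^ b ≤ 2 ^ m := pow_le_pow_right₀ (by norm_num) hbm.le
      linarith
    · obtain ⟨c, hc⟩ := Nat.exists_eq_add_of_le hbm
      have hcm : c < m := by omega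
      have h3 : (2 : ℤ) ^ b ≡ -2 ^ c [ZMOD (2 ^ m + 1)] := by
        rw [hc, pow_add]
        have := hm1.mul_right (2 ^ c)
        simpa using this
      have h4 : ((2 : ℤ) ^ m + 1) ∣ 1 - (-2 ^ c) := Int.modEq_iff_dvd.1 (h3.symm.trans h2)
      have h5 : (0 : ℤ) < 1 - (-2 ^ c) := by
        have : (0 : ℤ) < 2 ^ c := by positivity
        linarith
      have h6 := Int.le_of_dvd h5 h4
      have h7 : (2 : ℤ) ^ c < 2 ^ m := pow_lt_pow_right₀ (by norm_num) hcm
      linarith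
  rw [hab, hb0, add_zero]
  exact Dvd.intro _ rfl

theorem le_of_dvd {p l j m e : ℕ} (hp : p.Prime) (hp2 : p ≠ 2) (hl : p ^ l = 2 ^ m + 1)
    (hm : 0 < m) (he : 0 < e) (hdvd : p ^ (l + j) ∣ 2 ^ e - 1) : 2 * m * p ^ j ≤ e := by
  have hl0 : l ≠ 0 := by
    rintro rfl
    rw [pow_zero] at hl
    have : 0 < 2 ^ m := by positivity
    omega
  have h1 : 2 ^ m + 1 ∣ 2 ^ e - 1 := by
    rw [← hl]
    exact (pow_dvd_pow p (Nat.le_add_right l j)).trans hdvd
  obtain ⟨r, hr⟩ := dvd_of_dvd_pow_sub_one hm h1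
  have hr0 : r ≠ 0 := by rintro rfl; rw [mul_zero] at hr; omega
  have hodd : Odd p := hp.odd_of_ne_two hp2
  have h2m : 1 ≤ 2 ^ m := Nat.one_le_two_pow
  have hfac : 2 ^ (2 * m) - 1 = (2 ^ m - 1) * p ^ l := by
    rw [hl, mul_comm 2 m, pow_mul]
    have h3 : (2 ^ m) ^ 2 = (2 ^ m - 1) * (2 ^ m + 1) + 1 := by
      obtain ⟨t, ht⟩ := Nat.exists_eq_add_of_le h2m
      rw [ht]
      have : 1 + t - 1 = t := by omega
      rw [this]; ring
    rw [h3]; omega
  have hpdvd : p ∣ 2 ^ (2 * m) - 1 := by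
    rw [hfac]
    exact (dvd_pow_self p hl0).mul_left _
  have hp2m : ¬ p ∣ 2 ^ m - 1 := by
    intro h
    have h3 : p ∣ 2 ^ m + 1 := by rw [← hl]; exact dvd_pow_self p hl0
    have h4 : p ∣ (2 ^ m + 1) - (2 ^ m - 1) := Nat.dvd_sub h3 h
    have h5 : (2 ^ m + 1) - (2 ^ m - 1) = 2 := by omega
    rw [h5] at h4
    exact hp2 ((Nat.prime_dvd_prime_iff_eq hp Nat.prime_two).1 h4)
  have hnot : ¬ p ∣ 2 ^ (2 * m) := by
    intro h
    have := hp.dvd_of_dvd_pow h
    exact hp2 ((Nat.prime_dvd_prime_iff_eq hp Nat.prime_two).1 this)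
  have hlte := Nat.emultiplicity_pow_sub_pow hp hodd (x := 2 ^ (2 * m)) (y := 1) hpdvd hnot r
  rw [one_pow, ← pow_mul, ← hr] at hlte
  have hm1 : emultiplicity p (2 ^ (2 * m) - 1) = l := by
    rw [hfac, emultiplicity_mul (Nat.prime_iff.1 hp), emultiplicity_eq_zero.2 hp2m, zero_add]
    exact emultiplicity_pow_self_of_prime (Nat.prime_iff.1 hp) l
  have h6 : ((l + j : ℕ) : ℕ∞) ≤ emultiplicity p (2 ^ e - 1) := pow_dvd_iff_le_emultiplicity.1 hdvd
  rw [hlte, hm1, Nat.cast_add] at h6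
  have h7 : (j : ℕ∞) ≤ emultiplicity p r := by
    exact (ENat.add_le_add_iff_left (ENat.natCast_ne_top l)).1 h6
  have h8 : p ^ j ∣ r := pow_dvd_iff_le_emultiplicity.2 h7
  have h9 := Nat.le_of_dvd (Nat.pos_of_ne_zero hr0) h8
  rw [hr]
  exact Nat.mul_le_mul_left _ h9

/-- a semiregular action with exactly one fixed point -/
theorem card_dvd_sub_one {A X : Type*} [Group A] [Finite A] [Finite X] (f : A →* Equiv.Perm X)
    (x₀ : X) (h0 : ∀ a, f a x₀ = x₀) (h : ∀ a, a ≠ 1 → ∀ x, f a x = x → x = x₀) :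
    Nat.card A ∣ Nat.card X - 1 := by
  classical
  let Y := {x : X // x ≠ x₀}
  let _ : MulAction A Y :=
    { smul := fun a y => ⟨f a y, fun h1 => y.2 (by
        have h2 : f a (y : X) = f a x₀ := by rw [h1, h0]
        exact (f a).injective h2)⟩
      one_smul := by
        intro y
        apply Subtype.ext
        change f 1 (y : X) = y
        rw [map_one]; rfl
      mul_smul := by
        intro a b y
        apply Subtype.ext
        change f (a * b) (y : X) = f a (f b y)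
        rw [map_mul]; rfl }
  have hstab : ∀ y : Y, MulAction.stabilizer A y = ⊥ := by
    intro y
    rw [eq_bot_iff]
    intro a ha
    rw [Subgroup.mem_bot]
    by_contra ha1
    rw [MulAction.mem_stabilizer_iff] at ha
    exact y.2 (h a ha1 y (congrArg Subtype.val ha))
  have h1 := Nat.card_congr (MulAction.selfEquivOrbitsQuotientProd hstab)
  rw [Nat.card_prod] at h1
  have h2 : Nat.card Y = Nat.card X - 1 := by
    have := Fintype.ofFinite X
    rw [Nat.card_eq_fintype_card, Nat.card_eq_fintype_card]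
    rw [Fintype.card_subtype, Finset.filter_ne', Finset.card_erase_of_mem (Finset.mem_univ _),
      Finset.card_univ]
  rw [← h2, h1]
  exact Dvd.intro_left _ rfl

end Cfsg.Agent.Lib.CycNum
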