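import Cfsg.Agent.Lib.HBBasic
import Cfsg.Agent.Lib.PGroupOdd
import Cfsg.Prelude.Def_Transfer

/-!
Orders of centralizers in extraspecial `p`-groups, `|E| = p^(1+2n)`, bounds for abelian subgroups (helper63).
-/

set_option autoImplicit false

namespace Cfsg.Agent.Lib.ExtraOrd

open Cfsg Subgroup
open scoped commutatorElement

variable {G : Type*} [Group G]

/-- if all commutators `[g, x]` lie in `Z` then `|G : C(x)| ≤ |Z|`. -/
theorem index_centralizer_le [Finite G] (x : G) (Z : Subgroup G) (h : ∀ g : G, ⁅g, x⁆ ∈ Z) :
    (centralizer {x}).index ≤ Nat.card Z := by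
  let f : G → Z := fun g => ⟨⁅g, x⁆, h g⟩
  have hf : ∀ a b : G, (QuotientGroup.leftRel (centralizer {x})) a b ↔ f a = f b := by
    intro a b
    rw [QuotientGroup.leftRel_apply, Subgroup.mem_centralizer_singleton_iff, Subtype.ext_iff]
    change _ ↔ ⁅a, x⁆ = ⁅b, x⁆
    rw [commutatorElement_def, commutatorElement_def, mul_left_inj]
    constructor
    · intro h1
      have : x * (a⁻¹ * b) * x⁻¹ = a⁻¹ * b := by rw [← h1]; group
      calc a * x * a⁻¹ = a * x * (a⁻¹ * b) * b⁻¹ := by group
        _ = a * (a⁻¹ * b * x) * b⁻¹ := by rw [h1]; group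
        _ = b * x * b⁻¹ := by group
    · intro h1
      have h2 : a⁻¹ * (a * x * a⁻¹) * b = a⁻¹ * (b * x * b⁻¹) * b := by rw [h1]
      calc a⁻¹ * b * x = a⁻¹ * (b * x * b⁻¹) * b := by group
        _ = a⁻¹ * (a * x * a⁻¹) * b := h2.symm
        _ = x * (a⁻¹ * b) := by group
  have hinj : Function.Injective (Quotient.lift f (fun a b hab => (hf a b).mp hab) :
      G ⧸ centralizer {x} → Z) := by
    intro a b
    induction a using Quotient.inductionOn
    induction b using Quotient.inductionOn
    intro hab
    exact Quotient.sound ((hf _ _).mpr hab)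
  rw [Subgroup.index]
  exact Nat.card_le_card_of_injective _ hinj

/-- A normal subgroup of order `p^2` of a `p`-group has centralizer of index at most `p`. -/
theorem index_centralizer_le_of_card_sq [Finite G] {p : ℕ} [hp : Fact p.Prime] (hG : IsPGroup p G)
    {N : Subgroup G} (hN : N.Normal) (hc : Nat.card N = p ^ 2) :
    (centralizer (N : Set G)).index ≤ p := by
  obtain ⟨Z, hZ, hZN, hZc⟩ := PGroupOdd.exists_normal_card' hG hN (k := 1) (by
    rw [hc]; exact Nat.pow_le_pow_right hp.out.pos one_le_two)
  have hlt : Z < N := by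
    refine lt_of_le_of_ne hZN ?_
    rintro rfl
    rw [hc] at hZc
    have := Nat.pow_right_injective hp.out.two_le hZc
    omega
  obtain ⟨L, hL, hZL, hLN, hLc, x, hxL, hxZ, hxp, hxg, hLe⟩ := PGroupOdd.exists_normal_step hG hZ hN hlt
  have hLN' : L = N := Subgroup.eq_of_le_of_card_ge hLN (by rw [hLc, hZc, hc, pow_one, pow_two])
  -- Z is central
  have hZcen : Z ≤ center G := by
    have h0 : ⊥ < Z := by
      rw [bot_lt_iff_ne_bot]
      rintro rfl
      rw [Subgroup.card_bot, pow_one] at hZc
      exact hp.out.one_lt.ne hZc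
    obtain ⟨z, hz, hzc, hzo⟩ := PGroupOdd.exists_central_mem hG hZ h0.ne'
    have : zpowers z = Z := Subgroup.eq_of_le_of_card_ge (by rwa [zpowers_le]) (by
      rw [hZc, Nat.card_zpowers, hzo, pow_one])
    rw [← this, zpowers_le]
    exact hzc
  have hcc : centralizer (N : Set G) = centralizer {x} := by
    apply le_antisymm
    · apply Subgroup.centralizer_le
      intro y hy
      rw [Set.mem_singleton_iff] at hy
      rw [hy, ← hLN']
      exact hxL
    · rw [← hLN', hLe, ← Subgroup.le_centralizer_iff]
      refine sup_le (hZcen.trans (Subgroup.center_le_centralizer _)) ?_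
      rw [zpowers_le, Subgroup.mem_centralizer_iff]
      intro g hg
      exact (Subgroup.mem_centralizer_singleton_iff.mp hg)
  rw [hcc]
  calc _ ≤ Nat.card Z := index_centralizer_le x Z hxg
    _ = p := by rw [hZc, pow_one]

section Extra

variable [Finite G] {p : ℕ} [hp : Fact p.Prime]

theorem comm_mem_center (hE : IsExtraspecial p G) (x y : G) : ⁅x, y⁆ ∈ center G := by
  rw [← hE.1.2.2, commutator_def]
  exact commutator_mem_commutator (mem_top x) (mem_top y)

omit [Finite G] hp in
theorem pow_mem_center [Finite G] [Fact p.Prime] (hE : IsExtraspecial p G) (x : G) : x ^ p ∈ center G := by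
  rw [← hE.1.2.1]
  exact HBBasic.pow_mem_frattini hE.1.1 x

theorem normal_of_center_le (hE : IsExtraspecial p G) {H : Subgroup G} (hH : center G ≤ H) : H.Normal := by
  constructor
  intro n hn g
  have h1 : ⁅g, n⁆ ∈ H := hH (comm_mem_center hE g n)
  have h2 : g * n * g⁻¹ = ⁅g, n⁆ * n := by rw [commutatorElement_def]; group
  rw [h2]
  exact mul_mem h1 hn

theorem mono_card (hE : IsExtraspecial p G) {K : Subgroup G} (n : ℕ) :
    ∀ H : Subgroup G, center G ≤ H → H ≤ K → Nat.card K ≤ Nat.card H + n →
      Nat.card (centralizer (H : Set G)) * Nat.card H ≤ Nat.card (centralizer (K : Set G)) * Nat.card K := by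
  induction n with
  | zero =>
    intro H _ hHK hc
    have : H = K := Subgroup.eq_of_le_of_card_ge hHK (by omega)
    rw [this]
  | succ n ih =>
    intro H hH hHK hc
    by_cases hEq : H = K
    · rw [hEq]
    have hlt : H < K := lt_of_le_of_ne hHK hEq
    obtain ⟨x, hxK, hxH⟩ := SetLike.exists_of_lt hlt
    have hHn := normal_of_center_le hE hH
    have hcard := PGroupOdd.card_sup_zpowers hHn hxH (hH (pow_mem_center hE x))
    have hposH : 0 < Nat.card H := Nat.card_pos
    have h1 := ih (H ⊔ zpowers x) (hH.trans le_sup_left) (sup_le hHK (by rwa [zpowers_le])) (by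
      rw [hcard]
      have := hp.out.two_le
      nlinarith)
    refine le_trans ?_ h1
    have h2 : centralizer ((H ⊔ zpowers x : Subgroup G) : Set G) = centralizer (H : Set G) ⊓ centralizer {x} := by
      apply le_antisymm
      · refine le_inf (Subgroup.centralizer_le (le_sup_left : H ≤ H ⊔ zpowers x)) (Subgroup.centralizer_le ?_)
        intro y hy
        rw [Set.mem_singleton_iff] at hy
        rw [hy]
        exact (le_sup_right : zpowers x ≤ H ⊔ zpowers x) (mem_zpowers x)
      · rw [← Subgroup.le_centralizer_iff]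
        refine sup_le ?_ ?_
        · rw [Subgroup.le_centralizer_iff]
          exact inf_le_left
        · rw [zpowers_le, Subgroup.mem_centralizer_iff]
          intro g hg
          exact (Subgroup.mem_centralizer_singleton_iff.mp hg.2)
    have h3 : (centralizer {x} : Subgroup G).relIndex (centralizer (H : Set G)) ≤ p := by
      calc _ ≤ (centralizer {x} : Subgroup G).relIndex ⊤ :=
            Subgroup.relIndex_le_of_le_right le_top (by
              rw [Subgroup.relIndex_top_right]; exact Subgroup.index_ne_zero_of_finite)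
        _ = (centralizer {x} : Subgroup G).index := Subgroup.relIndex_top_right _
        _ ≤ Nat.card (center G) := index_centralizer_le x _ (fun g => comm_mem_center hE g x)
        _ = p := hE.2
    have h4 := SubgroupTools.card_mul_relIndex (centralizer {x}) (centralizer (H : Set G))
    rw [h2, hcard]
    rw [inf_comm] at h4
    calc Nat.card (centralizer (H : Set G)) * Nat.card H
        = (Nat.card ↥(centralizer (H : Set G) ⊓ centralizer {x}) *
            (centralizer {x} : Subgroup G).relIndex (centralizer (H : Set G))) * Nat.card H := by rw [h4]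
      _ ≤ (Nat.card ↥(centralizer (H : Set G) ⊓ centralizer {x}) * p) * Nat.card H := by gcongr
      _ = _ := by ring

/-- `|C(H)| |H| = p |E|` for `Z(E) ≤ H ≤ E`, `E` extraspecial. -/
theorem card_centralizer_mul_card (hE : IsExtraspecial p G) {H : Subgroup G} (hH : center G ≤ H) :
    Nat.card (centralizer (H : Set G)) * Nat.card H = p * Nat.card G := by
  apply le_antisymm
  · have h := mono_card hE (K := ⊤) (Nat.card (⊤ : Subgroup G)) H hH le_top (by omega)
    have h2 : centralizer ((⊤ : Subgroup G) : Set G) = center G := by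
      rw [Subgroup.coe_top, Subgroup.centralizer_univ]
    rw [h2, hE.2, Subgroup.card_top] at h
    exact h
  · have h := mono_card hE (K := H) (Nat.card H) (center G) le_rfl hH (by omega)
    have h2 : centralizer ((center G : Subgroup G) : Set G) = ⊤ := by
      rw [eq_top_iff, ← Subgroup.le_centralizer_iff, Subgroup.coe_top, Subgroup.centralizer_univ]
    rw [h2, hE.2, Subgroup.card_top] at h
    rw [mul_comm]
    exact h

/-- Abelian subgroups `A` of an extraspecial group satisfy `|A|^2 ≤ p |E|`. -/
theorem card_sq_le (hE : IsExtraspecial p G) {A : Subgroup G} (hA : IsMulCommutative A) :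
    Nat.card A ^ 2 ≤ p * Nat.card G := by
  have hAZ : (A ⊔ center G) ≤ centralizer ((A ⊔ center G : Subgroup G) : Set G) := by
    have h1 : A ≤ centralizer (A : Set G) := le_centralizer_iff_isMulCommutative.mpr hA
    refine sup_le ?_ (Subgroup.center_le_centralizer _)
    rw [Subgroup.le_centralizer_iff]
    exact sup_le h1 (Subgroup.center_le_centralizer _)
  have h2 := card_centralizer_mul_card hE (H := A ⊔ center G) le_sup_right
  have h3 : Nat.card ↥(A ⊔ center G) ≤ Nat.card (centralizer ((A ⊔ center G : Subgroup G) : Set G)) :=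
    Subgroup.card_le_of_le hAZ
  have h4 : Nat.card A ≤ Nat.card ↥(A ⊔ center G) := Subgroup.card_le_of_le le_sup_left
  calc Nat.card A ^ 2 = Nat.card A * Nat.card A := pow_two _
    _ ≤ Nat.card (centralizer ((A ⊔ center G : Subgroup G) : Set G)) * Nat.card ↥(A ⊔ center G) :=
      Nat.mul_le_mul (h4.trans h3) h4
    _ = _ := h2

/-- The order of an extraspecial `p`-group is `p^(1+2n)` with `n ≥ 1`. -/
theorem exists_card (hE : IsExtraspecial p G) : ∃ n : ℕ, 1 ≤ n ∧ Nat.card G = p ^ (1 + 2 * n) := by
  obtain ⟨A, -, hAn, hAc, hAA⟩ := PGroupOdd.exists_scn hE.1.1 (A₀ := ⊥) inferInstance inferInstance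
  have hZA : center G ≤ A := by rw [← hAA]; exact Subgroup.center_le_centralizer _
  have h1 := card_centralizer_mul_card hE hZA
  rw [hAA] at h1
  obtain ⟨m, hm⟩ := (IsPGroup.iff_card.mp hE.1.1)
  obtain ⟨a, ha⟩ := (IsPGroup.iff_card.mp (hE.1.1.to_subgroup A))
  rw [hm, ha, ← pow_add, ← pow_succ'] at h1
  have h2 := Nat.pow_right_injective hp.out.two_le h1
  have h3 : 1 < a := by
    by_contra hle
    have h4 : m ≤ 1 := by omega
    -- then G is abelian
    have h5 : Nat.card G ≤ p := by
      rw [hm]
      calc p ^ m ≤ p ^ 1 := Nat.pow_le_pow_right hp.out.pos h4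
        _ = p := pow_one p
    have h6 : center G = ⊤ := by
      apply Subgroup.eq_of_le_of_card_ge le_top
      rw [Subgroup.card_top, hE.2]
      exact h5
    have h7 : commutator G = ⊥ := by
      rw [commutator_def, Subgroup.commutator_eq_bot_iff_le_centralizer, Subgroup.coe_top,
        Subgroup.centralizer_univ, h6]
    have h8 := hE.1.2.2
    rw [h7] at h8
    have h9 := hE.2
    rw [← h8, Subgroup.card_bot] at h9
    exact hp.out.one_lt.ne h9
  exact ⟨a - 1, by omega, by rw [hm]; congr 1; omega⟩

end Extra

end Cfsg.Agent.Lib.ExtraOrd
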