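import Cfsg.Agent.Lib.PGroupOdd
import Cfsg.Agent.Lib.ExtraOrd
import Cfsg.Agent.Lib.DihQuat
import Cfsg.Prelude.Def_CaseTheorems
import Cfsg.Prelude.Def_PLocal

/-!
Finite `p`-groups with a self-centralizing cyclic normal subgroup (helper63).
-/

set_option autoImplicit false

namespace Cfsg.Agent.Lib.CycSelf

open Cfsg Subgroup
open scoped commutatorElement

/-! ### number theory -/

theorem dvd_sub_one_of_odd {p : ℕ} [hp : Fact p.Prime] (hp2 : p ≠ 2) (n : ℕ) (k : ℤ)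
    (h : (p : ℤ) ^ (n + 1) ∣ k ^ p - 1) : (p : ℤ) ^ n ∣ k - 1 := by
  have h1 : (p : ℤ) ∣ k ^ p - 1 := dvd_trans (dvd_pow_self _ (by omega)) h
  have h2 : (p : ℤ) ∣ k - 1 := by
    have h3 : (p : ℤ) ∣ k ^ p - k := by
      rw [← ZMod.intCast_zmod_eq_zero_iff_dvd]
      push_cast
      rw [ZMod.pow_card, sub_self]
    have h4 := dvd_sub h1 h3
    simpa using h4
  have h3 : ¬ (p : ℤ) ∣ k := by
    intro h3
    have h4 := dvd_sub h3 h2
    have h5 : (p : ℤ) ∣ 1 := by simpa using h4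
    have h6 : (p : ℕ) ∣ 1 := by exact_mod_cast h5
    exact hp.out.one_lt.ne' (Nat.dvd_one.mp h6)
  have h4 := Int.emultiplicity_pow_sub_pow (p := p) hp.out (hp.out.odd_of_ne_two hp2) (x := k) (y := 1)
    (by simpa using h2) h3 p
  rw [one_pow] at h4
  rw [pow_dvd_iff_le_emultiplicity] at h ⊢
  rw [h4, Nat.Prime.emultiplicity_self hp.out] at h
  push_cast at h
  exact (ENat.add_le_add_iff_right (by simp)).mp h

theorem dvd_of_two (n : ℕ) (k : ℤ) (h : (2 : ℤ) ^ (n + 1) ∣ k ^ 2 - 1) :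
    (2 : ℤ) ^ n ∣ k - 1 ∨ (2 : ℤ) ^ n ∣ k + 1 := by
  have hk : ¬ (2 : ℤ) ∣ k := by
    intro h2
    have h3 : (2 : ℤ) ∣ k ^ 2 - 1 := dvd_trans (dvd_pow_self _ (by omega)) h
    have h4 : (2 : ℤ) ∣ k ^ 2 := dvd_pow h2 (by norm_num)
    have h5 := dvd_sub h4 h3
    have : (2 : ℤ) ∣ 1 := by simpa using h5
    norm_num at this
  have hfac : k ^ 2 - 1 = (k - 1) * (k + 1) := by ring
  rw [hfac] at h
  by_cases h4 : (4 : ℤ) ∣ k - 1
  · left
    -- k + 1 = 2 * odd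
    obtain ⟨m, hm⟩ : ∃ m, k + 1 = 2 * m := ⟨(k + 1) / 2, by omega⟩
    have hm2 : ¬ (2 : ℤ) ∣ m := by omega
    rw [hm, ← mul_assoc, mul_comm (k - 1) 2, mul_assoc, pow_succ', mul_dvd_mul_iff_left (by norm_num)] at h
    exact (Int.isCoprime_iff_gcd_eq_one.mpr (by
      have : IsCoprime ((2 : ℤ) ^ n) m := IsCoprime.pow_left ((Int.prime_two.coprime_iff_not_dvd).mpr hm2)
      exact Int.isCoprime_iff_gcd_eq_one.mp this)).dvd_of_dvd_mul_right h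
  · right
    obtain ⟨m, hm⟩ : ∃ m, k - 1 = 2 * m := ⟨(k - 1) / 2, by omega⟩
    have hm2 : ¬ (2 : ℤ) ∣ m := by omega
    rw [hm, mul_assoc, pow_succ', mul_dvd_mul_iff_left (by norm_num)] at h
    have h5 : IsCoprime ((2 : ℤ) ^ n) m := IsCoprime.pow_left ((Int.prime_two.coprime_iff_not_dvd).mpr hm2)
    exact h5.dvd_of_dvd_mul_left h

variable {G : Type*} [Group G] {p : ℕ}

/-- the situation: `⟨u⟩` of order `p^(n+1)`, normal and self-centralizing in the nonabelian `p`-group `G`. -/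
structure Ctx (p n : ℕ) (u : G) : Prop where
  isP : IsPGroup p G
  ord : orderOf u = p ^ (n + 1)
  nor : (zpowers u).Normal
  cen : centralizer (zpowers u : Set G) = zpowers u
  na : ∃ a b : G, a * b ≠ b * a

namespace Ctx

variable {n : ℕ} {u : G} (h : Ctx p n u)
include h

theorem mem_of_comm {x : G} (hx : x * u = u * x) : x ∈ zpowers u := by
  rw [← h.cen, mem_centralizer_iff]
  rintro _ ⟨k, rfl⟩
  change u ^ k * x = x * u ^ k
  have : Commute x u := hx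
  exact (this.zpow_right k).eq.symm

theorem comm_of_mem {x : G} (hx : x ∈ zpowers u) : x * u = u * x := by
  obtain ⟨k, rfl⟩ := mem_zpowers_iff.mp hx
  exact ((Commute.refl u).zpow_left k).eq

theorem exists_k (x : G) : ∃ k : ℤ, x * u * x⁻¹ = u ^ k := by
  have := h.nor.conj_mem u (mem_zpowers u) x
  obtain ⟨k, hk⟩ := mem_zpowers_iff.mp this
  exact ⟨k, hk.symm⟩

theorem zpow_eq_iff (i j : ℤ) : u ^ i = u ^ j ↔ (p : ℤ) ^ (n + 1) ∣ i - j := by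
  rw [← mul_inv_eq_one, ← zpow_neg, ← zpow_add, ← orderOf_dvd_iff_zpow_eq_one, h.ord, ← sub_eq_add_neg]
  push_cast
  rfl

theorem zpow_eq_one_iff (i : ℤ) : u ^ i = 1 ↔ (p : ℤ) ^ (n + 1) ∣ i := by
  have := h.zpow_eq_iff i 0
  rwa [zpow_zero, sub_zero] at this

omit h in
theorem conj_zpow' {x : G} {k : ℤ} (hk : x * u * x⁻¹ = u ^ k) (j : ℤ) : x * u ^ j * x⁻¹ = u ^ (k * j) := by
  rw [← conj_zpow, hk, zpow_mul]

omit h in
theorem conj_mul {x y : G} {k l : ℤ} (hk : x * u * x⁻¹ = u ^ k) (hl : y * u * y⁻¹ = u ^ l) :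
    (x * y) * u * (x * y)⁻¹ = u ^ (k * l) := by
  rw [← conj_zpow' hk l, ← hl]; group

omit h in
theorem conj_pow {x : G} {k : ℤ} (hk : x * u * x⁻¹ = u ^ k) (j : ℕ) : x ^ j * u * (x ^ j)⁻¹ = u ^ (k ^ j) := by
  induction j with
  | zero => simp
  | succ j ih =>
    rw [pow_succ, pow_succ]
    exact conj_mul ih hk

theorem mem_iff {x : G} {k : ℤ} (hk : x * u * x⁻¹ = u ^ k) : x ∈ zpowers u ↔ (p : ℤ) ^ (n + 1) ∣ k - 1 := by
  rw [← h.zpow_eq_iff, zpow_one, ← hk]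
  constructor
  · intro hx
    rw [h.comm_of_mem hx]; group
  · intro hx
    apply h.mem_of_comm
    rw [mul_inv_eq_iff_eq_mul] at hx
    exact hx

variable [hp : Fact p.Prime] [Finite G]

/-- `z = u^(p^n)` has order `p` -/
theorem orderOf_z : orderOf (u ^ (p ^ n)) = p := by
  rw [orderOf_pow, h.ord]
  have hpos : 0 < p ^ n := pow_pos hp.out.pos n
  rw [Nat.gcd_eq_right (pow_dvd_pow p (Nat.le_succ n)), pow_succ', Nat.mul_div_cancel _ hpos]

theorem z_ne_one : u ^ (p ^ n) ≠ 1 := by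
  intro h1
  have := h.orderOf_z
  rw [h1, orderOf_one] at this
  exact hp.out.one_lt.ne this

theorem mem_z_iff {x : G} (hx : x ∈ zpowers u) : x ^ p = 1 ↔ x ∈ zpowers (u ^ (p ^ n)) := by
  obtain ⟨k, rfl⟩ := mem_zpowers_iff.mp hx
  constructor
  · intro h1
    rw [← zpow_natCast, ← zpow_mul, h.zpow_eq_one_iff, pow_succ, mul_dvd_mul_iff_right (by
      exact_mod_cast hp.out.ne_zero)] at h1
    obtain ⟨j, rfl⟩ := h1
    rw [mem_zpowers_iff]
    refine ⟨j, ?_⟩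
    rw [← zpow_natCast, ← zpow_mul]
    push_cast
    rfl
  · intro h1
    obtain ⟨j, hj⟩ := mem_zpowers_iff.mp h1
    rw [← hj, ← zpow_natCast, ← zpow_mul, mul_comm, zpow_mul, zpow_natCast]
    have := pow_orderOf_eq_one (u ^ (p ^ n))
    rw [h.orderOf_z] at this
    rw [this, one_zpow]

/-- `z` is central. -/
theorem z_central : u ^ (p ^ n) ∈ center G := by
  haveI := h.nor
  have hN : (zpowers (u ^ (p ^ n))).Normal := by
    constructor
    intro x hx g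
    have h1 : x ∈ zpowers u := by
      have : zpowers (u ^ (p ^ n)) ≤ zpowers u := by
        rw [zpowers_le]; exact Subgroup.pow_mem _ (mem_zpowers u) _
      exact this hx
    rw [← h.mem_z_iff h1] at hx
    rw [← h.mem_z_iff (h.nor.conj_mem x h1 g)]
    rw [_root_.conj_pow, hx]
    group
  have h0 : zpowers (u ^ (p ^ n)) ≠ ⊥ := by
    rw [Ne, zpowers_eq_bot]
    exact h.z_ne_one
  obtain ⟨z, hz, hzc, hzo⟩ := PGroupOdd.exists_central_mem h.isP hN h0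
  have h1 : zpowers z = zpowers (u ^ (p ^ n)) := Subgroup.eq_of_le_of_card_ge (by rwa [zpowers_le]) (by
    rw [Nat.card_zpowers, Nat.card_zpowers, hzo, h.orderOf_z])
  have h2 : u ^ (p ^ n) ∈ zpowers z := by rw [h1]; exact mem_zpowers _
  exact (by rwa [zpowers_le] : zpowers z ≤ center G) h2

theorem z_comm (g : G) : g * u ^ (p ^ n) = u ^ (p ^ n) * g := mem_center_iff.mp h.z_central g

/-- `n ≥ 1`. -/
theorem one_le : 1 ≤ n := by
  by_contra hn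
  have hn0 : n = 0 := by omega
  subst hn0
  have h1 := h.z_central
  rw [pow_zero, pow_one] at h1
  obtain ⟨a, b, hab⟩ := h.na
  have h2 : ∀ x : G, x ∈ zpowers u := fun x => h.mem_of_comm (mem_center_iff.mp h1 x)
  obtain ⟨i, rfl⟩ := mem_zpowers_iff.mp (h2 a)
  obtain ⟨j, rfl⟩ := mem_zpowers_iff.mp (h2 b)
  exact hab (zpow_mul_comm u i j)

omit [Finite G] hp in
/-- membership in `M = C(u^p)`. -/
theorem mem_M_iff [Fact p.Prime] {x : G} {k : ℤ} (hk : x * u * x⁻¹ = u ^ k) :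
    x ∈ centralizer (zpowers (u ^ p) : Set G) ↔ (p : ℤ) ^ n ∣ k - 1 := by
  have hp0 : (p : ℤ) ≠ 0 := by exact_mod_cast (Fact.out : p.Prime).ne_zero
  have h1 : x ∈ centralizer (zpowers (u ^ p) : Set G) ↔ x * u ^ p * x⁻¹ = u ^ p := by
    rw [mem_centralizer_iff]
    constructor
    · intro h2
      rw [← h2 _ (mem_zpowers _)]; group
    · intro h2
      rintro _ ⟨j, rfl⟩
      change (u ^ p) ^ j * x = x * (u ^ p) ^ j
      have h3 : Commute x (u ^ p) := mul_inv_eq_iff_eq_mul.mp h2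
      exact (h3.zpow_right j).eq.symm
  rw [h1, ← zpow_natCast, conj_zpow' hk, h.zpow_eq_iff, show k * (p : ℤ) - p = (k - 1) * p by ring, pow_succ,
    mul_dvd_mul_iff_right hp0]

/-- `[x,u] ∈ ⟨z⟩` for `x ∈ M`. -/
theorem exists_c {x : G} (hx : x ∈ centralizer (zpowers (u ^ p) : Set G)) :
    ∃ c : ℤ, x * u * x⁻¹ = (u ^ (p ^ n)) ^ c * u := by
  obtain ⟨k, hk⟩ := h.exists_k x
  obtain ⟨c, hc⟩ := (h.mem_M_iff hk).mp hx
  refine ⟨c, ?_⟩
  rw [hk, ← zpow_natCast, ← zpow_mul]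
  push_cast
  rw [← hc, ← zpow_add_one]
  congr 1
  ring

theorem conj_gj {g : G} {c : ℤ} (hc : g * u * g⁻¹ = (u ^ (p ^ n)) ^ c * u) (j : ℤ) :
    g ^ j * u * (g ^ j)⁻¹ = (u ^ (p ^ n)) ^ (c * j) * u := by
  have hzc : ∀ g : G, Commute g (u ^ (p ^ n)) := fun g => h.z_comm g
  have h1 : ∀ m : ℕ, g ^ m * u * (g ^ m)⁻¹ = (u ^ (p ^ n)) ^ (c * m) * u := by
    intro m
    induction m with
    | zero => simp
    | succ m ih =>
      rw [pow_succ']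
      calc g * g ^ m * u * (g * g ^ m)⁻¹ = g * (g ^ m * u * (g ^ m)⁻¹) * g⁻¹ := by group
        _ = (g * (u ^ (p ^ n)) ^ (c * m)) * u * g⁻¹ := by rw [ih]; group
        _ = (u ^ (p ^ n)) ^ (c * m) * (g * u * g⁻¹) := by rw [((hzc g).zpow_right _).eq]; group
        _ = _ := by
          rw [hc, ← mul_assoc, ← zpow_add]
          congr 2
          push_cast
          ring
  rcases Int.eq_nat_or_neg j with ⟨m, rfl | rfl⟩
  · rw [zpow_natCast]; exact h1 m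
  · rw [zpow_neg, inv_inv, zpow_natCast]
    have h2 := h1 m
    have h3 : u = (g ^ m)⁻¹ * ((u ^ (p ^ n)) ^ (c * m) * u) * g ^ m := by
      rw [← h2]; group
    have h4 : (g ^ m)⁻¹ * (u ^ (p ^ n)) ^ (c * m) = (u ^ (p ^ n)) ^ (c * m) * (g ^ m)⁻¹ :=
      ((hzc (g ^ m)⁻¹).zpow_right _).eq
    have h5 : u = (u ^ (p ^ n)) ^ (c * m) * ((g ^ m)⁻¹ * u * g ^ m) := by
      calc u = (g ^ m)⁻¹ * (u ^ (p ^ n)) ^ (c * m) * u * g ^ m := by
            conv_lhs => rw [h3]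
            group
        _ = _ := by rw [h4]; group
    have h6 : (g ^ m)⁻¹ * u * g ^ m = ((u ^ (p ^ n)) ^ (c * m))⁻¹ * u := by
      rw [eq_inv_mul_iff_mul_eq]
      exact h5.symm
    rw [h6, ← zpow_neg]
    congr 2
    ring

/-- if `M ≠ ⟨u⟩`, then any `g ∈ M ∖ ⟨u⟩` generates `M` modulo `⟨u⟩`. -/
theorem gen {g : G} {c : ℤ} (hc : g * u * g⁻¹ = (u ^ (p ^ n)) ^ c * u) (hpc : ¬ (p : ℤ) ∣ c) {x : G}
    (hx : x ∈ centralizer (zpowers (u ^ p) : Set G)) : ∃ (i j : ℤ), x = u ^ i * g ^ j := by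
  obtain ⟨d, hd⟩ := h.exists_c hx
  have hzc : ∀ g : G, Commute g (u ^ (p ^ n)) := fun g => h.z_comm g
  have hgj := h.conj_gj hc
  -- solve c j ≡ d mod p
  obtain ⟨j, hj⟩ : ∃ j : ℤ, (p : ℤ) ∣ c * j - d := by
    have hcop : IsCoprime c (p : ℤ) := by
      rw [isCoprime_comm]
      exact (Nat.prime_iff_prime_int.mp hp.out).coprime_iff_not_dvd.mpr hpc
    obtain ⟨a, b, hab⟩ := hcop
    refine ⟨a * d, ⟨-b * d, ?_⟩⟩
    linear_combination d * hab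
  have hz : (u ^ (p ^ n)) ^ (c * j) = (u ^ (p ^ n)) ^ d := by
    rw [← mul_inv_eq_one, ← zpow_neg, ← zpow_add, ← orderOf_dvd_iff_zpow_eq_one, h.orderOf_z, ← sub_eq_add_neg]
    exact hj
  -- x * (g^j)⁻¹ ∈ U
  have h1 : x * (g ^ j)⁻¹ ∈ zpowers u := by
    apply h.mem_of_comm
    have h2 : (g ^ j)⁻¹ * u = (g ^ j)⁻¹ * u * g ^ j * (g ^ j)⁻¹ := by group
    have h3 := hgj (-j)
    rw [zpow_neg, inv_inv] at h3
    rw [mul_assoc, h2, h3, show c * -j = -(c * j) by ring, zpow_neg, hz]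
    have h4 : x * ((u ^ (p ^ n)) ^ d)⁻¹ = ((u ^ (p ^ n)) ^ d)⁻¹ * x := ((hzc x).zpow_right d).inv_right.eq
    calc x * (((u ^ (p ^ n)) ^ d)⁻¹ * u * (g ^ j)⁻¹) = (x * ((u ^ (p ^ n)) ^ d)⁻¹) * u * (g ^ j)⁻¹ := by group
      _ = ((u ^ (p ^ n)) ^ d)⁻¹ * (x * u * x⁻¹) * x * (g ^ j)⁻¹ := by rw [h4]; group
      _ = u * (x * (g ^ j)⁻¹) := by rw [hd]; group
  obtain ⟨i, hi⟩ := mem_zpowers_iff.mp h1
  refine ⟨i, j, ?_⟩
  rw [hi]; group

theorem z_zpow_eq_iff (i j : ℤ) : (u ^ (p ^ n)) ^ i = (u ^ (p ^ n)) ^ j ↔ (p : ℤ) ∣ i - j := by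
  rw [← mul_inv_eq_one, ← zpow_neg, ← zpow_add, ← orderOf_dvd_iff_zpow_eq_one, h.orderOf_z, ← sub_eq_add_neg]

theorem z_zpow_eq_one_iff (i : ℤ) : (u ^ (p ^ n)) ^ i = 1 ↔ (p : ℤ) ∣ i := by
  rw [← orderOf_dvd_iff_zpow_eq_one, h.orderOf_z]

theorem conj_u_pow {g : G} {c : ℤ} (hc : g * u * g⁻¹ = (u ^ (p ^ n)) ^ c * u) (a : ℤ) :
    g * u ^ a * g⁻¹ = (u ^ (p ^ n)) ^ (c * a) * u ^ a := by
  have hcm : Commute ((u ^ (p ^ n)) ^ c) u := (Commute.symm (h.z_comm u)).zpow_left c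
  rw [← conj_zpow, hc, hcm.mul_zpow, ← zpow_mul]

/-- `g^p ∈ ⟨u^p⟩` -/
theorem exists_pow_eq {g : G} {c : ℤ} (hc : g * u * g⁻¹ = (u ^ (p ^ n)) ^ c * u) (hpc : ¬ (p : ℤ) ∣ c) :
    ∃ i : ℤ, g ^ p = u ^ (p * i) := by
  have h1 : g ^ p ∈ zpowers u := by
    apply h.mem_of_comm
    have h2 := h.conj_gj hc p
    rw [zpow_natCast, show c * (p : ℤ) = p * c by ring, zpow_mul, zpow_natCast] at h2
    have h3 := pow_orderOf_eq_one (u ^ (p ^ n))
    rw [h.orderOf_z] at h3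
    rw [h3, one_zpow, one_mul] at h2
    exact mul_inv_eq_iff_eq_mul.mp h2
  obtain ⟨j, hj⟩ := mem_zpowers_iff.mp h1
  have h2 : g * u ^ j * g⁻¹ = u ^ j := by rw [hj]; group
  rw [h.conj_u_pow hc, mul_eq_right, h.z_zpow_eq_one_iff] at h2
  obtain ⟨i, rfl⟩ := ((Nat.prime_iff_prime_int.mp hp.out).dvd_or_dvd h2).resolve_left hpc
  exact ⟨i, hj.symm⟩

/-- `p`-th powers for odd `p` -/
theorem pow_odd (hp2 : p ≠ 2) {y : G} {d : ℤ} (hd : y * u * y⁻¹ = (u ^ (p ^ n)) ^ d * u) (a : ℤ) :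
    (u ^ a * y) ^ p = u ^ (a * p) * y ^ p := by
  have h1 := h.conj_u_pow hd a
  have hzc : ∀ g : G, ∀ j : ℤ, Commute ((u ^ (p ^ n)) ^ j) g := fun g j => (Commute.symm (h.z_comm g)).zpow_left j
  have h2 : y * u ^ a = u ^ a * y * (u ^ (p ^ n)) ^ (d * a) := by
    rw [mul_inv_eq_iff_eq_mul] at h1
    rw [h1, mul_assoc, (hzc _ _).eq]
  rw [PGroupOdd.mul_pow_of_comm h2 (hzc _ _) (hzc _ _), PGroupOdd.pow_choose_two_eq_one hp.out hp2, mul_one,
    zpow_mul, zpow_natCast]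
  rw [← zpow_natCast, ← zpow_mul, h.z_zpow_eq_one_iff]
  exact dvd_mul_left _ _

/-- squares for `p = 2` -/
theorem pow_two' {y : G} {d : ℤ} (hd : y * u * y⁻¹ = (u ^ (p ^ n)) ^ d * u) (a : ℤ) :
    (u ^ a * y) ^ 2 = u ^ (a * 2) * (u ^ (p ^ n)) ^ (d * a) * y ^ 2 := by
  have h1 := h.conj_u_pow hd a
  have hzc : ∀ g : G, ∀ j : ℤ, Commute ((u ^ (p ^ n)) ^ j) g := fun g j => (Commute.symm (h.z_comm g)).zpow_left j
  have h2 : y * u ^ a = u ^ a * y * (u ^ (p ^ n)) ^ (d * a) := by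
    rw [mul_inv_eq_iff_eq_mul] at h1
    rw [h1, mul_assoc, (hzc _ _).eq]
  calc (u ^ a * y) ^ 2 = u ^ a * (y * u ^ a) * y := by rw [pow_two]; group
    _ = u ^ a * u ^ a * y * ((u ^ (p ^ n)) ^ (d * a) * y) := by rw [h2]; group
    _ = u ^ a * u ^ a * (y * (u ^ (p ^ n)) ^ (d * a)) * y := by group
    _ = u ^ a * u ^ a * ((u ^ (p ^ n)) ^ (d * a) * y) * y := by rw [(hzc y _).eq]
    _ = _ := by rw [← zpow_add, pow_two]; group

/-- an element of order `p` in `M ∖ U`, except when `(p, n) = (2, 1)` -/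
theorem exists_g0 (hex : p ≠ 2 ∨ 2 ≤ n) {g : G} {c : ℤ} (hc : g * u * g⁻¹ = (u ^ (p ^ n)) ^ c * u)
    (hpc : ¬ (p : ℤ) ∣ c) : ∃ g0 : G, g0 ^ p = 1 ∧ g0 * u * g0⁻¹ = (u ^ (p ^ n)) ^ c * u := by
  have hconj : ∀ a : ℤ, (u ^ a * g) * u * (u ^ a * g)⁻¹ = (u ^ (p ^ n)) ^ c * u := by
    intro a
    have hcm : Commute (u ^ a) ((u ^ (p ^ n)) ^ c) := (show Commute (u ^ a) (u ^ (p ^ n)) from h.z_comm _).zpow_right c
    calc (u ^ a * g) * u * (u ^ a * g)⁻¹ = u ^ a * (g * u * g⁻¹) * (u ^ a)⁻¹ := by group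
      _ = (u ^ a * (u ^ (p ^ n)) ^ c) * u * (u ^ a)⁻¹ := by rw [hc]; group
      _ = (u ^ (p ^ n)) ^ c * (u ^ a * u) * (u ^ a)⁻¹ := by rw [hcm.eq]; group
      _ = _ := by rw [← zpow_add_one, add_comm, zpow_add]; group
  obtain ⟨i, hi⟩ := h.exists_pow_eq hc hpc
  by_cases hp2 : p = 2
  · subst hp2
    have hn2 : 2 ≤ n := by
      rcases hex with hex | hex
      · exact absurd rfl hex
      · exact hex
    obtain ⟨m, rfl⟩ := Nat.exists_eq_add_of_le hn2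
    refine ⟨u ^ (-i * (1 + 2 ^ (m + 1))) * g, ?_, hconj _⟩
    have hodd : ∃ t, c = 2 * t + 1 := ⟨c / 2, by push_cast at hpc; omega⟩
    obtain ⟨t, ht⟩ := hodd
    rw [h.pow_two' hc, hi]
    have h1 : (u ^ (2 ^ (2 + m))) ^ (c * (-i * (1 + 2 ^ (m + 1)))) = (u ^ (2 ^ (2 + m))) ^ (-i * (1 + 2 ^ (m + 1))) := by
      rw [h.z_zpow_eq_iff, ht]
      push_cast
      exact ⟨t * (-i * (1 + 2 ^ (m + 1))), by ring⟩
    rw [h1, ← zpow_natCast u (2 ^ (2 + m)), ← zpow_mul, ← zpow_add, ← zpow_add, h.zpow_eq_one_iff]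
    push_cast
    exact ⟨-i * (1 + 2 ^ m), by ring⟩
  · refine ⟨u ^ (-i) * g, ?_, hconj _⟩
    rw [h.pow_odd hp2 hc, hi, ← zpow_add, show -i * (p : ℤ) + p * i = 0 by ring, zpow_zero]

/-- elements of order dividing `p` in `M`. -/
theorem mem_E {g0 : G} (hex : p ≠ 2 ∨ 2 ≤ n) {c : ℤ} (hc : g0 * u * g0⁻¹ = (u ^ (p ^ n)) ^ c * u)
    (hpc : ¬ (p : ℤ) ∣ c) (hg0 : g0 ^ p = 1) {x : G} (hx : x ∈ centralizer (zpowers (u ^ p) : Set G))
    (hxp : x ^ p = 1) : x ∈ zpowers (u ^ (p ^ n)) ⊔ zpowers g0 := by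
  obtain ⟨i, j, rfl⟩ := h.gen hc hpc hx
  have hgoal : u ^ i ∈ zpowers (u ^ (p ^ n)) → u ^ i * g0 ^ j ∈ zpowers (u ^ (p ^ n)) ⊔ zpowers g0 := fun h1 =>
    Subgroup.mul_mem_sup h1 (Subgroup.zpow_mem _ (mem_zpowers g0) j)
  apply hgoal
  have hui : u ^ i ∈ zpowers u := Subgroup.zpow_mem _ (mem_zpowers u) i
  by_cases hp2 : p = 2
  · subst hp2
    have hn2 : 2 ≤ n := by
      rcases hex with hex | hex
      · exact absurd rfl hex
      · exact hex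
    rcases Int.even_or_odd' j with ⟨t, rfl | rfl⟩
    · have h1 : g0 ^ (2 * t) = 1 := by
        rw [zpow_mul]
        have : g0 ^ (2 : ℤ) = 1 := by exact_mod_cast hg0
        rw [this, one_zpow]
      rw [h1, mul_one] at hxp
      exact (h.mem_z_iff hui).mp hxp
    · have h1 : g0 ^ (2 * t + 1) = g0 := by
        rw [zpow_add, zpow_mul]
        have : g0 ^ (2 : ℤ) = 1 := by exact_mod_cast hg0
        rw [this, one_zpow, one_mul, zpow_one]
      rw [h1, h.pow_two' hc, hg0, mul_one] at hxp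
      obtain ⟨m, rfl⟩ := Nat.exists_eq_add_of_le hn2
      have hodd : ∃ t, c = 2 * t + 1 := ⟨c / 2, by push_cast at hpc; omega⟩
      obtain ⟨t, ht⟩ := hodd
      have h2 : (u ^ (2 ^ (2 + m))) ^ (c * i) = (u ^ (2 ^ (2 + m))) ^ i := by
        rw [h.z_zpow_eq_iff, ht]
        push_cast
        exact ⟨t * i, by ring⟩
      rw [h2, ← zpow_natCast u (2 ^ (2 + m)), ← zpow_mul, ← zpow_add, h.zpow_eq_one_iff] at hxp
      push_cast at hxp
      have h3 : i * 2 + 2 ^ (2 + m) * i = (i * (1 + 2 ^ (m + 1))) * 2 := by ring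
      rw [h3, pow_succ, mul_dvd_mul_iff_right (by norm_num)] at hxp
      have hcop : IsCoprime ((2 : ℤ) ^ (2 + m)) (1 + 2 ^ (m + 1)) := by
        apply IsCoprime.pow_left
        rw [Int.prime_two.coprime_iff_not_dvd]
        rw [pow_succ]
        omega
      obtain ⟨j, rfl⟩ := hcop.dvd_of_dvd_mul_right hxp
      rw [mem_zpowers_iff]
      refine ⟨j, ?_⟩
      rw [← zpow_natCast u (2 ^ (2 + m)), ← zpow_mul]
      push_cast
      rfl
  · have hgp : (g0 ^ j) ^ p = 1 := by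
      rw [← zpow_natCast, ← zpow_mul, mul_comm, zpow_mul, zpow_natCast, hg0, one_zpow]
    rw [h.pow_odd hp2 (h.conj_gj hc j), hgp, mul_one, zpow_mul, zpow_natCast] at hxp
    exact (h.mem_z_iff hui).mp hxp

end Ctx

end Cfsg.Agent.Lib.CycSelf
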