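import Cfsg.Agent.Lib.CycSelf

/-!
Finite `p`-groups with a self-centralizing cyclic normal subgroup, main theorem (helper63).
-/

set_option autoImplicit false

namespace Cfsg.Agent.Lib.CycSelf

open Cfsg Subgroup
open scoped commutatorElement

variable {G : Type*} [Group G] {p : ℕ}

theorem characteristic_omegaOne_of_forall (p : ℕ) (M : Subgroup G) (hM : ∀ x : G, x ^ p = 1 → x ∈ M) :
    (omegaOne p M).Characteristic := by
  rw [Subgroup.characteristic_iff_map_le]
  intro φ
  rw [omegaOne, MonoidHom.map_closure, Subgroup.closure_le]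
  rintro _ ⟨x, ⟨hx, hxp⟩, rfl⟩
  apply Subgroup.subset_closure
  have h1 : (φ x) ^ p = 1 := by rw [← map_pow, hxp, map_one]
  exact ⟨hM _ h1, h1⟩

theorem characteristic_omegaOne (p : ℕ) (M : Subgroup G) (hM : M.Characteristic) :
    (omegaOne p M).Characteristic := by
  rw [Subgroup.characteristic_iff_map_le] at hM ⊢
  intro φ
  rw [omegaOne, MonoidHom.map_closure, Subgroup.closure_le]
  rintro _ ⟨x, ⟨hx, hxp⟩, rfl⟩
  apply Subgroup.subset_closure
  have h1 : (φ x) ^ p = 1 := by rw [← map_pow, hxp, map_one]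
  exact ⟨hM φ ⟨x, hx, rfl⟩, h1⟩

theorem powerClosure_eq (u : G) : powerClosure p 1 (zpowers u) = zpowers (u ^ p) := by
  rw [powerClosure, pow_one]
  apply le_antisymm
  · rw [Subgroup.closure_le]
    rintro _ ⟨x, hx, rfl⟩
    obtain ⟨k, rfl⟩ := mem_zpowers_iff.mp hx
    rw [SetLike.mem_coe, mem_zpowers_iff]
    refine ⟨k, ?_⟩
    rw [← zpow_natCast, ← zpow_natCast, ← zpow_mul, ← zpow_mul, mul_comm]
  · rw [zpowers_le]
    exact Subgroup.subset_closure ⟨u, mem_zpowers u, rfl⟩

namespace Ctx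

variable {n : ℕ} {u : G} (h : Ctx p n u)
include h

theorem ne_top : zpowers u ≠ ⊤ := by
  intro ht
  obtain ⟨a, b, hab⟩ := h.na
  obtain ⟨i, rfl⟩ := mem_zpowers_iff.mp (show a ∈ zpowers u by rw [ht]; trivial)
  obtain ⟨j, rfl⟩ := mem_zpowers_iff.mp (show b ∈ zpowers u by rw [ht]; trivial)
  exact hab (zpow_mul_comm u i j)

variable [hp : Fact p.Prime] [Finite G]

theorem not_dvd_k {x : G} {k : ℤ} (hk : x * u * x⁻¹ = u ^ k) : ¬ (p : ℤ) ∣ k := by
  rintro ⟨j, rfl⟩
  apply h.z_ne_one
  have h1 : x * u ^ (p ^ n) * x⁻¹ = 1 := by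
    rw [← zpow_natCast, conj_zpow' hk, h.zpow_eq_one_iff]
    push_cast
    exact ⟨j, by ring⟩
  rw [h.z_comm x] at h1
  simpa using h1

theorem exists_step : ∃ x : G, x ∉ zpowers u ∧ x ^ p ∈ zpowers u := by
  obtain ⟨x, -, hx, hxp, -⟩ := PGroupOdd.exists_mem_step h.isP h.nor (inferInstance : (⊤ : Subgroup G).Normal)
    (lt_top_iff_ne_top.mpr h.ne_top)
  exact ⟨x, hx, hxp⟩

theorem dvd_of_pow_mem {x : G} {k : ℤ} (hk : x * u * x⁻¹ = u ^ k) {j : ℕ} (hx : x ^ j ∈ zpowers u) :
    (p : ℤ) ^ (n + 1) ∣ k ^ j - 1 := by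
  exact (h.mem_iff (conj_pow hk j)).mp hx

theorem le_M : zpowers u ≤ centralizer (zpowers (u ^ p) : Set G) := by
  rw [zpowers_le, mem_centralizer_iff]
  rintro _ ⟨j, rfl⟩
  change (u ^ p) ^ j * u = u * (u ^ p) ^ j
  exact (((Commute.refl u).pow_left p).zpow_left j).eq

theorem partA (hex : p ≠ 2 ∨ 2 ≤ n) {g : G} (hg : g ∈ centralizer (zpowers (u ^ p) : Set G))
    (hgU : g ∉ zpowers u) :
    (zpowers u).relIndex (centralizer (zpowers (u ^ p) : Set G)) = p ∧
      IsElementaryAbelian p (omegaOne p (centralizer (zpowers (u ^ p) : Set G))) ∧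
      Nat.card (omegaOne p (centralizer (zpowers (u ^ p) : Set G))) = p ^ 2 := by
  set M := centralizer (zpowers (u ^ p) : Set G) with hM
  obtain ⟨c, hc⟩ := h.exists_c hg
  have hpc : ¬ (p : ℤ) ∣ c := by
    intro hpc
    apply hgU
    apply h.mem_of_comm
    rw [(h.z_zpow_eq_one_iff c).mpr hpc, one_mul] at hc
    exact mul_inv_eq_iff_eq_mul.mp hc
  obtain ⟨g0, hg0, hc0⟩ := h.exists_g0 hex hc hpc
  have hg0U : g0 ∉ zpowers u := by
    intro h1
    have h2 := h.comm_of_mem h1
    have h3 : g0 * u * g0⁻¹ = u := by rw [h2]; group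
    rw [h3] at hc0
    have h4 : (u ^ (p ^ n)) ^ c = 1 := by
      have := mul_right_cancel (hc0.symm.trans (one_mul u).symm)
      exact this
    exact hpc ((h.z_zpow_eq_one_iff c).mp h4)
  have hk0 : g0 * u * g0⁻¹ = u ^ ((p : ℤ) ^ n * c + 1) := by
    rw [hc0, ← zpow_natCast, ← zpow_mul, ← zpow_add_one]
    push_cast
    rfl
  have hg0M : g0 ∈ M := by
    rw [hM, h.mem_M_iff hk0]
    exact ⟨c, by ring⟩
  have hzc : ∀ x : G, Commute x (u ^ (p ^ n)) := fun x => h.z_comm x
  have hzM : u ^ (p ^ n) ∈ M := h.le_M (Subgroup.pow_mem _ (mem_zpowers u) _)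
  have hzp : (u ^ (p ^ n)) ^ p = 1 := by
    have := pow_orderOf_eq_one (u ^ (p ^ n))
    rwa [h.orderOf_z] at this
  -- E
  have hE : omegaOne p M = zpowers (u ^ (p ^ n)) ⊔ zpowers g0 := by
    apply le_antisymm
    · rw [omegaOne, Subgroup.closure_le]
      rintro x ⟨hxM, hxp⟩
      exact h.mem_E hex hc0 hpc hg0 hxM hxp
    · refine sup_le ?_ ?_
      · rw [zpowers_le]
        exact Subgroup.subset_closure ⟨hzM, hzp⟩
      · rw [zpowers_le]
        exact Subgroup.subset_closure ⟨hg0M, hg0⟩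
  have hEab : IsMulCommutative ↥(zpowers (u ^ (p ^ n)) ⊔ zpowers g0) := by
    apply PGroupOdd.isMulCommutative_sup_zpowers inferInstance
    rw [mem_centralizer_iff]
    rintro _ ⟨j, rfl⟩
    change (u ^ (p ^ n)) ^ j * g0 = g0 * (u ^ (p ^ n)) ^ j
    exact ((hzc g0).zpow_right j).eq.symm
  have hzn : (zpowers (u ^ (p ^ n))).Normal := by
    constructor
    intro x hx y
    have h1 : y * x * y⁻¹ = x := by
      obtain ⟨j, rfl⟩ := mem_zpowers_iff.mp hx
      rw [((hzc y).zpow_right j).eq]; group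
    rw [h1]; exact hx
  refine ⟨?_, ?_, ?_⟩
  · have h1 : M = zpowers u ⊔ zpowers g0 := by
      apply le_antisymm
      · intro x hx
        obtain ⟨i, j, rfl⟩ := h.gen hc0 hpc hx
        exact Subgroup.mul_mem_sup (Subgroup.zpow_mem _ (mem_zpowers u) i) (Subgroup.zpow_mem _ (mem_zpowers g0) j)
      · exact sup_le h.le_M (by rwa [zpowers_le])
    have h2 := PGroupOdd.card_sup_zpowers h.nor hg0U (by rw [hg0]; exact one_mem _)
    rw [← h1] at h2
    have h3 := SubgroupTools.card_mul_relIndex_of_le h.le_M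
    rw [← hM, h2, mul_comm] at h3
    have hpos : 0 < Nat.card (zpowers u) := Nat.card_pos
    exact Nat.eq_of_mul_eq_mul_right hpos h3
  · rw [hE]
    refine ⟨hEab, ?_⟩
    intro a ha
    obtain ⟨v, hv, w, hw, rfl⟩ := Subgroup.mem_sup_of_normal_left.mp ha
    obtain ⟨i, rfl⟩ := mem_zpowers_iff.mp hv
    obtain ⟨j, rfl⟩ := mem_zpowers_iff.mp hw
    have hcm : Commute ((u ^ (p ^ n)) ^ i) (g0 ^ j) := ((hzc g0).symm.zpow_left i).zpow_right j
    have hpw : ∀ (v : G) (i : ℤ), v ^ p = 1 → (v ^ i) ^ p = 1 := by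
      intro v i hv
      rw [← zpow_natCast, ← zpow_mul, mul_comm, zpow_mul, zpow_natCast, hv, one_zpow]
    rw [hcm.mul_pow, hpw _ _ hzp, hpw _ _ hg0, one_mul]
  · have h1 : g0 ∉ zpowers (u ^ (p ^ n)) := by
      intro h1
      apply hg0U
      have : zpowers (u ^ (p ^ n)) ≤ zpowers u := by
        rw [zpowers_le]; exact Subgroup.pow_mem _ (mem_zpowers u) _
      exact this h1
    have h2 := PGroupOdd.card_sup_zpowers (p := p) hzn h1 (by rw [hg0]; exact one_mem _)
    rw [hE, h2, Nat.card_zpowers, h.orderOf_z, pow_two]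

/-- the odd case. -/
theorem odd_case (hp2 : p ≠ 2) :
    (zpowers u).relIndex (centralizer (zpowers (u ^ p) : Set G)) = p ∧
      IsElementaryAbelian p (omegaOne p (centralizer (zpowers (u ^ p) : Set G))) ∧
      Nat.card (omegaOne p (centralizer (zpowers (u ^ p) : Set G))) = p ^ 2 ∧
      (omegaOne p (centralizer (zpowers (u ^ p) : Set G))).Characteristic := by
  have key : ∀ x : G, x ^ p ∈ zpowers u → x ∈ centralizer (zpowers (u ^ p) : Set G) := by
    intro x hx
    obtain ⟨k, hk⟩ := h.exists_k x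
    rw [h.mem_M_iff hk]
    exact dvd_sub_one_of_odd hp2 n k (h.dvd_of_pow_mem hk hx)
  obtain ⟨g, hgU, hgp⟩ := h.exists_step
  obtain ⟨h1, h2, h3⟩ := h.partA (Or.inl hp2) (key g hgp) hgU
  exact ⟨h1, h2, h3, characteristic_omegaOne_of_forall p _ (fun x hx => key x (by rw [hx]; exact one_mem _))⟩

end Ctx

section two

variable {n : ℕ} {u : G} [Finite G] (h : Ctx 2 n u)
include h

theorem card_of_index_two (hi : (zpowers u).index = 2) : Nat.card G = 2 ^ (n + 2) := by
  rw [← (zpowers u).card_mul_index, hi, Nat.card_zpowers, h.ord]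
  ring

/-- dihedral and quaternion groups -/
theorem dih_or_quat {x : G} (hx : x ∉ zpowers u) (hi : (zpowers u).index = 2) (hxu : x * u * x⁻¹ = u⁻¹) :
    (∃ m : ℕ, Nonempty (G ≃* DihedralGroup m)) ∨ (∃ m : ℕ, Nonempty (G ≃* QuaternionGroup m)) := by
  haveI : Fact (Nat.Prime 2) := ⟨Nat.prime_two⟩
  have hcard := card_of_index_two h hi
  have hx2 : x ^ 2 ∈ zpowers u := by
    haveI := h.nor
    have := Subgroup.pow_index_mem (H := zpowers u) x
    rwa [hi] at this
  obtain ⟨j, hj⟩ := mem_zpowers_iff.mp hx2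
  have h1 : x * u ^ j * x⁻¹ = u ^ j := by rw [hj]; group
  rw [Ctx.conj_zpow' (k := -1) (by rw [hxu, zpow_neg_one]), h.zpow_eq_iff] at h1
  have h2 : ((2 : ℕ) : ℤ) ^ n ∣ j := by
    push_cast at h1 ⊢
    have h3 : -1 * j - j = 2 * (-j) := by ring
    rw [h3, pow_succ', mul_dvd_mul_iff_left (by norm_num)] at h1
    exact (dvd_neg).mp h1
  obtain ⟨t, rfl⟩ := h2
  have h3 : x ^ 2 = (u ^ (2 ^ n)) ^ t := by
    rw [← hj, ← zpow_natCast u (2 ^ n), ← zpow_mul]
    push_cast
    rfl
  rcases Int.even_or_odd' t with ⟨s, rfl | rfl⟩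
  · left
    have h4 : (u ^ (2 ^ n)) ^ (2 * s) = 1 := by
      rw [h.z_zpow_eq_one_iff]
      exact ⟨s, by push_cast; ring⟩
    rw [h4] at h3
    refine ⟨2 ^ (n + 1), DihQuat.dihedral_iso (by positivity) u x h.ord (by rw [← pow_two]; exact h3) hxu hx ?_⟩
    rw [hcard]; ring
  · right
    have h4 : (u ^ (2 ^ n)) ^ (2 * s + 1) = u ^ (2 ^ n) := by
      have := (h.z_zpow_eq_iff (2 * s + 1) 1).mpr ⟨s, by push_cast; ring⟩
      rw [this, zpow_one]
    rw [h4] at h3
    refine ⟨2 ^ n, DihQuat.quaternion_iso (by positivity) u x (by rw [h.ord]; ring) (by rw [← pow_two]; exact h3) hxu hx ?_⟩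
    rw [hcard]; ring

/-- quasidihedral groups -/
theorem quasi {x : G} (hn : 2 ≤ n) (hx : x ∉ zpowers u) (hi : (zpowers u).index = 2)
    (hxu : x * u * x⁻¹ = u ^ ((2 : ℤ) ^ n - 1)) : IsQuasiDihedral G := by
  haveI : Fact (Nat.Prime 2) := ⟨Nat.prime_two⟩
  have hcard := card_of_index_two h hi
  obtain ⟨m, rfl⟩ := Nat.exists_eq_add_of_le hn
  have hx2 : x ^ 2 ∈ zpowers u := by
    haveI := h.nor
    have := Subgroup.pow_index_mem (H := zpowers u) x
    rwa [hi] at this
  obtain ⟨j, hj⟩ := mem_zpowers_iff.mp hx2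
  have h1 : x * u ^ j * x⁻¹ = u ^ j := by rw [hj]; group
  rw [Ctx.conj_zpow' hxu, h.zpow_eq_iff] at h1
  have h2 : ((2 : ℕ) : ℤ) ^ (2 + m) ∣ j := by
    push_cast at h1 ⊢
    have h3 : (2 ^ (2 + m) - 1) * j - j = 2 * ((2 ^ (m + 1) - 1) * j) := by ring
    rw [h3, pow_succ', mul_dvd_mul_iff_left (by norm_num)] at h1
    have hcop : IsCoprime ((2 : ℤ) ^ (2 + m)) (2 ^ (m + 1) - 1) := by
      apply IsCoprime.pow_left
      rw [Int.prime_two.coprime_iff_not_dvd, pow_succ]
      omega
    exact hcop.dvd_of_dvd_mul_left h1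
  obtain ⟨t, rfl⟩ := h2
  have h3 : x ^ 2 = (u ^ (2 ^ (2 + m))) ^ t := by
    rw [← hj, ← zpow_natCast u (2 ^ (2 + m)), ← zpow_mul]
    push_cast
    rfl
  have hxu' : x * u * x⁻¹ = u ^ (2 ^ (2 + m + 1 - 1) - 1) := by
    rw [hxu, ← zpow_natCast]
    congr 1
    rw [Nat.add_sub_cancel, Nat.cast_sub Nat.one_le_two_pow]
    push_cast
    rfl
  refine ⟨2 + m + 1, by omega, by rw [hcard], ?_⟩
  rcases Int.even_or_odd' t with ⟨s, rfl | rfl⟩
  · have h4 : (u ^ (2 ^ (2 + m))) ^ (2 * s) = 1 := by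
      rw [h.z_zpow_eq_one_iff]
      exact ⟨s, by push_cast; ring⟩
    rw [h4] at h3
    refine ⟨u, x, h.ord, orderOf_eq_prime h3 ?_, hxu'⟩
    rintro rfl
    exact hx (one_mem _)
  · have h4 : (u ^ (2 ^ (2 + m))) ^ (2 * s + 1) = u ^ (2 ^ (2 + m)) := by
      have := (h.z_zpow_eq_iff (2 * s + 1) 1).mpr ⟨s, by push_cast; ring⟩
      rw [this, zpow_one]
    rw [h4] at h3
    have h5 : (x * u) ^ 2 = 1 := by
      calc (x * u) ^ 2 = (x * u * x⁻¹) * x ^ 2 * u := by rw [pow_two, pow_two]; group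
        _ = u ^ ((2 : ℤ) ^ (2 + m) - 1) * (u ^ ((2 ^ (2 + m) : ℕ) : ℤ)) * u := by rw [hxu, h3, zpow_natCast]
        _ = u ^ (((2 : ℤ) ^ (2 + m) - 1) + ((2 ^ (2 + m) : ℕ) : ℤ) + 1) := by rw [zpow_add_one, zpow_add]
        _ = 1 := by
          rw [h.zpow_eq_one_iff]
          push_cast
          exact ⟨1, by ring⟩
    refine ⟨u, x * u, h.ord, orderOf_eq_prime h5 ?_, ?_⟩
    · intro h6
      apply hx
      rw [mul_eq_one_iff_eq_inv] at h6
      rw [h6]
      exact inv_mem (mem_zpowers u)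
    · rw [← hxu']; group

/-- the case `M = U` (or `n = 1`). -/
theorem index_two_of (hneg : ∀ x y : G, x ∉ zpowers u → y ∉ zpowers u → x * y ∈ zpowers u) :
    (zpowers u).index = 2 := by
  haveI : Fact (Nat.Prime 2) := ⟨Nat.prime_two⟩
  obtain ⟨x, hx, -⟩ := h.exists_step
  rw [Subgroup.index_eq_two_iff]
  refine ⟨x, fun b => ?_⟩
  by_cases hb : b ∈ zpowers u
  · right
    refine ⟨hb, fun h1 => hx ?_⟩
    exact (Subgroup.mul_mem_cancel_left _ hb).mp h1
  · left
    exact ⟨hneg b x hb hx, hb⟩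

theorem two_case :
    (Nat.card G = 2 ^ (n + 2) ∧
      ((∃ m : ℕ, Nonempty (G ≃* DihedralGroup m)) ∨ (∃ m : ℕ, Nonempty (G ≃* QuaternionGroup m)) ∨
        IsQuasiDihedral G)) ∨
    ((zpowers u).relIndex (centralizer (zpowers (u ^ 2) : Set G)) = 2 ∧
      IsElementaryAbelian 2 (omegaOne 2 (centralizer (zpowers (u ^ 2) : Set G))) ∧
      Nat.card (omegaOne 2 (centralizer (zpowers (u ^ 2) : Set G))) = 2 ^ 2 ∧
      (omegaOne 2 (centralizer (zpowers (u ^ 2) : Set G))).Characteristic) := by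
  haveI : Fact (Nat.Prime 2) := ⟨Nat.prime_two⟩
  have hodd : ∀ {x : G} {k : ℤ}, x * u * x⁻¹ = u ^ k → k % 2 = 1 := by
    intro x k hk
    have := h.not_dvd_k hk
    push_cast at this
    omega
  obtain ⟨g, hgU, hg2⟩ := h.exists_step
  by_cases hn1 : n = 1
  · -- order 8
    left
    subst hn1
    have hk4 : ∀ {x : G} {k : ℤ}, x * u * x⁻¹ = u ^ k → x ∉ zpowers u → (4 : ℤ) ∣ k + 1 := by
      intro x k hk hx
      have h1 := hodd hk
      rw [h.mem_iff hk] at hx
      norm_num at hx
      omega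
    have hi : (zpowers u).index = 2 := by
      apply index_two_of h
      intro x y hx hy
      obtain ⟨k, hk⟩ := h.exists_k x
      obtain ⟨l, hl⟩ := h.exists_k y
      rw [h.mem_iff (Ctx.conj_mul hk hl)]
      obtain ⟨a, ha⟩ := hk4 hk hx
      obtain ⟨b, hb⟩ := hk4 hl hy
      have h1 : k = 4 * a - 1 := by linarith
      have h2 : l = 4 * b - 1 := by linarith
      rw [h1, h2]
      norm_num
      exact ⟨4 * a * b - a - b, by ring⟩
    refine ⟨card_of_index_two h hi, ?_⟩
    obtain ⟨k, hk⟩ := h.exists_k g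
    have hgu : g * u * g⁻¹ = u⁻¹ := by
      rw [hk, ← zpow_neg_one, h.zpow_eq_iff]
      norm_num
      exact hk4 hk hgU
    rcases dih_or_quat h hgU hi hgu with h1 | h1
    · exact Or.inl h1
    · exact Or.inr (Or.inl h1)
  · have hn2 : 2 ≤ n := by
      have := h.one_le
      omega
    have hdvd4 : (4 : ℤ) ∣ (2 : ℤ) ^ n := by
      have : (2 : ℤ) ^ 2 ∣ (2 : ℤ) ^ n := pow_dvd_pow 2 hn2
      norm_num at this
      exact this
    by_cases hM : ∃ g ∈ centralizer (zpowers (u ^ 2) : Set G), g ∉ zpowers u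
    · right
      obtain ⟨g, hgM, hgU⟩ := hM
      obtain ⟨h1, h2, h3⟩ := h.partA (Or.inr hn2) hgM hgU
      refine ⟨h1, h2, h3, ?_⟩
      by_cases hall : ∀ (x : G) (k : ℤ), x * u * x⁻¹ = u ^ k → (4 : ℤ) ∣ k - 1
      · apply characteristic_omegaOne_of_forall
        intro x hx
        obtain ⟨k, hk⟩ := h.exists_k x
        have h4 := h.dvd_of_pow_mem (j := 2) hk (by rw [hx]; exact one_mem _)
        push_cast at h4
        rcases dvd_of_two n k h4 with h5 | h5
        · rw [h.mem_M_iff hk]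
          exact_mod_cast h5
        · exfalso
          have h6 := hall x k hk
          have h7 := hdvd4.trans h5
          omega
      · push Not at hall
        obtain ⟨x, k, hk, hk4⟩ := hall
        have hk2 := hodd hk
        -- u^2 ∈ G'
        have h4 : u ^ 2 ∈ commutator G := by
          have h5 : u ^ (k - 1) ∈ commutator G := by
            have h6 : ⁅x, u⁆ = u ^ (k - 1) := by
              rw [commutatorElement_def, hk, zpow_sub_one]
            rw [← h6, commutator_def]
            exact commutator_mem_commutator (mem_top _) (mem_top _)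
          obtain ⟨m, hm⟩ : ∃ m, k - 1 = 2 * m := ⟨(k - 1) / 2, by omega⟩
          have hm2 : ¬ (2 : ℤ) ∣ m := by omega
          have hcop : IsCoprime m ((2 : ℤ) ^ (n + 1)) := by
            rw [isCoprime_comm]
            exact IsCoprime.pow_left ((Int.prime_two.coprime_iff_not_dvd).mpr hm2)
          obtain ⟨a, b, hab⟩ := hcop
          have h6 : u ^ 2 = (u ^ (k - 1)) ^ a := by
            rw [← zpow_mul, hm, ← zpow_natCast, h.zpow_eq_iff]
            push_cast
            exact ⟨2 * b, by linear_combination (-2) * hab⟩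
          rw [h6]
          exact Subgroup.zpow_mem _ h5 a
        -- G' ≤ U
        have h5 : commutator G ≤ zpowers u := by
          rw [commutator_def, Subgroup.commutator_le]
          intro a _ b _
          obtain ⟨i, hi⟩ := h.exists_k a
          obtain ⟨j, hj⟩ := h.exists_k b
          have h6 : (a * b) * u * (a * b)⁻¹ = (b * a) * u * (b * a)⁻¹ := by
            rw [Ctx.conj_mul hi hj, Ctx.conj_mul hj hi, mul_comm]
          have h7 : ((b * a)⁻¹ * (a * b)) * u = u * ((b * a)⁻¹ * (a * b)) := by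
            calc ((b * a)⁻¹ * (a * b)) * u = (b * a)⁻¹ * ((a * b) * u * (a * b)⁻¹) * (a * b) := by group
              _ = (b * a)⁻¹ * ((b * a) * u * (b * a)⁻¹) * (a * b) := by rw [h6]
              _ = u * ((b * a)⁻¹ * (a * b)) := by group
          have h8 := h.mem_of_comm h7
          have h9 := h.nor.conj_mem _ h8 (b * a)
          have h10 : b * a * ((b * a)⁻¹ * (a * b)) * (b * a)⁻¹ = ⁅a, b⁆ := by
            rw [commutatorElement_def]; group
          rwa [h10] at h9
        apply characteristic_omegaOne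
        by_cases hu : u ∈ commutator G
        · -- G' = U
          have h6 : zpowers u = commutator G := le_antisymm (by rwa [zpowers_le]) h5
          have h7 : centralizer (zpowers (u ^ 2) : Set G) = centralizer (powerClosure 2 1 (commutator G) : Set G) := by
            rw [← h6, powerClosure_eq]
          rw [h7]
          have h8 : (powerClosure 2 1 (commutator G)).Characteristic := by
            rw [Subgroup.characteristic_iff_map_le]
            intro φ
            rw [powerClosure, MonoidHom.map_closure, Subgroup.closure_le]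
            rintro _ ⟨x, ⟨y, hy, rfl⟩, rfl⟩
            apply Subgroup.subset_closure
            refine ⟨φ y, ?_, by rw [← map_pow]; rfl⟩
            have : (commutator G).Characteristic := inferInstance
            exact (Subgroup.characteristic_iff_map_le.mp this φ) ⟨y, hy, rfl⟩
          infer_instance
        · -- G' = ⟨u^2⟩
          have h6 : zpowers (u ^ 2) = commutator G := by
            apply le_antisymm (by rwa [zpowers_le])
            intro y hy
            obtain ⟨i, rfl⟩ := mem_zpowers_iff.mp (h5 hy)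
            rcases Int.even_or_odd' i with ⟨s, rfl | rfl⟩
            · rw [mem_zpowers_iff]
              exact ⟨s, by rw [zpow_mul]; norm_cast⟩
            · exfalso
              apply hu
              have h7 : (u ^ 2) ^ s ∈ commutator G := Subgroup.zpow_mem _ h4 s
              have h8 : u = ((u ^ 2) ^ s)⁻¹ * u ^ (2 * s + 1) := by
                rw [zpow_add_one, zpow_mul]
                have : u ^ (2 : ℤ) = u ^ 2 := by norm_cast
                rw [this]; group
              rw [h8]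
              exact mul_mem (inv_mem h7) hy
          rw [h6]
          infer_instance
    · left
      push Not at hM
      -- for x ∉ U with x^2 ∈ U
      have hkneg : ∀ {x : G} {k : ℤ}, x * u * x⁻¹ = u ^ k → x ∉ zpowers u → x ^ 2 ∈ zpowers u → (2 : ℤ) ^ n ∣ k + 1 := by
        intro x k hk hx hx2
        have h4 := h.dvd_of_pow_mem (j := 2) hk hx2
        push_cast at h4
        rcases dvd_of_two n k h4 with h5 | h5
        · exfalso
          apply hx
          apply hM
          rw [h.mem_M_iff hk]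
          exact_mod_cast h5
        · exact h5
      have hsq : ∀ x : G, x ^ 2 ∈ zpowers u := by
        classical
        intro x
        by_contra hx
        have hex : ∃ j : ℕ, (x ^ 2) ^ 2 ^ j ∈ zpowers u := by
          obtain ⟨j, hj⟩ := h.isP (x ^ 2)
          exact ⟨j, by rw [hj]; exact one_mem _⟩
        obtain ⟨j, hj⟩ : ∃ j, j = Nat.find hex := ⟨_, rfl⟩
        have hj1 : (x ^ 2) ^ 2 ^ j ∈ zpowers u := by rw [hj]; exact Nat.find_spec hex
        have hj0 : j ≠ 0 := by
          rintro rfl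
          rw [pow_zero, pow_one] at hj1
          exact hx hj1
        obtain ⟨i, rfl⟩ := Nat.exists_eq_succ_of_ne_zero hj0
        have hi : (x ^ 2) ^ 2 ^ i ∉ zpowers u := Nat.find_min hex (by omega)
        obtain ⟨k, hk⟩ := h.exists_k (x ^ 2 ^ i)
        have ht : (x ^ 2) ^ 2 ^ i = (x ^ 2 ^ i) ^ 2 := by rw [← pow_mul, ← pow_mul, mul_comm]
        have hkt : ((x ^ 2) ^ 2 ^ i) * u * ((x ^ 2) ^ 2 ^ i)⁻¹ = u ^ (k ^ 2) := by
          rw [ht]; exact Ctx.conj_pow hk 2
        have h6 := hkneg hkt hi (by rw [← pow_mul, ← pow_succ]; exact hj1)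
        have h7 := hdvd4.trans h6
        obtain ⟨s, rfl | rfl⟩ := Int.even_or_odd' k
        · have : (2 * s) ^ 2 = 4 * s ^ 2 := by ring
          rw [this] at h7
          omega
        · have : (2 * s + 1) ^ 2 = 4 * (s ^ 2 + s) + 1 := by ring
          rw [this] at h7
          omega
      have hi : (zpowers u).index = 2 := by
        apply index_two_of h
        intro x y hx hy
        obtain ⟨k, hk⟩ := h.exists_k x
        obtain ⟨l, hl⟩ := h.exists_k y
        apply hM
        rw [h.mem_M_iff (Ctx.conj_mul hk hl)]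
        obtain ⟨a, ha⟩ := hkneg hk hx (hsq x)
        obtain ⟨b, hb⟩ := hkneg hl hy (hsq y)
        have h1 : k = 2 ^ n * a - 1 := by linarith
        have h2 : l = 2 ^ n * b - 1 := by linarith
        rw [h1, h2]
        push_cast
        exact ⟨2 ^ n * a * b - a - b, by ring⟩
      refine ⟨card_of_index_two h hi, ?_⟩
      obtain ⟨k, hk⟩ := h.exists_k g
      obtain ⟨a, ha⟩ := hkneg hk hgU hg2
      rcases Int.even_or_odd' a with ⟨s, rfl | rfl⟩
      · have hgu : g * u * g⁻¹ = u⁻¹ := by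
          rw [hk, ← zpow_neg_one, h.zpow_eq_iff]
          push_cast
          exact ⟨s, by linear_combination ha⟩
        rcases dih_or_quat h hgU hi hgu with h1 | h1
        · exact Or.inl h1
        · exact Or.inr (Or.inl h1)
      · right; right
        apply quasi h hn2 hgU hi
        rw [hk, h.zpow_eq_iff]
        push_cast
        exact ⟨s, by linear_combination ha⟩

end two

end Cfsg.Agent.Lib.CycSelf
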