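import Mathlib
import Cfsg.Agent.Lib.SubgroupTools
import Cfsg.Agent.Lib.SchurZassenhaus
import Cfsg.Agent.Lib.TransferApps

/-!
(helper67) Solvable groups in which subgroups of the same order are conjugate (`S4022`).
-/

set_option autoImplicit false

open scoped Pointwise

namespace Cfsg.Agent.Lib.DConj67

open Cfsg.Agent.Lib Cfsg.Agent.Lib.SubgroupTools

universe u

/-- conjugate subgroups. -/
def CJ {G : Type u} [Group G] (H K : Subgroup G) : Prop := ∃ g : G, MulAut.conj g • H = K

section
variable {G : Type u} [Group G]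

theorem cj_symm {H K : Subgroup G} (h : CJ H K) : CJ K H := by
  obtain ⟨g, rfl⟩ := h
  refine ⟨g⁻¹, ?_⟩
  rw [← conj_smul_mul, inv_mul_cancel, conj_smul_one]

theorem cj_trans {H K L : Subgroup G} (h : CJ H K) (h' : CJ K L) : CJ H L := by
  obtain ⟨g, rfl⟩ := h
  obtain ⟨g', rfl⟩ := h'
  exact ⟨g' * g, by rw [conj_smul_mul]⟩

theorem cj_card {H K : Subgroup G} (h : CJ H K) : Nat.card H = Nat.card K := by
  obtain ⟨g, rfl⟩ := h
  rw [card_conj_smul]

/-- conjugacy modulo `N`. -/
theorem cj_sup_of_quotient {N : Subgroup G} [N.Normal] {H K : Subgroup G}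
    (h : CJ (H.map (QuotientGroup.mk' N)) (K.map (QuotientGroup.mk' N))) :
    ∃ g : G, N ⊔ (MulAut.conj g • H) = N ⊔ K := by
  obtain ⟨g, hg⟩ := h
  obtain ⟨g, rfl⟩ := QuotientGroup.mk_surjective g
  refine ⟨g, ?_⟩
  have h1 : (MulAut.conj g • H).map (QuotientGroup.mk' N) = K.map (QuotientGroup.mk' N) := by
    rw [map_conj_smul]; exact hg
  have h2 := congrArg (Subgroup.comap (QuotientGroup.mk' N)) h1
  rw [Subgroup.comap_map_eq, Subgroup.comap_map_eq, QuotientGroup.ker_mk'] at h2
  rw [sup_comm, h2, sup_comm]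

theorem cj_of_quotient_le {N : Subgroup G} [N.Normal] {H K : Subgroup G} (hH : N ≤ H) (hK : N ≤ K)
    (h : CJ (H.map (QuotientGroup.mk' N)) (K.map (QuotientGroup.mk' N))) : CJ H K := by
  obtain ⟨g, hg⟩ := cj_sup_of_quotient h
  refine ⟨g, ?_⟩
  rw [sup_eq_right.2 hK, sup_eq_right.2] at hg
  · exact hg
  · have h1 := conj_smul_mono g hH
    rwa [conj_smul_normal] at h1

theorem cj_of_quotient_coprime [Finite G] {N : Subgroup G} [N.Normal] (hN : Group.IsSolvable N) {H K : Subgroup G}
    (hH : (Nat.card N).Coprime (Nat.card H)) (hK : (Nat.card N).Coprime (Nat.card K))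
    (h : CJ (H.map (QuotientGroup.mk' N)) (K.map (QuotientGroup.mk' N))) : CJ H K := by
  obtain ⟨g, hg⟩ := cj_sup_of_quotient h
  have hn : ∀ L : Subgroup G, L ≤ Subgroup.normalizer (N : Set G) := by
    intro L; rw [Subgroup.normalizer_eq_top]; exact le_top
  obtain ⟨a, -, ha⟩ := SchurZassenhaus.conj_of_solvable_left (hn _) (hn _) hg (by rwa [card_conj_smul]) hK hN
  exact ⟨a * g, by rw [conj_smul_mul, ha]⟩

theorem card_map_of_coprime [Finite G] {N : Subgroup G} [N.Normal] {H : Subgroup G}
    (hH : (Nat.card N).Coprime (Nat.card H)) : Nat.card (H.map (QuotientGroup.mk' N)) = Nat.card H := by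
  apply card_map_of_disjoint_ker
  rw [QuotientGroup.ker_mk', disjoint_iff]
  exact inf_eq_bot_of_coprime' hH.symm

theorem card_map_of_le {N : Subgroup G} [N.Normal] {H : Subgroup G}
    (hH : N ≤ H) : Nat.card (H.map (QuotientGroup.mk' N)) * Nat.card N = Nat.card H := by
  have h1 := card_map_mul_card_inf_ker (QuotientGroup.mk' N) H
  rwa [QuotientGroup.ker_mk', inf_eq_right.2 hH] at h1

/-- the Sylow subgroups of a quotient are cyclic if those of the group are. -/
theorem sylow_quotient_cyclic [Finite G] {N : Subgroup G} [N.Normal] {p : ℕ} [Fact p.Prime]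
    (h : ∀ P : Sylow p G, IsCyclic P) (P : Sylow p (G ⧸ N)) : IsCyclic P := by
  obtain ⟨Q, rfl⟩ := Sylow.mapSurjective_surjective (QuotientGroup.mk'_surjective N) p P
  have := h Q
  rw [Sylow.coe_mapSurjective]
  exact isCyclic_of_surjective ((QuotientGroup.mk' N).subgroupMap Q) ((QuotientGroup.mk' N).subgroupMap_surjective Q)

theorem sylow_subgroup_cyclic [Finite G] {p : ℕ} [Fact p.Prime]
    (h : ∀ P : Sylow p G, IsCyclic P) {M : Subgroup G} (P : Sylow p M) : IsCyclic P := by
  obtain ⟨Q, hQ⟩ := (P.isPGroup'.map M.subtype).exists_le_sylow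
  have := h Q
  have h1 : IsCyclic ((P : Subgroup M).map M.subtype) :=
    isCyclic_of_injective (Subgroup.inclusion hQ) (Subgroup.inclusion_injective hQ)
  exact isCyclic_of_injective (M.subtype.subgroupMap P) (by
    intro x y hxy
    have h2 := congrArg Subtype.val hxy
    exact Subtype.ext (M.subtype_injective h2))

/-- If `Sylow q` is cyclic, a normal elementary abelian `q`-subgroup lies in every subgroup of order
divisible by `q`. -/
theorem elementary_le_of_cyclic [Finite G] {q : ℕ} [hq : Fact q.Prime] (hcyc : ∀ P : Sylow q G, IsCyclic P)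
    {E : Subgroup G} [E.Normal] (hE : ∀ x ∈ E, x ^ q = 1) (hE1 : E ≠ ⊥) {H : Subgroup G} (hH : q ∣ Nat.card H) :
    E ≤ H := by
  obtain ⟨x, hx⟩ := exists_prime_orderOf_dvd_card' q hH
  have hEp : IsPGroup q E := isPGroup_of_forall_pow_eq_one hE
  have hxo : orderOf (x : G) = q := by rw [Subgroup.orderOf_coe, hx]
  have hXp : IsPGroup q (Subgroup.zpowers (x : G)) := by
    apply IsPGroup.of_card (n := 1)
    rw [Nat.card_zpowers, hxo, pow_one]
  have h1 : IsPGroup q (Subgroup.zpowers (x : G) ⊔ E : Subgroup G) := by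
    exact hXp.to_sup_of_normal_right' hEp (by rw [Subgroup.normalizer_eq_top]; exact le_top)
  obtain ⟨Q, hQ⟩ := h1.exists_le_sylow
  have hQc := hcyc Q
  have hEQ : E ≤ Q := le_sup_right.trans hQ
  have hXQ : Subgroup.zpowers (x : G) ≤ Q := le_sup_left.trans hQ
  -- `E` is cyclic of exponent `q`, so of order `q`
  have hEc : IsCyclic E := isCyclic_of_injective (Subgroup.inclusion hEQ) (Subgroup.inclusion_injective hEQ)
  have hEcard : Nat.card E = q := by
    obtain ⟨g, hg⟩ := hEc.exists_generator
    have h2 : orderOf g = Nat.card E := orderOf_eq_card_of_forall_mem_zpowers hg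
    have h3 : g ^ q = 1 := Subtype.ext (hE g g.2)
    have h4 : Nat.card E ∣ q := h2 ▸ orderOf_dvd_of_pow_eq_one h3
    rcases (Nat.dvd_prime hq.out).1 h4 with h5 | h5
    · exact absurd (Subgroup.card_eq_one.1 h5) hE1
    · exact h5
  have h6 : E.subgroupOf Q = (Subgroup.zpowers (x : G)).subgroupOf Q := by
    apply TransferApps.cyclic_subgroup_eq_of_card
    rw [card_subgroupOf_of_le hEQ, card_subgroupOf_of_le hXQ, hEcard, Nat.card_zpowers, hxo]
  have h7 : E = Subgroup.zpowers (x : G) := by
    have := congrArg (Subgroup.map (Q : Subgroup G).subtype) h6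
    rwa [Subgroup.subgroupOf_map_subtype, Subgroup.subgroupOf_map_subtype, inf_eq_left.2 hEQ,
      inf_eq_left.2 hXQ] at this
  rw [h7, Subgroup.zpowers_le]
  exact x.2

end

/-- solvable; the Sylow `p`-subgroups are cyclic for all `p` dividing `|H|`. -/
theorem cj_of_cyclic (n : ℕ) : ∀ (G : Type u) [Group G] [Finite G] [Group.IsSolvable G], Nat.card G = n →
    ∀ H K : Subgroup G, Nat.card H = Nat.card K →
    (∀ p : ℕ, p.Prime → p ∣ Nat.card H → ∀ P : Sylow p G, IsCyclic P) → CJ H K := by
  induction n using Nat.strong_induction_on with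
  | _ n ih =>
  intro G _ _ _ hn H K hHK hcyc
  rcases subsingleton_or_nontrivial G with hs | hnt
  · exact ⟨1, by rw [conj_smul_one]; exact Subsingleton.elim _ _⟩
  obtain ⟨q, E, hq, hE1, hEchar, hEab, hEq⟩ := exists_characteristic_elementary G
  have hqF : Fact q.Prime := ⟨hq⟩
  have hEn : E.Normal := inferInstance
  have hEp : IsPGroup q E := isPGroup_of_forall_pow_eq_one hEq
  have hcardlt : Nat.card (G ⧸ E) < n := by
    have h1 := Subgroup.card_eq_card_quotient_mul_card_subgroup E
    have h2 : 1 < Nat.card E := E.one_lt_card_iff_ne_bot.2 hE1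
    rw [← hn, h1]
    have h3 : 0 < Nat.card (G ⧸ E) := Nat.card_pos
    nlinarith
  by_cases hqH : q ∣ Nat.card H
  · have hEH : E ≤ H := elementary_le_of_cyclic (hcyc q hq hqH) hEq hE1 hqH
    have hEK : E ≤ K := elementary_le_of_cyclic (hcyc q hq hqH) hEq hE1 (hHK ▸ hqH)
    refine cj_of_quotient_le hEH hEK (ih _ hcardlt (G ⧸ E) rfl _ _ ?_ ?_)
    · have h1 := card_map_of_le hEH
      have h2 := card_map_of_le hEK
      rw [hHK, ← h2] at h1
      exact Nat.eq_of_mul_eq_mul_right Nat.card_pos h1
    · intro p hp hpd P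
      have : Fact p.Prime := ⟨hp⟩
      apply sylow_quotient_cyclic
      apply hcyc p hp
      rw [← card_map_of_le hEH]
      exact Dvd.dvd.mul_right hpd _
  · obtain ⟨e, he⟩ := IsPGroup.iff_card.1 hEp
    have hcop : (Nat.card E).Coprime (Nat.card H) := by
      rw [he]; exact Nat.Coprime.pow_left e ((Nat.Prime.coprime_iff_not_dvd hq).2 hqH)
    have hcop' : (Nat.card E).Coprime (Nat.card K) := hHK ▸ hcop
    have hEs : Group.IsSolvable E := inferInstance
    refine cj_of_quotient_coprime hEs hcop hcop' (ih _ hcardlt (G ⧸ E) rfl _ _ ?_ ?_)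
    · rw [card_map_of_coprime hcop, card_map_of_coprime hcop', hHK]
    · intro p hp hpd P
      have : Fact p.Prime := ⟨hp⟩
      apply sylow_quotient_cyclic
      apply hcyc p hp
      rwa [card_map_of_coprime hcop] at hpd

/-- the main theorem. -/
theorem cj_of_one_exception (r : ℕ) (n : ℕ) : ∀ (G : Type u) [Group G] [Finite G] [Group.IsSolvable G], Nat.card G = n →
    (∀ p : ℕ, p.Prime → p ≠ r → ∀ P : Sylow p G, IsCyclic P) →
    (∀ H K : Subgroup G, IsPGroup r H → IsPGroup r K → Nat.card H = Nat.card K → CJ H K) →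
    ∀ H K : Subgroup G, Nat.card H = Nat.card K → CJ H K := by
  induction n using Nat.strong_induction_on with
  | _ n ih =>
  intro G _ _ _ hn hcyc hD H K hHK
  rcases subsingleton_or_nontrivial G with hs | hnt
  · exact ⟨1, by rw [conj_smul_one]; exact Subsingleton.elim _ _⟩
  obtain ⟨q, E, hq, hE1, hEchar, hEab, hEq⟩ := exists_characteristic_elementary G
  have hqF : Fact q.Prime := ⟨hq⟩
  have hEn : E.Normal := inferInstance
  have hEp : IsPGroup q E := isPGroup_of_forall_pow_eq_one hEq
  have hcardlt : Nat.card (G ⧸ E) < n := by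
    have h1 := Subgroup.card_eq_card_quotient_mul_card_subgroup E
    have h2 : 1 < Nat.card E := E.one_lt_card_iff_ne_bot.2 hE1
    rw [← hn, h1]
    have h3 : 0 < Nat.card (G ⧸ E) := Nat.card_pos
    nlinarith
  obtain ⟨e, he⟩ := IsPGroup.iff_card.1 hEp
  -- if `r` is not prime all is cyclic
  by_cases hr : r.Prime
  swap
  · exact cj_of_cyclic n G hn H K hHK (fun p hp _ => hcyc p hp (by rintro rfl; exact hr hp))
  have hrF : Fact r.Prime := ⟨hr⟩
  have hquot : ∀ p : ℕ, p.Prime → p ≠ r → ∀ P : Sylow p (G ⧸ E), IsCyclic P := by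
    intro p hp hpr P
    have : Fact p.Prime := ⟨hp⟩
    exact sylow_quotient_cyclic (hcyc p hp hpr) P
  -- the quotient inherits the condition on `r`-subgroups
  have hquotD : ∀ H K : Subgroup (G ⧸ E), IsPGroup r H → IsPGroup r K → Nat.card H = Nat.card K → CJ H K := by
    intro U V hU hV hUV
    have hsurj := QuotientGroup.mk'_surjective E
    by_cases hqr : q = r
    · subst hqr
      have hp : ∀ U : Subgroup (G ⧸ E), IsPGroup q U → IsPGroup q (U.comap (QuotientGroup.mk' E)) := by
        intro U hU
        refine hU.comap_of_ker_isPGroup _ ?_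
        rw [QuotientGroup.ker_mk']; exact hEp
      have hc : ∀ U : Subgroup (G ⧸ E), Nat.card (U.comap (QuotientGroup.mk' E)) = Nat.card U * Nat.card E := by
        intro U
        have h1 := card_map_of_le (N := E) (H := U.comap (QuotientGroup.mk' E))
          ((QuotientGroup.ker_mk' E).symm.le.trans (Subgroup.ker_le_comap _ _))
        rw [Subgroup.map_comap_eq_self_of_surjective hsurj] at h1
        exact h1.symm
      obtain ⟨g, hg⟩ := hD _ _ (hp U hU) (hp V hV) (by rw [hc, hc, hUV])
      refine ⟨(g : G ⧸ E), ?_⟩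
      have h1 := congrArg (Subgroup.map (QuotientGroup.mk' E)) hg
      rw [map_conj_smul, Subgroup.map_comap_eq_self_of_surjective hsurj,
        Subgroup.map_comap_eq_self_of_surjective hsurj] at h1
      exact h1
    · -- `U` lifts to an `r`-subgroup
      have hlift : ∀ U : Subgroup (G ⧸ E), IsPGroup r U → ∃ R : Subgroup G, IsPGroup r R ∧
          R.map (QuotientGroup.mk' E) = U ∧ Nat.card R = Nat.card U := by
        intro U hU
        let M := U.comap (QuotientGroup.mk' E)
        obtain ⟨P⟩ := (inferInstance : Nonempty (Sylow r M))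
        let f : M →* U := ((QuotientGroup.mk' E).comp M.subtype).codRestrict U (fun x => x.2)
        have hf : Function.Surjective f := by
          rintro ⟨u, hu⟩
          obtain ⟨x, rfl⟩ := hsurj u
          exact ⟨⟨x, hu⟩, rfl⟩
        let P' := P.mapSurjective hf
        have hP' : (P' : Subgroup U) = ⊤ := by
          have : IsPGroup r (⊤ : Subgroup U) := hU.to_subgroup ⊤
          exact (P'.is_maximal' this le_top).symm
        refine ⟨(P : Subgroup M).map M.subtype, P.isPGroup'.map _, ?_, ?_⟩
        · have h1 : (P : Subgroup M).map f = ⊤ := hP'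
          have h2 := congrArg (Subgroup.map U.subtype) h1
          rw [Subgroup.map_map, ← MonoidHom.range_eq_map, Subgroup.range_subtype] at h2
          rw [Subgroup.map_map]
          exact h2
        · have h1 : (P : Subgroup M).map f = ⊤ := hP'
          rw [Subgroup.card_map_of_injective M.subtype_injective]
          have h2 : Nat.card ((P : Subgroup M).map f) = Nat.card U := by rw [h1, Subgroup.card_top]
          rw [← h2]
          symm
          apply card_map_of_disjoint_ker
          rw [disjoint_iff]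
          apply Subgroup.card_eq_one.1
          obtain ⟨a, ha⟩ := IsPGroup.iff_card.1 (P.isPGroup'.to_le (inf_le_left : (P : Subgroup M) ⊓ f.ker ≤ P))
          have hker : IsPGroup q f.ker := by
            intro ⟨x, hx⟩
            have hxE : (x : G) ∈ E := by
              have h3 := congrArg Subtype.val hx
              exact (QuotientGroup.eq_one_iff _).1 h3
            refine ⟨1, ?_⟩
            apply Subtype.ext
            apply Subtype.ext
            rw [pow_one]
            exact hEq _ hxE
          obtain ⟨b, hb⟩ := IsPGroup.iff_card.1 (hker.to_le (inf_le_right : (P : Subgroup M) ⊓ f.ker ≤ f.ker))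
          rw [ha]
          have h4 : (r ^ a).Coprime (q ^ b) := Nat.Coprime.pow a b ((Nat.coprime_primes hr hq).2 (Ne.symm hqr))
          rw [ha] at hb
          rw [← hb] at h4
          exact Nat.coprime_self _ |>.1 h4
      obtain ⟨R, hR, hRU, hRc⟩ := hlift U hU
      obtain ⟨T, hT, hTV, hTc⟩ := hlift V hV
      obtain ⟨g, hg⟩ := hD R T hR hT (by rw [hRc, hTc, hUV])
      refine ⟨(g : G ⧸ E), ?_⟩
      have h1 := congrArg (Subgroup.map (QuotientGroup.mk' E)) hg
      rw [map_conj_smul, hRU, hTV] at h1
      exact h1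
  by_cases hqH : q ∣ Nat.card H
  swap
  · have hcop : (Nat.card E).Coprime (Nat.card H) := by
      rw [he]; exact Nat.Coprime.pow_left e ((Nat.Prime.coprime_iff_not_dvd hq).2 hqH)
    have hcop' : (Nat.card E).Coprime (Nat.card K) := hHK ▸ hcop
    have hEs : Group.IsSolvable E := inferInstance
    exact cj_of_quotient_coprime hEs hcop hcop' (ih _ hcardlt (G ⧸ E) rfl hquot hquotD _ _ (by
      rw [card_map_of_coprime hcop, card_map_of_coprime hcop', hHK]))
  -- if `E ≤ H, K` use induction
  have hle : E ≤ H → E ≤ K → CJ H K := by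
    intro hEH hEK
    refine cj_of_quotient_le hEH hEK (ih _ hcardlt (G ⧸ E) rfl hquot hquotD _ _ ?_)
    have h1 := card_map_of_le hEH
    have h2 := card_map_of_le hEK
    rw [hHK, ← h2] at h1
    exact Nat.eq_of_mul_eq_mul_right Nat.card_pos h1
  by_cases hqr : q = r
  swap
  · exact hle (elementary_le_of_cyclic (hcyc q hq hqr) hEq hE1 hqH)
      (elementary_le_of_cyclic (hcyc q hq hqr) hEq hE1 (hHK ▸ hqH))
  subst hqr
  -- elements of order `q` lie in `E`
  have hEmem : ∀ X : Subgroup G, IsPGroup q X → Nat.card X ∣ Nat.card E → X ≤ E := by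
    intro X hX hXE
    obtain ⟨a, ha⟩ := IsPGroup.iff_card.1 hX
    obtain ⟨Y, hY⟩ := Sylow.exists_subgroup_card_pow_prime (G := E) q (n := a) (by rw [← ha]; exact hXE)
    obtain ⟨g, hg⟩ := hD (Y.map E.subtype) X ((hEp.to_subgroup Y).map _) hX (by
      rw [Subgroup.card_map_of_injective E.subtype_injective, hY, ha])
    rw [← hg]
    have h1 := conj_smul_mono g (Subgroup.map_subtype_le Y)
    rwa [conj_smul_normal g E] at h1
  have he0 : e ≠ 0 := by
    rintro rfl
    rw [pow_zero] at he
    exact hE1 (Subgroup.card_eq_one.1 he)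
  by_cases he1 : e = 1
  · -- `|E| = q`
    have key : ∀ L : Subgroup G, q ∣ Nat.card L → E ≤ L := by
      intro L hL
      obtain ⟨x, hx⟩ := exists_prime_orderOf_dvd_card' q hL
      have h1 : Nat.card (Subgroup.zpowers (x : G)) = q := by
        rw [Nat.card_zpowers, Subgroup.orderOf_coe, hx]
      have h2 : Subgroup.zpowers (x : G) ≤ E := hEmem _ (IsPGroup.of_card (n := 1) (by rw [h1, pow_one]))
        (by rw [h1, he, he1, pow_one])
      have h3 : Subgroup.zpowers (x : G) = E := Subgroup.eq_of_le_of_card_ge h2 (by rw [h1, he, he1, pow_one])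
      rw [← h3, Subgroup.zpowers_le]
      exact x.2
    exact hle (key H hqH) (key K (hHK ▸ hqH))
  · -- all `q`-elements lie in `E`
    have hall : ∀ x : G, (∃ k, orderOf x = q ^ k) → x ∈ E := by
      rintro x ⟨k, hk⟩
      rcases Nat.lt_or_ge k 2 with hk2 | hk2
      · have h1 : Nat.card (Subgroup.zpowers x) = q ^ k := by rw [Nat.card_zpowers, hk]
        have h2 : Subgroup.zpowers x ≤ E := hEmem _ (IsPGroup.of_card h1) (by
          rw [h1, he]; exact pow_dvd_pow q (by omega))
        exact h2 (Subgroup.mem_zpowers x)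
      · exfalso
        -- an element of order `q ^ 2`
        set y := x ^ (q ^ (k - 2)) with hy
        have hyo : orderOf y = q ^ 2 := by
          have h1 : orderOf (x ^ (q ^ (k - 2))) = orderOf x / q ^ (k - 2) := by
            rw [orderOf_pow_of_dvd (pow_ne_zero _ hq.ne_zero)]
            rw [hk]; exact pow_dvd_pow q (by omega)
          rw [hy, h1, hk, Nat.pow_div (by omega) hq.pos]
          congr 1; omega
        have h1 : Nat.card (Subgroup.zpowers y) = q ^ 2 := by rw [Nat.card_zpowers, hyo]
        have h2 : Subgroup.zpowers y ≤ E := hEmem _ (IsPGroup.of_card h1) (by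
          rw [h1, he]; exact pow_dvd_pow q (by omega))
        have h3 := hEq y (h2 (Subgroup.mem_zpowers y))
        have h4 := orderOf_dvd_of_pow_eq_one h3
        rw [hyo] at h4
        have h5 := Nat.le_of_dvd hq.pos h4
        have h6 : q < q ^ 2 := by
          have := hq.one_lt
          nlinarith
        omega
    -- `H ⊓ E` is a Sylow subgroup of `H`
    have hcop : ∀ L : Subgroup G, ¬ q ∣ (E.subgroupOf L).index := by
      intro L
      obtain ⟨P⟩ := (inferInstance : Nonempty (Sylow q L))
      have h1 : (P : Subgroup L) ≤ E.subgroupOf L := by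
        intro x hx
        rw [Subgroup.mem_subgroupOf]
        apply hall
        obtain ⟨k, hk⟩ := (IsPGroup.iff_orderOf.1 P.isPGroup') ⟨x, hx⟩
        exact ⟨k, by rw [← hk, Subgroup.orderOf_mk, Subgroup.orderOf_coe]⟩
      intro h2
      exact P.not_dvd_index (h2.trans (Subgroup.index_dvd_of_le h1))
    have hcardinf : ∀ L : Subgroup G, Nat.card (E ⊓ L : Subgroup G) = q ^ (Nat.card L).factorization q := by
      intro L
      obtain ⟨a, ha⟩ := IsPGroup.iff_card.1 (hEp.to_le (inf_le_left : E ⊓ L ≤ E))
      have h1 := Subgroup.card_mul_index (E.subgroupOf L)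
      rw [card_subgroupOf, ha] at h1
      rw [ha, ← h1, Nat.factorization_mul (pow_ne_zero _ hq.ne_zero) Subgroup.index_ne_zero_of_finite,
        Finsupp.add_apply, Nat.Prime.factorization_pow hq, Finsupp.single_eq_same,
        Nat.factorization_eq_zero_of_not_dvd (hcop L), add_zero]
    obtain ⟨g, hg⟩ := hD (E ⊓ H) (E ⊓ K) (hEp.to_le inf_le_left) (hEp.to_le inf_le_left) (by
      rw [hcardinf, hcardinf, hHK])
    -- replace `H` by a conjugate
    refine cj_trans (K := MulAut.conj g • H) ⟨g, rfl⟩ ?_
    set H' := MulAut.conj g • H with hH'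
    have hH'K : Nat.card H' = Nat.card K := by rw [hH', card_conj_smul, hHK]
    have hinf : E ⊓ H' = E ⊓ K := by
      rw [← hg, hH', conj_smul_inf, conj_smul_normal g E]
    set N := E ⊓ K with hN
    set M := Subgroup.normalizer (N : Set G) with hM
    have hNM : N ≤ M := Subgroup.le_normalizer
    have hnorm : ∀ L : Subgroup G, E ⊓ L = N → L ≤ M := by
      intro L hL x hx
      rw [hM, Subgroup.mem_normalizer_iff]
      have h1 : ∀ y ∈ L, ∀ z ∈ N, y * z * y⁻¹ ∈ N := by
        intro y hy z hz
        rw [← hL] at hz ⊢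
        exact ⟨hEn.conj_mem z hz.1 y, L.mul_mem (L.mul_mem hy hz.2) (L.inv_mem hy)⟩
      intro z
      refine ⟨h1 x hx z, fun h2 => ?_⟩
      have h3 := h1 x⁻¹ (L.inv_mem hx) _ h2
      have h4 : x⁻¹ * (x * z * x⁻¹) * x⁻¹⁻¹ = z := by group
      rwa [h4] at h3
    have hH'M : H' ≤ M := hnorm H' hinf
    have hKM : K ≤ M := hnorm K rfl
    have hNH' : N ≤ H' := hinf ▸ inf_le_right
    have hNK : N ≤ K := inf_le_right
    have hNn : (N.subgroupOf M).Normal := normal_subgroupOf_iff_le_normalizer' le_rfl
    -- work in `M / N`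
    have hgoal : CJ (H'.subgroupOf M) (K.subgroupOf M) := by
      refine cj_of_quotient_le (N := N.subgroupOf M) (Subgroup.subgroupOf_mono _ hNH') (Subgroup.subgroupOf_mono _ hNK) ?_
      have hc1 := card_map_of_le (N := N.subgroupOf M) (H := H'.subgroupOf M) (Subgroup.subgroupOf_mono _ hNH')
      have hc2 := card_map_of_le (N := N.subgroupOf M) (H := K.subgroupOf M) (Subgroup.subgroupOf_mono _ hNK)
      rw [card_subgroupOf_of_le hH'M, card_subgroupOf_of_le hNM] at hc1
      rw [card_subgroupOf_of_le hKM, card_subgroupOf_of_le hNM] at hc2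
      refine cj_of_cyclic _ _ rfl _ _ ?_ ?_
      · rw [hH'K, ← hc2] at hc1
        exact Nat.eq_of_mul_eq_mul_right Nat.card_pos hc1
      · intro p hp hpd P
        have : Fact p.Prime := ⟨hp⟩
        have hpq : p ≠ q := by
          rintro rfl
          refine hcop H' ?_
          have h1 := Subgroup.card_mul_index (E.subgroupOf H')
          rw [card_subgroupOf, hinf, ← hc1, mul_comm] at h1
          have h2 := Nat.eq_of_mul_eq_mul_right Nat.card_pos h1
          rw [h2]; exact hpd
        apply sylow_quotient_cyclic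
        intro P
        exact sylow_subgroup_cyclic (hcyc p hp hpq) P
    obtain ⟨m, hm⟩ := hgoal
    refine ⟨(m : G), ?_⟩
    have h1 := congrArg (Subgroup.map M.subtype) hm
    rw [conj_smul_map_subtype, Subgroup.subgroupOf_map_subtype, Subgroup.subgroupOf_map_subtype,
      inf_eq_left.2 hH'M, inf_eq_left.2 hKM] at h1
    exact h1

end Cfsg.Agent.Lib.DConj67
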