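import Mathlib

/-!
# Double coset enumeration: checking deductions

A finite group `P` is known by a faithful action on `0 .. m-1` given by tables.  It acts on a set `Y` together with a
further permutation `T`.  The points `A p (c i)` are described by pairs `(i, word)`; edges for `T` and stabilizers of the
points `c i` are deduced from relators.
-/

set_option autoImplicit false
set_option linter.all false

namespace Cfsg.Agent.Lib.Dce

/-- table lookup -/
def look (T i : ℕ) : ℕ := (T >>> (16 * i)) % 65536

/-- list lookup -/
def nth : List ℕ → ℕ → ℕ
  | [], _ => 0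
  | a :: _, 0 => a
  | _ :: l, n + 1 => nth l n

/-- action of a word on a point -/
def actw (tab : ℕ → ℕ) : List ℕ → ℕ → ℕ
  | [], i => i
  | c :: w, i => look (tab c) (actw tab w i)

/-- all letters small -/
def lets (L : ℕ) : List ℕ → Bool
  | [] => true
  | c :: w => Nat.blt c L && lets L w

/-- equality of two words on the base -/
def eqB (tab : ℕ → ℕ) (u v : List ℕ) : List ℕ → Bool
  | [] => true
  | b :: bs => Nat.beq (actw tab u b) (actw tab v b) && eqB tab u v bs

/-- letters of relators -/
inductive Tok where
  | h (w : List ℕ) : Tok
  | t : Tok
  | T : Tok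

/-- a step along an edge -/
structure Step where
  f : ℕ
  s : List ℕ
  b : List ℕ

/-- an edge: `T (h c_i) = a c_j` -/
structure Edge where
  i : ℕ
  h : List ℕ
  j : ℕ
  a : List ℕ

/-- known facts -/
structure St where
  edges : List Edge
  stab : List (ℕ × ℕ)

/-- items of the certificate -/
inductive Item where
  | edge (r f i : ℕ) (w : List ℕ) (fw bw : List Step) (h b s a s2 : List ℕ) : Item
  | stab (r f i : ℕ) (w : List ℕ) (fw bw : List Step) (s : ℕ) : Item
  | inv (i s s' : ℕ) : Item

/-- list lookup -/
def nthE {α : Type} : List α → ℕ → Option α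
  | [], _ => none
  | a :: _, 0 => some a
  | _ :: l, n + 1 => nthE l n

/-- membership of a pair -/
def memP : List (ℕ × ℕ) → ℕ → ℕ → Bool
  | [], _, _ => false
  | p :: l, i, s => (Nat.beq p.1 i && Nat.beq p.2 s) || memP l i s

/-- all letters are known stabilizing letters -/
def allS (st : List (ℕ × ℕ)) (i : ℕ) : List ℕ → Bool
  | [] => true
  | s :: w => memP st i s && allS st i w

/-- first match -/
def fnd : List (ℕ × ℕ) → ℕ → Option ℕ
  | [], _ => none
  | p :: l, b => bif Nat.beq p.1 b then some p.2 else fnd l b

/-- letterwise image of a word -/
def phw (ph : List (ℕ × ℕ)) : List ℕ → Option (List ℕ)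
  | [] => some []
  | b :: w => match fnd ph b with
    | none => none
    | some a => match phw ph w with
      | none => none
      | some v => some (a :: v)

section defs
variable (tab : ℕ → ℕ) (L : ℕ) (base : List ℕ) (ph phI : List (ℕ × ℕ)) (iv : ℕ → ℕ)

/-- equality of words in the known group -/
def eqP (u v : List ℕ) : Bool := lets L u && (lets L v && eqB tab u v base)

/-- follow a path -/
def path (st : St) : List Tok → List Step → ℕ → List ℕ → Option (ℕ × List ℕ)
  | [], _, i, e => some (i, e)
  | Tok.h w :: ts, ss, i, e => path st ts ss i (w ++ e)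
  | Tok.t :: _, [], _, _ => none
  | Tok.t :: ts, s :: ss, i, e => match nthE st.edges s.f with
    | none => none
    | some E => match phw ph s.b with
      | none => none
      | some g => bif Nat.beq E.i i && (allS st.stab i s.s && eqP tab L base (e ++ s.s) (s.b ++ E.h)) then
          path st ts ss E.j (g ++ E.a) else none
  | Tok.T :: _, [], _, _ => none
  | Tok.T :: ts, s :: ss, i, e => match nthE st.edges s.f with
    | none => none
    | some E => match phw phI s.b with
      | none => none
      | some g => bif Nat.beq E.j i && (allS st.stab i s.s && eqP tab L base (e ++ s.s) (s.b ++ E.a)) then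
          path st ts ss E.i (g ++ E.h) else none

/-- inverse token -/
def invTok : Tok → Tok
  | Tok.h w => Tok.h (w.reverse.map iv)
  | Tok.t => Tok.T
  | Tok.T => Tok.t

/-- backward tokens -/
def back (l : List Tok) : List Tok := l.reverse.map (invTok iv)

/-- relator lookup -/
def nthR : List (List Tok) → ℕ → List Tok
  | [], _ => []
  | a :: _, 0 => a
  | _ :: l, n + 1 => nthR l n

/-- new edge: `T (e c_i) = e' c_j` gives `T (h c_i) = a c_j` -/
def newEdge (st : St) (i : ℕ) (e : List ℕ) (j : ℕ) (e' h b s a s2 : List ℕ) : Option St :=
  match phw ph b with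
  | none => none
  | some g => bif allS st.stab i s && (allS st.stab j s2 && (eqP tab L base (e ++ s) (b ++ h) && eqP tab L base (g ++ a) (e' ++ s2))) then
      some ⟨st.edges ++ [⟨i, h, j, a⟩], st.stab⟩ else none

/-- check an item -/
def step (rels : List (List Tok)) (st : St) : Item → Option St
  | Item.edge r f i w fw bw h b s a s2 =>
    match (nthR rels r).drop f with
    | [] => none
    | k :: rest =>
      match path tab L base ph phI st ((nthR rels r).take f) fw i w with
      | none => none
      | some p => match path tab L base ph phI st (back iv rest) bw i w with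
        | none => none
        | some q => match k with
          | Tok.h _ => none
          | Tok.t => newEdge tab L base ph st p.1 p.2 q.1 q.2 h b s a s2
          | Tok.T => newEdge tab L base ph st q.1 q.2 p.1 p.2 h b s a s2
  | Item.stab r f i w fw bw s =>
      match path tab L base ph phI st ((nthR rels r).take f) fw i w with
      | none => none
      | some p => match path tab L base ph phI st (back iv ((nthR rels r).drop f)) bw i w with
        | none => none
        | some q => bif Nat.beq p.1 q.1 && eqP tab L base (q.2 ++ [s]) p.2 then
            some ⟨st.edges, st.stab ++ [(p.1, s)]⟩ else none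
  | Item.inv i s s' => bif memP st.stab i s && eqP tab L base [s, s'] [] then
            some ⟨st.edges, st.stab ++ [(i, s')]⟩ else none

/-- check a list of items -/
def run (rels : List (List Tok)) : St → List Item → Option St
  | st, [] => some st
  | st, it :: l => match step tab L base ph phI iv rels st it with
    | none => none
    | some st' => run rels st' l

end defs

/-! ### soundness -/

section sound
variable {P : Type*} [Group P] {xs : ℕ → P} {φ : P →* Equiv.Perm ℕ} {tab : ℕ → ℕ} {L m : ℕ} {base : List ℕ}

/-- value of a word -/
def ev (xs : ℕ → P) (w : List ℕ) : P := (w.map xs).prod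

@[simp] theorem ev_nil : ev xs [] = 1 := rfl
@[simp] theorem ev_cons (c : ℕ) (w : List ℕ) : ev xs (c :: w) = xs c * ev xs w := by simp [ev]
@[simp] theorem ev_append (u v : List ℕ) : ev xs (u ++ v) = ev xs u * ev xs v := by simp [ev]

theorem actw_eq (hact : ∀ c < L, ∀ i < m, φ (xs c) i = look (tab c) i) (hlt : ∀ c < L, ∀ i < m, look (tab c) i < m)
    (w : List ℕ) (hw : lets L w = true) (i : ℕ) (hi : i < m) : φ (ev xs w) i = actw tab w i ∧ actw tab w i < m := by
  induction w with
  | nil => exact ⟨by simp [actw], hi⟩
  | cons c w ih =>
    simp only [lets, Bool.and_eq_true, Nat.blt_eq] at hw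
    obtain ⟨h1, h2⟩ := ih hw.2
    refine ⟨?_, hlt c hw.1 _ h2⟩
    rw [ev_cons, map_mul, Equiv.Perm.mul_apply, h1, hact c hw.1 _ h2]; rfl

theorem eqB_iff {u v : List ℕ} {bs : List ℕ} : eqB tab u v bs = true ↔ ∀ b ∈ bs, actw tab u b = actw tab v b := by
  induction bs with
  | nil => simp [eqB]
  | cons b bs ih => simp [eqB, ih]

theorem eqP_sound (hact : ∀ c < L, ∀ i < m, φ (xs c) i = look (tab c) i) (hlt : ∀ c < L, ∀ i < m, look (tab c) i < m)
    (hbase : ∀ b ∈ base, b < m) (hfaith : ∀ g, (∀ b ∈ base, φ g b = b) → g = 1) {u v : List ℕ}
    (h : eqP tab L base u v = true) : ev xs u = ev xs v := by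
  simp only [eqP, Bool.and_eq_true, eqB_iff] at h
  obtain ⟨hu, hv, hb⟩ := h
  have h1 : (ev xs v)⁻¹ * ev xs u = 1 := by
    apply hfaith
    intro b hb'
    rw [map_mul, map_inv, Equiv.Perm.mul_apply, Equiv.Perm.inv_eq_iff_eq, (actw_eq hact hlt u hu b (hbase b hb')).1,
      (actw_eq hact hlt v hv b (hbase b hb')).1, hb b hb']
  exact (inv_mul_eq_one.mp h1).symm

variable {Y : Type*} {A : P →* Equiv.Perm Y} {T : Equiv.Perm Y} {c : ℕ → Y} {ph phI : List (ℕ × ℕ)} {iv : ℕ → ℕ}

/-- permutation of a token -/
def tokP (xs : ℕ → P) (A : P →* Equiv.Perm Y) (T : Equiv.Perm Y) : Tok → Equiv.Perm Y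
  | Tok.h w => A (ev xs w)
  | Tok.t => T
  | Tok.T => T⁻¹

/-- permutation of a sequence of tokens, the first one applied first -/
def seqP (xs : ℕ → P) (A : P →* Equiv.Perm Y) (T : Equiv.Perm Y) : List Tok → Equiv.Perm Y
  | [] => 1
  | k :: l => seqP xs A T l * tokP xs A T k

theorem seqP_append (l l' : List Tok) : seqP xs A T (l ++ l') = seqP xs A T l' * seqP xs A T l := by
  induction l with
  | nil => simp [seqP]
  | cons k l ih => simp [seqP, ih, mul_assoc]

/-- letters of a token are small -/
def tokL (n0 : ℕ) : Tok → Bool
  | Tok.h w => lets n0 w
  | _ => true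

theorem ev_inv {n0 : ℕ} (hiv : ∀ c < n0, xs (iv c) = (xs c)⁻¹) (w : List ℕ) (hw : lets n0 w = true) :
    ev xs (w.reverse.map iv) = (ev xs w)⁻¹ := by
  induction w with
  | nil => simp
  | cons c w ih =>
    simp only [lets, Bool.and_eq_true, Nat.blt_eq] at hw
    rw [List.reverse_cons, List.map_append, ev_append, ih hw.2, ev_cons, mul_inv_rev]
    simp [hiv c hw.1]

theorem seqP_back {n0 : ℕ} (hiv : ∀ c < n0, xs (iv c) = (xs c)⁻¹) (l : List Tok) (hl : l.all (tokL n0) = true) :
    seqP xs A T (back iv l) = (seqP xs A T l)⁻¹ := by
  induction l with
  | nil => simp [back, seqP]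
  | cons k l ih =>
    simp only [List.all_cons, Bool.and_eq_true] at hl
    have h1 : back iv (k :: l) = back iv l ++ [invTok iv k] := by simp [back]
    rw [h1, seqP_append, ih hl.2]
    simp only [seqP, mul_inv_rev, one_mul]
    congr 1
    cases k with
    | h w => simp only [invTok, tokP, ev_inv hiv w hl.1, map_inv]
    | t => rfl
    | T => simp [invTok, tokP]

/-- the facts hold -/
def Inv (xs : ℕ → P) (A : P →* Equiv.Perm Y) (T : Equiv.Perm Y) (c : ℕ → Y) (st : St) : Prop :=
  (∀ E ∈ st.edges, T (A (ev xs E.h) (c E.i)) = A (ev xs E.a) (c E.j)) ∧
    ∀ p ∈ st.stab, A (xs p.2) (c p.1) = c p.1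

theorem nthE_mem {α : Type} {l : List α} {n : ℕ} {a : α} (h : nthE l n = some a) : a ∈ l := by
  induction l generalizing n with
  | nil => simp [nthE] at h
  | cons b l ih =>
    cases n with
    | zero => simp only [nthE, Option.some.injEq] at h; simp [h]
    | succ n => simp only [nthE] at h; exact List.mem_cons_of_mem _ (ih h)

theorem memP_mem {l : List (ℕ × ℕ)} {i s : ℕ} (h : memP l i s = true) : (i, s) ∈ l := by
  induction l with
  | nil => simp [memP] at h
  | cons p l ih =>
    simp only [memP, Bool.or_eq_true, Bool.and_eq_true, Nat.beq_eq] at h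
    rcases h with ⟨h1, h2⟩ | h
    · obtain ⟨a, b⟩ := p; simp only at h1 h2; subst h1 h2; simp
    · exact List.mem_cons_of_mem _ (ih h)

theorem allS_sound {st : List (ℕ × ℕ)} (hst : ∀ p ∈ st, A (xs p.2) (c p.1) = c p.1) {i : ℕ} {w : List ℕ}
    (h : allS st i w = true) : A (ev xs w) (c i) = c i := by
  induction w with
  | nil => simp
  | cons s w ih =>
    simp only [allS, Bool.and_eq_true] at h
    rw [ev_cons, map_mul, Equiv.Perm.mul_apply, ih h.2]
    exact hst _ (memP_mem h.1)

theorem fnd_mem {l : List (ℕ × ℕ)} {b a : ℕ} (h : fnd l b = some a) : (b, a) ∈ l := by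
  induction l with
  | nil => simp [fnd] at h
  | cons p l ih =>
    simp only [fnd] at h
    cases hp : Nat.beq p.1 b with
    | true =>
      rw [hp] at h; simp only [cond_true, Option.some.injEq] at h
      have := Nat.eq_of_beq_eq_true hp
      obtain ⟨x, y⟩ := p; simp only at h this; subst h this; simp
    | false => rw [hp] at h; exact List.mem_cons_of_mem _ (ih h)

theorem phw_sound (hph : ∀ p ∈ ph, T * A (xs p.1) = A (xs p.2) * T) {w v : List ℕ} (h : phw ph w = some v) :
    T * A (ev xs w) = A (ev xs v) * T := by
  induction w generalizing v with
  | nil => simp only [phw, Option.some.injEq] at h; subst h; simp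
  | cons b w ih =>
    simp only [phw] at h
    cases hb : fnd ph b with
    | none => rw [hb] at h; simp at h
    | some a =>
      rw [hb] at h; simp only at h
      cases hw : phw ph w with
      | none => rw [hw] at h; simp at h
      | some u =>
        rw [hw] at h; simp only [Option.some.injEq] at h; subst h
        rw [ev_cons, ev_cons, map_mul, map_mul, ← mul_assoc, hph _ (fnd_mem hb), mul_assoc, ih hw, mul_assoc]

variable (hact : ∀ c < L, ∀ i < m, φ (xs c) i = look (tab c) i) (hlt : ∀ c < L, ∀ i < m, look (tab c) i < m)
  (hbase : ∀ b ∈ base, b < m) (hfaith : ∀ g, (∀ b ∈ base, φ g b = b) → g = 1)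
  (hph : ∀ p ∈ ph, T * A (xs p.1) = A (xs p.2) * T) (hphI : ∀ p ∈ phI, T⁻¹ * A (xs p.1) = A (xs p.2) * T⁻¹)
include hact hlt hbase hfaith hph hphI

theorem path_sound {st : St} (hst : Inv xs A T c st) (ts : List Tok) (ss : List Step) (i : ℕ) (e : List ℕ) {j : ℕ} {e' : List ℕ}
    (h : path tab L base ph phI st ts ss i e = some (j, e')) : seqP xs A T ts (A (ev xs e) (c i)) = A (ev xs e') (c j) := by
  induction ts generalizing ss i e with
  | nil => simp only [path, Option.some.injEq, Prod.mk.injEq] at h; obtain ⟨rfl, rfl⟩ := h; simp [seqP]
  | cons k ts ih =>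
    cases k with
    | h w =>
      simp only [path] at h
      have := ih ss i (w ++ e) h
      rw [ev_append, map_mul, Equiv.Perm.mul_apply] at this
      simp only [seqP, Equiv.Perm.mul_apply, tokP]
      exact this
    | t =>
      cases ss with
      | nil => simp [path] at h
      | cons s ss =>
        simp only [path] at h
        cases hE : nthE st.edges s.f with
        | none => rw [hE] at h; simp at h
        | some E =>
          rw [hE] at h; simp only at h
          cases hg : phw ph s.b with
          | none => rw [hg] at h; simp at h
          | some g =>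
            rw [hg] at h; simp only at h
            cases hc : (Nat.beq E.i i && (allS st.stab i s.s && eqP tab L base (e ++ s.s) (s.b ++ E.h))) with
            | false => rw [hc] at h; simp at h
            | true =>
              rw [hc] at h; simp only [cond_true] at h
              simp only [Bool.and_eq_true, Nat.beq_eq] at hc
              obtain ⟨h1, h2, h3⟩ := hc
              have h4 := ih ss E.j (g ++ E.a) h
              have h5 := eqP_sound hact hlt hbase hfaith h3
              have h6 := allS_sound hst.2 h2
              have h7 := hst.1 E (nthE_mem hE)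
              have h8 := phw_sound hph hg
              subst h1
              rw [← h4]
              simp only [seqP, Equiv.Perm.mul_apply, tokP]
              congr 1
              have h9 : A (ev xs e) (c E.i) = A (ev xs s.b) (A (ev xs E.h) (c E.i)) := by
                rw [← Equiv.Perm.mul_apply, ← map_mul, ← ev_append, ← h5, ev_append, map_mul, Equiv.Perm.mul_apply, h6]
              rw [h9, ← Equiv.Perm.mul_apply T, h8, Equiv.Perm.mul_apply, h7, ev_append, map_mul, Equiv.Perm.mul_apply]
    | T =>
      cases ss with
      | nil => simp [path] at h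
      | cons s ss =>
        simp only [path] at h
        cases hE : nthE st.edges s.f with
        | none => rw [hE] at h; simp at h
        | some E =>
          rw [hE] at h; simp only at h
          cases hg : phw phI s.b with
          | none => rw [hg] at h; simp at h
          | some g =>
            rw [hg] at h; simp only at h
            cases hc : (Nat.beq E.j i && (allS st.stab i s.s && eqP tab L base (e ++ s.s) (s.b ++ E.a))) with
            | false => rw [hc] at h; simp at h
            | true =>
              rw [hc] at h; simp only [cond_true] at h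
              simp only [Bool.and_eq_true, Nat.beq_eq] at hc
              obtain ⟨h1, h2, h3⟩ := hc
              have h4 := ih ss E.i (g ++ E.h) h
              have h5 := eqP_sound hact hlt hbase hfaith h3
              have h6 := allS_sound hst.2 h2
              have h7 := hst.1 E (nthE_mem hE)
              have h8 := phw_sound hphI hg
              subst h1
              rw [← h4]
              simp only [seqP, Equiv.Perm.mul_apply, tokP]
              congr 1
              have h9 : A (ev xs e) (c E.j) = A (ev xs s.b) (A (ev xs E.a) (c E.j)) := by
                rw [← Equiv.Perm.mul_apply, ← map_mul, ← ev_append, ← h5, ev_append, map_mul, Equiv.Perm.mul_apply, h6]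
              have h10 : T⁻¹ (A (ev xs E.a) (c E.j)) = A (ev xs E.h) (c E.i) := by
                rw [Equiv.Perm.inv_eq_iff_eq, h7]
              rw [h9, ← Equiv.Perm.mul_apply T⁻¹, h8, Equiv.Perm.mul_apply, h10, ev_append, map_mul, Equiv.Perm.mul_apply]

theorem newEdge_sound {st st' : St} (hst : Inv xs A T c st) {i j : ℕ} {e e' h b s a s2 : List ℕ}
    (he : T (A (ev xs e) (c i)) = A (ev xs e') (c j)) (hn : newEdge tab L base ph st i e j e' h b s a s2 = some st') :
    Inv xs A T c st' := by
  simp only [newEdge] at hn
  cases hg : phw ph b with
  | none => rw [hg] at hn; simp at hn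
  | some g =>
    rw [hg] at hn; simp only at hn
    cases hc : (allS st.stab i s && (allS st.stab j s2 && (eqP tab L base (e ++ s) (b ++ h) && eqP tab L base (g ++ a) (e' ++ s2)))) with
    | false => rw [hc] at hn; simp at hn
    | true =>
      rw [hc] at hn; simp only [cond_true, Option.some.injEq] at hn
      simp only [Bool.and_eq_true] at hc
      obtain ⟨h1, h2, h3, h4⟩ := hc
      have k1 := allS_sound hst.2 h1
      have k2 := allS_sound hst.2 h2
      have k3 := eqP_sound hact hlt hbase hfaith h3
      have k4 := eqP_sound hact hlt hbase hfaith h4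
      have k5 := phw_sound hph hg
      subst hn
      refine ⟨?_, hst.2⟩
      intro E hE
      rcases List.mem_append.mp hE with hE | hE
      · exact hst.1 E hE
      · rw [List.mem_singleton] at hE; subst hE
        simp only
        have h9 : A (ev xs e) (c i) = A (ev xs b) (A (ev xs h) (c i)) := by
          rw [← Equiv.Perm.mul_apply, ← map_mul, ← ev_append, ← k3, ev_append, map_mul, Equiv.Perm.mul_apply, k1]
        have h10 : A (ev xs e') (c j) = A (ev xs g) (A (ev xs a) (c j)) := by
          rw [← Equiv.Perm.mul_apply, ← map_mul, ← ev_append, k4, ev_append, map_mul, Equiv.Perm.mul_apply, k2]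
        rw [h9, ← Equiv.Perm.mul_apply T, k5, Equiv.Perm.mul_apply, h10] at he
        exact (A (ev xs g)).injective he

variable {rels : List (List Tok)} (hrels : ∀ r ∈ rels, seqP xs A T r = 1) {n0 : ℕ}
  (hiv : ∀ c < n0, xs (iv c) = (xs c)⁻¹) (hn0 : ∀ r ∈ rels, r.all (tokL n0) = true)
include hrels hiv hn0

omit hact hlt hbase hfaith hph hphI in
theorem nthR_sound (r f : ℕ) : seqP xs A T (back iv ((nthR rels r).drop f)) = seqP xs A T ((nthR rels r).take f) ∧
    (nthR rels r).all (tokL n0) = true := by
  have h1 : seqP xs A T (nthR rels r) = 1 ∧ (nthR rels r).all (tokL n0) = true := by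
    clear hiv
    induction rels generalizing r with
    | nil => simp [nthR, seqP]
    | cons a l ih =>
      cases r with
      | zero => exact ⟨hrels a (by simp), hn0 a (by simp)⟩
      | succ r => exact ih (fun r hr => hrels r (by simp [hr])) (fun r hr => hn0 r (by simp [hr])) r
  refine ⟨?_, h1.2⟩
  have h2 : ((nthR rels r).drop f).all (tokL n0) = true := by
    rw [List.all_eq_true] at h1 ⊢
    intro k hk
    exact h1.2 k (List.mem_of_mem_drop hk)
  rw [seqP_back hiv _ h2]
  have h3 := h1.1
  rw [← List.take_append_drop f (nthR rels r), seqP_append] at h3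
  exact (eq_inv_of_mul_eq_one_right h3).symm

theorem step_sound {st st' : St} (hst : Inv xs A T c st) {it : Item} (h : step tab L base ph phI iv rels st it = some st') :
    Inv xs A T c st' := by
  cases it with
  | edge r f i w fw bw hh b s a s2 =>
    simp only [step] at h
    obtain ⟨hr, hall⟩ := nthR_sound hrels hiv hn0 r f
    cases hd : (nthR rels r).drop f with
    | nil => rw [hd] at h; simp at h
    | cons k rest =>
      rw [hd] at h hr; simp only at h
      cases hp : path tab L base ph phI st ((nthR rels r).take f) fw i w with
      | none => rw [hp] at h; simp at h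
      | some p =>
        rw [hp] at h; simp only at h
        cases hq : path tab L base ph phI st (back iv rest) bw i w with
        | none => rw [hq] at h; simp at h
        | some q =>
          rw [hq] at h; simp only at h
          obtain ⟨pi, pe⟩ := p
          obtain ⟨qi, qe⟩ := q
          have h1 := path_sound hact hlt hbase hfaith hph hphI hst _ _ _ _ hp
          have h2 := path_sound hact hlt hbase hfaith hph hphI hst _ _ _ _ hq
          have hkl : (k :: rest).all (tokL n0) = true := by
            rw [← hd]
            rw [List.all_eq_true] at hall ⊢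
            exact fun k hk => hall k (List.mem_of_mem_drop hk)
          have hk2 : rest.all (tokL n0) = true := by
            simp only [List.all_cons, Bool.and_eq_true] at hkl; exact hkl.2
          rw [seqP_back hiv _ hkl] at hr
          rw [seqP_back hiv _ hk2] at h2
          have h3 : tokP xs A T k (A (ev xs pe) (c pi)) = A (ev xs qe) (c qi) := by
            rw [← h1, ← h2, ← hr]
            simp only [seqP, mul_inv_rev, Equiv.Perm.mul_apply]
            exact (tokP xs A T k).apply_symm_apply _
          cases k with
          | h w => simp at h
          | t => exact newEdge_sound hact hlt hbase hfaith hph hphI hst h3 h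
          | T =>
            refine newEdge_sound hact hlt hbase hfaith hph hphI hst ?_ h
            simp only [tokP, Equiv.Perm.inv_eq_iff_eq] at h3
            exact h3.symm
  | stab r f i w fw bw s =>
    simp only [step] at h
    obtain ⟨hr, hall⟩ := nthR_sound hrels hiv hn0 r f
    cases hp : path tab L base ph phI st ((nthR rels r).take f) fw i w with
    | none => rw [hp] at h; simp at h
    | some p =>
      rw [hp] at h; simp only at h
      cases hq : path tab L base ph phI st (back iv ((nthR rels r).drop f)) bw i w with
      | none => rw [hq] at h; simp at h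
      | some q =>
        rw [hq] at h; simp only at h
        obtain ⟨pi, pe⟩ := p
        obtain ⟨qi, qe⟩ := q
        have h1 := path_sound hact hlt hbase hfaith hph hphI hst _ _ _ _ hp
        have h2 := path_sound hact hlt hbase hfaith hph hphI hst _ _ _ _ hq
        cases hc : (Nat.beq pi qi && eqP tab L base (qe ++ [s]) pe) with
        | false => simp only [hc] at h; simp at h
        | true =>
          simp only [hc, cond_true, Option.some.injEq] at h
          simp only [Bool.and_eq_true, Nat.beq_eq] at hc
          obtain ⟨rfl, h4⟩ := hc
          have h5 := eqP_sound hact hlt hbase hfaith h4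
          rw [hr, h1] at h2
          rw [← h5, ev_append, map_mul, Equiv.Perm.mul_apply] at h2
          have h6 := (A (ev xs qe)).injective h2
          subst h
          refine ⟨hst.1, ?_⟩
          intro p hp'
          rcases List.mem_append.mp hp' with hp' | hp'
          · exact hst.2 p hp'
          · rw [List.mem_singleton] at hp'; subst hp'
            simpa using h6
  | inv i s s' =>
    simp only [step] at h
    cases hc : (memP st.stab i s && eqP tab L base [s, s'] []) with
    | false => simp only [hc] at h; simp at h
    | true =>
      simp only [hc, cond_true, Option.some.injEq] at h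
      simp only [Bool.and_eq_true] at hc
      have h1 := hst.2 _ (memP_mem hc.1)
      have h2 := eqP_sound hact hlt hbase hfaith hc.2
      subst h
      refine ⟨hst.1, ?_⟩
      intro p hp'
      rcases List.mem_append.mp hp' with hp' | hp'
      · exact hst.2 p hp'
      · rw [List.mem_singleton] at hp'; subst hp'
        simp only [ev_cons, ev_nil, mul_one] at h2 h1 ⊢
        have h3 : xs s' = (xs s)⁻¹ := (inv_eq_of_mul_eq_one_right h2).symm
        rw [h3, map_inv, Equiv.Perm.inv_eq_iff_eq]
        exact h1.symm

theorem run_sound {st st' : St} (hst : Inv xs A T c st) {l : List Item} (h : run tab L base ph phI iv rels st l = some st') :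
    Inv xs A T c st' := by
  induction l generalizing st with
  | nil => simp only [run, Option.some.injEq] at h; subst h; exact hst
  | cons it l ih =>
    simp only [run] at h
    cases hs : step tab L base ph phI iv rels st it with
    | none => rw [hs] at h; simp at h
    | some st1 =>
      rw [hs] at h; simp only at h
      exact ih (step_sound hact hlt hbase hfaith hph hphI hrels hiv hn0 hst hs) h

end sound

end Cfsg.Agent.Lib.Dce
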