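import Cfsg.Agent.Lib.DceEq

/-!
# Double coset enumeration: groups from tables, assembled
-/

set_option autoImplicit false
set_option linter.all false

namespace Cfsg.Agent.Lib.Dce

open Cfsg.Agent.Lib.BenesWord

section stab
variable {P : Type*} [Group P] {xs : ℕ → P} {φ : P →* Equiv.Perm ℕ} {tab : ℕ → ℕ} {L m : ℕ}
variable (hact : ∀ c < L, ∀ i < m, φ (xs c) i = look (tab c) i) (hlt : ∀ c < L, ∀ i < m, look (tab c) i < m)
include hact hlt

/-- the orbit of a point has at least the given size -/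
theorem fix_le [Finite P] {N pt : ℕ} (hN : Nat.card P ≤ N) (hpt : pt < m) {Ws : List (List ℕ)} {og : List (List ℕ × List ℕ)} {M cnt : ℕ}
    (hg : growH tab L Ws [] og (2 ^ pt) 1 = some (M, cnt)) :
    cnt * Nat.card (fixL φ (⊤ : Subgroup P) [pt]) ≤ N := by
  obtain ⟨F, f1, f2, f3⟩ := growH_sound hact hlt (K := (⊤ : Subgroup P)) (Ws := Ws) (fun w _ => trivial) (prev := []) (by simp)
    (Q := fun q => ∃ g ∈ (⊤ : Subgroup P), φ g pt = q) (by
      rintro g hg q ⟨g', hg', rfl⟩
      exact ⟨g * g', trivial, by rw [map_mul]; rfl⟩) og (F := {pt}) (by simp) (by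
      intro q; simp [Nat.testBit_two_pow, eq_comm]) (by
      intro q hq
      rw [Finset.mem_singleton] at hq; subst hq
      exact ⟨hpt, 1, trivial, by simp⟩) hg
  have hcs := card_step (φ := φ) (⊤ : Subgroup P) pt F (fun q hq => (f3 q hq).2)
  rw [f1] at hcs
  exact le_trans hcs (le_trans (Subgroup.card_le_card_group _) hN)

/-- the stabilizer of a point is the given subgroup -/
theorem stab_of [Finite P] {N b pt : ℕ} (hN : Nat.card P ≤ N) (hpt : pt < m) {B : Subgroup P} {Ws : List (List ℕ)}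
    {og : List (List ℕ × List ℕ)} {M cnt : ℕ}
    (hg : growH tab L Ws [] og (2 ^ pt) 1 = some (M, cnt)) (hb : b ≤ Nat.card B) (hfix : ∀ g ∈ B, φ g pt = pt)
    (hprod : cnt * b = N) (hN0 : 0 < N) : (∀ g, φ g pt = pt → g ∈ B) ∧ Nat.card B = b := by
  have h1 := fix_le hact hlt hN hpt hg
  have hcnt : 0 < cnt := by
    rcases Nat.eq_zero_or_pos cnt with h | h
    · rw [h, zero_mul] at hprod; omega
    · exact h
  have h2 : Nat.card (fixL φ (⊤ : Subgroup P) [pt]) ≤ b := by
    rw [← hprod] at h1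
    exact Nat.le_of_mul_le_mul_left h1 hcnt
  have h3 : B ≤ fixL φ (⊤ : Subgroup P) [pt] := fun a ha => ⟨trivial, fun q hq => by
    rw [List.mem_singleton] at hq; rw [hq]; exact hfix a ha⟩
  have h4 : B = fixL φ (⊤ : Subgroup P) [pt] := Subgroup.eq_of_le_of_card_ge h3 (le_trans h2 hb)
  refine ⟨fun g hg => ?_, le_antisymm ?_ hb⟩
  · rw [h4]
    exact ⟨trivial, fun q hq => by rw [List.mem_singleton] at hq; subst hq; exact hg⟩
  · rw [h4]; exact h2

/-- all source letters fix the point -/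
def fixB (tab : ℕ → ℕ) (L pt : ℕ) : List (ℕ × ℕ) → Bool
  | [] => true
  | p :: l => (Nat.blt p.1 L && (Nat.blt p.2 L && Nat.beq (look (tab p.1) pt) pt)) && fixB tab L pt l

omit hact hlt in
theorem fixB_spec {pt : ℕ} {ph : List (ℕ × ℕ)} (h : fixB tab L pt ph = true) :
    ∀ p ∈ ph, p.1 < L ∧ p.2 < L ∧ look (tab p.1) pt = pt := by
  induction ph with
  | nil => intro p hp; simp at hp
  | cons a l ih =>
    simp only [fixB, Bool.and_eq_true, Nat.blt_eq, Nat.beq_eq] at h
    intro p hp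
    rcases List.mem_cons.mp hp with rfl | hp
    · exact ⟨h.1.1, h.1.2.1, h.1.2.2⟩
    · exact ih h.2 p hp

theorem Bs_fix {pt : ℕ} (hpt : pt < m) {ph : List (ℕ × ℕ)} (h : fixB tab L pt ph = true) : ∀ g ∈ Bs xs ph, φ g pt = pt := by
  intro g hg
  induction hg using Subgroup.closure_induction with
  | mem x hx =>
    obtain ⟨p, hp, rfl⟩ := hx
    have := fixB_spec h p hp
    rw [hact _ this.1 _ hpt, this.2.2]
  | one => simp
  | mul x y _ _ hx hy => rw [map_mul, Equiv.Perm.mul_apply, hy, hx]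
  | inv x _ hx => rw [map_inv, Equiv.Perm.inv_eq_iff_eq, hx]

end stab

section grp
variable {tab iv : ℕ → ℕ} {m n0 : ℕ}

/-- the letters generate -/
theorem PG_top (h : allI tab iv m n0 n0 = true) (K : Subgroup (PG tab iv m n0)) (hK : ∀ c < n0, xb tab iv m n0 c ∈ K) : K = ⊤ := by
  rw [eq_top_iff]
  rintro ⟨g, hg⟩ -
  have key : ∀ g (hg : g ∈ PG tab iv m n0), (⟨g, hg⟩ : PG tab iv m n0) ∈ K := by
    intro g hg
    induction hg using Subgroup.closure_induction with
    | mem x hx =>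
      obtain ⟨c, hc, rfl⟩ := hx
      have := hK c hc
      have e : xb tab iv m n0 c = ⟨gperm tab iv m c, Subgroup.subset_closure ⟨c, hc, rfl⟩⟩ := by
        unfold xb; rw [dif_pos hc]
      rw [e] at this
      exact this
    | one => exact K.one_mem
    | mul x y hx hy hx' hy' => exact K.mul_mem hx' hy'
    | inv x hx hx' => exact K.inv_mem hx'
  exact key g hg

/-- a map to the group hitting the letters is onto -/
theorem onto_of {G : Type*} [Group G] (h : allI tab iv m n0 n0 = true) (f : G →* PG tab iv m n0)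
    (hf : ∀ c < n0, ∃ g, f g = xb tab iv m n0 c) : Function.Surjective f := by
  rw [← MonoidHom.range_eq_top]
  exact PG_top h _ (fun c hc => by obtain ⟨g, hg⟩ := hf c hc; exact ⟨g, hg⟩)

/-- check that all relators act trivially -/
def relT (tab iv : ℕ → ℕ) (m : ℕ) (μ : ℕ → List ℕ) (l : List Wd) : Bool := l.all (fun W => trivT tab (fw μ iv W) m)

theorem relT_sound (h : allI tab iv m n0 n0 = true) {μ : ℕ → List ℕ} (hμ : ∀ c, lets n0 (μ c) = true) {l : List Wd}
    (hl : relT tab iv m μ l = true) : ∀ W ∈ l, W.eval (fun c => ev (xb tab iv m n0) (μ c)) = 1 := by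
  intro W hW
  have h1 := fw_eval (x := xb tab iv m n0) hμ (fun c hc => ⟨(allI_spec h c hc).2.1, xb_iv h hc⟩) W
  rw [← h1.1]
  exact triv_sound h h1.2 (List.all_eq_true.mp hl W hW)

end grp

/-- order of a finite group with a surjection onto a group at least as large -/
theorem bij_of_card {G K : Type*} [Group G] [Group K] [Finite G] (f : G →* K) (hf : Function.Surjective f) {N : ℕ}
    (h1 : Nat.card G ≤ N) (h2 : N ≤ Nat.card K) : Function.Bijective f ∧ Nat.card G = N ∧ Nat.card K = N := by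
  have h3 := Nat.card_le_card_of_surjective _ hf
  have e1 : Nat.card G = N := by omega
  have e2 : Nat.card K = N := by omega
  exact ⟨hf.bijective_of_nat_card_le (by omega), e1, e2⟩

theorem bound_of_index {G : Type*} [Group G] {H : Subgroup G} {n U V : ℕ} (hidx : H.index = n) (hn : n ≠ 0)
    (hT : Finite H ∧ Nat.card H ≤ U) (hV : n * U = V) : Finite G ∧ Nat.card G ≤ V := by
  obtain ⟨h1, h2⟩ := hT
  have h3 : H.FiniteIndex := ⟨by rw [hidx]; exact hn⟩
  have h4 : Finite G := Finite.of_equiv _ (Subgroup.groupEquivQuotientProdSubgroup (s := H)).symm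
  refine ⟨h4, ?_⟩
  rw [← H.index_mul_card, hidx, ← hV]
  exact Nat.mul_le_mul_left _ h2

theorem bound_of_quot {G : Type*} [Group G] {H : Subgroup G} {n U V : ℕ} (hq : Finite (G ⧸ H) ∧ Nat.card (G ⧸ H) ≤ n)
    (hT : Finite H ∧ Nat.card H ≤ U) (hV : n * U = V) : Finite G ∧ Nat.card G ≤ V := by
  obtain ⟨h1, h2⟩ := hT
  obtain ⟨h3, h3'⟩ := hq
  have h4 : Finite G := Finite.of_equiv _ (Subgroup.groupEquivQuotientProdSubgroup (s := H)).symm
  refine ⟨h4, ?_⟩
  rw [← H.index_mul_card, ← hV]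
  exact Nat.mul_le_mul h3' h2

theorem zp_bound {G : Type*} [Group G] {q : G} {n : ℕ} (hn : 0 < n) (h : q ^ n = 1) :
    Finite (Subgroup.zpowers q) ∧ Nat.card (Subgroup.zpowers q) ≤ n := by
  have h1 : IsOfFinOrder q := isOfFinOrder_iff_pow_eq_one.mpr ⟨n, hn, h⟩
  exact ⟨finite_zpowers.mpr h1, by rw [Nat.card_zpowers]; exact Nat.le_of_dvd hn (orderOf_dvd_of_pow_eq_one h)⟩

theorem le_bound {G : Type*} [Group G] {H K : Subgroup G} {n : ℕ} (h : H ≤ K) (hK : Finite K ∧ Nat.card K ≤ n) :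
    Finite H ∧ Nat.card H ≤ n := by
  obtain ⟨h1, h2⟩ := hK
  have : Finite H := Finite.of_injective _ (Subgroup.inclusion_injective h)
  exact ⟨this, le_trans (Nat.card_le_card_of_injective _ (Subgroup.inclusion_injective h)) h2⟩

theorem range_bound {G K : Type*} [Group G] [Group K] (f : G →* K) {n : ℕ} (hG : Finite G ∧ Nat.card G ≤ n) :
    Finite f.range ∧ Nat.card f.range ≤ n := by
  obtain ⟨h1, h2⟩ := hG
  exact ⟨Finite.of_surjective _ f.rangeRestrict_surjective,
    le_trans (Nat.card_le_card_of_surjective _ f.rangeRestrict_surjective) h2⟩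

end Cfsg.Agent.Lib.Dce
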