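import Cfsg.Agent.Lib.DceAux

/-!
# Double coset enumeration: invariant initial segments
-/

set_option autoImplicit false
set_option linter.all false

namespace Cfsg.Agent.Lib.Dce

/-- a table maps an initial segment to itself -/
def blkT (T mo : ℕ) : ℕ → Bool
  | 0 => true
  | n + 1 => Nat.blt (look T n) mo && blkT T mo n

/-- the first tables map an initial segment to itself -/
def blkA (tab : ℕ → ℕ) (mo : ℕ) : ℕ → Bool
  | 0 => true
  | c + 1 => blkT (tab c) mo mo && blkA tab mo c

theorem blkT_spec {T mo n : ℕ} (h : blkT T mo n = true) : ∀ i < n, look T i < mo := by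
  induction n with
  | zero => intro i hi; omega
  | succ n ih =>
    simp only [blkT, Bool.and_eq_true, Nat.blt_eq] at h
    intro i hi
    rcases Nat.lt_succ_iff_lt_or_eq.mp hi with hi | rfl
    · exact ih h.2 i hi
    · exact h.1

theorem blkA_spec {tab : ℕ → ℕ} {mo n : ℕ} (h : blkA tab mo n = true) : ∀ c < n, ∀ i < mo, look (tab c) i < mo := by
  induction n with
  | zero => intro i hi; omega
  | succ n ih =>
    simp only [blkA, Bool.and_eq_true] at h
    intro i hi
    rcases Nat.lt_succ_iff_lt_or_eq.mp hi with hi | rfl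
    · exact ih h.2 i hi
    · exact blkT_spec h.1

theorem PG_block {tab iv : ℕ → ℕ} {m n0 mo : ℕ} (h : allI tab iv m n0 n0 = true) (hmo : mo ≤ m) (hb : blkA tab mo n0 = true) :
    ∀ (g : PG tab iv m n0) (i : ℕ), i < mo → (PG tab iv m n0).subtype g i < mo := by
  have hb' := blkA_spec hb
  let K : Subgroup (PG tab iv m n0) :=
    { carrier := {g | (∀ i < mo, (PG tab iv m n0).subtype g i < mo) ∧ ∀ i < mo, (PG tab iv m n0).subtype g⁻¹ i < mo}
      one_mem' := by rw [Set.mem_setOf_eq, inv_one, map_one]; exact ⟨fun i hi => hi, fun i hi => hi⟩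
      mul_mem' := by
        rintro a b ⟨ha, ha'⟩ ⟨hb, hb'⟩
        refine ⟨fun i hi => ?_, fun i hi => ?_⟩
        · rw [map_mul]; exact ha _ (hb i hi)
        · rw [mul_inv_rev, map_mul]; exact hb' _ (ha' i hi)
      inv_mem' := by
        rintro a ⟨ha, ha'⟩
        exact ⟨ha', by rw [inv_inv]; exact ha⟩ }
  have hK : K = ⊤ := PG_top h K (fun c hc => ⟨fun i hi => by
    rw [xb_act h hc (lt_of_lt_of_le hi hmo)]; exact hb' c hc i hi, fun i hi => by
    rw [← xb_iv h hc, xb_act h (allI_spec h c hc).2.1 (lt_of_lt_of_le hi hmo)]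
    exact hb' _ (allI_spec h c hc).2.1 i hi⟩)
  intro g i hi
  have : g ∈ K := by rw [hK]; trivial
  exact this.1 i hi

end Cfsg.Agent.Lib.Dce
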