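import Cfsg.Agent.Lib.DceAux2

/-!
# Double coset enumeration: stabilizers generated by letters and their inverses
-/

set_option autoImplicit false
set_option linter.all false

namespace Cfsg.Agent.Lib.Dce

/-- some letter of the list is inverse -/
def anyI (tab : ℕ → ℕ) (L : ℕ) (base : List ℕ) (s : ℕ) : List ℕ → Bool
  | [] => false
  | g :: l => eqP tab L base [s, g] [] || anyI tab L base s l

/-- all stabilizer letters of a point are in a list up to inverses -/
def onlyI (tab : ℕ → ℕ) (L : ℕ) (base : List ℕ) (G : List ℕ) (i : ℕ) : List (ℕ × ℕ) → Bool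
  | [] => true
  | p :: l => (bif Nat.beq p.1 i then (memL G p.2 || anyI tab L base p.2 G) else true) && onlyI tab L base G i l

section sound
variable {P : Type*} [Group P] {xs : ℕ → P} {φ : P →* Equiv.Perm ℕ} {tab : ℕ → ℕ} {L m : ℕ} {base : List ℕ}
variable (hact : ∀ c < L, ∀ i < m, φ (xs c) i = look (tab c) i) (hlt : ∀ c < L, ∀ i < m, look (tab c) i < m)
  (hbase : ∀ b ∈ base, b < m) (hfaith : ∀ g, (∀ b ∈ base, φ g b = b) → g = 1)
include hact hlt hbase hfaith

theorem anyI_spec {s : ℕ} {G : List ℕ} (h : anyI tab L base s G = true) : ∃ g ∈ G, xs s = (xs g)⁻¹ := by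
  induction G with
  | nil => simp [anyI] at h
  | cons a l ih =>
    simp only [anyI, Bool.or_eq_true] at h
    rcases h with h | h
    · have e := eqP_sound hact hlt hbase hfaith h
      simp only [ev_cons, ev_nil, mul_one] at e
      exact ⟨a, by simp, eq_inv_of_mul_eq_one_left e⟩
    · obtain ⟨g, hg, e⟩ := ih h
      exact ⟨g, by simp [hg], e⟩

theorem onlyI_spec {G : List ℕ} {st : List (ℕ × ℕ)} {i : ℕ} (h : onlyI tab L base G i st = true) :
    Sg xs st i ≤ Gl xs G := by
  rw [Sg, Subgroup.closure_le]
  rintro _ ⟨s, hs, rfl⟩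
  have : memL G s = true ∨ anyI tab L base s G = true := by
    induction st with
    | nil => simp at hs
    | cons a l ih =>
      simp only [onlyI, Bool.and_eq_true] at h
      rcases List.mem_cons.mp hs with rfl | hs
      · have h1 := h.1
        have h2 : Nat.beq i i = true := by simp
        rw [h2] at h1
        simpa only [cond_true, Bool.or_eq_true] using h1
      · exact ih h.2 hs
  rcases this with this | this
  · exact Subgroup.subset_closure ⟨s, memL_mem this, rfl⟩
  · obtain ⟨g, hg, e⟩ := anyI_spec hact hlt hbase hfaith this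
    rw [e]
    exact Subgroup.inv_mem _ (Subgroup.subset_closure ⟨g, hg, rfl⟩)

/-- the order of a stabilizer -/
theorem card_Sg_le [Finite P] {G : List ℕ} {st : List (ℕ × ℕ)} {i : ℕ} (h : onlyI tab L base G i st = true) {l : List ULev}
    (hu : chainU tab L base l G = true) {N : ℕ} (hN : szU l = N) : Nat.card (Sg xs st i) ≤ N := by
  rw [← hN]
  exact le_trans (Nat.card_mono (Set.toFinite _) (onlyI_spec hact hlt hbase hfaith h)) (chainU_sound hact hlt hbase hfaith hu)

end sound

/-- lower bound for the index -/
theorem le_index {P : Type*} [Group P] [Finite P] {H : Subgroup P} {N n r : ℕ} (hN : Nat.card P = N) (hr : Nat.card H ≤ r)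
    (h : n * r = N) (hr0 : 0 < r) : n ≤ H.index := by
  have h1 := H.index_mul_card
  rw [hN, ← h] at h1
  by_contra hlt
  rw [not_le] at hlt
  have h2 : H.index * Nat.card H ≤ H.index * r := Nat.mul_le_mul_left _ hr
  have h3 : H.index * r < n * r := Nat.mul_lt_mul_of_pos_right hlt hr0
  omega

end Cfsg.Agent.Lib.Dce
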