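import Cfsg.Agent.Lib.DceEq

/-!
# Double coset enumeration with a large number of edges

The edges are stored in a tree; the state of the check is the number of edges which are known to hold and the list of
known stabilizing letters.
-/

set_option autoImplicit false
set_option linter.all false

namespace Cfsg.Agent.Lib.DceBig

open Cfsg.Agent.Lib.Dce

/-- tree of edges -/
inductive TrE where
  | l (o : Option Edge) : TrE
  | n (a b : TrE) : TrE

/-- lookup -/
def TrE.get : TrE → ℕ → Option Edge
  | TrE.l v, _ => v
  | TrE.n a b, c => bif Nat.beq (Nat.mod c 2) 0 then a.get (Nat.div c 2) else b.get (Nat.div c 2)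

/-- items -/
inductive It where
  | edge (r f i : ℕ) (w : List ℕ) (fw bw : List Step) (b s s2 : List ℕ) : It
  | stab (r f i : ℕ) (w : List ℕ) (fw bw : List Step) (s : ℕ) : It
  | inv (i s s' : ℕ) : It

/-- a known edge -/
def gt (get : ℕ → Option Edge) (n f : ℕ) : Option Edge := bif Nat.blt f n then get f else none

section defs
variable (tab : ℕ → ℕ) (L : ℕ) (base : List ℕ) (ph phI : List (ℕ × ℕ)) (iv : ℕ → ℕ) (get : ℕ → Option Edge)

/-- follow a path -/
def path (n : ℕ) (S : List (ℕ × ℕ)) : List Tok → List Step → ℕ → List ℕ → Option (ℕ × List ℕ)
  | [], _, i, e => some (i, e)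
  | Tok.h w :: ts, ss, i, e => path n S ts ss i (w ++ e)
  | Tok.t :: _, [], _, _ => none
  | Tok.t :: ts, s :: ss, i, e => match gt get n s.f with
    | none => none
    | some E => match phw ph s.b with
      | none => none
      | some g => bif Nat.beq E.i i && (allS S i s.s && eqP tab L base (e ++ s.s) (s.b ++ E.h)) then
          path n S ts ss E.j (g ++ E.a) else none
  | Tok.T :: _, [], _, _ => none
  | Tok.T :: ts, s :: ss, i, e => match gt get n s.f with
    | none => none
    | some E => match phw phI s.b with
      | none => none
      | some g => bif Nat.beq E.j i && (allS S i s.s && eqP tab L base (e ++ s.s) (s.b ++ E.a)) then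
          path n S ts ss E.i (g ++ E.h) else none

/-- check that the next edge holds -/
def newEdge (n : ℕ) (S : List (ℕ × ℕ)) (i : ℕ) (e : List ℕ) (j : ℕ) (e' b s s2 : List ℕ) : Bool :=
  match get n with
  | none => false
  | some E => match phw ph b with
    | none => false
    | some g => (Nat.beq E.i i && Nat.beq E.j j) && (allS S i s && (allS S j s2 &&
        (eqP tab L base (e ++ s) (b ++ E.h) && eqP tab L base (g ++ E.a) (e' ++ s2))))

/-- check an item -/
def step (rels : List (List Tok)) (n : ℕ) (S : List (ℕ × ℕ)) : It → Option (ℕ × List (ℕ × ℕ))
  | It.edge r f i w fw bw b s s2 =>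
    match (nthR rels r).drop f with
    | [] => none
    | k :: rest =>
      match path tab L base ph phI get n S ((nthR rels r).take f) fw i w with
      | none => none
      | some p => match path tab L base ph phI get n S (back iv rest) bw i w with
        | none => none
        | some q => match k with
          | Tok.h _ => none
          | Tok.t => bif newEdge tab L base ph get n S p.1 p.2 q.1 q.2 b s s2 then some (Nat.succ n, S) else none
          | Tok.T => bif newEdge tab L base ph get n S q.1 q.2 p.1 p.2 b s s2 then some (Nat.succ n, S) else none
  | It.stab r f i w fw bw s =>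
      match path tab L base ph phI get n S ((nthR rels r).take f) fw i w with
      | none => none
      | some p => match path tab L base ph phI get n S (back iv ((nthR rels r).drop f)) bw i w with
        | none => none
        | some q => bif Nat.beq p.1 q.1 && eqP tab L base (q.2 ++ [s]) p.2 then
            some (n, (p.1, s) :: S) else none
  | It.inv i s s' => bif memP S i s && eqP tab L base [s, s'] [] then some (n, (i, s') :: S) else none

/-- check a list of items -/
def run (rels : List (List Tok)) : ℕ → List (ℕ × ℕ) → List It → Option (ℕ × List (ℕ × ℕ))
  | n, S, [] => some (n, S)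
  | n, S, it :: l => match step tab L base ph phI iv get rels n S it with
    | none => none
    | some p => run rels p.1 p.2 l

/-- run and compare -/
def runE (rels : List (List Tok)) (n : ℕ) (S : List (ℕ × ℕ)) (l : List It) (n' : ℕ) (S' : List (ℕ × ℕ)) : Bool :=
  match run tab L base ph phI iv get rels n S l with
  | none => false
  | some p => Nat.beq p.1 n' && eqPs p.2 S'

end defs

section sound
variable {P : Type*} [Group P] {xs : ℕ → P} {φ : P →* Equiv.Perm ℕ} {tab : ℕ → ℕ} {L m : ℕ} {base : List ℕ}
variable {Y : Type*} {A : P →* Equiv.Perm Y} {T : Equiv.Perm Y} {c : ℕ → Y} {ph phI : List (ℕ × ℕ)} {iv : ℕ → ℕ}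
variable {get : ℕ → Option Edge}

/-- the facts hold -/
def Inv (xs : ℕ → P) (A : P →* Equiv.Perm Y) (T : Equiv.Perm Y) (c : ℕ → Y) (get : ℕ → Option Edge) (n : ℕ)
    (S : List (ℕ × ℕ)) : Prop :=
  (∀ f < n, ∀ E, get f = some E → T (A (ev xs E.h) (c E.i)) = A (ev xs E.a) (c E.j)) ∧
    ∀ p ∈ S, A (xs p.2) (c p.1) = c p.1

theorem gt_some {n f : ℕ} {E : Edge} (h : gt get n f = some E) : f < n ∧ get f = some E := by
  unfold gt at h
  cases hb : Nat.blt f n with
  | false => rw [hb] at h; simp at h
  | true => rw [hb] at h; exact ⟨by simpa [Nat.blt_eq] using hb, h⟩

variable (hact : ∀ c < L, ∀ i < m, φ (xs c) i = look (tab c) i) (hlt : ∀ c < L, ∀ i < m, look (tab c) i < m)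
  (hbase : ∀ b ∈ base, b < m) (hfaith : ∀ g, (∀ b ∈ base, φ g b = b) → g = 1)
  (hph : ∀ p ∈ ph, T * A (xs p.1) = A (xs p.2) * T) (hphI : ∀ p ∈ phI, T⁻¹ * A (xs p.1) = A (xs p.2) * T⁻¹)
include hact hlt hbase hfaith hph hphI

theorem path_sound {n : ℕ} {S : List (ℕ × ℕ)} (hst : Inv xs A T c get n S) (ts : List Tok) (ss : List Step) (i : ℕ) (e : List ℕ) {j : ℕ} {e' : List ℕ}
    (h : path tab L base ph phI get n S ts ss i e = some (j, e')) : seqP xs A T ts (A (ev xs e) (c i)) = A (ev xs e') (c j) := by
  induction ts generalizing ss i e with
  | nil => simp only [path, Option.some.injEq, Prod.mk.injEq] at h; obtain ⟨rfl, rfl⟩ := h; simp [seqP]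
  | cons k ts ih =>
    cases k with
    | h w =>
      simp only [path] at h
      have := ih ss i (w ++ e) h
      rw [ev_append, map_mul, Equiv.Perm.mul_apply] at this
      simp only [seqP, Equiv.Perm.mul_apply, tokP]
      exact this
    | t =>
      cases ss with
      | nil => simp [path] at h
      | cons s ss =>
        simp only [path] at h
        cases hE : gt get n s.f with
        | none => rw [hE] at h; simp at h
        | some E =>
          rw [hE] at h; simp only at h
          cases hg : phw ph s.b with
          | none => rw [hg] at h; simp at h
          | some g =>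
            rw [hg] at h; simp only at h
            cases hc : (Nat.beq E.i i && (allS S i s.s && eqP tab L base (e ++ s.s) (s.b ++ E.h))) with
            | false => rw [hc] at h; simp at h
            | true =>
              rw [hc] at h; simp only [cond_true] at h
              simp only [Bool.and_eq_true, Nat.beq_eq] at hc
              obtain ⟨h1, h2, h3⟩ := hc
              have h4 := ih ss E.j (g ++ E.a) h
              have h5 := eqP_sound hact hlt hbase hfaith h3
              have h6 := allS_sound hst.2 h2
              have h7 := hst.1 s.f (gt_some hE).1 E (gt_some hE).2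
              have h8 := phw_sound hph hg
              subst h1
              rw [← h4]
              simp only [seqP, Equiv.Perm.mul_apply, tokP]
              congr 1
              have h9 : A (ev xs e) (c E.i) = A (ev xs s.b) (A (ev xs E.h) (c E.i)) := by
                rw [← Equiv.Perm.mul_apply, ← map_mul, ← ev_append, ← h5, ev_append, map_mul, Equiv.Perm.mul_apply, h6]
              rw [h9, ← Equiv.Perm.mul_apply T, h8, Equiv.Perm.mul_apply, h7, ev_append, map_mul, Equiv.Perm.mul_apply]
    | T =>
      cases ss with
      | nil => simp [path] at h
      | cons s ss =>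
        simp only [path] at h
        cases hE : gt get n s.f with
        | none => rw [hE] at h; simp at h
        | some E =>
          rw [hE] at h; simp only at h
          cases hg : phw phI s.b with
          | none => rw [hg] at h; simp at h
          | some g =>
            rw [hg] at h; simp only at h
            cases hc : (Nat.beq E.j i && (allS S i s.s && eqP tab L base (e ++ s.s) (s.b ++ E.a))) with
            | false => rw [hc] at h; simp at h
            | true =>
              rw [hc] at h; simp only [cond_true] at h
              simp only [Bool.and_eq_true, Nat.beq_eq] at hc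
              obtain ⟨h1, h2, h3⟩ := hc
              have h4 := ih ss E.i (g ++ E.h) h
              have h5 := eqP_sound hact hlt hbase hfaith h3
              have h6 := allS_sound hst.2 h2
              have h7 := hst.1 s.f (gt_some hE).1 E (gt_some hE).2
              have h8 := phw_sound hphI hg
              subst h1
              rw [← h4]
              simp only [seqP, Equiv.Perm.mul_apply, tokP]
              congr 1
              have h9 : A (ev xs e) (c E.j) = A (ev xs s.b) (A (ev xs E.a) (c E.j)) := by
                rw [← Equiv.Perm.mul_apply, ← map_mul, ← ev_append, ← h5, ev_append, map_mul, Equiv.Perm.mul_apply, h6]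
              have h10 : T⁻¹ (A (ev xs E.a) (c E.j)) = A (ev xs E.h) (c E.i) := by
                rw [Equiv.Perm.inv_eq_iff_eq, h7]
              rw [h9, ← Equiv.Perm.mul_apply T⁻¹, h8, Equiv.Perm.mul_apply, h10, ev_append, map_mul, Equiv.Perm.mul_apply]

theorem newEdge_sound {n : ℕ} {S : List (ℕ × ℕ)} (hst : Inv xs A T c get n S) {i j : ℕ} {e e' b s s2 : List ℕ}
    (he : T (A (ev xs e) (c i)) = A (ev xs e') (c j)) (hn : newEdge tab L base ph get n S i e j e' b s s2 = true) :
    Inv xs A T c get (n + 1) S := by
  simp only [newEdge] at hn
  cases hE : get n with
  | none => rw [hE] at hn; simp at hn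
  | some E =>
    rw [hE] at hn; simp only at hn
    cases hg : phw ph b with
    | none => rw [hg] at hn; simp at hn
    | some g =>
      rw [hg] at hn; simp only [Bool.and_eq_true, Nat.beq_eq] at hn
      obtain ⟨⟨rfl, rfl⟩, h1, h2, h3, h4⟩ := hn
      have k1 := allS_sound hst.2 h1
      have k2 := allS_sound hst.2 h2
      have k3 := eqP_sound hact hlt hbase hfaith h3
      have k4 := eqP_sound hact hlt hbase hfaith h4
      have k5 := phw_sound hph hg
      refine ⟨?_, hst.2⟩
      intro f hf E' hE'
      rcases Nat.lt_succ_iff_lt_or_eq.mp hf with hf | rfl
      · exact hst.1 f hf E' hE'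
      · rw [hE, Option.some.injEq] at hE'
        subst hE'
        have h9 : A (ev xs e) (c E.i) = A (ev xs b) (A (ev xs E.h) (c E.i)) := by
          rw [← Equiv.Perm.mul_apply, ← map_mul, ← ev_append, ← k3, ev_append, map_mul, Equiv.Perm.mul_apply, k1]
        have h10 : A (ev xs e') (c E.j) = A (ev xs g) (A (ev xs E.a) (c E.j)) := by
          rw [← Equiv.Perm.mul_apply, ← map_mul, ← ev_append, k4, ev_append, map_mul, Equiv.Perm.mul_apply, k2]
        rw [h9, ← Equiv.Perm.mul_apply T, k5, Equiv.Perm.mul_apply, h10] at he
        exact (A (ev xs g)).injective he

variable {rels : List (List Tok)} (hrels : ∀ r ∈ rels, seqP xs A T r = 1) {n0 : ℕ}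
  (hiv : ∀ c < n0, xs (iv c) = (xs c)⁻¹) (hn0 : ∀ r ∈ rels, r.all (tokL n0) = true)
include hrels hiv hn0

theorem step_sound {n n' : ℕ} {S S' : List (ℕ × ℕ)} (hst : Inv xs A T c get n S) {it : It}
    (h : step tab L base ph phI iv get rels n S it = some (n', S')) : Inv xs A T c get n' S' := by
  cases it with
  | edge r f i w fw bw b s s2 =>
    simp only [step] at h
    obtain ⟨hr, hall⟩ := nthR_sound (A := A) (T := T) hrels hiv hn0 r f
    cases hd : (nthR rels r).drop f with
    | nil => rw [hd] at h; simp at h
    | cons k rest =>
      rw [hd] at h hr; simp only at h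
      cases hp : path tab L base ph phI get n S ((nthR rels r).take f) fw i w with
      | none => rw [hp] at h; simp at h
      | some p =>
        rw [hp] at h; simp only at h
        cases hq : path tab L base ph phI get n S (back iv rest) bw i w with
        | none => rw [hq] at h; simp at h
        | some q =>
          rw [hq] at h; simp only at h
          obtain ⟨pi, pe⟩ := p
          obtain ⟨qi, qe⟩ := q
          have h1 := path_sound hact hlt hbase hfaith hph hphI hst _ _ _ _ hp
          have h2 := path_sound hact hlt hbase hfaith hph hphI hst _ _ _ _ hq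
          have hkl : (k :: rest).all (tokL n0) = true := by
            rw [← hd]
            rw [List.all_eq_true] at hall ⊢
            exact fun k hk => hall k (List.mem_of_mem_drop hk)
          have hk2 : rest.all (tokL n0) = true := by
            simp only [List.all_cons, Bool.and_eq_true] at hkl; exact hkl.2
          rw [seqP_back hiv _ hkl] at hr
          rw [seqP_back hiv _ hk2] at h2
          have h3 : tokP xs A T k (A (ev xs pe) (c pi)) = A (ev xs qe) (c qi) := by
            rw [← h1, ← h2, ← hr]
            simp only [seqP, mul_inv_rev, Equiv.Perm.mul_apply]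
            exact (tokP xs A T k).apply_symm_apply _
          cases k with
          | h w => simp at h
          | t =>
            simp only at h
            cases hn : newEdge tab L base ph get n S pi pe qi qe b s s2 with
            | false => rw [hn] at h; simp at h
            | true =>
              rw [hn] at h
              simp only [cond_true, Option.some.injEq, Prod.mk.injEq] at h
              obtain ⟨rfl, rfl⟩ := h
              exact newEdge_sound hact hlt hbase hfaith hph hphI hst h3 hn
          | T =>
            simp only at h
            cases hn : newEdge tab L base ph get n S qi qe pi pe b s s2 with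
            | false => rw [hn] at h; simp at h
            | true =>
              rw [hn] at h
              simp only [cond_true, Option.some.injEq, Prod.mk.injEq] at h
              obtain ⟨rfl, rfl⟩ := h
              refine newEdge_sound hact hlt hbase hfaith hph hphI hst ?_ hn
              simp only [tokP, Equiv.Perm.inv_eq_iff_eq] at h3
              exact h3.symm
  | stab r f i w fw bw s =>
    simp only [step] at h
    obtain ⟨hr, hall⟩ := nthR_sound (A := A) (T := T) hrels hiv hn0 r f
    cases hp : path tab L base ph phI get n S ((nthR rels r).take f) fw i w with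
    | none => rw [hp] at h; simp at h
    | some p =>
      rw [hp] at h; simp only at h
      cases hq : path tab L base ph phI get n S (back iv ((nthR rels r).drop f)) bw i w with
      | none => rw [hq] at h; simp at h
      | some q =>
        rw [hq] at h; simp only at h
        obtain ⟨pi, pe⟩ := p
        obtain ⟨qi, qe⟩ := q
        have h1 := path_sound hact hlt hbase hfaith hph hphI hst _ _ _ _ hp
        have h2 := path_sound hact hlt hbase hfaith hph hphI hst _ _ _ _ hq
        cases hc : (Nat.beq pi qi && eqP tab L base (qe ++ [s]) pe) with
        | false => simp only [hc] at h; simp at h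
        | true =>
          simp only [hc, cond_true, Option.some.injEq, Prod.mk.injEq] at h
          simp only [Bool.and_eq_true, Nat.beq_eq] at hc
          obtain ⟨rfl, h4⟩ := hc
          have h5 := eqP_sound hact hlt hbase hfaith h4
          rw [hr, h1] at h2
          rw [← h5, ev_append, map_mul, Equiv.Perm.mul_apply] at h2
          have h6 := (A (ev xs qe)).injective h2
          obtain ⟨rfl, rfl⟩ := h
          refine ⟨hst.1, ?_⟩
          intro p hp'
          rcases List.mem_cons.mp hp' with rfl | hp'
          · simpa using h6
          · exact hst.2 p hp'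
  | inv i s s' =>
    simp only [step] at h
    cases hc : (memP S i s && eqP tab L base [s, s'] []) with
    | false => simp only [hc] at h; simp at h
    | true =>
      simp only [hc, cond_true, Option.some.injEq, Prod.mk.injEq] at h
      simp only [Bool.and_eq_true] at hc
      have h1 := hst.2 _ (memP_mem hc.1)
      have h2 := eqP_sound hact hlt hbase hfaith hc.2
      obtain ⟨rfl, rfl⟩ := h
      refine ⟨hst.1, ?_⟩
      intro p hp'
      rcases List.mem_cons.mp hp' with rfl | hp'
      · simp only [ev_cons, ev_nil, mul_one] at h2 h1 ⊢
        have h3 : xs s' = (xs s)⁻¹ := (inv_eq_of_mul_eq_one_right h2).symm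
        rw [h3, map_inv, Equiv.Perm.inv_eq_iff_eq]
        exact h1.symm
      · exact hst.2 p hp'

theorem run_sound {n n' : ℕ} {S S' : List (ℕ × ℕ)} (hst : Inv xs A T c get n S) {l : List It}
    (h : run tab L base ph phI iv get rels n S l = some (n', S')) : Inv xs A T c get n' S' := by
  induction l generalizing n S with
  | nil => simp only [run, Option.some.injEq, Prod.mk.injEq] at h; obtain ⟨rfl, rfl⟩ := h; exact hst
  | cons it l ih =>
    simp only [run] at h
    cases hs : step tab L base ph phI iv get rels n S it with
    | none => rw [hs] at h; simp at h
    | some p =>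
      rw [hs] at h; simp only at h
      obtain ⟨n1, S1⟩ := p
      exact ih (step_sound hact hlt hbase hfaith hph hphI hrels hiv hn0 hst hs) h

theorem runE_sound {n n' : ℕ} {S S' : List (ℕ × ℕ)} (hst : Inv xs A T c get n S) {l : List It}
    (h : runE tab L base ph phI iv get rels n S l n' S' = true) : Inv xs A T c get n' S' := by
  unfold runE at h
  cases hr : run tab L base ph phI iv get rels n S l with
  | none => rw [hr] at h; simp at h
  | some p =>
    rw [hr] at h
    simp only [Bool.and_eq_true, Nat.beq_eq] at h
    obtain ⟨n1, S1⟩ := p
    simp only at h
    obtain ⟨rfl, h2⟩ := h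
    rw [eqPs_sound h2] at hr
    exact run_sound hact hlt hbase hfaith hph hphI hrels hiv hn0 hst hr

end sound

end Cfsg.Agent.Lib.DceBig
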