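import Cfsg.Agent.Lib.DceBig
import Cfsg.Agent.Lib.H58SMc

/-!
# Decoding of certificates for the double coset enumeration

Words, edges and items are stored as numbers with digits in base 64.
-/

set_option autoImplicit false
set_option linter.all false

namespace Cfsg.Agent.Lib.DceBig

open Cfsg.Agent.Lib.Dce Cfsg.Agent.Lib.H58SM

/-- read a digit -/
def dg {α : Type} (n : ℕ) (k : ℕ → ℕ → α) : α := frc (Nat.mod n 64) fun c => frc (Nat.div n 64) fun m => k c m

/-- read a word of known length -/
def wdl {α : Type} (l : ℕ) : ℕ → (List ℕ → ℕ → α) → α :=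
  Nat.rec (fun n k => k [] n) (fun _ ih n k => dg n fun c m => ih m fun w q => k (c :: w) q) l

/-- read a word -/
def wdr {α : Type} (n : ℕ) (k : List ℕ → ℕ → α) : α := dg n fun l m => wdl l m k

/-- read a step -/
def stp {α : Type} (n : ℕ) (k : Step → ℕ → α) : α :=
  frc (Nat.mod n 262144) fun f => frc (Nat.div n 262144) fun m => wdr m fun s m => wdr m fun b m => k ⟨f, s, b⟩ m

/-- read steps -/
def stps {α : Type} (l : ℕ) : ℕ → (List Step → ℕ → α) → α :=
  Nat.rec (fun n k => k [] n) (fun _ ih n k => stp n fun c m => ih m fun w q => k (c :: w) q) l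

/-- read an item -/
def decI (n : ℕ) : It :=
  dg n fun kd m => bif Nat.beq kd 2 then dg m fun i m => dg m fun s m => dg m fun s' _ => It.inv i s s' else
    dg m fun r m => dg m fun f m => dg m fun i m => wdr m fun w m => dg m fun c m => stps c m fun fw m =>
      dg m fun c m => stps c m fun bw m => bif Nat.beq kd 0 then
        wdr m fun b m => wdr m fun s m => wdr m fun s2 _ => It.edge r f i w fw bw b s s2
      else dg m fun s _ => It.stab r f i w fw bw s

/-- read an edge -/
def decE (n : ℕ) : Option Edge := dg n fun i m => wdr m fun h m => dg m fun j m => wdr m fun a _ => some ⟨i, h, j, a⟩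

end Cfsg.Agent.Lib.DceBig
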