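import Cfsg.Agent.Lib.DceFix

/-!
# Double coset enumeration: blocks and simplicity
-/

set_option autoImplicit false
set_option linter.all false

namespace Cfsg.Agent.Lib.Dce

section block
variable {P : Type*} [Group P] {k : ℕ}

/-- size of an invariant set of points -/
theorem inv_ncard [Finite P] {S : Fin k → Subgroup P} (B : Set (XX S)) (hB : ∀ (p : P), ∀ z ∈ B, p • z ∈ B) :
    ∃ b : Fin k → Bool, (∀ i, b i = true ↔ xp S i ∈ B) ∧ B.ncard = ∑ i, bif b i then (S i).index else 0 := by
  classical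
  refine ⟨fun i => decide (xp S i ∈ B), fun i => by simp, ?_⟩
  have key : ∀ (i : Fin k) (q : P ⧸ S i), (⟨i, q⟩ : XX S) ∈ B ↔ xp S i ∈ B := by
    intro i q
    obtain ⟨p, rfl⟩ := QuotientGroup.mk_surjective q
    rw [← smul_xp S p i]
    refine ⟨fun h => ?_, fun h => hB p _ h⟩
    have := hB p⁻¹ _ h
    rwa [inv_smul_smul] at this
  have e : B ≃ Σ i : Fin k, {q : P ⧸ S i // xp S i ∈ B} :=
    { toFun := fun z => ⟨z.1.1, z.1.2, (key z.1.1 z.1.2).mp z.2⟩
      invFun := fun z => ⟨⟨z.1, z.2.1⟩, (key z.1 z.2.1).mpr z.2.2⟩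
      left_inv := fun z => rfl
      right_inv := fun z => rfl }
  rw [← Nat.card_coe_set_eq, Nat.card_congr e, Nat.card_sigma]
  apply Finset.sum_congr rfl
  intro i _
  by_cases h : xp S i ∈ B
  · simp only [h, decide_true, cond_true]
    exact Nat.card_congr (Equiv.subtypeUnivEquiv (fun _ => trivial))
  · simp only [h, decide_false, cond_false]
    have : IsEmpty {q : P ⧸ S i // False} := ⟨fun q => q.2⟩
    exact Nat.card_of_isEmpty

end block

/-- a normal subgroup of a group acting such that blocks are trivial -/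
theorem normal_trans {G X : Type*} [Group G] [MulAction G X] [Finite X] [MulAction.IsPretransitive G X] [FaithfulSMul G X] (x : X)
    (hb : ∀ B : Set X, x ∈ B → (∀ g ∈ MulAction.stabilizer G x, ∀ z ∈ B, g • z ∈ B) → B.ncard ∣ Nat.card X →
      B.ncard = 1 ∨ B.ncard = Nat.card X)
    (N : Subgroup G) [N.Normal] : N = ⊥ ∨ Nat.card X ∣ Nat.card N := by
  have h1 : MulAction.IsBlock G (MulAction.orbit N x) := MulAction.IsBlock.orbit_of_normal x
  have h2 : (MulAction.orbit N x).ncard ∣ Nat.card X := h1.ncard_dvd_card (MulAction.nonempty_orbit x)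
  have hx : x ∈ MulAction.orbit N x := MulAction.mem_orbit_self x
  have h3 := hb (MulAction.orbit N x) hx (by
    intro g hg z hz
    have hgx : g • x = x := hg
    obtain ⟨n, rfl⟩ := hz
    refine ⟨⟨g * n * g⁻¹, Subgroup.Normal.conj_mem inferInstance _ n.2 g⟩, ?_⟩
    show (g * (n : G) * g⁻¹) • x = g • ((n : G) • x)
    have : g⁻¹ • x = x := by rw [inv_smul_eq_iff]; exact hgx.symm
    rw [mul_smul, mul_smul, this]) h2
  rcases h3 with h3 | h3
  · left
    have h4 : ∀ n ∈ N, n • x = x := by
      obtain ⟨a, ha⟩ := Set.ncard_eq_one.mp h3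
      have hxa : x = a := by
        have := hx; rw [ha] at this; exact this
      intro n hn
      have : n • x ∈ MulAction.orbit N x := ⟨⟨n, hn⟩, rfl⟩
      rw [ha] at this
      rw [Set.mem_singleton_iff.mp this, hxa]
    rw [eq_bot_iff]
    intro n hn
    rw [Subgroup.mem_bot]
    apply FaithfulSMul.eq_of_smul_eq_smul (α := X)
    intro y
    obtain ⟨g, rfl⟩ := MulAction.exists_smul_eq G x y
    rw [one_smul]
    have h5 := h4 (g⁻¹ * n * g) (by
      have := Subgroup.Normal.conj_mem (inferInstance : N.Normal) n hn g⁻¹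
      rwa [inv_inv] at this)
    rw [mul_smul, mul_smul, inv_smul_eq_iff] at h5
    exact h5
  · right
    have h4 : Nat.card (MulAction.orbit N x) = Nat.card X := by rw [Nat.card_coe_set_eq]; exact h3
    rw [← h4, Nat.card_congr (MulAction.orbitEquivQuotientStabilizer N x)]
    exact Subgroup.card_quotient_dvd_card _

/-- elements of prime order `p` lie in a normal subgroup with index prime to `p` -/
theorem mem_of_pow {G : Type*} [Group G] [Finite G] {N : Subgroup G} [N.Normal] {p : ℕ} (hp : Nat.Coprime p N.index) {a : G}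
    (ha : a ^ p = 1) : a ∈ N := by
  have h1 : ((a : G ⧸ N)) ^ p = 1 := by rw [← QuotientGroup.mk_pow, ha]; rfl
  have h2 : orderOf (a : G ⧸ N) ∣ p := orderOf_dvd_of_pow_eq_one h1
  have h3 : orderOf (a : G ⧸ N) ∣ N.index := orderOf_dvd_natCard _
  have h4 : orderOf (a : G ⧸ N) = 1 := Nat.eq_one_of_dvd_coprimes hp h2 h3
  rw [orderOf_eq_one_iff] at h4
  exact (QuotientGroup.eq_one_iff a).mp h4

end Cfsg.Agent.Lib.Dce
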