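import Cfsg.Agent.Lib.DceFin

/-!
# Double coset enumeration: comparison of states, and packaged checks
-/

set_option autoImplicit false
set_option linter.all false

namespace Cfsg.Agent.Lib.Dce

/-- equality of words -/
def eqL : List ℕ → List ℕ → Bool
  | [], [] => true
  | a :: l, b :: l' => Nat.beq a b && eqL l l'
  | _, _ => false

theorem eqL_sound {a b : List ℕ} (h : eqL a b = true) : a = b := by
  induction a generalizing b with
  | nil => cases b with
    | nil => rfl
    | cons x b => simp [eqL] at h
  | cons x a ih => cases b with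
    | nil => simp [eqL] at h
    | cons y b =>
      simp only [eqL, Bool.and_eq_true, Nat.beq_eq] at h
      rw [h.1, ih h.2]

/-- equality of edge lists -/
def eqEs : List Edge → List Edge → Bool
  | [], [] => true
  | a :: l, b :: l' => (Nat.beq a.i b.i && (eqL a.h b.h && (Nat.beq a.j b.j && eqL a.a b.a))) && eqEs l l'
  | _, _ => false

theorem eqEs_sound {a b : List Edge} (h : eqEs a b = true) : a = b := by
  induction a generalizing b with
  | nil => cases b with
    | nil => rfl
    | cons x b => simp [eqEs] at h
  | cons x a ih => cases b with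
    | nil => simp [eqEs] at h
    | cons y b =>
      simp only [eqEs, Bool.and_eq_true, Nat.beq_eq] at h
      obtain ⟨⟨h1, h2, h3, h4⟩, h5⟩ := h
      obtain ⟨xi, xh, xj, xa⟩ := x
      obtain ⟨yi, yh, yj, ya⟩ := y
      simp only at h1 h2 h3 h4
      rw [h1, eqL_sound h2, h3, eqL_sound h4, ih h5]

/-- equality of pair lists -/
def eqPs : List (ℕ × ℕ) → List (ℕ × ℕ) → Bool
  | [], [] => true
  | a :: l, b :: l' => (Nat.beq a.1 b.1 && Nat.beq a.2 b.2) && eqPs l l'
  | _, _ => false

theorem eqPs_sound {a b : List (ℕ × ℕ)} (h : eqPs a b = true) : a = b := by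
  induction a generalizing b with
  | nil => cases b with
    | nil => rfl
    | cons x b => simp [eqPs] at h
  | cons x a ih => cases b with
    | nil => simp [eqPs] at h
    | cons y b =>
      simp only [eqPs, Bool.and_eq_true, Nat.beq_eq] at h
      obtain ⟨⟨h1, h2⟩, h5⟩ := h
      obtain ⟨xi, xh⟩ := x
      obtain ⟨yi, yh⟩ := y
      simp only at h1 h2
      rw [h1, h2, ih h5]

/-- run and compare -/
def runE (tab : ℕ → ℕ) (L : ℕ) (base : List ℕ) (ph phI : List (ℕ × ℕ)) (iv : ℕ → ℕ) (rels : List (List Tok)) (st0 : St)
    (its : List Item) (fin : St) : Bool :=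
  match run tab L base ph phI iv rels st0 its with
  | none => false
  | some st => eqEs st.edges fin.edges && eqPs st.stab fin.stab

theorem runE_sound {tab : ℕ → ℕ} {L : ℕ} {base : List ℕ} {ph phI : List (ℕ × ℕ)} {iv : ℕ → ℕ} {rels : List (List Tok)} {st0 : St}
    {its : List Item} {fin : St} (h : runE tab L base ph phI iv rels st0 its fin = true) :
    run tab L base ph phI iv rels st0 its = some fin := by
  unfold runE at h
  cases hr : run tab L base ph phI iv rels st0 its with
  | none => rw [hr] at h; simp at h
  | some st =>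
    rw [hr] at h
    simp only [Bool.and_eq_true] at h
    obtain ⟨e, s⟩ := st
    obtain ⟨e', s'⟩ := fin
    simp only at h
    rw [eqEs_sound h.1, eqPs_sound h.2]

theorem run_append {tab : ℕ → ℕ} {L : ℕ} {base : List ℕ} {ph phI : List (ℕ × ℕ)} {iv : ℕ → ℕ} {rels : List (List Tok)} {a b c : St}
    {l l' : List Item} (h : run tab L base ph phI iv rels a l = some b) (h' : run tab L base ph phI iv rels b l' = some c) :
    run tab L base ph phI iv rels a (l ++ l') = some c := by
  induction l generalizing a with
  | nil => simp only [run, Option.some.injEq] at h; subst h; exact h'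
  | cons i l ih =>
    simp only [List.cons_append, run] at h ⊢
    cases hs : step tab L base ph phI iv rels a i with
    | none => rw [hs] at h; simp at h
    | some st => rw [hs] at h; exact ih h

/-- letters in the stabilizer list -/
def allIn (st : List (ℕ × ℕ)) (i : ℕ) : List ℕ → Bool
  | [] => true
  | s :: l => memP st i s && allIn st i l

theorem allIn_spec {P : Type*} [Group P] {xs : ℕ → P} {st : List (ℕ × ℕ)} {i : ℕ} {l : List ℕ} (h : allIn st i l = true) :
    ∀ w ∈ l.map (fun s => [s]), ev xs w ∈ Sg xs st i := by
  intro w hw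
  obtain ⟨s, hs, rfl⟩ := List.mem_map.mp hw
  have : memP st i s = true := by
    induction l with
    | nil => simp at hs
    | cons a l ih =>
      simp only [allIn, Bool.and_eq_true] at h
      rcases List.mem_cons.mp hs with rfl | hs
      · exact h.1
      · exact ih h.2 hs (List.mem_map_of_mem hs)
  have h1 : ev xs [s] = xs s := by simp [ev]
  rw [h1]
  exact Subgroup.subset_closure ⟨s, memP_mem this, rfl⟩

/-- all stabilizer letters of a point are in a list -/
def onlyIn (G : List ℕ) (i : ℕ) : List (ℕ × ℕ) → Bool
  | [] => true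
  | p :: l => (bif Nat.beq p.1 i then memL G p.2 else true) && onlyIn G i l

theorem onlyIn_spec {P : Type*} [Group P] {xs : ℕ → P} {G : List ℕ} {st : List (ℕ × ℕ)} {i : ℕ} (h : onlyIn G i st = true) :
    Sg xs st i ≤ Gl xs G := by
  rw [Sg, Subgroup.closure_le]
  rintro _ ⟨s, hs, rfl⟩
  have : memL G s = true := by
    induction st with
    | nil => simp at hs
    | cons a l ih =>
      simp only [onlyIn, Bool.and_eq_true] at h
      rcases List.mem_cons.mp hs with rfl | hs
      · have h1 := h.1
        have h2 : Nat.beq i i = true := by simp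
        rw [h2] at h1
        exact h1
      · exact ih h.2 hs
  exact Subgroup.subset_closure ⟨s, memL_mem this, rfl⟩

/-- `Gl` of a list of letters contained in another `Gl` through words -/
theorem Gl_mono {P : Type*} [Group P] {xs : ℕ → P} {G G' : List ℕ} (h : ∀ s ∈ G, xs s ∈ Gl xs G') : Gl xs G ≤ Gl xs G' := by
  rw [Gl, Subgroup.closure_le]
  rintro _ ⟨s, hs, rfl⟩
  exact h s hs

end Cfsg.Agent.Lib.Dce
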