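import Cfsg.Agent.Lib.DceGrp

/-!
# Double coset enumeration: the upper bound for the index
-/

set_option autoImplicit false
set_option linter.all false

namespace Cfsg.Agent.Lib.Dce

open Cfsg.Agent.Lib.BenesWord

/-- words of tokens -/
def rep {α : Type} (w : List α) : ℕ → List α
  | 0 => []
  | n + 1 => rep w n ++ w

/-- translate a word -/
def fw (μ : ℕ → List ℕ) (iv : ℕ → ℕ) : Wd → List ℕ
  | .one => []
  | .g c => μ c
  | .inv u => (fw μ iv u).reverse.map iv
  | .mul u v => fw μ iv u ++ fw μ iv v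
  | .pow u n => rep (fw μ iv u) n

theorem lets_append {L : ℕ} {u v : List ℕ} : lets L (u ++ v) = (lets L u && lets L v) := by
  induction u with
  | nil => simp [lets]
  | cons c u ih => simp [lets, ih, Bool.and_assoc]

theorem lets_iff {L : ℕ} {u : List ℕ} : lets L u = true ↔ ∀ c ∈ u, c < L := by
  induction u with
  | nil => simp [lets]
  | cons c u ih => simp [lets, ih]

theorem fw_eval {G : Type*} [Group G] {x : ℕ → G} {μ : ℕ → List ℕ} {iv : ℕ → ℕ} {n0 : ℕ} (hμ : ∀ c, lets n0 (μ c) = true)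
    (hiv : ∀ c < n0, iv c < n0 ∧ x (iv c) = (x c)⁻¹) (W : Wd) :
    ev x (fw μ iv W) = W.eval (fun c => ev x (μ c)) ∧ lets n0 (fw μ iv W) = true := by
  induction W with
  | one => exact ⟨rfl, rfl⟩
  | g c => exact ⟨rfl, hμ c⟩
  | inv u ih =>
    refine ⟨?_, ?_⟩
    · show ev x ((fw μ iv u).reverse.map iv) = (Wd.eval (fun c => ev x (μ c)) u)⁻¹
      rw [ev_inv (fun c hc => (hiv c hc).2) _ ih.2, ih.1]
    · show lets n0 ((fw μ iv u).reverse.map iv) = true
      rw [lets_iff]
      intro c hc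
      obtain ⟨d, hd, rfl⟩ := List.mem_map.mp hc
      exact (hiv d (lets_iff.mp ih.2 d (List.mem_reverse.mp hd))).1
  | mul u v ihu ihv =>
    refine ⟨?_, ?_⟩
    · show ev x (fw μ iv u ++ fw μ iv v) = _ * _
      rw [ev_append, ihu.1, ihv.1]
    · show lets n0 (fw μ iv u ++ fw μ iv v) = true
      rw [lets_append, ihu.2, ihv.2]; rfl
  | pow u n ih =>
    show ev x (rep (fw μ iv u) n) = (Wd.eval _ u) ^ n ∧ lets n0 (rep (fw μ iv u) n) = true
    induction n with
    | zero => exact ⟨by simp [rep], rfl⟩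
    | succ n ihn =>
      refine ⟨?_, ?_⟩
      · rw [rep, ev_append, ihn.1, ih.1, pow_succ]
      · rw [rep, lets_append, ihn.2, ih.2]; rfl

section upper
variable {P G : Type*} [Group P] [Group G] {xs : ℕ → P} {φ : P →* Equiv.Perm ℕ} {tab : ℕ → ℕ} {L m : ℕ} {base : List ℕ}
  {ph phI : List (ℕ × ℕ)} {iv : ℕ → ℕ}

/-- value of a token in a group -/
def tokG (xs : ℕ → P) (ψ : P →* G) (t : G) : Tok → G
  | Tok.h w => ψ (ev xs w)
  | Tok.t => t
  | Tok.T => t⁻¹

/-- value of tokens in a group -/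
def seqG (xs : ℕ → P) (ψ : P →* G) (t : G) : List Tok → G
  | [] => 1
  | k :: l => seqG xs ψ t l * tokG xs ψ t k

theorem seqP_seqG {Y : Type*} [MulAction G Y] (ψ : P →* G) (t : G) (l : List Tok) :
    seqP xs ((MulAction.toPermHom G Y).comp ψ) (MulAction.toPermHom G Y t) l = MulAction.toPermHom G Y (seqG xs ψ t l) := by
  induction l with
  | nil => exact (map_one _).symm
  | cons k l ih =>
    rw [seqP, seqG, map_mul, ih]
    congr 1
    cases k with
    | h w => rfl
    | t => rfl
    | T => exact (map_inv _ _).symm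

/-- edges of the definitions -/
def defEdges : ℕ → List (ℕ × List ℕ × Bool) → List Edge
  | _, [] => []
  | n, d :: l => (bif d.2.2 then ⟨n + 1, [], d.1, d.2.1⟩ else ⟨d.1, d.2.1, n + 1, []⟩) :: defEdges (n + 1) l

theorem defEdges_spec {Y : Type*} {A : P →* Equiv.Perm Y} {T : Equiv.Perm Y} {c : ℕ → Y} (n : ℕ) (ds : List (ℕ × List ℕ × Bool))
    (h : ∀ j (hj : j < ds.length), c (n + j + 1) = (bif (ds[j]).2.2 then T⁻¹ else T) (A (ev xs (ds[j]).2.1) (c (ds[j]).1))) :
    ∀ E ∈ defEdges n ds, T (A (ev xs E.h) (c E.i)) = A (ev xs E.a) (c E.j) := by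
  induction ds generalizing n with
  | nil => intro E hE; simp [defEdges] at hE
  | cons d l ih =>
    intro E hE
    rw [defEdges] at hE
    rcases List.mem_cons.mp hE with rfl | hE
    · have := h 0 (by simp)
      simp only [List.getElem_cons_zero, add_zero] at this
      cases hd : d.2.2 with
      | true =>
        rw [hd] at this
        simp only [cond_true] at this ⊢
        rw [this]
        simp only [ev_nil, map_one, Equiv.Perm.one_apply]
        exact T.apply_symm_apply _
      | false =>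
        rw [hd] at this
        simp only [cond_false] at this ⊢
        rw [this]
        simp only [ev_nil, map_one, Equiv.Perm.one_apply]
    · refine ih (n + 1) (fun j hj => ?_) E hE
      have := h (j + 1) (by simpa using hj)
      rw [List.getElem_cons_succ] at this
      rw [show n + 1 + j + 1 = n + (j + 1) + 1 by omega]
      exact this

/-- definitions refer to earlier points -/
def defOk : ℕ → List (ℕ × List ℕ × Bool) → Bool
  | _, [] => true
  | n, d :: l => Nat.ble d.1 n && defOk (n + 1) l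

theorem defOk_spec {n : ℕ} {ds : List (ℕ × List ℕ × Bool)} (h : defOk n ds = true) :
    ∀ j (hj : j < ds.length), (ds[j]).1 ≤ n + j := by
  induction ds generalizing n with
  | nil => intro j hj; simp at hj
  | cons d l ih =>
    simp only [defOk, Bool.and_eq_true, Nat.ble_eq] at h
    intro j hj
    cases j with
    | zero => simpa using h.1
    | succ j =>
      have := ih h.2 j (by simpa using hj)
      rw [List.getElem_cons_succ]; omega

/-- all targets small -/
def jOk (k : ℕ) : List Edge → Bool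
  | [] => true
  | E :: l => (Nat.blt E.i k && Nat.blt E.j k) && jOk k l

theorem jOk_spec {k : ℕ} {l : List Edge} (h : jOk k l = true) : ∀ E ∈ l, E.i < k ∧ E.j < k := by
  induction l with
  | nil => intro E hE; simp at hE
  | cons a l ih =>
    simp only [jOk, Bool.and_eq_true, Nat.blt_eq] at h
    intro E hE
    rcases List.mem_cons.mp hE with rfl | hE
    · exact h.1
    · exact ih h.2 E hE

/-- stabilizer pairs small -/
def sOk (k : ℕ) : List (ℕ × ℕ) → Bool
  | [] => true
  | p :: l => Nat.blt p.1 k && sOk k l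

theorem sOk_spec {k : ℕ} {l : List (ℕ × ℕ)} (h : sOk k l = true) : ∀ p ∈ l, p.1 < k := by
  induction l with
  | nil => intro p hp; simp at hp
  | cons a l ih =>
    simp only [sOk, Bool.and_eq_true, Nat.blt_eq] at h
    intro p hp
    rcases List.mem_cons.mp hp with rfl | hp
    · exact h.1
    · exact ih h.2 p hp

variable (hact : ∀ c < L, ∀ i < m, φ (xs c) i = look (tab c) i) (hlt : ∀ c < L, ∀ i < m, look (tab c) i < m)
  (hbase : ∀ b ∈ base, b < m) (hfaith : ∀ g, (∀ b ∈ base, φ g b = b) → g = 1)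
include hact hlt hbase hfaith

/-- the upper bound -/
theorem upper_main [Finite P] (ψ : P →* G) (t : G) (K0 : Subgroup G)
    (hph : ∀ p ∈ ph, t * ψ (xs p.1) = ψ (xs p.2) * t) (hI : ∀ p ∈ phI, (p.2, p.1) ∈ ph)
    {rels : List (List Tok)} (hrels : ∀ r ∈ rels, seqG xs ψ t r = 1) {n0 : ℕ}
    (hiv : ∀ c < n0, xs (iv c) = (xs c)⁻¹) (hn0 : ∀ r ∈ rels, r.all (tokL n0) = true)
    (hgen : ∀ K : Subgroup G, (∀ p, ψ p ∈ K) → t ∈ K → K = ⊤)
    {init : List ℕ} (hK0 : ∀ s ∈ init, ψ (xs s) ∈ K0)
    {ds : List (ℕ × List ℕ × Bool)} (hds : defOk 0 ds = true) {its : List Item} {st : St}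
    (hrun : run tab L base ph phI iv rels ⟨defEdges 0 ds, init.map (fun s => (0, s))⟩ its = some st)
    {k pt mo : ℕ} (hk : 0 < k) (hj : jOk k st.edges = true)
    (hpt : pt < mo) (hm : ∀ g i, i < mo → φ g i < mo) (hcov : ∀ i < k, ∀ q < mo, Good xs φ mo st pt i q)
    (hB : ∀ g, φ g pt = pt → g ∈ Bs xs ph) :
    Finite (G ⧸ K0) ∧ Nat.card (G ⧸ K0) ≤ ∑ i : Fin k, (Sg xs st.stab i).index := by
  have hds' := defOk_spec hds
  obtain ⟨c, hc0, hc⟩ := exists_c xs ((MulAction.toPermHom G (G ⧸ K0)).comp ψ) (MulAction.toPermHom G (G ⧸ K0) t)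
    ((1 : G) : G ⧸ K0) ds (fun n h => by have := hds' n h; omega)
  have hinv : Inv xs ((MulAction.toPermHom G (G ⧸ K0)).comp ψ) (MulAction.toPermHom G (G ⧸ K0) t) c
      ⟨defEdges 0 ds, init.map (fun s => (0, s))⟩ := by
    refine ⟨defEdges_spec 0 ds (fun j hj' => by rw [zero_add]; exact hc j hj'), ?_⟩
    intro p hp
    obtain ⟨s, hs, rfl⟩ := List.mem_map.mp hp
    show (MulAction.toPermHom G (G ⧸ K0)) (ψ (xs s)) (c 0) = c 0
    rw [hc0]
    show ψ (xs s) • ((1 : G) : G ⧸ K0) = ((1 : G) : G ⧸ K0)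
    rw [MulAction.Quotient.smul_coe, smul_eq_mul, mul_one]
    exact QuotientGroup.eq.mpr (by simpa using hK0 s hs)
  have hph' : ∀ p ∈ ph, MulAction.toPermHom G (G ⧸ K0) t * ((MulAction.toPermHom G (G ⧸ K0)).comp ψ) (xs p.1) =
      ((MulAction.toPermHom G (G ⧸ K0)).comp ψ) (xs p.2) * MulAction.toPermHom G (G ⧸ K0) t := by
    intro p hp
    simp only [MonoidHom.comp_apply, ← map_mul, hph p hp]
  have hphI' : ∀ p ∈ phI, (MulAction.toPermHom G (G ⧸ K0) t)⁻¹ * ((MulAction.toPermHom G (G ⧸ K0)).comp ψ) (xs p.1) =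
      ((MulAction.toPermHom G (G ⧸ K0)).comp ψ) (xs p.2) * (MulAction.toPermHom G (G ⧸ K0) t)⁻¹ := by
    intro p hp
    have := hph' _ (hI p hp)
    simp only at this
    rw [inv_mul_eq_iff_eq_mul, ← mul_assoc, this, mul_inv_cancel_right]
  have hst := run_sound hact hlt hbase hfaith hph' hphI' (rels := rels) (fun r hr => by
    rw [seqP_seqG, hrels r hr, map_one]) hiv hn0 hinv hrun
  have hs := surj (k := k) hst hph' hm hpt hcov hB (fun E hE => (jOk_spec hj E hE).2) hk (by
    intro S h0 hP hT hTi y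
    obtain ⟨g, rfl⟩ := QuotientGroup.mk_surjective y
    let K : Subgroup G :=
      { carrier := {g | (∀ y ∈ S, g • y ∈ S) ∧ ∀ y ∈ S, g⁻¹ • y ∈ S}
        one_mem' := by simp
        mul_mem' := by
          rintro a b ⟨ha, ha'⟩ ⟨hb, hb'⟩
          exact ⟨fun y hy => by rw [mul_smul]; exact ha _ (hb _ hy), fun y hy => by rw [mul_inv_rev, mul_smul]; exact hb' _ (ha' _ hy)⟩
        inv_mem' := by
          rintro a ⟨ha, ha'⟩
          exact ⟨ha', fun y hy => by rw [inv_inv]; exact ha y hy⟩ }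
    have hK : K = ⊤ := hgen K (fun p => ⟨fun y hy => hP p y hy, fun y hy => by
      rw [← map_inv]; exact hP p⁻¹ y hy⟩) ⟨fun y hy => hT y hy, fun y hy => by
      have := hTi y hy
      rwa [← map_inv] at this⟩
    have hg : g ∈ K := by rw [hK]; trivial
    have := hg.1 (c 0) h0
    rw [hc0] at this
    have h3 : g • ((1 : G) : G ⧸ K0) = (g : G ⧸ K0) := by
      rw [MulAction.Quotient.smul_coe, smul_eq_mul, mul_one]
    rwa [h3] at this)
  exact card_le hst.2 hs

end upper

end Cfsg.Agent.Lib.Dce
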