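import Cfsg.Agent.Lib.DceTrans

/-!
# Double coset enumeration: words fixing points of the model
-/

set_option autoImplicit false
set_option linter.all false

namespace Cfsg.Agent.Lib.Dce

/-- a token word fixes a point -/
def fixP (tab : ℕ → ℕ) (L : ℕ) (base : List ℕ) (ph phI : List (ℕ × ℕ)) (st : St) (k : ℕ) (r : List Tok) (i : ℕ) (e : List ℕ)
    (ss : List Step) (s : List ℕ) : Bool :=
  match path tab L base ph phI st r ss i e with
  | none => false
  | some p => Nat.blt i k && (Nat.beq p.1 i && (allS st.stab i s && eqP tab L base (p.2 ++ s) e))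

section fix
variable {P : Type*} [Group P] {xs : ℕ → P} {φ : P →* Equiv.Perm ℕ} {tab : ℕ → ℕ} {L m : ℕ} {base : List ℕ}
  {ph phI : List (ℕ × ℕ)} {st : St} {k : ℕ}

theorem seqP_rep {Y : Type*} {A : P →* Equiv.Perm Y} {T : Equiv.Perm Y} (r : List Tok) (n : ℕ) :
    seqP xs A T (rep r n) = seqP xs A T r ^ n := by
  induction n with
  | zero => rfl
  | succ n ih => rw [rep, seqP_append, ih, pow_succ']

variable (hact : ∀ c < L, ∀ i < m, φ (xs c) i = look (tab c) i) (hlt : ∀ c < L, ∀ i < m, look (tab c) i < m)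
  (hbase : ∀ b ∈ base, b < m) (hfaith : ∀ g, (∀ b ∈ base, φ g b = b) → g = 1)
include hact hlt hbase hfaith

theorem fixP_sound {hk : 0 < k} {T} (hT : TT xs ph st k hk T) (hst : ∀ p ∈ st.stab, p.1 < k) (hI : ∀ p ∈ phI, (p.2, p.1) ∈ ph)
    {r : List Tok} {i : ℕ} {e : List ℕ} {ss : List Step} {s : List ℕ} (h : fixP tab L base ph phI st k r i e ss s = true) :
    seqP xs (AA xs st k) T r (ev xs e • cc xs st k hk i) = ev xs e • cc xs st k hk i := by
  simp only [fixP] at h
  cases hp : path tab L base ph phI st r ss i e with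
  | none => rw [hp] at h; simp at h
  | some p =>
    rw [hp] at h; simp only [Bool.and_eq_true, Nat.beq_eq, Nat.blt_eq] at h
    obtain ⟨pi, pe⟩ := p
    obtain ⟨h0, rfl, h1, h2⟩ := h
    have hinv := TT_inv hact hlt hbase hfaith hT hst
    have e1 := path_sound hact hlt hbase hfaith hT.tw (TT_phI hT hI) hinv r ss _ e hp
    have e2 := eqP_sound hact hlt hbase hfaith h2
    have e3 := allS_sound (A := AA xs st k) (c := cc xs st k hk) hinv.2 h1
    have e4 : AA xs st k (ev xs pe) (cc xs st k hk pi) = AA xs st k (ev xs e) (cc xs st k hk pi) := by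
      rw [← e2, ev_append, map_mul, Equiv.Perm.mul_apply, e3]
    rw [e4] at e1
    exact e1

end fix

end Cfsg.Agent.Lib.Dce
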