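import Cfsg.Agent.Lib.DceMod2
import Cfsg.Agent.Lib.CosetGroup

/-!
# Double coset enumeration: permutation groups from tables
-/

set_option autoImplicit false
set_option linter.all false

namespace Cfsg.Agent.Lib.Dce

/-- tree of numbers -/
inductive Tr where
  | l (n : ℕ) : Tr
  | n (a b : Tr) : Tr

/-- lookup -/
def Tr.get : Tr → ℕ → ℕ
  | Tr.l v, _ => v
  | Tr.n a b, c => bif Nat.beq (c % 2) 0 then a.get (c / 2) else b.get (c / 2)

/-- inverse check -/
def chkI (A B m : ℕ) : ℕ → Bool
  | 0 => true
  | n + 1 => (Nat.blt (look A n) m && Nat.beq (look B (look A n)) n) && chkI A B m n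

theorem chkI_spec {A B m n : ℕ} (h : chkI A B m n = true) : ∀ i < n, look A i < m ∧ look B (look A i) = i := by
  induction n with
  | zero => intro i hi; omega
  | succ n ih =>
    simp only [chkI, Bool.and_eq_true, Nat.blt_eq, Nat.beq_eq] at h
    intro i hi
    rcases Nat.lt_succ_iff_lt_or_eq.mp hi with hi | rfl
    · exact ih h.2 i hi
    · exact h.1

/-- table function -/
def pf (T m i : ℕ) : ℕ := bif Nat.blt i m then look T i else i

theorem pf_lt {T m i : ℕ} (h : i < m) : pf T m i = look T i := by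
  unfold pf
  have : Nat.blt i m = true := by simpa [Nat.blt_eq] using h
  rw [this]; rfl

theorem pf_ge {T m i : ℕ} (h : ¬ i < m) : pf T m i = i := by
  unfold pf
  have : Nat.blt i m = false := by
    rw [← Bool.not_eq_true]; simpa [Nat.blt_eq] using h
  rw [this]; rfl

/-- permutation from two inverse tables -/
def mkP (A B m : ℕ) (h1 : chkI A B m m = true) (h2 : chkI B A m m = true) : Equiv.Perm ℕ where
  toFun := pf A m
  invFun := pf B m
  left_inv := by
    intro i
    by_cases h : i < m
    · have := chkI_spec h1 i h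
      rw [pf_lt h, pf_lt this.1, this.2]
    · rw [pf_ge h, pf_ge h]
  right_inv := by
    intro i
    by_cases h : i < m
    · have := chkI_spec h2 i h
      rw [pf_lt h, pf_lt this.1, this.2]
    · rw [pf_ge h, pf_ge h]

section grp
variable (tab iv : ℕ → ℕ) (m n0 : ℕ)

/-- the permutation of a letter -/
def gperm (c : ℕ) : Equiv.Perm ℕ :=
  if h : chkI (tab c) (tab (iv c)) m m = true ∧ chkI (tab (iv c)) (tab c) m m = true then mkP _ _ m h.1 h.2 else 1

/-- check of the letters -/
def allI : ℕ → Bool
  | 0 => true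
  | c + 1 => chkI (tab c) (tab (iv c)) m m && (Nat.blt (iv c) n0 && (Nat.beq (iv (iv c)) c && allI c))

/-- the group -/
def PG : Subgroup (Equiv.Perm ℕ) := Subgroup.closure {g | ∃ c < n0, g = gperm tab iv m c}

/-- the letters -/
noncomputable def xb (c : ℕ) : PG tab iv m n0 :=
  if h : c < n0 then ⟨gperm tab iv m c, Subgroup.subset_closure ⟨c, h, rfl⟩⟩ else 1

/-- letters and macros -/
def ext {P : Type*} [Group P] (xb : ℕ → P) (n0 : ℕ) (wd : List (List ℕ)) (c : ℕ) : P :=
  if c < n0 then xb c else ev xb (atD [] wd (c - n0))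

/-- equality of a word and a table -/
def eqT (w : List ℕ) (T : ℕ) : ℕ → Bool
  | 0 => true
  | n + 1 => (Nat.beq (actw tab w n) (look T n) && Nat.blt (look T n) m) && eqT w T n

/-- check of the macros -/
def chkM (c : ℕ) : List (List ℕ) → Bool
  | [] => true
  | w :: l => lets n0 w && (eqT tab m w (tab c) m && chkM (c + 1) l)

/-- a word acts trivially -/
def trivT (w : List ℕ) : ℕ → Bool
  | 0 => true
  | n + 1 => Nat.beq (actw tab w n) n && trivT w n

end grp

section spec
variable {tab iv : ℕ → ℕ} {m n0 : ℕ}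

theorem allI_spec {n : ℕ} (h : allI tab iv m n0 n = true) : ∀ c < n, chkI (tab c) (tab (iv c)) m m = true ∧ iv c < n0 ∧ iv (iv c) = c := by
  induction n with
  | zero => intro c hc; omega
  | succ n ih =>
    simp only [allI, Bool.and_eq_true, Nat.blt_eq, Nat.beq_eq] at h
    intro c hc
    rcases Nat.lt_succ_iff_lt_or_eq.mp hc with hc | rfl
    · exact ih h.2.2.2 c hc
    · exact ⟨h.1, h.2.1, h.2.2.1⟩

variable (h : allI tab iv m n0 n0 = true)
include h

theorem gperm_eq {c : ℕ} (hc : c < n0) : ∃ h1 h2, gperm tab iv m c = mkP (tab c) (tab (iv c)) m h1 h2 := by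
  have h1 := allI_spec h c hc
  have h2 := allI_spec h (iv c) h1.2.1
  rw [h1.2.2] at h2
  refine ⟨h1.1, h2.1, ?_⟩
  unfold gperm
  rw [dif_pos ⟨h1.1, h2.1⟩]

theorem gperm_lt {c i : ℕ} (hc : c < n0) (hi : i < m) : gperm tab iv m c i = look (tab c) i := by
  obtain ⟨h1, h2, e⟩ := gperm_eq h hc
  rw [e]; exact pf_lt hi

theorem gperm_ge {c i : ℕ} (hi : ¬ i < m) : gperm tab iv m c i = i := by
  unfold gperm
  split
  · exact pf_ge hi
  · rfl

theorem gperm_iv {c : ℕ} (hc : c < n0) : gperm tab iv m (iv c) = (gperm tab iv m c)⁻¹ := by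
  obtain ⟨h1, h2, e⟩ := gperm_eq h hc
  have hc' := allI_spec h c hc
  obtain ⟨h1', h2', e'⟩ := gperm_eq h hc'.2.1
  ext1 i
  rw [e, e']
  show pf (tab (iv c)) m i = pf (tab (iv c)) m i
  rfl

theorem xb_lt {c : ℕ} (hc : c < n0) : ((xb tab iv m n0 c : PG tab iv m n0) : Equiv.Perm ℕ) = gperm tab iv m c := by
  unfold xb; rw [dif_pos hc]

theorem xb_iv {c : ℕ} (hc : c < n0) : xb tab iv m n0 (iv c) = (xb tab iv m n0 c)⁻¹ := by
  apply Subtype.ext
  rw [xb_lt h (allI_spec h c hc).2.1, gperm_iv h hc]
  show _ = ((xb tab iv m n0 c : PG tab iv m n0) : Equiv.Perm ℕ)⁻¹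
  rw [xb_lt h hc]

/-- base letters act by the tables -/
theorem xb_act {c : ℕ} (hc : c < n0) {i : ℕ} (hi : i < m) : (PG tab iv m n0).subtype (xb tab iv m n0 c) i = look (tab c) i := by
  show ((xb tab iv m n0 c : PG tab iv m n0) : Equiv.Perm ℕ) i = _
  rw [xb_lt h hc, gperm_lt h hc hi]

theorem base_lt {c : ℕ} (hc : c < n0) {i : ℕ} (hi : i < m) : look (tab c) i < m :=
  (chkI_spec (allI_spec h c hc).1 i hi).1

theorem PG_ge (g : PG tab iv m n0) {i : ℕ} (hi : ¬ i < m) : (PG tab iv m n0).subtype g i = i := by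
  obtain ⟨g, hg⟩ := g
  show g i = i
  induction hg using Subgroup.closure_induction with
  | mem x hx => obtain ⟨c, hc, rfl⟩ := hx; exact gperm_ge h hi
  | one => rfl
  | mul x y _ _ hx hy => rw [Equiv.Perm.mul_apply, hy, hx]
  | inv x _ hx => rw [Equiv.Perm.inv_eq_iff_eq, hx]

theorem PG_lt (g : PG tab iv m n0) {i : ℕ} (hi : i < m) : (PG tab iv m n0).subtype g i < m := by
  by_contra hlt
  have h1 := PG_ge h g⁻¹ hlt
  rw [map_inv, Equiv.Perm.inv_eq_iff_eq] at h1
  have := (PG tab iv m n0).subtype g |>.injective h1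
  omega

/-- equality in the group from the points -/
theorem PG_ext {g g' : PG tab iv m n0} (hg : ∀ i < m, (PG tab iv m n0).subtype g i = (PG tab iv m n0).subtype g' i) : g = g' := by
  apply Subtype.ext
  ext1 i
  by_cases hi : i < m
  · exact hg i hi
  · exact (PG_ge h g hi).trans (PG_ge h g' hi).symm

omit h in
theorem trivT_spec {w : List ℕ} {n : ℕ} (h : trivT tab w n = true) : ∀ i < n, actw tab w i = i := by
  induction n with
  | zero => intro i hi; omega
  | succ n ih =>
    simp only [trivT, Bool.and_eq_true, Nat.beq_eq] at h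
    intro i hi
    rcases Nat.lt_succ_iff_lt_or_eq.mp hi with hi | rfl
    · exact ih h.2 i hi
    · exact h.1

theorem triv_sound {w : List ℕ} (hw : lets n0 w = true) (ht : trivT tab w m = true) : ev (xb tab iv m n0) w = 1 := by
  apply PG_ext h
  intro i hi
  rw [(actw_eq (φ := (PG tab iv m n0).subtype) (fun c hc i hi => xb_act h hc hi) (fun c hc i hi => base_lt h hc hi) w hw i hi).1,
    trivT_spec ht i hi]
  simp

end spec

section ext
variable {P : Type*} [Group P] {φ : P →* Equiv.Perm ℕ} {xb : ℕ → P} {tab : ℕ → ℕ} {m n0 : ℕ}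

theorem ext_lt {wd : List (List ℕ)} {c : ℕ} (hc : c < n0) : ext xb n0 wd c = xb c := if_pos hc

theorem ev_ext {wd : List (List ℕ)} {w : List ℕ} (hw : lets n0 w = true) : ev (ext xb n0 wd) w = ev xb w := by
  induction w with
  | nil => rfl
  | cons c w ih =>
    simp only [lets, Bool.and_eq_true, Nat.blt_eq] at hw
    rw [ev_cons, ev_cons, ih hw.2, ext_lt hw.1]

theorem eqT_spec {w : List ℕ} {T n : ℕ} (h : eqT tab m w T n = true) : ∀ i < n, actw tab w i = look T i ∧ look T i < m := by
  induction n with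
  | zero => intro i hi; omega
  | succ n ih =>
    simp only [eqT, Bool.and_eq_true, Nat.beq_eq, Nat.blt_eq] at h
    intro i hi
    rcases Nat.lt_succ_iff_lt_or_eq.mp hi with hi | rfl
    · exact ih h.2 i hi
    · exact h.1

theorem chkM_spec {c : ℕ} {wd : List (List ℕ)} (h : chkM tab m n0 c wd = true) : ∀ j < wd.length,
    lets n0 (atD [] wd j) = true ∧ ∀ i < m, actw tab (atD [] wd j) i = look (tab (c + j)) i ∧ look (tab (c + j)) i < m := by
  induction wd generalizing c with
  | nil => intro j hj; simp at hj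
  | cons w l ih =>
    simp only [chkM, Bool.and_eq_true] at h
    intro j hj
    cases j with
    | zero => exact ⟨h.1, eqT_spec h.2.1⟩
    | succ j =>
      have := ih h.2.2 j (by simpa using hj)
      rw [show c + (j + 1) = c + 1 + j by omega]
      exact this

theorem ext_act (hact : ∀ c < n0, ∀ i < m, φ (xb c) i = look (tab c) i) (hlt : ∀ c < n0, ∀ i < m, look (tab c) i < m)
    {wd : List (List ℕ)} (h : chkM tab m n0 n0 wd = true) {L : ℕ} (hL : L = n0 + wd.length) :
    (∀ c < L, ∀ i < m, φ (ext xb n0 wd c) i = look (tab c) i) ∧ ∀ c < L, ∀ i < m, look (tab c) i < m := by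
  subst hL
  have h1 := chkM_spec h
  constructor
  · intro c hc i hi
    by_cases h2 : c < n0
    · rw [ext_lt h2]; exact hact c h2 i hi
    · obtain ⟨j, rfl⟩ := Nat.exists_eq_add_of_le (not_lt.mp h2)
      have h3 := h1 j (by omega)
      unfold ext
      rw [if_neg h2, Nat.add_sub_cancel_left]
      rw [(actw_eq (φ := φ) hact hlt _ h3.1 i hi).1, (h3.2 i hi).1]
  · intro c hc i hi
    by_cases h2 : c < n0
    · exact hlt c h2 i hi
    · obtain ⟨j, rfl⟩ := Nat.exists_eq_add_of_le (not_lt.mp h2)
      exact ((h1 j (by omega)).2 i hi).2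

end ext

section faith
variable {P : Type*} [Group P] {xs : ℕ → P} {φ : P →* Equiv.Perm ℕ} {tab : ℕ → ℕ} {L m : ℕ}

/-- points of a chain -/
def chainB : List ℕ → List Stage → List ℕ
  | prev, [] => prev
  | prev, s :: l => chainB (s.b :: prev) l

variable (hact : ∀ c < L, ∀ i < m, φ (xs c) i = look (tab c) i) (hlt : ∀ c < L, ∀ i < m, look (tab c) i < m)
include hact hlt

theorem chainH_sound2 [Finite P] {K : Subgroup P} {Ws : List (List ℕ)} (hK : ∀ w ∈ Ws, ev xs w ∈ K) (l : List Stage)
    {prev : List ℕ} (hprev : ∀ b ∈ prev, b < m) {r : ℕ}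
    (h : chainH tab L m Ws prev l = some r) : r * Nat.card (fixL φ K (chainB prev l)) ≤ Nat.card (fixL φ K prev) := by
  induction l generalizing prev r with
  | nil => simp only [chainH, Option.some.injEq] at h; subst h; rw [one_mul, chainB]
  | cons s l ih =>
    simp only [chainH] at h
    cases hb : Nat.blt s.b m with
    | false => rw [hb] at h; simp at h
    | true =>
      rw [hb] at h; simp only [cond_true] at h
      have hb' : s.b < m := by simpa [Nat.blt_eq] using hb
      cases hg : growH tab L Ws prev s.g (2 ^ s.b) 1 with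
      | none => rw [hg] at h; simp at h
      | some p =>
        rw [hg] at h; simp only at h
        cases hr : chainH tab L m Ws (s.b :: prev) l with
        | none => rw [hr] at h; simp at h
        | some r' =>
          rw [hr] at h; simp only [Option.some.injEq] at h
          subst h
          obtain ⟨p1, p2⟩ := p
          have h1 := ih (prev := s.b :: prev) (by
            intro b hb2
            rcases List.mem_cons.mp hb2 with rfl | hb2
            · exact hb'
            · exact hprev b hb2) hr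
          obtain ⟨F, a1, a2, a3⟩ := growH_sound hact hlt hK hprev (Q := fun q => ∃ g ∈ fixL φ K prev, φ g s.b = q) (by
            rintro g hg q ⟨g', hg', rfl⟩
            exact ⟨g * g', Subgroup.mul_mem _ hg hg', by rw [map_mul]; rfl⟩) s.g (F := {s.b}) (by simp) (by
            intro q; simp [Nat.testBit_two_pow, eq_comm]) (by
            intro q hq
            rw [Finset.mem_singleton] at hq; subst hq
            exact ⟨hb', 1, Subgroup.one_mem _, by simp⟩) hg
          have h2 := card_step (φ := φ) (fixL φ K prev) s.b F (fun q hq => (a3 q hq).2)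
          rw [a1] at h2
          show p2 * r' * _ ≤ _
          rw [mul_assoc]
          refine le_trans (Nat.mul_le_mul_left _ (le_trans h1 ?_)) h2
          apply Nat.card_mono (Set.toFinite _)
          rintro g ⟨hg1, hg2⟩
          exact ⟨⟨hg1, fun b hb => hg2 b (by simp [hb])⟩, fun b hb => by
            rw [List.mem_singleton] at hb; subst hb; exact hg2 _ (by simp)⟩

/-- the chain is a base if the order is known -/
theorem chain_faith [Finite P] {Ws : List (List ℕ)} (l : List Stage) {r : ℕ} (h : chainH tab L m Ws [] l = some r)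
    (hcard : Nat.card P ≤ r) : Nat.card P = r ∧ ∀ g, (∀ b ∈ chainB [] l, φ g b = b) → g = 1 := by
  have h1 := chainH_sound2 hact hlt (K := ⊤) (fun w _ => trivial) l (prev := []) (by simp) h
  have h2 : Nat.card (fixL φ (⊤ : Subgroup P) []) ≤ Nat.card P := Subgroup.card_le_card_group _
  have h3 : 0 < Nat.card (fixL φ (⊤ : Subgroup P) (chainB [] l)) := Nat.card_pos
  have h0 : 0 < Nat.card P := Nat.card_pos
  have hr : 0 < r := lt_of_lt_of_le h0 hcard
  have h4 : Nat.card (fixL φ (⊤ : Subgroup P) (chainB [] l)) = 1 := by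
    have : r * Nat.card (fixL φ (⊤ : Subgroup P) (chainB [] l)) ≤ r * 1 := by
      rw [mul_one]; exact le_trans h1 (le_trans h2 hcard)
    have := Nat.le_of_mul_le_mul_left this hr
    omega
  refine ⟨le_antisymm hcard ?_, ?_⟩
  · rw [h4, mul_one] at h1
    exact le_trans h1 h2
  · intro g hg
    have h5 : (⟨g, trivial, hg⟩ : fixL φ (⊤ : Subgroup P) (chainB [] l)) = 1 := by
      have := Nat.card_eq_one_iff_unique.mp h4
      exact this.1.elim _ _
    exact congrArg Subtype.val h5

theorem chain_ge [Finite P] {Ws : List (List ℕ)} (l : List Stage) {r : ℕ} (h : chainH tab L m Ws [] l = some r) :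
    r ≤ Nat.card P := by
  have h1 := chainH_card hact hlt (K := (⊤ : Subgroup P)) (fun w _ => trivial) l h
  exact le_trans h1 (Subgroup.card_le_card_group _)

end faith

end Cfsg.Agent.Lib.Dce
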