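import Cfsg.Agent.Lib.DceUp

/-!
# Double coset enumeration: the table is a permutation representation (lower bounds)
-/

set_option autoImplicit false
set_option linter.all false

namespace Cfsg.Agent.Lib.Dce

section defs
variable (tab : ℕ → ℕ) (L m : ℕ) (base : List ℕ) (ph phI : List (ℕ × ℕ))

/-- concatenation of generator words -/
def expq (Ws : List (List ℕ)) : List ℕ → Option (List ℕ)
  | [] => some []
  | s :: l => match nthE Ws s with
    | none => none
    | some a => match expq Ws l with
      | none => none
      | some b => some (a ++ b)

/-- growing a set of points -/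
def growH (Ws : List (List ℕ)) (prev : List ℕ) : List (List ℕ × List ℕ) → ℕ → ℕ → Option (ℕ × ℕ)
  | [], M, n => some (M, n)
  | g :: l, M, n => match expq Ws g.1 with
    | none => none
    | some w => bif lets L w && eqB tab w [] prev then
        match growW tab w g.2 M n with
        | none => none
        | some p => growH Ws prev l p.1 p.2 else none

/-- lower bound for the order -/
def chainH (Ws : List (List ℕ)) : List ℕ → List Stage → Option ℕ
  | _, [] => some 1
  | prev, s :: l => bif Nat.blt s.b m then
      match growH tab L Ws prev s.g (2 ^ s.b) 1 with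
      | none => none
      | some p => match chainH Ws (s.b :: prev) l with
        | none => none
        | some r => some (p.2 * r)
      else none

/-- membership -/
def memL : List ℕ → ℕ → Bool
  | [], _ => false
  | a :: l, s => Nat.beq a s || memL l s

/-- all letters in a list -/
def allM (G : List ℕ) : List ℕ → Bool
  | [] => true
  | s :: w => memL G s && allM G w

/-- images of coset representatives under a letter -/
def cosG (us : List (List ℕ)) (G' : List ℕ) (g : ℕ) : List (List ℕ) → List (ℕ × List ℕ) → Bool
  | [], _ => true
  | _ :: _, [] => false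
  | u :: l, p :: ps => match nthE us p.1 with
    | none => false
    | some u' => allM G' p.2 && (eqP tab L base (g :: u) (u' ++ p.2) && cosG us G' g l ps)

/-- the same for several letters -/
def cosA (us : List (List ℕ)) (G' : List ℕ) : List ℕ → List (List (ℕ × List ℕ)) → Bool
  | [], _ => true
  | _ :: _, [] => false
  | g :: gs, c :: cs => cosG tab L base us G' g us c && cosA us G' gs cs

/-- a level of an upper chain -/
structure ULev where
  us : List (List ℕ)
  G : List ℕ
  c : List (List (ℕ × List ℕ))

/-- the empty word is present -/
def hasNil : List (List ℕ) → Bool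
  | [] => false
  | [] :: _ => true
  | (_ :: _) :: l => hasNil l

/-- upper bound for the order -/
def chainU : List ULev → List ℕ → Bool
  | [], [] => true
  | [], _ :: _ => false
  | l :: r, G => hasNil l.us && (cosA tab L base l.us l.G G l.c && chainU r l.G)

/-- the bound -/
def szU : List ULev → ℕ
  | [] => 1
  | l :: r => l.us.length * szU r

/-- generators of the stabilizer of an edge -/
structure AG where
  w : List ℕ
  s : List ℕ
  s2 : List ℕ

/-- check of the generators -/
def chkA (st : St) (E : Edge) : List AG → Bool
  | [] => true
  | a :: l => (match phw ph a.w with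
    | none => false
    | some v => allS st.stab E.i a.s && (eqP tab L base (a.w ++ E.h) (E.h ++ a.s) &&
        (allS st.stab E.j a.s2 && eqP tab L base (v ++ E.a) (E.a ++ a.s2)))) && chkA st E l

/-- data for an edge -/
structure EC where
  g : List AG
  ch : List Stage

/-- sum of the orbit lengths -/
def sumA (st : St) (dN : ℕ) : List Edge → List EC → Option ℕ
  | [], [] => some 0
  | E :: es, c :: cs => bif chkA tab L base ph st E c.g then
      match chainH tab L m (c.g.map AG.w) [] c.ch with
      | none => none
      | some r => bif Nat.beq (r * (dN / r)) dN && Nat.blt 0 r then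
          match sumA st dN es cs with
          | none => none
          | some t => some (dN / r + t) else none
      else none
  | _, _ => none

/-- swapped edges -/
def swapSt (st : St) : St := ⟨st.edges.map (fun E => ⟨E.j, E.a, E.i, E.h⟩), st.stab⟩

/-- root of a relator check -/
structure RR where
  g : List ℕ
  q : ℕ
  ss : List Step
  s : List ℕ

/-- relator checks for an edge -/
structure RE where
  rr : List RR
  gr : List (List ℕ × List ℕ)

/-- roots of relator checks -/
def relRoots (st : St) (r : List Tok) (E : Edge) (ptr : ℕ) : List RR → ℕ → Option ℕ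
  | [], M => some M
  | c :: l, M => match phw ph c.g with
    | none => none
    | some _ => match path tab L base ph phI st r c.ss E.i (c.g ++ E.h) with
      | none => none
      | some p => bif Nat.beq p.1 E.i && (allS st.stab E.i c.s && (eqP tab L base (p.2 ++ c.s) (c.g ++ E.h) &&
          (lets L c.g && (Nat.blt c.q m && Nat.beq (actw tab c.g c.q) ptr)))) then
          relRoots st r E ptr l (setb M c.q) else none

/-- relator check for an edge -/
def relE (st : St) (r : List Tok) (ptr om : ℕ) (E : Edge) (a : EC) (c : RE) : Bool :=
  match relRoots tab L m base ph phI st r E ptr c.rr 0 with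
  | none => false
  | some M => match growH tab L (a.g.map AG.w) [] c.gr M 0 with
    | none => false
    | some p => Nat.beq p.1 om

/-- relator check for all edges -/
def relAll (st : St) (r : List Tok) (ptr om : ℕ) : List Edge → List EC → List RE → Bool
  | [], [], [] => true
  | E :: es, a :: as', c :: cs => relE tab L m base ph phI st r ptr om E a c && relAll st r ptr om es as' cs
  | _, _, _ => false

/-- pull a word through tokens -/
def comm : List Tok → List ℕ → List (List ℕ) → Option (List ℕ)
  | [], b, _ => some b
  | Tok.h _ :: _, _, [] => none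
  | Tok.h w :: ts, b, c :: cs => bif eqP tab L base (w ++ b) (c ++ w) then comm ts c cs else none
  | Tok.t :: ts, b, cs => match phw ph b with
    | none => none
    | some v => comm ts v cs
  | Tok.T :: ts, b, cs => match phw phI b with
    | none => none
    | some v => comm ts v cs

/-- check for the generators commuting with a relator -/
def commA (r : List Tok) (ptr : ℕ) : List (List ℕ × List (List ℕ)) → Bool
  | [] => true
  | c :: l => (match phw ph c.1 with
    | none => false
    | some _ => match comm tab L base ph phI r c.1 c.2 with
      | none => false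
      | some v => eqP tab L base v c.1 && (lets L c.1 && Nat.beq (actw tab c.1 ptr) ptr)) && commA r ptr l

end defs

/-! ### soundness of chains -/

section sound
variable {P : Type*} [Group P] {xs : ℕ → P} {φ : P →* Equiv.Perm ℕ} {tab : ℕ → ℕ} {L m : ℕ} {base : List ℕ}

/-- closure of words -/
def Cl (xs : ℕ → P) (Ws : List (List ℕ)) : Subgroup P := Subgroup.closure {g | ∃ w ∈ Ws, g = ev xs w}

theorem expq_mem {K : Subgroup P} {Ws : List (List ℕ)} (hK : ∀ w ∈ Ws, ev xs w ∈ K) {l w : List ℕ} (h : expq Ws l = some w) :
    ev xs w ∈ K := by
  induction l generalizing w with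
  | nil => simp only [expq, Option.some.injEq] at h; subst h; exact K.one_mem
  | cons s l ih =>
    simp only [expq] at h
    cases h1 : nthE Ws s with
    | none => rw [h1] at h; simp at h
    | some a =>
      rw [h1] at h; simp only at h
      cases h2 : expq Ws l with
      | none => rw [h2] at h; simp at h
      | some b =>
        rw [h2] at h; simp only [Option.some.injEq] at h; subst h
        rw [ev_append]
        exact K.mul_mem (hK _ (nthE_mem h1)) (ih h2)

variable (hact : ∀ c < L, ∀ i < m, φ (xs c) i = look (tab c) i) (hlt : ∀ c < L, ∀ i < m, look (tab c) i < m)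
include hact hlt

theorem growH_sound {K : Subgroup P} {Ws : List (List ℕ)} (hK : ∀ w ∈ Ws, ev xs w ∈ K) {prev : List ℕ} (hprev : ∀ b ∈ prev, b < m)
    {Q : ℕ → Prop} (hQ : ∀ g ∈ fixL φ K prev, ∀ q, Q q → Q (φ g q)) (l : List (List ℕ × List ℕ)) {M n M' n' : ℕ} {F : Finset ℕ}
    (hF : F.card = n) (hMF : ∀ q, M.testBit q = true ↔ q ∈ F) (hFQ : ∀ q ∈ F, q < m ∧ Q q)
    (h : growH tab L Ws prev l M n = some (M', n')) :
    ∃ F' : Finset ℕ, F'.card = n' ∧ (∀ q, M'.testBit q = true ↔ q ∈ F') ∧ ∀ q ∈ F', q < m ∧ Q q := by
  induction l generalizing M n F with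
  | nil => simp only [growH, Option.some.injEq, Prod.mk.injEq] at h; obtain ⟨rfl, rfl⟩ := h; exact ⟨F, hF, hMF, hFQ⟩
  | cons g l ih =>
    simp only [growH] at h
    cases he : expq Ws g.1 with
    | none => rw [he] at h; simp at h
    | some w =>
      rw [he] at h; simp only at h
      cases hc : (lets L w && eqB tab w [] prev) with
      | false => rw [hc] at h; simp at h
      | true =>
        rw [hc] at h; simp only [cond_true] at h
        simp only [Bool.and_eq_true] at hc
        obtain ⟨h2, h3⟩ := hc
        cases hg : growW tab w g.2 M n with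
        | none => rw [hg] at h; simp at h
        | some p =>
          rw [hg] at h; simp only at h
          obtain ⟨p1, p2⟩ := p
          have hK' : ev xs w ∈ fixL φ K prev := by
            refine ⟨expq_mem hK he, fun b hb => ?_⟩
            rw [eqB_iff] at h3
            rw [(actw_eq hact hlt _ h2 b (hprev b hb)).1, h3 b hb]; rfl
          obtain ⟨F1, a1, a2, a3⟩ := growW_sound hact hlt hQ h2 hK' g.2 hF hMF hFQ hg
          exact ih a1 a2 a3 h

/-- version without counting -/
theorem growH_sound' {K : Subgroup P} {Ws : List (List ℕ)} (hK : ∀ w ∈ Ws, ev xs w ∈ K)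
    {Q : ℕ → Prop} (hQ : ∀ g ∈ K, ∀ q, Q q → Q (φ g q)) (l : List (List ℕ × List ℕ)) {M n M' n' : ℕ}
    (hMF : ∀ q, M.testBit q = true → q < m ∧ Q q)
    (h : growH tab L Ws [] l M n = some (M', n')) : ∀ q, M'.testBit q = true → q < m ∧ Q q := by
  induction l generalizing M n with
  | nil => simp only [growH, Option.some.injEq, Prod.mk.injEq] at h; obtain ⟨rfl, rfl⟩ := h; exact hMF
  | cons g l ih =>
    simp only [growH] at h
    cases he : expq Ws g.1 with
    | none => rw [he] at h; simp at h
    | some w =>
      rw [he] at h; simp only at h
      cases hc : (lets L w && eqB tab w [] []) with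
      | false => rw [hc] at h; simp at h
      | true =>
        rw [hc] at h; simp only [cond_true] at h
        simp only [Bool.and_eq_true] at hc
        obtain ⟨h2, h3⟩ := hc
        cases hg : growW tab w g.2 M n with
        | none => rw [hg] at h; simp at h
        | some p =>
          rw [hg] at h; simp only at h
          refine ih ?_ h
          have hw : ∀ (l : List ℕ) (M n : ℕ) (p : ℕ × ℕ), (∀ q, M.testBit q = true → q < m ∧ Q q) →
              growW tab w l M n = some p → ∀ q, p.1.testBit q = true → q < m ∧ Q q := by
            intro l
            induction l with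
            | nil => intro M n p hM h; simp only [growW, Option.some.injEq] at h; subst h; exact hM
            | cons q l ih =>
              intro M n p hM h
              simp only [growW] at h
              cases hd : (Nat.testBit M q && !(Nat.testBit M (actw tab w q))) with
              | false => rw [hd] at h; simp at h
              | true =>
                rw [hd] at h; simp only [cond_true] at h
                simp only [Bool.and_eq_true] at hd
                refine ih _ _ _ ?_ h
                intro j hj
                rw [testBit_setb] at hj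
                rcases hj with hj | rfl
                · exact hM j hj
                · obtain ⟨k1, k2⟩ := hM q hd.1
                  obtain ⟨k7, k8⟩ := actw_eq hact hlt w h2 q k1
                  refine ⟨k8, ?_⟩
                  rw [← k7]
                  exact hQ _ (expq_mem hK he) _ k2
          exact hw _ _ _ _ hMF hg

theorem chainH_sound [Finite P] {K : Subgroup P} {Ws : List (List ℕ)} (hK : ∀ w ∈ Ws, ev xs w ∈ K) (l : List Stage)
    {prev : List ℕ} (hprev : ∀ b ∈ prev, b < m) {r : ℕ}
    (h : chainH tab L m Ws prev l = some r) : r ≤ Nat.card (fixL φ K prev) := by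
  induction l generalizing prev r with
  | nil => simp only [chainH, Option.some.injEq] at h; subst h; exact Nat.card_pos
  | cons s l ih =>
    simp only [chainH] at h
    cases hb : Nat.blt s.b m with
    | false => rw [hb] at h; simp at h
    | true =>
      rw [hb] at h; simp only [cond_true] at h
      have hb' : s.b < m := by simpa [Nat.blt_eq] using hb
      cases hg : growH tab L Ws prev s.g (2 ^ s.b) 1 with
      | none => rw [hg] at h; simp at h
      | some p =>
        rw [hg] at h; simp only at h
        cases hr : chainH tab L m Ws (s.b :: prev) l with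
        | none => rw [hr] at h; simp at h
        | some r' =>
          rw [hr] at h; simp only [Option.some.injEq] at h
          subst h
          obtain ⟨p1, p2⟩ := p
          have h1 := ih (prev := s.b :: prev) (by
            intro b hb2
            rcases List.mem_cons.mp hb2 with rfl | hb2
            · exact hb'
            · exact hprev b hb2) hr
          obtain ⟨F, a1, a2, a3⟩ := growH_sound hact hlt hK hprev (Q := fun q => ∃ g ∈ fixL φ K prev, φ g s.b = q) (by
            rintro g hg q ⟨g', hg', rfl⟩
            exact ⟨g * g', Subgroup.mul_mem _ hg hg', by rw [map_mul]; rfl⟩) s.g (F := {s.b}) (by simp) (by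
            intro q; simp [Nat.testBit_two_pow, eq_comm]) (by
            intro q hq
            rw [Finset.mem_singleton] at hq; subst hq
            exact ⟨hb', 1, Subgroup.one_mem _, by simp⟩) hg
          have h2 := card_step (φ := φ) (fixL φ K prev) s.b F (fun q hq => (a3 q hq).2)
          rw [a1] at h2
          refine le_trans (Nat.mul_le_mul_left _ (le_trans h1 ?_)) h2
          apply Nat.card_mono (Set.toFinite _)
          rintro g ⟨hg1, hg2⟩
          exact ⟨⟨hg1, fun b hb => hg2 b (by simp [hb])⟩, fun b hb => by
            rw [List.mem_singleton] at hb; subst hb; exact hg2 _ (by simp)⟩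

theorem chainH_card [Finite P] {K : Subgroup P} {Ws : List (List ℕ)} (hK : ∀ w ∈ Ws, ev xs w ∈ K) (l : List Stage)
    {r : ℕ} (h : chainH tab L m Ws [] l = some r) : r ≤ Nat.card K := by
  refine le_trans (chainH_sound hact hlt hK l (by simp) h) ?_
  apply Nat.card_mono (Set.toFinite _)
  rintro g ⟨hg1, hg2⟩
  exact hg1

end sound

section upper
variable {P : Type*} [Group P] {xs : ℕ → P} {φ : P →* Equiv.Perm ℕ} {tab : ℕ → ℕ} {L m : ℕ} {base : List ℕ}

/-- closure of letters -/
def Gl (xs : ℕ → P) (G : List ℕ) : Subgroup P := Subgroup.closure {g | ∃ s ∈ G, g = xs s}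

theorem memL_mem {l : List ℕ} {s : ℕ} (h : memL l s = true) : s ∈ l := by
  induction l with
  | nil => simp [memL] at h
  | cons a l ih =>
    simp only [memL, Bool.or_eq_true, Nat.beq_eq] at h
    rcases h with rfl | h
    · simp
    · simp [ih h]

theorem allM_mem {G w : List ℕ} (h : allM G w = true) : ev xs w ∈ Gl xs G := by
  induction w with
  | nil => exact Subgroup.one_mem _
  | cons s w ih =>
    simp only [allM, Bool.and_eq_true] at h
    rw [ev_cons]
    exact Subgroup.mul_mem _ (Subgroup.subset_closure ⟨s, memL_mem h.1, rfl⟩) (ih h.2)

theorem hasNil_mem {l : List (List ℕ)} (h : hasNil l = true) : [] ∈ l := by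
  induction l with
  | nil => simp [hasNil] at h
  | cons a l ih =>
    cases a with
    | nil => simp
    | cons b a => simp only [hasNil] at h; simp [ih h]

theorem inv_closed {C : Set P} (hfin : C.Finite) {x : P} (h : ∀ y ∈ C, x * y ∈ C) : ∀ y ∈ C, x⁻¹ * y ∈ C := by
  intro y hy
  have h1 : (fun y => x * y) '' C = C := by
    apply Set.Finite.eq_of_subset_of_card_le hfin
    · rintro _ ⟨y, hy, rfl⟩; exact h y hy
    · exact le_of_eq (Nat.card_image_of_injective (mul_right_injective x) C).symm
  rw [← h1] at hy
  obtain ⟨z, hz, rfl⟩ := hy
  simpa using hz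

theorem closure_closed {C : Set P} (hfin : C.Finite) {s : Set P} (h : ∀ x ∈ s, ∀ y ∈ C, x * y ∈ C) :
    ∀ x ∈ Subgroup.closure s, ∀ y ∈ C, x * y ∈ C := by
  intro x hx
  induction hx using Subgroup.closure_induction with
  | mem x hx => exact h x hx
  | one => intro y hy; simpa using hy
  | mul a b _ _ ha hb => intro y hy; rw [mul_assoc]; exact ha _ (hb _ hy)
  | inv a _ ha => exact inv_closed hfin ha

variable (hact : ∀ c < L, ∀ i < m, φ (xs c) i = look (tab c) i) (hlt : ∀ c < L, ∀ i < m, look (tab c) i < m)
  (hbase : ∀ b ∈ base, b < m) (hfaith : ∀ g, (∀ b ∈ base, φ g b = b) → g = 1)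
include hact hlt hbase hfaith

theorem cosG_sound {us : List (List ℕ)} {G' : List ℕ} {g : ℕ} {l : List (List ℕ)} {ps : List (ℕ × List ℕ)}
    (h : cosG tab L base us G' g l ps = true) : ∀ u ∈ l, ∃ u' ∈ us, ∃ k ∈ Gl xs G', xs g * ev xs u = ev xs u' * k := by
  induction l generalizing ps with
  | nil => intro u hu; simp at hu
  | cons u l ih =>
    cases ps with
    | nil => simp [cosG] at h
    | cons p ps =>
      simp only [cosG] at h
      cases hu : nthE us p.1 with
      | none => rw [hu] at h; simp at h
      | some u' =>
        rw [hu] at h; simp only [Bool.and_eq_true] at h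
        obtain ⟨h1, h2, h3⟩ := h
        intro v hv
        rcases List.mem_cons.mp hv with rfl | hv
        · have h4 := eqP_sound hact hlt hbase hfaith h2
          rw [ev_cons, ev_append] at h4
          exact ⟨u', nthE_mem hu, _, allM_mem h1, h4⟩
        · exact ih h3 v hv

theorem cosA_sound {us : List (List ℕ)} {G' G : List ℕ} {cs : List (List (ℕ × List ℕ))}
    (h : cosA tab L base us G' G cs = true) : ∀ g ∈ G, ∀ u ∈ us, ∃ u' ∈ us, ∃ k ∈ Gl xs G', xs g * ev xs u = ev xs u' * k := by
  induction G generalizing cs with
  | nil => intro g hg; simp at hg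
  | cons g G ih =>
    cases cs with
    | nil => simp [cosA] at h
    | cons c cs =>
      simp only [cosA, Bool.and_eq_true] at h
      intro g' hg'
      rcases List.mem_cons.mp hg' with rfl | hg'
      · exact cosG_sound hact hlt hbase hfaith h.1
      · exact ih h.2 g' hg'

theorem chainU_sound [Finite P] {l : List ULev} {G : List ℕ} (h : chainU tab L base l G = true) :
    Nat.card (Gl xs G) ≤ szU l := by
  induction l generalizing G with
  | nil =>
    cases G with
    | nil =>
      have : Gl xs ([] : List ℕ) = ⊥ := by simp [Gl]
      rw [this]; simp [szU]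
    | cons a G => simp [chainU] at h
  | cons l r ih =>
    simp only [chainU, Bool.and_eq_true] at h
    obtain ⟨h1, h2, h3⟩ := h
    have h4 := ih h3
    have h5 := cosA_sound hact hlt hbase hfaith h2
    set C : Set P := {x | ∃ u ∈ l.us, (ev xs u)⁻¹ * x ∈ Gl xs l.G} with hC
    have hfin : C.Finite := Set.toFinite _
    have h6 : ∀ x ∈ Gl xs G, x ∈ C := by
      intro x hx
      have := closure_closed hfin (s := {g | ∃ s ∈ G, g = xs s}) (by
        rintro _ ⟨s, hs, rfl⟩ y ⟨u, hu, hy⟩
        obtain ⟨u', hu', k, hk, e⟩ := h5 s hs u hu
        refine ⟨u', hu', ?_⟩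
        have : (ev xs u')⁻¹ * (xs s * y) = k * ((ev xs u)⁻¹ * y) := by
          have : xs s = ev xs u' * k * (ev xs u)⁻¹ := by rw [← e]; group
          rw [this]; group
        rw [this]
        exact Subgroup.mul_mem _ hk hy) x hx 1 ⟨[], hasNil_mem h1, by simp⟩
      simpa using this
    let f : Fin l.us.length × Gl xs l.G → P := fun p => ev xs l.us[p.1] * p.2
    have h7 : C ⊆ Set.range f := by
      rintro x ⟨u, hu, hx⟩
      obtain ⟨n, hn, rfl⟩ := List.getElem_of_mem hu
      exact ⟨(⟨n, hn⟩, ⟨_, hx⟩), by simp [f]⟩
    have h8 : Nat.card (Gl xs G) ≤ Nat.card (Set.range f) :=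
      Nat.card_mono (Set.toFinite _) (fun x hx => h7 (h6 x hx))
    have h9 : Nat.card (Set.range f) ≤ Nat.card (Fin l.us.length × Gl xs l.G) := Nat.card_le_card_of_surjective _ Set.rangeFactorization_surjective
    rw [Nat.card_prod, Nat.card_eq_fintype_card (α := Fin _), Fintype.card_fin] at h9
    exact le_trans h8 (le_trans h9 (Nat.mul_le_mul_left _ h4))

end upper

end Cfsg.Agent.Lib.Dce
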