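import Cfsg.Agent.Lib.DceLow

/-!
# Double coset enumeration: the model
-/

set_option autoImplicit false
set_option linter.all false

namespace Cfsg.Agent.Lib.Dce

section model
variable {P D : Type*} [Group P] [Group D] {k n : ℕ}

/-- the points -/
abbrev XX (S : Fin k → Subgroup P) := Σ i : Fin k, P ⧸ S i

/-- representatives -/
def xp (S : Fin k → Subgroup P) (i : Fin k) : XX S := ⟨i, ((1 : P) : P ⧸ S i)⟩

theorem smul_xp (S : Fin k → Subgroup P) (p : P) (i : Fin k) : p • xp S i = ⟨i, (p : P ⧸ S i)⟩ := by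
  show (⟨i, p • ((1 : P) : P ⧸ S i)⟩ : XX S) = _
  congr 1
  show ((p * 1 : P) : P ⧸ S i) = _
  rw [mul_one]

theorem xp_eq {S : Fin k → Subgroup P} {p q : P} {i : Fin k} (h : p⁻¹ * q ∈ S i) : p • xp S i = q • xp S i := by
  rw [smul_xp, smul_xp]
  congr 1
  exact QuotientGroup.eq.mpr h

theorem xp_fix {S : Fin k → Subgroup P} {p : P} {i : Fin k} : p • xp S i = xp S i ↔ p ∈ S i := by
  constructor
  · intro h
    have h1 : p • xp S i = (1 : P) • xp S i := by rw [h, one_smul]
    rw [smul_xp, smul_xp] at h1
    have h2 : ((p : P) : P ⧸ S i) = ((1 : P) : P ⧸ S i) := by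
      have := (Sigma.mk.injEq _ _ _ _).mp h1
      exact eq_of_heq this.2
    have h3 := QuotientGroup.eq.mp h2
    rw [mul_one] at h3
    simpa using (S i).inv_mem h3
  · intro h
    have := xp_eq (S := S) (p := p) (q := 1) (i := i) (by simpa using h)
    rw [this, one_smul]

theorem xp_surj {S : Fin k → Subgroup P} (x : XX S) : ∃ (p : P) (i : Fin k), x = p • xp S i := by
  obtain ⟨i, q⟩ := x
  obtain ⟨p, rfl⟩ := QuotientGroup.mk_surjective q
  exact ⟨p, i, (smul_xp S p i).symm⟩

instance {S : Fin k → Subgroup P} [Finite P] : Finite (XX S) := inferInstance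

theorem card_XX (S : Fin k → Subgroup P) [Finite P] : Nat.card (XX S) = ∑ i, (S i).index := by
  rw [Nat.card_sigma]; rfl

/-- covering map -/
def FF {S : Fin k → Subgroup P} (π : D →* P) (A : Fin n → Subgroup D) (x : Fin n → XX S)
    (hA : ∀ l, ∀ d ∈ A l, π d • x l = x l) : (Σ l : Fin n, D ⧸ A l) → XX S :=
  fun z => Quotient.liftOn' z.2 (fun d => π d • x z.1) (by
    intro a b hab
    rw [QuotientGroup.leftRel_apply] at hab
    have h1 := hA z.1 _ hab
    rw [map_mul, map_inv, mul_smul, inv_smul_eq_iff] at h1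
    exact h1.symm)

/-- existence of the permutation `T` -/
theorem exists_T [Finite P] [Finite D] {S : Fin k → Subgroup P} (π1 π2 : D →* P) (A : Fin n → Subgroup D) (x y : Fin n → XX S)
    (hA : ∀ l, ∀ d ∈ A l, π1 d • x l = x l) (hA' : ∀ l, ∀ d ∈ A l, π2 d • y l = y l)
    (h1 : ∀ z : XX S, ∃ l d, z = π1 d • x l) (h2 : ∀ z : XX S, ∃ l d, z = π2 d • y l)
    (hc : ∑ l, (A l).index ≤ Nat.card (XX S)) :
    ∃ T : Equiv.Perm (XX S), (∀ d z, T (π1 d • z) = π2 d • T z) ∧ ∀ l, T (x l) = y l := by
  have hc1 : Nat.card (Σ l : Fin n, D ⧸ A l) ≤ Nat.card (XX S) := by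
    rw [Nat.card_sigma]; exact hc
  have hs1 : Function.Surjective (FF π1 A x hA) := by
    intro z
    obtain ⟨l, d, rfl⟩ := h1 z
    exact ⟨⟨l, (d : D ⧸ A l)⟩, rfl⟩
  have hs2 : Function.Surjective (FF π2 A y hA') := by
    intro z
    obtain ⟨l, d, rfl⟩ := h2 z
    exact ⟨⟨l, (d : D ⧸ A l)⟩, rfl⟩
  have hb1 : Function.Bijective (FF π1 A x hA) := hs1.bijective_of_nat_card_le hc1
  have hb2 : Function.Bijective (FF π2 A y hA') := hs2.bijective_of_nat_card_le hc1
  let e1 := Equiv.ofBijective _ hb1
  let e2 := Equiv.ofBijective _ hb2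
  refine ⟨e1.symm.trans e2, ?_, ?_⟩
  · intro d z
    obtain ⟨⟨l, q⟩, rfl⟩ := e1.surjective z
    obtain ⟨d', rfl⟩ := QuotientGroup.mk_surjective q
    have k1 : π1 d • e1 ⟨l, (d' : D ⧸ A l)⟩ = e1 ⟨l, ((d * d' : D) : D ⧸ A l)⟩ := by
      show π1 d • (π1 d' • x l) = π1 (d * d') • x l
      rw [map_mul, mul_smul]
    rw [k1]
    simp only [Equiv.trans_apply, Equiv.symm_apply_apply]
    show π2 (d * d') • y l = π2 d • (π2 d' • y l)
    rw [map_mul, mul_smul]
  · intro l
    have k1 : x l = e1 ⟨l, ((1 : D) : D ⧸ A l)⟩ := by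
      show x l = π1 1 • x l
      rw [map_one, one_smul]
    rw [k1]
    simp only [Equiv.trans_apply, Equiv.symm_apply_apply]
    show π2 1 • y l = y l
    rw [map_one, one_smul]

end model

/-! ### the checks give the model -/

/-- list lookup with default -/
def atD {α : Type} (d : α) : List α → ℕ → α
  | [], _ => d
  | a :: _, 0 => a
  | _ :: l, n + 1 => atD d l n

theorem atD_mem {α : Type} {d : α} {l : List α} {n : ℕ} (h : n < l.length) : atD d l n ∈ l := by
  induction l generalizing n with
  | nil => simp at h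
  | cons a l ih =>
    cases n with
    | zero => simp [atD]
    | succ n => exact List.mem_cons_of_mem _ (ih (by simpa using h))

theorem exists_atD {α : Type} {d : α} {l : List α} {a : α} (h : a ∈ l) : ∃ n < l.length, atD d l n = a := by
  induction l with
  | nil => simp at h
  | cons b l ih =>
    rcases List.mem_cons.mp h with rfl | h
    · exact ⟨0, by simp, rfl⟩
    · obtain ⟨n, h1, h2⟩ := ih h
      exact ⟨n + 1, by simpa using h1, h2⟩

/-- default edge -/
def e0 : Edge := ⟨0, [], 0, []⟩
/-- default data -/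
def c0 : EC := ⟨[], []⟩

section main
variable {P D : Type*} [Group P] [Group D] {xs : ℕ → P} {φ : P →* Equiv.Perm ℕ} {tab : ℕ → ℕ} {L m : ℕ} {base : List ℕ}
  {ph phI : List (ℕ × ℕ)} {st : St} {k : ℕ}

/-- the stabilizers -/
def SS (xs : ℕ → P) (st : St) (k : ℕ) (i : Fin k) : Subgroup P := Sg xs st.stab i

/-- base points -/
def cc (xs : ℕ → P) (st : St) (k : ℕ) (hk : 0 < k) (i : ℕ) : XX (SS xs st k) :=
  if h : i < k then xp _ ⟨i, h⟩ else xp _ ⟨0, hk⟩

/-- the action of `P` -/
def AA (xs : ℕ → P) (st : St) (k : ℕ) : P →* Equiv.Perm (XX (SS xs st k)) := MulAction.toPermHom P _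

theorem AA_apply (p : P) (x : XX (SS xs st k)) : AA xs st k p x = p • x := rfl

theorem cc_stab (hk : 0 < k) (hst : ∀ p ∈ st.stab, p.1 < k) : ∀ p ∈ st.stab, AA xs st k (xs p.2) (cc xs st k hk p.1) = cc xs st k hk p.1 := by
  intro p hp
  rw [AA_apply, cc, dif_pos (hst p hp), xp_fix]
  exact Subgroup.subset_closure ⟨p.2, hp, rfl⟩

/-- source group of the twisting -/
def Bs (xs : ℕ → P) (ph : List (ℕ × ℕ)) : Subgroup P := Subgroup.closure {g | ∃ p ∈ ph, g = xs p.1}

/-- target group of the twisting -/
def Bt (xs : ℕ → P) (ph : List (ℕ × ℕ)) : Subgroup P := Subgroup.closure {g | ∃ p ∈ ph, g = xs p.2}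

theorem phw_mem {w v : List ℕ} (h : phw ph w = some v) : ev xs w ∈ Bs xs ph ∧ ev xs v ∈ Bt xs ph := by
  induction w generalizing v with
  | nil => simp only [phw, Option.some.injEq] at h; subst h; exact ⟨Subgroup.one_mem _, Subgroup.one_mem _⟩
  | cons b w ih =>
    simp only [phw] at h
    cases hb : fnd ph b with
    | none => rw [hb] at h; simp at h
    | some a =>
      rw [hb] at h; simp only at h
      cases hw : phw ph w with
      | none => rw [hw] at h; simp at h
      | some u =>
        rw [hw] at h; simp only [Option.some.injEq] at h; subst h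
        rw [ev_cons, ev_cons]
        have hm := fnd_mem hb
        exact ⟨Subgroup.mul_mem _ (Subgroup.subset_closure ⟨_, hm, rfl⟩) (ih hw).1,
          Subgroup.mul_mem _ (Subgroup.subset_closure ⟨_, hm, rfl⟩) (ih hw).2⟩

theorem phw_pi {π1 π2 : D →* P} {δ : ℕ → D} (hδ : ∀ p ∈ ph, π1 (δ p.1) = xs p.1 ∧ π2 (δ p.1) = xs p.2) {w v : List ℕ}
    (h : phw ph w = some v) : π1 (ev δ w) = ev xs w ∧ π2 (ev δ w) = ev xs v := by
  induction w generalizing v with
  | nil => simp only [phw, Option.some.injEq] at h; subst h; simp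
  | cons b w ih =>
    simp only [phw] at h
    cases hb : fnd ph b with
    | none => rw [hb] at h; simp at h
    | some a =>
      rw [hb] at h; simp only at h
      cases hw : phw ph w with
      | none => rw [hw] at h; simp at h
      | some u =>
        rw [hw] at h; simp only [Option.some.injEq] at h; subst h
        have hm := hδ _ (fnd_mem hb)
        rw [ev_cons, ev_cons, ev_cons, map_mul, map_mul, (ih hw).1, (ih hw).2, hm.1, hm.2]
        exact ⟨rfl, rfl⟩

variable (hact : ∀ c < L, ∀ i < m, φ (xs c) i = look (tab c) i) (hlt : ∀ c < L, ∀ i < m, look (tab c) i < m)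
  (hbase : ∀ b ∈ base, b < m) (hfaith : ∀ g, (∀ b ∈ base, φ g b = b) → g = 1)
include hact hlt hbase hfaith

/-- the points of an edge -/
def ex1 (xs : ℕ → P) (st : St) (k : ℕ) (hk : 0 < k) (E : Edge) : XX (SS xs st k) := ev xs E.h • cc xs st k hk E.i
def ex2 (xs : ℕ → P) (st : St) (k : ℕ) (hk : 0 < k) (E : Edge) : XX (SS xs st k) := ev xs E.a • cc xs st k hk E.j

theorem allS_fix {hk : 0 < k} {i : ℕ} (hi : i < k) {w : List ℕ} (h : allS st.stab i w = true) :
    ev xs w • cc xs st k hk i = cc xs st k hk i := by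
  rw [cc, dif_pos hi, xp_fix]
  exact allS_mem h

theorem chkA_sound {hk : 0 < k} {π1 π2 : D →* P} {δ : ℕ → D} (hδ : ∀ p ∈ ph, π1 (δ p.1) = xs p.1 ∧ π2 (δ p.1) = xs p.2)
    {E : Edge} (hi : E.i < k) (hj : E.j < k) {l : List AG} (h : chkA tab L base ph st E l = true) :
    ∀ a ∈ l, π1 (ev δ a.w) = ev xs a.w ∧ ev xs a.w ∈ Bs xs ph ∧ π1 (ev δ a.w) • ex1 xs st k hk E = ex1 xs st k hk E ∧
      π2 (ev δ a.w) • ex2 xs st k hk E = ex2 xs st k hk E := by
  induction l with
  | nil => intro a ha; simp at ha
  | cons b l ih =>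
    simp only [chkA, Bool.and_eq_true] at h
    obtain ⟨h1, h2⟩ := h
    intro a ha
    rcases List.mem_cons.mp ha with rfl | ha
    · cases hv : phw ph a.w with
      | none => rw [hv] at h1; simp at h1
      | some v =>
        rw [hv] at h1; simp only [Bool.and_eq_true] at h1
        obtain ⟨k1, k2, k3, k4⟩ := h1
        obtain ⟨p1, p2⟩ := phw_pi hδ hv
        have e1 := eqP_sound hact hlt hbase hfaith k2
        have e2 := eqP_sound hact hlt hbase hfaith k4
        rw [ev_append, ev_append] at e1 e2
        refine ⟨p1, (phw_mem hv).1, ?_, ?_⟩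
        · rw [p1, ex1, ← mul_smul, e1, mul_smul, allS_fix hact hlt hbase hfaith hi k1]
        · rw [p2, ex2, ← mul_smul, e2, mul_smul, allS_fix hact hlt hbase hfaith hj k3]
    · exact ih h2 a ha

/-- subgroup of the stabilizer of an edge -/
def Al (δ : ℕ → D) (c : EC) : Subgroup D := Subgroup.closure {g | ∃ a ∈ c.g, g = ev δ a.w}

theorem Al_fix {hk : 0 < k} {π1 π2 : D →* P} {δ : ℕ → D} (hδ : ∀ p ∈ ph, π1 (δ p.1) = xs p.1 ∧ π2 (δ p.1) = xs p.2)
    {E : Edge} (hi : E.i < k) (hj : E.j < k) {c : EC} (h : chkA tab L base ph st E c.g = true) :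
    ∀ d ∈ Al δ c, π1 d • ex1 xs st k hk E = ex1 xs st k hk E ∧ π2 d • ex2 xs st k hk E = ex2 xs st k hk E := by
  have h1 := chkA_sound hact hlt hbase hfaith (hk := hk) hδ hi hj h
  intro d hd
  induction hd using Subgroup.closure_induction with
  | mem x hx => obtain ⟨a, ha, rfl⟩ := hx; exact ⟨(h1 a ha).2.2.1, (h1 a ha).2.2.2⟩
  | one => simp
  | mul x y _ _ hx hy => rw [map_mul, map_mul, mul_smul, mul_smul, hy.1, hy.2]; exact hx
  | inv x _ hx => rw [map_inv, map_inv, inv_smul_eq_iff, inv_smul_eq_iff]; exact ⟨hx.1.symm, hx.2.symm⟩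

theorem sumA_sound [Finite P] [Finite D] {hk : 0 < k} {π1 π2 : D →* P} {δ : ℕ → D}
    (hδ : ∀ p ∈ ph, π1 (δ p.1) = xs p.1 ∧ π2 (δ p.1) = xs p.2) {dN : ℕ} (hD : Nat.card D ≤ dN)
    {es : List Edge} (hes : ∀ E ∈ es, E.i < k ∧ E.j < k) {cs : List EC} {t : ℕ}
    (h : sumA tab L m base ph st dN es cs = some t) :
    cs.length = es.length ∧ (∀ l < es.length, chkA tab L base ph st (atD e0 es l) (atD c0 cs l).g = true) ∧
      ∑ l : Fin es.length, (Al δ (atD c0 cs l.1)).index ≤ t := by
  induction es generalizing cs t with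
  | nil =>
    cases cs with
    | nil => exact ⟨rfl, by simp, by simp⟩
    | cons c cs => simp [sumA] at h
  | cons E es ih =>
    cases cs with
    | nil => simp [sumA] at h
    | cons c cs =>
      simp only [sumA] at h
      cases hc : chkA tab L base ph st E c.g with
      | false => rw [hc] at h; simp at h
      | true =>
        rw [hc] at h; simp only [cond_true] at h
        cases hr : chainH tab L m (c.g.map AG.w) [] c.ch with
        | none => rw [hr] at h; simp at h
        | some r =>
          rw [hr] at h; simp only at h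
          cases hd : (Nat.beq (r * (dN / r)) dN && Nat.blt 0 r) with
          | false => rw [hd] at h; simp at h
          | true =>
            rw [hd] at h; simp only [cond_true] at h
            cases hs : sumA tab L m base ph st dN es cs with
            | none => rw [hs] at h; simp at h
            | some t' =>
              rw [hs] at h; simp only [Option.some.injEq] at h
              simp only [Bool.and_eq_true, Nat.beq_eq, Nat.blt_eq] at hd
              obtain ⟨hl, h2, h3⟩ := ih (fun E hE => hes E (by simp [hE])) hs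
              refine ⟨by simp [hl], ?_, ?_⟩
              · intro l hl'
                cases l with
                | zero => exact hc
                | succ l => exact h2 l (by simpa using hl')
              · have hE := hes E (by simp)
                have h4 := chkA_sound hact hlt hbase hfaith (hk := hk) hδ hE.1 hE.2 hc
                have h5 : r ≤ Nat.card ((Al δ c).map π1) := by
                  apply chainH_card hact hlt (K := (Al δ c).map π1) (Ws := c.g.map AG.w) ?_ c.ch hr
                  intro w hw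
                  obtain ⟨a, ha, rfl⟩ := List.mem_map.mp hw
                  exact ⟨ev δ a.w, Subgroup.subset_closure ⟨a, ha, rfl⟩, (h4 a ha).1⟩
                have h6 : Nat.card ((Al δ c).map π1) ≤ Nat.card (Al δ c) :=
                  Nat.card_le_card_of_surjective (π1.subgroupMap (Al δ c)) (MonoidHom.subgroupMap_surjective _ _)
                have h7 : (Al δ c).index ≤ dN / r := by
                  by_contra hlt'
                  rw [not_le] at hlt'
                  have h8 := (Al δ c).index_mul_card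
                  have h9 : (dN / r) * r < (Al δ c).index * Nat.card (Al δ c) :=
                    lt_of_lt_of_le (Nat.mul_lt_mul_of_pos_right hlt' hd.2) (Nat.mul_le_mul_left _ (le_trans h5 h6))
                  rw [h8, mul_comm, hd.1] at h9
                  omega
                have h10 : ∑ l : Fin (E :: es).length, (Al δ (atD c0 (c :: cs) l.1)).index
                    = (Al δ c).index + ∑ l : Fin es.length, (Al δ (atD c0 cs l.1)).index := by
                  rw [show (E :: es).length = es.length + 1 from rfl, Fin.sum_univ_succ]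
                  rfl
                rw [h10, ← h]
                exact Nat.add_le_add h7 h3

end main

end Cfsg.Agent.Lib.Dce
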