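import Cfsg.Agent.Lib.DceMod

/-!
# Double coset enumeration: relators hold in the model
-/

set_option autoImplicit false
set_option linter.all false

namespace Cfsg.Agent.Lib.Dce

section main
variable {P D : Type*} [Group P] [Group D] {xs : ℕ → P} {φ : P →* Equiv.Perm ℕ} {tab : ℕ → ℕ} {L m : ℕ} {base : List ℕ}
  {ph phI : List (ℕ × ℕ)} {st : St} {k : ℕ}

theorem Bs_range {π1 π2 : D →* P} {δ : ℕ → D} (hδ : ∀ p ∈ ph, π1 (δ p.1) = xs p.1 ∧ π2 (δ p.1) = xs p.2) :
    (∀ b ∈ Bs xs ph, ∃ d, π1 d = b) ∧ ∀ b ∈ Bt xs ph, ∃ d, π2 d = b := by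
  constructor
  · intro b hb
    have : Bs xs ph ≤ π1.range := by
      rw [Bs, Subgroup.closure_le]
      rintro _ ⟨p, hp, rfl⟩
      exact ⟨_, (hδ p hp).1⟩
    exact this hb
  · intro b hb
    have : Bt xs ph ≤ π2.range := by
      rw [Bt, Subgroup.closure_le]
      rintro _ ⟨p, hp, rfl⟩
      exact ⟨_, (hδ p hp).2⟩
    exact this hb

theorem xs_fix {hk : 0 < k} {i : ℕ} (hi : i < k) {g : P} (hg : g ∈ Sg xs st.stab i) : g • cc xs st k hk i = cc xs st k hk i := by
  rw [cc, dif_pos hi, xp_fix]
  exact hg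

/-- every point is in the orbit of an edge -/
theorem cover_edges {hk : 0 < k} {pt : ℕ} (hpt : pt < m) (hm : ∀ g i, i < m → φ g i < m)
    (hcov : ∀ i < k, ∀ q < m, Good xs φ m st pt i q) (hB : ∀ g, φ g pt = pt → g ∈ Bs xs ph) (z : XX (SS xs st k)) :
    ∃ E ∈ st.edges, ∃ b ∈ Bs xs ph, z = b • ex1 xs st k hk E := by
  obtain ⟨p, i, rfl⟩ := xp_surj z
  obtain ⟨E, hE, hi, q0, h1, g, hg, h2⟩ := hcov i i.2 (φ p⁻¹ pt) (hm _ _ hpt)
  have h3 : φ (p * g * (ev xs E.h)⁻¹) pt = pt := by
    rw [map_mul, map_mul, Equiv.Perm.mul_apply, Equiv.Perm.mul_apply, map_inv]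
    have : (φ (ev xs E.h))⁻¹ pt = q0 := by rw [Equiv.Perm.inv_eq_iff_eq, h1]
    rw [this, h2, map_inv]
    exact (φ p).apply_symm_apply _
  refine ⟨E, hE, _, hB _ h3, ?_⟩
  have h4 : xp (SS xs st k) i = cc xs st k hk i := by rw [cc, dif_pos i.2]
  rw [ex1, hi, ← mul_smul, inv_mul_cancel_right, mul_smul, xs_fix i.2 hg, h4]

theorem cover_edges' {hk : 0 < k} {pt : ℕ} (hpt : pt < m) (hm : ∀ g i, i < m → φ g i < m)
    (hcov : ∀ i < k, ∀ q < m, Good xs φ m (swapSt st) pt i q) (hB : ∀ g, φ g pt = pt → g ∈ Bt xs ph) (z : XX (SS xs st k)) :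
    ∃ E ∈ st.edges, ∃ b ∈ Bt xs ph, z = b • ex2 xs st k hk E := by
  obtain ⟨p, i, rfl⟩ := xp_surj z
  obtain ⟨E', hE', hi, q0, h1, g, hg, h2⟩ := hcov i i.2 (φ p⁻¹ pt) (hm _ _ hpt)
  obtain ⟨E, hE, rfl⟩ := List.mem_map.mp hE'
  simp only at hi h1
  have hg' : g ∈ Sg xs st.stab i := hg
  have h3 : φ (p * g * (ev xs E.a)⁻¹) pt = pt := by
    rw [map_mul, map_mul, Equiv.Perm.mul_apply, Equiv.Perm.mul_apply, map_inv]
    have : (φ (ev xs E.a))⁻¹ pt = q0 := by rw [Equiv.Perm.inv_eq_iff_eq, h1]
    rw [this, h2, map_inv]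
    exact (φ p).apply_symm_apply _
  refine ⟨E, hE, _, hB _ h3, ?_⟩
  have h4 : xp (SS xs st k) i = cc xs st k hk i := by rw [cc, dif_pos i.2]
  rw [ex2, hi, ← mul_smul, inv_mul_cancel_right, mul_smul, xs_fix i.2 hg', h4]

/-- properties of the permutation `T` -/
structure TT (xs : ℕ → P) (ph : List (ℕ × ℕ)) (st : St) (k : ℕ) (hk : 0 < k) (T : Equiv.Perm (XX (SS xs st k))) : Prop where
  tw : ∀ p ∈ ph, T * AA xs st k (xs p.1) = AA xs st k (xs p.2) * T
  ed : ∀ E ∈ st.edges, T (ex1 xs st k hk E) = ex2 xs st k hk E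

variable (hact : ∀ c < L, ∀ i < m, φ (xs c) i = look (tab c) i) (hlt : ∀ c < L, ∀ i < m, look (tab c) i < m)
  (hbase : ∀ b ∈ base, b < m) (hfaith : ∀ g, (∀ b ∈ base, φ g b = b) → g = 1)
include hact hlt hbase hfaith

theorem exists_TT [Finite P] [Finite D] {hk : 0 < k} {π1 π2 : D →* P} {δ : ℕ → D}
    (hδ : ∀ p ∈ ph, π1 (δ p.1) = xs p.1 ∧ π2 (δ p.1) = xs p.2) {dN : ℕ} (hD : Nat.card D ≤ dN)
    (hes : ∀ E ∈ st.edges, E.i < k ∧ E.j < k) {cs : List EC} {t : ℕ}
    (h : sumA tab L m base ph st dN st.edges cs = some t) (ht : t ≤ Nat.card (XX (SS xs st k)))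
    (hc1 : ∀ z : XX (SS xs st k), ∃ E ∈ st.edges, ∃ b ∈ Bs xs ph, z = b • ex1 xs st k hk E)
    (hc2 : ∀ z : XX (SS xs st k), ∃ E ∈ st.edges, ∃ b ∈ Bt xs ph, z = b • ex2 xs st k hk E) :
    ∃ T, TT xs ph st k hk T := by
  obtain ⟨hl, h2, h3⟩ := sumA_sound hact hlt hbase hfaith (hk := hk) hδ hD hes h
  obtain ⟨r1, r2⟩ := Bs_range hδ
  have hf := fun (l : Fin st.edges.length) => Al_fix hact hlt hbase hfaith (hk := hk) hδ (hes _ (atD_mem (d := e0) l.2)).1
    (hes _ (atD_mem (d := e0) l.2)).2 (h2 l l.2)
  obtain ⟨T, hT1, hT2⟩ := exists_T (S := SS xs st k) π1 π2 (fun l : Fin st.edges.length => Al δ (atD c0 cs l.1))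
    (fun l => ex1 xs st k hk (atD e0 st.edges l.1)) (fun l => ex2 xs st k hk (atD e0 st.edges l.1))
    (fun l d hd => (hf l d hd).1) (fun l d hd => (hf l d hd).2) (by
      intro z
      obtain ⟨E, hE, b, hb, rfl⟩ := hc1 z
      obtain ⟨l, hl', rfl⟩ := exists_atD (d := e0) hE
      obtain ⟨d, rfl⟩ := r1 b hb
      exact ⟨⟨l, hl'⟩, d, rfl⟩) (by
      intro z
      obtain ⟨E, hE, b, hb, rfl⟩ := hc2 z
      obtain ⟨l, hl', rfl⟩ := exists_atD (d := e0) hE
      obtain ⟨d, rfl⟩ := r2 b hb
      exact ⟨⟨l, hl'⟩, d, rfl⟩) (le_trans h3 ht)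
  refine ⟨T, ?_, ?_⟩
  · intro p hp
    ext1 z
    have := hT1 (δ p.1) z
    rw [(hδ p hp).1, (hδ p hp).2] at this
    exact this
  · intro E hE
    obtain ⟨l, hl', rfl⟩ := exists_atD (d := e0) hE
    exact hT2 ⟨l, hl'⟩

theorem TT_inv {hk : 0 < k} {T} (hT : TT xs ph st k hk T) (hst : ∀ p ∈ st.stab, p.1 < k) :
    Inv xs (AA xs st k) T (cc xs st k hk) st :=
  ⟨fun E hE => hT.ed E hE, cc_stab hk hst⟩

omit hact hlt hbase hfaith in
theorem TT_phI {hk : 0 < k} {T} (hT : TT xs ph st k hk T) (hI : ∀ p ∈ phI, (p.2, p.1) ∈ ph) :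
    ∀ p ∈ phI, T⁻¹ * AA xs st k (xs p.1) = AA xs st k (xs p.2) * T⁻¹ := by
  intro p hp
  have := hT.tw _ (hI p hp)
  simp only at this
  rw [inv_mul_eq_iff_eq_mul, ← mul_assoc, this, mul_inv_cancel_right]

/-- good point for a relator -/
def GoodR (xs : ℕ → P) (φ : P →* Equiv.Perm ℕ) (ph : List (ℕ × ℕ)) (st : St) (k : ℕ) (hk : 0 < k) (T : Equiv.Perm (XX (SS xs st k)))
    (r : List Tok) (ptr : ℕ) (E : Edge) (Ws : List (List ℕ)) (q : ℕ) : Prop :=
  ∃ g ∈ Bs xs ph, ∃ q0, φ g q0 = ptr ∧ seqP xs (AA xs st k) T r (g • ex1 xs st k hk E) = g • ex1 xs st k hk E ∧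
    ∃ a ∈ Cl xs Ws, φ a q0 = q

theorem relRoots_sound {hk : 0 < k} {T} (hT : TT xs ph st k hk T) (hst : ∀ p ∈ st.stab, p.1 < k) (hI : ∀ p ∈ phI, (p.2, p.1) ∈ ph)
    {r : List Tok} {ptr : ℕ} {E : Edge} (hE : E ∈ st.edges) {Ws : List (List ℕ)} {l : List RR} {M M' : ℕ}
    (hM : ∀ q, M.testBit q = true → q < m ∧ GoodR xs φ ph st k hk T r ptr E Ws q)
    (h : relRoots tab L m base ph phI st r E ptr l M = some M') :
    ∀ q, M'.testBit q = true → q < m ∧ GoodR xs φ ph st k hk T r ptr E Ws q := by
  induction l generalizing M with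
  | nil => simp only [relRoots, Option.some.injEq] at h; subst h; exact hM
  | cons c l ih =>
    simp only [relRoots] at h
    cases hv : phw ph c.g with
    | none => rw [hv] at h; simp at h
    | some v =>
      rw [hv] at h; simp only at h
      cases hp : path tab L base ph phI st r c.ss E.i (c.g ++ E.h) with
      | none => rw [hp] at h; simp at h
      | some p =>
        rw [hp] at h; simp only at h
        obtain ⟨pi, pe⟩ := p
        cases hc : (Nat.beq (pi, pe).1 E.i && (allS st.stab E.i c.s && (eqP tab L base ((pi, pe).2 ++ c.s) (c.g ++ E.h) &&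
          (lets L c.g && (Nat.blt c.q m && Nat.beq (actw tab c.g c.q) ptr))))) with
        | false => rw [hc] at h; simp at h
        | true =>
          rw [hc] at h; simp only [cond_true] at h
          simp only [Bool.and_eq_true, Nat.beq_eq, Nat.blt_eq] at hc
          obtain ⟨rfl, h1, h2, h3, h4, h5⟩ := hc
          refine ih ?_ h
          intro q hq
          rw [testBit_setb] at hq
          rcases hq with hq | rfl
          · exact hM q hq
          · refine ⟨h4, ev xs c.g, (phw_mem hv).1, c.q, ?_, ?_, 1, Subgroup.one_mem _, by simp⟩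
            · rw [(actw_eq hact hlt _ h3 _ h4).1, h5]
            · have hinv := TT_inv hact hlt hbase hfaith hT hst
              have e1 := path_sound hact hlt hbase hfaith hT.tw (TT_phI hT hI) hinv r c.ss E.i (c.g ++ E.h) hp
              have e2 := eqP_sound hact hlt hbase hfaith h2
              have e3 := allS_sound (A := AA xs st k) (c := cc xs st k hk) hinv.2 h1
              have e4 : AA xs st k (ev xs pe) (cc xs st k hk E.i) = AA xs st k (ev xs (c.g ++ E.h)) (cc xs st k hk E.i) := by
                rw [← e2, ev_append, map_mul, Equiv.Perm.mul_apply, e3]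
              rw [e4, ev_append, map_mul, Equiv.Perm.mul_apply] at e1
              exact e1

/-- summary for an edge -/
theorem relE_sound {hk : 0 < k} {T} (hT : TT xs ph st k hk T) (hst : ∀ p ∈ st.stab, p.1 < k) (hI : ∀ p ∈ phI, (p.2, p.1) ∈ ph)
    {r : List Tok} {ptr om : ℕ} {E : Edge} (hE : E ∈ st.edges) {a : EC} {c : RE}
    (h : relE tab L m base ph phI st r ptr om E a c = true) :
    ∀ q, om.testBit q = true → GoodR xs φ ph st k hk T r ptr E (a.g.map AG.w) q := by
  simp only [relE] at h
  cases hr : relRoots tab L m base ph phI st r E ptr c.rr 0 with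
  | none => rw [hr] at h; simp at h
  | some M =>
    rw [hr] at h; simp only at h
    cases hg : growH tab L (a.g.map AG.w) [] c.gr M 0 with
    | none => rw [hg] at h; simp at h
    | some p =>
      rw [hg] at h; simp only [Nat.beq_eq] at h
      obtain ⟨p1, p2⟩ := p
      have h1 := relRoots_sound hact hlt hbase hfaith hT hst hI hE (Ws := a.g.map AG.w) (M := 0) (by simp) hr
      have h2 := growH_sound' hact hlt (K := Cl xs (a.g.map AG.w)) (Ws := a.g.map AG.w)
        (fun w hw => Subgroup.subset_closure ⟨w, hw, rfl⟩)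
        (Q := GoodR xs φ ph st k hk T r ptr E (a.g.map AG.w)) (by
          rintro g hg q ⟨g', hg', q0, k1, k2, a', ha', k3⟩
          exact ⟨g', hg', q0, k1, k2, g * a', Subgroup.mul_mem _ hg ha', by rw [map_mul, Equiv.Perm.mul_apply, k3]⟩)
        c.gr h1 hg
      intro q hq
      simp only at h
      rw [← h] at hq
      exact (h2 q hq).2

theorem relAll_sound {r : List Tok} {ptr om : ℕ} {es : List Edge} {cs : List EC} {rs : List RE}
    (h : relAll tab L m base ph phI st r ptr om es cs rs = true) :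
    ∀ l < es.length, ∃ c, relE tab L m base ph phI st r ptr om (atD e0 es l) (atD c0 cs l) c = true := by
  induction es generalizing cs rs with
  | nil => intro l hl; simp at hl
  | cons E es ih =>
    cases cs with
    | nil => simp [relAll] at h
    | cons a cs =>
      cases rs with
      | nil => simp [relAll] at h
      | cons c rs =>
        simp only [relAll, Bool.and_eq_true] at h
        intro l hl
        cases l with
        | zero => exact ⟨c, h.1⟩
        | succ l => exact ih h.2 l (by simpa using hl)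

omit hact hlt hbase hfaith in
theorem relAll_append {r : List Tok} {ptr om : ℕ} {es es' : List Edge} {cs cs' : List EC} {rs rs' : List RE}
    (h : relAll tab L m base ph phI st r ptr om es cs rs = true) (h' : relAll tab L m base ph phI st r ptr om es' cs' rs' = true) :
    relAll tab L m base ph phI st r ptr om (es ++ es') (cs ++ cs') (rs ++ rs') = true := by
  induction es generalizing cs rs with
  | nil =>
    cases cs with
    | nil =>
      cases rs with
      | nil => exact h'
      | cons c rs => simp [relAll] at h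
    | cons a cs => simp [relAll] at h
  | cons E es ih =>
    cases cs with
    | nil => simp [relAll] at h
    | cons a cs =>
      cases rs with
      | nil => simp [relAll] at h
      | cons c rs =>
        simp only [relAll, Bool.and_eq_true, List.cons_append] at h ⊢
        exact ⟨h.1, ih h.2⟩

theorem comm_sound {hk : 0 < k} {T} (hT : TT xs ph st k hk T) (hI : ∀ p ∈ phI, (p.2, p.1) ∈ ph) {r : List Tok} {b v : List ℕ}
    {cs : List (List ℕ)} (h : comm tab L base ph phI r b cs = some v) :
    seqP xs (AA xs st k) T r * AA xs st k (ev xs b) = AA xs st k (ev xs v) * seqP xs (AA xs st k) T r := by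
  induction r generalizing b cs with
  | nil => simp only [comm, Option.some.injEq] at h; subst h; simp [seqP]
  | cons t ts ih =>
    cases t with
    | h w =>
      cases cs with
      | nil => simp [comm] at h
      | cons c cs =>
        simp only [comm] at h
        cases hc : eqP tab L base (w ++ b) (c ++ w) with
        | false => rw [hc] at h; simp at h
        | true =>
          rw [hc] at h; simp only [cond_true] at h
          have e1 := eqP_sound hact hlt hbase hfaith hc
          rw [ev_append, ev_append] at e1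
          simp only [seqP, tokP]
          rw [mul_assoc, ← map_mul, e1, map_mul, ← mul_assoc, ih h, mul_assoc]
    | t =>
      simp only [comm] at h
      cases hv : phw ph b with
      | none => rw [hv] at h; simp at h
      | some u =>
        rw [hv] at h; simp only at h
        have e1 := phw_sound hT.tw hv
        simp only [seqP, tokP]
        rw [mul_assoc, e1, ← mul_assoc, ih h, mul_assoc]
    | T =>
      simp only [comm] at h
      cases hv : phw phI b with
      | none => rw [hv] at h; simp at h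
      | some u =>
        rw [hv] at h; simp only at h
        have e1 := phw_sound (T := T⁻¹) (TT_phI hT hI) hv
        simp only [seqP, tokP]
        rw [mul_assoc, e1, ← mul_assoc, ih h, mul_assoc]

theorem commA_sound {hk : 0 < k} {T} (hT : TT xs ph st k hk T) (hI : ∀ p ∈ phI, (p.2, p.1) ∈ ph) {r : List Tok} {ptr : ℕ}
    (hptr : ptr < m) {l : List (List ℕ × List (List ℕ))} (h : commA tab L base ph phI r ptr l = true) :
    ∀ c ∈ l, ev xs c.1 ∈ Bs xs ph ∧ φ (ev xs c.1) ptr = ptr ∧
      seqP xs (AA xs st k) T r * AA xs st k (ev xs c.1) = AA xs st k (ev xs c.1) * seqP xs (AA xs st k) T r := by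
  induction l with
  | nil => intro c hc; simp at hc
  | cons d l ih =>
    simp only [commA, Bool.and_eq_true] at h
    obtain ⟨h1, h2⟩ := h
    intro c hc
    rcases List.mem_cons.mp hc with rfl | hc
    · cases hv : phw ph c.1 with
      | none => rw [hv] at h1; simp at h1
      | some u =>
        rw [hv] at h1; simp only at h1
        cases hw : comm tab L base ph phI r c.1 c.2 with
        | none => rw [hw] at h1; simp at h1
        | some v =>
          rw [hw] at h1; simp only [Bool.and_eq_true, Nat.beq_eq] at h1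
          obtain ⟨k1, k2, k3⟩ := h1
          have e1 := comm_sound hact hlt hbase hfaith hT hI hw
          have e2 := eqP_sound hact hlt hbase hfaith k1
          rw [e2] at e1
          refine ⟨(phw_mem hv).1, ?_, e1⟩
          rw [(actw_eq hact hlt _ k2 _ hptr).1, k3]
    · exact ih h2 c hc

/-- the orbit of `ptr` and the subgroup commuting with the relator -/
def relB (tab : ℕ → ℕ) (L m : ℕ) (base : List ℕ) (ph phI : List (ℕ × ℕ)) (bN : ℕ) (r : List Tok) (ptr om : ℕ)
    (og : List (List ℕ × List ℕ)) (bs : List (List ℕ × List (List ℕ))) (bch : List Stage) : Bool :=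
  Nat.blt ptr m && (commA tab L base ph phI r ptr bs &&
    match growH tab L (ph.map (fun p => [p.1])) [] og (2 ^ ptr) 1 with
    | none => false
    | some p => Nat.beq p.1 om && match chainH tab L m (bs.map Prod.fst) [] bch with
      | none => false
      | some r0 => Nat.beq (r0 * p.2) bN && Nat.blt 0 bN)

theorem rel_main [Finite P] {hk : 0 < k} {T} (hT : TT xs ph st k hk T) (hst : ∀ p ∈ st.stab, p.1 < k) (hI : ∀ p ∈ phI, (p.2, p.1) ∈ ph)
    {bN : ℕ} (hbN : Nat.card (Bs xs ph) ≤ bN) {r : List Tok} {ptr om : ℕ} {og : List (List ℕ × List ℕ)}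
    {bs : List (List ℕ × List (List ℕ))} {bch : List Stage}
    (h1 : relB tab L m base ph phI bN r ptr om og bs bch = true) {cs : List EC} {rs : List RE}
    (h2 : relAll tab L m base ph phI st r ptr om st.edges cs rs = true)
    (hcov : ∀ z : XX (SS xs st k), ∃ E ∈ st.edges, ∃ b ∈ Bs xs ph, z = b • ex1 xs st k hk E)
    (hfix : ∀ l < st.edges.length, ∀ a ∈ (atD c0 cs l).g, ev xs a.w ∈ Bs xs ph ∧
      ev xs a.w • ex1 xs st k hk (atD e0 st.edges l) = ex1 xs st k hk (atD e0 st.edges l)) :
    seqP xs (AA xs st k) T r = 1 := by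
  classical
  simp only [relB, Bool.and_eq_true, Nat.blt_eq] at h1
  obtain ⟨hptr, hcomm, h1⟩ := h1
  cases hg : growH tab L (ph.map (fun p => [p.1])) [] og (2 ^ ptr) 1 with
  | none => rw [hg] at h1; simp at h1
  | some p =>
    rw [hg] at h1; simp only [Bool.and_eq_true, Nat.beq_eq] at h1
    obtain ⟨p1, cnt⟩ := p
    obtain ⟨hom, h1⟩ := h1
    simp only at hom
    subst hom
    cases hr : chainH tab L m (bs.map Prod.fst) [] bch with
    | none => rw [hr] at h1; simp at h1
    | some r0 =>
      rw [hr] at h1; simp only [Bool.and_eq_true, Nat.beq_eq, Nat.blt_eq] at h1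
      obtain ⟨hprod, hpos⟩ := h1
      have hc := commA_sound hact hlt hbase hfaith hT hI hptr hcomm
      set Br : Subgroup P := Cl xs (bs.map Prod.fst) with hBr
      have hBrB : Br ≤ fixL φ (Bs xs ph) [ptr] := by
        rw [hBr, Cl, Subgroup.closure_le]
        rintro _ ⟨w, hw, rfl⟩
        obtain ⟨c, hc', rfl⟩ := List.mem_map.mp hw
        exact ⟨(hc c hc').1, fun b hb => by rw [List.mem_singleton] at hb; subst hb; exact (hc c hc').2.1⟩
      have hr0 : r0 ≤ Nat.card Br := chainH_card hact hlt (K := Br) (Ws := bs.map Prod.fst)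
        (fun w hw => Subgroup.subset_closure ⟨w, hw, rfl⟩) bch hr
      obtain ⟨F, f1, f2, f3⟩ := growH_sound hact hlt (K := Bs xs ph) (Ws := ph.map (fun p => [p.1])) (by
          intro w hw
          obtain ⟨p, hp, rfl⟩ := List.mem_map.mp hw
          have : ev xs [p.1] = xs p.1 := by simp [ev]
          rw [this]
          exact Subgroup.subset_closure ⟨p, hp, rfl⟩) (prev := []) (by simp)
        (Q := fun q => ∃ g ∈ Bs xs ph, φ g ptr = q) (by
          rintro g hg q ⟨g', hg', rfl⟩
          exact ⟨g * g', Subgroup.mul_mem _ hg.1 hg', by rw [map_mul]; rfl⟩) og (F := {ptr}) (by simp) (by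
          intro q; simp [Nat.testBit_two_pow, eq_comm]) (by
          intro q hq
          rw [Finset.mem_singleton] at hq; subst hq
          exact ⟨hptr, 1, Subgroup.one_mem _, by simp⟩) hg
      -- orbit and stabilizer
      let O : Set ℕ := {q | ∃ g ∈ Bs xs ph, φ g ptr = q}
      have hOfin : O.Finite := by
        have : O = Set.range (fun g : Bs xs ph => φ g ptr) := by
          ext q; constructor
          · rintro ⟨g, hg, rfl⟩; exact ⟨⟨g, hg⟩, rfl⟩
          · rintro ⟨g, rfl⟩; exact ⟨g, g.2, rfl⟩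
        rw [this]; exact Set.finite_range _
      have hcs := card_step (φ := φ) (Bs xs ph) ptr hOfin.toFinset (by
        intro q hq; simpa [O] using hq)
      have hFO : F ⊆ hOfin.toFinset := by
        intro q hq
        simpa [O] using (f3 q hq).2
      have hst2 : Nat.card Br ≤ Nat.card (fixL φ (Bs xs ph) [ptr]) := Nat.card_mono (Set.toFinite _) hBrB
      have hr0pos : 0 < r0 := by
        rcases Nat.eq_zero_or_pos r0 with h | h
        · rw [h, zero_mul] at hprod; omega
        · exact h
      have hle : hOfin.toFinset.card ≤ cnt := by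
        have : hOfin.toFinset.card * r0 ≤ cnt * r0 := by
          calc hOfin.toFinset.card * r0 ≤ hOfin.toFinset.card * Nat.card (fixL φ (Bs xs ph) [ptr]) :=
                Nat.mul_le_mul_left _ (le_trans hr0 hst2)
            _ ≤ Nat.card (Bs xs ph) := hcs
            _ ≤ bN := hbN
            _ = cnt * r0 := by rw [← hprod, mul_comm]
        exact Nat.le_of_mul_le_mul_right this hr0pos
      have hFO' : F = hOfin.toFinset := Finset.eq_of_subset_of_card_le hFO (by rw [f1]; exact hle)
      have hstab : ∀ g ∈ Bs xs ph, φ g ptr = ptr → g ∈ Br := by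
        have hcnt : 0 < cnt := by
          rcases Nat.eq_zero_or_pos cnt with h | h
          · rw [h, mul_zero] at hprod; omega
          · exact h
        have h5 : Nat.card (fixL φ (Bs xs ph) [ptr]) ≤ Nat.card Br := by
          rw [← hFO', f1] at hcs
          have : cnt * Nat.card (fixL φ (Bs xs ph) [ptr]) ≤ cnt * r0 := by
            refine le_trans hcs (le_trans hbN ?_)
            rw [← hprod, mul_comm]
          exact le_trans (Nat.le_of_mul_le_mul_left this hcnt) hr0
        have h6 : Br = fixL φ (Bs xs ph) [ptr] := Subgroup.eq_of_le_of_card_ge hBrB h5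
        intro g hg hg'
        rw [h6]
        exact ⟨hg, fun b hb => by rw [List.mem_singleton] at hb; subst hb; exact hg'⟩
      have hcomm2 : ∀ b ∈ Br, ∀ z, seqP xs (AA xs st k) T r (b • z) = b • seqP xs (AA xs st k) T r z := by
        intro b hb
        induction hb using Subgroup.closure_induction with
        | mem x hx =>
          obtain ⟨w, hw, rfl⟩ := hx
          obtain ⟨c, hc', rfl⟩ := List.mem_map.mp hw
          intro z
          have := DFunLike.congr_fun (hc c hc').2.2 z
          exact this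
        | one => intro z; simp
        | mul x y _ _ hx hy => intro z; rw [mul_smul, hx, hy, mul_smul]
        | inv x _ hx =>
          intro z
          have := hx (x⁻¹ • z)
          rw [smul_inv_smul] at this
          rw [this, inv_smul_smul]
      ext1 z
      obtain ⟨E, hE, b, hb, rfl⟩ := hcov z
      obtain ⟨l, hl, rfl⟩ := exists_atD (d := e0) hE
      obtain ⟨c, hc'⟩ := relAll_sound hact hlt hbase hfaith h2 l hl
      have hq : p1.testBit (φ b⁻¹ ptr) = true := by
        rw [f2, hFO']
        simp only [Set.Finite.mem_toFinset, O, Set.mem_setOf_eq]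
        exact ⟨b⁻¹, Subgroup.inv_mem _ hb, rfl⟩
      obtain ⟨g, hg', q0, k1, k2, a, ha, k3⟩ := relE_sound hact hlt hbase hfaith hT hst hI hE hc' _ hq
      have hall : ∀ a ∈ Cl xs ((atD c0 cs l).g.map AG.w),
          a ∈ Bs xs ph ∧ a • ex1 xs st k hk (atD e0 st.edges l) = ex1 xs st k hk (atD e0 st.edges l) := by
        have h7 := hfix l hl
        intro a ha
        induction ha using Subgroup.closure_induction with
        | mem x hx =>
          obtain ⟨w, hw, rfl⟩ := hx
          obtain ⟨c, hc', rfl⟩ := List.mem_map.mp hw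
          exact h7 c hc'
        | one => exact ⟨Subgroup.one_mem _, one_smul _ _⟩
        | mul x y _ _ hx hy => exact ⟨Subgroup.mul_mem _ hx.1 hy.1, by rw [mul_smul, hy.2, hx.2]⟩
        | inv x _ hx => exact ⟨Subgroup.inv_mem _ hx.1, by rw [inv_smul_eq_iff]; exact hx.2.symm⟩
      have ha' := hall a ha
      have hb' : b * a * g⁻¹ ∈ Br := by
        apply hstab _ (Subgroup.mul_mem _ (Subgroup.mul_mem _ hb ha'.1) (Subgroup.inv_mem _ hg'))
        rw [map_mul, map_mul, Equiv.Perm.mul_apply, Equiv.Perm.mul_apply, map_inv]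
        have : (φ g)⁻¹ ptr = q0 := by rw [Equiv.Perm.inv_eq_iff_eq, k1]
        rw [this, k3, map_inv]
        exact (φ b).apply_symm_apply _
      have hx : b • ex1 xs st k hk (atD e0 st.edges l) = (b * a * g⁻¹) • (g • ex1 xs st k hk (atD e0 st.edges l)) := by
        rw [← mul_smul, inv_mul_cancel_right, mul_smul, ha'.2]
      rw [hx, hcomm2 _ hb', k2]
      rfl

end main

end Cfsg.Agent.Lib.Dce
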