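import Cfsg.Agent.Lib.DceAux3

/-!
# Double coset enumeration: transitivity and index in the model
-/

set_option autoImplicit false
set_option linter.all false

namespace Cfsg.Agent.Lib.Dce

/-- one pass through the edges -/
def pass1 : List Edge → ℕ → ℕ
  | [], M => M
  | E :: l, M => pass1 l (bif Nat.testBit M E.i || Nat.testBit M E.j then setb (setb M E.i) E.j else M)

/-- several passes -/
def passn (es : List Edge) : ℕ → ℕ → ℕ
  | 0, M => M
  | n + 1, M => passn es n (pass1 es M)

section trans
variable {P : Type*} [Group P] {xs : ℕ → P} {ph : List (ℕ × ℕ)} {st : St} {k : ℕ}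

theorem pass1_sound {hk : 0 < k} {T : Equiv.Perm (XX (SS xs st k))} {es : List Edge} (hT : ∀ E ∈ es, T (ex1 xs st k hk E) = ex2 xs st k hk E)
    {O : Set (XX (SS xs st k))} (hP : ∀ (p : P), ∀ z ∈ O, p • z ∈ O) (h1 : ∀ z ∈ O, T z ∈ O) (h2 : ∀ z ∈ O, T⁻¹ z ∈ O) {M : ℕ}
    (hM : ∀ i, M.testBit i = true → cc xs st k hk i ∈ O) : ∀ i, (pass1 es M).testBit i = true → cc xs st k hk i ∈ O := by
  induction es generalizing M with
  | nil => exact hM
  | cons E l ih =>
    rw [pass1]
    refine ih (fun E hE => hT E (by simp [hE])) ?_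
    cases hc : (Nat.testBit M E.i || Nat.testBit M E.j) with
    | false => exact hM
    | true =>
      have hE : T (ex1 xs st k hk E) = ex2 xs st k hk E := hT E (by simp)
      have key : cc xs st k hk E.i ∈ O ∧ cc xs st k hk E.j ∈ O := by
        simp only [Bool.or_eq_true] at hc
        rcases hc with hc | hc
        · have k1 := hM _ hc
          have k2 : ex1 xs st k hk E ∈ O := hP _ _ k1
          have k3 := h1 _ k2
          rw [hE] at k3
          refine ⟨k1, ?_⟩
          have := hP (ev xs E.a)⁻¹ _ k3
          rwa [ex2, inv_smul_smul] at this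
        · have k1 := hM _ hc
          have k2 : ex2 xs st k hk E ∈ O := hP _ _ k1
          have k3 := h2 _ k2
          have e : T⁻¹ (ex2 xs st k hk E) = ex1 xs st k hk E := by rw [← hE]; exact T.symm_apply_apply _
          rw [e] at k3
          refine ⟨?_, k1⟩
          have := hP (ev xs E.h)⁻¹ _ k3
          rwa [ex1, inv_smul_smul] at this
      intro i hi
      simp only [cond_true] at hi
      rw [testBit_setb, testBit_setb] at hi
      rcases hi with (hi | rfl) | rfl
      · exact hM i hi
      · exact key.1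
      · exact key.2

theorem passn_sound {hk : 0 < k} {T : Equiv.Perm (XX (SS xs st k))} (hT : ∀ E ∈ st.edges, T (ex1 xs st k hk E) = ex2 xs st k hk E)
    {O : Set (XX (SS xs st k))} (hP : ∀ (p : P), ∀ z ∈ O, p • z ∈ O) (h1 : ∀ z ∈ O, T z ∈ O) (h2 : ∀ z ∈ O, T⁻¹ z ∈ O)
    (h0 : cc xs st k hk 0 ∈ O) {n : ℕ} (hn : passn st.edges n 1 = 2 ^ k - 1) : ∀ z, z ∈ O := by
  have key : ∀ (n M : ℕ), (∀ i, M.testBit i = true → cc xs st k hk i ∈ O) →
      ∀ i, (passn st.edges n M).testBit i = true → cc xs st k hk i ∈ O := by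
    intro n
    induction n with
    | zero => intro M hM; exact hM
    | succ n ih => intro M hM; exact ih _ (pass1_sound hT hP h1 h2 hM)
  have h3 := key n 1 (by
    intro i hi
    have hi2 : i = 0 := by
      by_contra h
      rw [show (1 : ℕ) = 2 ^ 0 from rfl, Nat.testBit_two_pow] at hi
      simp at hi
      omega
    subst hi2; exact h0)
  intro z
  obtain ⟨p, i, rfl⟩ := xp_surj z
  have h4 : cc xs st k hk i = xp (SS xs st k) i := by rw [cc, dif_pos i.2]
  rw [← h4]
  apply hP
  apply h3
  rw [hn, Nat.testBit_two_pow_sub_one]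
  simp

end trans

/-- the index of a subgroup fixing a point of a transitive action -/
theorem index_of_trans {G X : Type*} [Group G] [MulAction G X] [Finite X] (x : X) (ht : ∀ y : X, ∃ g : G, g • x = y) {K : Subgroup G}
    (hK : ∀ g ∈ K, g • x = x) (hfin : Finite (G ⧸ K)) (hle : Nat.card (G ⧸ K) ≤ Nat.card X) :
    K.index = Nat.card X ∧ K = MulAction.stabilizer G x := by
  have h1 : (MulAction.stabilizer G x).index = Nat.card X := by
    have h2 : Function.Bijective (fun q : G ⧸ MulAction.stabilizer G x => MulAction.ofQuotientStabilizer G x q) := by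
      refine ⟨MulAction.injective_ofQuotientStabilizer G x, ?_⟩
      intro y
      obtain ⟨g, hg⟩ := ht y
      exact ⟨(g : G ⧸ MulAction.stabilizer G x), hg⟩
    exact Nat.card_congr (Equiv.ofBijective _ h2)
  have h2 : K ≤ MulAction.stabilizer G x := fun g hg => hK g hg
  have h3 : K.index ≤ (MulAction.stabilizer G x).index := by rw [h1]; exact hle
  have h4 : K.relIndex (MulAction.stabilizer G x) * (MulAction.stabilizer G x).index = K.index := Subgroup.relIndex_mul_index h2
  have h5 : 0 < (MulAction.stabilizer G x).index := by rw [h1]; exact Nat.card_pos_iff.mpr ⟨⟨x⟩, inferInstance⟩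
  have h6 : K.index ≠ 0 := Nat.card_pos.ne'
  have h7 : K.relIndex (MulAction.stabilizer G x) = 1 := by
    have h8 : K.relIndex (MulAction.stabilizer G x) ≤ 1 := by
      by_contra hlt
      have : (MulAction.stabilizer G x).index * 2 ≤ K.index := by
        rw [← h4, mul_comm]
        exact Nat.mul_le_mul_right _ (by omega)
      omega
    have h9 : K.relIndex (MulAction.stabilizer G x) ≠ 0 := by
      intro h; rw [h, zero_mul] at h4; exact h6 h4.symm
    omega
  refine ⟨?_, le_antisymm h2 (Subgroup.relIndex_eq_one.mp h7)⟩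
  rw [← h4, h7, one_mul, h1]

end Cfsg.Agent.Lib.Dce
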