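import Cfsg.Agent.Lib.Dce

/-!
# Double coset enumeration: coverage and the upper bound for the number of points
-/

set_option autoImplicit false
set_option linter.all false

namespace Cfsg.Agent.Lib.Dce

section defs
variable (tab : ℕ → ℕ) (L m : ℕ)

/-- set a bit -/
def setb (M q : ℕ) : ℕ := M ||| 2 ^ q

/-- add the images of points under a word, all of them new -/
def growW (w : List ℕ) : List ℕ → ℕ → ℕ → Option (ℕ × ℕ)
  | [], M, n => some (M, n)
  | q :: l, M, n => bif Nat.testBit M q && !(Nat.testBit M (actw tab w q)) then growW w l (setb M (actw tab w q)) (n + 1) else none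

/-- the same for several words -/
def growG (S : List (ℕ × ℕ)) (i : ℕ) (prev : List ℕ) : List (List ℕ × List ℕ) → ℕ → ℕ → Option (ℕ × ℕ)
  | [], M, n => some (M, n)
  | g :: l, M, n => bif allS S i g.1 && (lets L g.1 && eqB tab g.1 [] prev) then
      match growW tab g.1 g.2 M n with
      | none => none
      | some p => growG S i prev l p.1 p.2 else none

/-- roots -/
def roots (st : St) (i pt : ℕ) : List (ℕ × ℕ) → ℕ → Option ℕ
  | [], M => some M
  | p :: l, M => match nthE st.edges p.1 with
    | none => none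
    | some E => bif Nat.beq E.i i && (lets L E.h && (Nat.blt p.2 m && Nat.beq (actw tab E.h p.2) pt)) then
        roots st i pt l (setb M p.2) else none

/-- every double coset has an edge -/
def cover (mo : ℕ) (st : St) (i pt : ℕ) (r : List (ℕ × ℕ)) (g : List (List ℕ × List ℕ)) : Bool :=
  match roots tab L m st i pt r 0 with
  | none => false
  | some M => match growG tab L st.stab i [] g M 0 with
    | none => false
    | some p => Nat.beq p.1 (2 ^ mo - 1)

/-- a stage of a stabilizer chain -/
structure Stage where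
  b : ℕ
  g : List (List ℕ × List ℕ)

/-- lower bound for the order -/
def chainK (S : List (ℕ × ℕ)) (i : ℕ) : List ℕ → List Stage → Option ℕ
  | _, [] => some 1
  | prev, s :: l => bif Nat.blt s.b m then
      match growG tab L S i prev s.g (2 ^ s.b) 1 with
      | none => none
      | some p => match chainK S i (s.b :: prev) l with
        | none => none
        | some r => some (p.2 * r)
      else none

end defs

section sound
variable {P : Type*} [Group P] {xs : ℕ → P} {φ : P →* Equiv.Perm ℕ} {tab : ℕ → ℕ} {L m : ℕ}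

/-- the subgroup of known stabilizing elements -/
def Sg (xs : ℕ → P) (S : List (ℕ × ℕ)) (i : ℕ) : Subgroup P := Subgroup.closure {g | ∃ s, (i, s) ∈ S ∧ g = xs s}

theorem allS_mem {S : List (ℕ × ℕ)} {i : ℕ} {w : List ℕ} (h : allS S i w = true) : ev xs w ∈ Sg xs S i := by
  induction w with
  | nil => exact Subgroup.one_mem _
  | cons s w ih =>
    simp only [allS, Bool.and_eq_true] at h
    rw [ev_cons]
    exact Subgroup.mul_mem _ (Subgroup.subset_closure ⟨s, memP_mem h.1, rfl⟩) (ih h.2)

theorem testBit_setb (M q j : ℕ) : (setb M q).testBit j = true ↔ M.testBit j = true ∨ q = j := by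
  simp [setb, Nat.testBit_or, Nat.testBit_two_pow]

/-- fixing a list of points -/
def fixL (φ : P →* Equiv.Perm ℕ) (K : Subgroup P) (bs : List ℕ) : Subgroup P where
  carrier := {g | g ∈ K ∧ ∀ b ∈ bs, φ g b = b}
  one_mem' := ⟨K.one_mem, fun b _ => by simp⟩
  mul_mem' := by
    rintro x y ⟨hx, hx'⟩ ⟨hy, hy'⟩
    exact ⟨K.mul_mem hx hy, fun b hb => by rw [map_mul, Equiv.Perm.mul_apply, hy' b hb, hx' b hb]⟩
  inv_mem' := by
    rintro x ⟨hx, hx'⟩
    exact ⟨K.inv_mem hx, fun b hb => by rw [map_inv, Equiv.Perm.inv_eq_iff_eq, hx' b hb]⟩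

theorem mem_fixL {K : Subgroup P} {bs : List ℕ} {g : P} : g ∈ fixL φ K bs ↔ g ∈ K ∧ ∀ b ∈ bs, φ g b = b := Iff.rfl

variable (hact : ∀ c < L, ∀ i < m, φ (xs c) i = look (tab c) i) (hlt : ∀ c < L, ∀ i < m, look (tab c) i < m)
include hact hlt

theorem growW_sound {K : Subgroup P} {Q : ℕ → Prop} (hQ : ∀ g ∈ K, ∀ q, Q q → Q (φ g q)) {w : List ℕ} (hw : lets L w = true)
    (hK : ev xs w ∈ K) (l : List ℕ) {M n M' n' : ℕ} {F : Finset ℕ} (hF : F.card = n) (hMF : ∀ q, M.testBit q = true ↔ q ∈ F)
    (hFQ : ∀ q ∈ F, q < m ∧ Q q) (h : growW tab w l M n = some (M', n')) :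
    ∃ F' : Finset ℕ, F'.card = n' ∧ (∀ q, M'.testBit q = true ↔ q ∈ F') ∧ ∀ q ∈ F', q < m ∧ Q q := by
  induction l generalizing M n F with
  | nil => simp only [growW, Option.some.injEq, Prod.mk.injEq] at h; obtain ⟨rfl, rfl⟩ := h; exact ⟨F, hF, hMF, hFQ⟩
  | cons q l ih =>
    simp only [growW] at h
    cases hc : (Nat.testBit M q && !(Nat.testBit M (actw tab w q))) with
    | false => rw [hc] at h; simp at h
    | true =>
      rw [hc] at h; simp only [cond_true] at h
      simp only [Bool.and_eq_true, Bool.not_eq_true'] at hc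
      have h1 := hFQ q ((hMF q).mp hc.1)
      obtain ⟨h2, h3⟩ := actw_eq hact hlt w hw q h1.1
      have h4 : actw tab w q ∉ F := fun h' => by
        rw [(hMF _).mpr h'] at hc; simp at hc
      refine ih (M := setb M (actw tab w q)) (n := n + 1) (F := insert (actw tab w q) F) ?_ ?_ ?_ h
      · rw [Finset.card_insert_of_notMem h4, hF]
      · intro j
        rw [testBit_setb, Finset.mem_insert, hMF]
        constructor
        · rintro (h | h)
          · exact Or.inr h
          · exact Or.inl h.symm
        · rintro (h | h)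
          · exact Or.inr h.symm
          · exact Or.inl h
      · intro j hj
        rcases Finset.mem_insert.mp hj with rfl | hj
        · exact ⟨h3, by rw [← h2]; exact hQ _ hK _ h1.2⟩
        · exact hFQ j hj

theorem growG_sound {S : List (ℕ × ℕ)} {i : ℕ} {prev : List ℕ} (hprev : ∀ b ∈ prev, b < m) {Q : ℕ → Prop}
    (hQ : ∀ g ∈ fixL φ (Sg xs S i) prev, ∀ q, Q q → Q (φ g q)) (l : List (List ℕ × List ℕ)) {M n M' n' : ℕ} {F : Finset ℕ}
    (hF : F.card = n) (hMF : ∀ q, M.testBit q = true ↔ q ∈ F) (hFQ : ∀ q ∈ F, q < m ∧ Q q)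
    (h : growG tab L S i prev l M n = some (M', n')) :
    ∃ F' : Finset ℕ, F'.card = n' ∧ (∀ q, M'.testBit q = true ↔ q ∈ F') ∧ ∀ q ∈ F', q < m ∧ Q q := by
  induction l generalizing M n F with
  | nil => simp only [growG, Option.some.injEq, Prod.mk.injEq] at h; obtain ⟨rfl, rfl⟩ := h; exact ⟨F, hF, hMF, hFQ⟩
  | cons g l ih =>
    simp only [growG] at h
    cases hc : (allS S i g.1 && (lets L g.1 && eqB tab g.1 [] prev)) with
    | false => rw [hc] at h; simp at h
    | true =>
      rw [hc] at h; simp only [cond_true] at h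
      simp only [Bool.and_eq_true] at hc
      obtain ⟨h1, h2, h3⟩ := hc
      cases hg : growW tab g.1 g.2 M n with
      | none => rw [hg] at h; simp at h
      | some p =>
        rw [hg] at h; simp only at h
        obtain ⟨p1, p2⟩ := p
        have hK : ev xs g.1 ∈ fixL φ (Sg xs S i) prev := by
          refine ⟨allS_mem h1, fun b hb => ?_⟩
          rw [eqB_iff] at h3
          rw [(actw_eq hact hlt _ h2 b (hprev b hb)).1, h3 b hb]; rfl
        obtain ⟨F1, a1, a2, a3⟩ := growW_sound hact hlt hQ h2 hK g.2 hF hMF hFQ hg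
        exact ih a1 a2 a3 h

omit hact hlt in
theorem card_step [Finite P] (K : Subgroup P) (b : ℕ) (F : Finset ℕ) (hF : ∀ q ∈ F, ∃ g ∈ K, φ g b = q) :
    F.card * Nat.card (fixL φ K [b]) ≤ Nat.card K := by
  classical
  choose! g hg hgb using hF
  have hinj : Function.Injective (fun p : F × fixL φ K [b] => (⟨g p.1 * p.2, K.mul_mem (hg _ p.1.2) p.2.2.1⟩ : K)) := by
    rintro ⟨⟨q, hq⟩, ⟨h, hh⟩⟩ ⟨⟨q', hq'⟩, ⟨h', hh'⟩⟩ he
    simp only [Subtype.mk.injEq] at he
    have h1 : φ (g q * h) b = q := by rw [map_mul, Equiv.Perm.mul_apply, hh.2 b (by simp), hgb q hq]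
    have h2 : φ (g q' * h') b = q' := by rw [map_mul, Equiv.Perm.mul_apply, hh'.2 b (by simp), hgb q' hq']
    have h3 : q = q' := by rw [← h1, ← h2, he]
    subst h3
    have h4 := mul_left_cancel he
    subst h4; rfl
  have := Nat.card_le_card_of_injective _ hinj
  rwa [Nat.card_prod, Nat.card_eq_fintype_card (α := F), Fintype.card_coe] at this

theorem chainK_sound [Finite P] {S : List (ℕ × ℕ)} {i : ℕ} (l : List Stage) {prev : List ℕ} (hprev : ∀ b ∈ prev, b < m) {r : ℕ}
    (h : chainK tab L m S i prev l = some r) : r ≤ Nat.card (fixL φ (Sg xs S i) prev) := by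
  induction l generalizing prev r with
  | nil => simp only [chainK, Option.some.injEq] at h; subst h; exact Nat.card_pos
  | cons s l ih =>
    simp only [chainK] at h
    cases hb : Nat.blt s.b m with
    | false => rw [hb] at h; simp at h
    | true =>
      rw [hb] at h; simp only [cond_true] at h
      have hb' : s.b < m := by simpa [Nat.blt_eq] using hb
      cases hg : growG tab L S i prev s.g (2 ^ s.b) 1 with
      | none => rw [hg] at h; simp at h
      | some p =>
        rw [hg] at h; simp only at h
        cases hr : chainK tab L m S i (s.b :: prev) l with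
        | none => rw [hr] at h; simp at h
        | some r' =>
          rw [hr] at h; simp only [Option.some.injEq] at h
          subst h
          obtain ⟨p1, p2⟩ := p
          have h1 := ih (prev := s.b :: prev) (by
            intro b hb2
            rcases List.mem_cons.mp hb2 with rfl | hb2
            · exact hb'
            · exact hprev b hb2) hr
          obtain ⟨F, a1, a2, a3⟩ := growG_sound hact hlt hprev (Q := fun q => ∃ g ∈ fixL φ (Sg xs S i) prev, φ g s.b = q) (by
            rintro g hg q ⟨g', hg', rfl⟩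
            exact ⟨g * g', Subgroup.mul_mem _ hg hg', by rw [map_mul]; rfl⟩) s.g (F := {s.b}) (by simp) (by
            intro q; simp [Nat.testBit_two_pow, eq_comm]) (by
            intro q hq
            rw [Finset.mem_singleton] at hq; subst hq
            exact ⟨hb', 1, Subgroup.one_mem _, by simp⟩) hg
          have h2 := card_step (φ := φ) (fixL φ (Sg xs S i) prev) s.b F (fun q hq => (a3 q hq).2)
          rw [a1] at h2
          refine le_trans (Nat.mul_le_mul_left _ (le_trans h1 ?_)) h2
          apply Nat.card_mono (Set.toFinite _)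
          rintro g ⟨hg1, hg2⟩
          exact ⟨⟨hg1, fun b hb => hg2 b (by simp [hb])⟩, fun b hb => by
            rw [List.mem_singleton] at hb; subst hb; exact hg2 _ (by simp)⟩

/-- a point of `0 .. m-1` is reached from an edge -/
def Good (xs : ℕ → P) (φ : P →* Equiv.Perm ℕ) (m : ℕ) (st : St) (pt i q : ℕ) : Prop :=
  ∃ E ∈ st.edges, E.i = i ∧ ∃ q0, φ (ev xs E.h) q0 = pt ∧ ∃ g ∈ Sg xs st.stab i, φ g q0 = q

theorem roots_sound {st : St} {i pt : ℕ} (l : List (ℕ × ℕ)) {M M' : ℕ} (hM : ∀ q, M.testBit q = true → q < m ∧ Good xs φ m st pt i q)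
    (h : roots tab L m st i pt l M = some M') : ∀ q, M'.testBit q = true → q < m ∧ Good xs φ m st pt i q := by
  induction l generalizing M with
  | nil => simp only [roots, Option.some.injEq] at h; subst h; exact hM
  | cons p l ih =>
    simp only [roots] at h
    cases hE : nthE st.edges p.1 with
    | none => rw [hE] at h; simp at h
    | some E =>
      rw [hE] at h; simp only at h
      cases hc : (Nat.beq E.i i && (lets L E.h && (Nat.blt p.2 m && Nat.beq (actw tab E.h p.2) pt))) with
      | false => rw [hc] at h; simp at h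
      | true =>
        rw [hc] at h; simp only [cond_true] at h
        simp only [Bool.and_eq_true, Nat.beq_eq, Nat.blt_eq] at hc
        obtain ⟨h1, h2, h3, h4⟩ := hc
        refine ih ?_ h
        intro q hq
        rw [testBit_setb] at hq
        rcases hq with hq | rfl
        · exact hM q hq
        · refine ⟨h3, E, nthE_mem hE, h1, p.2, ?_, 1, Subgroup.one_mem _, by simp⟩
          rw [(actw_eq hact hlt _ h2 _ h3).1, h4]

theorem cover_sound {mo : ℕ} {st : St} {i pt : ℕ} {r : List (ℕ × ℕ)} {g : List (List ℕ × List ℕ)}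
    (h : cover tab L m mo st i pt r g = true) : ∀ q < mo, Good xs φ mo st pt i q := by
  simp only [cover] at h
  cases hr : roots tab L m st i pt r 0 with
  | none => rw [hr] at h; simp at h
  | some M =>
    rw [hr] at h; simp only at h
    cases hg : growG tab L st.stab i [] g M 0 with
    | none => rw [hg] at h; simp at h
    | some p =>
      rw [hg] at h; simp only [Nat.beq_eq] at h
      obtain ⟨p1, p2⟩ := p
      have h1 := roots_sound hact hlt r (M := 0) (i := i) (pt := pt) (by simp) hr
      -- the counting is not needed: use the finite set of bits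
      have key : ∀ (l : List (List ℕ × List ℕ)) (M n M' n' : ℕ), (∀ q, M.testBit q = true → q < m ∧ Good xs φ m st pt i q) →
          growG tab L st.stab i [] l M n = some (M', n') → ∀ q, M'.testBit q = true → q < m ∧ Good xs φ m st pt i q := by
        intro l
        induction l with
        | nil => intro M n M' n' hM h; simp only [growG, Option.some.injEq, Prod.mk.injEq] at h; obtain ⟨rfl, rfl⟩ := h; exact hM
        | cons g l ih =>
          intro M n M' n' hM h
          simp only [growG] at h
          cases hc : (allS st.stab i g.1 && (lets L g.1 && eqB tab g.1 [] [])) with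
          | false => rw [hc] at h; simp at h
          | true =>
            rw [hc] at h; simp only [cond_true] at h
            simp only [Bool.and_eq_true] at hc
            cases hg : growW tab g.1 g.2 M n with
            | none => rw [hg] at h; simp at h
            | some p =>
              rw [hg] at h; simp only at h
              refine ih _ _ _ _ ?_ h
              have hw : ∀ (l : List ℕ) (M n : ℕ) (p : ℕ × ℕ), (∀ q, M.testBit q = true → q < m ∧ Good xs φ m st pt i q) →
                  growW tab g.1 l M n = some p → ∀ q, p.1.testBit q = true → q < m ∧ Good xs φ m st pt i q := by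
                intro l
                induction l with
                | nil => intro M n p hM h; simp only [growW, Option.some.injEq] at h; subst h; exact hM
                | cons q l ih =>
                  intro M n p hM h
                  simp only [growW] at h
                  cases hd : (Nat.testBit M q && !(Nat.testBit M (actw tab g.1 q))) with
                  | false => rw [hd] at h; simp at h
                  | true =>
                    rw [hd] at h; simp only [cond_true] at h
                    simp only [Bool.and_eq_true] at hd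
                    refine ih _ _ _ ?_ h
                    intro j hj
                    rw [testBit_setb] at hj
                    rcases hj with hj | rfl
                    · exact hM j hj
                    · obtain ⟨k1, E, k2, k3, q0, k4, g', k5, k6⟩ := hM q hd.1
                      obtain ⟨k7, k8⟩ := actw_eq hact hlt g.1 hc.2.1 q k1
                      exact ⟨k8, E, k2, k3, q0, k4, ev xs g.1 * g', Subgroup.mul_mem _ (allS_mem hc.1) k5, by
                        rw [map_mul, Equiv.Perm.mul_apply, k6, k7]⟩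
              exact hw _ _ _ _ hM hg
      intro q hq
      refine (key g M 0 p1 p2 h1 hg q ?_).2
      have h' : p1 = 2 ^ mo - 1 := h
      rw [h', Nat.testBit_two_pow_sub_one]
      exact decide_eq_true hq

end sound

section up
variable {P : Type*} [Group P] {xs : ℕ → P} {φ : P →* Equiv.Perm ℕ} {m : ℕ}
variable {Y : Type*} {A : P →* Equiv.Perm Y} {T : Equiv.Perm Y} {c : ℕ → Y} {ph : List (ℕ × ℕ)} {st : St} {k pt : ℕ}

theorem Sg_fix (hst : ∀ p ∈ st.stab, A (xs p.2) (c p.1) = c p.1) {i : ℕ} {g : P} (hg : g ∈ Sg xs st.stab i) : A g (c i) = c i := by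
  induction hg using Subgroup.closure_induction with
  | mem x hx => obtain ⟨s, hs, rfl⟩ := hx; exact hst _ hs
  | one => simp
  | mul x y _ _ hx hy => rw [map_mul, Equiv.Perm.mul_apply, hy, hx]
  | inv x _ hx => rw [map_inv, Equiv.Perm.inv_eq_iff_eq, hx]

theorem comm_cl (hph : ∀ p ∈ ph, T * A (xs p.1) = A (xs p.2) * T) {b : P}
    (hb : b ∈ Subgroup.closure {g | ∃ p ∈ ph, g = xs p.1}) : ∃ b', T * A b = A b' * T := by
  induction hb using Subgroup.closure_induction with
  | mem x hx => obtain ⟨p, hp, rfl⟩ := hx; exact ⟨_, hph p hp⟩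
  | one => exact ⟨1, by simp⟩
  | mul x y _ _ hx hy =>
    obtain ⟨x', hx⟩ := hx
    obtain ⟨y', hy⟩ := hy
    exact ⟨x' * y', by rw [map_mul, map_mul, ← mul_assoc, hx, mul_assoc, hy, mul_assoc]⟩
  | inv x _ hx =>
    obtain ⟨x', hx⟩ := hx
    refine ⟨x'⁻¹, ?_⟩
    rw [map_inv, map_inv, eq_inv_mul_iff_mul_eq, ← mul_assoc, ← hx, mul_inv_cancel_right]

theorem closedT (hst : Inv xs A T c st) (hph : ∀ p ∈ ph, T * A (xs p.1) = A (xs p.2) * T)
    (hm : ∀ g i, i < m → φ g i < m) (hpt : pt < m) (hcov : ∀ i < k, ∀ q < m, Good xs φ m st pt i q)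
    (hB : ∀ g, φ g pt = pt → g ∈ Subgroup.closure {g | ∃ p ∈ ph, g = xs p.1}) (hj : ∀ E ∈ st.edges, E.j < k)
    (p : P) (i : ℕ) (hi : i < k) : ∃ p' j, j < k ∧ T (A p (c i)) = A p' (c j) := by
  obtain ⟨E, hE, rfl, q0, h1, g, hg, h2⟩ := hcov i hi (φ p⁻¹ pt) (hm _ _ hpt)
  have h3 : φ (p * g * (ev xs E.h)⁻¹) pt = pt := by
    rw [map_mul, map_mul, Equiv.Perm.mul_apply, Equiv.Perm.mul_apply, map_inv]
    have : (φ (ev xs E.h))⁻¹ pt = q0 := by rw [Equiv.Perm.inv_eq_iff_eq, h1]
    rw [this, h2, map_inv]
    exact (φ p).apply_symm_apply _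
  obtain ⟨b', hb'⟩ := comm_cl hph (hB _ h3)
  refine ⟨b' * ev xs E.a, E.j, hj E hE, ?_⟩
  have h4 : A p (c E.i) = A (p * g * (ev xs E.h)⁻¹) (A (ev xs E.h) (c E.i)) := by
    rw [← Equiv.Perm.mul_apply, ← map_mul, inv_mul_cancel_right, map_mul, Equiv.Perm.mul_apply, Sg_fix hst.2 hg]
  rw [h4, ← Equiv.Perm.mul_apply T, hb', Equiv.Perm.mul_apply, hst.1 E hE, map_mul, Equiv.Perm.mul_apply]

/-- all points of `Y` are reached -/
theorem surj [Finite P] (hst : Inv xs A T c st) (hph : ∀ p ∈ ph, T * A (xs p.1) = A (xs p.2) * T)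
    (hm : ∀ g i, i < m → φ g i < m) (hpt : pt < m) (hcov : ∀ i < k, ∀ q < m, Good xs φ m st pt i q)
    (hB : ∀ g, φ g pt = pt → g ∈ Subgroup.closure {g | ∃ p ∈ ph, g = xs p.1}) (hj : ∀ E ∈ st.edges, E.j < k) (hk : 0 < k)
    (htr : ∀ S : Set Y, c 0 ∈ S → (∀ p, ∀ y ∈ S, A p y ∈ S) → (∀ y ∈ S, T y ∈ S) → (∀ y ∈ S, T⁻¹ y ∈ S) → ∀ y, y ∈ S) :
    ∀ y, ∃ p i, i < k ∧ y = A p (c i) := by
  set S : Set Y := {y | ∃ p i, i < k ∧ y = A p (c i)} with hS
  have hfin : S.Finite := by
    have : S ⊆ ⋃ i ∈ Set.Iio k, Set.range (fun p => A p (c i)) := by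
      rintro y ⟨p, i, hi, rfl⟩
      simp only [Set.mem_iUnion]
      exact ⟨i, hi, p, rfl⟩
    exact Set.Finite.subset (Set.Finite.biUnion (Set.finite_Iio k) fun i _ => Set.finite_range _) this
  have hT : ∀ y ∈ S, T y ∈ S := by
    rintro y ⟨p, i, hi, rfl⟩
    exact closedT hst hph hm hpt hcov hB hj p i hi
  have hTi : ∀ y ∈ S, T⁻¹ y ∈ S := by
    intro y hy
    have h1 : T '' S = S := by
      apply Set.Finite.eq_of_subset_of_card_le hfin
      · rintro _ ⟨y, hy, rfl⟩; exact hT y hy
      · exact le_of_eq (Nat.card_image_of_injective T.injective S).symm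
    rw [← h1] at hy
    obtain ⟨z, hz, rfl⟩ := hy
    have : T⁻¹ (T z) = z := T.symm_apply_apply z
    rw [this]; exact hz
  refine htr S ⟨1, 0, hk, by simp⟩ ?_ hT hTi
  rintro p y ⟨p', i, hi, rfl⟩
  exact ⟨p * p', i, hi, by rw [map_mul, Equiv.Perm.mul_apply]⟩

/-- upper bound for the number of points -/
theorem card_le [Finite P] (hst : ∀ p ∈ st.stab, A (xs p.2) (c p.1) = c p.1) (hs : ∀ y, ∃ p i, i < k ∧ y = A p (c i)) :
    Finite Y ∧ Nat.card Y ≤ ∑ i : Fin k, (Sg xs st.stab i).index := by
  classical
  let f : (Σ i : Fin k, P ⧸ Sg xs st.stab i) → Y := fun z => Quotient.liftOn' z.2 (fun p => A p (c z.1)) (by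
    intro a b hab
    rw [QuotientGroup.leftRel_apply] at hab
    have h1 := Sg_fix hst hab
    rw [map_mul, map_inv, Equiv.Perm.mul_apply, Equiv.Perm.inv_eq_iff_eq] at h1
    exact h1.symm)
  have hf : Function.Surjective f := by
    intro y
    obtain ⟨p, i, hi, rfl⟩ := hs y
    exact ⟨⟨⟨i, hi⟩, (p : P ⧸ Sg xs st.stab i)⟩, rfl⟩
  have h1 : Finite Y := Finite.of_surjective f hf
  refine ⟨h1, ?_⟩
  have h2 := Nat.card_le_card_of_surjective f hf
  rw [Nat.card_sigma] at h2
  simpa [Subgroup.index] using h2

theorem index_le [Finite P] {S : List (ℕ × ℕ)} {i N n r : ℕ} (hN : Nat.card P = N) (hr : r ≤ Nat.card (Sg xs S i)) (hr0 : 0 < r)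
    (h : n * r = N) : (Sg xs S i).index ≤ n := by
  have h1 := (Sg xs S i).index_mul_card
  rw [hN, ← h] at h1
  by_contra hlt
  rw [not_le] at hlt
  have h2 : n * r < (Sg xs S i).index * Nat.card (Sg xs S i) :=
    lt_of_lt_of_le (Nat.mul_lt_mul_of_pos_right hlt hr0) (Nat.mul_le_mul_left _ hr)
  omega

/-- existence of the points for a list of definitions -/
theorem exists_c (xs : ℕ → P) (A : P →* Equiv.Perm Y) (T : Equiv.Perm Y) (y0 : Y) (ds : List (ℕ × List ℕ × Bool))
    (hds : ∀ n (h : n < ds.length), (ds[n]).1 ≤ n) :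
    ∃ c : ℕ → Y, c 0 = y0 ∧ ∀ n (h : n < ds.length), c (n + 1) =
      (bif (ds[n]).2.2 then T⁻¹ else T) (A (ev xs (ds[n]).2.1) (c (ds[n]).1)) := by
  induction ds using List.reverseRecOn with
  | nil => exact ⟨fun _ => y0, rfl, fun n h => by simp at h⟩
  | append_singleton l d ih =>
    obtain ⟨c, hc0, hc⟩ := ih (fun n h => by
      have := hds n (by simp; omega)
      rwa [List.getElem_append_left h] at this)
    have hd : d.1 ≤ l.length := by
      have := hds l.length (by simp)
      simpa using this
    refine ⟨fun j => if j = l.length + 1 then (bif d.2.2 then T⁻¹ else T) (A (ev xs d.2.1) (c d.1)) else c j, ?_, ?_⟩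
    · simp [hc0]
    · intro n hn
      simp only [List.length_append, List.length_singleton] at hn
      by_cases h : n < l.length
      · rw [List.getElem_append_left h]
        have h1 := hds n (by simp; omega)
        rw [List.getElem_append_left h] at h1
        have e1 : n + 1 ≠ l.length + 1 := by omega
        have e2 : (l[n]).1 ≠ l.length + 1 := by omega
        simp only [if_neg e1, if_neg e2]
        exact hc n h
      · have hn' : n = l.length := by omega
        subst hn'
        simp only [if_true, List.getElem_append_right (le_refl _), Nat.sub_self, List.getElem_singleton]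
        have e2 : d.1 ≠ l.length + 1 := by omega
        simp only [if_neg e2]

end up

end Cfsg.Agent.Lib.Dce
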