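import Mathlib

/-!
# Finite groups with all cyclic subgroups normal and without quaternion subgroups are abelian (helper4)
-/

set_option autoImplicit false
set_option linter.all false

namespace Cfsg.Agent.Lib.DedekindAb

open Subgroup

variable {L : Type*} [Group L] [Finite L]

omit [Finite L] in
theorem move_pow {a b c : L} (h : b * a = a * b * c) (hca : c * a = a * c) (m : ℕ) :
    b * a ^ m = a ^ m * b * c ^ m := by
  induction m with
  | zero => simp
  | succ m ih =>
    have h1 : c ^ m * a = a * c ^ m := ((show Commute c a from hca).pow_left m).eq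
    calc b * a ^ (m + 1) = (b * a ^ m) * a := by rw [pow_succ]; group
      _ = a ^ m * b * (c ^ m * a) := by rw [ih]; group
      _ = a ^ m * (b * a) * c ^ m := by rw [h1]; group
      _ = a ^ m * (a * b * c) * c ^ m := by rw [h]
      _ = a ^ (m + 1) * b * c ^ (m + 1) := by rw [pow_succ, pow_succ' c]; group

omit [Finite L] in
theorem mul_pow_class {x b d : L} (h : b * x = x * b * d) (hdx : d * x = x * d) (hdb : d * b = b * d)
    (n : ℕ) : (x * b) ^ n = x ^ n * b ^ n * d ^ (n.choose 2) := by
  induction n with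
  | zero => simp
  | succ n ih =>
    have h1 : ∀ m : ℕ, b ^ m * x = x * b ^ m * d ^ m := by
      intro m
      induction m with
      | zero => simp
      | succ m ihm =>
        calc b ^ (m + 1) * x = b ^ m * (b * x) := by rw [pow_succ]; group
          _ = (b ^ m * x) * b * d := by rw [h]; group
          _ = x * b ^ m * (d ^ m * b) * d := by rw [ihm]; group
          _ = x * b ^ m * (b * d ^ m) * d := by rw [((show Commute d b from hdb).pow_left m).eq]
          _ = x * b ^ (m + 1) * d ^ (m + 1) := by rw [pow_succ, pow_succ]; group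
    have h2 : d ^ (n.choose 2) * (x * b) = (x * b) * d ^ (n.choose 2) :=
      (((show Commute d x from hdx).mul_right hdb).pow_left _).eq
    have h3 : d ^ n * b = b * d ^ n := ((show Commute d b from hdb).pow_left n).eq
    calc (x * b) ^ (n + 1) = x ^ n * b ^ n * (d ^ (n.choose 2) * (x * b)) := by
          rw [pow_succ, ih]; group
      _ = x ^ n * (b ^ n * x) * b * d ^ (n.choose 2) := by rw [h2]; group
      _ = x ^ n * x * b ^ n * (d ^ n * b) * d ^ (n.choose 2) := by rw [h1]; group
      _ = x ^ (n + 1) * b ^ (n + 1) * (d ^ n * d ^ (n.choose 2)) := by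
          rw [h3, pow_succ, pow_succ]; group
      _ = x ^ (n + 1) * b ^ (n + 1) * d ^ ((n + 1).choose 2) := by
          rw [← pow_add, Nat.choose_succ_succ' n 1, Nat.choose_one_right]

theorem mem_zp_of_pow {a c : L} {p α : ℕ} (hp : p.Prime) (ha : orderOf a = p ^ (α + 1))
    (hc : c ∈ zpowers a) (hcp : c ^ p = 1) : c ∈ zpowers (a ^ p ^ α) := by
  classical
  rw [mem_zpowers_iff_mem_range_orderOf] at hc
  obtain ⟨i, _, rfl⟩ := Finset.mem_image.1 hc
  rw [← pow_mul] at hcp
  have h1 : p ^ (α + 1) ∣ i * p := by rw [← ha]; exact orderOf_dvd_of_pow_eq_one hcp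
  rw [pow_succ] at h1
  obtain ⟨j, rfl⟩ := Nat.dvd_of_mul_dvd_mul_right hp.pos h1
  rw [pow_mul]
  exact npow_mem_zpowers _ _

/-- the main step -/
theorem step (h1 : ∀ a b : L, a * b * a⁻¹ ∈ zpowers b)
    (h2 : ∀ y1 y2 : L, orderOf (y1 * y1) = 2 → y1 * y1 = y2 * y2 → y1 * y2 = y2 * y1)
    {a b : L} (IH : ∀ a' b' : L, orderOf a' + orderOf b' < orderOf a + orderOf b → a' * b' = b' * a')
    {p α β : ℕ} (hp : p.Prime) (ha : orderOf a = p ^ α) (hb : orderOf b = p ^ β) (hβα : β ≤ α)
    (hab : a * b ≠ b * a) : False := by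
  classical
  obtain ⟨c, hc⟩ : ∃ c, c = b⁻¹ * a⁻¹ * b * a := ⟨_, rfl⟩
  have hba : b * a = a * b * c := by rw [hc]; group
  have hca : c ∈ zpowers a := by
    rw [hc]
    have := h1 b⁻¹ a⁻¹
    rw [zpowers_inv] at this
    have h3 := mul_mem this (mem_zpowers a)
    have e : b⁻¹ * a⁻¹ * b⁻¹⁻¹ * a = b⁻¹ * a⁻¹ * b * a := by group
    rwa [e] at h3
  have hcb : c ∈ zpowers b := by
    rw [hc]
    have := h1 a⁻¹ b
    have h3 := mul_mem (inv_mem (mem_zpowers b)) this
    have e : b⁻¹ * (a⁻¹ * b * a⁻¹⁻¹) = b⁻¹ * a⁻¹ * b * a := by group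
    rwa [e] at h3
  have hcomm : ∀ {k x : L}, x ∈ zpowers k → x * k = k * x := by
    intro k x hx
    obtain ⟨m, rfl⟩ := mem_zpowers_iff.1 hx
    exact ((Commute.refl k).zpow_left m).eq
  have hca' := hcomm hca
  have hcb' := hcomm hcb
  have hc1 : c ≠ 1 := by
    intro h
    rw [h, mul_one] at hba
    exact hab hba.symm
  have hα0 : α ≠ 0 := by
    rintro rfl
    rw [pow_zero, orderOf_eq_one_iff] at ha
    rw [ha] at hab; simp at hab
  have hβ0 : β ≠ 0 := by
    rintro rfl
    rw [pow_zero, orderOf_eq_one_iff] at hb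
    rw [hb] at hab; simp at hab
  obtain ⟨α, rfl⟩ := Nat.exists_eq_succ_of_ne_zero hα0
  obtain ⟨β, rfl⟩ := Nat.exists_eq_succ_of_ne_zero hβ0
  have hap : a ^ p * b = b * a ^ p := by
    apply IH
    have : orderOf (a ^ p) < orderOf a := by
      have h3 : orderOf (a ^ p) ∣ p ^ α := by
        apply orderOf_dvd_of_pow_eq_one
        rw [← pow_mul, ← pow_succ', ← ha, pow_orderOf_eq_one]
      have h4 := Nat.le_of_dvd (pow_pos hp.pos _) h3
      rw [ha]
      exact lt_of_le_of_lt h4 (Nat.pow_lt_pow_right hp.one_lt (Nat.lt_succ_self α))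
    omega
  have hcp : c ^ p = 1 := by
    have h3 := move_pow hba hca' p
    rw [← hap] at h3
    exact (mul_eq_left.1 h3.symm)
  have oc : orderOf c = p := by
    have := Fact.mk hp
    exact orderOf_eq_prime hcp hc1
  -- elements of order `p`
  have hca0 := mem_zp_of_pow hp ha hca hcp
  have hcb0 := mem_zp_of_pow hp hb hcb hcp
  have ob0 : orderOf (b ^ p ^ β) = p := by
    rw [orderOf_pow' b (pow_pos hp.pos _).ne', hb, Nat.gcd_eq_right (pow_dvd_pow p (Nat.le_succ β)),
      Nat.pow_div (Nat.le_succ β) hp.pos]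
    have : β.succ - β = 1 := by omega
    rw [this, pow_one]
  have hzb : zpowers c = zpowers (b ^ p ^ β) := by
    apply Subgroup.eq_of_le_of_card_ge (zpowers_le.2 hcb0)
    rw [Nat.card_zpowers, Nat.card_zpowers, oc, ob0]
  have hb0 : (b ^ p ^ β)⁻¹ ∈ zpowers (a ^ p ^ α) := by
    apply inv_mem
    have h3 : b ^ p ^ β ∈ zpowers c := by rw [hzb]; exact mem_zpowers _
    exact (zpowers_le.2 hca0) h3
  rw [mem_zpowers_iff_mem_range_orderOf] at hb0
  obtain ⟨j, _, hj⟩ := Finset.mem_image.1 hb0
  obtain ⟨m, hm⟩ : ∃ m, m = j * p ^ (α - β) := ⟨_, rfl⟩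
  have hxn : (a ^ m) ^ p ^ β = (b ^ p ^ β)⁻¹ := by
    rw [← hj, ← pow_mul, ← pow_mul, hm, mul_assoc, ← pow_add, mul_comm]
    congr 3; omega
  have hbx : b * a ^ m = a ^ m * b * c ^ m := move_pow hba hca' m
  have hdx : c ^ m * a ^ m = a ^ m * c ^ m :=
    (((show Commute c a from hca').pow_left m).pow_right m).eq
  have hdb : c ^ m * b = b * c ^ m := ((show Commute c b from hcb').pow_left m).eq
  have hpow := mul_pow_class hbx hdx hdb (p ^ β)
  rw [hxn, inv_mul_cancel, one_mul, ← pow_mul] at hpow
  -- the divisibility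
  have hdiv : p ∣ m * (p ^ β).choose 2 := by
    rcases Nat.eq_zero_or_pos β with h0 | h0
    · exfalso
      subst h0
      have h3 : b ∈ zpowers c := by rw [hzb]; simp
      have h4 : b ∈ zpowers a := (zpowers_le.2 hca) h3
      exact hab (hcomm h4).symm
    · rcases hp.eq_two_or_odd' with h2' | hodd
      · subst h2'
        by_cases hαβ : β < α
        · rw [hm]
          obtain ⟨e, he⟩ : ∃ e, α - β = e + 1 := ⟨α - β - 1, by omega⟩
          rw [he, pow_succ]
          exact Dvd.dvd.mul_right (Dvd.dvd.mul_left (Dvd.intro_left _ rfl) _) _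
        · have hαβ' : α = β := by omega
          by_cases hβ1 : β = 1
          · exfalso
            subst hαβ'
            subst hβ1
            apply hab
            apply h2
            · have h3 : orderOf (a ^ 2) = 2 := by
                rw [orderOf_pow' a (by norm_num), ha]; norm_num
              rw [← pow_two]; exact h3
            · have h3 : orderOf (a ^ 2) = 2 := by
                rw [orderOf_pow' a (by norm_num), ha]; norm_num
              have h4 : zpowers c = zpowers (a ^ 2) := by
                apply Subgroup.eq_of_le_of_card_ge (zpowers_le.2 (by simpa using hca0))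
                rw [Nat.card_zpowers, Nat.card_zpowers, oc, h3]
              have h5 : a ^ 2 ∈ zpowers c := by rw [h4]; exact mem_zpowers _
              have h6 : b ^ 2 ∈ zpowers c := by rw [hzb]; simpa using mem_zpowers (b ^ 2)
              have h7 : ∀ x ∈ zpowers c, x = 1 ∨ x = c := by
                intro x hx
                obtain ⟨n, rfl⟩ := mem_zpowers_iff.1 hx
                have hcc : c * c = 1 := by rw [← pow_two]; exact hcp
                rcases Int.even_or_odd n with ⟨k, rfl⟩ | ⟨k, rfl⟩
                · left; rw [← two_mul, zpow_mul, zpow_two, hcc, one_zpow]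
                · right; rw [zpow_add, zpow_mul, zpow_two, hcc, one_zpow, one_mul, zpow_one]
              have h8 : orderOf (b ^ 2) = 2 := by simpa using ob0
              rw [← pow_two, ← pow_two]
              rcases h7 _ h5 with h9 | h9 <;> rcases h7 _ h6 with h10 | h10
              · rw [h9, h10]
              · rw [h9, orderOf_one] at h3; omega
              · rw [h10, orderOf_one] at h8; omega
              · rw [h9, h10]
          · apply Dvd.dvd.mul_left
            obtain ⟨e, he⟩ : ∃ e, β = e + 2 := ⟨β - 2, by omega⟩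
            rw [he, Nat.choose_two_right]
            have : 2 ^ (e + 2) * (2 ^ (e + 2) - 1) = 2 * (2 * (2 ^ e * (2 ^ (e + 2) - 1))) := by
              rw [pow_add]; ring
            rw [this, Nat.mul_div_cancel_left _ (by norm_num)]
            exact Dvd.intro _ rfl
      · apply Dvd.dvd.mul_left
        obtain ⟨e, he⟩ : ∃ e, β = e + 1 := ⟨β - 1, by omega⟩
        rw [Nat.choose_two_right]
        have hdvd : p ∣ p ^ β * (p ^ β - 1) := by
          rw [he, pow_succ]
          exact Dvd.dvd.mul_right (Dvd.intro_left _ rfl) _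
        have heven : 2 ∣ p ^ β * (p ^ β - 1) := by
          have : Odd (p ^ β) := hodd.pow
          obtain ⟨k, hk⟩ := this
          rw [hk, Nat.add_sub_cancel]
          exact Dvd.dvd.mul_left (Dvd.intro _ rfl) _
        obtain ⟨k, hk⟩ := heven
        rw [hk, Nat.mul_div_cancel_left _ (by norm_num)]
        rw [hk] at hdvd
        rcases hp.dvd_mul.1 hdvd with h3 | h3
        · exfalso
          have h4 := (Nat.prime_dvd_prime_iff_eq hp Nat.prime_two).1 h3
          rw [h4] at hodd
          exact absurd hodd (by decide)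
        · exact h3
  have hone : (a ^ m * b) ^ p ^ β = 1 := by
    rw [hpow]
    obtain ⟨k, hk⟩ := hdiv
    rw [hk, pow_mul, hcp, one_pow]
  -- the contradiction
  have hlt : orderOf (a ^ m * b) < orderOf b := by
    have h4 := Nat.le_of_dvd (pow_pos hp.pos _) (orderOf_dvd_of_pow_eq_one hone)
    rw [hb]
    exact lt_of_le_of_lt h4 (Nat.pow_lt_pow_right hp.one_lt (Nat.lt_succ_self β))
  have h5 := IH a (a ^ m * b) (by omega)
  apply hab
  have h6 : a ^ m * (a * b) = a ^ m * (b * a) := by
    calc a ^ m * (a * b) = (a ^ m * a) * b := by group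
      _ = a * (a ^ m * b) := by rw [← pow_succ, pow_succ']; group
      _ = (a ^ m * b) * a := h5
      _ = a ^ m * (b * a) := by group
  exact mul_left_cancel h6

/-- finite groups with all cyclic subgroups normal and no quaternion subgroups are abelian -/
theorem comm (h1 : ∀ a b : L, a * b * a⁻¹ ∈ zpowers b)
    (h2 : ∀ y1 y2 : L, orderOf (y1 * y1) = 2 → y1 * y1 = y2 * y2 → y1 * y2 = y2 * y1)
    (a b : L) : a * b = b * a := by
  classical
  obtain ⟨n, hn⟩ : ∃ n, orderOf a + orderOf b = n := ⟨_, rfl⟩
  induction n using Nat.strong_induction_on generalizing a b with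
  | _ n ih =>
    by_contra hab
    have IH : ∀ a' b' : L, orderOf a' + orderOf b' < orderOf a + orderOf b → a' * b' = b' * a' := by
      intro a' b' h
      exact ih _ (by omega) a' b' rfl
    obtain ⟨c, hc⟩ : ∃ c, c = b⁻¹ * a⁻¹ * b * a := ⟨_, rfl⟩
    have hba : b * a = a * b * c := by rw [hc]; group
    have hca : c ∈ zpowers a := by
      rw [hc]
      have := h1 b⁻¹ a⁻¹
      rw [zpowers_inv] at this
      have h3 := mul_mem this (mem_zpowers a)
      have e : b⁻¹ * a⁻¹ * b⁻¹⁻¹ * a = b⁻¹ * a⁻¹ * b * a := by group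
      rwa [e] at h3
    have hcb : c ∈ zpowers b := by
      rw [hc]
      have := h1 a⁻¹ b
      have h3 := mul_mem (inv_mem (mem_zpowers b)) this
      have e : b⁻¹ * (a⁻¹ * b * a⁻¹⁻¹) = b⁻¹ * a⁻¹ * b * a := by group
      rwa [e] at h3
    have hcomm : ∀ {k x : L}, x ∈ zpowers k → x * k = k * x := by
      intro k x hx
      obtain ⟨m, rfl⟩ := mem_zpowers_iff.1 hx
      exact ((Commute.refl k).zpow_left m).eq
    have hca' := hcomm hca
    have hcb' := hcomm hcb
    have hc1 : c ≠ 1 := by
      intro h
      rw [h, mul_one] at hba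
      exact hab hba.symm
    have hlt : ∀ (x : L) (q : ℕ), q.Prime → q ∣ orderOf x → orderOf (x ^ q) < orderOf x := by
      intro x q hq hqx
      rw [orderOf_pow' x hq.ne_zero, Nat.gcd_eq_right hqx]
      exact Nat.div_lt_self (orderOf_pos x) hq.one_lt
    have hqa : ∀ q : ℕ, q.Prime → q ∣ orderOf a → orderOf c = q := by
      intro q hq hqa
      have h3 := IH (a ^ q) b (by have := hlt a q hq hqa; omega)
      have h4 := move_pow hba hca' q
      rw [← h3] at h4
      have h5 := mul_eq_left.1 h4.symm
      have := Fact.mk hq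
      exact orderOf_eq_prime h5 hc1
    have hqb : ∀ q : ℕ, q.Prime → q ∣ orderOf b → orderOf c = q := by
      intro q hq hqb
      have h3 := IH a (b ^ q) (by have := hlt b q hq hqb; omega)
      have hab' : a * b = b * a * c⁻¹ := by rw [hba]; group
      have h4 := move_pow (a := b) (b := a) (c := c⁻¹) hab'
        ((Commute.inv_left (show Commute c b from hcb')).eq) q
      rw [← h3] at h4
      have h5 := mul_eq_left.1 h4.symm
      rw [inv_pow, inv_eq_one] at h5
      have := Fact.mk hq
      exact orderOf_eq_prime h5 hc1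
    have ha1 : orderOf a ≠ 1 := by
      rw [ne_eq, orderOf_eq_one_iff]; rintro rfl; simp at hab
    obtain ⟨p, hp, hpa⟩ := Nat.exists_prime_and_dvd ha1
    have hcp := hqa p hp hpa
    obtain ⟨α, hα⟩ : ∃ α, orderOf a = p ^ α :=
      ⟨_, Nat.eq_prime_pow_of_unique_prime_dvd (orderOf_pos a).ne' (fun {q} hq hqd => by
        rw [← hcp, hqa q hq hqd])⟩
    obtain ⟨β, hβ⟩ : ∃ β, orderOf b = p ^ β :=
      ⟨_, Nat.eq_prime_pow_of_unique_prime_dvd (orderOf_pos b).ne' (fun {q} hq hqd => by
        rw [← hcp, hqb q hq hqd])⟩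
    rcases le_total β α with h | h
    · exact step h1 h2 IH hp hα hβ h hab
    · exact step h1 h2 (fun a' b' h' => IH a' b' (by omega)) hp hβ hα h (fun h' => hab h'.symm)

end Cfsg.Agent.Lib.DedekindAb
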