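import Cfsg.Agent.Lib.UnramRing

/-!
# A valuation ring dominating the local ring at `M` (helper78)
-/

namespace Cfsg.Agent.Lib.DomVal

open Cfsg Cfsg.Agent.Lib.BlockRing

theorem exists_dom {p : ℕ} {M : Ideal AlgInt} (hM : IsPModular p M) :
    ∃ B : ValuationSubring ℂ, (∀ z, MemLocalRing M z → z ∈ B) ∧
      (∀ z, MemLocalRing M z → (z ∈ B.nonunits ↔ MemLocalIdeal M z)) := by
  haveI := isPrime hM
  have hmax := hM.2.1
  let A : Subring ℂ := (integralClosure ℤ ℂ).toSubring
  let f : A →+* AlgInt :=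
    { toFun := fun x => ⟨x, x.2⟩
      map_one' := rfl
      map_mul' := fun _ _ => rfl
      map_zero' := rfl
      map_add' := fun _ _ => rfl }
  let I : Ideal A := M.comap f
  have hI : I ≠ ⊤ := by
    intro h
    have h1 : (1 : A) ∈ I := by rw [h]; exact Submodule.mem_top
    exact one_notMem (M := M) h1
  obtain ⟨B, hB1, hB2⟩ := Ideal.image_subset_nonunits_valuationSubring I hI
  have hA : ∀ a : AlgInt, (a : ℂ) ∈ B := fun a => hB1 a.2
  have hMn : ∀ a ∈ M, (a : ℂ) ∈ B.nonunits := fun a ha => hB2 ⟨⟨a, a.2⟩, ha, rfl⟩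
  have hunit : ∀ b : AlgInt, b ∉ M → (b : ℂ) ∉ B.nonunits := by
    intro b hb h
    obtain ⟨c, hc⟩ := hmax.exists_inv hb
    obtain ⟨m, hm, hcm⟩ := hc
    have h1 : (c : ℂ) * b + m = 1 := by
      have := congrArg (fun x : AlgInt => (x : ℂ)) hcm
      simpa using this
    rw [ValuationSubring.mem_nonunits_iff] at h
    have h2 := hMn m hm
    rw [ValuationSubring.mem_nonunits_iff] at h2
    have h3 : B.valuation ((c : ℂ) * b) < 1 := by
      rw [map_mul]
      exact lt_of_le_of_lt (mul_le_of_le_one_left' ((B.valuation_le_one_iff _).mpr (hA c))) h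
    have h4 := Valuation.map_add_lt B.valuation h3 h2
    rw [h1, map_one] at h4
    exact lt_irrefl _ h4
  have hinv : ∀ b : AlgInt, b ∉ M → B.valuation (b : ℂ) = 1 := by
    intro b hb
    apply le_antisymm ((B.valuation_le_one_iff _).mpr (hA b))
    have h1 := hunit b hb
    rw [ValuationSubring.mem_nonunits_iff, not_lt] at h1
    exact h1
  refine ⟨B, ?_, ?_⟩
  · rintro z ⟨a, b, hb, rfl⟩
    rw [← B.valuation_le_one_iff, map_div₀, hinv b hb, div_one]
    exact (B.valuation_le_one_iff _).mpr (hA a)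
  · rintro z ⟨a, b, hb, rfl⟩
    rw [ValuationSubring.mem_nonunits_iff, map_div₀, hinv b hb, div_one]
    constructor
    · intro h
      by_cases ha : a ∈ M
      · exact ⟨a, b, ha, hb, rfl⟩
      · rw [hinv a ha] at h
        exact absurd h (lt_irrefl _)
    · rintro h
      by_cases ha : a ∈ M
      · exact (ValuationSubring.mem_nonunits_iff _).mp (hMn a ha)
      · exfalso
        have h1 : MemLocalIdeal M (a : ℂ) := by
          have h2 : (a : ℂ) = ((a : ℂ) / b) * b := by
            field_simp [coe_ne_zero hb]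
          rw [h2]
          exact idl_mul_right h (loc_algInt b)
        exact ha (idl_coe_iff.mp h1)

end Cfsg.Agent.Lib.DomVal
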