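import Mathlib

/-!
# Sylow subgroups of prime order: the centralizer, the normalizer (helper78)
-/

namespace Cfsg.Agent.Lib.H78Syl

open Subgroup

variable {G : Type*} [Group G] [Finite G] {p : ℕ} [Fact p.Prime] (P : Sylow p G)

/-- centralizer -/
abbrev Ce (P : Sylow p G) : Subgroup G := Subgroup.centralizer ((P : Subgroup G) : Set G)
/-- normalizer -/
abbrev No (P : Sylow p G) : Subgroup G := Subgroup.normalizer ((P : Subgroup G) : Set G)

omit [Finite G] [Fact p.Prime] in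
theorem Ce_le_No : Ce P ≤ No P := by
  intro g hg
  rw [mem_normalizer_iff]
  intro h
  constructor
  · intro hh
    have := mem_centralizer_iff.mp hg h hh
    rw [← this, mul_inv_cancel_right]; exact hh
  · intro hh
    have h1 := mem_centralizer_iff.mp hg _ hh
    have h2 : h = g * h * g⁻¹ := by
      have h3 : g * h * g⁻¹ * g = g * (g * h * g⁻¹) := h1
      rw [inv_mul_cancel_right] at h3
      have h4 : h = g * h * g⁻¹ := mul_left_cancel h3
      exact h4
    rw [h2]; exact hh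

variable {P}

theorem isCyclic (hP : Nat.card P = p) : IsCyclic (P : Subgroup G) := isCyclic_of_prime_card hP

theorem le_Ce (hP : Nat.card P = p) : (P : Subgroup G) ≤ Ce P := by
  haveI := isCyclic hP
  letI : CommGroup (P : Subgroup G) := IsCyclic.commGroup
  intro g hg
  rw [mem_centralizer_iff]
  intro h hh
  exact congrArg Subtype.val (mul_comm (⟨h, hh⟩ : (P : Subgroup G)) ⟨g, hg⟩)

theorem exists_V (hP : Nat.card P = p) : ∃ V : Subgroup G,
    (∀ g, g ∈ V ↔ g ∈ Ce P ∧ ¬ p ∣ orderOf g) ∧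
    (∀ c ∈ Ce P, ∃ d ∈ P, ∃ v ∈ V, c = d * v) ∧ ¬ p ∣ Nat.card V := by
  have hPC := le_Ce hP
  let Q : Sylow p (Ce P) := P.subtype hPC
  have hcen : ∀ q ∈ Q, ∀ c : Ce P, c * q = q * c := by
    intro q hq c
    apply Subtype.ext
    exact (mem_centralizer_iff.mp c.2 q hq).symm
  have hN : Subgroup.normalizer ((Q : Subgroup (Ce P)) : Set (Ce P)) ≤
      Subgroup.centralizer ((Q : Subgroup (Ce P)) : Set (Ce P)) := by
    intro c _
    rw [mem_centralizer_iff]
    intro q hq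
    exact (hcen q hq c).symm
  have hcompl := MonoidHom.ker_transferSylow_isComplement' Q hN
  have hndvd := MonoidHom.not_dvd_card_ker_transferSylow Q hN
  set K := (MonoidHom.transferSylow Q hN).ker
  refine ⟨K.map (Ce P).subtype, ?_, ?_, ?_⟩
  · intro g
    constructor
    · rintro ⟨c, hc, rfl⟩
      refine ⟨c.2, fun h => hndvd (h.trans ?_)⟩
      have h1 : orderOf ((Ce P).subtype c) = orderOf (⟨c, hc⟩ : K) := by
        rw [← Subgroup.orderOf_coe]
        exact Subgroup.orderOf_coe c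
      rw [h1]
      exact orderOf_dvd_natCard _
    · rintro ⟨hg, ho⟩
      refine ⟨⟨g, hg⟩, ?_, rfl⟩
      show MonoidHom.transferSylow Q hN ⟨g, hg⟩ = 1
      set f := MonoidHom.transferSylow Q hN
      obtain ⟨k, hk⟩ := (IsPGroup.iff_orderOf.mp Q.isPGroup') (f ⟨g, hg⟩)
      have h1 : orderOf (f ⟨g, hg⟩) ∣ orderOf g := by
        rw [← Subgroup.orderOf_mk (H := Ce P) g hg]
        exact orderOf_map_dvd _ _
      rw [hk] at h1
      rcases Nat.eq_zero_or_pos k with h0 | h0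
      · rw [h0, pow_zero] at hk
        exact orderOf_eq_one_iff.mp hk
      · exact absurd ((dvd_pow_self p h0.ne').trans h1) ho
  · intro c hc
    obtain ⟨⟨a, b⟩, hab⟩ := hcompl.2 ⟨c, hc⟩
    have hab' : (a : Ce P) * (b : Ce P) = ⟨c, hc⟩ := hab
    refine ⟨((b : Ce P) : G), b.2, ((a : Ce P) : G), ⟨a, a.2, rfl⟩, ?_⟩
    have h1 := congrArg Subtype.val (hcen _ b.2 a)
    have h2 := congrArg Subtype.val hab'
    rw [h1] at h2
    exact h2.symm
  · rw [Subgroup.card_subtype]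
    exact hndvd

variable {V : Subgroup G}

omit [Finite G] [Fact p.Prime] in
theorem conj_mem_Ce {n : G} (hn : n ∈ No P) {c : G} (hc : c ∈ Ce P) : n * c * n⁻¹ ∈ Ce P := by
  rw [mem_centralizer_iff]
  intro h hh
  have h1 : n⁻¹ * h * n ∈ (P : Subgroup G) := by
    have := (mem_normalizer_iff.mp ((No P).inv_mem hn) h).mp hh
    rwa [inv_inv] at this
  have h2 := mem_centralizer_iff.mp hc _ h1
  have h3 : h * (n * c * n⁻¹) = n * ((n⁻¹ * h * n) * c) * n⁻¹ := by group
  rw [h3, h2]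
  group

omit [Finite G] [Fact p.Prime] in
theorem conj_mem_V (hV : ∀ g, g ∈ V ↔ g ∈ Ce P ∧ ¬ p ∣ orderOf g) {n : G} (hn : n ∈ No P) {v : G}
    (hv : v ∈ V) : n * v * n⁻¹ ∈ V := by
  rw [hV] at hv ⊢
  refine ⟨conj_mem_Ce hn hv.1, ?_⟩
  have : orderOf (n * v * n⁻¹) = orderOf v :=
    orderOf_injective (MulAut.conj n).toMonoidHom (MulAut.conj n).injective v
  rw [this]
  exact hv.2

omit [Finite G] [Fact p.Prime] in
theorem conj_mem_P {n : G} (hn : n ∈ No P) {v : G} (hv : v ∈ P) : n * v * n⁻¹ ∈ P :=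
  (mem_normalizer_iff.mp hn v).mp hv

theorem mem_No_of_conj (hP : Nat.card P = p)
    (hV : ∀ g, g ∈ V ↔ g ∈ Ce P ∧ ¬ p ∣ orderOf g)
    (hCV : ∀ c ∈ Ce P, ∃ d ∈ P, ∃ v ∈ V, c = d * v) {g : G}
    (h : ∀ d ∈ P, g⁻¹ * d * g ∈ Ce P) : g ∈ No P := by
  have h1 : g⁻¹ ∈ No P := by
    apply Subgroup.mem_normalizer_fintype
    intro d hd
    have hc := h d hd
    obtain ⟨d', hd', v, hv, hdv⟩ := hCV _ hc
    rw [inv_inv]
    have hp1 : ∀ x ∈ P, x ^ p = 1 := by
      intro x hx
      have h2 : (⟨x, hx⟩ : (P : Subgroup G)) ^ Nat.card P = 1 := pow_card_eq_one'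
      rw [hP] at h2
      exact congrArg Subtype.val h2
    have h2 : (g⁻¹ * d * g) ^ p = 1 := by
      have h3 : (g⁻¹ * d * g) ^ p = g⁻¹ * d ^ p * g := by
        have := map_pow (MulAut.conj g⁻¹) d p
        simp only [MulAut.conj_apply, inv_inv] at this
        exact this.symm
      rw [h3, hp1 d hd, mul_one, inv_mul_cancel]
    have hcomm : Commute d' v := by
      have := mem_centralizer_iff.mp ((hV v).mp hv).1 d' hd'
      exact this
    rw [hdv, hcomm.mul_pow, hp1 d' hd', one_mul] at h2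
    have h3 : v = 1 := by
      have h4 := orderOf_dvd_of_pow_eq_one h2
      rcases (Nat.dvd_prime Fact.out).mp h4 with h5 | h5
      · exact orderOf_eq_one_iff.mp h5
      · exact absurd (h5 ▸ dvd_rfl) ((hV v).mp hv).2
    rw [hdv, h3, mul_one]
    exact hd'
  have := (No P).inv_mem h1
  rwa [inv_inv] at this

omit [Finite G] [Fact p.Prime] in
theorem normal_sub {T : Subgroup G} (hTN : T ≤ No P) : ((Ce P).subgroupOf T).Normal := by
  constructor
  intro c hc t
  exact conj_mem_Ce (hTN t.2) hc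

theorem exists_gen {T : Subgroup G} (hP : Nat.card P = p) (hCT : Ce P ≤ T) (hTN : T ≤ No P)
    [((Ce P).subgroupOf T).Normal] :
    (Ce P).relIndex T ∣ p - 1 ∧ IsCyclic (T ⧸ (Ce P).subgroupOf T) ∧
    ∃ g0 ∈ T, g0 ^ (Ce P).relIndex T ∈ Ce P ∧ T ≤ Subgroup.closure (((Ce P : Subgroup G) : Set G) ∪ {g0}) := by
  haveI := isCyclic hP
  let φ : T →* MulAut (P : Subgroup G) :=
    ((P : Subgroup G).normalizerMonoidHom).comp (Subgroup.inclusion hTN)
  have hker : φ.ker = (Ce P).subgroupOf T := by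
    ext t
    have h1 : t ∈ φ.ker ↔ Subgroup.inclusion hTN t ∈ ((P : Subgroup G).normalizerMonoidHom).ker := Iff.rfl
    rw [h1, Subgroup.normalizerMonoidHom_ker]
    rfl
  haveI hcyc0 : IsCyclic (MulAut (P : Subgroup G)) := by
    have e := IsCyclic.mulAutMulEquiv (P : Subgroup G)
    have h1 : Nat.card (P : Subgroup G) = p := hP
    rw [h1] at e
    exact isCyclic_of_surjective e.symm.toMonoidHom e.symm.surjective
  have hcardMul : Nat.card (MulAut (P : Subgroup G)) = p - 1 := by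
    have h1 := IsCyclic.card_mulAut (P : Subgroup G)
    have h2 : Nat.card (P : Subgroup G) = p := hP
    rw [h1, h2, Nat.totient_prime Fact.out]
  haveI hcyc : IsCyclic φ.range := inferInstance
  have hindex : (Ce P).relIndex T = Nat.card φ.range := by
    rw [Subgroup.relIndex, ← hker, Subgroup.index_ker]
  have hdvd : (Ce P).relIndex T ∣ p - 1 := by
    rw [hindex, ← hcardMul]
    exact Subgroup.card_subgroup_dvd_card _
  refine ⟨hdvd, ?_, ?_⟩
  · have e : T ⧸ φ.ker ≃* φ.range := QuotientGroup.quotientKerEquivRange φ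
    haveI h1 : IsCyclic (T ⧸ φ.ker) := isCyclic_of_surjective e.symm.toMonoidHom e.symm.surjective
    have e2 : T ⧸ φ.ker ≃* T ⧸ (Ce P).subgroupOf T := QuotientGroup.quotientMulEquivOfEq hker
    exact isCyclic_of_surjective e2.toMonoidHom e2.surjective
  · obtain ⟨⟨x0, hx0⟩, hgen⟩ := hcyc.exists_generator
    obtain ⟨t0, ht0⟩ := hx0
    subst ht0
    have hmem : ∀ t : T, φ t = 1 → (t : G) ∈ Ce P := by
      intro t ht
      have h1 : t ∈ φ.ker := ht
      rw [hker] at h1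
      exact h1
    refine ⟨t0, t0.2, ?_, ?_⟩
    · have h3 : φ (t0 ^ (Ce P).relIndex T) = 1 := by
        rw [map_pow, hindex]
        have h2 : (⟨φ t0, ⟨t0, rfl⟩⟩ : φ.range) ^ Nat.card φ.range = 1 := pow_card_eq_one'
        exact congrArg Subtype.val h2
      exact hmem _ h3
    · intro t ht
      obtain ⟨i, hi⟩ := Subgroup.mem_zpowers_iff.mp (hgen ⟨φ ⟨t, ht⟩, ⟨⟨t, ht⟩, rfl⟩⟩)
      have h1 : φ t0 ^ i = φ ⟨t, ht⟩ := congrArg Subtype.val hi
      have h2 := hmem (⟨t, ht⟩ * (t0 ^ i)⁻¹) (by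
        rw [map_mul, map_inv, map_zpow, h1, mul_inv_cancel])
      have h3 : t = (t * ((t0 : G) ^ i)⁻¹) * (t0 : G) ^ i := by rw [inv_mul_cancel_right]
      have h4 : t * ((t0 : G) ^ i)⁻¹ ∈ Ce P := h2
      have h5 : ∀ S : Set G, ∀ x ∈ S, x ∈ Subgroup.closure S := fun S x hx =>
        Subgroup.subset_closure hx
      have h6 := h5 (((Ce P : Subgroup G) : Set G) ∪ {(t0 : G)}) _ (Or.inl h4)
      have h7 := h5 (((Ce P : Subgroup G) : Set G) ∪ {(t0 : G)}) (t0 : G) (Or.inr rfl)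
      rw [h3]
      exact Subgroup.mul_mem _ h6 (Subgroup.zpow_mem _ h7 _)

end Cfsg.Agent.Lib.H78Syl
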