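import Cfsg.Agent.Lib.CharBasic

/-!
# Schur relations for matrices (helper78)
-/

namespace Cfsg.Agent.Lib.SchurMat

open Module Cfsg Cfsg.Agent.Lib.CharBasic Representation

universe u

variable {Γ : Type u} [Group Γ] {f : ℕ}

/-- the representation on column vectors -/
noncomputable def matRep {R : Type*} [CommRing R] (σ : Γ →* Matrix (Fin f) (Fin f) R) :
    Representation R Γ (Fin f → R) :=
  (Matrix.toLinAlgEquiv' : Matrix (Fin f) (Fin f) R ≃ₐ[R] _).toMonoidHom.comp σ

theorem matRep_apply {R : Type*} [CommRing R] (σ : Γ →* Matrix (Fin f) (Fin f) R) (g : Γ) :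
    matRep σ g = Matrix.toLin' (σ g) := rfl

theorem trace_matRep {R : Type*} [CommRing R] (σ : Γ →* Matrix (Fin f) (Fin f) R) (g : Γ) :
    LinearMap.trace R _ (matRep σ g) = (σ g).trace := by
  rw [matRep_apply, Matrix.trace_toLin'_eq]

theorem character_matRep (σ : Γ →* Matrix (Fin f) (Fin f) ℂ) :
    (matRep σ).character = fun g => (σ g).trace := by
  funext g
  exact trace_matRep σ g

variable [Fintype Γ]

theorem conj_sum {R : Type*} [CommRing R] (σ τ : Γ →* Matrix (Fin f) (Fin f) R)
    (A : Matrix (Fin f) (Fin f) R) (h : Γ) :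
    σ h * (∑ g, σ g * A * τ g⁻¹) = (∑ g, σ g * A * τ g⁻¹) * τ h := by
  rw [Finset.mul_sum, Finset.sum_mul]
  apply Fintype.sum_equiv (Equiv.mulLeft h)
  intro g
  simp only [Equiv.coe_mulLeft, map_mul, mul_inv_rev]
  simp only [mul_assoc]
  rw [← map_mul τ, inv_mul_cancel, map_one, mul_one]

/-- intertwiner -/
theorem intertwine_eq_smul {σ : Γ →* Matrix (Fin f) (Fin f) ℂ}
    (hσ : IsIrrCharacter Γ (fun g => (σ g).trace)) {X : Matrix (Fin f) (Fin f) ℂ}
    (hX : ∀ g, σ g * X = X * σ g) : ∃ c : ℂ, X = c • (1 : Matrix (Fin f) (Fin f) ℂ) := by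
  have h1 := classInner_character_eq_finrank (matRep σ) (matRep σ)
  rw [character_matRep, hσ.classInner_self] at h1
  have h2 : finrank ℂ (IntertwiningMap (matRep σ) (matRep σ)) = 1 := by exact_mod_cast h1.symm
  let X' : IntertwiningMap (matRep σ) (matRep σ) :=
    LinearMap.intertwiningMap_of_isIntertwiningMap _ _ (Matrix.toLin' X) (by
      intro g v
      rw [matRep_apply]
      have := congrArg (fun Y => Matrix.toLin' Y v) (hX g)
      simp only [Matrix.toLin'_mul, LinearMap.comp_apply] at this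
      exact this.symm)
  let I' : IntertwiningMap (matRep σ) (matRep σ) :=
    LinearMap.intertwiningMap_of_isIntertwiningMap _ _ LinearMap.id (by
      intro g v
      rfl)
  have hI : I' ≠ 0 := by
    intro h0
    have h3 : (LinearMap.id : (Fin f → ℂ) →ₗ[ℂ] (Fin f → ℂ)) = 0 := congrArg (fun Y => Y.toLinearMap) h0
    have h4 := h2
    have h5 : ∀ Y : IntertwiningMap (matRep σ) (matRep σ), Y = 0 := by
      intro Y
      have h6 : Y.toLinearMap = 0 := by
        rw [← LinearMap.id_comp Y.toLinearMap, h3, LinearMap.zero_comp]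
      apply IntertwiningMap.toLinearMap_injective
      exact h6
    have h7 : Subsingleton (IntertwiningMap (matRep σ) (matRep σ)) := ⟨fun a b => by rw [h5 a, h5 b]⟩
    rw [finrank_zero_of_subsingleton] at h4
    exact zero_ne_one h4
  obtain ⟨c, hc⟩ := (finrank_eq_one_iff_of_nonzero' I' hI).mp h2 X'
  refine ⟨c, ?_⟩
  have h3 : c • (LinearMap.id : (Fin f → ℂ) →ₗ[ℂ] (Fin f → ℂ)) = Matrix.toLin' X :=
    congrArg (fun Y => Y.toLinearMap) hc
  apply Matrix.toLin'.injective
  rw [← h3, map_smul, Matrix.toLin'_one]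

theorem schur_mat {σ : Γ →* Matrix (Fin f) (Fin f) ℂ}
    (hσ : IsIrrCharacter Γ (fun g => (σ g).trace)) (A : Matrix (Fin f) (Fin f) ℂ) :
    (f : ℂ) • (∑ g, σ g * A * σ g⁻¹) = ((Fintype.card Γ : ℂ) * A.trace) • (1 : Matrix (Fin f) (Fin f) ℂ) := by
  obtain ⟨c, hc⟩ := intertwine_eq_smul hσ (conj_sum σ σ A)
  have h1 := congrArg Matrix.trace hc
  rw [Matrix.trace_sum, Matrix.trace_smul, Matrix.trace_one, Fintype.card_fin, smul_eq_mul] at h1
  have h2 : ∀ g, (σ g * A * σ g⁻¹).trace = A.trace := by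
    intro g
    rw [Matrix.trace_mul_comm, ← mul_assoc, ← map_mul, inv_mul_cancel, map_one, one_mul]
  simp only [h2, Finset.sum_const, Finset.card_univ, nsmul_eq_mul] at h1
  rw [hc, smul_smul, h1, mul_comm]

theorem schur_mat_orth {σ τ : Γ →* Matrix (Fin f) (Fin f) ℂ}
    (h : classInner (fun g => (σ g).trace) (fun g => (τ g).trace) = 0)
    (A : Matrix (Fin f) (Fin f) ℂ) : (∑ g, σ g * A * τ g⁻¹) = 0 := by
  have h1 := classInner_character_eq_finrank (matRep σ) (matRep τ)
  rw [character_matRep, character_matRep, h] at h1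
  have h2 : finrank ℂ (IntertwiningMap (matRep τ) (matRep σ)) = 0 := by exact_mod_cast h1.symm
  have hX := conj_sum σ τ A
  let X' : IntertwiningMap (matRep τ) (matRep σ) :=
    LinearMap.intertwiningMap_of_isIntertwiningMap _ _ (Matrix.toLin' (∑ g, σ g * A * τ g⁻¹)) (by
      intro g v
      rw [matRep_apply, matRep_apply]
      have := congrArg (fun Y => Matrix.toLin' Y v) (hX g)
      simp only [Matrix.toLin'_mul, LinearMap.comp_apply] at this
      exact this.symm)
  have h3 : X' = 0 := by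
    have := finrank_zero_iff.mp h2
    exact Subsingleton.elim _ _
  have h4 : Matrix.toLin' (∑ g, σ g * A * τ g⁻¹) = 0 := congrArg (fun Y => Y.toLinearMap) h3
  apply Matrix.toLin'.injective
  rw [h4, map_zero]

end Cfsg.Agent.Lib.SchurMat
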