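import Cfsg.Prelude

/-!
# Integral forms over valuation rings (helper78)
-/

namespace Cfsg.Agent.Lib.IntForm

open Module

theorem free_of_valuationRing {A : Type*} [CommRing A] [IsDomain A] [ValuationRing A]
    {K V : Type*} [Field K] [Algebra A K] [IsFractionRing A K] [AddCommGroup V] [Module K V]
    [Module A V] [IsScalarTower A K V] (U : Submodule A V) [Module.Finite A U] : Module.Free A U := by
  have h1 : Module.Flat A U := by
    rw [Module.Flat.flat_iff_torsion_eq_bot_of_isBezout]
    rw [eq_bot_iff]
    rintro ⟨u, hu⟩ h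
    rw [Submodule.mem_torsion_iff] at h
    obtain ⟨a, ha⟩ := h
    have h2 : (a : A) • u = 0 := congrArg Subtype.val ha
    rw [← algebraMap_smul K, smul_eq_zero] at h2
    rw [Submodule.mem_bot]
    rcases h2 with h2 | h2
    · exfalso
      have h3 := IsFractionRing.injective A K (h2.trans (map_zero _).symm)
      exact nonZeroDivisors.ne_zero a.2 h3
    · exact Subtype.ext h2
  exact Module.free_of_flat_of_isLocalRing

theorem exists_form {A : Type*} [CommRing A] [IsDomain A] [ValuationRing A]
    {K : Type*} [Field K] [Algebra A K] [IsFractionRing A K] {Γ : Type*} [Group Γ] [Finite Γ]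
    {n : ℕ} (ρ : Representation K Γ (Fin n → K)) :
    ∃ a : Γ →* Matrix (Fin n) (Fin n) A, ∀ g, algebraMap A K (a g).trace = LinearMap.trace K _ (ρ g) := by
  classical
  let U : Submodule A (Fin n → K) :=
    Submodule.span A (Set.range fun q : Γ × Fin n => ρ q.1 (Pi.single q.2 1))
  haveI : Module.Finite A U := Module.Finite.span_of_finite A (Set.finite_range _)
  haveI : Module.Free A U := free_of_valuationRing (K := K) U
  have hU : ∀ g, ∀ u ∈ U, ρ g u ∈ U := by
    intro g u hu
    induction hu using Submodule.span_induction with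
    | mem x hx =>
      obtain ⟨⟨h, i⟩, rfl⟩ := hx
      refine Submodule.subset_span ⟨(g * h, i), ?_⟩
      simp only [map_mul, Module.End.mul_apply]
    | zero => rw [map_zero]; exact U.zero_mem
    | add x y _ _ hx hy => rw [map_add]; exact U.add_mem hx hy
    | smul c x _ hx =>
      rw [← algebraMap_smul K c x, map_smul, algebraMap_smul]
      exact U.smul_mem c hx
  let ρU : Γ →* Module.End A U :=
    { toFun := fun g => ((ρ g).restrictScalars A).restrict (hU g)
      map_one' := by
        ext u : 2
        show ρ 1 (u : Fin n → K) = u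
        rw [map_one]; rfl
      map_mul' := fun g h => by
        ext u : 2
        show ρ (g * h) (u : Fin n → K) = ρ g (ρ h u)
        rw [map_mul]; rfl }
  let ι := Module.Free.ChooseBasisIndex A U
  let b : Basis ι A U := Module.Free.chooseBasis A U
  have hli : LinearIndependent K (fun i => (b i : Fin n → K)) := by
    rw [← LinearIndependent.iff_fractionRing A K]
    exact b.linearIndependent.map' U.subtype (LinearMap.ker_eq_bot.mpr U.subtype_injective)
  have hsp : ⊤ ≤ Submodule.span K (Set.range fun i => (b i : Fin n → K)) := by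
    have h1 : ∀ u ∈ U, u ∈ Submodule.span K (Set.range fun i => (b i : Fin n → K)) := by
      intro u hu
      have h2 := b.sum_repr ⟨u, hu⟩
      have h3 : u = ∑ i, b.repr ⟨u, hu⟩ i • (b i : Fin n → K) := by
        have := congrArg Subtype.val h2
        rw [Submodule.coe_sum] at this
        exact this.symm
      rw [h3]
      refine Submodule.sum_mem _ fun i _ => ?_
      rw [← algebraMap_smul K]
      exact Submodule.smul_mem _ _ (Submodule.subset_span ⟨i, rfl⟩)
    intro v _
    rw [← Finset.univ_sum_single v]
    refine Submodule.sum_mem _ fun i _ => ?_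
    have h4 : Pi.single i (v i) = v i • (Pi.single i 1 : Fin n → K) := by
      rw [← Pi.single_smul, smul_eq_mul, mul_one]
    rw [h4]
    refine Submodule.smul_mem _ _ (h1 _ (Submodule.subset_span ⟨(1, i), ?_⟩))
    simp only [map_one, Module.End.one_apply]
  let bK : Basis ι K (Fin n → K) := Basis.mk hli hsp
  have hcard : Fintype.card ι = n := by
    have := Module.finrank_eq_card_basis bK
    rw [Module.finrank_fin_fun] at this
    exact this.symm
  let eι : ι ≃ Fin n := Fintype.equivFinOfCardEq hcard
  let b' : Basis (Fin n) A U := b.reindex eι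
  let bK' : Basis (Fin n) K (Fin n → K) := bK.reindex eι
  have hbb : ∀ i, bK' i = (b' i : Fin n → K) := by
    intro i
    simp only [bK', b', Basis.reindex_apply, bK, Basis.mk_apply]
  refine ⟨(LinearMap.toMatrixAlgEquiv b').toMonoidHom.comp ρU, fun g => ?_⟩
  rw [LinearMap.trace_eq_matrix_trace K bK']
  simp only [Matrix.trace, map_sum, Matrix.diag_apply]
  refine Finset.sum_congr rfl fun i _ => ?_
  show algebraMap A K (LinearMap.toMatrix b' b' (ρU g) i i) = _
  rw [LinearMap.toMatrix_apply, LinearMap.toMatrix_apply]
  have h1 : ρ g (bK' i) = ∑ j, algebraMap A K (b'.repr (ρU g (b' i)) j) • bK' j := by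
    have h2 : (ρU g (b' i) : Fin n → K) = ρ g (bK' i) := by rw [hbb]; rfl
    rw [← h2]
    conv_lhs => rw [← b'.sum_repr (ρU g (b' i))]
    rw [Submodule.coe_sum]
    refine Finset.sum_congr rfl fun j _ => ?_
    rw [Submodule.coe_smul, hbb, algebraMap_smul]
  rw [h1, Basis.repr_sum_self]

end Cfsg.Agent.Lib.IntForm
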