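import Cfsg.Agent.Lib.UnramRing
import Cfsg.Agent.Lib.IntForm
import Cfsg.Agent.Lib.Realize

/-!
# Characters of `p'`-groups over the unramified ring, roots of unity modulo `M` (helper78)
-/

namespace Cfsg.Agent.Lib.UnramForm

open Module Cfsg Cfsg.Agent.Lib.BlockRing Cfsg.Agent.Lib.UnramRing Cfsg.Agent.Lib.IntForm
  Cfsg.Agent.Lib.Realize

universe u

variable {p : ℕ} {M : Ideal AlgInt} [M.IsPrime]

theorem exists_matrix_form (hM : IsPModular p M) {Q : Type u} [Group Q] [Finite Q]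
    (hQ : ¬ p ∣ Nat.card Q) {χ : Q → ℂ} (hχ : IsCharacter Q χ) :
    ∃ (n : ℕ) (a : Q →* Matrix (Fin n) (Fin n) (unramLoc p M)), ∀ g, (((a g).trace : unramLoc p M) : ℂ) = χ g := by
  haveI := isDVR hM
  let R := unramLoc p M
  let K := FractionRing R
  letI : Algebra K ℂ := FractionRing.liftAlgebra R ℂ
  haveI : IsScalarTower R K ℂ := FractionRing.isScalarTower_liftAlgebra R ℂ
  have hroots : ∀ z : ℂ, z ^ Monoid.exponent Q = 1 → ∃ k : K, algebraMap K ℂ k = z := by
    intro z hz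
    have h0 : 0 < Monoid.exponent Q := Monoid.exponent_ne_zero_of_finite.bot_lt
    have h1 : ¬ p ∣ Monoid.exponent Q := fun h => hQ (h.trans (Group.exponent_dvd_nat_card))
    have h2 : z ∈ unramLoc p M := mem_of_mem_unramInt (mem_unramInt_of_pow h0 h1 hz)
    refine ⟨algebraMap R K ⟨z, h2⟩, ?_⟩
    rw [← IsScalarTower.algebraMap_apply]
    rfl
  obtain ⟨n, ρ, hρ⟩ := isKChar_of_isCharacter (K := K) hroots hχ
  obtain ⟨a, ha⟩ := exists_form (A := R) (K := K) ρ
  refine ⟨n, a, fun g => ?_⟩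
  rw [hρ, Representation.character, ← ha, ← IsScalarTower.algebraMap_apply]
  rfl

theorem eq_one_of_idl (hM : IsPModular p M) {z : ℂ} {m : ℕ} (hm : ¬ p ∣ m) (hz : z ^ m = 1)
    (h : MemLocalIdeal M (z - 1)) : z = 1 := by
  by_contra hne
  have hm0 : m ≠ 0 := by rintro rfl; exact hm (dvd_zero _)
  have hzl : MemLocalRing M z := loc_of_isIntegral
    (IsIntegral.of_pow (Nat.pos_of_ne_zero hm0) (by rw [hz]; exact isIntegral_one))
  have h1 : ∑ i ∈ Finset.range m, z ^ i = 0 := by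
    have h2 := geom_sum_mul z m
    rw [hz, sub_self, mul_eq_zero] at h2
    exact h2.resolve_right (sub_ne_zero.mpr hne)
  have h2 : ∀ i : ℕ, MemLocalIdeal M (z ^ i - 1) := by
    intro i
    have h3 := mul_geom_sum z i
    rw [← h3]
    exact idl_mul_right h (loc_sum fun j _ => loc_pow hzl j)
  have h3 : MemLocalIdeal M (∑ i ∈ Finset.range m, (z ^ i - 1)) := idl_sum fun i _ => h2 i
  rw [Finset.sum_sub_distrib, h1, zero_sub, Finset.sum_const, Finset.card_range, nsmul_eq_mul,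
    mul_one, idl_neg_iff, idl_natCast_iff hM] at h3
  exact hm h3

theorem pow_inj_idl (hM : IsPModular p M) {z : ℂ} {m : ℕ} (hm : ¬ p ∣ m) (hz : IsPrimitiveRoot z m)
    {i j : ℕ} (hi : i < m) (hj : j < m) (h : MemLocalIdeal M (z ^ i - z ^ j)) : i = j := by
  wlog hij : i ≤ j with H
  · exact (H hM hm hz hj hi (idl_sub_symm h) (le_of_not_ge hij)).symm
  have hm0 : m ≠ 0 := by rintro rfl; exact hm (dvd_zero _)
  have hzl : MemLocalRing M z := loc_of_isIntegral
    (IsIntegral.of_pow (Nat.pos_of_ne_zero hm0) (by rw [hz.pow_eq_one]; exact isIntegral_one))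
  have hzi : MemLocalRing M (z⁻¹) := loc_of_isIntegral
    (IsIntegral.of_pow (Nat.pos_of_ne_zero hm0) (by rw [inv_pow, hz.pow_eq_one, inv_one]; exact isIntegral_one))
  have hz0 : z ≠ 0 := hz.ne_zero hm0
  have h1 : MemLocalIdeal M (z ^ (j - i) - 1) := by
    have h2 : z ^ (j - i) - 1 = (z ^ j - z ^ i) * (z⁻¹) ^ i := by
      rw [sub_mul, inv_pow, mul_inv_cancel₀ (pow_ne_zero _ hz0), ← pow_sub₀ z hz0 hij]
    rw [h2]
    exact idl_mul_right (idl_sub_symm h) (loc_pow hzi i)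
  have h2 := eq_one_of_idl hM hm (z := z ^ (j - i)) (by rw [← pow_mul, mul_comm, pow_mul, hz.pow_eq_one, one_pow]) h1
  have h3 := (hz.pow_eq_one_iff_dvd _).mp h2
  have h4 : j - i = 0 := by
    by_contra h5
    have := Nat.le_of_dvd (Nat.pos_of_ne_zero h5) h3
    omega
  omega

end Cfsg.Agent.Lib.UnramForm
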