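import Cfsg.Agent.Lib.TateTwo
import Cfsg.Agent.Lib.UnramForm
import Cfsg.Agent.Lib.SchurMat
import Cfsg.Agent.Lib.DomVal
import Cfsg.Agent.Lib.H78Syl
import Cfsg.Agent.Lib.CliffordExt
import Cfsg.Agent.Lib.CharBasic2
import Cfsg.Agent.Lib.CharApps

/-!
# The bound for characters (helper78)
-/

namespace Cfsg.Agent.Lib.DefBound

open Module Cfsg Cfsg.Agent.Lib.BlockRing Cfsg.Agent.Lib.UnramRing Cfsg.Agent.Lib.UnramForm
  Cfsg.Agent.Lib.H78Syl Cfsg.Agent.Lib.SchurMat Cfsg.Agent.Lib.CharBasic Cfsg.Agent.Lib.Clifford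
  Cfsg.Agent.Lib.TateData

universe u

variable {G : Type u} [Group G] [Fintype G] {p : ℕ} [Fact p.Prime] {P : Sylow p G}
  {V T : Subgroup G} {θ : Ce P → ℂ}

/-- restriction of `θ` to `V` -/
def th (θ : Ce P → ℂ) (hV : ∀ g, g ∈ V ↔ g ∈ Ce P ∧ ¬ p ∣ orderOf g) (v : V) : ℂ :=
  θ ⟨v, ((hV v).mp v.2).1⟩

theorem irr_th (hP : Nat.card P = p) (hV : ∀ g, g ∈ V ↔ g ∈ Ce P ∧ ¬ p ∣ orderOf g)
    (hCV : ∀ c ∈ Ce P, ∃ d ∈ P, ∃ v ∈ V, c = d * v)
    (hθ : IsIrrCharacter (Ce P) θ)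
    (hθP : ∀ x : Ce P, (x : G) ∈ (P : Subgroup G) → θ x = θ 1) : IsIrrCharacter V (th θ hV) := by
  let PC : Subgroup (Ce P) := (P : Subgroup G).subgroupOf (Ce P)
  haveI : PC.Normal := by
    constructor
    intro n hn g
    exact conj_mem_P (Ce_le_No P g.2) hn
  obtain ⟨χ, hχ, hχθ⟩ := hθ.deflate PC (fun n hn => hθP n hn)
  let f : V →* Ce P := Subgroup.inclusion (fun v hv => ((hV v).mp hv).1)
  have h1 := hχ.comp_surjective ((QuotientGroup.mk' PC).comp f) (by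
    intro q
    obtain ⟨c, rfl⟩ := QuotientGroup.mk'_surjective PC q
    obtain ⟨d, hd, v, hv, hdv⟩ := hCV c c.2
    refine ⟨⟨v, hv⟩, ?_⟩
    show (QuotientGroup.mk (f ⟨v, hv⟩) : Ce P ⧸ PC) = QuotientGroup.mk c
    rw [QuotientGroup.eq]
    show (v : G)⁻¹ * (c : G) ∈ (P : Subgroup G)
    have hcomm : d * v = v * d := Subgroup.mem_centralizer_iff.mp ((hV v).mp hv).1 d hd
    rw [hdv, hcomm, inv_mul_cancel_left]
    exact hd)
  have h2 : (fun v : V => χ (((QuotientGroup.mk' PC).comp f) v)) = th θ hV := by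
    funext v
    exact hχθ (f v)
  rw [← h2]
  exact h1

theorem exists_ext (hP : Nat.card P = p) (hCT : Ce P ≤ T) (hTN : T ≤ No P)
    (hθ : IsIrrCharacter (Ce P) θ)
    (hT : ∀ g ∈ T, ∀ c c' : Ce P, (c' : G) = g * c * g⁻¹ → θ c' = θ c) :
    ∃ ψ : T → ℂ, IsIrrCharacter T ψ ∧ ∀ c (hc : c ∈ Ce P), ψ ⟨c, hCT hc⟩ = θ ⟨c, hc⟩ := by
  haveI := normal_sub hTN
  obtain ⟨-, hcyc, -⟩ := exists_gen hP hCT hTN
  let e : (Ce P).subgroupOf T ≃* Ce P := Subgroup.subgroupOfEquivOfLe hCT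
  have h1 : IsIrrCharacter ((Ce P).subgroupOf T) (fun x => θ (e x)) :=
    hθ.comp_surjective e.toMonoidHom e.surjective
  obtain ⟨χ, hχ, hχ2⟩ := CliffordExt.exists_extension_of_cyclic hcyc h1 (by
    intro g
    funext c
    rw [cj_apply]
    apply hT g g.2
    rfl)
  refine ⟨χ, hχ, fun c hc => ?_⟩
  exact hχ2 ⟨⟨c, hCT hc⟩, hc⟩

/-- `p ∤ |T / P|` -/
theorem not_dvd_quot (hPT : (P : Subgroup G) ≤ T) [((P : Subgroup G).subgroupOf T).Normal] :
    ¬ p ∣ Nat.card (T ⧸ (P : Subgroup G).subgroupOf T) := by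
  have h1 := (P.subtype hPT).not_dvd_index
  rw [Subgroup.index_eq_card] at h1
  exact h1

theorem exists_matrix {M : Ideal AlgInt} [M.IsPrime] (hM : IsPModular p M)
    (hPT : (P : Subgroup G) ≤ T) (hTN : T ≤ No P) {ψ : T → ℂ} (hψ : IsCharacter T ψ)
    (hψP : ∀ x : T, (x : G) ∈ (P : Subgroup G) → ψ x = ψ 1) :
    ∃ (n : ℕ) (a : T →* Matrix (Fin n) (Fin n) (unramLoc p M)),
      ∀ g, (((a g).trace : unramLoc p M) : ℂ) = ψ g := by
  haveI : ((P : Subgroup G).subgroupOf T).Normal := by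
    constructor
    intro n hn g
    exact conj_mem_P (hTN g.2) hn
  obtain ⟨χ, hχ, hχψ⟩ := hψ.deflate ((P : Subgroup G).subgroupOf T) (fun n hn => hψP n hn)
  obtain ⟨n, a, ha⟩ := exists_matrix_form (M := M) hM (not_dvd_quot hPT) hχ
  refine ⟨n, a.comp (QuotientGroup.mk' _), fun g => ?_⟩
  rw [← hχψ]
  exact ha _

section schur

variable {M : Ideal AlgInt} [M.IsPrime] {n : ℕ}

/-- matrices over `R` seen over `ℂ` -/
def mC (n : ℕ) : Matrix (Fin n) (Fin n) (unramLoc p M) →+* Matrix (Fin n) (Fin n) ℂ :=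
  (unramLoc p M).subtype.mapMatrix

omit [Fact p.Prime] in
theorem mC_injective : Function.Injective (mC (p := p) (M := M) n) :=
  Matrix.map_injective Subtype.val_injective

omit [Fact p.Prime] in
theorem trace_mC (A : Matrix (Fin n) (Fin n) (unramLoc p M)) : (mC n A).trace = ((A.trace : unramLoc p M) : ℂ) := by
  exact (map_sum (unramLoc p M).subtype (fun i => A i i) Finset.univ).symm

omit [Fact p.Prime] in
theorem mC_smul (c : unramLoc p M) (A : Matrix (Fin n) (Fin n) (unramLoc p M)) :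
    mC n (c • A) = (c : ℂ) • mC n A := by
  ext i j
  rfl

variable {S : Subgroup G} [Fintype V] (a : S →* Matrix (Fin n) (Fin n) (unramLoc p M)) (hVT : V ≤ S)

/-- `V → GL_n(ℂ)` -/
def aC : V →* Matrix (Fin n) (Fin n) ℂ :=
  (mC n).toMonoidHom.comp (a.comp (Subgroup.inclusion hVT))

omit [Fintype G] [Fact p.Prime] [Fintype V] in
theorem aC_apply (v : V) : aC a hVT v = mC n (a ⟨v, hVT v.2⟩) := rfl

omit [Fintype G] [Fact p.Prime] in
theorem schur_R (hirr : IsIrrCharacter V (fun v => (((a ⟨v, hVT v.2⟩).trace : unramLoc p M) : ℂ)))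
    {vi : unramLoc p M} (hvi : vi * (Fintype.card V : unramLoc p M) = 1) :
    Schur V (matRep a) hVT (n : unramLoc p M) vi := by
  intro A
  obtain ⟨A', rfl⟩ := (Matrix.toLin' (R := unramLoc p M)).surjective A
  rw [Matrix.trace_toLin'_eq]
  have h1 : ∑ v : V, matRep a ⟨v, hVT v.2⟩ ∘ₗ Matrix.toLin' A' ∘ₗ matRep a ⟨v, hVT v.2⟩⁻¹ =
      Matrix.toLin' (∑ v : V, a ⟨v, hVT v.2⟩ * A' * a ⟨v, hVT v.2⟩⁻¹) := by
    rw [map_sum]
    refine Finset.sum_congr rfl fun v _ => ?_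
    rw [matRep_apply, matRep_apply, ← Matrix.toLin'_mul, ← Matrix.toLin'_mul, Matrix.mul_assoc]
  rw [h1, ← Matrix.toLin'_one, ← map_smul, ← map_smul]
  congr 1
  apply mC_injective
  rw [mC_smul, mC_smul, map_sum, map_one]
  have h2 := schur_mat (σ := aC a hVT) (by
    have : (fun g => (aC a hVT g).trace) = fun v : V => (((a ⟨v, hVT v.2⟩).trace : unramLoc p M) : ℂ) := by
      funext v
      rw [aC_apply, trace_mC]
    rw [this]
    exact hirr) (mC n A')
  have h3 : (vi : ℂ) * (Fintype.card V : ℂ) = 1 := by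
    have := congrArg Subtype.val hvi
    push_cast at this
    exact this
  have h4 : ∀ v : V, mC n (a ⟨v, hVT v.2⟩ * A' * a ⟨v, hVT v.2⟩⁻¹) =
      aC a hVT v * mC n A' * aC a hVT v⁻¹ := by
    intro v
    rw [map_mul, map_mul]
    rfl
  simp only [h4]
  rw [trace_mC] at h2
  have h5 := congrArg (fun X => (vi : ℂ) • X) h2
  simp only [smul_smul] at h5
  rw [← mul_assoc, h3, one_mul] at h5
  rw [← h5]
  congr 1
  push_cast
  ring

omit [Fintype G] [Fact p.Prime] in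
theorem orth_R {g : G} (hg : ∀ v ∈ V, g * v * g⁻¹ ∈ V)
    (horth : classInner (fun v : V => (((a ⟨g * v * g⁻¹, hVT (hg v v.2)⟩).trace : unramLoc p M) : ℂ))
      (fun v : V => (((a ⟨v, hVT v.2⟩).trace : unramLoc p M) : ℂ)) = 0)
    (A : (Fin n → unramLoc p M) →ₗ[unramLoc p M] (Fin n → unramLoc p M)) :
    ∑ v : V, matRep a ⟨g * v * g⁻¹, hVT (hg v v.2)⟩ ∘ₗ A ∘ₗ matRep a ⟨v, hVT v.2⟩⁻¹ = 0 := by
  obtain ⟨A', rfl⟩ := (Matrix.toLin' (R := unramLoc p M)).surjective A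
  let cg : V →* V :=
    { toFun := fun v => ⟨g * v * g⁻¹, hg v v.2⟩
      map_one' := by apply Subtype.ext; simp
      map_mul' := fun v w => by apply Subtype.ext; simp [mul_assoc] }
  have h1 : ∑ v : V, matRep a ⟨g * v * g⁻¹, hVT (hg v v.2)⟩ ∘ₗ Matrix.toLin' A' ∘ₗ matRep a ⟨v, hVT v.2⟩⁻¹ =
      Matrix.toLin' (∑ v : V, a ⟨g * v * g⁻¹, hVT (hg v v.2)⟩ * A' * a ⟨v, hVT v.2⟩⁻¹) := by
    rw [map_sum]
    refine Finset.sum_congr rfl fun v _ => ?_
    rw [matRep_apply, matRep_apply, ← Matrix.toLin'_mul, ← Matrix.toLin'_mul, Matrix.mul_assoc]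
  rw [h1, ← map_zero Matrix.toLin']
  congr 1
  apply mC_injective
  rw [map_sum, map_zero]
  have h2 := schur_mat_orth (σ := (aC a hVT).comp cg) (τ := aC a hVT) (by
    have e1 : (fun v => (((aC a hVT).comp cg) v).trace) =
        fun v : V => (((a ⟨g * v * g⁻¹, hVT (hg v v.2)⟩).trace : unramLoc p M) : ℂ) := by
      funext v
      rw [MonoidHom.comp_apply, aC_apply, trace_mC]
      rfl
    have e2 : (fun g => (aC a hVT g).trace) = fun v : V => (((a ⟨v, hVT v.2⟩).trace : unramLoc p M) : ℂ) := by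
      funext v
      rw [aC_apply, trace_mC]
    rw [e1, e2]
    exact horth) (mC n A')
  rw [← h2]
  refine Finset.sum_congr rfl fun v _ => ?_
  rw [map_mul, map_mul]
  rfl

end schur

/-- residue maps from a dominating valuation ring -/
theorem exists_residue {M : Ideal AlgInt} [M.IsPrime] (hM : IsPModular p M) {χ : G → ℂ}
    (hχ : IsCharacter G χ) {n : ℕ} (hχ1 : χ 1 = n) {t : ℕ} (Ξ : G → unramLoc p M)
    (hcong : ∀ g, MemLocalIdeal M ((Ξ g : ℂ) - t * χ g)) :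
    ∃ (K' : Type) (_ : Field K') (ι : unramLoc p M →+* K')
      (r1 : G →* Matrix (Fin n) (Fin n) K'), (∀ r, ι r = 0 ↔ ((p : ℕ) : unramLoc p M) ∣ r) ∧
      ∀ g, ι (Ξ g) = (t : K') * (r1 g).trace := by
  obtain ⟨B, hB1, hB2⟩ := DomVal.exists_dom hM
  obtain ⟨n', ρ, rfl⟩ := hχ
  have hn' : n' = n := by
    have h1 : ρ.character 1 = n' := by
      rw [Representation.char_one, Module.finrank_fin_fun]
    rw [hχ1] at h1
    exact_mod_cast h1.symm
  subst hn'
  obtain ⟨a, ha⟩ := IntForm.exists_form (A := B) (K := ℂ) ρ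
  let j : unramLoc p M →+* B :=
    { toFun := fun r => ⟨r, hB1 _ (loc_of_mem r.2)⟩
      map_one' := rfl
      map_mul' := fun _ _ => rfl
      map_zero' := rfl
      map_add' := fun _ _ => rfl }
  let res : B →+* IsLocalRing.ResidueField B := IsLocalRing.residue B
  have hres : ∀ x : B, res x = 0 ↔ (x : ℂ) ∈ B.nonunits := by
    intro x
    rw [ValuationSubring.coe_mem_nonunits_iff]
    exact IsLocalRing.residue_eq_zero_iff x
  refine ⟨IsLocalRing.ResidueField B, inferInstance, res.comp j,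
    res.mapMatrix.toMonoidHom.comp a, ?_, ?_⟩
  · intro r
    rw [RingHom.comp_apply, hres, ← idl_iff_dvd hM]
    exact hB2 _ (loc_of_mem r.2)
  · intro g
    have h1 : ((res.mapMatrix.toMonoidHom.comp a) g).trace = res (a g).trace :=
      (map_sum res (fun i => (a g) i i) Finset.univ).symm
    rw [h1, ← map_natCast res t, ← map_mul, RingHom.comp_apply, ← sub_eq_zero, ← map_sub, hres]
    have h2 : (((j (Ξ g) - (t : B) * (a g).trace : B)) : ℂ) = (Ξ g : ℂ) - t * ρ.character g := by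
      have h3 := ha g
      push_cast
      have h4 : (((a g).trace : B) : ℂ) = ρ.character g := h3
      rw [h4]
      rfl
    rw [h2]
    refine (hB2 _ (loc_of_idl (hcong g))).mpr (hcong g)

theorem th_mul (hP : Nat.card P = p) (hV : ∀ g, g ∈ V ↔ g ∈ Ce P ∧ ¬ p ∣ orderOf g)
    (hθ : IsCharacter (Ce P) θ)
    (hθP : ∀ x : Ce P, (x : G) ∈ (P : Subgroup G) → θ x = θ 1) {d : G} (hd : d ∈ P) (v : V)
    (hdv : d * v ∈ Ce P) : θ ⟨d * v, hdv⟩ = th θ hV v := by
  have hdC := le_Ce hP hd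
  have h1 := hθ.mul_eq_of_const ((P : Subgroup G).subgroupOf (Ce P)) (fun n hn => hθP n hn)
    ⟨v, ((hV v).mp v.2).1⟩ ⟨d, hdC⟩ hd
  have h2 : (⟨d * v, hdv⟩ : Ce P) = ⟨v, ((hV v).mp v.2).1⟩ * ⟨d, hdC⟩ := by
    apply Subtype.ext
    exact Subgroup.mem_centralizer_iff.mp ((hV v).mp v.2).1 d hd
  rw [h2, h1]
  rfl

theorem main_bound {M : Ideal AlgInt} (hM : IsPModular p M) (hP : Nat.card P = p)
    (hV : ∀ g, g ∈ V ↔ g ∈ Ce P ∧ ¬ p ∣ orderOf g)
    (hCV : ∀ c ∈ Ce P, ∃ d ∈ P, ∃ v ∈ V, c = d * v) (hVp : ¬ p ∣ Nat.card V)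
    (hθ : IsIrrCharacter (Ce P) θ)
    (hθP : ∀ x : Ce P, (x : G) ∈ (P : Subgroup G) → θ x = θ 1)
    (hT : ∀ g, g ∈ T ↔ g ∈ No P ∧ ∀ c c' : Ce P, (c' : G) = g * c * g⁻¹ → θ c' = θ c)
    {Ξ : G → ℂ} (hΞc : ∀ g h, Ξ (g * h) = Ξ (h * g))
    (hΞR : haveI := isPrime hM; ∀ g, Ξ g ∈ unramLoc p M)
    {n : ℕ} (hn : ¬ p ∣ n)
    (hrep : ∀ b h, (n : ℂ) * ∑ g, Ξ (b * g) * Ξ (g⁻¹ * h) = (Fintype.card G : ℂ) * Ξ (b * h))
    {χ : G → ℂ} (hχ : IsCharacter G χ) (hχ1 : χ 1 = n) {t : ℕ} (ht : ¬ p ∣ t)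
    (hcong : ∀ g, MemLocalIdeal M (Ξ g - t * χ g))
    [Fintype V] [Fintype P] {b s : ℕ}
    (hb : (b : ℂ) = (Nat.card V : ℂ)⁻¹ * ∑ v : V, Ξ v * th θ hV v⁻¹)
    (hs : ((p * s : ℕ) : ℂ) = (Nat.card V : ℂ)⁻¹ * ∑ d : P, ∑ v : V, Ξ (d * v) * th θ hV v⁻¹) :
    p * s ≤ b + p ∧ b ≤ p * s + p := by
  classical
  haveI := isPrime hM
  have hp : p.Prime := Fact.out
  haveI := isDVR hM
  -- the groups
  have hCT : Ce P ≤ T := by
    intro c hc
    rw [hT]
    refine ⟨Ce_le_No P hc, fun x x' hx => ?_⟩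
    have h1 := hθ.isClassFunction x ⟨c, hc⟩
    have h2 : x' = ⟨c, hc⟩ * x * ⟨c, hc⟩⁻¹ := Subtype.ext hx
    rw [h2]
    exact h1
  have hTN : T ≤ No P := fun g hg => ((hT g).mp hg).1
  have hPC := le_Ce hP
  have hPT : (P : Subgroup G) ≤ T := hPC.trans hCT
  have hVC : V ≤ Ce P := fun v hv => ((hV v).mp hv).1
  have hVT : V ≤ T := hVC.trans hCT
  haveI := normal_sub hTN
  obtain ⟨hedvd, -, g0, hg0T, hg0e, hgen⟩ := exists_gen hP hCT hTN
  set e := (Ce P).relIndex T with he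
  have he0 : e ≠ 0 := by
    rw [he, Subgroup.relIndex]; exact Subgroup.index_ne_zero_of_finite
  have hpe : ¬ p ∣ e := by
    intro h
    have h1 : 0 < p - 1 := by have := hp.two_le; omega
    have := Nat.le_of_dvd h1 (h.trans hedvd)
    omega
  -- the extension
  obtain ⟨ψ, hψ, hψθ⟩ := exists_ext hP hCT hTN hθ (fun g hg => ((hT g).mp hg).2)
  have hψP : ∀ x : T, (x : G) ∈ (P : Subgroup G) → ψ x = ψ 1 := by
    intro x hx
    have h1 := hψθ x (hPC hx)
    have h2 := hψθ 1 (one_mem _)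
    have h3 := hθP ⟨x, hPC hx⟩ hx
    have h4 : (⟨1, hCT (one_mem _)⟩ : T) = 1 := rfl
    rw [h4] at h2
    have h5 : (⟨(x : G), hCT (hPC hx)⟩ : T) = x := rfl
    rw [h5] at h1
    rw [h1, h2, h3]
    rfl
  obtain ⟨f, a, ha⟩ := exists_matrix (M := M) hM hPT hTN hψ.isCharacter hψP
  have hav : ∀ v : V, (((a ⟨v, hVT v.2⟩).trace : unramLoc p M) : ℂ) = th θ hV v := by
    intro v
    rw [ha]
    exact hψθ v (hVC v.2)
  have hirr := irr_th hP hV hCV hθ hθP
  -- the degree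
  have hf1 : ((f : ℕ) : ℂ) = th θ hV 1 := by
    rw [← hav 1]
    have h1 : (⟨((1 : V) : G), hVT (1 : V).2⟩ : T) = 1 := rfl
    rw [h1, map_one, Matrix.trace_one, Fintype.card_fin]
    push_cast
    rfl
  have hfp : ¬ p ∣ f := by
    intro h
    exact hVp (h.trans (CharApps.irr_degree_dvd_card hirr hf1.symm))
  have hVc : (Nat.card V : ℂ) ≠ 0 := by exact_mod_cast Nat.card_pos.ne'
  have hviR : (Nat.card V : ℂ)⁻¹ ∈ unramLoc p M := by
    apply UnramRing.inv_mem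
    · exact natCast_mem _ _
    · rw [idl_natCast_iff hM]; exact hVp
  let vi : unramLoc p M := ⟨(Nat.card V : ℂ)⁻¹, hviR⟩
  have hvi : vi * (Fintype.card V : unramLoc p M) = 1 := by
    apply Subtype.ext
    push_cast
    rw [← Nat.card_eq_fintype_card]
    exact inv_mul_cancel₀ hVc
  let ΞR : G → unramLoc p M := fun g => ⟨Ξ g, hΞR g⟩
  obtain ⟨K', _, ι, r1, hι, hr1⟩ := exists_residue hM hχ hχ1 (t := t) ΞR hcong
  letI : Algebra (unramLoc p M) K' := ι.toAlgebra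
  have hιn : ∀ m : ℕ, ¬ p ∣ m → (m : K') ≠ 0 := by
    intro m hm h0
    have h1 : ι (m : unramLoc p M) = 0 := by rw [map_natCast]; exact h0
    rw [hι, ← idl_iff_dvd hM] at h1
    push_cast at h1
    exact hm ((idl_natCast_iff hM m).mp h1)
  let k := IsLocalRing.ResidueField (unramLoc p M)
  have hks : Function.Surjective (algebraMap (unramLoc p M) k) := IsLocalRing.residue_surjective
  have hk : ∀ r, algebraMap (unramLoc p M) k r = 0 ↔ ((p : ℕ) : unramLoc p M) ∣ r := by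
    intro r
    have h1 : algebraMap (unramLoc p M) k r = 0 ↔ r ∈ IsLocalRing.maximalIdeal (unramLoc p M) :=
      IsLocalRing.residue_eq_zero_iff r
    rw [h1, IsLocalRing.mem_maximalIdeal, mem_nonunits_iff, isUnit_iff hM, not_not, idl_iff_dvd hM]
  haveI : CharP k p := by
    rw [CharP.charP_iff_prime_eq_zero hp]
    have h1 := (hk (p : ℕ)).mpr dvd_rfl
    rw [map_natCast] at h1
    exact h1
  have hkn : ∀ m : ℕ, ¬ p ∣ m → (m : k) ≠ 0 := by
    intro m hm h0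
    exact hm ((CharP.cast_eq_zero_iff k p m).mp h0)
  -- roots of unity
  have hroot : ∀ m : ℕ, m ≠ 0 → ¬ p ∣ m → ∃ z : unramLoc p M, IsPrimitiveRoot (z : ℂ) m := by
    intro m hm0 hm
    have h1 := Complex.isPrimitiveRoot_exp m hm0
    exact ⟨⟨_, mem_of_mem_unramInt (mem_unramInt_of_pow (Nat.pos_of_ne_zero hm0) hm h1.pow_eq_one)⟩, h1⟩
  obtain ⟨ζ0, hζ0⟩ := hroot e he0 hpe
  have hζ : IsPrimitiveRoot (algebraMap (unramLoc p M) k ζ0) e := by
    constructor
    · rw [← map_pow]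
      have : ζ0 ^ e = 1 := Subtype.ext (by push_cast; exact hζ0.pow_eq_one)
      rw [this, map_one]
    · intro l hl
      rw [← map_pow, ← map_one (algebraMap (unramLoc p M) k), ← sub_eq_zero, ← map_sub, hk,
        ← idl_iff_dvd hM] at hl
      push_cast at hl
      have h2 := eq_one_of_idl hM hpe (z := (ζ0 : ℂ) ^ l)
        (by rw [← pow_mul, mul_comm, pow_mul, hζ0.pow_eq_one, one_pow]) hl
      exact (hζ0.pow_eq_one_iff_dvd _).mp h2
  have hc : ∀ d : ℕ, ∃ c : Fin d → unramLoc p M, (∀ i, ¬ ((p : ℕ) : unramLoc p M) ∣ c i) ∧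
      ∀ i j, ((p : ℕ) : unramLoc p M) ∣ c i - c j → i = j := by
    intro d
    have h0 : p * d + 1 ≠ 0 := by omega
    have h1 : ¬ p ∣ p * d + 1 := by
      intro h
      have := (Nat.dvd_add_right (dvd_mul_right p d)).mp h
      exact hp.one_lt.ne' (Nat.dvd_one.mp this)
    obtain ⟨z, hz⟩ := hroot _ h0 h1
    refine ⟨fun i => z ^ (i : ℕ), fun i hi => ?_, fun i j hij => ?_⟩
    · rw [← idl_iff_dvd hM] at hi
      push_cast at hi
      have h2 := idl_of_pow (loc_of_mem z.2) hi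
      have h3 := idl_pow h2 h0
      rw [hz.pow_eq_one] at h3
      exact one_not_idl h3
    · rw [← idl_iff_dvd hM] at hij
      push_cast at hij
      have h4 : ∀ i : Fin d, (i : ℕ) < p * d + 1 := by
        intro i
        have := i.2
        have h5 : d ≤ p * d := Nat.le_mul_of_pos_left d hp.pos
        omega
      exact Fin.ext (pow_inj_idl hM h1 hz (h4 i) (h4 j) hij)
  -- generator of P
  haveI := H78Syl.isCyclic hP
  obtain ⟨y, hy⟩ := IsCyclic.exists_monoid_generator (α := (P : Subgroup G))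
  have hVN : ∀ n ∈ No P, ∀ v ∈ V, n * v * n⁻¹ ∈ V := fun n hn v hv => conj_mem_V hV hn hv
  refine TateTwo.two_bounds (k := k) (D := (P : Subgroup G)) (C := Ce P) (N := No P) (T := T)
    (V := V) (r := matRep a) (p := p) (by rw [← Nat.card_eq_fintype_card]; exact hP) hPT hVT hCT hTN hVN
    (fun n hn d hd => conj_mem_P (hTN hn) hd) hPC hCV y
    (fun d => by
      obtain ⟨i, hi⟩ := hy d
      exact ⟨i, hi.symm⟩)
    (f : unramLoc p M) vi hvi (by rw [Module.finrank_fin_fun])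
    (schur_R a hVT (by
      have : (fun v : V => (((a ⟨v, hVT v.2⟩).trace : unramLoc p M) : ℂ)) = th θ hV := funext hav
      rw [this]; exact hirr) hvi)
    (fun g hg hgT A => orth_R a hVT (fun v hv => hVN g hg v hv) ?_ A)
    hks hk
    (fun g hg d hd => hPC (by
      have := conj_mem_P ((No P).inv_mem hg) hd
      rwa [inv_inv] at this))
    (fun g hg => mem_No_of_conj hP hV hCV hg)
    (e := e) (by
      rw [← Subgroup.card_mul_index ((Ce P).subgroupOf T),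
        Nat.card_congr (Subgroup.subgroupOfEquivOfLe hCT).toEquiv]
      rfl)
    ⟨g0, hg0T⟩ (hkn e hpe) hg0e hζ hgen
    (K' := K') hι (hιn n hn) (Ξ := ΞR)
    (fun g h => Subtype.ext (hΞc g h))
    (fun b h => by
      apply Subtype.ext
      have := hrep b h
      push_cast
      exact this)
    r1 (hιn t ht) hr1
    (by rw [map_natCast]; exact hιn f hfp)
    (hιn _ (by
      rw [← Nat.card_eq_fintype_card]
      intro h
      have h1 := P.not_dvd_index
      apply h1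
      have h2 : (Ce P).index ∣ (P : Subgroup G).index := Subgroup.index_dvd_of_le hPC
      exact h.trans h2))
    hc (b := b) (s := s)
    (by
      apply Subtype.ext
      push_cast
      rw [hb]
      congr 1
      refine Finset.sum_congr rfl fun v _ => ?_
      congr 1
      rw [trace_matRep]
      exact (hav v⁻¹).symm)
    (by
      apply Subtype.ext
      push_cast
      have h1 : ((p * s : ℕ) : ℂ) = (p : ℂ) * s := by push_cast; rfl
      rw [← h1, hs]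
      congr 1
      refine Finset.sum_congr rfl fun d _ => Finset.sum_congr rfl fun v _ => ?_
      congr 1
      rw [trace_matRep, ha]
      have h2 : (d : G) * v ∈ Ce P := (Ce P).mul_mem (hPC d.2) (hVC v.2)
      have h3 : ((⟨d, hPT d.2⟩ : T) * ⟨v, hVT v.2⟩)⁻¹ = ⟨((d : G)⁻¹ : G) * ((v : G)⁻¹ : G), T.mul_mem (T.inv_mem (hPT d.2)) (T.inv_mem (hVT v.2))⟩ := by
        apply Subtype.ext
        have h4 : (v : G)⁻¹ * (d : G)⁻¹ = (d : G)⁻¹ * (v : G)⁻¹ :=
          (Subgroup.mem_centralizer_iff.mp ((Ce P).inv_mem (hVC v.2)) _ (P.inv_mem d.2)).symm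
        simp only [Subgroup.coe_inv, Subgroup.coe_mul, mul_inv_rev]
        exact h4
      have h5 : (d : G)⁻¹ * (v : G)⁻¹ ∈ Ce P :=
        (Ce P).mul_mem ((Ce P).inv_mem (hPC d.2)) ((Ce P).inv_mem (hVC v.2))
      rw [h3, hψθ _ h5]
      exact (th_mul hP hV hθ.isCharacter hθP (P.inv_mem d.2) v⁻¹ h5).symm)
  -- orthogonality
  have h1 : (fun v : V => (((a ⟨v, hVT v.2⟩).trace : unramLoc p M) : ℂ)) = th θ hV := funext hav
  let cg : V →* V :=
    { toFun := fun v => ⟨g * v * g⁻¹, hVN g hg v v.2⟩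
      map_one' := by apply Subtype.ext; simp
      map_mul' := fun v w => by apply Subtype.ext; simp [mul_assoc] }
  have h2 : (fun v : V => (((a ⟨g * v * g⁻¹, hVT (hVN g hg v v.2)⟩).trace : unramLoc p M) : ℂ)) =
      fun v => th θ hV (cg v) := funext fun v => hav (cg v)
  rw [h1, h2]
  have hcg : Function.Surjective cg := by
    intro v
    refine ⟨⟨g⁻¹ * v * g, ?_⟩, ?_⟩
    · have := hVN g⁻¹ ((No P).inv_mem hg) v v.2
      rwa [inv_inv] at this
    · apply Subtype.ext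
      simp [cg, mul_assoc]
  apply (hirr.comp_surjective cg hcg).classInner_eq_zero hirr
  intro heq
  apply hgT
  rw [hT]
  refine ⟨hg, fun c c' hc => ?_⟩
  obtain ⟨d, hd, v, hv, hdv⟩ := hCV c c.2
  have e1 : θ c = th θ hV ⟨v, hv⟩ := by
    have h3 := th_mul hP hV hθ.isCharacter hθP hd ⟨v, hv⟩ (by rw [← hdv]; exact c.2)
    rw [← h3]
    congr 1
    exact Subtype.ext hdv
  have e2 : θ c' = th θ hV (cg ⟨v, hv⟩) := by
    have h4 : (g * d * g⁻¹) * (cg ⟨v, hv⟩ : V) = (c' : G) := by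
      rw [hc, hdv]
      simp [cg, mul_assoc]
    have h3 := th_mul hP hV hθ.isCharacter hθP (conj_mem_P hg hd) (cg ⟨v, hv⟩)
      (by rw [h4]; exact c'.2)
    rw [← h3]
    congr 1
    exact Subtype.ext h4.symm
  rw [e1, e2]
  exact congrFun heq ⟨v, hv⟩

end Cfsg.Agent.Lib.DefBound
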