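import Mathlib

/-!
# The combinatorial part of the theory of blocks of defect one (helper78)
-/

namespace Cfsg.Agent.Lib.DefComb

/-- A vector of norm two orthogonal to a positive vector. -/
theorem norm_two {B : Type*} [Fintype B] [DecidableEq B] {v deg : B → ℤ} (hdeg : ∀ χ, 0 < deg χ)
    (h2 : ∑ χ, v χ * v χ = 2) (h0 : ∑ χ, v χ * deg χ = 0) :
    ∃ α β : B, α ≠ β ∧ ∀ χ, v χ = (if χ = α then 1 else 0) - (if χ = β then 1 else 0) := by
  have hpos : ∃ α, 0 < v α := by
    by_contra hcon
    push Not at hcon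
    have h1 : ∀ χ ∈ Finset.univ, v χ * deg χ ≤ 0 := fun χ _ =>
      mul_nonpos_of_nonpos_of_nonneg (hcon χ) (hdeg χ).le
    have h3 := (Finset.sum_eq_zero_iff_of_nonpos h1).mp h0
    have h4 : ∀ χ, v χ = 0 := fun χ =>
      (mul_eq_zero.mp (h3 χ (Finset.mem_univ _))).resolve_right (hdeg χ).ne'
    simp [h4] at h2
  have hneg : ∃ β, v β < 0 := by
    by_contra hcon
    push Not at hcon
    have h1 : ∀ χ ∈ Finset.univ, 0 ≤ v χ * deg χ := fun χ _ =>
      mul_nonneg (hcon χ) (hdeg χ).le
    have h3 := (Finset.sum_eq_zero_iff_of_nonneg h1).mp h0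
    have h4 : ∀ χ, v χ = 0 := fun χ =>
      (mul_eq_zero.mp (h3 χ (Finset.mem_univ _))).resolve_right (hdeg χ).ne'
    simp [h4] at h2
  obtain ⟨α, hα⟩ := hpos
  obtain ⟨β, hβ⟩ := hneg
  have hαβ : α ≠ β := by rintro rfl; omega
  have h5 : ∑ χ, v χ * v χ = v α * v α + (v β * v β +
      ∑ χ ∈ (Finset.univ.erase α).erase β, v χ * v χ) := by
    rw [← Finset.add_sum_erase _ _ (Finset.mem_univ α),
      ← Finset.add_sum_erase _ _ (Finset.mem_erase.mpr ⟨hαβ.symm, Finset.mem_univ β⟩)]
  have h6 : 0 ≤ ∑ χ ∈ (Finset.univ.erase α).erase β, v χ * v χ :=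
    Finset.sum_nonneg fun χ _ => mul_self_nonneg _
  rw [h2] at h5
  have h7 : v α = 1 := by nlinarith
  have h8 : v β = -1 := by nlinarith
  have h9 : ∑ χ ∈ (Finset.univ.erase α).erase β, v χ * v χ = 0 := by
    rw [h7, h8] at h5; linarith
  rw [Finset.sum_eq_zero_iff_of_nonneg (fun χ _ => mul_self_nonneg _)] at h9
  refine ⟨α, β, hαβ, fun χ => ?_⟩
  by_cases h10 : χ = α
  · subst h10
    rw [if_pos rfl, if_neg hαβ, h7, sub_zero]
  by_cases h11 : χ = β
  · subst h11
    rw [if_neg h10, if_pos rfl, h8, zero_sub]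
  rw [if_neg h10, if_neg h11, sub_zero]
  exact mul_self_eq_zero.mp (h9 χ (by simp [h10, h11]))

/-- Coherence for vectors with Gram matrix `e + [i = j]`. -/
theorem coherence {B I : Type*} [Fintype B] [DecidableEq B] [Fintype I] [DecidableEq I]
    (D : I → B → ℤ) (e : ℤ) (deg : B → ℤ) (hdeg : ∀ χ, 0 < deg χ)
    (h1 : ∀ i j, ∑ χ, D i χ * D j χ = e + if i = j then 1 else 0)
    (h2 : ∀ i, ∑ χ, D i χ * deg χ = 0) (ht : 2 ≤ Fintype.card I) :
    ∃ (R : B → ℤ) (ε : ℤ) (x : I → B), (ε = 1 ∨ ε = -1) ∧ Function.Injective x ∧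
      ∀ i χ, D i χ = R χ + if x i = χ then ε else 0 := by
  classical
  have hdiff : ∀ i j, i ≠ j → ∃ α β : B, α ≠ β ∧
      ∀ χ, D i χ - D j χ = (if χ = α then 1 else 0) - (if χ = β then 1 else 0) := by
    intro i j hij
    apply norm_two hdeg
    · have : ∑ χ, (D i χ - D j χ) * (D i χ - D j χ) = ∑ χ, D i χ * D i χ - ∑ χ, D i χ * D j χ -
          ∑ χ, D j χ * D i χ + ∑ χ, D j χ * D j χ := by
        rw [← Finset.sum_sub_distrib, ← Finset.sum_sub_distrib, ← Finset.sum_add_distrib]
        exact Finset.sum_congr rfl fun χ _ => by ring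
      rw [this, h1, h1, h1, h1, if_pos rfl, if_pos rfl, if_neg hij, if_neg (Ne.symm hij)]
      ring
    · simp only [sub_mul, Finset.sum_sub_distrib, h2, sub_self]
  obtain ⟨i0⟩ : Nonempty I := Fintype.card_pos_iff.mp (by omega)
  obtain ⟨j0, hj0⟩ : ∃ j0, j0 ≠ i0 := by
    have : Nontrivial I := Fintype.one_lt_card_iff_nontrivial.mp (by omega)
    exact exists_ne i0
  haveI : Nonempty B := by
    obtain ⟨α, -⟩ := hdiff i0 j0 (Ne.symm hj0)
    exact ⟨α⟩
  have hdelta : ∀ (a b : B) (f : B → ℤ), ∑ χ, ((if χ = a then (1 : ℤ) else 0) -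
      (if χ = b then 1 else 0)) * f χ = f a - f b := by
    intro a b f
    simp [sub_mul, Finset.sum_sub_distrib]
  choose! α β hαβ hD using hdiff i0
  -- pairs
  have hpair : ∀ j k, j ≠ i0 → k ≠ i0 → j ≠ k → (α j = α k ∧ β j ≠ β k) ∨ (α j ≠ α k ∧ β j = β k) := by
    intro j k hj hk hjk
    have e1 : ∑ χ, (D i0 χ - D j χ) * (D i0 χ - D k χ) = 1 := by
      have : ∑ χ, (D i0 χ - D j χ) * (D i0 χ - D k χ) = ∑ χ, D i0 χ * D i0 χ - ∑ χ, D i0 χ * D k χ -
          ∑ χ, D j χ * D i0 χ + ∑ χ, D j χ * D k χ := by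
        rw [← Finset.sum_sub_distrib, ← Finset.sum_sub_distrib, ← Finset.sum_add_distrib]
        exact Finset.sum_congr rfl fun χ _ => by ring
      rw [this, h1, h1, h1, h1, if_pos rfl, if_neg (Ne.symm hk), if_neg hj, if_neg hjk]
      ring
    simp only [hD j (Ne.symm hj), hD k (Ne.symm hk)] at e1
    rw [hdelta] at e1
    have hj' := hαβ j (Ne.symm hj)
    have hk' := hαβ k (Ne.symm hk)
    by_cases c1 : α j = α k
    · left
      refine ⟨c1, fun c2 => ?_⟩
      rw [c1, c2] at e1
      simp [hk', Ne.symm hk'] at e1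
    · right
      refine ⟨c1, ?_⟩
      by_contra c2
      rw [if_neg c1, if_neg c2] at e1
      split_ifs at e1 <;> norm_num at e1
  have hcase : (∀ j k, j ≠ i0 → k ≠ i0 → α j = α k) ∨ (∀ j k, j ≠ i0 → k ≠ i0 → β j = β k) := by
    by_contra hcon
    push Not at hcon
    obtain ⟨⟨j, k, hj, hk, hjk⟩, ⟨l, m, hl, hm, hlm⟩⟩ := hcon
    have c1 : ∀ l, l ≠ i0 → β l = β j := by
      intro l hl
      by_contra hc
      have hlj : l ≠ j := by rintro rfl; exact hc rfl
      have hjk' : j ≠ k := by rintro rfl; exact hjk rfl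
      have d1 := (hpair j k hj hk hjk').resolve_left (fun h => hjk h.1)
      have d2 := (hpair l j hl hj hlj).resolve_right (fun h => hc h.2)
      have hlk : l ≠ k := by rintro rfl; exact hc d1.2.symm
      have d3 := (hpair l k hl hk hlk).resolve_right (fun h => hc (h.2.trans d1.2.symm))
      exact hjk (d2.1.symm.trans d3.1)
    exact hlm ((c1 l hl).trans (c1 m hm).symm)
  have key : ∃ (ε : ℤ) (x : I → B), (ε = 1 ∨ ε = -1) ∧ ∀ j χ, D i0 χ - D j χ =
      (if x i0 = χ then ε else 0) - (if x j = χ then ε else 0) := by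
    rcases hcase with hc | hc
    · refine ⟨1, fun j => if j = i0 then α j0 else β j, Or.inl rfl, fun j χ => ?_⟩
      by_cases hj : j = i0
      · subst hj; simp
      · rw [hD j (Ne.symm hj), hc j j0 hj hj0]
        simp only [if_true, if_neg hj, eq_comm (a := χ)]
    · refine ⟨-1, fun j => if j = i0 then β j0 else α j, Or.inr rfl, fun j χ => ?_⟩
      by_cases hj : j = i0
      · subst hj; simp
      · rw [hD j (Ne.symm hj), hc j j0 hj hj0]
        simp only [if_true, if_neg hj, eq_comm (a := χ)]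
        split_ifs <;> norm_num
  obtain ⟨ε, x, hε, hx⟩ := key
  have hDx : ∀ i j χ, D i χ - D j χ = (if x i = χ then ε else 0) - (if x j = χ then ε else 0) := by
    intro i j χ
    have c1 := hx i χ
    have c2 := hx j χ
    linarith
  refine ⟨fun χ => D i0 χ - if x i0 = χ then ε else 0, ε, x, hε, ?_, fun i χ => ?_⟩
  · intro i j hij
    by_contra hne
    have c1 : ∀ χ, D i χ = D j χ := by
      intro χ
      have := hDx i j χ
      rw [hij, sub_self] at this
      linarith
    have c2 := h1 i i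
    have c3 := h1 i j
    rw [if_pos rfl] at c2
    rw [if_neg hne] at c3
    simp only [c1] at c2 c3
    linarith
  · have := hDx i i0 χ
    linarith

section comb

variable {p : ℕ} {U : Type*} [CommGroup U] [Fintype U] {E : Subgroup U} {B : Type*} [Fintype B]
  [DecidableEq B] [MulAction U B] {Δ : U → B → ℤ} {deg : B → ℤ}

/-- Characters at which all `Δ u` agree. -/
theorem xtype [DecidablePred (· ∈ E)] (hp : p.Prime) (hU : Fintype.card U = p - 1)
    (h1 : ∀ u w, ∑ χ, Δ u χ * Δ w χ = (Nat.card E : ℤ) + if u⁻¹ * w ∈ E then 1 else 0)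
    (h3 : ∀ (k u : U) χ, Δ u (k • χ) = Δ (k⁻¹ * u) χ)
    (h4 : ∀ χ, ¬ (p : ℤ) ∣ ∑ u, Δ u χ)
    (h5 : ∀ (O : Finset B) (χ : B), (∀ ψ, ψ ∈ O ↔ ∃ k : U, k • χ = ψ) →
      |∑ ψ ∈ O, ∑ u, Δ u ψ| ≤ (p : ℤ))
    {χ : B} {a : ℤ} (ha : ∀ u, Δ u χ = a) : (a = 1 ∨ a = -1) ∧ ∀ k : U, k • χ = χ := by
  classical
  have ha0 : a ≠ 0 := by
    rintro rfl
    apply h4 χ
    simp [ha]
  have hp2 := hp.two_le
  let O : Finset B := Finset.univ.filter fun ψ => ∃ k : U, k • χ = ψ
  have hO : ∀ ψ, ψ ∈ O ↔ ∃ k : U, k • χ = ψ := fun ψ => by simp [O]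
  have hχO : χ ∈ O := (hO χ).mpr ⟨1, one_smul _ _⟩
  have hsum : ∑ ψ ∈ O, ∑ u, Δ u ψ = (O.card : ℤ) * (((p - 1 : ℕ) : ℤ) * a) := by
    have : ∀ ψ ∈ O, ∑ u, Δ u ψ = ((p - 1 : ℕ) : ℤ) * a := by
      intro ψ hψ
      obtain ⟨k, rfl⟩ := (hO ψ).mp hψ
      simp only [h3, ha, Finset.sum_const, Finset.card_univ, hU, nsmul_eq_mul]
    rw [Finset.sum_congr rfl this, Finset.sum_const, nsmul_eq_mul]
  have hle := h5 O χ hO
  rw [hsum] at hle
  have hcard : 1 ≤ (O.card : ℤ) := by
    exact_mod_cast Finset.card_pos.mpr ⟨χ, hχO⟩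
  have habs : 1 ≤ |a| := Int.one_le_abs ha0
  rcases Nat.lt_or_ge p 3 with h | h
  · have hp3 : p = 2 := by omega
    subst hp3
    have hU1 : Fintype.card U = 1 := hU
    have hsub : Subsingleton U := Fintype.card_le_one_iff_subsingleton.mp hU1.le
    refine ⟨?_, fun k => ?_⟩
    · have e1 := h1 1 1
      have e2 : Nat.card E = 1 := by
        haveI : Subsingleton E := inferInstance
        exact Nat.card_unique
      rw [if_pos (by simp), e2] at e1
      have e3 : a * a ≤ 2 := by
        have e4 : Δ 1 χ * Δ 1 χ ≤ ∑ χ, Δ 1 χ * Δ 1 χ :=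
          Finset.single_le_sum (f := fun χ => Δ 1 χ * Δ 1 χ) (fun ψ _ => mul_self_nonneg _)
            (Finset.mem_univ χ)
        rw [e1, ha] at e4
        push_cast at e4
        linarith
      have e5 : a < 2 := by nlinarith
      have e6 : -2 < a := by nlinarith
      omega
    · rw [Subsingleton.elim k 1, one_smul]
  · have hq : ((p - 1 : ℕ) : ℤ) = (p : ℤ) - 1 := by
      rw [Nat.cast_sub (by omega)]; rfl
    have h3' : (3 : ℤ) ≤ p := by exact_mod_cast h
    rw [abs_mul, abs_mul, hq, abs_of_pos (by linarith : (0 : ℤ) < (p : ℤ) - 1),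
      abs_of_pos (by linarith : (0 : ℤ) < (O.card : ℤ))] at hle
    have e1 : (O.card : ℤ) * |a| < 2 := by
      by_contra hcon
      push Not at hcon
      have e2 : 2 * ((p : ℤ) - 1) ≤ p := by
        calc 2 * ((p : ℤ) - 1) ≤ ((O.card : ℤ) * |a|) * ((p : ℤ) - 1) := by
              apply mul_le_mul_of_nonneg_right hcon; linarith
          _ = (O.card : ℤ) * (((p : ℤ) - 1) * |a|) := by ring
          _ ≤ p := hle
      linarith
    have e2 : (O.card : ℤ) = 1 := by nlinarith
    have e3 : |a| = 1 := by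
      rw [e2, one_mul] at e1
      omega
    refine ⟨?_, fun k => ?_⟩
    · rcases abs_eq (by norm_num : (0 : ℤ) ≤ 1) |>.mp e3 with h | h
      · exact Or.inl h
      · exact Or.inr h
    · have e4 : O.card = 1 := by exact_mod_cast e2
      obtain ⟨ψ, hψ⟩ := Finset.card_eq_one.mp e4
      have e5 : k • χ ∈ O := (hO _).mpr ⟨k, rfl⟩
      rw [hψ, Finset.mem_singleton] at e5 hχO
      rw [e5, hχO]

theorem comb [DecidablePred (· ∈ E)] (hp : p.Prime) (hU : Fintype.card U = p - 1)
    (hdeg : ∀ χ, 0 < deg χ)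
    (h1 : ∀ u w, ∑ χ, Δ u χ * Δ w χ = (Nat.card E : ℤ) + if u⁻¹ * w ∈ E then 1 else 0)
    (h2 : ∀ u, ∑ χ, Δ u χ * deg χ = 0)
    (h3 : ∀ (k u : U) χ, Δ u (k • χ) = Δ (k⁻¹ * u) χ)
    (h4 : ∀ χ, ¬ (p : ℤ) ∣ ∑ u, Δ u χ)
    (h5 : ∀ (O : Finset B) (χ : B), (∀ ψ, ψ ∈ O ↔ ∃ k : U, k • χ = ψ) →
      |∑ ψ ∈ O, ∑ u, Δ u ψ| ≤ (p : ℤ)) :
    ∃ (R : B → ℤ) (ε : ℤ) (x : U ⧸ E → B), (ε = 1 ∨ ε = -1) ∧ Function.Injective x ∧
      (∀ u χ, Δ u χ = R χ + if x (QuotientGroup.mk u) = χ then ε else 0) ∧
      (∀ χ, (∀ i, x i ≠ χ) → (R χ = 1 ∨ R χ = -1) ∧ ∀ k : U, k • χ = χ) ∧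
      (∀ i, R (x i) = 0) ∧
      (∀ (k u : U), k • x (QuotientGroup.mk u) = x (QuotientGroup.mk (k * u))) ∧
      Nat.card {χ // ∀ i, x i ≠ χ} = Nat.card E := by
  classical
  haveI : Fintype (U ⧸ E) := Fintype.ofFinite _
  have hX : ∀ {χ : B} {a : ℤ}, (∀ u, Δ u χ = a) → (a = 1 ∨ a = -1) ∧ ∀ k : U, k • χ = χ :=
    fun ha => xtype (E := E) hp hU h1 h3 h4 h5 ha
  -- `Δ` is constant on cosets
  have hcos : ∀ u w : U, u⁻¹ * w ∈ E → ∀ χ, Δ u χ = Δ w χ := by
    intro u w huw
    have e1 : ∑ χ, (Δ u χ - Δ w χ) * (Δ u χ - Δ w χ) = 0 := by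
      have : ∑ χ, (Δ u χ - Δ w χ) * (Δ u χ - Δ w χ) = ∑ χ, Δ u χ * Δ u χ - 2 * ∑ χ, Δ u χ * Δ w χ +
          ∑ χ, Δ w χ * Δ w χ := by
        rw [Finset.mul_sum, ← Finset.sum_sub_distrib, ← Finset.sum_add_distrib]
        exact Finset.sum_congr rfl fun χ _ => by ring
      rw [this, h1, h1, h1, if_pos (by simp), if_pos huw, if_pos (by simp)]
      ring
    rw [Finset.sum_eq_zero_iff_of_nonneg (fun χ _ => mul_self_nonneg _)] at e1
    intro χ
    exact sub_eq_zero.mp (mul_self_eq_zero.mp (e1 χ (Finset.mem_univ _)))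
  let D : U ⧸ E → B → ℤ := fun i => Δ i.out
  have hD : ∀ u, D (QuotientGroup.mk u) = Δ u := by
    intro u
    funext χ
    apply hcos
    rw [← QuotientGroup.eq]
    exact QuotientGroup.out_eq' _
  have hD' : ∀ i : U ⧸ E, ∃ u, QuotientGroup.mk u = i := fun i => ⟨i.out, QuotientGroup.out_eq' i⟩
  have g1 : ∀ i j, ∑ χ, D i χ * D j χ = (Nat.card E : ℤ) + if i = j then 1 else 0 := by
    intro i j
    obtain ⟨u, rfl⟩ := hD' i
    obtain ⟨w, rfl⟩ := hD' j
    rw [hD, hD, h1]
    congr 1
    by_cases h : u⁻¹ * w ∈ E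
    · rw [if_pos h, if_pos (QuotientGroup.eq.mpr h)]
    · rw [if_neg h, if_neg (fun h' => h (QuotientGroup.eq.mp h'))]
  have g2 : ∀ i, ∑ χ, D i χ * deg χ = 0 := fun i => h2 _
  have hct : (p - 1 : ℕ) = Nat.card E * Fintype.card (U ⧸ E) := by
    rw [← hU, ← Nat.card_eq_fintype_card, ← Nat.card_eq_fintype_card,
      Subgroup.card_eq_card_quotient_mul_card_subgroup E, mul_comm]
  have hE0 : 0 < Nat.card E := Nat.card_pos
  have key : ∃ (R : B → ℤ) (ε : ℤ) (x : U ⧸ E → B), (ε = 1 ∨ ε = -1) ∧ Function.Injective x ∧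
      (∀ i χ, D i χ = R χ + if x i = χ then ε else 0) ∧ ∀ i, R (x i) = 0 := by
    rcases Nat.lt_or_ge (Fintype.card (U ⧸ E)) 2 with ht | ht
    · -- one class
      have ht1 : Fintype.card (U ⧸ E) ≤ 1 := by omega
      haveI hss : Subsingleton (U ⧸ E) := Fintype.card_le_one_iff_subsingleton.mp ht1
      let i0 : U ⧸ E := QuotientGroup.mk 1
      have hall : ∀ u χ, Δ u χ = D i0 χ := by
        intro u χ
        rw [← hD u]
        congr 1
        exact Subsingleton.elim _ _
      have hne : ∃ χ0 : B, True := by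
        by_contra hcon
        push Not at hcon
        have e1 := g1 i0 i0
        rw [if_pos rfl, Finset.sum_eq_zero (fun χ _ => (hcon χ).elim)] at e1
        linarith [(Nat.cast_nonneg (Nat.card E) : (0 : ℤ) ≤ Nat.card E)]
      obtain ⟨χ0, -⟩ := hne
      refine ⟨fun χ => D i0 χ - if χ0 = χ then D i0 χ0 else 0, D i0 χ0, fun _ => χ0,
        (hX (fun u => hall u χ0)).1, fun i j _ => Subsingleton.elim _ _, fun i χ => ?_, fun i => ?_⟩
      · rw [Subsingleton.elim i i0]; ring
      · simp
    · obtain ⟨R, ε, x, hε, hx, hR⟩ := coherence D (Nat.card E : ℤ) deg hdeg g1 g2 ht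
      have hεε : ε * ε = 1 := by rcases hε with h | h <;> rw [h] <;> norm_num
      -- the Gram matrix
      have hgram : ∀ i, ∑ χ, R χ * R χ + 2 * ε * R (x i) = Nat.card E := by
        intro i
        have e1 := g1 i i
        rw [if_pos rfl] at e1
        simp only [hR] at e1
        have e2 : ∀ χ, (R χ + if x i = χ then ε else 0) * (R χ + if x i = χ then ε else 0) =
            R χ * R χ + if x i = χ then (2 * ε * R χ + 1) else 0 := by
          intro χ
          split_ifs
          · linear_combination hεε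
          · ring
        simp only [e2, Finset.sum_add_distrib, Finset.sum_ite_eq, Finset.mem_univ, if_true] at e1
        linarith
      obtain ⟨i0⟩ : Nonempty (U ⧸ E) := Fintype.card_pos_iff.mp (by omega)
      have hconst : ∀ i, R (x i) = R (x i0) := by
        intro i
        have e1 := hgram i
        have e2 := hgram i0
        have e3 : ε * (R (x i) - R (x i0)) = 0 := by linarith
        rcases hε with h | h
        · rw [h] at e3; linarith
        · rw [h] at e3; linarith
      set c := R (x i0) with hc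
      have hXR : ∀ χ, (∀ i, x i ≠ χ) → (R χ = 1 ∨ R χ = -1) ∧ ∀ k : U, k • χ = χ := by
        intro χ hχ
        apply hX
        intro u
        rw [← hD u, hR, if_neg (hχ _), add_zero]
      have hmem : ∀ (k : U) i, ∃ l, x l = k • x i := by
        intro k i
        by_contra hcon
        push Not at hcon
        have e1 := (hXR _ hcon).2 k⁻¹
        rw [inv_smul_smul] at e1
        exact hcon i e1
      have hact : ∀ (k u : U), k • x (QuotientGroup.mk u) = x (QuotientGroup.mk (k * u)) := by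
        intro k u
        obtain ⟨l, hl⟩ := hmem k (QuotientGroup.mk u)
        obtain ⟨w, rfl⟩ := hD' l
        have e1 := h3 k w (x (QuotientGroup.mk u))
        rw [← hl, ← hD, hR, if_pos rfl, hconst, ← hD, hR, hconst] at e1
        have e2 : x (QuotientGroup.mk (k⁻¹ * w)) = x (QuotientGroup.mk u) := by
          by_contra h
          rw [if_neg h] at e1
          rcases hε with h' | h' <;> rw [h'] at e1 <;> linarith
        have e3 := hx e2
        rw [← hl]
        congr 1
        rw [QuotientGroup.eq] at e3 ⊢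
        have e4 : w⁻¹ * (k * u) = (k⁻¹ * w)⁻¹ * u := by
          rw [mul_inv_rev, inv_inv, mul_assoc]
        rw [e4]
        exact e3
      -- the orbit
      have hO := h5 (Finset.univ.image x) (x (QuotientGroup.mk 1)) (by
        intro ψ
        constructor
        · intro h
          obtain ⟨i, -, rfl⟩ := Finset.mem_image.mp h
          obtain ⟨w, rfl⟩ := hD' i
          exact ⟨w, by rw [hact, mul_one]⟩
        · rintro ⟨k, rfl⟩
          rw [hact]
          exact Finset.mem_image_of_mem _ (Finset.mem_univ _))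
      have hsum : ∑ ψ ∈ Finset.univ.image x, ∑ u, Δ u ψ =
          ((p - 1 : ℕ) : ℤ) * ((Fintype.card (U ⧸ E) : ℤ) * c + ε) := by
        rw [Finset.sum_image (fun i _ j _ h => hx h), Finset.sum_comm]
        have e1 : ∀ u : U, ∑ i, Δ u (x i) = (Fintype.card (U ⧸ E) : ℤ) * c + ε := by
          intro u
          rw [← hD u]
          simp only [hR, hconst, hx.eq_iff, Finset.sum_add_distrib, Finset.sum_const,
            Finset.card_univ, nsmul_eq_mul, Finset.sum_ite_eq, Finset.mem_univ, if_true]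
        rw [Finset.sum_congr rfl (fun u _ => e1 u), Finset.sum_const, Finset.card_univ, hU,
          nsmul_eq_mul]
      have hp3 : 3 ≤ p := by
        have : 2 ≤ p - 1 := by
          rw [hct]
          calc 2 = 1 * 2 := by norm_num
            _ ≤ _ := Nat.mul_le_mul hE0 ht
        omega
      have hp3' : (3 : ℤ) ≤ p := by exact_mod_cast hp3
      have hq : ((p - 1 : ℕ) : ℤ) = (p : ℤ) - 1 := by
        rw [Nat.cast_sub (by omega)]; rfl
      rw [hsum, abs_mul, hq, abs_of_pos (by linarith : (0 : ℤ) < (p : ℤ) - 1)] at hO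
      have habs : |(Fintype.card (U ⧸ E) : ℤ) * c + ε| ≤ 1 := by
        by_contra hcon
        push Not at hcon
        have e2 : ((p : ℤ) - 1) * 2 ≤ p := by
          calc ((p : ℤ) - 1) * 2 ≤ ((p : ℤ) - 1) * |(Fintype.card (U ⧸ E) : ℤ) * c + ε| := by
                apply mul_le_mul_of_nonneg_left _ (by linarith)
                linarith
            _ ≤ p := hO
        linarith
      have hne : (Fintype.card (U ⧸ E) : ℤ) * c + ε ≠ 0 := by
        intro h0
        apply h4 (x i0)
        have e1 : ∑ u, Δ u (x i0) = (Nat.card E : ℤ) * ((Fintype.card (U ⧸ E) : ℤ) * c + ε) := by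
          have e2 : ∀ u, Δ u (x i0) = c + if (QuotientGroup.mk u : U ⧸ E) = i0 then ε else 0 := by
            intro u
            rw [← hD u, hR]
            simp only [hx.eq_iff, ← hc]
          simp only [e2, Finset.sum_add_distrib, Finset.sum_const, Finset.card_univ, hU, nsmul_eq_mul]
          rw [hct]
          have e3 : ∑ u : U, (if (QuotientGroup.mk u : U ⧸ E) = i0 then ε else 0) =
              (Nat.card E : ℤ) * ε := by
            rw [← Finset.sum_filter, Finset.sum_const, nsmul_eq_mul]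
            congr 1
            obtain ⟨w, rfl⟩ := hD' i0
            rw [Nat.card_eq_fintype_card, ← Finset.card_univ]
            norm_cast
            symm
            apply Finset.card_bij (fun (y : E) _ => w * (y : U))
            · intro y _
              rw [Finset.mem_filter]
              refine ⟨Finset.mem_univ _, ?_⟩
              rw [QuotientGroup.mk_mul_of_mem _ y.2]
            · intro y _ z _ hyz
              exact Subtype.ext (mul_left_cancel hyz)
            · intro u hu
              have := (Finset.mem_filter.mp hu).2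
              refine ⟨⟨w⁻¹ * u, QuotientGroup.eq.mp this.symm⟩, Finset.mem_univ _, ?_⟩
              rw [mul_inv_cancel_left]
          rw [e3]
          push_cast
          ring
        rw [e1, h0, mul_zero]
        exact dvd_zero _
      have hcase : c = 0 ∨ (Fintype.card (U ⧸ E) = 2 ∧ c = -ε) := by
        have e1 : (2 : ℤ) ≤ Fintype.card (U ⧸ E) := by exact_mod_cast ht
        have e2 := abs_le.mp habs
        rcases eq_or_ne c 0 with h | h
        · exact Or.inl h
        · right
          have e3 : Fintype.card (U ⧸ E) = 2 := by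
            by_contra hne2
            have e4 : (3 : ℤ) ≤ Fintype.card (U ⧸ E) := by
              have : 3 ≤ Fintype.card (U ⧸ E) := by omega
              exact_mod_cast this
            rcases lt_or_gt_of_ne h with h' | h'
            · have : c ≤ -1 := by omega
              rcases hε with h'' | h'' <;> rw [h''] at e2 <;> nlinarith
            · have : 1 ≤ c := by omega
              rcases hε with h'' | h'' <;> rw [h''] at e2 <;> nlinarith
          refine ⟨e3, ?_⟩
          rw [e3] at e2 hne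
          push_cast at e2 hne
          rcases hε with h'' | h'' <;> rw [h''] at e2 hne ⊢ <;> omega
      rcases hcase with hc0 | ⟨ht2, hcε⟩
      · exact ⟨R, ε, x, hε, hx, hR, fun i => by rw [hconst, hc0]⟩
      · -- relabel
        obtain ⟨i1, hi1⟩ : ∃ i1, i1 ≠ i0 := by
          have : Nontrivial (U ⧸ E) := Fintype.one_lt_card_iff_nontrivial.mp (by omega)
          exact exists_ne i0
        have hall : ∀ i : U ⧸ E, i = i0 ∨ i = i1 := by
          intro i
          by_contra hcon
          push Not at hcon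
          have e1 : ({i, i0, i1} : Finset (U ⧸ E)).card = 3 := by
            rw [Finset.card_insert_of_notMem (by simp [hcon.1, hcon.2]),
              Finset.card_insert_of_notMem (by simp [Ne.symm hi1]), Finset.card_singleton]
          have e2 := Finset.card_le_univ ({i, i0, i1} : Finset (U ⧸ E))
          rw [e1, ht2] at e2
          omega
        refine ⟨fun χ => if ∃ i, x i = χ then 0 else R χ, -ε, x ∘ Equiv.swap i0 i1, ?_,
          hx.comp (Equiv.injective _), fun i χ => ?_, fun i => ?_⟩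
        · rcases hε with h | h
          · right; rw [h]
          · left; rw [h]; norm_num
        · rw [hR]
          beta_reduce
          by_cases hχ : ∃ i, x i = χ
          · rw [if_pos hχ]
            obtain ⟨j, rfl⟩ := hχ
            rw [hconst, hcε]
            simp only [Function.comp_apply, hx.eq_iff]
            rcases hall i with rfl | rfl <;> rcases hall j with rfl | rfl <;>
              simp [hi1, Ne.symm hi1]
          · rw [if_neg hχ]
            push Not at hχ
            rw [if_neg (hχ i), Function.comp_apply, if_neg (hχ _)]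
        · exact if_pos ⟨_, rfl⟩
  obtain ⟨R, ε, x, hε, hx, hR, hR0⟩ := key
  have hXR : ∀ χ, (∀ i, x i ≠ χ) → (R χ = 1 ∨ R χ = -1) ∧ ∀ k : U, k • χ = χ := by
    intro χ hχ
    apply hX
    intro u
    rw [← hD u, hR, if_neg (hχ _), add_zero]
  refine ⟨R, ε, x, hε, hx, fun u χ => by rw [← hD u]; exact hR _ _, hXR, hR0, ?_, ?_⟩
  · intro k u
    have hmem : ∃ l, x l = k • x (QuotientGroup.mk u) := by
      by_contra hcon
      push Not at hcon
      have e1 := (hXR _ hcon).2 k⁻¹
      rw [inv_smul_smul] at e1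
      exact hcon _ e1
    obtain ⟨l, hl⟩ := hmem
    obtain ⟨w, rfl⟩ := hD' l
    have e1 := h3 k w (x (QuotientGroup.mk u))
    rw [← hl, ← hD, hR, if_pos rfl, hR0, ← hD, hR, hR0] at e1
    have e2 : x (QuotientGroup.mk (k⁻¹ * w)) = x (QuotientGroup.mk u) := by
      by_contra h
      rw [if_neg h] at e1
      rcases hε with h' | h' <;> rw [h'] at e1 <;> linarith
    have e3 := hx e2
    rw [← hl]
    congr 1
    rw [QuotientGroup.eq] at e3 ⊢
    have e4 : w⁻¹ * (k * u) = (k⁻¹ * w)⁻¹ * u := by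
      rw [mul_inv_rev, inv_inv, mul_assoc]
    rw [e4]
    exact e3
  · -- the count
    let i0 : U ⧸ E := QuotientGroup.mk 1
    have e1 := g1 i0 i0
    rw [if_pos rfl] at e1
    simp only [hR] at e1
    have hεε : ε * ε = 1 := by rcases hε with h | h <;> rw [h] <;> norm_num
    have e2 : ∀ χ, (R χ + if x i0 = χ then ε else 0) * (R χ + if x i0 = χ then ε else 0) =
        (if ∀ i, x i ≠ χ then 1 else 0) + if x i0 = χ then 1 else 0 := by
      intro χ
      by_cases hχ : ∀ i, x i ≠ χ
      · rw [if_neg (hχ i0), if_pos hχ, if_neg (hχ i0)]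
        rcases (hXR χ hχ).1 with h | h <;> rw [h] <;> norm_num
      · rw [if_neg hχ]
        push Not at hχ
        obtain ⟨j, rfl⟩ := hχ
        rw [hR0]
        split_ifs
        · linarith
        · norm_num
    simp only [e2, Finset.sum_add_distrib, Finset.sum_ite_eq, Finset.mem_univ, if_true] at e1
    have e3 : ∑ χ : B, (if ∀ i, x i ≠ χ then (1 : ℤ) else 0) = (Nat.card E : ℤ) := by linarith
    rw [← Finset.sum_filter, Finset.sum_const, nsmul_eq_mul, mul_one] at e3
    have e4 : (Finset.univ.filter fun χ : B => ∀ i, x i ≠ χ).card = Nat.card E := by exact_mod_cast e3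
    rw [Nat.card_eq_fintype_card, Fintype.card_subtype, e4]

end comb

end Cfsg.Agent.Lib.DefComb
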