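import Mathlib
import Cfsg.Agent.Lib.SubgroupTools

/-!
# Recognition of `SL(2,3)` (helper2)
-/

set_option autoImplicit false

open Subgroup
open scoped Pointwise commutatorElement

namespace Cfsg.Agent.Lib.SLTwoThree

variable {G : Type*} [Group G]

/-- The defining relations of `SL(2,3) = Q₈ ⋊ C₃`. -/
structure Rel (x y g : G) : Prop where
  x4 : x ^ 4 = 1
  sq : y ^ 2 = x ^ 2
  conj : y * x * y⁻¹ = x⁻¹
  gx : g * x * g⁻¹ = y
  gy : g * y * g⁻¹ = x * y
  g3 : g ^ 3 = 1

theorem mem_normalizer_of_conj_le [Finite G] {H : Subgroup G} {g : G} (h : ∀ x ∈ H, g * x * g⁻¹ ∈ H) :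
    g ∈ normalizer (H : Set G) := by
  rw [SubgroupTools.mem_normalizer_iff_conj_smul]
  apply Subgroup.eq_of_le_of_card_ge
  · intro x hx
    rw [SubgroupTools.mem_conj_smul] at hx
    have := h _ hx
    have e : g * (g⁻¹ * x * g) * g⁻¹ = x := by group
    rwa [e] at this
  · rw [SubgroupTools.card_conj_smul]

theorem Rel.y_mem_normalizer [Finite G] {x y g : G} (h : Rel x y g) : zpowers y ≤ normalizer (zpowers x : Set G) := by
  rw [zpowers_le]
  apply mem_normalizer_of_conj_le
  rintro _ ⟨k, rfl⟩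
  simp only
  rw [← conj_zpow, h.conj]
  exact zpow_mem (inv_mem (mem_zpowers x)) k

theorem card_quaternion_le [Finite G] {x y g : G} (h : Rel x y g) :
    Nat.card (zpowers x ⊔ zpowers y : Subgroup G) ≤ 8 := by
  have h1 := SubgroupTools.card_sup_mul_card_inf h.y_mem_normalizer
  have hx : Nat.card (zpowers x) ≤ 4 := by
    rw [Nat.card_zpowers]
    exact Nat.le_of_dvd (by norm_num) (orderOf_dvd_of_pow_eq_one h.x4)
  have hy : Nat.card (zpowers y) ≤ 2 * Nat.card (zpowers x ⊓ zpowers y : Subgroup G) := by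
    have h2 : zpowers (y ^ 2) ≤ zpowers x ⊓ zpowers y := by
      rw [zpowers_le]
      refine ⟨?_, pow_mem (mem_zpowers y) 2⟩
      rw [h.sq]
      exact pow_mem (mem_zpowers x) 2
    have h3 := Subgroup.card_le_of_le h2
    rw [Nat.card_zpowers] at h3 ⊢
    have h4 := orderOf_pow' y (n := 2) (by norm_num)
    have h5 : Nat.gcd (orderOf y) 2 ≤ 2 := Nat.gcd_le_right _ (by norm_num)
    have h6 : Nat.gcd (orderOf y) 2 ∣ orderOf y := Nat.gcd_dvd_left _ _
    have h7 : orderOf y = orderOf (y ^ 2) * Nat.gcd (orderOf y) 2 := by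
      rw [h4, Nat.div_mul_cancel h6]
    calc orderOf y = orderOf (y ^ 2) * Nat.gcd (orderOf y) 2 := h7
      _ ≤ orderOf (y ^ 2) * 2 := Nat.mul_le_mul_left _ h5
      _ ≤ 2 * Nat.card (zpowers x ⊓ zpowers y : Subgroup G) := by omega
  have hpos : 0 < Nat.card (zpowers x ⊓ zpowers y : Subgroup G) := Nat.card_pos
  by_contra hgt
  push Not at hgt
  have h8 : 9 * Nat.card (zpowers x ⊓ zpowers y : Subgroup G) ≤
      Nat.card (zpowers x ⊔ zpowers y : Subgroup G) * Nat.card (zpowers x ⊓ zpowers y : Subgroup G) :=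
    Nat.mul_le_mul_right _ hgt
  have h9 : Nat.card (zpowers x) * Nat.card (zpowers y) ≤ 4 * (2 * Nat.card (zpowers x ⊓ zpowers y : Subgroup G)) :=
    Nat.mul_le_mul hx hy
  omega

theorem g_mem_normalizer [Finite G] {x y g : G} (h : Rel x y g) :
    zpowers g ≤ normalizer ((zpowers x ⊔ zpowers y : Subgroup G) : Set G) := by
  rw [zpowers_le]
  apply mem_normalizer_of_conj_le
  intro u hu
  have hx : x ∈ zpowers x ⊔ zpowers y := mem_sup_left (mem_zpowers x)
  have hy : y ∈ zpowers x ⊔ zpowers y := mem_sup_right (mem_zpowers y)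
  obtain ⟨_, ⟨i, rfl⟩, _, ⟨j, rfl⟩, rfl⟩ := (SubgroupTools.mem_sup_of_le_normalizer h.y_mem_normalizer).mp hu
  simp only
  have e : g * (x ^ i * y ^ j) * g⁻¹ = (g * x * g⁻¹) ^ i * (g * y * g⁻¹) ^ j := by
    rw [conj_zpow, conj_zpow]; group
  rw [e, h.gx, h.gy]
  exact mul_mem (zpow_mem hy i) (zpow_mem (mul_mem hx hy) j)

theorem card_closure_le [Finite G] {x y g : G} (h : Rel x y g) :
    Nat.card (Subgroup.closure {x, y, g}) ≤ 24 := by
  have h1 : Subgroup.closure {x, y, g} ≤ (zpowers x ⊔ zpowers y) ⊔ zpowers g := by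
    rw [closure_le]
    rintro u (rfl | rfl | rfl)
    · exact mem_sup_left (mem_sup_left (mem_zpowers _))
    · exact mem_sup_left (mem_sup_right (mem_zpowers _))
    · exact mem_sup_right (mem_zpowers _)
  have h2 := SubgroupTools.card_sup_mul_card_inf (g_mem_normalizer h)
  have h3 : Nat.card (zpowers g) ≤ 3 := by
    rw [Nat.card_zpowers]
    exact Nat.le_of_dvd (by norm_num) (orderOf_dvd_of_pow_eq_one h.g3)
  have hpos : 0 < Nat.card ((zpowers x ⊔ zpowers y) ⊓ zpowers g : Subgroup G) := Nat.card_pos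
  calc Nat.card (Subgroup.closure {x, y, g}) ≤ Nat.card ((zpowers x ⊔ zpowers y) ⊔ zpowers g : Subgroup G) :=
        Subgroup.card_le_of_le h1
    _ ≤ Nat.card ((zpowers x ⊔ zpowers y) ⊔ zpowers g : Subgroup G) *
        Nat.card ((zpowers x ⊔ zpowers y) ⊓ zpowers g : Subgroup G) := Nat.le_mul_of_pos_right _ hpos
    _ = Nat.card (zpowers x ⊔ zpowers y : Subgroup G) * Nat.card (zpowers g) := h2
    _ ≤ 8 * 3 := Nat.mul_le_mul (card_quaternion_le h) h3
    _ = 24 := by norm_num

/-- Two groups of order 24 generated by triples satisfying the relations are isomorphic. -/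
theorem nonempty_mulEquiv {A B : Type*} [Group A] [Group B] {x y g : A} {x' y' g' : B} (h : Rel x y g)
    (h' : Rel x' y' g') (hA : Nat.card A = 24) (hB : Nat.card B = 24) (hgA : Subgroup.closure {x, y, g} = ⊤)
    (hgB : Subgroup.closure {x', y', g'} = ⊤) : Nonempty (A ≃* B) := by
  have fA : Finite A := Nat.finite_of_card_ne_zero (by omega)
  have fB : Finite B := Nat.finite_of_card_ne_zero (by omega)
  have hR : Rel ((x, x') : A × B) (y, y') (g, g') := by
    refine ⟨?_, ?_, ?_, ?_, ?_, ?_⟩ <;> apply Prod.ext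
    · exact h.x4
    · exact h'.x4
    · exact h.sq
    · exact h'.sq
    · exact h.conj
    · exact h'.conj
    · exact h.gx
    · exact h'.gx
    · exact h.gy
    · exact h'.gy
    · exact h.g3
    · exact h'.g3
  set Γ := Subgroup.closure {((x, x') : A × B), (y, y'), (g, g')} with hΓ
  have hcard : Nat.card Γ ≤ 24 := card_closure_le hR
  have s1 : Function.Surjective ((MonoidHom.fst A B).comp Γ.subtype) := by
    rw [← MonoidHom.range_eq_top, MonoidHom.range_comp, Subgroup.range_subtype, hΓ, MonoidHom.map_closure, ← hgA]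
    congr 1
    simp [Set.image_insert_eq]
  have s2 : Function.Surjective ((MonoidHom.snd A B).comp Γ.subtype) := by
    rw [← MonoidHom.range_eq_top, MonoidHom.range_comp, Subgroup.range_subtype, hΓ, MonoidHom.map_closure, ← hgB]
    congr 1
    simp [Set.image_insert_eq]
  have c1 : Nat.card Γ = Nat.card A :=
    le_antisymm (hcard.trans hA.ge) (Nat.card_le_card_of_surjective _ s1)
  have c2 : Nat.card Γ = Nat.card B :=
    le_antisymm (hcard.trans hB.ge) (Nat.card_le_card_of_surjective _ s2)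
  have b1 : Function.Bijective ((MonoidHom.fst A B).comp Γ.subtype) :=
    (Nat.bijective_iff_surjective_and_card _).mpr ⟨s1, c1⟩
  have b2 : Function.Bijective ((MonoidHom.snd A B).comp Γ.subtype) :=
    (Nat.bijective_iff_surjective_and_card _).mpr ⟨s2, c2⟩
  exact ⟨(MulEquiv.ofBijective _ b1).symm.trans (MulEquiv.ofBijective _ b2)⟩

section concrete

open Matrix

abbrev SL := Matrix.SpecialLinearGroup (Fin 2) (ZMod 3)

def X : SL := ⟨!![0, 1; 2, 0], by decide⟩
def Y : SL := ⟨!![2, 1; 1, 1], by decide⟩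
def T : SL := ⟨!![1, 0; 1, 1], by decide⟩

theorem rel_SL : Rel X Y T := by
  refine ⟨?_, ?_, ?_, ?_, ?_, ?_⟩ <;> decide +kernel

theorem words (M : SL) : ∃ i : Fin 4, ∃ j : Fin 2, ∃ k : Fin 3, M = X ^ (i : ℕ) * Y ^ (j : ℕ) * T ^ (k : ℕ) := by
  revert M
  decide +kernel

theorem words_inj : Function.Injective (fun t : Fin 4 × Fin 2 × Fin 3 =>
    X ^ (t.1 : ℕ) * Y ^ (t.2.1 : ℕ) * T ^ (t.2.2 : ℕ)) := by
  rw [Function.Injective]
  decide +kernel

theorem card_SL : Nat.card SL = 24 := by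
  have hb : Function.Bijective (fun t : Fin 4 × Fin 2 × Fin 3 =>
    X ^ (t.1 : ℕ) * Y ^ (t.2.1 : ℕ) * T ^ (t.2.2 : ℕ)) := by
    refine ⟨words_inj, fun M => ?_⟩
    obtain ⟨i, j, k, h⟩ := words M
    exact ⟨(i, j, k), h.symm⟩
  rw [← Nat.card_congr (Equiv.ofBijective _ hb)]
  simp

theorem closure_SL : Subgroup.closure {X, Y, T} = ⊤ := by
  rw [eq_top_iff]
  intro M _
  obtain ⟨i, j, k, rfl⟩ := words M
  have hX : X ∈ Subgroup.closure {X, Y, T} := subset_closure (by simp)
  have hY : Y ∈ Subgroup.closure {X, Y, T} := subset_closure (by simp)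
  have hT : T ∈ Subgroup.closure {X, Y, T} := subset_closure (by simp)
  exact mul_mem (mul_mem (pow_mem hX _) (pow_mem hY _)) (pow_mem hT _)

/-- Recognition of `SL(2,3)`. -/
theorem equiv_SL {A : Type*} [Group A] {x y g : A} (h : Rel x y g) (hA : Nat.card A = 24)
    (hgA : Subgroup.closure {x, y, g} = ⊤) : Nonempty (A ≃* Matrix.SpecialLinearGroup (Fin 2) (ZMod 3)) :=
  nonempty_mulEquiv h rel_SL hA card_SL hgA closure_SL

end concrete

end Cfsg.Agent.Lib.SLTwoThree
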