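import Mathlib
import Cfsg.Agent.Lib.SubgroupTools
import Cfsg.Agent.Lib.CoprimeAction2
import Cfsg.Agent.Lib.UniqueInvolution
import Cfsg.Agent.Lib.SLTwoThree

/-!
# Odd order automorphisms of `2`-groups with a unique involution (helper2)
-/

set_option autoImplicit false

open Subgroup
open scoped Pointwise commutatorElement

namespace Cfsg.Agent.Lib.QuatSylow

open Cfsg.Agent.Lib.SLTwoThree (mem_normalizer_of_conj_le)

variable {G : Type*} [Group G]

/-- An odd order element normalizing an abelian subgroup with at most one involution centralizes it. -/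
theorem commute_of_abelian [Finite G] {Q : Subgroup G} (hQ : IsPGroup 2 Q)
    (hinv : ∀ u ∈ Q, ∀ v ∈ Q, orderOf u = 2 → orderOf v = 2 → u = v) {g : G} (hg : Nat.Coprime (orderOf g) 2)
    (V : Subgroup G) (hVQ : V ≤ Q) (hV : ∀ a ∈ V, ∀ b ∈ V, a * b = b * a) (hgV : g ∈ normalizer (V : Set G)) :
    ∀ v ∈ V, g * v = v * g := by
  have hVc : IsMulCommutative V := ⟨⟨fun a b => Subtype.ext (hV a a.2 b b.2)⟩⟩
  have hA : zpowers g ≤ normalizer (V : Set G) := by rwa [zpowers_le]
  have hVp : IsPGroup 2 V := hQ.to_le hVQ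
  have hcop : (Nat.card (zpowers g)).Coprime (Nat.card V) := by
    obtain ⟨k, hk⟩ := IsPGroup.iff_card.mp hVp
    rw [hk, Nat.card_zpowers]
    exact Nat.Coprime.pow_right _ hg
  have h := CoprimeAction2.le_centralizer_of_prime_order hA hcop (by
    intro v hv hvp a ha
    have h2 : orderOf v = 2 := by
      obtain ⟨k, hk⟩ := (IsPGroup.iff_orderOf.mp hVp) ⟨v, hv⟩
      rw [Subgroup.orderOf_mk] at hk
      rw [hk] at hvp
      have hk1 : k = 1 := by
        by_contra hk1
        rcases Nat.lt_or_ge k 1 with h0 | h1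
        · have : k = 0 := by omega
          rw [this, pow_zero] at hvp
          exact Nat.not_prime_one hvp
        · have : 2 ≤ k := by omega
          exact Nat.Prime.not_prime_pow this hvp
      rw [hk, hk1, pow_one]
    have h3 : a * v * a⁻¹ ∈ V := ((mem_normalizer_iff.mp (hA ha)) v).mp hv
    have h4 : orderOf (a * v * a⁻¹) = 2 := by
      have : a * v * a⁻¹ = MulAut.conj a v := by simp
      rw [this, MulEquiv.orderOf_eq, h2]
    have h5 := hinv _ (hVQ h3) _ (hVQ hv) h4 h2
    calc a * v = a * v * a⁻¹ * a := by group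
      _ = v * a := by rw [h5])
  intro v hv
  have := h (mem_zpowers g)
  rw [mem_centralizer_iff] at this
  exact (this v hv).symm

theorem commute_iff_mem_centralizer {Q : Subgroup G} {g : G} :
    g ∈ centralizer (Q : Set G) ↔ ∀ v ∈ Q, g * v = v * g := by
  rw [mem_centralizer_iff]
  exact ⟨fun h v hv => (h v hv).symm, fun h v hv => (h v hv).symm⟩

/-- Elements of `QuaternionGroup m` outside the cyclic subgroup have fourth power one. -/
theorem pow_four_of_not_mem {m : ℕ} [NeZero m] (q : QuaternionGroup m)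
    (hq : q ∉ zpowers (QuaternionGroup.a (1 : ZMod (2 * m)))) : q ^ 4 = 1 := by
  rcases q with i | i
  · exfalso
    apply hq
    refine ⟨(i.val : ℤ), ?_⟩
    simp only
    rw [zpow_natCast, QuaternionGroup.a_one_pow, ZMod.natCast_zmod_val]
  · rw [← orderOf_dvd_iff_pow_eq_one, QuaternionGroup.orderOf_xa]

theorem index_zpowers_a {m : ℕ} [NeZero m] :
    (zpowers (QuaternionGroup.a (1 : ZMod (2 * m)) : QuaternionGroup m)).index = 2 := by
  have h1 := (zpowers (QuaternionGroup.a (1 : ZMod (2 * m)) : QuaternionGroup m)).index_mul_card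
  rw [Nat.card_zpowers, QuaternionGroup.orderOf_a_one, Nat.card_eq_fintype_card, QuaternionGroup.card] at h1
  have hm : 0 < m := Nat.pos_of_ne_zero (NeZero.ne m)
  have h2 : (zpowers (QuaternionGroup.a (1 : ZMod (2 * m)) : QuaternionGroup m)).index * (2 * m) = 2 * (2 * m) := by
    rw [h1]; ring
  exact Nat.eq_of_mul_eq_mul_right (by omega) h2

/-- The key lemma: an odd order element acting nontrivially on a `2`-group `Q` with at most one involution: `Q` is
quaternion of order eight and the action is the standard one. -/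
theorem quaternion_action [Finite G] {Q : Subgroup G} (hQ : IsPGroup 2 Q)
    (hinv : ∀ u ∈ Q, ∀ v ∈ Q, orderOf u = 2 → orderOf v = 2 → u = v) {g : G} (hg : Nat.Coprime (orderOf g) 2)
    (hgN : g ∈ normalizer (Q : Set G)) (hgC : g ∉ centralizer (Q : Set G)) :
    ∃ x ∈ Q, ∃ y ∈ Q, orderOf x = 4 ∧ y ^ 2 = x ^ 2 ∧ y * x * y⁻¹ = x⁻¹ ∧ g * x * g⁻¹ = y ∧ g * y * g⁻¹ = x * y ∧
      Nat.card Q = 8 := by
  have hf2 : Fact (Nat.Prime 2) := ⟨Nat.prime_two⟩
  have key : ∀ V : Subgroup G, V ≤ Q → (∀ a ∈ V, ∀ b ∈ V, a * b = b * a) → g ∈ normalizer (V : Set G) →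
      ∀ v ∈ V, g * v = v * g := fun V h1 h2 h3 => commute_of_abelian hQ hinv hg V h1 h2 h3
  have hcyc : ∀ x ∈ Q, g * x * g⁻¹ ∈ zpowers x → g * x = x * g := by
    intro x hx hgx
    apply key (zpowers x) (by rwa [zpowers_le]) _ _ x (mem_zpowers x)
    · rintro _ ⟨i, rfl⟩ _ ⟨j, rfl⟩
      simp only
      rw [← zpow_add, ← zpow_add, add_comm]
    · apply mem_normalizer_of_conj_le
      rintro _ ⟨k, rfl⟩
      simp only
      rw [← conj_zpow]
      exact zpow_mem hgx k
  have hgg : ∀ x ∈ Q, g * x * g⁻¹ ∈ Q := fun x hx => ((mem_normalizer_iff.mp hgN) x).mp hx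
  have hordg : ∀ x : G, orderOf (g * x * g⁻¹) = orderOf x := by
    intro x
    have : g * x * g⁻¹ = MulAut.conj g x := by simp
    rw [this, MulEquiv.orderOf_eq]
  rcases UniqueInvolution.isCyclic_or_quaternion hQ (by
    intro u v hu hv
    rw [← Subgroup.orderOf_coe] at hu hv
    have : u = v := Subtype.ext (hinv u u.2 v v.2 hu hv)
    rw [this]
    exact mem_zpowers v) with hc | ⟨-, m, hm, ⟨e⟩⟩
  · exfalso
    apply hgC
    rw [commute_iff_mem_centralizer]
    apply key Q le_rfl _ hgN
    intro a ha b hb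
    obtain ⟨c, hc⟩ := hc
    obtain ⟨i, hi⟩ := hc ⟨a, ha⟩
    obtain ⟨j, hj⟩ := hc ⟨b, hb⟩
    have h1 : (⟨a, ha⟩ : Q) * ⟨b, hb⟩ = ⟨b, hb⟩ * ⟨a, ha⟩ := by
      rw [← hi, ← hj]
      simp only
      rw [← zpow_add, ← zpow_add, add_comm]
    exact congrArg Subtype.val h1
  · have hne : NeZero (2 ^ m) := ⟨by positivity⟩
    -- m = 1
    have hm1 : m = 1 := by
      by_contra hm1
      apply hgC
      set c : Q := e.symm (QuaternionGroup.a 1) with hcdef
      have hco : orderOf c = 2 * 2 ^ m := by
        rw [hcdef, MulEquiv.orderOf_eq, QuaternionGroup.orderOf_a_one]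
      have hci : (zpowers c).index = 2 := by
        rw [← index_zpowers_a (m := 2 ^ m)]
        have h1 : zpowers c = (zpowers (QuaternionGroup.a (1 : ZMod (2 * 2 ^ m)))).comap e.toMonoidHom := by
          ext u
          rw [mem_comap]
          constructor
          · rintro ⟨k, rfl⟩
            refine ⟨k, ?_⟩
            simp only
            show _ = e (c ^ k)
            rw [map_zpow, hcdef, e.apply_symm_apply]
          · rintro ⟨k, hk⟩
            refine ⟨k, ?_⟩
            simp only at hk ⊢
            apply e.injective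
            rw [map_zpow, hcdef, e.apply_symm_apply]
            exact hk
        rw [h1, Subgroup.index_comap_of_surjective _ e.surjective]
      have hout : ∀ u : Q, u ∉ zpowers c → u ^ 4 = 1 := by
        intro u hu
        apply e.injective
        rw [map_pow, map_one]
        apply pow_four_of_not_mem
        rintro ⟨k, hk⟩
        apply hu
        refine ⟨k, ?_⟩
        simp only at hk ⊢
        apply e.injective
        rw [map_zpow, hcdef, e.apply_symm_apply]
        exact hk
      have hC : g ∈ normalizer (zpowers (c : G) : Set G) := by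
        have hgc : g * c * g⁻¹ ∈ zpowers (c : G) := by
          by_contra hnot
          have h1 : (⟨g * c * g⁻¹, hgg c c.2⟩ : Q) ∉ zpowers c := by
            rintro ⟨k, hk⟩
            apply hnot
            refine ⟨k, ?_⟩
            have := congrArg Subtype.val hk
            simpa using this
          have h2 := hout _ h1
          have h3 : orderOf (g * (c : G) * g⁻¹) ∣ 4 := orderOf_dvd_of_pow_eq_one (congrArg Subtype.val h2)
          rw [hordg, Subgroup.orderOf_coe, hco] at h3
          have h4 : 2 * 2 ^ m ≤ 4 := Nat.le_of_dvd (by norm_num) h3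
          have h5 : 2 ^ 2 ≤ 2 ^ m := Nat.pow_le_pow_right (by norm_num) (by omega)
          omega
        apply mem_normalizer_of_conj_le
        rintro _ ⟨k, rfl⟩
        simp only
        rw [← conj_zpow]
        exact zpow_mem hgc k
      have hcQ : zpowers (c : G) ≤ Q := by rw [zpowers_le]; exact c.2
      have hmemc : ∀ u : Q, (u : G) ∈ zpowers (c : G) ↔ u ∈ zpowers c := by
        intro u
        constructor
        · rintro ⟨k, hk⟩
          exact ⟨k, Subtype.ext (by simpa using hk)⟩
        · rintro ⟨k, hk⟩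
          refine ⟨k, ?_⟩
          have := congrArg Subtype.val hk
          simpa using this
      have hcc := key (zpowers (c : G)) hcQ (by
        rintro _ ⟨i, rfl⟩ _ ⟨j, rfl⟩
        simp only
        rw [← zpow_add, ← zpow_add, add_comm]) hC
      have hA : zpowers g ≤ normalizer (Q : Set G) := by rwa [zpowers_le]
      have hAC : zpowers g ≤ normalizer (zpowers (c : G) : Set G) := by rwa [zpowers_le]
      have hcop : (Nat.card (zpowers g)).Coprime (Nat.card Q) := by
        obtain ⟨k, hk⟩ := IsPGroup.iff_card.mp hQ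
        rw [hk, Nat.card_zpowers]
        exact Nat.Coprime.pow_right _ hg
      have hsolv : Group.IsSolvable (zpowers g) := Group.isSolvable_of_comm (fun a b => mul_comm' a b)
      have h1 := CoprimeAction2.le_centralizer_of_series hA hcop (Or.inl hsolv) (N := zpowers (c : G)) (by
        rw [commutator_le]
        intro u hu a ha
        have h6 : a * u⁻¹ * a⁻¹ ∈ Q := ((mem_normalizer_iff.mp (hA ha)) _).mp (inv_mem hu)
        have h7 : ⁅u, a⁆ = u * (a * u⁻¹ * a⁻¹) := by rw [commutatorElement_def]; group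
        rw [h7]
        have h8 := hmemc (⟨u, hu⟩ * ⟨a * u⁻¹ * a⁻¹, h6⟩)
        rw [show u * (a * u⁻¹ * a⁻¹) = (((⟨u, hu⟩ : Q) * ⟨a * u⁻¹ * a⁻¹, h6⟩ : Q) : G) from rfl, h8,
          Subgroup.mul_mem_iff_of_index_two hci, ← hmemc, ← hmemc]
        show u ∈ zpowers (c : G) ↔ a * u⁻¹ * a⁻¹ ∈ zpowers (c : G)
        rw [← (mem_normalizer_iff.mp (hAC ha)) (u⁻¹), inv_mem_iff]) (by
        intro v hv
        rw [mem_centralizer_iff]
        rintro _ ⟨k, rfl⟩
        simp only
        have h9 : Commute g v := hcc v hv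
        exact (h9.zpow_left k).eq)
      rw [commute_iff_mem_centralizer]
      intro v hv
      exact (mem_centralizer_iff.mp (h1 hv)) g (mem_zpowers g)
    subst hm1
    have hcard : Nat.card Q = 8 := by
      rw [Nat.card_congr e.toEquiv, Nat.card_eq_fintype_card, QuaternionGroup.card]
      norm_num
    -- an element moved out of its cyclic group
    obtain ⟨x, hxQ, hx⟩ : ∃ x ∈ Q, g * x * g⁻¹ ∉ zpowers x := by
      by_contra hall
      push Not at hall
      apply hgC
      rw [commute_iff_mem_centralizer]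
      exact fun v hv => hcyc v hv (hall v hv)
    have hoQ : ∀ u ∈ Q, ∃ k ≤ 3, orderOf u = 2 ^ k := by
      intro u hu
      have h1 : orderOf u ∣ 2 ^ 3 := by
        have := orderOf_dvd_natCard (⟨u, hu⟩ : Q)
        rw [Subgroup.orderOf_mk, hcard] at this
        simpa using this
      exact (Nat.dvd_prime_pow Nat.prime_two).mp h1
    have hox : orderOf x = 4 := by
      obtain ⟨k, hk, hk'⟩ := hoQ x hxQ
      have h0 : k ≠ 0 := by
        rintro rfl
        rw [pow_zero, orderOf_eq_one_iff] at hk'
        apply hx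
        rw [hk']; simp
      have h1 : k ≠ 1 := by
        rintro rfl
        rw [pow_one] at hk'
        apply hx
        rw [hinv _ (hgg x hxQ) x hxQ (by rw [hordg, hk']) hk']
        exact mem_zpowers x
      have h3 : k ≠ 3 := by
        rintro rfl
        apply hx
        have : zpowers x = Q := by
          apply Subgroup.eq_of_le_of_card_ge
          · rwa [zpowers_le]
          · rw [hcard, Nat.card_zpowers, hk']; norm_num
        rw [this]
        exact hgg x hxQ
      have : k = 2 := by omega
      rw [hk', this]; norm_num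
    set y := g * x * g⁻¹ with hy
    have hyQ : y ∈ Q := hgg x hxQ
    have hoy : orderOf y = 4 := by rw [hy, hordg, hox]
    have hsq2 : ∀ u : G, orderOf u = 4 → orderOf (u ^ 2) = 2 := by
      intro u hu
      rw [orderOf_pow' u (by norm_num), hu]
      norm_num
    have hsq : y ^ 2 = x ^ 2 := hinv _ (pow_mem hyQ 2) _ (pow_mem hxQ 2) (hsq2 y hoy) (hsq2 x hox)
    have hx4 : x ^ 4 = 1 := by rw [← hox]; exact pow_orderOf_eq_one x
    -- index two
    have hxi : (zpowers (⟨x, hxQ⟩ : Q)).index = 2 := by
      have h1 := (zpowers (⟨x, hxQ⟩ : Q)).index_mul_card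
      rw [Nat.card_zpowers, Subgroup.orderOf_mk, hox, hcard] at h1
      omega
    have hmemx : ∀ u (hu : u ∈ Q), u ∈ zpowers x ↔ (⟨u, hu⟩ : Q) ∈ zpowers (⟨x, hxQ⟩ : Q) := by
      intro u hu
      constructor
      · rintro ⟨k, hk⟩
        exact ⟨k, Subtype.ext (by simpa using hk)⟩
      · rintro ⟨k, hk⟩
        refine ⟨k, ?_⟩
        have := congrArg Subtype.val hk
        simpa using this
    have hzp : ∀ u ∈ zpowers x, u = 1 ∨ u = x ∨ u = x ^ 2 ∨ u = x ^ 3 := by
      rintro _ ⟨k, rfl⟩
      simp only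
      have h1 : x ^ k = x ^ (k % 4) := by
        conv_lhs => rw [← Int.emod_add_mul_ediv k 4, zpow_add, zpow_mul]
        have : x ^ (4 : ℤ) = 1 := by exact_mod_cast hx4
        rw [this, one_zpow, mul_one]
      rw [h1]
      have h2 := Int.emod_nonneg k (show (4 : ℤ) ≠ 0 by norm_num)
      have h3 := Int.emod_lt_of_pos k (show (0 : ℤ) < 4 by norm_num)
      set r := k % 4
      interval_cases r
      · left; simp
      · right; left; simp
      · right; right; left; norm_cast
      · right; right; right; norm_cast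
    have hyx : y ∉ zpowers x := hx
    have hprod : ∀ u ∈ Q, ∀ v ∈ Q, u ∉ zpowers x → v ∉ zpowers x → u * v ∈ zpowers x := by
      intro u hu v hv h1 h2
      rw [hmemx u hu] at h1
      rw [hmemx v hv] at h2
      rw [hmemx (u * v) (mul_mem hu hv)]
      show (⟨u, hu⟩ : Q) * ⟨v, hv⟩ ∈ _
      rw [Subgroup.mul_mem_iff_of_index_two hxi]
      exact ⟨fun h => absurd h h1, fun h => absurd h h2⟩
    have hxi3 : x ^ 3 = x⁻¹ := by
      rw [eq_inv_iff_mul_eq_one, ← pow_succ, hx4]
    have hconj : y * x * y⁻¹ = x⁻¹ := by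
      have h1 : y * x * y⁻¹ ∈ zpowers x := by
        apply hprod _ (mul_mem hyQ hxQ) _ (inv_mem hyQ)
        · intro h
          apply hyx
          have := mul_mem h (inv_mem (mem_zpowers x))
          rwa [mul_inv_cancel_right] at this
        · intro h
          exact hyx (by simpa using inv_mem h)
      have h2 : orderOf (y * x * y⁻¹) = 4 := by
        have : y * x * y⁻¹ = MulAut.conj y x := by simp
        rw [this, MulEquiv.orderOf_eq, hox]
      rcases hzp _ h1 with h3 | h3 | h3 | h3
      · rw [h3, orderOf_one] at h2; omega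
      · exfalso
        -- commuting
        have hc : y * x = x * y := by
          calc y * x = y * x * y⁻¹ * y := by group
            _ = x * y := by rw [h3]
        have hc' : Commute y x⁻¹ := (show Commute y x from hc).inv_right
        have h4 : (y * x⁻¹) ^ 2 = 1 := by
          rw [hc'.mul_pow, hsq, inv_pow, mul_inv_cancel]
        have h5 : orderOf (y * x⁻¹) ∣ 2 := orderOf_dvd_of_pow_eq_one h4
        rcases (Nat.dvd_prime Nat.prime_two).mp h5 with h6 | h6
        · rw [orderOf_eq_one_iff] at h6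
          apply hyx
          rw [mul_inv_eq_one.mp h6]
          exact mem_zpowers x
        · have h7 := hinv _ (mul_mem hyQ (inv_mem hxQ)) _ (pow_mem hxQ 2) h6 (hsq2 x hox)
          apply hyx
          have h8 : y = x ^ 2 * x := by rw [← h7]; group
          rw [h8]
          exact mul_mem (pow_mem (mem_zpowers x) 2) (mem_zpowers x)
      · exfalso
        rw [h3, hsq2 x hox] at h2
        omega
      · rw [h3, hxi3]
    set w := g * y * g⁻¹ with hw
    have hwQ : w ∈ Q := hgg y hyQ
    have hwx : w ∉ zpowers x := by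
      intro hwx
      apply hyx
      -- g² normalizes ⟨x⟩
      have h1 : g ^ 2 ∈ normalizer (zpowers x : Set G) := by
        apply mem_normalizer_of_conj_le
        rintro _ ⟨k, rfl⟩
        simp only
        rw [← conj_zpow]
        apply zpow_mem
        have : g ^ 2 * x * (g ^ 2)⁻¹ = w := by rw [hw, hy, pow_two]; group
        rw [this]
        exact hwx
      have h2 : g ∈ zpowers (g ^ 2) := by
        have hodd : Odd (orderOf g) := by
          rw [Nat.coprime_two_right] at hg
          exact hg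
        obtain ⟨k, hk⟩ := hodd
        refine ⟨(k + 1 : ℕ), ?_⟩
        simp only
        rw [zpow_natCast, ← pow_mul]
        have : 2 * (k + 1) = orderOf g + 1 := by omega
        rw [this, pow_succ, pow_orderOf_eq_one, one_mul]
      have h3 : g ∈ normalizer (zpowers x : Set G) := (zpowers_le.mpr h1) h2
      exact ((mem_normalizer_iff.mp h3) x).mp (mem_zpowers x)
    have hwy : w * y⁻¹ ∈ zpowers x := hprod _ hwQ _ (inv_mem hyQ) hwx (fun h => hyx (by simpa using inv_mem h))
    have hyi : y⁻¹ = x ^ 2 * y := by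
      rw [← hsq, ← pow_succ, inv_eq_iff_mul_eq_one, ← pow_succ']
      have h1 : y ^ 4 = 1 := by rw [← hoy]; exact pow_orderOf_eq_one y
      exact h1
    have hgcancel : ∀ a b : G, g * a * g⁻¹ = g * b * g⁻¹ → a = b := by
      intro a b h
      exact mul_left_cancel (mul_right_cancel h)
    rcases hzp _ hwy with h3 | h3 | h3 | h3
    · -- w = y
      exfalso
      have h4 : w = y := mul_inv_eq_one.mp h3
      have h5 : y = x := hgcancel _ _ (by rw [← hw, ← hy, h4])
      exact hyx (h5 ▸ mem_zpowers x)
    · -- w = x y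
      have h4 : w = x * y := by rw [← h3]; group
      exact ⟨x, hxQ, y, hyQ, hox, hsq, hconj, rfl, h4, hcard⟩
    · -- w = x² y = y⁻¹
      exfalso
      have h4 : w = x ^ 2 * y := by rw [← h3]; group
      have h5 : y = x⁻¹ := by
        apply hgcancel
        rw [← hw, h4, ← hyi, hy]
        group
      apply hyx
      rw [h5]
      exact inv_mem (mem_zpowers x)
    · -- w = x³ y = y x
      have h4 : w = x ^ 3 * y := by rw [← h3]; group
      have h5 : x ^ 3 * y = y * x := by
        rw [hxi3, ← hconj]; group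
      refine ⟨x⁻¹, inv_mem hxQ, y⁻¹, inv_mem hyQ, by rw [orderOf_inv, hox], ?_, ?_, ?_, ?_, hcard⟩
      · rw [inv_pow, inv_pow, hsq]
      · rw [inv_inv, inv_inv]
        have h6 : y * x = x⁻¹ * y := by rw [← hconj]; group
        have h7 : x * y * x = y := by
          calc x * y * x = x * (y * x) := by group
            _ = y := by rw [h6]; group
        calc y⁻¹ * x⁻¹ * y = y⁻¹ * x⁻¹ * (x * y * x) := by rw [h7]
          _ = x := by group
      · rw [hy]; group
      · calc g * y⁻¹ * g⁻¹ = w⁻¹ := by rw [hw]; group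
          _ = (y * x)⁻¹ := by rw [h4, h5]
          _ = x⁻¹ * y⁻¹ := mul_inv_rev y x

/-- From the standard action one gets a section isomorphic to `SL(2,3)`. -/
theorem exists_section [Finite G] {Q : Subgroup G} (hQ : Nat.card Q = 8) {g x y : G}
    (hg : Nat.Coprime (orderOf g) 2) (hgN : g ∈ normalizer (Q : Set G)) (hxQ : x ∈ Q) (hyQ : y ∈ Q)
    (hx4 : orderOf x = 4) (hsq : y ^ 2 = x ^ 2) (hconj : y * x * y⁻¹ = x⁻¹) (hgx : g * x * g⁻¹ = y)
    (hgy : g * y * g⁻¹ = x * y) :
    ∃ (H K : Subgroup G) (_ : (K.subgroupOf H).Normal),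
      Nonempty ((H ⧸ K.subgroupOf H) ≃* Matrix.SpecialLinearGroup (Fin 2) (ZMod 3)) := by
  have hf2 : Fact (Nat.Prime 2) := ⟨Nat.prime_two⟩
  have hgw : g * (x * y) * g⁻¹ = x := by
    calc g * (x * y) * g⁻¹ = (g * x * g⁻¹) * (g * y * g⁻¹) := by group
      _ = y * (x * y) := by rw [hgx, hgy]
      _ = (y * x * y⁻¹) * y ^ 2 := by rw [pow_two]; group
      _ = x := by rw [hconj, hsq, pow_two]; group
  have hc3x : g ^ 3 * x * (g ^ 3)⁻¹ = x := by
    calc g ^ 3 * x * (g ^ 3)⁻¹ = g * (g * (g * x * g⁻¹) * g⁻¹) * g⁻¹ := by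
          rw [pow_succ, pow_two]; group
      _ = x := by rw [hgx, hgy, hgw]
  have hc3y : g ^ 3 * y * (g ^ 3)⁻¹ = y := by
    calc g ^ 3 * y * (g ^ 3)⁻¹ = g * (g ^ 3 * x * (g ^ 3)⁻¹) * g⁻¹ := by
          rw [← hgx]; group
      _ = y := by rw [hc3x, hgx]
  -- 3 divides the order of g
  have h3 : 3 ∣ orderOf g := by
    by_contra hnd
    have hcop : Nat.Coprime (orderOf g) 3 := ((Nat.Prime.coprime_iff_not_dvd Nat.prime_three).mpr hnd).symm
    obtain ⟨k, hk⟩ := exists_pow_eq_self_of_coprime (x := g) (n := 3) hcop.symm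
    have hcomm : Commute (g ^ 3) x := by
      have := congrArg (· * g ^ 3) hc3x
      simp only [inv_mul_cancel_right] at this
      exact this
    have h4 : Commute g x := by
      rw [← hk]
      exact hcomm.pow_left k
    have h5 : y = x := by
      rw [← hgx, h4.eq]; group
    rw [h5] at hconj
    have h6 : x = x⁻¹ := by
      calc x = x * x * x⁻¹ := by group
        _ = x⁻¹ := hconj
    have h7 : x ^ 2 = 1 := by rw [pow_two]; nth_rewrite 1 [h6]; group
    have h8 := orderOf_dvd_of_pow_eq_one h7
    rw [hx4] at h8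
    exact absurd (Nat.le_of_dvd (by norm_num) h8) (by norm_num)
  set H := Q ⊔ zpowers g with hH
  set K := zpowers (g ^ 3) with hK
  have hgH : g ∈ H := mem_sup_right (mem_zpowers g)
  have hxH : x ∈ H := mem_sup_left hxQ
  have hyH : y ∈ H := mem_sup_left hyQ
  have hN : zpowers g ≤ normalizer (Q : Set G) := by rwa [zpowers_le]
  have hcop : (Nat.card Q).Coprime (Nat.card (zpowers g)) := by
    rw [hQ, Nat.card_zpowers, show (8 : ℕ) = 2 ^ 3 by norm_num]
    exact (Nat.Coprime.pow_right 3 hg).symm
  have hHcard : Nat.card H = 8 * orderOf g := by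
    rw [hH, SubgroupTools.card_sup_of_coprime hN hcop, hQ, Nat.card_zpowers]
  have hKcard : Nat.card K * 3 = orderOf g := by
    rw [hK, Nat.card_zpowers, orderOf_pow' g (by norm_num), Nat.gcd_eq_right h3]
    exact Nat.div_mul_cancel h3
  have hKH : K ≤ H := by rw [hK, zpowers_le]; exact pow_mem hgH 3
  -- Q is generated by x and y
  have hxy : zpowers x ⊔ zpowers y = Q := by
    have hle : zpowers x ⊔ zpowers y ≤ Q := by
      rw [sup_le_iff, zpowers_le, zpowers_le]; exact ⟨hxQ, hyQ⟩
    apply Subgroup.eq_of_le_of_card_ge hle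
    have h1 : zpowers x < zpowers x ⊔ zpowers y := by
      refine lt_of_le_of_ne le_sup_left ?_
      intro heq
      have hyx : y ∈ zpowers x := heq ▸ mem_sup_right (mem_zpowers y)
      obtain ⟨i, hi⟩ := hyx
      simp only at hi
      rw [← hi] at hconj
      have h6 : x = x⁻¹ := by
        calc x = x ^ i * x * (x ^ i)⁻¹ := by group
          _ = x⁻¹ := hconj
      have h7 : x ^ 2 = 1 := by rw [pow_two]; nth_rewrite 1 [h6]; group
      have h8 := orderOf_dvd_of_pow_eq_one h7
      rw [hx4] at h8
      exact absurd (Nat.le_of_dvd (by norm_num) h8) (by norm_num)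
    have h2 : Nat.card (zpowers x) < Nat.card (zpowers x ⊔ zpowers y : Subgroup G) := by
      rcases Nat.lt_or_ge (Nat.card (zpowers x)) (Nat.card (zpowers x ⊔ zpowers y : Subgroup G)) with h | h
      · exact h
      · exact absurd (Subgroup.eq_of_le_of_card_ge h1.le h) h1.ne
    have h4 := Subgroup.card_dvd_of_le h1.le
    rw [Nat.card_zpowers, hx4] at h2 h4
    obtain ⟨m, hm⟩ := h4
    rw [hQ]
    omega
  have hcen : ∀ h ∈ H, Commute (g ^ 3) h := by
    intro h hh
    have hle : H ≤ centralizer {g ^ 3} := by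
      rw [hH, ← hxy, sup_le_iff, sup_le_iff, zpowers_le, zpowers_le, zpowers_le]
      refine ⟨⟨?_, ?_⟩, ?_⟩ <;> rw [mem_centralizer_singleton_iff]
      · have := congrArg (· * g ^ 3) hc3x
        simp only [inv_mul_cancel_right] at this
        exact this.symm
      · have := congrArg (· * g ^ 3) hc3y
        simp only [inv_mul_cancel_right] at this
        exact this.symm
      · exact ((Commute.refl g).pow_right 3).eq
    have := hle hh
    rw [mem_centralizer_singleton_iff] at this
    exact this.symm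
  have hKn : (K.subgroupOf H).Normal := by
    refine ⟨fun n hn h => ?_⟩
    rw [mem_subgroupOf] at hn ⊢
    obtain ⟨k, hk⟩ := hn
    have h1 : Commute ((g ^ 3) ^ k) (h : G) := (hcen h h.2).zpow_left k
    simp only at hk
    rw [hk] at h1
    have h2 : ((h * n * h⁻¹ : H) : G) = n := by
      show (h : G) * n * (h : G)⁻¹ = n
      rw [← h1.eq]; group
    rw [h2, ← hk]
    exact zpow_mem (mem_zpowers _) k
  refine ⟨H, K, hKn, ?_⟩
  have hquot : Nat.card (H ⧸ K.subgroupOf H) = 24 := by
    have h1 := Subgroup.card_eq_card_quotient_mul_card_subgroup (K.subgroupOf H)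
    have h2 : Nat.card (K.subgroupOf H) = Nat.card K := Nat.card_congr (Subgroup.subgroupOfEquivOfLe hKH).toEquiv
    rw [h2, hHcard] at h1
    have h4 : 0 < Nat.card K := Nat.card_pos
    have h5 : Nat.card (H ⧸ K.subgroupOf H) * Nat.card K = 24 * Nat.card K := by omega
    exact Nat.eq_of_mul_eq_mul_right h4 h5
  set π := QuotientGroup.mk' (K.subgroupOf H) with hπ
  have hrel : SLTwoThree.Rel (π ⟨x, hxH⟩) (π ⟨y, hyH⟩) (π ⟨g, hgH⟩) := by
    refine ⟨?_, ?_, ?_, ?_, ?_, ?_⟩
    · rw [← map_pow]
      have : (⟨x, hxH⟩ : H) ^ 4 = 1 := Subtype.ext (by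
        show x ^ 4 = 1
        rw [← hx4]; exact pow_orderOf_eq_one x)
      rw [this, map_one]
    · rw [← map_pow, ← map_pow]
      congr 1
      exact Subtype.ext hsq
    · rw [← map_inv, ← map_inv, ← map_mul, ← map_mul]
      congr 1
      exact Subtype.ext hconj
    · rw [← map_inv, ← map_mul, ← map_mul]
      congr 1
      exact Subtype.ext hgx
    · rw [← map_inv, ← map_mul, ← map_mul, ← map_mul]
      congr 1
      exact Subtype.ext hgy
    · rw [← map_pow]
      apply (QuotientGroup.eq_one_iff _).mpr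
      rw [mem_subgroupOf]
      exact mem_zpowers (g ^ 3)
  apply SLTwoThree.equiv_SL hrel hquot
  rw [eq_top_iff]
  rintro u -
  obtain ⟨⟨h, hh⟩, rfl⟩ := QuotientGroup.mk'_surjective _ u
  have hle : H ≤ ((Subgroup.closure {π ⟨x, hxH⟩, π ⟨y, hyH⟩, π ⟨g, hgH⟩}).comap π).map H.subtype := by
    nth_rewrite 1 [hH]
    rw [← hxy, sup_le_iff, sup_le_iff, zpowers_le, zpowers_le, zpowers_le]
    refine ⟨⟨?_, ?_⟩, ?_⟩
    · exact ⟨⟨x, hxH⟩, subset_closure (by simp), rfl⟩
    · exact ⟨⟨y, hyH⟩, subset_closure (by simp), rfl⟩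
    · exact ⟨⟨g, hgH⟩, subset_closure (by simp), rfl⟩
  obtain ⟨⟨h', hh'⟩, h1, h2⟩ := hle hh
  have h3 : (⟨h', hh'⟩ : H) = ⟨h, hh⟩ := Subtype.ext h2
  rw [h3] at h1
  exact h1

end Cfsg.Agent.Lib.QuatSylow
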