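import Cfsg.Agent.Lib.H1SameK
import Cfsg.Agent.Lib.BlockQuat
import Cfsg.Agent.Lib.SL25
import Cfsg.Agent.Lib.SLTwoThree
import Cfsg.Agent.Lib.QuatSylow

set_option autoImplicit false
set_option linter.unusedSectionVars false
set_option linter.unusedVariables false

open Subgroup MulAction Cfsg

namespace Cfsg.Agent.Lib.H1Same

variable {G : Type*} [Group G] [Finite G]

/-- groups of order 12 -/
theorem alt_four (hc : Nat.card G = 12) (hO : ∀ K : Subgroup G, K.Normal → Odd (Nat.card K) → K = ⊥) :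
    Nonempty (G ≃* alternatingGroup (Fin 4)) := by
  classical
  have hf3 : Fact (Nat.Prime 3) := ⟨Nat.prime_three⟩
  obtain ⟨g, hg⟩ := exists_prime_orderOf_dvd_card' (G := G) 3 (by rw [hc]; norm_num)
  have hHc : Nat.card (zpowers g) = 3 := by rw [Nat.card_zpowers, hg]
  have hHi : (zpowers g).index = 4 := by
    have h3 := (zpowers g).card_mul_index
    rw [hHc, hc] at h3
    omega
  have hcore : (zpowers g).normalCore = ⊥ := by
    apply hO _ inferInstance
    have h3 := card_dvd_of_le (normalCore_le (zpowers g))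
    rw [hHc] at h3
    exact (by decide : Odd 3).of_dvd_nat h3
  let φ : (G ⧸ zpowers g) ≃ Fin 4 := Finite.equivFinOfCardEq hHi
  apply Cfsg.Agent.Lib.MobCount.alternating_of_injective (n := 4) (by norm_num)
    ((φ.permCongrHom : Equiv.Perm (G ⧸ zpowers g) ≃* Equiv.Perm (Fin 4)).toMonoidHom.comp
      (MulAction.toPermHom G (G ⧸ zpowers g)))
  · rw [MonoidHom.coe_comp]
    apply Function.Injective.comp (MulEquiv.injective _)
    rw [← MonoidHom.ker_eq_bot_iff, ← Subgroup.normalCore_eq_ker]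
    exact hcore
  · rw [hc]; decide

/-- the case of a normal elementary abelian Sylow 2-subgroup -/
theorem normalcase (hC : Cj G) (h2 : E2 G) {n : ℕ} (hn : 2 ≤ n) (a : Sylow 2 G) (hcard : Nat.card a = 2 ^ n)
    (hnorm : (a : Subgroup G).Normal) (hO : ∀ K : Subgroup G, K.Normal → Odd (Nat.card K) → K = ⊥) :
    (n = 2 ∧ Nat.card G = 12 ∧ Nonempty (G ≃* alternatingGroup (Fin 4))) ∨
    (n = 3 ∧ (Nonempty (G ≃* semiaffineGroup (GaloisField 2 3)) ∨ Nonempty (G ≃* affineGroup (GaloisField 2 3)))) ∨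
    (n = 5 ∧ Nonempty (G ≃* semiaffineGroup (GaloisField 2 5))) := by
  have hNt : normalizer ((a : Subgroup G) : Set G) = ⊤ := normalizer_eq_top_iff.2 hnorm
  have hX : XX a = ⊥ := by
    apply hO _ _ (odd_XX a)
    constructor
    intro x hx g
    exact XX_normal a (by rw [hNt]; trivial) hx
  have hP : pPrimeCore 2 ↥(normalizer ((a : Subgroup G) : Set G)) = ⊥ := by
    rw [XX, Subgroup.map_eq_bot_iff_of_injective _ (normalizer ((a : Subgroup G) : Set G)).subtype_injective] at hX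
    exact hX
  have e0 : (↥(normalizer ((a : Subgroup G) : Set G)) ⧸ pPrimeCore 2 ↥(normalizer ((a : Subgroup G) : Set G))) ≃* G :=
    ((QuotientGroup.quotientMulEquivOfEq hP).trans QuotientGroup.quotientBot).trans
      ((MulEquiv.subgroupCongr hNt).trans Subgroup.topEquiv)
  rcases Nat.lt_or_ge 2 n with hn3 | hn3
  · right
    have hsol := normalizer_solvable a
    have hel : Cfsg.IsElementaryAbelian 2 (a : Subgroup G) :=
      ⟨⟨⟨fun x y => Subtype.ext (h2.comm a x.2 y.2)⟩⟩, fun x hx => by rw [pow_two]; exact h2 a x hx⟩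
    have hsolq : Group.IsSolvable (↥(normalizer ((a : Subgroup G) : Set G)) ⧸
        Cfsg.pPrimeCore 2 ↥(normalizer ((a : Subgroup G) : Set G))) := inferInstance
    have hC' : ∀ H K : Subgroup G, IsPGroup 2 H → IsPGroup 2 K → Nat.card H = Nat.card K →
        ∃ g : G, K = H.map (MulAut.conj g).toMonoidHom := fun H K _ _ h => hC H K h
    rcases S4025.result (p := 2) hC' a n hn3 hel hcard _ rfl hsolq with ⟨h3, -, h⟩ | ⟨h5, -, h⟩
    · left
      rcases h rfl with ⟨⟨e⟩⟩ | ⟨⟨e⟩⟩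
      · exact ⟨h3, Or.inl ⟨e0.symm.trans e⟩⟩
      · exact ⟨h3, Or.inr ⟨e0.symm.trans e⟩⟩
    · right
      obtain ⟨e⟩ := h
      exact ⟨h5, ⟨e0.symm.trans e⟩⟩
  · left
    have hn2 : n = 2 := le_antisymm hn3 hn
    obtain ⟨r, e, hr, hr2, hqr, hN, hcases⟩ := struct hC h2 a hn hcard
    rw [hX, Subgroup.card_bot, one_mul, hNt, Subgroup.card_top] at hN
    have hc : Nat.card G = 12 := by
      rcases hcases with ⟨h3, h4, h5⟩ | ⟨h3, h4, h5⟩ | ⟨h3, h4, h5⟩ | ⟨h3, h4, h5⟩
      · rw [hN, h3, h4, h5]; norm_num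
      · omega
      · omega
      · omega
    exact ⟨hn2, hc, alt_four hc hO⟩

theorem E2_of (P : Sylow 2 G) (h : ∀ x ∈ (P : Subgroup G), x * x = 1) : E2 G := by
  intro Q x hx
  obtain ⟨g, rfl⟩ := exists_smul_eq G P Q
  obtain ⟨y, hy, rfl⟩ := hx
  have h1 := h y hy
  show (g * y * g⁻¹) * (g * y * g⁻¹) = 1
  calc (g * y * g⁻¹) * (g * y * g⁻¹) = g * (y * y) * g⁻¹ := by group
    _ = 1 := by rw [h1]; group

/-- cyclic Sylow 2-subgroups -/
theorem cyclic_case (hO : ∀ K : Subgroup G, K.Normal → Odd (Nat.card K) → K = ⊥) (P : Sylow 2 G)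
    (hP : IsCyclic P) : IsCyclic G ∧ IsPGroup 2 G := by
  obtain ⟨P', L, hLn, hcompl⟩ := QDFusion.npc_of_cyclic P hP
  have hLodd : Odd (Nat.card L) := by
    rw [← Nat.not_even_iff_odd]
    intro h
    have h3 : (P' : Subgroup G).index = Nat.card L := hcompl.index_eq_card
    apply P'.not_dvd_index
    rw [h3]; exact h.two_dvd
  have hL := hO L hLn hLodd
  have h3 := hcompl.card_mul
  rw [hL, Subgroup.card_bot, one_mul] at h3
  obtain ⟨k, hk⟩ := IsPGroup.iff_card.1 P'.2
  have hG : IsPGroup 2 G := IsPGroup.of_card (n := k) (by rw [← h3]; exact hk)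
  have hPt : (P : Subgroup G) = ⊤ := by
    have h4 : IsPGroup 2 (⊤ : Subgroup G) := hG.of_equiv Subgroup.topEquiv.symm
    exact (P.is_maximal' h4 le_top).symm
  refine ⟨?_, hG⟩
  have e : (P : Subgroup G) ≃* G := (MulEquiv.subgroupCongr hPt).trans Subgroup.topEquiv
  exact isCyclic_of_surjective e e.surjective

/-- the elementary abelian case -/
theorem elem_case (hC : Cj G) (hO : ∀ K : Subgroup G, K.Normal → Odd (Nat.card K) → K = ⊥) (P : Sylow 2 G)
    (h2 : E2 G) :
    (IsCyclic G ∧ IsPGroup 2 G) ∨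
    Nonempty (G ≃* Cfsg.affineGroup (GaloisField 2 3)) ∨
    Nonempty (G ≃* Cfsg.semiaffineGroup (GaloisField 2 3)) ∨
    Nonempty (G ≃* Cfsg.semiaffineGroup (GaloisField 2 5)) ∨
    Nonempty (G ≃* Matrix.ProjectiveSpecialLinearGroup (Fin 2) (GaloisField 2 3)) ∨
    Nonempty (G ≃* MulAut (Matrix.ProjectiveSpecialLinearGroup (Fin 2) (GaloisField 2 5))) ∨
    Nonempty (G ≃* alternatingGroup (Fin 4)) ∨
    Nonempty (G ≃* alternatingGroup (Fin 5)) := by
  obtain ⟨n, hn⟩ := IsPGroup.iff_card.1 P.2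
  have hn' : Nat.card P = 2 ^ n := hn
  rcases Nat.lt_or_ge n 2 with h | h
  · left
    apply cyclic_case hO P
    have h3 : n = 0 ∨ n = 1 := by omega
    rcases h3 with rfl | rfl
    · exact isCyclic_of_card_dvd_prime (p := 2) (by rw [hn']; norm_num)
    · exact isCyclic_of_prime_card (p := 2) (by rw [hn']; norm_num)
  · right
    by_cases htwo : ∃ a b : Sylow 2 G, a ≠ b
    · have hcard : ∀ Q : Sylow 2 G, Nat.card Q = 2 ^ n := by
        intro Q
        rw [← hn']
        exact (Q.card_eq_multiplicity).trans (P.card_eq_multiplicity).symm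
      rcases nonnormal hC h2 h hcard htwo hO with ⟨-, h3⟩ | ⟨-, h3⟩ | ⟨-, h3⟩
      · exact Or.inr (Or.inr (Or.inr (Or.inl h3)))
      · exact Or.inr (Or.inr (Or.inr (Or.inr (Or.inl h3))))
      · exact Or.inr (Or.inr (Or.inr (Or.inr (Or.inr (Or.inr h3)))))
    · have hsub : Subsingleton (Sylow 2 G) := ⟨fun a b => by
        by_contra hab; exact htwo ⟨a, b, hab⟩⟩
      have hPn : (P : Subgroup G).Normal := by
        have h3 : (P : Subgroup G).Characteristic := Sylow.characteristic_of_subsingleton P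
        exact Subgroup.normal_of_characteristic _
      rcases normalcase hC h2 h P hn' hPn hO with ⟨-, -, h3⟩ | ⟨-, h3 | h3⟩ | ⟨-, h3⟩
      · exact Or.inr (Or.inr (Or.inr (Or.inr (Or.inr (Or.inl h3)))))
      · exact Or.inr (Or.inl h3)
      · exact Or.inl h3
      · exact Or.inr (Or.inr (Or.inl h3))

end Cfsg.Agent.Lib.H1Same
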