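import Mathlib
import Cfsg.Agent.Lib.SmallSimple3

/-!
# Conjugacy inside a subgroup of prime order (helper7)
-/

set_option autoImplicit false

namespace Cfsg.Agent.Lib.QRConj

open Subgroup Cfsg.Agent.Lib.SmallSimple

variable {G : Type*} [Group G] [Finite G] {p : ℕ} [Fact p.Prime]

omit [Finite G] in
theorem pow_eq_of_zmod {x : G} (hx : orderOf x = p) (a b : ℕ) (h : (a : ZMod p) = b) : x ^ a = x ^ b := by
  rw [pow_eq_pow_iff_modEq, hx]
  exact (ZMod.natCast_eq_natCast_iff _ _ _).1 h

omit [Finite G] in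
theorem zmod_of_pow_eq {x : G} (hx : orderOf x = p) (a b : ℕ) (h : x ^ a = x ^ b) : (a : ZMod p) = b := by
  rw [pow_eq_pow_iff_modEq, hx] at h
  exact (ZMod.natCast_eq_natCast_iff _ _ _).2 h

/-- the subgroup of exponents `a` with `x ~ x ^ a` -/
def expo (x : G) (hx : orderOf x = p) : Subgroup (ZMod p)ˣ where
  carrier := {a | IsConj x (x ^ (a : ZMod p).val)}
  one_mem' := by
    show IsConj x (x ^ ((1 : (ZMod p)ˣ) : ZMod p).val)
    have h1 : x ^ ((1 : (ZMod p)ˣ) : ZMod p).val = x ^ 1 :=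
      pow_eq_of_zmod hx _ _ (by rw [ZMod.natCast_zmod_val]; simp)
    rw [h1, pow_one]
  mul_mem' := by
    intro a b ha hb
    obtain ⟨g, hg⟩ := isConj_iff.1 ha
    obtain ⟨h, hh⟩ := isConj_iff.1 hb
    have h1 : x ^ ((a * b : (ZMod p)ˣ) : ZMod p).val = (x ^ (a : ZMod p).val) ^ (b : ZMod p).val := by
      rw [← pow_mul]
      apply pow_eq_of_zmod hx
      rw [ZMod.natCast_zmod_val, Nat.cast_mul, ZMod.natCast_zmod_val, ZMod.natCast_zmod_val, Units.val_mul]
    show IsConj x _
    rw [h1, ← hg, conj_pow, ← hh]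
    exact isConj_iff.2 ⟨g * h, by group⟩
  inv_mem' := by
    intro a ha
    obtain ⟨g, hg⟩ := isConj_iff.1 ha
    have h1 : (x ^ (a : ZMod p).val) ^ ((a⁻¹ : (ZMod p)ˣ) : ZMod p).val = x := by
      rw [← pow_mul]
      have h2 : x ^ ((a : ZMod p).val * ((a⁻¹ : (ZMod p)ˣ) : ZMod p).val) = x ^ 1 := by
        apply pow_eq_of_zmod hx
        rw [Nat.cast_mul, ZMod.natCast_zmod_val, ZMod.natCast_zmod_val, ← Units.val_mul, mul_inv_cancel]
        simp
      rw [h2, pow_one]
    show IsConj x _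
    have h3 : x = g * x ^ ((a⁻¹ : (ZMod p)ˣ) : ZMod p).val * g⁻¹ := by
      conv_lhs => rw [← h1, ← hg]
      rw [conj_pow]
    have h4 : g⁻¹ * x * g = x ^ ((a⁻¹ : (ZMod p)ˣ) : ZMod p).val := by
      conv_lhs => rw [h3]
      group
    exact isConj_iff.2 ⟨g⁻¹, by rw [inv_inv]; exact h4⟩

theorem mem_expo (x : G) (hx : orderOf x = p) (a : (ZMod p)ˣ) :
    a ∈ expo x hx ↔ IsConj x (x ^ (a : ZMod p).val) := Iff.rfl

theorem mem_expo_iff (x : G) (hx : orderOf x = p) (a : ℕ) (ha : (a : ZMod p) ≠ 0) :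
    Units.mk0 (a : ZMod p) ha ∈ expo x hx ↔ IsConj x (x ^ a) := by
  rw [mem_expo]
  have h1 : x ^ ((Units.mk0 (a : ZMod p) ha : (ZMod p)ˣ) : ZMod p).val = x ^ a :=
    pow_eq_of_zmod hx _ _ (by rw [ZMod.natCast_zmod_val]; rfl)
  rw [h1]

theorem card_expo (x : G) (hx : orderOf x = p) :
    Nat.card (expo x hx) * Nat.card (centralizer ({x} : Set G)) = Nat.card (normalizer (zpowers x : Set G)) := by
  have h1 := card_conj_mem x (zpowers x : Set G)
  have h2 : Nat.card {g : G // g⁻¹ * x * g ∈ (zpowers x : Set G)} = Nat.card (normalizer (zpowers x : Set G)) := by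
    apply Nat.card_congr
    apply Equiv.subtypeEquivRight
    intro g
    constructor
    · intro h
      rw [← inv_mem_iff, mem_normalizer_iff]
      obtain ⟨n, hn⟩ := mem_zpowers_iff.1 h
      have hinj : zpowers (g⁻¹ * x * g) = zpowers x := by
        apply Subgroup.eq_of_le_of_card_ge
        · rw [zpowers_le]; exact h
        · rw [Nat.card_zpowers, Nat.card_zpowers]
          have : orderOf (g⁻¹ * x * g) = orderOf x := by
            have h3 := orderOf_injective (MulAut.conj g⁻¹).toMonoidHom (MulAut.conj g⁻¹).injective x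
            simp only [MulEquiv.coe_toMonoidHom, MulAut.conj_apply, inv_inv] at h3
            exact h3
          rw [this]
      intro y
      constructor
      · intro hy
        obtain ⟨m, rfl⟩ := mem_zpowers_iff.1 hy
        rw [inv_inv, ← hinj]
        refine mem_zpowers_iff.2 ⟨m, ?_⟩
        have : (g⁻¹ * x * g) ^ m = (g⁻¹ * x * (g⁻¹)⁻¹) ^ m := by rw [inv_inv]
        rw [this, conj_zpow, inv_inv]
      · intro hy
        rw [inv_inv, ← hinj] at hy
        obtain ⟨m, hm⟩ := mem_zpowers_iff.1 hy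
        have h4 : (g⁻¹ * x * g) ^ m = g⁻¹ * x ^ m * g := by
          have : (g⁻¹ * x * g) ^ m = (g⁻¹ * x * (g⁻¹)⁻¹) ^ m := by rw [inv_inv]
          rw [this, conj_zpow, inv_inv]
        rw [h4] at hm
        have : y = x ^ m := by
          have h5 : g⁻¹ * x ^ m * g = g⁻¹ * y * g := hm
          exact (mul_left_cancel (mul_right_cancel h5)).symm
        rw [this]
        exact zpow_mem (mem_zpowers x) m
    · intro h
      rw [← inv_mem_iff, mem_normalizer_iff] at h
      have := (h x).1 (mem_zpowers x)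
      rwa [inv_inv] at this
  rw [h2] at h1
  rw [h1]
  congr 1
  apply Nat.card_eq_of_bijective (fun a : expo x hx => (⟨x ^ ((a : (ZMod p)ˣ) : ZMod p).val, a.2, pow_mem (mem_zpowers x) _⟩ :
    {g : G // IsConj x g ∧ g ∈ (zpowers x : Set G)}))
  constructor
  · intro a b hab
    have h3 := congrArg Subtype.val hab
    simp only at h3
    have h4 := zmod_of_pow_eq hx _ _ h3
    rw [ZMod.natCast_zmod_val, ZMod.natCast_zmod_val] at h4
    exact Subtype.ext (Units.ext h4)
  · rintro ⟨g, hg, hg'⟩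
    have hx0 : x ≠ 1 := by
      rintro rfl
      rw [orderOf_one] at hx
      exact (Fact.out : p.Prime).one_lt.ne hx
    obtain ⟨n, hn⟩ := mem_powers_iff_mem_zpowers.2 hg'
    simp only at hn
    have hn0 : (n : ZMod p) ≠ 0 := by
      intro h
      have h5 : x ^ n = x ^ 0 := pow_eq_of_zmod hx _ _ (by rw [h]; simp)
      rw [hn, pow_zero] at h5
      rw [h5] at hg
      exact hx0 (isConj_one_left.1 hg)
    refine ⟨⟨Units.mk0 (n : ZMod p) hn0, ?_⟩, ?_⟩
    · rw [mem_expo_iff, hn]; exact hg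
    · apply Subtype.ext
      show x ^ ((Units.mk0 (n : ZMod p) hn0 : (ZMod p)ˣ) : ZMod p).val = g
      rw [← hn]
      exact pow_eq_of_zmod hx _ _ (by rw [ZMod.natCast_zmod_val]; rfl)

/-- If `|N(⟨x⟩)| = p (p-1)/2`, `|C(x)| = p` and `p = 3` mod 4 then `x ~ x ^ a` for squares `a`, and `x` is not real. -/
theorem qr (x : G) (hx : orderOf x = p) (hp : p % 4 = 3)
    (hN : Nat.card (normalizer (zpowers x : Set G)) = p * ((p - 1) / 2))
    (hC : Nat.card (centralizer ({x} : Set G)) = p) :
    (∀ a : ℕ, (a : ZMod p) ≠ 0 → IsSquare (a : ZMod p) → IsConj x (x ^ a)) ∧ ¬ IsConj x x⁻¹ := by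
  have hp0 : 0 < p := (Fact.out : p.Prime).pos
  have h1 := card_expo x hx
  rw [hN, hC, mul_comm] at h1
  have h2 := Nat.eq_of_mul_eq_mul_left hp0 h1
  have h3 : Nat.card (ZMod p)ˣ = p - 1 := by
    rw [Nat.card_eq_fintype_card, ZMod.card_units]
  have h4 := (expo x hx).index_mul_card
  rw [h2, h3] at h4
  have hidx : (expo x hx).index = 2 := by
    have h5 : (p - 1) / 2 * 2 = p - 1 := by omega
    have h6 : 0 < (p - 1) / 2 := by omega
    have h7 : (expo x hx).index * ((p - 1) / 2) = 2 * ((p - 1) / 2) := by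
      rw [h4]; omega
    exact Nat.eq_of_mul_eq_mul_right h6 h7
  have hsq : ∀ a : (ZMod p)ˣ, a ^ 2 ∈ expo x hx := by
    intro a
    rw [pow_two]
    exact Subgroup.mul_self_mem_of_index_two hidx a
  constructor
  · intro a ha hs
    obtain ⟨b, hb⟩ := hs
    have hb0 : b ≠ 0 := by
      rintro rfl
      apply ha; rw [hb]; ring
    rw [← mem_expo_iff x hx a ha]
    have : Units.mk0 (a : ZMod p) ha = (Units.mk0 b hb0) ^ 2 := by
      apply Units.ext
      rw [Units.val_mk0, Units.val_pow_eq_pow_val, Units.val_mk0, hb, pow_two]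
    rw [this]
    exact hsq _
  · intro hinv
    -- then every unit is in `expo`
    have h5 : x ^ (p - 1) = x⁻¹ := by
      rw [eq_inv_iff_mul_eq_one, ← pow_succ, Nat.sub_add_cancel (by omega), ← hx, pow_orderOf_eq_one]
    have h6 : ((p - 1 : ℕ) : ZMod p) = -1 := by
      rw [Nat.cast_sub (by omega), ZMod.natCast_self]; ring
    have h7 : ((p - 1 : ℕ) : ZMod p) ≠ 0 := by rw [h6]; exact neg_ne_zero.2 one_ne_zero
    have h8 : Units.mk0 _ h7 ∈ expo x hx := by
      rw [mem_expo_iff, h5]; exact hinv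
    have h9 : Units.mk0 _ h7 = (-1 : (ZMod p)ˣ) := by
      apply Units.ext
      rw [Units.val_mk0, h6]; rfl
    rw [h9] at h8
    have htop : expo x hx = ⊤ := by
      rw [eq_top_iff]
      intro a _
      by_cases hs : IsSquare (a : ZMod p)
      · obtain ⟨b, hb⟩ := hs
        have hb0 : b ≠ 0 := by
          rintro rfl
          apply a.ne_zero; rw [hb]; ring
        have : a = (Units.mk0 b hb0) ^ 2 := by
          apply Units.ext
          rw [Units.val_pow_eq_pow_val, Units.val_mk0, hb, pow_two]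
        rw [this]; exact hsq _
      · have hneg : ¬ IsSquare (-1 : ZMod p) := by
          rw [ZMod.exists_sq_eq_neg_one_iff]; omega
        have hs' : IsSquare (-(a : ZMod p)) := by
          rw [← quadraticChar_one_iff_isSquare (neg_ne_zero.2 a.ne_zero)]
          have e1 : -(a : ZMod p) = (-1) * a := by ring
          rw [e1, map_mul, quadraticChar_neg_one_iff_not_isSquare.2 hs,
            quadraticChar_neg_one_iff_not_isSquare.2 hneg]
          norm_num
        obtain ⟨b, hb⟩ := hs'
        have hb0 : b ≠ 0 := by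
          rintro rfl
          apply neg_ne_zero.2 a.ne_zero; rw [hb]; ring
        have : a = (-1) * (Units.mk0 b hb0) ^ 2 := by
          apply Units.ext
          rw [Units.val_mul, Units.val_pow_eq_pow_val, Units.val_mk0, Units.val_neg, Units.val_one, pow_two, ← hb]
          ring
        rw [this]
        exact mul_mem h8 (hsq _)
    rw [htop, index_top] at hidx
    omega

end Cfsg.Agent.Lib.QRConj
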