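import Mathlib
import Cfsg.Agent.Lib.SmallSimple3

/-!
# Counting fixed points on Sylow subgroups (helper7)
-/

set_option autoImplicit false

namespace Cfsg.Agent.Lib.SylowCount

open Subgroup Cfsg.Agent.Lib.SmallSimple

variable {G : Type*} [Group G] [Finite G]

/-- a nonabelian simple group acts by even permutations: an involution moves a multiple of four points -/
theorem moved_four [IsSimpleGroup G] (hG : ¬ IsMulCommutative G) {X : Type*} [Finite X] [MulAction G X] (t : G)
    (ht : t ^ 2 = 1) : Nat.card {x : X // t • x ≠ x} % 4 = 0 := by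
  classical
  have : Fintype X := Fintype.ofFinite X
  let f : G →* ℤˣ := Equiv.Perm.sign.comp (MulAction.toPermHom G X)
  have hf : f t = 1 := by
    rcases IsSimpleGroup.eq_bot_or_eq_top_of_normal f.ker inferInstance with h | h
    · exfalso
      apply hG
      have hinj := (MonoidHom.ker_eq_bot_iff f).1 h
      refine ⟨⟨fun a b => hinj ?_⟩⟩
      rw [map_mul, map_mul, mul_comm]
    · have : t ∈ f.ker := by rw [h]; trivial
      exact this
  have h2 : (MulAction.toPermHom G X t) ^ 2 = 1 := by rw [← map_pow, ht, map_one]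
  have h3 := Equiv.Perm.sign_of_pow_two_eq_one h2
  have h4 : Equiv.Perm.sign (MulAction.toPermHom G X t) = 1 := hf
  rw [h4] at h3
  have h5 := (neg_one_pow_eq_one_iff_even (R := ℤˣ) (by decide)).1 h3.symm
  have h6 : Nat.card {x : X // t • x ≠ x} = Fintype.card X - Fintype.card (Function.fixedPoints (MulAction.toPermHom G X t)) := by
    rw [Nat.card_eq_fintype_card]
    exact Fintype.card_subtype_compl (fun x : X => t • x = x)
  have h7 : 2 ∣ Nat.card {x : X // t • x ≠ x} := by
    have h8 := Equiv.Perm.two_dvd_card_support h2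
    have h9 : Nat.card {x : X // t • x ≠ x} = (MulAction.toPermHom G X t).support.card := by
      rw [Nat.card_eq_fintype_card, Fintype.card_subtype]
      congr 1
    rw [h9]; exact h8
  rw [← h6] at h5
  obtain ⟨k, hk⟩ := h7
  rw [hk] at h5 ⊢
  rw [Nat.mul_div_cancel_left _ (by norm_num)] at h5
  obtain ⟨r, hr⟩ := h5
  omega

/-- fixed points of an element centralizing a Sylow subgroup of prime order -/
theorem fix_modEq {p : ℕ} [Fact p.Prime] (P : Sylow p G) (hP : Nat.card P = p) (t : G)
    (ht : t ∈ centralizer ((P : Subgroup G) : Set G)) : Nat.card {Q : Sylow p G // t • Q = Q} % p = 1 := by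
  classical
  have hp : p.Prime := Fact.out
  have : Fintype {Q : Sylow p G // t • Q = Q} := Fintype.ofFinite _
  obtain ⟨x, hx⟩ := (isCyclic_of_prime_card (α := (P : Subgroup G)) hP).exists_generator
  have hxt : ∀ y ∈ (P : Subgroup G), y * t = t * y := fun y hy => (mem_centralizer_iff.1 ht y hy)
  let f : Function.End {Q : Sylow p G // t • Q = Q} := fun Q => ⟨(x : G) • Q.1, by
    rw [← mul_smul, ← hxt x x.2, mul_smul, Q.2]⟩
  have hpow : ∀ n : ℕ, ∀ Q, ((f ^ n) Q).1 = ((x : G) ^ n) • Q.1 := by
    intro n
    induction n with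
    | zero => intro Q; simp [Function.End.one_def]
    | succ n ih =>
      intro Q
      rw [pow_succ, pow_succ, mul_smul]
      exact ih (f Q)
  have hf : f ^ p ^ 1 = 1 := by
    funext Q
    apply Subtype.ext
    rw [hpow]
    have h1 : ((x : G)) ^ p ^ 1 = 1 := by
      have h2 : orderOf x ∣ p := by
        have h2' := orderOf_dvd_natCard x
        rwa [hP] at h2'
      have h3 : x ^ p = 1 := orderOf_dvd_iff_pow_eq_one.1 h2
      rw [pow_one]
      exact_mod_cast congrArg Subtype.val h3
    rw [h1, one_smul]
    rfl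
  have key := Equiv.Perm.card_fixedPoints_modEq hf
  have h1 : Fintype.card f.fixedPoints = 1 := by
    rw [Fintype.card_eq_one_iff]
    have hPt : t • P = P := by
      rw [Sylow.smul_eq_iff_mem_normalizer]
      exact centralizer_le_normalizer' _ ht
    have hxP : (x : G) • P = P := by
      rw [Sylow.smul_eq_iff_mem_normalizer]; exact le_normalizer x.2
    refine ⟨⟨⟨P, hPt⟩, Subtype.ext hxP⟩, ?_⟩
    rintro ⟨⟨Q, hQ⟩, hQf⟩
    apply Subtype.ext
    apply Subtype.ext
    have hQx : (x : G) • Q = Q := congrArg Subtype.val hQf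
    rw [Sylow.smul_eq_iff_mem_normalizer] at hQx
    have hle : (P : Subgroup G) ≤ normalizer (Q : Set G) := by
      intro y hy
      obtain ⟨n, hn⟩ := mem_zpowers_iff.1 (hx ⟨y, hy⟩)
      have h2 : (x : G) ^ n = y := by
        have := congrArg Subtype.val hn
        simpa using this
      rw [← h2]
      exact zpow_mem hQx n
    have h3 : (P : Subgroup G) ⊓ normalizer (Q : Set G) = (P : Subgroup G) := inf_eq_left.2 hle
    rw [P.2.inf_normalizer_sylow Q] at h3
    have h4 : (P : Subgroup G) ≤ Q := inf_eq_left.1 h3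
    exact Sylow.ext (P.is_maximal' Q.2 h4)
  rw [h1] at key
  rw [Nat.card_eq_fintype_card]
  have := key
  unfold Nat.ModEq at this
  rw [this, Nat.mod_eq_of_lt hp.one_lt]

end Cfsg.Agent.Lib.SylowCount
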