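import Mathlib
import Cfsg.Agent.Lib.SylowCount
import Cfsg.Agent.Lib.QRConj
import Cfsg.Agent.Lib.ColTools

/-!
# Simple groups of order 7920, part A: the Sylow 11-normalizer (helper7)
-/

set_option autoImplicit false

namespace Cfsg.Agent.Lib.M11ByOrder

open Subgroup Cfsg.Agent.Lib.SmallSimple Cfsg.Agent.Lib.SylowCount

universe u

variable {G : Type u} [Group G] [Finite G] [IsSimpleGroup G]

instance fact11 : Fact (Nat.Prime 11) := ⟨by norm_num⟩
instance fact5 : Fact (Nat.Prime 5) := ⟨by norm_num⟩
instance fact3 : Fact (Nat.Prime 3) := ⟨by norm_num⟩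

theorem notComm (hG : Nat.card G = 7920) : ¬ IsMulCommutative G :=
  not_isMulCommutative_of_card hG (by norm_num)

theorem n11 (hG : Nat.card G = 7920) : Nat.card (Sylow 11 G) = 144 := by
  have hna := notComm hG
  have h := nsyl_mem (G := G) (p := 11) (k := 1) (m := 720) (by rw [hG]; norm_num) (by norm_num)
  have h2 : (Nat.divisors 720).filter (fun d => d % 11 = 1) = {1, 12, 45, 144} := by decide +kernel
  rw [h2] at h
  simp only [Finset.mem_insert, Finset.mem_singleton] at h
  have hdvd : 11 ∣ Nat.card G := by rw [hG]; norm_num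
  obtain ⟨P⟩ : Nonempty (Sylow 11 G) := inferInstance
  have hP : Nat.card (P : Subgroup G) = 11 := by
    have := sylow_card_of (G := G) (p := 11) (k := 1) (m := 720) (by rw [hG]; norm_num) (by norm_num) P
    simpa using this
  have hN := card_normalizer_mul_nsyl P
  rw [hG] at hN
  rcases h with h | h | h | h
  · exact absurd h (nsyl_ne_one hna hdvd)
  · exfalso
    have h3 := normalizer_dvd_of_nsyl hna (by norm_num) (by rw [h]) hdvd P
    rw [h] at hN
    have h4 : Nat.card (normalizer ((P : Subgroup G) : Set G)) = 660 := by omega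
    rw [h4] at h3
    norm_num at h3
  · exfalso
    rw [h] at hN
    have h4 : Nat.card (normalizer ((P : Subgroup G) : Set G)) = 176 := by omega
    obtain ⟨e, c, h5, h6, h7, h8⟩ := nc_data hna P hP
    rw [h4] at h5
    have hec : e * c = 16 := by
      have : 11 * (e * c) = 11 * 16 := by rw [show 11 * (e * c) = e * (11 * c) by ring, ← h5]
      exact Nat.eq_of_mul_eq_mul_left (by norm_num) this
    have he : e = 2 := by
      have h9 : e ∣ 16 := ⟨c, hec.symm⟩
      have h10 : e ∣ Nat.gcd 16 (11 - 1) := Nat.dvd_gcd h9 h7
      have h11 : Nat.gcd 16 (11 - 1) = 2 := by decide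
      rw [h11] at h10
      have := Nat.le_of_dvd (by norm_num) h10
      interval_cases e
      · omega
      · exact absurd rfl h8
      · rfl
    have hc : c = 8 := by rw [he] at hec; omega
    rw [hc] at h6
    -- a subgroup of order 8 of the centralizer
    have : Fact (Nat.Prime 2) := ⟨Nat.prime_two⟩
    obtain ⟨T, hT⟩ := Sylow.exists_subgroup_card_pow_prime (G := centralizer ((P : Subgroup G) : Set G)) 2 (n := 3)
      (by rw [h6]; norm_num)
    -- involutions of the centralizer have only one fixed point
    have hfix : ∀ t ∈ centralizer ((P : Subgroup G) : Set G), t ^ 2 = 1 → t ≠ 1 →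
        Nat.card {Q : Sylow 11 G // t • Q = Q} = 1 := by
      intro t ht ht2 ht1
      have h9 := fix_modEq P hP t ht
      have h10 := moved_four hna (X := Sylow 11 G) t ht2
      have h11 : Nat.card {Q : Sylow 11 G // t • Q = Q} + Nat.card {Q : Sylow 11 G // t • Q ≠ Q} = 45 := by
        classical
        rw [← h]
        have := Fintype.ofFinite (Sylow 11 G)
        rw [Nat.card_eq_fintype_card, Nat.card_eq_fintype_card, Nat.card_eq_fintype_card]
        have e1 := Fintype.card_subtype_compl (fun Q : Sylow 11 G => t • Q = Q)
        have e2 := Fintype.card_subtype_le (fun Q : Sylow 11 G => t • Q = Q)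
        have e3 : Fintype.card {Q : Sylow 11 G // t • Q ≠ Q} = Fintype.card {Q : Sylow 11 G // ¬ t • Q = Q} := rfl
        rw [e3, e1]
        omega
      have h12 : Nat.card {Q : Sylow 11 G // t • Q = Q} ≠ 45 := by
        intro h13
        have h14 : Nat.card {Q : Sylow 11 G // t • Q ≠ Q} = 0 := by omega
        have h15 : ∀ Q : Sylow 11 G, t • Q = Q := by
          intro Q
          by_contra hQ
          have : Nonempty {Q : Sylow 11 G // t • Q ≠ Q} := ⟨⟨Q, hQ⟩⟩
          have := Nat.card_pos (α := {Q : Sylow 11 G // t • Q ≠ Q})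
          omega
        -- `t` lies in the kernel
        have h16 : t ∈ (MulAction.toPermHom G (Sylow 11 G)).ker := by
          rw [MonoidHom.mem_ker]
          ext1 Q
          exact h15 Q
        rcases IsSimpleGroup.eq_bot_or_eq_top_of_normal (MulAction.toPermHom G (Sylow 11 G)).ker inferInstance with h17 | h17
        · rw [h17, mem_bot] at h16
          exact ht1 h16
        · have h18 : (normalizer ((P : Subgroup G) : Set G)) = ⊤ := by
            rw [eq_top_iff]
            intro g _
            have h19 : g ∈ (MulAction.toPermHom G (Sylow 11 G)).ker := by rw [h17]; trivial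
            have h20 : g • P = P := congrArg (fun σ : Equiv.Perm (Sylow 11 G) => σ P) (MonoidHom.mem_ker.1 h19)
            exact (Sylow.smul_eq_iff_mem_normalizer).1 h20
          rw [h18, card_top, hG] at h4
          norm_num at h4
      omega
    -- the order 8 subgroup acts semiregularly
    let T' : Subgroup G := T.map (centralizer ((P : Subgroup G) : Set G)).subtype
    have hT' : Nat.card T' = 8 := by
      rw [Nat.card_congr (T.equivMapOfInjective _ (subtype_injective _)).symm.toEquiv, hT]
      norm_num
    have hT'le : T' ≤ centralizer ((P : Subgroup G) : Set G) := map_subtype_le T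
    have h9 := card_modEq_of_orbits (H := T') (X := Sylow 11 G) 8 {P} ?_ ?_
    · rw [h] at h9
      have : Nat.card ({P} : Set (Sylow 11 G)) = 1 := by simp
      rw [this] at h9
      exact absurd h9 (by decide)
    · intro Q hQ g
      rw [Set.mem_singleton_iff] at hQ
      rw [hQ]
      have h1 : g • P = (g : G) • P := rfl
      rw [h1, Sylow.smul_eq_iff_mem_normalizer]
      exact centralizer_le_normalizer' _ (hT'le g.2)
    · intro Q hQ
      have h10 : MulAction.stabilizer T' Q = ⊥ := by
        by_contra hne
        have hdv : 2 ∣ Nat.card (MulAction.stabilizer T' Q) := by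
          have h11 : Nat.card (MulAction.stabilizer T' Q) ∣ 2 ^ 3 := by
            have := card_subgroup_dvd_card (MulAction.stabilizer T' Q)
            rw [hT'] at this
            exact this
          obtain ⟨k, hk, hk'⟩ := (Nat.dvd_prime_pow Nat.prime_two).1 h11
          rw [hk']
          rcases k with _ | k
          · exfalso
            rw [pow_zero] at hk'
            exact hne (card_eq_one.1 hk')
          · exact dvd_pow_self 2 (by omega)
        obtain ⟨s, hs⟩ := exists_prime_orderOf_dvd_card' (G := MulAction.stabilizer T' Q) 2 hdv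
        have hs2 : (s.1.1 : G) ^ 2 = 1 := by
          have h12 : s ^ 2 = 1 := by rw [← hs]; exact pow_orderOf_eq_one s
          have := congrArg (fun z : MulAction.stabilizer T' Q => (z.1.1 : G)) h12
          simpa using this
        have hs1 : (s.1.1 : G) ≠ 1 := by
          intro h12
          have : s = 1 := Subtype.ext (Subtype.ext h12)
          rw [this, orderOf_one] at hs
          norm_num at hs
        have h13 := hfix s.1.1 (hT'le s.1.2) hs2 hs1
        have hsub := (Nat.card_eq_one_iff_unique.1 h13).1
        have hPs : (s.1.1 : G) • P = P := by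
          rw [Sylow.smul_eq_iff_mem_normalizer]
          exact centralizer_le_normalizer' _ (hT'le s.1.2)
        have hQs : (s.1.1 : G) • Q = Q := s.2
        have h14 := hsub.elim ⟨P, hPs⟩ ⟨Q, hQs⟩
        apply hQ
        rw [Set.mem_singleton_iff]
        exact (congrArg Subtype.val h14).symm
      have h15 := MulAction.index_stabilizer T' Q
      rw [h10, index_bot, hT'] at h15
      have : Nat.card (MulAction.orbit T' Q) = 8 := by
        rw [Nat.card_coe_set_eq, ← h15]
      rw [this]
  · exact h

theorem sylow11 (hG : Nat.card G = 7920) (P : Sylow 11 G) : Nat.card (P : Subgroup G) = 11 ∧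
    Nat.card (normalizer ((P : Subgroup G) : Set G)) = 55 ∧
    Nat.card (centralizer ((P : Subgroup G) : Set G)) = 11 := by
  have hna := notComm hG
  have hP : Nat.card (P : Subgroup G) = 11 := by
    have := sylow_card_of (G := G) (p := 11) (k := 1) (m := 720) (by rw [hG]; norm_num) (by norm_num) P
    simpa using this
  have hN := card_normalizer_mul_nsyl P
  rw [hG, n11 hG] at hN
  have h4 : Nat.card (normalizer ((P : Subgroup G) : Set G)) = 55 := by omega
  refine ⟨hP, h4, ?_⟩
  obtain ⟨e, c, h5, h6, h7, h8⟩ := nc_data hna P hP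
  rw [h4] at h5
  have hec : e * c = 5 := by
    have : 11 * (e * c) = 11 * 5 := by rw [show 11 * (e * c) = e * (11 * c) by ring, ← h5]
    exact Nat.eq_of_mul_eq_mul_left (by norm_num) this
  have h9 : e ∣ 5 := ⟨c, hec.symm⟩
  have h10 := (Nat.dvd_prime (by norm_num : Nat.Prime 5)).1 h9
  rcases h10 with h10 | h10
  · exact absurd h10 h8
  · rw [h10] at hec
    have : c = 1 := by omega
    rw [h6, this]

/-- elements of order 11 -/
theorem elt11 (hG : Nat.card G = 7920) (x : G) (hx : orderOf x = 11) :
    Nat.card (centralizer ({x} : Set G)) = 11 ∧ Nat.card (normalizer (zpowers x : Set G)) = 55 ∧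
    (∀ a : ℕ, (a : ZMod 11) ≠ 0 → IsSquare (a : ZMod 11) → IsConj x (x ^ a)) ∧ ¬ IsConj x x⁻¹ := by
  have hcard : Nat.card (zpowers x) = 11 := by rw [Nat.card_zpowers, hx]
  have hp : IsPGroup 11 (zpowers x) := IsPGroup.of_card (n := 1) (by rw [hcard]; norm_num)
  obtain ⟨P, hP⟩ := hp.exists_le_sylow
  obtain ⟨h1, h2, h3⟩ := sylow11 hG P
  have hPeq : (P : Subgroup G) = zpowers x := (eq_of_le_of_card_ge hP (by rw [h1, hcard])).symm
  rw [hPeq] at h2 h3
  have h4 : centralizer ({x} : Set G) = centralizer (zpowers x : Set G) := by
    apply le_antisymm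
    · intro g hg
      rw [mem_centralizer_singleton_iff] at hg
      rw [mem_centralizer_iff]
      intro y hy
      obtain ⟨n, rfl⟩ := mem_zpowers_iff.1 hy
      exact (((Commute.zpow_right (show Commute g x from hg) n))).symm
    · exact centralizer_le (by simp)
  have hC : Nat.card (centralizer ({x} : Set G)) = 11 := by rw [h4]; exact h3
  have h5 := QRConj.qr x hx (by norm_num) (by rw [h2]) hC
  exact ⟨hC, h2, h5.1, h5.2⟩

end Cfsg.Agent.Lib.M11ByOrder
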