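import Mathlib
import Cfsg.Agent.Lib.M11A
import Cfsg.Agent.Lib.ColTools3

/-!
# Simple groups of order 7920, part B: the principal 11-block (helper7)
-/

set_option autoImplicit false

namespace Cfsg.Agent.Lib.ColTools

open Cfsg

universe u

variable {G : Type u} [Group G] [Finite G]

/-- sum over a set of characters by type -/
theorem sum_by_type {α β : Type*} [DecidableEq β] (S : Finset α) (T : Finset β) (φ : α → β)
    (hT : ∀ χ ∈ S, φ χ ∈ T) (f : β → ℤ) :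
    ∑ χ ∈ S, f (φ χ) = ∑ v ∈ T, ((S.filter (fun χ => φ χ = v)).card : ℤ) * f v := by
  rw [← Finset.sum_fiberwise_of_maps_to hT]
  refine Finset.sum_congr rfl fun v _ => ?_
  rw [Finset.sum_congr rfl (g := fun _ => f v), Finset.sum_const, nsmul_eq_mul]
  intro χ hχ
  rw [(Finset.mem_filter.1 hχ).2]

/-- values on involutions of a simple group -/
theorem val_inv [IsSimpleGroup G] (hG : ¬ IsMulCommutative G) (χ : IrrCharacter G) (t : G) (ht : t ^ 2 = 1) :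
    ∃ m : ℤ, (χ : G → ℂ) t = m ∧ ((deg χ : ℤ) - m) % 4 = 0 ∧ -(deg χ : ℤ) ≤ m ∧ m ≤ deg χ ∧
      (t ≠ 1 → χ ≠ triv G → -(deg χ : ℤ) < m ∧ m < deg χ) := by
  obtain ⟨n0, n1, h1, h2, h3⟩ := val_two χ.2.isCharacter t ht
  have h4 := h3 (hom_trivial hG)
  rw [apply_one] at h1
  have h5 : deg χ = n0 + n1 := by exact_mod_cast h1
  refine ⟨(n0 : ℤ) - n1, by rw [h2]; push_cast; ring, ?_, ?_, ?_, ?_⟩
  · obtain ⟨r, hr⟩ := h4
    omega
  · omega
  · omega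
  · intro ht1 hχ
    have h6 := norm_lt hG hχ ht1
    rw [h2] at h6
    have h7 : ((n0 : ℂ) - n1) = (((n0 : ℤ) - n1 : ℤ) : ℂ) := by push_cast; ring
    rw [h7, Complex.norm_intCast] at h6
    have h8 : |((n0 : ℤ) - n1)| < (deg χ : ℤ) := by exact_mod_cast h6
    exact abs_lt.1 h8

end Cfsg.Agent.Lib.ColTools

namespace Cfsg.Agent.Lib.M11ByOrder

open Subgroup Cfsg Cfsg.Agent.Lib.CharBasic Cfsg.Agent.Lib.ColTools
open scoped ComplexConjugate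

universe u

variable {G : Type u} [Group G] [Finite G]

/-- first possibility for the principal 11-block -/
structure BlockA (x : G) (A B C D X : IrrCharacter G) : Prop where
  nodup : [triv G, A, B, C, D, X, cc X].Nodup
  dA : deg A = 10
  dB : deg B = 10
  dC : deg C = 10
  dD : deg D = 45
  dX : deg X = 16
  vA : (A : G → ℂ) x⁻¹ = -1
  vB : (B : G → ℂ) x⁻¹ = -1
  vC : (C : G → ℂ) x⁻¹ = -1
  vD : (D : G → ℂ) x⁻¹ = 1
  vX : (X : G → ℂ) x + (X : G → ℂ) x⁻¹ = -1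
  out : ∀ χ : IrrCharacter G, χ ∉ [triv G, A, B, C, D, X, cc X] → (χ : G → ℂ) x⁻¹ = 0 ∧ 11 ∣ deg χ
  rel : ∀ g : G, ¬ IsConj g x → ¬ IsConj g x⁻¹ →
    1 + (D : G → ℂ) g = (A : G → ℂ) g + (B : G → ℂ) g + (C : G → ℂ) g + (X : G → ℂ) g
  real : ∀ g : G, ¬ IsConj g x → ¬ IsConj g x⁻¹ → (X : G → ℂ) g⁻¹ = (X : G → ℂ) g

/-- second possibility for the principal 11-block -/
structure BlockB (x : G) (A B C D X : IrrCharacter G) : Prop where
  nodup : [triv G, A, B, C, D, X, cc X].Nodup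
  dA : deg A = 10
  dB : deg B = 10
  dC : deg C = 12
  dD : deg D = 12
  dX : deg X = 5
  vA : (A : G → ℂ) x⁻¹ = -1
  vB : (B : G → ℂ) x⁻¹ = -1
  vC : (C : G → ℂ) x⁻¹ = 1
  vD : (D : G → ℂ) x⁻¹ = 1
  vX : (X : G → ℂ) x + (X : G → ℂ) x⁻¹ = -1
  out : ∀ χ : IrrCharacter G, χ ∉ [triv G, A, B, C, D, X, cc X] → (χ : G → ℂ) x⁻¹ = 0 ∧ 11 ∣ deg χ
  rel : ∀ g : G, ¬ IsConj g x → ¬ IsConj g x⁻¹ →
    1 + (C : G → ℂ) g + (D : G → ℂ) g = (A : G → ℂ) g + (B : G → ℂ) g + (X : G → ℂ) g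
  real : ∀ g : G, ¬ IsConj g x → ¬ IsConj g x⁻¹ → (X : G → ℂ) g⁻¹ = (X : G → ℂ) g

variable [IsSimpleGroup G]

theorem deg_le (hG : Nat.card G = 7920) (χ : IrrCharacter G) : deg χ ≤ 88 := by
  have h1 : deg χ ^ 2 ≤ 7920 := by
    rw [← hG, ← sum_deg_sq]
    exact Finset.single_le_sum (f := fun χ : IrrCharacter G => deg χ ^ 2) (fun _ _ => Nat.zero_le _) (Finset.mem_univ χ)
  by_contra h
  push Not at h
  have : 89 ^ 2 ≤ deg χ ^ 2 := Nat.pow_le_pow_left h 2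
  omega

theorem deg_mem (hG : Nat.card G = 7920) (χ : IrrCharacter G) :
    deg χ ∈ ({1, 2, 3, 4, 5, 6, 8, 9, 10, 11, 12, 15, 16, 18, 20, 22, 24, 30, 33, 36, 40, 44, 45, 48, 55, 60, 66, 72,
      80, 88} : Finset ℕ) := by
  have h1 := deg_le hG χ
  have h2 := deg_dvd χ
  rw [hG] at h2
  have h3 : deg χ ∈ (Nat.divisors 7920).filter (· ≤ 88) := by
    rw [Finset.mem_filter, Nat.mem_divisors]
    exact ⟨⟨h2, by norm_num⟩, h1⟩
  have h4 : (Nat.divisors 7920).filter (· ≤ 88) = ({1, 2, 3, 4, 5, 6, 8, 9, 10, 11, 12, 15, 16, 18, 20, 22, 24, 30, 33, 36, 40, 44, 45, 48, 55, 60, 66, 72,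
      80, 88} : Finset ℕ) := by decide +kernel
  rwa [h4] at h3

omit [Finite G] [IsSimpleGroup G] in
theorem isConj_order {g x : G} (h : IsConj g x) : orderOf g = orderOf x := by
  obtain ⟨c, rfl⟩ := isConj_iff.1 h
  exact (show SemiconjBy c g (c * g * c⁻¹) by simp [SemiconjBy]).orderOf_eq c

omit [Finite G] [IsSimpleGroup G] [Group G] in
theorem arith1 (d : ℕ) (m s : ℤ) (h7 : d ∈ ({1, 2, 3, 4, 5, 6, 8, 9, 10, 11, 12, 15, 16, 18, 20, 22, 24, 30, 33, 36, 40, 44, 45, 48, 55, 60, 66, 72,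
      80, 88} : Finset ℕ)) (h : (d : ℤ) = m + 11 * s) (h1 : -2 ≤ m) (h2 : m ≤ 2) (h3 : m ≠ 0) (h4 : d ≠ 1) :
    m = 1 ∧ d = 12 ∨ m = 1 ∧ d = 45 ∨ m = -1 ∧ d = 10 ∨ m = 2 ∧ d = 2 ∨ m = 2 ∧ d = 24 ∨ m = -2 ∧ d = 9 ∨
      m = -2 ∧ d = 20 := by
  simp only [Finset.mem_insert, Finset.mem_singleton] at h7
  rcases h7 with h7 | h7 | h7 | h7 | h7 | h7 | h7 | h7 | h7 | h7 | h7 | h7 | h7 | h7 | h7 | h7 | h7 | h7 | h7 | h7 | h7 | h7 | h7 | h7 | h7 | h7 | h7 | h7 | h7 | h7 <;> subst h7 <;> omega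

omit [Finite G] [IsSimpleGroup G] [Group G] in
theorem arith2 (d : ℕ) (m s : ℤ) (h7 : d ∈ ({1, 2, 3, 4, 5, 6, 8, 9, 10, 11, 12, 15, 16, 18, 20, 22, 24, 30, 33, 36, 40, 44, 45, 48, 55, 60, 66, 72,
      80, 88} : Finset ℕ)) (h : 2 * (d : ℤ) = m + 11 * s) (h1 : m = 1 ∨ m = -1) (h3 : (d : ℤ) ≤ 62) (h4 : d ≠ 1) :
    (m = 1 ∧ d = 6) ∨ (m = -1 ∧ (d = 5 ∨ d = 16 ∨ d = 60)) := by
  simp only [Finset.mem_insert, Finset.mem_singleton] at h7
  rcases h7 with h7 | h7 | h7 | h7 | h7 | h7 | h7 | h7 | h7 | h7 | h7 | h7 | h7 | h7 | h7 | h7 | h7 | h7 | h7 | h7 | h7 | h7 | h7 | h7 | h7 | h7 | h7 | h7 | h7 | h7 <;> subst h7 <;> omega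

omit [Finite G] [IsSimpleGroup G] [Group G] in
theorem arith3 (a1 a2 a3 a4 a5 a6 a7 aX : ℤ) (d : ℕ) (n1 : 0 ≤ a1) (n2 : 0 ≤ a2) (n3 : 0 ≤ a3) (n4 : 0 ≤ a4) (n5 : 0 ≤ a5) (n6 : 0 ≤ a6) (n7 : 0 ≤ a7)
    (e1 : 4 = a1 * 1 ^ 2 + a2 * 1 ^ 2 + a3 * (-1) ^ 2 + a4 * 2 ^ 2 + a5 * 2 ^ 2 + a6 * (-2) ^ 2 + a7 * (-2) ^ 2)
    (e2 : 1 + (a1 * (1 * ((12 : ℕ) : ℤ)) + a2 * (1 * ((45 : ℕ) : ℤ)) + a3 * (-1 * ((10 : ℕ) : ℤ)) + a4 * (2 * ((2 : ℕ) : ℤ)) + a5 * (2 * ((24 : ℕ) : ℤ)) +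
      a6 * (-2 * ((9 : ℕ) : ℤ)) + a7 * (-2 * ((20 : ℕ) : ℤ))) + aX * (d : ℤ) = 0)
    (e3 : 1 + 2 * (d : ℤ) ^ 2 + (a1 * ((12 : ℕ) : ℤ) ^ 2 + a2 * ((45 : ℕ) : ℤ) ^ 2 + a3 * ((10 : ℕ) : ℤ) ^ 2 + a4 * ((2 : ℕ) : ℤ) ^ 2 + a5 * ((24 : ℕ) : ℤ) ^ 2 +
      a6 * ((9 : ℕ) : ℤ) ^ 2 + a7 * ((20 : ℕ) : ℤ) ^ 2) ≤ 7920)
    (h : (aX = 1 ∧ d = 6) ∨ (aX = -1 ∧ (d = 5 ∨ d = 16 ∨ d = 60))) :
    (a3 = 3 ∧ a2 = 1 ∧ a1 = 0 ∧ a4 = 0 ∧ a5 = 0 ∧ a6 = 0 ∧ a7 = 0 ∧ d = 16 ∧ aX = -1) ∨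
      (a3 = 2 ∧ a1 = 2 ∧ a2 = 0 ∧ a4 = 0 ∧ a5 = 0 ∧ a6 = 0 ∧ a7 = 0 ∧ d = 5 ∧ aX = -1) ∨
      a4 = 1 := by
  push_cast at e1 e2 e3
  have hk : (a4 = 1 ∧ a5 = 0 ∧ a6 = 0 ∧ a7 = 0) ∨ (a4 = 0 ∧ a5 = 1 ∧ a6 = 0 ∧ a7 = 0) ∨ (a4 = 0 ∧ a5 = 0 ∧ a6 = 1 ∧ a7 = 0) ∨
    (a4 = 0 ∧ a5 = 0 ∧ a6 = 0 ∧ a7 = 1) ∨ (a4 = 0 ∧ a5 = 0 ∧ a6 = 0 ∧ a7 = 0) := by omega
  rcases hk with ⟨h4, h5, h6, h7⟩ | ⟨h4, h5, h6, h7⟩ | ⟨h4, h5, h6, h7⟩ | ⟨h4, h5, h6, h7⟩ | ⟨h4, h5, h6, h7⟩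
  · exact Or.inr (Or.inr h4)
  all_goals subst h4 h5 h6 h7
  all_goals have b1 : a1 ≤ 4 := by omega
  all_goals have b2 : a2 ≤ 4 := by omega
  all_goals rcases h with ⟨h, h'⟩ | ⟨h, h' | h' | h'⟩ <;> subst h h'
  all_goals interval_cases a1 <;> interval_cases a2 <;> omega

omit [Finite G] in
theorem not_isConj_of_order {g x : G} (hx : orderOf x = 11) (hg : orderOf g ≠ 11) : ¬ IsConj g x ∧ ¬ IsConj g x⁻¹ := by
  constructor
  · intro h; exact hg (by rw [isConj_order h, hx])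
  · intro h; exact hg (by rw [isConj_order h, orderOf_inv, hx])

set_option maxHeartbeats 1000000 in
/-- the principal 11-block -/
theorem block11 (hG : Nat.card G = 7920) (x : G) (hx : orderOf x = 11) :
    (∃ A B C D X : IrrCharacter G, BlockA x A B C D X) ∨ (∃ A B C D X : IrrCharacter G, BlockB x A B C D X) := by
  classical
  have hna := notComm hG
  obtain ⟨hC, hN, hqr, hnr⟩ := elt11 hG x hx
  have hx11 : x ^ 11 = 1 := by rw [← hx]; exact pow_orderOf_eq_one x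
  obtain ⟨m, X, aX, hXX, hX1, hX2, hmX, hmX', hm1, hodd, hval, hXv, -, hdeg, hdegX, hsum, hrel⟩ :=
    quad_block (p := 11) (by norm_num) x hx11 hqr hC hnr
  have hx1 : x ≠ 1 := by
    intro h; rw [h, orderOf_one] at hx; norm_num at hx
  have h1x : ¬ IsConj (1 : G) x := by
    intro h
    have := isConj_order h
    rw [hx, orderOf_one] at this
    norm_num at this
  have h1x' : ¬ IsConj (1 : G) x⁻¹ := by
    intro h
    have := isConj_order h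
    rw [orderOf_inv, hx, orderOf_one] at this
    norm_num at this
  obtain ⟨hrel1, -⟩ := hrel 1 h1x h1x'
  set S : Finset (IrrCharacter G) := Finset.univ.filter (fun χ => m χ ≠ 0 ∧ χ ≠ triv G) with hS
  have hsplit : ∀ F : IrrCharacter G → ℤ, ∑ χ, m χ * F χ = F (triv G) + ∑ χ ∈ S, m χ * F χ := by
    intro F
    have h1 : ∑ χ ∈ insert (triv G) S, m χ * F χ = ∑ χ, m χ * F χ := by
      apply Finset.sum_subset (Finset.subset_univ _)
      intro χ _ hχ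
      rw [Finset.mem_insert, not_or, hS, Finset.mem_filter, not_and] at hχ
      have : m χ = 0 := by
        by_contra h
        exact hχ.2 (Finset.mem_univ _) ⟨h, hχ.1⟩
      rw [this, zero_mul]
    rw [← h1, Finset.sum_insert (by simp [hS]), hm1, one_mul]
  have hsq : ∑ χ, m χ ^ 2 = 1 + ∑ χ ∈ S, m χ ^ 2 := by
    have := hsplit m
    simp only [← sq] at this
    rw [this, hm1]
  rw [hsq] at hsum
  have hpos : 0 ≤ ∑ χ ∈ S, m χ ^ 2 := Finset.sum_nonneg fun _ _ => sq_nonneg _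
  have haX : aX = 1 ∨ aX = -1 ∨ aX = 3 ∨ aX = -3 := by
    have h1 : aX ^ 2 ≤ 9 := by push_cast at hsum; linarith
    have h2 : aX ≤ 3 := by nlinarith
    have h3 : -3 ≤ aX := by nlinarith
    omega
  have hSx : ∀ χ ∈ S, χ ≠ X ∧ χ ≠ cc X ∧ m χ ≠ 0 ∧ χ ≠ triv G := by
    intro χ hχ
    rw [hS, Finset.mem_filter] at hχ
    refine ⟨?_, ?_, hχ.2⟩
    · rintro rfl; exact hχ.2.1 hmX
    · rintro rfl; exact hχ.2.1 hmX'
  -- the sum of squares of degrees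
  have hdsum : 1 + 2 * (deg X : ℤ) ^ 2 + ∑ χ ∈ S, (deg χ : ℤ) ^ 2 ≤ 7920 := by
    have h1 : ∑ χ : IrrCharacter G, (deg χ : ℤ) ^ 2 = 7920 := by
      have := sum_deg_sq (G := G)
      rw [hG] at this
      exact_mod_cast this
    rw [← h1]
    have h2 : ∑ χ ∈ insert (triv G) (insert X (insert (cc X) S)), (deg χ : ℤ) ^ 2 ≤ ∑ χ : IrrCharacter G, (deg χ : ℤ) ^ 2 :=
      Finset.sum_le_sum_of_subset_of_nonneg (Finset.subset_univ _) (fun _ _ _ => sq_nonneg _)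
    rw [Finset.sum_insert, Finset.sum_insert, Finset.sum_insert, deg_triv, deg_cc] at h2
    · refine le_trans (le_of_eq ?_) h2
      push_cast; ring
    · exact fun h => (hSx _ h).2.1 rfl
    · rw [Finset.mem_insert, not_or]
      exact ⟨hXX.symm, fun h => (hSx _ h).1 rfl⟩
    · rw [Finset.mem_insert, Finset.mem_insert, not_or, not_or]
      exact ⟨hX1.symm, hX2.symm, fun h => (hSx _ h).2.2.2 rfl⟩
  -- the degree equation
  have hdeq : 1 + ∑ χ ∈ S, m χ * (deg χ : ℤ) + aX * deg X = 0 := by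
    simp only [apply_one] at hrel1
    have h1 : (∑ χ, m χ * (deg χ : ℤ)) + aX * deg X = 0 := by exact_mod_cast hrel1
    rw [hsplit (fun χ => (deg χ : ℤ)), deg_triv] at h1
    exact_mod_cast h1
  have hcase3 : aX ≠ 3 ∧ aX ≠ -3 := by
    have hgen : aX ^ 2 = 9 → ∑ χ ∈ S, m χ * (deg χ : ℤ) = 0 := by
      intro h9
      have h1 : ∑ χ ∈ S, m χ ^ 2 = 0 := by rw [h9] at hsum; push_cast at hsum; linarith
      have h2 : ∀ χ ∈ S, m χ ^ 2 = 0 := (Finset.sum_eq_zero_iff_of_nonneg (fun _ _ => sq_nonneg _)).1 h1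
      apply Finset.sum_eq_zero
      intro χ hχ
      have := h2 χ hχ
      rw [pow_eq_zero_iff (two_ne_zero)] at this
      rw [this, zero_mul]
    constructor
    · intro h
      have := hgen (by rw [h]; norm_num)
      rw [this, h] at hdeq
      omega
    · intro h
      have := hgen (by rw [h]; norm_num)
      rw [this, h] at hdeq
      omega
  have haX' : aX = 1 ∨ aX = -1 := by
    rcases haX with h | h | h | h
    · exact Or.inl h
    · exact Or.inr h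
    · exact absurd h hcase3.1
    · exact absurd h hcase3.2
  have haX2 : aX ^ 2 = 1 := by rcases haX' with h | h <;> rw [h] <;> norm_num
  have hS4 : ∑ χ ∈ S, m χ ^ 2 = 4 := by rw [haX2] at hsum; push_cast at hsum; linarith
  have hm2 : ∀ χ ∈ S, -2 ≤ m χ ∧ m χ ≤ 2 := by
    intro χ hχ
    have := Finset.single_le_sum (f := fun χ => m χ ^ 2) (fun _ _ => sq_nonneg _) hχ
    simp only [hS4] at this
    constructor <;> nlinarith
  -- types
  set T : Finset (ℤ × ℕ) := {(1, 12), (1, 45), (-1, 10), (2, 2), (2, 24), (-2, 9), (-2, 20)} with hT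
  have hST : ∀ χ ∈ S, (m χ, deg χ) ∈ T := by
    intro χ hχ
    obtain ⟨h1, h2, h3, h4⟩ := hSx χ hχ
    obtain ⟨s, hs, hs'⟩ := hdeg χ h1 h2
    obtain ⟨h5, h6⟩ := hm2 χ hχ
    have h7 := deg_mem hG χ
    have h8 : deg χ ≠ 1 := fun h => h4 (eq_triv_of_deg_one hna h)
    rw [hT]
    simp only [Finset.mem_insert, Finset.mem_singleton, Prod.mk.injEq]
    exact arith1 (deg χ) (m χ) s h7 hs' h5 h6 h3 h8
  have hXd : (aX = 1 ∧ deg X = 6) ∨ (aX = -1 ∧ (deg X = 5 ∨ deg X = 16 ∨ deg X = 60)) := by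
    obtain ⟨s, hs, hs'⟩ := hdegX
    have h7 := deg_mem hG X
    have h9 : (deg X : ℤ) ≤ 62 := by
      have h10 : 0 ≤ ∑ χ ∈ S, (deg χ : ℤ) ^ 2 := Finset.sum_nonneg fun _ _ => sq_nonneg _
      by_contra h11
      push Not at h11
      have : (63 : ℤ) ≤ deg X := h11
      nlinarith
    have h8 : deg X ≠ 1 := fun h => hX1 (eq_triv_of_deg_one hna h)
    exact arith2 (deg X) aX s h7 hs' haX' h9 h8
  set N : ℤ × ℕ → ℤ := fun v => ((S.filter (fun χ => (m χ, deg χ) = v)).card : ℤ) with hN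
  have hN0 : ∀ v, 0 ≤ N v := fun v => by simp [hN]
  have hbt : ∀ f : ℤ × ℕ → ℤ, ∑ χ ∈ S, f (m χ, deg χ) = ∑ v ∈ T, N v * f v := fun f =>
    sum_by_type S T (fun χ => (m χ, deg χ)) hST f
  have hexp : ∀ f : ℤ × ℕ → ℤ, ∑ v ∈ T, N v * f v = N (1, 12) * f (1, 12) + N (1, 45) * f (1, 45) + N (-1, 10) * f (-1, 10) +
      N (2, 2) * f (2, 2) + N (2, 24) * f (2, 24) + N (-2, 9) * f (-2, 9) + N (-2, 20) * f (-2, 20) := by
    intro f
    rw [hT, Finset.sum_insert (by decide), Finset.sum_insert (by decide), Finset.sum_insert (by decide),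
      Finset.sum_insert (by decide), Finset.sum_insert (by decide), Finset.sum_insert (by decide), Finset.sum_singleton]
    ring
  have e1 := hbt (fun v => v.1 ^ 2)
  have e2 := hbt (fun v => v.1 * (v.2 : ℤ))
  have e3 := hbt (fun v => (v.2 : ℤ) ^ 2)
  rw [hexp] at e1 e2 e3
  simp only at e1 e2 e3
  rw [hS4] at e1
  rw [e2] at hdeq
  rw [e3] at hdsum
  have n1 := hN0 (1, 12)
  have n2 := hN0 (1, 45)
  have n3 := hN0 (-1, 10)
  have n4 := hN0 (2, 2)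
  have n5 := hN0 (2, 24)
  have n6 := hN0 (-2, 9)
  have n7 := hN0 (-2, 20)
  have hmain : (N (-1, 10) = 3 ∧ N (1, 45) = 1 ∧ N (1, 12) = 0 ∧ N (2, 2) = 0 ∧ N (2, 24) = 0 ∧ N (-2, 9) = 0 ∧ N (-2, 20) = 0 ∧ deg X = 16 ∧ aX = -1) ∨
      (N (-1, 10) = 2 ∧ N (1, 12) = 2 ∧ N (1, 45) = 0 ∧ N (2, 2) = 0 ∧ N (2, 24) = 0 ∧ N (-2, 9) = 0 ∧ N (-2, 20) = 0 ∧ deg X = 5 ∧ aX = -1) ∨
      (N (2, 2) = 1) :=
    arith3 (N (1, 12)) (N (1, 45)) (N (-1, 10)) (N (2, 2)) (N (2, 24)) (N (-2, 9)) (N (-2, 20)) aX (deg X) n1 n2 n3 n4 n5 n6 n7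
      e1 hdeq hdsum hXd
  have hno2 : ∀ χ : IrrCharacter G, deg χ ≠ 2 := by
    intro χ hd
    obtain ⟨t, ht⟩ := exists_prime_orderOf_dvd_card' (G := G) 2 (by rw [hG]; norm_num)
    have ht2 : t ^ 2 = 1 := by rw [← ht]; exact pow_orderOf_eq_one t
    have ht1 : t ≠ 1 := by intro h; rw [h, orderOf_one] at ht; norm_num at ht
    have hχ : χ ≠ triv G := by rintro rfl; rw [deg_triv] at hd; omega
    obtain ⟨v, h1, h2, h3, h4, h5⟩ := val_inv hna χ t ht2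
    have := h5 ht1 hχ
    rw [hd] at *
    omega
  have hNc : ∀ (v : ℤ × ℕ) (k : ℕ), N v = (k : ℤ) → (S.filter (fun χ => (m χ, deg χ) = v)).card = k := by
    intro v k h
    have : ((S.filter (fun χ => (m χ, deg χ) = v)).card : ℤ) = (k : ℤ) := h
    exact_mod_cast this
  have hmf : ∀ (v : ℤ × ℕ) (F : Finset (IrrCharacter G)), S.filter (fun χ => (m χ, deg χ) = v) = F → ∀ χ, (χ ∈ S ∧ (m χ, deg χ) = v) ↔ χ ∈ F := by
    intro v F h χ
    rw [← h]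
    exact (Finset.mem_filter (s := S) (p := fun χ => (m χ, deg χ) = v) (a := χ)).symm
  have hzero : ∀ v, N v = 0 → ∀ χ ∈ S, (m χ, deg χ) ≠ v := by
    intro v hv χ hχ h
    have h1 := hNc v 0 (by exact_mod_cast hv)
    rw [Finset.card_eq_zero] at h1
    have : χ ∈ S.filter (fun χ => (m χ, deg χ) = v) := Finset.mem_filter.2 ⟨hχ, h⟩
    rw [h1] at this
    simp at this
  have hvalS : ∀ χ ∈ S, (χ : G → ℂ) x⁻¹ = m χ := fun χ hχ => (hval χ (hSx χ hχ).1 (hSx χ hχ).2.1).2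
  have hm0 : ∀ χ, m χ = 0 → χ ≠ X → χ ≠ cc X → (χ : G → ℂ) x⁻¹ = 0 ∧ 11 ∣ deg χ := by
    intro χ h h1 h2
    refine ⟨by rw [(hval χ h1 h2).2, h, Int.cast_zero], ?_⟩
    obtain ⟨s, hs, hs'⟩ := hdeg χ h1 h2
    rw [h, zero_add] at hs'
    have : (11 : ℤ) ∣ (deg χ : ℤ) := ⟨s, by exact_mod_cast hs'⟩
    exact_mod_cast this
  rcases hmain with ⟨k1, k2, k3, k4, k5, k6, k7, kX, kaX⟩ | ⟨k1, k2, k3, k4, k5, k6, k7, kX, kaX⟩ | k4
  · left
    have c1 : (S.filter (fun χ => (m χ, deg χ) = (-1, 10))).card = 3 := hNc _ _ (by exact_mod_cast k1)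
    have c2 : (S.filter (fun χ => (m χ, deg χ) = (1, 45))).card = 1 := hNc _ _ (by exact_mod_cast k2)
    obtain ⟨A, B, C, hAB, hAC, hBC, hABC⟩ := Finset.card_eq_three.1 c1
    obtain ⟨D, hD⟩ := Finset.card_eq_one.1 c2
    have mem1 : ∀ χ, (χ ∈ S ∧ (m χ, deg χ) = (-1, 10)) ↔ (χ = A ∨ χ = B ∨ χ = C) := by
      intro χ
      rw [hmf _ _ hABC]; simp
    have mem2 : ∀ χ, (χ ∈ S ∧ (m χ, deg χ) = (1, 45)) ↔ (χ = D) := by
      intro χ
      rw [hmf _ _ hD]; simp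
    obtain ⟨sA, tA⟩ := (mem1 A).2 (Or.inl rfl)
    obtain ⟨sB, tB⟩ := (mem1 B).2 (Or.inr (Or.inl rfl))
    obtain ⟨sC, tC⟩ := (mem1 C).2 (Or.inr (Or.inr rfl))
    obtain ⟨sD, tD⟩ := (mem2 D).2 rfl
    rw [Prod.mk.injEq] at tA tB tC tD
    have hAD : A ≠ D := by rintro rfl; omega
    have hBD : B ≠ D := by rintro rfl; omega
    have hCD : C ≠ D := by rintro rfl; omega
    have hnd : [triv G, A, B, C, D, X, cc X].Nodup := by
      simp [hAB, hAC, hBC, hAD, hBD, hCD, hX1.symm, hX2.symm, hXX.symm, (hSx A sA).1, (hSx A sA).2.1, (hSx A sA).2.2.2.symm,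
        (hSx B sB).1, (hSx B sB).2.1, (hSx B sB).2.2.2.symm, (hSx C sC).1, (hSx C sC).2.1, (hSx C sC).2.2.2.symm,
        (hSx D sD).1, (hSx D sD).2.1, (hSx D sD).2.2.2.symm]
    have hout : ∀ χ, χ ∉ [triv G, A, B, C, D, X, cc X] → m χ = 0 := by
      intro χ hχ
      simp only [List.mem_cons, List.not_mem_nil, not_or, or_false] at hχ
      obtain ⟨q1, q2, q3, q4, q5, q6, q7⟩ := hχ
      by_contra h
      have hχS : χ ∈ S := by rw [hS, Finset.mem_filter]; exact ⟨Finset.mem_univ _, h, q1⟩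
      have := hST χ hχS
      rw [hT] at this
      simp only [Finset.mem_insert, Finset.mem_singleton] at this
      rcases this with h | h | h | h | h | h | h
      · exact hzero _ k3 χ hχS h
      · exact q5 ((mem2 χ).1 ⟨hχS, h⟩)
      · rcases (mem1 χ).1 ⟨hχS, h⟩ with h | h | h
        · exact q2 h
        · exact q3 h
        · exact q4 h
      · exact hzero _ k4 χ hχS h
      · exact hzero _ k5 χ hχS h
      · exact hzero _ k6 χ hχS h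
      · exact hzero _ k7 χ hχS h
    refine ⟨A, B, C, D, X, ⟨hnd, tA.2, tB.2, tC.2, tD.2, kX, by rw [hvalS A sA, tA.1]; norm_num, by rw [hvalS B sB, tB.1]; norm_num,
      by rw [hvalS C sC, tC.1]; norm_num, by rw [hvalS D sD, tD.1]; norm_num, by rw [hXv, kaX]; norm_num, ?_, ?_, fun g h1 h2 => (hrel g h1 h2).2⟩⟩
    · intro χ hχ
      have h1 := hout χ hχ
      simp only [List.mem_cons, List.not_mem_nil, not_or, or_false] at hχ
      exact hm0 χ h1 hχ.2.2.2.2.2.1 hχ.2.2.2.2.2.2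
    · intro g h1 h2
      have h3 := (hrel g h1 h2).1
      rw [sum_list _ hnd _ (fun χ hχ => by rw [hout χ hχ]; simp)] at h3
      simp only [List.map_cons, List.map_nil, List.sum_cons, List.sum_nil, hm1, tA.1, tB.1, tC.1, tD.1, hmX, hmX', kaX, triv_apply] at h3
      push_cast at h3
      linear_combination h3
  · right
    have c1 : (S.filter (fun χ => (m χ, deg χ) = (-1, 10))).card = 2 := hNc _ _ (by exact_mod_cast k1)
    have c2 : (S.filter (fun χ => (m χ, deg χ) = (1, 12))).card = 2 := hNc _ _ (by exact_mod_cast k2)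
    obtain ⟨A, B, hAB, hABC⟩ := Finset.card_eq_two.1 c1
    obtain ⟨C, D, hCD, hD⟩ := Finset.card_eq_two.1 c2
    have mem1 : ∀ χ, (χ ∈ S ∧ (m χ, deg χ) = (-1, 10)) ↔ (χ = A ∨ χ = B) := by
      intro χ
      rw [hmf _ _ hABC]; simp
    have mem2 : ∀ χ, (χ ∈ S ∧ (m χ, deg χ) = (1, 12)) ↔ (χ = C ∨ χ = D) := by
      intro χ
      rw [hmf _ _ hD]; simp
    obtain ⟨sA, tA⟩ := (mem1 A).2 (Or.inl rfl)
    obtain ⟨sB, tB⟩ := (mem1 B).2 (Or.inr rfl)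
    obtain ⟨sC, tC⟩ := (mem2 C).2 (Or.inl rfl)
    obtain ⟨sD, tD⟩ := (mem2 D).2 (Or.inr rfl)
    rw [Prod.mk.injEq] at tA tB tC tD
    have hAD : A ≠ D := by rintro rfl; omega
    have hBD : B ≠ D := by rintro rfl; omega
    have hAC : A ≠ C := by rintro rfl; omega
    have hBC : B ≠ C := by rintro rfl; omega
    have hnd : [triv G, A, B, C, D, X, cc X].Nodup := by
      simp [hAB, hAC, hBC, hAD, hBD, hCD, hX1.symm, hX2.symm, hXX.symm, (hSx A sA).1, (hSx A sA).2.1, (hSx A sA).2.2.2.symm,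
        (hSx B sB).1, (hSx B sB).2.1, (hSx B sB).2.2.2.symm, (hSx C sC).1, (hSx C sC).2.1, (hSx C sC).2.2.2.symm,
        (hSx D sD).1, (hSx D sD).2.1, (hSx D sD).2.2.2.symm]
    have hout : ∀ χ, χ ∉ [triv G, A, B, C, D, X, cc X] → m χ = 0 := by
      intro χ hχ
      simp only [List.mem_cons, List.not_mem_nil, not_or, or_false] at hχ
      obtain ⟨q1, q2, q3, q4, q5, q6, q7⟩ := hχ
      by_contra h
      have hχS : χ ∈ S := by rw [hS, Finset.mem_filter]; exact ⟨Finset.mem_univ _, h, q1⟩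
      have := hST χ hχS
      rw [hT] at this
      simp only [Finset.mem_insert, Finset.mem_singleton] at this
      rcases this with h | h | h | h | h | h | h
      · rcases (mem2 χ).1 ⟨hχS, h⟩ with h | h
        · exact q4 h
        · exact q5 h
      · exact hzero _ k3 χ hχS h
      · rcases (mem1 χ).1 ⟨hχS, h⟩ with h | h
        · exact q2 h
        · exact q3 h
      · exact hzero _ k4 χ hχS h
      · exact hzero _ k5 χ hχS h
      · exact hzero _ k6 χ hχS h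
      · exact hzero _ k7 χ hχS h
    refine ⟨A, B, C, D, X, ⟨hnd, tA.2, tB.2, tC.2, tD.2, kX, by rw [hvalS A sA, tA.1]; norm_num, by rw [hvalS B sB, tB.1]; norm_num,
      by rw [hvalS C sC, tC.1]; norm_num, by rw [hvalS D sD, tD.1]; norm_num, by rw [hXv, kaX]; norm_num, ?_, ?_, fun g h1 h2 => (hrel g h1 h2).2⟩⟩
    · intro χ hχ
      have h1 := hout χ hχ
      simp only [List.mem_cons, List.not_mem_nil, not_or, or_false] at hχ
      exact hm0 χ h1 hχ.2.2.2.2.2.1 hχ.2.2.2.2.2.2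
    · intro g h1 h2
      have h3 := (hrel g h1 h2).1
      rw [sum_list _ hnd _ (fun χ hχ => by rw [hout χ hχ]; simp)] at h3
      simp only [List.map_cons, List.map_nil, List.sum_cons, List.sum_nil, hm1, tA.1, tB.1, tC.1, tD.1, hmX, hmX', kaX, triv_apply] at h3
      push_cast at h3
      linear_combination h3
  · exfalso
    have c1 : (S.filter (fun χ => (m χ, deg χ) = (2, 2))).card = 1 := hNc _ _ (by exact_mod_cast k4)
    obtain ⟨A, hA⟩ := Finset.card_eq_one.1 c1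
    have : A ∈ S.filter (fun χ => (m χ, deg χ) = (2, 2)) := by rw [hA]; simp
    rw [Finset.mem_filter, Prod.mk.injEq] at this
    exact hno2 A this.2.2

end Cfsg.Agent.Lib.M11ByOrder
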