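import Mathlib
import Cfsg.Agent.Lib.M11B
import Cfsg.Agent.Lib.ColTools4

/-!
# Simple groups of order 7920, part C: involutions and elements of order 5 (helper7)
-/

set_option autoImplicit false

namespace Cfsg.Agent.Lib.M11ByOrder

open Subgroup Cfsg Cfsg.Agent.Lib.CharBasic Cfsg.Agent.Lib.ColTools Cfsg.Agent.Lib.SmallSimple
open scoped ComplexConjugate

universe u

variable {G : Type u} [Group G] [Finite G]

omit [Finite G] in
theorem sq_of_isConj {s a : G} (hs : s ^ 2 = 1) (h : IsConj s a) : a ^ 2 = 1 := by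
  obtain ⟨c, rfl⟩ := isConj_iff.1 h
  rw [conj_pow, hs]; group

omit [Finite G] in
/-- a nonreal element is not the product of two involutions -/
theorem not_prod {x : G} (hnr : ¬ IsConj x x⁻¹) {s t : G} (hs : s ^ 2 = 1) (ht : t ^ 2 = 1) :
    ∀ a b : G, IsConj s a → IsConj t b → a * b ≠ x := by
  intro a b ha hb hab
  have h1 := sq_of_isConj hs ha
  have h2 := sq_of_isConj ht hb
  have h3 : a⁻¹ = a := by rw [inv_eq_iff_mul_eq_one, ← sq, h1]
  have h4 : b⁻¹ = b := by rw [inv_eq_iff_mul_eq_one, ← sq, h2]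
  apply hnr
  refine isConj_iff.2 ⟨a, ?_⟩
  rw [← hab, mul_inv_rev, h3, h4]
  calc a * (a * b) * a = (a ^ 2) * b * a := by rw [sq]; group
    _ = b * a := by rw [h1, one_mul]

theorem BlockA.inv_sum {x : G} {A B C D X : IrrCharacter G} (h : BlockA x A B C D X) (hnr : ¬ IsConj x x⁻¹)
    {s t : G} (hs : s ^ 2 = 1) (ht : t ^ 2 = 1) :
    720 - 72 * ((A : G → ℂ) s * (A : G → ℂ) t + (B : G → ℂ) s * (B : G → ℂ) t + (C : G → ℂ) s * (C : G → ℂ) t) +
      16 * ((D : G → ℂ) s * (D : G → ℂ) t) - 45 * ((X : G → ℂ) s * (X : G → ℂ) t) = 0 := by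
  have h1 := struct_zero (a := s) (b := t) (c := x) (not_prod hnr hs ht)
  rw [sum_list _ h.nodup _ (fun χ hχ => by rw [(h.out χ hχ).1]; simp)] at h1
  have hs' : s⁻¹ = s := by rw [inv_eq_iff_mul_eq_one, ← sq, hs]
  have ht' : t⁻¹ = t := by rw [inv_eq_iff_mul_eq_one, ← sq, ht]
  simp only [List.map_cons, List.map_nil, List.sum_cons, List.sum_nil, triv_apply, apply_one, deg_triv, h.dA, h.dB, h.dC, h.dD, h.dX,
    deg_cc, cc_apply, conj_apply, hs', ht', inv_inv, h.vA, h.vB, h.vC, h.vD] at h1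
  push_cast at h1
  linear_combination (720 : ℂ) * h1 - 45 * ((X : G → ℂ) s * (X : G → ℂ) t) * h.vX

theorem BlockB.inv_sum {x : G} {A B C D X : IrrCharacter G} (h : BlockB x A B C D X) (hnr : ¬ IsConj x x⁻¹)
    {s t : G} (hs : s ^ 2 = 1) (ht : t ^ 2 = 1) :
    60 - 6 * ((A : G → ℂ) s * (A : G → ℂ) t + (B : G → ℂ) s * (B : G → ℂ) t) +
      5 * ((C : G → ℂ) s * (C : G → ℂ) t + (D : G → ℂ) s * (D : G → ℂ) t) - 12 * ((X : G → ℂ) s * (X : G → ℂ) t) = 0 := by
  have h1 := struct_zero (a := s) (b := t) (c := x) (not_prod hnr hs ht)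
  rw [sum_list _ h.nodup _ (fun χ hχ => by rw [(h.out χ hχ).1]; simp)] at h1
  have hs' : s⁻¹ = s := by rw [inv_eq_iff_mul_eq_one, ← sq, hs]
  have ht' : t⁻¹ = t := by rw [inv_eq_iff_mul_eq_one, ← sq, ht]
  simp only [List.map_cons, List.map_nil, List.sum_cons, List.sum_nil, triv_apply, apply_one, deg_triv, h.dA, h.dB, h.dC, h.dD, h.dX,
    deg_cc, cc_apply, conj_apply, hs', ht', inv_inv, h.vA, h.vB, h.vC, h.vD] at h1
  push_cast at h1
  linear_combination (60 : ℂ) * h1 - 12 * ((X : G → ℂ) s * (X : G → ℂ) t) * h.vX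

theorem arithA : ∀ a ∈ ({-6, -2, 2, 6} : Finset ℤ), ∀ b ∈ ({-6, -2, 2, 6} : Finset ℤ), ∀ c ∈ ({-6, -2, 2, 6} : Finset ℤ),
    ∀ e ∈ ({-12, -8, -4, 0, 4, 8, 12} : Finset ℤ),
    720 - 72 * (a * a + b * b + c * c) + 16 * ((a + b + c + e - 1) * (a + b + c + e - 1)) - 45 * (e * e) = 0 →
    (a, b, c, e) ∈ ({(2, -2, -2, 0), (-2, 2, -2, 0), (-2, -2, 2, 0)} : Finset (ℤ × ℤ × ℤ × ℤ)) := by decide +kernel

theorem arithB : ∀ a ∈ ({-6, -2, 2, 6} : Finset ℤ), ∀ b ∈ ({-6, -2, 2, 6} : Finset ℤ), ∀ c ∈ ({-8, -4, 0, 4, 8} : Finset ℤ),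
    ∀ e ∈ ({-3, 1} : Finset ℤ),
    60 - 6 * (a * a + b * b) + 5 * (c * c + (a + b + e - 1 - c) * (a + b + e - 1 - c)) - 12 * (e * e) = 0 → e = 1 := by decide +kernel

variable [IsSimpleGroup G]

theorem ne_one_of_order {t : G} {n : ℕ} (ht : orderOf t = n) (hn : n ≠ 1) : t ≠ 1 := by
  rintro rfl; rw [orderOf_one] at ht; exact hn ht.symm

theorem BlockA.inv_val (hG : Nat.card G = 7920) {x : G} (hx : orderOf x = 11) {A B C D X : IrrCharacter G}
    (h : BlockA x A B C D X) (t : G) (ht : orderOf t = 2) :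
    ∃ a b c : ℤ, (A : G → ℂ) t = a ∧ (B : G → ℂ) t = b ∧ (C : G → ℂ) t = c ∧ (D : G → ℂ) t = -3 ∧ (X : G → ℂ) t = 0 ∧
      (a, b, c) ∈ ({(2, -2, -2), (-2, 2, -2), (-2, -2, 2)} : Finset (ℤ × ℤ × ℤ)) := by
  have hna := notComm hG
  obtain ⟨-, -, -, hnr⟩ := elt11 hG x hx
  have ht2 : t ^ 2 = 1 := by rw [← ht]; exact pow_orderOf_eq_one t
  have ht1 := ne_one_of_order ht (by norm_num)
  have hnd := h.nodup
  simp only [List.nodup_cons, List.mem_cons, List.not_mem_nil, not_or, or_false] at hnd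
  obtain ⟨a, a1, a2, -, -, a3⟩ := val_inv hna A t ht2
  obtain ⟨b, b1, b2, -, -, b3⟩ := val_inv hna B t ht2
  obtain ⟨c, c1, c2, -, -, c3⟩ := val_inv hna C t ht2
  obtain ⟨e, e1, e2, -, -, e3⟩ := val_inv hna X t ht2
  replace a3 := a3 ht1 (fun h => hnd.1.1 h.symm)
  replace b3 := b3 ht1 (fun h => hnd.1.2.1 h.symm)
  replace c3 := c3 ht1 (fun h => hnd.1.2.2.1 h.symm)
  replace e3 := e3 ht1 (fun h => hnd.1.2.2.2.2.1 h.symm)
  rw [h.dA] at a2 a3
  rw [h.dB] at b2 b3
  rw [h.dC] at c2 c3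
  rw [h.dX] at e2 e3
  obtain ⟨n1, n2⟩ := not_isConj_of_order hx (g := t) (by rw [ht]; norm_num)
  have hrel := h.rel t n1 n2
  have hD : (D : G → ℂ) t = ((a + b + c + e - 1 : ℤ) : ℂ) := by
    rw [a1, b1, c1, e1] at hrel
    push_cast
    linear_combination hrel
  have hsum := h.inv_sum hnr ht2 ht2
  rw [a1, b1, c1, e1, hD] at hsum
  have hsum' : 720 - 72 * (a * a + b * b + c * c) + 16 * ((a + b + c + e - 1) * (a + b + c + e - 1)) - 45 * (e * e) = 0 := by
    exact_mod_cast hsum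
  have key := arithA a (by simp only [Finset.mem_insert, Finset.mem_singleton]; omega)
    b (by simp only [Finset.mem_insert, Finset.mem_singleton]; omega)
    c (by simp only [Finset.mem_insert, Finset.mem_singleton]; omega)
    e (by simp only [Finset.mem_insert, Finset.mem_singleton]; omega) hsum'
  simp only [Finset.mem_insert, Finset.mem_singleton, Prod.mk.injEq] at key
  refine ⟨a, b, c, a1, b1, c1, ?_, ?_, ?_⟩
  · rw [hD]
    rcases key with ⟨rfl, rfl, rfl, rfl⟩ | ⟨rfl, rfl, rfl, rfl⟩ | ⟨rfl, rfl, rfl, rfl⟩ <;> norm_num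
  · rw [e1]
    rcases key with ⟨rfl, rfl, rfl, rfl⟩ | ⟨rfl, rfl, rfl, rfl⟩ | ⟨rfl, rfl, rfl, rfl⟩ <;> norm_num
  · rcases key with ⟨rfl, rfl, rfl, rfl⟩ | ⟨rfl, rfl, rfl, rfl⟩ | ⟨rfl, rfl, rfl, rfl⟩ <;> decide

theorem BlockB.inv_val (hG : Nat.card G = 7920) {x : G} (hx : orderOf x = 11) {A B C D X : IrrCharacter G}
    (h : BlockB x A B C D X) (t : G) (ht : orderOf t = 2) : (X : G → ℂ) t = 1 := by
  have hna := notComm hG
  obtain ⟨-, -, -, hnr⟩ := elt11 hG x hx
  have ht2 : t ^ 2 = 1 := by rw [← ht]; exact pow_orderOf_eq_one t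
  have ht1 := ne_one_of_order ht (by norm_num)
  have hnd := h.nodup
  simp only [List.nodup_cons, List.mem_cons, List.not_mem_nil, not_or, or_false] at hnd
  obtain ⟨a, a1, a2, -, -, a3⟩ := val_inv hna A t ht2
  obtain ⟨b, b1, b2, -, -, b3⟩ := val_inv hna B t ht2
  obtain ⟨c, c1, c2, -, -, c3⟩ := val_inv hna C t ht2
  obtain ⟨e, e1, e2, -, -, e3⟩ := val_inv hna X t ht2
  replace a3 := a3 ht1 (fun h => hnd.1.1 h.symm)
  replace b3 := b3 ht1 (fun h => hnd.1.2.1 h.symm)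
  replace c3 := c3 ht1 (fun h => hnd.1.2.2.1 h.symm)
  replace e3 := e3 ht1 (fun h => hnd.1.2.2.2.2.1 h.symm)
  rw [h.dA] at a2 a3
  rw [h.dB] at b2 b3
  rw [h.dC] at c2 c3
  rw [h.dX] at e2 e3
  obtain ⟨n1, n2⟩ := not_isConj_of_order hx (g := t) (by rw [ht]; norm_num)
  have hrel := h.rel t n1 n2
  have hD : (D : G → ℂ) t = ((a + b + e - 1 - c : ℤ) : ℂ) := by
    rw [a1, b1, c1, e1] at hrel
    push_cast
    linear_combination hrel
  have hsum := h.inv_sum hnr ht2 ht2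
  rw [a1, b1, c1, e1, hD] at hsum
  have hsum' : 60 - 6 * (a * a + b * b) + 5 * (c * c + (a + b + e - 1 - c) * (a + b + e - 1 - c)) - 12 * (e * e) = 0 := by
    exact_mod_cast hsum
  have key := arithB a (by simp only [Finset.mem_insert, Finset.mem_singleton]; omega)
    b (by simp only [Finset.mem_insert, Finset.mem_singleton]; omega)
    c (by simp only [Finset.mem_insert, Finset.mem_singleton]; omega)
    e (by simp only [Finset.mem_insert, Finset.mem_singleton]; omega) hsum'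
  rw [e1, key, Int.cast_one]

/-- there is no element of order 10 -/
theorem no10 (hG : Nat.card G = 7920) (w : G) (hw : orderOf w = 10) : False := by
  obtain ⟨x, hx⟩ := exists_prime_orderOf_dvd_card' (G := G) 11 (by rw [hG]; norm_num)
  have h5 : ∀ i : ℕ, i = 1 ∨ i = 2 ∨ i = 3 ∨ i = 4 ∨ i = 6 ∨ i = 7 ∨ i = 8 ∨ i = 9 → 5 ∣ orderOf (w ^ i) ∧ orderOf (w ^ i) ≠ 11 := by
    intro i hi
    rw [orderOf_pow, hw]
    rcases hi with rfl | rfl | rfl | rfl | rfl | rfl | rfl | rfl <;> decide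
  have hk : orderOf (w ^ 5) = 2 := by rw [orderOf_pow, hw]; decide
  have hw10 : w ^ 10 = 1 := by rw [← hw]; exact pow_orderOf_eq_one w
  have hn25 : ¬ 5 ^ (1 + 1) ∣ Nat.card G := by rw [hG]; norm_num
  rcases block11 hG x hx with ⟨A, B, C, D, X, h⟩ | ⟨A, B, C, D, X, h⟩
  · have hX5 : ∀ i : ℕ, i = 1 ∨ i = 2 ∨ i = 3 ∨ i = 4 ∨ i = 6 ∨ i = 7 ∨ i = 8 ∨ i = 9 → (X : G → ℂ) (w ^ i) = 1 := by
      intro i hi
      obtain ⟨i1, i2⟩ := h5 i hi
      obtain ⟨n1, n2⟩ := not_isConj_of_order hx i2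
      have hrel := h.rel _ n1 n2
      rw [vanish A 5 1 (by norm_num) hn25 (by rw [h.dA]; norm_num) _ i1, vanish B 5 1 (by norm_num) hn25 (by rw [h.dB]; norm_num) _ i1,
        vanish C 5 1 (by norm_num) hn25 (by rw [h.dC]; norm_num) _ i1, vanish D 5 1 (by norm_num) hn25 (by rw [h.dD]; norm_num) _ i1] at hrel
      linear_combination -hrel
    obtain ⟨a, b, c, -, -, -, -, hXk, -⟩ := h.inv_val hG hx _ hk
    obtain ⟨n, hn⟩ := sum_cyclic X.2.isCharacter w hw10 (by norm_num)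
    simp only [Finset.sum_range_succ, Finset.range_zero, Finset.sum_empty] at hn
    rw [pow_zero, apply_one, h.dX, hXk, hX5 1 (by norm_num), hX5 2 (by norm_num), hX5 3 (by norm_num), hX5 4 (by norm_num),
      hX5 6 (by norm_num), hX5 7 (by norm_num), hX5 8 (by norm_num), hX5 9 (by norm_num)] at hn
    have : (0 + ((16 : ℕ) : ℂ) + 1 + 1 + 1 + 1 + 0 + 1 + 1 + 1 + 1) = ((24 : ℕ) : ℂ) := by push_cast; norm_num
    rw [this] at hn
    have : 24 = 10 * n := by exact_mod_cast hn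
    omega
  · have hX5 : ∀ i : ℕ, i = 1 ∨ i = 2 ∨ i = 3 ∨ i = 4 ∨ i = 6 ∨ i = 7 ∨ i = 8 ∨ i = 9 → (X : G → ℂ) (w ^ i) = 0 := by
      intro i hi
      exact vanish X 5 1 (by norm_num) hn25 (by rw [h.dX]; norm_num) _ (h5 i hi).1
    have hXk := h.inv_val hG hx _ hk
    obtain ⟨n, hn⟩ := sum_cyclic X.2.isCharacter w hw10 (by norm_num)
    simp only [Finset.sum_range_succ, Finset.range_zero, Finset.sum_empty] at hn
    rw [pow_zero, apply_one, h.dX, hXk, hX5 1 (by norm_num), hX5 2 (by norm_num), hX5 3 (by norm_num), hX5 4 (by norm_num),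
      hX5 6 (by norm_num), hX5 7 (by norm_num), hX5 8 (by norm_num), hX5 9 (by norm_num)] at hn
    have : (0 + ((5 : ℕ) : ℂ) + 0 + 0 + 0 + 0 + 1 + 0 + 0 + 0 + 0) = ((6 : ℕ) : ℂ) := by push_cast; norm_num
    rw [this] at hn
    have : 6 = 10 * n := by exact_mod_cast hn
    omega

/-- the Sylow 5-normalizer -/
theorem sylow5 (hG : Nat.card G = 7920) (P : Sylow 5 G) : Nat.card (P : Subgroup G) = 5 ∧
    Nat.card (normalizer ((P : Subgroup G) : Set G)) = 20 ∧
    Nat.card (centralizer ((P : Subgroup G) : Set G)) = 5 := by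
  have hna := notComm hG
  have hP : Nat.card (P : Subgroup G) = 5 := by
    have := sylow_card_of (G := G) (p := 5) (k := 1) (m := 1584) (by rw [hG]; norm_num) (by norm_num) P
    simpa using this
  have hN := card_normalizer_mul_nsyl P
  have h := nsyl_mem (G := G) (p := 5) (k := 1) (m := 1584) (by rw [hG]; norm_num) (by norm_num)
  have h2 : (Nat.divisors 1584).filter (fun d => d % 5 = 1) = {1, 6, 11, 16, 36, 66, 176, 396} := by decide +kernel
  rw [h2] at h
  simp only [Finset.mem_insert, Finset.mem_singleton] at h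
  obtain ⟨e, c, h5, h6, h7, h8⟩ := nc_data hna P hP
  have hgen : ∀ r : ℕ, r.Prime → r ∣ c → ∃ y k : G, orderOf y = 5 ∧ orderOf k = r ∧ Commute y k := by
    intro r hr hrc
    have : Fact r.Prime := ⟨hr⟩
    obtain ⟨k, hk⟩ := exists_prime_orderOf_dvd_card' (G := centralizer ((P : Subgroup G) : Set G)) r
      (by rw [h6]; exact Dvd.dvd.mul_left hrc 5)
    obtain ⟨y, hy⟩ := exists_prime_orderOf_dvd_card' (G := (P : Subgroup G)) 5 (by rw [hP])
    refine ⟨y, k, by rw [Subgroup.orderOf_coe, hy], by rw [Subgroup.orderOf_coe, hk], ?_⟩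
    have := k.2
    rw [mem_centralizer_iff] at this
    exact this y y.2
  have hc2 : ¬ 2 ∣ c := by
    intro h
    obtain ⟨y, k, hy, hk, hyk⟩ := hgen 2 Nat.prime_two h
    apply no10 hG (y * k)
    rw [hyk.orderOf_mul_eq_mul_orderOf_of_coprime (by rw [hy, hk]; decide), hy, hk]
  have hc11 : ¬ 11 ∣ c := by
    intro h
    obtain ⟨y, k, hy, hk, hyk⟩ := hgen 11 (by norm_num) h
    have h9 := (elt11 hG k hk).1
    have h10 : y ∈ centralizer ({k} : Set G) := by
      rw [mem_centralizer_singleton_iff]; exact hyk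
    have h11 := orderOf_dvd_natCard (⟨y, h10⟩ : centralizer ({k} : Set G))
    rw [h9, ← Subgroup.orderOf_coe] at h11
    simp only [hy] at h11
    norm_num at h11
  rw [h5, hG] at hN
  have he : e = 2 ∨ e = 4 := by
    have h9 : e ∣ 4 := h7
    have := Nat.le_of_dvd (by norm_num) h9
    interval_cases e <;> simp_all
  refine ⟨hP, ?_, ?_⟩
  · rw [h5]
    rcases he with rfl | rfl <;> rcases h with h | h | h | h | h | h | h | h <;> rw [h] at hN <;> omega
  · rw [h6]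
    rcases he with rfl | rfl <;> rcases h with h | h | h | h | h | h | h | h <;> rw [h] at hN <;> omega

/-- elements of order 5 -/
theorem elt5 (hG : Nat.card G = 7920) (y : G) (hy : orderOf y = 5) :
    Nat.card (centralizer ({y} : Set G)) = 5 ∧ Nat.card (normalizer (zpowers y : Set G)) = 20 ∧
    (∀ a : ℕ, (a : ZMod 5) ≠ 0 → IsConj y (y ^ a)) := by
  have hcard : Nat.card (zpowers y) = 5 := by rw [Nat.card_zpowers, hy]
  have hp : IsPGroup 5 (zpowers y) := IsPGroup.of_card (n := 1) (by rw [hcard]; norm_num)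
  obtain ⟨P, hP⟩ := hp.exists_le_sylow
  obtain ⟨h1, h2, h3⟩ := sylow5 hG P
  have hPeq : (P : Subgroup G) = zpowers y := (eq_of_le_of_card_ge hP (by rw [h1, hcard])).symm
  rw [hPeq] at h2 h3
  have h4 : centralizer ({y} : Set G) = centralizer (zpowers y : Set G) := by
    apply le_antisymm
    · intro g hg
      rw [mem_centralizer_singleton_iff] at hg
      rw [mem_centralizer_iff]
      intro z hz
      obtain ⟨n, rfl⟩ := mem_zpowers_iff.1 hz
      exact (((Commute.zpow_right (show Commute g y from hg) n))).symm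
    · exact centralizer_le (by simp)
  have hC : Nat.card (centralizer ({y} : Set G)) = 5 := by rw [h4]; exact h3
  refine ⟨hC, h2, ?_⟩
  have h5 := QRConj.card_expo (p := 5) y hy
  rw [hC, h2] at h5
  have h6 : Nat.card (QRConj.expo (p := 5) y hy) = 4 := by omega
  have h7 : QRConj.expo (p := 5) y hy = ⊤ := by
    apply eq_top_of_card_eq
    rw [h6, Nat.card_eq_fintype_card, ZMod.card_units_eq_totient]
    decide
  intro a ha
  rw [← QRConj.mem_expo_iff y hy a ha, h7]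
  trivial

end Cfsg.Agent.Lib.M11ByOrder
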