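import Mathlib
import Cfsg.Agent.Lib.M11C

/-!
# Simple groups of order 7920, part D: the irreducible characters (helper7)
-/

set_option autoImplicit false

namespace Cfsg.Agent.Lib.M11ByOrder

open Subgroup Cfsg Cfsg.Agent.Lib.CharBasic Cfsg.Agent.Lib.ColTools Cfsg.Agent.Lib.SmallSimple
open scoped ComplexConjugate

universe u

variable {G : Type u} [Group G] [Finite G]

/-- the irreducible characters of a simple group of order 7920 -/
structure Tab (A B C D X E F H : IrrCharacter G) : Prop where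
  nodup : [triv G, A, B, C, D, X, cc X, E, F, H].Nodup
  all : ∀ χ : IrrCharacter G, χ ∈ [triv G, A, B, C, D, X, cc X, E, F, H]
  dA : deg A = 10
  dB : deg B = 10
  dC : deg C = 10
  dD : deg D = 45
  dX : deg X = 16
  dE : deg E = 11
  dF : deg F = 44
  dH : deg H = 55
  rel11 : ∀ g : G, orderOf g ≠ 11 → 1 + (D : G → ℂ) g = (A : G → ℂ) g + (B : G → ℂ) g + (C : G → ℂ) g + (X : G → ℂ) g
  real : ∀ g : G, orderOf g ≠ 11 → (cc X : G → ℂ) g = (X : G → ℂ) g
  rel5 : ∀ g : G, orderOf g ≠ 11 → orderOf g ≠ 5 → (F : G → ℂ) g = 1 + 2 * (X : G → ℂ) g + (E : G → ℂ) g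
  vA : ∀ x : G, orderOf x = 11 → (A : G → ℂ) x = -1
  vA5 : ∀ y : G, orderOf y = 5 → (A : G → ℂ) y = 0
  tA : ∀ t : G, orderOf t = 2 → (A : G → ℂ) t = 2
  tB : ∀ t : G, orderOf t = 2 → (B : G → ℂ) t = -2
  tC : ∀ t : G, orderOf t = 2 → (C : G → ℂ) t = -2
  tD : ∀ t : G, orderOf t = 2 → (D : G → ℂ) t = -3
  tX : ∀ t : G, orderOf t = 2 → (X : G → ℂ) t = 0

theorem BlockA.swapAB {x : G} {A B C D X : IrrCharacter G} (h : BlockA x A B C D X) : BlockA x B A C D X := by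
  have hp : [triv G, A, B, C, D, X, cc X].Perm [triv G, B, A, C, D, X, cc X] :=
    List.Perm.cons _ (List.Perm.swap _ _ _)
  exact ⟨hp.nodup_iff.1 h.nodup, h.dB, h.dA, h.dC, h.dD, h.dX, h.vB, h.vA, h.vC, h.vD, h.vX,
    fun χ hχ => h.out χ (fun hm => hχ (hp.mem_iff.1 hm)), fun g h1 h2 => by rw [h.rel g h1 h2]; ring, h.real⟩

theorem BlockA.swapBC {x : G} {A B C D X : IrrCharacter G} (h : BlockA x A B C D X) : BlockA x A C B D X := by
  have hp : [triv G, A, B, C, D, X, cc X].Perm [triv G, A, C, B, D, X, cc X] :=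
    List.Perm.cons _ (List.Perm.cons _ (List.Perm.swap _ _ _))
  exact ⟨hp.nodup_iff.1 h.nodup, h.dA, h.dC, h.dB, h.dD, h.dX, h.vA, h.vC, h.vB, h.vD, h.vX,
    fun χ hχ => h.out χ (fun hm => hχ (hp.mem_iff.1 hm)), fun g h1 h2 => by rw [h.rel g h1 h2]; ring, h.real⟩

variable [IsSimpleGroup G]

/-- two classes of elements of order 11 -/
theorem conj11 (hG : Nat.card G = 7920) {x z : G} (hx : orderOf x = 11) (hz : orderOf z = 11) :
    IsConj z x ∨ IsConj z x⁻¹ := by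
  obtain ⟨-, -, hqr, -⟩ := elt11 hG x hx
  have hS : ∀ u : G, orderOf u = 11 → ∃ P : Sylow 11 G, (P : Subgroup G) = zpowers u := by
    intro u hu
    have hcard : Nat.card (zpowers u) = 11 := by rw [Nat.card_zpowers, hu]
    have hp : IsPGroup 11 (zpowers u) := IsPGroup.of_card (n := 1) (by rw [hcard]; norm_num)
    obtain ⟨P, hP⟩ := hp.exists_le_sylow
    exact ⟨P, (eq_of_le_of_card_ge hP (by rw [(sylow11 hG P).1, hcard])).symm⟩
  obtain ⟨P, hP⟩ := hS x hx
  obtain ⟨Q, hQ⟩ := hS z hz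
  obtain ⟨g, hg⟩ := MulAction.exists_smul_eq G Q P
  have h1 : g * z * g⁻¹ ∈ zpowers x := by
    rw [← hP, ← hg]
    have h2 : z ∈ (Q : Subgroup G) := by rw [hQ]; exact mem_zpowers z
    have h3 := Subgroup.smul_mem_pointwise_smul z (MulAut.conj g) (Q : Subgroup G) h2
    rwa [MulAut.smul_def, MulAut.conj_apply] at h3
  obtain ⟨a, ha⟩ := (mem_powers_iff_mem_zpowers.2 h1)
  have ha' : x ^ a = g * z * g⁻¹ := ha
  have hzx : IsConj z (x ^ a) := isConj_iff.2 ⟨g, ha'.symm⟩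
  have ha0 : (a : ZMod 11) ≠ 0 := by
    intro h
    have h4 : 11 ∣ a := (ZMod.natCast_eq_zero_iff a 11).1 h
    have h5 : x ^ a = 1 := orderOf_dvd_iff_pow_eq_one.1 (by rw [hx]; exact h4)
    rw [h5] at hzx
    have := isConj_order hzx
    rw [hz, orderOf_one] at this
    norm_num at this
  by_cases hs : IsSquare (a : ZMod 11)
  · exact Or.inl (hzx.trans (hqr a ha0 hs).symm)
  · right
    -- `10 a` is a square
    have hs' : IsSquare ((10 * a : ℕ) : ZMod 11) := by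
      have key : ∀ b : ZMod 11, b ≠ 0 → ¬ IsSquare b → IsSquare (10 * b) := by decide +kernel
      push_cast
      exact key _ ha0 hs
    have h10 : ((10 * a : ℕ) : ZMod 11) ≠ 0 := by
      have key : ∀ b : ZMod 11, b ≠ 0 → 10 * b ≠ 0 := by decide +kernel
      push_cast
      exact key _ ha0
    have h6 := hqr _ h10 hs'
    -- invert
    obtain ⟨c, hc⟩ := isConj_iff.1 h6
    have h7 : x ^ (10 * a) = (x ^ a)⁻¹ := by
      rw [eq_inv_iff_mul_eq_one, ← pow_add]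
      have : 10 * a + a = 11 * a := by ring
      rw [this, pow_mul, ← hx, pow_orderOf_eq_one, one_pow]
    have h8 : IsConj x⁻¹ (x ^ a) := by
      refine isConj_iff.2 ⟨c, ?_⟩
      rw [h7] at hc
      rw [← inv_inj, ← hc]
      group
    exact hzx.trans h8.symm

/-- block B is impossible -/
theorem BlockB.false (hG : Nat.card G = 7920) {x : G} (hx : orderOf x = 11) {A B C D X : IrrCharacter G}
    (h : BlockB x A B C D X) : False := by
  classical
  obtain ⟨y, hy⟩ := exists_prime_orderOf_dvd_card' (G := G) 5 (by rw [hG]; norm_num)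
  obtain ⟨hC, -, hconj⟩ := elt5 hG y hy
  have hy5 : y ^ 5 = 1 := by rw [← hy]; exact pow_orderOf_eq_one y
  have hn25 : ¬ 5 ^ (1 + 1) ∣ Nat.card G := by rw [hG]; norm_num
  have h5 : 5 ∣ orderOf y := by rw [hy]
  obtain ⟨n1, n2⟩ := not_isConj_of_order hx (g := y) (by rw [hy]; norm_num)
  have hrel := h.rel _ n1 n2
  rw [vanish A 5 1 (by norm_num) hn25 (by rw [h.dA]; norm_num) _ h5, vanish B 5 1 (by norm_num) hn25 (by rw [h.dB]; norm_num) _ h5,
    vanish X 5 1 (by norm_num) hn25 (by rw [h.dX]; norm_num) _ h5] at hrel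
  obtain ⟨c0, c1, c2, c3⟩ := rat_val C y hy5 hconj
  obtain ⟨d0, d1, d2, d3⟩ := rat_val D y hy5 hconj
  rw [h.dC] at c3
  rw [h.dD] at d3
  rw [c2, d2] at hrel
  have hyi : y⁻¹ = y ^ 4 := by
    rw [inv_eq_iff_mul_eq_one, ← pow_succ', hy5]
  have hval : ∀ χ : IrrCharacter G, (χ : G → ℂ) y⁻¹ = (χ : G → ℂ) y := by
    intro χ
    obtain ⟨g, hg⟩ := isConj_iff.1 (hconj 4 (by decide))
    rw [hyi, ← hg, χ.2.isClassFunction]
  -- the norm bound
  have hnorm : (1 : ℤ) + (c0 - c1) ^ 2 + (d0 - d1) ^ 2 ≤ 5 := by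
    have h6 := col_orth_self y
    rw [hC] at h6
    simp only [hval] at h6
    choose v0 v1 v2 v3 using fun χ : IrrCharacter G => rat_val χ y hy5 hconj
    have h7 : ∑ χ, ((v0 χ : ℤ) - v1 χ) ^ 2 = 5 := by
      have : ((∑ χ, ((v0 χ : ℤ) - v1 χ) ^ 2 : ℤ) : ℂ) = ((5 : ℤ) : ℂ) := by
        rw [Int.cast_sum]
        push_cast
        push_cast at h6
        rw [← h6]
        refine Finset.sum_congr rfl fun χ _ => ?_
        rw [v2 χ]; push_cast; ring
      exact_mod_cast this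
    have h8 : ∀ χ : IrrCharacter G, ∀ m : ℤ, (χ : G → ℂ) y = m → ((v0 χ : ℤ) - v1 χ) = m := by
      intro χ m hm
      rw [v2 χ] at hm
      exact_mod_cast hm
    rw [← h7]
    have hnd := h.nodup
    simp only [List.nodup_cons, List.mem_cons, List.not_mem_nil, not_or, or_false] at hnd
    have h9 := Finset.sum_le_sum_of_subset_of_nonneg (s := {triv G, C, D}) (t := Finset.univ) (f := fun χ => ((v0 χ : ℤ) - v1 χ) ^ 2)
      (Finset.subset_univ _) (fun χ _ _ => sq_nonneg _)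
    rw [Finset.sum_insert (by simp [hnd.1.2.2.1, hnd.1.2.2.2.1]), Finset.sum_pair hnd.2.2.2.1.1,
      h8 (triv G) 1 (by rw [triv_apply]; norm_num), h8 C _ c2, h8 D _ d2] at h9
    linarith
  have hrel' : 1 + ((c0 : ℤ) - c1) + (d0 - d1) = 0 := by
    have : ((1 + ((c0 : ℤ) - c1) + (d0 - d1) : ℤ) : ℂ) = 0 := by
      push_cast
      push_cast at hrel
      linear_combination hrel
    exact_mod_cast this
  push_cast at c3 d3
  obtain ⟨u, hu⟩ : ∃ u : ℤ, u = (c0 : ℤ) - c1 := ⟨_, rfl⟩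
  obtain ⟨v, hv⟩ : ∃ v : ℤ, v = (d0 : ℤ) - d1 := ⟨_, rfl⟩
  rw [← hu, ← hv] at hnorm hrel'
  have b1 : u ≤ 2 := by nlinarith
  have b2 : -2 ≤ u := by nlinarith
  have b3 : v ≤ 2 := by nlinarith
  have b4 : -2 ≤ v := by nlinarith
  omega

omit [Finite G] [IsSimpleGroup G] [Group G] in
theorem arith4 (d : ℕ) (v s : ℤ) (h7 : d ∈ ({1, 2, 3, 4, 5, 6, 8, 9, 10, 11, 12, 15, 16, 18, 20, 22, 24, 30, 33, 36, 40, 44, 45, 48, 55, 60, 66, 72,
      80, 88} : Finset ℕ)) (h : (d : ℤ) = v + 5 * s) (h1 : v = 1 ∨ v = -1) (h3 : 11 ∣ d) :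
    (v, d) ∈ ({(1, 11), (1, 66), (-1, 44)} : Finset (ℤ × ℕ)) := by
  simp only [Finset.mem_insert, Finset.mem_singleton, Prod.mk.injEq] at h7 ⊢
  rcases h7 with h7 | h7 | h7 | h7 | h7 | h7 | h7 | h7 | h7 | h7 | h7 | h7 | h7 | h7 | h7 | h7 | h7 | h7 | h7 | h7 | h7 | h7 | h7 | h7 | h7 | h7 | h7 | h7 | h7 | h7 <;> subst h7 <;> omega

omit [Finite G] [IsSimpleGroup G] [Group G] in
theorem arith5 (d : ℕ) (h7 : d ∈ ({1, 2, 3, 4, 5, 6, 8, 9, 10, 11, 12, 15, 16, 18, 20, 22, 24, 30, 33, 36, 40, 44, 45, 48, 55, 60, 66, 72,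
      80, 88} : Finset ℕ)) (h : 5 ∣ d) (h3 : 11 ∣ d) : d = 55 := by
  simp only [Finset.mem_insert, Finset.mem_singleton] at h7 ⊢
  rcases h7 with h7 | h7 | h7 | h7 | h7 | h7 | h7 | h7 | h7 | h7 | h7 | h7 | h7 | h7 | h7 | h7 | h7 | h7 | h7 | h7 | h7 | h7 | h7 | h7 | h7 | h7 | h7 | h7 | h7 | h7 <;> subst h7 <;> omega

set_option maxHeartbeats 1000000 in
theorem exists_tab (hG : Nat.card G = 7920) : ∃ A B C D X E F H : IrrCharacter G, Tab A B C D X E F H := by
  classical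
  have hna := notComm hG
  obtain ⟨x, hx⟩ := exists_prime_orderOf_dvd_card' (G := G) 11 (by rw [hG]; norm_num)
  obtain ⟨y, hy⟩ := exists_prime_orderOf_dvd_card' (G := G) 5 (by rw [hG]; norm_num)
  obtain ⟨t0, ht0⟩ := exists_prime_orderOf_dvd_card' (G := G) 2 (by rw [hG]; norm_num)
  obtain ⟨hCx, -, hqr, hnr⟩ := elt11 hG x hx
  -- choose the order of A, B, C
  obtain ⟨A, B, C, D, X, h, hA0⟩ : ∃ A B C D X : IrrCharacter G, BlockA x A B C D X ∧ (A : G → ℂ) t0 = 2 := by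
    rcases block11 hG x hx with ⟨A, B, C, D, X, h⟩ | ⟨A, B, C, D, X, h⟩
    · obtain ⟨a, b, c, ha, hb, hc, -, -, hm⟩ := h.inv_val hG hx t0 ht0
      simp only [Finset.mem_insert, Finset.mem_singleton, Prod.mk.injEq] at hm
      rcases hm with ⟨h1, h2, h3⟩ | ⟨h1, h2, h3⟩ | ⟨h1, h2, h3⟩
      · exact ⟨A, B, C, D, X, h, by rw [ha, h1]; norm_num⟩
      · exact ⟨B, A, C, D, X, h.swapAB, by rw [hb, h2]; norm_num⟩
      · exact ⟨C, A, B, D, X, h.swapBC.swapAB, by rw [hc, h3]; norm_num⟩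
    · exact (h.false hG hx).elim
  have hinv : ∀ t : G, orderOf t = 2 → (A : G → ℂ) t = 2 ∧ (B : G → ℂ) t = -2 ∧ (C : G → ℂ) t = -2 ∧ (D : G → ℂ) t = -3 ∧
      (X : G → ℂ) t = 0 := by
    intro t ht
    obtain ⟨a0, b0, c0, ha0, hb0, hc0, hD0, hX0, hm0⟩ := h.inv_val hG hx t0 ht0
    obtain ⟨a, b, c, ha, hb, hc, hD, hX, hm⟩ := h.inv_val hG hx t ht
    have ht2 : t ^ 2 = 1 := by rw [← ht]; exact pow_orderOf_eq_one t
    have ht02 : t0 ^ 2 = 1 := by rw [← ht0]; exact pow_orderOf_eq_one t0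
    have h1 := h.inv_sum hnr ht02 ht2
    rw [hA0] at ha0
    have ha0' : a0 = 2 := by exact_mod_cast ha0.symm
    rw [hA0, hb0, hc0, hD0, hX0, ha, hb, hc, hD, hX] at h1
    have h2 : 720 - 72 * (2 * a + b0 * b + c0 * c) + 16 * (-3 * -3) - 45 * (0 * 0) = 0 := by exact_mod_cast h1
    simp only [Finset.mem_insert, Finset.mem_singleton, Prod.mk.injEq] at hm hm0
    rcases hm0 with ⟨k1, k2, k3⟩ | ⟨k1, k2, k3⟩ | ⟨k1, k2, k3⟩
    · rw [k2, k3] at h2
      rcases hm with ⟨l1, l2, l3⟩ | ⟨l1, l2, l3⟩ | ⟨l1, l2, l3⟩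
      · rw [ha, hb, hc, hD, hX, l1, l2, l3]; norm_num
      · rw [l1, l2, l3] at h2; norm_num at h2
      · rw [l1, l2, l3] at h2; norm_num at h2
    · omega
    · omega
  -- the order 5 column
  obtain ⟨hC5, -, hconj⟩ := elt5 hG y hy
  have hy5 : y ^ 5 = 1 := by rw [← hy]; exact pow_orderOf_eq_one y
  have hn25 : ¬ 5 ^ (1 + 1) ∣ Nat.card G := by rw [hG]; norm_num
  have h5 : 5 ∣ orderOf y := by rw [hy]
  obtain ⟨n1, n2⟩ := not_isConj_of_order hx (g := y) (by rw [hy]; norm_num)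
  have hrel := h.rel _ n1 n2
  have vA5 := vanish A 5 1 (by norm_num) hn25 (by rw [h.dA]; norm_num) _ h5
  have vB5 := vanish B 5 1 (by norm_num) hn25 (by rw [h.dB]; norm_num) _ h5
  have vC5 := vanish C 5 1 (by norm_num) hn25 (by rw [h.dC]; norm_num) _ h5
  have vD5 := vanish D 5 1 (by norm_num) hn25 (by rw [h.dD]; norm_num) _ h5
  rw [vA5, vB5, vC5, vD5] at hrel
  have vX5 : (X : G → ℂ) y = 1 := by linear_combination -hrel
  have hyi : y⁻¹ = y ^ 4 := by
    rw [inv_eq_iff_mul_eq_one, ← pow_succ', hy5]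
  have hval : ∀ χ : IrrCharacter G, (χ : G → ℂ) y⁻¹ = (χ : G → ℂ) y := by
    intro χ
    obtain ⟨g, hg⟩ := isConj_iff.1 (hconj 4 (by decide))
    rw [hyi, ← hg, χ.2.isClassFunction]
  have vX5' : (cc X : G → ℂ) y = 1 := by rw [cc_apply, conj_apply, hval, vX5]
  choose v0 v1 v2 v3 using fun χ : IrrCharacter G => rat_val χ y hy5 hconj
  set v : IrrCharacter G → ℤ := fun χ => (v0 χ : ℤ) - v1 χ with hv
  have hvv : ∀ χ : IrrCharacter G, (χ : G → ℂ) y = v χ := v2
  have h8 : ∀ χ : IrrCharacter G, ∀ m : ℤ, (χ : G → ℂ) y = m → v χ = m := by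
    intro χ m hm
    rw [hvv χ] at hm
    exact_mod_cast hm
  have vt := h8 (triv G) 1 (by rw [triv_apply]; norm_num)
  have vA := h8 A 0 (by rw [vA5]; norm_num)
  have vB := h8 B 0 (by rw [vB5]; norm_num)
  have vC := h8 C 0 (by rw [vC5]; norm_num)
  have vD := h8 D 0 (by rw [vD5]; norm_num)
  have vX := h8 X 1 (by rw [vX5]; norm_num)
  have vX' := h8 (cc X) 1 (by rw [vX5']; norm_num)
  have hsq : ∑ χ, v χ ^ 2 = 5 := by
    have h6 := col_orth_self y
    rw [hC5] at h6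
    simp only [hval] at h6
    have : ((∑ χ, v χ ^ 2 : ℤ) : ℂ) = ((5 : ℤ) : ℂ) := by
      rw [Int.cast_sum]
      push_cast
      push_cast at h6
      rw [← h6]
      refine Finset.sum_congr rfl fun χ _ => ?_
      rw [hvv χ]; ring
    exact_mod_cast this
  have h1y : ¬ IsConj y 1 := by
    intro h
    have := isConj_order h
    rw [hy, orderOf_one] at this
    norm_num at this
  have hdg : ∑ χ, v χ * (deg χ : ℤ) = 0 := by
    have h6 := col_orth_ne h1y
    rw [inv_one] at h6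
    simp only [apply_one] at h6
    have : ((∑ χ, v χ * (deg χ : ℤ) : ℤ) : ℂ) = 0 := by
      rw [Int.cast_sum, ← h6]
      refine Finset.sum_congr rfl fun χ _ => ?_
      rw [hvv χ]; push_cast; ring
    exact_mod_cast this
  set L : List (IrrCharacter G) := [triv G, A, B, C, D, X, cc X] with hL
  set S : Finset (IrrCharacter G) := Finset.univ.filter (fun χ => χ ∉ L ∧ v χ ≠ 0) with hS
  have hsplit : ∀ F : IrrCharacter G → ℤ, (∀ χ, v χ = 0 → F χ = 0) → ∑ χ, F χ = F (triv G) + F X + F (cc X) + ∑ χ ∈ S, F χ := by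
    intro F hF
    have e1 : ∑ χ, F χ = ∑ χ ∈ Finset.univ.filter (fun χ => χ ∈ L), F χ + ∑ χ ∈ Finset.univ.filter (fun χ => ¬ χ ∈ L), F χ :=
      (Finset.sum_filter_add_sum_filter_not _ _ _).symm
    have e2 : ∑ χ ∈ Finset.univ.filter (fun χ => χ ∈ L), F χ = (L.map F).sum := by
      rw [← List.sum_toFinset F h.nodup]
      congr 1
      ext χ; simp [hL]
    have e3 : ∑ χ ∈ Finset.univ.filter (fun χ => ¬ χ ∈ L), F χ = ∑ χ ∈ S, F χ := by
      symm
      apply Finset.sum_subset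
      · intro χ hχ
        rw [hS, Finset.mem_filter] at hχ
        rw [Finset.mem_filter]
        exact ⟨hχ.1, hχ.2.1⟩
      · intro χ hχ hχ'
        rw [Finset.mem_filter] at hχ
        rw [hS, Finset.mem_filter, not_and, not_and, not_not] at hχ'
        exact hF χ (hχ' hχ.1 hχ.2)
    rw [e1, e2, e3, hL]
    simp only [List.map_cons, List.map_nil, List.sum_cons, List.sum_nil, hF A vA, hF B vB, hF C vC, hF D vD]
    ring
  have e1 := hsplit (fun χ => v χ ^ 2) (fun χ h => by rw [h]; norm_num)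
  have e2 := hsplit (fun χ => v χ * (deg χ : ℤ)) (fun χ h => by rw [h]; norm_num)
  rw [hsq, vt, vX, vX'] at e1
  rw [hdg, vt, vX, vX', deg_triv, deg_cc, h.dX] at e2
  have hv1 : ∀ χ ∈ S, v χ = 1 ∨ v χ = -1 := by
    intro χ hχ
    have := Finset.single_le_sum (f := fun χ => v χ ^ 2) (fun _ _ => sq_nonneg _) hχ
    rw [hS, Finset.mem_filter] at hχ
    have h9 : v χ ^ 2 ≤ 2 := by linarith
    have b1 : v χ ≤ 1 := by nlinarith
    have b2 : -1 ≤ v χ := by nlinarith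
    have b3 := hχ.2.2
    omega
  have h11 : ∀ χ, χ ∉ L → 11 ∣ deg χ := fun χ hχ => (h.out χ hχ).2
  set T : Finset (ℤ × ℕ) := {(1, 11), (1, 66), (-1, 44)} with hT
  have hST : ∀ χ ∈ S, (v χ, deg χ) ∈ T := by
    intro χ hχ
    have hχ' := hχ
    rw [hS, Finset.mem_filter] at hχ'
    refine arith4 (deg χ) (v χ) (v1 χ) (deg_mem hG χ) ?_ (hv1 χ hχ) (h11 χ hχ'.2.1)
    rw [v3 χ, hv]; push_cast; ring
  set N : ℤ × ℕ → ℤ := fun v' => ((S.filter (fun χ => (v χ, deg χ) = v')).card : ℤ) with hN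
  have hN0 : ∀ v, 0 ≤ N v := fun v => by simp [hN]
  have hbt : ∀ f : ℤ × ℕ → ℤ, ∑ χ ∈ S, f (v χ, deg χ) = ∑ v ∈ T, N v * f v := fun f =>
    sum_by_type S T (fun χ => (v χ, deg χ)) hST f
  have hexp : ∀ f : ℤ × ℕ → ℤ, ∑ v ∈ T, N v * f v = N (1, 11) * f (1, 11) + N (1, 66) * f (1, 66) + N (-1, 44) * f (-1, 44) := by
    intro f
    rw [hT, Finset.sum_insert (by decide), Finset.sum_insert (by decide), Finset.sum_singleton]
    ring
  have e3 := hbt (fun v => v.1 ^ 2)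
  have e4 := hbt (fun v => v.1 * (v.2 : ℤ))
  rw [hexp] at e3 e4
  rw [e3] at e1
  rw [e4] at e2
  have n1' := hN0 (1, 11)
  have n2' := hN0 (1, 66)
  have n3' := hN0 (-1, 44)
  push_cast at e1 e2
  have hmain : N (1, 11) = 1 ∧ N (1, 66) = 0 ∧ N (-1, 44) = 1 := by
    generalize N (1, 11) = a1 at *
    generalize N (1, 66) = a2 at *
    generalize N (-1, 44) = a3 at *
    have : a3 ≤ 2 := by omega
    interval_cases a3 <;> omega
  have hNc : ∀ (w : ℤ × ℕ) (k : ℕ), N w = (k : ℤ) → (S.filter (fun χ => (v χ, deg χ) = w)).card = k := by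
    intro w k h
    have : ((S.filter (fun χ => (v χ, deg χ) = w)).card : ℤ) = (k : ℤ) := h
    exact_mod_cast this
  have hmf : ∀ (w : ℤ × ℕ) (F : Finset (IrrCharacter G)), S.filter (fun χ => (v χ, deg χ) = w) = F → ∀ χ, (χ ∈ S ∧ (v χ, deg χ) = w) ↔ χ ∈ F := by
    intro w F h χ
    rw [← h]
    exact (Finset.mem_filter (s := S) (p := fun χ => (v χ, deg χ) = w) (a := χ)).symm
  obtain ⟨E, hE⟩ := Finset.card_eq_one.1 (hNc (1, 11) 1 (by exact_mod_cast hmain.1))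
  obtain ⟨F, hF⟩ := Finset.card_eq_one.1 (hNc (-1, 44) 1 (by exact_mod_cast hmain.2.2))
  have memE : ∀ χ, (χ ∈ S ∧ (v χ, deg χ) = (1, 11)) ↔ χ = E := by
    intro χ; rw [hmf _ _ hE]; simp
  have memF : ∀ χ, (χ ∈ S ∧ (v χ, deg χ) = (-1, 44)) ↔ χ = F := by
    intro χ; rw [hmf _ _ hF]; simp
  obtain ⟨sE, tE⟩ := (memE E).2 rfl
  obtain ⟨sF, tF⟩ := (memF F).2 rfl
  rw [Prod.mk.injEq] at tE tF
  have hEF : E ≠ F := by rintro rfl; omega
  have hSmem : ∀ χ, χ ∈ S ↔ χ = E ∨ χ = F := by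
    intro χ
    constructor
    · intro hχ
      have := hST χ hχ
      rw [hT] at this
      simp only [Finset.mem_insert, Finset.mem_singleton] at this
      rcases this with k | k | k
      · exact Or.inl ((memE χ).1 ⟨hχ, k⟩)
      · exfalso
        have h1 := hNc (1, 66) 0 (by exact_mod_cast hmain.2.1)
        rw [Finset.card_eq_zero] at h1
        have := (hmf _ _ h1 χ).1 ⟨hχ, k⟩
        simp at this
      · exact Or.inr ((memF χ).1 ⟨hχ, k⟩)
    · rintro (rfl | rfl)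
      · exact sE
      · exact sF
  have hEL : E ∉ L := by rw [hS, Finset.mem_filter] at sE; exact sE.2.1
  have hFL : F ∉ L := by rw [hS, Finset.mem_filter] at sF; exact sF.2.1
  -- the remaining characters have degree 55
  have hrest : ∀ χ, χ ∉ L → χ ≠ E → χ ≠ F → v χ = 0 ∧ deg χ = 55 := by
    intro χ h1 h2 h3
    have h4 : v χ = 0 := by
      by_contra h4
      have : χ ∈ S := by rw [hS, Finset.mem_filter]; exact ⟨Finset.mem_univ _, h1, h4⟩
      rcases (hSmem χ).1 this with k | k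
      · exact h2 k
      · exact h3 k
    refine ⟨h4, arith5 _ (deg_mem hG χ) ?_ (h11 χ h1)⟩
    have h6 := v3 χ
    have h7 : (v0 χ : ℤ) - v1 χ = 0 := h4
    push_cast at h6
    have : (5 : ℤ) ∣ (deg χ : ℤ) := ⟨v1 χ, by linarith⟩
    exact_mod_cast this
  set R : Finset (IrrCharacter G) := Finset.univ.filter (fun χ => χ ∉ L ∧ χ ≠ E ∧ χ ≠ F) with hR
  have hnd9 : (E :: F :: L).Nodup := by
    rw [List.nodup_cons, List.nodup_cons]
    refine ⟨?_, hFL, h.nodup⟩
    rw [List.mem_cons, not_or]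
    exact ⟨hEF, hEL⟩
  have hdsum : ∑ χ : IrrCharacter G, (deg χ : ℤ) ^ 2 = 7920 := by
    have := sum_deg_sq (G := G)
    rw [hG] at this
    exact_mod_cast this
  have hdR : ∑ χ : IrrCharacter G, (deg χ : ℤ) ^ 2 = (((E :: F :: L).map (fun χ => (deg χ : ℤ) ^ 2)).sum) + R.card * 3025 := by
    have e1 : ∑ χ : IrrCharacter G, (deg χ : ℤ) ^ 2 = ∑ χ ∈ Finset.univ.filter (fun χ => χ ∈ (E :: F :: L)), (deg χ : ℤ) ^ 2 +
        ∑ χ ∈ Finset.univ.filter (fun χ => ¬ χ ∈ (E :: F :: L)), (deg χ : ℤ) ^ 2 :=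
      (Finset.sum_filter_add_sum_filter_not _ _ _).symm
    have e2 : ∑ χ ∈ Finset.univ.filter (fun χ => χ ∈ (E :: F :: L)), (deg χ : ℤ) ^ 2 = ((E :: F :: L).map (fun χ => (deg χ : ℤ) ^ 2)).sum := by
      rw [← List.sum_toFinset (fun χ => (deg χ : ℤ) ^ 2) hnd9]
      congr 1
      ext χ; simp
    have e3 : Finset.univ.filter (fun χ => ¬ χ ∈ (E :: F :: L)) = R := by
      ext χ
      rw [hR, Finset.mem_filter, Finset.mem_filter, List.mem_cons, List.mem_cons, not_or, not_or]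
      constructor
      · rintro ⟨k1, k2, k3, k4⟩; exact ⟨k1, k4, k2, k3⟩
      · rintro ⟨k1, k2, k3, k4⟩; exact ⟨k1, k3, k4, k2⟩
    rw [e1, e2, e3, Finset.sum_congr rfl (g := fun _ => (3025 : ℤ)), Finset.sum_const, nsmul_eq_mul]
    intro χ hχ
    rw [hR, Finset.mem_filter] at hχ
    rw [(hrest χ hχ.2.1 hχ.2.2.1 hχ.2.2.2).2]
    norm_num
  have hR1 : R.card = 1 := by
    rw [hdsum, hL] at hdR
    simp only [List.map_cons, List.map_nil, List.sum_cons, List.sum_nil, deg_triv, deg_cc, h.dA, h.dB, h.dC, h.dD, h.dX, tE.2, tF.2] at hdR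
    push_cast at hdR
    omega
  obtain ⟨H, hH⟩ := Finset.card_eq_one.1 hR1
  have memH : ∀ χ, (χ ∉ L ∧ χ ≠ E ∧ χ ≠ F) ↔ χ = H := by
    intro χ
    have : χ ∈ R ↔ χ = H := by rw [hH]; simp
    rw [← this, hR, Finset.mem_filter]
    simp
  obtain ⟨hH1, hH2, hH3⟩ := (memH H).2 rfl
  have hall : ∀ χ : IrrCharacter G, χ ∈ [triv G, A, B, C, D, X, cc X, E, F, H] := by
    intro χ
    by_cases k1 : χ ∈ L
    · rw [hL] at k1
      simp only [List.mem_cons, List.not_mem_nil, or_false] at k1 ⊢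
      tauto
    · by_cases k2 : χ = E
      · simp [k2]
      · by_cases k3 : χ = F
        · simp [k3]
        · have := (memH χ).1 ⟨k1, k2, k3⟩
          simp [this]
  have hnodup : [triv G, A, B, C, D, X, cc X, E, F, H].Nodup := by
    have hp : [triv G, A, B, C, D, X, cc X, E, F, H] = L ++ [E, F, H] := by rw [hL]; rfl
    rw [hp, List.nodup_append]
    refine ⟨h.nodup, ?_, ?_⟩
    · simp [hEF, hH2.symm, hH3.symm]
    · intro a ha b hb
      simp only [List.mem_cons, List.not_mem_nil, or_false] at hb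
      rintro rfl
      rcases hb with rfl | rfl | rfl
      · exact hEL ha
      · exact hFL ha
      · exact hH1 ha
  have hdH : deg H = 55 := (hrest H hH1 hH2 hH3).2
  refine ⟨A, B, C, D, X, E, F, H, ⟨hnodup, hall, h.dA, h.dB, h.dC, h.dD, h.dX, tE.2, tF.2, hdH, ?_, ?_, ?_, ?_, ?_,
    fun t ht => (hinv t ht).1, fun t ht => (hinv t ht).2.1, fun t ht => (hinv t ht).2.2.1, fun t ht => (hinv t ht).2.2.2.1,
    fun t ht => (hinv t ht).2.2.2.2⟩⟩
  · intro g hg
    obtain ⟨k1, k2⟩ := not_isConj_of_order hx hg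
    exact h.rel g k1 k2
  · intro g hg
    obtain ⟨k1, k2⟩ := not_isConj_of_order hx hg
    rw [cc_apply, conj_apply]
    exact h.real g k1 k2
  · intro g hg hg5
    obtain ⟨k1, k2⟩ := not_isConj_of_order hx hg
    have k3 : ¬ IsConj g y := fun k => hg5 (by rw [isConj_order k, hy])
    have k4 := col_orth_ne k3
    simp only [hval] at k4
    rw [sum_list _ hnodup _ (fun χ hχ => absurd (hall χ) hχ)] at k4
    have vE := tE.1
    have vF := tF.1
    have vH := (hrest H hH1 hH2 hH3).1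
    simp only [List.map_cons, List.map_nil, List.sum_cons, List.sum_nil, hvv, vt, vA, vB, vC, vD, vX, vX', vE, vF, vH, triv_apply] at k4
    have k5 : (cc X : G → ℂ) g = (X : G → ℂ) g := by
      rw [cc_apply, conj_apply]
      exact h.real g k1 k2
    rw [k5] at k4
    push_cast at k4
    linear_combination -k4
  · -- value on elements of order 11
    intro z hz
    have k1 : (A : G → ℂ) x = -1 := by
      have := conj_apply A x⁻¹
      rw [h.vA, inv_inv] at this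
      rw [← this]
      simp
    rcases conj11 hG hx hz with k | k
    · obtain ⟨c, hc⟩ := isConj_iff.1 k
      rw [← k1, ← hc, A.2.isClassFunction]
    · obtain ⟨c, hc⟩ := isConj_iff.1 k
      rw [← h.vA, ← hc, A.2.isClassFunction]
  · intro z hz
    exact vanish A 5 1 (by norm_num) hn25 (by rw [h.dA]; norm_num) _ (by rw [hz])

end Cfsg.Agent.Lib.M11ByOrder
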