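import Mathlib
import Cfsg.Agent.Lib.M11D

/-!
# Simple groups of order 7920, part E: involutions and elements of order 4 (helper7)
-/

set_option autoImplicit false

namespace Cfsg.Agent.Lib.M11ByOrder

open Subgroup Cfsg Cfsg.Agent.Lib.CharBasic Cfsg.Agent.Lib.ColTools Cfsg.Agent.Lib.SmallSimple
open scoped ComplexConjugate

universe u

variable {G : Type u} [Group G] [Finite G] {A B C D X E F H : IrrCharacter G}

theorem Tab.sum (h : Tab A B C D X E F H) {M : Type*} [AddCommMonoid M] (f : IrrCharacter G → M) :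
    ∑ χ, f χ = f (triv G) + (f A + (f B + (f C + (f D + (f X + (f (cc X) + (f E + (f F + (f H + 0))))))))) := by
  rw [sum_list _ h.nodup _ (fun χ hχ => absurd (h.all χ) hχ)]
  simp only [List.map_cons, List.map_nil, List.sum_cons, List.sum_nil]

theorem Tab.relH (h : Tab A B C D X E F H) {g : G} (h11 : orderOf g ≠ 11) (h5 : orderOf g ≠ 5) (h1 : g ≠ 1) :
    (H : G → ℂ) g = -((A : G → ℂ) g + (B : G → ℂ) g + (C : G → ℂ) g) - 3 * (X : G → ℂ) g - (E : G → ℂ) g := by
  have h2 : ¬ IsConj g 1 := by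
    intro k
    have := isConj_order k
    rw [orderOf_one, orderOf_eq_one_iff] at this
    exact h1 this
  have h3 := col_orth_ne h2
  rw [h.sum, inv_one] at h3
  simp only [apply_one, deg_triv, h.dA, h.dB, h.dC, h.dD, h.dX, h.dE, h.dF, h.dH, deg_cc, h.real g h11, triv_apply] at h3
  have h4 := h.rel11 g h11
  have h5' := h.rel5 g h11 h5
  push_cast at h3
  linear_combination (1 / 55 : ℂ) * h3 - (45 / 55 : ℂ) * h4 - (44 / 55 : ℂ) * h5'

variable [IsSimpleGroup G]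

theorem Tab.ne_triv (h : Tab A B C D X E F H) : A ≠ triv G ∧ B ≠ triv G ∧ C ≠ triv G ∧ X ≠ triv G ∧ E ≠ triv G := by
  have hnd := h.nodup
  simp only [List.nodup_cons, List.mem_cons, List.not_mem_nil, not_or, or_false] at hnd
  exact ⟨fun k => hnd.1.1 k.symm, fun k => hnd.1.2.1 k.symm, fun k => hnd.1.2.2.1 k.symm, fun k => hnd.1.2.2.2.2.1 k.symm,
    fun k => hnd.1.2.2.2.2.2.2.1 k.symm⟩

theorem arithE (e : ℤ) (c : ℕ) (h1 : (11 - e) % 4 = 0) (h2 : -11 < e) (h3 : e < 11)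
    (h4 : (c : ℤ) = 22 + e * e + (1 + e) * (1 + e) + (2 - e) * (2 - e)) (h5 : c ∣ 7920) : e = 3 ∧ c = 48 := by
  have h6 : e = -9 ∨ e = -5 ∨ e = -1 ∨ e = 3 ∨ e = 7 := by omega
  rcases h6 with rfl | rfl | rfl | rfl | rfl
  · have : c = 288 := by omega
    rw [this] at h5; norm_num at h5
  · have : c = 112 := by omega
    rw [this] at h5; norm_num at h5
  · have : c = 32 := by omega
    rw [this] at h5; norm_num at h5
  · exact ⟨rfl, by omega⟩
  · have : c = 160 := by omega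
    rw [this] at h5; norm_num at h5

theorem Tab.inv (h : Tab A B C D X E F H) (hG : Nat.card G = 7920) {t : G} (ht : orderOf t = 2) :
    (E : G → ℂ) t = 3 ∧ (F : G → ℂ) t = 4 ∧ (H : G → ℂ) t = -1 ∧ Nat.card (centralizer ({t} : Set G)) = 48 := by
  have hna := notComm hG
  have ht2 : t ^ 2 = 1 := by rw [← ht]; exact pow_orderOf_eq_one t
  have ht1 := ne_one_of_order ht (by norm_num)
  obtain ⟨e, e1, e2, -, -, e3⟩ := val_inv hna E t ht2
  replace e3 := e3 ht1 h.ne_triv.2.2.2.2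
  rw [h.dE] at e2 e3
  have hF := h.rel5 t (by rw [ht]; norm_num) (by rw [ht]; norm_num)
  have hH := h.relH (g := t) (by rw [ht]; norm_num) (by rw [ht]; norm_num) ht1
  rw [h.tX t ht, e1] at hF
  rw [h.tX t ht, h.tA t ht, h.tB t ht, h.tC t ht, e1] at hH
  have hinv : t⁻¹ = t := by rw [inv_eq_iff_mul_eq_one, ← sq, ht2]
  have hcol := col_orth_self t
  rw [h.sum, hinv] at hcol
  have hcX : (cc X : G → ℂ) t = 0 := by rw [h.real t (by rw [ht]; norm_num), h.tX t ht]
  rw [h.tX t ht, h.tA t ht, h.tB t ht, h.tC t ht, h.tD t ht, e1, hF, hH, hcX, triv_apply] at hcol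
  have hcard : ((Nat.card (centralizer ({t} : Set G)) : ℕ) : ℤ) = 22 + e * e + (1 + e) * (1 + e) + (2 - e) * (2 - e) := by
    have : (((Nat.card (centralizer ({t} : Set G)) : ℕ) : ℤ) : ℂ) = ((22 + e * e + (1 + e) * (1 + e) + (2 - e) * (2 - e) : ℤ) : ℂ) := by
      push_cast
      rw [← hcol]; ring
    exact_mod_cast this
  have hdvd : Nat.card (centralizer ({t} : Set G)) ∣ 7920 := by rw [← hG]; exact card_subgroup_dvd_card _
  obtain ⟨k1, k2⟩ := arithE e _ (by push_cast at e2; omega) (by push_cast at e3; omega) (by push_cast at e3; omega) hcard hdvd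
  refine ⟨by rw [e1, k1]; norm_num, by rw [hF, k1]; norm_num, by rw [hH, k1]; norm_num, k2⟩

/-- involution centralizers have order 48 -/
theorem card_centralizer_two (hG : Nat.card G = 7920) (t : G) (ht : orderOf t = 2) :
    Nat.card (centralizer ({t} : Set G)) = 48 := by
  obtain ⟨A, B, C, D, X, E, F, H, h⟩ := exists_tab hG
  exact (h.inv hG ht).2.2.2

/-- all involutions are conjugate -/
theorem Tab.conj_two (h : Tab A B C D X E F H) (hG : Nat.card G = 7920) {s t : G} (hs : orderOf s = 2) (ht : orderOf t = 2) :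
    IsConj s t := by
  by_contra hst
  have h1 := col_orth_ne hst
  have ht2 : t ^ 2 = 1 := by rw [← ht]; exact pow_orderOf_eq_one t
  have hinv : t⁻¹ = t := by rw [inv_eq_iff_mul_eq_one, ← sq, ht2]
  obtain ⟨a1, a2, a3, -⟩ := h.inv hG ht
  obtain ⟨b1, b2, b3, -⟩ := h.inv hG hs
  rw [h.sum, hinv, h.real t (by rw [ht]; norm_num), h.real s (by rw [hs]; norm_num), h.tX t ht, h.tX s hs, h.tA t ht, h.tA s hs,
    h.tB t ht, h.tB s hs, h.tC t ht, h.tC s hs, h.tD t ht, h.tD s hs, a1, a2, a3, b1, b2, b3, triv_apply, triv_apply] at h1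
  norm_num at h1

/-- relation with the column of involutions -/
theorem Tab.relBC (h : Tab A B C D X E F H) (hG : Nat.card G = 7920) {g : G} (h11 : orderOf g ≠ 11) (h5 : orderOf g ≠ 5)
    (h1 : g ≠ 1) (h2 : orderOf g ≠ 2) :
    (B : G → ℂ) g + (C : G → ℂ) g = 2 * (1 + (X : G → ℂ) g + (E : G → ℂ) g) := by
  obtain ⟨t, ht⟩ := exists_prime_orderOf_dvd_card' (G := G) 2 (by rw [hG]; norm_num)
  have hgt : ¬ IsConj g t := fun k => h2 (by rw [isConj_order k, ht])
  have h3 := col_orth_ne hgt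
  have ht2 : t ^ 2 = 1 := by rw [← ht]; exact pow_orderOf_eq_one t
  have hinv : t⁻¹ = t := by rw [inv_eq_iff_mul_eq_one, ← sq, ht2]
  obtain ⟨a1, a2, a3, -⟩ := h.inv hG ht
  rw [h.sum, hinv, h.real t (by rw [ht]; norm_num), h.tX t ht, h.tA t ht, h.tB t ht, h.tC t ht, h.tD t ht, a1, a2, a3, triv_apply,
    triv_apply] at h3
  have k1 := h.rel11 g h11
  have k2 := h.rel5 g h11 h5
  have k3 := h.relH h11 h5 h1
  linear_combination (-1 / 4 : ℂ) * h3 - (3 / 4 : ℂ) * k1 + k2 - (1 / 4 : ℂ) * k3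

/-- the number of ways to write an element as a product of two involutions -/
theorem Tab.struct (h : Tab A B C D X E F H) (hG : Nat.card G = 7920) {g : G} (h11 : orderOf g ≠ 11) (h5 : orderOf g ≠ 5)
    (h1 : g ≠ 1) (h2 : orderOf g ≠ 2) {t : G} (ht : orderOf t = 2) :
    (Nat.card {p : G × G // IsConj t p.1 ∧ IsConj t p.2 ∧ p.1 * p.2 = g} : ℂ) =
      8 + 2 * (A : G → ℂ) g⁻¹ + 7 * (X : G → ℂ) g⁻¹ + 8 * (E : G → ℂ) g⁻¹ := by
  have h3 := struct_const t t g
  obtain ⟨a1, a2, a3, a4⟩ := h.inv hG ht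
  have g11 : orderOf g⁻¹ ≠ 11 := by rwa [orderOf_inv]
  have g5 : orderOf g⁻¹ ≠ 5 := by rwa [orderOf_inv]
  have g1 : g⁻¹ ≠ 1 := inv_ne_one.2 h1
  have g2 : orderOf g⁻¹ ≠ 2 := by rwa [orderOf_inv]
  rw [h.sum, h.real t (by rw [ht]; norm_num), h.tX t ht, h.tA t ht, h.tB t ht, h.tC t ht, h.tD t ht, a1, a2, a3, a4, hG, triv_apply,
    triv_apply, triv_apply] at h3
  simp only [apply_one, h.dA, h.dB, h.dC, h.dD, h.dX, h.dE, h.dF, h.dH, deg_cc] at h3
  have k1 := h.rel11 _ g11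
  have k2 := h.rel5 _ g11 g5
  have k3 := h.relH g11 g5 g1
  have k4 := h.relBC hG g11 g5 g1 g2
  push_cast at h3
  set N : ℂ := (Nat.card {p : G × G // IsConj t p.1 ∧ IsConj t p.2 ∧ p.1 * p.2 = g} : ℂ)
  linear_combination (1 / 2304 : ℂ) * h3 + (11 / 16 : ℂ) * k1 + (5 / 4 : ℂ) * k2 + (1 / 16 : ℂ) * k3 + 2 * k4

end Cfsg.Agent.Lib.M11ByOrder
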