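import Mathlib
import Cfsg.Agent.Lib.M11E

/-!
# Simple groups of order 7920, part F: elements of order 4 (helper7)
-/

set_option autoImplicit false

namespace Cfsg.Agent.Lib.ColTools

open Cfsg

universe u

variable {G : Type u} [Group G] [Finite G]

/-- values on elements of order 4 -/
theorem val_four' [IsSimpleGroup G] (hG : ¬ IsMulCommutative G) (χ : IrrCharacter G) (g : G) (hg : g ^ 4 = 1) (m : ℤ)
    (hm : (χ : G → ℂ) (g ^ 2) = m) :
    ∃ p q l k : ℤ, (χ : G → ℂ) g = p + q * Complex.I ∧ l + k = deg χ ∧ l - k = m ∧ -l ≤ p ∧ p ≤ l ∧ -k ≤ q ∧ q ≤ k ∧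
      (p - l) % 2 = 0 ∧ (q - k) % 2 = 0 ∧ (p + q - l - 2 * k) % 4 = 0 := by
  obtain ⟨n0, n1, n2, n3, h1, h2, h3, h4⟩ := val_four χ.2.isCharacter g hg
  have h5 := h4 (hom_trivial hG)
  rw [apply_one] at h1
  have h6 : deg χ = n0 + n1 + n2 + n3 := by exact_mod_cast h1
  rw [hm] at h3
  have h7 : m = (n0 : ℤ) - n1 + n2 - n3 := by exact_mod_cast h3
  refine ⟨n0 - n2, n1 - n3, n0 + n2, n1 + n3, h2, ?_, ?_, ?_, ?_, ?_, ?_, ?_, ?_, ?_⟩ <;> omega

theorem norm_sq_int (p q : ℤ) : ‖((p : ℂ) + (q : ℂ) * Complex.I)‖ ^ 2 = ((p ^ 2 + q ^ 2 : ℤ) : ℝ) := by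
  rw [← Complex.normSq_eq_norm_sq, Complex.normSq_apply]
  simp
  ring

end Cfsg.Agent.Lib.ColTools

namespace Cfsg.Agent.Lib.M11ByOrder

open Subgroup Cfsg Cfsg.Agent.Lib.CharBasic Cfsg.Agent.Lib.ColTools Cfsg.Agent.Lib.SmallSimple
open scoped ComplexConjugate

universe u

theorem arith4b (x : ℤ) (h : 8 * x ^ 2 + 4 * x + 3 ≤ 96) : -4 < x ∧ x < 4 := by
  constructor <;> nlinarith

theorem arith4a (pA qA pB qB pC qC pX pE qE N : ℤ) (c : ℕ)
    (hc : (c : ℤ) = 1 + (pA ^ 2 + qA ^ 2) + (pB ^ 2 + qB ^ 2) + (pC ^ 2 + qC ^ 2) +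
      ((pA + pB + pC + pX - 1) ^ 2 + (qA + qB + qC) ^ 2) + 2 * pX ^ 2 + (pE ^ 2 + qE ^ 2) +
      ((1 + 2 * pX + pE) ^ 2 + qE ^ 2) + ((pA + pB + pC + 3 * pX + pE) ^ 2 + (qA + qB + qC + qE) ^ 2))
    (hc48 : c ≤ 48)
    (a1 : -6 ≤ pA) (a2 : pA ≤ 6) (a3 : -4 ≤ qA) (a4 : qA ≤ 4) (a5 : pA % 2 = 0) (a6 : qA % 2 = 0) (a7 : (pA + qA) % 4 = 2)
    (x1 : pX % 4 = 0)
    (e1 : -7 ≤ pE) (e2 : pE ≤ 7) (e3 : qE % 2 = 0) (e4 : (pE + qE) % 4 = 3)
    (r1 : pB + pC = 2 * (1 + pX + pE)) (r2 : qB + qC = 2 * qE)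
    (s1 : N = 8 + 2 * pA + 7 * pX + 8 * pE) (s2 : 2 * qA + 8 * qE = 0) (hN : 0 ≤ N) :
    pA = 2 ∧ qA = 0 ∧ pX = 0 ∧ pE = -1 ∧ qE = 0 ∧ pC = -pB ∧ qC = - qB ∧ N = 4 := by
  have hc' : (c : ℤ) ≤ 48 := by exact_mod_cast hc48
  rw [hc] at hc'
  have hqE : qE = 0 := by omega
  have hqA : qA = 0 := by omega
  subst hqE hqA
  have hx : pX = 0 := by
    have h1 : 8 * pX ^ 2 + 4 * pX + 3 ≤ 96 := by
      linarith [sq_nonneg (2 * pE + 1 + 2 * pX), sq_nonneg pA, sq_nonneg pB, sq_nonneg pC, sq_nonneg qB, sq_nonneg qC,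
        sq_nonneg (pA + pB + pC + pX - 1), sq_nonneg (pA + pB + pC + 3 * pX + pE), sq_nonneg (0 + qB + qC), sq_nonneg (0 + qB + qC + 0)]
    have h2 := arith4b pX h1
    omega
  subst hx
  have hC : pC = 2 * (1 + pE) - pB := by linarith
  have hqC : qC = - qB := by linarith
  subst hC hqC
  have hA : pA = -6 ∨ pA = -2 ∨ pA = 2 ∨ pA = 6 := by omega
  have hE : pE = -5 ∨ pE = -1 ∨ pE = 3 ∨ pE = 7 := by omega
  have key : pA = 2 ∧ pE = -1 := by
    rcases hA with rfl | rfl | rfl | rfl <;> rcases hE with rfl | rfl | rfl | rfl <;>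
      first
      | exact ⟨rfl, rfl⟩
      | (exfalso; omega)
      | (exfalso; linarith [sq_nonneg qB, sq_nonneg pB])
      | (exfalso; linarith [sq_nonneg qB, sq_nonneg (pB + 4)])
      | (exfalso; linarith [sq_nonneg qB, sq_nonneg (pB - 4)])
      | (exfalso; linarith [sq_nonneg qB, sq_nonneg (pB - 8)])
  obtain ⟨rfl, rfl⟩ := key
  refine ⟨rfl, rfl, rfl, rfl, rfl, by ring, rfl, by omega⟩

variable {G : Type u} [Group G] [Finite G] {A B C D X E F H : IrrCharacter G} [IsSimpleGroup G]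

set_option maxHeartbeats 1000000 in
/-- the column of elements of order 4 -/
theorem Tab.ord4 (h : Tab A B C D X E F H) (hG : Nat.card G = 7920) {g : G} (hg : orderOf g = 4) :
    (A : G → ℂ) g = 2 ∧ (B : G → ℂ) g = 0 ∧ (C : G → ℂ) g = 0 ∧ (D : G → ℂ) g = 1 ∧ (X : G → ℂ) g = 0 ∧
      (E : G → ℂ) g = -1 ∧ (F : G → ℂ) g = 0 ∧ (H : G → ℂ) g = -1 ∧ Nat.card (centralizer ({g} : Set G)) = 8 ∧
      (∀ t : G, orderOf t = 2 → Nat.card {p : G × G // IsConj t p.1 ∧ IsConj t p.2 ∧ p.1 * p.2 = g⁻¹} = 4) := by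
  have hna := notComm hG
  have hg4 : g ^ 4 = 1 := by rw [← hg]; exact pow_orderOf_eq_one g
  have hg1 := ne_one_of_order hg (by norm_num)
  have h11 : orderOf g ≠ 11 := by rw [hg]; norm_num
  have h5 : orderOf g ≠ 5 := by rw [hg]; norm_num
  have h2 : orderOf g ≠ 2 := by rw [hg]; norm_num
  have ht : orderOf (g ^ 2) = 2 := by rw [orderOf_pow, hg]; decide
  obtain ⟨t1, t2, t3, t4⟩ := h.inv hG ht
  obtain ⟨pA, qA, lA, kA, a0, a1, a2, a3, a4, a5, a6, a7, a8, a9⟩ := val_four' hna A g hg4 2 (by rw [h.tA _ ht]; norm_num)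
  obtain ⟨pB, qB, lB, kB, b0, b1, b2, b3, b4, b5, b6, b7, b8, b9⟩ := val_four' hna B g hg4 (-2) (by rw [h.tB _ ht]; norm_num)
  obtain ⟨pC, qC, lC, kC, c0, c1, c2, c3, c4, c5, c6, c7, c8, c9⟩ := val_four' hna C g hg4 (-2) (by rw [h.tC _ ht]; norm_num)
  obtain ⟨pX, qX, lX, kX, x0, x1, x2, x3, x4, x5, x6, x7, x8, x9⟩ := val_four' hna X g hg4 0 (by rw [h.tX _ ht]; norm_num)
  obtain ⟨pE, qE, lE, kE, e0, e1, e2, e3, e4, e5, e6, e7, e8, e9⟩ := val_four' hna E g hg4 3 (by rw [t1]; norm_num)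
  rw [h.dA] at a1
  rw [h.dB] at b1
  rw [h.dC] at c1
  rw [h.dX] at x1
  rw [h.dE] at e1
  have hI : ∀ p q p' q' : ℤ, (p : ℂ) + q * Complex.I = p' + q' * Complex.I → p = p' ∧ q = q' := by
    intro p q p' q' hpq
    have k1 := congrArg Complex.re hpq
    have k2 := congrArg Complex.im hpq
    simp at k1 k2
    exact ⟨by exact_mod_cast k1, by exact_mod_cast k2⟩
  -- `X` is real
  have hqX : qX = 0 := by
    have k := h.real g h11
    rw [cc_apply, x0] at k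
    have k1 : (pX : ℂ) + ((-qX : ℤ) : ℂ) * Complex.I = pX + qX * Complex.I := by
      rw [← k]
      simp
    have := (hI _ _ _ _ k1).2
    omega
  subst hqX
  have hX0 : (X : G → ℂ) g = pX := by rw [x0]; simp
  -- relations
  have r1 := h.rel11 g h11
  have r2 := h.rel5 g h11 h5
  have r3 := h.relH h11 h5 hg1
  have r4 := h.relBC hG h11 h5 hg1 h2
  have hD0 : (D : G → ℂ) g = ((pA + pB + pC + pX - 1 : ℤ) : ℂ) + ((qA + qB + qC : ℤ) : ℂ) * Complex.I := by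
    rw [a0, b0, c0, hX0] at r1
    push_cast
    linear_combination r1
  have hF0 : (F : G → ℂ) g = ((1 + 2 * pX + pE : ℤ) : ℂ) + ((qE : ℤ) : ℂ) * Complex.I := by
    rw [e0, hX0] at r2
    push_cast
    linear_combination r2
  have hH0 : (H : G → ℂ) g = ((-(pA + pB + pC + 3 * pX + pE) : ℤ) : ℂ) + ((-(qA + qB + qC + qE) : ℤ) : ℂ) * Complex.I := by
    rw [a0, b0, c0, e0, hX0] at r3
    push_cast
    linear_combination r3
  have hBC := hI (pB + pC) (qB + qC) (2 * (1 + pX + pE)) (2 * qE) (by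
    rw [b0, c0, e0, hX0] at r4
    push_cast
    linear_combination r4)
  -- the structure constant
  have hginv : orderOf g⁻¹ = 4 := by rw [orderOf_inv, hg]
  have hst : ∀ t : G, orderOf t = 2 → ((Nat.card {p : G × G // IsConj t p.1 ∧ IsConj t p.2 ∧ p.1 * p.2 = g⁻¹} : ℤ) =
      8 + 2 * pA + 7 * pX + 8 * pE ∧ 2 * qA + 8 * qE = 0) := by
    intro t ht'
    have r5 := h.struct hG (g := g⁻¹) (by rw [hginv]; norm_num) (by rw [hginv]; norm_num) (inv_ne_one.2 hg1) (by rw [hginv]; norm_num) ht'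
    rw [inv_inv, a0, hX0, e0] at r5
    have := hI (Nat.card {p : G × G // IsConj t p.1 ∧ IsConj t p.2 ∧ p.1 * p.2 = g⁻¹} : ℤ) 0 (8 + 2 * pA + 7 * pX + 8 * pE)
      (2 * qA + 8 * qE) (by push_cast; linear_combination r5)
    exact ⟨this.1, this.2.symm⟩
  obtain ⟨s1, s2⟩ := hst _ ht
  -- the centralizer
  have hle : centralizer ({g} : Set G) ≤ centralizer ({g ^ 2} : Set G) := by
    intro z hz
    rw [mem_centralizer_singleton_iff] at hz ⊢
    exact Commute.pow_right (show Commute z g from hz) 2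
  have hdvd : Nat.card (centralizer ({g} : Set G)) ∣ 48 := by
    rw [← t4]
    exact card_dvd_of_le hle
  have hc48 := Nat.le_of_dvd (by norm_num) hdvd
  have hcard : ((Nat.card (centralizer ({g} : Set G)) : ℕ) : ℤ) = 1 + (pA ^ 2 + qA ^ 2) + (pB ^ 2 + qB ^ 2) + (pC ^ 2 + qC ^ 2) +
      ((pA + pB + pC + pX - 1) ^ 2 + (qA + qB + qC) ^ 2) + 2 * pX ^ 2 + (pE ^ 2 + qE ^ 2) +
      ((1 + 2 * pX + pE) ^ 2 + qE ^ 2) + ((pA + pB + pC + 3 * pX + pE) ^ 2 + (qA + qB + qC + qE) ^ 2) := by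
    have hn := col_norm g
    have hX1 : (X : G → ℂ) g = ((pX : ℤ) : ℂ) + ((0 : ℤ) : ℂ) * Complex.I := x0
    rw [h.sum, h.real g h11, triv_apply, a0, b0, c0, hX1, e0, hD0, hF0, hH0] at hn
    simp only [norm_sq_int, norm_one, one_pow] at hn
    have : (((Nat.card (centralizer ({g} : Set G)) : ℕ) : ℤ) : ℝ) = ((1 + (pA ^ 2 + qA ^ 2) + (pB ^ 2 + qB ^ 2) + (pC ^ 2 + qC ^ 2) +
      ((pA + pB + pC + pX - 1) ^ 2 + (qA + qB + qC) ^ 2) + 2 * pX ^ 2 + (pE ^ 2 + qE ^ 2) +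
      ((1 + 2 * pX + pE) ^ 2 + qE ^ 2) + ((pA + pB + pC + 3 * pX + pE) ^ 2 + (qA + qB + qC + qE) ^ 2) : ℤ) : ℝ) := by
      push_cast at hn ⊢
      rw [← hn]; ring
    exact_mod_cast this
  push_cast at a1 b1 c1 x1 e1
  obtain ⟨z1, z2, z3, z4, z5, z6, z7, z8⟩ := arith4a pA qA pB qB pC qC pX pE qE _ _ hcard hc48 (by omega) (by omega) (by omega) (by omega)
    (by omega) (by omega) (by omega) (by omega) (by omega) (by omega) (by omega) (by omega) hBC.1 hBC.2 s1 s2 (by omega)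
  subst z1 z2 z3 z4 z5 z6 z7
  -- `g` is real
  have hreal : IsConj g g⁻¹ := by
    have hne : Nat.card {p : G × G // IsConj (g ^ 2) p.1 ∧ IsConj (g ^ 2) p.2 ∧ p.1 * p.2 = g⁻¹} ≠ 0 := by omega
    have : Nonempty {p : G × G // IsConj (g ^ 2) p.1 ∧ IsConj (g ^ 2) p.2 ∧ p.1 * p.2 = g⁻¹} := by
      by_contra hno
      rw [not_nonempty_iff] at hno
      exact hne Nat.card_of_isEmpty
    obtain ⟨⟨⟨a, b⟩, ha, hb, hab⟩⟩ := this
    simp only at ha hb hab
    have hgg : (g ^ 2) ^ 2 = 1 := by rw [← pow_mul]; exact hg4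
    have k1 := sq_of_isConj hgg ha
    have k2 := sq_of_isConj hgg hb
    have k3 : a⁻¹ = a := by rw [inv_eq_iff_mul_eq_one, ← sq, k1]
    have k4 : b⁻¹ = b := by rw [inv_eq_iff_mul_eq_one, ← sq, k2]
    have k5 : g = b * a := by
      rw [← inv_inv g, ← hab, mul_inv_rev, k3, k4]
    refine isConj_iff.2 ⟨a, ?_⟩
    rw [← hab, k5, k3]
    calc a * (b * a) * a = a * b * (a ^ 2) := by rw [sq]; group
      _ = a * b := by rw [k1, mul_one]
  have hqB : qB = 0 := by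
    have k1 : (B : G → ℂ) g⁻¹ = (B : G → ℂ) g := by
      obtain ⟨c, hc⟩ := isConj_iff.1 hreal
      rw [← hc, B.2.isClassFunction]
    rw [← conj_apply, b0] at k1
    have k2 : (pB : ℂ) + ((-qB : ℤ) : ℂ) * Complex.I = pB + qB * Complex.I := by
      rw [← k1]
      simp
    have := (hI _ _ _ _ k2).2
    omega
  subst hqB
  have hpB : pB = 0 := by
    have k1 : pB = 0 ∨ pB = 4 ∨ pB = -4 := by omega
    rcases k1 with rfl | rfl | rfl
    · rfl
    · exfalso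
      have : Nat.card (centralizer ({g} : Set G)) = 40 := by norm_num at hcard; omega
      rw [this] at hdvd
      norm_num at hdvd
    · exfalso
      have : Nat.card (centralizer ({g} : Set G)) = 40 := by norm_num at hcard; omega
      rw [this] at hdvd
      norm_num at hdvd
  subst hpB
  refine ⟨by rw [a0]; norm_num, by rw [b0]; norm_num, by rw [c0]; norm_num, by rw [hD0]; norm_num, by rw [hX0]; norm_num,
    by rw [e0]; norm_num, by rw [hF0]; norm_num, by rw [hH0]; norm_num, by norm_num at hcard; omega, ?_⟩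
  intro t ht'
  have h6 := (hst t ht').1
  omega

/-- the number of ways to write an element of order 4 as a product of two involutions -/
theorem Tab.prod4 (h : Tab A B C D X E F H) (hG : Nat.card G = 7920) {g : G} (hg : orderOf g = 4) {t : G} (ht : orderOf t = 2) :
    Nat.card {p : G × G // IsConj t p.1 ∧ IsConj t p.2 ∧ p.1 * p.2 = g} = 4 := by
  obtain ⟨-, -, -, -, -, -, -, -, -, h1⟩ := h.ord4 hG (g := g⁻¹) (by rw [orderOf_inv, hg])
  have := h1 t ht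
  rwa [inv_inv] at this

/-- all elements of order 4 are conjugate -/
theorem Tab.conj_four (h : Tab A B C D X E F H) (hG : Nat.card G = 7920) {g k : G} (hg : orderOf g = 4) (hk : orderOf k = 4) :
    IsConj g k := by
  by_contra hgk
  have h1 := col_orth_ne hgk
  obtain ⟨a1, a2, a3, a4, a5, a6, a7, a8, -, -⟩ := h.ord4 hG hg
  obtain ⟨b1, b2, b3, b4, b5, b6, b7, b8, -, -⟩ := h.ord4 hG (g := k⁻¹) (by rw [orderOf_inv, hk])
  rw [h.sum, h.real g (by rw [hg]; norm_num), h.real k⁻¹ (by rw [orderOf_inv, hk]; norm_num),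
    a1, a2, a3, a4, a5, a6, a7, a8, b1, b2, b3, b4, b5, b6, b7, b8, triv_apply, triv_apply] at h1
  norm_num at h1

/-- the 2-rank is at most 2 -/
theorem Tab.rank_two (h : Tab A B C D X E F H) (V : Subgroup G) (hV : Nat.card V = 8)
    (h2 : ∀ v ∈ V, v ^ 2 = 1) : False := by
  classical
  have := Fintype.ofFinite V
  obtain ⟨n, ρ, hρ, hρχ⟩ := B.2
  have h1 := sum_subgroup ρ V
  rw [hρχ, hV] at h1
  have h3 : ∀ v : V, (B : G → ℂ) v = -2 + if v = 1 then 12 else 0 := by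
    intro v
    by_cases hv : v = 1
    · rw [if_pos hv, hv, OneMemClass.coe_one, apply_one, h.dB]; push_cast; norm_num
    · rw [if_neg hv, add_zero]
      apply h.tB
      rw [orderOf_eq_prime_iff]
      exact ⟨h2 v v.2, fun k => hv (Subtype.ext k)⟩
  rw [Finset.sum_congr rfl fun v _ => h3 v, Finset.sum_add_distrib, Finset.sum_ite_eq', if_pos (Finset.mem_univ _), Finset.sum_const,
    Finset.card_univ, ← Nat.card_eq_fintype_card, hV, nsmul_eq_mul] at h1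
  push_cast at h1
  have h4 : (((8 : ℕ) * Module.finrank ℂ (Representation.invariants (ρ.comp V.subtype)) + 4 : ℕ) : ℂ) = 0 := by
    push_cast
    rw [← h1]; norm_num
  have h5 : (8 : ℕ) * Module.finrank ℂ (Representation.invariants (ρ.comp V.subtype)) + 4 = 0 := by exact_mod_cast h4
  omega

end Cfsg.Agent.Lib.M11ByOrder
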