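import Mathlib
import Cfsg.Agent.Lib.M11F

/-!
# Simple groups of order 7920, part G: elements of order 8, Sylow 2-subgroups (helper7)
-/

set_option autoImplicit false

namespace Cfsg.Agent.Lib.M11ByOrder

open Subgroup Cfsg Cfsg.Agent.Lib.CharBasic Cfsg.Agent.Lib.ColTools Cfsg.Agent.Lib.SmallSimple
open scoped ComplexConjugate

universe u

variable {G : Type u} [Group G] [Finite G] {A B C D X E F H : IrrCharacter G}

/-- proper inclusion of subgroups doubles the order -/
theorem two_mul_card_le {K L : Subgroup G} (hKL : K ≤ L) (hne : ∃ x ∈ L, x ∉ K) : 2 * Nat.card K ≤ Nat.card L := by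
  obtain ⟨c, hc⟩ := card_dvd_of_le hKL
  obtain ⟨x, hx, hxK⟩ := hne
  have hL : 0 < Nat.card L := Nat.card_pos
  rcases c with _ | _ | c
  · omega
  · exfalso
    apply hxK
    rw [zero_add, mul_one] at hc
    rw [eq_of_le_of_card_ge hKL hc.le]
    exact hx
  · rw [hc]
    have : 0 ≤ Nat.card K * c := Nat.zero_le _
    nlinarith

variable [IsSimpleGroup G]

/-- elementary abelian 2-subgroups have order less than 8 -/
theorem Tab.rank_lt (h : Tab A B C D X E F H) (V : Subgroup G) (h2 : ∀ v ∈ V, v ^ 2 = 1) : Nat.card V < 8 := by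
  by_contra hge
  push Not at hge
  have : Fact (Nat.Prime 2) := ⟨Nat.prime_two⟩
  have hp : IsPGroup 2 V := fun v => ⟨1, by
    rw [pow_one]; exact Subtype.ext (h2 v v.2)⟩
  obtain ⟨n, hn⟩ := IsPGroup.iff_card.1 hp
  have hn3 : 3 ≤ n := by
    by_contra hlt
    push Not at hlt
    rw [hn] at hge
    interval_cases n <;> omega
  obtain ⟨K, hK⟩ := Sylow.exists_subgroup_card_pow_prime (G := V) 2 (n := 3) (by rw [hn]; exact pow_dvd_pow 2 hn3)
  apply h.rank_two (K.map V.subtype)
  · rw [Nat.card_congr (K.equivMapOfInjective _ (subtype_injective _)).symm.toEquiv, hK]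
    norm_num
  · intro v hv
    exact h2 v (map_subtype_le K hv)

/-- there is an element of order 4 -/
theorem Tab.exists_four (h : Tab A B C D X E F H) (hG : Nat.card G = 7920) : ∃ g : G, orderOf g = 4 := by
  have : Fact (Nat.Prime 2) := ⟨Nat.prime_two⟩
  obtain ⟨T, hT⟩ := Sylow.exists_subgroup_card_pow_prime (G := G) 2 (n := 4) (by rw [hG]; norm_num)
  by_contra hno
  push Not at hno
  have h1 : ∀ v ∈ T, v ^ 2 = 1 := by
    intro v hv
    have h2 : orderOf v ∣ 2 ^ 4 := by
      rw [← hT, ← Subgroup.orderOf_mk v hv]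
      exact orderOf_dvd_natCard _
    obtain ⟨k, hk, hk'⟩ := (Nat.dvd_prime_pow Nat.prime_two).1 h2
    by_cases hk2 : k ≤ 1
    · apply orderOf_dvd_iff_pow_eq_one.1
      rw [hk']
      exact pow_dvd_pow 2 hk2 |>.trans (by norm_num)
    · exfalso
      apply hno (v ^ (2 ^ (k - 2)))
      rw [orderOf_pow, hk']
      have : 2 ^ k = 2 ^ (k - 2) * 4 := by
        rw [show (4 : ℕ) = 2 ^ 2 by norm_num, ← pow_add]; congr 1; omega
      rw [this, Nat.gcd_mul_right_left, Nat.mul_div_cancel_left _ (by positivity)]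
  have h3 := h.rank_lt T h1
  rw [hT] at h3
  norm_num at h3

/-- an element of order 4 is inverted by an involution -/
theorem Tab.inverter (h : Tab A B C D X E F H) (hG : Nat.card G = 7920) {g : G} (hg : orderOf g = 4) :
    ∃ u : G, u ^ 2 = 1 ∧ u ≠ 1 ∧ u * g * u = g⁻¹ := by
  obtain ⟨t, ht⟩ := exists_prime_orderOf_dvd_card' (G := G) 2 (by rw [hG]; norm_num)
  have h1 := h.prod4 hG hg ht
  have : Nonempty {p : G × G // IsConj t p.1 ∧ IsConj t p.2 ∧ p.1 * p.2 = g} := by
    by_contra hno
    rw [not_nonempty_iff] at hno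
    rw [Nat.card_of_isEmpty] at h1
    norm_num at h1
  obtain ⟨⟨⟨a, b⟩, ha, hb, hab⟩⟩ := this
  simp only at ha hb hab
  have ht2 : t ^ 2 = 1 := by rw [← ht]; exact pow_orderOf_eq_one t
  have k1 := sq_of_isConj ht2 ha
  have k2 := sq_of_isConj ht2 hb
  have k3 : a⁻¹ = a := by rw [inv_eq_iff_mul_eq_one, ← sq, k1]
  have k4 : b⁻¹ = b := by rw [inv_eq_iff_mul_eq_one, ← sq, k2]
  refine ⟨a, k1, ?_, ?_⟩
  · rintro rfl
    have := isConj_order ha
    rw [ht, orderOf_one] at this
    norm_num at this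
  · rw [← hab, mul_inv_rev, k3, k4]
    calc a * (a * b) * a = (a ^ 2) * b * a := by rw [sq]; group
      _ = b * a := by rw [k1, one_mul]

/-- square roots of elements of order 4 -/
theorem Tab.exists_eight (h : Tab A B C D X E F H) (hG : Nat.card G = 7920) {g : G} (hg : orderOf g = 4) :
    ∃ k : G, orderOf k = 8 ∧ k ^ 2 = g := by
  obtain ⟨-, -, -, -, -, -, -, -, hC8, -⟩ := h.ord4 hG hg
  have hg4 : g ^ 4 = 1 := by rw [← hg]; exact pow_orderOf_eq_one g
  set Z : Subgroup G := centralizer ({g} : Set G) with hZ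
  have hgZ : g ∈ Z := by rw [hZ, mem_centralizer_singleton_iff]
  have hz : ∀ z, z ∈ Z ↔ z * g = g * z := fun z => by rw [hZ, mem_centralizer_singleton_iff]
  -- it suffices to find an element of order 8 in the centralizer
  suffices hex : ∃ k ∈ Z, orderOf k = 8 by
    obtain ⟨k, hkZ, hk⟩ := hex
    have h1 : zpowers k = Z := by
      apply eq_of_le_of_card_ge
      · rw [zpowers_le]; exact hkZ
      · rw [hC8, Nat.card_zpowers, hk]
    have h2 : g ∈ zpowers k := by rw [h1]; exact hgZ
    obtain ⟨j, hj⟩ := mem_powers_iff_mem_zpowers.2 h2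
    have hj' : k ^ j = g := hj
    have h3 : k ^ (j % 8) = g := by
      rw [← hj', ← hk, pow_mod_orderOf]
    have h4 : j % 8 < 8 := Nat.mod_lt _ (by norm_num)
    have hk8 : k ^ 8 = 1 := by rw [← hk]; exact pow_orderOf_eq_one k
    have h5 : orderOf (k ^ (j % 8)) = 4 := by rw [h3, hg]
    rw [orderOf_pow, hk] at h5
    have h6 : j % 8 = 2 ∨ j % 8 = 6 := by
      generalize j % 8 = i at *
      interval_cases i <;> first | (exfalso; revert h5; decide) | simp
    rcases h6 with h6 | h6
    · exact ⟨k, hk, by rw [← h3, h6]⟩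
    · refine ⟨k⁻¹, by rw [orderOf_inv, hk], ?_⟩
      rw [← h3, h6, inv_pow, inv_eq_iff_mul_eq_one, ← pow_add, hk8]
  by_contra hno
  push Not at hno
  -- every element of `Z` has order dividing 4
  have h4 : ∀ z ∈ Z, z ^ 4 = 1 := by
    intro z hzZ
    have h2 : orderOf z ∣ 2 ^ 3 := by
      rw [show (2 : ℕ) ^ 3 = Nat.card Z by rw [hC8]; norm_num, ← Subgroup.orderOf_mk z hzZ]
      exact orderOf_dvd_natCard _
    obtain ⟨k, hk, hk'⟩ := (Nat.dvd_prime_pow Nat.prime_two).1 h2
    have hk3 : k ≠ 3 := by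
      rintro rfl
      exact hno z hzZ (by rw [hk']; norm_num)
    apply orderOf_dvd_iff_pow_eq_one.1
    rw [hk']
    exact (pow_dvd_pow 2 (show k ≤ 2 by omega)).trans (by norm_num)
  -- the index two subgroup generated by `g`
  set g' : Z := ⟨g, hgZ⟩ with hg'
  have hg'o : orderOf g' = 4 := by rw [hg', Subgroup.orderOf_mk, hg]
  have hidx : (zpowers g').index = 2 := by
    have h1 := card_mul_index (zpowers g')
    rw [Nat.card_zpowers, hg'o, hC8] at h1
    omega
  have hpow : ∀ z ∈ zpowers g, z ^ 2 = 1 → z = 1 ∨ z = g ^ 2 := by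
    intro z hz1 hz2
    obtain ⟨j, hj⟩ := mem_powers_iff_mem_zpowers.2 hz1
    have hj' : g ^ j = z := hj
    have h3 : g ^ (j % 4) = z := by rw [← hj', ← hg, pow_mod_orderOf]
    have h5 : j % 4 < 4 := Nat.mod_lt _ (by norm_num)
    rw [← h3, ← pow_mul] at hz2
    have h6 := orderOf_dvd_of_pow_eq_one hz2
    rw [hg] at h6
    have h7 : j % 4 = 0 ∨ j % 4 = 2 := by omega
    rcases h7 with h7 | h7
    · left; rw [← h3, h7, pow_zero]
    · right; rw [← h3, h7]
  have hmem : ∀ z : Z, z ∈ zpowers g' ↔ (z : G) ∈ zpowers g := by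
    intro z
    constructor
    · intro hz1
      obtain ⟨j, hj⟩ := mem_zpowers_iff.1 hz1
      exact mem_zpowers_iff.2 ⟨j, by rw [← hj]; rfl⟩
    · intro hz1
      obtain ⟨j, hj⟩ := mem_zpowers_iff.1 hz1
      exact mem_zpowers_iff.2 ⟨j, Subtype.ext (by rw [← hj]; rfl)⟩
  -- an involution outside
  obtain ⟨s, hsZ, hs2, hsg⟩ : ∃ s ∈ Z, s ^ 2 = 1 ∧ s ∉ zpowers g := by
    obtain ⟨s0, hs0⟩ : ∃ s0 : Z, s0 ∉ zpowers g' := by
      by_contra hall
      push Not at hall
      have : zpowers g' = ⊤ := by rw [eq_top_iff]; intro z _; exact hall z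
      rw [this, index_top] at hidx
      norm_num at hidx
    have h1 := sq_mem_of_index_two hidx s0
    rw [hmem] at h1 hs0
    have h2 := hpow _ h1 (by
      have := h4 s0 s0.2
      rw [Subgroup.coe_pow, ← pow_mul]; exact this)
    have h2' : (s0 : G) ^ 2 = 1 ∨ (s0 : G) ^ 2 = g ^ 2 := by
      rw [Subgroup.coe_pow] at h2; exact h2
    rcases h2' with h2' | h2'
    · exact ⟨s0, s0.2, h2', hs0⟩
    · refine ⟨s0 * g, mul_mem s0.2 hgZ, ?_, ?_⟩
      · have hcomm : Commute (s0 : G) g := (hz _).1 s0.2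
        rw [hcomm.mul_pow, h2', ← pow_add, hg4]
      · intro hm
        apply hs0
        have := mul_mem hm (inv_mem (mem_zpowers g))
        rwa [mul_inv_cancel_right] at this
  have hsc : Commute s g := (hz s).1 hsZ
  have hcos : ∀ z ∈ Z, z ∈ zpowers g ∨ z * s ∈ zpowers g := by
    intro z hzZ
    by_cases h1 : z ∈ zpowers g
    · exact Or.inl h1
    · right
      have h2 := (mul_mem_iff_of_index_two hidx (a := (⟨z, hzZ⟩ : Z)) (b := (⟨s, hsZ⟩ : Z))).2 (by
        rw [hmem, hmem]
        exact ⟨fun h => absurd h h1, fun h => absurd h hsg⟩)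
      rw [hmem] at h2
      exact h2
  obtain ⟨u, hu2, hu1, hug⟩ := h.inverter hG hg
  have huu : u⁻¹ = u := by rw [inv_eq_iff_mul_eq_one, ← sq, hu2]
  have huu' : u * u = 1 := by rw [← sq, hu2]
  have hg2 : g ^ 2 ≠ 1 := by
    intro h1
    have := orderOf_dvd_of_pow_eq_one h1
    rw [hg] at this
    norm_num at this
  have huZ : u ∉ Z := by
    intro h1
    have h2 := (hz u).1 h1
    apply hg2
    rw [h2, mul_assoc, huu', mul_one] at hug
    rw [sq]
    nth_rw 1 [hug]
    exact inv_mul_cancel g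
  -- conjugation by `u` preserves `Z`
  have huZ' : ∀ z ∈ Z, u * z * u ∈ Z := by
    intro z hzZ
    rw [hz]
    have h1 := (hz z).1 hzZ
    have h2 : z * g⁻¹ = g⁻¹ * z := by
      rw [mul_inv_eq_iff_eq_mul, mul_assoc, h1, inv_mul_cancel_left]
    have h3 : u * g = g⁻¹ * u := by
      rw [← hug, mul_assoc, huu', mul_one]
    have h4' : g * u = u * g⁻¹ := by
      rw [← hug, ← mul_assoc, ← mul_assoc, huu', one_mul]
    calc u * z * u * g = u * z * (u * g) := by group
      _ = u * (z * g⁻¹) * u := by rw [h3]; group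
      _ = (u * g⁻¹) * z * u := by rw [h2]; group
      _ = g * (u * z * u) := by rw [← h4']; group
  have hconj : ∀ k : ℤ, u * g ^ k * u = g ^ (-k) := by
    intro k
    have h1 : u * g ^ k * u = (u * g * u⁻¹) ^ k := by rw [conj_zpow, huu]
    rw [h1, huu, hug, inv_zpow, zpow_neg]
  have hsu : u * s * u = s ∨ u * s * u = g ^ 2 * s := by
    have h1 := hcos _ (huZ' s hsZ)
    have hnot : u * s * u ∉ zpowers g := by
      intro h2
      obtain ⟨k, hk⟩ := mem_zpowers_iff.1 h2
      apply hsg
      have : s = u * (u * s * u) * u := by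
        calc s = (u * u) * s * (u * u) := by rw [huu']; group
          _ = _ := by group
      rw [this, ← hk, hconj]
      exact zpow_mem (mem_zpowers g) _
    have h2 := h1.resolve_left hnot
    -- the square of `u s u s`
    have h3 : (u * s * u) ^ 2 = 1 := by
      have : (u * s * u) ^ 2 = u * s * (u * u) * s * u := by rw [sq]; group
      rw [this, huu', mul_one, mul_assoc u s s, ← sq, hs2, mul_one, huu']
    have hcommz : ∀ z ∈ zpowers g, Commute z s := by
      intro z hz1
      obtain ⟨k, rfl⟩ := mem_zpowers_iff.1 hz1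
      exact (hsc.symm).zpow_left k
    have h4' : (u * s * u * s) ^ 2 = 1 := by
      have h5 : Commute (u * s * u) s := by
        have h6 := hcommz _ h2
        have h7 : u * s * u = (u * s * u * s) * s := by rw [mul_assoc (u * s * u), ← sq, hs2, mul_one]
        rw [h7]
        exact h6.mul_left (Commute.refl s)
      rw [h5.mul_pow, h3, hs2, mul_one]
    have hss : s * s = 1 := by rw [← sq, hs2]
    rcases hpow _ h2 h4' with h5 | h5
    · left
      rw [mul_eq_one_iff_eq_inv] at h5
      rw [h5, inv_eq_iff_mul_eq_one, hss]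
    · right
      rw [← h5, mul_assoc (u * s * u), hss, mul_one]
  have hcommgs : ∀ z ∈ Z, Commute z (g * s) := by
    intro z hzZ
    have h1 : Commute z g := (hz z).1 hzZ
    refine h1.mul_right ?_
    rcases hcos z hzZ with h2 | h2
    · obtain ⟨k, rfl⟩ := mem_zpowers_iff.1 h2
      exact (hsc.symm).zpow_left k
    · obtain ⟨k, hk⟩ := mem_zpowers_iff.1 h2
      have h3 : z = g ^ k * s := by rw [hk, mul_assoc, ← sq, hs2, mul_one]
      rw [h3]
      exact ((hsc.symm).zpow_left k).mul_left (Commute.refl s)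
  rcases hsu with hsu | hsu
  · -- an elementary abelian subgroup of order 8
    have hus : Commute u s := by
      show u * s = s * u
      have : u * s * u * u = s * u := by rw [hsu]
      rwa [mul_assoc, huu', mul_one] at this
    have hut : Commute u (g ^ 2) := by
      show u * g ^ 2 = g ^ 2 * u
      have h1 := hconj 2
      have h2 : g ^ (-2 : ℤ) = g ^ (2 : ℕ) := by
        rw [zpow_neg, inv_eq_iff_mul_eq_one]
        have : g ^ (2 : ℤ) = g ^ (2 : ℕ) := by norm_cast
        rw [this, ← pow_add, hg4]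
      have h3 : g ^ (2 : ℤ) = g ^ (2 : ℕ) := by norm_cast
      rw [h2, h3] at h1
      have : u * g ^ 2 * u * u = g ^ 2 * u := by rw [h1]
      rwa [mul_assoc, huu', mul_one] at this
    have hst : Commute s (g ^ 2) := hsc.pow_right 2
    set V : Subgroup G := closure ({g ^ 2, s, u} : Set G) with hV
    have hVc : IsMulCommutative V := by
      apply isMulCommutative_closure
      intro a ha b hb
      simp only [Set.mem_insert_iff, Set.mem_singleton_iff] at ha hb
      rcases ha with rfl | rfl | rfl <;> rcases hb with rfl | rfl | rfl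
      · rfl
      · exact hst.symm
      · exact hut.symm
      · exact hst
      · rfl
      · exact hus.symm
      · exact hut
      · exact hus
      · rfl
    have hV2 : ∀ v ∈ V, v ^ 2 = 1 := by
      intro v hv
      induction hv using closure_induction with
      | mem a ha =>
        simp only [Set.mem_insert_iff, Set.mem_singleton_iff] at ha
        rcases ha with rfl | rfl | rfl
        · rw [← pow_mul]; exact hg4
        · exact hs2
        · exact hu2
      | one => exact one_pow 2
      | mul a b ha hb ha2 hb2 =>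
        have hab : Commute a b := congrArg Subtype.val (hVc.is_comm.comm (⟨a, ha⟩ : V) ⟨b, hb⟩)
        rw [hab.mul_pow, ha2, hb2, mul_one]
      | inv a ha ha2 => rw [inv_pow, ha2, inv_one]
    have hlt := h.rank_lt V hV2
    have hmt : g ^ 2 ∈ V := subset_closure (by simp)
    have hms : s ∈ V := subset_closure (by simp)
    have hmu : u ∈ V := subset_closure (by simp)
    have c1 : 2 * Nat.card (⊥ : Subgroup G) ≤ Nat.card (V ⊓ zpowers g : Subgroup G) :=
      two_mul_card_le bot_le ⟨g ^ 2, ⟨hmt, pow_mem (mem_zpowers g) 2⟩, by rw [mem_bot]; exact hg2⟩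
    have c2 : 2 * Nat.card (V ⊓ zpowers g : Subgroup G) ≤ Nat.card (V ⊓ Z : Subgroup G) :=
      two_mul_card_le (inf_le_inf_left V (by rw [zpowers_le]; exact hgZ)) ⟨s, ⟨hms, hsZ⟩, fun hm => hsg hm.2⟩
    have c3 : 2 * Nat.card (V ⊓ Z : Subgroup G) ≤ Nat.card V :=
      two_mul_card_le inf_le_left ⟨u, hmu, fun hm => huZ hm.2⟩
    rw [card_bot] at c1
    omega
  · -- `g s` is central of order 4
    have hgs2 : (g * s) ^ 2 = g ^ 2 := by rw [(hsc.symm).mul_pow, hs2, mul_one]
    have hgso : orderOf (g * s) = 4 := by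
      have h1 : (g * s) ^ (2 ^ 1) ≠ 1 := by rw [pow_one, hgs2]; exact hg2
      have h2 : (g * s) ^ (2 ^ (1 + 1)) = 1 := by
        have : (2 : ℕ) ^ (1 + 1) = 2 * 2 := by norm_num
        rw [this, pow_mul, hgs2, ← pow_mul]; exact hg4
      have := orderOf_eq_prime_pow h1 h2
      rw [this]; norm_num
    obtain ⟨-, -, -, -, -, -, -, -, hC8', -⟩ := h.ord4 hG hgso
    have h1 : Z ≤ centralizer ({g * s} : Set G) := by
      intro z hzZ
      rw [mem_centralizer_singleton_iff]
      exact hcommgs z hzZ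
    have h2 : u ∈ centralizer ({g * s} : Set G) := by
      rw [mem_centralizer_singleton_iff]
      have h3 : u * g = g⁻¹ * u := by rw [← hug, mul_assoc, huu', mul_one]
      have h4' : u * s = g ^ 2 * s * u := by rw [← hsu, mul_assoc (u * s), huu', mul_one]
      calc u * (g * s) = (u * g) * s := by group
        _ = g⁻¹ * (u * s) := by rw [h3]; group
        _ = g⁻¹ * (g ^ 2 * s * u) := by rw [h4']
        _ = g * s * u := by rw [sq]; group
    have h3 := two_mul_card_le h1 ⟨u, h2, huZ⟩
    rw [hC8', hC8] at h3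
    omega

/-- structure of the normalizer of an element of order 4 -/
theorem Tab.sd (h : Tab A B C D X E F H) (hG : Nat.card G = 7920) {k : G} (hk : orderOf k = 8) :
    centralizer ({k ^ 2} : Set G) = zpowers k ∧ centralizer ({k} : Set G) = zpowers k ∧
      ∃ u : G, u ^ 2 = 1 ∧ u ∉ zpowers k ∧ u * k * u = k ^ 3 := by
  have hk8 : k ^ 8 = 1 := by rw [← hk]; exact pow_orderOf_eq_one k
  have hg : orderOf (k ^ 2) = 4 := by rw [orderOf_pow, hk]; decide
  obtain ⟨-, -, -, -, -, -, -, -, hC8, -⟩ := h.ord4 hG hg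
  have h1 : centralizer ({k ^ 2} : Set G) = zpowers k := by
    symm
    apply eq_of_le_of_card_ge
    · rw [zpowers_le, mem_centralizer_singleton_iff]
      exact (Commute.refl k).pow_right 2
    · rw [hC8, Nat.card_zpowers, hk]
  have h2 : centralizer ({k} : Set G) = zpowers k := by
    apply le_antisymm
    · rw [← h1]
      intro z hz
      rw [mem_centralizer_singleton_iff] at hz ⊢
      exact Commute.pow_right (show Commute z k from hz) 2
    · rw [zpowers_le, mem_centralizer_singleton_iff]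
  refine ⟨h1, h2, ?_⟩
  obtain ⟨u, hu2, hu1, hug⟩ := h.inverter hG hg
  have huu : u⁻¹ = u := by rw [inv_eq_iff_mul_eq_one, ← sq, hu2]
  have huu' : u * u = 1 := by rw [← sq, hu2]
  have hk4 : k ^ 4 ≠ 1 := by
    intro h3
    have := orderOf_dvd_of_pow_eq_one h3
    rw [hk] at this
    norm_num at this
  have hcz : ∀ z ∈ zpowers k, z * k ^ 2 = k ^ 2 * z := by
    intro z hz
    rw [← h1, mem_centralizer_singleton_iff] at hz
    exact hz
  have hu : u ∉ zpowers k := by
    intro h3
    have h4 := hcz u h3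
    apply hk4
    rw [h4, mul_assoc, huu', mul_one] at hug
    have : k ^ 4 = k ^ 2 * k ^ 2 := by rw [← pow_add]
    rw [this]
    nth_rw 1 [hug]
    exact inv_mul_cancel _
  refine ⟨u, hu2, hu, ?_⟩
  -- `u k u` centralizes `k ^ 2`
  have h3 : u * k * u ∈ zpowers k := by
    rw [← h1, mem_centralizer_singleton_iff]
    have h4 : u * k ^ 2 = (k ^ 2)⁻¹ * u := by rw [← hug, mul_assoc, huu', mul_one]
    have h5 : k ^ 2 * u = u * (k ^ 2)⁻¹ := by rw [← hug, ← mul_assoc, ← mul_assoc, huu', one_mul]
    have h6 : k * (k ^ 2)⁻¹ = (k ^ 2)⁻¹ * k := by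
      have : Commute k ((k ^ 2)⁻¹) := ((Commute.refl k).pow_right 2).inv_right
      exact this
    calc u * k * u * k ^ 2 = u * k * (u * k ^ 2) := by group
      _ = u * (k * (k ^ 2)⁻¹) * u := by rw [h4]; group
      _ = (u * (k ^ 2)⁻¹) * k * u := by rw [h6]; group
      _ = k ^ 2 * (u * k * u) := by rw [← h5]; group
  obtain ⟨j, hj⟩ := mem_powers_iff_mem_zpowers.2 h3
  have hj' : k ^ j = u * k * u := hj
  have h4 : k ^ (j % 8) = u * k * u := by rw [← hj', ← hk, pow_mod_orderOf]
  have h5 : j % 8 < 8 := Nat.mod_lt _ (by norm_num)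
  have h6 : (u * k * u) ^ 2 = (k ^ 2)⁻¹ := by
    rw [← hug]
    calc (u * k * u) ^ 2 = u * k * (u * u) * k * u := by rw [sq]; group
      _ = u * k ^ 2 * u := by rw [huu', sq]; group
  rw [← h4, ← pow_mul, eq_inv_iff_mul_eq_one, ← pow_add] at h6
  have h7 := orderOf_dvd_of_pow_eq_one h6
  rw [hk] at h7
  have h8 : j % 8 = 3 ∨ j % 8 = 7 := by omega
  rcases h8 with h8 | h8
  · rw [← h4, h8]
  · exfalso
    rw [h8] at h4
    -- `u` inverts `k`: too many involutions
    have h9 : u * k * u = k⁻¹ := by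
      rw [← h4, eq_inv_iff_mul_eq_one, ← pow_succ, hk8]
    have hconj : ∀ i : ℕ, u * k ^ i * u = (k ^ i)⁻¹ := by
      intro i
      have : u * k ^ i * u = (u * k * u⁻¹) ^ i := by rw [conj_pow, huu]
      rw [this, huu, h9, inv_pow]
    have hinv : ∀ i : ℕ, (u * k ^ i) ^ 2 = 1 := by
      intro i
      rw [sq]
      calc u * k ^ i * (u * k ^ i) = (u * k ^ i * u) * k ^ i := by group
        _ = 1 := by rw [hconj, inv_mul_cancel]
    have hne : ∀ i : ℕ, u * k ^ i ≠ 1 := by
      intro i h10
      apply hu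
      rw [mul_eq_one_iff_eq_inv] at h10
      rw [h10]
      exact inv_mem (pow_mem (mem_zpowers k) i)
    have hord : ∀ i : ℕ, orderOf (u * k ^ i) = 2 := fun i => orderOf_eq_prime (hinv i) (hne i)
    have hku : orderOf u = 2 := orderOf_eq_prime hu2 hu1
    have hcount := h.prod4 hG hg hku
    let f : Fin 8 → {p : G × G // IsConj u p.1 ∧ IsConj u p.2 ∧ p.1 * p.2 = k ^ 2} := fun i =>
      ⟨(u * k ^ i.val, u * k ^ (i.val + 2)), h.conj_two hG hku (hord _), h.conj_two hG hku (hord _), by
        show u * k ^ i.val * (u * k ^ (i.val + 2)) = k ^ 2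
        calc u * k ^ i.val * (u * k ^ (i.val + 2)) = (u * k ^ i.val * u) * (k ^ i.val * k ^ 2) := by rw [pow_add]; group
          _ = k ^ 2 := by rw [hconj, inv_mul_cancel_left]⟩
    have hf : Function.Injective f := by
      intro i j hij
      have h10 := congrArg (fun p => p.1.1) hij
      have h11 : k ^ i.val = k ^ j.val := mul_left_cancel (show u * k ^ i.val = u * k ^ j.val from h10)
      have h12 := pow_inj_mod.1 h11
      rw [hk] at h12
      have := i.2
      have := j.2
      apply Fin.ext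
      omega
    have h13 := Nat.card_le_card_of_injective f hf
    rw [hcount, Nat.card_eq_fintype_card, Fintype.card_fin] at h13
    omega

end Cfsg.Agent.Lib.M11ByOrder
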