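import Mathlib
import Cfsg.Agent.Lib.M11G

/-!
# Simple groups of order 7920, part H: the conjugacy classes, Sylow 3-normalizers (helper7)
-/

set_option autoImplicit false

namespace Cfsg.Agent.Lib.M11ByOrder

open Subgroup Cfsg Cfsg.Agent.Lib.CharBasic Cfsg.Agent.Lib.ColTools Cfsg.Agent.Lib.SmallSimple
open scoped ComplexConjugate

universe u

variable {G : Type u} [Group G] [Finite G] {A B C D X E F H : IrrCharacter G}

variable [IsSimpleGroup G]

/-- at most two classes of elements of order 8 -/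
theorem Tab.eight (h : Tab A B C D X E F H) (hG : Nat.card G = 7920) {k k' : G} (hk : orderOf k = 8) (hk' : orderOf k' = 8) :
    IsConj k' k ∨ IsConj k' k⁻¹ := by
  obtain ⟨h1, h2, u, hu2, hu, huk⟩ := h.sd hG hk
  have hk8 : k ^ 8 = 1 := by rw [← hk]; exact pow_orderOf_eq_one k
  have huu : u⁻¹ = u := by rw [inv_eq_iff_mul_eq_one, ← sq, hu2]
  obtain ⟨c, hc⟩ := isConj_iff.1 (h.conj_four hG (g := k' ^ 2) (k := k ^ 2) (by rw [orderOf_pow, hk']; decide)
    (by rw [orderOf_pow, hk]; decide))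
  have h3 : c * k' * c⁻¹ ∈ zpowers k := by
    rw [← h1, mem_centralizer_singleton_iff, ← hc]
    have : c * k' ^ 2 * c⁻¹ = (c * k' * c⁻¹) ^ 2 := by rw [conj_pow]
    rw [this]
    exact (Commute.refl _).pow_right 2
  obtain ⟨j, hj⟩ := mem_powers_iff_mem_zpowers.2 h3
  have hj' : k ^ j = c * k' * c⁻¹ := hj
  have h4 : k ^ (j % 8) = c * k' * c⁻¹ := by rw [← hj', ← hk, pow_mod_orderOf]
  have h5 : j % 8 < 8 := Nat.mod_lt _ (by norm_num)
  have h6 : (k ^ (j % 8)) ^ 2 = k ^ 2 := by rw [h4, conj_pow, hc]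
  rw [← pow_mul] at h6
  have h7 := pow_inj_mod.1 h6
  rw [hk] at h7
  have h8 : j % 8 = 1 ∨ j % 8 = 5 := by omega
  have h9 : IsConj k' (k ^ (j % 8)) := by rw [h4]; exact isConj_iff.2 ⟨c, rfl⟩
  rcases h8 with h8 | h8
  · left; rwa [h8, pow_one] at h9
  · right
    rw [h8] at h9
    refine h9.trans (isConj_iff.2 ⟨u, ?_⟩)
    have h10 : u * k ^ 5 * u⁻¹ = (u * k * u⁻¹) ^ 5 := by rw [conj_pow]
    rw [h10, huu, huk, eq_inv_iff_mul_eq_one, ← pow_mul, ← pow_succ]
    have : 3 * 5 + 1 = 8 * 2 := by norm_num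
    rw [this, pow_mul, hk8, one_pow]

/-- elements of order 8 are not real -/
theorem Tab.eight_nonreal (h : Tab A B C D X E F H) (hG : Nat.card G = 7920) {k : G} (hk : orderOf k = 8) :
    ¬ IsConj k k⁻¹ := by
  intro hr
  obtain ⟨c, hc⟩ := isConj_iff.1 hr
  obtain ⟨h1, h2, u, hu2, hu, huk⟩ := h.sd hG hk
  have hk8 : k ^ 8 = 1 := by rw [← hk]; exact pow_orderOf_eq_one k
  have huu : u⁻¹ = u := by rw [inv_eq_iff_mul_eq_one, ← sq, hu2]
  have huu' : u * u = 1 := by rw [← sq, hu2]
  have h3 : (u * c) ∈ zpowers k := by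
    rw [← h1, mem_centralizer_singleton_iff]
    have h4 : c * k ^ 2 = k⁻¹ ^ 2 * c := by rw [← hc, conj_pow]; group
    have h5 : u * k⁻¹ ^ 2 = k ^ 2 * u := by
      have h6 : u * k⁻¹ ^ 2 * u⁻¹ = k ^ 2 := by
        have : u * k⁻¹ ^ 2 * u⁻¹ = ((u * k * u⁻¹)⁻¹) ^ 2 := by rw [conj_inv, conj_pow]
        rw [this, huu, huk, inv_pow, inv_eq_iff_mul_eq_one, ← pow_mul, ← pow_add]
        exact hk8
      rw [← h6]; group
    rw [mul_assoc, h4, ← mul_assoc, h5, mul_assoc]
  obtain ⟨j, hj⟩ := mem_powers_iff_mem_zpowers.2 h3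
  have hj' : k ^ j = u * c := hj
  have hc' : c = u * k ^ j := by rw [hj', ← mul_assoc, huu', one_mul]
  have h4 : u * k * u = k⁻¹ := by
    rw [← hc, hc', mul_inv_rev, huu]
    group
  rw [huk] at h4
  rw [eq_inv_iff_mul_eq_one, ← pow_succ] at h4
  have := orderOf_dvd_of_pow_eq_one h4
  rw [hk] at this
  norm_num at this

omit [IsSimpleGroup G] in
theorem class_card (a : G) : Nat.card {v : G // ConjClasses.mk v = ConjClasses.mk a} * Nat.card (centralizer ({a} : Set G)) = Nat.card G := by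
  rw [← CharBasic.card_isConj_mul_card_centralizer a]
  congr 1
  apply Nat.card_congr
  apply Equiv.subtypeEquivRight
  intro v
  rw [ConjClasses.mk_eq_mk_iff_isConj]
  exact ⟨fun k => k.symm, fun k => k.symm⟩

theorem arithC (n1 n2 n4 n8 n8' n5 n11 n11' n3 n6 c3 c6 : ℕ) (h1 : n1 * 7920 = 7920) (h2 : n2 * 48 = 7920) (h4 : n4 * 8 = 7920)
    (h8 : n8 * 8 = 7920) (h8' : n8' * 8 = 7920) (h5 : n5 * 5 = 7920) (h11 : n11 * 11 = 7920) (h11' : n11' * 11 = 7920)
    (h3 : n3 * c3 = 7920) (h6 : n6 * c6 = 7920) (hc6 : c6 ∣ 48) (hc6' : 6 ∣ c6)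
    (hs : n1 + (n2 + (n4 + (n8 + (n8' + (n5 + (n11 + (n11' + (n3 + (n6 + 0))))))))) = 7920) : c3 = 18 ∧ c6 = 6 := by
  obtain ⟨d, hd⟩ := hc6'
  have hd8 : d ∣ 8 := by
    rw [hd] at hc6
    exact Nat.dvd_of_mul_dvd_mul_left (by norm_num : 0 < 6) (by norm_num; exact hc6)
  have hs' : n3 + n6 = 1760 := by omega
  have hd' : d = 1 ∨ d = 2 ∨ d = 4 ∨ d = 8 := by
    have := Nat.le_of_dvd (by norm_num) hd8
    interval_cases d <;> simp_all
  subst hd
  rcases hd' with rfl | rfl | rfl | rfl
  · have : n6 = 1320 := by omega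
    have : n3 = 440 := by omega
    subst this
    exact ⟨by omega, by omega⟩
  · have : n6 = 660 := by omega
    have : n3 = 1100 := by omega
    subst this
    omega
  · have : n6 = 330 := by omega
    have : n3 = 1430 := by omega
    subst this
    omega
  · have : n6 = 165 := by omega
    have : n3 = 1595 := by omega
    subst this
    omega

/-- the conjugacy classes -/
theorem Tab.classes (h : Tab A B C D X E F H) (hG : Nat.card G = 7920) :
    (∀ z : G, orderOf z = 3 → Nat.card (centralizer ({z} : Set G)) = 18) ∧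
    (∀ z z' : G, orderOf z = 3 → orderOf z' = 3 → IsConj z z') ∧
    (∀ v : G, orderOf v ∈ ({1, 2, 3, 4, 5, 6, 8, 11} : Finset ℕ)) := by
  classical
  obtain ⟨x, hx⟩ := exists_prime_orderOf_dvd_card' (G := G) 11 (by rw [hG]; norm_num)
  obtain ⟨y, hy⟩ := exists_prime_orderOf_dvd_card' (G := G) 5 (by rw [hG]; norm_num)
  obtain ⟨t, ht⟩ := exists_prime_orderOf_dvd_card' (G := G) 2 (by rw [hG]; norm_num)
  obtain ⟨g, hg⟩ := h.exists_four hG
  obtain ⟨k, hk, -⟩ := h.exists_eight hG hg
  obtain ⟨hCx, -, -, hnr⟩ := elt11 hG x hx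
  obtain ⟨hCy, -, -⟩ := elt5 hG y hy
  have hnr8 := h.eight_nonreal hG hk
  obtain ⟨-, hCk, -⟩ := h.sd hG hk
  have hC2 := (h.inv hG ht).2.2.2
  obtain ⟨z1, hz1⟩ := exists_prime_orderOf_dvd_card' (G := centralizer ({t} : Set G)) 3 (by rw [hC2]; norm_num)
  have hz0 : orderOf (z1 : G) = 3 := by rw [Subgroup.orderOf_coe, hz1]
  have hzt : Commute (z1 : G) t := (mem_centralizer_singleton_iff.1 z1.2)
  have hw : orderOf ((z1 : G) * t) = 6 := by
    rw [hzt.orderOf_mul_eq_mul_orderOf_of_coprime (by rw [hz0, ht]; decide), hz0, ht]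
  have key : ∀ z : G, orderOf z = 3 → Nat.card (centralizer ({z} : Set G)) = 18 ∧ (∀ v : G, orderOf v = 3 → IsConj v z) ∧
      (∀ v : G, orderOf v ∈ ({1, 2, 3, 4, 5, 6, 8, 11} : Finset ℕ)) := by
    intro z hz
    set w : G := (z1 : G) * t with hwd
    have hne : ∀ a b : G, orderOf a ≠ orderOf b → ConjClasses.mk a ≠ ConjClasses.mk b := by
      intro a b hab hm
      exact hab (isConj_order (ConjClasses.mk_eq_mk_iff_isConj.1 hm))
    have hki : orderOf k⁻¹ = 8 := by rw [orderOf_inv, hk]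
    have hxi : orderOf x⁻¹ = 11 := by rw [orderOf_inv, hx]
    have e8 : ConjClasses.mk k ≠ ConjClasses.mk k⁻¹ := fun hm => hnr8 (ConjClasses.mk_eq_mk_iff_isConj.1 hm)
    have e11 : ConjClasses.mk x ≠ ConjClasses.mk x⁻¹ := fun hm => hnr (ConjClasses.mk_eq_mk_iff_isConj.1 hm)
    set L : List (ConjClasses G) := [ConjClasses.mk (1 : G), ConjClasses.mk t, ConjClasses.mk g, ConjClasses.mk k, ConjClasses.mk k⁻¹,
      ConjClasses.mk y, ConjClasses.mk x, ConjClasses.mk x⁻¹, ConjClasses.mk z, ConjClasses.mk w] with hL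
    have hnd : L.Nodup := by
      rw [hL]
      simp only [List.nodup_cons, List.mem_cons, List.not_mem_nil, not_or, or_false, not_false_eq_true, List.nodup_nil, and_true]
      repeat' apply And.intro
      all_goals first
        | exact e8
        | exact e11
        | (apply hne; simp only [orderOf_one, ht, hg, hk, hki, hy, hx, hxi, hz, hw]; norm_num)
    have := Fintype.ofFinite (ConjClasses G)
    have hcardC : Fintype.card (ConjClasses G) = 10 := by
      rw [← Nat.card_eq_fintype_card, ← card_irr, Nat.card_eq_fintype_card, ← Finset.card_univ]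
      have : (Finset.univ : Finset (IrrCharacter G)) = [triv G, A, B, C, D, X, cc X, E, F, H].toFinset := by
        ext χ
        rw [List.mem_toFinset]
        exact ⟨fun _ => h.all χ, fun _ => Finset.mem_univ _⟩
      rw [this, List.toFinset_card_of_nodup h.nodup]
      rfl
    have hLu : L.toFinset = Finset.univ := by
      apply Finset.eq_univ_of_card
      rw [List.toFinset_card_of_nodup hnd, hcardC]
      rfl
    have hall : ∀ v : G, ConjClasses.mk v ∈ L := by
      intro v
      rw [← List.mem_toFinset, hLu]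
      exact Finset.mem_univ _
    have hsum : Nat.card G = ∑ c : ConjClasses G, Nat.card {v : G // ConjClasses.mk v = c} := by
      rw [← Nat.card_sigma]
      exact (Nat.card_congr (Equiv.sigmaFiberEquiv (fun v : G => ConjClasses.mk v))).symm
    rw [← hLu, List.sum_toFinset _ hnd, hL, hG] at hsum
    simp only [List.map_cons, List.map_nil, List.sum_cons, List.sum_nil] at hsum
    have q1 := class_card (1 : G)
    have q2 := class_card t
    have q4 := class_card g
    have q8 := class_card k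
    have q8' := class_card k⁻¹
    have q5 := class_card y
    have q11 := class_card x
    have q11' := class_card x⁻¹
    have q3 := class_card z
    have q6 := class_card w
    obtain ⟨-, hCk', -⟩ := h.sd hG hki
    obtain ⟨-, -, -, -, -, -, -, -, hC4, -⟩ := h.ord4 hG hg
    have hcen1 : Nat.card (centralizer ({(1 : G)} : Set G)) = 7920 := by
      have : centralizer ({(1 : G)} : Set G) = ⊤ := by
        rw [eq_top_iff]; intro v _; rw [mem_centralizer_singleton_iff]; simp
      rw [this, card_top, hG]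
    rw [hG] at q1 q2 q4 q8 q8' q5 q11 q11' q3 q6
    rw [hcen1] at q1
    rw [hC2] at q2
    rw [hC4] at q4
    rw [hCk, Nat.card_zpowers, hk] at q8
    rw [hCk', Nat.card_zpowers, hki] at q8'
    rw [hCy] at q5
    rw [hCx] at q11
    rw [(elt11 hG x⁻¹ hxi).1] at q11'
    have d6 : 6 ∣ Nat.card (centralizer ({w} : Set G)) := by
      rw [← hw, ← Nat.card_zpowers]
      apply card_dvd_of_le
      rw [zpowers_le, mem_centralizer_singleton_iff]
    have d48 : Nat.card (centralizer ({w} : Set G)) ∣ 48 := by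
      have hw3 : orderOf (w ^ 3) = 2 := by rw [orderOf_pow, hw]; decide
      rw [← (h.inv hG hw3).2.2.2]
      apply card_dvd_of_le
      intro v hv
      rw [mem_centralizer_singleton_iff] at hv ⊢
      exact Commute.pow_right (show Commute v w from hv) 3
    obtain ⟨c3, -⟩ := arithC _ _ _ _ _ _ _ _ _ _ _ _ q1 q2 q4 q8 q8' q5 q11 q11' q3 q6 d48 d6 hsum.symm
    refine ⟨c3, ?_, ?_⟩
    · intro v hv
      have h1 := hall v
      rw [hL] at h1
      simp only [List.mem_cons, List.not_mem_nil, or_false] at h1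
      rcases h1 with h1 | h1 | h1 | h1 | h1 | h1 | h1 | h1 | h1 | h1
      · exact absurd h1 (hne _ _ (by rw [hv, orderOf_one]; norm_num))
      · exact absurd h1 (hne _ _ (by rw [hv, ht]; norm_num))
      · exact absurd h1 (hne _ _ (by rw [hv, hg]; norm_num))
      · exact absurd h1 (hne _ _ (by rw [hv, hk]; norm_num))
      · exact absurd h1 (hne _ _ (by rw [hv, hki]; norm_num))
      · exact absurd h1 (hne _ _ (by rw [hv, hy]; norm_num))
      · exact absurd h1 (hne _ _ (by rw [hv, hx]; norm_num))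
      · exact absurd h1 (hne _ _ (by rw [hv, hxi]; norm_num))
      · exact ConjClasses.mk_eq_mk_iff_isConj.1 h1
      · exact absurd h1 (hne _ _ (by rw [hv, hw]; norm_num))
    · intro v
      have h1 := hall v
      rw [hL] at h1
      simp only [List.mem_cons, List.not_mem_nil, or_false] at h1
      rcases h1 with h1 | h1 | h1 | h1 | h1 | h1 | h1 | h1 | h1 | h1 <;> rw [isConj_order (ConjClasses.mk_eq_mk_iff_isConj.1 h1)]
      · rw [orderOf_one]; decide
      · rw [ht]; decide
      · rw [hg]; decide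
      · rw [hk]; decide
      · rw [hki]; decide
      · rw [hy]; decide
      · rw [hx]; decide
      · rw [hxi]; decide
      · rw [hz]; decide
      · rw [hw]; decide
  exact ⟨fun z hz => (key z hz).1, fun z z' hz hz' => (key z' hz').2.1 z hz, (key _ hz0).2.2⟩

end Cfsg.Agent.Lib.M11ByOrder
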