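import Mathlib
import Cfsg.Agent.Lib.M11H

/-!
# Simple groups of order 7920, part I: Sylow 3-normalizers (helper7)
-/

set_option autoImplicit false

namespace Cfsg.Agent.Lib.M11ByOrder

open Subgroup Cfsg Cfsg.Agent.Lib.CharBasic Cfsg.Agent.Lib.ColTools Cfsg.Agent.Lib.SmallSimple
open scoped ComplexConjugate

universe u

variable {G : Type u} [Group G] [Finite G] [IsSimpleGroup G]

/-- Sylow 3-subgroups -/
theorem sylow3 (hG : Nat.card G = 7920) (P : Sylow 3 G) : Nat.card (P : Subgroup G) = 9 ∧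
    (∀ z ∈ (P : Subgroup G), z ≠ 1 → orderOf z = 3) ∧ (∀ a ∈ (P : Subgroup G), ∀ b ∈ (P : Subgroup G), a * b = b * a) ∧
    (∀ z ∈ (P : Subgroup G), z ≠ 1 → ∀ g ∈ centralizer ({z} : Set G), g ∈ normalizer ((P : Subgroup G) : Set G)) ∧
    (∀ z ∈ (P : Subgroup G), z ≠ 1 → Nat.card (centralizer ({z} : Set G)) = 18) := by
  obtain ⟨A, B, C, D, X, E, F, H, h⟩ := exists_tab hG
  obtain ⟨hc18, hc3, hord⟩ := h.classes hG
  have hP : Nat.card (P : Subgroup G) = 9 := by
    have := sylow_card_of (G := G) (p := 3) (k := 2) (m := 880) (by rw [hG]; norm_num) (by norm_num) P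
    simpa using this
  have hz3 : ∀ z ∈ (P : Subgroup G), z ≠ 1 → orderOf z = 3 := by
    intro z hz hz1
    have h1 : orderOf z ∣ 3 ^ 2 := by
      rw [show (3 : ℕ) ^ 2 = Nat.card (P : Subgroup G) by rw [hP]; norm_num, ← Subgroup.orderOf_mk z hz]
      exact orderOf_dvd_natCard _
    obtain ⟨k, hk, hk'⟩ := (Nat.dvd_prime_pow (by norm_num : Nat.Prime 3)).1 h1
    have h2 := hord z
    rw [hk'] at h2 ⊢
    have hk1 : k ≠ 0 := by
      rintro rfl
      rw [pow_zero, orderOf_eq_one_iff] at hk'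
      exact hz1 hk'
    have hk2 : k ≠ 2 := by
      rintro rfl
      revert h2; decide
    have : k = 1 := by omega
    rw [this, pow_one]
  have hcomm : ∀ a ∈ (P : Subgroup G), ∀ b ∈ (P : Subgroup G), a * b = b * a := by
    intro a ha b hb
    have h1 := IsPGroup.isMulCommutative_of_card_eq_prime_sq (p := 3) (G := (P : Subgroup G)) (by rw [hP]; norm_num)
    exact congrArg Subtype.val (h1.is_comm.comm (⟨a, ha⟩ : (P : Subgroup G)) ⟨b, hb⟩)
  refine ⟨hP, hz3, hcomm, ?_, fun z hz hz1 => hc18 z (hz3 z hz hz1)⟩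
  intro z hz hz1 g hg
  have hle : (P : Subgroup G) ≤ centralizer ({z} : Set G) := by
    intro a ha
    rw [mem_centralizer_singleton_iff]
    exact hcomm a ha z hz
  have hidx : ((P : Subgroup G).subgroupOf (centralizer ({z} : Set G))).index = 2 := by
    have h1 := relIndex_mul_card_of_le hle
    rw [hP, hc18 z (hz3 z hz hz1)] at h1
    show (P : Subgroup G).relIndex _ = 2
    omega
  have hnor := normal_of_index_eq_two hidx
  rw [mem_normalizer_iff]
  intro a
  constructor
  · intro ha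
    have h1 := hnor.conj_mem (⟨a, hle ha⟩ : centralizer ({z} : Set G)) (by rw [mem_subgroupOf]; exact ha) ⟨g, hg⟩
    rw [mem_subgroupOf] at h1
    exact h1
  · intro ha
    have h1 := hnor.conj_mem (⟨g * a * g⁻¹, hle ha⟩ : centralizer ({z} : Set G)) (by rw [mem_subgroupOf]; exact ha) ⟨g⁻¹, inv_mem hg⟩
    rw [mem_subgroupOf] at h1
    have h2 : ((⟨g⁻¹, inv_mem hg⟩ * ⟨g * a * g⁻¹, hle ha⟩ * (⟨g⁻¹, inv_mem hg⟩)⁻¹ : centralizer ({z} : Set G)) : G) = a := by
      show g⁻¹ * (g * a * g⁻¹) * (g⁻¹)⁻¹ = a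
      group
    rwa [h2] at h1

/-- Sylow 3-normalizers have order 144 -/
theorem card_normalizer_three (hG : Nat.card G = 7920) (P : Sylow 3 G) :
    Nat.card (normalizer ((P : Subgroup G) : Set G)) = 144 := by
  obtain ⟨A, B, C, D, X, E, F, H, h⟩ := exists_tab hG
  obtain ⟨hc18, hc3, hord⟩ := h.classes hG
  obtain ⟨hP, hz3, hcomm, hCN, -⟩ := sylow3 hG P
  obtain ⟨z, hzP, hz1⟩ : ∃ z ∈ (P : Subgroup G), z ≠ 1 := by
    by_contra hno
    push Not at hno
    have : (P : Subgroup G) = ⊥ := by rw [eq_bot_iff]; intro a ha; rw [mem_bot]; exact hno a ha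
    rw [this, card_bot] at hP
    norm_num at hP
  have h1 := card_conj_mem z ((P : Subgroup G) : Set G)
  rw [hc18 z (hz3 z hzP hz1)] at h1
  have h2 : Nat.card {g : G // IsConj z g ∧ g ∈ ((P : Subgroup G) : Set G)} = 8 := by
    have h3 : ∀ g : G, (IsConj z g ∧ g ∈ ((P : Subgroup G) : Set G)) ↔ g ∈ (((P : Subgroup G) : Set G) \ {1}) := by
      intro g
      rw [Set.mem_diff, Set.mem_singleton_iff]
      constructor
      · rintro ⟨h4, h5⟩
        refine ⟨h5, ?_⟩
        rintro rfl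
        have := isConj_order h4
        rw [hz3 z hzP hz1, orderOf_one] at this
        norm_num at this
      · rintro ⟨h4, h5⟩
        exact ⟨hc3 z g (hz3 z hzP hz1) (hz3 g h4 h5), h4⟩
    rw [Nat.card_congr (Equiv.subtypeEquivRight h3), Nat.card_coe_set_eq, Set.ncard_diff_singleton_of_mem (one_mem _),
      ← Nat.card_coe_set_eq]
    rw [show Nat.card ((P : Subgroup G) : Set G) = 9 from hP]
  rw [h2] at h1
  have h3 : Nat.card {g : G // g⁻¹ * z * g ∈ ((P : Subgroup G) : Set G)} = Nat.card (normalizer ((P : Subgroup G) : Set G)) := by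
    apply Nat.card_congr
    apply Equiv.subtypeEquivRight
    intro g
    constructor
    · intro h4
      have hcen : ∀ a ∈ (P : Subgroup G), a ∈ centralizer ((P : Subgroup G) : Set G) := by
        intro a ha
        rw [mem_centralizer_iff]
        intro b hb
        exact hcomm b hb a ha
      obtain ⟨n, hn, hn'⟩ := Sylow.conj_eq_normalizer_conj_of_mem_centralizer P z g (hcen z hzP) (hcen _ h4)
      have h5 : g * n⁻¹ ∈ centralizer ({z} : Set G) := by
        rw [mem_centralizer_singleton_iff]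
        calc g * n⁻¹ * z = g * (n⁻¹ * z * n) * n⁻¹ := by group
          _ = g * (g⁻¹ * z * g) * n⁻¹ := by rw [hn']
          _ = z * (g * n⁻¹) := by group
      have h6 := hCN z hzP hz1 _ h5
      have h7 := mul_mem h6 hn
      rwa [inv_mul_cancel_right] at h7
    · intro h4
      have h5 := (mem_normalizer_iff.1 (inv_mem h4) z).1 hzP
      rwa [inv_inv] at h5
  rw [← h3, h1]

end Cfsg.Agent.Lib.M11ByOrder
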