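import Mathlib
import Cfsg.Agent.Lib.M11I
import Cfsg.Agent.Lib.ConjSylow

/-!
# Simple groups of order 7920, part J: the subgroup of index 11 (helper7)
-/

set_option autoImplicit false

namespace Cfsg.Agent.Lib.M11ByOrder

open Subgroup Cfsg Cfsg.Agent.Lib.CharBasic Cfsg.Agent.Lib.ColTools Cfsg.Agent.Lib.SmallSimple
open scoped ComplexConjugate Pointwise

universe u

section Quat

variable {G : Type u} [Group G] {k u : G}

theorem kn_u (hu : u ^ 2 = 1) (huk : u * k * u = k ^ 3) (n : ℕ) : k ^ n * u = u * k ^ (3 * n) := by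
  have huu : u⁻¹ = u := by rw [inv_eq_iff_mul_eq_one, ← sq, hu]
  have h1 : u * k ^ n * u⁻¹ = k ^ (3 * n) := by rw [← conj_pow, huu, huk, ← pow_mul]
  have huu' : u * u = 1 := by rw [← sq, hu]
  calc k ^ n * u = (u * u) * k ^ n * u := by rw [huu', one_mul]
    _ = u * (u * k ^ n * u⁻¹) := by rw [huu]; group
    _ = u * k ^ (3 * n) := by rw [h1]

theorem uk_uk (hu : u ^ 2 = 1) (huk : u * k * u = k ^ 3) (a b : ℕ) : (u * k ^ a) * (u * k ^ b) = k ^ (3 * a + b) := by
  have huu' : u * u = 1 := by rw [← sq, hu]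
  calc (u * k ^ a) * (u * k ^ b) = u * (k ^ a * u) * k ^ b := by group
    _ = (u * u) * (k ^ (3 * a) * k ^ b) := by rw [kn_u hu huk]; group
    _ = k ^ (3 * a + b) := by rw [huu', one_mul, pow_add]

/-- the quaternion subgroup of a semidihedral group -/
def quat (hk : k ^ 8 = 1) (hu : u ^ 2 = 1) (huk : u * k * u = k ^ 3) : Subgroup G where
  carrier := {r | ∃ i : ℕ, r = k ^ (2 * i) ∨ r = u * k ^ (2 * i + 1)}
  one_mem' := ⟨0, Or.inl (by simp)⟩
  mul_mem' := by
    rintro a b ⟨i, rfl | rfl⟩ ⟨j, rfl | rfl⟩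
    · exact ⟨i + j, Or.inl (by rw [← pow_add]; congr 1; ring)⟩
    · refine ⟨3 * i + j, Or.inr ?_⟩
      rw [← mul_assoc, kn_u hu huk, mul_assoc, ← pow_add]
      congr 2; ring
    · refine ⟨i + j, Or.inr ?_⟩
      rw [mul_assoc, ← pow_add]
      congr 2; ring
    · refine ⟨3 * i + j + 2, Or.inl ?_⟩
      rw [uk_uk hu huk]
      congr 1; ring
  inv_mem' := by
    rintro a ⟨i, rfl | rfl⟩
    · refine ⟨3 * i, Or.inl ?_⟩
      rw [inv_eq_iff_mul_eq_one, ← pow_add]
      have : 2 * i + 2 * (3 * i) = 8 * i := by ring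
      rw [this, pow_mul, hk, one_pow]
    · refine ⟨13 * i + 6, Or.inr ?_⟩
      rw [inv_eq_iff_mul_eq_one, uk_uk hu huk]
      have : 3 * (2 * i + 1) + (2 * (13 * i + 6) + 1) = 8 * (4 * i + 2) := by ring
      rw [this, pow_mul, hk, one_pow]

theorem mem_quat (hk : k ^ 8 = 1) (hu : u ^ 2 = 1) (huk : u * k * u = k ^ 3) (r : G) :
    r ∈ quat hk hu huk ↔ ∃ i : ℕ, r = k ^ (2 * i) ∨ r = u * k ^ (2 * i + 1) := Iff.rfl

theorem quat_sq (hk : k ^ 8 = 1) (hu : u ^ 2 = 1) (huk : u * k * u = k ^ 3) (r : G) (hr : r ∈ quat hk hu huk) :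
    r = 1 ∨ r = k ^ 4 ∨ r ^ 2 = k ^ 4 := by
  obtain ⟨i, rfl | rfl⟩ := hr
  · rcases Nat.even_or_odd' i with ⟨j, rfl | rfl⟩
    · rcases Nat.even_or_odd' j with ⟨l, rfl | rfl⟩
      · left
        have : 2 * (2 * (2 * l)) = 8 * l := by ring
        rw [this, pow_mul, hk, one_pow]
      · right; left
        have : 2 * (2 * (2 * l + 1)) = 8 * l + 4 := by ring
        rw [this, pow_add, pow_mul, hk, one_pow, one_mul]
    · right; right
      rw [← pow_mul]
      have : 2 * (2 * j + 1) * 2 = 8 * j + 4 := by ring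
      rw [this, pow_add, pow_mul, hk, one_pow, one_mul]
  · right; right
    rw [sq, uk_uk hu huk]
    have : 3 * (2 * i + 1) + (2 * i + 1) = 8 * i + 4 := by ring
    rw [this, pow_add, pow_mul, hk, one_pow, one_mul]

end Quat

variable {G : Type u} [Group G] [Finite G] {A B C D X E F H : IrrCharacter G}

variable [IsSimpleGroup G]

/-- the quaternion subgroup consists of `1`, `t` and the square roots of `t` -/
theorem Tab.quat_eq (h : Tab A B C D X E F H) (hG : Nat.card G = 7920) {k u : G} (hk : orderOf k = 8) (hk8 : k ^ 8 = 1)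
    (hu : u ^ 2 = 1) (huk : u * k * u = k ^ 3) (hunk : u ∉ zpowers k) :
    Nat.card (quat hk8 hu huk) = 8 ∧ ∀ r : G, r ∈ quat hk8 hu huk ↔ (r = 1 ∨ r = k ^ 4 ∨ r ^ 2 = k ^ 4) := by
  have ht : orderOf (k ^ 4) = 2 := by rw [orderOf_pow, hk]; decide
  have hg : orderOf (k ^ 2) = 4 := by rw [orderOf_pow, hk]; decide
  obtain ⟨-, -, -, -, -, -, -, -, hC8, -⟩ := h.ord4 hG hg
  have hC48 := (h.inv hG ht).2.2.2
  have hk4 : k ^ 4 ≠ 1 := ne_one_of_order ht (by norm_num)
  have hord4 : ∀ r : G, r ^ 2 = k ^ 4 → orderOf r = 4 := by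
    intro r hr
    have h1 : r ^ (2 ^ 1) ≠ 1 := by rw [pow_one, hr]; exact hk4
    have h2 : r ^ (2 ^ (1 + 1)) = 1 := by
      have : (2 : ℕ) ^ (1 + 1) = 2 * 2 := by norm_num
      rw [this, pow_mul, hr, ← pow_mul]; exact hk8
    have := orderOf_eq_prime_pow h1 h2
    rw [this]; norm_num
  -- six square roots
  have h6 : Nat.card {y : G // IsConj (k ^ 2) y ∧ y ∈ {y : G | y ^ 2 = k ^ 4}} = 6 := by
    have h1 := card_conj_mem (k ^ 2) {y : G | y ^ 2 = k ^ 4}
    rw [hC8] at h1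
    have h2 : Nat.card {g : G // g⁻¹ * k ^ 2 * g ∈ {y : G | y ^ 2 = k ^ 4}} = 48 := by
      rw [← hC48]
      apply Nat.card_congr
      apply Equiv.subtypeEquivRight
      intro g
      rw [Set.mem_setOf_eq, mem_centralizer_singleton_iff]
      have h3 : (g⁻¹ * k ^ 2 * g) ^ 2 = g⁻¹ * k ^ 4 * g := by
        have h4 : g⁻¹ * k ^ 2 * g = g⁻¹ * k ^ 2 * (g⁻¹)⁻¹ := by rw [inv_inv]
        rw [h4, conj_pow, inv_inv, ← pow_mul]
      rw [h3]
      constructor
      · intro h4
        calc g * k ^ 4 = g * (g⁻¹ * k ^ 4 * g) := by rw [h4]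
          _ = k ^ 4 * g := by group
      · intro h4
        calc g⁻¹ * k ^ 4 * g = g⁻¹ * (k ^ 4 * g) := by group
          _ = k ^ 4 := by rw [← h4]; group
    rw [h2] at h1
    omega
  have hY : ({y : G | y ^ 2 = k ^ 4}).ncard = 6 := by
    rw [← h6, ← Nat.card_coe_set_eq]
    apply Nat.card_congr
    apply Equiv.subtypeEquivRight
    intro y
    constructor
    · intro hy
      exact ⟨h.conj_four hG hg (hord4 y hy), hy⟩
    · exact fun hy => hy.2
  set Z : Set G := {1, k ^ 4} ∪ {y : G | y ^ 2 = k ^ 4} with hZ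
  have hZc : Z.ncard ≤ 8 := by
    have h1 := Set.ncard_union_le ({1, k ^ 4} : Set G) {y : G | y ^ 2 = k ^ 4}
    rw [hY, Set.ncard_pair hk4.symm] at h1
    exact h1
  have hsub : ((quat hk8 hu huk : Subgroup G) : Set G) ⊆ Z := by
    intro r hr
    rcases quat_sq hk8 hu huk r hr with h1 | h1 | h1
    · left; left; exact h1
    · left; right; exact h1
    · right; exact h1
  have hge : 8 ≤ ((quat hk8 hu huk : Subgroup G) : Set G).ncard := by
    have h1 : zpowers (k ^ 2) ≤ quat hk8 hu huk := by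
      rw [zpowers_le]
      exact ⟨1, Or.inl (by norm_num)⟩
    have h2 := two_mul_card_le h1 ⟨u * k ^ 1, ⟨0, Or.inr (by norm_num)⟩, by
      intro h3
      apply hunk
      have h4 : u * k ^ 1 ∈ zpowers k := by
        have : zpowers (k ^ 2) ≤ zpowers k := by rw [zpowers_le]; exact pow_mem (mem_zpowers k) 2
        exact this h3
      have h5 := mul_mem h4 (inv_mem (pow_mem (mem_zpowers k) 1))
      rwa [mul_inv_cancel_right] at h5⟩
    rw [Nat.card_zpowers, hg] at h2
    rw [← Nat.card_coe_set_eq]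
    exact h2
  have heq : ((quat hk8 hu huk : Subgroup G) : Set G) = Z :=
    Set.eq_of_subset_of_ncard_le hsub (hZc.trans hge)
  constructor
  · have h1 : ((quat hk8 hu huk : Subgroup G) : Set G).ncard ≤ 8 := by rw [heq]; exact hZc
    have h2 : Nat.card (quat hk8 hu huk) = ((quat hk8 hu huk : Subgroup G) : Set G).ncard := by
      rw [← Nat.card_coe_set_eq]; rfl
    omega
  · intro r
    rw [← SetLike.mem_coe, heq, hZ, Set.mem_union, Set.mem_insert_iff, Set.mem_singleton_iff, Set.mem_setOf_eq, or_assoc]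

omit [IsSimpleGroup G] in
theorem sum_filter_mem [Fintype G] (H : Subgroup G) [DecidablePred (· ∈ H)] (f : G → ℂ) :
    ∑ h : H, f h = ∑ g ∈ Finset.univ.filter (· ∈ H), f g :=
  (Finset.sum_subtype (Finset.univ.filter (· ∈ H)) (p := (· ∈ H)) (by intro x; simp) f).symm

/-- the value of `A` on elements of order 3 -/
theorem Tab.valA3 (h : Tab A B C D X E F H) (hG : Nat.card G = 7920) (P : Sylow 3 G) :
    (∀ z : G, orderOf z = 3 → (A : G → ℂ) z = 1) := by
  classical
  have := Fintype.ofFinite G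
  obtain ⟨hc18, hc3, hord⟩ := h.classes hG
  obtain ⟨hP, hz3, hcomm, hCN, -⟩ := sylow3 hG P
  obtain ⟨z, hzP, hz1⟩ : ∃ z ∈ (P : Subgroup G), z ≠ 1 := by
    by_contra hno
    push Not at hno
    have : (P : Subgroup G) = ⊥ := by rw [eq_bot_iff]; intro a ha; rw [mem_bot]; exact hno a ha
    rw [this, card_bot] at hP
    norm_num at hP
  have hzo := hz3 z hzP hz1
  have hz3' : z ^ 3 = 1 := by rw [← hzo]; exact pow_orderOf_eq_one z
  obtain ⟨c0, c1, h1, h2⟩ := rat_val (p := 3) A z hz3' (by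
    intro a ha
    apply hc3 z _ hzo
    have h3 : a % 3 ≠ 0 := by
      intro h4
      apply ha
      exact (ZMod.natCast_eq_zero_iff a 3).2 (Nat.dvd_of_mod_eq_zero h4)
    rw [orderOf_pow, hzo]
    have : Nat.gcd 3 a = 1 := by
      rw [Nat.gcd_rec]
      have : a % 3 = 1 ∨ a % 3 = 2 := by omega
      rcases this with h5 | h5 <;> rw [h5] <;> rfl
    rw [this])
  rw [h.dA] at h2
  have hall : ∀ y : G, orderOf y = 3 → (A : G → ℂ) y = ((c0 - c1 : ℤ) : ℂ) := by
    intro y hy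
    rw [← h1]
    obtain ⟨c, hc⟩ := isConj_iff.1 (hc3 z y hzo hy)
    rw [← hc, A.2.isClassFunction]
  obtain ⟨n, ρ, hρ, hρχ⟩ := A.2
  have hs := sum_subgroup ρ (P : Subgroup G)
  rw [hρχ] at hs
  have hs' : ∀ v : (P : Subgroup G), (A : G → ℂ) v = ((c0 - c1 : ℤ) : ℂ) + if v = 1 then (10 - ((c0 - c1 : ℤ) : ℂ)) else 0 := by
    intro v
    by_cases hv : v = 1
    · rw [if_pos hv, hv, OneMemClass.coe_one, apply_one, h.dA]; push_cast; ring
    · rw [if_neg hv, add_zero]
      exact hall _ (hz3 v v.2 (fun hk => hv (Subtype.ext hk)))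
  rw [Finset.sum_congr rfl fun v _ => hs' v, Finset.sum_add_distrib, Finset.sum_ite_eq', if_pos (Finset.mem_univ _), Finset.sum_const,
    Finset.card_univ, ← Nat.card_eq_fintype_card] at hs
  have hP' : Nat.card (P : Subgroup G) = 9 := hP
  rw [hP', nsmul_eq_mul] at hs
  have hs2 : 8 * ((c0 : ℤ) - c1) + 10 = 9 * (Module.finrank ℂ (Representation.invariants (ρ.comp (P : Subgroup G).subtype)) : ℤ) := by
    have : ((8 * ((c0 : ℤ) - c1) + 10 : ℤ) : ℂ) = ((9 * (Module.finrank ℂ (Representation.invariants (ρ.comp (P : Subgroup G).subtype)) : ℤ) : ℤ) : ℂ) := by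
      push_cast
      push_cast at hs
      rw [← hs]; ring
    exact_mod_cast this
  have hlt := norm_lt (notComm hG) h.ne_triv.1 hz1
  rw [h1, h.dA, Complex.norm_intCast] at hlt
  have hlt' : |(c0 : ℤ) - c1| < 10 := by exact_mod_cast hlt
  rw [abs_lt] at hlt'
  push_cast at h2
  intro y hy
  rw [hall y hy]
  have : (c0 : ℤ) - c1 = 1 := by omega
  rw [this, Int.cast_one]

end Cfsg.Agent.Lib.M11ByOrder
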