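import Mathlib
import Cfsg.Agent.Lib.M11J

/-!
# Simple groups of order 7920, part K: the subgroup of index 11 (helper7)
-/

set_option autoImplicit false

namespace Cfsg.Agent.Lib.M11ByOrder

open Subgroup Cfsg Cfsg.Agent.Lib.CharBasic Cfsg.Agent.Lib.ColTools Cfsg.Agent.Lib.SmallSimple
open scoped ComplexConjugate Pointwise

universe u

variable {G : Type u} [Group G] [Finite G] {A B C D X E F H : IrrCharacter G}

theorem dvd_ten (e : ℕ) (h : e ∣ 10) : e = 1 ∨ e = 2 ∨ e = 5 ∨ e = 10 := by
  have := Nat.le_of_dvd (by norm_num) h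
  interval_cases e <;> simp_all

variable [IsSimpleGroup G]

set_option maxHeartbeats 1000000 in
theorem Tab.exists_720 (h : Tab A B C D X E F H) (hG : Nat.card G = 7920) : ∃ K : Subgroup G, Nat.card K = 720 := by
  classical
  have := Fintype.ofFinite G
  have hna := notComm hG
  obtain ⟨g, hg⟩ := h.exists_four hG
  obtain ⟨k, hk, -⟩ := h.exists_eight hG hg
  obtain ⟨hCk2, hCk, u, hu2, hunk, huk⟩ := h.sd hG hk
  have hk8 : k ^ 8 = 1 := by rw [← hk]; exact pow_orderOf_eq_one k
  obtain ⟨hR8, hRm⟩ := h.quat_eq hG hk hk8 hu2 huk hunk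
  set R : Subgroup G := quat hk8 hu2 huk with hR
  set t : G := k ^ 4 with ht
  have hto : orderOf t = 2 := by rw [ht, orderOf_pow, hk]; decide
  have ht1 : t ≠ 1 := ne_one_of_order hto (by norm_num)
  have ht2 : t ^ 2 = 1 := by rw [← hto]; exact pow_orderOf_eq_one t
  have hC48 := (h.inv hG hto).2.2.2
  obtain ⟨hc18, hc3, hord⟩ := h.classes hG
  have hRn : ∀ c : G, c * t = t * c → ∀ r ∈ R, c * r * c⁻¹ ∈ R := by
    intro c hc r hr
    rw [hRm] at hr ⊢
    have hct : c * t * c⁻¹ = t := by rw [hc]; group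
    rcases hr with rfl | rfl | hr
    · left; group
    · right; left; exact hct
    · right; right; rw [conj_pow, hr, hct]
  have hRt : ∀ r ∈ R, r * t = t * r := by
    intro r hr
    rw [hRm] at hr
    rcases hr with rfl | rfl | hr
    · group
    · rfl
    · rw [← hr]; exact ((Commute.refl r).pow_right 2)
  have hRo4 : ∀ r : G, r ^ 2 = t → orderOf r = 4 := by
    intro r hr
    have h1 : r ^ (2 ^ 1) ≠ 1 := by rw [pow_one, hr]; exact ht1
    have h2 : r ^ (2 ^ (1 + 1)) = 1 := by
      have : (2 : ℕ) ^ (1 + 1) = 2 * 2 := by norm_num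
      rw [this, pow_mul, hr]; exact ht2
    have := orderOf_eq_prime_pow h1 h2
    rw [this]; norm_num
  have hR4 : ∀ r ∈ R, r ^ 4 = 1 := by
    intro r hr
    rw [hRm] at hr
    rcases hr with rfl | rfl | hr
    · exact one_pow 4
    · have : t ^ 4 = (t ^ 2) ^ 2 := pow_mul t 2 2
      rw [this, ht2, one_pow]
    · have : r ^ 4 = (r ^ 2) ^ 2 := pow_mul r 2 2
      rw [this, hr, ht2]
  -- values of `A` on elements of order 2 and 4
  have hA24 : ∀ x : G, x ^ 4 = 1 → x ≠ 1 → (A : G → ℂ) x = 2 := by
    intro x hx4 hx1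
    have h1 := orderOf_dvd_of_pow_eq_one hx4
    have h2 : orderOf x ≠ 1 := by rw [Ne, orderOf_eq_one_iff]; exact hx1
    have h3 := Nat.le_of_dvd (by norm_num) h1
    have h4 : orderOf x = 2 ∨ orderOf x = 4 := by
      have h5 : 0 < orderOf x := orderOf_pos x
      generalize orderOf x = m at *
      interval_cases m
      · exact absurd rfl h2
      · left; rfl
      · norm_num at h1
      · right; rfl
    rcases h4 with h4 | h4
    · exact h.tA x h4
    · exact (h.ord4 hG h4).1
  -- `R` acts fixed point freely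
  have hfpf : ∀ P : Sylow 3 G, (∀ r ∈ R, r ∈ normalizer ((P : Subgroup G) : Set G)) → ∀ z ∈ (P : Subgroup G), z ≠ 1 →
      ∀ r ∈ R, r ≠ 1 → r * z ≠ z * r := by
    intro P hRP z hz hz1
    obtain ⟨hP, hz3, hcomm, hCN, hc18'⟩ := sylow3 hG P
    have hzo := hz3 z hz hz1
    have hz3' : z ^ 3 = 1 := by rw [← hzo]; exact pow_orderOf_eq_one z
    have hno : t * z ≠ z * t := by
      intro htz
      have hW : Nat.card ((P : Subgroup G) ⊓ centralizer ({t} : Set G) : Subgroup G) = 3 := by
        have h1 : Nat.card ((P : Subgroup G) ⊓ centralizer ({t} : Set G) : Subgroup G) ∣ 9 := by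
          rw [← hP]; exact card_dvd_of_le inf_le_left
        have h2 : Nat.card ((P : Subgroup G) ⊓ centralizer ({t} : Set G) : Subgroup G) ∣ 48 := by
          rw [← hC48]; exact card_dvd_of_le inf_le_right
        have h3 := Nat.dvd_gcd h1 h2
        have h4 : Nat.gcd 9 48 = 3 := by decide
        rw [h4] at h3
        have h5 : 3 ∣ Nat.card ((P : Subgroup G) ⊓ centralizer ({t} : Set G) : Subgroup G) := by
          have h6 : zpowers z ≤ ((P : Subgroup G) ⊓ centralizer ({t} : Set G) : Subgroup G) := by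
            rw [zpowers_le]
            exact ⟨hz, mem_centralizer_singleton_iff.2 htz.symm⟩
          have h7 := card_dvd_of_le h6
          rwa [Nat.card_zpowers, hzo] at h7
        exact Nat.dvd_antisymm h3 h5
      have hWz : zpowers z = ((P : Subgroup G) ⊓ centralizer ({t} : Set G) : Subgroup G) := by
        apply eq_of_le_of_card_ge
        · rw [zpowers_le]
          exact ⟨hz, mem_centralizer_singleton_iff.2 htz.symm⟩
        · rw [hW, Nat.card_zpowers, hzo]
      have hinv : ∀ r ∈ R, orderOf r = 4 → r * z * r⁻¹ = z ^ 2 := by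
        intro r hr hro
        have h1 : r * z * r⁻¹ ∈ zpowers z := by
          rw [hWz]
          refine ⟨(mem_normalizer_iff.1 (hRP r hr) z).1 hz, mem_centralizer_singleton_iff.2 ?_⟩
          have e1 : Commute r t := hRt r hr
          have e2 : Commute z t := htz.symm
          exact (e1.mul_left e2).mul_left e1.inv_left
        obtain ⟨j, hj⟩ := mem_powers_iff_mem_zpowers.2 h1
        have hj' : z ^ j = r * z * r⁻¹ := hj
        have h2 : z ^ (j % 3) = r * z * r⁻¹ := by rw [← hj', ← hzo, pow_mod_orderOf]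
        have h3 : j % 3 < 3 := Nat.mod_lt _ (by norm_num)
        have h4 : j % 3 = 0 ∨ j % 3 = 1 ∨ j % 3 = 2 := by omega
        rcases h4 with h4 | h4 | h4
        · exfalso
          rw [h4, pow_zero] at h2
          apply hz1
          have h5 : z = r⁻¹ * (r * z * r⁻¹) * r := by group
          rw [h5, ← h2]; group
        · exfalso
          rw [h4, pow_one] at h2
          have h5 : r ∈ centralizer ({z} : Set G) := by
            rw [mem_centralizer_singleton_iff]
            calc r * z = (r * z * r⁻¹) * r := by group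
              _ = z * r := by rw [← h2]
          have h6 : orderOf r ∣ 18 := by
            rw [← hc18 z hzo, ← Subgroup.orderOf_mk r h5]
            exact orderOf_dvd_natCard _
          rw [hro] at h6
          norm_num at h6
        · rw [← h2, h4]
      have m1 : k ^ 2 ∈ R := ⟨1, Or.inl (by norm_num)⟩
      have m2 : u * k ^ 1 ∈ R := ⟨0, Or.inr (by norm_num)⟩
      have m3 : k ^ 2 * (u * k ^ 1) = u * k ^ 7 := by
        rw [← mul_assoc, kn_u hu2 huk, mul_assoc, ← pow_add]
      have o1 : orderOf (k ^ 2) = 4 := by rw [orderOf_pow, hk]; decide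
      have o2 : orderOf (u * k ^ 1) = 4 := hRo4 _ (by rw [sq, uk_uk hu2 huk])
      have o3 : orderOf (k ^ 2 * (u * k ^ 1)) = 4 := hRo4 _ (by
        rw [m3, sq, uk_uk hu2 huk]
        have : 3 * 7 + 7 = 8 * 3 + 4 := by norm_num
        rw [this, pow_add, pow_mul, hk8, one_pow, one_mul])
      have i1 := hinv _ m1 o1
      have i2 := hinv _ m2 o2
      have i3 := hinv _ (mul_mem m1 m2) o3
      have i4 : k ^ 2 * (u * k ^ 1) * z * (k ^ 2 * (u * k ^ 1))⁻¹ = z := by
        have e1 : k ^ 2 * (u * k ^ 1) * z * (k ^ 2 * (u * k ^ 1))⁻¹ = k ^ 2 * ((u * k ^ 1) * z * (u * k ^ 1)⁻¹) * (k ^ 2)⁻¹ := by group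
        rw [e1, i2, ← conj_pow, i1, ← pow_mul]
        have : 2 * 2 = 3 + 1 := by norm_num
        rw [this, pow_add, hz3', one_mul, pow_one]
      rw [i4] at i3
      apply hz1
      have e1 : z * z = z * 1 := by rw [mul_one, ← sq, ← i3]
      exact mul_left_cancel e1
    intro r hr hr1 hrz
    rw [hRm] at hr
    rcases hr with hr | hr | hr
    · exact hr1 hr
    · rw [hr] at hrz; exact hno hrz
    · apply hno
      rw [← hr]
      exact (show Commute r z from hrz).pow_left 2
  obtain ⟨n, ρ, hρ, hρχ⟩ := A.2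
  -- the fixed space of `R`
  have hdimR : Module.finrank ℂ (Representation.invariants (ρ.comp R.subtype)) = 3 := by
    have hs := sum_subgroup ρ R
    rw [hρχ] at hs
    have hs' : ∀ v : R, (A : G → ℂ) v = 2 + if v = 1 then 8 else 0 := by
      intro v
      by_cases hv : v = 1
      · rw [if_pos hv, hv, OneMemClass.coe_one, apply_one, h.dA]; push_cast; norm_num
      · rw [if_neg hv, add_zero]
        exact hA24 v (hR4 v v.2) (fun hk => hv (Subtype.ext hk))
    rw [Finset.sum_congr rfl fun v _ => hs' v, Finset.sum_add_distrib, Finset.sum_ite_eq', if_pos (Finset.mem_univ _), Finset.sum_const,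
      Finset.card_univ, ← Nat.card_eq_fintype_card, hR8, nsmul_eq_mul] at hs
    have : (((24 : ℕ) : ℕ) : ℂ) = ((8 * Module.finrank ℂ (Representation.invariants (ρ.comp R.subtype)) : ℕ) : ℂ) := by
      push_cast
      push_cast at hs
      rw [← hs]; norm_num
    have : 24 = 8 * Module.finrank ℂ (Representation.invariants (ρ.comp R.subtype)) := by exact_mod_cast this
    omega
  -- the fixed space of `P R`
  have hdimPR : ∀ P : Sylow 3 G, (∀ r ∈ R, r ∈ normalizer ((P : Subgroup G) : Set G)) →
      Nat.card ((P : Subgroup G) ⊔ R : Subgroup G) = 72 ∧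
      Module.finrank ℂ (Representation.invariants (ρ.comp ((P : Subgroup G) ⊔ R : Subgroup G).subtype)) = 2 := by
    intro P hRP
    obtain ⟨hP, hz3, hcomm, hCN, -⟩ := sylow3 hG P
    have hle : R ≤ normalizer ((P : Subgroup G) : Set G) := hRP
    have hinf : (P : Subgroup G) ⊓ R = ⊥ := by
      have : Nat.card ((P : Subgroup G) ⊓ R : Subgroup G) = 1 := by
        have h1 : Nat.card ((P : Subgroup G) ⊓ R : Subgroup G) ∣ 9 := by rw [← hP]; exact card_dvd_of_le inf_le_left
        have h2 : Nat.card ((P : Subgroup G) ⊓ R : Subgroup G) ∣ 8 := by rw [← hR8]; exact card_dvd_of_le inf_le_right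
        have h3 := Nat.dvd_gcd h1 h2
        have h4 : Nat.gcd 9 8 = 1 := by decide
        rw [h4] at h3
        exact Nat.dvd_one.1 h3
      exact card_eq_one.1 this
    have hcard : Nat.card ((P : Subgroup G) ⊔ R : Subgroup G) = 72 := by
      have h1 := ConjSylow.card_sup_mul_card_inf hle
      rw [inf_comm, hinf, card_bot, mul_one, sup_comm, hR8, hP] at h1
      exact h1
    refine ⟨hcard, ?_⟩
    set K : Subgroup G := (P : Subgroup G) ⊔ R with hK
    have hPK : (P : Subgroup G) ≤ K := le_sup_left
    have hout : ∀ x ∈ K, x ∉ (P : Subgroup G) → x ^ 4 = 1 := by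
      intro x hx hxP
      obtain ⟨a, ha, b, hb, rfl⟩ := (ConjSylow.mem_sup_of_le_normalizer' hle).1 hx
      have hb1 : b ≠ 1 := by rintro rfl; exact hxP (by rw [mul_one]; exact ha)
      have hpow : ∀ m : ℕ, (a * b) ^ m * (b ^ m)⁻¹ ∈ (P : Subgroup G) := by
        intro m
        induction m with
        | zero => simp
        | succ m ih =>
          have e1 : (a * b) ^ (m + 1) * (b ^ (m + 1))⁻¹ = ((a * b) ^ m * (b ^ m)⁻¹) * (b ^ m * a * (b ^ m)⁻¹) := by
            rw [pow_succ, pow_succ]; group
          rw [e1]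
          exact mul_mem ih ((mem_normalizer_iff.1 (hle (pow_mem hb m)) a).1 ha)
      have h4 : (a * b) ^ 4 ∈ (P : Subgroup G) := by
        have := hpow 4
        rwa [hR4 b hb, inv_one, mul_one] at this
      by_contra h5
      apply hfpf P hRP _ h4 h5 b hb hb1
      have e1 : Commute (a * b) ((a * b) ^ 4) := (Commute.refl _).pow_right 4
      have e2 : Commute a ((a * b) ^ 4) := hcomm a ha _ h4
      have e3 : Commute (a⁻¹ * (a * b)) ((a * b) ^ 4) := e2.inv_left.mul_left e1
      rwa [inv_mul_cancel_left] at e3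
    have hs := sum_subgroup ρ K
    rw [hρχ] at hs
    have hs' : ∀ v : K, (A : G → ℂ) v = (2 + if v ∈ ((P : Subgroup G).subgroupOf K) then (-1 : ℂ) else 0) + if v = 1 then 9 else 0 := by
      intro v
      by_cases hv : v = 1
      · rw [if_pos hv, hv, OneMemClass.coe_one, apply_one, h.dA, if_pos (one_mem _)]; push_cast; norm_num
      · have hv' : (v : G) ≠ 1 := fun hk => hv (Subtype.ext hk)
        rw [if_neg hv, add_zero]
        by_cases hvP : v ∈ ((P : Subgroup G).subgroupOf K)
        · rw [if_pos hvP, h.valA3 hG P _ (hz3 v (mem_subgroupOf.1 hvP) hv')]; norm_num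
        · rw [if_neg hvP, add_zero]
          exact hA24 v (hout v v.2 (fun hk => hvP (mem_subgroupOf.2 hk))) hv'
    rw [Finset.sum_congr rfl fun v _ => hs' v, Finset.sum_add_distrib, Finset.sum_add_distrib, Finset.sum_ite_eq', if_pos (Finset.mem_univ _), Finset.sum_const,
      Finset.card_univ, ← Nat.card_eq_fintype_card, hcard, nsmul_eq_mul, ← Finset.sum_filter, Finset.sum_const] at hs
    have hPc : (Finset.univ.filter (fun v : K => v ∈ ((P : Subgroup G).subgroupOf K))).card = 9 := by
      rw [← hP, ← Fintype.card_subtype, ← Nat.card_eq_fintype_card]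
      exact Nat.card_congr (subgroupOfEquivOfLe hPK).toEquiv
    rw [hPc, nsmul_eq_mul] at hs
    have : (((144 : ℕ) : ℕ) : ℂ) = ((72 * Module.finrank ℂ (Representation.invariants (ρ.comp K.subtype)) : ℕ) : ℂ) := by
      push_cast
      push_cast at hs
      rw [← hs]; norm_num
    have : 144 = 72 * Module.finrank ℂ (Representation.invariants (ρ.comp K.subtype)) := by exact_mod_cast this
    omega
  -- conjugating
  have hconjN : ∀ (P : Sylow 3 G) (c r : G), c⁻¹ * r * c ∈ normalizer ((P : Subgroup G) : Set G) →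
      r ∈ normalizer (((c • P : Sylow 3 G) : Subgroup G) : Set G) := by
    intro P c r h3
    have h4 : (c⁻¹ * r * c) • P = P := Sylow.smul_eq_iff_mem_normalizer.2 h3
    apply Sylow.smul_eq_iff_mem_normalizer.1
    calc r • c • P = c • ((c⁻¹ * r * c) • P) := by rw [← mul_smul, ← mul_smul]; congr 1; group
      _ = c • P := by rw [h4]
  -- a Sylow 3-subgroup normalized by `R`
  obtain ⟨P1, hP1⟩ : ∃ P : Sylow 3 G, ∀ r ∈ R, r ∈ normalizer ((P : Subgroup G) : Set G) := by
    obtain ⟨P⟩ : Nonempty (Sylow 3 G) := inferInstance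
    have hN := card_normalizer_three hG P
    have : Fact (Nat.Prime 2) := ⟨Nat.prime_two⟩
    obtain ⟨K, hK⟩ := Sylow.exists_subgroup_card_pow_prime (G := normalizer ((P : Subgroup G) : Set G)) 2 (n := 4)
      (by rw [hN]; norm_num)
    set T := K.map (normalizer ((P : Subgroup G) : Set G)).subtype with hT
    have hTc : Nat.card T = 16 := by
      rw [hT, Nat.card_congr (K.equivMapOfInjective _ (subtype_injective _)).symm.toEquiv, hK]
      norm_num
    have hTle : T ≤ normalizer ((P : Subgroup G) : Set G) := map_subtype_le K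
    have hTp : IsPGroup 2 T := IsPGroup.of_card (n := 4) (by rw [hTc]; norm_num)
    obtain ⟨Q', hQ'⟩ := hTp.exists_le_sylow
    have hQc : ∀ Q : Sylow 2 G, Nat.card (Q : Subgroup G) = 16 := fun Q => by
      have := sylow_card_of (G := G) (p := 2) (k := 4) (m := 495) (by rw [hG]; norm_num) (by norm_num) Q
      simpa using this
    have hQT : (Q' : Subgroup G) = T := (eq_of_le_of_card_ge hQ' (by rw [hQc, hTc])).symm
    have hRp : IsPGroup 2 R := IsPGroup.of_card (n := 3) (by rw [hR8]; norm_num)
    obtain ⟨Q, hQ⟩ := hRp.exists_le_sylow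
    obtain ⟨c, hc⟩ := MulAction.exists_smul_eq G Q' Q
    refine ⟨c • P, fun r hr => hconjN P c r ?_⟩
    have h1 : r ∈ (c • Q' : Sylow 2 G) := by rw [hc]; exact hQ hr
    have h2 : c⁻¹ * r * c ∈ (Q' : Subgroup G) := by
      have h4 : r ∈ (MulAut.conj c • (Q' : Subgroup G)) := h1
      rw [Subgroup.mem_pointwise_smul_iff_inv_smul_mem, ← map_inv, MulAut.smul_def, MulAut.conj_apply, inv_inv] at h4
      exact h4
    exact hTle (by rw [← hQT]; exact h2)
  obtain ⟨c, hct, hcN⟩ : ∃ c : G, c * t = t * c ∧ c ∉ normalizer ((P1 : Subgroup G) : Set G) := by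
    by_contra hno
    push Not at hno
    obtain ⟨z, hz⟩ := exists_prime_orderOf_dvd_card' (G := centralizer ({t} : Set G)) 3 (by rw [hC48]; norm_num)
    have hzo : orderOf (z : G) = 3 := by rw [Subgroup.orderOf_coe, hz]
    have hzt := mem_centralizer_singleton_iff.1 z.2
    have hzN := hno z hzt
    have hzP : (z : G) ∈ (P1 : Subgroup G) := by
      have hp : IsPGroup 3 (zpowers (z : G)) := IsPGroup.of_card (n := 1) (by rw [Nat.card_zpowers, hzo]; norm_num)
      have h1 := hp.inf_normalizer_sylow P1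
      have h2 : (z : G) ∈ zpowers (z : G) ⊓ normalizer (P1 : Set G) := ⟨mem_zpowers _, hzN⟩
      rw [h1] at h2
      exact h2.2
    exact hfpf P1 hP1 z hzP (ne_one_of_order hzo (by norm_num)) t ((hRm t).2 (Or.inr (Or.inl rfl))) ht1 hzt.symm
  have hP2 : ∀ r ∈ R, r ∈ normalizer (((c • P1 : Sylow 3 G) : Subgroup G) : Set G) := by
    intro r hr
    apply hconjN P1 c r
    apply hP1
    have h1 : c⁻¹ * t = t * c⁻¹ := by
      have : Commute c t := hct
      exact this.inv_left
    have h2 := hRn c⁻¹ h1 r hr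
    rwa [inv_inv] at h2
  have hP12 : c • P1 ≠ P1 := by
    intro h1
    exact hcN (Sylow.smul_eq_iff_mem_normalizer.1 h1)
  set P2 : Sylow 3 G := c • P1 with hP2d
  obtain ⟨hK1c, hK1⟩ := hdimPR P1 hP1
  obtain ⟨hK2c, hK2⟩ := hdimPR P2 hP2
  have hmono : ∀ K L : Subgroup G, K ≤ L → Representation.invariants (ρ.comp L.subtype) ≤ Representation.invariants (ρ.comp K.subtype) := by
    intro K L hKL v hv
    rw [Representation.mem_invariants] at hv ⊢
    intro x
    exact hv ⟨x, hKL x.2⟩
  set V1 := Representation.invariants (ρ.comp ((P1 : Subgroup G) ⊔ R : Subgroup G).subtype) with hV1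
  set V2 := Representation.invariants (ρ.comp ((P2 : Subgroup G) ⊔ R : Subgroup G).subtype) with hV2
  obtain ⟨v, hv, hv0⟩ : ∃ v ∈ V1 ⊓ V2, v ≠ 0 := by
    apply Submodule.exists_mem_ne_zero_of_ne_bot
    intro hbot
    have h1 := Submodule.finrank_sup_add_finrank_inf_eq V1 V2
    rw [hbot, finrank_bot, hK1, hK2] at h1
    have h2 : V1 ⊔ V2 ≤ Representation.invariants (ρ.comp R.subtype) :=
      sup_le (hmono _ _ le_sup_right) (hmono _ _ le_sup_right)
    have h3 := Submodule.finrank_mono h2
    rw [hdimR] at h3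
    omega
  set S : Subgroup G :=
    { carrier := {g | ρ g v = v}
      one_mem' := by show ρ 1 v = v; rw [map_one]; rfl
      mul_mem' := by
        intro a b ha hb
        show ρ (a * b) v = v
        rw [map_mul]
        show ρ a (ρ b v) = v
        rw [show ρ b v = v from hb, show ρ a v = v from ha]
      inv_mem' := by
        intro a ha
        show ρ a⁻¹ v = v
        have h1 : ρ a v = v := ha
        conv_lhs => rw [← h1]
        show (ρ a⁻¹ * ρ a) v = v
        rw [← map_mul, inv_mul_cancel, map_one]; rfl } with hS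
  have hSm : ∀ g, g ∈ S ↔ ρ g v = v := fun g => Iff.rfl
  have hKS : ∀ K : Subgroup G, v ∈ Representation.invariants (ρ.comp K.subtype) → K ≤ S := by
    intro K hvK x hx
    rw [hSm]
    exact (Representation.mem_invariants _ _).1 hvK ⟨x, hx⟩
  have hSK : ∀ K : Subgroup G, K ≤ S → v ∈ Representation.invariants (ρ.comp K.subtype) := by
    intro K hK
    rw [Representation.mem_invariants]
    intro x
    exact hK x.2
  have hKS1 := hKS _ hv.1
  have hKS2 := hKS _ hv.2
  have hP1S : (P1 : Subgroup G) ≤ S := le_trans le_sup_left hKS1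
  have hP2S : (P2 : Subgroup G) ≤ S := le_trans le_sup_left hKS2
  -- `11` does not divide `|S|`
  have h11 : ¬ 11 ∣ Nat.card S := by
    intro h11
    obtain ⟨x, hx⟩ := exists_prime_orderOf_dvd_card' (G := S) 11 h11
    have hxo : orderOf (x : G) = 11 := by rw [Subgroup.orderOf_coe, hx]
    have h1 : zpowers (x : G) ≤ S := by rw [zpowers_le]; exact x.2
    have h2 := hSK _ h1
    have hs := sum_subgroup ρ (zpowers (x : G))
    rw [hρχ] at hs
    have hs' : ∀ w : zpowers (x : G), (A : G → ℂ) w = -1 + if w = 1 then 11 else 0 := by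
      intro w
      by_cases hw : w = 1
      · rw [if_pos hw, hw, OneMemClass.coe_one, apply_one, h.dA]; push_cast; norm_num
      · rw [if_neg hw, add_zero]
        apply h.vA
        have h3 : orderOf (w : G) ∣ 11 := by
          have h4 := orderOf_dvd_natCard w
          rw [Nat.card_zpowers, hxo, ← Subgroup.orderOf_coe] at h4
          exact h4
        rcases (Nat.dvd_prime (by norm_num : Nat.Prime 11)).1 h3 with h4 | h4
        · exact absurd (Subtype.ext (orderOf_eq_one_iff.1 h4)) hw
        · exact h4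
    rw [Finset.sum_congr rfl fun v _ => hs' v, Finset.sum_add_distrib, Finset.sum_ite_eq', if_pos (Finset.mem_univ _), Finset.sum_const,
      Finset.card_univ, ← Nat.card_eq_fintype_card, Nat.card_zpowers, hxo, nsmul_eq_mul] at hs
    have h3 : (((11 * Module.finrank ℂ (Representation.invariants (ρ.comp (zpowers (x : G)).subtype)) : ℕ) : ℕ) : ℂ) = ((0 : ℕ) : ℂ) := by
      push_cast
      push_cast at hs
      rw [← hs]; norm_num
    have h4 : 11 * Module.finrank ℂ (Representation.invariants (ρ.comp (zpowers (x : G)).subtype)) = 0 := by exact_mod_cast h3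
    have h5 : Module.finrank ℂ (Representation.invariants (ρ.comp (zpowers (x : G)).subtype)) = 0 := by omega
    have h6 := Submodule.finrank_eq_zero.1 h5
    rw [h6, Submodule.mem_bot] at h2
    exact hv0 h2
  -- the order
  have hd : Nat.card S ∣ 7920 := by rw [← hG]; exact card_subgroup_dvd_card S
  have h72 : 72 ∣ Nat.card S := by rw [← hK1c]; exact card_dvd_of_le hKS1
  obtain ⟨e, he⟩ := h72
  have he110 : e ∣ 110 := by
    rw [he] at hd
    exact Nat.dvd_of_mul_dvd_mul_left (by norm_num : 0 < 72) (by norm_num; exact hd)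
  have he11 : ¬ 11 ∣ e := fun h1 => h11 (by rw [he]; exact Dvd.dvd.mul_left h1 72)
  have he10 : e ∣ 10 := by
    have : Nat.Coprime e 11 := (Nat.coprime_comm.1 ((Nat.Prime.coprime_iff_not_dvd (by norm_num)).2 he11))
    exact this.dvd_of_dvd_mul_right (by norm_num; exact he110)
  -- Sylow counting in `S`
  have hcount := card_normalizer_mul_nsyl (P1.subtype hP1S)
  have hmod := nsyl_mod 3 S
  have hge2 : 2 ≤ Nat.card (Sylow 3 S) := by
    by_contra hlt
    push Not at hlt
    have : Nat.card (Sylow 3 S) = 1 := by omega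
    have h1 := (Nat.card_eq_one_iff_unique.1 this).1
    exact hP12 (Sylow.subtype_injective (h1.elim (P2.subtype hP2S) (P1.subtype hP1S)))
  have hN1 : Nat.card (normalizer (((P1.subtype hP1S : Sylow 3 S) : Subgroup S) : Set S)) =
      Nat.card ((normalizer ((P1 : Subgroup G) : Set G)) ⊓ S : Subgroup G) := by
    have h1 : (normalizer (((P1.subtype hP1S : Sylow 3 S) : Subgroup S) : Set S)) =
        (normalizer ((P1 : Subgroup G) : Set G)).subgroupOf S := by
      rw [Sylow.coe_subtype]
      exact (subgroupOf_normalizer_eq hP1S).symm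
    rw [h1, ← Subgroup.inf_subgroupOf_right]
    exact Nat.card_congr (subgroupOfEquivOfLe inf_le_right).toEquiv
  have hN144 : Nat.card ((normalizer ((P1 : Subgroup G) : Set G)) ⊓ S : Subgroup G) ∣ 144 := by
    rw [← card_normalizer_three hG P1]
    exact card_dvd_of_le inf_le_left
  have hN72 : 72 ∣ Nat.card ((normalizer ((P1 : Subgroup G) : Set G)) ⊓ S : Subgroup G) := by
    rw [← hK1c]
    apply card_dvd_of_le
    exact le_inf (sup_le le_normalizer hP1) hKS1
  rw [hN1, he] at hcount
  obtain ⟨m, hm⟩ := hN72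
  rw [hm] at hcount hN144
  have hm2 : m ∣ 2 := Nat.dvd_of_mul_dvd_mul_left (by norm_num : 0 < 72) (by norm_num; exact hN144)
  have hem : m * Nat.card (Sylow 3 S) = e := by
    have : 72 * (m * Nat.card (Sylow 3 S)) = 72 * e := by rw [← hcount]; ring
    exact Nat.eq_of_mul_eq_mul_left (by norm_num) this
  refine ⟨S, ?_⟩
  rw [he]
  have hm' : m = 1 ∨ m = 2 := by
    have := Nat.le_of_dvd (by norm_num) hm2
    have hm0 : m ≠ 0 := by rintro rfl; norm_num at hm2
    omega
  have he' : e = 1 ∨ e = 2 ∨ e = 5 ∨ e = 10 := dvd_ten e he10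
  rcases hm' with rfl | rfl <;> rcases he' with rfl | rfl | rfl | rfl <;> omega

/-- a simple group of order 7920 has a subgroup of index 11 -/
theorem exists_720 (hG : Nat.card G = 7920) : ∃ K : Subgroup G, Nat.card K = 720 := by
  obtain ⟨A, B, C, D, X, E, F, H, h⟩ := exists_tab hG
  exact h.exists_720 hG

end Cfsg.Agent.Lib.M11ByOrder
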