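import Mathlib
import Cfsg.Agent.Lib.M11K

/-!
# Simple groups of order 7920, part L: actions on 11 points (helper7)
-/

set_option autoImplicit false

namespace Cfsg.Agent.Lib.M11ByOrder

open Subgroup Cfsg Cfsg.Agent.Lib.CharBasic Cfsg.Agent.Lib.ColTools Cfsg.Agent.Lib.SmallSimple
open scoped ComplexConjugate Pointwise

universe u v

variable {G : Type u} [Group G] [Finite G] {A B C D X E F H : IrrCharacter G}

omit [Finite G] in
theorem classInner_perm_triv [Fintype G] {Ω : Type v} [Finite Ω] [MulAction G Ω] [MulAction.IsPretransitive G Ω] [Nonempty Ω] :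
    classInner (fun g => (Nat.card (MulAction.fixedBy Ω g) : ℂ)) (1 : G → ℂ) = 1 := by
  classical
  have := Fintype.ofFinite Ω
  rw [classInner_def]
  have h1 := MulAction.sum_card_fixedBy_eq_card_orbits_mul_card_group G Ω
  have h2 : Fintype.card (Quotient (MulAction.orbitRel G Ω)) = 1 := by
    rw [Fintype.card_eq_one_iff_nonempty_unique]
    have hs : Subsingleton (Quotient (MulAction.orbitRel G Ω)) :=
      MulAction.pretransitive_iff_subsingleton_quotient G Ω |>.1 inferInstance
    obtain ⟨ω⟩ := (inferInstance : Nonempty Ω)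
    exact ⟨⟨⟨Quotient.mk _ ω⟩, fun a => Subsingleton.elim _ _⟩⟩
  rw [h2, one_mul] at h1
  have h3 : ∑ g : G, (Nat.card (MulAction.fixedBy Ω g) : ℂ) * conj ((1 : G → ℂ) g) = (Nat.card G : ℂ) := by
    rw [Nat.card_eq_fintype_card, ← h1]
    push_cast
    refine Finset.sum_congr rfl fun g _ => ?_
    rw [Nat.card_eq_fintype_card]
    simp
  rw [h3]
  exact inv_mul_cancel₀ (by exact_mod_cast Nat.card_pos.ne')

variable [IsSimpleGroup G]

/-- the permutation character of degree 11 -/
theorem Tab.perm (h : Tab A B C D X E F H) (hG : Nat.card G = 7920) (Ω : Type v) [Finite Ω] [MulAction G Ω]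
    [MulAction.IsPretransitive G Ω] (hΩ : Nat.card Ω = 11) (g : G) :
    (Nat.card (MulAction.fixedBy Ω g) : ℂ) = 1 + (A : G → ℂ) g := by
  classical
  have := Fintype.ofFinite G
  have : Nonempty Ω := by
    by_contra hno
    rw [not_nonempty_iff] at hno
    rw [Nat.card_of_isEmpty] at hΩ
    norm_num at hΩ
  obtain ⟨c, hc1, hc2⟩ := (isCharacter_perm (G := G) (X := Ω)).exists_coeff
  have h1 : c (triv G) = 1 := by
    have h2 := hc1 (triv G)
    have h3 : ((triv G : IrrCharacter G) : G → ℂ) = (1 : G → ℂ) := rfl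
    rw [h3, classInner_perm_triv] at h2
    exact_mod_cast h2.symm
  have hval : ∀ x : G, (Nat.card (MulAction.fixedBy Ω x) : ℂ) = 1 + (c A * (A : G → ℂ) x + (c B * (B : G → ℂ) x + (c C * (C : G → ℂ) x +
      (c D * (D : G → ℂ) x + (c X * (X : G → ℂ) x + (c (cc X) * (cc X : G → ℂ) x + (c E * (E : G → ℂ) x + (c F * (F : G → ℂ) x +
        (c H * (H : G → ℂ) x + 0))))))))) := by
    intro x
    have h2 := congrFun hc2 x
    rw [Finset.sum_apply, h.sum] at h2
    simp only [Pi.smul_apply, smul_eq_mul, h1, triv_apply] at h2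
    rw [h2]; push_cast; ring
  have hone := hval 1
  have hfix1 : Nat.card (MulAction.fixedBy Ω (1 : G)) = 11 := by
    have : MulAction.fixedBy Ω (1 : G) = Set.univ := by ext x; simp
    rw [this, Nat.card_congr (Equiv.Set.univ Ω), hΩ]
  rw [hfix1] at hone
  simp only [apply_one, h.dA, h.dB, h.dC, h.dD, h.dX, h.dE, h.dF, h.dH, deg_cc] at hone
  have hone' : 11 = 1 + (c A * 10 + (c B * 10 + (c C * 10 + (c D * 45 + (c X * 16 + (c (cc X) * 16 + (c E * 11 + (c F * 44 +
        (c H * 55 + 0))))))))) := by exact_mod_cast hone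
  obtain ⟨t, ht⟩ := exists_prime_orderOf_dvd_card' (G := G) 2 (by rw [hG]; norm_num)
  have c1 : c D = 0 := by omega
  have c2 : c X = 0 := by omega
  have c3 : c (cc X) = 0 := by omega
  have c4 : c E = 0 := by omega
  have c5 : c F = 0 := by omega
  have c6 : c H = 0 := by omega
  have htv := hval t
  rw [c1, c2, c3, c4, c5, c6, h.tA t ht, h.tB t ht, h.tC t ht] at htv
  have htv' : (Nat.card (MulAction.fixedBy Ω t) : ℤ) = 1 + (c A * 2 + (c B * (-2) + c C * (-2))) := by
    have : (((Nat.card (MulAction.fixedBy Ω t) : ℤ)) : ℂ) = ((1 + (c A * 2 + (c B * (-2) + c C * (-2))) : ℤ) : ℂ) := by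
      push_cast
      rw [htv]; push_cast; ring
    exact_mod_cast this
  have a1 : c A = 1 := by omega
  have a2 : c B = 0 := by omega
  have a3 : c C = 0 := by omega
  rw [hval g, c1, c2, c3, c4, c5, c6, a1, a2, a3]
  push_cast; ring

/-- fixed points in a transitive action on 11 points -/
theorem perm11 (hG : Nat.card G = 7920) (Ω : Type v) [Finite Ω] [MulAction G Ω]
    [MulAction.IsPretransitive G Ω] (hΩ : Nat.card Ω = 11) :
    (∀ g : G, orderOf g = 2 → Nat.card (MulAction.fixedBy Ω g) = 3) ∧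
    (∀ g : G, orderOf g = 3 → Nat.card (MulAction.fixedBy Ω g) = 2) ∧
    (∀ g : G, g ≠ 1 → Nat.card (MulAction.fixedBy Ω g) ≤ 3) := by
  obtain ⟨A, B, C, D, X, E, F, H, h⟩ := exists_tab hG
  have hp := h.perm hG Ω hΩ
  have h2 : ∀ g : G, orderOf g = 2 → Nat.card (MulAction.fixedBy Ω g) = 3 := by
    intro g hg
    have := hp g
    rw [h.tA g hg] at this
    have h3 : (Nat.card (MulAction.fixedBy Ω g) : ℂ) = ((3 : ℕ) : ℂ) := by rw [this]; norm_num
    exact_mod_cast h3
  obtain ⟨P⟩ : Nonempty (Sylow 3 G) := inferInstance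
  have h3 : ∀ g : G, orderOf g = 3 → Nat.card (MulAction.fixedBy Ω g) = 2 := by
    intro g hg
    have := hp g
    rw [h.valA3 hG P g hg] at this
    have h3 : (Nat.card (MulAction.fixedBy Ω g) : ℂ) = ((2 : ℕ) : ℂ) := by rw [this]; norm_num
    exact_mod_cast h3
  have h5 : ∀ g : G, orderOf g = 5 → Nat.card (MulAction.fixedBy Ω g) = 1 := by
    intro g hg
    have := hp g
    rw [h.vA5 g hg] at this
    have h3 : (Nat.card (MulAction.fixedBy Ω g) : ℂ) = ((1 : ℕ) : ℂ) := by rw [this]; norm_num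
    exact_mod_cast h3
  have h11 : ∀ g : G, orderOf g = 11 → Nat.card (MulAction.fixedBy Ω g) = 0 := by
    intro g hg
    have := hp g
    rw [h.vA g hg] at this
    have h3 : (Nat.card (MulAction.fixedBy Ω g) : ℂ) = ((0 : ℕ) : ℂ) := by rw [this]; norm_num
    exact_mod_cast h3
  refine ⟨h2, h3, fun g hg => ?_⟩
  -- take a power of prime order
  have hne : orderOf g ≠ 1 := by rw [Ne, orderOf_eq_one_iff]; exact hg
  obtain ⟨p, hp, hpd⟩ := Nat.exists_prime_and_dvd hne
  have hpG : p ∣ 7920 := by rw [← hG]; exact hpd.trans (orderOf_dvd_natCard g)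
  have hp4 : p = 2 ∨ p = 3 ∨ p = 5 ∨ p = 11 := by
    have h7 : (7920 : ℕ) = 2 ^ 4 * 3 ^ 2 * 5 * 11 := by norm_num
    rw [h7] at hpG
    rcases (Nat.Prime.dvd_mul hp).1 hpG with h8 | h8
    · rcases (Nat.Prime.dvd_mul hp).1 h8 with h9 | h9
      · rcases (Nat.Prime.dvd_mul hp).1 h9 with h10 | h10
        · left; exact (Nat.prime_dvd_prime_iff_eq hp Nat.prime_two).1 (hp.dvd_of_dvd_pow h10)
        · right; left; exact (Nat.prime_dvd_prime_iff_eq hp (by norm_num)).1 (hp.dvd_of_dvd_pow h10)
      · right; right; left; exact (Nat.prime_dvd_prime_iff_eq hp (by norm_num)).1 h9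
    · right; right; right; exact (Nat.prime_dvd_prime_iff_eq hp (by norm_num)).1 h8
  set y : G := g ^ (orderOf g / p) with hy
  have hyo : orderOf y = p := by
    rw [hy]
    exact orderOf_pow_orderOf_div (orderOf_pos g).ne' hpd
  have hle : Nat.card (MulAction.fixedBy Ω g) ≤ Nat.card (MulAction.fixedBy Ω y) := by
    apply Nat.card_mono (Set.toFinite _)
    intro ω hω
    rw [MulAction.mem_fixedBy] at hω ⊢
    rw [hy]
    generalize orderOf g / p = m
    induction m with
    | zero => rw [pow_zero, one_smul]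
    | succ m ih => rw [pow_succ, mul_smul, hω, ih]
  rcases hp4 with rfl | rfl | rfl | rfl
  · rw [h2 y hyo] at hle; exact hle
  · rw [h3 y hyo] at hle; omega
  · rw [h5 y hyo] at hle; omega
  · rw [h11 y hyo] at hle; omega

/-- the number of involutions -/
theorem card_inv (hG : Nat.card G = 7920) : Nat.card {t : G // orderOf t = 2} = 165 := by
  obtain ⟨A, B, C, D, X, E, F, H, h⟩ := exists_tab hG
  obtain ⟨t, ht⟩ := exists_prime_orderOf_dvd_card' (G := G) 2 (by rw [hG]; norm_num)
  have h1 := CharBasic.card_isConj_mul_card_centralizer t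
  rw [(h.inv hG ht).2.2.2, hG] at h1
  have h2 : Nat.card {x : G // IsConj t x} = Nat.card {t : G // orderOf t = 2} := by
    apply Nat.card_congr
    apply Equiv.subtypeEquivRight
    intro x
    constructor
    · intro hx; rw [← isConj_order hx, ht]
    · intro hx; exact h.conj_two hG ht hx
  omega

end Cfsg.Agent.Lib.M11ByOrder
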