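import Mathlib
import Cfsg.Agent.Lib.SteinerTransport
import Cfsg.Agent.Lib.S4511

/-!
# Sharply 4-transitive actions on 11 points preserve a Steiner system S(4,5,11) (helper7)
-/

set_option autoImplicit false

namespace Cfsg.Agent.Lib.SharpFour

open scoped Pointwise

universe u v

/-- the fixed points as a finset -/
def fx {G : Type u} {Ω : Type v} [Group G] [MulAction G Ω] [Fintype Ω] [DecidableEq Ω] (g : G) : Finset Ω :=
  Finset.univ.filter (fun p => g • p = p)

variable {G : Type u} {Ω : Type v} [Group G] [MulAction G Ω] [Fintype Ω] [DecidableEq Ω]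

theorem mem_fx {g : G} {p : Ω} : p ∈ fx g ↔ g • p = p := by simp [fx]

theorem card_fx (g : G) : (fx (Ω := Ω) g).card = Nat.card (MulAction.fixedBy Ω g) := by
  rw [fx, ← Fintype.card_subtype, Nat.card_eq_fintype_card]
  rfl

/-- the standing hypotheses -/
structure Hyp (G : Type u) (Ω : Type v) [Group G] [MulAction G Ω] [Fintype Ω] [DecidableEq Ω] : Prop where
  fin : Finite G
  cardG : Nat.card G = 7920
  cardΩ : Fintype.card Ω = 11
  le3 : ∀ g : G, g ≠ 1 → (fx (Ω := Ω) g).card ≤ 3
  two : ∀ g : G, orderOf g = 2 → (fx (Ω := Ω) g).card = 3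
  three : ∀ g : G, orderOf g = 3 → (fx (Ω := Ω) g).card = 2
  inv : Nat.card {t : G // orderOf t = 2} = 165

variable (h : Hyp G Ω)

include h

theorem Hyp.eq_of_four (x : Fin 4 ↪ Ω) {g g' : G} (hgg : ∀ i, g • x i = g' • x i) : g = g' := by
  by_contra hne
  have h1 : g'⁻¹ * g ≠ 1 := fun h2 => hne (inv_mul_eq_one.1 h2).symm
  have h2 := h.le3 _ h1
  have h3 : (Finset.univ.map x) ⊆ fx (g'⁻¹ * g) := by
    intro p hp
    rw [Finset.mem_map] at hp
    obtain ⟨i, -, rfl⟩ := hp
    rw [mem_fx, mul_smul, hgg i, inv_smul_smul]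
  have h4 := Finset.card_le_card h3
  rw [Finset.card_map, Finset.card_univ, Fintype.card_fin] at h4
  omega

theorem Hyp.exists_four (x y : Fin 4 ↪ Ω) : ∃ g : G, ∀ i, g • x i = y i := by
  classical
  have := h.fin
  have := Fintype.ofFinite G
  let f : G → (Fin 4 ↪ Ω) := fun g => ⟨fun i => g • x i, fun i j hij => x.injective (MulAction.injective g hij)⟩
  have hf : Function.Injective f := by
    intro g g' hgg
    apply h.eq_of_four x
    intro i
    exact congrFun (congrArg (fun e : Fin 4 ↪ Ω => (e : Fin 4 → Ω)) hgg) i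
  have hb : Function.Bijective f := by
    rw [Fintype.bijective_iff_injective_and_card]
    refine ⟨hf, ?_⟩
    rw [← Nat.card_eq_fintype_card, h.cardG, Fintype.card_embedding_eq, h.cardΩ, Fintype.card_fin]
    rfl
  obtain ⟨g, hg⟩ := hb.2 y
  exact ⟨g, fun i => congrFun (congrArg (fun e : Fin 4 ↪ Ω => (e : Fin 4 → Ω)) hg) i⟩

theorem Hyp.pre4 : MulAction.IsMultiplyPretransitive G Ω 4 := by
  rw [MulAction.isMultiplyPretransitive_iff]
  intro x y
  obtain ⟨g, hg⟩ := h.exists_four x y
  refine ⟨g, ?_⟩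
  ext i
  exact hg i

/-- every 3-subset is the fixed point set of an involution -/
theorem Hyp.exists_inv (S : Finset Ω) (hS : S.card = 3) : ∃ t : G, orderOf t = 2 ∧ fx t = S := by
  classical
  have := h.fin
  have := Fintype.ofFinite G
  have := h.pre4
  have h3 : MulAction.IsMultiplyPretransitive G Ω 3 := MulAction.isMultiplyPretransitive_of_le (n := 4) (by norm_num)
    (by rw [Nat.card_eq_fintype_card, h.cardΩ]; norm_num)
  let q : Fin 3 ↪ Ω := (S.equivFinOfCardEq hS).symm.toEmbedding.trans (Function.Embedding.subtype _)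
  have hq : ∀ i, q i ∈ S := fun i => ((S.equivFinOfCardEq hS).symm i).2
  have hqS : Finset.univ.map q = S := by
    apply Finset.eq_of_subset_of_card_le
    · intro p hp
      rw [Finset.mem_map] at hp
      obtain ⟨i, -, rfl⟩ := hp
      exact hq i
    · rw [hS, Finset.card_map, Finset.card_univ, Fintype.card_fin]
  have h4 := MulAction.card_orbit_mul_card_stabilizer_eq_card_group G q
  have h5 : MulAction.orbit G q = Set.univ := MulAction.orbit_eq_univ G q
  have h6 : Fintype.card (MulAction.orbit G q) = 990 := by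
    rw [← Nat.card_eq_fintype_card, h5, Nat.card_congr (Equiv.Set.univ _), Nat.card_eq_fintype_card,
      Fintype.card_embedding_eq, h.cardΩ, Fintype.card_fin]
    rfl
  have h7 : Fintype.card G = 7920 := by rw [← Nat.card_eq_fintype_card, h.cardG]
  rw [h6, h7] at h4
  have h8 : Nat.card (MulAction.stabilizer G q) = 8 := by rw [Nat.card_eq_fintype_card]; omega
  have : Fact (Nat.Prime 2) := ⟨Nat.prime_two⟩
  obtain ⟨t, ht⟩ := exists_prime_orderOf_dvd_card' (G := MulAction.stabilizer G q) 2 (by rw [h8]; norm_num)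
  have hto : orderOf (t : G) = 2 := by rw [Subgroup.orderOf_coe, ht]
  refine ⟨t, hto, ?_⟩
  symm
  apply Finset.eq_of_subset_of_card_le
  · rw [← hqS]
    intro p hp
    rw [Finset.mem_map] at hp
    obtain ⟨i, -, rfl⟩ := hp
    rw [mem_fx]
    have h9 := t.2
    rw [MulAction.mem_stabilizer_iff] at h9
    exact DFunLike.congr_fun h9 i
  · rw [h.two _ hto, hS]

theorem Hyp.inv_inj {s t : G} (hs : orderOf s = 2) (ht : orderOf t = 2) (hst : fx (Ω := Ω) s = fx t) : s = t := by
  classical
  have := h.fin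
  have := Fintype.ofFinite G
  let F : {t : G // orderOf t = 2} → {S : Finset Ω // S.card = 3} := fun t => ⟨fx t.1, h.two _ t.2⟩
  have hF : Function.Surjective F := by
    rintro ⟨S, hS⟩
    obtain ⟨t, ht, htS⟩ := h.exists_inv S hS
    exact ⟨⟨t, ht⟩, Subtype.ext htS⟩
  have hb : Function.Bijective F := by
    rw [Fintype.bijective_iff_surjective_and_card]
    refine ⟨hF, ?_⟩
    rw [← Nat.card_eq_fintype_card, h.inv, Fintype.card_finset_len, h.cardΩ]
    rfl
  have := hb.1 (a₁ := ⟨s, hs⟩) (a₂ := ⟨t, ht⟩) (Subtype.ext hst)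
  exact congrArg Subtype.val this

/-- the element realizing a permutation of a 4-tuple -/
theorem Hyp.exists_phi (x : Fin 4 ↪ Ω) : ∃ φ : Equiv.Perm (Fin 4) →* G, ∀ σ i, φ σ • x i = x (σ i) := by
  have h1 : ∀ σ : Equiv.Perm (Fin 4), ∃ g : G, ∀ i, g • x i = x (σ i) := fun σ => h.exists_four x (σ.toEmbedding.trans x)
  choose f hf using h1
  refine ⟨{ toFun := f, map_one' := ?_, map_mul' := ?_ }, hf⟩
  · apply h.eq_of_four x
    intro i
    rw [hf, one_smul]; rfl
  · intro σ τ
    apply h.eq_of_four x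
    intro i
    rw [hf, mul_smul, hf, hf]; rfl

omit h [Fintype Ω] in
/-- `v` is an involution acting without fixed points on `T` -/
def Dbl (T : Finset Ω) (v : G) : Prop := v * v = 1 ∧ ∀ p ∈ T, v • p ∈ T ∧ v • p ≠ p

variable (G) in
omit h [Fintype Ω] in
/-- `p` is the extra point of the block of `T` -/
def Ext (T : Finset Ω) (p : Ω) : Prop := p ∉ T ∧ ∀ v : G, Dbl T v → v • p = p

omit h [Fintype Ω] in
theorem Ext.smul {T : Finset Ω} {p : Ω} (hE : Ext G T p) (g : G) : Ext G (T.image (g • ·)) (g • p) := by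
  refine ⟨?_, ?_⟩
  · intro hp
    rw [Finset.mem_image] at hp
    obtain ⟨q, hq, hqp⟩ := hp
    exact hE.1 (by rwa [← MulAction.injective g hqp])
  · intro v hv
    have h1 : Dbl T (g⁻¹ * v * g) := by
      refine ⟨?_, ?_⟩
      · calc g⁻¹ * v * g * (g⁻¹ * v * g) = g⁻¹ * (v * v) * g := by group
          _ = 1 := by rw [hv.1]; group
      · intro q hq
        have h2 := hv.2 (g • q) (Finset.mem_image_of_mem _ hq)
        rw [mul_smul, mul_smul]
        constructor
        · obtain ⟨r, hr, hr'⟩ := Finset.mem_image.1 h2.1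
          rw [← hr', inv_smul_smul]
          exact hr
        · intro h3
          apply h2.2
          rw [inv_smul_eq_iff] at h3
          exact h3
    have h2 := hE.2 _ h1
    rw [mul_smul, mul_smul, inv_smul_eq_iff] at h2
    exact h2

/-- existence and uniqueness of the extra point -/
theorem Hyp.exists_ext (x : Fin 4 ↪ Ω) : ∃! p, Ext G (Finset.univ.map x) p := by
  classical
  obtain ⟨φ, hφ⟩ := h.exists_phi x
  set s1 : Equiv.Perm (Fin 4) := Equiv.swap 0 1 * Equiv.swap 2 3 with hs1
  set s2 : Equiv.Perm (Fin 4) := Equiv.swap 0 2 * Equiv.swap 1 3 with hs2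
  have e11 : s1 * s1 = 1 := by rw [hs1]; decide
  have e22 : s2 * s2 = 1 := by rw [hs2]; decide
  have e12 : s1 * s2 = s2 * s1 := by rw [hs1, hs2]; decide
  set T : Finset Ω := Finset.univ.map x with hT
  have hmT : ∀ p, p ∈ T ↔ ∃ i, x i = p := by
    intro p; rw [hT, Finset.mem_map]; simp
  set v1 : G := φ s1 with hv1
  set v2 : G := φ s2 with hv2
  have f11 : v1 * v1 = 1 := by rw [hv1, ← map_mul, e11, map_one]
  have f22 : v2 * v2 = 1 := by rw [hv2, ← map_mul, e22, map_one]
  have f12 : v1 * v2 = v2 * v1 := by rw [hv1, hv2, ← map_mul, e12, map_mul]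
  have hne : ∀ σ : Equiv.Perm (Fin 4), σ ≠ 1 → φ σ ≠ 1 := by
    intro σ hσ h1
    apply hσ
    apply Equiv.ext
    intro i
    have h2 := hφ σ i
    rw [h1, one_smul] at h2
    exact (x.injective h2).symm
  have o1 : orderOf v1 = 2 := orderOf_eq_prime (by rw [sq, f11]) (hne _ (by rw [hs1]; decide))
  have o2 : orderOf v2 = 2 := orderOf_eq_prime (by rw [sq, f22]) (hne _ (by rw [hs2]; decide))
  have hd : ∀ σ : Equiv.Perm (Fin 4), σ * σ = 1 → (∀ i, σ i ≠ i) → Dbl T (φ σ) := by
    intro σ hσ hσi
    refine ⟨by rw [← map_mul, hσ, map_one], ?_⟩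
    intro p hp
    obtain ⟨i, rfl⟩ := (hmT p).1 hp
    rw [hφ]
    exact ⟨(hmT _).2 ⟨_, rfl⟩, fun h1 => hσi i (x.injective h1)⟩
  have d1 : Dbl T v1 := hd s1 e11 (by rw [hs1]; decide)
  have d2 : Dbl T v2 := hd s2 e22 (by rw [hs2]; decide)
  -- every such element is one of three
  have hdbl : ∀ v : G, Dbl T v → v = v1 ∨ v = v2 ∨ v = v1 * v2 := by
    intro v hv
    have h1 : ∀ i, ∃ j, x j = v • x i := fun i => (hmT _).1 (hv.2 _ ((hmT _).2 ⟨i, rfl⟩)).1
    choose f hf using h1
    have h2 : ∀ i, f (f i) = i := by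
      intro i
      apply x.injective
      rw [hf, hf, ← mul_smul, hv.1, one_smul]
    have h3 : ∀ i, f i ≠ i := by
      intro i hi
      apply (hv.2 _ ((hmT _).2 ⟨i, rfl⟩)).2
      rw [← hf, hi]
    have key : ∀ f : Fin 4 → Fin 4, (∀ i, f (f i) = i) → (∀ i, f i ≠ i) →
        (∀ i, f i = (Equiv.swap 0 1 * Equiv.swap 2 3 : Equiv.Perm (Fin 4)) i) ∨
        (∀ i, f i = (Equiv.swap 0 2 * Equiv.swap 1 3 : Equiv.Perm (Fin 4)) i) ∨
        (∀ i, f i = ((Equiv.swap 0 1 * Equiv.swap 2 3) * (Equiv.swap 0 2 * Equiv.swap 1 3) : Equiv.Perm (Fin 4)) i) := by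
      decide +kernel
    rcases key f h2 h3 with h4 | h4 | h4
    · left
      apply h.eq_of_four x
      intro i
      rw [← hf, h4, hv1, hφ]
    · right; left
      apply h.eq_of_four x
      intro i
      rw [← hf, h4, hv2, hφ]
    · right; right
      apply h.eq_of_four x
      intro i
      rw [← hf, h4, hv1, hv2, ← map_mul, hφ]
  have hv12 : v1 ≠ v2 := by
    intro h1
    have h2 := hφ s1 0
    have h3 := hφ s2 0
    rw [← hv1, h1] at h2
    rw [← hv2] at h3
    have h4 : x (s1 0) = x (s2 0) := by rw [← h2, ← h3]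
    have h5 := x.injective h4
    revert h5
    rw [hs1, hs2]; decide
  -- `v2` permutes the fixed points of `v1`
  have hperm : ∀ p ∈ fx (Ω := Ω) v1, v2 • p ∈ fx (Ω := Ω) v1 := by
    intro p hp
    rw [mem_fx] at hp ⊢
    rw [← mul_smul, f12, mul_smul, hp]
  have hinv2 : ∀ p : Ω, v2 • v2 • p = p := fun p => by rw [← mul_smul, f22, one_smul]
  have c1 := h.two v1 o1
  obtain ⟨a, b, c, hab, hac, hbc, habc⟩ := Finset.card_eq_three.1 c1
  have hex : ∃ p, p ∈ fx (Ω := Ω) v1 ∧ p ∈ fx (Ω := Ω) v2 := by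
    have ma : a ∈ fx (Ω := Ω) v1 := by rw [habc]; simp
    have mb : b ∈ fx (Ω := Ω) v1 := by rw [habc]; simp
    have mc : c ∈ fx (Ω := Ω) v1 := by rw [habc]; simp
    have ia := hperm a ma
    have ib := hperm b mb
    have ic := hperm c mc
    rw [habc] at ia ib ic
    simp only [Finset.mem_insert, Finset.mem_singleton] at ia ib ic
    rcases ia with ia | ia | ia
    · exact ⟨a, ma, mem_fx.2 ia⟩
    · have ib' : v2 • b = a := by rw [← ia, hinv2]
      rcases ic with ic | ic | ic
      · exfalso; apply hbc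
        exact MulAction.injective v2 (show v2 • b = v2 • c by rw [ib', ic])
      · exfalso; apply hac
        exact MulAction.injective v2 (show v2 • a = v2 • c by rw [ia, ic])
      · exact ⟨c, mc, mem_fx.2 ic⟩
    · have ic' : v2 • c = a := by rw [← ia, hinv2]
      rcases ib with ib | ib | ib
      · exfalso; apply hbc
        exact MulAction.injective v2 (show v2 • b = v2 • c by rw [ib, ic'])
      · exact ⟨b, mb, mem_fx.2 ib⟩
      · exfalso; apply hab
        exact MulAction.injective v2 (show v2 • a = v2 • b by rw [ia, ib])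
  have huniq : ∀ p q, p ∈ fx (Ω := Ω) v1 → p ∈ fx (Ω := Ω) v2 → q ∈ fx (Ω := Ω) v1 → q ∈ fx (Ω := Ω) v2 → p = q := by
    intro p q hp1 hp2 hq1 hq2
    by_contra hpq
    have hI : 2 ≤ (fx (Ω := Ω) v1 ∩ fx v2).card := by
      have : ({p, q} : Finset Ω) ⊆ fx v1 ∩ fx v2 := by
        intro r hr
        rw [Finset.mem_insert, Finset.mem_singleton] at hr
        rw [Finset.mem_inter]
        rcases hr with rfl | rfl
        · exact ⟨hp1, hp2⟩
        · exact ⟨hq1, hq2⟩
      rw [← Finset.card_pair hpq]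
      exact Finset.card_le_card this
    have hsub : fx (Ω := Ω) v1 ⊆ fx v2 := by
      intro r hr
      by_contra hr2
      have hD : (fx (Ω := Ω) v1 \ fx v2).card ≤ 1 := by
        have := Finset.card_sdiff_add_card_inter (fx (Ω := Ω) v1) (fx v2)
        omega
      have m1 : r ∈ fx (Ω := Ω) v1 \ fx v2 := Finset.mem_sdiff.2 ⟨hr, hr2⟩
      have m2 : v2 • r ∈ fx (Ω := Ω) v1 \ fx v2 := by
        refine Finset.mem_sdiff.2 ⟨hperm r hr, ?_⟩
        intro h1
        apply hr2
        rw [mem_fx] at h1 ⊢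
        rw [hinv2] at h1
        exact h1.symm
      have := Finset.card_le_one.1 hD _ m1 _ m2
      exact hr2 (mem_fx.2 this.symm)
    have heq : fx (Ω := Ω) v1 = fx v2 := Finset.eq_of_subset_of_card_le hsub (by rw [h.two v2 o2, h.two v1 o1])
    exact hv12 (h.inv_inj o1 o2 heq)
  obtain ⟨p, hp1, hp2⟩ := hex
  refine ⟨p, ⟨?_, ?_⟩, ?_⟩
  · intro hpT
    exact (d1.2 p hpT).2 (mem_fx.1 hp1)
  · intro v hv
    rcases hdbl v hv with rfl | rfl | rfl
    · exact mem_fx.1 hp1
    · exact mem_fx.1 hp2
    · rw [mul_smul, mem_fx.1 hp2, mem_fx.1 hp1]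
  · rintro q ⟨hq1, hq2⟩
    exact huniq q p (mem_fx.2 (hq2 _ d1)) (mem_fx.2 (hq2 _ d2)) hp1 hp2

omit h [MulAction G Ω] [Group G] [Fintype Ω] in
/-- enumerate a 4-set starting with a given element -/
theorem exists_enum {T : Finset Ω} (hT : T.card = 4) {a : Ω} (ha : a ∈ T) : ∃ x : Fin 4 ↪ Ω, x 0 = a ∧ Finset.univ.map x = T := by
  let e := T.equivFinOfCardEq hT
  let x : Fin 4 ↪ Ω := ((Equiv.swap 0 (e ⟨a, ha⟩)).trans e.symm).toEmbedding.trans (Function.Embedding.subtype _)
  refine ⟨x, ?_, ?_⟩
  · show ((e.symm (Equiv.swap 0 (e ⟨a, ha⟩) 0) : T) : Ω) = a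
    rw [Equiv.swap_apply_left, Equiv.symm_apply_apply]
  · apply Finset.eq_of_subset_of_card_le
    · intro p hp
      rw [Finset.mem_map] at hp
      obtain ⟨i, -, rfl⟩ := hp
      exact (e.symm (Equiv.swap 0 (e ⟨a, ha⟩) i)).2
    · rw [hT, Finset.card_map, Finset.card_univ, Fintype.card_fin]

theorem Hyp.exists_ext' {T : Finset Ω} (hT : T.card = 4) : ∃! p, Ext G T p := by
  obtain ⟨a, ha⟩ : T.Nonempty := by rw [← Finset.card_pos, hT]; norm_num
  obtain ⟨x, -, hx⟩ := exists_enum hT ha
  rw [← hx]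
  exact h.exists_ext x

/-- exchanging -/
theorem Hyp.exchange {T : Finset Ω} (hT : T.card = 4) {p a : Ω} (hp : Ext G T p) (ha : a ∈ T) :
    Ext G (insert p (T.erase a)) a := by
  classical
  obtain ⟨x, hx0, hx⟩ := exists_enum hT ha
  obtain ⟨φ, hφ⟩ := h.exists_phi x
  set σ : Equiv.Perm (Fin 4) := Equiv.swap 1 2 * Equiv.swap 2 3 with hσ
  have hσ3 : σ ^ 3 = 1 := by rw [hσ]; decide
  have hσ0 : σ 0 = 0 := by rw [hσ]; decide
  set c : G := φ σ with hc
  have hc3 : c ^ 3 = 1 := by rw [hc, ← map_pow, hσ3, map_one]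
  have hc1 : c ≠ 1 := by
    intro h1
    have h2 := hφ σ 1
    rw [← hc, h1, one_smul] at h2
    have h3 := x.injective h2
    revert h3
    rw [hσ]; decide
  have : Fact (Nat.Prime 3) := ⟨by norm_num⟩
  have hco : orderOf c = 3 := orderOf_eq_prime hc3 hc1
  have hmT : ∀ q, q ∈ T ↔ ∃ i, x i = q := by
    intro q; rw [← hx, Finset.mem_map]; simp
  have hca : c • a = a := by rw [← hx0, hc, hφ, hσ0]
  have hcT : T.image (c • ·) = T := by
    apply Finset.eq_of_subset_of_card_le
    · intro q hq
      obtain ⟨r, hr, rfl⟩ := Finset.mem_image.1 hq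
      obtain ⟨i, rfl⟩ := (hmT r).1 hr
      show c • x i ∈ T
      rw [hc, hφ]
      exact (hmT _).2 ⟨_, rfl⟩
    · rw [Finset.card_image_of_injective _ (MulAction.injective c)]
  have hcp : c • p = p := by
    have h1 := hp.smul c
    rw [hcT] at h1
    exact (h.exists_ext' hT).unique h1 hp
  have hpT : p ∉ T := hp.1
  have hap : a ≠ p := by rintro rfl; exact hpT ha
  set T' : Finset Ω := insert p (T.erase a) with hT'
  have hT'c : T'.card = 4 := by
    rw [hT', Finset.card_insert_of_notMem (fun h1 => hpT (Finset.mem_of_mem_erase h1)), Finset.card_erase_of_mem ha, hT]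
  have hcT' : T'.image (c • ·) = T' := by
    rw [hT', Finset.image_insert, Finset.image_erase (MulAction.injective c), hcT]
    show insert (c • p) (T.erase (c • a)) = _
    rw [hcp, hca]
  obtain ⟨p', hp', hp'u⟩ := h.exists_ext' hT'c
  have hcp' : c • p' = p' := by
    have h1 := Ext.smul hp' c
    rw [hcT'] at h1
    exact hp'u _ h1
  have hfix : fx (Ω := Ω) c = {a, p} := by
    symm
    apply Finset.eq_of_subset_of_card_le
    · intro q hq
      rw [Finset.mem_insert, Finset.mem_singleton] at hq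
      rcases hq with rfl | rfl
      · exact mem_fx.2 hca
      · exact mem_fx.2 hcp
    · rw [h.three c hco, Finset.card_pair hap]
  have h1 : p' ∈ fx (Ω := Ω) c := mem_fx.2 hcp'
  rw [hfix, Finset.mem_insert, Finset.mem_singleton] at h1
  rcases h1 with h1 | h1
  · rw [← h1]; exact hp'
  · exfalso
    apply hp'.1
    rw [h1, hT']
    exact Finset.mem_insert_self _ _

variable (G Ω) in
omit h in
/-- the blocks -/
def blocks : Set (Finset Ω) := {b | ∃ (T : Finset Ω) (p : Ω), T.card = 4 ∧ Ext G T p ∧ b = insert p T}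

theorem Hyp.steiner : Cfsg.IsSteinerSystem 4 5 (blocks G Ω) := by
  classical
  constructor
  · rintro b ⟨T, p, hT, hp, rfl⟩
    rw [Finset.card_insert_of_notMem hp.1, hT]
  · intro S hS
    obtain ⟨p, hp, hpu⟩ := h.exists_ext' hS
    refine ⟨insert p S, ⟨⟨S, p, hS, hp, rfl⟩, Finset.subset_insert _ _⟩, ?_⟩
    rintro b ⟨⟨T, q, hT, hq, rfl⟩, hSb⟩
    by_cases hqS : q ∈ S
    · -- `S = insert q (T.erase a)`
      have h1 : (S.erase q) ⊆ T := by
        intro r hr
        rw [Finset.mem_erase] at hr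
        have := hSb hr.2
        rw [Finset.mem_insert] at this
        exact this.resolve_left hr.1
      have h2 : (S.erase q).card = 3 := by rw [Finset.card_erase_of_mem hqS, hS]
      obtain ⟨a, haT, ha⟩ : ∃ a ∈ T, a ∉ S.erase q := by
        by_contra hno
        push Not at hno
        have h3 : T ⊆ S.erase q := hno
        have := Finset.card_le_card h3
        omega
      have h3 : S.erase q = T.erase a := by
        apply Finset.eq_of_subset_of_card_le
        · intro r hr
          rw [Finset.mem_erase]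
          exact ⟨fun h4 => ha (h4 ▸ hr), h1 hr⟩
        · rw [Finset.card_erase_of_mem haT, hT, h2]
      have h4 : S = insert q (T.erase a) := by rw [← h3, Finset.insert_erase hqS]
      have h5 := h.exchange hT hq haT
      rw [← h4] at h5
      have h6 := hpu a h5
      rw [← h6, h4, Finset.insert_comm, Finset.insert_erase haT]
    · have h1 : S ⊆ T := by
        intro r hr
        have := hSb hr
        rw [Finset.mem_insert] at this
        rcases this with h2 | h2
        · exact absurd (h2 ▸ hr) hqS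
        · exact h2
      have h2 : S = T := Finset.eq_of_subset_of_card_le h1 (by rw [hS, hT])
      subst h2
      rw [hpu q hq]

omit h in
theorem smul_blocks (g : G) (b : Finset Ω) (hb : b ∈ blocks G Ω) : b.image (g • ·) ∈ blocks G Ω := by
  classical
  obtain ⟨T, p, hT, hp, rfl⟩ := hb
  refine ⟨T.image (g • ·), g • p, ?_, hp.smul g, ?_⟩
  · rw [Finset.card_image_of_injective _ (MulAction.injective g), hT]
  · rw [Finset.image_insert]

/-- the group is the automorphism group of the Steiner system -/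
theorem Hyp.equiv (hA : Nat.card (Cfsg.setSystemAut (blocks G Ω)) = 7920) : Nonempty (G ≃* Cfsg.setSystemAut (blocks G Ω)) := by
  classical
  have := h.fin
  have := Fintype.ofFinite G
  have hmem : ∀ g : G, MulAction.toPermHom G Ω g ∈ Cfsg.setSystemAut (blocks G Ω) := by
    intro g
    rw [SteinerTransport.mem_aut_iff]
    intro s
    have e1 : ∀ (g : G) (s : Finset Ω), s.map (MulAction.toPermHom G Ω g).toEmbedding = s.image (g • ·) := by
      intro g s
      rw [Finset.map_eq_image]; rfl
    constructor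
    · intro h1
      rw [e1] at h1
      have h2 := smul_blocks g⁻¹ _ h1
      rw [Finset.image_image] at h2
      have h3 : ((fun x : Ω => g⁻¹ • x) ∘ fun x => g • x) = id := by
        funext x; exact inv_smul_smul g x
      rw [h3, Finset.image_id] at h2
      exact h2
    · intro h1
      rw [e1]
      exact smul_blocks g s h1
  let f : G →* Cfsg.setSystemAut (blocks G Ω) := (MulAction.toPermHom G Ω).codRestrict _ hmem
  have hf : Function.Injective f := by
    intro g g' hgg
    obtain ⟨x⟩ : Nonempty (Fin 4 ↪ Ω) := Function.Embedding.nonempty_of_card_le (by simp [h.cardΩ])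
    apply h.eq_of_four x
    intro i
    have h1 := congrArg Subtype.val hgg
    exact congrArg (fun σ : Equiv.Perm Ω => σ (x i)) h1
  have hb : Function.Bijective f := by
    have : Finite (Cfsg.setSystemAut (blocks G Ω)) := inferInstance
    have := Fintype.ofFinite (Cfsg.setSystemAut (blocks G Ω))
    rw [Fintype.bijective_iff_injective_and_card]
    refine ⟨hf, ?_⟩
    rw [← Nat.card_eq_fintype_card, ← Nat.card_eq_fintype_card, h.cardG, hA]
  exact ⟨MulEquiv.ofBijective f hb⟩

omit h in
/-- isomorphic set systems have isomorphic automorphism groups -/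
theorem aut_iso {α : Type*} {β : Type*} [DecidableEq α] [DecidableEq β] {B : Set (Finset α)} {B' : Set (Finset β)} (e : α ≃ β)
    (he : ∀ s : Finset α, s.map e.toEmbedding ∈ B' ↔ s ∈ B) : Nonempty (Cfsg.setSystemAut B ≃* Cfsg.setSystemAut B') := by
  have h1 : (Cfsg.setSystemAut B).map (e.permCongrHom : Equiv.Perm α ≃* Equiv.Perm β).toMonoidHom = Cfsg.setSystemAut B' := by
    ext g
    rw [Subgroup.mem_map]
    constructor
    · rintro ⟨f, hf, rfl⟩
      rw [SteinerTransport.mem_aut_iff] at hf ⊢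
      intro s
      have e1 : s.map (e.permCongrHom f).toEmbedding = ((s.map e.symm.toEmbedding).map f.toEmbedding).map e.toEmbedding := by
        rw [Finset.map_map, Finset.map_map]; rfl
      show s.map (e.permCongrHom f).toEmbedding ∈ B' ↔ s ∈ B'
      rw [e1, he, hf, ← he, SteinerTransport.map_map_symm]
    · intro hg
      refine ⟨e.permCongrHom.symm g, ?_, MulEquiv.apply_symm_apply e.permCongrHom g⟩
      rw [SteinerTransport.mem_aut_iff] at hg ⊢
      intro s
      have e1 : s.map (e.permCongrHom.symm g).toEmbedding = ((s.map e.toEmbedding).map g.toEmbedding).map e.symm.toEmbedding := by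
        rw [Finset.map_map, Finset.map_map]; rfl
      rw [e1, ← he, SteinerTransport.map_map_symm, hg, he]
  exact ⟨((e.permCongrHom : Equiv.Perm α ≃* Equiv.Perm β).subgroupMap (Cfsg.setSystemAut B)).trans (MulEquiv.subgroupCongr h1)⟩

end Cfsg.Agent.Lib.SharpFour
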