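import Mathlib
import Cfsg.Agent.Lib.M11L
import Cfsg.Agent.Lib.SharpFour
import Cfsg.Agent.S0426

/-!
# Simple groups of order 7920 are isomorphic (helper7)
-/

set_option autoImplicit false

namespace Cfsg.Agent.Lib.M11ByOrder

open Subgroup Cfsg Cfsg.Agent.Lib.SharpFour

universe u v

/-- a simple group of order 7920 acts as required -/
theorem exists_hyp (G : Type u) [Group G] [Finite G] [IsSimpleGroup G] (hG : Nat.card G = 7920) :
    ∃ (Ω : Type u) (_ : MulAction G Ω) (_ : Fintype Ω) (_ : DecidableEq Ω), Hyp G Ω := by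
  classical
  obtain ⟨K, hK⟩ := exists_720 hG
  have hidx : Nat.card (G ⧸ K) = 11 := by
    have h1 := card_mul_index K
    rw [hK, hG] at h1
    rw [← Subgroup.index_eq_card]
    omega
  have hfin : Fintype (G ⧸ K) := Fintype.ofFinite _
  obtain ⟨h2, h3, h4⟩ := perm11 hG (G ⧸ K) hidx
  refine ⟨G ⧸ K, inferInstance, hfin, inferInstance, ⟨inferInstance, hG, ?_, ?_, ?_, ?_, card_inv hG⟩⟩
  · rw [← Nat.card_eq_fintype_card, hidx]
  · intro g hg; rw [card_fx]; exact h4 g hg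
  · intro g hg; rw [card_fx]; exact h2 g hg
  · intro g hg; rw [card_fx]; exact h3 g hg

/-- any two simple groups of order 7920 are isomorphic -/
theorem unique_7920 {G : Type u} {G' : Type v} [Group G] [Finite G] [IsSimpleGroup G] [Group G'] [Finite G'] [IsSimpleGroup G']
    (hG : Nat.card G = 7920) (hG' : Nat.card G' = 7920) : Nonempty (G ≃* G') := by
  obtain ⟨Ω, i1, i2, i3, h⟩ := exists_hyp G hG
  obtain ⟨Ω', j1, j2, j3, h'⟩ := exists_hyp G' hG'
  have hS := h.steiner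
  have hS' := h'.steiner
  obtain ⟨x⟩ : Nonempty (Fin 4 ↪ Ω) := Function.Embedding.nonempty_of_card_le (by simp [h.cardΩ])
  obtain ⟨y⟩ : Nonempty (Fin 4 ↪ Ω') := Function.Embedding.nonempty_of_card_le (by simp [h'.cardΩ])
  obtain ⟨e, -, he⟩ := Cfsg.Agent.Lib.S4511.exists_iso h.cardΩ h'.cardΩ hS hS' x y
  obtain ⟨f1⟩ := h.equiv (Cfsg.Agent.S0426.result h.cardΩ hS).1.2
  obtain ⟨f2⟩ := h'.equiv (Cfsg.Agent.S0426.result h'.cardΩ hS').1.2
  obtain ⟨f3⟩ := aut_iso e he
  exact ⟨f1.trans (f3.trans f2.symm)⟩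

end Cfsg.Agent.Lib.M11ByOrder
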