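import Cfsg.Agent.Lib.FrobSchur
import Mathlib.LinearAlgebra.PID

set_option autoImplicit false

/-!
# The symmetric and the alternating square of a character (helper79)
-/

namespace Cfsg.Agent.Lib.SymAltSq

open Cfsg Cfsg.Agent.Lib.CharBasic Cfsg.Agent.Lib.FrobSchur

universe u v

variable {G : Type u} [Group G]

/-- The character of the image of an idempotent commuting with a representation. -/
theorem isCharacter_of_idempotent {V : Type v} [AddCommGroup V] [Module ℂ V]
    [FiniteDimensional ℂ V] (ρ : Representation ℂ G V) (P : V →ₗ[ℂ] V) (hP : P ∘ₗ P = P)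
    (hc : ∀ g, P ∘ₗ ρ g = ρ g ∘ₗ P) : IsCharacter G (fun g => LinearMap.trace ℂ V (P ∘ₗ ρ g)) := by
  let S : Subrepresentation ρ := ⟨LinearMap.range P, by
    rintro g v ⟨w, rfl⟩
    refine ⟨ρ g w, ?_⟩
    exact LinearMap.congr_fun (hc g) w⟩
  have h1 : (fun g => LinearMap.trace ℂ V (P ∘ₗ ρ g)) = S.toRepresentation.character := by
    funext g
    have h2 : ∀ x, (P ∘ₗ ρ g) x ∈ LinearMap.range P := fun x => ⟨ρ g x, rfl⟩
    rw [← LinearMap.trace_restrict_eq_of_forall_mem (LinearMap.range P) (P ∘ₗ ρ g) h2]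
    change _ = LinearMap.trace ℂ _ (S.toRepresentation g)
    congr 1
    ext ⟨x, y, hy⟩
    change P (ρ g x) = ρ g x
    rw [← hy]
    have h3 := LinearMap.congr_fun (hc g) y
    simp only [LinearMap.comp_apply] at h3
    rw [← h3]
    exact LinearMap.congr_fun hP (ρ g y)
  rw [h1]
  exact isCharacter_of_rep _

section

variable {n : ℕ}

/-- The representation on matrices. -/
noncomputable def bilRep (ρ : Representation ℂ G (Fin n → ℂ)) :
    Representation ℂ G (Matrix (Fin n) (Fin n) ℂ) where
  toFun g := bilAct (matRep ρ g)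
  map_one' := by
    ext A : 1
    simp [bilAct_apply]
  map_mul' a b := by
    ext A : 1
    simp [bilAct_apply, Matrix.transpose_mul, Matrix.mul_assoc]

theorem bilRep_apply (ρ : Representation ℂ G (Fin n → ℂ)) (g : G) :
    bilRep ρ g = bilAct (matRep ρ g) := rfl

theorem transp_comm (X : Matrix (Fin n) (Fin n) ℂ) :
    transp n ∘ₗ bilAct X = bilAct X ∘ₗ transp n := by
  ext A : 1
  simp [transp_apply, bilAct_apply, Matrix.transpose_mul, Matrix.mul_assoc]

theorem transp_transp : transp n ∘ₗ transp n = LinearMap.id := by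
  ext A : 1
  simp [transp_apply]

theorem isCharacter_aux (ρ : Representation ℂ G (Fin n → ℂ)) (c : ℂ) (hc : c * c = 1) :
    IsCharacter G (fun g => (ρ.character g ^ 2 + c * ρ.character (g * g)) / 2) := by
  set P : Matrix (Fin n) (Fin n) ℂ →ₗ[ℂ] Matrix (Fin n) (Fin n) ℂ :=
    (2⁻¹ : ℂ) • (LinearMap.id + c • transp n) with hPdef
  have hPP : P ∘ₗ P = P := by
    have h1 : (LinearMap.id + c • transp n) ∘ₗ (LinearMap.id + c • transp n)
        = (2 : ℂ) • (LinearMap.id + c • transp n) := by
      simp only [LinearMap.add_comp, LinearMap.comp_add, LinearMap.id_comp, LinearMap.comp_id,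
        LinearMap.smul_comp, LinearMap.comp_smul, transp_transp]
      match_scalars <;> first | linear_combination hc | ring
    rw [hPdef, LinearMap.smul_comp, LinearMap.comp_smul, h1, smul_smul, smul_smul]
    norm_num
  have hcomm : ∀ g, P ∘ₗ bilRep ρ g = bilRep ρ g ∘ₗ P := by
    intro g
    rw [hPdef, bilRep_apply]
    simp only [LinearMap.smul_comp, LinearMap.comp_smul, LinearMap.add_comp, LinearMap.comp_add,
      LinearMap.id_comp, LinearMap.comp_id, transp_comm]
  have h2 := isCharacter_of_idempotent (bilRep ρ) P hPP hcomm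
  convert h2 using 2 with g
  rw [hPdef, bilRep_apply, LinearMap.smul_comp, LinearMap.add_comp, LinearMap.smul_comp,
    LinearMap.id_comp, map_smul, map_add, map_smul, trace_bilAct, trace_transp_bilAct, trace_matRep,
    ← map_mul, trace_matRep]
  simp only [smul_eq_mul]
  ring

end

/-- The symmetric square. -/
theorem isCharacter_symSq {χ : G → ℂ} (hχ : IsCharacter G χ) :
    IsCharacter G (fun g => (χ g ^ 2 + χ (g * g)) / 2) := by
  obtain ⟨n, ρ, rfl⟩ := hχ
  simpa using isCharacter_aux ρ 1 (by norm_num)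

/-- The alternating square. -/
theorem isCharacter_altSq {χ : G → ℂ} (hχ : IsCharacter G χ) :
    IsCharacter G (fun g => (χ g ^ 2 - χ (g * g)) / 2) := by
  obtain ⟨n, ρ, rfl⟩ := hχ
  have h := isCharacter_aux ρ (-1) (by norm_num)
  simpa [sub_eq_add_neg] using h

end Cfsg.Agent.Lib.SymAltSq
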