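import Mathlib
import Cfsg.Agent.Lib.ColTools4
import Cfsg.Agent.Lib.BRDeg
import Cfsg.Agent.Lib.BRCore
import Cfsg.Agent.Lib.BROne
import Cfsg.Agent.Lib.DefOneGalois
import Cfsg.Agent.Lib.SymAltSq

/-!
# The principal block with a Sylow subgroup of prime order: a wrapper (helper7)
-/

set_option autoImplicit false
set_option linter.all false

namespace Cfsg.Agent.Lib.PBlock

open scoped ComplexConjugate
open Cfsg Cfsg.Agent.Lib.CharBasic Module
open Cfsg.Agent.Lib.ColTools (deg deg_pos apply_one deg_dvd)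

universe u

section fix

variable {G : Type u} [Group G]

/-- the character of the fixed space of a subgroup -/
theorem fixChar {χ : G → ℂ} (hχ : IsCharacter G χ) (H N : Subgroup G) [Fintype H]
    (hN : ∀ n ∈ N, ∀ h ∈ H, n * h * n⁻¹ ∈ H) :
    IsCharacter N (fun n : N => (Nat.card H : ℂ)⁻¹ * ∑ h : H, χ ((h : G) * n)) := by
  obtain ⟨m, ρ, rfl⟩ := hχ
  set P : Module.End ℂ (Fin m → ℂ) := (Nat.card H : ℂ)⁻¹ • ∑ h : H, (ρ (h : G) : Module.End ℂ (Fin m → ℂ)) with hP
  have hH : (Nat.card H : ℂ) ≠ 0 := by exact_mod_cast Nat.card_pos.ne'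
  have h1 : ∀ k : H, (ρ (k : G) : Module.End ℂ (Fin m → ℂ)) * P = P := by
    intro k
    rw [hP, mul_smul_comm, Finset.mul_sum]
    congr 1
    rw [← Equiv.sum_comp (Equiv.mulLeft k) (fun h : H => (ρ (h : G) : Module.End ℂ (Fin m → ℂ)))]
    refine Finset.sum_congr rfl fun h _ => ?_
    rw [Equiv.coe_mulLeft, Subgroup.coe_mul, map_mul]
  have h2 : P * P = P := by
    conv_lhs => rw [hP]
    rw [smul_mul_assoc, Finset.sum_mul, Finset.sum_congr rfl (fun k _ => h1 k), Finset.sum_const, Finset.card_univ,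
      ← Nat.card_eq_fintype_card, ← Nat.cast_smul_eq_nsmul ℂ, smul_smul, inv_mul_cancel₀ hH, one_smul]
  have h3 : ∀ n : N, P * (ρ (n : G) : Module.End ℂ (Fin m → ℂ)) = (ρ (n : G) : Module.End ℂ (Fin m → ℂ)) * P := by
    intro n
    rw [hP, smul_mul_assoc, mul_smul_comm, Finset.sum_mul, Finset.mul_sum]
    congr 1
    -- reindex
    have hfin : Finite H := inferInstance
    let φ : H ≃ H := Equiv.ofBijective (fun h => ⟨n * h * (n : G)⁻¹, hN n n.2 h h.2⟩) (by
      apply Finite.injective_iff_bijective.1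
      intro a b hab
      have := congrArg Subtype.val hab
      simpa using this)
    rw [← Equiv.sum_comp φ (fun h : H => (ρ (h : G) : Module.End ℂ (Fin m → ℂ)) * ρ (n : G))]
    refine Finset.sum_congr rfl fun h _ => ?_
    have : ((φ h : H) : G) = n * h * (n : G)⁻¹ := rfl
    rw [this]
    rw [← map_mul, ← map_mul]
    congr 1
    group
  have h4 := SymAltSq.isCharacter_of_idempotent (ρ.comp N.subtype : Representation ℂ N (Fin m → ℂ)) P h2 h3
  convert h4 using 2 with n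
  change _ = LinearMap.trace ℂ _ (P * ρ (n : G))
  rw [hP, smul_mul_assoc, Finset.sum_mul, map_smul, map_sum, smul_eq_mul]
  congr 1
  refine Finset.sum_congr rfl fun h _ => ?_
  change LinearMap.trace ℂ _ (ρ ((h : G) * n)) = _
  rw [map_mul]

/-- no fixed points -/
theorem fix_zero [Finite G] {χ : G → ℂ} (hχ : IsCharacter G χ) (H N : Subgroup G) [Fintype H]
    (hN : ∀ n ∈ N, ∀ h ∈ H, n * h * n⁻¹ ∈ H) (h0 : ∑ h : H, χ (h : G) = 0) {n : G} (hn : n ∈ N) :
    ∑ h : H, χ ((h : G) * n) = 0 := by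
  have h1 := fixChar hχ H N hN
  obtain ⟨m, ρ, hρ⟩ := h1
  have h2 := congrFun hρ 1
  have h3 := congrFun hρ ⟨n, hn⟩
  simp only [Subgroup.coe_one, mul_one, h0, mul_zero] at h2
  rw [Representation.char_one] at h2
  have h4 : Module.finrank ℂ (Fin m → ℂ) = 0 := by exact_mod_cast h2
  have h5 := CharValues.norm_character_le ρ ⟨n, hn⟩
  rw [h4, Nat.cast_zero] at h5
  have h6 : ρ.character ⟨n, hn⟩ = 0 := norm_eq_zero.1 (le_antisymm h5 (norm_nonneg _))
  rw [h6] at h3
  have hH : (Nat.card H : ℂ)⁻¹ ≠ 0 := inv_ne_zero (by exact_mod_cast Nat.card_pos.ne')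
  exact (mul_eq_zero.1 h3.symm).resolve_left hH

end fix

section pb

open Cfsg.Agent.Lib.DefOneLoc Cfsg.Agent.Lib.DefOneOrd Cfsg.Agent.Lib.BRB0 Cfsg.Agent.Lib.DefOnePrin
  Cfsg.Agent.Lib.BRCore Cfsg.Agent.Lib.DefOneGram Cfsg.Agent.Lib.DefOne

variable {G : Type u} [Group G] [Finite G] {p : ℕ} [hp : Fact p.Prime]

theorem deg_eq (χ : IrrCharacter G) : charDegree (χ : G → ℂ) = deg χ := by
  have h1 := BlockDeg.charDegree_cast_irr χ
  rw [apply_one] at h1
  exact_mod_cast h1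

theorem orderOf_mem {P : Subgroup G} (hP : Nat.card P = p) {x : G} (hx : x ∈ P) (h1 : x ≠ 1) : orderOf x = p := by
  have h2 : orderOf x ∣ p := by
    rw [← hP, ← Subgroup.orderOf_mk x hx]
    exact orderOf_dvd_natCard _
  rcases (Nat.dvd_prime hp.out).1 h2 with h3 | h3
  · exact absurd (orderOf_eq_one_iff.1 h3) h1
  · exact h3

theorem sing_of_l' {P N C : Subgroup G} (D : Loc p P N C) (c : C) (hc : D.l c ≠ 0) : p ∣ orderOf (c : G) := by
  by_contra h
  exact hc ((D.l_reg c).2 h)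

/-- the principal block: several exceptional characters -/
structure PB (p : ℕ) (P : Subgroup G) (e t : ℕ) where
  X : Finset (IrrCharacter G)
  Y : Finset (IrrCharacter G)
  δ : IrrCharacter G → ℤ
  s : ℤ
  cardX : X.card = e
  cardY : Y.card = t
  disj : ∀ χ ∈ X, χ ∉ Y
  tX : ColTools.triv G ∈ X
  tδ : δ (ColTools.triv G) = 1
  δ_pm : ∀ χ ∈ X, δ χ = 1 ∨ δ χ = -1
  s_pm : s = 1 ∨ s = -1
  valX : ∀ χ ∈ X, ∀ c ∈ Subgroup.centralizer (P : Set G), p ∣ orderOf c → (χ : G → ℂ) c = δ χ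
  sumY : ∀ ψ ∈ Y, ∀ a ∈ Subgroup.centralizer (P : Set G), ¬ p ∣ orderOf a → ∀ [Fintype P],
    ∑ h : P, (ψ : G → ℂ) ((h : G) * a) = (ψ : G → ℂ) a - s * e
  rel : ∀ ψ ∈ Y, ∀ g : G, ¬ p ∣ orderOf g → (s : ℂ) * (ψ : G → ℂ) g = ∑ χ ∈ X, (δ χ : ℂ) * (χ : G → ℂ) g
  degX : ∀ χ ∈ X, ∃ k : ℤ, (deg χ : ℤ) = k * p + δ χ
  degY : ∀ ψ ∈ Y, ∃ k : ℤ, (deg ψ : ℤ) = k * p + s * e
  dvdX : ∀ χ ∈ X, deg χ ∣ (Subgroup.centralizer (P : Set G)).index
  dvdY : ∀ ψ ∈ Y, deg ψ ∣ (Subgroup.centralizer (P : Set G)).index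
  uniq : ∀ χ : IrrCharacter G, ∀ a : ℂ, a ≠ 0 →
    (∀ c ∈ Subgroup.centralizer (P : Set G), p ∣ orderOf c → (χ : G → ℂ) c = a) → χ ∈ X

theorem exists_pb (P : Sylow p G) (hP : Nat.card P = p) {e t : ℕ}
    (he : (Subgroup.centralizer ((P : Subgroup G) : Set G)).relIndex (Subgroup.normalizer ((P : Subgroup G) : Set G)) = e)
    (hpt : p = e * t + 1) (ht : 1 < t) : Nonempty (PB p (P : Subgroup G) e t) := by
  classical
  letI : Fintype G := Fintype.ofFinite G
  obtain ⟨D, hC, ⟨B⟩⟩ := exists_B0 P hP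
  have hr : Nat.card (κu D).range = e := by rw [card_range, he]
  have htau : Nat.card (Tau D) = t := by
    have h1 := p_eq D
    rw [hr] at h1
    have h2 : e * t = e * Nat.card (Tau D) := by omega
    have he0 : 0 < e := by rw [← hr]; exact Nat.card_pos
    exact (Nat.eq_of_mul_eq_mul_left he0 h2).symm
  have ht' : 1 < Nat.card (Tau D) := by rw [htau]; exact ht
  letI : Fintype (Tau D) := Fintype.ofFinite _
  obtain ⟨hT1, hT2⟩ := triv_mem_X B ht'
  have htr : (BlockThird.triv G : IrrCharacter G) = ColTools.triv G := Subtype.ext rfl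
  have hlreg : ∀ c (hc : c ∈ Subgroup.centralizer ((P : Subgroup G) : Set G)), p ∣ orderOf c →
      D.l ⟨c, hc⟩ ≠ 0 := by
    intro c hc h h0
    exact (D.l_reg ⟨c, hc⟩).1 h0 h
  refine ⟨⟨B.X, Finset.univ.image B.Y, B.δ, B.s, ?_, ?_, ?_, ?_, ?_, B.δ_pm, B.s_pm, ?_, ?_, ?_, ?_, ?_, ?_, ?_, ?_⟩⟩
  · rw [B.cardX, hr]
  · rw [Finset.card_image_of_injective _ B.Yinj, Finset.card_univ, ← Nat.card_eq_fintype_card, htau]
  · intro χ hχ h
    obtain ⟨q, -, rfl⟩ := Finset.mem_image.1 h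
    exact B.disj q hχ
  · rw [← htr]; exact hT1
  · rw [← htr]; exact hT2
  · intro χ hχ c hc h
    exact B.valX χ hχ ⟨c, hc⟩ (hlreg c hc h)
  · intro ψ hψ a ha hpa _
    obtain ⟨q, -, rfl⟩ := Finset.mem_image.1 hψ
    have hla : D.l ⟨a, ha⟩ = 0 := (D.l_reg ⟨a, ha⟩).2 hpa
    let ι : ↥(P : Subgroup G) → Subgroup.centralizer ((P : Subgroup G) : Set G) := fun h => ⟨h, D.PC h.2⟩
    have h1 : ∀ h : (P : Subgroup G), (B.Y q : G → ℂ) ((h : G) * a) =
        (B.s * ∑ i : (ZMod p)ˣ, if (i : Tau D) = q then lam D (i : ZMod p) (ι h) else 0) +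
          (if h = 1 then (B.Y q : G → ℂ) a - B.s * e else 0) := by
      intro h
      by_cases hh : h = 1
      · subst hh
        rw [if_pos rfl, Subgroup.coe_one, one_mul]
        have h2 : ∀ i : (ZMod p)ˣ, (if (i : Tau D) = q then lam D (i : ZMod p) (ι 1) else 0) =
            if (i : Tau D) = q then (1 : ℂ) else 0 := by
          intro i
          have : ι 1 = 1 := rfl
          rw [this, lam_one]
        rw [Finset.sum_congr rfl (fun i _ => h2 i), ← Finset.sum_filter, Finset.sum_const, nsmul_eq_mul, mul_one,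
          card_fiber, hr]
        ring
      · rw [if_neg hh, add_zero]
        have hlh : D.l (ι h) ≠ 0 := by
          intro h0
          have h2 := (D.l_reg (ι h)).1 h0
          apply h2
          have h3 : orderOf (h : G) = p := orderOf_mem hP h.2 (fun h4 => hh (Subtype.ext h4))
          change p ∣ orderOf (h : G)
          rw [h3]
        have hmul : (⟨(h : G) * a, Subgroup.mul_mem _ (D.PC h.2) ha⟩ : Subgroup.centralizer ((P : Subgroup G) : Set G)) = ι h * ⟨a, ha⟩ := rfl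
        have h2 := B.valY q ⟨(h : G) * a, Subgroup.mul_mem _ (D.PC h.2) ha⟩ (by
          rw [hmul, D.l_mul, hla, add_zero]; exact hlh)
        refine h2.trans ?_
        congr 1
        refine Finset.sum_congr rfl fun i _ => ?_
        split_ifs with hi
        · rw [hmul, lam, lam, D.l_mul, hla, add_zero]
        · rfl
    rw [Finset.sum_congr rfl (fun h _ => h1 h), Finset.sum_add_distrib, Finset.sum_ite_eq' Finset.univ (1 : (P : Subgroup G)),
      if_pos (Finset.mem_univ _), ← Finset.mul_sum, Finset.sum_comm]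
    have h2 : ∀ i : (ZMod p)ˣ, ∑ h : (P : Subgroup G), (if (i : Tau D) = q then lam D (i : ZMod p) (ι h) else 0) = 0 := by
      intro i
      split_ifs with hi
      · let u : (P : Subgroup G) := ⟨D.u, D.uP⟩
        have h3 : ∀ h : (P : Subgroup G), lam D (i : ZMod p) (ι (u * h)) = lam D (i : ZMod p) (ι u) * lam D (i : ZMod p) (ι h) := by
          intro h
          have : ι (u * h) = ι u * ι h := rfl
          rw [this, lam_mul]
        have h4 : ∑ h : (P : Subgroup G), lam D (i : ZMod p) (ι h) = lam D (i : ZMod p) (ι u) * ∑ h : (P : Subgroup G), lam D (i : ZMod p) (ι h) := by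
          conv_lhs => rw [← Equiv.sum_comp (Equiv.mulLeft u) (fun h : (P : Subgroup G) => lam D (i : ZMod p) (ι h))]
          rw [Finset.mul_sum]
          exact Finset.sum_congr rfl fun h _ => h3 h
        have h5 : lam D (i : ZMod p) (ι u) ≠ 1 := by
          have h6 : lam D (i : ZMod p) (ι u) = ZMod.stdAddChar ((i : ZMod p) * D.l (ι u)) := rfl
          have h7 : D.l (ι u) = 1 := D.l_u
          rw [h6, h7, mul_one]
          intro h8
          have h9 : (ZMod.stdAddChar (i : ZMod p) : ℂ) = ZMod.stdAddChar (0 : ZMod p) := by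
            rw [h8, AddChar.map_zero_eq_one]
          exact i.ne_zero (ZMod.injective_stdAddChar h9)
        have h6 : (1 - lam D (i : ZMod p) (ι u)) * ∑ h : (P : Subgroup G), lam D (i : ZMod p) (ι h) = 0 := by
          linear_combination h4
        exact (mul_eq_zero.1 h6).resolve_left (sub_ne_zero.2 (Ne.symm h5))
      · exact Finset.sum_const_zero
    rw [Finset.sum_congr rfl (fun i _ => h2 i), Finset.sum_const_zero, mul_zero, zero_add]
  · intro ψ hψ g hg
    obtain ⟨q, -, rfl⟩ := Finset.mem_image.1 hψ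
    exact B.rel q g hg
  · intro χ hχ
    obtain ⟨k, hk⟩ := B.degX χ hχ
    exact ⟨k, by rw [← deg_eq, hk]⟩
  · intro ψ hψ
    obtain ⟨q, -, rfl⟩ := Finset.mem_image.1 hψ
    obtain ⟨k, hk⟩ := B.degY q
    exact ⟨k, by rw [← deg_eq, hk, hr]⟩
  · intro χ hχ
    rw [← deg_eq]; exact BRDeg.B0.dvdX B hχ
  · intro ψ hψ
    obtain ⟨q, -, rfl⟩ := Finset.mem_image.1 hψ
    rw [← deg_eq]; exact BRDeg.B0.dvdY B q
  · intro χ a ha h
    by_contra hX
    have h1 : ∀ q, ∑ χ' ∈ B.X, (B.δ χ' : ℂ) * classInner (χ : G → ℂ) (χ' : G → ℂ) - B.s * classInner (χ : G → ℂ) (B.Y q : G → ℂ) = a :=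
      fun q => B.mult χ.2.isClassFunction (fun c hc => h c c.2 (sing_of_l' D c hc)) q
    have h2 : ∑ χ' ∈ B.X, (B.δ χ' : ℂ) * classInner (χ : G → ℂ) (χ' : G → ℂ) = 0 := by
      refine Finset.sum_eq_zero fun χ' hχ' => ?_
      rw [irr_orthonormal, if_neg (fun h => hX (by rw [h]; exact hχ')), mul_zero]
    have h3 : ∀ q, χ = B.Y q := by
      intro q
      by_contra hne
      have h4 := h1 q
      rw [h2, irr_orthonormal, if_neg hne] at h4
      apply ha
      rw [← h4]; ring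
    have : Nontrivial (Tau D) := by
      rw [← not_subsingleton_iff_nontrivial]
      intro h3
      have h4 := Finite.card_le_one_iff_subsingleton (α := Tau D) |>.2 h3
      omega
    obtain ⟨q, q', hq⟩ := exists_pair_ne (Tau D)
    exact hq (B.Yinj ((h3 q).symm.trans (h3 q')))

/-- the principal block with `e = p - 1` -/
structure PB1 (p : ℕ) (P : Subgroup G) where
  X : Finset (IrrCharacter G)
  δ : IrrCharacter G → ℤ
  cardX : X.card = p
  tX : ColTools.triv G ∈ X
  tδ : δ (ColTools.triv G) = 1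
  δ_pm : ∀ χ ∈ X, δ χ = 1 ∨ δ χ = -1
  valX : ∀ χ ∈ X, ∀ c ∈ Subgroup.centralizer (P : Set G), p ∣ orderOf c → (χ : G → ℂ) c = δ χ
  rel : ∑ χ ∈ X, δ χ * (deg χ : ℤ) = 0
  degX : ∀ χ ∈ X, ∃ k : ℤ, (deg χ : ℤ) = k * p + δ χ
  dvdX : ∀ χ ∈ X, deg χ ∣ (Subgroup.centralizer (P : Set G)).index

theorem exists_pb1 (P : Sylow p G) (hP : Nat.card P = p)
    (he : (Subgroup.centralizer ((P : Subgroup G) : Set G)).relIndex (Subgroup.normalizer ((P : Subgroup G) : Set G)) + 1 = p) :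
    Nonempty (PB1 p (P : Subgroup G)) := by
  classical
  letI : Fintype G := Fintype.ofFinite G
  obtain ⟨D, hC, ⟨B⟩⟩ := exists_B0 P hP
  have hr : Nat.card (κu D).range + 1 = p := by rw [card_range, he]
  have htau : Nat.card (Tau D) = 1 := by
    have h1 := p_eq D
    have he0 : 0 < Nat.card (κu D).range := Nat.card_pos
    have h2 : Nat.card (κu D).range * Nat.card (Tau D) = Nat.card (κu D).range * 1 := by omega
    exact Nat.eq_of_mul_eq_mul_left he0 h2
  obtain ⟨S⟩ := BROne.exists_S1 B htau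
  have htr : (BlockThird.triv G : IrrCharacter G) = ColTools.triv G := Subtype.ext rfl
  refine ⟨⟨S.X, S.δ, ?_, ?_, ?_, S.δ_pm, ?_, ?_, ?_, ?_⟩⟩
  · rw [S.cardX, hr]
  · rw [← htr]; exact S.htriv.1
  · rw [← htr]; exact S.htriv.2
  · intro χ hχ c hc h
    exact S.valX χ hχ ⟨c, hc⟩ (fun h0 => (D.l_reg ⟨c, hc⟩).1 h0 h)
  · have h1 := S.rel
    simp only [apply_one] at h1
    exact_mod_cast h1
  · intro χ hχ
    obtain ⟨k, hk⟩ := S.degX χ hχ
    exact ⟨k, by rw [← deg_eq, hk]⟩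
  · intro χ hχ
    rw [← deg_eq]; exact S.dvdX χ hχ

end pb

section sylow

open Cfsg.Agent.Lib.DefOneLoc Cfsg.Agent.Lib.DefOneOrd Cfsg.Agent.Lib.BRB0 Cfsg.Agent.Lib.DefOnePrin
  Cfsg.Agent.Lib.BRCore Cfsg.Agent.Lib.DefOneGram Cfsg.Agent.Lib.DefOne

variable {G : Type u} [Group G] [Finite G] {p : ℕ} [hp : Fact p.Prime]

/-- inertial index and Sylow number -/
theorem index_mul (P : Sylow p G) (hP : Nat.card P = p) :
    Nat.card (Sylow p G) * ((Subgroup.centralizer ((P : Subgroup G) : Set G)).relIndex (Subgroup.normalizer ((P : Subgroup G) : Set G)) *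
      Nat.card (Subgroup.centralizer ((P : Subgroup G) : Set G))) = Nat.card G ∧
    (Subgroup.centralizer ((P : Subgroup G) : Set G)).relIndex (Subgroup.normalizer ((P : Subgroup G) : Set G)) ∣ p - 1 ∧
    p ∣ Nat.card (Subgroup.centralizer ((P : Subgroup G) : Set G)) := by
  classical
  letI : Fintype G := Fintype.ofFinite G
  obtain ⟨D, hC, ⟨B⟩⟩ := exists_B0 P hP
  have h1 := Sylow.card_eq_index_normalizer P
  have h2 : (Subgroup.centralizer ((P : Subgroup G) : Set G)).relIndex (Subgroup.normalizer ((P : Subgroup G) : Set G)) *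
      Nat.card (Subgroup.centralizer ((P : Subgroup G) : Set G)) = Nat.card (Subgroup.normalizer ((P : Subgroup G) : Set G)) := by
    have h3 := Subgroup.relIndex_mul_relIndex (⊥ : Subgroup G) _ _ bot_le D.CN
    rw [Subgroup.relIndex_bot_left, Subgroup.relIndex_bot_left] at h3
    rw [mul_comm]
    exact h3
  refine ⟨?_, ?_, ?_⟩
  · rw [h2, h1, mul_comm]
    exact Subgroup.card_mul_index _
  · have h3 := p_eq D
    rw [card_range] at h3
    exact ⟨Nat.card (Tau D), by omega⟩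
  · have h3 := Subgroup.card_dvd_of_le D.PC
    rwa [hP] at h3

end sylow

end Cfsg.Agent.Lib.PBlock
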