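import Mathlib
import Cfsg.Agent.Lib.PBlock
import Cfsg.Agent.Lib.SylowCount
import Cfsg.Agent.Lib.SmallSimple3

/-!
# The principal block with a Sylow subgroup of prime order: fixed spaces (helper7)
-/

set_option autoImplicit false
set_option linter.all false

namespace Cfsg.Agent.Lib.PBlock

open scoped ComplexConjugate
open Cfsg Cfsg.Agent.Lib.CharBasic Module
open Cfsg.Agent.Lib.ColTools (deg deg_pos apply_one deg_dvd triv norm_lt val_two)

universe u

variable {G : Type u} [Group G] [Finite G] {p : ℕ} [hp : Fact p.Prime]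

/-- commuting `p`-part -/
theorem dvd_orderOf_mul {P : Subgroup G} (hP : Nat.card P = p) {a : G} (ha : a ∈ Subgroup.centralizer (P : Set G))
    (hpa : ¬ p ∣ orderOf a) {h : G} (hh : h ∈ P) (h1 : h ≠ 1) : p ∣ orderOf (h * a) := by
  have h2 := orderOf_mem hP hh h1
  have h3 : Commute h a := Subgroup.mem_centralizer_iff.1 ha h hh
  rw [h3.orderOf_mul_eq_mul_orderOf_of_coprime (by rw [h2]; exact (Nat.Prime.coprime_iff_not_dvd hp.out).2 hpa), h2]
  exact dvd_mul_right _ _

theorem le_cent {P : Subgroup G} (hP : Nat.card P = p) : P ≤ Subgroup.centralizer (P : Set G) := by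
  have : IsCyclic P := isCyclic_of_prime_card hP
  intro x hx
  rw [Subgroup.mem_centralizer_iff]
  intro y hy
  have h1 := IsCyclic.commGroup (α := P) |>.mul_comm ⟨y, hy⟩ ⟨x, hx⟩
  exact congrArg Subtype.val h1

theorem sum_const {χ : G → ℂ} {P : Subgroup G} (hP : Nat.card P = p) [Fintype P] {δ : ℂ}
    (hval : ∀ c ∈ Subgroup.centralizer (P : Set G), p ∣ orderOf c → χ c = δ) {a : G}
    (ha : a ∈ Subgroup.centralizer (P : Set G)) (hpa : ¬ p ∣ orderOf a) :
    ∑ h : P, χ ((h : G) * a) = χ a + (p - 1) * δ := by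
  classical
  have h1 : ∀ h : P, χ ((h : G) * a) = δ + (if h = 1 then χ a - δ else 0) := by
    intro h
    by_cases hh : h = 1
    · subst hh
      rw [if_pos rfl, Subgroup.coe_one, one_mul]; ring
    · rw [if_neg hh, add_zero]
      exact hval _ (Subgroup.mul_mem _ (le_cent hP h.2) ha)
        (dvd_orderOf_mul hP ha hpa h.2 (fun h2 => hh (Subtype.ext h2)))
  rw [Finset.sum_congr rfl (fun h _ => h1 h), Finset.sum_add_distrib, Finset.sum_const, Finset.card_univ,
    Finset.sum_ite_eq' Finset.univ (1 : P), if_pos (Finset.mem_univ _), ← Nat.card_eq_fintype_card, hP, nsmul_eq_mul]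
  ring

theorem eq_one_of_fix0 [IsSimpleGroup G] (hna : ¬ IsMulCommutative G) {χ : IrrCharacter G} (hχ : χ ≠ triv G)
    {P : Subgroup G} [Fintype P] (h0 : ∑ h : P, (χ : G → ℂ) (h : G) = 0) {a : G}
    (ha : a ∈ Subgroup.centralizer (P : Set G)) (hsum : ∑ h : P, (χ : G → ℂ) ((h : G) * a) = (χ : G → ℂ) a - deg χ) :
    a = 1 := by
  by_contra hne
  have h1 := fix_zero χ.2.isCharacter P (Subgroup.centralizer (P : Set G)) (by
    intro n hn h hh
    have : h * n = n * h := Subgroup.mem_centralizer_iff.1 hn h hh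
    rw [← this, mul_inv_cancel_right]; exact hh) h0 ha
  rw [h1] at hsum
  have h2 := norm_lt hna hχ hne
  rw [show (χ : G → ℂ) a = deg χ by linear_combination -hsum] at h2
  rw [Complex.norm_natCast] at h2
  exact lt_irrefl _ h2

theorem card_cent_of {P : Subgroup G} (hP : Nat.card P = p) (hsq : ¬ p ^ 2 ∣ Nat.card G)
    (h : ∀ a ∈ Subgroup.centralizer (P : Set G), ¬ p ∣ orderOf a → a = 1) :
    Nat.card (Subgroup.centralizer (P : Set G)) = p := by
  have h1 : ∀ {q : ℕ}, q.Prime → q ∣ Nat.card (Subgroup.centralizer (P : Set G)) → q = p := by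
    intro q hq hqd
    by_contra hne
    have : Fact q.Prime := ⟨hq⟩
    obtain ⟨a, ha⟩ := exists_prime_orderOf_dvd_card' q hqd
    have h2 := h a a.2 (by
      rw [Subgroup.orderOf_coe, ha]
      intro h3
      exact hne ((Nat.prime_dvd_prime_iff_eq hp.out hq).1 h3).symm)
    have h3 : orderOf (a : G) = 1 := by rw [h2, orderOf_one]
    rw [Subgroup.orderOf_coe, ha] at h3
    exact hq.one_lt.ne' h3
  have h2 := Nat.eq_prime_pow_of_unique_prime_dvd (n := Nat.card (Subgroup.centralizer (P : Set G))) Nat.card_pos.ne' h1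
  have h3 : p ∣ Nat.card (Subgroup.centralizer (P : Set G)) := by
    have := Subgroup.card_dvd_of_le (le_cent hP)
    rwa [hP] at this
  have h4 : ¬ p ^ 2 ∣ Nat.card (Subgroup.centralizer (P : Set G)) := fun h => hsq (h.trans (Subgroup.card_subgroup_dvd_card _))
  rw [h2] at h3 h4 ⊢
  set k := (Nat.card (Subgroup.centralizer (P : Set G))).primeFactorsList.length
  have h5 : k < 2 := by
    by_contra hk
    exact h4 (pow_dvd_pow p (by omega))
  have h6 : k ≠ 0 := by
    intro hk
    rw [hk, pow_zero] at h3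
    exact hp.out.one_lt.ne' (Nat.dvd_one.1 h3)
  have h7 : k = 1 := by omega
  rw [h7, pow_one]

/-- characters of degree `p - 1` in the principal block -/
theorem cent_of_X [IsSimpleGroup G] (hna : ¬ IsMulCommutative G) {P : Subgroup G} (hP : Nat.card P = p)
    (hsq : ¬ p ^ 2 ∣ Nat.card G) {χ : IrrCharacter G} (hχ : χ ≠ triv G)
    (hval : ∀ c ∈ Subgroup.centralizer (P : Set G), p ∣ orderOf c → (χ : G → ℂ) c = -1) (hd : deg χ + 1 = p) :
    Nat.card (Subgroup.centralizer (P : Set G)) = p := by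
  classical
  haveI : Fintype P := Fintype.ofFinite P
  have hd' : (p : ℂ) = deg χ + 1 := by exact_mod_cast hd.symm
  refine card_cent_of hP hsq fun a ha hpa => ?_
  refine eq_one_of_fix0 hna hχ (P := P) ?_ ha ?_
  · have h1 := sum_const hP hval (Subgroup.one_mem _) (by rw [orderOf_one]; exact fun h => hp.out.one_lt.ne' (Nat.dvd_one.1 h))
    simp only [mul_one] at h1
    rw [h1, apply_one, hd']; ring
  · rw [sum_const hP hval ha hpa, hd']; ring

/-- exceptional characters of degree `e` in the principal block -/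
theorem cent_of_Y [IsSimpleGroup G] (hna : ¬ IsMulCommutative G) {P : Subgroup G} (hP : Nat.card P = p)
    (hsq : ¬ p ^ 2 ∣ Nat.card G) {e t : ℕ} (B : PB p P e t) {ψ : IrrCharacter G} (hψ : ψ ∈ B.Y) (hs : B.s = 1) (hd : deg ψ = e) :
    Nat.card (Subgroup.centralizer (P : Set G)) = p := by
  classical
  haveI : Fintype P := Fintype.ofFinite P
  have hψ1 : ψ ≠ triv G := fun h => B.disj _ B.tX (h ▸ hψ)
  refine card_cent_of hP hsq fun a ha hpa => ?_
  refine eq_one_of_fix0 hna hψ1 (P := P) ?_ ha ?_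
  · have h1 := B.sumY ψ hψ 1 (Subgroup.one_mem _) (by rw [orderOf_one]; exact fun h => hp.out.one_lt.ne' (Nat.dvd_one.1 h))
    simp only [mul_one] at h1
    rw [h1, apply_one, hs, hd]; push_cast; ring
  · rw [B.sumY ψ hψ a ha hpa, hs, hd]; push_cast; ring

/-- traces of involutions on the fixed space -/
theorem fix_inv {χ : G → ℂ} (hχ : IsCharacter G χ) {P N : Subgroup G} [Fintype P] (hP : Nat.card P = p)
    (hN : ∀ n ∈ N, ∀ h ∈ P, n * h * n⁻¹ ∈ P) {a : G} (ha : a ∈ N) (ha2 : a ^ 2 = 1) :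
    ∃ n0 n1 : ℕ, ∑ h : P, χ (h : G) = p * (n0 + n1) ∧ ∑ h : P, χ ((h : G) * a) = p * (n0 - n1) := by
  have h1 := fixChar hχ P N hN
  obtain ⟨n0, n1, h2, h3, -⟩ := val_two h1 ⟨a, ha⟩ (Subtype.ext ha2)
  have hp0 : (p : ℂ) ≠ 0 := by exact_mod_cast hp.out.ne_zero
  refine ⟨n0, n1, ?_, ?_⟩
  · simp only [Subgroup.coe_one, mul_one, hP] at h2
    rw [← h2, ← mul_assoc, mul_inv_cancel₀ hp0, one_mul]
  · simp only [hP] at h3
    rw [← h3, ← mul_assoc, mul_inv_cancel₀ hp0, one_mul]

end Cfsg.Agent.Lib.PBlock
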