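import Mathlib
import Cfsg.Agent.Lib.PBlock2
import Cfsg.Agent.Lib.M11B

/-!
# Simple groups of order 95040, part A: the Sylow 11-normalizer (helper7)
-/

set_option autoImplicit false
set_option linter.all false

namespace Cfsg.Agent.Lib.M12ByOrder

open Subgroup Cfsg Cfsg.Agent.Lib.CharBasic Cfsg.Agent.Lib.ColTools Cfsg.Agent.Lib.SmallSimple
  Cfsg.Agent.Lib.PBlock
open scoped ComplexConjugate

universe u

instance fact11 : Fact (Nat.Prime 11) := ⟨by norm_num⟩
instance fact5 : Fact (Nat.Prime 5) := ⟨by norm_num⟩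
instance fact3 : Fact (Nat.Prime 3) := ⟨by norm_num⟩

theorem ar1 : ∀ d ∈ Nat.divisors 8640, ∀ y ∈ Nat.divisors 8640, (d % 11 = 1 → d ≠ 1 → y ≠ d + 1) ∧
    (d % 11 = 10 → y + 1 = d → d = 10) := by decide +kernel

theorem ar2 : ∀ a ∈ Finset.range 5, ∀ b ∈ Finset.range 5, ∀ c ∈ Finset.range 5, ∀ m ∈ Finset.range 5, a + b + c + m = 4 →
    ∀ y ∈ Nat.divisors 720,
      (1 + 12 * (a : ℤ) + 45 * b + 144 * c - 120 * m = y → y % 11 = 5 → y ≠ 5 → y = 16) ∧
      (1 + 12 * (a : ℤ) + 45 * b + 144 * c - 120 * m = - y → y % 11 ≠ 6) := by decide +kernel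

theorem ar3 : ∀ d ∈ Nat.divisors 720, (d % 11 = 1 → d ≠ 1 → d = 12 ∨ d = 45 ∨ d = 144) ∧ (d % 11 = 10 → d = 10 ∨ d = 120) := by
  decide +kernel

variable {G : Type u} [Group G] [Finite G] [IsSimpleGroup G]

theorem notComm (hG : Nat.card G = 95040) : ¬ IsMulCommutative G :=
  not_isMulCommutative_of_card hG (by norm_num)

/-- degrees in the block -/
theorem deg_mod {p : ℕ} {d : ℕ} {k δ : ℤ} (h : (d : ℤ) = k * p + δ) : (d : ℤ) % p = δ % p := by
  rw [h, Int.add_emod, Int.mul_emod_left, zero_add, Int.emod_emod]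

theorem case_two (hG : Nat.card G = 95040) (P : Sylow 11 G) (hP : Nat.card (P : Subgroup G) = 11)
    (he : (centralizer ((P : Subgroup G) : Set G)).relIndex (normalizer ((P : Subgroup G) : Set G)) = 2)
    (hC : Nat.card (centralizer ((P : Subgroup G) : Set G)) ≠ 11) : False := by
  classical
  have hna := notComm hG
  have hsq : ¬ 11 ^ 2 ∣ Nat.card G := by rw [hG]; norm_num
  obtain ⟨B⟩ := exists_pb P hP (e := 2) (t := 5) he (by norm_num) (by norm_num)
  have hdvd : ∀ χ : IrrCharacter G, deg χ ∣ (centralizer ((P : Subgroup G) : Set G)).index → deg χ ∈ Nat.divisors 8640 := by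
    intro χ hχ
    rw [Nat.mem_divisors]
    refine ⟨hχ.trans ?_, by norm_num⟩
    have h1 := Subgroup.card_mul_index (centralizer ((P : Subgroup G) : Set G))
    obtain ⟨c, hc⟩ := (index_mul P hP).2.2
    rw [hc, hG] at h1
    exact ⟨c, by
      have : 11 * (c * (centralizer ((P : Subgroup G) : Set G)).index) = 11 * 8640 := by rw [← mul_assoc, h1]
      have := Nat.eq_of_mul_eq_mul_left (by norm_num) this
      rw [mul_comm]; exact this.symm⟩
  obtain ⟨χ, hχ, hχ1⟩ := Finset.exists_mem_ne (by rw [B.cardX]; norm_num : 1 < B.X.card) (triv G)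
  obtain ⟨ψ, hψ⟩ := Finset.card_pos.1 (by rw [B.cardY]; norm_num : 0 < B.Y.card)
  have hX : B.X = {triv G, χ} := by
    symm
    apply Finset.eq_of_subset_of_card_le
    · intro a ha
      rcases Finset.mem_insert.1 ha with rfl | ha
      · exact B.tX
      · rw [Finset.mem_singleton.1 ha]; exact hχ
    · rw [B.cardX, Finset.card_pair hχ1.symm]
  have hrel := B.rel ψ hψ 1 (by rw [orderOf_one]; norm_num)
  rw [hX, Finset.sum_pair hχ1.symm, B.tδ, apply_one, apply_one, apply_one, deg_triv] at hrel
  have hrel' : B.s * deg ψ = 1 + B.δ χ * deg χ := by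
    have : ((B.s * deg ψ : ℤ) : ℂ) = ((1 + B.δ χ * deg χ : ℤ) : ℂ) := by push_cast; push_cast at hrel; rw [hrel]; ring
    exact_mod_cast this
  have hd1 : deg χ ≠ 1 := fun h => hχ1 (eq_triv_of_deg_one hna h)
  obtain ⟨k, hk⟩ := B.degX χ hχ
  have hm := deg_mod hk
  have h4 := ar1 _ (hdvd χ (B.dvdX χ hχ)) _ (hdvd ψ (B.dvdY ψ hψ))
  have hp1 := deg_pos χ
  have hp2 := deg_pos ψ
  rcases B.δ_pm χ hχ with h1 | h1 <;> rcases B.s_pm with h2 | h2 <;> rw [h1] at hrel' hm <;> rw [h2] at hrel' <;> push_cast at hm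
  · exact h4.1 (by omega) hd1 (by omega)
  · omega
  · omega
  · have h5 := h4.2 (by omega) (by omega)
    apply hC
    refine cent_of_X hna hP hsq hχ1 (fun c hc h => ?_) (by rw [h5])
    rw [B.valX χ hχ c hc h, h1]; norm_num

theorem case_five (hG : Nat.card G = 95040) (P : Sylow 11 G) (hP : Nat.card (P : Subgroup G) = 11)
    (he : (centralizer ((P : Subgroup G) : Set G)).relIndex (normalizer ((P : Subgroup G) : Set G)) = 5)
    (hC : Nat.card (centralizer ((P : Subgroup G) : Set G)) = 11 * 12) : False := by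
  classical
  have hna := notComm hG
  have hsq : ¬ 11 ^ 2 ∣ Nat.card G := by rw [hG]; norm_num
  obtain ⟨B⟩ := exists_pb P hP (e := 5) (t := 2) he (by norm_num) (by norm_num)
  have hidx : (centralizer ((P : Subgroup G) : Set G)).index = 720 := by
    have h1 := Subgroup.card_mul_index (centralizer ((P : Subgroup G) : Set G))
    rw [hC, hG] at h1
    omega
  have hdvd : ∀ χ : IrrCharacter G, deg χ ∣ (centralizer ((P : Subgroup G) : Set G)).index → deg χ ∈ Nat.divisors 720 := by
    intro χ hχ
    rw [Nat.mem_divisors]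
    rw [hidx] at hχ
    exact ⟨hχ, by norm_num⟩
  have hno10 : ∀ χ ∈ B.X, χ ≠ triv G → B.δ χ = -1 → deg χ ≠ 10 := by
    intro χ hχ hχ1 h1 hd
    have := cent_of_X hna hP hsq hχ1 (fun c hc h => by rw [B.valX χ hχ c hc h, h1]; norm_num) (by rw [hd])
    omega
  obtain ⟨ψ, hψ⟩ := Finset.card_pos.1 (by rw [B.cardY]; norm_num : 0 < B.Y.card)
  have hno5 : B.s = 1 → deg ψ ≠ 5 := by
    intro h1 hd
    have := cent_of_Y hna hP hsq B hψ h1 hd
    omega
  set T : Finset (ℤ × ℕ) := {(1, 12), (1, 45), (1, 144), (-1, 120)} with hT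
  have hmem : ∀ χ ∈ B.X.erase (triv G), (B.δ χ, deg χ) ∈ T := by
    intro χ hχ
    obtain ⟨hχ1, hχ⟩ := Finset.mem_erase.1 hχ
    have hd1 : deg χ ≠ 1 := fun h => hχ1 (eq_triv_of_deg_one hna h)
    obtain ⟨k, hk⟩ := B.degX χ hχ
    have hm := deg_mod hk
    have h3 := ar3 _ (hdvd χ (B.dvdX χ hχ))
    rcases B.δ_pm χ hχ with h1 | h1 <;> rw [h1] at hm ⊢ <;> push_cast at hm
    · rcases h3.1 (by omega) hd1 with h | h | h <;> rw [h] <;> decide
    · rcases h3.2 (by omega) with h | h
      · exact absurd h (hno10 χ hχ hχ1 h1)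
      · rw [h]; decide
  have hs1 := sum_by_type (B.X.erase (triv G)) T (fun χ => (B.δ χ, deg χ)) hmem (fun v => 1)
  have hs2 := sum_by_type (B.X.erase (triv G)) T (fun χ => (B.δ χ, deg χ)) hmem (fun v => v.1 * v.2)
  rw [Finset.sum_const, Finset.card_erase_of_mem B.tX, B.cardX] at hs1
  have hrel := B.rel ψ hψ 1 (by rw [orderOf_one]; norm_num)
  rw [← Finset.add_sum_erase _ _ B.tX, B.tδ] at hrel
  simp only [apply_one, deg_triv] at hrel
  have hrel' : B.s * deg ψ = 1 + ∑ χ ∈ B.X.erase (triv G), B.δ χ * deg χ := by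
    have : ((B.s * deg ψ : ℤ) : ℂ) = ((1 + ∑ χ ∈ B.X.erase (triv G), B.δ χ * deg χ : ℤ) : ℂ) := by
      push_cast; push_cast at hrel; rw [hrel]; ring
    exact_mod_cast this
  rw [hs2] at hrel'
  rw [hT] at hs1 hrel'
  rw [Finset.sum_insert (by decide), Finset.sum_insert (by decide), Finset.sum_insert (by decide), Finset.sum_singleton] at hs1 hrel'
  set a := ((B.X.erase (triv G)).filter (fun χ => (B.δ χ, deg χ) = (1, 12))).card
  set b := ((B.X.erase (triv G)).filter (fun χ => (B.δ χ, deg χ) = (1, 45))).card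
  set c := ((B.X.erase (triv G)).filter (fun χ => (B.δ χ, deg χ) = (1, 144))).card
  set m := ((B.X.erase (triv G)).filter (fun χ => (B.δ χ, deg χ) = (-1, 120))).card
  simp only [nsmul_eq_mul, mul_one] at hs1
  norm_num at hs1
  have habcm : a + b + c + m = 4 := by
    omega
  obtain ⟨k, hk⟩ := B.degY ψ hψ
  have hmod := deg_mod hk
  have h2 := ar2 a (Finset.mem_range.2 (by omega)) b (Finset.mem_range.2 (by omega)) c (Finset.mem_range.2 (by omega)) m
    (Finset.mem_range.2 (by omega)) habcm _ (hdvd ψ (B.dvdY ψ hψ))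
  rcases B.s_pm with hs | hs
  · rw [hs] at hmod hrel'
    push_cast at hmod hrel'
    have h16 := h2.1 (by linarith) (by omega) (hno5 hs)
    -- an involution centralizing `P`
    obtain ⟨a', ha'⟩ := exists_prime_orderOf_dvd_card' (G := centralizer ((P : Subgroup G) : Set G)) 2 (by rw [hC]; norm_num)
    have ho : orderOf (a' : G) = 2 := by rw [Subgroup.orderOf_coe, ha']
    have ha2 : (a' : G) ^ 2 = 1 := by rw [← ho]; exact pow_orderOf_eq_one _
    haveI : Fintype (P : Subgroup G) := Fintype.ofFinite _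
    obtain ⟨n0, n1, h3, h4⟩ := fix_inv (p := 11) ψ.2.isCharacter (P := (P : Subgroup G)) (N := centralizer ((P : Subgroup G) : Set G)) hP
      (by
        intro n hn h hh
        have : h * n = n * h := Subgroup.mem_centralizer_iff.1 hn h hh
        rw [← this, mul_inv_cancel_right]; exact hh) a'.2 ha2
    have h5 := B.sumY ψ hψ 1 (Subgroup.one_mem _) (by rw [orderOf_one]; norm_num)
    have h6 := B.sumY ψ hψ a' a'.2 (by rw [ho]; norm_num)
    simp only [mul_one] at h5
    rw [h3, apply_one, h16, hs] at h5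
    rw [h4, hs] at h6
    have h7 : n0 + n1 = 1 := by
      have : ((11 * (n0 + n1) : ℕ) : ℂ) = (11 : ℕ) := by push_cast; push_cast at h5; rw [h5]; norm_num
      have : 11 * (n0 + n1) = 11 := by exact_mod_cast this
      omega
    have hψ1 : ψ ≠ triv G := fun h => B.disj _ B.tX (h ▸ hψ)
    obtain ⟨v, hv1, hv2, hv3, hv4, hv5⟩ := val_inv hna ψ a' ha2
    have hv6 := hv5 (fun h => by rw [h, orderOf_one] at ho; omega) hψ1
    rw [hv1] at h6
    have h8 : 11 * ((n0 : ℤ) - n1) = v - 5 := by
      have : ((11 * ((n0 : ℤ) - n1) : ℤ) : ℂ) = ((v - 5 : ℤ) : ℂ) := by push_cast; push_cast at h6; rw [h6]; ring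
      exact_mod_cast this
    rw [h16] at hv2 hv6
    push_cast at hv2 hv6
    omega
  · rw [hs] at hmod hrel'
    push_cast at hmod hrel'
    exact h2.2 (by linarith) (by omega)

theorem index12_false (hG : Nat.card G = 95040) (M : Subgroup G) (hM : M.index = 12) (P : Sylow 11 G)
    (hP : 55 < Nat.card (normalizer ((P : Subgroup G) : Set G))) : False := by
  have hna := notComm hG
  have h1 := normalizer_dvd_of_index hna (p := 11) (by norm_num) M (Or.inr hM) (by rw [hG]; norm_num) P
  have := Nat.le_of_dvd (by norm_num) h1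
  omega

/-- the case `|N(P)| = 660`, `|C(P)| = 66` -/
theorem case_ten (hG : Nat.card G = 95040) (P : Sylow 11 G) (hP : Nat.card (P : Subgroup G) = 11)
    (hN : Nat.card (normalizer ((P : Subgroup G) : Set G)) = 660)
    (hC : Nat.card (centralizer ((P : Subgroup G) : Set G)) = 66) : False := by
  classical
  have hna := notComm hG
  set C := centralizer ((P : Subgroup G) : Set G) with hCdef
  set N := normalizer ((P : Subgroup G) : Set G) with hNdef
  have hPC : (P : Subgroup G) ≤ C := le_cent hP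
  have hCN : C ≤ N := Subgroup.centralizer_le_normalizer _
  -- the Sylow 3-subgroup of `C` is unique
  obtain ⟨Q⟩ : Nonempty (Sylow 3 C) := inferInstance
  have hQ : Nat.card (Q : Subgroup C) = 3 := by
    have := sylow_card_of (G := C) (p := 3) (k := 1) (m := 22) (by rw [hC]; norm_num) (by norm_num) Q
    simpa using this
  have hQ1 : Nat.card (Sylow 3 C) = 1 := by
    have h1 := nsyl_mem (G := C) (p := 3) (k := 1) (m := 22) (by rw [hC]; norm_num) (by norm_num)
    have h2 : (Nat.divisors 22).filter (fun d => d % 3 = 1) = {1, 22} := by decide +kernel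
    rw [h2] at h1
    simp only [Finset.mem_insert, Finset.mem_singleton] at h1
    rcases h1 with h1 | h1
    · exact h1
    · exfalso
      have h3 := card_normalizer_mul_nsyl Q
      rw [h1, hC] at h3
      have h4 : (P : Subgroup G).subgroupOf C ≤ normalizer ((Q : Subgroup C) : Set C) := by
        intro x hx
        have hx' : (x : G) ∈ (P : Subgroup G) := mem_subgroupOf.1 hx
        have hcomm : ∀ y : C, x * y = y * x := by
          intro y
          apply Subtype.ext
          exact (mem_centralizer_iff.1 y.2 x hx')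
        rw [mem_normalizer_iff]
        intro y
        rw [hcomm y, mul_inv_cancel_right]
      have h5 := card_dvd_of_le h4
      rw [Nat.card_congr (subgroupOfEquivOfLe hPC).toEquiv, hP] at h5
      omega
  have hQn : (Q : Subgroup C).Normal := normal_of_nsyl_eq_one hQ1 Q
  have hQi : (Q : Subgroup C).index = 22 := by
    have h1 := Subgroup.card_mul_index (Q : Subgroup C)
    rw [hQ, hC] at h1
    omega
  set W : Subgroup G := (Q : Subgroup C).map C.subtype with hW
  have hWmem : ∀ g : G, g ∈ W ↔ g ∈ C ∧ g ^ 3 = 1 := by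
    intro g
    constructor
    · rintro ⟨y, hy, rfl⟩
      refine ⟨y.2, ?_⟩
      have h1 : y ^ Nat.card (Q : Subgroup C) = 1 := by
        have := pow_card_eq_one' (x := (⟨y, hy⟩ : (Q : Subgroup C)))
        exact congrArg Subtype.val this
      rw [hQ] at h1
      exact congrArg Subtype.val h1
    · rintro ⟨hg, h3⟩
      refine ⟨⟨g, hg⟩, ?_, rfl⟩
      apply mem_of_orderOf_coprime_index
      rw [hQi]
      have h4 : orderOf (⟨g, hg⟩ : C) ∣ 3 := orderOf_dvd_of_pow_eq_one (Subtype.ext h3)
      exact Nat.Coprime.coprime_dvd_left h4 (by norm_num)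
  have hWc : Nat.card W = 3 := by
    rw [hW, Nat.card_congr ((Q : Subgroup C).equivMapOfInjective _ C.subtype_injective).symm.toEquiv, hQ]
  have hWp : IsPGroup 3 W := IsPGroup.of_card (n := 1) (by rw [hWc]; norm_num)
  set M := normalizer (W : Set G) with hM
  have hconjC : ∀ n ∈ N, ∀ g ∈ C, n * g * n⁻¹ ∈ C := by
    intro n hn g hg
    rw [hCdef, mem_centralizer_iff]
    intro x hx
    have h1 : n⁻¹ * x * n ∈ (P : Subgroup G) := by
      have := (mem_normalizer_iff.1 (N.inv_mem hn) x).1 hx
      rwa [inv_inv] at this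
    have h2 := mem_centralizer_iff.1 hg _ h1
    calc x * (n * g * n⁻¹) = n * ((n⁻¹ * x * n) * g) * n⁻¹ := by group
      _ = n * (g * (n⁻¹ * x * n)) * n⁻¹ := by rw [h2]
      _ = n * g * n⁻¹ * x := by group
  have hNM : N ≤ M := by
    intro n hn
    have key : ∀ m ∈ N, ∀ g ∈ W, m * g * m⁻¹ ∈ W := by
      intro m hm g hg
      obtain ⟨h1, h2⟩ := (hWmem g).1 hg
      exact (hWmem _).2 ⟨hconjC m hm g h1, by rw [conj_pow, h2, mul_one, mul_inv_cancel]⟩
    rw [hM, mem_normalizer_iff]
    intro g
    refine ⟨key n hn g, fun hg => ?_⟩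
    have h1 := key n⁻¹ (N.inv_mem hn) _ hg
    rwa [inv_inv, show n⁻¹ * (n * g * n⁻¹) * n = g by group] at h1
  have hPN : (P : Subgroup G) ≤ N := hPC.trans hCN
  have hPM : (P : Subgroup G) ≤ M := hPN.trans hNM
  -- Sylow 11-subgroups of `M`
  have hcM : Nat.card M ∣ 95040 := by rw [← hG]; exact card_subgroup_dvd_card _
  have hMn : ∃ n : ℕ, n % 11 = 1 ∧ Nat.card M = 660 * n := by
    refine ⟨Nat.card (Sylow 11 M), nsyl_mod 11 M, ?_⟩
    have h1 := card_normalizer_mul_nsyl (P.subtype hPM)
    rw [← h1]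
    congr 1
    have h2 : ((P.subtype hPM : Sylow 11 M) : Subgroup M) = (P : Subgroup G).subgroupOf M := rfl
    have h3 : normalizer (((P.subtype hPM : Sylow 11 M) : Subgroup M) : Set M) = N.subgroupOf M := by
      rw [h2]
      exact (Subgroup.subgroupOf_normalizer_eq hPM).symm
    rw [h3, Nat.card_congr (subgroupOfEquivOfLe hNM).toEquiv, hN]
  obtain ⟨n, hn1, hn2⟩ := hMn
  have hn3 : n ∣ 144 := by
    rw [hn2] at hcM
    exact Nat.dvd_of_mul_dvd_mul_left (by norm_num : 0 < 660) (by simpa using hcM)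
  have hn4 : n = 1 ∨ n = 12 ∨ n = 144 := by
    have h1 : ∀ d ∈ Nat.divisors 144, d % 11 = 1 → d = 1 ∨ d = 12 ∨ d = 144 := by decide +kernel
    exact h1 n (Nat.mem_divisors.2 ⟨hn3, by norm_num⟩) hn1
  have hidx := Subgroup.card_mul_index M
  rw [hG, hn2] at hidx
  rcases hn4 with h | h | h
  · -- `M = N`
    rw [h] at hn2
    have hMN : M = N := (eq_of_le_of_card_ge hNM (by rw [hn2, hN])).symm
    have hns : Nat.card (Sylow 11 G) = 144 := by
      have h1 := card_normalizer_mul_nsyl P
      rw [hG, ← hNdef, hN] at h1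
      omega
    have h1 := hWp.card_modEq_card_fixedPoints (Sylow 11 G)
    rw [hns] at h1
    have hPfix : P ∈ MulAction.fixedPoints W (Sylow 11 G) := by
      intro w
      have hw : (w : G) ∈ N := hCN ((hWmem _).1 w.2).1
      exact Sylow.smul_eq_iff_mem_normalizer.2 hw
    have h2 : 1 < Nat.card (MulAction.fixedPoints W (Sylow 11 G)) := by
      have h3 : Nat.card (MulAction.fixedPoints W (Sylow 11 G)) ≠ 0 := by
        have : Nonempty (MulAction.fixedPoints W (Sylow 11 G)) := ⟨⟨P, hPfix⟩⟩
        exact Nat.card_pos.ne'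
      have h4 : 144 % 3 = Nat.card (MulAction.fixedPoints W (Sylow 11 G)) % 3 := h1
      omega
    have : Nontrivial (MulAction.fixedPoints W (Sylow 11 G)) := (Finite.one_lt_card_iff_nontrivial).1 h2
    obtain ⟨R, hR⟩ := exists_ne (⟨P, hPfix⟩ : MulAction.fixedPoints W (Sylow 11 G))
    have hRP : (R : Sylow 11 G) ≠ P := fun h => hR (Subtype.ext h)
    have hWR : W ≤ normalizer (((R : Sylow 11 G) : Subgroup G) : Set G) := by
      intro w hw
      exact Sylow.smul_eq_iff_mem_normalizer.1 (R.2 ⟨w, hw⟩)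
    have hRc : Nat.card ((R : Sylow 11 G) : Subgroup G) = 11 := by
      have := sylow_card_of (G := G) (p := 11) (k := 1) (m := 8640) (by rw [hG]; norm_num) (by norm_num) (R : Sylow 11 G)
      simpa using this
    have hWC : W ≤ centralizer (((R : Sylow 11 G) : Subgroup G) : Set G) := by
      intro w hw
      have h3 := (index_mul (R : Sylow 11 G) hRc).2.1
      have h4 : ((centralizer (((R : Sylow 11 G) : Subgroup G) : Set G)).subgroupOf (normalizer (((R : Sylow 11 G) : Subgroup G) : Set G))).Normal := inferInstance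
      have h5 := mem_of_orderOf_coprime_index ((centralizer (((R : Sylow 11 G) : Subgroup G) : Set G)).subgroupOf (normalizer (((R : Sylow 11 G) : Subgroup G) : Set G)))
        ⟨w, hWR hw⟩ (by
          have h6 : orderOf (⟨w, hWR hw⟩ : normalizer (((R : Sylow 11 G) : Subgroup G) : Set G)) ∣ 3 :=
            orderOf_dvd_of_pow_eq_one (Subtype.ext ((hWmem w).1 hw).2)
          have h7 : ((centralizer (((R : Sylow 11 G) : Subgroup G) : Set G)).subgroupOf (normalizer (((R : Sylow 11 G) : Subgroup G) : Set G))).index ∣ 10 := h3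
          exact Nat.Coprime.coprime_dvd_left h6 (Nat.Coprime.coprime_dvd_right h7 (by norm_num)))
      exact mem_subgroupOf.1 h5
    have hRN : ((R : Sylow 11 G) : Subgroup G) ≤ N := by
      rw [← hMN]
      intro r hr
      rw [hM, mem_normalizer_iff]
      intro g
      have hcom : ∀ g ∈ W, r * g * r⁻¹ = g := by
        intro g hg
        rw [mem_centralizer_iff.1 (hWC hg) r hr, mul_inv_cancel_right]
      refine ⟨fun hg => by rw [hcom g hg]; exact hg, fun hg => ?_⟩
      have h3 := hcom _ hg
      have h4 : r * g * r⁻¹ = g := by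
        have h5 : r * (r * g * r⁻¹) * r⁻¹ = r * g * r⁻¹ := h3
        have h6 : r * g * r⁻¹ = g := by
          have := mul_left_cancel (mul_right_cancel h5)
          exact this
        exact h6
      rwa [h4] at hg
    apply hRP
    have hPn : ((P : Subgroup G).subgroupOf N).Normal := Subgroup.normal_in_normalizer
    have hPi : ((P : Subgroup G).subgroupOf N).index = 60 := by
      have h3 := Subgroup.card_mul_index ((P : Subgroup G).subgroupOf N)
      rw [Nat.card_congr (subgroupOfEquivOfLe hPN).toEquiv, hP, hN] at h3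
      omega
    have hle : ((R : Sylow 11 G) : Subgroup G) ≤ P := by
      intro r hr
      have h3 := mem_of_orderOf_coprime_index ((P : Subgroup G).subgroupOf N) ⟨r, hRN hr⟩ (by
        rw [hPi]
        have h4 : orderOf (⟨r, hRN hr⟩ : N) ∣ 11 := by
          rw [Subgroup.orderOf_mk, ← hRc, ← Subgroup.orderOf_mk r hr]
          exact orderOf_dvd_natCard _
        exact Nat.Coprime.coprime_dvd_left h4 (by norm_num))
      exact mem_subgroupOf.1 h3
    exact Sylow.ext (eq_of_le_of_card_ge hle (by rw [hP, hRc]))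
  · refine index12_false hG M ?_ P (by rw [← hNdef, hN]; norm_num)
    rw [h] at hidx
    omega
  · rw [h] at hn2
    have h1 : M = ⊤ := by
      rw [← Subgroup.card_eq_iff_eq_top, hn2, hG]
    have h2 : W.Normal := Subgroup.normalizer_eq_top_iff.1 h1
    rcases h2.eq_bot_or_eq_top with h3 | h3
    · rw [h3, Subgroup.card_bot] at hWc; omega
    · rw [h3, Subgroup.card_top, hG] at hWc; omega

/-- the Sylow 11-normalizer -/
theorem sylow11 (hG : Nat.card G = 95040) (P : Sylow 11 G) : Nat.card (P : Subgroup G) = 11 ∧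
    Nat.card (normalizer ((P : Subgroup G) : Set G)) = 55 ∧
    Nat.card (centralizer ((P : Subgroup G) : Set G)) = 11 := by
  have hna := notComm hG
  have hP : Nat.card (P : Subgroup G) = 11 := by
    have := sylow_card_of (G := G) (p := 11) (k := 1) (m := 8640) (by rw [hG]; norm_num) (by norm_num) P
    simpa using this
  have h := nsyl_mem (G := G) (p := 11) (k := 1) (m := 8640) (by rw [hG]; norm_num) (by norm_num)
  have h2 : (Nat.divisors 8640).filter (fun d => d % 11 = 1) = {1, 12, 45, 144, 320, 540, 1728} := by decide +kernel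
  rw [h2] at h
  simp only [Finset.mem_insert, Finset.mem_singleton] at h
  have hN := card_normalizer_mul_nsyl P
  obtain ⟨h3, h4, h5⟩ := index_mul P hP
  obtain ⟨e, c, h6, h7, h8, h9⟩ := nc_data hna P hP
  have hrel : (centralizer ((P : Subgroup G) : Set G)).relIndex (normalizer ((P : Subgroup G) : Set G)) = e := by
    have h10 : Nat.card (Sylow 11 G) * ((centralizer ((P : Subgroup G) : Set G)).relIndex (normalizer ((P : Subgroup G) : Set G)) * (11 * c)) =
      Nat.card (Sylow 11 G) * (e * (11 * c)) := by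
      rw [← h6, ← h7, h3, ← hN, mul_comm]
    have h11 : 0 < Nat.card (Sylow 11 G) := Nat.card_pos
    have h12 : 0 < 11 * c := by rw [← h7]; exact Nat.card_pos
    exact Nat.eq_of_mul_eq_mul_right h12 (Nat.eq_of_mul_eq_mul_left h11 h10)
  have hne1 := nsyl_ne_one hna (p := 11) (by rw [hG]; norm_num)
  rw [h6, hG] at hN
  have he : e = 2 ∨ e = 5 ∨ e = 10 := by
    have h10 : ∀ d ∈ Nat.divisors 10, d ≠ 1 → d = 2 ∨ d = 5 ∨ d = 10 := by decide +kernel
    exact h10 e (Nat.mem_divisors.2 ⟨h8, by norm_num⟩) h9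
  have h12 : Nat.card (Sylow 11 G) ≠ 12 := by
    intro h10
    have h11 := normalizer_dvd_of_nsyl hna (p := 11) (by norm_num) h10 (by rw [hG]; norm_num) P
    have := Nat.le_of_dvd (by norm_num) h11
    rw [h6] at this
    rw [h10] at hN
    omega
  have hecn : e * c * Nat.card (Sylow 11 G) = 8640 := by
    have : 11 * (e * c * Nat.card (Sylow 11 G)) = 11 * 8640 := by
      rw [← hN.trans (by norm_num : 95040 = 11 * 8640)]; ring
    exact Nat.eq_of_mul_eq_mul_left (by norm_num) this
  by_cases hc : c = 1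
  · subst hc
    rw [mul_one] at h7 hecn
    refine ⟨hP, ?_, h7⟩
    rcases he with rfl | rfl | rfl
    · exfalso
      rcases h with h | h | h | h | h | h | h <;> rw [h] at hecn <;> omega
    · rw [h6]
    · exfalso
      rcases h with h | h | h | h | h | h | h <;> rw [h] at hecn <;> omega
  · exfalso
    have hC11 : Nat.card (centralizer ((P : Subgroup G) : Set G)) ≠ 11 := by
      rw [h7]; omega
    rcases he with rfl | rfl | rfl
    · exact case_two hG P hP hrel hC11
    · have hc12 : c = 12 := by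
        rcases h with h | h | h | h | h | h | h
        · exact absurd h hne1
        · exact absurd h h12
        all_goals rw [h] at hecn; omega
      rw [hc12] at h7
      exact case_five hG P hP hrel h7
    · have hc6 : c = 6 := by
        rcases h with h | h | h | h | h | h | h
        · exact absurd h hne1
        · exact absurd h h12
        all_goals rw [h] at hecn; omega
      rw [hc6] at h7 h6
      exact case_ten hG P hP h6 h7

/-- elements of order 11 -/
theorem elt11 (hG : Nat.card G = 95040) (x : G) (hx : orderOf x = 11) :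
    Nat.card (centralizer ({x} : Set G)) = 11 ∧ Nat.card (normalizer (zpowers x : Set G)) = 55 ∧
    (∀ a : ℕ, (a : ZMod 11) ≠ 0 → IsSquare (a : ZMod 11) → IsConj x (x ^ a)) ∧ ¬ IsConj x x⁻¹ := by
  have hcard : Nat.card (zpowers x) = 11 := by rw [Nat.card_zpowers, hx]
  have hp : IsPGroup 11 (zpowers x) := IsPGroup.of_card (n := 1) (by rw [hcard]; norm_num)
  obtain ⟨P, hP⟩ := hp.exists_le_sylow
  obtain ⟨h1, h2, h3⟩ := sylow11 hG P
  have hPeq : (P : Subgroup G) = zpowers x := (eq_of_le_of_card_ge hP (by rw [h1, hcard])).symm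
  rw [hPeq] at h2 h3
  have h4 : centralizer ({x} : Set G) = centralizer (zpowers x : Set G) := by
    apply le_antisymm
    · intro g hg
      rw [mem_centralizer_singleton_iff] at hg
      rw [mem_centralizer_iff]
      intro y hy
      obtain ⟨n, rfl⟩ := mem_zpowers_iff.1 hy
      exact (((Commute.zpow_right (show Commute g x from hg) n))).symm
    · exact centralizer_le (by simp)
  have hC : Nat.card (centralizer ({x} : Set G)) = 11 := by rw [h4]; exact h3
  have h5 := QRConj.qr x hx (by norm_num) (by rw [h2]) hC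
  exact ⟨hC, h2, h5.1, h5.2⟩

end Cfsg.Agent.Lib.M12ByOrder
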