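import Mathlib
import Cfsg.Agent.Lib.M12A
import Cfsg.Agent.Lib.M11C
import Cfsg.Agent.Lib.ColTools3

/-!
# Simple groups of order 95040, part B: the principal 11-block (helper7)
-/

set_option autoImplicit false
set_option linter.all false

namespace Cfsg.Agent.Lib.M12ByOrder

open Subgroup Cfsg Cfsg.Agent.Lib.CharBasic Cfsg.Agent.Lib.ColTools Cfsg.Agent.Lib.SmallSimple
  Cfsg.Agent.Lib.PBlock
open scoped ComplexConjugate

universe u

variable {G : Type u} [Group G] [Finite G]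

/-- the principal 11-block -/
structure Blk (x : G) (A : Fin 4 → IrrCharacter G) (m : Fin 4 → ℤ) (Y : IrrCharacter G) (a : ℤ) : Prop where
  inj : Function.Injective A
  At : ∀ i, A i ≠ triv G
  AY : ∀ i, A i ≠ Y
  AcY : ∀ i, A i ≠ cc Y
  Yt : Y ≠ triv G
  cYt : cc Y ≠ triv G
  cYY : cc Y ≠ Y
  m_pm : ∀ i, m i = 1 ∨ m i = -1
  a_pm : a = 1 ∨ a = -1
  vA : ∀ i, (A i : G → ℂ) x = m i ∧ (A i : G → ℂ) x⁻¹ = m i
  vY : (Y : G → ℂ) x + (Y : G → ℂ) x⁻¹ = a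
  nY : (Y : G → ℂ) x * (Y : G → ℂ) x⁻¹ = 3
  out : ∀ χ, χ ≠ triv G → (∀ i, χ ≠ A i) → χ ≠ Y → χ ≠ cc Y → (χ : G → ℂ) x = 0 ∧ (χ : G → ℂ) x⁻¹ = 0 ∧ 11 ∣ deg χ
  rel : ∀ g, ¬ IsConj g x → ¬ IsConj g x⁻¹ → 1 + ∑ i, (m i : ℂ) * (A i : G → ℂ) g + a * (Y : G → ℂ) g = 0
  real : ∀ g, ¬ IsConj g x → ¬ IsConj g x⁻¹ → (Y : G → ℂ) g⁻¹ = (Y : G → ℂ) g
  degA : ∀ i, ∃ s : ℤ, 0 ≤ s ∧ (deg (A i) : ℤ) = m i + 11 * s
  degY : ∃ s : ℤ, 0 ≤ s ∧ 2 * (deg Y : ℤ) = a + 11 * s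
  mono : Monotone (fun i => deg (A i))

variable [IsSimpleGroup G]

theorem exists_blk (hG : Nat.card G = 95040) (x : G) (hx : orderOf x = 11) :
    ∃ A m Y a, Blk x A m Y a := by
  classical
  have hna := notComm hG
  obtain ⟨hC, hN, hconj, hnr⟩ := elt11 hG x hx
  have hx11 : x ^ 11 = 1 := by rw [← hx]; exact pow_orderOf_eq_one x
  obtain ⟨m, X, aX, hXX, hX1, hX2, hmX, hmX', hm1, hodd, hval, hvX, hnX, hdeg, hdegX, hnorm, hrel⟩ :=
    quad_block (p := 11) (by norm_num) x hx11 hconj hC hnr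
  -- the Sylow subgroup
  have hcard : Nat.card (zpowers x) = 11 := by rw [Nat.card_zpowers, hx]
  have hp : IsPGroup 11 (zpowers x) := IsPGroup.of_card (n := 1) (by rw [hcard]; norm_num)
  obtain ⟨P, hP⟩ := hp.exists_le_sylow
  obtain ⟨h1, h2, h3⟩ := sylow11 hG P
  have hPeq : (P : Subgroup G) = zpowers x := (eq_of_le_of_card_ge hP (by rw [h1, hcard])).symm
  have he : (centralizer ((P : Subgroup G) : Set G)).relIndex (normalizer ((P : Subgroup G) : Set G)) = 5 := by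
    have h4 := (index_mul P h1).1
    have h5 := card_normalizer_mul_nsyl P
    rw [h2, hG] at h5
    rw [h3, hG] at h4
    have h6 : Nat.card (Sylow 11 G) = 1728 := by omega
    rw [h6] at h4
    omega
  obtain ⟨B⟩ := exists_pb P h1 (e := 5) (t := 2) he (by norm_num) (by norm_num)
  have hxC : x ∈ centralizer ((P : Subgroup G) : Set G) := by
    rw [hPeq, mem_centralizer_iff]
    intro y hy
    obtain ⟨n, rfl⟩ := mem_zpowers_iff.1 hy
    exact ((Commute.refl x).zpow_left n)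
  have hxv : ∀ χ ∈ B.X, (χ : G → ℂ) x = B.δ χ ∧ (χ : G → ℂ) x⁻¹ = B.δ χ := fun χ hχ =>
    ⟨B.valX χ hχ x hxC (by rw [hx]), B.valX χ hχ _ (inv_mem hxC) (by rw [orderOf_inv, hx])⟩
  have hsq : ∀ χ ∈ B.X, (B.δ χ : ℂ) * B.δ χ = 1 := by
    intro χ hχ
    rcases B.δ_pm χ hχ with h | h <;> rw [h] <;> norm_num
  have hnX1 : X ∉ B.X := by
    intro h
    obtain ⟨e1, e2⟩ := hxv X h
    rw [e1, e2, hsq X h] at hnX
    have : ((4 * 1 : ℤ) : ℂ) = ((aX ^ 2 + 11 : ℤ) : ℂ) := by push_cast; push_cast at hnX; linear_combination hnX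
    have : (4 * 1 : ℤ) = aX ^ 2 + 11 := by exact_mod_cast this
    nlinarith [sq_nonneg aX]
  have hccv : (cc X : G → ℂ) x = (X : G → ℂ) x⁻¹ ∧ (cc X : G → ℂ) x⁻¹ = (X : G → ℂ) x := by
    rw [cc_apply, cc_apply, conj_apply, conj_apply, inv_inv]; exact ⟨rfl, rfl⟩
  have hnX2 : cc X ∉ B.X := by
    intro h
    obtain ⟨e1, e2⟩ := hxv _ h
    rw [hccv.1] at e1
    rw [hccv.2] at e2
    rw [e1, e2, hsq _ h] at hnX
    have : ((4 * 1 : ℤ) : ℂ) = ((aX ^ 2 + 11 : ℤ) : ℂ) := by push_cast; push_cast at hnX; linear_combination hnX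
    have : (4 * 1 : ℤ) = aX ^ 2 + 11 := by exact_mod_cast this
    nlinarith [sq_nonneg aX]
  have hmδ : ∀ χ ∈ B.X, m χ = B.δ χ := by
    intro χ hχ
    have e1 := (hval χ (fun h => hnX1 (h ▸ hχ)) (fun h => hnX2 (h ▸ hχ))).1
    rw [(hxv χ hχ).1] at e1
    exact_mod_cast e1.symm
  have hm2 : ∀ χ ∈ B.X, m χ ^ 2 = 1 := by
    intro χ hχ
    rw [hmδ χ hχ]
    rcases B.δ_pm χ hχ with h | h <;> rw [h] <;> norm_num
  have hsum5 : ∑ χ ∈ B.X, m χ ^ 2 = 5 := by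
    rw [Finset.sum_congr rfl hm2, Finset.sum_const, B.cardX]; norm_num
  have hle : ∑ χ ∈ B.X, m χ ^ 2 ≤ ∑ χ, m χ ^ 2 :=
    Finset.sum_le_sum_of_subset_of_nonneg (Finset.subset_univ _) (fun χ _ _ => sq_nonneg _)
  have haX2 : aX ^ 2 = 1 := by
    have h4 : 0 < aX ^ 2 := by
      have : aX ≠ 0 := by intro h; rw [h] at hodd; norm_num at hodd
      positivity
    rw [hsum5] at hle
    push_cast at hnorm
    linarith
  have htot : ∑ χ, m χ ^ 2 = 5 := by push_cast at hnorm; linarith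
  have hm0 : ∀ χ, χ ∉ B.X → m χ = 0 := by
    intro χ hχ
    have h4 : ∑ χ' ∈ insert χ B.X, m χ' ^ 2 ≤ ∑ χ, m χ ^ 2 :=
      Finset.sum_le_sum_of_subset_of_nonneg (Finset.subset_univ _) (fun χ _ _ => sq_nonneg _)
    rw [Finset.sum_insert hχ, hsum5, htot] at h4
    have h5 : m χ ^ 2 = 0 := le_antisymm (by linarith) (sq_nonneg _)
    exact pow_eq_zero_iff (two_ne_zero) |>.1 h5
  have hac : (B.X.erase (triv G)).card = 4 := by rw [Finset.card_erase_of_mem B.tX, B.cardX]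
  let ε := ((B.X.erase (triv G)).equivFinOfCardEq hac).symm
  let A0 : Fin 4 → IrrCharacter G := fun i => (ε i : IrrCharacter G)
  let σ := Tuple.sort (fun i => deg (A0 i))
  let A : Fin 4 → IrrCharacter G := fun i => A0 (σ i)
  have hAinj : Function.Injective A := by
    intro i j h
    exact σ.injective (ε.injective (Subtype.ext h))
  have hAmem : ∀ i, A i ∈ B.X ∧ A i ≠ triv G := by
    intro i
    have := Finset.mem_erase.1 (ε (σ i)).2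
    exact ⟨this.2, this.1⟩
  have hAsurj : ∀ χ ∈ B.X, χ ≠ triv G → ∃ i, χ = A i := by
    intro χ hχ hχ1
    refine ⟨σ.symm (ε.symm ⟨χ, Finset.mem_erase.2 ⟨hχ1, hχ⟩⟩), ?_⟩
    show χ = (ε (σ (σ.symm (ε.symm _))) : IrrCharacter G)
    rw [Equiv.apply_symm_apply, Equiv.apply_symm_apply]
  have hXA : ∀ i, A i ≠ X := fun i h => hnX1 (h ▸ (hAmem i).1)
  have hXA' : ∀ i, A i ≠ cc X := fun i h => hnX2 (h ▸ (hAmem i).1)
  refine ⟨A, fun i => m (A i), X, aX, ⟨hAinj, fun i => (hAmem i).2, hXA, hXA', hX1, hX2, hXX, ?_, ?_, ?_, hvX, ?_, ?_, ?_, ?_, ?_, ?_, ?_⟩⟩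
  · intro i
    exact sq_eq_one_iff.1 (hm2 _ (hAmem i).1)
  · exact sq_eq_one_iff.1 haX2
  · intro i
    exact hval _ (hXA i) (hXA' i)
  · have h4 : (aX : ℂ) ^ 2 = 1 := by exact_mod_cast haX2
    push_cast at hnX
    linear_combination (1 / 4) * hnX + (1 / 4) * h4
  · intro χ hχ1 hχ2 hχ3 hχ4
    have h4 : χ ∉ B.X := by
      intro h
      obtain ⟨i, hi⟩ := hAsurj χ h hχ1
      exact hχ2 i hi
    obtain ⟨e1, e2⟩ := hval χ hχ3 hχ4
    rw [hm0 χ h4] at e1 e2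
    refine ⟨by rw [e1]; norm_num, by rw [e2]; norm_num, ?_⟩
    obtain ⟨s, -, hs⟩ := hdeg χ hχ3 hχ4
    rw [hm0 χ h4, zero_add] at hs
    have h5 : (11 : ℤ) ∣ (deg χ : ℤ) := ⟨s, by exact_mod_cast hs⟩
    exact_mod_cast h5
  · intro g hg1 hg2
    obtain ⟨e1, -⟩ := hrel g hg1 hg2
    have e2 : ∑ χ : IrrCharacter G, (m χ : ℂ) * (χ : G → ℂ) g = 1 + ∑ i, (m (A i) : ℂ) * (A i : G → ℂ) g := by
      rw [← Finset.sum_subset (Finset.subset_univ B.X) (fun χ _ hχ => by rw [hm0 χ hχ]; push_cast; ring)]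
      rw [← Finset.add_sum_erase _ _ B.tX, hm1, triv_apply]
      congr 1
      · norm_num
      · have e3 : ∑ i, (m (A i) : ℂ) * (A i : G → ℂ) g = ∑ i : Fin 4, (m (A0 i) : ℂ) * (A0 i : G → ℂ) g :=
          Equiv.sum_comp σ (fun i => (m (A0 i) : ℂ) * (A0 i : G → ℂ) g)
        rw [e3, ← Finset.sum_coe_sort]
        exact (Equiv.sum_comp ε (fun χ => (m (χ : IrrCharacter G) : ℂ) * ((χ : IrrCharacter G) : G → ℂ) g)).symm
    rw [e2] at e1
    exact e1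
  · intro g hg1 hg2
    exact (hrel g hg1 hg2).2
  · intro i
    exact hdeg _ (hXA i) (hXA' i)
  · exact hdegX
  · exact Tuple.monotone_sort (fun i => deg (A0 i))

omit [IsSimpleGroup G] in
theorem Blk.nodup {x : G} {A : Fin 4 → IrrCharacter G} {m : Fin 4 → ℤ} {Y : IrrCharacter G} {a : ℤ} (b : Blk x A m Y a) :
    [triv G, A 0, A 1, A 2, A 3, Y, cc Y].Nodup := by
  have h : ∀ i j : Fin 4, i ≠ j → A i ≠ A j := fun i j hij h => hij (b.inj h)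
  simp only [List.nodup_cons, List.mem_cons, List.not_mem_nil, or_false, not_or, List.nodup_nil, and_true,
    not_false_eq_true]
  exact ⟨⟨(b.At 0).symm, (b.At 1).symm, (b.At 2).symm, (b.At 3).symm, b.Yt.symm, b.cYt.symm⟩,
    ⟨h 0 1 (by decide), h 0 2 (by decide), h 0 3 (by decide), b.AY 0, b.AcY 0⟩,
    ⟨h 1 2 (by decide), h 1 3 (by decide), b.AY 1, b.AcY 1⟩,
    ⟨h 2 3 (by decide), b.AY 2, b.AcY 2⟩, ⟨b.AY 3, b.AcY 3⟩, b.cYY.symm⟩

omit [IsSimpleGroup G] in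
theorem Blk.sum {x : G} {A : Fin 4 → IrrCharacter G} {m : Fin 4 → ℤ} {Y : IrrCharacter G} {a : ℤ} (b : Blk x A m Y a)
    {M : Type*} [AddCommMonoid M] {f : IrrCharacter G → M}
    (hf : ∀ χ, χ ≠ triv G → (∀ i, χ ≠ A i) → χ ≠ Y → χ ≠ cc Y → f χ = 0) :
    ∑ χ, f χ = f (triv G) + ∑ i, f (A i) + f Y + f (cc Y) := by
  rw [sum_list _ b.nodup f]
  · simp only [List.map_cons, List.map_nil, List.sum_cons, List.sum_nil, Fin.sum_univ_four, add_zero]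
    simp only [add_assoc]
  · intro χ hχ
    simp only [List.mem_cons, List.not_mem_nil, or_false, not_or] at hχ
    obtain ⟨h0, h1, h2, h3, h4, h5, h6⟩ := hχ
    refine hf χ h0 (fun i => ?_) h5 h6
    fin_cases i <;> assumption

/-- the possible (sign, degree) pairs -/
def TL : List (ℤ × ℕ) := [(-1, 10), (1, 12), (-1, 32), (1, 45), (-1, 54), (-1, 120), (1, 144)]

/-- the possible (sign, degree) pairs of the exceptional characters -/
def TYL : List (ℤ × ℕ) := [(-1, 5), (-1, 16), (-1, 27), (-1, 60), (-1, 192), (1, 6), (1, 72), (1, 160)]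

/-- the possible degrees -/
def cands : List ((ℤ × ℕ) × (ℤ × ℕ) × (ℤ × ℕ) × (ℤ × ℕ) × (ℤ × ℕ)) :=
  [((-1, 10), (-1, 10), (-1, 10), (1, 45), (-1, 16)),
  ((-1, 10), (-1, 10), (1, 12), (1, 12), (-1, 5)),
  ((-1, 10), (-1, 10), (-1, 32), (1, 45), (1, 6)),
  ((-1, 10), (-1, 10), (-1, 120), (1, 144), (-1, 5)),
  ((-1, 10), (1, 12), (1, 12), (1, 12), (-1, 27)),
  ((-1, 10), (1, 12), (1, 12), (1, 45), (-1, 60)),
  ((-1, 10), (1, 12), (-1, 32), (1, 45), (-1, 16)),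
  ((-1, 10), (1, 12), (1, 45), (-1, 54), (1, 6)),
  ((-1, 10), (1, 12), (1, 45), (-1, 120), (1, 72)),
  ((-1, 10), (1, 12), (-1, 120), (1, 144), (-1, 27)),
  ((-1, 10), (1, 45), (1, 45), (-1, 54), (-1, 27)),
  ((-1, 10), (1, 45), (-1, 54), (-1, 54), (1, 72)),
  ((-1, 10), (1, 45), (-1, 120), (1, 144), (-1, 60)),
  ((-1, 10), (-1, 54), (-1, 54), (1, 144), (-1, 27)),
  ((1, 12), (1, 12), (1, 12), (-1, 32), (-1, 5)),
  ((1, 12), (1, 12), (1, 45), (-1, 54), (-1, 16)),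
  ((1, 12), (-1, 32), (-1, 32), (1, 45), (1, 6)),
  ((1, 12), (-1, 32), (-1, 120), (1, 144), (-1, 5)),
  ((-1, 32), (-1, 32), (1, 45), (1, 45), (-1, 27)),
  ((-1, 32), (-1, 32), (1, 45), (-1, 54), (1, 72)),
  ((-1, 32), (-1, 32), (-1, 54), (1, 144), (-1, 27)),
  ((-1, 32), (1, 45), (1, 45), (-1, 54), (-1, 5)),
  ((-1, 32), (1, 45), (-1, 54), (-1, 120), (1, 160)),
  ((-1, 32), (-1, 54), (-1, 54), (1, 144), (-1, 5)),
  ((1, 45), (1, 45), (1, 45), (-1, 120), (-1, 16)),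
  ((1, 45), (-1, 54), (-1, 120), (1, 144), (-1, 16))]

theorem ar_T : ∀ d ∈ Nat.divisors 8640, d ^ 2 < 95040 → d ≠ 1 → (d % 11 = 1 → ((1 : ℤ), d) ∈ TL) ∧
    (d % 11 = 10 → ((-1 : ℤ), d) ∈ TL) := by decide +kernel

theorem ar_TY : ∀ d ∈ Nat.divisors 8640, 2 * d ^ 2 < 95040 → d ≠ 1 → (d % 11 = 5 → ((-1 : ℤ), d) ∈ TYL) ∧
    (d % 11 = 6 → ((1 : ℤ), d) ∈ TYL) := by decide +kernel

theorem ar_cand : ∀ p0 ∈ TL, ∀ p1 ∈ TL, p0.2 ≤ p1.2 → ∀ p2 ∈ TL, p1.2 ≤ p2.2 → ∀ p3 ∈ TL, p2.2 ≤ p3.2 → ∀ q ∈ TYL,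
    1 + (p0.1 * (p0.2 : ℤ) + p1.1 * p1.2 + p2.1 * p2.2 + p3.1 * p3.2) + q.1 * q.2 = 0 →
    1 + (p0.2 ^ 2 + p1.2 ^ 2 + p2.2 ^ 2 + p3.2 ^ 2) + 2 * q.2 ^ 2 ≤ 95040 → (p0, p1, p2, p3, q) ∈ cands := by
  decide +kernel

section

variable {x : G} {A : Fin 4 → IrrCharacter G} {m : Fin 4 → ℤ} {Y : IrrCharacter G} {a : ℤ}

theorem dvd_8640 (hG : Nat.card G = 95040) (χ : IrrCharacter G) (h : ¬ 11 ∣ deg χ) : deg χ ∈ Nat.divisors 8640 := by
  rw [Nat.mem_divisors]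
  refine ⟨?_, by norm_num⟩
  have h1 := deg_dvd χ
  rw [hG, show 95040 = 11 * 8640 by norm_num] at h1
  exact Nat.Coprime.dvd_of_dvd_mul_left ((Nat.Prime.coprime_iff_not_dvd (by norm_num)).2 h).symm h1

theorem Blk.sq (hG : Nat.card G = 95040) (b : Blk x A m Y a) :
    1 + (deg (A 0) ^ 2 + deg (A 1) ^ 2 + deg (A 2) ^ 2 + deg (A 3) ^ 2) + 2 * deg Y ^ 2 ≤ 95040 := by
  have h1 := list_le b.nodup (fun χ => deg χ ^ 2)
  rw [sum_deg_sq, hG] at h1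
  simp only [List.map_cons, List.map_nil, List.sum_cons, List.sum_nil, deg_triv, deg_cc] at h1
  omega

theorem Blk.not_conj (hG : Nat.card G = 95040) (hx : orderOf x = 11) {g : G} (hg : orderOf g ≠ 11) :
    ¬ IsConj g x ∧ ¬ IsConj g x⁻¹ := M11ByOrder.not_isConj_of_order hx hg

theorem Blk.rel1 (hx : orderOf x = 11) (b : Blk x A m Y a) :
    1 + (m 0 * (deg (A 0) : ℤ) + m 1 * deg (A 1) + m 2 * deg (A 2) + m 3 * deg (A 3)) + a * deg Y = 0 := by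
  obtain ⟨h1, h2⟩ := M11ByOrder.not_isConj_of_order (g := (1 : G)) hx (by rw [orderOf_one]; norm_num)
  have h3 := b.rel 1 h1 h2
  simp only [apply_one, Fin.sum_univ_four] at h3
  have : ((1 + (m 0 * (deg (A 0) : ℤ) + m 1 * deg (A 1) + m 2 * deg (A 2) + m 3 * deg (A 3)) + a * deg Y : ℤ) : ℂ) = 0 := by
    push_cast; exact h3
  exact_mod_cast this

theorem Blk.not_dvd (b : Blk x A m Y a) (i : Fin 4) : ¬ 11 ∣ deg (A i) := by
  obtain ⟨s, -, hs⟩ := b.degA i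
  rcases b.m_pm i with h | h <;> rw [h] at hs <;> omega

theorem Blk.not_dvdY (b : Blk x A m Y a) : ¬ 11 ∣ deg Y := by
  obtain ⟨s, -, hs⟩ := b.degY
  rcases b.a_pm with h | h <;> rw [h] at hs <;> omega

theorem Blk.memT (hG : Nat.card G = 95040) (b : Blk x A m Y a) (i : Fin 4) : (m i, deg (A i)) ∈ TL := by
  have hna := notComm hG
  have h1 := dvd_8640 hG _ (b.not_dvd i)
  have h2 : deg (A i) ≠ 1 := fun h => b.At i (eq_triv_of_deg_one hna h)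
  have h3 : deg (A i) ^ 2 < 95040 := by
    have h4 := b.sq hG
    fin_cases i <;> simp only [Fin.zero_eta, Fin.mk_one, Fin.reduceFinMk] <;> omega
  obtain ⟨s, -, hs⟩ := b.degA i
  have h4 := ar_T _ h1 h3 h2
  rcases b.m_pm i with h | h <;> rw [h] at hs ⊢
  · exact h4.1 (by omega)
  · exact h4.2 (by omega)

theorem Blk.memTY (hG : Nat.card G = 95040) (b : Blk x A m Y a) : (a, deg Y) ∈ TYL := by
  have hna := notComm hG
  have h1 := dvd_8640 hG _ b.not_dvdY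
  have h2 : deg Y ≠ 1 := fun h => b.Yt (eq_triv_of_deg_one hna h)
  have h3 : 2 * deg Y ^ 2 < 95040 := by
    have h4 := b.sq hG
    omega
  obtain ⟨s, -, hs⟩ := b.degY
  have h4 := ar_TY _ h1 h3 h2
  rcases b.a_pm with h | h <;> rw [h] at hs ⊢
  · exact h4.2 (by omega)
  · exact h4.1 (by omega)

/-- the list of possible degrees -/
theorem Blk.cand (hG : Nat.card G = 95040) (hx : orderOf x = 11) (b : Blk x A m Y a) :
    ((m 0, deg (A 0)), (m 1, deg (A 1)), (m 2, deg (A 2)), (m 3, deg (A 3)), (a, deg Y)) ∈ cands :=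
  ar_cand _ (b.memT hG 0) _ (b.memT hG 1) (b.mono (by decide : (0 : Fin 4) ≤ 1)) _ (b.memT hG 2)
    (b.mono (by decide : (1 : Fin 4) ≤ 2)) _ (b.memT hG 3) (b.mono (by decide : (2 : Fin 4) ≤ 3)) _ (b.memTY hG)
    (b.rel1 hx) (b.sq hG)

end

end Cfsg.Agent.Lib.M12ByOrder
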