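import Mathlib
import Cfsg.Agent.Lib.M12B

/-!
# Simple groups of order 95040, part C: structure constants (helper7)
-/

set_option autoImplicit false
set_option linter.all false

namespace Cfsg.Agent.Lib.M12ByOrder

open Subgroup Cfsg Cfsg.Agent.Lib.CharBasic Cfsg.Agent.Lib.ColTools Cfsg.Agent.Lib.SmallSimple
  Cfsg.Agent.Lib.PBlock
open scoped ComplexConjugate

universe u

variable {G : Type u} [Group G] [Finite G]

/-- a subgroup of prime order acts freely on factorizations of its generator -/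
theorem prime_dvd_count {p : ℕ} [Fact p.Prime] {x g h : G} (hx : orderOf x = p)
    (hC : ∀ y : G, Commute y x → y ∈ zpowers x) (hg : orderOf g ≠ p) (hg1 : g ≠ 1) :
    p ∣ Nat.card {q : G × G // IsConj g q.1 ∧ IsConj h q.2 ∧ q.1 * q.2 = x} := by
  classical
  letI : Fintype G := Fintype.ofFinite G
  set Z := {q : G × G // IsConj g q.1 ∧ IsConj h q.2 ∧ q.1 * q.2 = x} with hZ
  let f : Function.End Z := fun q => ⟨(x * q.1.1 * x⁻¹, x * q.1.2 * x⁻¹), q.2.1.trans (isConj_iff.2 ⟨x, rfl⟩),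
        q.2.2.1.trans (isConj_iff.2 ⟨x, rfl⟩), by
          have := q.2.2.2
          calc x * q.1.1 * x⁻¹ * (x * q.1.2 * x⁻¹) = x * (q.1.1 * q.1.2) * x⁻¹ := by group
            _ = x := by rw [this]; group⟩
  have hf1 : ∀ n : ℕ, ∀ q : Z, ((f ^ n) q).1.1 = x ^ n * q.1.1 * (x ^ n)⁻¹ ∧ ((f ^ n) q).1.2 = x ^ n * q.1.2 * (x ^ n)⁻¹ := by
    intro n
    induction n with
    | zero =>
      intro q
      have : (f ^ 0) q = q := rfl
      rw [this]; simp
    | succ n ih =>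
      intro q
      have hs : (f ^ (n + 1)) q = f ((f ^ n) q) := by
        rw [pow_succ']; rfl
      rw [hs]
      obtain ⟨e1, e2⟩ := ih q
      constructor
      · change x * ((f ^ n) q).1.1 * x⁻¹ = _
        rw [e1, pow_succ']; group
      · change x * ((f ^ n) q).1.2 * x⁻¹ = _
        rw [e2, pow_succ']; group
  have hfp : f ^ p ^ 1 = 1 := by
    rw [pow_one]
    funext q
    apply Subtype.ext
    obtain ⟨e1, e2⟩ := hf1 p q
    have hxp : x ^ p = 1 := by rw [← hx]; exact pow_orderOf_eq_one x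
    rw [hxp] at e1 e2
    have hone : (1 : Function.End Z) q = q := rfl
    rw [hone]
    apply Prod.ext
    · rw [e1]; group
    · rw [e2]; group
  have h1 := Equiv.Perm.card_fixedPoints_modEq (p := p) (n := 1) (f := f) hfp
  have h2 : Fintype.card (Function.fixedPoints f) = 0 := by
    rw [Fintype.card_eq_zero_iff]
    refine ⟨fun q => ?_⟩
    have h3 : f q.1 = q.1 := q.2
    have h4 : x * q.1.1.1 * x⁻¹ = q.1.1.1 := congrArg (fun z : Z => z.1.1) h3
    have h5 : Commute q.1.1.1 x := by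
      have : x * q.1.1.1 = q.1.1.1 * x := by
        have := congrArg (· * x) h4
        simpa using this
      exact this.symm
    have h6 := hC _ h5
    have h7 : orderOf q.1.1.1 = orderOf g := (M11ByOrder.isConj_order q.1.2.1).symm
    have h8 : orderOf q.1.1.1 ∣ p := by
      have h10 : orderOf (⟨_, h6⟩ : zpowers x) ∣ Nat.card (zpowers x) := orderOf_dvd_natCard _
      rw [Nat.card_zpowers, hx, Subgroup.orderOf_mk] at h10
      exact h10
    rcases (Nat.dvd_prime Fact.out).1 h8 with h9 | h9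
    · rw [h7] at h9
      exact hg1 (orderOf_eq_one_iff.1 h9)
    · rw [h7] at h9
      exact hg h9
  rw [h2] at h1
  rw [Nat.card_eq_fintype_card]
  exact (Nat.modEq_zero_iff_dvd).1 h1

variable [IsSimpleGroup G] {x : G} {A : Fin 4 → IrrCharacter G} {m : Fin 4 → ℤ} {Y : IrrCharacter G} {a : ℤ}

theorem eleven_dvd (hG : Nat.card G = 95040) (hx : orderOf x = 11) {g h : G} (hg : orderOf g ≠ 11) (hg1 : g ≠ 1) :
    11 ∣ Nat.card {q : G × G // IsConj g q.1 ∧ IsConj h q.2 ∧ q.1 * q.2 = x} := by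
  refine prime_dvd_count hx (fun y hy => ?_) hg hg1
  have h1 : zpowers x ≤ centralizer ({x} : Set G) := by
    rw [zpowers_le, mem_centralizer_singleton_iff]
  have h2 : zpowers x = centralizer ({x} : Set G) := eq_of_le_of_card_ge h1 (by
    rw [(elt11 hG x hx).1, Nat.card_zpowers, hx])
  rw [h2, mem_centralizer_singleton_iff]
  exact hy

/-- the quotient `8640 / d` -/
def Q (d : ℕ) : ℤ := ((8640 / d : ℕ) : ℤ)

theorem cast_div_8640 {d : ℕ} (hd : d ∈ Nat.divisors 8640) : (Q d : ℂ) = 8640 / (d : ℂ) := by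
  have h1 := Nat.mem_divisors.1 hd
  rw [Q, Int.cast_natCast]
  have h2 : d ≠ 0 := by rintro rfl; simp at h1
  rw [Nat.cast_div h1.1 (by exact_mod_cast h2)]
  norm_num

theorem Blk.E (hG : Nat.card G = 95040) (hx : orderOf x = 11) (b : Blk x A m Y a) {g h : G} (hg : orderOf g ≠ 11) (hg1 : g ≠ 1)
    (hh : orderOf h ≠ 11) {v w : Fin 4 → ℤ} {vY wY : ℤ} (hv : ∀ i, (A i : G → ℂ) g = v i) (hw : ∀ i, (A i : G → ℂ) h = w i)
    (hvY : (Y : G → ℂ) g = vY) (hwY : (Y : G → ℂ) h = wY) :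
    ∃ n : ℕ, (n : ℤ) * (Nat.card (centralizer ({g} : Set G)) * Nat.card (centralizer ({h} : Set G))) =
      8640 + ∑ i, m i * v i * w i * Q (deg (A i)) + a * vY * wY * Q (deg Y) ∧
      ((∀ p q : G, IsConj g p → IsConj h q → p * q ≠ x) → n = 0) := by
  obtain ⟨n, hn⟩ := eleven_dvd hG hx (h := h) hg hg1
  refine ⟨n, ?_, fun hno => ?_⟩
  · have h1 := struct_const g h x
    rw [hn, hG] at h1
    rw [b.sum (f := fun χ => (χ : G → ℂ) g * (χ : G → ℂ) h * (χ : G → ℂ) x⁻¹ / (χ : G → ℂ) 1) (fun χ e1 e2 e3 e4 => by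
      rw [(b.out χ e1 e2 e3 e4).2.1]; simp)] at h1
    have hc1 : (cc Y : G → ℂ) g = vY := by rw [cc_apply, hvY, map_intCast]
    have hc2 : (cc Y : G → ℂ) h = wY := by rw [cc_apply, hwY, map_intCast]
    have hc3 : (cc Y : G → ℂ) x⁻¹ = (Y : G → ℂ) x := by rw [cc_apply, conj_apply, inv_inv]
    simp only [triv_apply, hv, hw, hvY, hwY, hc1, hc2, hc3, (b.vA _).2, apply_one, deg_cc, mul_one, div_one] at h1
    have h2 : ∀ i, (v i : ℂ) * w i * m i / (deg (A i) : ℂ) = (1 / 8640) * (m i * v i * w i * (Q (deg (A i)) : ℂ)) := by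
      intro i
      rw [cast_div_8640 (dvd_8640 hG _ (b.not_dvd i))]
      ring
    rw [Finset.sum_congr rfl (fun i _ => h2 i), ← Finset.mul_sum] at h1
    have h3 : (vY : ℂ) * wY * (Y : G → ℂ) x⁻¹ / (deg Y : ℂ) + (vY : ℂ) * wY * (Y : G → ℂ) x / (deg Y : ℂ) =
        (1 / 8640) * (a * vY * wY * (Q (deg Y) : ℂ)) := by
      rw [cast_div_8640 (dvd_8640 hG _ b.not_dvdY), ← b.vY]
      ring
    have h4 : (((n : ℤ) * (Nat.card (centralizer ({g} : Set G)) * Nat.card (centralizer ({h} : Set G))) : ℤ) : ℂ) =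
      ((8640 + ∑ i, m i * v i * w i * Q (deg (A i)) + a * vY * wY * Q (deg Y) : ℤ) : ℂ) := by
      push_cast
      push_cast at h1
      linear_combination (1 / 11) * h1 + 8640 * h3
    exact_mod_cast h4
  · have h2 : IsEmpty {q : G × G // IsConj g q.1 ∧ IsConj h q.2 ∧ q.1 * q.2 = x} :=
      ⟨fun p => hno p.1.1 p.1.2 p.2.1 p.2.2.1 p.2.2.2⟩
    rw [Nat.card_of_isEmpty] at hn
    omega

theorem Blk.E1 (hG : Nat.card G = 95040) (hx : orderOf x = 11) (b : Blk x A m Y a) {g : G} (hg : orderOf g ≠ 11) (hg1 : g ≠ 1)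
    {v : Fin 4 → ℤ} {vY : ℤ} (hv : ∀ i, (A i : G → ℂ) g = v i) (hvY : (Y : G → ℂ) g = vY) :
    ∃ n : ℕ, 11 * (n : ℤ) * Nat.card (centralizer ({g} : Set G)) =
      8640 + ∑ i, v i * Q (deg (A i)) + 6 * vY * Q (deg Y) := by
  obtain ⟨n, hn⟩ := eleven_dvd hG hx (h := x) hg hg1
  refine ⟨n, ?_⟩
  have h1 := struct_const g x x
  rw [hn, hG, (elt11 hG x hx).1] at h1
  rw [b.sum (f := fun χ => (χ : G → ℂ) g * (χ : G → ℂ) x * (χ : G → ℂ) x⁻¹ / (χ : G → ℂ) 1) (fun χ e1 e2 e3 e4 => by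
    rw [(b.out χ e1 e2 e3 e4).2.1]; simp)] at h1
  have hc1 : (cc Y : G → ℂ) g = vY := by rw [cc_apply, hvY, map_intCast]
  have hc2 : (cc Y : G → ℂ) x = (Y : G → ℂ) x⁻¹ := by rw [cc_apply, conj_apply]
  have hc3 : (cc Y : G → ℂ) x⁻¹ = (Y : G → ℂ) x := by rw [cc_apply, conj_apply, inv_inv]
  simp only [triv_apply, hv, hvY, hc1, hc2, hc3, (b.vA _).1, (b.vA _).2, apply_one, deg_cc, mul_one, div_one] at h1
  have h2 : ∀ i, (v i : ℂ) * m i * m i / (deg (A i) : ℂ) = (1 / 8640) * (v i * (Q (deg (A i)) : ℂ)) := by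
    intro i
    rw [cast_div_8640 (dvd_8640 hG _ (b.not_dvd i))]
    have : (m i : ℂ) * m i = 1 := by rcases b.m_pm i with h | h <;> rw [h] <;> norm_num
    linear_combination (v i : ℂ) / (deg (A i) : ℂ) * this
  rw [Finset.sum_congr rfl (fun i _ => h2 i), ← Finset.mul_sum] at h1
  have h3 : (vY : ℂ) * (Y : G → ℂ) x * (Y : G → ℂ) x⁻¹ / (deg Y : ℂ) + (vY : ℂ) * (Y : G → ℂ) x⁻¹ * (Y : G → ℂ) x / (deg Y : ℂ) =
      (1 / 8640) * (6 * vY * (Q (deg Y) : ℂ)) := by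
    rw [cast_div_8640 (dvd_8640 hG _ b.not_dvdY)]
    linear_combination 2 * (vY : ℂ) / (deg Y : ℂ) * b.nY
  have h4 : ((11 * (n : ℤ) * Nat.card (centralizer ({g} : Set G)) : ℤ) : ℂ) =
      ((8640 + ∑ i, v i * Q (deg (A i)) + 6 * vY * Q (deg Y) : ℤ) : ℂ) := by
    push_cast
    push_cast at h1
    linear_combination (1 / 11) * h1 + 8640 * h3
  exact_mod_cast h4

theorem Blk.E2 (hG : Nat.card G = 95040) (hx : orderOf x = 11) (b : Blk x A m Y a) {g : G} (hg : orderOf g ≠ 11) (hg1 : g ≠ 1)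
    {v : Fin 4 → ℤ} {vY : ℤ} (hv : ∀ i, (A i : G → ℂ) g = v i) (hvY : (Y : G → ℂ) g = vY) :
    ∃ n : ℕ, 11 * (n : ℤ) * Nat.card (centralizer ({g} : Set G)) =
      8640 + ∑ i, v i * Q (deg (A i)) - 5 * vY * Q (deg Y) := by
  obtain ⟨n, hn⟩ := eleven_dvd hG hx (h := x⁻¹) hg hg1
  refine ⟨n, ?_⟩
  have h1 := struct_const g x⁻¹ x
  rw [hn, hG, (elt11 hG x⁻¹ (by rw [orderOf_inv, hx])).1] at h1
  rw [b.sum (f := fun χ => (χ : G → ℂ) g * (χ : G → ℂ) x⁻¹ * (χ : G → ℂ) x⁻¹ / (χ : G → ℂ) 1) (fun χ e1 e2 e3 e4 => by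
    rw [(b.out χ e1 e2 e3 e4).2.1]; simp)] at h1
  have hc1 : (cc Y : G → ℂ) g = vY := by rw [cc_apply, hvY, map_intCast]
  have hc3 : (cc Y : G → ℂ) x⁻¹ = (Y : G → ℂ) x := by rw [cc_apply, conj_apply, inv_inv]
  simp only [triv_apply, hv, hvY, hc1, hc3, (b.vA _).1, (b.vA _).2, apply_one, deg_cc, mul_one, div_one] at h1
  have h2 : ∀ i, (v i : ℂ) * m i * m i / (deg (A i) : ℂ) = (1 / 8640) * (v i * (Q (deg (A i)) : ℂ)) := by
    intro i
    rw [cast_div_8640 (dvd_8640 hG _ (b.not_dvd i))]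
    have : (m i : ℂ) * m i = 1 := by rcases b.m_pm i with h | h <;> rw [h] <;> norm_num
    linear_combination (v i : ℂ) / (deg (A i) : ℂ) * this
  rw [Finset.sum_congr rfl (fun i _ => h2 i), ← Finset.mul_sum] at h1
  have h3 : (vY : ℂ) * (Y : G → ℂ) x⁻¹ * (Y : G → ℂ) x⁻¹ / (deg Y : ℂ) + (vY : ℂ) * (Y : G → ℂ) x * (Y : G → ℂ) x / (deg Y : ℂ) =
      (1 / 8640) * (-5 * vY * (Q (deg Y) : ℂ)) := by
    rw [cast_div_8640 (dvd_8640 hG _ b.not_dvdY)]
    have h5 : (a : ℂ) * a = 1 := by rcases b.a_pm with h | h <;> rw [h] <;> norm_num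
    have h6 := b.vY
    have h7 : (Y : G → ℂ) x⁻¹ * (Y : G → ℂ) x⁻¹ + (Y : G → ℂ) x * (Y : G → ℂ) x = -5 := by
      linear_combination ((Y : G → ℂ) x + (Y : G → ℂ) x⁻¹ + a) * h6 + h5 - 2 * b.nY
    linear_combination (vY : ℂ) / (deg Y : ℂ) * h7
  have h4 : ((11 * (n : ℤ) * Nat.card (centralizer ({g} : Set G)) : ℤ) : ℂ) =
      ((8640 + ∑ i, v i * Q (deg (A i)) - 5 * vY * Q (deg Y) : ℤ) : ℂ) := by
    push_cast
    push_cast at h1
    linear_combination (1 / 11) * h1 + 8640 * h3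
  exact_mod_cast h4

end Cfsg.Agent.Lib.M12ByOrder
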