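import Mathlib
import Cfsg.Agent.Lib.M12C

/-!
# Simple groups of order 95040, part D: elements of order 5 (helper7)
-/

set_option autoImplicit false
set_option linter.all false

namespace Cfsg.Agent.Lib.M12ByOrder

open Subgroup Cfsg Cfsg.Agent.Lib.CharBasic Cfsg.Agent.Lib.ColTools Cfsg.Agent.Lib.SmallSimple
  Cfsg.Agent.Lib.PBlock
open scoped ComplexConjugate

universe u

/-- multiplicities when the values are constant on nontrivial powers -/
theorem counts_const {H : Type*} [Group H] [Finite H] {p : ℕ} [Fact p.Prime] {χ : H → ℂ} (hχ : IsCharacter H χ)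
    (y : H) (hy : y ^ p = 1) {d v : ℂ} (h1 : χ 1 = d) (hv : ∀ k : ℕ, (k : ZMod p) ≠ 0 → χ (y ^ k) = v) :
    ∃ c0 c1 : ℕ, d + (p - 1) * v = p * c0 ∧ d - v = p * c1 := by
  classical
  obtain ⟨c, hc⟩ := exists_counts_prime hχ y hy
  have hF : ∀ k : ZMod p, ∑ i, (c i : ℂ) * ZMod.stdAddChar (i * k) = v + if k = 0 then d - v else 0 := by
    intro k
    have e1 := hc k.val
    rw [ZMod.natCast_zmod_val] at e1
    rw [← e1]
    by_cases hk : k = 0
    · rw [if_pos hk, hk, ZMod.val_zero, pow_zero, h1]; ring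
    · rw [if_neg hk, add_zero]
      exact hv _ (by rw [ZMod.natCast_zmod_val]; exact hk)
  have hz : ∀ j : ZMod p, ∑ k : ZMod p, (v + if k = 0 then d - v else 0) * ZMod.stdAddChar (-(j * k)) =
      (if j = 0 then p * v else 0) + (d - v) := by
    intro j
    simp only [add_mul, Finset.sum_add_distrib, ← Finset.mul_sum, ite_mul, zero_mul, Finset.sum_ite_eq', Finset.mem_univ, if_true,
      mul_zero, neg_zero, AddChar.map_zero_eq_one, mul_one]
    congr 1
    have e1 : ∑ k : ZMod p, (ZMod.stdAddChar (-(j * k)) : ℂ) = ∑ k : ZMod p, ZMod.stdAddChar (k * (-j)) := by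
      refine Finset.sum_congr rfl fun k _ => ?_
      congr 1; ring
    rw [e1, AddChar.sum_mulShift _ (ZMod.isPrimitive_stdAddChar p), ZMod.card]
    by_cases hj : j = 0
    · rw [if_pos hj, if_pos (by rw [hj, neg_zero]), mul_comm]
    · rw [if_neg hj, if_neg (by rw [neg_eq_zero]; exact hj), Nat.cast_zero, mul_zero]
  refine ⟨c 0, c 1, ?_, ?_⟩
  · have e1 := dft (fun i => (c i : ℂ)) 0
    simp only [hF] at e1
    rw [hz, if_pos rfl] at e1
    rw [← e1]; ring
  · have e1 := dft (fun i => (c i : ℂ)) 1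
    simp only [hF] at e1
    rw [hz, if_neg one_ne_zero, zero_add] at e1
    rw [← e1]

/-- Frobenius: a coset consists of conjugates -/
theorem conj_coset {G : Type*} [Group G] (H : Subgroup G) [Finite H] {y : G} (hy : ∀ h ∈ H, y * h * y⁻¹ ∈ H)
    (hf : ∀ h ∈ H, Commute h y → h = 1) {h : G} (hh : h ∈ H) : ∃ k ∈ H, k * y * k⁻¹ = h * y := by
  let f : H → H := fun k => ⟨k * (y * (k : G)⁻¹ * y⁻¹), H.mul_mem k.2 (hy _ (H.inv_mem k.2))⟩
  have hinj : Function.Injective f := by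
    intro k l hkl
    have e1 : (k : G) * (y * (k : G)⁻¹ * y⁻¹) = l * (y * (l : G)⁻¹ * y⁻¹) := congrArg Subtype.val hkl
    have e2 : ((l : G)⁻¹ * k) * y = y * ((l : G)⁻¹ * k) := by
      calc ((l : G)⁻¹ * k) * y = (l : G)⁻¹ * (k * (y * (k : G)⁻¹ * y⁻¹)) * y * k := by group
        _ = (l : G)⁻¹ * (l * (y * (l : G)⁻¹ * y⁻¹)) * y * k := by rw [e1]
        _ = y * ((l : G)⁻¹ * k) := by group
    have e3 := hf _ (H.mul_mem (H.inv_mem l.2) k.2) e2
    exact Subtype.ext (inv_mul_eq_one.1 e3).symm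
  obtain ⟨k, hk⟩ := (Finite.injective_iff_surjective.1 hinj) ⟨h, hh⟩
  refine ⟨k, k.2, ?_⟩
  have e1 : (k : G) * (y * (k : G)⁻¹ * y⁻¹) = h := congrArg Subtype.val hk
  rw [← e1]; group

variable {G : Type u} [Group G] [Finite G]
variable [IsSimpleGroup G] {x : G} {A : Fin 4 → IrrCharacter G} {m : Fin 4 → ℤ} {Y : IrrCharacter G} {a : ℤ}

theorem exists_y (hG : Nat.card G = 95040) (hx : orderOf x = 11) : ∃ y : G, orderOf y = 5 ∧ y ∈ normalizer (zpowers x : Set G) := by
  obtain ⟨y, hy⟩ := exists_prime_orderOf_dvd_card' (G := normalizer (zpowers x : Set G)) 5 (by rw [(elt11 hG x hx).2.1]; norm_num)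
  exact ⟨y, by rw [Subgroup.orderOf_coe, hy], y.2⟩

theorem order_of_mem_x (hx : orderOf x = 11) {h : G} (hh : h ∈ zpowers x) (h1 : h ≠ 1) : orderOf h = 11 :=
  PBlock.orderOf_mem (p := 11) (by rw [Nat.card_zpowers, hx]) hh h1

/-- elements of order prime to 11 normalizing act freely -/
theorem comm_x (hG : Nat.card G = 95040) (hx : orderOf x = 11) {y : G} (hy : ¬ orderOf y ∣ 11) {h : G} (hh : h ∈ zpowers x)
    (hc : Commute h y) : h = 1 := by
  by_contra h1
  have h2 := (elt11 hG h (order_of_mem_x hx hh h1)).1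
  have h3 : y ∈ centralizer ({h} : Set G) := by rw [mem_centralizer_singleton_iff]; exact hc.symm
  apply hy
  have h4 := orderOf_dvd_natCard (⟨y, h3⟩ : centralizer ({h} : Set G))
  rwa [h2, Subgroup.orderOf_mk] at h4

theorem conj_x {y : G} (hy : y ∈ normalizer (zpowers x : Set G)) : ∀ h ∈ zpowers x, y * h * y⁻¹ ∈ zpowers x :=
  fun h hh => (mem_normalizer_iff.1 hy h).1 hh

theorem order5_pow {y : G} (hy : orderOf y = 5) {k : ℕ} (hk : (k : ZMod 5) ≠ 0) : orderOf (y ^ k) = 5 := by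
  rw [orderOf_pow, hy]
  have : ¬ 5 ∣ k := fun h => hk ((ZMod.natCast_eq_zero_iff k 5).2 h)
  rw [Nat.gcd_comm, Nat.Coprime.gcd_eq_one ((Nat.Prime.coprime_iff_not_dvd (by norm_num)).2 this).symm, Nat.div_one]

/-- the value on an element of order 5 normalizing `⟨x⟩` -/
theorem fix_y (hG : Nat.card G = 95040) (hx : orderOf x = 11) {y : G} (hy : orderOf y = 5)
    (hyN : y ∈ normalizer (zpowers x : Set G)) (χ : IrrCharacter G) {v : ℤ} (hv : ∀ k : ℕ, (k : ZMod 5) ≠ 0 → (χ : G → ℂ) (y ^ k) = v)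
    {r : ℤ} [Fintype (zpowers x)] (hr : ∑ h : zpowers x, (χ : G → ℂ) (h : G) = 11 * r) :
    ∃ c0 c1 : ℕ, r + 4 * v = 5 * c0 ∧ r - v = 5 * c1 := by
  have h1 := fixChar χ.2.isCharacter (zpowers x) (normalizer (zpowers x : Set G)) (fun n hn h hh => conj_x hn h hh)
  have hcard : Nat.card (zpowers x) = 11 := by rw [Nat.card_zpowers, hx]
  obtain ⟨c0, c1, h2, h3⟩ := counts_const (p := 5) h1 ⟨y, hyN⟩ (Subtype.ext (by rw [← hy]; exact pow_orderOf_eq_one y)) (d := r) (v := v)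
    (by
      simp only [Subgroup.coe_one, mul_one, hr, hcard]
      push_cast; ring) (by
      intro k hk
      have h4 : ∀ h : zpowers x, (χ : G → ℂ) ((h : G) * ((⟨y, hyN⟩ : normalizer (zpowers x : Set G)) ^ k : normalizer (zpowers x : Set G))) = v := by
        intro h
        rw [SubgroupClass.coe_pow]
        obtain ⟨l, hl, hl'⟩ := conj_coset (zpowers x) (y := y ^ k) (conj_x ((normalizer (zpowers x : Set G)).pow_mem hyN k))
          (fun h hh hc => comm_x hG hx (by rw [order5_pow hy hk]; norm_num) hh hc) h.2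
        rw [← hl', χ.2.isCharacter.isClassFunction]
        exact hv k hk
      rw [Finset.sum_congr rfl (fun h _ => h4 h), Finset.sum_const, Finset.card_univ, ← Nat.card_eq_fintype_card, hcard]
      push_cast
      simp)
  refine ⟨c0, c1, ?_, ?_⟩
  · have : ((r + 4 * v : ℤ) : ℂ) = ((5 * c0 : ℤ) : ℂ) := by push_cast; push_cast at h2; linear_combination h2
    exact_mod_cast this
  · have : ((r - v : ℤ) : ℂ) = ((5 * c1 : ℤ) : ℂ) := by push_cast; push_cast at h3; linear_combination h3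
    exact_mod_cast this

theorem isSq11 : ∀ n : ZMod 11, n ≠ 0 → IsSquare n ∨ IsSquare (10 * n) := by decide

theorem conj_or (hG : Nat.card G = 95040) (hx : orderOf x = 11) {h : G} (hh : h ∈ zpowers x) (h1 : h ≠ 1) :
    IsConj x h ∨ IsConj x⁻¹ h := by
  obtain ⟨n, hn⟩ := (Submonoid.mem_powers_iff h x).1 (mem_powers_iff_mem_zpowers.2 hh)
  have hx11 : x ^ 11 = 1 := by rw [← hx]; exact pow_orderOf_eq_one x
  have hn0 : (n : ZMod 11) ≠ 0 := by
    intro h2
    obtain ⟨k, hk⟩ := (ZMod.natCast_eq_zero_iff n 11).1 h2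
    apply h1
    rw [← hn, hk, pow_mul, hx11, one_pow]
  rcases isSq11 (n : ZMod 11) hn0 with h2 | h2
  · left
    rw [← hn]
    exact (elt11 hG x hx).2.2.1 n hn0 h2
  · right
    have h3 := (elt11 hG x hx).2.2.1 (10 * n) (by
      push_cast
      exact mul_ne_zero (by decide) hn0) (by push_cast; exact h2)
    have h4 : x ^ (10 * n) = h⁻¹ := by
      rw [eq_inv_iff_mul_eq_one, ← hn, ← pow_add, show 10 * n + n = 11 * n by ring, pow_mul, hx11, one_pow]
    rw [h4] at h3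
    obtain ⟨g, hg⟩ := isConj_iff.1 h3
    refine isConj_iff.2 ⟨g, ?_⟩
    rw [← conj_inv, hg, inv_inv]

theorem Blk.val_pow (hG : Nat.card G = 95040) (hx : orderOf x = 11) (b : Blk x A m Y a) {h : G} (hh : h ∈ zpowers x) (h1 : h ≠ 1) :
    (∀ i, (A i : G → ℂ) h = m i) ∧ (Y : G → ℂ) h + (Y : G → ℂ) h⁻¹ = a := by
  rcases conj_or hG hx hh h1 with h2 | h2
  · obtain ⟨g, hg⟩ := isConj_iff.1 h2
    refine ⟨fun i => ?_, ?_⟩
    · rw [← hg, (A i).2.isCharacter.isClassFunction]; exact (b.vA i).1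
    · rw [← hg, conj_inv, Y.2.isCharacter.isClassFunction, Y.2.isCharacter.isClassFunction]; exact b.vY
  · obtain ⟨g, hg⟩ := isConj_iff.1 h2
    refine ⟨fun i => ?_, ?_⟩
    · rw [← hg, (A i).2.isCharacter.isClassFunction]; exact (b.vA i).2
    · rw [← hg, conj_inv, Y.2.isCharacter.isClassFunction, Y.2.isCharacter.isClassFunction, inv_inv, add_comm]; exact b.vY

theorem Blk.sumA (hG : Nat.card G = 95040) (hx : orderOf x = 11) (b : Blk x A m Y a) [Fintype (zpowers x)] (i : Fin 4) :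
    ∑ h : zpowers x, (A i : G → ℂ) (h : G) = deg (A i) + 10 * m i := by
  classical
  have h1 : ∀ h : zpowers x, (A i : G → ℂ) (h : G) = m i + if h = 1 then (deg (A i) : ℂ) - m i else 0 := by
    intro h
    by_cases hh : h = 1
    · rw [if_pos hh, hh, Subgroup.coe_one, apply_one]; ring
    · rw [if_neg hh, add_zero]
      exact (b.val_pow hG hx h.2 (fun e => hh (Subtype.ext e))).1 i
  rw [Finset.sum_congr rfl (fun h _ => h1 h), Finset.sum_add_distrib, Finset.sum_const, Finset.card_univ,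
    Finset.sum_ite_eq' Finset.univ (1 : zpowers x), if_pos (Finset.mem_univ _), ← Nat.card_eq_fintype_card, Nat.card_zpowers, hx]
  rw [nsmul_eq_mul]; push_cast; ring

theorem Blk.sumY (hG : Nat.card G = 95040) (hx : orderOf x = 11) (b : Blk x A m Y a) [Fintype (zpowers x)] :
    ∑ h : zpowers x, (Y : G → ℂ) (h : G) = deg Y + 5 * a := by
  classical
  have h1 : ∀ h : zpowers x, (Y : G → ℂ) (h : G) + (Y : G → ℂ) ((h : G)⁻¹) = a + if h = 1 then 2 * (deg Y : ℂ) - a else 0 := by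
    intro h
    by_cases hh : h = 1
    · rw [if_pos hh, hh, Subgroup.coe_one, inv_one, apply_one]; ring
    · rw [if_neg hh, add_zero]
      exact (b.val_pow hG hx h.2 (fun e => hh (Subtype.ext e))).2
  have h2 : ∑ h : zpowers x, (Y : G → ℂ) ((h : G)⁻¹) = ∑ h : zpowers x, (Y : G → ℂ) (h : G) :=
    Equiv.sum_comp (Equiv.inv (zpowers x)) (fun h : zpowers x => (Y : G → ℂ) (h : G))
  have h3 : ∑ h : zpowers x, ((Y : G → ℂ) (h : G) + (Y : G → ℂ) ((h : G)⁻¹)) = 2 * deg Y + 10 * a := by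
    rw [Finset.sum_congr rfl (fun h _ => h1 h), Finset.sum_add_distrib, Finset.sum_const, Finset.card_univ,
      Finset.sum_ite_eq' Finset.univ (1 : zpowers x), if_pos (Finset.mem_univ _), ← Nat.card_eq_fintype_card, Nat.card_zpowers, hx]
    rw [nsmul_eq_mul]; push_cast; ring
  rw [Finset.sum_add_distrib, h2] at h3
  linear_combination (1 / 2) * h3

/-- values on `y`, first kind -/
theorem Blk.yA (hG : Nat.card G = 95040) (hx : orderOf x = 11) (b : Blk x A m Y a) {y : G} (hy : orderOf y = 5)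
    (hyN : y ∈ normalizer (zpowers x : Set G)) (i : Fin 4) {v : ℤ} (hv : ∀ k : ℕ, (k : ZMod 5) ≠ 0 → (A i : G → ℂ) (y ^ k) = v) :
    ∃ c0 c1 : ℕ, (deg (A i) : ℤ) + 10 * m i + 44 * v = 55 * c0 ∧ (deg (A i) : ℤ) + 10 * m i - 11 * v = 55 * c1 := by
  classical
  letI : Fintype (zpowers x) := Fintype.ofFinite _
  obtain ⟨s, hs, hs'⟩ := b.degA i
  obtain ⟨c0, c1, h1, h2⟩ := fix_y hG hx hy hyN (A i) hv (r := s + m i) (by
    rw [b.sumA hG hx i]
    have : ((deg (A i) : ℤ) : ℂ) = ((m i + 11 * s : ℤ) : ℂ) := by rw [hs']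
    push_cast at this
    rw [this]; push_cast; ring)
  exact ⟨c0, c1, by linarith, by linarith⟩

/-- values on `y`, second kind -/
theorem Blk.yY (hG : Nat.card G = 95040) (hx : orderOf x = 11) (b : Blk x A m Y a) {y : G} (hy : orderOf y = 5)
    (hyN : y ∈ normalizer (zpowers x : Set G)) {v : ℤ} (hv : ∀ k : ℕ, (k : ZMod 5) ≠ 0 → (Y : G → ℂ) (y ^ k) = v) :
    ∃ c0 c1 : ℕ, (deg Y : ℤ) + 5 * a + 44 * v = 55 * c0 ∧ (deg Y : ℤ) + 5 * a - 11 * v = 55 * c1 := by
  classical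
  letI : Fintype (zpowers x) := Fintype.ofFinite _
  obtain ⟨s, hs, hs'⟩ := b.degY
  have hpar : ∃ r : ℤ, (deg Y : ℤ) + 5 * a = 11 * r := by
    rcases b.a_pm with h | h <;> rw [h] at hs' ⊢
    · exact ⟨((deg Y : ℤ) + 5) / 11, by omega⟩
    · exact ⟨((deg Y : ℤ) - 5) / 11, by omega⟩
  obtain ⟨r, hr⟩ := hpar
  obtain ⟨c0, c1, h1, h2⟩ := fix_y hG hx hy hyN Y hv (r := r) (by
    rw [b.sumY hG hx]
    have : (((deg Y : ℤ) + 5 * a : ℤ) : ℂ) = ((11 * r : ℤ) : ℂ) := by rw [hr]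
    push_cast at this
    rw [this])
  exact ⟨c0, c1, by linarith, by linarith⟩

end Cfsg.Agent.Lib.M12ByOrder
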