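import Mathlib
import Cfsg.Agent.Lib.M12D
import Cfsg.Agent.Lib.CharNorm

/-!
# Simple groups of order 95040, part E: the inertial index of the Sylow 5-subgroup is 4 (helper7)
-/

set_option autoImplicit false
set_option linter.all false

namespace Cfsg.Agent.Lib.M12ByOrder

open Subgroup Cfsg Cfsg.Agent.Lib.CharBasic Cfsg.Agent.Lib.ColTools Cfsg.Agent.Lib.SmallSimple
  Cfsg.Agent.Lib.PBlock
open scoped ComplexConjugate

universe u

/-- candidates for the value of an irreducible character of degree `d` on an involution -/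
def inv (d : ℕ) : List ℤ := (List.range ((2 * d - 1) / 4)).map (fun k : ℕ => (d : ℤ) - 4 * (k + 1))

theorem mem_inv {d : ℕ} {v : ℤ} (h1 : ((d : ℤ) - v) % 4 = 0) (h2 : -(d : ℤ) < v) (h3 : v < d) : v ∈ inv d := by
  rw [inv, List.mem_map]
  refine ⟨(((d : ℤ) - v) / 4 - 1).toNat, ?_, ?_⟩
  · rw [List.mem_range]
    omega
  · omega

/-- the quadratic form -/
def E4 (c : (ℤ × ℕ) × (ℤ × ℕ) × (ℤ × ℕ) × (ℤ × ℕ) × (ℤ × ℕ)) (v0 v1 v2 v3 vY w0 w1 w2 w3 wY : ℤ) : ℤ :=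
  8640 + (c.1.1 * v0 * w0 * Q c.1.2 + c.2.1.1 * v1 * w1 * Q c.2.1.2 + c.2.2.1.1 * v2 * w2 * Q c.2.2.1.2 +
    c.2.2.2.1.1 * v3 * w3 * Q c.2.2.2.1.2) + c.2.2.2.2.1 * vY * wY * Q c.2.2.2.2.2

/-- the linear form -/
def L4 (c : (ℤ × ℕ) × (ℤ × ℕ) × (ℤ × ℕ) × (ℤ × ℕ) × (ℤ × ℕ)) (t v0 v1 v2 v3 vY : ℤ) : ℤ :=
  8640 + (v0 * Q c.1.2 + v1 * Q c.2.1.2 + v2 * Q c.2.2.1.2 + v3 * Q c.2.2.2.1.2) + t * vY * Q c.2.2.2.2.2

/-- the value of the exceptional character -/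
def yy (c : (ℤ × ℕ) × (ℤ × ℕ) × (ℤ × ℕ) × (ℤ × ℕ) × (ℤ × ℕ)) (v0 v1 v2 v3 : ℤ) : ℤ :=
  - c.2.2.2.2.1 * (1 + (c.1.1 * v0 + c.2.1.1 * v1 + c.2.2.1.1 * v2 + c.2.2.2.1.1 * v3))

theorem ar52 : ∀ d ∈ Nat.divisors 19008, ∀ y ∈ Nat.divisors 19008, (d % 5 = 1 → d ≠ 1 → y = d + 1 → d = 11) ∧
    (d % 5 = 4 → y + 1 = d → d = 4 ∨ d = 9) := by decide +kernel

theorem ar52b : ∀ c ∈ cands, 2 ≤ [c.1.2, c.2.1.2, c.2.2.1.2, c.2.2.2.1.2].count 12 →
    ∀ v0 ∈ inv c.1.2, ∀ v1 ∈ inv c.2.1.2, ∀ v2 ∈ inv c.2.2.1.2, ∀ v3 ∈ inv c.2.2.2.1.2,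
    2 ≤ [((c.1.2 : ℕ), v0), (c.2.1.2, v1), (c.2.2.1.2, v2), (c.2.2.2.1.2, v3)].count (12, -8) →
    yy c v0 v1 v2 v3 ∈ inv c.2.2.2.2.2 →
    E4 c v0 v1 v2 v3 (yy c v0 v1 v2 v3) v0 v1 v2 v3 (yy c v0 v1 v2 v3) = 0 →
    ¬ 0 ≤ L4 c 6 v0 v1 v2 v3 (yy c v0 v1 v2 v3) := by
  decide +kernel

/-- integral values on `p`-elements -/
theorem int_congr {G : Type*} [Group G] [Finite G] {χ : G → ℂ} (hχ : IsCharacter G χ) {p k : ℕ} [hp : Fact p.Prime] {g : G}
    (hg : g ^ p ^ k = 1) {n d : ℤ} (hn : χ g = n) (hd : χ 1 = d) : (n : ZMod p) = d := by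
  obtain ⟨w, hw, h⟩ := CharNorm.pow_congr hχ hp.out hg
  rw [hn, hd] at h
  have hp0 : (p : ℂ) ≠ 0 := by exact_mod_cast hp.out.ne_zero
  have h1 : w = (((((n ^ p ^ k - d : ℤ) : ℚ)) / p : ℚ) : ℂ) := by
    push_cast
    rw [eq_div_iff hp0]
    linear_combination -h
  obtain ⟨z, hz⟩ := CharCentral.exists_int_of_isIntegral_rat hw _ h1
  rw [hz] at h
  have h2 : n ^ p ^ k = d + p * z := by exact_mod_cast h
  have h3 : ((n ^ p ^ k : ℤ) : ZMod p) = ((d + p * z : ℤ) : ZMod p) := by rw [h2]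
  push_cast at h3
  rw [ZMod.pow_card_pow, CharP.cast_eq_zero, zero_mul, add_zero] at h3
  exact h3

variable {G : Type u} [Group G] [Finite G]
variable [IsSimpleGroup G] {x : G} {A : Fin 4 → IrrCharacter G} {m : Fin 4 → ℤ} {Y : IrrCharacter G} {a : ℤ}

theorem TL_ge : ∀ t ∈ TL, 10 ≤ t.2 := by decide
theorem TYL_ge : ∀ t ∈ TYL, 5 ≤ t.2 ∧ t.2 ≠ 12 ∧ t.2 ≠ 9 := by decide

theorem Blk.deg_cases (hG : Nat.card G = 95040) (b : Blk x A m Y a) {χ : IrrCharacter G} (hχ : χ ≠ triv G) :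
    11 ∣ deg χ ∨ (∃ i, χ = A i ∧ 10 ≤ deg χ) ∨ ((χ = Y ∨ χ = cc Y) ∧ 5 ≤ deg χ ∧ deg χ ≠ 12 ∧ deg χ ≠ 9) := by
  by_cases h1 : ∃ i, χ = A i
  · obtain ⟨i, hi⟩ := h1
    exact Or.inr (Or.inl ⟨i, hi, by rw [hi]; exact TL_ge _ (b.memT hG i)⟩)
  · push Not at h1
    by_cases h2 : χ = Y
    · exact Or.inr (Or.inr ⟨Or.inl h2, by rw [h2]; exact TYL_ge _ (b.memTY hG)⟩)
    · by_cases h3 : χ = cc Y
      · exact Or.inr (Or.inr ⟨Or.inr h3, by rw [h3, deg_cc]; exact TYL_ge _ (b.memTY hG)⟩)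
      · exact Or.inl (b.out χ hχ h1 h2 h3).2.2

theorem order2_ne {s : G} (hs : orderOf s = 2) : orderOf s ≠ 11 ∧ s ≠ 1 ∧ s ^ 2 = 1 :=
  ⟨by rw [hs]; norm_num, fun h => by rw [h, orderOf_one] at hs; norm_num at hs, by rw [← hs]; exact pow_orderOf_eq_one s⟩

/-- the degree data of the block -/
noncomputable def cnd (A : Fin 4 → IrrCharacter G) (m : Fin 4 → ℤ) (Y : IrrCharacter G) (a : ℤ) :
    (ℤ × ℕ) × (ℤ × ℕ) × (ℤ × ℕ) × (ℤ × ℕ) × (ℤ × ℕ) :=
  ((m 0, deg (A 0)), (m 1, deg (A 1)), (m 2, deg (A 2)), (m 3, deg (A 3)), (a, deg Y))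

/-- values of the block on an involution -/
theorem Blk.inv_data (hG : Nat.card G = 95040) (hx : orderOf x = 11) (b : Blk x A m Y a) {s : G} (hs : orderOf s = 2) :
    ∃ v : Fin 4 → ℤ, (∀ i, (A i : G → ℂ) s = v i) ∧ (∀ i, v i ∈ inv (deg (A i))) ∧
      (Y : G → ℂ) s = yy (cnd A m Y a) (v 0) (v 1) (v 2) (v 3) ∧
      yy (cnd A m Y a) (v 0) (v 1) (v 2) (v 3) ∈ inv (deg Y) ∧
      E4 (cnd A m Y a) (v 0) (v 1) (v 2) (v 3)
        (yy (cnd A m Y a) (v 0) (v 1) (v 2) (v 3))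
        (v 0) (v 1) (v 2) (v 3)
        (yy (cnd A m Y a) (v 0) (v 1) (v 2) (v 3)) = 0 ∧
      (∃ n : ℕ, 11 * (n : ℤ) * Nat.card (centralizer ({s} : Set G)) =
        L4 (cnd A m Y a) 6 (v 0) (v 1) (v 2) (v 3)
        (yy (cnd A m Y a) (v 0) (v 1) (v 2) (v 3))) ∧
      (∃ n : ℕ, 11 * (n : ℤ) * Nat.card (centralizer ({s} : Set G)) =
        L4 (cnd A m Y a) (-5) (v 0) (v 1) (v 2) (v 3)
        (yy (cnd A m Y a) (v 0) (v 1) (v 2) (v 3))) := by
  have hna := notComm hG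
  obtain ⟨hs11, hs1, hs2⟩ := order2_ne hs
  choose v hv1 hv2 hv3 hv4 hv5 using fun i => val_inv hna (A i) s hs2
  obtain ⟨vY, hY1, hY2, hY3, hY4, hY5⟩ := val_inv hna Y s hs2
  obtain ⟨n1, n2⟩ := M11ByOrder.not_isConj_of_order hx hs11
  have hrel := b.rel s n1 n2
  have ha2 : a * a = 1 := by rcases b.a_pm with h | h <;> rw [h] <;> norm_num
  have hrel' : 1 + (m 0 * v 0 + m 1 * v 1 + m 2 * v 2 + m 3 * v 3) + a * vY = 0 := by
    simp only [hv1, hY1, Fin.sum_univ_four] at hrel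
    exact_mod_cast hrel
  have hYv : vY = yy (cnd A m Y a) (v 0) (v 1) (v 2) (v 3) := by
    simp only [yy, cnd]
    linear_combination a * hrel' - vY * ha2
  have hYm : vY ∈ inv (deg Y) := mem_inv hY2 (hY5 hs1 b.Yt).1 (hY5 hs1 b.Yt).2
  refine ⟨v, hv1, fun i => mem_inv (hv2 i) (hv5 i hs1 (b.At i)).1 (hv5 i hs1 (b.At i)).2, by rw [← hYv]; exact hY1, ?_, ?_, ?_, ?_⟩
  · rw [← hYv]; exact hYm
  · rw [← hYv]
    obtain ⟨n, hn, hn0⟩ := b.E hG hx hs11 hs1 hs11 hv1 hv1 hY1 hY1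
    have h0 : n = 0 := by
      apply hn0
      intro p q hp hq
      exact M11ByOrder.not_prod (elt11 hG x hx).2.2.2 hs2 hs2 p q hp hq
    rw [h0, Fin.sum_univ_four] at hn
    push_cast at hn
    simp only [E4, cnd]
    linarith
  · rw [← hYv]
    obtain ⟨n, hn⟩ := b.E1 hG hx hs11 hs1 hv1 hY1
    refine ⟨n, ?_⟩
    rw [hn, Fin.sum_univ_four, L4, cnd]
  · rw [← hYv]
    obtain ⟨n, hn⟩ := b.E2 hG hx hs11 hs1 hv1 hY1
    refine ⟨n, ?_⟩
    rw [hn, Fin.sum_univ_four, L4, cnd]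
    ring

/-- the degrees in the principal 5-block with inertial index 2 -/
theorem degs52 (hG : Nat.card G = 95040) (b : Blk x A m Y a) (P : Sylow 5 G)
    (hP : Nat.card (P : Subgroup G) = 5) (B : PB 5 (P : Subgroup G) 2 2) :
    ∃ χ ∈ B.X, χ ≠ triv G ∧ (∀ χ' ∈ B.X, χ' = triv G ∨ χ' = χ) ∧ B.δ χ = 1 ∧ B.s = 1 ∧ deg χ = 11 ∧ (∀ ψ ∈ B.Y, deg ψ = 12) ∧
      (∀ ψ ∈ B.Y, ∀ g : G, ¬ 5 ∣ orderOf g → (ψ : G → ℂ) g = 1 + (χ : G → ℂ) g) := by
  classical
  have hna := notComm hG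
  have hdvd : ∀ χ : IrrCharacter G, deg χ ∣ (centralizer ((P : Subgroup G) : Set G)).index → deg χ ∈ Nat.divisors 19008 := by
    intro χ hχ
    rw [Nat.mem_divisors]
    refine ⟨hχ.trans ?_, by norm_num⟩
    have h1 := Subgroup.card_mul_index (centralizer ((P : Subgroup G) : Set G))
    obtain ⟨c, hc⟩ := (index_mul P hP).2.2
    rw [hc, hG] at h1
    exact ⟨c, by
      have : 5 * (c * (centralizer ((P : Subgroup G) : Set G)).index) = 5 * 19008 := by rw [← mul_assoc, h1]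
      have := Nat.eq_of_mul_eq_mul_left (by norm_num) this
      rw [mul_comm]; exact this.symm⟩
  obtain ⟨χ, hχ, hχ1⟩ := Finset.exists_mem_ne (by rw [B.cardX]; norm_num : 1 < B.X.card) (triv G)
  have hX : B.X = {triv G, χ} := by
    symm
    apply Finset.eq_of_subset_of_card_le
    · intro a ha
      rcases Finset.mem_insert.1 ha with rfl | ha
      · exact B.tX
      · rw [Finset.mem_singleton.1 ha]; exact hχ
    · rw [B.cardX, Finset.card_pair hχ1.symm]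
  have hge : ∀ χ : IrrCharacter G, χ ≠ triv G → 5 ≤ deg χ ∧ deg χ ≠ 9 := by
    intro χ hχ
    rcases b.deg_cases hG hχ with h | ⟨i, h, h2⟩ | ⟨h, h2, h3, h4⟩
    · have := Nat.le_of_dvd (deg_pos χ) h
      omega
    · omega
    · omega
  have hd1 := hge χ hχ1
  obtain ⟨k, hk⟩ := B.degX χ hχ
  have hm := deg_mod hk
  have key : ∀ ψ ∈ B.Y, B.δ χ = 1 ∧ B.s = 1 ∧ deg χ = 11 ∧ deg ψ = 12 := by
    intro ψ hψ
    have hψ1 : ψ ≠ triv G := fun h => B.disj _ B.tX (h ▸ hψ)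
    have hrel := B.rel ψ hψ 1 (by rw [orderOf_one]; norm_num)
    rw [hX, Finset.sum_pair hχ1.symm, B.tδ, apply_one, apply_one, apply_one, deg_triv] at hrel
    have hrel' : B.s * deg ψ = 1 + B.δ χ * deg χ := by
      have : ((B.s * deg ψ : ℤ) : ℂ) = ((1 + B.δ χ * deg χ : ℤ) : ℂ) := by push_cast; push_cast at hrel; rw [hrel]; ring
      exact_mod_cast this
    have h4 := ar52 _ (hdvd χ (B.dvdX χ hχ)) _ (hdvd ψ (B.dvdY ψ hψ))
    have hp2 := hge ψ hψ1
    rcases B.δ_pm χ hχ with h1 | h1 <;> rcases B.s_pm with h2 | h2 <;> rw [h1] at hrel' hm <;> rw [h2] at hrel' <;> push_cast at hm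
    · have h5 := h4.1 (by omega) (by omega) (by omega)
      exact ⟨h1, h2, h5, by omega⟩
    · omega
    · omega
    · have h5 := h4.2 (by omega) (by omega)
      omega
  obtain ⟨ψ0, hψ0⟩ := Finset.card_pos.1 (by rw [B.cardY]; norm_num : 0 < B.Y.card)
  obtain ⟨k1, k2, k3, -⟩ := key ψ0 hψ0
  refine ⟨χ, hχ, hχ1, fun χ' h => by rw [hX] at h; simpa using h, k1, k2, k3, fun ψ hψ => (key ψ hψ).2.2.2, fun ψ hψ g hg => ?_⟩
  have h5 := B.rel ψ hψ g hg
  rw [hX, Finset.sum_pair hχ1.symm, B.tδ, k1, k2, triv_apply] at h5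
  push_cast at h5
  simpa using h5

theorem case52a (hG : Nat.card G = 95040) (b : Blk x A m Y a) (P : Sylow 5 G)
    (hP : Nat.card (P : Subgroup G) = 5) (B : PB 5 (P : Subgroup G) 2 2)
    (h9 : 3 ^ 2 ∣ Nat.card (centralizer ((P : Subgroup G) : Set G))) : False := by
  classical
  have hna := notComm hG
  obtain ⟨χ, hχ, hχ1, hX, hδ, hs, hd, hdY, hrelY⟩ := degs52 hG b P hP B
  haveI : Fintype (P : Subgroup G) := Fintype.ofFinite _
  -- `χ` is rational-valued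
  have hrat : ∀ z : G, ∃ n : ℤ, (χ : G → ℂ) z = n := by
    intro z
    have h1 : ∀ σ : ℂ →+* ℂ, σ ((χ : G → ℂ) z) = (χ : G → ℂ) z := by
      intro σ
      have h2 : DefOneGalois.gal σ χ ∈ B.X := by
        refine B.uniq _ 1 one_ne_zero fun c hc h5 => ?_
        rw [DefOneGalois.gal_apply, B.valX χ hχ c hc h5, hδ, Int.cast_one, map_one]
      rcases hX _ h2 with h2 | h2
      · exfalso
        have h3 : (DefOneGalois.gal σ χ : G → ℂ) 1 = 1 := by rw [h2]; rfl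
        rw [DefOneGalois.gal_apply, apply_one, hd, map_natCast] at h3
        norm_num at h3
      · have h3 : (DefOneGalois.gal σ χ : G → ℂ) z = (χ : G → ℂ) z := by rw [h2]
        rwa [DefOneGalois.gal_apply] at h3
    have hint : IsIntegral ℤ ((χ : G → ℂ) z) := by
      obtain ⟨n, ρ, hρ⟩ := χ.2.isCharacter
      rw [← hρ]; exact CharValues.isIntegral_character ρ z
    obtain ⟨q, hq⟩ := CharGalois.exists_rat_of_fixed (hint.tower_top) h1
    exact CharCentral.exists_int_of_isIntegral_rat hint q hq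
  -- values on 3-elements
  have hval : ∀ z ∈ centralizer ((P : Subgroup G) : Set G), z ≠ 1 → (∃ k : ℕ, z ^ 3 ^ k = 1) → (χ : G → ℂ) z = -4 := by
    rintro z hz hz1 ⟨k, hk⟩
    obtain ⟨n, hn⟩ := hrat z
    have h1 := int_congr (p := 3) χ.2.isCharacter hk hn (d := (11 : ℤ)) (by rw [apply_one, hd]; norm_num)
    have h5z : ¬ 5 ∣ orderOf z := by
      intro h
      have h2 := h.trans (orderOf_dvd_of_pow_eq_one hk)
      have h3 := (Nat.Prime.dvd_of_dvd_pow (by norm_num : Nat.Prime 5) h2)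
      norm_num at h3
    -- the trace on the fixed space is an integer
    have h2 := fixChar χ.2.isCharacter (P : Subgroup G) (centralizer ((P : Subgroup G) : Set G)) (by
      intro n hn h hh
      have : h * n = n * h := Subgroup.mem_centralizer_iff.1 hn h hh
      rw [← this, mul_inv_cancel_right]; exact hh)
    have h3 : IsIntegral ℤ ((Nat.card (P : Subgroup G) : ℂ)⁻¹ * ∑ h : (P : Subgroup G), (χ : G → ℂ) ((h : G) * z)) := by
      obtain ⟨r, ρ, hρ⟩ := h2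
      have h4 := congrFun hρ ⟨z, hz⟩
      have h5 := CharValues.isIntegral_character ρ ⟨z, hz⟩
      rw [h4] at h5
      exact h5
    rw [sum_const hP (δ := 1) (fun c hc h => by rw [B.valX χ hχ c hc h, hδ]; norm_num) hz h5z, hP, hn] at h3
    obtain ⟨t, ht⟩ := CharCentral.exists_int_of_isIntegral_rat h3 (((n + 4 : ℤ) : ℚ) / 5) (by push_cast; ring)
    have h6 : n + 4 = 5 * t := by
      have : ((n + 4 : ℤ) : ℂ) = ((5 * t : ℤ) : ℂ) := by push_cast; push_cast at ht; linear_combination 5 * ht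
      exact_mod_cast this
    have h7 := norm_lt hna hχ1 hz1
    rw [hn, hd, Complex.norm_intCast] at h7
    have h8 : |n| < 11 := by exact_mod_cast h7
    rw [abs_lt] at h8
    have h10 : (n - 11) % 3 = 0 := by
      have : ((n - 11 : ℤ) : ZMod 3) = 0 := by push_cast; push_cast at h1; rw [h1]; ring
      exact Int.emod_eq_zero_of_dvd ((ZMod.intCast_zmod_eq_zero_iff_dvd _ _).1 this)
    have h11 : n = -4 := by omega
    rw [hn, h11]; norm_num
  -- the fixed points of a Sylow 3-subgroup of the centralizer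
  obtain ⟨S⟩ : Nonempty (Sylow 3 (centralizer ((P : Subgroup G) : Set G))) := inferInstance
  have hS : 3 ^ 2 ∣ Nat.card (S : Subgroup (centralizer ((P : Subgroup G) : Set G))) := by
    have h10 : (S : Subgroup (centralizer ((P : Subgroup G) : Set G))).IsComplement' ⊥ ∨ True := Or.inr trivial
    exact S.pow_dvd_card_of_pow_dvd_card h9
  haveI : Fintype (S : Subgroup (centralizer ((P : Subgroup G) : Set G))) := Fintype.ofFinite _
  have h2 := fixChar χ.2.isCharacter (P : Subgroup G) (centralizer ((P : Subgroup G) : Set G)) (by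
    intro n hn h hh
    have : h * n = n * h := Subgroup.mem_centralizer_iff.1 hn h hh
    rw [← this, mul_inv_cancel_right]; exact hh)
  obtain ⟨r, ρ, hρ⟩ := h2
  have h3 := ColTools.sum_subgroup ρ (S : Subgroup (centralizer ((P : Subgroup G) : Set G)))
  have h4 : ∀ z : (S : Subgroup (centralizer ((P : Subgroup G) : Set G))), ρ.character z = if z = 1 then 3 else 0 := by
    intro z
    have h5 := congrFun hρ z
    rw [h5]
    have h3k : ∃ k : ℕ, ((z : centralizer ((P : Subgroup G) : Set G)) : G) ^ 3 ^ k = 1 := by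
      obtain ⟨k, hk⟩ := S.isPGroup' z
      refine ⟨k, ?_⟩
      have h6 := congrArg (fun w : (S : Subgroup (centralizer ((P : Subgroup G) : Set G))) => ((w : centralizer ((P : Subgroup G) : Set G)) : G)) hk
      simpa using h6
    have h5z : ¬ 5 ∣ orderOf ((z : centralizer ((P : Subgroup G) : Set G)) : G) := by
      obtain ⟨k, hk⟩ := h3k
      intro h
      have h2 := h.trans (orderOf_dvd_of_pow_eq_one hk)
      have h3 := (Nat.Prime.dvd_of_dvd_pow (by norm_num : Nat.Prime 5) h2)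
      norm_num at h3
    have h6 := sum_const hP (χ := (χ : G → ℂ)) (δ := 1) (fun c hc h => by rw [B.valX χ hχ c hc h, hδ]; norm_num)
      (z : centralizer ((P : Subgroup G) : Set G)).2 h5z
    rw [h6, hP]
    by_cases hz : z = 1
    · rw [if_pos hz, hz]
      simp only [Subgroup.coe_one]
      rw [apply_one, hd]; push_cast; norm_num
    · rw [if_neg hz, hval _ (z : centralizer ((P : Subgroup G) : Set G)).2 (fun h => hz (Subtype.ext (Subtype.ext h))) h3k]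
      push_cast; norm_num
  rw [Finset.sum_congr rfl (fun z _ => h4 z), Finset.sum_ite_eq' Finset.univ, if_pos (Finset.mem_univ _)] at h3
  have h5 : 3 = Nat.card (S : Subgroup (centralizer ((P : Subgroup G) : Set G))) * Module.finrank ℂ (Representation.invariants (ρ.comp (S : Subgroup (centralizer ((P : Subgroup G) : Set G))).subtype)) := by
    exact_mod_cast h3
  obtain ⟨l, hl⟩ := hS
  rw [hl, mul_assoc] at h5
  omega

theorem count_two {α : Type*} [BEq α] [LawfulBEq α] (f : Fin 4 → α) (t : α) {i j : Fin 4} (hij : i ≠ j) (hi : f i = t) (hj : f j = t) :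
    2 ≤ [f 0, f 1, f 2, f 3].count t := by
  simp only [List.count_cons, List.count_nil, beq_iff_eq]
  fin_cases i <;> fin_cases j <;> simp_all <;> omega

theorem case52b (hG : Nat.card G = 95040) (hx : orderOf x = 11) (b : Blk x A m Y a) (P : Sylow 5 G)
    (hP : Nat.card (P : Subgroup G) = 5) (B : PB 5 (P : Subgroup G) 2 2)
    (h2c : 2 ∣ Nat.card (centralizer ((P : Subgroup G) : Set G))) : False := by
  classical
  have hna := notComm hG
  obtain ⟨χ, hχ, hχ1, hX, hδ, hs, hd, hdY, hrelY⟩ := degs52 hG b P hP B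
  haveI : Fintype (P : Subgroup G) := Fintype.ofFinite _
  obtain ⟨s', hs'⟩ := exists_prime_orderOf_dvd_card' (G := centralizer ((P : Subgroup G) : Set G)) 2 h2c
  obtain ⟨s, hsC⟩ := s'
  have hso : orderOf s = 2 := by rw [Subgroup.orderOf_mk] at hs'; exact hs'
  obtain ⟨hs11, hs1, hs2⟩ := order2_ne hso
  obtain ⟨n0, n1, -, h4⟩ := fix_inv (p := 5) χ.2.isCharacter (P := (P : Subgroup G)) (N := centralizer ((P : Subgroup G) : Set G)) hP
    (by
      intro n hn h hh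
      have : h * n = n * h := Subgroup.mem_centralizer_iff.1 hn h hh
      rw [← this, mul_inv_cancel_right]; exact hh) hsC hs2
  rw [sum_const hP (χ := (χ : G → ℂ)) (δ := 1) (fun c hc h => by rw [B.valX χ hχ c hc h, hδ]; norm_num) hsC (by rw [hso]; norm_num)] at h4
  obtain ⟨v, hv1, hv2, hv3, hv4, hv5⟩ := val_inv hna χ s hs2
  obtain ⟨hv6, hv7⟩ := hv5 hs1 hχ1
  have h5 : v + 4 = 5 * ((n0 : ℤ) - n1) := by
    rw [hv1] at h4
    have : ((v + 4 : ℤ) : ℂ) = ((5 * ((n0 : ℤ) - n1) : ℤ) : ℂ) := by push_cast; push_cast at h4; linear_combination h4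
    exact_mod_cast this
  rw [hd] at hv2 hv6 hv7
  push_cast at hv2 hv6 hv7
  have hv9 : v = -9 := by omega
  obtain ⟨ψ1, ψ2, h12, hYe⟩ := Finset.card_eq_two.1 B.cardY
  have key : ∀ ψ ∈ B.Y, ∃ i, ψ = A i ∧ deg (A i) = 12 ∧ (A i : G → ℂ) s = -8 := by
    intro ψ hψ
    have hψ1 : ψ ≠ triv G := fun h => B.disj _ B.tX (h ▸ hψ)
    have h8 := hrelY ψ hψ s (by rw [hso]; norm_num)
    rw [hv1, hv9] at h8
    have h12 := hdY ψ hψ
    rcases b.deg_cases hG hψ1 with h | ⟨i, h, -⟩ | ⟨-, -, h, -⟩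
    · rw [h12] at h; norm_num at h
    · exact ⟨i, h, by rw [← h]; exact h12, by rw [← h, h8]; norm_num⟩
    · exact absurd h12 h
  obtain ⟨i, hi1, hi2, hi3⟩ := key ψ1 (by rw [hYe]; simp)
  obtain ⟨j, hj1, hj2, hj3⟩ := key ψ2 (by rw [hYe]; simp)
  have hij : i ≠ j := fun h => h12 (by rw [hi1, hj1, h])
  obtain ⟨v, w1, w2, w3, w4, w5, ⟨n, w6⟩, w7⟩ := b.inv_data hG hx hso
  have hvi : v i = -8 := by rw [w1] at hi3; exact_mod_cast hi3
  have hvj : v j = -8 := by rw [w1] at hj3; exact_mod_cast hj3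
  refine ar52b (cnd A m Y a) (b.cand hG hx) ?_ (v 0) (w2 0) (v 1) (w2 1) (v 2) (w2 2) (v 3) (w2 3) ?_ w4 w5 ?_
  · exact count_two (fun k => deg (A k)) 12 hij hi2 hj2
  · exact count_two (fun k => (deg (A k), v k)) (12, -8) hij (Prod.ext hi2 hvi) (Prod.ext hj2 hvj)
  · rw [← w6]; positivity

end Cfsg.Agent.Lib.M12ByOrder
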