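import Mathlib
import Cfsg.Agent.Lib.M12E

/-!
# Simple groups of order 95040, part F: the Sylow 5-normalizer, arithmetic (helper7)
-/

set_option autoImplicit false
set_option linter.all false
set_option synthInstance.maxHeartbeats 400000
set_option synthInstance.maxSize 100000

namespace Cfsg.Agent.Lib.M12ByOrder

/-- candidates for the value on `y` -/
def yv (r : ℤ) : List ℤ :=
  ((List.range 40).map (fun k : ℕ => (k : ℤ) - 10)).filter (fun v => (r - v) % 5 = 0 ∧ 0 ≤ r - v ∧ 0 ≤ r + 4 * v)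

theorem mem_yv {r v : ℤ} (h1 : (r - v) % 5 = 0) (h2 : 0 ≤ r - v) (h3 : 0 ≤ r + 4 * v) (hr : r < 30) : v ∈ yv r := by
  rw [yv, List.mem_filter]
  refine ⟨?_, decide_eq_true ⟨h1, h2, h3⟩⟩
  rw [List.mem_map]
  exact ⟨(v + 10).toNat, by rw [List.mem_range]; omega, by omega⟩

def rA (p : ℤ × ℕ) : ℤ := (p.2 + 10 * p.1) / 11
def rY (p : ℤ × ℕ) : ℤ := (p.2 + 5 * p.1) / 11

theorem ar54a : ∀ c ∈ cands, ∀ v0 ∈ yv (rA c.1), ∀ v1 ∈ yv (rA c.2.1), ∀ v2 ∈ yv (rA c.2.2.1), ∀ v3 ∈ yv (rA c.2.2.2.1),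
    yy c v0 v1 v2 v3 ∈ yv (rY c.2.2.2.2) →
    0 < E4 c v0 v1 v2 v3 (yy c v0 v1 v2 v3) v0 v1 v2 v3 (yy c v0 v1 v2 v3) ∧
    E4 c v0 v1 v2 v3 (yy c v0 v1 v2 v3) v0 v1 v2 v3 (yy c v0 v1 v2 v3) < 18225 := by
  decide +kernel

theorem ar54b : ∀ c ∈ cands, ∀ v0 ∈ yv (rA c.1), ∀ v1 ∈ yv (rA c.2.1), ∀ v2 ∈ yv (rA c.2.2.1), ∀ v3 ∈ yv (rA c.2.2.2.1),
    yy c v0 v1 v2 v3 ∈ yv (rY c.2.2.2.2) →
    E4 c v0 v1 v2 v3 (yy c v0 v1 v2 v3) v0 v1 v2 v3 (yy c v0 v1 v2 v3) % 3600 = 0 →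
    1 + v0 ^ 2 + v1 ^ 2 + v2 ^ 2 + v3 ^ 2 + 2 * (yy c v0 v1 v2 v3) ^ 2 ≤ 60 →
    L4 c 6 v0 v1 v2 v3 (yy c v0 v1 v2 v3) % 660 = 0 →
    (c, v0, v1, v2, v3) = (((-1, 10), (1, 12), (1, 12), (1, 45), (-1, 60)), 0, 2, 2, 0) ∨
    c = ((1, 12), (-1, 32), (-1, 32), (1, 45), (1, 6)) := by
  decide +kernel

theorem ar54b' : ∀ v0 ∈ inv 12, ∀ v1 ∈ inv 32, ∀ v2 ∈ inv 32, ∀ v3 ∈ inv 45,
    yy ((1, 12), (-1, 32), (-1, 32), (1, 45), (1, 6)) v0 v1 v2 v3 ∈ inv 6 →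
    E4 ((1, 12), (-1, 32), (-1, 32), (1, 45), (1, 6)) v0 v1 v2 v3 (yy ((1, 12), (-1, 32), (-1, 32), (1, 45), (1, 6)) v0 v1 v2 v3)
      v0 v1 v2 v3 (yy ((1, 12), (-1, 32), (-1, 32), (1, 45), (1, 6)) v0 v1 v2 v3) = 0 →
    ¬ 0 ≤ L4 ((1, 12), (-1, 32), (-1, 32), (1, 45), (1, 6)) (-5) v0 v1 v2 v3
      (yy ((1, 12), (-1, 32), (-1, 32), (1, 45), (1, 6)) v0 v1 v2 v3) := by
  decide +kernel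

/-- candidates for the value on `y s` -/
def wv (v : ℤ) : List ℤ := if v = 1 ∨ v = -1 then [v, -v] else if v = 0 ∨ v = 2 ∨ v = -2 then [-v] else []

/-- candidates for the value on `s` -/
def sv (d : ℕ) (w : ℤ) : List ℤ := (inv d).filter (fun t => (t - w) % 5 = 0)

theorem ar54c : ∀ c ∈ cands, ∀ v0 ∈ yv (rA c.1), ∀ v1 ∈ yv (rA c.2.1), ∀ v2 ∈ yv (rA c.2.2.1), ∀ v3 ∈ yv (rA c.2.2.2.1),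
    yy c v0 v1 v2 v3 ∈ yv (rY c.2.2.2.2) →
    1 + v0 ^ 2 + v1 ^ 2 + v2 ^ 2 + v3 ^ 2 + 2 * (yy c v0 v1 v2 v3) ^ 2 ≤ 10 →
    c.1.2 ≠ 10 →
    (c, v0, v1, v2, v3) ∈ [(((1, 12), (-1, 32), (-1, 120), (1, 144), (-1, 5)), (2 : ℤ), (2 : ℤ), (0 : ℤ), (-1 : ℤ)),
      (((-1, 32), (1, 45), (1, 45), (-1, 54), (-1, 5)), 2, 0, 0, -1),
      (((-1, 32), (1, 45), (-1, 54), (-1, 120), (1, 160)), 2, 0, -1, 0),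
      (((-1, 32), (-1, 54), (-1, 54), (1, 144), (-1, 5)), 2, -1, -1, -1),
      (((1, 45), (1, 45), (1, 45), (-1, 120), (-1, 16)), 0, 0, 0, 0),
      (((1, 45), (-1, 54), (-1, 120), (1, 144), (-1, 16)), 0, -1, 0, -1)] := by
  decide +kernel

theorem ar54d : ∀ e ∈ [(((1, 12), (-1, 32), (-1, 120), (1, 144), (-1, 5)), (2 : ℤ), (2 : ℤ), (0 : ℤ), (-1 : ℤ)),
      (((-1, 32), (1, 45), (1, 45), (-1, 54), (-1, 5)), 2, 0, 0, -1),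
      (((-1, 32), (1, 45), (-1, 54), (-1, 120), (1, 160)), 2, 0, -1, 0),
      (((-1, 32), (-1, 54), (-1, 54), (1, 144), (-1, 5)), 2, -1, -1, -1),
      (((1, 45), (1, 45), (1, 45), (-1, 120), (-1, 16)), 0, 0, 0, 0),
      (((1, 45), (-1, 54), (-1, 120), (1, 144), (-1, 16)), 0, -1, 0, -1)],
    ∀ w0 ∈ wv e.2.1, ∀ w1 ∈ wv e.2.2.1, ∀ w2 ∈ wv e.2.2.2.1, ∀ w3 ∈ wv e.2.2.2.2,
    yy e.1 w0 w1 w2 w3 ∈ wv (yy e.1 e.2.1 e.2.2.1 e.2.2.2.1 e.2.2.2.2) →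
    ∀ v0 ∈ sv e.1.1.2 w0, ∀ v1 ∈ sv e.1.2.1.2 w1, ∀ v2 ∈ sv e.1.2.2.1.2 w2, ∀ v3 ∈ sv e.1.2.2.2.1.2 w3,
    yy e.1 v0 v1 v2 v3 ∈ sv e.1.2.2.2.2.2 (yy e.1 w0 w1 w2 w3) →
    E4 e.1 v0 v1 v2 v3 (yy e.1 v0 v1 v2 v3) v0 v1 v2 v3 (yy e.1 v0 v1 v2 v3) = 0 →
    0 ≤ L4 e.1 6 v0 v1 v2 v3 (yy e.1 v0 v1 v2 v3) →
    ∀ C ∈ [(40 : ℤ), 240, 1440, 8640], 1 + v0 ^ 2 + v1 ^ 2 + v2 ^ 2 + v3 ^ 2 + 2 * (yy e.1 v0 v1 v2 v3) ^ 2 ≤ C →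
    L4 e.1 6 v0 v1 v2 v3 (yy e.1 v0 v1 v2 v3) % (11 * C) = 0 →
    e.1 = ((1, 45), (-1, 54), (-1, 120), (1, 144), (-1, 16)) ∧ (w0, w1, w2, w3) = (0, 1, 0, -1) ∧
      (v0, v1, v2, v3) = (5, 6, 0, 4) ∧ C = 240 := by
  decide +kernel

end Cfsg.Agent.Lib.M12ByOrder
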