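import Mathlib
import Cfsg.Agent.Lib.M12F
import Cfsg.Agent.Lib.M11C

/-!
# Simple groups of order 95040, part G: the Sylow 5-normalizer (helper7)
-/

set_option autoImplicit false
set_option linter.all false

namespace Cfsg.Agent.Lib.M12ByOrder

open Subgroup Cfsg Cfsg.Agent.Lib.CharBasic Cfsg.Agent.Lib.ColTools Cfsg.Agent.Lib.SmallSimple
  Cfsg.Agent.Lib.PBlock
open scoped ComplexConjugate

universe u

variable {G : Type u} [Group G] [Finite G]
variable [IsSimpleGroup G] {x : G} {A : Fin 4 → IrrCharacter G} {m : Fin 4 → ℤ} {Y : IrrCharacter G} {a : ℤ}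

theorem centralizer_zpowers {G : Type*} [Group G] (y : G) : centralizer ({y} : Set G) = centralizer (zpowers y : Set G) := by
  apply le_antisymm
  · intro g hg
    rw [mem_centralizer_singleton_iff] at hg
    rw [mem_centralizer_iff]
    intro z hz
    obtain ⟨n, rfl⟩ := mem_zpowers_iff.1 hz
    exact (((Commute.zpow_right (show Commute g y from hg) n))).symm
  · exact centralizer_le (by simp)

theorem ar_ec : ∀ d ∈ Nat.divisors 1728, d % 5 = 3 → d ∈ [3, 8, 18, 48, 108, 288, 1728] := by decide +kernel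

theorem sylow5_cases (hG : Nat.card G = 95040) (hx : orderOf x = 11) (b : Blk x A m Y a) {y : G} (hy : orderOf y = 5) :
    ∃ c : ℕ, (c = 2 ∨ c = 12 ∨ 27 ≤ c) ∧ Nat.card (centralizer ({y} : Set G)) = 5 * c ∧
      Nat.card (normalizer (zpowers y : Set G)) = 20 * c ∧ (∀ k : ℕ, (k : ZMod 5) ≠ 0 → IsConj y (y ^ k)) ∧
      ∃ P : Sylow 5 G, (P : Subgroup G) = zpowers y := by
  have hna := notComm hG
  have hcard : Nat.card (zpowers y) = 5 := by rw [Nat.card_zpowers, hy]
  have hp : IsPGroup 5 (zpowers y) := IsPGroup.of_card (n := 1) (by rw [hcard]; norm_num)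
  obtain ⟨P, hP⟩ := hp.exists_le_sylow
  have h1 : Nat.card (P : Subgroup G) = 5 := by
    have := sylow_card_of (G := G) (p := 5) (k := 1) (m := 19008) (by rw [hG]; norm_num) (by norm_num) P
    simpa using this
  have hPeq : (P : Subgroup G) = zpowers y := (eq_of_le_of_card_ge hP (by rw [h1, hcard])).symm
  have hN := card_normalizer_mul_nsyl P
  obtain ⟨h3, h4, h5⟩ := index_mul P h1
  obtain ⟨e, c, h6, h7, h8, h9⟩ := nc_data hna P h1
  have hrel : (centralizer ((P : Subgroup G) : Set G)).relIndex (normalizer ((P : Subgroup G) : Set G)) = e := by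
    have h10 : Nat.card (Sylow 5 G) * ((centralizer ((P : Subgroup G) : Set G)).relIndex (normalizer ((P : Subgroup G) : Set G)) * (5 * c)) =
      Nat.card (Sylow 5 G) * (e * (5 * c)) := by
      rw [← h6, ← h7, h3, ← hN, mul_comm]
    have h11 : 0 < Nat.card (Sylow 5 G) := Nat.card_pos
    have h12 : 0 < 5 * c := by rw [← h7]; exact Nat.card_pos
    exact Nat.eq_of_mul_eq_mul_right h12 (Nat.eq_of_mul_eq_mul_left h11 h10)
  have he : e = 2 ∨ e = 4 := by
    have h10 : ∀ d ∈ Nat.divisors 4, d ≠ 1 → d = 2 ∨ d = 4 := by decide +kernel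
    exact h10 e (Nat.mem_divisors.2 ⟨h8, by norm_num⟩) h9
  rw [h6, hG] at hN
  have hecn : e * c * Nat.card (Sylow 5 G) = 19008 := by
    have : 5 * (e * c * Nat.card (Sylow 5 G)) = 5 * 19008 := by
      rw [← hN.trans (by norm_num : 95040 = 5 * 19008)]; ring
    exact Nat.eq_of_mul_eq_mul_left (by norm_num) this
  have hc11 : ¬ 11 ∣ c := by
    intro h
    obtain ⟨k, hk⟩ := exists_prime_orderOf_dvd_card' (G := centralizer ((P : Subgroup G) : Set G)) 11
      (by rw [h7]; exact Dvd.dvd.mul_left h 5)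
    obtain ⟨z, hz⟩ := exists_prime_orderOf_dvd_card' (G := (P : Subgroup G)) 5 (by rw [h1])
    have hk' : orderOf (k : G) = 11 := by rw [Subgroup.orderOf_coe, hk]
    have hz' : orderOf (z : G) = 5 := by rw [Subgroup.orderOf_coe, hz]
    have h9 := (elt11 hG _ hk').1
    have h10 : (z : G) ∈ centralizer ({(k : G)} : Set G) := by
      rw [mem_centralizer_singleton_iff]; exact (mem_centralizer_iff.1 k.2 z z.2)
    have h11 := orderOf_dvd_natCard (⟨z, h10⟩ : centralizer ({(k : G)} : Set G))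
    rw [h9, Subgroup.orderOf_mk, hz'] at h11
    norm_num at h11
  have hn5 := nsyl_mod 5 G
  have hec : e * c ∈ [3, 8, 18, 48, 108, 288, 1728] := by
    apply ar_ec
    · rw [Nat.mem_divisors]
      refine ⟨?_, by norm_num⟩
      have h10 : e * c ∣ 11 * 1728 := ⟨Nat.card (Sylow 5 G), by rw [hecn]⟩
      refine Nat.Coprime.dvd_of_dvd_mul_left ?_ h10
      refine ((Nat.Prime.coprime_iff_not_dvd (by norm_num : Nat.Prime 11)).2 ?_).symm
      intro h
      rcases (Nat.Prime.dvd_mul (by norm_num : Nat.Prime 11)).1 h with h | h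
      · rcases he with rfl | rfl <;> norm_num at h
      · exact hc11 h
    · have h10 : (e * c * Nat.card (Sylow 5 G)) % 5 = 3 := by rw [hecn]
      rw [Nat.mul_mod, hn5, mul_one, Nat.mod_mod] at h10
      exact h10
  simp only [List.mem_cons, List.not_mem_nil, or_false] at hec
  have he4 : e = 4 := by
    rcases he with he | he
    · exfalso
      rw [he] at hrel h6 hec
      obtain ⟨B⟩ := exists_pb P h1 (e := 2) (t := 2) hrel (by norm_num) (by norm_num)
      have h10 : 2 ∣ c ∨ 9 ∣ c := by omega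
      rcases h10 with h10 | h10
      · exact case52b hG hx b P h1 B (by rw [h7]; exact Dvd.dvd.mul_left h10 5)
      · exact case52a hG b P h1 B (by rw [h7]; exact Dvd.dvd.mul_left h10 5)
    · exact he
  rw [he4] at h6 hec
  rw [hPeq] at h6 h7
  have hC : Nat.card (centralizer ({y} : Set G)) = 5 * c := by rw [centralizer_zpowers]; exact h7
  refine ⟨c, by omega, hC, by rw [h6]; ring, ?_, ⟨P, hPeq⟩⟩
  have h15 := QRConj.card_expo (p := 5) y hy
  rw [hC, h6] at h15
  have hc0 : 0 < 5 * c := by rw [← h7]; exact Nat.card_pos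
  have h16 : Nat.card (QRConj.expo (p := 5) y hy) = 4 := by
    exact Nat.eq_of_mul_eq_mul_right hc0 h15
  have h17 : QRConj.expo (p := 5) y hy = ⊤ := by
    apply eq_top_of_card_eq
    rw [h16, Nat.card_eq_fintype_card, ZMod.card_units_eq_totient]
    decide
  intro k hk
  rw [← QRConj.mem_expo_iff y hy k hk, h17]
  trivial

theorem rA_lt : ∀ t ∈ TL, rA t < 30 := by decide
theorem rY_lt : ∀ t ∈ TYL, rY t < 30 := by decide

theorem rat5 {y : G} (hy : orderOf y = 5) (hconj : ∀ k : ℕ, (k : ZMod 5) ≠ 0 → IsConj y (y ^ k)) (χ : IrrCharacter G) :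
    ∃ v : ℤ, (χ : G → ℂ) y = v ∧ ∀ k : ℕ, (k : ZMod 5) ≠ 0 → (χ : G → ℂ) (y ^ k) = v := by
  obtain ⟨c0, c1, h1, -⟩ := rat_val (p := 5) χ y (by rw [← hy]; exact pow_orderOf_eq_one y) hconj
  refine ⟨(c0 : ℤ) - c1, h1, fun k hk => ?_⟩
  obtain ⟨g, hg⟩ := isConj_iff.1 (hconj k hk)
  rw [← hg, χ.2.isCharacter.isClassFunction, h1]

/-- values of the block on `y` -/
theorem Blk.y_data (hG : Nat.card G = 95040) (hx : orderOf x = 11) (b : Blk x A m Y a) {y : G} (hy : orderOf y = 5)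
    (hyN : y ∈ normalizer (zpowers x : Set G)) (hconj : ∀ k : ℕ, (k : ZMod 5) ≠ 0 → IsConj y (y ^ k)) :
    ∃ v : Fin 4 → ℤ, (∀ i, (A i : G → ℂ) y = v i) ∧ (∀ i, v i ∈ yv (rA (m i, deg (A i)))) ∧
      (Y : G → ℂ) y = yy (cnd A m Y a) (v 0) (v 1) (v 2) (v 3) ∧
      yy (cnd A m Y a) (v 0) (v 1) (v 2) (v 3) ∈ yv (rY (a, deg Y)) ∧
      (∃ n : ℕ, (n : ℤ) * (Nat.card (centralizer ({y} : Set G)) * Nat.card (centralizer ({y} : Set G))) =
        E4 (cnd A m Y a) (v 0) (v 1) (v 2) (v 3) (yy (cnd A m Y a) (v 0) (v 1) (v 2) (v 3)) (v 0) (v 1) (v 2) (v 3)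
        (yy (cnd A m Y a) (v 0) (v 1) (v 2) (v 3))) ∧
      (∃ n : ℕ, 11 * (n : ℤ) * Nat.card (centralizer ({y} : Set G)) =
        L4 (cnd A m Y a) 6 (v 0) (v 1) (v 2) (v 3) (yy (cnd A m Y a) (v 0) (v 1) (v 2) (v 3))) := by
  have hna := notComm hG
  have hy11 : orderOf y ≠ 11 := by rw [hy]; norm_num
  have hy1 : y ≠ 1 := fun h => by rw [h, orderOf_one] at hy; norm_num at hy
  choose v hv1 hv2 using fun i => rat5 hy hconj (A i)
  obtain ⟨vY, hY1, hY2⟩ := rat5 hy hconj Y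
  obtain ⟨n1, n2⟩ := M11ByOrder.not_isConj_of_order hx hy11
  have hrel := b.rel y n1 n2
  have ha2 : a * a = 1 := by rcases b.a_pm with h | h <;> rw [h] <;> norm_num
  have hrel' : 1 + (m 0 * v 0 + m 1 * v 1 + m 2 * v 2 + m 3 * v 3) + a * vY = 0 := by
    simp only [hv1, hY1, Fin.sum_univ_four] at hrel
    exact_mod_cast hrel
  have hYv : vY = yy (cnd A m Y a) (v 0) (v 1) (v 2) (v 3) := by
    simp only [yy, cnd]
    linear_combination a * hrel' - vY * ha2
  refine ⟨v, hv1, fun i => ?_, by rw [← hYv]; exact hY1, ?_, ?_, ?_⟩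
  · obtain ⟨c0, c1, e0, e1⟩ := b.yA hG hx hy hyN i (hv2 i)
    obtain ⟨s, hs0, hs⟩ := b.degA i
    have h30 := rA_lt _ (b.memT hG i)
    have hr : rA (m i, deg (A i)) = m i + s := by
      simp only [rA]
      omega
    rw [hr] at h30 ⊢
    exact mem_yv (by omega) (by omega) (by omega) h30
  · rw [← hYv]
    obtain ⟨c0, c1, e0, e1⟩ := b.yY hG hx hy hyN hY2
    have h30 := rY_lt _ (b.memTY hG)
    have hr : 11 * rY (a, deg Y) = deg Y + 5 * a := by
      simp only [rY]
      omega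
    exact mem_yv (by omega) (by omega) (by omega) h30
  · rw [← hYv]
    obtain ⟨n, hn, -⟩ := b.E hG hx hy11 hy1 hy11 hv1 hv1 hY1 hY1
    refine ⟨n, ?_⟩
    rw [hn, Fin.sum_univ_four, E4, cnd]
  · rw [← hYv]
    obtain ⟨n, hn⟩ := b.E1 hG hx hy11 hy1 hv1 hY1
    refine ⟨n, ?_⟩
    rw [hn, Fin.sum_univ_four, L4, cnd]

/-- partial column norms -/
theorem Blk.norm_le (hG : Nat.card G = 95040) (b : Blk x A m Y a) {g : G} {v : Fin 4 → ℤ} {vY : ℤ}
    (hv : ∀ i, (A i : G → ℂ) g = v i) (hvY : (Y : G → ℂ) g = vY) :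
    1 + v 0 ^ 2 + v 1 ^ 2 + v 2 ^ 2 + v 3 ^ 2 + 2 * vY ^ 2 ≤ Nat.card (centralizer ({g} : Set G)) := by
  classical
  have h1 := col_norm g
  have h2 : ∑ χ ∈ ([triv G, A 0, A 1, A 2, A 3, Y, cc Y] : List (IrrCharacter G)).toFinset, ‖(χ : G → ℂ) g‖ ^ 2 ≤
      ∑ χ : IrrCharacter G, ‖(χ : G → ℂ) g‖ ^ 2 :=
    Finset.sum_le_sum_of_subset_of_nonneg (Finset.subset_univ _) (fun χ _ _ => by positivity)
  rw [h1, List.sum_toFinset _ b.nodup] at h2
  have hc1 : (cc Y : G → ℂ) g = vY := by rw [cc_apply, hvY, map_intCast]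
  simp only [List.map_cons, List.map_nil, List.sum_cons, List.sum_nil, triv_apply, hv, hvY, hc1, norm_one, Complex.norm_intCast,
    sq_abs, one_pow, add_zero] at h2
  have h3 : ((1 + v 0 ^ 2 + v 1 ^ 2 + v 2 ^ 2 + v 3 ^ 2 + 2 * vY ^ 2 : ℤ) : ℝ) ≤ ((Nat.card (centralizer ({g} : Set G)) : ℤ) : ℝ) := by
    push_cast
    push_cast at h2
    linarith
  exact_mod_cast h3

theorem deg_le (hG : Nat.card G = 95040) (χ : IrrCharacter G) : deg χ ≤ 308 := by
  have h1 : deg χ ^ 2 ≤ 95040 := by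
    have h2 := sum_deg_sq (G := G)
    rw [hG] at h2
    rw [← h2]
    exact Finset.single_le_sum (f := fun χ : IrrCharacter G => deg χ ^ 2) (fun _ _ => Nat.zero_le _) (Finset.mem_univ χ)
  by_contra h
  push Not at h
  nlinarith

/-- the case `|C(y)| = 60`, first possibility -/
theorem Blk.not649 (hG : Nat.card G = 95040) (hx : orderOf x = 11) (b : Blk x A m Y a) {y : G} (hy : orderOf y = 5)
    (hconj : ∀ k : ℕ, (k : ZMod 5) ≠ 0 → IsConj y (y ^ k)) (hC : Nat.card (centralizer ({y} : Set G)) = 60)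
    (hc : cnd A m Y a = ((-1, 10), (1, 12), (1, 12), (1, 45), (-1, 60)))
    {v : Fin 4 → ℤ} (hv : ∀ i, (A i : G → ℂ) y = v i) (h0 : v 0 = 0) (h1 : v 1 = 2) (h2 : v 2 = 2) (h3 : v 3 = 0)
    (hY : (Y : G → ℂ) y = (5 : ℤ)) : False := by
  classical
  have hy1 : y ≠ 1 := fun h => by rw [h, orderOf_one] at hy; norm_num at hy
  choose V hV1 hV2 using rat5 hy hconj
  have hVi : ∀ χ : IrrCharacter G, (χ : G → ℂ) y⁻¹ = V χ := by
    intro χ
    have : y⁻¹ = y ^ 4 := by
      rw [inv_eq_iff_mul_eq_one, ← pow_succ']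
      have := pow_orderOf_eq_one y
      rwa [hy] at this
    rw [this]
    exact hV2 χ 4 (by decide)
  have hs1 : ∑ χ : IrrCharacter G, V χ ^ 2 = 60 := by
    have e1 := col_orth_self y
    simp only [hV1, hVi, hC] at e1
    have e2 : ∑ χ : IrrCharacter G, V χ * V χ = 60 := by exact_mod_cast e1
    rw [← e2]
    exact Finset.sum_congr rfl fun χ _ => by ring
  have hs2 : ∑ χ : IrrCharacter G, V χ * (deg χ : ℤ) = 0 := by
    have e1 := col_orth_ne (g := y) (h := 1) (fun h => hy1 (isConj_one_right.1 h.symm))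
    simp only [inv_one, hV1, apply_one] at e1
    exact_mod_cast e1
  set L : Finset (IrrCharacter G) := ([triv G, A 0, A 1, A 2, A 3, Y, cc Y] : List (IrrCharacter G)).toFinset with hL
  have hVt : V (triv G) = 1 := by
    have := hV1 (triv G)
    rw [triv_apply] at this
    exact_mod_cast this.symm
  have hVA : ∀ i, V (A i) = v i := by
    intro i
    have := hV1 (A i)
    rw [hv] at this
    exact_mod_cast this.symm
  have hVY : V Y = 5 := by
    have := hV1 Y
    rw [hY] at this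
    exact_mod_cast this.symm
  have hVcY : V (cc Y) = 5 := by
    have := hV1 (cc Y)
    rw [cc_apply, hY, map_intCast] at this
    exact_mod_cast this.symm
  simp only [cnd, Prod.mk.injEq] at hc
  obtain ⟨⟨-, d0⟩, ⟨-, d1⟩, ⟨-, d2⟩, ⟨-, d3⟩, -, dY⟩ := hc
  have hl1 : ∑ χ ∈ L, V χ ^ 2 = 59 := by
    rw [hL, List.sum_toFinset _ b.nodup]
    simp only [List.map_cons, List.map_nil, List.sum_cons, List.sum_nil, hVt, hVA, hVY, hVcY, h0, h1, h2, h3]
    norm_num
  have hl2 : ∑ χ ∈ L, V χ * (deg χ : ℤ) = 649 := by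
    rw [hL, List.sum_toFinset _ b.nodup]
    simp only [List.map_cons, List.map_nil, List.sum_cons, List.sum_nil, hVt, hVA, hVY, hVcY, h0, h1, h2, h3, deg_triv,
      deg_cc, d0, d1, d2, d3, dY]
    norm_num
  have hc1 := Finset.sum_add_sum_compl L (fun χ => V χ ^ 2)
  have hc2 := Finset.sum_add_sum_compl L (fun χ => V χ * (deg χ : ℤ))
  rw [hl1, hs1] at hc1
  rw [hl2, hs2] at hc2
  have h4 : ∑ χ ∈ Lᶜ, - (V χ * (deg χ : ℤ)) ≤ ∑ χ ∈ Lᶜ, V χ ^ 2 * 308 := by
    refine Finset.sum_le_sum fun χ _ => ?_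
    have e1 := deg_le hG χ
    have e2 : (deg χ : ℤ) ≤ 308 := by exact_mod_cast e1
    have e3 : (0 : ℤ) ≤ deg χ := by positivity
    rcases le_or_gt 0 (V χ) with h | h
    · nlinarith [mul_nonneg h e3, sq_nonneg (V χ)]
    · nlinarith
  rw [Finset.sum_neg_distrib, ← Finset.sum_mul] at h4
  linarith

/-- the Sylow 5-normalizer -/
theorem card_y (hG : Nat.card G = 95040) (hx : orderOf x = 11) (b : Blk x A m Y a) {y : G} (hy : orderOf y = 5)
    (hyN : y ∈ normalizer (zpowers x : Set G)) :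
    Nat.card (centralizer ({y} : Set G)) = 10 ∧ Nat.card (normalizer (zpowers y : Set G)) = 40 ∧
      (∀ k : ℕ, (k : ZMod 5) ≠ 0 → IsConj y (y ^ k)) ∧ ∃ P : Sylow 5 G, (P : Subgroup G) = zpowers y := by
  obtain ⟨c, hc, hC, hN, hconj, P, hP⟩ := sylow5_cases hG hx b hy
  obtain ⟨v, hv, hvm, hvY, hvYm, ⟨n1, hn1⟩, n2, hn2⟩ := b.y_data hG hx hy hyN hconj
  rcases hc with hc | hc | hc
  · rw [hc] at hC hN
    exact ⟨hC, hN, hconj, P, hP⟩
  · exfalso
    rw [hc] at hC
    rw [hC] at hn1 hn2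
    have hnorm := b.norm_le hG hv hvY
    rw [hC] at hnorm
    rcases ar54b (cnd A m Y a) (b.cand hG hx) (v 0) (hvm 0) (v 1) (hvm 1) (v 2) (hvm 2) (v 3) (hvm 3) hvYm
      (by rw [← hn1]; push_cast; omega) (by push_cast at hnorm; linarith) (by rw [← hn2]; push_cast; omega) with h | h
    · simp only [Prod.mk.injEq] at h
      obtain ⟨h, h0, h1, h2, h3⟩ := h
      refine b.not649 hG hx hy hconj hC h hv h0 h1 h2 h3 ?_
      rw [hvY, h, h0, h1, h2, h3]
      norm_num [yy]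
    · obtain ⟨s, hs⟩ := exists_prime_orderOf_dvd_card' (G := centralizer ({y} : Set G)) 2 (by rw [hC]; norm_num)
      have hso : orderOf (s : G) = 2 := by rw [Subgroup.orderOf_coe, hs]
      obtain ⟨u, w1, w2, w3, w4, w5, -, n, w6⟩ := b.inv_data hG hx hso
      have hd := h
      simp only [cnd, Prod.mk.injEq] at hd
      obtain ⟨⟨-, d0⟩, ⟨-, d1⟩, ⟨-, d2⟩, ⟨-, d3⟩, -, dY⟩ := hd
      rw [h] at w3 w4 w5 w6
      have u0 := w2 0
      have u1 := w2 1
      have u2 := w2 2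
      have u3 := w2 3
      rw [d0] at u0
      rw [d1] at u1
      rw [d2] at u2
      rw [d3] at u3
      rw [dY] at w4
      refine ar54b' (u 0) u0 (u 1) u1 (u 2) u2 (u 3) u3 w4 w5 ?_
      rw [← w6]; positivity
  · exfalso
    obtain ⟨h1, h2⟩ := ar54a (cnd A m Y a) (b.cand hG hx) (v 0) (hvm 0) (v 1) (hvm 1) (v 2) (hvm 2) (v 3) (hvm 3) hvYm
    rw [← hn1, hC] at h1 h2
    have h3 : 1 ≤ n1 := by
      rcases Nat.eq_zero_or_pos n1 with h | h
      · rw [h] at h1; simp at h1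
      · exact h
    have h4 : (27 : ℤ) ≤ c := by exact_mod_cast hc
    have h5 : (1 : ℤ) ≤ n1 := by exact_mod_cast h3
    push_cast at h2
    nlinarith [mul_le_mul h4 h4 (by norm_num) (by linarith)]

end Cfsg.Agent.Lib.M12ByOrder
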