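import Mathlib
import Cfsg.Agent.Lib.M12G

/-!
# Simple groups whose order divides 95040 and is divisible by 11 (helper19)

Such a group has order 660, 7920 or 95040.
-/

set_option autoImplicit false
set_option linter.all false

namespace Cfsg.Agent.Lib.M12OrdX

open Subgroup Cfsg Cfsg.Agent.Lib.CharBasic Cfsg.Agent.Lib.ColTools Cfsg.Agent.Lib.SmallSimple
  Cfsg.Agent.Lib.PBlock
open scoped ComplexConjugate

universe u

variable {G : Type u} [Group G] [Finite G]

theorem conj_mem {P : Subgroup G} : ∀ n ∈ normalizer (P : Set G), ∀ h ∈ P, n * h * n⁻¹ ∈ P :=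
  fun n hn h hh => (mem_normalizer_iff.1 hn h).1 hh

theorem conj_memC {P : Subgroup G} : ∀ n ∈ centralizer (P : Set G), ∀ h ∈ P, n * h * n⁻¹ ∈ P := by
  intro n hn h hh
  have : h * n = n * h := Subgroup.mem_centralizer_iff.1 hn h hh
  rw [← this, mul_inv_cancel_right]; exact hh

/-- sums over a coset of `P` by an element normalising but not centralising `P` -/
theorem sum_coset {P : Subgroup G} (hP : Nat.card P = 11) [Fintype P] {a : G} (haN : a ∈ normalizer (P : Set G))
    (haC : a ∉ centralizer (P : Set G)) (χ : IrrCharacter G) :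
    ∑ h : P, (χ : G → ℂ) ((h : G) * a) = 11 * (χ : G → ℂ) a := by
  have hf : ∀ h ∈ P, Commute h a → h = 1 := by
    intro h hh hc
    by_contra h1
    apply haC
    have ho := orderOf_mem (p := 11) hP hh h1
    have hz : zpowers h = P := eq_of_le_of_card_ge (zpowers_le.2 hh) (by rw [hP, Nat.card_zpowers, ho])
    rw [mem_centralizer_iff]
    intro y hy
    rw [← hz] at hy
    obtain ⟨n, rfl⟩ := mem_zpowers_iff.1 hy
    exact (hc.zpow_left n).eq
  have h1 : ∀ h : P, (χ : G → ℂ) ((h : G) * a) = (χ : G → ℂ) a := by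
    intro h
    obtain ⟨k, hk, hk2⟩ := M12ByOrder.conj_coset P (conj_mem a haN) hf h.2
    rw [← hk2, χ.2.isCharacter.isClassFunction]
  rw [Finset.sum_congr rfl (fun h _ => h1 h), Finset.sum_const, Finset.card_univ, ← Nat.card_eq_fintype_card, hP, nsmul_eq_mul]
  norm_num

theorem sum_one {P : Subgroup G} (hP : Nat.card P = 11) [Fintype P] {χ : IrrCharacter G} {δ : ℤ}
    (hval : ∀ c ∈ centralizer (P : Set G), 11 ∣ orderOf c → (χ : G → ℂ) c = δ) :
    ∑ h : P, (χ : G → ℂ) (h : G) = deg χ + 10 * δ := by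
  have h := sum_const (p := 11) hP hval (Subgroup.one_mem _) (a := 1) (by rw [orderOf_one]; norm_num)
  simp only [mul_one] at h
  rw [h, apply_one]
  norm_num

theorem inv_val [IsSimpleGroup G] (hna : ¬ IsMulCommutative G) {P : Subgroup G} (hP : Nat.card P = 11) {χ : IrrCharacter G} {δ : ℤ}
    (hval : ∀ c ∈ centralizer (P : Set G), 11 ∣ orderOf c → (χ : G → ℂ) c = δ) {a : G}
    (haN : a ∈ normalizer (P : Set G)) (haC : a ∉ centralizer (P : Set G)) (ha : a ^ 2 = 1) :
    ∃ (m : ℤ) (n0 n1 : ℕ), (χ : G → ℂ) a = m ∧ ((deg χ : ℤ) - m) % 4 = 0 ∧ m = n0 - n1 ∧ (deg χ : ℤ) + 10 * δ = 11 * (n0 + n1) := by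
  haveI : Fintype P := Fintype.ofFinite _
  obtain ⟨n0, n1, h1, h2⟩ := fix_inv (p := 11) χ.2.isCharacter (P := P) (N := normalizer (P : Set G)) hP conj_mem haN ha
  rw [sum_one hP hval] at h1
  rw [sum_coset hP haN haC] at h2
  obtain ⟨m, h3, h4, -⟩ := val_inv hna χ a ha
  refine ⟨m, n0, n1, h3, h4, ?_, ?_⟩
  · rw [h3] at h2
    have : ((11 * m : ℤ) : ℂ) = ((11 * (n0 - n1) : ℤ) : ℂ) := by push_cast; push_cast at h2; exact h2
    have : 11 * m = 11 * ((n0 : ℤ) - n1) := by exact_mod_cast this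
    omega
  · have : (((deg χ : ℤ) + 10 * δ : ℤ) : ℂ) = ((11 * (n0 + n1) : ℤ) : ℂ) := by push_cast; push_cast at h1; exact h1
    exact_mod_cast this

theorem inv_valC [IsSimpleGroup G] (hna : ¬ IsMulCommutative G) {P : Subgroup G} (hP : Nat.card P = 11) {χ : IrrCharacter G} (hχ : χ ≠ triv G) {δ : ℤ}
    (hval : ∀ c ∈ centralizer (P : Set G), 11 ∣ orderOf c → (χ : G → ℂ) c = δ) {a : G}
    (haC : a ∈ centralizer (P : Set G)) (ha : orderOf a = 2) :
    ∃ (m : ℤ) (n0 n1 : ℕ), (χ : G → ℂ) a = m ∧ ((deg χ : ℤ) - m) % 4 = 0 ∧ m < deg χ ∧ m + 10 * δ = 11 * (n0 - n1) ∧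
      (deg χ : ℤ) + 10 * δ = 11 * (n0 + n1) := by
  haveI : Fintype P := Fintype.ofFinite _
  have ha2 : a ^ 2 = 1 := by rw [← ha]; exact pow_orderOf_eq_one a
  obtain ⟨n0, n1, h1, h2⟩ := fix_inv (p := 11) χ.2.isCharacter (P := P) (N := centralizer (P : Set G)) hP conj_memC haC ha2
  rw [sum_one hP hval] at h1
  rw [sum_const (p := 11) hP hval haC (by rw [ha]; norm_num)] at h2
  obtain ⟨m, h3, h4, -, -, h5⟩ := val_inv hna χ a ha2
  have h6 := (h5 (fun h => by rw [h, orderOf_one] at ha; omega) hχ).2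
  refine ⟨m, n0, n1, h3, h4, h6, ?_, ?_⟩
  · rw [h3] at h2
    have : ((m + 10 * δ : ℤ) : ℂ) = ((11 * (n0 - n1) : ℤ) : ℂ) := by
      push_cast; push_cast at h2
      rw [← h2]; norm_num
    exact_mod_cast this
  · have : (((deg χ : ℤ) + 10 * δ : ℤ) : ℂ) = ((11 * (n0 + n1) : ℤ) : ℂ) := by push_cast; push_cast at h1; exact h1
    exact_mod_cast this

/-- no character of degree 10 with value -1 on `P` when `N(P)` has even order -/
theorem no10 [IsSimpleGroup G] (hna : ¬ IsMulCommutative G) {P : Subgroup G} (hP : Nat.card P = 11) (hsq : ¬ 11 ^ 2 ∣ Nat.card G)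
    (heven : 2 ∣ Nat.card (normalizer (P : Set G))) {χ : IrrCharacter G} (hχ : χ ≠ triv G) {δ : ℤ} (hδ : δ = -1)
    (hval : ∀ c ∈ centralizer (P : Set G), 11 ∣ orderOf c → (χ : G → ℂ) c = δ) (hd : deg χ = 10) : False := by
  have hC := cent_of_X (p := 11) hna hP hsq hχ (fun c hc h => by rw [hval c hc h, hδ]; norm_num) (by rw [hd])
  obtain ⟨a, ha⟩ := exists_prime_orderOf_dvd_card' (G := normalizer (P : Set G)) 2 heven
  have ha' : orderOf (a : G) = 2 := by rw [Subgroup.orderOf_coe, ha]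
  have haC : (a : G) ∉ centralizer (P : Set G) := by
    intro h
    have h1 := orderOf_dvd_natCard (⟨(a : G), h⟩ : centralizer (P : Set G))
    rw [hC, Subgroup.orderOf_mk, ha'] at h1
    norm_num at h1
  obtain ⟨m, n0, n1, h1, h2, h3, h4⟩ := inv_val hna hP hval a.2 haC (by rw [← ha']; exact pow_orderOf_eq_one _)
  rw [hd] at h2 h4
  rw [hδ] at h4
  push_cast at h2 h4
  omega

theorem dvd_8640 (hdv : Nat.card G ∣ 95040) (P : Sylow 11 G) (hP : Nat.card (P : Subgroup G) = 11) {d : ℕ}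
    (hd : d ∣ (centralizer ((P : Subgroup G) : Set G)).index) : d ∈ Nat.divisors 8640 := by
  rw [Nat.mem_divisors]
  refine ⟨hd.trans ?_, by norm_num⟩
  have h1 := Subgroup.card_mul_index (centralizer ((P : Subgroup G) : Set G))
  obtain ⟨c, hc⟩ := (index_mul P hP).2.2
  rw [hc] at h1
  rw [← h1, show 95040 = 11 * 8640 by norm_num, mul_assoc] at hdv
  exact (Dvd.intro_left c rfl).trans (Nat.dvd_of_mul_dvd_mul_left (by norm_num) hdv)

theorem case_two [IsSimpleGroup G] (hna : ¬ IsMulCommutative G) (hdv : Nat.card G ∣ 95040) (hsq : ¬ 11 ^ 2 ∣ Nat.card G)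
    (P : Sylow 11 G) (hP : Nat.card (P : Subgroup G) = 11)
    (he : (centralizer ((P : Subgroup G) : Set G)).relIndex (normalizer ((P : Subgroup G) : Set G)) = 2)
    (heven : 2 ∣ Nat.card (normalizer ((P : Subgroup G) : Set G))) : False := by
  classical
  obtain ⟨B⟩ := exists_pb P hP (e := 2) (t := 5) he (by norm_num) (by norm_num)
  obtain ⟨χ, hχ, hχ1⟩ := Finset.exists_mem_ne (by rw [B.cardX]; norm_num : 1 < B.X.card) (triv G)
  obtain ⟨ψ, hψ⟩ := Finset.card_pos.1 (by rw [B.cardY]; norm_num : 0 < B.Y.card)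
  have hX : B.X = {triv G, χ} := by
    symm
    apply Finset.eq_of_subset_of_card_le
    · intro a ha
      rcases Finset.mem_insert.1 ha with rfl | ha
      · exact B.tX
      · rw [Finset.mem_singleton.1 ha]; exact hχ
    · rw [B.cardX, Finset.card_pair hχ1.symm]
  have hrel := B.rel ψ hψ 1 (by rw [orderOf_one]; norm_num)
  rw [hX, Finset.sum_pair hχ1.symm, B.tδ, apply_one, apply_one, apply_one, deg_triv] at hrel
  have hrel' : B.s * deg ψ = 1 + B.δ χ * deg χ := by
    have : ((B.s * deg ψ : ℤ) : ℂ) = ((1 + B.δ χ * deg χ : ℤ) : ℂ) := by push_cast; push_cast at hrel; rw [hrel]; ring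
    exact_mod_cast this
  have hd1 : deg χ ≠ 1 := fun h => hχ1 (eq_triv_of_deg_one hna h)
  obtain ⟨k, hk⟩ := B.degX χ hχ
  have hm := M12ByOrder.deg_mod hk
  have h4 := M12ByOrder.ar1 _ (dvd_8640 hdv P hP (B.dvdX χ hχ)) _ (dvd_8640 hdv P hP (B.dvdY ψ hψ))
  have hp1 := deg_pos χ
  have hp2 := deg_pos ψ
  rcases B.δ_pm χ hχ with h1 | h1 <;> rcases B.s_pm with h2 | h2 <;> rw [h1] at hrel' hm <;> rw [h2] at hrel' <;> push_cast at hm
  · exact h4.1 (by omega) hd1 (by omega)
  · omega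
  · omega
  · have h5 := h4.2 (by omega) (by omega)
    exact no10 hna hP hsq heven hχ1 h1 (fun c hc h => B.valX χ hχ c hc h) h5

/-- relations between `1, ω, ω²` -/
theorem omega_rel {w : ℂ} (hw : IsPrimitiveRoot w 3) {a b c : ℤ} (h : (a : ℂ) + b * w + c * w ^ 2 = 0) : a = c ∧ b = c := by
  have h1 : 1 + w + w ^ 2 = 0 := by
    have h2 := hw.geom_sum_eq_zero (by norm_num)
    simpa [Finset.sum_range_succ] using h2
  have h3 : w ^ 3 = 1 := hw.pow_eq_one
  have h4 : ((a - c : ℤ) : ℂ) + ((b - c : ℤ) : ℂ) * w = 0 := by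
    push_cast
    linear_combination h - (c : ℂ) * h1
  have h5 : (((a - c) ^ 2 - (a - c) * (b - c) + (b - c) ^ 2 : ℤ) : ℂ) = 0 := by
    have h6 : (((a - c : ℤ) : ℂ) + ((b - c : ℤ) : ℂ) * w) * (((a - c : ℤ) : ℂ) + ((b - c : ℤ) : ℂ) * w ^ 2) = 0 := by rw [h4, zero_mul]
    push_cast at h6 ⊢
    linear_combination h6 - ((a : ℂ) - c) * ((b : ℂ) - c) * h1 - ((b : ℂ) - c) ^ 2 * h3
  have h7 : (a - c) ^ 2 - (a - c) * (b - c) + (b - c) ^ 2 = 0 := by exact_mod_cast h5
  have h8 : a - c = 0 := by nlinarith [sq_nonneg ((a - c) - 2 * (b - c)), sq_nonneg (a - c)]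
  have h9 : b - c = 0 := by nlinarith [sq_nonneg (2 * (a - c) - (b - c)), sq_nonneg (b - c)]
  omega

/-- the multiplicities of an element of order 3 -/
theorem val_three {χ : G → ℂ} (hχ : IsCharacter G χ) {w : ℂ} (hw : IsPrimitiveRoot w 3) (z : G) (hz : z ^ 3 = 1) :
    ∃ c0 c1 c2 : ℕ, χ 1 = ((c0 + c1 + c2 : ℕ) : ℂ) ∧ χ z = c0 + c1 * w + c2 * w ^ 2 ∧ ((∀ δ : G →* ℂˣ, δ = 1) → 3 ∣ c1 + 2 * c2) := by
  obtain ⟨c, h1, h2⟩ := exists_counts hχ z hz hw (by norm_num)
  refine ⟨c 0, c 1, c 2, ?_, ?_, fun hδ => ?_⟩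
  · have := h1 0
    simp [Fin.sum_univ_three] at this
    rw [this]; push_cast; ring
  · have := h1 1
    simp [Fin.sum_univ_three] at this
    rw [this]
  · have := h2 hδ
    rw [Fin.sum_univ_three] at this
    have h3 := (hw.pow_eq_one_iff_dvd _).1 this
    simpa [mul_comm] using h3

theorem ar_16 (c0 c1 c2 d0 d1 d2 : ℕ) (h1 : c0 + c1 + c2 = 16) (h2 : d0 + d1 + d2 = 1) (e1 : (c0 : ℤ) - 5 - 11 * d0 = c2 - 11 * d2)
    (e2 : (c1 : ℤ) - 11 * d1 = c2 - 11 * d2) (h3 : 3 ∣ c1 + 2 * c2) : c0 = 16 ∧ c1 = 0 ∧ c2 = 0 := by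
  omega

theorem case_five [IsSimpleGroup G] (hna : ¬ IsMulCommutative G) (hsq : ¬ 11 ^ 2 ∣ Nat.card G)
    (P : Sylow 11 G) (hP : Nat.card (P : Subgroup G) = 11)
    (he : (centralizer ((P : Subgroup G) : Set G)).relIndex (normalizer ((P : Subgroup G) : Set G)) = 5)
    (hidx : (centralizer ((P : Subgroup G) : Set G)).index = 720)
    (hC : 2 ∣ Nat.card (centralizer ((P : Subgroup G) : Set G)) ∨ 3 ∣ Nat.card (centralizer ((P : Subgroup G) : Set G))) : False := by
  classical
  obtain ⟨B⟩ := exists_pb P hP (e := 5) (t := 2) he (by norm_num) (by norm_num)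
  have hdvd : ∀ χ : IrrCharacter G, deg χ ∣ (centralizer ((P : Subgroup G) : Set G)).index → deg χ ∈ Nat.divisors 720 := by
    intro χ hχ
    rw [Nat.mem_divisors]
    rw [hidx] at hχ
    exact ⟨hχ, by norm_num⟩
  have hC11 : Nat.card (centralizer ((P : Subgroup G) : Set G)) ≠ 11 := by
    intro h
    rw [h] at hC
    norm_num at hC
  have hno10 : ∀ χ ∈ B.X, χ ≠ triv G → B.δ χ = -1 → deg χ ≠ 10 := by
    intro χ hχ hχ1 h1 hd
    exact hC11 (cent_of_X hna hP hsq hχ1 (fun c hc h => by rw [B.valX χ hχ c hc h, h1]; norm_num) (by rw [hd]))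
  obtain ⟨ψ, hψ⟩ := Finset.card_pos.1 (by rw [B.cardY]; norm_num : 0 < B.Y.card)
  have hno5 : B.s = 1 → deg ψ ≠ 5 := by
    intro h1 hd
    exact hC11 (cent_of_Y hna hP hsq B hψ h1 hd)
  set T : Finset (ℤ × ℕ) := {(1, 12), (1, 45), (1, 144), (-1, 120)} with hT
  have hmem : ∀ χ ∈ B.X.erase (triv G), (B.δ χ, deg χ) ∈ T := by
    intro χ hχ
    obtain ⟨hχ1, hχ⟩ := Finset.mem_erase.1 hχ
    have hd1 : deg χ ≠ 1 := fun h => hχ1 (eq_triv_of_deg_one hna h)
    obtain ⟨k, hk⟩ := B.degX χ hχ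
    have hm := M12ByOrder.deg_mod hk
    have h3 := M12ByOrder.ar3 _ (hdvd χ (B.dvdX χ hχ))
    rcases B.δ_pm χ hχ with h1 | h1 <;> rw [h1] at hm ⊢ <;> push_cast at hm
    · rcases h3.1 (by omega) hd1 with h | h | h <;> rw [h] <;> decide
    · rcases h3.2 (by omega) with h | h
      · exact absurd h (hno10 χ hχ hχ1 h1)
      · rw [h]; decide
  have hs1 := sum_by_type (B.X.erase (triv G)) T (fun χ => (B.δ χ, deg χ)) hmem (fun v => 1)
  have hs2 := sum_by_type (B.X.erase (triv G)) T (fun χ => (B.δ χ, deg χ)) hmem (fun v => v.1 * v.2)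
  rw [Finset.sum_const, Finset.card_erase_of_mem B.tX, B.cardX] at hs1
  have hrel := B.rel ψ hψ 1 (by rw [orderOf_one]; norm_num)
  rw [← Finset.add_sum_erase _ _ B.tX, B.tδ] at hrel
  simp only [apply_one, deg_triv] at hrel
  have hrel' : B.s * deg ψ = 1 + ∑ χ ∈ B.X.erase (triv G), B.δ χ * deg χ := by
    have : ((B.s * deg ψ : ℤ) : ℂ) = ((1 + ∑ χ ∈ B.X.erase (triv G), B.δ χ * deg χ : ℤ) : ℂ) := by
      push_cast; push_cast at hrel; rw [hrel]; ring
    exact_mod_cast this
  rw [hs2] at hrel'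
  rw [hT] at hs1 hrel'
  rw [Finset.sum_insert (by decide), Finset.sum_insert (by decide), Finset.sum_insert (by decide), Finset.sum_singleton] at hs1 hrel'
  set a := ((B.X.erase (triv G)).filter (fun χ => (B.δ χ, deg χ) = (1, 12))).card
  set b := ((B.X.erase (triv G)).filter (fun χ => (B.δ χ, deg χ) = (1, 45))).card
  set c := ((B.X.erase (triv G)).filter (fun χ => (B.δ χ, deg χ) = (1, 144))).card
  set m := ((B.X.erase (triv G)).filter (fun χ => (B.δ χ, deg χ) = (-1, 120))).card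
  simp only [nsmul_eq_mul, mul_one] at hs1
  norm_num at hs1
  have habcm : a + b + c + m = 4 := by
    omega
  obtain ⟨k, hk⟩ := B.degY ψ hψ
  have hmod := M12ByOrder.deg_mod hk
  have h2 := M12ByOrder.ar2 a (Finset.mem_range.2 (by omega)) b (Finset.mem_range.2 (by omega)) c (Finset.mem_range.2 (by omega)) m
    (Finset.mem_range.2 (by omega)) habcm _ (hdvd ψ (B.dvdY ψ hψ))
  have hψ1 : ψ ≠ triv G := fun h => B.disj _ B.tX (h ▸ hψ)
  rcases B.s_pm with hs | hs
  · rw [hs] at hmod hrel'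
    push_cast at hmod hrel'
    have h16 := h2.1 (by linarith) (by omega) (hno5 hs)
    haveI : Fintype (P : Subgroup G) := Fintype.ofFinite _
    have h5 := B.sumY ψ hψ 1 (Subgroup.one_mem _) (by rw [orderOf_one]; norm_num)
    simp only [mul_one] at h5
    rcases hC with hC2 | hC3
    · -- an involution centralizing `P`
      obtain ⟨a', ha'⟩ := exists_prime_orderOf_dvd_card' (G := centralizer ((P : Subgroup G) : Set G)) 2 hC2
      have ho : orderOf (a' : G) = 2 := by rw [Subgroup.orderOf_coe, ha']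
      have ha2 : (a' : G) ^ 2 = 1 := by rw [← ho]; exact pow_orderOf_eq_one _
      obtain ⟨n0, n1, h3, h4⟩ := fix_inv (p := 11) ψ.2.isCharacter (P := (P : Subgroup G)) (N := centralizer ((P : Subgroup G) : Set G)) hP
        conj_memC a'.2 ha2
      have h6 := B.sumY ψ hψ a' a'.2 (by rw [ho]; norm_num)
      rw [h3, apply_one, h16, hs] at h5
      rw [h4, hs] at h6
      have h7 : n0 + n1 = 1 := by
        have : ((11 * (n0 + n1) : ℕ) : ℂ) = (11 : ℕ) := by push_cast; push_cast at h5; rw [h5]; norm_num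
        have : 11 * (n0 + n1) = 11 := by exact_mod_cast this
        omega
      obtain ⟨v, hv1, hv2, hv3, hv4, hv5⟩ := val_inv hna ψ a' ha2
      have hv6 := hv5 (fun h => by rw [h, orderOf_one] at ho; omega) hψ1
      rw [hv1] at h6
      have h8 : 11 * ((n0 : ℤ) - n1) = v - 5 := by
        have : ((11 * ((n0 : ℤ) - n1) : ℤ) : ℂ) = ((v - 5 : ℤ) : ℂ) := by push_cast; push_cast at h6; rw [h6]; ring
        exact_mod_cast this
      rw [h16] at hv2 hv6
      push_cast at hv2 hv6
      omega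
    · -- an element of order 3 centralizing `P`
      obtain ⟨z, hz⟩ := exists_prime_orderOf_dvd_card' (G := centralizer ((P : Subgroup G) : Set G)) 3 hC3
      have ho : orderOf (z : G) = 3 := by rw [Subgroup.orderOf_coe, hz]
      have hz3 : (z : G) ^ 3 = 1 := by rw [← ho]; exact pow_orderOf_eq_one _
      have hw : IsPrimitiveRoot (Complex.exp (2 * Real.pi * Complex.I / (3 : ℕ))) 3 := Complex.isPrimitiveRoot_exp 3 (by norm_num)
      set w := Complex.exp (2 * Real.pi * Complex.I / (3 : ℕ))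
      obtain ⟨c0, c1, c2, g1, g2, g3⟩ := val_three ψ.2.isCharacter hw (z : G) hz3
      have hf := fixChar ψ.2.isCharacter (P : Subgroup G) (centralizer ((P : Subgroup G) : Set G)) conj_memC
      obtain ⟨d0, d1, d2, f1, f2, -⟩ := val_three hf hw z (Subtype.ext hz3)
      have h6 := B.sumY ψ hψ z z.2 (by rw [ho]; norm_num)
      simp only [Subgroup.coe_one, mul_one, hP] at f1 f2
      rw [h5, apply_one, h16, hs] at f1
      rw [h6, hs] at f2
      have hf1 : d0 + d1 + d2 = 1 := by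
        have : ((d0 + d1 + d2 : ℕ) : ℂ) = ((1 : ℕ) : ℂ) := by rw [← f1]; push_cast; norm_num
        exact_mod_cast this
      have hg1 : c0 + c1 + c2 = 16 := by
        rw [apply_one, h16] at g1
        exact_mod_cast g1.symm
      have hrel3 : (((c0 : ℤ) - 5 - 11 * d0 : ℤ) : ℂ) + (((c1 : ℤ) - 11 * d1 : ℤ) : ℂ) * w + (((c2 : ℤ) - 11 * d2 : ℤ) : ℂ) * w ^ 2 = 0 := by
        rw [g2] at f2
        push_cast
        push_cast at f2
        have h11 : (11 : ℂ) ≠ 0 := by norm_num
        have := f2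
        field_simp at this
        linear_combination this
      obtain ⟨e1, e2⟩ := omega_rel hw hrel3
      obtain ⟨r0, r1, r2⟩ := ar_16 c0 c1 c2 d0 d1 d2 hg1 hf1 e1 e2 (g3 (hom_trivial hna))
      have hlt := norm_lt hna hψ1 (g := (z : G)) (fun h => by rw [h, orderOf_one] at ho; omega)
      rw [g2, r0, r1, r2, h16] at hlt
      norm_num at hlt
  · rw [hs] at hmod hrel'
    push_cast at hmod hrel'
    exact h2.2 (by linarith) (by omega)

/-- the case `|N(P)| = 330 j`, `|C(P)| = 33 j` -/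
theorem ten_three [IsSimpleGroup G] (hna : ¬ IsMulCommutative G) {j : ℕ} (hj : j = 1 ∨ j = 2) (hG : Nat.card G = 47520 * j)
    (P : Sylow 11 G) (hP : Nat.card (P : Subgroup G) = 11)
    (hN : Nat.card (normalizer ((P : Subgroup G) : Set G)) = 330 * j)
    (hC : Nat.card (centralizer ((P : Subgroup G) : Set G)) = 33 * j) : False := by
  classical
  set C := centralizer ((P : Subgroup G) : Set G) with hCdef
  set N := normalizer ((P : Subgroup G) : Set G) with hNdef
  have hPC : (P : Subgroup G) ≤ C := le_cent hP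
  have hCN : C ≤ N := Subgroup.centralizer_le_normalizer _
  -- the Sylow 3-subgroup of `C` is unique
  obtain ⟨Q⟩ : Nonempty (Sylow 3 C) := inferInstance
  have hQ : Nat.card (Q : Subgroup C) = 3 := by
    have := sylow_card_of (G := C) (p := 3) (k := 1) (m := 11 * j) (by rw [hC]; ring) (by rcases hj with rfl | rfl <;> norm_num) Q
    simpa using this
  have hQ1 : Nat.card (Sylow 3 C) = 1 := by
    have h1 := nsyl_mem (G := C) (p := 3) (k := 1) (m := 11 * j) (by rw [hC]; ring) (by rcases hj with rfl | rfl <;> norm_num)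
    have h2 : (Nat.divisors (11 * j)).filter (fun d => d % 3 = 1) ⊆ {1, 22} := by rcases hj with rfl | rfl <;> decide +kernel
    replace h1 := h2 h1
    simp only [Finset.mem_insert, Finset.mem_singleton] at h1
    rcases h1 with h1 | h1
    · exact h1
    · exfalso
      have h3 := card_normalizer_mul_nsyl Q
      rw [h1, hC] at h3
      have h4 : (P : Subgroup G).subgroupOf C ≤ normalizer ((Q : Subgroup C) : Set C) := by
        intro x hx
        have hx' : (x : G) ∈ (P : Subgroup G) := mem_subgroupOf.1 hx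
        have hcomm : ∀ y : C, x * y = y * x := by
          intro y
          apply Subtype.ext
          exact (mem_centralizer_iff.1 y.2 x hx')
        rw [mem_normalizer_iff]
        intro y
        rw [hcomm y, mul_inv_cancel_right]
      have h5 := card_dvd_of_le h4
      rw [Nat.card_congr (subgroupOfEquivOfLe hPC).toEquiv, hP] at h5
      omega
  have hQn : (Q : Subgroup C).Normal := normal_of_nsyl_eq_one hQ1 Q
  have hQi : (Q : Subgroup C).index = 11 * j := by
    have h1 := Subgroup.card_mul_index (Q : Subgroup C)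
    rw [hQ, hC] at h1
    omega
  set W : Subgroup G := (Q : Subgroup C).map C.subtype with hW
  have hWmem : ∀ g : G, g ∈ W ↔ g ∈ C ∧ g ^ 3 = 1 := by
    intro g
    constructor
    · rintro ⟨y, hy, rfl⟩
      refine ⟨y.2, ?_⟩
      have h1 : y ^ Nat.card (Q : Subgroup C) = 1 := by
        have := pow_card_eq_one' (x := (⟨y, hy⟩ : (Q : Subgroup C)))
        exact congrArg Subtype.val this
      rw [hQ] at h1
      exact congrArg Subtype.val h1
    · rintro ⟨hg, h3⟩
      refine ⟨⟨g, hg⟩, ?_, rfl⟩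
      apply mem_of_orderOf_coprime_index
      rw [hQi]
      have h4 : orderOf (⟨g, hg⟩ : C) ∣ 3 := orderOf_dvd_of_pow_eq_one (Subtype.ext h3)
      exact Nat.Coprime.coprime_dvd_left h4 (by rcases hj with rfl | rfl <;> norm_num)
  have hWc : Nat.card W = 3 := by
    rw [hW, Nat.card_congr ((Q : Subgroup C).equivMapOfInjective _ C.subtype_injective).symm.toEquiv, hQ]
  have hWp : IsPGroup 3 W := IsPGroup.of_card (n := 1) (by rw [hWc]; norm_num)
  set M := normalizer (W : Set G) with hM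
  have hconjC : ∀ n ∈ N, ∀ g ∈ C, n * g * n⁻¹ ∈ C := by
    intro n hn g hg
    rw [hCdef, mem_centralizer_iff]
    intro x hx
    have h1 : n⁻¹ * x * n ∈ (P : Subgroup G) := by
      have := (mem_normalizer_iff.1 (N.inv_mem hn) x).1 hx
      rwa [inv_inv] at this
    have h2 := mem_centralizer_iff.1 hg _ h1
    calc x * (n * g * n⁻¹) = n * ((n⁻¹ * x * n) * g) * n⁻¹ := by group
      _ = n * (g * (n⁻¹ * x * n)) * n⁻¹ := by rw [h2]
      _ = n * g * n⁻¹ * x := by group
  have hNM : N ≤ M := by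
    intro n hn
    have key : ∀ m ∈ N, ∀ g ∈ W, m * g * m⁻¹ ∈ W := by
      intro m hm g hg
      obtain ⟨h1, h2⟩ := (hWmem g).1 hg
      exact (hWmem _).2 ⟨hconjC m hm g h1, by rw [conj_pow, h2, mul_one, mul_inv_cancel]⟩
    rw [hM, mem_normalizer_iff]
    intro g
    refine ⟨key n hn g, fun hg => ?_⟩
    have h1 := key n⁻¹ (N.inv_mem hn) _ hg
    rwa [inv_inv, show n⁻¹ * (n * g * n⁻¹) * n = g by group] at h1
  have hPN : (P : Subgroup G) ≤ N := hPC.trans hCN
  have hPM : (P : Subgroup G) ≤ M := hPN.trans hNM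
  -- Sylow 11-subgroups of `M`
  have hcM : Nat.card M ∣ 47520 * j := by rw [← hG]; exact card_subgroup_dvd_card _
  have hMn : ∃ n : ℕ, n % 11 = 1 ∧ Nat.card M = 330 * j * n := by
    refine ⟨Nat.card (Sylow 11 M), nsyl_mod 11 M, ?_⟩
    have h1 := card_normalizer_mul_nsyl (P.subtype hPM)
    rw [← h1]
    congr 1
    have h2 : ((P.subtype hPM : Sylow 11 M) : Subgroup M) = (P : Subgroup G).subgroupOf M := rfl
    have h3 : normalizer (((P.subtype hPM : Sylow 11 M) : Subgroup M) : Set M) = N.subgroupOf M := by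
      rw [h2]
      exact (Subgroup.subgroupOf_normalizer_eq hPM).symm
    rw [h3, Nat.card_congr (subgroupOfEquivOfLe hNM).toEquiv, hN]
  obtain ⟨n, hn1, hn2⟩ := hMn
  have hn3 : n ∣ 144 := by
    rw [hn2] at hcM
    rw [show 47520 * j = (330 * j) * 144 by ring] at hcM
    exact Nat.dvd_of_mul_dvd_mul_left (by rcases hj with rfl | rfl <;> norm_num : 0 < 330 * j) hcM
  have hn4 : n = 1 ∨ n = 12 ∨ n = 144 := by
    have h1 : ∀ d ∈ Nat.divisors 144, d % 11 = 1 → d = 1 ∨ d = 12 ∨ d = 144 := by decide +kernel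
    exact h1 n (Nat.mem_divisors.2 ⟨hn3, by norm_num⟩) hn1
  have hidx := Subgroup.card_mul_index M
  rw [hG, hn2] at hidx
  rcases hn4 with h | h | h
  · -- `M = N`
    rw [h] at hn2
    have hMN : M = N := (eq_of_le_of_card_ge hNM (by rw [hn2, hN, mul_one])).symm
    have hns : Nat.card (Sylow 11 G) = 144 := by
      have h1 := card_normalizer_mul_nsyl P
      rw [hG, ← hNdef, hN] at h1
      rcases hj with rfl | rfl <;> omega
    have h1 := hWp.card_modEq_card_fixedPoints (Sylow 11 G)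
    rw [hns] at h1
    have hPfix : P ∈ MulAction.fixedPoints W (Sylow 11 G) := by
      intro w
      have hw : (w : G) ∈ N := hCN ((hWmem _).1 w.2).1
      exact Sylow.smul_eq_iff_mem_normalizer.2 hw
    have h2 : 1 < Nat.card (MulAction.fixedPoints W (Sylow 11 G)) := by
      have h3 : Nat.card (MulAction.fixedPoints W (Sylow 11 G)) ≠ 0 := by
        have : Nonempty (MulAction.fixedPoints W (Sylow 11 G)) := ⟨⟨P, hPfix⟩⟩
        exact Nat.card_pos.ne'
      have h4 : 144 % 3 = Nat.card (MulAction.fixedPoints W (Sylow 11 G)) % 3 := h1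
      omega
    have : Nontrivial (MulAction.fixedPoints W (Sylow 11 G)) := (Finite.one_lt_card_iff_nontrivial).1 h2
    obtain ⟨R, hR⟩ := exists_ne (⟨P, hPfix⟩ : MulAction.fixedPoints W (Sylow 11 G))
    have hRP : (R : Sylow 11 G) ≠ P := fun h => hR (Subtype.ext h)
    have hWR : W ≤ normalizer (((R : Sylow 11 G) : Subgroup G) : Set G) := by
      intro w hw
      exact Sylow.smul_eq_iff_mem_normalizer.1 (R.2 ⟨w, hw⟩)
    have hRc : Nat.card ((R : Sylow 11 G) : Subgroup G) = 11 := by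
      have := sylow_card_of (G := G) (p := 11) (k := 1) (m := 4320 * j) (by rw [hG]; ring) (by rcases hj with rfl | rfl <;> norm_num) (R : Sylow 11 G)
      simpa using this
    have hWC : W ≤ centralizer (((R : Sylow 11 G) : Subgroup G) : Set G) := by
      intro w hw
      have h3 := (index_mul (R : Sylow 11 G) hRc).2.1
      have h4 : ((centralizer (((R : Sylow 11 G) : Subgroup G) : Set G)).subgroupOf (normalizer (((R : Sylow 11 G) : Subgroup G) : Set G))).Normal := inferInstance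
      have h5 := mem_of_orderOf_coprime_index ((centralizer (((R : Sylow 11 G) : Subgroup G) : Set G)).subgroupOf (normalizer (((R : Sylow 11 G) : Subgroup G) : Set G)))
        ⟨w, hWR hw⟩ (by
          have h6 : orderOf (⟨w, hWR hw⟩ : normalizer (((R : Sylow 11 G) : Subgroup G) : Set G)) ∣ 3 :=
            orderOf_dvd_of_pow_eq_one (Subtype.ext ((hWmem w).1 hw).2)
          have h7 : ((centralizer (((R : Sylow 11 G) : Subgroup G) : Set G)).subgroupOf (normalizer (((R : Sylow 11 G) : Subgroup G) : Set G))).index ∣ 10 := h3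
          exact Nat.Coprime.coprime_dvd_left h6 (Nat.Coprime.coprime_dvd_right h7 (by norm_num)))
      exact mem_subgroupOf.1 h5
    have hRN : ((R : Sylow 11 G) : Subgroup G) ≤ N := by
      rw [← hMN]
      intro r hr
      rw [hM, mem_normalizer_iff]
      intro g
      have hcom : ∀ g ∈ W, r * g * r⁻¹ = g := by
        intro g hg
        rw [mem_centralizer_iff.1 (hWC hg) r hr, mul_inv_cancel_right]
      refine ⟨fun hg => by rw [hcom g hg]; exact hg, fun hg => ?_⟩
      have h3 := hcom _ hg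
      have h4 : r * g * r⁻¹ = g := by
        have h5 : r * (r * g * r⁻¹) * r⁻¹ = r * g * r⁻¹ := h3
        have h6 : r * g * r⁻¹ = g := by
          have := mul_left_cancel (mul_right_cancel h5)
          exact this
        exact h6
      rwa [h4] at hg
    apply hRP
    have hPn : ((P : Subgroup G).subgroupOf N).Normal := Subgroup.normal_in_normalizer
    have hPi : ((P : Subgroup G).subgroupOf N).index = 30 * j := by
      have h3 := Subgroup.card_mul_index ((P : Subgroup G).subgroupOf N)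
      rw [Nat.card_congr (subgroupOfEquivOfLe hPN).toEquiv, hP, hN] at h3
      rcases hj with rfl | rfl <;> omega
    have hle : ((R : Sylow 11 G) : Subgroup G) ≤ P := by
      intro r hr
      have h3 := mem_of_orderOf_coprime_index ((P : Subgroup G).subgroupOf N) ⟨r, hRN hr⟩ (by
        rw [hPi]
        have h4 : orderOf (⟨r, hRN hr⟩ : N) ∣ 11 := by
          rw [Subgroup.orderOf_mk, ← hRc, ← Subgroup.orderOf_mk r hr]
          exact orderOf_dvd_natCard _
        exact Nat.Coprime.coprime_dvd_left h4 (by rcases hj with rfl | rfl <;> norm_num))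
      exact mem_subgroupOf.1 h3
    exact Sylow.ext (eq_of_le_of_card_ge hle (by rw [hP, hRc]))
  · have hM12 : M.index = 12 := by
      rw [h] at hidx
      rcases hj with rfl | rfl <;> omega
    have h1 := normalizer_dvd_of_index hna (p := 11) (by norm_num) M (Or.inr hM12) (by rw [hG]; rcases hj with rfl | rfl <;> norm_num) P
    have := Nat.le_of_dvd (by norm_num) h1
    rw [← hNdef, hN] at this
    omega
  · rw [h] at hn2
    have h1 : M = ⊤ := by
      rw [← Subgroup.card_eq_iff_eq_top, hn2, hG]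
      ring
    have h2 : W.Normal := Subgroup.normalizer_eq_top_iff.1 h1
    rcases h2.eq_bot_or_eq_top with h3 | h3
    · rw [h3, Subgroup.card_bot] at hWc; omega
    · rw [h3, Subgroup.card_top, hG] at hWc; omega


theorem ar_1440 : ∀ d ∈ Nat.divisors 1440, (d % 11 = 1 → d ≠ 1 → d = 12 ∨ d = 45 ∨ d = 144) ∧
    (d % 11 = 10 → d = 10 ∨ d = 32 ∨ d = 120 ∨ d = 1440) := by decide +kernel

/-- no character of degree 12 with value 1 on `P` if an involution centralises `P` -/
theorem no12 [IsSimpleGroup G] (hna : ¬ IsMulCommutative G) {P : Subgroup G} (hP : Nat.card P = 11) {χ : IrrCharacter G} (hχ : χ ≠ triv G) {δ : ℤ}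
    (hδ : δ = 1) (hval : ∀ c ∈ centralizer (P : Set G), 11 ∣ orderOf c → (χ : G → ℂ) c = δ) {a : G}
    (haC : a ∈ centralizer (P : Set G)) (ha : orderOf a = 2) (hd : deg χ = 12) : False := by
  obtain ⟨m, n0, n1, h1, h2, h3, h4, h5⟩ := inv_valC hna hP hχ hval haC ha
  have ha2 : a ^ 2 = 1 := by rw [← ha]; exact pow_orderOf_eq_one a
  obtain ⟨m', g1, -, g2, -, -⟩ := val_inv hna χ a ha2
  have hmm : m' = m := by
    have : ((m' : ℤ) : ℂ) = ((m : ℤ) : ℂ) := by rw [← g1, h1]
    exact_mod_cast this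
  rw [hmm] at g2
  rw [hd] at h2 h3 h5 g2
  rw [hδ] at h4 h5
  push_cast at h2 h3 h5 g2
  omega

/-- the principal block with `e = 10` -/
theorem ten_block [IsSimpleGroup G] [DecidableEq (IrrCharacter G)] (hna : ¬ IsMulCommutative G) (hsq : ¬ 11 ^ 2 ∣ Nat.card G)
    (P : Sylow 11 G) (hP : Nat.card (P : Subgroup G) = 11) (B : PB1 11 (P : Subgroup G))
    (hidx : (centralizer ((P : Subgroup G) : Set G)).index = 1440)
    (heven : 2 ∣ Nat.card (normalizer ((P : Subgroup G) : Set G))) (hlt : Nat.card G ≤ 95040) :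
    (∀ χ ∈ B.X.erase (triv G), (B.δ χ, deg χ) ∈ ({(1, 12), (1, 45), (1, 144), (-1, 32), (-1, 120)} : Finset (ℤ × ℕ))) ∧
    1 + ∑ χ ∈ B.X.erase (triv G), deg χ ^ 2 ≤ Nat.card G ∧ 1 + ∑ χ ∈ B.X.erase (triv G), B.δ χ * (deg χ : ℤ) = 0 ∧
    (B.X.erase (triv G)).card = 10 := by
  have hsum : 1 + ∑ χ ∈ B.X.erase (triv G), deg χ ^ 2 ≤ Nat.card G := by
    rw [← sum_deg_sq]
    have h1 : ∑ χ ∈ B.X, deg χ ^ 2 ≤ ∑ χ : IrrCharacter G, deg χ ^ 2 := Finset.sum_le_sum_of_subset (Finset.subset_univ _)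
    rw [← Finset.add_sum_erase _ _ B.tX, deg_triv] at h1
    simpa using h1
  refine ⟨?_, hsum, ?_, ?_⟩
  · intro χ hχ
    have hle : deg χ ^ 2 ≤ ∑ χ ∈ B.X.erase (triv G), deg χ ^ 2 :=
      Finset.single_le_sum (f := fun χ : IrrCharacter G => deg χ ^ 2) (fun _ _ => Nat.zero_le _) hχ
    obtain ⟨hχ1, hχ⟩ := Finset.mem_erase.1 hχ
    have hd1 : deg χ ≠ 1 := fun h => hχ1 (eq_triv_of_deg_one hna h)
    obtain ⟨k, hk⟩ := B.degX χ hχ
    have hm := M12ByOrder.deg_mod hk
    have hdv := B.dvdX χ hχ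
    rw [hidx] at hdv
    have h3 := ar_1440 _ (Nat.mem_divisors.2 ⟨hdv, by norm_num⟩)
    rcases B.δ_pm χ hχ with h1 | h1 <;> rw [h1] at hm ⊢ <;> push_cast at hm
    · rcases h3.1 (by omega) hd1 with h | h | h <;> rw [h] <;> decide
    · rcases h3.2 (by omega) with h | h | h | h
      · exact (no10 hna hP hsq heven hχ1 h1 (B.valX χ hχ) h).elim
      · rw [h]; decide
      · rw [h]; decide
      · rw [h] at hle
        omega
  · have h1 := B.rel
    rw [← Finset.add_sum_erase _ _ B.tX, deg_triv, B.tδ] at h1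
    simpa using h1
  · rw [Finset.card_erase_of_mem B.tX, B.cardX]

theorem ten_two [IsSimpleGroup G] (hna : ¬ IsMulCommutative G) (hG : Nat.card G = 31680)
    (P : Sylow 11 G) (hP : Nat.card (P : Subgroup G) = 11)
    (he : (centralizer ((P : Subgroup G) : Set G)).relIndex (normalizer ((P : Subgroup G) : Set G)) = 10)
    (hN : Nat.card (normalizer ((P : Subgroup G) : Set G)) = 220)
    (hC : Nat.card (centralizer ((P : Subgroup G) : Set G)) = 22) : False := by
  classical
  obtain ⟨B⟩ := exists_pb1 P hP (by rw [he])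
  have hidx : (centralizer ((P : Subgroup G) : Set G)).index = 1440 := by
    have h1 := Subgroup.card_mul_index (centralizer ((P : Subgroup G) : Set G))
    rw [hC, hG] at h1
    omega
  obtain ⟨h1, h2, h3, h4⟩ := ten_block hna (by rw [hG]; norm_num) P hP B hidx (by rw [hN]; norm_num) (by rw [hG]; norm_num)
  obtain ⟨a', ha'⟩ := exists_prime_orderOf_dvd_card' (G := centralizer ((P : Subgroup G) : Set G)) 2 (by rw [hC]; norm_num)
  have ho : orderOf (a' : G) = 2 := by rw [Subgroup.orderOf_coe, ha']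
  set T : Finset (ℤ × ℕ) := {(1, 45), (1, 144), (-1, 32), (-1, 120)} with hT
  have hmem : ∀ χ ∈ B.X.erase (triv G), (B.δ χ, deg χ) ∈ T := by
    intro χ hχ
    have h5 := h1 χ hχ
    rw [Finset.mem_insert] at h5
    rcases h5 with h5 | h5
    · obtain ⟨hχ1, hχ⟩ := Finset.mem_erase.1 hχ
      have h6 := (Prod.mk.injEq _ _ _ _).mp h5
      exact (no12 hna hP hχ1 h6.1 (B.valX χ hχ) a'.2 ho h6.2).elim
    · exact h5
  have hs1 := sum_by_type (B.X.erase (triv G)) T (fun χ => (B.δ χ, deg χ)) hmem (fun v => 1)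
  have hs2 := sum_by_type (B.X.erase (triv G)) T (fun χ => (B.δ χ, deg χ)) hmem (fun v => v.1 * v.2)
  have hs3 := sum_by_type (B.X.erase (triv G)) T (fun χ => (B.δ χ, deg χ)) hmem (fun v => v.2 ^ 2)
  rw [Finset.sum_const, h4] at hs1
  simp only at hs2 hs3
  rw [hs2] at h3
  replace h2 : (1 : ℤ) + ∑ χ ∈ B.X.erase (triv G), (deg χ : ℤ) ^ 2 ≤ Nat.card G := by exact_mod_cast h2
  rw [hs3] at h2
  rw [hT] at hs1 h3 h2
  rw [Finset.sum_insert (by decide), Finset.sum_insert (by decide), Finset.sum_insert (by decide), Finset.sum_singleton] at hs1 h3 h2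
  simp only [nsmul_eq_mul, mul_one] at hs1 h3 h2
  rw [hG] at h2
  set b := ((B.X.erase (triv G)).filter (fun χ => (B.δ χ, deg χ) = (1, 45))).card
  set c := ((B.X.erase (triv G)).filter (fun χ => (B.δ χ, deg χ) = (1, 144))).card
  set k := ((B.X.erase (triv G)).filter (fun χ => (B.δ χ, deg χ) = (-1, 32))).card
  set l := ((B.X.erase (triv G)).filter (fun χ => (B.δ χ, deg χ) = (-1, 120))).card
  norm_num at hs1 h3 h2
  clear_value b c k l
  have hc : c = 0 ∨ c = 1 := by omega
  have hl : l = 0 ∨ l = 1 ∨ l = 2 := by omega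
  rcases hc with rfl | rfl <;> rcases hl with rfl | rfl | rfl <;> omega

theorem mem_norm_of_conj {P : Subgroup G} {g : G} (h : ∀ x ∈ P, g * x * g⁻¹ ∈ P) : g ∈ normalizer (P : Set G) := by
  have h1 : P.map (MulAut.conj g).toMonoidHom ≤ P := by
    rintro _ ⟨x, hx, rfl⟩
    exact h x hx
  have h2 : P.map (MulAut.conj g).toMonoidHom = P := by
    apply eq_of_le_of_card_ge h1
    rw [Nat.card_congr (P.equivMapOfInjective _ (MulAut.conj g).injective).symm.toEquiv]
  rw [mem_normalizer_iff]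
  intro y
  refine ⟨h y, fun hy => ?_⟩
  rw [← h2] at hy
  obtain ⟨z, hz, hz2⟩ := hy
  have h3 : g * z * g⁻¹ = g * y * g⁻¹ := hz2
  have h4 : z = y := mul_left_cancel (mul_right_cancel h3)
  rw [← h4]; exact hz

theorem ten_dvd {x w : G} (hx : orderOf x = 11) (hw : w * x * w⁻¹ = x ^ 2) : 10 ∣ orderOf w := by
  have hp : ∀ n : ℕ, w ^ n * x * (w ^ n)⁻¹ = x ^ (2 ^ n) := by
    intro n
    induction n with
    | zero => simp
    | succ n ih =>
      calc w ^ (n + 1) * x * (w ^ (n + 1))⁻¹ = w * (w ^ n * x * (w ^ n)⁻¹) * w⁻¹ := by rw [pow_succ']; group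
        _ = w * x ^ (2 ^ n) * w⁻¹ := by rw [ih]
        _ = (w * x * w⁻¹) ^ (2 ^ n) := by rw [conj_pow]
        _ = x ^ (2 ^ (n + 1)) := by rw [hw, ← pow_mul, pow_succ']
  have h1 := hp (orderOf w)
  rw [pow_orderOf_eq_one, one_mul, inv_one, mul_one] at h1
  have h2 : x ^ 1 = x ^ (2 ^ orderOf w) := by rw [pow_one]; exact h1
  rw [pow_eq_pow_iff_modEq, hx] at h2
  have h3 : (2 : ZMod 11) ^ orderOf w = 1 := by
    have := (ZMod.natCast_eq_natCast_iff _ _ _).2 h2
    push_cast at this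
    exact this.symm
  have h4 : (2 : ZMod 11) ^ 10 = 1 := by decide
  have h5 : ∀ r : Fin 10, (2 : ZMod 11) ^ (r : ℕ) = 1 → (r : ℕ) = 0 := by decide
  have h6 : (2 : ZMod 11) ^ (orderOf w % 10) = 1 := by
    have : (2 : ZMod 11) ^ orderOf w = (2 : ZMod 11) ^ (orderOf w % 10) := by
      conv_lhs => rw [← Nat.div_add_mod (orderOf w) 10]
      rw [pow_add, pow_mul, h4, one_pow, one_mul]
    rw [← this, h3]
  exact Nat.dvd_of_mod_eq_zero (h5 ⟨orderOf w % 10, Nat.mod_lt _ (by norm_num)⟩ h6)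

theorem ten_one [IsSimpleGroup G] (hna : ¬ IsMulCommutative G) (hG : Nat.card G = 15840)
    (P : Sylow 11 G) (hP : Nat.card (P : Subgroup G) = 11)
    (he : (centralizer ((P : Subgroup G) : Set G)).relIndex (normalizer ((P : Subgroup G) : Set G)) = 10)
    (hN : Nat.card (normalizer ((P : Subgroup G) : Set G)) = 110)
    (hC : Nat.card (centralizer ((P : Subgroup G) : Set G)) = 11) : False := by
  classical
  obtain ⟨B⟩ := exists_pb1 P hP (by rw [he])
  have hidx : (centralizer ((P : Subgroup G) : Set G)).index = 1440 := by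
    have h1 := Subgroup.card_mul_index (centralizer ((P : Subgroup G) : Set G))
    rw [hC, hG] at h1
    omega
  obtain ⟨h1, h2, h3, h4⟩ := ten_block hna (by rw [hG]; norm_num) P hP B hidx (by rw [hN]; norm_num) (by rw [hG]; norm_num)
  set T : Finset (ℤ × ℕ) := {(1, 12), (1, 45), (1, 144), (-1, 32), (-1, 120)} with hT
  have key : ((B.X.erase (triv G)).filter (fun χ => (B.δ χ, deg χ) = (1, 45))).card = 3 ∧
      ((B.X.erase (triv G)).filter (fun χ => (B.δ χ, deg χ) = (1, 144))).card = 0 ∧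
      ((B.X.erase (triv G)).filter (fun χ => (B.δ χ, deg χ) = (-1, 120))).card = 0 := by
    have hs1 := sum_by_type (B.X.erase (triv G)) T (fun χ => (B.δ χ, deg χ)) h1 (fun v => 1)
    have hs2 := sum_by_type (B.X.erase (triv G)) T (fun χ => (B.δ χ, deg χ)) h1 (fun v => v.1 * v.2)
    have hs3 := sum_by_type (B.X.erase (triv G)) T (fun χ => (B.δ χ, deg χ)) h1 (fun v => v.2 ^ 2)
    rw [Finset.sum_const, h4] at hs1
    simp only at hs2 hs3
    rw [hs2] at h3
    replace h2 : (1 : ℤ) + ∑ χ ∈ B.X.erase (triv G), (deg χ : ℤ) ^ 2 ≤ Nat.card G := by exact_mod_cast h2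
    rw [hs3] at h2
    rw [hT] at hs1 h3 h2
    rw [Finset.sum_insert (by decide), Finset.sum_insert (by decide), Finset.sum_insert (by decide), Finset.sum_insert (by decide),
      Finset.sum_singleton] at hs1 h3 h2
    simp only [nsmul_eq_mul, mul_one] at hs1 h3 h2
    rw [hG] at h2
    set a := ((B.X.erase (triv G)).filter (fun χ => (B.δ χ, deg χ) = (1, 12))).card
    set b := ((B.X.erase (triv G)).filter (fun χ => (B.δ χ, deg χ) = (1, 45))).card
    set c := ((B.X.erase (triv G)).filter (fun χ => (B.δ χ, deg χ) = (1, 144))).card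
    set k := ((B.X.erase (triv G)).filter (fun χ => (B.δ χ, deg χ) = (-1, 32))).card
    set l := ((B.X.erase (triv G)).filter (fun χ => (B.δ χ, deg χ) = (-1, 120))).card
    norm_num at hs1 h3 h2
    clear_value a b c k l
    have hc : c = 0 := by omega
    have hl : l = 0 ∨ l = 1 := by omega
    have hb : b < 8 := by omega
    subst hc
    rcases hl with rfl | rfl
    · interval_cases b <;> omega
    · omega
  obtain ⟨x', hx'⟩ := exists_prime_orderOf_dvd_card' (G := (P : Subgroup G)) 11 (by rw [hP])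
  have hx : orderOf (x' : G) = 11 := by rw [Subgroup.orderOf_coe, hx']
  have hz : zpowers (x' : G) = P := eq_of_le_of_card_ge (zpowers_le.2 x'.2) (by rw [hP, Nat.card_zpowers, hx])
  have hcx : Nat.card (centralizer ({(x' : G)} : Set G)) = 11 := by rw [M12ByOrder.centralizer_zpowers, hz, hC]
  have hexp : IsConj (x' : G) ((x' : G) ^ 2) := by
    have h5 := QRConj.card_expo (p := 11) (x' : G) hx
    rw [hcx, hz, hN] at h5
    have h6 : Nat.card (QRConj.expo (p := 11) (x' : G) hx) = 10 := by omega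
    have h7 : QRConj.expo (p := 11) (x' : G) hx = ⊤ := by
      apply eq_top_of_card_eq
      rw [h6, Nat.card_eq_fintype_card, ZMod.card_units_eq_totient]
      decide
    have h8 : ((2 : ℕ) : ZMod 11) ≠ 0 := by decide
    rw [← QRConj.mem_expo_iff (x' : G) hx 2 h8, h7]
    trivial
  obtain ⟨w, hw⟩ := isConj_iff.1 hexp
  obtain ⟨q, hq⟩ := ten_dvd hx hw
  have hq0 : 0 < q := by
    rcases Nat.eq_zero_or_pos q with h | h
    · have := orderOf_pos w
      rw [h] at hq
      omega
    · exact h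
  have hwN : w ∈ normalizer ((P : Subgroup G) : Set G) := by
    apply mem_norm_of_conj
    intro y hy
    rw [← hz] at hy ⊢
    obtain ⟨n, rfl⟩ := mem_zpowers_iff.1 hy
    rw [← conj_zpow, hw]
    exact zpow_mem (pow_mem (mem_zpowers _) 2) n
  set a := w ^ (5 * q) with ha
  have hoa : orderOf a = 2 := by
    rw [ha, orderOf_pow_of_dvd (by omega) (by rw [hq]; exact ⟨2, by ring⟩), hq]
    exact Nat.div_eq_of_eq_mul_left (by omega) (by ring)
  have hoy : orderOf (w ^ (2 * q)) = 5 := by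
    rw [orderOf_pow_of_dvd (by omega) (by rw [hq]; exact ⟨5, by ring⟩), hq]
    exact Nat.div_eq_of_eq_mul_left (by omega) (by ring)
  have haN : a ∈ normalizer ((P : Subgroup G) : Set G) := pow_mem hwN _
  have haC : a ∉ centralizer ((P : Subgroup G) : Set G) := by
    intro h
    have h5 := orderOf_dvd_natCard (⟨a, h⟩ : centralizer ((P : Subgroup G) : Set G))
    rw [Subgroup.orderOf_mk, hoa, hC] at h5
    norm_num at h5
  have h5C : 5 ∣ Nat.card (centralizer ({a} : Set G)) := by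
    have hy : w ^ (2 * q) ∈ centralizer ({a} : Set G) := by
      rw [mem_centralizer_singleton_iff]
      exact ((Commute.refl w).pow_pow _ _)
    have h5 := orderOf_dvd_natCard (⟨w ^ (2 * q), hy⟩ : centralizer ({a} : Set G))
    rwa [Subgroup.orderOf_mk, hoy] at h5
  have ha2 : a ^ 2 = 1 := by rw [← hoa]; exact pow_orderOf_eq_one a
  have hval : ∀ χ ∈ B.X.erase (triv G), ∃ m : ℤ, (χ : G → ℂ) a = m ∧ (deg χ ≠ 45 → m = 0) ∧
      (deg χ = 45 → (B.δ χ = 1 ∧ (m = 5 ∨ m = 1 ∨ m = -3))) := by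
    intro χ hχ
    obtain ⟨hχ1, hχX⟩ := Finset.mem_erase.1 hχ
    obtain ⟨m, n0, n1, g1, g2, g3, g4⟩ := inv_val hna hP (B.valX χ hχX) haN haC ha2
    refine ⟨m, g1, ?_⟩
    have h5 := h1 χ hχ
    have f1 : (B.δ χ, deg χ) ≠ (1, 144) := by
      intro h
      have h6 : χ ∈ (B.X.erase (triv G)).filter (fun χ => (B.δ χ, deg χ) = (1, 144)) := Finset.mem_filter.2 ⟨hχ, h⟩
      rw [Finset.card_eq_zero.1 key.2.1] at h6
      exact absurd h6 (Finset.notMem_empty _)
    have f2 : (B.δ χ, deg χ) ≠ (-1, 120) := by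
      intro h
      have h6 : χ ∈ (B.X.erase (triv G)).filter (fun χ => (B.δ χ, deg χ) = (-1, 120)) := Finset.mem_filter.2 ⟨hχ, h⟩
      rw [Finset.card_eq_zero.1 key.2.2] at h6
      exact absurd h6 (Finset.notMem_empty _)
    rw [hT] at h5
    simp only [Finset.mem_insert, Finset.mem_singleton] at h5
    rcases h5 with h5 | h5 | h5 | h5 | h5
    · have h6 := (Prod.mk.injEq _ _ _ _).mp h5
      rw [h6.1, h6.2] at g4
      rw [h6.2] at g2 ⊢
      push_cast at g2 g4
      exact ⟨fun _ => by omega, fun h => by omega⟩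
    · have h6 := (Prod.mk.injEq _ _ _ _).mp h5
      rw [h6.1, h6.2] at g4
      rw [h6.2] at g2 ⊢
      push_cast at g2 g4
      exact ⟨fun h => by omega, fun h => ⟨h6.1, by omega⟩⟩
    · exact absurd h5 f1
    · have h6 := (Prod.mk.injEq _ _ _ _).mp h5
      rw [h6.1, h6.2] at g4
      rw [h6.2] at g2 ⊢
      push_cast at g2 g4
      exact ⟨fun _ => by omega, fun h => by omega⟩
    · exact absurd h5 f2
  have hxC : (x' : G) ∈ centralizer ((P : Subgroup G) : Set G) := le_cent hP x'.2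
  have hXx : ∀ χ ∈ B.X, (χ : G → ℂ) (x' : G) = B.δ χ := fun χ hχ => B.valX χ hχ _ hxC (by rw [hx])
  have hXx' : ∀ χ ∈ B.X, (χ : G → ℂ) (x' : G)⁻¹ = B.δ χ := fun χ hχ => B.valX χ hχ _ (inv_mem hxC) (by rw [orderOf_inv, hx])
  have hvan : ∀ χ : IrrCharacter G, χ ∉ B.X → (χ : G → ℂ) (x' : G)⁻¹ = 0 := by
    intro χ hχ
    have h5 := col_norm (x' : G)
    rw [hcx, ← Finset.sum_add_sum_compl B.X] at h5
    have h6 : ∑ χ ∈ B.X, ‖(χ : G → ℂ) (x' : G)‖ ^ 2 = 11 := by
      have h7 : ∀ χ ∈ B.X, ‖(χ : G → ℂ) (x' : G)‖ ^ 2 = (1 : ℝ) := by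
        intro χ hχ
        rw [hXx χ hχ, Complex.norm_intCast]
        rcases B.δ_pm χ hχ with h | h <;> rw [h] <;> norm_num
      rw [Finset.sum_congr rfl h7, Finset.sum_const, B.cardX]
      norm_num
    have h7 : ∑ χ ∈ B.Xᶜ, ‖(χ : G → ℂ) (x' : G)‖ ^ 2 = 0 := by
      push_cast at h5
      linarith
    have h8 := (Finset.sum_eq_zero_iff_of_nonneg (fun _ _ => by positivity)).1 h7 χ (Finset.mem_compl.2 hχ)
    have h9 : (χ : G → ℂ) (x' : G) = 0 := by simpa using h8
    rw [← conj_apply, h9, map_zero]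
  obtain ⟨p1, p2, p3, hp12, hp13, hp23, hF⟩ := Finset.card_eq_three.1 key.1
  have hred : ∀ f : IrrCharacter G → ℂ, (∀ χ, χ ∉ B.X → f χ = 0) → (∀ χ ∈ B.X.erase (triv G), deg χ ≠ 45 → f χ = 0) →
      ∑ χ, f χ = f (triv G) + (f p1 + f p2 + f p3) := by
    intro f hf1 hf2
    rw [← Finset.sum_subset (Finset.subset_univ B.X) (fun χ _ h => hf1 χ h), ← Finset.add_sum_erase _ _ B.tX]
    congr 1
    have h5 : ∑ χ ∈ B.X.erase (triv G), f χ = ∑ χ ∈ (B.X.erase (triv G)).filter (fun χ => (B.δ χ, deg χ) = (1, 45)), f χ := by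
      symm
      apply Finset.sum_subset (Finset.filter_subset _ _)
      intro χ hχ hn
      apply hf2 χ hχ
      intro hd
      apply hn
      rw [Finset.mem_filter]
      obtain ⟨m, -, -, g⟩ := hval χ hχ
      exact ⟨hχ, by rw [(g hd).1, hd]⟩
    rw [h5, hF, Finset.sum_insert (by simp [hp12, hp13]), Finset.sum_pair hp23]
    ring
  have hmem3 : ∀ χ : IrrCharacter G, χ ∈ ({p1, p2, p3} : Finset (IrrCharacter G)) → χ ∈ B.X ∧ deg χ = 45 ∧ B.δ χ = 1 ∧
      ∃ m : ℤ, (χ : G → ℂ) a = m ∧ (m = 5 ∨ m = 1 ∨ m = -3) := by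
    intro χ hχ
    rw [← hF, Finset.mem_filter] at hχ
    have h6 := (Prod.mk.injEq _ _ _ _).mp hχ.2
    obtain ⟨m, g1, -, g3⟩ := hval χ hχ.1
    exact ⟨Finset.mem_of_mem_erase hχ.1, h6.2, h6.1, m, g1, (g3 h6.2).2⟩
  obtain ⟨q1, d1, e1, m1, v1, r1⟩ := hmem3 p1 (by simp)
  obtain ⟨q2, d2, e2, m2, v2, r2⟩ := hmem3 p2 (by simp)
  obtain ⟨q3, d3, e3, m3, v3, r3⟩ := hmem3 p3 (by simp)
  have hnc : ¬ IsConj a (x' : G) := by
    intro h
    have := M11ByOrder.isConj_order h
    rw [hoa, hx] at this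
    norm_num at this
  have ho1 := col_orth_ne hnc
  rw [hred _ (fun χ hχ => by rw [hvan χ hχ, mul_zero]) (fun χ hχ hd => by
    obtain ⟨m, g1, g2, -⟩ := hval χ hχ
    rw [g1, g2 hd]; simp)] at ho1
  rw [triv_apply, triv_apply, v1, v2, v3, hXx' p1 q1, hXx' p2 q2, hXx' p3 q3, e1, e2, e3] at ho1
  have ho2 : 1 + (m1 + m2 + m3) = 0 := by
    have : (((1 : ℤ) + (m1 + m2 + m3) : ℤ) : ℂ) = ((0 : ℤ) : ℂ) := by push_cast; push_cast at ho1; linear_combination ho1
    exact_mod_cast this
  have hs := struct_const a a (x' : G)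
  rw [hred _ (fun χ hχ => by rw [hvan χ hχ, mul_zero, zero_div]) (fun χ hχ hd => by
    obtain ⟨m, g1, g2, -⟩ := hval χ hχ
    rw [g1, g2 hd]; simp)] at hs
  simp only [triv_apply, v1, v2, v3, hXx' p1 q1, hXx' p2 q2, hXx' p3 q3, e1, e2, e3, apply_one, d1, d2, d3, hG] at hs
  obtain ⟨c5, hc5⟩ := h5C
  rw [hc5] at hs
  set NN := Nat.card {p : G × G // IsConj a p.1 ∧ IsConj a p.2 ∧ p.1 * p.2 = (x' : G)}
  have hs2 : (NN : ℤ) * ((5 * c5) * (5 * c5)) = 15840 + 352 * (m1 ^ 2 + m2 ^ 2 + m3 ^ 2) := by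
    have : (((NN : ℤ) * ((5 * c5) * (5 * c5)) : ℤ) : ℂ) = ((15840 + 352 * (m1 ^ 2 + m2 ^ 2 + m3 ^ 2) : ℤ) : ℂ) := by
      push_cast
      push_cast at hs
      rw [hs]
      ring
    exact_mod_cast this
  have hs3 : (5 : ℤ) ∣ 15840 + 352 * (m1 ^ 2 + m2 ^ 2 + m3 ^ 2) := by
    rw [← hs2]
    exact ⟨NN * (c5 * (5 * c5)), by ring⟩
  rcases r1 with rfl | rfl | rfl <;> rcases r2 with rfl | rfl | rfl <;> rcases r3 with rfl | rfl | rfl <;> first
    | omega
    | (norm_num at hs3)

/-- simple groups whose order divides `|M12|` and is divisible by 11 -/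
theorem main [IsSimpleGroup G] (hna : ¬ IsMulCommutative G) (hdv : Nat.card G ∣ 95040) (h11 : 11 ∣ Nat.card G) :
    Nat.card G = 660 ∨ Nat.card G = 7920 ∨ Nat.card G = 95040 := by
  have hsq : ¬ 11 ^ 2 ∣ Nat.card G := by
    intro h
    have := h.trans hdv
    norm_num at this
  have h11' := h11
  obtain ⟨m, hm⟩ := h11
  have hm11 : ¬ 11 ∣ m := by
    rintro ⟨r, rfl⟩
    exact hsq ⟨r, by rw [hm]; ring⟩
  have hmd : m ∣ 8640 := by
    rw [hm, show 95040 = 11 * 8640 by norm_num] at hdv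
    exact Nat.dvd_of_mul_dvd_mul_left (by norm_num) hdv
  obtain ⟨P⟩ : Nonempty (Sylow 11 G) := inferInstance
  have hP : Nat.card (P : Subgroup G) = 11 := by
    have := sylow_card_of (G := G) (p := 11) (k := 1) (m := m) (by rw [hm]; norm_num) hm11 P
    simpa using this
  have hn1 : Nat.card (Sylow 11 G) ∣ m := nsyl_dvd (G := G) (p := 11) (k := 1) (m := m) (by rw [hm]; norm_num) hm11
  have hn2 := nsyl_mod 11 G
  have h := (by decide +kernel : ∀ d ∈ Nat.divisors 8640, d % 11 = 1 → d ∈ ({1, 12, 45, 144, 320, 540, 1728} : Finset ℕ)) _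
    (Nat.mem_divisors.2 ⟨hn1.trans hmd, by norm_num⟩) hn2
  simp only [Finset.mem_insert, Finset.mem_singleton] at h
  have hN := card_normalizer_mul_nsyl P
  obtain ⟨h3, h4, h5⟩ := index_mul P hP
  obtain ⟨e, c, h6, h7, h8, h9⟩ := nc_data hna P hP
  have hrel : (centralizer ((P : Subgroup G) : Set G)).relIndex (normalizer ((P : Subgroup G) : Set G)) = e := by
    have h10 : Nat.card (Sylow 11 G) * ((centralizer ((P : Subgroup G) : Set G)).relIndex (normalizer ((P : Subgroup G) : Set G)) * (11 * c)) =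
      Nat.card (Sylow 11 G) * (e * (11 * c)) := by
      rw [← h6, ← h7, h3, ← hN, mul_comm]
    have h11 : 0 < Nat.card (Sylow 11 G) := Nat.card_pos
    have h12 : 0 < 11 * c := by rw [← h7]; exact Nat.card_pos
    exact Nat.eq_of_mul_eq_mul_right h12 (Nat.eq_of_mul_eq_mul_left h11 h10)
  have hne1 := nsyl_ne_one hna (p := 11) h11'
  have he : e = 2 ∨ e = 5 ∨ e = 10 := by
    have h10 : ∀ d ∈ Nat.divisors 10, d ≠ 1 → d = 2 ∨ d = 5 ∨ d = 10 := by decide +kernel
    exact h10 e (Nat.mem_divisors.2 ⟨h8, by norm_num⟩) h9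
  have hecn : e * c * Nat.card (Sylow 11 G) = m := by
    have : 11 * (e * c * Nat.card (Sylow 11 G)) = 11 * m := by
      rw [← hm, ← hN, h6]; ring
    exact Nat.eq_of_mul_eq_mul_left (by norm_num) this
  have hidx : (centralizer ((P : Subgroup G) : Set G)).index = e * Nat.card (Sylow 11 G) := by
    have h10 := Subgroup.card_mul_index (centralizer ((P : Subgroup G) : Set G))
    have h12 : 0 < 11 * c := by rw [← h7]; exact Nat.card_pos
    rw [h7, ← hN, h6] at h10
    apply Nat.eq_of_mul_eq_mul_left h12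
    rw [h10]; ring
  have hc0 : 0 < c := by
    rcases Nat.eq_zero_or_pos c with h0 | h0
    · have h10 : 0 < 11 * c := by rw [← h7]; exact Nat.card_pos
      omega
    · exact h0
  by_cases h12 : Nat.card (Sylow 11 G) = 12
  · left
    have h13 := normalizer_dvd_of_nsyl hna (p := 11) (by norm_num) h12 h11' P
    rw [h6] at h13
    have h14 : e * c ∣ 5 := by
      have h15 : 22 * (e * c) ∣ 22 * 5 := by
        have : 2 * (e * (11 * c)) = 22 * (e * c) := by ring
        rw [← this]; exact h13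
      exact Nat.dvd_of_mul_dvd_mul_left (by norm_num) h15
    have h15 : e * c = 5 := by
      rcases (Nat.dvd_prime (by norm_num)).1 h14 with h15 | h15
      · exfalso
        have := Nat.eq_one_of_mul_eq_one_right h15
        omega
      · exact h15
    rw [hm, ← hecn, h15, h12]
  rcases he with rfl | he'
  · exact (case_two hna hdv hsq P hP hrel (by rw [h6]; exact Dvd.intro _ rfl)).elim
  have he5 : 5 ∣ e := by rcases he' with rfl | rfl <;> norm_num
  have hn5 : ¬ 5 ∣ Nat.card (Sylow 11 G) := by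
    intro h10
    have h13 : 5 * 5 ∣ e * c * Nat.card (Sylow 11 G) := mul_dvd_mul (he5.mul_right c) h10
    rw [hecn] at h13
    have := h13.trans hmd
    norm_num at this
  have hn : Nat.card (Sylow 11 G) = 144 ∨ Nat.card (Sylow 11 G) = 1728 := by
    rcases h with h | h | h | h | h | h | h
    · exact absurd h hne1
    · exact absurd h h12
    · rw [h] at hn5; norm_num at hn5
    · exact Or.inl h
    · rw [h] at hn5; norm_num at hn5
    · rw [h] at hn5; norm_num at hn5
    · exact Or.inr h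
  rcases hn with hn | hn
  · rcases he' with rfl | rfl
    · -- `e = 5`
      rw [hn] at hecn hidx
      have hc12 : c ∣ 12 := by
        rw [← hecn] at hmd
        have h13 : 720 * c ∣ 720 * 12 := by
          rw [show 720 * c = 5 * c * 144 by ring]; exact hmd
        exact Nat.dvd_of_mul_dvd_mul_left (by norm_num) h13
      by_cases hc1 : c = 1
      · right; left
        rw [hm, ← hecn, hc1]
      · exfalso
        apply case_five hna hsq P hP hrel (by rw [hidx])
        rw [h7]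
        have h13 := (by decide +kernel : ∀ d ∈ Nat.divisors 12, d ≠ 1 → 2 ∣ d ∨ 3 ∣ d) c (Nat.mem_divisors.2 ⟨hc12, by norm_num⟩) hc1
        rcases h13 with h13 | h13
        · exact Or.inl (h13.mul_left 11)
        · exact Or.inr (h13.mul_left 11)
    · -- `e = 10`
      exfalso
      rw [hn] at hecn hidx
      have hc6 : c ∣ 6 := by
        rw [← hecn] at hmd
        have h13 : 1440 * c ∣ 1440 * 6 := by
          rw [show 1440 * c = 10 * c * 144 by ring]; exact hmd
        exact Nat.dvd_of_mul_dvd_mul_left (by norm_num) h13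
      have h13 := (by decide +kernel : ∀ d ∈ Nat.divisors 6, d = 1 ∨ d = 2 ∨ d = 3 ∨ d = 6) c (Nat.mem_divisors.2 ⟨hc6, by norm_num⟩)
      rcases h13 with rfl | rfl | rfl | rfl
      · exact ten_one hna (by rw [hm, ← hecn]) P hP hrel (by rw [h6]) (by rw [h7])
      · exact ten_two hna (by rw [hm, ← hecn]) P hP hrel (by rw [h6]) (by rw [h7])
      · exact ten_three hna (j := 1) (Or.inl rfl) (by rw [hm, ← hecn]) P hP (by rw [h6]) (by rw [h7])
      · exact ten_three hna (j := 2) (Or.inr rfl) (by rw [hm, ← hecn]) P hP (by rw [h6]) (by rw [h7])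
  · rw [hn] at hecn
    have hlm := Nat.le_of_dvd (by norm_num) hmd
    rcases he' with rfl | rfl
    · right; right
      have hc1 : c = 1 := by omega
      rw [hm, ← hecn, hc1]
    · exfalso
      omega

end Cfsg.Agent.Lib.M12OrdX
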