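import Mathlib
import Cfsg.Agent.Lib.M12G

/-!
# Simple groups of order 95040, part H: elements of order 10 (helper7)
-/

set_option autoImplicit false
set_option linter.all false

namespace Cfsg.Agent.Lib.M12ByOrder

open Subgroup Cfsg Cfsg.Agent.Lib.CharBasic Cfsg.Agent.Lib.ColTools Cfsg.Agent.Lib.SmallSimple
  Cfsg.Agent.Lib.PBlock
open scoped ComplexConjugate

universe u

/-- the character of the fixed space of an involution -/
theorem plusChar {G : Type u} [Group G] {χ : G → ℂ} (hχ : IsCharacter G χ) {s : G} (hs : s ^ 2 = 1) :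
    IsCharacter (centralizer ({s} : Set G)) (fun n => (χ (n : G) + χ (s * n)) / 2) := by
  obtain ⟨k, ρ, rfl⟩ := hχ
  set P : Module.End ℂ (Fin k → ℂ) := (2 : ℂ)⁻¹ • (1 + (ρ s : Module.End ℂ (Fin k → ℂ))) with hP
  have hss : (ρ s : Module.End ℂ (Fin k → ℂ)) * ρ s = 1 := by rw [← map_mul, ← sq, hs, map_one]
  have h2 : P * P = P := by
    rw [hP, smul_mul_smul_comm, mul_add, add_mul, add_mul, hss, one_mul, mul_one, one_mul]
    have : (1 : Module.End ℂ (Fin k → ℂ)) + ρ s + (ρ s + 1) = (2 : ℂ) • (1 + (ρ s : Module.End ℂ (Fin k → ℂ))) := by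
      rw [two_smul]; abel
    rw [this, smul_smul]
    congr 1
    norm_num
  have h3 : ∀ n : centralizer ({s} : Set G), P * (ρ (n : G) : Module.End ℂ (Fin k → ℂ)) = (ρ (n : G) : Module.End ℂ (Fin k → ℂ)) * P := by
    intro n
    have h4 : (ρ s : Module.End ℂ (Fin k → ℂ)) * ρ (n : G) = ρ (n : G) * ρ s := by
      rw [← map_mul, ← map_mul]
      congr 1
      exact (mem_centralizer_singleton_iff.1 n.2).symm
    rw [hP, smul_mul_assoc, mul_smul_comm, add_mul, mul_add, h4, one_mul, mul_one]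
  have h4 := SymAltSq.isCharacter_of_idempotent (ρ.comp (centralizer ({s} : Set G)).subtype : Representation ℂ _ (Fin k → ℂ)) P h2 h3
  convert h4 using 2 with n
  change _ = LinearMap.trace ℂ _ (P * ρ (n : G))
  rw [hP, smul_mul_assoc, add_mul, one_mul, map_smul, map_add, smul_eq_mul, ← map_mul]
  change _ = (2 : ℂ)⁻¹ * (LinearMap.trace ℂ _ (ρ (n : G)) + LinearMap.trace ℂ _ (ρ (s * n)))
  rw [mul_comm, ← div_eq_mul_inv]
  rfl

variable {G : Type u} [Group G] [Finite G]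

/-- the basic setup: `C(y)` has order 10 and contains the involution `s` -/
structure YS (y s : G) : Prop where
  hy : orderOf y = 5
  hs : orderOf s = 2
  hsy : Commute s y
  Cy : Nat.card (centralizer ({y} : Set G)) = 10
  Ny : Nat.card (normalizer (zpowers y : Set G)) = 40
  cj : ∀ k : ℕ, (k : ZMod 5) ≠ 0 → IsConj y (y ^ k)

variable {y s : G}

theorem YS.memC (h : YS y s) : s ∈ centralizer ({y} : Set G) := mem_centralizer_singleton_iff.2 h.hsy

theorem YS.y5 (h : YS y s) : y ^ 5 = 1 := by rw [← h.hy]; exact pow_orderOf_eq_one y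
theorem YS.s2 (h : YS y s) : s ^ 2 = 1 := by rw [← h.hs]; exact pow_orderOf_eq_one s

theorem YS.oys (h : YS y s) : orderOf (y * s) = 10 := by
  rw [h.hsy.symm.orderOf_mul_eq_mul_orderOf_of_coprime (by rw [h.hy, h.hs]; norm_num), h.hy, h.hs]

/-- `C(y)` is generated by `y s` -/
theorem YS.Cy_eq (h : YS y s) : centralizer ({y} : Set G) = zpowers (y * s) := by
  symm
  apply eq_of_le_of_card_ge
  · rw [zpowers_le]
    exact mul_mem (mem_centralizer_singleton_iff.2 (Commute.refl y)) h.memC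
  · rw [h.Cy, Nat.card_zpowers, h.oys]

theorem YS.comm (h : YS y s) {g k : G} (hg : g ∈ centralizer ({y} : Set G)) (hk : k ∈ centralizer ({y} : Set G)) : Commute g k := by
  rw [h.Cy_eq] at hg hk
  obtain ⟨i, rfl⟩ := mem_zpowers_iff.1 hg
  obtain ⟨j, rfl⟩ := mem_zpowers_iff.1 hk
  exact (Commute.refl (y * s)).zpow_zpow i j

theorem YS.inv_unique (h : YS y s) {t : G} (ht : t ∈ centralizer ({y} : Set G)) (h2 : t ^ 2 = 1) (h1 : t ≠ 1) : t = s := by
  rw [h.Cy_eq] at ht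
  obtain ⟨i, hi⟩ := (Submonoid.mem_powers_iff _ _).1 (mem_powers_iff_mem_zpowers.2 ht)
  have e1 : (y * s) ^ i = y ^ i * s ^ i := h.hsy.symm.mul_pow i
  rw [e1] at hi
  have e2 : y ^ (2 * i) * s ^ (2 * i) = 1 := by
    rw [← h2, ← hi, ← e1, ← pow_mul, mul_comm i 2, h.hsy.symm.mul_pow]
  rw [pow_mul s, h.s2, one_pow, mul_one] at e2
  have e3 : 5 ∣ i := by
    have := orderOf_dvd_of_pow_eq_one e2
    rw [h.hy] at this
    omega
  obtain ⟨j, rfl⟩ := e3
  rw [pow_mul, h.y5, one_pow, one_mul, pow_mul] at hi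
  rcases Nat.even_or_odd' j with ⟨l, rfl | rfl⟩
  · exfalso
    apply h1
    have : s ^ 5 = s := by rw [show 5 = 2 * 2 + 1 by norm_num, pow_add, pow_mul, h.s2, one_pow, one_mul, pow_one]
    rw [← hi, this, pow_mul, h.s2, one_pow]
  · have : s ^ 5 = s := by rw [show 5 = 2 * 2 + 1 by norm_num, pow_add, pow_mul, h.s2, one_pow, one_mul, pow_one]
    rw [← hi, this, pow_add, pow_mul, h.s2, one_pow, one_mul, pow_one]

/-- anything normalizing `⟨y⟩` centralizes `s` -/
theorem YS.fix_s (h : YS y s) {g : G} (hg : g * y * g⁻¹ ∈ zpowers y) : g * s * g⁻¹ = s := by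
  have hs1 : s ≠ 1 := fun e => by have := h.hs; rw [e, orderOf_one] at this; norm_num at this
  apply h.inv_unique
  · -- `g s g⁻¹` centralizes `g y g⁻¹`, which generates `⟨y⟩`
    have h1 : orderOf (g * y * g⁻¹) = 5 := by
      rw [← h.hy]
      exact (M11ByOrder.isConj_order (isConj_iff.2 ⟨g, rfl⟩)).symm
    have h2 : zpowers (g * y * g⁻¹) = zpowers y := by
      apply eq_of_le_of_card_ge (zpowers_le.2 hg)
      rw [Nat.card_zpowers, Nat.card_zpowers, h1, h.hy]
    have h3 : y ∈ zpowers (g * y * g⁻¹) := by rw [h2]; exact mem_zpowers y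
    obtain ⟨i, hi⟩ := mem_zpowers_iff.1 h3
    have h4 : Commute (g * s * g⁻¹) (g * y * g⁻¹) := by
      show g * s * g⁻¹ * (g * y * g⁻¹) = g * y * g⁻¹ * (g * s * g⁻¹)
      have := h.hsy.eq
      calc g * s * g⁻¹ * (g * y * g⁻¹) = g * (s * y) * g⁻¹ := by group
        _ = g * (y * s) * g⁻¹ := by rw [this]
        _ = g * y * g⁻¹ * (g * s * g⁻¹) := by group
    rw [mem_centralizer_singleton_iff, ← hi]
    exact h4.zpow_right i
  · rw [conj_pow, h.s2, mul_one, mul_inv_cancel]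
  · intro e
    apply hs1
    have := mul_eq_one_iff_eq_inv.1 e
    rw [inv_inv] at this
    exact mul_eq_left.1 this

theorem YS.conj_ys (h : YS y s) {k : ℕ} (hk : (k : ZMod 5) ≠ 0) : IsConj (y * s) (y ^ k * s) := by
  obtain ⟨g, hg⟩ := isConj_iff.1 (h.cj k hk)
  refine isConj_iff.2 ⟨g, ?_⟩
  have h1 := h.fix_s (g := g) (by rw [hg]; exact pow_mem (mem_zpowers y) k)
  calc g * (y * s) * g⁻¹ = (g * y * g⁻¹) * (g * s * g⁻¹) := by group
    _ = y ^ k * s := by rw [hg, h1]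

theorem YS.Cys (h : YS y s) : centralizer ({y * s} : Set G) = centralizer ({y} : Set G) := by
  apply le_antisymm
  · intro g hg
    rw [mem_centralizer_singleton_iff] at hg ⊢
    have h1 : (y * s) ^ 6 = y := by
      rw [h.hsy.symm.mul_pow, show 6 = 5 + 1 by norm_num, pow_add y, h.y5, one_mul, pow_one, show 5 + 1 = 2 * 3 by norm_num,
        pow_mul, h.s2, one_pow, mul_one]
    rw [← h1]
    exact (show Commute g (y * s) from hg).pow_right 6
  · intro g hg
    rw [mem_centralizer_singleton_iff]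
    exact h.comm hg (mul_mem (mem_centralizer_singleton_iff.2 (Commute.refl y)) h.memC)

theorem sum_off_one {H : Type*} [Fintype H] [One H] (f : H → ℂ) (c : ℂ) (hf : ∀ h : H, h ≠ 1 → f h = c) :
    ∑ h, f h = f 1 + (Fintype.card H - 1) * c := by
  classical
  have h1 : ∀ h : H, f h = c + (if h = 1 then f 1 - c else 0) := by
    intro h
    by_cases hh : h = 1
    · rw [if_pos hh, hh]; ring
    · rw [if_neg hh, add_zero]; exact hf h hh
  rw [Finset.sum_congr rfl (fun h _ => h1 h), Finset.sum_add_distrib, Finset.sum_const, Finset.card_univ,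
    Finset.sum_ite_eq' Finset.univ (1 : H), if_pos (Finset.mem_univ _), nsmul_eq_mul]
  ring

theorem YS.pow_of_mem (h : YS y s) {g : G} (hg : g ∈ zpowers y) (h1 : g ≠ 1) : ∃ k : ℕ, (k : ZMod 5) ≠ 0 ∧ g = y ^ k := by
  obtain ⟨k, hk⟩ := (Submonoid.mem_powers_iff _ _).1 (mem_powers_iff_mem_zpowers.2 hg)
  refine ⟨k, fun h2 => ?_, hk.symm⟩
  obtain ⟨j, hj⟩ := (ZMod.natCast_eq_zero_iff k 5).1 h2
  apply h1
  rw [← hk, hj, pow_mul, h.y5, one_pow]

variable [IsSimpleGroup G]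

/-- values of a character -/
structure Val (y s : G) (χ : IrrCharacter G) (V W σ : ℤ) (n0 n1 : ℕ) : Prop where
  V1 : (χ : G → ℂ) y = V
  W1 : (χ : G → ℂ) (y * s) = W
  S1 : (χ : G → ℂ) s = σ
  Vk : ∀ k : ℕ, (k : ZMod 5) ≠ 0 → (χ : G → ℂ) (y ^ k) = V
  Wk : ∀ k : ℕ, (k : ZMod 5) ≠ 0 → (χ : G → ℂ) (y ^ k * s) = W
  D : (deg χ : ℤ) + 4 * V = 5 * (n0 + n1)
  S : σ + 4 * W = 5 * (n0 - n1)
  par : (V + W) % 2 = 0
  par4 : ((deg χ : ℤ) - σ) % 4 = 0
  lt : χ ≠ triv G → -(deg χ : ℤ) < σ ∧ σ < deg χ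

theorem YS.vals (h : YS y s) (hna : ¬ IsMulCommutative G) (χ : IrrCharacter G) : ∃ V W σ n0 n1, Val y s χ V W σ n0 n1 := by
  classical
  have hs1 : s ≠ 1 := fun e => by have := h.hs; rw [e, orderOf_one] at this; norm_num at this
  obtain ⟨V, hV1, hV2⟩ := rat5 h.hy h.cj χ
  obtain ⟨σ, hσ1, hσ2, -, -, hσ5⟩ := val_inv hna χ s h.s2
  letI : Fintype (zpowers y) := Fintype.ofFinite _
  have hcard : Nat.card (zpowers y) = 5 := by rw [Nat.card_zpowers, h.hy]
  have hcardF : (Fintype.card (zpowers y) : ℂ) = 5 := by rw [← Nat.card_eq_fintype_card, hcard]; norm_num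
  obtain ⟨n0, n1, h1, h2⟩ := fix_inv (p := 5) χ.2.isCharacter (P := zpowers y) (N := centralizer ({y} : Set G)) hcard
    (by
      intro n hn k hk
      obtain ⟨i, rfl⟩ := mem_zpowers_iff.1 hk
      rw [mem_centralizer_singleton_iff] at hn
      have : n * y ^ i = y ^ i * n := (show Commute n y from hn).zpow_right i
      rw [this, mul_inv_cancel_right]; exact hk) h.memC h.s2
  have hWk : ∀ k : ℕ, (k : ZMod 5) ≠ 0 → (χ : G → ℂ) (y ^ k * s) = (χ : G → ℂ) (y * s) := by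
    intro k hk
    obtain ⟨g, hg⟩ := isConj_iff.1 (h.conj_ys hk)
    rw [← hg, χ.2.isCharacter.isClassFunction]
  have h3 : ∑ k : zpowers y, (χ : G → ℂ) (k : G) = deg χ + 4 * V := by
    rw [sum_off_one (fun k : zpowers y => (χ : G → ℂ) (k : G)) V (fun k hk => by
      obtain ⟨j, hj, hj'⟩ := h.pow_of_mem k.2 (fun e => hk (Subtype.ext e))
      rw [hj']; exact hV2 j hj), hcardF, Subgroup.coe_one, apply_one]
    ring
  have h4 : ∑ k : zpowers y, (χ : G → ℂ) ((k : G) * s) = σ + 4 * (χ : G → ℂ) (y * s) := by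
    rw [sum_off_one (fun k : zpowers y => (χ : G → ℂ) ((k : G) * s)) ((χ : G → ℂ) (y * s)) (fun k hk => by
      obtain ⟨j, hj, hj'⟩ := h.pow_of_mem k.2 (fun e => hk (Subtype.ext e))
      rw [hj']; exact hWk j hj), hcardF, Subgroup.coe_one, one_mul, hσ1]
    ring
  rw [h1] at h3
  rw [h2] at h4
  push_cast at h3 h4
  have hint : ∀ g : G, IsIntegral ℤ ((χ : G → ℂ) g) := by
    intro g
    obtain ⟨n, ρ, hρ⟩ := χ.2.isCharacter
    rw [← hρ]; exact CharValues.isIntegral_character ρ g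
  obtain ⟨W, hW⟩ := CharCentral.exists_int_of_isIntegral_rat (hint (y * s)) ((5 * ((n0 : ℚ) - n1) - σ) / 4) (by
    push_cast
    linear_combination (-1 / 4) * h4)
  rw [hW] at h4
  have hpl := plusChar χ.2.isCharacter h.s2
  have hint2 : IsIntegral ℤ (((V : ℂ) + W) / 2) := by
    obtain ⟨n, ρ, hρ⟩ := hpl
    have e1 := CharValues.isIntegral_character ρ ⟨y, mem_centralizer_singleton_iff.2 h.hsy.symm⟩
    rw [hρ] at e1
    have e2 : (χ : G → ℂ) (s * y) = W := by rw [h.hsy.eq, hW]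
    simp only [hV1, e2] at e1
    exact e1
  obtain ⟨r, hr⟩ := CharCentral.exists_int_of_isIntegral_rat hint2 (((V : ℚ) + W) / 2) (by push_cast; ring)
  refine ⟨V, W, σ, n0, n1, ⟨hV1, hW, hσ1, hV2, fun k hk => (hWk k hk).trans hW, ?_, ?_, ?_, hσ2, hσ5 hs1⟩⟩
  · have : ((5 * (n0 + n1) : ℤ) : ℂ) = (((deg χ : ℤ) + 4 * V : ℤ) : ℂ) := by push_cast; exact h3
    exact_mod_cast this.symm
  · have : ((5 * (n0 - n1) : ℤ) : ℂ) = ((σ + 4 * W : ℤ) : ℂ) := by push_cast; exact h4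
    exact_mod_cast this.symm
  · have : ((V + W : ℤ) : ℂ) = ((2 * r : ℤ) : ℂ) := by push_cast; linear_combination 2 * hr
    have : V + W = 2 * r := by exact_mod_cast this
    omega

open scoped Classical in
/-- all values at once, with the principal 5-block `X` -/
structure Full (y s : G) (V W σ : IrrCharacter G → ℤ) (N0 N1 : IrrCharacter G → ℕ) (X : Finset (IrrCharacter G)) : Prop where
  ys : YS y s
  val : ∀ χ, Val y s χ (V χ) (W χ) (σ χ) (N0 χ) (N1 χ)
  cardX : X.card = 5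
  tX : triv G ∈ X
  inX : ∀ χ ∈ X, W χ = V χ ∧ (V χ = 1 ∨ V χ = -1)
  offX : ∀ χ, χ ∉ X → W χ = - V χ
  sumoff : ∑ χ ∈ Xᶜ, V χ ^ 2 = 5

theorem YS.not_conj (h : YS y s) : ¬ IsConj y (y * s) := by
  intro e
  have := M11ByOrder.isConj_order e
  rw [h.hy, h.oys] at this
  norm_num at this

theorem YS.yinv (h : YS y s) : y⁻¹ = y ^ 4 := by
  rw [inv_eq_iff_mul_eq_one, ← pow_succ']
  exact h.y5

theorem YS.ysinv (h : YS y s) : (y * s)⁻¹ = y ^ 4 * s := by
  rw [mul_inv_rev, h.yinv]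
  have h1 : s⁻¹ = s := by rw [inv_eq_iff_mul_eq_one, ← sq, h.s2]
  rw [h1]
  exact h.hsy.pow_right 4

theorem YS.exists_full (h : YS y s) (hG : Nat.card G = 95040) (P : Sylow 5 G) (hP : (P : Subgroup G) = zpowers y) :
    ∃ V W σ N0 N1 X, Full y s V W σ N0 N1 X := by
  classical
  have hna := notComm hG
  choose V W σ N0 N1 hv using h.vals hna
  have hP5 : Nat.card (P : Subgroup G) = 5 := by rw [hP, Nat.card_zpowers, h.hy]
  have hC : Nat.card (centralizer ((P : Subgroup G) : Set G)) = 10 := by rw [hP, ← centralizer_zpowers, h.Cy]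
  have hN : Nat.card (normalizer ((P : Subgroup G) : Set G)) = 40 := by rw [hP, h.Ny]
  have he : (centralizer ((P : Subgroup G) : Set G)).relIndex (normalizer ((P : Subgroup G) : Set G)) + 1 = 5 := by
    have h4 := (index_mul P hP5).1
    have h5 := card_normalizer_mul_nsyl P
    rw [hN, hG] at h5
    rw [hC, hG] at h4
    have h6 : Nat.card (Sylow 5 G) = 2376 := by omega
    rw [h6] at h4
    omega
  obtain ⟨B⟩ := exists_pb1 P hP5 he
  have hyC : y ∈ centralizer ((P : Subgroup G) : Set G) := by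
    rw [hP, ← centralizer_zpowers]; exact mem_centralizer_singleton_iff.2 (Commute.refl y)
  have hsC : s ∈ centralizer ((P : Subgroup G) : Set G) := by
    rw [hP, ← centralizer_zpowers]; exact h.memC
  have hin : ∀ χ ∈ B.X, W χ = V χ ∧ (V χ = 1 ∨ V χ = -1) := by
    intro χ hχ
    have e1 := B.valX χ hχ y hyC (by rw [h.hy])
    have e2 := B.valX χ hχ (y * s) (mul_mem hyC hsC) (by rw [h.oys]; norm_num)
    rw [(hv χ).V1] at e1
    rw [(hv χ).W1] at e2
    have e3 : V χ = B.δ χ := by exact_mod_cast e1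
    have e4 : W χ = B.δ χ := by exact_mod_cast e2
    exact ⟨by rw [e3, e4], by rw [e3]; exact B.δ_pm χ hχ⟩
  have hsumV : ∑ χ : IrrCharacter G, V χ * V χ = 10 := by
    have e1 := col_orth_self y
    rw [h.yinv] at e1
    simp only [(hv _).V1, (hv _).Vk 4 (by decide), h.Cy] at e1
    exact_mod_cast e1
  have hsumW : ∑ χ : IrrCharacter G, W χ * W χ = 10 := by
    have e1 := col_orth_self (y * s)
    rw [h.ysinv, h.Cys] at e1
    simp only [(hv _).W1, (hv _).Wk 4 (by decide), h.Cy] at e1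
    exact_mod_cast e1
  have hsumVW : ∑ χ : IrrCharacter G, V χ * W χ = 0 := by
    have e1 := col_orth_ne h.not_conj
    rw [h.ysinv] at e1
    simp only [(hv _).V1, (hv _).Wk 4 (by decide)] at e1
    exact_mod_cast e1
  have hp : ∑ χ : IrrCharacter G, (V χ + W χ) ^ 2 = 20 := by
    have : ∀ χ : IrrCharacter G, (V χ + W χ) ^ 2 = V χ * V χ + W χ * W χ + 2 * (V χ * W χ) := fun χ => by ring
    rw [Finset.sum_congr rfl (fun χ _ => this χ), Finset.sum_add_distrib, Finset.sum_add_distrib, ← Finset.mul_sum, hsumV, hsumW, hsumVW]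
    norm_num
  have hpX : ∑ χ ∈ B.X, (V χ + W χ) ^ 2 = 20 := by
    have : ∀ χ ∈ B.X, (V χ + W χ) ^ 2 = 4 := by
      intro χ hχ
      obtain ⟨e1, e2 | e2⟩ := hin χ hχ <;> rw [e1, e2] <;> norm_num
    rw [Finset.sum_congr rfl this, Finset.sum_const, B.cardX]; norm_num
  have hoff : ∀ χ, χ ∉ B.X → W χ = - V χ := by
    intro χ hχ
    have h1 : ∑ χ' ∈ insert χ B.X, (V χ' + W χ') ^ 2 ≤ ∑ χ', (V χ' + W χ') ^ 2 :=
      Finset.sum_le_sum_of_subset_of_nonneg (Finset.subset_univ _) (fun χ _ _ => sq_nonneg _)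
    rw [Finset.sum_insert hχ, hpX, hp] at h1
    have h2 : (V χ + W χ) ^ 2 = 0 := le_antisymm (by linarith) (sq_nonneg _)
    have h3 := pow_eq_zero_iff (two_ne_zero) |>.1 h2
    linarith
  refine ⟨V, W, σ, N0, N1, B.X, ⟨h, hv, B.cardX, B.tX, hin, hoff, ?_⟩⟩
  have h1 := Finset.sum_add_sum_compl B.X (fun χ => V χ * V χ)
  have h2 : ∑ χ ∈ B.X, V χ * V χ = 5 := by
    have : ∀ χ ∈ B.X, V χ * V χ = 1 := by
      intro χ hχ
      obtain ⟨e1, e2 | e2⟩ := hin χ hχ <;> rw [e2] <;> norm_num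
    rw [Finset.sum_congr rfl this, Finset.sum_const, B.cardX]; norm_num
  rw [h2, hsumV] at h1
  have h3 : ∑ χ ∈ B.Xᶜ, V χ ^ 2 = ∑ χ ∈ B.Xᶜ, V χ * V χ := Finset.sum_congr rfl fun χ _ => by ring
  have h4 : ∑ χ ∈ B.Xᶜ, V χ * V χ = 5 := by linarith
  rw [← h4]
  convert h3

variable {V W σ : IrrCharacter G → ℤ} {N0 N1 : IrrCharacter G → ℕ} {X : Finset (IrrCharacter G)}

open scoped Classical in
/-- orthogonality to the two 5-blocks -/
theorem Full.orth (F : Full y s V W σ N0 N1 X) {g : G} (h1 : ¬ IsConj y g) (h2 : ¬ IsConj (y * s) g) :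
    ∑ χ ∈ X, (V χ : ℂ) * (χ : G → ℂ) g⁻¹ = 0 ∧ ∑ χ ∈ Xᶜ, (V χ : ℂ) * (χ : G → ℂ) g⁻¹ = 0 := by
  have e1 := col_orth_ne h1
  have e2 := col_orth_ne h2
  simp only [(F.val _).V1] at e1
  simp only [(F.val _).W1] at e2
  rw [← Finset.sum_add_sum_compl X] at e1 e2
  have e3 : ∑ χ ∈ X, (W χ : ℂ) * (χ : G → ℂ) g⁻¹ = ∑ χ ∈ X, (V χ : ℂ) * (χ : G → ℂ) g⁻¹ :=
    Finset.sum_congr rfl fun χ hχ => by rw [(F.inX χ hχ).1]
  have e4 : ∑ χ ∈ Xᶜ, (W χ : ℂ) * (χ : G → ℂ) g⁻¹ = - ∑ χ ∈ Xᶜ, (V χ : ℂ) * (χ : G → ℂ) g⁻¹ := by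
    rw [← Finset.sum_neg_distrib]
    exact Finset.sum_congr rfl fun χ hχ => by rw [F.offX χ (Finset.mem_compl.1 hχ)]; push_cast; ring
  rw [e3, e4] at e2
  exact ⟨by linear_combination (1 / 2) * e1 + (1 / 2) * e2, by linear_combination (1 / 2) * e1 - (1 / 2) * e2⟩

theorem Full.wv_mem (F : Full y s V W σ N0 N1 X) (χ : IrrCharacter G) : W χ ∈ wv (V χ) := by
  classical
  by_cases h : χ ∈ X
  · obtain ⟨h1, h2 | h2⟩ := F.inX χ h <;> rw [h1, h2] <;> decide
  · rw [F.offX χ h]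
    have h1 : V χ ^ 2 ≤ 5 := by
      rw [← F.sumoff]
      exact Finset.single_le_sum (f := fun χ => V χ ^ 2) (fun χ _ => sq_nonneg _) (Finset.mem_compl.2 h)
    have h2 : -2 ≤ V χ := by nlinarith
    have h3 : V χ ≤ 2 := by nlinarith
    generalize V χ = v at h2 h3
    have h4 : v = -2 ∨ v = -1 ∨ v = 0 ∨ v = 1 ∨ v = 2 := by omega
    rcases h4 with h4 | h4 | h4 | h4 | h4 <;> rw [h4] <;> decide

theorem YS.card_s (h : YS y s) (hG : Nat.card G = 95040) (P : Sylow 5 G) (hP : (P : Subgroup G) = zpowers y) :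
    Nat.card (centralizer ({s} : Set G)) ∈ [40, 240, 1440, 8640] := by
  set M := centralizer ({s} : Set G) with hM
  set N := normalizer ((P : Subgroup G) : Set G) with hN
  have hNM : N ≤ M := by
    intro g hg
    rw [hM, mem_centralizer_singleton_iff]
    have h1 := h.fix_s (g := g) (by
      rw [← hP]
      exact (mem_normalizer_iff.1 hg y).1 (by rw [hP]; exact mem_zpowers y))
    calc g * s = (g * s * g⁻¹) * g := by group
      _ = s * g := by rw [h1]
  have hPM : (P : Subgroup G) ≤ M := le_normalizer.trans hNM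
  have hNc : Nat.card N = 40 := by rw [hN, hP, h.Ny]
  obtain ⟨n, hn1, hn2⟩ : ∃ n : ℕ, n % 5 = 1 ∧ Nat.card M = 40 * n := by
    refine ⟨Nat.card (Sylow 5 M), nsyl_mod 5 M, ?_⟩
    have h1 := card_normalizer_mul_nsyl (P.subtype hPM)
    rw [← h1]
    congr 1
    have h2 : ((P.subtype hPM : Sylow 5 M) : Subgroup M) = (P : Subgroup G).subgroupOf M := rfl
    have h3 : normalizer (((P.subtype hPM : Sylow 5 M) : Subgroup M) : Set M) = N.subgroupOf M := by
      rw [h2]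
      exact (Subgroup.subgroupOf_normalizer_eq hPM).symm
    rw [h3, Nat.card_congr (subgroupOfEquivOfLe hNM).toEquiv, hNc]
  have h11 : ¬ 11 ∣ Nat.card M := by
    intro h3
    obtain ⟨z, hz⟩ := exists_prime_orderOf_dvd_card' (G := M) 11 h3
    have hz' : orderOf (z : G) = 11 := by rw [Subgroup.orderOf_coe, hz]
    have h4 := (elt11 hG _ hz').1
    have h5 : s ∈ centralizer ({(z : G)} : Set G) := by
      rw [mem_centralizer_singleton_iff]; exact (mem_centralizer_singleton_iff.1 z.2).symm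
    have h6 := orderOf_dvd_natCard (⟨s, h5⟩ : centralizer ({(z : G)} : Set G))
    rw [h4, Subgroup.orderOf_mk, h.hs] at h6
    norm_num at h6
  have h3 : Nat.card M ∣ 11 * 8640 := by
    rw [show 11 * 8640 = 95040 by norm_num, ← hG]; exact card_subgroup_dvd_card _
  have h4 : Nat.card M ∣ 8640 :=
    Nat.Coprime.dvd_of_dvd_mul_left ((Nat.Prime.coprime_iff_not_dvd (by norm_num)).2 h11).symm h3
  rw [hn2] at h4 ⊢
  have h5 : n ∣ 216 := Nat.dvd_of_mul_dvd_mul_left (by norm_num : 0 < 40) (by simpa using h4)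
  have h6 : ∀ d ∈ Nat.divisors 216, d % 5 = 1 → 40 * d ∈ [40, 240, 1440, 8640] := by decide +kernel
  exact h6 n (Nat.mem_divisors.2 ⟨h5, by norm_num⟩) hn1

end Cfsg.Agent.Lib.M12ByOrder
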