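import Mathlib
import Cfsg.Agent.Lib.M12H

/-!
# Simple groups of order 95040, part I: the degrees of the principal 11-block (helper7)
-/

set_option autoImplicit false
set_option linter.all false

namespace Cfsg.Agent.Lib.M12ByOrder

open Subgroup Cfsg Cfsg.Agent.Lib.CharBasic Cfsg.Agent.Lib.ColTools Cfsg.Agent.Lib.SmallSimple
  Cfsg.Agent.Lib.PBlock
open scoped ComplexConjugate

universe u

variable {G : Type u} [Group G] [Finite G] [IsSimpleGroup G]

/-- everything known about the elements `x`, `y`, `s` of orders 11, 5, 2 -/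
structure Tot (x y s : G) (A : Fin 4 → IrrCharacter G) (m : Fin 4 → ℤ) (Y : IrrCharacter G) (a : ℤ)
    (V W σ : IrrCharacter G → ℤ) (N0 N1 : IrrCharacter G → ℕ) (X : Finset (IrrCharacter G)) : Prop where
  hx : orderOf x = 11
  hyN : y ∈ normalizer (zpowers x : Set G)
  b : Blk x A m Y a
  F : Full y s V W σ N0 N1 X
  c : cnd A m Y a = ((1, 45), (-1, 54), (-1, 120), (1, 144), (-1, 16))
  Cs : Nat.card (centralizer ({s} : Set G)) = 240
  V0 : V (A 0) = 0
  V1 : V (A 1) = -1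
  V2 : V (A 2) = 0
  V3 : V (A 3) = -1
  VY : V Y = 1
  W0 : W (A 0) = 0
  W1 : W (A 1) = 1
  W2 : W (A 2) = 0
  W3 : W (A 3) = -1
  WY : W Y = -1
  σ0 : σ (A 0) = 5
  σ1 : σ (A 1) = 6
  σ2 : σ (A 2) = 0
  σ3 : σ (A 3) = 4
  σY : σ Y = 4

theorem exists_tot (hG : Nat.card G = 95040) : ∃ (x y s : G) (A : Fin 4 → IrrCharacter G) (m : Fin 4 → ℤ) (Y : IrrCharacter G) (a : ℤ)
    (V W σ : IrrCharacter G → ℤ) (N0 N1 : IrrCharacter G → ℕ) (X : Finset (IrrCharacter G)), Tot x y s A m Y a V W σ N0 N1 X := by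
  have hna := notComm hG
  obtain ⟨x, hx⟩ := exists_prime_orderOf_dvd_card' (G := G) 11 (by rw [hG]; norm_num)
  obtain ⟨A, m, Y, a, b⟩ := exists_blk hG x hx
  obtain ⟨y, hy, hyN⟩ := exists_y hG hx
  obtain ⟨hCy, hNy, hconj, P, hP⟩ := card_y hG hx b hy hyN
  obtain ⟨⟨s, hsC⟩, hs⟩ := exists_prime_orderOf_dvd_card' (G := centralizer ({y} : Set G)) 2 (by rw [hCy]; norm_num)
  have hso : orderOf s = 2 := by rw [Subgroup.orderOf_mk] at hs; exact hs
  have ys : YS y s := ⟨hy, hso, mem_centralizer_singleton_iff.1 hsC, hCy, hNy, hconj⟩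
  obtain ⟨V, W, σ, N0, N1, X, F⟩ := ys.exists_full hG P hP
  have hCs := ys.card_s hG P hP
  -- values at `y`
  obtain ⟨v, hv, hvm, hvY, hvYm, -, -⟩ := b.y_data hG hx hy hyN hconj
  have hVA : ∀ i, V (A i) = v i := fun i => by
    have := (F.val (A i)).V1
    rw [hv] at this
    exact_mod_cast this.symm
  have hVY : V Y = yy (cnd A m Y a) (v 0) (v 1) (v 2) (v 3) := by
    have := (F.val Y).V1
    rw [hvY] at this
    exact_mod_cast this.symm
  have hnorm := b.norm_le hG hv hvY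
  rw [hCy] at hnorm
  -- values at `y s`
  have hys11 : orderOf (y * s) ≠ 11 := by rw [ys.oys]; norm_num
  obtain ⟨n1, n2⟩ := M11ByOrder.not_isConj_of_order hx hys11
  have hrel := b.rel _ n1 n2
  have ha2 : a * a = 1 := by rcases b.a_pm with h | h <;> rw [h] <;> norm_num
  have hWY : W Y = yy (cnd A m Y a) (W (A 0)) (W (A 1)) (W (A 2)) (W (A 3)) := by
    have h1 : 1 + (m 0 * W (A 0) + m 1 * W (A 1) + m 2 * W (A 2) + m 3 * W (A 3)) + a * W Y = 0 := by
      simp only [(F.val _).W1, Fin.sum_univ_four] at hrel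
      exact_mod_cast hrel
    simp only [yy, cnd]
    linear_combination a * h1 - W Y * ha2
  -- values at `s`
  obtain ⟨u, hu, hum, huY, huYm, huE, ⟨k1, huL⟩, -⟩ := b.inv_data hG hx hso
  have hσA : ∀ i, σ (A i) = u i := fun i => by
    have := (F.val (A i)).S1
    rw [hu] at this
    exact_mod_cast this.symm
  have hσY : σ Y = yy (cnd A m Y a) (u 0) (u 1) (u 2) (u 3) := by
    have := (F.val Y).S1
    rw [huY] at this
    exact_mod_cast this.symm
  have hnormS := b.norm_le hG hu huY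
  have hsv : ∀ χ : IrrCharacter G, ∀ t, σ χ = t → t ∈ inv (deg χ) → t ∈ sv (deg χ) (W χ) := by
    intro χ t ht hti
    rw [sv, List.mem_filter]
    refine ⟨hti, decide_eq_true ?_⟩
    have := (F.val χ).S
    rw [ht] at this
    omega
  have h10 : (cnd A m Y a).1.2 ≠ 10 := by
    intro h
    have hd : deg (A 0) = 10 := h
    have h1 := (F.val (A 0)).D
    have h2 := (F.val (A 0)).S
    have h3 := (F.val (A 0)).par4
    have h4 := (F.val (A 0)).lt (b.At 0)
    have h5 := b.memT hG 0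
    rw [hd] at h1 h3 h4 h5
    have h6 := hvm 0
    rw [hd, ← hVA 0] at h6
    have h7 : m 0 = -1 := by
      rcases b.m_pm 0 with h | h
      · rw [h] at h5; exact absurd h5 (by decide)
      · exact h
    rw [h7] at h6
    have h8 : yv (rA (-1, 10)) = [0] := by decide +kernel
    rw [h8, List.mem_singleton] at h6
    have h9 := F.wv_mem (A 0)
    rw [h6] at h9
    have h10 : wv 0 = [0] := by decide
    rw [h10, List.mem_singleton] at h9
    rw [h9] at h2
    push_cast at h1 h3 h4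
    omega
  have h1 := ar54c (cnd A m Y a) (b.cand hG hx) (v 0) (hvm 0) (v 1) (hvm 1) (v 2) (hvm 2) (v 3) (hvm 3) hvYm
    (by push_cast at hnorm; linarith) h10
  have h2 := ar54d (cnd A m Y a, v 0, v 1, v 2, v 3) h1 (W (A 0)) (by rw [← hVA 0]; exact F.wv_mem _) (W (A 1)) (by rw [← hVA 1]; exact F.wv_mem _)
    (W (A 2)) (by rw [← hVA 2]; exact F.wv_mem _) (W (A 3)) (by rw [← hVA 3]; exact F.wv_mem _)
    (by rw [← hWY, ← hVY]; exact F.wv_mem _) (u 0) (hsv _ _ (hσA 0) (hum 0)) (u 1) (hsv _ _ (hσA 1) (hum 1)) (u 2) (hsv _ _ (hσA 2) (hum 2))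
    (u 3) (hsv _ _ (hσA 3) (hum 3)) (by rw [← hWY]; exact hsv _ _ hσY huYm) huE (by rw [← huL]; positivity)
    (Nat.card (centralizer ({s} : Set G)) : ℤ) (by
      simp only [List.mem_cons, List.not_mem_nil, or_false] at hCs ⊢
      exact_mod_cast hCs) hnormS (by rw [← huL]; exact Int.emod_eq_zero_of_dvd ⟨k1, by ring⟩)
  obtain ⟨e1, e2, e3, e4⟩ := h2
  simp only at e1
  simp only [Prod.mk.injEq] at e2 e3
  rw [e1] at h1 hvYm hWY hVY hσY
  have h3 : v 0 = 0 ∧ v 1 = -1 ∧ v 2 = 0 ∧ v 3 = -1 := by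
    simp only [List.mem_cons, Prod.mk.injEq, List.not_mem_nil, or_false] at h1
    omega
  obtain ⟨f0, f1, f2, f3⟩ := h3
  obtain ⟨g0, g1, g2, g3⟩ := e2
  obtain ⟨k0, k1, k2, k3⟩ := e3
  refine ⟨x, y, s, A, m, Y, a, V, W, σ, N0, N1, X, ⟨hx, hyN, b, F, e1, by exact_mod_cast e4, ?_, ?_, ?_, ?_, ?_, g0, g1, g2, g3, ?_, ?_, ?_, ?_, ?_, ?_⟩⟩
  · rw [hVA, f0]
  · rw [hVA, f1]
  · rw [hVA, f2]
  · rw [hVA, f3]
  · rw [hVY, f0, f1, f2, f3]; decide
  · rw [hWY, g0, g1, g2, g3]; decide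
  · rw [hσA, k0]
  · rw [hσA, k1]
  · rw [hσA, k2]
  · rw [hσA, k3]
  · rw [hσY, k0, k1, k2, k3]; decide

end Cfsg.Agent.Lib.M12ByOrder
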