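import Mathlib
import Cfsg.Agent.Lib.M12I

/-!
# Simple groups of order 95040, part J: the second 5-block (helper7)
-/

set_option autoImplicit false
set_option linter.all false

namespace Cfsg.Agent.Lib.M12ByOrder

open Subgroup Cfsg Cfsg.Agent.Lib.CharBasic Cfsg.Agent.Lib.ColTools Cfsg.Agent.Lib.SmallSimple
  Cfsg.Agent.Lib.PBlock
open scoped ComplexConjugate

universe u

/-- the character of an eigenspace of an involution -/
theorem signChar {G : Type u} [Group G] {χ : G → ℂ} (hχ : IsCharacter G χ) {s : G} (hs : s ^ 2 = 1) {ε : ℂ} (hε : ε * ε = 1) :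
    IsCharacter (centralizer ({s} : Set G)) (fun n => (χ (n : G) + ε * χ (s * n)) / 2) := by
  obtain ⟨k, ρ, rfl⟩ := hχ
  set P : Module.End ℂ (Fin k → ℂ) := (2 : ℂ)⁻¹ • (1 + ε • (ρ s : Module.End ℂ (Fin k → ℂ))) with hP
  have hss : (ρ s : Module.End ℂ (Fin k → ℂ)) * ρ s = 1 := by rw [← map_mul, ← sq, hs, map_one]
  have h2 : P * P = P := by
    rw [hP, smul_mul_smul_comm, mul_add, add_mul, add_mul, smul_mul_smul_comm, hss, one_mul, mul_one, one_mul, hε, one_smul]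
    have : (1 : Module.End ℂ (Fin k → ℂ)) + ε • ρ s + (ε • ρ s + 1) = (2 : ℂ) • (1 + ε • (ρ s : Module.End ℂ (Fin k → ℂ))) := by
      rw [two_smul]; abel
    rw [this, smul_smul]
    congr 1
    norm_num
  have h3 : ∀ n : centralizer ({s} : Set G), P * (ρ (n : G) : Module.End ℂ (Fin k → ℂ)) = (ρ (n : G) : Module.End ℂ (Fin k → ℂ)) * P := by
    intro n
    have h4 : (ρ s : Module.End ℂ (Fin k → ℂ)) * ρ (n : G) = ρ (n : G) * ρ s := by
      rw [← map_mul, ← map_mul]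
      congr 1
      exact (mem_centralizer_singleton_iff.1 n.2).symm
    rw [hP, smul_mul_assoc, mul_smul_comm, add_mul, mul_add, smul_mul_assoc, mul_smul_comm, h4, one_mul, mul_one]
  have h4 := SymAltSq.isCharacter_of_idempotent (ρ.comp (centralizer ({s} : Set G)).subtype : Representation ℂ _ (Fin k → ℂ)) P h2 h3
  convert h4 using 2 with n
  change _ = LinearMap.trace ℂ _ (P * ρ (n : G))
  rw [hP, smul_mul_assoc, add_mul, one_mul, smul_mul_assoc, map_smul, map_add, map_smul, smul_eq_mul, smul_eq_mul, ← map_mul]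
  change _ = (2 : ℂ)⁻¹ * (LinearMap.trace ℂ _ (ρ (n : G)) + ε * LinearMap.trace ℂ _ (ρ (s * n)))
  rw [mul_comm (2 : ℂ)⁻¹, ← div_eq_mul_inv]
  rfl

/-- the multiplicities of the characters of a four-group -/
theorem four {G : Type u} [Group G] [Finite G] {χ : G → ℂ} (hχ : IsCharacter G χ) {a b : G} (ha : a ^ 2 = 1) (hb : b ^ 2 = 1)
    (hab : Commute a b) : ∃ k1 k2 k3 k4 : ℕ, χ 1 = k1 + k2 + k3 + k4 ∧ χ a = k1 + k2 - k3 - k4 ∧ χ b = k1 - k2 + k3 - k4 ∧
      χ (a * b) = k1 - k2 - k3 + k4 := by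
  have h1 := signChar hχ ha (ε := 1) (by norm_num)
  have h2 := signChar hχ ha (ε := -1) (by norm_num)
  have hbC : b ∈ centralizer ({a} : Set G) := mem_centralizer_singleton_iff.2 hab.symm
  obtain ⟨k1, k2, e1, e2, -⟩ := val_two h1 ⟨b, hbC⟩ (Subtype.ext hb)
  obtain ⟨k3, k4, e3, e4, -⟩ := val_two h2 ⟨b, hbC⟩ (Subtype.ext hb)
  simp only [Subgroup.coe_one, mul_one] at e1 e2 e3 e4
  refine ⟨k1, k2, k3, k4, ?_, ?_, ?_, ?_⟩
  · linear_combination e1 + e3
  · linear_combination e1 - e3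
  · linear_combination e2 + e4
  · linear_combination e2 - e4

variable {G : Type u} [Group G] [Finite G] [IsSimpleGroup G] {x y s : G} {A : Fin 4 → IrrCharacter G} {m : Fin 4 → ℤ}
  {Y : IrrCharacter G} {a : ℤ} {V W σ : IrrCharacter G → ℤ} {N0 N1 : IrrCharacter G → ℕ} {X : Finset (IrrCharacter G)}

theorem Tot.degs (T : Tot x y s A m Y a V W σ N0 N1 X) : deg (A 0) = 45 ∧ deg (A 1) = 54 ∧ deg (A 2) = 120 ∧ deg (A 3) = 144 ∧
    deg Y = 16 ∧ m 0 = 1 ∧ m 1 = -1 ∧ m 2 = -1 ∧ m 3 = 1 ∧ a = -1 := by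
  have h := T.c
  simp only [cnd, Prod.mk.injEq] at h
  tauto

theorem Tot.cc_vals (T : Tot x y s A m Y a V W σ N0 N1 X) : V (cc Y) = 1 ∧ W (cc Y) = -1 ∧ σ (cc Y) = 4 := by
  have h1 := (T.F.val (cc Y)).V1
  have h2 := (T.F.val (cc Y)).W1
  have h3 := (T.F.val (cc Y)).S1
  rw [cc_apply, (T.F.val Y).V1, T.VY, map_intCast] at h1
  rw [cc_apply, (T.F.val Y).W1, T.WY, map_intCast] at h2
  rw [cc_apply, (T.F.val Y).S1, T.σY, map_intCast] at h3
  exact ⟨by exact_mod_cast h1.symm, by exact_mod_cast h2.symm, by exact_mod_cast h3.symm⟩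

theorem Tot.notX (T : Tot x y s A m Y a V W σ N0 N1 X) : A 1 ∉ X ∧ Y ∉ X ∧ cc Y ∉ X ∧ A 3 ∈ X := by
  obtain ⟨c1, c2, c3⟩ := T.cc_vals
  refine ⟨fun h => ?_, fun h => ?_, fun h => ?_, ?_⟩
  · have := (T.F.inX _ h).1
    rw [T.W1, T.V1] at this; norm_num at this
  · have := (T.F.inX _ h).1
    rw [T.WY, T.VY] at this; norm_num at this
  · have := (T.F.inX _ h).1
    rw [c1, c2] at this; norm_num at this
  · by_contra h
    have := T.F.offX _ h
    rw [T.W3, T.V3] at this; norm_num at this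

/-- the two remaining characters of the second 5-block -/
structure Two (T : Tot x y s A m Y a V W σ N0 N1 X) (B1 B2 : IrrCharacter G) : Prop where
  ne : B1 ≠ B2
  b1 : B1 ∉ X ∧ (V B1 = 1 ∨ V B1 = -1)
  b2 : B2 ∉ X ∧ (V B2 = 1 ∨ V B2 = -1)
  n1 : B1 ≠ A 1 ∧ B1 ≠ Y ∧ B1 ≠ cc Y
  n2 : B2 ≠ A 1 ∧ B2 ≠ Y ∧ B2 ≠ cc Y
  rest : ∀ χ, χ ∉ X → χ ≠ A 1 → χ ≠ Y → χ ≠ cc Y → χ ≠ B1 → χ ≠ B2 → V χ = 0

theorem Tot.exists_two (T : Tot x y s A m Y a V W σ N0 N1 X) : ∃ B1 B2, Two T B1 B2 := by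
  classical
  obtain ⟨x1, x2, x3, x4⟩ := T.notX
  obtain ⟨c1, c2, c3⟩ := T.cc_vals
  set L : Finset (IrrCharacter G) := {A 1, Y, cc Y} with hL
  have hLsub : L ⊆ Xᶜ := by
    intro χ hχ
    rw [hL, Finset.mem_insert, Finset.mem_insert, Finset.mem_singleton] at hχ
    rw [Finset.mem_compl]
    rcases hχ with rfl | rfl | rfl <;> assumption
  have hLs : ∑ χ ∈ L, V χ ^ 2 = 3 := by
    rw [hL, Finset.sum_insert, Finset.sum_pair T.b.cYY.symm, T.V1, T.VY, c1]
    · norm_num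
    · rw [Finset.mem_insert, Finset.mem_singleton, not_or]
      exact ⟨T.b.AY 1, T.b.AcY 1⟩
  have h5 : ∑ χ ∈ Xᶜ, V χ ^ 2 = 5 := by
    have := T.F.sumoff
    convert this
  have h2 : ∑ χ ∈ Xᶜ \ L, V χ ^ 2 = 2 := by
    have := Finset.sum_sdiff (f := fun χ => V χ ^ 2) hLsub
    rw [hLs, h5] at this
    linarith
  set S := (Xᶜ \ L).filter (fun χ => V χ ≠ 0) with hS
  have hS2 : ∑ χ ∈ S, V χ ^ 2 = 2 := by
    rw [← h2, hS]
    apply Finset.sum_subset (Finset.filter_subset _ _)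
    intro χ hχ hn
    rw [Finset.mem_filter, not_and, not_not] at hn
    rw [hn hχ]; norm_num
  have hge : ∀ χ ∈ S, 1 ≤ V χ ^ 2 := by
    intro χ hχ
    have h := (Finset.mem_filter.1 hχ).2
    have : 0 < V χ ^ 2 := by positivity
    linarith
  have hcard : (S.card : ℤ) ≤ 2 := by
    rw [← hS2]
    calc (S.card : ℤ) = ∑ χ ∈ S, 1 := by simp
      _ ≤ _ := Finset.sum_le_sum hge
  have hcard' : S.card ≤ 2 := by exact_mod_cast hcard
  have hmem : ∀ χ ∈ S, χ ∉ X ∧ χ ≠ A 1 ∧ χ ≠ Y ∧ χ ≠ cc Y := by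
    intro χ hχ
    have h := (Finset.mem_sdiff.1 (Finset.mem_filter.1 hχ).1)
    rw [Finset.mem_compl, hL, Finset.mem_insert, Finset.mem_insert, Finset.mem_singleton, not_or, not_or] at h
    exact ⟨h.1, h.2.1, h.2.2.1, h.2.2.2⟩
  have h3 : S.card = 2 := by
    interval_cases hc : S.card
    · rw [Finset.card_eq_zero] at hc
      rw [hc] at hS2
      simp at hS2
    · obtain ⟨B, hB⟩ := Finset.card_eq_one.1 hc
      rw [hB, Finset.sum_singleton] at hS2
      exfalso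
      have h1 : -2 ≤ V B := by nlinarith
      have h2 : V B ≤ 2 := by nlinarith
      generalize V B = v at *
      interval_cases v <;> omega
    · rfl
  obtain ⟨B1, B2, hne, hSe⟩ := Finset.card_eq_two.1 h3
  have m1 : B1 ∈ S := by rw [hSe]; simp
  have m2 : B2 ∈ S := by rw [hSe]; simp
  rw [hSe, Finset.sum_pair hne] at hS2
  have g1 := hge B1 m1
  have g2 := hge B2 m2
  refine ⟨B1, B2, ⟨hne, ⟨(hmem B1 m1).1, sq_eq_one_iff.1 (by linarith)⟩, ⟨(hmem B2 m2).1, sq_eq_one_iff.1 (by linarith)⟩,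
    (hmem B1 m1).2, (hmem B2 m2).2, ?_⟩⟩
  intro χ h1 h2 h3 h4 h5 h6
  by_contra h7
  have : χ ∈ S := by
    rw [hS, Finset.mem_filter, Finset.mem_sdiff, Finset.mem_compl, hL, Finset.mem_insert, Finset.mem_insert, Finset.mem_singleton]
    refine ⟨⟨h1, ?_⟩, h7⟩
    rintro (h | h | h)
    · exact h2 h
    · exact h3 h
    · exact h4 h
  rw [hSe, Finset.mem_insert, Finset.mem_singleton] at this
  rcases this with h | h
  · exact h5 h
  · exact h6 h

open scoped Classical in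
/-- sums over the second 5-block -/
theorem Two.sum {T : Tot x y s A m Y a V W σ N0 N1 X} {B1 B2 : IrrCharacter G} (B : Two T B1 B2) (f : IrrCharacter G → ℂ) :
    ∑ χ ∈ Xᶜ, (V χ : ℂ) * f χ = - f (A 1) + f Y + f (cc Y) + V B1 * f B1 + V B2 * f B2 := by
  obtain ⟨x1, x2, x3, x4⟩ := T.notX
  obtain ⟨c1, c2, c3⟩ := T.cc_vals
  have hnd : [A 1, Y, cc Y, B1, B2].Nodup := by
    simp only [List.nodup_cons, List.mem_cons, List.not_mem_nil, or_false, not_or, List.nodup_nil, and_true,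
      not_false_eq_true]
    exact ⟨⟨T.b.AY 1, T.b.AcY 1, B.n1.1.symm, B.n2.1.symm⟩, ⟨T.b.cYY.symm, B.n1.2.1.symm, B.n2.2.1.symm⟩,
      ⟨B.n1.2.2.symm, B.n2.2.2.symm⟩, B.ne⟩
  have h1 : ∑ χ ∈ [A 1, Y, cc Y, B1, B2].toFinset, (V χ : ℂ) * f χ = ∑ χ ∈ Xᶜ, (V χ : ℂ) * f χ := by
    apply Finset.sum_subset
    · intro χ hχ
      rw [List.mem_toFinset] at hχ
      simp only [List.mem_cons, List.not_mem_nil, or_false] at hχ
      rw [Finset.mem_compl]
      rcases hχ with rfl | rfl | rfl | rfl | rfl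
      · exact x1
      · exact x2
      · exact x3
      · exact B.b1.1
      · exact B.b2.1
    · intro χ hχ hn
      rw [List.mem_toFinset] at hn
      simp only [List.mem_cons, List.not_mem_nil, or_false, not_or] at hn
      rw [B.rest χ (Finset.mem_compl.1 hχ) hn.1 hn.2.1 hn.2.2.1 hn.2.2.2.1 hn.2.2.2.2]
      push_cast; ring
  rw [← h1, List.sum_toFinset _ hnd]
  simp only [List.map_cons, List.map_nil, List.sum_cons, List.sum_nil, T.V1, T.VY, c1]
  push_cast; ring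

end Cfsg.Agent.Lib.M12ByOrder
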