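import Mathlib
import Cfsg.Agent.Lib.M12J

/-!
# Simple groups of order 95040, part K: the degrees of the second 5-block (helper7)
-/

set_option autoImplicit false
set_option linter.all false

namespace Cfsg.Agent.Lib.M12ByOrder

open Subgroup Cfsg Cfsg.Agent.Lib.CharBasic Cfsg.Agent.Lib.ColTools Cfsg.Agent.Lib.SmallSimple
  Cfsg.Agent.Lib.PBlock
open scoped ComplexConjugate

universe u

theorem ar_two : ∀ k1 ∈ Nat.divisors 8640, ∀ k2 ∈ Nat.divisors 8640, k1 ≤ 28 → k2 ≤ 28 →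
    (k1 % 5 = 1 → k2 % 5 = 1 → k1 + k2 = 2 → k1 = 1 ∧ k2 = 1) ∧
    (k1 % 5 = 1 → k2 % 5 = 4 → k1 = k2 + 2 → k1 = 6 ∧ k2 = 4) := by decide +kernel

variable {G : Type u} [Group G] [Finite G] [IsSimpleGroup G] {x y s : G} {A : Fin 4 → IrrCharacter G} {m : Fin 4 → ℤ}
  {Y : IrrCharacter G} {a : ℤ} {V W σ : IrrCharacter G → ℤ} {N0 N1 : IrrCharacter G → ℕ} {X : Finset (IrrCharacter G)}
  {T : Tot x y s A m Y a V W σ N0 N1 X} {B1 B2 : IrrCharacter G}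

theorem Two.symm (B : Two T B1 B2) : Two T B2 B1 :=
  ⟨B.ne.symm, B.b2, B.b1, B.n2, B.n1, fun χ h1 h2 h3 h4 h5 h6 => B.rest χ h1 h2 h3 h4 h6 h5⟩

theorem Two.ne_block (B : Two T B1 B2) : B1 ≠ triv G ∧ (∀ i, B1 ≠ A i) ∧ B1 ≠ Y ∧ B1 ≠ cc Y := by
  refine ⟨fun h => B.b1.1 (h ▸ T.F.tX), fun i => ?_, B.n1.2.1, B.n1.2.2⟩
  obtain ⟨-, -, -, x4⟩ := T.notX
  have hv := B.b1.2
  fin_cases i
  · intro h; rw [h] at hv; change V (A 0) = 1 ∨ V (A 0) = -1 at hv; rw [T.V0] at hv; norm_num at hv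
  · exact B.n1.1
  · intro h; rw [h] at hv; change V (A 2) = 1 ∨ V (A 2) = -1 at hv; rw [T.V2] at hv; norm_num at hv
  · intro h
    exact B.b1.1 (by rw [h]; exact x4)

theorem Two.out (B : Two T B1 B2) : (B1 : G → ℂ) x = 0 ∧ (B1 : G → ℂ) x⁻¹ = 0 ∧ 11 ∣ deg B1 := by
  obtain ⟨h1, h2, h3, h4⟩ := B.ne_block
  exact T.b.out B1 h1 h2 h3 h4

theorem Two.relf (B : Two T B1 B2) {g : G} (h1 : ¬ IsConj y g) (h2 : ¬ IsConj (y * s) g) :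
    - (A 1 : G → ℂ) g⁻¹ + (Y : G → ℂ) g⁻¹ + (cc Y : G → ℂ) g⁻¹ + V B1 * (B1 : G → ℂ) g⁻¹ + V B2 * (B2 : G → ℂ) g⁻¹ = 0 := by
  classical
  have h := (T.F.orth h1 h2).2
  have h3 := B.sum (fun χ => (χ : G → ℂ) g⁻¹)
  rw [← h3]
  convert h

theorem not_conj_of_order {g h : G} (hgh : orderOf g ≠ orderOf h) : ¬ IsConj g h := fun e => hgh (M11ByOrder.isConj_order e)

/-- norm bound for the values at `g` -/
theorem Two.norm (B : Two T B1 B2) {g : G} {v0 v1 v2 v3 vY w1 w2 : ℤ} (h0 : (A 0 : G → ℂ) g = v0) (h1 : (A 1 : G → ℂ) g = v1)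
    (h2 : (A 2 : G → ℂ) g = v2) (h3 : (A 3 : G → ℂ) g = v3) (hY : (Y : G → ℂ) g = vY) (hB1 : (B1 : G → ℂ) g = w1)
    (hB2 : (B2 : G → ℂ) g = w2) :
    1 + v0 ^ 2 + v1 ^ 2 + v2 ^ 2 + v3 ^ 2 + vY ^ 2 + vY ^ 2 + w1 ^ 2 + w2 ^ 2 ≤ Nat.card (centralizer ({g} : Set G)) := by
  classical
  obtain ⟨a1, a2, a3, a4⟩ := B.ne_block
  obtain ⟨b1, b2, b3, b4⟩ := B.symm.ne_block
  have hnd : [triv G, A 0, A 1, A 2, A 3, Y, cc Y, B1, B2].Nodup := by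
    have h := T.b.nodup
    simp only [List.nodup_cons, List.mem_cons, List.not_mem_nil, or_false, not_or, List.nodup_nil, and_true,
      not_false_eq_true] at h ⊢
    have := B.ne
    have ha := a2
    refine ⟨⟨h.1.1, h.1.2.1, h.1.2.2.1, h.1.2.2.2.1, h.1.2.2.2.2.1, h.1.2.2.2.2.2, a1.symm, b1.symm⟩, ?_⟩
    refine ⟨⟨h.2.1.1, h.2.1.2.1, h.2.1.2.2.1, h.2.1.2.2.2.1, h.2.1.2.2.2.2, (a2 0).symm, (b2 0).symm⟩, ?_⟩
    refine ⟨⟨h.2.2.1.1, h.2.2.1.2.1, h.2.2.1.2.2.1, h.2.2.1.2.2.2, (a2 1).symm, (b2 1).symm⟩, ?_⟩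
    refine ⟨⟨h.2.2.2.1.1, h.2.2.2.1.2.1, h.2.2.2.1.2.2, (a2 2).symm, (b2 2).symm⟩, ?_⟩
    refine ⟨⟨h.2.2.2.2.1.1, h.2.2.2.2.1.2, (a2 3).symm, (b2 3).symm⟩, ?_⟩
    exact ⟨⟨h.2.2.2.2.2, a3.symm, b3.symm⟩, ⟨a4.symm, b4.symm⟩, this⟩
  have h4 := col_orth_self g
  have hnn : ∀ χ : IrrCharacter G, ∃ r : ℝ, 0 ≤ r ∧ (χ : G → ℂ) g * (χ : G → ℂ) g⁻¹ = r := by
    intro χ
    refine ⟨Complex.normSq ((χ : G → ℂ) g), Complex.normSq_nonneg _, ?_⟩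
    rw [← conj_apply, Complex.mul_conj]
  choose r hr0 hr1 using hnn
  have h5 : ∑ χ, r χ = Nat.card (centralizer ({g} : Set G)) := by
    simp only [hr1] at h4
    exact_mod_cast h4
  have h6 : ∑ χ ∈ [triv G, A 0, A 1, A 2, A 3, Y, cc Y, B1, B2].toFinset, r χ ≤ ∑ χ, r χ :=
    Finset.sum_le_sum_of_subset_of_nonneg (Finset.subset_univ _) (fun χ _ _ => hr0 χ)
  rw [List.sum_toFinset _ hnd, h5] at h6
  have hval : ∀ (χ : IrrCharacter G) (n : ℤ), (χ : G → ℂ) g = n → r χ = (n : ℝ) ^ 2 := by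
    intro χ n hn
    have h7 := hr1 χ
    rw [← conj_apply, hn, map_intCast] at h7
    have h8 : ((r χ : ℝ) : ℂ) = (((n : ℝ) ^ 2 : ℝ) : ℂ) := by push_cast; rw [← h7]; ring
    exact_mod_cast h8
  simp only [List.map_cons, List.map_nil, List.sum_cons, List.sum_nil, add_zero] at h6
  rw [hval (triv G) 1 (by rw [triv_apply]; norm_num), hval _ _ h0, hval _ _ h1, hval _ _ h2, hval _ _ h3, hval _ _ hY,
    hval (cc Y) vY (by rw [cc_apply, hY, map_intCast]), hval _ _ hB1, hval _ _ hB2] at h6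
  have h9 : ((1 + v0 ^ 2 + v1 ^ 2 + v2 ^ 2 + v3 ^ 2 + vY ^ 2 + vY ^ 2 + w1 ^ 2 + w2 ^ 2 : ℤ) : ℝ) ≤
    ((Nat.card (centralizer ({g} : Set G)) : ℤ) : ℝ) := by
    push_cast
    push_cast at h6
    linarith
  exact_mod_cast h9

theorem ar_σ (d : ℕ) (q w : ℤ) (n0 n1 : ℕ) (hd : (d : ℤ) + 4 * q = 5 * (n0 + n1)) (hS : w + 4 * (-q) = 5 * (n0 - n1))
    (hp : ((d : ℤ) - w) % 4 = 0) (hw : w ^ 2 ≤ 130) (hlt : w < d) :
    (d = 11 → q = 1 → w = -1 ∧ n0 = 1 ∧ n1 = 2) ∧ (d = 66 → q = 1 → w = -6 ∧ n0 = 6 ∧ n1 = 8) ∧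
      (d = 44 → q = -1 → w = -4 ∧ n0 = 4 ∧ n1 = 4) := by
  have h1 : -11 ≤ w := by nlinarith
  have h2 : w ≤ 11 := by nlinarith
  refine ⟨fun h3 h4 => ?_, fun h3 h4 => ?_, fun h3 h4 => ?_⟩
  · subst h3; subst h4; omega
  · subst h3; subst h4; omega
  · subst h3; subst h4; omega

/-- the possible degrees -/
theorem Two.degs (hG : Nat.card G = 95040) (B : Two T B1 B2) :
    (deg B1 = 11 ∧ deg B2 = 11 ∧ V B1 = 1 ∧ V B2 = 1) ∨ (deg B1 = 66 ∧ deg B2 = 44 ∧ V B1 = 1 ∧ V B2 = -1) ∨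
      (deg B1 = 44 ∧ deg B2 = 66 ∧ V B1 = -1 ∧ V B2 = 1) := by
  have hr := B.relf (g := 1) (not_conj_of_order (by rw [T.F.ys.hy, orderOf_one]; norm_num))
    (not_conj_of_order (by rw [T.F.ys.oys, orderOf_one]; norm_num))
  rw [inv_one] at hr
  simp only [apply_one, deg_cc] at hr
  obtain ⟨d0, d1, d2, d3, dY, -⟩ := T.degs
  rw [d1, dY] at hr
  have hr' : V B1 * (deg B1 : ℤ) + V B2 * (deg B2 : ℤ) = 22 := by
    have : ((V B1 * (deg B1 : ℤ) + V B2 * (deg B2 : ℤ) : ℤ) : ℂ) = ((22 : ℤ) : ℂ) := by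
      push_cast
      push_cast at hr
      linear_combination hr
    exact_mod_cast this
  have key : ∀ {C1 C2 : IrrCharacter G}, Two T C1 C2 → ∃ k ∈ Nat.divisors 8640, deg C1 = 11 * k ∧ k ≤ 28 ∧
      (V C1 = 1 → k % 5 = 1) ∧ (V C1 = -1 → k % 5 = 4) := by
    intro C1 C2 C
    obtain ⟨k, hk⟩ := C.out.2.2
    have h1 := deg_dvd C1
    rw [hG, hk, show 95040 = 11 * 8640 by norm_num] at h1
    have h2 := Nat.dvd_of_mul_dvd_mul_left (by norm_num) h1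
    have h3 := deg_le hG C1
    have h4 := (T.F.val C1).D
    refine ⟨k, Nat.mem_divisors.2 ⟨h2, by norm_num⟩, hk, by omega, fun h => ?_, fun h => ?_⟩
    · rw [h, hk] at h4; push_cast at h4; omega
    · rw [h, hk] at h4; push_cast at h4; omega
  obtain ⟨k1, hk1, e1, l1, c1, c1'⟩ := key B
  obtain ⟨k2, hk2, e2, l2, c2, c2'⟩ := key B.symm
  have h12 := ar_two k1 hk1 k2 hk2 l1 l2
  have h21 := ar_two k2 hk2 k1 hk1 l2 l1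
  rw [e1, e2] at hr'
  push_cast at hr'
  rcases B.b1.2 with h1 | h1 <;> rcases B.b2.2 with h2 | h2
  · rw [h1, h2] at hr'
    obtain ⟨h3, h4⟩ := h12.1 (c1 h1) (c2 h2) (by omega)
    left
    rw [e1, e2, h3, h4]
    exact ⟨rfl, rfl, h1, h2⟩
  · rw [h1, h2] at hr'
    obtain ⟨h3, h4⟩ := h12.2 (c1 h1) (c2' h2) (by omega)
    right; left
    rw [e1, e2, h3, h4]
    exact ⟨rfl, rfl, h1, h2⟩
  · rw [h1, h2] at hr'
    obtain ⟨h3, h4⟩ := h21.2 (c2 h2) (c1' h1) (by omega)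
    right; right
    rw [e1, e2, h3, h4]
    exact ⟨rfl, rfl, h1, h2⟩
  · rw [h1, h2] at hr'
    omega

/-- the two possibilities for the second 5-block, including the values at `s` -/
def Good2 (V σ : IrrCharacter G → ℤ) (N0 N1 : IrrCharacter G → ℕ) (B1 B2 : IrrCharacter G) : Prop :=
  (deg B1 = 11 ∧ deg B2 = 11 ∧ V B1 = 1 ∧ V B2 = 1 ∧ σ B1 = -1 ∧ σ B2 = -1 ∧ N0 B1 = 1 ∧ N1 B1 = 2 ∧ N0 B2 = 1 ∧ N1 B2 = 2) ∨
  (deg B1 = 66 ∧ deg B2 = 44 ∧ V B1 = 1 ∧ V B2 = -1 ∧ σ B1 = -6 ∧ σ B2 = -4 ∧ N0 B1 = 6 ∧ N1 B1 = 8 ∧ N0 B2 = 4 ∧ N1 B2 = 4)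

theorem Two.σ_bound (B : Two T B1 B2) : σ B1 ^ 2 ≤ 130 ∧ σ B2 ^ 2 ≤ 130 := by
  have h := B.norm (g := s) (T.F.val _).S1 (T.F.val _).S1 (T.F.val _).S1 (T.F.val _).S1 (T.F.val _).S1 (T.F.val _).S1 (T.F.val _).S1
  rw [T.Cs, T.σ0, T.σ1, T.σ2, T.σ3, T.σY] at h
  push_cast at h
  constructor
  · nlinarith [sq_nonneg (σ B2)]
  · nlinarith [sq_nonneg (σ B1)]

theorem Two.good2 (hG : Nat.card G = 95040) (B : Two T B1 B2) : Good2 V σ N0 N1 B1 B2 ∨ Good2 V σ N0 N1 B2 B1 := by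
  obtain ⟨s1, s2⟩ := B.σ_bound
  have v1 := T.F.val B1
  have v2 := T.F.val B2
  have w1 := T.F.offX B1 B.b1.1
  have w2 := T.F.offX B2 B.b2.1
  have e1 := v1.S
  have e2 := v2.S
  rw [w1] at e1
  rw [w2] at e2
  have a1 := ar_σ _ _ _ _ _ v1.D e1 v1.par4 s1 (v1.lt B.ne_block.1).2
  have a2 := ar_σ _ _ _ _ _ v2.D e2 v2.par4 s2 (v2.lt B.symm.ne_block.1).2
  rcases B.degs hG with ⟨h1, h2, h3, h4⟩ | ⟨h1, h2, h3, h4⟩ | ⟨h1, h2, h3, h4⟩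
  · left; left
    obtain ⟨f1, f2, f3⟩ := a1.1 h1 h3
    obtain ⟨g1, g2, g3⟩ := a2.1 h2 h4
    exact ⟨h1, h2, h3, h4, f1, g1, f2, f3, g2, g3⟩
  · left; right
    obtain ⟨f1, f2, f3⟩ := a1.2.1 h1 h3
    obtain ⟨g1, g2, g3⟩ := a2.2.2 h2 h4
    exact ⟨h1, h2, h3, h4, f1, g1, f2, f3, g2, g3⟩
  · right; right
    obtain ⟨f1, f2, f3⟩ := a1.2.2 h1 h3
    obtain ⟨g1, g2, g3⟩ := a2.2.1 h2 h4
    exact ⟨h2, h1, h4, h3, g1, f1, g2, g3, f2, f3⟩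

theorem exists_good2 (hG : Nat.card G = 95040) (T : Tot x y s A m Y a V W σ N0 N1 X) :
    ∃ B1 B2, Two T B1 B2 ∧ Good2 V σ N0 N1 B1 B2 := by
  obtain ⟨B1, B2, B⟩ := T.exists_two
  rcases B.good2 hG with h | h
  · exact ⟨B1, B2, B, h⟩
  · exact ⟨B2, B1, B.symm, h⟩

end Cfsg.Agent.Lib.M12ByOrder
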