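import Mathlib
import Cfsg.Agent.Lib.M12K

/-!
# Simple groups of order 95040, part L: the second class of involutions (helper7)
-/

set_option autoImplicit false
set_option linter.all false

namespace Cfsg.Agent.Lib.M12ByOrder

open Subgroup Cfsg Cfsg.Agent.Lib.CharBasic Cfsg.Agent.Lib.ColTools Cfsg.Agent.Lib.SmallSimple
  Cfsg.Agent.Lib.PBlock
open scoped ComplexConjugate

universe u

theorem zpowers_inv {G : Type*} [Group G] {y r : G} (hr : r * y * r⁻¹ = y⁻¹) {h : G} (hh : h ∈ zpowers y) :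
    r * h * r⁻¹ = h⁻¹ := by
  obtain ⟨n, rfl⟩ := mem_zpowers_iff.1 hh
  rw [← conj_zpow, hr, inv_zpow]

theorem coset_conj {G : Type*} [Group G] {y r : G} (h5 : y ^ 5 = 1) (hr : r * y * r⁻¹ = y⁻¹) {h : G} (hh : h ∈ zpowers y) :
    h * r = h ^ 3 * r * (h ^ 3)⁻¹ := by
  have h1 := zpowers_inv hr (pow_mem hh 3)
  have h2 : r * (h ^ 3)⁻¹ = h ^ 3 * r := by
    have h3 := zpowers_inv hr (inv_mem (pow_mem hh 3))
    rw [inv_inv] at h3
    calc r * (h ^ 3)⁻¹ = (r * (h ^ 3)⁻¹ * r⁻¹) * r := by group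
      _ = h ^ 3 * r := by rw [h3]
  rw [mul_assoc, h2, ← mul_assoc, ← pow_add]
  have h4 : h ^ 5 = 1 := by
    obtain ⟨n, rfl⟩ := mem_zpowers_iff.1 hh
    rw [← zpow_natCast, ← zpow_mul, mul_comm, zpow_mul, zpow_natCast, h5, one_zpow]
  rw [show 3 + 3 = 5 + 1 by norm_num, pow_add, h4, one_mul, pow_one]

theorem coset_isConj {G : Type*} [Group G] {y r : G} (h5 : y ^ 5 = 1) (hr : r * y * r⁻¹ = y⁻¹) {h : G} (hh : h ∈ zpowers y) :
    IsConj r (h * r) := isConj_iff.2 ⟨h ^ 3, (coset_conj h5 hr hh).symm⟩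

variable {G : Type u} [Group G] [Finite G] {y s : G}

/-- `s1` is conjugate to `s` and inverts `y` -/
structure S1 (y s s1 : G) : Prop where
  cj : IsConj s s1
  inv : s1 * y * s1⁻¹ = y⁻¹

theorem S1.mem {s1 : G} (h : S1 y s s1) : s1 * y * s1⁻¹ ∈ zpowers y := by rw [h.inv]; exact inv_mem (mem_zpowers y)

theorem S1.comm {s1 : G} (h : S1 y s s1) (ys : YS y s) : Commute s s1 := by
  have h1 := ys.fix_s h.mem
  have : s1 * s = s * s1 := by
    calc s1 * s = (s1 * s * s1⁻¹) * s1 := by group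
      _ = s * s1 := by rw [h1]
  exact this.symm

theorem S1.sq {s1 : G} (h : S1 y s s1) (ys : YS y s) : s1 ^ 2 = 1 := by
  rw [← ys.hs, M11ByOrder.isConj_order h.cj]
  exact pow_orderOf_eq_one s1

theorem S1.ne {s1 : G} (h : S1 y s s1) (ys : YS y s) : s * s1 ≠ 1 := by
  intro e
  have h1 : s1 = s⁻¹ := (inv_eq_of_mul_eq_one_right e).symm
  have h2 : s⁻¹ = s := by rw [inv_eq_iff_mul_eq_one, ← pow_two, ys.s2]
  have h3 := h.inv
  rw [h1, h2, ys.hsy.eq, mul_assoc, mul_inv_cancel, mul_one] at h3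
  have h4 : y ^ 2 = 1 := by
    rw [pow_two]
    nth_rewrite 1 [h3]
    exact inv_mul_cancel y
  have h5 := orderOf_dvd_of_pow_eq_one h4
  rw [ys.hy] at h5
  norm_num at h5

theorem S1.tinv {s1 : G} (h : S1 y s s1) (ys : YS y s) : (s * s1) * y * (s * s1)⁻¹ = y⁻¹ := by
  calc (s * s1) * y * (s * s1)⁻¹ = s * (s1 * y * s1⁻¹) * s⁻¹ := by group
    _ = s * y⁻¹ * s⁻¹ := by rw [h.inv]
    _ = y⁻¹ := by
      have : s * y⁻¹ = y⁻¹ * s := (ys.hsy.inv_right).eq
      rw [this, mul_inv_cancel_right]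

theorem S1.tsq {s1 : G} (h : S1 y s s1) (ys : YS y s) : (s * s1) ^ 2 = 1 := by
  rw [(h.comm ys).mul_pow, ys.s2, h.sq ys, one_mul]

theorem S1.ot {s1 : G} (h : S1 y s s1) (ys : YS y s) : orderOf (s * s1) = 2 :=
  orderOf_eq_prime (h.tsq ys) (h.ne ys)

variable [IsSimpleGroup G]

/-- possible values at `s s1` -/
theorem S1.vals {s1 : G} (h : S1 y s s1) (ys : YS y s) {χ : IrrCharacter G} {V W σ : ℤ} {n0 n1 : ℕ} (v : Val y s χ V W σ n0 n1) {τ : ℤ}
    (hτ : (χ : G → ℂ) (s * s1) = τ) : ∃ k1 k2 k3 k4 : ℕ, n0 = k1 + k2 ∧ n1 = k3 + k4 ∧ σ = (k1 - k2 : ℤ) + (k3 - k4) ∧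
      τ = (k1 - k2 : ℤ) - (k3 - k4) := by
  classical
  letI : Fintype (zpowers y) := Fintype.ofFinite _
  have hcard : Nat.card (zpowers y) = 5 := by rw [Nat.card_zpowers, ys.hy]
  have hcardF : (Fintype.card (zpowers y) : ℂ) = 5 := by rw [← Nat.card_eq_fintype_card, hcard]; norm_num
  have hN : ∀ n ∈ normalizer (zpowers y : Set G), ∀ k ∈ zpowers y, n * k * n⁻¹ ∈ zpowers y := by
    intro n hn k hk
    exact (mem_normalizer_iff.1 hn k).1 hk
  have hmem : ∀ r : G, r * y * r⁻¹ ∈ zpowers y → r ∈ normalizer (zpowers y : Set G) := by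
    intro r hr
    have hsub : ∀ k ∈ zpowers y, r * k * r⁻¹ ∈ zpowers y := by
      intro k hk
      obtain ⟨n, rfl⟩ := mem_zpowers_iff.1 hk
      rw [← conj_zpow]
      exact zpow_mem hr n
    have h1 : (zpowers y).map (MulAut.conj r).toMonoidHom = zpowers y := by
      apply eq_of_le_of_card_ge
      · rintro k ⟨l, hl, rfl⟩
        exact hsub l hl
      · rw [Nat.card_congr (Subgroup.equivMapOfInjective _ _ (MulAut.conj r).injective).toEquiv.symm]
    rw [mem_normalizer_iff]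
    intro k
    constructor
    · exact hsub k
    · intro hk
      have hk' : r * k * r⁻¹ ∈ (zpowers y).map (MulAut.conj r).toMonoidHom := by rw [h1]; exact hk
      obtain ⟨l, hl, hlk⟩ := hk'
      have : l = k := (MulAut.conj r).injective hlk
      rwa [← this]
  have hs : s ∈ normalizer (zpowers y : Set G) := by
    apply hmem
    rw [ys.hsy.eq, mul_inv_cancel_right]
    exact mem_zpowers y
  have hs1 : s1 ∈ normalizer (zpowers y : Set G) := hmem _ h.mem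
  have hφ := fixChar χ.2.isCharacter (zpowers y) (normalizer (zpowers y : Set G)) hN
  obtain ⟨k1, k2, k3, k4, e1, e2, e3, e4⟩ := four hφ (a := ⟨s, hs⟩) (b := ⟨s1, hs1⟩) (Subtype.ext ys.s2) (Subtype.ext (h.sq ys))
    (Subtype.ext (h.comm ys).eq)
  simp only [Subgroup.coe_one, mul_one, hcard, Subgroup.coe_mul] at e1 e2 e3 e4
  have f1 : ∑ k : zpowers y, (χ : G → ℂ) (k : G) = 5 * (n0 + n1) := by
    rw [sum_off_one (fun k : zpowers y => (χ : G → ℂ) (k : G)) V (fun k hk => by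
      obtain ⟨j, hj, hj'⟩ := ys.pow_of_mem k.2 (fun e => hk (Subtype.ext e))
      rw [hj']; exact v.Vk j hj), hcardF, Subgroup.coe_one, apply_one]
    have h1 : (((deg χ : ℤ) + 4 * V : ℤ) : ℂ) = ((5 * (n0 + n1) : ℤ) : ℂ) := by rw [v.D]
    push_cast at h1
    linear_combination h1
  have f2 : ∑ k : zpowers y, (χ : G → ℂ) ((k : G) * s) = 5 * (n0 - n1) := by
    rw [sum_off_one (fun k : zpowers y => (χ : G → ℂ) ((k : G) * s)) W (fun k hk => by
      obtain ⟨j, hj, hj'⟩ := ys.pow_of_mem k.2 (fun e => hk (Subtype.ext e))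
      rw [hj']; exact v.Wk j hj), hcardF, Subgroup.coe_one, one_mul, v.S1]
    have h1 : ((σ + 4 * W : ℤ) : ℂ) = ((5 * (n0 - n1) : ℤ) : ℂ) := by rw [v.S]
    push_cast at h1
    linear_combination h1
  have hconst : ∀ r : G, r * y * r⁻¹ = y⁻¹ → ∑ k : zpowers y, (χ : G → ℂ) ((k : G) * r) = 5 * (χ : G → ℂ) r := by
    intro r hr
    have : ∀ k : zpowers y, (χ : G → ℂ) ((k : G) * r) = (χ : G → ℂ) r := by
      intro k
      rw [coset_conj ys.y5 hr k.2, χ.2.isCharacter.isClassFunction]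
    rw [Finset.sum_congr rfl (fun k _ => this k), Finset.sum_const, Finset.card_univ, nsmul_eq_mul, hcardF]
  have f3 := hconst s1 h.inv
  have f4 := hconst (s * s1) (h.tinv ys)
  have hs1σ : (χ : G → ℂ) s1 = σ := by
    obtain ⟨g, hg⟩ := isConj_iff.1 h.cj
    rw [← hg, χ.2.isCharacter.isClassFunction, v.S1]
  rw [f1] at e1
  rw [f2] at e2
  rw [f3, hs1σ] at e3
  rw [f4, hτ] at e4
  have g1 : (n0 : ℤ) + n1 = k1 + k2 + k3 + k4 := by
    have : (((n0 : ℤ) + n1 : ℤ) : ℂ) = ((k1 + k2 + k3 + k4 : ℤ) : ℂ) := by push_cast; push_cast at e1; linear_combination e1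
    exact_mod_cast this
  have g2 : (n0 : ℤ) - n1 = k1 + k2 - k3 - k4 := by
    have : (((n0 : ℤ) - n1 : ℤ) : ℂ) = ((k1 + k2 - k3 - k4 : ℤ) : ℂ) := by push_cast; push_cast at e2; linear_combination e2
    exact_mod_cast this
  have g3 : σ = k1 - k2 + k3 - k4 := by
    have : (σ : ℂ) = ((k1 - k2 + k3 - k4 : ℤ) : ℂ) := by push_cast; push_cast at e3; linear_combination e3
    exact_mod_cast this
  have g4 : τ = k1 - k2 - k3 + k4 := by
    have : (τ : ℂ) = ((k1 - k2 - k3 + k4 : ℤ) : ℂ) := by push_cast; push_cast at e4; linear_combination e4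
    exact_mod_cast this
  exact ⟨k1, k2, k3, k4, by omega, by omega, by omega, by omega⟩

variable {x : G} {A : Fin 4 → IrrCharacter G} {m : Fin 4 → ℤ}
  {Y : IrrCharacter G} {a : ℤ} {V W σ : IrrCharacter G → ℤ} {N0 N1 : IrrCharacter G → ℕ} {X : Finset (IrrCharacter G)}
  {T : Tot x y s A m Y a V W σ N0 N1 X} {B1 B2 : IrrCharacter G}

/-- the difference of the numbers of factorizations of `y` and `y s` -/
theorem Two.diff (hG : Nat.card G = 95040) (B : Two T B1 B2) {g : G} {v1 vY w1 w2 : ℤ} (h1 : (A 1 : G → ℂ) g = v1)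
    (hY : (Y : G → ℂ) g = vY) (hB1 : (B1 : G → ℂ) g = w1) (hB2 : (B2 : G → ℂ) g = w2) :
    ((Nat.card {q : G × G // IsConj g q.1 ∧ IsConj g q.2 ∧ q.1 * q.2 = y} : ℂ) -
      (Nat.card {q : G × G // IsConj g q.1 ∧ IsConj g q.2 ∧ q.1 * q.2 = y * s} : ℂ)) *
      (Nat.card (centralizer ({g} : Set G)) * Nat.card (centralizer ({g} : Set G))) =
      190080 * (- (v1 ^ 2 / 54 : ℂ) + vY ^ 2 / 8 + V B1 * w1 ^ 2 / deg B1 + V B2 * w2 ^ 2 / deg B2) := by
  classical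
  obtain ⟨d0, d1, d2, d3, dY, -⟩ := T.degs
  have e1 := struct_const g g y
  have e2 := struct_const g g (y * s)
  have hd : ∑ χ : IrrCharacter G, (χ : G → ℂ) g * (χ : G → ℂ) g * (χ : G → ℂ) y⁻¹ / (χ : G → ℂ) 1 -
      ∑ χ : IrrCharacter G, (χ : G → ℂ) g * (χ : G → ℂ) g * (χ : G → ℂ) (y * s)⁻¹ / (χ : G → ℂ) 1 =
      2 * ∑ χ ∈ Xᶜ, (V χ : ℂ) * ((χ : G → ℂ) g * (χ : G → ℂ) g / (χ : G → ℂ) 1) := by
    rw [← Finset.sum_sub_distrib, ← Finset.sum_add_sum_compl X, Finset.mul_sum]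
    have h0 : ∑ χ ∈ X, ((χ : G → ℂ) g * (χ : G → ℂ) g * (χ : G → ℂ) y⁻¹ / (χ : G → ℂ) 1 -
        (χ : G → ℂ) g * (χ : G → ℂ) g * (χ : G → ℂ) (y * s)⁻¹ / (χ : G → ℂ) 1) = 0 := by
      apply Finset.sum_eq_zero
      intro χ hχ
      rw [T.F.ys.yinv, T.F.ys.ysinv, (T.F.val χ).Vk 4 (by decide), (T.F.val χ).Wk 4 (by decide), (T.F.inX χ hχ).1, sub_self]
    rw [h0, zero_add]
    apply Finset.sum_congr rfl
    intro χ hχ
    rw [T.F.ys.yinv, T.F.ys.ysinv, (T.F.val χ).Vk 4 (by decide), (T.F.val χ).Wk 4 (by decide), T.F.offX χ (Finset.mem_compl.1 hχ)]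
    push_cast; ring
  rw [B.sum] at hd
  have hcY : (cc Y : G → ℂ) g = vY := by rw [cc_apply, hY, map_intCast]
  simp only [h1, hY, hcY, hB1, hB2, apply_one, deg_cc, d1, dY] at hd
  simp only [apply_one] at e1 e2
  rw [sub_mul, e1, e2, ← mul_sub, hd, hG]
  push_cast
  ring

/-- there are involutions conjugate to `s` with product `y` -/
theorem Two.exists_s1 (hG : Nat.card G = 95040) (B : Two T B1 B2) (hB : Good2 V σ N0 N1 B1 B2) : ∃ s1, S1 y s s1 := by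
  classical
  have h := B.diff hG (g := s) (T.F.val _).S1 (T.F.val _).S1 (T.F.val _).S1 (T.F.val _).S1
  rw [T.σ1, T.σY, T.Cs] at h
  have h5 : ((Nat.card {q : G × G // IsConj s q.1 ∧ IsConj s q.2 ∧ q.1 * q.2 = y} : ℂ) -
      (Nat.card {q : G × G // IsConj s q.1 ∧ IsConj s q.2 ∧ q.1 * q.2 = y * s} : ℂ)) = 5 := by
    rcases hB with ⟨d1, d2, q1, q2, w1, w2, -⟩ | ⟨d1, d2, q1, q2, w1, w2, -⟩
    · rw [d1, d2, q1, q2, w1, w2] at h
      push_cast at h
      linear_combination (1 / 57600) * h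
    · rw [d1, d2, q1, q2, w1, w2] at h
      push_cast at h
      linear_combination (1 / 57600) * h
  have h6 : (Nat.card {q : G × G // IsConj s q.1 ∧ IsConj s q.2 ∧ q.1 * q.2 = y}) =
    5 + (Nat.card {q : G × G // IsConj s q.1 ∧ IsConj s q.2 ∧ q.1 * q.2 = y * s}) := by
    have : ((Nat.card {q : G × G // IsConj s q.1 ∧ IsConj s q.2 ∧ q.1 * q.2 = y} : ℕ) : ℂ) =
      ((5 + Nat.card {q : G × G // IsConj s q.1 ∧ IsConj s q.2 ∧ q.1 * q.2 = y * s} : ℕ) : ℂ) := by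
      push_cast; linear_combination h5
    exact_mod_cast this
  have h7 : 0 < Nat.card {q : G × G // IsConj s q.1 ∧ IsConj s q.2 ∧ q.1 * q.2 = y} := by omega
  obtain ⟨⟨⟨⟨p, q⟩, hp, hq, hpq⟩⟩, -⟩ := Nat.card_pos_iff.1 h7
  simp only at hp hq hpq
  have hp2 : p ^ 2 = 1 := by
    rw [← T.F.ys.hs, M11ByOrder.isConj_order hp]; exact pow_orderOf_eq_one p
  have hq2 : q ^ 2 = 1 := by
    rw [← T.F.ys.hs, M11ByOrder.isConj_order hq]; exact pow_orderOf_eq_one q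
  refine ⟨p, hp, ?_⟩
  have hpi : p⁻¹ = p := by rw [inv_eq_iff_mul_eq_one, ← pow_two, hp2]
  have hqi : q⁻¹ = q := by rw [inv_eq_iff_mul_eq_one, ← pow_two, hq2]
  rw [← hpq, mul_inv_rev, hqi, hpi, ← mul_assoc, ← pow_two, hp2, one_mul]

end Cfsg.Agent.Lib.M12ByOrder
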