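import Mathlib
import Cfsg.Agent.Lib.M12L

/-!
# Simple groups of order 95040, part M: two characters of degree 11 (helper7)
-/

set_option autoImplicit false
set_option linter.all false

namespace Cfsg.Agent.Lib.M12ByOrder

open Subgroup Cfsg Cfsg.Agent.Lib.CharBasic Cfsg.Agent.Lib.ColTools Cfsg.Agent.Lib.SmallSimple
  Cfsg.Agent.Lib.PBlock
open scoped ComplexConjugate

universe u

/-- multiples of four of absolute value at most 24 -/
def r24 : List ℤ := [-24, -20, -16, -12, -8, -4, 0, 4, 8, 12, 16, 20, 24]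

theorem ar_t : ∀ v0 ∈ [(-3 : ℤ), 1, 5], ∀ v1 ∈ [(-2 : ℤ), 2, 6], ∀ v2 ∈ r24, ∀ v3 ∈ r24,
    yy ((1, 45), (-1, 54), (-1, 120), (1, 144), (-1, 16)) v0 v1 v2 v3 = 0 →
    E4 ((1, 45), (-1, 54), (-1, 120), (1, 144), (-1, 16)) 5 6 0 4 4 v0 v1 v2 v3 0 = 0 →
    E4 ((1, 45), (-1, 54), (-1, 120), (1, 144), (-1, 16)) v0 v1 v2 v3 0 v0 v1 v2 v3 0 = 0 →
    v0 = -3 ∧ v1 = 6 ∧ v2 = -8 ∧ v3 = 0 := by
  decide +kernel

theorem ar_k0 (k1 k2 k3 k4 : ℕ) (τ : ℤ) (h1 : 5 = k1 + k2) (h2 : 4 = k3 + k4) (h3 : (5 : ℤ) = (k1 - k2 : ℤ) + (k3 - k4))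
    (h4 : τ = (k1 - k2 : ℤ) - (k3 - k4)) : τ ∈ [(-3 : ℤ), 1, 5] := by
  simp only [List.mem_cons, List.not_mem_nil, or_false]
  omega

theorem ar_k1 (k1 k2 k3 k4 : ℕ) (τ : ℤ) (h1 : 6 = k1 + k2) (h2 : 4 = k3 + k4) (h3 : (6 : ℤ) = (k1 - k2 : ℤ) + (k3 - k4))
    (h4 : τ = (k1 - k2 : ℤ) - (k3 - k4)) : τ ∈ [(-2 : ℤ), 2, 6] := by
  simp only [List.mem_cons, List.not_mem_nil, or_false]
  omega

theorem ar_k2 (k1 k2 k3 k4 : ℕ) (τ : ℤ) (h1 : 12 = k1 + k2) (h2 : 12 = k3 + k4) (h3 : (0 : ℤ) = (k1 - k2 : ℤ) + (k3 - k4))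
    (h4 : τ = (k1 - k2 : ℤ) - (k3 - k4)) : τ ∈ r24 := by
  simp only [r24, List.mem_cons, List.not_mem_nil, or_false]
  omega

theorem ar_k3 (k1 k2 k3 k4 : ℕ) (τ : ℤ) (h1 : 14 = k1 + k2) (h2 : 14 = k3 + k4) (h3 : (4 : ℤ) = (k1 - k2 : ℤ) + (k3 - k4))
    (h4 : τ = (k1 - k2 : ℤ) - (k3 - k4)) : τ ∈ r24 := by
  simp only [r24, List.mem_cons, List.not_mem_nil, or_false]
  omega

theorem ar_kY (k1 k2 k3 k4 : ℕ) (τ : ℤ) (h1 : 2 = k1 + k2) (h2 : 2 = k3 + k4) (h3 : (4 : ℤ) = (k1 - k2 : ℤ) + (k3 - k4))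
    (h4 : τ = (k1 - k2 : ℤ) - (k3 - k4)) : τ = 0 := by omega

variable {G : Type u} [Group G] [Finite G] [IsSimpleGroup G] {x y s : G} {A : Fin 4 → IrrCharacter G} {m : Fin 4 → ℤ}
  {Y : IrrCharacter G} {a : ℤ} {V W σ : IrrCharacter G → ℤ} {N0 N1 : IrrCharacter G → ℕ} {X : Finset (IrrCharacter G)}
  {T : Tot x y s A m Y a V W σ N0 N1 X} {B1 B2 : IrrCharacter G} {s1 : G}

/-- the values of the principal 11-block at `t = s s1` -/
theorem Tot.t_vals (hG : Nat.card G = 95040) (T : Tot x y s A m Y a V W σ N0 N1 X) (h : S1 y s s1) :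
    (A 0 : G → ℂ) (s * s1) = -3 ∧ (A 1 : G → ℂ) (s * s1) = 6 ∧ (A 2 : G → ℂ) (s * s1) = -8 ∧ (A 3 : G → ℂ) (s * s1) = 0 ∧
      (Y : G → ℂ) (s * s1) = 0 := by
  have ys := T.F.ys
  obtain ⟨d0, d1, d2, d3, dY, -⟩ := T.degs
  obtain ⟨v, hv, hvi, hvY, hvYi, hE, -, -⟩ := T.b.inv_data hG T.hx (h.ot ys)
  have hE2 : E4 (cnd A m Y a) (σ (A 0)) (σ (A 1)) (σ (A 2)) (σ (A 3)) (σ Y) (v 0) (v 1) (v 2) (v 3)
      (yy (cnd A m Y a) (v 0) (v 1) (v 2) (v 3)) = 0 := by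
    obtain ⟨n, hn, hn0⟩ := T.b.E hG T.hx (g := s) (h := s * s1) (by rw [ys.hs]; norm_num)
      (fun e => by have := ys.hs; rw [e, orderOf_one] at this; norm_num at this) (by rw [h.ot ys]; norm_num)
      (v := fun i => σ (A i)) (fun i => (T.F.val _).S1) hv (T.F.val _).S1 hvY
    have h0 : n = 0 := by
      apply hn0
      intro p q hp hq
      exact M11ByOrder.not_prod (elt11 hG x T.hx).2.2.2 ys.s2 (h.tsq ys) p q hp hq
    rw [h0, Fin.sum_univ_four] at hn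
    push_cast at hn
    beta_reduce at hn
    clear hE hvYi
    clear hvY
    generalize yy (cnd A m Y a) (v 0) (v 1) (v 2) (v 3) = r at hn ⊢
    simp only [E4, cnd]
    linarith only [hn]
  have key : ∀ χ : IrrCharacter G, ∀ τ : ℤ, (χ : G → ℂ) (s * s1) = τ → ∃ k1 k2 k3 k4 : ℕ, N0 χ = k1 + k2 ∧ N1 χ = k3 + k4 ∧
      σ χ = (k1 - k2 : ℤ) + (k3 - k4) ∧ τ = (k1 - k2 : ℤ) - (k3 - k4) := fun χ τ hτ => h.vals ys (T.F.val χ) hτ
  have n0 : N0 (A 0) = 5 ∧ N1 (A 0) = 4 := by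
    have e1 := (T.F.val (A 0)).D
    have e2 := (T.F.val (A 0)).S
    rw [d0, T.V0] at e1
    rw [T.σ0, T.W0] at e2
    push_cast at e1
    omega
  have n1 : N0 (A 1) = 6 ∧ N1 (A 1) = 4 := by
    have e1 := (T.F.val (A 1)).D
    have e2 := (T.F.val (A 1)).S
    rw [d1, T.V1] at e1
    rw [T.σ1, T.W1] at e2
    push_cast at e1
    omega
  have n2 : N0 (A 2) = 12 ∧ N1 (A 2) = 12 := by
    have e1 := (T.F.val (A 2)).D
    have e2 := (T.F.val (A 2)).S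
    rw [d2, T.V2] at e1
    rw [T.σ2, T.W2] at e2
    push_cast at e1
    omega
  have n3 : N0 (A 3) = 14 ∧ N1 (A 3) = 14 := by
    have e1 := (T.F.val (A 3)).D
    have e2 := (T.F.val (A 3)).S
    rw [d3, T.V3] at e1
    rw [T.σ3, T.W3] at e2
    push_cast at e1
    omega
  have nY : N0 Y = 2 ∧ N1 Y = 2 := by
    have e1 := (T.F.val Y).D
    have e2 := (T.F.val Y).S
    rw [dY, T.VY] at e1
    rw [T.σY, T.WY] at e2
    push_cast at e1
    omega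
  have m0 : v 0 ∈ [(-3 : ℤ), 1, 5] := by
    obtain ⟨k1, k2, k3, k4, f1, f2, f3, f4⟩ := key (A 0) _ (hv 0)
    rw [n0.1] at f1; rw [n0.2] at f2; rw [T.σ0] at f3
    exact ar_k0 _ _ _ _ _ f1 f2 f3 f4
  have m1 : v 1 ∈ [(-2 : ℤ), 2, 6] := by
    obtain ⟨k1, k2, k3, k4, f1, f2, f3, f4⟩ := key (A 1) _ (hv 1)
    rw [n1.1] at f1; rw [n1.2] at f2; rw [T.σ1] at f3
    exact ar_k1 _ _ _ _ _ f1 f2 f3 f4
  have m2 : v 2 ∈ r24 := by
    obtain ⟨k1, k2, k3, k4, f1, f2, f3, f4⟩ := key (A 2) _ (hv 2)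
    rw [n2.1] at f1; rw [n2.2] at f2; rw [T.σ2] at f3
    exact ar_k2 _ _ _ _ _ f1 f2 f3 f4
  have m3 : v 3 ∈ r24 := by
    obtain ⟨k1, k2, k3, k4, f1, f2, f3, f4⟩ := key (A 3) _ (hv 3)
    rw [n3.1] at f1; rw [n3.2] at f2; rw [T.σ3] at f3
    exact ar_k3 _ _ _ _ _ f1 f2 f3 f4
  have mY : yy (cnd A m Y a) (v 0) (v 1) (v 2) (v 3) = 0 := by
    obtain ⟨k1, k2, k3, k4, f1, f2, f3, f4⟩ := key Y _ hvY
    rw [nY.1] at f1; rw [nY.2] at f2; rw [T.σY] at f3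
    exact ar_kY _ _ _ _ _ f1 f2 f3 f4
  rw [mY] at hE hE2 hvY
  rw [T.σ0, T.σ1, T.σ2, T.σ3, T.σY] at hE2
  rw [T.c] at hE hE2 mY
  obtain ⟨f0, f1, f2, f3⟩ := ar_t _ m0 _ m1 _ m2 _ m3 mY hE2 hE
  refine ⟨?_, ?_, ?_, ?_, ?_⟩
  · rw [hv, f0]; norm_num
  · rw [hv, f1]; norm_num
  · rw [hv, f2]; norm_num
  · rw [hv, f3]; norm_num
  · rw [hvY]; norm_num

theorem Tot.t_not_conj (hG : Nat.card G = 95040) (T : Tot x y s A m Y a V W σ N0 N1 X) (h : S1 y s s1) : ¬ IsConj (s * s1) s := by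
  intro e
  obtain ⟨g, hg⟩ := isConj_iff.1 e
  have h1 := (T.t_vals hG h).2.2.2.2
  have h2 := (T.F.val Y).S1
  rw [← hg, Y.2.isCharacter.isClassFunction, h1, T.σY] at h2
  norm_num at h2

omit [IsSimpleGroup G] in
/-- the elements inverting `y` -/
theorem S1.inv_cases (h : S1 y s s1) (ys : YS y s) {p : G} (hp : p * y * p⁻¹ = y⁻¹) :
    (∃ k ∈ zpowers y, p = k * (s * s1)) ∨ (∃ k ∈ zpowers y, p = k * s1) := by
  have ht2 := h.tsq ys
  have hti : (s * s1)⁻¹ = s * s1 := by rw [inv_eq_iff_mul_eq_one, ← pow_two, ht2]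
  have h1 : p * (s * s1) ∈ centralizer ({y} : Set G) := by
    rw [mem_centralizer_singleton_iff]
    have e1 := h.tinv ys
    have e2 : (s * s1) * y = y⁻¹ * (s * s1) := by rw [← e1]; group
    have e3 : p * y⁻¹ = y * p := by
      have : p * y⁻¹ * p⁻¹ = y := by
        have h2 : (p * y * p⁻¹)⁻¹ = y := by rw [hp, inv_inv]
        calc p * y⁻¹ * p⁻¹ = (p * y * p⁻¹)⁻¹ := by group
          _ = y := h2
      calc p * y⁻¹ = (p * y⁻¹ * p⁻¹) * p := by group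
        _ = y * p := by rw [this]
    rw [mul_assoc, e2, ← mul_assoc, e3, mul_assoc]
  rw [ys.Cy_eq] at h1
  obtain ⟨i, hi⟩ := (Submonoid.mem_powers_iff _ _).1 (mem_powers_iff_mem_zpowers.2 h1)
  rw [ys.hsy.symm.mul_pow] at hi
  have h2 : p = y ^ i * s ^ i * (s * s1) := by
    rw [hi, mul_assoc, ← pow_two, ht2, mul_one]
  rcases Nat.even_or_odd' i with ⟨j, hj | hj⟩
  · left
    refine ⟨y ^ i, pow_mem (mem_zpowers y) i, ?_⟩
    have : s ^ i = 1 := by rw [hj, pow_mul, ys.s2, one_pow]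
    rw [h2, this, mul_one]
  · right
    refine ⟨y ^ i, pow_mem (mem_zpowers y) i, ?_⟩
    have : s ^ i = s := by rw [hj, pow_add, pow_mul, ys.s2, one_pow, one_mul, pow_one]
    rw [h2, this]
    calc y ^ i * s * (s * s1) = y ^ i * (s ^ 2) * s1 := by rw [pow_two]; group
      _ = y ^ i * s1 := by rw [ys.s2, mul_one]

theorem Tot.count_y (hG : Nat.card G = 95040) (T : Tot x y s A m Y a V W σ N0 N1 X) (h : S1 y s s1) :
    Nat.card {q : G × G // IsConj (s * s1) q.1 ∧ IsConj (s * s1) q.2 ∧ q.1 * q.2 = y} = 5 := by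
  have ys := T.F.ys
  have ht2 := h.tsq ys
  have hti : (s * s1)⁻¹ = s * s1 := by rw [inv_eq_iff_mul_eq_one, ← pow_two, ht2]
  have hz : ∀ k ∈ zpowers y, (s * s1) * k = k⁻¹ * (s * s1) := by
    intro k hk
    have := zpowers_inv (h.tinv ys) hk
    rw [← this]; group
  have hcj : ∀ k ∈ zpowers y, IsConj (s * s1) (k * (s * s1)) := fun k hk => coset_isConj ys.y5 (h.tinv ys) hk
  have h5 : Nat.card (zpowers y) = 5 := by rw [Nat.card_zpowers, ys.hy]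
  rw [← h5]
  symm
  apply Nat.card_congr
  let f : zpowers y → {q : G × G // IsConj (s * s1) q.1 ∧ IsConj (s * s1) q.2 ∧ q.1 * q.2 = y} := fun k =>
    ⟨((k : G) * (s * s1), ((k : G) * (s * s1))⁻¹ * y), hcj _ k.2, by
      show IsConj (s * s1) (((k : G) * (s * s1))⁻¹ * y)
      have e1 : ((k : G) * (s * s1))⁻¹ * y = ((k : G)⁻¹ * y)⁻¹ * (s * s1) := by
        rw [mul_inv_rev, hti, mul_assoc, hz _ (mul_mem (inv_mem k.2) (mem_zpowers y))]
      rw [e1]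
      exact hcj _ (inv_mem (mul_mem (inv_mem k.2) (mem_zpowers y))), by
      show (k : G) * (s * s1) * (((k : G) * (s * s1))⁻¹ * y) = y
      rw [mul_inv_cancel_left]⟩
  apply Equiv.ofBijective f
  constructor
  · intro k l hkl
    have h1 : (k : G) * (s * s1) = l * (s * s1) := congrArg (fun z => z.1.1) hkl
    exact Subtype.ext (mul_right_cancel h1)
  · rintro ⟨⟨p, q⟩, hp, hq, hpq⟩
    simp only at hp hq hpq
    have hp2 : p ^ 2 = 1 := by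
      rw [← h.ot ys, M11ByOrder.isConj_order hp]; exact pow_orderOf_eq_one p
    have hq2 : q ^ 2 = 1 := by
      rw [← h.ot ys, M11ByOrder.isConj_order hq]; exact pow_orderOf_eq_one q
    have hpi : p⁻¹ = p := by rw [inv_eq_iff_mul_eq_one, ← pow_two, hp2]
    have hqi : q⁻¹ = q := by rw [inv_eq_iff_mul_eq_one, ← pow_two, hq2]
    have hinv : p * y * p⁻¹ = y⁻¹ := by
      rw [← hpq, mul_inv_rev, hqi, hpi, ← mul_assoc, ← pow_two, hp2, one_mul]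
    rcases h.inv_cases ys hinv with ⟨k, hk, hk'⟩ | ⟨k, hk, hk'⟩
    · refine ⟨⟨k, hk⟩, Subtype.ext (Prod.ext hk'.symm ?_)⟩
      show (k * (s * s1))⁻¹ * y = q
      rw [← hk', ← hpq, inv_mul_cancel_left]
    · exfalso
      apply T.t_not_conj hG h
      refine hp.trans ?_
      rw [hk']
      exact (coset_isConj ys.y5 h.inv hk).symm.trans h.cj.symm

theorem Tot.count_ys (hG : Nat.card G = 95040) (T : Tot x y s A m Y a V W σ N0 N1 X) (h : S1 y s s1) :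
    Nat.card {q : G × G // IsConj (s * s1) q.1 ∧ IsConj (s * s1) q.2 ∧ q.1 * q.2 = y * s} = 0 := by
  have ys := T.F.ys
  have ht2 := h.tsq ys
  have hti : (s * s1)⁻¹ = s * s1 := by rw [inv_eq_iff_mul_eq_one, ← pow_two, ht2]
  have hz : ∀ k ∈ zpowers y, (s * s1) * k = k⁻¹ * (s * s1) := by
    intro k hk
    have := zpowers_inv (h.tinv ys) hk
    rw [← this]; group
  have hemp : IsEmpty {q : G × G // IsConj (s * s1) q.1 ∧ IsConj (s * s1) q.2 ∧ q.1 * q.2 = y * s} := by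
    refine ⟨?_⟩
    rintro ⟨⟨p, q⟩, hp, hq, hpq⟩
    simp only at hp hq hpq
    have hp2 : p ^ 2 = 1 := by
      rw [← h.ot ys, M11ByOrder.isConj_order hp]; exact pow_orderOf_eq_one p
    have hq2 : q ^ 2 = 1 := by
      rw [← h.ot ys, M11ByOrder.isConj_order hq]; exact pow_orderOf_eq_one q
    have hpi : p⁻¹ = p := by rw [inv_eq_iff_mul_eq_one, ← pow_two, hp2]
    have hqi : q⁻¹ = q := by rw [inv_eq_iff_mul_eq_one, ← pow_two, hq2]
    have hinv : p * (y * s) * p⁻¹ = (y * s)⁻¹ := by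
      rw [← hpq, mul_inv_rev, hqi, hpi, ← mul_assoc, ← pow_two, hp2, one_mul]
    have h6 : (y * s) ^ 6 = y := by
      rw [ys.hsy.symm.mul_pow, show 6 = 5 + 1 by norm_num, pow_add y, ys.y5, one_mul, pow_one, show 5 + 1 = 2 * 3 by norm_num,
        pow_mul, ys.s2, one_pow, mul_one]
    have hinv' : p * y * p⁻¹ = y⁻¹ := by
      have e1 : p * (y * s) ^ 6 * p⁻¹ = ((y * s) ^ 6)⁻¹ := by
        rw [← conj_pow, hinv, inv_pow]
      rw [h6] at e1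
      exact e1
    rcases h.inv_cases ys hinv' with ⟨k, hk, hk'⟩ | ⟨k, hk, hk'⟩
    · have e1 : q = (k⁻¹ * y)⁻¹ * s1 := by
        have e2 : q = p⁻¹ * (y * s) := by rw [← hpq, inv_mul_cancel_left]
        have e4 : s * s1 * s = s1 := by
          rw [(h.comm ys).eq, mul_assoc, ← pow_two, ys.s2, mul_one]
        rw [e2, hk', mul_inv_rev, hti]
        calc s * s1 * k⁻¹ * (y * s) = (s * s1 * (k⁻¹ * y)) * s := by group
          _ = (k⁻¹ * y)⁻¹ * (s * s1) * s := by rw [hz _ (mul_mem (inv_mem hk) (mem_zpowers y))]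
          _ = (k⁻¹ * y)⁻¹ * s1 := by rw [mul_assoc, e4]
      apply T.t_not_conj hG h
      refine hq.trans ?_
      rw [e1]
      exact (coset_isConj ys.y5 h.inv (inv_mem (mul_mem (inv_mem hk) (mem_zpowers y)))).symm.trans h.cj.symm
    · apply T.t_not_conj hG h
      refine hp.trans ?_
      rw [hk']
      exact (coset_isConj ys.y5 h.inv hk).symm.trans h.cj.symm
  exact Nat.card_of_isEmpty

theorem ar_b11 (k1 k2 k3 k4 l1 l2 l3 l4 : ℕ) (τ τ' : ℤ) (h1 : 1 = k1 + k2) (h2 : 2 = k3 + k4) (h3 : (-1 : ℤ) = (k1 - k2 : ℤ) + (k3 - k4))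
    (h4 : τ = (k1 - k2 : ℤ) - (k3 - k4)) (g1 : 1 = l1 + l2) (g2 : 2 = l3 + l4) (g3 : (-1 : ℤ) = (l1 - l2 : ℤ) + (l3 - l4))
    (g4 : τ' = (l1 - l2 : ℤ) - (l3 - l4)) (h : τ + τ' = 6) : τ = 3 ∧ τ' = 3 := by omega

theorem ar_b66 (k1 k2 k3 k4 l1 l2 l3 l4 : ℕ) (τ τ' : ℤ) (h1 : 6 = k1 + k2) (h2 : 8 = k3 + k4) (h3 : (-6 : ℤ) = (k1 - k2 : ℤ) + (k3 - k4))
    (h4 : τ = (k1 - k2 : ℤ) - (k3 - k4)) (g1 : 4 = l1 + l2) (g2 : 4 = l3 + l4) (g3 : (-4 : ℤ) = (l1 - l2 : ℤ) + (l3 - l4))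
    (g4 : τ' = (l1 - l2 : ℤ) - (l3 - l4)) (h : τ - τ' = 6) : (τ = 2 ∧ τ' = -4) ∨ (τ = 6 ∧ τ' = 0) ∨ (τ = 10 ∧ τ' = 4) := by omega

theorem ar_sq192 (C : ℕ) (h : C * C = 192 * 192) : C = 192 := by nlinarith

theorem ar_nsq (C : ℕ) (h : C * C = 18432) : False := by
  rcases Nat.lt_or_ge C 136 with h3 | h3
  · have : C ≤ 135 := by omega
    nlinarith
  · nlinarith

/-- all the data about two characters of degree 11 -/
structure Dat (x y s t : G) (A : Fin 4 → IrrCharacter G) (m : Fin 4 → ℤ) (Y : IrrCharacter G) (a : ℤ)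
    (V W σ : IrrCharacter G → ℤ) (N0 N1 : IrrCharacter G → ℕ) (X : Finset (IrrCharacter G)) (B1 B2 : IrrCharacter G) : Prop where
  T : Tot x y s A m Y a V W σ N0 N1 X
  B : Two T B1 B2
  d1 : deg B1 = 11
  d2 : deg B2 = 11
  V1 : V B1 = 1
  V2 : V B2 = 1
  σ1 : σ B1 = -1
  σ2 : σ B2 = -1
  ot : orderOf t = 2
  Ct : Nat.card (centralizer ({t} : Set G)) = 192
  t0 : (A 0 : G → ℂ) t = -3
  t1 : (A 1 : G → ℂ) t = 6
  t2 : (A 2 : G → ℂ) t = -8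
  t3 : (A 3 : G → ℂ) t = 0
  tY : (Y : G → ℂ) t = 0
  tB1 : (B1 : G → ℂ) t = 3
  tB2 : (B2 : G → ℂ) t = 3

theorem exists_dat (hG : Nat.card G = 95040) (T : Tot x y s A m Y a V W σ N0 N1 X) :
    ∃ t B1 B2, Dat x y s t A m Y a V W σ N0 N1 X B1 B2 := by
  have hna := notComm hG
  obtain ⟨B1, B2, B, hB⟩ := exists_good2 hG T
  obtain ⟨s1, h⟩ := B.exists_s1 hG hB
  have ys := T.F.ys
  obtain ⟨t0, t1, t2, t3, tY⟩ := T.t_vals hG h
  obtain ⟨w1, hw1, -⟩ := val_inv hna B1 (s * s1) (h.tsq ys)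
  obtain ⟨w2, hw2, -⟩ := val_inv hna B2 (s * s1) (h.tsq ys)
  have hd := B.diff hG (g := s * s1) (v1 := 6) (vY := 0) (by rw [t1]; norm_num) (by rw [tY]; norm_num) hw1 hw2
  rw [T.count_y hG h, T.count_ys hG h] at hd
  have hr := B.relf (g := s * s1) (not_conj_of_order (by rw [T.F.ys.hy, h.ot ys]; norm_num))
    (not_conj_of_order (by rw [T.F.ys.oys, h.ot ys]; norm_num))
  have hti : (s * s1)⁻¹ = s * s1 := by rw [inv_eq_iff_mul_eq_one, ← pow_two, h.tsq ys]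
  have hcY : (cc Y : G → ℂ) (s * s1) = 0 := by rw [cc_apply, tY, map_zero]
  rw [hti, t1, tY, hcY, hw1, hw2] at hr
  have hr' : V B1 * w1 + V B2 * w2 = 6 := by
    have : ((V B1 * w1 + V B2 * w2 : ℤ) : ℂ) = ((6 : ℤ) : ℂ) := by push_cast; linear_combination hr
    exact_mod_cast this
  obtain ⟨k1, k2, k3, k4, f1, f2, f3, f4⟩ := h.vals ys (T.F.val B1) hw1
  obtain ⟨l1, l2, l3, l4, g1, g2, g3, g4⟩ := h.vals ys (T.F.val B2) hw2
  rcases hB with ⟨d1, d2, q1, q2, u1, u2, a1, a2, b1, b2⟩ | ⟨d1, d2, q1, q2, u1, u2, a1, a2, b1, b2⟩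
  · rw [a1] at f1; rw [a2] at f2; rw [u1] at f3; rw [b1] at g1; rw [b2] at g2; rw [u2] at g3
    rw [q1, q2] at hr'
    obtain ⟨e1, e2⟩ := ar_b11 _ _ _ _ _ _ _ _ _ _ f1 f2 f3 f4 g1 g2 g3 g4 (by linarith only [hr'])
    rw [d1, d2, q1, q2, e1, e2] at hd
    have hc : Nat.card (centralizer ({s * s1} : Set G)) = 192 := by
      have h1 : (((Nat.card (centralizer ({s * s1} : Set G)) * Nat.card (centralizer ({s * s1} : Set G)) : ℕ)) : ℂ) = ((192 * 192 : ℕ) : ℂ) := by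
        push_cast
        push_cast at hd
        linear_combination (1 / 5) * hd
      have h2 : Nat.card (centralizer ({s * s1} : Set G)) * Nat.card (centralizer ({s * s1} : Set G)) = 192 * 192 := by exact_mod_cast h1
      exact ar_sq192 _ h2
    exact ⟨s * s1, B1, B2, ⟨T, B, d1, d2, q1, q2, u1, u2, h.ot ys, hc, t0, t1, t2, t3, tY, by rw [hw1, e1]; norm_num, by rw [hw2, e2]; norm_num⟩⟩
  · exfalso
    rw [a1] at f1; rw [a2] at f2; rw [u1] at f3; rw [b1] at g1; rw [b2] at g2; rw [u2] at g3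
    rw [q1, q2] at hr'
    set C := Nat.card (centralizer ({s * s1} : Set G)) with hC
    rcases ar_b66 _ _ _ _ _ _ _ _ _ _ f1 f2 f3 f4 g1 g2 g3 g4 (by linarith only [hr']) with ⟨e1, e2⟩ | ⟨e1, e2⟩ | ⟨e1, e2⟩
    · rw [d1, d2, q1, q2, e1, e2] at hd
      have h1 : ((C * C + 36864 : ℕ) : ℂ) = ((0 : ℕ) : ℂ) := by
        push_cast
        push_cast at hd
        linear_combination (1 / 5) * hd
      have h2 : C * C + 36864 = 0 := by exact_mod_cast h1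
      exact Nat.succ_ne_zero _ h2
    · rw [d1, d2, q1, q2, e1, e2] at hd
      have h1 : ((C * C + 4608 : ℕ) : ℂ) = ((0 : ℕ) : ℂ) := by
        push_cast
        push_cast at hd
        linear_combination (1 / 5) * hd
      have h2 : C * C + 4608 = 0 := by exact_mod_cast h1
      exact Nat.succ_ne_zero _ h2
    · rw [d1, d2, q1, q2, e1, e2] at hd
      have h1 : ((C * C : ℕ) : ℂ) = ((18432 : ℕ) : ℂ) := by
        push_cast
        push_cast at hd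
        linear_combination (1 / 5) * hd
      have h2 : C * C = 18432 := by exact_mod_cast h1
      exact ar_nsq _ h2

end Cfsg.Agent.Lib.M12ByOrder
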