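import Mathlib
import Cfsg.Agent.Lib.M12M
import Cfsg.Agent.Lib.SymAltSq

/-!
# Simple groups of order 95040, part N: the symmetric square (helper7)
-/

set_option autoImplicit false
set_option linter.all false

namespace Cfsg.Agent.Lib.M12ByOrder

open Subgroup Cfsg Cfsg.Agent.Lib.CharBasic Cfsg.Agent.Lib.ColTools Cfsg.Agent.Lib.SmallSimple
  Cfsg.Agent.Lib.PBlock
open scoped ComplexConjugate

universe u

section gen

variable {G : Type u} [Group G] [Finite G]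

/-- norm bound for integral values -/
theorem norm_list {L : List (IrrCharacter G)} (hL : L.Nodup) {g : G} {f : IrrCharacter G → ℤ}
    (hf : ∀ χ ∈ L, (χ : G → ℂ) g = f χ) : (L.map (fun χ => f χ ^ 2)).sum ≤ (Nat.card (centralizer ({g} : Set G)) : ℤ) := by
  classical
  have h4 := col_orth_self g
  have hnn : ∀ χ : IrrCharacter G, ∃ r : ℝ, 0 ≤ r ∧ (χ : G → ℂ) g * (χ : G → ℂ) g⁻¹ = r := by
    intro χ
    refine ⟨Complex.normSq ((χ : G → ℂ) g), Complex.normSq_nonneg _, ?_⟩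
    rw [← conj_apply, Complex.mul_conj]
  choose r hr0 hr1 using hnn
  have h5 : ∑ χ, r χ = Nat.card (centralizer ({g} : Set G)) := by
    simp only [hr1] at h4
    exact_mod_cast h4
  have h6 : ∑ χ ∈ L.toFinset, r χ ≤ ∑ χ, r χ :=
    Finset.sum_le_sum_of_subset_of_nonneg (Finset.subset_univ _) (fun χ _ _ => hr0 χ)
  have h7 : ∀ χ ∈ L.toFinset, r χ = ((f χ ^ 2 : ℤ) : ℝ) := by
    intro χ hχ
    have h7 := hr1 χ
    rw [← conj_apply, hf χ (List.mem_toFinset.1 hχ), map_intCast] at h7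
    have h8 : ((r χ : ℝ) : ℂ) = (((f χ : ℝ) ^ 2 : ℝ) : ℂ) := by push_cast; rw [← h7]; ring
    have h9 : r χ = (f χ : ℝ) ^ 2 := by exact_mod_cast h8
    rw [h9]; push_cast; rfl
  rw [Finset.sum_congr rfl h7, h5, ← Int.cast_sum, List.sum_toFinset _ hL] at h6
  exact_mod_cast h6

theorem isCharacter_S2 {χ : G → ℂ} (h : IsCharacter G χ) : IsCharacter G (fun g => (χ g ^ 2 + χ (g * g)) / 2) :=
  SymAltSq.isCharacter_symSq h

/-- if the symmetric square contains the trivial character, the character is real -/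
theorem real_of_S2 [Fintype G] (B : IrrCharacter G) {n : ℕ}
    (h : classInner (fun g => ((B : G → ℂ) g ^ 2 + (B : G → ℂ) (g * g)) / 2) (triv G : G → ℂ) = n) (hn : 1 ≤ n) : cc B = B := by
  classical
  obtain ⟨k, hk⟩ := (SymAltSq.isCharacter_altSq B.2.isCharacter).classInner_nat (triv G).2.isCharacter
  have h1 : classInner (B : G → ℂ) (cc B : G → ℂ) = ((n + k : ℕ) : ℂ) := by
    push_cast
    rw [← h, ← hk, ← classInner_add_left, classInner_def, classInner_def]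
    congr 1
    refine Finset.sum_congr rfl fun g _ => ?_
    rw [cc_apply, Complex.conj_conj, triv_apply, map_one, mul_one, Pi.add_apply]
    ring
  by_contra hne
  rw [irr_orthonormal, if_neg (fun e => hne e.symm)] at h1
  have : n + k = 0 := by exact_mod_cast h1.symm
  omega

/-- multiplicities in the symmetric square -/
theorem exists_mu (B : IrrCharacter G) : ∃ μ : IrrCharacter G → ℕ, (1 ≤ μ (triv G) → cc B = B) ∧
    ∀ g, ((B : G → ℂ) g ^ 2 + (B : G → ℂ) (g * g)) / 2 = ∑ χ : IrrCharacter G, (μ χ : ℂ) * (χ : G → ℂ) g := by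
  classical
  have := Fintype.ofFinite G
  have h := isCharacter_S2 B.2.isCharacter
  choose μ hμ using fun χ : IrrCharacter G => h.classInner_nat χ.2.isCharacter
  refine ⟨μ, fun h1 => real_of_S2 B (hμ _) h1, fun g => ?_⟩
  have h1 := congrFun h.isClassFunction.expansion g
  rw [Finset.sum_apply] at h1
  beta_reduce at h1
  rw [h1]
  apply Finset.sum_congr
  · congr 1
  · intro χ _
    rw [Pi.smul_apply, hμ, smul_eq_mul]

end gen

theorem ar_case (m1 m45 m54 m120 m144 mY b1 b2 : ℕ) (h1 : (m1 : ℤ) + m45 - m54 - m120 + m144 - mY = 0)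
    (h2 : -(m54 : ℤ) + 2 * mY + b1 + b2 = 0)
    (h3 : m1 + 45 * m45 + 54 * m54 + 120 * m120 + 144 * m144 + 32 * mY + 11 * b1 + 11 * b2 ≤ 66) :
    (m1 = 0 ∧ m45 = 0 ∧ m54 = 0 ∧ m120 = 0 ∧ m144 = 0 ∧ mY = 0 ∧ b1 = 0 ∧ b2 = 0) ∨
    (m1 = 1 ∧ m45 = 0 ∧ m54 = 1 ∧ m120 = 0 ∧ m144 = 0 ∧ mY = 0 ∧ b1 + b2 = 1) := by
  have e1 : m120 = 0 := by omega
  have e2 : m144 = 0 := by omega
  subst e1 e2
  have e3 : m54 ≤ 1 := by omega
  omega

theorem ar_c (k d : ℕ) (hk : 1 ≤ k) (hk6 : k ≤ 6) (hd : d = 11 * k) (v σ : ℤ) (n0 n1 : ℕ) (hv : v = 1 ∨ v = -1 ∨ v = 0)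
    (hD : (d : ℤ) + 4 * v = 5 * (n0 + n1)) (hS : σ + 4 * v = 5 * (n0 - n1)) (hp : ((d : ℤ) - σ) % 4 = 0)
    (hs : σ ^ 2 ≤ 128) (hlt : σ < (d : ℤ)) : 11 * σ ≤ (d : ℤ) ∧ (11 * σ = (d : ℤ) → 44 ≤ d) := by
  have h1 : -11 ≤ σ := by nlinarith only [hs]
  have h2 : σ ≤ 11 := by nlinarith only [hs]
  clear hs
  rcases hv with h | h | h <;> subst h <;> interval_cases k <;> subst hd <;> omega

theorem ar_8 (τ : ℤ) (h : τ ^ 2 ≤ 64) : τ ≤ 8 := by nlinarith

variable {G : Type u} [Group G] [Finite G] [IsSimpleGroup G] {x y s t : G} {A : Fin 4 → IrrCharacter G} {m : Fin 4 → ℤ}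
  {Y : IrrCharacter G} {a : ℤ} {V W σ : IrrCharacter G → ℤ} {N0 N1 : IrrCharacter G → ℕ} {X : Finset (IrrCharacter G)}
  {T : Tot x y s A m Y a V W σ N0 N1 X} {B1 B2 : IrrCharacter G}

theorem Two.nodup (B : Two T B1 B2) : [triv G, A 0, A 1, A 2, A 3, Y, cc Y, B1, B2].Nodup := by
  obtain ⟨a1, a2, a3, a4⟩ := B.ne_block
  obtain ⟨b1, b2, b3, b4⟩ := B.symm.ne_block
  have h := T.b.nodup
  simp only [List.nodup_cons, List.mem_cons, List.not_mem_nil, or_false, not_or, List.nodup_nil, and_true,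
    not_false_eq_true] at h ⊢
  have := B.ne
  have ha := a2
  refine ⟨⟨h.1.1, h.1.2.1, h.1.2.2.1, h.1.2.2.2.1, h.1.2.2.2.2.1, h.1.2.2.2.2.2, a1.symm, b1.symm⟩, ?_⟩
  refine ⟨⟨h.2.1.1, h.2.1.2.1, h.2.1.2.2.1, h.2.1.2.2.2.1, h.2.1.2.2.2.2, (a2 0).symm, (b2 0).symm⟩, ?_⟩
  refine ⟨⟨h.2.2.1.1, h.2.2.1.2.1, h.2.2.1.2.2.1, h.2.2.1.2.2.2, (a2 1).symm, (b2 1).symm⟩, ?_⟩
  refine ⟨⟨h.2.2.2.1.1, h.2.2.2.1.2.1, h.2.2.2.1.2.2, (a2 2).symm, (b2 2).symm⟩, ?_⟩
  refine ⟨⟨h.2.2.2.2.1.1, h.2.2.2.2.1.2, (a2 3).symm, (b2 3).symm⟩, ?_⟩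
  exact ⟨⟨h.2.2.2.2.2, a3.symm, b3.symm⟩, ⟨a4.symm, b4.symm⟩, this⟩

theorem Dat.symm (D : Dat x y s t A m Y a V W σ N0 N1 X B1 B2) : Dat x y s t A m Y a V W σ N0 N1 X B2 B1 :=
  ⟨D.T, D.B.symm, D.d2, D.d1, D.V2, D.V1, D.σ2, D.σ1, D.ot, D.Ct, D.t0, D.t1, D.t2, D.t3, D.tY, D.tB2, D.tB1⟩

theorem Dat.x2 (hG : Nat.card G = 95040) (D : Dat x y s t A m Y a V W σ N0 N1 X B1 B2) :
    (B1 : G → ℂ) (x * x) = 0 ∧ (B1 : G → ℂ) (x⁻¹ * x⁻¹) = 0 := by
  have hx := D.T.hx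
  have hx11 : x ^ 11 = 1 := by rw [← hx]; exact pow_orderOf_eq_one x
  have hxi : orderOf x⁻¹ = 11 := by rw [orderOf_inv, hx]
  have h9 : ((9 : ℕ) : ZMod 11) ≠ 0 := by decide
  have h9s : IsSquare ((9 : ℕ) : ZMod 11) := ⟨3, by decide⟩
  have c1 := (elt11 hG x hx).2.2.1 9 h9 h9s
  have c2 := (elt11 hG x⁻¹ hxi).2.2.1 9 h9 h9s
  have e1 : (x⁻¹) ^ 9 = x * x := by
    rw [inv_pow, inv_eq_iff_mul_eq_one, ← pow_two, ← pow_add]; exact hx11
  have e2 : x ^ 9 = x⁻¹ * x⁻¹ := by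
    rw [← mul_inv_rev, ← pow_two, eq_inv_iff_mul_eq_one, ← pow_add]; exact hx11
  rw [e1] at c2
  rw [e2] at c1
  obtain ⟨g, hg⟩ := isConj_iff.1 c1
  obtain ⟨g', hg'⟩ := isConj_iff.1 c2
  rw [← hg, ← hg', B1.2.isCharacter.isClassFunction, B1.2.isCharacter.isClassFunction]
  exact ⟨D.B.out.2.1, D.B.out.1⟩

/-- values of the other characters -/
theorem Dat.key (hG : Nat.card G = 95040) (D : Dat x y s t A m Y a V W σ N0 N1 X B1 B2) {χ : IrrCharacter G}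
    (hnm : χ ∉ [triv G, A 0, A 1, A 2, A 3, Y, cc Y, B1, B2]) (h66 : deg χ ≤ 66) :
    11 * σ χ ≤ deg χ ∧ (11 * σ χ = deg χ → 44 ≤ deg χ) ∧ ∀ τ : ℤ, (χ : G → ℂ) t = τ → τ ≤ 8 := by
  have hna := notComm hG
  have T := D.T
  have hnd10 : (χ :: [triv G, A 0, A 1, A 2, A 3, Y, cc Y, B1, B2]).Nodup := List.nodup_cons.2 ⟨hnm, D.B.nodup⟩
  have hs' : σ χ ^ 2 ≤ 128 := by
    have hs := norm_list hnd10 (g := s) (f := σ) (fun χ _ => (T.F.val χ).S1)
    simp only [List.map_cons, List.map_nil, List.sum_cons, List.sum_nil] at hs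
    rw [T.Cs, T.σ0, T.σ1, T.σ2, T.σ3, T.σY, T.cc_vals.2.2, D.σ1, D.σ2] at hs
    have e1 : σ (triv G) = 1 := by
      have := (T.F.val (triv G)).S1
      rw [triv_apply] at this
      exact_mod_cast this.symm
    rw [e1] at hs
    push_cast at hs
    linarith only [hs]
  have ht' : ∀ τ0 : ℤ, (χ : G → ℂ) t = τ0 → τ0 ≤ 8 := by
    intro τ0 hτ0
    choose τ hτ1 hτ2 hτ3 hτ4 hτ5 using fun χ : IrrCharacter G => val_inv hna χ t (by rw [← D.ot]; exact pow_orderOf_eq_one t)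
    have ht := norm_list hnd10 (g := t) (f := τ) (fun χ _ => hτ1 χ)
    simp only [List.map_cons, List.map_nil, List.sum_cons, List.sum_nil] at ht
    have f0 : τ (A 0) = -3 := by have := hτ1 (A 0); rw [D.t0] at this; exact_mod_cast this.symm
    have f1 : τ (A 1) = 6 := by have := hτ1 (A 1); rw [D.t1] at this; exact_mod_cast this.symm
    have f2 : τ (A 2) = -8 := by have := hτ1 (A 2); rw [D.t2] at this; exact_mod_cast this.symm
    have fB1 : τ B1 = 3 := by have := hτ1 B1; rw [D.tB1] at this; exact_mod_cast this.symm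
    have fB2 : τ B2 = 3 := by have := hτ1 B2; rw [D.tB2] at this; exact_mod_cast this.symm
    have ft : τ (triv G) = 1 := by have := hτ1 (triv G); rw [triv_apply] at this; exact_mod_cast this.symm
    have fχ : τ χ = τ0 := by have := hτ1 χ; rw [hτ0] at this; exact_mod_cast this.symm
    rw [D.Ct, f0, f1, f2, fB1, fB2, ft, fχ] at ht
    push_cast at ht
    apply ar_8
    have q1 := sq_nonneg (τ (A 3))
    have q2 := sq_nonneg (τ Y)
    have q3 := sq_nonneg (τ (cc Y))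
    linarith only [ht, q1, q2, q3]
  simp only [List.mem_cons, List.not_mem_nil, or_false, not_or] at hnm
  obtain ⟨g0, g1, g2, g3, g4, g5, g6, g7, g8⟩ := hnm
  have hA : ∀ i, χ ≠ A i := by
    intro i
    fin_cases i <;> assumption
  obtain ⟨k, hk⟩ := (T.b.out χ g0 hA g5 g6).2.2
  have hVW : (V χ = 1 ∨ V χ = -1 ∨ V χ = 0) ∧ W χ = V χ := by
    by_cases hX : χ ∈ X
    · obtain ⟨i1, i2⟩ := T.F.inX χ hX
      exact ⟨by tauto, i1⟩
    · have i1 := D.B.rest χ hX g2 g5 g6 g7 g8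
      have i2 := T.F.offX χ hX
      rw [i2, i1]
      exact ⟨Or.inr (Or.inr rfl), by norm_num⟩
  have hv := T.F.val χ
  have hlt := (hv.lt g0).2
  have hSS := hv.S
  rw [hVW.2] at hSS
  have hkpos : 1 ≤ k := by
    have := deg_pos χ
    omega
  have hk6 : k ≤ 6 := by omega
  obtain ⟨q1, q2⟩ := ar_c k (deg χ) hkpos hk6 hk (V χ) (σ χ) (N0 χ) (N1 χ) hVW.1 hv.D hSS hv.par4 hs' hlt
  exact ⟨q1, q2, ht'⟩

/-- the symmetric square of a character of degree 11 -/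
theorem Dat.symSq (hG : Nat.card G = 95040) (D : Dat x y s t A m Y a V W σ N0 N1 X B1 B2) :
    cc B1 = B1 ∧ ∃ C, (C = B1 ∨ C = B2) ∧
      ∀ g, ((B1 : G → ℂ) g ^ 2 + (B1 : G → ℂ) (g * g)) / 2 = 1 + (A 1 : G → ℂ) g + (C : G → ℂ) g := by
  classical
  have hna := notComm hG
  have T := D.T
  have B := D.B
  have ys := T.F.ys
  obtain ⟨d0, d1, d2, d3, dY, m0, m1, m2, m3, ha⟩ := T.degs
  obtain ⟨μ, hμ, hsum⟩ := exists_mu B1
  have hnd := B.nodup
  -- degree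
  have hdeg : ∑ χ, μ χ * deg χ = 66 := by
    have h := hsum 1
    simp only [mul_one, apply_one, D.d1] at h
    have : ((∑ χ, μ χ * deg χ : ℕ) : ℂ) = ((66 : ℕ) : ℂ) := by push_cast; rw [← h]; norm_num
    exact_mod_cast this
  have hle := list_le hnd (fun χ => μ χ * deg χ)
  rw [hdeg] at hle
  simp only [List.map_cons, List.map_nil, List.sum_cons, List.sum_nil, deg_triv, deg_cc, d0, d1, d2, d3, dY, D.d1, D.d2] at hle
  -- values at x
  have hx1 : (μ (triv G) : ℂ) + (μ (A 0) - μ (A 1) - μ (A 2) + μ (A 3)) + μ Y * (Y : G → ℂ) x + μ (cc Y) * (Y : G → ℂ) x⁻¹ = 0 := by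
    have h := hsum x
    rw [(D.x2 hG).1, B.out.1, T.b.sum (f := fun χ => (μ χ : ℂ) * (χ : G → ℂ) x) (fun χ e1 e2 e3 e4 => by
      rw [(T.b.out χ e1 e2 e3 e4).1]; simp), Fin.sum_univ_four] at h
    simp only [triv_apply, (T.b.vA _).1, m0, m1, m2, m3, cc_apply, conj_apply] at h
    push_cast at h
    linear_combination -h
  have hx2 : (μ (triv G) : ℂ) + (μ (A 0) - μ (A 1) - μ (A 2) + μ (A 3)) + μ Y * (Y : G → ℂ) x⁻¹ + μ (cc Y) * (Y : G → ℂ) x = 0 := by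
    have h := hsum x⁻¹
    rw [(D.x2 hG).2, B.out.2.1, T.b.sum (f := fun χ => (μ χ : ℂ) * (χ : G → ℂ) x⁻¹) (fun χ e1 e2 e3 e4 => by
      rw [(T.b.out χ e1 e2 e3 e4).2.1]; simp), Fin.sum_univ_four] at h
    simp only [triv_apply, (T.b.vA _).2, m0, m1, m2, m3, cc_apply, conj_apply, inv_inv] at h
    push_cast at h
    linear_combination -h
  have hYY : μ (cc Y) = μ Y := by
    have h1 : ((μ Y : ℂ) - μ (cc Y)) * ((Y : G → ℂ) x - (Y : G → ℂ) x⁻¹) = 0 := by linear_combination hx1 - hx2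
    have h2 : (Y : G → ℂ) x - (Y : G → ℂ) x⁻¹ ≠ 0 := by
      intro h
      have h3 := T.b.vY
      have h4 := T.b.nY
      rw [ha] at h3
      have h5 : ((Y : G → ℂ) x - (Y : G → ℂ) x⁻¹) ^ 2 = -11 := by
        push_cast at h3
        linear_combination ((Y : G → ℂ) x + (Y : G → ℂ) x⁻¹ - 1) * h3 - 4 * h4
      rw [h] at h5
      norm_num at h5
    have h3 := (mul_eq_zero.1 h1).resolve_right h2
    have h4 : (μ Y : ℂ) = μ (cc Y) := by linear_combination h3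
    exact (by exact_mod_cast h4 : μ Y = μ (cc Y)).symm
  have r1 : (μ (triv G) : ℤ) + μ (A 0) - μ (A 1) - μ (A 2) + μ (A 3) - μ Y = 0 := by
    have h3 := T.b.vY
    rw [ha] at h3
    push_cast at h3
    rw [hYY] at hx1
    have : (((μ (triv G) : ℤ) + μ (A 0) - μ (A 1) - μ (A 2) + μ (A 3) - μ Y : ℤ) : ℂ) = 0 := by
      push_cast
      linear_combination hx1 - (μ Y : ℂ) * h3
    exact_mod_cast this
  -- values at y, ys
  have hy1 : ∑ χ : IrrCharacter G, (μ χ : ℂ) * V χ = 1 := by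
    have h := hsum y
    simp only [(T.F.val _).V1] at h
    rw [← h, D.V1]
    have : (B1 : G → ℂ) (y * y) = 1 := by
      rw [← pow_two, (T.F.val B1).Vk 2 (by decide), D.V1]; norm_num
    rw [this]; norm_num
  have hW1 : W B1 = -1 := by rw [T.F.offX B1 B.b1.1, D.V1]
  have hys1 : ∑ χ : IrrCharacter G, (μ χ : ℂ) * W χ = 1 := by
    have h := hsum (y * s)
    simp only [(T.F.val _).W1] at h
    rw [← h, hW1]
    have : (B1 : G → ℂ) (y * s * (y * s)) = 1 := by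
      rw [← pow_two, ys.hsy.symm.mul_pow, ys.s2, mul_one, (T.F.val B1).Vk 2 (by decide), D.V1]; norm_num
    rw [this]; norm_num
  have hoff : ∑ χ ∈ Xᶜ, (V χ : ℂ) * μ χ = 0 := by
    have h1 : ∑ χ : IrrCharacter G, (μ χ : ℂ) * V χ - ∑ χ : IrrCharacter G, (μ χ : ℂ) * W χ = 2 * ∑ χ ∈ Xᶜ, (V χ : ℂ) * μ χ := by
      rw [← Finset.sum_sub_distrib, ← Finset.sum_add_sum_compl X, Finset.mul_sum]
      have h0 : ∑ χ ∈ X, ((μ χ : ℂ) * V χ - (μ χ : ℂ) * W χ) = 0 := by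
        apply Finset.sum_eq_zero
        intro χ hχ
        rw [(T.F.inX χ hχ).1, sub_self]
      rw [h0, zero_add]
      apply Finset.sum_congr rfl
      intro χ hχ
      rw [T.F.offX χ (Finset.mem_compl.1 hχ)]
      push_cast; ring
    rw [hy1, hys1] at h1
    linear_combination (-1 / 2) * h1
  have r2 : -(μ (A 1) : ℤ) + 2 * μ Y + μ B1 + μ B2 = 0 := by
    rw [B.sum, D.V1, D.V2, hYY] at hoff
    have : ((-(μ (A 1) : ℤ) + 2 * μ Y + μ B1 + μ B2 : ℤ) : ℂ) = 0 := by push_cast; push_cast at hoff; linear_combination hoff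
    exact_mod_cast this
  rw [hYY] at hle
  rcases ar_case (μ (triv G)) (μ (A 0)) (μ (A 1)) (μ (A 2)) (μ (A 3)) (μ Y) (μ B1) (μ B2) r1 r2 (by omega) with h | h
  · -- impossible
    exfalso
    obtain ⟨z1, z2, z3, z4, z5, z6, z7, z8⟩ := h
    have hout : ∀ χ, μ χ ≠ 0 → χ ∉ [triv G, A 0, A 1, A 2, A 3, Y, cc Y, B1, B2] := by
      intro χ hχ hmem
      simp only [List.mem_cons, List.not_mem_nil, or_false] at hmem
      rw [← hYY] at z6
      rcases hmem with h | h | h | h | h | h | h | h | h <;> rw [h] at hχ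
      · exact hχ z1
      · exact hχ z2
      · exact hχ z3
      · exact hχ z4
      · exact hχ z5
      · exact hχ (by rw [← hYY]; exact z6)
      · exact hχ z6
      · exact hχ z7
      · exact hχ z8
    choose τ hτ1 hτ2 hτ3 hτ4 hτ5 using fun χ : IrrCharacter G => val_inv hna χ t (by rw [← D.ot]; exact pow_orderOf_eq_one t)
    have key : ∀ χ, μ χ ≠ 0 → 11 * σ χ ≤ deg χ ∧ (11 * σ χ = deg χ → 44 ≤ deg χ) ∧ τ χ ≤ 8 := by
      intro χ hχ
      have h1 : μ χ * deg χ ≤ ∑ χ, μ χ * deg χ :=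
        Finset.single_le_sum (f := fun χ => μ χ * deg χ) (fun _ _ => Nat.zero_le _) (Finset.mem_univ χ)
      rw [hdeg] at h1
      have h2 : deg χ ≤ μ χ * deg χ := Nat.le_mul_of_pos_left _ (Nat.pos_of_ne_zero hχ)
      obtain ⟨k1, k2, k3⟩ := D.key hG (hout χ hχ) (h2.trans h1)
      exact ⟨k1, k2, k3 _ (hτ1 χ)⟩
    -- sum of 11 σ
    have hσs : ∑ χ, (μ χ : ℤ) * σ χ = 6 := by
      have h := hsum s
      simp only [(T.F.val _).S1] at h
      rw [← pow_two s, ys.s2, apply_one, D.d1, D.σ1] at h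
      have : ((∑ χ, (μ χ : ℤ) * σ χ : ℤ) : ℂ) = ((6 : ℤ) : ℂ) := by push_cast; rw [← h]; norm_num
      exact_mod_cast this
    have hτs : ∑ χ, (μ χ : ℤ) * τ χ = 10 := by
      have h := hsum t
      have ht2 : t * t = 1 := by rw [← pow_two, ← D.ot]; exact pow_orderOf_eq_one t
      rw [ht2, apply_one, D.d1, D.tB1] at h
      simp only [hτ1] at h
      have : ((∑ χ, (μ χ : ℤ) * τ χ : ℤ) : ℂ) = ((10 : ℤ) : ℂ) := by push_cast; rw [← h]; norm_num
      exact_mod_cast this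
    have hz : ∑ χ, (μ χ : ℤ) * (deg χ - 11 * σ χ) = 0 := by
      have h1 : ∑ χ, (μ χ : ℤ) * (deg χ - 11 * σ χ) = ((∑ χ, μ χ * deg χ : ℕ) : ℤ) - 11 * ∑ χ, (μ χ : ℤ) * σ χ := by
        push_cast
        rw [Finset.mul_sum, ← Finset.sum_sub_distrib]
        exact Finset.sum_congr rfl fun χ _ => by ring
      rw [h1, hdeg, hσs]; norm_num
    have hnn : ∀ χ ∈ (Finset.univ : Finset (IrrCharacter G)), 0 ≤ (μ χ : ℤ) * (deg χ - 11 * σ χ) := by
      intro χ _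
      by_cases hχ : μ χ = 0
      · rw [hχ]; norm_num
      · have := (key χ hχ).1
        apply mul_nonneg
        · positivity
        · linarith
    have hz2 := (Finset.sum_eq_zero_iff_of_nonneg hnn).1 hz
    have h44 : ∀ χ, 44 * μ χ ≤ μ χ * deg χ := by
      intro χ
      by_cases hχ : μ χ = 0
      · rw [hχ]; norm_num
      · have h1 := hz2 χ (Finset.mem_univ _)
        have h2 : (deg χ : ℤ) - 11 * σ χ = 0 := (mul_eq_zero.1 h1).resolve_left (by exact_mod_cast hχ)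
        have h3 := (key χ hχ).2.1 (by linarith)
        rw [mul_comm]
        exact Nat.mul_le_mul_left _ h3
    have hK : 44 * ∑ χ, μ χ ≤ 66 := by
      rw [← hdeg, Finset.mul_sum]
      exact Finset.sum_le_sum fun χ _ => h44 χ
    have hK1 : ∑ χ, μ χ ≤ 1 := by omega
    have h8 : ∑ χ, (μ χ : ℤ) * τ χ ≤ ∑ χ, (μ χ : ℤ) * 8 := by
      apply Finset.sum_le_sum
      intro χ _
      by_cases hχ : μ χ = 0
      · rw [hχ]; norm_num
      · exact mul_le_mul_of_nonneg_left (key χ hχ).2.2 (by positivity)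
    rw [hτs, ← Finset.sum_mul, ← Nat.cast_sum] at h8
    have : ((∑ χ, μ χ : ℕ) : ℤ) ≤ 1 := by exact_mod_cast hK1
    linarith
  · obtain ⟨z1, z2, z3, z4, z5, z6, z7⟩ := h
    have hreal : cc B1 = B1 := hμ (by rw [z1])
    refine ⟨hreal, ?_⟩
    have hrest : ∀ χ, χ ∉ [triv G, A 0, A 1, A 2, A 3, Y, cc Y, B1, B2] → μ χ = 0 := by
      intro χ hχ
      have hnd10 : (χ :: [triv G, A 0, A 1, A 2, A 3, Y, cc Y, B1, B2]).Nodup := List.nodup_cons.2 ⟨hχ, hnd⟩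
      have hle' := list_le hnd10 (fun χ => μ χ * deg χ)
      rw [hdeg] at hle'
      simp only [List.map_cons, List.map_nil, List.sum_cons, List.sum_nil, deg_triv, deg_cc, d0, d1, d2, d3, dY, D.d1, D.d2] at hle'
      rw [z1, z3] at hle'
      have h1 : μ χ * deg χ = 0 := by omega
      exact (Nat.mul_eq_zero.1 h1).resolve_right (deg_pos χ).ne'
    have hval : ∀ g, ((B1 : G → ℂ) g ^ 2 + (B1 : G → ℂ) (g * g)) / 2 =
        1 + (A 1 : G → ℂ) g + (μ B1 * (B1 : G → ℂ) g + μ B2 * (B2 : G → ℂ) g) := by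
      intro g
      rw [hsum g, sum_list _ hnd (fun χ => (μ χ : ℂ) * (χ : G → ℂ) g) (fun χ hχ => by rw [hrest χ hχ]; simp)]
      simp only [List.map_cons, List.map_nil, List.sum_cons, List.sum_nil]
      rw [z1, z2, z3, z4, z5, hYY, z6, triv_apply]
      push_cast; ring
    have hcase : (μ B1 = 1 ∧ μ B2 = 0) ∨ (μ B1 = 0 ∧ μ B2 = 1) := by omega
    rcases hcase with ⟨c1, c2⟩ | ⟨c1, c2⟩
    · refine ⟨B1, Or.inl rfl, fun g => ?_⟩
      rw [hval g, c1, c2]; push_cast; ring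
    · refine ⟨B2, Or.inr rfl, fun g => ?_⟩
      rw [hval g, c1, c2]; push_cast; ring

end Cfsg.Agent.Lib.M12ByOrder
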