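import Mathlib
import Cfsg.Agent.Lib.SymAltSq
import Cfsg.Agent.Lib.CharCentral

/-!
# Finding a subgroup from a spherical function with two values (helper7)
-/

set_option autoImplicit false
set_option linter.all false

namespace Cfsg.Agent.Lib.Simplex

open Cfsg Cfsg.Agent.Lib.CharBasic Cfsg.Agent.Lib.FrobSchur Cfsg.Agent.Lib.SymAltSq Cfsg.Agent.Lib.CharCentral

universe u v

section rankone

variable {V : Type v} [AddCommGroup V] [Module ℂ V] [FiniteDimensional ℂ V]

theorem exists_rank_one (E : Module.End ℂ V) (hE : E * E = E) (ht : LinearMap.trace ℂ V E = 1) :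
    ∃ (v : V) (φ : V →ₗ[ℂ] ℂ), ∀ w, E w = φ w • v := by
  have h1 := trace_eq_finrank E hE
  rw [ht] at h1
  have h2 : Module.finrank ℂ (LinearMap.range E) = 1 := by exact_mod_cast h1.symm
  let b := Module.finBasisOfFinrankEq ℂ (LinearMap.range E) h2
  refine ⟨(b 0 : V), (b.coord 0) ∘ₗ E.rangeRestrict, fun w => ?_⟩
  have h3 := b.sum_repr (E.rangeRestrict w)
  rw [Fin.sum_univ_one] at h3
  have h4 := congrArg Subtype.val h3
  exact h4.symm

theorem rank_one_mul (E : Module.End ℂ V) (hE : E * E = E) (ht : LinearMap.trace ℂ V E = 1) (X : Module.End ℂ V) :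
    E * X * E = LinearMap.trace ℂ V (E * X) • E := by
  obtain ⟨v, φ, h⟩ := exists_rank_one E hE ht
  have h1 : E * X * E = φ (X v) • E := by
    ext w
    show E (X (E w)) = φ (X v) • E w
    rw [h w, map_smul, map_smul, h (X v), smul_comm]
  have h2 : LinearMap.trace ℂ V (E * X * E) = LinearMap.trace ℂ V (E * X) := by
    rw [LinearMap.trace_mul_comm, ← mul_assoc, hE]
  rw [h1, map_smul, ht, smul_eq_mul, mul_one] at h2
  rw [h1, h2]

theorem eq_zero_of_trace (E : Module.End ℂ V) (hE : E * E = E) (ht : LinearMap.trace ℂ V E = 0) : E = 0 := by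
  have h1 := trace_eq_finrank E hE
  rw [ht] at h1
  have h2 : Module.finrank ℂ (LinearMap.range E) = 0 := by exact_mod_cast h1.symm
  rw [Submodule.finrank_eq_zero, LinearMap.range_eq_bot] at h2
  exact h2

end rankone

section avg

variable {G : Type u} [Group G]

/-- the spherical function of `χ` with respect to `F` -/
noncomputable def cF (χ : G → ℂ) (F : Subgroup G) [Fintype F] (g : G) : ℂ :=
  (Nat.card F : ℂ)⁻¹ * ∑ h : F, χ ((h : G) * g)

/-- the projection on the fixed space of `F` -/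
noncomputable def EF {V : Type v} [AddCommGroup V] [Module ℂ V] (ρ : Representation ℂ G V) (F : Subgroup G) [Fintype F] :
    Module.End ℂ V := (Nat.card F : ℂ)⁻¹ • ∑ h : F, (ρ (h : G) : Module.End ℂ V)

variable {V : Type v} [AddCommGroup V] [Module ℂ V] (ρ : Representation ℂ G V) (F : Subgroup G) [Fintype F]

theorem card_ne : (Nat.card F : ℂ) ≠ 0 := by
  have : Finite F := inferInstance
  exact_mod_cast (Nat.card_pos (α := F)).ne'

theorem EF_of_mul {K : Module.End ℂ V} (h : ∀ k : F, K * (ρ (k : G) : Module.End ℂ V) = K) : K * EF ρ F = K := by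
  rw [EF, mul_smul_comm, Finset.mul_sum, Finset.sum_congr rfl (fun k _ => h k), Finset.sum_const, Finset.card_univ,
    ← Nat.card_eq_fintype_card, ← Nat.cast_smul_eq_nsmul ℂ, smul_smul, inv_mul_cancel₀ (card_ne F), one_smul]

theorem EF_of_mul' {K : Module.End ℂ V} (h : ∀ k : F, (ρ (k : G) : Module.End ℂ V) * K = K) : EF ρ F * K = K := by
  rw [EF, smul_mul_assoc, Finset.sum_mul, Finset.sum_congr rfl (fun k _ => h k), Finset.sum_const, Finset.card_univ,
    ← Nat.card_eq_fintype_card, ← Nat.cast_smul_eq_nsmul ℂ, smul_smul, inv_mul_cancel₀ (card_ne F), one_smul]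

theorem EF_mul (k : F) : EF ρ F * (ρ (k : G) : Module.End ℂ V) = EF ρ F := by
  rw [EF, smul_mul_assoc, Finset.sum_mul]
  congr 1
  rw [← Equiv.sum_comp (Equiv.mulRight k) (fun h : F => (ρ (h : G) : Module.End ℂ V))]
  refine Finset.sum_congr rfl fun h _ => ?_
  rw [Equiv.coe_mulRight, Subgroup.coe_mul, map_mul]

theorem mul_EF (k : F) : (ρ (k : G) : Module.End ℂ V) * EF ρ F = EF ρ F := by
  rw [EF, mul_smul_comm, Finset.mul_sum]
  congr 1
  rw [← Equiv.sum_comp (Equiv.mulLeft k) (fun h : F => (ρ (h : G) : Module.End ℂ V))]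
  refine Finset.sum_congr rfl fun h _ => ?_
  rw [Equiv.coe_mulLeft, Subgroup.coe_mul, map_mul]

theorem EF_sq : EF ρ F * EF ρ F = EF ρ F := EF_of_mul ρ F (EF_mul ρ F)

variable [FiniteDimensional ℂ V]

theorem trace_EF_mul (X : Module.End ℂ V) (g : G) :
    LinearMap.trace ℂ V (X * EF ρ F * (ρ g : Module.End ℂ V)) =
      (Nat.card F : ℂ)⁻¹ * ∑ h : F, LinearMap.trace ℂ V (X * (ρ ((h : G) * g) : Module.End ℂ V)) := by
  rw [EF, mul_smul_comm, smul_mul_assoc, Finset.mul_sum, Finset.sum_mul, map_smul, map_sum, smul_eq_mul]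
  congr 1
  refine Finset.sum_congr rfl fun h _ => ?_
  rw [mul_assoc, ← map_mul]

theorem trace_EF (g : G) : LinearMap.trace ℂ V (EF ρ F * (ρ g : Module.End ℂ V)) = cF ρ.character F g := by
  have h := trace_EF_mul ρ F 1 g
  rw [one_mul] at h
  rw [h, cF]
  congr 1

omit [FiniteDimensional ℂ V] in
theorem cF_one {χ : G → ℂ} (h : ∑ h : F, χ (h : G) = Nat.card F) : cF χ F 1 = 1 := by
  rw [cF]
  simp only [mul_one]
  rw [h, inv_mul_cancel₀ (card_ne F)]

/-- no fixed points -/
theorem cF_zero {χ : G → ℂ} (hχ : IsCharacter G χ) (h : ∑ h : F, χ (h : G) = 0) (g : G) : cF χ F g = 0 := by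
  obtain ⟨n, ρ, rfl⟩ := hχ
  have h1 : LinearMap.trace ℂ _ (EF ρ F) = 0 := by
    have := trace_EF ρ F 1
    rw [map_one, mul_one, cF] at this
    simp only [mul_one] at this
    rw [this, h, mul_zero]
  have h2 := eq_zero_of_trace _ (EF_sq ρ F) h1
  rw [← trace_EF, h2, zero_mul, map_zero]

end avg

section real

variable {G : Type u} [Group G] {F : Subgroup G} [Fintype F]

theorem cF_inv {χ : G → ℂ} (hχ : IsClassFunction G χ) (hr : ∀ g, χ g⁻¹ = χ g) (g : G) : cF χ F g⁻¹ = cF χ F g := by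
  rw [cF, cF]
  congr 1
  rw [← Equiv.sum_comp (Equiv.inv F) (fun h : F => χ ((h : G) * g⁻¹))]
  refine Finset.sum_congr rfl fun h _ => ?_
  have e1 : ((Equiv.inv F h : F) : G) * g⁻¹ = (g * h)⁻¹ := by
    show ((h⁻¹ : F) : G) * g⁻¹ = _
    rw [mul_inv_rev]; rfl
  rw [e1, hr, hχ.mul_comm]

variable [Finite G]

/-- the convolution square of the spherical function -/
theorem conv {χ : G → ℂ} (hχ : IsIrrCharacter G χ) (hF : ∑ h : F, χ (h : G) = Nat.card F) [Fintype G] (g : G) :
    χ 1 * ∑ k : G, cF χ F k⁻¹ * cF χ F (k * g) = Nat.card G * cF χ F g := by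
  obtain ⟨n, ρ, hirr, rfl⟩ := hχ
  set E := EF ρ F with hE
  have hEE : E * E = E := EF_sq ρ F
  have htr : LinearMap.trace ℂ _ E = 1 := by
    have h1 := trace_EF ρ F 1
    rw [map_one, mul_one, cF_one F hF] at h1
    exact h1
  -- Schur
  set S : Module.End ℂ (Fin n → ℂ) := ∑ k : G, (ρ k⁻¹ : Module.End ℂ (Fin n → ℂ)) * E * ρ k with hS
  have hcomm : ∀ g : G, S * (ρ g : Module.End ℂ (Fin n → ℂ)) = ρ g * S := by
    intro g
    rw [hS, Finset.sum_mul, Finset.mul_sum]
    rw [← Equiv.sum_comp (Equiv.mulRight g) (fun k : G => (ρ g : Module.End ℂ (Fin n → ℂ)) * (ρ k⁻¹ * E * ρ k))]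
    refine Finset.sum_congr rfl fun k _ => ?_
    rw [Equiv.coe_mulRight, mul_inv_rev, map_mul, map_mul]
    have : (ρ g : Module.End ℂ (Fin n → ℂ)) * (ρ g⁻¹ * ρ k⁻¹ * E * (ρ k * ρ g)) = (ρ g * ρ g⁻¹) * ρ k⁻¹ * E * (ρ k * ρ g) := by
      simp only [mul_assoc]
    rw [this, ← map_mul, mul_inv_cancel, map_one, one_mul]
    simp only [mul_assoc]
  have := hirr
  obtain ⟨c, hc⟩ := exists_scalar_of_commute ρ S (fun g v => LinearMap.congr_fun (hcomm g) v)
  have hc1 : ρ.character 1 * c = Nat.card G := by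
    have h1 : LinearMap.trace ℂ _ S = Nat.card G := by
      rw [hS, map_sum]
      have h2 : ∀ k : G, LinearMap.trace ℂ _ ((ρ k⁻¹ : Module.End ℂ (Fin n → ℂ)) * E * ρ k) = 1 := by
        intro k
        rw [LinearMap.trace_mul_comm, ← mul_assoc, ← map_mul, mul_inv_cancel, map_one, one_mul, htr]
      rw [Finset.sum_congr rfl (fun k _ => h2 k), Finset.sum_const, Finset.card_univ, nsmul_eq_mul, mul_one,
        ← Nat.card_eq_fintype_card]
    have h2 : LinearMap.trace ℂ _ S = c * ρ.character 1 := by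
      rw [hc, map_smul, smul_eq_mul]
      congr 1
      rw [Representation.character, map_one]; rfl
    rw [mul_comm, ← h2, h1]
  have h1 : ∀ k : G, cF ρ.character F k⁻¹ * cF ρ.character F (k * g) =
      LinearMap.trace ℂ _ (E * (ρ k⁻¹ * E * ρ k) * ρ g) := by
    intro k
    have h2 := rank_one_mul E hEE htr (ρ k⁻¹)
    rw [hE, trace_EF, ← hE] at h2
    have h3 : E * (ρ k⁻¹ * E * ρ k) * ρ g = (E * ρ k⁻¹ * E) * (ρ k * ρ g) := by simp only [mul_assoc]
    rw [h3, h2, smul_mul_assoc, map_smul, smul_eq_mul, ← map_mul, hE, trace_EF]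
  rw [Finset.sum_congr rfl (fun k _ => h1 k), ← map_sum, ← Finset.sum_mul, ← Finset.mul_sum, ← hS, hc]
  have h4 : E * (c • (LinearMap.id : (Fin n → ℂ) →ₗ[ℂ] (Fin n → ℂ))) * ρ g = c • (E * ρ g) := by
    rw [mul_smul_comm, smul_mul_assoc]; rfl
  rw [h4, map_smul, smul_eq_mul, hE, trace_EF, ← mul_assoc, hc1]

/-- a real-valued spherical function with the two values `1`, `-1/d` gives a subgroup of index `d + 1` -/
theorem exists_subgroup {χ : G → ℂ} (hχ : IsIrrCharacter G χ) (hr : ∀ g, χ g⁻¹ = χ g) {d : ℕ} (hd : χ 1 = d) (hd1 : 1 < d)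
    (hF : ∑ h : F, χ (h : G) = Nat.card F) (h2 : ∀ g, cF χ F g = 1 ∨ cF χ F g = -1 / d) :
    ∃ H : Subgroup G, F ≤ H ∧ Nat.card H * (d + 1) = Nat.card G ∧ ∀ g, g ∈ H ↔ cF χ F g = 1 := by
  classical
  have := Fintype.ofFinite G
  have hd0 : (d : ℝ) ≠ 0 := by positivity
  have hex : ∀ g, ∃ r : ℝ, cF χ F g = r ∧ (r = 1 ∨ r = -1 / d) := by
    intro g
    rcases h2 g with h | h
    · exact ⟨1, by rw [h]; norm_num, Or.inl rfl⟩
    · exact ⟨-1 / d, by rw [h]; push_cast; ring, Or.inr rfl⟩
  choose r hr1 hr2 using hex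
  have hconv : ∀ g, (d : ℝ) * ∑ k : G, r k * r (k * g) = Nat.card G * r g := by
    intro g
    have h1 := conv hχ hF g
    simp only [cF_inv hχ.isClassFunction hr, hr1, hd] at h1
    exact_mod_cast h1
  have h1 : r 1 = 1 := by
    have := cF_one F hF
    rw [hr1] at this
    exact_mod_cast this
  have hsq : (d : ℝ) * ∑ k : G, r k * r k = Nat.card G := by
    have := hconv 1
    simp only [mul_one, h1] at this
    exact this
  have hmem : ∀ g, (∀ k, r (k * g) = r k) ↔ r g = 1 := by
    intro g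
    constructor
    · intro h
      have := h 1
      rw [one_mul, h1] at this
      exact this
    · intro h
      have h3 := hconv g
      rw [h, mul_one] at h3
      have h4 : (d : ℝ) * ∑ k : G, r (k * g) * r (k * g) = Nat.card G := by
        rw [← hsq]
        congr 1
        exact Equiv.sum_comp (Equiv.mulRight g) (fun k => r k * r k)
      have h5 : ∑ k : G, (r (k * g) - r k) ^ 2 = 0 := by
        have h6 : ∑ k : G, (r (k * g) - r k) ^ 2 = ∑ k : G, r (k * g) * r (k * g) + ∑ k : G, r k * r k - 2 * ∑ k : G, r k * r (k * g) := by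
          rw [Finset.mul_sum, ← Finset.sum_add_distrib, ← Finset.sum_sub_distrib]
          exact Finset.sum_congr rfl fun k _ => by ring
        have h7 : (d : ℝ) * ∑ k : G, (r (k * g) - r k) ^ 2 = 0 := by
          rw [h6]; linear_combination h4 + hsq - 2 * h3
        exact (mul_eq_zero.1 h7).resolve_left hd0
      rw [Finset.sum_eq_zero_iff_of_nonneg (fun k _ => sq_nonneg _)] at h5
      intro k
      have := h5 k (Finset.mem_univ k)
      have := pow_eq_zero_iff (two_ne_zero) |>.1 this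
      linarith
  let H : Subgroup G :=
    { carrier := {g | ∀ k, r (k * g) = r k}
      mul_mem' := by
        intro a b ha hb k
        rw [← mul_assoc, hb, ha]
      one_mem' := by intro k; rw [mul_one]
      inv_mem' := by
        intro a ha k
        have := ha (k * a⁻¹)
        rw [inv_mul_cancel_right] at this
        exact this.symm }
  have hH : ∀ g, g ∈ H ↔ r g = 1 := hmem
  refine ⟨H, ?_, ?_, ?_⟩
  · intro h hh
    rw [hH]
    have e1 : cF χ F h = cF χ F 1 := by
      rw [cF, cF]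
      congr 1
      rw [← Equiv.sum_comp (Equiv.mulRight (⟨h, hh⟩ : F)) (fun k : F => χ ((k : G) * 1))]
      refine Finset.sum_congr rfl fun k _ => ?_
      rw [Equiv.coe_mulRight, Subgroup.coe_mul, mul_one]
    rw [hr1, hr1, h1] at e1
    exact_mod_cast e1
  · -- count
    have h3 : ∑ k : G, r k * r k = Nat.card H + (Nat.card G - Nat.card H) / (d * d) := by
      have h4 : ∀ k : G, r k * r k = 1 / (d * d) + (if k ∈ H then 1 - 1 / ((d : ℝ) * d) else 0) := by
        intro k
        by_cases hk : k ∈ H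
        · rw [if_pos hk, (hH k).1 hk]; ring
        · rw [if_neg hk, add_zero]
          have : r k = -1 / d := (hr2 k).resolve_left (fun h => hk ((hH k).2 h))
          rw [this]
          have hd0' := hd0
          field_simp
      rw [Finset.sum_congr rfl (fun k _ => h4 k), Finset.sum_add_distrib, Finset.sum_const, Finset.card_univ, ← Finset.sum_filter,
        Finset.sum_const]
      have h5 : (Finset.univ.filter (fun k => k ∈ H)).card = Nat.card H := by
        rw [← Fintype.card_subtype, ← Nat.card_eq_fintype_card]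
      rw [h5, ← Nat.card_eq_fintype_card, nsmul_eq_mul, nsmul_eq_mul]
      field_simp
      ring
    rw [h3] at hsq
    have hd2 : (d : ℝ) - 1 ≠ 0 := by
      have : (1 : ℝ) < d := by exact_mod_cast hd1
      linarith
    have h6 : ((Nat.card H : ℝ) * (d + 1) - Nat.card G) * (d - 1) = 0 := by
      have h7 : (d : ℝ) * (d * (Nat.card H + (Nat.card G - Nat.card H) / (d * d))) = d * Nat.card G := by rw [hsq]
      have h8 : (d : ℝ) * (d * (Nat.card H + (Nat.card G - Nat.card H) / (d * d))) = d * d * Nat.card H + (Nat.card G - Nat.card H) := by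
        field_simp
      rw [h8] at h7
      linear_combination h7
    have h9 := (mul_eq_zero.1 h6).resolve_right hd2
    have h10 : (Nat.card H : ℝ) * (d + 1) = Nat.card G := by linarith
    exact_mod_cast h10
  · intro g
    rw [hH, hr1]
    constructor
    · intro h; rw [h]; norm_num
    · intro h; exact_mod_cast h

end real

section sq

variable {G : Type u} [Group G] [Finite G] {F : Subgroup G} [Fintype F] {n : ℕ}

/-- symmetrization -/
noncomputable def TT (n : ℕ) : Module.End ℂ (Matrix (Fin n) (Fin n) ℂ) := (2⁻¹ : ℂ) • (1 + transp n)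

theorem transp_mul_transp : (transp n : Module.End ℂ (Matrix (Fin n) (Fin n) ℂ)) * transp n = 1 := transp_transp

theorem TT_sq : TT n * TT n = TT n := by
  have h1 : (1 + transp n : Module.End ℂ (Matrix (Fin n) (Fin n) ℂ)) * (1 + transp n) = (2 : ℂ) • (1 + transp n) := by
    rw [add_mul, mul_add, mul_add, one_mul, one_mul, mul_one, transp_mul_transp, two_smul]
    abel
  rw [TT, smul_mul_smul_comm, h1, smul_smul]
  norm_num

theorem TT_comm (ρ : Representation ℂ G (Fin n → ℂ)) (g : G) :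
    TT n * (bilRep ρ g : Module.End ℂ (Matrix (Fin n) (Fin n) ℂ)) = bilRep ρ g * TT n := by
  have h : (transp n : Module.End ℂ (Matrix (Fin n) (Fin n) ℂ)) * bilRep ρ g = bilRep ρ g * transp n := by
    rw [bilRep_apply]; exact transp_comm _
  rw [TT, smul_mul_assoc, mul_smul_comm, add_mul, mul_add, one_mul, mul_one, h]

theorem trace_TT (ρ : Representation ℂ G (Fin n → ℂ)) (g : G) :
    LinearMap.trace ℂ _ (TT n * (bilRep ρ g : Module.End ℂ (Matrix (Fin n) (Fin n) ℂ))) =
      (ρ.character g ^ 2 + ρ.character (g * g)) / 2 := by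
  have h : LinearMap.trace ℂ _ ((transp n : Module.End ℂ (Matrix (Fin n) (Fin n) ℂ)) * bilRep ρ g) = ρ.character (g * g) := by
    rw [bilRep_apply]
    have := trace_transp_bilAct (matRep ρ g)
    rw [← map_mul, trace_matRep] at this
    exact this
  rw [TT, smul_mul_assoc, add_mul, one_mul, map_smul, map_add, h, bilRep_apply, trace_bilAct, trace_matRep, smul_eq_mul]
  ring

/-- the main relation -/
theorem simplex_rel {χ : G → ℂ} (hχ : IsIrrCharacter G χ) (hr : ∀ g, χ g⁻¹ = χ g)
    (hF : ∑ h : F, χ (h : G) = Nat.card F) [Fintype G] (S : G → ℂ) (hS : ∀ g, S g = (χ g ^ 2 + χ (g * g)) / 2)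
    (hSF : ∑ h : F, S (h : G) = 2 * Nat.card F) (hSG : ∑ g : G, S g = Nat.card G) (g : G) :
    cF χ F g ^ 2 = 1 / χ 1 + (1 - 1 / χ 1) * (cF S F g - 1) := by
  classical
  have hd := hχ.one_ne_zero
  have hconv := conv hχ hF 1
  have hcf1 := cF_one F hF
  have hinv : ∀ k, cF χ F k⁻¹ = cF χ F k := cF_inv hχ.isClassFunction hr
  obtain ⟨n, ρ, hirr, rfl⟩ := hχ
  set R : Representation ℂ G (Matrix (Fin n) (Fin n) ℂ) := bilRep ρ with hR
  set E := EF ρ F with hE
  have hEE : E * E = E := EF_sq ρ F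
  have htr : LinearMap.trace ℂ _ E = 1 := by
    have h1 := trace_EF ρ F 1
    rw [map_one, mul_one, hcf1] at h1
    exact h1
  obtain ⟨v, φ, hvφ⟩ := exists_rank_one E hEE htr
  set M := LinearMap.toMatrix' E with hM
  have hMe : ∀ i j, M i j = v i * φ (Pi.single j 1) := by
    intro i j
    rw [hM, LinearMap.toMatrix'_apply]
    have : (fun j' => if j' = j then (1 : ℂ) else 0) = Pi.single j 1 := by
      ext k; simp [Pi.single_apply]
    have h1 := congrFun (hvφ (Pi.single j 1)) i
    simp only [Pi.smul_apply, smul_eq_mul] at h1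
    rw [mul_comm, ← h1]
  set K : Module.End ℂ (Matrix (Fin n) (Fin n) ℂ) := bilAct M with hK
  have hKe : ∀ (N : Matrix (Fin n) (Fin n) ℂ) i j, K N i j = v i * v j * ∑ k, ∑ l, φ (Pi.single k 1) * N k l * φ (Pi.single l 1) := by
    intro N i j
    rw [hK, bilAct_apply, Matrix.mul_apply]
    simp only [Matrix.mul_apply, Matrix.transpose_apply, hMe, Finset.sum_mul, Finset.mul_sum]
    rw [Finset.sum_comm]
    refine Finset.sum_congr rfl fun k _ => Finset.sum_congr rfl fun l _ => ?_
    ring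
  have hKt : K * transp n = K := by
    apply LinearMap.ext
    intro N
    show K (transp n N) = K N
    ext i j
    rw [hKe, hKe]
    congr 1
    rw [Finset.sum_comm]
    refine Finset.sum_congr rfl fun k _ => Finset.sum_congr rfl fun l _ => ?_
    rw [transp_apply, Matrix.transpose_apply]
    ring
  have htK : transp n * K = K := by
    apply LinearMap.ext
    intro N
    show transp n (K N) = K N
    ext i j
    rw [transp_apply, Matrix.transpose_apply, hKe, hKe]
    ring
  have hKT : K * TT n = K := by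
    rw [TT, mul_smul_comm, mul_add, mul_one, hKt, ← two_smul ℂ K, smul_smul]
    norm_num
  have hTK : TT n * K = K := by
    rw [TT, smul_mul_assoc, add_mul, one_mul, htK, ← two_smul ℂ K, smul_smul]
    norm_num
  have hbil : ∀ X Z : Matrix (Fin n) (Fin n) ℂ, (bilAct X : Module.End ℂ (Matrix (Fin n) (Fin n) ℂ)) * bilAct Z = bilAct (X * Z) := by
    intro X Z
    apply LinearMap.ext
    intro N
    show bilAct X (bilAct Z N) = _
    rw [bilAct_apply, bilAct_apply, bilAct_apply, Matrix.transpose_mul]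
    simp only [Matrix.mul_assoc]
  have hmat : ∀ g : G, M * matRep ρ g = LinearMap.toMatrix' (E * (ρ g : Module.End ℂ (Fin n → ℂ))) := by
    intro g
    rw [hM, matRep_apply]
    exact (LinearMap.toMatrix'_mul _ _).symm
  have hmat' : ∀ g : G, matRep ρ g * M = LinearMap.toMatrix' ((ρ g : Module.End ℂ (Fin n → ℂ)) * E) := by
    intro g
    rw [hM, matRep_apply]
    exact (LinearMap.toMatrix'_mul _ _).symm
  have hKR : ∀ k : F, K * (R (k : G) : Module.End ℂ (Matrix (Fin n) (Fin n) ℂ)) = K := by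
    intro k
    rw [hK, hR, bilRep_apply, hbil, hmat, hE, EF_mul, ← hE, ← hM]
  have hRK : ∀ k : F, (R (k : G) : Module.End ℂ (Matrix (Fin n) (Fin n) ℂ)) * K = K := by
    intro k
    rw [hK, hR, bilRep_apply, hbil, hmat', hE, mul_EF, ← hE, ← hM]
  have htrK : ∀ g : G, LinearMap.trace ℂ _ (K * (R g : Module.End ℂ (Matrix (Fin n) (Fin n) ℂ))) = cF ρ.character F g ^ 2 := by
    intro g
    rw [hK, hR, bilRep_apply, hbil, trace_bilAct, hmat, ← trace_EF, ← hE]
    congr 1
    rw [LinearMap.trace_eq_matrix_trace ℂ (Pi.basisFun ℂ (Fin n))]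
    rfl
  set eF := EF R F with heF
  set eG := EF R (⊤ : Subgroup G) with heG
  have hTF : TT n * eF = eF * TT n := by
    rw [heF, EF, mul_smul_comm, smul_mul_assoc, Finset.mul_sum, Finset.sum_mul]
    congr 1
    exact Finset.sum_congr rfl fun k _ => TT_comm ρ k
  have hTG : TT n * eG = eG * TT n := by
    rw [heG, EF, mul_smul_comm, smul_mul_assoc, Finset.mul_sum, Finset.sum_mul]
    congr 1
    exact Finset.sum_congr rfl fun k _ => TT_comm ρ k
  have hGR : ∀ g : G, eG * (R g : Module.End ℂ (Matrix (Fin n) (Fin n) ℂ)) = eG := fun g => EF_mul R ⊤ ⟨g, Subgroup.mem_top g⟩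
  have hRG : ∀ g : G, (R g : Module.End ℂ (Matrix (Fin n) (Fin n) ℂ)) * eG = eG := fun g => mul_EF R ⊤ ⟨g, Subgroup.mem_top g⟩
  have hGG : eG * eG = eG := EF_sq R ⊤
  have hFF : eF * eF = eF := EF_sq R F
  have hGF : eG * eF = eG := EF_of_mul R F (fun k => hGR k)
  have hFG : eF * eG = eG := EF_of_mul' R F (fun k => hRG k)
  obtain ⟨Q, hQ⟩ : ∃ Q, Q = TT n * eF := ⟨_, rfl⟩
  obtain ⟨P, hP⟩ : ∃ P, P = TT n * eG := ⟨_, rfl⟩
  have hQQ : Q * Q = Q := by
    rw [hQ]
    calc TT n * eF * (TT n * eF) = TT n * (eF * TT n) * eF := by simp only [mul_assoc]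
      _ = TT n * (TT n * eF) * eF := by rw [hTF]
      _ = (TT n * TT n) * (eF * eF) := by simp only [mul_assoc]
      _ = _ := by rw [TT_sq, hFF]
  have hPP : P * P = P := by
    rw [hP]
    calc TT n * eG * (TT n * eG) = TT n * (eG * TT n) * eG := by simp only [mul_assoc]
      _ = TT n * (TT n * eG) * eG := by rw [hTG]
      _ = (TT n * TT n) * (eG * eG) := by simp only [mul_assoc]
      _ = _ := by rw [TT_sq, hGG]
  have hQP : Q * P = P := by
    rw [hQ, hP]
    calc TT n * eF * (TT n * eG) = TT n * (eF * TT n) * eG := by simp only [mul_assoc]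
      _ = TT n * (TT n * eF) * eG := by rw [hTF]
      _ = (TT n * TT n) * (eF * eG) := by simp only [mul_assoc]
      _ = _ := by rw [TT_sq, hFG]
  have hPQ : P * Q = P := by
    rw [hQ, hP]
    calc TT n * eG * (TT n * eF) = TT n * (eG * TT n) * eF := by simp only [mul_assoc]
      _ = TT n * (TT n * eG) * eF := by rw [hTG]
      _ = (TT n * TT n) * (eG * eF) := by simp only [mul_assoc]
      _ = _ := by rw [TT_sq, hGF]
  have hPR : ∀ g : G, P * (R g : Module.End ℂ (Matrix (Fin n) (Fin n) ℂ)) = P := by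
    intro g
    rw [hP, mul_assoc, hGR]
  have hRP : ∀ g : G, (R g : Module.End ℂ (Matrix (Fin n) (Fin n) ℂ)) * P = P := by
    intro g
    rw [hP, hTG, ← mul_assoc, hRG]
  set P' := Q - P with hP'
  have hP'P' : P' * P' = P' := by
    rw [hP', sub_mul, mul_sub, mul_sub, hQQ, hQP, hPQ, hPP, sub_self, sub_zero]
  have hPP' : P * P' = 0 := by rw [hP', mul_sub, hPQ, hPP, sub_self]
  have hP'P : P' * P = 0 := by rw [hP', sub_mul, hQP, hPP, sub_self]
  have htrQ : ∀ g : G, LinearMap.trace ℂ _ (Q * (R g : Module.End ℂ (Matrix (Fin n) (Fin n) ℂ))) = cF S F g := by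
    intro g
    rw [hQ, heF, trace_EF_mul, cF]
    congr 1
    refine Finset.sum_congr rfl fun h _ => ?_
    rw [hS, ← trace_TT]
  have htrP : LinearMap.trace ℂ _ P = 1 := by
    have h1 := trace_EF_mul R (⊤ : Subgroup G) (TT n) 1
    rw [map_one, mul_one, ← heG, ← hP] at h1
    rw [h1]
    simp only [mul_one]
    have h2 : ∑ h : (⊤ : Subgroup G), LinearMap.trace ℂ _ (TT n * (R (h : G) : Module.End ℂ (Matrix (Fin n) (Fin n) ℂ))) = ∑ g : G, S g := by
      rw [← Equiv.sum_comp (Subgroup.topEquiv (G := G)).toEquiv (fun g => S g)]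
      refine Finset.sum_congr rfl fun h _ => ?_
      rw [hS, hR, trace_TT]; rfl
    rw [h2, hSG]
    have h3 : Nat.card (⊤ : Subgroup G) = Nat.card G := Nat.card_congr (Subgroup.topEquiv (G := G)).toEquiv
    rw [h3, inv_mul_cancel₀]
    exact_mod_cast (Nat.card_pos (α := G)).ne'
  have htrP' : ∀ g : G, LinearMap.trace ℂ _ (P' * (R g : Module.End ℂ (Matrix (Fin n) (Fin n) ℂ))) = cF S F g - 1 := by
    intro g
    rw [hP', sub_mul, map_sub, htrQ, hPR, htrP]
  have hcS1 : cF S F 1 = 2 := by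
    rw [cF]
    simp only [mul_one]
    rw [hSF]
    have := card_ne F
    field_simp
  have htrP'1 : LinearMap.trace ℂ _ P' = 1 := by
    have := htrP' 1
    rw [map_one, mul_one, hcS1] at this
    rw [this]; norm_num
  have hKQ : K * Q = K := by
    rw [hQ, ← mul_assoc, hKT]
    exact EF_of_mul R F hKR
  have hQK : Q * K = K := by
    rw [hQ, mul_assoc, EF_of_mul' R F hRK, hTK]
  have hQRQ : ∀ g : G, Q * (R g : Module.End ℂ (Matrix (Fin n) (Fin n) ℂ)) * Q = P + (cF S F g - 1) • P' := by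
    intro g
    have e1 : Q = P + P' := by rw [hP']; abel
    have e2 := rank_one_mul P' hP'P' htrP'1 (R g)
    rw [htrP'] at e2
    calc Q * (R g : Module.End ℂ (Matrix (Fin n) (Fin n) ℂ)) * Q = (P + P') * (R g : Module.End ℂ (Matrix (Fin n) (Fin n) ℂ)) * (P + P') := by rw [← e1]
      _ = (P * (R g : Module.End ℂ (Matrix (Fin n) (Fin n) ℂ))) * P + (P * (R g : Module.End ℂ (Matrix (Fin n) (Fin n) ℂ))) * P' +
        (P' * (((R g : Module.End ℂ (Matrix (Fin n) (Fin n) ℂ))) * P) + P' * (R g : Module.End ℂ (Matrix (Fin n) (Fin n) ℂ)) * P') := by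
          rw [add_mul, add_mul, mul_add, mul_add, ← mul_assoc P']
      _ = _ := by rw [hPR, hRP, hPP, hPP', hP'P, e2, add_zero, zero_add]
  have hmain : ∀ g : G, cF ρ.character F g ^ 2 = LinearMap.trace ℂ _ (K * P) + (cF S F g - 1) * LinearMap.trace ℂ _ (K * P') := by
    intro g
    rw [← htrK]
    have e1 : LinearMap.trace ℂ _ (K * (R g : Module.End ℂ (Matrix (Fin n) (Fin n) ℂ))) =
        LinearMap.trace ℂ _ (K * (Q * (R g : Module.End ℂ (Matrix (Fin n) (Fin n) ℂ)) * Q)) := by
      conv_lhs => rw [← hQK, ← hKQ]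
      have : Q * (K * Q) * (R g : Module.End ℂ (Matrix (Fin n) (Fin n) ℂ)) = Q * (K * Q * (R g : Module.End ℂ (Matrix (Fin n) (Fin n) ℂ))) := by
        simp only [mul_assoc]
      rw [this, LinearMap.trace_mul_comm]
      simp only [mul_assoc]
    rw [e1, hQRQ, mul_add, mul_smul_comm, map_add, map_smul, smul_eq_mul]
  have hα : ρ.character 1 * LinearMap.trace ℂ _ (K * P) = 1 := by
    have e1 : K * P = K * eG := by rw [hP, ← mul_assoc, hKT]
    have e2 := trace_EF_mul R (⊤ : Subgroup G) K 1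
    rw [map_one, mul_one, ← heG] at e2
    rw [e1, e2]
    simp only [mul_one]
    have h2 : ∑ h : (⊤ : Subgroup G), LinearMap.trace ℂ _ (K * (R (h : G) : Module.End ℂ (Matrix (Fin n) (Fin n) ℂ))) =
        ∑ k : G, cF ρ.character F k⁻¹ * cF ρ.character F (k * 1) := by
      rw [← Equiv.sum_comp (Subgroup.topEquiv (G := G)).toEquiv (fun k => cF ρ.character F k⁻¹ * cF ρ.character F (k * 1))]
      refine Finset.sum_congr rfl fun h _ => ?_
      rw [htrK]
      show _ = cF ρ.character F ((h : G))⁻¹ * cF ρ.character F ((h : G) * 1)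
      rw [hinv, mul_one, pow_two]
    rw [h2]
    have h3 : Nat.card (⊤ : Subgroup G) = Nat.card G := Nat.card_congr (Subgroup.topEquiv (G := G)).toEquiv
    rw [h3, ← mul_assoc, mul_comm (ρ.character 1), mul_assoc, hconv, hcf1, mul_one, inv_mul_cancel₀]
    exact_mod_cast (Nat.card_pos (α := G)).ne'
  have h1 := hmain 1
  rw [hcf1, hcS1] at h1
  rw [hmain g]
  have h2 : LinearMap.trace ℂ _ (K * P) = 1 / ρ.character 1 := by
    field_simp
    linear_combination hα
  rw [h2] at h1 ⊢
  linear_combination (cF S F g - 1) * (-h1)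

end sq

end Cfsg.Agent.Lib.Simplex
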