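import Mathlib
import Cfsg.Agent.Lib.M12N
import Cfsg.Agent.Lib.Simplex

/-!
# Simple groups of order 95040, part O: the subgroup of index 12 (helper7)
-/

set_option autoImplicit false
set_option linter.all false

namespace Cfsg.Agent.Lib.M12ByOrder

open Subgroup Cfsg Cfsg.Agent.Lib.CharBasic Cfsg.Agent.Lib.ColTools Cfsg.Agent.Lib.SmallSimple
  Cfsg.Agent.Lib.PBlock Cfsg.Agent.Lib.Simplex
open scoped ComplexConjugate

universe u

variable {G : Type u} [Group G] [Finite G] [IsSimpleGroup G] {x y s t : G} {A : Fin 4 → IrrCharacter G} {m : Fin 4 → ℤ}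
  {Y : IrrCharacter G} {a : ℤ} {V W σ : IrrCharacter G → ℤ} {N0 N1 : IrrCharacter G → ℕ} {X : Finset (IrrCharacter G)}
  {T : Tot x y s A m Y a V W σ N0 N1 X} {B1 B2 : IrrCharacter G}

/-- sums over the normalizer of `⟨x⟩` -/
theorem Tot.sumF (hG : Nat.card G = 95040) (T : Tot x y s A m Y a V W σ N0 N1 X) (χ : IrrCharacter G) {c : ℂ}
    (h1 : (χ : G → ℂ) x = c) (h2 : (χ : G → ℂ) x⁻¹ = c) [Fintype (normalizer (zpowers x : Set G))] :
    ∑ h : normalizer (zpowers x : Set G), (χ : G → ℂ) (h : G) = deg χ + 10 * c + 44 * V χ := by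
  classical
  have hx := T.hx
  have ys := T.F.ys
  have hcx : Nat.card (zpowers x) = 11 := by rw [Nat.card_zpowers, hx]
  have hcy : Nat.card (zpowers y) = 5 := by rw [Nat.card_zpowers, ys.hy]
  letI : Fintype (zpowers x) := Fintype.ofFinite _
  letI : Fintype (zpowers y) := Fintype.ofFinite _
  have hfx : Fintype.card (zpowers x) = 11 := by rw [← Nat.card_eq_fintype_card, hcx]
  have hfy : Fintype.card (zpowers y) = 5 := by rw [← Nat.card_eq_fintype_card, hcy]
  have hxN : ∀ k : zpowers x, (k : G) ∈ normalizer (zpowers x : Set G) := fun k => le_normalizer k.2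
  have hyN : ∀ k : zpowers y, (k : G) ∈ normalizer (zpowers x : Set G) := fun k => (zpowers_le.2 T.hyN) k.2
  let f : zpowers x × zpowers y → normalizer (zpowers x : Set G) := fun p => ⟨p.1 * p.2, mul_mem (hxN p.1) (hyN p.2)⟩
  have hdisj : zpowers x ⊓ zpowers y = ⊥ := by
    apply inf_eq_bot_of_coprime
    rw [hcx, hcy]; norm_num
  have hinj : Function.Injective f := by
    rintro ⟨p, q⟩ ⟨p', q'⟩ h
    have e1 : (p : G) * q = p' * q' := congrArg Subtype.val h
    have e2 : (p' : G)⁻¹ * p = q' * (q : G)⁻¹ := by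
      rw [inv_mul_eq_iff_eq_mul, ← mul_assoc, ← e1, mul_inv_cancel_right]
    have e3 : (p' : G)⁻¹ * p ∈ zpowers x ⊓ zpowers y :=
      Subgroup.mem_inf.2 ⟨(zpowers x).mul_mem ((zpowers x).inv_mem p'.2) p.2, by
        rw [e2]; exact (zpowers y).mul_mem q'.2 ((zpowers y).inv_mem q.2)⟩
    rw [hdisj, mem_bot] at e3
    have e4 : (p : G) = p' := (inv_mul_eq_one.1 e3).symm
    have e5 : (q : G) = q' := by
      rw [e3] at e2
      exact (mul_inv_eq_one.1 e2.symm).symm
    exact Prod.ext (Subtype.ext e4) (Subtype.ext e5)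
  have hbij : Function.Bijective f := by
    rw [Fintype.bijective_iff_injective_and_card]
    refine ⟨hinj, ?_⟩
    rw [Fintype.card_prod, hfx, hfy, ← Nat.card_eq_fintype_card, (elt11 hG x hx).2.1]
  have hsum : ∑ h : normalizer (zpowers x : Set G), (χ : G → ℂ) (h : G) = ∑ q : zpowers y, ∑ p : zpowers x, (χ : G → ℂ) ((p : G) * q) := by
    rw [← Equiv.sum_comp (Equiv.ofBijective f hbij) (fun h : normalizer (zpowers x : Set G) => (χ : G → ℂ) (h : G)), Fintype.sum_prod_type,
      Finset.sum_comm]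
    rfl
  rw [hsum, sum_off_one (fun q : zpowers y => ∑ p : zpowers x, (χ : G → ℂ) ((p : G) * q)) (11 * V χ)]
  · simp only [Subgroup.coe_one, mul_one]
    rw [sum_off_one (fun p : zpowers x => (χ : G → ℂ) (p : G)) c, hfx, hfy, Subgroup.coe_one, apply_one]
    · push_cast; ring
    · intro h hh
      rcases conj_or hG hx h.2 (fun e => hh (Subtype.ext e)) with h3 | h3
      · obtain ⟨g, hg⟩ := isConj_iff.1 h3
        rw [← hg, χ.2.isCharacter.isClassFunction, h1]
      · obtain ⟨g, hg⟩ := isConj_iff.1 h3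
        rw [← hg, χ.2.isCharacter.isClassFunction, h2]
  · intro q hq
    obtain ⟨k, hk, hk'⟩ := ys.pow_of_mem q.2 (fun e => hq (Subtype.ext e))
    have ho : orderOf (q : G) = 5 := by rw [hk']; exact order5_pow ys.hy hk
    have h3 : ∀ p : zpowers x, (χ : G → ℂ) ((p : G) * q) = V χ := by
      intro p
      obtain ⟨l, hl, hl'⟩ := conj_coset (zpowers x) (conj_x (hyN q)) (fun h hh hc => comm_x hG hx (by rw [ho]; norm_num) hh hc) p.2
      rw [← hl', χ.2.isCharacter.isClassFunction, hk', (T.F.val χ).Vk k hk]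
    rw [Finset.sum_congr rfl (fun p _ => h3 p), Finset.sum_const, Finset.card_univ, hfx, nsmul_eq_mul]
    push_cast; ring

omit [IsSimpleGroup G] in
theorem sum_irr [Fintype G] {χ : IrrCharacter G} (h : χ ≠ triv G) : ∑ g : G, (χ : G → ℂ) g = 0 := by
  classical
  have h1 := irr_orthonormal χ (triv G)
  rw [if_neg h, classInner_def] at h1
  have h2 : (Nat.card G : ℂ)⁻¹ ≠ 0 := inv_ne_zero (by exact_mod_cast (Nat.card_pos (α := G)).ne')
  have h3 := (mul_eq_zero.1 h1).resolve_left h2
  rw [← h3]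
  exact Finset.sum_congr rfl fun g _ => by rw [triv_apply, map_one, mul_one]

theorem quad_real (u w : ℂ) (r : ℝ) (hr : u = r) (h1 : u ^ 2 = 1 / 11 + (10 / 11) * w) (h2 : w ^ 2 = 1 / 11 + (10 / 11) * u) :
    u = 1 ∨ u = -1 / 11 := by
  have h3 : (u - w) * (u + w + 10 / 11) = 0 := by linear_combination h1 - h2
  rcases mul_eq_zero.1 h3 with h | h
  · have h4 : w = u := by linear_combination -h
    rw [h4] at h1
    have h5 : (u - 1) * (u + 1 / 11) = 0 := by linear_combination h1
    rcases mul_eq_zero.1 h5 with h6 | h6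
    · left; linear_combination h6
    · right; linear_combination h6
  · exfalso
    have h4 : w = -u - 10 / 11 := by linear_combination h
    rw [h4, hr] at h1
    have h5 : r ^ 2 = 1 / 11 + (10 / 11) * (-r - 10 / 11) := by
      apply Complex.ofReal_injective
      push_cast
      linear_combination h1
    nlinarith [sq_nonneg (r + 5 / 11)]

theorem quad_self (u : ℂ) (h1 : u ^ 2 = 1 / 11 + (10 / 11) * u) : u = 1 ∨ u = -1 / 11 := by
  have h5 : (u - 1) * (u + 1 / 11) = 0 := by linear_combination h1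
  rcases mul_eq_zero.1 h5 with h6 | h6
  · left; linear_combination h6
  · right; linear_combination h6

theorem Dat.rel (hG : Nat.card G = 95040) (D : Dat x y s t A m Y a V W σ N0 N1 X B1 B2) [Fintype (normalizer (zpowers x : Set G))] :
    cc B1 = B1 ∧ ∑ h : normalizer (zpowers x : Set G), (B1 : G → ℂ) (h : G) = Nat.card (normalizer (zpowers x : Set G)) ∧
    ∃ C, (C = B1 ∨ C = B2) ∧ ∀ g, cF (B1 : G → ℂ) (normalizer (zpowers x : Set G)) g ^ 2 =
      1 / 11 + (10 / 11) * cF (C : G → ℂ) (normalizer (zpowers x : Set G)) g := by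
  classical
  have := Fintype.ofFinite G
  obtain ⟨hreal, C, hC, hS⟩ := D.symSq hG
  have T := D.T
  have hN : Nat.card (normalizer (zpowers x : Set G)) = 55 := (elt11 hG x T.hx).2.1
  obtain ⟨d0, d1, d2, d3, dY, m0, m1, m2, m3, ha⟩ := T.degs
  have hF : ∀ {C1 C2 : IrrCharacter G}, Dat x y s t A m Y a V W σ N0 N1 X C1 C2 →
      ∑ h : normalizer (zpowers x : Set G), (C1 : G → ℂ) (h : G) = Nat.card (normalizer (zpowers x : Set G)) := by
    intro C1 C2 D'
    rw [D'.T.sumF hG C1 D'.B.out.1 D'.B.out.2.1, D'.d1, D'.V1, hN]; norm_num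
  have hA : ∑ h : normalizer (zpowers x : Set G), (A 1 : G → ℂ) (h : G) = 0 := by
    rw [T.sumF hG (A 1) (T.b.vA 1).1 (T.b.vA 1).2, d1, T.V1, m1]; norm_num
  have hCF : ∑ h : normalizer (zpowers x : Set G), (C : G → ℂ) (h : G) = Nat.card (normalizer (zpowers x : Set G)) := by
    rcases hC with h | h
    · rw [h]; exact hF D
    · rw [h]; exact hF D.symm
  have hCt : C ≠ triv G := by
    rcases hC with h | h
    · rw [h]; exact D.B.ne_block.1
    · rw [h]; exact D.B.symm.ne_block.1
  refine ⟨hreal, hF D, C, hC, fun g => ?_⟩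
  have hinv : ∀ g, (B1 : G → ℂ) g⁻¹ = (B1 : G → ℂ) g := by
    intro g
    rw [← conj_apply, ← cc_apply, hreal]
  have h1 := simplex_rel (F := normalizer (zpowers x : Set G)) B1.2 hinv (hF D) (fun g => 1 + (A 1 : G → ℂ) g + (C : G → ℂ) g)
    (fun g => (hS g).symm) (by
      rw [Finset.sum_add_distrib, Finset.sum_add_distrib, hA, hCF, Finset.sum_const, Finset.card_univ, ← Nat.card_eq_fintype_card,
        nsmul_eq_mul]
      ring) (by
      rw [Finset.sum_add_distrib, Finset.sum_add_distrib, sum_irr (T.b.At 1), sum_irr hCt, Finset.sum_const, Finset.card_univ,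
        ← Nat.card_eq_fintype_card, nsmul_eq_mul]
      ring) g
  have h2 : cF (fun g => 1 + (A 1 : G → ℂ) g + (C : G → ℂ) g) (normalizer (zpowers x : Set G)) g =
      1 + cF (A 1 : G → ℂ) (normalizer (zpowers x : Set G)) g + cF (C : G → ℂ) (normalizer (zpowers x : Set G)) g := by
    have hc := card_ne (normalizer (zpowers x : Set G))
    rw [cF, cF, cF, Finset.sum_add_distrib, Finset.sum_add_distrib, Finset.sum_const, Finset.card_univ, ← Nat.card_eq_fintype_card,
        nsmul_eq_mul]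
    field_simp
  rw [h2, cF_zero _ (A 1).2.isCharacter hA, apply_one, D.d1] at h1
  rw [h1]
  push_cast
  ring

/-- the spherical function takes two values -/
theorem Dat.two_vals (hG : Nat.card G = 95040) (D : Dat x y s t A m Y a V W σ N0 N1 X B1 B2) [Fintype (normalizer (zpowers x : Set G))] :
    ∃ B : IrrCharacter G, cc B = B ∧ deg B = 11 ∧
      ∑ h : normalizer (zpowers x : Set G), (B : G → ℂ) (h : G) = Nat.card (normalizer (zpowers x : Set G)) ∧
      ∀ g, cF (B : G → ℂ) (normalizer (zpowers x : Set G)) g = 1 ∨ cF (B : G → ℂ) (normalizer (zpowers x : Set G)) g = -1 / (11 : ℕ) := by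
  obtain ⟨r1, s1, C1, hC1, h1⟩ := D.rel hG
  obtain ⟨r2, s2, C2, hC2, h2⟩ := D.symm.rel hG
  rcases hC1 with hC1 | hC1
  · refine ⟨B1, r1, D.d1, s1, fun g => ?_⟩
    have := h1 g
    rw [hC1] at this
    push_cast
    exact quad_self _ this
  · rcases hC2 with hC2 | hC2
    · refine ⟨B2, r2, D.d2, s2, fun g => ?_⟩
      have := h2 g
      rw [hC2] at this
      push_cast
      exact quad_self _ this
    · refine ⟨B1, r1, D.d1, s1, fun g => ?_⟩
      have e1 := h1 g
      have e2 := h2 g
      rw [hC1] at e1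
      rw [hC2] at e2
      push_cast
      have hreal : conj (cF (B1 : G → ℂ) (normalizer (zpowers x : Set G)) g) = cF (B1 : G → ℂ) (normalizer (zpowers x : Set G)) g := by
        rw [cF, map_mul, map_sum, map_inv₀, Complex.conj_natCast]
        congr 1
        refine Finset.sum_congr rfl fun h _ => ?_
        rw [← cc_apply, r1]
      obtain ⟨r, hr⟩ := Complex.conj_eq_iff_real.1 hreal
      exact quad_real _ _ r hr e1 e2

/-- a subgroup of index 12 -/
theorem exists_H (hG : Nat.card G = 95040) : ∃ (x y : G) (H : Subgroup G), orderOf x = 11 ∧ normalizer (zpowers x : Set G) ≤ H ∧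
    Nat.card H = 7920 ∧ orderOf y = 5 ∧ Nat.card (normalizer (zpowers y : Set G)) = 40 := by
  classical
  obtain ⟨x, y, s, A, m, Y, a, V, W, σ, N0, N1, X, T⟩ := exists_tot hG
  obtain ⟨t, B1, B2, D⟩ := exists_dat hG T
  letI : Fintype (normalizer (zpowers x : Set G)) := Fintype.ofFinite _
  obtain ⟨B, hB, hd, hs, h2⟩ := D.two_vals hG
  obtain ⟨H, h3, h4, h5⟩ := exists_subgroup B.2 (fun g => by rw [← conj_apply, ← cc_apply, hB]) (d := 11) (by rw [apply_one, hd])
    (by norm_num) hs h2
  exact ⟨x, y, H, T.hx, h3, by rw [hG] at h4; omega, T.F.ys.hy, T.F.ys.Ny⟩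

end Cfsg.Agent.Lib.M12ByOrder
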