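import Mathlib
import Cfsg.Agent.Lib.SmallSimple3
import Cfsg.Agent.Lib.CoprimeAction
import Cfsg.Agent.Lib.ConjSylow

/-!
# Tools for the recognition by element counts (helper7)
-/

set_option autoImplicit false

namespace Cfsg.Agent.Lib.NseTools

open Subgroup

universe u

variable {G : Type u} [Group G] [Finite G]

/-- elements of order `p` and Sylow subgroups of order `p` -/
theorem card_order_prime {p : ℕ} [hp : Fact p.Prime] (hP : ∀ P : Sylow p G, Nat.card P = p) :
    Nat.card {g : G // orderOf g = p} = Nat.card (Sylow p G) * (p - 1) := by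
  classical
  let f : (Σ P : Sylow p G, {x : (P : Subgroup G) // x ≠ 1}) → {g : G // orderOf g = p} := fun s =>
    ⟨(s.2.1 : G), by
      rw [Subgroup.orderOf_coe]
      have h1 : orderOf s.2.1 ∣ p := by
        have := orderOf_dvd_natCard s.2.1
        rwa [show Nat.card (s.1 : Subgroup G) = p from hP s.1] at this
      rcases (Nat.dvd_prime hp.out).1 h1 with h | h
      · exact absurd (orderOf_eq_one_iff.1 h) s.2.2
      · exact h⟩
  have hgen : ∀ (P : Sylow p G) (x : G), x ∈ (P : Subgroup G) → orderOf x = p → zpowers x = (P : Subgroup G) := by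
    intro P x hx ho
    apply eq_of_le_of_card_ge
    · rwa [zpowers_le]
    · rw [Nat.card_zpowers, ho]; exact (hP P).le
  have hf : Function.Bijective f := by
    constructor
    · rintro ⟨P, x, hx⟩ ⟨Q, y, hy⟩ h
      have hxy : (x : G) = (y : G) := congrArg Subtype.val h
      have hox : orderOf (x : G) = p := (f ⟨P, x, hx⟩).2
      have h1 := hgen P x x.2 hox
      have h2 := hgen Q y y.2 (by rw [← hxy]; exact hox)
      have hPQ : P = Q := by
        apply Sylow.ext
        rw [← h1, ← h2, hxy]
      subst hPQ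
      have : x = y := Subtype.ext hxy
      subst this
      rfl
    · rintro ⟨g, hg⟩
      have hgp : IsPGroup p (zpowers g) := by
        apply IsPGroup.of_card (n := 1)
        rw [Nat.card_zpowers, hg, pow_one]
      obtain ⟨P, hPle⟩ := hgp.exists_le_sylow
      refine ⟨⟨P, ⟨⟨g, hPle (mem_zpowers g)⟩, ?_⟩⟩, rfl⟩
      intro h
      have : g = 1 := congrArg Subtype.val h
      rw [this, orderOf_one] at hg
      exact hp.out.one_lt.ne hg
  rw [← Nat.card_congr (Equiv.ofBijective f hf)]
  have : Fintype (Sylow p G) := Fintype.ofFinite _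
  rw [Nat.card_sigma]
  have h3 : ∀ P : Sylow p G, Nat.card {x : (P : Subgroup G) // x ≠ 1} = p - 1 := by
    intro P
    have : Fintype (P : Subgroup G) := Fintype.ofFinite _
    rw [Nat.card_eq_fintype_card, Fintype.card_subtype_compl (fun x : (P : Subgroup G) => x = 1), Fintype.card_subtype_eq,
      ← Nat.card_eq_fintype_card, hP P]
  rw [Finset.sum_congr rfl (fun P _ => h3 P), Finset.sum_const, Finset.card_univ, smul_eq_mul, Nat.card_eq_fintype_card]

/-- a `p`-group acting fixed-point-freely on a normal `p'`-subgroup -/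
theorem modEq_of_fpf {p : ℕ} [Fact p.Prime] (P K : Subgroup G) (hP : IsPGroup p P) (hs : Group.IsSolvable P)
    (hPK : P ≤ normalizer (K : Set G)) (hK : ¬ p ∣ Nat.card K)
    (hC : ∀ x ∈ K, (∀ y ∈ P, y * x = x * y) → x = 1) (r : ℕ) [Fact r.Prime] :
    r ^ (Nat.card K).factorization r ≡ 1 [MOD p] := by
  classical
  have hcop : (Nat.card P).Coprime (Nat.card K) := by
    obtain ⟨n, hn⟩ := IsPGroup.iff_card.1 hP
    rw [hn]
    exact Nat.Coprime.pow_left _ ((Nat.Prime.coprime_iff_not_dvd Fact.out).2 hK)
  obtain ⟨Q, hQK, hQr, hQi, hQn⟩ := Cfsg.Agent.Lib.CoprimeAction.exists_invariant_sylow hPK hcop (Or.inl hs) r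
  have hcard : Nat.card Q = r ^ (Nat.card K).factorization r := by
    obtain ⟨S, hS⟩ := Cfsg.Agent.Lib.CoprimeAction.exists_sylow_map_subtype_eq hQK hQr hQi
    rw [← S.card_eq_multiplicity, ← hS]
    exact Nat.card_congr (Subgroup.equivMapOfInjective (S : Subgroup K) K.subtype K.subtype_injective).toEquiv.symm
  rw [← hcard]
  let act : MulAction P Q :=
    { smul := fun g q => ⟨(g : G) * q * (g : G)⁻¹, (mem_normalizer_iff.1 (hQn g.2) q).1 q.2⟩
      one_smul := fun q => Subtype.ext (by change (1 : G) * q * (1 : G)⁻¹ = q; simp)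
      mul_smul := fun g h q => Subtype.ext (by
        change ((g : G) * h) * q * ((g : G) * h)⁻¹ = (g : G) * ((h : G) * q * (h : G)⁻¹) * (g : G)⁻¹
        group) }
  have h1 := hP.card_modEq_card_fixedPoints Q
  have h2 : Nat.card (MulAction.fixedPoints P Q) = 1 := by
    rw [Nat.card_eq_one_iff_exists]
    refine ⟨⟨1, fun g => Subtype.ext (by change (g : G) * (1 : G) * (g : G)⁻¹ = 1; simp)⟩, ?_⟩
    rintro ⟨q, hq⟩
    apply Subtype.ext
    apply Subtype.ext
    apply hC q (hQK q.2)
    intro y hy
    have h3 : ((⟨y, hy⟩ : P) • q : Q) = q := hq ⟨y, hy⟩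
    have h4 : y * (q : G) * y⁻¹ = (q : G) := congrArg Subtype.val h3
    calc y * (q : G) = y * (q : G) * y⁻¹ * y := by group
      _ = q * y := by rw [h4]
  rw [h2] at h1
  exact h1

theorem card_sylow_prime {p m : ℕ} [hp : Fact p.Prime] (hG : Nat.card G = p * m) (hm : ¬ p ∣ m) (P : Sylow p G) :
    Nat.card P = p := by
  obtain ⟨n, hn⟩ := IsPGroup.iff_card.1 P.isPGroup'
  have h1 : Nat.card (P : Subgroup G) = p ^ n := hn
  have h2 : p ∣ Nat.card (P : Subgroup G) := P.dvd_card_of_dvd_card (by rw [hG]; exact dvd_mul_right _ _)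
  have h4 : n ≤ 1 := by
    by_contra hn1
    have h5 : p ^ 2 ∣ p * m := by
      rw [← hG]
      exact ((pow_dvd_pow p (by omega : 2 ≤ n)).trans (dvd_of_eq h1.symm)).trans (card_subgroup_dvd_card _)
    rw [pow_two] at h5
    exact hm (Nat.dvd_of_mul_dvd_mul_left hp.out.pos h5)
  change Nat.card (P : Subgroup G) = p
  interval_cases n
  · rw [h1, pow_zero, Nat.dvd_one] at h2
    exact absurd h2 hp.out.ne_one
  · rw [h1, pow_one]

theorem card_sylow_mul {p : ℕ} [hp : Fact p.Prime] (P : Sylow p G) :
    Nat.card (Sylow p G) * Nat.card (normalizer ((P : Subgroup G) : Set G)) = Nat.card G := by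
  rw [P.card_eq_index_normalizer, mul_comm]
  exact card_mul_index _

/-- the order equation of the Frattini argument -/
theorem frattini_card {p : ℕ} [Fact p.Prime] (N : Subgroup G) [hN : N.Normal] (P : Sylow p G) (hP : (P : Subgroup G) ≤ N) :
    Nat.card G * Nat.card ↥(normalizer ((P : Subgroup G) : Set G) ⊓ N) =
      Nat.card (normalizer ((P : Subgroup G) : Set G)) * Nat.card N := by
  have h1 : normalizer ((P : Subgroup G) : Set G) ⊔ N = ⊤ := Sylow.normalizer_sup_eq_top' P hP
  have h2 := Cfsg.Agent.Lib.ConjSylow.card_sup_mul_card_inf (H := normalizer ((P : Subgroup G) : Set G)) (K := N)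
    (by rw [normalizer_eq_top_iff.2 hN]; exact le_top)
  rw [h1, card_top] at h2
  exact h2

/-- a Sylow subgroup of prime order lies in each normal subgroup of order divisible by the prime -/
theorem sylow_le_normal {p : ℕ} [hp : Fact p.Prime] (hP : ∀ P : Sylow p G, Nat.card P = p) (N : Subgroup G) [hN : N.Normal]
    (hd : p ∣ Nat.card N) (P : Sylow p G) : (P : Subgroup G) ≤ N := by
  obtain ⟨x, hx⟩ := exists_prime_orderOf_dvd_card' p hd
  have hx' : orderOf (x : G) = p := by rw [Subgroup.orderOf_coe]; exact hx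
  have hgp : IsPGroup p (zpowers (x : G)) := by
    apply IsPGroup.of_card (n := 1)
    rw [Nat.card_zpowers, hx', pow_one]
  obtain ⟨Q, hQle⟩ := hgp.exists_le_sylow
  have hQ : zpowers (x : G) = (Q : Subgroup G) := by
    apply eq_of_le_of_card_ge hQle
    rw [Nat.card_zpowers, hx']; exact (hP Q).le
  have hQN : (Q : Subgroup G) ≤ N := by
    rw [← hQ, zpowers_le]; exact x.2
  obtain ⟨g, hg⟩ := MulAction.exists_smul_eq G Q P
  rw [← hg]
  intro y hy
  have hy' : y ∈ ((g • Q : Sylow p G) : Subgroup G) := hy
  rw [Sylow.coe_subgroup_smul, mem_pointwise_smul_iff_inv_smul_mem, ← map_inv] at hy'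
  have h1 : g⁻¹ * y * (g⁻¹)⁻¹ ∈ N := hQN hy'
  have h2 := hN.conj_mem _ h1 g
  have h3 : g * (g⁻¹ * y * (g⁻¹)⁻¹) * g⁻¹ = y := by group
  rwa [h3] at h2

/-- a recognition criterion for simplicity -/
theorem isSimple_of_normalizers {p q : ℕ} [hp : Fact p.Prime] [hq : Fact q.Prime] (hpq : p ≠ q)
    (hP : ∀ P : Sylow p G, Nat.card (normalizer ((P : Subgroup G) : Set G)) = p * q)
    (hQc : ∀ Q : Sylow q G, Nat.card Q = q)
    (hQ : ∀ Q : Sylow q G, ¬ p ∣ Nat.card (normalizer ((Q : Subgroup G) : Set G)))
    (hr : ∀ r k : ℕ, r.Prime → r ≠ p → r ≠ q → 0 < k → r ^ k ∣ Nat.card G → ¬ r ^ k ≡ 1 [MOD p])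
    (hlt : p * q < Nat.card G) : IsSimpleGroup G := by
  classical
  have hpd : p ∣ Nat.card G := by
    obtain ⟨P⟩ : Nonempty (Sylow p G) := inferInstance
    exact (Dvd.intro _ (hP P).symm).trans (card_subgroup_dvd_card _)
  have hPc : ∀ P : Sylow p G, Nat.card P = p := by
    intro P
    have h1 : Nat.card (P : Subgroup G) ∣ p * q := by
      rw [← hP P]; exact card_dvd_of_le le_normalizer
    obtain ⟨n, hn⟩ := IsPGroup.iff_card.1 P.isPGroup'
    have h2 : p ∣ Nat.card (P : Subgroup G) := P.dvd_card_of_dvd_card hpd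
    have h3 : Nat.card (P : Subgroup G) = p ^ n := hn
    have h4 : n ≤ 1 := by
      by_contra hn1
      have h5 : p ^ 2 ∣ p * q := (pow_dvd_pow p (by omega : 2 ≤ n)).trans (h3 ▸ h1)
      rw [pow_two] at h5
      have h6 : p ∣ q := Nat.dvd_of_mul_dvd_mul_left hp.out.pos h5
      exact hpq ((Nat.prime_dvd_prime_iff_eq hp.out hq.out).1 h6)
    interval_cases n
    · rw [h3, pow_zero, Nat.dvd_one] at h2
      exact absurd h2 hp.out.ne_one
    · rw [pow_one] at h3; exact h3
  -- normal subgroups of order prime to `p`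
  have key : ∀ N : Subgroup G, N.Normal → ¬ p ∣ Nat.card N → N = ⊥ := by
    intro N hN hpN
    have hqN : ¬ q ∣ Nat.card N := by
      intro hd
      obtain ⟨Q⟩ : Nonempty (Sylow q G) := inferInstance
      have h1 := frattini_card N Q (sylow_le_normal hQc N hd Q)
      have h2 : p ∣ Nat.card (normalizer ((Q : Subgroup G) : Set G)) * Nat.card N := by
        rw [← h1]; exact hpd.mul_right _
      rcases hp.out.dvd_mul.1 h2 with h | h
      · exact hQ Q h
      · exact hpN h
    obtain ⟨P⟩ : Nonempty (Sylow p G) := inferInstance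
    have hsP : Group.IsSolvable (P : Subgroup G) := by
      have : IsCyclic (P : Subgroup G) := isCyclic_of_prime_card (hPc P)
      infer_instance
    have hC : ∀ x ∈ N, (∀ y ∈ (P : Subgroup G), y * x = x * y) → x = 1 := by
      intro x hx hy
      have h1 : x ∈ normalizer ((P : Subgroup G) : Set G) := by
        rw [mem_normalizer_iff]
        intro y
        constructor
        · intro h
          have := hy y h
          rw [← this]; simpa using h
        · intro h
          have := hy _ h
          have h2 : y = x * y * x⁻¹ := by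
            have h3 : x * y * x⁻¹ * x = x * (x * y * x⁻¹) := this
            have h4 : x * y = x * (x * y * x⁻¹) := by rw [← h3]; group
            exact mul_left_cancel h4
          rw [h2]; exact h
      have h2 : orderOf x ∣ p * q := by
        rw [← hP P]
        have := orderOf_dvd_natCard (⟨x, h1⟩ : normalizer ((P : Subgroup G) : Set G))
        rwa [Subgroup.orderOf_mk] at this
      have h3 : orderOf x ∣ Nat.card N := by
        have := orderOf_dvd_natCard (⟨x, hx⟩ : N)
        rwa [Subgroup.orderOf_mk] at this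
      have h4 : (p * q).Coprime (Nat.card N) :=
        Nat.Coprime.mul_left ((Nat.Prime.coprime_iff_not_dvd hp.out).2 hpN) ((Nat.Prime.coprime_iff_not_dvd hq.out).2 hqN)
      exact orderOf_eq_one_iff.1 (Nat.eq_one_of_dvd_coprimes h4 h2 h3)
    by_contra hne
    have h1 : Nat.card N ≠ 1 := fun h => hne (card_eq_one.1 h)
    obtain ⟨r, hrp, hrd⟩ := Nat.exists_prime_and_dvd h1
    have : Fact r.Prime := ⟨hrp⟩
    have h2 := modEq_of_fpf (P : Subgroup G) N P.isPGroup' hsP (by rw [normalizer_eq_top_iff.2 hN]; exact le_top) hpN hC r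
    refine hr r _ hrp ?_ ?_ ?_ ?_ h2
    · rintro rfl; exact hpN hrd
    · rintro rfl; exact hqN hrd
    · exact (hrp.dvd_iff_one_le_factorization Nat.card_pos.ne').1 hrd
    · exact (Nat.ordProj_dvd _ _).trans (card_subgroup_dvd_card N)
  have hnt : Nontrivial G := by
    rw [← Finite.one_lt_card_iff_nontrivial]
    have := Nat.mul_pos hp.out.pos hq.out.pos
    omega
  refine ⟨fun N hN => ?_⟩
  by_cases hpN : p ∣ Nat.card N
  swap
  · exact Or.inl (key N hN hpN)
  right
  obtain ⟨P⟩ : Nonempty (Sylow p G) := inferInstance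
  have hPN := sylow_le_normal hPc N hpN P
  have h1 := frattini_card N P hPN
  rw [hP P] at h1
  have hle : (P : Subgroup G) ≤ normalizer ((P : Subgroup G) : Set G) ⊓ N := le_inf le_normalizer hPN
  obtain ⟨m, hm⟩ := card_dvd_of_le hle
  rw [show Nat.card (P : Subgroup G) = p from hPc P] at hm
  have h3 : Nat.card ↥(normalizer ((P : Subgroup G) : Set G) ⊓ N) ∣ p * q := by
    rw [← hP P]; exact card_dvd_of_le inf_le_left
  have hmq : m ∣ q := by
    rw [hm] at h3
    exact Nat.dvd_of_mul_dvd_mul_left hp.out.pos h3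
  rcases (Nat.dvd_prime hq.out).1 hmq with h | h
  · -- index `q`
    exfalso
    rw [hm, h, mul_one, mul_assoc, mul_comm] at h1
    have h5 : Nat.card G = q * Nat.card N := Nat.eq_of_mul_eq_mul_left hp.out.pos h1
    -- the Sylow subgroup of `N`
    let PN : Sylow p N := P.subtype hPN
    have hPNc : Nat.card (PN : Subgroup N) = p := by
      have : (PN : Subgroup N) = (P : Subgroup G).subgroupOf N := rfl
      rw [this, Nat.card_congr (subgroupOfEquivOfLe hPN).toEquiv]
      exact hPc P
    have hcomm : IsMulCommutative (PN : Subgroup N) := by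
      have : IsCyclic (PN : Subgroup N) := isCyclic_of_prime_card hPNc
      infer_instance
    have hnc : normalizer ((PN : Subgroup N) : Set N) ≤ centralizer ((PN : Subgroup N) : Set N) := by
      have h6 : (PN : Subgroup N) = normalizer ((PN : Subgroup N) : Set N) := by
        apply eq_of_le_of_card_ge le_normalizer
        rw [hPNc]
        have h7 : (normalizer ((PN : Subgroup N) : Set N)).map N.subtype ≤ normalizer ((P : Subgroup G) : Set G) ⊓ N := by
          rintro _ ⟨x, hx, rfl⟩
          refine ⟨?_, x.2⟩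
          rw [SetLike.mem_coe, mem_normalizer_iff] at hx
          change (x : G) ∈ normalizer ((P : Subgroup G) : Set G)
          rw [mem_normalizer_iff]
          intro y
          constructor
          · intro hy
            have := (hx ⟨y, hPN hy⟩).1 (by exact hy)
            exact this
          · intro hy
            have hyN : y ∈ N := by
              have h8 : (x : G) * y * (x : G)⁻¹ ∈ N := hPN hy
              have h9 := hN.conj_mem _ h8 (x : G)⁻¹
              have h10 : (x : G)⁻¹ * ((x : G) * y * (x : G)⁻¹) * ((x : G)⁻¹)⁻¹ = y := by group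
              rwa [h10] at h9
            exact (hx ⟨y, hyN⟩).2 hy
        calc Nat.card (normalizer ((PN : Subgroup N) : Set N)) =
              Nat.card ((normalizer ((PN : Subgroup N) : Set N)).map N.subtype) :=
              Nat.card_congr (Subgroup.equivMapOfInjective _ N.subtype N.subtype_injective).toEquiv
          _ ≤ Nat.card ↥(normalizer ((P : Subgroup G) : Set G) ⊓ N) := card_le_of_le h7
          _ = p := by rw [hm, h, mul_one]
      rw [← h6]
      exact le_centralizer _
    obtain ⟨M, hMc, hMcomp, hMp⟩ := Cfsg.Agent.Lib.SmallSimple.exists_characteristic_complement PN hnc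
    have hMcard : Nat.card M * p = Nat.card N := by
      rw [← hPNc]; exact hMcomp.card_mul_card
    have hMn : (M.map N.subtype).Normal := ConjAct.normal_of_characteristic_of_normal
    have hMcard' : Nat.card (M.map N.subtype) = Nat.card M :=
      (Nat.card_congr (Subgroup.equivMapOfInjective _ N.subtype N.subtype_injective).toEquiv).symm
    have := key _ hMn (by rw [hMcard']; exact hMp)
    rw [← card_eq_one, hMcard'] at this
    rw [this, one_mul] at hMcard
    rw [← hMcard, mul_comm] at h5
    omega
  · rw [hm, h, mul_comm] at h1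
    exact eq_top_of_card_eq N (Nat.eq_of_mul_eq_mul_left (Nat.mul_pos hp.out.pos hq.out.pos) h1).symm

end Cfsg.Agent.Lib.NseTools
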