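import Mathlib
import Cfsg.Agent.Lib.M12O
import Cfsg.Agent.Lib.NseTools
import Cfsg.Agent.Lib.M11Unique

/-!
# Simple groups of order 95040, part P: subgroups of order 7920 (helper7)
-/

set_option autoImplicit false
set_option linter.all false

namespace Cfsg.Agent.Lib.M12ByOrder

open Subgroup Cfsg Cfsg.Agent.Lib.CharBasic Cfsg.Agent.Lib.ColTools Cfsg.Agent.Lib.SmallSimple
  Cfsg.Agent.Lib.NseTools Cfsg.Agent.Lib.M11ByOrder Cfsg.Agent.Lib.SharpFour

universe u

theorem primes7920 (r : ℕ) (hr : r.Prime) (h : r ∣ 7920) : r = 2 ∨ r = 3 ∨ r = 5 ∨ r = 11 := by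
  rw [show 7920 = 2 ^ 4 * (3 ^ 2 * (5 * 11)) by norm_num, hr.dvd_mul, hr.dvd_mul, hr.dvd_mul] at h
  rcases h with h | h | h | h
  · left; exact (Nat.prime_dvd_prime_iff_eq hr Nat.prime_two).1 (hr.dvd_of_dvd_pow h)
  · right; left; exact (Nat.prime_dvd_prime_iff_eq hr Nat.prime_three).1 (hr.dvd_of_dvd_pow h)
  · right; right; left; exact (Nat.prime_dvd_prime_iff_eq hr Nat.prime_five).1 h
  · right; right; right; exact (Nat.prime_dvd_prime_iff_eq hr (by norm_num)).1 h

theorem two_mod11 (k : ℕ) (hk : 0 < k) (h : 2 ^ k ∣ 95040) : ¬ 2 ^ k ≡ 1 [MOD 11] := by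
  have h4 : k ≤ 6 := by
    by_contra hk
    have : 2 ^ 7 ∣ 95040 := (pow_dvd_pow 2 (by omega)).trans h
    revert this; decide
  interval_cases k <;> decide

theorem three_mod11 (k : ℕ) (hk : 0 < k) (h : 3 ^ k ∣ 95040) : ¬ 3 ^ k ≡ 1 [MOD 11] := by
  have h4 : k ≤ 3 := by
    by_contra hk
    have : 3 ^ 4 ∣ 95040 := (pow_dvd_pow 3 (by omega)).trans h
    revert this; decide
  interval_cases k <;> decide

variable {G : Type u} [Group G] [Finite G]

/-- normalizers in subgroups -/
theorem card_normalizer_dvd (H : Subgroup G) (P : Subgroup H) :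
    Nat.card (normalizer (P : Set H)) ∣ Nat.card (normalizer ((P.map H.subtype : Subgroup G) : Set G)) := by
  have h1 : Nat.card (normalizer (P : Set H)) = Nat.card ((normalizer (P : Set H)).map H.subtype) :=
    Nat.card_congr (Subgroup.equivMapOfInjective _ _ H.subtype_injective).toEquiv
  rw [h1]
  exact card_dvd_of_le (le_normalizer_map _)

variable [IsSimpleGroup G]

/-- subgroups of order 7920 are simple -/
theorem simple_of_7920 (hG : Nat.card G = 95040) (H : Subgroup G) (hH : Nat.card H = 7920) : IsSimpleGroup H := by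
  have i11 : Fact (Nat.Prime 11) := ⟨by norm_num⟩
  have i5 : Fact (Nat.Prime 5) := ⟨by norm_num⟩
  obtain ⟨x, y, H0, hx, hH0, hH0c, hy, hNy⟩ := exists_H hG
  have c11 : ∀ P : Sylow 11 H, Nat.card P = 11 := card_sylow_prime (m := 720) (by rw [hH]) (by norm_num)
  have c5 : ∀ P : Sylow 5 H, Nat.card P = 5 := card_sylow_prime (m := 1584) (by rw [hH]) (by norm_num)
  have c5G : ∀ P : Sylow 5 G, Nat.card P = 5 := card_sylow_prime (m := 19008) (by rw [hG]) (by norm_num)
  have n11 : ∀ P : Sylow 11 H, Nat.card (normalizer ((P : Subgroup H) : Set H)) = 55 := by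
    intro P
    -- the image is generated by an element of order 11
    have hc : Nat.card ((P : Subgroup H).map H.subtype) = 11 := by
      rw [← Nat.card_congr (Subgroup.equivMapOfInjective (P : Subgroup H) _ H.subtype_injective).toEquiv]
      exact c11 P
    obtain ⟨⟨z, hzm⟩, hz⟩ := exists_prime_orderOf_dvd_card' (G := (P : Subgroup H).map H.subtype) 11 (by rw [hc])
    rw [Subgroup.orderOf_mk] at hz
    have hzz : zpowers z = (P : Subgroup H).map H.subtype := by
      apply eq_of_le_of_card_ge (zpowers_le.2 hzm)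
      rw [Nat.card_zpowers, hz, hc]
    have h1 := card_normalizer_dvd H (P : Subgroup H)
    rw [← hzz, (elt11 hG z hz).2.1] at h1
    have h2 : 11 ∣ Nat.card (normalizer ((P : Subgroup H) : Set H)) := by
      have := card_dvd_of_le (le_normalizer (H := (P : Subgroup H)))
      rwa [show Nat.card (P : Subgroup H) = 11 from c11 P] at this
    have h3 := card_sylow_mul P
    have h4 := card_sylow_modEq_one 11 H
    rw [hH] at h3
    obtain ⟨k, hk⟩ := h2
    rw [hk, show 55 = 11 * 5 by norm_num] at h1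
    have h5 : k ∣ 5 := Nat.dvd_of_mul_dvd_mul_left (by norm_num) h1
    rcases (Nat.dvd_prime (by norm_num)).1 h5 with h6 | h6
    · rw [hk, h6] at h3
      have h7 : Nat.card (Sylow 11 H) = 720 := by omega
      rw [h7] at h4
      exact absurd h4 (by decide)
    · rw [hk, h6]
  have n5 : ∀ Q : Sylow 5 H, ¬ 11 ∣ Nat.card (normalizer ((Q : Subgroup H) : Set H)) := by
    intro Q h11
    have h1 := card_normalizer_dvd H (Q : Subgroup H)
    -- the image is a Sylow subgroup of `G`, conjugate to `⟨y⟩`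
    have hc : Nat.card ((Q : Subgroup H).map H.subtype) = 5 := by
      rw [← Nat.card_congr (Subgroup.equivMapOfInjective (Q : Subgroup H) _ H.subtype_injective).toEquiv]
      exact c5 Q
    have key : ∀ K : Subgroup G, Nat.card K = 5 → ∃ P : Sylow 5 G, (P : Subgroup G) = K := by
      intro K hK
      have hp : IsPGroup 5 K := IsPGroup.of_card (n := 1) (by rw [hK, pow_one])
      obtain ⟨P, hP⟩ := hp.exists_le_sylow
      refine ⟨P, (eq_of_le_of_card_ge hP ?_).symm⟩
      rw [hK]; exact (c5G P).le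
    obtain ⟨P1, hP1⟩ := key _ hc
    obtain ⟨P2, hP2⟩ := key (zpowers y) (by rw [Nat.card_zpowers, hy])
    have e1 := card_sylow_mul P1
    have e2 := card_sylow_mul P2
    rw [hP2, hNy, ← e1] at e2
    have hpos : 0 < Nat.card (Sylow 5 G) := Nat.card_pos
    have e3 : Nat.card (normalizer ((P1 : Subgroup G) : Set G)) = 40 := (Nat.eq_of_mul_eq_mul_left hpos e2).symm
    rw [hP1] at e3
    rw [e3] at h1
    have := h11.trans h1
    revert this; decide
  refine isSimple_of_normalizers (p := 11) (q := 5) (by decide) n11 c5 n5 ?_ (by rw [hH]; norm_num)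
  intro r k hr h11 h5 hk hd
  rw [hH] at hd
  have hr' : r ∣ 7920 := (dvd_pow_self r hk.ne').trans hd
  have hd' : r ^ k ∣ 95040 := hd.trans (by norm_num)
  rcases primes7920 r hr hr' with h | h | h | h
  · subst h; exact two_mod11 k hk hd'
  · subst h; exact three_mod11 k hk hd'
  · exact absurd h h5
  · exact absurd h h11

end Cfsg.Agent.Lib.M12ByOrder
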