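import Mathlib
import Cfsg.Agent.Lib.SharpFour
import Cfsg.Agent.Lib.S5612Aut

/-!
# Groups acting sharply 5-transitively on 12 points preserve a Steiner system (helper7)
-/

set_option autoImplicit false
set_option linter.all false

namespace Cfsg.Agent.Lib.SharpFive

open Cfsg Cfsg.Agent.Lib.SharpFour MulAction SubMulAction

universe u v

variable {G : Type u} {Ω : Type v} [Group G] [MulAction G Ω] [Fintype Ω] [DecidableEq Ω]

noncomputable local instance instFS (q : Ω) : Fintype (ofStabilizer G q) := Fintype.ofFinite _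
noncomputable local instance instDS (q : Ω) : DecidableEq (ofStabilizer G q) := Classical.decEq _

/-- the standing hypotheses -/
structure Act12 (G : Type u) (Ω : Type v) [Group G] [MulAction G Ω] [Fintype Ω] [DecidableEq Ω] : Prop where
  fin : Finite G
  cardG : Nat.card G = 95040
  cardΩ : Fintype.card Ω = 12
  hyp : ∀ q : Ω, Hyp (stabilizer G q) (ofStabilizer G q)
  faith : ∀ g : G, (∀ p : Ω, g • p = p) → g = 1

/-- the set without the point `q` -/
noncomputable def TT (G : Type u) {Ω : Type v} [Group G] [MulAction G Ω] (q : Ω) (F : Finset Ω) : Finset (ofStabilizer G q) := by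
  classical
  exact F.subtype (fun p => p ∈ ofStabilizer G q)

theorem mem_TT {q : Ω} {F : Finset Ω} {p : ofStabilizer G q} : p ∈ TT G q F ↔ (p : Ω) ∈ F := by
  classical
  unfold TT
  rw [Finset.mem_subtype]

theorem card_TT {q : Ω} {F : Finset Ω} (hq : q ∈ F) : (TT G q F).card = F.card - 1 := by
  classical
  unfold TT
  rw [Finset.card_subtype, ← Finset.card_erase_of_mem hq]
  congr 1
  ext p
  rw [Finset.mem_filter, Finset.mem_erase, mem_ofStabilizer_iff, and_comm]

variable (G) in
/-- `p` is fixed by the double transpositions of `F \ q` -/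
def E6 (F : Finset Ω) (q p : Ω) : Prop :=
  p ∉ F ∧ ∀ v : G, v • q = q → v * v = 1 → (∀ r ∈ F, r ≠ q → v • r ∈ F ∧ v • r ≠ r) → v • p = p

theorem E6_iff {F : Finset Ω} {q p : Ω} (hq : q ∈ F) :
    E6 G F q p ↔ ∃ hp : p ∈ ofStabilizer G q, Ext (stabilizer G q) (TT G q F) ⟨p, hp⟩ := by
  constructor
  · rintro ⟨h1, h2⟩
    have hpq : p ∈ ofStabilizer G q := by
      rw [mem_ofStabilizer_iff]
      intro h; exact h1 (h ▸ hq)
    refine ⟨hpq, ?_, ?_⟩
    · rw [mem_TT]; exact h1
    · intro v hv
      apply Subtype.ext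
      show (v : G) • p = p
      refine h2 v v.2 (congrArg Subtype.val hv.1) ?_
      intro r hr hrq
      have h3 := hv.2 ⟨r, (mem_ofStabilizer_iff G q).2 hrq⟩ (mem_TT.2 hr)
      refine ⟨mem_TT.1 h3.1, fun h4 => h3.2 (Subtype.ext h4)⟩
  · rintro ⟨hp, h1, h2⟩
    rw [mem_TT] at h1
    refine ⟨h1, ?_⟩
    intro v hvq hvv hv
    have h3 := h2 ⟨v, hvq⟩ ⟨Subtype.ext hvv, ?_⟩
    · exact congrArg Subtype.val h3
    · intro r hr
      have h4 := hv r (mem_TT.1 hr) ((mem_ofStabilizer_iff G q).1 r.2)
      refine ⟨mem_TT.2 h4.1, fun h5 => h4.2 (congrArg Subtype.val h5)⟩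

theorem E6.smul {F : Finset Ω} {q p : Ω} (h : E6 G F q p) (g : G) : E6 G (F.image (g • ·)) (g • q) (g • p) := by
  refine ⟨?_, ?_⟩
  · intro hp
    rw [Finset.mem_image] at hp
    obtain ⟨r, hr, hrp⟩ := hp
    exact h.1 (by rwa [← MulAction.injective g hrp])
  · intro v hvq hvv hv
    have h1 := h.2 (g⁻¹ * v * g) (by rw [mul_smul, mul_smul, hvq, inv_smul_smul]) (by
      calc g⁻¹ * v * g * (g⁻¹ * v * g) = g⁻¹ * (v * v) * g := by group
        _ = 1 := by rw [hvv]; group) (by
      intro r hr hrq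
      have h2 := hv (g • r) (Finset.mem_image_of_mem _ hr) (fun e => hrq (MulAction.injective g e))
      obtain ⟨h3, h4⟩ := h2
      rw [Finset.mem_image] at h3
      obtain ⟨r', hr', hrr⟩ := h3
      have e1 : (g⁻¹ * v * g) • r = r' := by
        rw [mul_smul, mul_smul]
        show g⁻¹ • (v • (g • r)) = r'
        rw [← hrr]
        exact inv_smul_smul g r'
      rw [e1]
      refine ⟨hr', fun e => h4 ?_⟩
      rw [← hrr, e])
    rw [mul_smul, mul_smul, inv_smul_eq_iff] at h1
    exact h1

variable (h : Act12 G Ω)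

include h

theorem Act12.le4 {g : G} (hg : g ≠ 1) : (fx (Ω := Ω) g).card ≤ 4 := by
  classical
  by_cases hn : (fx (Ω := Ω) g).Nonempty
  · obtain ⟨q, hq⟩ := hn
    rw [mem_fx] at hq
    have h1 := (h.hyp q).le3 ⟨g, hq⟩ (fun e => hg (congrArg Subtype.val e))
    have h2 : (fx (Ω := Ω) g).card ≤ (insert q ((fx (Ω := ofStabilizer G q) (⟨g, hq⟩ : stabilizer G q)).map (Function.Embedding.subtype _))).card := by
      apply Finset.card_le_card
      intro p hp
      rw [mem_fx] at hp
      rw [Finset.mem_insert]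
      by_cases hpq : p = q
      · exact Or.inl hpq
      · right
        rw [Finset.mem_map]
        refine ⟨⟨p, (mem_ofStabilizer_iff G q).2 hpq⟩, ?_, rfl⟩
        rw [mem_fx]
        exact Subtype.ext hp
    have h3 := Finset.card_insert_le q ((fx (Ω := ofStabilizer G q) (⟨g, hq⟩ : stabilizer G q)).map (Function.Embedding.subtype _))
    rw [Finset.card_map] at h3
    omega
  · rw [Finset.not_nonempty_iff_eq_empty] at hn
    rw [hn]; simp

theorem Act12.exists_E6 {F : Finset Ω} (hF : F.card = 5) {q : Ω} (hq : q ∈ F) : ∃! p, E6 G F q p := by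
  classical
  have h1 := (h.hyp q).exists_ext' (T := TT G q F) (by rw [card_TT hq, hF])
  obtain ⟨p, hp, hpu⟩ := h1
  refine ⟨p, (E6_iff hq).2 ⟨p.2, hp⟩, ?_⟩
  intro p' hp'
  obtain ⟨hp1, hp2⟩ := (E6_iff hq).1 hp'
  exact congrArg Subtype.val (hpu _ hp2)

theorem Act12.exchange {F : Finset Ω} (hF : F.card = 5) {q p a : Ω} (hq : q ∈ F) (hp : E6 G F q p) (ha : a ∈ F) (haq : a ≠ q) :
    E6 G (insert p (F.erase a)) q a := by
  classical
  obtain ⟨hp1, hp2⟩ := (E6_iff hq).1 hp
  have haq' : a ∈ ofStabilizer G q := (mem_ofStabilizer_iff G q).2 haq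
  have h1 := (h.hyp q).exchange (by rw [card_TT hq, hF]) hp2 (a := ⟨a, haq'⟩) (mem_TT.2 ha)
  have hq' : q ∈ insert p (F.erase a) := Finset.mem_insert_of_mem (Finset.mem_erase.2 ⟨haq.symm, hq⟩)
  rw [E6_iff hq']
  refine ⟨haq', ?_⟩
  convert h1 using 1
  ext r
  rw [mem_TT, Finset.mem_insert, Finset.mem_insert, Finset.mem_erase, Finset.mem_erase, mem_TT]
  constructor
  · rintro (h2 | ⟨h2, h3⟩)
    · left; exact Subtype.ext h2
    · right; exact ⟨fun e => h2 (congrArg Subtype.val e), h3⟩
  · rintro (h2 | ⟨h2, h3⟩)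
    · left; exact congrArg Subtype.val h2
    · right; exact ⟨fun e => h2 (Subtype.ext e), h3⟩

/-- a transposition on `F` -/
theorem Act12.exists_tau {F : Finset Ω} (hF : F.card = 5) {q q' : Ω} (hq : q ∈ F) (hq' : q' ∈ F) (hqq : q' ≠ q) :
    ∃ (τ : G) (c : Ω), τ ≠ 1 ∧ τ • q = q ∧ τ • q' = q' ∧ τ • c = c ∧ c ∈ F ∧ c ≠ q ∧ c ≠ q' ∧ F.image (τ • ·) = F := by
  classical
  have hm : q' ∈ ofStabilizer G q := (mem_ofStabilizer_iff G q).2 hqq
  obtain ⟨x, hx0, hx⟩ := exists_enum (T := TT G q F) (by rw [card_TT hq, hF]) (a := ⟨q', hm⟩) (mem_TT.2 hq')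
  obtain ⟨φ, hφ⟩ := (h.hyp q).exists_phi x
  have hxF : ∀ i, (x i : Ω) ∈ F := fun i => mem_TT.1 (by rw [← hx]; exact Finset.mem_map_of_mem x (Finset.mem_univ i))
  set σ : Equiv.Perm (Fin 4) := Equiv.swap 2 3 with hσ
  have s0 : σ 0 = 0 := by rw [hσ]; decide
  have s1 : σ 1 = 1 := by rw [hσ]; decide
  have s2 : σ 2 = 3 := by rw [hσ]; decide
  have hτ : ∀ i, ((φ σ : stabilizer G q) : G) • (x i : Ω) = (x (σ i) : Ω) := fun i => congrArg Subtype.val (hφ σ i)
  refine ⟨(φ σ : stabilizer G q), x 1, ?_, (φ σ).2, ?_, ?_, hxF 1, (mem_ofStabilizer_iff G q).1 (x 1).2, ?_, ?_⟩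
  · intro e
    have h1 := hτ 2
    rw [e, one_smul, s2] at h1
    have h2 := x.injective (Subtype.ext h1)
    revert h2; decide
  · have h1 := hτ 0
    rw [s0, hx0] at h1
    exact h1
  · have h1 := hτ 1
    rw [s1] at h1
    exact h1
  · intro e
    have h1 : x 1 = x 0 := by rw [hx0]; exact Subtype.ext e
    have h2 := x.injective h1
    revert h2; decide
  · apply Finset.eq_of_subset_of_card_le
    · intro r hr
      rw [Finset.mem_image] at hr
      obtain ⟨r', hr', rfl⟩ := hr
      by_cases hrq : r' = q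
      · rw [hrq]
        have := (φ σ).2
        rw [mem_stabilizer_iff] at this
        show ((φ σ : stabilizer G q) : G) • q ∈ F
        rw [this]; exact hq
      · have h1 : (⟨r', (mem_ofStabilizer_iff G q).2 hrq⟩ : ofStabilizer G q) ∈ TT G q F := mem_TT.2 hr'
        rw [← hx, Finset.mem_map] at h1
        obtain ⟨i, -, hi⟩ := h1
        have h2 : (x i : Ω) = r' := congrArg Subtype.val hi
        show ((φ σ : stabilizer G q) : G) • r' ∈ F
        rw [← h2, hτ]
        exact hxF _
    · rw [Finset.card_image_of_injective _ (MulAction.injective _)]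

/-- the sixth point does not depend on the choice of the base point -/
theorem Act12.indep {F : Finset Ω} (hF : F.card = 5) {q q' p p' : Ω} (hq : q ∈ F) (hq' : q' ∈ F) (hp : E6 G F q p) (hp' : E6 G F q' p') :
    p = p' := by
  classical
  by_cases hqq : q' = q
  · subst hqq
    exact (h.exists_E6 hF hq).unique hp hp'
  · obtain ⟨τ, c, hτ1, hτq, hτq', hτc, hc, hcq, hcq', hτF⟩ := h.exists_tau hF hq hq' hqq
    by_contra hpp
    have e1 : τ • p = p := by
      have h1 := hp.smul τ
      rw [hτF, hτq] at h1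
      exact (h.exists_E6 hF hq).unique h1 hp
    have e2 : τ • p' = p' := by
      have h1 := hp'.smul τ
      rw [hτF, hτq'] at h1
      exact (h.exists_E6 hF hq').unique h1 hp'
    have h1 := h.le4 hτ1
    have h2 : ({q, q', c, p, p'} : Finset Ω) ⊆ fx τ := by
      intro r hr
      rw [mem_fx]
      simp only [Finset.mem_insert, Finset.mem_singleton] at hr
      rcases hr with rfl | rfl | rfl | rfl | rfl <;> assumption
    have h3 := Finset.card_le_card h2
    have n1 : ∀ z ∈ F, z ≠ p := fun z hz e => hp.1 (e ▸ hz)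
    have n2 : ∀ z ∈ F, z ≠ p' := fun z hz e => hp'.1 (e ▸ hz)
    have h4 : ({q, q', c, p, p'} : Finset Ω).card = 5 := by
      rw [Finset.card_insert_of_notMem, Finset.card_insert_of_notMem, Finset.card_insert_of_notMem, Finset.card_insert_of_notMem,
        Finset.card_singleton]
      · rw [Finset.mem_singleton]; exact hpp
      · simp only [Finset.mem_insert, Finset.mem_singleton, not_or]
        exact ⟨n1 c hc, n2 c hc⟩
      · simp only [Finset.mem_insert, Finset.mem_singleton, not_or]
        exact ⟨hcq'.symm, n1 q' hq', n2 q' hq'⟩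
      · simp only [Finset.mem_insert, Finset.mem_singleton, not_or]
        exact ⟨fun e => hqq e.symm, hcq.symm, n1 q hq, n2 q hq⟩
    omega

omit h in
variable (G Ω) in
/-- the blocks -/
def blocks6 : Set (Finset Ω) := {b | ∃ (F : Finset Ω) (q p : Ω), F.card = 5 ∧ q ∈ F ∧ E6 G F q p ∧ b = insert p F}

theorem Act12.steiner : Cfsg.IsSteinerSystem 5 6 (blocks6 G Ω) := by
  classical
  constructor
  · rintro b ⟨F, q, p, hF, hq, hp, rfl⟩
    rw [Finset.card_insert_of_notMem hp.1, hF]
  · intro S hS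
    obtain ⟨q, hq⟩ : S.Nonempty := by rw [← Finset.card_pos, hS]; norm_num
    obtain ⟨p, hp, hpu⟩ := h.exists_E6 hS hq
    refine ⟨insert p S, ⟨⟨S, q, p, hS, hq, hp, rfl⟩, Finset.subset_insert _ _⟩, ?_⟩
    rintro b ⟨⟨F, q', r, hF, hq', hr, rfl⟩, hSb⟩
    by_cases hrS : r ∈ S
    · have h1 : (S.erase r) ⊆ F := by
        intro z hz
        rw [Finset.mem_erase] at hz
        have := hSb hz.2
        rw [Finset.mem_insert] at this
        exact this.resolve_left hz.1
      have h2 : (S.erase r).card = 4 := by rw [Finset.card_erase_of_mem hrS, hS]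
      obtain ⟨a, haF, ha⟩ : ∃ a ∈ F, a ∉ S.erase r := by
        by_contra hno
        push Not at hno
        have h3 : F ⊆ S.erase r := hno
        have := Finset.card_le_card h3
        omega
      have h3 : S.erase r = F.erase a := by
        apply Finset.eq_of_subset_of_card_le
        · intro z hz
          rw [Finset.mem_erase]
          exact ⟨fun h4 => ha (h4 ▸ hz), h1 hz⟩
        · rw [Finset.card_erase_of_mem haF, hF, h2]
      have h4 : S = insert r (F.erase a) := by rw [← h3, Finset.insert_erase hrS]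
      obtain ⟨q0, hq0⟩ : (F.erase a).Nonempty := by rw [← Finset.card_pos, Finset.card_erase_of_mem haF, hF]; norm_num
      rw [Finset.mem_erase] at hq0
      have hE0 : E6 G F q0 r := by
        obtain ⟨r0, hr0, -⟩ := h.exists_E6 hF hq0.2
        rw [h.indep hF hq' hq0.2 hr hr0]; exact hr0
      have h5 := h.exchange hF hq0.2 hE0 haF (fun e => hq0.1 e.symm)
      rw [← h4] at h5
      have hq0S : q0 ∈ S := by rw [h4]; exact Finset.mem_insert_of_mem (Finset.mem_erase.2 hq0)
      have h6 : p = a := h.indep hS hq hq0S hp h5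
      rw [h6, h4, Finset.insert_comm, Finset.insert_erase haF]
    · have h1 : S ⊆ F := by
        intro z hz
        have := hSb hz
        rw [Finset.mem_insert] at this
        rcases this with h2 | h2
        · exact absurd (h2 ▸ hz) hrS
        · exact h2
      have h2 : S = F := Finset.eq_of_subset_of_card_le h1 (by rw [hS, hF])
      subst h2
      rw [h.indep hS hq hq' hp hr]

omit h in
theorem smul_blocks6 (g : G) (b : Finset Ω) (hb : b ∈ blocks6 G Ω) : b.image (g • ·) ∈ blocks6 G Ω := by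
  classical
  obtain ⟨F, q, p, hF, hq, hp, rfl⟩ := hb
  refine ⟨F.image (g • ·), g • q, g • p, ?_, Finset.mem_image_of_mem _ hq, hp.smul g, ?_⟩
  · rw [Finset.card_image_of_injective _ (MulAction.injective g), hF]
  · rw [Finset.image_insert]

/-- the group is the automorphism group of the Steiner system -/
theorem Act12.equiv : Nonempty (G ≃* Cfsg.setSystemAut (blocks6 G Ω)) := by
  classical
  have := h.fin
  have := Fintype.ofFinite G
  have hA : Nat.card (Cfsg.setSystemAut (blocks6 G Ω)) = 95040 := (S5612.aut_m12 h.cardΩ h.steiner).2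
  have hmem : ∀ g : G, MulAction.toPermHom G Ω g ∈ Cfsg.setSystemAut (blocks6 G Ω) := by
    intro g
    rw [SteinerTransport.mem_aut_iff]
    intro s
    have e1 : ∀ (g : G) (s : Finset Ω), s.map (MulAction.toPermHom G Ω g).toEmbedding = s.image (g • ·) := by
      intro g s
      rw [Finset.map_eq_image]; rfl
    constructor
    · intro h1
      rw [e1] at h1
      have h2 := smul_blocks6 g⁻¹ _ h1
      rw [Finset.image_image] at h2
      have h3 : ((fun x : Ω => g⁻¹ • x) ∘ fun x => g • x) = id := by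
        funext x; exact inv_smul_smul g x
      rw [h3, Finset.image_id] at h2
      exact h2
    · intro h1
      rw [e1]
      exact smul_blocks6 g s h1
  let f : G →* Cfsg.setSystemAut (blocks6 G Ω) := (MulAction.toPermHom G Ω).codRestrict _ hmem
  have hf : Function.Injective f := by
    rw [injective_iff_map_eq_one]
    intro g hg
    apply h.faith
    intro p
    have h1 := congrArg Subtype.val hg
    exact congrArg (fun σ : Equiv.Perm Ω => σ p) h1
  have hb : Function.Bijective f := by
    have : Finite (Cfsg.setSystemAut (blocks6 G Ω)) := inferInstance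
    have := Fintype.ofFinite (Cfsg.setSystemAut (blocks6 G Ω))
    rw [Fintype.bijective_iff_injective_and_card]
    refine ⟨hf, ?_⟩
    rw [← Nat.card_eq_fintype_card, ← Nat.card_eq_fintype_card, h.cardG, hA]
  exact ⟨MulEquiv.ofBijective f hb⟩

omit h in
/-- uniqueness -/
theorem unique_act {G' : Type*} {Ω' : Type*} [Group G'] [MulAction G' Ω'] [Fintype Ω'] [DecidableEq Ω'] (h : Act12 G Ω) (h' : Act12 G' Ω') :
    Nonempty (G ≃* G') := by
  obtain ⟨x⟩ : Nonempty (Fin 5 ↪ Ω) := Function.Embedding.nonempty_of_card_le (by simp [h.cardΩ])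
  obtain ⟨y⟩ : Nonempty (Fin 5 ↪ Ω') := Function.Embedding.nonempty_of_card_le (by simp [h'.cardΩ])
  obtain ⟨e, -, he⟩ := S5612.exists_iso h.cardΩ h'.cardΩ h.steiner h'.steiner x y
  obtain ⟨f1⟩ := h.equiv
  obtain ⟨f2⟩ := h'.equiv
  obtain ⟨f3⟩ := aut_iso e he
  exact ⟨f1.trans (f3.trans f2.symm)⟩

end Cfsg.Agent.Lib.SharpFive
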