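import Mathlib
import Cfsg.Agent.Lib.M12P
import Cfsg.Agent.Lib.SharpFive

/-!
# Simple groups of order 95040 are isomorphic (helper7)
-/

set_option autoImplicit false
set_option linter.all false

namespace Cfsg.Agent.Lib.M12ByOrder

open Subgroup Cfsg Cfsg.Agent.Lib.M11ByOrder Cfsg.Agent.Lib.SharpFour Cfsg.Agent.Lib.SharpFive MulAction SubMulAction

universe u v

/-- a group of order divisible by 11 acting faithfully on 11 points is transitive -/
theorem pretransitive_of_eleven {H : Type u} {Ω : Type v} [Group H] [Finite H] [MulAction H Ω] [Finite Ω] (hΩ : Nat.card Ω = 11)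
    (h11 : 11 ∣ Nat.card H) (hf : ∀ h : H, (∀ p : Ω, h • p = p) → h = 1) : IsPretransitive H Ω := by
  have i11 : Fact (Nat.Prime 11) := ⟨by norm_num⟩
  obtain ⟨z, hz⟩ := exists_prime_orderOf_dvd_card' (G := H) 11 h11
  obtain ⟨p, hp⟩ : ∃ p : Ω, z • p ≠ p := by
    by_contra hno
    push Not at hno
    have := hf z hno
    rw [this, orderOf_one] at hz
    norm_num at hz
  have h1 : Nat.card (orbit (zpowers z) p) ∣ 11 := by
    have h2 := Nat.card_congr (MulAction.orbitEquivQuotientStabilizer (zpowers z) p)
    rw [h2, ← Subgroup.index_eq_card]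
    have h3 := (stabilizer (zpowers z) p).index_dvd_card
    rwa [Nat.card_zpowers, hz] at h3
  rcases (Nat.dvd_prime (by norm_num)).1 h1 with h2 | h2
  · exfalso
    have h3 := (Nat.card_eq_one_iff_unique.1 h2).1
    have h4 : (⟨(⟨z, mem_zpowers z⟩ : zpowers z) • p, mem_orbit _ _⟩ : orbit (zpowers z) p) = ⟨p, mem_orbit_self p⟩ := Subsingleton.elim _ _
    exact hp (congrArg Subtype.val h4)
  · have h3 : orbit (zpowers z) p = Set.univ := by
      have : Fintype Ω := Fintype.ofFinite Ω
      apply Set.eq_of_subset_of_ncard_le (Set.subset_univ _)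
      rw [Set.ncard_univ, hΩ]
      exact (show 11 = Nat.card (orbit (zpowers z) p) from h2.symm).le.trans (by rw [Nat.card_coe_set_eq])
    have h4 : orbit H p = Set.univ := by
      rw [Set.eq_univ_iff_forall]
      intro q
      have : q ∈ orbit (zpowers z) p := by rw [h3]; trivial
      obtain ⟨g, hg⟩ := this
      exact ⟨(g : H), hg⟩
    constructor
    intro a b
    have ha : a ∈ orbit H p := by rw [h4]; trivial
    have hb : b ∈ orbit H p := by rw [h4]; trivial
    obtain ⟨g, rfl⟩ := ha
    obtain ⟨g', rfl⟩ := hb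
    exact ⟨g' * g⁻¹, by
      show (g' * g⁻¹) • (g • p) = g' • p
      rw [mul_smul, inv_smul_smul]⟩

variable {G : Type u} [Group G] [Finite G] [IsSimpleGroup G]

theorem act12 (hG : Nat.card G = 95040) (Ω : Type v) [MulAction G Ω] [Fintype Ω] [DecidableEq Ω] [IsPretransitive G Ω]
    (hΩ : Fintype.card Ω = 12) : Act12 G Ω := by
  classical
  have hf : ∀ g : G, (∀ p : Ω, g • p = p) → g = 1 := by
    have hk : (MulAction.toPermHom G Ω).ker = ⊥ := by
      rcases IsSimpleGroup.eq_bot_or_eq_top_of_normal (MulAction.toPermHom G Ω).ker inferInstance with h | h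
      · exact h
      · exfalso
        have h1 : ∀ (g : G) (p : Ω), g • p = p := by
          intro g p
          have : g ∈ (MulAction.toPermHom G Ω).ker := by rw [h]; trivial
          rw [MonoidHom.mem_ker] at this
          exact congrArg (fun σ : Equiv.Perm Ω => σ p) this
        have h2 : Fintype.card Ω ≤ 1 := by
          rw [Fintype.card_le_one_iff]
          intro a b
          obtain ⟨g, hg⟩ := MulAction.exists_smul_eq G a b
          rw [← hg, h1]
        omega
    intro g hg
    have : g ∈ (MulAction.toPermHom G Ω).ker := by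
      rw [MonoidHom.mem_ker]
      ext p
      exact hg p
    rwa [hk, mem_bot] at this
  refine ⟨inferInstance, hG, hΩ, fun q => ?_, hf⟩
  have hcard : Nat.card (stabilizer G q) = 7920 := by
    have h1 := MulAction.index_stabilizer_of_transitive G q
    have h2 := card_mul_index (stabilizer G q)
    rw [h1, Nat.card_eq_fintype_card (α := Ω), hΩ, hG] at h2
    omega
  have hΩ' : Nat.card (ofStabilizer G q) = 11 := by
    rw [nat_card_ofStabilizer_eq, Nat.card_eq_fintype_card, hΩ]
  have hsimp : IsSimpleGroup (stabilizer G q) := simple_of_7920 hG _ hcard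
  have hpre : IsPretransitive (stabilizer G q) (ofStabilizer G q) := by
    apply pretransitive_of_eleven hΩ' (by rw [hcard]; norm_num)
    intro h hh
    apply Subtype.ext
    apply hf
    intro p
    by_cases hpq : p = q
    · rw [hpq]; exact h.2
    · exact congrArg Subtype.val (hh ⟨p, (mem_ofStabilizer_iff G q).2 hpq⟩)
  obtain ⟨p2, p3, p4⟩ := perm11 hcard (ofStabilizer G q) hΩ'
  letI i1 : Fintype (ofStabilizer G q) := SharpFive.instFS q
  letI i2 : DecidableEq (ofStabilizer G q) := SharpFive.instDS q
  refine @Hyp.mk _ _ _ _ i1 i2 inferInstance hcard ?_ ?_ ?_ ?_ (card_inv hcard)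
  · rw [← Nat.card_eq_fintype_card]; exact hΩ'
  · intro g hg
    have := p4 g hg
    rw [card_fx]; exact this
  · intro g hg
    have := p2 g hg
    rw [card_fx]; exact this
  · intro g hg
    have := p3 g hg
    rw [card_fx]; exact this

/-- simple groups of order 95040 are isomorphic -/
theorem unique_95040 {G' : Type*} [Group G'] [Finite G'] [IsSimpleGroup G'] (hG : Nat.card G = 95040) (hG' : Nat.card G' = 95040) :
    Nonempty (G ≃* G') := by
  classical
  obtain ⟨-, -, H, -, -, hH, -⟩ := exists_H hG
  obtain ⟨-, -, H', -, -, hH', -⟩ := exists_H hG'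
  have hidx : Nat.card (G ⧸ H) = 12 := by
    have h1 := card_mul_index H
    rw [hH, hG] at h1
    rw [← Subgroup.index_eq_card]
    omega
  have hidx' : Nat.card (G' ⧸ H') = 12 := by
    have h1 := card_mul_index H'
    rw [hH', hG'] at h1
    rw [← Subgroup.index_eq_card]
    omega
  letI : Fintype (G ⧸ H) := Fintype.ofFinite _
  letI : Fintype (G' ⧸ H') := Fintype.ofFinite _
  exact unique_act (act12 hG (G ⧸ H) (by rw [← Nat.card_eq_fintype_card, hidx]))
    (act12 hG' (G' ⧸ H') (by rw [← Nat.card_eq_fintype_card, hidx']))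

end Cfsg.Agent.Lib.M12ByOrder
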