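import Cfsg.Agent.Lib.MTwelveTab
import Cfsg.Agent.Lib.ConjPrime
import Cfsg.Agent.Lib.OutBound

/-!
The outer automorphism group of the Mathieu group of degree 12 has order two.
-/

set_option autoImplicit false

namespace Cfsg.Agent.Lib.MTwelve

open Cfsg Cfsg.Agent.Lib.Golay Cfsg.Agent.Lib.ConjPrime
open Cfsg.Agent.Lib.MElevenInv (sq_eq sq_mem toPerm_injOn dif1 dif1_spec)
open scoped Pointwise

/-- the group -/
abbrev W : Type := ↥Cfsg.Spor.M12

theorem valid_N {c : ℕ} (h : inN c = true) : valid c = true := by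
  rw [inN, cond_false_eq] at h
  exact valid_of_inM h.1

theorem mem_N {c : ℕ} (h : inN c = true) : toPerm c ∈ Cfsg.Spor.M12 := by
  rw [inN, cond_false_eq] at h
  obtain ⟨h1, h2⟩ := h
  refine ⟨toPerm_mem_M24 h1, ?_⟩
  show toPerm c • Spor.squareDodecad = Spor.squareDodecad
  rw [sq_eq, toPerm_smul_mset (valid_of_inM h1), Nat.eq_of_beq_eq_true h2]

/-- the element with a given code -/
noncomputable def el (c : ℕ) (h : inN c = true) : W := ⟨toPerm c, mem_N h⟩

theorem mem_iff {g : Equiv.Perm GolayPt} : g ∈ Cfsg.Spor.M12 ↔ g ∈ M24 ∧ g • Spor.squareDodecad = Spor.squareDodecad :=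
  Iff.rfl

theorem mem_st {g : M24} : g ∈ MulAction.stabilizer M24 Spor.squareDodecad ↔
    g.1 • Spor.squareDodecad = Spor.squareDodecad := Iff.rfl

/-- the group as a stabilizer in the large group -/
def toM : W ≃* ↥(MulAction.stabilizer M24 Spor.squareDodecad) where
  toFun g := ⟨⟨g.1, (mem_iff.1 g.2).1⟩, mem_st.2 (mem_iff.1 g.2).2⟩
  invFun g := ⟨g.1.1, mem_iff.2 ⟨g.1.2, mem_st.1 g.2⟩⟩
  left_inv _ := rfl
  right_inv _ := rfl
  map_mul' _ _ := rfl

theorem card_W : Nat.card W = 95040 := by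
  rw [Nat.card_congr toM.toEquiv]
  exact card_stab_dodecad sq_mem

instance finite_W : Finite W := Nat.finite_of_card_ne_zero (by rw [card_W]; norm_num)

theorem simple_W : IsSimpleGroup W := isSimpleGroup_of_mulEquiv toM.symm (M12_simple sq_mem)

noncomputable def zE : W := el zc zc_ok
noncomputable def aE : W := el ac ac_ok
noncomputable def nE : W := el nc nc_ok
noncomputable def vE : W := el w10c w10c_ok
noncomputable def uE : W := el w6c w6c_ok

theorem cc_N (x : Fin 396) : inN (cc x) = true := (allLt_iff.1 cc_ok) x x.2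

/-- the involutions -/
noncomputable def tau (x : Fin 396) : W := el (cc x) (cc_N x)

theorem el_ne {c d : ℕ} (hc : inN c = true) (hd : inN d = true) (h : dif1 c d 24 = true) : el c hc ≠ el d hd := by
  intro h1
  obtain ⟨i, hi, h2⟩ := dif1_spec h
  exact h2 (toPerm_injOn (valid_N hc) (valid_N hd) (congrArg Subtype.val h1) i hi)

theorem tau_inj : Function.Injective tau := by
  intro x y h
  rcases lt_trichotomy (x : ℕ) (y : ℕ) with h1 | h1 | h1
  · exact absurd h.symm (el_ne (cc_N y) (cc_N x) ((allLt_iff.1 ((allLt_iff.1 cc_inj_ok) y y.2)) x h1))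
  · exact Fin.ext h1
  · exact absurd h (el_ne (cc_N x) (cc_N y) ((allLt_iff.1 ((allLt_iff.1 cc_inj_ok) x x.2)) y h1))

theorem el_congr {c d : ℕ} (hc : inN c = true) (hd : inN d = true) (h : c = d) : el c hc = el d hd := by
  subst h; rfl

theorem tau_zero : tau 0 = aE := el_congr _ _ cc_zero

theorem conj_of_code {c d s : ℕ} (hc : inN c = true) (hd : inN d = true) (hs : inN s = true)
    (h : mulC s c = mulC d s) : el s hs * el c hc * (el s hs)⁻¹ = el d hd := by
  rw [mul_inv_eq_iff_eq_mul]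
  apply Subtype.ext
  show toPerm s * toPerm c = toPerm d * toPerm s
  rw [← toPerm_mulC (valid_N hs) (valid_N hc), ← toPerm_mulC (valid_N hd) (valid_N hs), h]

theorem conj_z (x : Fin 396) : ∃ h : pz x < 396, zE * tau x * zE⁻¹ = tau ⟨pz x, h⟩ := by
  have h := (allLt_iff.1 pz_ok) x x.2
  rw [cond_false_eq] at h
  exact ⟨Nat.le_of_ble_eq_true h.1, conj_of_code _ _ _ (Nat.eq_of_beq_eq_true h.2)⟩

theorem conj_a (x : Fin 396) : ∃ h : pa x < 396, aE * tau x * aE⁻¹ = tau ⟨pa x, h⟩ := by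
  have h := (allLt_iff.1 pa_ok) x x.2
  rw [cond_false_eq] at h
  exact ⟨Nat.le_of_ble_eq_true h.1, conj_of_code _ _ _ (Nat.eq_of_beq_eq_true h.2)⟩

/-- the subgroup generated by the two elements -/
def H : Subgroup W := Subgroup.closure {zE, aE}

theorem z_mem : zE ∈ H := Subgroup.subset_closure (by simp)
theorem a_mem : aE ∈ H := Subgroup.subset_closure (by simp)

theorem closed {g : W} (hg : g ∈ H) : ∀ x, ∃ y, g * tau x * g⁻¹ = tau y := by
  induction hg using Subgroup.closure_induction with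
  | mem g hg =>
    intro x
    rcases hg with rfl | hg
    · exact ⟨_, (conj_z x).2⟩
    · rw [Set.mem_singleton_iff] at hg
      subst hg
      exact ⟨_, (conj_a x).2⟩
  | one => intro x; exact ⟨x, by group⟩
  | mul g h _ _ ihg ihh =>
    intro x
    obtain ⟨y, hy⟩ := ihh x
    obtain ⟨w, hw⟩ := ihg y
    refine ⟨w, ?_⟩
    rw [← hw, ← hy]; group
  | inv g _ ih =>
    intro x
    choose f hf using ih
    have hinj : Function.Injective f := by
      intro a b hab
      apply tau_inj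
      have h1 := (hf a).trans ((congrArg tau hab).trans (hf b).symm)
      exact mul_left_cancel (mul_right_cancel h1)
    obtain ⟨y, hy⟩ := (Finite.injective_iff_surjective.1 hinj) x
    refine ⟨y, ?_⟩
    rw [← hy, ← hf y]; group

theorem trans_tau : ∀ x : Fin 396, ∃ g ∈ H, g * aE * g⁻¹ = tau x := by
  rintro ⟨x, hx⟩
  induction x using Nat.strong_induction_on with
  | _ x ih =>
    have h := (allLt_iff.1 par_ok) x hx
    cases h0 : Nat.beq x 0 with
    | true =>
      have : x = 0 := Nat.eq_of_beq_eq_true h0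
      subst this
      refine ⟨1, one_mem _, ?_⟩
      have : tau ⟨0, hx⟩ = aE := tau_zero
      rw [this]; group
    | false =>
      rw [h0, cond_false, cond_false_eq] at h
      obtain ⟨h1, h2⟩ := h
      have h3 : prt x < x := Nat.le_of_ble_eq_true h1
      have h4 := Nat.eq_of_beq_eq_true h2
      obtain ⟨g, hg, hg2⟩ := ih _ h3 (h3.trans hx)
      cases h5 : pbt x with
      | true =>
        rw [h5, cond_true] at h4
        obtain ⟨h6, h7⟩ := conj_z ⟨prt x, h3.trans hx⟩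
        refine ⟨zE * g, mul_mem z_mem hg, ?_⟩
        have h8 : (⟨pz (prt x), h6⟩ : Fin 396) = ⟨x, hx⟩ := Fin.ext h4
        rw [← h8, ← h7, ← hg2]; group
      | false =>
        rw [h5, cond_false] at h4
        obtain ⟨h6, h7⟩ := conj_a ⟨prt x, h3.trans hx⟩
        refine ⟨aE * g, mul_mem a_mem hg, ?_⟩
        have h8 : (⟨pa (prt x), h6⟩ : Fin 396) = ⟨x, hx⟩ := Fin.ext h4
        rw [← h8, ← h7, ← hg2]; group

theorem mul_code {c d : ℕ} (hc : inN c = true) (hd : inN d = true) (e : ℕ) (he : inN e = true)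
    (h : mulC c d = e) : el c hc * el d hd = el e he := by
  apply Subtype.ext
  show toPerm c * toPerm d = toPerm e
  rw [← toPerm_mulC (valid_N hc) (valid_N hd), h]

theorem pwc_spec {c : ℕ} (hc : valid c = true) (n : ℕ) : valid (pwc c n) = true ∧ toPerm (pwc c n) = toPerm c ^ n := by
  induction n with
  | zero => exact ⟨valid_of_inM inM_cId, by rw [pow_zero]; exact toPerm_cId⟩
  | succ n ih =>
    have h1 : pwc c (n + 1) = mulC c (pwc c n) := rfl
    rw [h1]
    exact ⟨valid_mulC hc ih.1, by rw [toPerm_mulC hc ih.1, ih.2, pow_succ']⟩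

theorem pow_code {c : ℕ} (hc : inN c = true) (n : ℕ) (e : ℕ) (he : inN e = true) (h : pwc c n = e) :
    el c hc ^ n = el e he := by
  apply Subtype.ext
  show toPerm c ^ n = toPerm e
  rw [← (pwc_spec (valid_N hc) n).2, h]

theorem pow_one_code {c : ℕ} (hc : inN c = true) (n : ℕ) (h : pwc c n = cId) : el c hc ^ n = 1 := by
  apply Subtype.ext
  show toPerm c ^ n = 1
  rw [← (pwc_spec (valid_N hc) n).2, h, toPerm_cId]

theorem cId_N : inN cId = true := by decide +kernel

theorem el_cId : el cId cId_N = 1 := Subtype.ext toPerm_cId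

theorem z3c_N : inN z3c = true := by decide +kernel

theorem z_cube : zE ^ 3 = el z3c z3c_N := by
  apply pow_code
  decide +kernel

theorem v_eq : vE = aE * (zE * zE ^ 3) := by
  have h := w10_ok
  rw [cond_false_eq, cond_false_eq] at h
  rw [z_cube]
  apply Subtype.ext
  show toPerm w10c = toPerm ac * (toPerm zc * toPerm z3c)
  have hv := valid_mulC (valid_N zc_ok) (valid_N z3c_N)
  rw [← toPerm_mulC (valid_N zc_ok) (valid_N z3c_N), ← toPerm_mulC (valid_N ac_ok) hv,
    Nat.eq_of_beq_eq_true h.1]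

theorem u_eq : uE = aE * zE ^ 3 := by
  have h := w6_ok
  rw [cond_false_eq, cond_false_eq] at h
  rw [z_cube]
  exact (mul_code _ _ _ _ (Nat.eq_of_beq_eq_true h.1)).symm

theorem v_mem : vE ∈ H := by
  rw [v_eq]; exact mul_mem a_mem (mul_mem z_mem (pow_mem z_mem 3))

theorem u_mem : uE ∈ H := by
  rw [u_eq]; exact mul_mem a_mem (pow_mem z_mem 3)

theorem v_pow5 : vE ^ 5 = tau 220 := by
  have h := w10_ok
  rw [cond_false_eq, cond_false_eq] at h
  exact pow_code _ _ _ _ (Nat.eq_of_beq_eq_true h.2.2)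

theorem u_pow3 : uE ^ 3 = tau 134 := by
  have h := w6_ok
  rw [cond_false_eq, cond_false_eq] at h
  exact pow_code _ _ _ _ (Nat.eq_of_beq_eq_true h.2.2)

theorem tau_ne_one (x : Fin 396) : tau x ≠ 1 := by
  intro h
  obtain ⟨g, -, hg⟩ := trans_tau x
  obtain ⟨g', -, hg'⟩ := trans_tau 0
  obtain ⟨g'', -, hg''⟩ := trans_tau 1
  have h1 : aE = 1 := by
    have : aE = g⁻¹ * tau x * g := by rw [← hg]; group
    rw [this, h]; group
  have h2 : (0 : Fin 396) = 1 := tau_inj (by rw [← hg', ← hg'', h1]; group)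
  exact absurd h2 (by decide)

theorem order_v : orderOf vE = 10 := by
  have h := w10_ok
  rw [cond_false_eq, cond_false_eq] at h
  have h1 : vE ^ 10 = 1 := pow_one_code _ _ (Nat.eq_of_beq_eq_true h.2.1)
  have h2 : vE ^ 5 ≠ 1 := by rw [v_pow5]; exact tau_ne_one _
  have h3 : vE ^ 2 ≠ 1 := by
    intro h4
    have h5 : vE ^ 5 = vE := by
      calc vE ^ 5 = vE ^ 2 * vE ^ 2 * vE := by group
        _ = vE := by rw [h4, one_mul, one_mul]
    rw [v_pow5] at h5
    exact absurd h5.symm (el_ne _ _ (by decide +kernel))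
  have h4 := orderOf_dvd_of_pow_eq_one h1
  have h5 : ¬ orderOf vE ∣ 5 := fun h => h2 (orderOf_dvd_iff_pow_eq_one.1 h)
  have h6 : ¬ orderOf vE ∣ 2 := fun h => h3 (orderOf_dvd_iff_pow_eq_one.1 h)
  generalize orderOf vE = n at h4 h5 h6
  have hn : n ≤ 10 := Nat.le_of_dvd (by norm_num) h4
  interval_cases n <;> omega

theorem order_u : orderOf uE = 6 := by
  have h := w6_ok
  rw [cond_false_eq, cond_false_eq] at h
  have h1 : uE ^ 6 = 1 := pow_one_code _ _ (Nat.eq_of_beq_eq_true h.2.1)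
  have h2 : uE ^ 3 ≠ 1 := by rw [u_pow3]; exact tau_ne_one _
  have h3 : uE ^ 2 ≠ 1 := by
    intro h4
    have h5 : uE ^ 3 = uE := by
      calc uE ^ 3 = uE ^ 2 * uE := by group
        _ = uE := by rw [h4, one_mul]
    rw [u_pow3] at h5
    exact absurd h5.symm (el_ne _ _ (by decide +kernel))
  have h4 := orderOf_dvd_of_pow_eq_one h1
  have h5 : ¬ orderOf uE ∣ 3 := fun h => h2 (orderOf_dvd_iff_pow_eq_one.1 h)
  have h6 : ¬ orderOf uE ∣ 2 := fun h => h3 (orderOf_dvd_iff_pow_eq_one.1 h)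
  generalize orderOf uE = n at h4 h5 h6
  have hn : n ≤ 6 := Nat.le_of_dvd (by norm_num) h4
  interval_cases n <;> omega

theorem tau_memH (x : Fin 396) : tau x ∈ H := by
  obtain ⟨g, hg, hg2⟩ := trans_tau x
  rw [← hg2]
  exact mul_mem (mul_mem hg a_mem) (inv_mem hg)

/-- the involutions in the subgroup -/
noncomputable def tauH (x : Fin 396) : H := ⟨tau x, tau_memH x⟩

theorem conj_tauH (x : Fin 396) : IsConj (⟨aE, a_mem⟩ : H) (tauH x) := by
  obtain ⟨g, hg, hg2⟩ := trans_tau x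
  exact isConj_iff.2 ⟨⟨g, hg⟩, Subtype.ext hg2⟩

theorem card_classH : Nat.card {g : H // IsConj (⟨aE, a_mem⟩ : H) g} = 396 := by
  let f : Fin 396 → {g : H // IsConj (⟨aE, a_mem⟩ : H) g} := fun x => ⟨tauH x, conj_tauH x⟩
  have hf : Function.Bijective f := by
    constructor
    · intro x y h
      exact tau_inj (congrArg (fun w => (w.1 : W)) h)
    · rintro ⟨g, hg⟩
      obtain ⟨c, hc⟩ := isConj_iff.1 hg
      obtain ⟨y, hy⟩ := closed c.2 0
      refine ⟨y, Subtype.ext (Subtype.ext ?_)⟩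
      show tau y = (g : W)
      rw [← hy, tau_zero, ← hc]
      rfl
  rw [← Nat.card_congr (Equiv.ofBijective f hf), Nat.card_eq_fintype_card, Fintype.card_fin]

theorem dvd_cent {G : Type*} [Group G] (w t : G) (ht : w * t = t * w) :
    orderOf w ∣ Nat.card (Subgroup.centralizer ({t} : Set G)) := by
  have h : w ∈ Subgroup.centralizer ({t} : Set G) := Subgroup.mem_centralizer_singleton_iff.2 ht
  rw [← Subgroup.orderOf_mk w h]
  exact orderOf_dvd_natCard _

theorem H_top : H = ⊤ := by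
  have h1 := Cfsg.Agent.Lib.SmallSimple.card_isConj_mul_card_centralizer (⟨aE, a_mem⟩ : H)
  rw [card_classH] at h1
  have h2 : 10 ∣ Nat.card (Subgroup.centralizer ({(⟨aE, a_mem⟩ : H)} : Set H)) := by
    rw [card_cent_conj (conj_tauH 220)]
    have : orderOf (⟨vE, v_mem⟩ : H) = 10 := by rw [Subgroup.orderOf_mk]; exact order_v
    rw [← this]
    apply dvd_cent
    apply Subtype.ext
    show vE * tau 220 = tau 220 * vE
    rw [← v_pow5]; group
  have h3 : 6 ∣ Nat.card (Subgroup.centralizer ({(⟨aE, a_mem⟩ : H)} : Set H)) := by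
    rw [card_cent_conj (conj_tauH 134)]
    have : orderOf (⟨uE, u_mem⟩ : H) = 6 := by rw [Subgroup.orderOf_mk]; exact order_u
    rw [← this]
    apply dvd_cent
    apply Subtype.ext
    show uE * tau 134 = tau 134 * uE
    rw [← u_pow3]; group
  by_contra hne
  have := simple_W
  have h4 := le_index (p := 11) (by norm_num) (by rw [card_W]; norm_num) hne
  have h5 := H.card_mul_index
  rw [card_W, ← h1] at h5
  set c := Nat.card (Subgroup.centralizer ({(⟨aE, a_mem⟩ : H)} : Set H))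
  have h6 : 30 ∣ c := by omega
  obtain ⟨k, hk⟩ := h6
  rw [hk] at h5
  have h7 : k * H.index = 8 := by
    have : 11880 * (k * H.index) = 11880 * 8 := by rw [show (11880 * 8 : ℕ) = 95040 by norm_num, ← h5]; ring
    exact Nat.eq_of_mul_eq_mul_left (by norm_num) this
  have h8 : H.index ∣ 8 := Dvd.intro_left k h7
  have h9 := Nat.le_of_dvd (by norm_num) h8
  omega

theorem eq_id (β : W →* W) (hz : β zE = zE) (ha : β aE = aE) (g : W) : β g = g := by
  have h1 : H ≤ β.eqLocus (MonoidHom.id W) := by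
    rw [H, Subgroup.closure_le]
    rintro x (rfl | hx)
    · exact hz
    · rw [Set.mem_singleton_iff] at hx
      subst hx
      exact ha
  have h2 : g ∈ H := by rw [H_top]; exact Subgroup.mem_top _
  exact h1 h2

theorem mem_range_tau {b : W} (h : IsConj aE b) : ∃ x, b = tau x := by
  obtain ⟨c, hc⟩ := isConj_iff.1 h
  obtain ⟨y, hy⟩ := closed (g := c) (by rw [H_top]; exact Subgroup.mem_top _) 0
  exact ⟨y, by rw [← hy, tau_zero, hc]⟩

/-- the element of order five -/
noncomputable def qE : W := vE ^ 2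

theorem order_q : orderOf qE = 5 := by
  rw [qE, orderOf_pow_of_dvd (by norm_num) (by rw [order_v]; norm_num), order_v]

/-- a point moved by it -/
theorem q_pt (i j : ℕ) (hi : i < 24) (h : img w10c (img w10c i) = j) (hi2 : img w10c i < 24) :
    (qE.1 : Equiv.Perm GolayPt) (pt i) = pt j := by
  have h1 : (qE.1 : Equiv.Perm GolayPt) (pt i) = toPerm w10c (toPerm w10c (pt i)) := by
    have : qE = vE * vE := pow_two vE
    rw [this]
    rfl
  rw [h1, toPerm_pt (valid_N w10c_ok) hi, toPerm_pt (valid_N w10c_ok) hi2, h]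

theorem q0 : (qE.1 : Equiv.Perm GolayPt) (pt 0) = pt 8 := q_pt 0 8 (by norm_num) (by decide +kernel) (by decide +kernel)
theorem q8 : (qE.1 : Equiv.Perm GolayPt) (pt 8) = pt 9 := q_pt 8 9 (by norm_num) (by decide +kernel) (by decide +kernel)
theorem q9 : (qE.1 : Equiv.Perm GolayPt) (pt 9) = pt 12 := q_pt 9 12 (by norm_num) (by decide +kernel) (by decide +kernel)
theorem q12 : (qE.1 : Equiv.Perm GolayPt) (pt 12) = pt 6 := q_pt 12 6 (by norm_num) (by decide +kernel) (by decide +kernel)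

/-- five points of an orbit -/
def orb5 : Fin 5 → GolayPt := ![pt 0, pt 8, pt 9, pt 12, pt 6]

theorem orb5_inj : Function.Injective orb5 := by decide +kernel

theorem orb5_mem : ∀ i, orb5 i ∈ Spor.squareDodecad := by
  rw [sq_eq]
  simp only [mem_mset]
  decide +kernel

theorem card_cent_q : Nat.card (Subgroup.centralizer ({qE} : Set W)) ≤ 12 := by
  have hst : ∀ c : W, ∀ p ∈ Spor.squareDodecad, c.1 p ∈ Spor.squareDodecad := by
    intro c p hp
    exact mem_of_smul_eq (mem_iff.1 c.2).2 hp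
  have hD : Nat.card ↥Spor.squareDodecad = 12 := by
    rw [Nat.card_eq_fintype_card, Fintype.card_coe, sq_mem.2]
  rw [← hD]
  let f : Subgroup.centralizer ({qE} : Set W) → ↥Spor.squareDodecad := fun c => ⟨c.1.1 (pt 0), hst c.1 _ (orb5_mem 0)⟩
  apply Nat.card_le_card_of_injective f
  intro c d hcd
  have e1 : c.1.1 (pt 0) = d.1.1 (pt 0) := congrArg Subtype.val hcd
  have com : ∀ p, (d⁻¹ * c).1.1 (qE.1 p) = qE.1 ((d⁻¹ * c).1.1 p) := by
    intro p
    have h4 := Subgroup.mem_centralizer_singleton_iff.1 (d⁻¹ * c).2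
    exact congrArg (fun w : W => w.1 p) h4
  have f0 : (d⁻¹ * c).1.1 (pt 0) = pt 0 := by
    show (d.1.1)⁻¹ (c.1.1 (pt 0)) = pt 0
    rw [e1, perm_inv_apply]
  have f1 : (d⁻¹ * c).1.1 (pt 8) = pt 8 := by rw [← q0, com, f0]
  have f2 : (d⁻¹ * c).1.1 (pt 9) = pt 9 := by rw [← q8, com, f1]
  have f3 : (d⁻¹ * c).1.1 (pt 12) = pt 12 := by rw [← q9, com, f2]
  have f4 : (d⁻¹ * c).1.1 (pt 6) = pt 6 := by rw [← q12, com, f3]
  have hst5 := stab_five_dodecad sq_mem ⟨orb5, orb5_inj⟩ orb5_mem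
  have hmem : (⟨(d⁻¹ * c).1.1, (mem_iff.1 (d⁻¹ * c).1.2).1⟩ : M24) ∈ (⊥ : Subgroup M24) := by
    rw [← hst5]
    refine ⟨mem_st.2 (mem_iff.1 (d⁻¹ * c).1.2).2, ?_⟩
    apply Function.Embedding.ext
    intro i
    fin_cases i
    · exact f0
    · exact f1
    · exact f2
    · exact f3
    · exact f4
  rw [Subgroup.mem_bot] at hmem
  have h5 : (d⁻¹ * c).1.1 = 1 := congrArg Subtype.val hmem
  have h6 : d⁻¹ * c = 1 := Subtype.ext (Subtype.ext h5)
  exact (inv_mul_eq_one.1 h6).symm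

theorem cent_q {g : W} (h : g * qE = qE * g) : g ∈ Subgroup.zpowers vE := by
  have h1 : Subgroup.zpowers vE ≤ Subgroup.centralizer ({qE} : Set W) := by
    rw [Subgroup.zpowers_le, Subgroup.mem_centralizer_singleton_iff, qE]
    exact (Commute.refl vE).pow_right 2
  have h2 : Nat.card (Subgroup.zpowers vE) = 10 := by rw [Nat.card_zpowers, order_v]
  have h3 := card_cent_q
  have h4 := Subgroup.card_dvd_of_le h1
  rw [h2] at h4
  have h5 : Nat.card (Subgroup.centralizer ({qE} : Set W)) = 10 := by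
    have : 0 < Nat.card (Subgroup.centralizer ({qE} : Set W)) := Nat.card_pos
    omega
  have h6 : Subgroup.zpowers vE = Subgroup.centralizer ({qE} : Set W) := by
    apply SetLike.coe_injective
    apply Set.eq_of_subset_of_ncard_le h1
    rw [← Nat.card_coe_set_eq, ← Nat.card_coe_set_eq]
    exact (h5.trans h2.symm).le
  rw [h6, Subgroup.mem_centralizer_singleton_iff]
  exact h

/-- the fifth power of every element of order ten is in the class -/
theorem isConj_pow5 {v : W} (hv : orderOf v = 10) : IsConj aE (v ^ 5) := by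
  have h5 : orderOf (v ^ 2) = 5 := by
    rw [orderOf_pow_of_dvd (by norm_num) (by rw [hv]; norm_num), hv]
  obtain ⟨u, k, hu, hk⟩ := conj_of_prime 5 19008 (by norm_num) (by rw [card_W]) (by norm_num) h5 order_q
  have h1 : u * v ^ 5 * u⁻¹ ∈ Subgroup.zpowers vE := by
    apply cent_q
    apply comm_of_pow qE k 5 (by norm_num) order_q hk
    rw [← hu]
    have h6 : v ^ 5 * v ^ 2 = v ^ 2 * v ^ 5 := by rw [← pow_add, ← pow_add]
    calc u * v ^ 5 * u⁻¹ * (u * v ^ 2 * u⁻¹) = u * (v ^ 5 * v ^ 2) * u⁻¹ := by group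
      _ = u * (v ^ 2 * v ^ 5) * u⁻¹ := by rw [h6]
      _ = _ := by group
  classical
  rw [mem_zpowers_iff_mem_range_orderOf, order_v] at h1
  obtain ⟨j, hj, hj2⟩ := Finset.mem_image.1 h1
  rw [Finset.mem_range] at hj
  have hj3 : vE ^ j = u * v ^ 5 * u⁻¹ := hj2
  have h2 : orderOf (vE ^ j) = 2 := by
    have h7 : orderOf (u * v ^ 5 * u⁻¹) = orderOf (v ^ 5) := orderOf_injective (MulAut.conj u).toMonoidHom
      (MulAut.conj u).injective (v ^ 5)
    rw [hj3, h7, orderOf_pow_of_dvd (by norm_num) (by rw [hv]; norm_num), hv]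
  have hj5 : j = 5 := by
    rw [orderOf_pow, order_v] at h2
    have key : ∀ j < 10, 10 / Nat.gcd 10 j = 2 → j = 5 := by decide
    exact key j hj h2
  rw [hj5, v_pow5] at hj3
  obtain ⟨g, -, hg⟩ := trans_tau 220
  have h8 : IsConj aE (tau 220) := isConj_iff.2 ⟨g, hg⟩
  have h9 : IsConj (v ^ 5) (tau 220) := isConj_iff.2 ⟨u, hj3.symm⟩
  exact h8.trans h9.symm

/-- an automorphism maps the involution into its class -/
theorem isConj_aut (β : MulAut W) : IsConj aE (β aE) := by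
  obtain ⟨g, -, hg⟩ := trans_tau 220
  have h1 : IsConj (β aE) (β (vE ^ 5)) := by
    refine isConj_iff.2 ⟨β g, ?_⟩
    rw [v_pow5, ← hg, map_mul, map_mul, map_inv]
  have h2 : orderOf (β vE) = 10 := by
    have := orderOf_injective β.toMonoidHom β.injective vE
    exact this.trans order_v
  rw [map_pow] at h1
  exact (isConj_pow5 h2).trans h1.symm

theorem memJ_spec {x : ℕ} (h : memJ x = true) : x ∈ j11 := by
  have key : ∀ l : List ℕ, List.rec (motive := fun _ => Bool) false (fun a _ ih => cond (Nat.beq a x) true ih) l = true →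
      x ∈ l := by
    intro l
    induction l with
    | nil => intro h; exact absurd (show false = true from h) (by decide)
    | cons a l ih =>
      intro h
      have h' : cond (Nat.beq a x) true (List.rec (motive := fun _ => Bool) false
        (fun a _ ih => cond (Nat.beq a x) true ih) l) = true := h
      cases h1 : Nat.beq a x with
      | true => rw [Nat.eq_of_beq_eq_true h1]; exact List.mem_cons_self
      | false => rw [h1] at h'; exact List.mem_cons_of_mem _ (ih h')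
  exact key _ h

theorem j11_ok : (j11.all fun x => (List.range 11).any fun k => Nat.beq (Nat.rec (motive := fun _ => ℕ) 0 (fun _ ih => pz ih) k) x) = true := by
  decide +kernel

theorem iter_pz (k : ℕ) : ∃ h : Nat.rec (motive := fun _ => ℕ) 0 (fun _ ih => pz ih) k < 396,
    zE ^ k * aE * (zE ^ k)⁻¹ = tau ⟨_, h⟩ := by
  induction k with
  | zero =>
    refine ⟨by norm_num, ?_⟩
    have : tau ⟨Nat.rec (motive := fun _ => ℕ) 0 (fun _ ih => pz ih) 0, by norm_num⟩ = aE := tau_zero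
    rw [this]; group
  | succ k ih =>
    obtain ⟨h, h1⟩ := ih
    obtain ⟨h2, h3⟩ := conj_z ⟨_, h⟩
    refine ⟨h2, ?_⟩
    rw [← h3, ← h1, pow_succ']; group

theorem memJ_conj {x : Fin 396} (h : memJ x = true) : ∃ k, tau x = zE ^ k * aE * (zE ^ k)⁻¹ := by
  have h1 := memJ_spec h
  have h2 := List.all_eq_true.1 j11_ok _ h1
  obtain ⟨k, -, hk⟩ := List.any_eq_true.1 h2
  obtain ⟨h3, h4⟩ := iter_pz k
  refine ⟨k, ?_⟩
  rw [h4]
  congr 1
  exact Fin.ext (Nat.eq_of_beq_eq_true hk).symm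

theorem f1_lt (x : Fin 396) {i : ℕ} (hi : i < 24) : f1 (cc x) i < 24 :=
  img_lt (valid_N (cc_N x)) (img_lt (valid_N zc_ok) hi)

theorem f3_lt (x : Fin 396) {i : ℕ} (hi : i < 24) : f3 (cc x) i < 24 :=
  img_lt (valid_N (cc_N x)) (img_lt (valid_N z3c_N) hi)

theorem f1_spec (x : Fin 396) {i : ℕ} (hi : i < 24) : ((tau x * zE).1 : Equiv.Perm GolayPt) (pt i) = pt (f1 (cc x) i) := by
  show toPerm (cc x) (toPerm zc (pt i)) = _
  rw [toPerm_pt (valid_N zc_ok) hi, toPerm_pt (valid_N (cc_N x)) (img_lt (valid_N zc_ok) hi)]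
  rfl

theorem f3_spec (x : Fin 396) {i : ℕ} (hi : i < 24) : ((tau x * zE ^ 3).1 : Equiv.Perm GolayPt) (pt i) = pt (f3 (cc x) i) := by
  rw [z_cube]
  show toPerm (cc x) (toPerm z3c (pt i)) = _
  rw [toPerm_pt (valid_N z3c_N) hi, toPerm_pt (valid_N (cc_N x)) (img_lt (valid_N z3c_N) hi)]
  rfl

theorem pt_inj {i j : ℕ} (hi : i < 24) (hj : j < 24) (h : pt i = pt j) : i = j := by
  have := congrArg ix h
  rwa [ix_pt hi, ix_pt hj] at this

theorem test_spec {x : Fin 396} (h3 : (tau x * zE) ^ 3 = 1) (h6 : (tau x * zE ^ 3) ^ 6 = 1) : memJ x = true := by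
  have h := (allLt_iff.1 test_ok) x x.2
  have h1 : allLt 24 (fun i => Nat.beq (f1 (cc x) (f1 (cc x) (f1 (cc x) i))) i) = true := by
    rw [allLt_iff]
    intro i hi
    have l1 := f1_lt x hi
    have l2 := f1_lt x l1
    have l3 := f1_lt x l2
    have h4 : (((tau x * zE) ^ 3).1 : Equiv.Perm GolayPt) (pt i) = pt (f1 (cc x) (f1 (cc x) (f1 (cc x) i))) := by
      rw [← f1_spec x l2, ← f1_spec x l1, ← f1_spec x hi]
      rfl
    rw [h3] at h4
    have h5 := pt_inj hi l3 h4
    rw [← h5]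
    exact Nat.beq_refl i
  have h2 : allLt 24 (fun i => Nat.beq (f3 (cc x) (f3 (cc x) (f3 (cc x) (f3 (cc x) (f3 (cc x) (f3 (cc x) i)))))) i) = true := by
    rw [allLt_iff]
    intro i hi
    have l1 := f3_lt x hi
    have l2 := f3_lt x l1
    have l3 := f3_lt x l2
    have l4 := f3_lt x l3
    have l5 := f3_lt x l4
    have l6 := f3_lt x l5
    have h4 : (((tau x * zE ^ 3) ^ 6).1 : Equiv.Perm GolayPt) (pt i) =
        pt (f3 (cc x) (f3 (cc x) (f3 (cc x) (f3 (cc x) (f3 (cc x) (f3 (cc x) i)))))) := by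
      rw [← f3_spec x l5, ← f3_spec x l4, ← f3_spec x l3, ← f3_spec x l2, ← f3_spec x l1, ← f3_spec x hi]
      rfl
    rw [h6] at h4
    have h5 := pt_inj hi l6 h4
    rw [← h5]
    exact Nat.beq_refl i
  unfold test at h
  rw [h1, cond_true, h2, cond_true] at h
  exact h

theorem rel3 : (aE * zE) ^ 3 = 1 := by
  have h := rel_ok
  rw [cond_false_eq] at h
  apply Subtype.ext
  show (toPerm ac * toPerm zc) ^ 3 = 1
  have hv := valid_mulC (valid_N ac_ok) (valid_N zc_ok)
  rw [← toPerm_mulC (valid_N ac_ok) (valid_N zc_ok), ← (pwc_spec hv 3).2, Nat.eq_of_beq_eq_true h.1, toPerm_cId]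

theorem rel6 : (aE * zE ^ 3) ^ 6 = 1 := by
  rw [← u_eq, ← order_u]
  exact pow_orderOf_eq_one uE

/-- an automorphism fixing `z` is inner -/
theorem inner_of_fix (β : MulAut W) (hβ : β zE = zE) : β ∈ Inn W := by
  obtain ⟨x, hx⟩ := mem_range_tau (isConj_aut β)
  have h3 : (tau x * zE) ^ 3 = 1 := by
    have h := congrArg β rel3
    rw [map_one, map_pow, map_mul, hβ, hx] at h
    exact h
  have h6 : (tau x * zE ^ 3) ^ 6 = 1 := by
    have h := congrArg β rel6
    rw [map_one, map_pow, map_mul, map_pow, hβ, hx] at h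
    exact h
  obtain ⟨k, hk⟩ := memJ_conj (test_spec h3 h6)
  let γ : W →* W := (MulAut.conj (zE ^ k)⁻¹).toMonoidHom.comp β.toMonoidHom
  have hγ : ∀ g, γ g = (zE ^ k)⁻¹ * β g * ((zE ^ k)⁻¹)⁻¹ := fun g => rfl
  have h1 : γ zE = zE := by
    rw [hγ, hβ]
    have : Commute ((zE ^ k)⁻¹) zE := ((Commute.refl zE).pow_left k).inv_left
    rw [this.eq]; group
  have h2 : γ aE = aE := by
    rw [hγ, hx, hk]; group
  refine ⟨zE ^ k, ?_⟩
  ext1 g
  have h4 := eq_id γ h1 h2 g
  rw [hγ] at h4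
  rw [MulAut.conj_apply]
  calc zE ^ k * g * (zE ^ k)⁻¹ = zE ^ k * ((zE ^ k)⁻¹ * β g * ((zE ^ k)⁻¹)⁻¹) * (zE ^ k)⁻¹ := by rw [h4]
    _ = β g := by group

theorem order_z : orderOf zE = 11 := by
  have : Fact (Nat.Prime 11) := ⟨by norm_num⟩
  apply orderOf_eq_prime
  · exact pow_one_code _ _ (Nat.eq_of_beq_eq_true z11_ok)
  · intro h
    rw [← el_cId] at h
    exact absurd h (el_ne _ _ (by decide +kernel))

theorem n_conj : nE * zE * nE⁻¹ = zE ^ 3 := by
  rw [z_cube]
  exact conj_of_code _ _ _ (Nat.eq_of_beq_eq_true n_ok)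

theorem n_pow (i : ℕ) : nE ^ i * zE * (nE ^ i)⁻¹ = zE ^ (3 ^ i) := by
  induction i with
  | zero => simp
  | succ i ih =>
    calc nE ^ (i + 1) * zE * (nE ^ (i + 1))⁻¹ = nE ^ i * (nE * zE * nE⁻¹) * (nE ^ i)⁻¹ := by
          rw [pow_succ]; group
      _ = nE ^ i * zE ^ 3 * (nE ^ i)⁻¹ := by rw [n_conj]
      _ = (nE ^ i * zE * (nE ^ i)⁻¹) ^ 3 := by rw [conj_pow]
      _ = _ := by rw [ih, ← pow_mul, ← pow_succ]

theorem pow_cases {k : ℕ} (hk : ¬ 11 ∣ k) : ∃ c : W, zE ^ k = c * zE * c⁻¹ ∨ zE ^ k = c * zE⁻¹ * c⁻¹ := by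
  have h1 : ∀ r < 11, r ≠ 0 → ∃ i < 5, 3 ^ i % 11 = r ∨ (10 * 3 ^ i) % 11 = r := by decide
  obtain ⟨i, -, hi⟩ := h1 (k % 11) (Nat.mod_lt _ (by norm_num)) (fun h => hk (Nat.dvd_of_mod_eq_zero h))
  refine ⟨nE ^ i, ?_⟩
  rcases hi with hi | hi
  · left
    rw [n_pow]
    apply pow_eq_pow_iff_modEq.2
    rw [order_z]
    exact hi.symm
  · right
    have h2 : zE⁻¹ = zE ^ 10 := by
      apply inv_eq_of_mul_eq_one_right
      rw [← pow_succ']
      have := pow_orderOf_eq_one zE
      rwa [order_z] at this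
    rw [h2, ← conj_pow, n_pow, ← pow_mul]
    apply pow_eq_pow_iff_modEq.2
    rw [order_z]
    rw [mul_comm]
    exact hi.symm

/-- the swap of the two dodecads -/
noncomputable def sP : Equiv.Perm GolayPt := toPerm sc

theorem sP_mem : sP ∈ M24 := toPerm_mem_M24 sc_ok

theorem sP_sq : sP * sP = 1 := by
  have h := s_ok
  rw [cond_false_eq, cond_false_eq] at h
  have hv := valid_of_inM sc_ok
  rw [sP, ← toPerm_mulC hv hv, Nat.eq_of_beq_eq_true h.1, toPerm_cId]

theorem sP_inv : sP⁻¹ = sP := inv_eq_of_mul_eq_one_right sP_sq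

theorem sP_sq_dod : sP • Spor.squareDodecad = mset 16436384 := by
  have h := s_ok
  rw [cond_false_eq, cond_false_eq] at h
  rw [sq_eq, sP, toPerm_smul_mset (valid_of_inM sc_ok), Nat.eq_of_beq_eq_true h.2.2]

theorem compl_eq : (Spor.squareDodecad)ᶜ = mset 16436384 := by
  rw [sq_eq]
  ext p
  rw [Finset.mem_compl, mem_mset, mem_mset]
  revert p
  decide +kernel

theorem smul_compl' {g : Equiv.Perm GolayPt} {d : Finset GolayPt} (h : g • d = d) : g • dᶜ = dᶜ := by
  ext p
  rw [mem_smul_iff, Finset.mem_compl]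
  constructor
  · rintro ⟨q, hq, rfl⟩
    rw [Finset.mem_compl] at hq
    intro h1
    apply hq
    rw [← h, mem_smul_iff] at h1
    obtain ⟨r, hr, hr2⟩ := h1
    rwa [← g.injective hr2]
  · intro hp
    refine ⟨g⁻¹ p, ?_, Equiv.apply_symm_apply g p⟩
    rw [Finset.mem_compl]
    intro h1
    apply hp
    have h2 := mem_of_smul_eq h h1
    have h3 : g (g⁻¹ p) = p := Equiv.apply_symm_apply g p
    rwa [h3] at h2

theorem sP_dod : sP • Spor.squareDodecad = (Spor.squareDodecad)ᶜ := by rw [sP_sq_dod, compl_eq]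

theorem sP_dod' : sP • (Spor.squareDodecad)ᶜ = Spor.squareDodecad := by
  rw [← sP_dod, smul_smul, sP_sq, one_smul]

theorem conj_mem {g : Equiv.Perm GolayPt} (hg : g ∈ Cfsg.Spor.M12) : sP * g * sP ∈ Cfsg.Spor.M12 := by
  rw [mem_iff] at hg ⊢
  refine ⟨mul_mem (mul_mem sP_mem hg.1) sP_mem, ?_⟩
  rw [← smul_smul, ← smul_smul, sP_dod, smul_compl' hg.2, sP_dod']

theorem conj_conj (g : Equiv.Perm GolayPt) : sP * (sP * g * sP) * sP = g := by
  calc sP * (sP * g * sP) * sP = (sP * sP) * g * (sP * sP) := by group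
    _ = g := by rw [sP_sq, one_mul, mul_one]

/-- the automorphism induced by the swap -/
noncomputable def sA : MulAut W where
  toFun g := ⟨sP * g.1 * sP, conj_mem g.2⟩
  invFun g := ⟨sP * g.1 * sP, conj_mem g.2⟩
  left_inv g := Subtype.ext (conj_conj _)
  right_inv g := Subtype.ext (conj_conj _)
  map_mul' g h := by
    apply Subtype.ext
    show sP * (g.1 * h.1) * sP = (sP * g.1 * sP) * (sP * h.1 * sP)
    calc sP * (g.1 * h.1) * sP = sP * g.1 * 1 * h.1 * sP := by group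
      _ = sP * g.1 * (sP * sP) * h.1 * sP := by rw [sP_sq]
      _ = _ := by group

theorem sA_apply (g : W) : ((sA g : W) : Equiv.Perm GolayPt) = sP * g.1 * sP := rfl

theorem sA_z : sA zE = zE⁻¹ := by
  apply eq_inv_of_mul_eq_one_left
  apply Subtype.ext
  show sP * toPerm zc * sP * toPerm zc = 1
  have h := s_ok
  rw [cond_false_eq, cond_false_eq] at h
  have hs := valid_of_inM sc_ok
  have hz := valid_N zc_ok
  have h1 := valid_mulC hs hz
  have h2 := valid_mulC h1 hs
  rw [sP, ← toPerm_mulC hs hz, ← toPerm_mulC h1 hs, ← toPerm_mulC h2 hz, Nat.eq_of_beq_eq_true h.2.1, toPerm_cId]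

theorem m_fix : (toPerm mc) (pt 2) = pt 2 := by
  rw [toPerm_pt (valid_N mc_ok) (by norm_num)]
  have : img mc 2 = 2 := by decide +kernel
  rw [this]

theorem m_nofix {p : GolayPt} (hp : p ∉ Spor.squareDodecad) : (toPerm mc) p ≠ p := by
  intro h
  have h1 : allLt 24 (fun i => cond (Nat.beq (img mc i) i) ((340831 : ℕ).testBit i) true) = true := by decide +kernel
  have h2 := (allLt_iff.1 h1) (ix p) (ix_lt p)
  have h3 : img mc (ix p) = ix p := by rw [← ix_toPerm (valid_N mc_ok), h]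
  rw [h3, Nat.beq_refl, cond_true] at h2
  apply hp
  rw [sq_eq, mem_mset]
  exact h2

theorem sA_not_inner : sA ∉ Inn W := by
  rintro ⟨c, hc⟩
  have h1 : ∀ g : W, sP * g.1 * sP = c.1 * g.1 * c.1⁻¹ := by
    intro g
    have := congrArg (fun φ : MulAut W => ((φ g : W) : Equiv.Perm GolayPt)) hc
    exact this.symm
  have h2 := h1 (el mc mc_ok)
  have h3 : sP * toPerm mc * sP = c.1 * toPerm mc * c.1⁻¹ := h2
  have h4 : toPerm mc ((c.1⁻¹ * sP) (pt 2)) = (c.1⁻¹ * sP) (pt 2) := by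
    have h5 : toPerm mc * (c.1⁻¹ * sP) = (c.1⁻¹ * sP) * toPerm mc := by
      calc toPerm mc * (c.1⁻¹ * sP) = c.1⁻¹ * (c.1 * toPerm mc * c.1⁻¹) * sP := by group
        _ = c.1⁻¹ * (sP * toPerm mc * sP) * sP := by rw [h3]
        _ = c.1⁻¹ * sP * toPerm mc * (sP * sP) := by group
        _ = _ := by rw [sP_sq, mul_one]
    have h6 := congrArg (fun φ : Equiv.Perm GolayPt => φ (pt 2)) h5
    have h7 : toPerm mc ((c.1⁻¹ * sP) (pt 2)) = (c.1⁻¹ * sP) (toPerm mc (pt 2)) := h6
    rw [h7, m_fix]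
  apply m_nofix _ h4
  have hp : pt 2 ∈ Spor.squareDodecad := by
    rw [sq_eq, mem_mset]; decide +kernel
  have h8 : sP (pt 2) ∈ (Spor.squareDodecad)ᶜ := by
    rw [← sP_dod, smul_mem_smul]; exact hp
  have h9 : (c⁻¹).1 • (Spor.squareDodecad)ᶜ = (Spor.squareDodecad)ᶜ := smul_compl' (mem_iff.1 (c⁻¹).2).2
  have h10 := mem_of_smul_eq h9 h8
  exact Finset.mem_compl.1 h10

theorem mem_or (α : MulAut W) : α ∈ Inn W ∨ sA * α ∈ Inn W := by
  have h11 : orderOf (α zE) = 11 := (orderOf_injective α.toMonoidHom α.injective zE).trans order_z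
  obtain ⟨u, k, hu, hk⟩ := conj_of_prime 11 8640 (by norm_num) (by rw [card_W]) (by norm_num) h11 order_z
  obtain ⟨c, hc⟩ := pow_cases hk
  have hinn : MulAut.conj (c⁻¹ * u) ∈ Inn W := ⟨_, rfl⟩
  have hap : ∀ g : W, (MulAut.conj (c⁻¹ * u) * α) g = c⁻¹ * (u * α g * u⁻¹) * c := by
    intro g
    show (c⁻¹ * u) * α g * (c⁻¹ * u)⁻¹ = _
    group
  rcases hc with hc | hc
  · left
    have h1 : MulAut.conj (c⁻¹ * u) * α ∈ Inn W := by
      apply inner_of_fix
      rw [hap, hu, hc]; group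
    exact (Subgroup.mul_mem_cancel_left _ hinn).1 h1
  · right
    have h1 : sA * (MulAut.conj (c⁻¹ * u) * α) ∈ Inn W := by
      apply inner_of_fix
      show sA ((MulAut.conj (c⁻¹ * u) * α) zE) = zE
      rw [hap, hu, hc]
      have : c⁻¹ * (c * zE⁻¹ * c⁻¹) * c = zE⁻¹ := by group
      rw [this, map_inv, sA_z, inv_inv]
    have h2 : sA * MulAut.conj (c⁻¹ * u) * sA⁻¹ ∈ Inn W := by
      refine ⟨sA (c⁻¹ * u), ?_⟩
      ext1 g
      show sA (c⁻¹ * u) * g * (sA (c⁻¹ * u))⁻¹ = sA ((c⁻¹ * u) * (sA⁻¹ g) * (c⁻¹ * u)⁻¹)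
      have h3 : sA (sA⁻¹ g) = g := sA.apply_symm_apply g
      rw [map_mul sA (c⁻¹ * u * sA⁻¹ g), map_mul sA (c⁻¹ * u) (sA⁻¹ g), map_inv, h3]
    have h3 : sA * (MulAut.conj (c⁻¹ * u) * α) = (sA * MulAut.conj (c⁻¹ * u) * sA⁻¹) * (sA * α) := by group
    rw [h3] at h1
    exact (Subgroup.mul_mem_cancel_left _ h2).1 h1

theorem card_out : Nat.card (Cfsg.Out W) = 2 := by
  show (Inn W).index = 2
  rw [Subgroup.index_eq_two_iff]
  refine ⟨sA, fun b => ?_⟩
  have hsq : sA * sA = 1 := by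
    ext1 g
    apply Subtype.ext
    exact conj_conj _
  have hinv : sA⁻¹ = sA := inv_eq_of_mul_eq_one_right hsq
  have h1 := mem_or b⁻¹
  have h2 : b⁻¹ ∈ Inn W ↔ b ∈ Inn W := Subgroup.inv_mem_iff _
  have h3 : sA * b⁻¹ ∈ Inn W ↔ b * sA ∈ Inn W := by
    rw [← Subgroup.inv_mem_iff]
    rw [mul_inv_rev, inv_inv, hinv]
  rw [h2, h3] at h1
  rcases h1 with h1 | h1
  · right
    refine ⟨h1, fun h4 => sA_not_inner ?_⟩
    exact (Subgroup.mul_mem_cancel_left _ h1).1 h4
  · left
    refine ⟨h1, fun h4 => sA_not_inner ?_⟩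
    exact (Subgroup.mul_mem_cancel_left _ h4).1 h1

end Cfsg.Agent.Lib.MTwelve
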