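import Mathlib
import Cfsg.Agent.Lib.M12OrdX
import Cfsg.Agent.Lib.Cores
import Cfsg.Agent.Lib.CoprimeAction
import Cfsg.Agent.Lib.CriticalOdd
import Cfsg.Agent.Lib.DegRatio
import Cfsg.Agent.Lib.CdP
import Cfsg.Agent.Lib.H1SameL
import Cfsg.Agent.Lib.M11Unique
import Cfsg.Agent.Lib.M12Q
import Cfsg.Agent.Lib.MTwelveOut
import Cfsg.Agent.Lib.SchurSylow
import Cfsg.Agent.Lib.SchurPerfect
import Cfsg.Agent.S2034
import Cfsg.Agent.S2060

/-!
# Groups of order `|M12|` with characters of degree divisible by 33 and by 55 (helper19)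
-/

set_option autoImplicit false
set_option linter.all false

namespace Cfsg.Agent.Lib.M12DegY

open Subgroup Cfsg Cfsg.Agent.Lib.CharBasic Cfsg.Agent.Lib.ColTools Cfsg.Agent.Lib.SmallSimple
open scoped ComplexConjugate

universe u

variable {G : Type u} [Group G] [Finite G]

/-- arithmetic of the action of a group of order 11 -/
theorem ar_pp : ∀ s ∈ Nat.divisors 8640, ∀ f ∈ Nat.divisors s, s % 11 = f % 11 → s = f ∨ 6 ∣ s ∨ 10 ∣ s ∨ 15 ∣ s := by
  decide +kernel

theorem fact11 : Fact (Nat.Prime 11) := ⟨by norm_num⟩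

theorem le_cent_of_pgroup {A S : Subgroup G} (hA : Nat.card A = 11) (hAS : A ≤ normalizer (S : Set G)) {p : ℕ} (hp : p.Prime)
    (hS : IsPGroup p S) (hdv : Nat.card S ∣ 8640) : S ≤ centralizer (A : Set G) := by
  haveI := fact11
  haveI : Fact p.Prime := ⟨hp⟩
  have hApg : IsPGroup 11 A := IsPGroup.of_card (n := 1) (by rw [hA]; norm_num)
  have h1 := CriticalOdd.card_modEq_centralizer hApg hAS
  have h2 : Nat.card (S ⊓ centralizer (A : Set G) : Subgroup G) ∣ Nat.card S := card_dvd_of_le inf_le_left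
  have h0 : Nat.card S ≠ 0 := Nat.card_pos.ne'
  have h3 := ar_pp _ (Nat.mem_divisors.2 ⟨hdv, by norm_num⟩) _ (Nat.mem_divisors.2 ⟨h2, h0⟩) h1
  have hno : ∀ a b : ℕ, a.Prime → b.Prime → a ≠ b → ¬ a * b ∣ Nat.card S := by
    intro a b ha hb hab h
    obtain ⟨n, hn⟩ := IsPGroup.iff_card.1 hS
    rw [hn] at h
    have h4 := (Nat.prime_dvd_prime_iff_eq ha hp).1 (ha.dvd_of_dvd_pow ((Dvd.intro _ rfl).trans h))
    have h5 := (Nat.prime_dvd_prime_iff_eq hb hp).1 (hb.dvd_of_dvd_pow ((Dvd.intro_left _ rfl).trans h))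
    exact hab (h4.trans h5.symm)
  have h4 : Nat.card S = Nat.card (S ⊓ centralizer (A : Set G) : Subgroup G) := by
    rcases h3 with h3 | h3 | h3 | h3
    · exact h3
    · exact (hno 2 3 (by norm_num) (by norm_num) (by norm_num) h3).elim
    · exact (hno 2 5 (by norm_num) (by norm_num) (by norm_num) h3).elim
    · exact (hno 3 5 (by norm_num) (by norm_num) (by norm_num) h3).elim
  have h5 : S ⊓ centralizer (A : Set G) = S := eq_of_le_of_card_ge inf_le_left h4.le
  exact inf_eq_left.1 h5

/-- a group of order 11 acting on a group of order dividing 8640 acts trivially -/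
theorem le_cent {A K : Subgroup G} (hA : Nat.card A = 11) (hAK : A ≤ normalizer (K : Set G)) (hdv : Nat.card K ∣ 8640) :
    K ≤ centralizer (A : Set G) := by
  have hcop : (Nat.card A).Coprime (Nat.card K) := by
    rw [hA]
    exact Nat.Coprime.coprime_dvd_right hdv (by norm_num)
  have hsolv : Group.IsSolvable A := by
    haveI := fact11
    haveI : IsCyclic A := isCyclic_of_prime_card hA
    infer_instance
  set C : Subgroup G := K ⊓ centralizer (A : Set G) with hC
  have hidx : C.relIndex K = 1 := by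
    by_contra h
    obtain ⟨p, hp, hpd⟩ := Nat.exists_prime_and_dvd h
    haveI : Fact p.Prime := ⟨hp⟩
    obtain ⟨S, h1, h2, h3, h4⟩ := CoprimeAction.exists_invariant_sylow hAK hcop (Or.inl hsolv) p
    have h5 : S ≤ C := le_inf h1 (le_cent_of_pgroup hA h4 hp h2 ((card_dvd_of_le h1).trans hdv))
    have h6 := relIndex_mul_relIndex S C K h5 inf_le_left
    exact h3 (h6 ▸ hpd.mul_left _)
  exact (relIndex_eq_one.1 hidx).trans inf_le_right

/-- a minimal normal subgroup of order divisible by `11` exactly once is simple -/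
theorem simple_min {H : Type u} [Group H] [Finite H] (hsq : ¬ 11 ^ 2 ∣ Nat.card H) (hO : pPrimeCore 11 H = ⊥)
    (N : Subgroup H) [hNn : N.Normal] (hN : N ≠ ⊥) (hmin : ∀ M : Subgroup H, M.Normal → M ≤ N → M = ⊥ ∨ M = N) :
    IsSimpleGroup N ∧ 11 ∣ Nat.card N := by
  haveI := fact11
  have hd : ∀ {X : Type u} [Group X] [Finite X] (hX : pPrimeCore 11 X = ⊥) (M : Subgroup X), M.Normal → M ≠ ⊥ → 11 ∣ Nat.card M := by
    intro X _ _ hX M hM hM0
    by_contra h
    apply hM0
    rw [eq_bot_iff, ← hX]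
    exact Cores.le_pPrimeCore hM (((Nat.Prime.coprime_iff_not_dvd (by norm_num : Nat.Prime 11)).2 h).symm)
  have h11 : 11 ∣ Nat.card N := hd hO N hNn hN
  have hON : pPrimeCore 11 N = ⊥ := by
    have h1 := Cores.map_pPrimeCore_subtype_eq 11 N
    rw [hO, inf_bot_eq] at h1
    exact (Subgroup.map_eq_bot_iff_of_injective _ N.subtype_injective).1 h1
  have hsqN : ¬ 11 ^ 2 ∣ Nat.card N := fun h => hsq (h.trans (card_subgroup_dvd_card N))
  set S : Set H := {x | x ∈ N ∧ x ^ 11 = 1} with hS
  have hSN : closure S = N := by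
    apply le_antisymm
    · rw [closure_le]; exact fun x hx => hx.1
    · obtain ⟨x, hx⟩ := exists_prime_orderOf_dvd_card' (G := N) 11 h11
      have hx1 : (x : H) ∈ S := ⟨x.2, by rw [← hx, ← Subgroup.orderOf_coe]; exact pow_orderOf_eq_one _⟩
      have hnc : normalClosure S = N := by
        rcases hmin (normalClosure S) inferInstance (normalClosure_le_normal (fun x hx => hx.1)) with h | h
        · exfalso
          have h2 : (x : H) ∈ normalClosure S := subset_normalClosure hx1
          rw [h, mem_bot] at h2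
          have h3 : x = 1 := Subtype.ext h2
          rw [h3, orderOf_one] at hx
          norm_num at hx
        · exact h
      rw [← hnc]
      apply Subgroup.closure_mono
      intro y hy
      obtain ⟨a, ha, hay⟩ := Group.mem_conjugatesOfSet_iff.1 hy
      obtain ⟨c, hc⟩ := isConj_iff.1 hay
      rw [← hc]
      exact ⟨hNn.conj_mem a ha.1 c, by rw [conj_pow, ha.2, mul_one, mul_inv_cancel]⟩
  refine ⟨?_, h11⟩
  haveI : Nontrivial N := (Subgroup.nontrivial_iff_ne_bot N).2 hN
  refine ⟨fun M hM => ?_⟩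
  by_cases hM0 : M = ⊥
  · exact Or.inl hM0
  right
  have h1 : 11 ∣ Nat.card M := hd hON M hM hM0
  have h2 : ¬ 11 ∣ M.index := by
    intro h
    apply hsqN
    rw [← Subgroup.card_mul_index M, pow_two]
    exact mul_dvd_mul h1 h
  haveI := hM
  have h3 : S ⊆ (M.map N.subtype : Subgroup H) := by
    intro x hx
    refine ⟨⟨x, hx.1⟩, ?_, rfl⟩
    apply mem_of_orderOf_coprime_index
    have h4 : orderOf (⟨x, hx.1⟩ : N) ∣ 11 := orderOf_dvd_of_pow_eq_one (Subtype.ext hx.2)
    exact Nat.Coprime.coprime_dvd_left h4 ((Nat.Prime.coprime_iff_not_dvd (by norm_num : Nat.Prime 11)).2 h2)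
  have h4 : N ≤ M.map N.subtype := by
    have h5 : Subgroup.closure S ≤ M.map N.subtype := (closure_le _).2 h3
    rwa [hSN] at h5
  rw [eq_top_iff]
  intro x _
  obtain ⟨y, hy, hyx⟩ := h4 x.2
  have : y = x := Subtype.ext hyx
  rw [← this]; exact hy

theorem pdiv {m : ℕ} (h : m ∣ 95040) (h11 : ¬ 11 ∣ m) : m ∣ 8640 := by
  have h1 : Nat.Coprime m 11 := ((Nat.Prime.coprime_iff_not_dvd (by norm_num : Nat.Prime 11)).2 h11).symm
  rw [show 95040 = 11 * 8640 by norm_num] at h
  exact h1.dvd_of_dvd_mul_left h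

theorem exists_min (H : Type u) [Group H] [Finite H] [Nontrivial H] : ∃ N : Subgroup H, N.Normal ∧ N ≠ ⊥ ∧
    ∀ M : Subgroup H, M.Normal → M ≤ N → M = ⊥ ∨ M = N := by
  obtain ⟨N, hN⟩ := (Set.toFinite {M : Subgroup H | M.Normal ∧ M ≠ ⊥}).exists_minimal ⟨⊤, inferInstance, top_ne_bot⟩
  refine ⟨N, hN.1.1, hN.1.2, fun M hM hMN => ?_⟩
  by_cases h : M = ⊥
  · exact Or.inl h
  · exact Or.inr (le_antisymm hMN (hN.2 ⟨hM, h⟩ hMN))

/-- the basic set-up -/
theorem exists_setup (hG : Nat.card G = 95040) : ∃ N : Subgroup (G ⧸ pPrimeCore 11 G), ∃ D : Subgroup G, N.Normal ∧ IsSimpleGroup N ∧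
    11 ∣ Nat.card N ∧ D.Normal ∧ 11 ∣ Nat.card D ∧ D ≤ centralizer (pPrimeCore 11 G : Set G) ∧
    D.map (QuotientGroup.mk' (pPrimeCore 11 G)) = N := by
  haveI := fact11
  set K := pPrimeCore 11 G with hK
  have hK11 : ¬ 11 ∣ Nat.card K := by
    have h1 := Cores.coprime_card_pPrimeCore 11 G
    intro h
    have h2 := Nat.dvd_gcd h (dvd_refl 11)
    rw [Nat.Coprime] at h1
    rw [h1] at h2
    norm_num at h2
  have hKd : Nat.card K ∣ 95040 := by rw [← hG]; exact card_subgroup_dvd_card K
  have hK8 : Nat.card K ∣ 8640 := pdiv hKd hK11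
  have hcard : Nat.card K * Nat.card (G ⧸ K) = 95040 := by
    rw [← hG, ← Subgroup.index_eq_card]; exact Subgroup.card_mul_index K
  have hH11 : 11 ∣ Nat.card (G ⧸ K) := by
    have h1 : 11 ∣ Nat.card K * Nat.card (G ⧸ K) := by rw [hcard]; norm_num
    exact ((Nat.Prime.dvd_mul (by norm_num)).1 h1).resolve_left hK11
  have hHsq : ¬ 11 ^ 2 ∣ Nat.card (G ⧸ K) := by
    intro h
    have h1 : 11 ^ 2 ∣ 95040 := by rw [← hcard]; exact h.mul_left _
    norm_num at h1
  haveI : Nontrivial (G ⧸ K) := by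
    rw [← Finite.one_lt_card_iff_nontrivial]
    have := Nat.le_of_dvd Nat.card_pos hH11
    omega
  obtain ⟨N, hNn, hN0, hmin⟩ := exists_min (G ⧸ K)
  have hO : pPrimeCore 11 (G ⧸ K) = ⊥ := Cores.pPrimeCore_quotient_pPrimeCore 11 G
  haveI := hNn
  obtain ⟨hs, hN11⟩ := simple_min hHsq hO N hN0 hmin
  obtain ⟨P⟩ : Nonempty (Sylow 11 G) := inferInstance
  have hP : Nat.card (P : Subgroup G) = 11 := by
    have := sylow_card_of (G := G) (p := 11) (k := 1) (m := 8640) (by rw [hG]; norm_num) (by norm_num) P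
    simpa using this
  have hPC : (P : Subgroup G) ≤ centralizer (K : Set G) := by
    rw [le_centralizer_iff]
    apply le_cent hP _ hK8
    rw [normalizer_eq_top]
    exact le_top
  have hPT : (P : Subgroup G) ≤ N.comap (QuotientGroup.mk' K) := by
    intro x hx
    apply mem_of_orderOf_coprime_index
    have h1 : (N.comap (QuotientGroup.mk' K)).index = N.index := index_comap_of_surjective _ (QuotientGroup.mk'_surjective K)
    have h2 : ¬ 11 ∣ N.index := by
      intro h
      apply hHsq
      rw [← Subgroup.card_mul_index N, pow_two]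
      exact mul_dvd_mul hN11 h
    have h3 : orderOf x ∣ 11 := by
      rw [← hP, ← Subgroup.orderOf_mk x hx]
      exact orderOf_dvd_natCard _
    rw [h1]
    exact Nat.Coprime.coprime_dvd_left h3 ((Nat.Prime.coprime_iff_not_dvd (by norm_num : Nat.Prime 11)).2 h2)
  have hPD : (P : Subgroup G) ≤ centralizer (K : Set G) ⊓ N.comap (QuotientGroup.mk' K) := le_inf hPC hPT
  have hDn : (centralizer (K : Set G) ⊓ N.comap (QuotientGroup.mk' K)).Normal := inferInstance
  refine ⟨N, centralizer (K : Set G) ⊓ N.comap (QuotientGroup.mk' K), hNn, hs, hN11, hDn, ?_, inf_le_left, ?_⟩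
  · have h9 := card_dvd_of_le hPD
    rwa [hP] at h9
  · have h1 : (centralizer (K : Set G) ⊓ N.comap (QuotientGroup.mk' K)).map (QuotientGroup.mk' K) ≤ N := by
      rw [map_le_iff_le_comap]; exact inf_le_right
    rcases hmin _ (hDn.map _ (QuotientGroup.mk'_surjective K)) h1 with h | h
    · exfalso
      rw [Subgroup.map_eq_bot_iff, QuotientGroup.ker_mk'] at h
      apply hK11
      have h9 := card_dvd_of_le (hPD.trans h)
      rwa [hP] at h9
    · exact h

/-- no abelian normal subgroup of order divisible by 11 -/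
theorem not_comm (hG : Nat.card G = 95040) {D : Subgroup G} [D.Normal] (h11 : 11 ∣ Nat.card D) {χ : IrrCharacter G} (hχ : 11 ∣ deg χ)
    (hD : ∀ a ∈ D, ∀ b ∈ D, a * b = b * a) : False := by
  have h1 := CharDegrees.ito χ.2 D hD (deg χ) (apply_one χ)
  have h2 : 11 * 11 ∣ Nat.card D * D.index := mul_dvd_mul h11 (hχ.trans h1)
  rw [Subgroup.card_mul_index, hG] at h2
  norm_num at h2

/-- the case `660` -/
theorem not_660 (hG : Nat.card G = 95040) {D : Subgroup G} [D.Normal] (Z : Subgroup D) (hZ : Z ≤ center D) (hZi : Z.index = 660)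
    {χ : IrrCharacter G} (hχ : 55 ∣ deg χ) : False := by
  classical
  letI := Fintype.ofFinite G
  letI := Fintype.ofFinite D
  have hc1 := Subgroup.card_mul_index Z
  have hc2 := Subgroup.card_mul_index D
  rw [hZi] at hc1
  rw [hG, ← hc1] at hc2
  have hdi : D.index ∣ 144 := ⟨Nat.card Z, by
    have : 660 * (D.index * Nat.card Z) = 660 * 144 := by
      rw [← (by norm_num : 95040 = 660 * 144), ← hc2]; ring
    exact (Nat.eq_of_mul_eq_mul_left (by norm_num) this).symm⟩
  have hres : IsCharacter D (fun a : D => (χ : G → ℂ) a) := χ.2.isCharacter.restrict D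
  have h0 : (fun a : D => (χ : G → ℂ) a) ≠ 0 := by
    intro h
    have := congrFun h 1
    exact χ.2.one_ne_zero this
  obtain ⟨ψ, hψ⟩ := Clifford.exists_constituent hres h0
  obtain ⟨f, h1, h2⟩ := DegRatio.degree_ratio χ.2 ψ.2 hψ (apply_one χ) (apply_one ψ)
  rw [h1] at hχ
  have h3 : Nat.Coprime 55 f := Nat.Coprime.coprime_dvd_right (h2.trans hdi) (by norm_num)
  have h4 : 55 ∣ deg ψ := h3.dvd_of_dvd_mul_left hχ
  have h5 := CdP.sq_le_index_center ψ.2 (apply_one ψ)
  have h6 : (center D).index ≤ 660 := by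
    rw [← hZi]
    exact Nat.le_of_dvd (Nat.pos_of_ne_zero Z.index_ne_zero_of_finite) (index_dvd_of_le hZ)
  have h7 := Nat.le_of_dvd (deg_pos ψ) h4
  nlinarith

theorem inn_7920 {N : Type u} [Group N] [Finite N] [IsSimpleGroup N] (h : Nat.card N = 7920) (φ : MulAut N) :
    ∃ n : N, ∀ x : N, n * x * n⁻¹ = φ x := by
  haveI := MElevenInv.simple_W
  haveI : Finite MElevenInv.W := MElevenInv.finite_W
  obtain ⟨e⟩ := M11ByOrder.unique_7920 (G := N) (G' := MElevenInv.W) h MElevenInv.card_W
  have h1 : Nat.card (Cfsg.Out ↥Cfsg.Spor.M11) = 1 := Cfsg.Agent.S2060.result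
  have h2 : Cfsg.Inn ↥Cfsg.Spor.M11 = ⊤ := by
    rw [← Subgroup.index_eq_one]; exact h1
  have h3 : (e.symm.trans (φ.trans e) : MulAut ↥Cfsg.Spor.M11) ∈ Cfsg.Inn ↥Cfsg.Spor.M11 := by rw [h2]; trivial
  obtain ⟨m, hm⟩ := h3
  refine ⟨e.symm m, fun x => ?_⟩
  have h4 : MulAut.conj m (e x) = e (φ (e.symm (e x))) := DFunLike.congr_fun hm (e x)
  rw [MulAut.conj_apply, MulEquiv.symm_apply_apply] at h4
  apply e.injective
  rw [map_mul, map_mul, map_inv, MulEquiv.apply_symm_apply, h4]

theorem stem_7920 {N : Type u} [Group N] [Finite N] [IsSimpleGroup N] (h : Nat.card N = 7920) : SchurSylow.StemDvd N 1 := by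
  haveI := MElevenInv.simple_W
  haveI : Finite MElevenInv.W := MElevenInv.finite_W
  obtain ⟨e⟩ := M11ByOrder.unique_7920 (G := N) (G' := MElevenInv.W) h MElevenInv.card_W
  have h1 : SchurSylow.StemDvd ↥Cfsg.Spor.M11 1 := SchurSylow.stemDvd_of_hasTrivial Cfsg.Agent.S2034.result
  exact h1.congr e.symm

/-- splitting of central extensions of a simple group with trivial multiplier -/
theorem split {D N : Type u} [Group D] [Finite D] [Group N] [Finite N] [hs : IsSimpleGroup N] (hna : ¬ IsMulCommutative N)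
    (hst : SchurSylow.StemDvd N 1) (φ : D →* N) (hφ : Function.Surjective φ) (hker : φ.ker ≤ center D) :
    ∃ E : Subgroup D, Function.Bijective (φ.comp E.subtype) := by
  have hperf : Group.IsPerfect N := by
    constructor
    rcases IsSimpleGroup.eq_bot_or_eq_top_of_normal (commutator N) inferInstance with h | h
    · exfalso
      apply hna
      have h2 : center N = ⊤ := (commutator_eq_bot_iff_center_eq_top N).1 h
      refine ⟨⟨fun a b => ?_⟩⟩
      have h3 : b ∈ center N := by rw [h2]; trivial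
      exact mem_center_iff.1 h3 a
    · exact h
  refine ⟨commutator D, ?_⟩
  have h1 := SchurPerfect.isPerfect_commutator hperf φ hφ hker
  have hst' : IsStemExtension (φ.comp (commutator D).subtype) := by
    refine ⟨?_, ?_, ?_⟩
    · intro n
      obtain ⟨d, rfl⟩ := hφ n
      obtain ⟨c, hc, z, hz, rfl⟩ := SchurPerfect.exists_commutator_mul hperf φ hφ d
      refine ⟨⟨c, hc⟩, ?_⟩
      rw [map_mul, (MonoidHom.mem_ker).1 hz, mul_one]
      rfl
    · rintro ⟨x, hx⟩ hk
      have h2 : x ∈ center D := hker hk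
      rw [mem_center_iff]
      rintro ⟨y, hy⟩
      exact Subtype.ext (mem_center_iff.1 h2 y)
    · rw [h1.commutator_eq_top]
      exact le_top
  have h2 := hst _ _ hst'
  rw [Nat.dvd_one, Subgroup.card_eq_one] at h2
  exact ⟨(MonoidHom.ker_eq_bot_iff _).1 h2, hst'.1⟩

/-- a group of order 12 with an irreducible character of degree divisible by 3 -/
theorem alt_four {K : Type u} [Group K] [Finite K] (hK : Nat.card K = 12) {χ : IrrCharacter K} (hχ : 3 ∣ deg χ) :
    Nonempty (K ≃* alternatingGroup (Fin 4)) := by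
  apply H1Same.alt_four hK
  intro M hM hodd
  have hd : Nat.card M ∣ 12 := by rw [← hK]; exact card_subgroup_dvd_card M
  have h1 : ∀ d ∈ Nat.divisors 12, Odd d → d = 1 ∨ d = 3 := by decide
  rcases h1 _ (Nat.mem_divisors.2 ⟨hd, by norm_num⟩) hodd with h | h
  · exact Subgroup.card_eq_one.1 h
  · exfalso
    haveI := hM
    haveI : Fact (Nat.Prime 3) := ⟨by norm_num⟩
    haveI : IsCyclic M := isCyclic_of_prime_card h
    have hcomm : ∀ a b : M, a * b = b * a :=
      commutative_of_cyclic_center_quotient (MonoidHom.id M) (by rw [(MonoidHom.ker_eq_bot_iff _).2 Function.injective_id]; exact bot_le)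
    have h2 := CharDegrees.ito χ.2 M (fun a ha b hb => congrArg Subtype.val (hcomm ⟨a, ha⟩ ⟨b, hb⟩)) (deg χ) (apply_one χ)
    have h3 := Subgroup.card_mul_index M
    rw [h, hK] at h3
    have h4 : M.index = 4 := by omega
    rw [h4] at h2
    have := hχ.trans h2
    norm_num at this

/-- a normal subgroup isomorphic to `M11` with trivial centraliser -/
theorem top_7920 {H : Type u} [Group H] [Finite H] (hsq : ¬ 11 ^ 2 ∣ Nat.card H) (hO : pPrimeCore 11 H = ⊥) (N : Subgroup H)
    [hNn : N.Normal] [hNs : IsSimpleGroup N] (hna : ¬ IsMulCommutative N) (hN : Nat.card N = 7920) : N = ⊤ := by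
  haveI := fact11
  have hcen : center N = ⊥ := by
    rcases IsSimpleGroup.eq_bot_or_eq_top_of_normal (center N) inferInstance with h | h
    · exact h
    · exfalso
      apply hna
      refine ⟨⟨fun a b => ?_⟩⟩
      have h3 : b ∈ center N := by rw [h]; trivial
      exact mem_center_iff.1 h3 a
  have hCN : ∀ x : H, x ∈ centralizer (N : Set H) → x ∈ N → x = 1 := by
    intro x hx hxN
    have h1 : (⟨x, hxN⟩ : N) ∈ center N := by
      rw [mem_center_iff]
      intro y
      exact Subtype.ext (mem_centralizer_iff.1 hx y y.2)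
    rw [hcen, mem_bot] at h1
    exact congrArg Subtype.val h1
  have hC : centralizer (N : Set H) = ⊥ := by
    rw [eq_bot_iff, ← hO]
    apply Cores.le_pPrimeCore inferInstance
    apply Nat.Coprime.symm
    rw [Nat.Prime.coprime_iff_not_dvd (by norm_num : Nat.Prime 11)]
    intro h
    obtain ⟨x, hx⟩ := exists_prime_orderOf_dvd_card' (G := centralizer (N : Set H)) 11 h
    have hx1 : orderOf (x : H) = 11 := by rw [Subgroup.orderOf_coe, hx]
    have h2 : ¬ 11 ∣ N.index := by
      intro h
      apply hsq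
      rw [← Subgroup.card_mul_index N, pow_two]
      exact mul_dvd_mul (by rw [hN]; norm_num) h
    have h3 : (x : H) ∈ N := by
      apply mem_of_orderOf_coprime_index
      rw [hx1]
      exact (Nat.Prime.coprime_iff_not_dvd (by norm_num : Nat.Prime 11)).2 h2
    have h4 := hCN x x.2 h3
    rw [h4, orderOf_one] at hx1
    norm_num at hx1
  rw [eq_top_iff]
  intro h _
  obtain ⟨n, hn⟩ := inn_7920 hN (MulAut.conjNormal h)
  have h1 : (n : H)⁻¹ * h ∈ centralizer (N : Set H) := by
    rw [mem_centralizer_iff]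
    intro y hy
    have h2 : (n : H) * y * (n : H)⁻¹ = h * y * h⁻¹ := by
      have := congrArg Subtype.val (hn ⟨y, hy⟩)
      rw [MulAut.conjNormal_apply] at this
      exact this
    calc y * ((n : H)⁻¹ * h) = (n : H)⁻¹ * ((n : H) * y * (n : H)⁻¹) * h := by group
      _ = (n : H)⁻¹ * (h * y * h⁻¹) * h := by rw [h2]
      _ = (n : H)⁻¹ * h * y := by group
  rw [hC, mem_bot, inv_mul_eq_one] at h1
  rw [← h1]
  exact n.2

theorem case_7920 (hG : Nat.card G = 95040) (K : Subgroup G) [hKn : K.Normal] (N : Subgroup (G ⧸ K)) (hO : pPrimeCore 11 (G ⧸ K) = ⊥)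
    [hNn : N.Normal] [hNs : IsSimpleGroup N] (hna : ¬ IsMulCommutative N) (hN : Nat.card N = 7920)
    (D : Subgroup G) (hDC : D ≤ centralizer (K : Set G)) (φ : D →* N) (hφ : Function.Surjective φ) (hker : φ.ker ≤ center D)
    (hφ2 : ∀ d : D, (φ d : G ⧸ K) = QuotientGroup.mk' K (d : G)) {χ' : IrrCharacter G} (hχ' : 33 ∣ deg χ') :
    Nonempty (G ≃* alternatingGroup (Fin 4) × ↥Cfsg.Spor.M11) := by
  classical
  have hcard : Nat.card K * Nat.card (G ⧸ K) = 95040 := by
    rw [← hG, ← Subgroup.index_eq_card]; exact Subgroup.card_mul_index K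
  have hHsq : ¬ 11 ^ 2 ∣ Nat.card (G ⧸ K) := by
    intro h
    have h1 : 11 ^ 2 ∣ 95040 := by rw [← hcard]; exact h.mul_left _
    norm_num at h1
  have htop := top_7920 hHsq hO N hna hN
  have hH : Nat.card (G ⧸ K) = 7920 := by
    rw [← hN, htop, Subgroup.card_top]
  have hK : Nat.card K = 12 := by
    rw [hH] at hcard
    omega
  obtain ⟨E, hE⟩ := split hna (stem_7920 hN) φ hφ hker
  let e : E ≃* N := MulEquiv.ofBijective (φ.comp E.subtype) hE
  let f1 : N →* G := (D.subtype.comp E.subtype).comp e.symm.toMonoidHom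
  have hf1 : ∀ n : N, QuotientGroup.mk' K (f1 n) = n := by
    intro n
    have h1 : f1 n = (((e.symm n : E) : D) : G) := rfl
    rw [h1, ← hφ2]
    have h2 : e (e.symm n) = n := e.apply_symm_apply n
    have h3 : e (e.symm n) = φ ((e.symm n : E) : D) := rfl
    rw [← h3, h2]
  have hcomm : ∀ (n : N) (k : K), Commute (f1 n) (K.subtype k) := by
    intro n k
    have h1 : f1 n ∈ centralizer (K : Set G) := hDC ((e.symm n : E) : D).2
    exact (mem_centralizer_iff.1 h1 k k.2).symm
  let j : N × K →* G := MonoidHom.noncommCoprod f1 K.subtype hcomm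
  have hj : ∀ (n : N) (k : K), j (n, k) = f1 n * k := fun n k => rfl
  have hjinj : Function.Injective j := by
    rw [injective_iff_map_eq_one]
    rintro ⟨n, k⟩ h
    rw [hj] at h
    have h1 := congrArg (QuotientGroup.mk' K) h
    rw [map_mul, hf1, map_one] at h1
    have h2 : QuotientGroup.mk' K (k : G) = 1 := (QuotientGroup.eq_one_iff _).2 k.2
    rw [h2, mul_one] at h1
    have h3 : n = 1 := Subtype.ext h1
    rw [h3, map_one, one_mul] at h
    exact Prod.ext h3 (Subtype.ext h)
  have hjbij : Function.Bijective j := by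
    apply hjinj.bijective_of_nat_card_le
    rw [Nat.card_prod, hN, hK, hG]
  have hθ : IsIrrCharacter (N × K) (fun x => (χ' : G → ℂ) (j x)) := χ'.2.comp_surjective j hjbij.surjective
  obtain ⟨a, b, ha, hb, hab⟩ := CharApps.exists_eq_prod hθ
  set α : IrrCharacter N := ⟨a, ha⟩ with hα
  set β : IrrCharacter K := ⟨b, hb⟩ with hβ
  have hdeg : deg χ' = deg α * deg β := by
    have h1 := congrFun hab 1
    simp only [map_one, Prod.fst_one, Prod.snd_one] at h1
    have h2 : a 1 = (α : N → ℂ) 1 := rfl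
    have h3 : b 1 = (β : K → ℂ) 1 := rfl
    rw [h2, h3, apply_one, apply_one, apply_one] at h1
    exact_mod_cast h1
  have hβle : deg β * deg β ≤ 12 := by
    have h5 := CdP.sq_le_index_center β.2 (apply_one β)
    have h6 : (center K).index ≤ 12 := by
      rw [← hK]
      exact Nat.le_of_dvd Nat.card_pos (index_dvd_card _)
    exact h5.trans h6
  have hβ3 : 3 ∣ deg β := by
    obtain ⟨A, B, C, D', X, E', F, H', hT⟩ := M11ByOrder.exists_tab hN
    have h1 := hT.all α
    have hβ4 : deg β ≤ 3 := by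
      by_contra h
      have : 4 ≤ deg β := by omega
      nlinarith
    have hβ0 := deg_pos β
    have hval : deg α = 1 ∨ deg α = 10 ∨ deg α = 45 ∨ deg α = 16 ∨ deg α = 11 ∨ deg α = 44 ∨ deg α = 55 := by
      simp only [List.mem_cons, List.not_mem_nil, or_false] at h1
      rcases h1 with h | h | h | h | h | h | h | h | h | h <;> rw [h]
      · rw [deg_triv]; omega
      · rw [hT.dA]; omega
      · rw [hT.dB]; omega
      · rw [hT.dC]; omega
      · rw [hT.dD]; omega
      · rw [hT.dX]; omega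
      · rw [deg_cc, hT.dX]; omega
      · rw [hT.dE]; omega
      · rw [hT.dF]; omega
      · rw [hT.dH]; omega
    rw [hdeg] at hχ'
    rcases hval with h | h | h | h | h | h | h <;> rw [h] at hχ' <;> omega
  obtain ⟨eK⟩ := alt_four hK hβ3
  haveI := MElevenInv.simple_W
  haveI : Finite MElevenInv.W := MElevenInv.finite_W
  obtain ⟨eN⟩ := M11ByOrder.unique_7920 (G := N) (G' := MElevenInv.W) hN MElevenInv.card_W
  exact ⟨((MulEquiv.ofBijective j hjbij).symm.trans (eN.prodCongr eK)).trans MulEquiv.prodComm⟩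

theorem main (hG : Nat.card G = 95040) {χ χ' : IrrCharacter G} (hχ : 55 ∣ deg χ) (hχ' : 33 ∣ deg χ') :
    Nonempty (G ≃* ↥Cfsg.Spor.M12) ∨ Nonempty (G ≃* alternatingGroup (Fin 4) × ↥Cfsg.Spor.M11) := by
  classical
  haveI := fact11
  obtain ⟨N, D, hNn, hNs, hN11, hDn, hD11, hDC, hDN⟩ := exists_setup hG
  have hO : pPrimeCore 11 (G ⧸ pPrimeCore 11 G) = ⊥ := Cores.pPrimeCore_quotient_pPrimeCore 11 G
  have hmem : ∀ d : D, ((QuotientGroup.mk' (pPrimeCore 11 G)).comp D.subtype) d ∈ N :=
    fun d => by rw [← hDN]; exact mem_map_of_mem _ d.2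
  let φ : D →* N := ((QuotientGroup.mk' (pPrimeCore 11 G)).comp D.subtype).codRestrict N hmem
  have hφ2 : ∀ d : D, (φ d : G ⧸ pPrimeCore 11 G) = QuotientGroup.mk' (pPrimeCore 11 G) (d : G) := fun d => rfl
  have hφ : Function.Surjective φ := by
    rintro ⟨n, hn⟩
    have hn' := hn
    rw [← hDN] at hn'
    obtain ⟨d, hd, hdn⟩ := hn'
    exact ⟨⟨d, hd⟩, Subtype.ext hdn⟩
  have hker : φ.ker ≤ center D := by
    intro d hd
    have h1 : QuotientGroup.mk' (pPrimeCore 11 G) (d : G) = 1 := by
      rw [← hφ2, MonoidHom.mem_ker.1 hd]; rfl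
    have h2 : (d : G) ∈ pPrimeCore 11 G := (QuotientGroup.eq_one_iff _).1 h1
    rw [mem_center_iff]
    intro x
    apply Subtype.ext
    exact (mem_centralizer_iff.1 (hDC x.2) d h2).symm
  have hki : φ.ker.index = Nat.card N := by
    rw [Subgroup.index_ker, MonoidHom.range_eq_top.2 hφ, Subgroup.card_top]
  have hDd : Nat.card D ∣ 95040 := by rw [← hG]; exact card_subgroup_dvd_card D
  have hNd : Nat.card N ∣ 95040 := by
    rw [← hki]
    exact (index_dvd_card _).trans hDd
  by_cases hna : IsMulCommutative N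
  · exfalso
    obtain ⟨x, hx⟩ := exists_prime_orderOf_dvd_card' (G := N) 11 hN11
    have hcy : IsCyclic N := by
      have hn : (zpowers x).Normal := by
        constructor
        intro n hn g
        have h1 : g * n * g⁻¹ = n := by
          rw [hna.is_comm.comm g n, mul_inv_cancel_right]
        rw [h1]; exact hn
      rcases IsSimpleGroup.eq_bot_or_eq_top_of_normal (zpowers x) hn with h | h
      · exfalso
        rw [zpowers_eq_bot] at h
        rw [h, orderOf_one] at hx
        norm_num at hx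
      · refine ⟨⟨x, fun y => ?_⟩⟩
        have h2 : y ∈ zpowers x := by rw [h]; trivial
        exact mem_zpowers_iff.1 h2
    have hcomm := commutative_of_cyclic_center_quotient φ hker
    exact not_comm hG hD11 (χ := χ) (dvd_trans (by norm_num) hχ) (fun a ha b hb => congrArg Subtype.val (hcomm ⟨a, ha⟩ ⟨b, hb⟩))
  · rcases M12OrdX.main hna hNd hN11 with h | h | h
    · exact (not_660 hG φ.ker hker (by rw [hki, h]) hχ).elim
    · right
      exact case_7920 hG (pPrimeCore 11 G) N hO hna h D hDC φ hφ hker hφ2 hχ'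
    · left
      have h1 := Subgroup.card_mul_index φ.ker
      rw [hki, h] at h1
      have h2 := Nat.le_of_dvd (by norm_num) hDd
      have h0 : 0 < Nat.card φ.ker := Nat.card_pos
      have h3 : Nat.card φ.ker = 1 := by nlinarith
      have h4 : Nat.card D = 95040 := by rw [← h1, h3]
      have h5 : D = ⊤ := by rw [← Subgroup.card_eq_iff_eq_top, h4, hG]
      have h6 : Function.Injective φ := (MonoidHom.ker_eq_bot_iff _).1 (Subgroup.card_eq_one.1 h3)
      let e1 : D ≃* N := MulEquiv.ofBijective φ ⟨h6, hφ⟩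
      haveI := MTwelve.simple_W
      obtain ⟨e2⟩ := M12ByOrder.unique_95040 (G := N) (G' := MTwelve.W) h MTwelve.card_W
      subst h5
      exact ⟨(Subgroup.topEquiv.symm.trans e1).trans e2⟩

end Cfsg.Agent.Lib.M12DegY
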