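import Mathlib
import Cfsg.Agent.Lib.Cores
import Cfsg.Agent.Lib.CoprimeAction
import Cfsg.Agent.Lib.CriticalOdd
import Cfsg.Agent.Lib.DegRatio
import Cfsg.Agent.Lib.CdP
import Cfsg.Agent.Lib.M12DegY

/-!
# Groups with a Sylow p-subgroup of order p and a character of degree divisible by p (helper19)
-/

set_option autoImplicit false
set_option linter.all false

namespace Cfsg.Agent.Lib.DegGr

open Subgroup Cfsg Cfsg.Agent.Lib.CharBasic Cfsg.Agent.Lib.ColTools Cfsg.Agent.Lib.SmallSimple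
open scoped ComplexConjugate

universe u

variable {G : Type u} [Group G] [Finite G]


theorem le_cent_of_pgroup {p M : ℕ} (hp : p.Prime) (hok : ∀ s ∈ M.divisors, ∀ f ∈ s.divisors, s % p = f % p → s = f ∨ 6 ∣ s ∨ 10 ∣ s ∨
      15 ∣ s ∨ 14 ∣ s ∨ 21 ∣ s ∨ 35 ∣ s) (hM : M ≠ 0)
    {A S : Subgroup G} (hA : Nat.card A = p) (hAS : A ≤ normalizer (S : Set G)) {q : ℕ} (hq : q.Prime)
    (hS : IsPGroup q S) (hdv : Nat.card S ∣ M) : S ≤ centralizer (A : Set G) := by
  haveI : Fact p.Prime := ⟨hp⟩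
  haveI : Fact q.Prime := ⟨hq⟩
  have hApg : IsPGroup p A := IsPGroup.of_card (n := 1) (by rw [hA, pow_one])
  have h1 := CriticalOdd.card_modEq_centralizer hApg hAS
  have h2 : Nat.card (S ⊓ centralizer (A : Set G) : Subgroup G) ∣ Nat.card S := card_dvd_of_le inf_le_left
  have h0 : Nat.card S ≠ 0 := Nat.card_pos.ne'
  have h3 := hok _ (Nat.mem_divisors.2 ⟨hdv, hM⟩) _ (Nat.mem_divisors.2 ⟨h2, h0⟩) h1
  have hno : ∀ a b : ℕ, a.Prime → b.Prime → a ≠ b → ¬ a * b ∣ Nat.card S := by
    intro a b ha hb hab h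
    obtain ⟨n, hn⟩ := IsPGroup.iff_card.1 hS
    rw [hn] at h
    have h4 := (Nat.prime_dvd_prime_iff_eq ha hq).1 (ha.dvd_of_dvd_pow ((Dvd.intro _ rfl).trans h))
    have h5 := (Nat.prime_dvd_prime_iff_eq hb hq).1 (hb.dvd_of_dvd_pow ((Dvd.intro_left _ rfl).trans h))
    exact hab (h4.trans h5.symm)
  have h4 : Nat.card S = Nat.card (S ⊓ centralizer (A : Set G) : Subgroup G) := by
    rcases h3 with h3 | h3 | h3 | h3 | h3 | h3 | h3
    · exact h3
    · exact (hno 2 3 (by norm_num) (by norm_num) (by norm_num) h3).elim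
    · exact (hno 2 5 (by norm_num) (by norm_num) (by norm_num) h3).elim
    · exact (hno 3 5 (by norm_num) (by norm_num) (by norm_num) h3).elim
    · exact (hno 2 7 (by norm_num) (by norm_num) (by norm_num) h3).elim
    · exact (hno 3 7 (by norm_num) (by norm_num) (by norm_num) h3).elim
    · exact (hno 5 7 (by norm_num) (by norm_num) (by norm_num) h3).elim
  have h5 : S ⊓ centralizer (A : Set G) = S := eq_of_le_of_card_ge inf_le_left h4.le
  exact inf_eq_left.1 h5

/-- a group of order `p` acting on a group of order dividing `M` acts trivially -/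
theorem le_cent {p M : ℕ} (hp : p.Prime) (hpM : ¬ p ∣ M) (hok : ∀ s ∈ M.divisors, ∀ f ∈ s.divisors, s % p = f % p → s = f ∨ 6 ∣ s ∨ 10 ∣ s ∨
      15 ∣ s ∨ 14 ∣ s ∨ 21 ∣ s ∨ 35 ∣ s) (hM : M ≠ 0) {A K : Subgroup G} (hA : Nat.card A = p) (hAK : A ≤ normalizer (K : Set G)) (hdv : Nat.card K ∣ M) :
    K ≤ centralizer (A : Set G) := by
  have hcop : (Nat.card A).Coprime (Nat.card K) := by
    rw [hA]
    exact Nat.Coprime.coprime_dvd_right hdv ((Nat.Prime.coprime_iff_not_dvd hp).2 hpM)
  have hsolv : Group.IsSolvable A := by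
    haveI : Fact p.Prime := ⟨hp⟩
    haveI : IsCyclic A := isCyclic_of_prime_card hA
    infer_instance
  set C : Subgroup G := K ⊓ centralizer (A : Set G) with hC
  have hidx : C.relIndex K = 1 := by
    by_contra h
    obtain ⟨q, hq, hqd⟩ := Nat.exists_prime_and_dvd h
    haveI : Fact q.Prime := ⟨hq⟩
    obtain ⟨S, h1, h2, h3, h4⟩ := CoprimeAction.exists_invariant_sylow hAK hcop (Or.inl hsolv) q
    have h5 : S ≤ C := le_inf h1 (le_cent_of_pgroup hp hok hM hA h4 hq h2 ((card_dvd_of_le h1).trans hdv))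
    have h6 := relIndex_mul_relIndex S C K h5 inf_le_left
    exact h3 (h6 ▸ hqd.mul_left _)
  exact (relIndex_eq_one.1 hidx).trans inf_le_right

/-- a minimal normal subgroup of order divisible by `p` exactly once is simple -/
theorem simple_min {p : ℕ} (hp : p.Prime) {H : Type u} [Group H] [Finite H] (hsq : ¬ p ^ 2 ∣ Nat.card H) (hO : pPrimeCore p H = ⊥)
    (N : Subgroup H) [hNn : N.Normal] (hN : N ≠ ⊥) (hmin : ∀ M : Subgroup H, M.Normal → M ≤ N → M = ⊥ ∨ M = N) :
    IsSimpleGroup N ∧ p ∣ Nat.card N := by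
  haveI : Fact p.Prime := ⟨hp⟩
  have hd : ∀ {X : Type u} [Group X] [Finite X] (hX : pPrimeCore p X = ⊥) (M : Subgroup X), M.Normal → M ≠ ⊥ → p ∣ Nat.card M := by
    intro X _ _ hX M hM hM0
    by_contra h
    apply hM0
    rw [eq_bot_iff, ← hX]
    exact Cores.le_pPrimeCore hM (((Nat.Prime.coprime_iff_not_dvd hp).2 h).symm)
  have h11 : p ∣ Nat.card N := hd hO N hNn hN
  have hON : pPrimeCore p N = ⊥ := by
    have h1 := Cores.map_pPrimeCore_subtype_eq p N
    rw [hO, inf_bot_eq] at h1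
    exact (Subgroup.map_eq_bot_iff_of_injective _ N.subtype_injective).1 h1
  have hsqN : ¬ p ^ 2 ∣ Nat.card N := fun h => hsq (h.trans (card_subgroup_dvd_card N))
  set S : Set H := {x | x ∈ N ∧ x ^ p = 1} with hS
  have hSN : closure S = N := by
    apply le_antisymm
    · rw [closure_le]; exact fun x hx => hx.1
    · obtain ⟨x, hx⟩ := exists_prime_orderOf_dvd_card' (G := N) p h11
      have hx1 : (x : H) ∈ S := ⟨x.2, by
        have h2 := pow_orderOf_eq_one (x : H)
        rw [Subgroup.orderOf_coe, hx] at h2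
        exact h2⟩
      have hnc : normalClosure S = N := by
        rcases hmin (normalClosure S) inferInstance (normalClosure_le_normal (fun x hx => hx.1)) with h | h
        · exfalso
          have h2 : (x : H) ∈ normalClosure S := subset_normalClosure hx1
          rw [h, mem_bot] at h2
          have h3 : x = 1 := Subtype.ext h2
          rw [h3, orderOf_one] at hx
          exact hp.one_lt.ne hx
        · exact h
      rw [← hnc]
      apply Subgroup.closure_mono
      intro y hy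
      obtain ⟨a, ha, hay⟩ := Group.mem_conjugatesOfSet_iff.1 hy
      obtain ⟨c, hc⟩ := isConj_iff.1 hay
      rw [← hc]
      exact ⟨hNn.conj_mem a ha.1 c, by rw [conj_pow, ha.2, mul_one, mul_inv_cancel]⟩
  refine ⟨?_, h11⟩
  haveI : Nontrivial N := (Subgroup.nontrivial_iff_ne_bot N).2 hN
  refine ⟨fun M hM => ?_⟩
  by_cases hM0 : M = ⊥
  · exact Or.inl hM0
  right
  have h1 : p ∣ Nat.card M := hd hON M hM hM0
  have h2 : ¬ p ∣ M.index := by
    intro h
    apply hsqN
    rw [← Subgroup.card_mul_index M, pow_two]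
    exact mul_dvd_mul h1 h
  haveI := hM
  have h3 : S ⊆ (M.map N.subtype : Subgroup H) := by
    intro x hx
    refine ⟨⟨x, hx.1⟩, ?_, rfl⟩
    apply mem_of_orderOf_coprime_index
    have h4 : orderOf (⟨x, hx.1⟩ : N) ∣ p := orderOf_dvd_of_pow_eq_one (Subtype.ext hx.2)
    exact Nat.Coprime.coprime_dvd_left h4 ((Nat.Prime.coprime_iff_not_dvd hp).2 h2)
  have h4 : N ≤ M.map N.subtype := by
    have h5 : Subgroup.closure S ≤ M.map N.subtype := (closure_le _).2 h3
    rwa [hSN] at h5
  rw [eq_top_iff]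
  intro x _
  obtain ⟨y, hy, hyx⟩ := h4 x.2
  have : y = x := Subtype.ext hyx
  rw [← this]; exact hy

/-- the basic set-up -/
theorem exists_setup {p M : ℕ} (hp : p.Prime) (hG : Nat.card G = p * M) (hpM : ¬ p ∣ M)
    (hcent : ∀ P : Sylow p G, (P : Subgroup G) ≤ centralizer (pPrimeCore p G : Set G)) :
    ∃ N : Subgroup (G ⧸ pPrimeCore p G), ∃ D : Subgroup G, N.Normal ∧ IsSimpleGroup N ∧
    p ∣ Nat.card N ∧ D.Normal ∧ p ∣ Nat.card D ∧ D ≤ centralizer (pPrimeCore p G : Set G) ∧
    D.map (QuotientGroup.mk' (pPrimeCore p G)) = N := by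
  haveI : Fact p.Prime := ⟨hp⟩
  set K := pPrimeCore p G with hK
  have hsqG : ¬ p ^ 2 ∣ p * M := by
    intro h
    rw [pow_two] at h
    exact hpM (Nat.dvd_of_mul_dvd_mul_left hp.pos h)
  have hK11 : ¬ p ∣ Nat.card K := by
    have h1 := Cores.coprime_card_pPrimeCore p G
    intro h
    have h2 := Nat.dvd_gcd h (dvd_refl p)
    rw [Nat.Coprime] at h1
    rw [h1] at h2
    exact hp.one_lt.ne' (Nat.dvd_one.1 h2)
  have hcard : Nat.card K * Nat.card (G ⧸ K) = p * M := by
    rw [← hG, ← Subgroup.index_eq_card]; exact Subgroup.card_mul_index K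
  have hH11 : p ∣ Nat.card (G ⧸ K) := by
    have h1 : p ∣ Nat.card K * Nat.card (G ⧸ K) := by rw [hcard]; exact Dvd.intro _ rfl
    exact ((Nat.Prime.dvd_mul hp).1 h1).resolve_left hK11
  have hHsq : ¬ p ^ 2 ∣ Nat.card (G ⧸ K) := by
    intro h
    apply hsqG
    rw [← hcard]; exact h.mul_left _
  haveI : Nontrivial (G ⧸ K) := by
    rw [← Finite.one_lt_card_iff_nontrivial]
    have := Nat.le_of_dvd Nat.card_pos hH11
    have := hp.two_le
    omega
  obtain ⟨N, hNn, hN0, hmin⟩ := M12DegY.exists_min (G ⧸ K)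
  have hO : pPrimeCore p (G ⧸ K) = ⊥ := Cores.pPrimeCore_quotient_pPrimeCore p G
  haveI := hNn
  obtain ⟨hs, hN11⟩ := simple_min hp hHsq hO N hN0 hmin
  obtain ⟨P⟩ : Nonempty (Sylow p G) := inferInstance
  have hP : Nat.card (P : Subgroup G) = p := by
    have := sylow_card_of (G := G) (p := p) (k := 1) (m := M) (by rw [hG, pow_one]) hpM P
    rwa [pow_one] at this
  have hPC := hcent P
  have hPT : (P : Subgroup G) ≤ N.comap (QuotientGroup.mk' K) := by
    intro x hx
    apply mem_of_orderOf_coprime_index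
    have h1 : (N.comap (QuotientGroup.mk' K)).index = N.index := index_comap_of_surjective _ (QuotientGroup.mk'_surjective K)
    have h2 : ¬ p ∣ N.index := by
      intro h
      apply hHsq
      rw [← Subgroup.card_mul_index N, pow_two]
      exact mul_dvd_mul hN11 h
    have h3 : orderOf x ∣ p := by
      have h4 := Subgroup.orderOf_dvd_natCard _ hx
      exact h4.trans (dvd_of_eq hP)
    rw [h1]
    exact Nat.Coprime.coprime_dvd_left h3 ((Nat.Prime.coprime_iff_not_dvd hp).2 h2)
  have hPD : (P : Subgroup G) ≤ centralizer (K : Set G) ⊓ N.comap (QuotientGroup.mk' K) := le_inf hPC hPT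
  have hDn : (centralizer (K : Set G) ⊓ N.comap (QuotientGroup.mk' K)).Normal := inferInstance
  refine ⟨N, centralizer (K : Set G) ⊓ N.comap (QuotientGroup.mk' K), hNn, hs, hN11, hDn, ?_, inf_le_left, ?_⟩
  · have h9 := card_dvd_of_le hPD
    exact (dvd_of_eq hP.symm).trans h9
  · have h1 : (centralizer (K : Set G) ⊓ N.comap (QuotientGroup.mk' K)).map (QuotientGroup.mk' K) ≤ N := by
      rw [map_le_iff_le_comap]; exact inf_le_right
    rcases hmin _ (hDn.map _ (QuotientGroup.mk'_surjective K)) h1 with h | h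
    · exfalso
      rw [Subgroup.map_eq_bot_iff, QuotientGroup.ker_mk'] at h
      apply hK11
      have h9 := card_dvd_of_le (hPD.trans h)
      exact (dvd_of_eq hP.symm).trans h9
    · exact h

/-- no abelian normal subgroup of order divisible by p -/
theorem not_comm {p : ℕ} (hp : p.Prime) (hsq : ¬ p ^ 2 ∣ Nat.card G) {D : Subgroup G} [D.Normal] (h11 : p ∣ Nat.card D)
    {χ : IrrCharacter G} (hχ : p ∣ deg χ)
    (hD : ∀ a ∈ D, ∀ b ∈ D, a * b = b * a) : False := by
  have h1 := CharDegrees.ito χ.2 D hD (deg χ) (apply_one χ)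
  have h2 : p * p ∣ Nat.card D * D.index := mul_dvd_mul h11 (hχ.trans h1)
  rw [Subgroup.card_mul_index] at h2
  apply hsq
  rwa [pow_two]

/-- the nonabelian simple section -/
theorem exists_sec {p M : ℕ} (hp : p.Prime) (hG : Nat.card G = p * M) (hpM : ¬ p ∣ M)
    (hcent : ∀ P : Sylow p G, (P : Subgroup G) ≤ centralizer (pPrimeCore p G : Set G))
    {χ : IrrCharacter G} (hχ : p ∣ deg χ) :
    ∃ N : Subgroup (G ⧸ pPrimeCore p G), ∃ D : Subgroup G, N.Normal ∧ IsSimpleGroup N ∧ ¬ IsMulCommutative N ∧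
    p ∣ Nat.card N ∧ Nat.card N ∣ Nat.card G ∧ D.Normal ∧ D ≤ centralizer (pPrimeCore p G : Set G) ∧
    D.map (QuotientGroup.mk' (pPrimeCore p G)) = N := by
  classical
  haveI : Fact p.Prime := ⟨hp⟩
  obtain ⟨N, D, hNn, hNs, hN11, hDn, hD11, hDC, hDN⟩ := exists_setup hp hG hpM hcent
  have hsqG : ¬ p ^ 2 ∣ Nat.card G := by
    intro h
    rw [hG, pow_two] at h
    exact hpM (Nat.dvd_of_mul_dvd_mul_left hp.pos h)
  have hmem : ∀ d : D, ((QuotientGroup.mk' (pPrimeCore p G)).comp D.subtype) d ∈ N :=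
    fun d => by rw [← hDN]; exact mem_map_of_mem _ d.2
  let φ : D →* N := ((QuotientGroup.mk' (pPrimeCore p G)).comp D.subtype).codRestrict N hmem
  have hφ2 : ∀ d : D, (φ d : G ⧸ pPrimeCore p G) = QuotientGroup.mk' (pPrimeCore p G) (d : G) := fun d => rfl
  have hφ : Function.Surjective φ := by
    rintro ⟨n, hn⟩
    have hn' := hn
    rw [← hDN] at hn'
    obtain ⟨d, hd, hdn⟩ := hn'
    exact ⟨⟨d, hd⟩, Subtype.ext hdn⟩
  have hker : φ.ker ≤ center D := by
    intro d hd
    have h1 : QuotientGroup.mk' (pPrimeCore p G) (d : G) = 1 := by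
      rw [← hφ2, MonoidHom.mem_ker.1 hd]; rfl
    have h2 : (d : G) ∈ pPrimeCore p G := (QuotientGroup.eq_one_iff _).1 h1
    rw [mem_center_iff]
    intro x
    apply Subtype.ext
    exact (mem_centralizer_iff.1 (hDC x.2) d h2).symm
  have hki : φ.ker.index = Nat.card N := by
    rw [Subgroup.index_ker, MonoidHom.range_eq_top.2 hφ, Subgroup.card_top]
  have hNd : Nat.card N ∣ Nat.card G := by
    rw [← hki]
    exact (index_dvd_card _).trans (card_subgroup_dvd_card D)
  refine ⟨N, D, hNn, hNs, ?_, hN11, hNd, hDn, hDC, hDN⟩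
  intro hna
  obtain ⟨x, hx⟩ := exists_prime_orderOf_dvd_card' (G := N) p hN11
  have hcy : IsCyclic N := by
    have hn : (zpowers x).Normal := by
      constructor
      intro n hn g
      have h1 : g * n * g⁻¹ = n := by
        rw [hna.is_comm.comm g n, mul_inv_cancel_right]
      rw [h1]; exact hn
    rcases IsSimpleGroup.eq_bot_or_eq_top_of_normal (zpowers x) hn with h | h
    · exfalso
      rw [zpowers_eq_bot] at h
      rw [h, orderOf_one] at hx
      exact hp.one_lt.ne hx
    · refine ⟨⟨x, fun y => ?_⟩⟩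
      have h2 : y ∈ zpowers x := by rw [h]; trivial
      exact mem_zpowers_iff.1 h2
  have hcomm := commutative_of_cyclic_center_quotient φ hker
  exact not_comm hp hsqG hD11 (χ := χ) hχ (fun a ha b hb => congrArg Subtype.val (hcomm ⟨a, ha⟩ ⟨b, hb⟩))

/-- the section has full order -/
theorem simple_of_card {p : ℕ} (N : Subgroup (G ⧸ pPrimeCore p G)) (hNs : IsSimpleGroup N) (h : Nat.card N = Nat.card G) :
    IsSimpleGroup G := by
  have h1 : Nat.card N ∣ Nat.card (G ⧸ pPrimeCore p G) := card_subgroup_dvd_card N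
  have h2 := Subgroup.card_mul_index (pPrimeCore p G)
  rw [Subgroup.index_eq_card] at h2
  have h3 : Nat.card (G ⧸ pPrimeCore p G) ∣ Nat.card G := Dvd.intro_left _ h2
  have h4 : Nat.card (G ⧸ pPrimeCore p G) = Nat.card G := Nat.dvd_antisymm h3 (h ▸ h1)
  have h5 : Nat.card (pPrimeCore p G) = 1 := by
    rw [h4] at h2
    have h6 : 0 < Nat.card G := Nat.card_pos
    have h7 : Nat.card (pPrimeCore p G) * Nat.card G = 1 * Nat.card G := by rw [h2, one_mul]
    exact Nat.eq_of_mul_eq_mul_right h6 h7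
  have h6 : pPrimeCore p G = ⊥ := Subgroup.card_eq_one.1 h5
  have h7 : N = ⊤ := Subgroup.eq_top_of_card_eq _ (by rw [h4, h])
  have e1 : G ≃* G ⧸ pPrimeCore p G := (QuotientGroup.quotientBot (G := G)).symm.trans (QuotientGroup.quotientMulEquivOfEq h6.symm)
  have e2 : N ≃* G ⧸ pPrimeCore p G := (MulEquiv.subgroupCongr h7).trans Subgroup.topEquiv
  exact ((e2.trans e1.symm).symm).isSimpleGroup

end Cfsg.Agent.Lib.DegGr
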