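import Mathlib
import Cfsg.Agent.Lib.DegGrA
import Cfsg.Agent.Lib.H55Sft3
import Cfsg.Agent.Lib.Burnside

/-!
# The exceptional action on the p'-core (helper19)
-/

set_option autoImplicit false
set_option linter.all false

namespace Cfsg.Agent.Lib.DegGr

open Subgroup Cfsg Cfsg.Agent.Lib.CharBasic Cfsg.Agent.Lib.ColTools Cfsg.Agent.Lib.SmallSimple
open scoped ComplexConjugate

universe u

variable {G : Type u} [Group G] [Finite G]

theorem no_six {q : ℕ} (hq : q.Prime) {S : Subgroup G} (hS : IsPGroup q S) : ¬ 6 ∣ Nat.card S := by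
  intro h
  haveI : Fact q.Prime := ⟨hq⟩
  obtain ⟨n, hn⟩ := IsPGroup.iff_card.1 hS
  rw [hn] at h
  have h4 := (Nat.prime_dvd_prime_iff_eq Nat.prime_two hq).1 (Nat.prime_two.dvd_of_dvd_pow ((by norm_num : 2 ∣ 6).trans h))
  have h5 := (Nat.prime_dvd_prime_iff_eq Nat.prime_three hq).1 (Nat.prime_three.dvd_of_dvd_pow ((by norm_num : 3 ∣ 6).trans h))
  omega

/-- either the Sylow `p`-subgroups centralize the `p'`-core, or there is a normal abelian subgroup of order `c` -/
theorem dich {p M c : ℕ} (hp : p.Prime) (hG : Nat.card G = p * M) (hpM : ¬ p ∣ M) (hM0 : M ≠ 0)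
    (hM : ∀ s ∈ M.divisors, ∃ a ∈ Finset.range 10, ∃ b ∈ Finset.range 10, s = 2 ^ a * 3 ^ b)
    (hex : ∀ s ∈ M.divisors, ∀ f ∈ s.divisors, s % p = f % p → s = f ∨ (s = c ∧ f = 1) ∨ 6 ∣ s) (P : Sylow p G)
    (hc : ∀ z ∈ c.divisors, z % p = 1 % p → z = 1 ∨ z = c) :
    (P : Subgroup G) ≤ centralizer (pPrimeCore p G : Set G) ∨
      ∃ R : Subgroup G, R.Normal ∧ (∀ a ∈ R, ∀ b ∈ R, a * b = b * a) ∧ Nat.card R = c := by
  classical
  haveI : Fact p.Prime := ⟨hp⟩
  set K := pPrimeCore p G with hK
  have hP : Nat.card (P : Subgroup G) = p := by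
    have := sylow_card_of (G := G) (p := p) (k := 1) (m := M) (by rw [hG, pow_one]) hpM P
    rwa [pow_one] at this
  have hPp : IsPGroup p (P : Subgroup G) := P.2
  have hKd : Nat.card K ∣ M := by
    have h1 := Cores.coprime_card_pPrimeCore p G
    have h2 : Nat.card K ∣ p * M := by rw [← hG]; exact card_subgroup_dvd_card K
    exact Nat.Coprime.dvd_of_dvd_mul_left h1 h2
  have hcop : (Nat.card (P : Subgroup G)).Coprime (Nat.card K) := by
    rw [hP]; exact (Cores.coprime_card_pPrimeCore p G).symm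
  have hKs : Group.IsSolvable K := by
    obtain ⟨a, -, b, -, hab⟩ := hM _ (Nat.mem_divisors.2 ⟨hKd, hM0⟩)
    exact Cfsg.Agent.Lib.Burnside.isSolvable_of_card_eq _ 2 3 a b Nat.prime_two Nat.prime_three hab rfl
  have hPK : (P : Subgroup G) ≤ normalizer (K : Set G) := by rw [normalizer_eq_top]; exact le_top
  by_cases hF : ∀ q : ℕ, q.Prime → pCoreOf q K ≤ centralizer ((P : Subgroup G) : Set G)
  · left
    rw [le_centralizer_iff]
    apply Cfsg.Agent.Lib.H55Sft.le_centralizer_of_fitting hKs hPK hcop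
    rw [Cfsg.Agent.Lib.BG08.fittingOf_eq_iSup, iSup_le_iff]
    intro q
    exact hF q q.2
  · right
    push Not at hF
    obtain ⟨q, hq, hqn⟩ := hF
    haveI : Fact q.Prime := ⟨hq⟩
    set R := pCoreOf q K with hR
    have hRn : R.Normal := by
      have h1 : ((pCore q K).map K.subtype).Normal := inferInstance
      exact h1
    have hRq : IsPGroup q R := by
      have h1 : IsPGroup q (pCore q K) := Cores.isPGroup_pCore q K
      exact h1.map K.subtype
    have hRK : R ≤ K := map_subtype_le _
    have hRd : Nat.card R ∣ M := (card_dvd_of_le hRK).trans hKd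
    have hPR : (P : Subgroup G) ≤ normalizer (R : Set G) := by rw [normalizer_eq_top]; exact le_top
    have h1 := CriticalOdd.card_modEq_centralizer hPp hPR
    have h2 : Nat.card (R ⊓ centralizer ((P : Subgroup G) : Set G) : Subgroup G) ∣ Nat.card R := card_dvd_of_le inf_le_left
    have h3 := hex _ (Nat.mem_divisors.2 ⟨hRd, hM0⟩) _ (Nat.mem_divisors.2 ⟨h2, Nat.card_pos.ne'⟩) h1
    rcases h3 with h3 | ⟨h3, h4⟩ | h3
    · exfalso
      apply hqn
      have h5 : R ⊓ centralizer ((P : Subgroup G) : Set G) = R := eq_of_le_of_card_ge inf_le_left h3.le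
      exact inf_eq_left.1 h5
    · refine ⟨R, hRn, ?_, h3⟩
      have h5 : R ⊓ centralizer ((P : Subgroup G) : Set G) = ⊥ := Subgroup.card_eq_one.1 h4
      set Z := R ⊓ centralizer (R : Set G) with hZ
      have hZn : Z.Normal := inferInstance
      have hZp : (P : Subgroup G) ≤ normalizer (Z : Set G) := by rw [normalizer_eq_top]; exact le_top
      have h6 := CriticalOdd.card_modEq_centralizer hPp hZp
      have h7 : Z ⊓ centralizer ((P : Subgroup G) : Set G) = ⊥ := by
        rw [eq_bot_iff, ← h5]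
        exact inf_le_inf_right _ inf_le_left
      rw [h7, Subgroup.card_bot] at h6
      have h8 : Nat.card Z ∣ c := by rw [← h3]; exact card_dvd_of_le inf_le_left
      have hc0 : c ≠ 0 := by rw [← h3]; exact Nat.card_pos.ne'
      have hRnt : Nontrivial R := by
        rw [Subgroup.nontrivial_iff_ne_bot]
        intro h
        apply hqn
        rw [h]; exact bot_le
      rcases hc _ (Nat.mem_divisors.2 ⟨h8, hc0⟩) h6 with h9 | h9
      · exfalso
        have h10 := hRq.center_nontrivial
        obtain ⟨z, hz⟩ := exists_ne (1 : center R)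
        have h11 : ((z : R) : G) ∈ Z := by
          rw [hZ, mem_inf]
          refine ⟨(z : R).2, ?_⟩
          rw [mem_centralizer_iff]
          intro x hx
          exact congrArg Subtype.val (mem_center_iff.1 z.2 ⟨x, hx⟩)
        have h12 : Z = ⊥ := Subgroup.card_eq_one.1 h9
        rw [h12, mem_bot] at h11
        exact hz (Subtype.ext (Subtype.ext h11))
      · have h10 : Z = R := eq_of_le_of_card_ge inf_le_left (by rw [h9, h3])
        intro a ha b hb
        have h11 : b ∈ Z := by rw [h10]; exact hb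
        exact mem_centralizer_iff.1 h11.2 a ha
    · exact (no_six hq hRq h3).elim

/-- the exceptional action contradicts a character of degree divisible by the other prime -/
theorem not_abel {p M c q : ℕ} (hG : Nat.card G = p * M) (hq : q.Prime) {R : Subgroup G} [R.Normal]
    (hR : ∀ a ∈ R, ∀ b ∈ R, a * b = b * a) (hc : Nat.card R = c) (hqM : ¬ c * q ∣ p * M) {χ : IrrCharacter G} (hχ : q ∣ deg χ) : False := by
  have h1 := CharDegrees.ito χ.2 R hR (deg χ) (apply_one χ)
  have h2 : Nat.card R * q ∣ Nat.card R * R.index := mul_dvd_mul_left _ (hχ.trans h1)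
  rw [Subgroup.card_mul_index, hc, hG] at h2
  exact hqM h2

end Cfsg.Agent.Lib.DegGr
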