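import Mathlib
import Cfsg.Agent.Lib.A7Ctx
import Cfsg.Agent.Lib.ColTools

/-!
# The degree graph of a simple group: a vertex outside the principal block (helper19)
-/

set_option autoImplicit false
set_option linter.all false

namespace Cfsg.Agent.Lib.DegGr

open Cfsg Subgroup Cfsg.Agent.Lib.DefOneLoc Cfsg.Agent.Lib.DefOneOrd Cfsg.Agent.Lib.CharBasic
open Cfsg.Agent.Lib.DefOneGram Cfsg.Agent.Lib.DefOne Cfsg.Agent.Lib.BRB0 Cfsg.Agent.Lib.BRCore
open Cfsg.Agent.Lib.PBData Cfsg.Agent.Lib.DefOnePrin Cfsg.Agent.Lib.BlockThird Cfsg.Agent.Lib.SmallSimple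
open Cfsg.Agent.Lib.PBNum Cfsg.Agent.Lib.PBExt Cfsg.Agent.Lib.PBStruct Cfsg.Agent.Lib.PBFull
open Cfsg.Agent.Lib.PBLocal Cfsg.Agent.Lib.A7Chars Cfsg.Agent.Lib.A7Table
open scoped ComplexConjugate

universe u

/-- the numerical check -/
def chk (p M b : ℕ) : Bool :=
  (optsL (fun _ => true) p M b).all fun t => (t.2.1 * t.1 == M) &&
    Nat.blt (1 + (t.2.2.map (fun d : ℤ => d.natAbs ^ 2)).sum + ((p - 1) / t.2.1) * (1 + t.2.2.sum).natAbs ^ 2) (p * M)

theorem cdeg {G : Type u} [Group G] [Finite G] (χ : IrrCharacter G) : charDegree (χ : G → ℂ) = ColTools.deg χ := by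
  have h4 : (ColTools.deg χ : ℂ) = ((charDegree (χ : G → ℂ) : ℕ) : ℂ) := by
    rw [BlockDeg.charDegree_cast_irr, ColTools.apply_one]
  exact_mod_cast h4.symm

/-- a character of degree divisible by `p` -/
theorem vertex_aux {G : Type u} [Group G] [Fintype G] [IsSimpleGroup G] (hG : ¬ IsMulCommutative G) {p M : ℕ} [hp : Fact p.Prime]
    (b : ℕ) (h : Nat.card G = p * M) (hM : ¬ p ∣ M) (hb : p * M < (b + 1) ^ 2) (hlen : lenOk (fun _ => true) p M b = true)
    (hchk : chk p M b = true) : ∃ χ : IrrCharacter G, p ∣ ColTools.deg χ := by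
  classical
  by_contra hcon
  push Not at hcon
  obtain ⟨Q⟩ : Nonempty (Sylow p G) := inferInstance
  have hQ : Nat.card Q = p := (SylEven.data hG (p := p) (M := M) (by rw [h]) hM Q).1
  obtain ⟨D, i, ⟨B⟩⟩ := exists_PBE Q hQ
  obtain ⟨hQ', e, c, l, hN, hC, he, he1, hecn, hmem, hl⟩ := dataL hG (M := M) b (fun _ => true) (by rw [h])
    hM hb B.toPB (fun _ _ => rfl) hlen
  rw [chk, List.all_eq_true] at hchk
  have h1 := hchk _ hmem
  rw [Bool.and_eq_true] at h1
  obtain ⟨h2, h3⟩ := h1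
  have h2' : e * Nat.card (Sylow p G) = M := by simpa using h2
  have h3' : 1 + (l.map (fun d : ℤ => d.natAbs ^ 2)).sum + ((p - 1) / e) * (1 + l.sum).natAbs ^ 2 < p * M := by
    rw [Nat.blt_eq] at h3
    exact h3
  have hM0 : M ≠ 0 := by rintro rfl; exact hM (dvd_zero p)
  have hc : c = 1 := by
    have h4 : c * M = 1 * M := by rw [one_mul, ← h2', ← mul_assoc, mul_comm c e, hecn, h2']
    exact Nat.eq_of_mul_eq_mul_right (Nat.pos_of_ne_zero hM0) h4
  subst hc
  rw [mul_one] at hC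
  have huniv : (Finset.univ : Finset (IrrCharacter G)) ⊆ insert (triv G) (B.X ∪ B.E) := by
    intro χ _
    rcases B.all (hinj_of hC) χ (by rw [cdeg]; exact hcon χ) with h5 | h5 | h5
    · rw [h5]; exact Finset.mem_insert_self _ _
    · exact Finset.mem_insert_of_mem (Finset.mem_union_left _ h5)
    · exact Finset.mem_insert_of_mem (Finset.mem_union_right _ h5)
  have hsum : ∑ χ : IrrCharacter G, charDegree (χ : G → ℂ) ^ 2 = p * M := by
    rw [← h, ← ColTools.sum_deg_sq]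
    refine Finset.sum_congr (by congr) fun χ _ => by rw [cdeg]
  have hle := Finset.sum_le_sum_of_subset (f := fun χ : IrrCharacter G => charDegree (χ : G → ℂ) ^ 2) huniv
  have htX : triv G ∉ B.X ∪ B.E := by
    rw [Finset.mem_union, not_or]; exact ⟨B.hX, B.hE⟩
  rw [Finset.sum_insert htX, Finset.sum_union B.dE, deg_triv, one_pow] at hle
  have hX : ∑ χ ∈ B.X, charDegree (χ : G → ℂ) ^ 2 = (l.map (fun d : ℤ => d.natAbs ^ 2)).sum := by
    rw [← sds_sq, ← hl, Multiset.map_coe, Multiset.sum_coe]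
  have hη : charDegree (B.η : G → ℂ) = (1 + l.sum).natAbs := by
    rw [← natAbs_sd B.toPB, sd_eta, Int.natAbs_neg, ← hl, Multiset.sum_coe]
  have hE : ∑ χ ∈ B.E, charDegree (χ : G → ℂ) ^ 2 = ((p - 1) / e) * (1 + l.sum).natAbs ^ 2 := by
    rw [Finset.sum_congr rfl (fun χ hχ => by rw [deg_eq_of_mem_E B hχ, hη]), Finset.sum_const, B.cardE,
      tau_eq (e := e) (c := 1) hN (by rw [hC, mul_one]), smul_eq_mul]
  rw [hX, hE] at hle
  have hle2 : p * M ≤ 1 + ((l.map (fun d : ℤ => d.natAbs ^ 2)).sum + ((p - 1) / e) * (1 + l.sum).natAbs ^ 2) := by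
    rw [← hsum]; exact hle
  rw [add_assoc] at h3'
  exact absurd h3' (not_lt.2 hle2)

theorem vertex {G : Type u} [Group G] [Finite G] [IsSimpleGroup G] (hG : ¬ IsMulCommutative G) {p M : ℕ} (hp : p.Prime)
    (b : ℕ) (h : Nat.card G = p * M) (hM : ¬ p ∣ M) (hb : p * M < (b + 1) ^ 2) (hlen : lenOk (fun _ => true) p M b = true)
    (hchk : chk p M b = true) : ∃ χ : IrrCharacter G, p ∣ ColTools.deg χ := by
  letI := Fintype.ofFinite G
  haveI : Fact p.Prime := ⟨hp⟩
  exact vertex_aux hG b h hM hb hlen hchk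

end Cfsg.Agent.Lib.DegGr
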