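import Mathlib
import Cfsg.Agent.Lib.A7Ctx
import Cfsg.Agent.Lib.CharGalois
import Cfsg.Agent.Lib.H76Char

/-!
# Rational values and congruences of characters in small simple groups (helper19)
-/

set_option autoImplicit false
set_option linter.all false

namespace Cfsg.Agent.Lib.PBRatS

open Cfsg Subgroup Cfsg.Agent.Lib.CharBasic Cfsg.Agent.Lib.PBNum
open scoped ComplexConjugate

universe u

variable {G : Type u} [Group G] [Finite G]

/-- if all irreducible characters of the degree of `χ` take the same value at `g`, that value is an integer -/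
theorem int_of_unique (χ : IrrCharacter G) (g : G)
    (H : ∀ ψ : IrrCharacter G, charDegree (ψ : G → ℂ) = charDegree (χ : G → ℂ) → (ψ : G → ℂ) g = (χ : G → ℂ) g) :
    ∃ z : ℤ, (χ : G → ℂ) g = z := by
  obtain ⟨q, hq⟩ := CharGalois.exists_rat_of_pow χ.2.isCharacter g (by
    intro k hk
    have h1 := CharGalois.isIrrCharacter_pow χ.2 hk
    have h2 := H ⟨fun g => (χ : G → ℂ) (g ^ k), h1⟩ (by
      have h3 := BlockDeg.charDegree_cast_irr (⟨fun g => (χ : G → ℂ) (g ^ k), h1⟩ : IrrCharacter G)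
      have h4 := BlockDeg.charDegree_cast_irr χ
      have h5 : ((charDegree ((⟨fun g => (χ : G → ℂ) (g ^ k), h1⟩ : IrrCharacter G) : G → ℂ) : ℕ) : ℂ) =
          ((charDegree (χ : G → ℂ) : ℕ) : ℂ) := by
        rw [h3, h4]
        show (χ : G → ℂ) (1 ^ k) = _
        rw [one_pow]
      exact_mod_cast h5)
    exact h2)
  exact CharCentral.exists_int_of_isIntegral_rat (by obtain ⟨n, ρ, hρ⟩ := χ.2.isCharacter; rw [← hρ]; exact CharValues.isIntegral_character ρ g) q hq

/-- congruence at elements of prime power order -/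
theorem par {p : ℕ} [hp : Fact p.Prime] {χ : IrrCharacter G} {g : G} {j : ℕ} (hg : orderOf g = p ^ j) {z : ℤ}
    (hz : (χ : G → ℂ) g = z) : (p : ℤ) ∣ z - charDegree (χ : G → ℂ) := by
  obtain ⟨M, hM⟩ := H76Char.exists_isPModular p
  have h1 := H76Char.idl_sub_one hM χ.2.isCharacter hg
  rw [hz, ← BlockDeg.charDegree_cast_irr] at h1
  have h2 : ((z : ℂ) - ((charDegree (χ : G → ℂ) : ℕ) : ℂ)) = ((z - charDegree (χ : G → ℂ) : ℤ) : ℂ) := by push_cast; rfl
  rw [h2] at h1
  exact (BlockRing.idl_intCast_iff hM _).1 h1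

/-- the sum of the squares over a subgroup -/
theorem dvd_sum_sq (T : Subgroup G) [Fintype T] (χ : IrrCharacter G) (z : T → ℤ) (hz : ∀ t : T, (χ : G → ℂ) t = z t) :
    (Nat.card T : ℤ) ∣ ∑ t : T, z t ^ 2 := by
  classical
  have h1 : IsCharacter T (fun t : T => (χ : G → ℂ) t) := χ.2.isCharacter.comp T.subtype
  obtain ⟨n, hn⟩ := h1.classInner_nat h1
  have h2 := CharGalois.card_mul_classInner_self h1
  rw [hn] at h2
  refine ⟨n, ?_⟩
  have h3 : ((Nat.card T * n : ℤ) : ℂ) = ((∑ t : T, z t ^ 2 : ℤ) : ℂ) := by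
    push_cast
    rw [h2]
    refine Finset.sum_congr rfl fun t _ => ?_
    rw [hz t]
    have h4 : (χ : G → ℂ) ((t⁻¹ : T) : G) = z t := by
      rw [Subgroup.coe_inv, ← ColTools.conj_apply, hz t]
      simp
    rw [h4]; ring
  exact_mod_cast h3.symm

end Cfsg.Agent.Lib.PBRatS
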