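import Mathlib
import Cfsg.Agent.Lib.PBRatS

/-!
# No simple group of order 1344 (helper19)
-/

set_option autoImplicit false
set_option linter.all false

namespace Cfsg.Agent.Lib.Ord1344

open Cfsg Subgroup Cfsg.Agent.Lib.DefOneLoc Cfsg.Agent.Lib.DefOneOrd Cfsg.Agent.Lib.CharBasic
open Cfsg.Agent.Lib.DefOneGram Cfsg.Agent.Lib.DefOne Cfsg.Agent.Lib.BRB0 Cfsg.Agent.Lib.BRCore
open Cfsg.Agent.Lib.PBData Cfsg.Agent.Lib.DefOnePrin Cfsg.Agent.Lib.BlockThird Cfsg.Agent.Lib.SmallSimple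
open Cfsg.Agent.Lib.PBNum Cfsg.Agent.Lib.PBExt Cfsg.Agent.Lib.PBStruct Cfsg.Agent.Lib.PBFull
open Cfsg.Agent.Lib.PBLocal Cfsg.Agent.Lib.A7Chars Cfsg.Agent.Lib.A7Table
open scoped ComplexConjugate

universe u

theorem opts1344 : optsL (fun _ => true) 7 192 36 = [(64, 3, [-6, 8])] := by decide +kernel

theorem aux {G : Type u} [Group G] [Fintype G] [IsSimpleGroup G] (hG : ¬ IsMulCommutative G) :
    Nat.card G ≠ 1344 := by
  classical
  intro h
  haveI : Fact (Nat.Prime 7) := ⟨by norm_num⟩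
  obtain ⟨Q⟩ : Nonempty (Sylow 7 G) := inferInstance
  have hQ : Nat.card Q = 7 := (SylEven.data hG (p := 7) (M := 192) (by rw [h]) (by norm_num) Q).1
  obtain ⟨D, i, ⟨B⟩⟩ := exists_PBE Q hQ
  obtain ⟨hQ', e, c, l, hN, hC, he, he1, hecn, hmem, hl⟩ := dataL hG (M := 192) 36 (fun _ => true) (by rw [h])
    (by norm_num) (by norm_num) B.toPB (fun _ _ => rfl) (by decide +kernel)
  rw [opts1344, List.mem_singleton, Prod.mk.injEq, Prod.mk.injEq] at hmem
  obtain ⟨h1, rfl, rfl⟩ := hmem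
  rw [h1] at hecn
  have hc : c = 1 := by omega
  subst hc
  rw [mul_one] at hC
  have hη : sd B.toPB B.η = -3 := by rw [sd_eta, ← hl]; decide
  have hη1 : charDegree (B.η : G → ℂ) = 3 := by
    have := natAbs_sd B.toPB B.η
    rw [hη] at this
    exact this.symm
  have hXd : ∀ χ ∈ B.X, charDegree (χ : G → ℂ) = 6 ∨ charDegree (χ : G → ℂ) = 8 := by
    intro χ hχ
    have h2 : sd B.toPB χ ∈ sds B.toPB := Multiset.mem_map.2 ⟨χ, hχ, rfl⟩
    rw [← hl] at h2
    have h3 := natAbs_sd B.toPB χ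
    simp only [Multiset.mem_coe, List.mem_cons, List.not_mem_nil, or_false] at h2
    rcases h2 with h2 | h2 <;> rw [h2] at h3
    · left; exact h3.symm
    · right; exact h3.symm
  -- integrality
  have hint : ∀ g : G, ¬ 7 ∣ orderOf g → ∃ z : ℤ, (B.η : G → ℂ) g = z := by
    intro g hg
    apply PBRatS.int_of_unique
    intro ψ hψ
    rw [hη1] at hψ
    rcases B.all (hinj_of hC) ψ (by rw [hψ]; norm_num) with h2 | h2 | h2
    · rw [h2, deg_triv] at hψ; norm_num at hψ
    · rcases hXd ψ h2 with h3 | h3 <;> rw [hψ] at h3 <;> norm_num at h3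
    · exact B.eqE ψ h2 g hg
  obtain ⟨T⟩ : Nonempty (Sylow 2 G) := inferInstance
  have hT : Nat.card (T : Subgroup G) = 64 := by
    have h1 := T.card_eq_multiplicity
    rw [h] at h1
    have h2 : (1344 : ℕ).factorization 2 = 6 := by
      rw [show (1344 : ℕ) = 2 ^ 6 * 21 by norm_num, Nat.factorization_mul (by norm_num) (by norm_num),
        Nat.Prime.factorization_pow (by norm_num)]
      simp [Nat.factorization_eq_zero_of_not_dvd]
    rw [h2] at h1
    exact h1
  have hord : ∀ t : (T : Subgroup G), ∃ j, orderOf (t : G) = 2 ^ j := by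
    intro t
    obtain ⟨j, hj⟩ := (IsPGroup.iff_orderOf.1 T.2) t
    exact ⟨j, by rw [Subgroup.orderOf_coe]; exact hj⟩
  have hz : ∀ t : (T : Subgroup G), ∃ z : ℤ, (B.η : G → ℂ) t = z := by
    intro t
    apply hint
    obtain ⟨j, hj⟩ := hord t
    rw [hj]
    intro h7
    have := (Nat.Prime.dvd_of_dvd_pow (by norm_num) h7)
    norm_num at this
  choose z hz using hz
  have hsq : ∀ t : (T : Subgroup G), t ≠ 1 → z t ^ 2 = 1 := by
    intro t ht
    obtain ⟨j, hj⟩ := hord t
    have h2 := PBRatS.par (p := 2) hj (hz t)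
    rw [hη1] at h2
    have h3 := ColTools.norm_lt hG (χ := B.η) B.hη (g := (t : G)) (by
      intro h4; exact ht (Subtype.ext h4))
    have h4 : (ColTools.deg B.η : ℂ) = ((charDegree (B.η : G → ℂ) : ℕ) : ℂ) := by
      rw [BlockDeg.charDegree_cast_irr, ColTools.apply_one]
    have h5 : ColTools.deg B.η = 3 := by
      have : ColTools.deg B.η = charDegree (B.η : G → ℂ) := by exact_mod_cast h4
      rw [this, hη1]
    rw [h5, hz t] at h3
    have h6 : |z t| < 3 := by
      have h7 : ‖((z t : ℤ) : ℂ)‖ = |((z t : ℤ) : ℝ)| := by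
        rw [Complex.norm_intCast]
      rw [h7] at h3
      exact_mod_cast h3
    rw [abs_lt] at h6
    obtain ⟨h7, h8⟩ := h6
    obtain ⟨w, hw⟩ := h2
    have : z t = 1 ∨ z t = -1 := by push_cast at hw; omega
    rcases this with h | h <;> rw [h] <;> norm_num
  have hz1 : z 1 = 3 := by
    have h2 := hz 1
    rw [Subgroup.coe_one, ← BlockDeg.charDegree_cast_irr, hη1] at h2
    exact_mod_cast h2.symm
  have hsum : ∑ t : (T : Subgroup G), z t ^ 2 = 72 := by
    rw [← Finset.add_sum_erase Finset.univ _ (Finset.mem_univ (1 : (T : Subgroup G))), hz1,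
      Finset.sum_congr rfl (fun t ht => hsq t (Finset.ne_of_mem_erase ht)), Finset.sum_const,
      Finset.card_erase_of_mem (Finset.mem_univ _), Finset.card_univ, ← Nat.card_eq_fintype_card, hT]
    norm_num
  have hdv := PBRatS.dvd_sum_sq (T : Subgroup G) B.η z hz
  rw [hsum, hT] at hdv
  norm_num at hdv

theorem ne_1344 {G : Type u} [Group G] [Finite G] [IsSimpleGroup G] (hG : ¬ IsMulCommutative G) : Nat.card G ≠ 1344 := by
  letI := Fintype.ofFinite G
  exact aux hG

end Cfsg.Agent.Lib.Ord1344
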