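import Mathlib
import Cfsg.Agent.Lib.A7Ctx

/-!
# A numerical test on values at involutions, for `C(P) = P` (helper54)
-/

set_option autoImplicit false
set_option linter.all false

namespace Cfsg.Agent.Lib.PBFchk

open Cfsg Subgroup Cfsg.Agent.Lib.DefOneLoc Cfsg.Agent.Lib.DefOneOrd Cfsg.Agent.Lib.CharBasic
open Cfsg.Agent.Lib.DefOneGram Cfsg.Agent.Lib.DefOne Cfsg.Agent.Lib.BRB0 Cfsg.Agent.Lib.BRCore
open Cfsg.Agent.Lib.PBData Cfsg.Agent.Lib.DefOnePrin Cfsg.Agent.Lib.BlockThird Cfsg.Agent.Lib.SmallSimple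
open Cfsg.Agent.Lib.PBNum Cfsg.Agent.Lib.PBExt Cfsg.Agent.Lib.PBStruct Cfsg.Agent.Lib.PBFull
open Cfsg.Agent.Lib.PBLocal Cfsg.Agent.Lib.A7Table
open scoped ComplexConjugate

universe u

/-- possible signed values at an involution for a signed degree `D` -/
def kvals (D : ℤ) : List ℤ :=
  (List.range D.natAbs).flatMap fun k => if Nat.blt 0 k && Nat.blt (2 * k) D.natAbs then [D.sign * (D.natAbs - 4 * k)] else []

theorem mem_kvals {D : ℤ} {k : ℕ} (h1 : 0 < k) (h2 : 2 * k < D.natAbs) : D.sign * (D.natAbs - 4 * k) ∈ kvals D := by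
  rw [kvals, List.mem_flatMap]
  refine ⟨k, List.mem_range.2 (by omega), ?_⟩
  rw [if_pos]
  · exact List.mem_singleton.2 rfl
  · rw [Bool.and_eq_true, Nat.blt_eq, Nat.blt_eq]; exact ⟨h1, h2⟩

/-- the search -/
def fsr (test : ℤ → Bool) (L : ℤ) : List ℤ → ℤ → ℤ → Bool
  | [], sA, sF => sA == -1 && test sF
  | D :: Ds, sA, sF => (kvals D).any fun A => fsr test L Ds (sA + A) (sF + A ^ 2 * (L / D))

theorem fsr_of {α : Type*} (test : ℤ → Bool) (L : ℤ) (D A : α → ℤ) : ∀ (l : List α) (sA sF : ℤ),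
    (∀ x ∈ l, A x ∈ kvals (D x)) → sA + (l.map A).sum = -1 → test (sF + (l.map (fun x => A x ^ 2 * (L / D x))).sum) = true →
    fsr test L (l.map D) sA sF = true := by
  intro l
  induction l with
  | nil =>
    intro sA sF _ h1 h2
    simp only [List.map_nil, List.sum_nil, add_zero] at h1 h2
    rw [List.map_nil, fsr, Bool.and_eq_true]
    exact ⟨beq_iff_eq.2 h1, h2⟩
  | cons x l ih =>
    intro sA sF h0 h1 h2
    rw [List.map_cons, fsr, List.any_eq_true]
    refine ⟨A x, h0 x List.mem_cons_self, ?_⟩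
    apply ih
    · intro y hy; exact h0 y (List.mem_cons_of_mem _ hy)
    · rw [List.map_cons, List.sum_cons] at h1; rw [add_assoc]; exact h1
    · rw [List.map_cons, List.sum_cons] at h2; rw [add_assoc]; exact h2

/-- the final test: `N * (L + sF) = p * L * c ^ 2` for some `c` in the list, or zero if allowed -/
def tst (N p : ℕ) (L : ℤ) (z : Bool) (cs : List ℕ) (sF : ℤ) : Bool :=
  (z && (L + sF == 0)) || cs.any fun c => (N : ℤ) * (L + sF) == p * L * (c : ℤ) ^ 2

/-- list extraction -/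
theorem ext_list {α β : Type*} {f : α → β} : ∀ (l : List β) (s : Multiset α), s.map f = (l : Multiset β) →
    ∃ l' : List α, s = (l' : Multiset α) ∧ l'.map f = l := by
  intro l
  induction l with
  | nil =>
    intro s hs
    rw [Multiset.coe_nil, Multiset.map_eq_zero] at hs
    exact ⟨[], hs, rfl⟩
  | cons b l ih =>
    intro s hs
    rw [← Multiset.cons_coe] at hs
    obtain ⟨x, s', rfl, hx, hs'⟩ := ext1 hs
    obtain ⟨l', rfl, hl'⟩ := ih s' hs'
    exact ⟨x :: l', rfl, by rw [List.map_cons, hx, hl']⟩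

/-- an involution centralized by a Sylow 2-subgroup -/
theorem central_invol {G : Type*} [Group G] [Finite G] (h : 2 ∣ Nat.card G) :
    ∃ (T : Sylow 2 G) (t : G), orderOf t = 2 ∧ t ∈ (T : Subgroup G) ∧
      Nat.card (T : Subgroup G) ∣ Nat.card (centralizer ({t} : Set G)) := by
  classical
  obtain ⟨T⟩ : Nonempty (Sylow 2 G) := inferInstance
  have hne : (T : Subgroup G) ≠ ⊥ := T.ne_bot_of_dvd_card h
  have hnt : Nontrivial (T : Subgroup G) := (Subgroup.nontrivial_iff_ne_bot _).2 hne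
  have hc := T.2.center_nontrivial
  have h2 : 2 ∣ Nat.card (center (T : Subgroup G)) := by
    have hpg : IsPGroup 2 (center (T : Subgroup G)) := T.2.to_subgroup _
    obtain ⟨n, hn⟩ := IsPGroup.iff_card.1 hpg
    have : 1 < Nat.card (center (T : Subgroup G)) := Finite.one_lt_card_iff_nontrivial.2 hc
    rw [hn] at this ⊢
    have hn0 : n ≠ 0 := by rintro rfl; simp at this
    exact dvd_pow_self 2 hn0
  obtain ⟨z, hz⟩ := exists_prime_orderOf_dvd_card' (G := center (T : Subgroup G)) 2 h2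
  refine ⟨T, z, by rw [Subgroup.orderOf_coe, Subgroup.orderOf_coe]; exact hz, (z : (T : Subgroup G)).2, ?_⟩
  apply Subgroup.card_dvd_of_le
  intro x hx
  rw [mem_centralizer_singleton_iff]
  have := mem_center_iff.1 z.2 ⟨x, hx⟩
  exact congrArg Subtype.val this

section

variable {G : Type u} [Group G] [Fintype G] [IsSimpleGroup G] (hG : ¬ IsMulCommutative G)
variable {p : ℕ} [hp : Fact p.Prime] {Q : Sylow p G} [Fintype (centralizer ((Q : Subgroup G) : Set G))]
  {D : Loc p (Q : Subgroup G) (normalizer ((Q : Subgroup G) : Set G)) (centralizer ((Q : Subgroup G) : Set G))}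

include hG in
/-- the main consequence -/
theorem fchk (hp2 : p ≠ 2) (B : PB D) (hC : Nat.card (centralizer ((Q : Subgroup G) : Set G)) = p)
    {l : List ℤ} (hl : full B = (l : Multiset ℤ)) {w : G} (hw : orderOf w = 2) (L : ℤ) (hL0 : L ≠ 0) (hL : ∀ d ∈ l, d ∣ L)
    (z : Bool) (cs : List ℕ) (hcs : Nat.card (centralizer ({w} : Set G)) ∈ cs)
    (hz : z = false → ∃ x, IsConj w x ∧ x * D.u * x⁻¹ = D.u⁻¹) :
    fsr (tst (Nat.card G) p L z cs) L l 0 0 = true := by
  classical
  have hZ := SimpleDeg.center_eq_bot (G := G) (fun h => hG ⟨⟨h⟩⟩)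
  obtain ⟨l', hl', hl2⟩ := ext_list l _ hl
  -- nontrivial characters
  have hne : ∀ χ ∈ l', χ ≠ triv G := by
    intro χ hχ
    have h1 : χ ∈ B.η ::ₘ B.X.val := by rw [hl']; exact hχ
    rw [Multiset.mem_cons] at h1
    rcases h1 with rfl | h1
    · exact B.hη
    · rintro rfl; exact B.hX h1
  have hdeg1 : ∀ χ ∈ l', charDegree (χ : G → ℂ) ≠ 1 := by
    intro χ hχ h1
    have := two_le_deg hG (hne χ hχ)
    omega
  have hval : ∀ χ : IrrCharacter G, ∃ v : ℤ, χ ∈ l' → (χ : G → ℂ) w = (v : ℂ) ∧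
      ∃ k : ℕ, v = (charDegree (χ : G → ℂ) : ℤ) - 4 * k ∧ 0 < k ∧ 2 * k < charDegree (χ : G → ℂ) := by
    intro χ
    by_cases hχ : χ ∈ l'
    · obtain ⟨k, hk, hk0, hk1⟩ := invol_val hG (χ := χ) rfl (hdeg1 χ hχ) hw
      exact ⟨(charDegree (χ : G → ℂ) : ℤ) - 4 * k, fun _ => ⟨hk, k, rfl, hk0, hk1⟩⟩
    · exact ⟨0, fun h => absurd h hχ⟩
  choose v hv using hval
  have hw2 : w * w = 1 := by rw [← pow_two, ← hw, pow_orderOf_eq_one]
  have hreg : ¬ p ∣ orderOf w := reg_of_invol hp2 hw2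
  have hsumW : ∀ F : IrrCharacter G → ℂ, ((B.η ::ₘ B.X.val).map F).sum = (l'.map F).sum := by
    intro F
    rw [hl', Multiset.map_coe, Multiset.sum_coe]
  rw [← hl2]
  apply fsr_of (tst (Nat.card G) p L z cs) L (fun χ => sd B χ) (fun χ => B.σ χ * v χ)
  · intro χ hχ
    obtain ⟨h1, k, h2, h3, h4⟩ := hv χ hχ
    have h5 : (sd B χ).sign = B.σ χ := by
      have hd0 : (0 : ℤ) < charDegree (χ : G → ℂ) := by exact_mod_cast BlockDeg.charDegree_pos χ.2
      rw [sd]
      rcases B.pm χ with h6 | h6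
      · rw [h6, one_mul, Int.sign_eq_one_of_pos hd0]
      · rw [h6, neg_one_mul, Int.sign_neg, Int.sign_eq_one_of_pos hd0]
    have h6 := mem_kvals (D := sd B χ) (k := k) h3 (by rw [natAbs_sd]; exact h4)
    rw [h5, natAbs_sd] at h6
    rw [h2]; exact h6
  · have h1 := B.rel w hreg
    rw [add_assoc, sum_full, hsumW] at h1
    have h2 : (l'.map (fun χ => (B.σ χ : ℂ) * (χ : G → ℂ) w)).sum = (((l'.map (fun χ => B.σ χ * v χ)).sum : ℤ) : ℂ) := by
      rw [Int.cast_list_sum, List.map_map]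
      congr 1
      apply List.map_congr_left
      intro χ hχ
      rw [Function.comp_apply, (hv χ hχ).1]; push_cast; rfl
    rw [h2] at h1
    have h3 : 1 + (l'.map (fun χ => B.σ χ * v χ)).sum = 0 := by exact_mod_cast h1
    omega
  · -- the sum of squares
    have hLd : ∀ χ ∈ l', sd B χ ∣ L := by
      intro χ hχ
      apply hL
      rw [← hl2]
      exact List.mem_map.2 ⟨χ, hχ, rfl⟩
    set SF : ℤ := (l'.map (fun χ => (B.σ χ * v χ) ^ 2 * (L / sd B χ))).sum with hSF
    have h2 : (L : ℂ) * ((B.η ::ₘ B.X.val).map (fun χ => (B.σ χ : ℂ) * ((χ : G → ℂ) w ^ 2 / (χ : G → ℂ) 1))).sum = (SF : ℂ) := by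
      rw [hsumW, hSF, Int.cast_list_sum, ← List.sum_map_mul_left, List.map_map]
      congr 1
      apply List.map_congr_left
      intro χ hχ
      obtain ⟨m, hm⟩ := hLd χ hχ
      have hd0 : (charDegree (χ : G → ℂ) : ℂ) ≠ 0 := by exact_mod_cast (BlockDeg.charDegree_pos χ.2).ne'
      have hsd0 : sd B χ ≠ 0 := by
        intro h0
        rw [h0, zero_mul] at hm
        exact hL0 hm
      rw [Function.comp_apply, (hv χ hχ).1, ← BlockDeg.charDegree_cast_irr]
      have h3 : L / sd B χ = m := by rw [hm]; exact Int.mul_ediv_cancel_left _ hsd0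
      rw [h3, hm, sd]
      have h4 : ((B.σ χ : ℤ) : ℂ) ^ 2 = 1 := by
        rcases B.pm χ with h | h <;> rw [h] <;> norm_num
      push_cast
      field_simp
    have hnum : (Nat.card G : ℂ) * (1 + ((B.η ::ₘ B.X.val).map (fun χ => (B.σ χ : ℂ) * ((χ : G → ℂ) w ^ 2 / (χ : G → ℂ) 1))).sum) =
        (Nat.card (centralizer ({w} : Set G)) : ℂ) ^ 2 * p ∨
        (z = true ∧ 1 + ((B.η ::ₘ B.X.val).map (fun χ => (B.σ χ : ℂ) * ((χ : G → ℂ) w ^ 2 / (χ : G → ℂ) 1))).sum = 0) := by
      by_cases hc : ∃ x, IsConj w x ∧ x * D.u * x⁻¹ = D.u⁻¹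
      · left
        obtain ⟨x, hx, hx'⟩ := hc
        have hx2 : x * x = 1 := by
          rw [← pow_two]
          apply orderOf_dvd_iff_pow_eq_one.1
          rw [← order_conj hx, hw]
        have h3 := F_one B (hinj_of hC) hp2 hx2 hx'
        rw [add_assoc, sum_full, ← card_cent_conj hx] at h3
        rw [← h3]
        congr 3
        refine Multiset.map_congr rfl fun χ _ => ?_
        rw [val_conj χ hx]
      · right
        refine ⟨?_, ?_⟩
        · rcases Bool.eq_false_or_eq_true z with h | h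
          · exact h
          · exact absurd (hz h) hc
        · push Not at hc
          have h3 := F_zero B (hinj_of hC) hp2 hw2 hc
          rw [add_assoc, sum_full] at h3
          exact h3
    rw [zero_add, tst, Bool.or_eq_true]
    rcases hnum with h3 | ⟨h3, h4⟩
    · right
      rw [List.any_eq_true]
      refine ⟨_, hcs, ?_⟩
      rw [beq_iff_eq]
      have h4 : ((Nat.card G : ℤ) : ℂ) * ((L + SF : ℤ) : ℂ) =
          ((p * L * (Nat.card (centralizer ({w} : Set G)) : ℤ) ^ 2 : ℤ) : ℂ) := by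
        push_cast
        rw [← h2]
        linear_combination (L : ℂ) * h3
      exact_mod_cast h4
    · left
      rw [h3, Bool.true_and, beq_iff_eq]
      have h5 : ((L + SF : ℤ) : ℂ) = 0 := by
        push_cast
        rw [← h2]
        linear_combination (L : ℂ) * h4
      exact_mod_cast h5

end

end Cfsg.Agent.Lib.PBFchk
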