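import Mathlib
import Cfsg.Agent.Lib.PBFchk

/-!
# Excluding orders by degrees and values at involutions (helper54)
-/

set_option autoImplicit false
set_option linter.all false

namespace Cfsg.Agent.Lib.PBKill

open Cfsg Subgroup Cfsg.Agent.Lib.DefOneLoc Cfsg.Agent.Lib.DefOneOrd Cfsg.Agent.Lib.CharBasic
open Cfsg.Agent.Lib.DefOneGram Cfsg.Agent.Lib.DefOne Cfsg.Agent.Lib.BRB0 Cfsg.Agent.Lib.BRCore
open Cfsg.Agent.Lib.PBData Cfsg.Agent.Lib.DefOnePrin Cfsg.Agent.Lib.BlockThird Cfsg.Agent.Lib.SmallSimple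
open Cfsg.Agent.Lib.PBNum Cfsg.Agent.Lib.PBExt Cfsg.Agent.Lib.PBStruct Cfsg.Agent.Lib.PBFull
open Cfsg.Agent.Lib.PBLocal Cfsg.Agent.Lib.PBFchk
open scoped ComplexConjugate

universe u

/-- all multiples of `m` dividing `N` are in the list -/
def csOk (N m : ℕ) (cs : List ℕ) : Bool := (List.range (N / m + 1)).all fun d => !(N % (m * d) == 0) || cs.contains (m * d)

theorem mem_cs {N m c : ℕ} {cs : List ℕ} (h : csOk N m cs = true) (hN : 0 < N) (hm : 0 < m) (h1 : c ∣ N) (h2 : m ∣ c) : c ∈ cs := by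
  obtain ⟨d, rfl⟩ := h2
  rw [csOk, List.all_eq_true] at h
  have h3 : d ∈ List.range (N / m + 1) := by
    rw [List.mem_range, Nat.lt_succ_iff, Nat.le_div_iff_mul_le hm, mul_comm]
    exact Nat.le_of_dvd hN h1
  have h4 := h d h3
  rw [Nat.mod_eq_zero_of_dvd h1] at h4
  simpa using h4

/-- not commutative -/
theorem not_comm {G : Type*} [Group G] [Finite G] [IsSimpleGroup G] (h : ¬ (Nat.card G).Prime) : ¬ IsMulCommutative G := by
  intro hc
  letI : CommGroup G := { (inferInstance : Group G) with mul_comm := hc.is_comm.comm }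
  exact h (IsSimpleGroup.prime_card (α := G))

/-- the combined check on one solution -/
def lfail (N p : ℕ) (L : ℤ) (cs : List ℕ) (l : List ℤ) : Bool :=
  (((-(1 + l.sum)) :: l).all fun d => L % d == 0) && !(fsr (tst N p L true cs) L ((-(1 + l.sum)) :: l) 0 0)

variable {G : Type u} [Group G] [Fintype G] [IsSimpleGroup G]

/-- all options have `c = 1` and fail the test -/
def killOk (flt : ℕ → Bool) (N p M b : ℕ) (L : ℤ) (cs : List ℕ) : Bool :=
  (optsL flt p M b).all fun t => (t.2.1 * t.1 == M) && lfail N p L cs t.2.2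

theorem kill {p : ℕ} [hp : Fact p.Prime] (hp2 : p ≠ 2) (hG : ¬ IsMulCommutative G) {N M : ℕ} (b m : ℕ) (L : ℤ) (cs : List ℕ)
    (h : Nat.card G = N) (hNM : N = p * M) (hM : ¬ p ∣ M) (hb : p * M < (b + 1) ^ 2) (hL0 : L ≠ 0)
    (hm : ∀ T : Sylow 2 G, Nat.card (T : Subgroup G) = m) (h2 : 2 ∣ N) (hm0 : 0 < m)
    (hcs : csOk N m cs = true) (hlen : lenOk (fun _ => true) p M b = true)
    (hk : killOk (fun _ => true) N p M b L cs = true) : False := by
  classical
  obtain ⟨Q⟩ : Nonempty (Sylow p G) := inferInstance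
  have hQ : Nat.card Q = p := (SylEven.data hG (p := p) (M := M) (by rw [h, hNM]) hM Q).1
  obtain ⟨D, i, ⟨B⟩⟩ := exists_PBE Q hQ
  obtain ⟨-, e, c, l, hN, hC, he, he1, hecn, hmem, hl⟩ := dataL hG (M := M) b (fun _ => true) (by rw [h, hNM])
    hM hb B.toPB (fun _ _ => rfl) hlen
  rw [killOk, List.all_eq_true] at hk
  have hk1 := hk _ hmem
  rw [Bool.and_eq_true, beq_iff_eq] at hk1
  obtain ⟨hk1, hk2⟩ := hk1
  simp only at hk1 hk2
  have hM0 : 0 < M := Nat.pos_of_ne_zero (by rintro rfl; exact hM (dvd_zero p))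
  have hc : c = 1 := by
    have h3 : e * Nat.card (Sylow p G) * c = e * Nat.card (Sylow p G) * 1 := by
      calc e * Nat.card (Sylow p G) * c = e * c * Nat.card (Sylow p G) := by ring
        _ = M := hecn
        _ = e * Nat.card (Sylow p G) * 1 := by rw [mul_one, hk1]
    have h4 : 0 < e * Nat.card (Sylow p G) := by rw [hk1]; exact hM0
    exact Nat.eq_of_mul_eq_mul_left h4 h3
  rw [hc, mul_one] at hC
  obtain ⟨T, t, ht2, htT, hTC⟩ := central_invol (G := G) (by rw [h]; exact h2)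
  rw [lfail, Bool.and_eq_true, List.all_eq_true, Bool.not_eq_true'] at hk2
  have hN0 : 0 < N := by rw [← h]; exact Nat.card_pos
  have hmc : Nat.card (centralizer ({t} : Set G)) ∈ cs := by
    apply mem_cs hcs hN0 hm0
    · rw [← h]; exact Subgroup.card_subgroup_dvd_card _
    · rw [← hm T]; exact hTC
  have h5 := fchk hG hp2 B.toPB hC (l := (-(1 + l.sum)) :: l) (by rw [full_eq _ hl]; rfl) ht2 L hL0
    (fun d hd => Int.dvd_of_emod_eq_zero (by simpa using hk2.1 d hd)) true cs hmc (by intro h; exact absurd h (by simp))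
  rw [h, hk2.2] at h5
  exact absurd h5 (by simp)

end Cfsg.Agent.Lib.PBKill
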