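import Mathlib
import Cfsg.Agent.Lib.PBRatS
import Cfsg.Agent.Lib.PBKill
import Cfsg.Agent.Lib.PBOpts
import Cfsg.Agent.Lib.H31Extremal
import Cfsg.Agent.Lib.BrauerFowler

/-!
# No simple groups of orders 1404, 1512, 3360 (helper19)
-/

set_option autoImplicit false
set_option linter.all false

namespace Cfsg.Agent.Lib.OrdMiscS

open Cfsg Subgroup Cfsg.Agent.Lib.DefOneLoc Cfsg.Agent.Lib.DefOneOrd Cfsg.Agent.Lib.CharBasic
open Cfsg.Agent.Lib.DefOneGram Cfsg.Agent.Lib.DefOne Cfsg.Agent.Lib.BRB0 Cfsg.Agent.Lib.BRCore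
open Cfsg.Agent.Lib.PBData Cfsg.Agent.Lib.DefOnePrin Cfsg.Agent.Lib.BlockThird Cfsg.Agent.Lib.SmallSimple
open Cfsg.Agent.Lib.PBNum Cfsg.Agent.Lib.PBExt Cfsg.Agent.Lib.PBStruct Cfsg.Agent.Lib.PBFull
open Cfsg.Agent.Lib.PBLocal Cfsg.Agent.Lib.PBKill Cfsg.Agent.Lib.PBFchk
open scoped ComplexConjugate

universe u

section Cyc

variable {G : Type u} [Group G] [Finite G] {p : ℕ} [hp : Fact p.Prime]

theorem aut_cyclic (P : Subgroup G) (hP : Nat.card P = p) : IsCyclic (MulAut P) := by
  haveI : IsCyclic P := isCyclic_of_prime_card hP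
  have e := IsCyclic.mulAutMulEquiv P
  rw [hP] at e
  exact isCyclic_of_injective e.toMonoidHom e.injective

/-- the action of `K` on `P` is faithful -/
theorem act_inj (P K : Subgroup G) (hC : Nat.card (centralizer (P : Set G)) = p)
    (hK : K ≤ normalizer (P : Set G)) (hKp : (Nat.card K).Coprime p) :
    Function.Injective (P.normalizerMonoidHom.comp (Subgroup.inclusion hK)) := by
  rw [← MonoidHom.ker_eq_bot_iff, eq_bot_iff]
  intro k hk
  rw [MonoidHom.mem_ker, MonoidHom.comp_apply, ← MonoidHom.mem_ker, normalizerMonoidHom_ker, mem_subgroupOf] at hk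
  have h1 : (k : G) ∈ centralizer (P : Set G) := hk
  have h2 : orderOf (k : G) ∣ p := by rw [← hC]; exact Subgroup.orderOf_dvd_natCard _ h1
  have h3 : orderOf (k : G) ∣ Nat.card K := Subgroup.orderOf_dvd_natCard _ k.2
  have h4 : orderOf (k : G) = 1 := Nat.eq_one_of_dvd_coprimes hKp h3 h2
  rw [orderOf_eq_one_iff] at h4
  exact mem_bot.2 (Subtype.ext h4)

theorem cyc (P K : Subgroup G) (hP : Nat.card P = p) (hC : Nat.card (centralizer (P : Set G)) = p)
    (hK : K ≤ normalizer (P : Set G)) (hKp : (Nat.card K).Coprime p) : IsCyclic K := by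
  haveI := aut_cyclic P hP
  exact isCyclic_of_injective _ (act_inj P K hC hK hKp)

/-- an involution normalizing but not centralizing `P` inverts it -/
theorem inverts (hp2 : p ≠ 2) (P : Subgroup G) (hP : Nat.card P = p) (hC : Nat.card (centralizer (P : Set G)) = p) {w : G}
    (hw : w ∈ normalizer (P : Set G)) (hw2 : orderOf w = 2) : ∀ x ∈ P, w * x * w⁻¹ = x⁻¹ := by
  haveI := aut_cyclic P hP
  haveI : IsCyclic P := isCyclic_of_prime_card hP
  letI : CommGroup P := IsCyclic.commGroup
  have hww : w ^ 2 = 1 := by rw [← hw2]; exact pow_orderOf_eq_one w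
  set a : MulAut P := P.normalizerMonoidHom ⟨w, hw⟩ with ha
  have ha2 : a ^ 2 = 1 := by
    rw [ha, ← map_pow]
    have : (⟨w, hw⟩ : normalizer (P : Set G)) ^ 2 = 1 := Subtype.ext hww
    rw [this, map_one]
  have ha1 : a ≠ 1 := by
    intro h
    rw [ha, ← MonoidHom.mem_ker, normalizerMonoidHom_ker, mem_subgroupOf] at h
    have h2 : orderOf w ∣ p := by rw [← hC]; exact Subgroup.orderOf_dvd_natCard _ h
    rw [hw2] at h2
    exact hp2 ((Nat.prime_dvd_prime_iff_eq Nat.prime_two hp.out).1 h2).symm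
  let b : MulAut P := MulEquiv.inv P
  have hb2 : b ^ 2 = 1 := by
    ext x
    rw [pow_two, MulAut.mul_apply]
    simp [b]
  have hb1 : b ≠ 1 := by
    intro h
    obtain ⟨x, hx⟩ := exists_prime_orderOf_dvd_card' (G := P) p (by rw [hP])
    have h1 : b x = x := by rw [h]; rfl
    have h2 : x⁻¹ = x := h1
    have h3 : x ^ 2 = 1 := by
      rw [pow_two]
      nth_rw 1 [← h2]
      exact inv_mul_cancel x
    have h4 := orderOf_dvd_of_pow_eq_one h3
    rw [hx] at h4
    exact hp2 ((Nat.prime_dvd_prime_iff_eq hp.out Nat.prime_two).1 h4)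
  have hab := H31Extremal.eq_of_sq ha2 hb2 ha1 hb1
  intro x hx
  have h1 : a ⟨x, hx⟩ = b ⟨x, hx⟩ := by rw [hab]
  have h2 := congrArg Subtype.val h1
  have h3 : ((a ⟨x, hx⟩ : P) : G) = w * x * w⁻¹ := rfl
  rw [h3] at h2
  exact h2

end Cyc

/-- Sylow 2-subgroups of order 8 in a simple group -/
theorem eight {G : Type u} [Group G] [Finite G] [IsSimpleGroup G] (hG : ¬ IsMulCommutative G)
    (hT : ∀ T : Sylow 2 G, Nat.card (T : Subgroup G) = 8) {w : G} (hw : orderOf w = 2) :
    8 ∣ Nat.card (centralizer ({w} : Set G)) := by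
  classical
  have hZ := SimpleDeg.center_eq_bot (G := G) (fun h => hG ⟨⟨h⟩⟩)
  have hwp : IsPGroup 2 (zpowers w) := IsPGroup.of_card (n := 1) (by rw [Nat.card_zpowers, hw, pow_one])
  obtain ⟨T, hwT⟩ := hwp.exists_le_sylow
  have hT8 := hT T
  by_cases hab : ∀ x ∈ (T : Subgroup G), ∀ y ∈ (T : Subgroup G), x * y = y * x
  · rw [← hT8]
    apply Subgroup.card_dvd_of_le
    intro x hx
    rw [mem_centralizer_singleton_iff]
    exact (hab w (hwT (mem_zpowers w)) x hx).symm
  -- an element of order 4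
  have h4 : ∃ a ∈ (T : Subgroup G), orderOf a = 4 := by
    by_contra hcon
    push Not at hcon
    apply hab
    have hsq : ∀ x ∈ (T : Subgroup G), x * x = 1 := by
      intro x hx
      have h1 : orderOf x ∣ 8 := by rw [← hT8]; exact Subgroup.orderOf_dvd_natCard _ hx
      have h2 : orderOf x ≠ 8 := by
        intro h8
        have h5 := hcon (x ^ 2) (pow_mem hx 2)
        rw [orderOf_pow' x (by norm_num), h8] at h5
        exact h5 (by norm_num)
      have h3 := Nat.le_of_dvd (by norm_num) h1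
      have h6 : orderOf x ∣ 2 := by
        have h7 := hcon x hx
        interval_cases h : orderOf x <;> first | exact absurd rfl h7 | exact absurd rfl h2 | (revert h1; decide) | decide
      rw [← pow_two]
      exact orderOf_dvd_iff_pow_eq_one.1 h6
    intro x hx y hy
    have h1 := hsq x hx
    have h2 := hsq y hy
    have h3 := hsq (x * y) (mul_mem hx hy)
    calc x * y = x * (x * y * (x * y)) * y := by rw [h3]; group
      _ = (x * x) * (y * x) * (y * y) := by group
      _ = y * x := by rw [h1, h2]; group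
  obtain ⟨a, haT, ha⟩ := h4
  set M := zpowers a with hM
  have hMT : M ≤ (T : Subgroup G) := by rw [hM, zpowers_le]; exact haT
  have hM4 : Nat.card M = 4 := by rw [hM, Nat.card_zpowers, ha]
  have hidx : (M.subgroupOf (T : Subgroup G)).index = 2 := by
    have h1 := (M.subgroupOf (T : Subgroup G)).card_mul_index
    rw [Nat.card_congr (Subgroup.subgroupOfEquivOfLe hMT).toEquiv, hM4, hT8] at h1
    omega
  have hMn : (M.subgroupOf (T : Subgroup G)).Normal := Subgroup.normal_of_index_eq_two hidx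
  have hcyc : IsCyclic ((T : Subgroup G) ⧸ M.subgroupOf (T : Subgroup G)) := by
    apply isCyclic_of_prime_card (p := 2)
    exact hidx
  obtain ⟨g, hg, -⟩ := H31Extremal.exists_conj (S := (T : Subgroup G)) (T := M) (y := w) (R := ⊥)
    T.not_dvd_index hMn hcyc (by rw [← hw]; exact pow_orderOf_eq_one w)
    (by rw [SimpleDeg.perfect hZ]; exact mem_top w) IsPGroup.of_bot bot_le
  -- the involution of `M`
  have hgw : orderOf (g * w * g⁻¹) = 2 := by
    have := MulEquiv.orderOf_eq (MulAut.conj g) w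
    rw [MulAut.conj_apply] at this
    rw [this, hw]
  have ha2 : orderOf (a ^ 2) = 2 := by rw [orderOf_pow' a (by norm_num), ha]; norm_num
  have huniq : ∀ x ∈ M, orderOf x = 2 → x = a ^ 2 := by
    intro x hx hx2
    have h1 := H31Extremal.eq_of_sq (A := M) (x := ⟨x, hx⟩) (y := ⟨a ^ 2, pow_mem (mem_zpowers a) 2⟩)
      (Subtype.ext (by show x ^ 2 = 1; rw [← hx2]; exact pow_orderOf_eq_one x))
      (Subtype.ext (by
        show (a ^ 2) ^ 2 = 1
        have h5 := pow_orderOf_eq_one a
        rw [ha] at h5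
        rw [← pow_mul]
        exact h5))
      (fun h => by
        have : x = 1 := congrArg Subtype.val h
        rw [this, orderOf_one] at hx2; norm_num at hx2)
      (fun h => by
        have : a ^ 2 = 1 := congrArg Subtype.val h
        rw [this, orderOf_one] at ha2; norm_num at ha2)
    exact congrArg Subtype.val h1
  have hga := huniq _ hg hgw
  have hle : (T : Subgroup G) ≤ centralizer ({a ^ 2} : Set G) := by
    intro x hx
    rw [mem_centralizer_singleton_iff]
    have h1 : x * a ^ 2 * x⁻¹ ∈ M := by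
      have := hMn.conj_mem ⟨a ^ 2, hMT (pow_mem (mem_zpowers a) 2)⟩
        (by rw [mem_subgroupOf]; exact pow_mem (mem_zpowers a) 2) ⟨x, hx⟩
      rw [mem_subgroupOf] at this
      exact this
    have h2 : orderOf (x * a ^ 2 * x⁻¹) = 2 := by
      have := MulEquiv.orderOf_eq (MulAut.conj x) (a ^ 2)
      rw [MulAut.conj_apply] at this
      rw [this, ha2]
    have h3 := huniq _ h1 h2
    calc x * a ^ 2 = (x * a ^ 2 * x⁻¹) * x := by group
      _ = a ^ 2 * x := by rw [h3]
  have h8 : 8 ∣ Nat.card (centralizer ({a ^ 2} : Set G)) := by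
    rw [← hT8]; exact Subgroup.card_dvd_of_le hle
  have hconj : IsConj w (a ^ 2) := isConj_iff.2 ⟨g, hga⟩
  letI := Fintype.ofFinite G
  rw [A7Table.card_cent_conj hconj]
  exact h8

/-- order 1404 -/
theorem ne_1404 {G : Type u} [Group G] [Finite G] [IsSimpleGroup G] (hG : ¬ IsMulCommutative G) : Nat.card G ≠ 1404 := by
  classical
  intro h
  haveI : Fact (Nat.Prime 13) := ⟨by norm_num⟩
  obtain ⟨P⟩ : Nonempty (Sylow 13 G) := inferInstance
  obtain ⟨hP, e, c, hN, hC, he, he1, hecn, hmem⟩ := data hG (p := 13) (M := 108) 37 (by rw [h]) (by norm_num) (by norm_num) P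
  rw [show opts 13 108 37 = [(27, 4)] by decide +kernel, List.mem_singleton, Prod.mk.injEq] at hmem
  obtain ⟨h1, rfl⟩ := hmem
  rw [h1] at hecn
  have hc : c = 1 := by omega
  subst hc
  rw [mul_one] at hC
  set N := normalizer ((P : Subgroup G) : Set G) with hNd
  obtain ⟨S⟩ : Nonempty (Sylow 2 N) := inferInstance
  have hS : Nat.card (S : Subgroup N) = 2 ^ 2 := sylow_card_of (m := 13) (by rw [hN]; norm_num) (by norm_num) S
  set K := (S : Subgroup N).map N.subtype with hK
  have hKc : Nat.card K = 4 := by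
    rw [hK, Subgroup.card_map_of_injective N.subtype_injective, hS]; norm_num
  have hcyc : IsCyclic K := cyc (p := 13) (P : Subgroup G) K hP hC (Subgroup.map_subtype_le _) (by rw [hKc]; norm_num)
  have hKp : IsPGroup 2 K := IsPGroup.of_card (n := 2) (by rw [hKc]; norm_num)
  obtain ⟨T, hT⟩ := hKp.exists_le_sylow
  have hTc : Nat.card (T : Subgroup G) = 2 ^ 2 := sylow_card_of (m := 351) (by rw [h]; norm_num) (by norm_num) T
  have hKT : K = (T : Subgroup G) := Subgroup.eq_of_le_of_card_ge hT (by rw [hTc, hKc]; norm_num)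
  obtain ⟨H, hH⟩ := BrauerFowler.exists_index_two_of_cyclic (G := G) (by rw [h]; decide) T (by rw [← hKT]; exact hcyc)
  have hHn : H.Normal := Subgroup.normal_of_index_eq_two hH
  rcases IsSimpleGroup.eq_bot_or_eq_top_of_normal H hHn with h4 | h4
  · rw [h4, index_bot] at hH
    omega
  · rw [h4, index_top] at hH
    omega

/-- order 1512 -/
theorem aux_1512 {G : Type u} [Group G] [Fintype G] [IsSimpleGroup G] (hG : ¬ IsMulCommutative G) : Nat.card G ≠ 1512 := by
  classical
  intro h
  haveI : Fact (Nat.Prime 7) := ⟨by norm_num⟩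
  obtain ⟨Q⟩ : Nonempty (Sylow 7 G) := inferInstance
  have hQ : Nat.card Q = 7 := (SylEven.data hG (p := 7) (M := 216) (by rw [h]) (by norm_num) Q).1
  obtain ⟨D, i, ⟨B⟩⟩ := exists_PBE Q hQ
  obtain ⟨hQ', e, c, l, hN, hC, he, he1, hecn, hmem, hl⟩ := dataL hG (M := 216) 38 (fun _ => true) (by rw [h])
    (by norm_num) (by norm_num) B.toPB (fun _ _ => rfl) (by decide +kernel)
  rw [show optsL (fun _ => true) 7 216 38 = [(36, 6, [-6, 8, 8, 8, 8]), (36, 6, [-6, 8, 8, 8, -27]), (36, 6, [8, 8, 8, 8, -27])]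
    by decide +kernel] at hmem
  simp only [List.mem_cons, Prod.mk.injEq, List.not_mem_nil, or_false] at hmem
  have he6 : Nat.card (Sylow 7 G) = 36 ∧ e = 6 := by
    rcases hmem with h | h | h <;> exact ⟨h.1, h.2.1⟩
  obtain ⟨h1, rfl⟩ := he6
  rw [h1] at hecn
  have hc : c = 1 := by omega
  subst hc
  rw [mul_one] at hC
  obtain ⟨N, hNd⟩ : ∃ N, N = normalizer ((Q : Subgroup G) : Set G) := ⟨_, rfl⟩
  rw [← hNd] at hN
  -- a complement
  set Q' : Subgroup N := (Q : Subgroup G).subgroupOf N with hQ'd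
  have hQN : (Q : Subgroup G) ≤ N := by rw [hNd]; exact le_normalizer
  have hQ'c : Nat.card Q' = 7 := by
    rw [hQ'd, Nat.card_congr (Subgroup.subgroupOfEquivOfLe hQN).toEquiv]; exact hQ
  have hQ'i : Q'.index = 6 := by
    have := Q'.card_mul_index
    rw [hQ'c, hN] at this
    omega
  have hQ'n : Q'.Normal := by
    rw [hQ'd, hNd]; exact Subgroup.normal_in_normalizer
  obtain ⟨K', hK'⟩ := Subgroup.exists_right_complement'_of_coprime (N := Q') (by rw [hQ'c, hQ'i]; norm_num)
  have hK'c : Nat.card K' = 6 := by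
    have := hK'.card_mul
    rw [hQ'c, hN] at this
    omega
  set K := K'.map N.subtype with hK
  have hKc : Nat.card K = 6 := by
    rw [hK, Subgroup.card_map_of_injective N.subtype_injective, hK'c]
  have hKN : K ≤ N := Subgroup.map_subtype_le _
  have hcyc : IsCyclic K := cyc (p := 7) (Q : Subgroup G) K hQ hC (by rw [← hNd]; exact hKN) (by rw [hKc]; norm_num)
  obtain ⟨k, hk⟩ := hcyc.exists_generator
  have hk6 : orderOf k = 6 := by rw [orderOf_eq_card_of_forall_mem_zpowers hk, hKc]
  have hg6 : orderOf (k : G) = 6 := by rw [Subgroup.orderOf_coe]; exact hk6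
  set w : G := (k : G) ^ 3 with hw
  have hw2 : orderOf w = 2 := by rw [hw, orderOf_pow' _ (by norm_num), hg6]; norm_num
  have hwN : w ∈ N := pow_mem (hKN k.2) 3
  have hinv := inverts (p := 7) (by norm_num) (Q : Subgroup G) hQ hC (by rw [← hNd]; exact hwN) hw2
  have h3 : 3 ∣ Nat.card (centralizer ({w} : Set G)) := by
    have h4 : (k : G) ^ 2 ∈ centralizer ({w} : Set G) := by
      rw [mem_centralizer_singleton_iff, hw, ← pow_add, ← pow_add]
    have h5 : orderOf ((k : G) ^ 2) = 3 := by rw [orderOf_pow' _ (by norm_num), hg6]; norm_num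
    rw [← h5]
    exact Subgroup.orderOf_dvd_natCard _ h4
  have h8 : 8 ∣ Nat.card (centralizer ({w} : Set G)) := by
    apply eight hG _ hw2
    intro T
    have := sylow_card_of (p := 2) (k := 3) (m := 189) (by rw [h]; norm_num) (by norm_num) T
    rw [this]; norm_num
  have h24 : 24 ∣ Nat.card (centralizer ({w} : Set G)) := by
    have : Nat.Coprime 3 8 := by norm_num
    exact this.mul_dvd_of_dvd_of_dvd h3 h8
  have hcs : Nat.card (centralizer ({w} : Set G)) ∈ [24, 72, 168, 216, 504, 1512] := by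
    refine mem_cs (N := 1512) (m := 24) (by decide +kernel) (by norm_num) (by norm_num) ?_ h24
    rw [← h]; exact Subgroup.card_subgroup_dvd_card _
  have hz : ∃ x, IsConj w x ∧ x * D.u * x⁻¹ = D.u⁻¹ := ⟨w, IsConj.refl w, hinv D.u D.uP⟩
  have hf := fun (hL : ∀ d ∈ (-(1 + l.sum)) :: l, d ∣ (1512 : ℤ)) =>
    fchk hG (by norm_num) B.toPB hC (l := (-(1 + l.sum)) :: l) (by rw [full_eq _ hl]; rfl) hw2 1512
    (by norm_num) hL false [24, 72, 168, 216, 504, 1512] hcs (fun _ => hz)
  rw [h] at hf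
  rcases hmem with h | h | h
  · rw [h.2.2] at hf
    have h5 := hf (by decide)
    revert h5; decide +kernel
  · rw [h.2.2] at hf
    have h5 := hf (by decide)
    revert h5; decide +kernel
  · rw [h.2.2] at hf
    have h5 := hf (by decide)
    revert h5; decide +kernel

theorem ne_1512 {G : Type u} [Group G] [Finite G] [IsSimpleGroup G] (hG : ¬ IsMulCommutative G) : Nat.card G ≠ 1512 := by
  letI := Fintype.ofFinite G
  exact aux_1512 hG

end Cfsg.Agent.Lib.OrdMiscS
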