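import Mathlib
import Cfsg.Agent.Lib.PBOpts
import Cfsg.Agent.Lib.PBSol

/-!
# Counting p-singular elements; no simple group of order 3360 (helper19)
-/

set_option autoImplicit false
set_option linter.all false

namespace Cfsg.Agent.Lib.OrdSing

open Cfsg Subgroup Cfsg.Agent.Lib.DefOneLoc Cfsg.Agent.Lib.SmallSimple Cfsg.Agent.Lib.PBNum

universe u

section

variable {G : Type u} [Group G] [Finite G] {p : ℕ} [hp : Fact p.Prime]

theorem card_l {P N C : Subgroup G} (D : Loc p P N C) :
    Nat.card {c : C // D.l c ≠ 0} + Nat.card {c : C // D.l c = 0} = Nat.card C ∧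
      p * Nat.card {c : C // D.l c = 0} = Nat.card C := by
  classical
  have := Fintype.ofFinite C
  constructor
  · rw [add_comm, ← Nat.card_sum]
    exact Nat.card_congr (Equiv.sumCompl (fun c : C => D.l c = 0))
  · let f : C →* Multiplicative (ZMod p) :=
      { toFun := fun c => Multiplicative.ofAdd (D.l c)
        map_one' := by
          have h := D.l_mul 1 1
          rw [mul_one] at h
          have h0 : D.l 1 = 0 := by
            have : D.l 1 + 0 = D.l 1 + D.l 1 := by rw [add_zero]; exact h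
            exact (add_left_cancel this).symm
          rw [h0]; rfl
        map_mul' := fun a b => by rw [D.l_mul]; rfl }
    have hker : Nat.card f.ker = Nat.card {c : C // D.l c = 0} := by
      apply Nat.card_congr
      refine ⟨fun c => ⟨c.1, ?_⟩, fun c => ⟨c.1, ?_⟩, fun _ => rfl, fun _ => rfl⟩
      · have h := c.2
        rw [MonoidHom.mem_ker] at h
        exact Multiplicative.ofAdd.injective h
      · rw [MonoidHom.mem_ker]
        show Multiplicative.ofAdd (D.l c.1) = 1
        rw [c.2]; rfl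
    have hsurj : f.range = ⊤ := by
      have hpc : Nat.card (Multiplicative (ZMod p)) = p := by
        rw [Nat.card_congr Multiplicative.toAdd, Nat.card_zmod]
      have h1 : Nat.card f.range ∣ p := (Subgroup.card_subgroup_dvd_card f.range).trans (dvd_of_eq hpc)
      rcases (Nat.dvd_prime hp.out).1 h1 with h2 | h2
      · exfalso
        have h3 : f.range = ⊥ := Subgroup.card_eq_one.1 h2
        have h4 : f ⟨D.u, D.PC D.uP⟩ ∈ f.range := ⟨_, rfl⟩
        rw [h3, Subgroup.mem_bot] at h4
        have h5 : D.l ⟨D.u, D.PC D.uP⟩ = 0 := Multiplicative.ofAdd.injective h4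
        rw [D.l_u] at h5
        exact one_ne_zero h5
      · exact Subgroup.eq_top_of_card_eq _ (by rw [h2, hpc])
    have h1 := f.ker.card_mul_index
    rw [Subgroup.index_ker, hsurj, Subgroup.card_top, Nat.card_congr Multiplicative.toAdd, Nat.card_zmod, hker] at h1
    rw [mul_comm]; exact h1

theorem card_sing {P N C : Subgroup G} (D : Loc p P N C) :
    N.index * Nat.card {c : C // D.l c ≠ 0} ≤ Nat.card {g : G // p ∣ orderOf g} := by
  classical
  have hdv : ∀ c : C, D.l c ≠ 0 → p ∣ orderOf (c : G) := by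
    intro c hc
    by_contra h
    exact hc ((D.l_reg c).2 h)
  let F : (G ⧸ N) × {c : C // D.l c ≠ 0} → {g : G // p ∣ orderOf g} := fun x =>
    ⟨x.1.out * ((x.2.1 : C) : G) * x.1.out⁻¹, by
      have := MulEquiv.orderOf_eq (MulAut.conj x.1.out) ((x.2.1 : C) : G)
      rw [MulAut.conj_apply] at this
      rw [this]
      exact hdv _ x.2.2⟩
  have hF : Function.Injective F := by
    rintro ⟨x, c⟩ ⟨y, d⟩ h
    have h1 : x.out * ((c.1 : C) : G) * x.out⁻¹ = y.out * ((d.1 : C) : G) * y.out⁻¹ := congrArg Subtype.val h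
    have h2 : (y.out⁻¹ * x.out) * ((c.1 : C) : G) * (y.out⁻¹ * x.out)⁻¹ = ((d.1 : C) : G) := by
      calc (y.out⁻¹ * x.out) * ((c.1 : C) : G) * (y.out⁻¹ * x.out)⁻¹ = y.out⁻¹ * (x.out * ((c.1 : C) : G) * x.out⁻¹) * y.out := by group
        _ = ((d.1 : C) : G) := by rw [h1]; group
    have h3 : y.out⁻¹ * x.out ∈ N := D.ti _ _ c.1.2 (hdv _ c.2) (by rw [h2]; exact d.1.2)
    have h4 : y = x := by
      rw [← QuotientGroup.out_eq' y, ← QuotientGroup.out_eq' x, QuotientGroup.eq]
      exact h3
    subst h4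
    have h5 : ((c.1 : C) : G) = ((d.1 : C) : G) := by
      have := mul_right_cancel h1
      exact mul_left_cancel this
    exact Prod.ext rfl (Subtype.ext (Subtype.ext h5))
  have h1 := Nat.card_le_card_of_injective F hF
  rw [Nat.card_prod] at h1
  exact h1

end

/-- the number of `p`-singular elements of a simple group -/
theorem sing_ge {G : Type u} [Group G] [Finite G] {p : ℕ} [hp : Fact p.Prime] (P : Sylow p G)
    (hP : Nat.card (P : Subgroup G) = p) {c : ℕ} (hC : Nat.card (centralizer ((P : Subgroup G) : Set G)) = p * c) :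
    Nat.card (Sylow p G) * ((p - 1) * c) ≤ Nat.card {g : G // p ∣ orderOf g} := by
  obtain ⟨D⟩ := exists_loc P hP
  have h1 := card_sing D
  obtain ⟨h2, h3⟩ := card_l D
  rw [hC] at h2 h3
  have hp0 : 0 < p := hp.out.pos
  have h4 : Nat.card {c : centralizer ((P : Subgroup G) : Set G) // D.l c = 0} = c := Nat.eq_of_mul_eq_mul_left hp0 h3
  rw [h4] at h2
  have h5 : Nat.card {c : centralizer ((P : Subgroup G) : Set G) // D.l c ≠ 0} = (p - 1) * c := by
    rw [Nat.sub_mul, one_mul]; omega
  rw [h5] at h1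
  rwa [P.card_eq_index_normalizer]

/-- disjointness -/
theorem not_both {G : Type u} [Group G] [Finite G] {p q : ℕ} [hp : Fact p.Prime] [hq : Fact q.Prime] (P : Sylow p G)
    (hP : Nat.card (P : Subgroup G) = p) (hpq : p ≠ q) (hC : ¬ q ∣ Nat.card (centralizer ((P : Subgroup G) : Set G))) (g : G)
    (h1 : p ∣ orderOf g) (h2 : q ∣ orderOf g) : False := by
  obtain ⟨x, hx, hxp⟩ : ∃ x ∈ zpowers g, orderOf x = p := by
    obtain ⟨x, hx⟩ := exists_prime_orderOf_dvd_card' (G := zpowers g) p (by rw [Nat.card_zpowers]; exact h1)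
    exact ⟨x, x.2, by rw [Subgroup.orderOf_coe]; exact hx⟩
  obtain ⟨y, hy, hyq⟩ : ∃ y ∈ zpowers g, orderOf y = q := by
    obtain ⟨x, hx⟩ := exists_prime_orderOf_dvd_card' (G := zpowers g) q (by rw [Nat.card_zpowers]; exact h2)
    exact ⟨x, x.2, by rw [Subgroup.orderOf_coe]; exact hx⟩
  have hxP : IsPGroup p (zpowers x) := IsPGroup.of_card (n := 1) (by rw [Nat.card_zpowers, hxp, pow_one])
  obtain ⟨R, hR⟩ := hxP.exists_le_sylow
  obtain ⟨z, hz⟩ := MulAction.exists_smul_eq G R P
  have hRc : Nat.card (R : Subgroup G) = p := (Nat.card_congr (Sylow.equiv R P).toEquiv).trans hP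
  have hRx : (R : Subgroup G) = zpowers x := by
    symm
    apply Subgroup.eq_of_le_of_card_ge hR
    rw [hRc, Nat.card_zpowers, hxp]
  have hyc : y ∈ centralizer ((R : Subgroup G) : Set G) := by
    rw [Subgroup.mem_centralizer_iff]
    intro r hr
    rw [hRx] at hr
    obtain ⟨i, rfl⟩ := Subgroup.mem_zpowers_iff.1 hr
    obtain ⟨a, rfl⟩ := Subgroup.mem_zpowers_iff.1 hx
    obtain ⟨b, rfl⟩ := Subgroup.mem_zpowers_iff.1 hy
    rw [← zpow_mul, ← zpow_add, ← zpow_add, add_comm]
  have hzy : z * y * z⁻¹ ∈ centralizer ((P : Subgroup G) : Set G) := by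
    rw [Subgroup.mem_centralizer_iff]
    intro r hr
    have h3 : z⁻¹ * r * z ∈ (R : Subgroup G) := by
      rw [← hz] at hr
      have h4 : r ∈ ((z • R : Sylow p G) : Subgroup G) := hr
      rw [Sylow.coe_subgroup_smul, Subgroup.mem_pointwise_smul_iff_inv_smul_mem] at h4
      have h5 : (MulAut.conj z)⁻¹ • r = z⁻¹ * r * z := by
        rw [← map_inv]; simp [MulAut.smul_def, MulAut.conj_apply]
      rw [h5] at h4
      exact h4
    have h4 := Subgroup.mem_centralizer_iff.1 hyc _ h3
    calc r * (z * y * z⁻¹) = z * ((z⁻¹ * r * z) * y) * z⁻¹ := by group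
      _ = z * (y * (z⁻¹ * r * z)) * z⁻¹ := by rw [h4]
      _ = z * y * z⁻¹ * r := by group
  apply hC
  have h5 : orderOf (z * y * z⁻¹) = q := by
    have := MulEquiv.orderOf_eq (MulAut.conj z) y
    rw [MulAut.conj_apply] at this
    rw [this, hyq]
  rw [← h5]
  exact Subgroup.orderOf_dvd_natCard _ hzy

theorem ne_3360 {G : Type u} [Group G] [Finite G] [IsSimpleGroup G] (hG : ¬ IsMulCommutative G) : Nat.card G ≠ 3360 := by
  classical
  intro h
  haveI : Fact (Nat.Prime 3) := ⟨by norm_num⟩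
  haveI : Fact (Nat.Prime 5) := ⟨by norm_num⟩
  haveI : Fact (Nat.Prime 7) := ⟨by norm_num⟩
  obtain ⟨P3⟩ : Nonempty (Sylow 3 G) := inferInstance
  obtain ⟨P5⟩ : Nonempty (Sylow 5 G) := inferInstance
  obtain ⟨P7⟩ : Nonempty (Sylow 7 G) := inferInstance
  obtain ⟨hP3, e3, c3, hN3, hC3, he3, he31, hecn3, hmem3⟩ := data hG (p := 3) (M := 1120) 57 (by rw [h]) (by norm_num) (by norm_num) P3
  obtain ⟨hP5, e5, c5, hN5, hC5, he5, he51, hecn5, hmem5⟩ := data hG (p := 5) (M := 672) 57 (by rw [h]) (by norm_num) (by norm_num) P5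
  obtain ⟨hP7, e7, c7, hN7, hC7, he7, he71, hecn7, hmem7⟩ := data hG (p := 7) (M := 480) 57 (by rw [h]) (by norm_num) (by norm_num) P7
  rw [show opts 5 672 57 = [(336, 2)] by decide +kernel, List.mem_singleton, Prod.mk.injEq] at hmem5
  rw [show opts 7 480 57 = [(120, 2)] by decide +kernel, List.mem_singleton, Prod.mk.injEq] at hmem7
  have h3 : e3 = 2 := by
    have : e3 ∣ 2 := he3
    have := Nat.le_of_dvd (by norm_num) this
    interval_cases e3
    · simp at he3
    · exact absurd rfl he31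
    · rfl
  subst h3
  obtain ⟨h5, rfl⟩ := hmem5
  obtain ⟨h7, rfl⟩ := hmem7
  rw [h5] at hecn5
  rw [h7] at hecn7
  have hc5 : c5 = 1 := by omega
  have hc7 : c7 = 2 := by omega
  subst hc5
  subst hc7
  have s3 := sing_ge P3 hP3 hC3
  have s5 := sing_ge P5 hP5 hC5
  have s7 := sing_ge P7 hP7 hC7
  rw [h5] at s5
  rw [h7] at s7
  have s3' : Nat.card (Sylow 3 G) * ((3 - 1) * c3) = 1120 := by
    rw [← hecn3]; ring
  rw [s3'] at s3
  letI := Fintype.ofFinite G
  have d53 : Disjoint (Finset.univ.filter fun g : G => 5 ∣ orderOf g) (Finset.univ.filter fun g : G => 3 ∣ orderOf g) := by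
    rw [Finset.disjoint_left]
    intro g h1 h2
    exact not_both P5 hP5 (q := 3) (by norm_num) (by rw [hC5]; norm_num) g (Finset.mem_filter.1 h1).2 (Finset.mem_filter.1 h2).2
  have d57 : Disjoint (Finset.univ.filter fun g : G => 5 ∣ orderOf g) (Finset.univ.filter fun g : G => 7 ∣ orderOf g) := by
    rw [Finset.disjoint_left]
    intro g h1 h2
    exact not_both P5 hP5 (q := 7) (by norm_num) (by rw [hC5]; norm_num) g (Finset.mem_filter.1 h1).2 (Finset.mem_filter.1 h2).2
  have d73 : Disjoint (Finset.univ.filter fun g : G => 7 ∣ orderOf g) (Finset.univ.filter fun g : G => 3 ∣ orderOf g) := by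
    rw [Finset.disjoint_left]
    intro g h1 h2
    exact not_both P7 hP7 (q := 3) (by norm_num) (by rw [hC7]; norm_num) g (Finset.mem_filter.1 h1).2 (Finset.mem_filter.1 h2).2
  rw [Nat.card_eq_fintype_card, Fintype.card_subtype] at s3 s5 s7
  have hu := Finset.card_le_univ ((Finset.univ.filter fun g : G => 5 ∣ orderOf g) ∪ ((Finset.univ.filter fun g : G => 7 ∣ orderOf g) ∪
    (Finset.univ.filter fun g : G => 3 ∣ orderOf g)))
  rw [Finset.card_union_of_disjoint (Finset.disjoint_union_right.2 ⟨d57, d53⟩), Finset.card_union_of_disjoint d73,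
    ← Nat.card_eq_fintype_card, h] at hu
  omega

end Cfsg.Agent.Lib.OrdSing
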