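import Cfsg.Agent.Lib.PBOpts
import Cfsg.Agent.Lib.PBKill

/-!
# Orders between 3641 and 6232 excluded by the numerical data of the principal block (helper54)
-/

set_option autoImplicit false
set_option linter.all false

namespace Cfsg.Agent.Lib.Ord6232

open Subgroup Cfsg.Agent.Lib.SmallSimple Cfsg.Agent.Lib.PBKill Cfsg.Agent.Lib.PBNum

universe u

theorem kill1 {G : Type u} [Group G] [Finite G] [IsSimpleGroup G] (hG : ¬ IsMulCommutative G) (p M b : ℕ)
    (hp : p.Prime) (h : Nat.card G = p * M) (hM : ¬ p ∣ M) (hb : p * M < (b + 1) ^ 2)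
    (ho : opts p M b = []) : False := by
  haveI : Fact p.Prime := ⟨hp⟩
  obtain ⟨P⟩ : Nonempty (Sylow p G) := inferInstance
  obtain ⟨hPc, e, c, hN, hC, he, he1, hecn, hmem⟩ := data hG (M := M) b h hM hb P
  rw [ho] at hmem
  exact List.not_mem_nil hmem

theorem ne_3648 {G : Type u} [Group G] [Finite G] [IsSimpleGroup G] (hG : ¬ IsMulCommutative G) : Nat.card G ≠ 3648 :=
  fun h => kill1 hG 19 192 60 (by norm_num) (by rw [h]) (by norm_num) (by norm_num) (by decide +kernel)

theorem ne_3696 {G : Type u} [Group G] [Finite G] [IsSimpleGroup G] (hG : ¬ IsMulCommutative G) : Nat.card G ≠ 3696 :=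
  fun h => kill1 hG 11 336 60 (by norm_num) (by rw [h]) (by norm_num) (by norm_num) (by decide +kernel)

theorem ne_3744 {G : Type u} [Group G] [Finite G] [IsSimpleGroup G] (hG : ¬ IsMulCommutative G) : Nat.card G ≠ 3744 :=
  fun h => kill1 hG 13 288 61 (by norm_num) (by rw [h]) (by norm_num) (by norm_num) (by decide +kernel)

theorem ne_3780 {G : Type u} [Group G] [Finite G] [IsSimpleGroup G] (hG : ¬ IsMulCommutative G) : Nat.card G ≠ 3780 :=
  fun h => kill1 hG 7 540 61 (by norm_num) (by rw [h]) (by norm_num) (by norm_num) (by decide +kernel)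

theorem ne_3960 {G : Type u} [Group G] [Finite G] [IsSimpleGroup G] (hG : ¬ IsMulCommutative G) : Nat.card G ≠ 3960 :=
  fun h => kill1 hG 11 360 62 (by norm_num) (by rw [h]) (by norm_num) (by norm_num) (by decide +kernel)

theorem ne_4160 {G : Type u} [Group G] [Finite G] [IsSimpleGroup G] (hG : ¬ IsMulCommutative G) : Nat.card G ≠ 4160 :=
  fun h => kill1 hG 13 320 64 (by norm_num) (by rw [h]) (by norm_num) (by norm_num) (by decide +kernel)

theorem ne_4200 {G : Type u} [Group G] [Finite G] [IsSimpleGroup G] (hG : ¬ IsMulCommutative G) : Nat.card G ≠ 4200 :=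
  fun h => kill1 hG 7 600 64 (by norm_num) (by rw [h]) (by norm_num) (by norm_num) (by decide +kernel)

theorem ne_4212 {G : Type u} [Group G] [Finite G] [IsSimpleGroup G] (hG : ¬ IsMulCommutative G) : Nat.card G ≠ 4212 :=
  fun h => kill1 hG 13 324 64 (by norm_num) (by rw [h]) (by norm_num) (by norm_num) (by decide +kernel)

theorem ne_4400 {G : Type u} [Group G] [Finite G] [IsSimpleGroup G] (hG : ¬ IsMulCommutative G) : Nat.card G ≠ 4400 :=
  fun h => kill1 hG 11 400 66 (by norm_num) (by rw [h]) (by norm_num) (by norm_num) (by decide +kernel)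

theorem ne_4536 {G : Type u} [Group G] [Finite G] [IsSimpleGroup G] (hG : ¬ IsMulCommutative G) : Nat.card G ≠ 4536 :=
  fun h => kill1 hG 7 648 67 (by norm_num) (by rw [h]) (by norm_num) (by norm_num) (by decide +kernel)

theorem ne_4680 {G : Type u} [Group G] [Finite G] [IsSimpleGroup G] (hG : ¬ IsMulCommutative G) : Nat.card G ≠ 4680 :=
  fun h => kill1 hG 13 360 68 (by norm_num) (by rw [h]) (by norm_num) (by norm_num) (by decide +kernel)

theorem ne_4760 {G : Type u} [Group G] [Finite G] [IsSimpleGroup G] (hG : ¬ IsMulCommutative G) : Nat.card G ≠ 4760 :=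
  fun h => kill1 hG 17 280 68 (by norm_num) (by rw [h]) (by norm_num) (by norm_num) (by decide +kernel)

theorem ne_4800 {G : Type u} [Group G] [Finite G] [IsSimpleGroup G] (hG : ¬ IsMulCommutative G) : Nat.card G ≠ 4800 :=
  fun h => kill1 hG 3 1600 69 (by norm_num) (by rw [h]) (by norm_num) (by norm_num) (by decide +kernel)

theorem ne_4928 {G : Type u} [Group G] [Finite G] [IsSimpleGroup G] (hG : ¬ IsMulCommutative G) : Nat.card G ≠ 4928 :=
  fun h => kill1 hG 11 448 70 (by norm_num) (by rw [h]) (by norm_num) (by norm_num) (by decide +kernel)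

theorem ne_4960 {G : Type u} [Group G] [Finite G] [IsSimpleGroup G] (hG : ¬ IsMulCommutative G) : Nat.card G ≠ 4960 :=
  fun h => kill1 hG 31 160 70 (by norm_num) (by rw [h]) (by norm_num) (by norm_num) (by decide +kernel)

theorem ne_5040 {G : Type u} [Group G] [Finite G] [IsSimpleGroup G] (hG : ¬ IsMulCommutative G) : Nat.card G ≠ 5040 :=
  fun h => kill1 hG 5 1008 70 (by norm_num) (by rw [h]) (by norm_num) (by norm_num) (by decide +kernel)

theorem ne_5104 {G : Type u} [Group G] [Finite G] [IsSimpleGroup G] (hG : ¬ IsMulCommutative G) : Nat.card G ≠ 5104 :=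
  fun h => kill1 hG 29 176 71 (by norm_num) (by rw [h]) (by norm_num) (by norm_num) (by decide +kernel)

theorem ne_5148 {G : Type u} [Group G] [Finite G] [IsSimpleGroup G] (hG : ¬ IsMulCommutative G) : Nat.card G ≠ 5148 :=
  fun h => kill1 hG 13 396 71 (by norm_num) (by rw [h]) (by norm_num) (by norm_num) (by decide +kernel)

theorem ne_5200 {G : Type u} [Group G] [Finite G] [IsSimpleGroup G] (hG : ¬ IsMulCommutative G) : Nat.card G ≠ 5200 :=
  fun h => kill1 hG 13 400 72 (by norm_num) (by rw [h]) (by norm_num) (by norm_num) (by decide +kernel)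

theorem ne_5236 {G : Type u} [Group G] [Finite G] [IsSimpleGroup G] (hG : ¬ IsMulCommutative G) : Nat.card G ≠ 5236 :=
  fun h => kill1 hG 17 308 72 (by norm_num) (by rw [h]) (by norm_num) (by norm_num) (by decide +kernel)

theorem ne_5376 {G : Type u} [Group G] [Finite G] [IsSimpleGroup G] (hG : ¬ IsMulCommutative G) : Nat.card G ≠ 5376 :=
  fun h => kill1 hG 7 768 73 (by norm_num) (by rw [h]) (by norm_num) (by norm_num) (by decide +kernel)

theorem ne_5600 {G : Type u} [Group G] [Finite G] [IsSimpleGroup G] (hG : ¬ IsMulCommutative G) : Nat.card G ≠ 5600 :=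
  fun h => kill1 hG 7 800 74 (by norm_num) (by rw [h]) (by norm_num) (by norm_num) (by decide +kernel)

theorem ne_5724 {G : Type u} [Group G] [Finite G] [IsSimpleGroup G] (hG : ¬ IsMulCommutative G) : Nat.card G ≠ 5724 :=
  fun h => kill1 hG 53 108 75 (by norm_num) (by rw [h]) (by norm_num) (by norm_num) (by decide +kernel)

theorem ne_5852 {G : Type u} [Group G] [Finite G] [IsSimpleGroup G] (hG : ¬ IsMulCommutative G) : Nat.card G ≠ 5852 :=
  fun h => kill1 hG 19 308 76 (by norm_num) (by rw [h]) (by norm_num) (by norm_num) (by decide +kernel)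

theorem ne_5880 {G : Type u} [Group G] [Finite G] [IsSimpleGroup G] (hG : ¬ IsMulCommutative G) : Nat.card G ≠ 5880 :=
  fun h => kill1 hG 5 1176 76 (by norm_num) (by rw [h]) (by norm_num) (by norm_num) (by decide +kernel)

theorem ne_5940 {G : Type u} [Group G] [Finite G] [IsSimpleGroup G] (hG : ¬ IsMulCommutative G) : Nat.card G ≠ 5940 :=
  fun h => kill1 hG 11 540 77 (by norm_num) (by rw [h]) (by norm_num) (by norm_num) (by decide +kernel)

theorem ne_6160 {G : Type u} [Group G] [Finite G] [IsSimpleGroup G] (hG : ¬ IsMulCommutative G) : Nat.card G ≠ 6160 :=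
  fun h => kill1 hG 11 560 78 (by norm_num) (by rw [h]) (by norm_num) (by norm_num) (by decide +kernel)

theorem aux_4620 {G : Type u} [Group G] [Fintype G] [IsSimpleGroup G] (hG : ¬ IsMulCommutative G) : Nat.card G ≠ 4620 := by
  intro h
  haveI : Fact (Nat.Prime 7) := ⟨by norm_num⟩
  refine kill (p := 7) (by norm_num) hG (N := 4620) (M := 660) 67 4 30 [4, 12, 20, 28, 44, 60, 84, 132, 140, 220, 308, 420, 660, 924, 1540, 4620] h (by norm_num)
    (by norm_num) (by norm_num) (by norm_num) ?_ (by norm_num) (by norm_num) (by decide +kernel) (by decide +kernel)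
    (by decide +kernel)
  intro T
  have h1 := T.card_eq_multiplicity
  rw [h] at h1
  have h2 : (4620 : ℕ).factorization 2 = 2 := by
    rw [show (4620 : ℕ) = 2 ^ 2 * 1155 by norm_num, Nat.factorization_mul (by norm_num) (by norm_num),
      Nat.Prime.factorization_pow (by norm_num)]
    simp [Nat.factorization_eq_zero_of_not_dvd]
  rw [h2] at h1
  exact h1

theorem ne_4620 {G : Type u} [Group G] [Finite G] [IsSimpleGroup G] (hG : ¬ IsMulCommutative G) : Nat.card G ≠ 4620 := by
  letI := Fintype.ofFinite G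
  exact aux_4620 hG

theorem aux_5460 {G : Type u} [Group G] [Fintype G] [IsSimpleGroup G] (hG : ¬ IsMulCommutative G) : Nat.card G ≠ 5460 := by
  intro h
  haveI : Fact (Nat.Prime 13) := ⟨by norm_num⟩
  refine kill (p := 13) (by norm_num) hG (N := 5460) (M := 420) 73 4 420 [4, 12, 20, 28, 52, 60, 84, 140, 156, 260, 364, 420, 780, 1092, 1820, 5460] h (by norm_num)
    (by norm_num) (by norm_num) (by norm_num) ?_ (by norm_num) (by norm_num) (by decide +kernel) (by decide +kernel)
    (by decide +kernel)
  intro T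
  have h1 := T.card_eq_multiplicity
  rw [h] at h1
  have h2 : (5460 : ℕ).factorization 2 = 2 := by
    rw [show (5460 : ℕ) = 2 ^ 2 * 1365 by norm_num, Nat.factorization_mul (by norm_num) (by norm_num),
      Nat.Prime.factorization_pow (by norm_num)]
    simp [Nat.factorization_eq_zero_of_not_dvd]
  rw [h2] at h1
  exact h1

theorem ne_5460 {G : Type u} [Group G] [Finite G] [IsSimpleGroup G] (hG : ¬ IsMulCommutative G) : Nat.card G ≠ 5460 := by
  letI := Fintype.ofFinite G
  exact aux_5460 hG

end Cfsg.Agent.Lib.Ord6232
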