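import Cfsg.Agent.Lib.Sieve6232
import Cfsg.Agent.Lib.Ord6232

/-!
# A numerical sieve for the orders of non-abelian finite simple groups in 1093 .. 3640 (helper19)
-/

set_option autoImplicit false
set_option linter.all false

namespace Cfsg.Agent.Lib.Sieve3640

open Subgroup Cfsg.Agent.Lib.SmallSimple Cfsg.Agent.Lib.SmallSieve Cfsg.Agent.Lib.Sieve6232
open Cfsg.Agent.Lib.Ord6232

universe u

/-- orders in 1093 .. 3640 surviving the sieve -/
def survs : List ℕ := [1224, 1232, 1260, 1344, 1404, 1440, 1512, 1560, 1620, 1680, 1716, 1728, 1800, 1980, 2016, 2080,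
  2100, 2160, 2268, 2400, 2448, 2464, 2520, 2688, 2700, 2808, 2880, 2976, 3024, 3080, 3120, 3168, 3240, 3360, 3420, 3432,
  3444, 3600]

def checkAll2 : Bool := (List.range 2548).all fun i =>
  (i + 1093) % 4 == 2 || survs.contains (i + 1093) || Sieve6232.big (i + 1093) || Sieve6232.dead (i + 1093)

theorem checkAll2_true : checkAll2 = true := by decide +kernel

/-- The sieve. -/
theorem mem_survs {G : Type*} [Group G] [Finite G] [IsSimpleGroup G] (hG : ¬ IsMulCommutative G)
    (h1 : 1092 < Nat.card G) (h : Nat.card G ≤ 3640) : Nat.card G ∈ survs := by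
  have h2 := checkAll2_true
  rw [checkAll2, List.all_eq_true] at h2
  have h3 := h2 (Nat.card G - 1093) (List.mem_range.2 (by omega))
  rw [Nat.sub_add_cancel (by omega : 1093 ≤ Nat.card G), Sieve6232.not_dead hG (by omega), Sieve6232.not_big hG (by omega), Bool.or_false,
    Bool.or_false, Bool.or_eq_true, beq_iff_eq, List.contains_iff_mem] at h3
  rcases h3 with h3 | h3
  · exfalso
    obtain ⟨K, hK⟩ := BrauerFowler.exists_index_two_of_two_mod_four (G := G) h3
    have hKn : K.Normal := Subgroup.normal_of_index_eq_two hK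
    rcases IsSimpleGroup.eq_bot_or_eq_top_of_normal K hKn with h4 | h4
    · rw [h4, index_bot] at hK
      omega
    · rw [h4, index_top] at hK
      omega
  · exact h3

theorem nk (p M b N : ℕ) (hp : p.Prime) (hN : N = p * M) (hM : ¬ p ∣ M) (hb : p * M < (b + 1) ^ 2)
    (ho : Cfsg.Agent.Lib.PBNum.opts p M b = []) {G : Type u} [Group G] [Finite G] [IsSimpleGroup G]
    (hG : ¬ IsMulCommutative G) : Nat.card G ≠ N :=
  fun h => kill1 hG p M b hp (by rw [h, hN]) hM hb ho

theorem ne_1224 {G : Type u} [Group G] [Finite G] [IsSimpleGroup G] (hG : ¬ IsMulCommutative G) : Nat.card G ≠ 1224 :=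
  nk 17 72 34 1224 (by norm_num) (by norm_num) (by norm_num) (by norm_num) (by decide +kernel) hG
theorem ne_1232 {G : Type u} [Group G] [Finite G] [IsSimpleGroup G] (hG : ¬ IsMulCommutative G) : Nat.card G ≠ 1232 :=
  nk 11 112 35 1232 (by norm_num) (by norm_num) (by norm_num) (by norm_num) (by decide +kernel) hG
theorem ne_1260 {G : Type u} [Group G] [Finite G] [IsSimpleGroup G] (hG : ¬ IsMulCommutative G) : Nat.card G ≠ 1260 :=
  nk 7 180 35 1260 (by norm_num) (by norm_num) (by norm_num) (by norm_num) (by decide +kernel) hG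
theorem ne_1440 {G : Type u} [Group G] [Finite G] [IsSimpleGroup G] (hG : ¬ IsMulCommutative G) : Nat.card G ≠ 1440 :=
  nk 5 288 37 1440 (by norm_num) (by norm_num) (by norm_num) (by norm_num) (by decide +kernel) hG
theorem ne_1560 {G : Type u} [Group G] [Finite G] [IsSimpleGroup G] (hG : ¬ IsMulCommutative G) : Nat.card G ≠ 1560 :=
  nk 13 120 39 1560 (by norm_num) (by norm_num) (by norm_num) (by norm_num) (by decide +kernel) hG
theorem ne_1680 {G : Type u} [Group G] [Finite G] [IsSimpleGroup G] (hG : ¬ IsMulCommutative G) : Nat.card G ≠ 1680 :=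
  nk 5 336 40 1680 (by norm_num) (by norm_num) (by norm_num) (by norm_num) (by decide +kernel) hG
theorem ne_1716 {G : Type u} [Group G] [Finite G] [IsSimpleGroup G] (hG : ¬ IsMulCommutative G) : Nat.card G ≠ 1716 :=
  nk 3 572 41 1716 (by norm_num) (by norm_num) (by norm_num) (by norm_num) (by decide +kernel) hG
theorem ne_1980 {G : Type u} [Group G] [Finite G] [IsSimpleGroup G] (hG : ¬ IsMulCommutative G) : Nat.card G ≠ 1980 :=
  nk 11 180 44 1980 (by norm_num) (by norm_num) (by norm_num) (by norm_num) (by decide +kernel) hG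
theorem ne_2016 {G : Type u} [Group G] [Finite G] [IsSimpleGroup G] (hG : ¬ IsMulCommutative G) : Nat.card G ≠ 2016 :=
  nk 7 288 44 2016 (by norm_num) (by norm_num) (by norm_num) (by norm_num) (by decide +kernel) hG
theorem ne_2080 {G : Type u} [Group G] [Finite G] [IsSimpleGroup G] (hG : ¬ IsMulCommutative G) : Nat.card G ≠ 2080 :=
  nk 13 160 45 2080 (by norm_num) (by norm_num) (by norm_num) (by norm_num) (by decide +kernel) hG
theorem ne_2100 {G : Type u} [Group G] [Finite G] [IsSimpleGroup G] (hG : ¬ IsMulCommutative G) : Nat.card G ≠ 2100 :=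
  nk 3 700 45 2100 (by norm_num) (by norm_num) (by norm_num) (by norm_num) (by decide +kernel) hG
theorem ne_2268 {G : Type u} [Group G] [Finite G] [IsSimpleGroup G] (hG : ¬ IsMulCommutative G) : Nat.card G ≠ 2268 :=
  nk 7 324 47 2268 (by norm_num) (by norm_num) (by norm_num) (by norm_num) (by decide +kernel) hG
theorem ne_2464 {G : Type u} [Group G] [Finite G] [IsSimpleGroup G] (hG : ¬ IsMulCommutative G) : Nat.card G ≠ 2464 :=
  nk 11 224 49 2464 (by norm_num) (by norm_num) (by norm_num) (by norm_num) (by decide +kernel) hG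
theorem ne_2688 {G : Type u} [Group G] [Finite G] [IsSimpleGroup G] (hG : ¬ IsMulCommutative G) : Nat.card G ≠ 2688 :=
  nk 7 384 51 2688 (by norm_num) (by norm_num) (by norm_num) (by norm_num) (by decide +kernel) hG
theorem ne_2808 {G : Type u} [Group G] [Finite G] [IsSimpleGroup G] (hG : ¬ IsMulCommutative G) : Nat.card G ≠ 2808 :=
  nk 13 216 52 2808 (by norm_num) (by norm_num) (by norm_num) (by norm_num) (by decide +kernel) hG
theorem ne_2880 {G : Type u} [Group G] [Finite G] [IsSimpleGroup G] (hG : ¬ IsMulCommutative G) : Nat.card G ≠ 2880 :=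
  nk 5 576 53 2880 (by norm_num) (by norm_num) (by norm_num) (by norm_num) (by decide +kernel) hG
theorem ne_2976 {G : Type u} [Group G] [Finite G] [IsSimpleGroup G] (hG : ¬ IsMulCommutative G) : Nat.card G ≠ 2976 :=
  nk 31 96 54 2976 (by norm_num) (by norm_num) (by norm_num) (by norm_num) (by decide +kernel) hG
theorem ne_3024 {G : Type u} [Group G] [Finite G] [IsSimpleGroup G] (hG : ¬ IsMulCommutative G) : Nat.card G ≠ 3024 :=
  nk 7 432 54 3024 (by norm_num) (by norm_num) (by norm_num) (by norm_num) (by decide +kernel) hG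
theorem ne_3080 {G : Type u} [Group G] [Finite G] [IsSimpleGroup G] (hG : ¬ IsMulCommutative G) : Nat.card G ≠ 3080 :=
  nk 11 280 55 3080 (by norm_num) (by norm_num) (by norm_num) (by norm_num) (by decide +kernel) hG
theorem ne_3120 {G : Type u} [Group G] [Finite G] [IsSimpleGroup G] (hG : ¬ IsMulCommutative G) : Nat.card G ≠ 3120 :=
  nk 13 240 55 3120 (by norm_num) (by norm_num) (by norm_num) (by norm_num) (by decide +kernel) hG
theorem ne_3168 {G : Type u} [Group G] [Finite G] [IsSimpleGroup G] (hG : ¬ IsMulCommutative G) : Nat.card G ≠ 3168 :=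
  nk 11 288 56 3168 (by norm_num) (by norm_num) (by norm_num) (by norm_num) (by decide +kernel) hG
theorem ne_3240 {G : Type u} [Group G] [Finite G] [IsSimpleGroup G] (hG : ¬ IsMulCommutative G) : Nat.card G ≠ 3240 :=
  nk 5 648 56 3240 (by norm_num) (by norm_num) (by norm_num) (by norm_num) (by decide +kernel) hG
theorem ne_3432 {G : Type u} [Group G] [Finite G] [IsSimpleGroup G] (hG : ¬ IsMulCommutative G) : Nat.card G ≠ 3432 :=
  nk 13 264 58 3432 (by norm_num) (by norm_num) (by norm_num) (by norm_num) (by decide +kernel) hG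
theorem ne_3444 {G : Type u} [Group G] [Finite G] [IsSimpleGroup G] (hG : ¬ IsMulCommutative G) : Nat.card G ≠ 3444 :=
  nk 41 84 58 3444 (by norm_num) (by norm_num) (by norm_num) (by norm_num) (by decide +kernel) hG

theorem aux_1620 {G : Type u} [Group G] [Fintype G] [IsSimpleGroup G] (hG : ¬ IsMulCommutative G) : Nat.card G ≠ 1620 := by
  intro h
  haveI : Fact (Nat.Prime 5) := ⟨by norm_num⟩
  refine Cfsg.Agent.Lib.PBKill.kill (p := 5) (by norm_num) hG (N := 1620) (M := 324) 40 4 1620 [4, 12, 20, 36, 60, 108, 180, 324, 540, 1620] h (by norm_num)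
    (by norm_num) (by norm_num) (by norm_num) ?_ (by norm_num) (by norm_num) (by decide +kernel) (by decide +kernel)
    (by decide +kernel)
  intro T
  have h1 := T.card_eq_multiplicity
  rw [h] at h1
  have h2 : (1620 : ℕ).factorization 2 = 2 := by
    rw [show (1620 : ℕ) = 2 ^ 2 * 405 by norm_num, Nat.factorization_mul (by norm_num) (by norm_num),
      Nat.Prime.factorization_pow (by norm_num)]
    simp [Nat.factorization_eq_zero_of_not_dvd]
  rw [h2] at h1
  exact h1

theorem ne_1620 {G : Type u} [Group G] [Finite G] [IsSimpleGroup G] (hG : ¬ IsMulCommutative G) : Nat.card G ≠ 1620 := by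
  letI := Fintype.ofFinite G
  exact aux_1620 hG

theorem aux_2160 {G : Type u} [Group G] [Fintype G] [IsSimpleGroup G] (hG : ¬ IsMulCommutative G) : Nat.card G ≠ 2160 := by
  intro h
  haveI : Fact (Nat.Prime 5) := ⟨by norm_num⟩
  refine Cfsg.Agent.Lib.PBKill.kill (p := 5) (by norm_num) hG (N := 2160) (M := 432) 46 16 2160 [16, 48, 80, 144, 240, 432, 720, 2160] h (by norm_num)
    (by norm_num) (by norm_num) (by norm_num) ?_ (by norm_num) (by norm_num) (by decide +kernel) (by decide +kernel)
    (by decide +kernel)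
  intro T
  have h1 := T.card_eq_multiplicity
  rw [h] at h1
  have h2 : (2160 : ℕ).factorization 2 = 4 := by
    rw [show (2160 : ℕ) = 2 ^ 4 * 135 by norm_num, Nat.factorization_mul (by norm_num) (by norm_num),
      Nat.Prime.factorization_pow (by norm_num)]
    simp [Nat.factorization_eq_zero_of_not_dvd]
  rw [h2] at h1
  exact h1

theorem ne_2160 {G : Type u} [Group G] [Finite G] [IsSimpleGroup G] (hG : ¬ IsMulCommutative G) : Nat.card G ≠ 2160 := by
  letI := Fintype.ofFinite G
  exact aux_2160 hG

end Cfsg.Agent.Lib.Sieve3640
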