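import Cfsg.Agent.Lib.ColTools2
import Cfsg.Agent.Lib.ColTools4
import Cfsg.Agent.S1001
import Cfsg.Agent.S0995
import Cfsg.Agent.Lib.BTThm

/-!
No simple group of order 720 (helper53), by the character values on elements of order 5.
-/

set_option autoImplicit false

namespace Cfsg.Agent.Lib.H53Ord720

open scoped ComplexConjugate
open Cfsg Cfsg.Agent.Lib.CharBasic Cfsg.Agent.Lib.ColTools

universe u

variable {G : Type u} [Group G] [Finite G]

/-- the representative of `d` modulo 5 in `[-2, 2]` -/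
def mu (d : ℕ) : ℤ := ((d + 2) % 5 : ℕ) - 2

/-- the possible degrees -/
def D : Finset ℕ := {1, 2, 3, 4, 5, 6, 8, 9, 10, 12, 15, 16, 18, 20, 24}

theorem mem_D : ∀ d ∈ Nat.divisors 720, d ^ 2 ≤ 720 → d ∈ D := by decide +kernel

/-- the number of irreducible characters of given degree -/
noncomputable def N (G : Type u) [Group G] [Finite G] (d : ℕ) : ℕ := by
  classical
  exact (Finset.univ.filter (fun χ : IrrCharacter G => deg χ = d)).card

theorem sum_deg (h720 : Nat.card G = 720) (F : ℕ → ℤ) :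
    ∑ χ : IrrCharacter G, F (deg χ) = ∑ d ∈ D, (N G d : ℤ) * F d := by
  classical
  have hmaps : ∀ χ ∈ (Finset.univ : Finset (IrrCharacter G)), deg χ ∈ D := by
    intro χ _
    apply mem_D
    · rw [Nat.mem_divisors, ← h720]
      exact ⟨deg_dvd χ, by rw [h720]; norm_num⟩
    · rw [← h720, ← sum_deg_sq]
      exact Finset.single_le_sum (f := fun χ : IrrCharacter G => deg χ ^ 2) (fun _ _ => Nat.zero_le _) (Finset.mem_univ χ)
  rw [← Finset.sum_fiberwise_of_maps_to hmaps]
  apply Finset.sum_congr rfl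
  intro d _
  rw [Finset.sum_congr rfl (g := fun _ => F d) (fun χ hχ => by rw [(Finset.mem_filter.1 hχ).2]), Finset.sum_const,
    nsmul_eq_mul]
  rfl

theorem N_one [IsSimpleGroup G] (hG : ¬ IsMulCommutative G) : N G 1 = 1 := by
  classical
  unfold N
  rw [Finset.card_eq_one]
  refine ⟨triv G, ?_⟩
  ext χ
  simp only [Finset.mem_filter, Finset.mem_univ, true_and, Finset.mem_singleton]
  exact ⟨fun h => eq_triv_of_deg_one hG h, fun h => by rw [h]; exact deg_triv⟩

/-- the column of an element of order 5 -/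
theorem column [IsSimpleGroup G] (hG : ¬ IsMulCommutative G) (h720 : Nat.card G = 720) {z : G}
    (hC : Nat.card (Subgroup.centralizer ({z} : Set G)) = 5) (hz : orderOf z = 5)
    (hconj : ∀ a : ℕ, (a : ZMod 5) ≠ 0 → IsConj z (z ^ a)) :
    (∀ χ : IrrCharacter G, (χ : G → ℂ) z = mu (deg χ)) ∧
    ((N G 4 = 1 ∧ N G 6 = 2 ∧ N G 9 = 1 ∧ N G 16 = 0) ∨ (N G 4 = 2 ∧ N G 6 = 0 ∧ N G 9 = 1 ∧ N G 16 = 1)) ∧
    N G 2 = 0 ∧ N G 3 = 0 ∧ N G 8 = 0 ∧ N G 12 = 0 ∧ N G 18 = 0 ∧ N G 24 = 0 := by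
  classical
  have : Fact (Nat.Prime 5) := ⟨Nat.prime_five⟩
  have hz5 : z ^ 5 = 1 := by rw [← hz, pow_orderOf_eq_one]
  have hex : ∀ χ : IrrCharacter G, ∃ m : ℤ, (χ : G → ℂ) z = m ∧ ∃ c : ℤ, (deg χ : ℤ) = m + 5 * c := by
    intro χ
    obtain ⟨c0, c1, h1, h2⟩ := rat_val χ z hz5 hconj
    refine ⟨(c0 - c1 : ℤ), h1, c1, ?_⟩
    rw [h2]; push_cast; ring
  choose m hm hmc using hex
  have hinv : ∀ χ : IrrCharacter G, (χ : G → ℂ) z⁻¹ = m χ := by
    intro χ
    rw [← conj_apply, hm, map_intCast]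
  have h5 : ∑ χ : IrrCharacter G, m χ ^ 2 = 5 := by
    have h := col_orth_self z
    rw [hC] at h
    have h2 : ∑ χ : IrrCharacter G, (χ : G → ℂ) z * (χ : G → ℂ) z⁻¹ = ((∑ χ : IrrCharacter G, m χ ^ 2 : ℤ) : ℂ) := by
      push_cast
      apply Finset.sum_congr rfl
      intro χ _
      rw [hm, hinv, sq]
    rw [h2] at h
    exact_mod_cast h
  have h0 : ∑ χ : IrrCharacter G, m χ * deg χ = 0 := by
    have hne : ¬ IsConj z 1 := by
      intro h
      rw [isConj_one_left] at h
      rw [h, orderOf_one] at hz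
      omega
    have h := col_orth_ne hne
    have h2 : ∑ χ : IrrCharacter G, (χ : G → ℂ) z * (χ : G → ℂ) 1⁻¹ = ((∑ χ : IrrCharacter G, m χ * deg χ : ℤ) : ℂ) := by
      push_cast
      apply Finset.sum_congr rfl
      intro χ _
      rw [hm, inv_one, apply_one]
    rw [h2] at h
    exact_mod_cast h
  have hmu : ∀ χ : IrrCharacter G, m χ = mu (deg χ) := by
    intro χ
    obtain ⟨c, hc⟩ := hmc χ
    have h1 : m χ ^ 2 ≤ 5 := by
      rw [← h5]
      exact Finset.single_le_sum (f := fun χ : IrrCharacter G => m χ ^ 2) (fun _ _ => sq_nonneg _) (Finset.mem_univ χ)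
    have h2 : m χ ≤ 2 := by nlinarith
    have h3 : -2 ≤ m χ := by nlinarith
    unfold mu
    omega
  have e1 := sum_deg h720 (fun d => mu d ^ 2)
  have e2 := sum_deg h720 (fun d => mu d * d)
  have e3 := sum_deg h720 (fun d => (d : ℤ) ^ 2)
  have f1 : ∑ χ : IrrCharacter G, mu (deg χ) ^ 2 = 5 := by
    rw [← h5]; exact Finset.sum_congr rfl (fun χ _ => by rw [hmu])
  have f2 : ∑ χ : IrrCharacter G, mu (deg χ) * (deg χ : ℤ) = 0 := by
    rw [← h0]; exact Finset.sum_congr rfl (fun χ _ => by rw [hmu])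
  have f3 : ∑ χ : IrrCharacter G, (deg χ : ℤ) ^ 2 = 720 := by
    have := sum_deg_sq (G := G)
    rw [h720] at this
    exact_mod_cast this
  rw [f1] at e1
  rw [f2] at e2
  rw [f3] at e3
  have m1 : mu 1 = 1 := by decide
  have m2 : mu 2 = 2 := by decide
  have m3 : mu 3 = -2 := by decide
  have m4 : mu 4 = -1 := by decide
  have m5 : mu 5 = 0 := by decide
  have m6 : mu 6 = 1 := by decide
  have m8 : mu 8 = -2 := by decide
  have m9 : mu 9 = -1 := by decide
  have m10 : mu 10 = 0 := by decide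
  have m12 : mu 12 = 2 := by decide
  have m15 : mu 15 = 0 := by decide
  have m16 : mu 16 = 1 := by decide
  have m18 : mu 18 = -2 := by decide
  have m20 : mu 20 = 0 := by decide
  have m24 : mu 24 = -1 := by decide
  have hD : ∀ F : ℕ → ℤ, ∑ d ∈ D, F d = F 1 + F 2 + F 3 + F 4 + F 5 + F 6 + F 8 + F 9 + F 10 + F 12 + F 15 + F 16 +
      F 18 + F 20 + F 24 := by
    intro F
    simp only [D]
    repeat rw [Finset.sum_insert (by decide)]
    rw [Finset.sum_singleton]
    ring
  rw [hD] at e1 e2 e3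
  simp only [m1, m2, m3, m4, m5, m6, m8, m9, m10, m12, m15, m16, m18, m20, m24, N_one hG] at e1 e2 e3
  refine ⟨fun χ => by rw [hm, hmu], ?_⟩
  push_cast at e1 e2 e3
  generalize N G 2 = n2 at *
  generalize N G 3 = n3 at *
  generalize N G 4 = n4 at *
  generalize N G 5 = n5 at *
  generalize N G 6 = n6 at *
  generalize N G 8 = n8 at *
  generalize N G 9 = n9 at *
  generalize N G 10 = n10 at *
  generalize N G 12 = n12 at *
  generalize N G 15 = n15 at *
  generalize N G 16 = n16 at *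
  generalize N G 18 = n18 at *
  generalize N G 20 = n20 at *
  generalize N G 24 = n24 at *
  have hn9 : n9 ≤ 4 := by omega
  have hn4 : n4 ≤ 4 := by omega
  have hn6 : n6 ≤ 4 := by omega
  have hn16 : n16 ≤ 4 := by omega
  have hn24 : n24 ≤ 1 := by omega
  have h9 : n9 ≠ 0 := by
    rintro rfl
    omega
  have z2 : n2 = 0 := by omega
  have z3 : n3 = 0 := by omega
  have z8 : n8 = 0 := by omega
  have z12 : n12 = 0 := by omega
  have z18 : n18 = 0 := by omega
  subst z2 z3 z8 z12 z18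
  interval_cases n9 <;> interval_cases n16 <;> omega

/-- An element of order 5 with centraliser of order 5 and all powers conjugate. -/
theorem exists_z [IsSimpleGroup G] (hG : ¬ IsMulCommutative G) (h720 : Nat.card G = 720) :
    ∃ z : G, orderOf z = 5 ∧ Subgroup.centralizer ({z} : Set G) = Subgroup.zpowers z ∧
      ∀ a : ℕ, (a : ZMod 5) ≠ 0 → IsConj z (z ^ a) := by
  classical
  have : Fact (Nat.Prime 5) := ⟨Nat.prime_five⟩
  obtain ⟨z, hz⟩ := exists_prime_orderOf_dvd_card' (G := G) 5 (by rw [h720]; norm_num)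
  have hC := Cfsg.Agent.S1001.result (G := G) 5 2 4 Nat.prime_five (by rw [h720]; norm_num) z hz
  have hcyc : ¬ IsCyclic G := by
    intro h
    apply hG
    let _ := h.commGroup
    exact ⟨⟨fun a b => mul_comm a b⟩⟩
  have hperf := BTThm.perf_of_simple hcyc
  obtain ⟨n, t, ht, htd, -, hcard⟩ := Cfsg.Agent.S0995.result hperf 5 z hz hC
  have ht1 : t = 1 := by
    have htle : t ≤ 4 := Nat.le_of_dvd (by norm_num) htd
    rw [h720] at hcard
    interval_cases t <;> omega
  rw [ht1] at ht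
  have hsub := (Nat.card_eq_one_iff_unique.mp ht.symm).1
  refine ⟨z, hz, hC, fun a ha => ?_⟩
  have hza : orderOf (z ^ a) = 5 := by
    rw [orderOf_pow, hz]
    have hcop : Nat.Coprime 5 a := by
      rw [Nat.Prime.coprime_iff_not_dvd Nat.prime_five]
      intro h
      exact ha ((ZMod.natCast_eq_zero_iff a 5).mpr h)
    rw [Nat.Coprime.gcd_eq_one hcop, Nat.div_one]
  have h1 := hsub.elim ⟨ConjClasses.mk z, z, rfl, hz⟩ ⟨ConjClasses.mk (z ^ a), z ^ a, rfl, hza⟩
  have h2 : ConjClasses.mk z = ConjClasses.mk (z ^ a) := congrArg Subtype.val h1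
  exact ConjClasses.mk_eq_mk_iff_isConj.mp h2

omit [Finite G] in
/-- An involution inverting `z`. -/
theorem exists_t {z : G} (hz : orderOf z = 5)
    (hC : Subgroup.centralizer ({z} : Set G) = Subgroup.zpowers z) (hinv : IsConj z (z ^ 4)) :
    ∃ t : G, t ≠ 1 ∧ t * t = 1 ∧ t * z * t⁻¹ = z⁻¹ := by
  have hz5 : z ^ 5 = 1 := by rw [← hz, pow_orderOf_eq_one]
  have hz4 : z ^ 4 = z⁻¹ := by
    rw [eq_inv_iff_mul_eq_one, ← pow_succ, hz5]
  rw [hz4, isConj_iff] at hinv
  obtain ⟨g, hg⟩ := hinv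
  have hg' : g * z⁻¹ * g⁻¹ = z := by
    have := congrArg (·⁻¹) hg
    simpa [mul_assoc] using this
  have h2 : (g * g) * z * (g * g)⁻¹ = z := by
    rw [show (g * g) * z * (g * g)⁻¹ = g * (g * z * g⁻¹) * g⁻¹ by group, hg, hg']
  have h3 : g * g ∈ Subgroup.zpowers z := by
    rw [← hC, Subgroup.mem_centralizer_singleton_iff]
    exact mul_inv_eq_iff_eq_mul.mp h2
  have h10 : (g * g) ^ 5 = 1 := by
    obtain ⟨k, hk⟩ := Subgroup.mem_zpowers_iff.mp h3
    rw [← hk, ← zpow_natCast, ← zpow_mul, mul_comm, zpow_mul, zpow_natCast, hz5, one_zpow]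
  have h4 : g ^ 4 * z * (g ^ 4)⁻¹ = z := by
    have h44 : g ^ 4 = (g * g) * (g * g) := by rw [← pow_two, ← pow_two, ← pow_mul]
    rw [h44, mul_inv_rev]
    calc g * g * (g * g) * z * ((g * g)⁻¹ * (g * g)⁻¹) = (g * g) * ((g * g) * z * (g * g)⁻¹) * (g * g)⁻¹ := by
          simp only [mul_assoc]
      _ = z := by rw [h2, h2]
  have ht : g ^ 5 * z * (g ^ 5)⁻¹ = z⁻¹ := by
    have h55 : g ^ 5 = g * g ^ 4 := by rw [← pow_succ']
    rw [h55, mul_inv_rev]
    calc g * g ^ 4 * z * ((g ^ 4)⁻¹ * g⁻¹) = g * (g ^ 4 * z * (g ^ 4)⁻¹) * g⁻¹ := by simp only [mul_assoc]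
      _ = z⁻¹ := by rw [h4, hg]
  refine ⟨g ^ 5, ?_, ?_, ht⟩
  · intro h
    rw [h, one_mul, inv_one, mul_one] at ht
    have h5 : z ^ 2 = 1 := by rw [sq]; nth_rw 2 [ht]; exact mul_inv_cancel z
    have h6 := orderOf_dvd_of_pow_eq_one h5
    rw [hz] at h6
    omega
  · rw [← h10, ← pow_two, ← pow_two, ← pow_mul, ← pow_mul]

omit [Finite G] in
/-- The number of ways of writing `z` as a product of two conjugates of `t`. -/
theorem count_t {z t : G} (hz : orderOf z = 5)
    (hC : Subgroup.centralizer ({z} : Set G) = Subgroup.zpowers z) (ht2 : t * t = 1)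
    (htz : t * z * t⁻¹ = z⁻¹) :
    Nat.card {p : G × G // IsConj t p.1 ∧ IsConj t p.2 ∧ p.1 * p.2 = z} = 5 := by
  classical
  have hz5 : z ^ 5 = 1 := by rw [← hz, pow_orderOf_eq_one]
  have htinv : t⁻¹ = t := inv_eq_of_mul_eq_one_left ht2
  have htz' : t * z * t = z⁻¹ := by rw [← htinv]; nth_rw 1 [htinv]; exact htz
  have htzk : ∀ k : ℤ, t * z ^ k * t = z ^ (-k) := by
    intro k
    have h1 : t * z ^ k * t⁻¹ = (t * z * t⁻¹) ^ k := (conj_zpow).symm
    rw [htz, inv_zpow, ← zpow_neg] at h1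
    rw [← h1, htinv]
  have hconjt : ∀ k : ℤ, IsConj t (z ^ k * t) := by
    intro k
    rw [isConj_iff]
    -- `z ^ (3 k)` conjugates `t` to `z ^ (6 k) t = z ^ k t`
    refine ⟨z ^ (3 * k), ?_⟩
    have h1 : z ^ (3 * k) * t * (z ^ (3 * k))⁻¹ = z ^ (3 * k) * (t * z ^ (-(3 * k)) * t) * t := by
      rw [zpow_neg]
      simp only [mul_assoc, ht2, mul_one]
    rw [h1, htzk, neg_neg, ← zpow_add, show 3 * k + 3 * k = 5 * k + k by ring, zpow_add, zpow_mul]
    have : z ^ (5 : ℤ) = 1 := by exact_mod_cast hz5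
    rw [this, one_zpow, one_mul]
  have hsq : ∀ x : G, IsConj t x → x * x = 1 := by
    intro x hx
    rw [isConj_iff] at hx
    obtain ⟨c, rfl⟩ := hx
    rw [show c * t * c⁻¹ * (c * t * c⁻¹) = c * (t * t) * c⁻¹ by group, ht2, mul_one, mul_inv_cancel]
  rw [← hz, ← Nat.card_zpowers]
  symm
  apply Nat.card_congr
  refine Equiv.ofBijective (fun w : Subgroup.zpowers z => ⟨((w : G) * t, t * (w : G)⁻¹ * z), ?_, ?_, ?_⟩) ⟨?_, ?_⟩
  · obtain ⟨k, hk⟩ := Subgroup.mem_zpowers_iff.mp w.2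
    show IsConj t ((w : G) * t)
    rw [← hk]; exact hconjt k
  · obtain ⟨k, hk⟩ := Subgroup.mem_zpowers_iff.mp w.2
    show IsConj t (t * (w : G)⁻¹ * z)
    rw [← hk]
    have h1 : t * (z ^ k)⁻¹ * z = z ^ (k - 1) * t := by
      have h2 := htzk (1 - k)
      have h3 : t * (z ^ k)⁻¹ * z = t * z ^ (1 - k) := by
        rw [mul_assoc, ← zpow_neg, ← zpow_add_one, show -k + 1 = 1 - k by ring]
      rw [h3]
      have h4 := congrArg (· * t) h2
      simp only [mul_assoc, ht2, mul_one] at h4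
      rw [h4, neg_sub]
    rw [h1]
    exact hconjt _
  · show (w : G) * t * (t * (w : G)⁻¹ * z) = z
    rw [show (w : G) * t * (t * (w : G)⁻¹ * z) = (w : G) * (t * t) * (w : G)⁻¹ * z by group, ht2, mul_one,
      mul_inv_cancel, one_mul]
  · intro v w hvw
    have h1 := congrArg (fun p => p.1.1) hvw
    have h2 : (v : G) * t = (w : G) * t := h1
    exact Subtype.ext (mul_right_cancel h2)
  · rintro ⟨⟨x, y⟩, hx, hy, hxy⟩
    simp only at hx hy hxy
    have hx2 := hsq x hx
    have hy2 := hsq y hy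
    have hxz : x * z * x = z⁻¹ := by
      rw [← hxy]
      rw [mul_inv_rev, show x * (x * y) * x = (x * x) * y * x by group, hx2, one_mul,
        inv_eq_of_mul_eq_one_left hx2, inv_eq_of_mul_eq_one_left hy2]
    have hxt : x * t ∈ Subgroup.zpowers z := by
      rw [← hC, Subgroup.mem_centralizer_singleton_iff]
      have h3 : t * z = z⁻¹ * t := by
        have := congrArg (· * t) htz'
        simpa only [mul_assoc, ht2, mul_one] using this
      have h4 : x * z⁻¹ = z * x := by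
        have h5 : x * z = z⁻¹ * x := by
          have := congrArg (· * x) hxz
          simpa only [mul_assoc, hx2, mul_one] using this
        have h6 : z * (x * z) = x := by rw [h5, mul_inv_cancel_left]
        have h7 : z * x = x * z⁻¹ := by
          rw [eq_mul_inv_iff_mul_eq, mul_assoc]; exact h6
        exact h7.symm
      rw [mul_assoc, h3, ← mul_assoc, h4, mul_assoc]
    refine ⟨⟨x * t, hxt⟩, ?_⟩
    apply Subtype.ext
    apply Prod.ext
    · show x * t * t = x
      rw [mul_assoc, ht2, mul_one]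
    · show t * (x * t)⁻¹ * z = y
      rw [mul_inv_rev, ← mul_assoc, mul_inv_cancel, one_mul, ← hxy, inv_mul_cancel_left]

theorem filter_singleton {d : ℕ} (h : N G d = 1) :
    ∃ X : IrrCharacter G, deg X = d ∧ ∀ χ : IrrCharacter G, deg χ = d → χ = X := by
  classical
  unfold N at h
  obtain ⟨X, hX⟩ := Finset.card_eq_one.mp h
  have hm : ∀ χ : IrrCharacter G, deg χ = d ↔ χ = X := by
    intro χ
    have : χ ∈ Finset.univ.filter (fun χ : IrrCharacter G => deg χ = d) ↔ χ ∈ ({X} : Finset (IrrCharacter G)) := by rw [hX]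
    simpa using this
  exact ⟨X, (hm X).mpr rfl, fun χ hχ => (hm χ).mp hχ⟩

theorem not_of_N_zero {d : ℕ} (h : N G d = 0) (χ : IrrCharacter G) : deg χ ≠ d := by
  classical
  intro hd
  unfold N at h
  rw [Finset.card_eq_zero] at h
  have : χ ∈ Finset.univ.filter (fun χ : IrrCharacter G => deg χ = d) := by simp [hd]
  rw [h] at this
  exact absurd this (Finset.notMem_empty _)

theorem sum_ind (d : ℕ) (q : ℚ) :
    ∑ χ : IrrCharacter G, (if deg χ = d then q else 0) = N G d * q := by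
  classical
  rw [← Finset.sum_filter, Finset.sum_const, nsmul_eq_mul]
  rfl

theorem no720 [IsSimpleGroup G] (hG : ¬ IsMulCommutative G) (h720 : Nat.card G = 720) : False := by
  classical
  obtain ⟨z, hz, hC, hconj⟩ := exists_z hG h720
  have hC5 : Nat.card (Subgroup.centralizer ({z} : Set G)) = 5 := by rw [hC, Nat.card_zpowers, hz]
  obtain ⟨hval, hN, hN2, hN3, hN8, hN12, hN18, hN24⟩ := column hG h720 hC5 hz hconj
  obtain ⟨t, htne, ht2, htz⟩ := exists_t hz hC (hconj 4 (by decide))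
  have hcnt := count_t hz hC ht2 htz
  set c := Nat.card (Subgroup.centralizer ({t} : Set G)) with hc
  have hex : ∀ χ : IrrCharacter G, ∃ e : ℤ, (χ : G → ℂ) t = e ∧ ∃ k : ℤ, (deg χ : ℤ) = e + 4 * k := by
    intro χ
    obtain ⟨n0, n1, h1, h2, h3⟩ := val_two χ.2.isCharacter t (by rw [sq, ht2])
    obtain ⟨r, hr⟩ := h3 (fun δ => hom_trivial hG δ)
    refine ⟨(n0 - n1 : ℤ), by rw [h2]; push_cast; ring, r, ?_⟩
    have h4 : (deg χ : ℂ) = (n0 + n1 : ℕ) := by rw [← apply_one, h1]; push_cast; ring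
    have h5 : deg χ = n0 + n1 := by exact_mod_cast h4
    rw [h5, hr]; push_cast; ring
  choose e he hek using hex
  have helt : ∀ χ : IrrCharacter G, χ ≠ triv G → |e χ| < deg χ := by
    intro χ hχ
    have h1 := norm_lt hG hχ htne
    rw [he, Complex.norm_intCast] at h1
    exact_mod_cast h1
  have htinv : t⁻¹ = t := inv_eq_of_mul_eq_one_left ht2
  have hnorm : ∑ χ : IrrCharacter G, e χ ^ 2 = c := by
    have h := col_orth_self t
    have h2 : ∑ χ : IrrCharacter G, (χ : G → ℂ) t * (χ : G → ℂ) t⁻¹ = ((∑ χ : IrrCharacter G, e χ ^ 2 : ℤ) : ℂ) := by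
      push_cast
      apply Finset.sum_congr rfl
      intro χ _
      rw [htinv, he, sq]
    rw [h2, ← hc] at h
    exact_mod_cast h
  have hdeg0 : ∀ χ : IrrCharacter G, (deg χ : ℚ) ≠ 0 := fun χ => by
    have := deg_pos χ
    positivity
  have hstr : (5 : ℚ) * (c * c) = 720 * ∑ χ : IrrCharacter G, (e χ : ℚ) ^ 2 * mu (deg χ) / deg χ := by
    have h := struct_const t t z
    rw [hcnt, h720, ← hc] at h
    have h2 : ∑ χ : IrrCharacter G, (χ : G → ℂ) t * (χ : G → ℂ) t * (χ : G → ℂ) z⁻¹ / (χ : G → ℂ) 1 =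
        ((∑ χ : IrrCharacter G, (e χ : ℚ) ^ 2 * mu (deg χ) / deg χ : ℚ) : ℂ) := by
      push_cast
      apply Finset.sum_congr rfl
      intro χ _
      rw [he, apply_one, ← conj_apply, hval, map_intCast]
      ring
    rw [h2] at h
    have h3 : (((5 : ℚ) * (c * c) : ℚ) : ℂ) = ((720 * ∑ χ : IrrCharacter G, (e χ : ℚ) ^ 2 * mu (deg χ) / deg χ : ℚ) : ℂ) := by
      push_cast at h ⊢
      exact h
    exact_mod_cast h3
  have hdegD : ∀ χ : IrrCharacter G, deg χ ∈ D := by
    intro χ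
    apply mem_D
    · rw [Nat.mem_divisors, ← h720]
      exact ⟨deg_dvd χ, by rw [h720]; norm_num⟩
    · rw [← h720, ← sum_deg_sq]
      exact Finset.single_le_sum (f := fun χ : IrrCharacter G => deg χ ^ 2) (fun _ _ => Nat.zero_le _) (Finset.mem_univ χ)
  have etriv : e (triv G) = 1 := by
    have h := he (triv G)
    rw [triv_apply] at h
    exact_mod_cast h.symm
  have hg : ∀ χ : IrrCharacter G, (e χ : ℚ) ^ 2 * mu (deg χ) / deg χ =
      (if deg χ = 1 then 1 else 0) + (if deg χ = 6 then 2 / 3 else 0) - (if deg χ = 9 then (e χ : ℚ) ^ 2 / 9 else 0) +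
      (if deg χ = 16 then (e χ : ℚ) ^ 2 / 16 else 0) := by
    intro χ
    have hD := hdegD χ
    by_cases h1 : deg χ = 1
    · have h2 := eq_triv_of_deg_one hG h1
      rw [h1, h2, etriv]
      norm_num [mu]
    have hχ : χ ≠ triv G := by
      rintro rfl
      exact h1 deg_triv
    have h3 := helt χ hχ
    obtain ⟨k, hk⟩ := hek χ
    rw [abs_lt] at h3
    have n2 := not_of_N_zero hN2 χ
    have n3 := not_of_N_zero hN3 χ
    have n8 := not_of_N_zero hN8 χ
    have n12 := not_of_N_zero hN12 χ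
    have n18 := not_of_N_zero hN18 χ
    have n24 := not_of_N_zero hN24 χ
    simp only [D, Finset.mem_insert, Finset.mem_singleton] at hD
    rcases hD with h | h | h | h | h | h | h | h | h | h | h | h | h | h | h
    · exact absurd h h1
    · exact absurd h n2
    · exact absurd h n3
    · have h4 : e χ = 0 := by rw [h] at h3 hk; omega
      rw [h, h4]; norm_num
    · rw [h]; norm_num [mu]
    · have h4 : e χ = 2 ∨ e χ = -2 := by rw [h] at h3 hk; omega
      rcases h4 with h4 | h4 <;> rw [h, h4] <;> norm_num [mu]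
    · exact absurd h n8
    · rw [h]; norm_num [mu]; ring
    · rw [h]; norm_num [mu]
    · exact absurd h n12
    · rw [h]; norm_num [mu]
    · rw [h]; norm_num [mu]
    · exact absurd h n18
    · rw [h]; norm_num [mu]
    · exact absurd h n24
  rw [Finset.sum_congr rfl (fun χ _ => hg χ), Finset.sum_add_distrib, Finset.sum_sub_distrib, Finset.sum_add_distrib,
    sum_ind, sum_ind, N_one hG] at hstr
  have hN9 : N G 9 = 1 := by rcases hN with h | h <;> exact h.2.2.1
  obtain ⟨X9, hX9, hX9u⟩ := filter_singleton hN9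
  have hs9 : ∑ χ : IrrCharacter G, (if deg χ = 9 then (e χ : ℚ) ^ 2 / 9 else 0) = (e X9 : ℚ) ^ 2 / 9 := by
    rw [Finset.sum_eq_single X9]
    · rw [if_pos hX9]
    · intro χ _ hne
      rw [if_neg (fun h => hne (hX9u χ h))]
    · intro h; exact absurd (Finset.mem_univ _) h
  rw [hs9] at hstr
  have hX9t : X9 ≠ triv G := by
    rintro rfl
    rw [deg_triv] at hX9; omega
  have h9lt := helt X9 hX9t
  obtain ⟨k9, hk9⟩ := hek X9
  rw [hX9] at h9lt hk9
  rw [abs_lt] at h9lt
  have h9 : e X9 = -7 ∨ e X9 = -3 ∨ e X9 = 1 ∨ e X9 = 5 := by omega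
  rcases hN with ⟨-, hN6, -, hN16⟩ | ⟨-, hN6, -, hN16⟩
  · have hs16 : ∑ χ : IrrCharacter G, (if deg χ = 16 then (e χ : ℚ) ^ 2 / 16 else 0) = 0 := by
      apply Finset.sum_eq_zero
      intro χ _
      rw [if_neg (not_of_N_zero hN16 χ)]
    rw [hs16, hN6] at hstr
    have hc2 : (c : ℚ) * c = 336 - 16 * (e X9 : ℚ) ^ 2 := by
      push_cast at hstr
      linarith
    have hc3 : (c : ℤ) * c = 336 - 16 * (e X9) ^ 2 := by exact_mod_cast hc2
    have hc18 : c ≤ 18 := by
      by_contra hcon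
      push Not at hcon
      have h1 : (19 : ℤ) ≤ c := by exact_mod_cast hcon
      nlinarith [sq_nonneg (e X9)]
    rcases h9 with h | h | h | h <;> rw [h] at hc3 <;> interval_cases c <;> omega
  · obtain ⟨X16, hX16, hX16u⟩ := filter_singleton hN16
    have hs16 : ∑ χ : IrrCharacter G, (if deg χ = 16 then (e χ : ℚ) ^ 2 / 16 else 0) = (e X16 : ℚ) ^ 2 / 16 := by
      rw [Finset.sum_eq_single X16]
      · rw [if_pos hX16]
      · intro χ _ hne
        rw [if_neg (fun h => hne (hX16u χ h))]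
      · intro h; exact absurd (Finset.mem_univ _) h
    rw [hs16, hN6] at hstr
    have hX16t : X16 ≠ triv G := by
      rintro rfl
      rw [deg_triv] at hX16; omega
    have h16lt := helt X16 hX16t
    obtain ⟨k16, hk16⟩ := hek X16
    rw [hX16] at h16lt hk16
    rw [abs_lt] at h16lt
    have hc2 : (c : ℚ) * c = 144 - 16 * (e X9 : ℚ) ^ 2 + 9 * (e X16 : ℚ) ^ 2 := by
      push_cast at hstr
      linarith
    have hc3 : (c : ℤ) * c = 144 - 16 * (e X9) ^ 2 + 9 * (e X16) ^ 2 := by exact_mod_cast hc2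
    have hge : 1 + e X9 ^ 2 + e X16 ^ 2 ≤ c := by
      rw [← hnorm]
      have h1 : ∑ χ ∈ ({triv G, X9, X16} : Finset (IrrCharacter G)), e χ ^ 2 ≤ ∑ χ : IrrCharacter G, e χ ^ 2 :=
        Finset.sum_le_sum_of_subset_of_nonneg (Finset.subset_univ _) (fun _ _ _ => sq_nonneg _)
      have hne : X9 ≠ X16 := by
        intro h
        rw [h, hX16] at hX9; omega
      rw [Finset.sum_insert, Finset.sum_pair hne, etriv] at h1
      · linarith
      · simp [hX9t.symm, hX16t.symm]
    have h16 : e X16 = -12 ∨ e X16 = -8 ∨ e X16 = -4 ∨ e X16 = 0 ∨ e X16 = 4 ∨ e X16 = 8 ∨ e X16 = 12 := by omega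
    have hc38 : c ≤ 38 := by
      by_contra hcon
      push Not at hcon
      have h1 : (39 : ℤ) ≤ c := by exact_mod_cast hcon
      have h2 : (e X16) ^ 2 ≤ 144 := by nlinarith
      nlinarith [sq_nonneg (e X9)]
    rcases h9 with h | h | h | h <;> rcases h16 with h' | h' | h' | h' | h' | h' | h' <;>
      rw [h, h'] at hc3 hge <;> first | nlinarith | (interval_cases c <;> omega)

end Cfsg.Agent.Lib.H53Ord720
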