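import Mathlib
import Cfsg.Agent.Lib.ZassBasic

/-!
Transitive groups of degree `p + 1` and order `(p + 1) p d`, `d < p` (helper13).
-/

set_option autoImplicit false

namespace Cfsg.Agent.Lib.PrimeDeg1

open MulAction ZassBasic

universe u v

/-- the standing configuration -/
structure Conf (G : Type u) (Ω : Type v) [Group G] [MulAction G Ω] (a b : Ω) (P : Subgroup G)
    (p d : ℕ) : Prop where
  h2 : IsMultiplyPretransitive G Ω 2
  h3 : Fix3 G Ω
  hab : a ≠ b
  hPc : Nat.card P = p
  hPa : ∀ x ∈ P, x • a = a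
  hPn : ∀ g : G, g • a = a → ∀ x ∈ P, g * x * g⁻¹ ∈ P
  hPt : ∀ y z, y ≠ a → z ≠ a → ∃ x ∈ P, x • y = z
  hP1 : ∀ x ∈ P, ∀ y, y ≠ a → x • y = y → x = 1
  hH : Nat.card ↥(stabilizer G a ⊓ stabilizer G b) = d

variable {G : Type u} {Ω : Type v} [Group G] [MulAction G Ω]

theorem exists_conf [Finite G] [Finite Ω] [FaithfulSMul G Ω] [IsPretransitive G Ω] {p d : ℕ}
    (hp : p.Prime) (hΩ : Nat.card Ω = p + 1) (hG : Nat.card G = (p + 1) * p * d) (hd : d < p) :
    ∃ a b P, Conf G Ω a b P p d := by
  classical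
  have := Fact.mk hp
  have := Fintype.ofFinite Ω
  have := Fintype.ofFinite G
  have hd0 : 0 < d := by
    rcases Nat.eq_zero_or_pos d with h | h
    · rw [h, mul_zero] at hG
      exact absurd hG Nat.card_pos.ne'
    · exact h
  obtain ⟨P⟩ : Nonempty (Sylow p G) := inferInstance
  have hPcard : Nat.card P = p := by
    rw [Sylow.card_eq_multiplicity, hG]
    have h1 : (p + 1).factorization p = 0 := by
      apply Nat.factorization_eq_zero_of_not_dvd
      intro h
      have := (Nat.dvd_add_right (dvd_refl p)).1 h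
      exact hp.one_lt.ne' (Nat.dvd_one.1 this)
    have h2 : d.factorization p = 0 := by
      apply Nat.factorization_eq_zero_of_not_dvd
      intro h
      exact absurd (Nat.le_of_dvd hd0 h) (by omega)
    have hp0 := hp.ne_zero
    rw [Nat.factorization_mul (Nat.mul_ne_zero (Nat.succ_ne_zero p) hp0) hd0.ne',
      Nat.factorization_mul (Nat.succ_ne_zero p) hp0,
      Finsupp.add_apply, Finsupp.add_apply, h1, h2, hp.factorization_self]
    simp
  -- a fixed point
  have hmod := P.isPGroup'.card_modEq_card_fixedPoints Ω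
  rw [hΩ] at hmod
  obtain ⟨a, ha⟩ : (fixedPoints P Ω).Nonempty := by
    rw [Set.nonempty_iff_ne_empty]
    intro h
    rw [h] at hmod
    have h1 : p ∣ p + 1 := by
      have := (Nat.modEq_zero_iff_dvd (n := p) (a := p + 1)).1 (by simpa using hmod)
      exact this
    have := (Nat.dvd_add_right (dvd_refl p)).1 h1
    exact hp.one_lt.ne' (Nat.dvd_one.1 this)
  have hPa : ∀ x ∈ P, x • a = a := fun x hx => (mem_fixedPoints.1 ha) ⟨x, hx⟩
  -- a moved point
  obtain ⟨g, hg⟩ : ∃ g : P, g ≠ 1 := by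
    by_contra hcon
    push Not at hcon
    have h1 : Nat.card P = 1 := Nat.card_eq_one_iff_unique.2 ⟨⟨fun x y => by rw [hcon x, hcon y]⟩, ⟨1⟩⟩
    rw [hPcard] at h1
    exact hp.one_lt.ne' h1
  obtain ⟨b, hb⟩ := exists_moved (Ω := Ω) (s := (g : G)) (fun h => hg (Subtype.ext h))
  have hab : a ≠ b := by
    rintro rfl
    exact hb (hPa g g.2)
  have hPinj : ∀ x ∈ P, ∀ y, y ≠ a → x • y ≠ a := by
    intro x hx y hy h
    exact hy (MulAction.injective x (h.trans (hPa x hx).symm))
  -- the orbit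
  have horbc : Nat.card (orbit P b) * Nat.card (stabilizer P b) = p := by
    refine Eq.trans ?_ hPcard
    rw [← Nat.card_prod]
    exact Nat.card_congr (orbitProdStabilizerEquivGroup P b)
  have horb1 : Nat.card (orbit P b) ≠ 1 := by
    intro h
    have h1 : (orbit P b).Subsingleton := by
      rw [Nat.card_eq_one_iff_unique] at h
      have := h.1
      exact Set.subsingleton_coe _ |>.1 this
    apply hb
    exact h1 (mem_orbit b g) (mem_orbit_self b)
  have horbp : Nat.card (orbit P b) = p := by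
    have h1 : Nat.card (orbit P b) ∣ p := Dvd.intro _ horbc
    rcases (Nat.dvd_prime hp).1 h1 with h | h
    · exact absurd h horb1
    · exact h
  have hstab1 : Nat.card (stabilizer P b) = 1 := by
    rw [horbp] at horbc
    exact Nat.eq_of_mul_eq_mul_left hp.pos (by rw [horbc, mul_one])
  have horb : orbit P b = {x | x ≠ a} := by
    apply Set.eq_of_subset_of_ncard_le
    · rintro _ ⟨x, rfl⟩
      exact hPinj x x.2 b hab.symm
    · have h1 : ({x | x ≠ a} : Set Ω) = {a}ᶜ := by
        ext x; simp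
      have h2 : (orbit P b).ncard = p := horbp
      rw [h1, Set.ncard_compl, Set.ncard_singleton, h2, hΩ]
      omega
    · exact Set.toFinite _
  have hPt' : ∀ y, y ≠ a → ∃ x ∈ P, x • b = y := by
    intro y hy
    have h1 : y ∈ orbit P b := by
      rw [horb]; exact hy
    obtain ⟨x, hx⟩ := h1
    exact ⟨x, x.2, hx⟩
  have hPt : ∀ y z, y ≠ a → z ≠ a → ∃ x ∈ P, x • y = z := by
    intro y z hy hz
    obtain ⟨x, hx, hxy⟩ := hPt' y hy
    obtain ⟨w, hw, hwz⟩ := hPt' z hz
    refine ⟨w * x⁻¹, mul_mem hw (inv_mem hx), ?_⟩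
    rw [mul_smul, ← hxy, inv_smul_smul, hwz]
  have hcomm : ∀ x ∈ P, ∀ y ∈ P, x * y = y * x := by
    have hcyc : IsCyclic P := isCyclic_of_prime_card hPcard
    intro x hx y hy
    have := IsCyclic.isMulCommutative (α := P)
    exact setLike_mul_comm (s := (P : Subgroup G)) hx hy
  have hP1 : ∀ x ∈ P, ∀ y, y ≠ a → x • y = y → x = 1 := by
    intro x hx y hy hxy
    obtain ⟨w, hw, hwy⟩ := hPt' y hy
    have h1 : x • b = b := by
      have h4 : x • w • b = w • b := by rw [hwy, hxy]
      rw [← mul_smul, hcomm x hx w hw, mul_smul] at h4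
      exact MulAction.injective w h4
    rw [Nat.card_eq_one_iff_unique] at hstab1
    have := hstab1.1
    have h5 : (⟨⟨x, hx⟩, h1⟩ : stabilizer P b) = 1 := Subsingleton.elim _ _
    exact congrArg (fun z : stabilizer P b => ((z : P) : G)) h5
  have h2 : IsMultiplyPretransitive G Ω 2 := by
    rw [is_two_pretransitive_iff]
    have key : ∀ x y : Ω, x ≠ y → ∃ g : G, g • x = a ∧ g • y = b := by
      intro x y hxy
      obtain ⟨g, hg⟩ := exists_smul_eq G x a
      have h1 : g • y ≠ a := fun h => hxy (MulAction.injective g (hg.trans h.symm))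
      obtain ⟨w, hw, hwy⟩ := hPt _ b h1 hab.symm
      exact ⟨w * g, by rw [mul_smul, hg, hPa w hw], by rw [mul_smul, hwy]⟩
    intro x y z w hxy hzw
    obtain ⟨g, hg1, hg2⟩ := key x y hxy
    obtain ⟨h, hh1, hh2⟩ := key z w hzw
    exact ⟨h⁻¹ * g, by rw [mul_smul, hg1, ← hh1, inv_smul_smul],
      by rw [mul_smul, hg2, ← hh2, inv_smul_smul]⟩
  have hne : Nat.card {x : Ω // x ≠ a} = p := by
    rw [Nat.card_eq_fintype_card, Fintype.card_subtype_compl, Fintype.card_subtype_eq,
      ← Nat.card_eq_fintype_card, hΩ]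
    omega
  have hSc : Nat.card (stabilizer G a) = p * d := by
    have h1 := (stabilizer G a).index_mul_card
    rw [index_stabilizer_of_transitive, hΩ, hG, mul_assoc] at h1
    exact Nat.eq_of_mul_eq_mul_left (Nat.succ_pos p) h1
  have hH : Nat.card ↥(stabilizer G a ⊓ stabilizer G b) = d := by
    have h1 := card_stab h2 hab
    rw [hSc, hne] at h1
    exact (Nat.eq_of_mul_eq_mul_left hp.pos h1).symm
  have hPle : (P : Subgroup G) ≤ stabilizer G a := fun x hx => hPa x hx
  have hPn : ∀ g : G, g • a = a → ∀ x ∈ P, g * x * g⁻¹ ∈ P := by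
    let P' : Sylow p (stabilizer G a) := P.subtype hPle
    have h4 : Nat.card (Sylow p (stabilizer G a)) ∣ d := by
      have h5 := P'.card_dvd_index
      have h6 := (P' : Subgroup (stabilizer G a)).index_mul_card
      have h7 : Nat.card (P' : Subgroup (stabilizer G a)) = p := by
        refine Eq.trans ?_ hPcard
        exact Nat.card_congr (Subgroup.subgroupOfEquivOfLe hPle).toEquiv
      rw [h7, hSc, mul_comm p d] at h6
      rw [Nat.eq_of_mul_eq_mul_right hp.pos h6] at h5
      exact h5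
    have h5 := card_sylow_modEq_one p (stabilizer G a)
    have h6 : Nat.card (Sylow p (stabilizer G a)) < p := (Nat.le_of_dvd hd0 h4).trans_lt hd
    have h7 : Nat.card (Sylow p (stabilizer G a)) = 1 := by
      unfold Nat.ModEq at h5
      rw [Nat.mod_eq_of_lt h6, Nat.mod_eq_of_lt hp.one_lt] at h5
      exact h5
    have h8 : Subsingleton (Sylow p (stabilizer G a)) := (Nat.card_eq_one_iff_unique.1 h7).1
    have h9 : (P' : Subgroup (stabilizer G a)).Normal := Sylow.normal_of_subsingleton P'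
    intro g hg x hx
    have h10 := h9.conj_mem ⟨x, hPle hx⟩ (by
      change x ∈ (P : Subgroup G)
      exact hx) ⟨g, hg⟩
    exact h10
  refine ⟨a, b, P, h2, ?_, hab, hPcard, hPa, hPn, hPt, hP1, hH⟩
  -- only the identity fixes three points
  intro g x y z hxy hyz hxz hgx hgy hgz
  obtain ⟨k, hk1, hk2⟩ := exists_move h2 hxy hab
  have hza : k • z ≠ a := fun h => hxz (MulAction.injective k (hk1.trans h.symm))
  have hzb : k • z ≠ b := fun h => hyz (MulAction.injective k (hk2.trans h.symm))
  set h := k * g * k⁻¹ with hh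
  have hha : h • a = a := by
    rw [hh, mul_smul, mul_smul, ← hk1, inv_smul_smul, hgx]
  have hhb : h • b = b := by
    rw [hh, mul_smul, mul_smul, ← hk2, inv_smul_smul, hgy]
  have hhz : h • k • z = k • z := by
    rw [hh, mul_smul, mul_smul, inv_smul_smul, hgz]
  obtain ⟨w, hw, hwz⟩ := hPt' _ hza
  have hw1 : w ≠ 1 := by
    rintro rfl
    rw [one_smul] at hwz
    exact hzb hwz.symm
  -- h commutes with w
  have hcw : h * w * h⁻¹ = w := by
    have h4 : w⁻¹ * (h * w * h⁻¹) = 1 := by
      apply hP1 _ (mul_mem (inv_mem hw) (hPn h hha w hw)) b hab.symm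
      rw [mul_smul, mul_smul, mul_smul, inv_smul_eq_iff.2 hhb.symm, hwz, hhz, ← hwz, inv_smul_smul]
    exact (inv_mul_eq_one.1 h4).symm
  have hcw' : h * w = w * h := by
    rw [← mul_inv_eq_iff_eq_mul]; exact hcw
  -- hence with all of P
  have hzp : ∀ x ∈ P, ∃ k : ℕ, w ^ k = x := by
    intro x hx
    have h4 : orderOf (⟨w, hw⟩ : P) = p := by
      have h5 : orderOf (⟨w, hw⟩ : P) ∣ p :=
        (orderOf_dvd_natCard (⟨w, hw⟩ : P)).trans hPcard.dvd
      rcases (Nat.dvd_prime hp).1 h5 with h6 | h6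
      · rw [orderOf_eq_one_iff] at h6
        exact absurd (congrArg Subtype.val h6) hw1
      · exact h6
    have h5 : (⟨x, hx⟩ : P) ∈ Subgroup.zpowers (⟨w, hw⟩ : P) := by
      have h6 : Subgroup.zpowers (⟨w, hw⟩ : P) = ⊤ := by
        apply Subgroup.eq_top_of_card_eq
        rw [Nat.card_zpowers, h4]
        exact hPcard.symm
      rw [h6]
      trivial
    obtain ⟨k, hk⟩ := (isOfFinOrder_of_finite _).mem_powers_iff_mem_zpowers.2 h5
    exact ⟨k, congrArg Subtype.val hk⟩
  have hall : ∀ x : Ω, h • x = x := by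
    intro x
    by_cases hxa : x = a
    · rw [hxa, hha]
    · obtain ⟨v, hv, hvx⟩ := hPt' x hxa
      obtain ⟨n, rfl⟩ := hzp v hv
      have h6 : Commute h (w ^ n) := Commute.pow_right hcw' n
      rw [← hvx, ← mul_smul, h6.eq, mul_smul, hhb]
  have h1 : h = 1 := FaithfulSMul.eq_of_smul_eq_smul (α := Ω) fun x => by rw [hall x, one_smul]
  have : g = k⁻¹ * h * k := by rw [hh]; group
  rw [this, h1]; group

end Cfsg.Agent.Lib.PrimeDeg1
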