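import Mathlib
import Cfsg.Agent.Lib.PrimeDeg1
import Cfsg.Agent.Lib.ZassNormal
import Cfsg.Agent.Lib.RegField
import Cfsg.Agent.Lib.FFAut

/-!
Transitive groups of degree `p + 1` and order `(p + 1) p d`, `d < p`: the affine case (helper13).
-/

set_option autoImplicit false

namespace Cfsg.Agent.Lib.PrimeDeg1

open MulAction ZassBasic

universe u v

variable {G : Type u} {Ω : Type v} [Group G] [MulAction G Ω]

theorem semiaffine [Finite G] [Finite Ω] [FaithfulSMul G Ω] {a b : Ω} {P : Subgroup G} {p d : ℕ}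
    (C : Conf G Ω a b P p d) (hp : p.Prime) (hp2 : p ≠ 2) (hΩ : Nat.card Ω = p + 1)
    (R : Subgroup G) [R.Normal] (hRt : ∀ x y : Ω, ∃ r ∈ R, r • x = y)
    (hRr : ∀ r ∈ R, ∀ x : Ω, r • x = x → r = 1) :
    ∃ q : ℕ, q.Prime ∧ p + 1 = 2 ^ q ∧ (d = 1 ∨ d = q) ∧ ∃ e : Ω ≃ GaloisField 2 q, ∀ g : G,
      ∃ u : (GaloisField 2 q)ˣ, ∃ v : GaloisField 2 q, ∃ φ : GaloisField 2 q ≃+* GaloisField 2 q,
        ∀ x : Ω, e (g • x) = u * φ (e x) + v := by
  classical
  have hntΩ : Nontrivial Ω := ⟨⟨a, b, C.hab⟩⟩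
  obtain ⟨ℓ, hℓ, hexp, hcomm, hcard⟩ := ZassNormal.reg_elem C.h2 R hRt hRr
  have := Fact.mk hℓ
  have hPG : IsPGroup ℓ R := by
    intro r
    exact ⟨1, Subtype.ext (by rw [pow_one]; exact hexp r r.2)⟩
  obtain ⟨q, hq⟩ := IsPGroup.iff_card.1 hPG
  have hodd : Odd p := hp.odd_of_ne_two hp2
  have hℓ2 : ℓ = 2 := by
    have h1 : 2 ∣ ℓ ^ q := by
      rw [← hq, hcard, hΩ]
      obtain ⟨k, hk⟩ := hodd
      exact ⟨k + 1, by omega⟩
    exact ((Nat.prime_dvd_prime_iff_eq Nat.prime_two hℓ).1 (Nat.prime_two.dvd_of_dvd_pow h1)).symm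
  subst hℓ2
  have hpq : p + 1 = 2 ^ q := by rw [← hΩ, ← hcard, hq]
  have hqp : q.Prime := by
    have h1 : (2 ^ q - 1).Prime := by
      rw [← hpq, Nat.add_sub_cancel]; exact hp
    refine (Nat.prime_of_pow_sub_one_prime ?_ h1).2
    rintro rfl
    have := hp.two_le
    omega
  -- commutativity of P
  have hPcomm : ∀ x ∈ P, ∀ y ∈ P, x * y = y * x := by
    have := Fact.mk hp
    have hcyc : IsCyclic P := isCyclic_of_prime_card C.hPc
    intro x hx y hy
    have := IsCyclic.isMulCommutative (α := P)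
    exact setLike_mul_comm (s := P) hx hy
  let iR : CommGroup R := { (inferInstance : Group R) with
    mul_comm := fun x y => Subtype.ext (hcomm x.1 x.2 y.1 y.2) }
  let iP : CommGroup P := { (inferInstance : Group P) with
    mul_comm := fun x y => Subtype.ext (hPcomm x.1 x.2 y.1 y.2) }
  let act : MulDistribMulAction P R :=
    { smul := fun x r => ⟨x.1 * r.1 * x.1⁻¹, ‹R.Normal›.conj_mem r.1 r.2 x.1⟩
      one_smul := by
        intro x
        apply Subtype.ext
        change (1 : G) * x.1 * (1 : G)⁻¹ = x.1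
        group
      mul_smul := by
        intro g h x
        apply Subtype.ext
        change (g.1 * h.1) * x.1 * (g.1 * h.1)⁻¹ = g.1 * (h.1 * x.1 * h.1⁻¹) * g.1⁻¹
        group
      smul_mul := by
        intro g x y
        apply Subtype.ext
        change g.1 * (x.1 * y.1) * g.1⁻¹ = (g.1 * x.1 * g.1⁻¹) * (g.1 * y.1 * g.1⁻¹)
        group
      smul_one := by
        intro g
        apply Subtype.ext
        change g.1 * (1 : G) * g.1⁻¹ = 1
        group }
  have hsmul : ∀ (x : P) (r : R), ((x • r : R) : G) = x.1 * r.1 * x.1⁻¹ := fun x r => rfl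
  have hRa : ∀ r : R, r ≠ 1 → (r : G) • a ≠ a := by
    intro r hr h
    exact hr (Subtype.ext (hRr r r.2 a h))
  have hRinj : ∀ r s : R, (r : G) • a = (s : G) • a → r = s := by
    intro r s h
    have h1 : (s : G)⁻¹ * r = 1 := by
      apply hRr _ (mul_mem (inv_mem s.2) r.2) a
      rw [mul_smul, h, inv_smul_smul]
    exact Subtype.ext (inv_mul_eq_one.1 h1).symm
  have hPinv : ∀ x ∈ P, x⁻¹ • a = a := fun x hx => C.hPa _ (inv_mem hx)
  have hreg : ∀ r s : R, r ≠ 1 → s ≠ 1 → ∃! x : P, x • r = s := by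
    intro r s hr hs
    obtain ⟨x, hx, hxs⟩ := C.hPt _ _ (hRa r hr) (hRa s hs)
    refine ⟨⟨x, hx⟩, ?_, ?_⟩
    · apply hRinj
      rw [hsmul]
      change (x * (r : G) * x⁻¹) • a = _
      rw [mul_smul, mul_smul, hPinv x hx, hxs]
    · intro y hy
      have h1 : (y : G) • (r : G) • a = (s : G) • a := by
        rw [← hy, hsmul, mul_smul, mul_smul, hPinv y y.2]
      have h2 : ((y : G)⁻¹ * x) • (r : G) • a = (r : G) • a := by
        rw [mul_smul, hxs, ← h1, inv_smul_smul]
      have h3 := C.hP1 _ (mul_mem (inv_mem y.2) hx) _ (hRa r hr) h2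
      exact Subtype.ext (inv_mul_eq_one.1 h3)
  have hRnt : Nontrivial R := by
    obtain ⟨r, hr, hrb⟩ := hRt a b
    refine ⟨⟨⟨r, hr⟩, 1, fun h => C.hab ?_⟩⟩
    have h1 : r = 1 := congrArg Subtype.val h
    rw [h1, one_smul] at hrb
    exact hrb
  obtain ⟨F, iF, iFf, φ0, χ, h0, hadd0, hact0, hχ, hχs⟩ :=
    RegField.exists_field' (A := R) (D := P) hreg
  -- the element of `R` moving `a` to `b`
  obtain ⟨rb, hrb, hrab⟩ := hRt a b
  have hrb1 : (⟨rb, hrb⟩ : R) ≠ 1 := by
    intro h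
    have h1 : rb = 1 := congrArg Subtype.val h
    rw [h1, one_smul] at hrab
    exact C.hab hrab
  have hφ0b : φ0 ⟨rb, hrb⟩ ≠ 0 := by
    intro h
    rw [← h0] at h
    exact hrb1 (φ0.injective h)
  let φ : R ≃ F := φ0.trans (Equiv.mulRight₀ (φ0 ⟨rb, hrb⟩)⁻¹ (inv_ne_zero hφ0b))
  have hφ : ∀ r, φ r = φ0 r * (φ0 ⟨rb, hrb⟩)⁻¹ := fun r => rfl
  have hadd : ∀ r s : R, φ (r * s) = φ r + φ s := by
    intro r s
    rw [hφ, hφ, hφ, hadd0, add_mul]
  have hone : φ 1 = 0 := by rw [hφ, h0, zero_mul]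
  have hb1 : φ ⟨rb, hrb⟩ = 1 := by rw [hφ, mul_inv_cancel₀ hφ0b]
  have hact : ∀ (x : P) (r : R), φ (x • r) = χ x * φ r := by
    intro x r
    rw [hφ, hφ, hact0, mul_assoc]
  clear_value φ
  have hcardF : Fintype.card F = 2 ^ q := by
    rw [← Nat.card_eq_fintype_card, ← Nat.card_congr φ, hq]
  -- conjugation on `F`
  let N : G → F → F := fun g z => φ ⟨g * (φ.symm z : R) * g⁻¹, ‹R.Normal›.conj_mem _ (φ.symm z).2 g⟩
  have hN : ∀ g (r : R), N g (φ r) = φ ⟨g * r * g⁻¹, ‹R.Normal›.conj_mem _ r.2 g⟩ := by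
    intro g r
    simp only [N, Equiv.symm_apply_apply]
  clear_value N
  have hN1 : ∀ z, N 1 z = z := by
    intro z
    obtain ⟨r, rfl⟩ := φ.surjective z
    rw [hN]
    congr 1
    apply Subtype.ext
    change (1 : G) * r * 1⁻¹ = r
    group
  have hNmul : ∀ g h z, N (g * h) z = N g (N h z) := by
    intro g h z
    obtain ⟨r, rfl⟩ := φ.surjective z
    rw [hN, hN, hN]
    congr 1
    apply Subtype.ext
    change g * h * r * (g * h)⁻¹ = g * (h * r * h⁻¹) * g⁻¹
    group
  have hNadd : ∀ g z w, N g (z + w) = N g z + N g w := by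
    intro g z w
    obtain ⟨r, rfl⟩ := φ.surjective z
    obtain ⟨s, rfl⟩ := φ.surjective w
    rw [← hadd, hN, hN, hN, ← hadd]
    congr 1
    apply Subtype.ext
    change g * (r * s) * g⁻¹ = g * r * g⁻¹ * (g * s * g⁻¹)
    group
  have hN0 : ∀ g, N g 0 = 0 := by
    intro g
    have h1 := hNadd g 0 0
    rw [add_zero] at h1
    exact left_eq_add.1 h1
  have hNP : ∀ (x : P) z, N x z = χ x * z := by
    intro x z
    obtain ⟨r, rfl⟩ := φ.surjective z
    rw [hN, ← hact]
    rfl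
  have hNinj : ∀ g, Function.Injective (N g) := by
    intro g z w hzw
    have h1 : N g⁻¹ (N g z) = N g⁻¹ (N g w) := by rw [hzw]
    rw [← hNmul, ← hNmul, inv_mul_cancel, hN1, hN1] at h1
    exact h1
  have hNc : ∀ g, N g 1 ≠ 0 := by
    intro g h
    rw [← hN0 g] at h
    exact one_ne_zero (hNinj g h)
  have hNm : ∀ g : G, g • a = a → ∀ z w, N g (z * w) * N g 1 = N g z * N g w := by
    intro g hg z w
    by_cases hz : z = 0
    · rw [hz, zero_mul, hN0, zero_mul, zero_mul]
    · obtain ⟨x, rfl⟩ := hχs z hz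
      have h1 : ∀ w, N g (χ x * w) = χ ⟨g * x * g⁻¹, C.hPn g hg x x.2⟩ * N g w := by
        intro w
        rw [← hNP, ← hNP, ← hNmul, ← hNmul]
        congr 1
        change g * (x : G) = g * x * g⁻¹ * g
        group
      have h2 := h1 1
      rw [mul_one] at h2
      rw [h1, h2]
      ring
  -- the ring automorphism attached to `g`
  have haut : ∀ g : G, g • a = a → ∃ ψ : F ≃+* F, ∀ z, N g z = N g 1 * ψ z := by
    intro g hg
    have hbij : Function.Bijective (fun z => (N g 1)⁻¹ * N g z) := by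
      rw [← Finite.injective_iff_bijective]
      intro z w hzw
      exact hNinj g (mul_left_cancel₀ (inv_ne_zero (hNc g)) hzw)
    refine ⟨{ Equiv.ofBijective (fun z => (N g 1)⁻¹ * N g z) hbij with
      map_mul' := ?_
      map_add' := ?_ }, ?_⟩
    · intro z w
      change (N g 1)⁻¹ * N g (z * w) = (N g 1)⁻¹ * N g z * ((N g 1)⁻¹ * N g w)
      have h1 := hNm g hg z w
      have h2 := hNc g
      field_simp
      linear_combination h1
    · intro z w
      change (N g 1)⁻¹ * N g (z + w) = (N g 1)⁻¹ * N g z + (N g 1)⁻¹ * N g w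
      rw [hNadd, mul_add]
    · intro z
      change N g z = N g 1 * ((N g 1)⁻¹ * N g z)
      rw [mul_inv_cancel_left₀ (hNc g)]
  choose! Ψ hΨ using haut
  -- the coordinates
  have hbij : Function.Bijective (fun r : R => (r : G) • a) := by
    constructor
    · intro r s h
      exact hRinj r s h
    · intro x
      obtain ⟨r, hr, hrx⟩ := hRt a x
      exact ⟨⟨r, hr⟩, hrx⟩
  have : Fintype (GaloisField 2 q) := Fintype.ofFinite _
  have hGF : Fintype.card F = Fintype.card (GaloisField 2 q) := by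
    rw [hcardF, ← Nat.card_eq_fintype_card, GaloisField.card 2 q hqp.ne_zero]
  let κ : F ≃+* GaloisField 2 q := FiniteField.ringEquivOfCardEq hGF
  let ε : Ω ≃ R := (Equiv.ofBijective _ hbij).symm
  have hε : ∀ r : R, ε ((r : G) • a) = r := fun r => Equiv.ofBijective_symm_apply_apply _ hbij r
  refine ⟨q, hqp, hpq, ?_, ε.trans (φ.trans κ.toEquiv), ?_⟩
  · -- the order of the two-point stabiliser
    have hH : ∀ h ∈ stabilizer G a ⊓ stabilizer G b, N h 1 = 1 := by
      intro h hh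
      rw [← hb1, hN]
      congr 1
      apply hRinj
      change (h * rb * h⁻¹) • a = rb • a
      have hha : h • a = a := hh.1
      have hhb : h • b = b := hh.2
      rw [mul_smul, mul_smul, inv_smul_eq_iff.2 hha.symm, hrab, hhb]
    let Θ : ↥(stabilizer G a ⊓ stabilizer G b) →* (F ≃+* F) :=
      { toFun := fun h => Ψ h
        map_one' := by
          ext z
          have h1 := hΨ (1 : G) (one_smul _ _) z
          rw [hN1, hN1, one_mul] at h1
          exact h1.symm
        map_mul' := by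
          intro g h
          ext z
          have h1 := hΨ _ (g * h).2.1 z
          have h2 := hΨ _ h.2.1 z
          have h3 := hΨ _ g.2.1 (N h z)
          have h4 : N ((g * h : ↥(stabilizer G a ⊓ stabilizer G b)) : G) z = N g (N h z) := hNmul g h z
          rw [hH _ (g * h).2, one_mul, h4] at h1
          rw [hH _ h.2, one_mul] at h2
          rw [hH _ g.2, one_mul, h1] at h3
          change Ψ ((g * h : ↥(stabilizer G a ⊓ stabilizer G b)) : G) z = Ψ g (Ψ h z)
          rw [← h2]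
          exact h3 }
    have hΘ : Function.Injective Θ := by
      rw [injective_iff_map_eq_one]
      intro h hh
      have h1 : ∀ z, N h z = z := by
        intro z
        have h2 := hΨ h h.2.1 z
        rw [hH h h.2, one_mul] at h2
        rw [h2]
        have h3 : Ψ (h : G) = 1 := hh
        rw [h3]
        rfl
      apply Subtype.ext
      apply FaithfulSMul.eq_of_smul_eq_smul (α := Ω)
      intro x
      obtain ⟨r, hr, hrx⟩ := hRt a x
      have h2 := h1 (φ ⟨r, hr⟩)
      rw [hN] at h2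
      have h3 := congrArg Subtype.val (φ.injective h2)
      have h4 : (h : G) * r * (h : G)⁻¹ = r := h3
      have hha : (h : G) • a = a := h.2.1
      have h5 : (h : G) * r = r * h := by
        rw [← mul_inv_eq_iff_eq_mul]; exact h4
      change (h : G) • x = (1 : G) • x
      rw [one_smul, ← hrx, ← mul_smul, h5, mul_smul, hha]
    have h1 := Subgroup.card_dvd_of_injective Θ hΘ
    rw [C.hH] at h1
    have := Fact.mk Nat.prime_two
    rw [FFAut.card_aut hcardF] at h1
    exact (Nat.dvd_prime hqp).1 h1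
  · intro g
    obtain ⟨r0, hr0, hr0a⟩ := hRt a (g • a)
    have hg' : (r0⁻¹ * g) • a = a := by rw [mul_smul, ← hr0a, inv_smul_smul]
    have hψ := hΨ (r0⁻¹ * g) hg'
    set ψ := Ψ (r0⁻¹ * g)
    refine ⟨Units.mk0 (κ (N (r0⁻¹ * g) 1)) ?_, κ (φ ⟨r0, hr0⟩), (κ.symm.trans ψ).trans κ, ?_⟩
    · rw [Ne, map_eq_zero]
      exact hNc _
    · intro x
      obtain ⟨r, hr, hrx⟩ := hRt a x
      have hx : ε x = ⟨r, hr⟩ := by
        rw [← hrx]; exact hε ⟨r, hr⟩
      have hgx : ε (g • x) = ⟨r0, hr0⟩ * ⟨(r0⁻¹ * g) * r * (r0⁻¹ * g)⁻¹,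
          ‹R.Normal›.conj_mem _ hr _⟩ := by
        rw [← hε (⟨r0, hr0⟩ * _)]
        congr 1
        change g • x = (r0 * ((r0⁻¹ * g) * r * (r0⁻¹ * g)⁻¹)) • a
        rw [← hrx, ← mul_smul]
        have h1 : (r0 * ((r0⁻¹ * g) * r * (r0⁻¹ * g)⁻¹)) • a =
            (g * r) • (r0⁻¹ * g)⁻¹ • a := by
          rw [← mul_smul]
          congr 1
          group
        rw [h1, inv_smul_eq_iff.2 hg'.symm]
      change κ (φ (ε (g • x))) = κ (N (r0⁻¹ * g) 1) * κ (ψ (κ.symm (κ (φ (ε x))))) + κ (φ ⟨r0, hr0⟩)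
      rw [hgx, hadd, RingEquiv.symm_apply_apply, hx, ← map_mul, ← hψ, hN, map_add κ, add_comm]

end Cfsg.Agent.Lib.PrimeDeg1
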