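import Mathlib
import Cfsg.Agent.Lib.Sharp3Main
import Cfsg.Agent.Lib.FrobAction

/-!
The subgroup of index two of the two-point stabiliser is inverted (helper13).
-/

set_option autoImplicit false

namespace Cfsg.Agent.Lib.Sharp3

open MulAction ZassBasic

universe u v

/-- in a cyclic group subgroups of the same order coincide -/
theorem eq_of_cyclic {G : Type u} [Group G] [Finite G] {N A B : Subgroup G} (hN : IsCyclic N)
    (hA : A ≤ N) (hB : B ≤ N) (h : Nat.card A = Nat.card B) : A = B := by
  classical
  have := Fintype.ofFinite G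
  set n := Nat.card A with hn
  let T : Finset N := Finset.univ.filter (fun y : N => y ^ n = 1)
  have hT : T.card ≤ n := IsCyclic.card_pow_eq_one_le Nat.card_pos
  have key : ∀ D : Subgroup G, D ≤ N → Nat.card D = n →
      T = Finset.univ.filter (fun y : N => (y : G) ∈ D) := by
    intro D hD hDn
    symm
    apply Finset.eq_of_subset_of_card_le
    · intro y hy
      rw [Finset.mem_filter] at hy ⊢
      refine ⟨Finset.mem_univ _, ?_⟩
      have h1 : (⟨y, hy.2⟩ : D) ^ n = 1 := by rw [← hDn]; exact pow_card_eq_one'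
      have h2 : (y : G) ^ n = 1 := Subtype.ext_iff.1 h1
      exact Subtype.ext h2
    · refine hT.trans ?_
      rw [← hDn, Nat.card_eq_fintype_card, ← Finset.card_univ]
      apply Finset.card_le_card_of_injOn (fun x : D => (⟨x, hD x.2⟩ : N))
      · intro x _
        rw [Finset.mem_coe, Finset.mem_filter]
        exact ⟨Finset.mem_univ _, x.2⟩
      · intro x _ y _ hxy
        have h1 : (x : G) = y := congrArg (fun w : N => (w : G)) hxy
        exact Subtype.ext h1
  have h1 := (key A hA rfl).symm.trans (key B hB h.symm)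
  ext x
  constructor
  · intro hx
    have h2 : (⟨x, hA hx⟩ : N) ∈ Finset.univ.filter (fun y : N => (y : G) ∈ A) :=
      Finset.mem_filter.2 ⟨Finset.mem_univ _, hx⟩
    rw [h1] at h2
    exact (Finset.mem_filter.1 h2).2
  · intro hx
    have h2 : (⟨x, hB hx⟩ : N) ∈ Finset.univ.filter (fun y : N => (y : G) ∈ B) :=
      Finset.mem_filter.2 ⟨Finset.mem_univ _, hx⟩
    rw [← h1] at h2
    exact (Finset.mem_filter.1 h2).2

namespace Config

variable {G : Type u} {Ω : Type v} [Group G] [MulAction G Ω]
variable {a b c : Ω} {s z u : G} {K : Subgroup G} (C : Config G Ω a b c s z u K)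
include C

theorem inverts [Finite G] {N : Subgroup G} (hNH : N ≤ stabilizer G a ⊓ stabilizer G b)
    (hidx : N.relIndex (stabilizer G a ⊓ stabilizer G b) = 2)
    (hX : ∀ x ∈ stabilizer G a ⊓ stabilizer G b, s * x * s * x⁻¹ ∈ N) :
    ∀ n ∈ N, s * n * s = n⁻¹ := by
  classical
  have := Fintype.ofFinite G
  set H := stabilizer G a ⊓ stabilizer G b with hH
  let φ : H → N := fun x => ⟨s * x * s * (x : G)⁻¹, hX x x.2⟩
  have h1 := Finset.card_le_mul_card_image (f := φ) Finset.univ 2 (by
    intro y _
    by_cases hex : ∃ x0 : H, φ x0 = y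
    · obtain ⟨x0, hx0⟩ := hex
      have hzH : z ∈ H := ⟨C.hza, C.hzb⟩
      have hsub : Finset.univ.filter (fun x => φ x = y) ⊆ {x0, x0 * ⟨z, hzH⟩} := by
        intro x hx
        rw [Finset.mem_filter] at hx
        have h2 : φ x = φ x0 := hx.2.trans hx0.symm
        have h3 : s * (x : G) * s * (x : G)⁻¹ = s * (x0 : G) * s * (x0 : G)⁻¹ :=
          congrArg Subtype.val h2
        have h4 : (x : G) * s * (x : G)⁻¹ = x0 * s * (x0 : G)⁻¹ := by
          have h5 : s * ((x : G) * s * (x : G)⁻¹) = s * (x0 * s * (x0 : G)⁻¹) := by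
            rw [← mul_assoc, ← mul_assoc, ← mul_assoc, ← mul_assoc]; exact h3
          exact mul_left_cancel h5
        set w : G := (x0 : G)⁻¹ * x with hw
        have hwH : w ∈ H := H.mul_mem (H.inv_mem x0.2) x.2
        have hws : s * w = w * s := by
          rw [hw]
          calc s * ((x0 : G)⁻¹ * x) = (x0 : G)⁻¹ * (x0 * s * (x0 : G)⁻¹) * x := by group
            _ = (x0 : G)⁻¹ * (x * s * (x : G)⁻¹) * x := by rw [h4]
            _ = (x0 : G)⁻¹ * x * s := by group
        have hfix : s • w • c = w • c := by rw [smul_smul, hws, mul_smul, C.hsc]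
        have hwa : w • a = a := hwH.1
        have hwb : w • b = b := hwH.2
        rw [Finset.mem_insert, Finset.mem_singleton]
        rcases C.fix_s hfix with h5 | h5
        · left
          have : w = 1 := C.h3 w a b c C.hab C.hbc C.hac hwa hwb h5
          apply Subtype.ext
          have h6 : (x : G) = x0 * w := by rw [hw]; group
          rw [h6, this, mul_one]
        · right
          have : w = z := eq_of_three C.h3 C.hab C.hac C.hbc (hwa.trans C.hza.symm)
            (hwb.trans C.hzb.symm) h5
          apply Subtype.ext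
          have h6 : (x : G) = x0 * w := by rw [hw]; group
          rw [h6, this]; rfl
      exact (Finset.card_le_card hsub).trans (Finset.card_le_two)
    · have : Finset.univ.filter (fun x => φ x = y) = ∅ := by
        rw [Finset.filter_eq_empty_iff]
        intro x _ hx
        exact hex ⟨x, hx⟩
      rw [this]; simp)
  have hmul : N.relIndex H * Nat.card N = Nat.card H := by
    rw [Subgroup.relIndex, ← Nat.card_congr (Subgroup.subgroupOfEquivOfLe hNH).toEquiv,
      Subgroup.index_mul_card]
  rw [hidx, Nat.card_eq_fintype_card, Nat.card_eq_fintype_card] at hmul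
  rw [Finset.card_univ] at h1
  have h2 : Finset.univ.image φ = Finset.univ := by
    apply Finset.eq_univ_of_card
    apply le_antisymm (Finset.card_le_univ _)
    omega
  intro n hn
  have h3 : (⟨n, hn⟩ : N) ∈ Finset.univ.image φ := by rw [h2]; exact Finset.mem_univ _
  obtain ⟨x, -, hx⟩ := Finset.mem_image.1 h3
  have h4 : s * x * s * (x : G)⁻¹ = n := congrArg Subtype.val hx
  rw [← h4]
  have hs := C.hss
  calc s * (s * (x : G) * s * (x : G)⁻¹) * s = (s * s) * x * s * (x : G)⁻¹ * s := by group
    _ = x * s * (x : G)⁻¹ * s := by rw [hs, one_mul]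
    _ = (s⁻¹ * x * s⁻¹ * (x : G)⁻¹)⁻¹ := by group
    _ = (s * x * s * (x : G)⁻¹)⁻¹ := by rw [C.sinv]

/-- `N` is cyclic -/
theorem cyclic [Finite G] [Finite Ω] {N : Subgroup G} (hNH : N ≤ stabilizer G a ⊓ stabilizer G b)
    (hinv : ∀ n ∈ N, s * n * s = n⁻¹) : IsCyclic N := by
  have hcomm : ∀ x y : N, x * y = y * x := by
    intro x y
    apply Subtype.ext
    show (x : G) * y = y * x
    have h1 := hinv _ (N.mul_mem x.2 y.2)
    have h2 := hinv _ x.2
    have h3 := hinv _ y.2
    have h4 : s * ((x : G) * y) * s = (s * x * s) * (s * y * s) := by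
      calc s * ((x : G) * y) * s = s * x * (1 : G) * y * s := by group
        _ = s * x * (s * s) * y * s := by rw [C.hss]
        _ = (s * x * s) * (s * y * s) := by group
    rw [h4, h2, h3, mul_inv_rev] at h1
    -- x⁻¹ y⁻¹ = y⁻¹ x⁻¹
    have h5 := congrArg (·⁻¹) h1
    simp only [mul_inv_rev, inv_inv] at h5
    exact h5.symm
  let K' := K
  have hKn : ∀ g ∈ stabilizer G a ⊓ stabilizer G b, ∀ k ∈ K, g * k * g⁻¹ ∈ K := fun g hg k hk =>
    (C.hK _).2 (inK_conj ((C.hK _).1 hk) hg.1)
  let act : N →* MulAut K := {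
    toFun := fun n =>
      { toFun := fun k => ⟨n * k * (n : G)⁻¹, hKn n (hNH n.2) k k.2⟩
        invFun := fun k => ⟨(n : G)⁻¹ * k * n, by
          have := hKn (n : G)⁻¹ (Subgroup.inv_mem _ (hNH n.2)) k k.2
          rwa [inv_inv] at this⟩
        left_inv := fun k => Subtype.ext (by
          show (n : G)⁻¹ * (n * k * (n : G)⁻¹) * n = k
          group)
        right_inv := fun k => Subtype.ext (by
          show n * ((n : G)⁻¹ * k * n) * (n : G)⁻¹ = k
          group)
        map_mul' := fun k l => Subtype.ext (by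
          show n * ((k : G) * l) * (n : G)⁻¹ = (n * k * (n : G)⁻¹) * (n * l * (n : G)⁻¹)
          group) }
    map_one' := by
      ext k
      show (1 : G) * k * (1 : G)⁻¹ = k
      group
    map_mul' := fun n m => by
      ext k
      show (n * m : G) * k * (n * m : G)⁻¹ = n * (m * k * (m : G)⁻¹) * (n : G)⁻¹
      group }
  have hu1 : u ≠ 1 := by
    intro h
    have := C.hub
    rw [h, one_smul] at this
    exact C.hbc this
  have hnt : Nontrivial K := ⟨⟨u, C.huK⟩, 1, fun h => hu1 (congrArg Subtype.val h)⟩
  have hKc : ∀ x y : K, x * y = y * x := by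
    intro x y
    apply Subtype.ext
    show (x : G) * y = y * x
    have hi : ∀ k ∈ K, z * k * z = k⁻¹ := fun k hk =>
      inK_invert C.h2 C.h3 C.hab C.hzz C.hz1 C.hza C.hzb ((C.hK k).1 hk)
    have h1 := hi _ (K.mul_mem x.2 y.2)
    have h2 := hi _ x.2
    have h3 := hi _ y.2
    have h4 : z * ((x : G) * y) * z = (z * x * z) * (z * y * z) := by
      calc z * ((x : G) * y) * z = z * x * (1 : G) * y * z := by group
        _ = z * x * (z * z) * y * z := by rw [C.hzz]
        _ = (z * x * z) * (z * y * z) := by group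
    rw [h4, h2, h3, mul_inv_rev] at h1
    have h5 := congrArg (·⁻¹) h1
    simp only [mul_inv_rev, inv_inv] at h5
    exact h5.symm
  let _ : CommGroup K := { (inferInstance : Group K) with mul_comm := hKc }
  have hf : FrobAction.IsFPF act := by
    intro n hn k hk
    by_contra hk1
    apply hn
    apply Subtype.ext
    have hk' : n * (k : G) * (n : G)⁻¹ = k := congrArg Subtype.val hk
    have hnH := hNH n.2
    have hna : (n : G) • a = a := hnH.1
    have hnb : (n : G) • b = b := hnH.2
    have hkb : (k : G) • b ≠ b := fun h => hk1 (Subtype.ext (C.K_one k.2 h))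
    have hka : (k : G) • b ≠ a := fun h' => C.hab (MulAction.injective _ ((C.Ka k.2).trans h'.symm))
    refine C.h3 n a b ((k : G) • b) C.hab hkb.symm hka.symm hna hnb ?_
    have h5 : (n : G) * k = k * n := by
      calc (n : G) * k = (n * (k : G) * (n : G)⁻¹) * n := by group
        _ = k * n := by rw [hk']
    rw [smul_smul, h5, mul_smul, hnb]
  exact FrobAction.isCyclic_of_comm hf hcomm

end Config

end Cfsg.Agent.Lib.Sharp3
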