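import Mathlib
import Cfsg.Agent.Lib.SmallSieve
import Cfsg.Agent.Lib.BrauerFowler
import Cfsg.Agent.Lib.JordanCycle

/-!
# No simple group of order 5400 (helper54)
-/

set_option autoImplicit false
set_option linter.all false

namespace Cfsg.Agent.Lib.Ord5400

open Subgroup MulAction Cfsg.Agent.Lib.SmallSimple Cfsg.Agent.Lib.SmallSieve

instance fact5 : Fact (Nat.Prime 5) := ⟨by norm_num⟩

/-- uniqueness of the Sylow 5-subgroup -/
theorem uniq5 {H : Type*} [Group H] [Finite H] (h : Nat.card H = 150 ∨ Nat.card H = 450) (P R : Sylow 5 H) : P = R := by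
  classical
  obtain ⟨K, hK⟩ := BrauerFowler.exists_index_two_of_two_mod_four (G := H) (by rcases h with h | h <;> rw [h])
  have hKn : K.Normal := Subgroup.normal_of_index_eq_two hK
  have hPc : ∀ Q : Sylow 5 H, Nat.card (Q : Subgroup H) = 5 ^ 2 := by
    intro Q
    rcases h with h | h
    · exact sylow_card_of (m := 6) (by rw [h]; norm_num) (by norm_num) Q
    · exact sylow_card_of (m := 18) (by rw [h]; norm_num) (by norm_num) Q
  have hle : ∀ Q : Sylow 5 H, (Q : Subgroup H) ≤ K := by
    intro Q x hx
    have h1 : x ^ 25 = 1 := by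
      apply orderOf_dvd_iff_pow_eq_one.1
      have := Subgroup.orderOf_dvd_natCard _ hx
      rw [hPc Q] at this
      exact this
    have h2 : x ^ 2 ∈ K := by
      have := Subgroup.pow_index_mem K x
      rwa [hK] at this
    have h3 : x = ((x ^ 2) ^ 12)⁻¹ := by
      rw [eq_inv_iff_mul_eq_one, ← pow_mul, ← pow_succ']
      exact h1
    rw [h3]
    exact inv_mem (pow_mem h2 12)
  have hKc : Nat.card K = 5 ^ 2 * 3 ∨ Nat.card K = 5 ^ 2 * 9 := by
    have := K.card_mul_index
    rw [hK] at this
    omega
  have hn1 : Nat.card (Sylow 5 K) = 1 := by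
    have h1 : Nat.card (Sylow 5 K) ∣ 9 := by
      rcases hKc with h | h
      · exact (nsyl_dvd h (by norm_num)).trans (by norm_num)
      · exact nsyl_dvd h (by norm_num)
    have h2 := nsyl_mod 5 K
    have h3 := Nat.le_of_dvd (by norm_num) h1
    interval_cases hc : Nat.card (Sylow 5 K) <;> simp_all
  have hsub : Subsingleton (Sylow 5 K) := (Nat.card_eq_one_iff_unique.1 hn1).1
  have h6 : P.subtype (hle P) = R.subtype (hle R) := Subsingleton.elim _ _
  exact Sylow.subtype_injective h6

/-- the permutation character of degree 18 -/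
theorem fin18 {G : Type*} [Group G] [Finite G] [IsSimpleGroup G] (hcard : Nat.card G = 5400) (D N : Subgroup G)
    (hD5 : Nat.card D = 5) (hN : N = normalizer (D : Set G)) (hidx : N.index = 18)
    (hn6 : Nat.card (Sylow 5 N) = 6)
    (hcont : ∀ E : Subgroup G, Nat.card E = 5 → ∀ T : Sylow 5 N,
      ((T : Subgroup N).map N.subtype) ≤ normalizer (E : Set G) → E ≤ (T : Subgroup N).map N.subtype)
    (hDT : ∀ T : Sylow 5 N, D ≤ (T : Subgroup N).map N.subtype)
    (hinter : ∀ T T' : Sylow 5 N, T ≠ T' → (T : Subgroup N).map N.subtype ⊓ (T' : Subgroup N).map N.subtype ≤ D)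
    (hcoat : IsCoatom N) : False := by
  classical
  set X := G ⧸ N with hX
  have hXc : Nat.card X = 18 := hidx
  have : Finite X := Nat.finite_of_card_ne_zero (by rw [hXc]; norm_num)
  have : Fintype X := Fintype.ofFinite X
  have hXf : Fintype.card X = 18 := by rw [← Nat.card_eq_fintype_card]; exact hXc
  let base : X := ((1 : G) : G ⧸ N)
  -- fixed points of a subgroup
  let FX : Subgroup G → Finset X := fun H => Finset.univ.filter (fun x => ∀ h ∈ H, h • x = x)
  have memFX : ∀ H x, x ∈ FX H ↔ ∀ h ∈ H, h • x = x := fun H x => by simp [FX]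
  have cardFX : ∀ H : Subgroup G, IsPGroup 5 H → (FX H).card % 5 = 3 := by
    intro H hH
    have h1 := hH.card_modEq_card_fixedPoints X
    rw [hXc] at h1
    have h2 : Nat.card (fixedPoints H X) = (FX H).card := by
      rw [Nat.card_coe_set_eq, ← Set.ncard_coe_finset]
      congr 1
      ext x
      rw [mem_fixedPoints, Finset.mem_coe, memFX]
      constructor
      · intro h3 h hh
        exact h3 ⟨h, hh⟩
      · intro h3 h
        exact h3 h h.2
    rw [h2] at h1
    have h3 : (FX H).card % 5 = 18 % 5 := h1.symm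
    exact h3
  have hbase : ∀ H ≤ N, base ∈ FX H := by
    intro H hH
    rw [memFX]
    intro h hh
    change ((h * 1 : G) : G ⧸ N) = ((1 : G) : G ⧸ N)
    rw [eq_comm, QuotientGroup.eq]
    simpa using hH hh
  have hTle : ∀ T : Sylow 5 N, (T : Subgroup N).map N.subtype ≤ N := fun T => Subgroup.map_subtype_le _
  have hTp : ∀ T : Sylow 5 N, IsPGroup 5 ((T : Subgroup N).map N.subtype) := fun T => T.2.map _
  -- the conjugate argument
  have hcj : ∀ (g : G) (T : Sylow 5 N), ((g : G) : G ⧸ N) ∈ FX ((T : Subgroup N).map N.subtype) →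
      ∀ x ∈ D, g * x * g⁻¹ ∈ (T : Subgroup N).map N.subtype := by
    intro g T hg x hx
    have h1 : D.map (MulAut.conj g).toMonoidHom ≤ (T : Subgroup N).map N.subtype := by
      apply hcont
      · rw [Subgroup.card_map_of_injective (MulAut.conj g).injective]; exact hD5
      · intro q hq
        rw [memFX] at hg
        have h2 := hg q hq
        change ((q * g : G) : G ⧸ N) = ((g : G) : G ⧸ N) at h2
        rw [eq_comm, QuotientGroup.eq] at h2
        rw [hN, Subgroup.mem_normalizer_iff] at h2
        rw [Subgroup.mem_normalizer_iff]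
        intro h
        rw [Subgroup.mem_map_equiv, Subgroup.mem_map_equiv]
        simp only [MulAut.conj_symm_apply]
        rw [h2]
        apply Iff.of_eq
        congr 1
        group
    exact h1 ⟨x, hx, rfl⟩
  have hdisj : ∀ T T' : Sylow 5 N, T ≠ T' → ∀ x, x ∈ FX ((T : Subgroup N).map N.subtype) →
      x ∈ FX ((T' : Subgroup N).map N.subtype) → x = base := by
    intro T T' hTT x hx hx'
    obtain ⟨g, rfl⟩ := QuotientGroup.mk_surjective x
    have h1 : ∀ y ∈ D, g * y * g⁻¹ ∈ D := fun y hy => hinter T T' hTT ⟨hcj g T hx y hy, hcj g T' hx' y hy⟩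
    have h2 : g ∈ N := by
      rw [hN]
      have h3 : D.map (MulAut.conj g).toMonoidHom ≤ D := by
        rintro _ ⟨y, hy, rfl⟩
        exact h1 y hy
      have h4 : D.map (MulAut.conj g).toMonoidHom = D := by
        apply Subgroup.eq_of_le_of_card_ge h3
        rw [Subgroup.card_map_of_injective (MulAut.conj g).injective]
      rw [Subgroup.mem_normalizer_iff]
      intro y
      constructor
      · exact h1 y
      · intro hy
        rw [← h4] at hy
        obtain ⟨z, hz, hz'⟩ := hy
        have : g * z * g⁻¹ = g * y * g⁻¹ := hz'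
        have h5 : z = y := by simpa using this
        rw [← h5]; exact hz
    change ((g : G) : G ⧸ N) = ((1 : G) : G ⧸ N)
    rw [QuotientGroup.eq]
    simpa using h2
  -- counting
  have : Fintype (Sylow 5 N) := Fintype.ofFinite _
  have hge : 13 ≤ (FX D).card := by
    have h1 : ((Finset.univ : Finset (Sylow 5 N)).biUnion fun T => (FX ((T : Subgroup N).map N.subtype)).erase base).card
        = ∑ T : Sylow 5 N, ((FX ((T : Subgroup N).map N.subtype)).erase base).card := by
      apply Finset.card_biUnion
      intro T _ T' _ hTT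
      show Disjoint _ _
      rw [Finset.disjoint_left]
      intro x hx hx'
      rw [Finset.mem_erase] at hx hx'
      exact hx.1 (hdisj T T' hTT x hx.2 hx'.2)
    have h2 : (12 : ℕ) ≤ ∑ T : Sylow 5 N, ((FX ((T : Subgroup N).map N.subtype)).erase base).card := by
      calc 12 = ∑ T : Sylow 5 N, 2 := by
            rw [Finset.sum_const, Finset.card_univ, ← Nat.card_eq_fintype_card, hn6]; norm_num
        _ ≤ _ := by
            apply Finset.sum_le_sum
            intro T _
            rw [Finset.card_erase_of_mem (hbase _ (hTle T))]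
            have := cardFX _ (hTp T)
            omega
    have h3 : ((Finset.univ : Finset (Sylow 5 N)).biUnion fun T => (FX ((T : Subgroup N).map N.subtype)).erase base)
        ⊆ (FX D).erase base := by
      intro x hx
      rw [Finset.mem_biUnion] at hx
      obtain ⟨T, _, hx⟩ := hx
      rw [Finset.mem_erase] at hx ⊢
      refine ⟨hx.1, ?_⟩
      rw [memFX] at hx ⊢
      intro h hh
      exact hx.2 h (hDT T hh)
    have hDN : D ≤ N := by rw [hN]; exact le_normalizer
    have h4 := Finset.card_le_card h3
    rw [Finset.card_erase_of_mem (hbase _ hDN)] at h4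
    omega
  have hDp : IsPGroup 5 D := IsPGroup.of_card (n := 1) (by rw [hD5, pow_one])
  have hmod := cardFX D hDp
  have hle18 : (FX D).card ≤ 18 := by rw [← hXf]; exact Finset.card_le_univ _
  -- faithful
  have hNt : N ≠ ⊤ := hcoat.1
  have hinj : Function.Injective (MulAction.toPermHom G X) := by
    rw [← MonoidHom.ker_eq_bot_iff, ← Subgroup.normalCore_eq_ker]
    rcases IsSimpleGroup.eq_bot_or_eq_top_of_normal N.normalCore inferInstance with h | h
    · exact h
    · exact absurd (top_le_iff.1 (h ▸ N.normalCore_le)) hNt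
  obtain ⟨⟨g, hgD⟩, hg⟩ := exists_prime_orderOf_dvd_card' (G := D) 5 (by rw [hD5])
  have hg5 : orderOf g = 5 := by rw [← hg, Subgroup.orderOf_mk]
  have hgz : Subgroup.zpowers g = D := by
    apply Subgroup.eq_of_le_of_card_ge (by rwa [Subgroup.zpowers_le])
    rw [Nat.card_zpowers, hg5, hD5]
  have hcard13 : (FX D).card = 13 := by
    by_contra hne
    have h18 : (FX D).card = 18 := by omega
    have huniv : FX D = Finset.univ := by
      rw [← Finset.card_eq_iff_eq_univ, h18, hXf]
    have : MulAction.toPermHom G X g = MulAction.toPermHom G X 1 := by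
      rw [map_one]
      ext x
      have : x ∈ FX D := by rw [huniv]; exact Finset.mem_univ x
      rw [memFX] at this
      exact this g hgD
    have h1 := hinj this
    rw [h1, orderOf_one] at hg5
    norm_num at hg5
  have hsupp : (MulAction.toPermHom G X g).support.card = 5 := by
    have : (MulAction.toPermHom G X g).support = (FX D)ᶜ := by
      ext x
      rw [Equiv.Perm.mem_support, Finset.mem_compl, memFX, not_iff_not]
      constructor
      · intro h y hy
        rw [← hgz] at hy
        obtain ⟨k, rfl⟩ := Subgroup.mem_zpowers_iff.1 hy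
        have h1 : g ∈ stabilizer G x := h
        exact zpow_mem h1 k
      · intro h
        exact h g hgD
    rw [this, Finset.card_compl, hXf, hcard13]
  have hord : orderOf (MulAction.toPermHom G X g) = 5 := by
    rw [orderOf_injective _ hinj, hg5]
  have hcyc : (MulAction.toPermHom G X g).IsCycle := by
    apply Equiv.Perm.isCycle_of_prime_order
    · rw [hord]; norm_num
    · rw [hord, hsupp]; norm_num
  have hnt : Nontrivial X := by
    rw [← Fintype.one_lt_card_iff_nontrivial, hXf]; norm_num
  have hprim : IsPreprimitive G X := by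
    rw [← isCoatom_stabilizer_iff_preprimitive G base]
    have : stabilizer G base = N := MulAction.stabilizer_quotient N
    rw [this]; exact hcoat
  have hprim2 : IsPreprimitive (MulAction.toPermHom G X).range X := by
    let f : X →ₑ[(MulAction.toPermHom G X).rangeRestrict] X :=
      { toFun := id
        map_smul' := fun g x => rfl }
    exact IsPreprimitive.of_surjective (f := f) Function.surjective_id
  have hj := JordanCycle.jordan (MulAction.toPermHom G X).range hprim2 (p := 5) (by norm_num) (by rw [hXf]; norm_num)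
    hcyc hsupp ⟨g, rfl⟩
  have h1 := Subgroup.card_dvd_of_le hj
  have h2 : Nat.card (MulAction.toPermHom G X).range = 5400 := by
    rw [← hcard]
    exact Nat.card_congr (MonoidHom.ofInjective hinj).symm.toEquiv
  rw [h2] at h1
  have h3 := two_mul_nat_card_alternatingGroup (α := X)
  rw [Nat.card_perm, hXc] at h3
  have h4 := Nat.le_of_dvd (by norm_num) h1
  have h5 : (18).factorial = 6402373705728000 := by decide +kernel
  omega

variable {G : Type*} [Group G] [Finite G] [IsSimpleGroup G]

theorem main (hG : ¬ IsMulCommutative G) (h : Nat.card G = 5400) : False := by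
  classical
  have h' : Nat.card G = 5 ^ 2 * 216 := by rw [h]; norm_num
  have hn := nsyl_mem h' (by norm_num)
  rw [show (Nat.divisors 216).filter (fun d => d % 5 = 1) = {1, 6, 36, 216} by decide +kernel] at hn
  simp only [Finset.mem_insert, Finset.mem_singleton] at hn
  obtain ⟨P, R, hPR, hD, hPN, hRN, hNt, t, d, hNc, ht, hd, hd5, hd1⟩ := exists_pair hG h' (by norm_num) (by norm_num) (by
    have h1 := nsyl_ne_one hG (p := 5) (by rw [h]; norm_num)
    intro h2
    rcases hn with h3 | h3 | h3 | h3
    · exact h1 h3
    · rw [h3] at h2; revert h2; decide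
    · rw [h3] at h2; revert h2; decide
    · rw [h3] at h2; revert h2; decide)
  set D : Subgroup G := (P : Subgroup G) ⊓ (R : Subgroup G) with hDdef
  set N := normalizer (D : Set G) with hNdef
  have hPc : ∀ Q : Sylow 5 G, Nat.card (Q : Subgroup G) = 5 ^ 2 := fun Q => sylow_card_of h' (by norm_num) Q
  -- the index
  have hidx := N.card_mul_index
  have hge : ∀ H : Subgroup G, H ≠ ⊤ → 10 ≤ H.index := by
    intro H hH
    by_contra hcon
    push Not at hcon
    have h1 := two_mul_card_dvd_factorial_index hG H hH
    have h2 : H.index.factorial ∣ (9).factorial := Nat.factorial_dvd_factorial (by omega)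
    have h3 := h1.trans h2
    rw [h] at h3
    revert h3; decide +kernel
  have hN10 := hge N hNt
  have ht0 : 0 < t := Nat.pos_of_dvd_of_pos ht (by norm_num)
  have htidx : t * N.index = 216 := by
    rw [hNc, h] at hidx
    have : 5 ^ 2 * (t * N.index) = 5 ^ 2 * 216 := by rw [← mul_assoc, hidx]; norm_num
    omega
  have ht21 : t ≤ 21 := by nlinarith
  have hdle := Nat.le_of_dvd ht0 hd
  have htcases : t = 6 ∨ t = 12 ∨ t = 18 := by
    have hdd : ∃ k, t = d * k := hd
    obtain ⟨k, hk⟩ := hdd
    have hd6 : 6 ≤ d := by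
      have := Nat.mod_add_div d 5
      rw [hd5] at this
      have h5 : d / 5 ≠ 0 := by intro h0; rw [h0] at this; omega
      omega
    have hcheck : ∀ t < 22, t ∣ 216 → (∃ d < 22, d ∣ t ∧ d % 5 = 1 ∧ d ≠ 1) → t = 6 ∨ t = 12 ∨ t = 18 := by decide +kernel
    exact hcheck t (by omega) ht ⟨d, by omega, hd, hd5, hd1⟩
  have hne5 : P.subtype hPN ≠ R.subtype hRN := by
    intro h1; exact hPR (Sylow.subtype_injective h1)
  have ht12 : t = 12 := by
    rcases htcases with h1 | h1 | h1
    · exfalso; exact hne5 (uniq5 (Or.inl (by rw [hNc, h1]; norm_num)) _ _)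
    · exact h1
    · exfalso; exact hne5 (uniq5 (Or.inr (by rw [hNc, h1]; norm_num)) _ _)
  subst ht12
  have hidx18 : N.index = 18 := by omega
  have hN300 : Nat.card N = 5 ^ 2 * 12 := hNc
  have hn6 : Nat.card (Sylow 5 N) = 6 := by
    have h1 := nsyl_mem hN300 (by norm_num)
    rw [show (Nat.divisors 12).filter (fun d => d % 5 = 1) = {1, 6} by decide +kernel] at h1
    simp only [Finset.mem_insert, Finset.mem_singleton] at h1
    rcases h1 with h1 | h1
    · exfalso
      have hsub : Subsingleton (Sylow 5 N) := (Nat.card_eq_one_iff_unique.1 h1).1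
      exact hne5 (Subsingleton.elim _ _)
    · exact h1
  -- Sylow subgroups of `G` in `N`
  have hDP : D ≤ (P : Subgroup G) := inf_le_left
  have hD5 : Nat.card D = 5 := by rw [hD]; norm_num
  have hDpg : IsPGroup 5 D := IsPGroup.of_card (n := 1) (by rw [hD5, pow_one])
  -- normal 5-subgroups are contained in Sylow subgroups lying in the normalizer
  have hcont : ∀ (E : Subgroup G), IsPGroup 5 E → ∀ Q : Sylow 5 G, (Q : Subgroup G) ≤ normalizer (E : Set G) → E ≤ (Q : Subgroup G) := by
    intro E hE Q hQ
    have h1 : IsPGroup 5 ((Q : Subgroup G) ⊔ E : Subgroup G) := IsPGroup.to_sup_of_normal_right' Q.2 hE hQ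
    have h2 := Q.is_maximal' h1 le_sup_left
    rw [← h2]; exact le_sup_right
  have hTc : ∀ T : Sylow 5 N, Nat.card ((T : Subgroup N).map N.subtype) = 5 ^ 2 := by
    intro T
    rw [Subgroup.card_map_of_injective N.subtype_injective]
    exact sylow_card_of hN300 (by norm_num) T
  have hQ : ∀ T : Sylow 5 N, ∃ Q : Sylow 5 G, (Q : Subgroup G) = (T : Subgroup N).map N.subtype := by
    intro T
    refine ⟨Sylow.ofCard ((T : Subgroup N).map N.subtype) ?_, rfl⟩
    rw [hTc T, ← hPc P, P.card_eq_multiplicity]
  have hcontT : ∀ E : Subgroup G, Nat.card E = 5 → ∀ T : Sylow 5 N,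
      ((T : Subgroup N).map N.subtype) ≤ normalizer (E : Set G) → E ≤ (T : Subgroup N).map N.subtype := by
    intro E hE T hT
    obtain ⟨Q, hQT⟩ := hQ T
    rw [← hQT] at hT ⊢
    exact hcont E (IsPGroup.of_card (n := 1) (by rw [hE, pow_one])) Q hT
  have hDT : ∀ T : Sylow 5 N, D ≤ (T : Subgroup N).map N.subtype := fun T =>
    hcontT D hD5 T (Subgroup.map_subtype_le _)
  refine fin18 h D N hD5 hNdef hidx18 hn6 hcontT hDT ?_ ?_
  · intro T T' hTT
    have h1 : Nat.card ((T : Subgroup N).map N.subtype ⊓ (T' : Subgroup N).map N.subtype : Subgroup G) ∣ 5 ^ 2 := by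
      rw [← hTc T]; exact Subgroup.card_dvd_of_le inf_le_left
    have h2 : Nat.card ((T : Subgroup N).map N.subtype ⊓ (T' : Subgroup N).map N.subtype : Subgroup G) ≠ 5 ^ 2 := by
      intro h3
      apply hTT
      have h4 : (T : Subgroup N).map N.subtype ⊓ (T' : Subgroup N).map N.subtype = (T : Subgroup N).map N.subtype :=
        Subgroup.eq_of_le_of_card_ge inf_le_left (by rw [h3, hTc])
      have h5 : (T : Subgroup N).map N.subtype ⊓ (T' : Subgroup N).map N.subtype = (T' : Subgroup N).map N.subtype :=
        Subgroup.eq_of_le_of_card_ge inf_le_right (by rw [h3, hTc])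
      exact Sylow.ext (Subgroup.map_injective N.subtype_injective (h4.symm.trans h5))
    have h3 : Nat.card ((T : Subgroup N).map N.subtype ⊓ (T' : Subgroup N).map N.subtype : Subgroup G) ≤ 5 := by
      obtain ⟨k, hk, hk'⟩ := (Nat.dvd_prime_pow (by norm_num : Nat.Prime 5)).1 h1
      rw [hk']
      interval_cases k
      · norm_num
      · norm_num
      · exact absurd hk' h2
    have h4 : D = (T : Subgroup N).map N.subtype ⊓ (T' : Subgroup N).map N.subtype :=
      Subgroup.eq_of_le_of_card_ge (le_inf (hDT T) (hDT T')) (by rw [hD5]; exact h3)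
    exact h4.symm.le
  · refine ⟨hNt, fun K hK => ?_⟩
    by_contra hKt
    have h1 := hge K hKt
    have h2 := Subgroup.relIndex_mul_index hK.le
    rw [hidx18] at h2
    have h3 : N.relIndex K ≠ 1 := by
      intro h4
      rw [Subgroup.relIndex_eq_one] at h4
      exact hK.not_ge h4
    have h4 : N.relIndex K ≠ 0 := by
      intro h4; rw [h4, zero_mul] at h2; norm_num at h2
    have h5 : 2 ≤ N.relIndex K := by omega
    nlinarith

end Cfsg.Agent.Lib.Ord5400
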