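import Cfsg.Agent.Lib.SmallSieve
import Cfsg.Agent.Lib.BrauerFowler

/-!
# A numerical sieve for the orders of non-abelian finite simple groups in 3641 .. 6232 (helper54)

The same tests as `Lib/SmallSieve` (helper9), organised for speed.
-/

set_option autoImplicit false
set_option linter.all false

namespace Cfsg.Agent.Lib.Sieve6232

open Subgroup Cfsg.Agent.Lib.SmallSimple Cfsg.Agent.Lib.SmallSieve

variable {G : Type*} [Group G] [Finite G]

/-- the divisors of `m < 79 ^ 2` -/
def divs (m : ℕ) : List ℕ :=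
  (List.range 79).flatMap fun i => if m % (i + 1) == 0 then [i + 1, m / (i + 1)] else []

theorem mem_divs {m d : ℕ} (hm : m < 6241) (hm0 : 0 < m) (hd : d ∣ m) : d ∈ divs m := by
  obtain ⟨e, rfl⟩ := hd
  have hd0 : 0 < d := Nat.pos_of_mul_pos_right hm0 |> fun h => by
    rcases Nat.eq_zero_or_pos d with h' | h'
    · subst h'; simp at hm0
    · exact h'
  have he0 : 0 < e := by
    rcases Nat.eq_zero_or_pos e with h' | h'
    · subst h'; simp at hm0
    · exact h'
  rw [divs, List.mem_flatMap]
  rcases Nat.lt_or_ge d 80 with h | h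
  · refine ⟨d - 1, List.mem_range.2 (by omega), ?_⟩
    rw [Nat.sub_add_cancel hd0, if_pos (by simp)]
    simp
  · have h' : e < 80 := by
      by_contra hc
      push Not at hc
      have := Nat.mul_le_mul h hc
      omega
    refine ⟨e - 1, List.mem_range.2 (by omega), ?_⟩
    rw [Nat.sub_add_cancel he0, if_pos (by simp), Nat.mul_div_cancel _ he0]
    simp

/-- `2n ∣ d!`, tested only for `d ≤ 60`. -/
def fk (n d : ℕ) : Bool := (60 < d) || (d.factorial % (2 * n) == 0)

/-- possible numbers of Sylow `p`-subgroups for a simple group of order `n = p ^ k * m`. -/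
def surv (n p k m : ℕ) : Bool :=
  (divs m).any fun d =>
    d != 1 && d % p == 1 && fk n d &&
      (k != 1 || (Nat.gcd (n / d / p) (p - 1) != 1 &&
        (p == 2 || d != p + 1 || (p * (p - 1)) % (2 * (n / d)) == 0))) &&
      (k == 1 || d % (p * p) == 1 ||
        (divs m).any fun t => fk n (m / t) && (divs t).any fun x => x != 1 && x % p == 1)

theorem fk_of [IsSimpleGroup G] (hG : ¬ IsMulCommutative G) (H : Subgroup G) (hH : H ≠ ⊤) :
    fk (Nat.card G) H.index = true := by
  rw [fk, Bool.or_eq_true]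
  by_cases h : 60 < H.index
  · left; simpa using h
  · right
    rw [beq_iff_eq]
    exact Nat.mod_eq_zero_of_dvd (two_mul_card_dvd_factorial_index hG H hH)

theorem surv_of [IsSimpleGroup G] (hG : ¬ IsMulCommutative G) {n p k m : ℕ} [hp : Fact p.Prime]
    (hn : Nat.card G = n) (h : n = p ^ k * m) (hm : ¬ p ∣ m) (hk : k ≠ 0) (hlt : n < 6241) : surv n p k m = true := by
  subst hn
  have hpp := hp.out
  have hm0 : 0 < m := Nat.pos_of_ne_zero (by rintro rfl; exact hm (dvd_zero p))
  have hmlt : m < 6241 := by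
    refine lt_of_le_of_lt ?_ hlt
    rw [h]
    exact Nat.le_mul_of_pos_left m (pow_pos hpp.pos k)
  have hdvd : p ∣ Nat.card G := by rw [h]; exact Dvd.dvd.mul_right (dvd_pow_self p hk) m
  obtain ⟨P⟩ : Nonempty (Sylow p G) := inferInstance
  rw [surv, List.any_eq_true]
  refine ⟨Nat.card (Sylow p G), mem_divs hmlt hm0 (nsyl_dvd h hm), ?_⟩
  have hidx : Nat.card (Sylow p G) = (normalizer ((P : Subgroup G) : Set G)).index := P.card_eq_index_normalizer
  have hNt : normalizer ((P : Subgroup G) : Set G) ≠ ⊤ := by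
    intro ht
    rw [ht, index_top] at hidx
    exact nsyl_ne_one hG hdvd hidx
  have hNc : Nat.card G / Nat.card (Sylow p G) = Nat.card (normalizer ((P : Subgroup G) : Set G)) := by
    rw [← card_normalizer_mul_nsyl P]
    exact Nat.mul_div_cancel _ Nat.card_pos
  rw [Bool.and_eq_true, Bool.and_eq_true, Bool.and_eq_true, Bool.and_eq_true]
  refine ⟨⟨⟨⟨?_, ?_⟩, ?_⟩, ?_⟩, ?_⟩
  · rw [bne_iff_ne]
    exact nsyl_ne_one hG hdvd
  · rw [beq_iff_eq]
    exact nsyl_mod p G
  · rw [hidx]; exact fk_of hG _ hNt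
  · by_cases hk1 : k = 1
    · rw [Bool.or_eq_true]
      right
      subst hk1
      have hPc : Nat.card (P : Subgroup G) = p := by
        have := sylow_card_of h hm P
        rwa [pow_one] at this
      obtain ⟨e, c, hN, hC, he1, he2⟩ := nc_data hG P hPc
      rw [Bool.and_eq_true]
      refine ⟨?_, ?_⟩
      · rw [hNc, hN, bne_iff_ne, show e * (p * c) = p * (e * c) by ring, Nat.mul_div_cancel_left _ hpp.pos]
        intro hg
        apply he2
        have : e ∣ Nat.gcd (e * c) (p - 1) := Nat.dvd_gcd (Dvd.intro _ rfl) he1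
        rw [hg] at this
        exact Nat.dvd_one.1 this
      · by_cases hp2 : p = 2
        · rw [Bool.or_eq_true, Bool.or_eq_true]
          left; left; rw [beq_iff_eq]; exact hp2
        by_cases hd : Nat.card (Sylow p G) = p + 1
        · rw [Bool.or_eq_true]
          right
          rw [beq_iff_eq, hNc]
          exact Nat.mod_eq_zero_of_dvd (normalizer_dvd_of_nsyl hG hp2 hd hdvd P)
        · rw [Bool.or_eq_true, Bool.or_eq_true]
          left; right
          rw [bne_iff_ne]; exact hd
    · rw [Bool.or_eq_true]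
      left; rw [bne_iff_ne]; exact hk1
  · by_cases hk1 : k = 1
    · rw [Bool.or_eq_true, Bool.or_eq_true]
      left; left; rw [beq_iff_eq]; exact hk1
    by_cases hd : Nat.card (Sylow p G) % (p * p) = 1
    · rw [Bool.or_eq_true, Bool.or_eq_true]
      left; right; rw [beq_iff_eq]; exact hd
    rw [Bool.or_eq_true]
    right
    have hn' : ¬ Nat.card (Sylow p G) ≡ 1 [MOD p ^ 2] := by
      intro h'
      apply hd
      rw [Nat.ModEq, pow_two] at h'
      rw [h']
      apply Nat.mod_eq_of_lt
      have := hpp.two_le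
      nlinarith
    obtain ⟨P', R', -, -, -, -, hNt', t, d', hNc', htm, hd't, hd'p, hd'1⟩ := exists_pair hG h hm (by omega) hn'
    have ht0 : 0 < t := Nat.pos_of_dvd_of_pos htm hm0
    rw [List.any_eq_true]
    refine ⟨t, mem_divs hmlt hm0 htm, ?_⟩
    rw [Bool.and_eq_true]
    refine ⟨?_, ?_⟩
    · have h2 : m / t = (normalizer (((P' : Subgroup G) ⊓ (R' : Subgroup G) : Subgroup G) : Set G)).index := by
        have h3 := (normalizer (((P' : Subgroup G) ⊓ (R' : Subgroup G) : Subgroup G) : Set G)).card_mul_index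
        rw [hNc'] at h3
        obtain ⟨s, hs⟩ := htm
        rw [h, hs, mul_assoc, Nat.mul_left_cancel_iff (pow_pos hpp.pos k), Nat.mul_left_cancel_iff ht0] at h3
        rw [hs, Nat.mul_div_cancel_left _ ht0, h3]
      rw [h2]
      exact fk_of hG _ hNt'
    · rw [List.any_eq_true]
      refine ⟨d', mem_divs (lt_of_le_of_lt (Nat.le_of_dvd hm0 htm) hmlt) ht0 hd't, ?_⟩
      rw [Bool.and_eq_true, bne_iff_ne, beq_iff_eq]
      exact ⟨hd'1, hd'p⟩

/-- `n` is killed by the prime `p`. -/
def deadAt (n p : ℕ) : Bool :=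
  n % p == 0 && (strip p 12 n).2 % p != 0 && !(surv n p (strip p 12 n).1 (strip p 12 n).2)

def smallPrimes : List ℕ := [73, 71, 67, 61, 59, 53, 47, 43, 41, 37, 31, 29, 23, 19, 17, 13, 11, 7, 5, 3, 2]

theorem prime_of_mem : ∀ p ∈ smallPrimes, p.Prime := by
  intro p hp
  simp only [smallPrimes, List.mem_cons, List.not_mem_nil, or_false] at hp
  rcases hp with rfl | rfl | rfl | rfl | rfl | rfl | rfl | rfl | rfl | rfl | rfl | rfl | rfl | rfl | rfl | rfl | rfl |
    rfl | rfl | rfl | rfl <;> norm_num

def dead (n : ℕ) : Bool := smallPrimes.any (deadAt n)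

theorem not_dead [IsSimpleGroup G] (hG : ¬ IsMulCommutative G) (hlt : Nat.card G < 6241) : dead (Nat.card G) = false := by
  rw [← Bool.not_eq_true]
  intro h
  rw [dead, List.any_eq_true] at h
  obtain ⟨p, hp, h⟩ := h
  have hpp := prime_of_mem p hp
  have : Fact p.Prime := ⟨hpp⟩
  rw [deadAt, Bool.and_eq_true, Bool.and_eq_true, beq_iff_eq, bne_iff_ne, Bool.not_eq_true'] at h
  obtain ⟨⟨h1, h2⟩, h3⟩ := h
  have h4 := surv_of hG rfl (strip_spec p 12 (Nat.card G)) (fun h' => h2 (Nat.mod_eq_zero_of_dvd h')) (by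
    intro h0
    have h5 := strip_spec p 12 (Nat.card G)
    rw [h0, pow_zero, one_mul] at h5
    rw [← h5] at h2
    exact h2 h1) hlt
  rw [h4] at h3
  exact Bool.noConfusion h3

/-- strip all small primes -/
def rest (n : ℕ) : ℕ := smallPrimes.foldl (fun a p => (strip p 12 a).2) n

theorem rest_dvd (n : ℕ) : rest n ∣ n := by
  have key : ∀ (l : List ℕ) (n : ℕ), l.foldl (fun a p => (strip p 12 a).2) n ∣ n := by
    intro l
    induction l with
    | nil => intro n; simp
    | cons p l ih =>
      intro n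
      rw [List.foldl_cons]
      refine (ih _).trans ?_
      exact Dvd.intro_left _ (strip_spec p 12 n).symm
  exact key _ n

/-- `n` has a prime factor at least 79 -/
def big (n : ℕ) : Bool := rest n != 1 && smallPrimes.all fun p => rest n % p != 0

theorem not_big [IsSimpleGroup G] (hG : ¬ IsMulCommutative G) (h : Nat.card G < 6241) : big (Nat.card G) = false := by
  rw [← Bool.not_eq_true]
  intro hb
  rw [big, Bool.and_eq_true, bne_iff_ne, List.all_eq_true] at hb
  obtain ⟨h1, h2⟩ := hb
  obtain ⟨p, hp, hpd⟩ := Nat.exists_prime_and_dvd h1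
  have : Fact p.Prime := ⟨hp⟩
  have h37 : 79 ≤ p := by
    by_contra hlt
    push Not at hlt
    have hmem : p ∈ smallPrimes := by
      interval_cases p <;> revert hp <;> decide
    have := h2 p hmem
    rw [bne_iff_ne] at this
    exact this (Nat.mod_eq_zero_of_dvd hpd)
  have hpG : p ∣ Nat.card G := hpd.trans (rest_dvd _)
  obtain ⟨P⟩ : Nonempty (Sylow p G) := inferInstance
  have hmod := nsyl_mod p G
  have hne := nsyl_ne_one hG hpG
  have hdvd : Nat.card (Sylow p G) * p ∣ Nat.card G := by
    rw [← card_normalizer_mul_nsyl P, mul_comm]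
    apply Nat.mul_dvd_mul_right
    have h3 : p ∣ Nat.card (P : Subgroup G) := P.dvd_card_of_dvd_card hpG
    exact h3.trans (card_dvd_of_le le_normalizer)
  have hle := Nat.le_of_dvd Nat.card_pos hdvd
  have h4 := Nat.mod_add_div (Nat.card (Sylow p G)) p
  rw [hmod] at h4
  have h5 : Nat.card (Sylow p G) / p ≠ 0 := by
    intro h; rw [h] at h4; omega
  have h6 : 1 ≤ Nat.card (Sylow p G) / p := Nat.one_le_iff_ne_zero.2 h5
  have h7 : 80 ≤ Nat.card (Sylow p G) := by nlinarith
  have h8 : 80 * 79 ≤ Nat.card (Sylow p G) * p := Nat.mul_le_mul h7 h37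
  omega

/-- orders in 3641 .. 6232 surviving the sieve -/
def survivors : List ℕ := [3648, 3696, 3744, 3780, 3960, 4032, 4080, 4160, 4200, 4212, 4320, 4400, 4536, 4620, 4680, 4760,
  4800, 4928, 4960, 5040, 5104, 5148, 5184, 5200, 5236, 5376, 5400, 5460, 5472, 5600, 5616, 5724, 5760, 5852, 5880,
  5940, 6048, 6072, 6160]

def checkAll : Bool := (List.range 2592).all fun i =>
  (i + 3641) % 4 == 2 || survivors.contains (i + 3641) || big (i + 3641) || dead (i + 3641)

theorem checkAll_true : checkAll = true := by decide +kernel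

/-- The sieve. -/
theorem mem_survivors [IsSimpleGroup G] (hG : ¬ IsMulCommutative G) (h1 : 3640 < Nat.card G) (h : Nat.card G ≤ 6232) :
    Nat.card G ∈ survivors := by
  have h2 := checkAll_true
  rw [checkAll, List.all_eq_true] at h2
  have h3 := h2 (Nat.card G - 3641) (List.mem_range.2 (by omega))
  rw [Nat.sub_add_cancel (by omega : 3641 ≤ Nat.card G), not_dead hG (by omega), not_big hG (by omega), Bool.or_false,
    Bool.or_false, Bool.or_eq_true, beq_iff_eq, List.contains_iff_mem] at h3
  rcases h3 with h3 | h3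
  · exfalso
    obtain ⟨K, hK⟩ := BrauerFowler.exists_index_two_of_two_mod_four (G := G) h3
    have hKn : K.Normal := Subgroup.normal_of_index_eq_two hK
    rcases IsSimpleGroup.eq_bot_or_eq_top_of_normal K hKn with h4 | h4
    · rw [h4, index_bot] at hK
      omega
    · rw [h4, index_top] at hK
      omega
  · exact h3

end Cfsg.Agent.Lib.Sieve6232
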