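import Mathlib
import Cfsg.Agent.Lib.A7Fix
import Cfsg.Agent.Lib.CharGalois
import Cfsg.Agent.Lib.CharCentral

/-!
# Characters determined by their degree are integer valued (helper54)
-/

set_option autoImplicit false
set_option linter.all false

namespace Cfsg.Agent.Lib.PBRat

open Cfsg Subgroup Cfsg.Agent.Lib.CharBasic Cfsg.Agent.Lib.A7Fix Cfsg.Agent.Lib.A7Table Cfsg.Agent.Lib.BlockThird
open Cfsg.Agent.Lib.DefOnePrin
open scoped ComplexConjugate

universe u

section

variable {G : Type u} [Group G] [Fintype G]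

theorem int_valued {χ : IrrCharacter G}
    (huniq : ∀ ψ : IrrCharacter G, charDegree (ψ : G → ℂ) = charDegree (χ : G → ℂ) → ψ = χ) :
    ∃ v : G → ℤ, ∀ g, (χ : G → ℂ) g = (v g : ℂ) := by
  have h1 : ∀ g : G, ∃ n : ℤ, (χ : G → ℂ) g = (n : ℂ) := by
    intro g
    obtain ⟨q, hq⟩ := CharGalois.exists_rat_of_pow χ.2.isCharacter g (by
      intro k hk
      have h2 := CharGalois.isIrrCharacter_pow χ.2 hk
      have h3 := huniq ⟨_, h2⟩ (by
        have h4 : (((⟨_, h2⟩ : IrrCharacter G) : G → ℂ)) 1 = (χ : G → ℂ) 1 := by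
          change (χ : G → ℂ) (1 ^ k) = _
          rw [one_pow]
        rw [← BlockDeg.charDegree_cast_irr, ← BlockDeg.charDegree_cast_irr] at h4
        exact_mod_cast h4)
      have h4 := congrArg (fun ψ : IrrCharacter G => (ψ : G → ℂ) g) h3
      exact h4)
    have hint : IsIntegral ℤ ((χ : G → ℂ) g) := by
      obtain ⟨n, ρ, hρ⟩ := χ.2.isCharacter
      rw [← hρ]
      exact CharValues.isIntegral_character ρ g
    exact CharCentral.exists_int_of_isIntegral_rat hint q hq
  choose v hv using h1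
  exact ⟨v, hv⟩

/-- sums over subgroups -/
theorem sums {χ : IrrCharacter G} {v : G → ℤ} (hv : ∀ g, (χ : G → ℂ) g = (v g : ℂ)) (H : Subgroup G) :
    ∃ n n' : ℕ, ∑ x ∈ F H, v x = Nat.card H * n ∧ ∑ x ∈ F H, v x ^ 2 = Nat.card H * n' := by
  classical
  letI : Fintype H := Fintype.ofFinite _
  have hchar : IsCharacter H (fun x : H => (χ : G → ℂ) x) := χ.2.isCharacter.restrict H
  obtain ⟨n, hn⟩ := hchar.classInner_nat (BlockThird.triv H).2.isCharacter
  obtain ⟨n', hn'⟩ := hchar.classInner_nat hchar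
  rw [classInner_def] at hn hn'
  have hH0 : (Nat.card H : ℂ) ≠ 0 := by exact_mod_cast Nat.card_pos.ne'
  refine ⟨n, n', ?_, ?_⟩
  · have h1 : ∑ x : H, (χ : G → ℂ) x = Nat.card H * n := by
      rw [← hn, ← mul_assoc, mul_inv_cancel₀ hH0, one_mul]
      refine Finset.sum_congr rfl fun x _ => ?_
      change _ = _ * conj (1 : ℂ)
      rw [map_one, mul_one]
    have h2 : ((∑ x ∈ F H, v x : ℤ) : ℂ) = ((Nat.card H * n : ℤ) : ℂ) := by
      push_cast
      rw [← h1, Finset.sum_subtype (F H) (p := fun x => x ∈ H) (fun x => mem_F)]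
      exact Finset.sum_congr rfl fun x _ => (hv x).symm
    exact_mod_cast h2
  · have h1 : ∑ x : H, (χ : G → ℂ) x ^ 2 = Nat.card H * n' := by
      rw [← hn', ← mul_assoc, mul_inv_cancel₀ hH0, one_mul]
      refine Finset.sum_congr rfl fun x _ => ?_
      rw [pow_two, hv (x : G), map_intCast]
    have h2 : ((∑ x ∈ F H, v x ^ 2 : ℤ) : ℂ) = ((Nat.card H * n' : ℤ) : ℂ) := by
      push_cast
      rw [← h1, Finset.sum_subtype (F H) (p := fun x => x ∈ H) (fun x => mem_F)]
      exact Finset.sum_congr rfl fun x _ => by rw [hv x]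
    exact_mod_cast h2

/-- values are smaller than the degree -/
theorem abs_lt [IsSimpleGroup G] (hG : ¬ IsMulCommutative G) {χ : IrrCharacter G} (hχ : χ ≠ triv G) {v : G → ℤ}
    (hv : ∀ g, (χ : G → ℂ) g = (v g : ℂ)) {g : G} (hg : g ≠ 1) : |v g| < charDegree (χ : G → ℂ) := by
  have h1 := ColTools.norm_lt hG hχ hg
  rw [deg_eq, hv, Complex.norm_intCast] at h1
  exact_mod_cast h1

theorem val_one {χ : IrrCharacter G} {v : G → ℤ} (hv : ∀ g, (χ : G → ℂ) g = (v g : ℂ)) : v 1 = charDegree (χ : G → ℂ) := by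
  have h1 := hv 1
  rw [← BlockDeg.charDegree_cast_irr] at h1
  exact_mod_cast h1.symm

/-- powers prime to the order of the group -/
theorem val_pow {χ : IrrCharacter G}
    (huniq : ∀ ψ : IrrCharacter G, charDegree (ψ : G → ℂ) = charDegree (χ : G → ℂ) → ψ = χ) {v : G → ℤ}
    (hv : ∀ g, (χ : G → ℂ) g = (v g : ℂ)) {k : ℕ} (hk : k.Coprime (Nat.card G)) (g : G) : v (g ^ k) = v g := by
  have h2 := CharGalois.isIrrCharacter_pow χ.2 hk
  have h3 := huniq ⟨_, h2⟩ (by
    have h4 : (((⟨_, h2⟩ : IrrCharacter G) : G → ℂ)) 1 = (χ : G → ℂ) 1 := by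
      change (χ : G → ℂ) (1 ^ k) = _
      rw [one_pow]
    rw [← BlockDeg.charDegree_cast_irr, ← BlockDeg.charDegree_cast_irr] at h4
    exact_mod_cast h4)
  have h4 := congrArg (fun ψ : IrrCharacter G => (ψ : G → ℂ) g) h3
  have h5 : (χ : G → ℂ) (g ^ k) = (χ : G → ℂ) g := h4
  rw [hv, hv] at h5
  exact_mod_cast h5

open scoped Classical in
/-- the powers of an element, as a finset -/
theorem F_zpowers (g : G) : F (zpowers g) = (Finset.range (orderOf g)).image (fun i => g ^ i) := by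
  ext x
  rw [mem_F, Finset.mem_image]
  constructor
  · intro hx
    obtain ⟨i, hi⟩ := (mem_zpowers_iff_mem_range_orderOf (x := g) (y := x)).1 hx |> Finset.mem_image.1
    exact ⟨i, hi.1, hi.2⟩
  · rintro ⟨i, -, rfl⟩
    exact pow_mem (mem_zpowers g) i

theorem sum_zpowers {M : Type*} [AddCommMonoid M] (g : G) (f : G → M) :
    ∑ x ∈ F (zpowers g), f x = ∑ i ∈ Finset.range (orderOf g), f (g ^ i) := by
  classical
  rw [F_zpowers, Finset.sum_image]
  intro i hi j hj h
  have h1 := pow_eq_pow_iff_modEq.1 h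
  exact Nat.ModEq.eq_of_lt_of_lt h1 (Finset.mem_range.1 hi) (Finset.mem_range.1 hj)

end

end Cfsg.Agent.Lib.PBRat
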