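import Mathlib
import Cfsg.Agent.Lib.PBKill
import Cfsg.Agent.Lib.PBRat

/-!
# No simple group of order 4320 (helper54)
-/

set_option autoImplicit false
set_option linter.all false

namespace Cfsg.Agent.Lib.Ord4320

open Cfsg Subgroup Cfsg.Agent.Lib.DefOneLoc Cfsg.Agent.Lib.DefOneOrd Cfsg.Agent.Lib.CharBasic
open Cfsg.Agent.Lib.DefOneGram Cfsg.Agent.Lib.DefOne Cfsg.Agent.Lib.BRB0 Cfsg.Agent.Lib.BRCore
open Cfsg.Agent.Lib.PBData Cfsg.Agent.Lib.DefOnePrin Cfsg.Agent.Lib.BlockThird Cfsg.Agent.Lib.SmallSimple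
open Cfsg.Agent.Lib.PBNum Cfsg.Agent.Lib.PBExt Cfsg.Agent.Lib.PBStruct Cfsg.Agent.Lib.PBFull
open Cfsg.Agent.Lib.PBLocal Cfsg.Agent.Lib.PBFchk Cfsg.Agent.Lib.PBKill Cfsg.Agent.Lib.PBRat Cfsg.Agent.Lib.A7Fix
open scoped ComplexConjugate

universe u

def o4320 : List (ℕ × ℕ × List ℤ) := [(216, 4, [-4, -4, -9]), (216, 4, [-4, -4, 16]), (216, 4, [-4, 6, 6]), (216, 4, [-4, 6, -9]),
  (216, 4, [-4, -9, 16]), (216, 4, [-4, -9, -24]), (216, 4, [-4, -9, 36]), (216, 4, [-4, -24, 36]), (216, 4, [6, 6, -9]),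
  (216, 4, [-9, 16, 16]), (216, 4, [-9, 16, -24]), (216, 4, [-9, -24, 36]), (216, 4, [16, 16, -24])]

theorem opts4320 : optsL (fun _ => true) 5 864 65 = o4320 := by decide +kernel

theorem fail4320 : (o4320.all fun t => t.1 == 216 && (t.2.1 == 4 && (lfail 4320 5 144 [32, 96, 160, 288, 480, 864, 1440, 4320] t.2.2 ||
    [[-4, -9, -24], [-4, -9, 36], [-4, -24, 36], [-9, -24, 36]].contains t.2.2))) = true := by decide +kernel

variable {G : Type u} [Group G] [Fintype G] [IsSimpleGroup G]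

/-- the character of degree four -/
theorem exists_four (hG : ¬ IsMulCommutative G) (h : Nat.card G = 4320) : ∃ χ : IrrCharacter G,
    charDegree (χ : G → ℂ) = 4 ∧ ∀ ψ : IrrCharacter G, charDegree (ψ : G → ℂ) = 4 → ψ = χ := by
  classical
  haveI : Fact (Nat.Prime 5) := ⟨by norm_num⟩
  obtain ⟨Q⟩ : Nonempty (Sylow 5 G) := inferInstance
  have hQ : Nat.card Q = 5 := (SylEven.data hG (p := 5) (M := 864) (by rw [h]) (by norm_num) Q).1
  obtain ⟨D, i, ⟨B⟩⟩ := exists_PBE Q hQ
  obtain ⟨-, e, c, l, hN, hC, he, he1, hecn, hmem, hl⟩ := dataL hG (M := 864) 65 (fun _ => true) (by rw [h])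
    (by norm_num) (by norm_num) B.toPB (fun _ _ => rfl) (by decide +kernel)
  rw [opts4320] at hmem
  have hf := fail4320
  rw [List.all_eq_true] at hf
  have hf1 := hf _ hmem
  simp only [Bool.and_eq_true, beq_iff_eq, Bool.or_eq_true] at hf1
  obtain ⟨hn, he4, hf2⟩ := hf1
  subst he4
  rw [hn] at hecn
  have hc : c = 1 := by omega
  subst hc
  rw [mul_one] at hC
  have hlist : l ∈ [[-4, -9, -24], [-4, -9, 36], [-4, -24, 36], [-9, -24, 36]] := by
    rcases hf2 with hf2 | hf2
    · exfalso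
      obtain ⟨T, t, ht2, htT, hTC⟩ := central_invol (G := G) (by rw [h]; norm_num)
      rw [lfail, Bool.and_eq_true, List.all_eq_true, Bool.not_eq_true'] at hf2
      have hT32 : Nat.card (T : Subgroup G) = 32 := by
        have h1 := T.card_eq_multiplicity
        rw [h] at h1
        have h2 : (4320 : ℕ).factorization 2 = 5 := by
          rw [show (4320 : ℕ) = 2 ^ 5 * 135 by norm_num, Nat.factorization_mul (by norm_num) (by norm_num),
            Nat.Prime.factorization_pow (by norm_num)]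
          simp [Nat.factorization_eq_zero_of_not_dvd]
        rw [h2] at h1
        exact h1
      have hmc : Nat.card (centralizer ({t} : Set G)) ∈ [32, 96, 160, 288, 480, 864, 1440, 4320] := by
        apply mem_cs (N := 4320) (m := 32) (by decide +kernel) (by norm_num) (by norm_num)
        · rw [← h]; exact Subgroup.card_subgroup_dvd_card _
        · rw [← hT32]; exact hTC
      have h5 := fchk hG (by norm_num) B.toPB hC (l := (-(1 + l.sum)) :: l) (by rw [full_eq _ hl]; rfl) ht2 144 (by norm_num)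
        (fun d hd => Int.dvd_of_emod_eq_zero (by simpa using hf2.1 d hd)) true _ hmc (by intro h; exact absurd h (by simp))
      rw [h, hf2.2] at h5
      exact absurd h5 (by simp)
    · simpa using hf2
  have hfull : full B.toPB = (-4) ::ₘ (-9) ::ₘ (-24) ::ₘ 36 ::ₘ 0 := by
    rw [full_eq _ hl]
    simp only [List.mem_cons, List.not_mem_nil, or_false] at hlist
    rcases hlist with rfl | rfl | rfl | rfl <;> decide
  rw [full] at hfull
  obtain ⟨c4, c9, c24, c36, hW, h4, h9, h24, h36⟩ := ext4 hfull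
  obtain ⟨h4a, -⟩ := sigma_of _ h4 (by norm_num)
  obtain ⟨h9a, -⟩ := sigma_of _ h9 (by norm_num)
  obtain ⟨h24a, -⟩ := sigma_of _ h24 (by norm_num)
  obtain ⟨h36a, -⟩ := sigma_of _ h36 (by norm_num)
  have hE5 : B.E = {B.η} := by
    have h1 := B.cardE
    rw [tau_eq (e := 4) (c := 1) (by rw [hN]) (by rw [hC])] at h1
    norm_num at h1
    obtain ⟨x, hx⟩ := Finset.card_eq_one.1 h1
    have h2 := B.ηE
    rw [hx, Finset.mem_singleton] at h2
    rw [hx, h2]
  refine ⟨c4, h4a, ?_⟩
  intro ψ hψ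
  have hm : ψ ∈ B.η ::ₘ B.X.val := by
    rw [Multiset.mem_cons]
    rcases B.all (hinj_of hC) ψ (by rw [hψ]; norm_num) with h1 | h1 | h1
    · rw [h1, deg_triv] at hψ; norm_num at hψ
    · exact Or.inr h1
    · rw [hE5, Finset.mem_singleton] at h1
      exact Or.inl h1
  rw [hW] at hm
  simp only [Multiset.mem_cons, Multiset.notMem_zero, or_false] at hm
  rcases hm with h1 | h1 | h1 | h1
  · exact h1
  · rw [h1, h9a] at hψ; norm_num at hψ
  · rw [h1, h24a] at hψ; norm_num at hψ
  · rw [h1, h36a] at hψ; norm_num at hψ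

theorem main (h : Nat.card G = 4320) : False := by
  classical
  have hG : ¬ IsMulCommutative G := not_comm (by rw [h]; norm_num)
  obtain ⟨χ, hd, huniq'⟩ := exists_four hG h
  have huniq : ∀ ψ : IrrCharacter G, charDegree (ψ : G → ℂ) = charDegree (χ : G → ℂ) → ψ = χ := by
    intro ψ hψ; exact huniq' ψ (hψ.trans hd)
  obtain ⟨v, hv⟩ := int_valued huniq
  have hne : χ ≠ triv G := A7Table.ne_triv_of hd (by norm_num)
  have hv1 : v 1 = 4 := by rw [val_one hv, hd]; norm_num
  haveI : Fact (Nat.Prime 3) := ⟨by norm_num⟩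
  obtain ⟨S⟩ : Nonempty (Sylow 3 G) := inferInstance
  have hS : Nat.card (S : Subgroup G) = 27 := by
    have h1 := S.card_eq_multiplicity
    rw [h] at h1
    have h2 : (4320 : ℕ).factorization 3 = 3 := by
      rw [show (4320 : ℕ) = 3 ^ 3 * 160 by norm_num, Nat.factorization_mul (by norm_num) (by norm_num),
        Nat.Prime.factorization_pow (by norm_num)]
      simp [Nat.factorization_eq_zero_of_not_dvd]
    rw [h2] at h1
    exact h1
  have hcop : ∀ k : ℕ, k.Coprime 30 → k.Coprime (Nat.card G) := by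
    intro k hk
    rw [h, show 4320 = 2 ^ 5 * 3 ^ 3 * 5 by norm_num]
    have h2 : k.Coprime 2 := Nat.Coprime.coprime_dvd_right (by norm_num) hk
    have h3 : k.Coprime 3 := Nat.Coprime.coprime_dvd_right (by norm_num) hk
    have h5 : k.Coprime 5 := Nat.Coprime.coprime_dvd_right (by norm_num) hk
    exact Nat.Coprime.mul_right (Nat.Coprime.mul_right (Nat.Coprime.pow_right _ h2) (Nat.Coprime.pow_right _ h3)) h5
  have hlt : ∀ g : G, g ≠ 1 → v g < 4 ∧ -4 < v g := by
    intro g hg
    have h1 := abs_lt hG hne hv hg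
    rw [hd] at h1
    have h2 := abs_lt.1 h1
    constructor
    · exact_mod_cast h2.2
    · exact_mod_cast h2.1
  -- elements of order three
  have h3 : ∀ g : G, orderOf g = 3 → v g = 1 ∨ v g = -2 := by
    intro g hg
    obtain ⟨n, n', e1, e2⟩ := sums hv (zpowers g)
    rw [sum_zpowers, Nat.card_zpowers, hg] at e1
    simp only [Finset.sum_range_succ, Finset.sum_range_zero, pow_zero, pow_one, zero_add, hv1] at e1
    have e3 : v (g ^ 2) = v g := by
      have h4 := val_pow huniq hv (hcop 11 (by norm_num)) g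
      have h5 : g ^ 11 = g ^ 2 := by
        rw [show (11 : ℕ) = 3 * 3 + 2 by norm_num, pow_add, pow_mul, ← hg, pow_orderOf_eq_one, one_pow, one_mul]
      rw [h5] at h4; exact h4
    rw [e3] at e1
    have hg1 : g ≠ 1 := by rintro rfl; rw [orderOf_one] at hg; norm_num at hg
    obtain ⟨h5, h6⟩ := hlt g hg1
    omega
  -- no elements of order nine
  have h9 : ∀ g : G, orderOf g ≠ 9 := by
    intro g hg
    obtain ⟨n, n', e1, e2⟩ := sums hv (zpowers g)
    rw [sum_zpowers, Nat.card_zpowers, hg] at e1 e2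
    simp only [Finset.sum_range_succ, Finset.sum_range_zero, pow_zero, pow_one, zero_add, hv1] at e1 e2
    have hp : ∀ a b : ℕ, b = 9 * (b / 9) + a → b.Coprime 30 → v (g ^ a) = v g := by
      intro a b hab hb
      have h4 := val_pow huniq hv (hcop b hb) g
      have h5 : g ^ b = g ^ a := by
        rw [hab, pow_add, pow_mul]
        conv_lhs => rw [show g ^ 9 = 1 by rw [← hg, pow_orderOf_eq_one]]
        rw [one_pow, one_mul]
      rw [h5] at h4; exact h4
    have p2 := hp 2 11 (by norm_num) (by norm_num)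
    have p4 := hp 4 13 (by norm_num) (by norm_num)
    have p5 := hp 5 23 (by norm_num) (by norm_num)
    have p7 := hp 7 7 (by norm_num) (by norm_num)
    have p8 := hp 8 17 (by norm_num) (by norm_num)
    have hg3 : orderOf (g ^ 3) = 3 := by rw [orderOf_pow' g (by norm_num), hg]; norm_num
    have p6 : v (g ^ 6) = v (g ^ 3) := by
      have h4 := val_pow huniq hv (hcop 11 (by norm_num)) (g ^ 3)
      have h5 : (g ^ 3) ^ 11 = g ^ 6 := by
        rw [← pow_mul, show (3 * 11 : ℕ) = 9 * 3 + 6 by norm_num, pow_add, pow_mul, ← hg, pow_orderOf_eq_one, one_pow, one_mul]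
      rw [h5] at h4; exact h4
    rw [p2, p4, p5, p7, p8, p6] at e1 e2
    have hg1 : g ≠ 1 := by rintro rfl; rw [orderOf_one] at hg; norm_num at hg
    obtain ⟨h5, h6⟩ := hlt g hg1
    rcases h3 _ hg3 with h7 | h7 <;> rw [h7] at e1 e2
    · have : v g = -3 ∨ v g = -2 ∨ v g = -1 ∨ v g = 0 ∨ v g = 1 ∨ v g = 2 ∨ v g = 3 := by omega
      rcases this with h8 | h8 | h8 | h8 | h8 | h8 | h8 <;> rw [h8] at e1 e2 <;> omega
    · have : v g = -3 ∨ v g = -2 ∨ v g = -1 ∨ v g = 0 ∨ v g = 1 ∨ v g = 2 ∨ v g = 3 := by omega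
      rcases this with h8 | h8 | h8 | h8 | h8 | h8 | h8 <;> rw [h8] at e1 e2 <;> omega
  -- the Sylow subgroup has exponent three
  have hord : ∀ x ∈ (S : Subgroup G), x ≠ 1 → orderOf x = 3 := by
    intro x hx hx1
    have h1 : orderOf x ∣ 27 := by rw [← hS]; exact Subgroup.orderOf_dvd_natCard _ hx
    have h2 : orderOf x ∣ 3 ^ 3 := by norm_num; exact h1
    obtain ⟨k, hk, hk'⟩ := (Nat.dvd_prime_pow (by norm_num)).1 h2
    have hk0 : k ≠ 0 := by rintro rfl; exact hx1 (orderOf_eq_one_iff.1 (by simpa using hk'))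
    interval_cases k
    · exact absurd rfl hk0
    · simpa using hk'
    · exact (h9 x (by simpa using hk')).elim
    · exfalso
      apply h9 (x ^ 3)
      rw [orderOf_pow' x (by norm_num), hk']; norm_num
  obtain ⟨n, n', e1, e2⟩ := sums hv (S : Subgroup G)
  rw [hS] at e1 e2
  have h1F : (1 : G) ∈ F (S : Subgroup G) := mem_F.2 (one_mem _)
  rw [← Finset.add_sum_erase _ _ h1F, hv1] at e1 e2
  set R := (F (S : Subgroup G)).erase 1 with hR
  have hRc : R.card = 26 := by rw [hR, Finset.card_erase_of_mem h1F, card_F, hS]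
  have hvals : ∀ x ∈ R, v x = 1 ∨ v x = -2 := by
    intro x hx
    rw [hR, Finset.mem_erase, mem_F] at hx
    exact h3 x (hord x hx.2 hx.1)
  -- `v ^ 2 = 2 - v`
  have h5 : ∑ x ∈ R, v x ^ 2 = ∑ x ∈ R, (2 - v x) := by
    refine Finset.sum_congr rfl fun x hx => ?_
    rcases hvals x hx with h | h <;> rw [h] <;> norm_num
  rw [h5, Finset.sum_sub_distrib, Finset.sum_const, hRc, nsmul_eq_mul] at e2
  set sv := ∑ x ∈ R, v x with hsv
  have h6 : ∃ b : ℤ, sv = 26 - 3 * b := by
    refine ⟨((R.filter (fun x => v x = -2)).card : ℤ), ?_⟩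
    have h7 : ∀ x ∈ R, v x = 1 - 3 * (if v x = -2 then 1 else 0 : ℤ) := by
      intro x hx
      rcases hvals x hx with h | h <;> rw [h] <;> norm_num
    rw [hsv, Finset.sum_congr rfl h7, Finset.sum_sub_distrib, Finset.sum_const, hRc, ← Finset.mul_sum, Finset.sum_boole]
    simp
  obtain ⟨b, hb⟩ := h6
  rw [hb] at e1 e2
  push_cast at e1 e2
  omega

end Cfsg.Agent.Lib.Ord4320
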