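import Mathlib
import Cfsg.Agent.Lib.Sieve3640
import Cfsg.Agent.Lib.Ord1344
import Cfsg.Agent.Lib.OrdTwoFive
import Cfsg.Agent.Lib.OrdMiscS
import Cfsg.Agent.Lib.OrdSing
import Cfsg.Agent.S0496
import Cfsg.Agent.S0983

/-!
# Orders of the non-abelian simple groups of order less than 6000 (helper19)
-/

set_option autoImplicit false
set_option linter.all false

namespace Cfsg.Agent.Lib.SimpOrdSix

open Cfsg.Agent.Lib.Sieve3640

theorem mid {G : Type*} [Group G] [Finite G] [IsSimpleGroup G] (hG : ¬ IsMulCommutative G) (h1 : 1092 < Nat.card G)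
    (h2 : Nat.card G ≤ 3640) : Nat.card G = 2448 ∨ Nat.card G = 2520 ∨ Nat.card G = 3420 := by
  have h := mem_survs hG h1 h2
  simp only [survs, List.mem_cons, List.not_mem_nil, or_false] at h
  rcases h with h | h | h | h | h | h | h | h | h | h | h | h | h | h | h | h | h | h | h | h | h | h | h | h | h | h | h |
    h | h | h | h | h | h | h | h | h | h | h
  · exact absurd h (ne_1224 hG)
  · exact absurd h (ne_1232 hG)
  · exact absurd h (ne_1260 hG)
  · exact absurd h (Ord1344.ne_1344 hG)
  · exact absurd h (OrdMiscS.ne_1404 hG)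
  · exact absurd h (ne_1440 hG)
  · exact absurd h (OrdMiscS.ne_1512 hG)
  · exact absurd h (ne_1560 hG)
  · exact absurd h (ne_1620 hG)
  · exact absurd h (ne_1680 hG)
  · exact absurd h (ne_1716 hG)
  · exact (Lib.SmallSieve.not_two_three hG 6 3 (by rw [h]; norm_num)).elim
  · exact absurd h (OrdTwoFive.ne_1800 hG)
  · exact absurd h (ne_1980 hG)
  · exact absurd h (ne_2016 hG)
  · exact absurd h (ne_2080 hG)
  · exact absurd h (ne_2100 hG)
  · exact absurd h (ne_2160 hG)
  · exact absurd h (ne_2268 hG)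
  · exact absurd h (OrdTwoFive.ne_2400 hG)
  · exact Or.inl h
  · exact absurd h (ne_2464 hG)
  · exact Or.inr (Or.inl h)
  · exact absurd h (ne_2688 hG)
  · exact absurd h (OrdTwoFive.ne_2700 hG)
  · exact absurd h (ne_2808 hG)
  · exact absurd h (ne_2880 hG)
  · exact absurd h (ne_2976 hG)
  · exact absurd h (ne_3024 hG)
  · exact absurd h (ne_3080 hG)
  · exact absurd h (ne_3120 hG)
  · exact absurd h (ne_3168 hG)
  · exact absurd h (ne_3240 hG)
  · exact absurd h (OrdSing.ne_3360 hG)
  · exact Or.inr (Or.inr h)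
  · exact absurd h (ne_3432 hG)
  · exact absurd h (ne_3444 hG)
  · exact absurd h (OrdTwoFive.ne_3600 hG)

/-- The orders of the non-abelian simple groups of order less than 6000. -/
theorem orders {G : Type*} [Group G] [Finite G] [IsSimpleGroup G] (hG : ¬ IsMulCommutative G) (h : Nat.card G < 6000) :
    Nat.card G ∈ [60, 168, 360, 504, 660, 1092, 2448, 2520, 3420, 4080, 5616] := by
  simp only [List.mem_cons, List.not_mem_nil, or_false]
  rcases Nat.lt_or_ge 1092 (Nat.card G) with h1 | h1
  · rcases Nat.lt_or_ge 3640 (Nat.card G) with h2 | h2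
    · rcases Cfsg.Agent.S0983.result hG h2 (by omega) with h3 | h3 | h3 | h3 <;> omega
    · rcases mid hG h1 h2 with h3 | h3 | h3 <;> omega
  · rcases Cfsg.Agent.S0496.result hG h1 with h3 | h3 | h3 | h3 | h3 | h3 <;> omega

end Cfsg.Agent.Lib.SimpOrdSix
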