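import Mathlib
import Cfsg.Agent.Lib.DegGrB
import Cfsg.Agent.Lib.DegGrC
import Cfsg.Agent.Lib.SimpOrdSix

/-!
# Degree graphs of the simple groups of order less than 6000 (helper19)
-/

set_option autoImplicit false
set_option linter.all false

namespace Cfsg.Agent.Lib.DegGr

open Cfsg Subgroup Cfsg.Agent.Lib.DefOneLoc Cfsg.Agent.Lib.DefOneOrd Cfsg.Agent.Lib.CharBasic
open Cfsg.Agent.Lib.DefOneGram Cfsg.Agent.Lib.DefOne Cfsg.Agent.Lib.BRB0 Cfsg.Agent.Lib.BRCore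
open Cfsg.Agent.Lib.PBData Cfsg.Agent.Lib.DefOnePrin Cfsg.Agent.Lib.BlockThird Cfsg.Agent.Lib.SmallSimple
open Cfsg.Agent.Lib.PBNum Cfsg.Agent.Lib.PBExt Cfsg.Agent.Lib.PBStruct Cfsg.Agent.Lib.PBFull
open Cfsg.Agent.Lib.PBLocal Cfsg.Agent.Lib.A7Chars Cfsg.Agent.Lib.A7Table
open scoped ComplexConjugate

universe u v

/-- numerical check for a divisor inside the block -/
def chk2 (p M b q : ℕ) : Bool :=
  (optsL (fun _ => true) p M b).all fun t => t.2.2.any fun d : ℤ => d.natAbs % q == 0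

theorem inblock_aux {G : Type u} [Group G] [Fintype G] [IsSimpleGroup G] (hG : ¬ IsMulCommutative G) {p M q : ℕ} [hp : Fact p.Prime]
    (b : ℕ) (h : Nat.card G = p * M) (hM : ¬ p ∣ M) (hb : p * M < (b + 1) ^ 2) (hlen : lenOk (fun _ => true) p M b = true)
    (hchk : chk2 p M b q = true) : ∃ χ : IrrCharacter G, q ∣ ColTools.deg χ := by
  classical
  obtain ⟨Q⟩ : Nonempty (Sylow p G) := inferInstance
  have hQ : Nat.card Q = p := (SylEven.data hG (p := p) (M := M) (by rw [h]) hM Q).1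
  obtain ⟨D, i, ⟨B⟩⟩ := exists_PBE Q hQ
  obtain ⟨hQ', e, c, l, hN, hC, he, he1, hecn, hmem, hl⟩ := dataL hG (M := M) b (fun _ => true) (by rw [h])
    hM hb B.toPB (fun _ _ => rfl) hlen
  rw [chk2, List.all_eq_true] at hchk
  have h1 := hchk _ hmem
  rw [List.any_eq_true] at h1
  obtain ⟨d, hd, hdq⟩ := h1
  have h2 : d ∈ sds B.toPB := by rw [← hl]; exact hd
  obtain ⟨χ, hχ, hχd⟩ := (mem_sds B.toPB).1 h2
  refine ⟨χ, ?_⟩
  rw [← cdeg, ← natAbs_sd B.toPB χ, hχd]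
  exact Nat.dvd_of_mod_eq_zero (by simpa using hdq)

theorem inblock {G : Type u} [Group G] [Finite G] [IsSimpleGroup G] (hG : ¬ IsMulCommutative G) {p M : ℕ} (q : ℕ) (hp : p.Prime)
    (b : ℕ) (h : Nat.card G = p * M) (hM : ¬ p ∣ M) (hb : p * M < (b + 1) ^ 2) (hlen : lenOk (fun _ => true) p M b = true)
    (hchk : chk2 p M b q = true) : ∃ χ : IrrCharacter G, q ∣ ColTools.deg χ := by
  letI := Fintype.ofFinite G
  haveI : Fact p.Prime := ⟨hp⟩
  exact inblock_aux hG b h hM hb hlen hchk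

/-- transfer of a vertex of the degree graph -/
theorem tvertex {G : Type u} [Group G] [Finite G] {H : Type v} [Group H] [Finite H] (h : Cfsg.degreePrimes G = Cfsg.degreePrimes H) {p : ℕ}
    (h2 : p.Prime) (hχ : ∃ χ : IrrCharacter H, p ∣ ColTools.deg χ) : ∃ χ : IrrCharacter G, p ∣ ColTools.deg χ := by
  obtain ⟨χ, hχ⟩ := hχ
  have h4 : p ∈ Cfsg.degreePrimes H := ⟨h2, ColTools.deg χ, ⟨χ, cdeg χ⟩, hχ⟩
  rw [← h] at h4
  obtain ⟨-, d, ⟨χ', hd⟩, hdv⟩ := h4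
  exact ⟨χ', by rw [← cdeg, hd]; exact hdv⟩

/-- transfer of an edge of the degree graph -/
theorem tedge {G : Type u} [Group G] [Finite G] {H : Type v} [Group H] [Finite H] (h : Cfsg.degreeGraph G = Cfsg.degreeGraph H) {p q : ℕ}
    (h1 : p ≠ q) (h2 : p.Prime) (h3 : q.Prime) (hχ : ∃ χ : IrrCharacter H, p * q ∣ ColTools.deg χ) :
    ∃ χ : IrrCharacter G, p * q ∣ ColTools.deg χ := by
  obtain ⟨χ, hχ⟩ := hχ
  have h4 : (Cfsg.degreeGraph H).Adj p q := ⟨h1, h2, h3, ColTools.deg χ, ⟨χ, cdeg χ⟩, hχ⟩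
  rw [← h] at h4
  obtain ⟨-, -, -, d, ⟨χ', hd⟩, hdv⟩ := h4
  exact ⟨χ', by rw [← cdeg, hd]; exact hdv⟩

section

variable {G : Type u} [Group G] [Finite G]

/-- the orders -/
def L6 : List ℕ := [60,168,360,504,660,1092,2448,2520,3420,4080,5616]

theorem order_mem {H : Type u} [Group H] [Finite H] [IsSimpleGroup H] (hH : ¬ IsMulCommutative H) (hlt : Nat.card H < 6000) :
    Nat.card H ∈ L6 := SimpOrdSix.orders hH hlt

/-- the conclusion when the only possible simple section has full order -/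
theorem simple_full {p M : ℕ} (hp : p.Prime) (hG : Nat.card G = p * M) (hpM : ¬ p ∣ M) (hlt : p * M < 6000)
    (hcent : ∀ P : Sylow p G, (P : Subgroup G) ≤ centralizer (pPrimeCore p G : Set G))
    (hχ : ∃ χ : IrrCharacter G, p ∣ ColTools.deg χ) (hL : ∀ n ∈ L6, n ∣ p * M → p ∣ n → n = p * M) : IsSimpleGroup G := by
  obtain ⟨χ, hχ⟩ := hχ
  obtain ⟨N, D, hN, hNs, hNc, hpN, hNG, hD, hDc, hDN⟩ := exists_sec hp hG hpM hcent hχ
  have h1 : Nat.card N < 6000 := by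
    have := Nat.le_of_dvd Nat.card_pos hNG
    rw [hG] at this
    omega
  have h2 := order_mem hNc h1
  have h3 := hL _ h2 (by rw [← hG]; exact hNG) hpN
  exact simple_of_card N hNs (by rw [h3, hG])

theorem cent_of {p M : ℕ} (hp : p.Prime) (hG : Nat.card G = p * M) (hpM : ¬ p ∣ M) (hM : M ≠ 0)
    (hok : ∀ s ∈ M.divisors, ∀ f ∈ s.divisors, s % p = f % p → s = f ∨ 6 ∣ s ∨ 10 ∣ s ∨ 15 ∣ s ∨ 14 ∣ s ∨ 21 ∣ s ∨ 35 ∣ s)
    (P : Sylow p G) : (P : Subgroup G) ≤ centralizer (pPrimeCore p G : Set G) := by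
  haveI : Fact p.Prime := ⟨hp⟩
  have hP : Nat.card (P : Subgroup G) = p := by
    have := sylow_card_of (G := G) (p := p) (k := 1) (m := M) (by rw [hG, pow_one]) hpM P
    rwa [pow_one] at this
  have hKd : Nat.card (pPrimeCore p G) ∣ M := by
    have h1 := Cores.coprime_card_pPrimeCore p G
    have h2 : Nat.card (pPrimeCore p G) ∣ p * M := by rw [← hG]; exact card_subgroup_dvd_card _
    exact Nat.Coprime.dvd_of_dvd_mul_left h1 h2
  rw [le_centralizer_iff]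
  apply le_cent hp hpM hok hM hP _ hKd
  rw [normalizer_eq_top]; exact le_top

theorem cent_exc {p M c q : ℕ} (hp : p.Prime) (hq : q.Prime) (hG : Nat.card G = p * M) (hpM : ¬ p ∣ M) (hM0 : M ≠ 0)
    (hM : ∀ s ∈ M.divisors, ∃ a ∈ Finset.range 10, ∃ b ∈ Finset.range 10, s = 2 ^ a * 3 ^ b)
    (hex : ∀ s ∈ M.divisors, ∀ f ∈ s.divisors, s % p = f % p → s = f ∨ (s = c ∧ f = 1) ∨ 6 ∣ s)
    (hc : ∀ z ∈ c.divisors, z % p = 1 % p → z = 1 ∨ z = c) (hqM : ¬ c * q ∣ p * M)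
    (hχ : ∃ χ : IrrCharacter G, q ∣ ColTools.deg χ) (P : Sylow p G) :
    (P : Subgroup G) ≤ centralizer (pPrimeCore p G : Set G) := by
  rcases dich hp hG hpM hM0 hM hex P hc with h | ⟨R, hR, hRa, hRc⟩
  · exact h
  · obtain ⟨χ, hχ⟩ := hχ
    haveI := hR
    exact (not_abel hG hq hRa hRc hqM hχ).elim

end

end Cfsg.Agent.Lib.DegGr
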