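import Mathlib
import Cfsg.Agent.Lib.DegGrD

/-!
# Degree graphs: the orders where the section is the whole group (helper19)
-/

set_option autoImplicit false
set_option linter.all false

namespace Cfsg.Agent.Lib.DegGr

open Cfsg Subgroup Cfsg.Agent.Lib.PBNum Cfsg.Agent.Lib.PBFull

universe u v

section

variable {S : Type u} [Group S] [Finite S] [IsSimpleGroup S] (hS : ¬ IsMulCommutative S)
  {G : Type v} [Group G] [Finite G] (hcard : Nat.card G = Nat.card S)
  (hΓ : Cfsg.degreePrimes G = Cfsg.degreePrimes S)

include hS hcard hΓ

theorem simple_60 (h : Nat.card S = 60) : IsSimpleGroup G := by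
  have h' : Nat.card G = 5 * 12 := by rw [hcard, h]
  have hv := vertex hS (p := 5) (M := 12) (by norm_num) 7 (by rw [h]) (by norm_num) (by norm_num) (by decide +kernel) (by decide +kernel)
  exact simple_full (by norm_num) h' (by norm_num) (by norm_num)
    (cent_of (by norm_num) h' (by norm_num) (by norm_num) (by decide +kernel)) (tvertex hΓ (by norm_num) hv) (by decide +kernel)

theorem simple_660 (h : Nat.card S = 660) : IsSimpleGroup G := by
  have h' : Nat.card G = 11 * 60 := by rw [hcard, h]
  have hv := vertex hS (p := 11) (M := 60) (by norm_num) 25 (by rw [h]) (by norm_num) (by norm_num) (by decide +kernel) (by decide +kernel)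
  exact simple_full (by norm_num) h' (by norm_num) (by norm_num)
    (cent_of (by norm_num) h' (by norm_num) (by norm_num) (by decide +kernel)) (tvertex hΓ (by norm_num) hv) (by decide +kernel)

theorem simple_1092 (h : Nat.card S = 1092) : IsSimpleGroup G := by
  have h' : Nat.card G = 13 * 84 := by rw [hcard, h]
  have hv := vertex hS (p := 13) (M := 84) (by norm_num) 33 (by rw [h]) (by norm_num) (by norm_num) (by decide +kernel) (by decide +kernel)
  exact simple_full (by norm_num) h' (by norm_num) (by norm_num)
    (cent_of (by norm_num) h' (by norm_num) (by norm_num) (by decide +kernel)) (tvertex hΓ (by norm_num) hv) (by decide +kernel)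

theorem simple_2448 (h : Nat.card S = 2448) : IsSimpleGroup G := by
  have h' : Nat.card G = 17 * 144 := by rw [hcard, h]
  have hv := vertex hS (p := 17) (M := 144) (by norm_num) 49 (by rw [h]) (by norm_num) (by norm_num) (by decide +kernel) (by decide +kernel)
  exact simple_full (by norm_num) h' (by norm_num) (by norm_num)
    (cent_of (by norm_num) h' (by norm_num) (by norm_num) (by decide +kernel)) (tvertex hΓ (by norm_num) hv) (by decide +kernel)

theorem simple_3420 (h : Nat.card S = 3420) : IsSimpleGroup G := by
  have h' : Nat.card G = 19 * 180 := by rw [hcard, h]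
  have hv := vertex hS (p := 19) (M := 180) (by norm_num) 58 (by rw [h]) (by norm_num) (by norm_num) (by decide +kernel) (by decide +kernel)
  exact simple_full (by norm_num) h' (by norm_num) (by norm_num)
    (cent_of (by norm_num) h' (by norm_num) (by norm_num) (by decide +kernel)) (tvertex hΓ (by norm_num) hv) (by decide +kernel)

theorem simple_4080 (h : Nat.card S = 4080) : IsSimpleGroup G := by
  have h' : Nat.card G = 17 * 240 := by rw [hcard, h]
  have hv := vertex hS (p := 17) (M := 240) (by norm_num) 63 (by rw [h]) (by norm_num) (by norm_num) (by decide +kernel) (by decide +kernel)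
  exact simple_full (by norm_num) h' (by norm_num) (by norm_num)
    (cent_of (by norm_num) h' (by norm_num) (by norm_num) (by decide +kernel)) (tvertex hΓ (by norm_num) hv) (by decide +kernel)

theorem simple_168 (h : Nat.card S = 168) : IsSimpleGroup G := by
  have h' : Nat.card G = 7 * 24 := by rw [hcard, h]
  have hv := vertex hS (p := 7) (M := 24) (by norm_num) 12 (by rw [h]) (by norm_num) (by norm_num) (by decide +kernel) (by decide +kernel)
  have hw := inblock hS (p := 7) (M := 24) 2 (by norm_num) 12 (by rw [h]) (by norm_num) (by norm_num) (by decide +kernel) (by decide +kernel)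
  exact simple_full (by norm_num) h' (by norm_num) (by norm_num)
    (cent_exc (c := 8) (q := 2) (by norm_num) (by norm_num) h' (by norm_num) (by norm_num) (by decide +kernel) (by decide +kernel) (by decide +kernel)
      (by norm_num) (tvertex hΓ (by norm_num) hw)) (tvertex hΓ (by norm_num) hv) (by decide +kernel)

theorem simple_5616 (h : Nat.card S = 5616) : IsSimpleGroup G := by
  have h' : Nat.card G = 13 * 432 := by rw [hcard, h]
  have hv := vertex hS (p := 13) (M := 432) (by norm_num) 74 (by rw [h]) (by norm_num) (by norm_num) (by decide +kernel) (by decide +kernel)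
  have hw := inblock hS (p := 13) (M := 432) 3 (by norm_num) 74 (by rw [h]) (by norm_num) (by norm_num) (by decide +kernel) (by decide +kernel)
  exact simple_full (by norm_num) h' (by norm_num) (by norm_num)
    (cent_exc (c := 27) (q := 3) (by norm_num) (by norm_num) h' (by norm_num) (by norm_num) (by decide +kernel) (by decide +kernel) (by decide +kernel)
      (by norm_num) (tvertex hΓ (by norm_num) hw)) (tvertex hΓ (by norm_num) hv) (by decide +kernel)

end

end Cfsg.Agent.Lib.DegGr
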