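import Cfsg.Prelude.Def_Blocks
import Cfsg.Agent.Lib.CharBasic
import Cfsg.Agent.Lib.CharBasic2
import Cfsg.Agent.Lib.CharCentral
import Cfsg.Agent.Lib.CharGalois
import Cfsg.Agent.Lib.CharValues
import Cfsg.Agent.Lib.CharMisc
import Cfsg.Agent.Lib.SylowExtend
import Cfsg.Agent.Lib.UniqueInvolution
import Cfsg.Agent.Lib.TransferApps

/-!
# `p`-groups whose same degree nonlinear characters are Galois conjugate
-/

set_option autoImplicit false
set_option linter.all false

namespace Cfsg.Agent.Lib.GalConj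

open Cfsg Subgroup Module Cfsg.Agent.Lib Cfsg.Agent.Lib.SylowExtend Cfsg.Agent.Lib.CharBasic
open scoped ComplexConjugate commutatorElement

universe u

variable {G : Type u} [Group G]

/-- nonlinear irreducible characters of the same degree are Galois conjugate -/
def Star (G : Type u) [Group G] : Prop :=
  ∀ χ ψ : IrrCharacter G, (χ : G → ℂ) 1 ≠ 1 → (χ : G → ℂ) 1 = (ψ : G → ℂ) 1 →
    ∃ k : ℕ, Nat.Coprime k (Nat.card G) ∧ ∀ g : G, (ψ : G → ℂ) g = (χ : G → ℂ) (g ^ k)

variable [Finite G]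

/-- the kernel -/
abbrev K (χ : IrrCharacter G) : Subgroup G := kerSub {χ}

theorem mem_K {χ : IrrCharacter G} {g : G} : g ∈ K χ ↔ (χ : G → ℂ) g = (χ : G → ℂ) 1 := by
  unfold K
  rw [mem_kerSub]
  simp

theorem Star.ker (h : Star G) {χ ψ : IrrCharacter G} (h1 : (χ : G → ℂ) 1 ≠ 1)
    (h2 : (χ : G → ℂ) 1 = (ψ : G → ℂ) 1) : K χ ≤ K ψ := by
  obtain ⟨k, hk, hψ⟩ := h χ ψ h1 h2
  intro g hg
  rw [mem_K, hψ g, mem_K.1 (Subgroup.pow_mem _ hg k), h2]

theorem Star.quot (h : Star G) (N : Subgroup G) [N.Normal] : Star (G ⧸ N) := by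
  intro χ ψ h1 h2
  obtain ⟨k, hk, hψ⟩ := h ⟨_, χ.2.inflate N⟩ ⟨_, ψ.2.inflate N⟩ h1 h2
  refine ⟨k, Nat.Coprime.coprime_dvd_right (card_quotient_dvd_card N) hk, ?_⟩
  intro g
  obtain ⟨g, rfl⟩ := QuotientGroup.mk_surjective g
  exact hψ g

theorem vanish {χ : G → ℂ} (hχ : IsIrrCharacter G χ)
    {m y : G} (hz : y * m * y⁻¹ * m⁻¹ ∈ Subgroup.center G) (hne : χ (y * m * y⁻¹ * m⁻¹) ≠ χ 1) :
    χ m = 0 := by
  obtain ⟨n, ρ, hρ, rfl⟩ := hχ
  set z := y * m * y⁻¹ * m⁻¹ with hzdef
  obtain ⟨ω, hω⟩ := CharCentral.exists_scalar_of_commute ρ (ρ z) (by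
    intro g v
    rw [← Module.End.mul_apply, ← Module.End.mul_apply, ← map_mul, ← map_mul,
      (Subgroup.mem_center_iff.1 hz) g])
  have hω1 : ω ≠ 1 := by
    rintro rfl
    apply hne
    show LinearMap.trace ℂ _ _ = LinearMap.trace ℂ _ _
    rw [hω, map_one, one_smul]
    rfl
  have h1 : ρ.character (y * m * y⁻¹) = ρ.character m := Representation.char_conj ρ m y
  have h2 : y * m * y⁻¹ = z * m := by rw [hzdef]; group
  have h3 : ρ.character (z * m) = ω * ρ.character m := by
    show LinearMap.trace ℂ _ _ = _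
    rw [map_mul, hω, Module.End.mul_eq_comp, LinearMap.smul_comp, LinearMap.id_comp, map_smul, smul_eq_mul]
    rfl
  rw [h2, h3] at h1
  have h4 : (ω - 1) * ρ.character m = 0 := by rw [sub_mul, h1, one_mul, sub_self]
  exact (mul_eq_zero.1 h4).resolve_left (sub_ne_zero.2 hω1)

theorem norm_center {χ : G → ℂ} (hχ : IsIrrCharacter G χ) {z : G} (hz : z ∈ center G) :
    χ z * conj (χ z) = χ 1 * χ 1 := by
  obtain ⟨n, ρ, hρ, rfl⟩ := hχ
  have h1 : ‖ρ.character z‖ = (finrank ℂ (Fin n → ℂ) : ℝ) := by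
    rw [CharValues.norm_character_eq_iff]
    exact CharCentral.exists_scalar_of_commute ρ (ρ z) (by
      intro g v
      rw [← Module.End.mul_apply, ← Module.End.mul_apply, ← map_mul, ← map_mul,
        (Subgroup.mem_center_iff.1 hz) g])
  rw [Complex.mul_conj, Complex.normSq_eq_norm_sq, h1, Representation.char_one]
  push_cast
  ring

theorem fully {χ : G → ℂ} (hχ : IsIrrCharacter G χ) (h : ∀ x, x ∉ center G → χ x = 0) :
    χ 1 * χ 1 = ((center G).index : ℂ) := by
  classical
  letI := Fintype.ofFinite G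
  have h1 := hχ.classInner_self
  rw [classInner_def, inv_mul_eq_one₀ (by exact_mod_cast Nat.card_pos.ne')] at h1
  have h2 : ∑ g : G, χ g * conj (χ g) = ∑ g ∈ Finset.univ.filter (fun g => g ∈ center G), χ 1 * χ 1 := by
    rw [Finset.sum_filter]
    refine Finset.sum_congr rfl fun g _ => ?_
    split_ifs with hg
    · exact norm_center hχ hg
    · rw [h g hg, zero_mul]
  have h3 : (Finset.univ.filter (fun g => g ∈ center G)).card = Nat.card (center G) := by
    rw [Nat.card_eq_fintype_card, Fintype.card_subtype]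
  rw [h2, Finset.sum_const, h3, nsmul_eq_mul] at h1
  have h4 : (Nat.card G : ℂ) = Nat.card (center G) * (center G).index := by
    exact_mod_cast (center G).card_mul_index.symm
  rw [h4] at h1
  exact (mul_left_cancel₀ (by exact_mod_cast Nat.card_pos.ne') h1).symm

theorem lin_of_ker {χ : IrrCharacter G} (h : commutator G ≤ K χ) : (χ : G → ℂ) 1 = 1 := by
  obtain ⟨ψ, hψ, hψχ⟩ := χ.2.deflate (commutator G) (fun n hn => mem_K.1 (h hn))
  rw [← hψχ 1]
  apply hψ.one_eq_one_of_comm
  intro a b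
  obtain ⟨a, rfl⟩ := QuotientGroup.mk_surjective a
  obtain ⟨b, rfl⟩ := QuotientGroup.mk_surjective b
  rw [← QuotientGroup.mk_mul, ← QuotientGroup.mk_mul, QuotientGroup.eq]
  have : (a * b)⁻¹ * (b * a) = ⁅b⁻¹, a⁻¹⁆ := by rw [commutatorElement_def]; group
  rw [this]
  exact commutator_mem_commutator (mem_top _) (mem_top _)

theorem exists_nonlin {N : Subgroup G} [N.Normal] (h : ¬ commutator G ≤ N) :
    ∃ χ : IrrCharacter G, N ≤ K χ ∧ (χ : G → ℂ) 1 ≠ 1 := by
  by_contra hno
  push Not at hno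
  apply h
  have h1 : ∀ χ : (G ⧸ N) → ℂ, IsIrrCharacter (G ⧸ N) χ → χ 1 = 1 := by
    intro χ hχ
    exact hno ⟨_, hχ.inflate N⟩ (by
      intro n hn
      rw [mem_K]
      show χ (n : G ⧸ N) = χ ((1 : G) : G ⧸ N)
      rw [(QuotientGroup.eq_one_iff n).2 hn]; rfl)
  have h2 := comm_of_forall_irr_linear h1
  rw [commutator_def, commutator_le]
  intro a _ b _
  rw [← QuotientGroup.eq_one_iff, commutatorElement_def]
  show (QuotientGroup.mk' N) (a * b * a⁻¹ * b⁻¹) = 1
  simp only [map_mul, map_inv]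
  rw [h2 (QuotientGroup.mk' N a) (QuotientGroup.mk' N b)]
  group

theorem exists_not_ker {N : Subgroup G} (hN : N ≠ ⊥) : ∃ χ : IrrCharacter G, ¬ N ≤ K χ := by
  by_contra hno
  push Not at hno
  apply hN
  rw [eq_bot_iff]
  intro x hx
  apply mem_of_forall_ker (⊥ : Subgroup G)
  intro χ _
  exact mem_K.1 (hno χ hx)

theorem nonlin_of_not_ker {N : Subgroup G} (hN : N ≤ commutator G) {χ : IrrCharacter G}
    (h : ¬ N ≤ K χ) : (χ : G → ℂ) 1 ≠ 1 := by
  intro h1
  apply h
  intro n hn
  rw [mem_K, χ.2.isCharacter.eq_one_on_commutator h1 (hN hn), h1]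

theorem eq_bot_or_eq {p : ℕ} [hp : Fact p.Prime] {A B : Subgroup G} (hB : Nat.card B = p) (h : A ≤ B) :
    A = ⊥ ∨ A = B := by
  have h1 : Nat.card A ∣ p := by rw [← hB]; exact card_dvd_of_le h
  rcases (Nat.dvd_prime hp.out).1 h1 with h2 | h2
  · left; exact card_eq_one.1 h2
  · right; exact eq_of_le_of_card_ge h (by rw [hB, h2])

variable {p : ℕ} [hp : Fact p.Prime]

theorem le_center_of_card (hG : IsPGroup p G) {N : Subgroup G} [N.Normal] (hN : Nat.card N = p) :
    N ≤ center G := by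
  have hN1 : N ≠ ⊥ := by
    rintro rfl
    rw [card_bot] at hN
    exact hp.out.one_lt.ne hN
  obtain ⟨z, hzN, hz1, hz⟩ := UniqueInvolution.exists_central_of_normal hG N hN1
  rcases eq_bot_or_eq (p := p) hN (inf_le_left : N ⊓ center G ≤ N) with h | h
  · exfalso
    apply hz1
    have : z ∈ N ⊓ center G := ⟨hzN, mem_center_iff.2 hz⟩
    rw [h] at this
    exact this
  · exact inf_eq_left.1 h

theorem fully_of_card (hG : IsPGroup p G) (hc : Nat.card (commutator G) = p) {χ : IrrCharacter G}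
    (h : (χ : G → ℂ) 1 ≠ 1) : (χ : G → ℂ) 1 * (χ : G → ℂ) 1 = ((center G).index : ℂ) := by
  have hle := le_center_of_card hG hc
  have hker : commutator G ⊓ K χ = ⊥ := by
    rcases eq_bot_or_eq (p := p) hc (inf_le_left : commutator G ⊓ K χ ≤ commutator G) with h1 | h1
    · exact h1
    · exact absurd (lin_of_ker (inf_eq_left.1 h1)) h
  apply fully χ.2
  intro x hx
  rw [mem_center_iff] at hx
  push Not at hx
  obtain ⟨y, hy⟩ := hx
  have hc' : y * x * y⁻¹ * x⁻¹ ∈ commutator G := commutator_mem_commutator (mem_top y) (mem_top x)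
  apply vanish χ.2 (y := y) (hle hc')
  intro h2
  have h3 : y * x * y⁻¹ * x⁻¹ ∈ commutator G ⊓ K χ := ⟨hc', mem_K.2 h2⟩
  rw [hker, mem_bot] at h3
  apply hy
  exact mul_inv_eq_iff_eq_mul.1 (mul_inv_eq_one.1 h3)

theorem eq_of_sq {a b : ℂ} {m n : ℕ} (ha : a = m) (hb : b = n) (h : a * a = b * b) : a = b := by
  subst ha hb
  have : m * m = n * n := by exact_mod_cast h
  rw [Nat.mul_self_inj.1 this]

/-- if `|G'| = p` and same degree characters are Galois conjugate, the centre is cyclic -/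
theorem cyclic_center (hG : IsPGroup p G) (hs : Star G) (hc : Nat.card (commutator G) = p) :
    IsCyclic (center G) := by
  classical
  have hle := le_center_of_card hG hc
  by_contra hcyc
  have hex : ∃ N : Subgroup G, N ≤ center G ∧ Nat.card N = p ∧ N ≠ commutator G := by
    by_contra hno
    push Not at hno
    apply hcyc
    obtain ⟨a, ha⟩ := UniqueInvolution.cyclic_of_comm (hG.to_subgroup (center G))
      (fun x y => Subtype.ext (mem_center_iff.1 y.2 x)) (by
        intro x y hx hy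
        have h1 : zpowers (x : G) = commutator G := by
          apply hno
          · rw [zpowers_le]; exact x.2
          · rw [Nat.card_zpowers, Subgroup.orderOf_coe, hx]
        have h2 : zpowers (y : G) = commutator G := by
          apply hno
          · rw [zpowers_le]; exact y.2
          · rw [Nat.card_zpowers, Subgroup.orderOf_coe, hy]
        have h3 : (y : G) ∈ zpowers (x : G) := by
          rw [h1, ← h2]; exact mem_zpowers _
        obtain ⟨k, hk⟩ := mem_zpowers_iff.1 h3
        exact mem_zpowers_iff.2 ⟨k, Subtype.ext (by rw [← hk]; rfl)⟩)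
    exact ⟨⟨a, ha⟩⟩
  obtain ⟨N, hNc, hNp, hNne⟩ := hex
  haveI hNn : N.Normal := ⟨fun n hn g => by
    rw [mem_center_iff.1 (hNc hn) g, mul_inv_cancel_right]; exact hn⟩
  have hnot : ¬ commutator G ≤ N := by
    intro h
    rcases eq_bot_or_eq (p := p) hNp h with h1 | h1
    · rw [h1, card_bot] at hc
      exact hp.out.one_lt.ne hc
    · exact hNne h1.symm
  obtain ⟨χ, hχN, hχ1⟩ := exists_nonlin hnot
  obtain ⟨θ, hθ⟩ := exists_not_ker (N := N) (by
    rintro rfl
    rw [card_bot] at hNp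
    exact hp.out.one_lt.ne hNp)
  -- a nonlinear character not containing `N` in its kernel
  have hex2 : ∃ ψ : IrrCharacter G, (ψ : G → ℂ) 1 ≠ 1 ∧ ¬ N ≤ K ψ := by
    by_cases hθ1 : (θ : G → ℂ) 1 = 1
    · refine ⟨⟨_, χ.2.mul_linear θ.2.isCharacter hθ1⟩, ?_, ?_⟩
      · show (χ : G → ℂ) 1 * (θ : G → ℂ) 1 ≠ 1
        rw [hθ1, mul_one]
        exact hχ1
      · intro h
        apply hθ
        intro n hn
        have h1 := mem_K.1 (h hn)
        have h2 : (χ : G → ℂ) n * (θ : G → ℂ) n = (χ : G → ℂ) 1 * (θ : G → ℂ) 1 := h1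
        rw [mem_K.1 (hχN hn)] at h2
        rw [mem_K]
        exact mul_left_cancel₀ χ.2.one_ne_zero h2
    · exact ⟨θ, hθ1, hθ⟩
  obtain ⟨ψ, hψ1, hψN⟩ := hex2
  obtain ⟨m, -, hm⟩ := χ.2.exists_degree
  obtain ⟨n, -, hn⟩ := ψ.2.exists_degree
  have hdeg : (χ : G → ℂ) 1 = (ψ : G → ℂ) 1 :=
    eq_of_sq hm hn (by rw [fully_of_card hG hc hχ1, fully_of_card hG hc hψ1])
  exact hψN (hχN.trans (hs.ker hχ1 hdeg))

/-- The preimage of the centre of `G / N`. -/
def ZN (N : Subgroup G) [N.Normal] : Subgroup G := (center (G ⧸ N)).comap (QuotientGroup.mk' N)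

theorem mem_ZN {N : Subgroup G} [N.Normal] {z : G} : z ∈ ZN N ↔ ∀ g : G, g * z * g⁻¹ * z⁻¹ ∈ N := by
  unfold ZN
  rw [mem_comap, mem_center_iff]
  constructor
  · intro h g
    rw [← QuotientGroup.eq_one_iff]
    show (QuotientGroup.mk' N) (g * z * g⁻¹ * z⁻¹) = 1
    have h1 := h (QuotientGroup.mk' N g)
    simp only [map_mul, map_inv]
    rw [h1]
    group
  · intro h g
    obtain ⟨g, rfl⟩ := QuotientGroup.mk'_surjective N g
    have h1 : (QuotientGroup.mk' N) (g * z * g⁻¹ * z⁻¹) = 1 := (QuotientGroup.eq_one_iff _).2 (h g)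
    simp only [map_mul, map_inv] at h1
    exact mul_inv_eq_iff_eq_mul.1 (mul_inv_eq_one.1 h1)

theorem center_le_ZN (N : Subgroup G) [N.Normal] : center G ≤ ZN N := by
  intro z hz
  rw [mem_ZN]
  intro g
  rw [mem_center_iff.1 hz g, mul_inv_cancel_right, mul_inv_cancel]
  exact N.one_mem

theorem index_ZN (N : Subgroup G) [N.Normal] : (ZN N).index = (center (G ⧸ N)).index :=
  index_comap_of_surjective _ (QuotientGroup.mk'_surjective N)

/-- structure of `Z(G/N)` when it is cyclic and `N` is central of order `p` -/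
theorem exists_gen_ZN {N : Subgroup G} [N.Normal] (hNc : N ≤ center G) (hNp : Nat.card N = p)
    (hcyc : IsCyclic (center (G ⧸ N))) : ∃ c ∈ ZN N, c ^ p ∈ center G ∧
      ∀ x ∈ ZN N, ∃ k : ℤ, x * c ^ k ∈ center G := by
  obtain ⟨⟨c', hc'⟩, hgen⟩ := hcyc.exists_generator
  obtain ⟨c, rfl⟩ := QuotientGroup.mk'_surjective N c'
  have hcZ : c ∈ ZN N := hc'
  refine ⟨c, hcZ, ?_, ?_⟩
  · rw [mem_center_iff]
    intro g
    have h1 := mem_ZN.1 hcZ g
    set n := g * c * g⁻¹ * c⁻¹ with hn
    have h2 : g * c * g⁻¹ = n * c := by rw [hn]; group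
    have h3 : Commute n c := (mem_center_iff.1 (hNc h1) c).symm
    have h4 : n ^ p = 1 := by
      have h5 : (⟨n, h1⟩ : N) ^ Nat.card N = 1 := pow_card_eq_one'
      rw [hNp] at h5
      exact congrArg Subtype.val h5
    have h6 : g * c ^ p * g⁻¹ = c ^ p := by
      rw [← conj_pow, h2, h3.mul_pow, h4, one_mul]
    exact mul_inv_eq_iff_eq_mul.1 h6
  · intro x hx
    obtain ⟨k, hk⟩ := mem_zpowers_iff.1 (hgen ⟨_, hx⟩)
    refine ⟨-k, hNc ?_⟩
    rw [← QuotientGroup.eq_one_iff]
    have h1 : (QuotientGroup.mk' N) c ^ k = (QuotientGroup.mk' N) x := congrArg Subtype.val hk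
    show (QuotientGroup.mk' N) (x * c ^ (-k)) = 1
    rw [map_mul, map_zpow, ← h1, ← zpow_add, add_neg_cancel, zpow_zero]

theorem relIndex_ZN {N : Subgroup G} [N.Normal] (hNc : N ≤ center G) (hNp : Nat.card N = p)
    (hcyc : IsCyclic (center (G ⧸ N))) : (center G).relIndex (ZN N) ∣ p := by
  obtain ⟨c, hcZ, hcp, hgen⟩ := exists_gen_ZN hNc hNp hcyc
  have h1 : (center G).relIndex (ZN N) = Nat.card ((ZN N) ⧸ (center G).subgroupOf (ZN N)) := by
    rw [relIndex, index_eq_card]
  rw [h1]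
  set q := QuotientGroup.mk' ((center G).subgroupOf (ZN N)) with hq
  have h2 : zpowers (q ⟨c, hcZ⟩) = ⊤ := by
    rw [eq_top_iff]
    rintro y -
    obtain ⟨⟨x, hx⟩, rfl⟩ := QuotientGroup.mk'_surjective _ y
    obtain ⟨k, hk⟩ := hgen x hx
    rw [mem_zpowers_iff]
    refine ⟨-k, ?_⟩
    rw [← map_zpow]
    show (QuotientGroup.mk _ : (ZN N) ⧸ (center G).subgroupOf (ZN N)) = QuotientGroup.mk _
    rw [QuotientGroup.eq, mem_subgroupOf]
    have h3 : (((⟨c, hcZ⟩ : ZN N) ^ (-k))⁻¹ * (⟨x, hx⟩ : ZN N) : G) = c ^ k * x := by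
      push_cast
      rw [zpow_neg, inv_inv]
    show (((⟨c, hcZ⟩ : ZN N) ^ (-k))⁻¹ * (⟨x, hx⟩ : ZN N) : G) ∈ center G
    rw [h3]
    have h4 : c ^ k * x = c ^ k * (x * c ^ k) * (c ^ k)⁻¹ := by group
    rw [h4]
    exact (inferInstance : (center G).Normal).conj_mem _ hk _
  rw [← Subgroup.card_top (G := (ZN N) ⧸ (center G).subgroupOf (ZN N)), ← h2, Nat.card_zpowers]
  apply orderOf_dvd_of_pow_eq_one
  rw [← map_pow]
  exact (QuotientGroup.eq_one_iff _).2 (mem_subgroupOf.2 hcp)

/-- parity -/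
theorem parity {a b i j m : ℕ} (ha : a ≠ 0) (hb : b ≠ 0) (hi : i ∣ p) (hj : j ∣ p)
    (h1 : i * (a * a) = m) (h2 : j * (b * b) = m) : a = b := by
  have hpp := hp.out
  have key : ∀ a b : ℕ, a ≠ 0 → b ≠ 0 → p * (a * a) ≠ b * b := by
    intro a b ha hb h
    have h3 : (p * (a * a)).factorization p = (b * b).factorization p := by rw [h]
    rw [Nat.factorization_mul hpp.ne_zero (mul_ne_zero ha ha), Nat.factorization_mul ha ha,
      Nat.factorization_mul hb hb] at h3
    simp only [Finsupp.coe_add, Pi.add_apply, hpp.factorization_self] at h3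
    omega
  rcases (Nat.dvd_prime hpp).1 hi with rfl | rfl <;> rcases (Nat.dvd_prime hpp).1 hj with rfl | rfl
  · rw [one_mul] at h1 h2
    exact Nat.mul_self_inj.1 (h1.trans h2.symm)
  · exfalso
    rw [one_mul] at h1
    exact key b a hb ha (h2.trans h1.symm)
  · exfalso
    rw [one_mul] at h2
    exact key a b ha hb (h1.trans h2.symm)
  · exact Nat.mul_self_inj.1 (Nat.eq_of_mul_eq_mul_left hpp.pos (h1.trans h2.symm))


/-- the hypothesis available in a minimal counterexample -/
def Hyp (p : ℕ) (G : Type u) [Group G] : Prop :=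
  ∀ (N : Subgroup G) [N.Normal], N ≤ commutator G → N ≤ center G → Nat.card N = p →
    Nat.card (commutator (G ⧸ N)) = p ∧ IsCyclic (center (G ⧸ N))

theorem isPGroup_quot (hG : IsPGroup p G) (N : Subgroup G) [N.Normal] : IsPGroup p (G ⧸ N) :=
  hG.to_quotient N

/-- the degree of a nonlinear character of `G/N` -/
theorem deg_ZN (hG : IsPGroup p G) (hH : Hyp p G) {N : Subgroup G} [N.Normal]
    (hN' : N ≤ commutator G) (hNc : N ≤ center G) (hNp : Nat.card N = p) {χ : IrrCharacter G}
    (hχ1 : (χ : G → ℂ) 1 ≠ 1) (hχN : N ≤ K χ) :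
    (χ : G → ℂ) 1 * (χ : G → ℂ) 1 = ((ZN N).index : ℂ) := by
  obtain ⟨ψ, hψ, hψχ⟩ := χ.2.deflate N (fun n hn => mem_K.1 (hχN hn))
  have h1 : ψ 1 = (χ : G → ℂ) 1 := hψχ 1
  have h2 := fully_of_card (G := G ⧸ N) (hG.to_quotient N) (hH N hN' hNc hNp).1 (χ := ⟨ψ, hψ⟩)
    (by show ψ 1 ≠ 1; rw [h1]; exact hχ1)
  have h3 : ψ 1 * ψ 1 = ((center (G ⧸ N)).index : ℂ) := h2
  rw [h1] at h3
  rw [h3, index_ZN]

/-- parity form -/
theorem deg_ZN' (hG : IsPGroup p G) (hH : Hyp p G) {N : Subgroup G} [N.Normal]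
    (hN' : N ≤ commutator G) (hNc : N ≤ center G) (hNp : Nat.card N = p) {χ : IrrCharacter G}
    (hχ1 : (χ : G → ℂ) 1 ≠ 1) (hχN : N ≤ K χ) {d : ℕ} (hd : (χ : G → ℂ) 1 = d) :
    (center G).relIndex (ZN N) * (d * d) = (center G).index := by
  have h1 := deg_ZN hG hH hN' hNc hNp hχ1 hχN
  rw [hd] at h1
  have h2 : d * d = (ZN N).index := by exact_mod_cast h1
  rw [h2]
  exact relIndex_mul_index (center_le_ZN N)

theorem normal_of_le_center {N : Subgroup G} (hNc : N ≤ center G) : N.Normal :=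
  ⟨fun n hn g => by rw [mem_center_iff.1 (hNc hn) g, mul_inv_cancel_right]; exact hn⟩

/-- **Case A**: `G' ≤ Z(G)`. -/
theorem caseA (hG : IsPGroup p G) (hs : Star G) (hH : Hyp p G)
    (hc : Nat.card (commutator G) = p ^ 2) (hle : commutator G ≤ center G) {N : Subgroup G}
    [hNn : N.Normal] (hN' : N ≤ commutator G) (hNp : Nat.card N = p) : False := by
  have hNc := hN'.trans hle
  have hpp := hp.out
  have hN1 : N ≠ ⊥ := by
    rintro rfl
    rw [card_bot] at hNp
    exact hpp.one_lt.ne hNp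
  have hlt : ¬ commutator G ≤ N := by
    intro h
    have h1 := card_dvd_of_le h
    rw [hc, hNp] at h1
    have h2 := Nat.le_of_dvd hpp.pos h1
    have h3 := hpp.one_lt
    nlinarith
  obtain ⟨ψ, hψN, hψ1⟩ := exists_nonlin hlt
  obtain ⟨χ, hχN⟩ := exists_not_ker hN1
  have hχ1 := nonlin_of_not_ker hN' hχN
  obtain ⟨a, ha0, ha⟩ := ψ.2.exists_degree
  obtain ⟨b, hb0, hb⟩ := χ.2.exists_degree
  have h1 := deg_ZN' hG hH hN' hNc hNp hψ1 hψN ha
  have hri := relIndex_ZN hNc hNp (hH N hN' hNc hNp).2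
  have hab : a = b → False := by
    intro hab
    apply hχN
    apply hψN.trans
    apply hs.ker hψ1
    rw [ha, hb, hab]
  set L := commutator G ⊓ K χ with hL
  have hLc : L ≤ center G := inf_le_left.trans hle
  haveI hLn : L.Normal := normal_of_le_center hLc
  by_cases hL1 : L = ⊥
  · apply hab
    have h2 : (χ : G → ℂ) 1 * (χ : G → ℂ) 1 = ((center G).index : ℂ) := by
      apply fully χ.2
      intro x hx
      rw [mem_center_iff] at hx
      push Not at hx
      obtain ⟨y, hy⟩ := hx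
      have hc' : y * x * y⁻¹ * x⁻¹ ∈ commutator G := commutator_mem_commutator (mem_top y) (mem_top x)
      apply vanish χ.2 (y := y) (hle hc')
      intro h2
      have h3 : y * x * y⁻¹ * x⁻¹ ∈ L := ⟨hc', mem_K.2 h2⟩
      rw [hL1, mem_bot] at h3
      apply hy
      exact mul_inv_eq_iff_eq_mul.1 (mul_inv_eq_one.1 h3)
    rw [hb] at h2
    have h3 : 1 * (b * b) = (center G).index := by rw [one_mul]; exact_mod_cast h2
    exact parity ha0.ne' hb0.ne' hri (one_dvd p) h1 h3
  · have hLp : Nat.card L = p := by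
      have h2 : Nat.card L ∣ p ^ 2 := by rw [← hc]; exact card_dvd_of_le inf_le_left
      obtain ⟨i, hi, hi'⟩ := (Nat.dvd_prime_pow hpp).1 h2
      interval_cases i
      · exfalso; apply hL1; exact card_eq_one.1 (by rw [hi', pow_zero])
      · rw [hi', pow_one]
      · exfalso
        have h3 : L = commutator G := eq_of_le_of_card_ge inf_le_left (by rw [hi', hc])
        exact hχN (hN'.trans (by rw [← h3]; exact inf_le_right))
    have hL' : L ≤ commutator G := inf_le_left
    have h2 := deg_ZN' hG hH hL' hLc hLp hχ1 inf_le_right hb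
    have hri2 := relIndex_ZN hLc hLp (hH L hL' hLc hLp).2
    exact hab (parity ha0.ne' hb0.ne' hri hri2 h1 h2)

/-- the degree is at most the index of an abelian subgroup -/
theorem degree_le {χ : IrrCharacter G} {A : Subgroup G} (hA : ∀ a ∈ A, ∀ b ∈ A, a * b = b * a) {d : ℕ}
    (hd : (χ : G → ℂ) 1 = d) : d ≤ A.index := by
  obtain ⟨n, ρ, hρ, hρχ⟩ := χ.2
  have h1 := CharMisc.finrank_le_index ρ A hA
  rw [← hρχ, Representation.char_one] at hd
  have h2 : finrank ℂ (Fin n → ℂ) = d := by exact_mod_cast hd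
  rwa [h2] at h1

theorem degree_pow (hG : IsPGroup p G) {χ : IrrCharacter G} {d : ℕ}
    (hd : (χ : G → ℂ) 1 = d) : ∃ k, d = p ^ k := by
  obtain ⟨n, hn⟩ := IsPGroup.iff_card.1 hG
  obtain ⟨m, ρ, hρ, hρχ⟩ := χ.2
  have h1 := CharCentral.finrank_dvd_card ρ
  rw [← hρχ, Representation.char_one] at hd
  have h2 : finrank ℂ (Fin m → ℂ) = d := by exact_mod_cast hd
  rw [h2, hn] at h1
  obtain ⟨i, -, hi⟩ := (Nat.dvd_prime_pow hp.out).1 h1
  exact ⟨i, hi⟩


theorem eq_p_of_le {d : ℕ} (h1 : ∃ k, d = p ^ k) (h2 : d ≤ p) (h3 : d ≠ 1) : d = p := by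
  obtain ⟨k, rfl⟩ := h1
  have hpp := hp.out
  have h4 : k ≤ 1 := by
    by_contra h
    push Not at h
    have h5 : p ^ 1 < p ^ k := Nat.pow_lt_pow_right hpp.one_lt h
    rw [pow_one] at h5
    omega
  interval_cases k
  · simp at h3
  · rw [pow_one]

instance (N : Subgroup G) [N.Normal] : (ZN N).Normal := by
  unfold ZN; infer_instance

/-- **Case B**: `G'` is not central. -/
theorem caseB (hG : IsPGroup p G) (hs : Star G) (hH : Hyp p G)
    (hc : Nat.card (commutator G) = p ^ 2) (hnle : ¬ commutator G ≤ center G) {N : Subgroup G}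
    [hNn : N.Normal] (hN' : N ≤ commutator G) (hNc : N ≤ center G) (hNp : Nat.card N = p) : False := by
  classical
  have hpp := hp.out
  have hN1 : N ≠ ⊥ := by
    rintro rfl
    rw [card_bot] at hNp
    exact hpp.one_lt.ne hNp
  have hlt : ¬ commutator G ≤ N := fun h => hnle (h.trans hNc)
  obtain ⟨ψ, hψN, hψ1⟩ := exists_nonlin hlt
  obtain ⟨χ, hχN⟩ := exists_not_ker hN1
  have hχ1 := nonlin_of_not_ker hN' hχN
  obtain ⟨a, ha0, ha⟩ := ψ.2.exists_degree
  obtain ⟨b, hb0, hb⟩ := χ.2.exists_degree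
  have hab : a = b → False := by
    intro hab
    apply hχN
    apply hψN.trans
    apply hs.ker hψ1
    rw [ha, hb, hab]
  have hNH := hH N hN' hNc hNp
  obtain ⟨z, hzG, hzZ⟩ := SetLike.not_le_iff_exists.1 hnle
  set T := centralizer ({z} : Set G) with hT
  -- `G' ≤ Z_N`
  have hG'Z : commutator G ≤ ZN N := by
    intro x hx
    have h1 := le_center_of_card (G := G ⧸ N) (hG.to_quotient N) (N := commutator (G ⧸ N)) hNH.1
    apply h1
    have h2 : (commutator G).map (QuotientGroup.mk' N) ≤ commutator (G ⧸ N) := by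
      rw [commutator_def, commutator_def, map_commutator]
      exact commutator_mono le_top le_top
    exact h2 (mem_map_of_mem _ hx)
  -- the index of `T`
  have hTle : T.index ≤ p := by
    have hz := mem_ZN.1 (hG'Z hzG)
    let f : G ⧸ T → N := fun q => ⟨q.out * z * q.out⁻¹ * z⁻¹, hz _⟩
    have hf : Function.Injective f := by
      intro q q' h
      have h1 : q.out * z * q.out⁻¹ * z⁻¹ = q'.out * z * q'.out⁻¹ * z⁻¹ := congrArg Subtype.val h
      have h2 : q.out * z * q.out⁻¹ = q'.out * z * q'.out⁻¹ := mul_right_cancel h1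
      rw [← QuotientGroup.out_eq' q, ← QuotientGroup.out_eq' q', QuotientGroup.eq]
      refine mem_centralizer_singleton_iff.2 ?_
      have h3 : z * q.out⁻¹ * q'.out = q.out⁻¹ * q'.out * z := by
        have h4 : z * q.out⁻¹ * q'.out = q.out⁻¹ * (q.out * z * q.out⁻¹) * q'.out := by group
        rw [h4, h2]; group
      rw [← h3]; group
    have h1 := Nat.card_le_card_of_injective f hf
    rwa [hNp, ← index_eq_card] at h1
  have hT1 : T.index ≠ 1 := by
    rw [Ne, index_eq_one]
    intro h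
    apply hzZ
    rw [mem_center_iff]
    intro g
    have : g ∈ T := by rw [h]; trivial
    rw [hT, mem_centralizer_singleton_iff] at this
    exact this
  -- `G'` is abelian
  have hG'ab : ∀ x ∈ commutator G, ∀ y ∈ commutator G, x * y = y * x := by
    intro x hx y hy
    have h1 := IsPGroup.commutative_of_card_eq_prime_sq hc ⟨x, hx⟩ ⟨y, hy⟩
    exact congrArg Subtype.val h1
  have hzN : z ∉ N := fun h => hzZ (hNc h)
  -- `T` centralizes `G'`
  have hTG' : ∀ t ∈ T, ∀ x ∈ commutator G, t * x = x * t := by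
    set C := centralizer (T : Set G) ⊓ commutator G with hC
    have hNC : N ≤ C := by
      intro n hn
      exact ⟨mem_centralizer_iff.2 (fun t _ => mem_center_iff.1 (hNc hn) t), hN' hn⟩
    have hzC : z ∈ C := by
      refine ⟨mem_centralizer_iff.2 (fun t ht => ?_), hzG⟩
      exact mem_centralizer_singleton_iff.1 (show t ∈ centralizer ({z} : Set G) from ht)
    have h2 : Nat.card C ∣ p ^ 2 := by rw [← hc]; exact card_dvd_of_le inf_le_right
    obtain ⟨i, hi, hi'⟩ := (Nat.dvd_prime_pow hpp).1 h2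
    have hCG : C = commutator G := by
      interval_cases i
      · exfalso
        have h3 := card_dvd_of_le hNC
        rw [hNp, hi', pow_zero] at h3
        exact hpp.one_lt.ne' (Nat.dvd_one.1 h3)
      · exfalso
        rw [pow_one] at hi'
        have h3 := eq_of_le_of_card_ge hNC (by rw [hi', hNp])
        rw [h3] at hzN
        exact hzN hzC
      · exact eq_of_le_of_card_ge inf_le_right (by rw [hi', hc])
    intro t ht x hx
    rw [← hCG] at hx
    exact mem_centralizer_iff.1 hx.1 t ht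
  -- `Z(G) ∩ G' = N`
  have hZN : center G ⊓ commutator G = N := by
    set C := center G ⊓ commutator G with hC
    have hNC : N ≤ C := le_inf hNc hN'
    have h2 : Nat.card C ∣ p ^ 2 := by rw [← hc]; exact card_dvd_of_le inf_le_right
    obtain ⟨i, hi, hi'⟩ := (Nat.dvd_prime_pow hpp).1 h2
    interval_cases i
    · exfalso
      have h3 := card_dvd_of_le hNC
      rw [hNp, hi', pow_zero] at h3
      exact hpp.one_lt.ne' (Nat.dvd_one.1 h3)
    · rw [pow_one] at hi'
      exact (eq_of_le_of_card_ge hNC (by rw [hi', hNp])).symm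
    · exfalso
      have h3 : C = commutator G := eq_of_le_of_card_ge inf_le_right (by rw [hi', hc])
      apply hnle
      rw [← h3]
      exact inf_le_left
  -- `T / N` is abelian
  have hTN : ∀ x ∈ T, ∀ y ∈ T, x * y * (y * x)⁻¹ ∈ N := by
    intro x hx y hy
    rw [← hZN]
    constructor
    · refine mem_center_iff.2 (fun g => ?_)
      set u := g * x * g⁻¹ * x⁻¹ with hu
      set v := g * y * g⁻¹ * y⁻¹ with hv
      have huG : u ∈ commutator G := commutator_mem_commutator (mem_top g) (mem_top x)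
      have hvG : v ∈ commutator G := commutator_mem_commutator (mem_top g) (mem_top y)
      have h1 : g * (x * y * (y * x)⁻¹) * g⁻¹ = (u * x) * (v * y) * ((v * y) * (u * x))⁻¹ := by
        rw [hu, hv]; group
      have h2 : (u * x) * (v * y) = (u * v) * (x * y) := by
        rw [mul_assoc, ← mul_assoc x v y, hTG' x hx v hvG]; group
      have h3 : (v * y) * (u * x) = (u * v) * (y * x) := by
        rw [mul_assoc, ← mul_assoc y u x, hTG' y hy u huG, hG'ab u huG v hvG]; group
      have h4 : (u * v) * (x * y * (y * x)⁻¹) = (x * y * (y * x)⁻¹) * (u * v) :=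
        (hTG' _ (T.mul_mem (T.mul_mem hx hy) (T.inv_mem (T.mul_mem hy hx))) _
          (mul_mem huG hvG)).symm
      have h5 : g * (x * y * (y * x)⁻¹) * g⁻¹ = x * y * (y * x)⁻¹ := by
        rw [h1, h2, h3, mul_inv_rev (u * v) (y * x), ← mul_assoc, mul_assoc (u * v) (x * y), h4,
          mul_inv_cancel_right]
      exact mul_inv_eq_iff_eq_mul.1 h5
    · have h1 : x * y * (y * x)⁻¹ = ⁅x, y⁆ := by rw [commutatorElement_def]; group
      rw [h1]
      exact commutator_mem_commutator (mem_top x) (mem_top y)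
  -- the degree of `ψ` is `p`
  have hap : a = p := by
    apply eq_p_of_le (degree_pow hG ha)
    · obtain ⟨ψ', hψ', hψψ'⟩ := ψ.2.deflate N (fun n hn => mem_K.1 (hψN hn))
      have h1 : ψ' 1 = (a : ℂ) := by rw [← ha]; exact hψψ' 1
      have h2 : a ≤ (T.map (QuotientGroup.mk' N)).index := by
        apply degree_le (χ := ⟨ψ', hψ'⟩) _ h1
        rintro _ ⟨x, hx, rfl⟩ _ ⟨y, hy, rfl⟩
        have h3 : (QuotientGroup.mk' N) (x * y * (y * x)⁻¹) = 1 :=
          (QuotientGroup.eq_one_iff _).2 (hTN x hx y hy)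
        rw [map_mul, map_inv, mul_inv_eq_one, map_mul, map_mul] at h3
        exact h3
      have h3 : (T.map (QuotientGroup.mk' N)).index ∣ T.index :=
        index_map_dvd T (QuotientGroup.mk'_surjective N)
      exact h2.trans ((Nat.le_of_dvd (Nat.pos_of_ne_zero index_ne_zero_of_finite) h3).trans hTle)
    · rintro rfl
      exact hψ1 (by rw [ha, Nat.cast_one])
  have hidx : (ZN N).index = p ^ 2 := by
    have h1 := deg_ZN hG hH hN' hNc hNp hψ1 hψN
    rw [ha, hap] at h1
    have h2 : p * p = (ZN N).index := by exact_mod_cast h1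
    rw [← h2, sq]
  -- `Z_N` is centralized by `T`
  obtain ⟨c, hcZ, hcp, hgen⟩ := exists_gen_ZN hNc hNp hNH.2
  have hZab : ∀ x ∈ ZN N, ∀ y ∈ ZN N, x * y = y * x := by
    intro x hx y hy
    obtain ⟨k, hk⟩ := hgen x hx
    obtain ⟨l, hl⟩ := hgen y hy
    have h1 : x = (x * c ^ k) * c ^ (-k) := by group
    have h2 : y = (y * c ^ l) * c ^ (-l) := by group
    have e1 : ∀ g, Commute (x * c ^ k) g := fun g => (mem_center_iff.1 hk g).symm
    have e2 : ∀ g, Commute (y * c ^ l) g := fun g => (mem_center_iff.1 hl g).symm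
    rw [h1, h2]
    exact ((e1 _).mul_left (((e2 _).symm.mul_right ((Commute.refl c).zpow_zpow _ _))))
  have hZT : ZN N ≤ T := by
    intro x hx
    rw [hT, mem_centralizer_singleton_iff]
    exact hZab x hx z (hG'Z hzG)
  have hTZ : ∀ t ∈ T, ∀ x ∈ ZN N, t * x = x * t := by
    set C := centralizer (T : Set G) ⊓ ZN N with hC
    have h1 : center G ≤ C := by
      intro n hn
      exact ⟨mem_centralizer_iff.2 (fun t _ => mem_center_iff.1 hn t), center_le_ZN N hn⟩
    have hzC : z ∈ C := by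
      exact ⟨mem_centralizer_iff.2 (fun t ht => hTG' t ht z hzG), hG'Z hzG⟩
    have h2 := relIndex_ZN hNc hNp hNH.2
    have h3 := relIndex_mul_relIndex (center G) C (ZN N) h1 inf_le_right
    have h4 : (center G).relIndex C ≠ 1 := by
      rw [Ne, relIndex_eq_one]
      exact fun h => hzZ (h hzC)
    have h5 : C.relIndex (ZN N) = 1 := by
      rw [← h3] at h2
      rcases (Nat.dvd_prime hpp).1 (dvd_trans (dvd_mul_right _ _) h2) with h6 | h6
      · exact absurd h6 h4
      · rw [h6] at h2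
        have h7 : p * C.relIndex (ZN N) ∣ p * 1 := by rw [mul_one]; exact h2
        exact Nat.dvd_one.1 (Nat.dvd_of_mul_dvd_mul_left hpp.pos h7)
    rw [relIndex_eq_one] at h5
    intro t ht x hx
    exact mem_centralizer_iff.1 (h5 hx).1 t ht
  have hTp : T.index = p := by
    have h1 : T.index ∣ p ^ 2 := by rw [← hidx]; exact index_dvd_of_le hZT
    obtain ⟨i, -, hi⟩ := (Nat.dvd_prime_pow hpp).1 h1
    exact eq_p_of_le ⟨i, hi⟩ hTle hT1
  have hrel : (ZN N).relIndex T = p := by
    have h1 := relIndex_mul_index hZT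
    rw [hTp, hidx, sq] at h1
    exact Nat.eq_of_mul_eq_mul_right hpp.pos h1
  have hTab : ∀ x ∈ T, ∀ y ∈ T, x * y = y * x := by
    intro x hx y hy
    haveI : IsCyclic (T ⧸ (ZN N).subgroupOf T) := by
      apply isCyclic_of_prime_card (p := p)
      rw [← index_eq_card]
      exact hrel
    have h1 := commutative_of_cyclic_center_quotient (QuotientGroup.mk' ((ZN N).subgroupOf T)) (by
      rw [QuotientGroup.ker_mk']
      intro w hw
      rw [mem_center_iff]
      intro t
      exact Subtype.ext (hTZ t t.2 w (mem_subgroupOf.1 hw))) ⟨x, hx⟩ ⟨y, hy⟩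
    exact congrArg Subtype.val h1
  apply hab
  rw [hap]
  symm
  apply eq_p_of_le (degree_pow hG hb)
  · rw [← hTp]; exact degree_le hTab hb
  · rintro rfl
    exact hχ1 (by rw [hb, Nat.cast_one])


omit [Finite G] hp in
theorem commutator_le_of_comm {N : Subgroup G} [N.Normal] (h : ∀ a b : G ⧸ N, a * b = b * a) :
    commutator G ≤ N := by
  rw [commutator_def, commutator_le]
  intro a _ b _
  rw [← QuotientGroup.eq_one_iff, commutatorElement_def]
  show (QuotientGroup.mk' N) (a * b * a⁻¹ * b⁻¹) = 1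
  simp only [map_mul, map_inv]
  rw [h (QuotientGroup.mk' N a) (QuotientGroup.mk' N b)]
  group

theorem card_commutator_of_star (n : ℕ) : ∀ (G : Type u) [Group G] [Finite G], Nat.card G = n →
    IsPGroup p G → (¬ ∀ a b : G, a * b = b * a) → Star G → Nat.card (commutator G) = p := by
  induction n using Nat.strong_induction_on with
  | _ n ih =>
    intro G _ _ hn hG hnc hs
    have hpp := hp.out
    by_contra hne
    have hG'1 : commutator G ≠ ⊥ := by
      intro h
      apply hnc
      intro a b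
      have h1 : ⁅a, b⁆ ∈ commutator G := commutator_mem_commutator (mem_top a) (mem_top b)
      rw [h, mem_bot, commutatorElement_eq_one_iff_mul_comm] at h1
      exact h1
    have hnot : ∀ N : Subgroup G, Nat.card N = p → ¬ commutator G ≤ N := by
      intro N hN h
      rcases eq_bot_or_eq (p := p) hN h with h1 | h1
      · exact hG'1 h1
      · exact hne (by rw [h1, hN])
    have hH : Hyp p G := by
      intro N _ hN' hNc hNp
      have h1 : Nat.card (G ⧸ N) < n := by
        have h2 := card_eq_card_quotient_mul_card_subgroup N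
        rw [hn, hNp] at h2
        have h3 : 0 < Nat.card (G ⧸ N) := Nat.card_pos
        have h4 := hpp.one_lt
        nlinarith
      have h5 : ¬ ∀ a b : G ⧸ N, a * b = b * a := fun h => hnot N hNp (commutator_le_of_comm h)
      have h6 := ih _ h1 (G ⧸ N) rfl (hG.to_quotient N) h5 (hs.quot N)
      exact ⟨h6, cyclic_center (hG.to_quotient N) (hs.quot N) h6⟩
    -- a central subgroup of order `p` in `G'`
    obtain ⟨z0, hz0G, hz01, hz0⟩ := UniqueInvolution.exists_central_of_normal hG (commutator G) hG'1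
    obtain ⟨z, hzo⟩ : ∃ z : (center G ⊓ commutator G : Subgroup G), orderOf z = p := by
      apply exists_prime_orderOf_dvd_card'
      have h1 : IsPGroup p (center G ⊓ commutator G : Subgroup G) := hG.to_subgroup _
      haveI : Nontrivial (center G ⊓ commutator G : Subgroup G) := by
        rw [Subgroup.nontrivial_iff_ne_bot]
        intro h
        apply hz01
        have : z0 ∈ center G ⊓ commutator G := ⟨mem_center_iff.2 hz0, hz0G⟩
        rw [h] at this
        exact this
      obtain ⟨m, hm0, hm⟩ := h1.nontrivial_iff_card.1 this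
      rw [hm]
      exact dvd_pow_self p hm0.ne'
    set N := zpowers (z : G) with hN
    have hNc : N ≤ center G := by rw [hN, zpowers_le]; exact z.2.1
    have hN' : N ≤ commutator G := by rw [hN, zpowers_le]; exact z.2.2
    have hNp : Nat.card N = p := by rw [hN, Nat.card_zpowers, Subgroup.orderOf_coe, hzo]
    haveI hNn : N.Normal := normal_of_le_center hNc
    have hc : Nat.card (commutator G) = p ^ 2 := by
      have h1 := (hH N hN' hNc hNp).1
      have h2 : commutator (G ⧸ N) = (commutator G).map (QuotientGroup.mk' N) := by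
        rw [commutator_def, commutator_def, map_commutator,
          map_top_of_surjective _ (QuotientGroup.mk'_surjective N)]
      rw [h2, ← relIndex_ker, QuotientGroup.ker_mk'] at h1
      have h3 := relIndex_mul_relIndex (⊥ : Subgroup G) N (commutator G) bot_le hN'
      rw [relIndex_bot_left, relIndex_bot_left, h1, hNp] at h3
      rw [← h3, sq]
    by_cases hle : commutator G ≤ center G
    · exact caseA hG hs hH hc hle hN' hNp
    · exact caseB hG hs hH hc hle hN' hNc hNp

theorem faithful_of (hG : IsPGroup p G) (hcyc : IsCyclic (center G)) (hc : Nat.card (commutator G) = p)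
    {χ : IrrCharacter G} (hχ1 : (χ : G → ℂ) 1 ≠ 1) : K χ = ⊥ := by
  by_contra hK
  have hle := le_center_of_card hG hc
  obtain ⟨z0, hz0K, hz01, hz0⟩ := UniqueInvolution.exists_central_of_normal hG (K χ) hK
  have hpp := hp.out
  obtain ⟨m, hm⟩ := (IsPGroup.iff_orderOf.1 hG) z0
  have hm0 : m ≠ 0 := by
    rintro rfl
    rw [pow_zero, orderOf_eq_one_iff] at hm
    exact hz01 hm
  obtain ⟨m, rfl⟩ := Nat.exists_eq_succ_of_ne_zero hm0
  set z := z0 ^ p ^ m with hz
  have hzo : orderOf z = p := by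
    rw [hz, orderOf_pow_of_dvd (pow_ne_zero _ hpp.ne_zero) (by rw [hm]; exact pow_dvd_pow p (Nat.le_succ m)), hm,
      Nat.succ_eq_add_one, pow_succ, Nat.mul_div_cancel_left _ (pow_pos hpp.pos m)]
  have hzK : z ∈ K χ := pow_mem hz0K _
  have hzC : z ∈ center G := pow_mem (mem_center_iff.2 hz0) _
  -- in the cyclic centre the subgroup of order `p` is unique
  have h1 : (zpowers z).subgroupOf (center G) = (commutator G).subgroupOf (center G) := by
    haveI := hcyc
    apply TransferApps.cyclic_subgroup_eq_of_card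
    rw [Nat.card_congr (subgroupOfEquivOfLe (by rw [zpowers_le]; exact hzC)).toEquiv,
      Nat.card_congr (subgroupOfEquivOfLe hle).toEquiv, Nat.card_zpowers, hzo, hc]
  have h2 : commutator G ≤ K χ := by
    intro x hx
    have h3 : (⟨x, hle hx⟩ : center G) ∈ (zpowers z).subgroupOf (center G) := by
      rw [h1]; exact hx
    have h4 : x ∈ zpowers z := h3
    exact (zpowers_le.2 hzK) h4
  exact hχ1 (lin_of_ker h2)

theorem star_of (hG : IsPGroup p G) (hcyc : IsCyclic (center G)) (hc : Nat.card (commutator G) = p) :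
    Star G := by
  classical
  have hpp := hp.out
  have hle := le_center_of_card hG hc
  intro χ ψ hχ1 hdeg
  have hψ1 : (ψ : G → ℂ) 1 ≠ 1 := by rw [← hdeg]; exact hχ1
  obtain ⟨⟨c, hcZ⟩, hgen⟩ := hcyc.exists_generator
  -- description of a nonlinear character
  have hdesc : ∀ θ : IrrCharacter G, (θ : G → ℂ) 1 ≠ 1 →
      ∃ ω : ℂ, IsPrimitiveRoot ω (orderOf c) ∧ (∀ j : ℕ, (θ : G → ℂ) (c ^ j) = ω ^ j * (θ : G → ℂ) 1) ∧
        ∀ x, x ∉ center G → (θ : G → ℂ) x = 0 := by
    intro θ hθ1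
    have hK := faithful_of hG hcyc hc hθ1
    have hvan : ∀ x, x ∉ center G → (θ : G → ℂ) x = 0 := by
      intro x hx
      rw [mem_center_iff] at hx
      push Not at hx
      obtain ⟨y, hy⟩ := hx
      have hc' : y * x * y⁻¹ * x⁻¹ ∈ commutator G := commutator_mem_commutator (mem_top y) (mem_top x)
      apply vanish θ.2 (y := y) (hle hc')
      intro h2
      have h3 : y * x * y⁻¹ * x⁻¹ ∈ K θ := mem_K.2 h2
      rw [hK, mem_bot] at h3
      apply hy
      exact mul_inv_eq_iff_eq_mul.1 (mul_inv_eq_one.1 h3)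
    obtain ⟨n, ρ, hρ, hρθ⟩ := θ.2
    obtain ⟨ω, hω⟩ := CharCentral.exists_scalar_of_commute ρ (ρ c) (by
      intro g v
      rw [← Module.End.mul_apply, ← Module.End.mul_apply, ← map_mul, ← map_mul,
        (Subgroup.mem_center_iff.1 hcZ) g])
    have hval : ∀ j : ℕ, (θ : G → ℂ) (c ^ j) = ω ^ j * (θ : G → ℂ) 1 := by
      intro j
      rw [← hρθ]
      show LinearMap.trace ℂ _ _ = ω ^ j * LinearMap.trace ℂ _ _
      rw [map_pow, hω, smul_pow, map_one, map_smul, smul_eq_mul]
      congr 2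
      exact one_pow j
    refine ⟨ω, ?_, hval, hvan⟩
    have h1 : ∀ j : ℕ, ω ^ j = 1 ↔ c ^ j = 1 := by
      intro j
      constructor
      · intro h
        have h2 : c ^ j ∈ K θ := by
          rw [mem_K, hval, h, one_mul]
        rwa [hK, mem_bot] at h2
      · intro h
        have h2 := hval j
        rw [h] at h2
        have h3 : (1 : ℂ) * (θ : G → ℂ) 1 = ω ^ j * (θ : G → ℂ) 1 := by rw [one_mul]; exact h2
        exact (mul_right_cancel₀ θ.2.one_ne_zero h3).symm
    refine ⟨(h1 _).2 (pow_orderOf_eq_one c), fun l hl => ?_⟩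
    exact orderOf_dvd_of_pow_eq_one ((h1 l).1 hl)
  obtain ⟨ω, hω, hχv, hχ0⟩ := hdesc χ hχ1
  obtain ⟨ω', hω', hψv, hψ0⟩ := hdesc ψ hψ1
  have hn0 : NeZero (orderOf c) := ⟨(orderOf_pos c).ne'⟩
  obtain ⟨k, hkn, hkc, hk⟩ := (hω.isPrimitiveRoot_iff).1 hω'
  -- `p` divides the order of `c`
  have hpc : p ∣ orderOf c := by
    have h1 : Nat.card (center G) = orderOf c := by
      rw [← Subgroup.orderOf_mk c hcZ]
      exact (orderOf_eq_card_of_forall_mem_zpowers hgen).symm
    rw [← h1, ← hc]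
    exact card_dvd_of_le hle
  have hkG : Nat.Coprime k (Nat.card G) := by
    obtain ⟨m, hm⟩ := IsPGroup.iff_card.1 hG
    rw [hm]
    exact Nat.Coprime.pow_right _ (Nat.Coprime.coprime_dvd_right hpc hkc)
  refine ⟨k, hkG, ?_⟩
  intro g
  by_cases hg : g ∈ center G
  · obtain ⟨j, hj⟩ := (mem_powers_iff_mem_zpowers.2 (hgen ⟨g, hg⟩))
    have hj' : c ^ j = g := congrArg Subtype.val hj
    rw [← hj', hψv, ← pow_mul, hχv, ← hk, hdeg, ← pow_mul, mul_comm k j]
  · rw [hψ0 g hg, hχ0]
    intro h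
    apply hg
    obtain ⟨r, hr⟩ := exists_pow_eq_self_of_coprime (x := g) (n := k)
      (Nat.Coprime.coprime_dvd_right (orderOf_dvd_natCard g) hkG)
    rw [← hr]
    exact pow_mem h r

end Cfsg.Agent.Lib.GalConj
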