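import Mathlib
import Cfsg.Agent.Lib.DegGrD
import Cfsg.Agent.Lib.AutAlt
import Cfsg.Agent.Lib.ClSmall
import Cfsg.Agent.Lib.DegTools
import Cfsg.Agent.Lib.GalConj
import Cfsg.Agent.Lib.PBRatS

/-!
# Groups with a normal simple subgroup of order 60 (helper19)
-/

set_option autoImplicit false
set_option linter.all false

namespace Cfsg.Agent.Lib.DegGr

open Cfsg Subgroup Cfsg.Agent.Lib.DefOneLoc Cfsg.Agent.Lib.DefOneOrd Cfsg.Agent.Lib.CharBasic
open Cfsg.Agent.Lib.DefOneGram Cfsg.Agent.Lib.DefOne Cfsg.Agent.Lib.BRB0 Cfsg.Agent.Lib.BRCore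
open Cfsg.Agent.Lib.PBData Cfsg.Agent.Lib.DefOnePrin Cfsg.Agent.Lib.BlockThird Cfsg.Agent.Lib.SmallSimple
open Cfsg.Agent.Lib.PBNum Cfsg.Agent.Lib.PBExt Cfsg.Agent.Lib.PBStruct Cfsg.Agent.Lib.PBFull
open Cfsg.Agent.Lib.PBLocal Cfsg.Agent.Lib.A7Chars Cfsg.Agent.Lib.A7Table
open scoped ComplexConjugate

universe u v

/-- numerical check for the degree of the exceptional characters -/
def chk4 (p M b d : ℕ) : Bool :=
  (optsL (fun _ => true) p M b).all fun t => (1 + t.2.2.sum).natAbs == d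

theorem exc_aux {G : Type u} [Group G] [Fintype G] [IsSimpleGroup G] (hG : ¬ IsMulCommutative G) {p M d : ℕ} [hp : Fact p.Prime]
    (b : ℕ) (h : Nat.card G = p * M) (hM : ¬ p ∣ M) (hb : p * M < (b + 1) ^ 2) (hlen : lenOk (fun _ => true) p M b = true)
    (hchk : chk4 p M b d = true) : ∃ χ : IrrCharacter G, ColTools.deg χ = d := by
  classical
  obtain ⟨Q⟩ : Nonempty (Sylow p G) := inferInstance
  have hQ : Nat.card Q = p := (SylEven.data hG (p := p) (M := M) (by rw [h]) hM Q).1
  obtain ⟨D, i, ⟨B⟩⟩ := exists_PBE Q hQ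
  obtain ⟨hQ', e, c, l, hN, hC, he, he1, hecn, hmem, hl⟩ := dataL hG (M := M) b (fun _ => true) (by rw [h])
    hM hb B.toPB (fun _ _ => rfl) hlen
  rw [chk4, List.all_eq_true] at hchk
  have h1 := hchk _ hmem
  refine ⟨B.η, ?_⟩
  rw [← cdeg, ← natAbs_sd B.toPB, sd_eta, Int.natAbs_neg, ← hl, Multiset.sum_coe]
  simpa using h1

theorem exc {G : Type u} [Group G] [Finite G] [IsSimpleGroup G] (hG : ¬ IsMulCommutative G) {p M d : ℕ} (hp : p.Prime)
    (b : ℕ) (h : Nat.card G = p * M) (hM : ¬ p ∣ M) (hb : p * M < (b + 1) ^ 2) (hlen : lenOk (fun _ => true) p M b = true)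
    (hchk : chk4 p M b d = true) : ∃ χ : IrrCharacter G, ColTools.deg χ = d := by
  letI := Fintype.ofFinite G
  haveI : Fact p.Prime := ⟨hp⟩
  exact exc_aux hG b h hM hb hlen hchk

theorem cen_bot {N : Type u} [Group N] [IsSimpleGroup N] (hna : ¬ IsMulCommutative N) : center N = ⊥ := by
  rcases IsSimpleGroup.eq_bot_or_eq_top_of_normal (center N) inferInstance with h | h
  · exact h
  · exfalso
    apply hna
    refine ⟨⟨fun a b => ?_⟩⟩
    have h3 : b ∈ center N := by rw [h]; trivial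
    exact mem_center_iff.1 h3 a

theorem cent_bot {p : ℕ} (hp : p.Prime) {H : Type u} [Group H] [Finite H] (hsq : ¬ p ^ 2 ∣ Nat.card H) (hO : pPrimeCore p H = ⊥)
    (N : Subgroup H) [hNn : N.Normal] [hNs : IsSimpleGroup N] (hna : ¬ IsMulCommutative N) (hpN : p ∣ Nat.card N) :
    centralizer (N : Set H) = ⊥ := by
  haveI : Fact p.Prime := ⟨hp⟩
  have hCN : ∀ x : H, x ∈ centralizer (N : Set H) → x ∈ N → x = 1 := by
    intro x hx hxN
    have h1 : (⟨x, hxN⟩ : N) ∈ center N := by
      rw [mem_center_iff]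
      intro y
      exact Subtype.ext (mem_centralizer_iff.1 hx y y.2)
    rw [cen_bot hna, mem_bot] at h1
    exact congrArg Subtype.val h1
  rw [eq_bot_iff, ← hO]
  apply Cores.le_pPrimeCore inferInstance
  apply Nat.Coprime.symm
  rw [Nat.Prime.coprime_iff_not_dvd hp]
  intro h
  obtain ⟨x, hx⟩ := exists_prime_orderOf_dvd_card' (G := centralizer (N : Set H)) p h
  have hx1 : orderOf (x : H) = p := by rw [Subgroup.orderOf_coe, hx]
  have h2 : ¬ p ∣ N.index := by
    intro h
    apply hsq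
    rw [← Subgroup.card_mul_index N, pow_two]
    exact mul_dvd_mul hpN h
  have h3 : (x : H) ∈ N := by
    apply mem_of_orderOf_coprime_index
    rw [hx1]
    exact (Nat.Prime.coprime_iff_not_dvd hp).2 h2
  have h4 := hCN x x.2 h3
  rw [h4, orderOf_one] at hx1
  exact hp.one_lt.ne hx1

/-- embedding in the automorphism group -/
theorem conj_inj {H : Type u} [Group H] (N : Subgroup H) [N.Normal] (hC : centralizer (N : Set H) = ⊥) :
    Function.Injective (MulAut.conjNormal : H →* MulAut N) := by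
  rw [injective_iff_map_eq_one]
  intro h hh
  have h1 : h ∈ centralizer (N : Set H) := by
    rw [mem_centralizer_iff]
    intro y hy
    have h2 : (MulAut.conjNormal h) (⟨y, hy⟩ : N) = ⟨y, hy⟩ := by rw [hh]; rfl
    have h3 := congrArg Subtype.val h2
    rw [MulAut.conjNormal_apply] at h3
    have h4 : h * y * h⁻¹ = y := h3
    calc y * h = (h * y * h⁻¹) * h := by rw [h4]
      _ = h * y := by group
  rw [hC, mem_bot] at h1
  exact h1

/-- embedding in the symmetric group of degree five -/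
theorem emb_five {H : Type u} [Group H] [Finite H] (N : Subgroup H) [N.Normal] [IsSimpleGroup N] (hN : Nat.card N = 60)
    (hC : centralizer (N : Set H) = ⊥) : ∃ f : H →* Equiv.Perm (Fin 5), Function.Injective f := by
  obtain ⟨e⟩ := ClSmall.equiv_alternating_five (G := N) hN
  have h1 := AutAlt.bijective_conjNormal (α := Fin 5) (by simp) (by simp)
  let g : Equiv.Perm (Fin 5) ≃* MulAut ↥(alternatingGroup (Fin 5)) := MulEquiv.ofBijective _ h1
  let k : MulAut N ≃* MulAut ↥(alternatingGroup (Fin 5)) := MulAut.congr e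
  refine ⟨(g.symm : MulAut ↥(alternatingGroup (Fin 5)) →* Equiv.Perm (Fin 5)).comp ((k : MulAut N →* _).comp MulAut.conjNormal), ?_⟩
  exact g.symm.injective.comp (k.injective.comp (conj_inj N hC))

theorem cycle_five {σ : Equiv.Perm (Fin 5)} (h : orderOf σ = 5) : σ.cycleType = {5} := by
  obtain ⟨n, hn⟩ := Equiv.Perm.cycleType_prime_order (σ := σ) (by rw [h]; norm_num)
  have h1 := Equiv.Perm.sum_cycleType_le σ
  rw [hn, h, Multiset.sum_replicate, Fintype.card_fin, smul_eq_mul] at h1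
  have h2 : n = 0 := by omega
  rw [hn, h, h2]; rfl

theorem conj_five {H : Type u} [Group H] [Finite H] {f : H →* Equiv.Perm (Fin 5)} (hf : Function.Bijective f) {x y : H}
    (hx : orderOf x = 5) (hy : orderOf y = 5) : IsConj x y := by
  have h1 : IsConj (f x) (f y) := by
    rw [Equiv.Perm.isConj_iff_cycleType_eq, cycle_five (by rw [orderOf_injective f hf.1, hx]),
      cycle_five (by rw [orderOf_injective f hf.1, hy])]
  obtain ⟨c, hc⟩ := isConj_iff.1 h1
  obtain ⟨d, rfl⟩ := hf.2 c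
  exact isConj_iff.2 ⟨d, hf.1 (by rw [map_mul, map_mul, map_inv]; exact hc)⟩

theorem card_cases_60 {H : Type u} [Group H] [Finite H] (N : Subgroup H) [N.Normal] [IsSimpleGroup N] (hN : Nat.card N = 60)
    (hC : centralizer (N : Set H) = ⊥) : Nat.card H = 60 ∨ Nat.card H = 120 := by
  obtain ⟨f, hf⟩ := emb_five N hN hC
  have h1 : Nat.card H ∣ 120 := by
    have h2 := Subgroup.card_subgroup_dvd_card f.range
    rw [Nat.card_congr (MonoidHom.ofInjective hf).toEquiv.symm, Nat.card_perm, Nat.card_fin] at h2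
    exact h2
  have h2 : 60 ∣ Nat.card H := by rw [← hN]; exact card_subgroup_dvd_card N
  obtain ⟨k, hk⟩ := h2
  rw [hk] at h1
  have h3 : k ∣ 2 := by
    have : 60 * k ∣ 60 * 2 := h1
    exact Nat.dvd_of_mul_dvd_mul_left (by norm_num) this
  rcases (Nat.dvd_prime Nat.prime_two).1 h3 with h | h
  · left; rw [hk, h]
  · right; rw [hk, h]

end Cfsg.Agent.Lib.DegGr
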