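import Mathlib
import Cfsg.Agent.Lib.DegGrF

/-!
# A degree divisible by six in the symmetric group of degree five (helper19)
-/

set_option autoImplicit false
set_option linter.all false

namespace Cfsg.Agent.Lib.DegGr

open Cfsg Subgroup Cfsg.Agent.Lib.CharBasic
open scoped ComplexConjugate

universe u v

theorem dvd_deg_of_normal {H : Type u} [Group H] [Finite H] (N : Subgroup H) [N.Normal] (θ : IrrCharacter N) :
    ∃ χ : IrrCharacter H, ColTools.deg θ ∣ ColTools.deg χ := by
  obtain ⟨χ, hχ⟩ := DegTools.exists_dvd_of_normal N θ.2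
  refine ⟨χ, ?_⟩
  rw [← cdeg, ← cdeg]
  exact hχ

theorem inflate {H : Type u} [Group H] [Finite H] (K : Subgroup H) [K.Normal] (χ : IrrCharacter (H ⧸ K)) :
    ∃ ψ : IrrCharacter H, ColTools.deg ψ = ColTools.deg χ := by
  obtain ⟨ψ, hψ⟩ := DegTools.exists_inflate K χ
  exact ⟨ψ, by rw [← cdeg, ← cdeg]; exact hψ⟩

/-- the sum over a subgroup is a natural multiple of the order -/
theorem sum_nat {H : Type u} [Group H] [Finite H] (C : Subgroup H) [Fintype C] (χ : IrrCharacter H) :
    ∃ k : ℕ, ∑ c : C, (χ : H → ℂ) c = Nat.card C * k := by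
  have hchar : IsCharacter C (fun c : C => (χ : H → ℂ) c) := χ.2.isCharacter.restrict C
  obtain ⟨k, hk⟩ := hchar.classInner_nat (ColTools.triv C).2.isCharacter
  rw [classInner_def] at hk
  have hC0 : (Nat.card C : ℂ) ≠ 0 := by exact_mod_cast Nat.card_pos.ne'
  refine ⟨k, ?_⟩
  rw [← hk, ← mul_assoc, mul_inv_cancel₀ hC0, one_mul]
  refine Finset.sum_congr rfl fun c _ => ?_
  have : ((ColTools.triv C : IrrCharacter C) : C → ℂ) c = 1 := rfl
  rw [this, map_one, mul_one]

theorem norm_le_deg {G : Type u} [Group G] [Finite G] (χ : IrrCharacter G) (g : G) : ‖(χ : G → ℂ) g‖ ≤ ColTools.deg χ := by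
  obtain ⟨n, ρ, hρ, hρχ⟩ := χ.2
  have hdeg : (ColTools.deg χ : ℂ) = (Module.finrank ℂ (Fin n → ℂ) : ℂ) := by
    rw [← ColTools.apply_one, ← hρχ, Representation.char_one]
  have hdeg' : ColTools.deg χ = Module.finrank ℂ (Fin n → ℂ) := by exact_mod_cast hdeg
  have hle := CharValues.norm_character_le ρ g
  rw [hρχ] at hle
  rw [hdeg']
  exact hle

theorem deg_six {H : Type u} [Group H] [Finite H] (N : Subgroup H) [hNn : N.Normal] [hNs : IsSimpleGroup N] (hN : Nat.card N = 60)
    (hC : centralizer (N : Set H) = ⊥) (hH : Nat.card H = 120) : ∃ χ : IrrCharacter H, 6 ∣ ColTools.deg χ := by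
  classical
  letI := Fintype.ofFinite H
  have hna : ¬ IsMulCommutative N := by
    intro h
    have h1 : (N : Set H) ≤ centralizer (N : Set H) := by
      intro x hx
      rw [SetLike.mem_coe, mem_centralizer_iff]
      intro y hy
      exact congrArg Subtype.val (h.is_comm.comm (⟨y, hy⟩ : N) ⟨x, hx⟩)
    rw [hC] at h1
    have h2 : N ≤ ⊥ := h1
    rw [le_bot_iff] at h2
    rw [h2, Subgroup.card_bot] at hN
    norm_num at hN
  obtain ⟨θ, hθ⟩ := exc (G := N) hna (p := 5) (M := 12) (d := 3) (by norm_num) 7 (by rw [hN]) (by norm_num) (by norm_num)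
    (by decide +kernel) (by decide +kernel)
  obtain ⟨χ, hχ⟩ := dvd_deg_of_normal N θ
  rw [hθ] at hχ
  refine ⟨χ, ?_⟩
  have hd : ColTools.deg χ ∣ 120 := by rw [← hH]; exact ColTools.deg_dvd χ
  have hsq : ColTools.deg χ ^ 2 ≤ 120 := by
    rw [← hH, ← ColTools.sum_deg_sq]
    exact Finset.single_le_sum (f := fun χ : IrrCharacter H => ColTools.deg χ ^ 2) (fun _ _ => Nat.zero_le _) (Finset.mem_univ χ)
  have hle : ColTools.deg χ ≤ 10 := by
    by_contra h
    push Not at h
    have : 11 ^ 2 ≤ ColTools.deg χ ^ 2 := Nat.pow_le_pow_left h 2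
    omega
  have hpos := ColTools.deg_pos χ
  have hcases : ColTools.deg χ = 3 ∨ ColTools.deg χ = 6 := by
    revert hd hχ hpos hle
    generalize ColTools.deg χ = d
    intro h1 h2 h3 h4
    interval_cases d <;> first | (left; rfl) | (right; rfl) | (exfalso; revert h1 h2; decide)
  rcases hcases with h3 | h6
  swap
  · rw [h6]
  exfalso
  obtain ⟨f, hf⟩ := emb_five N hN hC
  have hfb : Function.Bijective f := by
    letI : Fintype H := Fintype.ofFinite H
    rw [Fintype.bijective_iff_injective_and_card]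
    refine ⟨hf, ?_⟩
    rw [Fintype.card_perm, Fintype.card_fin, ← Nat.card_eq_fintype_card, hH]
    rfl
  obtain ⟨u, hu⟩ := exists_prime_orderOf_dvd_card' (G := N) 5 (hp := ⟨by norm_num⟩) (by rw [hN]; norm_num)
  have hu' : orderOf (u : H) = 5 := by rw [Subgroup.orderOf_coe, hu]
  have hconj : ∀ x : H, orderOf x = 5 → (χ : H → ℂ) x = (χ : H → ℂ) u := by
    intro x hx
    exact (χ.2.isClassFunction.conj_eq (conj_five hfb hu' hx)).symm
  obtain ⟨q, hq⟩ := CharGalois.exists_rat_of_pow χ.2.isCharacter (u : H) (by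
    intro k hk
    apply hconj
    have h5 : k.Coprime 5 := by
      rw [hH] at hk
      exact Nat.Coprime.coprime_dvd_right (by norm_num) hk
    rw [Nat.Coprime.orderOf_pow (by rw [hu']; exact h5.symm), hu'])
  obtain ⟨z, hz⟩ := CharCentral.exists_int_of_isIntegral_rat (by obtain ⟨n, ρ, hρ⟩ := χ.2.isCharacter; rw [← hρ]; exact CharValues.isIntegral_character ρ (u : H)) q hq
  -- the sum over `⟨u⟩`
  obtain ⟨k, hk⟩ := sum_nat (zpowers (u : H)) χ
  have hcz : Nat.card (zpowers (u : H)) = 5 := by rw [Nat.card_zpowers, hu']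
  have hone : (χ : H → ℂ) 1 = 3 := by rw [ColTools.apply_one, h3]; norm_num
  have hsum : ∑ c : zpowers (u : H), (χ : H → ℂ) c = 3 + 4 * z := by
    rw [← Finset.add_sum_erase Finset.univ _ (Finset.mem_univ (1 : zpowers (u : H))), Subgroup.coe_one, hone,
      Finset.sum_congr rfl (g := fun _ => (z : ℂ)), Finset.sum_const, Finset.card_erase_of_mem (Finset.mem_univ _),
      Finset.card_univ, ← Nat.card_eq_fintype_card, hcz]
    · norm_num
    · intro x hx
      have hx1 : (x : H) ≠ 1 := fun h => Finset.ne_of_mem_erase hx (Subtype.ext h)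
      have h5 : orderOf (x : H) ∣ 5 := by
        rw [← hcz]; exact Subgroup.orderOf_dvd_natCard _ x.2
      rw [hconj _ (((Nat.dvd_prime (by norm_num)).1 h5).resolve_left (fun h => hx1 (orderOf_eq_one_iff.1 h))), hz]
  rw [hsum, hcz] at hk
  have hk' : 3 + 4 * z = 5 * (k : ℤ) := by exact_mod_cast hk
  have hn : |z| ≤ 3 := by
    have h1 := norm_le_deg χ (u : H)
    rw [hz, h3, Complex.norm_intCast] at h1
    exact_mod_cast h1
  have hz3 : z = 3 := by
    rw [abs_le] at hn
    obtain ⟨h1, h2⟩ := hn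
    omega
  have hK : (u : H) ∈ GalConj.K χ := GalConj.mem_K.2 (by rw [hz, hz3, hone]; norm_num)
  have hKN : N ≤ GalConj.K χ := by
    have hn2 : ((GalConj.K χ).subgroupOf N).Normal := inferInstance
    rcases IsSimpleGroup.eq_bot_or_eq_top_of_normal _ hn2 with h | h
    · exfalso
      have h1 : u ∈ (GalConj.K χ).subgroupOf N := mem_subgroupOf.2 hK
      rw [h, mem_bot] at h1
      rw [h1, orderOf_one] at hu
      norm_num at hu
    · exact subgroupOf_eq_top.1 h
  have hcom : commutator H ≤ GalConj.K χ := by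
    refine le_trans ?_ hKN
    have hidx : N.index = 2 := by
      have h1 := Subgroup.card_mul_index N
      rw [hN, hH] at h1
      omega
    have hcomm : ∀ a b : H ⧸ N, a * b = b * a := by
      haveI : Fact (Nat.Prime 2) := ⟨Nat.prime_two⟩
      haveI : IsCyclic (H ⧸ N) := isCyclic_of_prime_card (p := 2) hidx
      intro a b
      letI := IsCyclic.commGroup (α := H ⧸ N)
      exact mul_comm a b
    rw [_root_.commutator_def, commutator_le]
    intro a _ b _
    rw [← QuotientGroup.eq_one_iff, ← QuotientGroup.mk'_apply, map_commutatorElement, commutatorElement_eq_one_iff_mul_comm]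
    exact hcomm _ _
  have h1 := GalConj.lin_of_ker hcom
  rw [hone] at h1
  norm_num at h1

end Cfsg.Agent.Lib.DegGr
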