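import Mathlib
import Cfsg.Agent.Lib.DegGrG
import Cfsg.Agent.Lib.CharSimple

/-!
# Degree graphs: orders 504 and 360 (helper19)
-/

set_option autoImplicit false
set_option linter.all false

namespace Cfsg.Agent.Lib.DegGr

open Cfsg Subgroup Cfsg.Agent.Lib.DefOneLoc Cfsg.Agent.Lib.DefOneOrd Cfsg.Agent.Lib.CharBasic
open Cfsg.Agent.Lib.DefOneGram Cfsg.Agent.Lib.DefOne Cfsg.Agent.Lib.BRB0 Cfsg.Agent.Lib.BRCore
open Cfsg.Agent.Lib.PBData Cfsg.Agent.Lib.DefOnePrin Cfsg.Agent.Lib.BlockThird Cfsg.Agent.Lib.SmallSimple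
open Cfsg.Agent.Lib.PBNum Cfsg.Agent.Lib.PBExt Cfsg.Agent.Lib.PBStruct Cfsg.Agent.Lib.PBFull
open Cfsg.Agent.Lib.PBLocal Cfsg.Agent.Lib.A7Chars Cfsg.Agent.Lib.A7Table
open scoped ComplexConjugate

universe u v

/-- numerical check for non-divisibility in the block -/
def chk3 (p M b m : ℕ) : Bool :=
  (optsL (fun _ => true) p M b).all fun t => (t.2.1 * t.1 == M) &&
    (((1 + t.2.2.sum).natAbs % m != 0) && t.2.2.all fun d : ℤ => d.natAbs % m != 0)

theorem nodeg_aux {G : Type u} [Group G] [Fintype G] [IsSimpleGroup G] (hG : ¬ IsMulCommutative G) {p M m : ℕ} [hp : Fact p.Prime]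
    (b : ℕ) (h : Nat.card G = p * M) (hM : ¬ p ∣ M) (hb : p * M < (b + 1) ^ 2) (hlen : lenOk (fun _ => true) p M b = true)
    (hchk : chk3 p M b m = true) (hm1 : m ≠ 1) (hpm : p.Coprime m) (hbig : p * M < (p * m) ^ 2) (χ : IrrCharacter G) : ¬ m ∣ ColTools.deg χ := by
  classical
  intro hcon
  by_cases hpd : p ∣ ColTools.deg χ
  · have h1 : p * m ∣ ColTools.deg χ := hpm.mul_dvd_of_dvd_of_dvd hpd hcon
    have h2 := Nat.le_of_dvd (ColTools.deg_pos χ) h1
    have hsq : ColTools.deg χ ^ 2 ≤ p * M := by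
      rw [← h, ← ColTools.sum_deg_sq]
      exact Finset.single_le_sum (f := fun χ : IrrCharacter G => ColTools.deg χ ^ 2) (fun _ _ => Nat.zero_le _) (Finset.mem_univ χ)
    have h3 := Nat.pow_le_pow_left h2 2
    omega
  obtain ⟨Q⟩ : Nonempty (Sylow p G) := inferInstance
  have hQ : Nat.card Q = p := (SylEven.data hG (p := p) (M := M) (by rw [h]) hM Q).1
  obtain ⟨D, i, ⟨B⟩⟩ := exists_PBE Q hQ
  obtain ⟨hQ', e, c, l, hN, hC, he, he1, hecn, hmem, hl⟩ := dataL hG (M := M) b (fun _ => true) (by rw [h])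
    hM hb B.toPB (fun _ _ => rfl) hlen
  rw [chk3, List.all_eq_true] at hchk
  have h1 := hchk _ hmem
  rw [Bool.and_eq_true, Bool.and_eq_true] at h1
  obtain ⟨h2, h3, h4⟩ := h1
  have h2' : e * Nat.card (Sylow p G) = M := by simpa using h2
  have hM0 : M ≠ 0 := by rintro rfl; exact hM (dvd_zero p)
  have hc : c = 1 := by
    have h4 : c * M = 1 * M := by rw [one_mul, ← h2', ← mul_assoc, mul_comm c e, hecn, h2']
    exact Nat.eq_of_mul_eq_mul_right (Nat.pos_of_ne_zero hM0) h4
  subst hc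
  rw [mul_one] at hC
  rw [← cdeg] at hcon hpd
  rcases B.all (hinj_of hC) χ hpd with h5 | h5 | h5
  · rw [h5, deg_triv, Nat.dvd_one] at hcon
    exact hm1 hcon
  · rw [List.all_eq_true] at h4
    have h6 : sd B.toPB χ ∈ l := by
      have : sd B.toPB χ ∈ sds B.toPB := (mem_sds B.toPB).2 ⟨χ, h5, rfl⟩
      rw [← hl] at this
      exact this
    have h7 := h4 _ h6
    rw [natAbs_sd] at h7
    simp only [bne_iff_ne, ne_eq] at h7
    exact h7 (Nat.mod_eq_zero_of_dvd hcon)
  · rw [deg_eq_of_mem_E B h5, ← natAbs_sd B.toPB, sd_eta, Int.natAbs_neg, ← hl, Multiset.sum_coe] at hcon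
    simp only [bne_iff_ne, ne_eq] at h3
    exact h3 (Nat.mod_eq_zero_of_dvd hcon)

theorem nodeg {G : Type u} [Group G] [Finite G] [IsSimpleGroup G] (hG : ¬ IsMulCommutative G) {p M m : ℕ} (hp : p.Prime)
    (b : ℕ) (h : Nat.card G = p * M) (hM : ¬ p ∣ M) (hb : p * M < (b + 1) ^ 2) (hlen : lenOk (fun _ => true) p M b = true)
    (hchk : chk3 p M b m = true) (hm1 : m ≠ 1) (hpm : p.Coprime m) (hbig : p * M < (p * m) ^ 2) (χ : IrrCharacter G) : ¬ m ∣ ColTools.deg χ := by
  letI := Fintype.ofFinite G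
  haveI : Fact p.Prime := ⟨hp⟩
  exact nodeg_aux hG b h hM hb hlen hchk hm1 hpm hbig χ

section

variable {S : Type u} [Group S] [Finite S] [IsSimpleGroup S] (hS : ¬ IsMulCommutative S)
  {G : Type v} [Group G] [Finite G] (hcard : Nat.card G = Nat.card S)
  (hΓ : Cfsg.degreePrimes G = Cfsg.degreePrimes S) (hE : Cfsg.degreeGraph G = Cfsg.degreeGraph S)

include hS hcard hΓ hE

theorem simple_504 (h : Nat.card S = 504) : IsSimpleGroup G := by
  have h' : Nat.card G = 7 * 72 := by rw [hcard, h]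
  have hv := vertex hS (p := 7) (M := 72) (by norm_num) 22 (by rw [h]) (by norm_num) (by norm_num) (by decide +kernel) (by decide +kernel)
  have hw := inblock hS (p := 7) (M := 72) 2 (by norm_num) 22 (by rw [h]) (by norm_num) (by norm_num) (by decide +kernel) (by decide +kernel)
  have hno := nodeg hS (p := 7) (M := 72) (m := 6) (by norm_num) 22 (by rw [h]) (by norm_num) (by norm_num) (by decide +kernel) (by decide +kernel)
    (by norm_num) (by norm_num) (by norm_num)
  have hcent := cent_exc (G := G) (p := 7) (M := 72) (c := 8) (q := 2) (by norm_num) (by norm_num) h' (by norm_num) (by norm_num) (by decide +kernel) (by decide +kernel) (by decide +kernel)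
      (by norm_num) (tvertex hΓ (by norm_num) hw)
  obtain ⟨χ, hχ⟩ := tvertex hΓ (by norm_num) hv
  obtain ⟨N, D, hN, hNs, hNc, hpN, hNG, hD, hDc, hDN⟩ := exists_sec (by norm_num) h' (by norm_num) hcent hχ
  have h1 : Nat.card N < 6000 := by
    have := Nat.le_of_dvd Nat.card_pos hNG
    rw [h'] at this
    omega
  have h2 := order_mem hNc h1
  have h3 : Nat.card N = 168 ∨ Nat.card N = 504 := by
    have h4 : ∀ n ∈ L6, n ∣ 504 → 7 ∣ n → n = 168 ∨ n = 504 := by decide +kernel
    exact h4 _ h2 (by rw [h'] at hNG; exact hNG) hpN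
  rcases h3 with h3 | h3
  · exfalso
    haveI := hN
    haveI := hNs
    obtain ⟨θ, hθ⟩ := inblock hNc (p := 7) (M := 24) 6 (by norm_num) 12 (by rw [h3]) (by norm_num) (by norm_num) (by decide +kernel) (by decide +kernel)
    obtain ⟨χ1, hχ1⟩ := dvd_deg_of_normal N θ
    obtain ⟨χ2, hχ2⟩ := inflate _ χ1
    obtain ⟨χ3, hχ3⟩ := tedge hE.symm (p := 2) (q := 3) (by norm_num) (by norm_num) (by norm_num) ⟨χ2, by rw [hχ2]; exact hθ.trans hχ1⟩
    exact hno χ3 hχ3
  · exact simple_of_card N hNs (by rw [h3, h'])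

end

theorem comm_of_center {K : Type u} [Group K] [Finite K] (h6 : Nat.card K = 6) (hK : ¬ ∀ a b : K, a * b = b * a) : center K = ⊥ := by
  by_contra hne
  apply hK
  have h1 : Nat.card (center K) ∣ 6 := by rw [← h6]; exact card_subgroup_dvd_card _
  have h2 : Nat.card (center K) ≠ 1 := fun h => hne (Subgroup.card_eq_one.1 h)
  have h3 : (center K).index = 1 ∨ (center K).index = 2 ∨ (center K).index = 3 := by
    have h4 := Subgroup.card_mul_index (center K)
    rw [h6] at h4
    have h5 := Nat.le_of_dvd (by norm_num) h1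
    have h7 : 0 < Nat.card (center K) := Nat.card_pos
    interval_cases hh : Nat.card (center K) <;> omega
  have hcyc : IsCyclic (K ⧸ center K) := by
    rcases h3 with h3 | h3 | h3
    · haveI : Subsingleton (K ⧸ center K) := by
        rw [← Finite.card_le_one_iff_subsingleton, ← Subgroup.index_eq_card, h3]
      infer_instance
    · haveI : Fact (Nat.Prime 2) := ⟨Nat.prime_two⟩
      exact isCyclic_of_prime_card (p := 2) h3
    · haveI : Fact (Nat.Prime 3) := ⟨Nat.prime_three⟩
      exact isCyclic_of_prime_card (p := 3) h3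
  exact commutative_of_cyclic_center_quotient (QuotientGroup.mk' (center K)) (by rw [QuotientGroup.ker_mk'])

theorem exists_two {K : Type u} [Group K] [Finite K] (h6 : Nat.card K = 6) (hK : ¬ ∀ a b : K, a * b = b * a) :
    ∃ ψ : IrrCharacter K, ColTools.deg ψ = 2 := by
  by_contra hcon
  push Not at hcon
  apply hK
  apply comm_of_forall_irr_linear
  intro χ hχ
  have h1 := hcon ⟨χ, hχ⟩
  have h2 := ColTools.deg_dvd (⟨χ, hχ⟩ : IrrCharacter K)
  rw [h6] at h2
  have h3 : ColTools.deg (⟨χ, hχ⟩ : IrrCharacter K) ^ 2 ≤ 6 := by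
    rw [← h6, ← ColTools.sum_deg_sq]
    exact Finset.single_le_sum (f := fun χ : IrrCharacter K => ColTools.deg χ ^ 2) (fun _ _ => Nat.zero_le _) (Finset.mem_univ _)
  have h4 : ColTools.deg (⟨χ, hχ⟩ : IrrCharacter K) = 1 := by
    revert h1 h2 h3
    generalize ColTools.deg (⟨χ, hχ⟩ : IrrCharacter K) = d
    intro h1 h2 h3
    have h5 : d ≤ 6 := Nat.le_of_dvd (by norm_num) h2
    interval_cases d <;> simp_all
  have h5 := ColTools.apply_one (⟨χ, hχ⟩ : IrrCharacter K)
  rw [h4] at h5
  exact h5.trans (by norm_num)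

/-- the case of a section of order 60 with complement of order 6 -/
theorem case_six {G : Type u} [Group G] [Finite G] (K D : Subgroup G) [hKn : K.Normal] [hDn : D.Normal] (hK : Nat.card K = 6)
    (hG : Nat.card G = 360) (hDC : D ≤ centralizer (K : Set G)) (N : Subgroup (G ⧸ K)) (hNs : IsSimpleGroup N)
    (hNc : ¬ IsMulCommutative N) (hDN : D.map (QuotientGroup.mk' K) = N) (hN : Nat.card N = 60) {χ : IrrCharacter G}
    (hχ : 10 ∣ ColTools.deg χ) : ∃ χ : IrrCharacter G, 6 ∣ ColTools.deg χ := by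
  classical
  have hQ : Nat.card (G ⧸ K) = 60 := by
    have h1 := Subgroup.card_mul_index K
    rw [hK, hG, Subgroup.index_eq_card] at h1
    omega
  have htop : N = ⊤ := Subgroup.eq_top_of_card_eq _ (by rw [hN, hQ])
  have hDK : D ⊔ K = ⊤ := by
    rw [eq_top_iff]
    intro g _
    have h1 : QuotientGroup.mk' K g ∈ D.map (QuotientGroup.mk' K) := by rw [hDN, htop]; trivial
    obtain ⟨d, hd, hdg⟩ := h1
    have h2 : d⁻¹ * g ∈ K := by
      rw [← QuotientGroup.eq_one_iff]
      show QuotientGroup.mk' K (d⁻¹ * g) = 1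
      rw [map_mul, map_inv, hdg, inv_mul_cancel]
    have h3 : g = d * (d⁻¹ * g) := by group
    rw [h3]
    exact mul_mem (mem_sup_left hd) (mem_sup_right h2)
  by_cases hcomm : ∀ a b : K, a * b = b * a
  · exfalso
    have h1 : K ≤ center G := by
      intro k hk
      rw [mem_center_iff]
      intro g
      have h2 : D ⊔ K ≤ centralizer ({k} : Set G) := by
        rw [sup_le_iff]
        refine ⟨fun d hd => ?_, fun d hd => ?_⟩
        · rw [mem_centralizer_singleton_iff]
          exact (mem_centralizer_iff.1 (hDC hd) k hk).symm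
        · rw [mem_centralizer_singleton_iff]
          exact congrArg Subtype.val (hcomm ⟨d, hd⟩ ⟨k, hk⟩)
      have h3 : g ∈ centralizer ({k} : Set G) := h2 (by rw [hDK]; trivial)
      exact mem_centralizer_singleton_iff.1 h3
    have h2 := CdP.sq_le_index_center χ.2 (ColTools.apply_one χ)
    have h3 : (center G).index ∣ K.index := index_dvd_of_le h1
    rw [Subgroup.index_eq_card K, hQ] at h3
    have h4 := Nat.le_of_dvd (by norm_num) h3
    have h5 := Nat.le_of_dvd (ColTools.deg_pos χ) hχ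
    have h6 := Nat.mul_le_mul h5 h5
    omega
  · have hZ := comm_of_center hK hcomm
    have hdisj : Disjoint D K := by
      rw [disjoint_iff, eq_bot_iff]
      intro x hx
      rw [mem_bot]
      have h1 : (⟨x, hx.2⟩ : K) ∈ center K := by
        rw [mem_center_iff]
        intro y
        exact Subtype.ext (mem_centralizer_iff.1 (hDC hx.1) y y.2)
      rw [hZ, mem_bot] at h1
      exact congrArg Subtype.val h1
    obtain ⟨e⟩ := CharSimple.sup_equiv_prod hDn hKn hdisj
    let e' : G ≃* D × K := (Subgroup.topEquiv.symm.trans (MulEquiv.subgroupCongr hDK.symm)).trans e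
    -- `D` is simple
    have hinj : Function.Injective ((QuotientGroup.mk' K).comp D.subtype) := by
      rw [injective_iff_map_eq_one]
      intro d hd
      have h1 : (d : G) ∈ K := (QuotientGroup.eq_one_iff _).1 hd
      have h2 : (d : G) ∈ D ⊓ K := ⟨d.2, h1⟩
      rw [hdisj.eq_bot, mem_bot] at h2
      exact Subtype.ext h2
    have hmem : ∀ d : D, ((QuotientGroup.mk' K).comp D.subtype) d ∈ N :=
      fun d => by rw [← hDN]; exact mem_map_of_mem _ d.2
    let φ : D →* N := ((QuotientGroup.mk' K).comp D.subtype).codRestrict N hmem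
    have hφ : Function.Bijective φ := by
      constructor
      · intro a b hab
        exact hinj (congrArg Subtype.val hab)
      · rintro ⟨n, hn⟩
        have hn' := hn
        rw [← hDN] at hn'
        obtain ⟨d, hd, hdn⟩ := hn'
        exact ⟨⟨d, hd⟩, Subtype.ext hdn⟩
    let eN : D ≃* N := MulEquiv.ofBijective φ hφ
    obtain ⟨θ, hθ⟩ := exc (G := N) hNc (p := 5) (M := 12) (d := 3) (by norm_num) 7 (by rw [hN]) (by norm_num) (by norm_num)
      (by decide +kernel) (by decide +kernel)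
    obtain ⟨ψ, hψ⟩ := exists_two hK hcomm
    have h1 : IsIrrCharacter D (fun d => (θ : N → ℂ) (eN d)) := (isIrrCharacter_comp_mulEquiv_iff eN).2 θ.2
    have h2 := CharApps.isIrrCharacter_prod h1 ψ.2
    have h3 : IsIrrCharacter G (fun g => (fun x : D × K => (θ : N → ℂ) (eN x.1) * (ψ : K → ℂ) x.2) (e' g)) :=
      (isIrrCharacter_comp_mulEquiv_iff e').2 h2
    refine ⟨⟨_, h3⟩, ?_⟩
    have h4 := ColTools.apply_one (⟨_, h3⟩ : IrrCharacter G)
    have h5 : ((ColTools.deg (⟨_, h3⟩ : IrrCharacter G) : ℕ) : ℂ) = 6 := by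
      rw [← h4]
      show (θ : N → ℂ) (eN (e' 1).1) * (ψ : K → ℂ) (e' 1).2 = 6
      rw [map_one]
      show (θ : N → ℂ) (eN 1) * (ψ : K → ℂ) 1 = 6
      rw [map_one, ColTools.apply_one, ColTools.apply_one, hθ, hψ]
      norm_num
    have h6 : ColTools.deg (⟨_, h3⟩ : IrrCharacter G) = 6 := by exact_mod_cast h5
    rw [h6]

end Cfsg.Agent.Lib.DegGr
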