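import Mathlib
import Cfsg.Agent.Lib.DegGrH

/-!
# Degree graphs: orders 360 and 2520 (helper19)
-/

set_option autoImplicit false
set_option linter.all false

namespace Cfsg.Agent.Lib.DegGr

open Cfsg Subgroup Cfsg.Agent.Lib.PBNum Cfsg.Agent.Lib.PBFull Cfsg.Agent.Lib.CharBasic Cfsg.Agent.Lib.SmallSimple

universe u v

/-- a normal subgroup whose order has a normal Sylow 7 -/
theorem exists_char {G : Type u} [Group G] [Finite G] (K : Subgroup G) [hKn : K.Normal] {q m : ℕ} (hq : q.Prime) (hK : Nat.card K = q * m)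
    (hqm : ¬ q ∣ m) (hm : ∀ n ∈ m.divisors, n % q = 1 → n = 1) (hq2 : q ≠ 1) :
    ∃ R : Subgroup G, R.Normal ∧ (∀ a ∈ R, ∀ b ∈ R, a * b = b * a) ∧ Nat.card R = q := by
  haveI : Fact q.Prime := ⟨hq⟩
  obtain ⟨R⟩ : Nonempty (Sylow q K) := inferInstance
  have hR : Nat.card (R : Subgroup K) = q := by
    have := sylow_card_of (G := K) (p := q) (k := 1) (m := m) (by rw [hK, pow_one]) hqm R
    rwa [pow_one] at this
  have hidx : (R : Subgroup K).index = m := by
    have h1 := Subgroup.card_mul_index (R : Subgroup K)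
    rw [hR, hK] at h1
    exact Nat.eq_of_mul_eq_mul_left hq.pos h1
  have h1 : Nat.card (Sylow q K) ∣ m := by rw [← hidx]; exact R.card_dvd_index
  have h2 : Nat.card (Sylow q K) % q = 1 := by
    have h3 := card_sylow_modEq_one q K
    rw [Nat.ModEq, Nat.mod_eq_of_lt hq.one_lt] at h3
    exact h3
  have hm0 : m ≠ 0 := by rintro rfl; exact hqm (dvd_zero q)
  have h3 := hm _ (Nat.mem_divisors.2 ⟨h1, hm0⟩) h2
  haveI : Subsingleton (Sylow q K) := (Nat.card_eq_one_iff_unique.1 h3).1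
  haveI hch : (R : Subgroup K).Characteristic := Sylow.characteristic_of_subsingleton R
  refine ⟨(R : Subgroup K).map K.subtype, inferInstance, ?_, ?_⟩
  · rintro _ ⟨a, ha, rfl⟩ _ ⟨b, hb, rfl⟩
    haveI : IsCyclic (R : Subgroup K) := isCyclic_of_prime_card hR
    letI := IsCyclic.commGroup (α := (R : Subgroup K))
    have h4 : (⟨a, ha⟩ : (R : Subgroup K)) * ⟨b, hb⟩ = ⟨b, hb⟩ * ⟨a, ha⟩ := mul_comm _ _
    have h5 : a * b = b * a := congrArg Subtype.val h4
    rw [← map_mul, h5, map_mul]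
  · rw [Subgroup.card_map_of_injective K.subtype_injective, hR]

section

variable {S : Type u} [Group S] [Finite S] [IsSimpleGroup S] (hS : ¬ IsMulCommutative S)
  {G : Type v} [Group G] [Finite G] (hcard : Nat.card G = Nat.card S)
  (hΓ : Cfsg.degreePrimes G = Cfsg.degreePrimes S) (hE : Cfsg.degreeGraph G = Cfsg.degreeGraph S)

include hS hcard hΓ hE

theorem simple_360 (h : Nat.card S = 360) (h10 : ∃ χ : IrrCharacter S, 10 ∣ ColTools.deg χ) : IsSimpleGroup G := by
  have h' : Nat.card G = 5 * 72 := by rw [hcard, h]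
  have hv := vertex hS (p := 5) (M := 72) (by norm_num) 18 (by rw [h]) (by norm_num) (by norm_num) (by decide +kernel) (by decide +kernel)
  have hno := nodeg hS (p := 5) (M := 72) (m := 6) (by norm_num) 18 (by rw [h]) (by norm_num) (by norm_num) (by decide +kernel) (by decide +kernel)
    (by norm_num) (by norm_num) (by norm_num)
  have hcent := cent_of (G := G) (p := 5) (M := 72) (by norm_num) h' (by norm_num) (by norm_num) (by decide +kernel)
  obtain ⟨χ, hχ⟩ := tvertex hΓ (by norm_num) hv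
  obtain ⟨N, D, hN, hNs, hNc, hpN, hNG, hD, hDc, hDN⟩ := exists_sec (by norm_num) h' (by norm_num) hcent hχ
  have h1 : Nat.card N < 6000 := by
    have := Nat.le_of_dvd Nat.card_pos hNG
    rw [h'] at this
    omega
  have h2 := order_mem hNc h1
  have h3 : Nat.card N = 60 ∨ Nat.card N = 360 := by
    have h4 : ∀ n ∈ L6, n ∣ 360 → 5 ∣ n → n = 60 ∨ n = 360 := by decide +kernel
    exact h4 _ h2 (by rw [h'] at hNG; exact hNG) hpN
  rcases h3 with h3 | h3
  · exfalso
    haveI := hN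
    haveI := hNs
    have hcardH := Subgroup.card_mul_index (pPrimeCore 5 G)
    rw [h', Subgroup.index_eq_card] at hcardH
    have hsq : ¬ 5 ^ 2 ∣ Nat.card (G ⧸ pPrimeCore 5 G) := by
      intro h5
      have h6 : 5 ^ 2 ∣ 5 * 72 := by rw [← hcardH]; exact h5.mul_left _
      norm_num at h6
    have hC := cent_bot (p := 5) (by norm_num) hsq (by haveI : Fact (Nat.Prime 5) := ⟨by norm_num⟩; exact Cores.pPrimeCore_quotient_pPrimeCore 5 G) N hNc (by rw [h3]; norm_num)
    have h6 : ∃ χ : IrrCharacter G, 6 ∣ ColTools.deg χ := by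
      rcases card_cases_60 N h3 hC with h5 | h5
      · have hK6 : Nat.card (pPrimeCore 5 G) = 6 := by
          rw [h5] at hcardH; omega
        obtain ⟨χ0, hχ0⟩ := h10
        obtain ⟨χ1, hχ1⟩ := tedge hE (p := 2) (q := 5) (by norm_num) (by norm_num) (by norm_num) ⟨χ0, hχ0⟩
        haveI := hD
        exact case_six (pPrimeCore 5 G) D hK6 h' hDc N hNs hNc hDN h3 hχ1
      · obtain ⟨χ1, hχ1⟩ := deg_six N h3 hC h5
        obtain ⟨χ2, hχ2⟩ := inflate _ χ1
        exact ⟨χ2, by rw [hχ2]; exact hχ1⟩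
    obtain ⟨χ2, hχ2⟩ := h6
    obtain ⟨χ3, hχ3⟩ := tedge hE.symm (p := 2) (q := 3) (by norm_num) (by norm_num) (by norm_num) ⟨χ2, hχ2⟩
    exact hno χ3 hχ3
  · exact simple_of_card N hNs (by rw [h3, h'])

theorem simple_2520 (h : Nat.card S = 2520)
    (h7 : ∀ (H : Type v) [Group H] [Finite H] (N : Subgroup H) [N.Normal] [IsSimpleGroup N], Nat.card N = 360 →
      centralizer (N : Set H) = ⊥ → ¬ 7 ∣ Nat.card H) : IsSimpleGroup G := by
  have h' : Nat.card G = 5 * 504 := by rw [hcard, h]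
  have hv := vertex hS (p := 5) (M := 504) (by norm_num) 50 (by rw [h]) (by norm_num) (by norm_num) (by decide +kernel) (by decide +kernel)
  have hv7 := vertex hS (p := 7) (M := 360) (by norm_num) 50 (by rw [h]) (by norm_num) (by norm_num) (by decide +kernel) (by decide +kernel)
  have hcent := cent_of (G := G) (p := 5) (M := 504) (by norm_num) h' (by norm_num) (by norm_num) (by decide +kernel)
  obtain ⟨χ, hχ⟩ := tvertex hΓ (by norm_num) hv
  obtain ⟨N, D, hN, hNs, hNc, hpN, hNG, hD, hDc, hDN⟩ := exists_sec (by norm_num) h' (by norm_num) hcent hχ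
  have h1 : Nat.card N < 6000 := by
    have := Nat.le_of_dvd Nat.card_pos hNG
    rw [h'] at this
    omega
  have h2 := order_mem hNc h1
  have h3 : Nat.card N = 60 ∨ Nat.card N = 360 ∨ Nat.card N = 2520 := by
    have h4 : ∀ n ∈ L6, n ∣ 2520 → 5 ∣ n → n = 60 ∨ n = 360 ∨ n = 2520 := by decide +kernel
    exact h4 _ h2 (by rw [h'] at hNG; exact hNG) hpN
  by_cases h25 : Nat.card N = 2520
  · exact simple_of_card N hNs (by rw [h25, h'])
  exfalso
  haveI := hN
  haveI := hNs
  have hcardH := Subgroup.card_mul_index (pPrimeCore 5 G)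
  rw [h', Subgroup.index_eq_card] at hcardH
  have hsq : ¬ 5 ^ 2 ∣ Nat.card (G ⧸ pPrimeCore 5 G) := by
    intro h5
    have h6 : 5 ^ 2 ∣ 5 * 504 := by rw [← hcardH]; exact h5.mul_left _
    norm_num at h6
  have hC := cent_bot (p := 5) (by norm_num) hsq (by haveI : Fact (Nat.Prime 5) := ⟨by norm_num⟩; exact Cores.pPrimeCore_quotient_pPrimeCore 5 G) N hNc hpN
  have hKcard : ∃ m, Nat.card (pPrimeCore 5 G) = 7 * m ∧ (m = 1 ∨ m = 3 ∨ m = 6) := by
    rcases h3 with h3 | h3 | h3
    · rcases card_cases_60 N h3 hC with h5 | h5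
      · refine ⟨6, ?_, Or.inr (Or.inr rfl)⟩
        rw [h5] at hcardH; omega
      · refine ⟨3, ?_, Or.inr (Or.inl rfl)⟩
        rw [h5] at hcardH; omega
    · refine ⟨1, ?_, Or.inl rfl⟩
      have h6 := h7 _ N h3 hC
      obtain ⟨k, hk⟩ : 360 ∣ Nat.card (G ⧸ pPrimeCore 5 G) := by rw [← h3]; exact card_subgroup_dvd_card N
      rw [hk] at hcardH h6
      have h8 : Nat.card (pPrimeCore 5 G) * k = 7 := by
        have : 360 * (Nat.card (pPrimeCore 5 G) * k) = 360 * 7 := by rw [← mul_assoc, mul_comm 360, mul_assoc, hcardH]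
        exact Nat.eq_of_mul_eq_mul_left (by norm_num) this
      have h9 : k ∣ 7 := Dvd.intro_left _ h8
      rcases (Nat.dvd_prime (by norm_num)).1 h9 with h10 | h10
      · rw [h10] at h8; omega
      · exfalso; apply h6; rw [h10]; norm_num
    · exact absurd h3 h25
  obtain ⟨m, hm, hm'⟩ := hKcard
  obtain ⟨R, hRn, hRa, hRc⟩ := exists_char (pPrimeCore 5 G) (q := 7) (m := m) (by norm_num) hm
    (by rcases hm' with rfl | rfl | rfl <;> norm_num) (by rcases hm' with rfl | rfl | rfl <;> decide) (by norm_num)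
  obtain ⟨χ7, hχ7⟩ := tvertex hΓ (by norm_num) hv7
  haveI := hRn
  exact not_abel h' (q := 7) (by norm_num) hRa hRc (by norm_num) hχ7

end

end Cfsg.Agent.Lib.DegGr
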