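import Mathlib
import Cfsg.Agent.Lib.A7Ctx
import Cfsg.Agent.Lib.PBRat
import Cfsg.Agent.Lib.ColTools4

/-!
# Simple groups of order 5616: character values (helper54)
-/

set_option autoImplicit false
set_option linter.all false

namespace Cfsg.Agent.Lib.H54W1

open Cfsg Subgroup Cfsg.Agent.Lib.DefOneLoc Cfsg.Agent.Lib.DefOneOrd Cfsg.Agent.Lib.CharBasic
open Cfsg.Agent.Lib.DefOneGram Cfsg.Agent.Lib.DefOne Cfsg.Agent.Lib.BRB0 Cfsg.Agent.Lib.BRCore
open Cfsg.Agent.Lib.PBData Cfsg.Agent.Lib.DefOnePrin Cfsg.Agent.Lib.BlockThird Cfsg.Agent.Lib.SmallSimple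
open Cfsg.Agent.Lib.PBNum Cfsg.Agent.Lib.PBExt Cfsg.Agent.Lib.PBStruct Cfsg.Agent.Lib.PBFull
open Cfsg.Agent.Lib.PBLocal Cfsg.Agent.Lib.A7Chars Cfsg.Agent.Lib.A7Table
open scoped ComplexConjugate

universe u

instance fact13 : Fact (Nat.Prime 13) := ⟨by norm_num⟩

theorem opts13 : optsL (fun _ => true) 13 432 75 = [(144, 3, [-12, 27])] := by decide +kernel

section

variable {G : Type u} [Group G] [Fintype G] [IsSimpleGroup G] (hG : ¬ IsMulCommutative G)
  (h : Nat.card G = 5616)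

include hG h

variable {Q : Sylow 13 G} [Fintype (centralizer ((Q : Subgroup G) : Set G))]
  {D : Loc 13 (Q : Subgroup G) (normalizer ((Q : Subgroup G) : Set G)) (centralizer ((Q : Subgroup G) : Set G))}

theorem stage (B : PBE D) : Nat.card (normalizer ((Q : Subgroup G) : Set G)) = 39 ∧
    Nat.card (centralizer ((Q : Subgroup G) : Set G)) = 13 ∧ (([-12, 27] : List ℤ) : Multiset ℤ) = sds B.toPB := by
  obtain ⟨hQ, e, c, l, hN, hC, he, he1, hecn, hmem, hl⟩ := dataL hG (M := 432) 75 (fun _ => true) (by rw [h])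
    (by norm_num) (by norm_num) B.toPB (fun _ _ => rfl) (by decide +kernel)
  rw [opts13, List.mem_singleton, Prod.mk.injEq, Prod.mk.injEq] at hmem
  obtain ⟨h1, rfl, rfl⟩ := hmem
  rw [h1] at hecn
  have hc : c = 1 := by omega
  subst hc
  exact ⟨hN, hC, hl⟩

/-- the data -/
theorem data (B : PBE D) : ∃ (a b : IrrCharacter G),
    charDegree (a : G → ℂ) = 12 ∧ charDegree (b : G → ℂ) = 27 ∧ charDegree (B.η : G → ℂ) = 16 ∧
    a ≠ b ∧ 
    (∀ χ : IrrCharacter G, charDegree (χ : G → ℂ) = 12 → χ = a) ∧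
    (∀ g : G, ¬ 13 ∣ orderOf g → (B.η : G → ℂ) g = 1 - (a : G → ℂ) g + (b : G → ℂ) g) ∧
    (∀ x t : G, ¬ 13 ∣ orderOf x → ¬ 13 ∣ orderOf t →
      ∑ χ : IrrCharacter G, (χ : G → ℂ) x * (χ : G → ℂ) t * (χ : G → ℂ) (D.u)⁻¹ / (χ : G → ℂ) 1 =
      1 - (a : G → ℂ) x * (a : G → ℂ) t / 12 + (b : G → ℂ) x * (b : G → ℂ) t / 27 -
        (B.η : G → ℂ) x * (B.η : G → ℂ) t / 16) ∧
    (∀ w : G, w * w = 1 → (∀ x, IsConj w x → x * D.u * x⁻¹ ≠ D.u⁻¹) →
      1 - (a : G → ℂ) w ^ 2 / 12 + (b : G → ℂ) w ^ 2 / 27 - (B.η : G → ℂ) w ^ 2 / 16 = 0) := by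
  classical
  obtain ⟨hN, hC, hl⟩ := stage hG h B
  have hl2 : (B.X.val).map (fun χ => sd B.toPB χ) = (-12) ::ₘ 27 ::ₘ 0 := by
    change sds B.toPB = _
    rw [← hl]; rfl
  obtain ⟨a, b, hX, ha, hb⟩ := ext2 hl2
  have hη : sd B.toPB B.η = -16 := by rw [sd_eta, ← hl]; decide
  obtain ⟨ha1, ha2⟩ := sigma_of _ ha (by norm_num)
  obtain ⟨hb1, hb2⟩ := sigma_of _ hb (by norm_num)
  obtain ⟨hη1, hη2⟩ := sigma_of _ hη (by norm_num)
  replace ha2 : B.σ a = -1 := ha2
  replace hb2 : B.σ b = 1 := hb2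
  replace hη2 : B.σ B.η = -1 := hη2
  have ha1' : charDegree (a : G → ℂ) = 12 := ha1
  have hb1' : charDegree (b : G → ℂ) = 27 := hb1
  have hη1' : charDegree (B.η : G → ℂ) = 16 := hη1
  have hab : a ≠ b := by
    rintro rfl
    rw [ha1'] at hb1'; norm_num at hb1'
  have hXab : B.X = {a, b} := by
    ext χ
    rw [Finset.mem_insert, Finset.mem_singleton]
    constructor
    · intro h
      have : χ ∈ B.X.val := h
      rw [hX] at this
      simpa using this
    · intro h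
      have : χ ∈ B.X.val := by rw [hX]; simpa using h
      exact this
  refine ⟨a, b, ha1', hb1', hη1', hab, ?_, ?_, ?_, ?_⟩
  · intro χ hχ
    rcases B.all (hinj_of hC) χ (by rw [hχ]; norm_num) with h1 | h1 | h1
    · rw [h1, deg_triv] at hχ; norm_num at hχ
    · rw [hXab, Finset.mem_insert, Finset.mem_singleton] at h1
      rcases h1 with h1 | h1
      · exact h1
      · rw [h1, hb1'] at hχ; norm_num at hχ
    · rw [deg_eq_of_mem_E B h1, hη1'] at hχ; norm_num at hχ
  · intro g hg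
    have h1 := B.rel g hg
    rw [hXab, Finset.sum_pair hab, ha2, hb2, hη2] at h1
    push_cast at h1
    linear_combination -h1
  · intro x t hx ht
    have h1 := B.col (hinj_of hC) (fun χ => (χ : G → ℂ) x * (χ : G → ℂ) t / (χ : G → ℂ) 1) (by
      intro χ χ' h
      change (χ : G → ℂ) x * (χ : G → ℂ) t / (χ : G → ℂ) 1 = (χ' : G → ℂ) x * (χ' : G → ℂ) t / (χ' : G → ℂ) 1
      rw [h x hx, h t ht, h 1 (by rw [orderOf_one]; norm_num)]) ⟨D.u, D.PC D.uP⟩ (l_u_ne D)
    rw [hXab, Finset.sum_pair hab, ha2, hb2, hη2] at h1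
    have h5 : ∀ g, ((triv G : IrrCharacter G) : G → ℂ) g = 1 := fun _ => rfl
    simp only [h5, ← BlockDeg.charDegree_cast_irr a, ← BlockDeg.charDegree_cast_irr b,
      ← BlockDeg.charDegree_cast_irr B.η, ha1', hb1', hη1'] at h1
    push_cast at h1
    calc ∑ χ : IrrCharacter G, (χ : G → ℂ) x * (χ : G → ℂ) t * (χ : G → ℂ) (D.u)⁻¹ / (χ : G → ℂ) 1 
        = ∑ χ : IrrCharacter G, (χ : G → ℂ) x * (χ : G → ℂ) t / (χ : G → ℂ) 1 * conj ((χ : G → ℂ) D.u) := by
          refine Finset.sum_congr rfl fun χ _ => ?_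
          rw [ColTools.conj_apply]; ring
      _ = _ := by rw [h1]; ring
  · intro w hw h0
    have h1 := F_zero B.toPB (hinj_of hC) (by norm_num) hw h0
    rw [hXab, Finset.sum_pair hab, ha2, hb2, hη2, ← BlockDeg.charDegree_cast_irr, ← BlockDeg.charDegree_cast_irr,
      ← BlockDeg.charDegree_cast_irr, ha1', hb1', hη1'] at h1
    push_cast at h1
    linear_combination h1

theorem two_char {χ : IrrCharacter G} (hd : 16 ∣ charDegree (χ : G → ℂ)) {x : G} (hx : 2 ∣ orderOf x) :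
    (χ : G → ℂ) x = 0 := by
  apply ColTools.vanish χ 2 4 (by norm_num) (by rw [h]; norm_num) _ x hx
  rw [deg_eq]; exact hd

theorem three_char {χ : IrrCharacter G} (hd : 27 ∣ charDegree (χ : G → ℂ)) {x : G} (hx : 3 ∣ orderOf x) :
    (χ : G → ℂ) x = 0 := by
  apply ColTools.vanish χ 3 3 (by norm_num) (by rw [h]; norm_num) _ x hx
  rw [deg_eq]; exact hd

omit [IsSimpleGroup G] hG h in
/-- rational values of central characters -/
theorem omega_int (χ : IrrCharacter G) {x : G} {v : ℤ} (hv : (χ : G → ℂ) x = (v : ℂ)) :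
    (charDegree (χ : G → ℂ) : ℤ) ∣ ((centralizer ({x} : Set G)).index : ℤ) * v := by
  obtain ⟨n, ρ, hρ, hρχ⟩ := χ.2
  have h1 := CharCentral.isIntegral_index_mul_character_div ρ x
  have hd := ColTools.deg_eq_finrank χ ρ hρχ
  rw [deg_eq] at hd
  rw [hρχ, hv, ← hd] at h1
  have hd0 : charDegree (χ : G → ℂ) ≠ 0 := by
    rw [← deg_eq]; exact (ColTools.deg_pos χ).ne'
  obtain ⟨m, hm⟩ := CharCentral.exists_int_of_isIntegral_rat h1
    ((((centralizer ({x} : Set G)).index : ℚ) * v / (charDegree (χ : G → ℂ) : ℚ))) (by push_cast; ring)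
  refine ⟨m, ?_⟩
  have hd0' : (charDegree (χ : G → ℂ) : ℂ) ≠ 0 := by exact_mod_cast hd0
  rw [div_eq_iff hd0'] at hm
  have : (((centralizer ({x} : Set G)).index : ℤ) * v : ℤ) = m * (charDegree (χ : G → ℂ) : ℤ) := by exact_mod_cast hm
  rw [this]; ring

omit [IsSimpleGroup G] hG h in
/-- lower bound for the norm of a column -/
theorem norm_ge {x : G} (a b : IrrCharacter G) (hab : a ≠ b) (ha : a ≠ triv G) (hb : b ≠ triv G) {va vb : ℤ}
    (ha' : (a : G → ℂ) x = (va : ℂ)) (hb' : (b : G → ℂ) x = (vb : ℂ)) :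
    1 + va ^ 2 + vb ^ 2 ≤ (Nat.card (centralizer ({x} : Set G)) : ℤ) := by
  classical
  have h1 := ColTools.col_norm x
  have h2 : ∑ χ ∈ ({triv G, a, b} : Finset (IrrCharacter G)), ‖(χ : G → ℂ) x‖ ^ 2 ≤
      ∑ χ : IrrCharacter G, ‖(χ : G → ℂ) x‖ ^ 2 :=
    Finset.sum_le_sum_of_subset_of_nonneg (Finset.subset_univ _) (fun _ _ _ => by positivity)
  have h5 : ((triv G : IrrCharacter G) : G → ℂ) x = 1 := rfl
  rw [h1, Finset.sum_insert (by simp [ha.symm, hb.symm]), Finset.sum_pair hab, h5, ha', hb', norm_one,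
    Complex.norm_intCast, Complex.norm_intCast, sq_abs, sq_abs] at h2
  have h3 : (((1 + va ^ 2 + vb ^ 2 : ℤ)) : ℝ) ≤ ((Nat.card (centralizer ({x} : Set G)) : ℤ) : ℝ) := by
    push_cast
    linarith
  exact_mod_cast h3

/-- the character values -/
theorem main : (∀ t : G, orderOf t = 2 → Nat.card (centralizer ({t} : Set G)) = 48) ∧
    (∀ x t : G, orderOf x = 3 → orderOf t = 2 → ¬ 4 ∣ Nat.card (centralizer ({x} : Set G))) := by
  classical
  obtain ⟨Q⟩ : Nonempty (Sylow 13 G) := inferInstance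
  have hQ : Nat.card Q = 13 := (SylEven.data hG (p := 13) (M := 432) (by rw [h]) (by norm_num) Q).1
  obtain ⟨D, i1, ⟨B⟩⟩ := exists_PBE Q hQ
  obtain ⟨hN, hC, -⟩ := stage hG h B
  obtain ⟨a, b, ha, hb, hη, hab, huniq, hrel, hst, hF⟩ := data hG h B
  obtain ⟨va, hva⟩ := PBRat.int_valued (χ := a) (by
    intro ψ hψ
    rw [ha] at hψ
    exact huniq ψ hψ)
  have hat : a ≠ triv G := ne_triv_of ha (by norm_num)
  have hbt : b ≠ triv G := ne_triv_of hb (by norm_num)
  -- involutions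
  have hinv : ∀ t : G, orderOf t = 2 → (a : G → ℂ) t = 4 ∧ (b : G → ℂ) t = 3 ∧ (B.η : G → ℂ) t = 0 := by
    intro t ht
    have ht2 : t * t = 1 := by rw [← pow_two, ← ht, pow_orderOf_eq_one]
    have e1 : (B.η : G → ℂ) t = 0 := two_char hG h (by rw [hη]) (by rw [ht])
    have e2 := hrel t (by rw [ht]; norm_num)
    rw [e1] at e2
    have e3 : (b : G → ℂ) t = (a : G → ℂ) t - 1 := by linear_combination -e2
    have e4 := hF t ht2 (by
      intro x hx
      obtain ⟨g, rfl⟩ := isConj_iff.1 hx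
      apply not_inv_of_odd
      · rw [show g * t * g⁻¹ = MulAut.conj g t from rfl, MulEquiv.orderOf_eq, ht]
      · rw [hN]; norm_num)
    rw [e3, e1, hva] at e4
    have e5 : 5 * (va t) ^ 2 + 8 * va t - 112 = 0 := by
      have : ((5 * (va t) ^ 2 + 8 * va t - 112 : ℤ) : ℂ) = 0 := by
        push_cast
        linear_combination -108 * e4
      exact_mod_cast this
    have e6 : va t = 4 := by
      have e7 : (va t - 4) * (5 * va t + 28) = 0 := by linear_combination e5
      rcases mul_eq_zero.1 e7 with e8 | e8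
      · omega
      · omega
    have e7 : (a : G → ℂ) t = 4 := by rw [hva, e6]; norm_num
    refine ⟨e7, ?_, e1⟩
    rw [e3, e7]; norm_num
  have h48 : ∀ t : G, orderOf t = 2 → Nat.card (centralizer ({t} : Set G)) = 48 := by
    intro t ht
    obtain ⟨e1, e2, e3⟩ := hinv t ht
    have ht1 : t ≠ 1 := by rintro rfl; rw [orderOf_one] at ht; norm_num at ht
    have h1 := norm_ge a b hab hat hbt (x := t) (va := 4) (vb := 3) (by rw [e1]; norm_num) (by rw [e2]; norm_num)
    have h2 := omega_int b (x := t) (v := 3) (by rw [e2]; norm_num)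
    rw [hb] at h2
    have h3 := (centralizer ({t} : Set G)).index_mul_card
    rw [h] at h3
    have h4 := not_dvd_cent D hC (w := t) ht1 (by rw [ht]; norm_num)
    set n := Nat.card (centralizer ({t} : Set G))
    set m := (centralizer ({t} : Set G)).index
    have h5 : 9 ∣ m := by
      have : (9 : ℤ) ∣ m := by
        have h6 : (9 : ℤ) * 3 ∣ m * 3 := by exact_mod_cast h2
        exact Int.dvd_of_mul_dvd_mul_right (by norm_num) h6
      exact_mod_cast this
    obtain ⟨k, hk⟩ := h5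
    rw [hk] at h3
    have h6 : n ∣ 13 * 48 := ⟨k, by linarith⟩
    have h7 : n ∣ 48 := by
      apply Nat.Coprime.dvd_of_dvd_mul_left _ h6
      rw [Nat.coprime_comm]
      exact (Nat.Prime.coprime_iff_not_dvd (by norm_num)).2 h4
    have h8 : 26 ≤ n := by
      have : (26 : ℤ) ≤ n := by linarith
      exact_mod_cast this
    have h9 : n ≤ 48 := Nat.le_of_dvd (by norm_num) h7
    interval_cases n <;> first | rfl | (exfalso; revert h7; decide)
  refine ⟨h48, ?_⟩
  intro x t hx ht h4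
  obtain ⟨e1, e2, e3⟩ := hinv t ht
  have hbx : (b : G → ℂ) x = 0 := three_char hG h (by rw [hb]) (by rw [hx])
  have hηx := hrel x (by rw [hx]; norm_num)
  rw [hbx, hva] at hηx
  have h1 := ColTools.struct_const x t D.u
  rw [hst x t (by rw [hx]; norm_num) (by rw [ht]; norm_num), e1, e2, e3, hbx, hva, h48 t ht, h] at h1
  set N := Nat.card {p : G × G // IsConj x p.1 ∧ IsConj t p.2 ∧ p.1 * p.2 = D.u}
  have h2 := omega_int B.η (x := x) (v := 1 - va x) (by rw [hηx]; push_cast; ring)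
  rw [hη] at h2
  have h3 := (centralizer ({x} : Set G)).index_mul_card
  rw [h] at h3
  obtain ⟨m, hm⟩ := h4
  rw [hm] at h1 h3
  have h5 : (N : ℤ) * (4 * m) = 39 * (3 - va x) := by
    have : (((N : ℤ) * (4 * m) : ℤ) : ℂ) = ((39 * (3 - va x) : ℤ) : ℂ) := by
      push_cast
      push_cast at h1
      linear_combination h1 / 48
    exact_mod_cast this
  have h6 : (4 : ℤ) ∣ 3 - va x := by
    have : (4 : ℤ) ∣ 39 * (3 - va x) := ⟨N * m, by rw [← h5]; ring⟩
    omega
  obtain ⟨k, hk⟩ := h2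
  have h7 : (4 : ℤ) ∣ 351 * (1 - va x) := by
    have h8 : ((centralizer ({x} : Set G)).index : ℤ) * m = 1404 := by
      have : (centralizer ({x} : Set G)).index * m = 1404 := by linarith
      exact_mod_cast this
    refine ⟨k * m, ?_⟩
    have h9 : (1404 : ℤ) * (1 - va x) = 16 * (k * m) := by
      rw [← h8]
      linear_combination (m : ℤ) * hk
    linarith
  omega

end

end Cfsg.Agent.Lib.H54W1
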