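import Cfsg.Agent.Lib.SmallSimple3
import Cfsg.Agent.Lib.Simple168
import Cfsg.Agent.Lib.DihedralHom
import Cfsg.Agent.Lib.DihD8
import Cfsg.Agent.Lib.ClSmall
import Cfsg.Agent.S0985
import Cfsg.Agent.S0254

set_option autoImplicit false
set_option linter.unusedSectionVars false

/-! Simple groups of order 360. -/

namespace Cfsg.Agent.Lib.H10Order360

open Subgroup
open Cfsg.Agent.Lib.SmallSimple
open Cfsg.Agent.Lib.Simple168 (exists_mem_orderOf_eq orderOf_dvd_card_of_mem centralizer_of_prime_order order_eight)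

variable {G : Type*} [Group G] [Finite G] [IsSimpleGroup G]

theorem hG (h : Nat.card G = 360) : ¬ IsMulCommutative G := not_isMulCommutative_of_card h (by norm_num)

theorem no_index_two (h : Nat.card G = 360) (H : Subgroup G) : H.index ≠ 2 := by
  intro h2
  have hn : H.Normal := normal_of_index_eq_two h2
  rcases hn.eq_bot_or_eq_top with h3 | h3
  · rw [h3, index_bot, h] at h2; omega
  · rw [h3, index_top] at h2; omega

/-- index at least 6 -/
theorem index_ge (h : Nat.card G = 360) (H : Subgroup G) (hH : H ≠ ⊤) : 6 ≤ H.index := by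
  have h1 := two_mul_card_dvd_factorial_index (hG h) H hH
  rw [h] at h1
  by_contra hcon
  have h2 : H.index ≤ 5 := by omega
  have h3 := Nat.factorial_le h2
  have h4 := Nat.le_of_dvd (Nat.factorial_pos _) h1
  have h5 : Nat.factorial 5 = 120 := rfl
  omega

theorem card_le (h : Nat.card G = 360) (H : Subgroup G) (hH : H ≠ ⊤) : Nat.card H ≤ 60 := by
  have h1 := index_ge h H hH
  have h2 := H.card_mul_index
  rw [h] at h2
  by_contra hcon
  have h3 : 61 ≤ Nat.card H := by omega
  nlinarith

/-- An index-six subgroup identifies the group. -/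
theorem of_index_six (h : Nat.card G = 360) (H : Subgroup G) (hH : H.index = 6) :
    Nonempty (G ≃* alternatingGroup (Fin 6)) := by
  classical
  have : Finite (G ⧸ H) := inferInstance
  have : Fintype (G ⧸ H) := Fintype.ofFinite _
  have hHt : H ≠ ⊤ := by rintro rfl; rw [index_top] at hH; omega
  have hinj : Function.Injective (MulAction.toPermHom G (G ⧸ H)) := by
    rw [← MonoidHom.ker_eq_bot_iff]
    rcases (MonoidHom.normal_ker (MulAction.toPermHom G (G ⧸ H))).eq_bot_or_eq_top with h1 | h1
    · exact h1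
    · exfalso
      apply hHt
      rw [eq_top_iff]
      intro g _
      have h2 : g ∈ (MulAction.toPermHom G (G ⧸ H)).ker := by rw [h1]; trivial
      have h3 : g • (QuotientGroup.mk 1 : G ⧸ H) = QuotientGroup.mk 1 := by
        have h4 := MonoidHom.mem_ker.1 h2
        have h5 := congrArg (fun f : Equiv.Perm (G ⧸ H) => f (QuotientGroup.mk 1)) h4
        exact h5
      have h4 : (QuotientGroup.mk (g * 1) : G ⧸ H) = QuotientGroup.mk 1 := h3
      rw [mul_one] at h4
      have h5 := QuotientGroup.eq.1 h4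
      rw [mul_one] at h5
      exact (inv_mem_iff).1 h5
  apply Cfsg.Agent.Lib.ClSmall.equiv_alternating_of_injective (α := G ⧸ H) 6
    (by rw [← Nat.card_eq_fintype_card]; exact hH) (by norm_num) _ hinj
  rw [h]; rfl

instance fact5 : Fact (Nat.Prime 5) := ⟨by norm_num⟩

theorem n5 (h : Nat.card G = 360) : Nat.card (Sylow 5 G) = 6 ∨ Nat.card (Sylow 5 G) = 36 := by
  have hG5 : Nat.card G = 5 ^ 1 * 72 := by rw [h]; norm_num
  have h1 := nsyl_mem hG5 (by norm_num)
  have h2 : (Nat.divisors 72).filter (fun d => d % 5 = 1) = {1, 6, 36} := by decide +kernel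
  rw [h2] at h1
  simp only [Finset.mem_insert, Finset.mem_singleton] at h1
  exact h1.resolve_left (nsyl_ne_one (hG h) (by rw [h]; norm_num))

theorem of_n5 (h : Nat.card G = 360) (h5 : Nat.card (Sylow 5 G) = 6) :
    Nonempty (G ≃* alternatingGroup (Fin 6)) := by
  obtain ⟨P⟩ : Nonempty (Sylow 5 G) := inferInstance
  have h6 : Nat.card (Sylow 5 G) = (normalizer ((P : Subgroup G) : Set G)).index := P.card_eq_index_normalizer
  exact of_index_six h _ (h6 ▸ h5)

theorem card5 (h : Nat.card G = 360) (P : Sylow 5 G) : Nat.card (P : Subgroup G) = 5 := by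
  have hG5 : Nat.card G = 5 ^ 1 * 72 := by rw [h]; norm_num
  have := sylow_card_of hG5 (by norm_num) P
  rw [show Nat.card (P : Subgroup G) = 5 ^ 1 from this]; norm_num

theorem cardC5 (h : Nat.card G = 360) (h5 : Nat.card (Sylow 5 G) = 36) (P : Sylow 5 G) :
    Nat.card (centralizer ((P : Subgroup G) : Set G)) = 5 := by
  obtain ⟨e, c, hN, hC, he, he1⟩ := nc_data (hG h) P (card5 h P)
  have h6 := card_normalizer_mul_nsyl P
  rw [h5, h, hN] at h6
  have h7 : e * c = 2 := by
    have : e * (5 * c) * 36 = 180 * (e * c) := by ring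
    omega
  have h8 : e ∣ 2 := Dvd.intro _ h7
  rcases (Nat.dvd_prime Nat.prime_two).1 h8 with h9 | h9
  · exact absurd h9 he1
  · rw [hC]
    rw [h9] at h7
    omega

theorem cent5 (h : Nat.card G = 360) (h5 : Nat.card (Sylow 5 G) = 36) (x : G) (hx : orderOf x = 5) :
    centralizer ({x} : Set G) = zpowers x :=
  centralizer_of_prime_order (card5 h) (cardC5 h h5) x hx

theorem no_commute5 (h : Nat.card G = 360) (h5 : Nat.card (Sylow 5 G) = 36) (x y : G) (hx : orderOf x = 5)
    (hxy : Commute x y) : orderOf y ∣ 5 := by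
  have : y ∈ zpowers x := by
    rw [← cent5 h h5 x hx, mem_centralizer_singleton_iff]
    exact hxy.symm
  have h2 := orderOf_dvd_card_of_mem this
  rwa [Nat.card_zpowers, hx] at h2

theorem card3 (h : Nat.card G = 360) (P : Sylow 3 G) : Nat.card (P : Subgroup G) = 9 := by
  have hG3 : Nat.card G = 3 ^ 2 * 40 := by rw [h]; norm_num
  have := sylow_card_of hG3 (by norm_num) P
  rw [show Nat.card (P : Subgroup G) = 3 ^ 2 from this]; norm_num

theorem comm3 (h : Nat.card G = 360) (P : Sylow 3 G) (a b : G) (ha : a ∈ (P : Subgroup G)) (hb : b ∈ (P : Subgroup G)) :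
    a * b = b * a := by
  have h1 : Nat.card (P : Subgroup G) = 3 ^ 2 := by rw [card3 h P]; norm_num
  have h2 := IsPGroup.isMulCommutative_of_card_eq_prime_sq h1
  exact congrArg Subtype.val (h2.is_comm.comm ⟨a, ha⟩ ⟨b, hb⟩)

theorem n3 (h : Nat.card G = 360) : Nat.card (Sylow 3 G) = 10 := by
  have hG3 : Nat.card G = 3 ^ 2 * 40 := by rw [h]; norm_num
  have h1 := nsyl_mem hG3 (by norm_num)
  have h2 : (Nat.divisors 40).filter (fun d => d % 3 = 1) = {1, 4, 10, 40} := by decide +kernel
  rw [h2] at h1
  simp only [Finset.mem_insert, Finset.mem_singleton] at h1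
  have h3 := nsyl_ne_one (hG h) (p := 3) (by rw [h]; norm_num)
  obtain ⟨P⟩ : Nonempty (Sylow 3 G) := inferInstance
  have h6 : Nat.card (Sylow 3 G) = (normalizer ((P : Subgroup G) : Set G)).index := P.card_eq_index_normalizer
  rcases h1 with h1 | h1 | h1 | h1
  · exact absurd h1 h3
  · exfalso
    have h7 : normalizer ((P : Subgroup G) : Set G) ≠ ⊤ := by
      intro h8
      rw [h8, index_top] at h6
      omega
    have := index_ge h _ h7
    omega
  · exact h1
  · exfalso
    apply not_normalizer_le_centralizer (hG h) (p := 3) (by rw [h]; norm_num) P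
    have h8 := card_normalizer_mul_nsyl P
    rw [h1, h] at h8
    have h9 : (P : Subgroup G) = normalizer ((P : Subgroup G) : Set G) := by
      apply eq_of_le_of_card_ge le_normalizer
      rw [card3 h P]
      omega
    rw [← h9]
    intro x hx
    rw [mem_centralizer_iff]
    intro y hy
    exact comm3 h P y x hy hx

theorem cardN3 (h : Nat.card G = 360) (P : Sylow 3 G) : Nat.card (normalizer ((P : Subgroup G) : Set G)) = 36 := by
  have h5 := card_normalizer_mul_nsyl P
  rw [n3 h, h] at h5
  omega

/-- The Sylow 3-subgroups intersect trivially. -/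
theorem ti3 (h : Nat.card G = 360) (P Q : Sylow 3 G) (hPQ : P ≠ Q) : (P : Subgroup G) ⊓ (Q : Subgroup G) = ⊥ := by
  classical
  by_contra hne
  set D : Subgroup G := (P : Subgroup G) ⊓ (Q : Subgroup G) with hD
  set C : Subgroup G := centralizer (D : Set G) with hC
  have hPC : (P : Subgroup G) ≤ C := by
    intro x hx
    rw [hC, mem_centralizer_iff]
    intro y hy
    exact comm3 h P y x hy.1 hx
  have hQC : (Q : Subgroup G) ≤ C := by
    intro x hx
    rw [hC, mem_centralizer_iff]
    intro y hy
    exact comm3 h Q y x hy.2 hx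
  have hCt : C ≠ ⊤ := by
    intro h1
    have h2 : D ≤ center G := by
      intro x hx
      rw [mem_center_iff]
      intro g
      have hg : g ∈ C := by rw [h1]; trivial
      rw [hC, mem_centralizer_iff] at hg
      exact (hg x hx).symm
    have h3 : (center G) ≠ ⊥ := by
      intro h4
      rw [h4, le_bot_iff] at h2
      exact hne h2
    have h4 : (center G).Normal := inferInstance
    rcases h4.eq_bot_or_eq_top with h5 | h5
    · exact h3 h5
    · apply hG h
      refine ⟨⟨fun a b => ?_⟩⟩
      have h6 : a ∈ center G := by rw [h5]; trivial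
      exact (mem_center_iff.1 h6 b).symm
  have hC60 := card_le h C hCt
  -- |C| = 9 k
  have h9 : 9 ∣ Nat.card C := by rw [← card3 h P]; exact card_dvd_of_le hPC
  obtain ⟨k, hk⟩ := h9
  have hCd : Nat.card C ∣ 360 := by rw [← h]; exact card_subgroup_dvd_card C
  have hk40 : k ∣ 40 := by
    rw [hk, show (360 : ℕ) = 9 * 40 by norm_num] at hCd
    exact Nat.dvd_of_mul_dvd_mul_left (by norm_num) hCd
  have hk6 : k ≤ 6 := by omega
  have hk3 : ¬ 3 ∣ k := by
    intro h3
    have := h3.trans hk40
    revert this; decide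
  have hCk : Nat.card C = 3 ^ 2 * k := by rw [hk]; norm_num
  let P' : Sylow 3 C := P.subtype hPC
  let Q' : Sylow 3 C := Q.subtype hQC
  have hn1 : Nat.card (Sylow 3 C) ≠ 1 := by
    intro h1
    have hsub : Subsingleton (Sylow 3 C) := (Nat.card_eq_one_iff_unique.1 h1).1
    apply hPQ
    have h2 : P' = Q' := Subsingleton.elim _ _
    have h3 : (P : Subgroup G).subgroupOf C = (Q : Subgroup G).subgroupOf C := by
      have := congrArg (fun S : Sylow 3 C => (S : Subgroup C)) h2
      exact this
    apply Sylow.ext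
    have h4 := congrArg (Subgroup.map C.subtype) h3
    rw [subgroupOf_map_subtype, subgroupOf_map_subtype, inf_eq_left.2 hPC, inf_eq_left.2 hQC] at h4
    exact h4
  have hmem := nsyl_mem hCk hk3
  have hk4 : k = 4 ∧ Nat.card (Sylow 3 C) = 4 := by
    rw [Finset.mem_filter] at hmem
    obtain ⟨hd, hm⟩ := hmem
    have hd' := (Nat.mem_divisors.1 hd).1
    have hkpos : 0 < k := Nat.pos_of_ne_zero (by rintro rfl; norm_num at hk40)
    have hle := Nat.le_of_dvd hkpos hd'
    interval_cases k
    · omega
    · omega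
    · exact absurd (dvd_refl 3) hk3
    · refine ⟨rfl, ?_⟩
      omega
    · have : Nat.card (Sylow 3 C) = 4 := by omega
      rw [this] at hd'
      exact absurd hd' (by decide)
    · exact absurd hk40 (by decide)
  obtain ⟨rfl, hn4⟩ := hk4
  have hN : Nat.card (normalizer ((P' : Subgroup C) : Set C)) = 9 := by
    have h5 := card_normalizer_mul_nsyl P'
    rw [hn4, hk] at h5
    omega
  have hP'card : Nat.card (P' : Subgroup C) = 9 := by
    have := sylow_card_of hCk hk3 P'
    rw [show Nat.card (P' : Subgroup C) = 3 ^ 2 from this]; norm_num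
  have hNle : normalizer ((P' : Subgroup C) : Set C) ≤ centralizer ((P' : Subgroup C) : Set C) := by
    have h9 : (P' : Subgroup C) = normalizer ((P' : Subgroup C) : Set C) := by
      apply eq_of_le_of_card_ge le_normalizer
      rw [hP'card, hN]
    rw [← h9]
    intro x hx
    rw [mem_centralizer_iff]
    intro y hy
    apply Subtype.ext
    exact comm3 h P y x hy hx
  obtain ⟨V, hVc, hVcompl, hV3⟩ := exists_characteristic_complement P' hNle
  have hVcard : Nat.card V = 4 := by
    have := hVcompl.card_mul_card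
    rw [hP'card, hk] at this
    omega
  have hVn : V.Normal := inferInstance
  set W : Subgroup G := V.map C.subtype with hW
  have hWcard : Nat.card W = 4 := by
    rw [hW, Subgroup.card_map_of_injective C.subtype_injective, hVcard]
  have hCN : C ≤ normalizer (W : Set G) := by
    intro c hc
    rw [mem_normalizer_iff]
    intro w
    constructor
    · rintro ⟨v, hv, rfl⟩
      exact ⟨⟨c, hc⟩ * v * ⟨c, hc⟩⁻¹, hVn.conj_mem v hv ⟨c, hc⟩, rfl⟩
    · rintro ⟨v, hv, hve⟩
      refine ⟨⟨c, hc⟩⁻¹ * v * ⟨c, hc⟩, ?_, ?_⟩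
      · have := hVn.conj_mem v hv ⟨c, hc⟩⁻¹
        rwa [inv_inv] at this
      · change c⁻¹ * (v : G) * c = w
        have hve' : (v : G) = c * w * c⁻¹ := hve
        rw [hve']
        group
  -- a Sylow 2-subgroup above W normalizes it
  have hWp : IsPGroup 2 W := IsPGroup.of_card (n := 2) (by rw [hWcard]; norm_num)
  obtain ⟨S, hS⟩ := hWp.exists_le_sylow
  have hScard : Nat.card (S : Subgroup G) = 8 := by
    have hG2 : Nat.card G = 2 ^ 3 * 45 := by rw [h]; norm_num
    have := sylow_card_of hG2 (by norm_num) S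
    rw [show Nat.card (S : Subgroup G) = 2 ^ 3 from this]; norm_num
  have hSN : (S : Subgroup G) ≤ normalizer (W : Set G) := by
    have h1 : (W.subgroupOf (S : Subgroup G)).index = 2 := by
      have h2 := (W.subgroupOf (S : Subgroup G)).card_mul_index
      rw [card_subgroupOf, inf_eq_left.2 hS, hWcard, hScard] at h2
      omega
    have h2 : (W.subgroupOf (S : Subgroup G)).Normal := normal_of_index_eq_two h1
    exact (normal_subgroupOf_iff_le_normalizer hS).1 h2
  have h72 : 72 ∣ Nat.card (normalizer (W : Set G)) := by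
    have h8 : 8 ∣ Nat.card (normalizer (W : Set G)) := by rw [← hScard]; exact card_dvd_of_le hSN
    have h36 : 36 ∣ Nat.card (normalizer (W : Set G)) := by
      have : Nat.card C ∣ Nat.card (normalizer (W : Set G)) := card_dvd_of_le hCN
      rwa [hk] at this
    omega
  have hNt : normalizer (W : Set G) ≠ ⊤ := by
    intro h1
    have h2 : W.Normal := normalizer_eq_top_iff.1 h1
    rcases h2.eq_bot_or_eq_top with h3 | h3
    · rw [h3, card_bot] at hWcard; omega
    · rw [h3, card_top, h] at hWcard; omega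
  have := card_le h _ hNt
  have h3 := Nat.le_of_dvd Nat.card_pos h72
  omega

theorem smul_eq_of_commute (h : Nat.card G = 360) {x t : G} (hx : orderOf x = 3) (hxt : Commute x t)
    (P : Sylow 3 G) (hP : x ∈ (P : Subgroup G)) : t • P = P := by
  by_contra hne
  have h1 := ti3 h (t • P) P hne
  have h2 : x ∈ (P : Subgroup G) ⊓ (P : Subgroup G) := ⟨hP, hP⟩
  have h3 : x ∈ ((t • P : Sylow 3 G) : Subgroup G) ⊓ (P : Subgroup G) := by
    refine ⟨?_, hP⟩
    rw [Sylow.smul_def]
    refine ⟨x, hP, ?_⟩
    change t * x * t⁻¹ = x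
    rw [← hxt.eq, mul_inv_cancel_right]
  rw [h1, mem_bot] at h3
  rw [h3, orderOf_one] at hx
  omega

/-- No involution commutes with an element of order 3. -/
theorem no_commute3 (h : Nat.card G = 360) (x t : G) (hx : orderOf x = 3) (ht : orderOf t = 2)
    (hxt : Commute x t) : False := by
  classical
  have hx1 : IsPGroup 3 (zpowers x) := IsPGroup.of_card (n := 1) (by rw [Nat.card_zpowers, hx]; norm_num)
  obtain ⟨P, hP⟩ := hx1.exists_le_sylow
  have hxP : x ∈ (P : Subgroup G) := hP (mem_zpowers x)
  have htP := smul_eq_of_commute h hx hxt P hxP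
  have : Fintype (Sylow 3 G) := Fintype.ofFinite _
  set σ : Equiv.Perm (Sylow 3 G) := MulAction.toPermHom G (Sylow 3 G) t with hσ
  -- the action is faithful and even
  have hker : (MulAction.toPermHom G (Sylow 3 G)).ker = ⊥ := by
    rcases (MonoidHom.normal_ker (MulAction.toPermHom G (Sylow 3 G))).eq_bot_or_eq_top with h1 | h1
    · exact h1
    · exfalso
      have h6 : Nat.card (Sylow 3 G) = (normalizer ((P : Subgroup G) : Set G)).index := P.card_eq_index_normalizer
      have h7 : normalizer ((P : Subgroup G) : Set G) = ⊤ := by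
        rw [eq_top_iff]
        intro g _
        apply (Sylow.smul_eq_iff_mem_normalizer (P := P)).1
        have h2 : g ∈ (MulAction.toPermHom G (Sylow 3 G)).ker := by rw [h1]; trivial
        exact congrArg (fun f : Equiv.Perm (Sylow 3 G) => f P) (MonoidHom.mem_ker.1 h2)
      rw [h7, index_top, n3 h] at h6
      omega
  have hinj : Function.Injective (MulAction.toPermHom G (Sylow 3 G)) := (MonoidHom.ker_eq_bot_iff _).1 hker
  have hsign : Equiv.Perm.sign σ = 1 := by
    let s : G →* ℤˣ := Equiv.Perm.sign.comp (MulAction.toPermHom G (Sylow 3 G))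
    have hs : s.ker = ⊤ := by
      rcases IsSimpleGroup.eq_bot_or_eq_top_of_normal s.ker inferInstance with h | h'
      · exfalso
        apply hG ‹Nat.card G = 360›
        have hsinj := (MonoidHom.ker_eq_bot_iff s).1 h
        exact ⟨⟨fun a b => hsinj (by rw [map_mul, map_mul, mul_comm])⟩⟩
      · exact h'
    have : t ∈ s.ker := by rw [hs]; trivial
    exact this
  have hσ2 : σ ^ 2 = 1 := by
    rw [hσ, ← map_pow, ← ht, pow_orderOf_eq_one, map_one]
  have hσ1 : σ ≠ 1 := by
    intro h1
    have : t = 1 := hinj (by rw [map_one]; exact h1)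
    rw [this, orderOf_one] at ht
    omega
  have hform := Equiv.Perm.sign_of_pow_two_eq_one hσ2
  rw [hsign] at hform
  have hcard : Fintype.card (Sylow 3 G) = 10 := by rw [← Nat.card_eq_fintype_card]; exact n3 h
  rw [hcard] at hform
  -- the fixed points of t
  let X := {Q : Sylow 3 G // t • Q = Q}
  have hcomm : ∀ g : zpowers x, (g : G) * t = t * (g : G) := by
    rintro ⟨g, hg⟩
    obtain ⟨k, rfl⟩ := hg
    exact (hxt.zpow_left k).eq
  let _ : MulAction (zpowers x) X :=
    { smul := fun g Q => ⟨(g : G) • Q.1, by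
        rw [smul_smul, ← hcomm g, ← smul_smul, Q.2]⟩
      one_smul := fun Q => Subtype.ext (one_smul G Q.1)
      mul_smul := fun a b Q => Subtype.ext (mul_smul (a : G) (b : G) Q.1) }
  have hX3 := hx1.card_modEq_card_fixedPoints X
  have hfix : Nat.card (MulAction.fixedPoints (zpowers x) X) = 1 := by
    rw [Nat.card_eq_one_iff_unique]
    refine ⟨⟨?_⟩, ⟨⟨⟨P, htP⟩, ?_⟩⟩⟩
    · rintro ⟨⟨Q, hQ⟩, hQ2⟩ ⟨⟨R, hR⟩, hR2⟩
      have key : ∀ Q : Sylow 3 G, x • Q = Q → x ∈ (Q : Subgroup G) := by
        intro Q hQ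
        rw [Sylow.smul_eq_iff_mem_normalizer] at hQ
        have h1 := hx1.inf_normalizer_sylow Q
        have h2 := Subgroup.mem_inf.2 ⟨mem_zpowers x, hQ⟩
        have h3 := (SetLike.ext_iff.1 h1 x).1 h2
        exact h3.2
      have hxQ : x ∈ (Q : Subgroup G) := key Q (by
        have := hQ2 ⟨x, mem_zpowers x⟩
        exact congrArg Subtype.val this)
      have hxR : x ∈ (R : Subgroup G) := key R (by
        have := hR2 ⟨x, mem_zpowers x⟩
        exact congrArg Subtype.val this)
      have : Q = R := by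
        by_contra hne
        have h1 := ti3 h Q R hne
        have h2 : x ∈ (Q : Subgroup G) ⊓ (R : Subgroup G) := ⟨hxQ, hxR⟩
        rw [h1, mem_bot] at h2
        rw [h2, orderOf_one] at hx
        omega
      subst this
      rfl
    · intro g
      apply Subtype.ext
      change (g : G) • P = P
      exact (Sylow.smul_eq_iff_mem_normalizer (P := P)).2 (le_normalizer (hP g.2))
  rw [hfix] at hX3
  have hXf : Fintype.card (Function.fixedPoints σ) = Nat.card X := by
    rw [← Nat.card_eq_fintype_card]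
    rfl
  have hX2 : 10 ≡ Nat.card X [MOD 2] := by
    have ht2 : IsPGroup 2 (zpowers t) := IsPGroup.of_card (n := 1) (by rw [Nat.card_zpowers, ht]; norm_num)
    have h1 := ht2.card_modEq_card_fixedPoints (Sylow 3 G)
    rw [n3 h] at h1
    have h2 : Nat.card (MulAction.fixedPoints (zpowers t) (Sylow 3 G)) = Nat.card X := by
      apply Nat.card_congr
      apply Equiv.subtypeEquivRight
      intro Q
      constructor
      · intro h3
        exact h3 ⟨t, mem_zpowers t⟩
      · rintro h3 ⟨g, hg⟩
        obtain ⟨k, rfl⟩ := hg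
        change t ^ k • Q = Q
        have h4 : t ∈ MulAction.stabilizer G Q := h3
        exact Subgroup.zpow_mem _ h4 k
    rwa [h2] at h1
  have hXle : Nat.card X ≤ 10 := by
    rw [← n3 h]
    exact Nat.card_le_card_of_injective (fun Q : X => Q.1) Subtype.val_injective
  have hXne : Nat.card X ≠ 10 := by
    intro h10
    apply hσ1
    have hsurj : Function.Surjective (fun Q : X => Q.1) := by
      have : Fintype X := Fintype.ofFinite X
      apply (Fintype.bijective_iff_injective_and_card (fun Q : X => Q.1)).2 ⟨Subtype.val_injective, ?_⟩ |>.2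
      rw [hcard, ← Nat.card_eq_fintype_card, h10]
    ext1 Q
    obtain ⟨Q', hQ'⟩ := hsurj Q
    rw [← hQ']
    exact Q'.2
  rw [hXf] at hform
  have hcases : Nat.card X = 4 := by
    have h1 : Nat.card X % 3 = 1 := hX3
    have h2 : Nat.card X % 2 = 0 := hX2.symm
    omega
  rw [hcases] at hform
  revert hform
  decide

theorem card2 (h : Nat.card G = 360) (P : Sylow 2 G) : Nat.card (P : Subgroup G) = 8 := by
  have hG2 : Nat.card G = 2 ^ 3 * 45 := by rw [h]; norm_num
  have := sylow_card_of hG2 (by norm_num) P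
  rw [show Nat.card (P : Subgroup G) = 2 ^ 3 from this]; norm_num

/-- A subgroup without elements of order 3 and 5 is a 2-group. -/
theorem isPGroup_two (h : Nat.card G = 360) (H : Subgroup G) (h3 : ∀ x ∈ H, orderOf x ≠ 3) (h5 : ∀ x ∈ H, orderOf x ≠ 5) :
    IsPGroup 2 H := by
  have h1 : ¬ 3 ∣ Nat.card H := by
    intro hd
    obtain ⟨x, hx, hxo⟩ := exists_mem_orderOf_eq H 3 hd
    exact h3 x hx hxo
  have h2 : ¬ 5 ∣ Nat.card H := by
    intro hd
    obtain ⟨x, hx, hxo⟩ := exists_mem_orderOf_eq H 5 hd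
    exact h5 x hx hxo
  have h4 : Nat.card H ∣ 2 ^ 3 * 45 := by
    have := card_subgroup_dvd_card H
    rw [h] at this
    simpa using this
  have h5 : Nat.Coprime (Nat.card H) 45 := by
    have e1 : Nat.Coprime (Nat.card H) 3 := ((Nat.Prime.coprime_iff_not_dvd Nat.prime_three).2 h1).symm
    have e2 : Nat.Coprime (Nat.card H) 5 := ((Nat.Prime.coprime_iff_not_dvd (by norm_num : Nat.Prime 5)).2 h2).symm
    have := Nat.Coprime.mul_right (Nat.Coprime.mul_right e1 e1) e2
    simpa using this
  have h6 := Nat.Coprime.dvd_of_dvd_mul_right h5 h4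
  obtain ⟨k, hk, hk'⟩ := (Nat.dvd_prime_pow Nat.prime_two).1 h6
  exact IsPGroup.of_card hk'

/-- The centralizer of an involution is a 2-group. -/
theorem centralizer_isPGroup (h : Nat.card G = 360) (h5 : Nat.card (Sylow 5 G) = 36) (t : G) (ht : orderOf t = 2) :
    IsPGroup 2 (centralizer ({t} : Set G)) := by
  apply isPGroup_two h
  · intro x hx hx3
    rw [mem_centralizer_singleton_iff] at hx
    exact no_commute3 h x t hx3 ht hx
  · intro x hx hx5
    rw [mem_centralizer_singleton_iff] at hx
    have := no_commute5 h h5 x t hx5 hx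
    rw [ht] at this
    revert this; decide

/-- An involution which is central in the Sylow 2-subgroup `T` has `T` as centralizer. -/
theorem centralizer_eq_sylow (h : Nat.card G = 360) (h5 : Nat.card (Sylow 5 G) = 36) (T : Sylow 2 G) (z : G)
    (hz : orderOf z = 2) (hc : ∀ t ∈ (T : Subgroup G), t * z = z * t) : centralizer ({z} : Set G) = T := by
  have h1 := centralizer_isPGroup h h5 z hz
  apply T.is_maximal' h1
  intro t ht
  rw [mem_centralizer_singleton_iff]
  exact hc t ht

theorem n2 (h : Nat.card G = 360) (h5 : Nat.card (Sylow 5 G) = 36) :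
    ¬ Nat.card (Sylow 2 G) ≡ 1 [MOD 2 ^ 3] := by
  have hG2 : Nat.card G = 2 ^ 3 * 45 := by rw [h]; norm_num
  have h1 := nsyl_mem hG2 (by norm_num)
  have h2 : (Nat.divisors 45).filter (fun d => d % 2 = 1) = {1, 3, 5, 9, 15, 45} := by decide +kernel
  rw [h2] at h1
  simp only [Finset.mem_insert, Finset.mem_singleton] at h1
  have h3 := nsyl_ne_one (hG h) (p := 2) (by rw [h]; norm_num)
  intro hmod
  have h4 : Nat.card (Sylow 2 G) = 9 := by
    have : Nat.card (Sylow 2 G) % 8 = 1 := hmod
    omega
  obtain ⟨T⟩ : Nonempty (Sylow 2 G) := inferInstance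
  have h6 := card_normalizer_mul_nsyl T
  rw [h4, h] at h6
  have hN : Nat.card (normalizer ((T : Subgroup G) : Set G)) = 40 := by omega
  obtain ⟨y, hy, hy5⟩ := exists_mem_orderOf_eq (normalizer ((T : Subgroup G) : Set G)) 5 (by rw [hN]; norm_num)
  -- y acts on the 8 elements of T
  have hyp : IsPGroup 5 (zpowers y) := IsPGroup.of_card (n := 1) (by rw [Nat.card_zpowers, hy5]; norm_num)
  have hyN : ∀ g : zpowers y, (g : G) ∈ normalizer ((T : Subgroup G) : Set G) := by
    rintro ⟨g, hg⟩
    exact (zpowers_le.2 hy) hg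
  let _ : MulAction (zpowers y) (T : Subgroup G) :=
    { smul := fun g u => ⟨(g : G) * u * (g : G)⁻¹, (mem_normalizer_iff.1 (hyN g) u).1 u.2⟩
      one_smul := fun u => Subtype.ext (by change (1 : G) * u * (1 : G)⁻¹ = u; group)
      mul_smul := fun a b u => Subtype.ext (by
        change ((a : G) * b) * u * ((a : G) * b)⁻¹ = (a : G) * ((b : G) * u * (b : G)⁻¹) * (a : G)⁻¹
        group) }
  have h7 := hyp.card_modEq_card_fixedPoints (T : Subgroup G)
  rw [card2 h T] at h7
  have h8 : Nat.card (MulAction.fixedPoints (zpowers y) (T : Subgroup G)) = 1 := by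
    rw [Nat.card_eq_one_iff_unique]
    have key : ∀ u : (T : Subgroup G), u ∈ MulAction.fixedPoints (zpowers y) (T : Subgroup G) → u = 1 := by
      intro u hu
      have h9 : y * (u : G) * y⁻¹ = u := congrArg Subtype.val (hu ⟨y, mem_zpowers y⟩)
      have h10 : Commute y (u : G) := by
        change y * (u : G) = u * y
        calc y * (u : G) = (y * (u : G) * y⁻¹) * y := by group
          _ = u * y := by rw [h9]
      have h11 := no_commute5 h h5 y u hy5 h10
      have h12 : orderOf (u : G) ∣ 8 := by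
        have := orderOf_dvd_card_of_mem u.2
        rwa [card2 h T] at this
      have h13 : orderOf (u : G) = 1 := by
        have : orderOf (u : G) ∣ Nat.gcd 5 8 := Nat.dvd_gcd h11 h12
        simpa using this
      exact Subtype.ext (orderOf_eq_one_iff.1 h13)
    refine ⟨⟨fun a b => Subtype.ext ((key _ a.2).trans (key _ b.2).symm)⟩, ⟨⟨1, ?_⟩⟩⟩
    intro g
    apply Subtype.ext
    change (g : G) * 1 * (g : G)⁻¹ = 1
    group
  rw [h8] at h7
  revert h7
  decide

/-- Some Sylow 2-subgroup contains a non-central involution; hence all of them do. -/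
theorem exists_noncentral_involution (h : Nat.card G = 360) (h5 : Nat.card (Sylow 5 G) = 36) :
    ∃ T : Sylow 2 G, ∃ s ∈ (T : Subgroup G), orderOf s = 2 ∧ ∃ t ∈ (T : Subgroup G), t * s ≠ s * t := by
  classical
  obtain ⟨P, R, hPR, hidx⟩ := Cfsg.Agent.S0985.result 2 3 (n2 h h5)
  set D : Subgroup G := (P : Subgroup G) ⊓ (R : Subgroup G) with hD
  have hDcard : 2 ∣ Nat.card D := by
    have e1 := ((R : Subgroup G).subgroupOf (P : Subgroup G)).index_mul_card
    rw [card_subgroupOf, inf_comm, ← hD, card2 h P] at e1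
    have e2 : Nat.card D ∣ 2 ^ 3 := by
      rw [show (2 : ℕ) ^ 3 = 8 by norm_num, ← card2 h P]; exact card_dvd_of_le inf_le_left
    obtain ⟨k, hk, hk'⟩ := (Nat.dvd_prime_pow Nat.prime_two).1 e2
    rw [hk'] at e1 ⊢
    rcases Nat.eq_zero_or_pos k with h0 | h0
    · rw [h0] at e1
      simp at e1
      rw [e1] at hidx
      norm_num at hidx
    · exact dvd_pow_self 2 h0.ne'
  obtain ⟨s, hsD, hs⟩ := exists_mem_orderOf_eq D 2 hDcard
  by_contra hcon
  push Not at hcon
  apply hPR
  have e1 := centralizer_eq_sylow h h5 P s hs (hcon P s hsD.1 hs)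
  have e2 := centralizer_eq_sylow h h5 R s hs (hcon R s hsD.2 hs)
  apply Sylow.ext
  rw [← e1, ← e2]

theorem exists_dihedral (h : Nat.card G = 360) (h5 : Nat.card (Sylow 5 G) = 36) :
    ∃ T : Sylow 2 G, Nonempty (↥(T : Subgroup G) ≃* DihedralGroup 4) := by
  obtain ⟨T, s, hsT, hs, t, htT, hts⟩ := exists_noncentral_involution h h5
  refine ⟨T, ?_⟩
  have hs2 : (⟨s, hsT⟩ : (T : Subgroup G)) * ⟨s, hsT⟩ = 1 := by
    apply Subtype.ext
    have := pow_orderOf_eq_one s
    rw [hs, pow_two] at this
    exact this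
  obtain ⟨r, hr, hsr, hsn⟩ := order_eight (T := (T : Subgroup G)) (card2 h T) ⟨s, hsT⟩ hs2
    ⟨⟨t, htT⟩, fun h5 => hts (congrArg Subtype.val h5)⟩
  apply Cfsg.Agent.Lib.DihedralHom.nonempty_mulEquiv (by norm_num) r ⟨s, hsT⟩ hr hs2 hsr hsn
  have hidx : (zpowers r).index = 2 := by
    have := (zpowers r).index_mul_card
    rw [Nat.card_zpowers, hr, card2 h T] at this
    omega
  have h8 : zpowers r ≤ closure {r, (⟨s, hsT⟩ : (T : Subgroup G))} := by
    rw [zpowers_le]; exact subset_closure (by simp)
  have h9 : (closure {r, (⟨s, hsT⟩ : (T : Subgroup G))}).index ∣ 2 := by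
    have h9' := index_dvd_of_le h8
    rwa [hidx] at h9'
  rcases (Nat.dvd_prime Nat.prime_two).1 h9 with h10 | h10
  · exact index_eq_one.1 h10
  · exfalso
    apply hsn
    have h11 : zpowers r = closure {r, (⟨s, hsT⟩ : (T : Subgroup G))} := by
      apply eq_of_le_of_card_ge h8
      have e1 := (zpowers r).index_mul_card
      have e2 := (closure {r, (⟨s, hsT⟩ : (T : Subgroup G))}).index_mul_card
      rw [hidx] at e1
      rw [h10] at e2
      omega
    rw [h11]
    exact subset_closure (by simp)

theorem main (h : Nat.card G = 360) : Nonempty (G ≃* alternatingGroup (Fin 6)) := by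
  rcases n5 h with h5 | h5
  · exact of_n5 h h5
  obtain ⟨T, ⟨e⟩⟩ := exists_dihedral h h5
  have hT8 := card2 h T
  have hnt : Nontrivial (T : Subgroup G) := by
    rw [← Finite.one_lt_card_iff_nontrivial, hT8]; norm_num
  have hcn := T.2.center_nontrivial
  have h1 : 2 ∣ Nat.card (center (T : Subgroup G)) := by
    have h2 : IsPGroup 2 (center (T : Subgroup G)) := T.2.to_subgroup _
    obtain ⟨k, hk⟩ := IsPGroup.iff_card.1 h2
    have h3 : 1 < Nat.card (center (T : Subgroup G)) := Finite.one_lt_card_iff_nontrivial.2 hcn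
    rw [hk] at h3 ⊢
    rcases Nat.eq_zero_or_pos k with h0 | h0
    · rw [h0] at h3; norm_num at h3
    · exact dvd_pow_self 2 h0.ne'
  obtain ⟨z, hz, hz2⟩ := exists_mem_orderOf_eq (center (T : Subgroup G)) 2 h1
  have hzo : orderOf (z : G) = 2 := (orderOf_coe z).trans hz2
  have hC := centralizer_eq_sylow h h5 T (z : G) hzo (by
    intro t ht
    exact congrArg Subtype.val (mem_center_iff.1 hz ⟨t, ht⟩))
  obtain ⟨F, hF, hFf, hc, ⟨i⟩⟩ := Cfsg.Agent.Lib.DihD8.psl2 (no_index_two h) hzo
    ((MulEquiv.subgroupCongr hC).trans e)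
  rcases hc with ⟨-, hc⟩ | ⟨hc, -⟩
  · omega
  · obtain ⟨j⟩ := Cfsg.Agent.S0254.result hc
    exact ⟨i.trans j⟩

end Cfsg.Agent.Lib.H10Order360
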