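import Mathlib
import Cfsg.Agent.Lib.A7Ctx

/-!
# Simple groups of order 504: no elements of order four (helper54)
-/

set_option autoImplicit false
set_option linter.all false

namespace Cfsg.Agent.Lib.Ord504

open Cfsg Subgroup Cfsg.Agent.Lib.DefOneLoc Cfsg.Agent.Lib.DefOneOrd Cfsg.Agent.Lib.CharBasic
open Cfsg.Agent.Lib.DefOneGram Cfsg.Agent.Lib.DefOne Cfsg.Agent.Lib.BRB0 Cfsg.Agent.Lib.BRCore
open Cfsg.Agent.Lib.PBData Cfsg.Agent.Lib.DefOnePrin Cfsg.Agent.Lib.BlockThird Cfsg.Agent.Lib.SmallSimple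
open Cfsg.Agent.Lib.PBNum Cfsg.Agent.Lib.PBExt Cfsg.Agent.Lib.PBStruct Cfsg.Agent.Lib.PBFull
open Cfsg.Agent.Lib.PBLocal Cfsg.Agent.Lib.A7Chars Cfsg.Agent.Lib.A7Table
open scoped ComplexConjugate

universe u

theorem opts504 : optsL (fun _ => true) 7 72 22 = [(36, 2, [8])] := by decide +kernel

section

variable {G : Type u} [Group G] [Fintype G] [IsSimpleGroup G] (hG : ¬ IsMulCommutative G)
  (h : Nat.card G = 504)

include hG h

variable {Q : Sylow 7 G} [Fintype (centralizer ((Q : Subgroup G) : Set G))]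
  {D : Loc 7 (Q : Subgroup G) (normalizer ((Q : Subgroup G) : Set G)) (centralizer ((Q : Subgroup G) : Set G))}

theorem stage (B : PBE D) : Nat.card (normalizer ((Q : Subgroup G) : Set G)) = 14 ∧
    Nat.card (centralizer ((Q : Subgroup G) : Set G)) = 7 ∧ (([8] : List ℤ) : Multiset ℤ) = sds B.toPB := by
  obtain ⟨hQ, e, c, l, hN, hC, he, he1, hecn, hmem, hl⟩ := dataL hG (M := 72) 22 (fun _ => true) (by rw [h])
    (by norm_num) (by norm_num) B.toPB (fun _ _ => rfl) (by decide +kernel)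
  rw [opts504, List.mem_singleton, Prod.mk.injEq, Prod.mk.injEq] at hmem
  obtain ⟨h1, rfl, rfl⟩ := hmem
  rw [h1] at hecn
  have hc : c = 1 := by omega
  subst hc
  exact ⟨hN, hC, hl⟩

/-- the data -/
theorem data (B : PBE D) : ∃ (a : IrrCharacter G) (O : Finset (IrrCharacter G)),
    charDegree (a : G → ℂ) = 8 ∧ (∀ χ : IrrCharacter G, charDegree (χ : G → ℂ) = 8 → χ = a) ∧
    (∀ g : G, ¬ 7 ∣ orderOf g → (B.η : G → ℂ) g = 1 + (a : G → ℂ) g) ∧
    (∀ F : IrrCharacter G → ℂ, (∀ χ ∈ B.E, F χ = F B.η) → ∑ χ, F χ = F (triv G) + F a + 3 * F B.η + ∑ χ ∈ O, F χ) ∧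
    charDegree (B.η : G → ℂ) = 9 ∧
    (∀ w : G, w * w = 1 → (∀ x, IsConj w x → x * D.u * x⁻¹ ≠ D.u⁻¹) →
      1 + (a : G → ℂ) w ^ 2 / 8 - (B.η : G → ℂ) w ^ 2 / 9 = 0) ∧
    (∀ w : G, w * w = 1 → w * D.u * w⁻¹ = D.u⁻¹ →
      72 * (1 + (a : G → ℂ) w ^ 2 / 8 - (B.η : G → ℂ) w ^ 2 / 9) =
        (Nat.card (Subgroup.centralizer ({w} : Set G)) : ℂ) ^ 2) := by
  classical
  obtain ⟨hN, hC, hl⟩ := stage hG h B
  have hl2 : (B.X.val).map (fun χ => sd B.toPB χ) = 8 ::ₘ 0 := by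
    change sds B.toPB = _
    rw [← hl]; rfl
  obtain ⟨a, s, hX, ha, hs⟩ := ext1 hl2
  rw [Multiset.map_eq_zero] at hs
  subst hs
  have hη : sd B.toPB B.η = -9 := by rw [sd_eta, ← hl]; decide
  obtain ⟨ha1, ha2⟩ := sigma_of _ ha (by norm_num)
  obtain ⟨hη1, hη2⟩ := sigma_of _ hη (by norm_num)
  replace ha2 : B.σ a = 1 := ha2
  replace hη2 : B.σ B.η = -1 := hη2
  have ha1' : charDegree (a : G → ℂ) = 8 := ha1
  have hη1' : charDegree (B.η : G → ℂ) = 9 := hη1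
  have hXa : B.X = {a} := by
    ext χ
    rw [Finset.mem_singleton]
    constructor
    · intro h
      have : χ ∈ B.X.val := h
      rw [hX] at this
      simpa using this
    · rintro rfl
      have : χ ∈ B.X.val := by rw [hX]; simp
      exact this
  have hE3 : B.E.card = 3 := by
    rw [B.cardE, tau_eq (e := 2) (c := 1) (by rw [hN]) (by rw [hC])]
  have haX : a ∈ B.X := by rw [hXa]; exact Finset.mem_singleton_self _
  have haE : a ∉ B.E := fun h => (Finset.disjoint_left.1 B.dE) haX h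
  have hta : triv G ≠ a := fun h => B.hX (h ▸ haX)
  set W : Finset (IrrCharacter G) := insert (triv G) (insert a B.E) with hW
  have htW : triv G ∉ insert a B.E := by
    rw [Finset.mem_insert, not_or]; exact ⟨hta, B.hE⟩
  refine ⟨a, Wᶜ, ha1', ?_, ?_, ?_, hη1', ?_, ?_⟩
  · intro χ hχ
    rcases B.all (hinj_of hC) χ (by rw [hχ]; norm_num) with h1 | h1 | h1
    · rw [h1, deg_triv] at hχ; norm_num at hχ
    · rw [hXa, Finset.mem_singleton] at h1; exact h1
    · rw [deg_eq_of_mem_E B h1, hη1'] at hχ; norm_num at hχ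
  · intro g hg
    have h1 := B.rel g hg
    rw [hXa, Finset.sum_singleton, ha2, hη2] at h1
    push_cast at h1
    linear_combination -h1
  · intro F hF
    rw [← Finset.sum_add_sum_compl W, hW, Finset.sum_insert htW, Finset.sum_insert haE,
      Finset.sum_congr rfl hF, Finset.sum_const, hE3, ← hW, nsmul_eq_mul]
    push_cast; ring
  · intro w hw h0
    have h1 := F_zero B.toPB (hinj_of hC) (by norm_num) hw h0
    rw [hXa, Finset.sum_singleton, ha2, hη2, ← BlockDeg.charDegree_cast_irr, ← BlockDeg.charDegree_cast_irr,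
      ha1', hη1'] at h1
    push_cast at h1
    linear_combination h1
  · intro w hw h0
    have h1 := F_one B.toPB (hinj_of hC) (by norm_num) hw h0
    rw [hXa, Finset.sum_singleton, ha2, hη2, ← BlockDeg.charDegree_cast_irr, ← BlockDeg.charDegree_cast_irr,
      ha1', hη1', h] at h1
    push_cast at h1
    linear_combination h1 / 7

/-- involutions -/
theorem invol (B : PBE D) : (∀ w : G, orderOf w = 2 → Nat.card (centralizer ({w} : Set G)) = 8) ∧
    ∀ f : G, orderOf f ≠ 4 := by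
  classical
  obtain ⟨hN, hC, -⟩ := stage hG h B
  obtain ⟨a, O, ha, huniq, hrel, hsum, hη, hF0, hF1⟩ := data hG h B
  -- first pass
  have h1 : ∀ w : G, orderOf w = 2 → (∃ x, IsConj w x ∧ x * D.u * x⁻¹ = D.u⁻¹) ∧
      (((a : G → ℂ) w = 4 ∧ Nat.card (centralizer ({w} : Set G)) = 4) ∨
       ((a : G → ℂ) w = 0 ∧ Nat.card (centralizer ({w} : Set G)) = 8) ∨
       ((a : G → ℂ) w = -4 ∧ Nat.card (centralizer ({w} : Set G)) = 12)) := by
    intro w hw
    have hw2 : w * w = 1 := by rw [← pow_two, ← hw, pow_orderOf_eq_one]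
    obtain ⟨k, hk, hk1, hk2⟩ := invol_val hG ha (by norm_num) hw
    have hrw := hrel w (by rw [hw]; norm_num)
    have hcases : (a : G → ℂ) w = 4 ∨ (a : G → ℂ) w = 0 ∨ (a : G → ℂ) w = -4 := by
      have : k = 1 ∨ k = 2 ∨ k = 3 := by omega
      rcases this with rfl | rfl | rfl
      · left; rw [hk]; norm_num
      · right; left; rw [hk]; norm_num
      · right; right; rw [hk]; norm_num
    have hex : ∃ x, IsConj w x ∧ x * D.u * x⁻¹ = D.u⁻¹ := by
      by_contra hcon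
      push Not at hcon
      have h2 := hF0 w hw2 hcon
      rw [hrw] at h2
      rcases hcases with hc | hc | hc <;> rw [hc] at h2 <;> norm_num at h2
    refine ⟨hex, ?_⟩
    obtain ⟨x, hx, hx'⟩ := hex
    have hox : orderOf x = 2 := by rw [← order_conj hx, hw]
    have hx2 : x * x = 1 := by rw [← pow_two, ← hox, pow_orderOf_eq_one]
    have h3 := hF1 x hx2 hx'
    rw [← val_conj a hx, ← val_conj B.η hx, ← card_cent_conj hx, hrw] at h3
    have key : ∀ n m : ℕ, ((n : ℂ)) ^ 2 = (m : ℂ) ^ 2 → n = m := by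
      intro n m hnm
      have : n ^ 2 = m ^ 2 := by exact_mod_cast hnm
      exact Nat.pow_left_injective (by norm_num : (2:ℕ) ≠ 0) this
    rcases hcases with hc | hc | hc
    · left
      refine ⟨hc, key _ _ ?_⟩
      rw [← h3, hc]; norm_num
    · right; left
      refine ⟨hc, key _ _ ?_⟩
      rw [← h3, hc]; norm_num
    · right; right
      refine ⟨hc, key _ _ ?_⟩
      rw [← h3, hc]; norm_num
  -- all involutions are conjugate
  have hconj : ∀ w w' : G, orderOf w = 2 → orderOf w' = 2 → IsConj w w' := by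
    intro w w' hw hw'
    obtain ⟨x, hx, hx'⟩ := (h1 w hw).1
    obtain ⟨y, hy, hy'⟩ := (h1 w' hw').1
    have hx2 : x * x = 1 := by
      rw [← pow_two]
      apply orderOf_dvd_iff_pow_eq_one.1
      rw [← order_conj hx, hw]
    exact (hx.trans (conj_of_inv D (hinj_of hC) (by norm_num) hx2 hx' hy')).trans hy.symm
  -- a central involution of a Sylow 2-subgroup
  obtain ⟨T⟩ : Nonempty (Sylow 2 G) := inferInstance
  have hT8 : Nat.card (T : Subgroup G) = 8 := by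
    have h1 := T.card_eq_multiplicity
    rw [h] at h1
    have h2 : (504 : ℕ).factorization 2 = 3 := by
      rw [show (504 : ℕ) = 2 ^ 3 * 63 by norm_num, Nat.factorization_mul (by norm_num) (by norm_num),
        Nat.Prime.factorization_pow (by norm_num)]
      simp [Nat.factorization_eq_zero_of_not_dvd]
    rw [h2] at h1
    exact h1
  obtain ⟨t, htT, ht2, htC⟩ : ∃ t ∈ (T : Subgroup G), orderOf t = 2 ∧ (T : Subgroup G) ≤ centralizer ({t} : Set G) := by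
    have hnt : Nontrivial (T : Subgroup G) := by
      apply Finite.one_lt_card_iff_nontrivial.1
      rw [hT8]; norm_num
    have hc := T.2.center_nontrivial
    have h2 : 2 ∣ Nat.card (center (T : Subgroup G)) := by
      have hpg : IsPGroup 2 (center (T : Subgroup G)) := T.2.to_subgroup _
      obtain ⟨n, hn⟩ := IsPGroup.iff_card.1 hpg
      have : 1 < Nat.card (center (T : Subgroup G)) := Finite.one_lt_card_iff_nontrivial.2 hc
      rw [hn] at this ⊢
      have hn0 : n ≠ 0 := by rintro rfl; simp at this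
      exact dvd_pow_self 2 hn0
    obtain ⟨z, hz⟩ := exists_prime_orderOf_dvd_card' (G := center (T : Subgroup G)) 2 h2
    refine ⟨z, (z : (T : Subgroup G)).2, by rw [Subgroup.orderOf_coe, Subgroup.orderOf_coe]; exact hz, ?_⟩
    intro x hx
    rw [mem_centralizer_singleton_iff]
    have := mem_center_iff.1 z.2 ⟨x, hx⟩
    exact congrArg Subtype.val this
  have ht8 : 8 ∣ Nat.card (centralizer ({t} : Set G)) := by rw [← hT8]; exact Subgroup.card_dvd_of_le htC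
  have hta : (a : G → ℂ) t = 0 ∧ Nat.card (centralizer ({t} : Set G)) = 8 := by
    rcases (h1 t ht2).2 with ⟨-, h2⟩ | h2 | ⟨-, h2⟩
    · rw [h2] at ht8; norm_num at ht8
    · exact h2
    · rw [h2] at ht8; norm_num at ht8
  have hcard : ∀ w : G, orderOf w = 2 → (a : G → ℂ) w = 0 ∧ Nat.card (centralizer ({w} : Set G)) = 8 := by
    intro w hw
    rw [val_conj a (hconj w t hw ht2), card_cent_conj (hconj w t hw ht2)]
    exact hta
  refine ⟨fun w hw => (hcard w hw).2, ?_⟩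
  intro f hf
  have hf4 : f ^ 4 = 1 := by rw [← hf, pow_orderOf_eq_one]
  have hw : orderOf (f ^ 2) = 2 := by rw [orderOf_pow' f (by norm_num), hf]; norm_num
  obtain ⟨hw0, hw8⟩ := hcard _ hw
  have hf1 : f ≠ 1 := by rintro rfl; rw [orderOf_one] at hf; norm_num at hf
  have hw1 : f ^ 2 ≠ 1 := by intro h; rw [h, orderOf_one] at hw; norm_num at hw
  have h7 : ¬ 7 ∣ orderOf f := by rw [hf]; norm_num
  have h7w : ¬ 7 ∣ orderOf (f ^ 2) := by rw [hw]; norm_num
  have hηw := hrel _ h7w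
  rw [hw0, add_zero] at hηw
  have hηf := hrel _ h7
  -- norms and orthogonality for the involution
  have ho1 : ∑ χ ∈ O, (χ : G → ℂ) (f ^ 2) * (χ : G → ℂ) 1 = -28 := by
    have h4 := ColTools.col_orth_ne (G := G) (g := f ^ 2) (h := 1) (by
      intro h; exact hw1 (isConj_one_left.1 h))
    rw [inv_one, hsum (fun χ => (χ : G → ℂ) (f ^ 2) * (χ : G → ℂ) 1) (by
      intro χ hχ
      change (χ : G → ℂ) (f ^ 2) * (χ : G → ℂ) 1 = (B.η : G → ℂ) (f ^ 2) * (B.η : G → ℂ) 1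
      rw [B.eqE χ hχ _ h7w, B.eqE χ hχ 1 one_reg])] at h4
    have h5 : ((triv G : IrrCharacter G) : G → ℂ) (f ^ 2) = 1 := rfl
    have h6 : ((triv G : IrrCharacter G) : G → ℂ) 1 = 1 := rfl
    have h7' : (B.η : G → ℂ) 1 = 9 := by rw [← BlockDeg.charDegree_cast_irr, hη]; norm_num
    rw [h5, h6, hw0, hηw, h7'] at h4
    linear_combination h4
  have ho2 : ∑ χ ∈ O, ‖(χ : G → ℂ) (f ^ 2)‖ ^ 2 = 4 := by
    have h4 := ColTools.col_orth_self (G := G) (f ^ 2)
    rw [hsum (fun χ => (χ : G → ℂ) (f ^ 2) * (χ : G → ℂ) (f ^ 2)⁻¹) (by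
      intro χ hχ
      change (χ : G → ℂ) (f ^ 2) * (χ : G → ℂ) (f ^ 2)⁻¹ = (B.η : G → ℂ) (f ^ 2) * (B.η : G → ℂ) (f ^ 2)⁻¹
      rw [B.eqE χ hχ _ h7w, B.eqE χ hχ _ (by rw [orderOf_inv]; exact h7w)]), hw8] at h4
    have h5 : ((triv G : IrrCharacter G) : G → ℂ) (f ^ 2) = 1 := rfl
    have h6 : ((triv G : IrrCharacter G) : G → ℂ) (f ^ 2)⁻¹ = 1 := rfl
    have h8 : (B.η : G → ℂ) (f ^ 2)⁻¹ = 1 := by rw [B.η.2.inv, hηw, map_one]
    have h9 : ∑ χ ∈ O, (χ : G → ℂ) (f ^ 2) * (χ : G → ℂ) (f ^ 2)⁻¹ = ((∑ χ ∈ O, ‖(χ : G → ℂ) (f ^ 2)‖ ^ 2 : ℝ) : ℂ) := by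
      push_cast
      refine Finset.sum_congr rfl fun χ _ => ?_
      rw [χ.2.inv, Complex.mul_conj, Complex.normSq_eq_norm_sq]; push_cast; rfl
    rw [h5, h6, hw0, hηw, h8, h9] at h4
    have h10 : (((∑ χ ∈ O, ‖(χ : G → ℂ) (f ^ 2)‖ ^ 2 : ℝ)) : ℂ) = ((4 : ℝ) : ℂ) := by
      push_cast at h4 ⊢
      linear_combination h4
    exact_mod_cast h10
  have ho3 : ∑ χ ∈ O, ‖(χ : G → ℂ) 1‖ ^ 2 = 196 := by
    have h4 := ColTools.col_norm (G := G) 1
    have h5 := hsum (fun χ => ((‖(χ : G → ℂ) 1‖ ^ 2 : ℝ) : ℂ)) (by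
      intro χ hχ
      change ((‖(χ : G → ℂ) 1‖ ^ 2 : ℝ) : ℂ) = ((‖(B.η : G → ℂ) 1‖ ^ 2 : ℝ) : ℂ)
      rw [B.eqE χ hχ 1 one_reg])
    have h6 : Nat.card (centralizer ({(1 : G)} : Set G)) = 504 := by
      have hc1 : centralizer ({(1 : G)} : Set G) = ⊤ := by
        rw [eq_top_iff]
        intro x _
        rw [mem_centralizer_singleton_iff, mul_one, one_mul]
      rw [hc1, Subgroup.card_top, h]
    rw [h6] at h4
    have h7' : (B.η : G → ℂ) 1 = 9 := by rw [← BlockDeg.charDegree_cast_irr, hη]; norm_num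
    have h8 : (a : G → ℂ) 1 = 8 := by rw [← BlockDeg.charDegree_cast_irr, ha]; norm_num
    have h9 : ((triv G : IrrCharacter G) : G → ℂ) 1 = 1 := rfl
    rw [h7', h8, h9] at h5
    have h10 : ((∑ χ : IrrCharacter G, ‖(χ : G → ℂ) 1‖ ^ 2 : ℝ) : ℂ) = ((504 : ℝ) : ℂ) := by
      rw [h4]; norm_num
    have h11 : (((∑ χ ∈ O, ‖(χ : G → ℂ) 1‖ ^ 2 : ℝ)) : ℂ) = ((196 : ℝ) : ℂ) := by
      push_cast at h5 h10 ⊢
      rw [h5] at h10
      norm_num at h10
      linear_combination h10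
    exact_mod_cast h11
  -- the other characters are proportional to their degrees
  have hall : ∀ χ ∈ O, (χ : G → ℂ) (f ^ 2) = -(χ : G → ℂ) 1 / 7 := by
    have h4 : ∑ χ ∈ O, ‖(χ : G → ℂ) (f ^ 2) + (χ : G → ℂ) 1 / 7‖ ^ 2 = 0 := by
      have h5 : ∀ χ ∈ O, ‖(χ : G → ℂ) (f ^ 2) + (χ : G → ℂ) 1 / 7‖ ^ 2 = ‖(χ : G → ℂ) (f ^ 2)‖ ^ 2 +
          (2 / 7) * ((χ : G → ℂ) (f ^ 2) * (χ : G → ℂ) 1).re + (1 / 49) * ‖(χ : G → ℂ) 1‖ ^ 2 := by
        intro χ _
        have h6 : (χ : G → ℂ) 1 = ((charDegree (χ : G → ℂ) : ℝ) : ℂ) := by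
          rw [← BlockDeg.charDegree_cast_irr]; push_cast; rfl
        rw [h6]
        rw [← Complex.normSq_eq_norm_sq, ← Complex.normSq_eq_norm_sq, ← Complex.normSq_eq_norm_sq,
          Complex.normSq_apply, Complex.normSq_apply, Complex.normSq_apply]
        have h7 : (((charDegree (χ : G → ℂ) : ℝ) : ℂ) / 7) = (((charDegree (χ : G → ℂ) : ℝ) / 7 : ℝ) : ℂ) := by push_cast; rfl
        rw [h7]
        simp only [Complex.add_re, Complex.add_im, Complex.ofReal_re, Complex.ofReal_im, Complex.mul_re]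
        ring
      rw [Finset.sum_congr rfl h5, Finset.sum_add_distrib, Finset.sum_add_distrib, ← Finset.mul_sum, ← Finset.mul_sum,
        ho2, ho3, ← Complex.re_sum, ho1]
      norm_num
    intro χ hχ
    have h5 := (Finset.sum_eq_zero_iff_of_nonneg (fun χ _ => sq_nonneg _)).1 h4 χ hχ
    have h6 : (χ : G → ℂ) (f ^ 2) + (χ : G → ℂ) 1 / 7 = 0 := by
      rw [← norm_eq_zero]
      exact pow_eq_zero_iff (two_ne_zero) |>.1 h5
    linear_combination h6
  -- the value of `a` at `f`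
  have hreal : conj ((a : G → ℂ) f) = (a : G → ℂ) f := real_of_cc (huniq _ (by rw [deg_cc', ha])) f
  obtain ⟨n, j, v8, e8⟩ := val4 hG ha hf4 hreal (x := 0) (by rw [hw0]; norm_num)
  have hle : Nat.card (Subgroup.centralizer ({f} : Set G)) ≤ 8 := by
    rw [← hw8]
    apply Nat.card_le_card_of_injective (Subgroup.inclusion (K := Subgroup.centralizer ({f ^ 2} : Set G)) (by
      intro c hc
      rw [Subgroup.mem_centralizer_singleton_iff] at hc ⊢
      exact (Commute.pow_right (show Commute c f from hc) 2).eq))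
    exact Subgroup.inclusion_injective _
  have hs : (n - 2 * j : ℤ) = 0 := by
    have h4 := ColTools.col_orth_self (G := G) f
    rw [hsum (fun χ => (χ : G → ℂ) f * (χ : G → ℂ) f⁻¹) (by
      intro χ hχ
      change (χ : G → ℂ) f * (χ : G → ℂ) f⁻¹ = (B.η : G → ℂ) f * (B.η : G → ℂ) f⁻¹
      rw [B.eqE χ hχ _ h7, B.eqE χ hχ _ (by rw [orderOf_inv]; exact h7)])] at h4
    have h5 : ((triv G : IrrCharacter G) : G → ℂ) f = 1 := rfl
    have h6 : ((triv G : IrrCharacter G) : G → ℂ) f⁻¹ = 1 := rfl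
    have h9 : ∑ χ ∈ O, (χ : G → ℂ) f * (χ : G → ℂ) f⁻¹ = ((∑ χ ∈ O, ‖(χ : G → ℂ) f‖ ^ 2 : ℝ) : ℂ) := by
      push_cast
      refine Finset.sum_congr rfl fun χ _ => ?_
      rw [χ.2.inv, Complex.mul_conj, Complex.normSq_eq_norm_sq]; push_cast; rfl
    have h8a : (a : G → ℂ) f⁻¹ = ((n - 2 * j : ℤ) : ℂ) := by rw [a.2.inv, hreal, v8]
    have hηf' : (B.η : G → ℂ) f = ((1 + (n - 2 * j) : ℤ) : ℂ) := by rw [hηf, v8]; push_cast; ring
    have h8 : (B.η : G → ℂ) f⁻¹ = ((1 + (n - 2 * j) : ℤ) : ℂ) := by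
      rw [B.η.2.inv, hηf']; exact map_intCast (starRingEnd ℂ) _
    rw [h5, h6, v8, h8a, hηf', h8, h9] at h4
    have h10 : (∑ χ ∈ O, ‖(χ : G → ℂ) f‖ ^ 2 : ℝ) + ((1 + (n - 2 * j : ℤ) ^ 2 + 3 * (1 + (n - 2 * j : ℤ)) ^ 2 : ℤ) : ℝ) =
        ((Nat.card (Subgroup.centralizer ({f} : Set G)) : ℕ) : ℝ) := by
      have h11 : (((∑ χ ∈ O, ‖(χ : G → ℂ) f‖ ^ 2 : ℝ) + ((1 + (n - 2 * j : ℤ) ^ 2 + 3 * (1 + (n - 2 * j : ℤ)) ^ 2 : ℤ) : ℝ) : ℝ) : ℂ) =
        ((((Nat.card (Subgroup.centralizer ({f} : Set G)) : ℕ) : ℝ) : ℝ) : ℂ) := by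
        push_cast at h4 ⊢
        rw [← h4]; ring
      exact_mod_cast h11
    have h12 : (0 : ℝ) ≤ ∑ χ ∈ O, ‖(χ : G → ℂ) f‖ ^ 2 := Finset.sum_nonneg fun χ _ => sq_nonneg _
    have h13 : ((1 + (n - 2 * j : ℤ) ^ 2 + 3 * (1 + (n - 2 * j : ℤ)) ^ 2 : ℤ) : ℝ) ≤ ((8 : ℤ) : ℝ) := by
      have : ((Nat.card (Subgroup.centralizer ({f} : Set G)) : ℕ) : ℝ) ≤ 8 := by exact_mod_cast hle
      push_cast at h10 ⊢
      linarith
    have h14 : (1 + (n - 2 * j : ℤ) ^ 2 + 3 * (1 + (n - 2 * j : ℤ)) ^ 2 : ℤ) ≤ 8 := by exact_mod_cast h13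
    have f1 : (n : ℤ) = 4 - 2 * j := by omega
    have f2 : j ≤ 2 := by omega
    rw [f1] at h14 ⊢
    interval_cases j <;> first | rfl | (exfalso; revert h14; norm_num)
  have v8' : (a : G → ℂ) f = 0 := by rw [v8, hs]; norm_num
  rw [v8', add_zero] at hηf
  have ho4 : ∑ χ ∈ O, (χ : G → ℂ) f * (χ : G → ℂ) 1 = -28 := by
    have h4 := ColTools.col_orth_ne (G := G) (g := f) (h := 1) (by
      intro h; exact hf1 (isConj_one_left.1 h))
    rw [inv_one, hsum (fun χ => (χ : G → ℂ) f * (χ : G → ℂ) 1) (by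
      intro χ hχ
      change (χ : G → ℂ) f * (χ : G → ℂ) 1 = (B.η : G → ℂ) f * (B.η : G → ℂ) 1
      rw [B.eqE χ hχ _ h7, B.eqE χ hχ 1 one_reg])] at h4
    have h5 : ((triv G : IrrCharacter G) : G → ℂ) f = 1 := rfl
    have h6 : ((triv G : IrrCharacter G) : G → ℂ) 1 = 1 := rfl
    have h7' : (B.η : G → ℂ) 1 = 9 := by rw [← BlockDeg.charDegree_cast_irr, hη]; norm_num
    rw [h5, h6, v8', hηf, h7'] at h4
    linear_combination h4
  have ho5 := ColTools.col_orth_ne (G := G) (g := f) (h := (f ^ 2)⁻¹) (by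
    intro h
    have := order_conj h
    rw [orderOf_inv, hf, hw] at this
    norm_num at this)
  rw [inv_inv, hsum (fun χ => (χ : G → ℂ) f * (χ : G → ℂ) (f ^ 2)) (by
      intro χ hχ
      change (χ : G → ℂ) f * (χ : G → ℂ) (f ^ 2) = (B.η : G → ℂ) f * (B.η : G → ℂ) (f ^ 2)
      rw [B.eqE χ hχ _ h7, B.eqE χ hχ _ h7w]), v8', hηf, hηw] at ho5
  have h5 : ((triv G : IrrCharacter G) : G → ℂ) f = 1 := rfl
  have h6 : ((triv G : IrrCharacter G) : G → ℂ) (f ^ 2) = 1 := rfl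
  have h10 : ∑ χ ∈ O, (χ : G → ℂ) f * (χ : G → ℂ) (f ^ 2) = 4 := by
    have h11 : ∀ χ ∈ O, (χ : G → ℂ) f * (χ : G → ℂ) (f ^ 2) = (-1/7 : ℂ) * ((χ : G → ℂ) f * (χ : G → ℂ) 1) := by
      intro χ hχ
      rw [hall χ hχ]; ring
    rw [Finset.sum_congr rfl h11, ← Finset.mul_sum, ho4]; norm_num
  rw [h5, h6, h10] at ho5
  norm_num at ho5

end

end Cfsg.Agent.Lib.Ord504
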