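import Mathlib
import Cfsg.Prelude.Def_Solvable

/-!
# Transitive groups all of whose derangements are involutions (helper11)

Counting: `|D| ≤ ∑_{β ≠ α} |G_α ∩ G_β|` by the involution condition, while
`∑_g (f(g) - 1)(f(g) - n) = ∑_g f(g)² - |G|`; so equality holds and every non-identity element has at most
one fixed point.
-/

set_option autoImplicit false
set_option linter.unusedSectionVars false

namespace Cfsg.Agent.Lib.DerangeInv

open Finset

variable {G Ω : Type*} [Group G] [Fintype G] [DecidableEq G] [Fintype Ω] [DecidableEq Ω] [MulAction G Ω]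

/-- number of fixed points -/
def f (Ω : Type*) [Fintype Ω] [DecidableEq Ω] [MulAction G Ω] (g : G) : ℤ :=
  ∑ ω : Ω, if g • ω = ω then 1 else 0

theorem f_eq (g : G) : f Ω g = ((univ.filter fun ω : Ω => g • ω = ω).card : ℤ) := by
  unfold f
  rw [Finset.sum_boole]

theorem card_stab [MulAction.IsPretransitive G Ω] (ω : Ω) :
    (Fintype.card Ω : ℤ) * ∑ g : G, (if g • ω = ω then (1 : ℤ) else 0) = Fintype.card G := by
  have h1 : ∀ γ : Ω, ∑ g : G, (if g • ω = γ then (1 : ℤ) else 0) = ∑ g : G, (if g • ω = ω then (1 : ℤ) else 0) := by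
    intro γ
    obtain ⟨k, hk⟩ := MulAction.exists_smul_eq G ω γ
    rw [← Equiv.sum_comp (Equiv.mulLeft k)]
    apply Finset.sum_congr rfl
    intro g _
    have : (Equiv.mulLeft k g) • ω = γ ↔ g • ω = ω := by
      rw [Equiv.coe_mulLeft, mul_smul, ← hk]
      exact smul_left_cancel_iff k
    simp only [this]
  have h2 : ∑ γ : Ω, ∑ g : G, (if g • ω = γ then (1 : ℤ) else 0) = Fintype.card G := by
    rw [Finset.sum_comm]
    simp
  rw [← h2, Finset.sum_congr rfl fun γ _ => h1 γ]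
  simp

theorem sum_f [MulAction.IsPretransitive G Ω] [Nonempty Ω] : ∑ g : G, f Ω g = Fintype.card G := by
  unfold f
  rw [Finset.sum_comm]
  have hn : (Fintype.card Ω : ℤ) ≠ 0 := by
    have : 0 < Fintype.card Ω := Fintype.card_pos
    positivity
  have h1 : ∀ ω : Ω, ∑ g : G, (if g • ω = ω then (1 : ℤ) else 0) =
      ∑ g : G, (if g • (Classical.arbitrary Ω) = (Classical.arbitrary Ω) then (1 : ℤ) else 0) := by
    intro ω
    have h2 := card_stab (G := G) ω
    have h3 := card_stab (G := G) (Classical.arbitrary Ω)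
    exact mul_left_cancel₀ hn (h2.trans h3.symm)
  rw [Finset.sum_congr rfl fun ω _ => h1 ω]
  rw [Finset.sum_const, card_univ, nsmul_eq_mul]
  exact card_stab _

/-- the derangements -/
def D (G Ω : Type*) [Group G] [Fintype G] [Fintype Ω] [DecidableEq Ω] [MulAction G Ω] : Finset G :=
  univ.filter fun g => ∀ ω : Ω, g • ω ≠ ω

theorem mem_D {g : G} : g ∈ D G Ω ↔ ∀ ω : Ω, g • ω ≠ ω := by
  simp [D]

/-- the derangements moving `ω` to `γ` inject into the stabilizer of `ω` and `γ` -/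
theorem card_D_fiber (hinv : ∀ g : G, (∀ ω : Ω, g • ω ≠ ω) → g * g = 1) (ω γ : Ω) :
    ((D G Ω).filter fun g => g • ω = γ).card ≤ (univ.filter fun g : G => g • ω = ω ∧ g • γ = γ).card := by
  by_cases h : ∃ x ∈ D G Ω, x • ω = γ
  · obtain ⟨x, hx, hxω⟩ := h
    have hxx := hinv x (mem_D.1 hx)
    apply Finset.card_le_card_of_injOn (fun y => x * y)
    · intro y hy
      rw [mem_coe, mem_filter] at hy
      have hyy := hinv y (mem_D.1 hy.1)
      rw [mem_coe, mem_filter]
      refine ⟨mem_univ _, ?_, ?_⟩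
      · rw [mul_smul, hy.2, ← hxω, ← mul_smul, hxx, one_smul]
      · have h1 : y • γ = ω := by rw [← hy.2, ← mul_smul, hyy, one_smul]
        rw [mul_smul, h1, hxω]
    · intro y _ z _ h
      exact mul_left_cancel h
  · have : ((D G Ω).filter fun g => g • ω = γ) = ∅ := by
      rw [Finset.filter_eq_empty_iff]
      intro x hx hxω
      exact h ⟨x, hx, hxω⟩
    rw [this]
    simp

/-- the number of elements fixing both `ω` and `γ` -/
def c2 (G : Type*) {Ω : Type*} [Group G] [Fintype G] [DecidableEq Ω] [MulAction G Ω] (ω γ : Ω) : ℤ :=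
  ∑ g : G, if g • ω = ω ∧ g • γ = γ then 1 else 0

theorem c2_eq (ω γ : Ω) : c2 G ω γ = ((univ.filter fun g : G => g • ω = ω ∧ g • γ = γ).card : ℤ) := by
  unfold c2
  rw [Finset.sum_boole]

theorem card_D_le (hinv : ∀ g : G, (∀ ω : Ω, g • ω ≠ ω) → g * g = 1) (ω : Ω) :
    ((D G Ω).card : ℤ) ≤ (∑ γ : Ω, c2 G ω γ) - c2 G ω ω := by
  have h1 : (D G Ω).card = ∑ γ : Ω, ((D G Ω).filter fun g => g • ω = γ).card :=
    Finset.card_eq_sum_card_fiberwise (fun _ _ => mem_univ _)
  have h2 : ((D G Ω).filter fun g => g • ω = ω).card = 0 := by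
    rw [Finset.card_eq_zero, Finset.filter_eq_empty_iff]
    intro x hx hxω
    exact mem_D.1 hx ω hxω
  rw [h1, ← Finset.add_sum_erase _ _ (mem_univ ω), h2, zero_add, ← Finset.add_sum_erase _ _ (mem_univ ω)]
  push_cast
  rw [add_sub_cancel_left]
  apply Finset.sum_le_sum
  intro γ _
  rw [c2_eq]
  exact_mod_cast card_D_fiber hinv ω γ

theorem sum_f_sq : ∑ g : G, f Ω g * f Ω g = ∑ ω : Ω, ∑ γ : Ω, c2 G ω γ := by
  unfold f c2
  simp_rw [Finset.sum_mul_sum]
  rw [Finset.sum_comm]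
  apply Finset.sum_congr rfl
  intro ω _
  rw [Finset.sum_comm]
  apply Finset.sum_congr rfl
  intro γ _
  apply Finset.sum_congr rfl
  intro g _
  by_cases h1 : g • ω = ω <;> by_cases h2 : g • γ = γ <;> simp [h1, h2]

theorem main [MulAction.IsPretransitive G Ω] [Nonempty Ω]
    (hinv : ∀ g : G, (∀ ω : Ω, g • ω ≠ ω) → g * g = 1) (g : G) (hg : ∃ ω : Ω, g • ω = ω) :
    f Ω g = 1 ∨ f Ω g = Fintype.card Ω := by
  obtain ⟨n, hn⟩ : ∃ n : ℤ, n = ((Fintype.card Ω : ℕ) : ℤ) := ⟨_, rfl⟩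
  rw [← hn]
  have hle : ∀ g : G, f Ω g ≤ n := by
    intro g
    rw [f_eq, hn]
    exact_mod_cast Finset.card_le_univ _
  have h1 : n * (D G Ω).card ≤ (∑ g : G, f Ω g * f Ω g) - Fintype.card G := by
    have h2 : ∑ _ω : Ω, ((D G Ω).card : ℤ) ≤ ∑ ω : Ω, ((∑ γ : Ω, c2 G ω γ) - c2 G ω ω) :=
      Finset.sum_le_sum fun ω _ => card_D_le hinv ω
    rw [Finset.sum_const, card_univ, nsmul_eq_mul, Finset.sum_sub_distrib, ← sum_f_sq, ← hn] at h2
    have h3 : ∑ ω : Ω, c2 G ω ω = Fintype.card G := by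
      rw [← sum_f (G := G) (Ω := Ω)]
      unfold f c2
      rw [Finset.sum_comm]
      simp
    rw [h3] at h2
    exact h2
  have h2 : ∑ g : G, (f Ω g - 1) * (f Ω g - n) = (∑ g : G, f Ω g * f Ω g) - Fintype.card G := by
    have h3 : ∀ g : G, (f Ω g - 1) * (f Ω g - n) = f Ω g * f Ω g - (n + 1) * f Ω g + n := by
      intro g; ring
    rw [Finset.sum_congr rfl fun g _ => h3 g, Finset.sum_add_distrib, Finset.sum_sub_distrib, ← Finset.mul_sum, sum_f,
      Finset.sum_const, card_univ, nsmul_eq_mul]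
    ring
  have h3 : ∑ g ∈ D G Ω, (f Ω g - 1) * (f Ω g - n) = n * (D G Ω).card := by
    have h4 : ∀ g ∈ D G Ω, (f Ω g - 1) * (f Ω g - n) = n := by
      intro g hg
      have h5 : f Ω g = 0 := by
        unfold f
        apply Finset.sum_eq_zero
        intro ω _
        rw [if_neg (mem_D.1 hg ω)]
      rw [h5]; ring
    rw [Finset.sum_congr rfl h4, Finset.sum_const, nsmul_eq_mul, mul_comm]
  have h4 : ∑ g ∈ (D G Ω)ᶜ, (f Ω g - 1) * (f Ω g - n) ≥ 0 := by
    have h5 := Finset.sum_add_sum_compl (D G Ω) (fun g => (f Ω g - 1) * (f Ω g - n))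
    rw [h3, h2] at h5
    linarith
  have h5 : ∀ g ∈ (D G Ω)ᶜ, (f Ω g - 1) * (f Ω g - n) ≤ 0 := by
    intro g hg
    have h6 : 1 ≤ f Ω g := by
      rw [mem_compl, mem_D] at hg
      push Not at hg
      obtain ⟨ω, hω⟩ := hg
      rw [f_eq]
      have : 0 < (univ.filter fun ω : Ω => g • ω = ω).card := Finset.card_pos.2 ⟨ω, by simp [hω]⟩
      exact_mod_cast this
    have h7 := hle g
    nlinarith
  have h6 : ∀ g ∈ (D G Ω)ᶜ, (f Ω g - 1) * (f Ω g - n) = 0 := by
    have h7 : ∑ g ∈ (D G Ω)ᶜ, (f Ω g - 1) * (f Ω g - n) = 0 := le_antisymm (Finset.sum_nonpos h5) h4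
    exact (Finset.sum_eq_zero_iff_of_nonpos h5).1 h7
  have h7 : g ∈ (D G Ω)ᶜ := by
    rw [mem_compl, mem_D]
    push Not
    exact hg
  rcases mul_eq_zero.1 (h6 g h7) with h | h
  · left; linarith
  · right; linarith

/-- a nonidentity element has at most one fixed point -/
theorem eq_of_fix [MulAction.IsPretransitive G Ω] [FaithfulSMul G Ω] [Nonempty Ω]
    (hinv : ∀ g : G, (∀ ω : Ω, g • ω ≠ ω) → g * g = 1) {g : G} (hg : g ≠ 1) {ω γ : Ω} (h1 : g • ω = ω)
    (h2 : g • γ = γ) : ω = γ := by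
  rcases main hinv g ⟨ω, h1⟩ with h | h
  · rw [f_eq] at h
    have h3 : (univ.filter fun ω : Ω => g • ω = ω).card = 1 := by exact_mod_cast h
    rw [Finset.card_eq_one] at h3
    obtain ⟨a, ha⟩ := h3
    have h4 : ω ∈ ({a} : Finset Ω) := by rw [← ha]; simp [h1]
    have h5 : γ ∈ ({a} : Finset Ω) := by rw [← ha]; simp [h2]
    rw [mem_singleton] at h4 h5
    rw [h4, h5]
  · exfalso
    apply hg
    rw [f_eq] at h
    have h3 : (univ.filter fun ω : Ω => g • ω = ω).card = Fintype.card Ω := by exact_mod_cast h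
    rw [Finset.card_eq_iff_eq_univ] at h3
    have h4 : ∀ ω : Ω, g • ω = ω := by
      intro ω
      have : ω ∈ (univ.filter fun ω : Ω => g • ω = ω) := by rw [h3]; exact mem_univ ω
      simpa using this
    apply FaithfulSMul.eq_of_smul_eq_smul (α := Ω)
    intro ω
    rw [h4, one_smul]

/-- the derangements and the identity -/
def N (G Ω : Type*) [Group G] [MulAction G Ω] : Set G := {x | x = 1 ∨ ∀ ω : Ω, x • ω ≠ ω}

theorem N_inj [MulAction.IsPretransitive G Ω] [FaithfulSMul G Ω] [Nonempty Ω]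
    (hinv : ∀ g : G, (∀ ω : Ω, g • ω ≠ ω) → g * g = 1) {x y : G} (hx : x ∈ N G Ω) (hy : y ∈ N G Ω) {ω : Ω}
    (h : x • ω = y • ω) : x = y := by
  rcases hx with rfl | hx
  · rcases hy with rfl | hy
    · rfl
    · rw [one_smul] at h
      exact absurd h.symm (hy ω)
  · rcases hy with rfl | hy
    · rw [one_smul] at h
      exact absurd h (hx ω)
    · by_contra hne
      have hxx := hinv x hx
      have hyy := hinv y hy
      have hxy : x * y ≠ 1 := by
        intro h1
        apply hne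
        exact mul_left_cancel (hxx.trans h1.symm)
      have h1 : (x * y) • ω = ω := by rw [mul_smul, ← h, ← mul_smul, hxx, one_smul]
      have h2 : (x * y) • (x • ω) = x • ω := by
        rw [mul_smul]
        congr 1
        rw [h, ← mul_smul, hyy, one_smul]
      exact hx ω (eq_of_fix hinv hxy h1 h2).symm

theorem N_sq (hinv : ∀ g : G, (∀ ω : Ω, g • ω ≠ ω) → g * g = 1) {x : G} (hx : x ∈ N G Ω) : x * x = 1 := by
  rcases hx with rfl | hx
  · simp
  · exact hinv x hx

theorem N_mul [MulAction.IsPretransitive G Ω] [FaithfulSMul G Ω] [Nonempty Ω]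
    (hinv : ∀ g : G, (∀ ω : Ω, g • ω ≠ ω) → g * g = 1) {x y : G} (hx : x ∈ N G Ω) (hy : y ∈ N G Ω) :
    x * y ∈ N G Ω := by
  by_cases h : x = y
  · left
    rw [← h]
    exact N_sq hinv hx
  · right
    intro ω hω
    apply h
    apply N_inj hinv hx hy (ω := ω)
    have hxx := N_sq hinv hx
    calc x • ω = x • ((x * y) • ω) := by rw [hω]
      _ = (x * x * y) • ω := by rw [← mul_smul, mul_assoc]
      _ = y • ω := by rw [hxx, one_mul]

theorem N_comm [MulAction.IsPretransitive G Ω] [FaithfulSMul G Ω] [Nonempty Ω]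
    (hinv : ∀ g : G, (∀ ω : Ω, g • ω ≠ ω) → g * g = 1) {x y : G} (hx : x ∈ N G Ω) (hy : y ∈ N G Ω) :
    x * y = y * x := by
  have h1 := N_sq hinv hx
  have h2 := N_sq hinv hy
  have h3 := N_sq hinv (N_mul hinv hx hy)
  calc x * y = x * (x * y * (x * y)) * y := by rw [h3]; simp
    _ = (x * x) * (y * x) * (y * y) := by group
    _ = y * x := by rw [h1, h2]; simp

end Cfsg.Agent.Lib.DerangeInv
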