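import Cfsg.Agent.Lib.CharBasic2
import Cfsg.Agent.Lib.StructConst

/-!
# A trivial intersection configuration (helper67)

`C` is an abelian trivial intersection subgroup of order `2k`, `k` odd, whose normalizer `M` has order
`4k`, the elements of `M` outside `C` being involutions (which then invert `C`), all involutions are
conjugate and `M` is the centralizer of the involution `t` of `C`.  Such a group is not perfect.
-/

set_option autoImplicit false
open Cfsg

namespace Cfsg.Agent.Lib.DihTI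

open Cfsg.Agent.Lib.CharBasic Cfsg.Agent.Lib.StructConst
open scoped ComplexConjugate

universe u

/-! ### Arithmetic -/

theorem even_of_two {ι : Type*} [Fintype ι] (c x : ι → ℤ) (d : ι → ℕ) (hd : ∀ i, 0 < d i)
    (h2 : ∑ i, c i * c i = 2) (h0 : ∑ i, c i * d i = 0) (h4 : ∑ i, c i * x i = 4)
    (hx : ∑ i, (c i : ℝ) * (x i) ^ 2 / d i = 0) (i : ι) (hi : c i ≠ 0) : Even (x i) := by
  classical
  have hj : ∃ j, j ≠ i ∧ c j ≠ 0 := by
    by_contra hcon
    push Not at hcon
    rw [Fintype.sum_eq_single i (fun j hj => by rw [hcon j hj, zero_mul])] at h0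
    have := hd i
    rcases mul_eq_zero.1 h0 with h | h
    · exact hi h
    · omega
  obtain ⟨j, hji, hj⟩ := hj
  have hpos : ∀ k, c k ≠ 0 → 1 ≤ c k * c k := fun k hk => by
    have := mul_self_pos.2 hk
    omega
  have hrest : ∀ k, k ≠ i ∧ k ≠ j → c k = 0 := by
    rintro k ⟨hki, hkj⟩
    by_contra hk
    have h5 : ∑ l ∈ ({i, j, k} : Finset ι), c l * c l ≤ ∑ l, c l * c l :=
      Finset.sum_le_sum_of_subset_of_nonneg (Finset.subset_univ _) (fun l _ _ => mul_self_nonneg _)
    rw [Finset.sum_insert (by simp [hji.symm, hki.symm]), Finset.sum_insert (by simp [hkj.symm]),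
      Finset.sum_singleton, h2] at h5
    have := hpos i hi
    have := hpos j hj
    have := hpos k hk
    omega
  rw [Fintype.sum_eq_add i j hji.symm (fun k hk => by rw [hrest k hk, zero_mul])] at h2 h0 h4
  rw [Fintype.sum_eq_add i j hji.symm (fun k hk => by rw [hrest k hk]; simp)] at hx
  have h5 := hpos i hi
  have h6 := hpos j hj
  have h7 : c i * c i = 1 := by omega
  have h8 : c j * c j = 1 := by omega
  have hdi : (0 : ℤ) < d i := by exact_mod_cast hd i
  have hdj : (0 : ℤ) < d j := by exact_mod_cast hd j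
  rcases mul_self_eq_one_iff.1 h7 with h9 | h9 <;> rcases mul_self_eq_one_iff.1 h8 with h10 | h10
  · rw [h9, h10] at h0; omega
  · rw [h9, h10] at h0 h4 hx
    have h11 : (d i : ℤ) = d j := by omega
    have h11' : d i = d j := by exact_mod_cast h11
    have h12 : ((x i : ℝ)) ^ 2 = (x j) ^ 2 := by
      have : (d j : ℝ) ≠ 0 := by exact_mod_cast (hd j).ne'
      rw [h11'] at hx
      field_simp at hx
      push_cast at hx
      linarith
    have h13 : (x i) ^ 2 = (x j) ^ 2 := by exact_mod_cast h12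
    rcases sq_eq_sq_iff_eq_or_eq_neg.1 h13 with h14 | h14
    · omega
    · exact ⟨1, by omega⟩
  · rw [h9, h10] at h0 h4 hx
    have h11 : (d i : ℤ) = d j := by omega
    have h11' : d i = d j := by exact_mod_cast h11
    have h12 : ((x i : ℝ)) ^ 2 = (x j) ^ 2 := by
      have : (d j : ℝ) ≠ 0 := by exact_mod_cast (hd j).ne'
      rw [h11'] at hx
      field_simp at hx
      push_cast at hx
      linarith
    have h13 : (x i) ^ 2 = (x j) ^ 2 := by exact_mod_cast h12
    rcases sq_eq_sq_iff_eq_or_eq_neg.1 h13 with h14 | h14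
    · omega
    · exact ⟨-1, by omega⟩
  · rw [h9, h10] at h0; omega

theorem final_bound {ι κ : Type*} [Fintype ι] [DecidableEq ι] (A : Finset κ) (bar : κ → κ)
    (o : ι) (c1 x : ι → ℤ) (c : κ → ι → ℤ) (d : ι → ℕ) (hdo : d o = 1) (hd : ∀ i, i ≠ o → 2 ≤ d i)
    (hbar : ∀ μ ∈ A, bar μ ∈ A) (hbb : ∀ μ ∈ A, bar (bar μ) = μ) (hbne : ∀ μ ∈ A, bar μ ≠ μ)
    (hcb : ∀ μ ∈ A, ∀ i, c (bar μ) i = c μ i)
    (h4 : ∑ i, c1 i * c1 i = 4) (h1o : c1 o = 1) (h10 : ∑ i, c1 i * d i = 0)
    (hA2 : ∀ μ ∈ A, ∑ i, c μ i * c μ i = 2) (hA0 : ∀ μ ∈ A, ∑ i, c μ i * d i = 0)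
    (hA4 : ∀ μ ∈ A, ∑ i, c μ i * x i = 4)
    (hAx : ∀ μ ∈ A, ∑ i, (c μ i : ℝ) * (x i) ^ 2 / d i = 0)
    (hx : ∀ i, x i = c1 i + ∑ μ ∈ A, c μ i) (hxo : x o = 1) :
    ∑ i, (c1 i : ℝ) * (x i) ^ 2 / d i ≤ 2 := by
  classical
  have hdpos : ∀ i, 0 < d i := fun i => by
    by_cases hi : i = o
    · rw [hi, hdo]; norm_num
    · have := hd i hi; omega
  have hsplit : ∑ i ∈ Finset.univ.erase o, c1 i * c1 i = 3 := by
    have := Finset.add_sum_erase Finset.univ (fun i => c1 i * c1 i) (Finset.mem_univ o)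
    rw [h4, h1o] at this
    linarith
  have hsplit0 : ∑ i ∈ Finset.univ.erase o, c1 i * d i = -1 := by
    have := Finset.add_sum_erase Finset.univ (fun i => c1 i * (d i : ℤ)) (Finset.mem_univ o)
    rw [h10, h1o, hdo] at this
    push_cast at this
    linarith
  have hle : ∀ i, i ≠ o → c1 i = -1 ∨ c1 i = 0 ∨ c1 i = 1 := by
    intro i hi
    have h5 : c1 i * c1 i ≤ ∑ j ∈ Finset.univ.erase o, c1 j * c1 j :=
      Finset.single_le_sum (f := fun j => c1 j * c1 j) (fun j _ => mul_self_nonneg _)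
        (Finset.mem_erase.2 ⟨hi, Finset.mem_univ _⟩)
    rw [hsplit] at h5
    have h6 : c1 i < 2 := by nlinarith
    have h7 : -2 < c1 i := by nlinarith
    omega
  have hxx : ∀ i, i ≠ o → c1 i ≠ 0 → (x i) ^ 2 = 1 := by
    intro i hi hc
    have h5 : Even (∑ μ ∈ A, c μ i) := by
      rw [← ZMod.intCast_zmod_eq_zero_iff_dvd _ 2 |>.trans even_iff_two_dvd.symm]
      push_cast
      apply Finset.sum_involution (fun μ _ => bar μ)
      · intro μ hμ
        rw [hcb μ hμ, CharTwo.add_self_eq_zero]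
      · intro μ hμ _
        exact hbne μ hμ
      · intro μ hμ; exact hbar μ hμ
      · intro μ hμ; exact hbb μ hμ
    have h6 : ∀ μ ∈ A, c μ i = 0 := by
      intro μ hμ
      by_contra hne
      have h7 := even_of_two (c μ) x d hdpos (hA2 μ hμ) (hA0 μ hμ) (hA4 μ hμ) (hAx μ hμ) i hne
      rw [hx i] at h7
      have h8 : Even (c1 i) := (Int.even_add.1 h7).2 h5
      rcases hle i hi with h | h | h
      · rw [h] at h8; exact absurd h8 (by decide)
      · exact hc h
      · rw [h] at h8; exact absurd h8 (by decide)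
    rw [hx i, Finset.sum_eq_zero h6, add_zero]
    rcases hle i hi with h | h | h
    · rw [h]; norm_num
    · exact absurd h hc
    · rw [h]; norm_num
  have hneg : ∃ i, i ≠ o ∧ c1 i = -1 := by
    by_contra hcon
    push Not at hcon
    have : 0 ≤ ∑ i ∈ Finset.univ.erase o, c1 i * d i := by
      apply Finset.sum_nonneg
      intro i hi
      have hio := Finset.ne_of_mem_erase hi
      have h5 : 0 ≤ c1 i := by
        rcases hle i hio with h | h | h
        · exact absurd h (hcon i hio)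
        · omega
        · omega
      positivity
    omega
  obtain ⟨i0, hi0, hc0⟩ := hneg
  have hsum2 : 2 ≤ ∑ i ∈ Finset.univ.erase o, (c1 i * c1 i - c1 i) := by
    have h5 : c1 i0 * c1 i0 - c1 i0 ≤ ∑ i ∈ Finset.univ.erase o, (c1 i * c1 i - c1 i) := by
      apply Finset.single_le_sum (f := fun i => c1 i * c1 i - c1 i)
      · intro i hi
        rcases hle i (Finset.ne_of_mem_erase hi) with h | h | h <;> rw [h] <;> norm_num
      · exact Finset.mem_erase.2 ⟨hi0, Finset.mem_univ _⟩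
    rw [hc0] at h5
    linarith
  have hsum1 : ∑ i ∈ Finset.univ.erase o, c1 i ≤ 1 := by
    rw [Finset.sum_sub_distrib, hsplit] at hsum2
    linarith
  have hbound : ∀ i ∈ Finset.univ.erase o, (c1 i : ℝ) * (x i) ^ 2 / d i ≤ ((c1 i * c1 i + c1 i : ℤ) : ℝ) / 4 := by
    intro i hi
    have hio := Finset.ne_of_mem_erase hi
    have hdi : (2 : ℝ) ≤ d i := by exact_mod_cast hd i hio
    rcases hle i hio with h | h | h
    · have h5 : ((x i : ℝ)) ^ 2 = 1 := by exact_mod_cast hxx i hio (by rw [h]; norm_num)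
      rw [h5, h]
      norm_num
      exact div_nonpos_of_nonpos_of_nonneg (by norm_num) (by positivity)
    · rw [h]; norm_num
    · have h5 : ((x i : ℝ)) ^ 2 = 1 := by exact_mod_cast hxx i hio (by rw [h]; norm_num)
      rw [h5, h]
      norm_num
      rw [inv_eq_one_div]
      exact one_div_le_one_div_of_le (by norm_num) hdi
  rw [← Finset.add_sum_erase Finset.univ _ (Finset.mem_univ o), h1o, hxo, hdo]
  have h5 := Finset.sum_le_sum hbound
  rw [← Finset.sum_div] at h5
  have h6 : (∑ i ∈ Finset.univ.erase o, ((c1 i * c1 i + c1 i : ℤ) : ℝ)) ≤ 4 := by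
    rw [← Int.cast_sum]
    have : ∑ i ∈ Finset.univ.erase o, (c1 i * c1 i + c1 i) ≤ 4 := by
      rw [Finset.sum_add_distrib, hsplit]; linarith
    exact_mod_cast this
  have h7 : (∑ i ∈ Finset.univ.erase o, (c1 i : ℝ) * (x i) ^ 2 / d i) ≤ 1 := by
    refine h5.trans ?_
    linarith
  have h8 : ((1 : ℤ) : ℝ) * ((1 : ℤ) : ℝ) ^ 2 / ((1 : ℕ) : ℝ) = 1 := by norm_num
  rw [h8]
  linarith

/-- The configuration. -/
structure Config {G : Type u} [Group G] (C M : Subgroup G) (t : G) : Prop where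
  le : C ≤ M
  tC : t ∈ C
  t1 : t ≠ 1
  tt : t * t = 1
  cent : ∀ g, g * t * g⁻¹ = t ↔ g ∈ M
  comm : ∀ a ∈ C, ∀ b ∈ C, a * b = b * a
  uniq : ∀ a ∈ C, a * a = 1 → a = 1 ∨ a = t
  sq : ∀ m ∈ M, m ∉ C → m * m = 1
  inv : ∀ m ∈ M, m ∉ C → ∀ h ∈ C, m * h * m⁻¹ = h⁻¹
  ti : ∀ g, g ∉ M → ∀ x ∈ C, g * x * g⁻¹ ∈ C → x = 1
  card : Nat.card M = 2 * Nat.card C
  odd : ∃ k, Odd k ∧ Nat.card C = 2 * k
  fuse : ∀ u, u ≠ 1 → u * u = 1 → ∃ y, y * t * y⁻¹ = u
  cover : ∀ u v, u * u = 1 → u ≠ 1 → v * v = 1 → v ≠ 1 → u * v ≠ 1 → ∃ y, y⁻¹ * (u * v) * y ∈ C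

variable {G : Type u} [Group G] {C M : Subgroup G} {t : G}

section Counting

variable [Fintype G]

/-- Number of `b` with `b t b⁻¹ = u`. -/
noncomputable def cc (t u : G) : ℕ := by
  classical exact (Finset.univ.filter fun b : G => b * t * b⁻¹ = u).card

theorem cc_eq_conjCount (t u : G) : (cc t u : ℂ) = conjCount t u := rfl

theorem sum_cc_mul (t : G) (f : G → ℂ) : ∑ b, f (b * t * b⁻¹) = ∑ g, (cc t g : ℂ) * f g :=
  sum_conj_eq t f

theorem sum_cc (t : G) : ∑ g, cc t g = Nat.card G := by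
  have h := sum_cc_mul t (fun _ => 1)
  simp only [mul_one, Finset.sum_const, Finset.card_univ, nsmul_eq_mul] at h
  rw [Nat.card_eq_fintype_card]
  exact_mod_cast h.symm

theorem cc_eq_card (h : Config C M t) {u : G} (h1 : u ≠ 1) (h2 : u * u = 1) : cc t u = Nat.card M := by
  classical
  obtain ⟨y, hy⟩ := h.fuse u h1 h2
  unfold cc
  rw [Nat.card_eq_fintype_card, Fintype.card_subtype]
  apply Finset.card_bij' (fun b _ => y⁻¹ * b) (fun b _ => y * b)
  · intro b hb
    simp only [Finset.mem_filter, Finset.mem_univ, true_and] at hb ⊢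
    rw [← h.cent]
    rw [show y⁻¹ * b * t * (y⁻¹ * b)⁻¹ = y⁻¹ * (b * t * b⁻¹) * y by group, hb, ← hy]
    group
  · intro b hb
    simp only [Finset.mem_filter, Finset.mem_univ, true_and] at hb ⊢
    rw [← h.cent] at hb
    rw [show y * b * t * (y * b)⁻¹ = y * (b * t * b⁻¹) * y⁻¹ by group, hb, ← hy]
  · intro b _; group
  · intro b _; group

theorem invol_of_cc (h : Config C M t) {u : G} (hu : cc t u ≠ 0) : u ≠ 1 ∧ u * u = 1 := by
  classical
  unfold cc at hu
  obtain ⟨b, hb⟩ := Finset.card_ne_zero.1 hu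
  simp only [Finset.mem_filter, Finset.mem_univ, true_and] at hb
  rw [← hb]
  constructor
  · intro h1
    apply h.t1
    rw [mul_inv_eq_one] at h1
    exact mul_left_cancel (h1.trans (mul_one b).symm)
  · rw [show b * t * b⁻¹ * (b * t * b⁻¹) = b * (t * t) * b⁻¹ by group, h.tt]
    group

/-- `#{(a, b) : a t a⁻¹ (b t b⁻¹)⁻¹ = g}`. -/
noncomputable def psi (t g : G) : ℕ := ∑ u, cc t u * cc t (g⁻¹ * u)

theorem sum_psi_mul (t : G) (f : G → ℂ) :
    ∑ a, ∑ b, f (a * t * a⁻¹ * (b * t * b⁻¹)⁻¹) = ∑ g, (psi t g : ℂ) * f g := by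
  have h1 : ∀ a, ∑ b, f (a * t * a⁻¹ * (b * t * b⁻¹)⁻¹) = ∑ w, (cc t w : ℂ) * f (a * t * a⁻¹ * w⁻¹) :=
    fun a => sum_cc_mul t (fun w => f (a * t * a⁻¹ * w⁻¹))
  rw [Finset.sum_congr rfl (fun a _ => h1 a), sum_cc_mul t (fun u => ∑ w, (cc t w : ℂ) * f (u * w⁻¹))]
  simp only [psi]
  push_cast
  simp only [Finset.sum_mul, Finset.mul_sum]
  rw [Finset.sum_comm]
  conv_rhs => rw [Finset.sum_comm]
  rw [Finset.sum_comm]
  apply Finset.sum_congr rfl
  intro u _
  apply Fintype.sum_equiv ((Equiv.inv G).trans (Equiv.mulLeft u))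
  intro w
  simp only [Equiv.trans_apply, Equiv.inv_apply, Equiv.coe_mulLeft]
  rw [show (u * w⁻¹)⁻¹ * u = w by group]
  ring

theorem sum_psi (t : G) : ∑ g, psi t g = Nat.card G ^ 2 := by
  have h := sum_psi_mul t (fun _ => 1)
  simp only [mul_one, Finset.sum_const, Finset.card_univ, nsmul_eq_mul] at h
  rw [Nat.card_eq_fintype_card, pow_two]
  exact_mod_cast h.symm

theorem cc_conj (t k u : G) : cc t (k * u * k⁻¹) = cc t u := by
  have := conjCount_isClassFunction t u k
  rw [← cc_eq_conjCount, ← cc_eq_conjCount] at this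
  exact_mod_cast this

theorem psi_conj (t k g : G) : psi t (k * g * k⁻¹) = psi t g := by
  unfold psi
  apply Fintype.sum_equiv (MulAut.conj k⁻¹).toEquiv
  intro u
  have h1 : (MulAut.conj k⁻¹).toEquiv u = k⁻¹ * u * k := by simp
  rw [h1, ← cc_conj t k (k⁻¹ * u * k), ← cc_conj t k (g⁻¹ * (k⁻¹ * u * k))]
  congr 2 <;> group

theorem psi_one (h : Config C M t) : psi t 1 = Nat.card M * Nat.card G := by
  unfold psi
  rw [← sum_cc t, Finset.mul_sum]
  apply Finset.sum_congr rfl
  intro u _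
  rw [inv_one, one_mul]
  by_cases hu : cc t u = 0
  · rw [hu, mul_zero, mul_zero]
  · obtain ⟨h1, h2⟩ := invol_of_cc h hu
    rw [cc_eq_card h h1 h2]

theorem psi_of_mem (h : Config C M t) {x : G} (hx : x ∈ C) (hx1 : x ≠ 1) :
    psi t x = Nat.card M ^ 2 * Nat.card C := by
  classical
  have hterm : ∀ u, cc t u * cc t (x⁻¹ * u) = if u ∈ M ∧ u ∉ C then Nat.card M ^ 2 else 0 := by
    intro u
    split_ifs with hu
    · obtain ⟨huM, huC⟩ := hu
      have h1 : u ≠ 1 := fun h1 => huC (h1 ▸ C.one_mem)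
      have h2 : x⁻¹ * u ∈ M := M.mul_mem (M.inv_mem (h.le hx)) huM
      have h3 : x⁻¹ * u ∉ C := fun h3 => huC (by
        have := C.mul_mem hx h3
        rwa [mul_inv_cancel_left] at this)
      have h4 : x⁻¹ * u ≠ 1 := fun h1 => h3 (h1 ▸ C.one_mem)
      rw [cc_eq_card h h1 (h.sq u huM huC), cc_eq_card h h4 (h.sq _ h2 h3), pow_two]
    · by_contra hne
      obtain ⟨h1, h2⟩ := mul_ne_zero_iff.1 hne
      obtain ⟨h3, h4⟩ := invol_of_cc h h1
      obtain ⟨h5, h6⟩ := invol_of_cc h h2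
      have h7 : u * x⁻¹ * u⁻¹ = x := by
        have hu : u⁻¹ = u := inv_eq_of_mul_eq_one_right h4
        rw [hu]
        have : x⁻¹ * (u * x⁻¹ * u) = 1 := by rw [← h6]; group
        exact (inv_mul_eq_one.1 this).symm
      have huM : u ∈ M := by
        by_contra huM
        exact hx1 (inv_eq_one.1 (h.ti u huM x⁻¹ (C.inv_mem hx) (by rw [h7]; exact hx)))
      have huC : u ∈ C := by
        by_contra huC
        exact hu ⟨huM, huC⟩
      have h8 := (h.uniq u huC h4).resolve_left h3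
      have h9 := (h.uniq _ (C.mul_mem (C.inv_mem hx) huC) h6).resolve_left h5
      rw [h8] at h9
      exact hx1 (inv_eq_one.1 (mul_eq_right.1 h9))
  unfold psi
  rw [Finset.sum_congr rfl (fun u _ => hterm u), ← Finset.sum_filter, Finset.sum_const, smul_eq_mul, mul_comm]
  congr 1
  have h1 : (Finset.univ.filter (fun u : G => u ∈ M ∧ u ∉ C)) =
      (Finset.univ.filter (fun u : G => u ∈ M)) \ (Finset.univ.filter (fun u : G => u ∈ C)) := by
    ext u; simp
  have h2 : (Finset.univ.filter (fun u : G => u ∈ M)).card = Nat.card M := by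
    rw [Nat.card_eq_fintype_card, Fintype.card_subtype]
  have h3 : (Finset.univ.filter (fun u : G => u ∈ C)).card = Nat.card C := by
    rw [Nat.card_eq_fintype_card, Fintype.card_subtype]
  rw [h1, Finset.card_sdiff_of_subset, h2, h3, h.card]
  · omega
  · intro u hu
    simp only [Finset.mem_filter, Finset.mem_univ, true_and] at hu ⊢
    exact h.le hu

theorem exists_conj_of_psi (h : Config C M t) {g : G} (hg : g ≠ 1) (hpsi : psi t g ≠ 0) :
    ∃ y, y⁻¹ * g * y ∈ C := by
  unfold psi at hpsi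
  obtain ⟨u, -, hu⟩ := Finset.exists_ne_zero_of_sum_ne_zero hpsi
  obtain ⟨h1, h2⟩ := mul_ne_zero_iff.1 hu
  obtain ⟨h3, h4⟩ := invol_of_cc h h1
  obtain ⟨h5, h6⟩ := invol_of_cc h h2
  have h7 : g = u * (g⁻¹ * u) := by
    have h8 : (g⁻¹ * u)⁻¹ = g⁻¹ * u := inv_eq_of_mul_eq_one_right h6
    rw [← h8]; group
  rw [h7]
  exact h.cover u (g⁻¹ * u) h4 h3 h6 h5 (by rw [← h7]; exact hg)

omit [Fintype G] in
theorem inv_conj (h : Config C M t) {m x : G} (hm : m ∈ M) (hmC : m ∉ C) (hx : x ∈ C) :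
    m⁻¹ * x * m = x⁻¹ := by
  have h1 := h.inv m⁻¹ (M.inv_mem hm) (fun hc => hmC (by simpa using C.inv_mem hc)) x hx
  rwa [inv_inv] at h1

omit [Fintype G] in
theorem normal_aux (h : Config C M t) {m x : G} (hm : m ∈ M) (hx : x ∈ C) : m⁻¹ * x * m ∈ C := by
  by_cases hmC : m ∈ C
  · exact C.mul_mem (C.mul_mem (C.inv_mem hmC) hx) hmC
  · rw [inv_conj h hm hmC hx]
    exact C.inv_mem hx

/-- The order bound. -/
theorem card_le (h : Config C M t) : Nat.card G ≤ Nat.card M * (1 + Nat.card C * (Nat.card C - 1)) := by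
  classical
  have hG : 0 < Nat.card G := Nat.card_pos
  have hM : 0 < Nat.card M := Nat.card_pos
  have h1 : ∀ g ∈ Finset.univ.erase (1 : G), Nat.card M * psi t g ≤
      ∑ y : G, if y⁻¹ * g * y ∈ C then psi t g else 0 := by
    intro g hg
    have hg1 : g ≠ 1 := Finset.ne_of_mem_erase hg
    by_cases h0 : psi t g = 0
    · rw [h0, mul_zero]; exact Nat.zero_le _
    · obtain ⟨y, hy⟩ := exists_conj_of_psi h hg1 h0
      rw [← Finset.sum_filter, Finset.sum_const, smul_eq_mul]
      apply Nat.mul_le_mul_right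
      rw [Nat.card_eq_fintype_card, Fintype.card_subtype]
      apply Finset.card_le_card_of_injOn (fun m => y * m)
      · intro m hm
        simp only [Finset.coe_filter, Finset.mem_univ, true_and, Set.mem_ofPred_eq] at hm ⊢
        rw [show (y * m)⁻¹ * g * (y * m) = m⁻¹ * (y⁻¹ * g * y) * m by group]
        exact normal_aux h hm hy
      · intro a _ b _ hab
        exact mul_left_cancel hab
  have h2 : ∑ g ∈ Finset.univ.erase (1 : G), ∑ y : G, (if y⁻¹ * g * y ∈ C then psi t g else 0) =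
      Nat.card G * ((Nat.card C - 1) * (Nat.card M ^ 2 * Nat.card C)) := by
    rw [Finset.sum_comm]
    have h3 : ∀ y : G, ∑ g ∈ Finset.univ.erase (1 : G), (if y⁻¹ * g * y ∈ C then psi t g else 0) =
        (Nat.card C - 1) * (Nat.card M ^ 2 * Nat.card C) := by
      intro y
      have h4 : ∑ g ∈ Finset.univ.erase (1 : G), (if y⁻¹ * g * y ∈ C then psi t g else 0) =
          ∑ x ∈ Finset.univ.erase (1 : G), (if x ∈ C then psi t x else 0) := by
        apply Finset.sum_bij' (fun g _ => y⁻¹ * g * y) (fun g _ => y * g * y⁻¹)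
        · intro g hg
          rw [Finset.mem_erase] at hg ⊢
          refine ⟨fun h1 => hg.1 ?_, Finset.mem_univ _⟩
          have : y * (y⁻¹ * g * y) * y⁻¹ = 1 := by rw [h1]; group
          rw [← this]; group
        · intro g hg
          rw [Finset.mem_erase] at hg ⊢
          refine ⟨fun h1 => hg.1 ?_, Finset.mem_univ _⟩
          have : y⁻¹ * (y * g * y⁻¹) * y = 1 := by rw [h1]; group
          rw [← this]; group
        · intro g _; group
        · intro g _; group
        · intro g _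
          have : psi t (y⁻¹ * g * y) = psi t g := by
            have := psi_conj t y⁻¹ g
            rwa [inv_inv] at this
          rw [this]
      rw [h4, ← Finset.sum_filter, Finset.sum_congr rfl (g := fun _ => Nat.card M ^ 2 * Nat.card C)]
      · rw [Finset.sum_const, smul_eq_mul]
        congr 1
        have h5 : (Finset.univ.erase (1 : G)).filter (fun x => x ∈ C) =
            (Finset.univ.filter (fun x : G => x ∈ C)).erase 1 := by
          ext x; simp [and_comm]
        rw [h5, Finset.card_erase_of_mem (by simp), Nat.card_eq_fintype_card, Fintype.card_subtype]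
      · intro x hx
        rw [Finset.mem_filter, Finset.mem_erase] at hx
        exact psi_of_mem h hx.2 hx.1.1
    rw [Finset.sum_congr rfl (fun y _ => h3 y), Finset.sum_const, smul_eq_mul, Finset.card_univ,
      ← Nat.card_eq_fintype_card]
  have h3 := Finset.sum_le_sum h1
  rw [h2, ← Finset.mul_sum] at h3
  have h4 : ∑ g ∈ Finset.univ.erase (1 : G), psi t g + Nat.card M * Nat.card G = Nat.card G ^ 2 := by
    rw [← sum_psi t, ← psi_one h, Finset.sum_erase_add _ _ (Finset.mem_univ _)]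
  have h5 : Nat.card M * Nat.card G ^ 2 ≤ Nat.card M * Nat.card G * (Nat.card M * (1 + Nat.card C * (Nat.card C - 1))) := by
    rw [← h4, mul_add]
    calc _ ≤ Nat.card G * ((Nat.card C - 1) * (Nat.card M ^ 2 * Nat.card C)) + Nat.card M * (Nat.card M * Nat.card G) :=
          Nat.add_le_add_right h3 _
      _ = _ := by ring
  have h6 : Nat.card M * Nat.card G * Nat.card G ≤ Nat.card M * Nat.card G * (Nat.card M * (1 + Nat.card C * (Nat.card C - 1))) := by
    rw [mul_assoc, ← pow_two]; exact h5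
  exact Nat.le_of_mul_le_mul_left h6 (Nat.mul_pos hM hG)

end Counting

section Sign

/-- The sign character of `C`. -/
theorem exists_sign (h : Config C M t) : ∃ f : C →* ℂˣ, f ⟨t, h.tC⟩ = -1 ∧ ∀ c, f c * f c = 1 := by
  classical
  obtain ⟨k, hk, hcard⟩ := h.odd
  have hpow : ∀ c : C, (c : G) ^ k = 1 ∨ (c : G) ^ k = t := by
    intro c
    apply h.uniq _ (C.pow_mem c.2 k)
    rw [← pow_two, ← pow_mul, mul_comm, ← hcard]
    rw [← Subgroup.coe_pow, pow_card_eq_one']
    rfl
  have hmul : ∀ a b : C, ((a * b : C) : G) ^ k = (a : G) ^ k * (b : G) ^ k := by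
    intro a b
    have hc : Commute (a : G) (b : G) := h.comm a a.2 b b.2
    rw [Subgroup.coe_mul]
    exact hc.mul_pow k
  have htk : t ^ k = t := by
    obtain ⟨j, rfl⟩ := hk
    rw [pow_add, pow_mul, pow_two, h.tt, one_pow, one_mul, pow_one]
  let f : C →* ℂˣ :=
    { toFun := fun c => if (c : G) ^ k = 1 then 1 else -1
      map_one' := by simp
      map_mul' := by
        intro a b
        simp only [hmul]
        rcases hpow a with ha | ha <;> rcases hpow b with hb | hb
        · simp [ha, hb]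
        · simp [ha, hb]
        · simp [ha, hb, h.t1]
        · simp [ha, hb, h.t1, h.tt] }
  refine ⟨f, ?_, ?_⟩
  · simp [f, htk, h.t1]
  · intro c
    simp only [f, MonoidHom.coe_mk, OneHom.coe_mk]
    split_ifs <;> simp

end Sign

/-- `μ - μ λ`. -/
noncomputable def eps (lam : C → ℂ) (μ : C → ℂ) : C → ℂ := μ - μ * lam

/-- The data of a sign character. -/
structure IsSign (h : Config C M t) (lam : C → ℂ) : Prop where
  char : IsCharacter C lam
  one : lam 1 = 1
  at_t : lam ⟨t, h.tC⟩ = -1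
  sq : ∀ c, lam c * lam c = 1

section Bar

variable [Finite C]

/-- Complex conjugate. -/
noncomputable def bar (μ : IrrCharacter C) : IrrCharacter C := ⟨fun c => conj ((μ : C → ℂ) c), μ.2.conj⟩

theorem bar_bar (μ : IrrCharacter C) : bar (bar μ) = μ := by
  apply Subtype.ext
  funext c
  simp [bar]

end Bar

section Chars

variable [Fintype G] [Fintype C]

omit [Fintype G] [Fintype C] in
theorem exists_isSign (h : Config C M t) : ∃ lam : C → ℂ, IsSign h lam := by
  obtain ⟨f, h1, h2⟩ := exists_sign h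
  refine ⟨fun c => (f c : ℂ), isCharacter_of_unitsHom f, by simp, by simp [h1], ?_⟩
  intro c
  rw [← Units.val_mul, h2, Units.val_one]

omit [Fintype G] [Fintype C] in
theorem IsSign.inv {h : Config C M t} {lam : C → ℂ} (hl : IsSign h lam) [Finite C] (c : C) : lam c⁻¹ = lam c := by
  have h1 := hl.char.map_mul_of_linear hl.one c⁻¹ c
  rw [inv_mul_cancel, hl.one] at h1
  have h2 := hl.sq c
  have h3 : lam c ≠ 0 := hl.char.ne_zero_of_linear hl.one c
  apply mul_right_cancel₀ h3
  rw [← h1, h2]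

/-- The induced generalized character. -/
noncomputable def vv (lam : C → ℂ) (μ : C → ℂ) : G → ℂ := indFun C (eps lam μ)

variable {h : Config C M t} {lam : C → ℂ}

omit [Fintype G] [Fintype C] in
theorem eps_one (hl : IsSign h lam) (μ : C → ℂ) : eps lam μ 1 = 0 := by
  simp [eps, hl.one]

omit [Fintype C] in
theorem vv_one (hl : IsSign h lam) (μ : C → ℂ) : vv lam μ 1 = 0 := by
  unfold vv
  rw [IndFun.indFun_one, eps_one hl, mul_zero]

omit [Fintype C] in
theorem vv_gen (hl : IsSign h lam) (μ : IrrCharacter C) : IsGeneralizedCharacter G (vv lam (μ : C → ℂ)) := by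
  unfold vv eps
  exact (μ.2.isGeneralized.sub (μ.2.isCharacter.mul hl.char).isGeneralized).indFun C

omit [Fintype C] in
theorem vv_mem (hl : IsSign h lam) (μ : IrrCharacter C) {x : C} (hx : x ≠ 1) :
    vv lam (μ : C → ℂ) (x : G) = eps lam μ x + eps lam μ x⁻¹ := by
  classical
  have hcf : IsClassFunction C (eps lam (μ : C → ℂ)) :=
    μ.2.isClassFunction.sub (μ.2.isCharacter.mul hl.char).isClassFunction
  have h1 : ∀ y : G, extendByZero C (eps lam (μ : C → ℂ)) (y⁻¹ * x * y) =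
      (if y ∈ C then eps lam μ x else 0) + ((if y ∈ M then eps lam μ x⁻¹ else 0) - (if y ∈ C then eps lam μ x⁻¹ else 0)) := by
    intro y
    by_cases hyC : y ∈ C
    · rw [if_pos hyC, if_pos hyC, if_pos (h.le hyC), sub_self, add_zero]
      have h2 : y⁻¹ * x * y = x := by
        rw [mul_assoc, h.comm x x.2 y hyC]; group
      rw [h2, IndFun.extendByZero_coe]
    · rw [if_neg hyC, if_neg hyC, sub_zero, zero_add]
      by_cases hyM : y ∈ M
      · rw [if_pos hyM, inv_conj h hyM hyC x.2]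
        exact IndFun.extendByZero_coe C _ x⁻¹
      · rw [if_neg hyM]
        apply IndFun.extendByZero_not_mem
        intro hc
        apply hx
        apply Subtype.ext
        refine h.ti y⁻¹ (fun h2 => hyM (by simpa using M.inv_mem h2)) x x.2 ?_
        rwa [inv_inv]
  unfold vv
  rw [IndFun.indFun_apply, Finset.sum_congr rfl (fun y _ => h1 y), Finset.sum_add_distrib, Finset.sum_sub_distrib,
    ← Finset.sum_filter, ← Finset.sum_filter, ← Finset.sum_filter, Finset.sum_const, Finset.sum_const, Finset.sum_const]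
  have h2 : (Finset.univ.filter (fun u : G => u ∈ M)).card = 2 * Nat.card C := by
    rw [← h.card, Nat.card_eq_fintype_card, Fintype.card_subtype]
  have h3 : (Finset.univ.filter (fun u : G => u ∈ C)).card = Nat.card C := by
    rw [Nat.card_eq_fintype_card, Fintype.card_subtype]
  rw [h2, h3]
  simp only [nsmul_eq_mul]
  push_cast
  have h4 : (Nat.card C : ℂ) ≠ 0 := by exact_mod_cast Nat.card_pos.ne'
  field_simp
  ring

omit [Fintype G] [Fintype C] in
theorem exists_invert (h : Config C M t) [Finite G] : ∃ m ∈ M, m ∉ C := by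
  by_contra hcon
  push Not at hcon
  have h1 : M ≤ C := fun m hm => hcon m hm
  have h2 : M = C := le_antisymm h1 h.le
  have h3 := h.card
  rw [h2] at h3
  have h4 : 0 < Nat.card C := Nat.card_pos
  omega

omit [Fintype G] [Fintype C] in
theorem classFun_inv (h : Config C M t) [Finite G] {f : G → ℂ} (hf : IsClassFunction G f) (x : C) :
    f (x : G)⁻¹ = f x := by
  obtain ⟨m, hm, hmC⟩ := exists_invert h
  rw [← h.inv m hm hmC x x.2]
  exact hf _ _

/-- Frobenius reciprocity. -/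
theorem vv_inner (μ : IrrCharacter C) {f : G → ℂ} (hf : IsClassFunction G f) :
    classInner (vv lam (μ : C → ℂ)) f = classInner (eps lam μ) (fun c : C => f c) :=
  IndFun.frobenius_reciprocity C _ f hf

theorem eps_bar (hl : IsSign h lam) (μ : IrrCharacter C) (c : C) :
    eps lam (bar μ : C → ℂ) c = eps lam (μ : C → ℂ) c⁻¹ := by
  simp only [eps, bar, Pi.sub_apply, Pi.mul_apply]
  rw [hl.inv, μ.2.inv]

theorem vv_bar_inner (hl : IsSign h lam) (μ : IrrCharacter C) {f : G → ℂ} (hf : IsClassFunction G f) :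
    classInner (vv lam (bar μ : C → ℂ)) f = classInner (vv lam (μ : C → ℂ)) f := by
  rw [vv_inner _ hf, vv_inner _ hf, classInner_def, classInner_def]
  congr 1
  apply Fintype.sum_equiv (Equiv.inv C)
  intro c
  rw [eps_bar hl]
  simp only [Equiv.inv_apply, Subgroup.coe_inv]
  rw [classFun_inv h hf]

/-- Twist by the sign. -/
noncomputable def tw (hl : IsSign h lam) (μ : IrrCharacter C) : IrrCharacter C :=
  ⟨(μ : C → ℂ) * lam, μ.2.mul_linear hl.char hl.one⟩

theorem irr_one (h : Config C M t) (μ : IrrCharacter C) : (μ : C → ℂ) 1 = 1 :=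
  μ.2.one_eq_one_of_comm (fun a b => Subtype.ext (h.comm a a.2 b b.2))

theorem irr_t (h : Config C M t) (μ : IrrCharacter C) :
    (μ : C → ℂ) ⟨t, h.tC⟩ = 1 ∨ (μ : C → ℂ) ⟨t, h.tC⟩ = -1 := by
  have h1 := μ.2.isCharacter.map_mul_of_linear (irr_one h μ) ⟨t, h.tC⟩ ⟨t, h.tC⟩
  have h2 : (⟨t, h.tC⟩ : C) * ⟨t, h.tC⟩ = 1 := Subtype.ext h.tt
  rw [h2, irr_one h] at h1
  exact mul_self_eq_one_iff.1 h1.symm

theorem eps_inner (hl : IsSign h lam) {μ ν : IrrCharacter C} (hμ : (μ : C → ℂ) ⟨t, h.tC⟩ = 1)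
    (hν : (ν : C → ℂ) ⟨t, h.tC⟩ = 1) [Decidable (μ = ν)] :
    classInner (eps lam μ) (eps lam ν) = if μ = ν then 2 else 0 := by
  classical
  have h1 : (μ : C → ℂ) * lam = (tw hl μ : C → ℂ) := rfl
  have h2 : (ν : C → ℂ) * lam = (tw hl ν : C → ℂ) := rfl
  have h3 : μ ≠ tw hl ν := by
    intro h3
    have := congrFun (congrArg Subtype.val h3) ⟨t, h.tC⟩
    rw [hμ] at this
    simp only [tw, Pi.mul_apply, hν, hl.at_t] at this
    norm_num at this
  have h4 : tw hl μ ≠ ν := by
    intro h3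
    have := congrFun (congrArg Subtype.val h3) ⟨t, h.tC⟩
    rw [hν] at this
    simp only [tw, Pi.mul_apply, hμ, hl.at_t] at this
    norm_num at this
  have h5 : tw hl μ = tw hl ν ↔ μ = ν := by
    constructor
    · intro h5
      apply Subtype.ext
      funext c
      have := congrFun (congrArg Subtype.val h5) c
      simp only [tw, Pi.mul_apply] at this
      exact mul_right_cancel₀ (hl.char.ne_zero_of_linear hl.one c) this
    · rintro rfl; rfl
  unfold eps
  rw [h1, h2, classInner_sub_left, classInner_sub_right, classInner_sub_right, irr_orthonormal, irr_orthonormal,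
    irr_orthonormal, irr_orthonormal, if_neg h3, if_neg h4]
  by_cases h6 : μ = ν
  · rw [if_pos h6, if_pos h6, if_pos (h5.2 h6)]; norm_num
  · rw [if_neg h6, if_neg h6, if_neg (fun h7 => h6 (h5.1 h7))]; norm_num

theorem bar_t (h : Config C M t) {μ : IrrCharacter C} (hμ : (μ : C → ℂ) ⟨t, h.tC⟩ = 1) :
    (bar μ : C → ℂ) ⟨t, h.tC⟩ = 1 := by
  simp [bar, hμ]

/-- The norms. -/
theorem vv_norm (hl : IsSign h lam) {μ : IrrCharacter C} (hμ : (μ : C → ℂ) ⟨t, h.tC⟩ = 1)
    [Decidable (bar μ = μ)] :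
    classInner (vv lam (μ : C → ℂ)) (vv lam (μ : C → ℂ)) = if bar μ = μ then 4 else 2 := by
  classical
  rw [vv_inner μ (f := vv lam (μ : C → ℂ)) (IndFun.indFun_isClassFunction C _)]
  have h1 : classInner (eps lam μ) (fun c : C => vv lam (μ : C → ℂ) c) =
      classInner (eps lam μ) (eps lam μ + eps lam (bar μ)) := by
    rw [classInner_def, classInner_def]
    congr 1
    apply Finset.sum_congr rfl
    intro c _
    by_cases hc : c = 1
    · rw [hc, eps_one hl, zero_mul, zero_mul]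
    · rw [vv_mem hl μ hc, Pi.add_apply, eps_bar hl]
  rw [h1, classInner_add_right, eps_inner hl hμ hμ, eps_inner hl hμ (bar_t h hμ), if_pos rfl]
  by_cases h2 : bar μ = μ
  · rw [if_pos h2.symm, if_pos h2]; norm_num
  · rw [if_neg (fun h3 => h2 h3.symm), if_neg h2]; norm_num

omit [Fintype C] in
theorem vv_t (hl : IsSign h lam) {μ : IrrCharacter C} (hμ : (μ : C → ℂ) ⟨t, h.tC⟩ = 1) :
    vv lam (μ : C → ℂ) t = 4 := by
  have h1 : (⟨t, h.tC⟩ : C) ≠ 1 := fun h1 => h.t1 (congrArg Subtype.val h1)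
  have h2 := vv_mem hl μ h1
  have h3 : (⟨t, h.tC⟩ : C)⁻¹ = ⟨t, h.tC⟩ := by
    apply inv_eq_of_mul_eq_one_right
    exact Subtype.ext h.tt
  rw [h3] at h2
  rw [show vv lam (μ : C → ℂ) t = vv lam (μ : C → ℂ) ((⟨t, h.tC⟩ : C) : G) from rfl, h2]
  simp only [eps, Pi.sub_apply, Pi.mul_apply, hμ, hl.at_t]
  norm_num

/-- A self-conjugate character trivial on `t` is trivial. -/
theorem eq_one_of_bar (h : Config C M t) {μ : IrrCharacter C} (hμ : (μ : C → ℂ) ⟨t, h.tC⟩ = 1)
    (hbar : bar μ = μ) : ∀ c, (μ : C → ℂ) c = 1 := by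
  obtain ⟨f, hf⟩ := μ.2.isCharacter.exists_hom (irr_one h μ)
  obtain ⟨k, hk, hcard⟩ := h.odd
  intro c
  have h1 : (μ : C → ℂ) c * (μ : C → ℂ) c = 1 := by
    have h2 : (μ : C → ℂ) c⁻¹ = (μ : C → ℂ) c := by
      rw [μ.2.inv]
      exact congrFun (congrArg Subtype.val hbar) c
    nth_rewrite 1 [← h2]
    rw [← μ.2.isCharacter.map_mul_of_linear (irr_one h μ), inv_mul_cancel, irr_one h]
  have h2 : (c : G) ^ k = 1 ∨ (c : G) ^ k = t := by
    apply h.uniq _ (C.pow_mem c.2 k)
    rw [← pow_two, ← pow_mul, mul_comm, ← hcard]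
    rw [← Subgroup.coe_pow, Nat.card_eq_fintype_card, pow_card_eq_one]
    rfl
  have h3 : (μ : C → ℂ) (c ^ k) = 1 := by
    rcases h2 with h2 | h2
    · have : c ^ k = 1 := Subtype.ext h2
      rw [this, irr_one h]
    · have : c ^ k = ⟨t, h.tC⟩ := Subtype.ext h2
      rw [this, hμ]
  obtain ⟨j, rfl⟩ := hk
  rw [hf, map_pow, Units.val_pow_eq_pow_val, ← hf, pow_add, pow_mul, pow_two, h1, one_pow, one_mul, pow_one] at h3
  exact h3

/-- The trivial character. -/
noncomputable def oneC (C : Subgroup G) : IrrCharacter C := ⟨1, isIrrCharacter_one⟩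

theorem eps_inner_one (hl : IsSign h lam) {μ : IrrCharacter C} (hμ : (μ : C → ℂ) ⟨t, h.tC⟩ = 1)
    [Decidable (μ = oneC C)] :
    classInner (eps lam μ) 1 = if μ = oneC C then 1 else 0 := by
  classical
  have h1 : (μ : C → ℂ) * lam = (tw hl μ : C → ℂ) := rfl
  have h4 : tw hl μ ≠ oneC C := by
    intro h3
    have := congrFun (congrArg Subtype.val h3) ⟨t, h.tC⟩
    simp only [tw, Pi.mul_apply, hμ, hl.at_t, oneC, Pi.one_apply] at this
    norm_num at this
  have h5 : (1 : C → ℂ) = (oneC C : C → ℂ) := rfl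
  unfold eps
  rw [h1, h5, classInner_sub_left, irr_orthonormal, irr_orthonormal, if_neg h4, sub_zero]
  split_ifs <;> rfl

theorem sum_psi_vv (hl : IsSign h lam) {μ : IrrCharacter C} (hμ : (μ : C → ℂ) ⟨t, h.tC⟩ = 1)
    [Decidable (μ = oneC C)] :
    ∑ g, (psi t g : ℂ) * vv lam (μ : C → ℂ) g =
      if μ = oneC C then (Nat.card G : ℂ) * (Nat.card M ^ 2 * Nat.card C) else 0 := by
  classical
  have hpc : IsClassFunction G (fun g => (psi t g : ℂ)) := by
    intro g k
    show (psi t (k * g * k⁻¹) : ℂ) = _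
    rw [psi_conj]
  have h1 := IndFun.sum_indFun_mul C (eps lam (μ : C → ℂ)) (fun g => (psi t g : ℂ)) hpc
  have h2 : ∑ c : C, eps lam (μ : C → ℂ) c * (psi t (c : G) : ℂ) =
      (Nat.card M ^ 2 * Nat.card C : ℂ) * ∑ c : C, eps lam (μ : C → ℂ) c := by
    rw [Finset.mul_sum]
    apply Finset.sum_congr rfl
    intro c _
    by_cases hc : c = 1
    · rw [hc, eps_one hl, zero_mul, mul_zero]
    · rw [psi_of_mem h c.2 (fun h3 => hc (Subtype.ext h3))]
      push_cast
      ring
  have h3 : ∑ c : C, eps lam (μ : C → ℂ) c = (Nat.card C : ℂ) * classInner (eps lam μ) 1 := by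
    have h4 : (Nat.card C : ℂ) ≠ 0 := by exact_mod_cast Nat.card_pos.ne'
    rw [classInner_def]
    simp only [Pi.one_apply, map_one, mul_one]
    rw [mul_inv_cancel_left₀ h4]
  rw [h2, h3, eps_inner_one hl hμ] at h1
  have hG : (Nat.card G : ℂ) ≠ 0 := by exact_mod_cast Nat.card_pos.ne'
  have hC : (Nat.card C : ℂ) ≠ 0 := by exact_mod_cast Nat.card_pos.ne'
  have h5 : ∑ g, (psi t g : ℂ) * vv lam (μ : C → ℂ) g = ∑ g, vv lam (μ : C → ℂ) g * (psi t g : ℂ) := by
    apply Finset.sum_congr rfl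
    intro g _; ring
  rw [h5]
  unfold vv
  rw [inv_mul_eq_iff_eq_mul₀ hG] at h1
  rw [h1]
  split_ifs
  · field_simp
  · simp

theorem chi_t_real (h : Config C M t) (χ : IrrCharacter G) : conj ((χ : G → ℂ) t) = (χ : G → ℂ) t := by
  rw [← χ.2.inv, inv_eq_of_mul_eq_one_right h.tt]

theorem key_sum (hl : IsSign h lam) {μ : IrrCharacter C} (hμ : (μ : C → ℂ) ⟨t, h.tC⟩ = 1)
    [Decidable (μ = oneC C)] :
    ∑ χ : IrrCharacter G, classInner (vv lam (μ : C → ℂ)) (χ : G → ℂ) * ((χ : G → ℂ) t) ^ 2 / (χ : G → ℂ) 1 =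
      if μ = oneC C then (Nat.card M ^ 2 * Nat.card C : ℂ) / Nat.card G else 0 := by
  have h1 := sum_sum_conj (vv lam (μ : C → ℂ)) t t
  rw [sum_psi_mul, sum_psi_vv hl hμ] at h1
  have hG : (Nat.card G : ℂ) ≠ 0 := by exact_mod_cast Nat.card_pos.ne'
  have h2 : ∑ χ : IrrCharacter G,
        classInner (vv lam (μ : C → ℂ)) (χ : G → ℂ) * (χ : G → ℂ) t * conj ((χ : G → ℂ) t) / (χ : G → ℂ) 1 =
      ∑ χ : IrrCharacter G, classInner (vv lam (μ : C → ℂ)) (χ : G → ℂ) * ((χ : G → ℂ) t) ^ 2 / (χ : G → ℂ) 1 := by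
    apply Finset.sum_congr rfl
    intro χ _
    rw [chi_t_real h]
    ring
  rw [h2] at h1
  have hG2 : (Nat.card G : ℂ) ^ 2 ≠ 0 := pow_ne_zero _ hG
  rw [← mul_right_inj' hG2, ← h1]
  split_ifs
  · field_simp
  · simp

open scoped Classical in
/-- The value at `t`. -/
theorem chi_t_eq (hl : IsSign h lam) (χ : IrrCharacter G) :
    (χ : G → ℂ) t = ∑ μ ∈ Finset.univ.filter (fun μ : IrrCharacter C => (μ : C → ℂ) ⟨t, h.tC⟩ = 1),
      classInner (fun c : C => (χ : G → ℂ) c) (eps lam (μ : C → ℂ)) := by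
  have h1 : (χ : G → ℂ) t = ∑ μ : IrrCharacter C, classInner (fun c : C => (χ : G → ℂ) c) (μ : C → ℂ) *
      (μ : C → ℂ) ⟨t, h.tC⟩ := (χ.2.isClassFunction.restrict C).expansion_apply ⟨t, h.tC⟩
  rw [h1, ← Finset.sum_filter_add_sum_filter_not Finset.univ (fun μ : IrrCharacter C => (μ : C → ℂ) ⟨t, h.tC⟩ = 1)]
  have htwtw : ∀ μ, tw hl (tw hl μ) = μ := by
    intro μ
    apply Subtype.ext
    funext c
    simp only [tw, Pi.mul_apply]
    rw [mul_assoc, hl.sq, mul_one]
  have h3 : ∑ μ ∈ Finset.univ.filter (fun μ : IrrCharacter C => ¬ (μ : C → ℂ) ⟨t, h.tC⟩ = 1),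
      classInner (fun c : C => (χ : G → ℂ) c) (μ : C → ℂ) * (μ : C → ℂ) ⟨t, h.tC⟩ =
      ∑ μ ∈ Finset.univ.filter (fun μ : IrrCharacter C => (μ : C → ℂ) ⟨t, h.tC⟩ = 1),
      -classInner (fun c : C => (χ : G → ℂ) c) (tw hl μ : C → ℂ) := by
    apply Finset.sum_bij' (fun μ _ => tw hl μ) (fun μ _ => tw hl μ)
    · intro μ hμ
      simp only [Finset.mem_filter, Finset.mem_univ, true_and] at hμ ⊢
      have := (irr_t h μ).resolve_left hμ
      simp [tw, this, hl.at_t]
    · intro μ hμ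
      simp only [Finset.mem_filter, Finset.mem_univ, true_and] at hμ ⊢
      simp only [tw, Pi.mul_apply, hμ, hl.at_t]
      norm_num
    · intro μ _; exact htwtw μ
    · intro μ _; exact htwtw μ
    · intro μ hμ
      simp only [Finset.mem_filter, Finset.mem_univ, true_and] at hμ ⊢
      have := (irr_t h μ).resolve_left hμ
      rw [htwtw, this]
      ring
  rw [h3, ← Finset.sum_add_distrib]
  apply Finset.sum_congr rfl
  intro μ hμ
  simp only [Finset.mem_filter, Finset.mem_univ, true_and] at hμ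
  unfold eps
  rw [classInner_sub_right, hμ]
  simp only [tw]
  ring

theorem oneC_t (h : Config C M t) : (oneC C : C → ℂ) ⟨t, h.tC⟩ = 1 := rfl

theorem eq_oneC_of_bar (h : Config C M t) {μ : IrrCharacter C} (hμ : (μ : C → ℂ) ⟨t, h.tC⟩ = 1)
    (hbar : bar μ = μ) : μ = oneC C := by
  apply Subtype.ext
  funext c
  rw [eq_one_of_bar h hμ hbar c]
  rfl

theorem bar_oneC : bar (oneC C) = oneC C := by
  apply Subtype.ext
  funext c
  simp [bar, oneC]

/-- The configuration does not occur in a group without nontrivial linear characters. -/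
theorem config_false (h : Config C M t)
    (hperf : ∀ χ : IrrCharacter G, (χ : G → ℂ) 1 = 1 → (χ : G → ℂ) = 1) : False := by
  classical
  obtain ⟨lam, hl⟩ := exists_isSign h
  have hcf : ∀ μ : IrrCharacter C, ∃ c : IrrCharacter G → ℤ,
      ∀ χ : IrrCharacter G, classInner (vv lam (μ : C → ℂ)) (χ : G → ℂ) = c χ := by
    intro μ
    obtain ⟨c, hc, -⟩ := (vv_gen hl μ).exists_coeff
    exact ⟨c, hc⟩
  choose c hc using hcf
  have hdeg : ∀ χ : IrrCharacter G, ∃ d : ℕ, 0 < d ∧ (χ : G → ℂ) 1 = d := fun χ => χ.2.exists_degree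
  choose d hdpos hd using hdeg
  let A : Finset (IrrCharacter C) :=
    (Finset.univ.filter (fun μ : IrrCharacter C => (μ : C → ℂ) ⟨t, h.tC⟩ = 1)).erase (oneC C)
  have hA : ∀ μ, μ ∈ A ↔ μ ≠ oneC C ∧ (μ : C → ℂ) ⟨t, h.tC⟩ = 1 := by
    intro μ
    simp [A]
  let x : IrrCharacter G → ℤ := fun χ => c (oneC C) χ + ∑ μ ∈ A, c μ χ
  have hx : ∀ χ : IrrCharacter G, (χ : G → ℂ) t = x χ := by
    intro χ
    rw [chi_t_eq hl χ]
    have h1 : ∀ μ : IrrCharacter C, classInner (fun c : C => (χ : G → ℂ) c) (eps lam (μ : C → ℂ)) = c μ χ := by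
      intro μ
      rw [← conj_classInner, ← vv_inner μ χ.2.isClassFunction, hc]
      exact map_intCast (starRingEnd ℂ) _
    simp only [h1, x]
    push_cast
    rw [Finset.add_sum_erase _ (fun μ => (c μ χ : ℂ)) (by simp [oneC_t h])]
  let o : IrrCharacter G := ⟨1, isIrrCharacter_one⟩
  have hbarA : ∀ μ ∈ A, bar μ ∈ A := by
    intro μ hμ
    rw [hA] at hμ ⊢
    refine ⟨fun h1 => hμ.1 ?_, bar_t h hμ.2⟩
    rw [← bar_bar μ, h1, bar_oneC]
  have hvcf : ∀ μ : IrrCharacter C, IsClassFunction G (vv lam (μ : C → ℂ)) := fun μ =>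
    IndFun.indFun_isClassFunction C _
  have h0 : ∀ μ : IrrCharacter C, ∑ χ : IrrCharacter G, c μ χ * d χ = 0 := by
    intro μ
    have h1 := (hvcf μ).expansion_apply 1
    rw [vv_one hl] at h1
    simp only [hc, hd] at h1
    exact_mod_cast h1.symm
  have hfour : ∀ μ : IrrCharacter C, (μ : C → ℂ) ⟨t, h.tC⟩ = 1 → ∑ χ : IrrCharacter G, c μ χ * x χ = 4 := by
    intro μ hμ
    have h1 := (hvcf μ).expansion_apply t
    rw [vv_t hl hμ] at h1
    simp only [hc, hx] at h1
    exact_mod_cast h1.symm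
  have hnorm : ∀ μ : IrrCharacter C, (μ : C → ℂ) ⟨t, h.tC⟩ = 1 → ∑ χ : IrrCharacter G, c μ χ * c μ χ =
      if bar μ = μ then 4 else 2 := by
    intro μ hμ
    have h1 := classInner_eq_sum_coeff (hvcf μ) (hc μ) (hc μ)
    rw [vv_norm hl hμ] at h1
    have h2 : ((∑ χ : IrrCharacter G, c μ χ * c μ χ : ℤ) : ℂ) = ((if bar μ = μ then 4 else 2 : ℤ) : ℂ) := by
      rw [← h1]
      split_ifs <;> norm_num
    exact_mod_cast h2
  have hkey : ∀ μ : IrrCharacter C, (μ : C → ℂ) ⟨t, h.tC⟩ = 1 →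
      ∑ χ : IrrCharacter G, (c μ χ : ℝ) * (x χ) ^ 2 / d χ =
      if μ = oneC C then (Nat.card M ^ 2 * Nat.card C : ℝ) / Nat.card G else 0 := by
    intro μ hμ
    have h1 := key_sum hl hμ
    simp only [hc, hx, hd] at h1
    have h2 : ((∑ χ : IrrCharacter G, (c μ χ : ℝ) * (x χ) ^ 2 / d χ : ℝ) : ℂ) =
        ((if μ = oneC C then (Nat.card M ^ 2 * Nat.card C : ℝ) / Nat.card G else 0 : ℝ) : ℂ) := by
      push_cast
      rw [h1]
      split_ifs <;> norm_num
    exact_mod_cast h2
  have hb := final_bound A bar o (c (oneC C)) x c d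
    (by
      have h1 : (o : G → ℂ) 1 = 1 := rfl
      rw [hd] at h1
      exact_mod_cast h1)
    (by
      intro χ hχ
      by_contra hlt
      have h1 : d χ = 1 := by have := hdpos χ; omega
      apply hχ
      apply Subtype.ext
      apply hperf χ
      rw [hd, h1]
      norm_num)
    hbarA
    (fun μ _ => bar_bar μ)
    (fun μ hμ hbar => ((hA μ).1 hμ).1 (eq_oneC_of_bar h ((hA μ).1 hμ).2 hbar))
    (by
      intro μ _ χ
      have h1 := vv_bar_inner hl μ χ.2.isClassFunction
      rw [hc, hc] at h1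
      exact_mod_cast h1)
    (by
      have h1 := hnorm (oneC C) (oneC_t h)
      rwa [if_pos bar_oneC] at h1)
    (by
      have h1 : classInner (vv lam (oneC C : C → ℂ)) (o : G → ℂ) = 1 := by
        rw [vv_inner _ o.2.isClassFunction]
        have h2 : (fun c : C => (o : G → ℂ) c) = 1 := rfl
        rw [h2, eps_inner_one hl (oneC_t h), if_pos rfl]
      rw [hc] at h1
      exact_mod_cast h1)
    (h0 _)
    (by
      intro μ hμ
      have h1 := hnorm μ ((hA μ).1 hμ).2
      rwa [if_neg (fun hbar => ((hA μ).1 hμ).1 (eq_oneC_of_bar h ((hA μ).1 hμ).2 hbar))] at h1)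
    (fun μ _ => h0 μ)
    (fun μ hμ => hfour μ ((hA μ).1 hμ).2)
    (by
      intro μ hμ
      have h1 := hkey μ ((hA μ).1 hμ).2
      rwa [if_neg ((hA μ).1 hμ).1] at h1)
    (fun χ => rfl)
    (by
      have h1 : (o : G → ℂ) t = 1 := rfl
      rw [hx] at h1
      exact_mod_cast h1)
  rw [hkey (oneC C) (oneC_t h), if_pos rfl] at hb
  have hG : (0 : ℝ) < Nat.card G := by exact_mod_cast Nat.card_pos
  rw [div_le_iff₀ hG] at hb
  have hb2 : Nat.card M ^ 2 * Nat.card C ≤ 2 * Nat.card G := by exact_mod_cast hb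
  have h5 := card_le h
  have h6 : Nat.card M ^ 2 * Nat.card C ≤ 2 * (Nat.card M * (1 + Nat.card C * (Nat.card C - 1))) :=
    hb2.trans (Nat.mul_le_mul_left 2 h5)
  have h7 : 1 < Nat.card C := by
    have : Nontrivial C := ⟨⟨⟨t, h.tC⟩, 1, fun h1 => h.t1 (congrArg Subtype.val h1)⟩⟩
    exact Finite.one_lt_card
  rw [h.card] at h6
  obtain ⟨n, hn⟩ : ∃ n, Nat.card C = n + 2 := ⟨Nat.card C - 2, by omega⟩
  rw [hn] at h6
  have h8 : n + 2 - 1 = n + 1 := by omega
  rw [h8] at h6
  nlinarith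

end Chars

end Cfsg.Agent.Lib.DihTI
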