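import Mathlib
import Cfsg.Agent.Lib.ClassSizeCounting
import Cfsg.Agent.Lib.H70Basic
import Cfsg.Agent.Lib.PPart
import Cfsg.Agent.Lib.PNilp

set_option autoImplicit false

/-!
If `p` divides no class size of a `p'`-element, then `G = P × K`.
-/

namespace Cfsg.Agent.Lib.DirectSylow

open Subgroup

variable {G : Type*} [Group G] [Finite G] {p : ℕ} [Fact p.Prime]

theorem sylow_sup_centralizer_eq_top
    (h : ∀ x : G, ¬ p ∣ orderOf x → ¬ p ∣ (centralizer ({x} : Set G)).index) (P : Sylow p G) :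
    (P : Subgroup G) ⊔ centralizer (P : Set G) = ⊤ := by
  have hp : p.Prime := Fact.out
  apply Cfsg.Agent.Lib.H70Basic.eq_top_of_forall_conj_mem
  intro g
  obtain ⟨e, f, hef⟩ := Cfsg.Agent.Lib.PPart.exists_isRegExp p hp G
  set v := g ^ e with hv
  set u := g ^ f with hu
  have hg : v * u = g := hef.mul_eq g
  have hvreg : ¬ p ∣ orderOf v := hef.reg g
  obtain ⟨k, hk⟩ := hef.sing g
  have hcomm : Commute v u := (Commute.refl g).pow_pow e f
  obtain ⟨Q, hQ⟩ := Cfsg.Agent.Lib.ClassSizeCounting.exists_sylow_le_centralizer p v (h v hvreg)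
  set D := centralizer ({v} : Set G) with hD
  have huD : u ∈ D := mem_centralizer_singleton_iff.2 hcomm.eq.symm
  have huP : IsPGroup p (zpowers u) := IsPGroup.of_card (n := k) (by rw [Nat.card_zpowers]; exact hk)
  -- conjugate u into Q by an element of D
  let QD : Sylow p D := Q.subtype hQ
  have huD' : IsPGroup p ((zpowers u).subgroupOf D) :=
    huP.of_equiv (Subgroup.subgroupOfEquivOfLe (by rwa [zpowers_le])).symm
  obtain ⟨R, hR⟩ := huD'.exists_le_sylow
  obtain ⟨d, hd⟩ := MulAction.exists_smul_eq D R QD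
  have huR : (⟨u, huD⟩ : D) ∈ (R : Subgroup D) := hR (by
    rw [mem_subgroupOf]; exact mem_zpowers u)
  have hduQ : (d : G) * u * (d : G)⁻¹ ∈ (Q : Subgroup G) := by
    have h1 : (MulAut.conj d • (⟨u, huD⟩ : D)) ∈ ((d • R : Sylow p D) : Subgroup D) := by
      rw [Sylow.coe_subgroup_smul]
      exact Subgroup.smul_mem_pointwise_smul _ _ _ huR
    rw [hd] at h1
    exact h1
  have hdv : (d : G) * v * (d : G)⁻¹ = v := by
    have : (d : G) * v = v * d := mem_centralizer_singleton_iff.1 d.2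
    rw [this]; group
  obtain ⟨y, hy⟩ := MulAction.exists_smul_eq G Q P
  have hyQ : ∀ z, z ∈ (Q : Subgroup G) → y * z * y⁻¹ ∈ (P : Subgroup G) := by
    intro z hz
    have h1 : (MulAut.conj y • z) ∈ ((y • Q : Sylow p G) : Subgroup G) := by
      rw [Sylow.coe_subgroup_smul]
      exact Subgroup.smul_mem_pointwise_smul _ _ _ hz
    rw [hy] at h1
    exact h1
  have hyQ' : ∀ z, z ∈ (P : Subgroup G) → y⁻¹ * z * y ∈ (Q : Subgroup G) := by
    intro z hz
    rw [← hy, Sylow.coe_subgroup_smul, Subgroup.mem_pointwise_smul_iff_inv_smul_mem] at hz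
    have h5 : (MulAut.conj y)⁻¹ • z = y⁻¹ * z * y := by
      rw [← map_inv, MulAut.smul_def, MulAut.conj_apply, inv_inv]
    rwa [h5] at hz
  refine ⟨y * d, ?_⟩
  have h1 : (y * (d : G)) * g * (y * (d : G))⁻¹ =
      (y * ((d : G) * v * (d : G)⁻¹) * y⁻¹) * (y * ((d : G) * u * (d : G)⁻¹) * y⁻¹) := by
    rw [← hg]; group
  rw [h1, hdv]
  refine mul_mem (mem_sup_right ?_) (mem_sup_left (hyQ _ hduQ))
  rw [mem_centralizer_iff]
  intro z hz
  have h2 : y⁻¹ * z * y ∈ D := hQ (hyQ' z hz)
  have h3 : (y⁻¹ * z * y) * v = v * (y⁻¹ * z * y) := mem_centralizer_singleton_iff.1 h2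
  calc z * (y * v * y⁻¹) = y * ((y⁻¹ * z * y) * v) * y⁻¹ := by group
    _ = y * (v * (y⁻¹ * z * y)) * y⁻¹ := by rw [h3]
    _ = y * v * y⁻¹ * z := by group

theorem direct_factor
    (h : ∀ x : G, ¬ p ∣ orderOf x → ¬ p ∣ (centralizer ({x} : Set G)).index) (P : Sylow p G) :
    (P : Subgroup G).Normal ∧ ∃ N : Subgroup G, N.Normal ∧ N.IsComplement' (P : Subgroup G) ∧
      N ≤ centralizer (P : Set G) ∧ ∀ x : G, x ∈ N ↔ (orderOf x).Coprime p := by
  have hp : p.Prime := Fact.out
  have htop := sylow_sup_centralizer_eq_top h P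
  have hPn : (P : Subgroup G).Normal := by
    rw [← Subgroup.normalizer_eq_top_iff, eq_top_iff, ← htop]
    exact sup_le le_normalizer (centralizer_le_normalizer _)
  refine ⟨hPn, ?_⟩
  -- the unique Sylow
  have hcent : ∀ x : G, ¬ p ∣ orderOf x → x ∈ centralizer (P : Set G) := by
    intro x hx
    obtain ⟨Q, hQ⟩ := Cfsg.Agent.Lib.ClassSizeCounting.exists_sylow_le_centralizer p x (h x hx)
    have hQP : Q = P := by
      obtain ⟨y, hy⟩ := MulAction.exists_smul_eq G Q P
      obtain ⟨y', hy'⟩ := MulAction.exists_smul_eq G P Q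
      rw [← hy', Sylow.smul_eq_of_normal]
    rw [hQP] at hQ
    rw [mem_centralizer_iff]
    intro y hy
    exact mem_centralizer_singleton_iff.1 (hQ hy)
  obtain ⟨N, hN⟩ := Subgroup.exists_left_complement'_of_coprime P.card_coprime_index
  have hNcard : (Nat.card N).Coprime p := by
    have h1 := hN.index_eq_card
    rw [← h1]
    exact ((Nat.Prime.coprime_iff_not_dvd hp).2 P.not_dvd_index).symm
  have hNC : N ≤ centralizer (P : Set G) := by
    intro x hx
    apply hcent
    intro hd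
    have h1 : orderOf x ∣ Nat.card N := by
      have := orderOf_dvd_natCard (⟨x, hx⟩ : N)
      rwa [Subgroup.orderOf_mk] at this
    have h2 : p ∣ Nat.card N := hd.trans h1
    exact (Nat.Prime.coprime_iff_not_dvd hp).1 hNcard.symm h2
  have hNn : N.Normal := by
    rw [← Subgroup.normalizer_eq_top_iff, eq_top_iff, ← hN.sup_eq_top]
    refine sup_le le_normalizer ?_
    intro x hx
    apply centralizer_le_normalizer
    rw [mem_centralizer_iff]
    intro y hy
    exact (mem_centralizer_iff.1 (hNC hy) x hx).symm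
  exact ⟨N, hNn, hN, hNC, Cfsg.Agent.Lib.PNilp.mem_complement_iff P N hN⟩

end Cfsg.Agent.Lib.DirectSylow
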