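import Mathlib
import Cfsg.Agent.Lib.Dk2hH94

set_option autoImplicit false
set_option linter.unusedSectionVars false
set_option linter.unusedSimpArgs false
set_option linter.unusedVariables false

/-!
Overgroups of stabilisers of orthogonal decompositions into planes: the first case, conclusion.
-/

namespace Cfsg.Agent.Lib.Dk2H94

open QuadraticMap Module Cfsg.Agent.Lib.Quad Cfsg.Agent.Lib.OrthMax Cfsg.Agent.Lib.OrthNd
open Cfsg.Agent.Lib.OrthDecH94
open Cfsg.Agent.Lib.SLBlockH94 (Dec)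

variable {F V : Type*} [Field F] [Finite F] [AddCommGroup V] [Module F V] [FiniteDimensional F V]
  {Q : QuadraticForm F V} {M : Subgroup (V ≃ₗ[F] V)}
variable {κ : Type*} [Fintype κ] [DecidableEq κ]

namespace DK

variable {D : κ → Submodule F V} {pr : κ → V →ₗ[F] V} (S : DK Q D pr M)
include S

/-- the first case -/
theorem caseI (hd : ∀ i, finrank F (D i) = 2) (ty : Ty Q D) (hF : 4 ≤ Nat.card F ∨ (2 : F) = 0)
    (h7 : 7 ≤ Fintype.card κ) {a0 v : V} {i0 : κ} (ha0 : a0 ∈ D i0) (hQa : Q a0 ≠ 0) (hv : Cl Q M a0 v)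
    (hnot : ∀ i, v ∉ D i) : Om Q ≤ M := by
  by_contra hM
  have h5 : 5 ≤ Fintype.card κ := by omega
  -- nonzero components are nonsingular
  have hns : ∀ u, Cl Q M a0 u → ∀ i j, i ≠ j → pr i u ≠ 0 → pr j u ≠ 0 → Q (pr i u) ≠ 0 :=
    fun u hu i j hij hi hj h0 => hM (S.caseA hd ty h5 hij ha0 hQa hu hi h0 hj)
  -- three components
  obtain ⟨u, hu, i, j, l, hij, hil, hjl, hi, hj, hl⟩ : ∃ u, Cl Q M a0 u ∧ ∃ i j l, i ≠ j ∧ i ≠ l ∧ j ≠ l ∧
      pr i u ≠ 0 ∧ pr j u ≠ 0 ∧ pr l u ≠ 0 := by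
    have hv0 : v ≠ 0 := by rintro rfl; exact hv.1 (QuadraticMap.map_zero Q)
    obtain ⟨i, hi⟩ : ∃ i, pr i v ≠ 0 := by
      by_contra hcon
      push Not at hcon
      apply hv0
      rw [← S.dec.sum v]
      exact Finset.sum_eq_zero fun m _ => hcon m
    obtain ⟨j, hji, hj⟩ : ∃ j, j ≠ i ∧ pr j v ≠ 0 := by
      by_contra hcon
      push Not at hcon
      exact hnot i (S.eq_of_pr hcon)
    by_cases h3 : ∃ l, l ≠ i ∧ l ≠ j ∧ pr l v ≠ 0
    · obtain ⟨l, hli, hlj, hl⟩ := h3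
      exact ⟨v, hv, i, j, l, hji.symm, hli.symm, hlj.symm, hi, hj, hl⟩
    · push Not at h3
      obtain ⟨u, hu, l, hli, hlj, h4, h5, h6⟩ := S.step0 hd ty hF h5 hji.symm ha0 hQa hv
        (hns v hv i j hji.symm hi hj) hj h3
      exact ⟨u, hu, i, j, l, hji.symm, hli.symm, hlj.symm, h4, h5, h6⟩
  -- all of them nonsingular
  have hns' : ∀ m, pr m u ≠ 0 → Q (pr m u) ≠ 0 := by
    intro m hm
    by_cases hmi : m = i
    · exact hns u hu m j (by rw [hmi]; exact hij) hm hj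
    · exact hns u hu m i hmi hm hi
  by_cases hm1 : IsSquare (-1 : F)
  · exact hM (S.stepB hd ty h5 hij hil hjl ha0 hQa hu (hns' i hi) (hns' j hj) hl (Or.inl hm1))
  have h2 : (2 : F) ≠ 0 := by
    intro h2
    apply hm1
    exact ⟨1, by linear_combination -h2⟩
  have hclass : ∀ m, ∃ b ∈ D m, Q b ≠ 0 ∧ ¬ sc Q b a0 := by
    intro m
    obtain ⟨b, hb, hQb⟩ := S.exists_nonsing_in m
    obtain ⟨c, hc, hbc, -, -, hQc⟩ := S.exists_orth h2 hb hQb
    obtain ⟨s, t, hst⟩ := exists_sum_sq h2 hQb (hQc (hd m)) (-(Q a0))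
    have h3 : Q (s • b + t • c) = -(Q a0) := by
      rw [Q_add, Q_smul, Q_smul, polar_smul_left, polar_smul_right, hbc, smul_zero, smul_zero]
      linear_combination hst
    refine ⟨s • b + t • c, (D m).add_mem ((D m).smul_mem _ hb) ((D m).smul_mem _ hc), ?_, ?_⟩
    · rw [h3]; exact neg_ne_zero.2 hQa
    · rintro ⟨r, hr, hr'⟩
      apply hm1
      rw [h3] at hr'
      refine ⟨r, ?_⟩
      apply mul_right_cancel₀ hQa
      linear_combination hr'
  -- all components are nonzero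
  have hall : ∀ m, pr m u ≠ 0 := by
    intro m hm
    obtain ⟨b, hb, hQb, hba⟩ := hclass m
    exact hM (S.stepB hd ty h5 hij hil hjl ha0 hQa hu (hns' i hi) (hns' j hj) hl (Or.inr ⟨m,
      (fun h => hi (by rw [← h]; exact hm)), (fun h => hj (by rw [← h]; exact hm)), b, hb, hQb, by
        rw [polar_comm]; exact S.pr_zero_iff.1 hm b hb, hba⟩))
  have hQv : ∀ m, Q (pr m u) ≠ 0 := fun m => hns' m (hall m)
  -- orthogonal vectors in the blocks
  have hbad : ∀ m, ∀ b ∈ D m, Q b ≠ 0 → polar Q b u = 0 → sc Q b a0 := by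
    intro m b hb hQb hbu
    by_contra hba
    obtain ⟨i', hi', -⟩ := S.exists_index4 h5 m m m m
    obtain ⟨j', hj', hji', -⟩ := S.exists_index4 h5 m i' m m
    exact hM (S.stepB hd ty h5 hji'.symm hi' hj' ha0 hQa hu (hQv i') (hQv j') (hall m) (Or.inr ⟨m,
      hi'.symm, hj'.symm, b, hb, hQb, hbu, hba⟩))
  -- seven indices
  have hfin : Nonempty (Fin 7 ↪ κ) := by
    apply Function.Embedding.nonempty_of_card_le
    rw [Fintype.card_fin]; exact h7
  obtain ⟨f⟩ := hfin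
  have hex : ∀ m, ∃ c ∈ D m, Q c ≠ 0 ∧ polar Q c (pr m u) = 0 := by
    intro m
    obtain ⟨c, hc, hbc, -, -, hQc⟩ := S.exists_orth h2 (S.dec.mem m u) (hQv m)
    exact ⟨c, hc, hQc (hd m), by rw [polar_comm]; exact hbc⟩
  choose c hcD hQc hco using hex
  have hcsc : ∀ m, sc Q (c m) a0 := fun m => hbad m _ (hcD m) (hQc m) (by
    rw [← S.polar_pr' (hcD m)]; exact hco m)
  -- discriminants
  have hdisc : ∀ m n, ∃ r, r ≠ 0 ∧ Q (pr m u) * Q (c m) = r * r * (Q (pr n u) * Q (c n)) := by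
    intro m n
    obtain ⟨e, he⟩ := S.iso m n
    have hvn0 : pr n u ≠ 0 := hall n
    have hcn : c n ∉ F ∙ (pr n u) := by
      intro h
      obtain ⟨r, hr⟩ := Submodule.mem_span_singleton.1 h
      have h3 := hco n
      rw [← hr, polar_smul_left, polar_self', smul_eq_mul] at h3
      rcases mul_eq_zero.1 h3 with h4 | h4
      · apply hQc n
        rw [← hr, h4, zero_smul, QuadraticMap.map_zero]
      · exact mul_ne_zero h2 (hQv n) h4
    obtain ⟨α, β, hαβ⟩ := S.span2 hd (S.dec.mem n u) hvn0 (hcD n) hcn (e ⟨pr m u, S.dec.mem m u⟩).2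
    obtain ⟨γ, δ, hγδ⟩ := S.span2 hd (S.dec.mem n u) hvn0 (hcD n) hcn (e ⟨c m, hcD m⟩).2
    have e1 := he ⟨pr m u, S.dec.mem m u⟩
    have e2 := he ⟨c m, hcD m⟩
    have e3 := he (⟨pr m u, S.dec.mem m u⟩ + ⟨c m, hcD m⟩)
    rw [map_add, Submodule.coe_add, Submodule.coe_add, ← hαβ, ← hγδ] at e3
    rw [← hαβ] at e1
    rw [← hγδ] at e2
    simp only at e1 e2 e3
    have hcomm : polar Q (pr n u) (c n) = 0 := by rw [polar_comm]; exact hco n
    have hcomm' : polar Q (pr m u) (c m) = 0 := by rw [polar_comm]; exact hco m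
    rw [Q_add, Q_smul, Q_smul, polar_smul_left, polar_smul_right, hcomm] at e1 e2
    rw [Q_add Q (α • pr n u + β • c n), Q_add Q (pr m u) (c m), hcomm', Q_add, Q_smul, Q_smul, Q_add Q (γ • pr n u),
      Q_smul, Q_smul] at e3
    simp only [polar_add_left, polar_add_right, polar_smul_left, polar_smul_right, hco, hcomm, polar_self',
      smul_eq_mul, mul_zero, add_zero, zero_add] at e1 e2 e3
    have e4 : α * γ * Q (pr n u) + β * δ * Q (c n) = 0 := by
      apply (mul_eq_zero.1 (show 2 * (α * γ * Q (pr n u) + β * δ * Q (c n)) = 0 by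
        linear_combination e3 - e1 - e2)).resolve_left h2
    have e5 : Q (pr m u) * Q (c m) = (α * δ - β * γ) * (α * δ - β * γ) * (Q (pr n u) * Q (c n)) := by
      rw [← e1, ← e2]
      linear_combination (α * γ * Q (pr n u) + β * δ * Q (c n)) * e4
    refine ⟨_, ?_, e5⟩
    intro h0
    rw [h0, zero_mul, zero_mul] at e5
    exact mul_ne_zero (hQv m) (hQc m) e5
  have hcc : ∀ m n, sc Q (c m) (c n) := fun m n => (hcsc m).trans (hcsc n).symm
  have hvv : ∀ m n, sc Q (pr m u) (pr n u) := by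
    intro m n
    obtain ⟨r, hr, hr'⟩ := hdisc m n
    obtain ⟨t, ht, ht'⟩ := hcc n m
    refine ⟨r * t, mul_ne_zero hr ht, ?_⟩
    rw [ht'] at hr'
    apply mul_right_cancel₀ (hQc m)
    linear_combination hr'
  obtain ⟨β, hβ⟩ : ∃ β, β = Q (c (f 0)) * (Q (pr (f 0) u))⁻¹ := ⟨_, rfl⟩
  have hβ0 : β ≠ 0 := by rw [hβ]; exact mul_ne_zero (hQc _) (inv_ne_zero (hQv _))
  have hbex : ∀ m, ∃ r, r ≠ 0 ∧ r * r * Q (c m) = β * Q (pr m u) := by
    intro m
    obtain ⟨r, hr, hr'⟩ := hvv m (f 0)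
    obtain ⟨t, ht, ht'⟩ := hcc m (f 0)
    refine ⟨r * t⁻¹, mul_ne_zero hr (inv_ne_zero ht), ?_⟩
    rw [hr', ht', hβ]
    have := hQv (f 0)
    field_simp
  choose r hr0 hr using hbex
  refine hM (S.stepC hd ty h5 h2 hm1 ?_ f ha0 hQa hu (b := fun m => r m • c m) (fun m => (D m).smul_mem _ (hcD m))
    (fun m => by rw [polar_smul_left, hco, smul_zero]) hβ0 (fun m => by rw [Q_smul, hr]) hQv (fun m => hvv m (f 0))
    (sc.trans ⟨r (f 0), hr0 _, by rw [Q_smul]⟩ (hcsc (f 0))))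
  -- the field is large
  have hF4 := hF.resolve_right h2
  have hFt := Fintype.ofFinite F
  have hmod : Fintype.card F % 4 = 3 := by
    by_contra hcon
    exact hm1 (FiniteField.isSquare_neg_one_iff.2 hcon)
  rw [Nat.card_eq_fintype_card] at hF4 ⊢
  omega

end DK

end Cfsg.Agent.Lib.Dk2H94
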