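import Mathlib
import Cfsg.Agent.Lib.MobDickson
import Cfsg.Agent.Lib.MobCard
import Cfsg.Agent.Lib.DihRec

/-!
# Tori of `PGL_2(q)` and their normalizers (helper98)
-/

set_option autoImplicit false
set_option linter.unusedSectionVars false

namespace Cfsg.Agent.Lib.DkTorus

open Cfsg.Agent.Lib Cfsg.Agent.Lib.MobCount MulAction Matrix Cfsg.Agent.Lib.ClProjLine
open scoped LinearAlgebra.Projectivization MatrixGroups

section Abs

variable {K : Type*} [Field K] {G : Type*} [Group G] (f : G →* PGL(Fin 2, K))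

/-- pointwise stabilizer of two points -/
def Tor (x y : ℙ K (Fin 2 → K)) : Subgroup G where
  carrier := {g | f g • x = x ∧ f g • y = y}
  one_mem' := by simp
  mul_mem' := by
    rintro a b ⟨h1, h2⟩ ⟨h3, h4⟩
    exact ⟨by rw [map_mul, mul_smul, h3, h1], by rw [map_mul, mul_smul, h4, h2]⟩
  inv_mem' := by
    rintro a ⟨h1, h2⟩
    exact ⟨by rw [map_inv, inv_smul_eq_iff, h1], by rw [map_inv, inv_smul_eq_iff, h2]⟩

/-- setwise stabilizer of two points -/
def Nor (x y : ℙ K (Fin 2 → K)) : Subgroup G where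
  carrier := {g | (f g • x = x ∧ f g • y = y) ∨ (f g • x = y ∧ f g • y = x)}
  one_mem' := by left; simp
  mul_mem' := by
    rintro a b (⟨h1, h2⟩ | ⟨h1, h2⟩) (⟨h3, h4⟩ | ⟨h3, h4⟩)
    · left; exact ⟨by rw [map_mul, mul_smul, h3, h1], by rw [map_mul, mul_smul, h4, h2]⟩
    · right; exact ⟨by rw [map_mul, mul_smul, h3, h2], by rw [map_mul, mul_smul, h4, h1]⟩
    · right; exact ⟨by rw [map_mul, mul_smul, h3, h1], by rw [map_mul, mul_smul, h4, h2]⟩
    · left; exact ⟨by rw [map_mul, mul_smul, h3, h2], by rw [map_mul, mul_smul, h4, h1]⟩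
  inv_mem' := by
    rintro a (⟨h1, h2⟩ | ⟨h1, h2⟩)
    · left; exact ⟨by rw [map_inv, inv_smul_eq_iff, h1], by rw [map_inv, inv_smul_eq_iff, h2]⟩
    · right; exact ⟨by rw [map_inv, inv_smul_eq_iff, h2], by rw [map_inv, inv_smul_eq_iff, h1]⟩

theorem mem_Tor {x y : ℙ K (Fin 2 → K)} {g : G} : g ∈ Tor f x y ↔ f g • x = x ∧ f g • y = y := Iff.rfl

theorem mem_Nor {x y : ℙ K (Fin 2 → K)} {g : G} :
    g ∈ Nor f x y ↔ (f g • x = x ∧ f g • y = y) ∨ (f g • x = y ∧ f g • y = x) := Iff.rfl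

theorem Tor_le_Nor (x y : ℙ K (Fin 2 → K)) : Tor f x y ≤ Nor f x y := fun _ h => Or.inl h

variable [IsAlgClosed K] (p : ℕ) [Fact p.Prime] [CharP K p]

include p in
theorem Tor_cyclic [Finite G] (hf : Function.Injective f) {x y : ℙ K (Fin 2 → K)} (hxy : x ≠ y) : IsCyclic (Tor f x y) := by
  obtain ⟨χ, h1, h2, h3⟩ := (mobLike_PGL (K := K) p).chi x
  let j : Tor f x y →* stabilizer (PGL(Fin 2, K)) x :=
    { toFun := fun g => ⟨f g.1, g.2.1⟩
      map_one' := by apply Subtype.ext; simp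
      map_mul' := by intro a b; apply Subtype.ext; simp }
  apply isCyclic_of_injective_ringHom ((Units.coeHom K).comp (χ.comp j))
  rw [injective_iff_map_eq_one]
  intro a ha
  have h4 : χ (j a) = 1 := by
    apply Units.ext
    exact ha
  rcases (h1 _).mp h4 with e | ⟨_, z, hz, hu⟩
  · have e' : f a.1 = 1 := congrArg Subtype.val e
    apply Subtype.ext
    apply hf
    rw [e']; simp
  · exfalso
    apply hxy
    rw [hu x a.2.1, hu y a.2.2]

include p in
theorem Nor_sq (hf : Function.Injective f) {x y : ℙ K (Fin 2 → K)} (hxy : x ≠ y) {t : G} (ht : t ∈ Nor f x y)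
    (ht' : t ∉ Tor f x y) : t * t = 1 := by
  have hm := mobLike_PGL (K := K) p
  rcases ht with ht | ⟨ht1, ht2⟩
  · exact absurd ht ht'
  apply hf
  rw [map_one]
  by_contra htt
  have ht0 : f t ≠ 1 := by
    intro e; rw [e, one_smul] at ht1; exact hxy ht1
  obtain ⟨z, hz⟩ := hm.one (f t) ht0
  rcases hm.two (f (t * t)) htt x y z (by rw [map_mul, mul_smul, ht1, ht2]) (by rw [map_mul, mul_smul, ht2, ht1])
    (by rw [map_mul, mul_smul, hz, hz]) with e | e | e
  · exact hxy e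
  · rw [← e, ht2] at hz; exact hxy hz
  · rw [← e, ht1] at hz; exact hxy hz.symm

theorem Nor_card [Finite G] {x y : ℙ K (Fin 2 → K)} (hxy : x ≠ y) {s : G} (hs1 : f s • x = y) (hs2 : f s • y = x) :
    Nat.card (Nor f x y) = 2 * Nat.card (Tor f x y) := by
  have hle := Tor_le_Nor f x y
  have hsN : s ∈ Nor f x y := Or.inr ⟨hs1, hs2⟩
  have hsT : s ∉ Tor f x y := fun h => hxy (h.1.symm.trans hs1)
  have h1 : ((Tor f x y).subgroupOf (Nor f x y)).index = 2 := by
    rw [Subgroup.index_eq_two_iff]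
    refine ⟨⟨s, hsN⟩, fun b => ?_⟩
    rw [Subgroup.mem_subgroupOf, Subgroup.mem_subgroupOf, Subgroup.coe_mul]
    rcases b.2 with hb | hb
    · right
      refine ⟨hb, fun h => ?_⟩
      apply hsT
      exact ((Tor f x y).mul_mem_cancel_left hb).mp h
    · left
      refine ⟨⟨?_, ?_⟩, ?_⟩
      · rw [map_mul, mul_smul, hs1, hb.2]
      · rw [map_mul, mul_smul, hs2, hb.1]
      · intro h
        exact hxy (h.1.symm.trans hb.1)
  have h2 := Subgroup.card_mul_index ((Tor f x y).subgroupOf (Nor f x y))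
  rw [h1, Nat.card_congr (Subgroup.subgroupOfEquivOfLe hle).toEquiv] at h2
  omega

end Abs

/-- subgroups of a dihedral-like group -/
theorem dih_sub {G : Type*} [Group G] [Finite G] {T N : Subgroup G} (hT : IsCyclic T)
    (hsq : ∀ t ∈ N, t ∉ T → t * t = 1) (hcard : Nat.card N = 2 * Nat.card T) (hTN : T ≤ N)
    {H : Subgroup G} (hH : H ≤ N) (hnot : ¬ H ≤ T) :
    Nat.card H = 2 * Nat.card (H ⊓ T : Subgroup G) ∧ Nonempty (H ≃* DihedralGroup (Nat.card (H ⊓ T : Subgroup G))) := by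
  have hidx : (T.subgroupOf N).index = 2 := by
    have h2 := Subgroup.card_mul_index (T.subgroupOf N)
    rw [Nat.card_congr (Subgroup.subgroupOfEquivOfLe hTN).toEquiv, hcard, mul_comm 2] at h2
    exact Nat.eq_of_mul_eq_mul_left Nat.card_pos h2
  have hmul : ∀ a ∈ N, ∀ b ∈ N, a ∉ T → b ∉ T → a * b ∈ T := by
    intro a ha b hb haT hbT
    have h3 := Subgroup.mul_mem_iff_of_index_two hidx (a := ⟨a, ha⟩) (b := ⟨b, hb⟩)
    rw [Subgroup.mem_subgroupOf, Subgroup.mem_subgroupOf, Subgroup.mem_subgroupOf] at h3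
    exact h3.mpr ⟨fun h => absurd h haT, fun h => absurd h hbT⟩
  obtain ⟨s, hsH, hsT⟩ := SetLike.not_le_iff_exists.mp hnot
  have h1 : ((H ⊓ T).subgroupOf H).index = 2 := by
    rw [Subgroup.index_eq_two_iff]
    refine ⟨⟨s, hsH⟩, fun b => ?_⟩
    rw [Subgroup.mem_subgroupOf, Subgroup.mem_subgroupOf, Subgroup.coe_mul, Subgroup.mem_inf, Subgroup.mem_inf]
    by_cases hb : (b : G) ∈ T
    · right
      refine ⟨⟨b.2, hb⟩, fun h => ?_⟩
      apply hsT
      exact (T.mul_mem_cancel_left hb).mp h.2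
    · left
      exact ⟨⟨H.mul_mem b.2 hsH, hmul _ (hH b.2) _ (hH hsH) hb hsT⟩, fun h => hb h.2⟩
  have hc : Nat.card ((H ⊓ T).subgroupOf H) = Nat.card (H ⊓ T : Subgroup G) :=
    Nat.card_congr (Subgroup.subgroupOfEquivOfLe inf_le_left).toEquiv
  refine ⟨?_, ?_⟩
  · have h2 := Subgroup.card_mul_index ((H ⊓ T).subgroupOf H)
    rw [h1, hc] at h2
    omega
  · rw [← hc]
    have hcyc : IsCyclic ((H ⊓ T).subgroupOf H) := by
      have h5 : IsCyclic (H ⊓ T : Subgroup G) := by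
        have : IsCyclic ((H ⊓ T).subgroupOf T) := inferInstance
        exact (Subgroup.subgroupOfEquivOfLe inf_le_right).isCyclic.mp this
      exact (Subgroup.subgroupOfEquivOfLe inf_le_left).isCyclic.mpr h5
    refine DihRec.dihedral_of_cyclic _ hcyc h1 ?_
    intro t ht
    apply Subtype.ext
    rw [Subgroup.mem_subgroupOf, Subgroup.mem_inf] at ht
    exact hsq _ (hH t.2) (fun h => ht ⟨t.2, h⟩)

section Count

variable {F : Type*} [Field F] [Fintype F]

theorem proj_card' : Nat.card (ℙ F (Fin 2 → F)) = Fintype.card F + 1 := ClSmall.card_proj_line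

/-- existence of elements with three prescribed images -/
theorem exists_three {a b c a' b' c' : ℙ F (Fin 2 → F)} (hab : a ≠ b) (hac : a ≠ c) (hbc : b ≠ c)
    (hab' : a' ≠ b') (hac' : a' ≠ c') (hbc' : b' ≠ c') :
    ∃ g : PGL(Fin 2, F), g • a = a' ∧ g • b = b' ∧ g • c = c' := by
  obtain ⟨h, h0, h1, h2⟩ := exists_GL_map hab hac hbc
  obtain ⟨k, k0, k1, k2⟩ := exists_GL_map hab' hac' hbc'
  refine ⟨Matrix.ProjGenLinGroup.mk (k * h⁻¹), ?_, ?_, ?_⟩
  · rw [mk_smul_eq, ← h0, mul_smul, inv_smul_smul, k0]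
  · rw [mk_smul_eq, ← h1, mul_smul, inv_smul_smul, k1]
  · rw [mk_smul_eq, ← h2, mul_smul, inv_smul_smul, k2]

theorem exists_third (a b : ℙ F (Fin 2 → F)) : ∃ c, a ≠ c ∧ b ≠ c := by
  classical
  have : Fintype (ℙ F (Fin 2 → F)) := Fintype.ofFinite _
  by_contra hcon
  push Not at hcon
  have h1 : (Finset.univ : Finset (ℙ F (Fin 2 → F))) ⊆ {a, b} := by
    intro c _
    rw [Finset.mem_insert, Finset.mem_singleton]
    by_cases h : c = a
    · left; exact h
    · right; exact (hcon c (fun e => h e.symm)).symm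
  have h2 := Finset.card_le_card h1
  have h3 : ({a, b} : Finset (ℙ F (Fin 2 → F))).card ≤ 2 := Finset.card_le_two
  have h4 := proj_card' (F := F)
  rw [Nat.card_eq_fintype_card, ← Finset.card_univ] at h4
  have h5 : 1 < Fintype.card F := Fintype.one_lt_card
  omega

/-- pointwise stabilizer of two rational points -/
theorem card_tor_rat (x y : ℙ F (Fin 2 → F)) (hxy : x ≠ y) :
    Nat.card {g : PGL(Fin 2, F) // g • x = x ∧ g • y = y} = Fintype.card F - 1 := by
  classical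
  obtain ⟨z, hxz, hyz⟩ := exists_third x y
  have : Fintype (ℙ F (Fin 2 → F)) := Fintype.ofFinite _
  have e : Nat.card {g : PGL(Fin 2, F) // g • x = x ∧ g • y = y} = Nat.card {w : ℙ F (Fin 2 → F) // w ≠ x ∧ w ≠ y} := by
    refine Nat.card_congr (Equiv.ofBijective (fun g => ⟨g.1 • z, ?_, ?_⟩) ⟨?_, ?_⟩)
    · intro h
      exact hxz (smul_left_cancel g.1 (h.trans g.2.1.symm)).symm
    · intro h
      exact hyz (smul_left_cancel g.1 (h.trans g.2.2.symm)).symm
    · intro g h hgh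
      apply Subtype.ext
      have h1 : g.1 • z = h.1 • z := congrArg Subtype.val hgh
      exact ext_three hxy hxz hyz (g.2.1.trans h.2.1.symm) (g.2.2.trans h.2.2.symm) h1
    · rintro ⟨w, hw1, hw2⟩
      obtain ⟨g, h0, h1, h2⟩ := exists_three hxy hxz hyz hxy (fun e => hw1 e.symm) (fun e => hw2 e.symm)
      exact ⟨⟨g, h0, h1⟩, Subtype.ext h2⟩
  rw [e, Nat.card_eq_fintype_card, Fintype.card_subtype]
  have h1 : Finset.univ.filter (fun w : ℙ F (Fin 2 → F) => w ≠ x ∧ w ≠ y) = (Finset.univ.erase x).erase y := by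
    ext w; simp [and_comm]
  rw [h1, Finset.card_erase_of_mem, Finset.card_erase_of_mem (Finset.mem_univ _), Finset.card_univ]
  · have h4 := proj_card' (F := F)
    rw [Nat.card_eq_fintype_card] at h4
    omega
  · simp [hxy.symm]

end Count

section Irr

variable {F : Type*} [Field F] {K : Type*} [Field K] (σ : F →+* K)

/-- the affine map `z ↦ a z + b` -/
def aff (a b : F) (ha : a ≠ 0) : GL (Fin 2) F :=
  Matrix.GeneralLinearGroup.mkOfDetNeZero !![a, b; 0, 1] (by simpa [Matrix.det_fin_two] using ha)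

theorem aff_smul (a b : F) (ha : a ≠ 0) (z : K) :
    Matrix.ProjGenLinGroup.map (n := Fin 2) σ (Matrix.ProjGenLinGroup.mk (aff a b ha)) • pt z = pt (σ a * z + σ b) := by
  rw [Matrix.ProjGenLinGroup.map_mk]
  unfold pt
  rw [mk_smul_eq, smul_mk_GL]
  congr 1
  ext i
  fin_cases i <;> simp [Matrix.mulVec, dotProduct, Fin.sum_univ_two, aff, Matrix.GeneralLinearGroup.mkOfDetNeZero]

variable {σ} {α : K}

theorem lin_ne_zero (hα : ∀ a, σ a ≠ α) {u v : F} (h : u ≠ 0 ∨ v ≠ 0) : σ u * α + σ v ≠ 0 := by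
  intro h0
  by_cases hu : u = 0
  · subst hu
    rw [map_zero, zero_mul, zero_add, map_eq_zero] at h0
    rcases h with h | h
    · exact h rfl
    · exact h h0
  · apply hα (-v / u)
    have hu' : σ u ≠ 0 := by rwa [map_ne_zero]
    rw [map_div₀, map_neg, div_eq_iff hu']
    linear_combination -h0

theorem lin_inj (hα : ∀ a, σ a ≠ α) {a b c d : F} (h : σ a * α + σ b = σ c * α + σ d) : a = c ∧ b = d := by
  by_contra hcon
  apply lin_ne_zero hα (u := a - c) (v := b - d)
  · by_contra h1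
    push Not at h1
    exact hcon ⟨sub_eq_zero.mp h1.1, sub_eq_zero.mp h1.2⟩
  · rw [map_sub, map_sub]
    linear_combination h

theorem conj_irr (hα : ∀ a, σ a ≠ α) (s : F) : ∀ a, σ a ≠ σ s - α := by
  intro a h
  apply hα (s - a)
  rw [map_sub, h]; ring

theorem exists_aff (hα : ∀ a, σ a ≠ α) {s n : F} (hq : α ^ 2 = σ s * α - σ n) (A : GL (Fin 2) F) :
    ∃ (a b : F) (_ : a ≠ 0), Matrix.ProjGenLinGroup.map (n := Fin 2) σ (Matrix.ProjGenLinGroup.mk A) • pt α =
      pt (σ a * α + σ b) := by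
  have hdet : A.1 0 0 * A.1 1 1 - A.1 0 1 * A.1 1 0 ≠ 0 := by
    rw [← Matrix.det_fin_two]; exact A.det_ne_zero
  have hcd : A.1 1 0 ≠ 0 ∨ A.1 1 1 ≠ 0 := by
    by_contra h
    push Not at h
    apply hdet
    rw [h.1, h.2]; ring
  have h1 : σ (A.1 1 0) * α + σ (A.1 1 1) ≠ 0 := lin_ne_zero hα hcd
  have h2 : σ (A.1 1 0) * (σ s - α) + σ (A.1 1 1) ≠ 0 := lin_ne_zero (conj_irr hα s) hcd
  set N : F := A.1 1 1 ^ 2 + A.1 1 1 * A.1 1 0 * s + A.1 1 0 ^ 2 * n with hN
  have hNe : σ N = (σ (A.1 1 0) * α + σ (A.1 1 1)) * (σ (A.1 1 0) * (σ s - α) + σ (A.1 1 1)) := by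
    rw [hN]
    simp only [map_add, map_mul, map_pow]
    linear_combination σ (A.1 1 0) ^ 2 * hq
  have hN0 : N ≠ 0 := by
    rw [← map_ne_zero σ, hNe]
    exact mul_ne_zero h1 h2
  refine ⟨(A.1 0 0 * A.1 1 1 - A.1 0 1 * A.1 1 0) / N, (A.1 0 0 * A.1 1 0 * n + A.1 0 1 * A.1 1 1 + A.1 0 1 * A.1 1 0 * s) / N,
    div_ne_zero hdet hN0, ?_⟩
  rw [Matrix.ProjGenLinGroup.map_mk]
  have e1 : (Matrix.ProjGenLinGroup.mk (Matrix.GeneralLinearGroup.map σ A) : PGL(Fin 2, K)) • pt α =
      pt ((σ (A.1 0 0) * α + σ (A.1 0 1)) / (σ (A.1 1 0) * α + σ (A.1 1 1))) := by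
    conv_lhs => rw [pt]
    rw [mk_smul_eq, smul_mk_GL]
    have hv1 : ((Matrix.GeneralLinearGroup.map σ A).1 *ᵥ ![α, 1]) 1 = σ (A.1 1 0) * α + σ (A.1 1 1) := by
      simp [Matrix.mulVec, dotProduct, Fin.sum_univ_two]
    have hv0 : ((Matrix.GeneralLinearGroup.map σ A).1 *ᵥ ![α, 1]) 0 = σ (A.1 0 0) * α + σ (A.1 0 1) := by
      simp [Matrix.mulVec, dotProduct, Fin.sum_univ_two]
    rw [mk_eq_pt _ _ (by rw [hv1]; exact h1), hv0, hv1]
  rw [e1]
  congr 1
  have hNs : σ N ≠ 0 := by rwa [map_ne_zero]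
  rw [map_div₀, map_div₀, div_eq_iff h1]
  have : (σ (A.1 0 0 * A.1 1 1 - A.1 0 1 * A.1 1 0) / σ N * α +
      σ (A.1 0 0 * A.1 1 0 * n + A.1 0 1 * A.1 1 1 + A.1 0 1 * A.1 1 0 * s) / σ N) * (σ (A.1 1 0) * α + σ (A.1 1 1)) =
      ((σ (A.1 0 0 * A.1 1 1 - A.1 0 1 * A.1 1 0) * α +
      σ (A.1 0 0 * A.1 1 0 * n + A.1 0 1 * A.1 1 1 + A.1 0 1 * A.1 1 0 * s)) * (σ (A.1 1 0) * α + σ (A.1 1 1))) / σ N := by
    field_simp
  rw [this, eq_div_iff hNs, hNe]
  simp only [map_add, map_mul, map_sub]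
  linear_combination (-σ (A.1 1 0) * (σ (A.1 0 0) * σ (A.1 1 1)  - σ (A.1 0 1) * σ (A.1 1 0)) - (σ (A.1 0 0) * α + σ (A.1 0 1)) * σ (A.1 1 0) ^ 2) * hq

theorem pt_inj' {a b : K} (h : pt a = pt b) : a = b := pt_inj h

/-- an irrational quadratic point has a stabilizer of order `q + 1` -/
theorem card_stab_irr [Fintype F] (hα : ∀ a, σ a ≠ α) {s n : F} (hq : α ^ 2 = σ s * α - σ n) :
    Nat.card {g : PGL(Fin 2, F) // Matrix.ProjGenLinGroup.map (n := Fin 2) σ g • pt α = pt α} = Fintype.card F + 1 := by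
  classical
  letI : MulAction (PGL(Fin 2, F)) (ℙ K (Fin 2 → K)) := MulAction.compHom _ (Matrix.ProjGenLinGroup.map (n := Fin 2) σ)
  have hact : ∀ (g : PGL(Fin 2, F)) (x : ℙ K (Fin 2 → K)), g • x = Matrix.ProjGenLinGroup.map (n := Fin 2) σ g • x :=
    fun _ _ => rfl
  have h1 : Nat.card (orbit (PGL(Fin 2, F)) (pt α)) = (Fintype.card F - 1) * Fintype.card F := by
    have e : Nat.card (orbit (PGL(Fin 2, F)) (pt α)) = Nat.card (Fˣ × F) := by
      symm
      refine Nat.card_congr (Equiv.ofBijective (fun ab => ⟨pt (σ ab.1 * α + σ ab.2), ?_⟩) ⟨?_, ?_⟩)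
      · refine ⟨Matrix.ProjGenLinGroup.mk (aff ab.1 ab.2 ab.1.ne_zero), ?_⟩
        change Matrix.ProjGenLinGroup.map (n := Fin 2) σ _ • pt α = _
        rw [aff_smul]
      · rintro ⟨a, b⟩ ⟨c, d⟩ h
        have h2 := pt_inj (congrArg Subtype.val h)
        obtain ⟨h3, h4⟩ := lin_inj hα h2
        exact Prod.ext (Units.ext h3) h4
      · rintro ⟨_, g, rfl⟩
        obtain ⟨A, rfl⟩ := Matrix.ProjGenLinGroup.mk_surjective g
        obtain ⟨a, b, ha, h⟩ := exists_aff hα hq A
        exact ⟨(Units.mk0 a ha, b), Subtype.ext h.symm⟩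
    rw [e, Nat.card_prod, Nat.card_units, Nat.card_eq_fintype_card]
  have hfin : Finite (PGL(Fin 2, F)) := Finite.of_surjective _ Matrix.ProjGenLinGroup.mk_surjective
  have h2 := card_orbit_mul_card_stab (G := PGL(Fin 2, F)) (pt α)
  rw [h1, card_G2 rfl] at h2
  have h3 : Nat.card (stabilizer (PGL(Fin 2, F)) (pt α)) =
      Nat.card {g : PGL(Fin 2, F) // Matrix.ProjGenLinGroup.map (n := Fin 2) σ g • pt α = pt α} := rfl
  rw [← h3]
  have hq1 : 1 < Fintype.card F := Fintype.one_lt_card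
  set q := Fintype.card F with hqd
  obtain ⟨m, hm⟩ : ∃ m, q = m + 2 := ⟨q - 2, by omega⟩
  have h4 : (q - 1) * q * Nat.card (stabilizer (PGL(Fin 2, F)) (pt α)) = (q - 1) * q * (q + 1) := by
    rw [h2, hm]
    have : (m + 2) ^ 2 - 1 = (m + 1) * (m + 3) := by
      have : (m + 2) ^ 2 = (m + 1) * (m + 3) + 1 := by ring
      omega
    rw [this]
    have : m + 2 - 1 = m + 1 := by omega
    rw [this]; ring
  have h5 : 0 < (q - 1) * q := Nat.mul_pos (by omega) (by omega)
  exact Nat.eq_of_mul_eq_mul_left h5 h4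

end Irr

section Main

variable {F : Type*} [Field F] [Fintype F]

/-- the inclusion of `PGL_2(q)` in `PGL_2` of the algebraic closure -/
noncomputable abbrev jj (F : Type*) [Field F] : PGL(Fin 2, F) →* PGL(Fin 2, AlgebraicClosure F) :=
  Matrix.ProjGenLinGroup.map (n := Fin 2) (algebraMap F (AlgebraicClosure F))

theorem jj_inj : Function.Injective (jj F) := map_PGL_injective _

/-- an eigenvalue computation : the two fixed points of an element with a rational one -/
theorem rat_of_rat (p : ℕ) [Fact p.Prime] [CharP F p] (c : PGL(Fin 2, F)) (hc1 : c ≠ 1) (hcp : ¬ p ∣ orderOf c)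
    (x : ℙ F (Fin 2 → F)) (hx : c • x = x) : ∃ y : ℙ F (Fin 2 → F), y ≠ x ∧ c • y = y := by
  obtain ⟨A, rfl⟩ := Matrix.ProjGenLinGroup.mk_surjective c
  have hx' := (fixed_iff_rep A x).mp hx
  obtain ⟨l, hl⟩ := hx'
  have hl0 := eig_ne_zero A x.rep x.rep_nonzero l hl
  set m : F := A.1.det / l with hm
  have hd : A.1.det = l * m := by rw [hm, mul_div_cancel₀ _ hl0]
  have hlm : l ≠ m := by
    intro e
    rw [← e] at hd
    rcases uni_of_sq A x.rep x.rep_nonzero l hl (by rw [hd, sq]) with h | h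
    · exact hc1 h
    · apply hcp
      have := uni_pow_mk p A x.rep x.rep_nonzero l hl (by rw [hd, sq])
      rw [orderOf_eq_prime this hc1]
  have hdet0 : (A.1 - l • (1 : Matrix (Fin 2) (Fin 2) F)).det = 0 := by
    rw [← Matrix.exists_mulVec_eq_zero_iff]
    exact ⟨x.rep, x.rep_nonzero, by rw [Matrix.sub_mulVec, hl, Matrix.smul_mulVec, Matrix.one_mulVec, sub_self]⟩
  have hdet1 : (A.1 - m • (1 : Matrix (Fin 2) (Fin 2) F)).det = 0 := by
    rw [Matrix.det_fin_two] at hdet0 hd ⊢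
    simp only [Matrix.sub_apply, Matrix.smul_apply, Matrix.one_apply_eq, smul_eq_mul, mul_one, ne_eq, zero_ne_one,
      not_false_eq_true, Matrix.one_apply_ne, mul_zero, sub_zero, one_ne_zero] at hdet0 ⊢
    have h1 : l * (A.1 0 0 + A.1 1 1 - l - m) = 0 := by linear_combination -hdet0 + hd
    have h2 := (mul_eq_zero.mp h1).resolve_left hl0
    linear_combination hd - m * h2
  obtain ⟨w, hw0, hw⟩ := Matrix.exists_mulVec_eq_zero_iff.mpr hdet1
  rw [Matrix.sub_mulVec, Matrix.smul_mulVec, Matrix.one_mulVec, sub_eq_zero] at hw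
  refine ⟨Projectivization.mk F w hw0, ?_, (fixed_iff A w hw0).mpr ⟨m, hw⟩⟩
  intro e
  apply hlm
  have h3 : Projectivization.mk F w hw0 = Projectivization.mk F x.rep x.rep_nonzero := by rw [e, x.mk_rep]
  rw [Projectivization.mk_eq_mk_iff'] at h3
  obtain ⟨a, ha⟩ := h3
  have ha0 : a ≠ 0 := by rintro rfl; rw [zero_smul] at ha; exact hw0 ha.symm
  rw [← ha, Matrix.mulVec_smul, hl] at hw
  have h5 : (a * (l - m)) • x.rep = 0 := by
    rw [mul_sub, sub_smul, sub_eq_zero, mul_smul, hw, mul_comm, mul_smul]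
  rcases smul_eq_zero.mp h5 with h6 | h6
  · exact sub_eq_zero.mp ((mul_eq_zero.mp h6).resolve_left ha0)
  · exact absurd h6 x.rep_nonzero

instance finPGL : Finite (PGL(Fin 2, F)) := Finite.of_surjective _ Matrix.ProjGenLinGroup.mk_surjective

/-- a common eigenvector over a bigger field, irrational point: quadratic equation -/
theorem irr_quad {K : Type*} [Field K] (σ : F →+* K) (c : PGL(Fin 2, F)) (hc1 : c ≠ 1) {α β : K} (hα : ∀ a, σ a ≠ α)
    (hx : Matrix.ProjGenLinGroup.map (n := Fin 2) σ c • pt α = pt α)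
    (hy : Matrix.ProjGenLinGroup.map (n := Fin 2) σ c • pt β = pt β) (hab : α ≠ β) :
    ∃ s n : F, α ^ 2 = σ s * α - σ n ∧ α + β = σ s := by
  obtain ⟨A, rfl⟩ := Matrix.ProjGenLinGroup.mk_surjective c
  rw [Matrix.ProjGenLinGroup.map_mk] at hx hy
  have key : ∀ z : K, (Matrix.ProjGenLinGroup.mk (Matrix.GeneralLinearGroup.map σ A) : PGL(Fin 2, K)) • pt z = pt z →
      σ (A.1 0 0) * z + σ (A.1 0 1) = z * (σ (A.1 1 0) * z + σ (A.1 1 1)) := by
    intro z hz
    unfold pt at hz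
    rw [fixed_iff] at hz
    obtain ⟨l, hl⟩ := hz
    have h0 := congrFun hl 0
    have h1 := congrFun hl 1
    simp [Matrix.mulVec, dotProduct, Fin.sum_univ_two] at h0 h1
    rw [h0, h1]; ring
  have k1 := key α hx
  have k2 := key β hy
  have hA10 : A.1 1 0 ≠ 0 := by
    intro h0
    rw [h0, map_zero, zero_mul, zero_add] at k1
    apply hc1
    have h1 : σ (A.1 0 0 - A.1 1 1) * α + σ (A.1 0 1) = 0 := by rw [map_sub]; linear_combination k1
    by_cases h2 : A.1 0 0 - A.1 1 1 = 0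
    · rw [h2, map_zero, zero_mul, zero_add, map_eq_zero] at h1
      exact mk_eq_one_of_scalar A (A.1 0 0) ⟨rfl, h1, h0, (sub_eq_zero.mp h2).symm⟩
    · exact absurd h1 (lin_ne_zero hα (Or.inl h2))
  have hs0 : σ (A.1 1 0) ≠ 0 := by rwa [map_ne_zero]
  refine ⟨(A.1 0 0 - A.1 1 1) / A.1 1 0, - A.1 0 1 / A.1 1 0, ?_, ?_⟩
  · rw [map_div₀, map_div₀, map_neg, map_sub]
    field_simp
    linear_combination -k1
  · rw [map_div₀, map_sub, eq_div_iff hs0]
    have h3 : α - β ≠ 0 := sub_ne_zero.mpr hab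
    apply mul_left_cancel₀ h3
    linear_combination k2 - k1

/-- **Tori of `PGL_2(q)`**: an element `c ≠ 1` of order prime to `p` lies in a cyclic subgroup `T` of order `q - 1`
or `q + 1`, contained in a subgroup `N` of order `2|T|` whose elements outside `T` are involutions, and every element
normalizing `⟨c⟩` is in `N`. -/
theorem torus (p : ℕ) [Fact p.Prime] [CharP F p] (c : PGL(Fin 2, F)) (hc1 : c ≠ 1) (hcp : ¬ p ∣ orderOf c) :
    ∃ T N : Subgroup (PGL(Fin 2, F)), T ≤ N ∧ IsCyclic T ∧ c ∈ T ∧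
      (Nat.card T = Fintype.card F - 1 ∨ Nat.card T = Fintype.card F + 1) ∧ Nat.card N = 2 * Nat.card T ∧
      (∀ t ∈ N, t ∉ T → t * t = 1) ∧ (∀ g : PGL(Fin 2, F), g * c * g⁻¹ ∈ Subgroup.zpowers c → g ∈ N) := by
  haveI := charP_ac (F := F) p
  have hm := mobLike_PGL (K := AlgebraicClosure F) p
  have hjc1 : jj F c ≠ 1 := fun h => hc1 (jj_inj (by rw [h, map_one]))
  have hju : ¬ Uni (ℙ (AlgebraicClosure F) (Fin 2 → AlgebraicClosure F)) (jj F c) := by
    intro h
    apply hcp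
    have := hm.uni_orderOf h
    rw [orderOf_injective _ jj_inj] at this
    rw [this]
  obtain ⟨x, y, hxy, hcx, hcy, hall⟩ := hm.exists_two (jj F c) hjc1 hju
  have main : (Nat.card (Tor (jj F) x y) = Fintype.card F - 1 ∨ Nat.card (Tor (jj F) x y) = Fintype.card F + 1) ∧
      ∃ s : PGL(Fin 2, F), jj F s • x = y ∧ jj F s • y = x := by
    have rat : ∀ x0 : ℙ F (Fin 2 → F), (iota (algebraMap F (AlgebraicClosure F)) x0 = x ∨
        iota (algebraMap F (AlgebraicClosure F)) x0 = y) → ∃ y0 : ℙ F (Fin 2 → F), y0 ≠ x0 ∧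
        (iota (algebraMap F (AlgebraicClosure F)) y0 = x ∨ iota (algebraMap F (AlgebraicClosure F)) y0 = y) := by
      intro x0 hx0
      have h1 : c • x0 = x0 := by
        apply iota_injective (algebraMap F (AlgebraicClosure F))
        rw [← iota_smul]
        rcases hx0 with h | h <;> rw [h]
        · exact hcx
        · exact hcy
      obtain ⟨y0, hy0, hy1⟩ := rat_of_rat p c hc1 hcp x0 h1
      refine ⟨y0, hy0, hall _ ?_⟩
      rw [jj, iota_smul, hy1]
    by_cases hx : ∃ x0 : ℙ F (Fin 2 → F), iota (algebraMap F (AlgebraicClosure F)) x0 = x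
    · obtain ⟨x0, rfl⟩ := hx
      obtain ⟨y0, hne, h | h⟩ := rat x0 (Or.inl rfl)
      · exact absurd (iota_injective _ h) hne
      subst h
      refine ⟨Or.inl ?_, ?_⟩
      · rw [← card_tor_rat x0 y0 hne.symm]
        refine Nat.card_congr (Equiv.subtypeEquivRight (fun g => ?_))
        rw [mem_Tor, jj, iota_smul, iota_smul]
        constructor
        · rintro ⟨h1, h2⟩
          exact ⟨iota_injective _ h1, iota_injective _ h2⟩
        · rintro ⟨h1, h2⟩
          exact ⟨by rw [h1], by rw [h2]⟩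
      · obtain ⟨z, h1, h2⟩ := exists_third x0 y0
        obtain ⟨g, g0, g1, _⟩ := exists_three hne.symm h1 h2 hne h2 h1
        exact ⟨g, by rw [jj, iota_smul, g0], by rw [jj, iota_smul, g1]⟩
    · have hy : ¬ ∃ y0 : ℙ F (Fin 2 → F), iota (algebraMap F (AlgebraicClosure F)) y0 = y := by
        rintro ⟨y0, hy0⟩
        obtain ⟨x0, hne, h | h⟩ := rat y0 (Or.inr hy0)
        · exact hx ⟨x0, h⟩
        · exact hne (iota_injective (algebraMap F (AlgebraicClosure F)) (h.trans hy0.symm))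
      have ptx : ∀ z : ℙ (AlgebraicClosure F) (Fin 2 → AlgebraicClosure F),
          (¬ ∃ z0 : ℙ F (Fin 2 → F), iota (algebraMap F (AlgebraicClosure F)) z0 = z) →
          ∃ α : AlgebraicClosure F, z = pt α ∧ ∀ a, algebraMap F (AlgebraicClosure F) a ≠ α := by
        intro z hz
        rcases e0_or_pt z with h | ⟨α, h⟩
        · exact absurd ⟨e0 F, by rw [h, iota_e0]⟩ hz
        · refine ⟨α, h, fun a ha => hz ⟨pt a, ?_⟩⟩
          rw [iota_pt, ha, h]
      obtain ⟨α, rfl, hα⟩ := ptx x hx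
      obtain ⟨β, rfl, hβ⟩ := ptx y hy
      have hab : α ≠ β := fun h => hxy (by rw [h])
      obtain ⟨s, n, hq, hsum⟩ := irr_quad (algebraMap F (AlgebraicClosure F)) c hc1 hα hcx hcy hab
      refine ⟨Or.inr ?_, ?_⟩
      · rw [← card_stab_irr hα hq]
        refine Nat.card_congr (Equiv.subtypeEquivRight (fun g => ?_))
        rw [mem_Tor]
        refine ⟨fun h => h.1, fun hg => ⟨hg, ?_⟩⟩
        -- commutator with c
        obtain ⟨χ, h1, h2, h3⟩ := hm.chi (pt α)
        let g' : stabilizer (PGL(Fin 2, AlgebraicClosure F)) (pt α : ℙ (AlgebraicClosure F) (Fin 2 → AlgebraicClosure F)) := ⟨jj F g, hg⟩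
        let c' : stabilizer (PGL(Fin 2, AlgebraicClosure F)) (pt α : ℙ (AlgebraicClosure F) (Fin 2 → AlgebraicClosure F)) := ⟨jj F c, hcx⟩
        have h4 : χ (g' * c' * g'⁻¹ * c'⁻¹) = 1 := by
          rw [map_mul, map_mul, map_mul, map_inv, map_inv, mul_right_comm (χ g'), mul_inv_cancel, one_mul, mul_inv_cancel]
        have h5 : jj F (g * c * g⁻¹ * c⁻¹) = 1 := by
          rcases (h1 _).mp h4 with e | ⟨hne, w, hw, hu⟩
          · have := congrArg Subtype.val e
            simpa [g', c'] using this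
          · exfalso
            have h6 := congrArg Subtype.val (h2 _ h4)
            have h7 : jj F ((g * c * g⁻¹ * c⁻¹) ^ p) = 1 := by
              rw [map_pow]
              simpa [g', c'] using h6
            have h8 : (g * c * g⁻¹ * c⁻¹) ^ p = 1 := jj_inj (by rw [h7, map_one])
            obtain ⟨x', hx'⟩ := exists_fix_of_pow p _ h8
            apply hx
            refine ⟨x', ?_⟩
            have h9 : jj F (g * c * g⁻¹ * c⁻¹) • iota (algebraMap F (AlgebraicClosure F)) x' =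
                iota (algebraMap F (AlgebraicClosure F)) x' := by rw [jj, iota_smul, hx']
            have h10 : ((g' * c' * g'⁻¹ * c'⁻¹ : stabilizer (PGL(Fin 2, AlgebraicClosure F))
                (pt α : ℙ (AlgebraicClosure F) (Fin 2 → AlgebraicClosure F))) : PGL(Fin 2, AlgebraicClosure F)) =
                jj F (g * c * g⁻¹ * c⁻¹) := by
              simp [g', c']
            rw [h10] at hu
            rw [hu _ h9, ← hu (pt α) (by rw [← h10]; exact (g' * c' * g'⁻¹ * c'⁻¹).2)]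
        have h6 : g * c = c * g := by
          have : g * c * g⁻¹ * c⁻¹ = 1 := jj_inj (by rw [h5, map_one])
          rw [mul_inv_eq_one, mul_inv_eq_iff_eq_mul] at this
          exact this
        have h7 : jj F c • (jj F g • pt β) = jj F g • pt β := by
          rw [← mul_smul, ← map_mul, ← h6, map_mul, mul_smul, hcy]
        rcases hall _ h7 with h8 | h8
        · exfalso
          rw [← hg] at h8
          exact hxy (smul_left_cancel _ h8).symm
        · exact h8
      · have hm1 : (-1 : F) ≠ 0 := neg_ne_zero.mpr one_ne_zero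
        refine ⟨Matrix.ProjGenLinGroup.mk (aff (-1) s hm1), ?_, ?_⟩
        · rw [jj, aff_smul]
          congr 1
          rw [map_neg, map_one, ← hsum]; ring
        · rw [jj, aff_smul]
          congr 1
          rw [map_neg, map_one, ← hsum]; ring
  obtain ⟨main1, s, hs1, hs2⟩ := main
  refine ⟨Tor (jj F) x y, Nor (jj F) x y, Tor_le_Nor _ x y, Tor_cyclic (jj F) p jj_inj hxy, ⟨hcx, hcy⟩, main1,
    Nor_card (jj F) hxy hs1 hs2, fun t ht ht' => Nor_sq (jj F) p jj_inj hxy ht ht', ?_⟩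
  intro g hg
  obtain ⟨k, hk⟩ := hg
  have hd1 : jj F (g * c * g⁻¹) ≠ 1 := by
    intro h
    have : g * c * g⁻¹ = 1 := jj_inj (by rw [h, map_one])
    rw [mul_inv_eq_one, mul_eq_left] at this
    exact hc1 this
  have hfx : jj F (g * c * g⁻¹) • x = x := by
    have h1 : c ∈ Tor (jj F) x y := ⟨hcx, hcy⟩
    have h2 : g * c * g⁻¹ ∈ Tor (jj F) x y := by
      rw [← hk]; exact Subgroup.zpow_mem _ h1 k
    exact h2.1
  have hfy : jj F (g * c * g⁻¹) • y = y := by
    have h1 : c ∈ Tor (jj F) x y := ⟨hcx, hcy⟩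
    have h2 : g * c * g⁻¹ ∈ Tor (jj F) x y := by
      rw [← hk]; exact Subgroup.zpow_mem _ h1 k
    exact h2.2
  have hfg : ∀ z : ℙ (AlgebraicClosure F) (Fin 2 → AlgebraicClosure F), jj F c • z = z → jj F (g * c * g⁻¹) • (jj F g • z) = jj F g • z := by
    intro z hz
    rw [map_mul, map_mul, map_inv, mul_smul, mul_smul, inv_smul_smul, hz]
  have hmem : ∀ z : ℙ (AlgebraicClosure F) (Fin 2 → AlgebraicClosure F), jj F c • z = z → jj F g • z = x ∨ jj F g • z = y := by
    intro z hz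
    rcases hm.two _ hd1 x y (jj F g • z) hfx hfy (hfg z hz) with e | e | e
    · exact absurd e hxy
    · right; exact e.symm
    · left; exact e.symm
  have hne : jj F g • x ≠ jj F g • y := fun h => hxy (smul_left_cancel _ h)
  rcases hmem x hcx with h1 | h1 <;> rcases hmem y hcy with h2 | h2
  · exact absurd (h1.trans h2.symm) hne
  · left; exact ⟨h1, h2⟩
  · right; exact ⟨h1, h2⟩
  · exact absurd (h1.trans h2.symm) hne

end Main

end Cfsg.Agent.Lib.DkTorus
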