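import Mathlib
import Cfsg.Agent.Lib.DkTorus

/-!
# `PSL_2(q)` inside `PGL_2(q)`, subfield subgroups, tori of `PSL_2(q)` (helper98)
-/

set_option autoImplicit false
set_option linter.unusedSectionVars false

namespace Cfsg.Agent.Lib.DkSub

open Cfsg.Agent.Lib Cfsg.Agent.Lib.MobCount MulAction Matrix Cfsg.Agent.Lib.ClProjLine Cfsg.Agent.Lib.DkTorus
open scoped LinearAlgebra.Projectivization MatrixGroups

section

variable {F : Type*} [Field F]

/-- the embedding of `PSL_2` in `PGL_2` -/
noncomputable abbrev tP (F : Type*) [Field F] : P2 F →* PGL(Fin 2, F) := Matrix.ProjectiveSpecialLinearGroup.toPGL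

theorem tP_inj : Function.Injective (tP F) := Matrix.ProjectiveSpecialLinearGroup.toPGL_injective

/-- the image of `PSL_2` in `PGL_2` -/
noncomputable def LL (F : Type*) [Field F] : Subgroup (PGL(Fin 2, F)) := (tP F).range

theorem LL_eq : ((Matrix.ProjGenLinGroup.mk (n := Fin 2) (R := F)).comp Matrix.SpecialLinearGroup.toGL).range = LL F := by
  ext g
  constructor
  · rintro ⟨S, rfl⟩
    exact ⟨(S : P2 F), by rw [tP, ProjectiveSpecialLinearGroup.toPGL_mk]; rfl⟩
  · rintro ⟨s, rfl⟩
    obtain ⟨S, rfl⟩ := QuotientGroup.mk_surjective s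
    exact ⟨S, by rw [tP, ProjectiveSpecialLinearGroup.toPGL_mk]; rfl⟩

theorem card_LL : Nat.card (LL F) = Nat.card (P2 F) := Nat.card_congr (MonoidHom.ofInjective tP_inj).symm.toEquiv

theorem comap_equiv (R : Subgroup (PGL(Fin 2, F))) : Nonempty (R.comap (tP F) ≃* (R ⊓ LL F : Subgroup (PGL(Fin 2, F)))) := by
  refine ⟨(Subgroup.equivMapOfInjective _ _ tP_inj).trans (MulEquiv.subgroupCongr ?_)⟩
  rw [Subgroup.map_comap_eq, inf_comm]
  rfl

theorem card_comap (R : Subgroup (PGL(Fin 2, F))) : Nat.card (R.comap (tP F)) = Nat.card (R ⊓ LL F : Subgroup (PGL(Fin 2, F))) := by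
  obtain ⟨e⟩ := comap_equiv R
  exact Nat.card_congr e.toEquiv

theorem pslMap_mem_LL {k : Type*} [Field k] (σ : k →+* F) : (pslMap σ).range ≤ LL F := by
  rintro _ ⟨x, rfl⟩
  obtain ⟨S, rfl⟩ := QuotientGroup.mk_surjective x
  refine ⟨((SpecialLinearGroup.map σ S : SL(2, F)) : P2 F), ?_⟩
  rw [pslMap, MonoidHom.comp_apply]
  change _ = Matrix.ProjGenLinGroup.map σ (ProjectiveSpecialLinearGroup.toPGL (S : P2 k))
  rw [tP, ProjectiveSpecialLinearGroup.toPGL_mk, ProjectiveSpecialLinearGroup.toPGL_mk, Matrix.ProjGenLinGroup.map_mk]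
  congr 1
  apply Units.ext
  ext i j
  simp

theorem psl_le_pgl {k : Type*} [Field k] (σ : k →+* F) :
    (pslMap σ).range ≤ (Matrix.ProjGenLinGroup.map (n := Fin 2) σ).range := by
  rintro _ ⟨x, rfl⟩
  exact ⟨_, rfl⟩

theorem pgl_mono {k k' : Subfield F} (h : k ≤ k') :
    (Matrix.ProjGenLinGroup.map (n := Fin 2) k.subtype).range ≤ (Matrix.ProjGenLinGroup.map (n := Fin 2) k'.subtype).range := by
  have : k.subtype = k'.subtype.comp (Subfield.inclusion h) := rfl
  rw [this, Matrix.ProjGenLinGroup.map_comp]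
  rintro _ ⟨x, rfl⟩
  exact ⟨_, rfl⟩

theorem psl_mono {k k' : Subfield F} (h : k ≤ k') : (pslMap k.subtype).range ≤ (pslMap k'.subtype).range := by
  rintro _ ⟨x, rfl⟩
  obtain ⟨S, rfl⟩ := QuotientGroup.mk_surjective x
  refine ⟨((SpecialLinearGroup.map (Subfield.inclusion h) S : SL(2, k')) : P2 k'), ?_⟩
  rw [pslMap, pslMap, MonoidHom.comp_apply, MonoidHom.comp_apply, ProjectiveSpecialLinearGroup.toPGL_mk]
  change _ = Matrix.ProjGenLinGroup.map k.subtype (ProjectiveSpecialLinearGroup.toPGL (S : P2 k))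
  rw [ProjectiveSpecialLinearGroup.toPGL_mk, Matrix.ProjGenLinGroup.map_mk, Matrix.ProjGenLinGroup.map_mk]
  congr 1
  apply Units.ext
  ext i j
  simp
  rfl

theorem card_pslRange {k : Type*} [Field k] (σ : k →+* F) : Nat.card (pslMap σ).range = Nat.card (P2 k) :=
  Nat.card_congr (MonoidHom.ofInjective (pslMap_injective _)).symm.toEquiv

theorem card_pglRange {k : Type*} [Field k] (σ : k →+* F) :
    Nat.card (Matrix.ProjGenLinGroup.map (n := Fin 2) σ).range = Nat.card (PGL(Fin 2, k)) :=
  Nat.card_congr (MonoidHom.ofInjective (map_PGL_injective _)).symm.toEquiv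

end

section Fin

variable {F : Type*} [Field F] [Fintype F]

theorem gcd_pos (q : ℕ) : 0 < Nat.gcd 2 (q - 1) := Nat.gcd_pos_of_pos_left _ (by norm_num)

theorem index_LL : (LL F).index = Nat.gcd 2 (Fintype.card F - 1) := by
  have h1 := Subgroup.card_mul_index (LL F)
  rw [card_LL, card_G2 rfl, ← card_P2 rfl, mul_comm] at h1
  have : 0 < Nat.card (P2 F) := Nat.card_pos
  exact Nat.eq_of_mul_eq_mul_right this h1

theorem LL_eq_top (heven : Even (Fintype.card F)) : LL F = ⊤ := by
  rw [← Subgroup.index_eq_one, index_LL]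
  have h1 : Odd (Fintype.card F - 1) := by
    have : 1 < Fintype.card F := Fintype.one_lt_card
    exact Nat.Even.sub_odd (by omega) heven odd_one
  exact (Nat.coprime_two_left.mpr h1)

theorem gcd_odd (hodd : Odd (Fintype.card F)) : Nat.gcd 2 (Fintype.card F - 1) = 2 :=
  Nat.gcd_eq_left (Nat.Odd.sub_odd hodd odd_one).two_dvd

theorem index_LL_odd (hodd : Odd (Fintype.card F)) : (LL F).index = 2 := by
  rw [index_LL, gcd_odd hodd]

instance LL_normal : (LL F).Normal := by
  rcases Nat.even_or_odd (Fintype.card F) with h | h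
  · rw [LL_eq_top h]; infer_instance
  · exact Subgroup.normal_of_index_eq_two (index_LL_odd h)

/-- `|T ∩ L| = |T| / d` for the tori -/
theorem card_T_inf (p : ℕ) [Fact p.Prime] [CharP F p] (h4 : 4 ≤ Fintype.card F) (T : Subgroup (PGL(Fin 2, F))) (hT : IsCyclic T)
    (hcard : Nat.card T = Fintype.card F - 1 ∨ Nat.card T = Fintype.card F + 1) :
    Nat.gcd 2 (Fintype.card F - 1) * Nat.card (T ⊓ LL F : Subgroup (PGL(Fin 2, F))) = Nat.card T := by
  rcases gcd_cases (F := F) rfl p with ⟨_, he, hg⟩ | ⟨_, ho, hg⟩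
  · rw [hg, one_mul, LL_eq_top he, inf_top_eq]
  · rw [hg]
    have h1 : ¬ T ≤ LL F := by
      intro hle
      obtain ⟨t, ht⟩ := IsCyclic.exists_ofOrder_eq_natCard (α := T)
      obtain ⟨s, hs⟩ := hle t.2
      have h2 : orderOf s = Nat.card T := by
        rw [← ht, ← Subgroup.orderOf_coe t, ← hs, orderOf_injective _ tP_inj]
      have hpn : ¬ p ∣ orderOf s := by
        obtain ⟨n, hn0, hn⟩ := FiniteField.card F p
        have hpq : p ∣ Fintype.card F := by rw [hn]; exact dvd_pow_self p n.ne_zero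
        rw [h2]
        intro hp
        have hp1 : p ∣ 1 := by
          rcases hcard with h | h
          · rw [h] at hp
            have := Nat.dvd_sub hpq hp
            have h5 : Fintype.card F - (Fintype.card F - 1) = 1 := by omega
            rwa [h5] at this
          · rw [h] at hp
            exact (Nat.dvd_add_right hpq).mp hp
        exact (Fact.out : p.Prime).one_lt.ne' (Nat.dvd_one.mp hp1)
      have h3 := psl_order_dvd' (F := F) rfl p s hpn
      rw [hg, h2] at h3
      rcases hcard with h | h <;> rw [h] at h3 <;> rcases h3 with h3 | h3 <;> have h5 := Nat.le_of_dvd (by omega) h3 <;> omega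
    have hidx := index_LL_odd (F := F) ho
    have h2 : ((LL F).subgroupOf T).index = 2 := by
      have h3 : ((LL F).subgroupOf T).index ∣ (LL F).index := by
        haveI : (LL F).Normal := Subgroup.normal_of_index_eq_two hidx
        exact Subgroup.relIndex_dvd_index_of_normal _ _
      rw [hidx] at h3
      rcases (Nat.dvd_prime Nat.prime_two).mp h3 with h4 | h4
      · exfalso
        apply h1
        rw [Subgroup.index_eq_one, Subgroup.subgroupOf_eq_top] at h4
        exact h4
      · exact h4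
    have h3 := Subgroup.card_mul_index ((LL F).subgroupOf T)
    rw [h2] at h3
    have h5 : Nat.card ((LL F).subgroupOf T) = Nat.card (T ⊓ LL F : Subgroup (PGL(Fin 2, F))) := by
      rw [← Subgroup.inf_subgroupOf_left]
      exact Nat.card_congr (Subgroup.subgroupOfEquivOfLe inf_le_left).toEquiv
    rw [← h5, mul_comm]
    exact h3

/-- normalizers of tori in `PSL_2(q)` -/
theorem psl_torus (p : ℕ) [Fact p.Prime] [CharP F p] (h4 : 4 ≤ Fintype.card F) (c : P2 F) (hc1 : c ≠ 1) (hcp : ¬ p ∣ orderOf c) :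
    ∃ (k : ℕ) (N : Subgroup (P2 F)), (Nat.gcd 2 (Fintype.card F - 1) * k = Fintype.card F - 1 ∨
      Nat.gcd 2 (Fintype.card F - 1) * k = Fintype.card F + 1) ∧ Nat.card N = 2 * k ∧
      Nonempty (N ≃* DihedralGroup k) ∧ (∀ g : P2 F, g * c * g⁻¹ ∈ Subgroup.zpowers c → g ∈ N) := by
  obtain ⟨T, N, hTN, hT, hcT, hcardT, hcardN, hsq, hnorm⟩ := torus p (tP F c)
    (fun h => hc1 (tP_inj (by rw [h, map_one]))) (by rw [orderOf_injective _ tP_inj]; exact hcp)
  have hTL := card_T_inf p h4 T hT hcardT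
  have hnot : ¬ (N ⊓ LL F) ≤ T := by
    intro hle
    have h1 : N ⊓ LL F ≤ T ⊓ LL F := le_inf hle inf_le_right
    have h2 : Nat.card (N ⊓ LL F : Subgroup (PGL(Fin 2, F))) ≤ Nat.card (T ⊓ LL F : Subgroup (PGL(Fin 2, F))) :=
      Subgroup.card_le_of_le h1
    have h3 : Nat.card N ≤ Nat.gcd 2 (Fintype.card F - 1) * Nat.card (N ⊓ LL F : Subgroup (PGL(Fin 2, F))) := by
      have h5 := Subgroup.card_mul_index ((LL F).subgroupOf N)
      have h6 : Nat.card ((LL F).subgroupOf N) = Nat.card (N ⊓ LL F : Subgroup (PGL(Fin 2, F))) := by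
        rw [← Subgroup.inf_subgroupOf_left]
        exact Nat.card_congr (Subgroup.subgroupOfEquivOfLe inf_le_left).toEquiv
      have h7 : ((LL F).subgroupOf N).index ≤ Nat.gcd 2 (Fintype.card F - 1) := by
        rw [← index_LL]
        have : (LL F).FiniteIndex := inferInstance
        exact Nat.le_of_dvd (Nat.pos_of_ne_zero Subgroup.FiniteIndex.index_ne_zero) (by
          haveI : (LL F).Normal := LL_normal
          exact Subgroup.relIndex_dvd_index_of_normal _ _)
      rw [← h5, h6, mul_comm]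
      exact Nat.mul_le_mul_right _ h7
    have h8 : Nat.card N ≤ Nat.card T := by
      rw [← hTL]
      exact h3.trans (Nat.mul_le_mul_left _ h2)
    have h9 : 0 < Nat.card T := Nat.card_pos
    omega
  obtain ⟨h1, h2⟩ := dih_sub hT hsq hcardN hTN (H := N ⊓ LL F) inf_le_left hnot
  have h3 : N ⊓ LL F ⊓ T = T ⊓ LL F := by
    rw [inf_right_comm, inf_eq_right.mpr hTN]
  rw [h3] at h1 h2
  refine ⟨Nat.card (T ⊓ LL F : Subgroup (PGL(Fin 2, F))), N.comap (tP F), ?_, ?_, ?_, ?_⟩
  · rw [hTL]; exact hcardT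
  · rw [card_comap, h1]
  · obtain ⟨e⟩ := comap_equiv N
    obtain ⟨e'⟩ := h2
    exact ⟨e.trans e'⟩
  · intro g hg
    rw [Subgroup.mem_comap]
    apply hnorm
    obtain ⟨n, hn⟩ := hg
    refine ⟨n, ?_⟩
    have := congrArg (tP F) hn
    simpa using this

/-- intermediate fields of prime codegree -/
theorem exists_step (k : Subfield F) (m r : ℕ) (hr : r.Prime) (hrm : r ∣ m) (hk : Nat.card k ^ m = Fintype.card F) :
    ∃ k' : Subfield F, k ≤ k' ∧ Nat.card k' ^ r = Fintype.card F := by
  classical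
  have hkfin : Finite k := inferInstance
  have : Fintype k := Fintype.ofFinite k
  have hfr : Nat.card k ^ Module.finrank k F = Fintype.card F := by
    rw [Nat.card_eq_fintype_card]
    exact (Module.card_eq_pow_finrank (K := k) (V := F)).symm
  have hm : Module.finrank k F = m := by
    have h1 : 1 < Nat.card k := Finite.one_lt_card
    exact Nat.pow_right_injective h1 (hfr.trans hk.symm)
  have hgal : Nat.card (F ≃ₐ[k] F) = m := by rw [IsGalois.card_aut_eq_finrank, hm]
  haveI : Fact r.Prime := ⟨hr⟩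
  obtain ⟨g, hg⟩ := exists_prime_orderOf_dvd_card' (G := F ≃ₐ[k] F) r (by rw [hgal]; exact hrm)
  let L := IntermediateField.fixedField (Subgroup.zpowers g)
  have hL : Module.finrank L F = r := by
    rw [IntermediateField.finrank_fixedField_eq_card, Nat.card_zpowers, hg]
  refine ⟨L.toSubfield, fun x hx => L.algebraMap_mem ⟨x, hx⟩, ?_⟩
  have : Fintype L := Fintype.ofFinite L
  have h1 := (Module.card_eq_pow_finrank (K := L) (V := F))
  rw [hL] at h1
  rw [h1, ← Nat.card_eq_fintype_card (α := L)]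
  rfl

/-- subfield subgroup of even degree in `L` -/
theorem pgl_le_LL (k : Subfield F) (m : ℕ) (hm : Even m) (hk : Nat.card k ^ m = Fintype.card F) :
    (Matrix.ProjGenLinGroup.map (n := Fin 2) k.subtype).range ≤ LL F := by
  classical
  by_cases hodd : Odd (Fintype.card F)
  swap
  · rw [LL_eq_top (Nat.not_odd_iff_even.mp hodd)]; exact le_top
  have : Fintype k := Fintype.ofFinite k
  rw [Nat.card_eq_fintype_card] at hk
  have hk1 : 1 < Fintype.card k := Fintype.one_lt_card
  have hF1 : 1 < Fintype.card F := Fintype.one_lt_card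
  have hm0 : m ≠ 0 := by rintro rfl; rw [pow_zero] at hk; omega
  have hkodd : Odd (Fintype.card k) := by
    rw [← hk] at hodd
    exact (Nat.odd_pow_iff hm0).mp hodd
  rintro _ ⟨g, rfl⟩
  obtain ⟨A, rfl⟩ := Matrix.ProjGenLinGroup.mk_surjective g
  rw [Matrix.ProjGenLinGroup.map_mk]
  have hdet : (Matrix.GeneralLinearGroup.map k.subtype A : GL (Fin 2) F).1.det = k.subtype A.1.det := by
    rw [Matrix.det_fin_two, Matrix.det_fin_two]; simp
  have hA0 : A.1.det ≠ 0 := A.det_ne_zero
  have hsq : IsSquare (Matrix.GeneralLinearGroup.map k.subtype A : GL (Fin 2) F).1.det := by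
    rw [hdet]
    have hchar : ringChar F ≠ 2 := by
      intro h
      have := FiniteField.even_card_iff_char_two.mp h
      rw [Nat.odd_iff] at hodd
      omega
    rw [FiniteField.isSquare_iff hchar (by rw [map_ne_zero]; exact hA0)]
    have h1 : A.1.det ^ (Fintype.card k - 1) = 1 := FiniteField.pow_card_sub_one_eq_one _ hA0
    have h2 : Fintype.card k - 1 ∣ Fintype.card F / 2 := by
      obtain ⟨n, hn⟩ := hm
      have h3 : Fintype.card F = (Fintype.card k ^ n) ^ 2 := by rw [← hk, hn, ← pow_mul]; ring_nf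
      have h5 : Fintype.card k - 1 ∣ Fintype.card k ^ n - 1 := Nat.sub_one_dvd_pow_sub_one _ _
      have h6 : Odd (Fintype.card k ^ n) := hkodd.pow
      obtain ⟨s, hs⟩ := h6
      rw [hs] at h3 h5
      have h7 : Fintype.card F / 2 = (2 * s + 1 - 1) * (s + 1) := by
        rw [h3]
        have h8 : (2 * s + 1) ^ 2 = 2 * ((2 * s + 1 - 1) * (s + 1)) + 1 := by
          rw [Nat.add_sub_cancel]; ring
        rw [h8]; omega
      rw [h7]
      exact h5.mul_right _
    obtain ⟨c, hc⟩ := h2
    rw [hc, ← map_pow, pow_mul, h1, one_pow, map_one]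
  obtain ⟨d, hd⟩ := hsq
  obtain ⟨S, hS⟩ := exists_SL_of_sq _ d hd
  exact ⟨(S : P2 F), by rw [tP, ProjectiveSpecialLinearGroup.toPGL_mk, hS]⟩

end Fin

end Cfsg.Agent.Lib.DkSub
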