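import Cfsg.Agent.Lib.E6Pair
set_option autoImplicit false
set_option linter.unusedSectionVars false
set_option linter.unusedVariables false
set_option linter.style.haveILetI false

/-!
Elements of `E6(4)` extended by diagonal automorphisms centralizing a subgroup which is absolutely irreducible in the
27-dimensional representation.
-/

namespace Cfsg.Agent.Lib.E6Comm
open Cfsg.Lie Cfsg.Agent.Lib.ChevX Cfsg.Agent.Lib.ChevGood Cfsg.Agent.Lib.ChevRel Cfsg.Agent.Lib.ChevNPerm
  Cfsg.Agent.Lib.E6F4A Cfsg.Agent.Lib.E6Pair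
open scoped MatrixGroups Matrix

universe u
variable {K : Type u} [Field K]

/-- the weights -/
def mT : List ℤ := [0, 0, -1, 1, 1, 0, 1, 1, 0, 0, 0, 0, 0, 0, 0, 1, 1, 1, 1, 0, 0, 1, 0, 0, 1, 0, 0]

def m (v : ℕ) : ℤ := mT.getD v 0

theorem chkM : ∀ r < 72, ∀ v < 27, E6Rep.en r v = 0 ∨ m ((E6Rep.en r v).natAbs - 1) = (GE.rv r 0 - GE.rv r 5) + m v := by
  decide +kernel

theorem bas_ne {z : ℤ} {i : I27} (h : E6Rep.bas K z i ≠ 0) : z ≠ 0 ∧ (E6Rep.ok z = true → z.natAbs - 1 = E6Rep.cod i) := by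
  match z with
  | .ofNat 0 => exact absurd rfl h
  | .ofNat (n + 1) =>
    refine ⟨by intro hh; exact absurd hh (by simp; omega), ?_⟩
    intro hok
    have h1 : (Pi.single (E6Rep.dec n) (1 : K) : I27 → K) i ≠ 0 := h
    have h2 : i = E6Rep.dec n := by
      by_contra hne
      exact h1 (Pi.single_eq_of_ne hne 1)
    have h3 : n < 27 := by
      have : Nat.ble (n + 1) 27 = true := hok
      have := Nat.le_of_ble_eq_true this
      omega
    rw [h2, E6Rep.cod_dec n h3]
    rfl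
  | .negSucc n =>
    refine ⟨by intro hh; exact absurd hh (by simp), ?_⟩
    intro hok
    have h1 : (-(Pi.single (E6Rep.dec n) (1 : K) : I27 → K)) i ≠ 0 := h
    have h2 : i = E6Rep.dec n := by
      by_contra hne
      apply h1
      rw [Pi.neg_apply, Pi.single_eq_of_ne hne 1, neg_zero]
    have h3 : n < 27 := by
      have : Nat.blt n 27 = true := hok
      exact Nat.le_of_ble_eq_true this
    rw [h2, E6Rep.cod_dec n h3]
    rfl

/-- the diagonal matrices of the 27-dimensional representation -/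
noncomputable def D27 (a : Kˣ) : GL I27 K where
  val := Matrix.diagonal fun i => (a : K) ^ m (E6Rep.cod i)
  inv := Matrix.diagonal fun i => (a : K) ^ (- m (E6Rep.cod i))
  val_inv := by
    rw [Matrix.diagonal_mul_diagonal, ← Matrix.diagonal_one]
    congr 1
    funext i
    rw [← zpow_add₀ a.ne_zero, add_neg_cancel, zpow_zero]
  inv_val := by
    rw [Matrix.diagonal_mul_diagonal, ← Matrix.diagonal_one]
    congr 1
    funext i
    rw [← zpow_add₀ a.ne_zero, neg_add_cancel, zpow_zero]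

theorem D27_Em (a : Kˣ) {r : ℕ} (hr : r < 72) : (Matrix.diagonal fun i => (a : K) ^ m (E6Rep.cod i)) * E6Rep.Em K r =
    ((a : K) ^ fe r) • (E6Rep.Em K r * (Matrix.diagonal fun i => (a : K) ^ m (E6Rep.cod i))) := by
  ext i j
  rw [Matrix.diagonal_mul, Matrix.smul_apply, Matrix.mul_diagonal, smul_eq_mul]
  by_cases h : E6Rep.Em K r i j = 0
  · rw [h]; ring
  · have hE : E6Rep.Em K r i j = E6Rep.bas K (E6Rep.en r (E6Rep.cod j)) i := by
      rw [E6Rep.Em, if_pos hr]
      rfl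
    rw [hE] at h
    obtain ⟨h1, h2⟩ := bas_ne h
    have h3 := h2 (E6Rep.ok_en hr (E6Rep.cod_lt j))
    rcases chkM r hr _ (E6Rep.cod_lt j) with h4 | h4
    · exact absurd h4 h1
    · rw [h3] at h4
      rw [h4, zpow_add₀ a.ne_zero]
      have : fe r = GE.rv r 0 - GE.rv r 5 := rfl
      rw [this]
      ring

theorem D27_conj (a : Kˣ) {r : ℕ} (hr : r < 72) (t : K) :
    D27 a * E6Rep.X K r t * (D27 a)⁻¹ = E6Rep.X K r ((a : K) ^ fe r * t) := by
  rw [mul_inv_eq_iff_eq_mul]
  apply Units.ext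
  rw [Units.val_mul, Units.val_mul, E6Rep.coe_X, E6Rep.coe_X]
  show (Matrix.diagonal fun i => (a : K) ^ m (E6Rep.cod i)) * (1 + t • E6Rep.Em K r) =
    (1 + ((a : K) ^ fe r * t) • E6Rep.Em K r) * (Matrix.diagonal fun i => (a : K) ^ m (E6Rep.cod i))
  rw [Matrix.mul_add, Matrix.add_mul, Matrix.mul_one, Matrix.one_mul, Matrix.mul_smul, D27_Em a hr, Matrix.smul_mul,
    smul_smul, mul_comm t]

theorem D27_conj_Xw (a : Kˣ) {w : List (ℕ × K)} (hw : ∀ x ∈ w, x.1 < 72) :
    D27 a * Xw w * (D27 a)⁻¹ = Xw (w.map fun x => (x.1, (a : K) ^ fe x.1 * x.2)) := by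
  induction w with
  | nil => simp [Xw]
  | cons x w ih =>
    have h1 : Xw (x :: w) = E6Rep.X K x.1 x.2 * Xw w := by simp [Xw]
    have h2 : Xw ((x :: w).map fun x => (x.1, (a : K) ^ fe x.1 * x.2)) =
        E6Rep.X K x.1 ((a : K) ^ fe x.1 * x.2) * Xw (w.map fun x => (x.1, (a : K) ^ fe x.1 * x.2)) := by
      simp [Xw]
    rw [h1, h2, ← ih (fun y hy => hw y (List.mem_cons_of_mem _ hy)), ← D27_conj a (hw x List.mem_cons_self)]
    group

/-- an element commuting with all root elements commutes with the whole group -/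
theorem comm_group {y : GL chevE6.Idx K} (h : ∀ r < 72, ∀ t : K, y * xg chevE6 K r t * y⁻¹ = xg chevE6 K r t)
    {g : GL chevE6.Idx K} (hg : g ∈ chevE6.group K) : y * g * y⁻¹ = g := by
  rw [ChevAuto.group_eq GE] at hg
  induction hg using Subgroup.closure_induction with
  | mem x hx =>
    obtain ⟨r, hr, t, rfl⟩ := hx
    exact h r hr t
  | one => simp
  | mul x z _ _ hx hz =>
    rw [show y * (x * z) * y⁻¹ = (y * x * y⁻¹) * (y * z * y⁻¹) by group, hx, hz]
  | inv x _ hx =>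
    rw [show y * x⁻¹ * y⁻¹ = (y * x * y⁻¹)⁻¹ by group, hx]

theorem conj_assoc {Γ : Type*} [Group Γ] (g d x : Γ) : (g * d) * x * (g * d)⁻¹ = g * (d * x * d⁻¹) * g⁻¹ := by group

theorem conj_cancel {Γ : Type*} [Group Γ] {g x y : Γ} (h : g * x * g⁻¹ * y⁻¹ = 1) : g * x * g⁻¹ = y :=
  mul_inv_eq_one.mp h

variable [CharP K 2]

theorem eq_one_of_irr {ι : Type*} (k0 : ι) (W : ι → List (ℕ × K)) (hW : ∀ k, ∀ p ∈ W k, p.1 < 72)
    (hsq : ∀ k, Xw (W k) * Xw (W k) = 1)
    (hcomm : ∀ M : Matrix I27 I27 K, (∀ k, M * (Xw (W k) : Matrix I27 I27 K) = (Xw (W k) : Matrix I27 I27 K) * M) →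
      ∃ c : K, M = c • (1 : Matrix I27 I27 K))
    (h3 : ∀ c : K, c ≠ 0 → c ^ 3 = 1) {g : GL chevE6.Idx K} (hg : g ∈ chevE6.group K) (a : Kˣ)
    (hy : ∀ k, (g * dl a) * wg chevE6 K (W k) * (g * dl a)⁻¹ = wg chevE6 K (W k)) : a = 1 := by
  obtain ⟨w, hw⟩ := exists_lift hg
  -- the commutators are central
  have key : ∀ k, (φ K w * D27 a) * Xw (W k) * (φ K w * D27 a)⁻¹ = Xw (W k) := by
    intro k
    have hWlt : ∀ p ∈ ((W k).map fun x => (x.1, (a : K) ^ fe x.1 * x.2)), p.1 < chevE6.nroots := by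
      intro p hp
      obtain ⟨q, hq, rfl⟩ := List.mem_map.mp hp
      exact hW k q hq
    have h1 : g * wg chevE6 K ((W k).map fun x => (x.1, (a : K) ^ fe x.1 * x.2)) * g⁻¹ = wg chevE6 K (W k) := by
      rw [← dl_conj_wg a (w := W k) (fun x hx => hW k x hx), ← conj_assoc]
      exact hy k
    have h2 : θ K (w * sw ((W k).map fun x => (x.1, (a : K) ^ fe x.1 * x.2)) * w⁻¹ * (sw (W k))⁻¹) = 1 := by
      apply Subtype.ext
      rw [map_mul, map_mul, map_mul, map_inv, map_inv, Subgroup.coe_mul, Subgroup.coe_mul, Subgroup.coe_mul,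
        Subgroup.coe_inv, Subgroup.coe_inv, θ_sw hWlt, θ_sw (w := W k) (fun x hx => hW k x hx), hw, h1, mul_inv_cancel]
      rfl
    have h4 := comm_of_one h2
    have h5 : φ K (w * sw ((W k).map fun x => (x.1, (a : K) ^ fe x.1 * x.2)) * w⁻¹ * (sw (W k))⁻¹) =
        (φ K w * D27 a) * Xw (W k) * (φ K w * D27 a)⁻¹ * (Xw (W k))⁻¹ := by
      rw [map_mul, map_mul, map_mul, map_inv, map_inv, φ_sw, φ_sw, conj_assoc, D27_conj_Xw a (hW k)]
    rw [h5] at h4
    generalize hz : (φ K w * D27 a) * Xw (W k) * (φ K w * D27 a)⁻¹ * (Xw (W k))⁻¹ = z at h4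
    obtain ⟨c, hc⟩ := hcomm (z : Matrix I27 I27 K) (by
      intro k'
      have := congrArg (fun x : GL I27 K => (x : Matrix I27 I27 K)) (h4 (sw (W k')))
      simp only [Units.val_mul, φ_sw] at this
      exact this)
    have hzc : ∀ x : GL I27 K, z * x = x * z := by
      intro x
      apply Units.ext
      rw [Units.val_mul, Units.val_mul, hc, Matrix.smul_mul, Matrix.mul_smul, Matrix.one_mul, Matrix.mul_one]
    have hMz : (φ K w * D27 a) * Xw (W k) * (φ K w * D27 a)⁻¹ = z * Xw (W k) := by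
      rw [← hz, inv_mul_cancel_right]
    have hzz : z * z = 1 := by
      have h6 : ((φ K w * D27 a) * Xw (W k) * (φ K w * D27 a)⁻¹) * ((φ K w * D27 a) * Xw (W k) * (φ K w * D27 a)⁻¹) = 1 := by
        have : ((φ K w * D27 a) * Xw (W k) * (φ K w * D27 a)⁻¹) * ((φ K w * D27 a) * Xw (W k) * (φ K w * D27 a)⁻¹) =
          (φ K w * D27 a) * (Xw (W k) * Xw (W k)) * (φ K w * D27 a)⁻¹ := by group
        rw [this, hsq k, mul_one, mul_inv_cancel]
      rw [hMz, mul_assoc, ← mul_assoc (Xw (W k)), ← hzc, mul_assoc z (Xw (W k)), hsq k, mul_one] at h6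
      exact h6
    have hc1 : c = 1 := by
      have h7 := congrArg (fun x : GL I27 K => (x : Matrix I27 I27 K) (0, 0, 0) (0, 0, 0)) hzz
      simp only [Units.val_mul, hc, Units.val_one] at h7
      rw [Matrix.smul_mul, Matrix.one_mul, smul_smul] at h7
      simp only [Matrix.smul_apply, Matrix.one_apply_eq, smul_eq_mul, mul_one] at h7
      have h8 : (c - 1) * (c - 1) = 0 := by
        have h2 : (2 : K) = 0 := CharTwo.two_eq_zero
        linear_combination h7 - (c - 1) * h2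
      rcases mul_eq_zero.mp h8 with h | h <;> exact sub_eq_zero.mp h
    have hz1 : z = 1 := by
      apply Units.ext
      rw [hc, hc1, one_smul, Units.val_one]
    rw [hMz, hz1, one_mul]
  obtain ⟨c, hc⟩ := hcomm ((φ K w * D27 a : GL I27 K) : Matrix I27 I27 K) (by
    intro k
    have h1 := key k
    rw [mul_inv_eq_iff_eq_mul] at h1
    have := congrArg (fun x : GL I27 K => (x : Matrix I27 I27 K)) h1
    simp only [Units.val_mul] at this ⊢
    exact this)
  have hcen : ∀ x : GL I27 K, (φ K w * D27 a) * x * (φ K w * D27 a)⁻¹ = x := by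
    intro x
    rw [mul_inv_eq_iff_eq_mul]
    apply Units.ext
    rw [Units.val_mul (φ K w * D27 a) x, Units.val_mul x (φ K w * D27 a), hc, Matrix.smul_mul, Matrix.mul_smul,
      Matrix.one_mul, Matrix.mul_one]
  have hroot : ∀ r < 72, ∀ t : K, (g * dl a) * xg chevE6 K r t * (g * dl a)⁻¹ = xg chevE6 K r t := by
    intro r hr t
    have h1 : φ K (w * chevE6.stGen K r ((a : K) ^ fe r * t) * w⁻¹ * (chevE6.stGen K r t)⁻¹) = 1 := by
      rw [map_mul, map_mul, map_mul, map_inv, map_inv, φ_gen, φ_gen, ← D27_conj a hr, ← conj_assoc, hcen, mul_inv_cancel]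
    have h2 := ker_le h1
    have h4 := congrArg (Subtype.val : ↥(chevE6.group K) → GL chevE6.Idx K) h2
    rw [map_mul, map_mul, map_mul, map_inv, map_inv, Subgroup.coe_mul, Subgroup.coe_mul, Subgroup.coe_mul,
      Subgroup.coe_inv, Subgroup.coe_inv, θ_gen hr, θ_gen hr, hw, Subgroup.coe_one, mul_inv_eq_one] at h4
    rw [conj_assoc, dl_conj a hr]
    exact h4
  have hall : ∀ x ∈ chevE6.group K, (g * dl a) * x * (g * dl a)⁻¹ = x := fun x hx => comm_group hroot hx
  refine E6F4A.eq_one_of_comm h3 hg a ?_ ?_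
  · intro i hi
    apply hall
    unfold wg
    apply Subgroup.list_prod_mem
    intro x hx
    obtain ⟨p, hp, rfl⟩ := List.mem_map.mp hx
    exact ChevAuto.xg_mem GE _ _
  · have hN : nl chevE6 K L0 ∈ chevE6.group K := ChevBN.N_le_group GE (nl_mem GE L0)
    have h1 := hall _ hN
    rw [mul_inv_eq_iff_eq_mul] at h1 ⊢
    exact h1.symm

end Cfsg.Agent.Lib.E6Comm
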