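import Cfsg.Agent.Lib.TwF4E6End
import Cfsg.Agent.Lib.ChevSub
set_option autoImplicit false
set_option linter.unusedSectionVars false
set_option linter.unusedVariables false
set_option linter.style.haveILetI false

/-!
Elements of `E6(K)` extended by diagonal automorphisms centralizing the standard `F4(2)`.
-/

namespace Cfsg.Agent.Lib.E6F4A
open Cfsg.Lie Cfsg.Agent.Lib.ChevX Cfsg.Agent.Lib.ChevGood Cfsg.Agent.Lib.ChevRel Cfsg.Agent.Lib.ChevNPerm
  Cfsg.Agent.Lib.ChevClosed Cfsg.Agent.Lib.ChevBruhat Cfsg.Agent.Lib.ChevSub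
open scoped MatrixGroups Matrix

universe u

section gen
variable {D : ChevalleyDatum} {F : Type*} [Field F] (G : Good D) (hD : Listed D)
include G hD

/-- an element conjugating for every fundamental root an element of `U` outside the complement of that root into `U` lies
in the Borel subgroup -/
theorem mem_borel_of_conj' {g : GL D.Idx F} (hg' : g ∈ D.group F)
    (h : ∀ i : Fin D.rank, ∃ z ∈ D.posUnipotent F, z ∉ XS D F (Bi G i) ∧ g * z * g⁻¹ ∈ D.posUnipotent F) :
    g ∈ D.borelSubgroup F := by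
  obtain ⟨u, hu, n, hn, w, hw, u', hu', rfl⟩ := exists_bruhat G hD hg'
  have hu'' : u' ∈ D.posUnipotent F := by
    rw [← XS_posS G]
    exact XS_mono (fun r hr => hr.1) hu'
  have hpos : ∀ i, Pos D (w (simpF G i)) := by
    intro i
    by_contra hneg
    obtain ⟨z, hz, hzB, hx⟩ := h i
    have hy : u' * z * u'⁻¹ ∈ XS D F (posS D) := by
      rw [XS_posS G]
      exact mul_mem (mul_mem hu'' hz) (inv_mem hu'')
    have hny : n * (u' * z * u'⁻¹) * n⁻¹ ∈ D.posUnipotent F := by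
      have := mul_mem (mul_mem (inv_mem hu) hx) hu
      have h1 : u⁻¹ * (u * n * u' * z * (u * n * u')⁻¹) * u =
        n * (u' * z * u'⁻¹) * n⁻¹ := by group
      rwa [h1] at this
    obtain ⟨y1, hy1, y2, hy2, hye⟩ := exists_factor' G (closed_posS G) {r | Pos D (w r)} hy
    have h2 : n * y2 * n⁻¹ = 1 := by
      apply inf_BV G hD
      · apply borel_U G
        have h3 : n * y2 * n⁻¹ = (n * y1 * n⁻¹)⁻¹ * (n * (u' * z * u'⁻¹) * n⁻¹) := by
          rw [hye]; group
        rw [h3]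
        exact mul_mem (inv_mem (conj_pos_mem G hw (XS_mono Set.inter_subset_right hy1))) hny
      · exact conj_neg_mem G hw (XS_mono (fun r hr => hr.2) hy2)
    have h3 : y2 = 1 := by
      have := congrArg (fun z => n⁻¹ * z * n) h2
      simpa [mul_assoc] using this
    rw [h3, mul_one] at hye
    have h4 : y1 ∈ XS D F (Bi G i) := by
      refine XS_mono ?_ hy1
      rintro r ⟨h5, h6⟩
      refine ⟨h5, ?_⟩
      rintro rfl
      exact hneg h6
    have h5 := conj_Bi G i (inv_mem hu'') h4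
    rw [← hye, inv_inv] at h5
    have h6 : u'⁻¹ * (u' * z * u'⁻¹) * u' = z := by group
    rw [h6] at h5
    exact hzB h5
  have hnH := mem_diag_of_pos G hn hw hpos
  exact mul_mem (mul_mem (borel_U G hu) (borel_H G hnH)) (borel_U G hu'')

end gen

/-! ### the diagonal automorphism -/

section dl
variable {K : Type u} [Field K]

noncomputable abbrev GE : Good chevE6 := ChevOkE6.good

theorem listed : Listed chevE6 := by simp [Listed]

/-- the exponent `b₁ - b₆` -/
noncomputable def fe (s : ℕ) : ℤ := GE.rv s 0 - GE.rv s 5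

theorem fe_neg {s : ℕ} (hs : s < chevE6.nroots) : fe (chevE6.neg s) = - fe s := by
  unfold fe
  rw [GE.rv_neg s hs, GE.rv_neg s hs]
  ring

theorem fe_simple {i : ℕ} (hi : i < 6) : fe (chevE6.simple i) = if i = 0 then 1 else if i = 5 then -1 else 0 := by
  unfold fe
  rw [GE.rv_simple i hi, GE.rv_simple i hi]
  interval_cases i <;> simp

theorem dl_unit (a : Kˣ) : IsUnit (dg chevE6 (fun s => (a : K) ^ fe s)) :=
  dg_isUnit fun s _ => zpow_ne_zero _ a.ne_zero

/-- the diagonal element -/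
noncomputable def dl (a : Kˣ) : GL chevE6.Idx K := (dl_unit a).unit

theorem coe_dl (a : Kˣ) : (dl a : Matrix chevE6.Idx chevE6.Idx K) = dg chevE6 (fun s => (a : K) ^ fe s) := rfl

theorem dl_mul (a b : Kˣ) : dl (a * b) = dl a * dl b := by
  apply Units.ext
  rw [Units.val_mul, coe_dl, coe_dl, coe_dl, dg_mul]
  congr 1
  funext s
  rw [Units.val_mul, mul_zpow]

theorem dl_one : dl (1 : Kˣ) = 1 := by
  have h := dl_mul (1 : Kˣ) 1
  rw [mul_one] at h
  exact (mul_eq_left.mp h.symm)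

theorem dl_inv (a : Kˣ) : dl a⁻¹ = (dl a)⁻¹ := by
  rw [eq_inv_iff_mul_eq_one, ← dl_mul, inv_mul_cancel, dl_one]

theorem dl_conj (a : Kˣ) {s : ℕ} (hs : s < chevE6.nroots) (t : K) :
    dl a * xg chevE6 K s t * (dl a)⁻¹ = xg chevE6 K s ((a : K) ^ fe s * t) := by
  rw [mul_inv_eq_iff_eq_mul]
  apply Units.ext
  rw [Units.val_mul, Units.val_mul, coe_dl, coe_xg GE, coe_xg GE]
  apply dg_pow_mul_x GE hs (a : K) a.ne_zero fe (fe_neg hs)
  intro q hq i k M hk
  obtain ⟨h1, -, -, h2⟩ := GE.chain_root s q hs hq i k M hk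
  unfold fe
  rw [h2 0, h2 5]
  ring

theorem dl_conj_wg (a : Kˣ) {w : List (ℕ × K)} (hw : ∀ x ∈ w, x.1 < chevE6.nroots) :
    dl a * wg chevE6 K w * (dl a)⁻¹ = wg chevE6 K (w.map fun x => (x.1, (a : K) ^ fe x.1 * x.2)) := by
  induction w with
  | nil => simp [wg]
  | cons x w ih =>
    have h1 : wg chevE6 K (x :: w) = xg chevE6 K x.1 x.2 * wg chevE6 K w := by simp [wg]
    have h2 : wg chevE6 K ((x :: w).map fun x => (x.1, (a : K) ^ fe x.1 * x.2)) =
        xg chevE6 K x.1 ((a : K) ^ fe x.1 * x.2) * wg chevE6 K (w.map fun x => (x.1, (a : K) ^ fe x.1 * x.2)) := by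
      simp [wg]
    rw [h1, h2, ← ih (fun y hy => hw y (List.mem_cons_of_mem _ hy)), ← dl_conj a (hw x List.mem_cons_self)]
    group

/-- the diagonal elements normalize the group -/
theorem dl_conj_group (a : Kˣ) {g : GL chevE6.Idx K} (hg' : g ∈ chevE6.group K) : dl a * g * (dl a)⁻¹ ∈ chevE6.group K := by
  rw [ChevAuto.group_eq GE] at hg'
  induction hg' using Subgroup.closure_induction with
  | mem x hx =>
    obtain ⟨r, hr, t, rfl⟩ := hx
    rw [dl_conj a hr]
    exact ChevAuto.xg_mem GE r _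
  | one => simp
  | mul x y _ _ hx hy =>
    rw [show dl a * (x * y) * (dl a)⁻¹ = (dl a * x * (dl a)⁻¹) * (dl a * y * (dl a)⁻¹) by group]
    exact mul_mem hx hy
  | inv x _ hx =>
    rw [show dl a * x⁻¹ * (dl a)⁻¹ = (dl a * x * (dl a)⁻¹)⁻¹ by group]
    exact inv_mem hx

theorem dl_conj_U (a : Kˣ) {g : GL chevE6.Idx K} (hg' : g ∈ chevE6.posUnipotent K) :
    dl a * g * (dl a)⁻¹ ∈ chevE6.posUnipotent K := by
  rw [← XS_posS GE] at hg' ⊢
  unfold XS at hg'
  induction hg' using Subgroup.closure_induction with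
  | mem x hx =>
    obtain ⟨r, hr, t, rfl⟩ := hx
    rw [dl_conj a r.2]
    exact xg_mem_XS hr _
  | one => simp
  | mul x y _ _ hx hy =>
    rw [show dl a * (x * y) * (dl a)⁻¹ = (dl a * x * (dl a)⁻¹) * (dl a * y * (dl a)⁻¹) by group]
    exact mul_mem hx hy
  | inv x _ hx =>
    rw [show dl a * x⁻¹ * (dl a)⁻¹ = (dl a * x * (dl a)⁻¹)⁻¹ by group]
    exact inv_mem hx

/-- conjugates of diagonal matrices under the monomial words are diagonal -/
theorem nl_conj_dg (l : List (Fin chevE6.rank)) (χ : ℕ → K) (hχ : ∀ s < chevE6.nroots, χ s ≠ 0) :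
    ∃ ψ : ℕ → K, (∀ s < chevE6.nroots, ψ s ≠ 0) ∧ (nl chevE6 K l : Matrix chevE6.Idx chevE6.Idx K) * dg chevE6 χ =
      dg chevE6 ψ * (nl chevE6 K l : Matrix chevE6.Idx chevE6.Idx K) := by
  induction l with
  | nil => exact ⟨χ, hχ, by simp [nl]⟩
  | cons i l ih =>
    obtain ⟨ψ, hψ, h1⟩ := ih
    refine ⟨fun s => ψ (chevE6.reflectRoot i s), fun s hs => hψ _ (GE.w_lt i i.2 s hs), ?_⟩
    rw [nl_cons GE, Units.val_mul, Matrix.mul_assoc, h1, ← Matrix.mul_assoc]
    have h2 : (nn chevE6 K i : Matrix chevE6.Idx chevE6.Idx K) = chevE6.nMat K (chevE6.simple i) 1 := by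
      exact coe_ng GE _ _
    rw [h2, n_mul_dg GE i.2, Matrix.mul_assoc]


/-- `u χ = v ψ` implies `u = 1` -/
theorem uvd {u v : GL chevE6.Idx K} (hu : u ∈ chevE6.posUnipotent K) (hv : v ∈ chevE6.negUnipotent K) {χ ψ : ℕ → K}
    (hχ : ∀ s < chevE6.nroots, χ s ≠ 0)
    (h : (u : Matrix chevE6.Idx chevE6.Idx K) * dg chevE6 χ = (v : Matrix chevE6.Idx chevE6.Idx K) * dg chevE6 ψ) :
    u = 1 := by
  apply Units.ext
  rw [Units.val_one]
  have h1 : (u : Matrix chevE6.Idx chevE6.Idx K) = (v : Matrix chevE6.Idx chevE6.Idx K) * dg chevE6 (fun s => ψ s * (χ s)⁻¹) := by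
    have h2 : dg chevE6 χ * dg chevE6 (fun s => (χ s)⁻¹) = 1 := by
      rw [dg_mul]; apply dg_one; intro s hs; exact mul_inv_cancel₀ (hχ s hs)
    rw [← dg_mul, ← Matrix.mul_assoc, ← h, Matrix.mul_assoc, h2, Matrix.mul_one]
  refine ChevH.eq_one_aux (w := ChevU.wt GE) (v := (v : Matrix chevE6.Idx chevE6.Idx K))
    (d := Sum.elim (fun _ => (1 : K)) (fun s : Fin chevE6.nroots => ψ s * (χ s)⁻¹))
    (ChevLev.mem_LG.mp (ChevU.posUnipotent_le_LG GE hu)).1 (ChevLev.mem_LG.mp (ChevH.negUnipotent_le_LG GE hv)).1 ?_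
  intro a b
  rw [h1]
  unfold dg
  rw [Matrix.mul_diagonal]

/-- the two-root elements are not in the complement of a fundamental root -/
theorem pair_not_mem (i : Fin chevE6.rank) {s : Fin chevE6.nroots} (hs : s ∈ Bi GE i) {c c' : K} (hc : c ≠ 0) :
    xg chevE6 K (simpF GE i) c * xg chevE6 K s c' ∉ XS chevE6 K (Bi GE i) := by
  intro h
  have h1 : xg chevE6 K s c' ∈ XS chevE6 K (Bi GE i) := xg_mem_XS (A := Bi GE i) hs c'
  have h2 := mul_mem h (inv_mem h1)
  rw [mul_inv_cancel_right] at h2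
  exact hc (simp_Bi GE listed i h2)

theorem pair_not_mem' (i : Fin chevE6.rank) {s : Fin chevE6.nroots} (hs : s ∈ Bi GE i) {c c' : K} (hc : c ≠ 0) :
    xg chevE6 K s c' * xg chevE6 K (simpF GE i) c ∉ XS chevE6 K (Bi GE i) := by
  intro h
  have h1 : xg chevE6 K s c' ∈ XS chevE6 K (Bi GE i) := xg_mem_XS (A := Bi GE i) hs c'
  have h2 := mul_mem (inv_mem h1) h
  rw [inv_mul_cancel_left] at h2
  exact hc (simp_Bi GE listed i h2)

theorem single_not_mem (i : Fin chevE6.rank) {c : K} (hc : c ≠ 0) :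
    xg chevE6 K (simpF GE i) c ∉ XS chevE6 K (Bi GE i) := fun h => hc (simp_Bi GE listed i h)

/-- the list of simple roots of the orbit of a fundamental root -/
def YL (i : ℕ) : List ℕ := [[56, 36], [46], [42, 37], [39], [42, 37], [56, 36]].getD i []

theorem simple_vals : chevE6.simple 0 = 56 ∧ chevE6.simple 1 = 46 ∧ chevE6.simple 2 = 42 ∧ chevE6.simple 3 = 39 ∧
    chevE6.simple 4 = 37 ∧ chevE6.simple 5 = 36 := by decide +kernel

theorem wgYL (i : ℕ) (c : ℕ → K) : ∀ L : List ℕ, wg chevE6 K (L.map fun r => (r, c r)) = (L.map fun r => xg chevE6 K r (c r)).prod := by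
  intro L
  unfold wg
  rw [List.map_map]
  rfl

theorem mem_Bi_simp {i j : Fin chevE6.rank} (h : i ≠ j) : simpF GE j ∈ Bi GE i := by
  refine ⟨pos_simpF GE j, fun h1 => h ?_⟩
  have h2 : chevE6.simple j = chevE6.simple i := congrArg Fin.val h1
  apply Fin.ext
  have h3 := GE.rv_simple i i.2 (j : ℕ)
  have h4 := GE.rv_simple j j.2 (j : ℕ)
  rw [h2, h3] at h4
  by_contra hne
  simp at h4
  exact hne (by omega)

theorem YL_not_mem (i : Fin chevE6.rank) {c : ℕ → K} (hc : ∀ r, c r ≠ 0) :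
    wg chevE6 K ((YL i).map fun r => (r, c r)) ∉ XS chevE6 K (Bi GE i) := by
  obtain ⟨s0, s1, s2, s3, s4, s5⟩ := simple_vals
  have v : ∀ j : Fin chevE6.rank, ((simpF GE j : Fin chevE6.nroots) : ℕ) = chevE6.simple j := fun j => rfl
  have hr : chevE6.rank = 6 := rfl
  obtain ⟨i, hi⟩ := i
  have hi' : i < 6 := hi
  rw [wgYL i]
  interval_cases i
  · have := pair_not_mem (K := K) ⟨0, hi⟩ (mem_Bi_simp (i := ⟨0, hi⟩) (j := ⟨5, by rw [hr]; norm_num⟩) (by simp)) (c' := c 36) (hc 56)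
    rw [v, v] at this
    simp only [s0, s5] at this
    simpa [YL] using this
  · have := single_not_mem (K := K) ⟨1, hi⟩ (hc 46)
    rw [v] at this
    simp only [s1] at this
    simpa [YL] using this
  · have := pair_not_mem (K := K) ⟨2, hi⟩ (mem_Bi_simp (i := ⟨2, hi⟩) (j := ⟨4, by rw [hr]; norm_num⟩) (by simp)) (c' := c 37) (hc 42)
    rw [v, v] at this
    simp only [s2, s4] at this
    simpa [YL] using this
  · have := single_not_mem (K := K) ⟨3, hi⟩ (hc 39)
    rw [v] at this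
    simp only [s3] at this
    simpa [YL] using this
  · have := pair_not_mem' (K := K) ⟨4, hi⟩ (mem_Bi_simp (i := ⟨4, hi⟩) (j := ⟨2, by rw [hr]; norm_num⟩) (by simp)) (c' := c 42) (hc 37)
    rw [v, v] at this
    simp only [s2, s4] at this
    simpa [YL] using this
  · have := pair_not_mem' (K := K) ⟨5, hi⟩ (mem_Bi_simp (i := ⟨5, hi⟩) (j := ⟨0, by rw [hr]; norm_num⟩) (by simp)) (c' := c 56) (hc 36)
    rw [v, v] at this
    simp only [s0, s5] at this
    simpa [YL] using this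

theorem YL_lt : ∀ i < 6, ∀ r ∈ YL i, r < chevE6.nroots ∧ chevE6.nroots / 2 ≤ r := by decide +kernel

theorem wg_mem_U {L : List ℕ} (hL : ∀ r ∈ L, r < chevE6.nroots ∧ chevE6.nroots / 2 ≤ r) (c : ℕ → K) :
    wg chevE6 K (L.map fun r => (r, c r)) ∈ chevE6.posUnipotent K := by
  rw [← XS_posS GE]
  induction L with
  | nil => simp [wg, one_mem]
  | cons r L ih =>
    have h1 : wg chevE6 K ((r :: L).map fun r => (r, c r)) = xg chevE6 K r (c r) * wg chevE6 K (L.map fun r => (r, c r)) := by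
      simp [wg]
    rw [h1]
    obtain ⟨hr, hr2⟩ := hL r List.mem_cons_self
    exact mul_mem (xg_mem_XS (A := posS chevE6) (r := ⟨r, hr⟩) hr2 _) (ih fun s hs => hL s (List.mem_cons_of_mem _ hs))

/-- the reflections of the invariant Coxeter element, to the power 6 -/
def L0 : List (Fin chevE6.rank) := (List.replicate 6 ([0, 5, 2, 4, 3, 1] : List (Fin 6))).flatten

theorem wl_val (l : List (Fin chevE6.rank)) (r : Fin chevE6.nroots) :
    ((wl GE l r : Fin chevE6.nroots) : ℕ) = l.foldr (fun (i : Fin chevE6.rank) (r : ℕ) => chevE6.reflectRoot i r) (r : ℕ) := by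
  induction l with
  | nil => rfl
  | cons i l ih =>
    rw [wl, List.map_cons, List.prod_cons, Equiv.Perm.mul_apply, refl_apply, List.foldr_cons, ← ih]
    rfl

theorem L0_neg : ∀ r < 72, 36 ≤ r → L0.foldr (fun (i : Fin chevE6.rank) (r : ℕ) => chevE6.reflectRoot i r) r < 36 := by decide +kernel

theorem L0_conj {u : GL chevE6.Idx K} (hu : u ∈ chevE6.posUnipotent K) :
    nl chevE6 K L0 * u * (nl chevE6 K L0)⁻¹ ∈ chevE6.negUnipotent K := by
  apply conj_neg_mem GE (mono_nl GE L0)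
  rw [← XS_posS GE] at hu
  refine XS_mono ?_ hu
  intro r hr
  show ¬ (chevE6.nroots / 2 ≤ ((wl GE L0 r : Fin chevE6.nroots) : ℕ))
  rw [wl_val, not_le]
  exact L0_neg r r.2 hr


/-- the values of `dl` and `H` on the fundamental roots -/
noncomputable def kap (c : ℕ → K) (s : ℕ) : K := ∏ i ∈ Finset.range chevE6.rank, c i ^ chevE6.cartan i s

theorem kap_simple (c : ℕ → K) {j : ℕ} (hj : j < 6) : kap c (chevE6.simple j) =
    c 0 ^ (TwE6.cm 0 j) * c 1 ^ (TwE6.cm 1 j) * c 2 ^ (TwE6.cm 2 j) * c 3 ^ (TwE6.cm 3 j) * c 4 ^ (TwE6.cm 4 j) *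
      c 5 ^ (TwE6.cm 5 j) := by
  unfold kap
  rw [show chevE6.rank = 6 from rfl]
  have h : ∀ i ∈ Finset.range 6, c i ^ chevE6.cartan i (chevE6.simple j) = c i ^ (TwE6.cm i j) := by
    intro i hi
    rw [TwE6.cart i (Finset.mem_range.mp hi) j hj]
  rw [Finset.prod_congr rfl h]
  simp [Finset.prod_range_succ]

theorem coe_hs_dl {c : ℕ → K} (hc : ∀ i < chevE6.rank, c i ≠ 0) (a : Kˣ) :
    ((ChevH.hs chevE6 c chevE6.rank * dl a : GL chevE6.Idx K) : Matrix chevE6.Idx chevE6.Idx K) =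
      dg chevE6 (fun s => kap c s * (a : K) ^ fe s) := by
  rw [Units.val_mul, ChevH.coe_hs GE le_rfl hc, coe_dl, ← dg_mul]
  rfl

theorem hs_dl_conj {c : ℕ → K} (hc : ∀ i < chevE6.rank, c i ≠ 0) (a : Kˣ) {s : ℕ} (hs' : s < chevE6.nroots) (t : K) :
    (ChevH.hs chevE6 c chevE6.rank * dl a) * xg chevE6 K s t * (ChevH.hs chevE6 c chevE6.rank * dl a)⁻¹ =
      xg chevE6 K s (kap c s * (a : K) ^ fe s * t) := by
  have h1 : (ChevH.hs chevE6 c chevE6.rank * dl a) * xg chevE6 K s t * (ChevH.hs chevE6 c chevE6.rank * dl a)⁻¹ =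
    ChevH.hs chevE6 c chevE6.rank * (dl a * xg chevE6 K s t * (dl a)⁻¹) * (ChevH.hs chevE6 c chevE6.rank)⁻¹ := by group
  rw [h1, dl_conj a hs', ChevSimple.hs_conj GE le_rfl hc hs', mul_assoc]
  rfl

theorem pair_eq {i j : Fin chevE6.rank} (hij : i ≠ j) {a b a' b' : K}
    (h : xg chevE6 K (simpF GE i) a * xg chevE6 K (simpF GE j) b = xg chevE6 K (simpF GE i) a' * xg chevE6 K (simpF GE j) b') :
    a = a' ∧ b = b' := by
  have h1 : xg chevE6 K (simpF GE i) (-a' + a) = xg chevE6 K (simpF GE j) (b' + -b) := by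
    rw [← xg_add GE, ← xg_add GE, xg_neg GE, xg_neg GE, inv_mul_eq_iff_eq_mul, ← mul_assoc, eq_mul_inv_iff_mul_eq]
    exact h
  have h2 : xg chevE6 K (simpF GE i) (-a' + a) ∈ XS chevE6 K (Bi GE i) := by
    rw [h1]
    exact xg_mem_XS (A := Bi GE i) (mem_Bi_simp hij) _
  have h3 := simp_Bi GE listed i h2
  have h4 : a = a' := by linear_combination h3
  subst h4
  exact ⟨rfl, ChevRel.xg_inj GE (simpF GE j).2 (mul_left_cancel h)⟩

/-- the algebra of the characters -/
theorem alg (c : ℕ → K) (hc : ∀ i < 6, c i ≠ 0) (h3 : ∀ c : K, c ≠ 0 → c ^ 3 = 1) (a : Kˣ)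
    (h : ∀ j < 6, kap c (chevE6.simple j) * (a : K) ^ fe (chevE6.simple j) = 1) : a = 1 := by
  have ha : (a : K) ≠ 0 := a.ne_zero
  have n0 := hc 0 (by norm_num)
  have n1 := hc 1 (by norm_num)
  have n2 := hc 2 (by norm_num)
  have n3 := hc 3 (by norm_num)
  have n4 := hc 4 (by norm_num)
  have n5 := hc 5 (by norm_num)
  have e0 := h 0 (by norm_num)
  have e2 := h 2 (by norm_num)
  have e4 := h 4 (by norm_num)
  have e5 := h 5 (by norm_num)
  rw [kap_simple c (by norm_num), fe_simple (by norm_num)] at e0 e2 e4 e5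
  simp [TwE6.cm] at e0 e2 e4 e5
  have f0 : c 0 ^ 2 * (a : K) = c 2 := by
    field_simp at e0
    linear_combination e0
  have f2 : c 2 ^ 2 = c 0 * c 3 := by
    field_simp at e2
    linear_combination e2
  have f4 : c 4 ^ 2 = c 3 * c 5 := by
    field_simp at e4
    linear_combination e4
  have f5 : c 5 ^ 2 = (a : K) * c 4 := by
    field_simp at e5
    linear_combination e5
  have g0 := h3 _ n0
  have g5 := h3 _ n5
  have ga := h3 _ ha
  have k1 : c 3 = (a : K) ^ 2 := by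
    apply mul_left_cancel₀ n0
    rw [← f2, ← f0]
    linear_combination (c 0 * (a : K) ^ 2) * g0
  have k2 : c 3 * (a : K) ^ 2 = 1 := by
    have h1 : c 5 * (c 3 * (a : K) ^ 2) = c 5 * 1 := by
      have : c 5 * (c 3 * (a : K) ^ 2) = (a : K) ^ 2 * c 4 ^ 2 := by rw [f4]; ring
      rw [this, ← mul_pow, ← f5]
      linear_combination (c 5) * g5
    exact mul_left_cancel₀ n5 h1
  apply Units.ext
  rw [k1] at k2
  rw [Units.val_one]
  linear_combination k2 - (a : K) * ga

theorem eq_one_of_comm (h3 : ∀ c : K, c ≠ 0 → c ^ 3 = 1) {g : GL chevE6.Idx K} (hg' : g ∈ chevE6.group K) (a : Kˣ)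
    (hc : ∀ i < 6, (g * dl a) * wg chevE6 K ((YL i).map fun r => (r, 1)) * (g * dl a)⁻¹ = wg chevE6 K ((YL i).map fun r => (r, 1)))
    (hn : (nl chevE6 K L0) * (g * dl a) * (nl chevE6 K L0)⁻¹ = g * dl a) : a = 1 := by
  have hB : g ∈ chevE6.borelSubgroup K := by
    apply mem_borel_of_conj' GE listed hg'
    intro i
    have hz := dl_conj_wg a (w := (YL i).map fun r => (r, (1 : K))) (by
      intro x hx
      obtain ⟨r, hr, rfl⟩ := List.mem_map.mp hx
      exact (YL_lt i i.2 r hr).1)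
    have e1 : (((YL i).map fun r => (r, (1 : K))).map fun x => (x.1, (a : K) ^ fe x.1 * x.2)) =
        (YL i).map fun r => (r, (a : K) ^ fe r) := by
      rw [List.map_map]
      apply List.map_congr_left
      intro r _
      simp
    rw [e1] at hz
    refine ⟨_, wg_mem_U (YL_lt i i.2) (fun r => (a : K) ^ fe r), YL_not_mem i (fun r => zpow_ne_zero _ a.ne_zero), ?_⟩
    rw [← hz]
    have h1 : g * (dl a * wg chevE6 K ((YL i).map fun r => (r, (1 : K))) * (dl a)⁻¹) * g⁻¹ =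
      (g * dl a) * wg chevE6 K ((YL i).map fun r => (r, 1)) * (g * dl a)⁻¹ := by group
    rw [h1, hc i i.2]
    exact wg_mem_U (YL_lt i i.2) (fun _ => (1 : K))
  obtain ⟨u, hu, k, hk, rfl⟩ := mem_borel GE hB
  obtain ⟨c, hc0, rfl⟩ := ChevH.exists_hs GE hk
  have hu1 : u = 1 := by
    obtain ⟨ψ, hψ, h1⟩ := nl_conj_dg L0 (fun s => kap c s * (a : K) ^ fe s) (fun s hs => by
      refine mul_ne_zero ?_ (zpow_ne_zero _ a.ne_zero)
      unfold kap
      exact Finset.prod_ne_zero_iff.mpr fun i hi => zpow_ne_zero _ (hc0 i (Finset.mem_range.mp hi)))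
    refine uvd hu (L0_conj hu) (χ := fun s => kap c s * (a : K) ^ fe s) (ψ := ψ) (fun s hs => by
      refine mul_ne_zero ?_ (zpow_ne_zero _ a.ne_zero)
      unfold kap
      exact Finset.prod_ne_zero_iff.mpr fun i hi => zpow_ne_zero _ (hc0 i (Finset.mem_range.mp hi))) ?_
    rw [← coe_hs_dl hc0] at h1 ⊢
    have h2 : ((nl chevE6 K L0 * (ChevH.hs chevE6 c chevE6.rank * dl a) * (nl chevE6 K L0)⁻¹ : GL chevE6.Idx K) :
        Matrix chevE6.Idx chevE6.Idx K) = dg chevE6 ψ := by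
      rw [Units.val_mul, Units.val_mul, h1, Matrix.mul_assoc, ← Units.val_mul, mul_inv_cancel, Units.val_one, Matrix.mul_one]
    rw [← h2, ← Units.val_mul, ← Units.val_mul]
    congr 1
    rw [← mul_assoc u, ← hn]
    group
  subst hu1
  rw [one_mul] at hc
  have hr : chevE6.rank = 6 := rfl
  have v : ∀ j : Fin chevE6.rank, ((simpF GE j : Fin chevE6.nroots) : ℕ) = chevE6.simple j := fun j => rfl
  obtain ⟨s0, s1, s2, s3, s4, s5⟩ := simple_vals
  have single : ∀ {s : ℕ}, s < chevE6.nroots → (ChevH.hs chevE6 c chevE6.rank * dl a) * wg chevE6 K ([s].map fun r => (r, 1)) *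
      (ChevH.hs chevE6 c chevE6.rank * dl a)⁻¹ = wg chevE6 K ([s].map fun r => (r, 1)) → kap c s * (a : K) ^ fe s = 1 := by
    intro s hs h
    have h1 : wg chevE6 K ([s].map fun r => (r, (1 : K))) = xg chevE6 K s 1 := by simp [wg]
    rw [h1, hs_dl_conj hc0 a hs, mul_one] at h
    exact ChevRel.xg_inj GE hs h
  have double : ∀ {i j : Fin chevE6.rank}, i ≠ j →
      (ChevH.hs chevE6 c chevE6.rank * dl a) * wg chevE6 K ([((simpF GE i : Fin chevE6.nroots) : ℕ), ((simpF GE j : Fin chevE6.nroots) : ℕ)].map fun r => (r, 1)) *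
      (ChevH.hs chevE6 c chevE6.rank * dl a)⁻¹ =
      wg chevE6 K ([((simpF GE i : Fin chevE6.nroots) : ℕ), ((simpF GE j : Fin chevE6.nroots) : ℕ)].map fun r => (r, 1)) →
      kap c (simpF GE i : Fin chevE6.nroots) * (a : K) ^ fe (simpF GE i : Fin chevE6.nroots) = 1 ∧
      kap c (simpF GE j : Fin chevE6.nroots) * (a : K) ^ fe (simpF GE j : Fin chevE6.nroots) = 1 := by
    intro i j hij h
    have h1 : ∀ s t : ℕ, wg chevE6 K ([s, t].map fun r => (r, (1 : K))) = xg chevE6 K s 1 * xg chevE6 K t 1 := by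
      intro s t; simp [wg]
    have h2 : ∀ x y z : GL chevE6.Idx K, x * (y * z) * x⁻¹ = (x * y * x⁻¹) * (x * z * x⁻¹) := by intro x y z; group
    rw [h1, h2, hs_dl_conj hc0 a (simpF GE i).2, hs_dl_conj hc0 a (simpF GE j).2, mul_one, mul_one] at h
    exact pair_eq hij h
  have d0 := double (i := ⟨0, by rw [hr]; norm_num⟩) (j := ⟨5, by rw [hr]; norm_num⟩) (by simp)
  have d2 := double (i := ⟨2, by rw [hr]; norm_num⟩) (j := ⟨4, by rw [hr]; norm_num⟩) (by simp)
  simp only [v] at d0 d2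
  rw [s0, s5] at d0
  rw [s2, s4] at d2
  have e0 := d0 (hc 0 (by norm_num))
  have e2 := d2 (hc 2 (by norm_num))
  have e1 := single (s := 46) (by decide) (hc 1 (by norm_num))
  have e3 := single (s := 39) (by decide) (hc 3 (by norm_num))
  apply alg c (fun i hi => hc0 i hi) h3 a
  intro j hj
  interval_cases j
  · rw [s0]; exact e0.1
  · rw [s1]; exact e1
  · rw [s2]; exact e2.1
  · rw [s3]; exact e3
  · rw [s4]; exact e2.2
  · rw [s5]; exact e0.2

end dl

end Cfsg.Agent.Lib.E6F4A
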