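import Cfsg.Agent.Lib.E6F4A
import Cfsg.Agent.S2122
set_option autoImplicit false
set_option linter.unusedSectionVars false
set_option linter.unusedVariables false
set_option linter.style.haveILetI false

/-!
The group `2E6(2)` has three conjugacy classes of subgroups `F4(2)` fused by the diagonal automorphisms.
-/

namespace Cfsg.Agent.Lib.E6F4B
open Cfsg.Lie Cfsg.Agent.Lib.ChevX Cfsg.Agent.Lib.ChevGood Cfsg.Agent.Lib.ChevRel Cfsg.Agent.Lib.ChevNPerm
  Cfsg.Agent.Lib.ChevClosed Cfsg.Agent.Lib.ChevBruhat Cfsg.Agent.Lib.ChevSub Cfsg.Agent.Lib.ChevFix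
  Cfsg.Agent.Lib.E6F4A Cfsg.Agent.Lib.TwTab Cfsg.Agent.Lib.TwFix Cfsg.Agent.Lib.TwF4E6
open scoped MatrixGroups Matrix

universe u

/-- the fixed points of the graph automorphism are `F4` -/
theorem iso_Γ0 (F : Type u) [Field F] [CharP F 2] [Fintype F] :
    Nonempty (↥(Γ0 chevE6 F tabE6 1) ≃* ↥(chevF4.group F)) := by
  have hτ := TwE6.gr_spec (K := F)
  obtain ⟨e⟩ := main_of_graph hτ
  have hA := TwE6G.allG hτ
  have hfix : Γ0 chevE6 F tabE6 1 = (TwE6G.TT hτ).fix := hA.eq_fix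
  have hmap : (TwE6G.TT hτ).fix = (MonoidHom.eqLocus (TwE6.gr F).toMonoidHom (MonoidHom.id ↥(chevE6.group F))).map
      (chevE6.group F).subtype := by
    ext g
    constructor
    · rintro ⟨hg, hg'⟩
      rw [(TwE6G.TT hτ).s_eq hg] at hg'
      exact ⟨⟨g, hg⟩, Subtype.ext hg', rfl⟩
    · rintro ⟨x, hx, rfl⟩
      refine ⟨x.2, ?_⟩
      show (TwE6G.TT hτ).s (x : GL chevE6.Idx F) = (x : GL chevE6.Idx F)
      rw [(TwE6G.TT hτ).s_eq x.2]
      exact congrArg Subtype.val (show TwE6.gr F x = x from hx)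
  let e2 := (MonoidHom.eqLocus (TwE6.gr F).toMonoidHom (MonoidHom.id ↥(chevE6.group F))).equivMapOfInjective
      (chevE6.group F).subtype (Subgroup.subtype_injective _)
  have h3 : (MonoidHom.eqLocus (TwE6.gr F).toMonoidHom (MonoidHom.id ↥(chevE6.group F))).map
      (chevE6.group F).subtype = Γ0 chevE6 F tabE6 1 := by rw [← hmap, ← hfix]
  exact ⟨((MulEquiv.subgroupCongr h3.symm).trans e2.symm).trans e⟩

section
variable (K : Type u) [Field K] [CharP K 2]

/-- the embedding of the prime field -/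
noncomputable def f2 : ZMod 2 →+* K := ZMod.castHom (dvd_refl 2) K

/-- the standard `F4(2)` -/
noncomputable def H0 : Subgroup (GL chevE6.Idx K) := (Γ0 chevE6 (ZMod 2) tabE6 1).map (em chevE6 (f2 K))

theorem iso_H0 : Nonempty (↥(H0 K) ≃* ↥(chevF4.group (ZMod 2))) := by
  obtain ⟨e⟩ := iso_Γ0 (ZMod 2)
  exact ⟨((Γ0 chevE6 (ZMod 2) tabE6 1).equivMapOfInjective (em chevE6 (f2 K)) (em_injective _)).symm.trans e⟩

variable {K}

theorem em_wg (w : List (ℕ × ZMod 2)) : em chevE6 (f2 K) (wg chevE6 (ZMod 2) w) =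
    wg chevE6 K (w.map fun x => (x.1, f2 K x.2)) := by
  induction w with
  | nil => simp [wg]
  | cons x w ih =>
    have h1 : wg chevE6 (ZMod 2) (x :: w) = xg chevE6 (ZMod 2) x.1 x.2 * wg chevE6 (ZMod 2) w := by simp [wg]
    have h2 : wg chevE6 K ((x :: w).map fun x => (x.1, f2 K x.2)) =
        xg chevE6 K x.1 (f2 K x.2) * wg chevE6 K (w.map fun x => (x.1, f2 K x.2)) := by simp [wg]
    rw [h1, h2, map_mul, ih, em_xg E6F4A.GE]

theorem f2_sq (t : ZMod 2) : f2 K t ^ 2 = f2 K t := by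
  rw [← map_pow]
  congr 1
  revert t
  decide

theorem H0_le : H0 K ≤ twistedE6 K 2 := by
  have h : Γ0 chevE6 (ZMod 2) tabE6 1 ≤ (twistedE6 K 2).comap (em chevE6 (f2 K)) := by
    apply TwF4E6.Γ0_gen
    intro x hx t
    rw [Subgroup.mem_comap, em_wg, List.map_map]
    have hs := f2_sq (K := K) t
    have hw1 : ∀ r ∈ [e6p2, e6m2, e6p4, e6m4], wg chevE6 K [(r, f2 K t)] ∈ twistedE6 K 2 :=
      fun r hr => wg_mem_gen E6F4A.GE (Or.inl ⟨f2 K t, hs, r, hr, rfl⟩)
    have hw2 : ∀ w ∈ ([(e6p1, e6p6), (e6m1, e6m6), (e6p3, e6p5), (e6m3, e6m5)] : List (ℕ × ℕ)),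
        wg chevE6 K [(w.1, f2 K t), (w.2, f2 K t)] ∈ twistedE6 K 2 := by
      intro w hw
      have := wg_mem_gen (F := K) E6F4A.GE (W := e6Words K 2) (Or.inr ⟨f2 K t, w, hw, rfl⟩)
      rw [hs] at this
      exact this
    simp only [gens, List.mem_cons, List.not_mem_nil, or_false] at hx
    rcases hx with rfl | rfl | rfl | rfl | rfl | rfl | rfl | rfl
    · exact hw2 (e6p1, e6p6) (by simp)
    · exact hw2 (e6p3, e6p5) (by simp)
    · exact hw1 e6p4 (by simp)
    · exact hw1 e6p2 (by simp)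
    · exact hw2 (e6m1, e6m6) (by simp)
    · exact hw2 (e6m3, e6m5) (by simp)
    · exact hw1 e6m4 (by simp)
    · exact hw1 e6m2 (by simp)
  rintro _ ⟨g, hg, rfl⟩
  exact h hg

theorem YL_mem {i : ℕ} (hi : i < 6) : wg chevE6 K ((YL i).map fun r => (r, 1)) ∈ H0 K := by
  have h : ∃ j, (YL i, j) ∈ gens := by
    interval_cases i
    · exact ⟨33, by simp [gens, YL]⟩
    · exact ⟨24, by simp [gens, YL]⟩
    · exact ⟨27, by simp [gens, YL]⟩
    · exact ⟨25, by simp [gens, YL]⟩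
    · exact ⟨27, by simp [gens, YL]⟩
    · exact ⟨33, by simp [gens, YL]⟩
  obtain ⟨j, hj⟩ := h
  refine ⟨_, gen_mem hj 1, ?_⟩
  rw [em_wg, List.map_map]
  congr 1
  apply List.map_congr_left
  intro r _
  simp

theorem jwF_vals : jwF chk1E6 0 = ([0, 5] : List (Fin 6)) ∧ jwF chk1E6 1 = ([2, 4] : List (Fin 6)) ∧
    jwF chk1E6 2 = ([3] : List (Fin 6)) ∧ jwF chk1E6 3 = ([1] : List (Fin 6)) := by
  have h : ∀ j < tabE6.nz, (jwF chk1E6 j).map Fin.val = tabE6.jwN j := fun j hj => jwF_map chk1E6 chk3E6 hj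
  refine ⟨?_, ?_, ?_, ?_⟩
  · exact List.map_injective_iff.mpr Fin.val_injective ((h 0 (by decide)).trans rfl)
  · exact List.map_injective_iff.mpr Fin.val_injective ((h 1 (by decide)).trans rfl)
  · exact List.map_injective_iff.mpr Fin.val_injective ((h 2 (by decide)).trans rfl)
  · exact List.map_injective_iff.mpr Fin.val_injective ((h 3 (by decide)).trans rfl)

theorem L0_mem : nl chevE6 K L0 ∈ H0 K := by
  have hτ := TwE6.gr_spec (K := ZMod 2)
  have h : ∀ j < tabE6.nz, nl chevE6 (ZMod 2) (jwF chk1E6 j) ∈ Γ0 chevE6 (ZMod 2) tabE6 1 :=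
    fun j hj => nl_mem_Γ0 (TwE6G.sg hτ) chk1E6 chk2E6 (TwE6G.sg_e hτ) TwE6.chkJ chk3E6 hj
  obtain ⟨j0, j1, j2, j3⟩ := jwF_vals
  have hM : nl chevE6 (ZMod 2) ([0, 5, 2, 4, 3, 1] : List (Fin 6)) ∈ Γ0 chevE6 (ZMod 2) tabE6 1 := by
    have := mul_mem (mul_mem (mul_mem (h 0 (by decide)) (h 1 (by decide))) (h 2 (by decide))) (h 3 (by decide))
    rw [← nl_append E6F4A.GE, ← nl_append E6F4A.GE, ← nl_append E6F4A.GE] at this
    have e : jwF chk1E6 0 ++ jwF chk1E6 1 ++ jwF chk1E6 2 ++ jwF chk1E6 3 = ([0, 5, 2, 4, 3, 1] : List (Fin 6)) := by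
      rw [j0, j1, j2, j3]
      rfl
    rw [e] at this
    exact this
  have hL : ∀ n : ℕ, nl chevE6 (ZMod 2) (List.replicate n ([0, 5, 2, 4, 3, 1] : List (Fin 6))).flatten ∈
      Γ0 chevE6 (ZMod 2) tabE6 1 := by
    intro n
    induction n with
    | zero => exact one_mem _
    | succ n ih =>
      rw [List.replicate_succ, List.flatten_cons]
      have e := nl_append (F := ZMod 2) E6F4A.GE ([0, 5, 2, 4, 3, 1] : List (Fin 6))
        (List.replicate n ([0, 5, 2, 4, 3, 1] : List (Fin 6))).flatten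
      rw [show nl chevE6 (ZMod 2) (([0, 5, 2, 4, 3, 1] : List (Fin 6)) ++
        (List.replicate n ([0, 5, 2, 4, 3, 1] : List (Fin 6))).flatten) = _ from e]
      exact mul_mem hM ih
  refine ⟨_, hL 6, ?_⟩
  exact em_nl E6F4A.GE (f2 K) L0

/-! ### the diagonal elements normalize the twisted group -/

theorem neg_vals : chevE6.neg 56 = 15 ∧ chevE6.neg 36 = 35 ∧ chevE6.neg 42 = 29 ∧ chevE6.neg 37 = 34 ∧
    chevE6.neg 39 = 32 ∧ chevE6.neg 46 = 25 := by decide +kernel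

theorem fe_vals : (fe 56 = 1 ∧ fe 36 = -1 ∧ fe 42 = 0 ∧ fe 37 = 0 ∧ fe 39 = 0 ∧ fe 46 = 0) ∧
    (fe 15 = -1 ∧ fe 35 = 1 ∧ fe 29 = 0 ∧ fe 34 = 0 ∧ fe 32 = 0 ∧ fe 25 = 0) := by
  obtain ⟨s0, s1, s2, s3, s4, s5⟩ := simple_vals
  obtain ⟨m0, m1, m2, m3, m4, m5⟩ := neg_vals
  have p0 := fe_simple (i := 0) (by norm_num)
  have p1 := fe_simple (i := 1) (by norm_num)
  have p2 := fe_simple (i := 2) (by norm_num)
  have p3 := fe_simple (i := 3) (by norm_num)
  have p4 := fe_simple (i := 4) (by norm_num)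
  have p5 := fe_simple (i := 5) (by norm_num)
  rw [s0] at p0
  rw [s1] at p1
  rw [s2] at p2
  rw [s3] at p3
  rw [s4] at p4
  rw [s5] at p5
  norm_num at p0 p1 p2 p3 p4 p5
  have q0 := fe_neg (s := 56) (by decide)
  have q1 := fe_neg (s := 46) (by decide)
  have q2 := fe_neg (s := 42) (by decide)
  have q3 := fe_neg (s := 39) (by decide)
  have q4 := fe_neg (s := 37) (by decide)
  have q5 := fe_neg (s := 36) (by decide)
  rw [m0, p0] at q0
  rw [m5, p1] at q1
  rw [m2, p2] at q2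
  rw [m4, p3] at q3
  rw [m3, p4] at q4
  rw [m1, p5] at q5
  norm_num at q0 q1 q2 q3 q4 q5
  exact ⟨⟨p0, p5, p2, p4, p3, p1⟩, ⟨q0, q5, q2, q4, q3, q1⟩⟩

theorem dl_conj_tw (h3 : ∀ c : K, c ≠ 0 → c ^ 3 = 1) (a : Kˣ) {g : GL chevE6.Idx K} (hg : g ∈ twistedE6 K 2) :
    dl a * g * (dl a)⁻¹ ∈ twistedE6 K 2 := by
  have ha : (a : K) ^ 3 = 1 := h3 _ a.ne_zero
  obtain ⟨⟨v56, v36, v42, v37, v39, v46⟩, ⟨v15, v35, v29, v34, v32, v25⟩⟩ := fe_vals
  have hg' : g ∈ Subgroup.closure {g : GL chevE6.Idx K | ∃ w ∈ e6Words K 2,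
    (g : Matrix chevE6.Idx chevE6.Idx K) = chevE6.wordMat K w} := hg
  induction hg' using Subgroup.closure_induction with
  | mem x hx =>
    obtain ⟨w, hw, hx⟩ := hx
    have hgw := eq_wg E6F4A.GE hx
    rw [hgw]
    have mem1 : ∀ (t : K), t ^ 2 = t → ∀ r ∈ [e6p2, e6m2, e6p4, e6m4], wg chevE6 K [(r, t)] ∈ twistedE6 K 2 :=
      fun t ht r hr => wg_mem_gen E6F4A.GE (Or.inl ⟨t, ht, r, hr, rfl⟩)
    have mem2 : ∀ (t : K), ∀ w ∈ ([(e6p1, e6p6), (e6m1, e6m6), (e6p3, e6p5), (e6m3, e6m5)] : List (ℕ × ℕ)),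
        wg chevE6 K [(w.1, t), (w.2, t ^ 2)] ∈ twistedE6 K 2 :=
      fun t w hw => wg_mem_gen E6F4A.GE (Or.inr ⟨t, w, hw, rfl⟩)
    have inv_eq : (a : K)⁻¹ = (a : K) ^ 2 := by
      apply inv_eq_of_mul_eq_one_right
      rw [← ha]; ring
    rcases hw with ⟨t, ht, r, hr, rfl⟩ | ⟨t, rs, hrs, rfl⟩
    · have hr' := hr
      simp only [List.mem_cons, List.not_mem_nil, or_false] at hr
      have hlt : r < chevE6.nroots := by
        rcases hr with rfl | rfl | rfl | rfl <;> decide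
      have hfe : fe r = 0 := by
        rcases hr with rfl | rfl | rfl | rfl
        · exact v46
        · exact v25
        · exact v39
        · exact v32
      rw [dl_conj_wg a (w := [(r, t)]) (by intro x hx; rw [List.mem_singleton] at hx; subst hx; exact hlt)]
      have e : ([(r, t)].map fun x => (x.1, (a : K) ^ fe x.1 * x.2)) = [(r, t)] := by
        simp [hfe]
      rw [e]
      exact mem1 t ht r hr'
    · have hrs' := hrs
      simp only [List.mem_cons, List.not_mem_nil, or_false] at hrs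
      have hlt : rs.1 < chevE6.nroots ∧ rs.2 < chevE6.nroots := by
        rcases hrs with rfl | rfl | rfl | rfl <;> decide
      rw [dl_conj_wg a (w := [(rs.1, t), (rs.2, t ^ 2)]) (by
        intro x hx
        simp only [List.mem_cons, List.not_mem_nil, or_false] at hx
        rcases hx with rfl | rfl
        · exact hlt.1
        · exact hlt.2)]
      have e : ([(rs.1, t), (rs.2, t ^ 2)].map fun x => (x.1, (a : K) ^ fe x.1 * x.2)) =
        [(rs.1, (a : K) ^ fe rs.1 * t), (rs.2, ((a : K) ^ fe rs.1 * t) ^ 2)] := by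
        have e2 : (a : K) ^ fe rs.2 = ((a : K) ^ fe rs.1) ^ 2 := by
          rcases hrs with rfl | rfl | rfl | rfl
          · show (a : K) ^ fe 36 = ((a : K) ^ fe 56) ^ 2
            rw [v36, v56, zpow_neg_one, zpow_one, inv_eq]
          · show (a : K) ^ fe 35 = ((a : K) ^ fe 15) ^ 2
            rw [v35, v15, zpow_neg_one, zpow_one, inv_eq]
            linear_combination (-(a : K)) * ha
          · show (a : K) ^ fe 37 = ((a : K) ^ fe 42) ^ 2
            rw [v37, v42]; simp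
          · show (a : K) ^ fe 34 = ((a : K) ^ fe 29) ^ 2
            rw [v34, v29]; simp
        simp [e2, mul_pow]
      rw [e]
      exact mem2 _ rs hrs'
  | one => simp [one_mem]
  | mul x y hx' hy' hx hy =>
    rw [show dl a * (x * y) * (dl a)⁻¹ = (dl a * x * (dl a)⁻¹) * (dl a * y * (dl a)⁻¹) by group]
    exact mul_mem (hx hx') (hy hy')
  | inv x hx' hx =>
    rw [show dl a * x⁻¹ * (dl a)⁻¹ = (dl a * x * (dl a)⁻¹)⁻¹ by group]
    exact inv_mem (hx hx')

theorem tw_le : twistedE6 K 2 ≤ chevE6.group K := by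
  unfold twistedE6 ChevalleyDatum.genSubgroup
  rw [Subgroup.closure_le]
  rintro g ⟨w, hw, hg⟩
  have hgw := eq_wg E6F4A.GE hg
  rw [hgw]
  unfold wg
  apply Subgroup.list_prod_mem
  intro x hx
  obtain ⟨p, hp, rfl⟩ := List.mem_map.mp hx
  exact ChevAuto.xg_mem E6F4A.GE _ _

end

end Cfsg.Agent.Lib.E6F4B
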