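import Cfsg.Agent.Lib.E6F4B
set_option autoImplicit false
set_option linter.unusedSectionVars false
set_option linter.unusedVariables false
set_option linter.style.haveILetI false

/-!
The group `2E6(2)` has three conjugacy classes of subgroups `F4(2)` fused by the diagonal automorphisms.
-/

namespace Cfsg.Agent.Lib.E6F4C
open Cfsg.Lie Cfsg.Agent.Lib.ChevX Cfsg.Agent.Lib.ChevGood Cfsg.Agent.Lib.ChevRel Cfsg.Agent.Lib.ChevNPerm
  Cfsg.Agent.Lib.E6F4A Cfsg.Agent.Lib.E6F4B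
open scoped MatrixGroups Matrix

universe u

theorem sq_inner_of_card {Γ : Type*} [Group Γ] (h2 : Nat.card (Cfsg.Out Γ) = 2) (β : MulAut Γ) :
    ∃ f, β * β = MulAut.conj f := by
  have h1 : ((β : Cfsg.Out Γ)) ^ 2 = 1 := by
    rw [← h2]
    exact pow_card_eq_one'
  rw [← QuotientGroup.mk_pow] at h1
  have h3 := (QuotientGroup.eq_one_iff (β ^ 2)).mp h1
  obtain ⟨f, hf⟩ := h3
  exact ⟨f, by rw [hf, pow_two]⟩

theorem card_out : Nat.card (Cfsg.Out ↥(chevF4.group (ZMod 2))) = 2 := by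
  haveI : Fact (Nat.Prime 2) := ⟨Nat.prime_two⟩
  have h := Cfsg.Agent.S2122.result (F := ZMod 2) 2 1 (by rw [ZMod.card, pow_one])
  rw [h]
  rfl

section
variable {K : Type u} [Field K] [CharP K 2]

/-- the square of an element normalizing `F4(2)` induces an inner automorphism -/
theorem sq_norm {x : GL chevE6.Idx K} (hx : ∀ z, z ∈ H0 K ↔ x * z * x⁻¹ ∈ H0 K) :
    ∃ h ∈ H0 K, ∀ z ∈ H0 K, (x * x) * z * (x * x)⁻¹ = h * z * h⁻¹ := by
  obtain ⟨e⟩ := iso_H0 K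
  have hxn : x ∈ Subgroup.normalizer (H0 K : Set (GL chevE6.Idx K)) := by
    rw [Subgroup.mem_normalizer_iff]
    exact hx
  let α : MulAut ↥(H0 K) := (H0 K).normalizerMonoidHom ⟨x, hxn⟩
  have hα : ∀ z : ↥(H0 K), ((α z : ↥(H0 K)) : GL chevE6.Idx K) = x * z * x⁻¹ := by
    intro z
    rfl
  let β : MulAut ↥(chevF4.group (ZMod 2)) := (e.symm.trans α).trans e
  obtain ⟨f, hf⟩ := sq_inner_of_card card_out β
  refine ⟨(e.symm f : ↥(H0 K)), (e.symm f).2, ?_⟩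
  intro z hz
  have h1 : (β * β) (e ⟨z, hz⟩) = f * e ⟨z, hz⟩ * f⁻¹ := by rw [hf]; rfl
  have h2 : (β * β) (e ⟨z, hz⟩) = e (α (α ⟨z, hz⟩)) := by
    show e (α (e.symm (e (α (e.symm (e ⟨z, hz⟩)))))) = _
    rw [e.symm_apply_apply, e.symm_apply_apply]
  rw [h2] at h1
  have h3 := congrArg e.symm h1
  rw [e.symm_apply_apply, map_mul, map_mul, map_inv, e.symm_apply_apply] at h3
  have h4 := congrArg (Subtype.val : ↥(H0 K) → GL chevE6.Idx K) h3
  rw [hα, hα] at h4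
  rw [Subgroup.coe_mul, Subgroup.coe_mul, Subgroup.coe_inv] at h4
  rw [← h4]
  group

variable (h3 : ∀ c : K, c ≠ 0 → c ^ 3 = 1)
include h3

theorem cube (a : Kˣ) : a ^ 3 = 1 := by
  apply Units.ext
  rw [Units.val_pow_eq_pow_val, h3 _ a.ne_zero, Units.val_one]

/-- an element of the twisted group cannot fuse the images of `F4(2)` under different diagonal automorphisms -/
theorem fuse {a b : Kˣ} {g : GL chevE6.Idx K} (hg : g ∈ twistedE6 K 2)
    (h : ∀ z, z ∈ H0 K ↔ ((dl b)⁻¹ * g * dl a) * z * ((dl b)⁻¹ * g * dl a)⁻¹ ∈ H0 K) : a = b := by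
  obtain ⟨h0, hh0, hz⟩ := sq_norm h
  set x := (dl b)⁻¹ * g * dl a with hxdef
  set g1 := (dl b)⁻¹ * g * dl b with hg1def
  have hg1 : g1 ∈ twistedE6 K 2 := by
    have := dl_conj_tw h3 b⁻¹ hg
    rw [dl_inv, inv_inv] at this
    exact this
  set c := a * b⁻¹ with hcdef
  have hx : x = g1 * dl c := by
    rw [hxdef, hg1def, hcdef, mul_comm a, dl_mul, dl_inv]
    group
  have hxx : x * x = (g1 * (dl c * g1 * (dl c)⁻¹)) * dl (c * c) := by
    rw [hx, dl_mul c c]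
    group
  have hy : h0⁻¹ * (x * x) = (h0⁻¹ * (g1 * (dl c * g1 * (dl c)⁻¹))) * dl (c * c) := by
    rw [hxx]; group
  have hG : h0⁻¹ * (g1 * (dl c * g1 * (dl c)⁻¹)) ∈ chevE6.group K :=
    tw_le (mul_mem (inv_mem (H0_le hh0)) (mul_mem hg1 (dl_conj_tw h3 c hg1)))
  have hcomm : ∀ z ∈ H0 K, (h0⁻¹ * (x * x)) * z * (h0⁻¹ * (x * x))⁻¹ = z := by
    intro z hz'
    have := hz z hz'
    have e : (h0⁻¹ * (x * x)) * z * (h0⁻¹ * (x * x))⁻¹ = h0⁻¹ * ((x * x) * z * (x * x)⁻¹) * h0 := by group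
    rw [e, this]
    group
  rw [hy] at hcomm
  have hcc : c * c = 1 := by
    apply E6F4A.eq_one_of_comm h3 hG
    · intro i hi
      exact hcomm _ (YL_mem hi)
    · have := hcomm _ L0_mem
      rw [mul_inv_eq_iff_eq_mul] at this ⊢
      exact this.symm
  have hc : c = 1 := by
    have h3c := cube h3 c
    rw [pow_succ, pow_two, hcc, one_mul] at h3c
    exact h3c
  rw [hcdef, mul_inv_eq_one] at hc
  exact hc

theorem three_classes (ω : Kˣ) (hω : ω ≠ 1) : ∃ H : Fin 3 → Subgroup ↥(twistedE6 K 2),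
    (∀ i, Nonempty ((H i) ≃* ↥(chevF4.group (ZMod 2)))) ∧
    (∀ i j, i ≠ j → ∀ g : ↥(twistedE6 K 2), (H i).map (MulAut.conj g).toMonoidHom ≠ H j) := by
  have hle : ∀ i : Fin 3, (H0 K).map (MulAut.conj (dl (ω ^ (i : ℕ)))).toMonoidHom ≤ twistedE6 K 2 := by
    rintro i _ ⟨z, hz, rfl⟩
    exact dl_conj_tw h3 _ (H0_le hz)
  refine ⟨fun i => ((H0 K).map (MulAut.conj (dl (ω ^ (i : ℕ)))).toMonoidHom).subgroupOf (twistedE6 K 2), ?_, ?_⟩
  · intro i
    obtain ⟨e⟩ := iso_H0 K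
    have e1 := Subgroup.subgroupOfEquivOfLe (hle i)
    have e2 := (H0 K).equivMapOfInjective (MulAut.conj (dl (ω ^ (i : ℕ)))).toMonoidHom
      (MulAut.conj (dl (ω ^ (i : ℕ)))).injective
    exact ⟨(e1.trans e2.symm).trans e⟩
  · intro i j hij g hmap
    beta_reduce at hmap
    have hkey : ω ^ (i : ℕ) = ω ^ (j : ℕ) := by
      refine fuse h3 (g := (g : GL chevE6.Idx K)) g.2 ?_
      intro z
      have hiff : ∀ y : ↥(twistedE6 K 2), y ∈ ((H0 K).map (MulAut.conj (dl (ω ^ (i : ℕ)))).toMonoidHom).subgroupOf (twistedE6 K 2) ↔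
          g * y * g⁻¹ ∈ ((H0 K).map (MulAut.conj (dl (ω ^ (j : ℕ)))).toMonoidHom).subgroupOf (twistedE6 K 2) := by
        intro y
        rw [← hmap]
        constructor
        · intro hy
          exact ⟨y, hy, rfl⟩
        · rintro ⟨y', hy', h'⟩
          have : y' = y := (MulAut.conj g).injective h'
          rw [← this]
          exact hy'
      have hmem : ∀ (a : Kˣ) (z : GL chevE6.Idx K), z ∈ (H0 K).map (MulAut.conj (dl a)).toMonoidHom ↔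
          (dl a)⁻¹ * z * dl a ∈ H0 K := by
        intro a z
        constructor
        · rintro ⟨y, hy, rfl⟩
          have : (dl a)⁻¹ * (MulAut.conj (dl a)).toMonoidHom y * dl a = y := by
            show (dl a)⁻¹ * (dl a * y * (dl a)⁻¹) * dl a = y
            group
          rw [this]
          exact hy
        · intro h
          refine ⟨_, h, ?_⟩
          show dl a * ((dl a)⁻¹ * z * dl a) * (dl a)⁻¹ = z
          group
      constructor
      · intro hz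
        have hy : dl (ω ^ (i : ℕ)) * z * (dl (ω ^ (i : ℕ)))⁻¹ ∈ twistedE6 K 2 := hle i ⟨z, hz, rfl⟩
        have h1 := (hiff ⟨_, hy⟩).mp (Subgroup.mem_subgroupOf.mpr (show dl (ω ^ (i : ℕ)) * z * (dl (ω ^ (i : ℕ)))⁻¹ ∈ _ from ⟨z, hz, rfl⟩))
        have h2 := (hmem _ _).mp (Subgroup.mem_subgroupOf.mp h1)
        have e : (dl (ω ^ (j : ℕ)))⁻¹ * ((g * ⟨_, hy⟩ * g⁻¹ : ↥(twistedE6 K 2)) : GL chevE6.Idx K) * dl (ω ^ (j : ℕ)) =
            ((dl (ω ^ (j : ℕ)))⁻¹ * g * dl (ω ^ (i : ℕ))) * z * ((dl (ω ^ (j : ℕ)))⁻¹ * g * dl (ω ^ (i : ℕ)))⁻¹ := by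
          show (dl (ω ^ (j : ℕ)))⁻¹ * ((g : GL chevE6.Idx K) * (dl (ω ^ (i : ℕ)) * z * (dl (ω ^ (i : ℕ)))⁻¹) * (g : GL chevE6.Idx K)⁻¹) * dl (ω ^ (j : ℕ)) = _
          group
        rw [e] at h2
        exact h2
      · intro hz
        set w := ((dl (ω ^ (j : ℕ)))⁻¹ * g * dl (ω ^ (i : ℕ))) * z * ((dl (ω ^ (j : ℕ)))⁻¹ * g * dl (ω ^ (i : ℕ)))⁻¹ with hw
        have hy' : dl (ω ^ (j : ℕ)) * w * (dl (ω ^ (j : ℕ)))⁻¹ ∈ twistedE6 K 2 := hle j ⟨w, hz, rfl⟩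
        have e0 : dl (ω ^ (j : ℕ)) * w * (dl (ω ^ (j : ℕ)))⁻¹ = g * (dl (ω ^ (i : ℕ)) * z * (dl (ω ^ (i : ℕ)))⁻¹) * (g : GL chevE6.Idx K)⁻¹ := by
          rw [hw]; group
        have hy : dl (ω ^ (i : ℕ)) * z * (dl (ω ^ (i : ℕ)))⁻¹ ∈ twistedE6 K 2 := by
          have h5 := mul_mem (mul_mem (inv_mem g.2) hy') g.2
          rw [e0] at h5
          have : (g : GL chevE6.Idx K)⁻¹ * (g * (dl (ω ^ (i : ℕ)) * z * (dl (ω ^ (i : ℕ)))⁻¹) * (g : GL chevE6.Idx K)⁻¹) * g =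
            dl (ω ^ (i : ℕ)) * z * (dl (ω ^ (i : ℕ)))⁻¹ := by group
          rwa [this] at h5
        have h1 := (hiff ⟨_, hy⟩).mpr (by
          apply Subgroup.mem_subgroupOf.mpr
          rw [hmem]
          have e : (dl (ω ^ (j : ℕ)))⁻¹ * ((g * ⟨_, hy⟩ * g⁻¹ : ↥(twistedE6 K 2)) : GL chevE6.Idx K) * dl (ω ^ (j : ℕ)) = w := by
            show (dl (ω ^ (j : ℕ)))⁻¹ * ((g : GL chevE6.Idx K) * (dl (ω ^ (i : ℕ)) * z * (dl (ω ^ (i : ℕ)))⁻¹) * (g : GL chevE6.Idx K)⁻¹) * dl (ω ^ (j : ℕ)) = _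
            rw [hw]
            group
          rw [e]
          exact hz)
        have h2 := (hmem _ _).mp (Subgroup.mem_subgroupOf.mp h1)
        have e : (dl (ω ^ (i : ℕ)))⁻¹ * (dl (ω ^ (i : ℕ)) * z * (dl (ω ^ (i : ℕ)))⁻¹) * dl (ω ^ (i : ℕ)) = z := by group
        rw [show ((⟨dl (ω ^ (i : ℕ)) * z * (dl (ω ^ (i : ℕ)))⁻¹, hy⟩ : ↥(twistedE6 K 2)) : GL chevE6.Idx K) =
          dl (ω ^ (i : ℕ)) * z * (dl (ω ^ (i : ℕ)))⁻¹ from rfl, e] at h2
        exact h2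
    have hord : orderOf ω = 3 := orderOf_eq_prime (cube h3 ω) hω (hp := ⟨Nat.prime_three⟩)
    apply hij
    apply Fin.ext
    exact pow_injOn_Iio_orderOf (by rw [hord]; exact i.2) (by rw [hord]; exact j.2) hkey

end

theorem main {K : Type u} [Field K] [Fintype K] (hK : Fintype.card K = 4) : ∃ H : Fin 3 → Subgroup ↥(twistedE6 K 2),
    (∀ i, Nonempty ((H i) ≃* ↥(chevF4.group (ZMod 2)))) ∧
    (∀ i j, i ≠ j → ∀ g : ↥(twistedE6 K 2), (H i).map (MulAut.conj g).toMonoidHom ≠ H j) := by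
  haveI : Fact (Nat.Prime 2) := ⟨Nat.prime_two⟩
  haveI : CharP K 2 := charP_of_card_eq_prime_pow (f := 2) (by rw [hK]; norm_num)
  have h3 : ∀ c : K, c ≠ 0 → c ^ 3 = 1 := by
    intro c hc
    have := FiniteField.pow_card_sub_one_eq_one c hc
    rwa [hK] at this
  classical
  have hcard : Fintype.card Kˣ = 3 := by
    rw [Fintype.card_units, hK]
  haveI : Nontrivial Kˣ := by
    rw [← Fintype.one_lt_card_iff_nontrivial, hcard]
    norm_num
  obtain ⟨ω, hω⟩ := exists_ne (1 : Kˣ)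
  exact three_classes h3 ω hω

end Cfsg.Agent.Lib.E6F4C
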