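import Cfsg.Agent.Lib.F4Wd
import Cfsg.Prelude.Def_Spor_Fi22
set_option autoImplicit false

/-!
Nine long root elements of `2E6(2)` generating the Fischer group Fi22: words in root elements, packed matrices in the
27-dimensional representation (machine generated).
-/

namespace Cfsg.Agent.Lib.E6Fi22
open Cfsg.Spor Cfsg.Agent.Lib.F4Mat
open Cfsg.Spor.Fi22 (Gen)

/-- tables of the root elements -/

def tb : List (ℕ × List ℕ) := [(0, [0, 0, 0, 0, 131072, 16384, 0, 0, 0, 4194304, 524288, 0, 0, 0, 0, 0, 0, 0, 0, 0, 0,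
  0, 0, 0, 64, 0, 1]), (4, [0, 0, 524288, 0, 0, 262144, 0, 0, 0, 128, 0, 0, 64, 0, 0, 0, 0, 0, 0, 0, 0, 0, 0, 131072,
  0, 0, 65536]), (7, [0, 0, 1, 0, 0, 8, 0, 0, 64, 32768, 65536, 131072, 0, 0, 0, 0, 0, 0, 0, 0, 0, 0, 0, 0, 0, 0, 0]),
  (11, [0, 33554432, 0, 0, 16777216, 0, 0, 0, 0, 0, 0, 256, 0, 0, 0, 0, 0, 64, 0, 0, 8192, 0, 0, 4096, 0, 0, 0]), (15,
  [0, 32768, 4096, 0, 0, 0, 0, 0, 0, 0, 16777216, 2097152, 0, 0, 0, 0, 0, 0, 0, 64, 8, 0, 0, 0, 0, 0, 0]), (16, [0, 0,
  0, 1, 2, 4, 0, 0, 0, 0, 0, 0, 0, 0, 0, 0, 0, 0, 524288, 0, 0, 4194304, 0, 0, 33554432, 0, 0]), (17, [0, 0, 0, 0,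
  1048576, 0, 0, 524288, 0, 4, 0, 0, 0, 0, 0, 1, 0, 0, 0, 0, 0, 16384, 0, 0, 8192, 0, 0]), (32, [0, 0, 0, 0, 0, 0, 0,
  65536, 8192, 67108864, 0, 1048576, 0, 0, 0, 0, 0, 0, 0, 0, 0, 8, 1, 0, 0, 0, 0]), (35, [0, 4, 0, 0, 32, 0, 0, 256,
  0, 0, 0, 0, 0, 0, 0, 4096, 8192, 16384, 0, 0, 0, 0, 0, 0, 0, 0, 0]), (36, [0, 0, 2, 0, 0, 16, 0, 0, 128, 0, 0, 0,
  32768, 65536, 131072, 0, 0, 0, 0, 0, 0, 0, 0, 0, 0, 0, 0]), (39, [4194304, 0, 0, 2097152, 0, 0, 0, 0, 0, 0, 0, 0, 0,
  256, 0, 0, 128, 0, 0, 0, 2048, 0, 0, 0, 0, 0, 512]), (44, [0, 8388608, 0, 0, 0, 0, 0, 2097152, 0, 0, 32, 0, 0, 0, 0,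
  0, 8, 0, 0, 16384, 0, 0, 0, 0, 0, 4096, 0]), (56, [0, 0, 0, 1048576, 0, 0, 524288, 0, 0, 0, 0, 0, 4, 0, 0, 2, 0, 0,
  0, 0, 0, 2048, 0, 0, 1024, 0, 0]), (60, [0, 0, 0, 0, 0, 0, 131072, 0, 2048, 0, 0, 0, 8388608, 1048576, 0, 0, 0, 0,
  0, 0, 0, 0, 0, 0, 16, 2, 0]), (71, [67108864, 0, 0, 0, 0, 0, 16777216, 0, 0, 0, 0, 0, 0, 0, 32, 0, 0, 16, 0, 1024,
  0, 0, 512, 0, 0, 0, 0])]

/-- the words -/
def wd : Gen → List (ℕ × RV)
  | .a => [(4, (1, 0)), (16, (1, 0)), (44, (1, 0)), (16, (1, 0)), (4, (1, 0))]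
  | .b => [(71, (1, 0))]
  | .c => [(0, (1, 0))]
  | .d => [(15, (1, 0)), (35, (1, 0)), (4, (1, 0)), (16, (1, 0)), (7, (1, 1)), (17, (0, 1)), (71, (1, 0)), (17, (0, 1)), (7, (1, 1)), (16, (1, 0)), (4, (1, 0)), (35, (1, 0)), (15, (1, 0))]
  | .e => [(60, (1, 0))]
  | .f => [(11, (1, 0))]
  | .g => [(56, (1, 0)), (36, (1, 0)), (44, (1, 0)), (36, (1, 0)), (56, (1, 0))]
  | .h => [(39, (1, 0))]
  | .i => [(32, (1, 0))]

/-- the packed matrices -/
def Tm : Gen → List RV
| .a => [(1, 0), (8519682, 0), (16388, 0), (8, 0), (8519696, 0), (16416, 0), (64, 0), (6291584, 0), (256, 0),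
  (6291968, 0), (787492, 0), (2048, 0), (4096, 0), (8192, 0), (16384, 0), (32768, 0), (65545, 0), (131072, 0),
  (278528, 0), (540672, 0), (1048576, 0), (2097152, 0), (4194304, 0), (8388608, 0), (16781376, 0), (33558592, 0),
  (67108873, 0)]
| .b => [(67108865, 0), (2, 0), (4, 0), (8, 0), (16, 0), (32, 0), (16777280, 0), (128, 0), (256, 0), (512, 0), (1024,
  0), (2048, 0), (4096, 0), (8192, 0), (16416, 0), (32768, 0), (65536, 0), (131088, 0), (262144, 0), (525312, 0),
  (1048576, 0), (2097152, 0), (4194816, 0), (8388608, 0), (16777216, 0), (33554432, 0), (67108864, 0)]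
| .c => [(1, 0), (2, 0), (4, 0), (8, 0), (131088, 0), (16416, 0), (64, 0), (128, 0), (256, 0), (4194816, 0), (525312,
  0), (2048, 0), (4096, 0), (8192, 0), (16384, 0), (32768, 0), (65536, 0), (131072, 0), (262144, 0), (524288, 0),
  (1048576, 0), (2097152, 0), (4194304, 0), (8388608, 0), (16777280, 0), (33554432, 0), (67108865, 0)]
| .d => [(67182593, 0), (100664322, 65536), (100664324, 67117056), (67182600, 0), (83887120, 67108864), (83887136,
  67108864), (50331712, 8192), (50397312, 33555456), (50340096, 50331648), (67109376, 16778240), (1024, 0), (1051574,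
  262166), (50335744, 8192), (8192, 0), (807021, 9), (50364416, 67174400), (65536, 0), (950363, 1048577), (17114112,
  73728), (34153472, 65536), (68231168, 0), (2134920, 299040), (4232065, 557124), (8425526, 1048584), (16777216, 0),
  (33554432, 0), (67108864, 0)]
| .e => [(1, 0), (2, 0), (4, 0), (8, 0), (16, 0), (32, 0), (131136, 0), (128, 0), (2304, 0), (512, 0), (1024, 0),
  (2048, 0), (8392704, 0), (1056768, 0), (16384, 0), (32768, 0), (65536, 0), (131072, 0), (262144, 0), (524288, 0),
  (1048576, 0), (2097152, 0), (4194304, 0), (8388608, 0), (16777232, 0), (33554434, 0), (67108864, 0)]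
| .f => [(1, 0), (33554434, 0), (4, 0), (8, 0), (16777232, 0), (32, 0), (64, 0), (128, 0), (256, 0), (512, 0), (1024,
  0), (2304, 0), (4096, 0), (8192, 0), (16384, 0), (32768, 0), (65536, 0), (131136, 0), (262144, 0), (524288, 0),
  (1056768, 0), (2097152, 0), (4194304, 0), (8392704, 0), (16777216, 0), (33554432, 0), (67108864, 0)]
| .g => [(1, 0), (8388610, 0), (8388612, 0), (8, 0), (16, 0), (32, 0), (147520, 0), (2099328, 0), (2099456, 0), (512,
  0), (1072, 0), (2048, 0), (8392704, 0), (1056776, 0), (16384, 0), (8421376, 0), (1114120, 0), (131072, 0), (262144,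
  0), (671744, 0), (1048576, 0), (2097152, 0), (4194304, 0), (8388608, 0), (16777264, 0), (33591302, 0), (67108864,
  0)]
| .h => [(4194305, 0), (2, 0), (4, 0), (2097160, 0), (16, 0), (32, 0), (64, 0), (128, 0), (256, 0), (512, 0), (1024,
  0), (2048, 0), (4096, 0), (8448, 0), (16384, 0), (32768, 0), (65664, 0), (131072, 0), (262144, 0), (524288, 0),
  (1050624, 0), (2097152, 0), (4194304, 0), (8388608, 0), (16777216, 0), (33554432, 0), (67109376, 0)]
| .i => [(1, 0), (2, 0), (4, 0), (8, 0), (16, 0), (32, 0), (64, 0), (65664, 0), (8448, 0), (67109376, 0), (1024, 0),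
  (1050624, 0), (4096, 0), (8192, 0), (16384, 0), (32768, 0), (65536, 0), (131072, 0), (262144, 0), (524288, 0),
  (1048576, 0), (2097160, 0), (4194305, 0), (8388608, 0), (16777216, 0), (33554432, 0), (67108864, 0)]

def sp : List RV := [(2304, 0), (4720128, 0), (38274566, 4197120), (6294272, 0), (4851216, 4194816), (63489638,
  6294272), (50331666, 2304), (24086224, 38276866), (104834790, 40535622), (76644737, 53218630), (527490, 128),
  (88228465, 16908368), (49157734, 6294272), (2944, 0), (25301072, 0), (23987792, 2304), (128, 0), (16908368, 0),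
  (56789842, 4194816), (33556738, 0), (4194816, 0), (82852617, 8409120), (9451776, 16908368), (16924784, 0),
  (57573440, 4194560), (33555970, 128), (4196992, 0)]
def sp5 : List RV := [(1654792, 72515591), (1181712, 8388608), (8930338, 80742919), (68452353, 77840441), (8388610,
  9570306), (75760148, 70274620), (34394112, 54997377), (4491776, 6915714), (39850624, 53230788), (2100384, 71338518),
  (67371542, 67700404), (8388610, 9568274), (16834916, 115393065), (100732937, 52237644), (12976133, 8013869),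
  (10682522, 71467537), (68452353, 67732619), (8388610, 9439250), (2835640, 4017320), (4587527, 4932741), (8388610,
  8521746), (4491776, 14860984), (2640000, 4360711), (1181712, 2), (33854496, 101004240), (17343812, 627842),
  (1115176, 68190743)]
def ea : List RV := [(67109376, 0), (36918, 70331272), (54, 1050624), (70322824, 0), (7082093, 6291465), (15613997,
  6291465), (16, 0), (75598490, 8683570), (1048594, 18), (9, 9306148), (14827529, 6291465), (51391158, 50593814),
  (8388626, 1050624), (1050624, 0), (67110448, 67109376), (32786, 67175040), (3147784, 0), (83887616, 67109376),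
  (68487840, 68225664), (67109424, 67109376), (67183488, 0), (8424072, 8683552), (67108864, 1040), (50368566,
  3156232), (8519680, 0), (8388608, 1050624), (6291465, 0)]
def ea3 : List RV := [(13738249, 36598028), (11465032, 48206084), (25202784, 4210952), (133980196, 21426433),
  (92938197, 75537281), (101617639, 76853289), (72240825, 79727241), (3981048, 71457517), (52175950, 130846415),
  (68430753, 35565550), (119504961, 126988333), (58516638, 124290591), (122179311, 76865577), (127000676, 51281984),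
  (105567799, 74459913), (115748821, 37370541), (28744, 20544), (46845957, 6299913), (14569117, 54319780), (8339457,
  15826945), (13734144, 36577548), (14686976, 8409120), (82879361, 46038334), (132929055, 74459913), (51281993, 8193),
  (9322532, 77545516), (126980133, 51281984)]
def eb : List RV := [(67109376, 0), (100701750, 3213448), (67110454, 68160000), (67175040, 0), (107746925, 73409289),
  (74188333, 73400841), (16, 0), (9502746, 8389682), (9437202, 8388626), (69239425, 574500), (11223178, 3213448),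
  (52474504, 50630688), (18, 1050624), (1050624, 0), (67110400, 67109376), (32786, 70322824), (3213448, 0), (83887616,
  67109376), (2426024, 2162824), (1072, 0), (67183488, 0), (2130568, 294944), (67108864, 1056), (50331648, 8448),
  (8519682, 1050624), (8388610, 0), (6357129, 0)]
def eb3 : List RV := [(67174427, 9306166), (41435342, 12446090), (118279827, 83159081), (83669082, 16046201),
  (103056984, 67117824), (105383427, 72362753), (9306175, 1048585), (71993193, 133983311), (60732498, 133043931),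
  (78688393, 43842850), (21360180, 13201907), (47982034, 115885659), (132830971, 68476961), (76742674, 9306166),
  (126750339, 76849185), (83287787, 1630883), (7319617, 16308303), (76156565, 75532929), (132261934, 77107955),
  (50400956, 8757306), (14780424, 10274818), (12589824, 8409120), (68430505, 60698242), (107775579, 72362753),
  (59166834, 7627432), (124311264, 647180), (76363859, 15224955)]
/-- rows of the orbit basis -/
def Rr : List RV := [(294924, 0), (2392076, 0), (2364292, 299040), (2392068, 0),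
  (6558596, 315424), (10754948, 8687648), (69546892, 299040), (6558084, 315392), (73741197, 315424), (10750596,
  8683552), (78986124, 8687648), (67448844, 299040), (6631821, 315392), (67448845, 315424), (78973580, 8683552),
  (76886028, 8687648), (339981, 315392), (266244, 573508), (76873740, 8683552), (8683570, 8650774), (266244,
  17351780), (8654852, 704580), (59019314, 58986518), (266244, 16811044), (8654852, 17482868), (8650756, 704516),
  (8650756, 705588)]
/-- the inverse -/
def Qr : List RV := [(340, 0), (27341200, 20859460), (80351, 9881120), (10, 0), (20054016,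
  20054016), (78224, 78224), (35964448, 35651584), (392515, 0), (312320, 0), (78080, 0), (120795536, 120795536),
  (35904, 0), (0, 312864), (17952, 0), (10580, 10580), (9648607, 9961460), (22526, 0), (2264164, 2228224), (9568267,
  80340), (45412212, 45099348), (1124, 0), (3, 0), (10560, 0), (0, 35940), (119537664, 119537664), (119537664,
  124569120), (4496, 0)]
/-- steps -/
def stp : List (ℕ × Gen) := [(0, .h), (1, .d), (1, .i), (2, .c), (2, .e), (2, .i), (4, .b), (4, .i), (5,
  .f), (5, .i), (6, .h), (7, .i), (8, .h), (9, .i), (10, .h), (12, .h), (13, .d), (14, .h), (15, .d), (16, .d), (17,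
  .e), (18, .d), (20, .c), (20, .e), (21, .f), (24, .f)]
/-- column -/
def wc : List RV := [(0, 0), (0, 0), (1, 0), (0, 0), (0, 0), (0, 0), (0, 0), (0, 0), (0, 0), (0, 0), (0,
  0), (0, 0), (0, 0), (0, 0), (0, 0), (0, 0), (0, 0), (0, 0), (0, 0), (0, 0), (0, 0), (0, 0), (0, 0), (0, 0), (0, 0),
  (0, 0), (0, 0)]
def Cb : List RV := [(0, 0), (0, 0), (0, 0), (0, 0), (10616832, 2097152), (2113536, 2097152), (0, 0), (0, 0), (0, 0),
  (4194304, 0), (819200, 8), (0, 0), (0, 0), (0, 0), (0, 0), (0, 0), (0, 0), (0, 0), (0, 0), (0, 0), (0, 0), (0, 0),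
  (0, 0), (0, 0), (32832, 8), (0, 0), (9, 0)]
def Cc : List RV := [(67108864, 0), (0, 0), (0, 0), (0, 0), (0, 0), (0, 0), (16777216, 0), (0, 0), (0, 0), (0, 0), (0,
  0), (0, 0), (0, 0), (0, 0), (262184, 8), (0, 0), (0, 0), (262168, 8), (0, 0), (1024, 0), (0, 0), (0, 0), (520,
  262144), (0, 0), (0, 0), (0, 0), (0, 0)]
def Cd : List RV := [(0, 0), (8388608, 2097152), (0, 0), (2097152, 0), (0, 0), (0, 0), (0, 0), (0, 0), (0, 0), (0, 0),
  (262152, 8), (0, 0), (0, 0), (32776, 32768), (0, 0), (0, 0), (32768, 32768), (0, 0), (0, 0), (0, 0), (0, 0), (0, 0),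
  (0, 0), (0, 0), (0, 0), (0, 0), (0, 0)]
def Ce : List RV := [(0, 0), (33554432, 0), (0, 0), (0, 0), (0, 0), (0, 0), (0, 0), (0, 0), (0, 0), (0, 0), (0, 0),
  (384, 262144), (0, 0), (0, 0), (0, 0), (0, 0), (0, 0), (0, 0), (0, 0), (0, 0), (73728, 0), (0, 0), (0, 0), (36864,
  8), (0, 0), (0, 0), (0, 0)]
def Cf : List RV := [(0, 0), (0, 0), (0, 0), (0, 0), (0, 0), (0, 0), (0, 0), (0, 0), (10487808, 8388608), (0, 0), (0,
  0), (0, 0), (0, 0), (1048584, 0), (0, 0), (0, 0), (0, 0), (0, 0), (0, 0), (0, 0), (0, 0), (0, 0), (0, 0), (0, 0),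
  (0, 0), (294922, 8), (0, 0)]
def Cg : List RV := [(0, 0), (0, 0), (0, 0), (65536, 0), (0, 0), (0, 0), (0, 0), (0, 0), (0, 0), (0, 0), (0, 0),
  (32904, 294912), (0, 0), (0, 0), (0, 0), (0, 0), (0, 0), (0, 0), (0, 0), (0, 0), (0, 0), (0, 0), (0, 0), (0, 0), (0,
  0), (0, 0), (0, 0)]

def allG : List Gen := [.a, .b, .c, .d, .e, .f, .g, .h, .i]

theorem mem_allG (x : Gen) : x ∈ allG := by cases x <;> simp [allG]

theorem c_ok : (allG.all fun x => okw tb (wd x)) = true := by decide +kernel

theorem c_mt : (allG.all fun x => eqL (mtw tb (wd x)) (Tm x)) = true := by decide +kernel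

theorem c_cox : (allG.all fun x => allG.all fun y => eqL (powL (mulL (Tm x) (Tm y)) (coxLabel Fi22.edges x y)) idL) = true := by
  decide +kernel

theorem c_sp : eqL (mulL (Tm .d) (mulL (Tm .c) (mulL (Tm .b) (mulL (Tm .d) (mulL (Tm .e) (mulL (Tm .f) (mulL (Tm .d)
    (mulL (Tm .h) (Tm .i))))))))) sp = true := by decide +kernel

theorem c_sp5 : eqL (powL sp 5) sp5 = true := by decide +kernel

theorem c_sp10 : eqL (mulL sp5 sp5) (scL (1, 1)) = true := by decide +kernel

theorem c_ea : eqL (mulL (Tm .a) (mulL (Tm .b) (mulL (Tm .c) (mulL (Tm .d) (mulL (Tm .e) (mulL (Tm .f) (Tm .h))))))) ea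
    = true := by decide +kernel

theorem c_ea3 : eqL (powL ea 3) ea3 = true := by decide +kernel

theorem c_ea9 : eqL (powL ea3 3) idL = true := by decide +kernel

theorem c_eb : eqL (mulL (Tm .b) (mulL (Tm .c) (mulL (Tm .d) (mulL (Tm .e) (mulL (Tm .f) (mulL (Tm .g) (Tm .h))))))) eb
    = true := by decide +kernel

theorem c_eb3 : eqL (powL eb 3) eb3 = true := by decide +kernel

theorem c_eb9 : eqL (powL eb3 3) idL = true := by decide +kernel

/-- the first row is fixed by `b, …, g` -/
theorem c_fix : ([Gen.b, .c, .d, .e, .f, .g].all fun x => eqL (mulL [Rr.getD 0 (0, 0)] (Tm x)) [Rr.getD 0 (0, 0)]) = true := by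
  decide +kernel

/-- the rows are in the orbit -/
def stepsOk : ℕ → List (ℕ × Gen) → Bool
  | _, [] => true
  | n, s :: l => Nat.blt s.1 n && (eqL (mulL [Rr.getD s.1 (0, 0)] (Tm s.2)) [Rr.getD n (0, 0)] && stepsOk (n + 1) l)

theorem c_steps : stepsOk 1 stp = true := by decide +kernel

theorem c_noa : (stp.all fun s => !decide (s.2 = .a)) = true := by decide +kernel

theorem c_len : stp.length = 26 := by decide

theorem c_inv : eqL (mulL Qr Rr) idL = true := by decide +kernel

theorem c_lenR : Rr.length = 27 := by decide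

/-- uniqueness of the fixed row -/
theorem c_uniq : eqL (addL (mulL (addL (Tm .b) idL) Cb) (addL (mulL (addL (Tm .c) idL) Cc) (addL (mulL (addL (Tm .d) idL) Cd)
    (addL (mulL (addL (Tm .e) idL) Ce) (addL (mulL (addL (Tm .f) idL) Cf) (addL (mulL (addL (Tm .g) idL) Cg)
    (mulL wc [Rr.getD 0 (0, 0)]))))))) idL = true := by decide +kernel

theorem c_len27 : (allG.all fun x => Nat.beq (Tm x).length 27) = true := by decide +kernel

end Cfsg.Agent.Lib.E6Fi22
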