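import Cfsg.Agent.Lib.E6F4C
set_option autoImplicit false
set_option linter.unusedSectionVars false
set_option linter.unusedVariables false
set_option linter.style.haveILetI false

/-!
The group `2E6(2)` has three conjugacy classes of subgroups `F4(2)` fused by the diagonal automorphisms.
-/

namespace Cfsg.Agent.Lib.E6Three
open Cfsg.Lie Cfsg.Agent.Lib.ChevX Cfsg.Agent.Lib.ChevGood Cfsg.Agent.Lib.ChevRel Cfsg.Agent.Lib.ChevNPerm
  Cfsg.Agent.Lib.E6F4A Cfsg.Agent.Lib.E6F4B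
open scoped MatrixGroups Matrix

universe u

section
variable {K : Type u} [Field K] [CharP K 2]

/-- the square of an element normalizing `H` induces an inner automorphism -/
theorem sq_norm {HH : Subgroup (GL chevE6.Idx K)} (hsq : ∀ β : MulAut ↥HH, ∃ f, β * β = MulAut.conj f)
    {x : GL chevE6.Idx K} (hx : ∀ z, z ∈ HH ↔ x * z * x⁻¹ ∈ HH) :
    ∃ h ∈ HH, ∀ z ∈ HH, (x * x) * z * (x * x)⁻¹ = h * z * h⁻¹ := by
  have hxn : x ∈ Subgroup.normalizer (HH : Set (GL chevE6.Idx K)) := by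
    rw [Subgroup.mem_normalizer_iff]
    exact hx
  let α : MulAut ↥(HH) := (HH).normalizerMonoidHom ⟨x, hxn⟩
  have hα : ∀ z : ↥(HH), ((α z : ↥(HH)) : GL chevE6.Idx K) = x * z * x⁻¹ := by
    intro z
    rfl
  obtain ⟨f, hf⟩ := hsq α
  refine ⟨f, f.2, ?_⟩
  intro z hz
  have h1 : (α * α) ⟨z, hz⟩ = f * ⟨z, hz⟩ * f⁻¹ := by rw [hf]; rfl
  have h2 : (α * α) ⟨z, hz⟩ = α (α ⟨z, hz⟩) := rfl
  rw [h2] at h1
  have h4 := congrArg (Subtype.val : ↥HH → GL chevE6.Idx K) h1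
  rw [hα, hα] at h4
  rw [Subgroup.coe_mul, Subgroup.coe_mul, Subgroup.coe_inv] at h4
  rw [← h4]
  group

variable (h3 : ∀ c : K, c ≠ 0 → c ^ 3 = 1)
include h3

theorem cube (a : Kˣ) : a ^ 3 = 1 := by
  apply Units.ext
  rw [Units.val_pow_eq_pow_val, h3 _ a.ne_zero, Units.val_one]

/-- an element of the twisted group cannot fuse the images of `HH` under different diagonal automorphisms -/
theorem fuse {HH : Subgroup (GL chevE6.Idx K)} (hle : HH ≤ twistedE6 K 2) (hsq : ∀ β : MulAut ↥HH, ∃ f, β * β = MulAut.conj f)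
    (hcent : ∀ g ∈ chevE6.group K, ∀ a : Kˣ, (∀ z ∈ HH, (g * dl a) * z * (g * dl a)⁻¹ = z) → a = 1)
    {a b : Kˣ} {g : GL chevE6.Idx K} (hg : g ∈ twistedE6 K 2)
    (h : ∀ z, z ∈ HH ↔ ((dl b)⁻¹ * g * dl a) * z * ((dl b)⁻¹ * g * dl a)⁻¹ ∈ HH) : a = b := by
  obtain ⟨h0, hh0, hz⟩ := sq_norm hsq h
  set x := (dl b)⁻¹ * g * dl a with hxdef
  set g1 := (dl b)⁻¹ * g * dl b with hg1def
  have hg1 : g1 ∈ twistedE6 K 2 := by
    have := dl_conj_tw h3 b⁻¹ hg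
    rw [dl_inv, inv_inv] at this
    exact this
  set c := a * b⁻¹ with hcdef
  have hx : x = g1 * dl c := by
    rw [hxdef, hg1def, hcdef, mul_comm a, dl_mul, dl_inv]
    group
  have hxx : x * x = (g1 * (dl c * g1 * (dl c)⁻¹)) * dl (c * c) := by
    rw [hx, dl_mul c c]
    group
  have hy : h0⁻¹ * (x * x) = (h0⁻¹ * (g1 * (dl c * g1 * (dl c)⁻¹))) * dl (c * c) := by
    rw [hxx]; group
  have hG : h0⁻¹ * (g1 * (dl c * g1 * (dl c)⁻¹)) ∈ chevE6.group K :=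
    tw_le (mul_mem (inv_mem (hle hh0)) (mul_mem hg1 (dl_conj_tw h3 c hg1)))
  have hcomm : ∀ z ∈ HH, (h0⁻¹ * (x * x)) * z * (h0⁻¹ * (x * x))⁻¹ = z := by
    intro z hz'
    have := hz z hz'
    have e : (h0⁻¹ * (x * x)) * z * (h0⁻¹ * (x * x))⁻¹ = h0⁻¹ * ((x * x) * z * (x * x)⁻¹) * h0 := by group
    rw [e, this]
    group
  rw [hy] at hcomm
  have hcc : c * c = 1 := hcent _ hG _ hcomm
  have hc : c = 1 := by
    have h3c := cube h3 c
    rw [pow_succ, pow_two, hcc, one_mul] at h3c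
    exact h3c
  rw [hcdef, mul_inv_eq_one] at hc
  exact hc

theorem three_classes {HH : Subgroup (GL chevE6.Idx K)} (hHle : HH ≤ twistedE6 K 2)
    (hsq : ∀ β : MulAut ↥HH, ∃ f, β * β = MulAut.conj f)
    (hcent : ∀ g ∈ chevE6.group K, ∀ a : Kˣ, (∀ z ∈ HH, (g * dl a) * z * (g * dl a)⁻¹ = z) → a = 1)
    (ω : Kˣ) (hω : ω ≠ 1) : ∃ H : Fin 3 → Subgroup ↥(twistedE6 K 2),
    (∀ i, Nonempty ((H i) ≃* ↥HH)) ∧
    (∀ i j, i ≠ j → ∀ g : ↥(twistedE6 K 2), (H i).map (MulAut.conj g).toMonoidHom ≠ H j) := by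
  have hle : ∀ i : Fin 3, HH.map (MulAut.conj (dl (ω ^ (i : ℕ)))).toMonoidHom ≤ twistedE6 K 2 := by
    rintro i _ ⟨z, hz, rfl⟩
    exact dl_conj_tw h3 _ (hHle hz)
  refine ⟨fun i => (HH.map (MulAut.conj (dl (ω ^ (i : ℕ)))).toMonoidHom).subgroupOf (twistedE6 K 2), ?_, ?_⟩
  · intro i
    have e1 := Subgroup.subgroupOfEquivOfLe (hle i)
    have e2 := HH.equivMapOfInjective (MulAut.conj (dl (ω ^ (i : ℕ)))).toMonoidHom
      (MulAut.conj (dl (ω ^ (i : ℕ)))).injective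
    exact ⟨e1.trans e2.symm⟩
  · intro i j hij g hmap
    beta_reduce at hmap
    have hkey : ω ^ (i : ℕ) = ω ^ (j : ℕ) := by
      refine fuse h3 hHle hsq hcent (g := (g : GL chevE6.Idx K)) g.2 ?_
      intro z
      have hiff : ∀ y : ↥(twistedE6 K 2), y ∈ (HH.map (MulAut.conj (dl (ω ^ (i : ℕ)))).toMonoidHom).subgroupOf (twistedE6 K 2) ↔
          g * y * g⁻¹ ∈ (HH.map (MulAut.conj (dl (ω ^ (j : ℕ)))).toMonoidHom).subgroupOf (twistedE6 K 2) := by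
        intro y
        rw [← hmap]
        constructor
        · intro hy
          exact ⟨y, hy, rfl⟩
        · rintro ⟨y', hy', h'⟩
          have : y' = y := (MulAut.conj g).injective h'
          rw [← this]
          exact hy'
      have hmem : ∀ (a : Kˣ) (z : GL chevE6.Idx K), z ∈ HH.map (MulAut.conj (dl a)).toMonoidHom ↔
          (dl a)⁻¹ * z * dl a ∈ HH := by
        intro a z
        constructor
        · rintro ⟨y, hy, rfl⟩
          have : (dl a)⁻¹ * (MulAut.conj (dl a)).toMonoidHom y * dl a = y := by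
            show (dl a)⁻¹ * (dl a * y * (dl a)⁻¹) * dl a = y
            group
          rw [this]
          exact hy
        · intro h
          refine ⟨_, h, ?_⟩
          show dl a * ((dl a)⁻¹ * z * dl a) * (dl a)⁻¹ = z
          group
      constructor
      · intro hz
        have hy : dl (ω ^ (i : ℕ)) * z * (dl (ω ^ (i : ℕ)))⁻¹ ∈ twistedE6 K 2 := hle i ⟨z, hz, rfl⟩
        have h1 := (hiff ⟨_, hy⟩).mp (Subgroup.mem_subgroupOf.mpr (show dl (ω ^ (i : ℕ)) * z * (dl (ω ^ (i : ℕ)))⁻¹ ∈ _ from ⟨z, hz, rfl⟩))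
        have h2 := (hmem _ _).mp (Subgroup.mem_subgroupOf.mp h1)
        have e : (dl (ω ^ (j : ℕ)))⁻¹ * ((g * ⟨_, hy⟩ * g⁻¹ : ↥(twistedE6 K 2)) : GL chevE6.Idx K) * dl (ω ^ (j : ℕ)) =
            ((dl (ω ^ (j : ℕ)))⁻¹ * g * dl (ω ^ (i : ℕ))) * z * ((dl (ω ^ (j : ℕ)))⁻¹ * g * dl (ω ^ (i : ℕ)))⁻¹ := by
          show (dl (ω ^ (j : ℕ)))⁻¹ * ((g : GL chevE6.Idx K) * (dl (ω ^ (i : ℕ)) * z * (dl (ω ^ (i : ℕ)))⁻¹) * (g : GL chevE6.Idx K)⁻¹) * dl (ω ^ (j : ℕ)) = _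
          group
        rw [e] at h2
        exact h2
      · intro hz
        set w := ((dl (ω ^ (j : ℕ)))⁻¹ * g * dl (ω ^ (i : ℕ))) * z * ((dl (ω ^ (j : ℕ)))⁻¹ * g * dl (ω ^ (i : ℕ)))⁻¹ with hw
        have hy' : dl (ω ^ (j : ℕ)) * w * (dl (ω ^ (j : ℕ)))⁻¹ ∈ twistedE6 K 2 := hle j ⟨w, hz, rfl⟩
        have e0 : dl (ω ^ (j : ℕ)) * w * (dl (ω ^ (j : ℕ)))⁻¹ = g * (dl (ω ^ (i : ℕ)) * z * (dl (ω ^ (i : ℕ)))⁻¹) * (g : GL chevE6.Idx K)⁻¹ := by
          rw [hw]; group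
        have hy : dl (ω ^ (i : ℕ)) * z * (dl (ω ^ (i : ℕ)))⁻¹ ∈ twistedE6 K 2 := by
          have h5 := mul_mem (mul_mem (inv_mem g.2) hy') g.2
          rw [e0] at h5
          have : (g : GL chevE6.Idx K)⁻¹ * (g * (dl (ω ^ (i : ℕ)) * z * (dl (ω ^ (i : ℕ)))⁻¹) * (g : GL chevE6.Idx K)⁻¹) * g =
            dl (ω ^ (i : ℕ)) * z * (dl (ω ^ (i : ℕ)))⁻¹ := by group
          rwa [this] at h5
        have h1 := (hiff ⟨_, hy⟩).mpr (by
          apply Subgroup.mem_subgroupOf.mpr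
          rw [hmem]
          have e : (dl (ω ^ (j : ℕ)))⁻¹ * ((g * ⟨_, hy⟩ * g⁻¹ : ↥(twistedE6 K 2)) : GL chevE6.Idx K) * dl (ω ^ (j : ℕ)) = w := by
            show (dl (ω ^ (j : ℕ)))⁻¹ * ((g : GL chevE6.Idx K) * (dl (ω ^ (i : ℕ)) * z * (dl (ω ^ (i : ℕ)))⁻¹) * (g : GL chevE6.Idx K)⁻¹) * dl (ω ^ (j : ℕ)) = _
            rw [hw]
            group
          rw [e]
          exact hz)
        have h2 := (hmem _ _).mp (Subgroup.mem_subgroupOf.mp h1)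
        have e : (dl (ω ^ (i : ℕ)))⁻¹ * (dl (ω ^ (i : ℕ)) * z * (dl (ω ^ (i : ℕ)))⁻¹) * dl (ω ^ (i : ℕ)) = z := by group
        rw [show ((⟨dl (ω ^ (i : ℕ)) * z * (dl (ω ^ (i : ℕ)))⁻¹, hy⟩ : ↥(twistedE6 K 2)) : GL chevE6.Idx K) =
          dl (ω ^ (i : ℕ)) * z * (dl (ω ^ (i : ℕ)))⁻¹ from rfl, e] at h2
        exact h2
    have hord : orderOf ω = 3 := orderOf_eq_prime (cube h3 ω) hω (hp := ⟨Nat.prime_three⟩)
    apply hij
    apply Fin.ext
    exact pow_injOn_Iio_orderOf (by rw [hord]; exact i.2) (by rw [hord]; exact j.2) hkey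

end

theorem main {K : Type u} [Field K] [CharP K 2] [Fintype K] (hK : Fintype.card K = 4) {HH : Subgroup (GL chevE6.Idx K)} (hHle : HH ≤ twistedE6 K 2)
    (hsq : ∀ β : MulAut ↥HH, ∃ f, β * β = MulAut.conj f)
    (hcent : ∀ g ∈ chevE6.group K, ∀ a : Kˣ, (∀ z ∈ HH, (g * dl a) * z * (g * dl a)⁻¹ = z) → a = 1) :
    ∃ H : Fin 3 → Subgroup ↥(twistedE6 K 2),
    (∀ i, Nonempty ((H i) ≃* ↥HH)) ∧
    (∀ i j, i ≠ j → ∀ g : ↥(twistedE6 K 2), (H i).map (MulAut.conj g).toMonoidHom ≠ H j) := by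
  have h3 : ∀ c : K, c ≠ 0 → c ^ 3 = 1 := by
    intro c hc
    have := FiniteField.pow_card_sub_one_eq_one c hc
    rwa [hK] at this
  classical
  have hcard : Fintype.card Kˣ = 3 := by
    rw [Fintype.card_units, hK]
  haveI : Nontrivial Kˣ := by
    rw [← Fintype.one_lt_card_iff_nontrivial, hcard]
    norm_num
  obtain ⟨ω, hω⟩ := exists_ne (1 : Kˣ)
  exact three_classes h3 hHle hsq hcent ω hω

end Cfsg.Agent.Lib.E6Three
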