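import Cfsg.Agent.Lib.E6Fi22Irr
import Cfsg.Agent.Lib.E6Three
import Cfsg.Agent.Lib.ChevPG1
import Cfsg.Agent.S1696
set_option autoImplicit false
set_option linter.unusedSectionVars false
set_option linter.unusedVariables false
set_option linter.style.haveILetI false

/-!
The Fischer group Fi22 in the group `2E6(2)`.
-/

namespace Cfsg.Agent.Lib.E6Fi22
open Cfsg.Lie Cfsg.Spor Cfsg.Agent.Lib.F4Mat Cfsg.Agent.Lib.E6Pair Cfsg.Agent.Lib.ChevRel Cfsg.Agent.Lib.ChevNPerm
  Cfsg.Agent.Lib.E6F4A Cfsg.Agent.Lib.TwTab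
open Cfsg.Spor.Fi22 (Gen)
open scoped MatrixGroups Matrix

universe u

section
variable {K : Type u} [Field K] [CharP K 2] {ω : K}

/-- the generators in the Steinberg group -/
noncomputable def ss (ω : K) (x : Gen) : chevE6.SteinbergGroup K := sw (evw ω (wd x))

theorem φ_lift (r : FreeGroup Gen) : φ K (FreeGroup.lift (ss ω) r) = FreeGroup.lift (FF ω) r := by
  have h : (φ K).comp (FreeGroup.lift (ss ω)) = FreeGroup.lift (FF ω) := by
    apply FreeGroup.ext_hom
    intro x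
    rw [MonoidHom.comp_apply, FreeGroup.lift_apply_of, FreeGroup.lift_apply_of]
    exact φ_sw _
  exact DFunLike.congr_fun h r

variable (hω : ω ^ 2 = ω + 1)
include hω

theorem rels {r : FreeGroup Gen} (hr : r ∈ coxRelators Fi22.edges ∪ {r | r ∈ Fi22.extra}) :
    ∃ c : K, ((FreeGroup.lift (FF ω) r : GL I27 K) : Matrix I27 I27 K) = c • (1 : Matrix I27 I27 K) := by
  rcases hr with ⟨x, -, y, -, rfl⟩ | hr
  · refine ⟨1, ?_⟩
    rw [map_pow, map_mul, FreeGroup.lift_apply_of, FreeGroup.lift_apply_of, cox hω, one_smul, Units.val_one]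
  · have hr' : r ∈ Fi22.extra := hr
    unfold Fi22.extra at hr'
    simp only [List.mem_cons, List.not_mem_nil, or_false] at hr'
    rcases hr' with rfl | rfl | rfl
    · refine ⟨cv ω (1, 1), ?_⟩
      simp only [map_pow, map_mul, FreeGroup.lift_apply_of]
      exact spider hω
    · refine ⟨1, ?_⟩
      simp only [map_pow, map_mul, FreeGroup.lift_apply_of]
      rw [e7a hω, one_smul, Units.val_one]
    · refine ⟨1, ?_⟩
      simp only [map_pow, map_mul, FreeGroup.lift_apply_of]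
      rw [e7b hω, one_smul, Units.val_one]

theorem rels_one {r : FreeGroup Gen} (hr : r ∈ coxRelators Fi22.edges ∪ {r | r ∈ Fi22.extra}) :
    FreeGroup.lift (fun x => θ K (ss ω x)) r = 1 := by
  have h : (θ K).comp (FreeGroup.lift (ss ω)) = FreeGroup.lift (fun x => θ K (ss ω x)) := by
    apply FreeGroup.ext_hom
    intro x
    rw [MonoidHom.comp_apply, FreeGroup.lift_apply_of, FreeGroup.lift_apply_of]
  rw [← h, MonoidHom.comp_apply]
  apply eq_one_of_scalar
  intro v
  obtain ⟨c, hc⟩ := rels hω hr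
  rw [φ_lift]
  apply Units.ext
  rw [Units.val_mul, Units.val_mul, hc, Matrix.smul_mul, Matrix.mul_smul, Matrix.one_mul, Matrix.mul_one]

/-- the homomorphism -/
noncomputable def Ψ0 : Spor.Fi22 →* ↥(chevE6.group K) := PresentedGroup.toGroup (f := fun x => θ K (ss ω x)) fun r hr => rels_one hω hr

noncomputable def Ψ : Spor.Fi22 →* GL chevE6.Idx K := (chevE6.group K).subtype.comp (Ψ0 hω)

theorem wd_lt (x : Gen) : ∀ p ∈ evw ω (wd x), p.1 < chevE6.nroots := by
  intro p hp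
  obtain ⟨q, hq, rfl⟩ := List.mem_map.mp hp
  have h := c_ok
  rw [List.all_eq_true] at h
  have h1 := h x (mem_allG x)
  unfold okw at h1
  rw [List.all_eq_true] at h1
  have h2 := h1 q hq
  rw [Bool.and_eq_true] at h2
  exact Nat.le_of_ble_eq_true h2.1

theorem Ψ_of (x : Gen) : Ψ hω (PresentedGroup.of x) = wg chevE6 K (evw ω (wd x)) := by
  show ((Ψ0 hω (PresentedGroup.of x) : ↥(chevE6.group K)) : GL chevE6.Idx K) = _
  unfold Ψ0
  rw [PresentedGroup.toGroup.of]
  exact θ_sw (wd_lt hω x)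

theorem simpleFi22 : IsSimpleGroup Spor.Fi22 := Cfsg.Agent.S1696.result.1

theorem Ψ_inj : Function.Injective (Ψ hω) := by
  haveI := simpleFi22 hω
  rw [← MonoidHom.ker_eq_bot_iff]
  rcases (inferInstance : (Ψ hω).ker.Normal).eq_bot_or_eq_top with h | h
  · exact h
  · exfalso
    have h1 : (PresentedGroup.of Gen.b : Spor.Fi22) ∈ (Ψ hω).ker := by rw [h]; trivial
    rw [MonoidHom.mem_ker, Ψ_of hω] at h1
    have h2 : wg chevE6 K (evw ω (wd Gen.b)) = xg chevE6 K 71 1 := by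
      simp [wg, evw, wd, cv]
    rw [h2, ← xg_zero GE 71] at h1
    exact one_ne_zero (ChevRel.xg_inj GE (by decide : 71 < chevE6.nroots) h1)

/-! ### the image is in the twisted group -/

omit [CharP K 2] hω in
theorem wg_append (w w' : List (ℕ × K)) : wg chevE6 K (w ++ w') = wg chevE6 K w * wg chevE6 K w' := by
  unfold wg
  rw [List.map_append, List.prod_append]

omit hω in
theorem wg_reverse (w : List (ℕ × K)) : wg chevE6 K w.reverse = (wg chevE6 K w)⁻¹ := by
  induction w with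
  | nil => simp [wg]
  | cons x w ih =>
    have h1 : wg chevE6 K (x :: w) = xg chevE6 K x.1 x.2 * wg chevE6 K w := by simp [wg]
    have h2 : wg chevE6 K [x] = xg chevE6 K x.1 x.2 := by simp [wg]
    have h3 : xg chevE6 K x.1 x.2 = (xg chevE6 K x.1 x.2)⁻¹ := by
      rw [← xg_neg GE, CharTwo.neg_eq]
    rw [List.reverse_cons, wg_append, ih, h1, mul_inv_rev, h2, ← h3]

/-- blocks -/
def blk (j : ℕ) : List (Fin chevE6.rank) := ([[0, 5], [2, 4], [3], [1]] : List (List (Fin 6))).getD j []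

omit hω in
theorem blk_mem {j : ℕ} (hj : j < 4) : nl chevE6 K (blk j) ∈ twistedE6 K 2 := by
  have hτ := TwE6.gr_spec (K := ZMod 2)
  have h : ∀ j < tabE6.nz, nl chevE6 (ZMod 2) (jwF chk1E6 j) ∈ Γ0 chevE6 (ZMod 2) tabE6 1 :=
    fun j hj => nl_mem_Γ0 (TwE6G.sg hτ) chk1E6 chk2E6 (TwE6G.sg_e hτ) TwE6.chkJ chk3E6 hj
  obtain ⟨j0, j1, j2, j3⟩ := E6F4B.jwF_vals
  have h2 : nl chevE6 (ZMod 2) (blk j) ∈ Γ0 chevE6 (ZMod 2) tabE6 1 := by
    interval_cases j
    · have := h 0 (by decide); rw [j0] at this; exact this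
    · have := h 1 (by decide); rw [j1] at this; exact this
    · have := h 2 (by decide); rw [j2] at this; exact this
    · have := h 3 (by decide); rw [j3] at this; exact this
  apply E6F4B.H0_le
  refine ⟨_, h2, ?_⟩
  exact ChevFix.em_nl GE (E6F4B.f2 K) _

omit hω in
theorem blks_mem (L : List ℕ) (hL : ∀ j ∈ L, j < 4) : nl chevE6 K (L.flatMap blk) ∈ twistedE6 K 2 := by
  induction L with
  | nil => simp [nl, one_mem]
  | cons j L ih =>
    rw [List.flatMap_cons, nl_append GE]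
    exact mul_mem (blk_mem (hL j List.mem_cons_self)) (ih fun k hk => hL k (List.mem_cons_of_mem _ hk))

omit hω in
theorem conj_word (L : List ℕ) (hL : ∀ j ∈ L, j < 4) {w : List (ℕ × K)} (hw : ∀ x ∈ w, x.1 < chevE6.nroots)
    (h : wg chevE6 K w ∈ twistedE6 K 2) :
    wg chevE6 K (w.map fun x => ((L.flatMap blk).foldr (fun (i : Fin chevE6.rank) (r : ℕ) => chevE6.reflectRoot i r) x.1, x.2)) ∈
      twistedE6 K 2 := by
  have h1 := mul_mem (mul_mem (blks_mem (K := K) L hL) h) (inv_mem (blks_mem (K := K) L hL))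
  have key : ∀ w : List (ℕ × K), (∀ x ∈ w, x.1 < chevE6.nroots) → nl chevE6 K (L.flatMap blk) * wg chevE6 K w *
      (nl chevE6 K (L.flatMap blk))⁻¹ = wg chevE6 K (w.map fun x =>
        ((L.flatMap blk).foldr (fun (i : Fin chevE6.rank) (r : ℕ) => chevE6.reflectRoot i r) x.1, x.2)) := by
    intro w hw
    induction w with
    | nil => simp [wg]
    | cons x w ih =>
      have e1 : wg chevE6 K (x :: w) = xg chevE6 K x.1 x.2 * wg chevE6 K w := by simp [wg]
      have e2 : nl chevE6 K (L.flatMap blk) * xg chevE6 K x.1 x.2 * (nl chevE6 K (L.flatMap blk))⁻¹ =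
          xg chevE6 K ((L.flatMap blk).foldr (fun (i : Fin chevE6.rank) (r : ℕ) => chevE6.reflectRoot i r) x.1) x.2 := by
        have := ChevPG.nl_conj_two (G := GE) (CharTwo.two_eq_zero (R := K)) (L.flatMap blk) ⟨x.1, hw x List.mem_cons_self⟩ x.2
        rw [wl_val] at this
        exact this
      rw [List.map_cons]
      have e3 : ∀ (y : ℕ × K) (w : List (ℕ × K)), wg chevE6 K (y :: w) = xg chevE6 K y.1 y.2 * wg chevE6 K w := by
        intro y w; simp [wg]
      rw [e1, e3, ← e2, ← ih (fun y hy => hw y (List.mem_cons_of_mem _ hy))]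
      group
  rw [key w hw] at h1
  exact h1

omit hω [CharP K 2] in
theorem gen_fix {t : K} (ht : t ^ 2 = t) {r : ℕ} (hr : r ∈ [e6p2, e6m2, e6p4, e6m4]) : wg chevE6 K [(r, t)] ∈ twistedE6 K 2 :=
  wg_mem_gen GE (Or.inl ⟨t, ht, r, hr, rfl⟩)

omit hω [CharP K 2] in
theorem gen_pair (t : K) {w : ℕ × ℕ} (hw : w ∈ ([(e6p1, e6p6), (e6m1, e6m6), (e6p3, e6p5), (e6m3, e6m5)] : List (ℕ × ℕ))) :
    wg chevE6 K [(w.1, t), (w.2, t ^ 2)] ∈ twistedE6 K 2 :=
  wg_mem_gen GE (Or.inr ⟨t, w, hw, rfl⟩)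

omit hω in
/-- root elements for the roots fixed by the graph symmetry -/
theorem fix_mem (L : List ℕ) (hL : ∀ j ∈ L, j < 4) {r : ℕ}
    (hr : (L.flatMap blk).foldr (fun (i : Fin chevE6.rank) (r : ℕ) => chevE6.reflectRoot i r) 39 = r) :
    wg chevE6 K [(r, 1)] ∈ twistedE6 K 2 := by
  have h := conj_word (K := K) L hL (w := [(39, 1)]) (by
    intro x hx
    rw [List.mem_singleton] at hx
    subst hx
    show 39 < chevE6.nroots
    decide) (gen_fix (one_pow 2) (r := e6p4) (by simp))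
  rw [List.map_cons, List.map_nil, hr] at h
  exact h

omit hω in
theorem pair_mem (L : List ℕ) (hL : ∀ j ∈ L, j < 4) {r r' : ℕ}
    (hr : (L.flatMap blk).foldr (fun (i : Fin chevE6.rank) (r : ℕ) => chevE6.reflectRoot i r) 56 = r)
    (hr' : (L.flatMap blk).foldr (fun (i : Fin chevE6.rank) (r : ℕ) => chevE6.reflectRoot i r) 36 = r') (t : K) :
    wg chevE6 K [(r, t), (r', t ^ 2)] ∈ twistedE6 K 2 := by
  have h := conj_word (K := K) L hL (w := [(56, t), (36, t ^ 2)]) (by
    intro x hx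
    simp only [List.mem_cons, List.not_mem_nil, or_false] at hx
    rcases hx with rfl | rfl
    · show 56 < chevE6.nroots
      decide
    · show 36 < chevE6.nroots
      decide) (gen_pair t (w := (e6p1, e6p6)) (by simp))
  rw [List.map_cons, List.map_cons, List.map_nil, hr, hr'] at h
  exact h

theorem c10 : cv ω (1, 0) = 1 := by simp [cv]
theorem c01 : cv ω (0, 1) = ω := by simp [cv]
theorem c11 : cv ω (1, 1) = ω ^ 2 := by
  rw [hω]; simp [cv]; ring

theorem f71 : wg chevE6 K [(71, cv ω (1, 0))] ∈ twistedE6 K 2 := by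
  rw [c10 hω]; exact fix_mem [3, 2, 1, 2, 3, 0, 1] (by decide) (by decide +kernel)
theorem f0 : wg chevE6 K [(0, cv ω (1, 0))] ∈ twistedE6 K 2 := by
  rw [c10 hω]; exact fix_mem [3, 2, 1, 2, 3, 0, 1, 2] (by decide) (by decide +kernel)
theorem f60 : wg chevE6 K [(60, cv ω (1, 0))] ∈ twistedE6 K 2 := by
  rw [c10 hω]; exact fix_mem [0, 1] (by decide) (by decide +kernel)
theorem f11 : wg chevE6 K [(11, cv ω (1, 0))] ∈ twistedE6 K 2 := by
  rw [c10 hω]; exact fix_mem [0, 1, 2] (by decide) (by decide +kernel)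
theorem f39 : wg chevE6 K [(39, cv ω (1, 0))] ∈ twistedE6 K 2 := by
  rw [c10 hω]; exact fix_mem [] (by decide) (by decide +kernel)
theorem f32 : wg chevE6 K [(32, cv ω (1, 0))] ∈ twistedE6 K 2 := by
  rw [c10 hω]; exact fix_mem [2] (by decide) (by decide +kernel)
theorem f44 : wg chevE6 K [(44, cv ω (1, 0))] ∈ twistedE6 K 2 := by
  rw [c10 hω]; exact fix_mem [1] (by decide) (by decide +kernel)

theorem g1m : wg chevE6 K [(15, cv ω (1, 0)), (35, cv ω (1, 0))] ∈ twistedE6 K 2 := by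
  rw [c10 hω]
  have := gen_pair (1 : K) (w := (e6m1, e6m6)) (by simp)
  rw [one_pow] at this
  exact this
theorem g2m : wg chevE6 K [(4, cv ω (1, 0)), (16, cv ω (1, 0))] ∈ twistedE6 K 2 := by
  rw [c10 hω]
  have := pair_mem (K := K) [1, 2, 3, 1, 2, 1, 0] (by decide) (r := 4) (r' := 16) (by decide +kernel) (by decide +kernel) 1
  rw [one_pow] at this
  exact this
theorem g3m : wg chevE6 K [(7, cv ω (1, 1)), (17, cv ω (0, 1))] ∈ twistedE6 K 2 := by
  have := pair_mem (K := K) [2, 3, 1, 2, 1, 0] (by decide) (r := 7) (r' := 17) (by decide +kernel) (by decide +kernel) (ω ^ 2)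
  rw [c11 hω, c01 hω]
  have h3 : (ω ^ 2) ^ 2 = ω := by
    have h2 : (2 : K) = 0 := CharTwo.two_eq_zero
    have : (ω ^ 2) ^ 2 = (ω + 1) ^ 2 := by rw [hω]
    rw [this]
    linear_combination hω + (1 + ω) * h2
  rw [h3] at this
  exact this
theorem yym : wg chevE6 K [(56, cv ω (1, 0)), (36, cv ω (1, 0))] ∈ twistedE6 K 2 := by
  rw [c10 hω]
  have := gen_pair (1 : K) (w := (e6p1, e6p6)) (by simp)
  rw [one_pow] at this
  exact this

theorem wrev {w w' : List (ℕ × K)} (h : w' = w.reverse) (hw : wg chevE6 K w ∈ twistedE6 K 2) : wg chevE6 K w' ∈ twistedE6 K 2 := by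
  rw [h, wg_reverse]
  exact inv_mem hw

theorem gen_mem (x : Gen) : wg chevE6 K (evw ω (wd x)) ∈ twistedE6 K 2 := by
  cases x
  · have e : evw ω (wd Gen.a) = [(4, cv ω (1, 0)), (16, cv ω (1, 0))] ++ ([(44, cv ω (1, 0))] ++
        [(16, cv ω (1, 0)), (4, cv ω (1, 0))]) := rfl
    rw [e, wg_append, wg_append]
    exact mul_mem (g2m hω) (mul_mem (f44 hω) (wrev hω rfl (g2m hω)))
  · exact f71 hω
  · exact f0 hω
  · have e : evw ω (wd Gen.d) = [(15, cv ω (1, 0)), (35, cv ω (1, 0))] ++ ([(4, cv ω (1, 0)), (16, cv ω (1, 0))] ++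
        ([(7, cv ω (1, 1)), (17, cv ω (0, 1))] ++ ([(71, cv ω (1, 0))] ++ ([(17, cv ω (0, 1)), (7, cv ω (1, 1))] ++
        ([(16, cv ω (1, 0)), (4, cv ω (1, 0))] ++ [(35, cv ω (1, 0)), (15, cv ω (1, 0))]))))) := rfl
    rw [e, wg_append, wg_append, wg_append, wg_append, wg_append, wg_append]
    exact mul_mem (g1m hω) (mul_mem (g2m hω) (mul_mem (g3m hω) (mul_mem (f71 hω) (mul_mem (wrev hω rfl (g3m hω))
      (mul_mem (wrev hω rfl (g2m hω)) (wrev hω rfl (g1m hω)))))))
  · exact f60 hω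
  · exact f11 hω
  · have e : evw ω (wd Gen.g) = [(56, cv ω (1, 0)), (36, cv ω (1, 0))] ++ ([(44, cv ω (1, 0))] ++
        [(36, cv ω (1, 0)), (56, cv ω (1, 0))]) := rfl
    rw [e, wg_append, wg_append]
    exact mul_mem (yym hω) (mul_mem (f44 hω) (wrev hω rfl (yym hω)))
  · exact f39 hω
  · exact f32 hω

theorem range_le : (Ψ hω).range ≤ twistedE6 K 2 := by
  rw [MonoidHom.range_eq_map, ← PresentedGroup.closure_range_of, MonoidHom.map_closure, Subgroup.closure_le]
  rintro _ ⟨_, ⟨x, rfl⟩, rfl⟩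
  rw [SetLike.mem_coe, Ψ_of hω]
  exact gen_mem hω x

/-- the centralizer of `b, …, i` -/
theorem cent (h3 : ∀ c : K, c ≠ 0 → c ^ 3 = 1) {HH : Subgroup (GL chevE6.Idx K)}
    (hHH : ∀ x : Gen, x ≠ .a → wg chevE6 K (evw ω (wd x)) ∈ HH) :
    ∀ g ∈ chevE6.group K, ∀ a : Kˣ, (∀ z ∈ HH, (g * dl a) * z * (g * dl a)⁻¹ = z) → a = 1 := by
  intro g hg a hz
  refine E6Comm.eq_one_of_irr (ι := {x : Gen // x ≠ .a}) ⟨.b, by decide⟩ (fun x => evw ω (wd x.1)) (fun x => wd_lt hω x.1)
    (fun x => sq_FF hω x.1) ?_ h3 hg a (fun x => hz _ (hHH x.1 x.2))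
  intro M hM
  apply scalar hω
  intro x hx
  have := hM ⟨x, hx⟩
  have e : ((Xw (evw ω (wd x)) : GL I27 K) : Matrix I27 I27 K) = mt ω (Tm x) := coe_FF hω x
  rw [← e]
  exact this

end

/-- transport of the property that squares of automorphisms are inner -/
theorem sq_transport {Γ Δ : Type*} [Group Γ] [Group Δ] (e : Γ ≃* Δ) (h : ∀ β : MulAut Δ, ∃ f, β * β = MulAut.conj f)
    (α : MulAut Γ) : ∃ f, α * α = MulAut.conj f := by
  obtain ⟨f, hf⟩ := h ((e.symm.trans α).trans e)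
  refine ⟨e.symm f, ?_⟩
  ext z
  have h1 := DFunLike.congr_fun hf (e z)
  have h2 : e (α (e.symm (e (α (e.symm (e z)))))) = f * e z * f⁻¹ := h1
  rw [e.symm_apply_apply, e.symm_apply_apply] at h2
  have h3 := congrArg e.symm h2
  rw [e.symm_apply_apply, map_mul, map_mul, map_inv, e.symm_apply_apply] at h3
  exact h3

theorem exists_omega {K : Type u} [Field K] [Fintype K] [CharP K 2] (hK : Fintype.card K = 4) : ∃ ω : K, ω ^ 2 = ω + 1 := by
  have h3 : ∀ c : K, c ≠ 0 → c ^ 3 = 1 := by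
    intro c hc
    have := FiniteField.pow_card_sub_one_eq_one c hc
    rwa [hK] at this
  classical
  have h1 : ∃ ω : K, ω ≠ 0 ∧ ω ≠ 1 := by
    by_contra hne
    push Not at hne
    have h2 : (Finset.univ : Finset K) ⊆ {0, 1} := by
      intro x _
      by_cases hx : x = 0
      · simp [hx]
      · simp [hne x hx]
    have h4 := Finset.card_le_card h2
    rw [Finset.card_univ, hK] at h4
    have h5 := Finset.card_insert_le (0 : K) {1}
    rw [Finset.card_singleton] at h5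
    omega
  obtain ⟨ω, h0, h1⟩ := h1
  refine ⟨ω, ?_⟩
  have h := h3 ω h0
  have h2 : (2 : K) = 0 := CharTwo.two_eq_zero
  have h5 : (ω - 1) * (ω ^ 2 + ω + 1) = 0 := by linear_combination h
  rcases mul_eq_zero.mp h5 with h6 | h6
  · exact absurd (sub_eq_zero.mp h6) h1
  · linear_combination h6 - (ω + 1) * h2

end Cfsg.Agent.Lib.E6Fi22
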