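import Cfsg.Agent.Lib.E6Fi22Data
import Cfsg.Agent.Lib.E6Comm
set_option autoImplicit false
set_option linter.unusedSectionVars false
set_option linter.unusedVariables false
set_option linter.style.haveILetI false

/-!
The 27-dimensional matrices of the generators: relations and absolute irreducibility.
-/

namespace Cfsg.Agent.Lib.E6Fi22
open Cfsg.Lie Cfsg.Spor Cfsg.Agent.Lib.F4Mat Cfsg.Agent.Lib.E6Pair
open Cfsg.Spor.Fi22 (Gen)
open scoped MatrixGroups Matrix

universe u

section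
variable {K : Type u} [Field K] [CharP K 2] {ω : K}

/-- generators -/
noncomputable def FF (ω : K) (x : Gen) : GL I27 K := Xw (evw ω (wd x))

variable (hω : ω ^ 2 = ω + 1)

theorem lenT (x : Gen) : (Tm x).length = 27 := by
  have h := c_len27
  rw [List.all_eq_true] at h
  exact Nat.eq_of_beq_eq_true (h x (mem_allG x))

include hω

theorem coe_FF (x : Gen) : (FF ω x : Matrix I27 I27 K) = mt ω (Tm x) := by
  have h1 := c_ok
  have h2 := c_mt
  rw [List.all_eq_true] at h1 h2
  rw [← eqL_sound (h2 x (mem_allG x)), mt_mtw hω (h1 x (mem_allG x))]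
  rfl

theorem mt_mulL' {A B : List RV} (hB : B.length ≤ 27) : mt ω (mulL A B) = mt ω A * mt ω B := by
  ext i j
  rw [Matrix.mul_apply]
  show gt ω (mulL A B) (E6Rep.cod i) (E6Rep.cod j) = ∑ x, gt ω A (E6Rep.cod i) (E6Rep.cod x) * gt ω B (E6Rep.cod x) (E6Rep.cod j)
  rw [gt_mulL hω, sum_I27 fun k => gt ω A (E6Rep.cod i) k * gt ω B k (E6Rep.cod j)]
  apply Finset.sum_subset
  · intro k hk
    rw [Finset.mem_range] at hk ⊢
    omega
  · intro k _ hk
    rw [Finset.mem_range, not_lt] at hk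
    rw [gt_ge ω hk, mul_zero]

omit [CharP K 2] hω in
theorem length_mulL (A B : List RV) : (mulL A B).length = A.length := by
  unfold mulL
  rw [List.length_map]

theorem cox (x y : Gen) : (FF ω x * FF ω y) ^ (coxLabel Fi22.edges x y) = 1 := by
  have h := c_cox
  rw [List.all_eq_true] at h
  have h1 := h x (mem_allG x)
  rw [List.all_eq_true] at h1
  have h2 := eqL_sound (h1 y (mem_allG y))
  apply Units.ext
  rw [Units.val_pow_eq_pow_val, Units.val_mul, coe_FF hω, coe_FF hω, ← mt_mulL hω (lenT y),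
    ← mt_powL hω (by rw [length_mulL]; exact lenT x), h2, mt_idL, Units.val_one]

theorem sq_FF (x : Gen) : FF ω x * FF ω x = 1 := by
  have h := cox hω x x
  have h1 : coxLabel Fi22.edges x x = 1 := by cases x <;> decide
  rw [h1, pow_one] at h
  exact h

theorem spider : (((FF ω .d * FF ω .c * FF ω .b * FF ω .d * FF ω .e * FF ω .f * FF ω .d * FF ω .h * FF ω .i) ^ 10 : GL I27 K) :
    Matrix I27 I27 K) = cv ω (1, 1) • (1 : Matrix I27 I27 K) := by
  have h1 : ((FF ω .d * FF ω .c * FF ω .b * FF ω .d * FF ω .e * FF ω .f * FF ω .d * FF ω .h * FF ω .i : GL I27 K) :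
      Matrix I27 I27 K) = mt ω sp := by
    rw [← eqL_sound c_sp]
    simp only [Units.val_mul, coe_FF hω, mul_assoc]
    repeat rw [mt_mulL hω]
    all_goals simp only [length_mulL, lenT]
  rw [Units.val_pow_eq_pow_val, h1, show (10 : ℕ) = 5 + 5 from rfl, pow_add,
    ← mt_powL hω (A := sp) (by rw [← eqL_sound c_sp, length_mulL]; exact lenT _), eqL_sound c_sp5,
    ← mt_mulL hω (by rw [← eqL_sound c_sp5]; decide), eqL_sound c_sp10, mt_scL (by norm_num) (by norm_num)]

theorem e7a : (FF ω .a * FF ω .b * FF ω .c * FF ω .d * FF ω .e * FF ω .f * FF ω .h) ^ 9 = 1 := by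
  have h1 : ((FF ω .a * FF ω .b * FF ω .c * FF ω .d * FF ω .e * FF ω .f * FF ω .h : GL I27 K) :
      Matrix I27 I27 K) = mt ω ea := by
    rw [← eqL_sound c_ea]
    simp only [Units.val_mul, coe_FF hω, mul_assoc]
    repeat rw [mt_mulL hω]
    all_goals simp only [length_mulL, lenT]
  apply Units.ext
  rw [Units.val_pow_eq_pow_val, h1, show (9 : ℕ) = 3 * 3 from rfl, pow_mul,
    ← mt_powL hω (A := ea) (by rw [← eqL_sound c_ea, length_mulL]; exact lenT _), eqL_sound c_ea3,
    ← mt_powL hω (A := ea3) (by rw [← eqL_sound c_ea3]; decide), eqL_sound c_ea9, mt_idL, Units.val_one]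

theorem e7b : (FF ω .b * FF ω .c * FF ω .d * FF ω .e * FF ω .f * FF ω .g * FF ω .h) ^ 9 = 1 := by
  have h1 : ((FF ω .b * FF ω .c * FF ω .d * FF ω .e * FF ω .f * FF ω .g * FF ω .h : GL I27 K) :
      Matrix I27 I27 K) = mt ω eb := by
    rw [← eqL_sound c_eb]
    simp only [Units.val_mul, coe_FF hω, mul_assoc]
    repeat rw [mt_mulL hω]
    all_goals simp only [length_mulL, lenT]
  apply Units.ext
  rw [Units.val_pow_eq_pow_val, h1, show (9 : ℕ) = 3 * 3 from rfl, pow_mul,
    ← mt_powL hω (A := eb) (by rw [← eqL_sound c_eb, length_mulL]; exact lenT _), eqL_sound c_eb3,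
    ← mt_powL hω (A := eb3) (by rw [← eqL_sound c_eb3]; decide), eqL_sound c_eb9, mt_idL, Units.val_one]

/-! ### the commutant -/

omit hω in
/-- row matrices -/
def rw0 (ω : K) (n : ℕ) : Matrix I27 I27 K := mt ω [Rr.getD n (0, 0)]

omit hω in
theorem rw0_apply (n : ℕ) {i : I27} (hi : i ≠ E6Rep.dec 0) (j : I27) : rw0 ω n i j = 0 := by
  show gt ω [Rr.getD n (0, 0)] (E6Rep.cod i) (E6Rep.cod j) = 0
  apply gt_ge
  have : E6Rep.cod i ≠ 0 := fun h => hi (by rw [← h, E6Rep.dec_cod])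
  simp
  omega

omit hω in
theorem rw0_zero (n : ℕ) (j : I27) : rw0 ω n (E6Rep.dec 0) j = sv ω (Rr.getD n (0, 0)) (E6Rep.cod j) := by
  show gt ω [Rr.getD n (0, 0)] (E6Rep.cod (E6Rep.dec 0)) (E6Rep.cod j) = _
  rw [E6Rep.cod_dec 0 (by norm_num)]
  rfl

variable {M : Matrix I27 I27 K} (hM : ∀ x : Gen, x ≠ .a → M * mt ω (Tm x) = mt ω (Tm x) * M)
include hM

theorem row_zero : ∃ c : K, rw0 ω 0 * M = c • rw0 ω 0 := by
  have hfix : ∀ x ∈ [Gen.b, .c, .d, .e, .f, .g], rw0 ω 0 * mt ω (Tm x) = rw0 ω 0 := by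
    intro x hx
    have h := c_fix
    rw [List.all_eq_true] at h
    have h1 := eqL_sound (h x hx)
    unfold rw0
    rw [← mt_mulL hω (lenT x), h1]
  have hY : ∀ x ∈ [Gen.b, .c, .d, .e, .f, .g], (rw0 ω 0 * M) * (mt ω (addL (Tm x) idL)) = 0 := by
    intro x hx
    have hxa : x ≠ .a := by
      rintro rfl
      exact absurd hx (by decide)
    rw [mt_addL (by rw [lenT, length_idL]), mt_idL, mul_add, mul_one, mul_assoc, hM x hxa, ← mul_assoc, hfix x hx]
    ext i j
    rw [Matrix.add_apply, Matrix.zero_apply]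
    exact CharTwo.add_self_eq_zero _
  have hu := congrArg (mt ω) (eqL_sound c_uniq)
  have lC : Cb.length = 27 ∧ Cc.length = 27 ∧ Cd.length = 27 ∧ Ce.length = 27 ∧ Cf.length = 27 ∧ Cg.length = 27 ∧
      wc.length = 27 := by decide
  obtain ⟨lb, lc, ld, le, lf, lg, lw⟩ := lC
  have la : ∀ x : Gen, (addL (Tm x) idL).length = 27 := by
    intro x
    unfold addL
    rw [List.length_zipWith, lenT, length_idL]
    rfl
  have lm : ∀ (x : Gen) (C : List RV), (mulL (addL (Tm x) idL) C).length = 27 := by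
    intro x C
    rw [length_mulL, la]
  have lw2 : (mulL wc [Rr.getD 0 (0, 0)]).length = 27 := by rw [length_mulL, lw]
  have lz : ∀ A B : List RV, A.length = 27 → B.length = 27 → (addL A B).length = 27 := by
    intro A B hA hB
    unfold addL
    rw [List.length_zipWith, hA, hB]
    rfl
  rw [mt_addL (by rw [lm, lz _ _ (lm _ _) (lz _ _ (lm _ _) (lz _ _ (lm _ _) (lz _ _ (lm _ _) (lz _ _ (lm _ _) lw2))))]),
    mt_addL (by rw [lm, lz _ _ (lm _ _) (lz _ _ (lm _ _) (lz _ _ (lm _ _) (lz _ _ (lm _ _) lw2)))]),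
    mt_addL (by rw [lm, lz _ _ (lm _ _) (lz _ _ (lm _ _) (lz _ _ (lm _ _) lw2))]),
    mt_addL (by rw [lm, lz _ _ (lm _ _) (lz _ _ (lm _ _) lw2)]),
    mt_addL (by rw [lm, lz _ _ (lm _ _) lw2]), mt_addL (by rw [lm, lw2]),
    mt_mulL hω lb, mt_mulL hω lc, mt_mulL hω ld, mt_mulL hω le, mt_mulL hω lf, mt_mulL hω lg,
    mt_mulL' hω (B := [Rr.getD 0 (0, 0)]) (by simp), mt_idL] at hu
  have h1 : rw0 ω 0 * M = (rw0 ω 0 * M * mt ω wc) * rw0 ω 0 := by
    have h2 := congrArg (fun Z => (rw0 ω 0 * M) * Z) hu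
    simp only [mul_add, mul_one] at h2
    rw [← mul_assoc (rw0 ω 0 * M) (mt ω (addL (Tm .b) idL)), hY .b (by simp), zero_mul, zero_add,
      ← mul_assoc (rw0 ω 0 * M) (mt ω (addL (Tm .c) idL)), hY .c (by simp), zero_mul, zero_add,
      ← mul_assoc (rw0 ω 0 * M) (mt ω (addL (Tm .d) idL)), hY .d (by simp), zero_mul, zero_add,
      ← mul_assoc (rw0 ω 0 * M) (mt ω (addL (Tm .e) idL)), hY .e (by simp), zero_mul, zero_add,
      ← mul_assoc (rw0 ω 0 * M) (mt ω (addL (Tm .f) idL)), hY .f (by simp), zero_mul, zero_add,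
      ← mul_assoc (rw0 ω 0 * M) (mt ω (addL (Tm .g) idL)), hY .g (by simp), zero_mul, zero_add,
      ← mul_assoc (rw0 ω 0 * M)] at h2
    exact h2.symm
  refine ⟨(rw0 ω 0 * M * mt ω wc) (E6Rep.dec 0) (E6Rep.dec 0), ?_⟩
  ext i j
  rw [Matrix.smul_apply, smul_eq_mul]
  by_cases hi : i = E6Rep.dec 0
  · subst hi
    conv_lhs => rw [h1]
    rw [Matrix.mul_apply, Finset.sum_eq_single (E6Rep.dec 0)]
    · intro k _ hk
      rw [rw0_apply 0 hk, mul_zero]
    · intro hh; exact absurd (Finset.mem_univ _) hh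
  · rw [rw0_apply 0 hi, mul_zero, Matrix.mul_apply]
    apply Finset.sum_eq_zero
    intro k _
    rw [rw0_apply 0 hi, zero_mul]

theorem rows {c : K} : ∀ (l : List (ℕ × Gen)) (n : ℕ), stepsOk n l = true → (∀ s ∈ l, s.2 ≠ .a) →
    (∀ m < n, rw0 ω m * M = c • rw0 ω m) → ∀ m < n + l.length, rw0 ω m * M = c • rw0 ω m := by
  intro l
  induction l with
  | nil => intro n _ _ h m hm; exact h m (by simpa using hm)
  | cons s l ih =>
    intro n hs ha h m hm
    simp only [stepsOk, Bool.and_eq_true] at hs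
    obtain ⟨h1, h2, h3⟩ := hs
    apply ih (n + 1) h3 (fun s' hs' => ha s' (List.mem_cons_of_mem _ hs')) ?_ m (by
      rw [List.length_cons] at hm; omega)
    intro m' hm'
    rcases Nat.lt_succ_iff_lt_or_eq.mp hm' with h4 | h4
    · exact h m' h4
    · subst h4
      have h5 : rw0 ω m' = rw0 ω s.1 * mt ω (Tm s.2) := by
        unfold rw0
        rw [← mt_mulL hω (lenT _), eqL_sound h2]
      rw [h5, mul_assoc, ← hM _ (ha s List.mem_cons_self), ← mul_assoc, h s.1 (Nat.le_of_ble_eq_true h1), Matrix.smul_mul]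

theorem scalar : ∃ c : K, M = c • (1 : Matrix I27 I27 K) := by
  obtain ⟨c, hc⟩ := row_zero hω hM
  refine ⟨c, ?_⟩
  have hr := rows hω hM (c := c) stp 1 c_steps (by
    have h := c_noa
    rw [List.all_eq_true] at h
    intro s hs
    have := h s hs
    simpa using this) (by
    intro m hm
    have : m = 0 := by omega
    subst this
    exact hc)
  rw [c_len] at hr
  have hR : mt ω Rr * M = c • mt ω Rr := by
    ext i j
    have h1 := congrFun (congrFun (hr (E6Rep.cod i) (E6Rep.cod_lt i)) (E6Rep.dec 0)) j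
    rw [Matrix.smul_apply, rw0_zero, Matrix.mul_apply] at h1
    rw [Matrix.smul_apply, Matrix.mul_apply]
    simp only [rw0_zero] at h1
    exact h1
  have hinv := congrArg (mt ω) (eqL_sound c_inv)
  rw [mt_mulL hω c_lenR, mt_idL] at hinv
  calc M = (mt ω Qr * mt ω Rr) * M := by rw [hinv, one_mul]
    _ = mt ω Qr * (mt ω Rr * M) := by rw [mul_assoc]
    _ = c • (mt ω Qr * mt ω Rr) := by rw [hR, Matrix.mul_smul]
    _ = c • 1 := by rw [hinv]

end

end Cfsg.Agent.Lib.E6Fi22
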