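import Cfsg.Agent.Lib.OThree12
set_option autoImplicit false
/-!
`PΩ7(3) = Ω7(3)`.
-/
namespace Cfsg.Agent.Lib.E6Fi22
open Cfsg.Agent.Lib
open Module QuadraticMap Cfsg.Agent.Lib.Quad Cfsg.Agent.Lib.OrthMax Cfsg.Agent.Lib.OrthNd Cfsg.Agent.Lib.OrthEmb67
  Cfsg.Agent.Lib.OThree

theorem omega_iso : Nonempty (Cfsg.POmega (ZMod 3) (Cfsg.quadFormOdd 3 (ZMod 3)) ≃*
    Cfsg.Omega (ZMod 3) (Cfsg.quadFormOdd 3 (ZMod 3))) := by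
  have hQ : Nd (quadOdd 3 (ZMod 3)) := nd_quadOdd hK2
  have hneg : (LinearEquiv.neg (ZMod 3) : (Unit ⊕ (Fin 3 ⊕ Fin 3) → ZMod 3) ≃ₗ[ZMod 3] _) ∉ Om (quadOdd 3 (ZMod 3)) := by
    rw [hQ.neg_mem_Om_iff hK2 (Pi.basisFun (ZMod 3) _), finrank_odd]
    rintro ⟨h, -⟩
    exact absurd h (by decide)
  obtain ⟨e⟩ := POmega_equiv (ClOmega.card_center_of_not_mem hQ (hQ.R_eq_O (ClOmega.genHyp_odd 3 le_rfl))
    (ClOmega.frame_of_HP (hpOdd 3)) le_rfl (fun _ => hneg))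
  exact ⟨e.trans (ClOmega.omEquiv _).symm⟩

end Cfsg.Agent.Lib.E6Fi22
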