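import Mathlib
import Cfsg.Agent.Lib.DihedralHom

/-!
Recognition of direct products with a cyclic factor.
-/

set_option autoImplicit false

namespace Cfsg.Agent.Lib.ProdZMod

variable {G A : Type*} [Group G] [Group A]

/-- recognition of a direct product with a cyclic group -/
theorem prod_zmod [Finite G] {f : ℕ} (hf : 0 < f) (ι : A →* G) (hι : Function.Injective ι) (ψ : G) (h1 : ψ ^ f = 1)
    (h2 : ∀ a, Commute (ι a) ψ) (h3 : ∀ j : ℕ, ψ ^ j ∈ ι.range → f ∣ j) (hc : Nat.card G = Nat.card A * f) :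
    Nonempty (G ≃* A × Multiplicative (ZMod f)) := by
  have hord : orderOf ψ = f := by
    apply Nat.dvd_antisymm (orderOf_dvd_of_pow_eq_one h1)
    apply h3
    rw [pow_orderOf_eq_one]
    exact one_mem _
  have hcZ : Nat.card (Subgroup.zpowers ψ) = f := by rw [Nat.card_zpowers, hord]
  let F : A × Subgroup.zpowers ψ →* G := MonoidHom.noncommCoprod ι (Subgroup.zpowers ψ).subtype (by
    rintro a ⟨_, k, rfl⟩
    exact (h2 a).zpow_right k)
  have hF : Function.Injective F := by
    rw [injective_iff_map_eq_one]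
    rintro ⟨a, z⟩ h
    have h4 : ι a * (z : G) = 1 := h
    have hz : (z : G) ∈ Submonoid.powers ψ := by
      rw [mem_powers_iff_mem_zpowers]; exact z.2
    obtain ⟨j, hj⟩ := hz
    have hj' : ψ ^ j = z := hj
    have h5 : ψ ^ j ∈ ι.range := by
      rw [hj']
      have : (z : G) = ι a⁻¹ := by rw [map_inv]; exact eq_inv_of_mul_eq_one_right h4
      rw [this]; exact ⟨_, rfl⟩
    obtain ⟨k, hk⟩ := h3 j h5
    have hz1 : (z : G) = 1 := by rw [← hj', hk, pow_mul, h1, one_pow]
    rw [hz1, mul_one] at h4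
    have ha : a = 1 := hι (by rw [h4, map_one])
    rw [ha]
    exact Prod.ext rfl (Subtype.ext hz1)
  have hcard : Nat.card (A × Subgroup.zpowers ψ) = Nat.card G := by rw [Nat.card_prod, hcZ, hc]
  have hbij : Function.Bijective F := (Nat.bijective_iff_injective_and_card F).mpr ⟨hF, hcard⟩
  have hcyc : IsCyclic (Multiplicative (ZMod f)) := inferInstance
  have e2 : Subgroup.zpowers ψ ≃* Multiplicative (ZMod f) := mulEquivOfCyclicCardEq (by
    rw [hcZ]
    show f = Nat.card (ZMod f)
    rw [Nat.card_zmod])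
  exact ⟨(MulEquiv.ofBijective F hbij).symm.trans (MulEquiv.prodCongr (MulEquiv.refl A) e2)⟩

/-- a group of order two -/
theorem equiv_zmod_two (h : Nat.card A = 2) : Nonempty (A ≃* Multiplicative (ZMod 2)) := by
  haveI : Fact (Nat.Prime 2) := ⟨Nat.prime_two⟩
  exact ⟨mulEquivOfPrimeCardEq (p := 2) h (by show Nat.card (ZMod 2) = 2; rw [Nat.card_zmod])⟩

/-- the homomorphism from the group of order two given by an involution -/
theorem hom_two (x : G) (hx : x * x = 1) (hx1 : x ≠ 1) :
    ∃ ι : Multiplicative (ZMod 2) →* G, Function.Injective ι ∧ ∀ a, ι a = 1 ∨ ι a = x := by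
  have hord : orderOf x = 2 := by
    rw [orderOf_eq_prime_iff]; exact ⟨by rw [pow_two, hx], hx1⟩
  have hc : Nat.card (Subgroup.zpowers x) = 2 := by rw [Nat.card_zpowers, hord]
  obtain ⟨e⟩ := equiv_zmod_two hc
  refine ⟨(Subgroup.zpowers x).subtype.comp e.symm.toMonoidHom, ?_, ?_⟩
  · exact (Subgroup.subtype_injective _).comp e.symm.injective
  · intro a
    obtain ⟨k, hk⟩ := (e.symm a).2
    have hk' : x ^ k = ((e.symm a : Subgroup.zpowers x) : G) := hk
    change ((e.symm a : Subgroup.zpowers x) : G) = 1 ∨ ((e.symm a : Subgroup.zpowers x) : G) = x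
    rw [← hk']
    rcases Int.even_or_odd' k with ⟨j, rfl | rfl⟩
    · left
      rw [zpow_mul, zpow_two, hx, one_zpow]
    · right
      rw [zpow_add, zpow_mul, zpow_two, hx, one_zpow, one_mul, zpow_one]

/-- the homomorphism from the four group given by two commuting involutions -/
theorem hom_four (x y : G) (hx : x * x = 1) (hy : y * y = 1) (hx1 : x ≠ 1) (hy1 : y ≠ 1) (hxy : x ≠ y)
    (hc : Commute x y) :
    ∃ ι : Multiplicative (ZMod 2) × Multiplicative (ZMod 2) →* G, Function.Injective ι ∧
      ∀ a, ι a = 1 ∨ ι a = x ∨ ι a = y ∨ ι a = x * y := by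
  obtain ⟨i1, hi1, hv1⟩ := hom_two x hx hx1
  obtain ⟨i2, hi2, hv2⟩ := hom_two y hy hy1
  have hcomm : ∀ a b, Commute (i1 a) (i2 b) := by
    intro a b
    rcases hv1 a with h | h <;> rcases hv2 b with h' | h' <;> rw [h, h']
    · exact Commute.one_left _
    · exact Commute.one_right _
    · exact hc
  refine ⟨MonoidHom.noncommCoprod i1 i2 hcomm, ?_, ?_⟩
  · rw [injective_iff_map_eq_one]
    rintro ⟨a, b⟩ h
    have h4 : i1 a * i2 b = 1 := h
    have ha : i1 a = 1 := by
      rcases hv1 a with h5 | h5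
      · exact h5
      · exfalso
        rcases hv2 b with h6 | h6
        · rw [h5, h6, mul_one] at h4; exact hx1 h4
        · rw [h5, h6] at h4
          apply hxy
          have : x * y * y = y := by rw [h4, one_mul]
          rw [mul_assoc, hy, mul_one] at this
          exact this
    rw [ha, one_mul] at h4
    exact Prod.ext (hi1 (by rw [ha]; simp)) (hi2 (by rw [h4]; simp))
  · rintro ⟨a, b⟩
    change i1 a * i2 b = 1 ∨ i1 a * i2 b = x ∨ i1 a * i2 b = y ∨ i1 a * i2 b = x * y
    rcases hv1 a with h | h <;> rcases hv2 b with h' | h' <;> rw [h, h'] <;> simp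

/-- the homomorphism from the dihedral group of order eight given by two involutions -/
theorem hom_dih (r d : G) (hr : r * r = 1) (hd : d * d = 1) (h4 : orderOf (r * d) = 4)
    (hmem : r ∉ Subgroup.zpowers (r * d)) :
    ∃ ι : DihedralGroup 4 →* G, Function.Injective ι ∧ ∀ a, ι a ∈ Subgroup.closure {r, d} := by
  have hρ : (r * d) ^ 4 = 1 := by rw [← h4]; exact pow_orderOf_eq_one _
  have hsr : r * (r * d) * r = (r * d)⁻¹ := by
    have hri : r⁻¹ = r := inv_eq_of_mul_eq_one_left hr
    have hdi : d⁻¹ = d := inv_eq_of_mul_eq_one_left hd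
    rw [mul_inv_rev, hri, hdi, ← mul_assoc, hr, one_mul]
  have hval : ∀ i : ZMod 4, Additive.toMul (DihedralHom.zpw (r * d) hρ i) = (r * d) ^ i.val := by
    intro i
    have h2 := DihedralHom.zpw_natCast (r * d) hρ i.val
    rw [ZMod.natCast_zmod_val] at h2
    exact h2
  have hrd : r * d ∈ Subgroup.closure {r, d} :=
    mul_mem (Subgroup.subset_closure (by simp)) (Subgroup.subset_closure (by simp))
  refine ⟨DihedralHom.lift (r * d) r hρ hr hsr, ?_, ?_⟩
  · rw [injective_iff_map_eq_one]
    rintro (i | i) hi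
    · have hi' : Additive.toMul (DihedralHom.zpw (r * d) hρ i) = 1 := hi
      rw [hval] at hi'
      have h3 := orderOf_dvd_of_pow_eq_one hi'
      rw [h4] at h3
      have h5 := Nat.eq_zero_of_dvd_of_lt h3 (ZMod.val_lt i)
      rw [ZMod.val_eq_zero] at h5
      rw [h5]; rfl
    · exfalso
      have hi' : r * Additive.toMul (DihedralHom.zpw (r * d) hρ i) = 1 := hi
      rw [hval] at hi'
      apply hmem
      have : r = ((r * d) ^ i.val)⁻¹ := eq_inv_of_mul_eq_one_left hi'
      rw [this]
      exact Subgroup.inv_mem _ (Subgroup.pow_mem _ (by rw [← this]; exact Subgroup.mem_zpowers _) _)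
  · rintro (i | i)
    · change Additive.toMul (DihedralHom.zpw (r * d) hρ i) ∈ _
      rw [hval]
      exact pow_mem hrd _
    · change r * Additive.toMul (DihedralHom.zpw (r * d) hρ i) ∈ _
      rw [hval]
      exact mul_mem (Subgroup.subset_closure (by simp)) (pow_mem hrd _)

end Cfsg.Agent.Lib.ProdZMod
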