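import Mathlib
import Cfsg.Agent.Lib.OAutM
import Cfsg.Agent.Lib.ProdZMod
import Cfsg.Agent.Lib.QuadIndex4

/-!
Automorphisms of `PΩ(Q)`, part N: relations in `Out(PΩ(Q))`, even dimension, odd characteristic.
-/

set_option autoImplicit false

namespace Cfsg.Agent.Lib.OAut

open Cfsg.Agent.Lib.Quad Cfsg.Agent.Lib.ClOrthSiegel Cfsg.Agent.Lib.ClOmega QuadraticMap Module Matrix

namespace Semi

section Conj

variable {F V : Type*} [Field F] [AddCommGroup V] [Module F V] {Q : QuadraticForm F V}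

theorem cj_mem_O (s : Semi Q) {g : V ≃ₗ[F] V} (hg : g ∈ O Q) : s.cj g ∈ O Q := by
  have : s.cj g ∈ (O Q).map s.cj.toMonoidHom := ⟨g, hg, rfl⟩
  rw [s.map_O] at this
  exact this

theorem conj_oHom (s : Semi Q) (g : O Q) : s * oHom g * s⁻¹ = oHom ⟨s.cj g, s.cj_mem_O g.2⟩ := by
  rw [mul_inv_eq_iff_eq_mul]
  refine ext' rfl (fun v => ?_) ?_
  · change s.Φ ((g : V ≃ₗ[F] V) v) = s.cj g (s.Φ v)
    rw [cj_apply_map]
  · change s.c * s.σ 1 = 1 * s.c
    rw [map_one, mul_one, one_mul]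

theorem cj_refl (s : Semi Q) {v : V} (hv : Q v ≠ 0) : s.cj (refl Q v) = refl Q (s.Φ v) := by
  apply LinearEquiv.ext
  intro x
  obtain ⟨w, rfl⟩ := s.Φ.surjective x
  have hq : Q (s.Φ v) ≠ 0 := by
    rw [s.q]; exact mul_ne_zero s.c0 ((map_ne_zero s.σ).2 hv)
  rw [cj_apply_map, refl_apply hv, refl_apply hq, map_sub, s.smul, s.q, s.polar_map, map_mul, map_inv₀]
  congr 2
  have h1 : s.σ (Q v) ≠ 0 := (map_ne_zero s.σ).2 hv
  have h2 := s.c0
  field_simp

theorem refl_mul_self' {v : V} : refl Q v * refl Q v = 1 := by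
  by_cases hv : Q v = 0
  · rw [refl_of_eq_zero hv, one_mul]
  · apply LinearEquiv.ext
    intro x
    change refl Q v (refl Q v x) = x
    rw [refl_apply hv, refl_apply hv, polar_sub_right, polar_smul_right, polar_self']
    simp only [smul_eq_mul, sub_smul, mul_sub]
    have : (Q v)⁻¹ * ((Q v)⁻¹ * polar Q v x * (2 * Q v)) = 2 * ((Q v)⁻¹ * polar Q v x) := by
      field_simp
    rw [this]
    module

end Conj

section Sq

variable {F V : Type*} [Field F] [Finite F] [AddCommGroup V] [Module F V] {Q : QuadraticForm F V}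

omit [Finite F] in
theorem isSquare_map_iff (σ : F ≃+* F) (x : F) : IsSquare (σ x) ↔ IsSquare x := by
  constructor
  · rintro ⟨r, hr⟩
    refine ⟨σ.symm r, ?_⟩
    apply σ.injective
    rw [hr, map_mul, RingEquiv.apply_symm_apply]
  · rintro ⟨r, rfl⟩
    exact ⟨σ r, map_mul σ r r⟩

/-- the class of the multiplier modulo squares -/
noncomputable def chi : Semi Q →* ℤˣ where
  toFun s := sgn (IsSquare s.c)
  map_one' := sgn_true ⟨1, by rw [one_c, mul_one]⟩
  map_mul' s t := sgn_mul (by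
    rw [mul_c, isSquare_mul_iff s.c0 ((map_ne_zero s.σ).2 t.c0), isSquare_map_iff])

theorem chi_sc (u : Fˣ) : chi (sc u : Semi Q) = 1 := sgn_true ⟨u, rfl⟩

theorem chi_oHom (g : O Q) : chi (oHom g : Semi Q) = 1 := sgn_true ⟨1, by rw [oHom_c, mul_one]⟩

theorem chi_eq_neg_one {s : Semi Q} (hs : ¬ IsSquare s.c) : chi s = -1 := sgn_false hs

theorem chi_eq_one {s : Semi Q} (hs : IsSquare s.c) : chi s = 1 := sgn_true hs

theorem chi_eq_one_iff {s : Semi Q} : chi s = 1 ↔ IsSquare s.c := sgn_eq_one_iff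

end Sq

section KerOut

variable {F V : Type*} [Field F] [Finite F] [AddCommGroup V] [Module F V] [FiniteDimensional F V] {Q : QuadraticForm F V}
  (D : Dat Q)

include D in
theorem chi_of_outHom {e₁ e₂ f₁ f₂ : V} (h : H2 Q e₁ e₂ f₁ f₂) {s t : Semi Q} (hs : outHom s = outHom t) :
    chi s = chi t := by
  have h1 : outHom (s * t⁻¹) = 1 := by rw [map_mul, map_inv, hs, mul_inv_cancel]
  obtain ⟨u, g, hu⟩ := outHom_eq_one D h h1
  have h2 : chi (s * t⁻¹) = 1 := by rw [hu, map_mul, chi_sc, chi_oHom, mul_one]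
  rw [map_mul, map_inv, mul_inv_eq_one] at h2
  exact h2

end KerOut

section Det

variable {ι : Type} [Fintype ι] [DecidableEq ι] {F : Type*} [Field F] {Q : QuadraticForm F (ι → F)}

/-- the twisted determinant -/
noncomputable def dt (s : Semi Q) : F := (s.mat : Matrix ι ι F).det

theorem mat_mul' (s t : Semi Q) :
    ((s * t).mat : Matrix ι ι F) = (s.mat : Matrix ι ι F) * (t.mat : Matrix ι ι F).map s.σ := by
  apply matrix_ext_of_mulVec
  intro x
  obtain ⟨v, rfl⟩ : ∃ v : ι → F, x = fun i => (s * t).σ (v i) :=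
    ⟨fun i => (s * t).σ.symm (x i), by funext i; simp⟩
  rw [mat_mulVec, ← mulVec_mulVec]
  change s.Φ (t.Φ v) = _
  have : (fun i => (s * t).σ (v i)) = fun i => s.σ ((fun i => t.σ (v i)) i) := rfl
  rw [this, ← map_mulVec_sigma, mat_mulVec, mat_mulVec]

theorem dt_mul (s t : Semi Q) : (s * t).dt = s.dt * s.σ t.dt := by
  rw [dt, mat_mul', det_mul, dt, dt]
  congr 1
  exact (RingHom.map_det (s.σ : F →+* F) _).symm

theorem dt_ne_zero (s : Semi Q) : s.dt ≠ 0 := by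
  have : IsUnit (s.mat : Matrix ι ι F).det := (Matrix.isUnit_iff_isUnit_det _).1 s.mat.isUnit
  exact this.ne_zero

theorem dt_one : (1 : Semi Q).dt = 1 := by
  have h := dt_mul (1 : Semi Q) 1
  rw [one_mul] at h
  have h2 : (1 : Semi Q).σ (dt 1) = dt (1 : Semi Q) := rfl
  rw [h2] at h
  exact (mul_eq_left₀ (dt_ne_zero _)).1 h.symm

theorem mat_of_refl {s : Semi Q} (hs : s.σ = RingEquiv.refl F) (v : ι → F) : (s.mat : Matrix ι ι F) *ᵥ v = s.Φ v := by
  have := s.mat_mulVec v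
  rw [hs] at this
  exact this

theorem dt_sc (u : Fˣ) : (sc u : Semi Q).dt = (u : F) ^ Fintype.card ι := by
  have : ((sc u : Semi Q).mat : Matrix ι ι F) = (u : F) • (1 : Matrix ι ι F) := by
    apply matrix_ext_of_mulVec
    intro v
    rw [mat_of_refl rfl, sc_Φ, smul_mulVec, one_mulVec]
  rw [dt, this, det_smul, det_one, mul_one]

/-- the determinant of a similitude -/
theorem dt_sq (hQ : Nd Q) {m : ℕ} (hn : Fintype.card ι = 2 * m) {s : Semi Q} (hs : s.σ = RingEquiv.refl F) :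
    s.dt * s.dt = s.c ^ m * s.c ^ m := by
  set B := LinearMap.BilinForm.toMatrix (Pi.basisFun F ι) (polarBilin Q) with hB
  have hBne : B.det ≠ 0 := (LinearMap.BilinForm.nondegenerate_iff_det_ne_zero _).1 hQ
  have h1 : (s.mat : Matrix ι ι F)ᵀ * B * (s.mat : Matrix ι ι F) = s.c • B := by
    have hBv : ∀ v w : ι → F, v ⬝ᵥ (B *ᵥ w) = polar Q v w := by
      intro v w
      rw [← polarBilin_apply_apply]
      refine (LinearMap.BilinForm.dotProduct_toMatrix_mulVec (Pi.basisFun F ι) (polarBilin Q) v w).trans ?_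
      rw [Pi.basisFun_equivFun]
      rfl
    apply Matrix.ext
    intro i j
    have h3 : ∀ M : Matrix ι ι F, M i j = (Pi.single i 1 : ι → F) ⬝ᵥ (M *ᵥ (Pi.single j 1 : ι → F)) := by
      intro M
      simp
    rw [h3 ((s.mat : Matrix ι ι F)ᵀ * B * (s.mat : Matrix ι ι F)), h3 (s.c • B)]
    rw [← mulVec_mulVec, ← mulVec_mulVec, dotProduct_mulVec, vecMul_transpose, hBv, mat_of_refl hs, mat_of_refl hs,
      s.polar_map, hs, smul_mulVec, dotProduct_smul, hBv]
    rfl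
  have h2 := congrArg Matrix.det h1
  rw [det_mul, det_mul, det_transpose, det_smul, hn] at h2
  have h4 : B.det * (s.dt * s.dt) = B.det * (s.c ^ m * s.c ^ m) := by
    change (s.mat : Matrix ι ι F).det * B.det * (s.mat : Matrix ι ι F).det = _ at h2
    rw [← pow_add, ← two_mul]
    rw [dt]
    linear_combination h2
  exact mul_left_cancel₀ hBne h4

theorem dt_cases (hQ : Nd Q) {m : ℕ} (hn : Fintype.card ι = 2 * m) {s : Semi Q} (hs : s.σ = RingEquiv.refl F) :
    s.dt = s.c ^ m ∨ s.dt = - s.c ^ m := by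
  have h := dt_sq hQ hn hs
  exact mul_self_eq_mul_self_iff.1 h

variable [Finite F]

/-- parity and determinant -/
theorem par_eq_one_iff (hQ : Nd Q) (h2 : (2 : F) ≠ 0) (g : O Q) :
    parHom hQ (hQ.R_eq_O (genHyp_of_two_ne_zero h2)) g = 1 ↔ (oHom g : Semi Q).dt = 1 := by
  have h1 := special_eq_ker hQ h2
  have h3 : Quad.ofO g.2 ∈ Cfsg.specialIsometryGroup F ⇑Q ↔ Quad.ofO g.2 ∈
      ((parHom hQ (hQ.R_eq_O (genHyp_of_two_ne_zero h2))).comp (toO Q).toMonoidHom).ker := by rw [h1]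
  rw [mem_special_iff, MonoidHom.mem_ker] at h3
  have h4 : ((parHom hQ (hQ.R_eq_O (genHyp_of_two_ne_zero h2))).comp (toO Q).toMonoidHom) (Quad.ofO g.2) =
      parHom hQ (hQ.R_eq_O (genHyp_of_two_ne_zero h2)) g := by
    change parHom hQ (hQ.R_eq_O (genHyp_of_two_ne_zero h2)) (toO Q ((toO Q).symm g)) = _
    rw [MulEquiv.apply_symm_apply]
  rw [h4] at h3
  rw [← h3]
  have h5 : (((Quad.ofO g.2 : ↥(Cfsg.isometryGroup F ⇑Q)) : Matrix.GeneralLinearGroup ι F) : Matrix ι ι F) =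
      ((oHom g : Semi Q).mat : Matrix ι ι F) := by
    apply matrix_ext_of_mulVec
    intro v
    rw [ofO_mulVec, mat_of_refl rfl]
    rfl
  rw [h5]; rfl

/-- the commutator of a similitude and a semisimilarity is a special isometry up to a scalar -/
theorem commutator_special (hQ : Nd Q) (h2 : (2 : F) ≠ 0) {m : ℕ} (hn : Fintype.card ι = 2 * m) (φ : Semi Q) {s : Semi Q}
    (hs : s.σ = RingEquiv.refl F) :
    ∃ (u : Fˣ) (h : O Q), parHom hQ (hQ.R_eq_O (genHyp_of_two_ne_zero h2)) h = 1 ∧ φ * s * φ⁻¹ * s⁻¹ = sc u * oHom h := by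
  set x := φ * s * φ⁻¹ * s⁻¹ with hx
  have hφi : φ * φ⁻¹ = 1 := mul_inv_cancel φ
  have hsi : s * s⁻¹ = 1 := mul_inv_cancel s
  -- multipliers
  have c1 : φ.c * φ.σ (φ⁻¹).c = 1 := by
    have := congrArg Semi.c hφi
    rwa [mul_c, one_c] at this
  have c2 : s.c * (s⁻¹).c = 1 := by
    have := congrArg Semi.c hsi
    rw [mul_c, one_c, hs] at this
    exact this
  have d1 : φ.dt * φ.σ (φ⁻¹).dt = 1 := by
    have := congrArg Semi.dt hφi
    rwa [dt_mul, dt_one] at this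
  have d2 : s.dt * (s⁻¹).dt = 1 := by
    have := congrArg Semi.dt hsi
    rw [dt_mul, dt_one, hs] at this
    exact this
  have σ1 : (φ * s).σ = φ.σ := by rw [mul_σ, hs]; rfl
  have σ2 : (φ * s * φ⁻¹).σ = RingEquiv.refl F := by
    rw [mul_σ, σ1, inv_σ]
    exact RingEquiv.ext fun x => by simp
  have xσ : x.σ = RingEquiv.refl F := by
    rw [hx, mul_σ, σ2, inv_σ, hs]; rfl
  have xc : x.c * s.c = φ.σ s.c := by
    rw [hx, mul_c, σ2, mul_c, mul_c, σ1]
    change φ.c * φ.σ s.c * φ.σ (φ⁻¹).c * (s⁻¹).c * s.c = _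
    linear_combination (φ.σ s.c) * s.c * (s⁻¹).c * c1 + (φ.σ s.c) * c2
  have xd : x.dt * s.dt = φ.σ s.dt := by
    rw [hx, dt_mul, σ2, dt_mul, dt_mul, σ1]
    change φ.dt * φ.σ s.dt * φ.σ (φ⁻¹).dt * (s⁻¹).dt * s.dt = _
    linear_combination (φ.σ s.dt) * s.dt * (s⁻¹).dt * d1 + (φ.σ s.dt) * d2
  have xsq : IsSquare x.c := by
    have h3 : IsSquare (x.c * s.c) ↔ IsSquare s.c := by rw [xc, isSquare_map_iff]
    rw [isSquare_mul_iff x.c0 s.c0] at h3
    by_contra hns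
    by_cases h4 : IsSquare s.c
    · exact hns ((h3.2 h4).2 h4)
    · exact h4 (h3.1 ⟨fun h => absurd h hns, fun h => absurd h h4⟩)
  obtain ⟨r, hr⟩ := xsq
  have hr0 : r ≠ 0 := by
    rintro rfl
    exact x.c0 (by rw [hr, mul_zero])
  let u : Fˣ := Units.mk0 r hr0
  have hy : (sc u⁻¹ * x : Semi Q).c = 1 := by
    rw [mul_c, sc_c, sc_σ, hr]
    change ((u⁻¹ : Fˣ) : F) * ((u⁻¹ : Fˣ) : F) * (r * r) = 1
    have : ((u⁻¹ : Fˣ) : F) = r⁻¹ := rfl
    rw [this]
    field_simp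
  have hyσ : (sc u⁻¹ * x : Semi Q).σ = RingEquiv.refl F := by rw [mul_σ, xσ, sc_σ]; rfl
  obtain ⟨h, hh⟩ := mem_ker_mlt.1 (show (⟨sc u⁻¹ * x, hyσ⟩ : (sig (Q := Q)).ker) ∈ (mlt (Q := Q)).ker from by
    rw [MonoidHom.mem_ker]
    ext
    exact hy)
  change sc u⁻¹ * x = oHom h at hh
  refine ⟨u, h, ?_, ?_⟩
  · rw [par_eq_one_iff hQ h2, ← hh, dt_mul, dt_sc, sc_σ]
    change ((u⁻¹ : Fˣ) : F) ^ Fintype.card ι * x.dt = 1
    have : ((u⁻¹ : Fˣ) : F) = r⁻¹ := rfl
    rw [this, hn]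
    -- x.dt = x.c ^ m
    have hxd : x.dt = x.c ^ m := by
      apply mul_right_cancel₀ (dt_ne_zero s)
      rcases dt_cases hQ hn hs with h5 | h5
      · rw [xd, h5, map_pow, ← xc, mul_pow]
      · rw [xd, h5, map_neg, map_pow, ← xc, mul_pow]; ring
    rw [hxd, hr, pow_mul, ← mul_pow]
    have : r⁻¹ ^ 2 * (r * r) = 1 := by field_simp
    rw [this, one_pow]
  · rw [← hh, ← mul_assoc, ← map_mul, mul_inv_cancel, map_one, one_mul]

end Det

end Semi

end Cfsg.Agent.Lib.OAut
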