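import Mathlib
import Cfsg.Agent.Lib.OAutN

/-!
Automorphisms of `PΩ(Q)`, part O: the structure of `Out(PΩ(Q))`.
-/

set_option autoImplicit false

namespace Cfsg.Agent.Lib.OAut

open Cfsg.Agent.Lib.Quad Cfsg.Agent.Lib.ClOrthSiegel Cfsg.Agent.Lib.ClOmega QuadraticMap Module

namespace Semi

section General

variable {F V : Type*} [Field F] [Finite F] [AddCommGroup V] [Module F V] [FiniteDimensional F V] {Q : QuadraticForm F V}
  (D : Dat Q)

/-- the field automorphism of an outer class -/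
noncomputable def outSig (hB : Big Q) {e₁ e₂ f₁ f₂ : V} (h : H2 Q e₁ e₂ f₁ f₂) : Cfsg.Out (PO Q) →* (F ≃+* F) :=
  (outHom (Q := Q)).liftOfSurjective (outHom_surjective D hB h) ⟨sig, fun s hs => by
    have h1 : outHom s = outHom (1 : Semi Q) := by rw [map_one]; exact hs
    exact sig_eq_of_outHom D h h1⟩

theorem outSig_outHom (hB : Big Q) {e₁ e₂ f₁ f₂ : V} (h : H2 Q e₁ e₂ f₁ f₂) (s : Semi Q) :
    outSig D hB h (outHom s) = s.σ :=
  MonoidHom.liftOfRightInverse_comp_apply _ _ _ _ s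

theorem outSig_surjective (hB : Big Q) {e₁ e₂ f₁ f₂ : V} (h : H2 Q e₁ e₂ f₁ f₂)
    (hσ : Function.Surjective (sig (Q := Q))) : Function.Surjective (outSig D hB h) := by
  intro τ
  obtain ⟨s, hs⟩ := hσ τ
  exact ⟨outHom s, by rw [outSig_outHom]; exact hs⟩

include D in
/-- the case in which the kernel of `Out → Gal` has order two and the extension splits -/
theorem out_of_two {n : ℕ} (hn : 0 < n) (hB : Big Q) {e₁ e₂ f₁ f₂ : V} (h : H2 Q e₁ e₂ f₁ f₂)
    (hσ : Function.Surjective (sig (Q := Q))) (hcF : Nat.card (F ≃+* F) = n) (hcard : Nat.card (Cfsg.Out (PO Q)) = 2 * n)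
    (s : Semi Q) (hs : outHom s ^ n = 1) (hso : orderOf s.σ = n) :
    Nonempty (Cfsg.Out (PO Q) ≃* Multiplicative (ZMod 2 × ZMod n)) := by
  have hfin : Finite (Cfsg.Out (PO Q)) := Nat.finite_of_card_ne_zero (by rw [hcard]; omega)
  set K := (outSig D hB h).ker with hK
  have hcK : Nat.card K = 2 := by
    have h1 := card_hom (outSig D hB h)
    rw [MonoidHom.range_eq_top.2 (outSig_surjective D hB h hσ), Nat.card_congr (Subgroup.topEquiv (G := F ≃+* F)).toEquiv,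
      hcF, hcard] at h1
    have h2 : n * 2 = n * Nat.card K := by rw [mul_comm n 2]; exact h1
    exact (Nat.eq_of_mul_eq_mul_left hn h2).symm
  obtain ⟨e⟩ := ProdZMod.equiv_zmod_two hcK
  obtain ⟨e'⟩ := ProdZMod.prod_zmod hn K.subtype (Subgroup.subtype_injective K) (outHom s) hs
    (by
      intro k
      obtain ⟨t, ht⟩ : ∃ t : K, t ≠ 1 ∧ ∀ x : K, x = 1 ∨ x = t := by
        obtain ⟨t, ht, ht'⟩ := (Nat.card_eq_two_iff' (1 : K)).1 hcK
        refine ⟨t, ht, fun x => ?_⟩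
        by_cases hx : x = 1
        · exact Or.inl hx
        · exact Or.inr (ht' x hx)
      have hnK : K.Normal := MonoidHom.normal_ker _
      rcases ht.2 k with hk | hk
      · rw [hk, map_one]; exact Commute.one_left _
      · have h3 := ht.2 ⟨outHom s * k * (outHom s)⁻¹, hnK.conj_mem _ k.2 _⟩
        rcases h3 with h4 | h4
        · exfalso
          have h5 : outHom s * (k : Cfsg.Out (PO Q)) * (outHom s)⁻¹ = 1 := congrArg Subtype.val h4
          have h6 : (k : Cfsg.Out (PO Q)) = 1 := by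
            rw [mul_inv_eq_one] at h5
            exact mul_eq_left.1 h5
          exact ht.1 (by rw [← hk]; exact Subtype.ext h6)
        · have h5 : outHom s * (k : Cfsg.Out (PO Q)) * (outHom s)⁻¹ = k := by
            rw [hk]
            have := congrArg Subtype.val h4
            rw [hk] at this
            exact this
          rw [mul_inv_eq_iff_eq_mul] at h5
          exact h5.symm)
    (by
      intro j hj
      rw [Subgroup.range_subtype, hK, MonoidHom.mem_ker, map_pow, outSig_outHom] at hj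
      rw [← hso]
      exact orderOf_dvd_of_pow_eq_one hj)
    (by rw [hcard, hcK])
  exact ⟨e'.trans ((MulEquiv.prodCongr e (MulEquiv.refl _)).trans (MulEquiv.prodMultiplicative _ _).symm)⟩

end General

section EvenDim

variable {ι : Type} [Fintype ι] [DecidableEq ι] {F : Type*} [Field F] [Finite F] {Q : QuadraticForm F (ι → F)}

/-- the parity -/
noncomputable abbrev par (hQ : Nd Q) (h2 : (2 : F) ≠ 0) : O Q →* ℤˣ := parHom hQ (hQ.R_eq_O (genHyp_of_two_ne_zero h2))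

/-- the spinor norm -/
noncomputable abbrev spin (hQ : Nd Q) (h2 : (2 : F) ≠ 0) : O Q →* ℤˣ := spinHom hQ (hQ.R_eq_O (genHyp_of_two_ne_zero h2))

/-- a reflection -/
noncomputable def rf (Q : QuadraticForm F (ι → F)) (v : ι → F) : O Q := ⟨refl Q v, refl_mem v⟩

omit [Finite F] in
theorem oHom_neg : (oHom ⟨LinearEquiv.neg F, fun v => by
    change Q (-v) = Q v; simp⟩ : Semi Q) = sc (-1) := by
  refine ext' rfl (fun v => ?_) ?_
  · change -v = (((-1 : Fˣ)) : F) • v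
    simp
  · change (1 : F) = (((-1 : Fˣ) : F) * ((-1 : Fˣ) : F))
    simp

theorem par_neg (hQ : Nd Q) (h2 : (2 : F) ≠ 0) {m : ℕ} (hn : Fintype.card ι = 2 * m) (hmem : (LinearEquiv.neg F : (ι → F) ≃ₗ[F] (ι → F)) ∈ O Q) :
    par hQ h2 ⟨LinearEquiv.neg F, hmem⟩ = 1 := by
  rw [par_eq_one_iff hQ h2, oHom_neg, dt_sc, hn, pow_mul]
  simp

theorem neg_mem_O : (LinearEquiv.neg F : (ι → F) ≃ₗ[F] (ι → F)) ∈ O Q := fun v => by
  change Q (-v) = Q v; simp

variable (D : Dat Q) (h2 : (2 : F) ≠ 0) {m : ℕ} (hn : Fintype.card ι = 2 * m) {e₁ e₂ f₁ f₂ : ι → F}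
  (h : H2 Q e₁ e₂ f₁ f₂)

include hn h in
theorem par_of_outHom {g : O Q} (hg : outHom (oHom g : Semi Q) = 1) : par D.nd h2 g = 1 := by
  have key : ∀ k : O Q, (k : (ι → F) ≃ₗ[F] (ι → F)) ∈ Om Q → par D.nd h2 k = 1 := fun k hk =>
    ((mem_Om_iff_homs D.nd (genHyp_of_two_ne_zero h2) k).1 hk).1
  rcases outHom_oHom_eq_one D h hg with h1 | h1
  · exact key g h1
  · have h3 : (⟨LinearEquiv.neg F, neg_mem_O⟩ : O Q) * g = ⟨_, Om_le h1⟩ := rfl
    have h4 := key ⟨_, Om_le h1⟩ h1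
    rw [← h3, map_mul, par_neg D.nd h2 hn, one_mul] at h4
    exact h4

/-- the class of a reflection -/
noncomputable def Rc (Q : QuadraticForm F (ι → F)) (v : ι → F) : Cfsg.Out (PO Q) := outHom (oHom (rf Q v))

omit [Finite F] in
theorem rf_mul_self (v : ι → F) : rf Q v * rf Q v = 1 := Subtype.ext refl_mul_self'

theorem Rc_sq (v : ι → F) : Rc Q v * Rc Q v = 1 := by
  rw [Rc, ← map_mul, ← map_mul, rf_mul_self, map_one, map_one]

theorem conj_Rc (s : Semi Q) {v : ι → F} (hv : Q v ≠ 0) : outHom s * Rc Q v * (outHom s)⁻¹ = Rc Q (s.Φ v) := by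
  rw [Rc, ← map_mul, ← map_inv, ← map_mul, conj_oHom]
  unfold Rc
  congr 2
  exact Subtype.ext (cj_refl s hv)

theorem par_rf (hQ : Nd Q) {v : ι → F} (hv : Q v ≠ 0) : par hQ h2 (rf Q v) = -1 := parHom_refl hQ _ hv

include D h2 hn h in
theorem Rc_ne_one {v : ι → F} (hv : Q v ≠ 0) : Rc Q v ≠ 1 := by
  intro h1
  have h3 := par_of_outHom D h2 hn h h1
  rw [par_rf h2 D.nd hv] at h3
  exact absurd h3 (by decide)

/-! #### the case `-1 ∉ Ω` -/

include D h2 hn in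
theorem outHom_A (hneg : (LinearEquiv.neg F : (ι → F) ≃ₗ[F] (ι → F)) ∉ Om Q) {g : O Q} (hg : par D.nd h2 g = 1) :
    outHom (oHom g : Semi Q) = 1 := by
  by_cases h1 : spin D.nd h2 g = 1
  · exact outHom_of_mem ((mem_Om_iff_homs D.nd (genHyp_of_two_ne_zero h2) g).2 ⟨hg, h1⟩)
  · apply outHom_of_neg_mem
    have hsneg : spin D.nd h2 ⟨LinearEquiv.neg F, neg_mem_O⟩ ≠ 1 := by
      intro h3
      exact hneg ((mem_Om_iff_homs D.nd (genHyp_of_two_ne_zero h2) ⟨LinearEquiv.neg F, neg_mem_O⟩).2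
        ⟨par_neg D.nd h2 hn _, h3⟩)
    refine (mem_Om_iff_homs D.nd (genHyp_of_two_ne_zero h2) (⟨LinearEquiv.neg F, neg_mem_O⟩ * g)).2 ⟨?_, ?_⟩
    · rw [map_mul]
      change par D.nd h2 _ * par D.nd h2 _ = 1
      rw [hg, mul_one]
      exact par_neg D.nd h2 hn _
    · rw [map_mul]
      change spin D.nd h2 _ * spin D.nd h2 _ = 1
      rcases Int.units_eq_one_or (spin D.nd h2 g) with h4 | h4
      · exact absurd h4 h1
      · rcases Int.units_eq_one_or (spin D.nd h2 ⟨LinearEquiv.neg F, neg_mem_O⟩) with h5 | h5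
        · exact absurd h5 hsneg
        · rw [h4, h5]; rfl

include D h2 hn in
theorem Rc_eq_A (hneg : (LinearEquiv.neg F : (ι → F) ≃ₗ[F] (ι → F)) ∉ Om Q) {v w : ι → F} (hv : Q v ≠ 0) (hw : Q w ≠ 0) :
    Rc Q v = Rc Q w := by
  have h1 := outHom_A D h2 hn hneg (g := rf Q v * rf Q w) (by
    rw [map_mul, par_rf h2 D.nd hv, par_rf h2 D.nd hw]; rfl)
  rw [map_mul, map_mul] at h1
  have h3 := Rc_sq (Q := Q) w
  change Rc Q v * Rc Q w = 1 at h1
  rw [← h3] at h1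
  exact mul_right_cancel h1

include D h2 hn in
theorem commute_Rc_A (hneg : (LinearEquiv.neg F : (ι → F) ≃ₗ[F] (ι → F)) ∉ Om Q) {v : ι → F} (hv : Q v ≠ 0) (s : Semi Q) :
    Commute (Rc Q v) (outHom s) := by
  have h1 := conj_Rc s hv
  rw [Rc_eq_A D h2 hn hneg (v := s.Φ v) (w := v) (by rw [s.q]; exact mul_ne_zero s.c0 ((map_ne_zero s.σ).2 hv)) hv,
    mul_inv_eq_iff_eq_mul] at h1
  exact h1.symm

include D h2 hn in
theorem commute_d_A (hneg : (LinearEquiv.neg F : (ι → F) ≃ₗ[F] (ι → F)) ∉ Om Q) {d : Semi Q} (hd : d.σ = RingEquiv.refl F)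
    (s : Semi Q) : Commute (outHom d) (outHom s) := by
  obtain ⟨u, g, hg, hx⟩ := commutator_special D.nd h2 hn s hd
  have h1 : outHom (s * d * s⁻¹ * d⁻¹) = 1 := by
    rw [hx, map_mul, outHom_sc, one_mul]
    exact outHom_A D h2 hn hneg hg
  rw [map_mul, map_mul, map_mul, map_inv, map_inv, mul_inv_eq_one, mul_inv_eq_iff_eq_mul] at h1
  exact h1.symm

/-! #### the case `-1 ∈ Ω` -/

include D h2 in
theorem outHom_B {g : O Q} (hg : par D.nd h2 g = 1) (hs : spin D.nd h2 g = 1) :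
    outHom (oHom g : Semi Q) = 1 :=
  outHom_of_mem ((mem_Om_iff_homs D.nd (genHyp_of_two_ne_zero h2) g).2 ⟨hg, hs⟩)

include h in
theorem spin_of_outHom_B (hneg : (LinearEquiv.neg F : (ι → F) ≃ₗ[F] (ι → F)) ∈ Om Q) {g : O Q}
    (hg : outHom (oHom g : Semi Q) = 1) : spin D.nd h2 g = 1 := by
  have key : ∀ k : O Q, (k : (ι → F) ≃ₗ[F] (ι → F)) ∈ Om Q → spin D.nd h2 k = 1 := fun k hk =>
    ((mem_Om_iff_homs D.nd (genHyp_of_two_ne_zero h2) k).1 hk).2
  rcases outHom_oHom_eq_one D h hg with h1 | h1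
  · exact key g h1
  · have h3 : (⟨LinearEquiv.neg F, neg_mem_O⟩ : O Q) * g = ⟨_, Om_le h1⟩ := rfl
    have h4 := key ⟨_, Om_le h1⟩ h1
    rw [← h3, map_mul, key ⟨LinearEquiv.neg F, neg_mem_O⟩ hneg, one_mul] at h4
    exact h4

theorem spin_rf (hQ : Nd Q) {v : ι → F} (hv : Q v ≠ 0) : spin hQ h2 (rf Q v) = sgn (IsSquare (Q v)) := spinHom_refl hQ _ hv

theorem spin_rf_mul (hQ : Nd Q) {v w : ι → F} (hv : Q v ≠ 0) (hw : Q w ≠ 0) :
    spin hQ h2 (rf Q v * rf Q w) = sgn (IsSquare (Q v * Q w)) := by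
  rw [map_mul, spin_rf h2 hQ hv, spin_rf h2 hQ hw]
  exact (sgn_mul (isSquare_mul_iff hv hw)).symm

theorem par_rf_mul (hQ : Nd Q) {v w : ι → F} (hv : Q v ≠ 0) (hw : Q w ≠ 0) :
    par hQ h2 (rf Q v * rf Q w) = 1 := by
  rw [map_mul, par_rf h2 hQ hv, par_rf h2 hQ hw]; rfl

include D h2 in
theorem Rc_eq_B {v w : ι → F} (hv : Q v ≠ 0) (hw : Q w ≠ 0) (hs : IsSquare (Q v * Q w)) :
    Rc Q v = Rc Q w := by
  have h1 := outHom_B D h2 (g := rf Q v * rf Q w) (par_rf_mul h2 D.nd hv hw)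
    (by rw [spin_rf_mul h2 D.nd hv hw]; exact sgn_true hs)
  rw [map_mul, map_mul] at h1
  have h3 := Rc_sq (Q := Q) w
  change Rc Q v * Rc Q w = 1 at h1
  rw [← h3] at h1
  exact mul_right_cancel h1

include D h2 h in
theorem zeta_ne_one (hneg : (LinearEquiv.neg F : (ι → F) ≃ₗ[F] (ι → F)) ∈ Om Q) {v w : ι → F} (hv : Q v ≠ 0)
    (hw : Q w ≠ 0) (hs : ¬ IsSquare (Q v * Q w)) : Rc Q v * Rc Q w ≠ 1 := by
  intro h1
  have h3 : outHom (oHom (rf Q v * rf Q w)) = 1 := by rw [map_mul, map_mul]; exact h1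
  have h4 := spin_of_outHom_B D h2 h hneg h3
  rw [spin_rf_mul h2 D.nd hv hw, sgn_eq_one_iff] at h4
  exact hs h4

include D h2 in
/-- special isometries have at most two classes -/
theorem outHom_special {v w : ι → F} (hv : Q v ≠ 0)
    (hw : Q w ≠ 0) (hs : ¬ IsSquare (Q v * Q w)) {g : O Q} (hg : par D.nd h2 g = 1) :
    outHom (oHom g : Semi Q) = 1 ∨ outHom (oHom g : Semi Q) = Rc Q v * Rc Q w := by
  rcases Int.units_eq_one_or (spin D.nd h2 g) with h4 | h4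
  · exact Or.inl (outHom_B D h2 hg h4)
  · right
    have h5 := outHom_B D h2 (g := g * (rf Q v * rf Q w)⁻¹) (by
      rw [map_mul, map_inv, hg, par_rf_mul h2 D.nd hv hw]; rfl) (by
      rw [map_mul, map_inv, h4, spin_rf_mul h2 D.nd hv hw, sgn_false hs]; rfl)
    rw [map_mul, map_mul, map_inv, map_inv, mul_inv_eq_one] at h5
    rw [h5, map_mul, map_mul]; rfl

include D h2 h in
/-- the class of special isometries is central -/
theorem commute_zeta (hneg : (LinearEquiv.neg F : (ι → F) ≃ₗ[F] (ι → F)) ∈ Om Q) {v w : ι → F} (hv : Q v ≠ 0)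
    (hw : Q w ≠ 0) (hs : ¬ IsSquare (Q v * Q w)) (s : Semi Q) : Commute (Rc Q v * Rc Q w) (outHom s) := by
  have hv' : Q (s.Φ v) ≠ 0 := by rw [s.q]; exact mul_ne_zero s.c0 ((map_ne_zero s.σ).2 hv)
  have hw' : Q (s.Φ w) ≠ 0 := by rw [s.q]; exact mul_ne_zero s.c0 ((map_ne_zero s.σ).2 hw)
  have h1 : outHom s * (Rc Q v * Rc Q w) * (outHom s)⁻¹ = Rc Q (s.Φ v) * Rc Q (s.Φ w) := by
    rw [← conj_Rc s hv, ← conj_Rc s hw]; group
  have h3 : outHom (oHom (rf Q (s.Φ v) * rf Q (s.Φ w))) = Rc Q (s.Φ v) * Rc Q (s.Φ w) := by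
    rw [map_mul, map_mul]; rfl
  rcases outHom_special D h2 hv hw hs (par_rf_mul h2 D.nd hv' hw') with h4 | h4
  · exfalso
    rw [h3, ← h1, mul_inv_eq_one] at h4
    exact zeta_ne_one D h2 h hneg hv hw hs (mul_eq_left.1 h4)
  · rw [h3, ← h1, mul_inv_eq_iff_eq_mul] at h4
    exact h4.symm

include D h2 hn in
theorem commutator_d_B {v w : ι → F} (hv : Q v ≠ 0)
    (hw : Q w ≠ 0) (hs : ¬ IsSquare (Q v * Q w)) {d : Semi Q} (hd : d.σ = RingEquiv.refl F) (s : Semi Q) :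
    outHom s * outHom d * (outHom s)⁻¹ = outHom d ∨
      outHom s * outHom d * (outHom s)⁻¹ = Rc Q v * Rc Q w * outHom d := by
  obtain ⟨u, g, hg, hx⟩ := commutator_special D.nd h2 hn s hd
  have h1 : outHom s * outHom d * (outHom s)⁻¹ * (outHom d)⁻¹ = outHom (oHom g) := by
    rw [← map_inv, ← map_inv, ← map_mul, ← map_mul, ← map_mul, hx, map_mul, outHom_sc, one_mul]
  rcases outHom_special D h2 hv hw hs hg with h4 | h4
  · left
    rw [h4, mul_inv_eq_one] at h1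
    exact h1
  · right
    rw [h4, mul_inv_eq_iff_eq_mul] at h1
    exact h1

/-- the data of a similitude with non-square multiplier and scalar square -/
structure Dl (d : Semi Q) : Prop where
  σ : d.σ = RingEquiv.refl F
  ns : ¬ IsSquare d.c
  sq : ∃ u : Fˣ, d * d = sc u

theorem Dl.out_sq {d : Semi Q} (hd : Dl d) : outHom d * outHom d = 1 := by
  obtain ⟨u, hu⟩ := hd.sq
  rw [← map_mul, hu, outHom_sc]

include D h in
theorem Dl.ne_oHom {d : Semi Q} (hd : Dl d) (g : O Q) : outHom d ≠ outHom (oHom g) := by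
  intro h1
  have h3 := chi_of_outHom D h h1
  rw [chi_oHom, chi_eq_neg_one hd.ns] at h3
  exact absurd h3 (by decide)

theorem Dl.not_sq {d : Semi Q} (hd : Dl d) {v : ι → F} (hv : Q v ≠ 0) : ¬ IsSquare (Q v * Q (d.Φ v)) := by
  rw [d.q, hd.σ]
  change ¬ IsSquare (Q v * (d.c * Q v))
  have : Q v * (d.c * Q v) = d.c * (Q v * Q v) := by ring
  rw [this, isSquare_mul_sq_iff hv]
  exact hd.ns

theorem Dl.q_ne {d : Semi Q} {v : ι → F} (hv : Q v ≠ 0) : Q (d.Φ v) ≠ 0 := by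
  rw [d.q]; exact mul_ne_zero d.c0 ((map_ne_zero d.σ).2 hv)

/-- `(r d)² = ζ` -/
theorem Dl.rd_sq {d : Semi Q} (hd : Dl d) {v : ι → F} (hv : Q v ≠ 0) :
    (Rc Q v * outHom d) * (Rc Q v * outHom d) = Rc Q v * Rc Q (d.Φ v) := by
  have h1 := conj_Rc d hv
  have h3 : (outHom d)⁻¹ = outHom d := inv_eq_of_mul_eq_one_left hd.out_sq
  rw [h3] at h1
  rw [← h1]; group

include D h2 h in
theorem Dl.orderOf_rd {d : Semi Q} (hd : Dl d) (hneg : (LinearEquiv.neg F : (ι → F) ≃ₗ[F] (ι → F)) ∈ Om Q)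
    {v : ι → F} (hv : Q v ≠ 0) : orderOf (Rc Q v * outHom d) = 4 := by
  have hz := zeta_ne_one D h2 h hneg hv (Dl.q_ne hv) (hd.not_sq hv)
  have hz2 : (Rc Q v * Rc Q (d.Φ v)) * (Rc Q v * Rc Q (d.Φ v)) = 1 := by
    have hc := commute_zeta D h2 h hneg hv (Dl.q_ne hv) (hd.not_sq hv) (oHom (rf Q v) : Semi Q)
    change Commute _ (Rc Q v) at hc
    have h3 : Rc Q v * (Rc Q v * Rc Q (d.Φ v)) = (Rc Q v * Rc Q (d.Φ v)) * Rc Q v := hc.symm
    have h4 : (Rc Q v * Rc Q (d.Φ v)) * Rc Q v = Rc Q (d.Φ v) := by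
      rw [← h3, ← mul_assoc, Rc_sq, one_mul]
    rw [← mul_assoc, h4, Rc_sq]
  have h5 : orderOf (Rc Q v * outHom d) = 2 ^ (1 + 1) := by
    haveI : Fact (Nat.Prime 2) := ⟨Nat.prime_two⟩
    apply orderOf_eq_prime_pow
    · rw [pow_one, pow_two, hd.rd_sq hv]; exact hz
    · have : (2 : ℕ) ^ (1 + 1) = 2 * 2 := rfl
      rw [this, pow_mul, pow_two, pow_two, hd.rd_sq hv, hz2]
  rw [h5]
  norm_num

include D h2 hn h in
theorem Dl.not_mem {d : Semi Q} (hd : Dl d) (hneg : (LinearEquiv.neg F : (ι → F) ≃ₗ[F] (ι → F)) ∈ Om Q)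
    {v : ι → F} (hv : Q v ≠ 0) : Rc Q v ∉ Subgroup.zpowers (Rc Q v * outHom d) := by
  rintro ⟨k, hk⟩
  have hk' : (Rc Q v * outHom d) ^ k = Rc Q v := hk
  have h1 : outHom ((oHom (rf Q v) * d) ^ k) = outHom (oHom (rf Q v) : Semi Q) := by
    rw [map_zpow, map_mul]; exact hk'
  have h3 := chi_of_outHom D h h1
  rw [map_zpow, map_mul, chi_oHom, one_mul, chi_eq_neg_one hd.ns] at h3
  rcases Int.even_or_odd' k with ⟨j, rfl | rfl⟩
  · rw [zpow_mul, zpow_two, hd.rd_sq hv] at hk'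
    -- powers of zeta
    have hz2 : (Rc Q v * Rc Q (d.Φ v)) * (Rc Q v * Rc Q (d.Φ v)) = 1 := by
      have h4 := orderOf_rd D h2 h hd hneg hv
      have h5 := pow_orderOf_eq_one (Rc Q v * outHom d)
      rw [h4, show (4 : ℕ) = 2 * 2 from rfl, pow_mul, pow_two, pow_two, hd.rd_sq hv] at h5
      exact h5
    rcases Int.even_or_odd' j with ⟨i, rfl | rfl⟩
    · rw [zpow_mul, zpow_two, hz2, one_zpow] at hk'
      exact Rc_ne_one D h2 hn h hv hk'.symm
    · rw [zpow_add, zpow_mul, zpow_two, hz2, one_zpow, one_mul, zpow_one] at hk'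
      exact Rc_ne_one D h2 hn h (Dl.q_ne hv) (mul_eq_left.1 hk')
  · rw [zpow_add, zpow_mul, zpow_one] at h3
    have : ((-1 : ℤˣ) ^ (2 : ℤ)) = 1 := by decide
    rw [this, one_zpow, one_mul] at h3
    exact absurd h3 (by decide)

end EvenDim

end Semi

end Cfsg.Agent.Lib.OAut
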