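import Mathlib
import Cfsg.Agent.Lib.OAutO

/-!
Automorphisms of `PΩ(Q)`, part P: `Out(PΩ(Q))` for the standard forms.
-/

set_option autoImplicit false

namespace Cfsg.Agent.Lib.OAut

open Cfsg.Agent.Lib.Quad Cfsg.Agent.Lib.ClOrthSiegel Cfsg.Agent.Lib.ClOmega QuadraticMap Module

namespace Semi

section Even

variable {ι : Type} [Fintype ι] [DecidableEq ι] {F : Type*} [Field F] [Finite F] {Q : QuadraticForm F (ι → F)}
  (D : Dat Q) (h2 : (2 : F) ≠ 0) {m : ℕ} (hn : Fintype.card ι = 2 * m) {e₁ e₂ f₁ f₂ : ι → F}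
  (h : H2 Q e₁ e₂ f₁ f₂)

include D h2 hn h in
/-- the case `-1 ∉ Ω` with a splitting Frobenius -/
theorem out_A_split {n : ℕ} (hn0 : 0 < n) (hB : Big Q) (hneg : (LinearEquiv.neg F : (ι → F) ≃ₗ[F] (ι → F)) ∉ Om Q)
    {d : Semi Q} (hd : Dl d) (hcard : Nat.card (Cfsg.Out (PO Q)) = 4 * n) {v : ι → F} (hv : Q v ≠ 0)
    (s : Semi Q) (hs : outHom s ^ n = 1) (hso : orderOf s.σ = n) :
    Nonempty (Cfsg.Out (PO Q) ≃* Multiplicative (ZMod 2 × ZMod 2 × ZMod n)) := by
  have hfin : Finite (Cfsg.Out (PO Q)) := Nat.finite_of_card_ne_zero (by rw [hcard]; omega)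
  obtain ⟨ι', hι', hval⟩ := ProdZMod.hom_four (Rc Q v) (outHom d) (Rc_sq v) hd.out_sq (Rc_ne_one D h2 hn h hv)
    (by
      have := hd.ne_oHom D h 1
      rwa [map_one, map_one] at this)
    (by
      intro h1
      exact hd.ne_oHom D h (rf Q v) h1.symm)
    (commute_Rc_A D h2 hn hneg hv d)
  have hsig : ∀ a, outSig D hB h (ι' a) = 1 := by
    intro a
    have h1 : outSig D hB h (Rc Q v) = 1 := outSig_outHom D hB h _
    have h3 : outSig D hB h (outHom d) = 1 := by rw [outSig_outHom, hd.σ]; rfl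
    rcases hval a with h4 | h4 | h4 | h4 <;> rw [h4]
    · rw [map_one]
    · exact h1
    · exact h3
    · rw [map_mul, h1, h3, one_mul]
  obtain ⟨e'⟩ := ProdZMod.prod_zmod hn0 ι' hι' (outHom s) hs
    (by
      intro a
      have h1 : Commute (Rc Q v) (outHom s) := commute_Rc_A D h2 hn hneg hv s
      have h3 : Commute (outHom d) (outHom s) := commute_d_A D h2 hn hneg hd.σ s
      rcases hval a with h4 | h4 | h4 | h4 <;> rw [h4]
      · exact Commute.one_left _
      · exact h1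
      · exact h3
      · exact h1.mul_left h3)
    (by
      rintro j ⟨a, ha⟩
      have h5 := hsig a
      rw [ha, map_pow, outSig_outHom] at h5
      rw [← hso]
      exact orderOf_dvd_of_pow_eq_one h5)
    (by
      rw [hcard, Nat.card_prod]
      change 4 * n = Nat.card (ZMod 2) * Nat.card (ZMod 2) * n
      rw [Nat.card_zmod])
  refine ⟨e'.trans ?_⟩
  refine (MulEquiv.prodAssoc).trans ?_
  refine (MulEquiv.prodCongr (MulEquiv.refl _) (MulEquiv.prodMultiplicative _ _).symm).trans ?_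
  exact (MulEquiv.prodMultiplicative _ _).symm

include D h2 hn h in
/-- the case `-1 ∉ Ω` with `φ ^ n` a reflection -/
theorem out_A_refl {n : ℕ} (hn0 : 0 < n) (hB : Big Q) (hneg : (LinearEquiv.neg F : (ι → F) ≃ₗ[F] (ι → F)) ∉ Om Q)
    {d : Semi Q} (hd : Dl d) (hcard : Nat.card (Cfsg.Out (PO Q)) = 4 * n) {v : ι → F} (hv : Q v ≠ 0)
    (s : Semi Q) (hs : outHom s ^ n = Rc Q v) (hso : orderOf s.σ = n) :
    Nonempty (Cfsg.Out (PO Q) ≃* Multiplicative (ZMod 2 × ZMod (2 * n))) := by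
  have hfin : Finite (Cfsg.Out (PO Q)) := Nat.finite_of_card_ne_zero (by rw [hcard]; omega)
  obtain ⟨ι', hι', hval⟩ := ProdZMod.hom_two (outHom d) hd.out_sq
    (by
      have := hd.ne_oHom D h 1
      rwa [map_one, map_one] at this)
  have hdvd : ∀ j : ℕ, outSig D hB h (outHom s ^ j) = 1 → n ∣ j := by
    intro j hj
    rw [map_pow, outSig_outHom] at hj
    rw [← hso]
    exact orderOf_dvd_of_pow_eq_one hj
  obtain ⟨e'⟩ := ProdZMod.prod_zmod (f := 2 * n) (by omega) ι' hι' (outHom s)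
    (by rw [mul_comm, pow_mul, hs, pow_two, Rc_sq])
    (by
      intro a
      have h3 : Commute (outHom d) (outHom s) := commute_d_A D h2 hn hneg hd.σ s
      rcases hval a with h4 | h4 <;> rw [h4]
      · exact Commute.one_left _
      · exact h3)
    (by
      rintro j ⟨a, ha⟩
      have hj : n ∣ j := by
        apply hdvd
        rw [← ha]
        rcases hval a with h4 | h4 <;> rw [h4]
        · rw [map_one]
        · rw [outSig_outHom, hd.σ]; rfl
      obtain ⟨i, rfl⟩ := hj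
      rw [pow_mul, hs] at ha
      rcases Nat.even_or_odd' i with ⟨k, rfl | rfl⟩
      · exact ⟨k, by ring⟩
      · exfalso
        rw [pow_add, pow_mul, pow_two, Rc_sq, one_pow, one_mul, pow_one] at ha
        rcases hval a with h4 | h4 <;> rw [h4] at ha
        · exact Rc_ne_one D h2 hn h hv ha.symm
        · exact hd.ne_oHom D h (rf Q v) ha)
    (by
      rw [hcard]
      change 4 * n = Nat.card (ZMod 2) * (2 * n)
      rw [Nat.card_zmod]; ring)
  exact ⟨e'.trans (MulEquiv.prodMultiplicative _ _).symm⟩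

include D h2 hn h in
/-- the case `-1 ∈ Ω` -/
theorem out_B {n : ℕ} (hn0 : 0 < n) (hB : Big Q) (hneg : (LinearEquiv.neg F : (ι → F) ≃ₗ[F] (ι → F)) ∈ Om Q)
    {d : Semi Q} (hd : Dl d) (hcard : Nat.card (Cfsg.Out (PO Q)) = 8 * n) {v : ι → F} (hv : Q v ≠ 0)
    (ψ : Cfsg.Out (PO Q)) (hs : ψ ^ n = 1) (hso : orderOf (outSig D hB h ψ) = n) (hc1 : Commute (Rc Q v) ψ)
    (hc2 : Commute (outHom d) ψ) :
    Nonempty (Cfsg.Out (PO Q) ≃* DihedralGroup 4 × Multiplicative (ZMod n)) := by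
  have hfin : Finite (Cfsg.Out (PO Q)) := Nat.finite_of_card_ne_zero (by rw [hcard]; omega)
  obtain ⟨ι', hι', hval⟩ := ProdZMod.hom_dih (Rc Q v) (outHom d) (Rc_sq v) hd.out_sq (hd.orderOf_rd D h2 h hneg hv)
    (hd.not_mem D h2 hn h hneg hv)
  have hle : Subgroup.closure {Rc Q v, outHom d} ≤ (outSig D hB h).ker := by
    rw [Subgroup.closure_le]
    rintro x (rfl | rfl)
    · exact outSig_outHom D hB h _
    · rw [SetLike.mem_coe, MonoidHom.mem_ker, outSig_outHom, hd.σ]; rfl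
  have hle2 : Subgroup.closure {Rc Q v, outHom d} ≤ Subgroup.centralizer {ψ} := by
    rw [Subgroup.closure_le]
    rintro x (rfl | rfl)
    · rw [SetLike.mem_coe, Subgroup.mem_centralizer_singleton_iff]; exact hc1
    · rw [SetLike.mem_coe, Subgroup.mem_centralizer_singleton_iff]; exact hc2
  refine ProdZMod.prod_zmod hn0 ι' hι' ψ hs ?_ ?_ ?_
  · intro a
    have h1 := hle2 (hval a)
    rw [Subgroup.mem_centralizer_singleton_iff] at h1
    exact h1
  · rintro j ⟨a, ha⟩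
    have h1 := MonoidHom.mem_ker.1 (hle (hval a))
    rw [ha, map_pow] at h1
    rw [← hso]
    exact orderOf_dvd_of_pow_eq_one h1
  · rw [hcard, DihedralGroup.nat_card]

/-- an odd power corrects the Frobenius -/
theorem odd_trick {G : Type*} [Group G] {ψ r z : G} {n : ℕ} (hn : Odd n) (hψ : ψ ^ (2 * n) = 1) (hz : z * z = 1)
    (hzψ : Commute z ψ) (h1 : Commute r ψ) : (ψ ^ (n + 1)) ^ n = 1 ∧ Commute r (ψ ^ (n + 1)) ∧
      ∀ d, (ψ * d * ψ⁻¹ = d ∨ ψ * d * ψ⁻¹ = z * d) → Commute d (ψ ^ (n + 1)) := by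
  obtain ⟨k, hk⟩ := hn
  refine ⟨?_, h1.pow_right _, ?_⟩
  · rw [← pow_mul, hk, show (2 * k + 1 + 1) * (2 * k + 1) = (2 * (2 * k + 1)) * (k + 1) by ring, pow_mul, ← hk, hψ,
      one_pow]
  · intro d hd
    have h2 : Commute d (ψ * ψ) := by
      rcases hd with hd | hd
      · rw [mul_inv_eq_iff_eq_mul] at hd
        have h3 : Commute d ψ := hd.symm
        exact h3.mul_right h3
      · have h4 : ψ * (z * d) * ψ⁻¹ = d := by
          have : ψ * (z * d) * ψ⁻¹ = (ψ * z * ψ⁻¹) * (ψ * d * ψ⁻¹) := by group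
          rw [this, hd, hzψ.symm.eq, mul_inv_cancel_right, ← mul_assoc, hz, one_mul]
        rw [← hd] at h4
        have h5 : ψ * ψ * d = d * (ψ * ψ) := by
          have h6 : ψ * (ψ * d * ψ⁻¹) * ψ⁻¹ = ψ * ψ * d * (ψ * ψ)⁻¹ := by group
          rw [h6, mul_inv_eq_iff_eq_mul] at h4
          exact h4
        exact h5.symm
    have h7 : ψ ^ (n + 1) = (ψ * ψ) ^ (k + 1) := by
      rw [← pow_two, ← pow_mul, hk]; congr 1
    rw [h7]
    exact h2.pow_right _

/-- modification of a splitting Frobenius by a reflection -/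
theorem split_trick {G : Type*} [Group G] {ψ r d z : G} {n : ℕ} (hψ : ψ ^ n = 1) (hr : r * r = 1) (hz : z * z = 1)
    (hz1 : z ≠ 1) (hzψ : Commute z ψ) (h1 : Commute r ψ) (hrd : r * d * r⁻¹ = z * d)
    (hd : ψ * d * ψ⁻¹ = d ∨ ψ * d * ψ⁻¹ = z * d) :
    ∃ χ, (χ = ψ ∨ χ = ψ * r) ∧ χ ^ n = 1 ∧ Commute r χ ∧ Commute d χ := by
  rcases hd with hd | hd
  · refine ⟨ψ, Or.inl rfl, hψ, h1, ?_⟩
    rw [mul_inv_eq_iff_eq_mul] at hd
    exact hd.symm
  · refine ⟨ψ * r, Or.inr rfl, ?_, ?_, ?_⟩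
    · -- n is even
      have hpow : ∀ k : ℕ, ψ ^ k * d * (ψ ^ k)⁻¹ = z ^ k * d := by
        intro k
        induction k with
        | zero => simp
        | succ k ih =>
          have : ψ ^ (k + 1) * d * (ψ ^ (k + 1))⁻¹ = ψ * (ψ ^ k * d * (ψ ^ k)⁻¹) * ψ⁻¹ := by
            rw [pow_succ']; group
          rw [this, ih]
          have h3 : ψ * (z ^ k * d) * ψ⁻¹ = (ψ * z ^ k * ψ⁻¹) * (ψ * d * ψ⁻¹) := by group
          rw [h3, hd, ((hzψ.pow_left k).symm).eq, mul_inv_cancel_right, ← mul_assoc, ← pow_succ]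
      have hev : Even n := by
        by_contra hodd
        rw [Nat.not_even_iff_odd] at hodd
        obtain ⟨k, hk⟩ := hodd
        have h4 := hpow n
        rw [hψ, one_mul, inv_one, mul_one] at h4
        have h5 : z ^ n = 1 := mul_eq_right.1 h4.symm
        rw [hk, pow_succ, pow_mul, pow_two, hz, one_pow, one_mul] at h5
        exact hz1 h5
      obtain ⟨k, hk⟩ := hev
      rw [h1.symm.mul_pow, hψ, one_mul, hk, ← two_mul, pow_mul, pow_two, hr, one_pow]
    · exact h1.mul_right (Commute.refl r)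
    · have h3 : ψ * r * d * (ψ * r)⁻¹ = d := by
        have : ψ * r * d * (ψ * r)⁻¹ = ψ * (r * d * r⁻¹) * ψ⁻¹ := by group
        rw [this, hrd]
        have h4 : ψ * (z * d) * ψ⁻¹ = (ψ * z * ψ⁻¹) * (ψ * d * ψ⁻¹) := by group
        rw [h4, hd, hzψ.symm.eq, mul_inv_cancel_right, ← mul_assoc, hz, one_mul]
      rw [mul_inv_eq_iff_eq_mul] at h3
      exact h3.symm

end Even

section Std

variable {F : Type*} [Field F] [Fintype F] {m : ℕ}

/-- from `Aut` to `Out` -/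
theorem card_out_of {ι : Type} [Fintype ι] [DecidableEq ι] {Q : QuadraticForm F (ι → F)} (D : Dat Q)
    {e₁ e₂ f₁ f₂ : ι → F} (h : H2 Q e₁ e₂ f₁ f₂) {k : ℕ}
    (hc : Nat.card (MulAut (PO Q)) = k * Nat.card (PO Q)) : Nat.card (Cfsg.Out (PO Q)) = k := by
  rw [card_aut_eq_out D h] at hc
  have hfin : Finite (PO Q) := Finite.of_equiv _ (poEquiv Q).toEquiv
  exact Nat.eq_of_mul_eq_mul_right Nat.card_pos hc

/-- `Out(PΩ_{2m+1}(q))` -/
theorem out_odd {p f : ℕ} [hp : Fact p.Prime] (hf : 1 ≤ f) (hF : Fintype.card F = p ^ f) (hp2 : p ≠ 2) (hm : 3 ≤ m) :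
    Nonempty (Cfsg.Out (PO (quadOdd m F)) ≃* Multiplicative (ZMod 2 × ZMod f)) := by
  have hc : CharP F p := charP_of_card_eq_prime_pow hF
  have h2 : (2 : F) ≠ 0 := two_ne_zero_of_pow hF hp2
  have D := dat_odd h2 hm
  have h := h2_odd (F := F) hm
  have hcard : Nat.card (Cfsg.Out (PO (quadOdd m F))) = 2 * f := card_out_of D h (card_aut_odd hF hp2 hm)
  refine out_of_two D (by omega) (big_odd h2) h (sig_surjective_of_coord (fun τ v => coord_odd τ v)) (FFAut.card_aut hF)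
    hcard (coord (fun τ v => coord_odd τ v) (frb F p)) ?_ (orderOf_frb hf hF)
  rw [← map_pow, ← map_pow, ← orderOf_frb hf hF, pow_orderOf_eq_one, map_one, map_one]

theorem card_minus {f : ℕ} {p : ℕ} [hp : Fact p.Prime] (hf : 1 ≤ f) (hF : Fintype.card F = p ^ f) {a b : F}
    (hab : ∀ z₁ z₂ : F, z₁ ^ 2 + a * z₁ * z₂ + b * z₂ ^ 2 = 0 → z₁ = 0 ∧ z₂ = 0) (hm : 3 ≤ m) :
    ((2 : F) = 0 → Nat.card (Cfsg.Out (PO (quadMinus m F a b))) = 2 * f) ∧
    ((2 : F) ≠ 0 → (LinearEquiv.neg F : ((Fin m ⊕ Fin m) ⊕ Fin 2 → F) ≃ₗ[F] _) ∈ Om (quadMinus m F a b) →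
      Nat.card (Cfsg.Out (PO (quadMinus m F a b))) = 8 * f) ∧
    ((2 : F) ≠ 0 → (LinearEquiv.neg F : ((Fin m ⊕ Fin m) ⊕ Fin 2 → F) ≃ₗ[F] _) ∉ Om (quadMinus m F a b) →
      Nat.card (Cfsg.Out (PO (quadMinus m F a b))) = 4 * f) := by
  have D := dat_minus hab hm
  have h := h2_minus a b hm
  have h1 := card_aut_minus hF hf hab hm
  have h3 := count (quadMinus m F a b) (nd_quadMinus (disc_ne_zero_of_anisotropic hab))
    (genHyp_minus m (by omega) a b) (hpMinus m a b) hm (by rw [finrank_minus]; omega)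
  rw [Nat.card_congr (poEquiv (quadMinus m F a b)).toEquiv] at h3
  refine ⟨fun h2 => card_out_of D h ?_, fun h2 hneg => card_out_of D h ?_, fun h2 hneg => card_out_of D h ?_⟩
  · rw [h1, ← h3.1 h2]; ring
  · rw [h1, ← h3.2.1 h2 hneg]; ring
  · rw [h1, ← h3.2.2 h2 hneg]; ring

theorem card_plus {f : ℕ} {p : ℕ} [hp : Fact p.Prime] (hF : Fintype.card F = p ^ f) (hm : 5 ≤ m) :
    ((2 : F) = 0 → Nat.card (Cfsg.Out (PO (quadPlus m F))) = 2 * f) ∧
    ((2 : F) ≠ 0 → (LinearEquiv.neg F : (Fin m ⊕ Fin m → F) ≃ₗ[F] _) ∈ Om (quadPlus m F) →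
      Nat.card (Cfsg.Out (PO (quadPlus m F))) = 8 * f) ∧
    ((2 : F) ≠ 0 → (LinearEquiv.neg F : (Fin m ⊕ Fin m → F) ≃ₗ[F] _) ∉ Om (quadPlus m F) →
      Nat.card (Cfsg.Out (PO (quadPlus m F))) = 4 * f) := by
  have D : Dat (quadPlus m F) := dat_plus (by omega)
  have h := h2_plus (F := F) (m := m) (by omega)
  have h1 := card_aut_plus hF hm
  have h3 := count (quadPlus m F) nd_quadPlus
    (genHyp_plus m (by omega)) (hpPlus m) (by omega) (by rw [finrank_plus]; omega)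
  rw [Nat.card_congr (poEquiv (quadPlus m F)).toEquiv] at h3
  refine ⟨fun h2 => card_out_of D h ?_, fun h2 hneg => card_out_of D h ?_, fun h2 hneg => card_out_of D h ?_⟩
  · rw [h1, ← h3.1 h2]; ring
  · rw [h1, ← h3.2.1 h2 hneg]; ring
  · rw [h1, ← h3.2.2 h2 hneg]; ring

/-- a non-square -/
theorem exists_nonsq (h2 : (2 : F) ≠ 0) : ∃ c : F, c ≠ 0 ∧ ¬ IsSquare c := by
  obtain ⟨ε, hε⟩ : ∃ ε : F, ¬ IsSquare ε := by
    apply FiniteField.exists_nonsquare
    intro h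
    have h5 : ((2 : ℕ) : F) = 0 := by
      rw [← h]; exact CharP.cast_eq_zero F (ringChar F)
    exact h2 (by exact_mod_cast h5)
  refine ⟨ε, ?_, hε⟩
  rintro rfl
  exact hε ⟨0, by simp⟩

/-- the Frobenius class of the minus form has `n`-th power the class of a reflection -/
theorem frob_pow_minus {p f : ℕ} [Fact p.Prime] [CharP F p] {a b : F} (hab : ∀ z₁ z₂ : F, z₁ ^ 2 + a * z₁ * z₂ + b * z₂ ^ 2 = 0 → z₁ = 0 ∧ z₂ = 0)
    {s : Semi (quadMinus m F a b)} (hf : 1 ≤ f) (hF : Fintype.card F = p ^ f)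
    (h1 : s.σ = frb F p) (hc : s.c = 1)
    (h4 : ∀ v i, (s ^ f).Φ v (Sum.inl i) = v (Sum.inl i))
    (h5 : ∀ v, (s ^ f).Φ v (Sum.inr 0) = v (Sum.inr 0) + a * v (Sum.inr 1))
    (h6 : ∀ v, (s ^ f).Φ v (Sum.inr 1) = - v (Sum.inr 1)) :
    ∃ w, quadMinus m F a b w ≠ 0 ∧ s ^ f = oHom (rf (quadMinus m F a b) w) := by
  -- the vector `(a, -2)` in the binary part, or `(1, 0)` rotated
  have hD : a ^ 2 - 4 * b ≠ 0 := disc_ne_zero_of_anisotropic hab
  let w : (Fin m ⊕ Fin m) ⊕ Fin 2 → F := Sum.elim (fun _ => 0) ![a, -2]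
  have hw0 : ∀ i, w (Sum.inl i) = 0 := fun i => rfl
  have hw1 : w (Sum.inr 0) = a := rfl
  have hw2 : w (Sum.inr 1) = -2 := rfl
  have hQw : quadMinus m F a b w = -(a ^ 2 - 4 * b) := by
    rw [coe_quadMinus]
    simp only [Cfsg.quadFormMinus, hw0, hw1, hw2, mul_zero, Finset.sum_const_zero]
    ring
  have hwne : quadMinus m F a b w ≠ 0 := by rw [hQw]; exact neg_ne_zero.2 hD
  have hp : ∀ v, polar (quadMinus m F a b) w v = (a ^ 2 - 4 * b) * v (Sum.inr 1) := by
    intro v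
    rw [coe_quadMinus, polar_quadMinus]
    simp only [hw0, hw1, hw2, zero_mul, add_zero, Finset.sum_const_zero]
    ring
  refine ⟨w, hwne, ?_⟩
  have hσ : (s ^ f).σ = RingEquiv.refl F := by
    have : sig (s ^ f) = 1 := by
      rw [map_pow, sig_apply, h1, ← orderOf_frb hf hF, pow_orderOf_eq_one]
    exact this
  have hcc : ∀ n : ℕ, (s ^ n).c = 1 := by
    intro n
    induction n with
    | zero => rfl
    | succ n ih => rw [pow_succ', mul_c, hc, ih, map_one, one_mul]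
  refine ext' hσ (fun v => ?_) (hcc f)
  rw [oHom_Φ]
  change _ = refl (quadMinus m F a b) w v
  rw [refl_apply hwne, hp, hQw]
  have h7 : (-(a ^ 2 - 4 * b))⁻¹ * ((a ^ 2 - 4 * b) * v (Sum.inr 1)) = - v (Sum.inr 1) := by
    rw [inv_neg]; field_simp
  rw [h7]
  funext i
  rcases i with i | i
  · rw [h4, Pi.sub_apply, Pi.smul_apply, hw0]; simp
  · fin_cases i
    · change (s ^ f).Φ v (Sum.inr 0) = v (Sum.inr 0) - (- v (Sum.inr 1)) * a
      rw [h5]; ring
    · change (s ^ f).Φ v (Sum.inr 1) = v (Sum.inr 1) - (- v (Sum.inr 1)) * (-2)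
      rw [h6]; ring

/-- `Out(PΩ⁻)`, even characteristic -/
theorem out_minus_two {f : ℕ} (hf : 1 ≤ f) (hF : Fintype.card F = 2 ^ f) {a b : F}
    (hab : ∀ z₁ z₂ : F, z₁ ^ 2 + a * z₁ * z₂ + b * z₂ ^ 2 = 0 → z₁ = 0 ∧ z₂ = 0) (hm : 3 ≤ m) :
    IsCyclic (Cfsg.Out (PO (quadMinus m F a b))) ∧ Nat.card (Cfsg.Out (PO (quadMinus m F a b))) = 2 * f := by
  haveI : Fact (Nat.Prime 2) := ⟨Nat.prime_two⟩
  have hc : CharP F 2 := charP_of_card_eq_prime_pow hF
  have h2 : (2 : F) = 0 := two_eq_zero_of_pow hf hF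
  have hcard := (card_minus hf hF hab hm).1 h2
  have hfin : Finite (Cfsg.Out (PO (quadMinus m F a b))) := Nat.finite_of_card_ne_zero (by rw [hcard]; omega)
  refine ⟨?_, hcard⟩
  have D := dat_minus hab hm
  have h := h2_minus a b hm
  have hB := big_minus hm hab
  obtain ⟨s, h1, hsc, h3, h4, h5, h6⟩ := exists_frob_minus (m := m) hF hab
  obtain ⟨w, hw, hsf⟩ := frob_pow_minus hab hf hF h1 hsc h4 h5 h6
  have hR := D.nd.R_eq_O (genHyp_minus m (by omega) a b)
  have hne : outHom (s ^ f) ≠ 1 := by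
    intro h7
    rw [hsf] at h7
    have hpar : parHom D.nd hR (rf (quadMinus m F a b) w) = 1 := by
      rcases outHom_oHom_eq_one D h h7 with h8 | h8
      · exact ((mem_Om_iff_homs D.nd (genHyp_minus m (by omega) a b) _).1 h8).1
      · have h9 : (LinearEquiv.neg F : ((Fin m ⊕ Fin m) ⊕ Fin 2 → F) ≃ₗ[F] _) * (rf (quadMinus m F a b) w).1 =
            (rf (quadMinus m F a b) w).1 := by
          apply LinearEquiv.ext
          intro v
          change - ((rf (quadMinus m F a b) w).1 v) = (rf (quadMinus m F a b) w).1 v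
          funext i
          have h10 : ∀ x : F, -x = x := fun x => by linear_combination (-x) * h2
          exact h10 _
        rw [h9] at h8
        exact ((mem_Om_iff_homs D.nd (genHyp_minus m (by omega) a b) _).1 h8).1
    rw [show parHom D.nd hR (rf (quadMinus m F a b) w) = -1 from parHom_refl D.nd hR hw] at hpar
    exact absurd hpar (by decide)
  have hsq : outHom s ^ (2 * f) = 1 := by
    rw [mul_comm, pow_mul, ← map_pow, hsf, pow_two, ← map_mul, ← map_mul, rf_mul_self, map_one, map_one]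
  have hord : orderOf (outHom s) = 2 * f := by
    have hd1 : f ∣ orderOf (outHom s) := by
      have : outSig D hB h (outHom s ^ orderOf (outHom s)) = 1 := by rw [pow_orderOf_eq_one, map_one]
      rw [map_pow, outSig_outHom, h1] at this
      have h7 := orderOf_dvd_of_pow_eq_one this
      rwa [orderOf_frb hf hF] at h7
    obtain ⟨k, hk⟩ := hd1
    have hd2 := orderOf_dvd_of_pow_eq_one hsq
    rw [hk, mul_comm 2 f] at hd2
    have hk2 : k ∣ 2 := Nat.dvd_of_mul_dvd_mul_left (by omega) hd2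
    rcases (Nat.dvd_prime Nat.prime_two).1 hk2 with rfl | rfl
    · exfalso
      rw [mul_one] at hk
      apply hne
      rw [map_pow, ← hk, pow_orderOf_eq_one]
    · rw [hk, mul_comm]
  exact isCyclic_of_orderOf_eq_card (outHom s) (by rw [hord, hcard])

end Std

end Semi

end Cfsg.Agent.Lib.OAut
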