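import Mathlib
import Cfsg.Agent.Lib.OAutP

/-!
Automorphisms of `PΩ(Q)`, part Q: `Out(PΩ(Q))` for the minus and plus forms.
-/

set_option autoImplicit false

namespace Cfsg.Agent.Lib.OAut

open Cfsg.Agent.Lib.Quad Cfsg.Agent.Lib.ClOrthSiegel Cfsg.Agent.Lib.ClOmega QuadraticMap Module

namespace Semi

variable {F : Type*} [Field F] [Fintype F] {m : ℕ}

omit [Fintype F] in
theorem dl_plus {c : F} (hc : c ≠ 0) (hns : ¬ IsSquare c) [Finite F] : Dl (dPlus (m := m) c hc) :=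
  ⟨rfl, hns, _, dPlus_sq c hc⟩

omit [Fintype F] in
theorem dl_minus {a b : F} {u : Fin 2 → F} (hu : OAutFrob.N a b u ≠ 0) (hns : ¬ IsSquare (OAutFrob.N a b u)) [Finite F] :
    Dl (dMinus (m := m) a b u hu) :=
  ⟨rfl, hns, _, dMinus_sq a b u hu⟩

/-- the arithmetic condition -/
theorem mod_four_iff {q m : ℕ} (hq : Odd q) : q ^ m % 4 ≠ 1 ↔ q % 4 = 3 ∧ Odd m := by
  have h2 : q % 4 = 1 ∨ q % 4 = 3 := by
    obtain ⟨k, hk⟩ := hq; omega
  rcases h2 with h2 | h2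
  · have : q ^ m % 4 = 1 := by rw [Nat.pow_mod, h2, one_pow]; rfl
    rw [this, h2]; simp
  · rcases Nat.even_or_odd m with hm | hm
    · have : q ^ m % 4 = 1 := by
        obtain ⟨j, rfl⟩ := hm
        rw [Nat.pow_mod, h2, ← two_mul, pow_mul, Nat.pow_mod]
        norm_num
      rw [this]
      simp [hm]
    · have : q ^ m % 4 = 3 := by
        obtain ⟨j, rfl⟩ := hm
        rw [Nat.pow_mod, h2, pow_succ, pow_mul, Nat.mul_mod, Nat.pow_mod]
        norm_num
      rw [this, h2]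
      simp [hm]

theorem odd_of_mod_four {p f : ℕ} (hp : Odd p) (h : p ^ f % 4 = 3) : Odd f := by
  have h1 : p ^ f % 4 ≠ 1 := by omega
  exact ((mod_four_iff hp).1 h1).2

/-- `Out(PΩ⁻)`, odd characteristic, `-1 ∉ Ω` -/
theorem out_minus_A {p f : ℕ} [hp : Fact p.Prime] (hf : 1 ≤ f) (hF : Fintype.card F = p ^ f) (hp2 : p ≠ 2) {a b : F}
    (hab : ∀ z₁ z₂ : F, z₁ ^ 2 + a * z₁ * z₂ + b * z₂ ^ 2 = 0 → z₁ = 0 ∧ z₂ = 0) (hm : 3 ≤ m)
    (hneg : (LinearEquiv.neg F : ((Fin m ⊕ Fin m) ⊕ Fin 2 → F) ≃ₗ[F] _) ∉ Om (quadMinus m F a b)) :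
    Nonempty (Cfsg.Out (PO (quadMinus m F a b)) ≃* Multiplicative (ZMod 2 × ZMod (2 * f))) := by
  have hc : CharP F p := charP_of_card_eq_prime_pow hF
  have h2 : (2 : F) ≠ 0 := two_ne_zero_of_pow hF hp2
  have D := dat_minus hab hm
  have h := h2_minus a b hm
  obtain ⟨c, hc0, hcns⟩ := exists_nonsq h2
  obtain ⟨u, hu⟩ := exists_norm_eq hab c hc0
  obtain ⟨s, h1, hsc, h3, h4, h5, h6⟩ := exists_frob_minus (m := m) hF hab
  obtain ⟨w, hw, hsf⟩ := frob_pow_minus hab hf hF h1 hsc h4 h5 h6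
  refine out_A_refl D h2 (m := m + 1) (by simp; ring) h (by omega) (big_minus hm hab) hneg
    (dl_minus (u := u) (by rw [hu]; exact hc0) (by rw [hu]; exact hcns)) ((card_minus hf hF hab hm).2.2 h2 hneg) hw s ?_ ?_
  · rw [← map_pow, hsf]; rfl
  · rw [h1]; exact orderOf_frb hf hF

/-- `Out(PΩ⁻)`, odd characteristic, `-1 ∈ Ω` -/
theorem out_minus_B {p f : ℕ} [hp : Fact p.Prime] (hf : 1 ≤ f) (hF : Fintype.card F = p ^ f) (hp2 : p ≠ 2) {a b : F}
    (hab : ∀ z₁ z₂ : F, z₁ ^ 2 + a * z₁ * z₂ + b * z₂ ^ 2 = 0 → z₁ = 0 ∧ z₂ = 0) (hm : 3 ≤ m) (hodd : Odd f)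
    (hneg : (LinearEquiv.neg F : ((Fin m ⊕ Fin m) ⊕ Fin 2 → F) ≃ₗ[F] _) ∈ Om (quadMinus m F a b)) :
    Nonempty (Cfsg.Out (PO (quadMinus m F a b)) ≃* DihedralGroup 4 × Multiplicative (ZMod f)) := by
  have hc : CharP F p := charP_of_card_eq_prime_pow hF
  have h2 : (2 : F) ≠ 0 := two_ne_zero_of_pow hF hp2
  have D := dat_minus hab hm
  have h := h2_minus a b hm
  have hB := big_minus hm hab
  obtain ⟨c, hc0, hcns⟩ := exists_nonsq h2
  obtain ⟨u, hu⟩ := exists_norm_eq hab c hc0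
  obtain ⟨s, h1, hsc, h3, h4, h5, h6⟩ := exists_frob_minus (m := m) hF hab
  obtain ⟨w, hw, hsf⟩ := frob_pow_minus hab hf hF h1 hsc h4 h5 h6
  have hd : Dl (dMinus (m := m) a b u (by rw [hu]; exact hc0)) :=
    dl_minus (u := u) (by rw [hu]; exact hc0) (by rw [hu]; exact hcns)
  set d := dMinus (m := m) a b u (by rw [hu]; exact hc0) with hdd
  have hn : Fintype.card ((Fin m ⊕ Fin m) ⊕ Fin 2) = 2 * (m + 1) := by simp; ring
  -- the reflection class commutes with Frobenius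
  have hsw : Commute (Rc (quadMinus m F a b) w) (outHom s) := by
    have h7 := conj_Rc s hw
    rw [mul_inv_eq_iff_eq_mul] at h7
    have h8 : Rc (quadMinus m F a b) (s.Φ w) = Rc (quadMinus m F a b) w := by
      apply Rc_eq_B D h2
      · rw [s.q]; exact mul_ne_zero s.c0 ((map_ne_zero s.σ).2 hw)
      · exact hw
      · rw [s.q, hsc, one_mul, isSquare_mul_iff ((map_ne_zero s.σ).2 hw) hw, isSquare_map_iff]
    rw [h8] at h7
    exact h7.symm
  have hz := commute_zeta D h2 h hneg hw (Dl.q_ne (d := d) hw) (hd.not_sq hw)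
  have hz2 : (Rc (quadMinus m F a b) w * Rc (quadMinus m F a b) (d.Φ w)) *
      (Rc (quadMinus m F a b) w * Rc (quadMinus m F a b) (d.Φ w)) = 1 := by
    have h7 := Dl.orderOf_rd D h2 h hd hneg hw
    have h8 := pow_orderOf_eq_one (Rc (quadMinus m F a b) w * outHom d)
    rw [h7, show (4 : ℕ) = 2 * 2 from rfl, pow_mul, pow_two, pow_two, hd.rd_sq hw] at h8
    exact h8
  have hpow : outHom s ^ (2 * f) = 1 := by
    rw [mul_comm, pow_mul, ← map_pow, hsf, pow_two]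
    exact Rc_sq w
  obtain ⟨k1, k2, k3⟩ := odd_trick (r := Rc (quadMinus m F a b) w) hodd hpow hz2 (hz s) hsw
  refine out_B D h2 hn h (by omega) hB hneg hd ((card_minus hf hF hab hm).2.1 h2 hneg) hw (outHom s ^ (f + 1)) k1 ?_ k2
    (k3 _ ?_)
  · rw [map_pow, outSig_outHom, h1]
    have h7 : (frb F p) ^ (f + 1) = frb F p := by
      rw [pow_succ]
      nth_rewrite 1 [← orderOf_frb hf hF]
      rw [pow_orderOf_eq_one, one_mul]
    rw [h7]
    exact orderOf_frb hf hF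
  · exact commutator_d_B D h2 hn hw (Dl.q_ne (d := d) hw) (hd.not_sq hw) hd.σ s

/-- `Out(PΩ⁺)`, `m ≥ 5`, even characteristic -/
theorem out_plus_two {f : ℕ} (hf : 1 ≤ f) (hF : Fintype.card F = 2 ^ f) (hm : 5 ≤ m) :
    Nonempty (Cfsg.Out (PO (quadPlus m F)) ≃* Multiplicative (ZMod 2 × ZMod f)) := by
  haveI : Fact (Nat.Prime 2) := ⟨Nat.prime_two⟩
  have hc : CharP F 2 := charP_of_card_eq_prime_pow hF
  have h2 : (2 : F) = 0 := two_eq_zero_of_pow hf hF
  refine out_of_two (dat_plus (by omega)) (by omega) (big_plus hm) (h2_plus (F := F) (m := m) (by omega))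
    (sig_surjective_of_coord (fun τ v => coord_plus τ v)) (FFAut.card_aut hF)
    ((card_plus hF hm).1 h2) (coord (fun τ v => coord_plus τ v) (frb F 2)) ?_ (orderOf_frb hf hF)
  rw [← map_pow, ← map_pow, ← orderOf_frb hf hF, pow_orderOf_eq_one, map_one, map_one]

/-- `Out(PΩ⁺)`, `m ≥ 5`, odd characteristic, `-1 ∉ Ω` -/
theorem out_plus_A {p f : ℕ} [hp : Fact p.Prime] (hf : 1 ≤ f) (hF : Fintype.card F = p ^ f) (hp2 : p ≠ 2) (hm : 5 ≤ m)
    (hneg : (LinearEquiv.neg F : (Fin m ⊕ Fin m → F) ≃ₗ[F] _) ∉ Om (quadPlus m F)) :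
    Nonempty (Cfsg.Out (PO (quadPlus m F)) ≃* Multiplicative (ZMod 2 × ZMod 2 × ZMod f)) := by
  have hc : CharP F p := charP_of_card_eq_prime_pow hF
  have h2 : (2 : F) ≠ 0 := two_ne_zero_of_pow hF hp2
  have D : Dat (quadPlus m F) := dat_plus (by omega)
  have h := h2_plus (F := F) (m := m) (by omega)
  obtain ⟨c, hc0, hcns⟩ := exists_nonsq h2
  obtain ⟨w, hw⟩ := D.nd.exists_Q_ne_zero (by rw [finrank_plus]; omega)
  refine out_A_split D h2 (m := m) (by simp; ring) h (by omega) (big_plus hm) hneg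
    (dl_plus hc0 hcns) ((card_plus hF hm).2.2 h2 hneg) hw (coord (fun τ v => coord_plus τ v) (frb F p)) ?_
    (orderOf_frb hf hF)
  rw [← map_pow, ← map_pow, ← orderOf_frb hf hF, pow_orderOf_eq_one, map_one, map_one]

/-- `Out(PΩ⁺)`, `m ≥ 5`, odd characteristic, `-1 ∈ Ω` -/
theorem out_plus_B {p f : ℕ} [hp : Fact p.Prime] (hf : 1 ≤ f) (hF : Fintype.card F = p ^ f) (hp2 : p ≠ 2) (hm : 5 ≤ m)
    (hneg : (LinearEquiv.neg F : (Fin m ⊕ Fin m → F) ≃ₗ[F] _) ∈ Om (quadPlus m F)) :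
    Nonempty (Cfsg.Out (PO (quadPlus m F)) ≃* DihedralGroup 4 × Multiplicative (ZMod f)) := by
  have hc : CharP F p := charP_of_card_eq_prime_pow hF
  have h2 : (2 : F) ≠ 0 := two_ne_zero_of_pow hF hp2
  have D : Dat (quadPlus m F) := dat_plus (by omega)
  have h := h2_plus (F := F) (m := m) (by omega)
  have hB := big_plus (F := F) hm
  obtain ⟨c, hc0, hcns⟩ := exists_nonsq h2
  obtain ⟨w, hw⟩ := D.nd.exists_Q_ne_zero (by rw [finrank_plus]; omega)
  have hd : Dl (dPlus (m := m) c hc0) := dl_plus hc0 hcns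
  set d := dPlus (m := m) c hc0 with hdd
  have hn : Fintype.card (Fin m ⊕ Fin m) = 2 * m := by simp; ring
  let s : Semi (quadPlus m F) := coord (fun τ v => coord_plus τ v) (frb F p)
  have hsσ : s.σ = frb F p := rfl
  have hsc : s.c = 1 := rfl
  have hsw : Commute (Rc (quadPlus m F) w) (outHom s) := by
    have h7 := conj_Rc s hw
    rw [mul_inv_eq_iff_eq_mul] at h7
    have h8 : Rc (quadPlus m F) (s.Φ w) = Rc (quadPlus m F) w := by
      apply Rc_eq_B D h2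
      · rw [s.q]; exact mul_ne_zero s.c0 ((map_ne_zero s.σ).2 hw)
      · exact hw
      · rw [s.q, hsc, one_mul, isSquare_mul_iff ((map_ne_zero s.σ).2 hw) hw, isSquare_map_iff]
    rw [h8] at h7
    exact h7.symm
  have hz := commute_zeta D h2 h hneg hw (Dl.q_ne (d := d) hw) (hd.not_sq hw)
  have hz2 : (Rc (quadPlus m F) w * Rc (quadPlus m F) (d.Φ w)) *
      (Rc (quadPlus m F) w * Rc (quadPlus m F) (d.Φ w)) = 1 := by
    have h7 := Dl.orderOf_rd D h2 h hd hneg hw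
    have h8 := pow_orderOf_eq_one (Rc (quadPlus m F) w * outHom d)
    rw [h7, show (4 : ℕ) = 2 * 2 from rfl, pow_mul, pow_two, pow_two, hd.rd_sq hw] at h8
    exact h8
  have hpow : outHom s ^ f = 1 := by
    rw [← map_pow, ← map_pow, ← orderOf_frb hf hF, pow_orderOf_eq_one, map_one, map_one]
  have hrd : Rc (quadPlus m F) w * outHom d * (Rc (quadPlus m F) w)⁻¹ =
      Rc (quadPlus m F) w * Rc (quadPlus m F) (d.Φ w) * outHom d := by
    have h7 := hd.rd_sq hw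
    have h8 : (Rc (quadPlus m F) w)⁻¹ = Rc (quadPlus m F) w := inv_eq_of_mul_eq_one_left (Rc_sq w)
    rw [← h7, h8]
    have h9 : outHom d * outHom d = 1 := hd.out_sq
    calc Rc (quadPlus m F) w * outHom d * Rc (quadPlus m F) w
        = Rc (quadPlus m F) w * outHom d * Rc (quadPlus m F) w * (outHom d * outHom d) := by rw [h9, mul_one]
      _ = _ := by group
  obtain ⟨χ, hχ, k1, k2, k3⟩ := split_trick hpow (Rc_sq w) hz2
    (zeta_ne_one D h2 h hneg hw (Dl.q_ne (d := d) hw) (hd.not_sq hw)) (hz s) hsw hrd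
    (commutator_d_B D h2 hn hw (Dl.q_ne (d := d) hw) (hd.not_sq hw) hd.σ s)
  refine out_B D h2 hn h (by omega) hB hneg hd ((card_plus hF hm).2.1 h2 hneg) hw χ k1 ?_ k2 k3
  have h7 : outSig D hB h (Rc (quadPlus m F) w) = 1 := outSig_outHom D hB h _
  have h8 : outSig D hB h (outHom s) = frb F p := outSig_outHom D hB h _
  rcases hχ with rfl | rfl
  · rw [h8]; exact orderOf_frb hf hF
  · rw [map_mul, h7, h8, mul_one]; exact orderOf_frb hf hF

end Semi

end Cfsg.Agent.Lib.OAut
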