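import Cfsg.Agent.Lib.E6Fi22Hom
import Cfsg.Agent.Lib.E6Fi22O
import Cfsg.Agent.S1686
import Cfsg.Agent.S2079
import Cfsg.Agent.S2604
set_option autoImplicit false
set_option linter.unusedSectionVars false
set_option linter.unusedVariables false
set_option linter.style.haveILetI false

/-!
Three classes of subgroups Fi22 and Omega7(3) in `2E6(2)`.
-/

namespace Cfsg.Agent.Lib.E6Fi22
open Cfsg.Lie Cfsg.Spor Cfsg.Agent.Lib.F4Mat Cfsg.Agent.Lib.E6Pair Cfsg.Agent.Lib.ChevRel Cfsg.Agent.Lib.ChevNPerm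
  Cfsg.Agent.Lib.E6F4A
open Cfsg.Spor.Fi22 (Gen)
open scoped MatrixGroups Matrix

universe u

theorem main_Fi22 {K : Type u} [Field K] [Fintype K] (hK : Fintype.card K = 4) :
    ∃ H : Fin 3 → Subgroup ↥(twistedE6 K 2), (∀ i, Cfsg.Spor.IsoFi22 (H i)) ∧
      (∀ i j, i ≠ j → ∀ g : ↥(twistedE6 K 2), (H i).map (MulAut.conj g).toMonoidHom ≠ H j) := by
  haveI : Fact (Nat.Prime 2) := ⟨Nat.prime_two⟩
  haveI : CharP K 2 := charP_of_card_eq_prime_pow (f := 2) (by rw [hK]; norm_num)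
  obtain ⟨ω, hω⟩ := exists_omega hK
  have h3 : ∀ c : K, c ≠ 0 → c ^ 3 = 1 := by
    intro c hc
    have := FiniteField.pow_card_sub_one_eq_one c hc
    rwa [hK] at this
  let e : Spor.Fi22 ≃* ↥(Ψ hω).range := MonoidHom.ofInjective (Ψ_inj hω)
  obtain ⟨H, hH, hn⟩ := E6Three.main hK (range_le hω)
    (sq_transport e.symm (fun β => E6F4C.sq_inner_of_card Cfsg.Agent.S2079.result β))
    (cent hω h3 (fun x _ => ⟨PresentedGroup.of x, Ψ_of hω x⟩))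
  refine ⟨H, fun i => ?_, hn⟩
  obtain ⟨f⟩ := hH i
  exact ⟨f.trans e.symm⟩

theorem card_out_pomega : Nat.card (Cfsg.Out (Cfsg.POmega (ZMod 3) (Cfsg.quadFormOdd 3 (ZMod 3)))) = 2 := by
  haveI : Fact (Nat.Prime 3) := ⟨Nat.prime_three⟩
  obtain ⟨e⟩ := Cfsg.Agent.S2604.result (F := ZMod 3) (p := 3) (f := 1) (m := 3) le_rfl (by rw [ZMod.card, pow_one])
    (by norm_num) le_rfl
  rw [Nat.card_congr e.toEquiv]
  rw [Nat.card_congr Multiplicative.toAdd, Nat.card_prod, Nat.card_zmod, Nat.card_zmod]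

theorem main_Om7 {K : Type u} [Field K] [Fintype K] (hK : Fintype.card K = 4) :
    ∃ H : Fin 3 → Subgroup ↥(twistedE6 K 2),
      (∀ i, Nonempty ((H i) ≃* Cfsg.Omega (ZMod 3) (Cfsg.quadFormOdd 3 (ZMod 3)))) ∧
      (∀ i j, i ≠ j → ∀ g : ↥(twistedE6 K 2), (H i).map (MulAut.conj g).toMonoidHom ≠ H j) := by
  haveI : Fact (Nat.Prime 2) := ⟨Nat.prime_two⟩
  haveI : CharP K 2 := charP_of_card_eq_prime_pow (f := 2) (by rw [hK]; norm_num)
  obtain ⟨ω, hω⟩ := exists_omega hK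
  have h3 : ∀ c : K, c ≠ 0 → c ^ 3 = 1 := by
    intro c hc
    have := FiniteField.pow_card_sub_one_eq_one c hc
    rwa [hK] at this
  obtain ⟨eO⟩ := Cfsg.Agent.S1686.result
  obtain ⟨eP⟩ := omega_iso
  set U : Subgroup Spor.Fi22 := (Subgroup.closure ({Cfsg.Spor.Fi22.b, Cfsg.Spor.Fi22.c, Cfsg.Spor.Fi22.d, Cfsg.Spor.Fi22.e, Cfsg.Spor.Fi22.f, Cfsg.Spor.Fi22.g, Cfsg.Spor.Fi22.h, Cfsg.Spor.Fi22.i} : Set (FreeGroup Cfsg.Spor.Fi22.Gen))).map
    (PresentedGroup.mk (Cfsg.Spor.coxRelators Cfsg.Spor.Fi22.edges ∪ {r | r ∈ Cfsg.Spor.Fi22.extra})) with hU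
  have hmemU : ∀ x : Gen, x ≠ .a → (PresentedGroup.of x : Spor.Fi22) ∈ U := by
    intro x hx
    refine ⟨FreeGroup.of x, Subgroup.subset_closure ?_, rfl⟩
    cases x
    · exact absurd rfl hx
    all_goals simp
  let e : ↥U ≃* ↥(U.map (Ψ hω)) := U.equivMapOfInjective (Ψ hω) (Ψ_inj hω)
  obtain ⟨H, hH, hn⟩ := E6Three.main hK (HH := U.map (Ψ hω))
    ((Subgroup.map_le_range _ _).trans (range_le hω))
    (sq_transport (e.symm.trans eO) (fun β => E6F4C.sq_inner_of_card card_out_pomega β))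
    (cent hω h3 (fun x hx => ⟨PresentedGroup.of x, hmemU x hx, Ψ_of hω x⟩))
  refine ⟨H, fun i => ?_, hn⟩
  obtain ⟨f⟩ := hH i
  exact ⟨((f.trans e.symm).trans eO).trans eP⟩

end Cfsg.Agent.Lib.E6Fi22
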