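import Cfsg.Agent.Lib.E6Tab
set_option autoImplicit false
set_option linter.unusedSectionVars false

/-!
The cubic form of type `E₆`: polarisations, invariance under the root elements (helper44).
-/

namespace Cfsg.Agent.Lib.E6Rep
open Cfsg.Lie
open scoped MatrixGroups Matrix

variable {F : Type*} [Field F]

/-- value of an encoded coordinate -/
def val (v : I27 → F) : ℤ → F
  | .ofNat 0 => 0
  | .ofNat (n + 1) => v (dec n)
  | .negSucc n => -v (dec n)

theorem val_zero (v : I27 → F) : val v 0 = 0 := rfl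

theorem ez_pos (m n : ℕ) : ez (Int.ofNat (m + 1)) n = if m == n then 1 else 0 := rfl
theorem ez_negS (m n : ℕ) : ez (Int.negSucc m) n = if m == n then -1 else 0 := rfl

theorem single_dec {z : ℕ} (h : z < 27) (i : I27) :
    (Pi.single (dec z) 1 : I27 → F) i = if z == cod i then 1 else 0 := by
  rw [Pi.single_apply]
  by_cases h1 : i = dec z
  · rw [if_pos h1, if_pos (by rw [h1, cod_dec z h]; simp)]
  · rw [if_neg h1, if_neg]
    intro h2
    rw [beq_iff_eq] at h2
    exact h1 (by rw [h2, dec_cod])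

theorem bas_eq_ez {z : ℤ} (hz : ok z = true) (i : I27) : bas F z i = ((ez z (cod i) : ℤ) : F) := by
  rcases z with z | z
  · rcases z with _ | z
    · simp [bas, ez]
    · have h : z < 27 := by
        have : Nat.ble (z + 1) 27 = true := hz
        rw [Nat.ble_eq] at this; omega
      show (Pi.single (dec z) 1 : I27 → F) i = _
      rw [ez_pos, single_dec h]
      split_ifs <;> simp
  · have h : z < 27 := by
      have : Nat.blt z 27 = true := hz
      rwa [Nat.blt_eq] at this
    show (-(Pi.single (dec z) 1 : I27 → F)) i = _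
    rw [ez_negS, Pi.neg_apply, single_dec h]
    split_ifs <;> simp

theorem Em_tr {r : ℕ} (hr : r < 72) (i j : I27) : Em F r i j = Em F (chevE6.neg r) j i := by
  unfold Em
  rw [if_pos hr, if_pos (neg_lt72 hr), Matrix.of_apply, Matrix.of_apply,
    bas_eq_ez (ok_en hr (cod_lt j)), bas_eq_ez (ok_en (neg_lt72 hr) (cod_lt i))]
  have h := tabTr
  simp only [List.all_eq_true, List.mem_range, beq_iff_eq] at h
  rw [h r hr (cod i) (cod_lt i) (cod j) (cod_lt j)]

theorem bas_dot (v : I27 → F) (z : ℤ) : ∑ j, bas F z j * v j = val v z := by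
  rcases z with z | z
  · rcases z with _ | z
    · simp [bas, val]
    · show ∑ j, (Pi.single (dec z) 1 : I27 → F) j * v j = v (dec z)
      simp [Pi.single_apply]
  · show ∑ j, (-(Pi.single (dec z) 1 : I27 → F)) j * v j = -v (dec z)
    simp [Pi.single_apply]

/-- the coordinates of `E_r v` -/
theorem Em_apply {r : ℕ} (hr : r < 72) (v : I27 → F) (i : I27) :
    (Em F r *ᵥ v) i = val v (en (chevE6.neg r) (cod i)) := by
  rw [← bas_dot]
  unfold Matrix.mulVec dotProduct
  refine Finset.sum_congr rfl fun j _ => ?_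
  show Em F r i j * v j = _
  rw [Em_tr hr]
  unfold Em
  rw [if_pos (neg_lt72 hr)]
  rfl

/-! ### the cubic form and its polarisations -/

/-- cubic form of a list of monomials -/
def TL (L : List (ℕ × ℕ × ℕ × ℤ)) (v : I27 → F) : F :=
  (L.map fun m => (m.2.2.2 : F) * (v (dec m.1) * v (dec m.2.1) * v (dec m.2.2.1))).sum

/-- first polarisation -/
def DL (L : List (ℕ × ℕ × ℕ × ℤ)) (v w : I27 → F) : F :=
  (L.map fun m => (m.2.2.2 : F) * (v (dec m.1) * v (dec m.2.1) * w (dec m.2.2.1) +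
    v (dec m.1) * w (dec m.2.1) * v (dec m.2.2.1) + w (dec m.1) * v (dec m.2.1) * v (dec m.2.2.1))).sum

/-- full polarisation -/
def fL (L : List (ℕ × ℕ × ℕ × ℤ)) (u v w : I27 → F) : F :=
  (L.map fun m => (m.2.2.2 : F) * (u (dec m.1) * v (dec m.2.1) * w (dec m.2.2.1) +
    u (dec m.1) * w (dec m.2.1) * v (dec m.2.2.1) + v (dec m.1) * u (dec m.2.1) * w (dec m.2.2.1) +
    v (dec m.1) * w (dec m.2.1) * u (dec m.2.2.1) + w (dec m.1) * u (dec m.2.1) * v (dec m.2.2.1) +
    w (dec m.1) * v (dec m.2.1) * u (dec m.2.2.1))).sum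

theorem TL_add (L : List (ℕ × ℕ × ℕ × ℤ)) (v w : I27 → F) (t : F) :
    TL L (v + t • w) = TL L v + t * DL L v w + t ^ 2 * DL L w v + t ^ 3 * TL L w := by
  induction L with
  | nil => simp [TL, DL]
  | cons m L ih =>
    unfold TL DL at ih ⊢
    rw [List.map_cons, List.sum_cons, List.map_cons, List.sum_cons, List.map_cons, List.sum_cons, List.map_cons,
      List.sum_cons, List.map_cons, List.sum_cons, ih]
    simp only [Pi.add_apply, Pi.smul_apply, smul_eq_mul]
    ring

theorem fL_eq (L : List (ℕ × ℕ × ℕ × ℤ)) (u v w : I27 → F) : fL L u v w = DL L (u + v) w - DL L u w - DL L v w := by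
  induction L with
  | nil => simp [fL, DL]
  | cons m L ih =>
    unfold fL DL at ih ⊢
    rw [List.map_cons, List.sum_cons, List.map_cons, List.sum_cons, List.map_cons, List.sum_cons, List.map_cons,
      List.sum_cons, ih]
    simp only [Pi.add_apply]
    ring

theorem fL_comm12 (L : List (ℕ × ℕ × ℕ × ℤ)) (u v w : I27 → F) : fL L u v w = fL L v u w := by
  unfold fL; congr 1; apply List.map_congr_left; intro m _; ring

theorem fL_comm23 (L : List (ℕ × ℕ × ℕ × ℤ)) (u v w : I27 → F) : fL L u v w = fL L u w v := by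
  unfold fL; congr 1; apply List.map_congr_left; intro m _; ring

theorem fL_add3 (L : List (ℕ × ℕ × ℕ × ℤ)) (u v w w' : I27 → F) : fL L u v (w + w') = fL L u v w + fL L u v w' := by
  induction L with
  | nil => simp [fL]
  | cons m L ih =>
    unfold fL at ih ⊢
    rw [List.map_cons, List.sum_cons, List.map_cons, List.sum_cons, List.map_cons, List.sum_cons, ih]
    simp only [Pi.add_apply]
    ring

theorem fL_smul3 (L : List (ℕ × ℕ × ℕ × ℤ)) (u v w : I27 → F) (c : F) : fL L u v (c • w) = c * fL L u v w := by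
  induction L with
  | nil => simp [fL]
  | cons m L ih =>
    unfold fL at ih ⊢
    rw [List.map_cons, List.sum_cons, List.map_cons, List.sum_cons, ih]
    simp only [Pi.smul_apply, smul_eq_mul]
    ring

theorem fL_smul1 (L : List (ℕ × ℕ × ℕ × ℤ)) (u v w : I27 → F) (c : F) : fL L (c • u) v w = c * fL L u v w := by
  rw [fL_comm12, fL_comm23, fL_smul3, fL_comm23, fL_comm12]

theorem fL_smul2 (L : List (ℕ × ℕ × ℕ × ℤ)) (u v w : I27 → F) (c : F) : fL L u (c • v) w = c * fL L u v w := by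
  rw [fL_comm23, fL_smul3, fL_comm23]

/-- the cubic form -/
abbrev T (v : I27 → F) : F := TL mono v
abbrev D (v w : I27 → F) : F := DL mono v w
abbrev f (u v w : I27 → F) : F := fL mono u v w

theorem dec_v0 : dec 0 = (0, 0, 0) := rfl
theorem dec_v1 : dec 1 = (0, 0, 1) := rfl
theorem dec_v2 : dec 2 = (0, 0, 2) := rfl
theorem dec_v3 : dec 3 = (0, 1, 0) := rfl
theorem dec_v4 : dec 4 = (0, 1, 1) := rfl
theorem dec_v5 : dec 5 = (0, 1, 2) := rfl
theorem dec_v6 : dec 6 = (0, 2, 0) := rfl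
theorem dec_v7 : dec 7 = (0, 2, 1) := rfl
theorem dec_v8 : dec 8 = (0, 2, 2) := rfl
theorem dec_v9 : dec 9 = (1, 0, 0) := rfl
theorem dec_v10 : dec 10 = (1, 0, 1) := rfl
theorem dec_v11 : dec 11 = (1, 0, 2) := rfl
theorem dec_v12 : dec 12 = (1, 1, 0) := rfl
theorem dec_v13 : dec 13 = (1, 1, 1) := rfl
theorem dec_v14 : dec 14 = (1, 1, 2) := rfl
theorem dec_v15 : dec 15 = (1, 2, 0) := rfl
theorem dec_v16 : dec 16 = (1, 2, 1) := rfl
theorem dec_v17 : dec 17 = (1, 2, 2) := rfl
theorem dec_v18 : dec 18 = (2, 0, 0) := rfl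
theorem dec_v19 : dec 19 = (2, 0, 1) := rfl
theorem dec_v20 : dec 20 = (2, 0, 2) := rfl
theorem dec_v21 : dec 21 = (2, 1, 0) := rfl
theorem dec_v22 : dec 22 = (2, 1, 1) := rfl
theorem dec_v23 : dec 23 = (2, 1, 2) := rfl
theorem dec_v24 : dec 24 = (2, 2, 0) := rfl
theorem dec_v25 : dec 25 = (2, 2, 1) := rfl
theorem dec_v26 : dec 26 = (2, 2, 2) := rfl

theorem cubicT_eq (v : I27 → F) : cubicT v = T v := by
  unfold T TL mono cubicT mat3
  rw [Matrix.det_fin_three, Matrix.det_fin_three, Matrix.det_fin_three]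
  simp only [Matrix.trace, Matrix.diag, Matrix.mul_apply, Fin.sum_univ_three, Matrix.of_apply, List.map_cons,
    List.map_nil, List.sum_cons, List.sum_nil]
  have h1 : ((1 : ℤ) : F) = 1 := Int.cast_one
  have h2 : ((-1 : ℤ) : F) = -1 := by simp
  rw [h1, h2]
  simp only [dec_v0, dec_v1, dec_v2, dec_v3, dec_v4, dec_v5, dec_v6, dec_v7, dec_v8, dec_v9, dec_v10, dec_v11, dec_v12, dec_v13, dec_v14, dec_v15, dec_v16, dec_v17, dec_v18, dec_v19, dec_v20, dec_v21, dec_v22, dec_v23, dec_v24, dec_v25, dec_v26]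
  ring

/-! ### basis vectors -/

variable (F) in
/-- basis vector of a code -/
def e (n : ℕ) : I27 → F := Pi.single (dec n) 1

theorem dec_inj {a b : ℕ} (ha : a < 27) (hb : b < 27) (h : dec a = dec b) : a = b := by
  rw [← cod_dec a ha, ← cod_dec b hb, h]

theorem e_dec {a x : ℕ} (ha : a < 27) (hx : x < 27) : e F x (dec a) = if a == x then 1 else 0 := by
  unfold e
  rw [Pi.single_apply]
  by_cases h : a = x
  · rw [if_pos (by rw [h]), if_pos (by simp [h])]
  · rw [if_neg (fun h' => h (dec_inj ha hx h')), if_neg (by simp [h])]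

def psem1 (v : I27 → F) (L : List (ℕ × ℤ)) : F := (L.map fun p => (p.2 : F) * v (dec p.1)).sum
def psem2 (v : I27 → F) (L : List (ℕ × ℕ × ℤ)) : F := (L.map fun p => (p.2.2 : F) * (v (dec p.1) * v (dec p.2.1))).sum

theorem psem1_append (v : I27 → F) (L M : List (ℕ × ℤ)) : psem1 v (L ++ M) = psem1 v L + psem1 v M := by
  simp [psem1]
theorem psem2_append (v : I27 → F) (L M : List (ℕ × ℕ × ℤ)) : psem2 v (L ++ M) = psem2 v L + psem2 v M := by
  simp [psem2]

theorem psem1_ite (v : I27 → F) (b : Bool) (n : ℕ) (s : ℤ) :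
    psem1 v (if b then [(n, s)] else []) = (if b then 1 else 0) * ((s : F) * v (dec n)) := by
  cases b <;> simp [psem1]
theorem psem2_ite (v : I27 → F) (b : Bool) (n n' : ℕ) (s : ℤ) :
    psem2 v (if b then [(n, n', s)] else []) = (if b then 1 else 0) * ((s : F) * (v (dec n) * v (dec n'))) := by
  cases b <;> simp [psem2]

theorem ite_and (a b : Bool) : (if (a && b) then (1 : F) else 0) = (if a then 1 else 0) * (if b then 1 else 0) := by
  cases a <;> cases b <;> simp

def valM (L : List (ℕ × ℕ × ℕ × ℤ)) : Prop := ∀ m ∈ L, m.1 < 27 ∧ m.2.1 < 27 ∧ m.2.2.1 < 27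

theorem valM_mono : valM mono := by
  have h := tabMono
  simp only [List.all_eq_true, Bool.and_eq_true, Nat.blt_eq] at h
  exact h

theorem fL_ee {L : List (ℕ × ℕ × ℕ × ℤ)} (hL : valM L) {x y : ℕ} (hx : x < 27) (hy : y < 27) (v : I27 → F) :
    fL L (e F x) v (e F y) = psem1 v (L.flatMap (ctr x y)) := by
  induction L with
  | nil => simp [fL, psem1]
  | cons m L ih =>
    have hm := hL m List.mem_cons_self
    have ih' := ih fun m hm => hL m (List.mem_cons_of_mem _ hm)
    rw [List.flatMap_cons, psem1_append, ← ih']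
    unfold fL
    rw [List.map_cons, List.sum_cons]
    congr 1
    unfold ctr
    simp only [psem1_append, psem1_ite, ite_and, e_dec hm.1 hx, e_dec hm.1 hy, e_dec hm.2.1 hx, e_dec hm.2.1 hy,
      e_dec hm.2.2 hx, e_dec hm.2.2 hy]
    ring

theorem DL_e {L : List (ℕ × ℕ × ℕ × ℤ)} (hL : valM L) {x : ℕ} (hx : x < 27) (v : I27 → F) :
    DL L v (e F x) = psem2 v (L.flatMap (ctr2 x)) := by
  induction L with
  | nil => simp [DL, psem2]
  | cons m L ih =>
    have hm := hL m List.mem_cons_self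
    have ih' := ih fun m hm => hL m (List.mem_cons_of_mem _ hm)
    rw [List.flatMap_cons, psem2_append, ← ih']
    unfold DL
    rw [List.map_cons, List.sum_cons]
    congr 1
    unfold ctr2
    simp only [psem2_append, psem2_ite, e_dec hm.1 hx, e_dec hm.2.1 hx, e_dec hm.2.2 hx]
    ring

theorem psem1_decode (v : I27 → F) (z : ℤ) : psem1 v (decode z) = val v z := by
  rcases z with z | z
  · rcases z with _ | z
    · simp [decode, psem1, val]
    · simp [decode, psem1, val]
  · simp [decode, psem1, val]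

/-- the trilinear form on two basis vectors -/
theorem f_ee {x y : ℕ} (hx : x < 27) (hy : y < 27) (v : I27 → F) : f (e F x) v (e F y) = val v (thz x y) := by
  rw [f, fL_ee valM_mono hx hy]
  have h := tabTh
  simp only [List.all_eq_true, List.mem_range, decide_eq_true_eq] at h
  rw [h x hx y hy, psem1_decode]

/-! ### invariance -/

/-- value of a key -/
def kv (v : I27 → F) (k : ℕ × ℕ × ℕ) : F := v (dec k.1) * v (dec k.2.1) * v (dec k.2.2)

theorem kv_sort (v : I27 → F) (a b c : ℕ) : kv v (sort3 a b c) = v (dec a) * v (dec b) * v (dec c) := by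
  unfold sort3 kv
  split_ifs <;> ring

def psem3 (v : I27 → F) (L : List ((ℕ × ℕ × ℕ) × ℤ)) : F := (L.map fun p => (p.2 : F) * kv v p.1).sum

theorem psem3_append (v : I27 → F) (L M : List ((ℕ × ℕ × ℕ) × ℤ)) : psem3 v (L ++ M) = psem3 v L + psem3 v M := by
  simp [psem3]

theorem psem3_tm (v : I27 → F) (a b : ℕ) (z s : ℤ) :
    psem3 v (tm a b z s) = (s : F) * (v (dec a) * v (dec b) * val v z) := by
  rcases z with z | z
  · rcases z with _ | z
    · simp [tm, psem3, val]
    · simp [tm, psem3, val, kv_sort]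
  · simp [tm, psem3, val, kv_sort]

theorem psem3_insK (v : I27 → F) (m : (ℕ × ℕ × ℕ) × ℤ) (L : List ((ℕ × ℕ × ℕ) × ℤ)) :
    psem3 v (insK m L) = (m.2 : F) * kv v m.1 + psem3 v L := by
  induction L with
  | nil => simp [insK, psem3]
  | cons x L ih =>
    unfold insK
    split_ifs with h
    · unfold psem3
      rw [List.map_cons, List.sum_cons, List.map_cons, List.sum_cons, h]
      push_cast
      ring
    · unfold psem3 at ih ⊢
      rw [List.map_cons, List.sum_cons, List.map_cons, List.sum_cons, ih]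
      ring

theorem psem3_fold (v : I27 → F) (L : List ((ℕ × ℕ × ℕ) × ℤ)) : psem3 v (L.foldr insK []) = psem3 v L := by
  induction L with
  | nil => rfl
  | cons x L ih =>
    rw [List.foldr_cons, psem3_insK, ih]
    simp [psem3]

theorem psem3_zero (v : I27 → F) (L : List ((ℕ × ℕ × ℕ) × ℤ)) (h : ∀ x ∈ L, x.2 = 0) : psem3 v L = 0 := by
  unfold psem3
  apply List.sum_eq_zero
  intro y hy
  rw [List.mem_map] at hy
  obtain ⟨x, hx, rfl⟩ := hy
  rw [h x hx]; simp

theorem Em_dec {r : ℕ} (hr : r < 72) (v : I27 → F) {a : ℕ} (ha : a < 27) :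
    (Em F r *ᵥ v) (dec a) = val v (en (chevE6.neg r) a) := by
  rw [Em_apply hr, cod_dec a ha]

theorem D_Em {r : ℕ} (hr : r < 72) (v : I27 → F) : D v (Em F r *ᵥ v) = 0 := by
  have h : D v (Em F r *ᵥ v) = psem3 v (dTerms r) := by
    have key : ∀ L, valM L → DL L v (Em F r *ᵥ v) = psem3 v (L.flatMap fun m =>
        tm m.1 m.2.1 (en (chevE6.neg r) m.2.2.1) m.2.2.2 ++
        (tm m.1 m.2.2.1 (en (chevE6.neg r) m.2.1) m.2.2.2 ++ tm m.2.1 m.2.2.1 (en (chevE6.neg r) m.1) m.2.2.2)) := by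
      intro L hL
      induction L with
      | nil => simp [DL, psem3]
      | cons m L ih =>
        have hm := hL m List.mem_cons_self
        have ih' := ih fun m hm => hL m (List.mem_cons_of_mem _ hm)
        rw [List.flatMap_cons, psem3_append, ← ih']
        unfold DL
        rw [List.map_cons, List.sum_cons]
        congr 1
        rw [psem3_append, psem3_append, psem3_tm, psem3_tm, psem3_tm, Em_dec hr v hm.1, Em_dec hr v hm.2.1,
          Em_dec hr v hm.2.2]
        ring
    exact key mono valM_mono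
  rw [h, ← psem3_fold]
  have h2 := tabInv
  simp only [List.all_eq_true, List.mem_range, beq_iff_eq] at h2
  exact psem3_zero v _ (h2 r hr)

theorem DT_Em {r : ℕ} (hr : r < 72) (v : I27 → F) : D (Em F r *ᵥ v) v = 0 ∧ T (Em F r *ᵥ v) = 0 := by
  have h2 := tabInv2
  simp only [List.all_eq_true, List.mem_range, beq_iff_eq, Bool.or_eq_true, Bool.and_eq_true] at h2
  have h3 := h2 r hr
  constructor
  · unfold D DL
    apply List.sum_eq_zero
    intro y hy
    rw [List.mem_map] at hy
    obtain ⟨m, hm, rfl⟩ := hy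
    have hv := valM_mono m hm
    rw [Em_dec hr v hv.1, Em_dec hr v hv.2.1, Em_dec hr v hv.2.2]
    rcases h3 m hm with ⟨h4, h5⟩ | ⟨h4, h5⟩ | ⟨h4, h5⟩ <;> rw [h4, h5, val_zero] <;> ring
  · unfold T TL
    apply List.sum_eq_zero
    intro y hy
    rw [List.mem_map] at hy
    obtain ⟨m, hm, rfl⟩ := hy
    have hv := valM_mono m hm
    rw [Em_dec hr v hv.1, Em_dec hr v hv.2.1, Em_dec hr v hv.2.2]
    rcases h3 m hm with ⟨h4, h5⟩ | ⟨h4, h5⟩ | ⟨h4, h5⟩ <;> rw [h4, h5, val_zero] <;> ring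

theorem X_mulVec (r : ℕ) (t : F) (v : I27 → F) : (X F r t : Matrix I27 I27 F) *ᵥ v = v + t • (Em F r *ᵥ v) := by
  rw [coe_X, Matrix.add_mulVec, Matrix.one_mulVec, Matrix.smul_mulVec]

/-- the root elements preserve the cubic form -/
theorem T_X (r : ℕ) (t : F) (v : I27 → F) : T ((X F r t : Matrix I27 I27 F) *ᵥ v) = T v := by
  rw [X_mulVec]
  by_cases hr : r < 72
  · rw [T, TL_add]
    have h1 : DL mono v (Em F r *ᵥ v) = 0 := D_Em hr v
    have h2 : DL mono (Em F r *ᵥ v) v = 0 := (DT_Em hr v).1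
    have h3 : TL mono (Em F r *ᵥ v) = 0 := (DT_Em hr v).2
    rw [h1, h2, h3]; ring
  · rw [Em_ge hr, Matrix.zero_mulVec, smul_zero, add_zero]

theorem X_mem (r : ℕ) (t : F) : X F r t ∈ E6univ F := by
  intro v
  show cubicT ((X F r t : Matrix I27 I27 F) *ᵥ v) = cubicT v
  rw [cubicT_eq, cubicT_eq, T_X]

/-! ### isometries preserve the polarisations -/

theorem mem_E6univ {g : GL I27 F} : g ∈ E6univ F ↔ ∀ v, T ((g : Matrix I27 I27 F) *ᵥ v) = T v := by
  constructor
  · intro h v
    have := h v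
    rw [← cubicT_eq, ← cubicT_eq]; exact this
  · intro h v
    show cubicT ((g : Matrix I27 I27 F) *ᵥ v) = cubicT v
    rw [cubicT_eq, cubicT_eq, h]

theorem D_pres (hF : ∃ t : F, t ≠ 0 ∧ t ≠ 1) {g : GL I27 F} (hg : g ∈ E6univ F) (v w : I27 → F) :
    D ((g : Matrix I27 I27 F) *ᵥ v) ((g : Matrix I27 I27 F) *ᵥ w) = D v w := by
  rw [mem_E6univ] at hg
  have key : ∀ t : F, t * D ((g : Matrix I27 I27 F) *ᵥ v) ((g : Matrix I27 I27 F) *ᵥ w) +
      t ^ 2 * D ((g : Matrix I27 I27 F) *ᵥ w) ((g : Matrix I27 I27 F) *ᵥ v) = t * D v w + t ^ 2 * D w v := by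
    intro t
    have h1 := hg (v + t • w)
    rw [Matrix.mulVec_add, Matrix.mulVec_smul, T, T, TL_add, TL_add] at h1
    have h2 := hg v
    have h3 := hg w
    unfold T at h2 h3
    rw [h2, h3] at h1
    linear_combination h1
  obtain ⟨t, ht0, ht1⟩ := hF
  have k1 := key 1
  have k2 := key t
  have ht : t * (t - 1) ≠ 0 := mul_ne_zero ht0 (sub_ne_zero.2 ht1)
  apply mul_left_cancel₀ ht
  linear_combination t ^ 2 * k1 - k2

theorem f_pres (hF : ∃ t : F, t ≠ 0 ∧ t ≠ 1) {g : GL I27 F} (hg : g ∈ E6univ F) (u v w : I27 → F) :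
    f ((g : Matrix I27 I27 F) *ᵥ u) ((g : Matrix I27 I27 F) *ᵥ v) ((g : Matrix I27 I27 F) *ᵥ w) = f u v w := by
  rw [f, f, fL_eq, fL_eq, ← Matrix.mulVec_add]
  have h1 := D_pres hF hg (u + v) w
  have h2 := D_pres hF hg u w
  have h3 := D_pres hF hg v w
  unfold D at h1 h2 h3
  rw [h1, h2, h3]

end Cfsg.Agent.Lib.E6Rep
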