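import Cfsg.Agent.Lib.E6Rep
import Mathlib
set_option autoImplicit false
set_option linter.unusedSectionVars false

/-!
The root elements of the 27-dimensional representation of type `E₆`, and the homomorphism from the Steinberg
group (helper44).
-/

namespace Cfsg.Agent.Lib.E6Rep
open Cfsg.Lie
open scoped MatrixGroups Matrix

section Generic

variable {D : ChevalleyDatum} {F : Type*} [Field F] {Gp : Type*} [Group Gp]

/-- homomorphisms from the Steinberg group -/
theorem exists_hom (X : ℕ → F → Gp) (h0 : ∀ r t, ¬ r < D.nroots → X r t = 1)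
    (hadd : ∀ r < D.nroots, ∀ t u, X r t * X r u = X r (t + u))
    (hcomm : ∀ r < D.nroots, ∀ s < D.nroots, s ≠ r → s ≠ D.neg r → ∀ t u,
      X s u * X r t = X r t * X s u * ((D.commWord F r s t u).map fun p => X p.1 p.2).prod)
    (hh : ∀ r < D.nroots, ∀ t u : F, t ≠ 0 → u ≠ 0 → ((D.hWord r t).map fun p => X p.1 p.2).prod *
      ((D.hWord r u).map fun p => X p.1 p.2).prod = ((D.hWord r (t * u)).map fun p => X p.1 p.2).prod) :
    ∃ φ : D.SteinbergGroup F →* Gp, ∀ r t, φ (D.stGen F r t) = X r t := by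
  have hX' : ∀ (r : ℕ) (t : F),
      FreeGroup.lift (fun p : Fin D.nroots × F => X p.1 p.2) (D.stX r t) = X r t := by
    intro r t
    unfold ChevalleyDatum.stX
    by_cases hr : r < D.nroots
    · rw [dif_pos hr, FreeGroup.lift_apply_of]
    · rw [dif_neg hr, map_one, h0 r t hr]
  have hW : ∀ w : List (ℕ × F),
      FreeGroup.lift (fun p : Fin D.nroots × F => X p.1 p.2) (D.stWord w) = (w.map fun p => X p.1 p.2).prod := by
    intro w
    unfold ChevalleyDatum.stWord
    rw [map_list_prod, List.map_map]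
    congr 1
    apply List.map_congr_left
    intro p _
    exact hX' _ _
  have hrel : ∀ g ∈ D.steinbergRels F, FreeGroup.lift (fun p : Fin D.nroots × F => X p.1 p.2) g = 1 := by
    rintro g ((⟨r, t₁, t₂, hr, rfl⟩ | ⟨r, s, t, u, hr, hs, h1, h2, rfl⟩) | ⟨r, t₁, t₂, hr, h1, h2, rfl⟩)
    · rw [map_mul, map_mul, map_inv, hX', hX', hX', hadd r hr, mul_inv_cancel]
    · rw [map_mul, map_mul, map_mul, map_mul, map_inv, map_inv, map_inv, hX', hX', hW]
      have := hcomm r hr s hs h1 h2 t u
      generalize ((D.commWord F r s t u).map fun p => X p.1 p.2).prod = w at this ⊢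
      calc (X s u)⁻¹ * (X r t)⁻¹ * X s u * X r t * w⁻¹
          = (X s u)⁻¹ * (X r t)⁻¹ * (X s u * X r t) * w⁻¹ := by group
        _ = 1 := by rw [this]; group
    · unfold ChevalleyDatum.stH
      rw [map_mul, map_mul, map_inv, hW, hW, hW, hh r hr t₁ t₂ h1 h2, mul_inv_cancel]
  refine ⟨PresentedGroup.toGroup hrel, fun r t => ?_⟩
  unfold ChevalleyDatum.stGen
  unfold ChevalleyDatum.stX
  by_cases hr : r < D.nroots
  · rw [dif_pos hr]
    exact PresentedGroup.toGroup.of hrel
  · rw [dif_neg hr, map_one, map_one, h0 r t hr]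

theorem closure_stGen (D : ChevalleyDatum) (F : Type*) [Field F] :
    Subgroup.closure {g : D.SteinbergGroup F | ∃ r < D.nroots, ∃ t : F, g = D.stGen F r t} = ⊤ := by
  rw [eq_top_iff, ← PresentedGroup.closure_range_of, Subgroup.closure_le]
  rintro _ ⟨⟨r, t⟩, rfl⟩
  apply Subgroup.subset_closure
  refine ⟨r, r.2, t, ?_⟩
  unfold ChevalleyDatum.stGen ChevalleyDatum.stX
  rw [dif_pos r.2]
  rfl

end Generic

/-! ### coordinates -/

/-- coordinate of a code -/
def dec (n : ℕ) : I27 := (Fin.ofNat 3 (n / 9), Fin.ofNat 3 (n / 3), Fin.ofNat 3 n)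

/-- code of a coordinate -/
def cod (i : I27) : ℕ := 9 * (i.1 : ℕ) + 3 * (i.2.1 : ℕ) + (i.2.2 : ℕ)

theorem dec_cod : ∀ i : I27, dec (cod i) = i := by decide +kernel
theorem cod_lt : ∀ i : I27, cod i < 27 := by decide +kernel
theorem cod_dec : ∀ n < 27, cod (dec n) = n := by decide +kernel

variable (F : Type*) [Field F]

/-- the vector of a code -/
def bas : ℤ → (I27 → F)
  | .ofNat 0 => 0
  | .ofNat (n + 1) => Pi.single (dec n) 1
  | .negSucc n => -Pi.single (dec n) 1

theorem bas_zero : bas F 0 = 0 := rfl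

theorem bas_neg (z : ℤ) : bas F (-z) = - bas F z := by
  rcases z with z | z
  · rcases z with _ | z
    · simp [bas]
    · rfl
  · show bas F (.ofNat (z + 1)) = _
    simp [bas]

/-- the nilpotent root element -/
def Em (r : ℕ) : Matrix I27 I27 F := if r < 72 then Matrix.of (fun i j => bas F (en r (cod j)) i) else 0

variable {F}

theorem Em_single {r : ℕ} (hr : r < 72) (j : I27) : Em F r *ᵥ Pi.single j 1 = bas F (en r (cod j)) := by
  rw [Matrix.mulVec_single_one]
  funext i
  unfold Em
  rw [if_pos hr]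
  rfl

theorem Em_bas {r : ℕ} (hr : r < 72) {z : ℤ} (hz : ok z = true) : Em F r *ᵥ bas F z = bas F (app r z) := by
  rcases z with z | z
  · rcases z with _ | z
    · simp [bas, app]
    · show Em F r *ᵥ Pi.single (dec z) 1 = bas F (en r z)
      have h : z < 27 := by
        have : Nat.ble (z + 1) 27 = true := hz
        rw [Nat.ble_eq] at this; omega
      rw [Em_single hr, cod_dec z h]
  · show Em F r *ᵥ (-Pi.single (dec z) 1) = bas F (-en r z)
    have h : z < 27 := by
      have : Nat.blt z 27 = true := hz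
      rwa [Nat.blt_eq] at this
    rw [Matrix.mulVec_neg, Em_single hr, cod_dec z h, bas_neg]

theorem ok_en {r v : ℕ} (hr : r < 72) (hv : v < 27) : ok (en r v) = true := by
  have h := chkOk
  simp only [List.all_eq_true, List.mem_range] at h
  exact h r hr v hv

theorem ok_neg {z : ℤ} (h : ok z = true) : ok (-z) = true := by
  rcases z with z | z
  · rcases z with _ | z
    · rfl
    · have : Nat.ble (z + 1) 27 = true := h
      show Nat.blt z 27 = true
      rw [Nat.ble_eq] at this
      rw [Nat.blt_eq]; omega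
  · have : Nat.blt z 27 = true := h
    show Nat.ble (z + 1) 27 = true
    rw [Nat.blt_eq] at this
    rw [Nat.ble_eq]; omega

theorem ok_app {r : ℕ} (hr : r < 72) {z : ℤ} (h : ok z = true) : ok (app r z) = true := by
  rcases z with z | z
  · rcases z with _ | z
    · rfl
    · have h1 : z < 27 := by
        have : Nat.ble (z + 1) 27 = true := h
        rw [Nat.ble_eq] at this; omega
      exact ok_en hr h1
  · have h1 : z < 27 := by
      have : Nat.blt z 27 = true := h
      rwa [Nat.blt_eq] at this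
    exact ok_neg (ok_en hr h1)

theorem mat_ext {A B : Matrix I27 I27 F} (h : ∀ j, A *ᵥ Pi.single j 1 = B *ᵥ Pi.single j 1) : A = B := by
  ext i j
  have := congrFun (h j) i
  rw [Matrix.mulVec_single_one, Matrix.mulVec_single_one] at this
  exact this

theorem Em_ge {r : ℕ} (hr : ¬ r < 72) : Em F r = 0 := if_neg hr

theorem Em_sq (r : ℕ) : Em F r * Em F r = 0 := by
  by_cases hr : r < 72
  · apply mat_ext
    intro j
    rw [← Matrix.mulVec_mulVec, Em_single hr, Em_bas hr (ok_en hr (cod_lt j)), Matrix.zero_mulVec]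
    have h := chkSq
    simp only [List.all_eq_true, List.mem_range, beq_iff_eq] at h
    rw [h r hr _ (cod_lt j)]; rfl
  · rw [Em_ge hr, zero_mul]

theorem neg_lt72 {r : ℕ} (hr : r < 72) : chevE6.neg r < 72 := by
  have h := chkNeg
  simp only [List.all_eq_true, List.mem_range, Bool.and_eq_true, Nat.blt_eq] at h
  exact (h r hr).1

theorem neg_neg72 {r : ℕ} (hr : r < 72) : chevE6.neg (chevE6.neg r) = r := by
  have h := chkNeg
  simp only [List.all_eq_true, List.mem_range, Bool.and_eq_true, Nat.blt_eq, beq_iff_eq] at h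
  exact (h r hr).2

theorem Em_EFE {r : ℕ} (hr : r < 72) : Em F r * Em F (chevE6.neg r) * Em F r = Em F r := by
  apply mat_ext
  intro j
  have hn := neg_lt72 hr
  rw [← Matrix.mulVec_mulVec, ← Matrix.mulVec_mulVec, Em_single hr, Em_bas hn (ok_en hr (cod_lt j)),
    Em_bas hr (ok_app hn (ok_en hr (cod_lt j)))]
  have h := chkEFE
  simp only [List.all_eq_true, List.mem_range, beq_iff_eq] at h
  rw [h r hr _ (cod_lt j)]

theorem Em_FEF {r : ℕ} (hr : r < 72) : Em F (chevE6.neg r) * Em F r * Em F (chevE6.neg r) = Em F (chevE6.neg r) := by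
  have := Em_EFE (F := F) (neg_lt72 hr)
  rwa [neg_neg72 hr] at this

/-! ### root elements -/

variable (F) in
/-- the root element -/
def X (r : ℕ) (t : F) : GL I27 F where
  val := 1 + t • Em F r
  inv := 1 - t • Em F r
  val_inv := by
    have h := Em_sq (F := F) r
    simp only [mul_sub, add_mul, mul_one, one_mul, smul_mul_assoc, mul_smul_comm, h, smul_zero]
    module
  inv_val := by
    have h := Em_sq (F := F) r
    simp only [mul_add, sub_mul, mul_one, one_mul, smul_mul_assoc, mul_smul_comm, h, smul_zero]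
    module

theorem coe_X (r : ℕ) (t : F) : (X F r t : Matrix I27 I27 F) = 1 + t • Em F r := rfl

theorem X_ge {r : ℕ} (hr : ¬ r < 72) (t : F) : X F r t = 1 := by
  apply Units.ext
  rw [coe_X, Em_ge hr]; simp

theorem X_add (r : ℕ) (t u : F) : X F r t * X F r u = X F r (t + u) := by
  apply Units.ext
  rw [Units.val_mul, coe_X, coe_X, coe_X]
  have h := Em_sq (F := F) r
  simp only [mul_add, add_mul, mul_one, one_mul, smul_mul_assoc, mul_smul_comm, h, smul_zero, add_smul]
  module

theorem X_zero (r : ℕ) : X F r 0 = 1 := by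
  apply Units.ext
  rw [coe_X]; simp

theorem X_neg (r : ℕ) (t : F) : X F r (-t) = (X F r t)⁻¹ := by
  rw [eq_inv_iff_mul_eq_one, X_add, neg_add_cancel, X_zero]

theorem rel_sound {a c b : ℤ} (h : rel a c b = true) : bas F a + bas F c = bas F b := by
  unfold rel at h
  simp only [Bool.or_eq_true, Bool.and_eq_true, beq_iff_eq] at h
  rcases h with ⟨h1, h2⟩ | ⟨h1, h2⟩ | ⟨h1, h2⟩
  · rw [h1, h2, bas_neg, bas_zero, neg_add_cancel]
  · rw [h1, h2, bas_zero, zero_add]
  · rw [h1, h2, bas_zero, add_zero]

theorem chkC_comm {r s : ℕ} (hr : r < 72) (hs : s < 72) (h : chkC r s = true) (t u : F) :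
    X F s u * X F r t = X F r t * X F s u * ((chevE6.commWord F r s t u).map fun p => X F p.1 p.2).prod := by
  unfold chkC at h
  unfold ChevalleyDatum.commWord
  split at h
  · rename_i he
    rw [he, List.map_nil, List.map_nil, List.prod_nil, mul_one]
    simp only [List.all_eq_true, List.mem_range, beq_iff_eq] at h
    have hc : Em F s * Em F r = Em F r * Em F s := by
      apply mat_ext
      intro j
      rw [← Matrix.mulVec_mulVec, ← Matrix.mulVec_mulVec, Em_single hr, Em_single hs,
        Em_bas hs (ok_en hr (cod_lt j)), Em_bas hr (ok_en hs (cod_lt j)), h _ (cod_lt j)]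
    apply Units.ext
    rw [Units.val_mul, Units.val_mul, coe_X, coe_X]
    simp only [mul_add, add_mul, mul_one, one_mul, smul_mul_assoc, mul_smul_comm, hc, smul_smul, mul_comm u t]
    module
  · rename_i k C i j he
    rw [he]
    simp only [Bool.and_eq_true, beq_iff_eq, Nat.blt_eq, Bool.or_eq_true, List.all_eq_true, List.mem_range] at h
    obtain ⟨rfl, rfl, hk, hC, h⟩ := h
    have hCb : ∀ z : ℤ, bas F (C * z) = (C : F) • bas F z := by
      intro z
      rcases hC with rfl | rfl
      · simp
      · rw [neg_one_mul, bas_neg]; simp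
    have e1 : Em F s * Em F r + (C : F) • Em F k = Em F r * Em F s := by
      apply mat_ext
      intro j
      rw [Matrix.add_mulVec, Matrix.smul_mulVec, ← Matrix.mulVec_mulVec, ← Matrix.mulVec_mulVec, Em_single hr,
        Em_single hs, Em_single hk, Em_bas hs (ok_en hr (cod_lt j)), Em_bas hr (ok_en hs (cod_lt j)), ← hCb]
      exact rel_sound (h _ (cod_lt j)).1
    have e2 : Em F r * Em F k = 0 := by
      apply mat_ext
      intro j
      rw [← Matrix.mulVec_mulVec, Em_single hk, Em_bas hr (ok_en hk (cod_lt j)), (h _ (cod_lt j)).2.1, bas_zero,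
        Matrix.zero_mulVec]
    have e3 : Em F s * Em F k = 0 := by
      apply mat_ext
      intro j
      rw [← Matrix.mulVec_mulVec, Em_single hk, Em_bas hs (ok_en hk (cod_lt j)), (h _ (cod_lt j)).2.2, bas_zero,
        Matrix.zero_mulVec]
    have e4 : Em F r * Em F s * Em F k = 0 := by rw [mul_assoc, e3, mul_zero]
    apply Units.ext
    rw [List.map_cons, List.map_nil, List.map_cons, List.map_nil, List.prod_cons, List.prod_nil, mul_one,
      Units.val_mul, Units.val_mul, Units.val_mul, coe_X, coe_X, coe_X]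
    have e5 : (1 + t • Em F r) * (1 + u • Em F s) = 1 + t • Em F r + u • Em F s + (t * u) • (Em F r * Em F s) := by
      simp only [mul_add, add_mul, mul_one, one_mul, smul_mul_assoc, mul_smul_comm, smul_smul, mul_comm u t]
      module
    have e6 : (1 + u • Em F s) * (1 + t • Em F r) = 1 + t • Em F r + u • Em F s + (t * u) • (Em F s * Em F r) := by
      simp only [mul_add, add_mul, mul_one, one_mul, smul_mul_assoc, mul_smul_comm, smul_smul, mul_comm u t]
      module
    rw [e5, e6]
    simp only [mul_add, add_mul, mul_one, one_mul, smul_mul_assoc, mul_smul_comm, e2, e3, e4, pow_one, smul_zero,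
      add_zero, smul_add, smul_smul]
    rw [← e1]
    module
  · exact absurd h (by simp)

theorem X_comm {r s : ℕ} (hr : r < 72) (hs : s < 72) (h1 : s ≠ r) (h2 : s ≠ chevE6.neg r) (t u : F) :
    X F s u * X F r t = X F r t * X F s u * ((chevE6.commWord F r s t u).map fun p => X F p.1 p.2).prod := by
  have h := chkComm
  simp only [List.all_eq_true, List.mem_range, Bool.or_eq_true, beq_iff_eq] at h
  rcases h r hr s hs with h3 | h3 | h3
  · exact absurd h3 h1
  · exact absurd h3 h2
  · exact chkC_comm hr hs h3 t u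

/-- `n_r(t)` -/
theorem nn_eq {r : ℕ} (hr : r < 72) {t : F} (ht : t ≠ 0) :
    (1 + t • Em F r) * (1 + (-t⁻¹) • Em F (chevE6.neg r)) * (1 + t • Em F r) =
      1 - Em F r * Em F (chevE6.neg r) - Em F (chevE6.neg r) * Em F r + t • Em F r - t⁻¹ • Em F (chevE6.neg r) := by
  have a1 := Em_sq (F := F) r
  have a2 := Em_EFE (F := F) hr
  set E := Em F r
  set N := Em F (chevE6.neg r)
  have e0 : ∀ w : F, (1 + t • E) * (1 + (-w) • N) = 1 + t • E - w • N - (t * w) • (E * N) := by
    intro w
    simp only [mul_add, add_mul, mul_one, one_mul, smul_mul_assoc, mul_smul_comm, smul_smul, neg_mul, mul_neg,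
      smul_neg, neg_smul]
    module
  have e1 : (1 + t • E) * (1 + (-t⁻¹) • N) = 1 + t • E - t⁻¹ • N - E * N := by
    rw [e0, mul_inv_cancel₀ ht, one_smul]
  rw [e1]
  simp only [mul_add, add_mul, sub_mul, mul_sub, mul_one, one_mul, smul_mul_assoc, mul_smul_comm, smul_smul, a1, a2,
    mul_inv_cancel₀ ht, inv_mul_cancel₀ ht, one_smul, smul_zero, smul_sub, smul_add]
  module

/-- `h_r(t)` -/
theorem hh_eq {r : ℕ} (hr : r < 72) {t : F} (ht : t ≠ 0) :
    ((((chevE6.hWord r t).map fun p => X F p.1 p.2).prod : GL I27 F) : Matrix I27 I27 F) =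
      1 + (t - 1) • (Em F r * Em F (chevE6.neg r)) + (t⁻¹ - 1) • (Em F (chevE6.neg r) * Em F r) := by
  have h1 := nn_eq (F := F) hr ht
  have h2 := nn_eq (F := F) hr (neg_ne_zero.mpr (one_ne_zero (α := F)))
  unfold ChevalleyDatum.hWord ChevalleyDatum.nWord
  simp only [List.map_append, List.map_cons, List.map_nil, List.prod_append, List.prod_cons, List.prod_nil,
    mul_one, Units.val_mul, coe_X]
  have e1 : (1 + t • Em F r) * ((1 + (-t⁻¹) • Em F (chevE6.neg r)) * (1 + t • Em F r)) *
      ((1 + (-1 : F) • Em F r) * ((1 + (-(-1 : F)⁻¹) • Em F (chevE6.neg r)) * (1 + (-1 : F) • Em F r))) =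
      ((1 + t • Em F r) * (1 + (-t⁻¹) • Em F (chevE6.neg r)) * (1 + t • Em F r)) *
      ((1 + (-1 : F) • Em F r) * (1 + (-(-1 : F)⁻¹) • Em F (chevE6.neg r)) * (1 + (-1 : F) • Em F r)) := by
    simp only [mul_assoc]
  rw [e1, h1, h2]
  have a1 := Em_sq (F := F) r
  have a2 := Em_EFE (F := F) hr
  have a3 := Em_FEF (F := F) hr
  have a4 := Em_sq (F := F) (chevE6.neg r)
  set E := Em F r
  set N := Em F (chevE6.neg r)
  have b1 : (1 - E * N - N * E) * E = 0 := by
    rw [sub_mul, sub_mul, one_mul, a2, mul_assoc N E E, a1, mul_zero]; abel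
  have b2 : (1 - E * N - N * E) * N = 0 := by
    rw [sub_mul, sub_mul, one_mul, a3, mul_assoc E N N, a4, mul_zero]; abel
  have b3 : E * (1 - E * N - N * E) = 0 := by
    rw [mul_sub, mul_sub, mul_one, ← mul_assoc, ← mul_assoc, a1, a2, zero_mul]; abel
  have b4 : N * (1 - E * N - N * E) = 0 := by
    rw [mul_sub, mul_sub, mul_one, ← mul_assoc, ← mul_assoc, a4, a3, zero_mul]; abel
  set P := 1 - E * N - N * E with hP
  have b5 : P * P = P := by
    calc P * P = (1 - E * N - N * E) * P := by rw [← hP]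
      _ = P - E * (N * P) - N * (E * P) := by rw [sub_mul, sub_mul, one_mul, mul_assoc, mul_assoc]
      _ = P := by rw [b3, b4, mul_zero, mul_zero, sub_zero, sub_zero]
  have c1 : (P + t • E - t⁻¹ • N) * (P + (-1 : F) • E - (-1 : F)⁻¹ • N) = P + t • (E * N) + t⁻¹ • (N * E) := by
    have : (-1 : F)⁻¹ = -1 := by rw [inv_neg, inv_one]
    rw [this]
    simp only [add_mul, sub_mul, mul_add, mul_sub, smul_mul_assoc, mul_smul_comm, b1, b2, b3, b4, b5, a1, a4,
      smul_zero, neg_smul, one_smul, smul_neg, mul_neg, neg_mul]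
    abel
  rw [c1, hP]
  module

theorem hh_mul {r : ℕ} (hr : r < 72) (t u : F) (ht : t ≠ 0) (hu : u ≠ 0) :
    ((chevE6.hWord r t).map fun p => X F p.1 p.2).prod * ((chevE6.hWord r u).map fun p => X F p.1 p.2).prod =
      ((chevE6.hWord r (t * u)).map fun p => X F p.1 p.2).prod := by
  apply Units.ext
  rw [Units.val_mul, hh_eq hr ht, hh_eq hr hu, hh_eq hr (mul_ne_zero ht hu)]
  have a1 := Em_sq (F := F) r
  have a2 := Em_EFE (F := F) hr
  have a3 := Em_FEF (F := F) hr
  have a4 := Em_sq (F := F) (chevE6.neg r)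
  set E := Em F r
  set N := Em F (chevE6.neg r)
  have b1 : E * N * (E * N) = E * N := by rw [← mul_assoc, a2]
  have b2 : N * E * (N * E) = N * E := by rw [← mul_assoc, a3]
  have b3 : E * N * (N * E) = 0 := by rw [mul_assoc, ← mul_assoc N N E, a4, zero_mul, mul_zero]
  have b4 : N * E * (E * N) = 0 := by rw [mul_assoc, ← mul_assoc E E N, a1, zero_mul, mul_zero]
  simp only [add_mul, mul_add, smul_mul_assoc, mul_smul_comm, b1, b2, b3, b4, mul_one, one_mul, smul_zero, add_zero,
    smul_smul, mul_inv]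
  module

/-- the homomorphism from the Steinberg group -/
theorem exists_hom27 (F : Type*) [Field F] : ∃ φ : chevE6.SteinbergGroup F →* GL I27 F,
    ∀ r t, φ (chevE6.stGen F r t) = X F r t := by
  apply exists_hom (D := chevE6)
  · intro r t hr
    exact X_ge hr t
  · intro r _ t u
    exact X_add r t u
  · intro r hr s hs h1 h2 t u
    exact X_comm hr hs h1 h2 t u
  · intro r hr t u ht hu
    exact hh_mul hr t u ht hu

end Cfsg.Agent.Lib.E6Rep
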