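import Cfsg.Agent.Lib.E6Tor
import Cfsg.Agent.Lib.ChevOrth
set_option autoImplicit false
set_option linter.unusedSectionVars false

/-!
`E₆(F)` and the isometry group of the cubic form (helper44).
-/

namespace Cfsg.Agent.Lib.E6Rep
open Cfsg.Lie
open scoped MatrixGroups Matrix

variable {F : Type*} [Field F]

theorem tabW : en 36 1 = 3 := by decide +kernel

theorem Em36_ne : Em F 36 ≠ 0 := by
  intro h
  have h1 : Em F 36 *ᵥ e F 1 = bas F (en 36 1) := by
    unfold e; rw [Em_single (by norm_num), cod_dec 1 (by norm_num)]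
  rw [h, Matrix.zero_mulVec, tabW] at h1
  have h2 := congrFun h1 (dec 2)
  have h4 : (bas F 3) (dec 2) = 1 := by
    show (Pi.single (dec 2) 1 : I27 → F) (dec 2) = 1
    simp
  rw [h4] at h2
  exact zero_ne_one h2

theorem noncomm : ∃ x y : ↥(E6univ F), x * y ≠ y * x := by
  refine ⟨⟨X F 36 1, X_mem _ _⟩, ⟨X F (chevE6.neg 36) 1, X_mem _ _⟩, ?_⟩
  intro h
  have h1 : X F 36 1 * X F (chevE6.neg 36) 1 = X F (chevE6.neg 36) 1 * X F 36 1 := congrArg Subtype.val h
  have h2 := congrArg (fun g : GL I27 F => (g : Matrix I27 I27 F)) h1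
  simp only [Units.val_mul, coe_X, one_smul] at h2
  have h3 : Em F 36 * Em F (chevE6.neg 36) = Em F (chevE6.neg 36) * Em F 36 := by
    have h4 : Em F 36 * Em F (chevE6.neg 36) = (1 + Em F 36) * (1 + Em F (chevE6.neg 36)) - 1 - Em F 36 -
        Em F (chevE6.neg 36) := by noncomm_ring
    rw [h4, h2]; noncomm_ring
  apply Em36_ne (F := F)
  rw [← Em_EFE (by norm_num : 36 < 72), h3, mul_assoc, Em_sq, mul_zero]

theorem iso (hF : ∃ t : F, t ≠ 0 ∧ t ≠ 1) : Nonempty (↥(chevE6.group F) ≃* E6 F) := by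
  have hD : chevE6 ∈ [chevG2, chevB2, chevD4, chevF4, chevE6, chevE7, chevE8] := by simp
  obtain ⟨hs, -⟩ := ChevSimple.simple (F := F) hD (by
    intro h
    rcases h with h | h
    · exact absurd (congrArg ChevalleyDatum.nroots h) (by decide)
    · exact absurd (congrArg ChevalleyDatum.nroots h) (by decide))
  obtain ⟨θ, h1, h2, -⟩ := Cfsg.Agent.Lib.StPres.ker_eq_center (K := F) hD
  obtain ⟨φ, hφ⟩ := exists_hom27 F
  have hmem : ∀ g, φ g ∈ E6univ F := by
    intro g
    have : g ∈ Subgroup.closure {g : chevE6.SteinbergGroup F | ∃ r < chevE6.nroots, ∃ t : F, g = chevE6.stGen F r t} := by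
      rw [closure_stGen]; exact Subgroup.mem_top g
    induction this using Subgroup.closure_induction with
    | mem x hx =>
      obtain ⟨r, -, t, rfl⟩ := hx
      rw [hφ]; exact X_mem r t
    | one => rw [map_one]; exact one_mem _
    | mul x y _ _ hx hy => rw [map_mul]; exact mul_mem hx hy
    | inv x _ hx => rw [map_inv]; exact inv_mem hx
  have hsurj : Function.Surjective (φ.codRestrict (E6univ F) hmem) := by
    rintro ⟨g, hg⟩
    have hle : Rg F ≤ φ.range := by
      unfold Rg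
      rw [Subgroup.closure_le]
      rintro _ ⟨r, t, rfl⟩
      exact ⟨chevE6.stGen F r t, hφ r t⟩
    obtain ⟨x, hx⟩ := hle (E6univ_le hF hg)
    exact ⟨x, Subtype.ext hx⟩
  exact ChevOrth.iso_of θ h1 h2 _ hsurj noncomm

end Cfsg.Agent.Lib.E6Rep
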