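import Cfsg.Agent.Lib.E6OB
import Cfsg.Agent.Lib.E6Fi22Hom
set_option autoImplicit false
set_option linter.unusedSectionVars false
set_option linter.unusedVariables false
set_option linter.style.haveILetI false

/-!
Elements of order five of `2E6(2)`: words in root elements, packed matrices (machine generated).
-/

namespace Cfsg.Agent.Lib.E6O
open Cfsg.Lie Cfsg.Agent.Lib.F4Mat

def tb : List (ℕ × List ℕ) := [(0, [0, 0, 0, 0, 131072, 16384, 0, 0, 0, 4194304, 524288, 0, 0, 0, 0, 0, 0, 0, 0, 0,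
  0, 0, 0, 0, 64, 0, 1]), (1, [0, 0, 0, 0, 65536, 8192, 0, 0, 0, 33554432, 0, 524288, 0, 0, 0, 0, 0, 0, 0, 0, 0,
  64, 0, 1, 0, 0, 0]), (3, [0, 524288, 0, 0, 262144, 0, 0, 0, 0, 256, 0, 0, 0, 0, 0, 64, 0, 0, 0, 0, 0, 0, 0,
  16384, 0, 0, 8192]), (5, [0, 0, 0, 0, 32768, 4096, 0, 0, 0, 0, 33554432, 4194304, 0, 0, 0, 0, 0, 0, 64, 0, 1, 0,
  0, 0, 0, 0, 0]), (6, [0, 1, 0, 0, 8, 0, 0, 64, 0, 4096, 8192, 16384, 0, 0, 0, 0, 0, 0, 0, 0, 0, 0, 0, 0, 0, 0,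
  0]), (8, [0, 4194304, 0, 0, 2097152, 0, 0, 0, 0, 0, 256, 0, 0, 0, 0, 0, 64, 0, 0, 0, 16384, 0, 0, 0, 0, 0,
  4096]), (11, [0, 33554432, 0, 0, 16777216, 0, 0, 0, 0, 0, 0, 256, 0, 0, 0, 0, 0, 64, 0, 0, 8192, 0, 0, 4096, 0,
  0, 0]), (15, [0, 32768, 4096, 0, 0, 0, 0, 0, 0, 0, 16777216, 2097152, 0, 0, 0, 0, 0, 0, 0, 64, 8, 0, 0, 0, 0, 0,
  0]), (18, [0, 0, 0, 0, 0, 1048576, 0, 0, 524288, 2, 0, 0, 1, 0, 0, 0, 0, 0, 0, 0, 0, 131072, 0, 0, 65536, 0, 0]),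
  (21, [0, 0, 0, 0, 0, 0, 0, 0, 0, 2048, 0, 0, 16384, 0, 0, 131072, 0, 0, 0, 0, 0, 0, 0, 0, 262144, 524288,
  1048576]), (23, [0, 0, 0, 0, 0, 8388608, 0, 0, 4194304, 0, 2, 0, 0, 1, 0, 0, 0, 0, 131072, 0, 0, 0, 0, 0, 32768,
  0, 0]), (25, [0, 0, 0, 0, 0, 0, 0, 0, 0, 0, 2048, 0, 0, 16384, 0, 0, 131072, 0, 0, 0, 0, 0, 0, 0, 2097152,
  4194304, 8388608]), (29, [524288, 0, 0, 262144, 0, 0, 0, 0, 0, 0, 0, 0, 256, 0, 0, 128, 0, 0, 0, 0, 0, 0, 0,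
  2048, 0, 0, 1024]), (32, [0, 0, 0, 0, 0, 0, 0, 65536, 8192, 67108864, 0, 1048576, 0, 0, 0, 0, 0, 0, 0, 0, 0, 8,
  1, 0, 0, 0, 0]), (34, [0, 0, 0, 32768, 0, 512, 0, 0, 0, 0, 0, 0, 0, 33554432, 4194304, 0, 0, 0, 128, 0, 2, 0, 0,
  0, 0, 0, 0]), (35, [0, 4, 0, 0, 32, 0, 0, 256, 0, 0, 0, 0, 0, 0, 0, 4096, 8192, 16384, 0, 0, 0, 0, 0, 0, 0, 0,
  0]), (36, [0, 0, 2, 0, 0, 16, 0, 0, 128, 0, 0, 0, 32768, 65536, 131072, 0, 0, 0, 0, 0, 0, 0, 0, 0, 0, 0, 0]),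
  (37, [0, 1048576, 0, 0, 0, 0, 0, 262144, 0, 32, 0, 0, 0, 0, 0, 8, 0, 0, 0, 0, 0, 0, 16384, 0, 0, 8192, 0]), (39,
  [4194304, 0, 0, 2097152, 0, 0, 0, 0, 0, 0, 0, 0, 0, 256, 0, 0, 128, 0, 0, 0, 2048, 0, 0, 0, 0, 0, 512]), (40,
  [16384, 2048, 0, 0, 0, 0, 0, 0, 0, 0, 0, 0, 0, 0, 0, 2097152, 262144, 0, 0, 0, 0, 0, 0, 0, 0, 256, 32]), (42, [0,
  0, 0, 0, 0, 0, 0, 32768, 4096, 0, 67108864, 8388608, 0, 0, 0, 0, 0, 0, 8, 1, 0, 0, 0, 0, 0, 0, 0]), (43, [0, 0,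
  0, 0, 0, 0, 0, 0, 0, 0, 512, 0, 0, 4096, 0, 0, 32768, 0, 2097152, 4194304, 8388608, 0, 0, 0, 0, 0, 0]), (46, [0,
  0, 0, 0, 0, 0, 0, 0, 0, 0, 0, 1024, 0, 0, 8192, 0, 0, 65536, 0, 0, 0, 16777216, 33554432, 67108864, 0, 0, 0]),
  (47, [33554432, 0, 0, 16777216, 0, 0, 0, 0, 0, 0, 0, 0, 0, 0, 256, 0, 0, 128, 0, 0, 1024, 0, 0, 512, 0, 0, 0]),
  (48, [8192, 1024, 0, 0, 0, 0, 0, 0, 0, 0, 0, 0, 0, 0, 0, 16777216, 0, 262144, 0, 0, 0, 0, 256, 32, 0, 0, 0]),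
  (50, [0, 0, 0, 0, 0, 0, 0, 0, 0, 0, 0, 512, 0, 0, 4096, 0, 0, 32768, 16777216, 33554432, 67108864, 0, 0, 0, 0, 0,
  0]), (53, [4096, 512, 0, 0, 0, 0, 0, 0, 0, 0, 0, 0, 0, 0, 0, 0, 16777216, 2097152, 0, 256, 32, 0, 0, 0, 0, 0,
  0]), (56, [0, 0, 0, 1048576, 0, 0, 524288, 0, 0, 0, 0, 0, 4, 0, 0, 2, 0, 0, 0, 0, 0, 2048, 0, 0, 1024, 0, 0]),
  (60, [0, 0, 0, 0, 0, 0, 131072, 0, 2048, 0, 0, 0, 8388608, 1048576, 0, 0, 0, 0, 0, 0, 0, 0, 0, 0, 16, 2, 0]),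
  (63, [0, 0, 0, 0, 0, 0, 65536, 0, 1024, 0, 0, 0, 67108864, 0, 1048576, 0, 0, 0, 0, 0, 0, 16, 2, 0, 0, 0, 0]),
  (66, [1048576, 0, 0, 0, 0, 0, 262144, 0, 0, 0, 0, 0, 32, 0, 0, 16, 0, 0, 0, 0, 0, 0, 2048, 0, 0, 1024, 0]), (68,
  [0, 0, 0, 0, 0, 0, 32768, 0, 512, 0, 0, 0, 0, 67108864, 8388608, 0, 0, 0, 16, 2, 0, 0, 0, 0, 0, 0, 0]), (70,
  [8388608, 0, 0, 0, 0, 0, 2097152, 0, 0, 0, 0, 0, 0, 32, 0, 0, 16, 0, 0, 2048, 0, 0, 0, 0, 0, 512, 0]), (71,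
  [67108864, 0, 0, 0, 0, 0, 16777216, 0, 0, 0, 0, 0, 0, 0, 32, 0, 0, 16, 0, 1024, 0, 0, 512, 0, 0, 0, 0])]

def x0L : List RV := [(1, 524288), (1048576, 2), (4, 0), (32904, 294912), (16, 0), (544, 512), (64, 0), (262280,
  294912), (4352, 256), (32, 512), (67109888, 1024), (8390656, 2048), (4096, 256), (33562624, 33554432), (4210688,
  4194304), (136, 295040), (65536, 0), (131072, 0), (294920, 295040), (524289, 524288), (1048578, 2), (2097152, 0),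
  (16384, 4194304), (8388608, 2048), (16777216, 0), (8192, 33554432), (67108864, 1024)]

def x1L : List RV := [(67108865, 0), (33554434, 0), (4, 0), (8, 0), (16842768, 0), (1048608, 0), (16842816, 0),
  (128, 0), (524544, 0), (514, 0), (527616, 0), (1024, 0), (4097, 0), (1073184, 0), (8192, 0), (32768, 0),
  (16908368, 0), (65536, 0), (262144, 0), (525312, 0), (1056768, 0), (16842752, 0), (33554432, 0), (67108864, 0),
  (19070976, 0), (37749250, 0), (75501569, 0)]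

def nL : List RV := [(8392705, 0), (4194818, 0), (4, 0), (8, 0), (131088, 0), (16416, 0), (131136, 0), (128, 0),
  (2304, 0), (4194816, 0), (527360, 0), (2048, 0), (8392704, 0), (1073152, 0), (16384, 0), (32768, 0), (18939984,
  0), (2228224, 0), (262144, 0), (526592, 0), (1064992, 0), (2097152, 0), (4194304, 0), (8388608, 0), (19005520,
  0), (37748738, 0), (75497473, 0)]

def mL : List RV := [(1048576, 0), (524288, 1), (4, 0), (8, 0), (64, 0), (4096, 0), (16, 0), (262280, 294912),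
  (544, 32), (256, 4096), (33562624, 8192), (4210688, 16384), (32, 0), (67108864, 0), (8388608, 0), (262144, 8),
  (65536, 0), (131072, 0), (32776, 8), (1048578, 1048576), (1, 0), (2097152, 0), (2048, 8388608), (16384, 0),
  (16777216, 0), (1024, 67108864), (8192, 0)]

def sL : List RV := [(4194560, 4196864), (34078720, 525314), (4, 0), (2097152, 0), (32848, 294912), (20512,
  8409088), (16941072, 294912), (65536, 0), (1048577, 67117056), (68157440, 1056769), (102245376, 102236163),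
  (68165632, 68157441), (8409120, 4128), (12589088, 8405792), (8392736, 8405024), (131152, 16777296), (17203392,
  0), (17203264, 0), (16908288, 16777296), (33555458, 525314), (2816, 4196864), (8, 0), (8193, 68157441), (20480,
  8405024), (17170504, 294912), (34087939, 101712897), (23040, 12601632)]

def qL : List RV := [(84082842, 109117971), (21041795, 52625986), (32768, 0), (1049600, 0), (1572900, 262148),
  (75694720, 75498002), (1835040, 262148), (1060128, 0), (81789467, 69272200), (12648595, 69272200), (25301704,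
  125833746), (14745739, 79757971), (196754, 75498002), (50331657, 83951624), (75694738, 196738), (1573920,
  550144), (1852708, 0), (289028, 0), (1073440, 550144), (39981249, 52625986), (58851977, 109117971), (1050624, 0),
  (69206552, 79757971), (75498000, 196738), (811300, 0), (100794586, 125833746), (100728833, 83951624)]

/-- blocks -/
def wx0 : List (ℕ × ℕ × RV) := [(42, 37, (1, 0)), (29, 34, (0, 1))]

def wx1 : List (ℕ × ℕ × RV) := [(8, 8, (1, 0)), (70, 70, (1, 0)), (46, 46, (1, 0)), (18, 18, (1, 0)), (25, 25, (1,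
  0))]

def wn : List (ℕ × ℕ × RV) := [(53, 53, (1, 0)), (60, 60, (1, 0)), (25, 25, (1, 0)), (0, 0, (1, 0))]

def wm : List (ℕ × ℕ × RV) := [(3, 5, (1, 0)), (66, 68, (1, 0)), (3, 5, (1, 0)), (37, 42, (1, 1))]

def ws : List (ℕ × ℕ × RV) := [(25, 25, (1, 0)), (32, 32, (1, 0)), (39, 39, (1, 0)), (32, 32, (1, 0)), (66, 68, (1,
  1)), (48, 50, (0, 1)), (21, 23, (1, 1)), (3, 5, (0, 1))]

def wq : List (ℕ × ℕ × RV) := [(25, 25, (1, 0)), (21, 23, (0, 1)), (47, 47, (1, 0)), (32, 32, (1, 0)), (40, 43, (0,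
  1)), (48, 50, (1, 1)), (66, 68, (1, 0)), (3, 5, (0, 1)), (6, 6, (1, 0)), (56, 36, (1, 0)), (15, 35, (1, 0)), (56,
  36, (1, 0))]

/-- membership table -/
def tm : List (ℕ × ℕ × List ℕ) := [(0, 0, [3, 2, 1, 2, 3, 0, 1, 2]), (1, 1, [2, 1, 2, 3, 0, 1, 2]), (6, 6, [2, 3,
  0, 1, 2]), (8, 8, [3, 0, 1, 2]), (11, 11, [0, 1, 2]), (18, 18, [2, 3, 1, 2]), (25, 25, [2, 3, 2]), (32, 32, [2]),
  (39, 39, []), (46, 46, [2, 3]), (47, 47, [3]), (53, 53, [2, 3, 1]), (60, 60, [0, 1]), (63, 63, [3, 0, 1]), (70,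
  70, [2, 1, 2, 3, 0, 1]), (71, 71, [3, 2, 1, 2, 3, 0, 1]), (3, 5, [0, 1, 2, 3, 1, 2, 1, 0]), (15, 35, [0]), (21,
  23, [3, 2, 0, 1, 0]), (29, 34, [0, 1, 0]), (37, 42, [2, 1, 2, 0, 1]), (40, 43, [1, 2, 0, 1]), (42, 37, [0, 1]),
  (48, 50, [3, 1, 2, 0, 1]), (56, 36, []), (66, 68, [0, 1, 2, 3, 0, 1, 2, 1])]

/-- squares of codes -/
def sqc (c : RV) : RV := (c.1 ^^^ c.2, c.2)

/-- the word of a list of blocks -/
def wb (l : List (ℕ × ℕ × RV)) : List (ℕ × RV) := l.flatMap fun b =>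
  bif Nat.beq b.1 b.2.1 then [(b.1, b.2.2)] else [(b.1, b.2.2), (b.2.1, sqc b.2.2)]

set_option maxRecDepth 100000 in
theorem ok_words : ([wx0, wx1, wn, wm, ws, wq].all fun l => okw tb (wb l)) = true := by decide +kernel

set_option maxRecDepth 100000 in
theorem mt_words : (eqL (mtw tb (wb wx0)) x0L && (eqL (mtw tb (wb wx1)) x1L && (eqL (mtw tb (wb wn)) nL &&
    (eqL (mtw tb (wb wm)) mL && (eqL (mtw tb (wb ws)) sL && eqL (mtw tb (wb wq)) qL))))) = true := by decide +kernel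

set_option maxRecDepth 100000 in
theorem rel_words : (eqL (powL x0L 5) idL && (eqL (powL x1L 5) idL && (eqL (mulL x0L x1L) (mulL x1L x0L) &&
    (eqL (mulL nL x1L) (mulL (mulL x1L x1L) nL) && (eqL (mulL nL x0L) (mulL x0L nL) &&
    (eqL (mulL mL x0L) (mulL (mulL x0L x0L) mL) && (eqL (mulL sL x0L) (mulL x1L sL) &&
    eqL (mulL qL x1L) (mulL (mulL x0L x1L) qL)))))))) = true := by decide +kernel

end Cfsg.Agent.Lib.E6O
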