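import Cfsg.Agent.Lib.E6F4B
import Cfsg.Agent.Lib.E6Iso
set_option autoImplicit false
set_option linter.unusedSectionVars false
set_option linter.unusedVariables false
set_option linter.style.haveILetI false

/-!
Pairs of corresponding elements of the adjoint group of type `E6` and of the 27-dimensional representation.
-/

namespace Cfsg.Agent.Lib.E6Pair
open Cfsg.Lie Cfsg.Agent.Lib.ChevX Cfsg.Agent.Lib.ChevGood Cfsg.Agent.Lib.ChevRel Cfsg.Agent.Lib.ChevNPerm
  Cfsg.Agent.Lib.E6F4A
open scoped MatrixGroups Matrix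

universe u

section
variable (K : Type u) [Field K]

theorem exists_θ : ∃ θ : chevE6.SteinbergGroup K →* ↥(chevE6.group K), Function.Surjective θ ∧
    θ.ker = Subgroup.center (chevE6.SteinbergGroup K) ∧
      ∀ (r : ℕ) (t : K), r < chevE6.nroots →
        ((θ (chevE6.stGen K r t) : GL chevE6.Idx K) : Matrix chevE6.Idx chevE6.Idx K) = chevE6.x K r t :=
  StPres.ker_eq_center (by simp)

noncomputable def θ : chevE6.SteinbergGroup K →* ↥(chevE6.group K) := Classical.choose (exists_θ K)

noncomputable def φ : chevE6.SteinbergGroup K →* GL I27 K := Classical.choose (E6Rep.exists_hom27 K)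

end

variable {K : Type u} [Field K]

theorem θ_surj : Function.Surjective (θ K) := (Classical.choose_spec (exists_θ K)).1

theorem θ_ker : (θ K).ker = Subgroup.center (chevE6.SteinbergGroup K) := (Classical.choose_spec (exists_θ K)).2.1

theorem θ_gen {r : ℕ} (hr : r < chevE6.nroots) (t : K) : ((θ K (chevE6.stGen K r t) : ↥(chevE6.group K)) : GL chevE6.Idx K) =
    xg chevE6 K r t := by
  apply Units.ext
  exact ((Classical.choose_spec (exists_θ K)).2.2 r t hr).trans (coe_xg GE r t).symm

theorem φ_gen (r : ℕ) (t : K) : φ K (chevE6.stGen K r t) = E6Rep.X K r t :=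
  Classical.choose_spec (E6Rep.exists_hom27 K) r t

theorem noncomm : ∃ x y : chevE6.SteinbergGroup K, φ K x * φ K y ≠ φ K y * φ K x := by
  refine ⟨chevE6.stGen K 36 1, chevE6.stGen K (chevE6.neg 36) 1, ?_⟩
  rw [φ_gen, φ_gen]
  intro h1
  have h2 := congrArg (fun g : GL I27 K => (g : Matrix I27 I27 K)) h1
  simp only [Units.val_mul, E6Rep.coe_X, one_smul] at h2
  have h3 : E6Rep.Em K 36 * E6Rep.Em K (chevE6.neg 36) = E6Rep.Em K (chevE6.neg 36) * E6Rep.Em K 36 := by
    have h4 : E6Rep.Em K 36 * E6Rep.Em K (chevE6.neg 36) = (1 + E6Rep.Em K 36) * (1 + E6Rep.Em K (chevE6.neg 36)) - 1 -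
        E6Rep.Em K 36 - E6Rep.Em K (chevE6.neg 36) := by noncomm_ring
    rw [h4, h2]; noncomm_ring
  apply E6Rep.Em36_ne (F := K)
  rw [← E6Rep.Em_EFE (by norm_num : 36 < 72), h3, mul_assoc, E6Rep.Em_sq, mul_zero]

theorem simpleE6 : IsSimpleGroup ↥(chevE6.group K) :=
  (ChevSimple.simple (F := K) (by simp) (by
    intro h
    rcases h with h | h
    · exact absurd (congrArg ChevalleyDatum.nroots h) (by decide)
    · exact absurd (congrArg ChevalleyDatum.nroots h) (by decide))).1

/-- the kernel of the 27-dimensional representation is in the kernel of the adjoint representation -/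
theorem ker_le {w : chevE6.SteinbergGroup K} (hw : φ K w = 1) : θ K w = 1 := by
  haveI := simpleE6 (K := K)
  have hn : ((φ K).ker.map (θ K)).Normal := Subgroup.Normal.map inferInstance _ θ_surj
  rcases hn.eq_bot_or_eq_top with h | h
  · have h1 : θ K w ∈ (φ K).ker.map (θ K) := ⟨w, hw, rfl⟩
    rw [h, Subgroup.mem_bot] at h1
    exact h1
  · exfalso
    obtain ⟨x, y, hxy⟩ := noncomm (K := K)
    apply hxy
    have h1 : θ K x ∈ (φ K).ker.map (θ K) := by rw [h]; trivial
    obtain ⟨k, hk, hkx⟩ := h1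
    have h2 : x * k⁻¹ ∈ (θ K).ker := by
      rw [MonoidHom.mem_ker, map_mul, map_inv, hkx, mul_inv_cancel]
    rw [θ_ker, Subgroup.mem_center_iff] at h2
    have h4 : φ K k = 1 := hk
    have h5 : φ K (x * k⁻¹) = φ K x := by rw [map_mul, map_inv, h4, inv_one, mul_one]
    have h3 : φ K y * φ K (x * k⁻¹) = φ K (x * k⁻¹) * φ K y := by rw [← map_mul, ← map_mul, h2 y]
    rw [h5] at h3
    exact h3.symm

/-- an element acting as a scalar in the 27-dimensional representation is trivial in the adjoint representation -/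
theorem eq_one_of_scalar {w : chevE6.SteinbergGroup K} (hw : ∀ v, φ K w * φ K v = φ K v * φ K w) : θ K w = 1 := by
  apply Subtype.ext
  show (θ K w : GL chevE6.Idx K) = 1
  apply ChevSub.eq_one_of_comm GE listed (θ K w).2
  intro r hr
  have h1 : φ K (w * chevE6.stGen K r 1 * w⁻¹ * (chevE6.stGen K r 1)⁻¹) = 1 := by
    rw [map_mul, map_mul, map_mul, map_inv, map_inv, hw]
    group
  have h2 := ker_le h1
  have h3 := congrArg (Subtype.val : ↥(chevE6.group K) → GL chevE6.Idx K) h2
  rw [map_mul, map_mul, map_mul, map_inv, map_inv] at h3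
  rw [Subgroup.coe_mul, Subgroup.coe_mul, Subgroup.coe_mul, Subgroup.coe_inv, Subgroup.coe_inv, θ_gen hr,
    Subgroup.coe_one, mul_inv_eq_one] at h3
  exact h3

theorem comm_of_one {w : chevE6.SteinbergGroup K} (hw : θ K w = 1) (v : chevE6.SteinbergGroup K) :
    φ K w * φ K v = φ K v * φ K w := by
  have h : w ∈ (θ K).ker := hw
  rw [θ_ker, Subgroup.mem_center_iff] at h
  rw [← map_mul, ← map_mul, h v]

/-- words in the Steinberg group -/
noncomputable def sw (w : List (ℕ × K)) : chevE6.SteinbergGroup K := (w.map fun p => chevE6.stGen K p.1 p.2).prod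

/-- words in the 27-dimensional representation -/
noncomputable def Xw (w : List (ℕ × K)) : GL I27 K := (w.map fun p => E6Rep.X K p.1 p.2).prod

theorem φ_sw (w : List (ℕ × K)) : φ K (sw w) = Xw w := by
  unfold sw Xw
  rw [map_list_prod, List.map_map]
  congr 1
  apply List.map_congr_left
  intro p _
  exact φ_gen _ _

theorem θ_sw {w : List (ℕ × K)} (hw : ∀ p ∈ w, p.1 < chevE6.nroots) :
    ((θ K (sw w) : ↥(chevE6.group K)) : GL chevE6.Idx K) = wg chevE6 K w := by
  induction w with
  | nil => simp [sw, wg]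
  | cons p w ih =>
    have h1 : sw (p :: w) = chevE6.stGen K p.1 p.2 * sw w := by simp [sw]
    have h2 : wg chevE6 K (p :: w) = xg chevE6 K p.1 p.2 * wg chevE6 K w := by simp [wg]
    rw [h1, map_mul, Subgroup.coe_mul, θ_gen (hw p List.mem_cons_self), h2,
      ih fun q hq => hw q (List.mem_cons_of_mem _ hq)]

/-- the diagonal matrices of the 27-dimensional representation: conjugation by elements of `T⟨d⟩` -/
theorem exists_lift {g : GL chevE6.Idx K} (hg : g ∈ chevE6.group K) : ∃ w : chevE6.SteinbergGroup K,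
    ((θ K w : ↥(chevE6.group K)) : GL chevE6.Idx K) = g := by
  obtain ⟨w, hw⟩ := θ_surj (K := K) ⟨g, hg⟩
  exact ⟨w, by rw [hw]⟩

end Cfsg.Agent.Lib.E6Pair
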