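import Cfsg.Agent.Lib.E6Stage
set_option autoImplicit false
set_option linter.unusedSectionVars false

/-!
Reduction of an isometry of the cubic form of type `E₆` to diagonal form by root elements: proofs (helper44).
-/

namespace Cfsg.Agent.Lib.E6Rep
open Cfsg.Lie
open scoped MatrixGroups Matrix

variable {F : Type*} [Field F]

theorem val_ne {v : I27 → F} {z : ℤ} : val v z ≠ 0 ↔ z ≠ 0 ∧ v (dec (ix z)) ≠ 0 := by
  rcases z with z | z
  · rcases z with _ | z
    · simp [val]
    · show v (dec z) ≠ 0 ↔ (Int.ofNat (z + 1) ≠ 0 ∧ v (dec z) ≠ 0)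
      exact ⟨fun h => ⟨fun h1 => (by cases h1), h⟩, fun h => h.2⟩
  · show -v (dec z) ≠ 0 ↔ (Int.negSucc z ≠ 0 ∧ v (dec z) ≠ 0)
    simp

theorem val_eq {v : I27 → F} {z : ℤ} (h : v (dec (ix z)) = 0) : val v z = 0 := by
  by_contra h1
  exact (val_ne.1 h1).2 h

theorem val_idx {v : I27 → F} {z : ℤ} (hz : z ≠ 0) : val v z = 0 ↔ v (dec (ix z)) = 0 := by
  constructor
  · intro h
    by_contra h1
    exact val_ne.2 ⟨hz, h1⟩ h
  · exact val_eq

theorem ix_lt {z : ℤ} (h : ok z = true) : ix z < 27 := by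
  rcases z with z | z
  · have : Nat.ble z 27 = true := h
    rw [Nat.ble_eq] at this
    show z - 1 < 27
    omega
  · have : Nat.blt z 27 = true := h
    rw [Nat.blt_eq] at this
    exact this

theorem ix_thz {a b : ℕ} (ha : a < 27) (hb : b < 27) : ix (thz a b) < 27 := by
  have h := tabOkTh
  simp only [List.all_eq_true, List.mem_range] at h
  exact ix_lt (h a ha b hb)

theorem ix_en {r a : ℕ} (hr : r < 72) (ha : a < 27) : ix (en r a) < 27 := ix_lt (ok_en hr ha)

/-- `g` fixes the lines of the basis vectors of `L` -/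
def Fixes (g : GL I27 F) (L : List ℕ) : Prop :=
  ∀ m ∈ L, ∃ c : F, c ≠ 0 ∧ (g : Matrix I27 I27 F) *ᵥ e F m = c • e F m

/-- image of a basis vector -/
def im (g : GL I27 F) (k : ℕ) : I27 → F := (g : Matrix I27 I27 F) *ᵥ e F k

theorem e_ne (k : ℕ) : e F k (dec k) = 1 := by unfold e; simp

theorem e_self {k s : ℕ} (hk : k < 27) (hs : s < 27) (h : s ≠ k) : e F k (dec s) = 0 := by
  rw [e_dec hs hk]; simp [h]

theorem mul_inv_vec (g : GL I27 F) (v : I27 → F) :
    (g : Matrix I27 I27 F) *ᵥ ((g⁻¹ : GL I27 F) : Matrix I27 I27 F) *ᵥ v = v := by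
  rw [Matrix.mulVec_mulVec, ← Units.val_mul, mul_inv_cancel, Units.val_one, Matrix.one_mulVec]

theorem mul_vec_inj (g : GL I27 F) {v w : I27 → F} (h : (g : Matrix I27 I27 F) *ᵥ v = (g : Matrix I27 I27 F) *ᵥ w) :
    v = w := by
  have : ((g⁻¹ : GL I27 F) : Matrix I27 I27 F) *ᵥ (g : Matrix I27 I27 F) *ᵥ v =
    ((g⁻¹ : GL I27 F) : Matrix I27 I27 F) *ᵥ (g : Matrix I27 I27 F) *ᵥ w := by rw [h]
  rwa [Matrix.mulVec_mulVec, Matrix.mulVec_mulVec, ← Units.val_mul, inv_mul_cancel, Units.val_one,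
    Matrix.one_mulVec, Matrix.one_mulVec] at this

section

variable (hF : ∃ t : F, t ≠ 0 ∧ t ≠ 1) {g : GL I27 F} (hg : g ∈ E6univ F) {L : List ℕ} (hL : Fixes g L)
  (hL27 : ∀ m ∈ L, m < 27)
include hF hg hL hL27

theorem val_bad1 {m t k : ℕ} (hm : m ∈ L) (ht : t < 27) (hk : k < 27) (h : thz m k = 0) :
    val (im g k) (thz m t) = 0 := by
  obtain ⟨c, hc, hgc⟩ := hL m hm
  have h1 : c * f (e F m) (im g k) (e F t) = 0 := by
    have : c * f (e F m) (im g k) (e F t) = f ((g : Matrix I27 I27 F) *ᵥ e F m) ((g : Matrix I27 I27 F) *ᵥ e F k)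
        ((g : Matrix I27 I27 F) *ᵥ (((g⁻¹ : GL I27 F) : Matrix I27 I27 F) *ᵥ e F t)) := by
      rw [mul_inv_vec, hgc, f, f, fL_smul1]; rfl
    rw [this, f_pres hF hg, f, fL_comm23]
    show f _ _ _ = 0
    rw [f_ee (hL27 m hm) hk, h]; rfl
  rw [← f_ee (hL27 m hm) ht]
  exact (mul_eq_zero.1 h1).resolve_left hc

theorem val_bad2 {m t k : ℕ} (hm : m ∈ L) (ht : t ∈ L) :
    val (im g k) (thz m t) = 0 ↔ val (e F k) (thz m t) = 0 := by
  obtain ⟨c, hc, hgc⟩ := hL m hm
  obtain ⟨c', hc', hgc'⟩ := hL t ht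
  have h1 : c * (c' * val (im g k) (thz m t)) = val (e F k) (thz m t) := by
    rw [← f_ee (hL27 m hm) (hL27 t ht), ← f_ee (hL27 m hm) (hL27 t ht)]
    rw [← f_pres hF hg (e F m) (e F k) (e F t), hgc, hgc', f, f, fL_smul1, fL_smul3]; rfl
  rw [← h1]
  constructor
  · intro h; rw [h]; ring
  · intro h
    exact ((mul_eq_zero.1 ((mul_eq_zero.1 h).resolve_left hc)).resolve_left hc')

theorem bad_zero {k s : ℕ} (hk : k < 27) (hs : s < 27) (h : bad L k s = true) : im g k (dec s) = 0 := by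
  unfold bad at h
  simp only [List.any_eq_true, Bool.and_eq_true, bne_iff_ne, beq_iff_eq, Bool.or_eq_true,
    List.contains_eq_mem, decide_eq_true_eq] at h
  obtain ⟨m, hm, h1, h2, h3⟩ := h
  have ht : ix (thz m s) < 27 := ix_thz (hL27 m hm) hs
  rw [← h2]
  rw [← val_idx h1]
  rcases h3 with h3 | ⟨h3, h4⟩
  · exact val_bad1 hF hg hL hL27 hm ht hk h3
  · rw [val_bad2 hF hg hL hL27 hm h4]
    apply val_eq
    rw [h2]
    exact e_self hk hs h3

end

/-! ### root elements -/

variable (F) in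
/-- the group generated by the root elements -/
def Rg : Subgroup (GL I27 F) := Subgroup.closure {g | ∃ r, ∃ t : F, g = X F r t}

theorem X_memR (r : ℕ) (t : F) : X F r t ∈ Rg F := Subgroup.subset_closure ⟨r, t, rfl⟩

theorem Rg_le : Rg F ≤ E6univ F := by
  unfold Rg
  rw [Subgroup.closure_le]
  rintro _ ⟨r, t, rfl⟩
  exact X_mem r t

/-- the situation of the reduction: `g'` is reached from `g`. -/
structure St (g : GL I27 F) (L : List ℕ) (g' : GL I27 F) : Prop where
  re : ∃ p ∈ Rg F, g' = p * g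
  fx : Fixes g' L

theorem okr_lt {L : List ℕ} {r : ℕ} (h : okr L r = true) : r < 72 := by
  unfold okr at h
  rw [Bool.and_eq_true, Nat.blt_eq] at h
  exact h.1

theorem okr_fix {L : List ℕ} (hL27 : ∀ m ∈ L, m < 27) {r : ℕ} (h : okr L r = true) (t : F) {m : ℕ} (hm : m ∈ L) :
    (X F r t : Matrix I27 I27 F) *ᵥ e F m = e F m := by
  unfold okr at h
  simp only [Bool.and_eq_true, Nat.blt_eq, List.all_eq_true, beq_iff_eq] at h
  rw [X_mulVec]
  unfold e
  rw [Em_single h.1, cod_dec m (hL27 m hm), h.2 m hm, bas_zero, smul_zero, add_zero]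

theorem St.step {g g' : GL I27 F} {L : List ℕ} (hL27 : ∀ m ∈ L, m < 27) (hs : St g L g') {r : ℕ}
    (h : okr L r = true) (t : F) : St g L (X F r t * g') := by
  refine ⟨?_, ?_⟩
  · obtain ⟨p, hp, rfl⟩ := hs.re
    exact ⟨X F r t * p, mul_mem (X_memR r t) hp, by rw [mul_assoc]⟩
  · intro m hm
    obtain ⟨c, hc, h1⟩ := hs.fx m hm
    refine ⟨c, hc, ?_⟩
    rw [Units.val_mul, ← Matrix.mulVec_mulVec, h1, Matrix.mulVec_smul, okr_fix hL27 h t hm]

theorem im_X {g : GL I27 F} {r k a : ℕ} (hr : r < 72) (ha : a < 27) (t : F) :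
    im (X F r t * g) k (dec a) = im g k (dec a) + t * val (im g k) (en (chevE6.neg r) a) := by
  unfold im
  rw [Units.val_mul, ← Matrix.mulVec_mulVec, X_mulVec, Pi.add_apply, Pi.smul_apply, Em_dec hr _ ha, smul_eq_mul]

/-- moving a nonzero coordinate -/
theorem St.path {g : GL I27 F} {L : List ℕ} (hL27 : ∀ m ∈ L, m < 27) {k c : ℕ} (hc : c < 27) (P : List ℕ) :
    ∀ {g' : GL I27 F} {s : ℕ}, St g L g' → im g' k (dec s) ≠ 0 → pathOk L c s P = true →
      ∃ g'', St g L g'' ∧ im g'' k (dec c) ≠ 0 := by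
  induction P with
  | nil =>
    intro g' s hs h1 h2
    have h3 : s = c := by
      have : (s == c) = true := h2
      simpa using this
    exact ⟨g', hs, h3 ▸ h1⟩
  | cons r rs ih =>
    intro g' s hs h1 h2
    have h3 : (okr L r && ((en (chevE6.neg r) (ix (en r s)) != 0) &&
      ((ix (en (chevE6.neg r) (ix (en r s))) == s) && (Nat.blt (ix (en r s)) 27 && pathOk L c (ix (en r s)) rs)))) =
        true := h2
    simp only [Bool.and_eq_true, bne_iff_ne, beq_iff_eq, Nat.blt_eq] at h3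
    obtain ⟨h4, h5, h6, h7, h8⟩ := h3
    by_cases h9 : im g' k (dec (ix (en r s))) = 0
    · refine ih (hs.step hL27 h4 1) ?_ h8
      rw [im_X (okr_lt h4) h7, h9, zero_add, one_mul, val_ne]
      exact ⟨h5, by rw [h6]; exact h1⟩
    · exact ih hs h9 h8

theorem St.src {g : GL I27 F} {L : List ℕ} (hL27 : ∀ m ∈ L, m < 27) {k c : ℕ} (hc : c < 27) {P : List (ℕ × List ℕ)}
    {g' : GL I27 F} {s : ℕ} (hs : St g L g') (h1 : im g' k (dec s) ≠ 0) (h2 : srcOk L c P s = true) :
      ∃ g'', St g L g'' ∧ im g'' k (dec c) ≠ 0 := by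
  unfold srcOk at h2
  simp only [List.any_eq_true, Bool.and_eq_true, beq_iff_eq] at h2
  obtain ⟨p, -, -, h3⟩ := h2
  exact St.path hL27 hc p.2 hs h1 h3

theorem exists_basis_ne (u v w : I27 → F) (h : f u v w ≠ 0) : ∃ t < 27, f u v (e F t) ≠ 0 := by
  by_contra hc
  push Not at hc
  apply h
  let l : (I27 → F) →ₗ[F] F :=
    { toFun := fun w => f u v w
      map_add' := fun a b => fL_add3 mono u v a b
      map_smul' := fun c a => fL_smul3 mono u v a c }
  have hl : l = 0 := by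
    apply LinearMap.pi_ext'
    intro i
    apply LinearMap.ext_ring
    show f u v (Pi.single i 1) = 0
    have := hc (cod i) (cod_lt i)
    unfold e at this
    rwa [dec_cod] at this
  exact congrArg (fun l : (I27 → F) →ₗ[F] F => l w) hl

section

variable (hF : ∃ t : F, t ≠ 0 ∧ t ≠ 1) {g : GL I27 F} (hg : g ∈ E6univ F) {L : List ℕ} (hL : Fixes g L)
  (hL27 : ∀ m ∈ L, m < 27)
include hF hg hL hL27

theorem start_sound {S : Stg} (hk : S.k < 27) (hkL : S.k ∉ L)
    (hA : ∀ s < 27, s ∉ S.A → bad L S.k s = true) (h : start L S = true) :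
    ∃ g', St g L g' ∧ im g' S.k (dec S.k) ≠ 0 := by
  have h0 : St g L g := ⟨⟨1, one_mem _, by rw [one_mul]⟩, hL⟩
  unfold start at h
  split at h
  · -- mode N
    have h1 : ∃ s < 27, s ∉ L ∧ im g S.k (dec s) ≠ 0 := by
      by_contra hc
      push Not at hc
      classical
      -- the image is supported on `L`
      have hcc : ∀ m : ℕ, ∃ c : F, m ∈ L → (g : Matrix I27 I27 F) *ᵥ (c • e F m) = e F m := by
        intro m
        by_cases hm : m ∈ L
        · obtain ⟨c, hc0, h2⟩ := hL m hm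
          refine ⟨c⁻¹, fun _ => ?_⟩
          rw [Matrix.mulVec_smul, h2, smul_smul, inv_mul_cancel₀ hc0, one_smul]
        · exact ⟨0, fun h => absurd h hm⟩
      choose d hd using hcc
      have h3 : im g S.k = (g : Matrix I27 I27 F) *ᵥ
          (∑ i : I27, if cod i ∈ L then im g S.k i • (d (cod i) • e F (cod i)) else 0) := by
        rw [Matrix.mulVec_sum]
        conv_lhs => rw [pi_eq_sum_univ' (im g S.k)]
        refine Finset.sum_congr rfl fun i _ => ?_
        by_cases hi : cod i ∈ L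
        · rw [if_pos hi, Matrix.mulVec_smul, hd _ hi]
          unfold e
          rw [dec_cod]
        · rw [if_neg hi, Matrix.mulVec_zero]
          have := hc (cod i) (cod_lt i) hi
          rw [dec_cod] at this
          rw [this, zero_smul]
      have h4 := mul_vec_inj g h3
      have h5 := congrFun h4 (dec S.k)
      rw [e_ne, Finset.sum_apply] at h5
      apply one_ne_zero (α := F)
      rw [h5]
      apply Finset.sum_eq_zero
      intro i _
      split_ifs with hi
      · rw [Pi.smul_apply, Pi.smul_apply, e_self (cod_lt i) hk, smul_zero, smul_zero]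
        intro h6
        exact hkL (h6 ▸ hi)
      · rfl
    obtain ⟨s, hs, hsL, h2⟩ := h1
    simp only [List.all_eq_true, List.mem_range, Bool.or_eq_true, Bool.not_eq_true', List.contains_eq_mem,
      decide_eq_true_eq, decide_eq_false_iff_not] at h
    rcases h s hs with h3 | h3 | h3
    · exact absurd h3 hsL
    · exact absurd (bad_zero hF hg hL hL27 hk hs (hA s hs h3)) h2
    · exact St.src hL27 hk h0 h2 h3
  · -- mode F
    simp only [List.any_eq_true, Bool.and_eq_true, bne_iff_ne, beq_iff_eq, List.contains_eq_mem,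
      decide_eq_true_eq] at h
    obtain ⟨m, hm, h1, h2, h3⟩ := h
    refine ⟨g, h0, ?_⟩
    have h4 := val_bad2 hF hg hL hL27 (k := S.k) hm h3
    rw [val_idx h1, val_idx h1, h2, e_ne] at h4
    intro h5
    exact one_ne_zero (h4.1 h5)
  · -- mode M
    rename_i m _
    simp only [Bool.and_eq_true, bne_iff_ne, beq_iff_eq, List.all_eq_true, List.mem_range, Bool.or_eq_true,
      Bool.not_eq_true', List.contains_eq_mem, decide_eq_true_eq, decide_eq_false_iff_not] at h
    obtain ⟨hm, h1, h2, h3⟩ := h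
    obtain ⟨c, hc, hgc⟩ := hL m hm
    have ht : ix (thz m S.k) < 27 := ix_thz (hL27 m hm) hk
    have h4 : f (e F m) (im g S.k) ((g : Matrix I27 I27 F) *ᵥ e F (ix (thz m S.k))) ≠ 0 := by
      intro h5
      have h6 : c * f (e F m) (im g S.k) ((g : Matrix I27 I27 F) *ᵥ e F (ix (thz m S.k))) =
          f (e F m) (e F S.k) (e F (ix (thz m S.k))) := by
        rw [← f_pres hF hg (e F m) (e F S.k), hgc, f, f, fL_smul1]; rfl
      rw [h5, mul_zero, f_ee (hL27 m hm) ht] at h6
      have h7 := (val_idx h1).1 h6.symm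
      rw [h2, e_ne] at h7
      exact one_ne_zero h7
    obtain ⟨t, ht, h5⟩ := exists_basis_ne _ _ _ h4
    rw [f_ee (hL27 m hm) ht, val_ne] at h5
    have hs : ix (thz m t) < 27 := ix_thz (hL27 m hm) ht
    rcases h3 t ht with h6 | h6 | h6
    · exact absurd h6 h5.1
    · exact absurd (bad_zero hF hg hL hL27 hk hs (hA _ hs h6)) h5.2
    · exact St.src hL27 hk h0 h5.2 h6

end

theorem St.clear {g : GL I27 F} {L : List ℕ} (hL27 : ∀ m ∈ L, m < 27) {k : ℕ} (hk : k < 27) {C : List ℕ}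
    (hC : ∀ r ∈ C, okr L r = true ∧ en (chevE6.neg r) k = 0 ∧ en (chevE6.neg r) (ix (en r k)) ≠ 0 ∧
      ix (en (chevE6.neg r) (ix (en r k))) = k)
    (hCC : ∀ r ∈ C, ∀ r' ∈ C, r = r' ∨ en (chevE6.neg r) (ix (en r' k)) = 0) (C' : List ℕ) :
    (∀ r ∈ C', r ∈ C) → ∀ {g' : GL I27 F}, St g L g' → im g' k (dec k) ≠ 0 →
      ∃ g'', St g L g'' ∧ im g'' k (dec k) ≠ 0 ∧ ∀ r ∈ C', im g'' k (dec (ix (en r k))) = 0 := by
  induction C' with
  | nil =>
    intro _ g' hs h1
    exact ⟨g', hs, h1, by simp⟩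
  | cons r C' ih =>
    intro hsub g' hs h1
    obtain ⟨g'', hs'', h2, h3⟩ := ih (fun r hr => hsub r (List.mem_cons_of_mem _ hr)) hs h1
    have hr := hsub r List.mem_cons_self
    obtain ⟨c1, c2, c3, c4⟩ := hC r hr
    have hr72 := okr_lt c1
    have ha : ix (en r k) < 27 := ix_en hr72 hk
    have hw : val (im g'' k) (en (chevE6.neg r) (ix (en r k))) ≠ 0 := val_ne.2 ⟨c3, by rw [c4]; exact h2⟩
    refine ⟨X F r (-(im g'' k (dec (ix (en r k)))) / val (im g'' k) (en (chevE6.neg r) (ix (en r k)))) * g'',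
      hs''.step hL27 c1 _, ?_, ?_⟩
    · rw [im_X hr72 hk, c2, val_zero, mul_zero, add_zero]
      exact h2
    · have h4 : im (X F r (-(im g'' k (dec (ix (en r k)))) / val (im g'' k) (en (chevE6.neg r) (ix (en r k)))) * g'')
          k (dec (ix (en r k))) = 0 := by
        rw [im_X hr72 ha, div_mul_cancel₀ _ hw, add_neg_cancel]
      intro r' hr'
      rcases List.mem_cons.1 hr' with rfl | hr'
      · exact h4
      · rcases hCC r hr r' (hsub r' (List.mem_cons_of_mem _ hr')) with rfl | h5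
        · exact h4
        · rw [im_X hr72 (ix_en (okr_lt (hC r' (hsub r' (List.mem_cons_of_mem _ hr'))).1) hk), h5, val_zero,
            mul_zero, add_zero]
          exact h3 r' hr'

/-- the singularity condition -/
theorem sing_list {v : I27 → F} {k s : ℕ} (hv : ∀ a < 27, a ≠ k → thz k a = 0 → v (dec a) = 0)
    (M : List (ℕ × ℕ × ℤ)) (hM : ∀ p ∈ M, p.1 < 27 ∧ p.2.1 < 27) (h : (M.all fun p => isP k s p || isZ k p) = true) :
    psem2 v M = (cnt k s M : F) * (v (dec k) * v (dec s)) := by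
  induction M with
  | nil => simp [psem2, cnt]
  | cons p M ih =>
    rw [List.all_cons, Bool.and_eq_true] at h
    have ih' := ih (fun p hp => hM p (List.mem_cons_of_mem _ hp)) h.2
    unfold psem2 at ih' ⊢
    rw [List.map_cons, List.sum_cons, ih']
    have hc : cnt k s (p :: M) = (if isP k s p then p.2.2 else 0) + cnt k s M := rfl
    rw [hc]
    obtain ⟨hp1, hp2⟩ := hM p List.mem_cons_self
    by_cases h1 : isP k s p = true
    · rw [if_pos h1]
      have h2 : v (dec p.1) * v (dec p.2.1) = v (dec k) * v (dec s) := by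
        unfold isP at h1
        simp only [Bool.or_eq_true, Bool.and_eq_true, beq_iff_eq] at h1
        rcases h1 with ⟨h1, h2⟩ | ⟨h1, h2⟩
        · rw [h1, h2]
        · rw [h1, h2, mul_comm]
      rw [h2]; push_cast; ring
    · rw [if_neg h1]
      have h3 := h.1
      rw [Bool.or_eq_true] at h3
      have h4 := h3.resolve_left h1
      have h2 : v (dec p.1) * v (dec p.2.1) = 0 := by
        unfold isZ at h4
        simp only [Bool.or_eq_true, Bool.and_eq_true, beq_iff_eq, bne_iff_ne] at h4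
        rcases h4 with ⟨h1, h2⟩ | ⟨h1, h2⟩
        · rw [hv _ hp1 h1 h2, zero_mul]
        · rw [hv _ hp2 h1 h2, mul_zero]
      rw [h2]; push_cast; ring

theorem flatMap_lt (x : ℕ) (M : List (ℕ × ℕ × ℕ × ℤ)) (hM : valM M) :
    ∀ p ∈ M.flatMap (ctr2 x), p.1 < 27 ∧ p.2.1 < 27 := by
  intro p hp
  rw [List.mem_flatMap] at hp
  obtain ⟨m, hm, hp⟩ := hp
  have h1 := hM m hm
  unfold ctr2 at hp
  simp only [List.mem_append] at hp
  rcases hp with hp | hp | hp
  · split_ifs at hp
    · rw [List.mem_singleton.1 hp]; exact ⟨h1.1, h1.2.1⟩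
    · exact absurd hp (by simp)
  · split_ifs at hp
    · rw [List.mem_singleton.1 hp]; exact ⟨h1.1, h1.2.2⟩
    · exact absurd hp (by simp)
  · split_ifs at hp
    · rw [List.mem_singleton.1 hp]; exact ⟨h1.2.1, h1.2.2⟩
    · exact absurd hp (by simp)

theorem sing {v : I27 → F} {k s : ℕ} (hk : k < 27) (hs : s < 27) (hD : ∀ w, D v w = 0) (hvk : v (dec k) ≠ 0)
    (hv : ∀ a < 27, a ≠ k → thz k a = 0 → v (dec a) = 0) (hks : thz k s ≠ 0) : v (dec s) = 0 := by
  have h := tabSing
  simp only [List.all_eq_true, List.mem_range, Bool.or_eq_true, beq_iff_eq, Bool.and_eq_true] at h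
  rcases h k hk s hs with h1 | ⟨h1, h2⟩
  · exact absurd h1 hks
  · have h3 : ((mono.flatMap (ctr2 (ix (thz k s)))).all fun p => isP k s p || isZ k p) = true := by
      simp only [List.all_eq_true, Bool.or_eq_true]
      exact h1
    have h4 := sing_list hv _ (flatMap_lt _ mono valM_mono) h3
    have h5 := hD (e F (ix (thz k s)))
    rw [D, DL_e valM_mono (ix_thz hk hs), h4] at h5
    have h6 : ((cnt k s (mono.flatMap (ctr2 (ix (thz k s)))) : ℤ) : F) ≠ 0 := by
      rcases h2 with h2 | h2 <;> rw [h2] <;> simp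
    exact (mul_eq_zero.1 ((mul_eq_zero.1 h5).resolve_left h6)).resolve_left hvk

set_option maxRecDepth 100000 in
theorem tabDist : (mono.all fun m => (m.1 != m.2.1) && ((m.1 != m.2.2.1) && (m.2.1 != m.2.2.1))) = true := by
  decide +kernel

theorem D_e_left {k : ℕ} (hk : k < 27) (w : I27 → F) : D (e F k) w = 0 := by
  have h := tabDist
  simp only [List.all_eq_true, Bool.and_eq_true, bne_iff_ne] at h
  have key : ∀ a < 27, ∀ b < 27, a ≠ b → e F k (dec a) * e F k (dec b) = 0 := by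
    intro a ha b hb hab
    by_cases h1 : a = k
    · rw [e_self hk hb (fun h2 => hab (h1.trans h2.symm)), mul_zero]
    · rw [e_self hk ha h1, zero_mul]
  unfold D DL
  apply List.sum_eq_zero
  intro y hy
  rw [List.mem_map] at hy
  obtain ⟨m, hm, rfl⟩ := hy
  have hv := valM_mono m hm
  obtain ⟨h1, h2, h3⟩ := h m hm
  have k1 := key _ hv.1 _ hv.2.1 h1
  have k2 := key _ hv.1 _ hv.2.2 h2
  have k3 := key _ hv.2.1 _ hv.2.2 h3
  linear_combination (m.2.2.2 : F) * (w (dec m.2.2.1) * k1 + w (dec m.2.1) * k2 + w (dec m.1) * k3)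

section

variable (hF : ∃ t : F, t ≠ 0 ∧ t ≠ 1)
include hF

theorem stage_sound {g : GL I27 F} (hg : g ∈ E6univ F) {L : List ℕ} (hL : Fixes g L) (hL27 : ∀ m ∈ L, m < 27)
    {S : Stg} (h : stageOk L S = true) : ∃ g', (∃ p ∈ Rg F, g' = p * g) ∧ Fixes g' (S.k :: L) := by
  unfold stageOk at h
  rw [Bool.and_eq_true, Bool.and_eq_true, Bool.and_eq_true, Bool.and_eq_true, Bool.and_eq_true,
    Bool.and_eq_true] at h
  obtain ⟨h1, h2, h3, h4, h5, h6, h7⟩ := h
  rw [Nat.blt_eq] at h1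
  have h2' : S.k ∉ L := by simpa using h2
  have hA : ∀ s < 27, s ∉ S.A → bad L S.k s = true := by
    intro s hs hsA
    simp only [List.all_eq_true, List.mem_range, Bool.or_eq_true, List.contains_eq_mem, decide_eq_true_eq] at h3
    exact (h3 s hs).resolve_left hsA
  obtain ⟨g₁, hs₁, hk₁⟩ := start_sound hF hg hL hL27 h1 h2' hA h4
  simp only [List.all_eq_true, Bool.and_eq_true, beq_iff_eq, bne_iff_ne] at h5
  simp only [List.all_eq_true, Bool.or_eq_true, beq_iff_eq] at h6
  obtain ⟨g₂, hs₂, hk₂, hc₂⟩ := St.clear hL27 h1 h5 h6 S.C (fun _ h => h) hs₁ hk₁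
  obtain ⟨p, hp, he⟩ := hs₂.re
  have hg₂ : g₂ ∈ E6univ F := by rw [he]; exact mul_mem (Rg_le hp) hg
  refine ⟨g₂, hs₂.re, ?_⟩
  intro m hm
  rcases List.mem_cons.1 hm with rfl | hm
  swap
  · exact hs₂.fx m hm
  refine ⟨im g₂ S.k (dec S.k), hk₂, ?_⟩
  have hz : ∀ s < 27, s ≠ S.k → thz S.k s = 0 → im g₂ S.k (dec s) = 0 := by
    intro s hs h8 h9
    simp only [List.all_eq_true, List.mem_range, Bool.or_eq_true, Bool.not_eq_true', List.contains_eq_mem,
      decide_eq_false_iff_not, beq_iff_eq, bne_iff_ne, List.any_eq_true] at h7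
    rcases h7 s hs with h10 | h10 | h10 | ⟨r, hr, h10⟩
    · exact bad_zero hF hg₂ hs₂.fx hL27 h1 hs (hA s hs h10)
    · exact absurd h10 h8
    · exact absurd h9 h10
    · rw [← h10]; exact hc₂ r hr
  have hD : ∀ w, D (im g₂ S.k) w = 0 := by
    intro w
    have h8 := D_pres hF hg₂ (e F S.k) (((g₂⁻¹ : GL I27 F) : Matrix I27 I27 F) *ᵥ w)
    rw [mul_inv_vec] at h8
    show D ((g₂ : Matrix I27 I27 F) *ᵥ e F S.k) w = 0
    rw [h8]
    generalize ((g₂⁻¹ : GL I27 F) : Matrix I27 I27 F) *ᵥ w = w'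
    exact D_e_left h1 w'
  funext i
  show im g₂ S.k i = _
  rw [Pi.smul_apply, smul_eq_mul, ← dec_cod i]
  by_cases hi : cod i = S.k
  · rw [hi, e_ne, mul_one]
  · rw [e_self h1 (cod_lt i) hi, mul_zero]
    by_cases h8 : thz S.k (cod i) = 0
    · exact hz _ (cod_lt i) hi h8
    · exact sing h1 (cod_lt i) hD hk₂ hz h8

theorem run_sound (T : List Stg) : ∀ {L : List ℕ} {g : GL I27 F}, g ∈ E6univ F → Fixes g L → (∀ m ∈ L, m < 27) →
    runOk L T = true → ∃ g', (∃ p ∈ Rg F, g' = p * g) ∧ ∀ n < 27, ∃ c : F, c ≠ 0 ∧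
      (g' : Matrix I27 I27 F) *ᵥ e F n = c • e F n := by
  induction T with
  | nil =>
    intro L g hg hL hL27 h
    have h' : ((List.range 27).all fun s => L.contains s) = true := h
    simp only [List.all_eq_true, List.mem_range, List.contains_eq_mem, decide_eq_true_eq] at h'
    exact ⟨g, ⟨1, one_mem _, by rw [one_mul]⟩, fun n hn => hL n (h' n hn)⟩
  | cons S T ih =>
    intro L g hg hL hL27 h
    have h' : (stageOk L S && runOk (S.k :: L) T) = true := h
    rw [Bool.and_eq_true] at h'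
    obtain ⟨g₁, ⟨p, hp, he⟩, h1⟩ := stage_sound hF hg hL hL27 h'.1
    have hg₁ : g₁ ∈ E6univ F := by rw [he]; exact mul_mem (Rg_le hp) hg
    have hk : S.k < 27 := by
      have := h'.1
      unfold stageOk at this
      rw [Bool.and_eq_true, Nat.blt_eq] at this
      exact this.1
    obtain ⟨g₂, ⟨q, hq, he2⟩, h2⟩ := ih hg₁ h1 (by
      intro m hm
      rcases List.mem_cons.1 hm with rfl | hm
      · exact hk
      · exact hL27 m hm) h'.2
    exact ⟨g₂, ⟨q * p, mul_mem hq hp, by rw [he2, he, mul_assoc]⟩, h2⟩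

/-- every isometry becomes diagonal after multiplication by a product of root elements -/
theorem exists_diag {g : GL I27 F} (hg : g ∈ E6univ F) : ∃ g', (∃ p ∈ Rg F, g' = p * g) ∧
    ∀ n < 27, ∃ c : F, c ≠ 0 ∧ (g' : Matrix I27 I27 F) *ᵥ e F n = c • e F n :=
  run_sound hF stages hg (fun m hm => absurd hm (by simp)) (fun m hm => absurd hm (by simp)) tabRun

end

end Cfsg.Agent.Lib.E6Rep
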