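import Cfsg.Agent.Lib.E6Form
set_option autoImplicit false
set_option linter.unusedSectionVars false

/-!
Reduction of an isometry of the cubic form of type `E₆` to diagonal form by root elements (helper44).
-/

namespace Cfsg.Agent.Lib.E6Rep
open Cfsg.Lie
open scoped MatrixGroups Matrix

/-- index of an encoded vector -/
def ix (z : ℤ) : ℕ := z.natAbs - 1

/-- one step of the reduction -/
structure Stg where
  k : ℕ
  m : ℕ
  A : List ℕ
  C : List ℕ
  P : List (ℕ × List ℕ)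

def bad (L : List ℕ) (k s : ℕ) : Bool :=
  L.any fun m => (thz m (ix (thz m s)) != 0) && (ix (thz m (ix (thz m s))) == s &&
    (thz m k == 0 || (s != k && L.contains (ix (thz m s)))))

def okr (L : List ℕ) (r : ℕ) : Bool := Nat.blt r 72 && L.all fun m => en r m == 0

def pathOk (L : List ℕ) (k : ℕ) : ℕ → List ℕ → Bool
  | s, [] => s == k
  | s, r :: rs => okr L r && ((en (chevE6.neg r) (ix (en r s)) != 0) &&
      ((ix (en (chevE6.neg r) (ix (en r s))) == s) && (Nat.blt (ix (en r s)) 27 && pathOk L k (ix (en r s)) rs)))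

def srcOk (L : List ℕ) (k : ℕ) (P : List (ℕ × List ℕ)) (s : ℕ) : Bool :=
  P.any fun p => p.1 == s && pathOk L k s p.2

def start (L : List ℕ) (S : Stg) : Bool :=
  match S.m with
  | 0 => (List.range 27).all fun s => L.contains s || (!S.A.contains s || srcOk L S.k S.P s)
  | 1 => L.any fun m => (thz m (ix (thz m S.k)) != 0) && (ix (thz m (ix (thz m S.k))) == S.k &&
      L.contains (ix (thz m S.k)))
  | m + 2 => L.contains m && ((thz m (ix (thz m S.k)) != 0) && (ix (thz m (ix (thz m S.k))) == S.k &&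
      (List.range 27).all fun t => thz m t == 0 || (!S.A.contains (ix (thz m t)) ||
        srcOk L S.k S.P (ix (thz m t)))))

def stageOk (L : List ℕ) (S : Stg) : Bool :=
  Nat.blt S.k 27 && ((!L.contains S.k) &&
  (((List.range 27).all fun s => S.A.contains s || bad L S.k s) &&
  (start L S &&
  ((S.C.all fun r => okr L r && (en (chevE6.neg r) S.k == 0 && ((en (chevE6.neg r) (ix (en r S.k)) != 0) &&
    ix (en (chevE6.neg r) (ix (en r S.k))) == S.k))) &&
  ((S.C.all fun r => S.C.all fun r' => r == r' || en (chevE6.neg r) (ix (en r' S.k)) == 0) &&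
  ((List.range 27).all fun s => !S.A.contains s || (s == S.k || ((thz S.k s != 0) || S.C.any fun r =>
    ix (en r S.k) == s)))))))) 

def runOk : List ℕ → List Stg → Bool
  | L, [] => (List.range 27).all fun s => L.contains s
  | L, S :: T => stageOk L S && runOk (S.k :: L) T

/-- the steps of the reduction (machine generated) -/
def stages : List Stg :=
  [⟨0, 0, [0, 1, 2, 3, 4, 5, 6, 7, 8, 9, 10, 11, 12, 13, 14, 15, 16, 17, 18, 19, 20, 21, 22, 23, 24, 25, 26], [0, 1,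
    5, 6, 7, 16, 17, 18, 22, 23, 24, 30, 31, 32, 42, 57], [(0, []), (1, [65]), (2, [64]), (3, [55]), (4, [41, 71]),
    (5, [40, 71]), (6, [14]), (7, [14, 65]), (8, [14, 64]), (9, [39, 71]), (10, [29, 71]), (11, [29, 70]), (12,
    [53]), (13, [48]), (14, [40]), (15, [54]), (16, [49]), (17, [41]), (18, [14, 66]), (19, [29]), (20, [66]), (21,
    [14, 70]), (22, [39]), (23, [70]), (24, [14, 71]), (25, [47]), (26, [71])]⟩,
   ⟨1, 0, [0, 1, 2, 3, 6, 12, 13, 14, 15, 16, 17, 19, 20, 22, 23, 25, 26], [20, 27, 34, 36, 56, 58, 60, 61, 63, 65,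
    68], [(1, []), (2, [35]), (3, [10, 51]), (6, [3, 15]), (12, [8, 51]), (13, [3, 51]), (14, [3, 44]), (15, [15]),
    (16, [13]), (17, [10]), (19, [3]), (20, [37]), (22, [8]), (23, [44]), (25, [11]), (26, [51])]⟩,
   ⟨2, 0, [0, 1, 2, 15, 16, 17, 19, 20, 22, 23, 25, 26], [19, 26, 33, 35, 59, 62, 64, 67], [(2, []), (15, [9, 52]),
    (16, [4, 52]), (17, [4, 45]), (19, [4]), (20, [38]), (22, [9]), (23, [45]), (25, [12]), (26, [52])]⟩,
   ⟨19, 0, [0, 1, 2, 19, 20, 22, 23, 25, 26], [2, 3, 4, 21, 28, 29], [(19, []), (20, [69]), (22, [43]), (23, [43,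
    69]), (25, [50]), (26, [50, 69])]⟩,
   ⟨10, 2, [0, 1, 2, 10, 11, 19, 20, 22, 25], [46, 47, 48, 49, 66, 71], [(10, []), (11, [25])]⟩,
   ⟨21, 1, [0, 1, 2, 3, 4, 5, 6, 7, 8, 9, 10, 11, 12, 13, 14, 15, 16, 17, 18, 19, 20, 21, 22, 23, 24, 25, 26], [8,
    9, 10, 14, 15, 25, 39, 40, 41, 43, 44, 45, 53, 54, 55, 70], []⟩,
   ⟨13, 1, [1, 2, 13, 19, 20, 25], [11, 13, 37, 51], []⟩,
   ⟨16, 1, [2, 16, 19, 20, 25], [12, 38, 52], []⟩,
   ⟨26, 1, [19, 20, 25, 26], [50, 69], []⟩,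
   ⟨3, 0, [3], [], [(3, [])]⟩,
   ⟨7, 1, [7], [], []⟩,
   ⟨5, 1, [5], [], []⟩,
   ⟨6, 1, [6], [], []⟩,
   ⟨4, 1, [4], [], []⟩,
   ⟨8, 1, [8], [], []⟩,
   ⟨9, 1, [9], [], []⟩,
   ⟨11, 1, [11], [], []⟩,
   ⟨12, 1, [12], [], []⟩,
   ⟨14, 1, [14], [], []⟩,
   ⟨15, 1, [15], [], []⟩,
   ⟨17, 1, [17], [], []⟩,
   ⟨18, 1, [18], [], []⟩,
   ⟨20, 1, [20], [], []⟩,
   ⟨22, 1, [22], [], []⟩,
   ⟨23, 1, [23], [], []⟩,
   ⟨24, 1, [24], [], []⟩,
   ⟨25, 1, [25], [], []⟩]

set_option maxRecDepth 100000 in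
theorem tabRun : runOk [] stages = true := by decide +kernel

def isP (k s : ℕ) (p : ℕ × ℕ × ℤ) : Bool := (p.1 == k && p.2.1 == s) || (p.1 == s && p.2.1 == k)
def isZ (k : ℕ) (p : ℕ × ℕ × ℤ) : Bool := (p.1 != k && thz k p.1 == 0) || (p.2.1 != k && thz k p.2.1 == 0)
def cnt (k s : ℕ) : List (ℕ × ℕ × ℤ) → ℤ
  | [] => 0
  | p :: L => (if isP k s p then p.2.2 else 0) + cnt k s L

set_option maxRecDepth 100000 in
theorem tabSing : ((List.range 27).all fun k => (List.range 27).all fun s => thz k s == 0 ||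
    (((mono.flatMap (ctr2 (ix (thz k s)))).all fun p => isP k s p || isZ k p) &&
    (cnt k s (mono.flatMap (ctr2 (ix (thz k s)))) == 1 || cnt k s (mono.flatMap (ctr2 (ix (thz k s)))) == -1))) = true := by
  decide +kernel

end Cfsg.Agent.Lib.E6Rep
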