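import Cfsg.Agent.Lib.E6Hom
set_option autoImplicit false
set_option linter.unusedSectionVars false

/-!
The cubic form of type `E₆`: tables, polarisations, invariance under the root elements (helper44).
-/

namespace Cfsg.Agent.Lib.E6Rep
open Cfsg.Lie
open scoped MatrixGroups Matrix

/-- table of the third weight (machine generated) -/
def TH6 : ℕ := 0x13d00d97a400280009c0032bec000000000000033015580e26000940024000000032bec0000000005350376008c0022000840000000000032bec033500000019e80a400280009c0c6eac000000001303500003901b026000940024000000c6eac0000d150000006bb0008c0022000840000000000c6eac05b7039680000000a400280009f0b6a000000000d8061903b000000026000940024000030b6a000017e00e9b0000000008c0022000840000000030b6aa668c000000000000000aac0b4eec003a000e40000000a668c000000002a00c340bf8000dc0036000000000000a668c00002ec02e3c0d40034000cc002896200000000002a2c0000010c40ec003a000e4000002896200000a02c000030012038000dc0036000000000028962acc000000472000d40034000cc09e484000000000036e030440000000ec003a000e400009e4840000b403d0032000000038000dc00360000000009e484ebc0c52000000000d40034000cf2000c40030000ef8d40000000000000001880905bc002e000b40000000ef8d400000000210031009ac000ac002a000000000000ef8d400000a3025180032000c4003003adf4000000000021080000007a00bc002e000b4000003adf400000102300002700902c000ac002a00000000003adf4883000000229000032000c40030e76cc0000000000125027200000000bc002e000b40000e76cc000090018702900000002c000ac002a000000000e76cc5980a09000000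

def thn (x y : ℕ) : ℕ := (TH6 >>> (6 * (27 * x + y))) % 64

/-- the third weight of the monomial through `x`, `y` and its sign -/
def thz (x y : ℕ) : ℤ := if thn x y < 32 then (thn x y : ℤ) else -((thn x y - 32 : ℕ) : ℤ)

/-- the monomials of the cubic form -/
def mono : List (ℕ × ℕ × ℕ × ℤ) :=
  [(0, 4, 8, 1), (0, 5, 7, -1), (0, 9, 18, -1), (0, 10, 21, -1), (0, 11, 24, -1), (1, 3, 8, -1), (1, 5, 6, 1),
    (1, 12, 18, -1), (1, 13, 21, -1), (1, 14, 24, -1), (2, 3, 7, 1), (2, 4, 6, -1), (2, 15, 18, -1), (2, 16, 21,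
    -1), (2, 17, 24, -1), (3, 9, 19, -1), (3, 10, 22, -1), (3, 11, 25, -1), (4, 12, 19, -1), (4, 13, 22, -1), (4,
    14, 25, -1), (5, 15, 19, -1), (5, 16, 22, -1), (5, 17, 25, -1), (6, 9, 20, -1), (6, 10, 23, -1), (6, 11, 26,
    -1), (7, 12, 20, -1), (7, 13, 23, -1), (7, 14, 26, -1), (8, 15, 20, -1), (8, 16, 23, -1), (8, 17, 26, -1), (9,
    13, 17, 1), (9, 14, 16, -1), (10, 12, 17, -1), (10, 14, 15, 1), (11, 12, 16, 1), (11, 13, 15, -1), (18, 22,
    26, 1), (18, 23, 25, -1), (19, 21, 26, -1), (19, 23, 24, 1), (20, 21, 25, 1), (20, 22, 24, -1)]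

def decode : ℤ → List (ℕ × ℤ)
  | .ofNat 0 => []
  | .ofNat (n + 1) => [(n, 1)]
  | .negSucc n => [(n, -1)]

def ctr (x y : ℕ) (m : ℕ × ℕ × ℕ × ℤ) : List (ℕ × ℤ) :=
  (if m.1 == x && m.2.2.1 == y then [(m.2.1, m.2.2.2)] else []) ++
  ((if m.1 == x && m.2.1 == y then [(m.2.2.1, m.2.2.2)] else []) ++
  ((if m.2.1 == x && m.2.2.1 == y then [(m.1, m.2.2.2)] else []) ++
  ((if m.2.2.1 == x && m.2.1 == y then [(m.1, m.2.2.2)] else []) ++
  ((if m.2.1 == x && m.1 == y then [(m.2.2.1, m.2.2.2)] else []) ++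
  (if m.2.2.1 == x && m.1 == y then [(m.2.1, m.2.2.2)] else [])))))

def ctr2 (x : ℕ) (m : ℕ × ℕ × ℕ × ℤ) : List (ℕ × ℕ × ℤ) :=
  (if m.2.2.1 == x then [(m.1, m.2.1, m.2.2.2)] else []) ++
  ((if m.2.1 == x then [(m.1, m.2.2.1, m.2.2.2)] else []) ++
  (if m.1 == x then [(m.2.1, m.2.2.1, m.2.2.2)] else []))

set_option maxRecDepth 100000 in
theorem tabMono : (mono.all fun m => Nat.blt m.1 27 && (Nat.blt m.2.1 27 && Nat.blt m.2.2.1 27)) = true := by
  decide +kernel

set_option maxRecDepth 100000 in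
theorem tabTh : ((List.range 27).all fun x => (List.range 27).all fun y =>
    decide (mono.flatMap (ctr x y) = decode (thz x y))) = true := by decide +kernel

set_option maxRecDepth 100000 in
theorem tabOkTh : ((List.range 27).all fun x => (List.range 27).all fun y => ok (thz x y)) = true := by decide +kernel

/-- signed entry -/
def ez (z : ℤ) (n : ℕ) : ℤ :=
  match z with
  | .ofNat 0 => 0
  | .ofNat (m + 1) => if m == n then 1 else 0
  | .negSucc m => if m == n then -1 else 0

set_option maxRecDepth 100000 in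
theorem tabTr : ((List.range 72).all fun r => (List.range 27).all fun a => (List.range 27).all fun b =>
    ez (en r b) a == ez (en (chevE6.neg r) a) b) = true := by decide +kernel

def sort3 (a b c : ℕ) : ℕ × ℕ × ℕ :=
  if a ≤ b then (if b ≤ c then (a, b, c) else if a ≤ c then (a, c, b) else (c, a, b))
  else (if a ≤ c then (b, a, c) else if b ≤ c then (b, c, a) else (c, b, a))

def tm (a b : ℕ) (z : ℤ) (s : ℤ) : List ((ℕ × ℕ × ℕ) × ℤ) :=
  match z with
  | .ofNat 0 => []
  | .ofNat (m + 1) => [(sort3 a b m, s)]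
  | .negSucc m => [(sort3 a b m, -s)]

def insK (m : (ℕ × ℕ × ℕ) × ℤ) : List ((ℕ × ℕ × ℕ) × ℤ) → List ((ℕ × ℕ × ℕ) × ℤ)
  | [] => [m]
  | x :: L => if x.1 = m.1 then (x.1, x.2 + m.2) :: L else x :: insK m L

def dTerms (r : ℕ) : List ((ℕ × ℕ × ℕ) × ℤ) :=
  mono.flatMap fun m => tm m.1 m.2.1 (en (chevE6.neg r) m.2.2.1) m.2.2.2 ++
    (tm m.1 m.2.2.1 (en (chevE6.neg r) m.2.1) m.2.2.2 ++ tm m.2.1 m.2.2.1 (en (chevE6.neg r) m.1) m.2.2.2)

set_option maxRecDepth 100000 in
theorem tabInv : ((List.range 72).all fun r => ((dTerms r).foldr insK []).all fun x => x.2 == 0) = true := by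
  decide +kernel

set_option maxRecDepth 100000 in
theorem tabInv2 : ((List.range 72).all fun r => mono.all fun m =>
    (en (chevE6.neg r) m.1 == 0 && en (chevE6.neg r) m.2.1 == 0) ||
    ((en (chevE6.neg r) m.1 == 0 && en (chevE6.neg r) m.2.2.1 == 0) ||
    (en (chevE6.neg r) m.2.1 == 0 && en (chevE6.neg r) m.2.2.1 == 0))) = true := by
  decide +kernel

end Cfsg.Agent.Lib.E6Rep
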