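import Cfsg.Agent.Lib.E6Red
set_option autoImplicit false
set_option linter.unusedSectionVars false

/-!
The isometry group of the cubic form of type `E₆` is generated by the root elements (helper44).
-/

namespace Cfsg.Agent.Lib.E6Rep
open Cfsg.Lie
open scoped MatrixGroups Matrix

variable {F : Type*} [Field F]

set_option maxRecDepth 100000 in
theorem tabEN : ((List.range 72).all fun r => (List.range 27).all fun n =>
    (if en (chevE6.neg r) n == 0 then app r (en (chevE6.neg r) n) == 0 && app (chevE6.neg r) (en r n) ==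
      (if en r n == 0 then 0 else (n : ℤ) + 1) else en r n == 0 && app r (en (chevE6.neg r) n) == (n : ℤ) + 1)) = true := by
  decide +kernel

/-- exponent of the torus element on a weight -/
def xi (r n : ℕ) : ℤ := if en (chevE6.neg r) n == 0 then (if en r n == 0 then 0 else -1) else 1

variable (F) in
/-- torus element -/
def H (r : ℕ) (t : F) : GL I27 F := ((chevE6.hWord r t).map fun p => X F p.1 p.2).prod

theorem H_mem (r : ℕ) (t : F) : H F r t ∈ Rg F := by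
  unfold H
  apply list_prod_mem
  intro x hx
  rw [List.mem_map] at hx
  obtain ⟨p, -, rfl⟩ := hx
  exact X_memR _ _

theorem bas_succ (n : ℕ) : bas F ((n : ℤ) + 1) = e F n := rfl

theorem H_e {r : ℕ} (hr : r < 72) {n : ℕ} (hn : n < 27) {t : F} (ht : t ≠ 0) :
    (H F r t : Matrix I27 I27 F) *ᵥ e F n = t ^ (xi r n) • e F n := by
  have hN := neg_lt72 hr
  have h := tabEN
  simp only [List.all_eq_true, List.mem_range] at h
  have h1 := h r hr n hn
  have e1 : Em F (chevE6.neg r) *ᵥ e F n = bas F (en (chevE6.neg r) n) := by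
    unfold e; rw [Em_single hN, cod_dec n hn]
  have e2 : Em F r *ᵥ e F n = bas F (en r n) := by
    unfold e; rw [Em_single hr, cod_dec n hn]
  unfold H
  rw [hh_eq hr ht, Matrix.add_mulVec, Matrix.add_mulVec, Matrix.one_mulVec, Matrix.smul_mulVec, Matrix.smul_mulVec,
    ← Matrix.mulVec_mulVec, ← Matrix.mulVec_mulVec, e1, e2, Em_bas hr (ok_en hN hn), Em_bas hN (ok_en hr hn)]
  unfold xi
  split_ifs at h1 with h2 h3
  · simp only [Bool.and_eq_true, beq_iff_eq] at h1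
    rw [if_pos h2, if_pos h3, h1.1, h1.2, bas_zero, smul_zero, smul_zero, zpow_zero, one_smul, add_zero, add_zero]
  · simp only [Bool.and_eq_true, beq_iff_eq] at h1
    rw [if_pos h2, if_neg h3, h1.1, h1.2, bas_zero, smul_zero, bas_succ, zpow_neg_one]
    module
  · simp only [Bool.and_eq_true, beq_iff_eq] at h1
    rw [if_neg h2, h1.1, h1.2, zpow_one]
    have : app (chevE6.neg r) 0 = 0 := rfl
    rw [this, bas_zero, smul_zero, bas_succ]
    module

set_option maxRecDepth 100000 in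
theorem tabXi : ([0, 4, 1, 5, 9, 13].map fun n => [56, 46, 42, 39, 37, 36].map fun r => xi r n) =
    [[0, 0, -1, 1, 0, 0], [0, 0, 0, 0, 0, -1], [-1, 0, 0, 0, 1, -1], [0, 0, 0, 0, -1, 1], [0, 0, 0, -1, 1, 0],
      [0, -1, 0, 1, -1, 1]] := by decide +kernel

/-- torus element with prescribed eigenvalues on six weights -/
theorem exists_torus (c0 c1 c2 c3 c4 c5 : F) (h0 : c0 ≠ 0) (h1 : c1 ≠ 0) (h2 : c2 ≠ 0) (h3 : c3 ≠ 0) (h4 : c4 ≠ 0)
    (h5 : c5 ≠ 0) : ∃ h ∈ Rg F, (∀ n < 27, ∃ c : F, c ≠ 0 ∧ (h : Matrix I27 I27 F) *ᵥ e F n = c • e F n) ∧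
      (h : Matrix I27 I27 F) *ᵥ e F 0 = c0 • e F 0 ∧ (h : Matrix I27 I27 F) *ᵥ e F 4 = c1 • e F 4 ∧
      (h : Matrix I27 I27 F) *ᵥ e F 1 = c2 • e F 1 ∧ (h : Matrix I27 I27 F) *ᵥ e F 5 = c3 • e F 5 ∧
      (h : Matrix I27 I27 F) *ᵥ e F 9 = c4 • e F 9 ∧ (h : Matrix I27 I27 F) *ᵥ e F 13 = c5 • e F 13 := by
  have hh : ∀ (t0 t1 t2 t3 t4 t5 : F), t0 ≠ 0 → t1 ≠ 0 → t2 ≠ 0 → t3 ≠ 0 → t4 ≠ 0 → t5 ≠ 0 → ∀ n < 27,
      ((H F 56 t0 * (H F 46 t1 * (H F 42 t2 * (H F 39 t3 * (H F 37 t4 * H F 36 t5)))) : GL I27 F) :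
        Matrix I27 I27 F) *ᵥ e F n = (t5 ^ (xi 36 n) * (t4 ^ (xi 37 n) * (t3 ^ (xi 39 n) * (t2 ^ (xi 42 n) *
          (t1 ^ (xi 46 n) * t0 ^ (xi 56 n)))))) • e F n := by
    intro t0 t1 t2 t3 t4 t5 h0 h1 h2 h3 h4 h5 n hn
    have e5 := H_e (F := F) (r := 36) (by norm_num) hn h5
    have e4 := H_e (F := F) (r := 37) (by norm_num) hn h4
    have e3 := H_e (F := F) (r := 39) (by norm_num) hn h3
    have e2 := H_e (F := F) (r := 42) (by norm_num) hn h2
    have e1 := H_e (F := F) (r := 46) (by norm_num) hn h1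
    have e0 := H_e (F := F) (r := 56) (by norm_num) hn h0
    simp only [Units.val_mul, ← Matrix.mulVec_mulVec, e0, e1, e2, e3, e4, e5, Matrix.mulVec_smul, smul_smul]
    congr 1
    ring
  have hx := tabXi
  simp only [List.map_cons, List.map_nil, List.cons.injEq, and_true] at hx
  obtain ⟨⟨a00, a01, a02, a03, a04, a05⟩, ⟨a10, a11, a12, a13, a14, a15⟩, ⟨a20, a21, a22, a23, a24, a25⟩,
    ⟨a30, a31, a32, a33, a34, a35⟩, ⟨a40, a41, a42, a43, a44, a45⟩, ⟨a50, a51, a52, a53, a54, a55⟩⟩ := hx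
  have k0 : (c2 * c3)⁻¹ ≠ 0 := inv_ne_zero (mul_ne_zero h2 h3)
  have k1 : (c1 * c4 * c5)⁻¹ ≠ 0 := inv_ne_zero (mul_ne_zero (mul_ne_zero h1 h4) h5)
  have k2 : (c0 * c1 * c3 * c4)⁻¹ ≠ 0 := inv_ne_zero (mul_ne_zero (mul_ne_zero (mul_ne_zero h0 h1) h3) h4)
  have k3 : (c1 * c3 * c4)⁻¹ ≠ 0 := inv_ne_zero (mul_ne_zero (mul_ne_zero h1 h3) h4)
  have k4 : (c1 * c3)⁻¹ ≠ 0 := inv_ne_zero (mul_ne_zero h1 h3)
  have k5 : c1⁻¹ ≠ 0 := inv_ne_zero h1
  have key := hh _ _ _ _ _ _ k0 k1 k2 k3 k4 k5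
  refine ⟨_, mul_mem (H_mem 56 _) (mul_mem (H_mem 46 _) (mul_mem (H_mem 42 _) (mul_mem (H_mem 39 _)
    (mul_mem (H_mem 37 _) (H_mem 36 _))))), fun n hn => ⟨_, ?_, key n hn⟩, ?_, ?_, ?_, ?_, ?_, ?_⟩
  · exact mul_ne_zero (zpow_ne_zero _ k5) (mul_ne_zero (zpow_ne_zero _ k4) (mul_ne_zero (zpow_ne_zero _ k3)
      (mul_ne_zero (zpow_ne_zero _ k2) (mul_ne_zero (zpow_ne_zero _ k1) (zpow_ne_zero _ k0)))))
  · rw [key 0 (by norm_num), a00, a01, a02, a03, a04, a05]
    congr 1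
    simp only [zpow_zero, zpow_one, zpow_neg_one]
    field_simp
  · rw [key 4 (by norm_num), a10, a11, a12, a13, a14, a15]
    congr 1
    simp only [zpow_zero, zpow_one, zpow_neg_one]
    field_simp
  · rw [key 1 (by norm_num), a20, a21, a22, a23, a24, a25]
    congr 1
    simp only [zpow_zero, zpow_one, zpow_neg_one]
    field_simp
  · rw [key 5 (by norm_num), a30, a31, a32, a33, a34, a35]
    congr 1
    simp only [zpow_zero, zpow_one, zpow_neg_one]
    field_simp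
  · rw [key 9 (by norm_num), a40, a41, a42, a43, a44, a45]
    congr 1
    simp only [zpow_zero, zpow_one, zpow_neg_one]
    field_simp
  · rw [key 13 (by norm_num), a50, a51, a52, a53, a54, a55]
    congr 1
    simp only [zpow_zero, zpow_one, zpow_neg_one]
    field_simp

/-- propagation along the monomials -/
def prOk : List ℕ → List (ℕ × ℕ × ℕ) → Bool
  | L, [] => (List.range 27).all fun s => L.contains s
  | L, p :: T => (L.contains p.1 && (L.contains p.2.1 && (Nat.blt p.2.2 27 && ((thz p.1 p.2.1 != 0) &&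
      ix (thz p.1 p.2.1) == p.2.2)))) && prOk (p.2.2 :: L) T

theorem tabPr : prOk [0, 4, 1, 5, 9, 13] [(0, 4, 8), (0, 5, 7), (0, 9, 18), (4, 13, 22), (1, 5, 6), (4, 6, 2), (1, 13, 21), (0, 21, 10), (1, 8, 3), (1, 18, 12), (4, 12, 19), (5, 22, 16), (5, 19, 15), (9, 13, 17), (5, 17, 25), (4, 25, 14), (1, 14, 24), (0, 24, 11), (9, 6, 20), (13, 7, 23), (8, 17, 26)] = true := by decide +kernel

section

variable (hF : ∃ t : F, t ≠ 0 ∧ t ≠ 1)
include hF

theorem pr_sound {g : GL I27 F} (hg : g ∈ E6univ F) (hd : ∀ n < 27, ∃ c : F, c ≠ 0 ∧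
      (g : Matrix I27 I27 F) *ᵥ e F n = c • e F n) (T : List (ℕ × ℕ × ℕ)) :
    ∀ {L : List ℕ}, (∀ m ∈ L, m < 27 ∧ (g : Matrix I27 I27 F) *ᵥ e F m = e F m) → prOk L T = true →
      ∀ n < 27, (g : Matrix I27 I27 F) *ᵥ e F n = e F n := by
  induction T with
  | nil =>
    intro L hL h n hn
    have h' : ((List.range 27).all fun s => L.contains s) = true := h
    simp only [List.all_eq_true, List.mem_range, List.contains_eq_mem, decide_eq_true_eq] at h'
    exact (hL n (h' n hn)).2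
  | cons p T ih =>
    intro L hL h
    have h' : ((L.contains p.1 && (L.contains p.2.1 && (Nat.blt p.2.2 27 && ((thz p.1 p.2.1 != 0) &&
      ix (thz p.1 p.2.1) == p.2.2)))) && prOk (p.2.2 :: L) T) = true := h
    simp only [Bool.and_eq_true, List.contains_eq_mem, decide_eq_true_eq, Nat.blt_eq, bne_iff_ne, beq_iff_eq] at h'
    obtain ⟨⟨h1, h2, h3, h4, h5⟩, h6⟩ := h'
    refine ih ?_ h6
    intro m hm
    rcases List.mem_cons.1 hm with rfl | hm
    swap
    · exact hL m hm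
    refine ⟨h3, ?_⟩
    obtain ⟨c, hc, hgc⟩ := hd p.2.2 h3
    obtain ⟨ha, ga⟩ := hL _ h1
    obtain ⟨hb, gb⟩ := hL _ h2
    have h7 := f_pres hF hg (e F p.1) (e F p.2.2) (e F p.2.1)
    rw [ga, gb, hgc, f, fL_smul2] at h7
    have h8 : f (e F p.1) (e F p.2.2) (e F p.2.1) ≠ 0 := by
      rw [f_ee ha hb, val_ne]
      refine ⟨h4, ?_⟩
      rw [h5, e_ne]
      exact one_ne_zero
    have h9 : c = 1 := by
      apply mul_right_cancel₀ h8
      rw [one_mul]; exact h7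
    rw [hgc, h9, one_smul]

/-- the isometry group of the cubic form is generated by the root elements -/
theorem E6univ_le : E6univ F ≤ Rg F := by
  intro g hg
  obtain ⟨g', ⟨p, hp, he⟩, hd⟩ := exists_diag hF hg
  have hg' : g' ∈ E6univ F := by rw [he]; exact mul_mem (Rg_le hp) hg
  obtain ⟨c0, h0, g0⟩ := hd 0 (by norm_num)
  obtain ⟨c1, h1, g1⟩ := hd 4 (by norm_num)
  obtain ⟨c2, h2, g2⟩ := hd 1 (by norm_num)
  obtain ⟨c3, h3, g3⟩ := hd 5 (by norm_num)
  obtain ⟨c4, h4, g4⟩ := hd 9 (by norm_num)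
  obtain ⟨c5, h5, g5⟩ := hd 13 (by norm_num)
  obtain ⟨h, hh, hhd, k0, k1, k2, k3, k4, k5⟩ := exists_torus c0 c1 c2 c3 c4 c5 h0 h1 h2 h3 h4 h5
  have hinv : ∀ n (c : F), c ≠ 0 → (h : Matrix I27 I27 F) *ᵥ e F n = c • e F n →
      ((h⁻¹ : GL I27 F) : Matrix I27 I27 F) *ᵥ e F n = c⁻¹ • e F n := by
    intro n c hc hn
    apply mul_vec_inj h
    rw [mul_inv_vec, Matrix.mulVec_smul, hn, smul_smul, inv_mul_cancel₀ hc, one_smul]
  have hu : ∀ n (c : F), c ≠ 0 → (h : Matrix I27 I27 F) *ᵥ e F n = c • e F n →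
      (g' : Matrix I27 I27 F) *ᵥ e F n = c • e F n →
      ((h⁻¹ * g' : GL I27 F) : Matrix I27 I27 F) *ᵥ e F n = e F n := by
    intro n c hc hn hn'
    rw [Units.val_mul, ← Matrix.mulVec_mulVec, hn', Matrix.mulVec_smul, hinv n c hc hn, smul_smul,
      mul_inv_cancel₀ hc, one_smul]
  have hall : ∀ n < 27, ((h⁻¹ * g' : GL I27 F) : Matrix I27 I27 F) *ᵥ e F n = e F n := by
    refine pr_sound hF (mul_mem (inv_mem (Rg_le hh)) hg') ?_ _ ?_ tabPr
    · intro n hn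
      obtain ⟨c, hc, h6⟩ := hd n hn
      obtain ⟨c', hc', h7⟩ := hhd n hn
      refine ⟨c * c'⁻¹, mul_ne_zero hc (inv_ne_zero hc'), ?_⟩
      rw [Units.val_mul, ← Matrix.mulVec_mulVec, h6, Matrix.mulVec_smul, hinv n c' hc' h7, smul_smul]
    · intro m hm
      simp only [List.mem_cons, List.not_mem_nil, or_false] at hm
      rcases hm with rfl | rfl | rfl | rfl | rfl | rfl
      · exact ⟨by norm_num, hu _ _ h0 k0 g0⟩
      · exact ⟨by norm_num, hu _ _ h1 k1 g1⟩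
      · exact ⟨by norm_num, hu _ _ h2 k2 g2⟩
      · exact ⟨by norm_num, hu _ _ h3 k3 g3⟩
      · exact ⟨by norm_num, hu _ _ h4 k4 g4⟩
      · exact ⟨by norm_num, hu _ _ h5 k5 g5⟩
  have h1' : h⁻¹ * g' = 1 := by
    apply Units.ext
    apply mat_ext
    intro j
    have := hall (cod j) (cod_lt j)
    unfold e at this
    rw [dec_cod] at this
    rw [this, Units.val_one, Matrix.one_mulVec]
  have h2' : g' = h := by rw [inv_mul_eq_one] at h1'; exact h1'.symm
  have h3' : g = p⁻¹ * g' := by rw [he]; group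
  rw [h3', h2']
  exact mul_mem (inv_mem hp) hh

theorem Rg_eq : Rg F = E6univ F := le_antisymm Rg_le (E6univ_le hF)

end

end Cfsg.Agent.Lib.E6Rep
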