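import Cfsg.Agent.Lib.E7No65A

set_option autoImplicit false
set_option maxRecDepth 1000000

/-!
# `E₇(2)` has no element of order 65: tables (helper36)
-/

namespace Cfsg.Agent.Lib.E7No65
open Cfsg.Lie Cfsg.Agent.Lib.ChevX Cfsg.Agent.Lib.ChevGood Cfsg.Agent.Lib.ChevRel Cfsg.Agent.Lib.ChevNPerm
  Cfsg.Agent.Lib.ChevPoinc Cfsg.Agent.Lib.ChevFix Cfsg.Agent.Lib.ChevHOrder Cfsg.Agent.Lib.ChevTab Cfsg.Agent.Lib.ChevSS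

/-- the roots modulo 13 -/
def r13 : List (List ℕ) := [[11, 11, 10, 9, 10, 11, 12], [12, 11, 10, 9, 10, 11, 12], [12, 11, 11, 9, 10, 11, 12], [12, 11, 11, 10, 10, 11, 12], [12, 11, 11, 10, 11, 11, 12], [12, 11, 11, 10, 11, 12, 12], [12, 11, 11, 10, 11, 12, 0], [12, 12, 11, 10, 10, 11, 12], [12, 12, 11, 10, 11, 11, 12], [12, 12, 11, 10, 11, 12, 12], [12, 12, 11, 10, 11, 12, 0], [12, 12, 11, 11, 11, 11, 12], [12, 12, 11, 11, 11, 12, 12], [12, 12, 11, 11, 11, 12, 0], [12, 12, 11, 11, 12, 12, 12], [12, 12, 11, 11, 12, 12, 0], [12, 12, 11, 11, 12, 0, 0], [12, 12, 12, 11, 11, 11, 12], [12, 12, 12, 11, 11, 12, 12], [12, 12, 12, 11, 11, 12, 0], [12, 12, 12, 11, 12, 12, 12], [12, 12, 12, 11, 12, 12, 0], [12, 12, 12, 11, 12, 0, 0], [12, 12, 12, 12, 12, 12, 12], [12, 12, 12, 12, 12, 12, 0],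 [12, 12, 12, 12, 12, 0, 0], [12, 12, 12, 12, 0, 0, 0], [12, 0, 12, 12, 12, 12, 12], [12, 0, 12, 12, 12, 12, 0], [12, 0, 12, 12, 12, 0, 0], [12, 0, 12, 12, 0, 0, 0], [12, 0, 12, 0, 0, 0, 0], [12, 0, 0, 0, 0, 0, 0], [0, 12, 12, 11, 11, 11, 12], [0, 12, 12, 11, 11, 12, 12], [0, 12, 12, 11, 11, 12, 0], [0, 12, 12, 11, 12, 12, 12], [0, 12, 12, 11, 12, 12, 0], [0, 12, 12, 11, 12, 0, 0], [0, 12, 12, 12, 12, 12, 12], [0, 12, 12, 12, 12, 12, 0], [0, 12, 12, 12, 12, 0, 0], [0, 12, 12, 12, 0, 0, 0], [0, 12, 0, 12, 12, 12, 12], [0, 12, 0, 12, 12, 12, 0], [0, 12, 0, 12, 12, 0, 0], [0, 12, 0, 12, 0, 0, 0], [0, 12, 0, 0, 0, 0, 0], [0, 0, 12, 12, 12, 12, 12], [0, 0, 12, 12, 12, 12, 0], [0, 0, 12, 12, 12, 0, 0], [0, 0, 12, 12, 0, 0, 0], [0, 0, 12, 0, 0, 0, 0], [0, 0, 0, 12, 12, 12, 12], [0, 0, 0,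 12, 12, 12, 0], [0, 0, 0, 12, 12, 0, 0], [0, 0, 0, 12, 0, 0, 0], [0, 0, 0, 0, 12, 12, 12], [0, 0, 0, 0, 12, 12, 0], [0, 0, 0, 0, 12, 0, 0], [0, 0, 0, 0, 0, 12, 12], [0, 0, 0, 0, 0, 12, 0], [0, 0, 0, 0, 0, 0, 12], [0, 0, 0, 0, 0, 0, 1], [0, 0, 0, 0, 0, 1, 0], [0, 0, 0, 0, 0, 1, 1], [0, 0, 0, 0, 1, 0, 0], [0, 0, 0, 0, 1, 1, 0], [0, 0, 0, 0, 1, 1, 1], [0, 0, 0, 1, 0, 0, 0], [0, 0, 0, 1, 1, 0, 0], [0, 0, 0, 1, 1, 1, 0], [0, 0, 0, 1, 1, 1, 1], [0, 0, 1, 0, 0, 0, 0], [0, 0, 1, 1, 0, 0, 0], [0, 0, 1, 1, 1, 0, 0], [0, 0, 1, 1, 1, 1, 0], [0, 0, 1, 1, 1, 1, 1], [0, 1, 0, 0, 0, 0, 0], [0, 1, 0, 1, 0, 0, 0], [0, 1, 0, 1, 1, 0, 0], [0, 1, 0, 1, 1, 1, 0], [0, 1, 0, 1, 1, 1, 1], [0, 1, 1, 1, 0, 0, 0], [0, 1, 1, 1, 1, 0, 0], [0, 1, 1, 1, 1, 1, 0], [0, 1, 1, 1, 1, 1, 1], [0, 1, 1, 2, 1, 0, 0], [0,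 1, 1, 2, 1, 1, 0], [0, 1, 1, 2, 1, 1, 1], [0, 1, 1, 2, 2, 1, 0], [0, 1, 1, 2, 2, 1, 1], [0, 1, 1, 2, 2, 2, 1], [1, 0, 0, 0, 0, 0, 0], [1, 0, 1, 0, 0, 0, 0], [1, 0, 1, 1, 0, 0, 0], [1, 0, 1, 1, 1, 0, 0], [1, 0, 1, 1, 1, 1, 0], [1, 0, 1, 1, 1, 1, 1], [1, 1, 1, 1, 0, 0, 0], [1, 1, 1, 1, 1, 0, 0], [1, 1, 1, 1, 1, 1, 0], [1, 1, 1, 1, 1, 1, 1], [1, 1, 1, 2, 1, 0, 0], [1, 1, 1, 2, 1, 1, 0], [1, 1, 1, 2, 1, 1, 1], [1, 1, 1, 2, 2, 1, 0], [1, 1, 1, 2, 2, 1, 1], [1, 1, 1, 2, 2, 2, 1], [1, 1, 2, 2, 1, 0, 0], [1, 1, 2, 2, 1, 1, 0], [1, 1, 2, 2, 1, 1, 1], [1, 1, 2, 2, 2, 1, 0], [1, 1, 2, 2, 2, 1, 1], [1, 1, 2, 2, 2, 2, 1], [1, 1, 2, 3, 2, 1, 0], [1, 1, 2, 3, 2, 1, 1], [1, 1, 2, 3, 2, 2, 1], [1, 1, 2, 3, 3, 2, 1], [1, 2, 2, 3, 2, 1, 0], [1, 2, 2, 3, 2, 1, 1], [1, 2, 2, 3, 2, 2, 1], [1, 2, 2, 3,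 3, 2, 1], [1, 2, 2, 4, 3, 2, 1], [1, 2, 3, 4, 3, 2, 1], [2, 2, 3, 4, 3, 2, 1]]

theorem r13_ok : ∀ s < 126, ∀ k < 7, (rvT ChevDataE7.A s k - ((r13.getD s []).getD k 0 : ℤ)) % 13 = 0 := by decide +kernel

theorem r13_map : r13 = (List.finRange 126).map (fun s : Fin 126 => r13.getD s []) := by decide +kernel

/-- the scalar product -/
def dotN : List ℕ → List ℕ → ℕ
  | a :: l, b :: m => a * b + dotN l m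
  | _, _ => 0

/-- tuples with bounded scalar product with `a` -/
def tup : List ℕ → ℕ → List (List ℕ)
  | [], _ => [[]]
  | a :: l, n => (List.range (n + 1)).flatMap fun k => if a * k ≤ n then (tup l (n - a * k)).map (fun t => k :: t) else []

/-- power sums -/
def ps (m : List ℕ) (e : ℕ) : ℕ := (r13.map (fun r => (dotN r m) ^ e)).sum % 13

/-- the check -/
def chk (m : List ℕ) : Bool :=
  ((m.getD 1 0 + m.getD 4 0 + m.getD 6 0) % 2 != 0) || ((ps m 2 != 0) || ((ps m 4 != 0) || ((ps m 6 != 0) || ((ps m 8 != 0) ||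
    ((ps m 10 != 0) || (decide (m = [1, 0, 1, 1, 0, 1, 0]) || m.all (fun x => x % 13 == 0)))))))

theorem chk_ok : (tup [2, 2, 3, 4, 3, 2, 1] 13).all chk = true := by decide +kernel

/-- the images of the fundamental roots under `w₁` -/
def tt : List ℕ := [0, 63, 94, 71, 78, 74, 66]

/-- the word of `w₁` -/
def ww : List (Fin 7) := [3, 0, 2, 1, 3, 4, 5, 6, 3, 2, 1, 3, 4, 5, 0, 2, 3, 4, 1, 3, 2, 0]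

theorem tt_ok : ∀ k : Fin 7, ww.foldr (fun (i : Fin 7) (s : ℕ) => chevE7.reflectRoot (i : ℕ) s) (chevE7.simple k) = tt.getD k 0 := by decide +kernel

theorem tt_two : ∀ k : Fin 7, (∑ j : Fin 7, rvT ChevDataE7.A (tt.getD k 0) j * ((([1, 0, 1, 1, 0, 1, 0] : List ℕ).getD j 0 : ℕ) : ℤ) -
    2 * ((([1, 0, 1, 1, 0, 1, 0] : List ℕ).getD k 0 : ℕ) : ℤ)) % 13 = 0 := by decide +kernel

theorem zero_ok : ∀ s : Fin 126, (∑ j : Fin 7, rvT ChevDataE7.A s j * ((([1, 0, 1, 1, 0, 1, 0] : List ℕ).getD j 0 : ℕ) : ℤ)) % 13 = 0 →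
    (s : ℕ) = chevE7.simple 1 ∨ (s : ℕ) = chevE7.neg (chevE7.simple 1) ∨ (s : ℕ) = chevE7.simple 4 ∨
      (s : ℕ) = chevE7.neg (chevE7.simple 4) ∨ (s : ℕ) = chevE7.simple 6 ∨ (s : ℕ) = chevE7.neg (chevE7.simple 6) := by
  decide +kernel

theorem par_ok : ∀ i : Fin 7, (chevE7.cartan i (chevE7.simple 1) + chevE7.cartan i (chevE7.simple 4) +
    chevE7.cartan i (chevE7.simple 6)) % 2 = 0 := by decide +kernel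

theorem orth_ok : ∀ i ∈ ([1, 4, 6] : List (Fin 7)), ∀ j ∈ ([1, 4, 6] : List (Fin 7)),
    chevE7.cartan i (chevE7.simple j) = if i = j then 2 else 0 := by decide +kernel

theorem len_ok : ∀ i : Fin 7, ∑ s : Fin 126, chevE7.cartan i s * chevE7.cartan i s = 72 := by decide +kernel

theorem theta_ok : ∀ j : Fin 7, rvT ChevDataE7.A 125 j = ((([2, 2, 3, 4, 3, 2, 1] : List ℕ).getD j 0 : ℕ) : ℤ) := by decide +kernel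

/-- the matrices of the linear systems -/
def AA (a b c : Bool) (k j : Fin 7) : ℤ :=
  rvT ChevDataE7.A (tt.getD k 0) j - (if a = true ∧ j = 1 then chevE7.cartan 1 (tt.getD k 0) else 0) -
    (if b = true ∧ j = 4 then chevE7.cartan 4 (tt.getD k 0) else 0) -
    (if c = true ∧ j = 6 then chevE7.cartan 6 (tt.getD k 0) else 0) - (if k = j then 2 else 0)

/-- the inverse matrices modulo 5 -/
def BB (a b c : Bool) (i k : Fin 7) : ℤ :=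
  (((([[[3, 0, 3, 0, 1, 2, 1], [0, 3, 0, 0, 2, 0, 4], [3, 0, 2, 0, 1, 2, 1], [3, 3, 2, 3, 2, 1, 0], [0, 4, 0, 0, 3, 0, 2], [3, 4, 2, 4, 4, 1, 3], [0, 2, 0, 0, 4, 0, 3]], [[3, 0, 3, 0, 1, 2, 1], [0, 4, 0, 0, 1, 0, 2], [3, 0, 2, 0, 1, 2, 1], [3, 3, 2, 3, 2, 1, 0], [0, 3, 0, 0, 4, 0, 4], [3, 1, 2, 4, 2, 1, 4], [0, 4, 0, 0, 2, 0, 4]], [[3, 0, 3, 0, 1, 2, 1], [0, 4, 0, 0, 4, 0, 2], [3, 0, 2, 0, 1, 2, 1], [3, 1, 2, 3, 3, 1, 4], [0, 2, 0, 0, 4, 0, 1], [3, 4, 2, 4, 4, 1, 3], [0, 4, 0, 0, 3, 0, 4]], [[3, 0, 3, 0, 1, 2, 1], [0, 3, 0, 0, 3, 0, 4], [3, 0, 2, 0, 1, 2, 1], [3, 2, 2, 3, 4, 1, 2], [0, 1, 0, 0, 3, 0, 3], [3, 3, 2, 4, 3, 1, 0], [0, 2, 0, 0, 1, 0, 3]], [[3, 0, 3, 0, 1, 2, 1], [0, 4, 0, 0, 4, 0, 3], [3, 0, 2, 0, 1, 2, 1], [3, 1, 2, 3, 3, 1, 2], [0, 2, 0, 0, 4, 0, 4], [3, 3, 2, 4, 2,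 1, 4], [0, 1, 0, 0, 2, 0, 4]], [[3, 0, 3, 0, 1, 2, 1], [0, 3, 0, 0, 3, 0, 1], [3, 0, 2, 0, 1, 2, 1], [3, 2, 2, 3, 4, 1, 4], [0, 1, 0, 0, 3, 0, 2], [3, 0, 2, 4, 4, 1, 3], [0, 3, 0, 0, 4, 0, 3]], [[3, 0, 3, 0, 1, 2, 1], [0, 3, 0, 0, 2, 0, 1], [3, 0, 2, 0, 1, 2, 1], [3, 3, 2, 3, 2, 1, 1], [0, 4, 0, 0, 3, 0, 3], [3, 1, 2, 4, 3, 1, 0], [0, 3, 0, 0, 1, 0, 3]], [[3, 0, 3, 0, 1, 2, 1], [0, 4, 0, 0, 1, 0, 3], [3, 0, 2, 0, 1, 2, 1], [3, 3, 2, 3, 2, 1, 1], [0, 3, 0, 0, 4, 0, 1], [3, 0, 2, 4, 4, 1, 3], [0, 1, 0, 0, 3, 0, 4]]] : List (List (List ℤ))).getD ((if c then 4 else 0) + (if b then 2 else 0) + (if a then 1 else 0)) []).getD i []).getD k 0)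

theorem inv_ok : ∀ a b c : Bool, ∀ i j : Fin 7, (∑ k : Fin 7, BB a b c i k * AA a b c k j - (if i = j then 1 else 0)) % 5 = 0 := by
  decide +kernel

end Cfsg.Agent.Lib.E7No65
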