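import Cfsg.Agent.Lib.EPPO

set_option autoImplicit false

/-!
Nonsolvable groups in which every element has prime power order.
-/

namespace Cfsg.Agent.Lib.EPPO

open Subgroup Cfsg

universe u

theorem isSolvable_mulAut_of_cyclic {Q : Type u} [Group Q] (h : IsCyclic Q) : Group.IsSolvable (MulAut Q) := by
  apply Group.isSolvable_of_comm
  intro a b
  apply (IsCyclic.mulAutMulEquiv Q).injective
  rw [map_mul, map_mul, mul_comm]

theorem isSolvable_mulAut_of_rank {Q : Type u} [Group Q] [Finite Q] (hQ : IsPGroup 2 Q) (hr : Group.rank Q ≤ 2) :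
    Group.IsSolvable (MulAut Q) := by
  have : Fact (Nat.Prime 2) := ⟨Nat.prime_two⟩
  obtain ⟨s, hs, hsi⟩ := RankComp.index_frattini_le hQ hr
  obtain ⟨n, hn⟩ := IsPGroup.iff_card.1 hQ
  have h1 := Cfsg.Agent.S4208.result (P := Q) hn hsi
  have h2 : ∃ k : ℕ, Nat.card (MulAut Q) ∣ 2 ^ k * 3 ^ 1 := by
    have : s = 0 ∨ s = 1 ∨ s = 2 := by omega
    rcases this with rfl | rfl | rfl
    · refine ⟨0 * (n - 0), h1.trans ?_⟩
      simp
    · refine ⟨1 * (n - 1), h1.trans ?_⟩
      simp only [Finset.prod_range_one]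
      norm_num
    · refine ⟨2 * (n - 2) + 1, h1.trans ?_⟩
      simp only [Finset.prod_range_succ, Finset.prod_range_zero]
      norm_num
      rw [pow_succ]
      exact ⟨1, by ring⟩
  obtain ⟨k, hk⟩ := h2
  obtain ⟨⟨a, ha⟩, ⟨b, hb⟩, hab⟩ := (Nat.dvd_mul).1 hk |> fun ⟨a, b, ha, hb, hab⟩ =>
    (⟨⟨a, ha⟩, ⟨b, hb⟩, hab⟩ : ∃ (x : {a // a ∣ 2 ^ k}) (y : {b // b ∣ 3 ^ 1}), x.1 * y.1 = Nat.card (MulAut Q))
  obtain ⟨i, _, rfl⟩ := (Nat.dvd_prime_pow Nat.prime_two).1 ha
  obtain ⟨j, _, rfl⟩ := (Nat.dvd_prime_pow Nat.prime_three).1 hb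
  exact Cfsg.Agent.Lib.Burnside.isSolvable_of_card_eq _ 2 3 i j Nat.prime_two Nat.prime_three hab.symm rfl

theorem rank_quaternion_le {Q : Type u} [Group Q] [Finite Q] {n : ℕ} (e : Q ≃* QuaternionGroup (2 ^ n)) :
    Group.rank Q ≤ 2 := by
  rw [Group.rank_congr e]
  classical
  have h4 : closure (({QuaternionGroup.a 1, QuaternionGroup.xa 0} : Finset (QuaternionGroup (2 ^ n))) :
      Set (QuaternionGroup (2 ^ n))) = ⊤ := by
    rw [eq_top_iff]
    have ha : ∀ i : ZMod (2 * 2 ^ n), QuaternionGroup.a i ∈ closure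
        (({QuaternionGroup.a 1, QuaternionGroup.xa 0} : Finset (QuaternionGroup (2 ^ n))) :
        Set (QuaternionGroup (2 ^ n))) := by
      intro i
      have h5 : (QuaternionGroup.a 1 : QuaternionGroup (2 ^ n)) ^ i.val = QuaternionGroup.a i := by
        rw [QuaternionGroup.a_one_pow, ZMod.natCast_zmod_val]
      rw [← h5]
      exact pow_mem (subset_closure (by simp)) _
    rintro (i | i) _
    · exact ha i
    · have h5 : (QuaternionGroup.xa i : QuaternionGroup (2 ^ n)) = QuaternionGroup.xa 0 * QuaternionGroup.a i := by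
        rw [QuaternionGroup.xa_mul_a, zero_add]
      rw [h5]
      exact mul_mem (subset_closure (by simp)) (ha i)
  exact (Group.rank_le h4).trans Finset.card_le_two

/-- centralizers of elements of order `q` are `q`-groups -/
theorem isPGroup_centralizer {G : Type u} [Group G] [Finite G] (hE : IsEPPO G) {q : ℕ} (hq : q.Prime)
    {C : Subgroup G} {z : G} (hz : orderOf z = q) (hC : ∀ c ∈ C, Commute c z) : IsPGroup q C := by
  have := Fact.mk hq
  rw [IsPGroup.iff_orderOf]
  rintro ⟨c, hc⟩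
  rw [Subgroup.orderOf_mk]
  by_cases hc1 : c = 1
  · exact ⟨0, by rw [hc1, orderOf_one, pow_zero]⟩
  have h1 := hE c hc1
  rw [isPrimePow_nat_iff] at h1
  obtain ⟨s, k, hs, hk, hsk⟩ := h1
  by_cases hsq : s = q
  · exact ⟨k, by rw [← hsk, hsq]⟩
  · exfalso
    have h2 : orderOf (c ^ (s ^ (k - 1))) = s := by
      rw [orderOf_pow_of_dvd (pow_ne_zero _ hs.ne_zero) (by rw [← hsk]; exact pow_dvd_pow s (by omega)), ← hsk]
      have : s ^ k = s * s ^ (k - 1) := by rw [← pow_succ']; congr 1; omega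
      rw [this, Nat.mul_div_cancel _ (pow_pos hs.pos _)]
    exact no_mixed hE hs hq hsq ((hC c hc).pow_left _) h2 hz

theorem radical_isPGroup {G : Type u} [Group G] [Finite G] (hE : IsEPPO G) (hns : ¬ Group.IsSolvable G)
    (R : Subgroup G) [R.Normal] (hRs : Group.IsSolvable R) : ∃ p : ℕ, p.Prime ∧ IsPGroup p R := by
  classical
  by_cases hR1 : R = ⊥
  · subst hR1
    exact ⟨2, Nat.prime_two, IsPGroup.of_bot⟩
  have hnt : Nontrivial R := (Subgroup.nontrivial_iff_ne_bot R).2 hR1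
  obtain ⟨V, hV, hV1, hmin⟩ := Cfsg.Agent.Lib.H70Basic2.exists_minimal_normal (G := R)
  obtain ⟨hVc, p, hp, hpV⟩ := Cfsg.Agent.Lib.Fitting.minimal_normal_solvable hV1 inferInstance hmin
  refine ⟨p, hp, ?_⟩
  by_contra hcon
  -- a prime `q ≠ p` dividing `|R|`
  obtain ⟨q, hq, hqR, hqp⟩ : ∃ q : ℕ, q.Prime ∧ q ∣ Nat.card R ∧ q ≠ p := by
    by_contra h
    push Not at h
    apply hcon
    exact IsPGroup.of_card (Nat.eq_prime_pow_of_unique_prime_dvd Nat.card_pos.ne' (fun {q} hq hqR => h q hq hqR))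
  have := Fact.mk hq
  have := Fact.mk hp
  obtain ⟨Q⟩ : Nonempty (Sylow q R) := inferInstance
  have hQd : q ∣ Nat.card (Q : Subgroup R) := Q.dvd_card_of_dvd_card hqR
  have hQp : ¬ p ∣ Nat.card (Q : Subgroup R) := by
    obtain ⟨k, hk⟩ := IsPGroup.iff_card.1 Q.2
    rw [hk]
    intro hd
    exact hqp ((Nat.prime_dvd_prime_iff_eq hp hq).1 (hp.dvd_of_dvd_pow hd)).symm
  have hQn : (Q : Subgroup R) ≤ normalizer (V : Set R) := by rw [normalizer_eq_top]; exact le_top
  have hf := isFPF_of_coprime (hE.subgroup R) hp hpV hQp hQn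
  have hAut : Group.IsSolvable (MulAut (Q : Subgroup R)) := by
    let _ : CommGroup V := { (inferInstance : Group V) with mul_comm := hVc.is_comm.comm }
    have : Nontrivial V := (Subgroup.nontrivial_iff_ne_bot V).2 hV1
    rcases FrobAction.pgroup_cyclic_or_quaternion (act := FrobAction2.conjAct hQn) hf Q.2 with h | ⟨h2, n, _, ⟨e⟩⟩
    · exact isSolvable_mulAut_of_cyclic h
    · have hQ2 : IsPGroup 2 (Q : Subgroup R) := by rw [← h2]; exact Q.2
      exact isSolvable_mulAut_of_rank hQ2 (rank_quaternion_le e)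
  -- the Frattini argument
  set Q' : Subgroup G := (Q : Subgroup R).map R.subtype with hQ'
  have hFr := Sylow.normalizer_sup_eq_top Q
  have hAut' : Group.IsSolvable (MulAut Q') := by
    have e := (Q : Subgroup R).equivMapOfInjective R.subtype R.subtype_injective
    exact Group.isSolvable_of_surjective (f := (MulAut.congr e).toMonoidHom) (MulAut.congr e).surjective
  -- an element of order `q` in `Q'`
  obtain ⟨z, hz⟩ := exists_prime_orderOf_dvd_card' q hQd
  have hzQ' : ((z : R) : G) ∈ Q' := ⟨z, z.2, rfl⟩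
  have hzo : orderOf ((z : R) : G) = q := by rw [Subgroup.orderOf_coe, Subgroup.orderOf_coe, hz]
  have hC : IsPGroup q (centralizer (Q' : Set G)) :=
    isPGroup_centralizer hE hq hzo (fun c hc => ((mem_centralizer_iff.1 hc) _ hzQ').symm)
  have hCs : Group.IsSolvable (centralizer (Q' : Set G)) := by
    have := hC.isNilpotent
    infer_instance
  have hN : Group.IsSolvable (normalizer (Q' : Set G)) := by
    have hle : centralizer (Q' : Set G) ≤ normalizer (Q' : Set G) := Subgroup.centralizer_le_normalizer _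
    have := Group.isSolvable_of_ker_le_range (Subgroup.inclusion hle) Q'.normalizerMonoidHom (by
      rw [normalizerMonoidHom_ker]
      intro x hx
      exact ⟨⟨x, hx⟩, rfl⟩)
    exact this
  apply hns
  rw [Group.isSolvable_iff_subgroup_quotient R]
  refine ⟨hRs, ?_⟩
  have hsurj : Function.Surjective ((QuotientGroup.mk' R).comp (normalizer (Q' : Set G)).subtype) := by
    intro x
    obtain ⟨g, rfl⟩ := QuotientGroup.mk_surjective x
    have hg : g ∈ normalizer (Q' : Set G) ⊔ R := by rw [hFr]; trivial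
    rw [Subgroup.mem_sup_of_normal_right] at hg
    obtain ⟨n, hn, r, hr, rfl⟩ := hg
    refine ⟨⟨n, hn⟩, ?_⟩
    show (n : G ⧸ R) = ((n * r : G) : G ⧸ R)
    rw [QuotientGroup.eq]
    simpa using hr
  exact Group.isSolvable_of_surjective hsurj

end Cfsg.Agent.Lib.EPPO
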