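import Cfsg.Agent.Lib.EPPO2
import Cfsg.Agent.Lib.Cores3

set_option autoImplicit false

/-!
Groups with trivial solvable radical in which every element has prime power order.
-/

namespace Cfsg.Agent.Lib.EPPO

open Subgroup Cfsg

universe u

theorem commuting_false {X : Type u} [Group X] [Finite X] (hE : IsEPPO X) {A B : Subgroup X} (hA : A ≠ ⊥)
    (hB : ∀ q : ℕ, q.Prime → ¬ IsPGroup q B) (hcomm : ∀ a ∈ A, ∀ b ∈ B, Commute a b) : False := by
  have h1 : Nat.card A ≠ 1 := fun h => hA (Subgroup.card_eq_one.1 h)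
  obtain ⟨q, hq, hqA⟩ := Nat.exists_prime_and_dvd h1
  obtain ⟨r, hr, hrB, hrq⟩ : ∃ r : ℕ, r.Prime ∧ r ∣ Nat.card B ∧ r ≠ q := by
    by_contra h
    push Not at h
    apply hB q hq
    exact IsPGroup.of_card (Nat.eq_prime_pow_of_unique_prime_dvd Nat.card_pos.ne' (fun {s} hs hsR => h s hs hsR))
  have := Fact.mk hq
  have := Fact.mk hr
  obtain ⟨a, ha⟩ := exists_prime_orderOf_dvd_card' q hqA
  obtain ⟨b, hb⟩ := exists_prime_orderOf_dvd_card' r hrB
  exact no_mixed hE hq hr (fun h => hrq h.symm) (hcomm a a.2 b b.2) (by rw [Subgroup.orderOf_coe, ha])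
    (by rw [Subgroup.orderOf_coe, hb])

theorem isSolvable_of_isPGroup {X : Type u} [Group X] [Finite X] {q : ℕ} (hq : q.Prime) (h : IsPGroup q X) :
    Group.IsSolvable X := by
  have := Fact.mk hq
  have := h.isNilpotent
  infer_instance

theorem exists_simple_socle {X : Type u} [Group X] [Finite X] (hE : IsEPPO X) (hnt : Nontrivial X)
    (hrad : ∀ N : Subgroup X, N.Normal → Group.IsSolvable N → N = ⊥) :
    ∃ M : Subgroup X, M.Normal ∧ IsSimpleGroup M ∧ ¬ IsMulCommutative M ∧
      ∀ N : Subgroup X, N.Normal → N ≠ ⊥ → M ≤ N := by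
  classical
  obtain ⟨M, hM, hM1, hmin⟩ := Cfsg.Agent.Lib.H70Basic2.exists_minimal_normal (G := X)
  have hMp : ∀ q : ℕ, q.Prime → ¬ IsPGroup q M := by
    intro q hq h
    exact hM1 (hrad M hM (isSolvable_of_isPGroup hq h))
  have hMnt : Nontrivial M := (Subgroup.nontrivial_iff_ne_bot M).2 hM1
  -- normal `q`-subgroups of `M` are trivial
  have hMcore : ∀ q : ℕ, q.Prime → ∀ L : Subgroup M, L.Normal → IsPGroup q L → L = ⊥ := by
    intro q hq L hL hLq
    have := Fact.mk hq
    have h1 : L ≤ pCore q M := Cfsg.Agent.Lib.Fitting.le_pCore q hL hLq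
    have h2 : ((pCore q M).map M.subtype).Normal := by
      have h3 : (pCore q M) ≤ pCore q M := le_rfl
      have := hM
      exact Cfsg.Agent.Lib.Fitting.normal_map_subtype_of_characteristic
        (Cfsg.Agent.Lib.Fitting.characteristic_pCore q)
    have h3 : IsPGroup q ((pCore q M).map M.subtype) := (Cfsg.Agent.Lib.Fitting.isPGroup_pCore q).map _
    have h4 := hrad _ h2 (isSolvable_of_isPGroup hq h3)
    rw [Subgroup.map_eq_bot_iff_of_injective _ M.subtype_injective] at h4
    rw [eq_bot_iff, ← h4]; exact h1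
  have hsimple : ∀ K : Subgroup M, K.Normal → K ≠ ⊥ → K = ⊤ := by
    intro K hK hK1
    obtain ⟨L, hL, hL1, hLK, hLmin⟩ := Cfsg.Agent.Lib.Cores.exists_minNormal_le hK hK1
    set L' : Subgroup X := L.map M.subtype with hL'
    have hL'M : L' ≤ M := Subgroup.map_subtype_le L
    have hL'1 : L' ≠ ⊥ := by
      rw [Ne, hL', Subgroup.map_eq_bot_iff_of_injective _ M.subtype_injective]
      exact hL1
    -- conjugates of `L'` are normalized by `M`
    have hLn : ∀ g : X, ∀ m ∈ M, ∀ x ∈ L'.map (MulAut.conj g).toMonoidHom,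
        m * x * m⁻¹ ∈ L'.map (MulAut.conj g).toMonoidHom := by
      rintro g m hm _ ⟨x, ⟨y, hy, rfl⟩, rfl⟩
      have h1 : g⁻¹ * m * g ∈ M := by
        have := hM.conj_mem m hm g⁻¹
        simpa using this
      refine ⟨(g⁻¹ * m * g) * y * (g⁻¹ * m * g)⁻¹, ⟨⟨g⁻¹ * m * g, h1⟩ * y * ⟨g⁻¹ * m * g, h1⟩⁻¹,
        hL.conj_mem y hy _, rfl⟩, ?_⟩
      show g * ((g⁻¹ * m * g) * y * (g⁻¹ * m * g)⁻¹) * g⁻¹ = m * (g * y * g⁻¹) * m⁻¹
      group
    have hL'n1 : ∀ m ∈ M, ∀ x ∈ L', m * x * m⁻¹ ∈ L' := by
      intro m hm x hx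
      have h1 : L'.map (MulAut.conj (1 : X)).toMonoidHom = L' := by
        ext z
        constructor
        · rintro ⟨w, hw, rfl⟩
          show 1 * w * 1⁻¹ ∈ L'
          simpa using hw
        · intro hz
          exact ⟨z, hz, by show 1 * z * 1⁻¹ = z; simp⟩
      have h2 := hLn 1 m hm x (by rw [h1]; exact hx)
      rwa [h1] at h2
    have hnorm : L'.Normal := by
      constructor
      intro x hx g
      by_contra hcon
      have hgM : L'.map (MulAut.conj g).toMonoidHom ≤ M := by
        rintro _ ⟨y, hy, rfl⟩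
        exact hM.conj_mem y (hL'M hy) g
      -- the intersection is trivial
      have hdis : L' ⊓ L'.map (MulAut.conj g).toMonoidHom = ⊥ := by
        set I : Subgroup M := (L' ⊓ L'.map (MulAut.conj g).toMonoidHom).subgroupOf M with hI
        have hIn : I.Normal := by
          constructor
          intro y hy m
          rw [hI, Subgroup.mem_subgroupOf] at hy ⊢
          exact ⟨hL'n1 m m.2 y hy.1, hLn g m m.2 y hy.2⟩
        have hIL : I ≤ L := by
          intro y hy
          rw [hI, Subgroup.mem_subgroupOf] at hy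
          obtain ⟨w, hw, hwy⟩ := hy.1
          have : w = y := Subtype.ext hwy
          rw [← this]; exact hw
        rcases hLmin I hIn hIL with h | h
        · have h1 : (L' ⊓ L'.map (MulAut.conj g).toMonoidHom) = I.map M.subtype := by
            rw [hI, Subgroup.map_subgroupOf_eq_of_le (inf_le_left.trans hL'M)]
          rw [h1, h, Subgroup.map_bot]
        · exfalso
          have h1 : (L' ⊓ L'.map (MulAut.conj g).toMonoidHom) = L' := by
            have h2 : (L' ⊓ L'.map (MulAut.conj g).toMonoidHom) = I.map M.subtype := by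
              rw [hI, Subgroup.map_subgroupOf_eq_of_le (inf_le_left.trans hL'M)]
            rw [h2, h]
          have h2 : L' ≤ L'.map (MulAut.conj g).toMonoidHom := h1.symm.le.trans inf_le_right
          have h3 : L' = L'.map (MulAut.conj g).toMonoidHom := by
            refine Subgroup.eq_of_le_of_card_ge h2 ?_
            rw [Subgroup.card_map_of_injective (MulAut.conj g).injective]
          apply hcon
          rw [h3]
          exact ⟨x, hx, rfl⟩
      refine commuting_false hE hL'1 (B := L'.map (MulAut.conj g).toMonoidHom) ?_ ?_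
      · intro q hq h
        have h1 : IsPGroup q L' := by
          have e := L'.equivMapOfInjective (MulAut.conj g).toMonoidHom (MulAut.conj g).injective
          exact h.of_equiv e.symm
        have h2 : IsPGroup q L := by
          have e := L.equivMapOfInjective M.subtype M.subtype_injective
          exact h1.of_equiv e.symm
        exact hL1 (hMcore q hq L hL h2)
      · intro a ha b hb
        have h1 : a * b * a⁻¹ * b⁻¹ ∈ L' ⊓ L'.map (MulAut.conj g).toMonoidHom := by
          refine ⟨?_, ?_⟩
          · have h2 := hL'n1 b (hgM hb) a⁻¹ (inv_mem ha)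
            have h3 := mul_mem ha h2
            have h4 : a * (b * a⁻¹ * b⁻¹) = a * b * a⁻¹ * b⁻¹ := by group
            rwa [h4] at h3
          · exact (L'.map (MulAut.conj g).toMonoidHom).mul_mem (hLn g a (hL'M ha) b hb) ((L'.map (MulAut.conj g).toMonoidHom).inv_mem hb)
        rw [hdis, Subgroup.mem_bot] at h1
        have h2 := mul_inv_eq_one.1 h1
        exact mul_inv_eq_iff_eq_mul.1 h2
    rcases hmin L' hnorm hL'M with h | h
    · exact absurd h hL'1
    · rw [eq_top_iff]
      intro y _
      have h1 : (y : X) ∈ L' := by rw [h]; exact y.2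
      obtain ⟨w, hw, hwy⟩ := h1
      have : w = y := Subtype.ext hwy
      rw [← this]
      exact hLK hw
  refine ⟨M, hM, ?_, ?_, ?_⟩
  · exact { exists_pair_ne := exists_pair_ne M
            eq_bot_or_eq_top_of_normal := fun K hK => by
              by_cases h : K = ⊥
              · exact Or.inl h
              · exact Or.inr (hsimple K hK h) }
  · intro hc
    apply hM1
    refine hrad M hM ?_
    apply Group.isSolvable_of_comm
    exact fun a b => hc.is_comm.comm a b
  · intro N hN hN1
    have hMN : (M ⊓ N).Normal := inferInstance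
    rcases hmin (M ⊓ N) hMN inf_le_left with h | h
    · exfalso
      refine commuting_false hE hN1 hMp ?_
      intro a ha b hb
      exact (Subgroup.commute_of_normal_of_disjoint M N hM hN (disjoint_iff.2 h) b a hb ha).symm
    · rw [← h]; exact inf_le_right

end Cfsg.Agent.Lib.EPPO
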