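import Cfsg.Prelude.Def_Involutions
import Cfsg.Agent.Lib.StrongEmbPt
import Cfsg.Agent.Lib.SylowTools
import Mathlib.GroupTheory.SpecificGroups.Cyclic

/-!
# Groups in which the centralizer of every involution is an elementary abelian 2-group (helper21)
-/

set_option autoImplicit false

namespace Cfsg.Agent.Lib.ElemCent

open MulAction Cfsg.Agent.Lib.InvAct Cfsg.Agent.Lib.StrongEmbPt

variable {G : Type*} [Group G] [Finite G] (T : Sylow 2 G)
  (hnc : ¬ IsCyclic (T : Subgroup G)) (hnn : ¬ (T : Subgroup G).Normal)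
  (hC : ∀ t : G, orderOf t = 2 → IsMulCommutative (Subgroup.centralizer ({t} : Set G)) ∧
    ∀ c ∈ Subgroup.centralizer ({t} : Set G), c ^ 2 = 1)

include hC in
theorem cent_isPGroup {t : G} (ht : orderOf t = 2) :
    IsPGroup 2 (Subgroup.centralizer ({t} : Set G)) := by
  intro c
  refine ⟨1, ?_⟩
  have := (hC t ht).2 c c.2
  rw [pow_one]
  exact Subtype.ext (by simpa using this)

include hC hnc in
theorem exists_central : ∃ z ∈ (T : Subgroup G), orderOf z = 2 ∧
    Subgroup.centralizer ({z} : Set G) = T := by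
  have : Fact (Nat.Prime 2) := ⟨Nat.prime_two⟩
  have hnt : Nontrivial (T : Subgroup G) := by
    by_contra h
    rw [not_nontrivial_iff_subsingleton] at h
    exact hnc inferInstance
  have h1 : Nontrivial (Subgroup.center (T : Subgroup G)) := T.2.center_nontrivial
  have h2 : Even (Nat.card (Subgroup.center (T : Subgroup G))) := by
    have h3 : IsPGroup 2 (Subgroup.center (T : Subgroup G)) := T.2.to_subgroup _
    obtain ⟨n, hn⟩ := h3.exists_card_eq
    rw [hn]
    have hn0 : n ≠ 0 := by
      rintro rfl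
      rw [pow_zero, Nat.card_eq_one_iff_unique] at hn
      exact not_subsingleton _ hn.1
    exact (Nat.even_pow).2 ⟨even_two, hn0⟩
  obtain ⟨z, hz, hzo⟩ := exists_involution h2
  have hzo' : orderOf (z : G) = 2 := by rw [Subgroup.orderOf_coe]; exact hzo
  refine ⟨z, z.2, hzo', ?_⟩
  have hle : (T : Subgroup G) ≤ Subgroup.centralizer ({(z : G)} : Set G) := by
    intro y hy
    rw [Subgroup.mem_centralizer_singleton_iff]
    have := Subgroup.mem_center_iff.1 hz ⟨y, hy⟩
    exact congrArg Subtype.val this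
  exact T.is_maximal' (cent_isPGroup hC hzo') hle

include hC hnc in
theorem sylow_comm {x y : G} (hx : x ∈ (T : Subgroup G)) (hy : y ∈ (T : Subgroup G)) :
    x * y = y * x := by
  obtain ⟨z, -, hzo, hz⟩ := exists_central T hnc hC
  obtain ⟨⟨h⟩, -⟩ := hC z hzo
  have := h.comm (⟨x, by rw [hz]; exact hx⟩ : Subgroup.centralizer ({z} : Set G))
    ⟨y, by rw [hz]; exact hy⟩
  exact congrArg Subtype.val this

include hC hnc in
theorem sylow_sq {x : G} (hx : x ∈ (T : Subgroup G)) : x * x = 1 := by
  obtain ⟨z, -, hzo, hz⟩ := exists_central T hnc hC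
  obtain ⟨-, h⟩ := hC z hzo
  rw [← sq]
  exact h x (by rw [hz]; exact hx)

include hC hnc in
theorem orderOf_of_mem {x : G} (hx : x ∈ (T : Subgroup G)) (h1 : x ≠ 1) : orderOf x = 2 :=
  orderOf_two_iff.2 ⟨sylow_sq T hnc hC hx, h1⟩

include hC hnc in
theorem centralizer_eq {x : G} (hx : x ∈ (T : Subgroup G)) (h1 : x ≠ 1) :
    Subgroup.centralizer ({x} : Set G) = T := by
  have hle : (T : Subgroup G) ≤ Subgroup.centralizer ({x} : Set G) := by
    intro y hy
    rw [Subgroup.mem_centralizer_singleton_iff]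
    exact sylow_comm T hnc hC hy hx
  exact T.is_maximal' (cent_isPGroup hC (orderOf_of_mem T hnc hC hx h1)) hle

include hC hnc in
theorem mem_normalizer {x g : G} (hx : x ∈ (T : Subgroup G)) (h1 : x ≠ 1)
    (hg : g * x * g⁻¹ ∈ (T : Subgroup G)) : g ∈ Subgroup.normalizer ((T : Subgroup G) : Set G) := by
  apply Cfsg.Agent.Lib.SylowTools.mem_normalizer_of_forall
  intro y hy
  rw [← centralizer_eq T hnc hC hg (by
    intro h
    apply h1
    have : x = g⁻¹ * (g * x * g⁻¹) * g := by group
    rw [this, h]; simp), Subgroup.mem_centralizer_singleton_iff]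
  have := sylow_comm T hnc hC hy hx
  calc g * y * g⁻¹ * (g * x * g⁻¹) = g * (y * x) * g⁻¹ := by group
    _ = g * (x * y) * g⁻¹ := by rw [this]
    _ = g * x * g⁻¹ * (g * y * g⁻¹) := by group

theorem mem_sylow_of_normalizer {x : G} (hx : orderOf x = 2)
    (hN : x ∈ Subgroup.normalizer ((T : Subgroup G) : Set G)) : x ∈ (T : Subgroup G) := by
  have : Fact (Nat.Prime 2) := ⟨Nat.prime_two⟩
  have hp : IsPGroup 2 (Subgroup.zpowers x) := by
    apply IsPGroup.of_card (n := 1)
    rw [Nat.card_zpowers, hx, pow_one]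
  have := hp.inf_normalizer_sylow T
  have h2 : x ∈ Subgroup.zpowers x ⊓ (T : Subgroup G) := by
    rw [← this]; exact ⟨Subgroup.mem_zpowers x, hN⟩
  exact h2.2

include hC hnc hnn in
theorem stronglyEmbedded :
    Cfsg.IsStronglyEmbedded (Subgroup.normalizer ((T : Subgroup G) : Set G)) := by
  apply of_fix
  · intro h
    exact hnn (Subgroup.normalizer_eq_top_iff.1 h)
  · obtain ⟨z, hzT, hz, -⟩ := exists_central T hnc hC
    have hzN : z ∈ Subgroup.normalizer ((T : Subgroup G) : Set G) := Subgroup.le_normalizer hzT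
    have : orderOf (⟨z, hzN⟩ : Subgroup.normalizer ((T : Subgroup G) : Set G)) ∣
      Nat.card (Subgroup.normalizer ((T : Subgroup G) : Set G)) := orderOf_dvd_natCard _
    rw [Subgroup.orderOf_mk, hz] at this
    exact even_iff_two_dvd.2 this
  · intro x g hx hxN hgN
    have hxT := mem_sylow_of_normalizer T hx hxN
    have hgT := mem_sylow_of_normalizer T (x := g * x * g⁻¹)
      (by rw [Cfsg.Agent.Lib.SylowTools.orderOf_conj', hx]) hgN
    exact mem_normalizer T hnc hC hxT (by rintro rfl; simp at hx) hgT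

end Cfsg.Agent.Lib.ElemCent
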