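import Cfsg.Agent.Lib.ElemCent
import Mathlib.GroupTheory.Complement

/-!
# Groups in which the centralizer of every involution is an elementary abelian 2-group, part 2 (helper21)

Two- and three-point stabilizers in the action on `G ⧸ N_G(T)`.
-/

set_option autoImplicit false

namespace Cfsg.Agent.Lib.ElemCent

open MulAction Cfsg.Agent.Lib.InvAct Cfsg.Agent.Lib.StrongEmbPt

/-- A fixed-point-free involution inverts. -/
theorem inverts_of_fpf {G : Type*} [Group G] [Finite G] {K : Subgroup G} {u : G}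
    (hu : orderOf u = 2) (hnorm : ∀ k ∈ K, u * k * u⁻¹ ∈ K)
    (hfpf : ∀ k ∈ K, u * k = k * u → k = 1) : ∀ k ∈ K, u * k * u⁻¹ = k⁻¹ := by
  have h1 : u⁻¹ = u := inv_eq_self_of_orderOf_eq_two hu
  have h2 : u * u = 1 := (orderOf_two_iff.1 hu).1
  let f : K → K := fun k => ⟨(k : G)⁻¹ * (u * k * u⁻¹), K.mul_mem (K.inv_mem k.2) (hnorm k k.2)⟩
  have hinj : Function.Injective f := by
    intro a b hab
    have h3 : (a : G)⁻¹ * (u * a * u⁻¹) = (b : G)⁻¹ * (u * b * u⁻¹) := congrArg Subtype.val hab
    have h4 : u * ((b : G) * (a : G)⁻¹) = ((b : G) * (a : G)⁻¹) * u := by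
      have h5 : (b : G) * (a : G)⁻¹ = u * b * (a : G)⁻¹ * u⁻¹ := by
        calc (b : G) * (a : G)⁻¹ = b * ((a : G)⁻¹ * (u * a * u⁻¹)) * (u * (a : G)⁻¹ * u⁻¹) := by
              group
          _ = b * ((b : G)⁻¹ * (u * b * u⁻¹)) * (u * (a : G)⁻¹ * u⁻¹) := by rw [h3]
          _ = u * b * (a : G)⁻¹ * u⁻¹ := by group
      calc u * ((b : G) * (a : G)⁻¹) = (u * b * (a : G)⁻¹ * u⁻¹) * u := by group
        _ = ((b : G) * (a : G)⁻¹) * u := by rw [← h5]
    have h6 := hfpf _ (K.mul_mem b.2 (K.inv_mem a.2)) h4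
    exact Subtype.ext (mul_inv_eq_one.1 h6).symm
  have hsurj := Finite.surjective_of_injective hinj
  intro k hk
  obtain ⟨d, hd⟩ := hsurj ⟨k, hk⟩
  have h3 : (d : G)⁻¹ * (u * d * u⁻¹) = k := congrArg Subtype.val hd
  have h4 : (u * (d : G)⁻¹ * u⁻¹) * d = k⁻¹ := by rw [← h3]; group
  rw [← h4, ← h3]
  have : u * ((d : G)⁻¹ * (u * d * u⁻¹)) * u⁻¹ = u * (d : G)⁻¹ * u * d * (u * u)⁻¹ := by group
  rw [this, h2, h1]; simp

/-- A group inverted by an element is commutative. -/
theorem comm_of_inverts {G : Type*} [Group G] {K : Subgroup G} {u : G}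
    (h : ∀ k ∈ K, u * k * u⁻¹ = k⁻¹) {a b : G} (ha : a ∈ K) (hb : b ∈ K) : a * b = b * a := by
  have h1 := h _ (K.mul_mem ha hb)
  have h2 : u * (a * b) * u⁻¹ = a⁻¹ * b⁻¹ := by
    rw [← h a ha, ← h b hb]; group
  rw [h2] at h1
  have := congrArg (·⁻¹) h1
  simp only [mul_inv_rev, inv_inv] at this
  exact this.symm

variable {G : Type*} [Group G] [Finite G] (T : Sylow 2 G)
  (hnc : ¬ IsCyclic (T : Subgroup G)) (hnn : ¬ (T : Subgroup G).Normal)
  (hC : ∀ t : G, orderOf t = 2 → IsMulCommutative (Subgroup.centralizer ({t} : Set G)) ∧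
    ∀ c ∈ Subgroup.centralizer ({t} : Set G), c ^ 2 = 1)

/-- the coset space of the normalizer -/
abbrev Pts (T : Sylow 2 G) : Type _ := G ⧸ Subgroup.normalizer ((T : Subgroup G) : Set G)

/-- the base point -/
abbrev base (T : Sylow 2 G) : Pts T := QuotientGroup.mk 1

include hnc hnn hC in
theorem uf : UniqueFix G (Pts T) := uniqueFix (stronglyEmbedded T hnc hnn hC)

include hnc hC in
theorem four_le_card : 4 ≤ Nat.card T := by
  have : Fact (Nat.Prime 2) := ⟨Nat.prime_two⟩
  obtain ⟨k, hk⟩ := T.2.exists_card_eq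
  change Nat.card T = 2 ^ k at hk
  have hk0 : k ≠ 0 := by
    rintro rfl
    rw [pow_zero, Nat.card_eq_one_iff_unique] at hk
    have := hk.1
    exact hnc inferInstance
  have hk1 : k ≠ 1 := by
    rintro rfl
    rw [pow_one] at hk
    exact hnc (isCyclic_of_prime_card (p := 2) hk)
  rw [hk]
  calc 4 = 2 ^ 2 := by norm_num
    _ ≤ 2 ^ k := Nat.pow_le_pow_right (by norm_num) (by omega)

include hnc hC in
theorem invFix_base : invSwap G (base T) (base T) = ((T : Subgroup G) : Set G) \ {1} := by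
  ext t
  constructor
  · rintro ⟨h1, h2⟩
    have h3 := (smul_one_eq_iff t).1 h2
    refine ⟨mem_sylow_of_normalizer T h1 h3, ?_⟩
    rintro h4
    rw [Set.mem_singleton_iff] at h4
    rw [h4] at h1; simp at h1
  · rintro ⟨h1, h2⟩
    refine ⟨orderOf_of_mem T hnc hC h1 h2, ?_⟩
    rw [smul_one_eq_iff]
    exact Subgroup.le_normalizer h1

include hnc hC in
theorem ncard_invFix (x : Pts T) : (invSwap G x x).ncard = Nat.card T - 1 := by
  rw [ncard_invFix_eq x (base T), invFix_base T hnc hC, Set.ncard_sdiff_singleton_of_mem]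
  · rfl
  · exact (T : Subgroup G).one_mem

include hnc hnn hC in
theorem exists_invSwap (x y : Pts T) : ∃ u, u ∈ invSwap G x y := by
  have h1 := ncard_invSwap_eq (uf T hnc hnn hC) x y
  rw [ncard_invFix T hnc hC] at h1
  have h2 := four_le_card T hnc hC
  have : (invSwap G x y).Nonempty := by
    rw [← Set.ncard_pos, h1]; omega
  exact this

include hC in
theorem sq_of_comm {t c : G} (ht : orderOf t = 2) (h : c * t = t * c) : c * c = 1 := by
  rw [← sq]
  exact (hC t ht).2 c (Subgroup.mem_centralizer_singleton_iff.2 h)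

include hnc hnn hC in
theorem inf_cent_bot {x y : Pts T} (hxy : x ≠ y) {u : G} (hu : u ∈ invSwap G x y) :
    stabilizer G x ⊓ Subgroup.centralizer ({u} : Set G) = ⊥ := by
  rw [eq_bot_iff]
  rintro c ⟨h1, h2⟩
  replace h2 := Subgroup.mem_centralizer_singleton_iff.1 h2
  rw [Subgroup.mem_bot]
  by_contra hc
  have h3 : orderOf c = 2 := orderOf_two_iff.2 ⟨sq_of_comm hC hu.1 h2, hc⟩
  apply not_mem_both (uf T hnc hnn hC) hxy h3 h1
  rw [← hu.2, smul_smul, h2, ← smul_smul]
  congr 1

include hnc hnn hC in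
theorem card_two {x y : Pts T} (hxy : x ≠ y) :
    Nat.card ↥(stabilizer G x ⊓ stabilizer G y) = Nat.card T - 1 := by
  obtain ⟨u, hu⟩ := exists_invSwap T hnc hnn hC x y
  rw [card_two_point' (uf T hnc hnn hC) hxy hu, inf_cent_bot T hnc hnn hC hxy hu,
    ncard_invFix T hnc hC]
  simp

include hnc hnn hC in
theorem inverts_two {x y : Pts T} (hxy : x ≠ y) {u : G} (hu : u ∈ invSwap G x y) :
    ∀ k ∈ stabilizer G x ⊓ stabilizer G y, u * k * u⁻¹ = k⁻¹ := by
  have hu1 : u⁻¹ = u := inv_eq_self_of_orderOf_eq_two hu.1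
  have huy := smul_of_swap hu.1 hu.2
  apply inverts_of_fpf hu.1
  · rintro k ⟨h1, h2⟩
    refine ⟨?_, ?_⟩
    · show (u * k * u⁻¹) • x = x
      rw [hu1, ← smul_smul, ← smul_smul, hu.2, show k • y = y from h2, huy]
    · show (u * k * u⁻¹) • y = y
      rw [hu1, ← smul_smul, ← smul_smul, huy, show k • x = x from h1, hu.2]
  · rintro k ⟨h1, h2⟩ h3
    have h4 := inf_cent_bot T hnc hnn hC hxy hu
    have h5 : k ∈ stabilizer G x ⊓ Subgroup.centralizer ({u} : Set G) :=
      ⟨h1, Subgroup.mem_centralizer_singleton_iff.2 h3.symm⟩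
    rw [h4] at h5
    exact h5

include hnc hnn hC in
theorem no_inv_cent {x y : Pts T} (hxy : x ≠ y) {d : G}
    (hd : d ∈ stabilizer G x ⊓ stabilizer G y) (hd1 : d ≠ 1) {t : G} (ht : orderOf t = 2)
    (h : t * d = d * t) : False := by
  have h1 := sq_of_comm hC ht h.symm
  exact not_mem_both (uf T hnc hnn hC) hxy (orderOf_two_iff.2 ⟨h1, hd1⟩) hd.1 hd.2

include hnc hnn hC in
theorem inverts_cent {x y : Pts T} (hxy : x ≠ y) {d : G}
    (hd : d ∈ stabilizer G x ⊓ stabilizer G y) (hd1 : d ≠ 1) {u : G} (hu : u ∈ invSwap G x y) :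
    ∀ c : G, c * d = d * c → u * c * u⁻¹ = c⁻¹ := by
  have h1 := inverts_two T hnc hnn hC hxy hu d hd
  have key := inverts_of_fpf (K := Subgroup.centralizer ({d} : Set G)) hu.1 ?_ ?_
  · intro c hc
    exact key c (Subgroup.mem_centralizer_singleton_iff.2 hc)
  · intro k hk
    have hk' := Subgroup.mem_centralizer_singleton_iff.1 hk
    rw [Subgroup.mem_centralizer_singleton_iff]
    have h2 : d = u * d⁻¹ * u⁻¹ := by
      rw [show u * d⁻¹ * u⁻¹ = (u * d * u⁻¹)⁻¹ by group, h1, inv_inv]
    have h3 : k * d⁻¹ = d⁻¹ * k := by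
      rw [mul_inv_eq_iff_eq_mul, mul_assoc, hk']; simp
    calc u * k * u⁻¹ * d = u * k * u⁻¹ * (u * d⁻¹ * u⁻¹) := by rw [← h2]
      _ = u * (k * d⁻¹) * u⁻¹ := by group
      _ = u * (d⁻¹ * k) * u⁻¹ := by rw [h3]
      _ = u * d⁻¹ * u⁻¹ * (u * k * u⁻¹) := by group
      _ = d * (u * k * u⁻¹) := by rw [← h2]
  · intro k hk h2
    have hk' := Subgroup.mem_centralizer_singleton_iff.1 hk
    by_contra hk1
    have h3 := sq_of_comm hC hu.1 h2.symm
    exact no_inv_cent T hnc hnn hC hxy hd hd1 (orderOf_two_iff.2 ⟨h3, hk1⟩) hk'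

include hnc hnn hC in
/-- involutions with the same fixed point commute -/
theorem comm_of_same_fix {x : Pts T} {s t : G} (hs : s ∈ invSwap G x x) (ht : t ∈ invSwap G x x) :
    s * t = t * s := by
  obtain ⟨g, hg⟩ := exists_smul_eq G x (base T)
  have key : ∀ r ∈ invSwap G x x, g * r * g⁻¹ ∈ (T : Subgroup G) := by
    rintro r ⟨h1, h2⟩
    have h3 : g * r * g⁻¹ ∈ invSwap G (base T) (base T) := by
      refine ⟨by rw [Cfsg.Agent.Lib.SylowTools.orderOf_conj', h1], ?_⟩
      rw [← hg, smul_smul]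
      simp only [inv_mul_cancel_right]
      rw [← smul_smul, h2]
    rw [invFix_base T hnc hC] at h3
    exact h3.1
  have h1 := sylow_comm T hnc hC (key s hs) (key t ht)
  have h2 : g * (s * t) * g⁻¹ = g * (t * s) * g⁻¹ := by
    calc g * (s * t) * g⁻¹ = g * s * g⁻¹ * (g * t * g⁻¹) := by group
      _ = g * t * g⁻¹ * (g * s * g⁻¹) := h1
      _ = g * (t * s) * g⁻¹ := by group
  simpa using h2

include hnc hnn hC in
theorem odd_orderOf_two {x y : Pts T} (hxy : x ≠ y) {d : G}
    (hd : d ∈ stabilizer G x ⊓ stabilizer G y) : Odd (orderOf d) := by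
  have h1 : orderOf d ∣ Nat.card ↥(stabilizer G x ⊓ stabilizer G y) := by
    have := orderOf_dvd_natCard (⟨d, hd⟩ : ↥(stabilizer G x ⊓ stabilizer G y))
    rwa [Subgroup.orderOf_mk] at this
  rw [card_two T hnc hnn hC hxy] at h1
  have : Fact (Nat.Prime 2) := ⟨Nat.prime_two⟩
  obtain ⟨k, hk⟩ := T.2.exists_card_eq
  have h4 := four_le_card T hnc hC
  change Nat.card T = 2 ^ k at hk
  have hk0 : k ≠ 0 := by
    rintro rfl
    rw [hk] at h4; norm_num at h4
  have h5 : Odd (Nat.card T - 1) := by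
    have h6 : Even (Nat.card T) := by
      rw [hk]; exact (Nat.even_pow).2 ⟨even_two, hk0⟩
    exact Nat.Even.sub_odd (by omega) h6 odd_one
  exact Odd.of_dvd_nat h5 h1

include hnc hnn hC in
/-- an element fixing three points is trivial -/
theorem eq_one_of_three {x y z : Pts T} (hxy : x ≠ y) (hxz : x ≠ z) (hyz : y ≠ z) {d : G}
    (hx : d • x = x) (hy : d • y = y) (hz : d • z = z) : d = 1 := by
  by_contra hd1
  obtain ⟨u, hu⟩ := exists_invSwap T hnc hnn hC x y
  obtain ⟨v, hv⟩ := exists_invSwap T hnc hnn hC x z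
  obtain ⟨v2, hv2⟩ := exists_invSwap T hnc hnn hC z y
  have iu := inverts_two T hnc hnn hC hxy hu d ⟨hx, hy⟩
  have iv := inverts_two T hnc hnn hC hxz hv d ⟨hx, hz⟩
  have iv2 := inverts_two T hnc hnn hC (Ne.symm hyz) hv2 d ⟨hz, hy⟩
  -- c = v2 v centralizes d
  have hcd : (v2 * v) * d = d * (v2 * v) := by
    have h1 : v * d = d⁻¹ * v := by rw [← iv]; group
    have h2 : v2 * d⁻¹ = d * v2 := by
      have : v2 * d⁻¹ * v2⁻¹ = d := by
        rw [show v2 * d⁻¹ * v2⁻¹ = (v2 * d * v2⁻¹)⁻¹ by group, iv2, inv_inv]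
      rw [← mul_inv_eq_iff_eq_mul, this]
    rw [mul_assoc, h1, ← mul_assoc, h2, mul_assoc]
  have ic := inverts_cent T hnc hnn hC hxy (d := d) ⟨hx, hy⟩ hd1 hu _ hcd
  set c := v2 * v with hc
  have hcx : c • x = y := by
    rw [hc, ← smul_smul, hv.2, hv2.2]
  -- h = c⁻¹ u
  have hu1 : u⁻¹ = u := inv_eq_self_of_orderOf_eq_two hu.1
  have hu2 : u * u = 1 := (orderOf_two_iff.1 hu.1).1
  have hinvd : (c⁻¹ * u) * d * (c⁻¹ * u)⁻¹ = d⁻¹ := by
    calc (c⁻¹ * u) * d * (c⁻¹ * u)⁻¹ = c⁻¹ * (u * d * u⁻¹) * c := by group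
      _ = c⁻¹ * d⁻¹ * c := by rw [iu]
      _ = c⁻¹ * (c⁻¹ * d)⁻¹ := by group
      _ = c⁻¹ * (d * c⁻¹)⁻¹ := by
          have : c⁻¹ * d = d * c⁻¹ := by
            rw [inv_mul_eq_iff_eq_mul, ← mul_assoc, hcd]; simp
          rw [this]
      _ = d⁻¹ := by group
  have hodd := odd_orderOf_two T hnc hnn hC hxy (d := d) ⟨hx, hy⟩
  have hd2 : d⁻¹ ≠ d := by
    intro h
    have : d * d = 1 := by
      nth_rewrite 1 [← h]; simp
    have h2 : orderOf d = 2 := orderOf_two_iff.2 ⟨this, hd1⟩
    rw [h2] at hodd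
    exact absurd hodd (by decide)
  have hh2 : orderOf (c⁻¹ * u) = 2 := by
    rw [orderOf_two_iff]
    constructor
    · have : u * c⁻¹ = c * u := by
        have h3 : u * c⁻¹ * u⁻¹ = c := by
          rw [show u * c⁻¹ * u⁻¹ = (u * c * u⁻¹)⁻¹ by group, ic, inv_inv]
        rw [← mul_inv_eq_iff_eq_mul, h3]
      calc c⁻¹ * u * (c⁻¹ * u) = c⁻¹ * (u * c⁻¹) * u := by group
        _ = c⁻¹ * (c * u) * u := by rw [this]
        _ = u * u := by group
        _ = 1 := hu2
    · intro h1
      rw [h1] at hinvd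
      apply hd2
      rw [← hinvd]; simp
  have hhx : (c⁻¹ * u) • x = x := by
    rw [← smul_smul, hu.2, inv_smul_eq_iff, hcx]
  set h := c⁻¹ * u with hh
  have hh1 : h⁻¹ = h := inv_eq_self_of_orderOf_eq_two hh2
  have hh3 : h * h = 1 := (orderOf_two_iff.1 hh2).1
  have hd'x : d⁻¹ • x = x := by rw [inv_smul_eq_iff, hx]
  have hcomm := comm_of_same_fix T hnc hnn hC (x := x) (s := h) (t := d⁻¹ * h * d) ⟨hh2, hhx⟩
    ⟨by
      have := Cfsg.Agent.Lib.SylowTools.orderOf_conj' d⁻¹ h
      rw [inv_inv] at this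
      rw [this, hh2], by rw [← smul_smul, ← smul_smul, hx, hhx, hd'x]⟩
  -- h d⁻¹ h = d
  have h5 : h * d⁻¹ * h = d := by
    calc h * d⁻¹ * h = h * d⁻¹ * h⁻¹ := by rw [hh1]
      _ = (h * d * h⁻¹)⁻¹ := by group
      _ = d := by rw [hinvd, inv_inv]
  have h6 : h * (d⁻¹ * h * d) = d * d := by
    calc h * (d⁻¹ * h * d) = (h * d⁻¹ * h) * d := by group
      _ = d * d := by rw [h5]
  have h7 : (d⁻¹ * h * d) * h = d⁻¹ * d⁻¹ := by
    have h8 : h * d * h = d⁻¹ := by
      nth_rewrite 2 [← hh1]
      exact hinvd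
    calc (d⁻¹ * h * d) * h = d⁻¹ * (h * d * h) := by group
      _ = d⁻¹ * d⁻¹ := by rw [h8]
  rw [h6, h7] at hcomm
  have h9 : d ^ 4 = 1 := by
    have h91 : d ^ 4 = (d * d) * (d * d) := by
      simp only [pow_succ, pow_zero, one_mul, mul_assoc]
    rw [h91]
    nth_rewrite 1 [hcomm]
    group
  have h10 : orderOf d ∣ 4 := orderOf_dvd_of_pow_eq_one h9
  have h11 : orderOf d = 1 := by
    have h12 : Nat.Coprime (orderOf d) 4 := by
      have : Nat.Coprime (orderOf d) (2 ^ 2) :=
        Nat.Coprime.pow_right _ (Nat.coprime_two_right.2 hodd)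
      exact this
    exact Nat.eq_one_of_dvd_coprimes h12 dvd_rfl h10
  exact hd1 (orderOf_eq_one_iff.1 h11)

include hnc hnn hC in
theorem exists_ne_base : ∃ y : Pts T, base T ≠ y := by
  by_contra h
  push Not at h
  apply (stronglyEmbedded T hnc hnn hC).1
  rw [eq_top_iff]
  intro g _
  have := h (QuotientGroup.mk g)
  rw [QuotientGroup.eq] at this
  simpa using this

include hnc hnn hC in
theorem card_normalizer : Nat.card (Subgroup.normalizer ((T : Subgroup G) : Set G)) =
    Nat.card T * (Nat.card T - 1) := by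
  obtain ⟨y, hy⟩ := exists_ne_base T hnc hnn hC
  obtain ⟨t, htT, ht, htc⟩ := exists_central T hnc hC
  have htb : t ∈ invSwap G (base T) (base T) := by
    rw [invFix_base T hnc hC]
    exact ⟨htT, by rintro rfl; simp at ht⟩
  have h1 := card_conj_orbit (Subgroup.normalizer ((T : Subgroup G) : Set G)) t
  have h2 : {v : G | ∃ k ∈ Subgroup.normalizer ((T : Subgroup G) : Set G), k * t * k⁻¹ = v} =
      invSwap G (base T) (base T) := by
    ext v
    constructor
    · rintro ⟨k, hk, rfl⟩
      rw [invFix_base T hnc hC]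
      refine ⟨(Subgroup.mem_normalizer_iff.1 hk t).1 htT, ?_⟩
      intro h
      rw [Set.mem_singleton_iff] at h
      have h3 := Cfsg.Agent.Lib.SylowTools.orderOf_conj' k t
      rw [h, ht] at h3
      simp at h3
    · intro hv
      obtain ⟨k, hk1, -, hk3⟩ := exists_conj_fix (uf T hnc hnn hC) hy htb hv
      exact ⟨k, (smul_one_eq_iff k).1 hk1, hk3⟩
  have h3 : Subgroup.normalizer ((T : Subgroup G) : Set G) ⊓ Subgroup.centralizer ({t} : Set G) =
      (T : Subgroup G) := by
    rw [htc]
    exact inf_eq_right.2 Subgroup.le_normalizer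
  rw [h2, h3, ncard_invFix T hnc hC] at h1
  rw [h1, mul_comm]

include hnc hnn hC in
theorem card_pts : Nat.card (Pts T) = Nat.card T + 1 := by
  classical
  have := Fintype.ofFinite G
  have := Fintype.ofFinite (Pts T)
  set q := Nat.card T with hq
  have hq4 := four_le_card T hnc hC
  obtain ⟨y, hy⟩ := exists_ne_base T hnc hnn hC
  -- lower bound: T acts semiregularly
  have hlow : q ≤ Nat.card (Pts T) - 1 := by
    have h1 : (((T : Subgroup G) : Set G)).ncard ≤ ((Set.univ : Set (Pts T)) \ {base T}).ncard := by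
      apply Set.ncard_le_ncard_of_injOn (fun t => t • y)
      · intro t ht
        refine ⟨Set.mem_univ _, ?_⟩
        intro h
        rw [Set.mem_singleton_iff] at h
        have h2 : t • base T = base T := by
          rw [smul_one_eq_iff]
          exact Subgroup.le_normalizer ht
        exact hy (MulAction.injective t (h2.trans h.symm))
      · intro s hs t ht hst
        by_contra hne
        have h3 : s⁻¹ * t ∈ (T : Subgroup G) :=
          (T : Subgroup G).mul_mem ((T : Subgroup G).inv_mem hs) ht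
        have h4 : s⁻¹ * t ≠ 1 := by
          intro h
          exact hne (inv_mul_eq_one.1 h)
        apply not_mem_both (uf T hnc hnn hC) hy (orderOf_of_mem T hnc hC h3 h4)
        · rw [smul_one_eq_iff]
          exact Subgroup.le_normalizer h3
        · change s • y = t • y at hst
          rw [← smul_smul, ← hst, smul_smul]; simp
    rw [Set.ncard_sdiff_singleton_of_mem (Set.mem_univ _), Set.ncard_univ] at h1
    exact h1
  -- upper bound
  have hup : Nat.card (Pts T) - 1 ≤ q := by
    let A : Pts T → Finset G := fun z => (Finset.univ.filter (fun g : G =>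
      g • base T = base T ∧ g • z = z)).erase 1
    have hA : ∀ z, z ≠ base T → (A z).card = q - 2 := by
      intro z hz
      have h1 := card_two T hnc hnn hC (x := base T) (y := z) (Ne.symm hz)
      have h2 : (Finset.univ.filter (fun g : G => g • base T = base T ∧ g • z = z)).card =
          Nat.card ↥(stabilizer G (base T) ⊓ stabilizer G z) := by
        rw [Nat.card_eq_fintype_card]
        symm
        apply Fintype.card_of_subtype
        intro g
        rw [Finset.mem_filter, Subgroup.mem_inf, mem_stabilizer_iff, mem_stabilizer_iff]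
        exact ⟨fun h => h.2, fun h => ⟨Finset.mem_univ _, h⟩⟩
      rw [Finset.card_erase_of_mem, h2, h1]
      · omega
      · rw [Finset.mem_filter]
        exact ⟨Finset.mem_univ _, one_smul _ _, one_smul _ _⟩
    have hdisj : ∀ z ∈ (Finset.univ.erase (base T)), ∀ z' ∈ (Finset.univ.erase (base T)), z ≠ z' →
        Disjoint (A z) (A z') := by
      intro z hz z' hz' hne
      rw [Finset.disjoint_left]
      intro g hg hg'
      simp only [A, Finset.mem_erase, Finset.mem_filter, Finset.mem_univ, true_and] at hg hg' hz hz'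
      exact hg.1 (eq_one_of_three T hnc hnn hC (x := base T) (y := z) (z := z')
        (Ne.symm hz.1) (Ne.symm hz'.1) hne hg.2.1 hg.2.2 hg'.2.2)
    let B : Finset G := (Finset.univ.filter (fun g : G =>
      g ∈ Subgroup.normalizer ((T : Subgroup G) : Set G))) \
      (Finset.univ.filter (fun g : G => g ∈ (T : Subgroup G)))
    have hBcard : B.card = q * (q - 1) - q := by
      rw [Finset.card_sdiff_of_subset]
      · congr 1
        · rw [← card_normalizer T hnc hnn hC, Nat.card_eq_fintype_card]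
          symm
          apply Fintype.card_of_subtype
          intro g; simp
        · rw [hq]
          change _ = Nat.card (T : Subgroup G)
          rw [Nat.card_eq_fintype_card]
          symm
          apply Fintype.card_of_subtype
          intro g; simp
      · intro g hg
        simp only [Finset.mem_filter, Finset.mem_univ, true_and] at hg ⊢
        exact Subgroup.le_normalizer hg
    have hsub : (Finset.univ.erase (base T)).biUnion A ⊆ B := by
      intro g hg
      rw [Finset.mem_biUnion] at hg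
      obtain ⟨z, hz, hg⟩ := hg
      simp only [A, Finset.mem_erase, Finset.mem_filter, Finset.mem_univ, true_and, and_true] at hg hz
      simp only [B, Finset.mem_sdiff, Finset.mem_filter, Finset.mem_univ, true_and]
      refine ⟨(smul_one_eq_iff g).1 hg.2.1, ?_⟩
      intro hgT
      exact not_mem_both (uf T hnc hnn hC) (Ne.symm hz) (orderOf_of_mem T hnc hC hgT hg.1)
        hg.2.1 hg.2.2
    have hcard := Finset.card_le_card hsub
    rw [Finset.card_biUnion hdisj, hBcard, Finset.sum_congr rfl (fun z hz => hA z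
      (Finset.mem_erase.1 hz).1), Finset.sum_const, Finset.card_erase_of_mem (Finset.mem_univ _),
      Finset.card_univ, smul_eq_mul, ← Nat.card_eq_fintype_card] at hcard
    have h3 : q * (q - 1) - q = q * (q - 2) := by
      rw [← Nat.mul_sub_one]
      congr 1
    rw [h3] at hcard
    exact Nat.le_of_mul_le_mul_right hcard (by omega)
  have hpos : 0 < Nat.card (Pts T) := Nat.card_pos
  omega

include hnc hnn hC in
/-- `T` is regular on the points different from the base point -/
theorem regular {x y : Pts T} (hx : x ≠ base T) (hy : y ≠ base T) :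
    ∃! t : G, t ∈ (T : Subgroup G) ∧ t • x = y := by
  classical
  have huniq : ∀ s t : G, s ∈ (T : Subgroup G) → t ∈ (T : Subgroup G) → s • x = t • x → s = t := by
    intro s t hs ht hst
    by_contra hne
    have h3 : s⁻¹ * t ∈ (T : Subgroup G) :=
      (T : Subgroup G).mul_mem ((T : Subgroup G).inv_mem hs) ht
    have h4 : s⁻¹ * t ≠ 1 := by
      intro h
      exact hne (inv_mul_eq_one.1 h)
    apply not_mem_both (uf T hnc hnn hC) hx (orderOf_of_mem T hnc hC h3 h4)
    · rw [← smul_smul, ← hst, smul_smul]; simp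
    · rw [smul_one_eq_iff]
      exact Subgroup.le_normalizer h3
  let f : ↥(T : Subgroup G) → {z : Pts T // z ≠ base T} := fun t => ⟨(t : G) • x, by
    intro h
    apply hx
    have h2 : (t : G) • base T = base T := by
      rw [smul_one_eq_iff]
      exact Subgroup.le_normalizer t.2
    exact MulAction.injective (t : G) (h.trans h2.symm)⟩
  have hinj : Function.Injective f := by
    intro s t hst
    exact Subtype.ext (huniq s t s.2 t.2 (congrArg Subtype.val hst))
  have hcard : Nat.card (T : Subgroup G) = Nat.card {z : Pts T // z ≠ base T} := by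
    have := Fintype.ofFinite (Pts T)
    have h1 := card_pts T hnc hnn hC
    rw [Nat.card_eq_fintype_card] at h1
    rw [Nat.card_eq_fintype_card (α := {z : Pts T // z ≠ base T}), Fintype.card_subtype_compl,
      Fintype.card_subtype_eq, h1]
    rfl
  have hbij : Function.Bijective f :=
    (Nat.bijective_iff_injective_and_card f).2 ⟨hinj, hcard⟩
  obtain ⟨t, ht⟩ := hbij.2 ⟨y, hy⟩
  refine ⟨t, ⟨t.2, congrArg Subtype.val ht⟩, ?_⟩
  rintro s ⟨hs, hsx⟩
  exact huniq s t hs t.2 (hsx.trans (congrArg Subtype.val ht).symm)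

include hnc hnn hC in
/-- two-point stabilizers are transitive on the remaining points -/
theorem three_trans {x y z w : Pts T} (hxy : x ≠ y) (hz1 : z ≠ x) (hz2 : z ≠ y)
    (hw1 : w ≠ x) (hw2 : w ≠ y) : ∃ g : G, g • x = x ∧ g • y = y ∧ g • z = w := by
  classical
  let f : ↥(stabilizer G x ⊓ stabilizer G y) → {z : Pts T // ¬ (z = x ∨ z = y)} :=
    fun t => ⟨(t : G) • z, by
      have h1 : (t : G) • x = x := t.2.1
      have h2 : (t : G) • y = y := t.2.2
      rintro (h | h)
      · exact hz1 (MulAction.injective (t : G) (h.trans h1.symm))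
      · exact hz2 (MulAction.injective (t : G) (h.trans h2.symm))⟩
  have hinj : Function.Injective f := by
    intro s t hst
    have h0 : (s : G) • z = (t : G) • z := congrArg Subtype.val hst
    have h1 : (s : G) • x = x := s.2.1
    have h2 : (s : G) • y = y := s.2.2
    have h3 : (t : G) • x = x := t.2.1
    have h4 : (t : G) • y = y := t.2.2
    have h5 : (s : G)⁻¹ * t = 1 := by
      apply eq_one_of_three T hnc hnn hC hxy (Ne.symm hz1) (Ne.symm hz2)
      · rw [← smul_smul, h3, inv_smul_eq_iff, h1]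
      · rw [← smul_smul, h4, inv_smul_eq_iff, h2]
      · rw [← smul_smul, inv_smul_eq_iff, h0]
    exact Subtype.ext (inv_mul_eq_one.1 h5)
  have hcard : Nat.card ↥(stabilizer G x ⊓ stabilizer G y) =
      Nat.card {z : Pts T // ¬ (z = x ∨ z = y)} := by
    have := Fintype.ofFinite (Pts T)
    have h1 := card_pts T hnc hnn hC
    rw [Nat.card_eq_fintype_card] at h1
    rw [card_two T hnc hnn hC hxy, Nat.card_eq_fintype_card (α := {z : Pts T // ¬ (z = x ∨ z = y)}),
      Fintype.card_subtype_compl, h1]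
    have h2 : Fintype.card {z : Pts T // z = x ∨ z = y} = 2 := by
      rw [Fintype.card_of_subtype ({x, y} : Finset (Pts T))]
      · exact Finset.card_pair hxy
      · intro z; simp
    rw [h2]
    rfl
  have hbij : Function.Bijective f :=
    (Nat.bijective_iff_injective_and_card f).2 ⟨hinj, hcard⟩
  obtain ⟨g, hg⟩ := hbij.2 ⟨w, by rintro (h | h); exacts [hw1 h, hw2 h]⟩
  exact ⟨g, g.2.1, g.2.2, congrArg Subtype.val hg⟩

include hnc hnn hC in
theorem two_trans {x y z : Pts T} (hy : y ≠ x) (hz : z ≠ x) : ∃ g : G, g • x = x ∧ g • y = z := by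
  obtain ⟨k, hk⟩ := exists_smul_eq G x (base T)
  have h1 : k • y ≠ base T := fun h => hy (MulAction.injective k (h.trans hk.symm))
  have h2 : k • z ≠ base T := fun h => hz (MulAction.injective k (h.trans hk.symm))
  obtain ⟨t, ⟨ht, htx⟩, -⟩ := regular T hnc hnn hC h1 h2
  have h3 : t • base T = base T := by
    rw [smul_one_eq_iff]; exact Subgroup.le_normalizer ht
  refine ⟨k⁻¹ * t * k, ?_, ?_⟩
  · rw [← smul_smul, ← smul_smul, hk, h3, ← hk, smul_smul]; simp
  · rw [← smul_smul, ← smul_smul, htx, smul_smul]; simp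

omit [Finite G] in
/-- the intersection is a two-point stabilizer -/
theorem inf_eq (u : G) : Subgroup.normalizer ((T : Subgroup G) : Set G) ⊓
    (Subgroup.normalizer ((T : Subgroup G) : Set G)).map (MulAut.conj u).toMonoidHom =
    stabilizer G (base T) ⊓ stabilizer G (QuotientGroup.mk u : Pts T) := by
  rw [stabilizer_one, stabilizer_mk]

end Cfsg.Agent.Lib.ElemCent
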