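import Mathlib
import Cfsg.Agent.Lib.EPPO3
import Cfsg.Agent.S0205
import Cfsg.Agent.S0041
import Cfsg.Agent.Lib.SubgroupTools
import Cfsg.Agent.S3992

/-!
Finite groups all of whose elements have prime power order, non-solvable case (helper68).
-/

set_option autoImplicit false
set_option linter.all false

namespace Cfsg.Agent.Lib.EppoFour

open Subgroup Cfsg.Agent.Lib.EPPO

universe u

/-- the centre of a nontrivial normal `p`-subgroup -/
theorem exists_abelian_normal {G : Type u} [Group G] [Finite G] {p : ℕ} (hp : p.Prime) (R : Subgroup G) [hRn : R.Normal]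
    (hR : IsPGroup p R) (hR1 : R ≠ ⊥) :
    ∃ V : Subgroup G, V.Normal ∧ V ≤ R ∧ V ≠ ⊥ ∧ (∀ a ∈ V, ∀ b ∈ V, a * b = b * a) := by
  have := Fact.mk hp
  have : Nontrivial R := (Subgroup.nontrivial_iff_ne_bot _).2 hR1
  have hc : Nontrivial (center R) := hR.center_nontrivial
  refine ⟨(center R).map R.subtype, ?_, ?_, ?_, ?_⟩
  · constructor
    rintro _ ⟨a, ha, rfl⟩ g
    refine ⟨⟨g * a * g⁻¹, hRn.conj_mem _ a.2 g⟩, ?_, rfl⟩
    rw [SetLike.mem_coe, mem_center_iff] at ha ⊢
    intro b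
    apply Subtype.ext
    have h1 := congrArg (fun z : R => (z : G)) (ha ⟨g⁻¹ * b * g, by simpa using hRn.conj_mem _ b.2 g⁻¹⟩)
    have h2 : (g⁻¹ * b * g) * a = a * (g⁻¹ * b * g) := h1
    show (b : G) * (g * a * g⁻¹) = (g * a * g⁻¹) * b
    calc (b : G) * (g * a * g⁻¹) = g * ((g⁻¹ * b * g) * a) * g⁻¹ := by group
      _ = g * (a * (g⁻¹ * b * g)) * g⁻¹ := by rw [h2]
      _ = _ := by group
  · rintro _ ⟨a, -, rfl⟩; exact a.2
  · intro h
    rw [Subgroup.map_eq_bot_iff_of_injective _ R.subtype_injective] at h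
    exact ((Subgroup.nontrivial_iff_ne_bot _).1 hc) h
  · rintro _ ⟨a, ha, rfl⟩ _ ⟨b, hb, rfl⟩
    exact congrArg (fun z : R => (z : G)) (mem_center_iff.1 hb a)

theorem solvable_of_quot {G : Type u} [Group G] (N : Subgroup G) [N.Normal] (h1 : Group.IsSolvable N)
    (h2 : Group.IsSolvable (G ⧸ N)) : Group.IsSolvable G :=
  Group.isSolvable_of_ker_le_range N.subtype (QuotientGroup.mk' N) (by simp)

theorem exists_orderOf_prime {G : Type u} [Group G] [Finite G] {V : Subgroup G} {p : ℕ} (hp : p.Prime)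
    (hV : IsPGroup p V) (hV1 : V ≠ ⊥) : ∃ v ∈ V, orderOf v = p := by
  have := Fact.mk hp
  have hd : p ∣ Nat.card V := by
    obtain ⟨n, hn⟩ := IsPGroup.iff_card.1 hV
    have hn0 : n ≠ 0 := by
      rintro rfl
      exact hV1 (Subgroup.card_eq_one.1 (by rw [hn, pow_zero]))
    rw [hn]; exact dvd_pow_self _ hn0
  obtain ⟨v, hv⟩ := exists_prime_orderOf_dvd_card' (G := V) p hd
  exact ⟨v, v.2, by rw [Subgroup.orderOf_coe, hv]⟩

/-- in a non-solvable EPPO group the normal `p`-subgroups with `p` odd are trivial -/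
theorem p_eq_two {G : Type u} [Group G] [Finite G] (hE : IsEPPO G) (hns : ¬ Group.IsSolvable G) {p : ℕ}
    (hp : p.Prime) (R : Subgroup G) [hRn : R.Normal] (hR : IsPGroup p R) (hR1 : R ≠ ⊥) : p = 2 := by
  by_contra hp2
  have := Fact.mk hp
  obtain ⟨V, hVn, hVR, hV1, hVc⟩ := exists_abelian_normal hp R hR hR1
  have hVp : IsPGroup p V := hR.to_le hVR
  obtain ⟨v0, hv0, hv0p⟩ := exists_orderOf_prime hp hVp hV1
  have hev : 2 ∣ Nat.card G := by
    by_contra h
    exact hns (Cfsg.Agent.S0205.result (Nat.odd_iff.2 (by omega)))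
  obtain ⟨t, ht⟩ := exists_prime_orderOf_dvd_card' (G := G) 2 hev
  have htt : t * t = 1 := by
    have := pow_orderOf_eq_one t
    rwa [ht, sq] at this
  -- involutions invert `V`
  have hinv : ∀ s : G, orderOf s = 2 → ∀ v ∈ V, s * v * s⁻¹ = v⁻¹ := by
    intro s hs v hv
    have hss : s * s = 1 := by
      have := pow_orderOf_eq_one s
      rwa [hs, sq] at this
    have hsi : s⁻¹ = s := by rw [inv_eq_iff_mul_eq_one, hss]
    have hw : s * v * s⁻¹ ∈ V := hVn.conj_mem v hv s
    by_contra hne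
    have hx : v * (s * v * s⁻¹) ≠ 1 := by
      intro h
      exact hne (eq_inv_of_mul_eq_one_right h)
    have hcomm : Commute (v * (s * v * s⁻¹)) s := by
      have h1 := hVc v hv _ hw
      show v * (s * v * s⁻¹) * s = s * (v * (s * v * s⁻¹))
      rw [hsi] at h1 ⊢
      calc v * (s * v * s) * s = (s * v * s * v) * s := by rw [h1]
        _ = s * (v * (s * v * s)) := by group
    have hxV : v * (s * v * s⁻¹) ∈ V := V.mul_mem hv hw
    obtain ⟨k, hk⟩ := hVp ⟨_, hxV⟩
    have hk' : (v * (s * v * s⁻¹)) ^ p ^ k = 1 := congrArg Subtype.val hk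
    obtain ⟨j, -, hj⟩ := (Nat.dvd_prime_pow hp).1 (orderOf_dvd_of_pow_eq_one hk')
    have hj0 : j ≠ 0 := by
      rintro rfl
      rw [pow_zero, orderOf_eq_one_iff] at hj
      exact hx hj
    obtain ⟨i, rfl⟩ := Nat.exists_eq_succ_of_ne_zero hj0
    have h3 : orderOf ((v * (s * v * s⁻¹)) ^ p ^ i) = p := by
      rw [orderOf_pow_of_dvd (pow_pos hp.pos _).ne' (by rw [hj]; exact pow_dvd_pow _ (Nat.le_succ _)), hj,
        Nat.succ_eq_add_one, pow_succ, Nat.mul_div_cancel_left _ (pow_pos hp.pos _)]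
    exact no_mixed hE hp Nat.prime_two hp2 (hcomm.pow_left _) h3 hs
  have hKp : IsPGroup p (centralizer (V : Set G)) := by
    apply isPGroup_centralizer hE hp hv0p
    intro c hc
    exact (mem_centralizer_iff.1 hc v0 hv0).symm
  have hKn : (centralizer (V : Set G)).Normal := inferInstance
  have htK : t ∉ centralizer (V : Set G) := by
    intro h
    obtain ⟨k, hk⟩ := hKp ⟨t, h⟩
    have hk' : t ^ p ^ k = 1 := congrArg Subtype.val hk
    have h2 := orderOf_dvd_of_pow_eq_one hk'
    rw [ht] at h2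
    exact hp2 ((Nat.prime_dvd_prime_iff_eq Nat.prime_two hp).1 (Nat.prime_two.dvd_of_dvd_pow h2)).symm
  have hcen : ∀ g : G, g * t * g⁻¹ * t⁻¹ ∈ centralizer (V : Set G) := by
    intro g
    rw [mem_centralizer_iff]
    intro v hv
    have h1 := hinv t ht v hv
    have h2 := hinv (g * t * g⁻¹) (by rw [← ht]; exact orderOf_injective (MulAut.conj g).toMonoidHom (MulAut.conj g).injective t)
      v⁻¹ (V.inv_mem hv)
    have h3 : g * t * g⁻¹ * v⁻¹ * (g * t * g⁻¹)⁻¹ = v := by rw [h2, inv_inv]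
    have h5 : t⁻¹ * v * t = v⁻¹ := by
      have h4 := hinv t ht (t⁻¹ * v * t) (by simpa using hVn.conj_mem v hv t⁻¹)
      have h6 : t * (t⁻¹ * v * t) * t⁻¹ = v := by group
      rw [h6] at h4
      have h4' := congrArg (fun z => z⁻¹) h4
      simpa using h4'.symm
    have h6 : t⁻¹ * v = v⁻¹ * t⁻¹ := by
      rw [← h5]; group
    calc v * (g * t * g⁻¹ * t⁻¹) = (g * t * g⁻¹ * v⁻¹ * (g * t * g⁻¹)⁻¹) * (g * t * g⁻¹ * t⁻¹) := by rw [h3]
      _ = g * t * g⁻¹ * (v⁻¹ * t⁻¹) := by group
      _ = g * t * g⁻¹ * (t⁻¹ * v) := by rw [h6]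
      _ = _ := by group
  apply hns
  apply solvable_of_quot (centralizer (V : Set G)) (isSolvable_of_isPGroup hp hKp)
  apply isSolvable_of_isPGroup Nat.prime_two
  have hE' := hE.quotient (centralizer (V : Set G))
  have ht' : orderOf (t : G ⧸ centralizer (V : Set G)) = 2 := by
    apply orderOf_eq_prime
    · rw [← QuotientGroup.mk_pow, sq, htt]; rfl
    · intro h
      exact htK ((QuotientGroup.eq_one_iff t).1 h)
  have h7 : IsPGroup 2 (⊤ : Subgroup (G ⧸ centralizer (V : Set G))) := by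
    apply isPGroup_centralizer hE' Nat.prime_two ht'
    intro c _
    obtain ⟨g, rfl⟩ := QuotientGroup.mk_surjective c
    have h8 := (QuotientGroup.eq_one_iff _).2 (hcen g)
    show (g : G ⧸ centralizer (V : Set G)) * (t : G ⧸ centralizer (V : Set G)) = t * g
    rw [QuotientGroup.mk_mul, QuotientGroup.mk_mul, QuotientGroup.mk_mul, QuotientGroup.mk_inv, QuotientGroup.mk_inv,
      mul_inv_eq_one, mul_inv_eq_iff_eq_mul] at h8
    exact h8
  intro x
  obtain ⟨k, hk⟩ := h7 ⟨x, mem_top _⟩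
  exact ⟨k, congrArg Subtype.val hk⟩


theorem normalizer_card {X : Type u} [Group X] [Finite X] (hE : IsEPPO X) {p : ℕ} (hp : p.Prime) {P : Subgroup X}
    (hP : Nat.card P = p) :
    ∃ a e, Nat.card (normalizer (P : Set X)) = p ^ a * e ∧ e ∣ p - 1 ∧ (e = 1 ∨ IsPrimePow e) := by
  have := Fact.mk hp
  have hPc : IsCyclic P := isCyclic_of_prime_card hP
  let φ := P.normalizerMonoidHom
  have hker : IsPGroup p φ.ker := by
    obtain ⟨z, hz⟩ := exists_prime_orderOf_dvd_card' (G := P) p (by rw [hP])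
    have h1 : IsPGroup p (centralizer (P : Set X)) := by
      apply isPGroup_centralizer hE hp (z := (z : X)) (by rw [Subgroup.orderOf_coe, hz])
      intro c hc
      exact (mem_centralizer_iff.1 hc z z.2).symm
    rintro ⟨⟨x, hx⟩, hx2⟩
    rw [normalizerMonoidHom_ker] at hx2
    obtain ⟨k, hk⟩ := h1 ⟨x, mem_subgroupOf.1 hx2⟩
    have hk' : x ^ p ^ k = 1 := congrArg Subtype.val hk
    exact ⟨k, Subtype.ext (Subtype.ext hk')⟩
  obtain ⟨a, ha⟩ := IsPGroup.iff_card.1 hker
  refine ⟨a, Nat.card φ.range, ?_, ?_, ?_⟩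
  · rw [Subgroup.card_eq_card_quotient_mul_card_subgroup φ.ker, ha, mul_comm]
    congr 1
    exact Nat.card_congr (QuotientGroup.quotientKerEquivRange φ).toEquiv
  · have h2 : Nat.card φ.range ∣ Nat.card (MulAut P) := Subgroup.card_subgroup_dvd_card _
    rw [IsCyclic.card_mulAut, hP, Nat.totient_prime hp] at h2
    exact h2
  · have hcyc : IsCyclic (MulAut P) := by
      have e := IsCyclic.mulAutMulEquiv P
      rw [hP] at e
      exact isCyclic_of_surjective e.symm.toMonoidHom e.symm.surjective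
    obtain ⟨⟨y, n, hn⟩, hy⟩ := IsCyclic.exists_generator (α := φ.range)
    have hcard : orderOf y = Nat.card φ.range := by
      have := orderOf_eq_card_of_forall_mem_zpowers hy
      rw [← this, ← Subgroup.orderOf_coe]
    by_cases hy1 : y = 1
    · left
      rw [← hcard, hy1, orderOf_one]
    · right
      rw [← hcard]
      have h3 : n ≠ 1 := by
        rintro rfl
        exact hy1 (by rw [← hn, map_one])
      have h4 : orderOf y ∣ orderOf n := by rw [← hn]; exact orderOf_map_dvd φ n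
      have h5 : IsPrimePow (orderOf n) := hE.subgroup _ n h3
      exact h5.dvd h4 (fun h => hy1 (orderOf_eq_one_iff.1 h))

theorem frattini_card {X : Type u} [Group X] [Finite X] (M : Subgroup X) [hM : M.Normal] {p : ℕ} [Fact p.Prime]
    (P : Sylow p M) : Nat.card (normalizer (((P : Subgroup M).map M.subtype : Subgroup X) : Set X)) =
      Nat.card (normalizer ((P : Subgroup M) : Set M)) * M.index := by
  set Q : Subgroup X := (P : Subgroup M).map M.subtype with hQ
  have h1 : normalizer (Q : Set X) ⊔ M = ⊤ := Sylow.normalizer_sup_eq_top P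
  have h2 := SubgroupTools.card_sup_mul_card_inf (N := M) (H := normalizer (Q : Set X)) (by
    rw [Subgroup.normalizer_eq_top (H := M)]; exact le_top)
  rw [sup_comm, h1, card_top] at h2
  have h3 : Nat.card (M ⊓ normalizer (Q : Set X) : Subgroup X) = Nat.card (normalizer ((P : Subgroup M) : Set M)) := by
    have h4 : (M ⊓ normalizer (Q : Set X) : Subgroup X) = (normalizer ((P : Subgroup M) : Set M)).map M.subtype := by
      ext x
      constructor
      · rintro ⟨hxM, hxN⟩
        refine ⟨⟨x, hxM⟩, ?_, rfl⟩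
        rw [SetLike.mem_coe, mem_normalizer_iff]
        intro y
        have h5 := mem_normalizer_iff.1 hxN (y : X)
        have h6 : ∀ z : M, z ∈ (P : Subgroup M) ↔ (z : X) ∈ Q := by
          intro z
          constructor
          · intro hz; exact ⟨z, hz, rfl⟩
          · rintro ⟨w, hw, hwz⟩
            have : w = z := Subtype.ext hwz
            rwa [← this]
        rw [h6, h6, h5]; rfl
      · rintro ⟨y, hy, rfl⟩
        refine ⟨y.2, ?_⟩
        show (y : X) ∈ normalizer (Q : Set X)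
        rw [mem_normalizer_iff]
        intro z
        rw [SetLike.mem_coe, mem_normalizer_iff] at hy
        constructor
        · rintro ⟨w, hw, rfl⟩
          exact ⟨y * w * y⁻¹, (hy w).1 hw, rfl⟩
        · rintro ⟨w, hw, hwz⟩
          refine ⟨y⁻¹ * w * y, ?_, ?_⟩
          · rw [SetLike.mem_coe, hy]
            have : y * (y⁻¹ * w * y) * y⁻¹ = w := by group
            rwa [this]
          · have hwz' : (w : X) = (y : X) * z * (y : X)⁻¹ := hwz
            show (y : X)⁻¹ * (w : X) * (y : X) = z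
            rw [hwz']; group
    rw [h4]
    exact Subgroup.card_map_of_injective M.subtype_injective
  rw [h3] at h2
  have h7 := Subgroup.card_mul_index M
  rw [← h7] at h2
  have h8 : Nat.card M * Nat.card (normalizer (Q : Set X)) =
      Nat.card M * (Nat.card (normalizer ((P : Subgroup M) : Set M)) * M.index) := by rw [← h2]; ring
  exact Nat.eq_of_mul_eq_mul_left Nat.card_pos h8

theorem index_info {X : Type u} [Group X] [Finite X] (hE : IsEPPO X) (M : Subgroup X) [hM : M.Normal] {p : ℕ}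
    (hp : p.Prime) (hpM : p ∣ Nat.card M) (hp2 : ¬ p ^ 2 ∣ Nat.card M) :
    ∃ a e e' n, Nat.card M = n * (p * e) ∧ n ≡ 1 [MOD p] ∧ e ∣ p - 1 ∧ e' ∣ p - 1 ∧ (e' = 1 ∨ IsPrimePow e') ∧
      p * e * M.index = p ^ a * e' := by
  have := Fact.mk hp
  obtain ⟨P⟩ : Nonempty (Sylow p M) := inferInstance
  have hPcard : Nat.card (P : Subgroup M) = p := by
    obtain ⟨k, hk⟩ := IsPGroup.iff_card.1 P.isPGroup'
    have h1 : p ∣ Nat.card (P : Subgroup M) := P.dvd_card_of_dvd_card hpM
    have h2 : Nat.card (P : Subgroup M) ∣ Nat.card M := Subgroup.card_subgroup_dvd_card _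
    rw [hk] at h1 h2 ⊢
    rcases k with _ | _ | k
    · rw [pow_zero] at h1
      exact absurd (Nat.dvd_one.1 h1) hp.one_lt.ne'
    · rw [zero_add, pow_one]
    · exfalso
      exact hp2 ((pow_dvd_pow p (by omega)).trans h2)
  obtain ⟨b, e, hb, hed, -⟩ := normalizer_card (hE.subgroup M) hp hPcard
  obtain ⟨a, e', ha, hed', he'⟩ := normalizer_card hE hp (P := (P : Subgroup M).map M.subtype) (by
    rw [Subgroup.card_map_of_injective M.subtype_injective, hPcard])
  have hb1 : b = 1 := by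
    have h3 : p ∣ Nat.card (normalizer ((P : Subgroup M) : Set M)) := by
      have h33 : Nat.card (P : Subgroup M) ∣ Nat.card (normalizer ((P : Subgroup M) : Set M)) :=
        Subgroup.card_dvd_of_le le_normalizer
      rwa [hPcard] at h33
    have h4 : Nat.card (normalizer ((P : Subgroup M) : Set M)) ∣ Nat.card M := Subgroup.card_subgroup_dvd_card _
    rw [hb] at h3 h4
    have he0 : 0 < e := Nat.pos_of_dvd_of_pos hed (Nat.sub_pos_of_lt hp.one_lt)
    rcases b with _ | _ | b
    · exfalso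
      rw [pow_zero, one_mul] at h3
      have := Nat.le_of_dvd (Nat.sub_pos_of_lt hp.one_lt) (h3.trans hed)
      have := hp.one_lt
      omega
    · rfl
    · exfalso
      exact hp2 (((pow_dvd_pow p (by omega)).trans (dvd_mul_right _ _)).trans h4)
  subst hb1
  rw [pow_one] at hb
  refine ⟨a, e, e', Nat.card (Sylow p M), ?_, card_sylow_modEq_one p M, hed, hed', he', ?_⟩
  · rw [P.card_eq_index_normalizer, ← hb]
    exact (Subgroup.index_mul_card _).symm
  · rw [← hb, ← frattini_card, ha]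


theorem not_isPrimePow_six : ¬ IsPrimePow 6 := not_isPrimePow_mul (p := 2) (q := 3) Nat.prime_two Nat.prime_three (by norm_num)
theorem not_isPrimePow_ten : ¬ IsPrimePow 10 := not_isPrimePow_mul (p := 2) (q := 5) Nat.prime_two Nat.prime_five (by norm_num)

theorem not_isPrimePow_thirty : ¬ IsPrimePow 30 := by
  intro h
  exact not_isPrimePow_six (h.dvd (by norm_num) (by norm_num))

theorem index_dvd {X : Type u} [Group X] [Finite X] (hE : IsEPPO X) (M : Subgroup X) [hM : M.Normal] {p : ℕ}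
    (hp : p.Prime) (hpM : p ∣ Nat.card M) (hp2 : ¬ p ^ 2 ∣ Nat.card M) : ∃ a, M.index ∣ p ^ a * (p - 1) := by
  obtain ⟨a, e, e', n, h1, h2, h3, h4, h5, h6⟩ := index_info hE M hp hpM hp2
  refine ⟨a, (Dvd.intro_left _ h6).trans (Nat.mul_dvd_mul_left _ h4)⟩

theorem dvd_pow_of_mul {p a d : ℕ} (h : p * d = p ^ a) : d ∣ p ^ a := Dvd.intro_left _ h


theorem syl_info {X : Type u} [Group X] [Finite X] (hE : IsEPPO X) {p : ℕ}
    (hp : p.Prime) (hpM : p ∣ Nat.card X) (hp2 : ¬ p ^ 2 ∣ Nat.card X) :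
    ∃ (P : Subgroup X) (e n : ℕ), Nat.card P = p ∧ Nat.card (normalizer (P : Set X)) = p * e ∧
      Nat.card X = n * (p * e) ∧ n ≡ 1 [MOD p] ∧ e ∣ p - 1 := by
  have := Fact.mk hp
  obtain ⟨P⟩ : Nonempty (Sylow p X) := inferInstance
  have hPcard : Nat.card (P : Subgroup X) = p := by
    obtain ⟨k, hk⟩ := IsPGroup.iff_card.1 P.isPGroup'
    have h1 : p ∣ Nat.card (P : Subgroup X) := P.dvd_card_of_dvd_card hpM
    have h2 : Nat.card (P : Subgroup X) ∣ Nat.card X := Subgroup.card_subgroup_dvd_card _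
    rw [hk] at h1 h2 ⊢
    rcases k with _ | _ | k
    · rw [pow_zero] at h1
      exact absurd (Nat.dvd_one.1 h1) hp.one_lt.ne'
    · rw [zero_add, pow_one]
    · exfalso
      exact hp2 ((pow_dvd_pow p (by omega)).trans h2)
  obtain ⟨b, e, hb, hed, -⟩ := normalizer_card hE hp hPcard
  have hb1 : b = 1 := by
    have h3 : p ∣ Nat.card (normalizer ((P : Subgroup X) : Set X)) := by
      have h33 : Nat.card (P : Subgroup X) ∣ Nat.card (normalizer ((P : Subgroup X) : Set X)) :=
        Subgroup.card_dvd_of_le le_normalizer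
      rwa [hPcard] at h33
    have h4 : Nat.card (normalizer ((P : Subgroup X) : Set X)) ∣ Nat.card X := Subgroup.card_subgroup_dvd_card _
    rw [hb] at h3 h4
    have he0 : 0 < e := Nat.pos_of_dvd_of_pos hed (Nat.sub_pos_of_lt hp.one_lt)
    rcases b with _ | _ | b
    · exfalso
      rw [pow_zero, one_mul] at h3
      have := Nat.le_of_dvd (Nat.sub_pos_of_lt hp.one_lt) (h3.trans hed)
      have := hp.one_lt
      omega
    · rfl
    · exfalso
      exact hp2 (((pow_dvd_pow p (by omega)).trans (dvd_mul_right _ _)).trans h4)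
  subst hb1
  rw [pow_one] at hb
  refine ⟨P, e, Nat.card (Sylow p X), hPcard, hb, ?_, card_sylow_modEq_one p X, hed⟩
  rw [P.card_eq_index_normalizer, ← hb]
  exact (Subgroup.index_mul_card _).symm

theorem arith7 {e n : ℕ} (h1 : 20160 = n * (7 * e)) (h2 : n ≡ 1 [MOD 7]) (h3 : e ∣ 6) : e = 3 := by
  have h4 : e ≤ 6 := Nat.le_of_dvd (by norm_num) h3
  have h5 : n % 7 = 1 := h2
  interval_cases e <;> omega

theorem arith8 {e n : ℕ} (h1 : 29120 = n * (7 * e)) (h2 : n ≡ 1 [MOD 7]) (h3 : e ∣ 6) : e = 2 := by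
  have h4 : e ≤ 6 := Nat.le_of_dvd (by norm_num) h3
  have h5 : n % 7 = 1 := h2
  interval_cases e <;> omega

theorem arith32 {e n : ℕ} (h1 : 32537600 = n * (31 * e)) (h2 : n ≡ 1 [MOD 31]) (h3 : e ∣ 30) : e = 2 := by
  have h4 : e ≤ 30 := Nat.le_of_dvd (by norm_num) h3
  have h5 : n % 31 = 1 := h2
  interval_cases e <;> omega

theorem eq_one_of_dvd_dvd {d x y : ℕ} (h1 : d ∣ x) (h2 : d ∣ y) (h : Nat.Coprime x y) : d = 1 :=
  Nat.dvd_one.1 (h.gcd_eq_one ▸ Nat.dvd_gcd h1 h2)

theorem index_20160 {X : Type u} [Group X] [Finite X] (hE : IsEPPO X) (M : Subgroup X) [hM : M.Normal]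
    (hc : Nat.card M = 20160) : M.index = 1 := by
  obtain ⟨a, e, e', n, h1, h2, h3, h4, h5, h6⟩ := index_info hE M (p := 7) (by norm_num) (by rw [hc]; norm_num)
    (by rw [hc]; norm_num)
  rw [hc] at h1
  have he := arith7 h1 h2 h3
  subst he
  have h7 : 3 ∣ e' := by
    have : 3 ∣ 7 ^ a * e' := by rw [← h6]; exact ⟨7 * M.index, by ring⟩
    exact (Nat.Coprime.pow_right a (by norm_num : Nat.Coprime 3 7)).dvd_of_dvd_mul_left this
  have h8 : e' = 3 := by
    have h9 : e' ≤ 6 := Nat.le_of_dvd (by norm_num) h4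
    rcases h5 with h5 | h5
    · omega
    · obtain ⟨c, rfl⟩ := h7
      have : c = 0 ∨ c = 1 ∨ c = 2 := by omega
      rcases this with rfl | rfl | rfl
      · exact absurd h5 not_isPrimePow_zero
      · rfl
      · exact absurd h5 not_isPrimePow_six
  subst h8
  have h10 : M.index ∣ 7 ^ a := by
    have : 7 * M.index = 7 ^ a := by
      have : 3 * (7 * M.index) = 3 * 7 ^ a := by rw [mul_comm 3 (7 ^ a), ← h6]; ring
      exact Nat.eq_of_mul_eq_mul_left (by norm_num) this
    exact dvd_pow_of_mul this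
  obtain ⟨b, hb⟩ := index_dvd hE M (p := 5) (by norm_num) (by rw [hc]; norm_num) (by rw [hc]; norm_num)
  apply eq_one_of_dvd_dvd h10 hb
  exact Nat.Coprime.mul_right (Nat.Coprime.pow _ _ (by norm_num)) (Nat.Coprime.pow_left _ (by norm_num))

theorem index_29120 {X : Type u} [Group X] [Finite X] (hE : IsEPPO X) (M : Subgroup X) [hM : M.Normal]
    (hc : Nat.card M = 29120) : M.index = 1 := by
  obtain ⟨a, e, e', n, h1, h2, h3, h4, h5, h6⟩ := index_info hE M (p := 7) (by norm_num) (by rw [hc]; norm_num)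
    (by rw [hc]; norm_num)
  rw [hc] at h1
  have he := arith8 h1 h2 h3
  subst he
  have h7 : 2 ∣ e' := by
    have : 2 ∣ 7 ^ a * e' := by rw [← h6]; exact ⟨7 * M.index, by ring⟩
    exact (Nat.Coprime.pow_right a (by norm_num : Nat.Coprime 2 7)).dvd_of_dvd_mul_left this
  have h8 : e' = 2 := by
    have h9 : e' ≤ 6 := Nat.le_of_dvd (by norm_num) h4
    have h4' : e' ∣ 6 := h4
    rcases h5 with h5 | h5
    · omega
    · obtain ⟨c, rfl⟩ := h7
      have : c = 0 ∨ c = 1 ∨ c = 2 ∨ c = 3 := by omega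
      rcases this with rfl | rfl | rfl | rfl
      · exact absurd h5 not_isPrimePow_zero
      · rfl
      · norm_num at h4'
      · exact absurd h5 not_isPrimePow_six
  subst h8
  have h10 : M.index ∣ 7 ^ a := by
    have : 7 * M.index = 7 ^ a := by
      have : 2 * (7 * M.index) = 2 * 7 ^ a := by rw [mul_comm 2 (7 ^ a), ← h6]; ring
      exact Nat.eq_of_mul_eq_mul_left (by norm_num) this
    exact dvd_pow_of_mul this
  obtain ⟨b, hb⟩ := index_dvd hE M (p := 5) (by norm_num) (by rw [hc]; norm_num) (by rw [hc]; norm_num)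
  apply eq_one_of_dvd_dvd h10 hb
  exact Nat.Coprime.mul_right (Nat.Coprime.pow _ _ (by norm_num)) (Nat.Coprime.pow_left _ (by norm_num))

theorem index_32537600 {X : Type u} [Group X] [Finite X] (hE : IsEPPO X) (M : Subgroup X) [hM : M.Normal]
    (hc : Nat.card M = 32537600) : M.index = 1 := by
  obtain ⟨a, e, e', n, h1, h2, h3, h4, h5, h6⟩ := index_info hE M (p := 31) (by norm_num) (by rw [hc]; norm_num)
    (by rw [hc]; norm_num)
  rw [hc] at h1
  have he := arith32 h1 h2 h3
  subst he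
  have h7 : 2 ∣ e' := by
    have : 2 ∣ 31 ^ a * e' := by rw [← h6]; exact ⟨31 * M.index, by ring⟩
    exact (Nat.Coprime.pow_right a (by norm_num : Nat.Coprime 2 31)).dvd_of_dvd_mul_left this
  have h8 : e' = 2 := by
    have h9 : e' ≤ 30 := Nat.le_of_dvd (by norm_num) h4
    have h4' : e' ∣ 30 := h4
    rcases h5 with h5 | h5
    · omega
    · obtain ⟨c, rfl⟩ := h7
      have hc15 : c ∣ 15 := Nat.dvd_of_mul_dvd_mul_left (k := 2) (by norm_num) (by simpa using h4')
      have hc9 : c ≤ 15 := Nat.le_of_dvd (by norm_num) hc15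
      by_contra hne
      have hc1 : c ≠ 1 := by rintro rfl; exact hne rfl
      have hodd : ¬ 2 ∣ c := fun h => by
        have := h.trans hc15
        norm_num at this
      obtain ⟨q, hq, hqc⟩ := Nat.exists_prime_and_dvd hc1
      have hq2 : q ≠ 2 := by rintro rfl; exact hodd hqc
      exact not_isPrimePow_mul Nat.prime_two hq hq2.symm
        (h5.dvd (Nat.mul_dvd_mul_left 2 hqc) (by have := hq.two_le; omega))
  subst h8
  have h10 : M.index ∣ 31 ^ a := by
    have : 31 * M.index = 31 ^ a := by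
      have : 2 * (31 * M.index) = 2 * 31 ^ a := by rw [mul_comm 2 (31 ^ a), ← h6]; ring
      exact Nat.eq_of_mul_eq_mul_left (by norm_num) this
    exact dvd_pow_of_mul this
  obtain ⟨b, hb⟩ := index_dvd hE M (p := 41) (by norm_num) (by rw [hc]; norm_num) (by rw [hc]; norm_num)
  apply eq_one_of_dvd_dvd h10 hb
  exact Nat.Coprime.mul_right (Nat.Coprime.pow _ _ (by norm_num)) (Nat.Coprime.pow_left _ (by norm_num))


theorem not_coprime {G : Type u} [Group G] [Finite G] (hE : IsEPPO G) {x y : G} (hx : x ≠ 1) (hy : y ≠ 1)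
    (h : Commute x y) (hc : (orderOf x).Coprime (orderOf y)) : False := by
  have h1 : orderOf x ≠ 1 := fun h => hx (orderOf_eq_one_iff.1 h)
  have h2 : orderOf y ≠ 1 := fun h => hy (orderOf_eq_one_iff.1 h)
  obtain ⟨p, hp, hpx⟩ := Nat.exists_prime_and_dvd h1
  obtain ⟨q, hq, hqy⟩ := Nat.exists_prime_and_dvd h2
  have hpq : p ≠ q := by
    rintro rfl
    exact hp.one_lt.ne' (Nat.dvd_one.1 (hc.gcd_eq_one ▸ Nat.dvd_gcd hpx hqy))
  have h3 : orderOf (x ^ (orderOf x / p)) = p := by
    rw [orderOf_pow_of_dvd (Nat.div_pos (Nat.le_of_dvd (orderOf_pos x) hpx) hp.pos).ne' (Nat.div_dvd_of_dvd hpx)]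
    exact Nat.div_div_self hpx (orderOf_pos x).ne'
  have h4 : orderOf (y ^ (orderOf y / q)) = q := by
    rw [orderOf_pow_of_dvd (Nat.div_pos (Nat.le_of_dvd (orderOf_pos y) hqy) hq.pos).ne' (Nat.div_dvd_of_dvd hqy)]
    exact Nat.div_div_self hqy (orderOf_pos y).ne'
  exact no_mixed hE hp hq hpq (h.pow_pow _ _) h3 h4

theorem no_ext {G : Type u} [Group G] [Finite G] (hE : IsEPPO G) (R : Subgroup G) [hRn : R.Normal]
    (hR : IsPGroup 2 R) (hR1 : R ≠ ⊥) (hc : Nat.card (G ⧸ R) = 20160) : False := by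
  obtain ⟨P, e, n, -, h2, h3, h4, h5⟩ := syl_info (hE.quotient R) (p := 7) (by norm_num) (by rw [hc]; norm_num)
    (by rw [hc]; norm_num)
  rw [hc] at h3
  have he := arith7 h3 h4 h5
  subst he
  let Y : Subgroup G := (normalizer (P : Set (G ⧸ R))).comap (QuotientGroup.mk' R)
  have hRY : R ≤ Y := by
    intro x hx
    show (QuotientGroup.mk' R) x ∈ normalizer (P : Set (G ⧸ R))
    have : (QuotientGroup.mk' R) x = 1 := (QuotientGroup.eq_one_iff x).2 hx
    rw [this]; exact one_mem _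
  have hcY : (R.subgroupOf Y).index = 21 := by
    have h6 : R.relIndex Y = Nat.card (normalizer (P : Set (G ⧸ R))) := by
      have h7 := Subgroup.relIndex_comap (⊥ : Subgroup (G ⧸ R)) (QuotientGroup.mk' R) Y
      have h8 : (⊥ : Subgroup (G ⧸ R)).comap (QuotientGroup.mk' R) = R := by
        rw [MonoidHom.comap_bot, QuotientGroup.ker_mk']
      rw [h8, Subgroup.map_comap_eq_self_of_surjective (QuotientGroup.mk'_surjective R)] at h7
      rw [h7, Subgroup.relIndex_bot_left]
    rw [← Subgroup.relIndex, h6, h2]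
  obtain ⟨k, hk⟩ := IsPGroup.iff_card.1 hR
  have hcop : Nat.Coprime (Nat.card (R.subgroupOf Y)) (R.subgroupOf Y).index := by
    rw [hcY, Nat.card_congr (Subgroup.subgroupOfEquivOfLe hRY).toEquiv, hk]
    exact Nat.Coprime.pow_left _ (by norm_num)
  obtain ⟨K, hK⟩ := Subgroup.exists_right_complement'_of_coprime hcop
  have hKc : Nat.card K = 21 := by rw [← hcY]; exact hK.symm.index_eq_card.symm
  let Q : Subgroup G := K.map Y.subtype
  have hQc : Nat.card Q = 21 := by
    rw [Subgroup.card_map_of_injective Y.subtype_injective, hKc]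
  obtain ⟨V, hVn, hVR, hV1, hVc⟩ := exists_abelian_normal Nat.prime_two R hR hR1
  have : IsMulCommutative V := ⟨⟨fun a b => Subtype.ext (hVc a a.2 b b.2)⟩⟩
  have hQcyc : IsCyclic Q := by
    apply Cfsg.Agent.S0041.result Q V hV1
    · rw [normalizer_eq_top]; exact le_top
    · intro a ha ha1
      rw [eq_bot_iff]
      rintro v ⟨hv, hva⟩
      rw [mem_bot]
      by_contra hv1
      apply not_coprime hE hv1 ha1 (mem_centralizer_singleton_iff.1 (show v ∈ centralizer ({a} : Set G) from hva))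
      have h9 : orderOf a ∣ 21 := by rw [← hQc]; exact Subgroup.orderOf_dvd_natCard Q ha
      obtain ⟨j, hj⟩ := hR ⟨v, hVR hv⟩
      have h10 : orderOf v ∣ 2 ^ j := orderOf_dvd_of_pow_eq_one (congrArg Subtype.val hj)
      exact Nat.Coprime.coprime_dvd_left h10 (Nat.Coprime.coprime_dvd_right h9
        (Nat.Coprime.pow_left _ (by norm_num)))
    · exact Or.inr ⟨3, 7, by norm_num, by norm_num, by rw [hQc]⟩
  obtain ⟨g, hg⟩ := IsCyclic.exists_generator (α := Q)
  have hog : orderOf (g : G) = 21 := by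
    rw [Subgroup.orderOf_coe, orderOf_eq_card_of_forall_mem_zpowers hg, hQc]
  have h11 := hE (g : G) (by
    intro h
    rw [h, orderOf_one] at hog
    norm_num at hog)
  rw [hog] at h11
  exact not_isPrimePow_mul (p := 3) (q := 7) (by norm_num) (by norm_num) (by norm_num) h11


open scoped Pointwise in
theorem solvable_sup {G : Type u} [Group G] [Finite G] {A B : Subgroup G} [A.Normal] [B.Normal]
    (hA : Group.IsSolvable A) (hB : Group.IsSolvable B) : Group.IsSolvable (A ⊔ B : Subgroup G) := by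
  -- `(A ⊔ B) / A` is a quotient of `B`
  let C : Subgroup G := A ⊔ B
  have h1 : Group.IsSolvable (A.subgroupOf C) :=
    Group.isSolvable_of_isSolvable_injective (f := (Subgroup.subgroupOfEquivOfLe (le_sup_left : A ≤ C)).toMonoidHom)
      (Subgroup.subgroupOfEquivOfLe (le_sup_left : A ≤ C)).injective
  have h2 : Group.IsSolvable (C ⧸ A.subgroupOf C) := by
    let f : B →* C ⧸ A.subgroupOf C := (QuotientGroup.mk' (A.subgroupOf C)).comp (Subgroup.inclusion (le_sup_right : B ≤ C))
    have hf : Function.Surjective f := by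
      intro x
      obtain ⟨⟨x, hx⟩, rfl⟩ := QuotientGroup.mk_surjective x
      have hx' : x ∈ (A : Set G) * (B : Set G) := by
        rw [← Subgroup.normal_mul]; exact hx
      obtain ⟨a, ha, b, hb, rfl⟩ := hx'
      refine ⟨⟨b, hb⟩, ?_⟩
      show ((⟨b, _⟩ : C) : C ⧸ A.subgroupOf C) = ((⟨a * b, hx⟩ : C) : C ⧸ A.subgroupOf C)
      rw [QuotientGroup.eq]
      rw [mem_subgroupOf]
      show b⁻¹ * (a * b) ∈ A
      have := (inferInstance : A.Normal).conj_mem a ha b⁻¹
      simpa [mul_assoc] using this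
    exact Group.isSolvable_of_surjective hf
  exact solvable_of_quot (A.subgroupOf C) h1 h2

theorem exists_solv_radical (G : Type u) [Group G] [Finite G] : ∃ R : Subgroup G, R.Normal ∧ Group.IsSolvable R ∧
    ∀ N : Subgroup G, N.Normal → Group.IsSolvable N → N ≤ R := by
  classical
  have hfin : {R : Subgroup G | R.Normal ∧ Group.IsSolvable R}.Finite := Set.toFinite _
  have hne : {R : Subgroup G | R.Normal ∧ Group.IsSolvable R}.Nonempty := ⟨⊥, inferInstance, inferInstance⟩
  obtain ⟨R, ⟨hRn, hRs⟩, hmax⟩ := Set.exists_max_image _ (fun R : Subgroup G => Nat.card R) hfin hne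
  refine ⟨R, hRn, hRs, fun N hN hNs => ?_⟩
  have h1 := hmax (R ⊔ N) ⟨inferInstance, solvable_sup hRs hNs⟩
  have h2 : R = R ⊔ N := Subgroup.eq_of_le_of_card_ge le_sup_left h1
  rw [h2]; exact le_sup_right

theorem primes_sub {n k a N0 p idx : ℕ} (hp : p.Prime) (hn : n = 2 ^ k * (N0 * idx)) (hidx : idx ∣ p ^ a * (p - 1))
    (hN0 : N0 ≠ 0) (h2 : 2 ∣ N0) (hpN : p ∣ N0) (hp1 : p - 1 ∣ N0) : n.primeFactors ⊆ N0.primeFactors := by
  intro q hq
  rw [Nat.mem_primeFactors] at hq ⊢
  obtain ⟨hq1, hq2, hq3⟩ := hq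
  refine ⟨hq1, ?_, hN0⟩
  rw [hn] at hq2
  rcases hq1.dvd_mul.1 hq2 with h | h
  · exact (hq1.dvd_of_dvd_pow h).trans h2
  rcases hq1.dvd_mul.1 h with h | h
  · exact h
  rcases hq1.dvd_mul.1 (h.trans hidx) with h | h
  · exact (hq1.dvd_of_dvd_pow h).trans hpN
  · exact h.trans hp1

theorem card_le_three {G : Type u} [Group G] [Finite G] (hE : IsEPPO G) {R : Subgroup G} [R.Normal]
    (hR : ∃ k, Nat.card R = 2 ^ k) (M : Subgroup (G ⧸ R)) [M.Normal] {N0 p : ℕ} (hM : Nat.card M = N0) (hp : p.Prime)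
    (hpN : p ∣ N0) (hp2 : ¬ p ^ 2 ∣ N0) (h2 : 2 ∣ N0) (hp1 : p - 1 ∣ N0) :
    (Nat.card G).primeFactors ⊆ N0.primeFactors := by
  obtain ⟨a, ha⟩ := index_dvd (hE.quotient R) M hp (by rw [hM]; exact hpN) (by rw [hM]; exact hp2)
  obtain ⟨k, hk⟩ := hR
  refine primes_sub (k := k) (idx := M.index) hp ?_ ha ?_ h2 hpN hp1
  · rw [← hk, ← hM, Subgroup.card_mul_index, mul_comm]
    exact Subgroup.card_eq_card_quotient_mul_card_subgroup R
  · rw [← hM]; exact Nat.card_pos.ne'

end Cfsg.Agent.Lib.EppoFour
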