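import Cfsg.Agent.Lib.FusionBasic
import Cfsg.Prelude.Def_EvenType
import Cfsg.Prelude.Def_ClassificationK

/-! Essential subgroups: a fully normalized conjugate of an essential subgroup is essential. -/

namespace Cfsg.Agent.Lib.EssConj

open Cfsg Cfsg.FusionSystem Cfsg.Agent.Lib.FusionBasic

variable {Ω : Type*} [Group Ω] {S : Subgroup Ω} {F : FusionSystem S} {p : ℕ} {E E' : Subgroup Ω} {f : Ω → Ω}

theorem prank_equiv {p k : ℕ} {G H : Type*} [Group G] [Group H] (e : G ≃* H) (h : PRankLE p k G) :
    PRankLE p k H := by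
  intro A hA hp
  have h1 := h (A.comap e.toMonoidHom) ?_ ?_
  · have hc : Nat.card (A.comap e.toMonoidHom) = Nat.card A := by
      refine Nat.card_congr
        { toFun := fun x => ⟨e x.1, x.2⟩
          invFun := fun y => ⟨e.symm y.1, by
            show e (e.symm y.1) ∈ A
            rw [e.apply_symm_apply]
            exact y.2⟩
          left_inv := fun x => Subtype.ext (e.symm_apply_apply _)
          right_inv := fun y => Subtype.ext (e.apply_symm_apply _) }
    rwa [hc] at h1
  · refine ⟨⟨fun x y => Subtype.ext (e.injective ?_)⟩⟩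
    have h2 := congrArg Subtype.val (hA.1.1 (⟨e x.1, x.2⟩ : A) ⟨e y.1, y.2⟩)
    show e (x.1 * y.1) = e (y.1 * x.1)
    rw [map_mul, map_mul]
    exact h2
  · intro a ha
    refine e.injective ?_
    rw [map_pow, map_one]
    exact hp _ ha

theorem embed_map {p : ℕ} {X X' : Type*} [Group X] [Group X'] (e : X ≃* X') {Y : Subgroup X}
    (h : IsStronglyPEmbedded p Y) : IsStronglyPEmbedded p (Y.map e.toMonoidHom) := by
  obtain ⟨h1, h2, P, hP⟩ := h
  refine ⟨by rwa [← Nat.card_congr e.toEquiv], ?_, ?_⟩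
  · intro h
    apply h2
    rw [eq_top_iff]
    intro x _
    have h3 : e x ∈ Y.map e.toMonoidHom := h ▸ Subgroup.mem_top _
    obtain ⟨y, hy, hyx⟩ := h3
    rwa [← e.injective hyx]
  · have hmax : ∀ {Q : Subgroup X'}, IsPGroup p Q → (P : Subgroup X).map e.toMonoidHom ≤ Q →
        Q = (P : Subgroup X).map e.toMonoidHom := by
      intro Q hQ hle
      have h3 : Q.comap e.toMonoidHom = (P : Subgroup X) := by
        refine P.3 (hQ.comap_of_injective _ e.injective) ?_
        exact Subgroup.map_le_iff_le_comap.1 hle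
      rw [← h3]
      exact (Subgroup.map_comap_eq_self_of_surjective e.surjective Q).symm
    let P' : Sylow p X' := ⟨(P : Subgroup X).map e.toMonoidHom, P.2.map _, hmax⟩
    refine ⟨P', ?_⟩
    refine iSup_le ?_
    rintro ⟨Q', hQ', hr⟩
    have hQP : Q'.comap e.toMonoidHom ≤ (P : Subgroup X) := by
      intro x hx
      obtain ⟨y, hy, hyx⟩ := hQ' hx
      rwa [← e.injective hyx]
    have hr' : ¬ PRankLE p (1 - 1) (Q'.comap e.toMonoidHom) := by
      intro h3
      apply hr
      refine prank_equiv (G := (Q'.comap e.toMonoidHom : Subgroup X)) (H := Q') ?_ h3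
      exact
        { toFun := fun x => ⟨e x.1, x.2⟩
          invFun := fun y => ⟨e.symm y.1, by
            show e (e.symm y.1) ∈ Q'
            rw [e.apply_symm_apply]
            exact y.2⟩
          left_inv := fun x => Subtype.ext (e.symm_apply_apply _)
          right_inv := fun y => Subtype.ext (e.apply_symm_apply _)
          map_mul' := fun x y => Subtype.ext (map_mul e _ _) }
    have h4 : Subgroup.normalizer ((Q'.comap e.toMonoidHom : Subgroup X) : Set X) ≤ Y :=
      le_trans (le_iSup (fun Q : {Q : Subgroup X // Q ≤ (P : Subgroup X) ∧ ¬ PRankLE p (1 - 1) Q} =>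
        Subgroup.normalizer ((Q : Subgroup X) : Set X)) ⟨_, hQP, hr'⟩) hP
    intro g hg
    refine ⟨e.symm g, h4 ?_, e.apply_symm_apply g⟩
    rw [Subgroup.mem_normalizer_iff]
    intro x
    have h5 := Subgroup.mem_normalizer_iff.1 hg (e x)
    have h6 : e (e.symm g * x * (e.symm g)⁻¹) = g * e x * g⁻¹ := by
      rw [map_mul, map_mul, map_inv, e.apply_symm_apply]
    show e x ∈ Q' ↔ e (e.symm g * x * (e.symm g)⁻¹) ∈ Q'
    rw [h6]
    exact h5

theorem inn_iff (h : FIso F E E' f) (α : MulAut E) : α ∈ Inn E ↔ h.autEquiv α ∈ Inn E' := by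
  constructor
  · rintro ⟨x, rfl⟩
    refine ⟨h.equiv x, ?_⟩
    ext y
    obtain ⟨z, rfl⟩ := h.equiv.surjective y
    rw [h.autEquiv_apply_apply, MulAut.conj_apply, MulAut.conj_apply, map_mul, map_mul, map_inv]
  · rintro ⟨y, hy⟩
    obtain ⟨x, rfl⟩ := h.equiv.surjective y
    refine ⟨x, ?_⟩
    apply h.autEquiv.injective
    rw [← hy]
    ext y
    obtain ⟨z, rfl⟩ := h.equiv.surjective y
    rw [h.autEquiv_apply_apply, MulAut.conj_apply, MulAut.conj_apply, map_mul, map_mul, map_inv]

theorem aut_iff (h : FIso F E E' f) (α : MulAut E) : α ∈ F.autGroup E ↔ h.autEquiv α ∈ F.autGroup E' := by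
  rw [← h.map_autGroup]
  constructor
  · intro ha
    exact ⟨α, ha, rfl⟩
  · rintro ⟨β, hb, hba⟩
    have : β = α := h.autEquiv.injective hba
    rwa [← this]

/-- The isomorphism of the automorphism groups. -/
noncomputable def autE (h : FIso F E E' f) : F.autGroup E ≃* F.autGroup E' where
  toFun α := ⟨h.autEquiv α.1, (aut_iff h _).1 α.2⟩
  invFun β := ⟨h.autEquiv.symm β.1, (aut_iff h _).2 (by rw [h.autEquiv.apply_symm_apply]; exact β.2)⟩
  left_inv α := Subtype.ext (h.autEquiv.symm_apply_apply _)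
  right_inv β := Subtype.ext (h.autEquiv.apply_symm_apply _)
  map_mul' α β := Subtype.ext (map_mul h.autEquiv _ _)

theorem essential_of_fiso [Finite S] [Fact p.Prime] (hE : F.IsEssential p E) (h : FIso F E E' f)
    (hfn : F.IsFullyNormalized E') : F.IsEssential p E' := by
  obtain ⟨hcen, -, hnor, Y, hY⟩ := hE
  refine ⟨⟨h.le_right, fun Q hQ => hcen.2 Q (isConj_trans h.isConj hQ)⟩, hfn, ?_⟩
  have hmem : ∀ α : F.autGroup E, α ∈ (Inn E).subgroupOf (F.autGroup E) ↔
      autE h α ∈ (Inn E').subgroupOf (F.autGroup E') := by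
    intro α
    rw [Subgroup.mem_subgroupOf, Subgroup.mem_subgroupOf]
    exact inn_iff h α.1
  have hmap : ((Inn E).subgroupOf (F.autGroup E)).map (autE h).toMonoidHom = (Inn E').subgroupOf (F.autGroup E') := by
    ext β
    constructor
    · rintro ⟨α, ha, rfl⟩
      exact (hmem α).1 ha
    · intro hb
      refine ⟨(autE h).symm β, (hmem _).2 ?_, (autE h).apply_symm_apply β⟩
      rw [(autE h).apply_symm_apply]
      exact hb
  have hnor' : ((Inn E').subgroupOf (F.autGroup E')).Normal := by
    rw [← hmap]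
    exact hnor.map _ (autE h).surjective
  refine ⟨hnor', Y.map (QuotientGroup.congr _ _ (autE h) hmap).toMonoidHom, embed_map _ hY⟩

end Cfsg.Agent.Lib.EssConj
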