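import Cfsg.Agent.Lib.EssRank2

/-! Essential subgroups of order `p⁴`. -/

set_option autoImplicit false

namespace Cfsg.Agent.Lib.EssFour

open Cfsg Cfsg.Agent.Lib.EssChain Cfsg.Agent.Lib.EssSmall Cfsg.Agent.Lib.EssThree
open scoped commutatorElement

variable {X : Type*} [Group X] [Finite X] {p : ℕ} [hp : Fact p.Prime] {A : Subgroup (MulAut X)}

theorem comm_mem_commutator (x y : X) : ⁅x, y⁆ ∈ commutator X :=
  Subgroup.commutator_mem_commutator (Subgroup.mem_top _) (Subgroup.mem_top _)

theorem card_pow_of_lt (hX : IsPGroup p X) {N M : Subgroup X} (h : N < M) : p * Nat.card N ≤ Nat.card M := by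
  obtain ⟨n, hn⟩ := IsPGroup.iff_card.1 (hX.to_subgroup N)
  obtain ⟨m, hm⟩ := IsPGroup.iff_card.1 (hX.to_subgroup M)
  have h1 : Nat.card N < Nat.card M := by
    by_contra hge
    push Not at hge
    exact h.ne (Subgroup.eq_of_le_of_card_ge h.le hge)
  rw [hn, hm] at h1 ⊢
  have h2 := (Nat.pow_lt_pow_iff_right hp.out.one_lt).1 h1
  rw [← pow_succ']
  exact Nat.pow_le_pow_right hp.out.pos h2

/-- the centralizer of an element whose class lies in a coset of a subgroup of order `p` -/
theorem card_le_of_class {d : X} {Z : Subgroup X} (hZ : Nat.card Z ≤ p) (h : ∀ g : X, g * d * g⁻¹ * d⁻¹ ∈ Z) :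
    Nat.card X ≤ p * Nat.card (Subgroup.centralizer {d} : Subgroup X) := by
  classical
  let C : Subgroup X := Subgroup.centralizer {d}
  have h1 : Nat.card (X ⧸ C) ≤ Nat.card Z := by
    refine Nat.card_le_card_of_injective (fun q : X ⧸ C => (⟨q.out * d * q.out⁻¹ * d⁻¹, h _⟩ : Z)) ?_
    intro q r hqr
    have h2 : q.out * d * q.out⁻¹ = r.out * d * r.out⁻¹ := mul_right_cancel (congrArg Subtype.val hqr)
    rw [← Quotient.out_eq q, ← Quotient.out_eq r]
    refine QuotientGroup.eq.2 ?_
    rw [Subgroup.mem_centralizer_singleton_iff]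
    have h3 : r.out⁻¹ * q.out * d = d * (r.out⁻¹ * q.out) := by
      have h4 := congrArg (fun t => r.out⁻¹ * t * q.out) h2
      have h5 : r.out⁻¹ * (q.out * d * q.out⁻¹) * q.out = r.out⁻¹ * q.out * d := by group
      have h6 : r.out⁻¹ * (r.out * d * r.out⁻¹) * q.out = d * (r.out⁻¹ * q.out) := by group
      rw [h5, h6] at h4
      exact h4
    -- `q⁻¹ r` commutes with `d`
    have h7 : (q.out⁻¹ * r.out) = (r.out⁻¹ * q.out)⁻¹ := by group
    rw [h7]
    have h8 : Commute (r.out⁻¹ * q.out) d := h3
    exact (h8.inv_left).eq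
  rw [← C.card_mul_index, mul_comm]
  exact Nat.mul_le_mul_right _ (h1.trans hZ)

/-- rank two, nonabelian: impossible -/
theorem rank_two_nonabelian (hX : Nat.card X = p ^ 4) (hA : Ess p A) (hk : Nat.card (frattini X) = p ^ 2)
    (hne : commutator X ≠ ⊥) : False := by
  classical
  have hXp : IsPGroup p X := IsPGroup.of_card hX
  have hp0 := hp.out.pos
  have hp1 := hp.out.one_lt
  have hDΦ : commutator X ≤ frattini X := H70Frattini.commutator_le_frattini hXp
  have hΦcomm : ∀ x ∈ frattini X, ∀ y ∈ frattini X, x * y = y * x := by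
    intro x hx y hy
    exact congrArg Subtype.val (IsPGroup.commutative_of_card_eq_prime_sq (G := frattini X) hk ⟨x, hx⟩ ⟨y, hy⟩)
  obtain ⟨j, hj⟩ := IsPGroup.iff_card.1 (hXp.to_subgroup (commutator X))
  have hj0 : j ≠ 0 := by
    rintro rfl
    rw [pow_zero, Subgroup.card_eq_one] at hj
    exact hne hj
  have hj2 : j ≤ 2 := by
    have := Subgroup.card_le_of_le hDΦ
    rw [hj, hk] at this
    exact (Nat.pow_le_pow_iff_right hp1).1 this
  have hcases : j = 1 ∨ j = 2 := by omega
  rcases hcases with rfl | rfl
  · -- |X'| = p : X / X' is abelian of order p³ and rank two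
    rw [pow_one] at hj
    have hDn : (commutator X).Normal := inferInstance
    let π := QuotientGroup.mk' (commutator X)
    have hπ : ∀ x : X, π x = 1 ↔ x ∈ commutator X := fun x => QuotientGroup.eq_one_iff x
    have hπc : ∀ x y : X, π x * π y = π y * π x := by
      intro x y
      have h1 := (hπ ⁅x, y⁆).2 (comm_mem_commutator x y)
      rw [map_commutatorElement, commutatorElement_eq_one_iff_mul_comm] at h1
      exact h1
    -- the p-th power map to the quotient
    let φ : X →* X ⧸ commutator X := MonoidHom.mk' (fun x => π (x ^ p)) (by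
      intro x y
      show π ((x * y) ^ p) = π (x ^ p) * π (y ^ p)
      rw [map_pow, map_mul, map_pow, map_pow]
      exact Commute.mul_pow (hπc x y) p)
    have hφ : ∀ x, x ∈ φ.ker ↔ x ^ p ∈ commutator X := by
      intro x
      rw [MonoidHom.mem_ker]
      show π (x ^ p) = 1 ↔ _
      rw [hπ]
    have hrange : Nat.card φ.range ≤ p := by
      have h1 : φ.range ≤ (frattini X).map π := by
        rintro _ ⟨x, rfl⟩
        exact Subgroup.mem_map_of_mem π (H70Frattini.pow_mem_frattini hXp x)
      have h2 : Nat.card ((frattini X).map π) = p := by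
        rw [← Subgroup.relIndex_ker, QuotientGroup.ker_mk']
        have h3 : (commutator X).relIndex (frattini X) * Nat.card (commutator X) = Nat.card (frattini X) := by
          rw [mul_comm, ← Nat.card_congr (Subgroup.subgroupOfEquivOfLe hDΦ).toEquiv]
          exact Subgroup.card_mul_index _
        rw [hj, hk, pow_two] at h3
        exact Nat.eq_of_mul_eq_mul_right hp0 h3
      rw [← h2]
      exact Subgroup.card_le_of_le h1
    have hXM : Nat.card X ≤ p * Nat.card φ.ker := by
      rw [← Subgroup.card_mul_index φ.ker, Subgroup.index_ker, mul_comm]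
      exact Nat.mul_le_mul_right _ hrange
    have hMt : φ.ker ≠ ⊤ := by
      intro h
      have h1 : frattini X ≤ commutator X := by
        refine FrattiniQuot.frattini_le hp.out _ comm_mem_commutator ?_
        intro x
        rw [← hφ, h]
        exact Subgroup.mem_top _
      have h2 := Subgroup.card_le_of_le h1
      rw [hj, hk] at h2
      nlinarith
    have hΦM : frattini X ≤ φ.ker := by
      intro x hx
      rw [hφ]
      -- x ^ p lies in the derived group since `Φ / X'` has order `p`
      have h1 : (commutator X).subgroupOf (frattini X) = (commutator X).subgroupOf (frattini X) := rfl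
      have h2 : ((commutator X).subgroupOf (frattini X)).index = p := by
        have h3 := Subgroup.card_mul_index ((commutator X).subgroupOf (frattini X))
        rw [Nat.card_congr (Subgroup.subgroupOfEquivOfLe hDΦ).toEquiv, hj, hk, pow_two] at h3
        exact Nat.eq_of_mul_eq_mul_left hp0 h3
      have hn : ((commutator X).subgroupOf (frattini X)).Normal := inferInstance
      have h4 := Subgroup.pow_index_mem ((commutator X).subgroupOf (frattini X)) ⟨x, hx⟩
      rw [h2] at h4
      exact h4
    refine no_mid2 hXp hA φ.ker ?_ hΦM ?_ hXM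
    · intro α _ x hx
      rw [hφ] at hx ⊢
      rw [← map_pow]
      have h := Subgroup.characteristic_iff_map_eq.1 (inferInstance : (commutator X).Characteristic) α
      rw [← h]
      exact ⟨_, hx, rfl⟩
    · have h1 := card_pow_of_lt hXp (lt_top_iff_ne_top.2 hMt)
      rw [Subgroup.card_top, hX] at h1
      rw [hk]
      have h2 : p * Nat.card φ.ker ≤ p * (p * p ^ 2) := by
        refine h1.trans ?_
        apply le_of_eq; ring
      exact Nat.le_of_mul_le_mul_left h2 hp0
  · -- |X'| = p² : X' = Φ
    have hDeq : commutator X = frattini X := Subgroup.eq_of_le_of_card_ge hDΦ (by rw [hj, hk])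
    -- a central subgroup of order p inside Φ
    have hΦne : frattini X ≠ ⊥ := by rw [← hDeq]; exact hne
    obtain ⟨z, hzΦ, hzc, hzo⟩ : ∃ z ∈ frattini X, z ∈ Subgroup.center X ∧ orderOf z = p := by
      obtain ⟨z, h1, h2, h3⟩ := PGroupOdd.exists_central_mem hXp (N := frattini X) inferInstance hΦne
      exact ⟨z, h1, h2, h3⟩
    obtain ⟨Z, hZd⟩ : ∃ Z : Subgroup X, Z = Subgroup.zpowers z := ⟨_, rfl⟩
    have hZc : Nat.card Z = p := by rw [hZd, Nat.card_zpowers, hzo]
    have hZΦ : Z ≤ frattini X := by rw [hZd, Subgroup.zpowers_le]; exact hzΦ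
    have hZcen : Z ≤ Subgroup.center X := by rw [hZd, Subgroup.zpowers_le]; exact hzc
    have hZn : Z.Normal := ⟨fun x hx g => by
      rw [Subgroup.mem_center_iff.1 (hZcen hx) g, mul_assoc, mul_inv_cancel, mul_one]; exact hx⟩
    -- X acts trivially on Φ / Z
    have htriv : ∀ d ∈ frattini X, ∀ g : X, g * d * g⁻¹ * d⁻¹ ∈ Z := by
      intro d hd g
      obtain ⟨k, hk'⟩ := hXp g
      have hΦn : (frattini X).Normal := inferInstance
      have h1 := trivial_on_factor hXp (τ := MulAut.conj g) (k := k) (by rw [← map_pow, hk', map_one]) (N := Z)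
        (L := frattini X) hZΦ (by rw [hk, hZc, pow_two]) (fun x hx => hZn.conj_mem x hx g)
        (fun x hx => hΦn.conj_mem x hx g) d hd
      rw [MulAut.conj_apply] at h1
      have h2 := hZn.conj_mem _ h1 d
      have h3 : d * (d⁻¹ * (g * d * g⁻¹)) * d⁻¹ = g * d * g⁻¹ * d⁻¹ := by group
      rwa [h3] at h2
    -- an element of Φ outside Z
    obtain ⟨d, hd, hdZ⟩ : ∃ d ∈ frattini X, d ∉ Z := by
      by_contra hcon
      push Not at hcon
      have h1 := Subgroup.card_le_of_le (show frattini X ≤ Z from hcon)
      rw [hk, hZc] at h1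
      nlinarith
    have hgenΦ : Z ⊔ Subgroup.zpowers d = frattini X := by
      have hle : Z ⊔ Subgroup.zpowers d ≤ frattini X := sup_le hZΦ (by rw [Subgroup.zpowers_le]; exact hd)
      apply Subgroup.eq_of_le_of_card_ge hle
      have h1 : Z < Z ⊔ Subgroup.zpowers d := by
        refine lt_of_le_of_ne le_sup_left ?_
        intro h
        apply hdZ
        rw [h]
        exact Subgroup.mem_sup_right (Subgroup.mem_zpowers d)
      have h2 := card_pow_of_lt hXp h1
      rw [hZc] at h2
      rw [hk, pow_two]; exact h2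
    -- the centralizer of Φ
    obtain ⟨C, hCd⟩ : ∃ C : Subgroup X, C = Subgroup.centralizer (frattini X : Set X) := ⟨_, rfl⟩
    have hCiff : ∀ g, g ∈ C ↔ ∀ x ∈ frattini X, x * g = g * x := by
      intro g; rw [hCd, Subgroup.mem_centralizer_iff]; rfl
    have hCeq : C = Subgroup.centralizer {d} := by
      apply le_antisymm
      · rw [hCd]
        refine Subgroup.centralizer_le ?_
        rw [Set.singleton_subset_iff]; exact hd
      · intro g hg
        rw [hCiff]
        intro x hx
        have h1 : frattini X ≤ Subgroup.centralizer {g} := by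
          rw [← hgenΦ]
          refine sup_le ?_ ?_
          · intro z hz
            rw [Subgroup.mem_centralizer_singleton_iff]
            exact (Subgroup.mem_center_iff.1 (hZcen hz) g).symm
          · rw [Subgroup.zpowers_le, Subgroup.mem_centralizer_singleton_iff]
            rw [Subgroup.mem_centralizer_singleton_iff] at hg
            exact hg.symm
        have h2 := h1 hx
        rw [Subgroup.mem_centralizer_singleton_iff] at h2
        exact h2
    have hXC : Nat.card X ≤ p * Nat.card C := by
      rw [hCeq]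
      exact card_le_of_class hZc.le (htriv d hd)
    have hΦC : frattini X ≤ C := by
      intro x hx
      rw [hCiff]
      intro y hy
      exact hΦcomm y hy x hx
    have hCt : C ≠ ⊤ := by
      intro hCt
      -- then Φ = X' is central, X = ⟨a, b⟩Φ, so X' = ⟨[a,b]⟩ has order p
      have hcen : frattini X ≤ Subgroup.center X := by
        intro x hx
        rw [Subgroup.mem_center_iff]
        intro g
        have h1 : g ∈ C := by rw [hCt]; exact Subgroup.mem_top _
        exact ((hCiff g).1 h1 x hx).symm
      -- all commutators have order dividing p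
      have hcp : ∀ x y : X, ⁅x, y⁆ ^ p = 1 := by
        intro x y
        have hxy : ∀ n : ℕ, ⁅x ^ n, y⁆ = ⁅x, y⁆ ^ n := by
          intro n
          induction n with
          | zero => simp
          | succ n ih =>
            have hc := hcen (comm_mem_frattini hXp x y)
            have h1 : ⁅x ^ (n + 1), y⁆ = x ^ n * ⁅x, y⁆ * (x ^ n)⁻¹ * ⁅x ^ n, y⁆ := by
              simp only [commutatorElement_def, pow_succ]; group
            rw [h1, ih, Subgroup.mem_center_iff.1 hc (x ^ n), mul_assoc _ (x ^ n), mul_inv_cancel, mul_one, ← pow_succ']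
        rw [← hxy, commutatorElement_eq_one_iff_mul_comm]
        exact (Subgroup.mem_center_iff.1 (hcen (H70Frattini.pow_mem_frattini hXp x)) y).symm
      -- choose a ∉ Φ and b ∉ ⟨a⟩Φ
      obtain ⟨a, ha⟩ : ∃ a, a ∉ frattini X := by
        by_contra hcon
        push Not at hcon
        have h1 : frattini X = ⊤ := by rw [eq_top_iff]; intro x _; exact hcon x
        rw [h1, Subgroup.card_top, hX] at hk
        have := Nat.pow_right_injective hp1 hk
        omega
      obtain ⟨B, hBd⟩ : ∃ B : Subgroup X, B = frattini X ⊔ Subgroup.zpowers a := ⟨_, rfl⟩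
      -- elements of B commute with a and X' is generated by the commutators [a, y]
      have hBcomm : ∀ u ∈ B, u * a = a * u := by
        intro u hu
        have h1 : B ≤ Subgroup.centralizer {a} := by
          rw [hBd]
          refine sup_le ?_ ?_
          · intro z hz
            rw [Subgroup.mem_centralizer_singleton_iff]
            exact (Subgroup.mem_center_iff.1 (hcen hz) a).symm
          · rw [Subgroup.zpowers_le, Subgroup.mem_centralizer_singleton_iff]
        have h2 := h1 hu
        rw [Subgroup.mem_centralizer_singleton_iff] at h2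
        exact h2
      have hBt : B ≠ ⊤ := by
        intro hBt
        have h1 : Subgroup.zpowers a = ⊤ := frattini_nongenerating (by rw [sup_comm, ← hBd]; exact hBt)
        apply hne
        rw [eq_bot_iff, _root_.commutator_def, Subgroup.commutator_le]
        intro x _ y _
        obtain ⟨m, rfl⟩ := Subgroup.mem_zpowers_iff.1 (show x ∈ Subgroup.zpowers a by rw [h1]; exact Subgroup.mem_top _)
        obtain ⟨n, rfl⟩ := Subgroup.mem_zpowers_iff.1 (show y ∈ Subgroup.zpowers a by rw [h1]; exact Subgroup.mem_top _)
        rw [Subgroup.mem_bot, commutatorElement_eq_one_iff_mul_comm, ← zpow_add, ← zpow_add, add_comm]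
      obtain ⟨b, hb⟩ : ∃ b, b ∉ B := by
        by_contra hcon
        push Not at hcon
        exact hBt (by rw [eq_top_iff]; intro x _; exact hcon x)
      have hBb : B ⊔ Subgroup.zpowers b = ⊤ := by
        have h1 : frattini X < B := by
          refine lt_of_le_of_ne (by rw [hBd]; exact le_sup_left) ?_
          intro h
          apply ha
          rw [h, hBd]
          exact Subgroup.mem_sup_right (Subgroup.mem_zpowers a)
        have h2 : B < B ⊔ Subgroup.zpowers b := by
          refine lt_of_le_of_ne le_sup_left ?_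
          intro h
          apply hb
          rw [h]
          exact Subgroup.mem_sup_right (Subgroup.mem_zpowers b)
        have h3 := card_pow_of_lt hXp h1
        have h4 := card_pow_of_lt hXp h2
        apply Subgroup.eq_top_of_card_eq
        apply le_antisymm (Subgroup.card_le_card_group _)
        rw [hk] at h3
        rw [hX]
        calc p ^ 4 = p * (p * p ^ 2) := by ring
          _ ≤ p * Nat.card B := Nat.mul_le_mul_left p h3
          _ ≤ _ := h4
      -- X' ≤ ⟨[a,b]⟩
      obtain ⟨D, hDd⟩ : ∃ D : Subgroup X, D = Subgroup.zpowers ⁅a, b⁆ := ⟨_, rfl⟩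
      have habc : ⁅a, b⁆ ∈ Subgroup.center X := hcen (comm_mem_frattini hXp a b)
      have hDcen : D ≤ Subgroup.center X := by rw [hDd, Subgroup.zpowers_le]; exact habc
      have hDn : D.Normal := ⟨fun x hx g => by
        rw [Subgroup.mem_center_iff.1 (hDcen hx) g, mul_assoc, mul_inv_cancel, mul_one]; exact hx⟩
      have hXD : commutator X ≤ D := by
        let q := QuotientGroup.mk' D
        have hq : ∀ x : X, q x = 1 ↔ x ∈ D := fun x => QuotientGroup.eq_one_iff x
        have hab1 : q a * q b = q b * q a := by
          have h1 := (hq ⁅a, b⁆).2 (by rw [hDd]; exact Subgroup.mem_zpowers _)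
          rw [map_commutatorElement, commutatorElement_eq_one_iff_mul_comm] at h1
          exact h1
        -- everything commutes in the quotient
        have hgena : ∀ x : X, q x * q a = q a * q x := by
          intro x
          have h1 : (⊤ : Subgroup X) ≤ (Subgroup.centralizer {q a}).comap q := by
            rw [← hBb]
            refine sup_le ?_ ?_
            · intro u hu
              rw [Subgroup.mem_comap, Subgroup.mem_centralizer_singleton_iff, ← map_mul, ← map_mul, hBcomm u hu]
            · rw [Subgroup.zpowers_le, Subgroup.mem_comap, Subgroup.mem_centralizer_singleton_iff]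
              exact hab1.symm
          have h2 := h1 (Subgroup.mem_top x)
          rw [Subgroup.mem_comap, Subgroup.mem_centralizer_singleton_iff] at h2
          exact h2
        have hgenb : ∀ x : X, q x * q b = q b * q x := by
          intro x
          have h1 : (⊤ : Subgroup X) ≤ (Subgroup.centralizer {q b}).comap q := by
            rw [← hBb, hBd]
            refine sup_le (sup_le ?_ ?_) ?_
            · intro u hu
              rw [Subgroup.mem_comap, Subgroup.mem_centralizer_singleton_iff, ← map_mul, ← map_mul,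
                Subgroup.mem_center_iff.1 (hcen hu) b]
            · rw [Subgroup.zpowers_le, Subgroup.mem_comap, Subgroup.mem_centralizer_singleton_iff]
              exact hab1
            · rw [Subgroup.zpowers_le, Subgroup.mem_comap, Subgroup.mem_centralizer_singleton_iff]
          have h2 := h1 (Subgroup.mem_top x)
          rw [Subgroup.mem_comap, Subgroup.mem_centralizer_singleton_iff] at h2
          exact h2
        have hall : ∀ x y : X, q x * q y = q y * q x := by
          intro x y
          have h1 : (⊤ : Subgroup X) ≤ (Subgroup.centralizer {q y}).comap q := by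
            rw [← hBb, hBd]
            refine sup_le (sup_le ?_ ?_) ?_
            · intro u hu
              rw [Subgroup.mem_comap, Subgroup.mem_centralizer_singleton_iff, ← map_mul, ← map_mul,
                Subgroup.mem_center_iff.1 (hcen hu) y]
            · rw [Subgroup.zpowers_le, Subgroup.mem_comap, Subgroup.mem_centralizer_singleton_iff]
              exact (hgena y).symm
            · rw [Subgroup.zpowers_le, Subgroup.mem_comap, Subgroup.mem_centralizer_singleton_iff]
              exact (hgenb y).symm
          have h2 := h1 (Subgroup.mem_top x)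
          rw [Subgroup.mem_comap, Subgroup.mem_centralizer_singleton_iff] at h2
          exact h2
        rw [_root_.commutator_def, Subgroup.commutator_le]
        intro x _ y _
        rw [← hq, map_commutatorElement, commutatorElement_eq_one_iff_mul_comm]
        exact hall x y
      have h1 := Subgroup.card_le_of_le hXD
      rw [hj, hDd, Nat.card_zpowers] at h1
      have h2 : orderOf ⁅a, b⁆ ≤ p := Nat.le_of_dvd hp0 (orderOf_dvd_of_pow_eq_one (hcp a b))
      nlinarith
    refine no_mid2 hXp hA C ?_ hΦC ?_ hXC
    · intro α _ g hg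
      rw [hCiff] at hg ⊢
      intro x hx
      have h1 : α⁻¹ x ∈ frattini X := frattini_inv α⁻¹ hx
      have h2 := congrArg α (hg _ h1)
      rw [map_mul, map_mul, MulAut.apply_inv_self] at h2
      exact h2
    · have h1 := card_pow_of_lt hXp (lt_top_iff_ne_top.2 hCt)
      rw [Subgroup.card_top, hX] at h1
      rw [hk]
      have h2 : p * Nat.card C ≤ p * (p * p ^ 2) := by
        refine h1.trans ?_
        apply le_of_eq; ring
      exact Nat.le_of_mul_le_mul_left h2 hp0

theorem card_mz (n : ℕ) : Nat.card (Multiplicative (ZMod n)) = n := by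
  rw [Nat.card_congr (Multiplicative.toAdd), Nat.card_zmod]

/-- rank three, abelian -/
theorem rank_three_abelian (hX : Nat.card X = p ^ 4) (hk : Nat.card (frattini X) = p) (hab : ∀ x y : X, x * y = y * x) :
    Nonempty (X ≃* Multiplicative (ZMod (p ^ 2) × ZMod p × ZMod p)) := by
  classical
  have hXp : IsPGroup p X := IsPGroup.of_card hX
  have hp0 := hp.out.pos
  have hp1 := hp.out.one_lt
  have hmul : ∀ (n : ℕ) (x y : X), (x * y) ^ n = x ^ n * y ^ n := fun n x y => (Commute.mul_pow (hab x y) n)
  have hpΦ : ∀ x : X, x ^ p ∈ frattini X := H70Frattini.pow_mem_frattini hXp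
  obtain ⟨g, hg⟩ : ∃ g : X, g ^ p ≠ 1 := by
    by_contra hcon
    push Not at hcon
    have h1 : frattini X ≤ ⊥ := by
      refine FrattiniQuot.frattini_le hp.out _ ?_ ?_
      · intro x y
        rw [(commutatorElement_eq_one_iff_mul_comm).2 (hab x y)]
        exact Subgroup.one_mem _
      · intro x
        rw [hcon x]; exact Subgroup.one_mem _
    rw [le_bot_iff] at h1
    rw [h1, Subgroup.card_bot] at hk
    omega
  have hg2 : ∀ x : X, x ^ (p ^ (1 + 1)) = 1 := by
    intro x
    rw [pow_add, pow_one, pow_mul]
    exact frattini_pow hk (hpΦ x)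
  have hog : orderOf g = p ^ (1 + 1) := orderOf_eq_prime_pow (by rw [pow_one]; exact hg) (hg2 g)
  -- the subgroup O
  let ψ : X →* X := MonoidHom.mk' (fun x => x ^ p) (hmul _)
  have hO : ∀ x, x ∈ ψ.ker ↔ x ^ p = 1 := fun x => by rw [MonoidHom.mem_ker]; rfl
  have hOc : p ^ 3 ≤ Nat.card ψ.ker := by
    have h1 : Nat.card ψ.range ≤ p := by
      rw [← hk]
      refine Subgroup.card_le_of_le ?_
      rintro _ ⟨x, rfl⟩
      exact hpΦ x
    have h2 : Nat.card X ≤ p * Nat.card ψ.ker := by
      rw [← Subgroup.card_mul_index ψ.ker, Subgroup.index_ker, mul_comm]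
      exact Nat.mul_le_mul_right _ h1
    rw [hX] at h2
    have h3 : p * p ^ 3 ≤ p * Nat.card ψ.ker := by
      refine le_trans ?_ h2
      apply le_of_eq; ring
    exact Nat.le_of_mul_le_mul_left h3 hp0
  obtain ⟨U, hUd⟩ : ∃ U : Subgroup X, U = Subgroup.zpowers (g ^ p) := ⟨_, rfl⟩
  have hgp : (g ^ p) ^ p = 1 := by
    have := hg2 g
    rwa [pow_add, pow_one, pow_mul] at this
  have hUc : Nat.card U = p := by rw [hUd, Nat.card_zpowers, orderOf_eq_prime hgp hg]
  obtain ⟨w₁, hw₁, hw₁U⟩ : ∃ w ∈ ψ.ker, w ∉ U := by
    by_contra hcon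
    push Not at hcon
    have h1 := Subgroup.card_le_of_le (show ψ.ker ≤ U from hcon)
    rw [hUc] at h1
    have h2 : p < p ^ 3 := by
      calc p = p ^ 1 := (pow_one p).symm
        _ < p ^ 3 := Nat.pow_lt_pow_right hp1 (by norm_num)
    omega
  have hzc : ∀ (V : Subgroup X) (w : X), w ^ p = 1 → Nat.card ↥(V ⊔ Subgroup.zpowers w) ≤ p * Nat.card V := by
    intro V w hw
    have hVn : V.Normal := ⟨fun x hx g => by rw [hab g x, mul_assoc, mul_inv_cancel, mul_one]; exact hx⟩
    have h1 : ∀ x ∈ V ⊔ Subgroup.zpowers w, ∃ v ∈ V, ∃ z ∈ Subgroup.zpowers w, v * z = x := by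
      intro x hx
      exact Subgroup.mem_sup_of_normal_left.1 hx
    have h2 : Nat.card ↥(V ⊔ Subgroup.zpowers w) ≤ Nat.card (V × Subgroup.zpowers w) := by
      refine Nat.card_le_card_of_surjective (fun q : V × Subgroup.zpowers w =>
        (⟨(q.1 : X) * q.2, Subgroup.mul_mem _ (Subgroup.mem_sup_left q.1.2) (Subgroup.mem_sup_right q.2.2)⟩ :
          ↥(V ⊔ Subgroup.zpowers w))) ?_
      rintro ⟨x, hx⟩
      obtain ⟨v, hv, z, hz, hvz⟩ := h1 x hx
      exact ⟨(⟨v, hv⟩, ⟨z, hz⟩), Subtype.ext hvz⟩
    rw [Nat.card_prod, Nat.card_zpowers, mul_comm] at h2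
    refine h2.trans (Nat.mul_le_mul_right _ ?_)
    exact Nat.le_of_dvd hp0 (orderOf_dvd_of_pow_eq_one hw)
  have hw₁p : w₁ ^ p = 1 := (hO w₁).1 hw₁
  obtain ⟨w₂, hw₂, hw₂U⟩ : ∃ w ∈ ψ.ker, w ∉ U ⊔ Subgroup.zpowers w₁ := by
    by_contra hcon
    push Not at hcon
    have h1 := Subgroup.card_le_of_le (show ψ.ker ≤ U ⊔ Subgroup.zpowers w₁ from hcon)
    have h2 := hzc U w₁ hw₁p
    rw [hUc] at h2
    have h3 : p * p < p ^ 3 := by
      calc p * p = p ^ 2 := (pow_two p).symm
        _ < p ^ 3 := Nat.pow_lt_pow_right hp1 (by norm_num)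
    omega
  have hw₂p : w₂ ^ p = 1 := (hO w₂).1 hw₂
  have hw₁1 : w₁ ≠ 1 := by rintro rfl; exact hw₁U (Subgroup.one_mem _)
  have hw₂1 : w₂ ≠ 1 := by rintro rfl; exact hw₂U (Subgroup.one_mem _)
  have ho₁ := orderOf_eq_prime hw₁p hw₁1
  have ho₂ := orderOf_eq_prime hw₂p hw₂1
  obtain ⟨W, hWd⟩ : ∃ W : Subgroup X, W = Subgroup.zpowers w₁ ⊔ Subgroup.zpowers w₂ := ⟨_, rfl⟩
  have hWc : Nat.card W ≤ p ^ 2 := by
    have h1 := hzc (Subgroup.zpowers w₁) w₂ hw₂p
    rw [Nat.card_zpowers, ho₁, ← pow_two, ← hWd] at h1
    exact h1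
  have hUW : ¬ U ≤ W := by
    intro h
    have h1 : U < U ⊔ Subgroup.zpowers w₁ := by
      refine lt_of_le_of_ne le_sup_left ?_
      intro h
      apply hw₁U
      rw [h]
      exact Subgroup.mem_sup_right (Subgroup.mem_zpowers _)
    have h2 : U ⊔ Subgroup.zpowers w₁ < U ⊔ Subgroup.zpowers w₁ ⊔ Subgroup.zpowers w₂ := by
      refine lt_of_le_of_ne le_sup_left ?_
      intro h
      apply hw₂U
      rw [h]
      exact Subgroup.mem_sup_right (Subgroup.mem_zpowers _)
    have h3 := card_pow_of_lt hXp h1
    have h4 := card_pow_of_lt hXp h2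
    have h5 : U ⊔ Subgroup.zpowers w₁ ⊔ Subgroup.zpowers w₂ ≤ W := by
      rw [hWd] at h ⊢
      exact sup_le (sup_le h le_sup_left) le_sup_right
    have h6 := Subgroup.card_le_of_le h5
    rw [hUc] at h3
    have h7 : p * (p * p) ≤ p ^ 2 := by
      calc p * (p * p) ≤ p * Nat.card ↥(U ⊔ Subgroup.zpowers w₁) := Nat.mul_le_mul_left p h3
        _ ≤ _ := h4
        _ ≤ _ := h6
        _ ≤ _ := hWc
    nlinarith [mul_pos hp0 hp0]
  -- the two homomorphisms
  let f₂ := (zh p w₁ hw₁p).noncommCoprod (zh p w₂ hw₂p) (fun m n => hab _ _)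
  have hf₂i : Function.Injective f₂ := by
    refine (MonoidHom.noncommCoprod_injective _ _ _).2 ⟨zh_injective _ w₁ hw₁p ho₁, zh_injective _ w₂ hw₂p ho₂, ?_⟩
    rw [zh_range, zh_range, disjoint_iff, eq_bot_iff]
    rintro c ⟨hc1, hc2⟩
    by_contra hc
    rw [Subgroup.mem_bot] at hc
    apply hw₂U
    have hcp : c ^ p = 1 := by
      obtain ⟨n, rfl⟩ := Subgroup.mem_zpowers_iff.1 hc1
      rw [← zpow_natCast, ← zpow_mul, mul_comm, zpow_mul, zpow_natCast, hw₁p, one_zpow]
    have h2 : Subgroup.zpowers c = Subgroup.zpowers w₂ := by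
      apply Subgroup.eq_of_le_of_card_ge (by rw [Subgroup.zpowers_le]; exact hc2)
      rw [Nat.card_zpowers, Nat.card_zpowers, ho₂, orderOf_eq_prime hcp hc]
    have h3 : w₂ ∈ Subgroup.zpowers c := by rw [h2]; exact Subgroup.mem_zpowers _
    exact Subgroup.mem_sup_right ((Subgroup.zpowers_le.2 hc1) h3)
  have hf₂r : f₂.range = W := by
    have h1 := MonoidHom.noncommCoprod_range (zh p w₁ hw₁p) (zh p w₂ hw₂p) (fun m n => hab _ _)
    rw [zh_range, zh_range, ← hWd] at h1
    exact h1
  have : NeZero p := ⟨hp.out.ne_zero⟩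
  have hp2 : (g ^ (p ^ 2)) = 1 := hg2 g
  obtain ⟨e⟩ := exists_prod_equiv (zh (p ^ 2) g hp2) f₂ (fun m n => hab _ _) (zh_injective _ g hp2 hog) hf₂i (by
    rw [zh_range, hf₂r, disjoint_iff, eq_bot_iff]
    rintro c ⟨hc1, hc2⟩
    by_contra hc
    rw [Subgroup.mem_bot] at hc
    have hWO : W ≤ ψ.ker := by
      rw [hWd]
      refine sup_le ?_ ?_
      · rw [Subgroup.zpowers_le]; exact hw₁
      · rw [Subgroup.zpowers_le]; exact hw₂
    have hcp : c ^ p = 1 := (hO c).1 (hWO hc2)
    have h1 := EssRank2.mem_zpowers_pow hog hc1 hcp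
    rw [pow_one] at h1
    apply hUW
    have h2 : Subgroup.zpowers c = U := by
      rw [hUd]
      apply Subgroup.eq_of_le_of_card_ge (by rw [Subgroup.zpowers_le]; exact h1)
      rw [Nat.card_zpowers, Nat.card_zpowers, orderOf_eq_prime hgp hg, orderOf_eq_prime hcp hc]
    rw [← h2, Subgroup.zpowers_le]
    exact hc2) (by
    rw [hX, Nat.card_prod, card_mz, card_mz]
    apply le_of_eq
    ring)
  exact ⟨e.trans (((MulEquiv.refl _).prodCongr (MulEquiv.prodMultiplicative _ _).symm).trans
    (MulEquiv.prodMultiplicative _ _).symm)⟩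

/-- the centre in the nonabelian case of rank three -/
theorem card_center (hX : Nat.card X = p ^ 4) (hk : Nat.card (frattini X) = p) {x y : X} (hxy : x * y ≠ y * x) :
    Nat.card (Subgroup.center X) = p ^ 2 := by
  classical
  have hXp : IsPGroup p X := IsPGroup.of_card hX
  have hp0 := hp.out.pos
  have hp1 := hp.out.one_lt
  have hcl : ∀ d : X, Nat.card X ≤ p * Nat.card (Subgroup.centralizer {d} : Subgroup X) := fun d =>
    card_le_of_class hk.le (fun g => comm_mem_frattini hXp g d)
  have hidx : ∀ d : X, (Subgroup.centralizer {d} : Subgroup X).index ≤ p := by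
    intro d
    have h1 := hcl d
    rw [← (Subgroup.centralizer {d} : Subgroup X).card_mul_index, mul_comm] at h1
    exact Nat.le_of_mul_le_mul_right h1 Nat.card_pos
  obtain ⟨D, hD⟩ : ∃ D : Subgroup X, D = Subgroup.centralizer {x} ⊓ Subgroup.centralizer {y} := ⟨_, rfl⟩
  have hDi : D.index ≤ p * p := by
    rw [hD]
    exact Subgroup.index_inf_le.trans (Nat.mul_le_mul (hidx x) (hidx y))
  have hDx : ∀ d ∈ D, d * x = x * d := by
    intro d hd
    rw [hD] at hd
    exact (Subgroup.mem_centralizer_singleton_iff.1 hd.1)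
  have hDy : ∀ d ∈ D, d * y = y * d := by
    intro d hd
    rw [hD] at hd
    exact (Subgroup.mem_centralizer_singleton_iff.1 hd.2)
  have hDc : p ^ 2 ≤ Nat.card D := by
    have h1 := D.card_mul_index
    rw [hX] at h1
    have h2 : p ^ 4 ≤ Nat.card D * (p * p) := by rw [← h1]; exact Nat.mul_le_mul_left _ hDi
    have h3 : p ^ 2 * (p * p) ≤ Nat.card D * (p * p) := by
      refine le_trans (le_of_eq ?_) h2
      ring
    exact Nat.le_of_mul_le_mul_right h3 (by positivity)
  have h1 : D < D ⊔ Subgroup.zpowers x := by
    refine lt_of_le_of_ne le_sup_left ?_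
    intro h
    have hx : x ∈ D := by rw [h]; exact Subgroup.mem_sup_right (Subgroup.mem_zpowers _)
    exact hxy (hDy x hx)
  have hDxx : ∀ d ∈ D ⊔ Subgroup.zpowers x, d * x = x * d := by
    have h2 : D ⊔ Subgroup.zpowers x ≤ Subgroup.centralizer {x} := by
      refine sup_le (by rw [hD]; exact inf_le_left) ?_
      rw [Subgroup.zpowers_le, Subgroup.mem_centralizer_singleton_iff]
    intro d hd
    exact Subgroup.mem_centralizer_singleton_iff.1 (h2 hd)
  have h2 : D ⊔ Subgroup.zpowers x < D ⊔ Subgroup.zpowers x ⊔ Subgroup.zpowers y := by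
    refine lt_of_le_of_ne le_sup_left ?_
    intro h
    have hy : y ∈ D ⊔ Subgroup.zpowers x := by rw [h]; exact Subgroup.mem_sup_right (Subgroup.mem_zpowers _)
    exact hxy (hDxx y hy).symm
  have h3 := card_pow_of_lt hXp h1
  have h4 := card_pow_of_lt hXp h2
  have h5 := Subgroup.card_le_card_group (D ⊔ Subgroup.zpowers x ⊔ Subgroup.zpowers y)
  rw [hX] at h5
  have hDle : Nat.card D ≤ p ^ 2 := by
    have h6 : p * (p * Nat.card D) ≤ p ^ 4 := by
      calc p * (p * Nat.card D) ≤ p * Nat.card ↥(D ⊔ Subgroup.zpowers x) := Nat.mul_le_mul_left p h3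
        _ ≤ _ := h4
        _ ≤ _ := h5
    have h7 : (p * p) * Nat.card D ≤ (p * p) * p ^ 2 := by
      refine le_trans (le_of_eq ?_) (h6.trans (le_of_eq ?_)) <;> ring
    exact Nat.le_of_mul_le_mul_left h7 (by positivity)
  have hDcard : Nat.card D = p ^ 2 := le_antisymm hDle hDc
  have htop : D ⊔ Subgroup.zpowers x ⊔ Subgroup.zpowers y = ⊤ := by
    apply Subgroup.eq_top_of_card_eq
    apply le_antisymm (Subgroup.card_le_card_group _)
    rw [hX]
    calc p ^ 4 = p * (p * p ^ 2) := by ring
      _ = p * (p * Nat.card D) := by rw [hDcard]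
      _ ≤ p * Nat.card ↥(D ⊔ Subgroup.zpowers x) := Nat.mul_le_mul_left p h3
      _ ≤ _ := h4
  have hDZ : D = Subgroup.center X := by
    apply le_antisymm
    · intro d hd
      have h6 : (⊤ : Subgroup X) ≤ Subgroup.centralizer {d} := by
        rw [← htop]
        refine sup_le (sup_le ?_ ?_) ?_
        · intro d' hd'
          rw [Subgroup.mem_centralizer_singleton_iff]
          exact congrArg Subtype.val (IsPGroup.commutative_of_card_eq_prime_sq (G := D) hDcard ⟨d', hd'⟩ ⟨d, hd⟩)
        · rw [Subgroup.zpowers_le, Subgroup.mem_centralizer_singleton_iff]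
          exact (hDx d hd).symm
        · rw [Subgroup.zpowers_le, Subgroup.mem_centralizer_singleton_iff]
          exact (hDy d hd).symm
      rw [Subgroup.mem_center_iff]
      intro g
      exact Subgroup.mem_centralizer_singleton_iff.1 (h6 (Subgroup.mem_top g))
    · intro z hz
      rw [hD]
      refine ⟨?_, ?_⟩
      · exact Subgroup.mem_centralizer_singleton_iff.2 (Subgroup.mem_center_iff.1 hz x).symm
      · exact Subgroup.mem_centralizer_singleton_iff.2 (Subgroup.mem_center_iff.1 hz y).symm
  rw [← hDZ, hDcard]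

/-- a type with `n` elements and no structure -/
def Wn (n : ℕ) : Type := Fin n

/-- a copy of a finite group in `Type` -/
theorem exists_type (M : Type*) [Group M] [Finite M] : ∃ (E : Type) (_ : Group E) (_ : Finite E), Nonempty (M ≃* E) := by
  let e : Wn (Nat.card M) ≃ M := (Finite.equivFin M).symm
  letI := e.group
  exact ⟨Wn (Nat.card M), e.group, Finite.of_equiv _ e.symm, ⟨e.mulEquiv.symm⟩⟩

theorem card_four (hX : Nat.card X = p ^ 4) (hA : Ess p A) :
    ((∀ x : X, x ^ p = 1) ∧ ∀ x y : X, x * y = y * x) ∨
      Nonempty (X ≃* Multiplicative (ZMod (p ^ 2) × ZMod p × ZMod p)) ∨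
      ((p = 2 ∨ p = 3) ∧ Nonempty (X ≃* Multiplicative (ZMod (p ^ 2) × ZMod (p ^ 2)))) ∨
      (Odd p ∧ ∃ (E : Type) (_ : Group E) (_ : Finite E), Cfsg.IsExtraspecial p E ∧ Nat.card E = p ^ 3 ∧
        (∀ x : E, x ^ p = 1) ∧ Nonempty (X ≃* E × Multiplicative (ZMod p))) ∨
      (p = 2 ∧ Nonempty (X ≃* QuaternionGroup 2 × Multiplicative (ZMod 2))) ∨
      (¬ IsMulCommutative X ∧ (∀ x : X, x ^ (p ^ 2) = 1) ∧ IsCyclic (Subgroup.center X) ∧
        Nat.card (Subgroup.center X) = p ^ 2) := by
  classical
  have hXp : IsPGroup p X := IsPGroup.of_card hX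
  have hp0 := hp.out.pos
  have hp1 := hp.out.one_lt
  obtain ⟨k, hk, hk4⟩ := card_frattini hXp hA hX
  have hk2 : k = 0 ∨ k = 1 ∨ k = 2 := by omega
  rcases hk2 with rfl | rfl | rfl
  · left
    rw [pow_zero, Subgroup.card_eq_one] at hk
    exact elementary_of_frattini hXp hk
  · rw [pow_one] at hk
    right
    by_cases hab : ∀ x y : X, x * y = y * x
    · left
      exact rank_three_abelian hX hk hab
    right; right
    push Not at hab
    obtain ⟨x, y, hxy⟩ := hab
    have hZ := card_center hX hk hxy
    have hnc : ¬ IsMulCommutative X := fun h => hxy (h.is_comm.comm x y)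
    by_cases hcyc : IsCyclic (Subgroup.center X)
    · right; right
      refine ⟨hnc, fun g => ?_, hcyc, hZ⟩
      rw [pow_two, pow_mul]
      exact frattini_pow hk (H70Frattini.pow_mem_frattini hXp g)
    have hZexp : ∀ z ∈ Subgroup.center X, z ^ p = 1 := by
      intro z hz
      by_contra hzp
      apply hcyc
      have h1 : (⟨z, hz⟩ : Subgroup.center X) ^ (p ^ (1 + 1)) = 1 := by
        rw [show p ^ (1 + 1) = Nat.card (Subgroup.center X) by rw [hZ]]
        exact pow_card_eq_one'
      have h2 : orderOf (⟨z, hz⟩ : Subgroup.center X) = p ^ (1 + 1) :=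
        orderOf_eq_prime_pow (by rw [pow_one]; exact fun h => hzp (congrArg Subtype.val h)) h1
      exact isCyclic_of_orderOf_eq_card _ (by rw [h2, hZ])
    have hΦZ := frattini_central hXp hk
    obtain ⟨w, hw, hwΦ⟩ : ∃ w ∈ Subgroup.center X, w ∉ frattini X := by
      by_contra hcon
      push Not at hcon
      have h1 := Subgroup.card_le_of_le (show Subgroup.center X ≤ frattini X from hcon)
      rw [hZ, hk] at h1
      nlinarith
    obtain ⟨M, hMn, hwM, hMi, ⟨e⟩⟩ := exists_split hXp hw (hZexp w hw) hwΦ
    have hMc : Nat.card M = p ^ 3 := by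
      have h1 := M.card_mul_index
      rw [hMi, hX, pow_succ p 3] at h1
      exact Nat.eq_of_mul_eq_mul_right hp0 h1
    have hMnc : ∃ a b : M, a * b ≠ b * a := by
      by_contra hcon
      push Not at hcon
      apply hxy
      apply e.injective
      rw [map_mul, map_mul]
      exact Prod.ext (hcon _ _) (mul_comm _ _)
    by_cases hp2 : p = 2
    · right; left
      refine ⟨hp2, ?_⟩
      obtain ⟨s, hs, hs2⟩ := squares_const hp2 hXp hA (Subgroup.center X) (fun α _ x hx => center_inv α hx) le_rfl
        (fun n hn => by have := hZexp n hn; rwa [hp2] at this) hΦZ (by rw [hk, hp2]) (by rw [hZ, hk, hp2]; norm_num)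
        (by rw [hX, hZ, hp2]; norm_num)
      subst hp2
      have hs1 : s ≠ 1 := by
        intro hs1
        have hexp : ∀ g : X, g ^ 2 = 1 := by
          intro g
          by_cases hg : g ∈ Subgroup.center X
          · exact hZexp g hg
          · rw [hs2 g hg, hs1]
        apply hxy
        have h1 := hexp (x * y)
        have h2 := hexp x
        have h3 := hexp y
        rw [pow_two] at h1 h2 h3
        have e1 : x⁻¹ = x := inv_eq_of_mul_eq_one_right h2
        have e2 : y⁻¹ = y := inv_eq_of_mul_eq_one_right h3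
        have e3 : (x * y)⁻¹ = x * y := inv_eq_of_mul_eq_one_right h1
        rw [← e3, mul_inv_rev, e1, e2]
      have hMZ : Nat.card ↥(M ⊓ Subgroup.center X) ≤ 2 := by
        have h1 : M ⊓ Subgroup.center X < Subgroup.center X := by
          refine lt_of_le_of_ne inf_le_right ?_
          intro h
          have : w ∈ M ⊓ Subgroup.center X := by rw [h]; exact hw
          exact hwM this.1
        have h2 := card_pow_of_lt hXp h1
        rw [hZ] at h2
        omega
      have huniq : ∀ a b : M, orderOf a = 2 → orderOf b = 2 → a = b := by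
        have key : ∀ a : M, orderOf a = 2 → (a : X) ∈ M ⊓ Subgroup.center X ∧ (a : X) ≠ 1 := by
          intro a ha
          have h1 : (a : X) ^ 2 = 1 := by
            have := pow_orderOf_eq_one a
            rw [ha] at this
            exact congrArg Subtype.val this
          refine ⟨⟨a.2, ?_⟩, ?_⟩
          · by_contra h
            exact hs1 ((hs2 _ h).symm.trans h1)
          · intro h
            have : a = 1 := Subtype.ext h
            rw [this, orderOf_one] at ha
            omega
        intro a b ha hb
        obtain ⟨ha1, ha2⟩ := key a ha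
        obtain ⟨hb1, hb2⟩ := key b hb
        by_contra hne
        have hne' : (a : X) ≠ b := fun h => hne (Subtype.ext h)
        have h3 : ({1, (a : X), (b : X)} : Finset X).card = 3 := by
          rw [Finset.card_insert_of_notMem, Finset.card_pair hne']
          simp only [Finset.mem_insert, Finset.mem_singleton, not_or]
          exact ⟨Ne.symm ha2, Ne.symm hb2⟩
        have h4 : ({1, (a : X), (b : X)} : Finset X).card ≤ Nat.card ↥(M ⊓ Subgroup.center X) := by
          rw [← SetLike.coe_sort_coe, Nat.card_coe_set_eq, ← Set.ncard_coe_finset]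
          refine Set.ncard_le_ncard ?_ (Set.toFinite _)
          intro u hu
          simp only [Finset.coe_insert, Finset.coe_singleton, Set.mem_insert_iff, Set.mem_singleton_iff] at hu
          rcases hu with rfl | rfl | rfl
          · exact Subgroup.one_mem _
          · exact ha1
          · exact hb1
        omega
      rcases QuatRec.cyclic_or_quaternion_of_card_eight (by rw [hMc]; norm_num) huniq with hc | hq8
      · exfalso
        obtain ⟨a, b, hab⟩ := hMnc
        letI := IsCyclic.commGroup (α := M)
        exact hab (mul_comm a b)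
      · obtain ⟨eqq⟩ := hq8
        exact ⟨e.trans (eqq.prodCongr (MulEquiv.refl _))⟩
    · left
      refine ⟨hp.out.odd_of_ne_two hp2, ?_⟩
      obtain ⟨O, hO, hOc⟩ := exists_omega hXp hp2 hk
      have hZO : Subgroup.center X ≤ O := fun z hz => (hO z).2 (hZexp z hz)
      have hOt : O = ⊤ := by
        by_contra hOt
        refine no_mid3 hXp hA (Subgroup.center X) O (fun α _ x hx => center_inv α hx) ?_ hΦZ hZO
          (by rw [hZ, hk, pow_two]) ?_ hOc
        · intro α _ x hx
          rw [hO] at hx ⊢
          rw [← map_pow, hx, map_one]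
        · have h1 := card_pow_of_lt hXp (lt_top_iff_ne_top.2 hOt)
          rw [Subgroup.card_top, hX] at h1
          rw [hZ]
          have h2 : p * Nat.card O ≤ p * (p * p ^ 2) := by
            refine h1.trans ?_
            apply le_of_eq; ring
          exact Nat.le_of_mul_le_mul_left h2 hp0
      have hexp : ∀ g : X, g ^ p = 1 := fun g => (hO g).1 (by rw [hOt]; exact Subgroup.mem_top _)
      obtain ⟨E, instE, hfE, ⟨eE⟩⟩ := exists_type M
      have hEc : Nat.card E = p ^ 3 := by rw [← Nat.card_congr eE.toEquiv, hMc]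
      have hEexp : ∀ t : E, t ^ p = 1 := by
        intro t
        apply eE.symm.injective
        rw [map_pow, map_one]
        exact Subtype.ext (hexp _)
      have hEne : commutator E ≠ ⊥ := by
        intro h
        obtain ⟨a, b, hab⟩ := hMnc
        apply hab
        apply eE.injective
        rw [map_mul, map_mul]
        have h1 : ⁅eE a, eE b⁆ ∈ commutator E := comm_mem_commutator _ _
        rw [h, Subgroup.mem_bot, commutatorElement_eq_one_iff_mul_comm] at h1
        exact h1
      exact ⟨E, instE, hfE, Blackburn.isExtraspecial_of_cube hEc hEexp hEne, hEc, hEexp,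
        ⟨e.trans (eE.prodCongr (MulEquiv.refl _))⟩⟩
  · right; right; left
    by_cases hne : commutator X = ⊥
    · have hab : ∀ x y : X, x * y = y * x := by
        intro x y
        have h1 : ⁅x, y⁆ ∈ commutator X := comm_mem_commutator x y
        rw [hne, Subgroup.mem_bot, commutatorElement_eq_one_iff_mul_comm] at h1
        exact h1
      have hi : (frattini X).index = p ^ 2 := by
        have h1 := (frattini X).card_mul_index
        rw [hk, hX] at h1
        have h2 : p ^ 2 * (frattini X).index = p ^ 2 * p ^ 2 := by rw [h1]; ring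
        exact Nat.eq_of_mul_eq_mul_left (by positivity) h2
      rcases EssRank2.rank_two hXp hA hab hi.le with ⟨-, h2⟩ | ⟨h3, m, ⟨e⟩⟩
      · rw [hX] at h2
        have := Nat.pow_right_injective hp1 h2
        omega
      · refine ⟨?_, ?_⟩
        · have := hp.out.two_le
          omega
        · have h4 : m = 2 := by
            have h5 := Nat.card_congr e.toEquiv
            rw [hX] at h5
            simp only [Nat.card_eq_fintype_card] at h5
            have : NeZero (p ^ m) := ⟨(pow_pos hp0 m).ne'⟩
            have h6 : Nat.card (Multiplicative (ZMod (p ^ m) × ZMod (p ^ m))) = p ^ (m + m) := by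
              rw [Nat.card_congr (Multiplicative.toAdd), Nat.card_prod, Nat.card_zmod, pow_add]
            have h7 : Nat.card X = p ^ (m + m) := by rw [Nat.card_congr e.toEquiv, h6]
            rw [hX] at h7
            have := Nat.pow_right_injective hp1 h7
            omega
          subst h4
          exact ⟨e⟩
    · exact absurd (rank_two_nonabelian hX hA hk hne) (fun h => h)

end Cfsg.Agent.Lib.EssFour
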