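import Cfsg.Agent.Lib.EssSection
import Cfsg.Agent.Lib.TwoTransv
import Cfsg.Agent.Lib.RelSylow

/-!
A strongly embedded situation with a central transvection: the Sylow subgroup is cyclic of order `p` (helper99).
-/

set_option autoImplicit false

namespace Cfsg.Agent.Lib.EssLin

open Subgroup
open Cfsg.Agent.Lib.EssSection Cfsg.Agent.Lib.TwoTransv Cfsg.Agent.Lib.RelSylow Cfsg.Agent.Lib.EssChain

variable {V : Type*} [CommGroup V] {p : ℕ} {A U B : Subgroup (MulAut V)}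

theorem isSyl [Finite V] [hp : Fact p.Prime] (h : EssS p A U B) : IsSyl p U A := by
  obtain ⟨P, hUP, hP⟩ := exists_isSyl_ge h.pgroup h.le
  have h1 := h.max P hP.1 hP.2.1 hUP
  rwa [h1] at hP

theorem conj_one' (g : V) : MulAut.conj g = 1 := by
  ext x
  simp [mul_comm g x]

theorem mem_B (h : EssS p A U B) {α : MulAut V} (hα : α ∈ A) {u v : MulAut V} (hu : u ∈ U) (hv : v ∈ U)
    (huv : u = α * v * α⁻¹) (hu1 : u ≠ 1) : α ∈ B :=
  h.conj α hα u hu v hv huv (fun g hg => hu1 (by rw [hg, conj_one']))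

theorem U_le_B (h : EssS p A U B) : U ≤ B := fun u hu =>
  h.norm u (h.le hu) fun v hv => mul_mem (mul_mem hu hv) (inv_mem hu)

theorem isSyl' [Finite V] [hp : Fact p.Prime] (h : EssS p A U B) : IsSyl p U B :=
  (isSyl h).of_le (U_le_B h) h.ext_le

theorem conj_ne_one {α v : MulAut V} (hv : v ≠ 1) : α * v * α⁻¹ ≠ 1 := by
  intro h
  apply hv
  have : v = α⁻¹ * (α * v * α⁻¹) * α := by group
  rw [this, h]
  group

theorem exists_gamma [Finite V] [hp : Fact p.Prime] (h : EssS p A U B) {P : Subgroup (MulAut V)} (hP : IsPGroup p P)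
    (hPA : P ≤ A) : ∃ γ ∈ A, ∀ y ∈ P, γ⁻¹ * y * γ ∈ U := by
  obtain ⟨γ, hγ, hle⟩ := (isSyl h).exists_conj_le hP hPA
  exact ⟨γ, hγ, fun y hy => mem_conj_iff.1 (hle hy)⟩

theorem no_common [Finite V] [hp : Fact p.Prime] (h : EssS p A U B) {P : Subgroup (MulAut V)} (hP : IsPGroup p P)
    (hPA : P ≤ A) {t : MulAut V} (ht : t ∈ U) (ht1 : t ≠ 1) {α β : MulAut V} (hα : α ∈ A) (hβ : β ∈ A)
    (h1 : α * t * α⁻¹ ∈ P) (h2 : β * t * β⁻¹ ∈ P) : α⁻¹ * β ∈ B := by
  obtain ⟨γ, hγ, hγP⟩ := exists_gamma h hP hPA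
  have key : ∀ δ : MulAut V, δ ∈ A → δ * t * δ⁻¹ ∈ P → γ⁻¹ * δ ∈ B := by
    intro δ hδ hδP
    have h3 := hγP _ hδP
    have h4 : γ⁻¹ * (δ * t * δ⁻¹) * γ = (γ⁻¹ * δ) * t * (γ⁻¹ * δ)⁻¹ := by group
    refine mem_B h (mul_mem (inv_mem hγ) hδ) h3 ht h4 ?_
    rw [h4]
    exact conj_ne_one ht1
  have h5 := mul_mem (inv_mem (key α hα h1)) (key β hβ h2)
  have h6 : (γ⁻¹ * α)⁻¹ * (γ⁻¹ * β) = α⁻¹ * β := by group
  rwa [h6] at h5

theorem not_mem [Finite V] [hp : Fact p.Prime] (h : EssS p A U B) {x α : MulAut V} (hx : x ∈ U) (hx1 : x ≠ 1) (hα : α ∈ A)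
    (hy : α⁻¹ * x * α ∈ B) : α ∈ B := by
  have hzp : IsPGroup p (zpowers (α⁻¹ * x * α)) := by
    obtain ⟨k, hk⟩ := h.pgroup ⟨x, hx⟩
    have hk' : x ^ p ^ k = 1 := congrArg Subtype.val hk
    have h1 : (α⁻¹ * x * α) ^ p ^ k = 1 := by
      have h2 : α⁻¹ * x * α = α⁻¹ * x * (α⁻¹)⁻¹ := by group
      rw [h2, conj_pow, hk']
      group
    rintro ⟨_, m, rfl⟩
    refine ⟨k, Subtype.ext ?_⟩
    show ((α⁻¹ * x * α) ^ m) ^ p ^ k = 1
    rw [← zpow_natCast, ← zpow_mul, mul_comm, zpow_mul, zpow_natCast, h1, one_zpow]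
  obtain ⟨b, hb, hle⟩ := (isSyl' h).exists_conj_le hzp (zpowers_le.2 hy)
  have h3 := mem_conj_iff.1 (hle (mem_zpowers _))
  have h4 : b⁻¹ * (α⁻¹ * x * α) * b = (b⁻¹ * α⁻¹) * x * (b⁻¹ * α⁻¹)⁻¹ := by group
  have h5 := mem_B h (mul_mem (inv_mem (h.ext_le hb)) (inv_mem hα)) h3 hx h4 (by rw [h4]; exact conj_ne_one hx1)
  have h6 : α⁻¹ ∈ B := by
    have := mul_mem hb h5
    rwa [mul_inv_cancel_left] at this
  simpa using inv_mem h6

/-- A central transvection generates the Sylow subgroup. -/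
theorem lin [Finite V] [hp : Fact p.Prime] (hV : IsPGroup p V) (h : EssS p A U B) {t : MulAut V} {e : V} (ht : IsTrans p t e)
    (htU : t ∈ U) (hcen : ∀ u ∈ U, u * t = t * u) : ∀ u ∈ U, u ∈ zpowers t := by
  intro u hu
  by_contra hut
  obtain ⟨α, hα, hαB⟩ : ∃ α ∈ A, α ∉ B := by
    by_contra hcon
    push Not at hcon
    exact h.ext_ne (le_antisymm h.ext_le hcon)
  obtain ⟨t', ht'⟩ : ∃ t', t' = α * t * α⁻¹ := ⟨_, rfl⟩
  obtain ⟨e', he'⟩ : ∃ e', e' = α e := ⟨_, rfl⟩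
  have hT' : IsTrans p t' e' := by rw [ht', he']; exact ht.conj α
  have htA : t ∈ A := h.le htU
  have ht'A : t' ∈ A := by rw [ht']; exact mul_mem (mul_mem hα htA) (inv_mem hα)
  have hcl : ∀ x y : MulAut V, x ∈ A → y ∈ A → closure {x, y} ≤ A := by
    intro x y hx hy
    rw [closure_le]
    rintro _ (rfl | rfl)
    · exact hx
    · exact hy
  have hnoP : ¬ IsPGroup p (closure {t, t'} : Subgroup (MulAut V)) := by
    intro hP
    have h1 := no_common h hP (hcl _ _ htA ht'A) htU ht.ne_one (one_mem A) hα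
      (by simpa using subset_closure (Set.mem_insert t {t'})) (by rw [← ht']; exact subset_closure (Or.inr rfl))
    apply hαB
    simpa using h1
  have hte' : t e' ≠ e' := by
    intro hh
    apply hnoP
    have := isPGroup_of_fix hT' ht hh
    rwa [Set.pair_comm] at this
  have ht'e : t' e ≠ e := fun hh => hnoP (isPGroup_of_fix ht hT' hh)
  -- `u` fixes `e`
  have hue : u e = e := by
    have h1 : u * t * u⁻¹ = t := by rw [hcen u hu]; group
    have h2 : IsTrans p t (u e) := by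
      have := ht.conj u
      rwa [h1] at this
    obtain ⟨k, hk⟩ := h.pgroup ⟨u, hu⟩
    have hk' : u ^ p ^ k = 1 := congrArg Subtype.val hk
    have hgen : ∀ x ∈ zpowers e, u x ∈ zpowers e := by
      rintro _ ⟨m, rfl⟩
      show u (e ^ m) ∈ zpowers e
      rw [map_zpow]
      exact zpow_mem (h2.unique ht) m
    have hcard : Nat.card (zpowers e) ≤ p * Nat.card (⊥ : Subgroup V) := by
      rw [Nat.card_zpowers, Subgroup.card_bot, mul_one, orderOf_eq_prime ht.pow ht.ne]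
    have h3 := trivial_on_factor hV hk' bot_le hcard (fun x hx => by
      rw [mem_bot] at hx ⊢
      rw [hx, map_one]) hgen e (mem_zpowers e)
    rw [mem_bot] at h3
    exact (inv_mul_eq_one.1 h3).symm
  obtain ⟨k, hk⟩ := ht.act e'
  have hk1 : e ^ k ≠ 1 := fun h1 => hte' (by rw [hk, h1, mul_one])
  -- `w`
  obtain ⟨w, hw⟩ : ∃ w, w = u e' * e'⁻¹ := ⟨_, rfl⟩
  have hue' : u e' = w * e' := by rw [hw, inv_mul_cancel_right]
  have htw : t w = w := by
    have h1 : t (u e') = u e' * e ^ k := by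
      have h2 : (u * t) e' = (t * u) e' := by rw [hcen u hu]
      have h3 : t (u e') = u (t e') := h2.symm
      rw [h3, hk, map_mul, map_zpow, hue]
    rw [hw, map_mul, map_inv, h1, hk, mul_inv_rev]
    rw [mul_assoc, mul_inv_cancel_left]
  obtain ⟨m, hm⟩ := hT'.act w
  obtain ⟨l, hl⟩ := hT'.act e
  have hl1 : e' ^ l ≠ 1 := fun h1 => ht'e (by rw [hl, h1, mul_one])
  obtain ⟨n, hn⟩ := exists_combination hT'.pow hT'.ne hl1 m
  obtain ⟨j, hj⟩ := exists_combination ht.pow ht.ne hk1 (-n)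
  obtain ⟨x, hx⟩ : ∃ x, x = t ^ j * u := ⟨_, rfl⟩
  have hxU : x ∈ U := by rw [hx]; exact mul_mem (zpow_mem htU j) hu
  have hx1 : x ≠ 1 := by
    intro hx1
    apply hut
    have h1 : u = t ^ (-j) := by
      rw [hx] at hx1
      rw [zpow_neg]
      exact eq_inv_of_mul_eq_one_right hx1
    rw [h1]
    exact ⟨-j, rfl⟩
  have htj : (t ^ j) e' = e' * e ^ (k * j) := IsTrans.zpow_apply ht.fix hk j
  have htjw : (t ^ j) w = w := by
    have := IsTrans.zpow_apply (k := 0) ht.fix (show t w = w * e ^ (0 : ℤ) by rw [htw, zpow_zero, mul_one]) j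
    rwa [zero_mul, zpow_zero, mul_one] at this
  have hekj : e ^ (k * j) = e ^ n := by
    have h1 : e ^ (-n + j * k) = e ^ (k * j) * (e ^ n)⁻¹ := by
      rw [zpow_add, zpow_neg, mul_comm j k, mul_comm]
    rw [h1] at hj
    exact mul_inv_eq_one.1 hj
  have hxe' : x e' = w * e ^ n * e' := by
    rw [hx, MulAut.mul_apply, hue', map_mul, htjw, htj, hekj]
    rw [mul_assoc, mul_comm e']
  have hfix : t' (x e') = x e' := by
    rw [hxe', map_mul, map_mul, map_zpow, hm, hl, hT'.fix]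
    have h1 : w * e' ^ m * (e * e' ^ l) ^ n = w * e ^ n * e' ^ (m + n * l) := by
      rw [mul_zpow, zpow_add, mul_comm n l, zpow_mul]
      rw [mul_assoc, mul_assoc, mul_left_comm (e' ^ m)]
    rw [h1, hn, mul_one]
  have hT'' : IsTrans p (x * t' * x⁻¹) (x e') := hT'.conj x
  have hP := isPGroup_of_fix hT'' hT' hfix
  have hxA : x ∈ A := h.le hxU
  have h1 := no_common h hP (hcl _ _ (mul_mem (mul_mem hxA ht'A) (inv_mem hxA)) ht'A) htU ht.ne_one hα (mul_mem hxA hα)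
    (by rw [← ht']; exact subset_closure (Or.inr rfl))
    (by
      have h2 : x * α * t * (x * α)⁻¹ = x * t' * x⁻¹ := by rw [ht']; group
      rw [h2]
      exact subset_closure (Or.inl rfl))
  rw [← mul_assoc] at h1
  exact hαB (not_mem h hxU hx1 hα h1)

end Cfsg.Agent.Lib.EssLin
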