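import Cfsg.Agent.Lib.OmegaMeta
import Cfsg.Agent.Lib.UniqueInvolution

/-!
# Minimal non `p`-exponent-closed `p`-groups (helper2)
-/

set_option autoImplicit false

open Subgroup
open scoped commutatorElement

namespace Cfsg.Agent.Lib.ExpClosed

/-- closed: the elements of order dividing `p` form a subgroup -/
def Closed (p : ℕ) (G : Type*) [Group G] : Prop := ∃ H : Subgroup G, (H : Set G) = {g : G | g ^ p = 1}

theorem closed_iff {p : ℕ} {G : Type*} [Group G] :
    Closed p G ↔ ∀ x y : G, x ^ p = 1 → y ^ p = 1 → (x * y) ^ p = 1 := by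
  constructor
  · rintro ⟨H, hH⟩ x y hx hy
    have h1 : x ∈ H := by rw [← SetLike.mem_coe, hH]; exact hx
    have h2 : y ∈ H := by rw [← SetLike.mem_coe, hH]; exact hy
    have h3 := mul_mem h1 h2
    rw [← SetLike.mem_coe, hH] at h3
    exact h3
  · intro h
    refine ⟨{ carrier := {g | g ^ p = 1}
              mul_mem' := fun {a b} ha hb => h a b ha hb
              one_mem' := one_pow p
              inv_mem' := fun {a} ha => ?_ }, rfl⟩
    show (a⁻¹) ^ p = 1
    have ha' : a ^ p = 1 := ha
    rw [inv_pow, ha', inv_one]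

theorem main {G : Type*} [Group G] [Finite G] {p : ℕ} [hp : Fact p.Prime] (hG : IsPGroup p G)
    (hnc : ¬ Closed p G) (hsub : ∀ K : Subgroup G, K ≠ ⊤ → Closed p K)
    (hquo : ∀ (N : Subgroup G) [N.Normal], N ≠ ⊥ → Closed p (G ⧸ N)) :
    (∃ x y : G, closure ({x, y} : Set G) = ⊤) ∧ (⊤ : Subgroup G).lowerCentralSeries (p - 1) ≠ ⊥ ∧
      Monoid.exponent G = p ^ 2 ∧ IsCyclic ↥(center G) ∧ p ^ (p + 1) ≤ Nat.card G := by
  classical
  rw [closed_iff] at hnc
  push Not at hnc
  obtain ⟨x, y, hx, hy, hxy⟩ := hnc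
  have hcl : closure ({x, y} : Set G) = ⊤ := by
    by_contra h
    have h1 := closed_iff.mp (hsub _ h)
    apply hxy
    have hxm : x ∈ closure ({x, y} : Set G) := Subgroup.subset_closure (by simp)
    have hym : y ∈ closure ({x, y} : Set G) := Subgroup.subset_closure (by simp)
    exact congrArg Subtype.val (h1 ⟨x, hxm⟩ ⟨y, hym⟩ (Subtype.ext hx) (Subtype.ext hy))
  have hclass : (⊤ : Subgroup G).lowerCentralSeries (p - 1) ≠ ⊥ := by
    intro h
    apply hxy
    have := H70Regular.mul_pow_eq_one hG (H70Regular.regAt_of_class h) _ ⊤ rfl x (mem_top _) y (mem_top _)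
      (by rw [pow_one]; exact hx) (by rw [pow_one]; exact hy)
    rwa [pow_one] at this
  have hmem : ∀ (N : Subgroup G) [N.Normal], N ≠ ⊥ → ∀ g : G, g ^ p ∈ N := by
    intro N _ hN g
    obtain ⟨H, hH⟩ := hquo N hN
    have h1 : closure ({x, y} : Set G) ≤ H.comap (QuotientGroup.mk' N) := by
      rw [closure_le]
      have key : ∀ z : G, z ^ p = 1 → z ∈ H.comap (QuotientGroup.mk' N) := by
        intro z hz
        rw [mem_comap, ← SetLike.mem_coe, hH]
        show (QuotientGroup.mk' N z) ^ p = 1
        rw [← map_pow, hz, map_one]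
      rintro z (rfl | hz)
      · exact key _ hx
      · rw [Set.mem_singleton_iff] at hz; rw [hz]; exact key _ hy
    rw [hcl] at h1
    have h2 := h1 (mem_top g)
    rw [mem_comap, ← SetLike.mem_coe, hH] at h2
    have h3 : (QuotientGroup.mk' N g) ^ p = 1 := h2
    rwa [← map_pow, PGroupOdd.mk'_eq_one_iff] at h3
  have hne : Nontrivial G := ⟨x * y, 1, fun h => hxy (by rw [h, one_pow])⟩
  refine ⟨⟨x, y, hcl⟩, hclass, ?_, ?_, ?_⟩
  · -- exponent
    obtain ⟨t, -, htc, hto⟩ := PGroupOdd.exists_central_mem hG (inferInstance : (⊤ : Subgroup G).Normal) top_ne_bot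
    haveI hZn : (zpowers t).Normal := by
      constructor
      rintro _ ⟨i, rfl⟩ g
      have h0 : Commute g t := mem_center_iff.mp htc g
      have h1 : g * t ^ i * g⁻¹ = t ^ i := by rw [(h0.zpow_right i).eq]; group
      simp only
      rw [h1]
      exact zpow_mem (mem_zpowers t) i
    have hZne : zpowers t ≠ ⊥ := by
      intro h
      rw [zpowers_eq_bot] at h
      rw [h, orderOf_one] at hto
      exact hp.out.one_lt.ne hto
    have h1 : Monoid.exponent G ∣ p ^ 2 := by
      rw [Monoid.exponent_dvd_iff_forall_pow_eq_one]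
      intro g
      obtain ⟨i, hi⟩ := hmem (zpowers t) hZne g
      simp only at hi
      rw [pow_two, pow_mul, ← hi, ← zpow_natCast, ← zpow_mul, mul_comm, zpow_mul, zpow_natCast]
      nth_rewrite 1 [← hto]
      rw [pow_orderOf_eq_one, one_zpow]
    obtain ⟨k, hk, hk2⟩ := (Nat.dvd_prime_pow hp.out).mp h1
    rw [hk2]
    congr 1
    by_contra hk3
    apply hxy
    rw [← orderOf_dvd_iff_pow_eq_one]
    refine (Monoid.order_dvd_exponent _).trans ?_
    rw [hk2]
    calc p ^ k ∣ p ^ 1 := pow_dvd_pow p (by omega)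
      _ = p := pow_one p
  · -- cyclic centre
    refine ⟨UniqueInvolution.cyclic_of_comm (p := p) (hG.to_subgroup _) (fun a b => mul_comm' a b) ?_⟩
    intro a b ha hb
    have hn : ∀ c : center G, (zpowers (c : G)).Normal := by
      intro c
      constructor
      rintro _ ⟨i, rfl⟩ g
      have h0 : Commute g (c : G) := mem_center_iff.mp c.2 g
      have h1 : g * (c : G) ^ i * g⁻¹ = (c : G) ^ i := by rw [(h0.zpow_right i).eq]; group
      simp only
      rw [h1]
      exact zpow_mem (mem_zpowers _) i
    have hord : ∀ c : center G, orderOf c = p → orderOf (c : G) = p := by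
      intro c hc; rw [orderOf_coe, hc]
    -- `(xy)^p` lies in both
    have key : ∀ c : center G, orderOf c = p → zpowers ((x * y) ^ p) = zpowers (c : G) := by
      intro c hc
      haveI := hn c
      have h1 : zpowers (c : G) ≠ ⊥ := by
        intro h
        rw [zpowers_eq_bot] at h
        have h2 := hord c hc
        rw [h, orderOf_one] at h2
        exact hp.out.one_lt.ne h2
      have h2 := hmem (zpowers (c : G)) h1 (x * y)
      have h3 : orderOf ((x * y) ^ p) = p := by
        apply orderOf_eq_prime _ hxy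
        obtain ⟨i, hi⟩ := h2
        simp only at hi
        rw [← hi, ← zpow_natCast, ← zpow_mul, mul_comm, zpow_mul, zpow_natCast]
        nth_rewrite 1 [← hord c hc]
        rw [pow_orderOf_eq_one, one_zpow]
      apply eq_of_le_of_card_ge
      · rw [zpowers_le]; exact h2
      · rw [Nat.card_zpowers, Nat.card_zpowers, h3, hord c hc]
    have h1 : (b : G) ∈ zpowers (a : G) := by
      rw [← key a ha, key b hb]; exact mem_zpowers _
    obtain ⟨i, hi⟩ := h1
    exact ⟨i, Subtype.ext (by simpa using hi)⟩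
  · -- order
    obtain ⟨n, hn⟩ := IsPGroup.iff_card.mp hG
    by_contra h
    rw [hn] at h
    push Not at h
    have h1 : n < p + 1 := (Nat.pow_lt_pow_iff_right hp.out.one_lt).mp h
    apply hclass
    rcases Nat.lt_or_ge n 2 with h2 | h2
    · -- abelian
      exfalso
      have h3 : Nat.card G ∣ p := by
        rw [hn]
        calc p ^ n ∣ p ^ 1 := pow_dvd_pow p (by omega)
          _ = p := pow_one p
      apply hxy
      rw [← orderOf_dvd_iff_pow_eq_one]
      exact (_root_.orderOf_dvd_natCard _).trans h3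
    · exact OmegaMeta.lcs_of_card h2 hn (by omega)

end Cfsg.Agent.Lib.ExpClosed
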