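import Cfsg.Agent.Lib.ZStarPow
import Cfsg.Prelude.Def_FusionSystem

/-!
# The centre of the fusion system of a finite group and `Z*` (helper80)
-/

set_option autoImplicit false
set_option linter.all false

namespace Cfsg.Agent.Lib.ZStarFus

open Cfsg Cfsg.Agent.Lib.Isolated

universe u

variable {G : Type u} [Group G]

/-- a `p`-subgroup of `S N` is conjugate into `S` by an element of `N` -/
theorem exists_conj_le [Finite G] {p : ℕ} [hp : Fact p.Prime] (S : Sylow p G) (N : Subgroup G) [N.Normal]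
    (T : Subgroup G) (hT : IsPGroup p T) (hTS : T ≤ (S : Subgroup G) ⊔ N) :
    ∃ n ∈ N, ∀ t ∈ T, n * t * n⁻¹ ∈ S := by
  set H : Subgroup G := S ⊔ N with hH
  have hSH : (S : Subgroup G) ≤ H := le_sup_left
  obtain ⟨Q, hQ⟩ := (hT.comap_subtype (K := H)).exists_le_sylow
  obtain ⟨h, hh⟩ := MulAction.exists_smul_eq H Q (S.subtype hSH)
  have hhH : (h : G) ∈ (S : Subgroup G) ⊔ N := h.2
  obtain ⟨s, hs, n, hn, hsn⟩ := Subgroup.mem_sup_of_normal_right.1 hhH
  refine ⟨n, hn, fun t ht => ?_⟩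
  have h1 : (⟨t, hTS ht⟩ : H) ∈ Q := hQ (by rw [Subgroup.mem_comap]; exact ht)
  have h2 : h * (⟨t, hTS ht⟩ : H) * h⁻¹ ∈ (S.subtype hSH : Sylow p H) := by
    rw [← hh]; exact conj_mem_smul _ _ h1
  have h3 : (h : G) * t * (h : G)⁻¹ ∈ (S : Subgroup G) := h2
  rw [← hsn] at h3
  have h4 : s⁻¹ * (s * n * t * (s * n)⁻¹) * s ∈ (S : Subgroup G) :=
    mul_mem (mul_mem (inv_mem hs) h3) hs
  have e : s⁻¹ * (s * n * t * (s * n)⁻¹) * s = n * t * n⁻¹ := by group
  rwa [e] at h4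

theorem eq_of_mem_of_mul_inv_mem [Finite G] {p : ℕ} [hp : Fact p.Prime] (S : Sylow p G) {x y : G}
    (hx : x ∈ S) (hy : y ∈ S) (h : x * y⁻¹ ∈ pPrimeCore p G) : x = y := by
  have h1 : x * y⁻¹ ∈ (S : Subgroup G) ⊓ pPrimeCore p G := ⟨(S : Subgroup G).mul_mem hx ((S : Subgroup G).inv_mem hy), h⟩
  rw [Cores.isPGroup_inf_pPrimeCore S.isPGroup', Subgroup.mem_bot, mul_inv_eq_one] at h1
  exact h1

/-- The elements of `S` central modulo `O_{p'}(G)` are in the centre of the fusion system. -/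
theorem isCentral_inf [Finite G] {p : ℕ} [hp : Fact p.Prime] (S : Sylow p G) :
    (groupFusionSystem (S : Subgroup G)).IsCentral
      ((S : Subgroup G) ⊓ (Subgroup.center (G ⧸ pPrimeCore p G)).comap
        (QuotientGroup.mk' (pPrimeCore p G))) := by
  set N := pPrimeCore p G with hN
  set Q := (S : Subgroup G) ⊓ (Subgroup.center (G ⧸ N)).comap (QuotientGroup.mk' N) with hQ
  refine ⟨inf_le_left, ?_⟩
  rintro P φ ⟨hPS, hφS, g, hg⟩
  -- commutators with elements of `Q`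
  have hQN : ∀ q ∈ Q, ∀ k : G, k * q * k⁻¹ * q⁻¹ ∈ N := by
    intro q hq k
    have h1 := Subgroup.mem_center_iff.1 hq.2 (QuotientGroup.mk' N k)
    rw [← QuotientGroup.eq_one_iff]
    show (QuotientGroup.mk' N) (k * q * k⁻¹ * q⁻¹) = 1
    rw [map_mul, map_mul, map_mul, h1, map_inv, map_inv]
    group
  -- the conjugate of `P ⊔ Q`
  set T := (P ⊔ Q).map (MulAut.conj g).toMonoidHom with hT
  have hTp : IsPGroup p T := (S.isPGroup'.to_le (sup_le hPS inf_le_left)).map _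
  have hTS : T ≤ (S : Subgroup G) ⊔ N := by
    rw [hT, Subgroup.map_sup, sup_le_iff]
    constructor
    · rintro _ ⟨x, hx, rfl⟩
      apply Subgroup.mem_sup_left
      have := hφS ⟨x, hx⟩
      rw [hg] at this
      exact this
    · rintro _ ⟨x, hx, rfl⟩
      have h1 := hQN x hx g
      have e : (MulAut.conj g).toMonoidHom x = (g * x * g⁻¹ * x⁻¹) * x := by
        simp
      rw [e]
      exact mul_mem (Subgroup.mem_sup_right h1) (Subgroup.mem_sup_left hx.1)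
  obtain ⟨n, hn, hnT⟩ := exists_conj_le S N T hTp hTS
  have hmem : ∀ x ∈ P ⊔ Q, n * (g * x * g⁻¹) * n⁻¹ ∈ S := by
    intro x hx
    exact hnT _ ⟨x, hx, rfl⟩
  have hncomm : ∀ y : G, n * y * n⁻¹ * y⁻¹ ∈ N := by
    intro y
    have h1 : y * n⁻¹ * y⁻¹ ∈ N := (pPrimeCore_normal p G).conj_mem _ (inv_mem hn) y
    have e : n * y * n⁻¹ * y⁻¹ = n * (y * n⁻¹ * y⁻¹) := by group
    rw [e]
    exact mul_mem hn h1
  have hPeq : ∀ x ∈ P, n * (g * x * g⁻¹) * n⁻¹ = g * x * g⁻¹ := by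
    intro x hx
    apply eq_of_mem_of_mul_inv_mem S (hmem x (Subgroup.mem_sup_left hx))
    · have := hφS ⟨x, hx⟩
      rwa [hg] at this
    · exact hncomm _
  have hQeq : ∀ x ∈ Q, n * (g * x * g⁻¹) * n⁻¹ = x := by
    intro x hx
    apply eq_of_mem_of_mul_inv_mem S (hmem x (Subgroup.mem_sup_right hx)) hx.1
    have e : n * (g * x * g⁻¹) * n⁻¹ * x⁻¹ = (n * (g * x * g⁻¹) * n⁻¹ * (g * x * g⁻¹)⁻¹) *
        (g * x * g⁻¹ * x⁻¹) := by group
    rw [e]
    exact mul_mem (hncomm _) (hQN x hx g)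
  refine ⟨conjHom (P ⊔ Q) (n * g), ⟨sup_le hPS inf_le_left, ?_, n * g, fun x => rfl⟩, ?_, ?_⟩
  · intro x
    have := hmem x x.2
    have e : conjHom (P ⊔ Q) (n * g) x = n * (g * x * g⁻¹) * n⁻¹ := by
      show (n * g) * x * (n * g)⁻¹ = _
      group
    rw [e]
    exact this
  · intro x
    rw [hg]
    show (n * g) * x * (n * g)⁻¹ = _
    rw [← hPeq x x.2]
    group
  · intro x
    show (n * g) * x * (n * g)⁻¹ = _
    conv_rhs => rw [← hQeq x x.2]
    group

/-- Elements of central subgroups are weakly closed. -/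
theorem conj_eq_of_isCentral {S : Subgroup G} {Q : Subgroup G}
    (hQ : (groupFusionSystem S).IsCentral Q) {x : G} (hx : x ∈ Q) {g : G} (hg : g * x * g⁻¹ ∈ S) :
    g * x * g⁻¹ = x := by
  have hxS : x ∈ S := hQ.1 hx
  have hφ : conjHom (Subgroup.zpowers x) g ∈ (groupFusionSystem S).Hom (Subgroup.zpowers x) := by
    refine ⟨by rw [Subgroup.zpowers_le]; exact hxS, ?_, g, fun x => rfl⟩
    rintro ⟨y, hy⟩
    obtain ⟨k, rfl⟩ := Subgroup.mem_zpowers_iff.1 hy
    show g * x ^ k * g⁻¹ ∈ S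
    rw [← conj_zpow]
    exact zpow_mem hg k
  obtain ⟨ψ, hψ, h1, h2⟩ := hQ.2 _ _ hφ
  have h3 := h1 ⟨x, Subgroup.mem_zpowers x⟩
  have h4 := h2 ⟨x, hx⟩
  have h5 : Subgroup.inclusion (le_sup_left : Subgroup.zpowers x ≤ Subgroup.zpowers x ⊔ Q)
      ⟨x, Subgroup.mem_zpowers x⟩ =
    Subgroup.inclusion (le_sup_right : Q ≤ Subgroup.zpowers x ⊔ Q) ⟨x, hx⟩ := rfl
  rw [h5, h4] at h3
  exact h3.symm

/-- centre of the fusion system, provided isolated elements of order `p` are in `Z*_p` -/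
theorem center_eq [Finite G] {p : ℕ} [hp : Fact p.Prime]
    (hbase : ∀ (G : Type u) [Group G] [Finite G] (x : G), orderOf x = p → IsIsolated x → InZStar p x)
    (S : Sylow p G) :
    (groupFusionSystem (S : Subgroup G)).center =
      (S : Subgroup G) ⊓ (Subgroup.center (G ⧸ pPrimeCore p G)).comap
        (QuotientGroup.mk' (pPrimeCore p G)) := by
  apply le_antisymm
  · apply sSup_le
    intro Q hQ x hx
    refine ⟨hQ.1 hx, ?_⟩
    have hiso := ZStarPow.isIsolated_of_sylow S (hQ.1 hx) (fun g hg => conj_eq_of_isCentral hQ hx hg)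
    obtain ⟨k, hk⟩ := (IsPGroup.iff_orderOf.1 S.isPGroup') ⟨x, hQ.1 hx⟩
    rw [Subgroup.orderOf_mk] at hk
    have h1 := ZStarPow.inZStar_of_base hbase k G x (dvd_of_eq hk) hiso
    show (QuotientGroup.mk' (pPrimeCore p G)) x ∈ Subgroup.center (G ⧸ pPrimeCore p G)
    rw [Subgroup.mem_center_iff]
    intro gbar
    obtain ⟨g, rfl⟩ := QuotientGroup.mk'_surjective (pPrimeCore p G) gbar
    have h2 : (QuotientGroup.mk' (pPrimeCore p G)) (g * x * g⁻¹ * x⁻¹) = 1 :=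
      (QuotientGroup.eq_one_iff _).2 (h1 g)
    rw [map_mul, map_mul, map_mul, map_inv, map_inv, mul_inv_eq_one, mul_inv_eq_iff_eq_mul] at h2
    exact h2
  · exact le_sSup (isCentral_inf S)

end Cfsg.Agent.Lib.ZStarFus
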