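import Cfsg.Agent.S3020
import Cfsg.Agent.S3021
import Cfsg.Agent.Lib.CoprimeAction
import Cfsg.Agent.Lib.Cores
import Cfsg.Agent.Lib.BlockOsima
import Cfsg.Agent.Lib.ZStarFus

/-!
# Extremely closed abelian `p`-subgroups (helper80)

Group theory of pairs `T g = ⟨H, g H g⁻¹⟩ = O g H`, `O g = O_{p'}(T g)`; the canonical element
`kk g ∈ O g` with `g H g⁻¹ = kk g H (kk g)⁻¹`, the element `nn g = (kk g)⁻¹ g ∈ N_G(H)`.
-/

set_option autoImplicit false
set_option linter.all false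

namespace Cfsg.Agent.Lib.ExtClosed

open Cfsg Subgroup Pointwise Cfsg.Agent.Lib.SubgroupTools

universe u

variable {G : Type u} [Group G]

/-- an extremely closed abelian `p`-subgroup -/
structure EC (p : ℕ) (H : Subgroup G) : Prop where
  pg : IsPGroup p H
  ab : IsMulCommutative H
  cl : IsExtremelyClosed H

/-- `⟨H, g H g⁻¹⟩` -/
def TT (H : Subgroup G) (g : G) : Subgroup G := H ⊔ H.map (MulAut.conj g).toMonoidHom

/-- `O_{p'}(⟨H, g H g⁻¹⟩)` -/
def OO (p : ℕ) (H : Subgroup G) (g : G) : Subgroup G := (pPrimeCore p (TT H g)).map (TT H g).subtype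

theorem le_TT (H : Subgroup G) (g : G) : H ≤ TT H g := le_sup_left
theorem conj_le_TT (H : Subgroup G) (g : G) : MulAut.conj g • H ≤ TT H g := le_sup_right
theorem OO_le_TT (p : ℕ) (H : Subgroup G) (g : G) : OO p H g ≤ TT H g := map_subtype_le _

theorem TT_congr {H : Subgroup G} {g g' : G} (h : MulAut.conj g • H = MulAut.conj g' • H) :
    TT H g = TT H g' := by
  show H ⊔ MulAut.conj g • H = H ⊔ MulAut.conj g' • H
  rw [h]

theorem OO_congr {p : ℕ} {H : Subgroup G} {g g' : G} (h : MulAut.conj g • H = MulAut.conj g' • H) :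
    OO p H g = OO p H g' := by
  unfold OO
  rw [TT_congr h]

theorem conj_mem_OO {p : ℕ} {H : Subgroup G} {g t o : G} (ht : t ∈ TT H g) (ho : o ∈ OO p H g) :
    t * o * t⁻¹ ∈ OO p H g := by
  obtain ⟨o', ho', rfl⟩ := ho
  exact ⟨_, (pPrimeCore_normal p (TT H g)).conj_mem o' ho' ⟨t, ht⟩, rfl⟩

theorem conj_mem_OO' {p : ℕ} {H : Subgroup G} {g t o : G} (ht : t ∈ TT H g) (ho : o ∈ OO p H g) :
    t⁻¹ * o * t ∈ OO p H g := by
  have := conj_mem_OO (TT H g |>.inv_mem ht) ho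
  rwa [inv_inv] at this

variable [Finite G] {p : ℕ} [hp : Fact p.Prime] {H : Subgroup G}

theorem coprime_card_OO (g : G) : (Nat.card (OO p H g)).Coprime p := by
  unfold OO
  rw [Cores.card_map_subtype]
  exact Cores.coprime_card_pPrimeCore p _

theorem coprime_orderOf {g o : G} (ho : o ∈ OO p H g) : (orderOf o).Coprime p := by
  have h1 : orderOf (⟨o, ho⟩ : OO p H g) ∣ Nat.card (OO p H g) := orderOf_dvd_natCard _
  rw [Subgroup.orderOf_mk] at h1
  exact Nat.Coprime.coprime_dvd_left h1 (coprime_card_OO g)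

/-- elements of order prime to `p` in `Q H` with `H` a `p`-group normalizing `Q` are in `Q` -/
theorem mem_of_coprime {Q H : Subgroup G} (hH : IsPGroup p H) (hn : H ≤ normalizer (Q : Set G))
    {z : G} (hz : z ∈ Q ⊔ H) (hc : (orderOf z).Coprime p) : z ∈ Q := by
  have hQn : (Q.subgroupOf (Q ⊔ H)).Normal :=
    normal_subgroupOf_iff_le_normalizer' (sup_le le_normalizer hn)
  have h1 : (⟨z, hz⟩ : (Q ⊔ H : Subgroup G)) ^ (Q.subgroupOf (Q ⊔ H)).index ∈ Q.subgroupOf (Q ⊔ H) :=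
    Subgroup.pow_index_mem _ _
  have h2 : z ^ Q.relIndex (Q ⊔ H) ∈ Q := h1
  have h3 : Q.relIndex (Q ⊔ H) ∣ Nat.card H := by
    have h4 : (Q ⊓ H).relIndex H = Q.relIndex (Q ⊔ H) := by
      have e1 := card_sup_mul_card_inf hn
      have e2 := Cores.card_mul_relIndex (le_sup_left : Q ≤ Q ⊔ H)
      have e3 := Cores.card_mul_relIndex (inf_le_right : Q ⊓ H ≤ H)
      have hQ : 0 < Nat.card Q := Nat.card_pos
      have hI : 0 < Nat.card (Q ⊓ H : Subgroup G) := Nat.card_pos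
      rw [← e2, ← e3] at e1
      have e4 : (Nat.card Q * Nat.card (Q ⊓ H : Subgroup G)) * Q.relIndex (Q ⊔ H) =
          (Nat.card Q * Nat.card (Q ⊓ H : Subgroup G)) * (Q ⊓ H).relIndex H := by
        calc _ = Nat.card Q * Q.relIndex (Q ⊔ H) * Nat.card (Q ⊓ H : Subgroup G) := by ring
          _ = Nat.card Q * (Nat.card (Q ⊓ H : Subgroup G) * (Q ⊓ H).relIndex H) := e1
          _ = _ := by ring
      exact (Nat.eq_of_mul_eq_mul_left (Nat.mul_pos hQ hI) e4).symm
    rw [← h4]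
    exact relIndex_dvd_card _ _
  obtain ⟨n, hn⟩ := IsPGroup.iff_card.1 hH
  have h5 : z ^ (p ^ n) ∈ Q := by
    rw [← hn]
    obtain ⟨c, hc⟩ := h3
    rw [hc, pow_mul]
    exact Q.pow_mem h2 c
  have h6 : (orderOf z).Coprime (p ^ n) := Nat.Coprime.pow_right n hc
  obtain ⟨m, hm⟩ := exists_pow_eq_self_of_coprime h6.symm
  rw [← hm]
  exact Q.pow_mem h5 m

namespace EC

variable (hE : EC p H)
include hE

theorem comm {x y : G} (hx : x ∈ H) (hy : y ∈ H) : x * y = y * x := by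
  have := hE.ab
  exact setLike_mul_comm hx hy

theorem sup_OO (g : G) : H ⊔ OO p H g = TT H g := (S3020.result H hE.pg hE.ab hE.cl g _ rfl).1

theorem inf_OO (g : G) : H ⊓ OO p H g = ⊥ := (S3020.result H hE.pg hE.ab hE.cl g _ rfl).2

theorem le_norm_OO (g : G) : H ≤ normalizer (OO p H g : Set G) := by
  intro h hh
  rw [mem_normalizer_iff]
  intro x
  refine ⟨fun hx => conj_mem_OO (le_TT H g hh) hx, fun hx => ?_⟩
  have h1 := conj_mem_OO' (le_TT H g hh) hx
  have e : h⁻¹ * (h * x * h⁻¹) * h = x := by group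
  rwa [e] at h1

/-- `t = o * h` -/
theorem exists_mul {g t : G} (ht : t ∈ TT H g) : ∃ o ∈ OO p H g, ∃ h ∈ H, o * h = t := by
  rw [← hE.sup_OO g, sup_comm] at ht
  exact (mem_sup_of_le_normalizer (hE.le_norm_OO g)).1 ht

theorem eq_one {g x : G} (hx : x ∈ H) (hx' : x ∈ OO p H g) : x = 1 := by
  have : x ∈ H ⊓ OO p H g := ⟨hx, hx'⟩
  rwa [hE.inf_OO, mem_bot] at this

theorem mem_of_normalizer {g t : G} (ht : t ∈ TT H g) (hn : t ∈ normalizer (H : Set G)) : t ∈ H := by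
  have h1 : t ∈ TT H g ⊓ normalizer (H : Set G) := ⟨ht, hn⟩
  have h2 := hE.cl g
  change TT H g ⊓ normalizer (H : Set G) = H at h2
  rwa [h2] at h1

theorem eq_one_of_normalizer {g o : G} (ho : o ∈ OO p H g) (hn : o ∈ normalizer (H : Set G)) : o = 1 :=
  hE.eq_one (hE.mem_of_normalizer (OO_le_TT p H g ho) hn) ho

theorem eq_one_of_commute {g o : G} (ho : o ∈ OO p H g) (hn : ∀ h ∈ H, Commute o h) : o = 1 := by
  apply hE.eq_one_of_normalizer ho
  rw [mem_normalizer_iff]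
  intro h
  constructor
  · intro hh
    rw [(hn h hh).eq, mul_inv_cancel_right]
    exact hh
  · intro hh
    have h1 := hn _ hh
    have h2 : h = o⁻¹ * (o * h * o⁻¹) * o := by group
    have h3 : o⁻¹ * (o * h * o⁻¹) * o = o * h * o⁻¹ := by
      calc o⁻¹ * (o * h * o⁻¹) * o = o⁻¹ * ((o * h * o⁻¹) * o) := by group
        _ = o⁻¹ * (o * (o * h * o⁻¹)) := by rw [h1.eq]
        _ = _ := by group
    rw [h2, h3]
    exact hh

theorem not_dvd_relIndex (g : G) : ¬ p ∣ H.relIndex (TT H g) := by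
  have h1 := Cores.card_mul_relIndex (le_TT H g)
  have h2 : Nat.card (TT H g) = Nat.card (OO p H g) * Nat.card H := by
    rw [← hE.sup_OO g, sup_comm]
    apply card_sup_of_disjoint (hE.le_norm_OO g)
    rw [disjoint_iff, inf_comm, hE.inf_OO]
  rw [h2, mul_comm] at h1
  have h3 : H.relIndex (TT H g) = Nat.card (OO p H g) := Nat.eq_of_mul_eq_mul_right Nat.card_pos h1
  rw [h3, ← hp.out.coprime_iff_not_dvd, Nat.coprime_comm]
  exact coprime_card_OO g

/-- `p`-subgroups of `T g` with the order of `H` are conjugate to `H` by an element of `O g`. -/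
theorem exists_conj_of_card {g : G} {K : Subgroup G} (hK : K ≤ TT H g) (hKc : Nat.card K = Nat.card H) :
    ∃ k ∈ OO p H g, MulAut.conj k • H = K := by
  have hKp : IsPGroup p K := by
    obtain ⟨n, hn⟩ := IsPGroup.iff_card.1 hE.pg
    exact IsPGroup.iff_card.2 ⟨n, hKc.trans hn⟩
  have hi : ¬ p ∣ K.relIndex (TT H g) := by
    have h1 := Cores.card_mul_relIndex (le_TT H g)
    have h2 := Cores.card_mul_relIndex hK
    rw [hKc, ← h1] at h2
    have h3 := Nat.eq_of_mul_eq_mul_left Nat.card_pos h2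
    rw [h3]
    exact hE.not_dvd_relIndex g
  obtain ⟨t, ht, htK⟩ := sylow_conj_rel (le_TT H g) hK hE.pg hKp (hE.not_dvd_relIndex g) hi
  obtain ⟨o, ho, h, hh, rfl⟩ := hE.exists_mul ht
  refine ⟨o, ho, ?_⟩
  rw [conj_smul_mul, conj_smul_self_of_mem hh] at htK
  exact htK

theorem exists_kk (g : G) : ∃ k ∈ OO p H g, MulAut.conj k • H = MulAut.conj g • H :=
  hE.exists_conj_of_card (conj_le_TT H g) (card_conj_smul g H)

theorem kk_unique {g k k' : G} (hk : k ∈ OO p H g) (hk' : k' ∈ OO p H g)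
    (h : MulAut.conj k • H = MulAut.conj k' • H) : k = k' := by
  have h1 : k⁻¹ * k' ∈ OO p H g := mul_mem (inv_mem hk) hk'
  have h2 : k⁻¹ * k' ∈ normalizer (H : Set G) := by
    rw [mem_normalizer_iff_conj_smul, conj_smul_mul, ← h, ← conj_smul_mul, inv_mul_cancel, conj_smul_one]
  have h3 := hE.eq_one_of_normalizer h1 h2
  exact (inv_mul_eq_one.1 h3)

omit hE in
/-- the canonical element -/
noncomputable def kk (hE : EC p H) (g : G) : G := Classical.choose (hE.exists_kk g)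

theorem kk_mem (g : G) : kk hE g ∈ OO p H g := (Classical.choose_spec (hE.exists_kk g)).1

theorem kk_conj (g : G) : MulAut.conj (kk hE g) • H = MulAut.conj g • H :=
  (Classical.choose_spec (hE.exists_kk g)).2

omit hE in
noncomputable def nn (hE : EC p H) (g : G) : G := (kk hE g)⁻¹ * g

theorem nn_mem (g : G) : nn hE g ∈ normalizer (H : Set G) := by
  rw [mem_normalizer_iff_conj_smul, nn, conj_smul_mul, ← hE.kk_conj, ← conj_smul_mul, inv_mul_cancel,
    conj_smul_one]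

theorem kk_mul_nn (g : G) : kk hE g * nn hE g = g := by rw [nn, mul_inv_cancel_left]

theorem kk_mul (g : G) {m : G} (hm : m ∈ normalizer (H : Set G)) : kk hE (g * m) = kk hE g := by
  have h1 : MulAut.conj (g * m) • H = MulAut.conj g • H := by
    rw [conj_smul_mul, conj_smul_of_mem_normalizer hm]
  have h2 := hE.kk_mem (g * m)
  rw [OO_congr h1] at h2
  apply hE.kk_unique h2 (hE.kk_mem g)
  rw [hE.kk_conj, hE.kk_conj, h1]

theorem nn_mul (g : G) {m : G} (hm : m ∈ normalizer (H : Set G)) : nn hE (g * m) = nn hE g * m := by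
  rw [nn, hE.kk_mul g hm, nn, mul_assoc]

theorem nn_conj_mem (g : G) {x : G} (hx : x ∈ H) : nn hE g * x * (nn hE g)⁻¹ ∈ H :=
  ((mem_normalizer_iff.1 (hE.nn_mem g)) x).1 hx

/-- `g x g⁻¹ = o x'` with `o ∈ O g` and `x' = n x n⁻¹`, `n = nn g` -/
theorem exists_conj_eq (g : G) {x : G} (hx : x ∈ H) :
    ∃ o ∈ OO p H g, g * x * g⁻¹ = o * (nn hE g * x * (nn hE g)⁻¹) := by
  set x' := nn hE g * x * (nn hE g)⁻¹ with hx'
  have hx'H : x' ∈ H := hE.nn_conj_mem g hx
  refine ⟨kk hE g * (x' * (kk hE g)⁻¹ * x'⁻¹), ?_, ?_⟩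
  · exact mul_mem (hE.kk_mem g) (conj_mem_OO (le_TT H g hx'H) (inv_mem (hE.kk_mem g)))
  · have h1 : g * x * g⁻¹ = kk hE g * x' * (kk hE g)⁻¹ := by
      conv_lhs => rw [← hE.kk_mul_nn g]
      rw [hx']
      group
    rw [h1]
    group

/-- fusion in `H` is controlled by the normalizer -/
theorem conj_eq_of_mem (g : G) {x : G} (hx : x ∈ H) (h : g * x * g⁻¹ ∈ H) :
    g * x * g⁻¹ = nn hE g * x * (nn hE g)⁻¹ := by
  obtain ⟨o, ho, h1⟩ := hE.exists_conj_eq g hx
  have h2 : o ∈ H := by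
    have : o = g * x * g⁻¹ * (nn hE g * x * (nn hE g)⁻¹)⁻¹ := by rw [h1]; group
    rw [this]
    exact mul_mem h (inv_mem (hE.nn_conj_mem g hx))
  rw [h1, hE.eq_one h2 ho, one_mul]

/-- elements of `O g y` (`y ∈ H`) are conjugate to `y s` with `s ∈ C_{O g}(y)` -/
theorem exists_conj_coprime {g o y : G} (ho : o ∈ OO p H g) (hy : y ∈ H) :
    ∃ c ∈ OO p H g, ∃ s ∈ OO p H g, Commute y s ∧ c * (o * y) * c⁻¹ = y * s := by
  have hoyT : o * y ∈ TT H g := mul_mem (OO_le_TT p H g ho) (le_TT H g hy)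
  obtain ⟨w, s', hws, hcws, hwo, hs'o, hwz, hs'z⟩ :=
    BlockOsima.exists_p_decomp hp.out (orderOf_pos (o * y)).ne'
  have hwT : w ∈ TT H g := (zpowers_le.2 hoyT) hwz
  have hs'T : s' ∈ TT H g := (zpowers_le.2 hoyT) hs'z
  have hs' : s' ∈ OO p H g := by
    apply mem_of_coprime hE.pg (hE.le_norm_OO g)
    · rw [sup_comm, hE.sup_OO]; exact hs'T
    · rw [Nat.coprime_comm, hp.out.coprime_iff_not_dvd]
      exact hs'o
  -- `w` is conjugate into `H` by an element of `O g`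
  have hwp : IsPGroup p (zpowers w) := by
    apply IsPGroup.of_card (n := (orderOf (o * y)).factorization p)
    rw [Nat.card_zpowers, hwo]
  obtain ⟨c, hc, hcw⟩ : ∃ c ∈ OO p H g, c * w * c⁻¹ ∈ H := by
    have hHp : IsPGroup p (H.subgroupOf (TT H g)) := hE.pg.comap_subtype
    have hi : ¬ p ∣ (H.subgroupOf (TT H g)).index := hE.not_dvd_relIndex g
    have := pPrimeCore_normal p (TT H g)
    obtain ⟨n, hn, h1⟩ := ZStarFus.exists_conj_le (hHp.toSylow hi) (pPrimeCore p (TT H g))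
      (zpowers (⟨w, hwT⟩ : TT H g)) (by
        apply IsPGroup.of_card (n := (orderOf (o * y)).factorization p)
        rw [Nat.card_zpowers, Subgroup.orderOf_mk, hwo]) (by
        rw [zpowers_le]
        have h2 : (⟨w, hwT⟩ : TT H g) ∈ (H.subgroupOf (TT H g)) ⊔ pPrimeCore p (TT H g) := by
          obtain ⟨o₁, ⟨o₂, ho₂, rfl⟩, h, hh, hoh⟩ := hE.exists_mul hwT
          have e : (⟨w, hwT⟩ : TT H g) = o₂ * ⟨h, le_TT H g hh⟩ := Subtype.ext hoh.symm
          rw [e]
          exact mul_mem (mem_sup_right ho₂) (mem_sup_left (mem_subgroupOf.2 hh))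
        exact h2)
    have h3 := h1 _ (mem_zpowers _)
    refine ⟨n, ⟨n, hn, rfl⟩, ?_⟩
    exact mem_subgroupOf.1 h3
  have hcT : c ∈ TT H g := OO_le_TT p H g hc
  have hcwy : c * w * c⁻¹ = y := by
    have h1 : c * w * c⁻¹ * y⁻¹ ∈ OO p H g := by
      have e1 : w = o * y * s'⁻¹ := by rw [← hws, mul_inv_cancel_right]
      have e2 : c * w * c⁻¹ * y⁻¹ = (c * (w * c⁻¹ * w⁻¹)) * o * (y * s'⁻¹ * y⁻¹) := by
        have : w⁻¹ * o * y * s'⁻¹ = 1 := by
          nth_rewrite 1 [e1]; group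
        calc c * w * c⁻¹ * y⁻¹ = c * w * c⁻¹ * (w⁻¹ * o * y * s'⁻¹) * y⁻¹ := by rw [this, mul_one]
          _ = _ := by group
      rw [e2]
      exact mul_mem (mul_mem (mul_mem hc (conj_mem_OO hwT (inv_mem hc))) ho)
        (conj_mem_OO (le_TT H g hy) (inv_mem hs'))
    have h2 : c * w * c⁻¹ * y⁻¹ ∈ H := mul_mem hcw (inv_mem hy)
    exact mul_inv_eq_one.1 (hE.eq_one h2 h1)
  refine ⟨c, hc, c * s' * c⁻¹, conj_mem_OO hcT hs', ?_, ?_⟩
  · rw [← hcwy]
    show c * w * c⁻¹ * (c * s' * c⁻¹) = c * s' * c⁻¹ * (c * w * c⁻¹)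
    calc c * w * c⁻¹ * (c * s' * c⁻¹) = c * (w * s') * c⁻¹ := by group
      _ = c * (s' * w) * c⁻¹ := by rw [hcws.eq]
      _ = _ := by group
  · rw [← hws, ← hcwy]
    group

/-- If `H Q` is normalized by `C_G(y)`, `Q = O_{p'}(C_G(y))`, then `C_{O g}(y) ≤ Q`. -/
theorem mem_core {g y s : G} (hy : y ∈ H)
    (hC : ∀ c, Commute y c → ∀ h ∈ H, c * h * c⁻¹ ∈
      (pPrimeCore p (centralizer ({y} : Set G))).map (centralizer ({y} : Set G)).subtype ⊔ H)
    (hs : s ∈ OO p H g) (hys : Commute y s) :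
    s ∈ (pPrimeCore p (centralizer ({y} : Set G))).map (centralizer ({y} : Set G)).subtype := by
  set C := centralizer ({y} : Set G) with hCdef
  set Q := (pPrimeCore p C).map C.subtype with hQ
  have hmemC : ∀ c, c ∈ C ↔ Commute y c := by
    intro c
    rw [hCdef, mem_centralizer_singleton_iff]
    exact ⟨fun h => h.symm, fun h => h.symm⟩
  have hHC : H ≤ C := fun h hh => (hmemC h).2 (hE.comm hy hh)
  have hCn : C ≤ normalizer (Q : Set G) := by
    have := pPrimeCore_normal p C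
    exact Cores.le_normalizer_map_subtype (pPrimeCore p C)
  have hsC : s ∈ C := (hmemC s).2 hys
  have hHn : H ≤ normalizer ((Q ⊓ OO p H g : Subgroup G) : Set G) := by
    intro h hh
    rw [mem_normalizer_iff]
    intro x
    have h1 := (mem_normalizer_iff.1 (hCn (hHC hh))) x
    have h2 := (mem_normalizer_iff.1 (hE.le_norm_OO g hh)) x
    rw [mem_inf, mem_inf, h1, h2]
  have hcop : (Nat.card H).Coprime (Nat.card (Q ⊓ OO p H g : Subgroup G)) := by
    obtain ⟨n, hn⟩ := IsPGroup.iff_card.1 hE.pg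
    rw [hn]
    apply Nat.Coprime.pow_left
    rw [Nat.coprime_comm]
    exact Nat.Coprime.coprime_dvd_left (card_dvd_of_le inf_le_right) (coprime_card_OO g)
  have hsolv : Group.IsSolvable H ∨ Group.IsSolvable (Q ⊓ OO p H g : Subgroup G) := by
    left
    have := hE.ab
    have hn : Group.IsNilpotent H := hE.pg.isNilpotent
    infer_instance
  obtain ⟨d, hd, hsd⟩ := CoprimeAction.exists_mul_mem_centralizer hHn hcop hsolv s (by
    intro a ha
    have h1 : s⁻¹ * (a * s * a⁻¹) ∈ OO p H g :=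
      mul_mem (inv_mem hs) (conj_mem_OO (le_TT H g ha) hs)
    refine ⟨?_, h1⟩
    apply mem_of_coprime hE.pg (hHC.trans hCn) _ (coprime_orderOf h1)
    have h2 : s⁻¹ * a * s⁻¹⁻¹ ∈ Q ⊔ H := hC s⁻¹ (hys.inv_right) a ha
    have e : s⁻¹ * (a * s * a⁻¹) = (s⁻¹ * a * s⁻¹⁻¹) * a⁻¹ := by group
    rw [e]
    exact mul_mem h2 (mem_sup_right (inv_mem ha)))
  have h3 : s * d = 1 := by
    apply hE.eq_one_of_commute (mul_mem hs hd.2)
    intro h hh
    exact ((mem_centralizer_iff.1 hsd) h hh).symm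
  have h4 : s = d⁻¹ := eq_inv_of_mul_eq_one_left h3
  rw [h4]
  exact inv_mem hd.1

end EC

end Cfsg.Agent.Lib.ExtClosed
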