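import Mathlib
import Cfsg.Agent.Lib.BlockCore
import Cfsg.Agent.Lib.CharDegrees
import Cfsg.Agent.Lib.BlockDeg

/-!
# Irreducible characters of degree prime to `p`: restriction to Sylow subgroups and kernels
-/

set_option autoImplicit false
set_option linter.all false

namespace Cfsg.Agent.Lib.PDegree

open Cfsg Cfsg.Agent.Lib.CharBasic Cfsg.Agent.Lib.BlockGA
open scoped ComplexConjugate commutatorElement

universe u

variable {G : Type u} [Group G] {p : ℕ}

/-- A character of degree prime to `p` of a `p`-group has a linear constituent. -/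
theorem exists_linear_constituent {P : Type u} [Group P] [Fintype P] (hp : p.Prime) (hP : IsPGroup p P)
    {χ : P → ℂ} (hχ : IsCharacter P χ) (h : ¬ p ∣ charDegree χ) :
    ∃ lam : IrrCharacter P, (lam : P → ℂ) 1 = 1 ∧ classInner χ (lam : P → ℂ) ≠ 0 := by
  classical
  by_contra hcon
  push Not at hcon
  apply h
  choose a ha using fun θ : IrrCharacter P => hχ.classInner_nat θ.2.isCharacter
  have h1 := hχ.isClassFunction.expansion_apply 1
  rw [← BlockDeg.charDegree_cast hχ] at h1
  have h2 : charDegree χ = ∑ θ : IrrCharacter P, a θ * charDegree (θ : P → ℂ) := by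
    have : ((charDegree χ : ℕ) : ℂ) = ((∑ θ : IrrCharacter P, a θ * charDegree (θ : P → ℂ) : ℕ) : ℂ) := by
      rw [h1]
      push_cast
      refine Finset.sum_congr rfl fun θ _ => ?_
      rw [ha, BlockDeg.charDegree_cast_irr]
    exact_mod_cast this
  rw [h2]
  refine Finset.dvd_sum fun θ _ => ?_
  have : Fact p.Prime := ⟨hp⟩
  obtain ⟨n, hn⟩ := hP.exists_card_eq
  have h3 : charDegree (θ : P → ℂ) ∣ p ^ n := by rw [← hn]; exact BlockDeg.charDegree_dvd_card θ.2
  obtain ⟨k, -, hk⟩ := (Nat.dvd_prime_pow hp).1 h3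
  rcases Nat.eq_zero_or_pos k with rfl | hk0
  · have h4 : (θ : P → ℂ) 1 = 1 := by
      rw [← BlockDeg.charDegree_cast_irr, hk, pow_zero, Nat.cast_one]
    have h5 := hcon θ h4
    rw [ha] at h5
    have h6 : a θ = 0 := by exact_mod_cast h5
    rw [h6, zero_mul]
    exact dvd_zero p
  · exact Dvd.dvd.mul_left (by rw [hk]; exact dvd_pow_self p hk0.ne') _

/-- The sum of a `p'`-degree character over a subgroup of the commutator subgroup of a
`p`-subgroup does not vanish. -/
theorem sum_commutator_ne_zero [Finite G] (hp : p.Prime) (P : Subgroup G) (hP : IsPGroup p P) {χ : G → ℂ}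
    (hχ : IsCharacter G χ) (h : ¬ p ∣ charDegree χ) (D : Subgroup G) (hD : D ≤ ⁅P, P⁆) [Fintype D] :
    ∑ x : D, χ (x : G) ≠ 0 := by
  classical
  have : Fintype P := Fintype.ofFinite P
  have hDP : D ≤ P := hD.trans (Subgroup.commutator_le_self P)
  set φ : P → ℂ := fun x => χ (x : G) with hφ
  have hφc : IsCharacter P φ := hχ.restrict P
  have hφd : ¬ p ∣ charDegree φ := h
  obtain ⟨lam, hl1, hl2⟩ := exists_linear_constituent hp hP hφc hφd
  choose a ha using fun θ : IrrCharacter P => hφc.classInner_nat θ.2.isCharacter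
  have hm : ∀ θ : IrrCharacter P, ∃ m : ℕ, ∑ x : D, (θ : P → ℂ) (Subgroup.inclusion hDP x) = Nat.card D * m := by
    intro θ
    obtain ⟨m, hm⟩ := (θ.2.isCharacter.comp (Subgroup.inclusion hDP)).classInner_nat
      (isCharacter_one (G := D))
    refine ⟨m, ?_⟩
    rw [classInner_def] at hm
    have hH : (Nat.card D : ℂ) ≠ 0 := by exact_mod_cast Nat.card_pos.ne'
    rw [← hm]
    field_simp
    simp
  choose m hm using hm
  have h1 : ∑ x : D, χ (x : G) = ((Nat.card D * ∑ θ : IrrCharacter P, a θ * m θ : ℕ) : ℂ) := by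
    have h2 : ∀ x : D, χ (x : G) = ∑ θ : IrrCharacter P, (a θ : ℂ) * (θ : P → ℂ) (Subgroup.inclusion hDP x) := by
      intro x
      have := hφc.isClassFunction.expansion_apply (Subgroup.inclusion hDP x)
      simp only [ha] at this
      exact this
    simp only [h2]
    rw [Finset.sum_comm]
    push_cast
    rw [Finset.mul_sum]
    refine Finset.sum_congr rfl fun θ _ => ?_
    rw [← Finset.mul_sum, hm]
    ring
  rw [h1]
  have h3 : a lam ≠ 0 := by
    intro h0
    apply hl2
    rw [ha, h0, Nat.cast_zero]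
  have h4 : m lam = 1 := by
    have h5 := hm lam
    have h6 : ∀ x : D, (lam : P → ℂ) (Subgroup.inclusion hDP x) = 1 := by
      intro x
      apply lam.2.isCharacter.eq_one_on_commutator hl1
      have h7 : (x : G) ∈ ⁅P, P⁆ := hD x.2
      have h8 : (commutator P).map P.subtype = ⁅P, P⁆ := by
        rw [commutator_def, Subgroup.map_commutator, ← MonoidHom.range_eq_map, P.range_subtype]
      rw [← h8] at h7
      obtain ⟨y, hy, hyx⟩ := h7
      have : y = Subgroup.inclusion hDP x := Subtype.ext hyx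
      rw [← this]; exact hy
    simp only [h6] at h5
    rw [Finset.sum_const, Finset.card_univ, nsmul_eq_mul, mul_one, ← Nat.card_eq_fintype_card] at h5
    have hH : (Nat.card D : ℂ) ≠ 0 := by exact_mod_cast Nat.card_pos.ne'
    have h9 : (1 : ℂ) = m lam := mul_left_cancel₀ hH (by rw [mul_one]; exact h5)
    exact_mod_cast h9.symm
  have h5 : 0 < Nat.card D * ∑ θ : IrrCharacter P, a θ * m θ := by
    apply Nat.mul_pos Nat.card_pos
    apply Finset.sum_pos' (fun _ _ => Nat.zero_le _)
    exact ⟨lam, Finset.mem_univ _, by rw [h4, mul_one]; omega⟩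
  exact_mod_cast h5.ne'

/-- If the sum of an irreducible character over a normal subgroup does not vanish, the subgroup is
in the kernel. -/
theorem ker_of_sum_ne_zero [Finite G] (D : Subgroup G) [D.Normal] [Fintype D] {χ : G → ℂ}
    (hχ : IsIrrCharacter G χ) (h : ∑ x : D, χ (x : G) ≠ 0) : ∀ d ∈ D, χ d = χ 1 := by
  classical
  have := Fintype.ofFinite G
  rw [← BlockCore.omega_normE_eq_one_iff D hχ]
  rcases BlockCore.omega_normE_zero_or_one D hχ with h0 | h0
  · exfalso
    rw [BlockCore.omega_normE] at h0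
    have hN0 : (Nat.card D : ℂ) ≠ 0 := by exact_mod_cast Nat.card_pos.ne'
    rw [div_eq_zero_iff, or_iff_left hχ.one_ne_zero, mul_eq_zero, or_iff_right (inv_ne_zero hN0)] at h0
    apply h
    rw [← h0]
    exact (Finset.sum_subtype (Finset.univ.filter (· ∈ D)) (by simp) χ).symm
  · exact h0

/-- If `L ⊴ G` has index prime to `p` and `[L, L] ≤ ker χ`, then `χ` has degree prime to `p`. -/
theorem not_dvd_of_ker [Finite G] (L : Subgroup G) [L.Normal] (hL : ¬ p ∣ L.index) {χ : G → ℂ}
    (hχ : IsIrrCharacter G χ) (h : ∀ x ∈ ⁅L, L⁆, χ x = χ 1) : ¬ p ∣ charDegree χ := by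
  obtain ⟨ψ, hψ, hψχ⟩ := hχ.deflate ⁅L, L⁆ h
  have h1 : charDegree ψ = charDegree χ := by
    rw [charDegree, charDegree, ← hψχ 1]
    rfl
  have h2 : (L.map (QuotientGroup.mk' ⁅L, L⁆)).Normal := Subgroup.Normal.map inferInstance _
    (QuotientGroup.mk'_surjective _)
  have h3 := CharDegrees.ito hψ (L.map (QuotientGroup.mk' ⁅L, L⁆)) (by
    rintro _ ⟨a, ha, rfl⟩ _ ⟨b, hb, rfl⟩
    rw [← map_mul, ← map_mul]
    apply (QuotientGroup.eq).2
    have : (a * b)⁻¹ * (b * a) = ⁅b⁻¹, a⁻¹⁆ := by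
      rw [commutatorElement_def]; group
    rw [this]
    exact Subgroup.commutator_mem_commutator (L.inv_mem hb) (L.inv_mem ha)) (charDegree ψ)
    (BlockDeg.charDegree_cast hψ.isCharacter).symm
  rw [← h1]
  intro h4
  apply hL
  have h5 : (L.map (QuotientGroup.mk' ⁅L, L⁆)).index = L.index := by
    rw [Subgroup.index_map, QuotientGroup.ker_mk', sup_eq_left.2 (Subgroup.commutator_le_self L),
      MonoidHom.range_eq_top.2 (QuotientGroup.mk'_surjective _), Subgroup.index_top, mul_one]
  rw [← h5]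
  exact h4.trans h3

/-- The idempotent of the characters with a given normal subgroup in the kernel. -/
theorem eB_ker [Finite G] (D : Subgroup G) [D.Normal] :
    eB {χ : IrrCharacter G | ∀ n ∈ D, (χ : G → ℂ) n = (χ : G → ℂ) 1} = BlockCore.normE D := by
  apply center_ext (eB_mem_center _) (BlockCore.normE_mem_center D)
  intro χ
  by_cases hχ : χ ∈ {χ : IrrCharacter G | ∀ n ∈ D, (χ : G → ℂ) n = (χ : G → ℂ) 1}
  · rw [omega_eB_mem hχ, (BlockCore.omega_normE_eq_one_iff D χ.2).2 hχ]
  · rw [omega_eB_not_mem hχ]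
    rcases BlockCore.omega_normE_zero_or_one D χ.2 with h0 | h0
    · exact h0.symm
    · exact absurd ((BlockCore.omega_normE_eq_one_iff D χ.2).1 h0) hχ

open scoped Classical in
theorem sum_sq_ker [Finite G] (D : Subgroup G) [D.Normal] :
    ∑ χ ∈ Finset.univ.filter (fun χ : IrrCharacter G => ∀ n ∈ D, (χ : G → ℂ) n = (χ : G → ℂ) 1),
      charDegree (χ : G → ℂ) ^ 2 = D.index := by
  have h1 : blockCoeff {χ : IrrCharacter G | ∀ n ∈ D, (χ : G → ℂ) n = (χ : G → ℂ) 1} 1 =
      (Nat.card D : ℂ)⁻¹ := by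
    have h2 := congrArg (fun z : GA G => z.coeff 1) (eB_ker D)
    simp only [eB, BlockCore.normE, coeff_ofFun, if_pos D.one_mem] at h2
    exact h2
  rw [blockCoeff_eq_sum] at h1
  have hG : (Nat.card G : ℂ) ≠ 0 := by exact_mod_cast Nat.card_pos.ne'
  have hN0 : (Nat.card D : ℂ) ≠ 0 := by exact_mod_cast Nat.card_pos.ne'
  have h3 : (Nat.card G : ℂ) = Nat.card D * D.index := by
    rw [← D.card_mul_index]; push_cast; ring
  have h4 : ((∑ χ ∈ Finset.univ.filter (fun χ : IrrCharacter G => ∀ n ∈ D, (χ : G → ℂ) n = (χ : G → ℂ) 1),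
      charDegree (χ : G → ℂ) ^ 2 : ℕ) : ℂ) = (D.index : ℂ) := by
    rw [Finset.sum_filter]
    push_cast
    have h5 : ∑ χ : IrrCharacter G, (if χ ∈ {χ : IrrCharacter G | ∀ n ∈ D, (χ : G → ℂ) n = (χ : G → ℂ) 1} then
      (χ : G → ℂ) 1 * conj ((χ : G → ℂ) 1) else 0) = Nat.card G * (Nat.card D : ℂ)⁻¹ := by
      rw [← h1, ← mul_assoc, mul_inv_cancel₀ hG, one_mul]
    refine Eq.trans ?_ (h5.trans ?_)
    · refine Finset.sum_congr rfl fun χ _ => ?_
      refine if_congr Iff.rfl ?_ rfl
      rw [← BlockDeg.charDegree_cast_irr, map_natCast, pow_two]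
    · rw [h3]; field_simp
  exact_mod_cast h4

end Cfsg.Agent.Lib.PDegree
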