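import Cfsg.Prelude.Def_Solvable
import Cfsg.Prelude.Def_Blocks
import Cfsg.Agent.Lib.CharBasic
import Cfsg.Agent.Lib.CharBasic2
import Cfsg.Agent.Lib.CharValues
import Cfsg.Agent.Lib.BlockDeg
import Cfsg.Agent.Lib.IndFun
import Cfsg.Agent.Lib.PDegree
import Cfsg.Agent.Lib.GalConj
import Cfsg.Agent.Lib.Cores3

/-!
# Garrison's theorem (Isaacs 12.19)
-/

set_option autoImplicit false
set_option linter.all false

namespace Cfsg.Agent.Lib.Garrison

open Cfsg Subgroup Module Cfsg.Agent.Lib Cfsg.Agent.Lib.CharBasic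
open scoped ComplexConjugate Pointwise

universe u

variable {G : Type u} [Group G]

theorem norm_le [Finite G] {χ : G → ℂ} (hχ : IsCharacter G χ) (g : G) : ‖χ g‖ ≤ (χ 1).re := by
  obtain ⟨n, ρ, rfl⟩ := hχ
  have h := CharValues.norm_character_le ρ g
  rw [Representation.char_one]
  simpa using h

theorem one_real {χ : G → ℂ} (hχ : IsCharacter G χ) : ((χ 1).re : ℂ) = χ 1 := by
  obtain ⟨n, ρ, rfl⟩ := hχ
  rw [Representation.char_one]
  simp

theorem eq_one_of_re [Finite G] {χ : G → ℂ} (hχ : IsCharacter G χ) {g : G} (h : (χ 1).re ≤ (χ g).re) :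
    χ g = χ 1 := by
  have h1 := norm_le hχ g
  have h2 : (χ g).re ≤ ‖χ g‖ := Complex.re_le_norm _
  have h3 : (χ g).re = ‖χ g‖ := by linarith
  have h4 : (χ g).re = (χ 1).re := by linarith
  have h5 : (χ g).im = 0 := by
    have : ‖χ g‖ ^ 2 = (χ g).re ^ 2 + (χ g).im ^ 2 := by
      rw [Complex.sq_norm, Complex.normSq_apply]; ring
    rw [← h3] at this
    nlinarith
  have h6 := one_real hχ
  apply Complex.ext
  · exact h4
  · rw [h5, ← h6]; simp

theorem ker_constituent [Fintype G] {a χ : G → ℂ} (ha : IsCharacter G a) (hχ : IsIrrCharacter G χ)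
    (h : classInner a χ ≠ 0) {x : G} (hx : a x = a 1) : χ x = χ 1 := by
  have hb := ha.sub_constituent hχ h
  apply eq_one_of_re hχ.isCharacter
  have h1 := norm_le hb x
  have h2 : ((a - χ) x).re ≤ ‖(a - χ) x‖ := Complex.re_le_norm _
  simp only [Pi.sub_apply, Complex.sub_re] at h1 h2
  rw [hx] at h2
  rw [hx] at h1
  linarith

theorem zero_of_deg [Finite G] {χ : G → ℂ} (hχ : IsCharacter G χ) (h : (χ 1).re ≤ 0) (x : G) : χ x = 0 := by
  have h1 := norm_le hχ x
  have h2 : ‖χ x‖ ≤ 0 := by linarith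
  exact norm_le_zero_iff.1 h2

theorem res_irr [Finite G] {χ : G → ℂ} (hχ : IsIrrCharacter G χ) (K N : Subgroup G) [K.Normal]
    (hK : ∀ k ∈ K, χ k = χ 1) (hKN : K ⊔ N = ⊤) : IsIrrCharacter N (fun n : N => χ n) := by
  obtain ⟨ψ, hψ, hψχ⟩ := hχ.deflate K hK
  have h := hψ.comp_surjective ((QuotientGroup.mk' K).comp N.subtype) (by
    intro q
    obtain ⟨g, rfl⟩ := QuotientGroup.mk_surjective q
    have hg : g ∈ K ⊔ N := by rw [hKN]; trivial
    obtain ⟨k, hk, n, hn, rfl⟩ := Subgroup.mem_sup_of_normal_left.1 hg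
    refine ⟨⟨n, hn⟩, ?_⟩
    rw [MonoidHom.comp_apply, Subgroup.subtype_apply]
    rw [QuotientGroup.mk'_apply, QuotientGroup.mk_mul, (QuotientGroup.eq_one_iff k).2 hk, one_mul])
  have h2 : (fun n : N => χ n) = fun n : N => ψ (((QuotientGroup.mk' K).comp N.subtype) n) := by
    funext n
    exact (hψχ n).symm
  rw [h2]
  exact h

theorem dichotomy [Fintype G] (N : Subgroup G) [Fintype N] {χ : G → ℂ} (hχ : IsIrrCharacter G χ)
    (hres : IsIrrCharacter N (fun n : N => χ n)) :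
    (∃ ψ : IrrCharacter G, classInner (fun n : N => (ψ : G → ℂ) n) (fun n : N => χ n) ≠ 0 ∧
      charDegree χ < charDegree (ψ : G → ℂ)) ∨
    (∀ x ∈ N, χ x ≠ 0 → ∀ g : G, g⁻¹ * x * g ∈ N) := by
  classical
  by_cases hE : ∃ ψ : IrrCharacter G, classInner (fun n : N => (ψ : G → ℂ) n) (fun n : N => χ n) ≠ 0 ∧
      charDegree χ < charDegree (ψ : G → ℂ)
  · exact Or.inl hE
  right
  push Not at hE
  have hEq : ∀ ψ : IrrCharacter G, classInner (fun n : N => (ψ : G → ℂ) n) (fun n : N => χ n) ≠ 0 →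
      ∀ x : N, (ψ : G → ℂ) x = χ x := by
    intro ψ hψ x
    have h1 := hE ψ hψ
    have hb := (ψ.2.isCharacter.restrict N).sub_constituent hres hψ
    have h2 := zero_of_deg hb (by
      simp only [Pi.sub_apply, Complex.sub_re, OneMemClass.coe_one]
      rw [← BlockDeg.charDegree_cast ψ.2.isCharacter, ← BlockDeg.charDegree_cast hχ.isCharacter]
      simp only [Complex.natCast_re]
      have : (charDegree (ψ : G → ℂ) : ℝ) ≤ charDegree χ := by exact_mod_cast h1
      linarith) x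
    simp only [Pi.sub_apply] at h2
    exact sub_eq_zero.1 h2
  set I := indFun N (fun n : N => χ n) with hI
  have hIc : IsCharacter G I := IsCharacter.indFun N (hχ.isCharacter.restrict N)
  set C : ℂ := ∑ ψ : IrrCharacter G, classInner I (ψ : G → ℂ) with hC
  have hIx : ∀ x : N, I x = C * χ x := by
    intro x
    rw [hIc.isClassFunction.expansion_apply (x : G), hC, Finset.sum_mul]
    refine Finset.sum_congr rfl fun ψ _ => ?_
    by_cases h0 : classInner I (ψ : G → ℂ) = 0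
    · rw [h0, zero_mul, zero_mul]
    · congr 1
      apply hEq
      rw [hI, IndFun.frobenius_reciprocity N _ _ ψ.2.isClassFunction] at h0
      intro h2
      apply h0
      rw [← conj_classInner, h2, map_zero]
  have hCi : C = N.index := by
    have h1 := hIx 1
    rw [OneMemClass.coe_one] at h1
    rw [hI, IndFun.indFun_one] at h1
    exact (mul_right_cancel₀ hχ.one_ne_zero h1).symm
  intro x hx hx0 g
  have h2 := hIx ⟨x, hx⟩
  rw [hI, IndFun.indFun_apply, hCi] at h2
  have h3 : ∀ g : G, extendByZero N (fun n : N => χ n) (g⁻¹ * x * g) =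
      if g⁻¹ * x * g ∈ N then χ x else 0 := by
    intro g
    split_ifs with h
    · rw [IndFun.extendByZero_mem N _ h]
      have := hχ.isClassFunction x g⁻¹
      rw [inv_inv] at this
      exact this
    · rw [IndFun.extendByZero_not_mem N _ h]
  simp only [h3] at h2
  rw [← Finset.sum_filter, Finset.sum_const, nsmul_eq_mul, ← mul_assoc] at h2
  have h4 := mul_right_cancel₀ hx0 h2
  rw [inv_mul_eq_iff_eq_mul₀ (by exact_mod_cast Nat.card_pos.ne')] at h4
  have h5 : (Finset.univ.filter (fun g : G => g⁻¹ * x * g ∈ N)).card = Nat.card G := by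
    have := N.card_mul_index
    have h6 : ((Finset.univ.filter (fun g : G => g⁻¹ * x * g ∈ N)).card : ℂ) = (Nat.card G : ℂ) := by
      rw [h4, ← this]; push_cast; rfl
    exact_mod_cast h6
  rw [Nat.card_eq_fintype_card, ← Finset.card_univ] at h5
  have h6 := Finset.eq_univ_of_card _ (by rw [h5, Finset.card_univ])
  have h7 : g ∈ Finset.univ.filter (fun g : G => g⁻¹ * x * g ∈ N) := by rw [h6]; exact Finset.mem_univ _
  exact (Finset.mem_filter.1 h7).2

section Group

variable [Finite G] {p : ℕ} [hpf : Fact p.Prime] {A : Subgroup G}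

/-- a Sylow subgroup of a subgroup, as a subgroup of the whole group -/
abbrev up (P : Sylow p A) : Subgroup G := (P : Subgroup A).map A.subtype

theorem up_isPGroup (P : Sylow p A) : IsPGroup p (up P) := P.2.map A.subtype

theorem up_le (P : Sylow p A) : up P ≤ A := Subgroup.map_subtype_le _

theorem up_max (P : Sylow p A) {Q : Subgroup G} (hQ : IsPGroup p Q) (hQA : Q ≤ A) (h : up P ≤ Q) :
    Q ≤ up P := by
  have h1 : IsPGroup p (Q.comap A.subtype) := hQ.comap_subtype
  have h2 : (P : Subgroup A) ≤ Q.comap A.subtype := by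
    rw [← Subgroup.map_le_iff_le_comap]; exact h
  have h3 := P.3 h1 h2
  intro x hx
  refine ⟨⟨x, hQA hx⟩, ?_, rfl⟩
  have : (⟨x, hQA hx⟩ : A) ∈ Q.comap A.subtype := hx
  rw [h3] at this
  exact this

theorem up_norm (P : Sylow p A) {Q : Subgroup G} (hQ : IsPGroup p Q) (hQA : Q ≤ A)
    (h : Q ≤ normalizer (up P)) : Q ≤ up P := by
  have h1 : IsPGroup p (Q ⊔ up P : Subgroup G) := hQ.to_sup_of_normal_right' (up_isPGroup P) h
  exact le_sup_left.trans (up_max P h1 (sup_le hQA (up_le P)) le_sup_right)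

theorem isPGroup_zpowers {y : G} {k : ℕ} (h : y ^ p ^ k = 1) : IsPGroup p (zpowers y) := by
  rintro ⟨z, n, rfl⟩
  refine ⟨k, ?_⟩
  apply Subtype.ext
  show ((y ^ n) ^ p ^ k : G) = 1
  rw [← zpow_natCast, ← zpow_mul, mul_comm, zpow_mul, zpow_natCast, h, one_zpow]

theorem up_conj (P : Sylow p A) {y : G} (hyA : y ∈ A) (hy : IsPGroup p (zpowers y)) :
    ∃ a ∈ A, a * y * a⁻¹ ∈ up P := by
  have h1 : IsPGroup p ((zpowers y).comap A.subtype) := hy.comap_subtype
  obtain ⟨Q, hQ⟩ := h1.exists_le_sylow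
  obtain ⟨a, ha⟩ := MulAction.exists_smul_eq A Q P
  refine ⟨a, a.2, ?_⟩
  refine ⟨a * ⟨y, hyA⟩ * a⁻¹, ?_, rfl⟩
  rw [← ha]
  have h2 : (⟨y, hyA⟩ : A) ∈ (Q : Subgroup A) := hQ (show (⟨y, hyA⟩ : A) ∈ _ from Subgroup.mem_comap.2 (Subgroup.mem_zpowers y))
  have h3 := Subgroup.smul_mem_pointwise_smul (⟨y, hyA⟩ : A) (MulAut.conj a) _ h2
  rw [MulAut.smul_def, MulAut.conj_apply] at h3
  exact h3

/-- if `x` does not lie in `K` but some `p`-power power of `x` does, a `p`-element which is a power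
of `x` is not in `K`. -/
theorem exists_pElement {K : Subgroup G} {x : G} (hx : x ∉ K) {k : ℕ} (hk : x ^ p ^ k ∈ K) :
    ∃ m : ℕ, IsPGroup p (zpowers (x ^ m)) ∧ x ^ m ∉ K := by
  obtain ⟨a, m, hm, ho⟩ := Nat.exists_eq_pow_mul_and_not_dvd (orderOf_pos x).ne' p hpf.out.ne_one
  refine ⟨m, isPGroup_zpowers (k := a) ?_, ?_⟩
  · rw [← pow_mul, mul_comm, ← ho, pow_orderOf_eq_one]
  · intro h
    apply hx
    have hc : Nat.Coprime (p ^ k) m := Nat.Coprime.pow_left _ ((Nat.Prime.coprime_iff_not_dvd hpf.out).2 hm)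
    have h1 : x ^ (Int.gcd (p ^ k : ℕ) m) ∈ K := by
      rw [← zpow_natCast, Int.gcd_eq_gcd_ab, zpow_add, zpow_mul, zpow_mul, zpow_natCast, zpow_natCast]
      exact K.mul_mem (K.zpow_mem hk _) (K.zpow_mem h _)
    rw [Int.gcd_natCast_natCast, Nat.Coprime.gcd_eq_one hc, pow_one] at h1
    exact h1

theorem frat [hA : A.Normal] (P : Sylow p A) (L : Subgroup G) [hL : L.Normal] {l : G} (hl : l ∈ L) :
    ∃ z ∈ L ⊓ A, z * l ∈ normalizer (up P) := by
  -- the subgroup P (L ∩ A)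
  set H : Subgroup A := (P : Subgroup A) ⊔ L.subgroupOf A with hH
  have : (L.subgroupOf A).Normal := hL.comap A.subtype
  set c : MulAut A := MulAut.conjNormal l with hc
  have hcm : ∀ y : A, y ∈ (P : Subgroup A) → c y ∈ ((c • P : Sylow p A) : Subgroup A) := by
    intro y hy
    rw [Sylow.pointwise_smul_def]
    exact Subgroup.smul_mem_pointwise_smul y c _ hy
  have hcH : ((c • P : Sylow p A) : Subgroup A) ≤ H := by
    rw [Sylow.pointwise_smul_def]
    intro x hx
    rw [Subgroup.mem_smul_pointwise_iff_exists] at hx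
    obtain ⟨y, hy, rfl⟩ := hx
    have h1 : c y * y⁻¹ ∈ L.subgroupOf A := by
      rw [Subgroup.mem_subgroupOf]
      show ((c y : A) * (y⁻¹ : A) : G) ∈ L
      rw [hc, MulAut.conjNormal_apply]
      have : l * (y : G) * l⁻¹ * ((y⁻¹ : A) : G) = l * ((y : G) * l⁻¹ * (y : G)⁻¹) := by
        simp only [Subgroup.coe_inv]; group
      rw [this]
      exact L.mul_mem hl (hL.conj_mem _ (L.inv_mem hl) _)
    have h2 : c • y = (c y * y⁻¹) * y := by rw [MulAut.smul_def]; group
    rw [h2]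
    exact H.mul_mem ((le_sup_right (a := (P : Subgroup A)) : L.subgroupOf A ≤ H) h1)
      ((le_sup_left : (P : Subgroup A) ≤ H) hy)
  obtain ⟨h, hh⟩ := MulAction.exists_smul_eq H ((c • P).subtype hcH) (P.subtype le_sup_left)
  have hhH : (h : A) ∈ (P : Subgroup A) ⊔ L.subgroupOf A := h.2
  obtain ⟨q, hq, z, hz, hqz⟩ := Subgroup.mem_sup_of_normal_right.1 hhH
  have key : ∀ x : A, x ∈ (P : Subgroup A) → (h : A) * c x * (h : A)⁻¹ ∈ (P : Subgroup A) := by
    intro x hx
    have h1 : (⟨c x, hcH (hcm x hx)⟩ : H) ∈ (((c • P).subtype hcH : Sylow p H) : Subgroup H) := hcm x hx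
    have h2 := Subgroup.smul_mem_pointwise_smul _ (MulAut.conj h) _ h1
    have h3 : MulAut.conj h • (((c • P).subtype hcH : Sylow p H) : Subgroup H) =
        ((P.subtype le_sup_left : Sylow p H) : Subgroup H) := by
      rw [← hh]; rfl
    rw [h3] at h2
    exact h2
  refine ⟨z, ⟨hz, z.2⟩, ?_⟩
  apply Subgroup.mem_normalizer_fintype
  rintro _ ⟨x, hx, rfl⟩
  have h1 := key x hx
  have h2 : q⁻¹ * ((h : A) * c x * (h : A)⁻¹) * q ∈ (P : Subgroup A) :=
    (P : Subgroup A).mul_mem ((P : Subgroup A).mul_mem ((P : Subgroup A).inv_mem hq) h1) hq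
  refine ⟨_, h2, ?_⟩
  rw [← hqz]
  simp only [Subgroup.subtype_apply, Subgroup.coe_mul, Subgroup.coe_inv, hc, MulAut.conjNormal_apply]
  group

end Group

section Main

variable [Finite G] {p : ℕ} [hpf : Fact p.Prime] {A : Subgroup G}

theorem finish [hA : A.Normal] (χ : IrrCharacter G) (K : Subgroup G) [hKn : K.Normal]
    (hK : ∀ g : G, g ∈ K ↔ (χ : G → ℂ) g = (χ : G → ℂ) 1) (hKA : K ≤ A) (P : Sylow p A)
    (hAK : ∀ x ∈ A, ∃ k : ℕ, x ^ p ^ k ∈ K) (hKN : K ⊔ normalizer (up P) = ⊤)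
    (hne : ∃ x ∈ normalizer (up P : Set G), (χ : G → ℂ) x ≠ 0 ∧ ∃ g : G, g⁻¹ * x * g ∉ normalizer (up P : Set G)) :
    ∃ ψ : IrrCharacter G, charDegree (χ : G → ℂ) < charDegree (ψ : G → ℂ) ∧
      ∃ L : Subgroup G, (∀ g : G, g ∈ L ↔ (ψ : G → ℂ) g = (ψ : G → ℂ) 1) ∧ L < K := by
  classical
  letI := Fintype.ofFinite G
  set N := normalizer (up P : Set G) with hN
  letI := Fintype.ofFinite N
  have hKc : ∀ k ∈ K, (χ : G → ℂ) k = (χ : G → ℂ) 1 := fun k hk => (hK k).1 hk
  have hres := res_irr χ.2 K N hKc hKN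
  rcases dichotomy N χ.2 hres with ⟨ψ, hψ, hd⟩ | hall
  · refine ⟨ψ, hd, GalConj.K ψ, fun g => GalConj.mem_K, ?_⟩
    set L := GalConj.K ψ with hL
    have hLN : ∀ x ∈ L, x ∈ N → x ∈ K := by
      intro x hx hxN
      rw [hK]
      exact ker_constituent (ψ.2.isCharacter.restrict N) hres hψ (x := ⟨x, hxN⟩) (GalConj.mem_K.1 hx)
    have hLA : L ≤ A := by
      intro l hl
      obtain ⟨z, hz, hzl⟩ := frat P L hl
      have h1 : z * l ∈ K := hLN _ (L.mul_mem hz.1 hl) hzl
      have h2 : l = z⁻¹ * (z * l) := by group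
      rw [h2]
      exact A.mul_mem (A.inv_mem hz.2) (hKA h1)
    refine lt_of_le_of_ne ?_ ?_
    · intro l hl
      by_contra hlK
      obtain ⟨k, hk⟩ := hAK l (hLA hl)
      obtain ⟨m, hm1, hm2⟩ := exists_pElement hlK hk
      obtain ⟨a, ha, hau⟩ := up_conj P (hLA (L.pow_mem hl m)) hm1
      apply hm2
      have h1 : a * l ^ m * a⁻¹ ∈ K :=
        hLN _ ((inferInstance : L.Normal).conj_mem _ (L.pow_mem hl m) a) (le_normalizer hau)
      have h2 : l ^ m = a⁻¹ * (a * l ^ m * a⁻¹) * a⁻¹⁻¹ := by group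
      rw [h2]
      exact hKn.conj_mem _ h1 _
    · intro hLK
      have hres2 := res_irr ψ.2 K N (fun k hk => GalConj.mem_K.1 (by rw [← hL, hLK]; exact hk)) hKN
      have h1 : (fun n : N => (ψ : G → ℂ) n) = (fun n : N => (χ : G → ℂ) n) := by
        by_contra hne2
        exact hψ (hres2.classInner_eq_zero hres hne2)
      have h2 := congrFun h1 1
      simp only [OneMemClass.coe_one] at h2
      rw [← BlockDeg.charDegree_cast_irr, ← BlockDeg.charDegree_cast_irr] at h2
      have h3 : charDegree (ψ : G → ℂ) = charDegree (χ : G → ℂ) := by exact_mod_cast h2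
      omega
  · obtain ⟨x, hx, hx0, g, hg⟩ := hne
    exact absurd (hall x hx hx0 g) hg

theorem case1 (χ : IrrCharacter G) (K : Subgroup G) [hKn : K.Normal]
    (hK : ∀ g : G, g ∈ K ↔ (χ : G → ℂ) g = (χ : G → ℂ) 1) (h : ¬ K ≤ fittingSubgroup G) :
    ∃ ψ : IrrCharacter G, charDegree (χ : G → ℂ) < charDegree (ψ : G → ℂ) ∧
      ∃ L : Subgroup G, (∀ g : G, g ∈ L ↔ (ψ : G → ℂ) g = (ψ : G → ℂ) 1) ∧ L < K := by
  have hnil : ¬ Group.IsNilpotent K := fun h' => h (Cores.le_fittingSubgroup hKn h')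
  have htf := (Group.isNilpotent_of_finite_tfae (G := K)).out 0 3 rfl rfl
  rw [htf] at hnil
  push Not at hnil
  obtain ⟨p, hp, P, hP⟩ := hnil
  refine finish (A := K) χ K hK le_rfl P (fun x hx => ⟨0, by simpa using hx⟩) ?_ ?_
  · rw [sup_comm]; exact Sylow.normalizer_sup_eq_top P
  · by_contra hcon
    push Not at hcon
    apply hP
    refine ⟨fun x hx g => ?_⟩
    have hxu : (x : G) ∈ up P := ⟨x, hx, rfl⟩
    have h1 := hcon (x : G) (le_normalizer hxu) (by
      rw [(hK _).1 x.2]; exact χ.2.one_ne_zero) ((g : G)⁻¹)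
    rw [inv_inv] at h1
    have h2 : zpowers ((g : G) * x * (g : G)⁻¹) ≤ up P := by
      refine up_norm P ?_ ?_ ?_
      · obtain ⟨k, hk⟩ := up_isPGroup P ⟨(x : G), hxu⟩
        refine isPGroup_zpowers (k := k) ?_
        rw [conj_pow]
        have : (x : G) ^ p ^ k = 1 := congrArg Subtype.val hk
        rw [this]; simp
      · rw [zpowers_le]; exact (g * x * g⁻¹).2
      · rw [zpowers_le]; exact h1
    obtain ⟨y, hy, hyx⟩ := h2 (mem_zpowers _)
    have h3 : y = g * x * g⁻¹ := Subtype.ext hyx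
    rw [← h3]; exact hy

theorem case2 (χ : IrrCharacter G) (K : Subgroup G) [hKn : K.Normal]
    (hK : ∀ g : G, g ∈ K ↔ (χ : G → ℂ) g = (χ : G → ℂ) 1) (hKF : K = fittingSubgroup G)
    (hsol : Group.IsSolvable (G ⧸ K)) (hKt : K ≠ ⊤) :
    ∃ ψ : IrrCharacter G, charDegree (χ : G → ℂ) < charDegree (ψ : G → ℂ) ∧
      ∃ L : Subgroup G, (∀ g : G, g ∈ L ↔ (ψ : G → ℂ) g = (ψ : G → ℂ) 1) ∧ L < K := by
  classical
  letI := Fintype.ofFinite G
  have hnt : (⊤ : Subgroup (G ⧸ K)) ≠ ⊥ := by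
    intro h
    apply hKt
    rw [eq_top_iff]
    intro x _
    have : (QuotientGroup.mk x : G ⧸ K) ∈ (⊥ : Subgroup (G ⧸ K)) := by rw [← h]; trivial
    rw [Subgroup.mem_bot, QuotientGroup.eq_one_iff] at this
    exact this
  obtain ⟨M, hMn, hM1, -, hmin⟩ := Cores.exists_minNormal_le (G := G ⧸ K) (K := ⊤) inferInstance hnt
  have hMab := Cores.minNormal_abelian hM1 hmin
  obtain ⟨p, hp, hMp⟩ := Cores.minNormal_elementary hM1 hmin hMab
  haveI : Fact p.Prime := ⟨hp⟩
  set A : Subgroup G := M.comap (QuotientGroup.mk' K) with hA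
  haveI : A.Normal := hMn.comap _
  have hKA : K ≤ A := by
    intro k hk
    rw [hA, Subgroup.mem_comap, QuotientGroup.mk'_apply, (QuotientGroup.eq_one_iff k).2 hk]
    exact M.one_mem
  have hAK : ∀ x ∈ A, ∃ k : ℕ, x ^ p ^ k ∈ K := by
    intro x hx
    refine ⟨1, ?_⟩
    rw [pow_one, ← QuotientGroup.eq_one_iff, QuotientGroup.mk_pow]
    exact hMp _ hx
  obtain ⟨P⟩ : Nonempty (Sylow p A) := inferInstance
  -- A = K P
  have hAPK : ∀ x ∈ A, ∃ y ∈ up P, ∃ k ∈ K, x = y * k := by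
    have h1 : (P : Subgroup A) ⊔ K.subgroupOf A = ⊤ := by
      have hq : IsPGroup p (A ⧸ K.subgroupOf A) := by
        intro q
        obtain ⟨x, rfl⟩ := QuotientGroup.mk_surjective q
        obtain ⟨k, hk⟩ := hAK x x.2
        refine ⟨k, ?_⟩
        rw [← QuotientGroup.mk_pow, QuotientGroup.eq_one_iff]
        exact hk
      obtain ⟨n, hn⟩ := IsPGroup.iff_card.1 hq
      rw [← Subgroup.index_eq_one]
      have h2 : ((P : Subgroup A) ⊔ K.subgroupOf A).index ∣ p ^ n := by
        rw [← hn]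
        exact Subgroup.index_dvd_of_le le_sup_right
      have h3 : ¬ p ∣ ((P : Subgroup A) ⊔ K.subgroupOf A).index := fun h =>
        P.not_dvd_index (h.trans (Subgroup.index_dvd_of_le le_sup_left))
      have h4 : Nat.Coprime ((P : Subgroup A) ⊔ K.subgroupOf A).index (p ^ n) :=
        Nat.Coprime.pow_right _ (((Nat.Prime.coprime_iff_not_dvd hp).2 h3).symm)
      exact Nat.Coprime.eq_one_of_dvd h4 h2
    intro x hx
    have h2 : (⟨x, hx⟩ : A) ∈ (P : Subgroup A) ⊔ K.subgroupOf A := by rw [h1]; trivial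
    obtain ⟨y, hy, k, hk, hyk⟩ := Subgroup.mem_sup_of_normal_right.1 h2
    exact ⟨y, ⟨y, hy, rfl⟩, k, hk, (congrArg Subtype.val hyk).symm⟩
  refine finish (A := A) χ K hK hKA P hAK ?_ ?_
  · rw [eq_top_iff, ← Sylow.normalizer_sup_eq_top P]
    refine sup_le le_sup_right ?_
    intro x hx
    obtain ⟨y, hy, k, hk, rfl⟩ := hAPK x hx
    exact Subgroup.mul_mem _ (le_sup_right (α := Subgroup G) (le_normalizer hy)) (le_sup_left (α := Subgroup G) hk)
  · by_contra hcon
    push Not at hcon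
    set N := normalizer (up P : Set G) with hN
    -- elements of `A` whose conjugates lie in `N` lie in `K`
    have hpe : ∀ y ∈ A, IsPGroup p (zpowers y) → (∀ g : G, g⁻¹ * y * g ∈ N) → y ∈ up P := by
      intro y hyA hyp hyN
      have : zpowers y ≤ up P := up_norm P hyp (by rwa [zpowers_le]) (by
        rw [zpowers_le]
        have h := hyN 1
        rw [inv_one, one_mul, mul_one] at h
        exact h)
      exact this (mem_zpowers y)
    set E := N.normalCore with hE
    have hEm : ∀ y : G, (∀ g : G, g⁻¹ * y * g ∈ N) ↔ y ∈ E := by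
      intro y
      constructor
      · intro h g
        have := h g⁻¹
        rwa [inv_inv] at this
      · intro h g
        have := h g⁻¹
        rwa [inv_inv] at this
    have hPE : up P ⊓ E ≤ K := by
      rw [hKF]
      refine Cores.le_fittingSubgroup ⟨?_⟩ ?_
      · rintro x ⟨hx1, hx2⟩ g
        have h1 : g * x * g⁻¹ ∈ E := (Subgroup.normalCore_normal N).conj_mem _ hx2 g
        refine ⟨?_, h1⟩
        refine hpe _ ((inferInstance : A.Normal).conj_mem _ (up_le P hx1) g) ?_ ((hEm _).2 h1)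
        obtain ⟨k, hk⟩ := up_isPGroup P ⟨x, hx1⟩
        refine isPGroup_zpowers (k := k) ?_
        rw [conj_pow]
        have : (x : G) ^ p ^ k = 1 := congrArg Subtype.val hk
        rw [this]; simp
      · exact ((up_isPGroup P).to_le inf_le_left).isNilpotent
    have hz1 : ∀ x ∈ A, x ∉ K → x ∈ N → (χ : G → ℂ) x = 0 := by
      intro x hxA hxK hxN
      by_contra h0
      have h1 : x ∈ E := (hEm x).1 (hcon x hxN h0)
      obtain ⟨k, hk⟩ := hAK x hxA
      obtain ⟨m, hm1, hm2⟩ := exists_pElement hxK hk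
      apply hm2
      have h2 : x ^ m ∈ E := E.pow_mem h1 m
      exact hPE ⟨hpe _ (A.pow_mem hxA m) hm1 ((hEm _).2 h2), h2⟩
    have hKc : ∀ k ∈ K, (χ : G → ℂ) k = (χ : G → ℂ) 1 := fun k hk => (hK k).1 hk
    have hz2 : ∀ x ∈ A, x ∉ K → (χ : G → ℂ) x = 0 := by
      intro x hxA hxK
      obtain ⟨y, hy, k, hk, rfl⟩ := hAPK x hxA
      rw [χ.2.isCharacter.mul_eq_of_const K hKc y k hk]
      refine hz1 y (up_le P hy) (fun h => hxK (K.mul_mem h hk)) (le_normalizer hy)
    have hker := PDegree.ker_of_sum_ne_zero A χ.2 (by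
      have h1 : ∀ x : A, (χ : G → ℂ) (x : G) = if (x : G) ∈ K then (χ : G → ℂ) 1 else 0 := by
        intro x
        split_ifs with h
        · exact hKc _ h
        · exact hz2 x x.2 h
      simp only [h1]
      rw [← Finset.sum_filter, Finset.sum_const, nsmul_eq_mul]
      refine mul_ne_zero ?_ χ.2.one_ne_zero
      rw [Nat.cast_ne_zero, Finset.card_ne_zero]
      exact ⟨1, by simp [K.one_mem]⟩)
    apply hM1
    rw [eq_bot_iff]
    intro m hm
    obtain ⟨g, rfl⟩ := QuotientGroup.mk_surjective m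
    rw [Subgroup.mem_bot, QuotientGroup.eq_one_iff, hK]
    exact hker g hm

end Main

end Cfsg.Agent.Lib.Garrison
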