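import Cfsg.Agent.Lib.CliffordCorr
import Cfsg.Agent.Lib.CanonExt
import Cfsg.Agent.Lib.H76Ext
import Cfsg.Agent.Lib.BlockDeg
import Cfsg.Agent.Lib.Garrison

/-!
# Degrees over an extendible character
-/

set_option autoImplicit false
set_option linter.all false

namespace Cfsg.Agent.Lib.ExtDeg

open Cfsg Subgroup Module Cfsg.Agent.Lib Cfsg.Agent.Lib.CharBasic Cfsg.Agent.Lib.Clifford
  Cfsg.Agent.Lib.CliffordCorr
open scoped ComplexConjugate Pointwise

universe u

variable {G : Type u} [Group G] {N : Subgroup G} [hN : N.Normal]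

/-- product of an extension with an irreducible character of `T/N` -/
theorem irr_mul [Finite G] {T : Subgroup G} (hNT : N ≤ T) {θ : N → ℂ} (hθ : IsIrrCharacter N θ)
    {η : T → ℂ} (hη : IsIrrCharacter T η) (hext : resTo N T hNT η = θ)
    {β : T → ℂ} (hβ : IsIrrCharacter T β) (hβN : ∀ n : N, β ⟨n, hNT n.2⟩ = β 1) :
    IsIrrCharacter T (β * η) := by
  classical
  letI := Fintype.ofFinite G
  letI := Fintype.ofFinite T
  have hθ' : IsIrrCharacter (N.subgroupOf T) (fun x => θ (subEquiv N T hNT x)) :=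
    (isIrrCharacter_comp_mulEquiv_iff (subEquiv N T hNT)).mpr hθ
  have hb := CanonExt.bijOn (N := N.subgroupOf T) hθ' hη (by
    intro n
    rw [← hext]; rfl)
  exact (hb.mapsTo ⟨hβ, fun n => hβN ⟨n, n.2⟩⟩).1

theorem deg_of_ext [Fintype G] [Fintype N] {T : Subgroup G} (hNT : N ≤ T) {θ : N → ℂ}
    (hθ : IsIrrCharacter N θ) (hT : ∀ g : G, g ∈ T ↔ cj N g θ = θ)
    {η : T → ℂ} (hη : IsIrrCharacter T η) (hext : resTo N T hNT η = θ)
    {β : T → ℂ} (hβ : IsIrrCharacter T β) (hβN : ∀ n : N, β ⟨n, hNT n.2⟩ = β 1) :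
    IsIrrCharacter G (indFun T (β * η)) ∧
      classInner (fun n : N => indFun T (β * η) n) θ ≠ 0 ∧
      indFun T (β * η) 1 = T.index * (β 1 * θ 1) := by
  have h1 := irr_mul hNT hθ hη hext hβ hβN
  have h2 : resTo N T hNT (β * η) = β 1 • θ := by
    funext n
    rw [← hext]
    simp only [resTo, Pi.mul_apply, Pi.smul_apply, smul_eq_mul, hβN n]
  have h3 : classInner (resTo N T hNT (β * η)) θ ≠ 0 := by
    rw [h2, classInner_smul_left, hθ.classInner_self, mul_one]
    exact hβ.one_ne_zero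
  obtain ⟨h4, h5⟩ := corr_irr hNT hθ hT h1 h3
  refine ⟨h4, by rw [h5]; exact h3, ?_⟩
  rw [IndFun.indFun_one]
  have h6 : (β * η) 1 = β 1 * θ 1 := by
    have := congrFun h2 1
    exact this
  rw [h6]

/-- the coprime extension to the inertia group -/
theorem exists_ext [Finite G] {T : Subgroup G} (hNT : N ≤ T) {θ : N → ℂ}
    (hθ : IsIrrCharacter N θ) (hT : ∀ g : G, g ∈ T → cj N g θ = θ)
    (hcop : Nat.Coprime N.index (Nat.card N)) :
    ∃ η : T → ℂ, IsIrrCharacter T η ∧ resTo N T hNT η = θ := by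
  have hθ' : IsIrrCharacter (N.subgroupOf T) (fun x => θ (subEquiv N T hNT x)) :=
    (isIrrCharacter_comp_mulEquiv_iff (subEquiv N T hNT)).mpr hθ
  have hc : Nat.card (N.subgroupOf T) = Nat.card N := Nat.card_congr (subEquiv N T hNT).toEquiv
  obtain ⟨η, hη, hext⟩ := H76Ext.exists_extension_of_coprime_card (N.subgroupOf T) hθ' (by
    intro g
    funext n
    rw [cj_apply]
    have h3 := congrFun (hT g g.2) (subEquiv N T hNT n)
    rw [cj_apply] at h3
    rw [← h3]
    rfl) (by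
    rw [hc]
    exact Nat.Coprime.coprime_dvd_left (Subgroup.relIndex_dvd_index_of_normal N T) hcop)
  refine ⟨η, hη, ?_⟩
  funext n
  exact hext ⟨⟨n, hNT n.2⟩, n.2⟩

/-- deflate for functions constant on `N ≤ T` -/
theorem comm_of_linear [Finite G] {T : Subgroup G} (hNT : N ≤ T)
    (h : ∀ β : T → ℂ, IsIrrCharacter T β → (∀ n : N, β ⟨n, hNT n.2⟩ = β 1) → β 1 = 1) :
    ∀ a ∈ T, ∀ b ∈ T, a * b * a⁻¹ * b⁻¹ ∈ N := by
  intro a ha b hb
  have hc : (QuotientGroup.mk (s := N.subgroupOf T) (⟨a, ha⟩ : T)) * QuotientGroup.mk (⟨b, hb⟩ : T) =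
      QuotientGroup.mk (⟨b, hb⟩ : T) * QuotientGroup.mk (⟨a, ha⟩ : T) := by
    apply comm_of_forall_irr_linear
    intro χ hχ
    have h1 := h _ (hχ.inflate (N.subgroupOf T)) (by
      intro n
      have : (QuotientGroup.mk (s := N.subgroupOf T) (⟨n, hNT n.2⟩ : T)) = 1 :=
        (QuotientGroup.eq_one_iff _).2 n.2
      simp only [this]
      rfl)
    exact h1
  rw [← QuotientGroup.mk_mul, ← QuotientGroup.mk_mul, eq_comm, QuotientGroup.eq] at hc
  have h2 : (b * a)⁻¹ * (a * b) ∈ N := hc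
  have h3 : a * b * a⁻¹ * b⁻¹ = (b * a) * ((b * a)⁻¹ * (a * b)) * (b * a)⁻¹ := by group
  rw [h3]
  exact hN.conj_mem _ h2 _

end Cfsg.Agent.Lib.ExtDeg
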