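import Mathlib
import Cfsg.Agent.Lib.PrimeOrd2
import Cfsg.Agent.Lib.ElusiveLin
import Cfsg.Agent.Lib.AltSim2

/-! Normalizers of field subalgebras (extension field subgroups) in SL_n. (helper99) -/

set_option autoImplicit false

namespace Cfsg.Agent.Lib.ExtField

open Polynomial Module Cfsg.Agent.Lib.InvSub Cfsg.Agent.Lib.PrimeOrd Cfsg.Agent.Lib.ElusiveLin Cfsg.Agent.Lib.AltSim

section abstract_part

variable {F V : Type*} [Field F] [AddCommGroup V] [Module F V]

/-- the homomorphism `F[X]/f → End V` -/
noncomputable def liftEnd {f : F[X]} (T : Module.End F V) (hT : aeval T f = 0) : AdjoinRoot f →ₐ[F] Module.End F V :=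
  (Ideal.Quotient.liftₐ (Ideal.span {f}) (aeval T) (fun a ha => by
    obtain ⟨b, rfl⟩ := Ideal.mem_span_singleton'.mp ha
    rw [map_mul, hT, mul_zero]) : (F[X] ⧸ Ideal.span {f}) →ₐ[F] Module.End F V)

lemma liftEnd_root {f : F[X]} (T : Module.End F V) (hT : aeval T f = 0) : liftEnd T hT (AdjoinRoot.root f) = T := by
  change aeval T X = T
  rw [aeval_X]

/-- vector spaces over `F[X]/f` are determined by their dimension -/
theorem exists_conj_irred {W : Type*} [AddCommGroup W] [Module F W] [FiniteDimensional F V] [FiniteDimensional F W]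
    {T : Module.End F V} {S : Module.End F W} {f : F[X]} (hf : Irreducible f)
    (hT : aeval T f = 0) (hS : aeval S f = 0) (h : finrank F V = finrank F W) :
    ∃ g : V ≃ₗ[F] W, ∀ v, g (T v) = S (g v) := by
  have hFf : Fact (Irreducible f) := ⟨hf⟩
  let φ : AdjoinRoot f →ₐ[F] Module.End F V := liftEnd T hT
  let ψ : AdjoinRoot f →ₐ[F] Module.End F W := liftEnd S hS
  have hφ : φ (AdjoinRoot.root f) = T := liftEnd_root T hT
  have hψ : ψ (AdjoinRoot.root f) = S := liftEnd_root S hS
  let _ : Module (AdjoinRoot f) V := Module.compHom V φ.toRingHom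
  let _ : Module (AdjoinRoot f) W := Module.compHom W ψ.toRingHom
  have : IsScalarTower F (AdjoinRoot f) V := ⟨fun a x v => by
    change φ (a • x) v = a • φ x v
    rw [map_smul]; rfl⟩
  have : IsScalarTower F (AdjoinRoot f) W := ⟨fun a x v => by
    change ψ (a • x) v = a • ψ x v
    rw [map_smul]; rfl⟩
  have hfin : Module.Finite F (AdjoinRoot f) := (AdjoinRoot.powerBasis hf.ne_zero).finite
  have hpos : 0 < finrank F (AdjoinRoot f) := finrank_pos
  have h1 := Module.finrank_mul_finrank F (AdjoinRoot f) V
  have h2 := Module.finrank_mul_finrank F (AdjoinRoot f) W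
  have h3 : finrank (AdjoinRoot f) V = finrank (AdjoinRoot f) W := by
    apply Nat.eq_of_mul_eq_mul_left hpos
    rw [h1, h2, h]
  have : Module.Finite (AdjoinRoot f) V := Module.Finite.of_restrictScalars_finite F _ _
  have : Module.Finite (AdjoinRoot f) W := Module.Finite.of_restrictScalars_finite F _ _
  let g := LinearEquiv.ofFinrankEq V W h3
  refine ⟨g.restrictScalars F, fun v => ?_⟩
  have h4 : T v = (AdjoinRoot.root f) • v := by
    change T v = φ (AdjoinRoot.root f) v
    rw [hφ]
  have h5 : S (g v) = (AdjoinRoot.root f) • (g v) := by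
    change S (g v) = ψ (AdjoinRoot.root f) (g v)
    rw [hψ]
  rw [h4]
  change g ((AdjoinRoot.root f) • v) = S (g v)
  rw [map_smul, h5]

variable {L : Type*} [Field L] [Algebra F L] (ρ : L →ₐ[F] Module.End F V)

lemma rho_inj {a : L} (ha : a ≠ 0) {v : V} (h : ρ a v = 0) : v = 0 := by
  have h1 : ρ a⁻¹ (ρ a v) = v := by
    rw [← Module.End.mul_apply, ← map_mul, inv_mul_cancel₀ ha, map_one]; rfl
  rw [← h1, h, map_zero]

/-- eigenspaces of elements normalizing a quadratic extension -/
theorem eigen_quad [FiniteDimensional F V] (hL : finrank F L = 2) {T : Module.End F V}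
    (hN : ∀ a, ∃ b, T * ρ a = ρ b * T) {y : F} (hy : y ≠ 0) :
    Even (finrank F (E T y)) ∨ 2 * finrank F (E T y) ≤ finrank F V := by
  by_cases hc : ∀ a, T * ρ a = ρ a * T
  · left
    have hst : ∀ a, ∀ v ∈ E T y, ρ a v ∈ E T y := by
      intro a v hv
      rw [Module.End.mem_eigenspace_iff] at hv ⊢
      rw [← Module.End.mul_apply, hc, Module.End.mul_apply, hv, map_smul]
    let _ : Module L (E T y) :=
      { smul := fun a v => ⟨ρ a v, hst a v v.2⟩
        one_smul := fun v => Subtype.ext (by change ρ 1 v = v; rw [map_one]; rfl)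
        mul_smul := fun a b v => Subtype.ext (by change ρ (a * b) v = ρ a (ρ b v); rw [map_mul]; rfl)
        smul_zero := fun a => Subtype.ext (by change ρ a 0 = 0; rw [map_zero])
        smul_add := fun a v w => Subtype.ext (by change ρ a (v + w) = ρ a v + ρ a w; rw [map_add])
        add_smul := fun a b v => Subtype.ext (by change ρ (a + b) v = ρ a v + ρ b v; rw [map_add]; rfl)
        zero_smul := fun v => Subtype.ext (by change ρ 0 v = 0; rw [map_zero]; rfl) }
    have : IsScalarTower F L (E T y) := ⟨fun a x v => Subtype.ext (by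
      change ρ (a • x) v = a • ρ x v
      rw [map_smul]; rfl)⟩
    have h1 := Module.finrank_mul_finrank F L (E T y)
    rw [hL] at h1
    exact ⟨finrank L (E T y), by omega⟩
  · right
    push Not at hc
    obtain ⟨a, ha⟩ := hc
    obtain ⟨b, hb⟩ := hN a
    have hab : a - b ≠ 0 := by
      intro h
      rw [sub_eq_zero] at h
      rw [← h] at hb
      exact ha hb
    have ha0 : a ≠ 0 := by
      rintro rfl
      rw [map_zero, mul_zero, zero_mul] at ha
      exact ha rfl
    have hdis : Disjoint (E T y) ((E T y).map (ρ a)) := by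
      rw [Submodule.disjoint_def]
      rintro v hv ⟨w, hw, rfl⟩
      rw [Module.End.mem_eigenspace_iff] at hv
      have hw' := Module.End.mem_eigenspace_iff.mp hw
      rw [← Module.End.mul_apply, hb, Module.End.mul_apply, hw', map_smul] at hv
      have h1 : y • ρ (a - b) w = 0 := by
        rw [map_sub, LinearMap.sub_apply, smul_sub, hv, sub_self]
      have h2 := (smul_eq_zero.mp h1).resolve_left hy
      rw [rho_inj ρ hab h2, map_zero]
    have hinj : Function.Injective (ρ a) := by
      intro v w hvw
      have : ρ a (v - w) = 0 := by rw [map_sub, hvw, sub_self]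
      exact sub_eq_zero.mp (rho_inj ρ ha0 this)
    have h2 : finrank F ((E T y).map (ρ a)) = finrank F (E T y) :=
      (LinearEquiv.finrank_eq (Submodule.equivMapOfInjective (ρ a) hinj (E T y))).symm
    have h3 := Submodule.finrank_sup_add_finrank_inf_eq (E T y) ((E T y).map (ρ a))
    rw [disjoint_iff.mp hdis, finrank_bot] at h3
    have h4 := Submodule.finrank_le (E T y ⊔ (E T y).map (ρ a))
    omega

end abstract_part

end Cfsg.Agent.Lib.ExtField
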