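import Mathlib
import Cfsg.Agent.Lib.ExtField

/-! Normalizers of field subalgebras: the Singer case, and the translation to matrices. (helper99) -/

set_option autoImplicit false

namespace Cfsg.Agent.Lib.ExtField

open Polynomial Module Cfsg.Agent.Lib.InvSub Cfsg.Agent.Lib.PrimeOrd Cfsg.Agent.Lib.ElusiveLin Cfsg.Agent.Lib.AltSim

section abstract_part

variable {F V : Type*} [Field F] [AddCommGroup V] [Module F V]
variable {L : Type*} [Field L] [Algebra F L] (ρ : L →ₐ[F] Module.End F V)

/-- the orbit map -/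
noncomputable def orb (v : V) : L →ₗ[F] V :=
  { toFun := fun a => ρ a v
    map_add' := fun a b => by rw [map_add]; rfl
    map_smul' := fun c a => by rw [map_smul]; rfl }

@[simp] lemma orb_apply (v : V) (a : L) : orb ρ v a = ρ a v := rfl

lemma orb_injective {v : V} (hv : v ≠ 0) : Function.Injective (orb ρ v) := by
  intro a b hab
  by_contra hne
  have h1 : ρ (a - b) v = 0 := by
    rw [map_sub, LinearMap.sub_apply, ← orb_apply, ← orb_apply, hab, sub_self]
  exact hv (rho_inj ρ (sub_ne_zero.mpr hne) h1)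

lemma orb_surjective [FiniteDimensional F V] [FiniteDimensional F L] (hL : finrank F L = finrank F V) {v : V} (hv : v ≠ 0) :
    Function.Surjective (orb ρ v) :=
  (LinearMap.injective_iff_surjective_of_finrank_eq_finrank hL).mp (orb_injective ρ hv)

theorem eigen_singer [FiniteDimensional F V] [FiniteDimensional F L] (hL : finrank F L = finrank F V) (hp : (finrank F L).Prime)
    {T : Module.End F V} (hN : ∀ a, ∃ b, T * ρ a = ρ b * T) (hT : ∀ c : F, T ≠ c • (1 : Module.End F V)) {y : F} (hy : y ≠ 0) :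
    finrank F (E T y) ≤ 1 := by
  by_contra hcon
  push Not at hcon
  have hne : E T y ≠ ⊥ := by
    intro h
    rw [h, finrank_bot] at hcon
    omega
  obtain ⟨v, hv, hv0⟩ := Submodule.exists_mem_ne_zero_of_ne_bot hne
  have hTv := Module.End.mem_eigenspace_iff.mp hv
  have key : ∀ a, ρ a v ∈ E T y → T * ρ a = ρ a * T := by
    intro a ha
    obtain ⟨b, hb⟩ := hN a
    rw [Module.End.mem_eigenspace_iff, ← Module.End.mul_apply, hb, Module.End.mul_apply, hTv, map_smul] at ha
    have h1 : ρ b v = ρ a v := smul_right_injective V hy ha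
    have h2 := orb_injective ρ hv0 (a₁ := b) (a₂ := a) h1
    rw [hb, h2]
  obtain ⟨a, haE, ha⟩ : ∃ a, ρ a v ∈ E T y ∧ a ∉ (⊥ : Subalgebra F L) := by
    by_contra hall
    push Not at hall
    have hle : E T y ≤ Submodule.span F {v} := by
      intro w hw
      obtain ⟨a, rfl⟩ := orb_surjective ρ hL hv0 w
      obtain ⟨c, rfl⟩ := Algebra.mem_bot.mp (hall a hw)
      rw [orb_apply, AlgHom.commutes]
      exact Submodule.mem_span_singleton.mpr ⟨c, rfl⟩
    have h1 := Submodule.finrank_mono hle
    rw [finrank_span_singleton hv0] at h1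
    omega
  let S : Subalgebra F L :=
    { carrier := {a | T * ρ a = ρ a * T}
      mul_mem' := fun {a b} ha hb => by
        change T * ρ (a * b) = ρ (a * b) * T
        rw [map_mul, ← mul_assoc, show T * ρ a = ρ a * T from ha, mul_assoc, show T * ρ b = ρ b * T from hb, mul_assoc]
      add_mem' := fun {a b} ha hb => by
        change T * ρ (a + b) = ρ (a + b) * T
        rw [map_add, mul_add, add_mul, show T * ρ a = ρ a * T from ha, show T * ρ b = ρ b * T from hb]
      algebraMap_mem' := fun c => by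
        change T * ρ (algebraMap F L c) = ρ (algebraMap F L c) * T
        rw [AlgHom.commutes]; exact (Algebra.commutes c T).symm }
  have hS : S = ⊤ := by
    have := (Subalgebra.isSimpleOrder_of_finrank_prime F L hp).eq_bot_or_eq_top S
    refine this.resolve_left (fun h => ha ?_)
    rw [← h]
    exact key a haE
  apply hT y
  apply LinearMap.ext
  intro w
  obtain ⟨b, rfl⟩ := orb_surjective ρ hL hv0 w
  have hb : T * ρ b = ρ b * T := by
    have : b ∈ S := by rw [hS]; trivial
    exact this
  rw [orb_apply, ← Module.End.mul_apply, hb, Module.End.mul_apply, hTv, map_smul]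
  rfl

/-- the Frobenius map of a line -/
theorem exists_frob [Fintype F] [FiniteDimensional F V] [Finite L] (hL : finrank F L = finrank F V) (hV : 2 ≤ finrank F V) :
    ∃ φ : Module.End F V, (∀ a, ∃ b, φ * ρ a = ρ b * φ) ∧ φ ^ finrank F V = 1 ∧ ∀ c : F, φ ≠ c • (1 : Module.End F V) := by
  have hfd : FiniteDimensional F L := inferInstance
  have hnt : Nontrivial V := Module.nontrivial_of_finrank_pos (R := F) (by omega)
  obtain ⟨v, hv⟩ := exists_ne (0 : V)
  let e : L ≃ₗ[F] V := LinearEquiv.ofBijective (orb ρ v) ⟨orb_injective ρ hv, orb_surjective ρ hL hv⟩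
  have he : ∀ a, e a = ρ a v := fun a => rfl
  let σ := FiniteField.frobeniusAlgEquivOfAlgebraic F L
  have hσ : orderOf σ = finrank F V := by
    rw [← hL]; exact FiniteField.orderOf_frobeniusAlgEquivOfAlgebraic F L
  let φ : Module.End F V := (e : L →ₗ[F] V) ∘ₗ (σ.toLinearMap) ∘ₗ (e.symm : V →ₗ[F] L)
  have hφ : ∀ a, φ (e a) = e (σ a) := by
    intro a
    change e (σ (e.symm (e a))) = _
    rw [LinearEquiv.symm_apply_apply]
  have hpow : ∀ k a, (φ ^ k) (e a) = e ((σ ^ k) a) := by
    intro k
    induction k with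
    | zero => intro a; rfl
    | succ k ih => intro a; rw [pow_succ, Module.End.mul_apply, hφ, ih, pow_succ]; rfl
  refine ⟨φ, fun a => ⟨σ a, ?_⟩, ?_, ?_⟩
  · apply LinearMap.ext
    intro w
    obtain ⟨b, rfl⟩ := e.surjective w
    rw [Module.End.mul_apply, Module.End.mul_apply, hφ]
    have h1 : ρ a (e b) = e (a * b) := by
      rw [he, he, map_mul]; rfl
    have h2 : ρ (σ a) (e (σ b)) = e (σ a * σ b) := by
      rw [he, he, map_mul]; rfl
    rw [h1, hφ, h2, map_mul]
  · apply LinearMap.ext
    intro w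
    obtain ⟨b, rfl⟩ := e.surjective w
    rw [hpow, ← hσ, pow_orderOf_eq_one]
    rfl
  · intro c hc
    have h1 : φ (e 1) = e 1 := by rw [hφ, map_one]
    rw [hc] at h1
    have h2 : (c - 1) • e 1 = 0 := by
      rw [sub_smul, one_smul, sub_eq_zero]; exact h1
    have h3 : e 1 ≠ 0 := by
      rw [Ne, LinearEquiv.map_eq_zero_iff]; exact one_ne_zero
    have h4 : c = 1 := sub_eq_zero.mp ((smul_eq_zero.mp h2).resolve_right h3)
    rw [h4, one_smul] at hc
    have h5 : σ = 1 := by
      apply AlgEquiv.ext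
      intro a
      apply e.injective
      rw [← hφ, hc]; rfl
    rw [h5, orderOf_one] at hσ
    omega

/-- a cyclic vector: annihilator generated by `X^r - 1` -/
def Cyc (T : Module.End F V) (r : ℕ) (v : V) : Prop := ∀ P : F[X], aeval T P v = 0 → (X ^ r - 1) ∣ P

theorem exists_conj_cyc {r : ℕ} (hr : 0 < r) [FiniteDimensional F V] (hV : finrank F V = r) {T S : Module.End F V} (hT : T ^ r = 1)
    (hS : S ^ r = 1) {v w : V} (hv : Cyc T r v) (hw : Cyc S r w) : ∃ g : V ≃ₗ[F] V, ∀ u, g (T u) = S (g u) := by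
  have hmonic : (X ^ r - 1 : F[X]).Monic := by
    have := monic_X_pow_sub_C (1 : F) hr.ne'
    rwa [C_1] at this
  have hdeg : (X ^ r - 1 : F[X]).natDegree = r := by
    have := natDegree_X_pow_sub_C (n := r) (r := (1 : F))
    rwa [C_1] at this
  have hli : ∀ {T : Module.End F V} {v : V}, Cyc T r v → LinearIndependent F (fun i : Fin r => (T ^ (i : ℕ)) v) := by
    intro T v hv
    rw [Fintype.linearIndependent_iff]
    intro g hg
    let P : F[X] := ∑ i : Fin r, C (g i) * X ^ (i : ℕ)
    have hP : aeval T P v = 0 := by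
      rw [map_sum, LinearMap.sum_apply]
      rw [← hg]
      apply Finset.sum_congr rfl
      intro i _
      rw [map_mul, aeval_C, map_pow, aeval_X, Module.End.mul_apply]
      rfl
    have hdvd := hv P hP
    have hPdeg : P.degree < r := by
      apply degree_sum_fin_lt
    have hP0 : P = 0 := by
      by_contra hne
      have h1 := Polynomial.degree_le_of_dvd hdvd hne
      rw [Polynomial.degree_eq_natDegree hmonic.ne_zero, hdeg] at h1
      exact absurd (lt_of_le_of_lt h1 hPdeg) (lt_irrefl _)
    intro i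
    have h1 : P.coeff i = g i := by
      simp only [P, finsetSum_coeff, coeff_C_mul, coeff_X_pow]
      rw [Finset.sum_eq_single i]
      · simp
      · intro j _ hji
        rw [if_neg (fun h => hji (Fin.ext h.symm)), mul_zero]
      · intro h; exact absurd (Finset.mem_univ i) h
    rw [← h1, hP0, coeff_zero]
  have hne : Nonempty (Fin r) := ⟨⟨0, hr⟩⟩
  let bT := basisOfLinearIndependentOfCardEqFinrank (hli hv) (by rw [hV, Fintype.card_fin])
  let bS := basisOfLinearIndependentOfCardEqFinrank (hli hw) (by rw [hV, Fintype.card_fin])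
  have hbT : ∀ i : Fin r, bT i = (T ^ (i : ℕ)) v := fun i => by simp [bT]
  have hbS : ∀ i : Fin r, bS i = (S ^ (i : ℕ)) w := fun i => by simp [bS]
  let g := bT.equiv bS (Equiv.refl _)
  have hg : ∀ i : ℕ, g ((T ^ i) v) = (S ^ i) w := by
    intro i
    have h1 : ∀ (T : Module.End F V), T ^ r = 1 → T ^ i = T ^ (i % r) := by
      intro T hT
      conv_lhs => rw [← Nat.div_add_mod i r, pow_add, pow_mul, hT, one_pow, one_mul]
    rw [h1 T hT, h1 S hS]
    have h2 := hbT ⟨i % r, Nat.mod_lt _ hr⟩
    have h3 := hbS ⟨i % r, Nat.mod_lt _ hr⟩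
    dsimp only at h2 h3
    rw [← h2, ← h3]
    simp [g]
  refine ⟨g, ?_⟩
  have : (g : V →ₗ[F] V) ∘ₗ T = S ∘ₗ (g : V →ₗ[F] V) := by
    apply bT.ext
    intro i
    rw [hbT]
    change g (T ((T ^ (i : ℕ)) v)) = S (g ((T ^ (i : ℕ)) v))
    rw [hg, ← Module.End.mul_apply, ← pow_succ', hg, pow_succ']
    rfl
  intro u
  exact congrArg (fun f : V →ₗ[F] V => f u) this

end abstract_part

end Cfsg.Agent.Lib.ExtField
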