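import Mathlib
import Cfsg.Agent.Lib.ExtField2
import Cfsg.Prelude.Def_GeometricClasses

/-! Normalizers of field subalgebras: matrices. (helper99) -/

set_option autoImplicit false

namespace Cfsg.Agent.Lib.ExtField

open Polynomial Module Cfsg.Agent.Lib.InvSub Cfsg.Agent.Lib.PrimeOrd Cfsg.Agent.Lib.ElusiveLin Cfsg.Agent.Lib.AltSim

variable {F : Type*} [Field F] {n : ℕ}

/-- the normalizer of a subalgebra inside SL_n -/
abbrev NSub (K : Subalgebra F (Matrix (Fin n) (Fin n) F)) : Subgroup (Matrix.SpecialLinearGroup (Fin n) F) :=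
  (Cfsg.Geo.subalgebraNormalizer K).comap
    (Matrix.SpecialLinearGroup.toGL : Matrix.SpecialLinearGroup (Fin n) F →* GL (Fin n) F)

/-- the inclusion of `K` into the endomorphism ring -/
noncomputable def rhoK (K : Subalgebra F (Matrix (Fin n) (Fin n) F)) : K →ₐ[F] Module.End F (Fin n → F) :=
  ((Matrix.toLinAlgEquiv' : Matrix (Fin n) (Fin n) F ≃ₐ[F] _) : _ →ₐ[F] _).comp K.val

lemma rhoK_apply (K : Subalgebra F (Matrix (Fin n) (Fin n) F)) (a : K) :
    rhoK K a = Matrix.toLin' (a : Matrix (Fin n) (Fin n) F) := rfl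

lemma isField_of [Nonempty (Fin n)] {K : Subalgebra F (Matrix (Fin n) (Fin n) F)} {k : ℕ}
    (hK : Cfsg.Geo.IsFieldSubalgebra k K) : IsField K :=
  { exists_pair_ne := ⟨0, 1, fun h => zero_ne_one (congrArg Subtype.val h)⟩
    mul_comm := fun a b => Subtype.ext (hK.comm a a.2 b b.2)
    mul_inv_cancel := fun {a} ha => by
      obtain ⟨y, hy, hxy⟩ := hK.inv a a.2 (fun h => ha (Subtype.ext h))
      exact ⟨⟨y, hy⟩, Subtype.ext hxy⟩ }

lemma mem_NSub [Finite F] {K : Subalgebra F (Matrix (Fin n) (Fin n) F)} {x : Matrix.SpecialLinearGroup (Fin n) F} :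
    x ∈ NSub K ↔ ∀ κ ∈ K, (x : Matrix (Fin n) (Fin n) F) * κ * ((x⁻¹ : Matrix.SpecialLinearGroup (Fin n) F) : Matrix (Fin n) (Fin n) F) ∈ K := by
  have hinv : ((x⁻¹ : Matrix.SpecialLinearGroup (Fin n) F) : Matrix (Fin n) (Fin n) F) * (x : Matrix (Fin n) (Fin n) F) = 1 := by
    rw [← Matrix.SpecialLinearGroup.coe_mul, inv_mul_cancel, Matrix.SpecialLinearGroup.coe_one]
  have hinv' : (x : Matrix (Fin n) (Fin n) F) * ((x⁻¹ : Matrix.SpecialLinearGroup (Fin n) F) : Matrix (Fin n) (Fin n) F) = 1 := by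
    rw [← Matrix.SpecialLinearGroup.coe_mul, mul_inv_cancel, Matrix.SpecialLinearGroup.coe_one]
  have hval : x ∈ NSub K ↔ ∀ κ : Matrix (Fin n) (Fin n) F, κ ∈ K ↔
      (x : Matrix (Fin n) (Fin n) F) * κ * ((x⁻¹ : Matrix.SpecialLinearGroup (Fin n) F) : Matrix (Fin n) (Fin n) F) ∈ K := Iff.rfl
  rw [hval]
  constructor
  · intro h κ hκ
    exact (h κ).mp hκ
  · intro h κ
    refine ⟨h κ, fun hκ => ?_⟩
    have hfin : Finite (Matrix (Fin n) (Fin n) F) := inferInstanceAs (Finite (Fin n → Fin n → F))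
    have hfinK : Finite K := Finite.of_injective (fun a : K => (a : Matrix (Fin n) (Fin n) F)) Subtype.coe_injective
    let c : K → K := fun a => ⟨_, h a a.2⟩
    have hc : Function.Injective c := by
      intro a b hab
      have h1 : (x : Matrix (Fin n) (Fin n) F) * (a : Matrix (Fin n) (Fin n) F) * ((x⁻¹ : Matrix.SpecialLinearGroup (Fin n) F) : Matrix (Fin n) (Fin n) F) =
        (x : Matrix (Fin n) (Fin n) F) * (b : Matrix (Fin n) (Fin n) F) * ((x⁻¹ : Matrix.SpecialLinearGroup (Fin n) F) : Matrix (Fin n) (Fin n) F) :=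
        congrArg Subtype.val hab
      apply Subtype.ext
      calc (a : Matrix (Fin n) (Fin n) F) = (((x⁻¹ : Matrix.SpecialLinearGroup (Fin n) F) : Matrix (Fin n) (Fin n) F) * (x : Matrix (Fin n) (Fin n) F)) * a *
            (((x⁻¹ : Matrix.SpecialLinearGroup (Fin n) F) : Matrix (Fin n) (Fin n) F) * (x : Matrix (Fin n) (Fin n) F)) := by rw [hinv]; simp
        _ = ((x⁻¹ : Matrix.SpecialLinearGroup (Fin n) F) : Matrix (Fin n) (Fin n) F) * ((x : Matrix (Fin n) (Fin n) F) * a * ((x⁻¹ : Matrix.SpecialLinearGroup (Fin n) F) : Matrix (Fin n) (Fin n) F)) * (x : Matrix (Fin n) (Fin n) F) := by noncomm_ring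
        _ = _ := by rw [h1]
        _ = (((x⁻¹ : Matrix.SpecialLinearGroup (Fin n) F) : Matrix (Fin n) (Fin n) F) * (x : Matrix (Fin n) (Fin n) F)) * b *
            (((x⁻¹ : Matrix.SpecialLinearGroup (Fin n) F) : Matrix (Fin n) (Fin n) F) * (x : Matrix (Fin n) (Fin n) F)) := by noncomm_ring
        _ = b := by rw [hinv]; simp
    obtain ⟨b, hb⟩ := (Finite.surjective_of_injective hc) ⟨_, hκ⟩
    have h1 : (x : Matrix (Fin n) (Fin n) F) * (b : Matrix (Fin n) (Fin n) F) * ((x⁻¹ : Matrix.SpecialLinearGroup (Fin n) F) : Matrix (Fin n) (Fin n) F) =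
        (x : Matrix (Fin n) (Fin n) F) * κ * ((x⁻¹ : Matrix.SpecialLinearGroup (Fin n) F) : Matrix (Fin n) (Fin n) F) := congrArg Subtype.val hb
    have h2 : κ = b := by
      calc κ = (((x⁻¹ : Matrix.SpecialLinearGroup (Fin n) F) : Matrix (Fin n) (Fin n) F) * (x : Matrix (Fin n) (Fin n) F)) * κ *
            (((x⁻¹ : Matrix.SpecialLinearGroup (Fin n) F) : Matrix (Fin n) (Fin n) F) * (x : Matrix (Fin n) (Fin n) F)) := by rw [hinv]; simp
        _ = ((x⁻¹ : Matrix.SpecialLinearGroup (Fin n) F) : Matrix (Fin n) (Fin n) F) * ((x : Matrix (Fin n) (Fin n) F) * κ * ((x⁻¹ : Matrix.SpecialLinearGroup (Fin n) F) : Matrix (Fin n) (Fin n) F)) * (x : Matrix (Fin n) (Fin n) F) := by noncomm_ring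
        _ = _ := by rw [← h1]
        _ = (((x⁻¹ : Matrix.SpecialLinearGroup (Fin n) F) : Matrix (Fin n) (Fin n) F) * (x : Matrix (Fin n) (Fin n) F)) * b *
            (((x⁻¹ : Matrix.SpecialLinearGroup (Fin n) F) : Matrix (Fin n) (Fin n) F) * (x : Matrix (Fin n) (Fin n) F)) := by noncomm_ring
        _ = b := by rw [hinv]; simp
    rw [h2]; exact b.2

lemma mem_NSub_iff [Finite F] {K : Subalgebra F (Matrix (Fin n) (Fin n) F)} {x : Matrix.SpecialLinearGroup (Fin n) F} :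
    x ∈ NSub K ↔ ∀ a, ∃ b, tl x * rhoK K a = rhoK K b * tl x := by
  have hinv : ((x⁻¹ : Matrix.SpecialLinearGroup (Fin n) F) : Matrix (Fin n) (Fin n) F) * (x : Matrix (Fin n) (Fin n) F) = 1 := by
    rw [← Matrix.SpecialLinearGroup.coe_mul, inv_mul_cancel, Matrix.SpecialLinearGroup.coe_one]
  have hinv' : (x : Matrix (Fin n) (Fin n) F) * ((x⁻¹ : Matrix.SpecialLinearGroup (Fin n) F) : Matrix (Fin n) (Fin n) F) = 1 := by
    rw [← Matrix.SpecialLinearGroup.coe_mul, mul_inv_cancel, Matrix.SpecialLinearGroup.coe_one]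
  rw [mem_NSub]
  constructor
  · intro h a
    refine ⟨⟨_, h a a.2⟩, ?_⟩
    change Matrix.toLin' (x : Matrix (Fin n) (Fin n) F) * Matrix.toLin' (a : Matrix (Fin n) (Fin n) F) =
      Matrix.toLin' _ * Matrix.toLin' (x : Matrix (Fin n) (Fin n) F)
    rw [Module.End.mul_eq_comp, Module.End.mul_eq_comp, ← Matrix.toLin'_mul, ← Matrix.toLin'_mul]
    have h0 : (x : Matrix (Fin n) (Fin n) F) * (a : Matrix (Fin n) (Fin n) F) =
        ((x : Matrix (Fin n) (Fin n) F) * (a : Matrix (Fin n) (Fin n) F) * ((x⁻¹ : Matrix.SpecialLinearGroup (Fin n) F) : Matrix (Fin n) (Fin n) F)) *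
          (x : Matrix (Fin n) (Fin n) F) := by
      rw [Matrix.mul_assoc _ _ (x : Matrix (Fin n) (Fin n) F), hinv, Matrix.mul_one]
    exact congrArg Matrix.toLin' h0
  · intro h κ hκ
    obtain ⟨b, hb⟩ := h ⟨κ, hκ⟩
    have h1 : Matrix.toLin' ((x : Matrix (Fin n) (Fin n) F) * κ) = Matrix.toLin' ((b : Matrix (Fin n) (Fin n) F) * (x : Matrix (Fin n) (Fin n) F)) := by
      rw [Matrix.toLin'_mul, Matrix.toLin'_mul]; exact hb
    have h2 := Matrix.toLin'.injective h1
    rw [h2, Matrix.mul_assoc, hinv', Matrix.mul_one]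
    exact b.2

/-- conjugating to a given linear map -/
theorem exists_conj_eq {x : Matrix.SpecialLinearGroup (Fin n) F} {S : Module.End F (Fin n → F)}
    (g : (Fin n → F) ≃ₗ[F] (Fin n → F)) (hg : ∀ v, g (S v) = tl x (g v))
    (hC : ∀ δ : F, δ ≠ 0 → ∃ C : Module.End F (Fin n → F), C * tl x = tl x * C ∧ LinearMap.det C = δ) :
    ∃ P : Matrix.SpecialLinearGroup (Fin n) F, tl (P⁻¹ * x * P) = S := by
  have hgdet : LinearMap.det (g : (Fin n → F) →ₗ[F] (Fin n → F)) ≠ 0 := (LinearEquiv.isUnit_det' g).ne_zero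
  obtain ⟨C, hCx, hCdet⟩ := hC _ (inv_ne_zero hgdet)
  have hd : LinearMap.det (C * (g : (Fin n → F) →ₗ[F] (Fin n → F))) = 1 := by
    rw [map_mul, hCdet, inv_mul_cancel₀ hgdet]
  obtain ⟨P, hP, hconj⟩ := exists_conj_tl (x := x) _ hd
  refine ⟨P, ?_⟩
  have hinj : Function.Injective (C * (g : (Fin n → F) →ₗ[F] (Fin n → F)) : Module.End F (Fin n → F)) := by
    rw [← hP]
    have h2 : tl P⁻¹ * tl P = 1 := by rw [← tl_mul, inv_mul_cancel, tl_one]
    intro u v huv
    have h4 : ∀ w, tl P⁻¹ (tl P w) = w := fun w => congrArg (fun φ : Module.End F (Fin n → F) => φ w) h2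
    rw [← h4 u, huv, h4]
  apply LinearMap.ext
  intro v
  apply hinj
  have h1 := congrArg (fun φ : Module.End F (Fin n → F) => φ v) hconj
  have h2 : (C * (g : (Fin n → F) →ₗ[F] (Fin n → F))) (tl (P⁻¹ * x * P) v) = tl x (C (g v)) := h1
  have h3 : (C * (g : (Fin n → F) →ₗ[F] (Fin n → F))) (S v) = tl x (C (g v)) := by
    change C (g (S v)) = _
    rw [hg, ← Module.End.mul_apply, hCx]
    rfl
  rw [h2, h3]

lemma finrank_E_conj (x P : Matrix.SpecialLinearGroup (Fin n) F) (y : F) :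
    finrank F (E (tl (P⁻¹ * x * P)) y) = finrank F (E (tl x) y) := by
  have h1 : tl P * tl (P⁻¹ * x * P) = tl x * tl P := by
    rw [← tl_mul, ← tl_mul, ← mul_assoc, ← mul_assoc, mul_inv_cancel, one_mul]
  have h2 : tl P⁻¹ * tl P = 1 := by rw [← tl_mul, inv_mul_cancel, tl_one]
  have h3 : tl P * tl P⁻¹ = 1 := by rw [← tl_mul, mul_inv_cancel, tl_one]
  have hPinj : Function.Injective (tl P) := by
    intro u v huv
    have h4 : ∀ w, tl P⁻¹ (tl P w) = w := fun w => congrArg (fun φ : Module.End F (Fin n → F) => φ w) h2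
    rw [← h4 u, huv, h4]
  have h5 : (E (tl (P⁻¹ * x * P)) y).map (tl P) = E (tl x) y := by
    ext v
    rw [Submodule.mem_map]
    constructor
    · rintro ⟨w, hw, rfl⟩
      rw [Module.End.mem_eigenspace_iff] at hw ⊢
      rw [← Module.End.mul_apply, ← h1, Module.End.mul_apply, hw, map_smul]
    · intro hv
      have h6 : tl P (tl P⁻¹ v) = v := congrArg (fun φ : Module.End F (Fin n → F) => φ v) h3
      refine ⟨tl P⁻¹ v, ?_, h6⟩
      rw [Module.End.mem_eigenspace_iff] at hv ⊢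
      apply hPinj
      rw [← Module.End.mul_apply, h1, Module.End.mul_apply, map_smul, h6, hv]
  rw [← h5]
  exact LinearEquiv.finrank_eq (Submodule.equivMapOfInjective (tl P) hPinj _)

end Cfsg.Agent.Lib.ExtField
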