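import Mathlib
import Cfsg.Agent.Lib.ExtField3

/-! Cyclic vectors for elements of prime order. (helper99) -/

set_option autoImplicit false

namespace Cfsg.Agent.Lib.ExtField

open Polynomial Module Cfsg.Agent.Lib.InvSub Cfsg.Agent.Lib.PrimeOrd Cfsg.Agent.Lib.ElusiveLin Cfsg.Agent.Lib.AltSim

variable {F V : Type*} [Field F] [AddCommGroup V] [Module F V]

/-- the annihilator of `v` is generated by `f` -/
def An (T : Module.End F V) (f : F[X]) (v : V) : Prop := ∀ P : F[X], aeval T P v = 0 ↔ f ∣ P

lemma An.self {T : Module.End F V} {f : F[X]} {v : V} (h : An T f v) : aeval T f v = 0 := (h f).mpr dvd_rfl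

lemma An.add {T : Module.End F V} {f g : F[X]} {v w : V} (hf : An T f v) (hg : An T g w) (hfg : IsCoprime f g) :
    An T (f * g) (v + w) := by
  intro P
  constructor
  · intro h
    rw [map_add] at h
    apply hfg.mul_dvd
    · have h1 : aeval T (g * P) v = 0 := by
        have h2 : aeval T (g * P) (v + w) = 0 := by
          rw [map_mul, Module.End.mul_apply, map_add, h, map_zero]
        have h3 : aeval T (g * P) w = 0 := (hg _).mpr (dvd_mul_right _ _)
        rw [map_add, h3, add_zero] at h2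
        exact h2
      exact hfg.dvd_of_dvd_mul_left ((hf _).mp h1)
    · have h1 : aeval T (f * P) w = 0 := by
        have h2 : aeval T (f * P) (v + w) = 0 := by
          rw [map_mul, Module.End.mul_apply, map_add, h, map_zero]
        have h3 : aeval T (f * P) v = 0 := (hf _).mpr (dvd_mul_right _ _)
        rw [map_add, h3, zero_add] at h2
        exact h2
      exact hfg.symm.dvd_of_dvd_mul_left ((hg _).mp h1)
  · intro h
    rw [map_add, (hf P).mpr ((dvd_mul_right f g).trans h), (hg P).mpr ((dvd_mul_left g f).trans h), add_zero]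

lemma An.of_irred {T : Module.End F V} {f : F[X]} {v : V} (hf : Irreducible f) (h : aeval T f v = 0) (hv : v ≠ 0) :
    An T f v := by
  intro P
  constructor
  · intro hP
    by_contra hnd
    obtain ⟨a, b, hab⟩ := (Irreducible.coprime_iff_not_dvd hf).mpr hnd
    apply hv
    have h1 : aeval T (a * f + b * P) v = 0 := by
      rw [map_add, map_mul, map_mul, LinearMap.add_apply, Module.End.mul_apply, Module.End.mul_apply, h, hP, map_zero,
        map_zero, add_zero]
    rw [hab, map_one] at h1
    exact h1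
  · rintro ⟨Q, rfl⟩
    rw [mul_comm, map_mul, Module.End.mul_apply, h, map_zero]

lemma An.cyc {T : Module.End F V} {r : ℕ} {v : V} (h : An T (X ^ r - 1) v) : Cyc T r v := fun P hP => (h P).mp hP

/-- cyclic vector when the cyclotomic polynomial is irreducible -/
theorem exists_cyc_irred [FiniteDimensional F V] {r : ℕ} (hr : r.Prime) (hr3 : 3 ≤ r) (hirr : Irreducible (cyclotomic r F))
    (hrF : (r : F) ≠ 0) (hV : finrank F V = r) {T : Module.End F V} (hT : T ^ r = 1) (hT1 : T ≠ 1) : ∃ v, Cyc T r v := by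
  have hprod : cyclotomic r F * (X - 1) = X ^ r - 1 := by
    have : Fact r.Prime := ⟨hr⟩
    exact cyclotomic_prime_mul_X_sub_one F r
  have hTT : aeval T (X ^ r - 1 : F[X]) = 0 := by
    rw [map_sub, map_pow, aeval_X, map_one, hT, sub_self]
  -- an eigenvector for 1
  have h1 : ∃ v, aeval T (cyclotomic r F) v ≠ 0 := by
    by_contra hcon
    push Not at hcon
    have h0 : aeval T (cyclotomic r F) = 0 := LinearMap.ext hcon
    let φ := liftEnd T h0
    have hFf : Fact (Irreducible (cyclotomic r F)) := ⟨hirr⟩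
    let _ : Module (AdjoinRoot (cyclotomic r F)) V := Module.compHom V φ.toRingHom
    have : IsScalarTower F (AdjoinRoot (cyclotomic r F)) V := ⟨fun a x v => by
      change φ (a • x) v = a • φ x v
      rw [map_smul]; rfl⟩
    have h2 := Module.finrank_mul_finrank F (AdjoinRoot (cyclotomic r F)) V
    rw [hV, (AdjoinRoot.powerBasis hirr.ne_zero).finrank, AdjoinRoot.powerBasis_dim, natDegree_cyclotomic, Nat.totient_prime hr] at h2
    have h3 : (r - 1) ∣ r := ⟨_, h2.symm⟩
    rcases (Nat.dvd_prime hr).mp h3 with h4 | h4 <;> omega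
  obtain ⟨w1, hw1⟩ := h1
  have h2 : ∃ v, aeval T (X - 1 : F[X]) v ≠ 0 := by
    by_contra hcon
    push Not at hcon
    apply hT1
    apply LinearMap.ext
    intro v
    have := hcon v
    rw [map_sub, aeval_X, map_one, LinearMap.sub_apply, sub_eq_zero] at this
    exact this
  obtain ⟨w2, hw2⟩ := h2
  have hXirr : Irreducible (X - 1 : F[X]) := by
    have := irreducible_X_sub_C (1 : F)
    rwa [C_1] at this
  have ha1 : An T (X - 1) (aeval T (cyclotomic r F) w1) := by
    apply An.of_irred hXirr _ hw1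
    rw [← Module.End.mul_apply, ← map_mul, mul_comm, hprod, hTT, LinearMap.zero_apply]
  have ha2 : An T (cyclotomic r F) (aeval T (X - 1 : F[X]) w2) := by
    apply An.of_irred hirr _ hw2
    rw [← Module.End.mul_apply, ← map_mul, hprod, hTT, LinearMap.zero_apply]
  have hcop : IsCoprime (cyclotomic r F) (X - 1) := by
    apply ((Irreducible.coprime_iff_not_dvd hXirr).mpr _).symm
    intro hd
    have h3 : (cyclotomic r F).IsRoot 1 := by
      have := dvd_iff_isRoot.mp (show (X - C (1 : F)) ∣ cyclotomic r F by rwa [C_1])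
      exact this
    rw [IsRoot.def, eval_one_cyclotomic_prime (hn := ⟨hr⟩)] at h3
    exact hrF h3
  refine ⟨_, (An.cyc (v := aeval T (X - 1 : F[X]) w2 + aeval T (cyclotomic r F) w1) ?_)⟩
  rw [← hprod]
  exact ha2.add ha1 hcop

/-- cyclic vector for elements of order three with small eigenspaces -/
theorem exists_cyc_three [FiniteDimensional F V] {ω : F} (hω : ω ^ 2 + ω + 1 = 0) (h3F : (3 : F) ≠ 0)
    (hV : finrank F V = 3) {T : Module.End F V} (hT : T ^ 3 = 1) (hE : ∀ y : F, y ≠ 0 → finrank F (E T y) ≤ 1) : ∃ v, Cyc T 3 v := by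
  have hω0 : ω ≠ 0 := by
    rintro rfl
    norm_num at hω
  have hω3 : ω ^ 3 = 1 := by linear_combination (ω - 1) * hω
  have hω1 : ω ≠ 1 := by
    rintro rfl
    apply h3F
    linear_combination hω
  have hω2 : ω ^ 2 ≠ 1 := by
    intro h
    apply hω1
    have : ω ^ 3 = ω := by rw [pow_succ, h, one_mul]
    rw [← this, hω3]
  have hωω : ω ^ 2 ≠ ω := by
    intro h
    apply hω1
    have : ω * (ω - 1) = 0 := by linear_combination h
    exact sub_eq_zero.mp ((mul_eq_zero.mp this).resolve_left hω0)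
  have hprod : (X - C (1 : F)) * ((X - C ω) * (X - C (ω ^ 2))) = X ^ 3 - 1 := by
    have h1 : C (ω ^ 2) = - C ω - 1 := by
      rw [← C_1, ← C_neg, ← C_sub]; congr 1; linear_combination hω
    have h2 : C ω ^ 2 + C ω + 1 = 0 := by
      rw [← C_pow, ← C_add, ← C_1, ← C_add, hω, C_0]
    rw [h1, C_1]
    linear_combination (-(X - 1) : F[X]) * h2
  have hTT : aeval T (X ^ 3 - 1 : F[X]) = 0 := by
    rw [map_sub, map_pow, aeval_X, map_one, hT, sub_self]
  have hker : ∀ a : F, LinearMap.ker (aeval T (X - C a)) = E T a := by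
    intro a
    ext v
    rw [LinearMap.mem_ker, Module.End.mem_eigenspace_iff, map_sub, aeval_X, aeval_C, LinearMap.sub_apply, sub_eq_zero]
    rfl
  -- no product of two factors vanishes
  have hne : ∀ a b : F, a ≠ 0 → b ≠ 0 → ∃ v, aeval T ((X - C a) * (X - C b)) v ≠ 0 := by
    intro a b ha hb
    by_contra hcon
    push Not at hcon
    have h1 := LinearMap.finrank_range_add_finrank_ker (aeval T (X - C b))
    rw [hker, hV] at h1
    have h2 : LinearMap.range (aeval T (X - C b)) ≤ E T a := by
      rintro _ ⟨v, rfl⟩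
      rw [← hker, LinearMap.mem_ker, ← Module.End.mul_apply, ← map_mul]
      exact hcon v
    have h3 := Submodule.finrank_mono h2
    have := hE a ha
    have := hE b hb
    omega
  have hvec : ∀ a b c : F, a ≠ 0 → b ≠ 0 → (X - C c) * ((X - C a) * (X - C b)) = X ^ 3 - 1 →
      ∃ v, An T (X - C c) v := by
    intro a b c ha hb hp
    obtain ⟨w, hw⟩ := hne a b ha hb
    refine ⟨_, An.of_irred (irreducible_X_sub_C c) ?_ hw⟩
    rw [← Module.End.mul_apply, ← map_mul, hp, hTT, LinearMap.zero_apply]
  obtain ⟨v0, h0⟩ := hvec ω (ω ^ 2) 1 hω0 (pow_ne_zero 2 hω0) hprod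
  obtain ⟨v1, h1⟩ := hvec 1 (ω ^ 2) ω one_ne_zero (pow_ne_zero 2 hω0) (by rw [← hprod]; ring)
  obtain ⟨v2, h2⟩ := hvec 1 ω (ω ^ 2) one_ne_zero hω0 (by rw [← hprod]; ring)
  refine ⟨v0 + (v1 + v2), An.cyc ?_⟩
  rw [← hprod]
  refine h0.add (h1.add h2 ?_) ?_
  · exact isCoprime_X_sub_C_of_isUnit_sub (isUnit_iff_ne_zero.mpr (sub_ne_zero.mpr hωω.symm))
  · refine IsCoprime.mul_right ?_ ?_
    · exact isCoprime_X_sub_C_of_isUnit_sub (isUnit_iff_ne_zero.mpr (sub_ne_zero.mpr hω1.symm))
    · exact isCoprime_X_sub_C_of_isUnit_sub (isUnit_iff_ne_zero.mpr (sub_ne_zero.mpr hω2.symm))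

lemma two_le_of_singles {n : ℕ} {U : Submodule F (Fin n → F)} {i j : Fin n} (hij : i ≠ j)
    (hi : (Pi.single i 1 : Fin n → F) ∈ U) (hj : (Pi.single j 1 : Fin n → F) ∈ U) : 2 ≤ finrank F U := by
  let w : Fin 2 → U := ![⟨_, hi⟩, ⟨_, hj⟩]
  have h5 : (fun t => (w t : Fin n → F)) = (Pi.basisFun F (Fin n)) ∘ ![i, j] := by
    funext t
    fin_cases t <;> simp [w]
  have hli : LinearIndependent F w := by
    have h4 : LinearIndependent F (fun t => (w t : Fin n → F)) := by
      rw [h5]
      refine (Pi.basisFun F (Fin n)).linearIndependent.comp _ ?_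
      intro a b hab
      fin_cases a <;> fin_cases b <;> simp_all
    exact LinearIndependent.of_comp (Submodule.subtype _) h4
  have := hli.fintype_card_le_finrank
  rwa [Fintype.card_fin] at this

lemma irr_cyclotomic [Fintype F] {p r : ℕ} [Fact p.Prime] [CharP F p] [Fact r.Prime] (hrp : r ≠ p) 
    (h : orderOf ((Fintype.card F : ℕ) : ZMod r) = r - 1) : Irreducible (cyclotomic r F) := by
  have hr : r.Prime := Fact.out
  have hcyc : ¬ IsUnit (cyclotomic r F) := by
    rw [Polynomial.isUnit_iff_degree_eq_zero, degree_cyclotomic]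
    have : 0 < r.totient := Nat.totient_pos.mpr hr.pos
    exact_mod_cast this.ne'
  obtain ⟨f, hf, g, hg⟩ := WfDvdMonoid.exists_irreducible_factor hcyc (cyclotomic_ne_zero r F)
  have hdeg : f.natDegree = r - 1 := by rw [natDegree_irred_cyclotomic hrp hf ⟨g, hg⟩, h]
  have hg0 : g ≠ 0 := by
    rintro rfl
    rw [mul_zero] at hg
    exact cyclotomic_ne_zero r F hg
  have h1 : (cyclotomic r F).natDegree = f.natDegree + g.natDegree := by
    rw [hg, natDegree_mul hf.ne_zero hg0]
  rw [natDegree_cyclotomic, Nat.totient_prime hr, hdeg] at h1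
  have hgu : IsUnit g := by
    rw [Polynomial.isUnit_iff_degree_eq_zero, degree_eq_natDegree hg0]
    have : g.natDegree = 0 := by omega
    rw [this]; rfl
  rw [hg]
  exact (irreducible_mul_isUnit hgu).mpr hf

end Cfsg.Agent.Lib.ExtField
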