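import Mathlib
import Cfsg.Agent.Lib.ExtField4

/-! Conjugating elements into normalizers of field subalgebras. (helper99) -/

set_option autoImplicit false

namespace Cfsg.Agent.Lib.ExtField

open Polynomial Module Cfsg.Agent.Lib.InvSub Cfsg.Agent.Lib.PrimeOrd Cfsg.Agent.Lib.ElusiveLin Cfsg.Agent.Lib.AltSim

section roots

variable {F L : Type*} [Field F] [Field L] [Algebra F L]

theorem exists_root_of_irred [Finite F] [Finite L] {f : F[X]} (hf : Irreducible f) (hd : f.natDegree ∣ finrank F L) :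
    ∃ κ : L, aeval κ f = 0 := by
  have hFf : Fact (Irreducible f) := ⟨hf⟩
  have hfin : Module.Finite F (AdjoinRoot f) := (AdjoinRoot.powerBasis hf.ne_zero).finite
  have : Finite (AdjoinRoot f) := Module.finite_of_finite F
  have hfr : finrank F (AdjoinRoot f) = f.natDegree := by
    rw [(AdjoinRoot.powerBasis hf.ne_zero).finrank, AdjoinRoot.powerBasis_dim]
  obtain ⟨φ⟩ := FiniteField.nonempty_algHom_of_finrank_dvd (F := F) (K := AdjoinRoot f) (L := L) (by rw [hfr]; exact hd)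
  refine ⟨φ (AdjoinRoot.root f), ?_⟩
  rw [aeval_algHom_apply, AdjoinRoot.aeval_eq, AdjoinRoot.mk_self, map_zero]

lemma root_notMem_bot {f : F[X]} (hf : Irreducible f) (hd : 2 ≤ f.natDegree) {κ : L} (h : aeval κ f = 0) :
    κ ∉ (⊥ : Subalgebra F L) := by
  intro hκ
  obtain ⟨c, rfl⟩ := Algebra.mem_bot.mp hκ
  rw [aeval_algebraMap_apply] at h
  have h1 : aeval c f = 0 := (algebraMap F L).injective (by rw [h, map_zero])
  have h2 : f.IsRoot c := by rwa [coe_aeval_eq_eval] at h1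
  have h3 := degree_eq_one_of_irreducible_of_root hf h2
  rw [degree_eq_natDegree hf.ne_zero] at h3
  have : f.natDegree = 1 := by exact_mod_cast h3
  omega

lemma irred_sq {d : F} (h : ∀ y : F, y ^ 2 ≠ d) : Irreducible (X ^ 2 - C d) ∧ (X ^ 2 - C d : F[X]).natDegree = 2 :=
  ⟨X_pow_sub_C_irreducible_of_prime Nat.prime_two h, natDegree_X_pow_sub_C⟩

end roots

variable {F : Type*} [Field F] {n : ℕ}

theorem exists_conj_NSub [Finite F] {K : Subalgebra F (Matrix (Fin n) (Fin n) F)} {k : ℕ} (hn : 0 < n) (hk : k.Prime)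
    (hK : Cfsg.Geo.IsFieldSubalgebra k K) {f : F[X]} (hf : Irreducible f) (hd : f.natDegree = k)
    {J : Module.End F (Fin n → F)} (hJ : aeval J f = 0) {x : Matrix.SpecialLinearGroup (Fin n) F} {Q : F[X]}
    (hxJ : tl x * J = aeval J Q * tl x)
    (hC : ∀ δ : F, δ ≠ 0 → ∃ C : Module.End F (Fin n → F), C * tl x = tl x * C ∧ LinearMap.det C = δ) :
    ∃ P : Matrix.SpecialLinearGroup (Fin n) F, P⁻¹ * x * P ∈ NSub K := by
  have hne : Nonempty (Fin n) := ⟨⟨0, hn⟩⟩
  let _ : Field K := (isField_of hK).toField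
  have hfinM : Finite (Matrix (Fin n) (Fin n) F) := inferInstanceAs (Finite (Fin n → Fin n → F))
  have hfinK : Finite K := Finite.of_injective (fun a : K => (a : Matrix (Fin n) (Fin n) F)) Subtype.coe_injective
  have hpK : (finrank F K).Prime := by rw [hK.finrank_eq]; exact hk
  obtain ⟨κ, hκ⟩ := exists_root_of_irred (L := K) hf (by rw [hd, hK.finrank_eq])
  have hκbot := root_notMem_bot (L := K) hf (by rw [hd]; exact hk.two_le) hκ
  have hρκ : aeval (rhoK K κ) f = 0 := by
    rw [aeval_algHom_apply, hκ, map_zero]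
  obtain ⟨g, hg⟩ := exists_conj_irred hf hρκ hJ rfl
  let S : Module.End F (Fin n → F) := (g.symm : (Fin n → F) →ₗ[F] (Fin n → F)) ∘ₗ tl x ∘ₗ (g : (Fin n → F) →ₗ[F] (Fin n → F))
  have hS : ∀ v, g (S v) = tl x (g v) := fun v => LinearEquiv.apply_symm_apply g _
  have hgQ : ∀ v, g (rhoK K (aeval κ Q) v) = aeval J Q (g v) := by
    have h1 : ∀ (P : F[X]) v, g (aeval (rhoK K κ) P v) = aeval J P (g v) := by
      intro P
      induction P using Polynomial.induction_on' with
      | add p q hp hq => intro v; rw [map_add, map_add, LinearMap.add_apply, LinearMap.add_apply, map_add, hp, hq]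
      | monomial k a =>
        intro v
        rw [← C_mul_X_pow_eq_monomial, map_mul, map_mul, aeval_C, aeval_C, map_pow, map_pow, aeval_X, aeval_X,
          Module.End.mul_apply, Module.End.mul_apply]
        have h2 : ∀ k v, g ((rhoK K κ ^ k) v) = (J ^ k) (g v) := by
          intro k
          induction k with
          | zero => intro v; rfl
          | succ k ih => intro v; rw [pow_succ, Module.End.mul_apply, ih, hg, pow_succ]; rfl
        change g (a • ((rhoK K κ ^ k) v)) = a • ((J ^ k) (g v))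
        rw [map_smul, h2]
    intro v
    rw [← aeval_algHom_apply]
    exact h1 Q v
  have hSκ : S * rhoK K κ = rhoK K (aeval κ Q) * S := by
    apply LinearMap.ext
    intro v
    apply g.injective
    rw [Module.End.mul_apply, Module.End.mul_apply, hS, hg, hgQ, hS, ← Module.End.mul_apply, hxJ, Module.End.mul_apply]
  let A : Subalgebra F K :=
    { carrier := {a | ∃ b, S * rhoK K a = rhoK K b * S}
      mul_mem' := by
        rintro a b ⟨a', ha⟩ ⟨b', hb⟩
        refine ⟨a' * b', ?_⟩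
        rw [map_mul, ← mul_assoc, ha, mul_assoc, hb, ← mul_assoc, ← map_mul]
      add_mem' := by
        rintro a b ⟨a', ha⟩ ⟨b', hb⟩
        refine ⟨a' + b', ?_⟩
        rw [map_add, mul_add, ha, hb, ← add_mul, ← map_add]
      algebraMap_mem' := fun c => ⟨algebraMap F K c, by
        rw [AlgHom.commutes]; exact (Algebra.commutes c S).symm⟩ }
  have hA : A = ⊤ := by
    have := (Subalgebra.isSimpleOrder_of_finrank_prime F K hpK).eq_bot_or_eq_top A
    refine this.resolve_left (fun h => hκbot ?_)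
    rw [← h]
    exact ⟨_, hSκ⟩
  obtain ⟨P, hP⟩ := exists_conj_eq (x := x) g hS hC
  refine ⟨P, mem_NSub_iff.mpr fun a => ?_⟩
  rw [hP]
  have : a ∈ A := by rw [hA]; trivial
  exact this

section quad

variable {V : Type*} [AddCommGroup V] [Module F V] [FiniteDimensional F V]

lemma exists_sqrt_end (he : Even (finrank F V)) (d : F) : ∃ J : Module.End F V, J * J = d • (1 : Module.End F V) := by
  obtain ⟨m, hm⟩ := he
  let W := Fin m → F
  have hW : finrank F (W × W) = finrank F V := by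
    rw [Module.finrank_prod, hm]; simp [W]
  let e : V ≃ₗ[F] (W × W) := LinearEquiv.ofFinrankEq _ _ hW.symm
  let J₀ : (W × W) →ₗ[F] (W × W) := (d • LinearMap.snd F W W).prod (LinearMap.fst F W W)
  refine ⟨(e.symm : (W × W) →ₗ[F] V) ∘ₗ J₀ ∘ₗ (e : V →ₗ[F] (W × W)), ?_⟩
  apply LinearMap.ext
  intro v
  apply e.injective
  change e (e.symm (J₀ (e (e.symm (J₀ (e v)))))) = e (d • v)
  rw [LinearEquiv.apply_symm_apply, LinearEquiv.apply_symm_apply, map_smul]
  ext <;> simp [J₀]

/-- gluing two endomorphisms -/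
lemma exists_glue {U W : Submodule F V} (hUW : IsCompl U W) (J₁ : U →ₗ[F] V) (J₂ : W →ₗ[F] V) :
    ∃ J : Module.End F V, (∀ u : U, J u = J₁ u) ∧ (∀ w : W, J w = J₂ w) := by
  let e' := Submodule.prodEquivOfIsCompl U W hUW
  refine ⟨(J₁.coprod J₂) ∘ₗ (e'.symm : V →ₗ[F] (U × W)), ?_, ?_⟩
  · intro u
    change J₁.coprod J₂ (e'.symm u) = _
    have : e'.symm u = (u, 0) := Submodule.prodEquivOfIsCompl_symm_apply_left U W hUW u
    rw [this]; simp
  · intro w
    change J₁.coprod J₂ (e'.symm w) = _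
    have : e'.symm w = (0, w) := Submodule.prodEquivOfIsCompl_symm_apply_right U W hUW w
    rw [this]; simp

lemma exists_J_comm {U W : Submodule F V} (hUW : IsCompl U W) {T : Module.End F V} {y z : F} (hU : ∀ u ∈ U, T u = y • u)
    (hW : ∀ w ∈ W, T w = z • w) (heU : Even (finrank F U)) (heW : Even (finrank F W)) (d : F) :
    ∃ J : Module.End F V, J * J = d • (1 : Module.End F V) ∧ T * J = J * T := by
  obtain ⟨J₁, h1⟩ := exists_sqrt_end heU d
  obtain ⟨J₂, h2⟩ := exists_sqrt_end heW d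
  obtain ⟨J, hJU, hJW⟩ := exists_glue hUW (U.subtype ∘ₗ J₁) (W.subtype ∘ₗ J₂)
  have e1 : ∀ u : U, J₁ (J₁ u) = d • u := fun u => congrArg (fun f : Module.End F U => f u) h1
  have e2 : ∀ u : W, J₂ (J₂ u) = d • u := fun u => congrArg (fun f : Module.End F W => f u) h2
  have hJU' : ∀ u : U, J u = ((J₁ u : U) : V) := hJU
  have hJW' : ∀ u : W, J u = ((J₂ u : W) : V) := hJW
  refine ⟨J, ?_, ?_⟩
  · apply LinearMap.ext
    intro v
    have hv : v ∈ U ⊔ W := by rw [hUW.sup_eq_top]; trivial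
    obtain ⟨u, hu, w, hw, rfl⟩ := Submodule.mem_sup.mp hv
    rw [Module.End.mul_apply, map_add, hJU' ⟨u, hu⟩, hJW' ⟨w, hw⟩, map_add, hJU', hJW', e1, e2]
    simp [smul_add]
  · apply LinearMap.ext
    intro v
    have hv : v ∈ U ⊔ W := by rw [hUW.sup_eq_top]; trivial
    obtain ⟨u, hu, w, hw, rfl⟩ := Submodule.mem_sup.mp hv
    rw [Module.End.mul_apply, Module.End.mul_apply, map_add, map_add, hJU' ⟨u, hu⟩, hJW' ⟨w, hw⟩, map_add,
      hU _ (J₁ ⟨u, hu⟩).2, hW _ (J₂ ⟨w, hw⟩).2, hU u hu, hW w hw, map_add, map_smul, map_smul, hJU' ⟨u, hu⟩, hJW' ⟨w, hw⟩]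

lemma exists_J_swap {U W : Submodule F V} (hUW : IsCompl U W) {T : Module.End F V} {y : F} (hU : ∀ u ∈ U, T u = y • u)
    (hW : ∀ w ∈ W, T w = (-y) • w) (he : finrank F U = finrank F W) (d : F) :
    ∃ J : Module.End F V, J * J = d • (1 : Module.End F V) ∧ T * J = -(J * T) := by
  let e : U ≃ₗ[F] W := LinearEquiv.ofFinrankEq _ _ he
  obtain ⟨J, hJU, hJW⟩ := exists_glue hUW (W.subtype ∘ₗ (e : U →ₗ[F] W)) (d • (U.subtype ∘ₗ (e.symm : W →ₗ[F] U)))
  have hJU' : ∀ u : U, J u = ((e u : W) : V) := hJU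
  have hJW' : ∀ u : W, J u = d • ((e.symm u : U) : V) := hJW
  refine ⟨J, ?_, ?_⟩
  · apply LinearMap.ext
    intro v
    have hv : v ∈ U ⊔ W := by rw [hUW.sup_eq_top]; trivial
    obtain ⟨u, hu, w, hw, rfl⟩ := Submodule.mem_sup.mp hv
    rw [Module.End.mul_apply, map_add, hJU' ⟨u, hu⟩, hJW' ⟨w, hw⟩, map_add, map_smul, hJW', hJU',
      LinearEquiv.symm_apply_apply, LinearEquiv.apply_symm_apply]
    simp [smul_add]
  · apply LinearMap.ext
    intro v
    have hv : v ∈ U ⊔ W := by rw [hUW.sup_eq_top]; trivial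
    obtain ⟨u, hu, w, hw, rfl⟩ := Submodule.mem_sup.mp hv
    rw [LinearMap.neg_apply, Module.End.mul_apply, Module.End.mul_apply, map_add, map_add, hJU' ⟨u, hu⟩, hJW' ⟨w, hw⟩, map_add,
      map_smul, hW _ (e ⟨u, hu⟩).2, hU _ (e.symm ⟨w, hw⟩).2, hU u hu, hW w hw, map_add, map_smul, map_smul, hJU' ⟨u, hu⟩, hJW' ⟨w, hw⟩,
      neg_smul, neg_smul, smul_comm d y]
    abel

end quad

end Cfsg.Agent.Lib.ExtField
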