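import Mathlib

/-!
Extremely primitive permutation groups: Manning's theorem and consequences.
-/

set_option autoImplicit false

namespace Cfsg.Agent.Lib.ExtPrim

open MulAction
open scoped Pointwise

variable {G : Type*} [Group G] {Ω : Type*} [MulAction G Ω]

/-- A subgroup `K` of `G_α` normalised by `G_α`, with `G_α` preprimitive on the orbit of `ω`, either fixes `ω` (and its whole orbit)
or is transitive on that orbit. -/
theorem fix_or_trans (α ω : Ω) (hprim : IsPreprimitive (stabilizer G α) (orbit (stabilizer G α) ω))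
    (K : Subgroup G) (hK : K ≤ stabilizer G α) (hKn : stabilizer G α ≤ Subgroup.normalizer (K : Set G)) :
    (∀ k ∈ K, ∀ x ∈ orbit (stabilizer G α) ω, k • x = x) ∨
    (∀ x ∈ orbit (stabilizer G α) ω, ∀ y ∈ orbit (stabilizer G α) ω, ∃ k ∈ K, k • x = y) := by
  have hn : (K.subgroupOf (stabilizer G α)).Normal :=
    (Subgroup.normal_subgroupOf_iff_le_normalizer hK).mpr hKn
  by_cases hfix : fixedPoints (K.subgroupOf (stabilizer G α)) (orbit (stabilizer G α) ω) = Set.univ
  · left
    intro k hk x hx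
    have h1 : (⟨x, hx⟩ : orbit (stabilizer G α) ω) ∈
        fixedPoints (K.subgroupOf (stabilizer G α)) (orbit (stabilizer G α) ω) := by
      rw [hfix]; exact Set.mem_univ _
    have h2 := h1 ⟨⟨k, hK hk⟩, hk⟩
    exact congrArg Subtype.val h2
  · right
    have hq : IsQuasiPreprimitive (stabilizer G α) (orbit (stabilizer G α) ω) := inferInstance
    have ht : IsPretransitive (K.subgroupOf (stabilizer G α)) (orbit (stabilizer G α) ω) :=
      hq.isPretransitive_of_normal hfix
    intro x hx y hy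
    obtain ⟨⟨⟨k, hk⟩, hkK⟩, h3⟩ := ht.exists_smul_eq ⟨x, hx⟩ ⟨y, hy⟩
    exact ⟨k, hkK, congrArg Subtype.val h3⟩

/-- conjugation of stabilizers -/
theorem stab_smul (g : G) (α : Ω) (x : G) : x ∈ stabilizer G (g • α) ↔ g⁻¹ * x * g ∈ stabilizer G α := by
  rw [mem_stabilizer_iff, mem_stabilizer_iff, mul_smul, mul_smul, inv_smul_eq_iff]

/-- In a finite preprimitive faithful action with nontrivial stabilizers, the stabilizer is maximal. -/
theorem stab_coatom (_hprim : IsPreprimitive G Ω) (_hnt : Nontrivial Ω) (α : Ω) :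
    IsCoatom (stabilizer G α) := by
  exact IsPreprimitive.isCoatom_stabilizer_of_isPreprimitive G α

theorem nontrivial_of_stab [FaithfulSMul G Ω] (hprim : IsPreprimitive G Ω) (α : Ω) (h : stabilizer G α ≠ ⊥) :
    Nontrivial Ω := by
  by_contra hcon
  rw [not_nontrivial_iff_subsingleton] at hcon
  apply h
  rw [eq_bot_iff]
  intro g _
  rw [Subgroup.mem_bot]
  exact FaithfulSMul.eq_of_smul_eq_smul (α := Ω) (fun x => Subsingleton.elim _ _)

/-- a normal subgroup with a fixed point is trivial -/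
theorem normal_fix_bot [FaithfulSMul G Ω] [IsPretransitive G Ω] (N : Subgroup G) (hN : N.Normal) (α : Ω)
    (h : ∀ n ∈ N, n • α = α) : N = ⊥ := by
  rw [eq_bot_iff]
  intro n hn
  rw [Subgroup.mem_bot]
  refine FaithfulSMul.eq_of_smul_eq_smul (α := Ω) (fun x => ?_)
  obtain ⟨g, rfl⟩ := exists_smul_eq G α x
  have h1 := h (g⁻¹ * n * g) (by simpa using hN.conj_mem n hn g⁻¹)
  rw [mul_smul, mul_smul, inv_smul_eq_iff] at h1
  rw [h1, one_smul]

/-- Two distinct point stabilizers generate `G`, in the sense that a subgroup containing both is everything. -/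
theorem two_stab_top [Finite Ω] [FaithfulSMul G Ω] (hprim : IsPreprimitive G Ω)
    (hH : ∀ α : Ω, stabilizer G α ≠ ⊥) {α β : Ω} (hne : β ≠ α) (L : Subgroup G)
    (h1 : stabilizer G α ≤ L) (h2 : stabilizer G β ≤ L) : L = ⊤ := by
  have hnt : Nontrivial Ω := ⟨⟨β, α, hne⟩⟩
  have hco := stab_coatom hprim hnt α
  have hcoβ := stab_coatom hprim hnt β
  rcases hco.le_iff.mp h1 with h | h
  · exact h
  · exfalso
    rw [h] at h2
    -- stabilizer G β ≤ stabilizer G α, hence equal
    have heq : stabilizer G α = stabilizer G β := by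
      rcases hcoβ.le_iff.mp h2 with h3 | h3
      · exact absurd h3 hco.1
      · exact h3
    obtain ⟨g, hg⟩ := exists_smul_eq G α β
    -- the normalizer of G_α contains g
    have hgn : g ∈ Subgroup.normalizer (stabilizer G α : Set G) := by
      rw [Subgroup.mem_normalizer_iff]
      intro x
      have h5 : g * x * g⁻¹ ∈ stabilizer G (g • α) ↔ x ∈ stabilizer G α := by
        rw [stab_smul]
        have : g⁻¹ * (g * x * g⁻¹) * g = x := by group
        rw [this]
      rw [hg, ← heq] at h5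
      exact h5.symm
    have hgα : g ∉ stabilizer G α := by
      intro hcon
      rw [mem_stabilizer_iff, hg] at hcon
      exact hne hcon
    have htop : Subgroup.normalizer (stabilizer G α : Set G) = ⊤ := by
      rcases hco.le_iff.mp (Subgroup.le_normalizer : stabilizer G α ≤ _) with h6 | h6
      · exact h6
      · exact absurd (h6 ▸ hgn) hgα
    have hnorm : (stabilizer G α).Normal := Subgroup.normalizer_eq_top_iff.mp htop
    exact hH α (normal_fix_bot _ hnorm α (fun n hn => hn))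

/-- the length of the `G_α`-orbit of `γ` -/
noncomputable def len (G : Type*) [Group G] {Ω : Type*} [MulAction G Ω] (α γ : Ω) : ℕ :=
  (orbit (stabilizer G α) γ).ncard

theorem mem_orb {α γ x : Ω} : x ∈ orbit (stabilizer G α) γ ↔ ∃ g : G, g • α = α ∧ g • γ = x := by
  rw [mem_orbit_iff]
  constructor
  · rintro ⟨⟨g, hg⟩, h⟩; exact ⟨g, hg, h⟩
  · rintro ⟨g, hg, h⟩; exact ⟨⟨g, hg⟩, h⟩

theorem orb_smul (g : G) (α γ : Ω) :
    orbit (stabilizer G (g • α)) (g • γ) = (fun x => g • x) '' orbit (stabilizer G α) γ := by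
  ext x
  rw [mem_orb]
  constructor
  · rintro ⟨h, h1, h2⟩
    refine ⟨(g⁻¹ * h * g) • γ, mem_orb.mpr ⟨g⁻¹ * h * g, ?_, rfl⟩, ?_⟩
    · rw [mul_smul, mul_smul, h1, inv_smul_smul]
    · show g • (g⁻¹ * h * g) • γ = x
      rw [mul_smul, mul_smul, smul_inv_smul, h2]
  · rintro ⟨y, hy, rfl⟩
    obtain ⟨h, h1, h2⟩ := mem_orb.mp hy
    refine ⟨g * h * g⁻¹, ?_, ?_⟩
    · rw [mul_smul, mul_smul, inv_smul_smul, h1]
    · rw [mul_smul, mul_smul, inv_smul_smul, h2]

theorem len_smul (g : G) (α γ : Ω) : len G (g • α) (g • γ) = len G α γ := by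
  unfold len
  rw [orb_smul]
  exact Set.ncard_image_of_injective _ (MulAction.injective g)

theorem card_stab_smul (g : G) (α : Ω) : Nat.card (stabilizer G (g • α)) = Nat.card (stabilizer G α) := by
  refine Nat.card_congr ⟨fun x => ⟨g⁻¹ * x * g, (stab_smul g α x).mp x.2⟩,
    fun x => ⟨g * x * g⁻¹, ?_⟩, ?_, ?_⟩
  · rw [stab_smul]
    have : g⁻¹ * (g * (x : G) * g⁻¹) * g = x := by group
    rw [this]; exact x.2
  · intro x; ext; simp [mul_assoc]
  · intro x; ext; simp [mul_assoc]

theorem len_eq_relIndex (α γ : Ω) : len G α γ = (stabilizer G γ).relIndex (stabilizer G α) := by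
  unfold len
  rw [← index_stabilizer]
  rfl

theorem len_symm [Finite G] [IsPretransitive G Ω] (α γ : Ω) : len G α γ = len G γ α := by
  rw [len_eq_relIndex, len_eq_relIndex]
  obtain ⟨g, rfl⟩ := exists_smul_eq G α γ
  have hc := card_stab_smul g α
  set A := stabilizer G α
  set C := stabilizer G (g • α)
  have c3 : (⊥ : Subgroup G).relIndex (A ⊓ C) * (A ⊓ C).relIndex A = (⊥ : Subgroup G).relIndex A :=
    Subgroup.relIndex_mul_relIndex _ _ _ bot_le inf_le_left
  have c4 : (⊥ : Subgroup G).relIndex (A ⊓ C) * (A ⊓ C).relIndex C = (⊥ : Subgroup G).relIndex C :=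
    Subgroup.relIndex_mul_relIndex _ _ _ bot_le inf_le_right
  rw [Subgroup.inf_relIndex_left, Subgroup.relIndex_bot_left, Subgroup.relIndex_bot_left] at c3
  rw [Subgroup.inf_relIndex_right, Subgroup.relIndex_bot_left, Subgroup.relIndex_bot_left] at c4
  rw [← hc, ← c4] at c3
  exact mul_left_cancel₀ (Nat.card_pos.ne') c3

/-- Step A: comparison of orbits. If `K ⊴ G_α` fixes `β ≠ α` but moves `γ` then `γ^{G_α}` is properly contained in `γ^{G_β}`. -/
theorem len_lt [Finite Ω] [FaithfulSMul G Ω] (hprim : IsPreprimitive G Ω)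
    (hH : ∀ α : Ω, stabilizer G α ≠ ⊥)
    (hep : ∀ (α : Ω) (ω : Ω), IsPreprimitive (stabilizer G α) (orbit (stabilizer G α) ω))
    {α β γ : Ω} (hne : β ≠ α) (K : Subgroup G) (hK : K ≤ stabilizer G α)
    (hKn : stabilizer G α ≤ Subgroup.normalizer (K : Set G)) (hβ : ∀ k ∈ K, k • β = β)
    (hγ : ∃ k ∈ K, k • γ ≠ γ) : len G α γ < len G β γ := by
  have hself : γ ∈ orbit (stabilizer G α) γ := mem_orbit_self γ
  have htr : ∀ x ∈ orbit (stabilizer G α) γ, ∀ y ∈ orbit (stabilizer G α) γ, ∃ k ∈ K, k • x = y := by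
    rcases fix_or_trans α γ (hep α γ) K hK hKn with h | h
    · obtain ⟨k, hk, hk'⟩ := hγ
      exact absurd (h k hk γ hself) hk'
    · exact h
  have hγα : α ∉ orbit (stabilizer G α) γ := by
    intro hcon
    obtain ⟨g, hg1, hg2⟩ := mem_orb.mp hcon
    have : γ = α := by
      have := congrArg (fun x => g⁻¹ • x) hg2
      simp only [inv_smul_smul] at this
      rw [this, inv_smul_eq_iff, hg1]
    obtain ⟨k, hk, hk'⟩ := hγ
    rw [this] at hk'
    exact hk' (hK hk)
  have hsub : orbit (stabilizer G α) γ ⊆ orbit (stabilizer G β) γ := by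
    intro x hx
    obtain ⟨k, hk, hkx⟩ := htr γ hself x hx
    exact mem_orb.mpr ⟨k, hβ k hk, hkx⟩
  unfold len
  refine Set.ncard_lt_ncard ⟨hsub, fun hsup => ?_⟩ (Set.toFinite _)
  have heq : orbit (stabilizer G α) γ = orbit (stabilizer G β) γ := Set.Subset.antisymm hsub hsup
  -- the setwise stabilizer contains both
  have htop := two_stab_top hprim hH hne (stabilizer G (orbit (stabilizer G α) γ)) (by
    intro g hg
    rw [mem_stabilizer_iff]
    ext x
    rw [Set.mem_smul_set_iff_inv_smul_mem, mem_orb, mem_orb]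
    have hg' : g • α = α := hg
    have hg'' : g⁻¹ • α = α := by rw [inv_smul_eq_iff, hg']
    constructor
    · rintro ⟨h, h1, h2⟩
      refine ⟨g * h, by rw [mul_smul, h1, hg'], by rw [mul_smul, h2, smul_inv_smul]⟩
    · rintro ⟨h, h1, h2⟩
      refine ⟨g⁻¹ * h, by rw [mul_smul, h1, hg''], by rw [mul_smul, h2]⟩) (by
    intro g hg
    rw [mem_stabilizer_iff, heq]
    ext x
    rw [Set.mem_smul_set_iff_inv_smul_mem, mem_orb, mem_orb]
    have hg' : g • β = β := hg
    have hg'' : g⁻¹ • β = β := by rw [inv_smul_eq_iff, hg']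
    constructor
    · rintro ⟨h, h1, h2⟩
      refine ⟨g * h, by rw [mul_smul, h1, hg'], by rw [mul_smul, h2, smul_inv_smul]⟩
    · rintro ⟨h, h1, h2⟩
      refine ⟨g⁻¹ * h, by rw [mul_smul, h1, hg''], by rw [mul_smul, h2]⟩)
  obtain ⟨g, hg⟩ := exists_smul_eq G γ α
  have hgm : g ∈ stabilizer G (orbit (stabilizer G α) γ) := by rw [htop]; trivial
  rw [mem_stabilizer_iff] at hgm
  apply hγα
  rw [← hgm]
  exact ⟨γ, hself, hg⟩

/-- Manning's theorem in strong form: in an extremely primitive group with nontrivial point stabilizers, a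
nontrivial subgroup of `G_α` normalised by `G_α` fixes only `α`. -/
theorem manning [Finite G] [Finite Ω] [FaithfulSMul G Ω] (hprim : IsPreprimitive G Ω)
    (hH : ∀ α : Ω, stabilizer G α ≠ ⊥)
    (hep : ∀ (α : Ω) (ω : Ω), IsPreprimitive (stabilizer G α) (orbit (stabilizer G α) ω))
    {α β : Ω} (hne : β ≠ α) (K : Subgroup G) (hK : K ≤ stabilizer G α)
    (hKn : stabilizer G α ≤ Subgroup.normalizer (K : Set G)) (hβ : ∀ k ∈ K, k • β = β) : K = ⊥ := by
  classical
  by_contra hK1
  -- M = maximal length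
  have hfin : (Set.range (fun x : Ω × Ω => len G x.1 x.2)).Finite := Set.finite_range _
  obtain ⟨⟨α₀, γ₀⟩, -, hmax⟩ := Set.exists_max_image (Set.univ : Set (Ω × Ω)) (fun x => len G x.1 x.2)
    (Set.toFinite _) ⟨(α, α), trivial⟩
  set M := len G α₀ γ₀ with hM
  have hmax' : ∀ a c : Ω, len G a c ≤ M := fun a c => hmax (a, c) trivial
  -- Step A
  have stepA : ∀ (a b : Ω) (L : Subgroup G), b ≠ a → L ≤ stabilizer G a →
      stabilizer G a ≤ Subgroup.normalizer (L : Set G) → (∀ k ∈ L, k • b = b) →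
      ∀ c, len G a c = M → ∀ k ∈ L, k • c = c := by
    intro a b L hab hL hLn hLb c hc k hk
    by_contra hcon
    have := len_lt hprim hH hep hab L hL hLn hLb ⟨k, hk, hcon⟩
    rw [hc] at this
    exact absurd (hmax' b c) (not_le.mpr this)
  -- kernels on the points at maximal length
  let KK : Ω → Subgroup G := fun a =>
    { carrier := {g | g • a = a ∧ ∀ c, len G a c = M → g • c = c}
      mul_mem' := by
        rintro x y ⟨h1, h2⟩ ⟨h3, h4⟩
        refine ⟨by rw [mul_smul, h3, h1], fun c hc => by rw [mul_smul, h4 c hc, h2 c hc]⟩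
      one_mem' := ⟨one_smul _ _, fun c _ => one_smul _ _⟩
      inv_mem' := by
        rintro x ⟨h1, h2⟩
        refine ⟨by rw [inv_smul_eq_iff, h1], fun c hc => by rw [inv_smul_eq_iff, h2 c hc]⟩ }
  have hKKmem : ∀ a g, g ∈ KK a ↔ (g • a = a ∧ ∀ c, len G a c = M → g • c = c) := fun a g => Iff.rfl
  have hKKle : ∀ a, KK a ≤ stabilizer G a := fun a g hg => hg.1
  have hKKconj : ∀ (g : G) (a : Ω) (x : G), x ∈ KK (g • a) ↔ g⁻¹ * x * g ∈ KK a := by
    intro g a x
    rw [hKKmem, hKKmem]
    constructor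
    · rintro ⟨h1, h2⟩
      refine ⟨by rw [mul_smul, mul_smul, h1, inv_smul_smul], fun c hc => ?_⟩
      have := h2 (g • c) (by rw [len_smul, hc])
      rw [mul_smul, mul_smul, this, inv_smul_smul]
    · rintro ⟨h1, h2⟩
      refine ⟨?_, fun c hc => ?_⟩
      · rw [mul_smul, mul_smul, inv_smul_eq_iff] at h1; exact h1
      · have h3 : len G a (g⁻¹ • c) = M := by
          rw [← hc, ← len_smul g a (g⁻¹ • c), smul_inv_smul]
        have := h2 (g⁻¹ • c) h3
        rw [mul_smul, mul_smul, smul_inv_smul, inv_smul_eq_iff, smul_inv_smul] at this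
        exact this
  have hKKnorm : ∀ a, stabilizer G a ≤ Subgroup.normalizer (KK a : Set G) := by
    intro a g hg
    rw [Subgroup.mem_normalizer_iff]
    intro x
    have hg' : g • a = a := hg
    have := hKKconj g a (g * x * g⁻¹)
    rw [hg'] at this
    rw [show g⁻¹ * (g * x * g⁻¹) * g = x by group] at this
    exact this.symm
  have hcardKK : ∀ (g : G) (a : Ω), Nat.card (KK (g • a)) = Nat.card (KK a) := by
    intro g a
    refine Nat.card_congr ⟨fun x => ⟨g⁻¹ * x * g, (hKKconj g a x).mp x.2⟩,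
      fun x => ⟨g * x * g⁻¹, ?_⟩, ?_, ?_⟩
    · rw [hKKconj]
      have : g⁻¹ * (g * (x : G) * g⁻¹) * g = x := by group
      rw [this]; exact x.2
    · intro x; ext; simp [mul_assoc]
    · intro x; ext; simp [mul_assoc]
  have hKKα : KK α ≠ ⊥ := by
    intro hbot
    apply hK1
    rw [eq_bot_iff, ← hbot]
    intro k hk
    exact ⟨hK hk, fun c hc => stepA α β K hne hK hKn hβ c hc k hk⟩
  have hKK1 : ∀ a, KK a ≠ ⊥ := by
    intro a hbot
    apply hKKα
    obtain ⟨g, rfl⟩ := exists_smul_eq G a α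
    rw [← Subgroup.card_eq_one] at hbot ⊢
    rw [hcardKK, hbot]
  have hXne : ∀ a : Ω, ∃ c : Ω, len G a c = M := by
    intro a
    obtain ⟨g, rfl⟩ := exists_smul_eq G α₀ a
    exact ⟨g • γ₀, by rw [len_smul]⟩
  -- M ≠ 1-type fact : a point at maximal length differs from a
  have hlen_self : ∀ a : Ω, len G a a = 1 := by
    intro a
    unfold len
    rw [Set.ncard_eq_one]
    refine ⟨a, ?_⟩
    ext x
    rw [mem_orb, Set.mem_singleton_iff]
    constructor
    · rintro ⟨g, h1, h2⟩; rw [← h2, h1]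
    · rintro rfl; exact ⟨1, one_smul _ _, one_smul _ _⟩
  have hXne' : ∀ a c : Ω, len G a c = M → c ≠ a := by
    rintro a c hc rfl
    rw [hlen_self] at hc
    -- all suborbits trivial, so the stabilizer of c is trivial
    apply hH c
    rw [eq_bot_iff]
    intro g hg
    rw [Subgroup.mem_bot]
    refine FaithfulSMul.eq_of_smul_eq_smul (α := Ω) (fun x => ?_)
    have h1 : (orbit (stabilizer G c) x).ncard ≤ 1 := by
      have := hmax' c x
      rw [← hc] at this
      exact this
    rw [Set.ncard_le_one (Set.toFinite _)] at h1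
    rw [one_smul]
    exact h1 _ (mem_orb.mpr ⟨g, hg, rfl⟩) _ (mem_orbit_self x)
  -- Step C
  set P : Set (Ω × Ω) := {x | ∃ k ∈ KK x.1, k • x.2 ≠ x.2} with hP
  have hPne : P.Nonempty := by
    by_contra hcon
    rw [Set.not_nonempty_iff_eq_empty] at hcon
    apply hKKα
    rw [eq_bot_iff]
    intro k hk
    rw [Subgroup.mem_bot]
    refine FaithfulSMul.eq_of_smul_eq_smul (α := Ω) (fun x => ?_)
    rw [one_smul]
    by_contra hkx
    have : (α, x) ∈ P := ⟨k, hk, hkx⟩
    rw [hcon] at this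
    exact this
  obtain ⟨⟨a, γ⟩, hPa, hPmax⟩ := Set.exists_max_image P (fun x => len G x.1 x.2) (Set.toFinite _) hPne
  have hPmax' : ∀ b c : Ω, (∃ k ∈ KK b, k • c ≠ c) → len G b c ≤ len G a γ := fun b c h => hPmax (b, c) h
  have hPa' : ∃ k ∈ KK a, k • γ ≠ γ := hPa
  have stepC : ∀ b, len G a b = M → ∀ k ∈ KK b, k • γ = γ := by
    intro b hb k hk
    by_contra hcon
    have h1 := len_lt hprim hH hep (hXne' a b hb) (KK a) (hKKle a) (hKKnorm a)
      (fun k hk => hk.2 b hb) hPa'
    have h2 := hPmax' b γ ⟨k, hk, hcon⟩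
    omega
  have hγa : γ ≠ a := by
    rintro rfl
    obtain ⟨k, hk, hk'⟩ := hPa'
    exact hk' hk.1
  -- Step D
  set L : Subgroup G := ⨆ b : {b : Ω // len G a b = M}, KK b with hL
  have hLle : L ≤ stabilizer G a := by
    rw [hL, iSup_le_iff]
    rintro ⟨b, hb⟩ k hk
    have : len G b a = M := by rw [← hb]; exact (len_symm a b).symm
    exact hk.2 a this
  have hLγ : L ≤ stabilizer G γ := by
    rw [hL, iSup_le_iff]
    rintro ⟨b, hb⟩ k hk
    exact stepC b hb k hk
  have hconjL : ∀ g ∈ stabilizer G a, ∀ x ∈ L, g * x * g⁻¹ ∈ L := by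
    intro g hg x hx
    have h1 : L ≤ L.comap (MulAut.conj g).toMonoidHom := by
      conv_lhs => rw [hL]
      rw [iSup_le_iff]
      rintro ⟨b, hb⟩ k hk
      rw [Subgroup.mem_comap]
      have h2 : (MulAut.conj g).toMonoidHom k = g * k * g⁻¹ := by simp
      rw [h2]
      have hb' : len G a (g • b) = M := by
        rw [← hb]
        conv_lhs => rw [← (show g • a = a from hg)]
        exact len_smul g a b
      have h3 : g * k * g⁻¹ ∈ KK (g • b) := by
        rw [hKKconj, show g⁻¹ * (g * k * g⁻¹) * g = k by group]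
        exact hk
      exact (le_iSup (fun b : {b : Ω // len G a b = M} => KK b) ⟨g • b, hb'⟩) h3
    have h4 := h1 hx
    rw [Subgroup.mem_comap] at h4
    simpa using h4
  have hLn : stabilizer G a ≤ Subgroup.normalizer (L : Set G) := by
    intro g hg
    rw [Subgroup.mem_normalizer_iff]
    intro x
    constructor
    · exact hconjL g hg x
    · intro h
      have := hconjL g⁻¹ (inv_mem hg) _ h
      simpa [mul_assoc] using this
  obtain ⟨b, hb⟩ := hXne a
  have hLM := stepA a γ L hγa hLle hLn (fun k hk => hLγ hk)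
  have hLKK : L ≤ KK a := fun k hk => ⟨hLle hk, fun c hc => hLM c hc k hk⟩
  have hKKb : KK b ≤ L := le_iSup (fun b : {b : Ω // len G a b = M} => KK b) ⟨b, hb⟩
  have hKKeq : KK b = KK a := by
    apply Subgroup.eq_of_le_of_card_ge (hKKb.trans hLKK)
    obtain ⟨g, rfl⟩ := exists_smul_eq G a b
    rw [hcardKK]
  have htop := two_stab_top hprim hH (hXne' a b hb) (Subgroup.normalizer (KK a : Set G)) (hKKnorm a)
    (by rw [← hKKeq]; exact hKKnorm b)
  have hnorm : (KK a).Normal := Subgroup.normalizer_eq_top_iff.mp htop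
  exact hKK1 a (normal_fix_bot _ hnorm a (fun n hn => hn.1))

/-- the pointwise stabilizer in `G_α` of a `G_α`-invariant set is normalised by `G_α`. -/
theorem faithful_orbit [Finite G] [Finite Ω] [FaithfulSMul G Ω] (hprim : IsPreprimitive G Ω)
    (hH : ∀ α : Ω, stabilizer G α ≠ ⊥)
    (hep : ∀ (α : Ω) (ω : Ω), IsPreprimitive (stabilizer G α) (orbit (stabilizer G α) ω))
    {α ω : Ω} (hω : ω ≠ α) (h : G) (hα : h • α = α)
    (hfix : ∀ x ∈ orbit (stabilizer G α) ω, h • x = x) : h = 1 := by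
  let K : Subgroup G :=
    { carrier := {g | g • α = α ∧ ∀ x ∈ orbit (stabilizer G α) ω, g • x = x}
      mul_mem' := by
        rintro x y ⟨h1, h2⟩ ⟨h3, h4⟩
        refine ⟨by rw [mul_smul, h3, h1], fun c hc => by rw [mul_smul, h4 c hc, h2 c hc]⟩
      one_mem' := ⟨one_smul _ _, fun c _ => one_smul _ _⟩
      inv_mem' := by
        rintro x ⟨h1, h2⟩
        refine ⟨by rw [inv_smul_eq_iff, h1], fun c hc => by rw [inv_smul_eq_iff, h2 c hc]⟩ }
  have hconj : ∀ g ∈ stabilizer G α, ∀ x ∈ K, g * x * g⁻¹ ∈ K := by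
    rintro g hg x ⟨h1, h2⟩
    have hg' : g • α = α := hg
    have hg'' : g⁻¹ • α = α := by rw [inv_smul_eq_iff, hg']
    refine ⟨by rw [mul_smul, mul_smul, hg'', h1, hg'], fun c hc => ?_⟩
    have hc' : g⁻¹ • c ∈ orbit (stabilizer G α) ω := by
      obtain ⟨y, hy1, hy2⟩ := mem_orb.mp hc
      exact mem_orb.mpr ⟨g⁻¹ * y, by rw [mul_smul, hy1, hg''], by rw [mul_smul, hy2]⟩
    rw [mul_smul, mul_smul, h2 _ hc', smul_inv_smul]
  have hKn : stabilizer G α ≤ Subgroup.normalizer (K : Set G) := by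
    intro g hg
    rw [Subgroup.mem_normalizer_iff]
    intro x
    constructor
    · exact hconj g hg x
    · intro h
      have := hconj g⁻¹ (inv_mem hg) _ h
      simpa [mul_assoc] using this
  have hbot := manning hprim hH hep hω K (fun g hg => hg.1) hKn (fun k hk => hk.2 ω (mem_orbit_self ω))
  have : h ∈ K := ⟨hα, hfix⟩
  rw [hbot, Subgroup.mem_bot] at this
  exact this

/-- A nontrivial normal subgroup of `G_α` has the same orbits as `G_α`. -/
theorem same_orbits [Finite G] [Finite Ω] [FaithfulSMul G Ω] (hprim : IsPreprimitive G Ω)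
    (hH : ∀ α : Ω, stabilizer G α ≠ ⊥)
    (hep : ∀ (α : Ω) (ω : Ω), IsPreprimitive (stabilizer G α) (orbit (stabilizer G α) ω))
    {α : Ω} (M : Subgroup G) (hM : M ≠ ⊥) (hMle : M ≤ stabilizer G α)
    (hMn : stabilizer G α ≤ Subgroup.normalizer (M : Set G)) (ω : Ω) (g : G) (hg : g • α = α) :
    ∃ m ∈ M, m • ω = g • ω := by
  by_cases hω : ω = α
  · subst hω
    exact ⟨1, M.one_mem, by rw [one_smul, hg]⟩
  · rcases fix_or_trans α ω (hep α ω) M hMle hMn with h | h
    · exact absurd (manning hprim hH hep hω M hMle hMn (fun k hk => h k hk ω (mem_orbit_self ω))) hM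
    · exact h ω (mem_orbit_self ω) (g • ω) (mem_orb.mpr ⟨g, hg, rfl⟩)

end Cfsg.Agent.Lib.ExtPrim
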