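import Mathlib
import Cfsg.Prelude.Def_Transfer

/-!
Counting in extraspecial `2`-groups by character-like sums (helper48).
`chi x y = 1` if `x, y` commute, `-1` otherwise; `sg x = 1` if `x² = 1`, `-1` otherwise.
-/

set_option autoImplicit false

namespace Cfsg.Agent.Lib.ExtraCount

open scoped commutatorElement Classical

variable {E : Type*} [Group E]

/-- `E` is extraspecial or at least: commutators are central and the centre has order `2`. -/
structure Hyp (E : Type*) [Group E] : Prop where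
  comm_mem : ∀ x y : E, ⁅x, y⁆ ∈ Subgroup.center E
  card_center : Nat.card (Subgroup.center E) = 2

theorem Hyp.of_isExtraspecial (h : Cfsg.IsExtraspecial 2 E) : Hyp E := by
  refine ⟨fun x y => ?_, h.2⟩
  rw [← h.1.2.2]
  exact Subgroup.commutator_mem_commutator (Subgroup.mem_top x) (Subgroup.mem_top y)

theorem Hyp.eq_of_ne_one (h : Hyp E) {u v : E} (hu : u ∈ Subgroup.center E) (hv : v ∈ Subgroup.center E)
    (hu1 : u ≠ 1) (hv1 : v ≠ 1) : u = v := by
  have h2 := h.card_center
  rw [Nat.card_eq_two_iff] at h2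
  obtain ⟨a, b, hab, huniv⟩ := h2
  have key : ∀ w : Subgroup.center E, w = a ∨ w = b := by
    intro w
    have : w ∈ ({a, b} : Set (Subgroup.center E)) := by rw [huniv]; trivial
    simpa using this
  have hu' : (⟨u, hu⟩ : Subgroup.center E) ≠ 1 := fun h => hu1 (congrArg Subtype.val h)
  have hv' : (⟨v, hv⟩ : Subgroup.center E) ≠ 1 := fun h => hv1 (congrArg Subtype.val h)
  have : (⟨u, hu⟩ : Subgroup.center E) = ⟨v, hv⟩ := by
    rcases key 1 with h1 | h1 <;> rcases key ⟨u, hu⟩ with h3 | h3 <;> rcases key ⟨v, hv⟩ with h4 | h4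
    · rw [h3, h4]
    · exact absurd (h3.trans h1.symm) hu'
    · exact absurd (h4.trans h1.symm) hv'
    · rw [h3, h4]
    · rw [h3, h4]
    · exact absurd (h4.trans h1.symm) hv'
    · exact absurd (h3.trans h1.symm) hu'
    · rw [h3, h4]
  exact congrArg Subtype.val this

theorem Hyp.mul_self (h : Hyp E) {u : E} (hu : u ∈ Subgroup.center E) : u * u = 1 := by
  by_cases hu1 : u = 1
  · simp [hu1]
  · have hinv : u⁻¹ = u := h.eq_of_ne_one ((Subgroup.center E).inv_mem hu) hu (by simpa using hu1) hu1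
    calc u * u = u * u⁻¹ := by rw [hinv]
      _ = 1 := mul_inv_cancel u

theorem Hyp.comm_mul_left (h : Hyp E) (x y b : E) : ⁅x * y, b⁆ = ⁅x, b⁆ * ⁅y, b⁆ := by
  rw [commutatorElement_mul_left_eq_conj_mul]
  have h1 := Subgroup.mem_center_iff.1 (h.comm_mem y b)
  rw [h1 x, mul_inv_cancel_right, h1]

/-- `chi x y = 1` if `x, y` commute and `-1` otherwise. -/
noncomputable def chi (x y : E) : ℤ := if x * y = y * x then 1 else -1

/-- `sg x = 1` if `x ^ 2 = 1` and `-1` otherwise. -/
noncomputable def sg (x : E) : ℤ := if x ^ 2 = 1 then 1 else -1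

theorem chi_eq (x y : E) : chi x y = if ⁅x, y⁆ = 1 then 1 else -1 := by
  unfold chi
  simp only [commutatorElement_eq_one_iff_mul_comm]

theorem chi_symm (x y : E) : chi x y = chi y x := by
  unfold chi
  simp only [eq_comm]

theorem Hyp.chi_mul_left (h : Hyp E) (x y b : E) : chi (x * y) b = chi x b * chi y b := by
  rw [chi_eq, chi_eq, chi_eq, h.comm_mul_left]
  by_cases h1 : ⁅x, b⁆ = 1 <;> by_cases h2 : ⁅y, b⁆ = 1
  · simp [h1, h2]
  · simp [h1, h2]
  · simp [h1, h2]
  · have h3 := h.eq_of_ne_one (h.comm_mem x b) (h.comm_mem y b) h1 h2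
    rw [← h3, h.mul_self (h.comm_mem x b)]
    simp [h1]

theorem Hyp.sq_mem (h : Hyp E) (x : E) : x ^ 2 ∈ Subgroup.center E := by
  rw [Subgroup.mem_center_iff]
  intro y
  have h1 : ⁅x ^ 2, y⁆ = 1 := by
    rw [pow_two, h.comm_mul_left, h.mul_self (h.comm_mem x y)]
  exact (commutatorElement_eq_one_iff_mul_comm.1 h1).symm

theorem Hyp.sg_mul (h : Hyp E) (x y : E) : sg (x * y) = sg x * sg y * chi x y := by
  have e : (x * y) ^ 2 = x ^ 2 * y ^ 2 * ⁅x, y⁆⁻¹ := by
    have h1 := Subgroup.mem_center_iff.1 (h.comm_mem x y)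
    have h2 : x * y = ⁅x, y⁆ * (y * x) := by rw [commutatorElement_def]; group
    have h3 : y * x = ⁅x, y⁆⁻¹ * (x * y) := by rw [commutatorElement_def]; group
    have h4 : ∀ g, g * ⁅x, y⁆⁻¹ = ⁅x, y⁆⁻¹ * g :=
      Subgroup.mem_center_iff.1 ((Subgroup.center E).inv_mem (h.comm_mem x y))
    calc (x * y) ^ 2 = x * (y * x) * y := by rw [pow_two]; group
      _ = x * (⁅x, y⁆⁻¹ * (x * y)) * y := by rw [← h3]
      _ = (x * ⁅x, y⁆⁻¹) * (x * y * y) := by group
      _ = (⁅x, y⁆⁻¹ * x) * (x * y * y) := by rw [h4]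
      _ = ⁅x, y⁆⁻¹ * (x ^ 2 * y ^ 2) := by rw [pow_two, pow_two]; group
      _ = x ^ 2 * y ^ 2 * ⁅x, y⁆⁻¹ := by rw [← h4]
  unfold sg
  rw [e, chi_eq]
  have hcm := h.comm_mem x y
  clear e
  generalize ⁅x, y⁆ = c at *
  have hxm := h.sq_mem x
  have hym := h.sq_mem y
  generalize x ^ 2 = u at *
  generalize y ^ 2 = v at *
  by_cases hx : u = 1 <;> by_cases hy : v = 1 <;> by_cases hc : c = 1
  · simp [hx, hy, hc]
  · simp [hx, hy, hc]
  · simp [hx, hy, hc]
  · have h3 := h.eq_of_ne_one hcm hym hc hy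
    simp [hx, hc, ← h3]
  · simp [hx, hy, hc]
  · have h3 := h.eq_of_ne_one hcm hxm hc hx
    simp [hy, hc, ← h3]
  · have h3 := h.eq_of_ne_one hxm hym hx hy
    simp [hx, hc, ← h3, h.mul_self hxm]
  · have h3 := h.eq_of_ne_one hxm hym hx hy
    rw [← h3, h.mul_self hxm]
    simp [hx, hc]

theorem Hyp.sum_chi (h : Hyp E) [Fintype E] (H : Subgroup E) (y : E) :
    ∑ x : H, chi (x : E) y = if (∀ x ∈ H, x * y = y * x) then (Nat.card H : ℤ) else 0 := by
  by_cases hc : ∀ x ∈ H, x * y = y * x
  · rw [if_pos hc]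
    have : ∀ x : H, chi (x : E) y = 1 := fun x => by unfold chi; rw [if_pos (hc x x.2)]
    simp [this]
  · rw [if_neg hc]
    push Not at hc
    obtain ⟨t, ht, hty⟩ := hc
    have h1 : chi t y = -1 := by unfold chi; rw [if_neg hty]
    have h2 : ∑ x : H, chi (x : E) y = ∑ x : H, chi (((⟨t, ht⟩ : H) * x : H) : E) y :=
      (Fintype.sum_equiv (Equiv.mulLeft (⟨t, ht⟩ : H)) _ _ (fun x => rfl)).symm
    have h3 : ∀ x : H, chi (((⟨t, ht⟩ : H) * x : H) : E) y = - chi (x : E) y := by
      intro x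
      rw [Subgroup.coe_mul, h.chi_mul_left, h1]; ring
    simp only [h3, Finset.sum_neg_distrib] at h2
    omega

/-- `|C_E(B)| |B| = |E| |B ∩ Z(E)|`. -/
theorem Hyp.card_centralizer_mul (h : Hyp E) [Finite E] (B : Subgroup E) :
    Nat.card (Subgroup.centralizer (B : Set E)) * Nat.card B =
      Nat.card E * Nat.card (B ⊓ Subgroup.center E : Subgroup E) := by
  have := Fintype.ofFinite E
  have h1 : ∑ x : E, ∑ b : B, chi (b : E) x =
      (Nat.card (Subgroup.centralizer (B : Set E)) : ℤ) * Nat.card B := by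
    simp only [h.sum_chi]
    rw [← Finset.sum_filter, Finset.sum_const, nsmul_eq_mul]
    congr 2
    rw [Nat.card_eq_fintype_card, Fintype.card_subtype]
    congr 1
    ext x
    simp only [Finset.mem_filter, Finset.mem_univ, true_and, Subgroup.mem_centralizer_iff]
    exact Iff.rfl
  have h2 : ∑ x : E, ∑ b : B, chi (b : E) x =
      (Nat.card E : ℤ) * Nat.card (B ⊓ Subgroup.center E : Subgroup E) := by
    rw [Finset.sum_comm]
    have h3 : ∀ b : B, ∑ x : E, chi (b : E) x = if (b : E) ∈ Subgroup.center E then (Nat.card E : ℤ) else 0 := by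
      intro b
      have h4 := h.sum_chi (⊤ : Subgroup E) (b : E)
      have h5 : ∑ x : (⊤ : Subgroup E), chi (x : E) (b : E) = ∑ x : E, chi (b : E) x := by
        rw [← Equiv.sum_comp (Subgroup.topEquiv (G := E)).toEquiv]
        exact Finset.sum_congr rfl fun x _ => chi_symm _ _
      rw [← h5, h4]
      have h6 : (∀ x ∈ (⊤ : Subgroup E), x * (b : E) = b * x) ↔ (b : E) ∈ Subgroup.center E := by
        rw [Subgroup.mem_center_iff]; simp
      simp only [h6, Subgroup.card_top]
    simp only [h3]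
    rw [← Finset.sum_filter, Finset.sum_const, nsmul_eq_mul, mul_comm]
    congr 2
    rw [Nat.card_eq_fintype_card, Fintype.card_subtype]
    rw [← Finset.card_map (Function.Embedding.subtype (· ∈ B))]
    congr 1
    ext x
    simp only [Finset.mem_map, Finset.mem_filter, Finset.mem_univ, true_and, Subgroup.mem_inf,
      Function.Embedding.coe_subtype]
    constructor
    · rintro ⟨b, hb, rfl⟩; exact ⟨b.2, hb⟩
    · rintro ⟨hx, hx2⟩; exact ⟨⟨x, hx⟩, hx2, rfl⟩
  have := h1.symm.trans h2
  exact_mod_cast this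

/-- The sum of `sg` is the order of a self-centralizing elementary abelian subgroup. -/
theorem Hyp.sum_sg (h : Hyp E) [Fintype E] (A : Subgroup E) (hA : ∀ a ∈ A, a ^ 2 = 1)
    (hC : Subgroup.centralizer (A : Set E) = A) : ∑ x : E, sg x = (Nat.card A : ℤ) := by
  have h1 : ∑ x : E, ∑ a : A, sg (x * a) = (Nat.card A : ℤ) * ∑ x : E, sg x := by
    rw [Finset.sum_comm]
    have : ∀ a : A, ∑ x : E, sg (x * (a : E)) = ∑ x : E, sg x := fun a =>
      Equiv.sum_comp (Equiv.mulRight (a : E)) sg
    simp [this]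
  have h2 : ∑ x : E, ∑ a : A, sg (x * a) = (Nat.card A : ℤ) * Nat.card A := by
    have h3 : ∀ x : E, ∑ a : A, sg (x * a) = if x ∈ A then (Nat.card A : ℤ) else 0 := by
      intro x
      have h4 : ∀ a : A, sg (x * (a : E)) = sg x * chi (a : E) x := by
        intro a
        rw [h.sg_mul, chi_symm]
        have : sg (a : E) = 1 := by unfold sg; rw [if_pos (hA a a.2)]
        rw [this, mul_one]
      simp only [h4]
      rw [← Finset.mul_sum, h.sum_chi]
      have h5 : (∀ a ∈ A, a * x = x * a) ↔ x ∈ A := by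
        conv_rhs => rw [← hC, Subgroup.mem_centralizer_iff]
        exact Iff.rfl
      simp only [h5]
      by_cases hx : x ∈ A
      · simp only [if_pos hx]
        unfold sg; rw [if_pos (hA x hx), one_mul]
      · simp only [if_neg hx, mul_zero]
    simp only [h3]
    rw [← Finset.sum_filter, Finset.sum_const, nsmul_eq_mul]
    congr 2
    rw [Nat.card_eq_fintype_card, Fintype.card_subtype]
  have h3 := h1.symm.trans h2
  have h4 : (Nat.card A : ℤ) ≠ 0 := by exact_mod_cast (Nat.card_pos (α := A)).ne'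
  exact mul_left_cancel₀ h4 h3

/-- `2 #{x : x² ≠ 1} = |E| - |A|`. -/
theorem Hyp.card_order_four (h : Hyp E) [Finite E] (A : Subgroup E) (hA : ∀ a ∈ A, a ^ 2 = 1)
    (hC : Subgroup.centralizer (A : Set E) = A) :
    2 * Nat.card {x : E // orderOf x = 4} + Nat.card A = Nat.card E := by
  have := Fintype.ofFinite E
  have h1 := h.sum_sg A hA hC
  have h2 : ∀ x : E, sg x = 1 - 2 * (if orderOf x = 4 then (1 : ℤ) else 0) := by
    intro x
    unfold sg
    by_cases hx : x ^ 2 = 1
    · rw [if_pos hx, if_neg]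
      · simp
      · intro h4
        have := orderOf_dvd_of_pow_eq_one hx
        rw [h4] at this
        norm_num at this
    · rw [if_neg hx, if_pos]
      · norm_num
      · have h5 : x ^ 2 ^ 2 = 1 := by
          have := h.mul_self (h.sq_mem x)
          rw [← this]; group
        have := orderOf_eq_prime_pow (x := x) (p := 2) (n := 1) (by simpa using hx) (by simpa using h5)
        simpa using this
  simp only [h2, Finset.sum_sub_distrib, ← Finset.mul_sum, Finset.sum_const, Finset.sum_boole,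
    Finset.card_univ, nsmul_eq_mul, mul_one] at h1
  have h3 : Nat.card {x : E // orderOf x = 4} = (Finset.univ.filter fun x : E => orderOf x = 4).card := by
    rw [Nat.card_eq_fintype_card, Fintype.card_subtype]
  rw [h3, Nat.card_eq_fintype_card (α := E)]
  have h4 : ((Finset.univ.filter fun x : E => orderOf x = 4).card : ℤ) * 2 + Nat.card A = Fintype.card E := by
    linarith
  omega

end Cfsg.Agent.Lib.ExtraCount
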