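import Cfsg.Agent.Lib.E6Pair
set_option autoImplicit false
set_option linter.unusedSectionVars false
set_option linter.unusedVariables false
set_option linter.style.haveILetI false

/-!
Packed matrices over the field with four elements.
-/

namespace Cfsg.Agent.Lib.F4Mat
open Cfsg.Lie Cfsg.Agent.Lib.E6Pair
open scoped MatrixGroups Matrix

/-- packed vectors over the field with four elements -/
abbrev RV := ℕ × ℕ

def xr (a b : RV) : RV := (a.1 ^^^ b.1, a.2 ^^^ b.2)

def mw (a : RV) : RV := (a.2, a.1 ^^^ a.2)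

def comb : ℕ → List RV → RV
  | _, [] => (0, 0)
  | m, r :: B => bif Nat.beq (m % 2) 1 then xr r (comb (m / 2) B) else comb (m / 2) B

def mulL (A B : List RV) : List RV := A.map fun r => xr (comb r.1 B) (mw (comb r.2 B))

def addL (A B : List RV) : List RV := List.zipWith xr A B

def idL : List RV := (List.range 27).map fun n => (2 ^ n, 0)

def powL (A : List RV) : ℕ → List RV
  | 0 => idL
  | n + 1 => mulL (powL A n) A

/-- scalar matrices -/
def scL (c : RV) : List RV := (List.range 27).map fun n => (c.1 * 2 ^ n, c.2 * 2 ^ n)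

/-- equality test -/
def eqL : List RV → List RV → Bool
  | [], [] => true
  | a :: A, b :: B => Nat.beq a.1 b.1 && (Nat.beq a.2 b.2 && eqL A B)
  | _, _ => false

theorem eqL_sound : ∀ {A B : List RV}, eqL A B = true → A = B
  | [], [], _ => rfl
  | [], _ :: _, h => by simp [eqL] at h
  | _ :: _, [], h => by simp [eqL] at h
  | a :: A, b :: B, h => by
    simp only [eqL, Bool.and_eq_true] at h
    have h1 := Nat.eq_of_beq_eq_true h.1
    have h2 := Nat.eq_of_beq_eq_true h.2.1
    rw [eqL_sound h.2.2, Prod.ext h1 h2]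

section sem
variable {K : Type*} [Field K]

/-- bits as field elements -/
def bt (n j : ℕ) : K := if n.testBit j then 1 else 0

/-- entry of a packed vector -/
def sv (ω : K) (r : RV) (j : ℕ) : K := bt r.1 j + ω * bt r.2 j

theorem bt_zero (j : ℕ) : bt (K := K) 0 j = 0 := by simp [bt]

theorem sv_zero (ω : K) (j : ℕ) : sv ω (0, 0) j = 0 := by simp [sv, bt_zero]

variable [CharP K 2]

theorem bt_xor (a b j : ℕ) : bt (K := K) (a ^^^ b) j = bt a j + bt b j := by
  unfold bt
  rw [Nat.testBit_xor]
  have h2 : (2 : K) = 0 := CharTwo.two_eq_zero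
  cases a.testBit j <;> cases b.testBit j <;> simp
  linear_combination -h2

theorem sv_xr (ω : K) (a b : RV) (j : ℕ) : sv ω (xr a b) j = sv ω a j + sv ω b j := by
  unfold sv xr
  rw [bt_xor, bt_xor]
  ring

variable {ω : K} (hω : ω ^ 2 = ω + 1)
include hω

theorem sv_mw (a : RV) (j : ℕ) : sv ω (mw a) j = ω * sv ω a j := by
  unfold sv mw
  rw [bt_xor]
  linear_combination (-(bt a.2 j : K)) * hω

omit hω in
theorem sv_comb (B : List RV) : ∀ (m j : ℕ), sv ω (comb m B) j =
    ∑ k ∈ Finset.range B.length, bt m k * sv ω (B.getD k (0, 0)) j := by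
  induction B with
  | nil => intro m j; simp [comb, sv_zero]
  | cons r B ih =>
    intro m j
    rw [List.length_cons, Finset.sum_range_succ']
    have h1 : ∑ k ∈ Finset.range B.length, bt m (k + 1) * sv ω ((r :: B).getD (k + 1) (0, 0)) j =
        sv ω (comb (m / 2) B) j := by
      rw [ih]
      apply Finset.sum_congr rfl
      intro k _
      have : bt (K := K) m (k + 1) = bt (m / 2) k := by
        unfold bt
        rw [Nat.testBit_succ]
      rw [this]
      rfl
    rw [h1]
    have h0 : (r :: B).getD 0 (0, 0) = r := rfl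
    rw [h0]
    by_cases hm : m % 2 = 1
    · have e1 : comb m (r :: B) = xr r (comb (m / 2) B) := by
        show (bif Nat.beq (m % 2) 1 then _ else _) = _
        rw [hm]; rfl
      have e2 : bt (K := K) m 0 = 1 := by
        unfold bt
        rw [Nat.testBit_zero, decide_eq_true hm]
        rfl
      rw [e1, e2, sv_xr]
      ring
    · have hm0 : m % 2 = 0 := by omega
      have e1 : comb m (r :: B) = comb (m / 2) B := by
        show (bif Nat.beq (m % 2) 1 then _ else _) = _
        rw [hm0]; rfl
      have e2 : bt (K := K) m 0 = 0 := by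
        unfold bt
        rw [Nat.testBit_zero, decide_eq_false hm]
        rfl
      rw [e1, e2]
      ring

omit hω [CharP K 2] in
/-- entries of a packed matrix -/
def gt (ω : K) (L : List RV) (i j : ℕ) : K := sv ω (L.getD i (0, 0)) j

omit hω [CharP K 2] in
theorem gt_ge (ω : K) {L : List RV} {i : ℕ} (hi : L.length ≤ i) (j : ℕ) : gt ω L i j = 0 := by
  unfold gt
  rw [List.getD_eq_default _ _ hi, sv_zero]

theorem gt_mulL (A B : List RV) (i j : ℕ) : gt ω (mulL A B) i j =
    ∑ k ∈ Finset.range B.length, gt ω A i k * gt ω B k j := by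
  by_cases hi : i < A.length
  · have h1 : (mulL A B).getD i (0, 0) = xr (comb (A.getD i (0, 0)).1 B) (mw (comb (A.getD i (0, 0)).2 B)) := by
      unfold mulL
      rw [List.getD_eq_getElem _ _ (by rw [List.length_map]; exact hi), List.getElem_map, List.getD_eq_getElem _ _ hi]
    unfold gt
    rw [h1, sv_xr, sv_mw hω, sv_comb, sv_comb, Finset.mul_sum, ← Finset.sum_add_distrib]
    apply Finset.sum_congr rfl
    intro k _
    unfold sv
    ring
  · rw [gt_ge ω (by unfold mulL; rw [List.length_map]; omega)]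
    symm
    apply Finset.sum_eq_zero
    intro k _
    rw [gt_ge ω (by omega), zero_mul]

omit hω in
theorem gt_addL {A B : List RV} (h : A.length = B.length) (i j : ℕ) : gt ω (addL A B) i j = gt ω A i j + gt ω B i j := by
  by_cases hi : i < A.length
  · have h1 : (addL A B).getD i (0, 0) = xr (A.getD i (0, 0)) (B.getD i (0, 0)) := by
      unfold addL
      rw [List.getD_eq_getElem _ _ (by rw [List.length_zipWith]; omega), List.getElem_zipWith,
        List.getD_eq_getElem _ _ hi, List.getD_eq_getElem _ _ (by omega)]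
    unfold gt
    rw [h1, sv_xr]
  · rw [gt_ge ω (by unfold addL; rw [List.length_zipWith]; omega), gt_ge ω (by omega), gt_ge ω (by omega), add_zero]

/-- the matrix of a packed matrix -/
def mt (ω : K) (L : List RV) : Matrix I27 I27 K := Matrix.of fun i j => gt ω L (E6Rep.cod i) (E6Rep.cod j)

omit hω [CharP K 2] in
/-- sums over the coordinates -/
theorem sum_I27 (f : ℕ → K) : ∑ x : I27, f (E6Rep.cod x) = ∑ k ∈ Finset.range 27, f k := by
  rw [← Fin.sum_univ_eq_sum_range]
  let e : I27 ≃ Fin 27 :=
    { toFun := fun i => ⟨E6Rep.cod i, E6Rep.cod_lt i⟩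
      invFun := fun n => E6Rep.dec n
      left_inv := fun i => E6Rep.dec_cod i
      right_inv := fun n => Fin.ext (E6Rep.cod_dec n n.2) }
  exact Fintype.sum_equiv e _ _ (fun x => rfl)

theorem mt_mulL {A B : List RV} (hB : B.length = 27) : mt ω (mulL A B) = mt ω A * mt ω B := by
  ext i j
  rw [Matrix.mul_apply]
  show gt ω (mulL A B) (E6Rep.cod i) (E6Rep.cod j) = ∑ x, gt ω A (E6Rep.cod i) (E6Rep.cod x) * gt ω B (E6Rep.cod x) (E6Rep.cod j)
  rw [gt_mulL hω, hB, sum_I27 fun k => gt ω A (E6Rep.cod i) k * gt ω B k (E6Rep.cod j)]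

omit hω in
theorem mt_addL {A B : List RV} (h : A.length = B.length) : mt ω (addL A B) = mt ω A + mt ω B := by
  ext i j
  show gt ω (addL A B) _ _ = gt ω A _ _ + gt ω B _ _
  exact gt_addL h _ _

omit hω [CharP K 2] in
theorem cod_inj {i j : I27} (h : E6Rep.cod i = E6Rep.cod j) : i = j := by
  rw [← E6Rep.dec_cod i, ← E6Rep.dec_cod j, h]

omit hω [CharP K 2] in
theorem bt_two_pow (i j : ℕ) : bt (K := K) (2 ^ i) j = if i = j then 1 else 0 := by
  unfold bt
  rw [Nat.testBit_two_pow]
  by_cases h : i = j
  · simp [h]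
  · simp [h]

omit hω [CharP K 2] in
/-- the scalar of a code -/
def cv (ω : K) (c : RV) : K := (c.1 : K) + ω * (c.2 : K)

omit hω [CharP K 2] in
theorem bt_mul {c : ℕ} (hc : c < 2) (n j : ℕ) : bt (K := K) (c * n) j = (c : K) * bt n j := by
  interval_cases c
  · simp [bt_zero]
  · simp

omit hω [CharP K 2] in
theorem mt_scL {c : RV} (h1 : c.1 < 2) (h2 : c.2 < 2) : mt ω (scL c) = cv ω c • (1 : Matrix I27 I27 K) := by
  ext i j
  show gt ω (scL c) (E6Rep.cod i) (E6Rep.cod j) = _
  have hi := E6Rep.cod_lt i
  have e : (scL c).getD (E6Rep.cod i) (0, 0) = (c.1 * 2 ^ (E6Rep.cod i), c.2 * 2 ^ (E6Rep.cod i)) := by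
    unfold scL
    rw [List.getD_eq_getElem _ _ (by rw [List.length_map, List.length_range]; exact hi), List.getElem_map,
      List.getElem_range]
  unfold gt
  rw [e, Matrix.smul_apply, smul_eq_mul, Matrix.one_apply]
  unfold sv cv
  rw [bt_mul h1, bt_mul h2, bt_two_pow]
  by_cases h : i = j
  · subst h; simp
  · rw [if_neg h, if_neg (fun hh => h (cod_inj hh))]
    ring

omit hω [CharP K 2] in
theorem idL_eq : idL = scL (1, 0) := by
  unfold idL scL
  apply List.map_congr_left
  intro n _
  simp

omit hω [CharP K 2] in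
theorem mt_idL : mt ω idL = 1 := by
  rw [idL_eq, mt_scL (by norm_num) (by norm_num)]
  simp [cv]

omit hω [CharP K 2] in
theorem length_idL : idL.length = 27 := by decide

theorem mt_powL {A : List RV} (hA : A.length = 27) (n : ℕ) : mt ω (powL A n) = mt ω A ^ n := by
  induction n with
  | zero => rw [powL, mt_idL, pow_zero]
  | succ n ih => rw [powL, mt_mulL hω hA, ih, pow_succ]

end sem

end Cfsg.Agent.Lib.F4Mat
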