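import Cfsg.Agent.Lib.PackMat
import Cfsg.Agent.Lib.K4

/-!
Packed 9 × 9 matrices over the field with four elements (lanes of 15 bits; an entry `a + b ω` is coded `a + 32 b`).

* `cdm A` the code, `mu (cdm A) (cdm B) = cdm (A * B)` (`mu_cdm`), `cdm_inj`
* `ok c`, `dc c`, `cdm_dc` : decoding of table entries
-/

set_option autoImplicit false

namespace Cfsg.Agent.Lib.F4Pack

open Finset Cfsg.Agent.Lib.PackLane Cfsg.Agent.Lib.K4
open Cfsg.Agent.Lib.PackMat (forceN forceN_eq flat_two)

/-- columns mask -/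
def CM : ℕ := 424455336583721410019597761660080857605950400557193285004361295925803211502298990447307580627633718067410811543428026592438669876262379270617333661968638539409406747899043638247357557417769044947979142015565225676566709910771898927269209180368414452887499349177947525679533255663562252736413782754946032354836922156038438151815167
/-- row mask -/
def RM : ℕ := 43556142965880123323311949751266331066367
/-- bit 0 of every lane -/
def M0 : ℕ := 17219004938714202589581952340594279596116427321966083906227445417640292702127430660616375417833514237075344165619047129998362709355921517028318890122295437786486483649990035986963383613060981057166268281102439779398441584974813286900532848816355848538120746542662733012314807921520540752768455630132376035445740305895254982734229903592513510185125703697911808001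
/-- bits 0 and 5 of every lane -/
def MM : ℕ := 568227162977568685456204427239611226671842101624880768905505698782129659170205211800340388788505969823486357465428555289945969408745410061934523374035749446954053960449671187569791659231012374886486853276380512720148572304168838467717584010939743001757984635907870189406388661410177844841359035794368409169709430094543414430229586818552945836109148222031089664033

/-- reduction of all lanes -/
def red (x : ℕ) : ℕ :=
  forceN (Nat.land (Nat.shiftRight x 10) M0) fun z =>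
    Nat.lor (Nat.xor (Nat.land x M0) z) (Nat.shiftLeft (Nat.xor (Nat.land (Nat.shiftRight x 5) M0) z) 5)

/-- product of packed matrices -/
def mu (a b : ℕ) : ℕ := forceN a fun a => forceN b fun b => forceN
  (Nat.add (Nat.mul (Nat.land (Nat.shiftRight a 120) CM) (Nat.land (Nat.shiftRight b 1080) RM)) (Nat.add (Nat.mul (Nat.land (Nat.shiftRight a 105) CM) (Nat.land (Nat.shiftRight b 945) RM)) (Nat.add (Nat.mul (Nat.land (Nat.shiftRight a 90) CM) (Nat.land (Nat.shiftRight b 810) RM)) (Nat.add (Nat.mul (Nat.land (Nat.shiftRight a 75) CM) (Nat.land (Nat.shiftRight b 675) RM)) (Nat.add (Nat.mul (Nat.land (Nat.shiftRight a 60) CM) (Nat.land (Nat.shiftRight b 540) RM)) (Nat.add (Nat.mul (Nat.land (Nat.shiftRight a 45) CM) (Nat.land (Nat.shiftRight b 405) RM)) (Nat.add (Nat.mul (Nat.land (Nat.shiftRight a 30) CM) (Nat.land (Nat.shiftRight b 270) RM)) (Nat.add (Nat.mul (Nat.land (Nat.shiftRight a 15) CM) (Nat.land (Nat.shiftRight b 135) RM)) (Nat.mul (Nat.land a CM) (Nat.land b RM))))))))))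 red

/-- canonical codes -/
def ok (c : ℕ) : Bool := Nat.beq (Nat.land c MM) c

theorem CM_eq : CM = P (fun _ => 2 ^ 15 - 1) 135 9 := by decide +kernel
theorem RM_eq : RM = 2 ^ 135 - 1 := by decide +kernel
theorem M0_eq : M0 = P (fun _ => 1) 15 81 := by decide +kernel
theorem MM_eq : MM = P (fun _ => 33) 15 81 := by decide +kernel

/-- the sum of outer products -/
theorem outer_sum (f g : ℕ → ℕ → ℕ) (hf : ∀ i j, f i j < 2 ^ 15) (hg : ∀ i j, g i j < 2 ^ 15) (k : ℕ) (hk : k < 9) :
    Nat.mul (Nat.land (Nat.shiftRight (P (fun l => f (l / 9) (l % 9)) 15 81) (15 * k)) CM)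
      (Nat.land (Nat.shiftRight (P (fun l => g (l / 9) (l % 9)) 15 81) (135 * k)) RM) =
      P (fun l => f (l / 9) k * g k (l % 9)) 15 81 := by
  have ef : P (fun l => f (l / 9) (l % 9)) 15 81 = P (fun i => P (fun j => f i j) 15 9) 135 9 := (flat_two 15 f).symm
  have eg : P (fun l => g (l / 9) (l % 9)) 15 81 = P (fun i => P (fun j => g i j) 15 9) 135 9 := (flat_two 15 g).symm
  have hrow : Nat.land (Nat.shiftRight (P (fun l => g (l / 9) (l % 9)) 15 81) (135 * k)) RM = P (fun j => g k j) 15 9 := by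
    rw [eg, RM_eq]
    exact extract (by norm_num) (fun i _ => P_lt (w := 15) (n := 9) (fun j _ => hg i j)) hk
  have hcol : Nat.land (Nat.shiftRight (P (fun l => f (l / 9) (l % 9)) 15 81) (15 * k)) CM = P (fun i => f i k) 135 9 := by
    rw [ef, CM_eq]
    refine (lane_shift_and (by norm_num) (fun i _ => P_lt (w := 15) (n := 9) (fun j _ => hf i j)) (by omega) ?_).trans ?_
    · have h2 : (2 : ℕ) ^ 15 ≤ 2 ^ (15 * 9 - 15 * k) := Nat.pow_le_pow_right (by norm_num) (by omega)
      have := Nat.two_pow_pos 15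
      omega
    · apply P_congr
      intro i _
      exact extract (by norm_num) (fun j _ => hf i j) hk
  rw [hrow, hcol]
  refine (P_mul_P (fun i => f i k) (fun j => g k j) 135 15 9 9).trans ?_
  exact flat_two 15 (fun i j => f i k * g k j)

theorem mu_eq (f g : ℕ → ℕ → ℕ) (hf : ∀ i j, f i j < 2 ^ 15) (hg : ∀ i j, g i j < 2 ^ 15) :
    mu (P (fun l => f (l / 9) (l % 9)) 15 81) (P (fun l => g (l / 9) (l % 9)) 15 81) =
      red (P (fun l => ∑ k ∈ range 9, f (l / 9) k * g k (l % 9)) 15 81) := by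
  unfold mu
  rw [forceN_eq, forceN_eq, forceN_eq]
  refine congrArg red ?_
  have h := outer_sum f g hf hg
  have e : ∑ k ∈ range 9, P (fun l => f (l / 9) k * g k (l % 9)) 15 81 =
      P (fun l => ∑ k ∈ range 9, f (l / 9) k * g k (l % 9)) 15 81 := P_sum _ _ _
  rw [← e]
  simp only [sum_range_succ, sum_range_zero]
  rw [← h 0 (by norm_num), ← h 1 (by norm_num), ← h 2 (by norm_num), ← h 3 (by norm_num), ← h 4 (by norm_num),
    ← h 5 (by norm_num), ← h 6 (by norm_num), ← h 7 (by norm_num), ← h 8 (by norm_num)]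
  generalize P (fun l => f (l / 9) (l % 9)) 15 81 = a
  generalize P (fun l => g (l / 9) (l % 9)) 15 81 = b
  simp only [Nat.mul_one, Nat.reduceMul, Nat.mul_zero]
  have z1 : Nat.shiftRight a 0 = a := rfl
  have z2 : Nat.shiftRight b 0 = b := rfl
  rw [z1, z2]
  simp only [Nat.add_eq]
  omega

theorem P_bit (op : ℕ → ℕ → ℕ) (bop : Bool → Bool → Bool) (hop : ∀ a b i, (op a b).testBit i = bop (a.testBit i) (b.testBit i))
    (h00 : bop false false = false) {f g : ℕ → ℕ} {w n : ℕ} (hw : 0 < w)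
    (hf : ∀ i < n, f i < 2 ^ w) (hg : ∀ i < n, g i < 2 ^ w) (hfg : ∀ i < n, op (f i) (g i) < 2 ^ w) :
    op (P f w n) (P g w n) = P (fun i => op (f i) (g i)) w n := by
  apply testBit_div_mod hw
  intro q t ht
  rw [hop, testBit_P hf q t ht, testBit_P hg q t ht, testBit_P hfg q t ht, hop]
  cases decide (q < n)
  · simp [h00]
  · simp

/-- reduction of one lane -/
def rl (x : ℕ) : ℕ := Nat.lor (Nat.xor (Nat.land x 1) (Nat.land (Nat.shiftRight x 10) 1))
  (Nat.shiftLeft (Nat.xor (Nat.land (Nat.shiftRight x 5) 1) (Nat.land (Nat.shiftRight x 10) 1)) 5)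

theorem and_one_lt (x : ℕ) : Nat.land x 1 < 2 := by
  have : Nat.land x 1 = x % 2 := Nat.and_one_is_mod x
  omega

theorem xor_lt_two {a b : ℕ} (ha : a < 2) (hb : b < 2) : Nat.xor a b < 2 := by
  interval_cases a <;> interval_cases b <;> decide

theorem red_P (f : ℕ → ℕ) (hf : ∀ i < 81, f i < 2 ^ 15) : red (P f 15 81) = P (fun l => rl (f l)) 15 81 := by
  unfold red
  rw [forceN_eq]
  have e0 : Nat.land (P f 15 81) M0 = P (fun l => Nat.land (f l) 1) 15 81 := by
    have h0 := lane_shift_and (w := 15) (n := 81) (s := 0) (m := 1) (by norm_num) hf (by norm_num) (by norm_num)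
    simp only [Nat.shiftRight_zero] at h0
    rw [M0_eq]
    exact h0
  have e5 : Nat.land (Nat.shiftRight (P f 15 81) 5) M0 = P (fun l => Nat.land (Nat.shiftRight (f l) 5) 1) 15 81 := by
    rw [M0_eq]
    exact lane_shift_and (s := 5) (m := 1) (by norm_num) hf (by norm_num) (by norm_num)
  have e10 : Nat.land (Nat.shiftRight (P f 15 81) 10) M0 = P (fun l => Nat.land (Nat.shiftRight (f l) 10) 1) 15 81 := by
    rw [M0_eq]
    exact lane_shift_and (s := 10) (m := 1) (by norm_num) hf (by norm_num) (by norm_num)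
  have hlt : ∀ x : ℕ, Nat.land x 1 < 2 ^ 15 := fun x => lt_trans (and_one_lt x) (by norm_num)
  have hxlt : ∀ x y : ℕ, Nat.xor (Nat.land x 1) (Nat.land y 1) < 2 := fun x y => xor_lt_two (and_one_lt x) (and_one_lt y)
  rw [e0, e5, e10]
  have x1 : Nat.xor (P (fun l => Nat.land (f l) 1) 15 81) (P (fun l => Nat.land (Nat.shiftRight (f l) 10) 1) 15 81) =
      P (fun l => Nat.xor (Nat.land (f l) 1) (Nat.land (Nat.shiftRight (f l) 10) 1)) 15 81 :=
    P_bit Nat.xor Bool.xor (fun a b i => Nat.testBit_xor a b i) rfl (by norm_num) (fun i _ => hlt _) (fun i _ => hlt _)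
      (fun i _ => lt_trans (hxlt _ _) (by norm_num))
  have x2 : Nat.xor (P (fun l => Nat.land (Nat.shiftRight (f l) 5) 1) 15 81) (P (fun l => Nat.land (Nat.shiftRight (f l) 10) 1) 15 81) =
      P (fun l => Nat.xor (Nat.land (Nat.shiftRight (f l) 5) 1) (Nat.land (Nat.shiftRight (f l) 10) 1)) 15 81 :=
    P_bit Nat.xor Bool.xor (fun a b i => Nat.testBit_xor a b i) rfl (by norm_num) (fun i _ => hlt _) (fun i _ => hlt _)
      (fun i _ => lt_trans (hxlt _ _) (by norm_num))
  rw [x1, x2]
  have x3 : Nat.shiftLeft (P (fun l => Nat.xor (Nat.land (Nat.shiftRight (f l) 5) 1) (Nat.land (Nat.shiftRight (f l) 10) 1)) 15 81) 5 =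
      P (fun l => Nat.shiftLeft (Nat.xor (Nat.land (Nat.shiftRight (f l) 5) 1) (Nat.land (Nat.shiftRight (f l) 10) 1)) 5) 15 81 := by
    have hsh : ∀ a : ℕ, Nat.shiftLeft a 5 = a * 2 ^ 5 := fun a => Nat.shiftLeft_eq a 5
    rw [hsh, P_mul]
    apply P_congr
    intro i _
    rw [hsh]
  rw [x3]
  have hs : ∀ x : ℕ, x < 2 → Nat.shiftLeft x 5 < 2 ^ 15 := by
    intro x hx
    have : Nat.shiftLeft x 5 = x * 2 ^ 5 := Nat.shiftLeft_eq _ _
    rw [this]; omega
  exact P_bit Nat.lor Bool.or (fun a b i => Nat.testBit_or a b i) rfl (by norm_num)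
    (fun i _ => lt_trans (hxlt _ _) (by norm_num)) (fun i _ => hs _ (hxlt _ _))
    (fun i _ => Nat.or_lt_two_pow (lt_trans (hxlt _ _) (by norm_num)) (hs _ (hxlt _ _)))

theorem rl_eq {c0 c1 c2 : ℕ} (h0 : c0 < 32) (h1 : c1 < 32) :
    rl (c0 + 32 * c1 + 1024 * c2) = (c0 + c2) % 2 + 32 * ((c1 + c2) % 2) := by
  unfold rl
  have e0 : Nat.land (c0 + 32 * c1 + 1024 * c2) 1 = c0 % 2 := by
    refine (Nat.and_one_is_mod _).trans ?_
    omega
  have e5 : Nat.land (Nat.shiftRight (c0 + 32 * c1 + 1024 * c2) 5) 1 = c1 % 2 := by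
    refine (Nat.and_one_is_mod _).trans ?_
    have : Nat.shiftRight (c0 + 32 * c1 + 1024 * c2) 5 = (c0 + 32 * c1 + 1024 * c2) / 2 ^ 5 := Nat.shiftRight_eq_div_pow _ _
    rw [this]; omega
  have e10 : Nat.land (Nat.shiftRight (c0 + 32 * c1 + 1024 * c2) 10) 1 = c2 % 2 := by
    refine (Nat.and_one_is_mod _).trans ?_
    have : Nat.shiftRight (c0 + 32 * c1 + 1024 * c2) 10 = (c0 + 32 * c1 + 1024 * c2) / 2 ^ 10 := Nat.shiftRight_eq_div_pow _ _
    rw [this]; omega
  rw [e0, e5, e10]
  have a0 : c0 % 2 < 2 := Nat.mod_lt _ (by norm_num)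
  have a1 : c1 % 2 < 2 := Nat.mod_lt _ (by norm_num)
  have a2 : c2 % 2 < 2 := Nat.mod_lt _ (by norm_num)
  rw [Nat.add_mod c0, Nat.add_mod c1]
  generalize c0 % 2 = x at *
  generalize c1 % 2 = y at *
  generalize c2 % 2 = z at *
  interval_cases x <;> interval_cases y <;> interval_cases z <;> decide

/-- coordinates of a field element -/
def lo (a : K4) : ℕ := Nat.mod (a : Fin 4).val 2
def hi (a : K4) : ℕ := Nat.div (a : Fin 4).val 2

theorem lo_lt : ∀ a : K4, lo a < 2 := by decide
theorem hi_lt : ∀ a : K4, hi a < 2 := by decide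

theorem eq_lo_hi : ∀ a : K4, a = (lo a : K4) + (hi a : K4) * om := by decide

theorem om_rel : om * om = om + 1 := by decide

theorem cast_mod (n : ℕ) : ((n % 2 : ℕ) : K4) = (n : K4) := by
  have h := Nat.div_add_mod n 2
  have h2 : (2 : K4) = 0 := by decide
  conv_rhs => rw [← h]
  push_cast
  rw [h2, zero_mul, zero_add]

theorem lo_comb (p q : ℕ) : lo ((p : K4) + (q : K4) * om) = p % 2 := by
  rw [← cast_mod p, ← cast_mod q]
  have h1 : p % 2 < 2 := Nat.mod_lt _ (by norm_num)
  have h2 : q % 2 < 2 := Nat.mod_lt _ (by norm_num)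
  generalize p % 2 = x at *
  generalize q % 2 = y at *
  interval_cases x <;> interval_cases y <;> decide

theorem hi_comb (p q : ℕ) : hi ((p : K4) + (q : K4) * om) = q % 2 := by
  rw [← cast_mod p, ← cast_mod q]
  have h1 : p % 2 < 2 := Nat.mod_lt _ (by norm_num)
  have h2 : q % 2 < 2 := Nat.mod_lt _ (by norm_num)
  generalize p % 2 = x at *
  generalize q % 2 = y at *
  interval_cases x <;> interval_cases y <;> decide

/-- code of a field element -/
def cF (a : K4) : ℕ := lo a + 32 * hi a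

theorem cF_lt (a : K4) : cF a < 2 ^ 15 := by
  have := lo_lt a; have := hi_lt a; unfold cF; omega

theorem cF_inj : Function.Injective cF := by
  intro a b
  revert a b
  decide

theorem rl_sum (A B : ℕ → K4) :
    rl (∑ k ∈ range 9, cF (A k) * cF (B k)) = cF (∑ k ∈ range 9, A k * B k) ∧
      (∑ k ∈ range 9, cF (A k) * cF (B k)) < 2 ^ 15 := by
  have e1 : (∑ k ∈ range 9, cF (A k) * cF (B k)) = (∑ k ∈ range 9, lo (A k) * lo (B k)) +
      32 * (∑ k ∈ range 9, (lo (A k) * hi (B k) + hi (A k) * lo (B k))) + 1024 * (∑ k ∈ range 9, hi (A k) * hi (B k)) := by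
    rw [Finset.mul_sum, Finset.mul_sum, ← Finset.sum_add_distrib, ← Finset.sum_add_distrib]
    apply Finset.sum_congr rfl
    intro k _
    unfold cF
    ring
  have b1 : ∀ a b : K4, lo a * lo b ≤ 1 := by decide
  have b2 : ∀ a b : K4, lo a * hi b + hi a * lo b ≤ 2 := by decide
  have b3 : ∀ a b : K4, hi a * hi b ≤ 1 := by decide
  have c1 : (∑ k ∈ range 9, lo (A k) * lo (B k)) ≤ 9 := by
    refine (Finset.sum_le_card_nsmul _ _ 1 (fun k _ => b1 _ _)).trans ?_
    simp
  have c2 : (∑ k ∈ range 9, (lo (A k) * hi (B k) + hi (A k) * lo (B k))) ≤ 18 := by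
    refine (Finset.sum_le_card_nsmul _ _ 2 (fun k _ => b2 _ _)).trans ?_
    simp
  have c3 : (∑ k ∈ range 9, hi (A k) * hi (B k)) ≤ 9 := by
    refine (Finset.sum_le_card_nsmul _ _ 1 (fun k _ => b3 _ _)).trans ?_
    simp
  refine ⟨?_, by rw [e1]; omega⟩
  rw [e1, rl_eq (by omega) (by omega)]
  have e2 : (∑ k ∈ range 9, A k * B k) =
      (((∑ k ∈ range 9, lo (A k) * lo (B k)) + (∑ k ∈ range 9, hi (A k) * hi (B k)) : ℕ) : K4) +
      (((∑ k ∈ range 9, (lo (A k) * hi (B k) + hi (A k) * lo (B k))) + (∑ k ∈ range 9, hi (A k) * hi (B k)) : ℕ) : K4) * om := by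
    rw [← Finset.sum_add_distrib, ← Finset.sum_add_distrib]
    push_cast
    rw [Finset.sum_mul, ← Finset.sum_add_distrib]
    apply Finset.sum_congr rfl
    intro k _
    conv_lhs => rw [eq_lo_hi (A k), eq_lo_hi (B k)]
    have := om_rel
    linear_combination ((hi (A k) : K4) * (hi (B k) : K4)) * this
  rw [e2, cF, lo_comb, hi_comb]

/-- matrices -/
abbrev Mt : Type := Matrix (ZMod 3 × ZMod 3) (ZMod 3 × ZMod 3) K4

/-- numbering of the index set -/
def nx (k : ℕ) : ZMod 3 × ZMod 3 := ((k / 3 : ℕ), (k % 3 : ℕ))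

/-- the inverse numbering -/
def xn (z : ZMod 3 × ZMod 3) : ℕ := 3 * z.1.val + z.2.val

theorem nx_xn : ∀ z, nx (xn z) = z := by decide

theorem xn_lt : ∀ z, xn z < 9 := by decide

theorem xn_nx : ∀ k < 9, xn (nx k) = k := by decide

/-- the numbering as an equivalence -/
def eqv : Fin 9 ≃ ZMod 3 × ZMod 3 where
  toFun k := nx k
  invFun z := ⟨xn z, xn_lt z⟩
  left_inv k := Fin.ext (xn_nx k k.2)
  right_inv z := nx_xn z

/-- code of a matrix -/
def cdm (A : Mt) : ℕ := P (fun l => cF (A (nx (l / 9)) (nx (l % 9)))) 15 81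

theorem cdm_inj {A B : Mt} (h : cdm A = cdm B) : A = B := by
  have h1 := P_inj (by norm_num) (fun i _ => cF_lt _) (fun i _ => cF_lt _) h
  ext w z
  have hw := xn_lt w
  have hz := xn_lt z
  have h2 := h1 (9 * xn w + xn z) (by omega)
  have e1 : (9 * xn w + xn z) / 9 = xn w := by omega
  have e2 : (9 * xn w + xn z) % 9 = xn z := by omega
  simp only [e1, e2, nx_xn] at h2
  exact cF_inj h2

theorem sum_eqv (f : ZMod 3 × ZMod 3 → K4) : ∑ z, f z = ∑ k ∈ range 9, f (nx k) := by
  rw [← Equiv.sum_comp eqv f, Finset.sum_range (fun k => f (nx k))]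
  rfl

theorem mu_cdm (A B : Mt) : mu (cdm A) (cdm B) = cdm (A * B) := by
  have h1 := mu_eq (fun i j => cF (A (nx i) (nx j))) (fun i j => cF (B (nx i) (nx j))) (fun i j => cF_lt _) (fun i j => cF_lt _)
  have h2 : ∀ l, rl (∑ k ∈ range 9, cF (A (nx (l / 9)) (nx k)) * cF (B (nx k) (nx (l % 9)))) =
      cF ((A * B) (nx (l / 9)) (nx (l % 9))) := by
    intro l
    rw [Matrix.mul_apply, sum_eqv]
    exact (rl_sum (fun k => A (nx (l / 9)) (nx k)) (fun k => B (nx k) (nx (l % 9)))).1
  refine h1.trans ?_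
  rw [red_P _ (fun l _ => (rl_sum (fun k => A (nx (l / 9)) (nx k)) (fun k => B (nx k) (nx (l % 9)))).2)]
  exact P_congr (fun l _ => h2 l)

/-- decoding -/
def dc (c : ℕ) : Mt := Matrix.of fun w z =>
  ((Nat.mod (Nat.shiftRight c (Nat.mul 15 (Nat.add (Nat.mul 9 (xn w)) (xn z)))) 2 : ℕ) : K4) +
    ((Nat.mod (Nat.shiftRight c (Nat.add (Nat.mul 15 (Nat.add (Nat.mul 9 (xn w)) (xn z))) 5)) 2 : ℕ) : K4) * om

theorem shiftRight_mod_two (c n : ℕ) : Nat.mod (Nat.shiftRight c n) 2 = (c.testBit n).toNat := by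
  have h1 : Nat.mod (Nat.shiftRight c n) 2 = (c >>> n) % 2 := rfl
  rw [h1, Nat.testBit_eq_decide_div_mod_eq, Nat.shiftRight_eq_div_pow]
  have : c / 2 ^ n % 2 < 2 := Nat.mod_lt _ (by norm_num)
  by_cases h : c / 2 ^ n % 2 = 1
  · simp [h]
  · have h0 : c / 2 ^ n % 2 = 0 := by omega
    simp [h0]

theorem cdm_dc {c : ℕ} (h : ok c = true) : cdm (dc c) = c := by
  have h1 : Nat.land c MM = c := Nat.eq_of_beq_eq_true h
  have hentry : ∀ l < 81, cF (dc c (nx (l / 9)) (nx (l % 9))) =
      (c.testBit (15 * l)).toNat + 32 * (c.testBit (15 * l + 5)).toNat := by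
    intro l hl
    have e1 : xn (nx (l / 9)) = l / 9 := xn_nx _ (by omega)
    have e2 : xn (nx (l % 9)) = l % 9 := xn_nx _ (by omega)
    have e3 : Nat.mul 15 (Nat.add (Nat.mul 9 (l / 9)) (l % 9)) = 15 * l := by
      show 15 * (9 * (l / 9) + l % 9) = 15 * l
      omega
    rw [dc, Matrix.of_apply, e1, e2, e3, shiftRight_mod_two]
    have e4 : Nat.mod (Nat.shiftRight c (Nat.add (15 * l) 5)) 2 = (c.testBit (15 * l + 5)).toNat := shiftRight_mod_two _ _
    rw [e4, cF, lo_comb, hi_comb]
    have hb : ∀ b : Bool, b.toNat % 2 = b.toNat := by decide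
    rw [hb, hb]
  rw [cdm, P_congr hentry]
  have hlt : ∀ b b' : Bool, b.toNat + 32 * b'.toNat < 2 ^ 15 := by decide
  apply testBit_div_mod (w := 15) (by norm_num)
  intro q t ht
  rw [testBit_P (fun _ _ => hlt _ _) q t ht]
  have h2 : c.testBit (15 * q + t) = (c.testBit (15 * q + t) && (decide (q < 81) && (33 : ℕ).testBit t)) := by
    conv_lhs => rw [← h1]
    rw [MM_eq]
    have : (Nat.land c (P (fun _ => 33) 15 81)).testBit (15 * q + t) =
      (c.testBit (15 * q + t) && (P (fun _ => 33) 15 81).testBit (15 * q + t)) := Nat.testBit_and _ _ _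
    rw [this, testBit_P (fun _ _ => by norm_num) q t ht]
  rw [h2]
  have key : ∀ (b b' : Bool) (t : ℕ), t < 15 → (b.toNat + 32 * b'.toNat).testBit t =
      ((bif t == 0 then b else (bif t == 5 then b' else false))) := by decide
  rw [key _ _ t ht]
  interval_cases t <;> simp [show (33 : ℕ).testBit 0 = true from rfl, show (33 : ℕ).testBit 5 = true from rfl,
    show (33 : ℕ).testBit 1 = false from rfl, show (33 : ℕ).testBit 2 = false from rfl,
    show (33 : ℕ).testBit 3 = false from rfl, show (33 : ℕ).testBit 4 = false from rfl,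
    show (33 : ℕ).testBit 6 = false from rfl, show (33 : ℕ).testBit 7 = false from rfl,
    show (33 : ℕ).testBit 8 = false from rfl, show (33 : ℕ).testBit 9 = false from rfl,
    show (33 : ℕ).testBit 10 = false from rfl, show (33 : ℕ).testBit 11 = false from rfl,
    show (33 : ℕ).testBit 12 = false from rfl, show (33 : ℕ).testBit 13 = false from rfl,
    show (33 : ℕ).testBit 14 = false from rfl, Bool.and_comm]

end Cfsg.Agent.Lib.F4Pack
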