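import Cfsg.Agent.Lib.F4Mat
import Cfsg.Agent.Lib.E6Comm
set_option autoImplicit false
set_option linter.unusedSectionVars false
set_option linter.unusedVariables false
set_option linter.style.haveILetI false

/-!
Packed root elements and words of the 27-dimensional representation.
-/

namespace Cfsg.Agent.Lib.F4Mat
open Cfsg.Lie Cfsg.Agent.Lib.E6Pair
open scoped MatrixGroups Matrix

/-- packed root elements -/
def xL (T : List ℕ) (c : RV) : List RV := (List.range 27).map fun n => ((2 ^ n) ^^^ (c.1 * T.getD n 0), c.2 * T.getD n 0)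

/-- the check of a table of a root -/
def chkT (r : ℕ) (T : List ℕ) : Bool := (List.range 27).all fun n => (List.range 27).all fun v =>
  (T.getD n 0).testBit v == Nat.beq (E6Rep.en r v).natAbs (n + 1)

/-- lookup -/
def lk : List (ℕ × List ℕ) → ℕ → List ℕ
  | [], _ => []
  | p :: tb, r => bif Nat.beq p.1 r then p.2 else lk tb r

/-- packed words -/
def mtw (tb : List (ℕ × List ℕ)) : List (ℕ × RV) → List RV
  | [] => idL
  | x :: w => mulL (xL (lk tb x.1) x.2) (mtw tb w)

def okw (tb : List (ℕ × List ℕ)) (w : List (ℕ × RV)) : Bool := w.all fun x => Nat.blt x.1 72 &&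
  (chkT x.1 (lk tb x.1) && (Nat.blt x.2.1 2 && Nat.blt x.2.2 2))

/-- the word with field elements -/
def evw {K : Type*} [Field K] (ω : K) (w : List (ℕ × RV)) : List (ℕ × K) := w.map fun x => (x.1, cv ω x.2)

section
variable {K : Type*} [Field K] [CharP K 2]

theorem bas_eq {z : ℤ} (hz : E6Rep.ok z = true) (i : I27) : E6Rep.bas K z i = if z.natAbs = E6Rep.cod i + 1 then 1 else 0 := by
  have h2 : (2 : K) = 0 := CharTwo.two_eq_zero
  have hsing : ∀ n < 27, (Pi.single (E6Rep.dec n) (1 : K) : I27 → K) i = if n + 1 = E6Rep.cod i + 1 then 1 else 0 := by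
    intro n hn
    by_cases h : i = E6Rep.dec n
    · subst h
      rw [Pi.single_eq_same, E6Rep.cod_dec n hn, if_pos rfl]
    · rw [Pi.single_eq_of_ne h, if_neg]
      intro hh
      apply h
      have : n = E6Rep.cod i := by omega
      rw [this, E6Rep.dec_cod]
  match z with
  | .ofNat 0 =>
    show (0 : K) = _
    rw [if_neg]
    show ¬ (0 = E6Rep.cod i + 1)
    omega
  | .ofNat (n + 1) =>
    have h3 : n < 27 := by
      have : Nat.ble (n + 1) 27 = true := hz
      have := Nat.le_of_ble_eq_true this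
      omega
    exact hsing n h3
  | .negSucc n =>
    have h3 : n < 27 := by
      have : Nat.blt n 27 = true := hz
      exact Nat.le_of_ble_eq_true this
    show -(Pi.single (E6Rep.dec n) (1 : K) : I27 → K) i = _
    rw [hsing n h3]
    show - (if n + 1 = E6Rep.cod i + 1 then (1 : K) else 0) = if n + 1 = E6Rep.cod i + 1 then 1 else 0
    split_ifs
    · linear_combination -h2
    · ring

variable {ω : K}

theorem mt_xL {r : ℕ} {T : List ℕ} (hr : r < 72) (h : chkT r T = true) {c : RV} (h1 : c.1 < 2) (h2 : c.2 < 2) :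
    mt ω (xL T c) = (E6Rep.X K r (cv ω c) : Matrix I27 I27 K) := by
  ext i j
  have hi := E6Rep.cod_lt i
  have hj := E6Rep.cod_lt j
  rw [E6Rep.coe_X, Matrix.add_apply, Matrix.smul_apply, smul_eq_mul, Matrix.one_apply]
  have hE : E6Rep.Em K r i j = E6Rep.bas K (E6Rep.en r (E6Rep.cod j)) i := by
    rw [E6Rep.Em, if_pos hr]
    rfl
  have hb : E6Rep.Em K r i j = bt (T.getD (E6Rep.cod i) 0) (E6Rep.cod j) := by
    rw [hE, bas_eq (E6Rep.ok_en hr hj)]
    unfold chkT at h
    rw [List.all_eq_true] at h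
    have h3 := h (E6Rep.cod i) (List.mem_range.mpr hi)
    rw [List.all_eq_true] at h3
    have h4 := h3 (E6Rep.cod j) (List.mem_range.mpr hj)
    rw [beq_iff_eq] at h4
    unfold bt
    rw [h4]
    by_cases h5 : (E6Rep.en r (E6Rep.cod j)).natAbs = E6Rep.cod i + 1
    · rw [if_pos h5, if_pos (by rw [h5]; exact Nat.beq_refl _)]
    · rw [if_neg h5, if_neg]
      intro h6
      exact h5 (Nat.eq_of_beq_eq_true h6)
  rw [hb]
  show gt ω (xL T c) (E6Rep.cod i) (E6Rep.cod j) = _
  have e : (xL T c).getD (E6Rep.cod i) (0, 0) = ((2 ^ (E6Rep.cod i)) ^^^ (c.1 * T.getD (E6Rep.cod i) 0), c.2 * T.getD (E6Rep.cod i) 0) := by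
    unfold xL
    rw [List.getD_eq_getElem _ _ (by rw [List.length_map, List.length_range]; exact hi), List.getElem_map,
      List.getElem_range]
  unfold gt
  rw [e]
  unfold sv cv
  rw [bt_xor, bt_mul h1, bt_mul h2, bt_two_pow]
  by_cases hij : i = j
  · subst hij; simp; ring
  · rw [if_neg hij, if_neg (fun hh => hij (cod_inj hh))]
    ring

variable (hω : ω ^ 2 = ω + 1)
include hω

omit [CharP K 2] hω in
theorem length_mtw (tb : List (ℕ × List ℕ)) (w : List (ℕ × RV)) : (mtw tb w).length = 27 := by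
  cases w with
  | nil => exact length_idL
  | cons x w =>
    unfold mtw mulL xL
    rw [List.length_map, List.length_map, List.length_range]

theorem mt_mtw {tb : List (ℕ × List ℕ)} {w : List (ℕ × RV)} (h : okw tb w = true) :
    mt ω (mtw tb w) = (Xw (evw ω w) : Matrix I27 I27 K) := by
  induction w with
  | nil => simp [mtw, mt_idL, Xw, evw]
  | cons x w ih =>
    unfold okw at h
    rw [List.all_cons, Bool.and_eq_true, Bool.and_eq_true, Bool.and_eq_true, Bool.and_eq_true] at h
    obtain ⟨⟨h1, h2, h3, h4⟩, h5⟩ := h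
    have e : Xw (evw ω (x :: w)) = E6Rep.X K x.1 (cv ω x.2) * Xw (evw ω w) := by simp [Xw, evw]
    rw [e, Units.val_mul, ← ih h5, ← mt_xL (Nat.le_of_ble_eq_true h1) h2 (Nat.le_of_ble_eq_true h3) (Nat.le_of_ble_eq_true h4),
      ← mt_mulL hω (length_mtw tb w)]
    rfl

end

end Cfsg.Agent.Lib.F4Mat
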