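import Cfsg.Agent.Lib.FERel
import Cfsg.Agent.Lib.CosetWide2
import Cfsg.Agent.Lib.FEWN0
import Cfsg.Agent.Lib.FEWN1
import Cfsg.Agent.Lib.FEWN2
import Cfsg.Agent.Lib.FEWN3
import Cfsg.Agent.Lib.FEWN4
import Cfsg.Agent.Lib.FEWN5
import Cfsg.Agent.Lib.FEWN6
import Cfsg.Agent.Lib.FEWN7
import Cfsg.Agent.Lib.FEWN8
import Cfsg.Agent.Lib.FEWN9
import Cfsg.Agent.Lib.FEWN10
import Cfsg.Agent.Lib.FEWN11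
import Cfsg.Agent.Lib.FEWN12
import Cfsg.Agent.Lib.FEWN13
import Cfsg.Agent.Lib.FEWN14
import Cfsg.Agent.Lib.FEWN15
import Cfsg.Agent.Lib.FEWR0
import Cfsg.Agent.Lib.FEWR1
import Cfsg.Agent.Lib.FEWR2
import Cfsg.Agent.Lib.FEWR3
import Cfsg.Agent.Lib.FEWR4
import Cfsg.Agent.Lib.FEWR5
import Cfsg.Agent.Lib.FEWD

set_option autoImplicit false
set_option linter.all false
set_option maxRecDepth 100000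

namespace Cfsg.Agent.Lib.FEWB
open Cfsg.Spor Cfsg.Agent.Lib.BenesPerm Cfsg.Agent.Lib.BenesAct Cfsg.Agent.Lib.BenesWord
open Cfsg.Agent.Lib.BenesPlane Cfsg.Agent.Lib.CosetClosure Cfsg.Agent.Lib.CosetFacts
open Cfsg.Agent.Lib.CosetMain Cfsg.Agent.Lib.CoxBridge Cfsg.Agent.Lib.CosetGroup Cfsg.Agent.Lib.CosetInst Cfsg.Agent.Lib.CosetInj
open Cfsg.Agent.Lib.BenesPack Cfsg.Agent.Lib.CosetPack Cfsg.Agent.Lib.CosetChain Cfsg.Agent.Lib.CosetWide Cfsg.Agent.Lib.CosetWide2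
open Cfsg.Agent.Lib.FERel Cfsg.Agent.Lib.FEWN0 Cfsg.Agent.Lib.FEWN1 Cfsg.Agent.Lib.FEWN2 Cfsg.Agent.Lib.FEWN3 Cfsg.Agent.Lib.FEWN4 Cfsg.Agent.Lib.FEWN5 Cfsg.Agent.Lib.FEWN6 Cfsg.Agent.Lib.FEWN7 Cfsg.Agent.Lib.FEWN8 Cfsg.Agent.Lib.FEWN9 Cfsg.Agent.Lib.FEWN10 Cfsg.Agent.Lib.FEWN11 Cfsg.Agent.Lib.FEWN12 Cfsg.Agent.Lib.FEWN13 Cfsg.Agent.Lib.FEWN14 Cfsg.Agent.Lib.FEWN15 Cfsg.Agent.Lib.FEWR0 Cfsg.Agent.Lib.FEWR1 Cfsg.Agent.Lib.FEWR2 Cfsg.Agent.Lib.FEWR3 Cfsg.Agent.Lib.FEWR4 Cfsg.Agent.Lib.FEWR5 Cfsg.Agent.Lib.FEWD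

/-- the networks -/
noncomputable def nets : List Net := [n0, n1, n2, n3, n4, n5, n6, n7, n8, n9, n10, n11, n12, n13, n14, n15, n16]

/-- the ranks -/
noncomputable def R : List (List Nat) := (List.cons r0 (List.cons r1 (List.cons r2 (List.cons r3 (List.cons r4 (List.cons r5 (List.cons r6 (List.cons r7 (List.cons r8 (List.cons r9 (List.cons r10 (List.cons r11 (List.cons r12 (List.cons r13 (List.cons r14 (List.cons r15 (List.cons r16 List.nil)))))))))))))))))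

/-- inverse letters -/
noncomputable def ivx : ℕ → ℕ := ivOf [0, 1, 2, 3, 4, 5, 6, 7, 8, 9, 10, 12, 11, 14, 13, 16, 15]

/-- words of the further letters -/
def xw : List Wd := [(Wd.mul (Wd.mul (Wd.mul (Wd.mul (Wd.mul (Wd.mul (Wd.mul (Wd.mul (Wd.g 3) (Wd.g 2)) (Wd.g 1)) (Wd.g 3)) (Wd.g 4)) (Wd.g 5)) (Wd.g 3)) (Wd.g 7)) (Wd.g 8)),
  (Wd.inv (Wd.mul (Wd.mul (Wd.mul (Wd.mul (Wd.mul (Wd.mul (Wd.mul (Wd.mul (Wd.g 3) (Wd.g 2)) (Wd.g 1)) (Wd.g 3)) (Wd.g 4)) (Wd.g 5)) (Wd.g 3)) (Wd.g 7)) (Wd.g 8))),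
  (Wd.mul (Wd.mul (Wd.mul (Wd.mul (Wd.mul (Wd.mul (Wd.g 0) (Wd.g 1)) (Wd.g 2)) (Wd.g 3)) (Wd.g 4)) (Wd.g 5)) (Wd.g 7)),
  (Wd.inv (Wd.mul (Wd.mul (Wd.mul (Wd.mul (Wd.mul (Wd.mul (Wd.g 0) (Wd.g 1)) (Wd.g 2)) (Wd.g 3)) (Wd.g 4)) (Wd.g 5)) (Wd.g 7))),
  (Wd.pow (Wd.mul (Wd.mul (Wd.g 10) (Wd.g 9)) (Wd.g 0)) 3),
  (Wd.inv (Wd.pow (Wd.mul (Wd.mul (Wd.g 10) (Wd.g 9)) (Wd.g 0)) 3))]

/-- relators -/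
def wrels : List Wd := [(Wd.pow (Wd.mul (Wd.g 0) (Wd.g 1)) 3),
  (Wd.pow (Wd.mul (Wd.g 0) (Wd.g 2)) 2),
  (Wd.pow (Wd.mul (Wd.g 1) (Wd.g 2)) 3),
  (Wd.pow (Wd.mul (Wd.g 0) (Wd.g 3)) 2),
  (Wd.pow (Wd.mul (Wd.g 1) (Wd.g 3)) 2),
  (Wd.pow (Wd.mul (Wd.g 2) (Wd.g 3)) 3),
  (Wd.pow (Wd.mul (Wd.g 0) (Wd.g 4)) 2),
  (Wd.pow (Wd.mul (Wd.g 1) (Wd.g 4)) 2),
  (Wd.pow (Wd.mul (Wd.g 2) (Wd.g 4)) 2),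
  (Wd.pow (Wd.mul (Wd.g 3) (Wd.g 4)) 3),
  (Wd.pow (Wd.mul (Wd.g 0) (Wd.g 5)) 2),
  (Wd.pow (Wd.mul (Wd.g 1) (Wd.g 5)) 2),
  (Wd.pow (Wd.mul (Wd.g 2) (Wd.g 5)) 2),
  (Wd.pow (Wd.mul (Wd.g 3) (Wd.g 5)) 2),
  (Wd.pow (Wd.mul (Wd.g 4) (Wd.g 5)) 3),
  (Wd.pow (Wd.mul (Wd.g 0) (Wd.g 6)) 2),
  (Wd.pow (Wd.mul (Wd.g 1) (Wd.g 6)) 2),
  (Wd.pow (Wd.mul (Wd.g 2) (Wd.g 6)) 2),
  (Wd.pow (Wd.mul (Wd.g 3) (Wd.g 6)) 2),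
  (Wd.pow (Wd.mul (Wd.g 4) (Wd.g 6)) 2),
  (Wd.pow (Wd.mul (Wd.g 5) (Wd.g 6)) 3),
  (Wd.pow (Wd.mul (Wd.g 0) (Wd.g 7)) 2),
  (Wd.pow (Wd.mul (Wd.g 1) (Wd.g 7)) 2),
  (Wd.pow (Wd.mul (Wd.g 2) (Wd.g 7)) 2),
  (Wd.pow (Wd.mul (Wd.g 3) (Wd.g 7)) 3),
  (Wd.pow (Wd.mul (Wd.g 4) (Wd.g 7)) 2),
  (Wd.pow (Wd.mul (Wd.g 5) (Wd.g 7)) 2),
  (Wd.pow (Wd.mul (Wd.g 6) (Wd.g 7)) 2),
  (Wd.pow (Wd.mul (Wd.g 0) (Wd.g 8)) 2),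
  (Wd.pow (Wd.mul (Wd.g 1) (Wd.g 8)) 2),
  (Wd.pow (Wd.mul (Wd.g 2) (Wd.g 8)) 2),
  (Wd.pow (Wd.mul (Wd.g 3) (Wd.g 8)) 2),
  (Wd.pow (Wd.mul (Wd.g 4) (Wd.g 8)) 2),
  (Wd.pow (Wd.mul (Wd.g 5) (Wd.g 8)) 2),
  (Wd.pow (Wd.mul (Wd.g 6) (Wd.g 8)) 2),
  (Wd.pow (Wd.mul (Wd.g 7) (Wd.g 8)) 3),
  (Wd.pow (Wd.mul (Wd.g 0) (Wd.g 9)) 2),
  (Wd.pow (Wd.mul (Wd.g 1) (Wd.g 9)) 2),
  (Wd.pow (Wd.mul (Wd.g 2) (Wd.g 9)) 2),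
  (Wd.pow (Wd.mul (Wd.g 3) (Wd.g 9)) 2),
  (Wd.pow (Wd.mul (Wd.g 4) (Wd.g 9)) 2),
  (Wd.pow (Wd.mul (Wd.g 5) (Wd.g 9)) 2),
  (Wd.pow (Wd.mul (Wd.g 6) (Wd.g 9)) 3),
  (Wd.pow (Wd.mul (Wd.g 7) (Wd.g 9)) 2),
  (Wd.pow (Wd.mul (Wd.g 8) (Wd.g 9)) 2),
  (Wd.pow (Wd.g 11) 10),
  (Wd.pow (Wd.g 13) 9),
  (Wd.pow (Wd.g 10) 2),
  (Wd.pow (Wd.mul (Wd.g 10) (Wd.g 9)) 3),
  (Wd.pow (Wd.mul (Wd.mul (Wd.g 10) (Wd.g 9)) (Wd.g 1)) 2),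
  (Wd.pow (Wd.mul (Wd.mul (Wd.g 10) (Wd.g 9)) (Wd.g 2)) 2),
  (Wd.pow (Wd.mul (Wd.mul (Wd.g 10) (Wd.g 9)) (Wd.g 3)) 2),
  (Wd.pow (Wd.mul (Wd.mul (Wd.g 10) (Wd.g 9)) (Wd.g 4)) 2),
  (Wd.pow (Wd.mul (Wd.mul (Wd.g 10) (Wd.g 9)) (Wd.g 5)) 2),
  (Wd.pow (Wd.mul (Wd.mul (Wd.g 10) (Wd.g 9)) (Wd.g 6)) 2),
  (Wd.pow (Wd.mul (Wd.mul (Wd.g 10) (Wd.g 9)) (Wd.g 7)) 2),
  (Wd.pow (Wd.mul (Wd.mul (Wd.g 10) (Wd.g 9)) (Wd.g 8)) 2),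
  (Wd.mul (Wd.mul (Wd.mul (Wd.g 15) (Wd.g 0)) (Wd.inv (Wd.g 15))) (Wd.inv (Wd.g 0))),
  (Wd.mul (Wd.mul (Wd.mul (Wd.g 15) (Wd.g 1)) (Wd.inv (Wd.g 15))) (Wd.inv (Wd.g 1))),
  (Wd.mul (Wd.mul (Wd.mul (Wd.g 15) (Wd.g 2)) (Wd.inv (Wd.g 15))) (Wd.inv (Wd.g 2))),
  (Wd.mul (Wd.mul (Wd.mul (Wd.g 15) (Wd.g 3)) (Wd.inv (Wd.g 15))) (Wd.inv (Wd.g 3))),
  (Wd.mul (Wd.mul (Wd.mul (Wd.g 15) (Wd.g 4)) (Wd.inv (Wd.g 15))) (Wd.inv (Wd.g 4))),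
  (Wd.mul (Wd.mul (Wd.mul (Wd.g 15) (Wd.g 5)) (Wd.inv (Wd.g 15))) (Wd.inv (Wd.g 5))),
  (Wd.mul (Wd.mul (Wd.mul (Wd.g 15) (Wd.g 6)) (Wd.inv (Wd.g 15))) (Wd.inv (Wd.g 6))),
  (Wd.mul (Wd.mul (Wd.mul (Wd.g 15) (Wd.g 7)) (Wd.inv (Wd.g 15))) (Wd.inv (Wd.g 7))),
  (Wd.mul (Wd.mul (Wd.mul (Wd.g 15) (Wd.g 8)) (Wd.inv (Wd.g 15))) (Wd.inv (Wd.g 8))),
  (Wd.mul (Wd.mul (Wd.mul (Wd.g 15) (Wd.g 9)) (Wd.inv (Wd.g 15))) (Wd.inv (Wd.g 9))),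
  (Wd.mul (Wd.mul (Wd.mul (Wd.g 15) (Wd.g 10)) (Wd.inv (Wd.g 15))) (Wd.inv (Wd.g 10))),
  (Wd.pow (Wd.g 15) 2),
  (Wd.mul (Wd.inv (Wd.g 11)) (Wd.mul (Wd.mul (Wd.mul (Wd.mul (Wd.mul (Wd.mul (Wd.mul (Wd.mul (Wd.g 3) (Wd.g 2)) (Wd.g 1)) (Wd.g 3)) (Wd.g 4)) (Wd.g 5)) (Wd.g 3)) (Wd.g 7)) (Wd.g 8))),
  (Wd.mul (Wd.inv (Wd.g 13)) (Wd.mul (Wd.mul (Wd.mul (Wd.mul (Wd.mul (Wd.mul (Wd.g 0) (Wd.g 1)) (Wd.g 2)) (Wd.g 3)) (Wd.g 4)) (Wd.g 5)) (Wd.g 7))),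
  (Wd.mul (Wd.inv (Wd.g 15)) (Wd.pow (Wd.mul (Wd.mul (Wd.g 10) (Wd.g 9)) (Wd.g 0)) 3))]

/-- relations of the lanes -/
def eqs0 : List (List ℕ × List ℕ) := [([0, 0], []), ([1, 1], []), ([2, 2], []), ([3, 3], []), ([4, 4], []), ([5, 5], []), ([6, 6], []), ([7, 7], []), ([8, 8], []), ([9, 9], []), ([10, 10], []), ([12, 11], []), ([11, 12], []), ([14, 13], []), ([13, 14], []), ([16, 15], []), ([15, 16], []), ([0, 1, 0], [1, 0, 1]), ([0, 2], [2, 0]), ([1, 2, 1], [2, 1, 2]), ([0, 3], [3, 0]), ([1, 3], [3, 1]), ([2, 3, 2], [3, 2, 3]), ([0, 4], [4, 0]), ([1, 4], [4, 1]), ([2, 4], [4, 2]), ([3, 4, 3], [4, 3, 4])]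

/-- relations of the lanes -/
def eqs1 : List (List ℕ × List ℕ) := [([0, 5], [5, 0]), ([1, 5], [5, 1]), ([2, 5], [5, 2]), ([3, 5], [5, 3]), ([4, 5, 4], [5, 4, 5]), ([0, 6], [6, 0]), ([1, 6], [6, 1]), ([2, 6], [6, 2]), ([3, 6], [6, 3]), ([4, 6], [6, 4]), ([5, 6, 5], [6, 5, 6]), ([0, 7], [7, 0]), ([1, 7], [7, 1]), ([2, 7], [7, 2]), ([3, 7, 3], [7, 3, 7]), ([4, 7], [7, 4]), ([5, 7], [7, 5]), ([6, 7], [7, 6]), ([0, 8], [8, 0])]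

/-- relations of the lanes -/
def eqs2 : List (List ℕ × List ℕ) := [([1, 8], [8, 1]), ([2, 8], [8, 2]), ([3, 8], [8, 3]), ([4, 8], [8, 4]), ([5, 8], [8, 5]), ([6, 8], [8, 6]), ([7, 8, 7], [8, 7, 8]), ([0, 9], [9, 0]), ([1, 9], [9, 1]), ([2, 9], [9, 2]), ([3, 9], [9, 3]), ([4, 9], [9, 4]), ([5, 9], [9, 5]), ([6, 9, 6], [9, 6, 9]), ([7, 9], [9, 7]), ([8, 9], [9, 8]), ([11, 11, 11, 11, 11], [12, 12, 12, 12, 12])]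

/-- relations of the lanes -/
def eqs3 : List (List ℕ × List ℕ) := [([13, 13, 13, 13, 13], [14, 14, 14, 14]), ([10], [10]), ([10, 9, 10], [9, 10, 9]), ([10, 9, 1], [1, 9, 10]), ([10, 9, 2], [2, 9, 10]), ([10, 9, 3], [3, 9, 10]), ([10, 9, 4], [4, 9, 10]), ([10, 9, 5], [5, 9, 10]), ([10, 9, 6], [6, 9, 10]), ([10, 9, 7], [7, 9, 10]), ([10, 9, 8], [8, 9, 10]), ([15, 0], [0, 15]), ([15, 1], [1, 15]), ([15, 2], [2, 15]), ([15, 3], [3, 15])]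

/-- relations of the lanes -/
def eqs4 : List (List ℕ × List ℕ) := [([15, 4], [4, 15]), ([15, 5], [5, 15]), ([15, 6], [6, 15]), ([15, 7], [7, 15]), ([15, 8], [8, 15]), ([15, 9], [9, 15]), ([15, 10], [10, 15]), ([15], [16]), ([12, 3, 2, 1, 3], [8, 7, 3, 5, 4]), ([14, 0, 1, 2], [7, 5, 4, 3]), ([16, 10, 9, 0, 10], [0, 9, 10, 0, 9])]

/-- all relations of the lanes -/
def eqs : List (List ℕ × List ℕ) := eqs0 ++ (eqs1 ++ (eqs2 ++ (eqs3 ++ (eqs4))))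

/-- words for the subgroup -/
def WS : List Wd := [(Wd.g 0), (Wd.g 1), (Wd.g 2), (Wd.g 3), (Wd.g 4), (Wd.g 5), (Wd.g 6), (Wd.g 7), (Wd.g 8), (Wd.g 9)]

noncomputable def scr22 : Scr := s22
noncomputable def scr21 : Scr := appS s21 scr22
noncomputable def scr20 : Scr := appS s20 scr21
noncomputable def scr19 : Scr := appS s19 scr20
noncomputable def scr18 : Scr := appS s18 scr19
noncomputable def scr17 : Scr := appS s17 scr18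
noncomputable def scr16 : Scr := appS s16 scr17
noncomputable def scr15 : Scr := appS s15 scr16
noncomputable def scr14 : Scr := appS s14 scr15
noncomputable def scr13 : Scr := appS s13 scr14
noncomputable def scr12 : Scr := appS s12 scr13
noncomputable def scr11 : Scr := appS s11 scr12
noncomputable def scr10 : Scr := appS s10 scr11
noncomputable def scr9 : Scr := appS s9 scr10
noncomputable def scr8 : Scr := appS s8 scr9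
noncomputable def scr7 : Scr := appS s7 scr8
noncomputable def scr6 : Scr := appS s6 scr7
noncomputable def scr5 : Scr := appS s5 scr6
noncomputable def scr4 : Scr := appS s4 scr5
noncomputable def scr3 : Scr := appS s3 scr4
noncomputable def scr2 : Scr := appS s2 scr3
noncomputable def scr1 : Scr := appS s1 scr2
noncomputable def scr0 : Scr := appS s0 scr1
/-- all scripts -/
noncomputable def scr : Scr := scr0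

/-- trivial relators -/
def wtriv : List Wd := [Wd.mul (Wd.g 0) (Wd.g 0), Wd.mul (Wd.g 1) (Wd.g 1), Wd.mul (Wd.g 2) (Wd.g 2), Wd.mul (Wd.g 3) (Wd.g 3), Wd.mul (Wd.g 4) (Wd.g 4), Wd.mul (Wd.g 5) (Wd.g 5), Wd.mul (Wd.g 6) (Wd.g 6), Wd.mul (Wd.g 7) (Wd.g 7), Wd.mul (Wd.g 8) (Wd.g 8), Wd.mul (Wd.g 9) (Wd.g 9), Wd.mul (Wd.g 10) (Wd.g 10)]

/-- patterns -/
def pats : List Wd := wtriv ++ (rels ++ rels.map Wd.inv)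

/-- patterns as lists of letters -/
noncomputable def patL : List (List ℕ) := pats.map (fun W => (W.flat ivx).reverse)

theorem c_wok : wOK 11 xw rels wrels = true := by decide +kernel
theorem c_wback : wBack 11 xw rels wrels = true := by decide +kernel
theorem c_inv_sub : ∀ q ∈ invPairs ivx 17, q ∈ eqs := by decide +kernel
theorem c_rel_sub : ∀ q ∈ wrels.map (halfW ivx), q ∈ eqs := by decide +kernel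

end Cfsg.Agent.Lib.FEWB
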