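import Cfsg.Agent.Lib.FEWB

set_option autoImplicit false
set_option linter.all false
set_option maxRecDepth 100000
set_option Elab.async false

namespace Cfsg.Agent.Lib.FEWF0
open Cfsg.Spor Cfsg.Agent.Lib.BenesPerm Cfsg.Agent.Lib.BenesAct Cfsg.Agent.Lib.BenesWord
open Cfsg.Agent.Lib.BenesPlane Cfsg.Agent.Lib.CosetClosure Cfsg.Agent.Lib.CosetFacts
open Cfsg.Agent.Lib.CosetMain Cfsg.Agent.Lib.CoxBridge Cfsg.Agent.Lib.CosetGroup Cfsg.Agent.Lib.CosetInst Cfsg.Agent.Lib.CosetInj
open Cfsg.Agent.Lib.BenesPack Cfsg.Agent.Lib.CosetPack Cfsg.Agent.Lib.CosetChain Cfsg.Agent.Lib.CosetWide Cfsg.Agent.Lib.CosetWide2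
open Cfsg.Agent.Lib.FERel Cfsg.Agent.Lib.FEWN0 Cfsg.Agent.Lib.FEWN1 Cfsg.Agent.Lib.FEWN2 Cfsg.Agent.Lib.FEWN3 Cfsg.Agent.Lib.FEWN4 Cfsg.Agent.Lib.FEWN5 Cfsg.Agent.Lib.FEWN6 Cfsg.Agent.Lib.FEWN7 Cfsg.Agent.Lib.FEWN8 Cfsg.Agent.Lib.FEWN9 Cfsg.Agent.Lib.FEWN10 Cfsg.Agent.Lib.FEWN11 Cfsg.Agent.Lib.FEWN12 Cfsg.Agent.Lib.FEWN13 Cfsg.Agent.Lib.FEWN14 Cfsg.Agent.Lib.FEWN15 Cfsg.Agent.Lib.FEWR0 Cfsg.Agent.Lib.FEWR1 Cfsg.Agent.Lib.FEWR2 Cfsg.Agent.Lib.FEWR3 Cfsg.Agent.Lib.FEWR4 Cfsg.Agent.Lib.FEWR5 Cfsg.Agent.Lib.FEWD Cfsg.Agent.Lib.FEWB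

theorem slen0 : 10 + s0.len = 50 := by decide +kernel
theorem slen1 : 50 + s1.len = 90 := by decide +kernel
theorem slen2 : 90 + s2.len = 130 := by decide +kernel
theorem slen3 : 130 + s3.len = 170 := by decide +kernel
theorem slen4 : 170 + s4.len = 210 := by decide +kernel
theorem slen5 : 210 + s5.len = 250 := by decide +kernel
theorem slen6 : 250 + s6.len = 290 := by decide +kernel
theorem slen7 : 290 + s7.len = 330 := by decide +kernel
theorem slen8 : 330 + s8.len = 370 := by decide +kernel
theorem slen9 : 370 + s9.len = 410 := by decide +kernel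
theorem slen10 : 410 + s10.len = 450 := by decide +kernel
theorem slen11 : 450 + s11.len = 490 := by decide +kernel
theorem slen12 : 490 + s12.len = 530 := by decide +kernel
theorem slen13 : 530 + s13.len = 570 := by decide +kernel
theorem slen14 : 570 + s14.len = 610 := by decide +kernel
theorem slen15 : 610 + s15.len = 650 := by decide +kernel
theorem slen16 : 650 + s16.len = 690 := by decide +kernel
theorem slen17 : 690 + s17.len = 730 := by decide +kernel
theorem slen18 : 730 + s18.len = 770 := by decide +kernel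
theorem slen19 : 770 + s19.len = 810 := by decide +kernel
theorem slen20 : 810 + s20.len = 850 := by decide +kernel
theorem slen21 : 850 + s21.len = 890 := by decide +kernel
theorem slen22 : 890 + s22.len = 891 := by decide +kernel
theorem fact0 : factsK nets ivx R 17 920808 (2 ^ 20) nd T DT patL 10 s0 = true := by decide +kernel
theorem fact1 : factsK nets ivx R 17 920808 (2 ^ 20) nd T DT patL 50 s1 = true := by decide +kernel
theorem fact2 : factsK nets ivx R 17 920808 (2 ^ 20) nd T DT patL 90 s2 = true := by decide +kernel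
theorem fact3 : factsK nets ivx R 17 920808 (2 ^ 20) nd T DT patL 130 s3 = true := by decide +kernel
theorem fact4 : factsK nets ivx R 17 920808 (2 ^ 20) nd T DT patL 170 s4 = true := by decide +kernel
theorem fact5 : factsK nets ivx R 17 920808 (2 ^ 20) nd T DT patL 210 s5 = true := by decide +kernel
theorem fact6 : factsK nets ivx R 17 920808 (2 ^ 20) nd T DT patL 250 s6 = true := by decide +kernel
theorem fact7 : factsK nets ivx R 17 920808 (2 ^ 20) nd T DT patL 290 s7 = true := by decide +kernel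
theorem fact8 : factsK nets ivx R 17 920808 (2 ^ 20) nd T DT patL 330 s8 = true := by decide +kernel
theorem fact9 : factsK nets ivx R 17 920808 (2 ^ 20) nd T DT patL 370 s9 = true := by decide +kernel
theorem fact10 : factsK nets ivx R 17 920808 (2 ^ 20) nd T DT patL 410 s10 = true := by decide +kernel
theorem fact11 : factsK nets ivx R 17 920808 (2 ^ 20) nd T DT patL 450 s11 = true := by decide +kernel
theorem fact12 : factsK nets ivx R 17 920808 (2 ^ 20) nd T DT patL 490 s12 = true := by decide +kernel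
theorem fact13 : factsK nets ivx R 17 920808 (2 ^ 20) nd T DT patL 530 s13 = true := by decide +kernel
theorem fact14 : factsK nets ivx R 17 920808 (2 ^ 20) nd T DT patL 570 s14 = true := by decide +kernel
theorem fact15 : factsK nets ivx R 17 920808 (2 ^ 20) nd T DT patL 610 s15 = true := by decide +kernel
theorem fact16 : factsK nets ivx R 17 920808 (2 ^ 20) nd T DT patL 650 s16 = true := by decide +kernel
theorem fact17 : factsK nets ivx R 17 920808 (2 ^ 20) nd T DT patL 690 s17 = true := by decide +kernel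
theorem fact18 : factsK nets ivx R 17 920808 (2 ^ 20) nd T DT patL 730 s18 = true := by decide +kernel
theorem fact19 : factsK nets ivx R 17 920808 (2 ^ 20) nd T DT patL 770 s19 = true := by decide +kernel
theorem fact20 : factsK nets ivx R 17 920808 (2 ^ 20) nd T DT patL 810 s20 = true := by decide +kernel
theorem fact21 : factsK nets ivx R 17 920808 (2 ^ 20) nd T DT patL 850 s21 = true := by decide +kernel
theorem fact22 : factsK nets ivx R 17 920808 (2 ^ 20) nd T DT patL 890 s22 = true := by decide +kernel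

end Cfsg.Agent.Lib.FEWF0
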