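import Mathlib
import Cfsg.Agent.Lib.FR_EIG

/-! S2207: `sq` is proved in `FR_EIG`. -/
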