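import Cfsg.Agent.Lib.FR_NTS
import Cfsg.Agent.Lib.FR_OE31
import Cfsg.Agent.Lib.FR_AVE
import Cfsg.Agent.Lib.FR_CTI
import Cfsg.Agent.Lib.FR_EIG
import Cfsg.Agent.Lib.FR_SQ
import Cfsg.Agent.Lib.FR_ETI
import Cfsg.Agent.Lib.FR_FIN16
import Cfsg.Agent.Lib.FR_FIN5
import Cfsg.Agent.Lib.FR_INV
import Cfsg.Agent.Lib.FR_KC
import Cfsg.Agent.Lib.FR_KE
import Cfsg.Agent.Lib.FR_NTF
import Cfsg.Agent.Lib.FR_ORB
import Cfsg.Agent.Lib.FR_Q34
import Cfsg.Agent.Lib.FR_SET1
import Cfsg.Agent.Lib.FR_SET2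
import Cfsg.Agent.Lib.FR_SET3
import Cfsg.Agent.Lib.FR_SET4
import Cfsg.Agent.Lib.FR_SET5
import Cfsg.Agent.Lib.FR_VAR
import Cfsg.Agent.Lib.FR_ZA1
import Cfsg.Agent.Lib.FR_ZBD
import Cfsg.Agent.Lib.FR_ZC
import Cfsg.Agent.Lib.FR_CNT
import Cfsg.Agent.Lib.FR_PAR
import Cfsg.Agent.Lib.FR_S2T
import Cfsg.Agent.Lib.FR_TRS
import Cfsg.Agent.Lib.FR_TIF

set_option autoImplicit false
set_option linter.all false

namespace Cfsg.Agent.Lib.FR

open MulAction Subgroup

variable {G X : Type*} [Group G] [Finite G] [Finite X] [MulAction G X] {D : X → X → Prop} {K : X → Subgroup G}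
  {k h l lam mu : ℕ}

theorem exists_rk [Nonempty X] (R : R0 G X D) : ∃ (K : X → Subgroup G) (k h l lam mu : ℕ), Rk G X D K k h l lam mu := by
  obtain ⟨K, k, h, R'⟩ := set2 R
  obtain ⟨l, lam, mu, hl, hcN, hcX, hlam, hmu, heq⟩ := set3 R k R'.cD
  obtain ⟨p1, p2, p3⟩ := set4 R
  have p4 := set5 R K k h R'
  refine ⟨K, k, h, l, lam, mu, ?_⟩
  exact
    { irr := R.irr, symm := R.symm, inv := R.inv, trX := R.trX, trD := R.trD, trN := R.trN, faith := R.faith
      Kst := R'.Kst, Kconj := R'.Kconj, Kcard := R'.Kcard, Kreg := R'.Kreg, Kfree := R'.Kfree, Knil := R'.Knil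
      Hcard := R'.Hcard, Hfree := R.Hfree, Kall := R'.Kall, h2 := R'.h2, hk := R'.hk, k2 := R'.k2, card := R'.card
      cD := R'.cD, cN := hcN, l1 := hl, cX := hcX, clam := hlam, cmu := hmu, eq1 := heq
      mupos := by
        by_contra hcon
        have hm : mu = 0 := by omega
        obtain ⟨a⟩ : Nonempty X := by
          have : 0 < Nat.card X := by rw [hcX]; omega
          exact (Nat.card_pos_iff.mp this).1
        obtain ⟨c, hc1, hc2⟩ := R.exN a
        obtain ⟨b, hb⟩ := p1 a c hc1.symm hc2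
        have := hmu a c hc1.symm hc2
        rw [hm] at this
        have h0 : IsEmpty {b // D a b ∧ D c b} := (Nat.card_eq_zero.mp this).resolve_right (fun h => h.false)
        exact h0.false ⟨b, hb⟩
      mulk := by
        obtain ⟨a⟩ : Nonempty X := by
          have : 0 < Nat.card X := by rw [hcX]; omega
          exact (Nat.card_pos_iff.mp this).1
        obtain ⟨c, hc1, hc2⟩ := R.exN a
        rw [← hmu a c hc1.symm hc2, ← R'.cD a]
        have hnot : ¬ ∀ b, D a b → D c b := fun hall => hc1 (p2 a c hall).symm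
        push Not at hnot
        obtain ⟨b, hb1, hb2⟩ := hnot
        have hinj : Function.Injective (fun t : {b // D a b ∧ D c b} => (⟨t.1, t.2.1⟩ : {b // D a b})) := by
          intro s t hst
          exact Subtype.ext (congrArg (fun z : {b // D a b} => z.1) hst)
        refine lt_of_le_of_ne (Nat.card_le_card_of_injective _ hinj) ?_
        intro hcard
        have hbij := (Nat.bijective_iff_injective_and_card (f := fun t : {b // D a b ∧ D c b} => (⟨t.1, t.2.1⟩ : {b // D a b}))).mpr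
          ⟨hinj, hcard⟩
        obtain ⟨⟨t, ht1, ht2⟩, hteq⟩ := hbij.2 ⟨b, hb1⟩
        have : t = b := congrArg (fun z : {b // D a b} => z.1) hteq
        exact hb2 (this ▸ ht2)
      prim1 := p4, prim2 := p3, prim3 := p2 }

/-- all Γ-pairs are conjugate, so either TI or NT. -/
theorem ti_or_nt (R : Rk G X D K k h l lam mu) : TI K ∨ NT D K := by
  by_cases hti : TI K
  · exact Or.inl hti
  · right
    unfold TI at hti
    push Not at hti
    obtain ⟨a, c, hac, x, hxa, hxc, hx1⟩ := hti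
    have hN : ¬ D a c := fun hD => hx1 (R.Kfree a c x hxa hD (R.Kst c x hxc))
    intro a' c' hac' hN'
    obtain ⟨g, hga, hgc⟩ := R.trN a c a' c' hac hN hac' hN'
    refine ⟨g * x * g⁻¹, ?_, ?_, ?_⟩
    · rw [← hga]; exact R.Kconj g a x hxa
    · rw [← hgc]; exact R.Kconj g c x hxc
    · intro h1
      apply hx1
      rw [mul_inv_eq_one] at h1
      exact mul_left_cancel (h1.trans (mul_one g).symm)

theorem fix_even (R : Rk G X D K k h l lam mu) (hev : Even h) {z : G} (hz : z ∈ IC (G := G) X) : Even (fx X z) := by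
  classical
  have hpt : ∀ a : X, z • a = a → ∃! b, D a b ∧ z • b = b := fun a ha => (inv_inv R hev hz ha).2
  let f : {x : X // z • x = x} → {x : X // z • x = x} := fun t => ⟨(hpt t.1 t.2).choose, (hpt t.1 t.2).choose_spec.1.2⟩
  have hfD : ∀ t, D t.1 (f t).1 := fun t => (hpt t.1 t.2).choose_spec.1.1
  have hff : Function.Involutive f := by
    intro t
    apply Subtype.ext
    exact ((hpt (f t).1 (f t).2).choose_spec.2 t.1 ⟨R.symm _ _ (hfD t), t.2⟩).symm
  have hne : ∀ t, f t ≠ t := fun t hcon => R.irr t.1 (by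
    have := hfD t
    rw [hcon] at this
    exact this)
  let _ : Fintype {x : X // z • x = x} := Fintype.ofFinite _
  unfold fx
  rw [Nat.card_eq_fintype_card]
  have : Fact (Nat.Prime 2) := ⟨Nat.prime_two⟩
  let e : Function.End {x : X // z • x = x} := f
  have he : e ^ 2 ^ 1 = 1 := by
    funext t
    show f (f t) = t
    exact hff t
  have h1 := Equiv.Perm.card_fixedPoints_modEq (p := 2) (n := 1) he
  have h2 : IsEmpty (Function.fixedPoints e) := ⟨fun t => hne t.1 t.2⟩
  rw [Fintype.card_eq_zero (α := Function.fixedPoints e)] at h1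
  exact even_iff_two_dvd.mpr (Nat.modEq_zero_iff_dvd.mp h1)

/-- order of `G` -/
theorem card_G (R : Rk G X D K k h l lam mu) : Nat.card G = (1 + k + l) * (k * h) := by
  obtain ⟨a⟩ : Nonempty X := by
    have : 0 < Nat.card X := by rw [R.cX]; omega
    exact (Nat.card_pos_iff.mp this).1
  have h1 := Subgroup.card_mul_index (stabilizer G a)
  have h2 : (stabilizer G a).index = Nat.card X := by
    have : MulAction.IsPretransitive G X := ⟨R.trX⟩
    rw [Subgroup.index_eq_card]
    exact Nat.card_congr ((MulAction.orbitEquivQuotientStabilizer G a).symm.trans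
      ((Equiv.setCongr (MulAction.orbit_eq_univ G a)).trans (Equiv.Set.univ X)))
  rw [h2, R.card a, R.cX] at h1
  rw [← h1]; ring

theorem odd_case (R : Rk G X D K k h l lam mu) (hodd : Odd h) : False := by
  have hpar : ∀ a c, a ≠ c → ¬ D a c → ∀ g : G, g • a = a → g • c = c → g ∈ K a := fun a c hac hN g ga gc =>
    FR_PAR.par R hodd hac hN ga gc
  have hk := keven R hodd
  rcases ti_or_nt R with ti | nt
  · exact eti R hodd hpar hk ti
  · have hS : S2 D K := by
      intro a c hac hN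
      refine s2t R hodd hpar hk hac hN ?_
      intro hbot
      obtain ⟨x, hxa, hxc, hx1⟩ := nt a c hac hN
      exact hx1 (by
        have : x ∈ K a ⊓ K c := ⟨hxa, hxc⟩
        rw [hbot] at this
        exact this)
    have hz : ∀ a c, a ≠ c → ¬ D a c → ∃ u ∈ Za K a, u ∉ K c := fun a c hac hN => za1 R hk hac hN
    have hb : ∀ (a c : X) (u : G), u ∈ Za K a → u • c = c → u ≠ 1 → u ∈ Za K c := by
      intro a c u hu hc hu1
      exact zb R hk hpar nt hS hz hu hc hu1
    have hc : ∀ (a : X) (u : G), u ∈ Za K a → u ≠ 1 → ∃ c, c ≠ a ∧ u • c = c := fun a u hu hu1 =>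
      zc R hk hpar nt hS hu hu1
    have hd : ∀ (a : X) (u : G), u ∈ Za K a → u ≠ 1 → ∀ x, ¬ D x (u • x) := fun a u hu hu1 x =>
      zd R hk hpar nt hS hb hc hu hu1 x
    have h1 : ∀ (a : X) (u : G), u ∈ Za K a → u ≠ 1 → fx X u ≤ l + 1 ∧ 1 + k + l = fx X u * (l + 2 - fx X u) :=
      fun a u hu hu1 => cnt R hk hpar nt hS hb hd hu hu1
    have h2 : ∀ (a : X) (u : G), u ∈ Za K a → u ≠ 1 →
        fx X u * k ^ 2 ≤ (1 + k + l - fx X u) * (k + (fx X u - 1) * mu) := by
      intro a u hu hu1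
      refine var R {x : X | u • x = x} ?_ ⟨a, R.Kst a u hu.1⟩
      intro x hx y hy hD
      have hux := hb a x u hu hx hu1
      exact hu1 (R.Kfree x y u hux.1 hD hy)
    exact odd_end31 R hodd hpar hk h1 h2 (fun a => ave R hpar hS hz a) (hl R).1 (hl R).2

theorem even_ti_case (R : Rk G X D K k h l lam mu) (hev : Even h) (ti : TI K) :
    (k = 3 ∧ h = 2 ∧ l = 6) ∨ (k = 5 ∧ h = 4 ∧ l = 10) := by
  obtain ⟨r, s, hlr, hrs, hr2, hre, heq, hsm, hhl, hst, hfx⟩ := trs R hev ti
  have hh2 := R.h2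
  have hspos : 0 < s := by
    rcases Nat.eq_zero_or_pos s with h0 | h0
    · rw [h0, mul_zero] at hrs; omega
    · exact h0
  obtain ⟨nD, nN, hnD, hnN, hcnt, hal, hnum⟩ := cti R hev ti hlr hrs hst hfx
  obtain ⟨a⟩ : Nonempty X := by
    have : 0 < Nat.card X := by rw [R.cX]; omega
    exact (Nat.card_pos_iff.mp this).1
  -- an involution with a fixed point
  obtain ⟨z, hz⟩ : ∃ z : G, z ∈ IC (G := G) X := by
    have h1 := inv_num R hev a
    have hk3 := R.k2
    have : 0 < Nat.card {z // z ∈ IC (G := G) X ∧ z • a = a} := by rw [h1]; omega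
    obtain ⟨⟨z, hz, -⟩⟩ := (Nat.card_pos_iff.mp this).1
    exact ⟨z, hz⟩
  have hsq : ∃ t : ℕ, (t : ℤ) ^ 2 = ((lam : ℤ) - mu) ^ 2 + 4 * ((k : ℤ) - mu) := by
    rcases sq R with h | h
    · exact h
    · exfalso
      have hk3 := R.k2
      rw [hlr] at h
      have : 2 * k ≤ r * k := Nat.mul_le_mul_right k hr2
      omega
  refine tif hh2 R.hk R.k2 hlr hrs hr2 hre heq hsm hhl R.mupos hsq nD nN hnD hnN hcnt
    (fun hse => q34 R hev ti hse hspos hst hnum) ?_ ?_
  · intro th ta e1 e2 e3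
    have h1 := eig R th ta e1 e2 e3 1
    have ha1 : al D (1 : G) = 0 := by
      unfold al
      rw [Nat.card_eq_zero]
      left
      exact ⟨fun t => R.irr t.1 (by simpa using t.2)⟩
    have hf1 : fx X (1 : G) = 1 + k + l := by
      unfold fx
      rw [← R.cX]
      exact Nat.card_congr (Equiv.subtypeUnivEquiv (fun x => one_smul G x))
    rw [ha1, hf1] at h1
    have : ((0 : ℕ) : ℤ) - k + ta * (((1 + k + l : ℕ) : ℤ) - 1) = - (k : ℤ) + ta * ((k : ℤ) + l) := by
      push_cast; ring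
    rw [this] at h1
    exact h1
  · intro hse hlam
    obtain ⟨u, hu1, hu2, hu3, hu4⟩ := orb R hev ti hlr hrs hse hspos hst hlam
    have hfz := hfx z hz
    rw [if_pos hse] at hfz
    refine ⟨u, hu1, hu2, ?_, ?_, ?_⟩
    · have h1 := hal z hz
      rw [if_pos hse] at h1
      rw [← h1]
      exact hu3 z hz
    · intro th ta e1 e2 e3
      have h1 := eig R th ta e1 e2 e3 z
      rw [hu3 z hz, hfz] at h1
      have : (((r * u : ℕ) : ℤ)) - k + ta * (((r + 2 : ℕ) : ℤ) - 1) = (r : ℤ) * u - k + ta * (r + 1) := by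
        push_cast; ring
      rw [this] at h1
      exact h1
    · intro hhk
      obtain ⟨a', ha1, ha2⟩ := hu4 hhk
      refine ⟨a', ha1, ?_⟩
      intro th ta e1 e2 e3
      -- a non-trivial element of K_a
      have hk3 := R.k2
      obtain ⟨x, hx, hx1⟩ : ∃ x ∈ K a, x ≠ 1 := by
        by_contra hcon
        push Not at hcon
        have : K a = ⊥ := (Subgroup.eq_bot_iff_forall _).mpr hcon
        have hc := R.Kcard a
        rw [this, Subgroup.card_bot] at hc
        omega
      obtain ⟨h5, h6⟩ := ha2 a x hx hx1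
      have h1 := eig R th ta e1 e2 e3 x
      rw [h5, h6] at h1
      have : (((k * a' : ℕ) : ℤ)) - k + ta * (((1 : ℕ) : ℤ) - 1) = (k : ℤ) * a' - k := by
        push_cast; ring
      rw [this] at h1
      exact h1

theorem even_nt_case (R : Rk G X D K k h l lam mu) (hev : Even h) (nt : NT D K) : k = 9 ∧ h = 4 ∧ l = 6 := by
  obtain ⟨h3, hlh, hF⟩ := nts R hev nt
  have hh2 := R.h2
  have hk3 := R.k2
  obtain ⟨a⟩ : Nonempty X := by
    have : 0 < Nat.card X := by rw [R.cX]; omega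
    exact (Nat.card_pos_iff.mp this).1
  obtain ⟨z, hz⟩ : ∃ z : G, z ∈ IC (G := G) X := by
    have h1 := inv_num R hev a
    have : 0 < Nat.card {z // z ∈ IC (G := G) X ∧ z • a = a} := by rw [h1]; omega
    obtain ⟨⟨z, hz, -⟩⟩ := (Nat.card_pos_iff.mp this).1
    exact ⟨z, hz⟩
  have hne : h ≠ 2 := by
    intro h2
    have h1 := hF z hz
    obtain ⟨c, hc⟩ := fix_even R hev hz
    omega
  -- k is a power of 3
  have hp : IsPGroup 3 (K a) := by
    intro x
    exact ⟨1, Subtype.ext (h3 a x x.2)⟩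
  have : Fact (Nat.Prime 3) := ⟨Nat.prime_three⟩
  obtain ⟨J, hJ⟩ := IsPGroup.iff_card.mp hp
  rw [R.Kcard a] at hJ
  have hJ2 : 2 ≤ J := by
    by_contra hcon
    have : J = 0 ∨ J = 1 := by omega
    have hdvd := R.hk
    rcases this with h0 | h0
    · rw [h0] at hJ; omega
    · rw [h0] at hJ
      have hk : k = 3 := by omega
      rw [hk] at hdvd
      have : h ≤ 2 := Nat.le_of_dvd (by norm_num) hdvd
      omega
  have hfz := hF z hz
  have hv := vam R {x : X | z • x = x} (by
    intro x hx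
    obtain ⟨b, ⟨hb1, hb2⟩, hb3⟩ := (inv_inv R hev hz hx).2
    exact ⟨b, ⟨hb2, hb1⟩, fun y hy => hb3 y ⟨hy.2, hy.1⟩⟩) (by
    obtain ⟨-, -, y, hy⟩ := hz
    exact ⟨y, hy⟩)
  exact ntf hh2 R.hk hJ hJ2 hlh hev R.eq1 (hl R).1 R.mupos R.mulk hfz hne hv (sq R)

end Cfsg.Agent.Lib.FR
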