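import Cfsg.Agent.Lib.FRa
import Cfsg.Agent.Lib.MinimalClass

/-! S2207, piece OE: end of the case `h` odd (helper13). -/

set_option autoImplicit false
set_option linter.all false

namespace Cfsg.Agent.Lib.FR

open MulAction Subgroup

variable {G X : Type*} [Group G] [Finite G] [Finite X] [MulAction G X] {D : X → X → Prop} {K : X → Subgroup G}
  {k h l lam mu : ℕ}

theorem oe_center {N : Type*} [Group N] [Finite N] (hn : Group.IsNilpotent N) (h2 : 2 ∣ Nat.card N) :
    ∃ z : N, z ≠ 1 ∧ z ^ 2 = 1 ∧ ∀ x : N, z * x = x * z := by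
  haveI : Fact (Nat.Prime 2) := ⟨Nat.prime_two⟩
  let P : Sylow 2 N := default
  have hPn : (P : Subgroup N).Normal := by
    have h3 : ∀ (p : ℕ) (_hp : Fact p.Prime) (P : Sylow p N), (P : Subgroup N).Normal :=
      ((Group.isNilpotent_of_finite_tfae (G := N)).out 0 3).1 hn
    exact h3 2 inferInstance P
  have hPb : (P : Subgroup N) ≠ ⊥ := P.ne_bot_of_dvd_card h2
  obtain ⟨x, hx, hxc, hx1⟩ : ∃ x ∈ (P : Subgroup N), x ∈ center N ∧ x ≠ 1 := by
    have := MinimalClass.exists_mem_center_of_normal (P : Subgroup N) hPb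
    obtain ⟨x, hx⟩ := this
    exact ⟨x, by tauto⟩
  obtain ⟨j, hj⟩ := P.isPGroup' ⟨x, hx⟩
  have hj' : x ^ 2 ^ j = 1 := by simpa using congrArg Subtype.val hj
  obtain ⟨m, -, hm⟩ := (Nat.dvd_prime_pow Nat.prime_two).1 (orderOf_dvd_of_pow_eq_one hj')
  rcases m with _ | m
  · rw [pow_zero, orderOf_eq_one_iff] at hm
    exact absurd hm hx1
  · refine ⟨x ^ 2 ^ m, ?_, ?_, ?_⟩
    · intro h
      have h3 := Nat.le_of_dvd (by positivity) (orderOf_dvd_of_pow_eq_one h)
      rw [hm, pow_succ] at h3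
      have : 0 < 2 ^ m := by positivity
      omega
    · rw [← pow_mul, ← pow_succ, ← hm, pow_orderOf_eq_one]
    · intro y
      exact ((mem_center_iff.1 (pow_mem hxc _)) y).symm

/-- two different elements `≠ 1` of `Za` -/
theorem oe_za (R : Rk G X D K k h l lam mu) (hk : Even k) (a : X) :
    ∃ u v : G, u ∈ Za K a ∧ v ∈ Za K a ∧ u ≠ 1 ∧ v ≠ 1 ∧ u ≠ v := by
  obtain ⟨⟨u, huK⟩, hu1, hu2, huc⟩ := oe_center (R.Knil a) (by rw [R.Kcard a]; exact hk.two_dvd)
  have hu1' : u ≠ 1 := fun h => hu1 (Subtype.ext h)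
  have hu2' : u ^ 2 = 1 := by simpa using congrArg Subtype.val hu2
  have huc' : ∀ x ∈ K a, u * x = x * u := fun x hx => by simpa using congrArg Subtype.val (huc ⟨x, hx⟩)
  -- a neighbour
  obtain ⟨b, hab⟩ : ∃ b, D a b := by
    by_contra hcon
    push Not at hcon
    have h1 := R.cD a
    haveI : IsEmpty {b // D a b} := ⟨fun b => hcon b.1 b.2⟩
    rw [Nat.card_of_isEmpty] at h1
    have := R.k2
    omega
  -- an element of `G_ab`
  obtain ⟨g, hg, hg1⟩ : ∃ g ∈ stabilizer G a ⊓ stabilizer G b, g ≠ 1 := by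
    by_contra hcon
    push Not at hcon
    have h1 := R.Hcard a b hab
    have h3 : stabilizer G a ⊓ stabilizer G b = ⊥ := by
      rw [eq_bot_iff]
      intro x hx
      exact mem_bot.2 (hcon x hx)
    rw [h3, card_bot] at h1
    have := R.h2
    omega
  obtain ⟨ga, gb⟩ := mem_inf.1 hg
  rw [mem_stabilizer_iff] at ga gb
  refine ⟨u, g * u * g⁻¹, ⟨huK, hu2', huc'⟩, ⟨?_, ?_, ?_⟩, hu1', ?_, ?_⟩
  · have := R.Kconj g a u huK
    rwa [ga] at this
  · rw [conj_pow, hu2', mul_one, mul_inv_cancel]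
  · intro x hx
    have h1 : g⁻¹ * x * g ∈ K a := by
      have h2 := R.Kconj g⁻¹ a x hx
      rw [inv_inv] at h2
      have h3 : g⁻¹ • a = a := by rw [inv_smul_eq_iff, ga]
      rwa [h3] at h2
    have h2 := huc' _ h1
    calc g * u * g⁻¹ * x = g * (u * (g⁻¹ * x * g)) * g⁻¹ := by group
      _ = g * ((g⁻¹ * x * g) * u) * g⁻¹ := by rw [h2]
      _ = x * (g * u * g⁻¹) := by group
  · intro h
    apply hu1'
    calc u = g⁻¹ * (g * u * g⁻¹) * g := by group
      _ = 1 := by rw [h]; group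
  · intro h
    have h1 : g * u = u * g := by
      calc g * u = (g * u * g⁻¹) * g := by group
        _ = u * g := by rw [← h]
    apply hg1
    have hub : u • b ≠ b := fun h2 => hu1' (R.Kfree a b u huK hab h2)
    have hub' : D a (u • b) := by
      have := R.inv u a b hab
      rwa [R.Kst a u huK] at this
    refine R.Hfree a b (u • b) g hab hub' hub.symm ga gb ?_
    rw [← mul_smul, h1, mul_smul, gb]

/-- the arithmetic for one element -/
theorem oe_num {F : ℕ} (k3 : 3 ≤ k) (l1 : 1 ≤ l) (mulk : mu < k) (eq1 : k * k = k + k * lam + l * mu) (hl : h ∣ l) (hh : 2 ≤ h)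
    (hk1 : h ∣ k - 1) (hlam : h ∣ lam) (h1 : F ≤ l + 1 ∧ 1 + k + l = F * (l + 2 - F))
    (h2 : F * k ^ 2 ≤ (1 + k + l - F) * (k + (F - 1) * mu)) : (F - 1) * h ≤ l ∧ (F - 1) * (l + 1 - F) = k := by
  obtain ⟨hF, hE⟩ := h1
  have hF1 : 1 ≤ F := by
    rcases Nat.eq_zero_or_pos F with h0 | h0
    · rw [h0] at hE; omega
    · exact h0
  obtain ⟨f, rfl⟩ : ∃ f, F = f + 1 := ⟨F - 1, by omega⟩
  obtain ⟨g, rfl⟩ : ∃ g, l = f + g := ⟨l - f, by omega⟩
  have e1 : f + g + 2 - (f + 1) = g + 1 := by omega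
  rw [e1] at hE
  have hk : k = f * g := by nlinarith
  have e2 : f + g + 1 - (f + 1) = g := by omega
  rw [Nat.add_sub_cancel, e2]
  refine ⟨?_, hk.symm⟩
  rw [Nat.add_sub_cancel] at h2
  have e3 : 1 + k + (f + g) - (f + 1) = (f + 1) * g := by
    have : (f + 1) * g = f * g + g := by ring
    omega
  rw [e3] at h2
  -- `k ≤ g + mu`
  have h3 : k ≤ g + mu := by
    have h4 : (f + 1) * (k * k) ≤ (f + 1) * (k * (g + mu)) := by
      calc (f + 1) * (k * k) = (f + 1) * k ^ 2 := by ring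
        _ ≤ (f + 1) * g * (k + f * mu) := h2
        _ = (f + 1) * (g * k + (f * g) * mu) := by ring
        _ = (f + 1) * (k * (g + mu)) := by rw [← hk]; ring
    have h5 := Nat.le_of_mul_le_mul_left h4 (by omega)
    exact Nat.le_of_mul_le_mul_left h5 (by omega)
  -- `k (l + 1 + lam) = ...`
  have h6 : k * (f + g + 1 + lam) = k * k + (f + g) * (k - mu) := by
    obtain ⟨d, rfl⟩ : ∃ d, k = mu + d := ⟨k - mu, by omega⟩
    rw [Nat.add_sub_cancel_left]
    nlinarith
  -- `h ∣ l + 1 + lam - k`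
  obtain ⟨d, hd⟩ : ∃ d, f + g + 1 + lam = k + d ∧ 0 < d := by
    have h7 : k * k < k * (f + g + 1 + lam) := by
      rw [h6]
      have : 0 < (f + g) * (k - mu) := Nat.mul_pos (by omega) (by omega)
      omega
    have h8 := lt_of_mul_lt_mul_left h7 (Nat.zero_le k)
    exact ⟨f + g + 1 + lam - k, by omega, by omega⟩
  obtain ⟨hd, hd0⟩ := hd
  have h7 : h ∣ d := by
    have h8 : h ∣ (f + g) + lam := Dvd.dvd.add hl hlam
    have h9 : (f + g) + lam = (k - 1) + d := by omega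
    rw [h9] at h8
    exact (Nat.dvd_add_right hk1).1 h8
  have h8 : k * d = (f + g) * (k - mu) := by
    have : k * (k + d) = k * k + (f + g) * (k - mu) := by rw [← hd, h6]
    nlinarith
  have h9 : h ≤ d := Nat.le_of_dvd hd0 h7
  have h10 : k * h ≤ (f + g) * g := by
    calc k * h ≤ k * d := Nat.mul_le_mul_left k h9
      _ = (f + g) * (k - mu) := h8
      _ ≤ (f + g) * g := Nat.mul_le_mul_left _ (by omega)
  have hg : 0 < g := by
    rcases Nat.eq_zero_or_pos g with h0 | h0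
    · rw [h0] at hk; omega
    · exact h0
  have h11 : g * (f * h) ≤ g * (f + g) := by
    calc g * (f * h) = k * h := by rw [hk]; ring
      _ ≤ (f + g) * g := h10
      _ = g * (f + g) := by ring
  exact Nat.le_of_mul_le_mul_left h11 hg

theorem odd_end (R : Rk G X D K k h l lam mu) (hodd : Odd h)
    (hpar : ∀ a c, a ≠ c → ¬ D a c → ∀ g : G, g • a = a → g • c = c → g ∈ K a) (hk : Even k)
    (h1 : ∀ (a : X) (u : G), u ∈ Za K a → u ≠ 1 → fx X u ≤ l + 1 ∧ 1 + k + l = fx X u * (l + 2 - fx X u))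
    (h2 : ∀ (a : X) (u : G), u ∈ Za K a → u ≠ 1 → fx X u * k ^ 2 ≤ (1 + k + l - fx X u) * (k + (fx X u - 1) * mu))
    (h3 : ∀ a : X, ∃ z : ℕ, Nat.card (Za K a) = 2 * z ∧ ∑ᶠ u ∈ {u | u ∈ Za K a ∧ u ≠ 1}, (fx X u - 1) = l * (z - 1))
    (h4 : h ∣ lam) (h5 : ∀ a c, a ≠ c → ¬ D a c → l * Nat.card ↥(stabilizer G a ⊓ stabilizer G c) = k * h) : False := by
  have k3 := R.k2
  have hh := R.h2
  have l1 := R.l1
  -- a point and a point of the second suborbit
  obtain ⟨a⟩ : Nonempty X := by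
    by_contra hcon
    rw [not_nonempty_iff] at hcon
    have := R.cX
    rw [Nat.card_of_isEmpty] at this
    omega
  obtain ⟨c, hca, hac⟩ : ∃ c, c ≠ a ∧ ¬ D a c := by
    by_contra hcon
    haveI : IsEmpty {c // c ≠ a ∧ ¬ D a c} := ⟨fun b => hcon ⟨b.1, b.2⟩⟩
    have := R.cN a
    rw [Nat.card_of_isEmpty] at this
    omega
  have hcop : Nat.Coprime h k := by
    obtain ⟨w, hw⟩ := R.hk
    have : k = 1 + h * w := by omega
    rw [this, Nat.coprime_add_mul_left_right]
    exact Nat.coprime_one_right h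
  -- `h ∣ l`
  have hl : h ∣ l := by
    have h6 := h5 a c hca.symm hac
    have h7 : Nat.card ↥(stabilizer G a ⊓ stabilizer G c) ∣ k := by
      rw [← R.Kcard a]
      apply Subgroup.card_dvd_of_le
      intro g hg
      obtain ⟨ga, gc⟩ := mem_inf.1 hg
      exact hpar a c hca.symm hac g ga gc
    have h8 : Nat.Coprime h (Nat.card ↥(stabilizer G a ⊓ stabilizer G c)) := Nat.Coprime.coprime_dvd_right h7 hcop
    apply h8.dvd_of_dvd_mul_right
    rw [h6]
    exact Dvd.intro_left k rfl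
  -- for each element
  have hnum : ∀ u, u ∈ Za K a → u ≠ 1 → (fx X u - 1) * h ≤ l ∧ (fx X u - 1) * (l + 1 - fx X u) = k := fun u hu hu1 =>
    oe_num k3 l1 R.mulk R.eq1 hl hh R.hk h4 (h1 a u hu hu1) (h2 a u hu hu1)
  obtain ⟨z, hz, hsum⟩ := h3 a
  obtain ⟨u, v, hu, hv, hu1, hv1, huv⟩ := oe_za R hk a
  have hone : (1 : G) ∈ Za K a := ⟨(K a).one_mem, one_pow 2, fun x _ => by rw [one_mul, mul_one]⟩
  have hfin : (Za K a).Finite := Set.toFinite _
  have hcz : Nat.card (Za K a) = (Za K a).ncard := rfl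
  have hz2 : 2 ≤ z := by
    have h6 : ({1, u, v} : Set G) ⊆ Za K a := by
      rintro x (rfl | rfl | rfl)
      · exact hone
      · exact hu
      · exact hv
    have h7 := Set.ncard_le_ncard h6 hfin
    have h8 : ({1, u, v} : Set G).ncard = 3 := by
      rw [Set.ncard_eq_three]
      exact ⟨1, u, v, hu1.symm, hv1.symm, huv, rfl⟩
    omega
  -- the sum
  set S : Set G := {u | u ∈ Za K a ∧ u ≠ 1} with hS
  have hSfin : S.Finite := Set.toFinite _
  have hSc : S.ncard + 1 = 2 * z := by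
    have h6 : S = Za K a \ {1} := by
      ext x; simp [hS]
    rw [h6, Set.ncard_diff_singleton_add_one hone hfin, ← hcz, hz]
  have h6 : h * (l * (z - 1)) ≤ S.ncard * l := by
    rw [← hsum, finsum_mem_eq_finite_toFinset_sum _ hSfin, Finset.mul_sum]
    calc ∑ i ∈ hSfin.toFinset, h * (fx X i - 1) ≤ ∑ i ∈ hSfin.toFinset, l := by
          apply Finset.sum_le_sum
          intro i hi
          rw [Set.Finite.mem_toFinset] at hi
          have := (hnum i hi.1 hi.2).1
          rw [mul_comm]; exact this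
      _ = S.ncard * l := by
          rw [Finset.sum_const, smul_eq_mul, Set.ncard_eq_toFinset_card _ hSfin]
  have h7 : h * (z - 1) ≤ S.ncard := by
    have : l * (h * (z - 1)) ≤ l * S.ncard := by
      calc l * (h * (z - 1)) = h * (l * (z - 1)) := by ring
        _ ≤ S.ncard * l := h6
        _ = l * S.ncard := by ring
    exact Nat.le_of_mul_le_mul_left this (by omega)
  have hh3 : h = 3 := by
    obtain ⟨y, rfl⟩ : ∃ y, z = y + 2 := ⟨z - 2, by omega⟩
    have e1 : y + 2 - 1 = y + 1 := by omega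
    rw [e1] at h7
    have h8 : h ≤ 3 := by
      by_contra hcon
      have h9 : 4 * (y + 1) ≤ h * (y + 1) := Nat.mul_le_mul_right _ (by omega)
      omega
    obtain ⟨w, hw⟩ := hodd
    omega
  subst hh3
  -- mod 3
  obtain ⟨h8, h9⟩ := hnum u hu hu1
  have h10 := (h1 a u hu hu1).1
  have hF1 : 1 ≤ fx X u := by
    by_contra hcon
    have : fx X u - 1 = 0 := by omega
    rw [this] at h9
    omega
  obtain ⟨f, hf⟩ : ∃ f, fx X u = f + 1 := ⟨fx X u - 1, by omega⟩
  rw [hf] at h9 h10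
  obtain ⟨g, hg⟩ : ∃ g, l = f + g := ⟨l - f, by omega⟩
  have e2 : l + 1 - (f + 1) = g := by omega
  rw [e2, Nat.add_sub_cancel] at h9
  obtain ⟨w, hw⟩ := R.hk
  have hkm : (f * g) % 3 = 1 := by omega
  have hlm : (f + g) % 3 = 0 := by omega
  have h11 : (f * g) % 3 = ((f % 3) * (g % 3)) % 3 := Nat.mul_mod f g 3
  have h12 : f % 3 = 0 ∨ f % 3 = 1 ∨ f % 3 = 2 := by omega
  have h13 : g % 3 = 0 ∨ g % 3 = 1 ∨ g % 3 = 2 := by omega
  rcases h12 with h12 | h12 | h12 <;> rcases h13 with h13 | h13 | h13 <;> rw [h12, h13] at h11 <;> omega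

end Cfsg.Agent.Lib.FR
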