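import Cfsg.Agent.Lib.FRa
import Cfsg.Agent.S0034
import Cfsg.Agent.S0035
import Cfsg.Agent.S0042

/-! S2207, piece SET2 (helper37): the Frobenius kernels. -/

set_option autoImplicit false
set_option linter.all false

namespace Cfsg.Agent.Lib.FR

open MulAction Subgroup Pointwise

variable {G X : Type*} [Group G] [Finite G] [Finite X] [MulAction G X] {D : X → X → Prop}

theorem set2_ne (R : R0 G X D) {a b : X} (hab : D a b) : ∃ b', D a b' ∧ b' ≠ b := by
  by_contra hcon
  push Not at hcon
  have h1 : ∀ x y z, D x y → D x z → z = y := by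
    intro x y z hxy hxz
    obtain ⟨g, hg1, hg2⟩ := R.trD x y a b hxy hab
    have h2 := R.inv g x z hxz
    rw [hg1] at h2
    have h3 := hcon _ h2
    rw [← hg2] at h3
    exact MulAction.injective g h3
  haveI := R.prim
  have hB : IsBlock G ({a, b} : Set X) := by
    rw [isBlock_iff_smul_eq_or_disjoint]
    intro g
    by_cases hd : Disjoint (g • ({a, b} : Set X)) {a, b}
    · exact Or.inr hd
    · left
      have e1 : g • ({a, b} : Set X) = {g • a, g • b} := by
        rw [Set.smul_set_insert, Set.smul_set_singleton]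
      have hgab := R.inv g a b hab
      have hba := R.symm a b hab
      rw [Set.not_disjoint_iff] at hd
      obtain ⟨x, hx1, hx2⟩ := hd
      rw [e1] at hx1 ⊢
      rcases hx1 with rfl | hx1
      · rcases hx2 with hx2 | hx2
        · rw [hx2] at hgab ⊢
          rw [h1 a b (g • b) hab hgab]
        · have hx3 : g • a = b := hx2
          rw [hx3] at hgab ⊢
          rw [h1 b a (g • b) hba hgab, Set.pair_comm]
      · have hx3 : x = g • b := hx1
        subst hx3
        have hgba := R.symm _ _ hgab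
        rcases hx2 with hx2 | hx2
        · rw [hx2] at hgba ⊢
          rw [h1 a b (g • a) hab hgba, Set.pair_comm]
        · have hx3 : g • b = b := hx2
          rw [hx3] at hgba ⊢
          rw [h1 b a (g • a) hba hgba]
  rcases IsPreprimitive.isTrivialBlock_of_isBlock hB with h2 | h2
  · have h3 : a = b := h2 (Set.mem_insert _ _) (Set.mem_insert_of_mem _ rfl)
    rw [h3] at hab
    exact R.irr b hab
  · obtain ⟨c, hc, hac⟩ := R.exN a
    have h3 : c ∈ ({a, b} : Set X) := by rw [h2]; trivial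
    rcases h3 with h3 | h3
    · exact hc h3
    · have h4 : c = b := h3
      rw [h4] at hac
      exact hac hab

theorem set2_fc (R : R0 G X D) {a b : X} (hab : D a b) :
    Cfsg.IsFrobeniusComplement ((stabilizer G b).subgroupOf (stabilizer G a)) := by
  refine ⟨?_, ?_, ?_⟩
  · intro h
    obtain ⟨g, hga, hgb, hg1⟩ := R.Hne a b hab
    have h1 : (⟨g, hga⟩ : stabilizer G a) ∈ (stabilizer G b).subgroupOf (stabilizer G a) := hgb
    rw [h, Subgroup.mem_bot] at h1
    exact hg1 (congrArg Subtype.val h1)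
  · intro h
    obtain ⟨b', hab', hne⟩ := set2_ne R hab
    obtain ⟨g, hg1, hg2⟩ := R.trD a b a b' hab hab'
    have h1 : (⟨g, hg1⟩ : stabilizer G a) ∈ (stabilizer G b).subgroupOf (stabilizer G a) := by rw [h]; trivial
    have h2 : g • b = b := h1
    rw [h2] at hg2
    exact hne hg2.symm
  · intro g hg
    rw [Subgroup.eq_bot_iff_forall]
    intro x hx
    obtain ⟨hx1, hx2⟩ := Subgroup.mem_inf.1 hx
    rw [Subgroup.mem_pointwise_smul_iff_inv_smul_mem] at hx2
    have e1 : ((g : G)⁻¹ * x * g) • b = b := by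
      have : (MulAut.conj g)⁻¹ • x = g⁻¹ * x * g := by
        rw [← map_inv, MulAut.smul_def, MulAut.conj_apply, inv_inv]
      rw [this] at hx2
      exact hx2
    have e2 : (x : G) • ((g : G) • b) = (g : G) • b := by
      rw [mul_smul, mul_smul, inv_smul_eq_iff] at e1
      exact e1
    have e3 : D a ((g : G) • b) := by
      have := R.inv g a b hab
      have hg2 : (g : G) • a = a := g.2
      rwa [hg2] at this
    have e4 : b ≠ (g : G) • b := by
      intro h
      exact hg h.symm
    exact Subtype.ext (R.Hfree a b ((g : G) • b) x hab e3 e4 x.2 hx1 e2)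

theorem set2_K (R : R0 G X D) (a : X) : ∃ K : Subgroup G, (∀ x, x ∈ K ↔ x • a = a ∧ (x = 1 ∨ ∀ b, D a b → x • b ≠ b)) ∧
    Group.IsNilpotent K ∧ (∀ b b', D a b → D a b' → ∃ x ∈ K, x • b = b') ∧
    (∀ b, D a b → Nat.card K = ((stabilizer G b).subgroupOf (stabilizer G a)).index ∧
      ((stabilizer G b).subgroupOf (stabilizer G a)).index % Nat.card ((stabilizer G b).subgroupOf (stabilizer G a)) =
        1 % Nat.card ((stabilizer G b).subgroupOf (stabilizer G a))) := by
  have hker : ∀ b, D a b → ∀ x : stabilizer G a, x ∈ Cfsg.frobeniusKernel ((stabilizer G b).subgroupOf (stabilizer G a)) ↔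
      ((x : G) = 1 ∨ ∀ b', D a b' → (x : G) • b' ≠ b') := by
    intro b hab x
    have e0 : ∀ g : stabilizer G a, x ∈ MulAut.conj g • ((stabilizer G b).subgroupOf (stabilizer G a)) ↔
        (x : G) • ((g : G) • b) = (g : G) • b := by
      intro g
      rw [Subgroup.mem_pointwise_smul_iff_inv_smul_mem]
      have : (MulAut.conj g)⁻¹ • x = g⁻¹ * x * g := by
        rw [← map_inv, MulAut.smul_def, MulAut.conj_apply, inv_inv]
      rw [this]
      show ((g : G)⁻¹ * x * g) • b = b ↔ _
      rw [mul_smul, mul_smul, inv_smul_eq_iff]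
    show (x = 1 ∨ ∀ g : stabilizer G a, x ∉ MulAut.conj g • ((stabilizer G b).subgroupOf (stabilizer G a))) ↔ _
    constructor
    · rintro (rfl | h)
      · exact Or.inl rfl
      · right
        intro b' hab' hx
        obtain ⟨g, hg1, hg2⟩ := R.trD a b a b' hab hab'
        apply h ⟨g, hg1⟩
        rw [e0]
        show (x : G) • (g • b) = g • b
        rw [hg2, hx]
    · rintro (h | h)
      · exact Or.inl (Subtype.ext h)
      · right
        intro g hg
        rw [e0] at hg
        refine h _ ?_ hg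
        have := R.inv g a b hab
        have hg2 : (g : G) • a = a := g.2
        rwa [hg2] at this
  obtain ⟨b, hab⟩ := R.exD a
  obtain ⟨N, hN, -, hNc⟩ := Cfsg.Agent.S0035.result _ (set2_fc R hab)
  obtain ⟨N', hN', -, hNn⟩ := Cfsg.Agent.S0042.result _ (set2_fc R hab)
  have hNN : N' = N := SetLike.coe_injective (by rw [hN, hN'])
  subst hNN
  have hmem : ∀ x, x ∈ N'.map (stabilizer G a).subtype ↔ x • a = a ∧ (x = 1 ∨ ∀ b, D a b → x • b ≠ b) := by
    intro x
    constructor
    · rintro ⟨y, hy, rfl⟩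
      have hy' : y ∈ Cfsg.frobeniusKernel ((stabilizer G b).subgroupOf (stabilizer G a)) := by rw [← hN']; exact hy
      exact ⟨y.2, (hker b hab y).1 hy'⟩
    · rintro ⟨h1, h2⟩
      refine ⟨⟨x, h1⟩, ?_, rfl⟩
      have h3 := (hker b hab ⟨x, h1⟩).2 h2
      rw [← hN'] at h3
      exact h3
  have hcard : Nat.card (N'.map (stabilizer G a).subtype : Subgroup G) = Nat.card N' :=
    (Nat.card_congr (N'.equivMapOfInjective _ (Subgroup.subtype_injective _)).toEquiv).symm
  refine ⟨N'.map (stabilizer G a).subtype, hmem, ?_, ?_, ?_⟩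
  · haveI := hNn
    exact Group.nilpotent_of_mulEquiv (N'.equivMapOfInjective _ (Subgroup.subtype_injective _))
  · have key : ∀ b', D a b' → ∃ x ∈ N'.map (stabilizer G a).subtype, x • b = b' := by
      intro b' hab'
      obtain ⟨g, hg1, hg2⟩ := R.trD a b a b' hab hab'
      have h1 : (⟨g, hg1⟩ : stabilizer G a) ∈ ((N' : Set (stabilizer G a)) * ((stabilizer G b).subgroupOf (stabilizer G a) : Set (stabilizer G a))) := by
        rw [hNc.mul_eq]; trivial
      obtain ⟨n, hn, y, hy, hny⟩ := h1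
      refine ⟨n, ⟨n, hn, rfl⟩, ?_⟩
      have h2 : (y : G) • b = b := hy
      have h3 : (n : G) * y = g := congrArg Subtype.val hny
      rw [← hg2, ← h3, mul_smul, h2]
    intro b1 b2 h1 h2
    obtain ⟨x1, hx1, hx1b⟩ := key b1 h1
    obtain ⟨x2, hx2, hx2b⟩ := key b2 h2
    refine ⟨x2 * x1⁻¹, Subgroup.mul_mem _ hx2 (Subgroup.inv_mem _ hx1), ?_⟩
    rw [← hx1b, mul_smul, inv_smul_smul, hx2b]
  · intro b1 hab1
    have h34 := Cfsg.Agent.S0034.result _ (set2_fc R hab1)
    refine ⟨?_, h34.2⟩
    rw [hcard, ← h34.1]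
    have e1 : (N' : Set (stabilizer G a)) = Cfsg.frobeniusKernel ((stabilizer G b1).subgroupOf (stabilizer G a)) := by
      ext x
      rw [hker b1 hab1 x, hN', hker b hab x]
    rw [← e1]
    rfl

theorem set2 (R : R0 G X D) : ∃ (K : X → Subgroup G) (k h : ℕ), R1 G X D K k h := by
  classical
  choose K hK hKn hKr hKc using set2_K R
  rcases isEmpty_or_nonempty X with hX | ⟨⟨a0⟩⟩
  · refine ⟨K, 3, 2, ?_⟩
    constructor
    all_goals first | (intro a; exact hX.elim a) | (intro _ a; exact hX.elim a) | norm_num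
  obtain ⟨b0, hab0⟩ := R.exD a0
  have hsub : ∀ a b : X, Nat.card ((stabilizer G b).subgroupOf (stabilizer G a)) = Nat.card ↥(stabilizer G a ⊓ stabilizer G b) := by
    intro a b
    refine Nat.card_congr ⟨fun x => ⟨((x : stabilizer G a) : G), (x : stabilizer G a).2, x.2⟩,
      fun y => ⟨⟨(y : G), y.2.1⟩, y.2.2⟩, fun x => rfl, fun y => rfl⟩
  have hfree : ∀ a b : X, ∀ x ∈ K a, D a b → x • b = b → x = 1 := by
    intro a b x hx hab hxb
    rcases ((hK a x).1 hx).2 with h | h
    · exact h
    · exact absurd hxb (h b hab)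
  have hconj : ∀ (g : G) (a : X), ∀ x ∈ K a, g * x * g⁻¹ ∈ K (g • a) := by
    intro g a x hx
    rw [hK] at hx ⊢
    refine ⟨by rw [mul_smul, mul_smul, inv_smul_smul, hx.1], ?_⟩
    rcases hx.2 with h | h
    · left; rw [h, mul_one, mul_inv_cancel]
    · right
      intro b hab hb
      have h1 := R.inv g⁻¹ _ _ hab
      rw [inv_smul_smul] at h1
      apply h _ h1
      rw [mul_smul, mul_smul] at hb
      exact (inv_smul_eq_iff.2 hb.symm).symm
  have hKD : ∀ a b, D a b → Nat.card (K a) = Nat.card {b // D a b} := by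
    intro a b hab
    have hm : ∀ x : K a, D a ((x : G) • b) := by
      intro x
      have := R.inv (x : G) a b hab
      rwa [((hK a x).1 x.2).1] at this
    refine Nat.card_congr (Equiv.ofBijective (fun x : K a => (⟨(x : G) • b, hm x⟩ : {b // D a b})) ⟨?_, ?_⟩)
    · intro x y hxy
      have h1 : (x : G) • b = (y : G) • b := congrArg Subtype.val hxy
      have h2 := hfree a b ((y : G)⁻¹ * x) ((K a).mul_mem ((K a).inv_mem y.2) x.2) hab (by rw [mul_smul, h1, inv_smul_smul])
      exact Subtype.ext (inv_mul_eq_one.1 h2).symm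
    · rintro ⟨b', hb'⟩
      obtain ⟨x, hx, hxb⟩ := hKr a b b' hab hb'
      exact ⟨⟨x, hx⟩, Subtype.ext hxb⟩
  have hDD : ∀ a a', Nat.card {b // D a b} = Nat.card {b // D a' b} := by
    intro a a'
    obtain ⟨g, hg⟩ := R.trX a a'
    refine Nat.card_congr ((MulAction.toPerm g : Equiv.Perm X).subtypeEquiv fun b => ?_)
    show D a b ↔ D a' (g • b)
    constructor
    · intro h; rw [← hg]; exact R.inv g a b h
    · intro h
      rw [← hg] at h
      have := R.inv g⁻¹ _ _ h
      rwa [inv_smul_smul, inv_smul_smul] at this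
  have hHH : ∀ a b a' b' : X, D a b → D a' b' → Nat.card ↥(stabilizer G a ⊓ stabilizer G b) = Nat.card ↥(stabilizer G a' ⊓ stabilizer G b') := by
    intro a b a' b' h h'
    obtain ⟨g, hg1, hg2⟩ := R.trD a b a' b' h h'
    refine Nat.card_congr ((MulAut.conj g).toEquiv.subtypeEquiv fun x => ?_)
    show x ∈ stabilizer G a ⊓ stabilizer G b ↔ g * x * g⁻¹ ∈ stabilizer G a' ⊓ stabilizer G b'
    rw [Subgroup.mem_inf, Subgroup.mem_inf, mem_stabilizer_iff, mem_stabilizer_iff, mem_stabilizer_iff, mem_stabilizer_iff,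
      ← hg1, ← hg2]
    simp only [mul_smul, inv_smul_smul, smul_left_cancel_iff]
  have hh2 : 2 ≤ Nat.card ↥(stabilizer G a0 ⊓ stabilizer G b0) := by
    obtain ⟨g, hg1, hg2, hg3⟩ := R.Hne a0 b0 hab0
    haveI : Nontrivial ↥(stabilizer G a0 ⊓ stabilizer G b0) :=
      ⟨⟨⟨g, hg1, hg2⟩, 1, fun h => hg3 (congrArg Subtype.val h)⟩⟩
    exact Finite.one_lt_card
  obtain ⟨c1, c2⟩ := hKc a0 b0 hab0
  rw [hsub] at c2
  have hk0 : ((stabilizer G b0).subgroupOf (stabilizer G a0)).index = Nat.card {b // D a0 b} := by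
    rw [← c1, hKD a0 b0 hab0]
  rw [hk0] at c2
  have hdvd : Nat.card ↥(stabilizer G a0 ⊓ stabilizer G b0) ∣ Nat.card {b // D a0 b} - 1 := by
    have hpos : 1 ≤ Nat.card {b // D a0 b} := by
      haveI : Nonempty {b // D a0 b} := ⟨⟨b0, hab0⟩⟩
      exact Nat.card_pos
    exact (Nat.modEq_iff_dvd' hpos).1 c2.symm
  have hk2 : 2 ≤ Nat.card {b // D a0 b} := by
    obtain ⟨b', hb', hne⟩ := set2_ne R hab0
    haveI : Nontrivial {b // D a0 b} := ⟨⟨⟨b', hb'⟩, ⟨b0, hab0⟩, fun h => hne (congrArg Subtype.val h)⟩⟩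
    exact Finite.one_lt_card
  refine ⟨K, Nat.card {b // D a0 b}, Nat.card ↥(stabilizer G a0 ⊓ stabilizer G b0), ?_⟩
  exact
    { Kst := fun a x hx => ((hK a x).1 hx).1
      Kconj := hconj
      Kcard := fun a => by
        obtain ⟨b, hab⟩ := R.exD a
        rw [hKD a b hab, hDD a a0]
      Kreg := hKr
      Kfree := hfree
      Knil := hKn
      Hcard := fun a b hab => hHH a b a0 b0 hab hab0
      Kall := fun a g hga hg => (hK a g).2 ⟨hga, Or.inr hg⟩
      h2 := hh2
      hk := hdvd
      k2 := by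
        have := Nat.le_of_dvd (by omega) hdvd
        omega
      card := fun a => by
        obtain ⟨b, hab⟩ := R.exD a
        have e1 := Subgroup.card_mul_index ((stabilizer G b).subgroupOf (stabilizer G a))
        rw [← (hKc a b hab).1, hKD a b hab, hDD a a0, hsub, hHH a b a0 b0 hab hab0, mul_comm] at e1
        exact e1.symm
      cD := fun a => hDD a a0 }

end Cfsg.Agent.Lib.FR
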