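import Mathlib
import Cfsg.Agent.Lib.FV1H46

set_option autoImplicit false
set_option linter.unusedSectionVars false
set_option linter.unusedSimpArgs false
set_option linter.unusedVariables false

/-!
S5840, piece DEC2 (backup).
-/

namespace Cfsg.Agent.Lib.FV46

open Module Cfsg.Agent.Lib.UnTrans Cfsg.Agent.Lib.UnMax Cfsg.Agent.Lib.ExtFldH94 Cfsg.Agent.Lib.FldUH94
open Cfsg.Agent.Lib.SpTrans (isom mem_isom)

variable {F K V : Type*} [Field F] [Field K] [Algebra F K] [AddCommGroup V] [Module F V] [Module K V]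
  [IsScalarTower F K V] [FiniteDimensional F K] [FiniteDimensional K V] [FiniteDimensional F V]
  {σ : F →+* F} {τ : K →+* K} {h : V → V → F} {C : V → V → K} {Hh : HS σ h} {HC : HS τ C} {b : Dual F K}
  {M : Subgroup (V ≃ₗ[F] V)}

namespace DEC2b

/-- ring endomorphisms of a finite field commute -/
theorem comm_end [Finite K] (τ : K →+* K) (φ : K ≃ₐ[F] K) (x : K) : τ (φ x) = φ (τ x) := by
  by_cases hx : x = 0
  · rw [hx, map_zero, map_zero, map_zero]
  obtain ⟨g, hg⟩ := IsCyclic.exists_generator (α := Kˣ)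
  obtain ⟨i, hi⟩ := Subgroup.mem_zpowers_iff.1 (hg (Units.map (τ : K →* K) g))
  obtain ⟨j, hj⟩ := Subgroup.mem_zpowers_iff.1 (hg (Units.map (φ : K →* K) g))
  obtain ⟨n, hn⟩ := Subgroup.mem_zpowers_iff.1 (hg (Units.mk0 x hx))
  have h1 : ∀ u : Kˣ, Units.map (τ : K →* K) u = u ^ i := by
    intro u
    obtain ⟨m, hm⟩ := Subgroup.mem_zpowers_iff.1 (hg u)
    rw [← hm, map_zpow, ← hi, ← zpow_mul, ← zpow_mul, mul_comm]
  have h2 : ∀ u : Kˣ, Units.map (φ : K →* K) u = u ^ j := by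
    intro u
    obtain ⟨m, hm⟩ := Subgroup.mem_zpowers_iff.1 (hg u)
    rw [← hm, map_zpow, ← hj, ← zpow_mul, ← zpow_mul, mul_comm]
  have h3 : Units.map (τ : K →* K) (Units.map (φ : K →* K) (Units.mk0 x hx)) =
      Units.map (φ : K →* K) (Units.map (τ : K →* K) (Units.mk0 x hx)) := by
    rw [h1, h2, h1, h2, ← zpow_mul, ← zpow_mul, mul_comm]
  exact congrArg Units.val h3

/-- the fixed elements of a nontrivial automorphism in degree five -/
theorem fixed (hr : finrank F K = 5) (φ : K ≃ₐ[F] K) (hφ : φ ≠ 1) {y : K} (hy : φ y = y) :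
    ∃ c : F, algebraMap F K c = y := by
  obtain ⟨E, hE⟩ : ∃ E : IntermediateField F K, E = IntermediateField.fixedField (Subgroup.zpowers φ) := ⟨_, rfl⟩
  have h1 := Module.finrank_mul_finrank F E K
  rw [hr] at h1
  have hyE : y ∈ E := by
    rw [hE, IntermediateField.mem_fixedField_iff]
    intro f hf
    have h2 : Subgroup.zpowers φ ≤ MulAction.stabilizer (K ≃ₐ[F] K) y := by
      rw [Subgroup.zpowers_le]
      exact hy
    exact h2 hf
  have h5 : Nat.Prime 5 := by norm_num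
  rcases (Nat.dvd_prime h5).1 (Dvd.intro _ h1) with h2 | h2
  · have h3 : E = ⊥ := IntermediateField.finrank_eq_one_iff.1 h2
    rw [h3, IntermediateField.mem_bot] at hyE
    exact hyE
  · exfalso
    apply hφ
    have h3 : finrank E K = 1 := by
      rw [h2] at h1
      omega
    have h4 : E = ⊤ := IntermediateField.finrank_eq_one_iff_eq_top.1 h3
    apply AlgEquiv.ext
    intro x
    have h6 : x ∈ E := by rw [h4]; exact IntermediateField.mem_top
    rw [hE, IntermediateField.mem_fixedField_iff] at h6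
    exact h6 φ (Subgroup.mem_zpowers φ)

/-- a skewed element of the multiplier ring -/
theorem exists_r [Finite K] (S : FV Hh HC b M) (φ : K ≃ₐ[F] K) (hφ : φ ≠ 1) :
    ∃ k : K, k ≠ 0 ∧ Algebra.norm F (k * (τ k)⁻¹) = 1 ∧ τ (k * φ (τ k)) ≠ k * φ (τ k) := by
  classical
  haveI : Finite F := Finite.of_injective _ (algebraMap F K).injective
  by_contra hcon
  push Not at hcon
  have hfix : ∀ k : K, k ≠ 0 → Algebra.norm F (k * (τ k)⁻¹) = 1 → ∃ c : F, algebraMap F K c = k * (τ k)⁻¹ := by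
    intro k hk hn
    have h1 := hcon k hk hn
    apply fixed S.hr φ hφ
    rw [map_mul, comm_end, HC.inv] at h1
    have h2 : τ k ≠ 0 := HC.sigma_ne hk
    have h3 : φ (τ k) ≠ 0 := (map_ne_zero_iff φ φ.injective).2 h2
    rw [map_mul, map_inv₀]
    field_simp
    linear_combination h1
  -- the counting
  obtain ⟨δ, hδ⟩ : ∃ δ : Kˣ →* Kˣ, ∀ u, δ u = u * (Units.map (τ : K →* K) u)⁻¹ :=
    ⟨MonoidHom.id Kˣ / Units.map (τ : K →* K), fun u => by rw [MonoidHom.div_apply, div_eq_mul_inv]; rfl⟩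
  obtain ⟨θ, hθ⟩ : ∃ θ : Kˣ →* Fˣ, ∀ u, θ u = Units.map (Algebra.norm F : K →* F) (δ u) :=
    ⟨(Units.map (Algebra.norm F : K →* F)).comp δ, fun u => rfl⟩
  have hval : ∀ u : Kˣ, ((δ u : Kˣ) : K) = u * (τ u)⁻¹ := by
    intro u
    rw [hδ, Units.val_mul, Units.val_inv_eq_inv_val]
    rfl
  have hc1 : Nat.card Kˣ ≤ Nat.card θ.ker * Nat.card Fˣ := by
    rw [← Subgroup.card_mul_index θ.ker, Subgroup.index_ker]
    exact Nat.mul_le_mul_left _ (Nat.card_le_card_of_injective _ Subtype.val_injective)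
  obtain ⟨ε, hε⟩ : ∃ ε : θ.ker →* Kˣ, ∀ u, ε u = δ u := ⟨δ.comp θ.ker.subtype, fun u => rfl⟩
  have hc2 : Nat.card ε.range ≤ Nat.card Fˣ := by
    have h1 : ε.range ≤ (Units.map (algebraMap F K : F →* K)).range := by
      rintro _ ⟨u, rfl⟩
      have h2 := u.2
      rw [MonoidHom.mem_ker, hθ] at h2
      have h3 : Algebra.norm F ((u : Kˣ) * (τ (u : Kˣ))⁻¹ : K) = 1 := by
        rw [← hval]
        exact congrArg Units.val h2
      obtain ⟨c, hc⟩ := hfix (u : Kˣ) (Units.ne_zero _) h3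
      have hc0 : c ≠ 0 := by
        rintro rfl
        rw [map_zero, ← hval] at hc
        exact Units.ne_zero _ hc.symm
      refine ⟨Units.mk0 c hc0, ?_⟩
      apply Units.ext
      rw [hε, hval]
      exact hc
    refine (Nat.card_le_card_of_injective _ (Subgroup.inclusion_injective h1)).trans ?_
    exact Nat.card_le_card_of_surjective _ (MonoidHom.rangeRestrict_surjective (Units.map (algebraMap F K : F →* K)))
  have hc3 : Nat.card θ.ker = Nat.card ε.ker * Nat.card ε.range := by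
    rw [← Subgroup.card_mul_index ε.ker, Subgroup.index_ker]
  obtain ⟨k0, hk0⟩ : ∃ k0, k0 = Nat.card {y : K // τ y = y} := ⟨_, rfl⟩
  have hc4 : Nat.card ε.ker ≤ k0 := by
    rw [hk0]
    refine Nat.card_le_card_of_injective (fun u : ε.ker => (⟨((u : θ.ker) : Kˣ), ?_⟩ : {y : K // τ y = y})) ?_
    · have h1 := u.2
      rw [MonoidHom.mem_ker, hε] at h1
      have h2 := hval ((u : θ.ker) : Kˣ)
      rw [h1, Units.val_one] at h2
      have h3 : τ (((u : θ.ker) : Kˣ) : K) ≠ 0 := HC.sigma_ne (Units.ne_zero _)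
      field_simp at h2
      exact h2
    · intro u u' huu
      have h1 := congrArg Subtype.val huu
      exact Subtype.ext (Subtype.ext (Units.ext h1))
  have hc5 : k0 * k0 ≤ Nat.card K := by
    obtain ⟨r, hr⟩ := HC.ne
    rw [hk0, ← Nat.card_prod]
    refine Nat.card_le_card_of_injective (fun p : {y : K // τ y = y} × {y : K // τ y = y} => (p.1 : K) + p.2 * r) ?_
    rintro ⟨⟨a, ha⟩, ⟨c, hc⟩⟩ ⟨⟨a', ha'⟩, ⟨c', hc'⟩⟩ hpp
    have h1 : a + c * r = a' + c' * r := hpp
    have h2 := congrArg τ h1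
    rw [map_add, map_add, map_mul, map_mul, ha, hc, ha', hc'] at h2
    have h3 : (c - c') * (r - τ r) = 0 := by linear_combination h1 - h2
    rcases mul_eq_zero.1 h3 with h4 | h4
    · have h5 : c = c' := sub_eq_zero.1 h4
      subst h5
      have h6 : a = a' := by linear_combination h1
      subst h6
      rfl
    · exact absurd (sub_eq_zero.1 h4).symm hr
  have hcK : Nat.card K = Nat.card F ^ 5 := by
    rw [Module.natCard_eq_pow_finrank (K := F) (V := K), S.hr]
  have hcK' : Nat.card Kˣ + 1 = Nat.card K := by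
    have h1 := Nat.card_units K
    have h2 : 0 < Nat.card K := Nat.card_pos
    omega
  have hcF' : Nat.card Fˣ + 1 = Nat.card F := by
    have h1 := Nat.card_units F
    have h2 : 0 < Nat.card F := Nat.card_pos
    omega
  have hF2 : 2 ≤ Nat.card F := Finite.one_lt_card
  obtain ⟨f, hf⟩ : ∃ f, f = Nat.card Fˣ := ⟨_, rfl⟩
  rw [← hf] at hc1 hc2 hcF'
  rw [← hcF'] at hcK hF2
  have h1 : Nat.card Kˣ ≤ k0 * f * f := by
    refine hc1.trans (Nat.mul_le_mul_right _ ?_)
    rw [hc3]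
    exact Nat.mul_le_mul hc4 hc2
  rw [hcK] at hc5 hcK'
  have h2 : (f + 1) ^ 5 ≤ k0 * f * f + 1 := by omega
  have hk1 : 1 ≤ k0 := by
    by_contra hcon
    have : k0 = 0 := by omega
    rw [this] at h2
    have h3 : 2 ^ 5 ≤ (f + 1) ^ 5 := Nat.pow_le_pow_left hF2 5
    omega
  have h3 : (f + 1) ^ 5 ≤ k0 * (f + 1) ^ 2 := by nlinarith
  have h4 : (f + 1) ^ 3 ≤ k0 := by
    have h5 : (f + 1) ^ 3 * (f + 1) ^ 2 ≤ k0 * (f + 1) ^ 2 := by
      rw [← pow_add]; exact h3
    exact Nat.le_of_mul_le_mul_right h5 (by positivity)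
  have h5 : (f + 1) ^ 3 * (f + 1) ^ 3 ≤ (f + 1) ^ 5 := (Nat.mul_le_mul h4 h4).trans hc5
  rw [← pow_add] at h5
  have h6 := (Nat.pow_le_pow_iff_right (by omega : 1 < f + 1)).1 h5
  omega

end DEC2b

theorem dec2b [Finite K] (S : FV Hh HC b M) (φ : K ≃ₐ[F] K) (hφ : φ ≠ 1) {B : AddSubgroup K}
    (h1 : ∀ y, τ y = y → ∀ x ∈ B, y * x ∈ B)
    (h2 : ∀ k : K, k ≠ 0 → Algebra.norm F (k * (τ k)⁻¹) = 1 → ∀ x ∈ B, k * φ (τ k) * x ∈ B) {x : K} (hx : x ∈ B)
    (hx0 : x ≠ 0) (y : K) : y ∈ B := by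
  obtain ⟨k, hk0, hk, hkτ⟩ := DEC2b.exists_r S φ hφ
  obtain ⟨r, hr⟩ : ∃ r, r = k * φ (τ k) := ⟨_, rfl⟩
  rw [← hr] at hkτ
  have hr0 : r - τ r ≠ 0 := fun h => hkτ (sub_eq_zero.1 h).symm
  have hrB : ∀ x ∈ B, r * x ∈ B := by rw [hr]; exact h2 k hk0 hk
  have key : ∀ z : K, z * x ∈ B := by
    intro z
    obtain ⟨c, hc⟩ : ∃ c, c = (z - τ z) / (r - τ r) := ⟨_, rfl⟩
    have hcr : c * (r - τ r) = z - τ z := by rw [hc, div_mul_cancel₀ _ hr0]
    have hcτ : τ c = c := by
      rw [hc, map_div₀, map_sub, map_sub, HC.inv, HC.inv, ← neg_sub z, ← neg_sub r, neg_div_neg_eq]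
    have haτ : τ (z - c * r) = z - c * r := by
      rw [map_sub, map_mul, hcτ]
      linear_combination hcr
    have h3 : z * x = (z - c * r) * x + c * (r * x) := by ring
    rw [h3]
    exact B.add_mem (h1 _ haτ x hx) (h1 c hcτ _ (hrB x hx))
  have := key (y * x⁻¹)
  rwa [mul_assoc, inv_mul_cancel₀ hx0, mul_one] at this

end Cfsg.Agent.Lib.FV46
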