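import Mathlib
import Cfsg.Agent.Lib.FV1H46

/-! S5840, piece LIN (second seat, helper14). -/

set_option autoImplicit false
set_option linter.unusedSectionVars false
set_option linter.unusedSimpArgs false
set_option linter.unusedVariables false
set_option maxHeartbeats 1000000

namespace Cfsg.Agent.Lib.FV46.LIN14

open Module Cfsg.Agent.Lib.UnTrans Cfsg.Agent.Lib.UnMax Cfsg.Agent.Lib.ExtFldH94 Cfsg.Agent.Lib.FldUH94
open Cfsg.Agent.Lib.SpTrans (isom mem_isom)

variable {F K V : Type*} [Field F] [Field K] [Algebra F K] [AddCommGroup V] [Module F V] [Module K V]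
  [IsScalarTower F K V] [FiniteDimensional F K] [FiniteDimensional K V] [FiniteDimensional F V]
  {σ : F →+* F} {τ : K →+* K} {h : V → V → F} {C : V → V → K} {Hh : HS σ h} {HC : HS τ C} {b : Dual F K}
  {M : Subgroup (V ≃ₗ[F] V)}

/-- an element of degree at most 2 over `F` lies in `F` -/
theorem deg_two (hr : finrank F K = 5) {k : K} {c0 c1 c2 : F} (hk : k ∉ Set.range (algebraMap F K))
    (h : algebraMap F K c0 + algebraMap F K c1 * k + algebraMap F K c2 * (k * k) = 0) : c0 = 0 ∧ c1 = 0 ∧ c2 = 0 := by
  by_contra hne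
  let p : Polynomial F := Polynomial.C c0 + Polynomial.C c1 * Polynomial.X + Polynomial.C c2 * (Polynomial.X * Polynomial.X)
  have hp0 : p ≠ 0 := by
    intro hp
    apply hne
    have e0 := congrArg (fun q => Polynomial.coeff q 0) hp
    have e1 := congrArg (fun q => Polynomial.coeff q 1) hp
    have e2 := congrArg (fun q => Polynomial.coeff q 2) hp
    simp [p, Polynomial.coeff_X, Polynomial.coeff_one, Polynomial.coeff_C, ← pow_two, Polynomial.coeff_X_pow] at e0 e1 e2
    exact ⟨e0, e1, e2⟩
  have hpk : Polynomial.aeval k p = 0 := by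
    simp only [p, map_add, map_mul, Polynomial.aeval_C, Polynomial.aeval_X]
    exact h
  have hint : IsIntegral F k := Algebra.IsIntegral.isIntegral k
  have hdeg : (minpoly F k).natDegree ≤ 2 := by
    refine le_trans (Polynomial.natDegree_le_of_dvd (minpoly.dvd F k hpk) hp0) ?_
    refine le_trans (Polynomial.natDegree_add_le _ _) (max_le (le_trans (Polynomial.natDegree_add_le _ _) (max_le ?_ ?_)) ?_)
    · rw [Polynomial.natDegree_C]; omega
    · refine le_trans Polynomial.natDegree_mul_le ?_
      rw [Polynomial.natDegree_C, Polynomial.natDegree_X]; omega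
    · refine le_trans Polynomial.natDegree_mul_le ?_
      have : (Polynomial.X * Polynomial.X : Polynomial F).natDegree ≤ 2 := by
        refine le_trans Polynomial.natDegree_mul_le ?_
        rw [Polynomial.natDegree_X]
      rw [Polynomial.natDegree_C]; omega
  have hdvd : (minpoly F k).natDegree ∣ 5 := by
    rw [← hr]; exact minpoly.degree_dvd hint
  have h1 : (minpoly F k).natDegree = 1 := by
    have hpos := minpoly.natDegree_pos hint
    interval_cases hh : (minpoly F k).natDegree
    · rfl
    · omega
  apply hk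
  rw [minpoly.natDegree_eq_one_iff] at h1
  exact h1

theorem deg_two' (hr : finrank F K = 5) {k : K} {c1 c2 : F} (hk : k ∉ Set.range (algebraMap F K))
    (h : 1 = algebraMap F K c1 * k + algebraMap F K c2 * (k * k)) : False := by
  have := deg_two (c0 := -1) (c1 := c1) (c2 := c2) hr hk (by rw [map_neg, map_one]; linear_combination -h)
  exact neg_ne_zero.2 one_ne_zero this.1

/-- `W` is the perpendicular space of `L` -/
theorem mem_W [Finite K] (S : FV Hh HC b M) {W L : Submodule F K} (hd : finrank F W + finrank F L = 5)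
    (hperp : ∀ x ∈ W, ∀ l ∈ L, b (l * τ x) = 0) {y : K} (hy : ∀ l ∈ L, b (l * τ y) = 0) : y ∈ W := by
  have : Finite F := Finite.of_injective _ (algebraMap F K).injective
  let B : LinearMap.BilinForm F K := LinearMap.mk₂ F (fun x y => b (x * y))
    (by intro x y z; rw [add_mul, map_add]) (by intro c x y; rw [smul_mul_assoc, map_smul])
    (by intro x y z; rw [mul_add, map_add]) (by intro c x y; rw [mul_smul_comm, map_smul])
  have hB : ∀ x y, B x y = b (x * y) := fun x y => rfl
  have hsymm : B.IsSymm := ⟨fun x y => by simp only [hB, RingHom.id_apply]; rw [mul_comm]⟩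
  have hnd : B.Nondegenerate := by
    constructor
    · intro x hx
      exact S.bzero (fun a => by rw [mul_comm]; exact hx a)
    · intro x hx
      exact S.bzero (fun a => hx a)
  have hfr := LinearMap.BilinForm.finrank_orthogonal hnd L
  rw [S.hr] at hfr
  have hmemO : ∀ z, z ∈ B.orthogonal L ↔ ∀ l ∈ L, b (l * z) = 0 := by
    intro z
    rw [LinearMap.BilinForm.mem_orthogonal_iff]
    rfl
  have hτi : ∀ x, τ (τ x) = x := HC.inv
  let f : W → B.orthogonal L := fun w => ⟨τ w, (hmemO _).2 (hperp w w.2)⟩
  have hf : Function.Injective f := by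
    intro w w' hww
    exact Subtype.ext (τ.injective (congrArg Subtype.val hww))
  have hcard : Nat.card W = Nat.card (B.orthogonal L) := by
    rw [Module.natCard_eq_pow_finrank (K := F) (V := W), Module.natCard_eq_pow_finrank (K := F) (V := B.orthogonal L), hfr]
    congr 1
    omega
  have hbij : Function.Bijective f := (Nat.bijective_iff_injective_and_card f).2 ⟨hf, hcard⟩
  obtain ⟨w, hw⟩ := hbij.2 ⟨τ y, (hmemO _).2 hy⟩
  have : τ (w : K) = τ y := congrArg Subtype.val hw
  rw [← τ.injective this]; exact w.2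

theorem lin45 [Finite K] (S : FV Hh HC b M) {W L : Submodule F K} (hd : finrank F W + finrank F L = 5)
    (hW : 0 < finrank F W) (hL : 0 < finrank F L) (hperp : ∀ x ∈ W, ∀ l ∈ L, b (l * τ x) = 0)
    (hP : ∀ a : K, a + τ a = 0 → ∀ l ∈ L, l ≠ 0 → a * l ∈ W → ∀ l' ∈ L, a * l' ∈ W) : finrank F L = 1 := by
  have : Finite F := Finite.of_injective _ (algebraMap F K).injective
  by_contra hL1
  have hτi : ∀ x, τ (τ x) = x := HC.inv
  have hσi : ∀ x, σ (σ x) = x := Hh.inv
  have hτs : ∀ (c : F) (x : K), τ (c • x) = σ c • τ x := by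
    intro c x; rw [Algebra.smul_def, map_mul, S.τF, Algebra.smul_def]
  obtain ⟨ε, hε⟩ := HC.ne
  obtain ⟨ω, hω⟩ := Hh.ne
  rcases (by omega : 3 ≤ finrank F L ∨ finrank F L = 2) with h3 | h2
  · -- dim L ≥ 3
    have hWne : ∃ x0 : W, x0 ≠ 0 := by
      have : Nontrivial W := Module.finrank_pos_iff.1 hW
      exact exists_ne 0
    obtain ⟨⟨x0, hx0W⟩, hx0⟩ := hWne
    have hx00 : x0 ≠ 0 := fun h => hx0 (Subtype.ext h)
    let K0 := {x : K // τ x = x}
    have hK0 : Nat.card K0 * Nat.card K0 ≤ Nat.card K := by
      rw [← Nat.card_prod]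
      refine Nat.card_le_card_of_injective (fun p : K0 × K0 => (p.1 : K) + p.2 * ε) ?_
      rintro ⟨x, y⟩ ⟨x', y'⟩ hxy
      have h1 : (x : K) + y * ε = x' + y' * ε := hxy
      have h2 := congrArg τ h1
      rw [map_add, map_add, map_mul, map_mul, x.2, y.2, x'.2, y'.2] at h2
      have h3 : ((y : K) - y') * (ε - τ ε) = 0 := by linear_combination h1 - h2
      have h4 : (y : K) = y' := by
        rcases mul_eq_zero.1 h3 with h | h
        · exact sub_eq_zero.1 h
        · exact absurd (sub_eq_zero.1 h).symm hε
      have h5 : (x : K) = x' := by rw [h4] at h1; exact add_right_cancel h1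
      exact Prod.ext (Subtype.ext h5) (Subtype.ext h4)
    let f : L → K0 := fun l => ⟨x0 * τ l + τ x0 * l, by rw [map_add, map_mul, map_mul, hτi, hτi]; ring⟩
    have hfn : ¬ Function.Injective f := by
      intro hf
      have h1 := Nat.card_le_card_of_injective f hf
      have h2 : Nat.card L * Nat.card L ≤ Nat.card K := le_trans (Nat.mul_le_mul h1 h1) hK0
      rw [Module.natCard_eq_pow_finrank (K := F) (V := L), Module.natCard_eq_pow_finrank (K := F) (V := K), S.hr,
        ← pow_add] at h2
      have h5 : 1 < Nat.card F := Finite.one_lt_card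
      have := (Nat.pow_le_pow_iff_right h5).1 h2
      omega
    rw [Function.not_injective_iff] at hfn
    obtain ⟨l, l', hll, hne⟩ := hfn
    have h1 : x0 * τ l + τ x0 * l = x0 * τ l' + τ x0 * l' := congrArg Subtype.val hll
    have hdL : (l : K) - l' ∈ L := L.sub_mem l.2 l'.2
    have hd0 : (l : K) - l' ≠ 0 := sub_ne_zero.2 (fun h => hne (Subtype.ext h))
    set d := (l : K) - l' with hdd
    have h2 : x0 * τ d + τ x0 * d = 0 := by rw [hdd, map_sub]; linear_combination h1
    have hτd : τ d ≠ 0 := (map_ne_zero τ).2 hd0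
    have ha : x0 / d + τ (x0 / d) = 0 := by
      rw [map_div₀]
      field_simp
      linear_combination h2
    have h3' := hP _ ha d hdL hd0 (by rw [div_mul_cancel₀ _ hd0]; exact hx0W)
    have ha0 : x0 / d ≠ 0 := div_ne_zero hx00 hd0
    have : finrank F L ≤ finrank F W := by
      let g : L →ₗ[F] W :=
        { toFun := fun l => ⟨x0 / d * l, h3' l l.2⟩
          map_add' := fun x y => Subtype.ext (mul_add _ _ _)
          map_smul' := fun c x => Subtype.ext (mul_smul_comm _ _ _) }
      refine LinearMap.finrank_le_finrank_of_injective (f := g) ?_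
      intro x y hxy
      have : x0 / d * (x : K) = x0 / d * y := congrArg Subtype.val hxy
      exact Subtype.ext (mul_left_cancel₀ ha0 this)
    omega
  · -- dim L = 2
    exfalso
    have : Nontrivial L := Module.finrank_pos_iff.1 hL
    obtain ⟨⟨l, hl⟩, hl0⟩ := exists_ne (0 : L)
    have hl0' : l ≠ 0 := fun h => hl0 (Subtype.ext h)
    -- second basis vector
    have hspan : ∀ u v : K, u ∈ L → v ∈ L → LinearIndependent F ![u, v] → ∀ w ∈ L, ∃ c d : F, c • u + d • v = w := by
      intro u v hu hv hli w hw
      have hle : Submodule.span F (Set.range ![u, v]) ≤ L := by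
        rw [Submodule.span_le]
        rintro _ ⟨i, rfl⟩
        fin_cases i
        · exact hu
        · exact hv
      have heq : Submodule.span F (Set.range ![u, v]) = L := by
        apply Submodule.eq_of_le_of_finrank_eq hle
        rw [finrank_span_eq_card hli, h2]; rfl
      rw [← heq, Matrix.range_cons_cons_empty, Submodule.mem_span_pair] at hw
      exact hw
    have hex2 : ∃ l' ∈ L, LinearIndependent F ![l, l'] := by
      by_contra hcon
      push Not at hcon
      have : L ≤ Submodule.span F {l} := by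
        intro w hw
        have h1 := hcon w hw
        rw [LinearIndependent.pair_iff' hl0'] at h1
        push Not at h1
        obtain ⟨c, hc⟩ := h1
        rw [Submodule.mem_span_singleton]
        exact ⟨c, hc⟩
      have h1 := Submodule.finrank_mono this
      rw [finrank_span_singleton hl0'] at h1
      omega
    obtain ⟨l', hl', hli⟩ := hex2
    -- the space `Bl`
    let T : K →ₗ[F] (Fin 3 → F) := LinearMap.pi ![b ∘ₗ LinearMap.mulRight F (l * τ l), b ∘ₗ LinearMap.mulRight F (l' * τ l),
      b ∘ₗ LinearMap.mulRight F (τ l' * l)]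
    have hT : ∀ x, x ∈ LinearMap.ker T ↔ b (x * (l * τ l)) = 0 ∧ b (x * (l' * τ l)) = 0 ∧ b (x * (τ l' * l)) = 0 := by
      intro x
      rw [LinearMap.mem_ker]
      constructor
      · intro h
        exact ⟨congrFun h 0, congrFun h 1, congrFun h 2⟩
      · rintro ⟨h1, h2, h3⟩
        funext i
        fin_cases i
        · exact h1
        · exact h2
        · exact h3
    have hkT : 2 ≤ finrank F (LinearMap.ker T) := by
      have h1 := LinearMap.finrank_range_add_finrank_ker T
      have h2 : finrank F (LinearMap.range T) ≤ 3 := by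
        refine le_trans (Submodule.finrank_le _) ?_
        simp
      rw [S.hr] at h1
      omega
    have hστ : ∀ x : K, b (τ x) = 0 ↔ b x = 0 := by
      intro x
      rw [S.bτ]
      constructor
      · intro h; exact (map_eq_zero σ).1 h
      · intro h; rw [h, map_zero]
    have hTτ : ∀ x, x ∈ LinearMap.ker T → τ x ∈ LinearMap.ker T := by
      intro x hx
      rw [hT] at hx ⊢
      refine ⟨?_, ?_, ?_⟩
      · rw [← hστ, map_mul τ, map_mul τ, hτi, hτi, mul_comm (τ l) l]; exact hx.1
      · rw [← hστ, map_mul τ, map_mul τ, hτi, hτi]; exact hx.2.2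
      · rw [← hστ, map_mul τ, map_mul τ, hτi, hτi]; exact hx.2.1
    -- two independent skew elements
    have hskew : ∀ x : K, (x - τ x) + τ (x - τ x) = 0 := by
      intro x; rw [map_sub, hτi]; ring
    have hA : ∃ a1 ∈ LinearMap.ker T, ∃ a2 ∈ LinearMap.ker T, a1 + τ a1 = 0 ∧ a2 + τ a2 = 0 ∧ a2 ≠ 0 ∧
        a1 / a2 ∉ Set.range (algebraMap F K) := by
      by_contra hcon
      push Not at hcon
      -- all skew elements in a line
      have hex : ∃ a2 : K, ∀ a1 ∈ LinearMap.ker T, a1 + τ a1 = 0 → ∃ c : F, a1 = c • a2 := by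
        by_cases hz : ∀ a ∈ LinearMap.ker T, a + τ a = 0 → a = 0
        · exact ⟨0, fun a1 h1 h2 => ⟨0, by rw [hz a1 h1 h2, smul_zero]⟩⟩
        · push Not at hz
          obtain ⟨a2, h1, h2, h3⟩ := hz
          refine ⟨a2, fun a1 h4 h5 => ?_⟩
          obtain ⟨c, hc⟩ := hcon a1 h4 a2 h1 h5 h2 h3
          exact ⟨c, by rw [Algebra.smul_def, hc, div_mul_cancel₀ _ h3]⟩
      obtain ⟨a2, ha2⟩ := hex
      have hle : LinearMap.ker T ≤ Submodule.span F {a2} := by
        intro y hy
        have hx : τ y ∈ LinearMap.ker T := hTτ y hy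
        set x := τ y with hxd
        have hτx : τ x = y := by rw [hxd, hτi]
        have hy' : τ x ∈ LinearMap.ker T := by rw [hτx]; exact hy
        obtain ⟨c1, hc1⟩ := ha2 (x - τ x) (Submodule.sub_mem _ hx hy') (hskew x)
        obtain ⟨c2, hc2⟩ := ha2 (ω • x - τ (ω • x)) (Submodule.sub_mem _ (Submodule.smul_mem _ _ hx)
          (by rw [hτs]; exact Submodule.smul_mem _ _ hy')) (hskew _)
        rw [hτs] at hc2
        have h3 : (σ ω - ω) • τ x = (ω * c1 - c2) • a2 := by
          have e1 : ω • (x - τ x) = (ω * c1) • a2 := by rw [hc1, smul_smul]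
          rw [sub_smul, sub_smul, ← hc2, ← e1, smul_sub]; abel
        have h4 : σ ω - ω ≠ 0 := sub_ne_zero.2 hω
        rw [Submodule.mem_span_singleton]
        refine ⟨(σ ω - ω)⁻¹ * (ω * c1 - c2), ?_⟩
        rw [mul_smul, ← h3, smul_smul, inv_mul_cancel₀ h4, one_smul, hτx]
      have h1 := Submodule.finrank_mono hle
      have h2 : finrank F (Submodule.span F {a2}) ≤ 1 := le_trans (finrank_span_le_card ({a2} : Set K)) (by simp)
      omega
    obtain ⟨a1, ha1T, a2, ha2T, hs1, hs2, ha20, hratio⟩ := hA
    -- elements of `ker T` that are skew map `L` into `W`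
    have hAW : ∀ a ∈ LinearMap.ker T, a + τ a = 0 → ∀ m ∈ L, a * m ∈ W := by
      intro a ha hs
      refine hP a hs l hl hl0' (mem_W S hd hperp ?_)
      intro w hw
      obtain ⟨c, d, rfl⟩ := hspan l l' hl hl' hli w hw
      rw [hT] at ha
      have hτa : τ a = -a := by linear_combination hs
      have e1 : (c • l + d • l') * τ (a * l) = -(c • (a * (l * τ l)) + d • (a * (l' * τ l))) := by
        rw [map_mul, hτa, Algebra.smul_def, Algebra.smul_def, Algebra.smul_def, Algebra.smul_def]; ring
      rw [e1, map_neg, map_add, map_smul, map_smul, ha.1, ha.2.1, smul_zero, smul_zero, add_zero, neg_zero]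
    have hL1' := hAW a1 ha1T hs1
    have hL2' := hAW a2 ha2T hs2
    have ha10 : a1 ≠ 0 := by
      rintro rfl
      apply hratio
      exact ⟨0, by rw [map_zero, zero_div]⟩
    -- intersection of `a1 L` and `a2 L`
    have hint : ∃ l1 ∈ L, ∃ l2 ∈ L, l1 ≠ 0 ∧ a1 * l1 = a2 * l2 := by
      let g : (L × L) →ₗ[F] W :=
        { toFun := fun p => ⟨a1 * p.1 - a2 * p.2, W.sub_mem (hL1' _ p.1.2) (hL2' _ p.2.2)⟩
          map_add' := fun x y => Subtype.ext (by
            show a1 * ((x.1 : K) + y.1) - a2 * ((x.2 : K) + y.2) = (a1 * x.1 - a2 * x.2) + (a1 * y.1 - a2 * y.2)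
            ring)
          map_smul' := fun c x => Subtype.ext (by
            show a1 * (c • (x.1 : K)) - a2 * (c • (x.2 : K)) = c • (a1 * x.1 - a2 * x.2)
            rw [smul_sub, mul_smul_comm, mul_smul_comm]) }
      have hker : 0 < finrank F (LinearMap.ker g) := by
        have h1 := LinearMap.finrank_range_add_finrank_ker g
        have h2' : finrank F (LinearMap.range g) ≤ finrank F W := Submodule.finrank_le _
        rw [Module.finrank_prod] at h1
        omega
      have : Nontrivial (LinearMap.ker g) := Module.finrank_pos_iff.1 hker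
      obtain ⟨⟨⟨l1, l2⟩, hg⟩, hne⟩ := exists_ne (0 : LinearMap.ker g)
      have hg' : a1 * (l1 : K) - a2 * l2 = 0 := congrArg Subtype.val (LinearMap.mem_ker.1 hg)
      refine ⟨l1, l1.2, l2, l2.2, ?_, sub_eq_zero.1 hg'⟩
      intro h10
      rw [h10, mul_zero, zero_sub, neg_eq_zero] at hg'
      have h20 : (l2 : K) = 0 := (mul_eq_zero.1 hg').resolve_left ha20
      apply hne
      apply Subtype.ext
      exact Prod.ext (Subtype.ext h10) (Subtype.ext h20)
    obtain ⟨l1, hl1, l2, hl2, hl10, heq⟩ := hint
    set k := a1 / a2 with hkd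
    have hkl : l2 = k * l1 := by
      rw [hkd]; field_simp; linear_combination -heq
    have hτa1 : τ a1 = -a1 := by linear_combination hs1
    have hτa2 : τ a2 = -a2 := by linear_combination hs2
    have hτk : τ k = k := by rw [hkd, map_div₀, hτa1, hτa2, neg_div_neg_eq]
    have hli2 : LinearIndependent F ![l1, l2] := by
      rw [LinearIndependent.pair_iff' hl10]
      intro c hc
      apply hratio
      refine ⟨c, ?_⟩
      rw [hkl, Algebra.smul_def] at hc
      exact mul_right_cancel₀ hl10 hc
    -- the element x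
    have hx : ∃ x : K, b (x * k) = 0 ∧ b (x * (k * k)) = 0 ∧ b x ≠ 0 := by
      by_contra hcon
      push Not at hcon
      have := mem_span_of_iInf_ker_le_ker (𝕜 := F) (E := K)
        (L := ![b ∘ₗ LinearMap.mulRight F k, b ∘ₗ LinearMap.mulRight F (k * k)]) (K := b) (by
          intro x hx
          rw [Submodule.mem_iInf] at hx
          have e1 := hx 0
          have e2 := hx 1
          rw [LinearMap.mem_ker] at e1 e2 ⊢
          exact hcon x e1 e2)
      rw [Matrix.range_cons_cons_empty, Submodule.mem_span_pair] at this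
      obtain ⟨c1, c2, hc⟩ := this
      apply deg_two' S.hr hratio (c1 := c1) (c2 := c2)
      have h0 : (1 : K) - (algebraMap F K c1 * k + algebraMap F K c2 * (k * k)) = 0 := by
        apply S.bzero
        intro a
        have h1 := congrArg (fun φ : Dual F K => φ a) hc
        have h2 : c1 • b (a * k) + c2 • b (a * (k * k)) = b a := h1
        have e : a * (1 - (algebraMap F K c1 * k + algebraMap F K c2 * (k * k))) =
            a - (c1 • (a * k) + c2 • (a * (k * k))) := by
          rw [Algebra.smul_def, Algebra.smul_def]; ring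
        rw [e, map_sub, map_add, map_smul, map_smul, h2, sub_self]
      exact sub_eq_zero.1 h0
    obtain ⟨x, hxk, hxkk, hx0⟩ := hx
    -- scaling
    let y := (ω * (b x)⁻¹) • x
    have hyk : b (y * k) = 0 := by
      show b ((ω * (b x)⁻¹) • x * k) = 0
      rw [smul_mul_assoc, map_smul, hxk, smul_zero]
    have hykk : b (y * (k * k)) = 0 := by
      show b ((ω * (b x)⁻¹) • x * (k * k)) = 0
      rw [smul_mul_assoc, map_smul, hxkk, smul_zero]
    have hy1 : b y = ω := by
      show b ((ω * (b x)⁻¹) • x) = ω
      rw [map_smul, smul_eq_mul, mul_assoc, inv_mul_cancel₀ hx0, mul_one]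
    clear_value y
    set a' := y - τ y with ha'd
    have hs' : τ a' = -a' := by rw [ha'd, map_sub, hτi]; ring
    have hb1 : b a' ≠ 0 := by
      rw [ha'd, map_sub, S.bτ, hy1]
      exact sub_ne_zero.2 (fun h => hω h.symm)
    have hb2 : b (a' * k) = 0 := by
      have e : a' * k = y * k - τ (y * k) := by rw [map_mul, hτk, ha'd]; ring
      rw [e, map_sub, S.bτ, hyk, map_zero, sub_zero]
    have hb3 : b (a' * (k * k)) = 0 := by
      have e : a' * (k * k) = y * (k * k) - τ (y * (k * k)) := by rw [map_mul, map_mul, hτk, ha'd]; ring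
      rw [e, map_sub, S.bτ, hykk, map_zero, sub_zero]
    have hτl1 : τ l1 ≠ 0 := (map_ne_zero τ).2 hl10
    set a := a' / (l1 * τ l1) with had
    have hsa : a + τ a = 0 := by
      rw [had, map_div₀, map_mul, hτi, hs', mul_comm (τ l1) l1]; ring
    have hτa : τ a = -a := by linear_combination hsa
    have hal : a * (l1 * τ l1) = a' := by rw [had]; field_simp
    have hl20 : l2 ≠ 0 := by
      rw [hkl]
      exact mul_ne_zero (div_ne_zero ha10 ha20) hl10
    have hmem : a * l2 ∈ W := by
      refine mem_W S hd hperp ?_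
      intro w hw
      obtain ⟨c, d, rfl⟩ := hspan l1 l2 hl1 hl2 hli2 w hw
      have e1 : (c • l1 + d • l2) * τ (a * l2) = -(c • (a' * k) + d • (a' * (k * k))) := by
        rw [map_mul, hτa, hkl, map_mul, hτk, ← hal, Algebra.smul_def, Algebra.smul_def, Algebra.smul_def,
          Algebra.smul_def]; ring
      rw [e1, map_neg, map_add, map_smul, map_smul, hb2, hb3, smul_zero, smul_zero, add_zero, neg_zero]
    have hmem1 := hP a hsa l2 hl2 hl20 hmem l1 hl1
    have hfin := hperp _ hmem1 l1 hl1
    apply hb1
    have e2 : l1 * τ (a * l1) = -a' := by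
      rw [map_mul, hτa, ← hal]; ring
    rw [e2, map_neg, neg_eq_zero] at hfin
    exact hfin

end Cfsg.Agent.Lib.FV46.LIN14
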