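import Mathlib
import Cfsg.Agent.Lib.FV1H46

set_option autoImplicit false
set_option linter.unusedSectionVars false
set_option linter.unusedSimpArgs false
set_option linter.unusedVariables false

/-!
Overgroups of the degree 5 extension field subgroups of ten dimensional unitary groups (helper46).
-/

namespace Cfsg.Agent.Lib.FV46

open Module Cfsg.Agent.Lib.UnTrans Cfsg.Agent.Lib.UnMax Cfsg.Agent.Lib.ExtFldH94 Cfsg.Agent.Lib.FldUH94
open Cfsg.Agent.Lib.SpTrans (isom mem_isom)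

variable {F K V : Type*} [Field F] [Field K] [Algebra F K] [AddCommGroup V] [Module F V] [Module K V]
  [IsScalarTower F K V] [FiniteDimensional F K] [FiniteDimensional K V] [FiniteDimensional F V]
  {σ : F →+* F} {τ : K →+* K} {h : V → V → F} {C : V → V → K} {Hh : HS σ h} {HC : HS τ C} {b : Dual F K}
  {M : Subgroup (V ≃ₗ[F] V)}

theorem exists_max [Finite K] (S : FV Hh HC b M)
    (hadj : ∃ U U' : Submodule F V, Mem C M U ∧ Mem C M U' ∧ U ≠ U' ∧ U ⊓ U' ≠ ⊥) :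
    ∃ w, 0 < w ∧ w < finrank F K ∧ Mx C M w ∧ ∃ v, v ≠ 0 ∧ C v v = 0 ∧ ∃ U' : Submodule F V, Mem C M U' ∧
      finrank F (Ln K v ⊓ U' : Submodule F V) = w := by
  classical
  obtain ⟨U, U', hU, hU', hne, hbot⟩ := hadj
  obtain ⟨P, hP⟩ : ∃ P : ℕ → Prop, ∀ w, P w ↔ (0 < w ∧ w < finrank F K ∧ ∃ U U' : Submodule F V, Mem C M U ∧ Mem C M U' ∧
    finrank F (U ⊓ U' : Submodule F V) = w) := ⟨_, fun w => Iff.rfl⟩
  have h0 : P (finrank F (U ⊓ U' : Submodule F V)) := by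
    rw [hP]
    refine ⟨?_, ?_, U, U', hU, hU', rfl⟩
    · apply Nat.pos_of_ne_zero
      intro h
      exact hbot (Submodule.finrank_eq_zero.1 h)
    · have h1 : finrank F (U ⊓ U' : Submodule F V) ≤ finrank F K := by
        rw [← hU.finrank_eq]; exact Submodule.finrank_mono inf_le_left
      refine lt_of_le_of_ne h1 fun h2 => hne ?_
      have h3 : U ⊓ U' = U := Submodule.eq_of_le_of_finrank_eq inf_le_left (by rw [h2, hU.finrank_eq])
      have h4 : U ⊓ U' = U' := Submodule.eq_of_le_of_finrank_eq inf_le_right (by rw [h2, hU'.finrank_eq])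
      rw [← h3, h4]
  have h1 := Nat.findGreatest_spec (P := P) (m := finrank F (U ⊓ U' : Submodule F V)) (n := finrank F K)
    (le_of_lt ((hP _).1 h0).2.1) h0
  obtain ⟨w, hw⟩ : ∃ w, w = Nat.findGreatest P (finrank F K) := ⟨_, rfl⟩
  rw [← hw, hP] at h1
  obtain ⟨h2, h3, U₁, U₂, hU₁, hU₂, hf⟩ := h1
  refine ⟨w, h2, h3, ?_, ?_⟩
  · intro U₃ U₄ hU₃ hU₄ hlt
    by_contra hcon
    rw [hw] at hcon
    exact Nat.findGreatest_is_greatest (P := P) (lt_of_not_ge hcon) (le_of_lt hlt) ((hP _).2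
      ⟨by omega, hlt, U₃, U₄, hU₃, hU₄, rfl⟩)
  · obtain ⟨v, hv0, hv, m, hm, -, U₃, hU₃, -, hfr⟩ := norm_pair hU₁ hU₂
    exact ⟨v, hv0, hv, U₃, hU₃, by rw [hfr, hf]⟩

end Cfsg.Agent.Lib.FV46
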