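import Mathlib
import Cfsg.Agent.Lib.FV_MAX
import Cfsg.Agent.Lib.FV_DAT
import Cfsg.Agent.Lib.FV_LIN
import Cfsg.Agent.Lib.FV_SM
import Cfsg.Agent.Lib.FV_KER
import Cfsg.Agent.Lib.FV_BE
import Cfsg.Agent.Lib.FV_ALL
import Cfsg.Agent.Lib.FV_ST
import Cfsg.Agent.Lib.FV_CNT
import Cfsg.Agent.Lib.FV_SPR
import Cfsg.Agent.Lib.FV_SL

import Cfsg.Agent.Lib.FV_ALG

set_option autoImplicit false
set_option linter.unusedSectionVars false
set_option linter.unusedSimpArgs false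
set_option linter.unusedVariables false

/-!
Overgroups of the degree 5 extension field subgroups of ten dimensional unitary groups (helper46).
-/

namespace Cfsg.Agent.Lib.FV46

open Module Cfsg.Agent.Lib.UnTrans Cfsg.Agent.Lib.UnMax Cfsg.Agent.Lib.ExtFldH94 Cfsg.Agent.Lib.FldUH94
open Cfsg.Agent.Lib.SpTrans (isom mem_isom)

variable {F K V : Type*} [Field F] [Field K] [Algebra F K] [AddCommGroup V] [Module F V] [Module K V]
  [IsScalarTower F K V] [FiniteDimensional F K] [FiniteDimensional K V] [FiniteDimensional F V]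
  {σ : F →+* F} {τ : K →+* K} {h : V → V → F} {C : V → V → K} {Hh : HS σ h} {HC : HS τ C} {b : Dual F K}
  {M : Subgroup (V ≃ₗ[F] V)}

theorem main [Finite K] (S : FV Hh HC b M) : tgrp Hh ⊤ ≤ M ∨ ∀ g ∈ M, ∀ a : K, ∃ c : K, ∀ x, g (a • x) = c • g x := by
  by_cases hsp : ∀ U U' : Submodule F V, Mem C M U → Mem C M U' → U ≠ U' → U ⊓ U' = ⊥
  · right
    intro g hg
    apply semilinear2 S hg
    intro v hv0 hv
    obtain ⟨v', h1, h2, h3⟩ := spread_lines S
      (fun he0 he hf hfe _ hT hTn _ _ hl0 hl hc _ hg hgT => stab_pm S hsp he0 he hf hfe hT hTn hl0 hl hc hg hgT)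
      (card_iso S) hsp (U := (Ln K v).map (g : V →ₗ[F] V)) ⟨g, hg, v, hv0, hv, rfl⟩
    exact ⟨v', h1, h2, h3⟩
  · left
    push Not at hsp
    obtain ⟨U, U', hU, hU', hne, hbot⟩ := hsp
    obtain ⟨w, hw0, hwr, hmax, v, hv0, hv, U₂, hU₂, hfr⟩ := exists_max S ⟨U, U', hU, hU', hne, hbot⟩
    have hw4 : w = 4 := by
      obtain ⟨W, L, -, -, hWw, hd, hperp, hP⟩ := w_data S hw0 hwr hmax hv0 hv hU₂ hfr
      have hr := S.hr
      have := lin45 S hd (by omega) (by omega) hperp hP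
      omega
    subst hw4
    obtain ⟨H, hH0, hHr, hB⟩ := exists_small S hmax
      (fun hv0 hv _ hU' hfr => w_data S hw0 hwr hmax hv0 hv hU' hfr) hv0 hv hU₂ hfr
    apply all_of_BE S hv0 hv
    exact alg_full S (fun _ h => be_skh S hv0 hv h) (fun _ _ h h' => be_add S hv h h') (fun _ h => be_neg S hv h)
      (fun c hc => be_mul S hv hc) (fun k hk0 hk _ h => be_torus S hv0 hv hk0 hk h) hH0 hHr hB

end Cfsg.Agent.Lib.FV46
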