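import Cfsg.Agent.Lib.Fi22OutTab
import Cfsg.Agent.Lib.Fi22OutData
import Cfsg.Agent.Lib.Fi22NetsA
import Cfsg.Agent.Lib.BenesPlane
set_option autoImplicit false
set_option linter.all false
set_option maxRecDepth 100000
set_option exponentiation.threshold 5000

/-!
Numerical facts for the centralizer of an element of order 11.
-/

namespace Cfsg.Agent.Lib.Fi22Out

open Cfsg.Agent.Lib.BenesPerm Cfsg.Agent.Lib.BenesAct Cfsg.Agent.Lib.BenesWord Cfsg.Agent.Lib.BenesPlane
open Cfsg.Agent.Lib.Fi22NetsA Cfsg.Agent.Lib.LaneTools Cfsg.Agent.Lib.TransLanes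

def w0 : List ℕ := [3, 7, 8, 4, 3, 7, 5, 6, 4, 5, 2, 3, 4, 1, 2, 3, 7, 8, 4, 5, 3, 4, 1, 2, 3, 7, 6, 5, 4, 3, 2, 1]
def wf : List ℕ := [8, 7, 5, 4, 3]
def wm : List ℕ := []
theorem U_let : letK 9 U = true := by decide +kernel
theorem tr0 : trK nets pt 9 0 w0 3469 = true := by decide +kernel
theorem trf : trK nets pt 9 2 wf 69 = true := by decide +kernel
theorem trm : trK nets pt 9 6 wm 154 = true := by decide +kernel
theorem y_fix : fixOK nets (U ++ U) 12 3510 (Nat.pow 2 3469) = true := by decide +kernel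
theorem U_rel : relK nets 12 (pal 0 w0 ++ wpow U 11) = true := by decide +kernel
theorem U_ord : relK nets 12 (wpow U 22) = true := by decide +kernel
theorem sw01 : laneK nets (pal 0 w0) 3491 154 = true := by decide +kernel
theorem sw0f : laneK nets (pal 0 w0) 69 69 = true := by decide +kernel
theorem Ul0 : laneK nets U 3469 3469 = true := by decide +kernel
theorem y_moved : laneK nets (U ++ U) 0 0 = false := by decide +kernel
theorem RM_pop : Nat.beq (Nat.mod (popK 12 RM) 2) 1 = true := by decide +kernel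
theorem RM_lt : Nat.blt RM (Nat.pow 2 (Nat.pow 2 12)) = true := by decide +kernel
theorem RM_cls : Nat.beq (clsK nets rc (Nat.xor (Nat.sub (Nat.pow 2 3510) 1) (Nat.pow 2 3469)) [(0, w0, true)]) RM = true := by decide +kernel
theorem cas0_ok : cassT tabs pt 9 3510 U cas0 = true := by decide +kernel
theorem cas0_t : cas0.all (fun e => Nat.beq e.2.2.2.1 69) = true := by decide +kernel
theorem cas1_ok : cassT tabs pt 9 3510 U cas1 = true := by decide +kernel
theorem cas1_t : cas1.all (fun e => Nat.beq e.2.2.2.1 69) = true := by decide +kernel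
theorem cas2_ok : cassT tabs pt 9 3510 U cas2 = true := by decide +kernel
theorem cas2_t : cas2.all (fun e => Nat.beq e.2.2.2.1 69) = true := by decide +kernel
theorem cas3_ok : cassT tabs pt 9 3510 U cas3 = true := by decide +kernel
theorem cas3_t : cas3.all (fun e => Nat.beq e.2.2.2.1 69) = true := by decide +kernel
theorem cas4_ok : cassT tabs pt 9 3510 U cas4 = true := by decide +kernel
theorem cas4_t : cas4.all (fun e => Nat.beq e.2.2.2.1 69) = true := by decide +kernel
theorem cas5_ok : cassT tabs pt 9 3510 U cas5 = true := by decide +kernel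
theorem cas5_t : cas5.all (fun e => Nat.beq e.2.2.2.1 69) = true := by decide +kernel
theorem cas6_ok : cassT tabs pt 9 3510 U cas6 = true := by decide +kernel
theorem cas6_t : cas6.all (fun e => Nat.beq e.2.2.2.1 69) = true := by decide +kernel
theorem tb0_ok : tabOK nets 12 0 (nthK [] tabs 0) 0 = true := by decide +kernel
theorem tb1_ok : tabOK nets 12 1 (nthK [] tabs 1) 0 = true := by decide +kernel
theorem tb2_ok : tabOK nets 12 2 (nthK [] tabs 2) 0 = true := by decide +kernel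
theorem tb3_ok : tabOK nets 12 3 (nthK [] tabs 3) 0 = true := by decide +kernel
theorem tb4_ok : tabOK nets 12 4 (nthK [] tabs 4) 0 = true := by decide +kernel
theorem tb5_ok : tabOK nets 12 5 (nthK [] tabs 5) 0 = true := by decide +kernel
theorem tb6_ok : tabOK nets 12 6 (nthK [] tabs 6) 0 = true := by decide +kernel
theorem tb7_ok : tabOK nets 12 7 (nthK [] tabs 7) 0 = true := by decide +kernel
theorem tb8_ok : tabOK nets 12 8 (nthK [] tabs 8) 0 = true := by decide +kernel
theorem cov_ok : Nat.beq (covK nets U 11 (repK cases)) RM = true := by decide +kernel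
def sels : List Sel := [
  (24, 0, true, [3, 7, 4, 3, 2, 1], [0]),
  (692, 0, true, [4, 3, 7, 8, 4, 5, 3, 4, 1, 2, 3, 7, 6, 5, 4, 3, 2, 1], [1, 1, 1, 1]),
  (1202, 0, true, [4, 2, 3, 7, 8, 3, 7, 4, 5, 3, 4, 1, 2, 3, 7, 6, 5, 4, 3, 2, 1], [0, 0, 0, 0, 0]),
  (544, 0, true, [3, 7, 8, 5, 2, 3, 4, 1, 2, 3, 7, 6, 5, 4, 3, 2, 1], [1, 2, 1, 2, 0, 0, 0, 0, 0])]
theorem sels_ok : selsT tabs pt 9 [U, U.reverse, pal 2 wf] 69 sels = true := by decide +kernel
theorem cls_ok : Nat.beq (clsK nets rc (Nat.sub (Nat.pow 2 3510) 1) ((0, w0, false) :: sels.map selE)) (Nat.lor (Nat.pow 2 154) (Nat.pow 2 3491)) = true := by decide +kernel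
def gp (c : ℕ) : List ℕ :=
  match c with
  | 0 => [1, 1, 2, 3, 1]
  | 1 => [2, 1, 1, 1]
  | 2 => [1, 1, 2, 1, 2, 1, 3, 1]
  | 3 => [0, 0, 2, 0, 3, 1, 1, 3, 1, 3, 1]
  | 4 => [1, 2, 0, 3, 2, 0, 3, 1, 1, 1, 3, 1]
  | 5 => [3, 1]
  | 6 => []
  | 7 => [0, 3, 1, 2, 0, 2, 0]
  | _ => [2, 0]
theorem gp0_ok : laneT tabs (flatK [U, U.reverse, pal 2 wf, pal 6 wm] (gp 0)) 154 (pt 0) = true := by decide +kernel
theorem gp1_ok : laneT tabs (flatK [U, U.reverse, pal 2 wf, pal 6 wm] (gp 1)) 154 (pt 1) = true := by decide +kernel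
theorem gp2_ok : laneT tabs (flatK [U, U.reverse, pal 2 wf, pal 6 wm] (gp 2)) 154 (pt 2) = true := by decide +kernel
theorem gp3_ok : laneT tabs (flatK [U, U.reverse, pal 2 wf, pal 6 wm] (gp 3)) 154 (pt 3) = true := by decide +kernel
theorem gp4_ok : laneT tabs (flatK [U, U.reverse, pal 2 wf, pal 6 wm] (gp 4)) 154 (pt 4) = true := by decide +kernel
theorem gp5_ok : laneT tabs (flatK [U, U.reverse, pal 2 wf, pal 6 wm] (gp 5)) 154 (pt 5) = true := by decide +kernel
theorem gp6_ok : laneT tabs (flatK [U, U.reverse, pal 2 wf, pal 6 wm] (gp 6)) 154 (pt 6) = true := by decide +kernel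
theorem gp7_ok : laneT tabs (flatK [U, U.reverse, pal 2 wf, pal 6 wm] (gp 7)) 154 (pt 7) = true := by decide +kernel
theorem gp8_ok : laneT tabs (flatK [U, U.reverse, pal 2 wf, pal 6 wm] (gp 8)) 154 (pt 8) = true := by decide +kernel
end Cfsg.Agent.Lib.Fi22Out
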