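import Cfsg.Agent.Lib.Fi23Rel
import Cfsg.Agent.Lib.CosetChain

set_option autoImplicit false
set_option linter.all false
set_option maxRecDepth 100000

namespace Cfsg.Agent.Lib.Fi23L3
open Cfsg.Spor Cfsg.Agent.Lib.BenesPerm Cfsg.Agent.Lib.BenesAct Cfsg.Agent.Lib.BenesWord
open Cfsg.Agent.Lib.BenesPlane Cfsg.Agent.Lib.CosetClosure Cfsg.Agent.Lib.CosetFacts
open Cfsg.Agent.Lib.CosetMain Cfsg.Agent.Lib.CoxBridge Cfsg.Agent.Lib.CosetGroup Cfsg.Agent.Lib.CosetInst Cfsg.Agent.Lib.CosetInj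
open Cfsg.Agent.Lib.BenesPack Cfsg.Agent.Lib.CosetPack Cfsg.Agent.Lib.CosetChain
open Cfsg.Agent.Lib.Fi23Rel (rels)

noncomputable def m0_0 : Nat := (nat_lit 0x544000100500)
noncomputable def m0_1 : Nat := (nat_lit 0x1011000121020)
noncomputable def m0_2 : Nat := (nat_lit 0x800000c0000)
noncomputable def m0_3 : Nat := (nat_lit 0x8000800000)
noncomputable def m0_4 : Nat := (nat_lit 0x8000)
noncomputable def m0_5 : Nat := (nat_lit 0x800000)
noncomputable def m0_6 : Nat := (nat_lit 0x80000080000)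
noncomputable def m0_7 : Nat := (nat_lit 0x120000)
noncomputable def m0_8 : Nat := (nat_lit 0x44000100000)
noncomputable def n0 : Net := (Net.cons (nat_lit 1) m0_0 (Net.cons (nat_lit 2) m0_1 (Net.cons (nat_lit 4) m0_2 (Net.cons (nat_lit 8) m0_3 (Net.cons (nat_lit 16) m0_4 (Net.cons (nat_lit 8) m0_5 (Net.cons (nat_lit 4) m0_6 (Net.cons (nat_lit 2) m0_7 (Net.cons (nat_lit 1) m0_8 Net.nil)))))))))
noncomputable def m1_0 : Nat := (nat_lit 0x4105000100010)
noncomputable def m1_1 : Nat := (nat_lit 0x2000000012100)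
noncomputable def m1_2 : Nat := (nat_lit 0x8030a01020c00)
noncomputable def m1_3 : Nat := (nat_lit 0x80001000140040)
noncomputable def m1_4 : Nat := (nat_lit 0x800000000400)
noncomputable def m1_5 : Nat := (nat_lit 0x80000000040000)
noncomputable def m1_6 : Nat := (nat_lit 0x8010001000400)
noncomputable def m1_7 : Nat := (nat_lit 0x2000000012100)
noncomputable def m1_8 : Nat := (nat_lit 0x105000100000)
noncomputable def n1 : Net := (Net.cons (nat_lit 1) m1_0 (Net.cons (nat_lit 2) m1_1 (Net.cons (nat_lit 4) m1_2 (Net.cons (nat_lit 8) m1_3 (Net.cons (nat_lit 16) m1_4 (Net.cons (nat_lit 8) m1_5 (Net.cons (nat_lit 4) m1_6 (Net.cons (nat_lit 2) m1_7 (Net.cons (nat_lit 1) m1_8 Net.nil)))))))))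
noncomputable def m2_0 : Nat := (nat_lit 0x10000400040010)
noncomputable def m2_1 : Nat := (nat_lit 0x20302101110320)
noncomputable def m2_2 : Nat := (nat_lit 0x8000a00000008)
noncomputable def m2_3 : Nat := (nat_lit 0x2000000000)
noncomputable def m2_4 : Nat := (nat_lit 0x200000000000)
noncomputable def m2_5 : Nat := (nat_lit 0x20000000)
noncomputable def m2_6 : Nat := (nat_lit 0x200000000000)
noncomputable def m2_7 : Nat := (nat_lit 0x2000000000)
noncomputable def m2_8 : Nat := (nat_lit 0x200000000)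
noncomputable def m2_9 : Nat := (nat_lit 0x20002000000020)
noncomputable def m2_10 : Nat := (nat_lit 0x10000400040010)
noncomputable def n2 : Net := (Net.cons (nat_lit 1) m2_0 (Net.cons (nat_lit 2) m2_1 (Net.cons (nat_lit 4) m2_2 (Net.cons (nat_lit 8) m2_3 (Net.cons (nat_lit 16) m2_4 (Net.cons (nat_lit 32) m2_5 (Net.cons (nat_lit 16) m2_6 (Net.cons (nat_lit 8) m2_7 (Net.cons (nat_lit 4) m2_8 (Net.cons (nat_lit 2) m2_9 (Net.cons (nat_lit 1) m2_10 Net.nil)))))))))))
noncomputable def m3_0 : Nat := (nat_lit 0x10000001014004)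
noncomputable def m3_1 : Nat := (nat_lit 0x200121001000)
noncomputable def m3_2 : Nat := (nat_lit 0xb000d020c00)
noncomputable def m3_3 : Nat := (nat_lit 0x2400600000)
noncomputable def m3_4 : Nat := (nat_lit 0x40000002000)
noncomputable def m3_5 : Nat := (nat_lit 0x4000000)
noncomputable def m3_6 : Nat := (nat_lit 0x40000000000)
noncomputable def m3_7 : Nat := (nat_lit 0x400200000)
noncomputable def m3_8 : Nat := (nat_lit 0x20004020000)
noncomputable def m3_9 : Nat := (nat_lit 0x200121001000)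
noncomputable def m3_10 : Nat := (nat_lit 0x1014000)
noncomputable def n3 : Net := (Net.cons (nat_lit 1) m3_0 (Net.cons (nat_lit 2) m3_1 (Net.cons (nat_lit 4) m3_2 (Net.cons (nat_lit 8) m3_3 (Net.cons (nat_lit 16) m3_4 (Net.cons (nat_lit 32) m3_5 (Net.cons (nat_lit 16) m3_6 (Net.cons (nat_lit 8) m3_7 (Net.cons (nat_lit 4) m3_8 (Net.cons (nat_lit 2) m3_9 (Net.cons (nat_lit 1) m3_10 Net.nil)))))))))))
noncomputable def m4_0 : Nat := (nat_lit 0x40040044404004)
noncomputable def m4_1 : Nat := (nat_lit 0x20012110221002)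
noncomputable def m4_2 : Nat := (nat_lit 0x408040b0000)
noncomputable def m4_3 : Nat := (nat_lit 0x4000c00000)
noncomputable def m4_4 : Nat := (nat_lit 0x8000)
noncomputable def m4_5 : Nat := (nat_lit 0x800000)
noncomputable def m4_6 : Nat := (nat_lit 0x40004080000)
noncomputable def m4_7 : Nat := (nat_lit 0x12000220000)
noncomputable def m4_8 : Nat := (nat_lit 0x40000044404004)
noncomputable def n4 : Net := (Net.cons (nat_lit 1) m4_0 (Net.cons (nat_lit 2) m4_1 (Net.cons (nat_lit 4) m4_2 (Net.cons (nat_lit 8) m4_3 (Net.cons (nat_lit 16) m4_4 (Net.cons (nat_lit 8) m4_5 (Net.cons (nat_lit 4) m4_6 (Net.cons (nat_lit 2) m4_7 (Net.cons (nat_lit 1) m4_8 Net.nil)))))))))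
noncomputable def m5_0 : Nat := (nat_lit 0x40040050040001)
noncomputable def m5_1 : Nat := (nat_lit 0x1200000000)
noncomputable def m5_2 : Nat := (nat_lit 0x8000f0a0000)
noncomputable def m5_3 : Nat := (nat_lit 0x8100d00000)
noncomputable def m5_4 : Nat := (nat_lit 0x10000008000)
noncomputable def m5_5 : Nat := (nat_lit 0x1000000)
noncomputable def m5_6 : Nat := (nat_lit 0x10000000000)
noncomputable def m5_7 : Nat := (nat_lit 0x100800000)
noncomputable def m5_8 : Nat := (nat_lit 0x80005080000)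
noncomputable def m5_9 : Nat := (nat_lit 0x40050040000)
noncomputable def n5 : Net := (Net.cons (nat_lit 1) m5_0 (Net.cons (nat_lit 2) m5_1 (Net.cons (nat_lit 4) m5_2 (Net.cons (nat_lit 8) m5_3 (Net.cons (nat_lit 16) m5_4 (Net.cons (nat_lit 32) m5_5 (Net.cons (nat_lit 16) m5_6 (Net.cons (nat_lit 8) m5_7 (Net.cons (nat_lit 4) m5_8 (Net.cons (nat_lit 1) m5_9 Net.nil))))))))))
noncomputable def m6_0 : Nat := (nat_lit 0x4400044000110)
noncomputable def m6_1 : Nat := (nat_lit 0x1000000000130)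
noncomputable def m6_2 : Nat := (nat_lit 0xc00010e080600)
noncomputable def m6_3 : Nat := (nat_lit 0xc0001400400060)
noncomputable def m6_4 : Nat := (nat_lit 0xd40000000000)
noncomputable def m6_5 : Nat := (nat_lit 0x14000000)
noncomputable def m6_6 : Nat := (nat_lit 0x140000000000)
noncomputable def m6_7 : Nat := (nat_lit 0xc0001400000000)
noncomputable def m6_8 : Nat := (nat_lit 0xc000104000600)
noncomputable def m6_9 : Nat := (nat_lit 0x2000000000100)
noncomputable def m6_10 : Nat := (nat_lit 0x1000044000040)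
noncomputable def n6 : Net := (Net.cons (nat_lit 1) m6_0 (Net.cons (nat_lit 2) m6_1 (Net.cons (nat_lit 4) m6_2 (Net.cons (nat_lit 8) m6_3 (Net.cons (nat_lit 16) m6_4 (Net.cons (nat_lit 32) m6_5 (Net.cons (nat_lit 16) m6_6 (Net.cons (nat_lit 8) m6_7 (Net.cons (nat_lit 4) m6_8 (Net.cons (nat_lit 2) m6_9 (Net.cons (nat_lit 1) m6_10 Net.nil)))))))))))
noncomputable def nets : List Net := [n0, n1, n2, n3, n4, n5, n6]

noncomputable def r0_0 : Nat := (nat_lit 0xad320c71e5534a)
noncomputable def r0_1 : Nat := (nat_lit 0x35c2207e017c0c)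
noncomputable def r0_2 : Nat := (nat_lit 0xc0022f8027a050)
noncomputable def r0_3 : Nat := (nat_lit 0x22fffd80000)
noncomputable def r0_4 : Nat := (nat_lit 0xfa000000000000)
noncomputable def r0 : List Nat := (List.cons r0_0 (List.cons r0_1 (List.cons r0_2 (List.cons r0_3 (List.cons r0_4 List.nil)))))
noncomputable def r1_0 : Nat := (nat_lit 0xac5a8471e1c5ca)
noncomputable def r1_1 : Nat := (nat_lit 0x304c007f32920c)
noncomputable def r1_2 : Nat := (nat_lit 0xc04c8580009680)
noncomputable def r1_3 : Nat := (nat_lit 0x4c85fecc0000)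
noncomputable def r1_4 : Nat := (nat_lit 0xf1200000000000)
noncomputable def r1 : List Nat := (List.cons r1_0 (List.cons r1_1 (List.cons r1_2 (List.cons r1_3 (List.cons r1_4 List.nil)))))
noncomputable def r2_0 : Nat := (nat_lit 0xa608c050f0e082)
noncomputable def r2_1 : Nat := (nat_lit 0x200f005f00f004)
noncomputable def r2_2 : Nat := (nat_lit 0xc00fd08000f0e0)
noncomputable def r2_3 : Nat := (nat_lit 0xfd0daa60000)
noncomputable def r2_4 : Nat := (nat_lit 0xe7000000000000)
noncomputable def r2 : List Nat := (List.cons r2_0 (List.cons r2_1 (List.cons r2_2 (List.cons r2_3 (List.cons r2_4 List.nil)))))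
noncomputable def r3_0 : Nat := (nat_lit 0x8640c63cb08192)
noncomputable def r3_1 : Nat := (nat_lit 0x8440341008210)
noncomputable def r3_2 : Nat := (nat_lit 0xc044dc800083e0)
noncomputable def r3_3 : Nat := (nat_lit 0x44de81be0000)
noncomputable def r3_4 : Nat := (nat_lit 0xcf800000000000)
noncomputable def r3 : List Nat := (List.cons r3_0 (List.cons r3_1 (List.cons r3_2 (List.cons r3_3 (List.cons r3_4 List.nil)))))
noncomputable def r4_0 : Nat := (nat_lit 0x9663c70ea00990)
noncomputable def r4_1 : Nat := (nat_lit 0x18716a25000e18)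
noncomputable def r4_2 : Nat := (nat_lit 0x807e9040000fe0)
noncomputable def r4_3 : Nat := (nat_lit 0x729267242000)
noncomputable def r4_4 : Nat := (nat_lit 0x9f800000000000)
noncomputable def r4 : List Nat := (List.cons r4_0 (List.cons r4_1 (List.cons r4_2 (List.cons r4_3 (List.cons r4_4 List.nil)))))
noncomputable def r5_0 : Nat := (nat_lit 0x16635568811994)
noncomputable def r5_1 : Nat := (nat_lit 0x18785e80881e18)
noncomputable def r5_2 : Nat := (nat_lit 0x207fa000001fe0)
noncomputable def r5_3 : Nat := (nat_lit 0x7b2480896000)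
noncomputable def r5_4 : Nat := (nat_lit 0x3f800000000000)
noncomputable def r5 : List Nat := (List.cons r5_0 (List.cons r5_1 (List.cons r5_2 (List.cons r5_3 (List.cons r5_4 List.nil)))))
noncomputable def r6_0 : Nat := (nat_lit 0xa018e20030e40a)
noncomputable def r6_1 : Nat := (nat_lit 0x301f020100f80c)
noncomputable def r6_2 : Nat := (nat_lit 0xc01ff80000fc00)
noncomputable def r6_3 : Nat := (nat_lit 0x1ffa01370000)
noncomputable def r6_4 : Nat := (nat_lit 0xf0200000000000)
noncomputable def r6 : List Nat := (List.cons r6_0 (List.cons r6_1 (List.cons r6_2 (List.cons r6_3 (List.cons r6_4 List.nil)))))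
noncomputable def R : List (List Nat) := (List.cons r0 (List.cons r1 (List.cons r2 (List.cons r3 (List.cons r4 (List.cons r5 (List.cons r6 List.nil)))))))
noncomputable def d6 : Nat := (nat_lit 0xd000568800340)
noncomputable def d5 : Nat := (nat_lit 0x80000015240002)
noncomputable def d4 : Nat := (nat_lit 0x40000080528004)
noncomputable def d3 : Nat := (nat_lit 0x20320002015008)
noncomputable def d2 : Nat := (nat_lit 0x10c02a00080c10)
noncomputable def d1 : Nat := (nat_lit 0x2015000002020)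
noncomputable def d0 : Nat := (nat_lit 0xc8000000080)
noncomputable def D : Net := (Net.cons (nat_lit 0) d0 (Net.cons (nat_lit 1) d1 (Net.cons (nat_lit 2) d2 (Net.cons (nat_lit 3) d3 (Net.cons (nat_lit 4) d4 (Net.cons (nat_lit 5) d5 (Net.cons (nat_lit 6) d6 Net.nil)))))))
noncomputable def Tp0 : Nat := (nat_lit 0x60000000000000004000000000000000300000000000000020000000000000001000000000000000000000000000)
noncomputable def T : Tr := (Tr.leaf Tp0)
noncomputable def DTp0 : Nat := (nat_lit 0x0)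
noncomputable def DT : Tr := (Tr.leaf DTp0)
noncomputable def scr : Scr := Scr.nil
noncomputable def E : Ex := (Ex.cons (nat_lit 0) (nat_lit 0) (nat_lit 0) (Ex.cons (nat_lit 1) (nat_lit 0) (nat_lit 1) (Ex.cons (nat_lit 2) (nat_lit 0) (nat_lit 2) (Ex.cons (nat_lit 3) (nat_lit 0) (nat_lit 3) (Ex.cons (nat_lit 4) (nat_lit 0) (nat_lit 4) (Ex.cons (nat_lit 6) (nat_lit 0) (nat_lit 5) Ex.nil))))))
noncomputable def nd : Nat := (nat_lit 0)
noncomputable def g : Nat := (nat_lit 6)

/-- letters of the group -/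
def sub : List ℕ := [1, 2, 3, 4, 5, 6, 7]
/-- letters of the subgroup -/
def sub' : List ℕ := [1, 2, 3, 4, 5, 7]

/-- relators in the local letters -/
def lrels : List Wd := [(Wd.pow (Wd.mul (Wd.g 0) (Wd.g 1)) 3),
  (Wd.pow (Wd.mul (Wd.g 0) (Wd.g 2)) 2),
  (Wd.pow (Wd.mul (Wd.g 1) (Wd.g 2)) 3),
  (Wd.pow (Wd.mul (Wd.g 0) (Wd.g 3)) 2),
  (Wd.pow (Wd.mul (Wd.g 1) (Wd.g 3)) 2),
  (Wd.pow (Wd.mul (Wd.g 2) (Wd.g 3)) 3),
  (Wd.pow (Wd.mul (Wd.g 0) (Wd.g 4)) 2),
  (Wd.pow (Wd.mul (Wd.g 1) (Wd.g 4)) 2),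
  (Wd.pow (Wd.mul (Wd.g 2) (Wd.g 4)) 2),
  (Wd.pow (Wd.mul (Wd.g 3) (Wd.g 4)) 3),
  (Wd.pow (Wd.mul (Wd.g 0) (Wd.g 5)) 2),
  (Wd.pow (Wd.mul (Wd.g 1) (Wd.g 5)) 2),
  (Wd.pow (Wd.mul (Wd.g 2) (Wd.g 5)) 2),
  (Wd.pow (Wd.mul (Wd.g 3) (Wd.g 5)) 2),
  (Wd.pow (Wd.mul (Wd.g 4) (Wd.g 5)) 3),
  (Wd.pow (Wd.mul (Wd.g 0) (Wd.g 6)) 2),
  (Wd.pow (Wd.mul (Wd.g 1) (Wd.g 6)) 2),
  (Wd.pow (Wd.mul (Wd.g 2) (Wd.g 6)) 3),
  (Wd.pow (Wd.mul (Wd.g 3) (Wd.g 6)) 2),
  (Wd.pow (Wd.mul (Wd.g 4) (Wd.g 6)) 2),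
  (Wd.pow (Wd.mul (Wd.g 5) (Wd.g 6)) 2)]

/-- periods -/
def pers : List ℕ := [2, 2, 2, 2, 2, 2, 2, 2, 2, 2, 2, 2, 2, 2, 2, 2, 2, 2, 2, 2, 2]

theorem c_relok : relOK rels lrels sub = true := by decide
theorem c_nets : netsCheck (2 ^ 6) nets = true := by decide +kernel
theorem c_iv : ivK nets 6 ivI 7 = true := by decide +kernel
theorem c_full : fullInvK nets 56 7 = true := by decide +kernel
theorem c_len : lenK R 5 7 = true := by decide +kernel
theorem c_sym : symK nets ivI R 7 = true := by decide +kernel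
theorem c_disj : disjK D 1 = true := by decide +kernel
theorem c_tree : treeK nets 6 D = true := by decide +kernel
theorem c_treelet : netLetK 7 D = true := by decide +kernel
theorem c_dtab : dtabK (2 ^ 6) nd DT = true := by decide +kernel
theorem c_given : ∀ j, j < 6 → eSrc (T.get j) = 0 ∧ eDst (T.get j) = 0 ∧ eLet (T.get j) < sub.length ∧
  nthK 0 sub (eLet (T.get j)) ∈ sub' := by decide +kernel
theorem c_facts : factsK nets ivI R 7 56 (2 ^ 6) nd T DT ((lpats 7 lrels).map (fun W => (W.flat ivI).reverse)) 6 scr = true := by decide +kernel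
theorem c_ex : exK nets R 7 T (6 + scr.len) E = true := by decide +kernel
theorem c_simdlet : simdLetK ivI 7 (lrels.zip pers) = true := by decide +kernel
theorem c_cover : force (2 ^ 6) (fun N => relsMDK nets ivI R N 3 5 ((lrels.zip pers).map (splitW ivI)) (exM E D) (fun ms => coverK nets ivI 56 ms 7)) = true := by decide +kernel
theorem c_rels : relsD nets 6 3 ivI lrels = true := by decide +kernel

/-- the step of the chain -/
theorem step {G : Type*} [Group G] {x : ℕ → G} (hrels : ∀ W ∈ rels, W.eval x = 1) (hinv : ∀ c ∈ sub, x c * x c = 1)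
    (hfin : Finite (LG x [1, 2, 3, 4, 5, 7])) : Finite (LG x [1, 2, 3, 4, 5, 6, 7]) ∧ Nat.card (LG x [1, 2, 3, 4, 5, 6, 7]) ≤ 56 * Nat.card (LG x [1, 2, 3, 4, 5, 7]) :=
  CosetChain.step hrels sub sub' pers c_relok hinv (by decide) (j := 3) (jk := 3) (P := 5) (D := D) (R := R)
    (scr := scr) (E := E) (T := T) (DT := DT) (nd := nd) (g := 6) (k := 6) (n := 56) rfl
    c_nets (by norm_num) (by norm_num) (by norm_num) c_iv c_full c_len c_sym c_disj c_tree c_treelet c_dtab c_given
    (by decide) c_facts c_ex c_rels c_simdlet c_cover hfin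

end Cfsg.Agent.Lib.Fi23L3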