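import Cfsg.Agent.Lib.GolayNrm
import Cfsg.Prelude.Def_Transfer

/-!
# Normal elementary abelian subgroups of a Sylow subgroup, controlled by a subgroup `E` of odd index
-/

set_option autoImplicit false
set_option linter.all false

namespace Cfsg.Agent.Lib.GolaySyl

variable {G : Type*} [Group G]

theorem conj_ea {A : Subgroup G} (hA : Cfsg.IsElementaryAbelian 2 A) (g : G) :
    Cfsg.IsElementaryAbelian 2 (A.map (MulAut.conj g).toMonoidHom) := by
  refine ⟨?_, ?_⟩
  · refine ⟨⟨?_⟩⟩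
    rintro ⟨_, a, ha, rfl⟩ ⟨_, b, hb, rfl⟩
    have h := congrArg Subtype.val (hA.1.is_comm.comm ⟨a, ha⟩ ⟨b, hb⟩)
    have h' : a * b = b * a := h
    apply Subtype.ext
    change (MulAut.conj g) a * (MulAut.conj g) b = (MulAut.conj g) b * (MulAut.conj g) a
    rw [← map_mul, h', map_mul]
  · rintro _ ⟨a, ha, rfl⟩
    rw [← map_pow, hA.2 a ha, map_one]

theorem mem_conj {A : Subgroup G} {g x : G} : x ∈ A.map (MulAut.conj g).toMonoidHom ↔ g⁻¹ * x * g ∈ A := by
  constructor
  · rintro ⟨a, ha, rfl⟩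
    show g⁻¹ * (g * a * g⁻¹) * g ∈ A
    have : g⁻¹ * (g * a * g⁻¹) * g = a := by group
    rwa [this]
  · intro h
    refine ⟨_, h, ?_⟩
    show g * (g⁻¹ * x * g) * g⁻¹ = x
    group

theorem card_conj (A : Subgroup G) (g : G) : Nat.card (A.map (MulAut.conj g).toMonoidHom) = Nat.card A :=
  Nat.card_congr (A.equivMapOfInjective _ (MulAut.conj g).injective).symm.toEquiv

/-- the statement for a group with a subgroup `E` of odd index -/
theorem final [Finite G] {E N : Subgroup G} {r m s : ℕ} (hNE : N ≤ E) (hE : Nat.card E = 2 ^ s * r)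
    (hG : Nat.card G = 2 ^ s * m) (hm : ¬ 2 ∣ m)
    (hNn : ∀ e ∈ E, ∀ n ∈ N, e * n * e⁻¹ ∈ N) (hNc : Nat.card N = 2 ^ 11) (hNe : Cfsg.IsElementaryAbelian 2 N)
    (key : ∀ A ≤ E, (∀ n ∈ N, ∀ a ∈ A, n * a * n⁻¹ ∈ A) → (∀ a ∈ A, ∀ b ∈ A, a * b = b * a) →
      (∀ a ∈ A, a * a = 1) → A ≤ N ∨ Nat.card A ≤ 1024) (T : Sylow 2 G) :
    (∀ A : Subgroup G, A ≤ T → (A.subgroupOf T).Normal → Cfsg.IsElementaryAbelian 2 A → Nat.card A ≤ 2 ^ 11) ∧
    ∃! A : Subgroup G, A ≤ T ∧ (A.subgroupOf T).Normal ∧ Cfsg.IsElementaryAbelian 2 A ∧ Nat.card A = 2 ^ 11 := by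
  have _ : Fact (Nat.Prime 2) := ⟨Nat.prime_two⟩
  -- a Sylow subgroup inside `E`
  obtain ⟨S⟩ : Nonempty (Sylow 2 E) := inferInstance
  have hm0 : m ≠ 0 := by rintro rfl; exact hm (dvd_zero 2)
  have hfG : (Nat.card G).factorization 2 = s := by
    rw [hG, Nat.factorization_mul (by positivity) hm0, Finsupp.add_apply, Nat.Prime.factorization_pow Nat.prime_two,
      Finsupp.single_eq_same, Nat.factorization_eq_zero_of_not_dvd hm, add_zero]
  have hr : ¬ 2 ∣ r := by
    intro h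
    obtain ⟨r', rfl⟩ := h
    have h1 : Nat.card E ∣ Nat.card G := Subgroup.card_subgroup_dvd_card E
    rw [hE, hG] at h1
    have h2 := Nat.dvd_of_mul_dvd_mul_left (by positivity) h1
    exact hm ((dvd_mul_right 2 r').trans h2)
  have hr0 : r ≠ 0 := by rintro rfl; exact hr (dvd_zero 2)
  have hfE : (Nat.card E).factorization 2 = s := by
    rw [hE, Nat.factorization_mul (by positivity) hr0, Finsupp.add_apply, Nat.Prime.factorization_pow Nat.prime_two,
      Finsupp.single_eq_same, Nat.factorization_eq_zero_of_not_dvd hr, add_zero]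
  have hcS : Nat.card S = 2 ^ s := by rw [Sylow.card_eq_multiplicity, hfE]
  obtain ⟨S', hS'⟩ : ∃ S' : Subgroup G, S' = (S : Subgroup E).map E.subtype := ⟨_, rfl⟩
  have hcS' : Nat.card S' = 2 ^ (Nat.card G).factorization 2 := by
    rw [hfG, ← hcS, hS']
    exact Nat.card_congr ((S : Subgroup E).equivMapOfInjective _ E.subtype_injective).symm.toEquiv
  obtain ⟨g, hg⟩ := MulAction.exists_smul_eq G T (Sylow.ofCard S' hcS')
  have hTS : (T : Subgroup G).map (MulAut.conj g).toMonoidHom = S' := by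
    have h1 : ((g • T : Sylow 2 G) : Subgroup G) = S' := by rw [hg]; rfl
    rw [← h1]
    rfl
  have hSE : S' ≤ E := by
    rw [hS']
    rintro _ ⟨x, _, rfl⟩
    exact x.2
  have hNS : N ≤ S' := by
    have hn : (N.subgroupOf E).Normal := by
      constructor
      intro n hn e
      exact hNn e e.2 n hn
    have hp : IsPGroup 2 (N.subgroupOf E) := by
      apply IsPGroup.of_card (n := 11)
      rw [← hNc]
      exact Nat.card_congr (Subgroup.subgroupOfEquivOfLe hNE).toEquiv
    have h1 : N.subgroupOf E ≤ S := hp.le_sylow_of_normal S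
    intro x hx
    rw [hS']
    exact ⟨⟨x, hNE hx⟩, h1 hx, rfl⟩
  -- the conjugate of a subgroup of `T`
  have hk : ∀ A : Subgroup G, A ≤ T → (A.subgroupOf T).Normal → Cfsg.IsElementaryAbelian 2 A →
      A.map (MulAut.conj g).toMonoidHom ≤ N ∨ Nat.card A ≤ 1024 := by
    intro A hAT hAn hAe
    have hle : A.map (MulAut.conj g).toMonoidHom ≤ S' := by
      rw [← hTS]; exact Subgroup.map_mono hAT
    have hea := conj_ea hAe g
    have k1 : ∀ n ∈ N, ∀ a ∈ A.map (MulAut.conj g).toMonoidHom, n * a * n⁻¹ ∈ A.map (MulAut.conj g).toMonoidHom := by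
      intro n hn a ha
      rw [mem_conj] at ha ⊢
      have h1 : n ∈ (T : Subgroup G).map (MulAut.conj g).toMonoidHom := by rw [hTS]; exact hNS hn
      rw [mem_conj] at h1
      have h2 := hAn.conj_mem ⟨_, hAT ha⟩ ha ⟨_, h1⟩
      rw [Subgroup.mem_subgroupOf] at h2
      have h3 : g⁻¹ * (n * a * n⁻¹) * g = (g⁻¹ * n * g) * (g⁻¹ * a * g) * (g⁻¹ * n * g)⁻¹ := by group
      rw [h3]; exact h2
    have k2 : ∀ a ∈ A.map (MulAut.conj g).toMonoidHom, ∀ b ∈ A.map (MulAut.conj g).toMonoidHom, a * b = b * a := by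
      intro a ha b hb
      have := hea.1.is_comm.comm ⟨a, ha⟩ ⟨b, hb⟩
      exact congrArg Subtype.val this
    have k3 : ∀ a ∈ A.map (MulAut.conj g).toMonoidHom, a * a = 1 := by
      intro a ha
      rw [← pow_two]; exact hea.2 a ha
    rcases key (A.map (MulAut.conj g).toMonoidHom) (hle.trans hSE) k1 k2 k3 with h | h
    · exact Or.inl h
    · right; rwa [card_conj] at h
  refine ⟨?_, ?_⟩
  · intro A hAT hAn hAe
    rcases hk A hAT hAn hAe with h | h
    · rw [← hNc, ← card_conj A g]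
      exact Nat.card_le_card_of_injective (Subgroup.inclusion h) (Subgroup.inclusion_injective h)
    · exact h.trans (by norm_num)
  · have hmem : ∀ x, x ∈ N.map (MulAut.conj g⁻¹).toMonoidHom ↔ g * x * g⁻¹ ∈ N := by
      intro x; rw [mem_conj, inv_inv]
    refine ⟨N.map (MulAut.conj g⁻¹).toMonoidHom, ⟨?_, ?_, conj_ea hNe _, by rw [card_conj, hNc]⟩, ?_⟩
    · intro x hx
      rw [hmem] at hx
      have h1 := hNS hx
      rw [← hTS, mem_conj] at h1
      have h2 : g⁻¹ * (g * x * g⁻¹) * g = x := by group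
      rwa [h2] at h1
    · constructor
      rintro ⟨n, hnT⟩ hn ⟨x, hx⟩
      rw [Subgroup.mem_subgroupOf] at hn ⊢
      change n ∈ _ at hn
      change x * n * x⁻¹ ∈ _
      rw [hmem] at hn ⊢
      have h1 : g * x * g⁻¹ ∈ S' := by
        rw [← hTS, mem_conj]
        have h2 : g⁻¹ * (g * x * g⁻¹) * g = x := by group
        rw [h2]; exact hx
      have h3 : g * (x * n * x⁻¹) * g⁻¹ = (g * x * g⁻¹) * (g * n * g⁻¹) * (g * x * g⁻¹)⁻¹ := by group
      rw [h3]
      exact hNn _ (hSE h1) _ hn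
    · rintro A ⟨hAT, hAn, hAe, hAc⟩
      rcases hk A hAT hAn hAe with h | h
      · have h1 : A.map (MulAut.conj g).toMonoidHom = N := by
          apply Subgroup.eq_of_le_of_card_ge h
          rw [card_conj, hAc, hNc]
        ext x
        rw [hmem, ← h1, mem_conj]
        have h2 : g⁻¹ * (g * x * g⁻¹) * g = x := by group
        rw [h2]
      · rw [hAc] at h
        exact absurd h (by norm_num)

end Cfsg.Agent.Lib.GolaySyl
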