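import Cfsg.Agent.Lib.CosetOrder

/-!
# Primitivity of word-generated subgroups acting on lanes
-/

set_option autoImplicit false

namespace Cfsg.Agent.Lib.PrimLane

variable {G : Type*} [Group G] (φ : G →* Equiv.Perm ℕ)

/-- stabilizer in `J` of a lane -/
def stab (J : Subgroup G) (q : ℕ) : Subgroup G where
  carrier := {g | g ∈ J ∧ φ g q = q}
  one_mem' := ⟨J.one_mem, by rw [map_one]; rfl⟩
  mul_mem' := by
    rintro a b ⟨ha, ha'⟩ ⟨hb, hb'⟩
    exact ⟨J.mul_mem ha hb, by rw [map_mul, Equiv.Perm.mul_apply, hb', ha']⟩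
  inv_mem' := by
    rintro a ⟨ha, ha'⟩
    refine ⟨J.inv_mem ha, ?_⟩
    rw [map_inv, Equiv.Perm.inv_eq_iff_eq]; exact ha'.symm

/-- orbit of a lane under `J` -/
def orb (J : Subgroup G) (q : ℕ) : Set ℕ := {j | ∃ g ∈ J, φ g q = j}

theorem mem_stab {J : Subgroup G} {q : ℕ} {g : G} : g ∈ stab φ J q ↔ g ∈ J ∧ φ g q = q := Iff.rfl

theorem stab_le (J : Subgroup G) (q : ℕ) : stab φ J q ≤ J := fun _ h => h.1

theorem relIndex_stab (J : Subgroup G) (q : ℕ) : (stab φ J q).relIndex J = (orb φ J q).ncard := by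
  let _ : MulAction G ℕ := MulAction.compHom ℕ φ
  have h := MulAction.index_stabilizer J q
  have h1 : (stab φ J q).subgroupOf J = MulAction.stabilizer J q := by
    ext ⟨g, hg⟩
    rw [Subgroup.mem_subgroupOf, MulAction.mem_stabilizer_iff]
    exact ⟨fun h => h.2, fun h => ⟨hg, h⟩⟩
  have h2 : MulAction.orbit J q = orb φ J q := by
    ext j
    constructor
    · rintro ⟨⟨g, hg⟩, h⟩; exact ⟨g, hg, h⟩
    · rintro ⟨g, hg, h⟩; exact ⟨⟨g, hg⟩, h⟩
  rw [Subgroup.relIndex, h1, h, h2]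

/-- the stabilizer of a point is maximal when no union of suborbits has a size dividing the degree -/
theorem prim {J : Subgroup G} {q n : ℕ} (hn : 0 < n) {O : Set ℕ} (hO : ∀ j, (∃ g ∈ J, φ g q = j) ↔ j ∈ O)
    (hOn : O.ncard = n) {T : Subgroup G} (hT : ∀ t ∈ T, t ∈ J ∧ φ t q = q) {r : ℕ} (M : Fin r → Set ℕ)
    (sz : Fin r → ℕ) (hsz : ∀ i, (M i).ncard = sz i)
    (hM : ∀ i, ∀ x ∈ M i, ∀ y ∈ M i, ∃ t ∈ T, φ t x = y)
    (hcov : ∀ j, j ∈ O ↔ j = q ∨ ∃ i, j ∈ M i)
    (hdis : ∀ i j x, x ∈ M i → x ∈ M j → i = j) (hq : ∀ i, q ∉ M i)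
    (arith : ∀ I : Finset (Fin r), (1 + ∑ i ∈ I, sz i) ∣ n → (1 + ∑ i ∈ I, sz i) = 1 ∨ (1 + ∑ i ∈ I, sz i) = n)
    {K : Subgroup G} (hK1 : stab φ J q ≤ K) (hK2 : K ≤ J) : K = stab φ J q ∨ K = J := by
  classical
  have hOf : O.Finite := Set.finite_of_ncard_ne_zero (by omega)
  have hJO : orb φ J q = O := Set.ext hO
  have hBO : orb φ K q ⊆ O := by
    rintro j ⟨g, hg, h⟩
    exact (hO j).mp ⟨g, hK2 hg, h⟩
  have hS : stab φ K q = stab φ J q := by
    ext g
    exact ⟨fun h => ⟨hK2 h.1, h.2⟩, fun h => ⟨hK1 h, h.2⟩⟩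
  have hTK : T ≤ K := fun t ht => hK1 (hT t ht)
  have hmul : (stab φ J q).relIndex K * K.relIndex J = (stab φ J q).relIndex J :=
    Subgroup.relIndex_mul_relIndex _ _ _ hK1 hK2
  have h1 : (stab φ J q).relIndex K = (orb φ K q).ncard := by rw [← hS, relIndex_stab]
  have h2 : (stab φ J q).relIndex J = n := by rw [relIndex_stab, hJO, hOn]
  rw [h2] at hmul
  -- the orbit of `K` is a union of the `M i`
  let I : Finset (Fin r) := Finset.univ.filter (fun i => ∃ x ∈ M i, x ∈ orb φ K q)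
  have hMI : ∀ i, i ∈ I ↔ ∃ x ∈ M i, x ∈ orb φ K q := fun i => by simp [I]
  have hsub : ∀ i ∈ I, M i ⊆ orb φ K q := by
    intro i hi y hy
    obtain ⟨x, hx, g, hg, h⟩ := (hMI i).mp hi
    obtain ⟨t, ht, h'⟩ := hM i x hx y hy
    exact ⟨t * g, K.mul_mem (hTK ht) hg, by rw [map_mul, Equiv.Perm.mul_apply, h, h']⟩
  have hMO : ∀ i, M i ⊆ O := fun i x hx => (hcov x).mpr (Or.inr ⟨i, hx⟩)
  have hMf : ∀ i, (M i).Finite := fun i => hOf.subset (hMO i)
  have hun : orb φ K q = insert q (⋃ i ∈ I, M i) := by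
    ext j
    rw [Set.mem_insert_iff, Set.mem_iUnion₂]
    constructor
    · intro hj
      rcases (hcov j).mp (hBO hj) with h | ⟨i, hi⟩
      · exact Or.inl h
      · exact Or.inr ⟨i, (hMI i).mpr ⟨j, hi, hj⟩, hi⟩
    · rintro (rfl | ⟨i, hi, h⟩)
      · exact ⟨1, K.one_mem, by rw [map_one]; rfl⟩
      · exact hsub i hi h
  have hcard : (orb φ K q).ncard = 1 + ∑ i ∈ I, sz i := by
    have hUf : (⋃ i ∈ I, M i).Finite := hOf.subset (fun x hx => by
        rw [Set.mem_iUnion₂] at hx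
        obtain ⟨i, _, h⟩ := hx
        exact hMO i h)
    rw [hun, Set.ncard_insert_of_notMem ?_ hUf]
    · rw [add_comm]
      congr 1
      have h3 : (⋃ i ∈ I, M i).ncard = ∑ i ∈ I, (M i).ncard := by
        clear_value I
        clear hun hsub hMI hUf
        induction I using Finset.induction_on with
        | empty => simp
        | insert a s ha ih =>
          rw [Finset.sum_insert ha, Finset.set_biUnion_insert, Set.ncard_union_eq ?_ (hMf a) ?_, ih]
          · rw [Set.disjoint_left]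
            intro x hx hx'
            rw [Set.mem_iUnion₂] at hx'
            obtain ⟨i, hi, h⟩ := hx'
            exact ha (hdis a i x hx h ▸ hi)
          · exact hOf.subset (fun x hx => by
              rw [Set.mem_iUnion₂] at hx
              obtain ⟨i, _, h⟩ := hx
              exact hMO i h)
      rw [h3]
      exact Finset.sum_congr rfl (fun i _ => hsz i)
    · rw [Set.mem_iUnion₂]
      rintro ⟨i, _, h⟩
      exact hq i h
  have hd : (orb φ K q).ncard ∣ n := by rw [← h1]; exact Dvd.intro _ hmul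
  have har := arith I
  rw [← hcard] at har
  rcases har hd with h | h
  · left
    refine le_antisymm ?_ hK1
    rw [← Subgroup.relIndex_eq_one, h1, h]
  · right
    refine le_antisymm hK2 ?_
    rw [h1, h] at hmul
    rw [← Subgroup.relIndex_eq_one]
    exact Nat.eq_of_mul_eq_mul_left hn (by rw [hmul, mul_one])

/-- `A` is maximal in `S` -/
def MaxIn (A S : Subgroup G) : Prop := A ≠ S ∧ A ≤ S ∧ ∀ K : Subgroup G, A ≤ K → K ≤ S → K = A ∨ K = S

theorem MaxIn.isCoatom {A S : Subgroup G} (h : MaxIn A S) : IsCoatom (A.subgroupOf S) := by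
  obtain ⟨h1, h2, h3⟩ := h
  constructor
  · intro h
    rw [Subgroup.subgroupOf_eq_top] at h
    exact h1 (le_antisymm h2 h)
  · intro K hK
    have hle : A ≤ K.map S.subtype := by
      intro a ha
      exact ⟨⟨a, h2 ha⟩, hK.le (Subgroup.mem_subgroupOf.mpr ha), rfl⟩
    have hle' : K.map S.subtype ≤ S := by
      rintro _ ⟨a, _, rfl⟩; exact a.2
    rcases h3 _ hle hle' with h | h
    · exfalso
      apply hK.ne
      ext ⟨a, ha⟩
      rw [Subgroup.mem_subgroupOf, ← h]
      constructor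
      · rintro ⟨b, hb, e⟩
        have : b = ⟨a, ha⟩ := Subtype.ext e
        rw [← this]; exact hb
      · intro hb; exact ⟨_, hb, rfl⟩
    · rw [eq_top_iff]
      rintro ⟨a, ha⟩ _
      have ha' := ha
      rw [← h] at ha'
      obtain ⟨b, hb, e⟩ := ha'
      have : b = ⟨a, ha⟩ := Subtype.ext e
      rw [← this]; exact hb

theorem MaxIn.comap {G' : Type*} [Group G'] {A S : Subgroup G} (h : MaxIn A S) (f : G' →* G) (hS : S ≤ f.range) :
    MaxIn (A.comap f) (S.comap f) := by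
  obtain ⟨h1, h2, h3⟩ := h
  have hA : A ≤ f.range := h2.trans hS
  refine ⟨?_, Subgroup.comap_mono h2, ?_⟩
  · intro h
    apply h1
    rw [← Subgroup.map_comap_eq_self hA, ← Subgroup.map_comap_eq_self hS, h]
  · intro K hK1 hK2
    have hker : f.ker ≤ K := by
      intro g hg
      apply hK1
      rw [Subgroup.mem_comap, MonoidHom.mem_ker.mp hg]; exact A.one_mem
    have e1 : K = (K.map f).comap f := by
      rw [Subgroup.comap_map_eq, sup_eq_left.mpr hker]
    have := h3 (K.map f) (by rw [← Subgroup.map_comap_eq_self hA]; exact Subgroup.map_mono hK1)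
      (by rw [← Subgroup.map_comap_eq_self hS]; exact Subgroup.map_mono hK2)
    rcases this with h | h
    · left; rw [e1, h]
    · right; rw [e1, h]

theorem stab_conj {J : Subgroup G} {q : ℕ} {d : G} (hd : d ∈ J) (g : G) :
    g ∈ stab φ J (φ d q) ↔ d⁻¹ * g * d ∈ stab φ J q := by
  rw [mem_stab, mem_stab]
  constructor
  · rintro ⟨h1, h2⟩
    refine ⟨J.mul_mem (J.mul_mem (J.inv_mem hd) h1) hd, ?_⟩
    rw [map_mul, map_mul, Equiv.Perm.mul_apply, Equiv.Perm.mul_apply, h2, map_inv]; simp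
  · rintro ⟨h1, h2⟩
    constructor
    · have := J.mul_mem (J.mul_mem hd h1) (J.inv_mem hd)
      simpa [mul_assoc] using this
    · rw [map_mul, map_mul, Equiv.Perm.mul_apply, Equiv.Perm.mul_apply, map_inv, Equiv.Perm.inv_eq_iff_eq] at h2
      exact h2

/-- maximality of point stabilizers is invariant under conjugation -/
theorem maxIn_conj {J : Subgroup G} {q : ℕ} {d : G} (hd : d ∈ J) (h : MaxIn (stab φ J q) J) :
    MaxIn (stab φ J (φ d q)) J := by
  obtain ⟨h1, h2, h3⟩ := h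
  refine ⟨?_, stab_le φ J _, ?_⟩
  · intro h
    apply h1
    refine le_antisymm (stab_le φ J q) ?_
    intro g hg
    have h4 : d * g * d⁻¹ ∈ stab φ J (φ d q) := by
      rw [h]; exact J.mul_mem (J.mul_mem hd hg) (J.inv_mem hd)
    rw [stab_conj φ hd] at h4
    simpa [mul_assoc] using h4
  · intro K hK1 hK2
    have h4 : stab φ J q ≤ K.comap (MulAut.conj d).toMonoidHom := by
      intro g hg
      rw [Subgroup.mem_comap]
      apply hK1
      rw [stab_conj φ hd]
      change d⁻¹ * (d * g * d⁻¹) * d ∈ _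
      simpa [mul_assoc] using hg
    have h5 : K.comap (MulAut.conj d).toMonoidHom ≤ J := by
      intro g hg
      have h6 : d * g * d⁻¹ ∈ J := hK2 hg
      have := J.mul_mem (J.mul_mem (J.inv_mem hd) h6) hd
      simpa [mul_assoc] using this
    rcases h3 _ h4 h5 with h | h
    · left
      refine le_antisymm ?_ hK1
      intro g hg
      rw [stab_conj φ hd, ← h, Subgroup.mem_comap]
      change d * (d⁻¹ * g * d) * d⁻¹ ∈ K
      simpa [mul_assoc] using hg
    · right
      refine le_antisymm hK2 ?_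
      intro g hg
      have h6 : d⁻¹ * g * d ∈ K.comap (MulAut.conj d).toMonoidHom := by
        rw [h]; exact J.mul_mem (J.mul_mem (J.inv_mem hd) hg) hd
      have h7 : d * (d⁻¹ * g * d) * d⁻¹ ∈ K := h6
      simpa [mul_assoc] using h7

/-- extremely primitive actions -/
theorem ext_prim {H : Subgroup G} {p0 : ℕ} (h0 : MaxIn (stab φ H p0) H) {r : ℕ} (R : Fin r → ℕ)
    (hR : ∀ g ∈ H, φ g p0 = p0 ∨ ∃ i, ∃ d ∈ stab φ H p0, φ d (R i) = φ g p0)
    (h1 : ∀ i, MaxIn (stab φ (stab φ H p0) (R i)) (stab φ H p0)) :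
    IsCoatom ((stab φ H p0).subgroupOf H) ∧ ∀ x : H, x ∉ (stab φ H p0).subgroupOf H →
      IsCoatom (((stab φ H p0).subgroupOf H ⊓ ((stab φ H p0).subgroupOf H).map (MulAut.conj x).toMonoidHom).subgroupOf
        ((stab φ H p0).subgroupOf H)) := by
  refine ⟨h0.isCoatom, ?_⟩
  rintro ⟨x, hx⟩ hxD
  rw [Subgroup.mem_subgroupOf] at hxD
  change ¬ (x ∈ stab φ H p0) at hxD
  have hj : φ x p0 ≠ p0 := fun h => hxD ⟨hx, h⟩
  obtain ⟨i, d, hd, hdj⟩ := (hR x hx).resolve_left hj
  have hm := maxIn_conj φ hd (h1 i)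
  rw [hdj] at hm
  have e : (stab φ H p0).subgroupOf H ⊓ ((stab φ H p0).subgroupOf H).map (MulAut.conj (⟨x, hx⟩ : H)).toMonoidHom =
      (stab φ (stab φ H p0) (φ x p0)).subgroupOf H := by
    ext ⟨g, hg⟩
    rw [Subgroup.mem_inf, Subgroup.mem_subgroupOf, Subgroup.mem_subgroupOf]
    change g ∈ stab φ H p0 ∧ _ ↔ g ∈ stab φ (stab φ H p0) (φ x p0)
    rw [mem_stab φ (J := stab φ H p0)]
    apply and_congr_right
    intro hg1
    have e1 : φ g (φ x p0) = φ x p0 ↔ x⁻¹ * g * x ∈ stab φ H p0 := by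
      rw [← stab_conj φ hx, mem_stab]
      exact ⟨fun h => ⟨hg, h⟩, fun h => h.2⟩
    rw [e1]
    constructor
    · rintro ⟨⟨y, hy⟩, hy', he⟩
      have h2 : x * y * x⁻¹ = g := congrArg Subtype.val he
      have h3 : y ∈ stab φ H p0 := hy'
      rw [← h2]
      simpa [mul_assoc] using h3
    · intro h
      refine ⟨⟨x⁻¹ * g * x, h.1⟩, h, ?_⟩
      apply Subtype.ext
      change x * (x⁻¹ * g * x) * x⁻¹ = g
      simp [mul_assoc]
  rw [e]
  exact (hm.comap H.subtype (by rw [Subgroup.range_subtype]; exact stab_le φ H p0)).isCoatom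

open Cfsg.Agent.Lib.BenesPerm Cfsg.Agent.Lib.BenesAct Cfsg.Agent.Lib.BenesWord Cfsg.Agent.Lib.CoxBridge

/-- union of masks -/
noncomputable def unionF (q : ℕ) {r : ℕ} (M : Fin r → ℕ) : ℕ := (List.finRange r).foldr (fun i a => Nat.lor (M i) a) (2 ^ q)

theorem testBit_foldr {r : ℕ} (M : Fin r → ℕ) (q j : ℕ) (l : List (Fin r)) :
    (l.foldr (fun i a => Nat.lor (M i) a) (2 ^ q)).testBit j = true ↔ j = q ∨ ∃ i ∈ l, (M i).testBit j = true := by
  induction l with
  | nil =>
    rw [List.foldr_nil, Nat.testBit_two_pow, decide_eq_true_eq]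
    constructor
    · intro h; exact Or.inl h.symm
    · rintro (h | ⟨i, hi, _⟩)
      · exact h.symm
      · exact absurd hi (by simp)
  | cons a l ih =>
    rw [List.foldr_cons]
    change (M a ||| _).testBit j = true ↔ _
    rw [Nat.testBit_or, Bool.or_eq_true, ih]
    simp only [List.mem_cons, exists_eq_or_imp]
    tauto

theorem testBit_unionF {r : ℕ} (M : Fin r → ℕ) (q j : ℕ) :
    (unionF q M).testBit j = true ↔ j = q ∨ ∃ i, (M i).testBit j = true := by
  unfold unionF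
  rw [testBit_foldr]
  simp

/-- maximality of a point stabilizer from masks of suborbits -/
theorem maxIn_masks {ns : List Net} {k : ℕ} {iv : ℕ → ℕ} {x : ℕ → G} (hns : netsCheck (2 ^ k) ns = true)
    (hφ : ∀ c, φ (x c) = sperm ns c) (hxi : ∀ c, x (iv c) = (x c)⁻¹) {J : Subgroup G} {q n Om : ℕ} (hn : 1 < n)
    (hO : ∀ j, (∃ g ∈ J, φ g q = j) ↔ Om.testBit j = true) (hOl : Om < 2 ^ 2 ^ k) (hOp : popK k Om = n)
    (WT : List Wd) (hT : ∀ W ∈ WT, W.eval x ∈ J) (hfix : invK ns (WT.map (Wd.flat iv)) (2 ^ q) = true)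
    {r : ℕ} (p M sz : Fin r → ℕ) (st : Fin r → List ℕ)
    (hinv : ∀ i, invK ns (WT.map (Wd.flat iv)) (M i) = true)
    (hreach : ∀ i, reachK ns (stepsW (WT.map (Wd.flat iv)) (st i)) (2 ^ (p i)) (fun V => Nat.beq V (M i)) = true)
    (hpop : ∀ i, popK k (M i) = sz i) (hun : unionF q M = Om)
    (hdis : ∀ i j, (M j).testBit (p i) = true → i = j) (hq : ∀ i, (M i).testBit q = false)
    (arith : ∀ I : Finset (Fin r), (1 + ∑ i ∈ I, sz i) ∣ n → (1 + ∑ i ∈ I, sz i) = 1 ∨ (1 + ∑ i ∈ I, sz i) = n) :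
    MaxIn (stab φ J q) J := by
  have hTJ : Subgroup.closure (wset x WT) ≤ J := by
    rw [Subgroup.closure_le]
    rintro _ ⟨W, hW, rfl⟩
    exact hT W hW
  have hTf := fix_lane hns hφ hxi WT hfix
  have horb : ∀ i j, (∃ h ∈ Subgroup.closure (wset x WT), φ h (p i) = j) ↔ (M i).testBit j = true := fun i j =>
    orbit_lanes hns hφ hxi WT (st i) (hinv i) (hreach i) j
  have hpM : ∀ i, (M i).testBit (p i) = true := fun i =>
    (horb i (p i)).mp ⟨1, Subgroup.one_mem _, by rw [map_one]; rfl⟩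
  have hM : ∀ i, ∀ a ∈ {j | (M i).testBit j = true}, ∀ b ∈ {j | (M i).testBit j = true},
      ∃ t ∈ Subgroup.closure (wset x WT), φ t a = b := by
    intro i a ha b hb
    obtain ⟨g, hg, hga⟩ := (horb i a).mpr ha
    obtain ⟨h, hh, hhb⟩ := (horb i b).mpr hb
    refine ⟨h * g⁻¹, Subgroup.mul_mem _ hh (Subgroup.inv_mem _ hg), ?_⟩
    rw [map_mul, Equiv.Perm.mul_apply, ← hhb, ← hga, map_inv]; simp
  have hMlt : ∀ i, M i < 2 ^ 2 ^ k := by
    intro i
    apply Nat.lt_pow_two_of_testBit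
    intro j hj
    by_contra hcon
    have h1 : (M i).testBit j = true := by simpa using hcon
    have h2 : Om.testBit j = true := by rw [← hun, testBit_unionF]; exact Or.inr ⟨i, h1⟩
    rw [Nat.testBit_lt_two_pow (lt_of_lt_of_le hOl (Nat.pow_le_pow_right (by norm_num) hj))] at h2
    exact absurd h2 (by decide)
  refine ⟨?_, stab_le φ J q, ?_⟩
  · intro h
    have h1 := relIndex_stab φ J q
    rw [h, Subgroup.relIndex_self] at h1
    have h2 : orb φ J q = {j | Om.testBit j = true} := Set.ext hO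
    rw [h2, ncard_bits hOl, hOp] at h1
    omega
  · intro K hK1 hK2
    refine prim φ (O := {j | Om.testBit j = true}) (n := n) (by omega) hO (by rw [ncard_bits hOl, hOp])
      (T := Subgroup.closure (wset x WT)) (fun t ht => ⟨hTJ ht, hTf t ht⟩) (fun i => {j | (M i).testBit j = true}) sz
      (fun i => by rw [ncard_bits (hMlt i), hpop]) hM ?_ ?_ ?_ arith hK1 hK2
    · intro j
      change Om.testBit j = true ↔ _
      rw [← hun, testBit_unionF]; rfl
    · intro i j y hi hj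
      apply hdis
      obtain ⟨t, ht, h⟩ := hM i y hi (p i) (hpM i)
      rw [← h]
      obtain ⟨s, hs, h'⟩ := (horb j y).mpr hj
      exact (horb j _).mp ⟨t * s, Subgroup.mul_mem _ ht hs, by rw [map_mul, Equiv.Perm.mul_apply, h']⟩
    · intro i h
      have h' : (M i).testBit q = true := h
      rw [hq] at h'
      exact absurd h' (by decide)

end Cfsg.Agent.Lib.PrimLane
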