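import Cfsg.Agent.Lib.Fi23NrmChk
import Cfsg.Agent.Lib.GolaySyl
import Cfsg.Agent.Lib.PrimLane

/-!
# The subgroup `2¹¹.M₂₃` of `Fi₂₃`
-/

set_option autoImplicit false
set_option linter.all false
set_option maxRecDepth 100000
set_option exponentiation.threshold 50000

namespace Cfsg.Agent.Lib.Fi23Nrm

open Cfsg.Spor Cfsg.Agent.Lib.BenesPerm Cfsg.Agent.Lib.BenesAct Cfsg.Agent.Lib.BenesWord
open Cfsg.Agent.Lib.LaneTools Cfsg.Agent.Lib.TransLanes Cfsg.Agent.Lib.Fi23Rel Cfsg.Agent.Lib.Fi23NetsA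
open Cfsg.Agent.Lib.Fi23Out Cfsg.Agent.Lib.Fi23NrmData Cfsg.Agent.Lib.Fi23NrmChk
open Cfsg.Agent.Lib.CosetMain Cfsg.Agent.Lib.CoxBridge Cfsg.Agent.Lib.CosetGroup
open Cfsg.Agent.Lib.BenesPlane
open Cfsg.Agent.Lib.SliceK4 (allK allK_spec)
open Cfsg.Agent.Lib.PrimLane (stab orb relIndex_stab)
open Cfsg.Agent.Lib.Fi23A (c_nets)

section reach

variable {G : Type*} [Group G] {x : ℕ → G} {φ : G →* Equiv.Perm ℕ} {ns : List Net}

/-- lanes reached from `p` lie in the orbit -/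
theorem reach_sub {N0 : ℕ} (hns : netsCheck N0 ns = true) (hw : ∀ w i, φ (Wx x w) i = wfn ns w i) (J : Subgroup G) (p : ℕ) :
    ∀ (steps : List (List ℕ)) (S : ℕ), (∀ w ∈ steps, Wx x w ∈ J) → (∀ j, S.testBit j = true → ∃ g ∈ J, φ g p = j) →
      ∀ j, (reach ns steps S).testBit j = true → ∃ g ∈ J, φ g p = j := by
  intro steps
  induction steps with
  | nil => intro S _ hS j hj; exact hS j hj
  | cons w steps ih =>
    intro S hst hS j hj
    refine ih (S ||| appW ns w S) (fun v hv => hst v (List.mem_cons_of_mem _ hv)) ?_ j hj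
    intro i hi
    rw [Nat.testBit_or, Bool.or_eq_true] at hi
    rcases hi with hi | hi
    · exact hS i hi
    · rw [testBit_appW (hok hns)] at hi
      obtain ⟨g, hg, h⟩ := hS _ hi
      refine ⟨(Wx x w)⁻¹ * g, J.mul_mem (J.inv_mem (hst w List.mem_cons_self)) hg, ?_⟩
      rw [map_mul, Equiv.Perm.mul_apply, h, ← hw w i, map_inv]
      exact (φ (Wx x w)).symm_apply_apply i

theorem mask_sub {N0 : ℕ} (hns : netsCheck N0 ns = true) (hw : ∀ w i, φ (Wx x w) i = wfn ns w i) (J : Subgroup G) (p : ℕ)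
    {ws : List (List ℕ)} {l : List ℕ} {M : ℕ} (hJ : ∀ w ∈ ws, Wx x w ∈ J)
    (h : reachK ns (stepsW ws l) (2 ^ p) (fun V => Nat.beq V M) = true) : {i | M.testBit i = true} ⊆ orb φ J p := by
  intro j hj
  rw [reachK_eq] at h
  have h1 : reach ns (stepsW ws l) (2 ^ p) = M := Nat.eq_of_beq_eq_true h
  apply reach_sub hns hw J p (stepsW ws l) (2 ^ p) ?_ ?_ j (by rw [h1]; exact hj)
  · intro w hw
    obtain ⟨i, _, rfl⟩ := List.mem_map.mp hw
    rcases nthK_mem [] ws i with h2 | h2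
    · rw [h2, Wx_nil]; exact J.one_mem
    · exact hJ _ h2
  · intro i hi
    rw [Nat.testBit_two_pow, decide_eq_true_eq] at hi
    exact ⟨1, J.one_mem, by rw [map_one, ← hi]; rfl⟩

end reach

theorem tight {x s y t : ℕ} (hx : s ≤ x) (hy : t ≤ y) (h : x * y = s * t) (hs : 0 < s) (ht : 0 < t) : x = s ∧ y = t := by
  have h1 : x = s := by
    by_contra hne
    have h2 : s < x := lt_of_le_of_ne hx (Ne.symm hne)
    have h3 : s * t < x * t := Nat.mul_lt_mul_of_pos_right h2 ht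
    have h4 : x * t ≤ x * y := Nat.mul_le_mul_left _ hy
    omega
  subst h1
  exact ⟨rfl, Nat.eq_of_mul_eq_mul_left hs h⟩

/-! ### the 23 lanes -/

theorem Bv_lt : ∀ v < 23, Bv v < 31671 := by decide +kernel
theorem Bv_lt' {v : ℕ} (hv : v < 23) : Bv v < 2 ^ 15 := lt_of_lt_of_le (Bv_lt v hv) (by norm_num)
theorem idx_Bv : ∀ v < 23, BL.idxOf (Bv v) = v := by decide +kernel
theorem Bv_idx : ∀ i ∈ BL, BL.idxOf i < 23 ∧ Bv (BL.idxOf i) = i := by decide +kernel
theorem Bv_mem : ∀ v < 23, Bv v ∈ BL := by decide +kernel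

/-- the set of lanes -/
def X : Set ℕ := {i | i ∈ BL}

theorem X_fin : X.Finite := List.finite_toSet BL

/-- labelling -/
noncomputable def Lb : LabHom.Lab X 23 where
  lab i := BL.idxOf i
  lane := Bv
  lab_lt i hi := (Bv_idx i hi).1
  lane_mem v hv := Bv_mem v hv
  lab_lane v hv := idx_Bv v hv
  lane_lab i hi := (Bv_idx i hi).2

variable {φ : GF →* Equiv.Perm ℕ}

/-- the set stabilizer -/
def EE (φ : GF →* Equiv.Perm ℕ) : Subgroup GF where
  carrier := {g | ∀ i, i ∈ X ↔ φ g i ∈ X}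
  one_mem' := by intro i; rw [map_one]; rfl
  mul_mem' := by
    intro a b ha hb i
    rw [map_mul, Equiv.Perm.mul_apply, hb i, ha (φ b i)]
  inv_mem' := by
    intro a ha i
    have h := ha (φ a⁻¹ i)
    rw [← Equiv.Perm.mul_apply, ← map_mul, mul_inv_cancel, map_one] at h
    exact h.symm

theorem mem_EE_of {g : GF} (h : ∀ i ∈ X, φ g i ∈ X) : g ∈ EE φ := by
  intro i
  refine ⟨h i, fun hi => ?_⟩
  have h1 : (φ g) '' X = X := by
    apply Set.eq_of_subset_of_ncard_le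
    · rintro _ ⟨j, hj, rfl⟩; exact h j hj
    · rw [Set.ncard_image_of_injective _ (φ g).injective]
    · exact X_fin
  rw [← h1] at hi
  obtain ⟨j, hj, h2⟩ := hi
  rwa [(φ g).injective h2] at hj

theorem hX (g : GF) (hg : g ∈ EE φ) (i : ℕ) (hi : i ∈ X) : φ g i ∈ X := (hg i).mp hi

/-- the action on the 23 lanes -/
noncomputable def rho (φ : GF →* Equiv.Perm ℕ) : EE φ →* Equiv.Perm (Fin 23) := LabHom.hom Lb φ (EE φ) hX

theorem rho_iff (g : EE φ) (i j : Fin 23) : rho φ g i = j ↔ φ g (Bv i) = Bv j := by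
  have h := LabHom.hom_apply Lb φ (EE φ) hX g i
  constructor
  · intro h1
    have h2 : BL.idxOf (φ g (Bv i)) = j := by rw [← h1]; exact h.symm
    have h3 := (Bv_idx _ (hX g g.2 _ (Bv_mem i i.2))).2
    rw [h2] at h3
    exact h3.symm
  · intro h1
    apply Fin.ext
    have h2 : ((rho φ g i : Fin 23) : ℕ) = BL.idxOf (φ g (Bv i)) := h
    rw [h2, h1, idx_Bv _ j.2]

section ctx

variable (C : Ctx xx φ nets 15 31671 10 pt rc)
include C

theorem lane_of {w : List ℕ} (hw : lt10 w = true) {i j : ℕ} (hi : i < 2 ^ 15) (h : laneT tabs w i j = true) :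
    φ (Wx xx w) i = j := by
  rw [C.φ_word]; exact wfn_T (lt10_spec hw) hi h

theorem T_tw {v : ℕ} (hv : v < 23) : C.T (Bv v) = Wx xx (tw v) := by
  have h := allK_spec path_ok v hv
  rw [bandK_eq_true, bandK_eq_true] at h
  obtain ⟨h1, h2, h3⟩ := h
  have h2' : nthK 0 bc v < 10 := Nat.le_of_ble_eq_true h2
  have h4 := wfn_T (lt10_spec h1) (lt_of_lt_of_le (C.hpt _ h2') (by norm_num)) h3
  obtain ⟨-, h5⟩ := C.T_word h2' h4
  rw [h5]
  unfold tw
  rw [Wx_append, Wx_cons, Wx_reverse (fun c hc => hx2 c (lt10_spec h1 c hc)), mul_assoc]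

theorem T_fix {a b : ℕ} (ha : a < 23) (hb : b < 23) : φ (C.T (Bv a)) (Bv b) = Bv b := by
  rw [T_tw C ha]
  exact lane_of C (allK_spec tw_ok a ha) (Bv_lt' hb) (allK_spec (comm_ok a ha) b hb)

theorem X_iff {i : ℕ} : i ∈ X ↔ ∃ v < 23, Bv v = i :=
  ⟨fun h => ⟨_, Bv_idx i h⟩, fun ⟨v, hv, h⟩ => h ▸ Bv_mem v hv⟩

theorem T_mem {a : ℕ} (ha : a < 23) : C.T (Bv a) ∈ EE φ := by
  apply mem_EE_of
  intro i hi
  obtain ⟨v, hv, rfl⟩ := (X_iff C).mp hi
  rw [T_fix C ha hv]; exact hi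

/-- the normal subgroup -/
noncomputable def NN (C : Ctx xx φ nets 15 31671 10 pt rc) : Subgroup GF :=
  Subgroup.closure (Set.range (fun v : Fin 23 => C.T (Bv v)))

theorem T_NN (v : Fin 23) : C.T (Bv v) ∈ NN C := Subgroup.subset_closure ⟨v, rfl⟩

theorem NN_fix {n : GF} (hn : n ∈ NN C) {v : ℕ} (hv : v < 23) : φ n (Bv v) = Bv v := by
  have h : NN C ≤ stab φ ⊤ (Bv v) := by
    unfold NN
    rw [Subgroup.closure_le]
    rintro _ ⟨a, rfl⟩
    exact ⟨trivial, T_fix C a.2 hv⟩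
  exact (h hn).2

theorem NN_le : NN C ≤ EE φ := by
  unfold NN
  rw [Subgroup.closure_le]
  rintro _ ⟨a, rfl⟩
  exact T_mem C a.2

theorem NN_comm {a b : GF} (ha : a ∈ NN C) (hb : b ∈ NN C) : a * b = b * a := by
  have h : NN C ≤ Subgroup.centralizer {a} := by
    unfold NN
    rw [Subgroup.closure_le]
    rintro _ ⟨v, rfl⟩
    apply Subgroup.mem_centralizer_singleton_iff.mpr
    exact ((C.fix_iff (Bv_lt v v.2) a).mp (NN_fix C ha v.2)).symm
  exact (Subgroup.mem_centralizer_singleton_iff.mp (h hb)).symm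

theorem NN_sq {a : GF} (ha : a ∈ NN C) : a * a = 1 := by
  have key : ∀ a ∈ NN C, a * a = 1 ∧ a ∈ NN C := by
    intro a ha
    unfold NN at ha
    induction ha using Subgroup.closure_induction with
    | mem x hx =>
      obtain ⟨v, rfl⟩ := hx
      exact ⟨C.T_sq (Bv_lt v v.2), T_NN C v⟩
    | one => exact ⟨mul_one 1, Subgroup.one_mem _⟩
    | mul x y _ _ ihx ihy =>
      refine ⟨?_, Subgroup.mul_mem _ ihx.2 ihy.2⟩
      have h := NN_comm C ihx.2 ihy.2
      calc x * y * (x * y) = x * (y * x) * y := by group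
        _ = x * (x * y) * y := by rw [h]
        _ = (x * x) * (y * y) := by group
        _ = 1 := by rw [ihx.1, ihy.1, mul_one]
    | inv x _ ih =>
      refine ⟨?_, Subgroup.inv_mem _ ih.2⟩
      rw [← mul_inv_rev, ih.1, inv_one]
  exact (key a ha).1

theorem NN_conj {g n : GF} (hg : g ∈ EE φ) (hn : n ∈ NN C) : g * n * g⁻¹ ∈ NN C := by
  unfold NN at hn
  induction hn using Subgroup.closure_induction with
  | mem x hx =>
    obtain ⟨v, rfl⟩ := hx
    have h1 := C.T_map (Bv_lt v v.2) g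
    have h2 := hX g hg _ (Bv_mem v v.2)
    obtain ⟨u, hu, h3⟩ := (X_iff C).mp h2
    show g * C.T (Bv v) * g⁻¹ ∈ NN C
    rw [← h1, ← h3]
    exact T_NN C ⟨u, hu⟩
  | one => rw [mul_one, mul_inv_cancel]; exact Subgroup.one_mem _
  | mul x y _ _ ihx ihy =>
    have : g * (x * y) * g⁻¹ = (g * x * g⁻¹) * (g * y * g⁻¹) := by group
    rw [this]; exact Subgroup.mul_mem _ ihx ihy
  | inv x _ ih =>
    have : g * x⁻¹ * g⁻¹ = (g * x * g⁻¹)⁻¹ := by group
    rw [this]; exact Subgroup.inv_mem _ ih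

theorem T0_ne : C.T (Bv 20) ≠ 1 := by
  intro h
  obtain ⟨a, ha⟩ := C.htr (Bv 20) (Bv_lt 20 (by norm_num))
  obtain ⟨b, hb⟩ := C.htr (Bv 19) (Bv_lt 19 (by norm_num))
  have h1 := (C.fix_iff (Bv_lt 20 (by norm_num)) (b * a⁻¹)).mpr (by rw [h, mul_one, one_mul])
  have h2 : φ (b * a⁻¹) (Bv 20) = Bv 19 := by
    rw [map_mul, Equiv.Perm.mul_apply, ← hb, ← ha, map_inv]
    congr 1
    exact (φ a).symm_apply_apply _
  rw [h2] at h1
  have h3 := congrArg BL.idxOf h1
  rw [idx_Bv 19 (by norm_num), idx_Bv 20 (by norm_num)] at h3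
  exact absurd h3 (by norm_num)

theorem NN_ge [Finite GF] : 2048 ≤ Nat.card (NN C) := by
  have h1 : {i | nM.testBit i = true} ⊆ orb φ (NN C) 1719 := by
    refine mask_sub c_nets C.φ_word (NN C) 1719 ?_ nr
    intro w hw
    rw [nw_ok] at hw
    obtain ⟨v, hv, rfl⟩ := List.mem_map.mp hw
    have hv' : ∀ v ∈ ni, v < 23 := by decide
    rw [← T_tw C (hv' v hv)]
    exact T_NN C ⟨v, hv' v hv⟩
  have hfin : (orb φ (NN C) 1719).Finite := by
    have : orb φ (NN C) 1719 ⊆ Set.range (fun g : GF => φ g 1719) := by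
      rintro _ ⟨g, _, rfl⟩; exact ⟨g, rfl⟩
    exact (Set.finite_range _).subset this
  have h2 := Set.ncard_le_ncard h1 hfin
  rw [ncard_bits nl, np] at h2
  have h3 := CosetGe.card_rel (PrimLane.stab_le φ (NN C) 1719)
  rw [relIndex_stab] at h3
  have h4 : 2 ≤ Nat.card (stab φ (NN C) 1719) := by
    have h5 : stab φ (NN C) 1719 ≠ ⊥ := by
      intro h
      have h6 : C.T (Bv 20) ∈ stab φ (NN C) 1719 := by
        refine ⟨T_NN C 20, ?_⟩
        rw [T_tw C (by norm_num)]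
        exact lane_of C (allK_spec tw_ok 20 (by norm_num)) (by norm_num) n20
      rw [h, Subgroup.mem_bot] at h6
      exact T0_ne C h6
    exact (Subgroup.one_lt_card_iff_ne_bot _).mpr h5
  rw [← h3]
  exact Nat.mul_le_mul h4 h2

end ctx

end Cfsg.Agent.Lib.Fi23Nrm
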