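import Cfsg.Agent.Lib.Fi23Nrm

/-!
# The subgroup `2¹¹.M₂₃` of `Fi₂₃`: orders of the stabilizers
-/

set_option autoImplicit false
set_option linter.all false
set_option maxRecDepth 100000
set_option exponentiation.threshold 50000

namespace Cfsg.Agent.Lib.Fi23Nrm

open Cfsg.Spor Cfsg.Agent.Lib.BenesPerm Cfsg.Agent.Lib.BenesAct Cfsg.Agent.Lib.BenesWord
open Cfsg.Agent.Lib.LaneTools Cfsg.Agent.Lib.TransLanes Cfsg.Agent.Lib.Fi23Rel Cfsg.Agent.Lib.Fi23NetsA
open Cfsg.Agent.Lib.Fi23Out Cfsg.Agent.Lib.Fi23NrmData Cfsg.Agent.Lib.Fi23NrmChk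
open Cfsg.Agent.Lib.CosetMain Cfsg.Agent.Lib.CoxBridge Cfsg.Agent.Lib.CosetGroup
open Cfsg.Agent.Lib.BenesPlane
open Cfsg.Agent.Lib.SliceK4 (allK allK_spec)
open Cfsg.Agent.Lib.PrimLane (stab orb relIndex_stab)
open Cfsg.Agent.Lib.Fi23A (c_nets)

variable {φ : GF →* Equiv.Perm ℕ}

/-- pointwise stabilizers -/
def JJ (φ : GF →* Equiv.Perm ℕ) : List ℕ → Subgroup GF
  | [] => ⊤
  | b :: bs => stab φ (JJ φ bs) b

theorem mem_JJ {g : GF} {bs : List ℕ} : g ∈ JJ φ bs ↔ ∀ b ∈ bs, φ g b = b := by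
  induction bs with
  | nil => exact ⟨fun _ b hb => absurd hb (by simp), fun _ => trivial⟩
  | cons b bs ih =>
    constructor
    · rintro ⟨h1, h2⟩ c hc
      rcases List.mem_cons.mp hc with rfl | hc
      · exact h2
      · exact ih.mp h1 c hc
    · intro h
      exact ⟨ih.mpr (fun c hc => h c (List.mem_cons_of_mem _ hc)), h b List.mem_cons_self⟩

theorem card_JJ (b : ℕ) (bs : List ℕ) : Nat.card (JJ φ (b :: bs)) * (orb φ (JJ φ bs) b).ncard = Nat.card (JJ φ bs) := by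
  have h := CosetGe.card_rel (PrimLane.stab_le φ (JJ φ bs) b)
  rwa [relIndex_stab] at h

theorem fixB_spec {bs : List ℕ} {ws : List (List ℕ)} (h : fixB bs ws = true) :
    ∀ w ∈ ws, lt10 w = true ∧ ∀ b ∈ bs, laneT tabs w b b = true := by
  intro w hw
  unfold fixB at h
  rw [List.all_eq_true] at h
  have h1 := h w hw
  rw [Bool.and_eq_true, List.all_eq_true] at h1
  exact h1

section ctx

variable (C : Ctx xx φ nets 15 31671 10 pt rc)
include C

theorem mask_orb {bs bs' : List ℕ} {b : ℕ} {ws : List (List ℕ)} {l : List ℕ} {M : ℕ} (hf : fixB bs' ws = true)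
    (hbs : ∀ c ∈ bs, c ∈ bs' ∧ c < 2 ^ 15) (hr : reachK nets (stepsW ws l) (2 ^ b) (fun V => Nat.beq V M) = true) :
    {i | M.testBit i = true} ⊆ orb φ (JJ φ bs) b := by
  refine mask_sub c_nets C.φ_word (JJ φ bs) b ?_ hr
  intro w hw
  rw [mem_JJ]
  intro c hc
  obtain ⟨h1, h2⟩ := fixB_spec hf w hw
  exact lane_of C h1 (hbs c hc).2 (h2 c (hbs c hc).1)

theorem orb_fin [Finite GF] (J : Subgroup GF) (b : ℕ) : (orb φ J b).Finite := by
  have : orb φ J b ⊆ Set.range (fun g : GF => φ g b) := by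
    rintro _ ⟨g, _, rfl⟩; exact ⟨g, rfl⟩
  exact (Set.finite_range _).subset this

theorem ncard_ge [Finite GF] {bs bs' : List ℕ} {b s : ℕ} {ws : List (List ℕ)} {l : List ℕ} {M : ℕ} (hf : fixB bs' ws = true)
    (hbs : ∀ c ∈ bs, c ∈ bs' ∧ c < 2 ^ 15) (hr : reachK nets (stepsW ws l) (2 ^ b) (fun V => Nat.beq V M) = true)
    (hl : M < 2 ^ 2 ^ 15) (hp : popK 15 M = s) : s ≤ (orb φ (JJ φ bs) b).ncard := by
  rw [← hp, ← ncard_bits hl]
  exact Set.ncard_le_ncard (mask_orb C hf hbs hr) (orb_fin C _ _)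

theorem NN_JJ : NN C ≤ JJ φ [0, 8007, 8000, 8002, 8005, 11589] := by
  intro n hn
  rw [mem_JJ]
  intro b hb
  have h : ∀ b ∈ [0, 8007, 8000, 8002, 8005, 11589], BL.idxOf b < 23 ∧ Bv (BL.idxOf b) = b := by decide +kernel
  rw [← (h b hb).2]
  exact NN_fix C hn (h b hb).1

/-- the chain of stabilizers -/
theorem chain [Finite GF] (hcard : Nat.card GF = 4089470473293004800) :
    JJ φ [0, 8007, 8000, 8002, 8005, 11589] = NN C ∧ Nat.card (NN C) = 2048 ∧
    orb φ (JJ φ [8000, 8002, 8005, 11589]) 8007 = {i | lM4.testBit i = true} ∧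
    orb φ (JJ φ [8007, 8000, 8002, 8005, 11589]) 0 = {i | lM5.testBit i = true} := by
  have c0 := card_JJ (φ := φ) 11589 []
  have c1 := card_JJ (φ := φ) 8005 [11589]
  have c2 := card_JJ (φ := φ) 8002 [8005, 11589]
  have c3 := card_JJ (φ := φ) 8000 [8002, 8005, 11589]
  have c4 := card_JJ (φ := φ) 8007 [8000, 8002, 8005, 11589]
  have c5 := card_JJ (φ := φ) 0 [8007, 8000, 8002, 8005, 11589]
  have a0 : (orb φ (JJ φ []) 11589).ncard = 31671 := by
    have h : orb φ (JJ φ []) 11589 = (Finset.range 31671 : Set ℕ) := by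
      ext i
      rw [Finset.mem_coe, Finset.mem_range]
      constructor
      · rintro ⟨g, _, rfl⟩
        exact C.hlt g _ (by norm_num)
      · intro hi
        obtain ⟨g, hg⟩ := C.htr i hi
        exact ⟨g, trivial, hg⟩
    rw [h, Set.ncard_coe_finset, Finset.card_range]
  have a1 := ncard_ge C (bs := [11589]) lf1 (by decide) lr1 ll1 lp1
  have a2 := ncard_ge C (bs := [8005, 11589]) lf2 (by decide) lr2 ll2 lp2
  have a3 := ncard_ge C (bs := [8002, 8005, 11589]) lf3 (by decide) lr3 ll3 lp3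
  have a4 := ncard_ge C (bs := [8000, 8002, 8005, 11589]) lf4 (by decide) lr4 ll4 lp4
  have a5 := ncard_ge C (bs := [8007, 8000, 8002, 8005, 11589]) lf5 (by decide) lr5 ll5 lp5
  have b6 : 2048 ≤ Nat.card (JJ φ [0, 8007, 8000, 8002, 8005, 11589]) :=
    (NN_ge C).trans (Nat.card_le_card_of_injective (Subgroup.inclusion (NN_JJ C)) (Subgroup.inclusion_injective _))
  have b5 := Nat.mul_le_mul b6 a5
  rw [c5] at b5
  have b4 := Nat.mul_le_mul b5 a4
  rw [c4] at b4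
  have b3 := Nat.mul_le_mul b4 a3
  rw [c3] at b3
  have b2 := Nat.mul_le_mul b3 a2
  rw [c2] at b2
  have htop : Nat.card (JJ φ []) = 4089470473293004800 := by
    rw [← hcard]
    exact Nat.card_congr Subgroup.topEquiv.toEquiv
  rw [a0, htop] at c0
  have e1 : Nat.card (JJ φ [11589]) = 2048 * 3 * 48 * 180 * 693 * 3510 := by omega
  rw [e1] at c1
  obtain ⟨e2, -⟩ := tight b2 a1 c1 (by norm_num) (by norm_num)
  rw [e2] at c2
  obtain ⟨e3, -⟩ := tight b3 a2 c2 (by norm_num) (by norm_num)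
  rw [e3] at c3
  obtain ⟨e4, -⟩ := tight b4 a3 c3 (by norm_num) (by norm_num)
  rw [e4] at c4
  obtain ⟨e5, n4⟩ := tight b5 a4 c4 (by norm_num) (by norm_num)
  rw [e5] at c5
  obtain ⟨e6, n5⟩ := tight b6 a5 c5 (by norm_num) (by norm_num)
  have h6 : NN C = JJ φ [0, 8007, 8000, 8002, 8005, 11589] := by
    apply Subgroup.eq_of_le_of_card_ge (NN_JJ C)
    rw [e6]
    exact NN_ge C
  refine ⟨h6.symm, ?_, ?_, ?_⟩
  · rw [h6, e6]
  · symm
    exact Set.eq_of_subset_of_ncard_le (mask_orb C (bs := [8000, 8002, 8005, 11589]) lf4 (by decide) lr4)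
      (by rw [n4, ncard_bits ll4, lp4]) (orb_fin C _ _)
  · symm
    exact Set.eq_of_subset_of_ncard_le (mask_orb C (bs := [8007, 8000, 8002, 8005, 11589]) lf5 (by decide) lr5)
      (by rw [n5, ncard_bits ll5, lp5]) (orb_fin C _ _)

/-! ### transversals -/

/-- words in the generators -/
noncomputable def Ev (w : List ℕ) : GF := (w.map (fun k => Wx xx (nthK [] ew k))).prod

omit C in
theorem Ev_cons (k : ℕ) (w : List ℕ) : Ev (k :: w) = Wx xx (nthK [] ew k) * Ev w := by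
  unfold Ev; rw [List.map_cons, List.prod_cons]

theorem Ev_spec (w : List ℕ) (hw : ∀ k ∈ w, k < 5) :
    ∀ v < 23, pf w v < 23 ∧ φ (Ev w) (Bv v) = Bv (pf w v) := by
  induction w with
  | nil =>
    intro v hv
    refine ⟨hv, ?_⟩
    show φ 1 (Bv v) = Bv v
    rw [map_one]; rfl
  | cons k w ih =>
    intro v hv
    obtain ⟨h1, h2⟩ := ih (fun j hj => hw j (List.mem_cons_of_mem _ hj)) v hv
    have h3 := allK_spec gens_ok k (hw k List.mem_cons_self)
    rw [bandK_eq_true] at h3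
    have h4 := allK_spec h3.2 (pf w v) h1
    rw [bandK_eq_true] at h4
    refine ⟨Nat.le_of_ble_eq_true h4.1, ?_⟩
    rw [Ev_cons, map_mul, Equiv.Perm.mul_apply, h2]
    exact lane_of C h3.1 (Bv_lt' h1) h4.2

theorem Ev_mem (w : List ℕ) (hw : ∀ k ∈ w, k < 5) : Ev w ∈ EE φ := by
  apply mem_EE_of
  intro i hi
  obtain ⟨v, hv, rfl⟩ := (X_iff C).mp hi
  obtain ⟨h1, h2⟩ := Ev_spec C w hw v hv
  rw [h2]
  exact Bv_mem _ h1

theorem trv {prev rng : List ℕ} {b : ℕ} {tv : List (List ℕ)} (h : chk prev b rng tv) (hp : ∀ c ∈ prev, c < 23)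
    (hb : b < 23) (i : ℕ) (hi : i ∈ rng) : ∃ g : EE φ, (∀ c ∈ prev, φ g (Bv c) = Bv c) ∧ φ g (Bv b) = Bv i := by
  obtain ⟨w, _, h1, h2, h3⟩ := h i hi
  refine ⟨⟨Ev w, Ev_mem C w h1⟩, ?_, ?_⟩
  · intro c hc
    have h4 := (Ev_spec C w h1 c (hp c hc)).2
    rw [h2 c hc] at h4
    exact h4
  · have h4 := (Ev_spec C w h1 b hb).2
    rw [h3] at h4
    exact h4

/-- the structure -/
theorem dat [Finite GF] (hcard : Nat.card GF = 4089470473293004800) :
    GolayNrm.Dat (rho φ) (fun v : Fin 23 => (⟨C.T (Bv v), T_mem C v.2⟩ : EE φ)) ((NN C).subgroupOf (EE φ)) := by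
  obtain ⟨hJ, hN, hO4, hO5⟩ := chain C hcard
  have hB : Bv 0 = 11589 ∧ Bv 1 = 8005 ∧ Bv 2 = 8002 ∧ Bv 3 = 8000 ∧ Bv 4 = 8007 ∧ Bv 20 = 0 := by decide +kernel
  obtain ⟨hB0, hB1, hB2, hB3, hB4, hB20⟩ := hB
  have mJ4 : ∀ g : EE φ, rho φ g 0 = 0 → rho φ g 1 = 1 → rho φ g 2 = 2 → rho φ g 3 = 3 →
      (g : GF) ∈ JJ φ [8000, 8002, 8005, 11589] := by
    intro g h0 h1 h2 h3
    have k0 : φ g (Bv 0) = Bv 0 := (rho_iff g 0 0).mp h0
    have k1 : φ g (Bv 1) = Bv 1 := (rho_iff g 1 1).mp h1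
    have k2 : φ g (Bv 2) = Bv 2 := (rho_iff g 2 2).mp h2
    have k3 : φ g (Bv 3) = Bv 3 := (rho_iff g 3 3).mp h3
    rw [hB0] at k0
    rw [hB1] at k1
    rw [hB2] at k2
    rw [hB3] at k3
    exact ⟨⟨⟨⟨trivial, k0⟩, k1⟩, k2⟩, k3⟩
  have mJ5 : ∀ g : EE φ, rho φ g 0 = 0 → rho φ g 1 = 1 → rho φ g 2 = 2 → rho φ g 3 = 3 → rho φ g 4 = 4 →
      (g : GF) ∈ JJ φ [8007, 8000, 8002, 8005, 11589] := by
    intro g h0 h1 h2 h3 h4
    have k4 : φ g (Bv 4) = Bv 4 := (rho_iff g 4 4).mp h4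
    rw [hB4] at k4
    exact ⟨mJ4 g h0 h1 h2 h3, k4⟩
  have hfin : Finite (EE φ) := inferInstance
  refine
    { fin := hfin
      nrm := ?_
      tN := fun i => T_NN C i
      tconj := ?_
      tinj := ?_
      tsq := fun i => Subtype.ext (C.T_sq (Bv_lt i i.2))
      comm := fun a ha b hb => Subtype.ext (NN_comm C ha hb)
      r4 := ?_
      ker := ?_
      fixN := ?_
      card := ?_
      tr0 := ?_
      tr1 := ?_
      tr2 := ?_
      tr3 := ?_
      tr4 := ?_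
      tr5 := ?_
      st4 := ?_
      st5 := ?_ }
  · constructor
    intro n hn g
    exact NN_conj C g.2 hn
  · intro g i
    apply Subtype.ext
    show (g : GF) * C.T (Bv i) * (g : GF)⁻¹ = C.T (Bv (rho φ g i))
    rw [← (rho_iff g i _).mp rfl, C.T_map (Bv_lt i i.2)]
  · intro i j hij
    have h1 : C.T (Bv i) = C.T (Bv j) := congrArg Subtype.val hij
    have h2 := C.T_inj (Bv_lt i i.2) (Bv_lt j j.2) h1
    have h3 := congrArg BL.idxOf h2
    rw [idx_Bv i i.2, idx_Bv j j.2] at h3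
    exact Fin.ext h3
  · intro h
    have h1 : C.T (Bv 0) * C.T (Bv 1) = C.T (Bv 2) * C.T (Bv 3) := congrArg Subtype.val h
    have p0 : C.T (Bv 0) = xx 0 := by rw [hB0]; exact C.T_pt (c := 0) (by norm_num)
    have p1 : C.T (Bv 1) = xx 2 := by rw [hB1]; exact C.T_pt (c := 2) (by norm_num)
    have p2 : C.T (Bv 2) = xx 4 := by rw [hB2]; exact C.T_pt (c := 4) (by norm_num)
    have p3 : C.T (Bv 3) = xx 6 := by rw [hB3]; exact C.T_pt (c := 6) (by norm_num)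
    rw [p0, p1, p2, p3] at h1
    have h2 : Wx xx [0, 2] = Wx xx [4, 6] := by
      rw [Wx_cons, Wx_cons, Wx_nil, mul_one, Wx_cons, Wx_cons, Wx_nil, mul_one]; exact h1
    have h3 := lane_of C (w := [0, 2]) (by decide) (by norm_num) r4_a
    have h4 := lane_of C (w := [4, 6]) (by decide) (by norm_num) r4_b
    rw [h2, h4] at h3
    exact absurd h3 (by norm_num)
  · intro g h0 h1 h2 h3 h4 h20
    show (g : GF) ∈ NN C
    rw [← hJ]
    have k20 : φ g (Bv 20) = Bv 20 := (rho_iff g 20 20).mp h20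
    rw [hB20] at k20
    exact ⟨mJ5 g h0 h1 h2 h3 h4, k20⟩
  · intro g hg i
    exact (rho_iff g i i).mpr (NN_fix C hg i.2)
  · rw [← hN]
    exact Nat.card_congr (Subgroup.subgroupOfEquivOfLe (NN_le C)).toEquiv
  · intro i
    obtain ⟨g, -, h2⟩ := trv C (chkB_spec tv0_ok) (by decide) (by norm_num) i (by revert i; decide)
    exact ⟨g, (rho_iff g 0 i).mpr h2⟩
  · intro i hi
    obtain ⟨g, h1, h2⟩ := trv C (chkB_spec tv1_ok) (by decide) (by norm_num) i (by revert i; decide)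
    exact ⟨g, (rho_iff g 0 0).mpr (h1 0 (by decide)), (rho_iff g 1 i).mpr h2⟩
  · intro i hi hi'
    obtain ⟨g, h1, h2⟩ := trv C (chkB_spec tv2_ok) (by decide) (by norm_num) i (by revert i; decide)
    exact ⟨g, (rho_iff g 0 0).mpr (h1 0 (by decide)), (rho_iff g 1 1).mpr (h1 1 (by decide)), (rho_iff g 2 i).mpr h2⟩
  · intro i hi hi' hi''
    obtain ⟨g, h1, h2⟩ := trv C (chkB_spec tv3_ok) (by decide) (by norm_num) i (by revert i; decide)
    exact ⟨g, (rho_iff g 0 0).mpr (h1 0 (by decide)), (rho_iff g 1 1).mpr (h1 1 (by decide)),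
      (rho_iff g 2 2).mpr (h1 2 (by decide)), (rho_iff g 3 i).mpr h2⟩
  · intro i hi hi'
    obtain ⟨g, h1, h2⟩ := trv C (chkB_spec tv4_ok) (by decide) (by norm_num) i (by revert i; decide)
    exact ⟨g, (rho_iff g 0 0).mpr (h1 0 (by decide)), (rho_iff g 1 1).mpr (h1 1 (by decide)),
      (rho_iff g 2 2).mpr (h1 2 (by decide)), (rho_iff g 3 3).mpr (h1 3 (by decide)), (rho_iff g 4 i).mpr h2⟩
  · intro i hi
    obtain ⟨g, h1, h2⟩ := trv C (chkB_spec tv5_ok) (by decide) (by norm_num) i (by revert i; decide)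
    exact ⟨g, (rho_iff g 0 0).mpr (h1 0 (by decide)), (rho_iff g 1 1).mpr (h1 1 (by decide)),
      (rho_iff g 2 2).mpr (h1 2 (by decide)), (rho_iff g 3 3).mpr (h1 3 (by decide)), (rho_iff g 4 4).mpr (h1 4 (by decide)),
      (rho_iff g 20 i).mpr h2⟩
  · intro g h0 h1 h2 h3
    by_contra hcon
    have h4 : φ g (Bv 4) ∈ orb φ (JJ φ [8000, 8002, 8005, 11589]) 8007 := ⟨g, mJ4 g h0 h1 h2 h3, by rw [hB4]⟩
    rw [hO4] at h4
    have h5 : lM4.testBit (φ g (Bv 4)) = true := h4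
    have h6 : φ g (Bv 4) = Bv (rho φ g 4) := (rho_iff g 4 _).mp rfl
    rw [h6] at h5
    obtain ⟨i, hi, h7⟩ : ∃ i < 3, ((rho φ g 4 : Fin 23) : ℕ) = 20 + i := by
      have h8 := (rho φ g 4).2
      have h9 : ¬ ((rho φ g 4 : Fin 23) : ℕ) < 20 := fun h => hcon h
      exact ⟨((rho φ g 4 : Fin 23) : ℕ) - 20, by omega, by omega⟩
    rw [h7] at h5
    have h8 := Nat.eq_of_beq_eq_true (allK_spec m4 i hi)
    have h9 : (lM4 >>> Bv (20 + i)) &&& 1 = 0 := h8
    rw [Nat.testBit_eq_decide_div_mod_eq, decide_eq_true_eq] at h5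
    rw [Nat.and_one_is_mod, Nat.shiftRight_eq_div_pow] at h9
    omega
  · intro g h0 h1 h2 h3 h4
    by_contra hcon
    have h4 : φ g (Bv 20) ∈ orb φ (JJ φ [8007, 8000, 8002, 8005, 11589]) 0 := ⟨g, mJ5 g h0 h1 h2 h3 h4, by rw [hB20]⟩
    rw [hO5] at h4
    have h5 : lM5.testBit (φ g (Bv 20)) = true := h4
    have h6 : φ g (Bv 20) = Bv (rho φ g 20) := (rho_iff g 20 _).mp rfl
    rw [h6] at h5
    have h7 : ((rho φ g 20 : Fin 23) : ℕ) < 20 := by
      by_contra h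
      exact hcon (by
        show (20 : ℕ) ≤ ((rho φ g 20 : Fin 23) : ℕ)
        omega)
    have h8 := Nat.eq_of_beq_eq_true (allK_spec m5 _ h7)
    have h9 : (lM5 >>> Bv ((rho φ g 20 : Fin 23) : ℕ)) &&& 1 = 0 := h8
    rw [Nat.testBit_eq_decide_div_mod_eq, decide_eq_true_eq] at h5
    rw [Nat.and_one_is_mod, Nat.shiftRight_eq_div_pow] at h9
    omega

end ctx

end Cfsg.Agent.Lib.Fi23Nrm
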