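import Cfsg.Agent.Lib.Fi23NrmData

/-!
# Kernel checks for the subgroup `2¹¹.M₂₃` of `Fi₂₃`
-/

set_option autoImplicit false
set_option linter.all false
set_option maxRecDepth 100000
set_option exponentiation.threshold 50000

namespace Cfsg.Agent.Lib.Fi23NrmChk

open Cfsg.Agent.Lib.BenesPerm Cfsg.Agent.Lib.BenesAct Cfsg.Agent.Lib.BenesWord
open Cfsg.Agent.Lib.LaneTools Cfsg.Agent.Lib.TransLanes Cfsg.Agent.Lib.Fi23Rel Cfsg.Agent.Lib.Fi23NetsA
open Cfsg.Agent.Lib.Fi23Out Cfsg.Agent.Lib.Fi23NrmData
open Cfsg.Agent.Lib.CosetMain Cfsg.Agent.Lib.CoxBridge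
open Cfsg.Agent.Lib.BenesPlane
open Cfsg.Agent.Lib.SliceK4 (allK allK_spec)

/-- lane of an index -/
noncomputable def Bv (v : ℕ) : ℕ := nthK 0 BL v

/-- word of an index -/
noncomputable def tw (v : ℕ) : List ℕ := nthK [] bp v ++ nthK 0 bc v :: (nthK [] bp v).reverse

/-- letters below 10 -/
def lt10 (w : List ℕ) : Bool := w.all (fun c => Nat.blt c 10)

theorem lt10_spec {w : List ℕ} (h : lt10 w = true) : ∀ c ∈ w, c < 10 := by
  intro c hc
  exact Nat.le_of_ble_eq_true (List.all_eq_true.mp h c hc)

theorem path_ok : allK 23 (fun v => bandK (lt10 (nthK [] bp v)) (bandK (Nat.blt (nthK 0 bc v) 10)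
    (laneT tabs (nthK [] bp v) (pt (nthK 0 bc v)) (Bv v)))) = true := by decide +kernel

theorem tw_ok : allK 23 (fun v => lt10 (tw v)) = true := by decide +kernel

/-- the transposition of index `a` fixes all lanes -/
noncomputable def commB (a : ℕ) : Bool := allK 23 (fun v => laneT tabs (tw a) (Bv v) (Bv v))

theorem comm0 : commB 0 = true := by decide +kernel
theorem comm1 : commB 1 = true := by decide +kernel
theorem comm2 : commB 2 = true := by decide +kernel
theorem comm3 : commB 3 = true := by decide +kernel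
theorem comm4 : commB 4 = true := by decide +kernel
theorem comm5 : commB 5 = true := by decide +kernel
theorem comm6 : commB 6 = true := by decide +kernel
theorem comm7 : commB 7 = true := by decide +kernel
theorem comm8 : commB 8 = true := by decide +kernel
theorem comm9 : commB 9 = true := by decide +kernel
theorem comm10 : commB 10 = true := by decide +kernel
theorem comm11 : commB 11 = true := by decide +kernel
theorem comm12 : commB 12 = true := by decide +kernel
theorem comm13 : commB 13 = true := by decide +kernel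
theorem comm14 : commB 14 = true := by decide +kernel
theorem comm15 : commB 15 = true := by decide +kernel
theorem comm16 : commB 16 = true := by decide +kernel
theorem comm17 : commB 17 = true := by decide +kernel
theorem comm18 : commB 18 = true := by decide +kernel
theorem comm19 : commB 19 = true := by decide +kernel
theorem comm20 : commB 20 = true := by decide +kernel
theorem comm21 : commB 21 = true := by decide +kernel
theorem comm22 : commB 22 = true := by decide +kernel

theorem comm_ok (a : ℕ) (ha : a < 23) : commB a = true := by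
  interval_cases a
  · exact comm0
  · exact comm1
  · exact comm2
  · exact comm3
  · exact comm4
  · exact comm5
  · exact comm6
  · exact comm7
  · exact comm8
  · exact comm9
  · exact comm10
  · exact comm11
  · exact comm12
  · exact comm13
  · exact comm14
  · exact comm15
  · exact comm16
  · exact comm17
  · exact comm18
  · exact comm19
  · exact comm20
  · exact comm21
  · exact comm22

/-- table of a generator -/
noncomputable def ef (k v : ℕ) : ℕ := nthK 0 (nthK [] et k) v

theorem gens_ok : allK 5 (fun k => bandK (lt10 (nthK [] ew k)) (allK 23 (fun v => bandK (Nat.blt (ef k v) 23)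
    (laneT tabs (nthK [] ew k) (Bv v) (Bv (ef k v)))))) = true := by decide +kernel

/-- words in the generators on the indices -/
noncomputable def pf (w : List ℕ) (v : ℕ) : ℕ := List.rec (motive := fun _ => ℕ) v (fun k _ ih => ef k ih) w

/-- check of a transversal -/
def chk (prev : List ℕ) (b : ℕ) (rng : List ℕ) (tv : List (List ℕ)) : Prop :=
  ∀ i ∈ rng, ∃ w ∈ tv, (∀ k ∈ w, k < 5) ∧ (∀ c ∈ prev, pf w c = c) ∧ pf w b = i

noncomputable def chkB (prev : List ℕ) (b : ℕ) (rng : List ℕ) (tv : List (List ℕ)) : Bool :=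
  rng.all (fun i => tv.any (fun w => w.all (fun k => Nat.blt k 5) && (prev.all (fun c => Nat.beq (pf w c) c) && Nat.beq (pf w b) i)))

theorem chkB_spec {prev : List ℕ} {b : ℕ} {rng : List ℕ} {tv : List (List ℕ)} (h : chkB prev b rng tv = true) :
    chk prev b rng tv := by
  intro i hi
  unfold chkB at h
  rw [List.all_eq_true] at h
  have h1 := h i hi
  rw [List.any_eq_true] at h1
  obtain ⟨w, hw, h2⟩ := h1
  rw [Bool.and_eq_true, Bool.and_eq_true, List.all_eq_true, List.all_eq_true] at h2
  exact ⟨w, hw, fun k hk => Nat.le_of_ble_eq_true (h2.1 k hk), fun c hc => Nat.eq_of_beq_eq_true (h2.2.1 c hc),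
    Nat.eq_of_beq_eq_true h2.2.2⟩

theorem tv0_ok : chkB [] 0 [0, 1, 2, 3, 4, 5, 6, 7, 8, 9, 10, 11, 12, 13, 14, 15, 16, 17, 18, 19, 20, 21, 22] tv0 = true := by decide +kernel
theorem tv1_ok : chkB [0] 1 [1, 2, 3, 4, 5, 6, 7, 8, 9, 10, 11, 12, 13, 14, 15, 16, 17, 18, 19, 20, 21, 22] tv1 = true := by decide +kernel
theorem tv2_ok : chkB [0, 1] 2 [2, 3, 4, 5, 6, 7, 8, 9, 10, 11, 12, 13, 14, 15, 16, 17, 18, 19, 20, 21, 22] tv2 = true := by decide +kernel
theorem tv3_ok : chkB [0, 1, 2] 3 [3, 4, 5, 6, 7, 8, 9, 10, 11, 12, 13, 14, 15, 16, 17, 18, 19, 20, 21, 22] tv3 = true := by decide +kernel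
theorem tv4_ok : chkB [0, 1, 2, 3] 4 [4, 5, 6, 7, 8, 9, 10, 11, 12, 13, 14, 15, 16, 17, 18, 19] tv4 = true := by decide +kernel
theorem tv5_ok : chkB [0, 1, 2, 3, 4] 20 [20, 21, 22] tv5 = true := by decide +kernel

theorem r4_a : laneT tabs [0, 2] 8003 6527 = true := by decide +kernel
theorem r4_b : laneT tabs [4, 6] 8003 6525 = true := by decide +kernel

/-- the words of a level fix the previous lanes -/
noncomputable def fixB (bs : List ℕ) (ws : List (List ℕ)) : Bool :=
  ws.all (fun w => lt10 w && bs.all (fun b => laneT tabs w b b))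

theorem lf1 : fixB [11589] lw1 = true := by decide +kernel
theorem lr1 : reachK nets (stepsW lw1 ls1) (2 ^ 8005) (fun V => Nat.beq V lM1) = true := by decide +kernel
theorem lp1 : popK 15 lM1 = 3510 := by decide +kernel
theorem ll1 : lM1 < 2 ^ 2 ^ 15 := by decide +kernel
theorem lf2 : fixB [11589, 8005] lw2 = true := by decide +kernel
theorem lr2 : reachK nets (stepsW lw2 ls2) (2 ^ 8002) (fun V => Nat.beq V lM2) = true := by decide +kernel
theorem lp2 : popK 15 lM2 = 693 := by decide +kernel
theorem ll2 : lM2 < 2 ^ 2 ^ 15 := by decide +kernel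
theorem lf3 : fixB [11589, 8005, 8002] lw3 = true := by decide +kernel
theorem lr3 : reachK nets (stepsW lw3 ls3) (2 ^ 8000) (fun V => Nat.beq V lM3) = true := by decide +kernel
theorem lp3 : popK 15 lM3 = 180 := by decide +kernel
theorem ll3 : lM3 < 2 ^ 2 ^ 15 := by decide +kernel
theorem lf4 : fixB [11589, 8005, 8002, 8000] lw4 = true := by decide +kernel
theorem lr4 : reachK nets (stepsW lw4 ls4) (2 ^ 8007) (fun V => Nat.beq V lM4) = true := by decide +kernel
theorem lp4 : popK 15 lM4 = 48 := by decide +kernel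
theorem ll4 : lM4 < 2 ^ 2 ^ 15 := by decide +kernel
theorem lf5 : fixB [11589, 8005, 8002, 8000, 8007] lw5 = true := by decide +kernel
theorem lr5 : reachK nets (stepsW lw5 ls5) (2 ^ 0) (fun V => Nat.beq V lM5) = true := by decide +kernel
theorem lp5 : popK 15 lM5 = 3 := by decide +kernel
theorem ll5 : lM5 < 2 ^ 2 ^ 15 := by decide +kernel

theorem nr : reachK nets (stepsW nw [0, 1, 2, 3, 4, 5, 6, 7, 8, 9]) (2 ^ 1719) (fun V => Nat.beq V nM) = true := by decide +kernel
theorem np : popK 15 nM = 1024 := by decide +kernel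
theorem nl : nM < 2 ^ 2 ^ 15 := by decide +kernel
theorem nw_ok : nw = ni.map tw := by decide +kernel
theorem n20 : laneT tabs (tw 20) 1719 1719 = true := by decide +kernel

theorem m4 : allK 3 (fun i => Nat.beq (Nat.land (Nat.shiftRight lM4 (Bv (Nat.add 20 i))) 1) 0) = true := by decide +kernel
theorem m5 : allK 20 (fun i => Nat.beq (Nat.land (Nat.shiftRight lM5 (Bv i)) 1) 0) = true := by decide +kernel

end Cfsg.Agent.Lib.Fi23NrmChk
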