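import Cfsg.Agent.Lib.Fi23OutTab
import Cfsg.Agent.Lib.Fi23OutData
import Cfsg.Agent.Lib.Fi23Ord

/-!
The transpositions of the presented group `Fi₂₃` as lanes.
-/

set_option autoImplicit false
set_option linter.all false
set_option maxRecDepth 100000
set_option exponentiation.threshold 50000

namespace Cfsg.Agent.Lib.Fi23Out

open Cfsg.Spor Cfsg.Agent.Lib.BenesPerm Cfsg.Agent.Lib.BenesAct Cfsg.Agent.Lib.BenesWord
open Cfsg.Agent.Lib.BenesPlane Cfsg.Agent.Lib.CosetClosure Cfsg.Agent.Lib.CosetFacts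
open Cfsg.Agent.Lib.CosetMain Cfsg.Agent.Lib.CoxBridge Cfsg.Agent.Lib.CosetGroup Cfsg.Agent.Lib.CosetInst Cfsg.Agent.Lib.CosetInj
open Cfsg.Agent.Lib.CosetOrder
open Cfsg.Agent.Lib.Fi23Rel Cfsg.Agent.Lib.Fi23NetsA Cfsg.Agent.Lib.Fi23A
open Cfsg.Agent.Lib.LaneTools Cfsg.Agent.Lib.TransLanes
open Cfsg.Agent.Lib.Fi23AIdx (M0 M1)

/-- the group -/
abbrev GF : Type := CoxPresented Fi23.Gen Fi23.edges Fi23.extra

/-- the letters -/
noncomputable abbrev xx : ℕ → GF := C.x L0

theorem rc0_ok : fixOK nets [0] 15 31671 (rc 0) = true := by decide +kernel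
theorem rc1_ok : fixOK nets [1] 15 31671 (rc 1) = true := by decide +kernel
theorem rc2_ok : fixOK nets [2] 15 31671 (rc 2) = true := by decide +kernel
theorem rc3_ok : fixOK nets [3] 15 31671 (rc 3) = true := by decide +kernel
theorem rc4_ok : fixOK nets [4] 15 31671 (rc 4) = true := by decide +kernel
theorem rc5_ok : fixOK nets [5] 15 31671 (rc 5) = true := by decide +kernel
theorem rc6_ok : fixOK nets [6] 15 31671 (rc 6) = true := by decide +kernel
theorem rc7_ok : fixOK nets [7] 15 31671 (rc 7) = true := by decide +kernel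
theorem rc8_ok : fixOK nets [8] 15 31671 (rc 8) = true := by decide +kernel
theorem rc9_ok : fixOK nets [9] 15 31671 (rc 9) = true := by decide +kernel

theorem rc_ok (c : ℕ) (hc : c < 10) : fixOK nets [c] 15 31671 (rc c) = true := by
  interval_cases c
  · exact rc0_ok
  · exact rc1_ok
  · exact rc2_ok
  · exact rc3_ok
  · exact rc4_ok
  · exact rc5_ok
  · exact rc6_ok
  · exact rc7_ok
  · exact rc8_ok
  · exact rc9_ok

theorem tb0_ok : tabOK nets 15 0 (nthK [] tabs 0) 0 = true := by decide +kernel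
theorem tb1_ok : tabOK nets 15 1 (nthK [] tabs 1) 0 = true := by decide +kernel
theorem tb2_ok : tabOK nets 15 2 (nthK [] tabs 2) 0 = true := by decide +kernel
theorem tb3_ok : tabOK nets 15 3 (nthK [] tabs 3) 0 = true := by decide +kernel
theorem tb4_ok : tabOK nets 15 4 (nthK [] tabs 4) 0 = true := by decide +kernel
theorem tb5_ok : tabOK nets 15 5 (nthK [] tabs 5) 0 = true := by decide +kernel
theorem tb6_ok : tabOK nets 15 6 (nthK [] tabs 6) 0 = true := by decide +kernel
theorem tb7_ok : tabOK nets 15 7 (nthK [] tabs 7) 0 = true := by decide +kernel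
theorem tb8_ok : tabOK nets 15 8 (nthK [] tabs 8) 0 = true := by decide +kernel
theorem tb9_ok : tabOK nets 15 9 (nthK [] tabs 9) 0 = true := by decide +kernel

theorem tabs_ok : TabsOK nets 15 10 tabs := by
  intro c hc
  interval_cases c
  · exact tb0_ok
  · exact tb1_ok
  · exact tb2_ok
  · exact tb3_ok
  · exact tb4_ok
  · exact tb5_ok
  · exact tb6_ok
  · exact tb7_ok
  · exact tb8_ok
  · exact tb9_ok

/-- words conjugating the first letter to the letters -/
def gw (c : ℕ) : List ℕ :=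
  match c with
  | 0 => []
  | 1 => [0, 1]
  | 2 => [1, 2, 0, 1]
  | 3 => [2, 3, 1, 2, 0, 1]
  | 4 => [3, 4, 2, 3, 1, 2, 0, 1]
  | 5 => [4, 5, 3, 4, 2, 3, 1, 2, 0, 1]
  | 6 => [5, 6, 4, 5, 3, 4, 2, 3, 1, 2, 0, 1]
  | 7 => [3, 7, 2, 3, 1, 2, 0, 1]
  | 8 => [7, 8, 3, 7, 2, 3, 1, 2, 0, 1]
  | _ => [6, 9, 5, 6, 4, 5, 3, 4, 2, 3, 1, 2, 0, 1]

theorem gw_lt (c : ℕ) : ∀ d ∈ gw c, d < 10 := by
  unfold gw
  split <;> decide

theorem gw_laneT (c : ℕ) (hc : c < 10) : laneT tabs (gw c) 11589 (pt c) = true := by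
  interval_cases c <;> decide +kernel

theorem gw_lane (c : ℕ) (hc : c < 10) : laneK nets (gw c) 11589 (pt c) = true :=
  laneT_spec c_nets tabs_ok (gw_lt c) (by norm_num) (gw_laneT c hc)

theorem gw1_rel : relK nets 15 (gw 1 ++ 0 :: ((gw 1).reverse ++ [1])) = true := by decide +kernel
theorem gw2_rel : relK nets 15 (gw 2 ++ 0 :: ((gw 2).reverse ++ [2])) = true := by decide +kernel
theorem gw3_rel : relK nets 15 (gw 3 ++ 0 :: ((gw 3).reverse ++ [3])) = true := by decide +kernel
theorem gw4_rel : relK nets 15 (gw 4 ++ 0 :: ((gw 4).reverse ++ [4])) = true := by decide +kernel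
theorem gw5_rel : relK nets 15 (gw 5 ++ 0 :: ((gw 5).reverse ++ [5])) = true := by decide +kernel
theorem gw6_rel : relK nets 15 (gw 6 ++ 0 :: ((gw 6).reverse ++ [6])) = true := by decide +kernel
theorem gw7_rel : relK nets 15 (gw 7 ++ 0 :: ((gw 7).reverse ++ [7])) = true := by decide +kernel
theorem gw8_rel : relK nets 15 (gw 8 ++ 0 :: ((gw 8).reverse ++ [8])) = true := by decide +kernel
theorem gw9_rel : relK nets 15 (gw 9 ++ 0 :: ((gw 9).reverse ++ [9])) = true := by decide +kernel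
theorem gw0_rel : relK nets 15 [0, 0] = true := by decide +kernel

theorem gw_rel (c : ℕ) (hc : c < 10) : relK nets 15 (gw c ++ 0 :: ((gw c).reverse ++ [c])) = true := by
  interval_cases c
  · exact gw0_rel
  · exact gw1_rel
  · exact gw2_rel
  · exact gw3_rel
  · exact gw4_rel
  · exact gw5_rel
  · exact gw6_rel
  · exact gw7_rel
  · exact gw8_rel
  · exact gw9_rel

/-- the word of the transposition of lane 0 -/
def w0 : List ℕ := [9, 6, 5, 4, 3, 7, 2, 3, 4, 5, 6, 9, 1, 2, 3, 7, 4, 5, 3, 4, 2, 3, 7, 6, 5, 4, 3, 2]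
/-- the transposition of lane 0 -/
def D0 : List ℕ := pal 1 w0
/-- the word moving lane 0 to the lane of the first letter -/
def v0 : List ℕ := [1, 2, 3, 4, 5, 6, 9, 7, 3, 4, 2, 3, 7, 5, 6, 4, 5, 3, 4, 2, 3, 7, 0, 1, 2, 3, 4, 5, 6, 9]
def v53 : List ℕ := [9, 6, 5, 4, 3, 7, 2, 3, 4, 5, 6, 9]

theorem d_comm0 : relK nets 15 (0 :: (D0 ++ (0 :: D0))) = true := by decide +kernel
theorem d_comm1 : relK nets 15 (1 :: (D0 ++ (1 :: D0))) = true := by decide +kernel
theorem d_comm2 : relK nets 15 (2 :: (D0 ++ (2 :: D0))) = true := by decide +kernel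
theorem d_comm3 : relK nets 15 (3 :: (D0 ++ (3 :: D0))) = true := by decide +kernel
theorem d_comm4 : relK nets 15 (4 :: (D0 ++ (4 :: D0))) = true := by decide +kernel
theorem d_comm5 : relK nets 15 (5 :: (D0 ++ (5 :: D0))) = true := by decide +kernel
theorem d_comm6 : relK nets 15 (6 :: (D0 ++ (6 :: D0))) = true := by decide +kernel
theorem d_comm7 : relK nets 15 (7 :: (D0 ++ (7 :: D0))) = true := by decide +kernel
theorem d_comm8 : relK nets 15 (8 :: (D0 ++ (8 :: D0))) = true := by decide +kernel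

theorem d_comm (c : ℕ) (hc : c < 9) : relK nets 15 (c :: (D0 ++ (c :: D0))) = true := by
  interval_cases c
  · exact d_comm0
  · exact d_comm1
  · exact d_comm2
  · exact d_comm3
  · exact d_comm4
  · exact d_comm5
  · exact d_comm6
  · exact d_comm7
  · exact d_comm8

theorem v0_rel : relK nets 15 (v0 ++ (D0 ++ (v0.reverse ++ [0]))) = true := by decide +kernel
theorem v0_laneT : laneT tabs v0 0 11589 = true := by decide +kernel
theorem v53_laneT : laneT tabs v53 0 53 = true := by decide +kernel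
theorem v1_laneT : laneT tabs [9] 0 1 = true := by decide +kernel
theorem n1_a : laneT tabs ([9] ++ D0) 0 1 = true := by decide +kernel
theorem n1_b : laneT tabs (D0 ++ [9]) 0 7999 = true := by decide +kernel
theorem n2_a : laneT tabs (v53 ++ D0) 1 442 = true := by decide +kernel
theorem n2_b : laneT tabs (D0 ++ v53) 1 7999 = true := by decide +kernel
theorem n3_a : laneT tabs [1, 0] 11589 9592 = true := by decide +kernel
theorem n3_b : laneT tabs [0, 1] 11589 8006 = true := by decide +kernel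
theorem cover : Nat.beq (Nat.lor (Nat.lor M0 M1) 1) (Nat.sub (Nat.pow 2 31671) 1) = true := by decide +kernel

end Cfsg.Agent.Lib.Fi23Out
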