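import Cfsg.Agent.Lib.Fi23OutA

/-!
The transpositions of the presented group `Fi₂₃` as lanes: the context.
-/

set_option autoImplicit false
set_option linter.all false
set_option maxRecDepth 100000
set_option exponentiation.threshold 50000

namespace Cfsg.Agent.Lib.Fi23Out

open Cfsg.Spor Cfsg.Agent.Lib.BenesPerm Cfsg.Agent.Lib.BenesAct Cfsg.Agent.Lib.BenesWord
open Cfsg.Agent.Lib.BenesPlane Cfsg.Agent.Lib.CosetClosure Cfsg.Agent.Lib.CosetFacts
open Cfsg.Agent.Lib.CosetMain Cfsg.Agent.Lib.CoxBridge Cfsg.Agent.Lib.CosetGroup Cfsg.Agent.Lib.CosetInst Cfsg.Agent.Lib.CosetInj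
open Cfsg.Agent.Lib.CosetOrder
open Cfsg.Agent.Lib.Fi23Rel Cfsg.Agent.Lib.Fi23NetsA Cfsg.Agent.Lib.Fi23A
open Cfsg.Agent.Lib.LaneTools Cfsg.Agent.Lib.TransLanes
open Cfsg.Agent.Lib.Fi23AIdx (M0 M1)

theorem hx2 : ∀ c, c < 10 → xx c * xx c = 1 := (C.rel_x L0).2.2

theorem D0_lt : ∀ c ∈ D0, c < 10 := by decide
theorem v0_lt : ∀ c ∈ v0, c < 10 := by decide
theorem v53_lt : ∀ c ∈ v53, c < 10 := by decide

theorem closure_xx : Subgroup.closure {g : GF | ∃ c < 10, g = xx c} = ⊤ := by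
  rw [← C.closure_letters L0]
  congr 1
  ext g
  constructor
  · rintro ⟨c, hc, rfl⟩
    exact ⟨Wd.g c, List.mem_map.2 ⟨c, List.mem_range.2 hc, rfl⟩, rfl⟩
  · rintro ⟨W, hW, rfl⟩
    obtain ⟨c, hc, rfl⟩ := List.mem_map.mp hW
    exact ⟨c, List.mem_range.1 hc, rfl⟩

/-- the transposition of lane 0 -/
noncomputable def d0 : GF := Wx xx D0

theorem H_comm {φ : GF →* Equiv.Perm ℕ} (hφ : ∀ c, φ (xx c) = sperm nets c) (hinj : Function.Injective φ)
    (H : Subgroup GF) (hH : H = Subgroup.closure (wset (C.x L0) WS)) : ∀ g ∈ H, g * d0 = d0 * g := by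
  intro g hg
  have h1 : H ≤ Subgroup.centralizer ({d0} : Set GF) := by
    rw [hH, Subgroup.closure_le]
    rintro _ ⟨W, hW, rfl⟩
    show W.eval (C.x L0) ∈ Subgroup.centralizer ({d0} : Set GF)
    rw [Subgroup.mem_centralizer_singleton_iff]
    have key : ∀ c, c < 9 → xx c * d0 = d0 * xx c := by
      intro c hc
      have h2 := word_one c_nets hφ hinj (d_comm c hc)
      rw [Wx_cons, Wx_append, Wx_cons] at h2
      have h3 : xx c * (d0 * (xx c * d0)) = 1 := h2
      have h4 : xx c * xx c = 1 := hx2 c (by omega)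
      have h5 : d0 * d0 = 1 := by
        have h6 : d0 = (Wx xx D0.reverse) := by
          have : D0.reverse = D0 := by decide
          rw [this]; rfl
        nth_rewrite 2 [h6]
        rw [Wx_reverse (fun d hd => hx2 d (D0_lt d hd))]
        exact mul_inv_cancel _
      calc xx c * d0 = xx c * d0 * ((xx c * d0) * (xx c * d0)⁻¹) := by rw [mul_inv_cancel, mul_one]
        _ = (xx c * (d0 * (xx c * d0))) * (d0⁻¹ * (xx c)⁻¹) := by group
        _ = d0⁻¹ * (xx c)⁻¹ := by rw [h3, one_mul]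
        _ = d0 * xx c := by rw [inv_eq_of_mul_eq_one_left h5, inv_eq_of_mul_eq_one_left h4]
    unfold WS at hW
    simp only [List.mem_cons, List.not_mem_nil, or_false] at hW
    rcases hW with rfl | rfl | rfl | rfl | rfl | rfl | rfl | rfl | rfl
    · exact key 0 (by norm_num)
    · exact key 1 (by norm_num)
    · exact key 2 (by norm_num)
    · exact key 3 (by norm_num)
    · exact key 4 (by norm_num)
    · exact key 5 (by norm_num)
    · exact key 6 (by norm_num)
    · exact key 7 (by norm_num)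
    · exact key 8 (by norm_num)
  exact Subgroup.mem_centralizer_singleton_iff.1 (h1 hg)

theorem full_mask {j : ℕ} (hj : j < 31671) (hne : j ≠ 0) : M0.testBit j = true ∨ M1.testBit j = true := by
  have h1 : (Nat.lor (Nat.lor M0 M1) 1).testBit j = true := by
    rw [Nat.eq_of_beq_eq_true cover]
    show (2 ^ 31671 - 1).testBit j = true
    rw [Nat.testBit_two_pow_sub_one]; simpa using hj
  have h2 : ((M0 ||| M1) ||| 1).testBit j = true := h1
  rw [Nat.testBit_or, Nat.testBit_or, Bool.or_eq_true, Bool.or_eq_true] at h2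
  rcases h2 with h2 | h2
  · exact h2
  · exfalso
    have h3 : (1 : ℕ).testBit j = decide (j = 0) := by
      have := Nat.testBit_two_pow (n := 0) (m := j)
      rw [pow_zero] at this
      rw [this]
      exact decide_eq_decide.2 eq_comm
    rw [h3] at h2
    exact hne (by simpa using h2)

theorem wfn_T {w : List ℕ} (hw : ∀ c ∈ w, c < 10) {i j : ℕ} (hi : i < 2 ^ 15) (h : laneT tabs w i j = true) :
    wfn nets w i = j := laneK_spec c_nets (laneT_spec c_nets tabs_ok hw hi h)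

theorem app_lt {u v : List ℕ} (hu : ∀ c ∈ u, c < 10) (hv : ∀ c ∈ v, c < 10) : ∀ c ∈ u ++ v, c < 10 := by
  intro c hc
  rcases List.mem_append.1 hc with h | h
  · exact hu c h
  · exact hv c h

theorem ne_of_lanes {φ : GF →* Equiv.Perm ℕ} (hφ : ∀ c, φ (xx c) = sperm nets c) {u v : List ℕ} {i a b : ℕ}
    (h1 : wfn nets u i = a) (h2 : wfn nets v i = b) (hab : a ≠ b) : Wx xx u ≠ Wx xx v := by
  intro h
  apply hab
  rw [← h1, ← h2, ← φ_word' c_nets hφ, ← φ_word' c_nets hφ, h]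

theorem exists_ctx : ∃ (φ : GF →* Equiv.Perm ℕ) (H : Subgroup GF), Ctx xx φ nets 15 31671 10 pt rc ∧
    (∀ j, (∃ g, φ g 0 = j) ↔ j < 31671) ∧ H = Subgroup.closure (wset (C.x L0) WS) ∧ (∀ g, φ g 0 = 0 ↔ g ∈ H) ∧
    (∀ g, φ g 0 = 0 ↔ g * d0 = d0 * g) := by
  obtain ⟨H, hH⟩ : ∃ H, H = Subgroup.closure (wset (C.x L0) WS) := ⟨_, rfl⟩
  obtain ⟨φ, f, hφ, hf0, heq, hlt, hfinj, horb, hfix, hfsurj, hidx, ⟨o1, -⟩, ⟨o2, -⟩⟩ := Fi23AIdx.main H hH
  obtain ⟨-, hcard, φ', hφ', hinj', -⟩ := Fi23Ord.main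
  have hgen := C.closure_letters L0
  have hφφ : φ = φ' := by
    apply MonoidHom.eq_of_eqOn_dense hgen
    rintro _ ⟨W, hW, rfl⟩
    obtain ⟨c, hc, rfl⟩ := List.mem_map.mp hW
    show φ (xx c) = φ' (xx c)
    rw [hφ, hφ']
  have hinj : Function.Injective φ := by rw [hφφ]; exact hinj'
  have hcj : ∀ c, c < 10 → φ (Wx xx (gw c)) (pt 0) = pt c ∧ xx c = Wx xx (gw c) * xx 0 * (Wx xx (gw c))⁻¹ := by
    intro c hc
    refine ⟨?_, ?_⟩
    · rw [φ_word' c_nets hφ]; exact laneK_spec c_nets (gw_lane c hc)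
    · exact conj_of_rel hx2 hc (gw_lt c) (by norm_num) (word_one c_nets hφ hinj (gw_rel c hc))
  have hHc := H_comm hφ hinj H hH
  have hmem := fun g hg => mem_of_fix (n := 31671) (by norm_num) hf0 heq g hg
  have hst0 : ∀ g, φ g 0 = 0 ↔ g * d0 = d0 * g := by
    intro g
    refine st_general (n := 31671) (H := H) hmem hHc
      (fun g => (horb _).1 ⟨g, rfl⟩) [(1, Wx xx [9]), (53, Wx xx v53)] ?_ ?_ g
    · intro r hr
      rcases List.mem_cons.1 hr with rfl | hr
      · refine ⟨?_, ?_⟩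
        · show φ (Wx xx [9]) 0 = 1
          rw [φ_word' c_nets hφ]
          exact wfn_T (by decide) (by norm_num) v1_laneT
        · show Wx xx [9] * Wx xx D0 ≠ Wx xx D0 * Wx xx [9]
          rw [← Wx_append, ← Wx_append]
          exact ne_of_lanes hφ (wfn_T (app_lt (by decide) D0_lt) (by norm_num) n1_a)
            (wfn_T (app_lt D0_lt (by decide)) (by norm_num) n1_b) (by norm_num)
      · rw [List.mem_singleton] at hr
        subst hr
        refine ⟨?_, ?_⟩
        · show φ (Wx xx v53) 0 = 53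
          rw [φ_word' c_nets hφ]
          exact wfn_T v53_lt (by norm_num) v53_laneT
        · show Wx xx v53 * Wx xx D0 ≠ Wx xx D0 * Wx xx v53
          rw [← Wx_append, ← Wx_append]
          exact ne_of_lanes hφ (wfn_T (app_lt v53_lt D0_lt) (by norm_num) n2_a)
            (wfn_T (app_lt D0_lt v53_lt) (by norm_num) n2_b) (by norm_num)
    · intro j hj hne
      rcases full_mask hj hne with h1 | h1
      · exact ⟨_, List.mem_cons_self, lane_orbit heq hlt hfinj (by norm_num) hj o1 h1⟩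
      · exact ⟨_, List.mem_cons_of_mem _ List.mem_cons_self, lane_orbit heq hlt hfinj (by norm_num) hj o2 h1⟩
  have hv0 : φ (Wx xx v0) 0 = 11589 := by
    rw [φ_word' c_nets hφ]
    exact wfn_T v0_lt (by norm_num) v0_laneT
  have hx0 : xx 0 = Wx xx v0 * d0 * (Wx xx v0)⁻¹ := by
    have h1 := word_one c_nets hφ hinj v0_rel
    rw [Wx_append, Wx_append, Wx_append, Wx_reverse (fun d hd => hx2 d (v0_lt d hd)), Wx_cons, Wx_nil, mul_one] at h1
    have h2 : Wx xx v0 * d0 * (Wx xx v0)⁻¹ * xx 0 = 1 := by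
      rw [← h1]; unfold d0; group
    rw [eq_inv_of_mul_eq_one_left h2]
    exact eq_inv_of_mul_eq_one_left (hx2 0 (by norm_num))
  have hst : ∀ g, φ g (pt 0) = pt 0 ↔ g * xx 0 = xx 0 * g := fun g => st_transport hst0 hv0 hx0 g
  have htr : ∀ i, i < 31671 → ∃ g, φ g (pt 0) = i := by
    intro i hi
    obtain ⟨g, hg⟩ := (horb i).2 hi
    refine ⟨g * (Wx xx v0)⁻¹, ?_⟩
    have h1 : φ (Wx xx v0)⁻¹ (pt 0) = 0 := by
      rw [map_inv, Equiv.Perm.inv_eq_iff_eq]; exact hv0.symm
    rw [map_mul, Equiv.Perm.mul_apply, h1, hg]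
  have hC : Ctx xx φ nets 15 31671 10 pt rc :=
    { hns := c_nets
      hφ := hφ
      hinj := hinj
      hnk := by norm_num
      hlt := hlt
      htr := htr
      hpt := by intro c hc; interval_cases c <;> decide
      hx2 := hx2
      hst := hst
      hcj := fun c hc => ⟨_, hcj c hc⟩
      hnc := by norm_num
      hrc := fun c hc i hi => fixOK_spec c_nets (by norm_num) (rc_ok c hc) hi }
  exact ⟨φ, H, hC, horb, hH, fun g => ⟨hmem g, hfix g⟩, hst0⟩

end Cfsg.Agent.Lib.Fi23Out
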