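import Cfsg.Agent.Lib.Fi23OutTab
import Cfsg.Agent.Lib.Fi23OutData
import Cfsg.Agent.Lib.Fi23NetsA
import Cfsg.Agent.Lib.BenesPlane
set_option autoImplicit false
set_option linter.all false
set_option maxRecDepth 100000
set_option exponentiation.threshold 50000

/-!
Numerical facts for the centralizer of an element of order 13 (cases 0).
-/

namespace Cfsg.Agent.Lib.Fi23Out

open Cfsg.Agent.Lib.BenesPerm Cfsg.Agent.Lib.BenesAct Cfsg.Agent.Lib.BenesWord Cfsg.Agent.Lib.BenesPlane
open Cfsg.Agent.Lib.Fi23NetsA Cfsg.Agent.Lib.LaneTools Cfsg.Agent.Lib.TransLanes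

theorem cas0_ok : cassT tabs pt 10 31671 U cas0 = true := by decide +kernel
theorem cas0_t : cas0.all (fun e => or (Nat.beq e.2.2.2.1 8000) (Nat.beq e.2.2.2.1 266)) = true := by decide +kernel
theorem cas1_ok : cassT tabs pt 10 31671 U cas1 = true := by decide +kernel
theorem cas1_t : cas1.all (fun e => or (Nat.beq e.2.2.2.1 8000) (Nat.beq e.2.2.2.1 266)) = true := by decide +kernel
theorem cas2_ok : cassT tabs pt 10 31671 U cas2 = true := by decide +kernel
theorem cas2_t : cas2.all (fun e => or (Nat.beq e.2.2.2.1 8000) (Nat.beq e.2.2.2.1 266)) = true := by decide +kernel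
theorem cas3_ok : cassT tabs pt 10 31671 U cas3 = true := by decide +kernel
theorem cas3_t : cas3.all (fun e => or (Nat.beq e.2.2.2.1 8000) (Nat.beq e.2.2.2.1 266)) = true := by decide +kernel
theorem cas4_ok : cassT tabs pt 10 31671 U cas4 = true := by decide +kernel
theorem cas4_t : cas4.all (fun e => or (Nat.beq e.2.2.2.1 8000) (Nat.beq e.2.2.2.1 266)) = true := by decide +kernel
theorem cas5_ok : cassT tabs pt 10 31671 U cas5 = true := by decide +kernel
theorem cas5_t : cas5.all (fun e => or (Nat.beq e.2.2.2.1 8000) (Nat.beq e.2.2.2.1 266)) = true := by decide +kernel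
theorem cas6_ok : cassT tabs pt 10 31671 U cas6 = true := by decide +kernel
theorem cas6_t : cas6.all (fun e => or (Nat.beq e.2.2.2.1 8000) (Nat.beq e.2.2.2.1 266)) = true := by decide +kernel
theorem cas7_ok : cassT tabs pt 10 31671 U cas7 = true := by decide +kernel
theorem cas7_t : cas7.all (fun e => or (Nat.beq e.2.2.2.1 8000) (Nat.beq e.2.2.2.1 266)) = true := by decide +kernel
theorem cas8_ok : cassT tabs pt 10 31671 U cas8 = true := by decide +kernel
theorem cas8_t : cas8.all (fun e => or (Nat.beq e.2.2.2.1 8000) (Nat.beq e.2.2.2.1 266)) = true := by decide +kernel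
theorem cas9_ok : cassT tabs pt 10 31671 U cas9 = true := by decide +kernel
theorem cas9_t : cas9.all (fun e => or (Nat.beq e.2.2.2.1 8000) (Nat.beq e.2.2.2.1 266)) = true := by decide +kernel
theorem cas10_ok : cassT tabs pt 10 31671 U cas10 = true := by decide +kernel
theorem cas10_t : cas10.all (fun e => or (Nat.beq e.2.2.2.1 8000) (Nat.beq e.2.2.2.1 266)) = true := by decide +kernel
theorem cas11_ok : cassT tabs pt 10 31671 U cas11 = true := by decide +kernel
theorem cas11_t : cas11.all (fun e => or (Nat.beq e.2.2.2.1 8000) (Nat.beq e.2.2.2.1 266)) = true := by decide +kernel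
theorem cas12_ok : cassT tabs pt 10 31671 U cas12 = true := by decide +kernel
theorem cas12_t : cas12.all (fun e => or (Nat.beq e.2.2.2.1 8000) (Nat.beq e.2.2.2.1 266)) = true := by decide +kernel
theorem cas13_ok : cassT tabs pt 10 31671 U cas13 = true := by decide +kernel
theorem cas13_t : cas13.all (fun e => or (Nat.beq e.2.2.2.1 8000) (Nat.beq e.2.2.2.1 266)) = true := by decide +kernel
theorem cas14_ok : cassT tabs pt 10 31671 U cas14 = true := by decide +kernel
theorem cas14_t : cas14.all (fun e => or (Nat.beq e.2.2.2.1 8000) (Nat.beq e.2.2.2.1 266)) = true := by decide +kernel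
end Cfsg.Agent.Lib.Fi23Out
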