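import Cfsg.Agent.Lib.Fi23OutTab
import Cfsg.Agent.Lib.Fi23OutData
import Cfsg.Agent.Lib.Fi23NetsA
import Cfsg.Agent.Lib.BenesPlane
set_option autoImplicit false
set_option linter.all false
set_option maxRecDepth 100000
set_option exponentiation.threshold 50000

/-!
Numerical facts for the centralizer of an element of order 13 (cases 1).
-/

namespace Cfsg.Agent.Lib.Fi23Out

open Cfsg.Agent.Lib.BenesPerm Cfsg.Agent.Lib.BenesAct Cfsg.Agent.Lib.BenesWord Cfsg.Agent.Lib.BenesPlane
open Cfsg.Agent.Lib.Fi23NetsA Cfsg.Agent.Lib.LaneTools Cfsg.Agent.Lib.TransLanes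

theorem cas15_ok : cassT tabs pt 10 31671 U cas15 = true := by decide +kernel
theorem cas15_t : cas15.all (fun e => or (Nat.beq e.2.2.2.1 8000) (Nat.beq e.2.2.2.1 266)) = true := by decide +kernel
theorem cas16_ok : cassT tabs pt 10 31671 U cas16 = true := by decide +kernel
theorem cas16_t : cas16.all (fun e => or (Nat.beq e.2.2.2.1 8000) (Nat.beq e.2.2.2.1 266)) = true := by decide +kernel
theorem cas17_ok : cassT tabs pt 10 31671 U cas17 = true := by decide +kernel
theorem cas17_t : cas17.all (fun e => or (Nat.beq e.2.2.2.1 8000) (Nat.beq e.2.2.2.1 266)) = true := by decide +kernel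
theorem cas18_ok : cassT tabs pt 10 31671 U cas18 = true := by decide +kernel
theorem cas18_t : cas18.all (fun e => or (Nat.beq e.2.2.2.1 8000) (Nat.beq e.2.2.2.1 266)) = true := by decide +kernel
theorem cas19_ok : cassT tabs pt 10 31671 U cas19 = true := by decide +kernel
theorem cas19_t : cas19.all (fun e => or (Nat.beq e.2.2.2.1 8000) (Nat.beq e.2.2.2.1 266)) = true := by decide +kernel
theorem cas20_ok : cassT tabs pt 10 31671 U cas20 = true := by decide +kernel
theorem cas20_t : cas20.all (fun e => or (Nat.beq e.2.2.2.1 8000) (Nat.beq e.2.2.2.1 266)) = true := by decide +kernel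
theorem cas21_ok : cassT tabs pt 10 31671 U cas21 = true := by decide +kernel
theorem cas21_t : cas21.all (fun e => or (Nat.beq e.2.2.2.1 8000) (Nat.beq e.2.2.2.1 266)) = true := by decide +kernel
theorem cas22_ok : cassT tabs pt 10 31671 U cas22 = true := by decide +kernel
theorem cas22_t : cas22.all (fun e => or (Nat.beq e.2.2.2.1 8000) (Nat.beq e.2.2.2.1 266)) = true := by decide +kernel
theorem cas23_ok : cassT tabs pt 10 31671 U cas23 = true := by decide +kernel
theorem cas23_t : cas23.all (fun e => or (Nat.beq e.2.2.2.1 8000) (Nat.beq e.2.2.2.1 266)) = true := by decide +kernel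
theorem cas24_ok : cassT tabs pt 10 31671 U cas24 = true := by decide +kernel
theorem cas24_t : cas24.all (fun e => or (Nat.beq e.2.2.2.1 8000) (Nat.beq e.2.2.2.1 266)) = true := by decide +kernel
theorem cas25_ok : cassT tabs pt 10 31671 U cas25 = true := by decide +kernel
theorem cas25_t : cas25.all (fun e => or (Nat.beq e.2.2.2.1 8000) (Nat.beq e.2.2.2.1 266)) = true := by decide +kernel
theorem cas26_ok : cassT tabs pt 10 31671 U cas26 = true := by decide +kernel
theorem cas26_t : cas26.all (fun e => or (Nat.beq e.2.2.2.1 8000) (Nat.beq e.2.2.2.1 266)) = true := by decide +kernel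
theorem cas27_ok : cassT tabs pt 10 31671 U cas27 = true := by decide +kernel
theorem cas27_t : cas27.all (fun e => or (Nat.beq e.2.2.2.1 8000) (Nat.beq e.2.2.2.1 266)) = true := by decide +kernel
theorem cas28_ok : cassT tabs pt 10 31671 U cas28 = true := by decide +kernel
theorem cas28_t : cas28.all (fun e => or (Nat.beq e.2.2.2.1 8000) (Nat.beq e.2.2.2.1 266)) = true := by decide +kernel
theorem cas29_ok : cassT tabs pt 10 31671 U cas29 = true := by decide +kernel
theorem cas29_t : cas29.all (fun e => or (Nat.beq e.2.2.2.1 8000) (Nat.beq e.2.2.2.1 266)) = true := by decide +kernel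
end Cfsg.Agent.Lib.Fi23Out
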