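import Cfsg.Agent.Lib.Fi23OutTab
import Cfsg.Agent.Lib.Fi23OutData
import Cfsg.Agent.Lib.Fi23NetsA
import Cfsg.Agent.Lib.BenesPlane
set_option autoImplicit false
set_option linter.all false
set_option maxRecDepth 100000
set_option exponentiation.threshold 50000

/-!
Numerical facts for the centralizer of an element of order 13 (further facts).
-/

namespace Cfsg.Agent.Lib.Fi23Out

open Cfsg.Agent.Lib.BenesPerm Cfsg.Agent.Lib.BenesAct Cfsg.Agent.Lib.BenesWord Cfsg.Agent.Lib.BenesPlane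
open Cfsg.Agent.Lib.Fi23NetsA Cfsg.Agent.Lib.LaneTools Cfsg.Agent.Lib.TransLanes

/-- the word of the transposition of lane 0 -/
def u0 : List ℕ := [9, 6, 5, 4, 3, 7, 2, 3, 4, 5, 6, 9, 1, 2, 3, 7, 4, 5, 3, 4, 2, 3, 7, 6, 5, 4, 3, 2]
def w1 : List ℕ := [7, 0, 1, 2, 3, 4, 5, 6, 9, 7, 8, 4, 1, 2, 3, 7, 4, 5, 2, 3, 4, 1, 2, 3, 7, 8, 5, 3, 4, 1, 2, 3, 7, 6, 5, 4, 3, 2, 1]
def w2 : List ℕ := [2, 3, 7, 0, 1, 2, 3, 4, 5, 6, 9, 7, 8, 2, 3, 7, 4, 5, 2, 3, 4, 0, 1, 2, 3, 7, 8, 5, 3, 4, 1, 2, 3, 7, 6, 5, 4, 3, 2, 1]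
def wf : List ℕ := []
def wm : List ℕ := [9, 6, 5, 4, 3, 2, 1]
def wf2 : List ℕ := [7, 5, 3, 4, 2, 3, 7, 6, 5, 4, 3, 2, 1]
def ws : List ℕ := [7]
theorem U_let : letK 10 U = true := by decide +kernel
theorem tr0_l : letK 10 u0 = true := by decide +kernel
theorem tr0_t : laneT tabs u0 (pt 1) 0 = true := by decide +kernel
theorem tr1_l : letK 10 w1 = true := by decide +kernel
theorem tr1_t : laneT tabs w1 (pt 0) 26289 = true := by decide +kernel
theorem tr2_l : letK 10 w2 = true := by decide +kernel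
theorem tr2_t : laneT tabs w2 (pt 0) 27894 = true := by decide +kernel
theorem trf_l : letK 10 wf = true := by decide +kernel
theorem trf_t : laneT tabs wf (pt 6) 8000 = true := by decide +kernel
theorem trm_l : letK 10 wm = true := by decide +kernel
theorem trm_t : laneT tabs wm (pt 0) 2138 = true := by decide +kernel
theorem trf2_l : letK 10 wf2 = true := by decide +kernel
theorem trf2_t : laneT tabs wf2 (pt 0) 266 = true := by decide +kernel
theorem trs_l : letK 10 ws = true := by decide +kernel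
theorem trs_t : laneT tabs ws (pt 3) 6526 = true := by decide +kernel
theorem y_fix : fixOK nets U 15 31671 (Nat.lor (Nat.pow 2 0) (Nat.lor (Nat.pow 2 26289) (Nat.pow 2 27894))) = true := by decide +kernel
theorem U_ord : relK nets 15 (wpow U 13) = true := by decide +kernel
theorem y_moved : laneT tabs U 1 3 = true := by decide +kernel
theorem sw2_01 : laneT tabs (pal 0 w2) 0 26289 = true := by decide +kernel
theorem sw1_02 : laneT tabs (pal 0 w1) 0 27894 = true := by decide +kernel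
theorem sw0_m : laneT tabs (pal 1 u0) 11 2138 = true := by decide +kernel
theorem sw0_f : laneT tabs (pal 1 u0) 8000 8000 = true := by decide +kernel
theorem Ul0 : laneT tabs U 0 0 = true := by decide +kernel
theorem RM_pop : Nat.beq (Nat.mod (popK 15 RM) 4) 2 = true := by decide +kernel
theorem RM_lt : Nat.blt RM (Nat.pow 2 (Nat.pow 2 15)) = true := by decide +kernel
theorem RM_cls : Nat.beq (clsK nets rc (Nat.xor (Nat.sub (Nat.pow 2 31671) 1) (Nat.pow 2 0)) [(1, u0, true)]) RM = true := by decide +kernel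
theorem cov_ok : Nat.beq (covK nets U 13 (repK cases)) RM = true := by decide +kernel
def sels : List Sel := [
  (8000, 6, true, [], []),
  (6523, 5, true, [6], [0]),
  (3157, 1, true, [5, 4, 3, 2], [1]),
  (8002, 4, true, [], [0, 0]),
  (1343, 1, false, [5, 3, 4, 2, 3, 7, 8, 5, 4, 2, 3, 7, 6, 5, 4, 3, 2], [2, 1, 1, 2, 1, 1, 1, 1, 2, 1])]
theorem sels_ok : selsT tabs pt 10 [U, U.reverse, pal 6 wf] 8000 sels = true := by decide +kernel
theorem cls_ok : Nat.beq (clsK nets rc (Nat.sub (Nat.pow 2 31671) 1) ((1, u0, false) :: sels.map selE)) (Nat.lor (Nat.pow 2 2138) (Nat.pow 2 11)) = true := by decide +kernel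
def sels2 : List Sel := [
  (2923, 0, true, [1, 2, 3, 7, 8, 7, 3, 4, 2, 3, 7, 5, 4, 3, 2, 1], [1]),
  (2545, 0, true, [7, 8, 2, 3, 4, 1, 2, 3, 7, 5, 4, 3, 2, 1], [0, 0]),
  (4526, 0, true, [5, 4, 3, 7, 8, 4, 1, 2, 3, 7, 6, 5, 4, 3, 2, 1], [0, 0, 0]),
  (5908, 0, true, [6, 5, 3, 4, 1, 2, 3, 7, 8, 4, 5, 3, 4, 1, 2, 3, 7, 6, 5, 4, 3, 2, 1], [1, 1, 1]),
  (6803, 0, false, [6, 5, 4, 1, 2, 3, 7, 8, 3, 4, 5, 2, 3, 4, 1, 2, 3, 7, 6, 5, 4, 3, 2, 1], [2, 0]),
  (1862, 0, true, [2, 3, 7, 8, 4, 2, 3, 7, 6, 5, 4, 3, 2, 1], [2, 0, 0, 0, 0])]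
theorem sels2_ok : selsT tabs pt 10 [U, U.reverse, pal 0 wf2] 266 sels2 = true := by decide +kernel
theorem cls2_ok : Nat.beq (clsK nets rc (Nat.sub (Nat.pow 2 31671) 1) ((1, u0, true) :: sels2.map selE)) (Nat.pow 2 6526) = true := by decide +kernel
def path2 : List ℕ := [0, 3, 1, 1, 1]
theorem path2_ok : laneT tabs (flatK [U, U.reverse, pal 0 wf2, pal 3 ws] path2) 6526 8000 = true := by decide +kernel
def gp (c : ℕ) : List ℕ :=
  match c with
  | 0 => [1, 2, 1, 1, 2, 1, 3, 2, 1, 1, 2, 1, 2, 1, 2, 1, 2, 0, 0]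
  | 1 => [1, 3, 1, 2, 0, 0]
  | 2 => [1, 1, 3, 1, 2, 0, 0]
  | 3 => [0, 3, 0, 0, 2, 1, 1, 1]
  | 4 => [1, 3, 0, 0, 0, 2, 1, 1, 1]
  | 5 => [0, 0, 3, 1, 2, 1, 2, 0, 0]
  | 6 => [0, 0, 3, 1, 1, 2, 0, 0]
  | 7 => [3, 1, 2, 0, 2, 0, 2, 0, 2, 1, 1, 1]
  | 8 => [0, 3, 0, 0, 2, 1, 2, 1, 2, 1, 2, 0, 0]
  | _ => [2, 0, 0, 0, 0, 3, 2, 1, 3, 2, 1, 2, 1, 2, 0, 0, 0, 0]
theorem gp0_ok : laneT tabs (flatK [U, U.reverse, pal 6 wf, pal 0 wm] (gp 0)) 2138 (pt 0) = true := by decide +kernel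
theorem gp1_ok : laneT tabs (flatK [U, U.reverse, pal 6 wf, pal 0 wm] (gp 1)) 2138 (pt 1) = true := by decide +kernel
theorem gp2_ok : laneT tabs (flatK [U, U.reverse, pal 6 wf, pal 0 wm] (gp 2)) 2138 (pt 2) = true := by decide +kernel
theorem gp3_ok : laneT tabs (flatK [U, U.reverse, pal 6 wf, pal 0 wm] (gp 3)) 2138 (pt 3) = true := by decide +kernel
theorem gp4_ok : laneT tabs (flatK [U, U.reverse, pal 6 wf, pal 0 wm] (gp 4)) 2138 (pt 4) = true := by decide +kernel
theorem gp5_ok : laneT tabs (flatK [U, U.reverse, pal 6 wf, pal 0 wm] (gp 5)) 2138 (pt 5) = true := by decide +kernel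
theorem gp6_ok : laneT tabs (flatK [U, U.reverse, pal 6 wf, pal 0 wm] (gp 6)) 2138 (pt 6) = true := by decide +kernel
theorem gp7_ok : laneT tabs (flatK [U, U.reverse, pal 6 wf, pal 0 wm] (gp 7)) 2138 (pt 7) = true := by decide +kernel
theorem gp8_ok : laneT tabs (flatK [U, U.reverse, pal 6 wf, pal 0 wm] (gp 8)) 2138 (pt 8) = true := by decide +kernel
theorem gp9_ok : laneT tabs (flatK [U, U.reverse, pal 6 wf, pal 0 wm] (gp 9)) 2138 (pt 9) = true := by decide +kernel
theorem stage0 : stageK nets rc pt 15 31671 [] 0 31671 = true := by decide +kernel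
theorem stage1 : stageK nets rc pt 15 31671 [(0, [], true)] 2 3511 = true := by decide +kernel
theorem stage2 : stageK nets rc pt 15 31671 [(2, [], false), (0, [], false)] 1 25344 = true := by decide +kernel
theorem stage3 : stageK nets rc pt 15 31671 [(2, [], true), (1, [], true), (0, [], true)] 4 63 = true := by decide +kernel
theorem stage4 : stageK nets rc pt 15 31671 [(2, [], true), (1, [], true), (0, [], true), (4, [], false)] 5 32 = true := by decide +kernel
theorem stage5 : stageK nets rc pt 15 31671 [(5, [], true), (4, [], true), (2, [], true), (1, [], true), (0, [], true)] 9 15 = true := by decide +kernel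
theorem stage6 : stageK nets rc pt 15 31671 [(4, [], true), (2, [], true), (1, [], true), (0, [], true), (9, [], false), (5, [], false)] 6 8 = true := by decide +kernel
theorem stage7 : stageK nets rc pt 15 31671 [(9, [], true), (6, [], true), (5, [], true), (4, [], true), (2, [], true), (0, [], true), (1, [], true)] 7 3 = true := by decide +kernel
theorem stage8 : stageK nets rc pt 15 31671 [(9, [], true), (6, [], true), (5, [], true), (1, [], true), (0, [], true), (7, [], false), (4, [], false), (2, [], false)] 3 2 = true := by decide +kernel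
theorem stage9 : stageK nets rc pt 15 31671 [(9, [], true), (6, [], true), (5, [], true), (4, [], true), (3, [], true), (2, [], true), (1, [], true), (0, [], true)] 8 1 = true := by decide +kernel
end Cfsg.Agent.Lib.Fi23Out
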