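import Cfsg.Agent.Lib.Fi23OutB
import Cfsg.Agent.Lib.Fi23OutC1
import Cfsg.Agent.Lib.Fi23OutC2
import Cfsg.Agent.Lib.Fi23OutC3

/-!
The centralizer of an element of order 13 and the outer automorphism group of the presented group `Fi₂₃`.
-/

set_option autoImplicit false
set_option linter.all false
set_option maxRecDepth 100000
set_option exponentiation.threshold 50000

namespace Cfsg.Agent.Lib.Fi23Out

open Cfsg.Spor Cfsg.Agent.Lib.BenesPerm Cfsg.Agent.Lib.BenesAct Cfsg.Agent.Lib.BenesWord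
open Cfsg.Agent.Lib.BenesPlane Cfsg.Agent.Lib.CosetClosure Cfsg.Agent.Lib.CosetFacts
open Cfsg.Agent.Lib.CosetMain Cfsg.Agent.Lib.CoxBridge Cfsg.Agent.Lib.CosetGroup Cfsg.Agent.Lib.CosetInst Cfsg.Agent.Lib.CosetInj
open Cfsg.Agent.Lib.CosetOrder
open Cfsg.Agent.Lib.Fi23Rel Cfsg.Agent.Lib.Fi23NetsA Cfsg.Agent.Lib.Fi23A
open Cfsg.Agent.Lib.LaneTools Cfsg.Agent.Lib.TransLanes

theorem hgen (g : GF) (h : ∀ c < 10, g * xx c = xx c * g) (h' : GF) : g * h' = h' * g := by
  have h1 : (⊤ : Subgroup GF) ≤ Subgroup.centralizer {g} := by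
    rw [← closure_xx, Subgroup.closure_le]
    rintro _ ⟨c, hc, rfl⟩
    rw [SetLike.mem_coe, Subgroup.mem_centralizer_singleton_iff]
    exact (h c hc).symm
  exact (Subgroup.mem_centralizer_singleton_iff.1 (h1 (Subgroup.mem_top h'))).symm

theorem n_le : 31671 ≤ 2 ^ 15 := by norm_num

theorem pt_lt : ∀ c < 10, pt c < 31671 := by
  intro c hc; interval_cases c <;> decide

theorem cas_all : ∀ e ∈ cases, casK nets pt 10 U e = true ∧ (e.2.2.2.1 = 8000 ∨ e.2.2.2.1 = 266) := by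
  have H : ∀ L : List Cas, cassT tabs pt 10 31671 U L = true →
      L.all (fun e => or (Nat.beq e.2.2.2.1 8000) (Nat.beq e.2.2.2.1 266)) = true →
      ∀ e ∈ L, casK nets pt 10 U e = true ∧ (e.2.2.2.1 = 8000 ∨ e.2.2.2.1 = 266) := by
    intro L h1 h2 e he
    refine ⟨cassT_spec c_nets n_le pt_lt tabs_ok U_let h1 e he, ?_⟩
    have h3 : (or (Nat.beq e.2.2.2.1 8000) (Nat.beq e.2.2.2.1 266)) = true := List.all_eq_true.1 h2 e he
    rw [Bool.or_eq_true] at h3
    rcases h3 with h3 | h3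
    · exact Or.inl (Nat.eq_of_beq_eq_true h3)
    · exact Or.inr (Nat.eq_of_beq_eq_true h3)
  intro e he
  unfold cases at he
  simp only [List.mem_append] at he
  rcases he with he | he | he | he | he | he | he | he | he | he | he | he | he | he | he | he | he | he | he | he | he | he | he | he | he | he | he | he | he | he
  · exact H _ cas0_ok cas0_t e he
  · exact H _ cas1_ok cas1_t e he
  · exact H _ cas2_ok cas2_t e he
  · exact H _ cas3_ok cas3_t e he
  · exact H _ cas4_ok cas4_t e he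
  · exact H _ cas5_ok cas5_t e he
  · exact H _ cas6_ok cas6_t e he
  · exact H _ cas7_ok cas7_t e he
  · exact H _ cas8_ok cas8_t e he
  · exact H _ cas9_ok cas9_t e he
  · exact H _ cas10_ok cas10_t e he
  · exact H _ cas11_ok cas11_t e he
  · exact H _ cas12_ok cas12_t e he
  · exact H _ cas13_ok cas13_t e he
  · exact H _ cas14_ok cas14_t e he
  · exact H _ cas15_ok cas15_t e he
  · exact H _ cas16_ok cas16_t e he
  · exact H _ cas17_ok cas17_t e he
  · exact H _ cas18_ok cas18_t e he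
  · exact H _ cas19_ok cas19_t e he
  · exact H _ cas20_ok cas20_t e he
  · exact H _ cas21_ok cas21_t e he
  · exact H _ cas22_ok cas22_t e he
  · exact H _ cas23_ok cas23_t e he
  · exact H _ cas24_ok cas24_t e he
  · exact H _ cas25_ok cas25_t e he
  · exact H _ cas26_ok cas26_t e he
  · exact H _ cas27_ok cas27_t e he
  · exact H _ cas28_ok cas28_t e he
  · exact H _ cas29_ok cas29_t e he

theorem trK_of {c : ℕ} {w : List ℕ} {l : ℕ} (hc : c < 10) (hw : letK 10 w = true)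
    (h : laneT tabs w (pt c) l = true) : trK nets pt 10 c w l = true := by
  unfold trK
  rw [bandK_eq_true, bandK_eq_true]
  refine ⟨⟨?_, hw⟩, laneT_spec c_nets tabs_ok (letK_spec hw) (lt_of_lt_of_le (pt_lt c hc) n_le) h⟩
  exact Nat.ble_eq_true_of_le hc

theorem tr0 : trK nets pt 10 1 u0 0 = true := trK_of (by norm_num) tr0_l tr0_t
theorem tr1 : trK nets pt 10 0 w1 26289 = true := trK_of (by norm_num) tr1_l tr1_t
theorem tr2 : trK nets pt 10 0 w2 27894 = true := trK_of (by norm_num) tr2_l tr2_t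
theorem trf : trK nets pt 10 6 wf 8000 = true := trK_of (by norm_num) trf_l trf_t
theorem trm : trK nets pt 10 0 wm 2138 = true := trK_of (by norm_num) trm_l trm_t
theorem trf2 : trK nets pt 10 0 wf2 266 = true := trK_of (by norm_num) trf2_l trf2_t
theorem trs : trK nets pt 10 3 ws 6526 = true := trK_of (by norm_num) trs_l trs_t

theorem mv_lt : ∀ w ∈ [U, U.reverse, pal 6 wf], ∀ c ∈ w, c < 10 := by
  refine mvs_lt U_let ?_
  intro w hw
  rw [List.mem_singleton] at hw
  subst hw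
  decide

theorem mv_lt2 : ∀ w ∈ [U, U.reverse, pal 6 wf, pal 0 wm], ∀ c ∈ w, c < 10 := by
  refine mvs_lt U_let ?_
  intro w hw
  rcases List.mem_cons.1 hw with rfl | hw
  · decide
  · rw [List.mem_singleton] at hw
    subst hw
    decide

theorem mv_lt3 : ∀ w ∈ [U, U.reverse, pal 0 wf2], ∀ c ∈ w, c < 10 := by
  refine mvs_lt U_let ?_
  intro w hw
  rw [List.mem_singleton] at hw
  subst hw
  decide

theorem mv_lt4 : ∀ w ∈ [U, U.reverse, pal 0 wf2, pal 3 ws], ∀ c ∈ w, c < 10 := by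
  refine mvs_lt U_let ?_
  intro w hw
  rcases List.mem_cons.1 hw with rfl | hw
  · decide
  · rw [List.mem_singleton] at hw
    subst hw
    decide

theorem laneKT {w : List ℕ} (hw : ∀ c ∈ w, c < 10) {i j : ℕ} (hi : i < 2 ^ 15) (h : laneT tabs w i j = true) :
    laneK nets w i j = true := laneT_spec c_nets tabs_ok hw hi h

theorem gp_ok (c : ℕ) (hc : c < 10) : laneK nets (flatK [U, U.reverse, pal 6 wf, pal 0 wm] (gp c)) 2138 (pt c) = true := by
  have H := fun p j (h : laneT tabs (flatK [U, U.reverse, pal 6 wf, pal 0 wm] p) 2138 j = true) =>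
    laneKT (flatK_lt mv_lt2 p) (by norm_num : 2138 < 2 ^ 15) h
  interval_cases c
  · exact H _ _ gp0_ok
  · exact H _ _ gp1_ok
  · exact H _ _ gp2_ok
  · exact H _ _ gp3_ok
  · exact H _ _ gp4_ok
  · exact H _ _ gp5_ok
  · exact H _ _ gp6_ok
  · exact H _ _ gp7_ok
  · exact H _ _ gp8_ok
  · exact H _ _ gp9_ok

variable {φ : GF →* Equiv.Perm ℕ} (C' : Ctx xx φ nets 15 31671 10 pt rc)

include C' in
theorem hcen (t : GF) (h : ∀ g, t * g = g * t) : t = 1 := by
  have hs := Fi23Ord.main.1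
  have h1 : t ∈ Subgroup.center GF := by
    rw [Subgroup.mem_center_iff]
    intro g; exact (h g).symm
  rcases hs.eq_bot_or_eq_top_of_normal (Subgroup.center GF) inferInstance with h2 | h2
  · rw [h2] at h1
    exact Subgroup.mem_bot.1 h1
  · exfalso
    have h3 : xx 1 ∈ Subgroup.center GF := by rw [h2]; exact Subgroup.mem_top _
    have h4 := Subgroup.mem_center_iff.1 h3 (xx 0)
    have h5 : Wx xx [1, 0] ≠ Wx xx [0, 1] := ne_of_lanes C'.hφ (wfn_T (by decide) (by norm_num) n3_a)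
      (wfn_T (by decide) (by norm_num) n3_b) (by norm_num)
    apply h5
    exact h4.symm

include C' in
theorem y_order : orderOf (Wx xx U) = 13 := by
  have _ : Fact (Nat.Prime 13) := ⟨by norm_num⟩
  apply orderOf_eq_prime
  · have h := word_one c_nets C'.hφ C'.hinj U_ord
    rw [Wx_wpow] at h
    exact h
  · intro h
    have h1 : φ (Wx xx U) 1 = 1 := by rw [h, MonoidHom.map_one]; rfl
    have h2 : wfn nets U 1 = 3 := laneK_spec c_nets (laneKT (letK_spec U_let) (by norm_num) y_moved)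
    rw [C'.φ_word, h2] at h1
    exact absurd h1 (by norm_num)

include C' in
/-- the lanes fixed by `y` -/
theorem fix_y {i : ℕ} (hi : i < 31671) : φ (Wx xx U) i = i ↔ i = 0 ∨ i = 26289 ∨ i = 27894 := by
  have h2 := fixOK_spec c_nets n_le y_fix hi
  have h3 : (Nat.lor (Nat.pow 2 0) (Nat.lor (Nat.pow 2 26289) (Nat.pow 2 27894))).testBit i = true ↔
      i = 0 ∨ i = 26289 ∨ i = 27894 := by
    show (2 ^ 0 ||| (2 ^ 26289 ||| 2 ^ 27894)).testBit i = true ↔ _
    rw [Nat.testBit_or, Nat.testBit_or, Bool.or_eq_true, Bool.or_eq_true, Nat.testBit_two_pow, Nat.testBit_two_pow,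
      Nat.testBit_two_pow]
    simp only [decide_eq_true_eq]
    constructor
    · rintro (h | h | h)
      · exact Or.inl h.symm
      · exact Or.inr (Or.inl h.symm)
      · exact Or.inr (Or.inr h.symm)
    · rintro (h | h | h)
      · exact Or.inl h.symm
      · exact Or.inr (Or.inl h.symm)
      · exact Or.inr (Or.inr h.symm)
  rw [C'.φ_word, ← h2, h3]

include C' in
theorem T0_eq : C'.T 0 = Wx xx (pal 1 u0) := (C'.tr_spec tr0).2.1

include C' in
/-- elements fixing lane 0 preserve `RM` -/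
theorem RM_inv {s : GF} (h0 : φ s 0 = 0) {i : ℕ} (hi : RM.testBit i = true) : RM.testBit (φ s i) = true := by
  rw [← Nat.eq_of_beq_eq_true RM_cls] at hi ⊢
  refine C'.cls_comm ?_ ?_ ?_ hi
  · intro e he
    rw [List.mem_singleton] at he
    subst he
    exact ⟨by norm_num, by decide⟩
  · intro e he
    rw [List.mem_singleton] at he
    subst he
    have h2 : Ctx.entE xx (1, u0, true) = C'.T 0 := by
      rw [T0_eq C']
      unfold Ctx.entE pal
      rw [Wx_append, Wx_cons, Wx_reverse (fun d hd => C'.hx2 d (by revert d; decide)), mul_assoc]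
    rw [h2]
    exact (C'.fix_iff (by norm_num) s).1 h0
  · intro j hj
    have e1 : Nat.xor (Nat.sub (Nat.pow 2 31671) 1) (Nat.pow 2 0) = (2 ^ 31671 - 1) ^^^ 2 ^ 0 := rfl
    rw [e1] at hj ⊢
    rw [Nat.testBit_xor, Nat.testBit_two_pow_sub_one, Nat.testBit_two_pow] at hj ⊢
    have hj1 : j < 31671 ∧ 0 ≠ j := by
      by_cases h1 : j < 31671 <;> by_cases h2 : 0 = j <;> simp [h1, h2] at hj ⊢ <;> omega
    have hj2 : φ s j < 31671 := C'.hlt s j hj1.1
    have hj3 : 0 ≠ φ s j := by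
      intro h
      apply hj1.2
      apply (φ s).injective
      rw [h0, ← h]
    refine ⟨hj1.1, ?_⟩
    simp [hj2, hj3]

/-- homomorphisms of the stabilizer to the signs are trivial -/
theorem sign_triv (H : Subgroup GF) (hH : H = Subgroup.closure (wset (C.x L0) WS)) (f : H →* ℤˣ) (s : H) : f s = 1 := by
  have hmem : ∀ c, c < 9 → xx c ∈ H := by
    intro c hc
    rw [hH]
    apply Subgroup.subset_closure
    refine ⟨Wd.g c, ?_, rfl⟩
    interval_cases c <;> simp [WS]
  have hu : ∀ u : ℤˣ, u * u = 1 := fun u => by rw [← pow_two]; exact Int.units_sq u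
  -- braid relations
  have hb : ∀ c d, ∀ (hc : c < 9) (hd : d < 9), (xx c * xx d) ^ 3 = 1 → f ⟨xx c, hmem c hc⟩ = f ⟨xx d, hmem d hd⟩ := by
    intro c d hc hd h
    have h1 : (⟨xx c, hmem c hc⟩ * ⟨xx d, hmem d hd⟩ : H) ^ 3 = 1 := Subtype.ext h
    have h2 := congrArg f h1
    rw [map_pow, map_mul, map_one] at h2
    set u := f ⟨xx c, hmem c hc⟩
    set v := f ⟨xx d, hmem d hd⟩
    have h3 : (u * v) ^ 3 = u * v := by
      calc (u * v) ^ 3 = (u * v) * (u * v) * (u * v) := by rw [pow_succ, pow_two]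
        _ = u * v := by rw [hu (u * v), one_mul]
    rw [h3] at h2
    calc u = u * v * v := by rw [mul_assoc, hu v, mul_one]
      _ = v := by rw [h2, one_mul]
  have r := Fi23Ord.rel_eval'
  have b01 := hb 0 1 (by norm_num) (by norm_num) (r (Wd.pow (Wd.mul (Wd.g 0) (Wd.g 1)) 3) (by decide))
  have b12 := hb 1 2 (by norm_num) (by norm_num) (r (Wd.pow (Wd.mul (Wd.g 1) (Wd.g 2)) 3) (by decide))
  have b23 := hb 2 3 (by norm_num) (by norm_num) (r (Wd.pow (Wd.mul (Wd.g 2) (Wd.g 3)) 3) (by decide))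
  have b34 := hb 3 4 (by norm_num) (by norm_num) (r (Wd.pow (Wd.mul (Wd.g 3) (Wd.g 4)) 3) (by decide))
  have b45 := hb 4 5 (by norm_num) (by norm_num) (r (Wd.pow (Wd.mul (Wd.g 4) (Wd.g 5)) 3) (by decide))
  have b56 := hb 5 6 (by norm_num) (by norm_num) (r (Wd.pow (Wd.mul (Wd.g 5) (Wd.g 6)) 3) (by decide))
  have b37 := hb 3 7 (by norm_num) (by norm_num) (r (Wd.pow (Wd.mul (Wd.g 3) (Wd.g 7)) 3) (by decide))
  have b78 := hb 7 8 (by norm_num) (by norm_num) (r (Wd.pow (Wd.mul (Wd.g 7) (Wd.g 8)) 3) (by decide))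
  have hodd : (xx 0 * xx 1 * xx 2 * xx 3 * xx 4 * xx 5 * xx 7) ^ 9 = 1 :=
    r (Wd.pow (Wd.mul (Wd.mul (Wd.mul (Wd.mul (Wd.mul (Wd.mul (Wd.g 0) (Wd.g 1)) (Wd.g 2)) (Wd.g 3)) (Wd.g 4)) (Wd.g 5)) (Wd.g 7)) 9)
      (by decide)
  have h0 : f ⟨xx 0, hmem 0 (by norm_num)⟩ = 1 := by
    have h1 : (⟨xx 0, hmem 0 (by norm_num)⟩ * ⟨xx 1, hmem 1 (by norm_num)⟩ * ⟨xx 2, hmem 2 (by norm_num)⟩ *
        ⟨xx 3, hmem 3 (by norm_num)⟩ * ⟨xx 4, hmem 4 (by norm_num)⟩ * ⟨xx 5, hmem 5 (by norm_num)⟩ *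
        ⟨xx 7, hmem 7 (by norm_num)⟩ : H) ^ 9 = 1 := Subtype.ext hodd
    have h2 := congrArg f h1
    rw [map_pow, map_mul, map_mul, map_mul, map_mul, map_mul, map_mul, map_one, ← b37, ← b45, ← b34, ← b23, ← b12,
      ← b01] at h2
    rcases Int.units_eq_one_or (f ⟨xx 0, hmem 0 (by norm_num)⟩) with h3 | h3
    · exact h3
    · rw [h3] at h2
      exact absurd h2 (by decide)
  have hall : ∀ c, ∀ (hc : c < 9), f ⟨xx c, hmem c hc⟩ = 1 := by
    intro c hc
    have h1 := b01.symm.trans h0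
    have h2 := b12.symm.trans h1
    have h3 := b23.symm.trans h2
    have h4 := b34.symm.trans h3
    have h5 := b45.symm.trans h4
    have h6 := b56.symm.trans h5
    have h7 := b37.symm.trans h3
    have h8 := b78.symm.trans h7
    interval_cases c
    · exact h0
    · exact h1
    · exact h2
    · exact h3
    · exact h4
    · exact h5
    · exact h6
    · exact h7
    · exact h8
  have hK : H ≤ (f.ker).map H.subtype := by
    nth_rewrite 1 [hH]
    rw [Subgroup.closure_le]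
    rintro _ ⟨W, hW, rfl⟩
    have hc : ∃ c, c < 9 ∧ W = Wd.g c := by
      unfold WS at hW
      simp only [List.mem_cons, List.not_mem_nil, or_false] at hW
      rcases hW with rfl | rfl | rfl | rfl | rfl | rfl | rfl | rfl | rfl
      · exact ⟨0, by norm_num, rfl⟩
      · exact ⟨1, by norm_num, rfl⟩
      · exact ⟨2, by norm_num, rfl⟩
      · exact ⟨3, by norm_num, rfl⟩
      · exact ⟨4, by norm_num, rfl⟩
      · exact ⟨5, by norm_num, rfl⟩
      · exact ⟨6, by norm_num, rfl⟩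
      · exact ⟨7, by norm_num, rfl⟩
      · exact ⟨8, by norm_num, rfl⟩
    obtain ⟨c, hc, rfl⟩ := hc
    exact ⟨⟨xx c, hmem c hc⟩, hall c hc, rfl⟩
  obtain ⟨s', h1, h2⟩ := hK s.2
  have h3 : s' = s := Subtype.ext h2
  rw [← h3]
  exact h1

include C' in
/-- involutions fixing lane 0 and commuting with `y` -/
theorem hcent0 (H : Subgroup GF) (hH : H = Subgroup.closure (wset (C.x L0) WS)) (hfix : ∀ g, φ g 0 = 0 ↔ g ∈ H)
    {t : GF} (ht2 : t * t = 1) (hne : t ≠ 1) (ht : t * Wx xx U = Wx xx U * t) (h0 : φ t 0 = 0) : t = C'.T 0 := by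
  have hR : ∃ f, RM.testBit f = true ∧ φ t f = f := by
    refine exists_fix_sign (k := 15) (Nat.le_of_ble_eq_true RM_lt) (Nat.eq_of_beq_eq_true RM_pop) H ?_
      (sign_triv H hH) ((hfix t).1 h0) ht2
    intro s hs i
    have hs0 : φ s 0 = 0 := (hfix s).2 hs
    have hs1 : φ s⁻¹ 0 = 0 := (hfix _).2 (H.inv_mem hs)
    rw [Bool.eq_iff_iff]
    refine ⟨fun h => ?_, RM_inv C' hs0⟩
    have h1 := RM_inv C' hs1 h
    rwa [← Equiv.Perm.mul_apply, ← map_mul, inv_mul_cancel, map_one, Equiv.Perm.one_apply] at h1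
  obtain ⟨f, hf1, hf2⟩ := hR
  obtain ⟨e, he, h3⟩ := C'.reduce (letK_spec U_let) ht (L := cases) (fun e he => (cas_all e he).1)
    (Nat.eq_of_beq_eq_true cov_ok) hf1 hf2
  have h4 : φ t 8000 = 8000 := by
    rcases (cas_all e he).2 with h5 | h5
    · rw [h5] at h3; exact h3
    · rw [h5] at h3
      exact C'.forced U_let tr0 trf2 trs (selsT_spec c_nets n_le pt_lt tabs_ok mv_lt3 (by norm_num) sels2_ok)
        (Nat.eq_of_beq_eq_true cls2_ok) (laneKT (flatK_lt mv_lt4 _) (by norm_num) path2_ok) h0 ht h3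
  rcases C'.final hgen (hcen C') U_let tr0 trf trm
    (selsT_spec c_nets n_le pt_lt tabs_ok mv_lt (by norm_num) sels_ok) (Nat.eq_of_beq_eq_true cls_ok)
    (laneKT (pal_lt (by norm_num) (letK_spec tr0_l)) (by norm_num) sw0_m)
    (laneKT (pal_lt (by norm_num) (letK_spec tr0_l)) (by norm_num) sw0_f)
    (laneKT (letK_spec U_let) (by norm_num) Ul0)
    gp_ok h0 ht h4 with h6 | h6
  · exact absurd h6 hne
  · exact h6

end Cfsg.Agent.Lib.Fi23Out
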