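import Cfsg.Agent.Lib.Fi23OutD

/-!
The outer automorphism group of the presented group `Fi₂₃`.
-/

set_option autoImplicit false
set_option linter.all false
set_option maxRecDepth 100000
set_option exponentiation.threshold 50000

namespace Cfsg.Agent.Lib.Fi23Out

open Cfsg.Spor Cfsg.Agent.Lib.BenesPerm Cfsg.Agent.Lib.BenesAct Cfsg.Agent.Lib.BenesWord
open Cfsg.Agent.Lib.BenesPlane Cfsg.Agent.Lib.CosetClosure Cfsg.Agent.Lib.CosetFacts
open Cfsg.Agent.Lib.CosetMain Cfsg.Agent.Lib.CoxBridge Cfsg.Agent.Lib.CosetGroup Cfsg.Agent.Lib.CosetInst Cfsg.Agent.Lib.CosetInj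
open Cfsg.Agent.Lib.CosetOrder
open Cfsg.Agent.Lib.Fi23Rel Cfsg.Agent.Lib.Fi23NetsA Cfsg.Agent.Lib.Fi23A
open Cfsg.Agent.Lib.LaneTools Cfsg.Agent.Lib.TransLanes

section

variable {φ : GF →* Equiv.Perm ℕ} (C' : Ctx xx φ nets 15 31671 10 pt rc)

include C' in
theorem T_comm_y {l : ℕ} (hl : l < 31671) (h : φ (Wx xx U) l = l) : C'.T l * Wx xx U = Wx xx U * C'.T l :=
  ((C'.fix_iff hl _).1 h).symm

include C' in
/-- reduction by conjugation with a transposition -/
theorem hcent_conj (H : Subgroup GF) (hH : H = Subgroup.closure (wset (C.x L0) WS)) (hfix : ∀ g, φ g 0 = 0 ↔ g ∈ H)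
    {t : GF} (ht2 : t * t = 1) (hne : t ≠ 1) (ht : t * Wx xx U = Wx xx U * t) {a b : ℕ} (hb : b < 31671)
    (hyb : φ (Wx xx U) b = b) (hab : φ (C'.T b) 0 = a) (hta : φ t a = a) : t = C'.T a := by
  set s := C'.T b with hs
  have s2 : s * s = 1 := C'.T_sq hb
  have sy := T_comm_y C' hb hyb
  have hsa : φ s a = 0 := by
    rw [← hab, ← Equiv.Perm.mul_apply, ← map_mul, s2, map_one]; rfl
  have h1 : s * t * s = C'.T 0 := by
    refine hcent0 C' H hH hfix ?_ ?_ ?_ ?_
    · calc s * t * s * (s * t * s) = s * t * (s * s) * t * s := by group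
        _ = s * (t * t) * s := by rw [s2]; group
        _ = 1 := by rw [ht2, mul_one, s2]
    · intro h
      apply hne
      calc t = (s * s) * t * (s * s) := by rw [s2, one_mul, mul_one]
        _ = s * (s * t * s) * s := by group
        _ = 1 := by rw [h, mul_one, s2]
    · have c1 : Commute s (Wx xx U) := sy
      have c2 : Commute t (Wx xx U) := ht
      exact (c1.mul_left c2).mul_left c1
    · rw [map_mul, map_mul, Equiv.Perm.mul_apply, Equiv.Perm.mul_apply, hab, hta, hsa]
  have h2 := C'.T_map (l := 0) (by norm_num) s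
  rw [hab] at h2
  rw [h2, ← h1, inv_eq_of_mul_eq_one_left s2]
  calc t = (s * s) * t * (s * s) := by rw [s2, one_mul, mul_one]
    _ = s * (s * t * s) * s := by group

include C' in
theorem hcent (H : Subgroup GF) (hH : H = Subgroup.closure (wset (C.x L0) WS)) (hfix : ∀ g, φ g 0 = 0 ↔ g ∈ H)
    {t : GF} (ht2 : t * t = 1) (hne : t ≠ 1) (ht : t * Wx xx U = Wx xx U * t) : ∃ l < 31671, t = C'.T l := by
  have hfy : ∀ i < 31671, (φ (Wx xx U) i = i) → φ t i = 0 ∨ φ t i = 26289 ∨ φ t i = 27894 := by
    intro i hi h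
    exact (fix_y C' (C'.hlt t i hi)).1 (fix_move φ ht.symm h)
  have htt : ∀ i, φ t (φ t i) = i := by
    intro i
    rw [← Equiv.Perm.mul_apply, ← map_mul, ht2, map_one]; rfl
  have f0 := (fix_y C' (i := 0) (by norm_num)).2 (Or.inl rfl)
  have f1 := (fix_y C' (i := 26289) (by norm_num)).2 (Or.inr (Or.inl rfl))
  have f2 := (fix_y C' (i := 27894) (by norm_num)).2 (Or.inr (Or.inr rfl))
  have e1 : φ (C'.T 27894) 0 = 26289 := by
    rw [(C'.tr_spec tr2).2.1, C'.φ_word]
    exact laneK_spec c_nets (laneKT (pal_lt (by norm_num) (letK_spec tr2_l)) (by norm_num) sw2_01)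
  have e2 : φ (C'.T 26289) 0 = 27894 := by
    rw [(C'.tr_spec tr1).2.1, C'.φ_word]
    exact laneK_spec c_nets (laneKT (pal_lt (by norm_num) (letK_spec tr1_l)) (by norm_num) sw1_02)
  have c1 := fun h => hcent_conj C' H hH hfix ht2 hne ht (a := 26289) (b := 27894) (by norm_num) f2 e1 h
  have c2 := fun h => hcent_conj C' H hH hfix ht2 hne ht (a := 27894) (b := 26289) (by norm_num) f1 e2 h
  rcases hfy 0 (by norm_num) f0 with h | h | h
  · exact ⟨0, by norm_num, hcent0 C' H hH hfix ht2 hne ht h⟩
  · -- `t` swaps 0 and 26289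
    have h1 : φ t 26289 = 0 := by rw [← h, htt]
    rcases hfy 27894 (by norm_num) f2 with h2 | h2 | h2
    · have h3 := (φ t).injective (h1.trans h2.symm)
      exact absurd h3 (by norm_num)
    · have h3 := (φ t).injective (h.trans h2.symm)
      exact absurd h3 (by norm_num)
    · exact ⟨27894, by norm_num, c2 h2⟩
  · have h1 : φ t 27894 = 0 := by rw [← h, htt]
    rcases hfy 26289 (by norm_num) f1 with h2 | h2 | h2
    · have h3 := (φ t).injective (h1.trans h2.symm)
      exact absurd h3 (by norm_num)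
    · exact ⟨26289, by norm_num, c1 h2⟩
    · have h3 := (φ t).injective (h.trans h2.symm)
      exact absurd h3 (by norm_num)

include C' in
theorem T0_ne : C'.T 0 ≠ 1 := by
  intro h
  obtain ⟨a, ha⟩ := C'.htr 0 (by norm_num)
  have h4 := C'.T_eq (show 0 < 31671 by norm_num) ha
  rw [h] at h4
  have h5 : xx 0 = 1 := by
    calc xx 0 = a⁻¹ * (a * xx 0 * a⁻¹) * a := by group
      _ = 1 := by rw [← h4]; group
  have h6 : Wx xx [1, 0] ≠ Wx xx [0, 1] := ne_of_lanes C'.hφ (wfn_T (by decide) (by norm_num) n3_a)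
    (wfn_T (by decide) (by norm_num) n3_b) (by norm_num)
  apply h6
  rw [Wx_cons, Wx_cons, Wx_cons, Wx_cons, Wx_nil, h5]
  simp

include C' in
theorem char_letters [Finite GF] (H : Subgroup GF) (hH : H = Subgroup.closure (wset (C.x L0) WS))
    (hfix : ∀ g, φ g 0 = 0 ↔ g ∈ H) (a : MulAut GF) (c : ℕ) (hc : c < 10) : ∃ l < 31671, a (xx c) = C'.T l := by
  have hcard : Nat.card GF = 4089470473293004800 := Fi23Ord.main.2.1
  refine C'.char_of_cent (p := 13) (by norm_num) (by rw [hcard]; norm_num) (by rw [hcard]; norm_num) (y_order C')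
    (l0 := 0) (by norm_num) ?_ (T0_ne C') ?_ a c hc
  · exact T_comm_y C' (by norm_num) ((fix_y C' (i := 0) (by norm_num)).2 (Or.inl rfl))
  · intro t h1 h2 h3
    exact hcent C' H hH hfix h1 h2 h3

end

/-! ### the bound -/

theorem fin_GF : Finite GF := Nat.finite_of_card_ne_zero (by
  have h : Nat.card GF = 4089470473293004800 := Fi23Ord.main.2.1
  rw [h]; norm_num)

theorem fin_Aut : Finite (MulAut GF) := by
  have := fin_GF
  exact Finite.of_injective (fun a : MulAut GF => (a : GF → GF)) DFunLike.coe_injective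

theorem card_aut_le : Nat.card (MulAut GF) ≤ 4090635564595937280 := by
  obtain ⟨φ, H, C', -, hH, hfix, -⟩ := exists_ctx
  have hfG := fin_GF
  have hfA := fin_Aut
  have hD := fun (a : MulAut GF) c (hc : c < 10) => char_letters C' H hH hfix a c hc
  have s0 := stage_of C' hD [] (by decide) (by norm_num) [] (by decide) stage0
  have s1 := stage_of C' hD [0] (by decide) (by norm_num) [(0, [], true)] (by decide) stage1
  have s2 := stage_of C' hD [2, 0] (by decide) (by norm_num) [(2, [], false), (0, [], false)] (by decide) stage2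
  have s3 := stage_of C' hD [1, 2, 0] (by decide) (by norm_num) [(2, [], true), (1, [], true), (0, [], true)]
    (by decide) stage3
  have s4 := stage_of C' hD [4, 1, 2, 0] (by decide) (by norm_num)
    [(2, [], true), (1, [], true), (0, [], true), (4, [], false)] (by decide) stage4
  have s5 := stage_of C' hD [5, 4, 1, 2, 0] (by decide) (by norm_num)
    [(5, [], true), (4, [], true), (2, [], true), (1, [], true), (0, [], true)] (by decide) stage5
  have s6 := stage_of C' hD [9, 5, 4, 1, 2, 0] (by decide) (by norm_num)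
    [(4, [], true), (2, [], true), (1, [], true), (0, [], true), (9, [], false), (5, [], false)] (by decide) stage6
  have s7 := stage_of C' hD [6, 9, 5, 4, 1, 2, 0] (by decide) (by norm_num)
    [(9, [], true), (6, [], true), (5, [], true), (4, [], true), (2, [], true), (0, [], true), (1, [], true)]
    (by decide) stage7
  have s8 := stage_of C' hD [7, 6, 9, 5, 4, 1, 2, 0] (by decide) (by norm_num)
    [(9, [], true), (6, [], true), (5, [], true), (1, [], true), (0, [], true), (7, [], false), (4, [], false),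
      (2, [], false)] (by decide) stage8
  have s9 := stage_of C' hD [3, 7, 6, 9, 5, 4, 1, 2, 0] (by decide) (by norm_num)
    [(9, [], true), (6, [], true), (5, [], true), (4, [], true), (3, [], true), (2, [], true), (1, [], true),
      (0, [], true)] (by decide) stage9
  have e0 : Nat.card (FixA (([] : List ℕ).map xx)) = Nat.card (MulAut GF) := card_FixA_nil
  have e9 : Nat.card (FixA ([8, 3, 7, 6, 9, 5, 4, 1, 2, 0].map xx)) = 1 :=
    card_FixA_full closure_xx _ (by decide)
  rw [e0] at s0
  rw [e9] at s9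
  omega

theorem card_out : Nat.card (Cfsg.Out GF) = 1 := by
  have hs := Fi23Ord.main.1
  have hcard : Nat.card GF = 4089470473293004800 := Fi23Ord.main.2.1
  have hfA := fin_Aut
  have hfO : Finite (Cfsg.Out GF) := Quotient.finite _
  have h0 : 0 < Nat.card (Cfsg.Out GF) := Nat.card_pos
  have hZ : Subgroup.center GF = ⊥ := by
    obtain ⟨φ, H, C', -⟩ := exists_ctx
    rw [eq_bot_iff]
    intro t ht
    rw [Subgroup.mem_bot]
    exact hcen C' t (fun g => (Subgroup.mem_center_iff.1 ht g).symm)
  have h1 := OutBound.card_out_mul GF hZ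
  have h2 := card_aut_le
  rw [hcard] at h1
  clear hcard hs hZ hfA hfO
  generalize Nat.card (Cfsg.Out GF) = u at *
  generalize Nat.card (MulAut GF) = v at *
  omega

end Cfsg.Agent.Lib.Fi23Out
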