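import Cfsg.Agent.Lib.FiOnly2
/-
In a group of type M(24) the given class is the only class of 3-transpositions (helper42).
-/
set_option autoImplicit false
set_option linter.all false

namespace Cfsg.Agent.Lib.FiMu

open Cfsg Cfsg.Agent.Lib.ThreeRank3 Cfsg.Agent.Lib.ThreeDescent Cfsg.Agent.Lib.ThreeQuot Cfsg.Agent.Lib.FiPar
  Cfsg.Agent.Lib.ThreeSimple Cfsg.Agent.Lib.ThreeTypes Cfsg.Agent.Lib.FiComp

variable {G : Type*} [Group G] {D : Set G}

/-- an involution without fixed members moves every member to a commuting one -/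
theorem comm_of_no_fix (hD : IsThreeTranspositionGroup D) {x : G} (hx : x * x = 1) (hno : ∀ e ∈ D, ¬ Commute x e) :
    ∀ d ∈ D, Commute d (x * d * x⁻¹) := by
  intro d hd
  by_contra hnc
  set d' := x * d * x⁻¹ with hd'
  have hd'D : d' ∈ D := hD.2.1 x d hd
  have hxi : x⁻¹ = x := inv_eq_of_mul_eq_one_right hx
  have hxd' : x * d' * x⁻¹ = d := by
    rw [hd', hxi]
    calc x * (x * d * x) * x = (x * x) * d * (x * x) := by group
      _ = d := by rw [hx]; group
  have hbr : d * d' * d = d' * d * d' := braid hD.1 hd hd'D hnc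
  apply hno (d * d' * d)
  · have := hD.2.1 d d' hd'D
    rwa [inv_self hD.1 hd] at this
  · have h1 : x * (d * d' * d) * x⁻¹ = d' * d * d' := by
      calc x * (d * d' * d) * x⁻¹ = (x * d * x⁻¹) * (x * d' * x⁻¹) * (x * d * x⁻¹) := by group
        _ = d' * d * d' := by rw [hxd']
    rw [← hbr] at h1
    show x * (d * d' * d) = d * d' * d * x
    calc x * (d * d' * d) = (x * (d * d' * d) * x⁻¹) * x := by group
      _ = d * d' * d * x := by rw [h1]

/-- three involutions with `a b a = b a b`, `a' b a' = b a' b`, `a a' = a' a` : `b` commutes with its conjugate under `a a'` -/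
theorem comm_conj_pair {a a' b : G} (ha : a * a = 1) (ha' : a' * a' = 1) (hb : b * b = 1) (hc : Commute a a')
    (h1 : a * b * a = b * a * b) (h2 : a' * b * a' = b * a' * b) : Commute b ((a * a') * b * (a * a')⁻¹) := by
  have hi : (a * a')⁻¹ = a' * a := by
    rw [mul_inv_rev, inv_eq_of_mul_eq_one_right ha, inv_eq_of_mul_eq_one_right ha']
  rw [hi]
  have hq : (a * a') * b * (a' * a) = a * b * a' * b * a := by
    calc (a * a') * b * (a' * a) = a * (a' * b * a') * a := by group
      _ = a * (b * a' * b) * a := by rw [h2]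
      _ = a * b * a' * b * a := by group
  rw [hq]
  show b * (a * b * a' * b * a) = a * b * a' * b * a * b
  have e1 : b * (a * b * a' * b * a) = a * b * (a * a') * b * a := by
    calc b * (a * b * a' * b * a) = (b * a * b) * a' * b * a := by group
      _ = (a * b * a) * a' * b * a := by rw [h1]
      _ = a * b * (a * a') * b * a := by group
  have e2 : a * b * a' * b * a * b = a * b * (a' * a) * b * a := by
    calc a * b * a' * b * a * b = a * b * a' * (b * a * b) := by group
      _ = a * b * a' * (a * b * a) := by rw [h1]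
      _ = a * b * (a' * a) * b * a := by group
  rw [e1, e2, hc.eq]

theorem no_fix_contra (hD : IsThreeTranspositionGroup D) (hR : ¬ RelN 4 D) {x : G} (hx : x * x = 1)
    (hno : ∀ e ∈ D, ¬ Commute x e) {D' : Set G} (hS : IsThreeTranspositionSet D') (hxD' : ∀ g : G, g⁻¹ * x * g ∈ D')
    {a b : G} (ha : a ∈ D) (hb : b ∈ D) (hab : ¬ Commute a b) (hab' : ¬ Commute a (x * b * x⁻¹)) : False := by
  have hall := comm_of_no_fix hD hx hno
  have hxi : x⁻¹ = x := inv_eq_of_mul_eq_one_right hx
  have hxx : ∀ y : G, x * (x * y * x⁻¹) * x⁻¹ = y := by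
    intro y
    rw [hxi]
    calc x * (x * y * x) * x = (x * x) * y * (x * x) := by group
      _ = y := by rw [hx]; group
  set a' := x * a * x⁻¹ with ha'
  set b' := x * b * x⁻¹ with hb'
  have ha'D : a' ∈ D := hD.2.1 x a ha
  have hb'D : b' ∈ D := hD.2.1 x b hb
  have caa' : Commute a a' := hall a ha
  have cbb' : Commute b b' := hall b hb
  have na'b : ¬ Commute a' b := by
    intro h
    apply hab'
    have h1 : Commute (x * a' * x⁻¹) (x * b * x⁻¹) := commute_conj_iff.mpr h
    rwa [hxx] at h1
  have na'b' : ¬ Commute a' b' := fun h => hab (commute_conj_iff.mp h)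
  have haa := sq_one hD.1 ha
  have hbb := sq_one hD.1 hb
  have haa' := sq_one hD.1 ha'D
  have hbb' := sq_one hD.1 hb'D
  have hia := inv_self hD.1 ha
  have hib := inv_self hD.1 hb
  have hia' := inv_self hD.1 ha'D
  have hib' := inv_self hD.1 hb'D
  have br1 : a * b * a = b * a * b := braid hD.1 ha hb hab
  have br2 : a' * b * a' = b * a' * b := braid hD.1 ha'D hb na'b
  have br3 : a * b' * a = b' * a * b' := braid hD.1 ha hb'D hab'
  have br4 : a' * b' * a' = b' * a' * b' := braid hD.1 ha'D hb'D na'b'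
  -- the element `f`
  have hfD : a * b' * a ∈ D := by
    have := hD.2.1 a b' hb'D
    rwa [hia] at this
  have hff' : x * (a * b' * a) * x⁻¹ = a' * b * a' := by
    calc x * (a * b' * a) * x⁻¹ = (x * a * x⁻¹) * (x * b' * x⁻¹) * (x * a * x⁻¹) := by group
      _ = a' * b * a' := by rw [hxx]
  have cff : Commute (a * b' * a) (a' * b * a') := by
    have := hall _ hfD
    rwa [hff'] at this
  -- the four members
  set s := a * a' with hs
  have hsi : s⁻¹ = a' * a := by rw [hs, mul_inv_rev, hia, hia']
  set q := s * b * s⁻¹ with hq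
  set q' := s * b' * s⁻¹ with hq'
  have hqD : q ∈ D := hD.2.1 s b hb
  have hq'D : q' ∈ D := hD.2.1 s b' hb'D
  have c1 : Commute b q := comm_conj_pair haa haa' hbb caa' br1 br2
  have c2 : Commute b' q' := comm_conj_pair haa haa' hbb' caa' br3 br4
  have c3 : Commute q q' := commute_conj_iff.mpr cbb'
  have c4 : Commute b' q := by
    have e1 : q = a * (a' * b * a') * a⁻¹ := by rw [hq, hsi, hs, hia]; group
    have e2 : b' = a * (a * b' * a) * a⁻¹ := by
      rw [hia]
      calc b' = 1 * b' * 1 := by group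
        _ = (a * a) * b' * (a * a) := by rw [haa]
        _ = a * (a * b' * a) * a := by group
    rw [e1]
    have h3 : Commute (a * (a * b' * a) * a⁻¹) (a * (a' * b * a') * a⁻¹) := commute_conj_iff.mpr cff
    rwa [← e2] at h3
  have c5 : Commute b q' := by
    have e1 : q' = a' * (a * b' * a) * a'⁻¹ := by
      rw [hq', hsi, hia']
      calc a * a' * b' * (a' * a) = (a * a') * b' * (a' * a) := by group
        _ = (a' * a) * b' * (a * a') := by rw [caa'.eq]
        _ = a' * (a * b' * a) * a' := by group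
    have e2 : b = a' * (a' * b * a') * a'⁻¹ := by
      rw [hia']
      calc b = 1 * b * 1 := by group
        _ = (a' * a') * b * (a' * a') := by rw [haa']
        _ = a' * (a' * b * a') * a' := by group
    rw [e1]
    have h3 : Commute (a' * (a' * b * a') * a'⁻¹) (a' * (a * b' * a) * a'⁻¹) := commute_conj_iff.mpr cff.symm
    rwa [← e2] at h3
  -- distinctness
  have naa' : a ≠ a' := by
    intro h
    apply hno a ha
    show x * a = a * x
    calc x * a = (x * a * x⁻¹) * x := by group
      _ = a * x := by rw [← ha', ← h]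
  have nbb' : b ≠ b' := by
    intro h
    apply hno b hb
    show x * b = b * x
    calc x * b = (x * b * x⁻¹) * x := by group
      _ = b * x := by rw [← hb', ← h]
  have nff' : a * b' * a ≠ a' * b * a' := by
    intro h
    apply hno _ hfD
    show x * (a * b' * a) = (a * b' * a) * x
    calc x * (a * b' * a) = (x * (a * b' * a) * x⁻¹) * x := by group
      _ = (a * b' * a) * x := by rw [hff', ← h]
  have key : ∀ u : G, u * u = 1 → a * u * a = u * a * u → a' * u * a' = u * a' * u → u ≠ s * u * s⁻¹ := by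
    intro u hu h1 h2 h
    apply naa'
    have h3 : u * (a * a') = (a * a') * u := by
      calc u * (a * a') = (s * u * s⁻¹) * s := by rw [← h]
        _ = (a * a') * u := by rw [hs]; group
    -- `a' = (u a u) ...`
    have h4 : a * u * a * a' = a * a * a' * u := by
      calc a * u * a * a' = a * (u * (a * a')) := by group
        _ = a * ((a * a') * u) := by rw [h3]
        _ = a * a * a' * u := by group
    rw [haa, one_mul, h1] at h4
    -- h4 : u * a * u * a' = a' * u
    have h5 : u * a * u * a' * u = a' := by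
      rw [h4, mul_assoc, hu, mul_one]
    have h6 : u * a * (a' * u * a') = a' := by
      calc u * a * (a' * u * a') = u * a * (u * a' * u) := by rw [h2]
        _ = u * a * u * a' * u := by group
        _ = a' := h5
    have h7 : (u * (a * a')) * (u * a') = a' := by
      calc (u * (a * a')) * (u * a') = u * a * (a' * u * a') := by group
        _ = a' := h6
    rw [h3] at h7
    have h8 : a * a' * a' = a' := by
      calc a * a' * a' = (a * a') * (u * u) * a' := by rw [hu, mul_one]
        _ = (a * a') * u * (u * a') := by group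
        _ = a' := h7
    calc a = a * (a' * a') := by rw [haa', mul_one]
      _ = a * a' * a' := by group
      _ = a' := h8
  have n1 : b ≠ q := key b hbb br1 br2
  have n2 : b' ≠ q' := key b' hbb' br3 br4
  have n3 : q ≠ q' := fun h => nbb' (mul_left_cancel (mul_right_cancel h))
  have n4 : b' ≠ q := by
    intro h
    apply nff'
    have e1 : q = a * (a' * b * a') * a := by rw [hq, hsi, hs]; group
    calc a * b' * a = a * (a * (a' * b * a') * a) * a := by rw [h, e1]
      _ = (a * a) * (a' * b * a') * (a * a) := by group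
      _ = a' * b * a' := by rw [haa]; group
  have n5 : b ≠ q' := by
    intro h
    apply nff'
    have e1 : q' = a' * (a * b' * a) * a' := by
      rw [hq', hsi]
      calc a * a' * b' * (a' * a) = (a * a') * b' * (a' * a) := by group
        _ = (a' * a) * b' * (a * a') := by rw [caa'.eq]
        _ = a' * (a * b' * a) * a' := by group
    symm
    calc a' * b * a' = a' * (a' * (a * b' * a) * a') * a' := by rw [← e1, ← h]
      _ = (a' * a') * (a * b' * a) * (a' * a') := by group
      _ = a * b' * a := by rw [haa']; group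
  -- the word
  set w := b' * a' * a * b with hw
  have hw2 : w * w = b' * q * q' * b := by
    have hss : s * s = 1 := by
      calc s * s = a * (a' * a) * a' := by rw [hs]; group
        _ = a * (a * a') * a' := by rw [caa'.eq]
        _ = (a * a) * (a' * a') := by group
        _ = 1 := by rw [haa, haa', one_mul]
    have hsi2 : s⁻¹ = s := inv_eq_of_mul_eq_one_right hss
    have hws : w = b' * s * b := by rw [hw, hs, caa'.eq]; group
    have hqs : b' * q * q' * b = b' * (s * (b * b') * s) * b := by
      rw [hq, hq', hsi2]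
      calc b' * (s * b * s) * (s * b' * s) * b = b' * (s * b * (s * s) * b' * s) * b := by group
        _ = b' * (s * (b * b') * s) * b := by rw [hss]; group
    rw [hqs, hws]
    calc b' * s * b * (b' * s * b) = b' * (s * (b * b') * s) * b := by group
      _ = b' * (s * (b * b') * s) * b := rfl
  have hwx : x * ((a * b)⁻¹ * x * (a * b)) = w := by
    have e1 : x * ((a * b)⁻¹ * x * (a * b)) = (x * (b⁻¹ * a⁻¹) * x⁻¹) * (x * x) * (a * b) := by group
    rw [e1, hx, hib, hia, hw]
    have e2 : x * (b * a) * x⁻¹ = b' * a' := by rw [hb', ha']; group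
    rw [e2]; group
  have hxm : x ∈ D' := by
    have := hxD' 1
    simpa using this
  have hcase := hS.2 x hxm _ (hxD' (a * b))
  rw [hwx] at hcase
  have hT : Tup D 4 [b', q, q', b] := by
    refine ⟨?_, rfl, ?_, ?_⟩
    · simp only [List.nodup_cons, List.mem_cons, List.not_mem_nil, or_false, not_or, List.nodup_nil, not_false_eq_true, and_true]
      exact ⟨⟨n4, n2, nbb'.symm⟩, ⟨n3, n1.symm⟩, n5.symm⟩
    · intro y hy
      simp only [List.mem_cons, List.not_mem_nil, or_false] at hy
      rcases hy with rfl | rfl | rfl | rfl <;> assumption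
    · intro y hy z hz
      simp only [List.mem_cons, List.not_mem_nil, or_false] at hy hz
      rcases hy with rfl | rfl | rfl | rfl <;> rcases hz with rfl | rfl | rfl | rfl <;>
        first | exact Commute.refl _ | assumption | (apply Commute.symm; assumption)
  have hp : [b', q, q', b].prod = w * w := by
    rw [hw2]; simp [mul_assoc]
  have hww : w * w = 1 := by
    rcases hcase with h | h
    · rw [← pow_two]; exact h
    · have h4 := hT.sq hD.1
      rw [hp] at h4
      -- w^4 = 1, w^3 = 1
      have h5 : w = 1 := by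
        have h6 : w ^ 4 = 1 := by rw [← h4, pow_succ, pow_succ, pow_two]; group
        calc w = w ^ 4 * (w ^ 3)⁻¹ := by group
          _ = 1 := by rw [h6, h]; group
      rw [h5, one_mul]
  exact hR ⟨[b', q, q', b], rfl, hT.1, hT.2.2.1, hT.2.2.2, by rw [hp, hww]⟩

/-- a member that commutes with none of two given members -/
theorem exists_both [Finite G] {k l l2 m1 m2 μ : ℕ} (L : Lev D k l l2 m1 m2 μ) (hn : 2 * k + 2 < D.ncard) {b b' : G}
    (hb : b ∈ D) (hb' : b' ∈ D) : ∃ a ∈ D, ¬ Commute a b ∧ ¬ Commute a b' := by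
  by_contra hcon
  push Not at hcon
  have h4 : D ⊆ insert b (Dd D b) ∪ insert b' (Dd D b') := by
    intro x hx
    by_cases h1 : Commute x b
    · left
      by_cases h2 : x = b
      · exact Or.inl h2
      · exact Or.inr ⟨hx, h2, h1.symm⟩
    · right
      have h3 := hcon x hx h1
      by_cases h2 : x = b'
      · exact Or.inl h2
      · exact Or.inr ⟨hx, h2, h3.symm⟩
  have h5 := (Set.ncard_le_ncard h4 (Set.toFinite _)).trans (Set.ncard_union_le _ _)
  have h6 := Set.ncard_insert_le b (Dd D b)
  have h7 := Set.ncard_insert_le b' (Dd D b')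
  rw [L.base.up.u1 b hb] at h6
  rw [L.base.up.u1 b' hb'] at h7
  omega

/-- a configuration with one more commuting member -/
theorem exists_conf24 [Finite G] (hP : PSU62Simple) (hD : IsThreeTranspositionGroup D) (hprim : IsPrimitiveUnderConj D)
    (h : IsOfTypeM24 G D) :
    ∃ a ∈ D, ∃ b ∈ D, ∃ c ∈ D, ∃ d ∈ D, ∃ e ∈ D, ∃ f ∈ D, a ≠ b ∧ Commute a b ∧ ¬ Commute a c ∧ ¬ Commute b c ∧
      a ∈ Dd D d ∩ Dd D e ∧ b ∈ Dd D d ∩ Dd D e ∧ c ∈ Dd D d ∩ Dd D e ∧ d ∈ Dd D e ∧
      a ∈ Dd D f ∧ b ∈ Dd D f ∧ c ∈ Dd D f ∧ d ∈ Dd D f ∧ e ∈ Dd D f := by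
  have L := (full24 hP hD hprim h).1
  have hr := prim24 hP hD hprim h
  obtain ⟨f, hf, _⟩ := L.base.nnc
  have L1 := (full23 hP (hr f hf).1 (hr f hf).2.1 (hr f hf).2.2).1
  obtain ⟨_, ⟨⟨a, ha1⟩, ha, rfl⟩, _, ⟨⟨b, hb1⟩, hb, rfl⟩, _, ⟨⟨c, hc1⟩, hc, rfl⟩, _, ⟨⟨d, hd1⟩, hd, rfl⟩, _, ⟨⟨e, he1⟩, he, rfl⟩,
    hab, cab, nac, nbc, q1, q2, q3, q4⟩ := exists_conf L1 (by norm_num) (by norm_num)
  have cm : ∀ {u v : G} (hu : u ∈ Dd D f) (hv : v ∈ Dd D f), Commute (br D f u hu) (br D f v hv) → Commute u v :=
    fun hu hv => (br_comm hD.1 hu hv).mp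
  have cm' : ∀ {u v : G} (hu : u ∈ Dd D f) (hv : v ∈ Dd D f), Commute u v → Commute (br D f u hu) (br D f v hv) :=
    fun hu hv => (br_comm hD.1 hu hv).mpr
  have down : ∀ {u v : G} (hu : u ∈ Dd D f) (hv : v ∈ Dd D f), br D f u hu ∈ Dd (QD D f) (br D f v hv) → u ∈ Dd D v := by
    intro u v hu hv h1
    refine ⟨hu.1, ?_, cm hv hu h1.2.2⟩
    intro h2
    subst h2
    exact h1.2.1 rfl
  refine ⟨a, ha.1, b, hb.1, c, hc.1, d, hd.1, e, he.1, f, hf, ?_, cm ha hb cab, fun h1 => nac (cm' ha hc h1),
    fun h1 => nbc (cm' hb hc h1), ⟨down ha hd q1.1, down ha he q1.2⟩, ⟨down hb hd q2.1, down hb he q2.2⟩,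
    ⟨down hc hd q3.1, down hc he q3.2⟩, down hd he q4, ha, hb, hc, hd, he⟩
  rintro rfl
  exact hab rfl

theorem only_class24 [Finite G] (hP : PSU62Simple) (hD : IsThreeTranspositionGroup D) (hprim : IsPrimitiveUnderConj D)
    (h : IsOfTypeM24 G D) {D' : Set G} (hD' : IsThreeTranspositionClass D') : D' = D := by
  obtain ⟨hS, ⟨d', hd', hcl⟩, _⟩ := hD'
  obtain ⟨L, hpar, _⟩ := full24 hP hD hprim h
  obtain ⟨_, t2, t3, t4, _⟩ := tt24 hP hD hprim h
  have hconj : ∀ y, IsConj d' y → y ∈ D' := by
    intro y hy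
    rw [hcl]; exact hy
  have hord := hS.1 d' hd'
  rw [orderOf_eq_prime_iff, pow_two] at hord
  -- `d'` commutes with a member
  have hex : ∃ e ∈ D, Commute d' e := by
    by_contra hcon
    push Not at hcon
    obtain ⟨b, hb, _⟩ := L.base.nnc
    obtain ⟨a, ha, h1, h2⟩ := exists_both L (by rw [hpar.card]; norm_num) hb (hD.2.1 d' b hb)
    refine no_fix_contra hD (nr24 hP hD hprim h 4 (by norm_num) (by norm_num)) hord.1 hcon hS ?_ ha hb h1 h2
    intro g
    apply hconj
    rw [isConj_iff]
    exact ⟨g⁻¹, by group⟩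
  obtain ⟨e0, he0, hc0⟩ := hex
  obtain ⟨m, h1, h2, h3⟩ := invP24' hP hD hprim h he0 d' hord.1 hord.2 hc0
  obtain ⟨a, ha, b, hb, c, hc, d, hd, e, he, f, hf, hab, cab, nac, nbc, q1, q2, q3, q4, r1, r2, r3, r4, r5⟩ :=
    exists_conf24 hP hD hprim h
  have main := not_three hD L.VT ha hb hc hd hab cab nac nbc q1.1.2.2 q2.1.2.2 q3.1.2.2
  have hee := sq_one hD.1 he
  have e1 : a * b * (c * d) = a * b * e * (c * d * e) := by
    calc a * b * (c * d) = a * b * (e * e) * (c * d) := by rw [hee, mul_one]
      _ = a * b * e * ((e * c) * d) := by group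
      _ = a * b * e * (c * (e * d)) := by rw [(q3.2.2.2).eq]; group
      _ = a * b * e * (c * d * e) := by rw [(q4.2.2).eq]; group
  interval_cases m
  · obtain ⟨l, hl, hp⟩ := h3
    obtain ⟨x, rfl⟩ : ∃ x, l = [x] := by
      match l, hl.2.1 with
      | [x], _ => exact ⟨x, rfl⟩
    rw [List.prod_singleton] at hp
    have hx := hl.2.2.1 x (by simp)
    rw [hp] at hx
    rw [hcl]
    ext y
    constructor
    · intro hy
      obtain ⟨g, rfl⟩ := isConj_iff.mp hy
      exact hD.2.1 g d' hx
    · intro hy
      obtain ⟨g, hg⟩ := L.base.prim.1 d' hx y hy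
      exact isConj_iff.mpr ⟨g, hg⟩
  · exfalso
    apply main
    apply hS.2
    · apply hconj
      apply PP_conj t2 h3
      exact ⟨[a, b], tup_two hb ⟨ha, hab, cab.symm⟩, by simp⟩
    · apply hconj
      apply PP_conj t2 h3
      exact ⟨[c, d], tup_two hd q3.1, by simp⟩
  · exfalso
    apply main
    rw [e1]
    apply hS.2
    · apply hconj
      apply PP_conj t3 h3
      exact ⟨[a, b, e], tup_three he q2.2 ⟨q1.2, ha, hab, cab.symm⟩, by simp [mul_assoc]⟩
    · apply hconj
      apply PP_conj t3 h3
      exact ⟨[c, d, e], tup_three he q4 ⟨q3.2, q3.1⟩, by simp [mul_assoc]⟩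
  · exfalso
    apply main
    have hff := sq_one hD.1 hf
    have e2 : a * b * (c * d) = a * b * e * f * (c * d * e * f) := by
      rw [e1]
      have c1 : Commute f (c * d * e) := ((r3.2.2).mul_right (r4.2.2)).mul_right r5.2.2
      calc a * b * e * (c * d * e) = a * b * e * (f * f) * (c * d * e) := by rw [hff, mul_one]
        _ = a * b * e * f * (f * (c * d * e)) := by group
        _ = a * b * e * f * (c * d * e * f) := by rw [c1.eq]
    rw [e2]
    have T1 : Tup D 3 [a, b, e] := tup_three he q2.2 ⟨q1.2, ha, hab, cab.symm⟩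
    have T2 : Tup D 3 [c, d, e] := tup_three he q4 ⟨q3.2, q3.1⟩
    have mk4 : ∀ {u v w z : G}, Tup D 3 [u, v, w] → u ∈ Dd D z → v ∈ Dd D z → w ∈ Dd D z → z ∈ D → PP D 4 (u * v * w * z) := by
      intro u v w z T hu hv hw hz
      have hall : ∀ y ∈ [u, v, w], y ∈ Dd D z := by
        intro y hy
        simp only [List.mem_cons, List.not_mem_nil, or_false] at hy
        rcases hy with rfl | rfl | rfl <;> assumption
      refine ⟨z :: [u, v, w], Tup.cons hz T hall, ?_⟩
      have c1 : Commute z (u * v * w) := ((hu.2.2).mul_right (hv.2.2)).mul_right hw.2.2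
      rw [List.prod_cons]
      have : [u, v, w].prod = u * v * w := by simp [mul_assoc]
      rw [this, c1.eq]
    apply hS.2
    · apply hconj
      apply PP_conj t4 h3
      exact mk4 T1 r1 r2 r5 hf
    · apply hconj
      apply PP_conj t4 h3
      exact mk4 T2 r3 r4 r5 hf

end Cfsg.Agent.Lib.FiMu
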