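import Cfsg.Agent.Lib.Fi24WB

set_option autoImplicit false
set_option linter.all false
set_option maxRecDepth 100000
set_option Elab.async false

namespace Cfsg.Agent.Lib.Fi24WP3
open Cfsg.Spor Cfsg.Agent.Lib.BenesPerm Cfsg.Agent.Lib.BenesAct Cfsg.Agent.Lib.BenesWord
open Cfsg.Agent.Lib.BenesPlane Cfsg.Agent.Lib.CosetClosure Cfsg.Agent.Lib.CosetFacts
open Cfsg.Agent.Lib.CosetMain Cfsg.Agent.Lib.CoxBridge Cfsg.Agent.Lib.CosetGroup Cfsg.Agent.Lib.CosetInst Cfsg.Agent.Lib.CosetInj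
open Cfsg.Agent.Lib.BenesPack Cfsg.Agent.Lib.CosetPack Cfsg.Agent.Lib.CosetChain Cfsg.Agent.Lib.CosetWide Cfsg.Agent.Lib.CosetWide2
open Cfsg.Agent.Lib.Fi24Rel Cfsg.Agent.Lib.Fi24WN0 Cfsg.Agent.Lib.Fi24WN1 Cfsg.Agent.Lib.Fi24WN2 Cfsg.Agent.Lib.Fi24WN3 Cfsg.Agent.Lib.Fi24WN4 Cfsg.Agent.Lib.Fi24WN5 Cfsg.Agent.Lib.Fi24WN6 Cfsg.Agent.Lib.Fi24WN7 Cfsg.Agent.Lib.Fi24WR0 Cfsg.Agent.Lib.Fi24WR1 Cfsg.Agent.Lib.Fi24WR2 Cfsg.Agent.Lib.Fi24WD Cfsg.Agent.Lib.Fi24WB

theorem pl14_1 : plK nets 19 14 eqs1 = true := by decide +kernel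
theorem pl14_2 : plK nets 19 14 eqs2 = true := by decide +kernel
theorem pl14_3 : plK nets 19 14 eqs3 = true := by decide +kernel
theorem pl15_0 : plK nets 19 15 eqs0 = true := by decide +kernel
theorem pl15_1 : plK nets 19 15 eqs1 = true := by decide +kernel
theorem pl15_2 : plK nets 19 15 eqs2 = true := by decide +kernel
theorem pl15_3 : plK nets 19 15 eqs3 = true := by decide +kernel
theorem pl16_0 : plK nets 19 16 eqs0 = true := by decide +kernel
theorem pl16_1 : plK nets 19 16 eqs1 = true := by decide +kernel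
theorem pl16_2 : plK nets 19 16 eqs2 = true := by decide +kernel
theorem pl16_3 : plK nets 19 16 eqs3 = true := by decide +kernel
theorem pl17_0 : plK nets 19 17 eqs0 = true := by decide +kernel
theorem pl17_1 : plK nets 19 17 eqs1 = true := by decide +kernel
theorem pl17_2 : plK nets 19 17 eqs2 = true := by decide +kernel
theorem pl17_3 : plK nets 19 17 eqs3 = true := by decide +kernel
theorem pl18_0 : plK nets 19 18 eqs0 = true := by decide +kernel
theorem pl18_1 : plK nets 19 18 eqs1 = true := by decide +kernel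
theorem pl18_2 : plK nets 19 18 eqs2 = true := by decide +kernel
theorem pl18_3 : plK nets 19 18 eqs3 = true := by decide +kernel

end Cfsg.Agent.Lib.Fi24WP3
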