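import Cfsg.Agent.Lib.Fi24Rel
import Cfsg.Agent.Lib.CosetWide2
import Cfsg.Agent.Lib.Fi24WN0
import Cfsg.Agent.Lib.Fi24WN1
import Cfsg.Agent.Lib.Fi24WN2
import Cfsg.Agent.Lib.Fi24WN3
import Cfsg.Agent.Lib.Fi24WN4
import Cfsg.Agent.Lib.Fi24WN5
import Cfsg.Agent.Lib.Fi24WN6
import Cfsg.Agent.Lib.Fi24WN7
import Cfsg.Agent.Lib.Fi24WR0
import Cfsg.Agent.Lib.Fi24WR1
import Cfsg.Agent.Lib.Fi24WR2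
import Cfsg.Agent.Lib.Fi24WD

set_option autoImplicit false
set_option linter.all false
set_option maxRecDepth 100000

namespace Cfsg.Agent.Lib.Fi24WB
open Cfsg.Spor Cfsg.Agent.Lib.BenesPerm Cfsg.Agent.Lib.BenesAct Cfsg.Agent.Lib.BenesWord
open Cfsg.Agent.Lib.BenesPlane Cfsg.Agent.Lib.CosetClosure Cfsg.Agent.Lib.CosetFacts
open Cfsg.Agent.Lib.CosetMain Cfsg.Agent.Lib.CoxBridge Cfsg.Agent.Lib.CosetGroup Cfsg.Agent.Lib.CosetInst Cfsg.Agent.Lib.CosetInj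
open Cfsg.Agent.Lib.BenesPack Cfsg.Agent.Lib.CosetPack Cfsg.Agent.Lib.CosetChain Cfsg.Agent.Lib.CosetWide Cfsg.Agent.Lib.CosetWide2
open Cfsg.Agent.Lib.Fi24Rel Cfsg.Agent.Lib.Fi24WN0 Cfsg.Agent.Lib.Fi24WN1 Cfsg.Agent.Lib.Fi24WN2 Cfsg.Agent.Lib.Fi24WN3 Cfsg.Agent.Lib.Fi24WN4 Cfsg.Agent.Lib.Fi24WN5 Cfsg.Agent.Lib.Fi24WN6 Cfsg.Agent.Lib.Fi24WN7 Cfsg.Agent.Lib.Fi24WR0 Cfsg.Agent.Lib.Fi24WR1 Cfsg.Agent.Lib.Fi24WR2 Cfsg.Agent.Lib.Fi24WD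

/-- the networks -/
noncomputable def nets : List Net := [n0, n1, n2, n3, n4, n5, n6, n7, n8, n9, n10, n11, n12, n13, n14, n15]

/-- the ranks -/
noncomputable def R : List (List Nat) := (List.cons r0 (List.cons r1 (List.cons r2 (List.cons r3 (List.cons r4 (List.cons r5 (List.cons r6 (List.cons r7 (List.cons r8 (List.cons r9 (List.cons r10 (List.cons r11 (List.cons r12 (List.cons r13 (List.cons r14 (List.cons r15 List.nil))))))))))))))))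

/-- inverse letters -/
noncomputable def ivx : ℕ → ℕ := ivOf [0, 1, 2, 3, 4, 5, 6, 7, 8, 9, 10, 11, 13, 12, 15, 14]

/-- words of the further letters -/
def xw : List Wd := [(Wd.mul (Wd.mul (Wd.mul (Wd.mul (Wd.mul (Wd.mul (Wd.g 0) (Wd.g 1)) (Wd.g 2)) (Wd.g 3)) (Wd.g 4)) (Wd.g 5)) (Wd.g 7)),
  (Wd.inv (Wd.mul (Wd.mul (Wd.mul (Wd.mul (Wd.mul (Wd.mul (Wd.g 0) (Wd.g 1)) (Wd.g 2)) (Wd.g 3)) (Wd.g 4)) (Wd.g 5)) (Wd.g 7))),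
  (Wd.mul (Wd.mul (Wd.mul (Wd.mul (Wd.mul (Wd.mul (Wd.mul (Wd.mul (Wd.mul (Wd.mul (Wd.mul (Wd.mul (Wd.mul (Wd.g 3) (Wd.g 2)) (Wd.g 1)) (Wd.g 0)) (Wd.g 10)) (Wd.g 11)) (Wd.g 3)) (Wd.g 4)) (Wd.g 5)) (Wd.g 6)) (Wd.g 9)) (Wd.g 3)) (Wd.g 7)) (Wd.g 8)),
  (Wd.inv (Wd.mul (Wd.mul (Wd.mul (Wd.mul (Wd.mul (Wd.mul (Wd.mul (Wd.mul (Wd.mul (Wd.mul (Wd.mul (Wd.mul (Wd.mul (Wd.g 3) (Wd.g 2)) (Wd.g 1)) (Wd.g 0)) (Wd.g 10)) (Wd.g 11)) (Wd.g 3)) (Wd.g 4)) (Wd.g 5)) (Wd.g 6)) (Wd.g 9)) (Wd.g 3)) (Wd.g 7)) (Wd.g 8)))]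

/-- relators -/
def wrels : List Wd := [(Wd.pow (Wd.mul (Wd.g 0) (Wd.g 1)) 3),
  (Wd.pow (Wd.mul (Wd.g 0) (Wd.g 2)) 2),
  (Wd.pow (Wd.mul (Wd.g 1) (Wd.g 2)) 3),
  (Wd.pow (Wd.mul (Wd.g 0) (Wd.g 3)) 2),
  (Wd.pow (Wd.mul (Wd.g 1) (Wd.g 3)) 2),
  (Wd.pow (Wd.mul (Wd.g 2) (Wd.g 3)) 3),
  (Wd.pow (Wd.mul (Wd.g 0) (Wd.g 4)) 2),
  (Wd.pow (Wd.mul (Wd.g 1) (Wd.g 4)) 2),
  (Wd.pow (Wd.mul (Wd.g 2) (Wd.g 4)) 2),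
  (Wd.pow (Wd.mul (Wd.g 3) (Wd.g 4)) 3),
  (Wd.pow (Wd.mul (Wd.g 0) (Wd.g 5)) 2),
  (Wd.pow (Wd.mul (Wd.g 1) (Wd.g 5)) 2),
  (Wd.pow (Wd.mul (Wd.g 2) (Wd.g 5)) 2),
  (Wd.pow (Wd.mul (Wd.g 3) (Wd.g 5)) 2),
  (Wd.pow (Wd.mul (Wd.g 4) (Wd.g 5)) 3),
  (Wd.pow (Wd.mul (Wd.g 0) (Wd.g 6)) 2),
  (Wd.pow (Wd.mul (Wd.g 1) (Wd.g 6)) 2),
  (Wd.pow (Wd.mul (Wd.g 2) (Wd.g 6)) 2),
  (Wd.pow (Wd.mul (Wd.g 3) (Wd.g 6)) 2),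
  (Wd.pow (Wd.mul (Wd.g 4) (Wd.g 6)) 2),
  (Wd.pow (Wd.mul (Wd.g 5) (Wd.g 6)) 3),
  (Wd.pow (Wd.mul (Wd.g 0) (Wd.g 7)) 2),
  (Wd.pow (Wd.mul (Wd.g 1) (Wd.g 7)) 2),
  (Wd.pow (Wd.mul (Wd.g 2) (Wd.g 7)) 2),
  (Wd.pow (Wd.mul (Wd.g 3) (Wd.g 7)) 3),
  (Wd.pow (Wd.mul (Wd.g 4) (Wd.g 7)) 2),
  (Wd.pow (Wd.mul (Wd.g 5) (Wd.g 7)) 2),
  (Wd.pow (Wd.mul (Wd.g 6) (Wd.g 7)) 2),
  (Wd.pow (Wd.mul (Wd.g 0) (Wd.g 8)) 2),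
  (Wd.pow (Wd.mul (Wd.g 1) (Wd.g 8)) 2),
  (Wd.pow (Wd.mul (Wd.g 2) (Wd.g 8)) 2),
  (Wd.pow (Wd.mul (Wd.g 3) (Wd.g 8)) 2),
  (Wd.pow (Wd.mul (Wd.g 4) (Wd.g 8)) 2),
  (Wd.pow (Wd.mul (Wd.g 5) (Wd.g 8)) 2),
  (Wd.pow (Wd.mul (Wd.g 6) (Wd.g 8)) 2),
  (Wd.pow (Wd.mul (Wd.g 7) (Wd.g 8)) 3),
  (Wd.pow (Wd.mul (Wd.g 0) (Wd.g 9)) 2),
  (Wd.pow (Wd.mul (Wd.g 1) (Wd.g 9)) 2),
  (Wd.pow (Wd.mul (Wd.g 2) (Wd.g 9)) 2),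
  (Wd.pow (Wd.mul (Wd.g 3) (Wd.g 9)) 2),
  (Wd.pow (Wd.mul (Wd.g 4) (Wd.g 9)) 2),
  (Wd.pow (Wd.mul (Wd.g 5) (Wd.g 9)) 2),
  (Wd.pow (Wd.mul (Wd.g 6) (Wd.g 9)) 3),
  (Wd.pow (Wd.mul (Wd.g 7) (Wd.g 9)) 2),
  (Wd.pow (Wd.mul (Wd.g 8) (Wd.g 9)) 2),
  (Wd.pow (Wd.mul (Wd.g 0) (Wd.g 10)) 3),
  (Wd.pow (Wd.mul (Wd.g 1) (Wd.g 10)) 2),
  (Wd.pow (Wd.mul (Wd.g 2) (Wd.g 10)) 2),
  (Wd.pow (Wd.mul (Wd.g 3) (Wd.g 10)) 2),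
  (Wd.pow (Wd.mul (Wd.g 4) (Wd.g 10)) 2),
  (Wd.pow (Wd.mul (Wd.g 5) (Wd.g 10)) 2),
  (Wd.pow (Wd.mul (Wd.g 6) (Wd.g 10)) 2),
  (Wd.pow (Wd.mul (Wd.g 7) (Wd.g 10)) 2),
  (Wd.pow (Wd.mul (Wd.g 8) (Wd.g 10)) 2),
  (Wd.pow (Wd.mul (Wd.g 9) (Wd.g 10)) 2),
  (Wd.pow (Wd.mul (Wd.g 0) (Wd.g 11)) 2),
  (Wd.pow (Wd.mul (Wd.g 1) (Wd.g 11)) 2),
  (Wd.pow (Wd.mul (Wd.g 2) (Wd.g 11)) 2),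
  (Wd.pow (Wd.mul (Wd.g 3) (Wd.g 11)) 2),
  (Wd.pow (Wd.mul (Wd.g 4) (Wd.g 11)) 2),
  (Wd.pow (Wd.mul (Wd.g 5) (Wd.g 11)) 2),
  (Wd.pow (Wd.mul (Wd.g 6) (Wd.g 11)) 2),
  (Wd.pow (Wd.mul (Wd.g 7) (Wd.g 11)) 2),
  (Wd.pow (Wd.mul (Wd.g 8) (Wd.g 11)) 2),
  (Wd.pow (Wd.mul (Wd.g 9) (Wd.g 11)) 2),
  (Wd.pow (Wd.mul (Wd.g 10) (Wd.g 11)) 3),
  (Wd.mul (Wd.g 11) (Wd.inv (Wd.pow (Wd.g 12) 9))),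
  (Wd.pow (Wd.g 14) 17),
  (Wd.mul (Wd.inv (Wd.g 12)) (Wd.mul (Wd.mul (Wd.mul (Wd.mul (Wd.mul (Wd.mul (Wd.g 0) (Wd.g 1)) (Wd.g 2)) (Wd.g 3)) (Wd.g 4)) (Wd.g 5)) (Wd.g 7))),
  (Wd.mul (Wd.inv (Wd.g 14)) (Wd.mul (Wd.mul (Wd.mul (Wd.mul (Wd.mul (Wd.mul (Wd.mul (Wd.mul (Wd.mul (Wd.mul (Wd.mul (Wd.mul (Wd.mul (Wd.g 3) (Wd.g 2)) (Wd.g 1)) (Wd.g 0)) (Wd.g 10)) (Wd.g 11)) (Wd.g 3)) (Wd.g 4)) (Wd.g 5)) (Wd.g 6)) (Wd.g 9)) (Wd.g 3)) (Wd.g 7)) (Wd.g 8)))]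

/-- relations of the lanes -/
def eqs0 : List (List ℕ × List ℕ) := [([0, 0], []), ([1, 1], []), ([2, 2], []), ([3, 3], []), ([4, 4], []), ([5, 5], []), ([6, 6], []), ([7, 7], []), ([8, 8], []), ([9, 9], []), ([10, 10], []), ([11, 11], []), ([13, 12], []), ([12, 13], []), ([15, 14], []), ([14, 15], []), ([0, 1, 0], [1, 0, 1]), ([0, 2], [2, 0]), ([1, 2, 1], [2, 1, 2]), ([0, 3], [3, 0]), ([1, 3], [3, 1]), ([2, 3, 2], [3, 2, 3]), ([0, 4], [4, 0]), ([1, 4], [4, 1]), ([2, 4], [4, 2]), ([3, 4, 3], [4, 3, 4]), ([0, 5], [5, 0]), ([1, 5], [5, 1]), ([2, 5], [5, 2]), ([3, 5], [5, 3]), ([4, 5, 4], [5, 4, 5]), ([0, 6], [6, 0])]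

/-- relations of the lanes -/
def eqs1 : List (List ℕ × List ℕ) := [([1, 6], [6, 1]), ([2, 6], [6, 2]), ([3, 6], [6, 3]), ([4, 6], [6, 4]), ([5, 6, 5], [6, 5, 6]), ([0, 7], [7, 0]), ([1, 7], [7, 1]), ([2, 7], [7, 2]), ([3, 7, 3], [7, 3, 7]), ([4, 7], [7, 4]), ([5, 7], [7, 5]), ([6, 7], [7, 6]), ([0, 8], [8, 0]), ([1, 8], [8, 1]), ([2, 8], [8, 2]), ([3, 8], [8, 3]), ([4, 8], [8, 4]), ([5, 8], [8, 5]), ([6, 8], [8, 6]), ([7, 8, 7], [8, 7, 8]), ([0, 9], [9, 0]), ([1, 9], [9, 1]), ([2, 9], [9, 2]), ([3, 9], [9, 3]), ([4, 9], [9, 4])]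

/-- relations of the lanes -/
def eqs2 : List (List ℕ × List ℕ) := [([5, 9], [9, 5]), ([6, 9, 6], [9, 6, 9]), ([7, 9], [9, 7]), ([8, 9], [9, 8]), ([0, 10, 0], [10, 0, 10]), ([1, 10], [10, 1]), ([2, 10], [10, 2]), ([3, 10], [10, 3]), ([4, 10], [10, 4]), ([5, 10], [10, 5]), ([6, 10], [10, 6]), ([7, 10], [10, 7]), ([8, 10], [10, 8]), ([9, 10], [10, 9]), ([0, 11], [11, 0]), ([1, 11], [11, 1]), ([2, 11], [11, 2]), ([3, 11], [11, 3]), ([4, 11], [11, 4]), ([5, 11], [11, 5]), ([6, 11], [11, 6]), ([7, 11], [11, 7]), ([8, 11], [11, 8]), ([9, 11], [11, 9]), ([10, 11, 10], [11, 10, 11])]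

/-- relations of the lanes -/
def eqs3 : List (List ℕ × List ℕ) := [([11, 13, 13, 13, 13], [12, 12, 12, 12, 12]), ([14, 14, 14, 14, 14, 14, 14, 14, 14], [15, 15, 15, 15, 15, 15, 15, 15]), ([13, 0, 1, 2], [7, 5, 4, 3]), ([15, 3, 2, 1, 0, 10, 11, 3], [8, 7, 3, 9, 6, 5, 4])]

/-- all relations of the lanes -/
def eqs : List (List ℕ × List ℕ) := eqs0 ++ (eqs1 ++ (eqs2 ++ (eqs3)))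

/-- words for the subgroup -/
def WS : List Wd := [(Wd.g 0), (Wd.g 1), (Wd.g 2), (Wd.g 3), (Wd.g 4), (Wd.g 5), (Wd.g 6), (Wd.g 7), (Wd.g 8), (Wd.g 9), (Wd.g 11)]

/-- all scripts -/
noncomputable def scr : Scr := (appS s0 s1)

/-- trivial relators -/
def wtriv : List Wd := [Wd.mul (Wd.g 0) (Wd.g 0), Wd.mul (Wd.g 1) (Wd.g 1), Wd.mul (Wd.g 2) (Wd.g 2), Wd.mul (Wd.g 3) (Wd.g 3), Wd.mul (Wd.g 4) (Wd.g 4), Wd.mul (Wd.g 5) (Wd.g 5), Wd.mul (Wd.g 6) (Wd.g 6), Wd.mul (Wd.g 7) (Wd.g 7), Wd.mul (Wd.g 8) (Wd.g 8), Wd.mul (Wd.g 9) (Wd.g 9), Wd.mul (Wd.g 10) (Wd.g 10), Wd.mul (Wd.g 11) (Wd.g 11)]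

/-- patterns -/
def pats : List Wd := wtriv ++ (rels ++ rels.map Wd.inv)

/-- patterns as lists of letters -/
noncomputable def patL : List (List ℕ) := pats.map (fun W => (W.flat ivx).reverse)

theorem c_wok : wOK 12 xw rels wrels = true := by decide +kernel
theorem c_wback : wBack 12 xw rels wrels = true := by decide +kernel
theorem c_inv_sub : ∀ q ∈ invPairs ivx 16, q ∈ eqs := by decide +kernel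
theorem c_rel_sub : ∀ q ∈ wrels.map (halfW ivx), q ∈ eqs := by decide +kernel

end Cfsg.Agent.Lib.Fi24WB
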