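import Cfsg.Agent.Lib.FiPairCent73
import Cfsg.Agent.Lib.Fi23OutE
import Cfsg.Agent.Lib.Fi24Only42
/-
Automorphisms of a group of type M(24) (helper73).
-/
set_option autoImplicit false
set_option linter.all false

namespace Cfsg.Agent.Lib.FiGlue

open Cfsg Cfsg.Agent.Lib.ThreeRank3 Cfsg.Agent.Lib.ThreeDescent Cfsg.Agent.Lib.ThreeQuot Cfsg.Agent.Lib.FiPar
  Cfsg.Agent.Lib.FiMu Cfsg.Agent.Lib.FiLoc Cfsg.Agent.Lib.FiComp Cfsg.Agent.Lib.ThreeTypes Cfsg.Agent.Lib.FiPair
  Cfsg.Agent.Lib.FiUniq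
open Cfsg.Spor
open scoped commutatorElement

theorem fi23_aut (e : MulAut Spor.Fi23) : ∃ y, ∀ x, e x = y * x * y⁻¹ := by
  have h1 : Nat.card (Cfsg.Out Spor.Fi23) = 1 := Fi23Out.card_out
  have h2 : Subsingleton (Cfsg.Out Spor.Fi23) := (Nat.card_eq_one_iff_unique.mp h1).1
  have h3 : (QuotientGroup.mk e : MulAut Spor.Fi23 ⧸ Inn Spor.Fi23) = QuotientGroup.mk 1 := @Subsingleton.elim _ h2 _ _
  have h4 : e ∈ Inn Spor.Fi23 := by
    have := QuotientGroup.eq.mp h3.symm
    rwa [inv_one, one_mul] at this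
  obtain ⟨y, hy⟩ := h4
  refine ⟨y, fun x => ?_⟩
  rw [← hy]; rfl

theorem fi23_fin : Finite Spor.Fi23 := by
  apply Nat.finite_of_card_ne_zero
  have : Nat.card Spor.Fi23 = 4089470473293004800 := Fi23Ord.main.2.1
  rw [this]; norm_num

theorem perf_of {H : Type*} [Group H] [Finite H] [hs : IsSimpleGroup H] (hn : ¬ (Nat.card H).Prime) : commutator H = ⊤ := by
  rcases hs.eq_bot_or_eq_top_of_normal (commutator H) inferInstance with h2 | h2
  · exfalso
    have hc : ∀ x y : H, x * y = y * x := by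
      intro x y
      have h3 : ⁅x, y⁆ ∈ commutator H := Subgroup.commutator_mem_commutator (Subgroup.mem_top _) (Subgroup.mem_top _)
      rw [h2, Subgroup.mem_bot, commutatorElement_eq_one_iff_mul_comm] at h3
      exact h3
    letI : CommGroup H := { (inferInstance : Group H) with mul_comm := hc }
    exact hn IsSimpleGroup.prime_card
  · exact h2

theorem fi23_perf : commutator Spor.Fi23 = ⊤ := by
  haveI h1 : IsSimpleGroup Spor.Fi23 := Fi23Ord.main.1
  haveI : Finite Spor.Fi23 := fi23_fin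
  apply perf_of
  have : Nat.card Spor.Fi23 = 4089470473293004800 := Fi23Ord.main.2.1
  rw [this]
  norm_num

theorem prod_aut (e : (ℤˣ × Spor.Fi23) ≃* (ℤˣ × Spor.Fi23)) (he : e (-1, 1) = (-1, 1)) :
    ∃ y : Spor.Fi23, ∀ x, e x = (1, y) * x * (1, y)⁻¹ := by
  have h1 : ∀ x : Spor.Fi23, (e (1, x)).1 = 1 := by
    let f : Spor.Fi23 →* ℤˣ := (MonoidHom.fst _ _).comp (e.toMonoidHom.comp (MonoidHom.inr _ _))
    intro x
    have hx : x ∈ commutator Spor.Fi23 := by rw [fi23_perf]; trivial
    have := Abelianization.commutator_subset_ker f hx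
    exact this
  let g : Spor.Fi23 →* Spor.Fi23 := (MonoidHom.snd _ _).comp (e.toMonoidHom.comp (MonoidHom.inr _ _))
  have hg : ∀ x, e (1, x) = (1, g x) := fun x => Prod.ext (h1 x) rfl
  have hinj : Function.Injective g := by
    intro x y hxy
    have : e (1, x) = e (1, y) := by rw [hg, hg, hxy]
    exact congrArg Prod.snd (e.injective this)
  haveI := fi23_fin
  obtain ⟨y, hy⟩ := fi23_aut (MulEquiv.ofBijective g (Finite.injective_iff_bijective.mp hinj))
  refine ⟨y, ?_⟩
  rintro ⟨u, x⟩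
  have e1 : e (1, x) = (1, y) * (1, x) * (1, y)⁻¹ := by
    rw [hg]
    have h2 := hy x
    have h3 : g x = y * x * y⁻¹ := h2
    rw [h3]
    apply Prod.ext <;> simp
  rcases Int.units_eq_one_or u with rfl | rfl
  · exact e1
  · have e2 : ((-1, x) : ℤˣ × Spor.Fi23) = (-1, 1) * (1, x) := by apply Prod.ext <;> simp
    rw [e2, map_mul, he, e1]
    apply Prod.ext <;> simp

variable {G : Type*} [Group G] [Finite G] {D : Set G}

/-- automorphisms of a group of type M(24) preserving the class are inner -/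
theorem inner24 (hP : PSU62Simple) (hD : IsThreeTranspositionGroup D) (hprim : IsPrimitiveUnderConj D)
    (h : IsOfTypeM24 G D) (e : MulAut G) (he : ∀ x ∈ D, e x ∈ D) : ∃ g : G, e = MulAut.conj g := by
  obtain ⟨L, hpar, _, _, hcm, _⟩ := full24 hP hD hprim h
  obtain ⟨l, hl, k, hk, hlk⟩ := L.base.nnc
  have S := side24 hP hD hprim h hl hk hlk
  have heD : e '' D = D := by
    apply Set.eq_of_subset_of_ncard_le
    · rintro _ ⟨x, hx, rfl⟩; exact he x hx
    · rw [Set.ncard_image_of_injective _ e.injective]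
    · exact Set.toFinite _
  have he' : ∀ x ∈ D, e.symm x ∈ D := by
    intro x hx
    rw [← heD] at hx
    obtain ⟨y, hy, rfl⟩ := hx
    rw [e.symm_apply_apply]; exact hy
  -- step 1: fix `l`
  suffices H : ∀ e : MulAut G, (∀ x ∈ D, e x ∈ D) → (∀ x ∈ D, e.symm x ∈ D) → e l = l → ∃ g : G, e = MulAut.conj g by
    obtain ⟨g, hg⟩ := hprim.1 l hl _ (he l hl)
    obtain ⟨g', hg'⟩ := H ((MulAut.conj g)⁻¹ * e) (by
      intro x hx
      show (MulAut.conj g)⁻¹ (e x) ∈ D
      rw [← map_inv]
      exact hD.2.1 _ _ (he x hx)) (by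
      intro x hx
      show e.symm ((MulAut.conj g)⁻¹.symm x) ∈ D
      have : (MulAut.conj g)⁻¹.symm x = MulAut.conj g x := rfl
      rw [this]
      exact he' _ (hD.2.1 _ _ hx)) (by
      show (MulAut.conj g)⁻¹ (e l) = l
      rw [← hg, ← map_inv, MulAut.conj_apply]; group)
    refine ⟨g * g', ?_⟩
    rw [map_mul, ← hg']; group
  clear he he' heD e
  intro e he he' hel
  -- `e` acts on `HH D l`
  have hCl : HH D l = Subgroup.centralizer {l} := HH_eq_cent L hcm hl (rp24 hP hD hprim h l hl)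
  have hm : ∀ x, x ∈ HH D l ↔ Commute x l := by
    intro x; rw [hCl, Subgroup.mem_centralizer_singleton_iff]; rfl
  have hmap : ∀ x, x ∈ HH D l ↔ e x ∈ HH D l := by
    intro x
    rw [hm, hm]
    constructor
    · intro hx
      have := hx.map e.toMonoidHom
      have h2 : Commute (e x) (e l) := this
      rwa [hel] at h2
    · intro hx
      have h2 : Commute (e x) (e l) := by rwa [hel]
      have h3 := h2.map e.symm.toMonoidHom
      have h4 : Commute (e.symm (e x)) (e.symm (e l)) := h3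
      rwa [e.symm_apply_apply, e.symm_apply_apply] at h4
  obtain ⟨Ψ, a1, a2⟩ := prod24 hP hD hprim h hl
  -- step 2: identity on `HH D l`
  suffices H : ∀ e : MulAut G, (∀ x ∈ D, e x ∈ D) → (∀ x ∈ HH D l, e x = x) → ∃ g : G, e = MulAut.conj g by
    let eH : HH D l ≃* HH D l :=
      { toFun := fun x => ⟨e x, (hmap x).mp x.2⟩
        invFun := fun x => ⟨e.symm x, (hmap _).mpr (by rw [e.apply_symm_apply]; exact x.2)⟩
        left_inv := fun x => Subtype.ext (e.symm_apply_apply _)
        right_inv := fun x => Subtype.ext (e.apply_symm_apply _)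
        map_mul' := fun x y => Subtype.ext (map_mul e _ _) }
    obtain ⟨y, hy⟩ := prod_aut ((Ψ.trans eH).trans Ψ.symm) (by
      show Ψ.symm (eH (Ψ (-1, 1))) = (-1, 1)
      rw [MulEquiv.symm_apply_eq]
      apply Subtype.ext
      show e (Ψ (-1, 1) : HH D l) = _
      rw [a1, hel])
    set c := Ψ (1, y) with hc
    have hcx : ∀ x : HH D l, e x = c * x * (c : G)⁻¹ := by
      intro x
      have h1 := hy (Ψ.symm x)
      have h2 : Ψ.symm (eH (Ψ (Ψ.symm x))) = (1, y) * Ψ.symm x * (1, y)⁻¹ := h1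
      rw [Ψ.apply_symm_apply, MulEquiv.symm_apply_eq, map_mul, map_mul, map_inv, Ψ.apply_symm_apply, ← hc] at h2
      exact congrArg Subtype.val h2
    obtain ⟨g', hg'⟩ := H ((MulAut.conj (c : G))⁻¹ * e) (by
      intro x hx
      show (MulAut.conj (c : G))⁻¹ (e x) ∈ D
      rw [← map_inv]
      exact hD.2.1 _ _ (he x hx)) (by
      intro x hx
      show (MulAut.conj (c : G))⁻¹ (e x) = x
      have h1 := hcx ⟨x, hx⟩
      have h2 : e x = c * x * (c : G)⁻¹ := h1
      rw [h2, ← map_inv, MulAut.conj_apply]; group)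
    refine ⟨c * g', ?_⟩
    rw [map_mul, ← hg']; group
  clear he he' hel hmap e
  intro e he hid
  have ll := sq_one hD.1 hl
  have hel : e l = l := hid l S.self
  -- step 3: `e k`
  have hek : e k = k ∨ e k = l * k * l⁻¹ := by
    rcases L.cent_E hl hk hlk (he k hk) (by
      rintro u ⟨hu1, hu2⟩
      have h1 := hid u (mem_HH hu1)
      have h2 : Commute (e k) (e u) := hu2.2.2.map e.toMonoidHom
      rwa [h1] at h2) with h1 | h1 | h1
    · exfalso
      apply hlk
      have : e k = e l := by rw [h1, hel]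
      rw [e.injective this]
    · exact Or.inl h1
    · exact Or.inr h1
  -- step 4
  have key : ∀ e : MulAut G, (∀ x ∈ HH D l, e x = x) → e k = k → e = 1 := by
    intro e h1 h2
    apply MulEquiv.ext
    intro q
    show e q = q
    have hq : q ∈ Subgroup.closure D := by rw [hD.2.2]; trivial
    refine Subgroup.closure_induction (p := fun q _ => e q = q) ?_ ?_ ?_ ?_ hq
    · intro x hx
      by_cases hlx : Commute l x
      · exact h1 x ((hm x).mpr hlx.symm)
      · obtain ⟨g, hg, rfl⟩ := S.tr x hx hlx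
        rw [map_mul, map_mul, map_inv, h1 g hg, h2]
    · exact map_one e
    · intro x y _ _ hx hy; rw [map_mul, hx, hy]
    · intro x _ hx; rw [map_inv, hx]
  rcases hek with h1 | h1
  · exact ⟨1, by rw [map_one]; exact key e hid h1⟩
  · refine ⟨l, ?_⟩
    have := key ((MulAut.conj l)⁻¹ * e) (by
      intro x hx
      show (MulAut.conj l)⁻¹ (e x) = x
      rw [hid x hx, ← map_inv, MulAut.conj_apply]
      have hc : Commute x l := (hm x).mp hx
      have : l⁻¹ * x * l⁻¹⁻¹ = l⁻¹ * (x * l) := by group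
      rw [this, hc.eq]; group) (by
      show (MulAut.conj l)⁻¹ (e k) = k
      rw [h1, ← map_inv, MulAut.conj_apply]; group)
    exact (inv_mul_eq_one.mp this).symm

end Cfsg.Agent.Lib.FiGlue
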