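import Cfsg.Agent.Lib.FiAut73
/-
Automorphisms of a group of type M(24), II: recovering the class from the products of two commuting members (helper73).
-/
set_option autoImplicit false
set_option linter.all false

namespace Cfsg.Agent.Lib.FiGlue

open Cfsg Cfsg.Agent.Lib.ThreeRank3 Cfsg.Agent.Lib.ThreeDescent Cfsg.Agent.Lib.ThreeQuot Cfsg.Agent.Lib.FiPar
  Cfsg.Agent.Lib.FiMu Cfsg.Agent.Lib.FiLoc Cfsg.Agent.Lib.FiComp Cfsg.Agent.Lib.ThreeTypes Cfsg.Agent.Lib.FiPair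
  Cfsg.Agent.Lib.FiUniq

variable {G : Type*} [Group G] {D : Set G}

/-- mutually commuting distinct triples -/
def T3 (D : Set G) (p q r : G) : Prop := p ∈ D ∧ q ∈ Dd D p ∧ r ∈ Dd D p ∧ r ∈ Dd D q

theorem Dd_symm {a b : G} (ha : a ∈ D) (h : b ∈ Dd D a) : a ∈ Dd D b := ⟨ha, h.2.1.symm, h.2.2.symm⟩

theorem T3.swap23 {p q r : G} (h : T3 D p q r) : T3 D p r q := ⟨h.1, h.2.2.1, h.2.1, Dd_symm h.2.1.1 h.2.2.2⟩

theorem T3.swap12 {p q r : G} (h : T3 D p q r) : T3 D q p r := ⟨h.2.1.1, Dd_symm h.1 h.2.1, h.2.2.2, h.2.2.1⟩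

/-- commuting pairs are determined by their products -/
def PU (D : Set G) : Prop := ∀ p q p' q' : G, p ∈ D → q ∈ Dd D p → p' ∈ D → q' ∈ Dd D p' → p * q = p' * q' →
  (p = p' ∧ q = q') ∨ (p = q' ∧ q = p')

/-- a relation behaving like an isomorphism on products of two commuting members -/
structure Star (D : Set G) (R : G → G → Prop) : Prop where
  pu : PU D
  sq : ∀ x ∈ D, x * x = 1
  c1 : ∀ a ∈ D, ∀ x ∈ Dd D a, ∀ y ∈ Dd D a, ¬ Commute x y → ∃ z, z ∈ Dd D a ∧ z ∈ Dd D x ∧ z ∈ Dd D y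
  c2 : ∀ a ∈ D, ∀ b ∈ Dd D a, ∀ x ∈ Dd D a ∩ Dd D b, ∀ y ∈ Dd D a ∩ Dd D b, ¬ Commute x y →
    ∃ z, z ∈ Dd D a ∩ Dd D b ∧ z ∈ Dd D x ∧ z ∈ Dd D y
  ne1 : ∀ a ∈ D, ∃ b, b ∈ Dd D a
  ne2 : ∀ a ∈ D, ∀ b ∈ Dd D a, ∃ c, c ∈ Dd D a ∩ Dd D b
  mul : ∀ x y x' y', R x y → R x' y' → R (x * x') (y * y')
  fn : ∀ x y y', R x y → R x y' → y = y'
  inj : ∀ x x' y, R x y → R x' y → x = x'
  tot : ∀ a ∈ D, ∀ b ∈ Dd D a, ∃ p ∈ D, ∃ q ∈ Dd D p, R (a * b) (p * q)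
  loc : ∀ a b c p q, T3 D a b c → p ∈ D → q ∈ Dd D p → R (a * b) (p * q) → ∃ r ∈ Dd D p ∩ Dd D q, R (a * c) (p * r) ∨ R (a * c) (q * r)

/-- the vertex `a` of the triangle `a b c` is mapped to `p` -/
def VV (D : Set G) (R : G → G → Prop) (a b c p : G) : Prop :=
  ∃ q r, T3 D p q r ∧ R (a * b) (p * q) ∧ R (a * c) (p * r) ∧ R (b * c) (q * r)

variable {R : G → G → Prop}

theorem mul_mul_cancel' {a b c : G} (h : Commute a b) (ha : a * a = 1) : (a * b) * (a * c) = b * c := by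
  calc (a * b) * (a * c) = (a * b) * a * c := by group
    _ = (b * a) * a * c := by rw [h.eq]
    _ = b * (a * a) * c := by group
    _ = b * c := by rw [ha, mul_one]

theorem VV.swap23 {a b c p : G} (hc : Commute b c) (h : VV D R a b c p) : VV D R a c b p := by
  obtain ⟨q, r, t, r1, r2, r3⟩ := h
  refine ⟨r, q, t.swap23, r2, r1, ?_⟩
  rw [← hc.eq, ← t.2.2.2.2.2.eq]; exact r3

section
variable (S : Star D R)
include S

theorem Star.ex {a b c : G} (h : T3 D a b c) : ∃ p, VV D R a b c p := by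
  obtain ⟨p, hp, q, hq, hr⟩ := S.tot a h.1 b h.2.1
  obtain ⟨r, hr1, hr2 | hr2⟩ := S.loc a b c p q h hp hq hr
  · refine ⟨p, q, r, ⟨hp, hq, hr1.1, hr1.2⟩, hr, hr2, ?_⟩
    have := S.mul _ _ _ _ hr hr2
    rwa [mul_mul_cancel' h.2.1.2.2 (S.sq a h.1), mul_mul_cancel' hq.2.2 (S.sq p hp)] at this
  · have hr' : R (a * b) (q * p) := by rw [← hq.2.2.eq]; exact hr
    refine ⟨q, p, r, ⟨hq.1, Dd_symm hp hq, hr1.2, hr1.1⟩, hr', hr2, ?_⟩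
    have := S.mul _ _ _ _ hr' hr2
    rwa [mul_mul_cancel' h.2.1.2.2 (S.sq a h.1), mul_mul_cancel' hq.2.2.symm (S.sq q hq.1)] at this

theorem Star.uniq {a b c p p' : G} (h : VV D R a b c p) (h' : VV D R a b c p') : p = p' := by
  obtain ⟨q, r, t, r1, r2, r3⟩ := h
  obtain ⟨q', r', t', r1', r2', r3'⟩ := h'
  rcases S.pu _ _ _ _ t.1 t.2.1 t'.1 t'.2.1 (S.fn _ _ _ r1 r1') with ⟨h1, h2⟩ | ⟨h1, h2⟩
  · exact h1
  · rcases S.pu _ _ _ _ t.1 t.2.2.1 t'.1 t'.2.2.1 (S.fn _ _ _ r2 r2') with ⟨h3, h4⟩ | ⟨h3, h4⟩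
    · exact h3
    · exfalso
      exact t.2.2.2.2.1 (h4.trans h2.symm)

theorem Star.chg {a b c d p p' : G} (h3 : T3 D a b c) (hda : d ∈ Dd D a) (hdb : d ∈ Dd D b) (hdc : d ∈ Dd D c)
    (hV : VV D R a b c p) (hV' : VV D R a b d p') : p = p' := by
  obtain ⟨q, r, t, r1, r2, r3⟩ := hV
  obtain ⟨q', s, t', r1', r2', r3'⟩ := hV'
  rcases S.pu _ _ _ _ t.1 t.2.1 t'.1 t'.2.1 (S.fn _ _ _ r1 r1') with ⟨h1, _⟩ | ⟨h1, h2⟩
  · exact h1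
  exfalso
  subst h1 h2
  obtain ⟨x, y, z, tx, rx1, rx2, rx3⟩ := S.ex (a := a) (b := c) (c := d) ⟨h3.1, h3.2.2.1, hda, hdc⟩
  rcases S.pu _ _ _ _ tx.1 tx.2.1 t.1 t.2.2.1 (S.fn _ _ _ rx1 r2) with ⟨h4, h5⟩ | ⟨h4, h5⟩ <;>
    rcases S.pu _ _ _ _ tx.1 tx.2.2.1 t'.1 t'.2.2.1 (S.fn _ _ _ rx2 r2') with ⟨h6, h7⟩ | ⟨h6, h7⟩
  · exact t.2.1.2.1 (h6.symm.trans h4)
  · exact t'.2.2.2.2.1 (h6.symm.trans h4)
  · exact t.2.2.2.2.1 (h4.symm.trans h6)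
  · have e1 : r = s := h4.symm.trans h6
    rw [← e1] at r2'
    have e2 := S.inj _ _ _ r2' r3
    rcases S.pu _ _ _ _ h3.1 hda h3.2.1.1 h3.2.2.2 e2 with ⟨h8, h9⟩ | ⟨h8, h9⟩
    · exact h3.2.1.2.1 h8.symm
    · exact h3.2.2.1.2.1 h8.symm

theorem Star.indep_c {a b c c' p p' : G} (h3 : T3 D a b c) (h3' : T3 D a b c') (hV : VV D R a b c p)
    (hV' : VV D R a b c' p') : p = p' := by
  by_cases hcc : c' = c
  · subst hcc; exact S.uniq hV hV'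
  by_cases hcm : Commute c c'
  · exact S.chg h3 h3'.2.2.1 h3'.2.2.2 ⟨h3'.2.2.1.1, hcc, hcm⟩ hV hV'
  · obtain ⟨z, hz, hz1, hz2⟩ := S.c2 a h3.1 b h3.2.1 c ⟨h3.2.2.1, h3.2.2.2⟩ c' ⟨h3'.2.2.1, h3'.2.2.2⟩ hcm
    obtain ⟨x, hx⟩ := S.ex (a := a) (b := b) (c := z) ⟨h3.1, h3.2.1, hz.1, hz.2⟩
    rw [S.chg h3 hz.1 hz.2 hz1 hV hx, S.chg h3' hz.1 hz.2 hz2 hV' hx]

theorem Star.indep_b1 {a b b' c c' p p' : G} (h3 : T3 D a b c) (h3' : T3 D a b' c') (hbb : b' ∈ Dd D b)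
    (hV : VV D R a b c p) (hV' : VV D R a b' c' p') : p = p' := by
  have t : T3 D a b b' := ⟨h3.1, h3.2.1, h3'.2.1, hbb⟩
  obtain ⟨x, hx⟩ := S.ex t
  rw [S.indep_c h3 t hV hx, S.indep_c h3' t.swap23 hV' (hx.swap23 hbb.2.2)]

theorem Star.indep_b {a b b' c c' p p' : G} (h3 : T3 D a b c) (h3' : T3 D a b' c')
    (hV : VV D R a b c p) (hV' : VV D R a b' c' p') : p = p' := by
  by_cases hbb : b' = b
  · subst hbb; exact S.indep_c h3 h3' hV hV'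
  by_cases hcm : Commute b b'
  · exact S.indep_b1 h3 h3' ⟨h3'.2.1.1, hbb, hcm⟩ hV hV'
  · obtain ⟨z, hz, hz1, hz2⟩ := S.c1 a h3.1 b h3.2.1 b' h3'.2.1 hcm
    have t : T3 D a z b := ⟨h3.1, hz, h3.2.1, Dd_symm h3.2.1.1 hz1⟩
    obtain ⟨x, hx⟩ := S.ex t
    rw [S.indep_b1 h3 t hz1 hV hx, S.indep_b1 h3' t hz2 hV' hx]

theorem Star.exists_f : ∃ f : G → G, ∀ a ∈ D, f a ∈ D ∧ ∀ b ∈ Dd D a, f b ∈ Dd D (f a) ∧ R (a * b) (f a * f b) := by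
  have h1 : ∀ a : G, ∃ p : G, a ∈ D → ∀ b c, T3 D a b c → VV D R a b c p := by
    intro a
    by_cases ha : a ∈ D
    · obtain ⟨b, hb⟩ := S.ne1 a ha
      obtain ⟨c, hc⟩ := S.ne2 a ha b hb
      have t : T3 D a b c := ⟨ha, hb, hc.1, hc.2⟩
      obtain ⟨p, hp⟩ := S.ex t
      refine ⟨p, fun _ b' c' t' => ?_⟩
      obtain ⟨p', hp'⟩ := S.ex t'
      rw [S.indep_b t t' hp hp']; exact hp'
    · exact ⟨a, fun h => absurd h ha⟩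
  choose f hf using h1
  have h2 : ∀ a ∈ D, ∀ b ∈ Dd D a, f a ∈ D ∧ f b ∈ Dd D (f a) ∧ R (a * b) (f a * f b) := by
    intro a ha b hb
    obtain ⟨c, hc⟩ := S.ne2 a ha b hb
    have t : T3 D a b c := ⟨ha, hb, hc.1, hc.2⟩
    obtain ⟨q, r, t', r1, r2, r3⟩ := hf a ha b c t
    have hb' : VV D R b a c q := by
      refine ⟨f a, r, t'.swap12, ?_, r3, r2⟩
      rw [← hb.2.2.eq, ← t'.2.1.2.2.eq]; exact r1
    have e1 : f b = q := S.uniq (hf b hb.1 a c t.swap12) hb'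
    rw [e1]
    exact ⟨t'.1, t'.2.1, r1⟩
  refine ⟨f, fun a ha => ?_⟩
  obtain ⟨b, hb⟩ := S.ne1 a ha
  exact ⟨(h2 a ha b hb).1, fun b hb => (h2 a ha b hb).2⟩

end

theorem comp_id {R' : G → G → Prop} (hR : ∀ x y, R' x y ↔ R y x) (S : Star D R) (S' : Star D R') {f f' : G → G}
    (hf : ∀ a ∈ D, f a ∈ D ∧ ∀ b ∈ Dd D a, f b ∈ Dd D (f a) ∧ R (a * b) (f a * f b))
    (hf' : ∀ a ∈ D, f' a ∈ D ∧ ∀ b ∈ Dd D a, f' b ∈ Dd D (f' a) ∧ R' (a * b) (f' a * f' b)) : ∀ a ∈ D, f' (f a) = a := by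
  intro a ha
  have key : ∀ b ∈ Dd D a, f' (f a) = a ∨ f' (f a) = b := by
    intro b hb
    obtain ⟨h1, h2⟩ := hf a ha
    obtain ⟨h3, h4⟩ := h2 b hb
    obtain ⟨h5, h6⟩ := hf' _ h1
    obtain ⟨h7, h8⟩ := h6 _ h3
    have e := S.inj _ _ _ ((hR _ _).mp h8) h4
    rcases S.pu _ _ _ _ h5 h7 ha hb e with ⟨h9, _⟩ | ⟨h9, _⟩
    · exact Or.inl h9
    · exact Or.inr h9
  obtain ⟨b, hb⟩ := S.ne1 a ha
  obtain ⟨c, hc⟩ := S.ne2 a ha b hb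
  rcases key b hb with h1 | h1
  · exact h1
  · rcases key c hc.1 with h2 | h2
    · exact h2
    · exact absurd (h2.symm.trans h1) hc.2.2.1

theorem star_GI {R' : G → G → Prop} (hR : ∀ x y, R' x y ↔ R y x) (S : Star D R) (S' : Star D R') :
    ∃ θ : GI D D, ∀ a b : ↥D, (b : G) ∈ Dd D a → R (a * b) (θ.f a * θ.f b) := by
  obtain ⟨f, hf⟩ := S.exists_f
  obtain ⟨f', hf'⟩ := S'.exists_f
  have e1 := comp_id hR S S' hf hf'
  have e2 := comp_id (fun x y => (hR y x).symm) S' S hf' hf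
  let F : ↥D ≃ ↥D :=
    { toFun := fun a => ⟨f a, (hf a a.2).1⟩
      invFun := fun a => ⟨f' a, (hf' a a.2).1⟩
      left_inv := fun a => Subtype.ext (e1 a a.2)
      right_inv := fun a => Subtype.ext (e2 a a.2) }
  have hc : ∀ x y : ↥D, Commute (x : G) y → Commute (f x) (f y) := by
    intro x y hxy
    by_cases he : (y : G) = x
    · rw [he]
    · exact ((hf x x.2).2 y ⟨y.2, he, hxy⟩).1.2.2
  have hc' : ∀ x y : ↥D, Commute (x : G) y → Commute (f' x) (f' y) := by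
    intro x y hxy
    by_cases he : (y : G) = x
    · rw [he]
    · exact ((hf' x x.2).2 y ⟨y.2, he, hxy⟩).1.2.2
  refine ⟨⟨F, fun x y => ⟨?_, hc x y⟩⟩, ?_⟩
  · intro h
    have := hc' (F x) (F y) h
    have h1 : f' (F x : G) = x := e1 x x.2
    have h2 : f' (F y : G) = y := e1 y y.2
    rwa [h1, h2] at this
  · intro a b hb
    exact ((hf a a.2).2 b hb).2

end Cfsg.Agent.Lib.FiGlue
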