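import Cfsg.Agent.Lib.FiAutB73
import Cfsg.Agent.Lib.FiJoint2
/-
Automorphisms of a group of type M(24), III: classes of involutions (helper73).
-/
set_option autoImplicit false
set_option linter.all false

namespace Cfsg.Agent.Lib.FiGlue

open Cfsg Cfsg.Agent.Lib.ThreeRank3 Cfsg.Agent.Lib.ThreeDescent Cfsg.Agent.Lib.ThreeQuot Cfsg.Agent.Lib.FiPar
  Cfsg.Agent.Lib.FiMu Cfsg.Agent.Lib.FiLoc Cfsg.Agent.Lib.FiComp Cfsg.Agent.Lib.ThreeTypes Cfsg.Agent.Lib.FiPair
  Cfsg.Agent.Lib.FiUniq Cfsg.Agent.Lib.ThreeSimple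
open scoped commutatorElement

/-! ### parity of the number of involutions -/

theorem even_sq_one {H : Type*} [Group H] [Finite H] (he : Even (Nat.card H)) : Even (Nat.card {x : H // x * x = 1}) := by
  classical
  have := Fintype.ofFinite H
  let f : Function.End H := fun x => x⁻¹
  have hf : f ^ 2 ^ 1 = 1 := by
    rw [pow_one, pow_two]
    funext x
    show (x⁻¹)⁻¹ = x
    exact inv_inv x
  have h1 := Equiv.Perm.card_fixedPoints_modEq hf
  have h2 : Fintype.card f.fixedPoints = Nat.card {x : H // x * x = 1} := by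
    rw [← Nat.card_eq_fintype_card]
    apply Nat.card_congr
    refine Equiv.subtypeEquivRight fun x => ?_
    show x⁻¹ = x ↔ x * x = 1
    rw [inv_eq_iff_mul_eq_one]
  rw [h2, ← Nat.card_eq_fintype_card] at h1
  rw [Nat.even_iff] at he ⊢
  unfold Nat.ModEq at h1
  rw [← h1]; exact he

/-- two classes of involutions cannot be fused by an automorphism -/
theorem no_fuse {H : Type*} [Group H] [Finite H] (α : MulAut H) (A B : Set H)
    (hA : ∀ x ∈ A, ∀ y ∈ A, ∃ g, g * x * g⁻¹ = y) (hB : ∀ x ∈ B, ∀ y ∈ B, ∃ g, g * x * g⁻¹ = y)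
    (hAc : ∀ g, ∀ x ∈ A, g * x * g⁻¹ ∈ A) (hBc : ∀ g, ∀ x ∈ B, g * x * g⁻¹ ∈ B)
    (hI : ∀ x, (x * x = 1 ∧ x ≠ 1) ↔ x ∈ A ∨ x ∈ B) : ∀ x ∈ A, α x ∈ A := by
  classical
  intro x0 hx0
  by_contra hcon
  have hIα : ∀ x, (x * x = 1 ∧ x ≠ 1) → (α x * α x = 1 ∧ α x ≠ 1) := by
    rintro x ⟨h1, h2⟩
    refine ⟨by rw [← map_mul, h1, map_one], ?_⟩
    intro h3
    exact h2 (α.injective (h3.trans (map_one α).symm))
  have hb0 : α x0 ∈ B := ((hI _).mp (hIα _ ((hI _).mpr (Or.inl hx0)))).resolve_left hcon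
  have himg : α '' A = B := by
    ext y
    constructor
    · rintro ⟨x, hx, rfl⟩
      obtain ⟨g, rfl⟩ := hA x0 hx0 x hx
      rw [map_mul, map_mul, map_inv]
      exact hBc _ _ hb0
    · intro hy
      obtain ⟨g, rfl⟩ := hB _ hb0 y hy
      refine ⟨α.symm g * x0 * (α.symm g)⁻¹, hAc _ _ hx0, ?_⟩
      rw [map_mul, map_mul, map_inv, α.apply_symm_apply]
  have hdisj : Disjoint A B := by
    rw [Set.disjoint_left]
    intro z hzA hzB
    obtain ⟨g, hg⟩ := hB z hzB _ hb0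
    exact hcon (hg ▸ hAc g z hzA)
  have hne : x0 * x0 = 1 ∧ x0 ≠ 1 := (hI _).mpr (Or.inl hx0)
  have heven : Even (Nat.card H) := by
    have h1 : orderOf x0 = 2 := by
      rw [orderOf_eq_prime_iff, pow_two]; exact hne
    rw [even_iff_two_dvd, ← h1]
    exact orderOf_dvd_natCard x0
  have h2 := even_sq_one heven
  have h3 : {x : H | x * x = 1} = insert 1 (A ∪ B) := by
    ext x
    simp only [Set.mem_setOf_eq, Set.mem_insert_iff, Set.mem_union]
    rw [← hI]
    constructor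
    · intro h
      by_cases hx : x = 1
      · exact Or.inl hx
      · exact Or.inr ⟨h, hx⟩
    · rintro (rfl | h)
      · exact one_mul 1
      · exact h.1
  have h4 : Nat.card {x : H // x * x = 1} = (insert 1 (A ∪ B)).ncard := by
    rw [← h3]; rfl
  have h5 : (1 : H) ∉ A ∪ B := by
    intro h
    exact ((hI 1).mpr h).2 rfl
  rw [h4, Set.ncard_insert_of_notMem h5 (Set.toFinite _), Set.ncard_union_eq hdisj (Set.toFinite _) (Set.toFinite _), ← himg,
    Set.ncard_image_of_injective _ α.injective] at h2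
  rw [Nat.even_iff] at h2
  omega

/-! ### tuples -/

variable {G : Type*} [Group G] {D : Set G}

theorem sign_prod {χ : G →* ℤˣ} (hχ : ∀ d ∈ D, χ d = -1) : ∀ l : List G, (∀ a ∈ l, a ∈ D) → χ l.prod = (-1) ^ l.length := by
  intro l
  induction l with
  | nil => intro _; simp
  | cons a t ih =>
    intro h
    rw [List.prod_cons, map_mul, ih fun b hb => h b (List.mem_cons_of_mem _ hb), hχ a (h a List.mem_cons_self),
      List.length_cons, pow_succ']

theorem PP.conj {m : ℕ} {x : G} (hc : ∀ g : G, ∀ d ∈ D, g * d * g⁻¹ ∈ D) (h : PP D m x) (g : G) : PP D m (g * x * g⁻¹) := by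
  obtain ⟨l, hl, rfl⟩ := h
  refine ⟨_, hl.map_conj hc g, ?_⟩
  exact (map_list_prod (MulAut.conj g).toMonoidHom l).symm

theorem PP.exists_conj {m : ℕ} {x y : G} (hT : TT D m) (hx : PP D m x) (hy : PP D m y) : ∃ g : G, g * x * g⁻¹ = y := by
  obtain ⟨l, hl, rfl⟩ := hx
  obtain ⟨l', hl', rfl⟩ := hy
  obtain ⟨g, hg⟩ := hT l l' hl hl'
  refine ⟨g, ?_⟩
  rw [← hg]
  exact map_list_prod (MulAut.conj g).toMonoidHom l

theorem PP.exists_conj' {χ : G →* ℤˣ} (hχ : ∀ d ∈ D, χ d = -1) {m : ℕ} (hm : m ≠ 0) {x y : G} (hT : TT D m) (hx : PP D m x)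
    (hy : PP D m y) : ∃ g : G, χ g = 1 ∧ g * x * g⁻¹ = y := by
  obtain ⟨g, hg⟩ := PP.exists_conj hT hx hy
  rcases Int.units_eq_one_or (χ g) with h1 | h1
  · exact ⟨g, h1, hg⟩
  · obtain ⟨l, hl, rfl⟩ := hx
    cases l with
    | nil => exact absurd hl.2.1.symm hm
    | cons a t =>
      have ha : a ∈ D := hl.2.2.1 a List.mem_cons_self
      have hc : Commute a (a :: t).prod := by
        apply Cfsg.Agent.Lib.FiMu.commute_list_prod
        intro b hb
        exact hl.2.2.2 a List.mem_cons_self b hb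
      refine ⟨g * a, by rw [map_mul, h1, hχ a ha]; rfl, ?_⟩
      rw [← hg]
      have e1 : g * a * (a :: t).prod * (g * a)⁻¹ = g * (a * (a :: t).prod * a⁻¹) * g⁻¹ := by group
      rw [e1, conj_eq_self hc]

/-- the involutions of the commutator subgroup -/
theorem tot_aux [Finite G] (hP : PSU62Simple) (hD : IsThreeTranspositionGroup D) (hprim : IsPrimitiveUnderConj D)
    (h : IsOfTypeM24 G D) (α : MulAut ↥(commutator G)) {x : ↥(commutator G)} (hx : PP D 2 (x : G)) : PP D 2 (α x : G) := by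
  obtain ⟨χ, hχ⟩ := exists_sign hP hD hprim h
  have hker := ker_sign hP hD hprim h hχ
  obtain ⟨_, t2, _, t4, _⟩ := tt24 hP hD hprim h
  have hsg : ∀ g : G, g ∈ commutator G ↔ χ g = 1 := by intro g; rw [hker]; rfl
  refine no_fuse α {x | PP D 2 (x : G)} {x | PP D 4 (x : G)} ?_ ?_ ?_ ?_ ?_ x hx
  · intro x hx y hy
    obtain ⟨g, g1, g2⟩ := PP.exists_conj' hχ (by norm_num) t2 hx hy
    exact ⟨⟨g, (hsg g).mpr g1⟩, Subtype.ext g2⟩
  · intro x hx y hy
    obtain ⟨g, g1, g2⟩ := PP.exists_conj' hχ (by norm_num) t4 hx hy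
    exact ⟨⟨g, (hsg g).mpr g1⟩, Subtype.ext g2⟩
  · intro g x hx
    exact PP.conj hD.2.1 hx g
  · intro g x hx
    exact PP.conj hD.2.1 hx g
  · intro x
    have hnr := nr24 hP hD hprim h
    have back : ∀ m : ℕ, 1 ≤ m → m ≤ 7 → PP D m (x : G) → (x * x = 1 ∧ x ≠ 1) := by
      rintro m h1 h7 ⟨l, hl, hlx⟩
      refine ⟨?_, ?_⟩
      · apply Subtype.ext
        show (x : G) * x = 1
        rw [← hlx]; exact hl.sq hD.1
      · intro he
        apply hnr m h1 h7
        refine ⟨l, hl.2.1, hl.1, hl.2.2.1, hl.2.2.2, ?_⟩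
        rw [hlx, he]; rfl
    constructor
    · rintro ⟨h1, h2⟩
      obtain ⟨m, h3, h4, h5⟩ := Cfsg.Agent.Lib.FiJoint.invP24 hP hD hprim h (x : G) (congrArg Subtype.val h1) (fun h => h2 (Subtype.ext h))
      have h6 : χ (x : G) = 1 := (hsg _).mp x.2
      obtain ⟨l, hl, hlx⟩ := id h5
      rw [← hlx, sign_prod hχ l hl.2.2.1, hl.2.1] at h6
      have h7 : m = 1 ∨ m = 2 ∨ m = 3 ∨ m = 4 := by omega
      rcases h7 with rfl | rfl | rfl | rfl
      · exact absurd h6 (by decide)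
      · exact Or.inl h5
      · exact absurd h6 (by decide)
      · exact Or.inr h5
    · rintro (h1 | h1)
      · exact back 2 (by norm_num) (by norm_num) h1
      · exact back 4 (by norm_num) (by norm_num) h1

theorem PP_two {x : G} : PP D 2 x ↔ ∃ p ∈ D, ∃ q ∈ Dd D p, x = p * q := by
  constructor
  · rintro ⟨l, ⟨h1, h2, h3, h4⟩, rfl⟩
    match l, h2 with
    | [p, q], _ =>
      have hpq : p ≠ q := by simpa using h1
      exact ⟨p, h3 p (by simp), q, ⟨h3 q (by simp), hpq.symm, h4 p (by simp) q (by simp)⟩, by simp⟩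
  · rintro ⟨p, hp, q, hq, rfl⟩
    refine ⟨[p, q], ⟨?_, rfl, ?_, ?_⟩, by simp⟩
    · simpa using hq.2.1.symm
    · intro a ha
      simp only [List.mem_cons, List.not_mem_nil, or_false] at ha
      rcases ha with rfl | rfl
      exacts [hp, hq.1]
    · intro a ha b hb
      simp only [List.mem_cons, List.not_mem_nil, or_false] at ha hb
      rcases ha with rfl | rfl <;> rcases hb with rfl | rfl
      exacts [Commute.refl _, hq.2.2, hq.2.2.symm, Commute.refl _]

/-- commuting pairs are determined by their product -/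
theorem pu24 [Finite G] (hP : PSU62Simple) (hD : IsThreeTranspositionGroup D) (hprim : IsPrimitiveUnderConj D)
    (h : IsOfTypeM24 G D) : PU D := by
  intro p q p' q' hp hq hp' hq' e
  have hcf := cf_two hD (VTriv_of_prim hD hprim)
  have hR := nr24 hP hD hprim h 4 (by norm_num) (by norm_num)
  have q1 := sq_one hD.1 hp'
  have q2 := sq_one hD.1 hq'.1
  have e12 : q' * p' = p' * q' := hq'.2.2.symm.eq
  have ca := cf2' hcf hp' hq' hp (by rw [e12, ← e]; exact (Commute.refl p).mul_right hq.2.2)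
  have cb := cf2' hcf hp' hq' hq.1 (by rw [e12, ← e]; exact hq.2.2.symm.mul_right (Commute.refl q))
  by_cases a1 : p = p'
  · left
    refine ⟨a1, ?_⟩
    rw [a1] at e; exact mul_left_cancel e
  by_cases a2 : p = q'
  · right
    refine ⟨a2, ?_⟩
    rw [a2, ← e12] at e; exact mul_left_cancel e
  exfalso
  have b1 : q ≠ p' := by
    intro he
    rw [he, ← e12] at e
    exact a2 (mul_right_cancel e)
  have b2 : q ≠ q' := by
    intro he
    rw [he] at e
    exact a1 (mul_right_cancel e)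
  apply hR
  refine ⟨[p, q, p', q'], rfl, ?_, ?_, ?_, ?_⟩
  · simp [Ne.symm hq.2.1, a1, a2, b1, b2, Ne.symm hq'.2.1]
  · intro x hx
    simp only [List.mem_cons, List.not_mem_nil, or_false] at hx
    rcases hx with rfl | rfl | rfl | rfl
    exacts [hp, hq.1, hp', hq'.1]
  · intro x hx y hy
    simp only [List.mem_cons, List.not_mem_nil, or_false] at hx hy
    rcases hx with rfl | rfl | rfl | rfl <;> rcases hy with rfl | rfl | rfl | rfl
    exacts [Commute.refl _, hq.2.2, ca.1, ca.2, hq.2.2.symm, Commute.refl _, cb.1, cb.2, ca.1.symm, cb.1.symm, Commute.refl _,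
      hq'.2.2, ca.2.symm, cb.2.symm, hq'.2.2.symm, Commute.refl _]
  · have : [p, q, p', q'].prod = (p * q) * (p' * q') := by simp [mul_assoc]
    rw [this, e]
    calc p' * q' * (p' * q') = p' * (q' * p') * q' := by group
      _ = p' * (p' * q') * q' := by rw [e12]
      _ = (p' * p') * (q' * q') := by group
      _ = 1 := by rw [q1, q2, one_mul]

/-! ### lifting -/

theorem bar_Dd (hD : IsThreeTranspositionSet D) {a x w : G} (hnc : NoCentral D a) (hx : x ∈ Dd D a) (hw : w ∈ Dd D a) :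
    br D a w hw ∈ Dd (QD D a) (br D a x hx) ↔ w ∈ Dd D x := by
  constructor
  · rintro ⟨_, h2, h3⟩
    refine ⟨hw.1, ?_, (br_comm hD _ _).mp h3⟩
    intro he
    exact h2 ((br_inj hD hnc _ _).mpr he)
  · rintro ⟨_, h2, h3⟩
    refine ⟨br_mem hw, ?_, (br_comm hD _ _).mpr h3⟩
    intro he
    exact h2 ((br_inj hD hnc _ _).mp he)

theorem c1_24 [Finite G] (hP : PSU62Simple) (hD : IsThreeTranspositionGroup D) (hprim : IsPrimitiveUnderConj D)
    (h : IsOfTypeM24 G D) : ∀ a ∈ D, ∀ x ∈ Dd D a, ∀ y ∈ Dd D a, ¬ Commute x y → ∃ z, z ∈ Dd D a ∧ z ∈ Dd D x ∧ z ∈ Dd D y := by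
  intro a ha x hx y hy hxy
  have L := (full24 hP hD hprim h).1
  obtain ⟨k1, k2, k3⟩ := prim24 hP hD hprim h a ha
  have L' := (full23 hP k1 k2 k3).1
  have hnc := L.nc a ha
  obtain ⟨z, hz1, hz2⟩ := E_ne L' (br_mem hx) (br_mem hy) (fun hc => hxy ((br_comm hD.1 _ _).mp hc))
  obtain ⟨w, hw, rfl⟩ := mem_QD.mp hz1.1
  exact ⟨w, hw, (bar_Dd hD.1 hnc hx hw).mp hz1, (bar_Dd hD.1 hnc hy hw).mp hz2⟩

theorem c2_24 [Finite G] (hP : PSU62Simple) (hD : IsThreeTranspositionGroup D) (hprim : IsPrimitiveUnderConj D)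
    (h : IsOfTypeM24 G D) : ∀ a ∈ D, ∀ b ∈ Dd D a, ∀ x ∈ Dd D a ∩ Dd D b, ∀ y ∈ Dd D a ∩ Dd D b, ¬ Commute x y →
    ∃ z, z ∈ Dd D a ∩ Dd D b ∧ z ∈ Dd D x ∧ z ∈ Dd D y := by
  intro a ha b hb x hx y hy hxy
  have L := (full24 hP hD hprim h).1
  obtain ⟨k1, k2, k3⟩ := prim24 hP hD hprim h a ha
  have L' := (full23 hP k1 k2 k3).1
  obtain ⟨m1, m2, m3⟩ := prim23 hP k1 k2 k3 _ (br_mem hb)
  have L'' := (full22 hP m1 m2 m3).1
  have hnc := L.nc a ha
  have hnc' := L'.nc _ (br_mem hb)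
  have hx' := (bar_Dd hD.1 hnc hb hx.1).mpr hx.2
  have hy' := (bar_Dd hD.1 hnc hb hy.1).mpr hy.2
  obtain ⟨z, hz1, hz2⟩ := E_ne L'' (br_mem hx') (br_mem hy') (fun hc => hxy ((br_comm hD.1 _ _).mp ((br_comm k1.1 _ _).mp hc)))
  obtain ⟨w', hw', rfl⟩ := mem_QD.mp hz1.1
  obtain ⟨w, hw, rfl⟩ := mem_QD.mp hw'.1
  have q1 := (bar_Dd k1.1 hnc' hx' hw').mp hz1
  have q2 := (bar_Dd k1.1 hnc' hy' hw').mp hz2
  exact ⟨w, ⟨hw, (bar_Dd hD.1 hnc hb hw).mp hw'⟩, (bar_Dd hD.1 hnc hx.1 hw).mp q1, (bar_Dd hD.1 hnc hy.1 hw).mp q2⟩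

end Cfsg.Agent.Lib.FiGlue
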