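import Cfsg.Agent.Lib.FiAutC73
/-
Automorphisms of a group of type M(24), IV: the outer automorphism group of the commutator subgroup (helper73).
-/
set_option autoImplicit false
set_option linter.all false

namespace Cfsg.Agent.Lib.FiGlue

open Cfsg Cfsg.Agent.Lib.ThreeRank3 Cfsg.Agent.Lib.ThreeDescent Cfsg.Agent.Lib.ThreeQuot Cfsg.Agent.Lib.FiPar
  Cfsg.Agent.Lib.FiMu Cfsg.Agent.Lib.FiLoc Cfsg.Agent.Lib.FiComp Cfsg.Agent.Lib.ThreeTypes Cfsg.Agent.Lib.FiPair
  Cfsg.Agent.Lib.FiUniq Cfsg.Agent.Lib.ThreeSimple Cfsg.Agent.Lib.Components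
open scoped commutatorElement

/-! ### generalities -/

theorem exists_quot_equiv {K X X' : Type*} [Group K] [Group X] [Group X'] (F : K →* X) (F' : K →* X')
    (hF : Function.Surjective F) (hF' : Function.Surjective F') (hk : ∀ k, F k = 1 ↔ F' k = 1) :
    ∃ e : X ≃* X', ∀ k, e (F k) = F' k := by
  have hker : F.ker = F'.ker := by
    ext k; exact hk k
  let e1 := QuotientGroup.quotientKerEquivOfSurjective F hF
  let e2 := QuotientGroup.quotientKerEquivOfSurjective F' hF'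
  let e3 : K ⧸ F.ker ≃* K ⧸ F'.ker := QuotientGroup.quotientMulEquivOfEq hker
  refine ⟨(e1.symm.trans e3).trans e2, fun k => ?_⟩
  have h1 : e1.symm (F k) = QuotientGroup.mk k := by
    rw [MulEquiv.symm_apply_eq]; rfl
  show e2 (e3 (e1.symm (F k))) = F' k
  rw [h1]; rfl

theorem mem_cof {X : Type*} [Group X] {a x : X} : x ∈ conjugatesOf a ↔ IsConj a x := Iff.rfl

theorem class_of {X : Type*} [Group X] {N : Set X} (hN : IsThreeTranspositionGroup N) (hprim : IsPrimitiveUnderConj N) :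
    IsThreeTranspositionClass N := by
  obtain ⟨h1, ⟨a, ha, _⟩, _⟩ := hprim
  refine ⟨hN.1, ⟨a, ha, ?_⟩, hN.2.2⟩
  ext x
  rw [mem_cof, isConj_iff]
  constructor
  · intro hx
    exact h1 a ha x hx
  · rintro ⟨c, rfl⟩
    exact hN.2.1 c a ha

theorem class_map {X X' : Type*} [Group X] [Group X'] {N : Set X} (hN : IsThreeTranspositionClass N) (e : X ≃* X') :
    IsThreeTranspositionClass (e '' N) := by
  obtain ⟨⟨h1, h2⟩, ⟨a, ha, h3⟩, h4⟩ := hN
  refine ⟨⟨?_, ?_⟩, ⟨e a, ⟨a, ha, rfl⟩, ?_⟩, ?_⟩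
  · rintro _ ⟨x, hx, rfl⟩
    rw [MulEquiv.orderOf_eq]; exact h1 x hx
  · rintro _ ⟨x, hx, rfl⟩ _ ⟨y, hy, rfl⟩
    rcases h2 x hx y hy with h | h
    · left; rw [← map_mul, ← map_pow, h, map_one]
    · right; rw [← map_mul, ← map_pow, h, map_one]
  · ext y
    rw [mem_cof, isConj_iff]
    constructor
    · rintro ⟨x, hx, rfl⟩
      rw [h3, mem_cof, isConj_iff] at hx
      obtain ⟨c, rfl⟩ := hx
      exact ⟨e c, by rw [map_mul, map_mul, map_inv]⟩
    · rintro ⟨c, rfl⟩
      refine ⟨e.symm c * a * (e.symm c)⁻¹, ?_, by rw [map_mul, map_mul, map_inv, e.apply_symm_apply]⟩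
      rw [h3, mem_cof, isConj_iff]
      exact ⟨_, rfl⟩
  · have h5 : (e '' N : Set X') = e.toMonoidHom '' N := rfl
    rw [h5, ← MonoidHom.map_closure, h4, ← MonoidHom.range_eq_map, MonoidHom.range_eq_top]
    exact e.surjective

variable {G : Type*} [Group G] [Finite G] {D : Set G}

/-- the joint centralizer in the commutator subgroup -/
def KC (a b : G) : Subgroup ↥(commutator G) := (Subgroup.centralizer ({a, b} : Set G)).subgroupOf (commutator G)

omit [Finite G] in
theorem mem_KC {a b : G} {x : ↥(commutator G)} : x ∈ KC a b ↔ Commute (x : G) a ∧ Commute (x : G) b := by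
  unfold KC
  rw [Subgroup.mem_subgroupOf, Subgroup.mem_centralizer_iff]
  constructor
  · intro h
    exact ⟨(h a (by simp)).symm, (h b (by simp)).symm⟩
  · rintro ⟨h1, h2⟩ y (rfl | rfl)
    · exact h1.symm.eq
    · exact h2.symm.eq

/-- the projection onto the group of type M(22) -/
theorem KF (hP : PSU62Simple) (hD : IsThreeTranspositionGroup D) (hprim : IsPrimitiveUnderConj D)
    (h : IsOfTypeM24 G D) {a b : G} (ha : a ∈ D) (hb : b ∈ Dd D a) :
    ∃ F : ↥(KC a b) →* QQ (QD D a) (br D a b hb), Function.Surjective F ∧ (∀ k, F k = 1 ↔ ((k : ↥(commutator G)) : G) = 1 ∨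
      ((k : ↥(commutator G)) : G) = a * b) ∧ (∀ k, F k ∈ QD (QD D a) (br D a b hb) ↔ ∃ u ∈ Dd D a ∩ Dd D b,
      ((k : ↥(commutator G)) : G) = u * a ∨ ((k : ↥(commutator G)) : G) = u * b) := by
  obtain ⟨L, hpar, _, _, hcm, _⟩ := full24 hP hD hprim h
  obtain ⟨k1, k2, k3⟩ := prim24 hP hD hprim h a ha
  obtain ⟨L', _, _, _, hcm', _⟩ := full23 hP k1 k2 k3
  obtain ⟨χ, hχ⟩ := exists_sign hP hD hprim h
  have hker := ker_sign hP hD hprim h hχ
  have hsg : ∀ g : G, g ∈ commutator G ↔ χ g = 1 := by intro g; rw [hker]; rfl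
  have qa := sq_one hD.1 ha
  have qb := sq_one hD.1 hb.1
  have hC1 : HH D a = Subgroup.centralizer {a} := HH_eq_cent L hcm ha (rp24 hP hD hprim h a ha)
  have hC2 : HH (QD D a) (br D a b hb) = Subgroup.centralizer {br D a b hb} :=
    HH_eq_cent L' hcm' (br_mem hb) (rp23 hP k1 k2 k3 _ (br_mem hb))
  have hself : a ∈ HH D a := (rp24 hP hD hprim h a ha).mem_HH
  have hmka : (QuotientGroup.mk (⟨a, hself⟩ : HH D a) : QQ D a) = 1 := by
    rw [QuotientGroup.eq_one_iff, mem_center_HH]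
    intro y hy
    exact hy.2.2
  have hle : ∀ k : ↥(KC a b), ((k : ↥(commutator G)) : G) ∈ HH D a := by
    intro k
    rw [hC1, Subgroup.mem_centralizer_singleton_iff]
    exact (mem_KC.mp k.2).1.eq
  let ι : ↥(KC a b) →* HH D a :=
    { toFun := fun k => ⟨_, hle k⟩
      map_one' := rfl
      map_mul' := fun _ _ => rfl }
  let f : ↥(KC a b) →* QQ D a := (QuotientGroup.mk' _).comp ι
  have hfa : ∀ k, f k = (QuotientGroup.mk (⟨_, hle k⟩ : HH D a) : QQ D a) := fun k => rfl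
  have hf1 : ∀ k, f k = 1 → ((k : ↥(commutator G)) : G) = 1 := by
    intro k hk
    rw [hfa, QuotientGroup.eq_one_iff] at hk
    rcases L.center_HH ha _ hk with h3 | h3
    · exact h3
    · exfalso
      have h4 : ((k : ↥(commutator G)) : G) = a := h3
      exact notMem_comm24 hP hD hprim h a ha (h4 ▸ (k : ↥(commutator G)).2)
  have hfm : ∀ k, f k ∈ HH (QD D a) (br D a b hb) := by
    intro k
    rw [hC2, Subgroup.mem_centralizer_singleton_iff]
    have h3 := (mem_KC.mp k.2).2.eq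
    have h4 : (⟨_, hle k⟩ : HH D a) * ⟨b, mem_HH hb⟩ = ⟨b, mem_HH hb⟩ * ⟨_, hle k⟩ := Subtype.ext h3
    have h5 := congrArg (QuotientGroup.mk : HH D a → QQ D a) h4
    rw [QuotientGroup.mk_mul, QuotientGroup.mk_mul] at h5
    exact h5
  have hfs : ∀ q ∈ HH (QD D a) (br D a b hb), ∃ k, f k = q := by
    intro q hq
    rw [hC2, Subgroup.mem_centralizer_singleton_iff] at hq
    obtain ⟨g, rfl⟩ := QuotientGroup.mk_surjective q
    have hgc : (g : G) * b * (g : G)⁻¹ ∈ Dd D a := Dd_conj_mem hD.2.1 g.2 hb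
    have h3 : br D a _ hgc = br D a b hb := by
      have : br D a _ hgc = (QuotientGroup.mk g : QQ D a) * br D a b hb * (QuotientGroup.mk g : QQ D a)⁻¹ := rfl
      rw [this, hq]; group
    have h4 := (br_inj hD.1 (L.nc a ha) _ _).mp h3
    have g2 : Commute (g : G) b := mul_inv_eq_iff_eq_mul.mp h4
    have g1 : Commute (g : G) a := (HH_commute g.2).symm
    rcases Int.units_eq_one_or (χ g) with h5 | h5
    · exact ⟨⟨⟨g, (hsg _).mpr h5⟩, mem_KC.mpr ⟨g1, g2⟩⟩, rfl⟩
    · have h6 : (g : G) * a ∈ commutator G := by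
        rw [hsg, map_mul, h5, hχ a ha]; rfl
      refine ⟨⟨⟨_, h6⟩, mem_KC.mpr ⟨g1.mul_left (Commute.refl _), g2.mul_left hb.2.2⟩⟩, ?_⟩
      rw [hfa]
      have h7 : (⟨(g : G) * a, hle ⟨⟨_, h6⟩, mem_KC.mpr ⟨g1.mul_left (Commute.refl _), g2.mul_left hb.2.2⟩⟩⟩ : HH D a) =
          g * ⟨a, hself⟩ := rfl
      rw [h7, QuotientGroup.mk_mul, hmka, mul_one]
  let ι' : ↥(KC a b) →* HH (QD D a) (br D a b hb) :=
    { toFun := fun k => ⟨_, hfm k⟩
      map_one' := Subtype.ext (map_one f)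
      map_mul' := fun x y => Subtype.ext (map_mul f x y) }
  let F : ↥(KC a b) →* QQ (QD D a) (br D a b hb) := (QuotientGroup.mk' _).comp ι'
  have hFa : ∀ k, F k = (QuotientGroup.mk (⟨_, hfm k⟩ : HH (QD D a) (br D a b hb)) : QQ (QD D a) (br D a b hb)) := fun k => rfl
  -- the element `ab`
  have habc : a * b ∈ commutator G := by
    rw [hsg, map_mul, hχ a ha, hχ b hb.1]; rfl
  have habK : (⟨a * b, habc⟩ : ↥(commutator G)) ∈ KC a b :=
    mem_KC.mpr ⟨(Commute.refl _).mul_left hb.2.2.symm, hb.2.2.mul_left (Commute.refl _)⟩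
  have hfab : f ⟨⟨a * b, habc⟩, habK⟩ = br D a b hb := by
    rw [hfa]
    have h7 : (⟨a * b, hle ⟨⟨a * b, habc⟩, habK⟩⟩ : HH D a) = ⟨a, hself⟩ * ⟨b, mem_HH hb⟩ := rfl
    rw [h7, QuotientGroup.mk_mul, hmka, one_mul]; rfl
  have hF1 : ∀ k, F k = 1 ↔ ((k : ↥(commutator G)) : G) = 1 ∨ ((k : ↥(commutator G)) : G) = a * b := by
    intro k
    rw [hFa, QuotientGroup.eq_one_iff]
    constructor
    · intro hk
      rcases L'.center_HH (br_mem hb) _ hk with h3 | h3
      · exact Or.inl (hf1 k h3)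
      · right
        have h4 : f k = f ⟨⟨a * b, habc⟩, habK⟩ := by rw [hfab]; exact h3
        have h5 : f (k * ⟨⟨a * b, habc⟩, habK⟩⁻¹) = 1 := by rw [map_mul, map_inv, h4, mul_inv_cancel]
        have h6 := hf1 _ h5
        have h7 : ((k : ↥(commutator G)) : G) * (a * b)⁻¹ = 1 := h6
        exact mul_inv_eq_one.mp h7
    · intro hk
      rw [mem_center_HH]
      intro y hy
      rcases hk with h3 | h3
      · have : k = 1 := Subtype.ext (Subtype.ext h3)
        show Commute (f k) y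
        rw [this, map_one]; exact Commute.one_left y
      · have : k = ⟨⟨a * b, habc⟩, habK⟩ := Subtype.ext (Subtype.ext h3)
        show Commute (f k) y
        rw [this, hfab]; exact hy.2.2
  refine ⟨F, ?_, hF1, ?_⟩
  · intro x
    obtain ⟨q, rfl⟩ := QuotientGroup.mk_surjective x
    obtain ⟨k, hk⟩ := hfs q q.2
    refine ⟨k, ?_⟩
    rw [hFa]
    congr 1
    exact Subtype.ext hk
  · -- the class
    have hua : ∀ u ∈ Dd D a ∩ Dd D b, u * a ∈ commutator G := by
      intro u hu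
      rw [hsg, map_mul, hχ a ha, hχ u hu.1.1]; rfl
    have huK : ∀ u (hu : u ∈ Dd D a ∩ Dd D b), (⟨u * a, hua u hu⟩ : ↥(commutator G)) ∈ KC a b := by
      intro u hu
      exact mem_KC.mpr ⟨hu.1.2.2.symm.mul_left (Commute.refl _), hu.2.2.2.symm.mul_left hb.2.2⟩
    have hfu : ∀ u (hu : u ∈ Dd D a ∩ Dd D b), f ⟨⟨u * a, hua u hu⟩, huK u hu⟩ = br D a u hu.1 := by
      intro u hu
      rw [hfa]
      have h7 : (⟨u * a, hle ⟨⟨u * a, hua u hu⟩, huK u hu⟩⟩ : HH D a) = ⟨u, mem_HH hu.1⟩ * ⟨a, hself⟩ := rfl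
      rw [h7, QuotientGroup.mk_mul, hmka, mul_one]; rfl
    have hFu : ∀ u (hu : u ∈ Dd D a ∩ Dd D b), F ⟨⟨u * a, hua u hu⟩, huK u hu⟩ ∈ QD (QD D a) (br D a b hb) := by
      intro u hu
      have hu' : br D a u hu.1 ∈ Dd (QD D a) (br D a b hb) := (bar_Dd hD.1 (L.nc a ha) hb hu.1).mpr hu.2
      have h8 : F ⟨⟨u * a, hua u hu⟩, huK u hu⟩ = br (QD D a) (br D a b hb) _ hu' := by
        rw [hFa]
        show (QuotientGroup.mk _ : QQ (QD D a) (br D a b hb)) = QuotientGroup.mk _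
        congr 1
        exact Subtype.ext (hfu u hu)
      rw [h8]
      exact br_mem hu'
    intro k
    constructor
    · intro hk
      obtain ⟨w', hw', hkw⟩ := mem_QD.mp hk
      obtain ⟨u, hu1, rfl⟩ := mem_QD.mp hw'.1
      have hu : u ∈ Dd D a ∩ Dd D b := ⟨hu1, (bar_Dd hD.1 (L.nc a ha) hb hu1).mp hw'⟩
      refine ⟨u, hu, ?_⟩
      have h9 : F ⟨⟨u * a, hua u hu⟩, huK u hu⟩ = F k := by
        rw [← hkw, hFa]
        show (QuotientGroup.mk _ : QQ (QD D a) (br D a b hb)) = QuotientGroup.mk _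
        congr 1
        exact Subtype.ext (hfu u hu)
      have h10 : F (k * ⟨⟨u * a, hua u hu⟩, huK u hu⟩⁻¹) = 1 := by rw [map_mul, map_inv, h9, mul_inv_cancel]
      rcases (hF1 _).mp h10 with h11 | h11
      · left
        have h12 : ((k : ↥(commutator G)) : G) * (u * a)⁻¹ = 1 := h11
        exact mul_inv_eq_one.mp h12
      · right
        have h12 : ((k : ↥(commutator G)) : G) * (u * a)⁻¹ = a * b := h11
        rw [mul_inv_eq_iff_eq_mul] at h12
        rw [h12]
        calc a * b * (u * a) = a * (b * u) * a := by group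
          _ = a * (u * b) * a := by rw [hu.2.2.2.eq]
          _ = (a * u) * (b * a) := by group
          _ = (u * a) * (a * b) := by rw [hu.1.2.2.eq, ← hb.2.2.eq]
          _ = u * (a * a) * b := by group
          _ = u * b := by rw [qa, mul_one]
    · rintro ⟨u, hu, hk | hk⟩
      · have : k = ⟨⟨u * a, hua u hu⟩, huK u hu⟩ := Subtype.ext (Subtype.ext hk)
        rw [this]; exact hFu u hu
      · have : k = ⟨⟨u * a, hua u hu⟩, huK u hu⟩ * ⟨⟨a * b, habc⟩, habK⟩ := by
          apply Subtype.ext; apply Subtype.ext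
          show ((k : ↥(commutator G)) : G) = u * a * (a * b)
          rw [hk]
          calc u * b = u * (a * a) * b := by rw [qa, mul_one]
            _ = u * a * (a * b) := by group
        rw [this, map_mul, (hF1 ⟨⟨a * b, habc⟩, habK⟩).mpr (Or.inr rfl), mul_one]
        exact hFu u hu

/-- the joint centralizer is the commutator subgroup of the centralizer of the product -/
theorem KC_eq (hP : PSU62Simple) (hD : IsThreeTranspositionGroup D) (hprim : IsPrimitiveUnderConj D)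
    (h : IsOfTypeM24 G D) {a b : G} (ha : a ∈ D) (hb : b ∈ Dd D a) {j : ↥(commutator G)} (hj : (j : G) = a * b) :
    KC a b = ⁅Subgroup.centralizer ({j} : Set ↥(commutator G)), Subgroup.centralizer ({j} : Set ↥(commutator G))⁆ := by
  obtain ⟨k1, k2, k3⟩ := prim24 hP hD hprim h a ha
  have hmem : ∀ x : ↥(commutator G), x ∈ Subgroup.centralizer ({j} : Set ↥(commutator G)) ↔ Commute (x : G) (a * b) := by
    intro x
    rw [Subgroup.mem_centralizer_singleton_iff, ← hj]
    exact ⟨fun h => congrArg Subtype.val h, fun h => Subtype.ext h⟩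
  apply le_antisymm
  · have hq : IsQuasisimple ↥(KC a b) := by
      obtain ⟨e⟩ := pair_equiv hP hD hprim h ha hb
      have e2 : ↥(KC a b) ≃* ↥(commutator G ⊓ Subgroup.centralizer ({a, b} : Set G)) := by
        have h1 : (KC a b).map (commutator G).subtype = commutator G ⊓ Subgroup.centralizer ({a, b} : Set G) := by
          unfold KC
          rw [Subgroup.subgroupOf_map_subtype, inf_comm]
        exact ((KC a b).equivMapOfInjective _ (commutator G).subtype_injective).trans (MulEquiv.subgroupCongr h1)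
      exact quasisimple_congr (e2.trans e).symm (quasi23 hP k1 k2 k3 (br_mem hb))
    have hp : commutator ↥(KC a b) = ⊤ := hq.1.commutator_eq_top
    have h1 := Subgroup.map_subtype_commutator (KC a b)
    rw [hp] at h1
    have h2 : (⊤ : Subgroup ↥(KC a b)).map (KC a b).subtype = KC a b := by
      rw [← MonoidHom.range_eq_map, Subgroup.range_subtype]
    rw [h2] at h1
    rw [h1]
    have hle : KC a b ≤ Subgroup.centralizer ({j} : Set ↥(commutator G)) := by
      intro x hx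
      rw [hmem]
      exact (mem_KC.mp hx).1.mul_right (mem_KC.mp hx).2
    exact Subgroup.commutator_mono hle hle
  · rw [Subgroup.commutator_le]
    intro x hx y hy
    rw [hmem] at hx hy
    rw [mem_KC]
    have hcase := fun {g : G} (hg : Commute g (a * b)) => pair_fix hP hD hprim h ha hb hg
    have key : ∀ g : G, Commute g (a * b) → (g * a * g⁻¹ = a ∧ g * b * g⁻¹ = b ∧ g⁻¹ * a * g = a ∧ g⁻¹ * b * g = b) ∨
        (g * a * g⁻¹ = b ∧ g * b * g⁻¹ = a ∧ g⁻¹ * a * g = b ∧ g⁻¹ * b * g = a) := by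
      intro g hg
      rcases hcase hg with ⟨h1, h2⟩ | ⟨h1, h2⟩
      · left
        refine ⟨conj_eq_self h1, conj_eq_self h2, ?_, ?_⟩
        · rw [mul_assoc, ← h1.eq]; group
        · rw [mul_assoc, ← h2.eq]; group
      · right
        refine ⟨h1, h2, ?_, ?_⟩
        · rw [← h2]; group
        · rw [← h1]; group
    have hxy : ((⁅x, y⁆ : ↥(commutator G)) : G) = x * y * (x : G)⁻¹ * (y : G)⁻¹ := rfl
    rw [hxy]
    obtain hx' := key _ hx
    obtain hy' := key _ hy
    have expand : ∀ z : G, (x * y * (x : G)⁻¹ * (y : G)⁻¹) * z * (x * y * (x : G)⁻¹ * (y : G)⁻¹)⁻¹ =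
        x * (y * ((x : G)⁻¹ * ((y : G)⁻¹ * z * y) * x) * (y : G)⁻¹) * (x : G)⁻¹ := by
      intro z; group
    constructor
    · have e1 := expand a
      rcases hx' with ⟨x1, x2, x3, x4⟩ | ⟨x1, x2, x3, x4⟩ <;> rcases hy' with ⟨y1, y2, y3, y4⟩ | ⟨y1, y2, y3, y4⟩
      · rw [y3, x3, y1, x1] at e1; exact mul_inv_eq_iff_eq_mul.mp e1
      · rw [y3, x4, y2, x1] at e1; exact mul_inv_eq_iff_eq_mul.mp e1
      · rw [y3, x3, y2, x2] at e1; exact mul_inv_eq_iff_eq_mul.mp e1
      · rw [y3, x4, y1, x2] at e1; exact mul_inv_eq_iff_eq_mul.mp e1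
    · have e1 := expand b
      rcases hx' with ⟨x1, x2, x3, x4⟩ | ⟨x1, x2, x3, x4⟩ <;> rcases hy' with ⟨y1, y2, y3, y4⟩ | ⟨y1, y2, y3, y4⟩
      · rw [y4, x4, y2, x2] at e1; exact mul_inv_eq_iff_eq_mul.mp e1
      · rw [y4, x3, y1, x2] at e1; exact mul_inv_eq_iff_eq_mul.mp e1
      · rw [y4, x4, y1, x1] at e1; exact mul_inv_eq_iff_eq_mul.mp e1
      · rw [y4, x3, y2, x1] at e1; exact mul_inv_eq_iff_eq_mul.mp e1

/-- the relation defined by an automorphism of the commutator subgroup -/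
def RA (α : MulAut ↥(commutator G)) (x y : G) : Prop := ∃ h : x ∈ commutator G, ((α ⟨x, h⟩ : ↥(commutator G)) : G) = y

theorem loc24 (hP : PSU62Simple) (hD : IsThreeTranspositionGroup D) (hprim : IsPrimitiveUnderConj D)
    (h : IsOfTypeM24 G D) (α : MulAut ↥(commutator G)) (a b c p q : G) (t : T3 D a b c) (hp : p ∈ D) (hq : q ∈ Dd D p)
    (hr : RA α (a * b) (p * q)) : ∃ r ∈ Dd D p ∩ Dd D q, RA α (a * c) (p * r) ∨ RA α (a * c) (q * r) := by
  obtain ⟨ha, hb, hca, hcb⟩ := t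
  obtain ⟨hab, hj⟩ := hr
  obtain ⟨χ, hχ⟩ := exists_sign hP hD hprim h
  have hker := ker_sign hP hD hprim h hχ
  have hsg : ∀ g : G, g ∈ commutator G ↔ χ g = 1 := by intro g; rw [hker]; rfl
  have e1 := KC_eq hP hD hprim h ha hb (j := ⟨a * b, hab⟩) rfl
  have e2 := KC_eq hP hD hprim h hp hq (j := α ⟨a * b, hab⟩) hj
  have e3 : (KC a b).map α.toMonoidHom = KC p q := by
    have hcen : (Subgroup.centralizer ({⟨a * b, hab⟩} : Set ↥(commutator G))).map α.toMonoidHom =
        Subgroup.centralizer ({α ⟨a * b, hab⟩} : Set ↥(commutator G)) := by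
      ext y
      rw [Subgroup.mem_map]
      constructor
      · rintro ⟨x, hx, rfl⟩
        rw [Subgroup.mem_centralizer_singleton_iff] at hx ⊢
        show α x * α _ = α _ * α x
        rw [← map_mul, hx, map_mul]
      · intro hy
        refine ⟨α.symm y, ?_, α.apply_symm_apply y⟩
        rw [Subgroup.mem_centralizer_singleton_iff] at hy ⊢
        apply α.injective
        rw [map_mul, map_mul, α.apply_symm_apply]; exact hy
    rw [e1, e2, Subgroup.map_commutator, hcen]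
  obtain ⟨F, F1, F2, F3⟩ := KF hP hD hprim h ha hb
  obtain ⟨F', F1', F2', F3'⟩ := KF hP hD hprim h hp hq
  have hm : ∀ x ∈ KC a b, α x ∈ KC p q := by
    intro x hx
    rw [← e3]; exact ⟨x, hx, rfl⟩
  let g : ↥(KC a b) →* ↥(KC p q) :=
    { toFun := fun x => ⟨α x, hm x x.2⟩
      map_one' := Subtype.ext (map_one α)
      map_mul' := fun x y => Subtype.ext (map_mul α _ _) }
  have hgs : Function.Surjective g := by
    rintro ⟨y, hy⟩
    rw [← e3] at hy
    obtain ⟨x, hx, hxy⟩ := hy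
    exact ⟨⟨x, hx⟩, Subtype.ext hxy⟩
  obtain ⟨e, he⟩ := exists_quot_equiv F (F'.comp g) F1 (F1'.comp hgs) (by
    intro k
    show F k = 1 ↔ F' (g k) = 1
    rw [F2, F2']
    have i1 : ((k : ↥(commutator G)) : G) = 1 ↔ (((g k : ↥(KC p q)) : ↥(commutator G)) : G) = 1 := by
      constructor
      · intro hk
        have : (k : ↥(commutator G)) = 1 := Subtype.ext hk
        show ((α k : ↥(commutator G)) : G) = 1
        rw [this, map_one]; rfl
      · intro hk
        have : α k = 1 := Subtype.ext hk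
        have h2 : (k : ↥(commutator G)) = 1 := α.injective (this.trans (map_one α).symm)
        rw [h2]; rfl
    have i2 : ((k : ↥(commutator G)) : G) = a * b ↔ (((g k : ↥(KC p q)) : ↥(commutator G)) : G) = p * q := by
      constructor
      · intro hk
        have : (k : ↥(commutator G)) = ⟨a * b, hab⟩ := Subtype.ext hk
        show ((α k : ↥(commutator G)) : G) = p * q
        rw [this, hj]
      · intro hk
        have h1 : ((α k : ↥(commutator G)) : G) = p * q := hk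
        rw [← hj] at h1
        have h2 := α.injective (Subtype.ext h1)
        rw [h2]
    rw [i1, i2])
  -- the classes correspond
  obtain ⟨k1, k2, k3⟩ := prim24 hP hD hprim h a ha
  obtain ⟨m1, m2, m3⟩ := prim23 hP k1 k2 k3 _ (br_mem hb)
  obtain ⟨k1', k2', k3'⟩ := prim24 hP hD hprim h p hp
  obtain ⟨m1', m2', m3'⟩ := prim23 hP k1' k2' k3' _ (br_mem hq)
  have hcls := only_class hP m1' m2' m3' (class_map (class_of m1 m2) e)
  -- the element `ca`
  have hcac : c * a ∈ commutator G := by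
    rw [hsg, map_mul, hχ a ha, hχ c hca.1]; rfl
  have hcaK : (⟨c * a, hcac⟩ : ↥(commutator G)) ∈ KC a b :=
    mem_KC.mpr ⟨hca.2.2.symm.mul_left (Commute.refl _), hcb.2.2.symm.mul_left hb.2.2⟩
  have h1 : F ⟨⟨c * a, hcac⟩, hcaK⟩ ∈ QD (QD D a) (br D a b hb) := (F3 _).mpr ⟨c, ⟨hca, hcb⟩, Or.inl rfl⟩
  have h2 : e (F ⟨⟨c * a, hcac⟩, hcaK⟩) ∈ QD (QD D p) (br D p q hq) := by
    rw [← hcls]; exact ⟨_, h1, rfl⟩
  rw [he] at h2
  have h3 : F' (g ⟨⟨c * a, hcac⟩, hcaK⟩) ∈ QD (QD D p) (br D p q hq) := h2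
  have hac : a * c ∈ commutator G := by
    rw [hsg, map_mul, hχ a ha, hχ c hca.1]; rfl
  have eac : (⟨a * c, hac⟩ : ↥(commutator G)) = ⟨c * a, hcac⟩ := Subtype.ext hca.2.2.eq
  obtain ⟨u, hu, hu' | hu'⟩ := (F3' _).mp h3
  · refine ⟨u, hu, Or.inl ⟨hac, ?_⟩⟩
    rw [eac, hu.1.2.2.eq]; exact hu'
  · refine ⟨u, hu, Or.inr ⟨hac, ?_⟩⟩
    rw [eac, hu.2.2.2.eq]; exact hu'

theorem star24 (hP : PSU62Simple) (hD : IsThreeTranspositionGroup D) (hprim : IsPrimitiveUnderConj D)
    (h : IsOfTypeM24 G D) (α : MulAut ↥(commutator G)) : Star D (RA α) := by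
  obtain ⟨_, hpar, _⟩ := full24 hP hD hprim h
  obtain ⟨χ, hχ⟩ := exists_sign hP hD hprim h
  have hker := ker_sign hP hD hprim h hχ
  have hsg : ∀ g : G, g ∈ commutator G ↔ χ g = 1 := by intro g; rw [hker]; rfl
  refine ⟨pu24 hP hD hprim h, fun x hx => sq_one hD.1 hx, c1_24 hP hD hprim h, c2_24 hP hD hprim h, ?_, ?_, ?_, ?_, ?_, ?_, ?_⟩
  · intro a ha
    have : (Dd D a).Nonempty := by
      rw [← Set.ncard_pos (Set.toFinite _), hpar.c1 a ha]; norm_num
    exact this
  · intro a ha b hb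
    have : (Dd D a ∩ Dd D b).Nonempty := by
      rw [← Set.ncard_pos (Set.toFinite _), hpar.c2 a ha b hb]; norm_num
    exact this
  · rintro x y x' y' ⟨h1, rfl⟩ ⟨h2, rfl⟩
    refine ⟨(commutator G).mul_mem h1 h2, ?_⟩
    have : (⟨x * x', (commutator G).mul_mem h1 h2⟩ : ↥(commutator G)) = ⟨x, h1⟩ * ⟨x', h2⟩ := rfl
    rw [this, map_mul]; rfl
  · rintro x y y' ⟨h1, rfl⟩ ⟨h2, rfl⟩
    rfl
  · rintro x x' y ⟨h1, h3⟩ ⟨h2, h4⟩
    rw [← h4] at h3
    exact congrArg Subtype.val (α.injective (Subtype.ext h3))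
  · intro a ha b hb
    have hab : a * b ∈ commutator G := by
      rw [hsg, map_mul, hχ a ha, hχ b hb.1]; rfl
    have h1 : PP D 2 ((⟨a * b, hab⟩ : ↥(commutator G)) : G) := PP_two.mpr ⟨a, ha, b, hb, rfl⟩
    obtain ⟨p, hp, q, hq, e⟩ := PP_two.mp (tot_aux hP hD hprim h α h1)
    exact ⟨p, hp, q, hq, hab, e⟩
  · intro a b c p q t hp hq hr
    exact loc24 hP hD hprim h α a b c p q t hp hq hr

omit [Finite G] in
theorem RA_symm (α : MulAut ↥(commutator G)) (x y : G) : RA α.symm x y ↔ RA α y x := by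
  constructor
  · rintro ⟨h, rfl⟩
    refine ⟨(α.symm ⟨x, h⟩).2, ?_⟩
    have : (⟨((α.symm ⟨x, h⟩ : ↥(commutator G)) : G), (α.symm ⟨x, h⟩).2⟩ : ↥(commutator G)) = α.symm ⟨x, h⟩ := rfl
    rw [this, α.apply_symm_apply]
  · rintro ⟨h, rfl⟩
    refine ⟨(α ⟨y, h⟩).2, ?_⟩
    have : (⟨((α ⟨y, h⟩ : ↥(commutator G)) : G), (α ⟨y, h⟩).2⟩ : ↥(commutator G)) = α ⟨y, h⟩ := rfl
    rw [this, α.symm_apply_apply]

/-- the commutator subgroup is generated by the products of two commuting members -/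
theorem comm_closure (hP : PSU62Simple) (hD : IsThreeTranspositionGroup D) (hprim : IsPrimitiveUnderConj D)
    (h : IsOfTypeM24 G D) : commutator G ≤ Subgroup.closure {x | ∃ a ∈ D, ∃ b ∈ Dd D a, x = a * b} := by
  set W := {x | ∃ a ∈ D, ∃ b ∈ Dd D a, x = a * b} with hW
  have L := (full24 hP hD hprim h).1
  have hWc : ∀ g : G, ∀ x ∈ W, g * x * g⁻¹ ∈ W := by
    rintro g _ ⟨a, ha, b, hb, rfl⟩
    exact ⟨_, hD.2.1 g a ha, _, Dd_conj hD.2.1 hb, by group⟩
  haveI hn : (Subgroup.closure W).Normal := by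
    refine ⟨fun x hx g => ?_⟩
    refine Subgroup.closure_induction (p := fun x _ => g * x * g⁻¹ ∈ Subgroup.closure W) ?_ ?_ ?_ ?_ hx
    · intro y hy; exact Subgroup.subset_closure (hWc g y hy)
    · simp
    · intro y z _ _ h1 h2
      have : g * (y * z) * g⁻¹ = (g * y * g⁻¹) * (g * z * g⁻¹) := by group
      rw [this]; exact mul_mem h1 h2
    · intro y _ h1
      have : g * y⁻¹ * g⁻¹ = (g * y * g⁻¹)⁻¹ := by group
      rw [this]; exact inv_mem h1
  -- all members are equal modulo the closure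
  have hcom : ∀ a ∈ D, ∀ b ∈ Dd D a, (QuotientGroup.mk a : G ⧸ Subgroup.closure W) = QuotientGroup.mk b := by
    intro a ha b hb
    rw [QuotientGroup.eq, inv_eq_of_mul_eq_one_left (sq_one hD.1 ha)]
    exact Subgroup.subset_closure ⟨a, ha, b, hb, rfl⟩
  have hall : ∀ a ∈ D, ∀ b ∈ D, (QuotientGroup.mk a : G ⧸ Subgroup.closure W) = QuotientGroup.mk b := by
    intro a ha b hb
    by_cases hab : b = a
    · rw [hab]
    by_cases hc : Commute a b
    · exact hcom a ha b ⟨hb, hab, hc⟩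
    · obtain ⟨u, hu1, hu2⟩ := E_ne L ha hb hc
      rw [hcom a ha u hu1, hcom b hb u hu2]
  -- commutators
  have hab : ∀ x y : G, (QuotientGroup.mk (x * y) : G ⧸ Subgroup.closure W) = QuotientGroup.mk (y * x) := by
    obtain ⟨d, hd, _⟩ := L.base.nnc
    have hz : ∀ x : G, (QuotientGroup.mk x : G ⧸ Subgroup.closure W) ∈ Subgroup.zpowers (QuotientGroup.mk d : G ⧸ Subgroup.closure W) := by
      intro x
      have hx : x ∈ Subgroup.closure D := by rw [hD.2.2]; trivial
      refine Subgroup.closure_induction (p := fun x _ => (QuotientGroup.mk x : G ⧸ Subgroup.closure W) ∈ Subgroup.zpowers (QuotientGroup.mk d : G ⧸ Subgroup.closure W)) ?_ ?_ ?_ ?_ hx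
      · intro y hy
        rw [hall y hy d hd]; exact Subgroup.mem_zpowers _
      · exact one_mem _
      · intro y z _ _ h1 h2; exact mul_mem h1 h2
      · intro y _ h1; exact inv_mem h1
    intro x y
    obtain ⟨m, hm⟩ := Subgroup.mem_zpowers_iff.mp (hz x)
    obtain ⟨n, hn⟩ := Subgroup.mem_zpowers_iff.mp (hz y)
    rw [QuotientGroup.mk_mul, QuotientGroup.mk_mul, ← hm, ← hn, ← zpow_add, ← zpow_add, add_comm]
  rw [commutator_eq_closure, Subgroup.closure_le]
  rintro _ ⟨x, y, rfl⟩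
  show ⁅x, y⁆ ∈ Subgroup.closure W
  rw [← QuotientGroup.eq_one_iff, commutatorElement_def]
  have : (QuotientGroup.mk (x * y * x⁻¹ * y⁻¹) : G ⧸ Subgroup.closure W) =
      QuotientGroup.mk (x * y) * (QuotientGroup.mk (y * x))⁻¹ := by
    rw [← QuotientGroup.mk_inv, ← QuotientGroup.mk_mul]
    congr 1
    group
  rw [this, hab, mul_inv_cancel]

/-- automorphisms of the commutator subgroup are induced by conjugations -/
theorem aut24 (hP : PSU62Simple) (hD : IsThreeTranspositionGroup D) (hprim : IsPrimitiveUnderConj D)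
    (h : IsOfTypeM24 G D) (α : MulAut ↥(commutator G)) : ∃ g : G, ∀ x : ↥(commutator G), ((α x : ↥(commutator G)) : G) = g * x * g⁻¹ := by
  obtain ⟨θ, hθ⟩ := star_GI (RA_symm α) (star24 hP hD hprim h α) (star24 hP hD hprim h α.symm)
  have A := gg24 hP hD hprim h
  obtain ⟨e, he⟩ := exists_mulEquiv A A θ
  obtain ⟨g, hg⟩ := inner24 hP hD hprim h e (by
    intro x hx
    rw [he ⟨x, hx⟩]; exact (θ.f ⟨x, hx⟩).2)
  refine ⟨g, ?_⟩
  rintro ⟨x, hx⟩
  have key : ∀ x ∈ Subgroup.closure {x | ∃ a ∈ D, ∃ b ∈ Dd D a, x = a * b}, RA α x (e x) := by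
    intro x hx
    refine Subgroup.closure_induction (p := fun x _ => RA α x (e x)) ?_ ?_ ?_ ?_ hx
    · rintro _ ⟨a, ha, b, hb, rfl⟩
      rw [map_mul, he ⟨a, ha⟩, he ⟨b, hb.1⟩]
      exact hθ ⟨a, ha⟩ ⟨b, hb.1⟩ hb
    · refine ⟨one_mem _, ?_⟩
      have : (⟨1, one_mem _⟩ : ↥(commutator G)) = 1 := rfl
      rw [this, map_one, map_one]; rfl
    · intro y z _ _ h1 h2
      rw [map_mul]
      exact (star24 hP hD hprim h α).mul _ _ _ _ h1 h2
    · rintro y _ ⟨h1, h2⟩
      refine ⟨inv_mem h1, ?_⟩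
      have : (⟨y⁻¹, inv_mem h1⟩ : ↥(commutator G)) = ⟨y, h1⟩⁻¹ := rfl
      rw [this, map_inv, map_inv, ← h2]; rfl
  obtain ⟨_, h1⟩ := key x (comm_closure hP hD hprim h hx)
  rw [h1, hg]; rfl

/-- the centralizer of the commutator subgroup -/
theorem cent_comm24 (hP : PSU62Simple) (hD : IsThreeTranspositionGroup D) (hprim : IsPrimitiveUnderConj D)
    (h : IsOfTypeM24 G D) {g : G} (hg : ∀ x ∈ commutator G, Commute g x) : g = 1 := by
  obtain ⟨χ, hχ⟩ := exists_sign hP hD hprim h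
  have hker := ker_sign hP hD hprim h hχ
  have hsg : ∀ g : G, g ∈ commutator G ↔ χ g = 1 := by intro g; rw [hker]; rfl
  have S := star24 hP hD hprim h 1
  apply (gg24 hP hD hprim h).Z
  intro a ha
  have key : ∀ b ∈ Dd D a, Commute g a ∨ g * a * g⁻¹ = b := by
    intro b hb
    have hab : a * b ∈ commutator G := by
      rw [hsg, map_mul, hχ a ha, hχ b hb.1]; rfl
    rcases pair_fix hP hD hprim h ha hb (hg _ hab) with h1 | h1
    · exact Or.inl h1.1
    · exact Or.inr h1.1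
  obtain ⟨b, hb⟩ := S.ne1 a ha
  obtain ⟨c, hc⟩ := S.ne2 a ha b hb
  rcases key b hb with h1 | h1
  · exact h1
  · rcases key c hc.1 with h2 | h2
    · exact h2
    · exact absurd (h2.symm.trans h1) hc.2.2.1

/-- the outer automorphism group of the commutator subgroup has order two -/
theorem out24 (hP : PSU62Simple) (hD : IsThreeTranspositionGroup D) (hprim : IsPrimitiveUnderConj D)
    (h : IsOfTypeM24 G D) : Nat.card (Cfsg.Out ↥(commutator G)) = 2 := by
  let Γ : G →* MulAut ↥(commutator G) := MulAut.conjNormal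
  have hΓ : ∀ (g : G) (x : ↥(commutator G)), ((Γ g x : ↥(commutator G)) : G) = g * x * g⁻¹ := fun g x => MulAut.conjNormal_apply g x
  have hs : Function.Surjective Γ := by
    intro α
    obtain ⟨g, hg⟩ := aut24 hP hD hprim h α
    refine ⟨g, MulEquiv.ext fun x => Subtype.ext ?_⟩
    rw [hΓ, hg]
  have hk : Γ.ker = ⊥ := by
    rw [eq_bot_iff]
    intro g hg
    rw [Subgroup.mem_bot]
    apply cent_comm24 hP hD hprim h
    intro x hx
    have h1 : Γ g ⟨x, hx⟩ = ⟨x, hx⟩ := by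
      rw [MonoidHom.mem_ker.mp hg]; rfl
    have h2 := hΓ g ⟨x, hx⟩
    rw [h1] at h2
    exact mul_inv_eq_iff_eq_mul.mp h2.symm
  have hI : Inn ↥(commutator G) = (commutator G).map Γ := by
    ext α
    constructor
    · rintro ⟨x, rfl⟩
      refine ⟨x, x.2, MulEquiv.ext fun y => Subtype.ext ?_⟩
      rw [hΓ]; rfl
    · rintro ⟨x, hx, rfl⟩
      refine ⟨⟨x, hx⟩, MulEquiv.ext fun y => Subtype.ext ?_⟩
      rw [hΓ]; rfl
  have h1 : Nat.card (Cfsg.Out ↥(commutator G)) = (Inn ↥(commutator G)).index := rfl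
  rw [h1, hI, Subgroup.index_map, hk, sup_bot_eq, MonoidHom.range_eq_top.mpr hs, Subgroup.index_top, mul_one]
  exact comm_index24 hP hD hprim h

end Cfsg.Agent.Lib.FiGlue
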