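import Cfsg.Agent.Lib.FiOnly
/-
The only class of 3-transpositions, general form (helper91).
-/
set_option autoImplicit false
set_option linter.all false

namespace Cfsg.Agent.Lib.FiMu

open Cfsg Cfsg.Agent.Lib.ThreeRank3 Cfsg.Agent.Lib.ThreeDescent Cfsg.Agent.Lib.ThreeQuot Cfsg.Agent.Lib.FiPar
  Cfsg.Agent.Lib.ThreeSimple Cfsg.Agent.Lib.ThreeTypes Cfsg.Agent.Lib.FiComp

variable {G : Type*} [Group G] {D : Set G}

theorem only_class' [Finite G] {k l l2 m1 m2 μ : ℕ} (L : Lev D k l l2 m1 m2 μ) (hl : l2 + 1 < l) (hm : m2 < l2)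
    (t2 : TT D 2) (t3 : TT D 3)
    (hinv : ∀ x : G, x * x = 1 → x ≠ 1 → ∃ m : ℕ, 1 ≤ m ∧ m ≤ 3 ∧ PP D m x)
    {D' : Set G} (hD' : IsThreeTranspositionClass D') : D' = D := by
  obtain ⟨hS, ⟨d', hd', hcl⟩, _⟩ := hD'
  have hD := L.tg
  have hconj : ∀ y, IsConj d' y → y ∈ D' := by
    intro y hy
    rw [hcl]; exact hy
  have hord := hS.1 d' hd'
  rw [orderOf_eq_prime_iff, pow_two] at hord
  obtain ⟨m, h1, h2, h3⟩ := hinv d' hord.1 hord.2
  obtain ⟨a, ha, b, hb, c, hc, d, hd, e, he, hab, cab, nac, nbc, q1, q2, q3, q4⟩ := exists_conf L hl hm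
  have main := not_three hD L.VT ha hb hc hd hab cab nac nbc q1.1.2.2 q2.1.2.2 q3.1.2.2
  interval_cases m
  · obtain ⟨l, hl, hp⟩ := h3
    obtain ⟨x, rfl⟩ : ∃ x, l = [x] := by
      match l, hl.2.1 with
      | [x], _ => exact ⟨x, rfl⟩
    rw [List.prod_singleton] at hp
    have hx := hl.2.2.1 x (by simp)
    rw [hp] at hx
    rw [hcl]
    ext y
    constructor
    · intro hy
      obtain ⟨g, rfl⟩ := isConj_iff.mp hy
      exact hD.2.1 g d' hx
    · intro hy
      obtain ⟨g, hg⟩ := L.base.prim.1 d' hx y hy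
      exact isConj_iff.mpr ⟨g, hg⟩
  · exfalso
    apply main
    apply hS.2
    · apply hconj
      apply PP_conj t2 h3
      exact ⟨[a, b], tup_two hb ⟨ha, hab, cab.symm⟩, by simp⟩
    · apply hconj
      apply PP_conj t2 h3
      exact ⟨[c, d], tup_two hd q3.1, by simp⟩
  · exfalso
    apply main
    have hee := sq_one hD.1 he
    have e1 : a * b * (c * d) = a * b * e * (c * d * e) := by
      calc a * b * (c * d) = a * b * (e * e) * (c * d) := by rw [hee, mul_one]
        _ = a * b * e * ((e * c) * d) := by group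
        _ = a * b * e * (c * (e * d)) := by rw [(q3.2.2.2).eq]; group
        _ = a * b * e * (c * d * e) := by rw [(q4.2.2).eq]; group
    rw [e1]
    apply hS.2
    · apply hconj
      apply PP_conj t3 h3
      exact ⟨[a, b, e], tup_three he q2.2 ⟨q1.2, ha, hab, cab.symm⟩, by simp [mul_assoc]⟩
    · apply hconj
      apply PP_conj t3 h3
      exact ⟨[c, d, e], tup_three he q4 ⟨q3.2, q3.1⟩, by simp [mul_assoc]⟩

theorem only_class23 [Finite G] (hP : PSU62Simple) (hD : IsThreeTranspositionGroup D) (hprim : IsPrimitiveUnderConj D)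
    (h : IsOfTypeM23 G D) {D' : Set G} (hD' : IsThreeTranspositionClass D') : D' = D := by
  obtain ⟨_, t2, t3, _⟩ := tt23 hP hD hprim h
  exact only_class' (full23 hP hD hprim h).1 (by norm_num) (by norm_num) t2 t3 (invP23 hP hD hprim h) hD'

end Cfsg.Agent.Lib.FiMu
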