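import Cfsg.Agent.Lib.FiSign73
import Cfsg.Agent.Lib.H89MW0
/-
The centralizer of a product of two commuting members in a group of type M(24) (helper73).
-/
set_option autoImplicit false
set_option linter.all false

namespace Cfsg.Agent.Lib.FiGlue

open Cfsg Cfsg.Agent.Lib.ThreeRank3 Cfsg.Agent.Lib.ThreeDescent Cfsg.Agent.Lib.ThreeQuot Cfsg.Agent.Lib.FiPar
  Cfsg.Agent.Lib.FiMu Cfsg.Agent.Lib.FiLoc Cfsg.Agent.Lib.FiComp Cfsg.Agent.Lib.ThreeTypes Cfsg.Agent.Lib.FiPair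
  Cfsg.Agent.Lib.FiUniq Cfsg.Agent.Lib.Components
open Cfsg.Spor

/-! ### actions on `Δ` -/

section
variable {G X : Type*} [Group G] [Group X] {Δ : Set G} {N : Set X}

/-- `e` is the automorphism induced by `g` -/
def Act (θ : GC Δ N) (g : G) (e : MulAut X) : Prop :=
  ∀ u : ↥Δ, ∃ hu : g * u * g⁻¹ ∈ Δ, e (θ.f u) = θ.f ⟨g * u * g⁻¹, hu⟩

variable (θ : GC Δ N) (A : GG N)

include A in
theorem Act.uniq {g : G} {e e' : MulAut X} (h : Act θ g e) (h' : Act θ g e') : e = e' := by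
  apply MulEquiv.ext
  intro q
  have hq : q ∈ Subgroup.closure N := by rw [A.tg.2.2]; trivial
  refine Subgroup.closure_induction (p := fun q _ => e q = e' q) ?_ ?_ ?_ ?_ hq
  · intro x hx
    obtain ⟨v, hv⟩ := θ.f.surjective ⟨x, hx⟩
    have hv' : (θ.f v : X) = x := congrArg Subtype.val hv
    obtain ⟨h1, h2⟩ := h v
    obtain ⟨h1', h2'⟩ := h' v
    rw [← hv', h2, h2']
  · rw [map_one, map_one]
  · intro x y _ _ hx hy; rw [map_mul, map_mul, hx, hy]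
  · intro x _ hx; rw [map_inv, map_inv, hx]

theorem Act.mul {g g' : G} {e e' : MulAut X} (h : Act θ g e) (h' : Act θ g' e') : Act θ (g * g') (e * e') := by
  intro u
  obtain ⟨h1, h2⟩ := h' u
  obtain ⟨h3, h4⟩ := h ⟨_, h1⟩
  have e1 : g * g' * u * (g * g')⁻¹ = g * (g' * u * g'⁻¹) * g⁻¹ := by group
  refine ⟨by rw [e1]; exact h3, ?_⟩
  have e2 : (⟨g * g' * u * (g * g')⁻¹, by rw [e1]; exact h3⟩ : ↥Δ) = ⟨g * (g' * u * g'⁻¹) * g⁻¹, h3⟩ := Subtype.ext e1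
  rw [e2, ← h4, ← h2]
  rfl

include A in
theorem Act.exists {g : G} (h1 : ∀ u ∈ Δ, g * u * g⁻¹ ∈ Δ) (h2 : ∀ u ∈ Δ, g⁻¹ * u * g⁻¹⁻¹ ∈ Δ) : ∃ e : MulAut X, Act θ g e := by
  let γ : GI Δ Δ :=
    { f :=
      { toFun := fun u => ⟨g * u * g⁻¹, h1 u u.2⟩
        invFun := fun u => ⟨g⁻¹ * u * g⁻¹⁻¹, h2 u u.2⟩
        left_inv := fun u => Subtype.ext (by show g⁻¹ * (g * u * g⁻¹) * g⁻¹⁻¹ = u; group)
        right_inv := fun u => Subtype.ext (by show g * (g⁻¹ * u * g⁻¹⁻¹) * g⁻¹ = u; group) }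
      comm := fun x y => commute_conj_iff }
  obtain ⟨e, he⟩ := exists_mulEquiv A A (θ.toGI.symm.trans (γ.trans θ.toGI))
  refine ⟨e, fun u => ⟨h1 u u.2, ?_⟩⟩
  rw [he]
  show (θ.f (γ.f (θ.f.symm (θ.f u))) : X) = _
  rw [θ.f.symm_apply_apply]
  rfl

include A in
theorem Act.inner (hsq : ∀ x ∈ Δ, x * x = 1) (q : X) : ∃ h ∈ Subgroup.closure Δ, Act θ h (MulAut.conj q) := by
  obtain ⟨h, hh, hu⟩ := θ.lift hsq A.tg.2.2 q
  refine ⟨h, hh, fun u => ?_⟩
  obtain ⟨h1, h2⟩ := hu u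
  exact ⟨h1, h2.symm⟩

end

variable {G : Type*} [Group G] [Finite G] {D : Set G} {d₁ d₂ : G}

theorem pair_fix (hP : PSU62Simple) (hD : IsThreeTranspositionGroup D) (hprim : IsPrimitiveUnderConj D)
    (h : IsOfTypeM24 G D) (h₁ : d₁ ∈ D) (h₂ : d₂ ∈ Dd D d₁) {g : G} (hg : Commute g (d₁ * d₂)) :
    (Commute g d₁ ∧ Commute g d₂) ∨ (g * d₁ * g⁻¹ = d₂ ∧ g * d₂ * g⁻¹ = d₁) := by
  have hcf := cf_two hD (VTriv_of_prim hD hprim)
  have hR := nr24 hP hD hprim h 4 (by norm_num) (by norm_num)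
  have q1 := sq_one hD.1 h₁
  have q2 := sq_one hD.1 h₂.1
  set a := g * d₁ * g⁻¹ with ha
  set b := g * d₂ * g⁻¹ with hb
  have haD : a ∈ D := hD.2.1 g d₁ h₁
  have hbD : b ∈ D := hD.2.1 g d₂ h₂.1
  have hab : a * b = d₁ * d₂ := by
    have : a * b = g * (d₁ * d₂) * g⁻¹ := by rw [ha, hb]; group
    rw [this, hg.eq]; group
  have cab : Commute a b := commute_conj_iff.mpr h₂.2.2
  have e12 : d₂ * d₁ = d₁ * d₂ := h₂.2.2.symm.eq
  have ca := cf2' hcf h₁ h₂ haD (by rw [e12, ← hab]; exact (Commute.refl a).mul_right cab)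
  have cb := cf2' hcf h₁ h₂ hbD (by rw [e12, ← hab]; exact cab.symm.mul_right (Commute.refl b))
  have hne : a ≠ b := by
    intro he
    exact h₂.2.1 (mul_left_cancel (mul_right_cancel he)).symm
  by_cases a1 : a = d₁
  · left
    have b2 : b = d₂ := by rw [a1] at hab; exact mul_left_cancel hab
    exact ⟨mul_inv_eq_iff_eq_mul.mp (ha.symm.trans a1), mul_inv_eq_iff_eq_mul.mp (hb.symm.trans b2)⟩
  by_cases a2 : a = d₂
  · right
    refine ⟨a2, ?_⟩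
    rw [a2, ← e12] at hab
    exact mul_left_cancel hab
  exfalso
  have b1 : b ≠ d₁ := by
    intro he; rw [he, ← e12] at hab
    exact a2 (mul_right_cancel hab)
  have b2 : b ≠ d₂ := by
    intro he; rw [he] at hab
    exact a1 (mul_right_cancel hab)
  apply hR
  refine ⟨[a, b, d₁, d₂], rfl, ?_, ?_, ?_, ?_⟩
  · simp [hne, a1, a2, b1, b2, Ne.symm h₂.2.1]
  · intro x hx
    simp only [List.mem_cons, List.not_mem_nil, or_false] at hx
    rcases hx with rfl | rfl | rfl | rfl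
    exacts [haD, hbD, h₁, h₂.1]
  · intro x hx y hy
    simp only [List.mem_cons, List.not_mem_nil, or_false] at hx hy
    rcases hx with rfl | rfl | rfl | rfl <;> rcases hy with rfl | rfl | rfl | rfl
    exacts [Commute.refl _, cab, ca.1, ca.2, cab.symm, Commute.refl _, cb.1, cb.2, ca.1.symm, cb.1.symm, Commute.refl _,
      h₂.2.2, ca.2.symm, cb.2.symm, h₂.2.2.symm, Commute.refl _]
  · have : [a, b, d₁, d₂].prod = (a * b) * (d₁ * d₂) := by simp [mul_assoc]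
    rw [this, hab]
    calc d₁ * d₂ * (d₁ * d₂) = d₁ * (d₂ * d₁) * d₂ := by group
      _ = d₁ * (d₁ * d₂) * d₂ := by rw [e12]
      _ = (d₁ * d₁) * (d₂ * d₂) := by group
      _ = 1 := by rw [q1, q2, one_mul]

/-- elements centralizing `d₁`, `d₂` and `Δ` -/
theorem cent_delta (hP : PSU62Simple) (hD : IsThreeTranspositionGroup D) (hprim : IsPrimitiveUnderConj D)
    (h : IsOfTypeM24 G D) (h₁ : d₁ ∈ D) (h₂ : d₂ ∈ Dd D d₁) {g : G} (g1 : Commute g d₁)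
    (hu : ∀ u ∈ Dd D d₁ ∩ Dd D d₂, Commute g u) : g = 1 ∨ g = d₁ ∨ g = d₂ ∨ g = d₁ * d₂ := by
  obtain ⟨L, hpar, _, _, hcm, _⟩ := full24 hP hD hprim h
  obtain ⟨k1, k2, k3⟩ := prim24 hP hD hprim h d₁ h₁
  have L' := (full23 hP k1 k2 k3).1
  have hgH : g ∈ HH D d₁ := by
    rw [HH_eq_cent L hcm h₁ (rp24 hP hD hprim h d₁ h₁), Subgroup.mem_centralizer_singleton_iff]
    exact g1.eq
  have key : ∀ k : HH D d₁, (QuotientGroup.mk k : QQ D d₁) = 1 → (k : G) = 1 ∨ (k : G) = d₁ := by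
    intro k hk
    rw [QuotientGroup.eq_one_iff] at hk
    exact L.center_HH h₁ k hk
  have h1 := L'.cent_Dd (br_mem h₂) (g := (QuotientGroup.mk (⟨g, hgH⟩ : HH D d₁) : QQ D d₁)) (by
    intro x hx
    obtain ⟨u, hu1, rfl⟩ := mem_QD.mp hx.1
    have hu2 : u ∈ Dd D d₂ := by
      refine ⟨hu1.1, ?_, (br_comm hD.1 _ _).mp hx.2.2⟩
      intro he; exact hx.2.1 ((br_inj hD.1 (L.nc d₁ h₁) _ _).mpr he)
    have h3 := hu u ⟨hu1, hu2⟩
    have h4 : (⟨g, hgH⟩ : HH D d₁) * ⟨u, mem_HH hu1⟩ = ⟨u, mem_HH hu1⟩ * ⟨g, hgH⟩ := Subtype.ext h3.eq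
    have h5 := congrArg (QuotientGroup.mk : HH D d₁ → QQ D d₁) h4
    rw [QuotientGroup.mk_mul, QuotientGroup.mk_mul] at h5
    exact h5)
  rcases h1 with h2 | h2
  · rcases key _ h2 with h3 | h3
    · exact Or.inl h3
    · exact Or.inr (Or.inl h3)
  · have h3 : (QuotientGroup.mk ((⟨g, hgH⟩ : HH D d₁) * ⟨d₂, mem_HH h₂⟩⁻¹) : QQ D d₁) = 1 := by
      rw [QuotientGroup.mk_mul, QuotientGroup.mk_inv, h2]
      exact mul_inv_cancel _
    rcases key _ h3 with h4 | h4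
    · have h5 : g * d₂⁻¹ = 1 := h4
      exact Or.inr (Or.inr (Or.inl (mul_inv_eq_one.mp h5)))
    · have h5 : g * d₂⁻¹ = d₁ := h4
      exact Or.inr (Or.inr (Or.inr (mul_inv_eq_iff_eq_mul.mp h5)))

/-- the joint centralizer of `d₁` and `d₂` in the commutator subgroup is a double cover of `Fi22` -/
theorem pair_equiv (hP : PSU62Simple) (hD : IsThreeTranspositionGroup D) (hprim : IsPrimitiveUnderConj D)
    (h : IsOfTypeM24 G D) (h₁ : d₁ ∈ D) (h₂ : d₂ ∈ Dd D d₁) :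
    Nonempty (↥(commutator G ⊓ Subgroup.centralizer ({d₁, d₂} : Set G)) ≃* ↥(HH (QD D d₁) (br D d₁ d₂ h₂))) := by
  obtain ⟨L, hpar, _, _, hcm, _⟩ := full24 hP hD hprim h
  obtain ⟨k1, k2, k3⟩ := prim24 hP hD hprim h d₁ h₁
  obtain ⟨L', _, _, _, hcm', _⟩ := full23 hP k1 k2 k3
  obtain ⟨χ, hχ⟩ := exists_sign hP hD hprim h
  have hker := ker_sign hP hD hprim h hχ
  set K := commutator G ⊓ Subgroup.centralizer ({d₁, d₂} : Set G) with hK
  have hC1 : HH D d₁ = Subgroup.centralizer {d₁} := HH_eq_cent L hcm h₁ (rp24 hP hD hprim h d₁ h₁)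
  have hC2 : HH (QD D d₁) (br D d₁ d₂ h₂) = Subgroup.centralizer {br D d₁ d₂ h₂} :=
    HH_eq_cent L' hcm' (br_mem h₂) (rp23 hP k1 k2 k3 _ (br_mem h₂))
  have hle : K ≤ HH D d₁ := by
    intro g hg
    rw [hC1, Subgroup.mem_centralizer_singleton_iff]
    exact ((Subgroup.mem_centralizer_iff.mp hg.2) d₁ (by simp)).symm
  let f : K →* QQ D d₁ := (QuotientGroup.mk' _).comp (Subgroup.inclusion hle)
  have hfa : ∀ k : K, f k = (QuotientGroup.mk (⟨(k : G), hle k.2⟩ : HH D d₁) : QQ D d₁) := fun k => rfl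
  have hinj : Function.Injective f := by
    rw [injective_iff_map_eq_one]
    intro k hk
    rw [hfa, QuotientGroup.eq_one_iff] at hk
    rcases L.center_HH h₁ _ hk with h3 | h3
    · exact Subtype.ext h3
    · exfalso
      have h4 : (k : G) = d₁ := h3
      exact notMem_comm24 hP hD hprim h d₁ h₁ (h4 ▸ k.2.1)
  have hrange : f.range = HH (QD D d₁) (br D d₁ d₂ h₂) := by
    rw [hC2]
    ext q
    rw [Subgroup.mem_centralizer_singleton_iff]
    constructor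
    · rintro ⟨k, rfl⟩
      have h3 : (k : G) * d₂ = d₂ * k := ((Subgroup.mem_centralizer_iff.mp k.2.2) d₂ (by simp)).symm
      have h4 : (⟨(k : G), hle k.2⟩ : HH D d₁) * ⟨d₂, mem_HH h₂⟩ = ⟨d₂, mem_HH h₂⟩ * ⟨(k : G), hle k.2⟩ := Subtype.ext h3
      have h5 := congrArg (QuotientGroup.mk : HH D d₁ → QQ D d₁) h4
      rw [QuotientGroup.mk_mul, QuotientGroup.mk_mul] at h5
      exact h5
    · intro hq
      obtain ⟨g, rfl⟩ := QuotientGroup.mk_surjective q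
      have hgc : (g : G) * d₂ * (g : G)⁻¹ ∈ Dd D d₁ := Dd_conj_mem hD.2.1 g.2 h₂
      have h3 : br D d₁ _ hgc = br D d₁ d₂ h₂ := by
        have : br D d₁ _ hgc = (QuotientGroup.mk g : QQ D d₁) * br D d₁ d₂ h₂ * (QuotientGroup.mk g : QQ D d₁)⁻¹ := rfl
        rw [this, hq]; group
      have h4 := (br_inj hD.1 (L.nc d₁ h₁) _ _).mp h3
      have g2 : Commute (g : G) d₂ := mul_inv_eq_iff_eq_mul.mp h4
      have g1 : Commute (g : G) d₁ := (HH_commute g.2).symm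
      have hself : d₁ ∈ HH D d₁ := (rp24 hP hD hprim h d₁ h₁).mem_HH
      have hcen : ∀ x : G, Commute x d₁ → Commute x d₂ → x ∈ Subgroup.centralizer ({d₁, d₂} : Set G) := by
        intro x hx1 hx2
        rw [Subgroup.mem_centralizer_iff]
        rintro y (rfl | rfl)
        · exact hx1.symm.eq
        · exact hx2.symm.eq
      rcases Int.units_eq_one_or (χ g) with h5 | h5
      · exact ⟨⟨g, by rw [hker]; exact h5, hcen _ g1 g2⟩, rfl⟩
      · have h6 : (g : G) * d₁ ∈ K := by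
          refine ⟨?_, hcen _ (g1.mul_left (Commute.refl _)) (g2.mul_left h₂.2.2)⟩
          rw [hker]
          show χ ((g : G) * d₁) = 1
          rw [map_mul, h5, hχ d₁ h₁]; rfl
        refine ⟨⟨_, h6⟩, ?_⟩
        rw [hfa]
        have h7 : (⟨(g : G) * d₁, hle h6⟩ : HH D d₁) = g * ⟨d₁, hself⟩ := rfl
        have h8 : (QuotientGroup.mk (⟨d₁, hself⟩ : HH D d₁) : QQ D d₁) = 1 := by
          rw [QuotientGroup.eq_one_iff, mem_center_HH]
          intro y hy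
          exact hy.2.2
        rw [h7, QuotientGroup.mk_mul, h8, mul_one]
  exact ⟨(MonoidHom.ofInjective hinj).trans (MulEquiv.subgroupCongr hrange)⟩

theorem main65 (hP : PSU62Simple) (hD : IsThreeTranspositionGroup D) (hprim : IsPrimitiveUnderConj D)
    (h : IsOfTypeM24 G D) (h₁ : d₁ ∈ D) (h₂ : d₂ ∈ Dd D d₁) (K CL : Subgroup G)
    (hK : K = commutator G ⊓ Subgroup.centralizer ({d₁, d₂} : Set G))
    (hCL : CL = commutator G ⊓ Subgroup.centralizer ({d₁ * d₂} : Set G)) [hn : ((Subgroup.zpowers (d₁ * d₂)).subgroupOf CL).Normal] :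
    IsQuasisimple ↥K ∧ K = (generalizedFittingSubgroup ↥CL).map CL.subtype ∧ K ≤ CL ∧ (K.subgroupOf CL).index = 2 ∧ d₁ * d₂ ∈ K ∧
      Nonempty (↥CL ⧸ (Subgroup.zpowers (d₁ * d₂)).subgroupOf CL ≃* MulAut Cfsg.Spor.Fi22) := by
  obtain ⟨L, hpar, _, _, hcm, _⟩ := full24 hP hD hprim h
  obtain ⟨k1, k2, k3⟩ := prim24 hP hD hprim h d₁ h₁
  obtain ⟨χ, hχ⟩ := exists_sign hP hD hprim h
  have hker := ker_sign hP hD hprim h hχ
  have q1 := sq_one hD.1 h₁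
  have q2 := sq_one hD.1 h₂.1
  have memK : ∀ x : G, x ∈ K ↔ χ x = 1 ∧ Commute x d₁ ∧ Commute x d₂ := by
    intro x
    rw [hK, Subgroup.mem_inf, hker, MonoidHom.mem_ker, Subgroup.mem_centralizer_iff]
    constructor
    · rintro ⟨h3, h4⟩
      exact ⟨h3, (h4 d₁ (by simp)).symm, (h4 d₂ (by simp)).symm⟩
    · rintro ⟨h3, h4, h5⟩
      refine ⟨h3, ?_⟩
      rintro y (rfl | rfl)
      · exact h4.symm.eq
      · exact h5.symm.eq
  have memCL : ∀ x : G, x ∈ CL ↔ χ x = 1 ∧ Commute x (d₁ * d₂) := by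
    intro x
    rw [hCL, Subgroup.mem_inf, hker, MonoidHom.mem_ker, Subgroup.mem_centralizer_singleton_iff]
    rfl
  have hKCL : K ≤ CL := by
    intro x hx
    obtain ⟨h3, h4, h5⟩ := (memK x).mp hx
    exact (memCL x).mpr ⟨h3, h4.mul_right h5⟩
  have hjK : d₁ * d₂ ∈ K := by
    refine (memK _).mpr ⟨?_, ?_, ?_⟩
    · rw [map_mul, hχ d₁ h₁, hχ d₂ h₂.1]; rfl
    · exact (Commute.refl _).mul_left h₂.2.2.symm
    · exact h₂.2.2.mul_left (Commute.refl _)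
  have hqK : IsQuasisimple ↥K := by
    obtain ⟨e⟩ := pair_equiv hP hD hprim h h₁ h₂
    rw [hK]
    exact quasisimple_congr e.symm (quasi23 hP k1 k2 k3 (br_mem h₂))
  -- a swap in `CL`
  obtain ⟨s, s1, s2, s3⟩ : ∃ s : G, χ s = 1 ∧ s * d₁ * s⁻¹ = d₂ ∧ s * d₂ * s⁻¹ = d₁ := by
    obtain ⟨s, s1, s2⟩ := exists_swap hP hD hprim h h₁ h₂
    rcases Int.units_eq_one_or (χ s) with h3 | h3
    · exact ⟨s, h3, s1, s2⟩
    · refine ⟨s * d₁, by rw [map_mul, h3, hχ d₁ h₁]; rfl, ?_, ?_⟩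
      · have : s * d₁ * d₁ * (s * d₁)⁻¹ = s * d₁ * s⁻¹ := by group
        rw [this, s1]
      · have : s * d₁ * d₂ * (s * d₁)⁻¹ = s * (d₁ * d₂ * d₁⁻¹) * s⁻¹ := by group
        rw [this, conj_eq_self h₂.2.2, s2]
  have hsj : Commute s (d₁ * d₂) := by
    have : s * (d₁ * d₂) * s⁻¹ = d₁ * d₂ := by
      calc s * (d₁ * d₂) * s⁻¹ = (s * d₁ * s⁻¹) * (s * d₂ * s⁻¹) := by group
        _ = d₂ * d₁ := by rw [s2, s3]
        _ = d₁ * d₂ := h₂.2.2.symm.eq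
    exact mul_inv_eq_iff_eq_mul.mp this
  have hsCL : s ∈ CL := (memCL s).mpr ⟨s1, hsj⟩
  have hnot : ∀ {g : G}, g * d₁ * g⁻¹ = d₂ → ¬ Commute g d₁ := by
    intro g hg hc
    rw [conj_eq_self hc] at hg
    exact h₂.2.1 hg.symm
  -- index 2
  have hidx : (K.subgroupOf CL).index = 2 := by
    rw [Subgroup.index_eq_two_iff]
    refine ⟨⟨s, hsCL⟩, ?_⟩
    rintro ⟨b, hb⟩
    rw [Subgroup.mem_subgroupOf, Subgroup.mem_subgroupOf]
    show Xor (b * s ∈ K) (b ∈ K)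
    obtain ⟨b1, b2⟩ := (memCL b).mp hb
    rcases pair_fix hP hD hprim h h₁ h₂ b2 with ⟨b3, b4⟩ | ⟨b3, b4⟩
    · right
      refine ⟨(memK b).mpr ⟨b1, b3, b4⟩, ?_⟩
      intro hbs
      obtain ⟨_, c1, _⟩ := (memK _).mp hbs
      have e1 : b * s * d₁ * (b * s)⁻¹ = b * (s * d₁ * s⁻¹) * b⁻¹ := by group
      exact hnot (by rw [e1, s2, conj_eq_self b4]) c1
    · left
      refine ⟨(memK _).mpr ⟨by rw [map_mul, b1, s1, one_mul], ?_, ?_⟩, ?_⟩
      · have e1 : b * s * d₁ * (b * s)⁻¹ = b * (s * d₁ * s⁻¹) * b⁻¹ := by group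
        rw [s2, b4] at e1
        exact mul_inv_eq_iff_eq_mul.mp e1
      · have e1 : b * s * d₂ * (b * s)⁻¹ = b * (s * d₂ * s⁻¹) * b⁻¹ := by group
        rw [s3, b3] at e1
        exact mul_inv_eq_iff_eq_mul.mp e1
      · intro hbK
        exact hnot b3 ((memK b).mp hbK).2.1
  -- `Δ` is preserved
  have hΔ : ∀ g : G, Commute g (d₁ * d₂) → ∀ u ∈ Dd D d₁ ∩ Dd D d₂, g * u * g⁻¹ ∈ Dd D d₁ ∩ Dd D d₂ := by
    intro g hg u hu
    rcases pair_fix hP hD hprim h h₁ h₂ hg with ⟨b3, b4⟩ | ⟨b3, b4⟩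
    · refine ⟨?_, ?_⟩
      · have := Dd_conj L.tg.2.1 (g := g) hu.1
        rwa [conj_eq_self b3] at this
      · have := Dd_conj L.tg.2.1 (g := g) hu.2
        rwa [conj_eq_self b4] at this
    · refine ⟨?_, ?_⟩
      · have := Dd_conj L.tg.2.1 (g := g) hu.2
        rwa [b4] at this
      · have := Dd_conj L.tg.2.1 (g := g) hu.1
        rwa [b3] at this
  obtain ⟨u0, hu0⟩ : (Dd D d₁ ∩ Dd D d₂).Nonempty := by
    rw [← Set.ncard_pos (Set.toFinite _), hpar.c2 d₁ h₁ d₂ h₂]; norm_num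
  -- the centralizer of `K` in `CL`
  have hcenK : ∀ c ∈ CL, (∀ k ∈ K, Commute c k) → c ∈ K := by
    intro c hc hck
    obtain ⟨b1, b2⟩ := (memCL c).mp hc
    rcases pair_fix hP hD hprim h h₁ h₂ b2 with ⟨b3, b4⟩ | ⟨b3, b4⟩
    · exact (memK c).mpr ⟨b1, b3, b4⟩
    · exfalso
      have hu1 : u0 * d₁ ∈ K := by
        refine (memK _).mpr ⟨by rw [map_mul, hχ u0 hu0.1.1, hχ d₁ h₁]; rfl, ?_, ?_⟩
        · exact hu0.1.2.2.symm.mul_left (Commute.refl _)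
        · exact hu0.2.2.2.symm.mul_left h₂.2.2
      have h3 := conj_eq_self (hck _ hu1)
      have h4 : (c * u0 * c⁻¹) * d₂ = u0 * d₁ := by
        rw [← b3, ← h3]; group
      have hu' := hΔ c b2 u0 hu0
      set u' := c * u0 * c⁻¹ with hu'd
      have e12 : d₂ * d₁ = d₁ * d₂ := h₂.2.2.symm.eq
      have h5 : u' = u0 * d₁ * d₂ := by
        calc u' = u' * d₂ * d₂ := by rw [mul_assoc, q2, mul_one]
          _ = u0 * d₁ * d₂ := by rw [h4]
      have hne : u' ≠ u0 := by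
        intro he
        rw [he] at h4
        exact h₂.2.1 (mul_left_cancel h4)
      have cu : Commute u' u0 := by
        rw [h5]
        exact ((Commute.refl _).mul_left hu0.1.2.2).mul_left hu0.2.2.2
      apply nr24 hP hD hprim h 4 (by norm_num) (by norm_num)
      refine ⟨[u', u0, d₁, d₂], rfl, ?_, ?_, ?_, ?_⟩
      · simp [hne, hu'.1.2.1, hu'.2.2.1, hu0.1.2.1, hu0.2.2.1, Ne.symm h₂.2.1]
      · intro x hx
        simp only [List.mem_cons, List.not_mem_nil, or_false] at hx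
        rcases hx with rfl | rfl | rfl | rfl
        exacts [hu'.1.1, hu0.1.1, h₁, h₂.1]
      · intro x hx y hy
        simp only [List.mem_cons, List.not_mem_nil, or_false] at hx hy
        rcases hx with rfl | rfl | rfl | rfl <;> rcases hy with rfl | rfl | rfl | rfl
        exacts [Commute.refl _, cu, hu'.1.2.2.symm, hu'.2.2.2.symm, cu.symm, Commute.refl _, hu0.1.2.2.symm, hu0.2.2.2.symm,
          hu'.1.2.2, hu0.1.2.2, Commute.refl _, h₂.2.2, hu'.2.2.2, hu0.2.2.2, h₂.2.2.symm, Commute.refl _]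
      · have e0 : [u', u0, d₁, d₂].prod = u' * (u0 * d₁ * d₂) := by simp [mul_assoc]
        rw [e0, ← h5]
        exact sq_one hD.1 hu'.1.1
  haveI hNn : (K.subgroupOf CL).Normal := Subgroup.normal_of_index_eq_two hidx
  have hgf : generalizedFittingSubgroup ↥CL = K.subgroupOf CL := by
    apply Cfsg.Agent.Lib.H89MW.genFitting_of_quasisimple
    · exact quasisimple_congr (Subgroup.subgroupOfEquivOfLe hKCL).symm hqK
    · rintro ⟨c, hc⟩ hcc
      rw [Subgroup.mem_subgroupOf]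
      apply hcenK c hc
      intro k hk
      have := Subgroup.mem_centralizer_iff.mp hcc ⟨k, hKCL hk⟩ hk
      exact (congrArg Subtype.val this).symm
  refine ⟨hqK, ?_, hKCL, hidx, hjK, ?_⟩
  · rw [hgf, Subgroup.subgroupOf_map_subtype]
    exact (inf_eq_left.2 hKCL).symm
  -- the automorphisms
  obtain ⟨θ, _⟩ := gc24 hP hD hprim h h₁ h₂
  obtain ⟨g1, g2, g3⟩ := prim23 hP k1 k2 k3 _ (br_mem h₂)
  have A := gg22 hP g1 g2 g3
  have ho := out22 g1 g2 g3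
  obtain ⟨w, e22, _⟩ := FiIso22.exists_iso g1 g2 g3
  have hsq : ∀ x ∈ Dd D d₁ ∩ Dd D d₂, x * x = 1 := fun x hx => sq_one hD.1 hx.1.1
  have hexA : ∀ g : CL, ∃ e, Act θ (g : G) e := by
    intro g
    have hg := ((memCL g).mp g.2).2
    exact Act.exists θ A (hΔ g hg) (hΔ _ hg.inv_left)
  choose φ hφ using hexA
  let Φ : CL →* MulAut (QQ (QD D d₁) (br D d₁ d₂ h₂)) := MonoidHom.mk' φ (by
    intro g h
    exact Act.uniq θ A (hφ (g * h)) ((hφ g).mul θ (hφ h)))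
  have hΦ : ∀ g : CL, Act θ (g : G) (Φ g) := hφ
  have hkerΦ : Φ.ker = (Subgroup.zpowers (d₁ * d₂)).subgroupOf CL := by
    ext ⟨g, hg⟩
    rw [MonoidHom.mem_ker, Subgroup.mem_subgroupOf]
    obtain ⟨b1, b2⟩ := (memCL g).mp hg
    constructor
    · intro hg1
      have hfix : ∀ u ∈ Dd D d₁ ∩ Dd D d₂, g * u * g⁻¹ = u := by
        intro u hu
        obtain ⟨h3, h4⟩ := hΦ ⟨g, hg⟩ ⟨u, hu⟩
        rw [hg1] at h4
        have h5 := θ.f.injective (Subtype.ext h4)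
        exact (congrArg Subtype.val h5).symm
      rcases pair_fix hP hD hprim h h₁ h₂ b2 with ⟨b3, b4⟩ | ⟨b3, b4⟩
      · rcases cent_delta hP hD hprim h h₁ h₂ b3 (fun u hu => mul_inv_eq_iff_eq_mul.mp (hfix u hu)) with h3 | h3 | h3 | h3
        · show g ∈ _
          rw [h3]; exact one_mem _
        · exfalso; rw [h3, hχ d₁ h₁] at b1; exact absurd b1 (by decide)
        · exfalso; rw [h3, hχ d₂ h₂.1] at b1; exact absurd b1 (by decide)
        · show g ∈ _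
          rw [h3]; exact Subgroup.mem_zpowers _
      · exact (swap_outer hP hD hprim h h₁ h₂ b3 b4 (one_mem _) (fun u hu => by
          rw [hfix u hu]; group)).elim
    · intro hg1
      apply Act.uniq θ A (hΦ ⟨g, hg⟩)
      intro u
      have hgu : Commute g (u : G) := by
        obtain ⟨n, hn⟩ := Subgroup.mem_zpowers_iff.mp hg1
        have hn' : (d₁ * d₂) ^ n = g := hn
        rw [← hn']
        exact (u.2.1.2.2.mul_left u.2.2.2.2).zpow_left n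
      have h3 : g * u * g⁻¹ = u := conj_eq_self hgu
      refine ⟨by show g * u * g⁻¹ ∈ _; rw [h3]; exact u.2, ?_⟩
      show θ.f u = (θ.f ⟨g * u * g⁻¹, _⟩ : QQ (QD D d₁) (br D d₁ d₂ h₂))
      congr 2
      exact Subtype.ext h3.symm
  have hΔcl : ∀ t ∈ Subgroup.closure (Dd D d₁ ∩ Dd D d₂), Commute t d₁ ∧ Commute t d₂ := fun t ht =>
    ⟨commute_of_closure (fun x hx => hx.1.2.2.symm) ht, commute_of_closure (fun x hx => hx.2.2.2.symm) ht⟩
  have hinn : ∀ β ∈ Cfsg.Inn (QQ (QD D d₁) (br D d₁ d₂ h₂)), ∃ k : CL, Φ k = β := by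
    rintro _ ⟨q, rfl⟩
    obtain ⟨t, ht, hta⟩ := Act.inner θ A hsq q
    obtain ⟨t1, t2⟩ := hΔcl t ht
    rcases Int.units_eq_one_or (χ t) with h3 | h3
    · have htC : t ∈ CL := (memCL t).mpr ⟨h3, t1.mul_right t2⟩
      exact ⟨⟨t, htC⟩, Act.uniq θ A (hΦ ⟨t, htC⟩) hta⟩
    · have htC : t * d₁ ∈ CL := (memCL _).mpr ⟨by rw [map_mul, h3, hχ d₁ h₁]; rfl,
        (t1.mul_left (Commute.refl _)).mul_right (t2.mul_left h₂.2.2)⟩
      refine ⟨⟨t * d₁, htC⟩, Act.uniq θ A (hΦ ⟨t * d₁, htC⟩) ?_⟩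
      intro u
      obtain ⟨h4, h5⟩ := hta u
      have e1 : t * d₁ * u * (t * d₁)⁻¹ = t * u * t⁻¹ := by
        have : t * d₁ * u * (t * d₁)⁻¹ = t * (d₁ * u * d₁⁻¹) * t⁻¹ := by group
        rw [this, conj_eq_self u.2.1.2.2]
      refine ⟨by rw [e1]; exact h4, ?_⟩
      rw [h5]
      congr 2
      exact Subtype.ext e1.symm
  have hsout : Φ ⟨s, hsCL⟩ ∉ Cfsg.Inn (QQ (QD D d₁) (br D d₁ d₂ h₂)) := by
    rintro ⟨q, hq⟩
    obtain ⟨t, ht, hta⟩ := Act.inner θ A hsq q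
    apply swap_outer hP hD hprim h h₁ h₂ s2 s3 ht
    intro u hu
    obtain ⟨a1, a2⟩ := hΦ ⟨s, hsCL⟩ ⟨u, hu⟩
    obtain ⟨a3, a4⟩ := hta ⟨u, hu⟩
    rw [← hq] at a2
    have h5 := θ.f.injective (Subtype.ext (a2.symm.trans a4))
    exact congrArg Subtype.val h5
  have hsur : Function.Surjective Φ := by
    intro β
    by_cases hβ : β ∈ Cfsg.Inn (QQ (QD D d₁) (br D d₁ d₂ h₂))
    · exact hinn β hβ
    · have hidx2 : (Cfsg.Inn (QQ (QD D d₁) (br D d₁ d₂ h₂))).index = 2 := ho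
      have h3 : (Φ ⟨s, hsCL⟩)⁻¹ * β ∈ Cfsg.Inn (QQ (QD D d₁) (br D d₁ d₂ h₂)) := by
        rw [Subgroup.mul_mem_iff_of_index_two hidx2, inv_mem_iff]
        exact ⟨fun h => absurd h hsout, fun h => absurd h hβ⟩
      obtain ⟨k, hk⟩ := hinn _ h3
      exact ⟨⟨s, hsCL⟩ * k, by rw [map_mul, hk, mul_inv_cancel_left]⟩
  exact ⟨((QuotientGroup.quotientMulEquivOfEq hkerΦ.symm).trans (QuotientGroup.quotientKerEquivOfSurjective Φ hsur)).trans
    (MulAut.congr e22.symm)⟩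

end Cfsg.Agent.Lib.FiGlue
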