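import Mathlib

/-!
(helper67) An operator of prime order `r` without fixed vectors on a space of dimension `e`, where `e` is the
order of `q` modulo `r`, makes the space a one-dimensional space over a field of order `q ^ e`.
-/

set_option autoImplicit false

namespace Cfsg.Agent.Lib.FieldStruct67

open Module

universe u v w

/-- counting fixed points. -/
theorem card_modEq {F : Type u} {W : Type v} [Field F] [Finite F] [AddCommGroup W] [Module F W] [FiniteDimensional F W]
    {r : ℕ} [hr : Fact r.Prime] (T : End F W) (hT : T ^ r = 1) (hfix : ∀ x, T x = x → x = 0) :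
    r ∣ Nat.card F ^ finrank F W - 1 := by
  classical
  have hfin : Finite W := Module.finite_of_finite F
  have hf := Fintype.ofFinite W
  let f : Function.End W := fun x => T x
  have h1 := Equiv.Perm.card_fixedPoints_modEq (α := W) (f := f) (p := r) (n := 1) (by
    rw [pow_one]
    funext x
    have h2 : ∀ (k : ℕ) (x : W), (f ^ k) x = (T ^ k) x := by
      intro k
      induction k with
      | zero => intro x; rfl
      | succ k ih =>
        intro x
        rw [pow_succ, pow_succ]
        show (f ^ k) (T x) = (T ^ k) (T x)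
        exact ih _
    rw [h2, hT]; rfl)
  have h2 : Fintype.card (Function.fixedPoints f) = 1 := by
    rw [Fintype.card_eq_one_iff]
    refine ⟨⟨0, map_zero T⟩, ?_⟩
    rintro ⟨x, hx⟩
    exact Subtype.ext (hfix x hx)
  rw [h2] at h1
  have h3 : Fintype.card W = Nat.card F ^ finrank F W := by
    rw [← Nat.card_eq_fintype_card]; exact Module.natCard_eq_pow_finrank
  rw [h3] at h1
  have h4 : 1 ≤ Nat.card F ^ finrank F W := Nat.one_le_pow _ _ Nat.card_pos
  exact (Nat.modEq_iff_dvd' h4).1 h1.symm

theorem exists_field {F : Type u} {W : Type v} [Field F] [Finite F] [AddCommGroup W] [Module F W] [FiniteDimensional F W]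
    [Nontrivial W] {r : ℕ} [hr : Fact r.Prime] (hord : ∀ k, 0 < k → r ∣ Nat.card F ^ k - 1 → finrank F W ∣ k)
    (T : End F W) (hT : T ^ r = 1) (hfix : ∀ x, T x = x → x = 0) :
    ∃ (K : Type v) (_ : Field K) (_ : Finite K) (_ : Algebra F K) (_ : FiniteDimensional F K) (_ : Module K W)
      (_ : IsScalarTower F K W), finrank F K = finrank F W ∧ finrank K W = 1 ∧
      ∃ t : K, (∀ x : W, t • x = T x) ∧ Algebra.adjoin F {t} = ⊤ ∧
      ∀ S : End F W, S * T = T * S → ∃ ζ : K, ∀ x : W, ζ • x = S x := by
  classical
  have hWfin : Finite W := Module.finite_of_finite F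
  have hEfin : Finite (End F W) := Module.finite_of_finite F
  let K : Subalgebra F (End F W) := Algebra.adjoin F {T}
  have hTK : T ∈ K := Algebra.self_mem_adjoin_singleton F T
  have hcommT : ∀ k ∈ K, k * T = T * k := by
    intro k hk
    have h1 : K ≤ Subalgebra.centralizer F {T} := by
      apply Algebra.adjoin_le
      intro x hx
      rw [Set.mem_singleton_iff] at hx
      subst hx
      rw [SetLike.mem_coe, Subalgebra.mem_centralizer_iff]
      intro g hg
      rw [Set.mem_singleton_iff] at hg
      rw [hg]
    exact ((Subalgebra.mem_centralizer_iff F).1 (h1 hk) T rfl).symm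
  have hinj : ∀ k ∈ K, k ≠ 0 → ∀ v, k v = 0 → v = 0 := by
    intro k hk hk0 v hv
    by_contra hv0
    apply hk0
    have hinv : ∀ x ∈ LinearMap.ker k, T x ∈ LinearMap.ker k := by
      intro x hx
      rw [LinearMap.mem_ker] at hx ⊢
      have h1 := LinearMap.congr_fun (hcommT k hk) x
      rw [Module.End.mul_apply, Module.End.mul_apply, hx, map_zero] at h1
      exact h1
    let T' : End F (LinearMap.ker k) := T.restrict hinv
    have hT' : ∀ (j : ℕ) (x : LinearMap.ker k), (((T' ^ j) x : LinearMap.ker k) : W) = (T ^ j) x := by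
      intro j
      induction j with
      | zero => intro x; rfl
      | succ j ih =>
        intro x
        rw [pow_succ, pow_succ, Module.End.mul_apply, Module.End.mul_apply, ih]; rfl
    have h1 := card_modEq (F := F) (r := r) T' (by
      ext x
      rw [hT', hT]; rfl) (by
      intro x hx
      exact Subtype.ext (hfix x (congrArg Subtype.val hx)))
    have hpos : 0 < finrank F (LinearMap.ker k) := by
      have : Nontrivial (LinearMap.ker k) := ⟨⟨⟨v, hv⟩, 0, fun h => hv0 (congrArg Subtype.val h)⟩⟩
      exact finrank_pos
    have h2 := Nat.le_of_dvd hpos (hord _ hpos h1)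
    have h3 : LinearMap.ker k = ⊤ := Submodule.eq_top_of_finrank_eq (le_antisymm (Submodule.finrank_le _) h2)
    exact LinearMap.ker_eq_top.1 h3
  have hdom : IsDomain K := by
    have hntK : Nontrivial K := inferInstance
    have hnz : NoZeroDivisors K := by
      refine ⟨fun {a b} hab => ?_⟩
      by_contra hcon
      push Not at hcon
      obtain ⟨v, hv⟩ := exists_ne (0 : W)
      apply hv
      apply hinj b b.2 (fun h => hcon.2 (Subtype.ext h))
      apply hinj a a.2 (fun h => hcon.1 (Subtype.ext h))
      exact congrArg (fun T : K => (T : End F W) v) hab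
    exact NoZeroDivisors.to_isDomain K
  have hfield : IsField K := Finite.isDomain_to_isField K
  let _ : Field K := hfield.toField
  let t : K := ⟨T, hTK⟩
  have ht1 : t ≠ 1 := by
    intro h
    obtain ⟨v, hv⟩ := exists_ne (0 : W)
    apply hv
    apply hfix
    have : T = 1 := congrArg Subtype.val h
    rw [this]; rfl
  have htr : t ^ r = 1 := Subtype.ext hT
  have hto : orderOf t = r := orderOf_eq_prime htr ht1
  have hcardK : Nat.card K = Nat.card F ^ finrank F K := Module.natCard_eq_pow_finrank
  have hdvd : finrank F W ∣ finrank F K := by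
    apply hord _ finrank_pos
    rw [← hcardK, ← hto]
    have : Fintype K := Fintype.ofFinite K
    rw [Nat.card_eq_fintype_card]
    apply orderOf_dvd_of_pow_eq_one
    apply FiniteField.pow_card_sub_one_eq_one
    intro h0
    rw [h0, zero_pow hr.out.ne_zero] at htr
    exact zero_ne_one htr
  have hmul : finrank F K * finrank K W = finrank F W := Module.finrank_mul_finrank F K W
  have hWpos : 0 < finrank F W := finrank_pos
  have hKW : finrank K W = 1 := by
    obtain ⟨c, hc⟩ := hdvd
    rw [hc, mul_assoc] at hmul
    have h1 : c * finrank K W = 1 := by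
      apply Nat.eq_of_mul_eq_mul_left hWpos
      rw [hmul, mul_one]
    exact Nat.eq_one_of_mul_eq_one_left h1
  rw [hKW, mul_one] at hmul
  refine ⟨K, inferInstance, inferInstance, inferInstance, inferInstance, inferInstance, inferInstance, hmul, hKW, t,
    fun x => rfl, ?_, ?_⟩
  · rw [eq_top_iff]
    rintro ⟨k, hk⟩ _
    have h1 : K ≤ (Algebra.adjoin F {t}).map K.val := by
      apply Algebra.adjoin_le
      intro x hx
      rw [Set.mem_singleton_iff] at hx
      subst hx
      exact ⟨t, Algebra.self_mem_adjoin_singleton F t, rfl⟩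
    obtain ⟨k', hk', hkk⟩ := h1 hk
    have : k' = ⟨k, hk⟩ := Subtype.ext hkk
    rw [← this]; exact hk'
  · intro S hS
    obtain ⟨w0, hw0⟩ := exists_ne (0 : W)
    have h1 := (finrank_eq_one_iff_of_nonzero' (K := K) w0 hw0).1 hKW
    obtain ⟨ζ, hζ⟩ := h1 (S w0)
    refine ⟨ζ, fun x => ?_⟩
    obtain ⟨k, rfl⟩ := h1 x
    have hScomm : ∀ k ∈ K, S * k = k * S := by
      intro k hk
      have h1 : K ≤ Subalgebra.centralizer F {S} := by
        apply Algebra.adjoin_le
        intro x hx
        rw [Set.mem_singleton_iff] at hx
        subst hx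
        rw [SetLike.mem_coe, Subalgebra.mem_centralizer_iff]
        intro g hg
        rw [Set.mem_singleton_iff] at hg
        rw [hg]; exact hS
      exact (Subalgebra.mem_centralizer_iff F).1 (h1 hk) S rfl
    have h2 := LinearMap.congr_fun (hScomm k k.2) w0
    rw [smul_comm, hζ]
    exact h2.symm

end Cfsg.Agent.Lib.FieldStruct67
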