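import Cfsg.Agent.Lib.SL2Vals

/-! Degrees of the irreducible characters of `SL₂(q)`. -/

namespace Cfsg.Agent.Lib.SL2Deg

open Cfsg Classical Matrix ComplexConjugate
open Cfsg.Agent.Lib.SL2Basic Cfsg.Agent.Lib.SL2Tori Cfsg.Agent.Lib.SL2Int Cfsg.Agent.Lib.SL2Ind
open Cfsg.Agent.Lib.CharBasic Cfsg.Agent.Lib.LinChar Cfsg.Agent.Lib.SL2Ortho
open Cfsg.Agent.Lib.SL2Class Cfsg.Agent.Lib.SL2Vals

universe u

variable {F : Type u} [Field F]

local notation "SL2" => Matrix.SpecialLinearGroup (Fin 2) F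
local notation "M2" => Matrix (Fin 2) (Fin 2) F
local notation "q" => (Nat.card F : ℂ)

variable [Finite F] [Fintype (Matrix.SpecialLinearGroup (Fin 2) F)]
variable {A₀ : Matrix.SpecialLinearGroup (Fin 2) F}

/-- non-principal-series characters vanish on split elements -/
theorem vanish_ST {χ : SL2 → ℂ} (hχ : IsClassFunction SL2 χ)
    (h : ∀ α : MulChar F ℂ, classInner χ (R α) = 0) {g : SL2} (hg : g ∈ (ST : Set SL2)) : χ g = 0 := by
  have : Fintype (MulChar F ℂ) := Fintype.ofFinite _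
  obtain ⟨c, hc, rfl⟩ := exists_dg_of_mem_ST hg
  rw [value_ST hχ hc]
  simp [h]

/-- characters orthogonal to all cuspidal functions vanish on elliptic elements -/
theorem vanish_SC (h0 : IsEll A₀) {χ : SL2 → ℂ} (hχ : IsClassFunction SL2 χ)
    (h : ∀ θ : Subgroup.centralizer ({A₀} : Set (Matrix.SpecialLinearGroup (Fin 2) F)) →* ℂˣ,
      classInner χ (cusp θ) = 0) {g : SL2} (hg : g ∈ SC A₀) : χ g = 0 := by
  have := finite_homC (F := F) h0
  have : Fintype (Subgroup.centralizer ({A₀} : Set (Matrix.SpecialLinearGroup (Fin 2) F)) →* ℂˣ) :=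
    Fintype.ofFinite _
  have h1 := value_SC hχ h0 ⟨g, hg.1⟩ hg.2
  simp only [h, mul_zero, Finset.sum_const_zero, neg_zero] at h1
  exact h1

/-- value of a half principal series character on split elements -/
theorem half_ps_ST (h0 : IsEll A₀) {χ : SL2 → ℂ} (hχ : IsIrrCharacter SL2 χ) {α : MulChar F ℂ}
    (hα : α ^ 2 = 1) (hα1 : α ≠ 1) (h : classInner χ (R α) ≠ 0) {c : Fˣ} (hc : (c : F) ^ 2 ≠ 1) :
    χ (dg c) = α (c : F) := by
  have : Fintype (MulChar F ℂ) := Fintype.ofFinite _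
  obtain ⟨h1, h2, h3, h4⟩ := half_ps h0 hχ hα hα1 h
  rw [value_ST hχ.isClassFunction hc, Finset.sum_eq_single_of_mem α (Finset.mem_univ _), h1, mul_one]
  intro β _ hβ
  rw [h4 β hβ, mul_zero]

/-- value of a half cuspidal character on elliptic elements -/
theorem half_cusp_SC (h0 : IsEll A₀)
    {θ : Subgroup.centralizer ({A₀} : Set (Matrix.SpecialLinearGroup (Fin 2) F)) →* ℂˣ}
    {χ : SL2 → ℂ} (hχ : IsIrrCharacter SL2 χ)
    (hθ : θ ^ 2 = 1) (hθ1 : θ ≠ 1) (h : classInner χ (cusp θ) ≠ 0)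
    (t : Subgroup.centralizer ({A₀} : Set SL2)) (ht : (t : SL2) ∉ Subgroup.center SL2) :
    χ t = -(θ t : ℂ) := by
  have := finite_homC (F := F) h0
  have : Fintype (Subgroup.centralizer ({A₀} : Set (Matrix.SpecialLinearGroup (Fin 2) F)) →* ℂˣ) :=
    Fintype.ofFinite _
  obtain ⟨h1, h2, h3, h4⟩ := half_cusp h0 hχ hθ hθ1 h
  rw [value_SC hχ.isClassFunction h0 t ht, Finset.sum_eq_single_of_mem θ (Finset.mem_univ _), h1,
    mul_one]
  intro β _ hβ
  rw [h4 β hβ, mul_zero]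

/-- classification with degrees -/
theorem classify' (h0 : IsEll A₀) {χ : SL2 → ℂ} (hχ : IsIrrCharacter SL2 χ) :
    ∃ d : ℕ, χ 1 = d ∧ ((χ = 1 ∧ d = 1) ∨ (χ = St ∧ d = Nat.card F) ∨
    ((∃ α : MulChar F ℂ, α ^ 2 ≠ 1 ∧ χ = R α) ∧ d = Nat.card F + 1) ∨
    ((∃ θ : Subgroup.centralizer ({A₀} : Set (Matrix.SpecialLinearGroup (Fin 2) F)) →* ℂˣ,
      θ ^ 2 ≠ 1 ∧ χ = cusp θ) ∧ d + 1 = Nat.card F) ∨
    ((∃ α : MulChar F ℂ, α ^ 2 = 1 ∧ α ≠ 1 ∧ classInner χ (R α) ≠ 0) ∧ 2 * d = Nat.card F + 1) ∨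
    ((∃ θ : Subgroup.centralizer ({A₀} : Set (Matrix.SpecialLinearGroup (Fin 2) F)) →* ℂˣ,
      θ ^ 2 = 1 ∧ θ ≠ 1 ∧ classInner χ (cusp θ) ≠ 0) ∧ 2 * d + 1 = Nat.card F)) := by
  obtain ⟨d, hd0, hd⟩ := hχ.exists_degree
  refine ⟨d, hd, ?_⟩
  rcases classify h0 hχ with h | h | ⟨α, h1, h2⟩ | ⟨θ, h1, h2⟩ | ⟨α, h1, h2, h3⟩ | ⟨θ, h1, h2, h3⟩
  · left
    refine ⟨h, ?_⟩
    rw [h, Pi.one_apply] at hd
    exact_mod_cast hd.symm
  · right; left
    refine ⟨h, ?_⟩
    rw [h, St_one] at hd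
    exact_mod_cast hd.symm
  · right; right; left
    refine ⟨⟨α, h1, h2⟩, ?_⟩
    rw [h2, R_one] at hd
    exact_mod_cast hd.symm
  · right; right; right; left
    refine ⟨⟨θ, h1, h2⟩, ?_⟩
    rw [h2, cusp_one θ h0] at hd
    have : (d : ℂ) + 1 = q := by linear_combination -hd
    exact_mod_cast this
  · right; right; right; right; left
    have hne : classInner χ (R α) ≠ 0 := by rw [h3]; exact one_ne_zero
    refine ⟨⟨α, h1, h2, hne⟩, ?_⟩
    have h4 := (half_ps h0 hχ h1 h2 hne).2.1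
    rw [hd] at h4
    exact_mod_cast h4
  · right; right; right; right; right
    have hne : classInner χ (cusp θ) ≠ 0 := by rw [h3]; exact one_ne_zero
    refine ⟨⟨θ, h1, h2, hne⟩, ?_⟩
    have h4 := (half_cusp h0 hχ h1 h2 hne).2.1
    rw [hd] at h4
    have : 2 * (d : ℂ) + 1 = q := by linear_combination h4
    exact_mod_cast this

theorem eq_St_of_deg {χ : SL2 → ℂ} (hχ : IsIrrCharacter SL2 χ) (h : χ 1 = q) : χ = St := by
  obtain ⟨A₀, h0⟩ := exists_isEll (F := F)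
  obtain ⟨d, hd, hcases⟩ := classify' h0 hχ
  have hdq : d = Nat.card F := by
    rw [hd] at h; exact_mod_cast h
  have hq2 : 2 ≤ Nat.card F := two_le_q
  rcases hcases with h | h | h | h | h | h
  · omega
  · exact h.1
  · omega
  · omega
  · omega
  · omega

omit [Finite F] [Fintype (Matrix.SpecialLinearGroup (Fin 2) F)] in
theorem sum_unip_of_class {χ : SL2 → ℂ} [Fintype F] : χ 1 + ∑ b : Fˣ, χ (uu (b : F)) = ∑ b : F, χ (uu b) := by
  have e1 : ∑ b : Fˣ, χ (uu (b : F)) = ∑ b ∈ Finset.univ.erase (0 : F), χ (uu b) := by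
    refine Finset.sum_bij (fun b _ => (b : F)) ?_ ?_ ?_ ?_
    · intro b _; simp
    · intro a _ b _ h; exact Units.ext h
    · intro b hb
      simp only [Finset.mem_erase, Finset.mem_univ, and_true] at hb
      exact ⟨Units.mk0 b hb, Finset.mem_univ _, rfl⟩
    · intro b _; rfl
  rw [e1]
  have e2 : χ 1 = χ (uu 0) := by
    congr 1
    apply ext2 <;> simp [coe_uu]
  rw [e2]
  exact Finset.add_sum_erase Finset.univ (fun b : F => χ (uu b)) (Finset.mem_univ 0)

/-- sum over the unipotent subgroup -/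
theorem sumU_eq {χ : SL2 → ℂ} (hχ : IsClassFunction SL2 χ) [Fintype F] [Fintype (MulChar F ℂ)] :
    ∑ b : F, χ (uu b) = q * ∑ α : MulChar F ℂ, classInner χ (R α) := by
  rw [← sum_unip_of_class, ← sum_inner_R hχ]

theorem sum_inner_R_R [Fintype (MulChar F ℂ)] (α : MulChar F ℂ) :
    ∑ β : MulChar F ℂ, classInner (R α) (R β) = 2 := by
  have h2 : ∀ β : MulChar F ℂ, classInner (R α) (R β) =
      (if β = α then 1 else 0) + (if β = α⁻¹ then 1 else 0) := by
    intro β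
    rw [inner_R_R]
    congr 1
    · congr 1
      exact propext eq_comm
    · congr 1
      exact propext ⟨fun h => by rw [h, inv_inv], fun h => by rw [h, inv_inv]⟩
  rw [Finset.sum_congr rfl (fun β _ => h2 β), Finset.sum_add_distrib]
  simp only [Finset.sum_ite_eq', Finset.mem_univ, if_true]
  norm_num

end Cfsg.Agent.Lib.SL2Deg
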