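import Cfsg.Prelude.Def_DegreeGraph
import Cfsg.Agent.Lib.SL2Deg
import Cfsg.Agent.Lib.BlockDeg

/-! Degrees of the irreducible characters of `SL₂(q)` and `PSL₂(q)` (helper65). -/

set_option autoImplicit false
open Cfsg

namespace Cfsg.Agent.PSL2Degrees

open Cfsg.Agent.Lib.SL2Basic Cfsg.Agent.Lib.SL2Tori Cfsg.Agent.Lib.SL2Int Cfsg.Agent.Lib.SL2Ind Cfsg.Agent.Lib.SL2Ortho Cfsg.Agent.Lib.SL2Class Cfsg.Agent.Lib.SL2Vals Cfsg.Agent.Lib.SL2Deg

universe u v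

section

variable {F : Type u} [Field F] [Finite F] [Fintype (Matrix.SpecialLinearGroup (Fin 2) F)]

local notation "SL2" => Matrix.SpecialLinearGroup (Fin 2) F

theorem exists_St : ∃ ψ : Matrix.ProjectiveSpecialLinearGroup (Fin 2) F → ℂ,
    IsIrrCharacter (Matrix.ProjectiveSpecialLinearGroup (Fin 2) F) ψ ∧ (∀ g : SL2, ψ g = St g) := by
  refine (St_isIrr (F := F)).deflate (Subgroup.center SL2) ?_
  intro z hz
  rw [St_one]
  change R 1 z - 1 = _
  rw [R_center 1 hz]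
  have h0 : ((z : Matrix (Fin 2) (Fin 2) F) 0 0) ≠ 0 := by
    intro h
    have h1 := (mem_Zs (F := F)).2 hz
    simp only [Zs, Finset.mem_insert, Finset.mem_singleton] at h1
    rcases h1 with rfl | rfl <;> simp at h
  rw [MulChar.one_apply (IsUnit.mk0 _ h0)]
  ring

theorem entry_cases {z : SL2} (hz : z ∈ Subgroup.center SL2) :
    ((z : Matrix (Fin 2) (Fin 2) F) 0 0) = 1 ∨ ((z : Matrix (Fin 2) (Fin 2) F) 0 0) = -1 := by
  have h1 := (mem_Zs (F := F)).2 hz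
  simp only [Zs, Finset.mem_insert, Finset.mem_singleton] at h1
  rcases h1 with rfl | rfl <;> simp

theorem center_sq {z : SL2} (hz : z ∈ Subgroup.center SL2) : z * z = 1 := by
  have h1 := (mem_Zs (F := F)).2 hz
  simp only [Zs, Finset.mem_insert, Finset.mem_singleton] at h1
  rcases h1 with rfl | rfl <;> simp

theorem exists_R (hq : ¬ (Nat.card F - 1) ∣ 4) : ∃ ψ : Matrix.ProjectiveSpecialLinearGroup (Fin 2) F → ℂ,
    IsIrrCharacter (Matrix.ProjectiveSpecialLinearGroup (Fin 2) F) ψ ∧ ψ 1 = Nat.card F + 1 := by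
  classical
  have : Fintype F := Fintype.ofFinite F
  have hn : Nat.card F - 1 ≠ 0 := by
    have := Finite.one_lt_card (α := F); omega
  have hprim : IsPrimitiveRoot (Complex.exp (2 * Real.pi * Complex.I / ((Nat.card F - 1 : ℕ) : ℂ))) (Nat.card F - 1) :=
    Complex.isPrimitiveRoot_exp _ hn
  obtain ⟨β, hβ⟩ := MulChar.exists_mulChar_orderOf F (n := Nat.card F - 1)
    (by rw [Nat.card_eq_fintype_card]) hprim
  have hα : (β ^ 2) ^ 2 ≠ 1 := by
    rw [← pow_mul]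
    intro h
    apply hq
    rw [← hβ]
    exact orderOf_dvd_of_pow_eq_one h
  obtain ⟨ψ, h1, h2⟩ := (R_isIrr (F := F) hα).deflate (Subgroup.center SL2) (by
    intro z hz
    rw [R_center _ hz, R_one]
    have : (β ^ 2) ((z : Matrix (Fin 2) (Fin 2) F) 0 0) = 1 := by
      rcases entry_cases hz with h | h
      · rw [h, map_one]
      · rw [h, MulChar.pow_apply' _ two_ne_zero, ← map_pow]; simp
    rw [this, mul_one])
  refine ⟨ψ, h1, ?_⟩
  have := h2 1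
  rw [R_one] at this
  exact this

theorem exists_cusp (hq : ¬ (Nat.card F + 1) ∣ 4) : ∃ ψ : Matrix.ProjectiveSpecialLinearGroup (Fin 2) F → ℂ,
    IsIrrCharacter (Matrix.ProjectiveSpecialLinearGroup (Fin 2) F) ψ ∧ ψ 1 = Nat.card F - 1 := by
  classical
  obtain ⟨A₀, h0⟩ := exists_isEll (F := F)
  have hcyc := C_cyclic h0
  have hcard := C_card h0
  obtain ⟨c, hc⟩ := hcyc.exists_generator
  have hoc : orderOf c = Nat.card F + 1 := by
    rw [orderOf_eq_card_of_forall_mem_zpowers hc, hcard]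
  have hn : Nat.card F + 1 ≠ 0 := by omega
  obtain ⟨ζ, hζ⟩ : ∃ ζ : ℂˣ, orderOf ζ = Nat.card F + 1 := by
    have hprim := Complex.isPrimitiveRoot_exp _ hn
    have hu := hprim.isUnit hn
    refine ⟨hu.unit, ?_⟩
    rw [← orderOf_units, IsUnit.unit_spec]
    exact hprim.eq_orderOf.symm
  let η : Subgroup.centralizer ({A₀} : Set SL2) →* ℂˣ :=
    monoidHomOfForallMemZpowers hc (g' := ζ) (by rw [hζ, hoc])
  have hη : η c = ζ := monoidHomOfForallMemZpowers_apply_gen hc _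
  have hθ : (η ^ 2) ^ 2 ≠ 1 := by
    intro h
    have h1 : ((η ^ 2) ^ 2) c = 1 := by rw [h]; rfl
    have h2 : ζ ^ 4 = 1 := by
      have : ((η ^ 2) ^ 2) c = (η c) ^ 4 := by
        change ((η c) ^ 2) ^ 2 = _
        rw [← pow_mul]
      rw [this, hη] at h1
      exact h1
    apply hq
    rw [← hζ]
    exact orderOf_dvd_of_pow_eq_one h2
  obtain ⟨ψ, h1, h2⟩ := (cusp_isIrr (F := F) (θ := η ^ 2) h0 hθ).deflate (Subgroup.center SL2) (by
    intro z hz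
    have hzZ : z ∈ Zs F := mem_Zs.2 hz
    rw [cusp_Zs _ h0 hzZ, cusp_one _ h0]
    have h3 := xt_coe (η ^ 2) ⟨z, mem_C_of_Zs hzZ A₀⟩
    simp only at h3
    rw [h3]
    have : (η ^ 2) (⟨z, mem_C_of_Zs hzZ A₀⟩ : Subgroup.centralizer ({A₀} : Set SL2)) = 1 := by
      change (η ⟨z, mem_C_of_Zs hzZ A₀⟩) ^ 2 = 1
      rw [← map_pow]
      have h4 : (⟨z, mem_C_of_Zs hzZ A₀⟩ : Subgroup.centralizer ({A₀} : Set SL2)) ^ 2 = 1 := by
        apply Subtype.ext
        change z ^ 2 = 1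
        rw [pow_two]; exact center_sq hz
      rw [h4, map_one]
    rw [this]; simp)
  refine ⟨ψ, h1, ?_⟩
  have := h2 1
  rw [cusp_one _ h0] at this
  exact this

end

/-- the data about degrees -/
structure Degs (S : Type v) [Group S] (q : ℕ) : Prop where
  all : ∀ χ : S → ℂ, IsIrrCharacter S χ → ∃ d : ℕ, χ 1 = d ∧ (d = 1 ∨ d = q ∨ d ∣ q + 1 ∨ d ∣ q - 1)
  deg_q : ∃ χ : S → ℂ, IsIrrCharacter S χ ∧ χ 1 = q
  deg_succ : ∃ χ : S → ℂ, IsIrrCharacter S χ ∧ χ 1 = ((q + 1 : ℕ) : ℂ)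
  deg_pred : ∃ χ : S → ℂ, IsIrrCharacter S χ ∧ χ 1 = ((q - 1 : ℕ) : ℂ)

theorem Degs.of_equiv {S : Type v} [Group S] {T : Type u} [Group T] {q : ℕ} (h : Degs S q) (e : T ≃* S) :
    Degs T q := by
  have key : ∀ χ : S → ℂ, IsIrrCharacter S χ → IsIrrCharacter T (fun t => χ (e t)) := fun χ hχ =>
    hχ.comp_surjective e.toMonoidHom e.surjective
  refine ⟨?_, ?_, ?_, ?_⟩
  · intro χ hχ
    have h1 := hχ.comp_surjective e.symm.toMonoidHom e.symm.surjective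
    obtain ⟨d, hd, hc⟩ := h.all _ h1
    refine ⟨d, ?_, hc⟩
    rw [← hd]
    congr 1
    exact (map_one e.symm).symm
  · obtain ⟨χ, h1, h2⟩ := h.deg_q
    exact ⟨_, key χ h1, by simpa using h2⟩
  · obtain ⟨χ, h1, h2⟩ := h.deg_succ
    exact ⟨_, key χ h1, by simpa using h2⟩
  · obtain ⟨χ, h1, h2⟩ := h.deg_pred
    exact ⟨_, key χ h1, by simpa using h2⟩

theorem all_sl {F : Type u} [Field F] [Finite F] (χ : Matrix.SpecialLinearGroup (Fin 2) F → ℂ)
    (hχ : IsIrrCharacter _ χ) : ∃ d : ℕ, χ 1 = d ∧ (d = 1 ∨ d = Nat.card F ∨ d ∣ Nat.card F + 1 ∨ d ∣ Nat.card F - 1) := by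
  have : Fintype (Matrix.SpecialLinearGroup (Fin 2) F) := Fintype.ofFinite _
  obtain ⟨A₀, h0⟩ := exists_isEll (F := F)
  obtain ⟨d, hd, hc⟩ := classify' h0 hχ
  refine ⟨d, hd, ?_⟩
  rcases hc with h | h | h | h | h | h
  · exact Or.inl h.2
  · exact Or.inr (Or.inl h.2)
  · exact Or.inr (Or.inr (Or.inl (by rw [h.2])))
  · exact Or.inr (Or.inr (Or.inr (by
      have := h.2
      rw [show Nat.card F - 1 = d by omega])))
  · exact Or.inr (Or.inr (Or.inl (Dvd.intro_left 2 h.2)))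
  · exact Or.inr (Or.inr (Or.inr (Dvd.intro_left 2 (by have := h.2; omega))))

theorem degs_psl {F : Type u} [Field F] [Finite F] {q : ℕ} (hF : Nat.card F = q) (hq : q = 4 ∨ 5 < q) :
    Degs (Matrix.ProjectiveSpecialLinearGroup (Fin 2) F) q := by
  have : Fintype (Matrix.SpecialLinearGroup (Fin 2) F) := Fintype.ofFinite _
  subst hF
  have h1 : ¬ (Nat.card F - 1) ∣ 4 := by
    intro h
    rcases hq with h' | h'
    · rw [h'] at h; exact absurd h (by decide)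
    · have := Nat.le_of_dvd (by norm_num) h
      omega
  have h2 : ¬ (Nat.card F + 1) ∣ 4 := by
    intro h
    have := Nat.le_of_dvd (by norm_num) h
    rcases hq with h' | h' <;> omega
  refine ⟨?_, ?_, ?_, ?_⟩
  · intro χ hχ
    have h3 : IsIrrCharacter (Matrix.SpecialLinearGroup (Fin 2) F)
        (fun g => χ (g : Matrix.SpecialLinearGroup (Fin 2) F ⧸ Subgroup.center (Matrix.SpecialLinearGroup (Fin 2) F))) :=
      IsIrrCharacter.inflate (Subgroup.center _) hχ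
    obtain ⟨d, hd, hc⟩ := all_sl _ h3
    exact ⟨d, hd, hc⟩
  · obtain ⟨ψ, h3, h4⟩ := exists_St (F := F)
    refine ⟨ψ, h3, ?_⟩
    have := h4 1
    rw [St_one] at this
    exact this
  · obtain ⟨ψ, h3, h4⟩ := exists_R (F := F) h1
    exact ⟨ψ, h3, by rw [h4]; push_cast; rfl⟩
  · obtain ⟨ψ, h3, h4⟩ := exists_cusp (F := F) h2
    refine ⟨ψ, h3, ?_⟩
    rw [h4, Nat.cast_sub (by have := Finite.one_lt_card (α := F); omega)]
    simp

theorem degs_sl {F : Type u} [Field F] [Finite F] {q : ℕ} (hF : Nat.card F = q) (hq : q = 4 ∨ 5 < q) :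
    Degs (Matrix.SpecialLinearGroup (Fin 2) F) q := by
  have h := degs_psl hF hq
  have key : ∀ χ : Matrix.ProjectiveSpecialLinearGroup (Fin 2) F → ℂ, IsIrrCharacter _ χ →
      IsIrrCharacter (Matrix.SpecialLinearGroup (Fin 2) F)
        (fun g => χ (g : Matrix.SpecialLinearGroup (Fin 2) F ⧸ Subgroup.center (Matrix.SpecialLinearGroup (Fin 2) F))) :=
    fun χ hχ => IsIrrCharacter.inflate (Subgroup.center _) hχ
  refine ⟨?_, ?_, ?_, ?_⟩
  · intro χ hχ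
    rw [← hF]
    exact all_sl χ hχ
  · obtain ⟨χ, h1, h2⟩ := h.deg_q
    exact ⟨_, key χ h1, h2⟩
  · obtain ⟨χ, h1, h2⟩ := h.deg_succ
    exact ⟨_, key χ h1, h2⟩
  · obtain ⟨χ, h1, h2⟩ := h.deg_pred
    exact ⟨_, key χ h1, h2⟩

theorem charDegree_of_one {S : Type v} [Group S] {χ : S → ℂ} {d : ℕ} (h : χ 1 = d) : charDegree χ = d := by
  unfold charDegree
  rw [h]; simp

theorem Degs.mem {S : Type v} [Group S] {q : ℕ} (h : Degs S q) (d : ℕ) (hd : d ∈ charDegrees S) :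
    d = 1 ∨ d = q ∨ d ∣ q + 1 ∨ d ∣ q - 1 := by
  obtain ⟨⟨χ, hχ⟩, rfl⟩ := hd
  obtain ⟨d, h1, h2⟩ := h.all χ hχ
  rw [charDegree_of_one h1]; exact h2

theorem Degs.mem_q {S : Type v} [Group S] {q : ℕ} (h : Degs S q) : q ∈ charDegrees S := by
  obtain ⟨χ, h1, h2⟩ := h.deg_q
  exact ⟨⟨χ, h1⟩, charDegree_of_one h2⟩
theorem Degs.mem_succ {S : Type v} [Group S] {q : ℕ} (h : Degs S q) : q + 1 ∈ charDegrees S := by
  obtain ⟨χ, h1, h2⟩ := h.deg_succ
  exact ⟨⟨χ, h1⟩, charDegree_of_one h2⟩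
theorem Degs.mem_pred {S : Type v} [Group S] {q : ℕ} (h : Degs S q) : q - 1 ∈ charDegrees S := by
  obtain ⟨χ, h1, h2⟩ := h.deg_pred
  exact ⟨⟨χ, h1⟩, charDegree_of_one h2⟩

theorem prime_dvd_cases {r q : ℕ} (hr : r.Prime) (h : r ∣ q ^ 2 - 1) : r ∣ q + 1 ∨ r ∣ q - 1 := by
  have : q ^ 2 - 1 = (q + 1) * (q - 1) := by
    have := Nat.sq_sub_sq q 1
    simpa using this
  rw [this] at h
  exact (Nat.Prime.dvd_mul hr).1 h

theorem dvd_sq_left {r q : ℕ} (h : r ∣ q + 1) : r ∣ q ^ 2 - 1 := by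
  have : q ^ 2 - 1 = (q + 1) * (q - 1) := by
    have := Nat.sq_sub_sq q 1
    simpa using this
  rw [this]; exact h.mul_right _

theorem dvd_sq_right {r q : ℕ} (h : r ∣ q - 1) : r ∣ q ^ 2 - 1 := by
  have : q ^ 2 - 1 = (q + 1) * (q - 1) := by
    have := Nat.sq_sub_sq q 1
    simpa using this
  rw [this]; exact h.mul_left _

theorem Degs.primes {S : Type v} [Group S] {q : ℕ} (h : Degs S q) :
    degreePrimes S = {r : ℕ | r.Prime ∧ r ∣ q * (q ^ 2 - 1)} := by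
  ext r
  constructor
  · rintro ⟨hr, d, hd, hrd⟩
    refine ⟨hr, ?_⟩
    rcases h.mem d hd with rfl | rfl | h1 | h1
    · exact absurd (Nat.dvd_one.1 hrd) hr.one_lt.ne'
    · exact hrd.mul_right _
    · exact (dvd_sq_left (hrd.trans h1)).mul_left _
    · exact (dvd_sq_right (hrd.trans h1)).mul_left _
  · rintro ⟨hr, hrd⟩
    refine ⟨hr, ?_⟩
    rcases (Nat.Prime.dvd_mul hr).1 hrd with h1 | h1
    · exact ⟨_, h.mem_q, h1⟩
    · rcases prime_dvd_cases hr h1 with h2 | h2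
      · exact ⟨_, h.mem_succ, h2⟩
      · exact ⟨_, h.mem_pred, h2⟩

theorem Degs.adj {S : Type v} [Group S] {q t k : ℕ} (h : Degs S q) (ht : t.Prime) (hqt : q = t ^ k) (r s : ℕ) :
    (degreeGraph S).Adj r s ↔ (r ≠ s ∧ r.Prime ∧ s.Prime ∧ ((r ∣ q + 1 ∧ s ∣ q + 1) ∨ (r ∣ q - 1 ∧ s ∣ q - 1))) := by
  constructor
  · rintro ⟨hrs, hr, hs, d, hd, hrd⟩
    refine ⟨hrs, hr, hs, ?_⟩
    have h1 : r ∣ d := (Dvd.intro _ rfl).trans hrd
    have h2 : s ∣ d := (Dvd.intro_left _ rfl).trans hrd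
    rcases h.mem d hd with rfl | rfl | h3 | h3
    · exact absurd (Nat.dvd_one.1 h1) hr.one_lt.ne'
    · exfalso
      rw [hqt] at h1 h2
      have e1 := (Nat.prime_dvd_prime_iff_eq hr ht).1 (hr.dvd_of_dvd_pow h1)
      have e2 := (Nat.prime_dvd_prime_iff_eq hs ht).1 (hs.dvd_of_dvd_pow h2)
      exact hrs (e1.trans e2.symm)
    · exact Or.inl ⟨h1.trans h3, h2.trans h3⟩
    · exact Or.inr ⟨h1.trans h3, h2.trans h3⟩
  · rintro ⟨hrs, hr, hs, h1⟩
    have hcop : r.Coprime s := (Nat.coprime_primes hr hs).2 hrs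
    refine ⟨hrs, hr, hs, ?_⟩
    rcases h1 with h1 | h1
    · exact ⟨_, h.mem_succ, hcop.mul_dvd_of_dvd_of_dvd h1.1 h1.2⟩
    · exact ⟨_, h.mem_pred, hcop.mul_dvd_of_dvd_of_dvd h1.1 h1.2⟩

end Cfsg.Agent.PSL2Degrees
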