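import Mathlib
import Cfsg.Agent.Lib.FirstCol
import Cfsg.Agent.Lib.CSPz
import Cfsg.Agent.Lib.CSPs
import Cfsg.Agent.Lib.PSL2Degrees
import Cfsg.Agent.S2435
import Cfsg.Agent.Lib.ClSmall
import Cfsg.Agent.Lib.ClSeven
import Cfsg.Agent.Lib.SL25
import Cfsg.Agent.Lib.CITRad3

/-!
# The first column of the character table of `PSL(2,p²)` (helper69)
-/

set_option autoImplicit false

namespace Cfsg.Agent.Lib.FirstCol

open Cfsg Cfsg.Agent.Lib.CharBasic Cfsg.Agent.Lib.ColTools Subgroup

universe u v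

section PSL

open Cfsg.Agent.Lib.SL2Basic Cfsg.Agent.Lib.SL2Tori Cfsg.Agent.Lib.SL2Int Cfsg.Agent.Lib.SL2Ind Cfsg.Agent.Lib.SL2Ortho Cfsg.Agent.Lib.SL2Class Cfsg.Agent.Lib.SL2Vals Cfsg.Agent.Lib.SL2Deg

variable {F : Type u} [Field F] [Fintype F]

local notation "SL2" => Matrix.SpecialLinearGroup (Fin 2) F
local notation "PSL2" => Matrix.ProjectiveSpecialLinearGroup (Fin 2) F

omit [Fintype F] in
theorem no_eigen {g : SL2} (h : IsEll g) (c : F) (v : Fin 2 → F) (hv : v ≠ 0) :
    (g : Matrix (Fin 2) (Fin 2) F).mulVec v ≠ c • v := by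
  intro h1
  apply h c
  have h2 : ((g : Matrix (Fin 2) (Fin 2) F) - c • (1 : Matrix (Fin 2) (Fin 2) F)).det = 0 := by
    apply Matrix.exists_mulVec_eq_zero_iff.1
    exact ⟨v, hv, by rw [Matrix.sub_mulVec, h1, Matrix.smul_mulVec, Matrix.one_mulVec, sub_self]⟩
  rw [Matrix.det_fin_two] at h2
  simp only [Matrix.sub_apply, Matrix.smul_apply, Matrix.one_apply_eq, smul_eq_mul, mul_one] at h2
  have hd := det2 g
  have e01 : (1 : Matrix (Fin 2) (Fin 2) F) 0 1 = 0 := rfl
  have e10 : (1 : Matrix (Fin 2) (Fin 2) F) 1 0 = 0 := rfl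
  rw [e01, e10, mul_zero, sub_zero, sub_zero] at h2
  have ht : tr g = (g : Matrix (Fin 2) (Fin 2) F) 0 0 + (g : Matrix (Fin 2) (Fin 2) F) 1 1 := rfl
  rw [ht]
  linear_combination h2 - hd

theorem psl_degs (hodd : Odd (Fintype.card F)) (h4 : Fintype.card F % 4 = 1) (hq : 5 ≤ Fintype.card F)
    (χ : IrrCharacter PSL2) (hχ : χ ≠ triv PSL2) :
    deg χ = Fintype.card F ∨ deg χ = Fintype.card F + 1 ∨ deg χ = Fintype.card F - 1 ∨
      2 * deg χ = Fintype.card F + 1 := by
  classical
  have : Fintype SL2 := Fintype.ofFinite _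
  have hqn : Nat.card F = Fintype.card F := Nat.card_eq_fintype_card
  set χ' : SL2 → ℂ := fun g => (χ : PSL2 → ℂ) (g : SL2 ⧸ Subgroup.center SL2) with hχ'
  have h3 : IsIrrCharacter SL2 χ' := IsIrrCharacter.inflate (Subgroup.center _) χ.2
  obtain ⟨A₀, h0⟩ := exists_isEll (F := F)
  obtain ⟨d, hd, hc⟩ := classify' h0 h3
  have hdeg : deg χ = d := by
    have h5 : χ' 1 = (χ : PSL2 → ℂ) 1 := rfl
    rw [h5, apply_one] at hd
    exact_mod_cast hd
  rw [hqn] at hc
  rcases hc with h | h | h | h | h | h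
  · exfalso
    apply hχ
    apply Subtype.ext
    funext x
    obtain ⟨g, rfl⟩ := QuotientGroup.mk_surjective x
    exact congrFun h.1 g
  · left; rw [hdeg]; exact h.2
  · right; left; rw [hdeg]; exact h.2
  · right; right; left; rw [hdeg]; have := h.2; omega
  · right; right; right; rw [hdeg]; exact h.2
  · exfalso
    have h2d := h.2
    have hval := hd
    have e1 : d = (Fintype.card F - 1) / 2 := by omega
    rw [e1] at hval
    have key : ∀ g : SL2, IsEll g → (g ^ ((Fintype.card F + 1) / 2) = 1 → χ' g = -1) ∧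
        (g ^ ((Fintype.card F + 1) / 2) ≠ 1 → χ' g = 1) := by
      intro g hg
      obtain ⟨h5, h6⟩ := (Cfsg.Agent.S2435.result hodd hq χ' h3 g).2 hval (no_eigen hg)
      constructor
      · intro h7
        apply h5
        rw [← Matrix.SpecialLinearGroup.coe_pow, h7, Matrix.SpecialLinearGroup.coe_one]
      · intro h7
        apply h6
        intro h8
        apply h7
        apply Subtype.ext
        exact (Matrix.SpecialLinearGroup.coe_pow g _).trans h8
    have hneg : IsEll (-A₀) := by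
      intro c hc0
      apply h0 (-c)
      have ht : tr (-A₀) = - tr A₀ := by
        simp only [tr, Matrix.SpecialLinearGroup.coe_neg, Matrix.neg_apply]
        ring
      rw [ht] at hc0
      linear_combination hc0
    have hsame : χ' (-A₀) = χ' A₀ := by
      change (χ : PSL2 → ℂ) (BinPslA.mk (-A₀)) = (χ : PSL2 → ℂ) (BinPslA.mk A₀)
      rw [BinPslA.mk_neg]
    obtain ⟨k, hk⟩ : ∃ k, (Fintype.card F + 1) / 2 = 2 * k + 1 := ⟨Fintype.card F / 4, by omega⟩
    have hodd' : Odd ((Fintype.card F + 1) / 2) := ⟨k, hk⟩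
    have hnegpow : (-A₀) ^ ((Fintype.card F + 1) / 2) = -(A₀ ^ ((Fintype.card F + 1) / 2)) := hodd'.neg_pow _
    have h2F : (2 : F) ≠ 0 := by
      intro h20
      have h5 : (-1 : F) = 1 := by linear_combination -h20
      obtain ⟨p, hchar⟩ := CharP.exists F
      obtain ⟨f, hp, hpf⟩ := FiniteField.card F p
      have h6 : p ∣ 2 := by
        have : ((2 : ℕ) : F) = 0 := by exact_mod_cast h20
        exact (CharP.cast_eq_zero_iff F p 2).1 this
      have h7 : p = 2 := (Nat.prime_dvd_prime_iff_eq hp Nat.prime_two).1 h6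
      rw [hpf, h7] at hodd
      exact (Nat.not_even_iff_odd.2 hodd) (even_iff_two_dvd.2 (dvd_pow_self 2 f.pos.ne'))
    have hone : (1 : SL2) ≠ -1 := by
      intro h5
      have h6 := congrArg (fun Z : SL2 => (Z : Matrix (Fin 2) (Fin 2) F) 0 0) h5
      simp only [Matrix.SpecialLinearGroup.coe_neg, Matrix.SpecialLinearGroup.coe_one, Matrix.neg_apply,
        Matrix.one_apply_eq] at h6
      apply h2F
      linear_combination h6
    have hpow : (A₀ ^ ((Fintype.card F + 1) / 2)) * (A₀ ^ ((Fintype.card F + 1) / 2)) = 1 := by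
      rw [← pow_add, ← two_mul, hk]
      have h5 := C_card h0
      have h6 : (⟨A₀, mem_centralizer_self A₀⟩ : Subgroup.centralizer ({A₀} : Set SL2)) ^
          (Nat.card (Subgroup.centralizer ({A₀} : Set SL2))) = 1 := pow_card_eq_one'
      rw [h5, hqn] at h6
      have h7 : A₀ ^ (Fintype.card F + 1) = 1 := congrArg Subtype.val h6
      rw [← h7]
      congr 1
      omega
    rcases eq_one_or_neg_one_of_sq h2F hpow with h5 | h5
    · have h6 := (key A₀ h0).1 h5
      have h7 := (key (-A₀) hneg).2 (by rw [hnegpow, h5]; exact hone.symm)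
      rw [hsame, h6] at h7
      norm_num at h7
    · have h6 := (key A₀ h0).2 (by rw [h5]; exact hone.symm)
      have h7 := (key (-A₀) hneg).1 (by rw [hnegpow, h5, neg_neg])
      rw [hsame, h6] at h7
      norm_num at h7

end PSL

section Transfer

variable {G : Type u} [Group G] [Finite G] {H : Type v} [Group H] [Finite H]

/-- a degree preserving bijection -/
theorem exists_equiv (h : ∀ d : ℕ, Nat.card {χ : IrrCharacter G // (χ : G → ℂ) 1 = (d : ℂ)} =
      Nat.card {χ : IrrCharacter H // (χ : H → ℂ) 1 = (d : ℂ)}) :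
    ∃ e : IrrCharacter G ≃ IrrCharacter H, ∀ χ, deg (e χ) = deg χ := by
  have key : ∀ d : ℕ, Nonempty ({χ : IrrCharacter G // deg χ = d} ≃ {χ : IrrCharacter H // deg χ = d}) := by
    intro d
    have e1 : {χ : IrrCharacter G // deg χ = d} ≃ {χ : IrrCharacter G // (χ : G → ℂ) 1 = (d : ℂ)} :=
      Equiv.subtypeEquivRight fun χ => by rw [apply_one]; exact_mod_cast Iff.rfl
    have e2 : {χ : IrrCharacter H // deg χ = d} ≃ {χ : IrrCharacter H // (χ : H → ℂ) 1 = (d : ℂ)} :=
      Equiv.subtypeEquivRight fun χ => by rw [apply_one]; exact_mod_cast Iff.rfl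
    exact ⟨e1.trans ((Finite.card_eq.1 (h d)).some.trans e2.symm)⟩
  exact ⟨Equiv.ofFiberEquiv fun d => (key d).some, fun χ => Equiv.ofFiberEquiv_map _ χ⟩

theorem card_eq_of_equiv {e : IrrCharacter G ≃ IrrCharacter H} (he : ∀ χ, deg (e χ) = deg χ) :
    Nat.card G = Nat.card H := by
  rw [← sum_deg_sq (G := G), ← sum_deg_sq (G := H)]
  exact Fintype.sum_equiv e _ _ fun χ => by rw [he]

theorem eq_triv_of_equiv {e : IrrCharacter G ≃ IrrCharacter H} (he : ∀ χ, deg (e χ) = deg χ)
    (hH : ∀ χ : IrrCharacter H, deg χ = 1 → χ = triv H) {χ : IrrCharacter G} (h : deg χ = 1) : χ = triv G := by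
  apply e.injective
  rw [hH (e χ) (by rw [he, h]), hH (e (triv G)) (by rw [he, deg_triv])]

end Transfer

theorem perfect_of_linear {G : Type u} [Group G] [Finite G] (h : ∀ χ : IrrCharacter G, deg χ = 1 → χ = triv G) :
    commutator G = ⊤ := by
  rw [← Subgroup.index_eq_one, ← card_linear]
  have : Unique {χ : IrrCharacter G // (χ : G → ℂ) 1 = 1} :=
    { default := ⟨triv G, rfl⟩
      uniq := fun χ => Subtype.ext (h χ.1 (by
        have h1 := χ.2
        rw [apply_one] at h1
        exact_mod_cast h1)) }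
  exact Nat.card_unique

/-- the main case, `q` odd -/
theorem main_odd {F : Type u} [Field F] [Fintype F] {p : ℕ} (hp : p.Prime) (hF : Fintype.card F = p ^ 2) (hp2 : p ≠ 2)
    {G : Type v} [Group G] [Finite G]
    (h : ∀ d : ℕ, Nat.card {χ : Cfsg.IrrCharacter G // (χ : G → ℂ) 1 = (d : ℂ)} =
      Nat.card {χ : Cfsg.IrrCharacter (Matrix.ProjectiveSpecialLinearGroup (Fin 2) F) //
        (χ : Matrix.ProjectiveSpecialLinearGroup (Fin 2) F → ℂ) 1 = (d : ℂ)}) :
    Nonempty (G ≃* Matrix.ProjectiveSpecialLinearGroup (Fin 2) F) := by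
  have hpf : Fact p.Prime := ⟨hp⟩
  obtain ⟨e, he⟩ := exists_equiv h
  have hcard := card_eq_of_equiv he
  obtain ⟨k, hk⟩ : Odd p := hp.odd_of_ne_two hp2
  have hk1 : 1 ≤ k := by have := hp.two_le; omega
  set q := Fintype.card F with hq
  obtain ⟨m, hm⟩ : ∃ m, q = 8 * m + 1 := by
    obtain ⟨j, hj⟩ := Nat.even_mul_succ_self k
    exact ⟨j, by rw [hF, hk]; nlinarith⟩
  have hq9 : 9 ≤ q := by rw [hF, hk]; nlinarith
  have hodd : Odd q := ⟨4 * m, by omega⟩
  have hs : IsSimpleGroup (Matrix.ProjectiveSpecialLinearGroup (Fin 2) F) :=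
    Matrix.ProjectiveSpecialLinearGroup.rank_two_simple (by rw [Nat.card_eq_fintype_card]; omega)
  have hPcard : 2 * Nat.card (Matrix.ProjectiveSpecialLinearGroup (Fin 2) F) = q * (q ^ 2 - 1) := by
    have h1 := CITRad.card_psl2 (F := F) (q := q) rfl
    have h2 : Nat.gcd 2 (q - 1) = 2 := Nat.gcd_eq_left ⟨4 * m, by omega⟩
    rw [h2] at h1
    exact h1
  have hdegs := psl_degs (F := F) hodd (by omega) (by omega)
  have hfac : q ^ 2 - 1 = 2 * ((4 * m + 1) * (8 * m)) := by
    have : q ^ 2 = 2 * ((4 * m + 1) * (8 * m)) + 1 := by rw [hm]; ring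
    omega
  have c1 : q.Coprime (4 * m + 1) := by
    have h1 : q + 1 = 2 * (4 * m + 1) := by omega
    have h2 : q.Coprime (q + 1) := by rw [Nat.coprime_self_add_right]; exact Nat.coprime_one_right _
    rw [h1] at h2
    exact Nat.Coprime.coprime_mul_left_right h2
  have c2 : q.Coprime (8 * m) := by
    rw [hm, Nat.coprime_comm, Nat.coprime_self_add_right]; exact Nat.coprime_one_right _
  have c3 : (4 * m + 1).Coprime (8 * m) := by
    have h1 : (4 * m + 1).Coprime (4 * m) := by
      rw [Nat.coprime_comm, Nat.coprime_self_add_right]; exact Nat.coprime_one_right _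
    have h2 : (4 * m + 1).Coprime 2 := Nat.coprime_two_right.2 ⟨2 * m, by ring⟩
    have h3 : 8 * m = 2 * (4 * m) := by ring
    rw [h3]; exact h2.mul_right h1
  have hne : ∀ χ : IrrCharacter G, χ ≠ triv G → e χ ≠ triv _ := by
    intro χ hχ h0
    apply hχ
    refine eq_triv_of_equiv he (fun ψ hψ => ?_) (by rw [← he, h0, deg_triv])
    by_contra h1
    rcases hdegs ψ h1 with h2 | h2 | h2 | h2 <;> omega
  have hT : Three G q (4 * m + 1) (8 * m) := by
    refine ⟨by omega, by omega, by omega, c1, c2, c3, ?_, ?_⟩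
    · rw [hfac] at hPcard
      rw [hcard]
      apply Nat.eq_of_mul_eq_mul_left (by norm_num : 0 < 2)
      rw [hPcard]; ring
    · intro χ hχ
      have h1 := hdegs (e χ) (hne χ hχ)
      rw [he] at h1
      rcases h1 with h1 | h1 | h1 | h1
      · left; rw [h1]
      · right; left; exact ⟨2, by omega⟩
      · right; right; rw [h1]; exact ⟨1, by omega⟩
      · right; left; exact ⟨1, by omega⟩
  obtain ⟨P⟩ : Nonempty (Sylow p G) := inferInstance
  have hPq : Nat.card P = q := by
    apply Nat.dvd_antisymm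
    · obtain ⟨j, hj⟩ := IsPGroup.iff_card.1 P.2
      have h1 : Nat.card P ∣ q * ((4 * m + 1) * (8 * m)) := by
        rw [← mul_assoc, ← hT.card]; exact Subgroup.card_subgroup_dvd_card _
      have h2 : (Nat.card P).Coprime ((4 * m + 1) * (8 * m)) := by
        rw [hj]
        apply Nat.Coprime.pow_left
        exact Nat.Coprime.coprime_dvd_left (by rw [hF]; exact dvd_pow_self p two_ne_zero) (c1.mul_right c2)
      exact h2.dvd_of_dvd_mul_right h1
    · rw [hF]
      apply P.pow_dvd_card_of_pow_dvd_card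
      rw [hT.card, ← hF, mul_assoc]; exact dvd_mul_right _ _
  have hab : ∀ x ∈ (P : Subgroup G), ∀ y ∈ (P : Subgroup G), x * y = y * x := by
    have h1 : IsMulCommutative P := IsPGroup.isMulCommutative_of_card_eq_prime_sq (p := p) (by rw [hPq, hF])
    intro x hx y hy
    exact congrArg Subtype.val (h1.is_comm.comm (⟨x, hx⟩ : P) ⟨y, hy⟩)
  obtain ⟨E, i1, i2, hE, ⟨f⟩⟩ := CSPz.main (P := P) (fun x hx hx1 => hT.cent_eq hp hF P hab hx hx1) hPq (by omega) hodd
    (by rw [hcard, hPcard]) (by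
      intro t ht
      have h2 : 2 ∣ 8 * m := ⟨4 * m, by ring⟩
      have h3 := Nat.le_of_dvd (by omega) (hT.rot.rot.card_cent Nat.prime_two h2 ht)
      omega)
  exact ⟨f.trans (ClSeven.pslCongr 2 (FiniteField.ringEquivOfCardEq hE))⟩


/-- `q = 4` -/
theorem main_even {F : Type u} [Field F] [Fintype F] (hF : Fintype.card F = 4)
    {G : Type v} [Group G] [Finite G]
    (h : ∀ d : ℕ, Nat.card {χ : Cfsg.IrrCharacter G // (χ : G → ℂ) 1 = (d : ℂ)} =
      Nat.card {χ : Cfsg.IrrCharacter (Matrix.ProjectiveSpecialLinearGroup (Fin 2) F) //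
        (χ : Matrix.ProjectiveSpecialLinearGroup (Fin 2) F → ℂ) 1 = (d : ℂ)}) :
    Nonempty (G ≃* Matrix.ProjectiveSpecialLinearGroup (Fin 2) F) := by
  obtain ⟨e, he⟩ := exists_equiv h
  have hcard := card_eq_of_equiv he
  have hs : IsSimpleGroup (Matrix.ProjectiveSpecialLinearGroup (Fin 2) F) :=
    Matrix.ProjectiveSpecialLinearGroup.rank_two_simple (by rw [Nat.card_eq_fintype_card]; omega)
  have h60 : Nat.card (Matrix.ProjectiveSpecialLinearGroup (Fin 2) F) = 60 := by
    have h1 := CITRad.card_psl2 (F := F) hF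
    norm_num at h1
    exact h1
  have hnc : ¬ IsMulCommutative (Matrix.ProjectiveSpecialLinearGroup (Fin 2) F) := by
    intro hc
    let _ : CommGroup (Matrix.ProjectiveSpecialLinearGroup (Fin 2) F) :=
      { (inferInstance : Group (Matrix.ProjectiveSpecialLinearGroup (Fin 2) F)) with mul_comm := hc.is_comm.comm }
    have h1 := IsSimpleGroup.prime_card (α := Matrix.ProjectiveSpecialLinearGroup (Fin 2) F)
    rw [h60] at h1
    norm_num at h1
  have hcomm : commutator G = ⊤ := perfect_of_linear fun χ hχ =>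
    eq_triv_of_equiv he (fun ψ hψ => eq_triv_of_deg_one hnc hψ) hχ
  rw [h60] at hcard
  have hnt : Nontrivial G := by rw [← Finite.one_lt_card_iff_nontrivial]; omega
  have hsimple : IsSimpleGroup G := by
    refine SL25.isSimpleGroup_of_card_sixty hcard fun hsol => ?_
    exact (Group.IsSolvable.commutator_lt_top_of_nontrivial G).ne hcomm
  obtain ⟨f⟩ := ClSmall.equiv_alternating_five hcard
  obtain ⟨f'⟩ := ClSmall.psl2_four hF
  exact ⟨f.trans f'.symm⟩

end Cfsg.Agent.Lib.FirstCol
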