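import Cfsg.Agent.Lib.WittAlt
import Cfsg.Agent.Lib.SympMat

/-!
The symplectic group `Matrix.symplecticGroup (Fin m) F` as isometries of `SympMat.B m F`; generation by
transvections, Witt's lemma for it (helper13).
-/

set_option autoImplicit false
open Cfsg

namespace Cfsg.Agent.Lib.SympGen

open Matrix Cfsg.Agent.Lib.SympMat Cfsg.Agent.Lib.WittAlt

variable {F : Type*} [Field F] {m : ℕ}

/-- elements of the symplectic group as linear equivalences -/
noncomputable def Φ (m : ℕ) (F : Type*) [Field F] :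
    symplecticGroup (Fin m) F →* ((Fin m ⊕ Fin m → F) ≃ₗ[F] (Fin m ⊕ Fin m → F)) :=
  (LinearMap.GeneralLinearGroup.generalLinearEquiv F (Fin m ⊕ Fin m → F)).toMonoidHom.comp
    (MonoidHom.toHomUnits ((Matrix.toLinAlgEquiv' : Matrix (Fin m ⊕ Fin m) (Fin m ⊕ Fin m) F ≃ₐ[F] _).toMonoidHom.comp
      (symplecticGroup (Fin m) F).subtype))

@[simp] lemma Φ_apply (A : symplecticGroup (Fin m) F) (x : Fin m ⊕ Fin m → F) :
    Φ m F A x = (A : Matrix (Fin m ⊕ Fin m) (Fin m ⊕ Fin m) F) *ᵥ x := rfl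

lemma Φ_injective : Function.Injective (Φ m F) := by
  intro A A' h
  apply Subtype.ext
  apply Matrix.ext_of_mulVec_single
  intro i
  rw [← Φ_apply, ← Φ_apply, h]

/-- an isometry comes from a matrix of the symplectic group -/
lemma exists_of_isometry {g : (Fin m ⊕ Fin m → F) ≃ₗ[F] (Fin m ⊕ Fin m → F)}
    (hg : ∀ u v, sympForm m F (g u) (g v) = sympForm m F u v) :
    ∃ A : symplecticGroup (Fin m) F, Φ m F A = g := by
  have hA : LinearMap.toMatrix' (g : (Fin m ⊕ Fin m → F) →ₗ[F] (Fin m ⊕ Fin m → F)) ∈ symplecticGroup (Fin m) F := by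
    rw [mem_iff]
    intro u v
    rw [LinearMap.toMatrix'_mulVec, LinearMap.toMatrix'_mulVec]
    exact hg u v
  refine ⟨⟨_, hA⟩, ?_⟩
  ext1 x
  rw [Φ_apply]
  exact LinearMap.toMatrix'_mulVec _ _

/-- the transvections generate -/
theorem closure_transvections (m : ℕ) (F : Type*) [Field F] :
    Subgroup.closure {A : symplecticGroup (Fin m) F | ∃ (w : Fin m ⊕ Fin m → F) (c : F),
      (A : Matrix (Fin m ⊕ Fin m) (Fin m ⊕ Fin m) F) = sympTransvection m w c} = ⊤ := by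
  rw [eq_top_iff]
  intro A _
  have h1 : Φ m F A ∈ Tv (B m F) B_isAlt := mem_Tv B_nondegenerate B_isAlt fun x y => by
    simp only [Φ_apply, B_apply]
    exact mem_iff.1 A.2 x y
  have h2 : {g | ∃ (v : Fin m ⊕ Fin m → F) (c : F), g = tv (B m F) B_isAlt v c} ⊆
      Φ m F '' {A : symplecticGroup (Fin m) F | ∃ (w : Fin m ⊕ Fin m → F) (c : F),
      (A : Matrix (Fin m ⊕ Fin m) (Fin m ⊕ Fin m) F) = sympTransvection m w c} := by
    rintro g ⟨v, c, rfl⟩
    refine ⟨⟨sympTransvection m v c, transvection_mem v c⟩, ⟨v, c, rfl⟩, ?_⟩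
    ext1 x
    rw [Φ_apply, tv_apply, B_apply]
    exact transvection_mulVec v x c
  have h3 := Subgroup.closure_mono h2 h1
  rw [← MonoidHom.map_closure] at h3
  obtain ⟨A', hA', hAA'⟩ := h3
  rw [Φ_injective hAA'] at hA'
  exact hA'

/-- Witt's lemma in matrix form, for families -/
theorem witt_family {n : ℕ} (e e' : Fin n → (Fin m ⊕ Fin m → F)) (he : LinearIndependent F e)
    (he' : LinearIndependent F e') (h : ∀ i j, sympForm m F (e i) (e j) = sympForm m F (e' i) (e' j)) :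
    ∃ A : symplecticGroup (Fin m) F, ∀ i, (A : Matrix (Fin m ⊕ Fin m) (Fin m ⊕ Fin m) F) *ᵥ (e i) = e' i := by
  obtain ⟨g, hg, hge⟩ := WittAlt.witt_family B_nondegenerate B_isAlt e e' he he' h
  obtain ⟨A, hA⟩ := exists_of_isometry (fun u v => Tv_isometry hg u v)
  exact ⟨A, fun i => by rw [← Φ_apply, hA, hge]⟩

/-- Witt's lemma in matrix form, for subspaces -/
theorem witt (X : Submodule F (Fin m ⊕ Fin m → F)) (φ : X →ₗ[F] (Fin m ⊕ Fin m → F))
    (hφ : Function.Injective φ)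
    (h : ∀ x y : X, sympForm m F (φ x) (φ y) = sympForm m F (x : Fin m ⊕ Fin m → F) (y : Fin m ⊕ Fin m → F)) :
    ∃ A : symplecticGroup (Fin m) F, ∀ x : X,
      (A : Matrix (Fin m ⊕ Fin m) (Fin m ⊕ Fin m) F) *ᵥ (x : Fin m ⊕ Fin m → F) = φ x := by
  obtain ⟨g, hg, hge⟩ := WittAlt.witt B_nondegenerate B_isAlt X φ hφ h
  obtain ⟨A, hA⟩ := exists_of_isometry (fun u v => Tv_isometry hg u v)
  exact ⟨A, fun i => by rw [← Φ_apply, hA, hge]⟩

end Cfsg.Agent.Lib.SympGen
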