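import Cfsg.Prelude.Def_FischerSpaces
import Cfsg.Agent.Lib.SympGen
import Cfsg.Agent.Lib.AltForm
import Cfsg.Agent.Lib.SympMat

/-!
# Fischer: the symplectic end game (helper96 for helper42)
-/

set_option autoImplicit false

namespace Cfsg.Agent.Lib.FisEnd

open Subgroup Cfsg Matrix

universe u

variable {G : Type u} [Group G] {D : Set G}

open Classical in
/-- the noncommuting form -/
noncomputable def BB (x e : G) : ZMod 2 := if Commute x e then 0 else 1

theorem BB_comm (x e : G) : BB x e = BB e x := by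
  unfold BB
  by_cases h : Commute x e
  · rw [if_pos h, if_pos h.symm]
  · rw [if_neg h, if_neg (fun h' => h h'.symm)]

theorem BB_self (x : G) : BB x x = 0 := by
  unfold BB; rw [if_pos (Commute.refl x)]

theorem BB_eq_zero {x e : G} : BB x e = 0 ↔ Commute x e := by
  unfold BB
  by_cases h : Commute x e
  · simp [h]
  · simp [h]

theorem BB_conj (g x e : G) : BB (g * x * g⁻¹) (g * e * g⁻¹) = BB x e := by
  unfold BB
  have : Commute (g * x * g⁻¹) (g * e * g⁻¹) ↔ Commute x e := by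
    constructor
    · intro h
      have h1 : g * x * g⁻¹ * (g * e * g⁻¹) = g * e * g⁻¹ * (g * x * g⁻¹) := h
      have h2 : g * (x * e) * g⁻¹ = g * (e * x) * g⁻¹ := by
        calc g * (x * e) * g⁻¹ = g * x * g⁻¹ * (g * e * g⁻¹) := by group
          _ = _ := h1
          _ = _ := by group
      exact mul_left_cancel (mul_right_cancel h2)
    · intro h
      show g * x * g⁻¹ * (g * e * g⁻¹) = g * e * g⁻¹ * (g * x * g⁻¹)
      calc g * x * g⁻¹ * (g * e * g⁻¹) = g * (x * e) * g⁻¹ := by group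
        _ = g * (e * x) * g⁻¹ := by rw [h.eq]
        _ = _ := by group
  by_cases hc : Commute x e
  · rw [if_pos (this.2 hc), if_pos hc]
  · rw [if_neg (fun hh => hc (this.1 hh)), if_neg hc]

theorem two_cases (c : ZMod 2) : c = 0 ∨ c = 1 := by
  revert c; decide

/-- row of `x` -/
noncomputable def row (D : Set G) (x : G) : D → ZMod 2 := fun e => BB x e

/-- the hypotheses of the symplectic end game -/
structure SpHyp (D : Set G) : Prop where
  hD : IsThreeTranspositionGroup D
  hZ : center G = ⊥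
  h1 : ∀ x ∈ D, ∀ y ∈ D, x ≠ y → Commute x y → ∃ w ∈ D, ∀ e ∈ D, BB w e = BB x e + BB y e
  h2 : ∀ x ∈ D, ∀ y ∈ D, ¬ Commute x y → ∀ e ∈ D, BB (x * y * x) e = BB x e + BB y e
  h3 : ∀ x ∈ D, ∀ y ∈ D, (∀ e ∈ D, BB x e = BB y e) → x = y

theorem mem_center_of_comm (hD : Subgroup.closure D = ⊤) {g : G} (h : ∀ x ∈ D, Commute g x) : g ∈ center G := by
  have h1 : Subgroup.closure D ≤ Subgroup.centralizer ({g} : Set G) := by
    rw [Subgroup.closure_le]
    intro x hx
    exact Subgroup.mem_centralizer_singleton_iff.2 (h x hx).symm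
  rw [hD] at h1
  rw [mem_center_iff]
  intro y
  exact Subgroup.mem_centralizer_singleton_iff.1 (h1 (Subgroup.mem_top y))

namespace SpHyp

variable (h : SpHyp D)
include h

theorem sq {x : G} (hx : x ∈ D) : x * x = 1 := by
  have := h.hD.1.1 x hx
  rw [← pow_two, ← this]; exact pow_orderOf_eq_one x

theorem conj_mem (g : G) {x : G} (hx : x ∈ D) : g * x * g⁻¹ ∈ D := h.hD.2.1 g x hx

theorem conj_mem' (g : G) {x : G} (hx : x ∈ D) : g⁻¹ * x * g ∈ D := by
  have := h.hD.2.1 g⁻¹ x hx
  rwa [inv_inv] at this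

theorem row_ne_zero {x : G} (hx : x ∈ D) : row D x ≠ 0 := by
  intro h0
  have h1 : x ∈ center G := mem_center_of_comm h.hD.2.2 fun e he => by
    have := congrFun h0 ⟨e, he⟩
    exact BB_eq_zero.1 this
  rw [h.hZ, mem_bot] at h1
  have := h.hD.1.1 x hx
  rw [h1, orderOf_one] at this
  omega

theorem row_inj {x y : G} (hx : x ∈ D) (hy : y ∈ D) (hxy : row D x = row D y) : x = y :=
  h.h3 x hx y hy fun e he => congrFun hxy ⟨e, he⟩

theorem row_add_of_not {x y : G} (hx : x ∈ D) (hy : y ∈ D) (hxy : ¬ Commute x y) :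
    x * y * x ∈ D ∧ row D (x * y * x) = row D x + row D y := by
  refine ⟨?_, funext fun e => h.h2 x hx y hy hxy e e.2⟩
  have h1 := h.conj_mem x hy
  rwa [inv_eq_of_mul_eq_one_right (h.sq hx)] at h1

/-- the space of the rows -/
noncomputable def V : Submodule (ZMod 2) (D → ZMod 2) where
  carrier := {v | v = 0 ∨ ∃ x ∈ D, v = row D x}
  zero_mem' := Or.inl rfl
  add_mem' := by
    rintro a b (rfl | ⟨x, hx, rfl⟩) hb
    · rw [zero_add]; exact hb
    · rcases hb with rfl | ⟨y, hy, rfl⟩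
      · rw [add_zero]; exact Or.inr ⟨x, hx, rfl⟩
      · by_cases hxy : x = y
        · left
          subst hxy
          funext e
          show row D x e + row D x e = 0
          exact CharTwo.add_self_eq_zero _
        · by_cases hc : Commute x y
          · obtain ⟨w, hw, hwe⟩ := h.h1 x hx y hy hxy hc
            exact Or.inr ⟨w, hw, funext fun e => (hwe e e.2).symm⟩
          · obtain ⟨h1, h2⟩ := h.row_add_of_not hx hy hc
            exact Or.inr ⟨_, h1, h2.symm⟩
  smul_mem' := by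
    intro c v hv
    have : c = 0 ∨ c = 1 := by
      revert c; decide
    rcases this with rfl | rfl
    · left; exact zero_smul _ v
    · rw [one_smul]; exact hv

theorem mem_V {v : D → ZMod 2} : v ∈ h.V ↔ v = 0 ∨ ∃ x ∈ D, v = row D x := Iff.rfl

/-- the row as an element of `V` -/
noncomputable def rw' (x : D) : h.V := ⟨row D x, Or.inr ⟨x, x.2, rfl⟩⟩

theorem cases_V (v : h.V) : v = 0 ∨ ∃ x : D, v = h.rw' x := by
  rcases v.2 with h0 | ⟨x, hx, hv⟩
  · left; exact Subtype.ext h0
  · right; exact ⟨⟨x, hx⟩, Subtype.ext hv⟩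

theorem rw'_inj {x y : D} (hxy : h.rw' x = h.rw' y) : x = y :=
  Subtype.ext (h.row_inj x.2 y.2 (congrArg Subtype.val hxy))

theorem rw'_ne (x : D) : h.rw' x ≠ 0 := fun h0 => h.row_ne_zero x.2 (congrArg Subtype.val h0)

open Classical in
/-- the form -/
noncomputable def om (v w : h.V) : ZMod 2 :=
  if hw : ∃ y : D, w = h.rw' y then v.1 hw.choose else 0

theorem om_rw (v : h.V) (y : D) : h.om v (h.rw' y) = v.1 y := by
  have hw : ∃ y' : D, h.rw' y = h.rw' y' := ⟨y, rfl⟩
  unfold om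
  rw [dif_pos hw]
  rw [← h.rw'_inj hw.choose_spec]

theorem om_zero (v : h.V) : h.om v 0 = 0 := by
  unfold om
  rw [dif_neg]
  rintro ⟨y, hy⟩
  exact h.rw'_ne y hy.symm

theorem om_comm (v w : h.V) : h.om v w = h.om w v := by
  rcases h.cases_V v with rfl | ⟨x, rfl⟩
  · rw [om_zero]
    rcases h.cases_V w with rfl | ⟨y, rfl⟩
    · rw [om_zero]
    · rw [om_rw]; rfl
  · rcases h.cases_V w with rfl | ⟨y, rfl⟩
    · rw [om_zero, om_rw]; rfl
    · rw [om_rw, om_rw]; exact BB_comm _ _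

theorem om_add_left (v v' w : h.V) : h.om (v + v') w = h.om v w + h.om v' w := by
  rcases h.cases_V w with rfl | ⟨y, rfl⟩
  · rw [om_zero, om_zero, om_zero, add_zero]
  · rw [om_rw, om_rw, om_rw]; rfl

theorem om_smul_left (c : ZMod 2) (v w : h.V) : h.om (c • v) w = c * h.om v w := by
  rcases h.cases_V w with rfl | ⟨y, rfl⟩
  · rw [om_zero, om_zero, mul_zero]
  · rw [om_rw, om_rw]; rfl

/-- the form as a bilinear map -/
noncomputable def Om : h.V →ₗ[ZMod 2] h.V →ₗ[ZMod 2] ZMod 2 :=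
  LinearMap.mk₂ (ZMod 2) h.om h.om_add_left h.om_smul_left
    (fun v w w' => by rw [om_comm, om_add_left, om_comm h w, om_comm h w'])
    (fun c v w => by rw [om_comm, om_smul_left, om_comm h w, smul_eq_mul])

theorem Om_apply (v w : h.V) : h.Om v w = h.om v w := rfl

theorem Om_self (v : h.V) : h.Om v v = 0 := by
  rw [Om_apply]
  rcases h.cases_V v with rfl | ⟨x, rfl⟩
  · exact h.om_zero 0
  · rw [om_rw]; exact BB_self _

theorem Om_nondeg (v : h.V) (hv : ∀ w, h.Om v w = 0) : v = 0 := by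
  apply Subtype.ext
  funext y
  have := hv (h.rw' y)
  rwa [Om_apply, om_rw] at this

/-! ### The action -/

/-- the action on functions -/
def act (g : G) (v : D → ZMod 2) : D → ZMod 2 := fun e => v ⟨g⁻¹ * e * g, h.conj_mem' g e.2⟩

theorem act_row (g : G) (x : G) : h.act g (row D x) = row D (g * x * g⁻¹) := by
  funext e
  show BB x (g⁻¹ * e * g) = BB (g * x * g⁻¹) e
  have := BB_conj g x (g⁻¹ * e * g)
  rw [← this]
  congr 1
  group

theorem act_zero (g : G) : h.act g 0 = 0 := rfl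

theorem act_mem (g : G) {v : D → ZMod 2} (hv : v ∈ h.V) : h.act g v ∈ h.V := by
  rcases hv with rfl | ⟨x, hx, rfl⟩
  · exact Or.inl rfl
  · exact Or.inr ⟨g * x * g⁻¹, h.conj_mem g hx, h.act_row g x⟩

/-- the representation -/
noncomputable def rho : G →* (h.V →ₗ[ZMod 2] h.V) where
  toFun g :=
    { toFun := fun v => ⟨h.act g v.1, h.act_mem g v.2⟩
      map_add' := fun v w => rfl
      map_smul' := fun c v => rfl }
  map_one' := by
    apply LinearMap.ext
    intro v
    apply Subtype.ext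
    funext e
    show v.1 ⟨1⁻¹ * e * 1, _⟩ = v.1 e
    refine congrArg v.1 (Subtype.ext ?_)
    show 1⁻¹ * (e : G) * 1 = e
    group
  map_mul' := by
    intro a b
    apply LinearMap.ext
    intro v
    apply Subtype.ext
    funext e
    show v.1 ⟨(a * b)⁻¹ * e * (a * b), _⟩ = v.1 ⟨b⁻¹ * (a⁻¹ * e * a) * b, _⟩
    refine congrArg v.1 (Subtype.ext ?_)
    show (a * b)⁻¹ * (e : G) * (a * b) = b⁻¹ * (a⁻¹ * e * a) * b
    group

theorem rho_rw (g : G) (x : D) : h.rho g (h.rw' x) = h.rw' ⟨g * x * g⁻¹, h.conj_mem g x.2⟩ :=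
  Subtype.ext (h.act_row g x)

theorem rho_om (g : G) (v w : h.V) : h.om (h.rho g v) (h.rho g w) = h.om v w := by
  rcases h.cases_V w with rfl | ⟨y, rfl⟩
  · rw [map_zero, om_zero, om_zero]
  · rcases h.cases_V v with rfl | ⟨x, rfl⟩
    · rw [map_zero, om_comm, om_zero, om_comm, om_zero]
    · rw [rho_rw, rho_rw, om_rw, om_rw]
      exact BB_conj g x y

theorem rho_inj {g : G} (hg : h.rho g = 1) : g = 1 := by
  have h1 : g ∈ center G := mem_center_of_comm h.hD.2.2 fun x hx => by
    have h2 := h.rho_rw g ⟨x, hx⟩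
    rw [hg] at h2
    have h3 := h.rw'_inj (x := ⟨x, hx⟩) (y := ⟨g * x * g⁻¹, h.conj_mem g hx⟩) h2
    have h4 : x = g * x * g⁻¹ := congrArg Subtype.val h3
    show g * x = x * g
    nth_rw 2 [h4]
    group
  rw [h.hZ, mem_bot] at h1
  exact h1

/-- the transpositions act as transvections -/
theorem rho_transv (x : D) (v : h.V) : h.rho x v = v + h.om v (h.rw' x) • h.rw' x := by
  have hxx := h.sq x.2
  have hinv : (x : G)⁻¹ = x := inv_eq_of_mul_eq_one_right hxx
  rcases h.cases_V v with rfl | ⟨y, rfl⟩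
  · rw [map_zero, om_comm, om_zero, zero_smul, add_zero]
  · rw [rho_rw, om_rw]
    by_cases hc : Commute (y : G) x
    · have h1 : (h.rw' y).1 x = 0 := BB_eq_zero.2 hc
      rw [h1, zero_smul, add_zero]
      congr 1
      apply Subtype.ext
      show (x : G) * y * (x : G)⁻¹ = y
      rw [← hc.eq]; group
    · have h1 : (h.rw' y).1 x = 1 := by
        rcases two_cases ((h.rw' y).1 x) with h2 | h2
        · exact absurd (BB_eq_zero.1 h2) hc
        · exact h2
      rw [h1, one_smul]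
      apply Subtype.ext
      show row D ((x : G) * y * (x : G)⁻¹) = row D y + row D x
      rw [hinv, add_comm]
      exact (h.row_add_of_not x.2 y.2 (fun hh => hc hh.symm)).2

end SpHyp

open SympMat in
/-- THE SYMPLECTIC END GAME, with the coordinates -/
theorem sp_end_data [Finite G] (h : SpHyp D) : ∃ n : ℕ, Nonempty (G ≃* Matrix.symplecticGroup (Fin n) (ZMod 2)) ∧
    ∃ Ψ : G → (Fin n ⊕ Fin n → ZMod 2), (∀ v, v ≠ 0 → ∃ x ∈ D, Ψ x = v) ∧ (∀ x ∈ D, Ψ x ≠ 0) ∧
      (∀ x ∈ D, ∀ y ∈ D, Ψ x = Ψ y → x = y) ∧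
      ∀ x ∈ D, ∀ y ∈ D, (Commute x y ↔ sympForm n (ZMod 2) (Ψ x) (Ψ y) = 0) := by
  classical
  have hfin : Finite D := inferInstance
  have : Module.Finite (ZMod 2) h.V := inferInstance
  obtain ⟨k, T, hT⟩ := AltForm.exists_symplectic_equiv (Module.finrank (ZMod 2) h.V) h.V h.Om rfl h.Om_self h.Om_nondeg
  refine ⟨k, ?_⟩
  let E : h.V ≃ₗ[ZMod 2] (Fin k ⊕ Fin k → ZMod 2) :=
    T.trans ((LinearEquiv.prodComm (ZMod 2) (Fin k → ZMod 2) (Fin k → ZMod 2)).trans
      (LinearEquiv.sumArrowLequivProdArrow (Fin k) (Fin k) (ZMod 2) (ZMod 2)).symm)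
  have hEl : ∀ v i, E v (Sum.inl i) = (T v).2 i := fun v i => rfl
  have hEr : ∀ v i, E v (Sum.inr i) = (T v).1 i := fun v i => rfl
  have hE : ∀ u v, sympForm k (ZMod 2) (E u) (E v) = h.om u v := by
    intro u v
    rw [sympForm_apply, ← h.Om_apply, hT]
    simp only [hEl, hEr, dotProduct, Finset.sum_sub_distrib]
  let M : G →* Matrix (Fin k ⊕ Fin k) (Fin k ⊕ Fin k) (ZMod 2) :=
    { toFun := fun g => LinearMap.toMatrix' (E.toLinearMap.comp ((h.rho g).comp E.symm.toLinearMap))
      map_one' := by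
        have : E.toLinearMap.comp ((h.rho 1).comp E.symm.toLinearMap) = LinearMap.id := by
          apply LinearMap.ext
          intro v
          rw [map_one]
          exact E.apply_symm_apply v
        rw [this, LinearMap.toMatrix'_id]
      map_mul' := by
        intro a b
        rw [← LinearMap.toMatrix'_comp]
        congr 1
        apply LinearMap.ext
        intro v
        rw [map_mul]
        show E ((h.rho a) ((h.rho b) (E.symm v))) = E ((h.rho a) (E.symm (E ((h.rho b) (E.symm v)))))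
        rw [E.symm_apply_apply] }
  have hM : ∀ g v, M g *ᵥ (E v) = E (h.rho g v) := by
    intro g v
    show LinearMap.toMatrix' (E.toLinearMap.comp ((h.rho g).comp E.symm.toLinearMap)) *ᵥ (E v) = _
    rw [LinearMap.toMatrix'_mulVec]
    show E (h.rho g (E.symm (E v))) = _
    rw [E.symm_apply_apply]
  have hMs : ∀ g, M g ∈ symplecticGroup (Fin k) (ZMod 2) := by
    intro g
    rw [SympMat.mem_iff]
    intro u v
    obtain ⟨u, rfl⟩ := E.surjective u
    obtain ⟨v, rfl⟩ := E.surjective v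
    rw [hM, hM, hE, hE, h.rho_om]
  let f : G →* symplecticGroup (Fin k) (ZMod 2) :=
    { toFun := fun g => ⟨M g, hMs g⟩
      map_one' := Subtype.ext (map_one M)
      map_mul' := fun a b => Subtype.ext (map_mul M a b) }
  have hinj : Function.Injective f := by
    rw [injective_iff_map_eq_one]
    intro g hg
    apply h.rho_inj
    apply LinearMap.ext
    intro v
    have h1 : M g = 1 := congrArg Subtype.val hg
    have h2 := hM g v
    rw [h1, one_mulVec] at h2
    exact (E.injective h2).symm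
  have hsurj : Function.Surjective f := by
    rw [← MonoidHom.range_eq_top, eq_top_iff, ← SympGen.closure_transvections k (ZMod 2), Subgroup.closure_le]
    rintro A ⟨w, c, hA⟩
    obtain ⟨v, rfl⟩ := E.surjective w
    have h0 : ∀ (B : Matrix (Fin k ⊕ Fin k) (Fin k ⊕ Fin k) (ZMod 2)),
        (∀ u, B *ᵥ (E u) = sympTransvection k (E v) c *ᵥ (E u)) → B = sympTransvection k (E v) c := by
      intro B hB
      apply Matrix.ext_of_mulVec_single
      intro i
      obtain ⟨u, hu⟩ := E.surjective (Pi.single i 1)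
      rw [← hu, hB]
    rcases two_cases c with rfl | rfl
    · refine ⟨1, Subtype.ext ?_⟩
      rw [hA]
      apply h0
      intro u
      rw [map_one, SympMat.transvection_mulVec, zero_mul, zero_smul, add_zero]
      exact one_mulVec _
    · rcases h.cases_V v with rfl | ⟨x, rfl⟩
      · refine ⟨1, Subtype.ext ?_⟩
        rw [hA]
        apply h0
        intro u
        rw [map_one, SympMat.transvection_mulVec, map_zero, smul_zero, add_zero]
        exact one_mulVec _
      · refine ⟨x, Subtype.ext ?_⟩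
        rw [hA]
        apply h0
        intro u
        show M x *ᵥ (E u) = _
        rw [hM, SympMat.transvection_mulVec, hE, h.rho_transv, map_add, map_smul, one_mul]
  refine ⟨⟨MulEquiv.ofBijective f ⟨hinj, hsurj⟩⟩, fun x => if hx : x ∈ D then E (h.rw' ⟨x, hx⟩) else 0, ?_, ?_, ?_, ?_⟩
  · intro v hv
    obtain ⟨w, rfl⟩ := E.surjective v
    rcases h.cases_V w with rfl | ⟨x, rfl⟩
    · exact absurd (map_zero E) hv
    · exact ⟨x, x.2, dif_pos x.2⟩
  · intro x hx
    simp only [dif_pos hx]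
    intro h0
    exact h.rw'_ne ⟨x, hx⟩ (E.map_eq_zero_iff.1 h0)
  · intro x hx y hy hxy
    simp only [dif_pos hx, dif_pos hy] at hxy
    exact congrArg Subtype.val (h.rw'_inj (E.injective hxy))
  · intro x hx y hy
    simp only [dif_pos hx, dif_pos hy]
    rw [hE, h.om_rw]
    exact BB_eq_zero.symm

/-- THE SYMPLECTIC END GAME -/
theorem sp_end [Finite G] (h : SpHyp D) : ∃ n : ℕ, Nonempty (G ≃* Matrix.symplecticGroup (Fin n) (ZMod 2)) := by
  obtain ⟨n, hn, -⟩ := sp_end_data h
  exact ⟨n, hn⟩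

theorem BB_add_iff {w x y e : G} (h : Commute w e ↔ (Commute x e ↔ Commute y e)) : BB w e = BB x e + BB y e := by
  unfold BB
  by_cases h1 : Commute x e <;> by_cases h2 : Commute y e
  · rw [if_pos h1, if_pos h2, if_pos (h.2 ⟨fun _ => h2, fun _ => h1⟩)]; rfl
  · rw [if_pos h1, if_neg h2, if_neg (fun hw => h2 ((h.1 hw).1 h1))]; rfl
  · rw [if_neg h1, if_pos h2, if_neg (fun hw => h1 ((h.1 hw).2 h2))]; rfl
  · rw [if_neg h1, if_neg h2, if_pos (h.2 ⟨fun hh => absurd hh h1, fun hh => absurd hh h2⟩)]; rfl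

theorem spHyp_of_rows {G : Type*} [Group G] {D : Set G} (hD : IsThreeTranspositionGroup D)
    (hZ : Subgroup.center G = ⊥)
    (h1 : ∀ x ∈ D, ∀ y ∈ D, x ≠ y → Commute x y → ∃ w ∈ D, ∀ e ∈ D, (Commute w e ↔ (Commute x e ↔ Commute y e)))
    (h2 : ∀ x ∈ D, ∀ y ∈ D, ¬ Commute x y → ∀ e ∈ D, (Commute (x * y * x) e ↔ (Commute x e ↔ Commute y e)))
    (h3 : ∀ x ∈ D, ∀ y ∈ D, (∀ e ∈ D, Commute x e ↔ Commute y e) → x = y) : SpHyp D := by
  refine ⟨hD, hZ, ?_, ?_, ?_⟩
  · intro x hx y hy hxy hc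
    obtain ⟨w, hw, hwe⟩ := h1 x hx y hy hxy hc
    exact ⟨w, hw, fun e he => BB_add_iff (hwe e he)⟩
  · intro x hx y hy hc e he
    exact BB_add_iff (h2 x hx y hy hc e he)
  · intro x hx y hy hxy
    apply h3 x hx y hy
    intro e he
    rw [← BB_eq_zero, ← BB_eq_zero, hxy e he]

/-- the end game in the form of helper42 -/
theorem sp_of_rows {G : Type*} [Group G] [Finite G] {D : Set G} (hD : IsThreeTranspositionGroup D)
    (hZ : Subgroup.center G = ⊥)
    (h1 : ∀ x ∈ D, ∀ y ∈ D, x ≠ y → Commute x y → ∃ w ∈ D, ∀ e ∈ D, (Commute w e ↔ (Commute x e ↔ Commute y e)))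
    (h2 : ∀ x ∈ D, ∀ y ∈ D, ¬ Commute x y → ∀ e ∈ D, (Commute (x * y * x) e ↔ (Commute x e ↔ Commute y e)))
    (h3 : ∀ x ∈ D, ∀ y ∈ D, (∀ e ∈ D, Commute x e ↔ Commute y e) → x = y) :
    ∃ n, Nonempty (G ≃* Matrix.symplecticGroup (Fin n) (ZMod 2)) :=
  sp_end (spHyp_of_rows hD hZ h1 h2 h3)

end Cfsg.Agent.Lib.FisEnd
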