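import Cfsg.Prelude.Def_FischerSpaces
import Cfsg.Agent.Lib.FisEndSp
import Cfsg.Agent.Lib.UnSpec
import Cfsg.Agent.Lib.ClThreeTransU
import Cfsg.Agent.S1631

/-!
# Fischer: the unitary end game (helper96 for helper42)
-/

set_option autoImplicit false

namespace Cfsg.Agent.Lib.FisEnd

open Subgroup Cfsg Matrix Module
open Cfsg.Agent.Lib.HermMat Cfsg.Agent.Lib.HermAlg Cfsg.Agent.Lib.ClUnitary Cfsg.Agent.Lib.UnSpec

section form

variable {F : Type*} [Field F] [Fintype F]

theorem hF22 (hF : Fintype.card F = 4) : Fintype.card F = 2 ^ 2 := by rw [hF]; norm_num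

theorem char2' (hF : Fintype.card F = 4) : CharP F 2 := by
  have h1 : ((4 : ℕ) : F) = 0 := by rw [← hF]; exact Nat.cast_card_eq_zero F
  have h2 : (2 : F) = 0 := by
    have h3 : (2 : F) * 2 = 0 := by
      have : ((4 : ℕ) : F) = 2 * 2 := by push_cast; ring
      rw [← this, h1]
    rcases mul_eq_zero.1 h3 with h | h <;> exact h
  exact CharTwo.of_one_ne_zero_of_two_eq_zero one_ne_zero h2

theorem cube' (hF : Fintype.card F = 4) {c : F} (hc : c ≠ 0) : c ^ 3 = 1 := by
  have := FiniteField.pow_card_sub_one_eq_one c hc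
  rwa [hF] at this

theorem exists_omega (hF : Fintype.card F = 4) : ∃ ω : F, ω ≠ 0 ∧ ω ≠ 1 := by
  classical
  by_contra hcon
  push Not at hcon
  have h1 : (Finset.univ : Finset F) ⊆ {0, 1} := by
    intro a _
    by_cases ha : a = 0
    · simp [ha]
    · simp [hcon a ha]
  have h2 := Finset.card_le_card h1
  rw [Finset.card_univ, hF] at h2
  have h3 : ({0, 1} : Finset F).card ≤ 2 := Finset.card_le_two
  omega

variable {n : ℕ}

/-- isotropic points of a hyperbolic line -/
theorem third_point (hF : Fintype.card F = 4) {B : (Fin n → F) → (Fin n → F) → F}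
    (h : IsHerm (frob (hF22 hF)) 1 B) {a b : Fin n → F} (ha : B a a = 0)
    (hb : B b b = 0) (hab : B a b ≠ 0) {α β : F} (hα : α ≠ 0) (hβ : β ≠ 0)
    (hw : B (α • a + β • b) (α • a + β • b) = 0) :
    β = α * B a b := by
  have hch := char2' hF
  have hba : B b a = (B a b) ^ 2 := by rw [h.symm a b, one_mul, frob_apply]
  rw [h.add_left, h.add_right, h.add_right, h.smul_left, h.smul_left, h.smul_left, h.smul_left, h.smul_right, h.smul_right, h.smul_right, h.smul_right, ha, hb,
    frob_apply, frob_apply, hba] at hw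
  have h1 : α * β * B a b * (β - α * B a b) = 0 := by
    have h2 : α * β * B a b * (β - α * B a b) = α * β * B a b * (β + α * B a b) := by
      rw [CharTwo.sub_eq_add]
    rw [h2]
    linear_combination hw
  have h2 := (mul_eq_zero.1 h1).resolve_left (mul_ne_zero (mul_ne_zero hα hβ) hab)
  exact sub_eq_zero.1 h2

/-- a vector orthogonal to all isotropic vectors of `⟨a, b⟩ᗮ` is in `⟨a, b⟩` -/
theorem perp_perp (hF : Fintype.card F = 4) (hn : 4 ≤ n) {B : (Fin n → F) → (Fin n → F) → F}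
    (h : IsHerm (frob (hF22 hF)) 1 B) {a b w : Fin n → F} (ha : B a a = 0) (hb : B b b = 0) (hab : B a b ≠ 0)
    (hw : ∀ u, B u u = 0 → B u a = 0 → B u b = 0 → B u w = 0) : ∃ α β : F, w = α • a + β • b := by
  have hch := char2' hF
  have hba : B b a ≠ 0 := by
    rw [h.symm a b, one_mul, frob_apply]
    exact pow_ne_zero _ hab
  let φ : (Fin n → F) →ₗ[F] F × F :=
    { toFun := fun x => (B x a, B x b)
      map_add' := fun x y => by
        rw [h.add_left, h.add_left]; rfl
      map_smul' := fun c x => by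
        rw [h.smul_left, h.smul_left]; rfl }
  have hφ : ∀ x, φ x = (B x a, B x b) := fun x => rfl
  let W := LinearMap.ker φ
  have hW : ∀ x, x ∈ W ↔ B x a = 0 ∧ B x b = 0 := by
    intro x
    rw [LinearMap.mem_ker, hφ, Prod.mk_eq_zero]
  have hdim : 2 ≤ finrank F W := by
    have h1 := LinearMap.finrank_range_add_finrank_ker φ
    rw [finrank_fin_fun] at h1
    have h2 : finrank F (LinearMap.range φ) ≤ 2 := by
      refine (Submodule.finrank_le _).trans ?_
      rw [finrank_prod, finrank_self]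
    have h3 : finrank F W = finrank F (LinearMap.ker φ) := rfl
    omega
  -- the projection
  have hpr : ∀ x, x - (B x b / B a b) • a - (B x a / B b a) • b ∈ W := by
    intro x
    rw [hW]
    constructor
    · rw [h.sub_left, h.sub_left, h.smul_left, h.smul_left, ha, mul_zero, sub_zero, div_mul_cancel₀ _ hba, sub_self]
    · rw [h.sub_left, h.sub_left, h.smul_left, h.smul_left, hb, mul_zero, sub_zero, div_mul_cancel₀ _ hab, sub_self]
  have hsw : ∀ u v, B u v = 0 → B v u = 0 := by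
    intro u v huv
    rw [h.symm u v, huv, map_zero, mul_zero]
  have hBW : IsHerm (frob (hF22 hF)) 1 (fun x y : W => B (x : Fin n → F) (y : Fin n → F)) :=
    { add_left := fun x y z => h.add_left x y z
      smul_left := fun c x y => h.smul_left c x y
      symm := fun x y => h.symm x y
      nondeg := fun x hx => by
        apply Subtype.ext
        apply h.nondeg
        intro y
        have h1 : B x (y - (B y b / B a b) • a - (B y a / B b a) • b) = 0 := hx ⟨_, hpr y⟩
        have h2 := (hW x).1 x.2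
        rw [h.sub_right, h.sub_right, h.smul_right, h.smul_right, h2.1, h2.2, mul_zero, mul_zero, sub_zero, sub_zero] at h1
        exact h1 }
  obtain ⟨e, he⟩ := exists_standard (hF22 hF) (finrank F W) (V := W) hBW rfl
  have key : ∀ u : W, B u w = 0 := by
    obtain ⟨ω, hω0, hω1⟩ := exists_omega hF
    have h1 : ∀ j, B (e.symm (Pi.single j 1)) w = 0 := by
      intro j
      obtain ⟨i, hij⟩ : ∃ i : Fin (finrank F W), i ≠ j := by
        haveI : Nontrivial (Fin (finrank F W)) := Fin.nontrivial_iff_two_le.2 hdim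
        exact _root_.exists_ne j
      have h2 : ∀ c : F, c ≠ 0 → B (e.symm (Pi.single i 1 + c • Pi.single j 1) : W) w = 0 := by
        intro c hc
        have hm := (hW _).1 (e.symm (Pi.single i 1 + c • Pi.single j 1) : W).2
        refine hw _ ?_ hm.1 hm.2
        rw [← he, LinearEquiv.apply_symm_apply, hermForm_add_left, hermForm_smul_left, hermForm_single_left, hermForm_single_left]
        simp only [Pi.add_apply, Pi.smul_apply, Pi.single_eq_same, Pi.single_eq_of_ne hij, Pi.single_eq_of_ne hij.symm, smul_eq_mul, mul_one, mul_zero, add_zero, zero_add, one_pow]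
        have h3 : c * c ^ 2 = 1 := by rw [← pow_succ', cube' hF hc]
        rw [h3]
        exact CharTwo.add_self_eq_zero 1
      have h3 := h2 1 one_ne_zero
      have h4 := h2 ω hω0
      rw [map_add, map_smul, Submodule.coe_add, Submodule.coe_smul, h.add_left, h.smul_left] at h3 h4
      have h5 : (ω - 1) * B (e.symm (Pi.single j 1) : W) w = 0 := by linear_combination h4 - h3
      exact (mul_eq_zero.1 h5).resolve_left (sub_ne_zero.2 hω1)
    intro u
    have h2 : u = e.symm (e u) := (e.symm_apply_apply u).symm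
    rw [h2]
    have h3 : e u = ∑ j, (e u) j • (Pi.single j 1 : Fin (finrank F W) → F) := by
      funext k
      rw [Finset.sum_apply]
      simp only [Pi.smul_apply, smul_eq_mul, Pi.single_apply, mul_ite, mul_one, mul_zero]
      rw [Finset.sum_ite_eq, if_pos (Finset.mem_univ _)]
    rw [h3, map_sum]
    let ψ : W →ₗ[F] F :=
      { toFun := fun x => B x w
        map_add' := fun x y => h.add_left x y w
        map_smul' := fun c x => h.smul_left c x w }
    show ψ _ = 0
    rw [map_sum]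
    apply Finset.sum_eq_zero
    intro j _
    rw [map_smul, map_smul]
    have : ψ (e.symm (Pi.single j 1)) = 0 := h1 j
    rw [this, smul_zero]
  refine ⟨B w b / B a b, B w a / B b a, ?_⟩
  have h0 : w - (B w b / B a b) • a - (B w a / B b a) • b = 0 := by
    apply h.nondeg
    intro y
    have hm := (hW _).1 (hpr w)
    have hy := hpr y
    have hy' := (hW _).1 hy
    have h1 : y = (y - (B y b / B a b) • a - (B y a / B b a) • b) + ((B y b / B a b) • a + (B y a / B b a) • b) := by abel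
    rw [h1, h.add_right, h.add_right, h.smul_right, h.smul_right, hm.1, hm.2, mul_zero, mul_zero, add_zero, add_zero]
    apply hsw
    rw [h.sub_right, h.sub_right, h.smul_right, h.smul_right, hy'.1, hy'.2, mul_zero, mul_zero, sub_zero, sub_zero]
    exact key ⟨_, hy⟩
  rw [sub_sub, sub_eq_zero] at h0
  exact h0

end form

section main

universe u

open Cfsg.Agent.Lib.ClThreeTransU

variable {F : Type} [Field F] [Fintype F] {n : ℕ}

theorem exists_TR' (hF : Fintype.card F = 4) {v : Fin n → F} (hv : hermForm n F 2 v v = 0) :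
    ∃ A : SU n F 2, TR A v := by
  have hch := char2' hF
  have hF2 := hF22 hF
  let M : Matrix (Fin n) (Fin n) F := 1 + vecMulVec v (fun j => (v j) ^ 2)
  have hM : ∀ x, M *ᵥ x = x + hermForm n F 2 x v • v := by
    intro x
    show (1 + vecMulVec v (fun j => (v j) ^ 2)) *ᵥ x = _
    rw [add_mulVec, one_mulVec, vecMulVec_mulVec]
    congr 1
    funext i
    simp only [Pi.smul_apply, smul_eq_mul, MulOpposite.smul_eq_mul_unop, MulOpposite.unop_op]
    rw [mul_comm]
    congr 1
    rw [hermForm_def, dotProduct]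
    exact Finset.sum_congr rfl fun j _ => mul_comm _ _
  have hdet : M.det = 1 := by
    show (1 + vecMulVec v (fun j => (v j) ^ 2)).det = 1
    rw [vecMulVec_eq Unit, det_one_add_replicateCol_mul_replicateRow]
    have : (fun j => (v j) ^ 2) ⬝ᵥ v = 0 := by
      rw [← hv, hermForm_def, dotProduct]
      exact Finset.sum_congr rfl fun j _ => mul_comm _ _
    rw [this, add_zero]
  refine ⟨⟨⟨M, hdet⟩, ?_⟩, hM⟩
  intro x y
  show hermForm n F 2 (M *ᵥ x) (M *ᵥ y) = hermForm n F 2 x y
  rw [hM, hM, hermForm_add_left, hermForm_smul_left, hermForm_add_right hF2, hermForm_add_right hF2, hermForm_smul_right,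
    hermForm_smul_right, hv, ← hermForm_swap hF2 v y, mul_zero, add_zero]
  have h1 : (hermForm n F 2 v y ^ 2) ^ 2 = hermForm n F 2 v y := pow_q_pow_q hF2 _
  rw [h1]
  have h2 : hermForm n F 2 x v * hermForm n F 2 v y + hermForm n F 2 x v * hermForm n F 2 v y = 0 :=
    CharTwo.add_self_eq_zero _
  linear_combination h2

/-- `TR A v` determines the point of `v` -/
theorem TR_point (hF : Fintype.card F = 4) {A : SU n F 2} {v w : Fin n → F} (hA : TR A v) (hB : TR A w) (hv : v ≠ 0) :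
    ∃ c : F, v = c • w := by
  obtain ⟨y, hy⟩ := HermMat.exists_ne_zero (hF22 hF) hv
  have h1 := (hA y).symm.trans (hB y)
  have h2 := add_left_cancel h1
  refine ⟨(hermForm n F 2 y v)⁻¹ * hermForm n F 2 y w, ?_⟩
  rw [mul_smul, ← h2, smul_smul, inv_mul_cancel₀ hy, one_smul]

/-- the hypotheses of the unitary end game in coordinates -/
structure UHyp {G : Type u} [Group G] (D : Set G) (Φ : G → (Fin n → F)) : Prop where
  hF : Fintype.card F = 4
  hD : IsThreeTranspositionGroup D
  hZ : center G = ⊥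
  hn : 4 ≤ n
  h0 : ∀ x ∈ D, Φ x ≠ 0
  hi : ∀ x ∈ D, hermForm n F 2 (Φ x) (Φ x) = 0
  hinj : ∀ x ∈ D, ∀ y ∈ D, ∀ a : F, Φ y = a • Φ x → y = x
  hsur : ∀ v, v ≠ 0 → hermForm n F 2 v v = 0 → ∃ x ∈ D, ∃ a : F, v = a • Φ x
  hp : ∀ x ∈ D, ∀ y ∈ D, (Commute x y ↔ hermForm n F 2 (Φ x) (Φ y) = 0)

namespace UHyp

variable {G : Type u} [Group G] {D : Set G} {Φ : G → (Fin n → F)} (h : UHyp D Φ)
include h

theorem conj_mem (g : G) {x : G} (hx : x ∈ D) : g * x * g⁻¹ ∈ D := h.hD.2.1 g x hx

theorem conj_line {x y : G} (hx : x ∈ D) (hy : y ∈ D) :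
    ∃ a : F, Φ (x * y * x⁻¹) = a • (Φ y + hermForm n F 2 (Φ y) (Φ x) • Φ x) := by
  have hB := isHerm_hermForm (n := n) (hF22 h.hF)
  by_cases hc : Commute x y
  · refine ⟨1, ?_⟩
    have h1 : x * y * x⁻¹ = y := by rw [hc.eq, mul_inv_cancel_right]
    rw [h1, (h.hp y hy x hx).1 hc.symm, zero_smul, add_zero, one_smul]
  · have hz := h.conj_mem x hy
    have hyx : hermForm n F 2 (Φ y) (Φ x) ≠ 0 := fun h0 => hc ((h.hp y hy x hx).2 h0).symm
    obtain ⟨α, β, hw⟩ := perp_perp h.hF h.hn hB (h.hi y hy) (h.hi x hx) hyx (w := Φ (x * y * x⁻¹)) (by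
      intro u hu huy hux
      by_cases hu0 : u = 0
      · rw [hu0, hermForm_zero_left]
      obtain ⟨e, he, c, rfl⟩ := h.hsur u hu0 hu
      have hc0 : c ≠ 0 := by rintro rfl; exact hu0 (zero_smul _ _)
      rw [hermForm_smul_left] at huy hux ⊢
      have h1 := (h.hp e he y hy).2 ((mul_eq_zero.1 huy).resolve_left hc0)
      have h2 := (h.hp e he x hx).2 ((mul_eq_zero.1 hux).resolve_left hc0)
      rw [(h.hp e he _ hz).1 ((h2.mul_right h1).mul_right h2.inv_right), mul_zero])
    have hα : α ≠ 0 := by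
      rintro rfl
      rw [zero_smul, zero_add] at hw
      have h1 := h.hinj x hx _ hz β hw
      apply hc
      have h2 : x * y = x * x := by rw [← mul_inv_eq_iff_eq_mul.1 h1]
      rw [mul_left_cancel h2]
    have hβ : β ≠ 0 := by
      rintro rfl
      rw [zero_smul, add_zero] at hw
      have h1 := h.hinj y hy _ hz α hw
      exact hc (mul_inv_eq_iff_eq_mul.1 h1)
    refine ⟨α, ?_⟩
    have h1 := h.hi _ hz
    rw [hw] at h1
    rw [hw, third_point h.hF hB (h.hi y hy) (h.hi x hx) hyx hα hβ h1, smul_add, smul_smul]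

/-- compatibility of an element of `G` and an element of `SU` -/
def R (Φ : G → (Fin n → F)) (D : Set G) (g : G) (A : SU n F 2) : Prop :=
  ∀ y ∈ D, ∃ a : F, Φ (g * y * g⁻¹) = a • (mt A *ᵥ Φ y)

omit h in
theorem mt_inv_mulVec (A : SU n F 2) (x : Fin n → F) : mt A⁻¹ *ᵥ (mt A *ᵥ x) = x := by
  rw [mulVec_mulVec, ← mt_mul, inv_mul_cancel, mt_one, one_mulVec]

/-- the correspondence -/
def K : Subgroup (G × SU n F 2) where
  carrier := {p | R Φ D p.1 p.2}
  one_mem' := by
    intro y _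
    refine ⟨1, ?_⟩
    show Φ (1 * y * 1⁻¹) = (1 : F) • (mt (1 : SU n F 2) *ᵥ Φ y)
    rw [one_mul, inv_one, mul_one, one_smul, mt_one, one_mulVec]
  mul_mem' := by
    rintro ⟨g, A⟩ ⟨g', A'⟩ h1 h2 y hy
    obtain ⟨a', ha'⟩ := h2 y hy
    obtain ⟨a, ha⟩ := h1 _ (h.conj_mem g' hy)
    refine ⟨a * a', ?_⟩
    show Φ (g * g' * y * (g * g')⁻¹) = (a * a') • (mt (A * A') *ᵥ Φ y)
    have h3 : g * g' * y * (g * g')⁻¹ = g * (g' * y * g'⁻¹) * g⁻¹ := by group
    rw [h3, mt_mul, ← mulVec_mulVec, mul_smul, ← mulVec_smul]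
    rw [← ha']
    exact ha
  inv_mem' := by
    rintro ⟨g, A⟩ h1 y hy
    have hy' : g⁻¹ * y * g⁻¹⁻¹ ∈ D := h.conj_mem g⁻¹ hy
    obtain ⟨a, ha⟩ := h1 _ hy'
    have h3 : g * (g⁻¹ * y * g⁻¹⁻¹) * g⁻¹ = y := by group
    have ha' : Φ y = a • (mt A *ᵥ Φ (g⁻¹ * y * g⁻¹⁻¹)) := by
      rw [← ha]; exact congrArg Φ h3.symm
    have ha0 : a ≠ 0 := by
      rintro rfl
      rw [zero_smul] at ha'
      exact h.h0 y hy ha'
    refine ⟨a⁻¹, ?_⟩
    show Φ (g⁻¹ * y * g⁻¹⁻¹) = a⁻¹ • (mt A⁻¹ *ᵥ Φ y)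
    rw [ha', mulVec_smul, mt_inv_mulVec, smul_smul, inv_mul_cancel₀ ha0, one_smul]

theorem mem_K {g : G} {A : SU n F 2} : (g, A) ∈ h.K ↔ R Φ D g A := Iff.rfl

theorem pair_mem {x : G} (hx : x ∈ D) {A : SU n F 2} (hA : TR A (Φ x)) : (x, A) ∈ h.K := by
  rw [mem_K]
  intro y hy
  rw [hA]
  exact h.conj_line hx hy

/-- projections -/
def p1 : h.K →* G := (MonoidHom.fst G (SU n F 2)).comp h.K.subtype
def p2 : h.K →* SU n F 2 := (MonoidHom.snd G (SU n F 2)).comp h.K.subtype

theorem p1_surj : Function.Surjective h.p1 := by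
  rw [← MonoidHom.range_eq_top, eq_top_iff, ← h.hD.2.2, Subgroup.closure_le]
  intro x hx
  obtain ⟨A, hA⟩ := exists_TR' h.hF (h.hi x hx)
  exact ⟨⟨(x, A), h.pair_mem hx hA⟩, rfl⟩

theorem exists_pair {A : SU n F 2} {v : Fin n → F} (hv : hermForm n F 2 v v = 0) (hv0 : v ≠ 0) (hA : TR A v) :
    ∃ x ∈ D, TR A (Φ x) := by
  obtain ⟨x, hx, a, rfl⟩ := h.hsur v hv0 hv
  refine ⟨x, hx, ?_⟩
  have ha0 : a ≠ 0 := by rintro rfl; exact hv0 (zero_smul _ _)
  have h1 := hA.smul h.hF (inv_ne_zero ha0)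
  rwa [smul_smul, inv_mul_cancel₀ ha0, one_smul] at h1

omit h in
theorem closure_TR (hF : Fintype.card F = 4) (hn : 4 ≤ n) {K : Subgroup (SU n F 2)}
    (hK : ∀ (A : SU n F 2) (v : Fin n → F), hermForm n F 2 v v = 0 → v ≠ 0 → TR A v → A ∈ K) : K = ⊤ := by
  classical
  rw [eq_top_iff, ← (Cfsg.Agent.S1631.result F hF n hn).2.2, Subgroup.closure_le]
  intro A hA
  obtain ⟨v, hv0, hvv, hT⟩ := exists_TR hF A hA
  exact hK A v hvv hv0 hT

theorem p2_surj : Function.Surjective h.p2 := by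
  rw [← MonoidHom.range_eq_top]
  apply closure_TR h.hF h.hn
  intro A v hvv hv0 hA
  obtain ⟨x, hx, hAx⟩ := h.exists_pair hvv hv0 hA
  exact ⟨⟨(x, A), h.pair_mem hx hAx⟩, rfl⟩

omit h in
theorem herm_mt (A : SU n F 2) (x y : Fin n → F) : hermForm n F 2 (mt A *ᵥ x) (mt A *ᵥ y) = hermForm n F 2 x y :=
  A.2 x y

theorem ker_eq : h.p1.ker = ((QuotientGroup.mk' (center (SU n F 2))).comp h.p2).ker := by
  ext ⟨⟨g, A⟩, hgA⟩
  have hR : R Φ D g A := hgA
  rw [MonoidHom.mem_ker, MonoidHom.mem_ker, MonoidHom.comp_apply, QuotientGroup.mk'_apply, QuotientGroup.eq_one_iff]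
  show g = 1 ↔ A ∈ center (SU n F 2)
  constructor
  · rintro rfl
    have h1 : Subgroup.centralizer {A} = ⊤ := by
      apply closure_TR h.hF h.hn
      intro B v hvv hv0 hB
      obtain ⟨x, hx, hBx⟩ := h.exists_pair hvv hv0 hB
      rw [Subgroup.mem_centralizer_singleton_iff]
      obtain ⟨a, ha⟩ := hR x hx
      have h2 : (1 : G) * x * 1⁻¹ = x := by group
      rw [h2] at ha
      have ha0 : a ≠ 0 := by
        rintro rfl
        rw [zero_smul] at ha
        exact h.h0 x hx ha
      have h3 := hBx.conj h.hF (g := A)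
      have h4 := h3.smul h.hF ha0
      rw [← ha] at h4
      have h5 := h4.unique hBx
      rw [mul_inv_eq_iff_eq_mul] at h5
      exact h5.symm
    rw [mem_center_iff]
    intro B
    have h2 : B ∈ Subgroup.centralizer {A} := by rw [h1]; exact mem_top _
    exact Subgroup.mem_centralizer_singleton_iff.1 h2
  · intro hA
    have h1 : g ∈ center G := by
      apply mem_center_of_comm h.hD.2.2
      intro x hx
      obtain ⟨B, hB⟩ := exists_TR' h.hF (h.hi x hx)
      have h2 := hB.conj h.hF (g := A)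
      have h3 : A * B * A⁻¹ = B := by
        rw [← mem_center_iff.1 hA B, mul_inv_cancel_right]
      rw [h3] at h2
      have hne : mt A *ᵥ Φ x ≠ 0 := by
        intro h0
        have := mt_inv_mulVec A (Φ x)
        rw [h0, mulVec_zero] at this
        exact h.h0 x hx this.symm
      obtain ⟨c, hc⟩ := TR_point h.hF h2 hB hne
      obtain ⟨a, ha⟩ := hR x hx
      rw [hc, smul_smul] at ha
      have h4 := h.hinj x hx _ (h.conj_mem g hx) _ ha
      exact mul_inv_eq_iff_eq_mul.1 h4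
    rw [h.hZ] at h1
    exact mem_bot.1 h1

theorem main : Nonempty (G ≃* PSU n F 2) := by
  have h1 : Function.Surjective ((QuotientGroup.mk' (center (SU n F 2))).comp h.p2) :=
    (QuotientGroup.mk'_surjective _).comp h.p2_surj
  exact ⟨(QuotientGroup.quotientKerEquivOfSurjective _ h.p1_surj).symm.trans
    ((QuotientGroup.quotientMulEquivOfEq h.ker_eq).trans (QuotientGroup.quotientKerEquivOfSurjective _ h1))⟩

end UHyp

/-- coordinates -/
theorem uHyp_of_points {G : Type*} [Group G] {D : Set G} (hD : IsThreeTranspositionGroup D)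
    (hZ : center G = ⊥) {F : Type} [Field F] [Fintype F] (hF : Fintype.card F = 4) {V : Type*} [AddCommGroup V]
    [Module F V] [Finite V] (h : V → V → F) (hadd : ∀ u v w, h (u + v) w = h u w + h v w)
    (hsm : ∀ (a : F) u w, h (a • u) w = a * h u w) (hsy : ∀ u w, h w u = (h u w) ^ 2)
    (hnd : ∀ u, (∀ w, h u w = 0) → u = 0) (h4 : 4 ≤ Module.finrank F V) (Φ : G → V)
    (h0 : ∀ x ∈ D, Φ x ≠ 0) (hi : ∀ x ∈ D, h (Φ x) (Φ x) = 0)
    (hinj : ∀ x ∈ D, ∀ y ∈ D, ∀ a : F, Φ y = a • Φ x → y = x)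
    (hsur : ∀ v, v ≠ 0 → h v v = 0 → ∃ x ∈ D, ∃ a : F, v = a • Φ x)
    (hp : ∀ x ∈ D, ∀ y ∈ D, (Commute x y ↔ h (Φ x) (Φ y) = 0)) :
    ∃ Φ' : G → (Fin (Module.finrank F V) → F), UHyp D Φ' := by
  have hB : IsHerm (frob (hF22 hF)) 1 h :=
    { add_left := hadd
      smul_left := hsm
      symm := fun x y => by rw [one_mul, frob_apply]; exact hsy x y
      nondeg := hnd }
  have : FiniteDimensional F V := Module.Finite.of_finite
  obtain ⟨e, he⟩ := exists_standard (hF22 hF) _ hB rfl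
  refine ⟨fun x => e (Φ x), ?_⟩
  refine ⟨hF, hD, hZ, h4, ?_, ?_, ?_, ?_, ?_⟩
  · intro x hx h1
    exact h0 x hx (e.map_eq_zero_iff.1 h1)
  · intro x hx
    rw [he]; exact hi x hx
  · intro x hx y hy a h1
    rw [← map_smul] at h1
    exact hinj x hx y hy a (e.injective h1)
  · intro v hv0 hv
    obtain ⟨x, hx, a, ha⟩ := hsur (e.symm v) (by rw [Ne, e.symm.map_eq_zero_iff]; exact hv0) (by
      rw [← he, e.apply_symm_apply]; exact hv)
    refine ⟨x, hx, a, ?_⟩
    rw [← map_smul, ← ha, e.apply_symm_apply]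
  · intro x hx y hy
    rw [he]; exact hp x hx y hy

/-- the end game in the form of helper42 -/
theorem psu_of_points {G : Type*} [Group G] {D : Set G} (hD : IsThreeTranspositionGroup D)
    (hZ : center G = ⊥) {F : Type} [Field F] [Fintype F] (hF : Fintype.card F = 4) {V : Type*} [AddCommGroup V]
    [Module F V] [Finite V] (h : V → V → F) (hadd : ∀ u v w, h (u + v) w = h u w + h v w)
    (hsm : ∀ (a : F) u w, h (a • u) w = a * h u w) (hsy : ∀ u w, h w u = (h u w) ^ 2)
    (hnd : ∀ u, (∀ w, h u w = 0) → u = 0) (h4 : 4 ≤ Module.finrank F V) (Φ : G → V)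
    (h0 : ∀ x ∈ D, Φ x ≠ 0) (hi : ∀ x ∈ D, h (Φ x) (Φ x) = 0)
    (hinj : ∀ x ∈ D, ∀ y ∈ D, ∀ a : F, Φ y = a • Φ x → y = x)
    (hsur : ∀ v, v ≠ 0 → h v v = 0 → ∃ x ∈ D, ∃ a : F, v = a • Φ x)
    (hp : ∀ x ∈ D, ∀ y ∈ D, (Commute x y ↔ h (Φ x) (Φ y) = 0)) :
    Nonempty (G ≃* PSU (Module.finrank F V) F 2) := by
  obtain ⟨Φ', h'⟩ := uHyp_of_points hD hZ hF h hadd hsm hsy hnd h4 Φ h0 hi hinj hsur hp
  exact h'.main

end main

end Cfsg.Agent.Lib.FisEnd
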