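import Mathlib
import Cfsg.Agent.Lib.K4

/-! The function `l` attached to an extension of a hermitian space over F4 (P5 for S1616). -/

set_option autoImplicit false

namespace Cfsg.Agent.FisLam

open Cfsg.Agent.Lib.K4

theorem c_add_self : ∀ a : K4, a + a = 0 := by decide +kernel
theorem c_sq_add : ∀ a b : K4, (a + b) * (a + b) = a * a + b * b := by decide +kernel
theorem c_sq_sq : ∀ a : K4, (a * a) * (a * a) = a := by decide +kernel
theorem c_exists : ∀ a : K4, a = a * a → ∃ b : K4, b + b * b = a := by decide +kernel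
theorem c_uniq : ∀ a b : K4, a + a * a = b + b * b → a = b ∨ b = a + 1 := by decide +kernel
theorem c_one : ∀ a : K4, a = a * a → a ≠ 0 → a = 1 := by decide +kernel
theorem c_neg : ∀ a : K4, -a = a := by decide +kernel
theorem c_one_ne : (1 : K4) ≠ 0 := by decide +kernel
theorem c_one_one : (1 : K4) + 1 * 1 = 0 := by decide +kernel
theorem c_one_add_one : (1 : K4) + 1 = 0 := by decide +kernel

section general

variable {P : Type*} [Group P] [Finite P]

theorem exists_half (P0 : Subgroup P) (τ z : P) (hτc : ∀ p : P, τ * p = p * τ) (hτ0 : τ ∈ P0)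
    (hττ : τ * τ = 1) (hsq : ∀ p ∈ P0, p * p = 1 ∨ p * p = τ) (hz1 : z ≠ 1) (hzτ : z ≠ τ) :
    ∃ K : Subgroup P, K ≤ P0 ∧ τ ∈ K ∧ z ∉ K ∧ ∀ p ∈ P0, p ∈ K ∨ p * z ∈ K := by
  classical
  have hτinv : τ⁻¹ = τ := inv_eq_of_mul_eq_one_right hττ
  have hT : ∀ K : Subgroup P, τ ∈ K → ∀ c : P, (c = 1 ∨ c = τ) → c ∈ K := by
    rintro K hK c (rfl | rfl)
    · exact K.one_mem
    · exact hK
  have hcc : ∀ c : P, (c = 1 ∨ c = τ) → ∀ p : P, c * p = p * c := by
    rintro c (rfl | rfl) p
    · simp
    · exact hτc p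
  have hcomm : ∀ p ∈ P0, ∀ k ∈ P0, ∃ c : P, (c = 1 ∨ c = τ) ∧ p * k = c * (k * p) := by
    intro p hp k hk
    have h1 := hsq (p * k) (P0.mul_mem hp hk)
    have h2 := hsq p hp
    have h3 := hsq k hk
    -- p k p k = c1, p p = c2, k k = c3
    set c1 := p * k * (p * k) with hc1
    set c2 := p * p with hc2
    set c3 := k * k with hc3
    have e : p * k = c1 * c2⁻¹ * c3⁻¹ * (k * p) := by
      have e1 : k * p = c3 * (k⁻¹ * p⁻¹) * c2 := by rw [hc3, hc2]; group
      have c3c := hcc c3 h3
      have c2c := hcc c2 h2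
      rw [e1]
      have : c1 * c2⁻¹ * c3⁻¹ * (c3 * (k⁻¹ * p⁻¹) * c2) = c1 * (k⁻¹ * p⁻¹) := by
        have h5 : c2⁻¹ * (k⁻¹ * p⁻¹) = (k⁻¹ * p⁻¹) * c2⁻¹ := by
          have := c2c (k⁻¹ * p⁻¹)
          calc c2⁻¹ * (k⁻¹ * p⁻¹) = c2⁻¹ * ((k⁻¹ * p⁻¹) * c2) * c2⁻¹ := by group
            _ = c2⁻¹ * (c2 * (k⁻¹ * p⁻¹)) * c2⁻¹ := by rw [this]
            _ = (k⁻¹ * p⁻¹) * c2⁻¹ := by group
        calc c1 * c2⁻¹ * c3⁻¹ * (c3 * (k⁻¹ * p⁻¹) * c2) = c1 * (c2⁻¹ * (k⁻¹ * p⁻¹)) * c2 := by group
          _ = c1 * ((k⁻¹ * p⁻¹) * c2⁻¹) * c2 := by rw [h5]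
          _ = c1 * (k⁻¹ * p⁻¹) := by group
      rw [this, hc1]; group
    refine ⟨c1 * c2⁻¹ * c3⁻¹, ?_, e⟩
    rcases h1 with h1 | h1 <;> rcases h2 with h2 | h2 <;> rcases h3 with h3 | h3 <;>
      simp [h1, h2, h3, hτinv, hττ]
  -- maximal K
  let S : Set (Subgroup P) := {K | K ≤ P0 ∧ τ ∈ K ∧ z ∉ K}
  have hSne : S.Nonempty := by
    refine ⟨Subgroup.zpowers τ, ?_, Subgroup.mem_zpowers τ, ?_⟩
    · rw [Subgroup.zpowers_le]; exact hτ0
    · intro hz
      obtain ⟨n, hn⟩ := Subgroup.mem_zpowers_iff.1 hz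
      rcases Int.even_or_odd' n with ⟨m, hm | hm⟩
      · apply hz1
        rw [← hn, hm, zpow_mul, zpow_two, hττ, one_zpow]
      · apply hzτ
        rw [← hn, hm, zpow_add, zpow_mul, zpow_two, hττ, one_zpow, one_mul, zpow_one]
  have hSfin : S.Finite := Set.toFinite S
  obtain ⟨K, hK⟩ := hSfin.exists_maximal hSne
  obtain ⟨⟨hKP, hKτ, hKz⟩, hKmax⟩ := hK
  refine ⟨K, hKP, hKτ, hKz, ?_⟩
  intro p hp
  by_contra hcon
  push Not at hcon
  obtain ⟨hpK, hpzK⟩ := hcon
  have hpp : p * p ∈ K := hT K hKτ _ (hsq p hp)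
  have hxP : ∀ x : P, p * x ∈ K → x ∈ P0 := by
    intro x hx
    have := P0.mul_mem (P0.inv_mem hp) (hKP hx)
    simpa [mul_assoc] using this
  let K' : Subgroup P :=
    { carrier := {x | x ∈ K ∨ p * x ∈ K}
      one_mem' := Or.inl K.one_mem
      mul_mem' := by
        rintro x y (hx | hx) (hy | hy)
        · exact Or.inl (K.mul_mem hx hy)
        · right
          obtain ⟨c, hc, he⟩ := hcomm p hp x (hKP hx)
          have : p * (x * y) = c * x * (p * y) := by
            calc p * (x * y) = (p * x) * y := by group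
              _ = c * (x * p) * y := by rw [he]
              _ = c * x * (p * y) := by group
          rw [this]
          exact K.mul_mem (K.mul_mem (hT K hKτ c hc) hx) hy
        · right
          rw [← mul_assoc]
          exact K.mul_mem hx hy
        · left
          obtain ⟨c, hc, he⟩ := hcomm p hp x (hxP x hx)
          -- p x = c x p
          have : x * y = (c⁻¹ * (p * p))⁻¹ * ((p * x) * (p * y)) := by
            have hc' := hcc c hc
            have e1 : x * p = c⁻¹ * (p * x) := by rw [he]; group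
            have e2 : (p * x) * (p * y) = c⁻¹ * (p * p) * (x * y) := by
              calc (p * x) * (p * y) = p * (x * p) * y := by group
                _ = p * (c⁻¹ * (p * x)) * y := by rw [e1]
                _ = (p * c⁻¹) * (p * x) * y := by group
                _ = (c⁻¹ * p) * (p * x) * y := by
                    congr 2
                    have := hc' p
                    calc p * c⁻¹ = c⁻¹ * (c * p) * c⁻¹ := by group
                      _ = c⁻¹ * (p * c) * c⁻¹ := by rw [this]
                      _ = c⁻¹ * p := by group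
                _ = c⁻¹ * (p * p) * (x * y) := by group
            rw [e2]; group
          change x * y ∈ K
          rw [this]
          exact K.mul_mem (K.inv_mem (K.mul_mem (K.inv_mem (hT K hKτ c hc)) hpp)) (K.mul_mem hx hy)
      inv_mem' := by
        rintro x (hx | hx)
        · exact Or.inl (K.inv_mem hx)
        · right
          obtain ⟨c, hc, he⟩ := hcomm p hp x⁻¹ (P0.inv_mem (hxP x hx))
          have : p * x⁻¹ = c * ((p * p)⁻¹ * (p * x))⁻¹ := by
            rw [he]; group
          change p * x⁻¹ ∈ K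
          rw [this]
          exact K.mul_mem (hT K hKτ c hc) (K.inv_mem (K.mul_mem (K.inv_mem hpp) hx)) }
  have hKK' : K ≤ K' := fun x hx => Or.inl hx
  have hpK' : p ∈ K' := Or.inr hpp
  have hK'P : K' ≤ P0 := by
    rintro x (hx | hx)
    · exact hKP hx
    · exact hxP x hx
  by_cases hz : z ∈ K'
  · rcases hz with hz | hz
    · exact hKz hz
    · exact hpzK hz
  · have : K' ≤ K := hKmax ⟨hK'P, hKK' hKτ, hz⟩ hKK'
    exact hpK (this hpK')

end general

structure PE (W : Type*) where
  w : W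
  a : K4

theorem PE.ext' {W : Type*} {x y : PE W} (h1 : x.w = y.w) (h2 : x.a = y.a) : x = y := by
  cases x; cases y; simp_all

section

variable {W : Type*} [Group W] {V : Type*} [AddCommGroup V] (d : W → V)
  (hd : ∀ w w', d (w * w') = d w + d w')
  (h : V → V → K4) (hl : ∀ u v w, h (u + v) w = h u w + h v w)
  (hr : ∀ u v w, h w (u + v) = h w u + h w v)

include hd in
theorem d_one : d 1 = 0 := by
  have := hd 1 1
  rw [mul_one] at this
  exact left_eq_add.1 this

include hd in
theorem d_inv (w : W) : d w⁻¹ = - d w := by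
  have := hd w⁻¹ w
  rw [inv_mul_cancel, d_one d hd] at this
  exact eq_neg_of_add_eq_zero_left this.symm

include hl in
theorem h_zero_left (v : V) : h 0 v = 0 := by
  have := hl 0 0 v
  rw [add_zero] at this
  exact left_eq_add.1 this

include hr in
theorem h_zero_right (v : V) : h v 0 = 0 := by
  have := hr 0 0 v
  rw [add_zero] at this
  exact left_eq_add.1 this

include hl in
theorem h_neg_left (u v : V) : h (-u) v = h u v := by
  have := hl (-u) u v
  rw [neg_add_cancel, h_zero_left h hl] at this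
  have h2 := eq_neg_of_add_eq_zero_left this.symm
  rw [h2, c_neg]

include hr in
theorem h_neg_right (u v : V) : h v (-u) = h v u := by
  have := hr (-u) u v
  rw [neg_add_cancel, h_zero_right h hr] at this
  have h2 := eq_neg_of_add_eq_zero_left this.symm
  rw [h2, c_neg]

/-- the group structure on `W × K4` -/
@[reducible] def pgroup : Group (PE W) where
  mul x y := ⟨x.w * y.w, x.a + y.a + h (d x.w) (d y.w)⟩
  one := ⟨1, 0⟩
  inv x := ⟨x.w⁻¹, x.a + h (d x.w) (d x.w)⟩
  mul_assoc x y z := by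
    apply PE.ext'
    · change x.w * y.w * z.w = x.w * (y.w * z.w)
      rw [mul_assoc]
    · change x.a + y.a + h (d x.w) (d y.w) + z.a + h (d (x.w * y.w)) (d z.w) =
        x.a + (y.a + z.a + h (d y.w) (d z.w)) + h (d x.w) (d (y.w * z.w))
      rw [hd, hd, hl, hr]
      ring
  one_mul x := by
    apply PE.ext'
    · change 1 * x.w = x.w
      rw [one_mul]
    · change 0 + x.a + h (d 1) (d x.w) = x.a
      rw [d_one d hd, h_zero_left h hl]; ring
  mul_one x := by
    apply PE.ext'
    · change x.w * 1 = x.w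
      rw [mul_one]
    · change x.a + 0 + h (d x.w) (d 1) = x.a
      rw [d_one d hd, h_zero_right h hr]; ring
  inv_mul_cancel x := by
    apply PE.ext'
    · change x.w⁻¹ * x.w = 1
      rw [inv_mul_cancel]
    · change x.a + h (d x.w) (d x.w) + x.a + h (d x.w⁻¹) (d x.w) = 0
      rw [d_inv d hd, h_neg_left h hl]
      linear_combination c_add_self x.a + c_add_self (h (d x.w) (d x.w))

end

theorem exists_lam {W : Type*} [Group W] [Finite W] {V : Type*} [AddCommGroup V] (t : W)
    (ht : t ≠ 1) (htt : t * t = 1)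
    (d : W → V) (hd : ∀ w w', d (w * w') = d w + d w') (hdt : d t = 0)
    (hker : ∀ w, d w = 0 → w = 1 ∨ w = t)
    (h : V → V → K4) (hl : ∀ u v w, h (u + v) w = h u w + h v w)
    (hs : ∀ u v, h v u = h u v * h u v)
    (hsq : ∀ w, w * w = if h (d w) (d w) = 0 then 1 else t) :
    ∃ l : W → K4, (∀ w w', l (w * w') = l w + l w' + h (d w) (d w')) ∧ l t = 1 ∧
      ∀ w, l w + l w * l w = h (d w) (d w) := by
  classical
  have hr : ∀ u v w, h w (u + v) = h w u + h w v := by
    intro u v w
    rw [hs (u + v) w, hl, c_sq_add, ← hs, ← hs]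
  letI : Group (PE W) := pgroup d hd h hl hr
  have hmul : ∀ x y : PE W, x * y = ⟨x.w * y.w, x.a + y.a + h (d x.w) (d y.w)⟩ := fun _ _ => rfl
  have hone : (1 : PE W) = ⟨1, 0⟩ := rfl
  have hinv : ∀ x : PE W, x⁻¹ = ⟨x.w⁻¹, x.a + h (d x.w) (d x.w)⟩ := fun _ => rfl
  haveI : Finite (PE W) := by
    haveI : Finite K4 := Finite.of_fintype K4
    exact Finite.of_injective (fun x : PE W => (x.w, x.a)) (by
      intro x y hxy
      simp only [Prod.mk.injEq] at hxy
      exact PE.ext' hxy.1 hxy.2)
  have htc : ∀ w : W, t * w = w * t := by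
    intro w
    have h1 : d (w * t * w⁻¹) = 0 := by
      rw [hd, hd, d_inv d hd, hdt]; abel
    rcases hker _ h1 with h2 | h2
    · exfalso
      apply ht
      have : t = w⁻¹ * (w * t * w⁻¹) * w := by group
      rw [this, h2]; group
    · calc t * w = (w * t * w⁻¹) * w := by rw [h2]
        _ = w * t := by group
  have h00 : h 0 0 = 0 := h_zero_left h hl 0
  let P0 : Subgroup (PE W) :=
    { carrier := {x | x.a + x.a * x.a = h (d x.w) (d x.w)}
      one_mem' := by
        change (0 : K4) + 0 * 0 = h (d 1) (d 1)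
        rw [d_one d hd, h00]; ring
      mul_mem' := by
        intro x y hx hy
        change (x.a + y.a + h (d x.w) (d y.w)) +
          (x.a + y.a + h (d x.w) (d y.w)) * (x.a + y.a + h (d x.w) (d y.w)) =
          h (d (x.w * y.w)) (d (x.w * y.w))
        have hx' : x.a + x.a * x.a = h (d x.w) (d x.w) := hx
        have hy' : y.a + y.a * y.a = h (d y.w) (d y.w) := hy
        rw [c_sq_add, c_sq_add, hd, hl, hr, hr, ← hs, ← hx', ← hy']
        ring
      inv_mem' := by
        intro x hx
        have hx' : x.a + x.a * x.a = h (d x.w) (d x.w) := hx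
        change (x.a + h (d x.w) (d x.w)) + (x.a + h (d x.w) (d x.w)) * (x.a + h (d x.w) (d x.w)) =
          h (d x.w⁻¹) (d x.w⁻¹)
        rw [c_sq_add, ← hs, d_inv d hd, h_neg_left h hl, h_neg_right h hr]
        linear_combination hx' + c_add_self (h (d x.w) (d x.w)) }
  let τ : PE W := ⟨t, 1⟩
  let z : PE W := ⟨1, 1⟩
  have hz1 : z ≠ 1 := by
    intro hcon
    have : z.a = (1 : PE W).a := by rw [hcon]
    exact c_one_ne this
  have hzτ : z ≠ τ := by
    intro hcon
    have : z.w = τ.w := by rw [hcon]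
    exact ht this.symm
  have hττ : τ * τ = 1 := by
    rw [hmul, hone]
    apply PE.ext'
    · exact htt
    · change (1 : K4) + 1 + h (d t) (d t) = 0
      rw [hdt, h00, c_one_add_one]; ring
  have hτ0 : τ ∈ P0 := by
    change (1 : K4) + 1 * 1 = h (d t) (d t)
    rw [hdt, h00, c_one_one]
  have hτc : ∀ p : PE W, τ * p = p * τ := by
    intro p
    rw [hmul, hmul]
    apply PE.ext'
    · exact htc p.w
    · change (1 : K4) + p.a + h (d t) (d p.w) = p.a + 1 + h (d p.w) (d t)
      rw [hdt, h_zero_left h hl, h_zero_right h hr]; ring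
  have hsq' : ∀ p ∈ P0, p * p = 1 ∨ p * p = τ := by
    intro p _
    have hN : h (d p.w) (d p.w) = h (d p.w) (d p.w) * h (d p.w) (d p.w) := hs _ _
    by_cases h0 : h (d p.w) (d p.w) = 0
    · left
      rw [hmul, hone]
      apply PE.ext'
      · change p.w * p.w = 1
        rw [hsq, if_pos h0]
      · change p.a + p.a + h (d p.w) (d p.w) = 0
        rw [h0, c_add_self]; ring
    · right
      rw [hmul]
      apply PE.ext'
      · change p.w * p.w = t
        rw [hsq, if_neg h0]
      · change p.a + p.a + h (d p.w) (d p.w) = 1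
        rw [c_one _ hN h0, c_add_self]; ring
  obtain ⟨K, hKP, hKτ, hKz, hKall⟩ := exists_half P0 τ z hτc hτ0 hττ hsq' hz1 hzτ
  have hex : ∀ w : W, ∃ a : K4, (⟨w, a⟩ : PE W) ∈ K := by
    intro w
    obtain ⟨b, hb⟩ := c_exists (h (d w) (d w)) (hs _ _)
    rcases hKall ⟨w, b⟩ hb with h1 | h1
    · exact ⟨b, h1⟩
    · refine ⟨b + 1, ?_⟩
      have : (⟨w, b⟩ : PE W) * z = ⟨w, b + 1⟩ := by
        rw [hmul]
        apply PE.ext'
        · change w * 1 = w
          rw [mul_one]
        · change b + 1 + h (d w) (d 1) = b + 1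
          rw [d_one d hd, h_zero_right h hr]; ring
      rwa [this] at h1
  have huniq : ∀ (w : W) (a b : K4), (⟨w, a⟩ : PE W) ∈ K → (⟨w, b⟩ : PE W) ∈ K → a = b := by
    intro w a b ha hb
    have ha' : a + a * a = h (d w) (d w) := hKP ha
    have hb' : b + b * b = h (d w) (d w) := hKP hb
    rcases c_uniq a b (ha'.trans hb'.symm) with h1 | h1
    · exact h1
    · exfalso
      apply hKz
      have e : z = (⟨w, a⟩ : PE W)⁻¹ * ⟨w, b⟩ := by
        rw [eq_inv_mul_iff_mul_eq, hmul]
        apply PE.ext'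
        · change w * 1 = w
          rw [mul_one]
        · change a + 1 + h (d w) (d 1) = b
          rw [d_one d hd, h_zero_right h hr, h1]; ring
      rw [e]
      exact K.mul_mem (K.inv_mem ha) hb
  choose l hlK using hex
  refine ⟨l, ?_, ?_, ?_⟩
  · intro w w'
    exact huniq _ _ _ (hlK _) (K.mul_mem (hlK w) (hlK w'))
  · exact huniq _ _ _ (hlK _) hKτ
  · intro w
    exact hKP (hlK w)

end Cfsg.Agent.FisLam
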