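import Mathlib

/-! Lemma U (partially additive functions on the isotropic vectors of a hermitian space over F4). -/

set_option autoImplicit false

namespace Cfsg.Agent.FisLemU

theorem two_eq_zero {F : Type*} [Field F] [Fintype F] (hF : Fintype.card F = 4) : (2 : F) = 0 := by
  have h : ((Fintype.card F : ℕ) : F) = 0 := Nat.cast_card_eq_zero F
  rw [hF] at h
  have h2 : (2 : F) * 2 = 0 := by
    have : ((4 : ℕ) : F) = 2 * 2 := by norm_num
    rw [← this]; exact h
  rcases mul_eq_zero.1 h2 with h | h <;> exact h

theorem exists_w {F : Type*} [Field F] [Fintype F] (hF : Fintype.card F = 4) :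
    ∃ w : F, w * w = w + 1 ∧ w ≠ 0 ∧ w ≠ 1 ∧ ∀ x : F, x = 0 ∨ x = 1 ∨ x = w ∨ x = w + 1 := by
  classical
  have h2 := two_eq_zero hF
  have h4 : ∀ x : F, x ^ 4 = x := fun x => by
    have := FiniteField.pow_card x; rwa [hF] at this
  have hex : ∃ w : F, w ≠ 0 ∧ w ≠ 1 := by
    by_contra hcon
    push Not at hcon
    have : Fintype.card F ≤ 2 := by
      have hs : (Finset.univ : Finset F) ⊆ {0, 1} := by
        intro x _
        by_cases hx : x = 0
        · simp [hx]
        · simp [hcon x hx]
      exact (Finset.card_le_card hs).trans Finset.card_le_two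
    omega
  obtain ⟨w, hw0, hw1⟩ := hex
  have key : ∀ x : F, x ≠ 0 → x ≠ 1 → x * x = x + 1 := by
    intro x hx0 hx1
    have h := h4 x
    have h' : x * (x - 1) * (x * x + x + 1) = 0 := by linear_combination h
    rcases mul_eq_zero.1 h' with h'' | h''
    · rcases mul_eq_zero.1 h'' with h3 | h3
      · exact absurd h3 hx0
      · exact absurd (sub_eq_zero.1 h3) hx1
    · linear_combination h'' - (x + 1) * h2
  refine ⟨w, key w hw0 hw1, hw0, hw1, fun x => ?_⟩
  by_cases hx0 : x = 0
  · exact Or.inl hx0
  by_cases hx1 : x = 1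
  · exact Or.inr (Or.inl hx1)
  have hxx := key x hx0 hx1
  have hww := key w hw0 hw1
  have h' : (x - w) * (x - (w + 1)) = 0 := by
    linear_combination hxx + hww + (1 + w - w * x) * h2
  rcases mul_eq_zero.1 h' with h3 | h3
  · exact Or.inr (Or.inr (Or.inl (sub_eq_zero.1 h3)))
  · exact Or.inr (Or.inr (Or.inr (sub_eq_zero.1 h3)))

section

variable {F V : Type*} [Field F] [Fintype F] (hF : Fintype.card F = 4) [AddCommGroup V] [Module F V]
  (h : V → V → F) (hadd : ∀ u v w, h (u + v) w = h u w + h v w) (hsmul : ∀ (a : F) u v, h (a • u) v = a * h u v)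
  (hsymm : ∀ u v, h v u = (h u v) ^ 2)

include hF hadd hsymm in
theorem add_right' (u v w : V) : h u (v + w) = h u v + h u w := by
  have h2 := two_eq_zero hF
  rw [hsymm (v + w) u, hadd, hsymm v u, hsymm w u]
  linear_combination (h v u * h w u) * h2

include hsmul hsymm in
theorem smul_right' (a : F) (u v : V) : h u (a • v) = a ^ 2 * h u v := by
  rw [hsymm (a • v) u, hsmul, hsymm v u]; ring

include hF in
theorem vadd_self (v : V) : v + v = 0 := by
  have h2 := two_eq_zero hF
  rw [← two_smul F v, h2, zero_smul]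

include hsymm in
theorem self_cases (v : V) : h v v = 0 ∨ h v v = 1 := by
  have h1 := hsymm v v
  have h' : h v v * (h v v - 1) = 0 := by linear_combination -h1
  rcases mul_eq_zero.1 h' with h3 | h3
  · exact Or.inl h3
  · exact Or.inr (sub_eq_zero.1 h3)

end

theorem exists_linear {F V : Type*} [Field F] [Fintype F] (hF : Fintype.card F = 4) [AddCommGroup V] [Module F V]
    (h : V → V → F) (hadd : ∀ u v w, h (u + v) w = h u w + h v w) (hsmul : ∀ (a : F) u v, h (a • u) v = a * h u v)
    (hsymm : ∀ u v, h v u = (h u v) ^ 2) (e f : V) (he : h e e = 0) (hf : h f f = 0) (hef : h e f = 1)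
    (eps : V → ZMod 2) (h0 : eps 0 = 0)
    (hE : ∀ b c, h b b = 0 → h c c = 0 → h (b + c) (b + c) = 0 → eps (b + c) = eps b + eps c) :
    ∃ l : V →+ ZMod 2, ∀ b, h b b = 0 → l b = eps b := by
  classical
  have h2 := two_eq_zero hF
  obtain ⟨w, hww, hw0, hw1, hall⟩ := exists_w hF
  have hR := add_right' hF h hadd hsymm
  have hS := smul_right' h hsmul hsymm
  have hfe : h f e = 1 := by rw [hsymm e f, hef]; ring
  have hvv : ∀ v : V, v + v = 0 := vadd_self hF
  have z2 : ∀ x : ZMod 2, x + x = 0 := by decide
  -- isotropy of a e + b f + u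
  have hiso : ∀ (a b : F) (u : V), h u e = 0 → h u f = 0 →
      h (a • e + b • f + u) (a • e + b • f + u) = a * b ^ 2 + b * a ^ 2 + h u u := by
    intro a b u hue huf
    have heu : h e u = 0 := by rw [hsymm u e, hue]; ring
    have hfu : h f u = 0 := by rw [hsymm u f, huf]; ring
    simp only [hadd, hR, hsmul, hS, he, hf, hef, hfe, hue, huf, heu, hfu]
    ring
  have hme : ∀ a : F, h (a • e) (a • e) = 0 := fun a => by simp only [hsmul, hS, he]; ring
  have hmf : ∀ a : F, h (a • f) (a • f) = 0 := fun a => by simp only [hsmul, hS, hf]; ring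
  have ee : ∀ a c : F, eps ((a + c) • e) = eps (a • e) + eps (c • e) := fun a c => by
    rw [add_smul]; exact hE _ _ (hme a) (hme c) (by rw [← add_smul]; exact hme _)
  have ef : ∀ a c : F, eps ((a + c) • f) = eps (a • f) + eps (c • f) := fun a c => by
    rw [add_smul]; exact hE _ _ (hmf a) (hmf c) (by rw [← add_smul]; exact hmf _)
  set Q : F → F → V → ZMod 2 := fun a b u => eps (a • e + b • f + u) + eps (a • e) + eps (b • f) with hQ
  have stepB : ∀ (a b β : F) (u : V), h u e = 0 → h u f = 0 → a * b ^ 2 + b * a ^ 2 + h u u = 0 →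
      a * β ^ 2 + β * a ^ 2 = 0 → Q a (b + β) u = Q a b u := by
    intro a b β u hue huf hi hβ
    have h1 : a • e + (b + β) • f + u = (a • e + b • f + u) + β • f := by rw [add_smul]; abel
    have h3 : eps (a • e + (b + β) • f + u) = eps (a • e + b • f + u) + eps (β • f) := by
      rw [h1]
      refine hE _ _ ?_ (hmf β) ?_
      · rw [hiso a b u hue huf]; exact hi
      · rw [← h1, hiso a (b + β) u hue huf]; linear_combination hi + hβ + (a * b * β) * h2
    simp only [hQ]
    rw [h3, ef]
    have := z2 (eps (β • f))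
    linear_combination this
  have stepA : ∀ (a b α : F) (u : V), h u e = 0 → h u f = 0 → a * b ^ 2 + b * a ^ 2 + h u u = 0 →
      α * b ^ 2 + b * α ^ 2 = 0 → Q (a + α) b u = Q a b u := by
    intro a b α u hue huf hi hα
    have h1 : (a + α) • e + b • f + u = (a • e + b • f + u) + α • e := by rw [add_smul]; abel
    have h3 : eps ((a + α) • e + b • f + u) = eps (a • e + b • f + u) + eps (α • e) := by
      rw [h1]
      refine hE _ _ ?_ (hme α) ?_
      · rw [hiso a b u hue huf]; exact hi
      · rw [← h1, hiso (a + α) b u hue huf]; linear_combination hi + hα + (a * b * α) * h2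
    simp only [hQ]
    rw [h3, ee]
    have := z2 (eps (α • e))
    linear_combination this
  set κ : V → ZMod 2 := fun u => if h u u = 0 then Q 0 0 u else Q w 1 u with hκ
  have hind : ∀ (a b : F) (u : V), h u e = 0 → h u f = 0 → a * b ^ 2 + b * a ^ 2 + h u u = 0 → Q a b u = κ u := by
    intro a b u hue huf hi
    rcases self_cases h hsymm u with hu | hu
    · have hk : κ u = Q 0 0 u := by simp only [hκ]; rw [if_pos hu]
      rw [hk]
      have e1 : Q a (b + b) u = Q a b u := stepB a b b u hue huf hi (by rw [hu] at hi; linear_combination hi)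
      have e2 : b + b = 0 := by linear_combination b * h2
      rw [e2] at e1
      have e3 : Q (a + a) 0 u = Q a 0 u := stepA a 0 a u hue huf (by rw [hu]; ring) (by ring)
      have e4 : a + a = 0 := by linear_combination a * h2
      rw [e4] at e3
      rw [← e1, ← e3]
    · have hk : κ u = Q w 1 u := by simp only [hκ]; rw [if_neg (by rw [hu]; exact one_ne_zero)]
      rw [hk]
      have sB : ∀ a b : F, a * b ^ 2 + b * a ^ 2 + h u u = 0 → Q a (b + a) u = Q a b u := fun a b hi =>
        stepB a b a u hue huf hi (by linear_combination (a ^ 3) * h2)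
      have sA : ∀ a b : F, a * b ^ 2 + b * a ^ 2 + h u u = 0 → Q (a + b) b u = Q a b u := fun a b hi =>
        stepA a b b u hue huf hi (by linear_combination (b ^ 3) * h2)
      have i1 : w * 1 ^ 2 + 1 * w ^ 2 + h u u = 0 := by rw [hu]; linear_combination hww + (w + 1) * h2
      have i2 : w * (w + 1) ^ 2 + (w + 1) * w ^ 2 + h u u = 0 := by rw [hu]; grind
      have i3 : 1 * w ^ 2 + w * 1 ^ 2 + h u u = 0 := by rw [hu]; grind
      have i4 : (w + 1) * 1 ^ 2 + 1 * (w + 1) ^ 2 + h u u = 0 := by rw [hu]; grind
      have i5 : 1 * (w + 1) ^ 2 + (w + 1) * 1 ^ 2 + h u u = 0 := by rw [hu]; grind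
      have i6 : (w + 1) * w ^ 2 + w * (w + 1) ^ 2 + h u u = 0 := by rw [hu]; grind
      have c1 : (w + 1) + w = 1 := by linear_combination w * h2
      have c2 : w + (w + 1) = 1 := by linear_combination w * h2
      have c3 : (w + 1) + 1 = w := by linear_combination h2
      have c4 : (1 : F) + w = w + 1 := add_comm _ _
      have c5 : (1 : F) + (w + 1) = w := by linear_combination h2
      have q2 : Q w (w + 1) u = Q w 1 u := by have := sB w (w + 1) i2; rw [c1] at this; exact this.symm
      have q4 : Q (w + 1) 1 u = Q w 1 u := by have := sA (w + 1) 1 i4; rw [c3] at this; exact this.symm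
      have q6 : Q (w + 1) w u = Q w 1 u := by
        have := sB (w + 1) w i6; rw [c2] at this; rw [← this]; exact q4
      have q3 : Q 1 w u = Q w 1 u := by
        have := sA 1 w i3; rw [c4] at this; rw [← this]; exact q6
      have q5 : Q 1 (w + 1) u = Q w 1 u := by
        have := sA 1 (w + 1) i5; rw [c5] at this; rw [← this]; exact q2
      rw [hu] at hi
      rcases hall a with ha | ha | ha | ha <;> rcases hall b with hb | hb | hb | hb <;> subst ha <;> subst hb
      all_goals first
        | exact q2
        | exact q3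
        | exact q4
        | exact q5
        | exact q6
        | rfl
        | (exfalso; exact one_ne_zero (α := F) (by grind))
  have hkadd : ∀ u v : V, h u e = 0 → h u f = 0 → h v e = 0 → h v f = 0 → κ (u + v) = κ u + κ v := by
    intro u v hue huf hve hvf
    have hvu : h v u = (h u v) ^ 2 := hsymm u v
    have huvs : h (u + v) (u + v) = h u u + h v v + (h u v + h v u) := by
      simp only [hadd, hR]; ring
    have hτ : h u v + h v u = 0 ∨ h u v + h v u = 1 := by
      rw [hvu]
      rcases hall (h u v) with hx | hx | hx | hx <;> rw [hx]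
      · left; ring
      · left; linear_combination h2
      · right; linear_combination hww + w * h2
      · right; grind
    have hueA : h (u + v) e = 0 := by rw [hadd, hue, hve, add_zero]
    have hufA : h (u + v) f = 0 := by rw [hadd, huf, hvf, add_zero]
    have key : ∀ a b c d : F, a * b ^ 2 + b * a ^ 2 + h u u = 0 → c * d ^ 2 + d * c ^ 2 + h v v = 0 →
        a * d ^ 2 + d * a ^ 2 + (c * b ^ 2 + b * c ^ 2) + (h u v + h v u) = 0 → κ (u + v) = κ u + κ v := by
      intro a b c d i1 i2 i3
      have i4 : (a + c) * (b + d) ^ 2 + (b + d) * (a + c) ^ 2 + h (u + v) (u + v) = 0 := by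
        rw [huvs]
        linear_combination i1 + i2 + i3 + (a * b * d + c * b * d + a * b * c + a * c * d) * h2
      rw [← hind a b u hue huf i1, ← hind c d v hve hvf i2, ← hind (a + c) (b + d) (u + v) hueA hufA i4]
      have h1 : (a + c) • e + (b + d) • f + (u + v) = (a • e + b • f + u) + (c • e + d • f + v) := by
        rw [add_smul, add_smul]; abel
      simp only [hQ]
      rw [ee, ef]
      have h3 : eps ((a + c) • e + (b + d) • f + (u + v)) = eps (a • e + b • f + u) + eps (c • e + d • f + v) := by
        rw [h1]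
        refine hE _ _ ?_ ?_ ?_
        · rw [hiso a b u hue huf]; exact i1
        · rw [hiso c d v hve hvf]; exact i2
        · rw [← h1, hiso _ _ _ hueA hufA]; exact i4
      rw [h3]; ring
    rcases self_cases h hsymm u with hu | hu <;> rcases self_cases h hsymm v with hv | hv <;> rcases hτ with ht | ht
    · exact key 0 0 0 0 (by rw [hu]; ring) (by rw [hv]; ring) (by rw [ht]; ring)
    · exact key 0 1 w 0 (by rw [hu]; ring) (by rw [hv]; ring) (by rw [ht]; grind)
    · exact key 0 0 1 w (by rw [hu]; ring) (by rw [hv]; grind) (by rw [ht]; ring)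
    · exact key 0 1 w 1 (by rw [hu]; ring) (by rw [hv]; grind) (by rw [ht]; grind)
    · exact key 1 w 0 0 (by rw [hu]; grind) (by rw [hv]; ring) (by rw [ht]; ring)
    · exact key 1 w 1 0 (by rw [hu]; grind) (by rw [hv]; ring) (by rw [ht]; grind)
    · exact key 1 w 1 w (by rw [hu]; grind) (by rw [hv]; grind) (by rw [ht]; grind)
    · exact key 1 w (w + 1) 1 (by rw [hu]; grind) (by rw [hv]; grind) (by rw [ht]; grind)
  set π : V → V := fun v => v + (h v f) • e + (h v e) • f with hπ
  have hπe : ∀ v, h (π v) e = 0 := fun v => by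
    simp only [hπ, hadd, hsmul, he, hfe]; linear_combination (h v e) * h2
  have hπf : ∀ v, h (π v) f = 0 := fun v => by
    simp only [hπ, hadd, hsmul, hf, hef]; linear_combination (h v f) * h2
  have hπadd : ∀ u v, π (u + v) = π u + π v := fun u v => by
    simp only [hπ, hadd, add_smul]; abel
  have hdec : ∀ v, (h v f) • e + (h v e) • f + π v = v := fun v => by
    simp only [hπ]
    have h1 := hvv ((h v f) • e)
    have h3 := hvv ((h v e) • f)
    calc (h v f) • e + (h v e) • f + (v + (h v f) • e + (h v e) • f)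
        = ((h v f) • e + (h v f) • e) + ((h v e) • f + (h v e) • f) + v := by abel
      _ = v := by rw [h1, h3]; simp
  have hl0 : eps ((h 0 f) • e) + eps ((h 0 e) • f) + κ (π 0) = 0 := by
    have hz : ∀ x, h 0 x = 0 := fun x => by
      have := hsmul 0 0 x; rw [zero_smul, zero_mul] at this; exact this
    have hp0 : π 0 = 0 := by simp only [hπ, hz]; simp
    rw [hz, hz, hp0]
    simp only [hκ, hQ, zero_smul]
    rw [if_pos (hz 0)]
    simp [h0]
  refine ⟨{ toFun := fun v => eps ((h v f) • e) + eps ((h v e) • f) + κ (π v), map_zero' := hl0, map_add' := ?_ }, ?_⟩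
  · intro u v
    rw [hadd, hadd, ee, ef, hπadd, hkadd _ _ (hπe u) (hπf u) (hπe v) (hπf v)]
    ring
  · intro v hv
    have hi : (h v f) * (h v e) ^ 2 + (h v e) * (h v f) ^ 2 + h (π v) (π v) = 0 := by
      rw [← hiso _ _ _ (hπe v) (hπf v), hdec]; exact hv
    have hq := hind _ _ _ (hπe v) (hπf v) hi
    change eps ((h v f) • e) + eps ((h v e) • f) + κ (π v) = eps v
    rw [← hq]
    simp only [hQ]
    rw [hdec]
    have e1 := z2 (eps ((h v f) • e))
    have e2 := z2 (eps ((h v e) • f))
    linear_combination e1 + e2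

end Cfsg.Agent.FisLemU
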