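import Cfsg.Agent.Lib.ThreeRank3

/-!
helper27: maximal commuting sets of 3-transpositions are weakly closed: Sylow arguments.
-/

set_option autoImplicit false

namespace Cfsg.Agent.Lib.FischerMax

open Cfsg Cfsg.Agent.Lib.ThreeRank3 Subgroup

variable {G : Type*} [Group G] {D : Set G}

/-- the closure of a commuting set of involutions is a 2-group -/
theorem isPGroup_closure (hD : IsThreeTranspositionSet D) {E : Set G} (hE : E ⊆ D)
    (hc : ∀ a ∈ E, ∀ b ∈ E, Commute a b) : IsPGroup 2 (closure E) := by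
  have h1 : ∀ a ∈ E, ∀ x ∈ closure E, Commute a x := by
    intro a ha x hx
    induction hx using closure_induction with
    | mem x hx => exact hc a ha x hx
    | one => exact Commute.one_right a
    | mul x y _ _ hx hy => exact hx.mul_right hy
    | inv x _ hx => exact hx.inv_right
  have h2 : ∀ y ∈ closure E, ∀ x ∈ closure E, Commute y x := by
    intro y hy x hx
    induction hy using closure_induction with
    | mem y hy => exact h1 y hy x hx
    | one => exact Commute.one_left x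
    | mul y z _ _ hy hz => exact hy.mul_left hz
    | inv y _ hy => exact hy.inv_left
  have h3 : ∀ x ∈ closure E, x ^ 2 = 1 := by
    intro x hx
    induction hx using closure_induction with
    | mem x hx => rw [pow_two]; exact sq_one hD (hE hx)
    | one => simp
    | mul x y hx' hy' hx hy => rw [(h2 x hx' y hy').mul_pow, hx, hy, one_mul]
    | inv x _ hx => rw [inv_pow, hx, inv_one]
  intro x
  exact ⟨1, Subtype.ext (h3 _ x.2)⟩

/-- members of `D` in a 2-group commute -/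
theorem commute_of_two (hD : IsThreeTranspositionSet D) {S : Subgroup G} (hS : IsPGroup 2 S) {a b : G}
    (ha : a ∈ D) (hb : b ∈ D) (haS : a ∈ S) (hbS : b ∈ S) : Commute a b := by
  rcases hD.2 a ha b hb with h | h
  · exact commute_of_sq (sq_one hD ha) (sq_one hD hb) h
  · obtain ⟨k, hk⟩ := hS ⟨a * b, mul_mem haS hbS⟩
    have hk' : (a * b) ^ 2 ^ k = 1 := congrArg Subtype.val hk
    have h1 := orderOf_dvd_of_pow_eq_one h
    have h2 := orderOf_dvd_of_pow_eq_one hk'
    have h3 : Nat.Coprime 3 (2 ^ k) := Nat.Coprime.pow_right k (by norm_num)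
    have h4 := orderOf_eq_one_iff.1 (Nat.eq_one_of_dvd_coprimes h3 h1 h2)
    exact commute_of_sq (sq_one hD ha) (sq_one hD hb) (by rw [h4, one_pow])

/-- Two maximal commuting sets in a subgroup `C` are conjugate in `C`. -/
theorem exists_conj_of_max [Finite G] (hD : IsThreeTranspositionSet D)
    (hconj : ∀ g : G, ∀ d ∈ D, g * d * g⁻¹ ∈ D) {E E' : Set G} (hE : E ⊆ D) (hE' : E' ⊆ D)
    (hc : ∀ a ∈ E, ∀ b ∈ E, Commute a b) (hc' : ∀ a ∈ E', ∀ b ∈ E', Commute a b)
    (hmax : ∀ F : Set G, F ⊆ D → (∀ a ∈ F, ∀ b ∈ F, Commute a b) → F.ncard ≤ E.ncard)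
    (hcard : E'.ncard = E.ncard) {C : Subgroup G} (hEC : E ⊆ C) (hEC' : E' ⊆ C) :
    ∃ h ∈ C, cj h E = E' := by
  have : Fact (Nat.Prime 2) := ⟨Nat.prime_two⟩
  have key : ∀ {E : Set G}, E ⊆ D → (∀ a ∈ E, ∀ b ∈ E, Commute a b) → E ⊆ C →
      ∃ S : Sylow 2 C, E ⊆ (S : Subgroup C).map C.subtype := by
    intro E hE hc hEC
    have h1 := isPGroup_closure hD hE hc
    have h2 : IsPGroup 2 ((closure E).subgroupOf C) := by
      intro x
      obtain ⟨k, hk⟩ := h1 ⟨x.1.1, x.2⟩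
      refine ⟨k, Subtype.ext (Subtype.ext ?_)⟩
      have := congrArg Subtype.val hk
      exact this
    obtain ⟨S, hS⟩ := h2.exists_le_sylow
    exact ⟨S, fun x hx => ⟨⟨x, hEC hx⟩, hS (mem_subgroupOf.2 (subset_closure hx)), rfl⟩⟩
  obtain ⟨S, hS⟩ := key hE hc hEC
  obtain ⟨S', hS'⟩ := key hE' hc' hEC'
  obtain ⟨h, hh⟩ := MulAction.exists_smul_eq C S S'
  refine ⟨h.1, h.2, ?_⟩
  set Q : Subgroup G := (S' : Subgroup C).map C.subtype with hQ
  have hQ2 : IsPGroup 2 Q := S'.isPGroup'.map _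
  have hEQ : cj h.1 E ⊆ Q := by
    rintro _ ⟨x, hx, rfl⟩
    obtain ⟨y, hy, rfl⟩ := hS hx
    refine ⟨h * y * h⁻¹, ?_, rfl⟩
    rw [← hh]
    exact ⟨y, hy, rfl⟩
  have hF : ({x | x ∈ D ∧ x ∈ Q} : Set G).ncard ≤ E.ncard :=
    hmax _ (fun x hx => hx.1) (fun a ha b hb => commute_of_two hD hQ2 ha.1 hb.1 ha.2 hb.2)
  have h1 : cj h.1 E = {x | x ∈ D ∧ x ∈ Q} := by
    refine Set.eq_of_subset_of_ncard_le ?_ (by rw [ncard_cj]; exact hF) (Set.toFinite _)
    intro x hx
    refine ⟨?_, hEQ hx⟩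
    obtain ⟨y, hy, rfl⟩ := hx
    exact hconj _ _ (hE hy)
  have h2 : E' = {x | x ∈ D ∧ x ∈ Q} :=
    Set.eq_of_subset_of_ncard_le (fun x hx => ⟨hE' hx, hS' hx⟩) (by rw [hcard]; exact hF) (Set.toFinite _)
  rw [h1, h2]

theorem mem_normalizer_of_cj [Finite G] {E : Set G} {g : G} (h : cj g E = E) : g ∈ normalizer E := by
  rw [mem_set_normalizer_iff]
  intro x
  constructor
  · intro hx
    have : g * x * g⁻¹ ∈ cj g E := conj_mem_cj hx
    rwa [h] at this
  · intro hx
    have hx' : g * x * g⁻¹ ∈ E := hx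
    rw [← h, mem_cj] at hx'
    have e : g⁻¹ * (g * x * g⁻¹) * g = x := by group
    rwa [e] at hx'

/-- The statement S1612 from the transitivity of the centralizer on `D_x`. -/
theorem main [Finite G] (hD : IsThreeTranspositionSet D)
    (hconj : ∀ g : G, ∀ d ∈ D, g * d * g⁻¹ ∈ D) (htr : ∀ a ∈ D, ∀ b ∈ D, ∃ g : G, g * a * g⁻¹ = b)
    (hDx : ∀ x ∈ D, ∀ y ∈ Dd D x, ∀ y' ∈ Dd D x, ∃ g : G, Commute x g ∧ g * y * g⁻¹ = y')
    {E : Set G} (hE : E ⊆ D) (hc : ∀ a ∈ E, ∀ b ∈ E, Commute a b)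
    (hmax : ∀ F : Set G, F ⊆ D → (∀ a ∈ F, ∀ b ∈ F, Commute a b) → F.ncard ≤ E.ncard) :
    (∃ P : Sylow 2 G, (P : Subgroup G) ≤ normalizer E) ∧
      ∀ a ∈ E, ∀ b ∈ E, ∀ c ∈ E, ∀ d ∈ E, a ≠ b → c ≠ d →
        ∃ g ∈ normalizer E, g * a * g⁻¹ = c ∧ g * b * g⁻¹ = d := by
  have : Fact (Nat.Prime 2) := ⟨Nat.prime_two⟩
  constructor
  · obtain ⟨P, hP⟩ := (isPGroup_closure hD hE hc).exists_le_sylow
    refine ⟨P, ?_⟩
    have hF : ({x | x ∈ D ∧ x ∈ P} : Set G).ncard ≤ E.ncard :=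
      hmax _ (fun x hx => hx.1) (fun a ha b hb => commute_of_two hD P.isPGroup' ha.1 hb.1 ha.2 hb.2)
    have h2 : E = {x | x ∈ D ∧ x ∈ P} :=
      Set.eq_of_subset_of_ncard_le (fun x hx => ⟨hE hx, hP (subset_closure hx)⟩) hF (Set.toFinite _)
    intro g hg
    apply mem_normalizer_of_cj
    refine Set.eq_of_subset_of_ncard_le ?_ (by rw [ncard_cj]) (Set.toFinite _)
    rintro _ ⟨x, hx, rfl⟩
    rw [h2] at hx ⊢
    exact ⟨hconj _ _ hx.1, mul_mem (mul_mem hg hx.2) (inv_mem hg)⟩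
  · -- one-point transitivity
    have hcomm_cj : ∀ g : G, ∀ a ∈ cj g E, ∀ b ∈ cj g E, Commute a b := by
      rintro g _ ⟨a, ha, rfl⟩ _ ⟨b, hb, rfl⟩
      exact commute_conj_iff.2 (hc a ha b hb)
    have hcjD : ∀ g : G, cj g E ⊆ D := by
      rintro g _ ⟨a, ha, rfl⟩
      exact hconj _ _ (hE ha)
    have hone : ∀ a ∈ E, ∀ c ∈ E, ∃ g : G, cj g E = E ∧ g * a * g⁻¹ = c := by
      intro a ha c hcE
      obtain ⟨g, hg⟩ := htr a (hE ha) c (hE hcE)
      obtain ⟨h, hh, hh'⟩ := exists_conj_of_max (E := cj g E) (E' := E) (C := centralizer {c}) hD hconj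
        (hcjD g) hE (hcomm_cj g) hc (by rw [ncard_cj]; exact hmax) (by rw [ncard_cj]) (by
          rintro _ ⟨x, hx, rfl⟩
          have hxc : Commute (g * x * g⁻¹) c := by
            rw [← hg]; exact commute_conj_iff.2 (hc x hx a ha)
          exact mem_centralizer_singleton_iff.2 hxc.eq) (by
          intro x hx
          exact mem_centralizer_singleton_iff.2 (hc x hx c hcE).eq)
      refine ⟨h * g, by rw [cj_mul, hh'], ?_⟩
      have e : h * g * a * (h * g)⁻¹ = h * (g * a * g⁻¹) * h⁻¹ := by group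
      rw [e, hg]
      have := mem_centralizer_singleton_iff.1 hh
      rw [this]; group
    intro a ha b hb c hcE d hd hab hcd
    obtain ⟨g, hgE, hgac⟩ := hone a ha c hcE
    have hb' : g * b * g⁻¹ ∈ E := by
      have := conj_mem_cj (g := g) hb
      rwa [hgE] at this
    have hbc : g * b * g⁻¹ ≠ c := by
      rw [← hgac]
      intro h
      exact hab (mul_left_cancel (mul_right_cancel h)).symm
    obtain ⟨k, hkc, hkd⟩ := hDx c (hE hcE) (g * b * g⁻¹) ⟨hE hb', hbc, hc _ hcE _ hb'⟩ d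
      ⟨hE hd, hcd.symm, hc _ hcE _ hd⟩
    have hkc' : k * c * k⁻¹ = c := by rw [← hkc.eq]; group
    obtain ⟨h, hh, hh'⟩ := exists_conj_of_max (E := cj k E) (E' := E)
        (C := centralizer {c} ⊓ centralizer {d}) hD hconj
        (hcjD k) hE (hcomm_cj k) hc (by rw [ncard_cj]; exact hmax) (by rw [ncard_cj]) (by
          rintro _ ⟨x, hx, rfl⟩
          refine ⟨mem_centralizer_singleton_iff.2 ?_, mem_centralizer_singleton_iff.2 ?_⟩
          · have : Commute (k * x * k⁻¹) (k * c * k⁻¹) := commute_conj_iff.2 (hc x hx c hcE)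
            rw [hkc'] at this
            exact this.eq
          · have : Commute (k * x * k⁻¹) (k * (g * b * g⁻¹) * k⁻¹) := commute_conj_iff.2 (hc x hx _ hb')
            rw [hkd] at this
            exact this.eq) (by
          intro x hx
          exact ⟨mem_centralizer_singleton_iff.2 (hc x hx c hcE).eq,
            mem_centralizer_singleton_iff.2 (hc x hx d hd).eq⟩)
    have h1 := mem_centralizer_singleton_iff.1 hh.1
    have h2 := mem_centralizer_singleton_iff.1 hh.2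
    refine ⟨h * k * g, mem_normalizer_of_cj (by rw [cj_mul, cj_mul, hgE, hh']), ?_, ?_⟩
    · have e : h * k * g * a * (h * k * g)⁻¹ = h * (k * (g * a * g⁻¹) * k⁻¹) * h⁻¹ := by group
      rw [e, hgac, hkc', h1]; group
    · have e : h * k * g * b * (h * k * g)⁻¹ = h * (k * (g * b * g⁻¹) * k⁻¹) * h⁻¹ := by group
      rw [e, hkd, h2]; group

end Cfsg.Agent.Lib.FischerMax
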