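import Cfsg.Agent.Lib.WidthOneHall
import Cfsg.Agent.Lib.WidthOne
import Cfsg.Agent.Lib.FischerPrim
import Cfsg.Agent.Lib.MinNormal
import Cfsg.Agent.Lib.Burnside
import Cfsg.Agent.Lib.FischerMax

/-!
helper27: Fischer's hypotheses (no solvable normal subgroup, perfect commutator subgroup) imply that every
nontrivial normal subgroup contains the commutator subgroup, hence primitivity on the class.
-/

set_option autoImplicit false

namespace Cfsg.Agent.Lib.FischerHyp

open Cfsg Cfsg.Agent.Lib.ThreeRank3 Cfsg.Agent.Lib.MinNormal Subgroup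

variable {G : Type*} [Group G] {D : Set G}

theorem isSolvable_of_orders {T : Type*} [Group T] [Finite T] (h : ∀ t : T, t ^ 2 = 1 ∨ t ^ 3 = 1) :
    Group.IsSolvable T := by
  have hp : ∀ p : ℕ, p.Prime → p ∣ Nat.card T → p = 2 ∨ p = 3 := by
    intro p hp hdvd
    have := Fact.mk hp
    obtain ⟨t, ht⟩ := exists_prime_orderOf_dvd_card' p hdvd
    rcases h t with h2 | h3
    · left
      have := orderOf_dvd_of_pow_eq_one h2
      rw [ht] at this
      exact (Nat.prime_dvd_prime_iff_eq hp Nat.prime_two).1 this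
    · right
      have := orderOf_dvd_of_pow_eq_one h3
      rw [ht] at this
      exact (Nat.prime_dvd_prime_iff_eq hp Nat.prime_three).1 this
  have hcard : Nat.card T = 2 ^ (Nat.card T).factorization 2 * 3 ^ (Nat.card T).factorization 3 := by
    have hne : Nat.card T ≠ 0 := Nat.card_pos.ne'
    conv_lhs => rw [← Nat.prod_factorization_pow_eq_self hne]
    rw [Finsupp.prod_of_support_subset (s := ({2, 3} : Finset ℕ))]
    · rw [Finset.prod_pair (by norm_num)]
    · intro p hp'
      rw [Nat.support_factorization] at hp'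
      have h1 := Nat.prime_of_mem_primeFactors hp'
      have h2 := Nat.dvd_of_mem_primeFactors hp'
      rcases hp p h1 h2 with h | h <;> simp [h]
    · intro i _
      simp
  exact Burnside.isSolvable_of_card_eq _ 2 3 _ _ Nat.prime_two Nat.prime_three hcard rfl

/-- a minimal normal subgroup with an abelian minimal invariant subgroup is abelian -/
theorem comm_of_comm [Finite G] {N T : Subgroup G} (hN : MinBy ⊤ N) (hT : MinBy N T) (hTN : T ≤ N)
    (hab : ∀ x ∈ T, ∀ y ∈ T, x * y = y * x) : ∀ x ∈ N, ∀ y ∈ N, x * y = y * x := by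
  have hNn := hN.normal
  have h1 : N ≤ centralizer (T : Set G) := by
    refine hN.le_of_conj hTN hT.ne_bot ?_
    intro g t ht
    rw [mem_centralizer_iff]
    intro s hs
    have hm : MinBy N (MinNormal.cj g T) := hT.conjugate g (fun n hn => by
        have := hNn.conj_mem n hn g⁻¹
        rwa [inv_inv] at this) (fun n hn => hNn.conj_mem n hn g)
    have hgt : g * t * g⁻¹ ∈ MinNormal.cj g T := by
      rw [MinNormal.mem_cj]
      have : g⁻¹ * (g * t * g⁻¹) * g = t := by group
      rw [this]; exact ht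
    by_cases hne : T = MinNormal.cj g T
    · rw [← hne] at hgt
      exact hab s hs _ hgt
    · refine hT.commute hm hTN ?_ hne s hs _ hgt
      intro x hx
      rw [MinNormal.mem_cj] at hx
      have := hNn.conj_mem _ (hTN hx) g
      have e : g * (g⁻¹ * x * g) * g⁻¹ = x := by group
      rwa [e] at this
  have h2 : N ≤ centralizer (N : Set G) := by
    refine hN.le_of_conj hTN hT.ne_bot ?_
    have hcn : (centralizer (N : Set G)).Normal := inferInstance
    intro g t ht
    refine hcn.conj_mem t ?_ g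
    rw [mem_centralizer_iff]
    intro n hn
    exact ((mem_centralizer_iff.1 (h1 hn)) t ht).symm
  intro x hx y hy
  exact ((mem_centralizer_iff.1 (h2 hy)) x hx)

/-- Under Fischer's hypotheses a nontrivial normal subgroup contains the commutator subgroup. -/
theorem commutator_le_of_normal [Finite G]
    (hsol : ∀ N : Subgroup G, N.Normal → Group.IsSolvable ↥N → N = ⊥)
    (hperf : ⁅commutator G, commutator G⁆ = commutator G) (hD : IsThreeTranspositionSet D)
    (hconj : ∀ g : G, ∀ d ∈ D, g * d * g⁻¹ ∈ D) (htr : ∀ a ∈ D, ∀ b ∈ D, ∃ g : G, g * a * g⁻¹ = b)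
    (hgen : closure D = ⊤) (hne : D.Nonempty) (K : Subgroup G) (hKn : K.Normal) (hK : K ≠ ⊥) :
    commutator G ≤ K := by
  obtain ⟨N, hNK, hN⟩ := exists_minBy ⊤ K hK (invBy_top_iff.2 hKn)
  refine le_trans ?_ hNK
  have hNn := hN.normal
  have hNna : ¬ ∀ x ∈ N, ∀ y ∈ N, x * y = y * x := by
    intro h
    apply hN.ne_bot
    refine hsol N hNn ?_
    exact Group.isSolvable_of_comm (fun a b => Subtype.ext (h _ a.2 _ b.2))
  obtain ⟨T, hTN, hT⟩ := exists_minBy N N hN.ne_bot (InvBy.self N)
  have hTna : ¬ ∀ x ∈ T, ∀ y ∈ T, x * y = y * x := fun h => hNna (comm_of_comm hN hT hTN h)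
  -- members of `D` normalise `T`
  have hdT : ∀ d ∈ D, MinNormal.cj d T = T := by
    intro d hd
    by_contra hcon
    have hdd := sq_one hD hd
    have hdi := inv_self hD hd
    have hm : MinBy N (MinNormal.cj d T) := hT.conjugate d (fun n hn => by
        have := hNn.conj_mem n hn d⁻¹
        rwa [inv_inv] at this) (fun n hn => hNn.conj_mem n hn d)
    have hle : MinNormal.cj d T ≤ N := by
      intro x hx
      rw [MinNormal.mem_cj] at hx
      have := hNn.conj_mem _ (hTN hx) d
      have e : d * (d⁻¹ * x * d) * d⁻¹ = x := by group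
      rwa [e] at this
    have hbot : T ⊓ MinNormal.cj d T = ⊥ := by
      rcases hT.min _ (hT.inv.inf hm.inv) inf_le_left with h1 | h1
      · exact h1
      · rcases hm.min _ (hT.inv.inf hm.inv) inf_le_right with h2 | h2
        · exact h2
        · exact absurd (h2.symm.trans h1) hcon
    have hord : ∀ t ∈ T, t ^ 2 = 1 ∨ t ^ 3 = 1 := by
      intro t ht
      have hdt : d * t * d⁻¹ ∈ MinNormal.cj d T := by
        rw [MinNormal.mem_cj]
        have : d⁻¹ * (d * t * d⁻¹) * d = t := by group
        rw [this]; exact ht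
      have hcm : Commute t⁻¹ (d * t * d⁻¹) :=
        hT.commute hm hTN hle (fun h => hcon h.symm) _ (inv_mem ht) _ hdt
      have e : (t⁻¹ * d * t⁻¹⁻¹) * d = t⁻¹ * (d * t * d⁻¹) := by
        rw [hdi]; simp only [inv_inv, mul_assoc]
      have hpow : ∀ n : ℕ, ((t⁻¹ * d * t⁻¹⁻¹) * d) ^ n = 1 → t ^ n = 1 := by
        intro n hn
        rw [e, hcm.mul_pow, inv_pow] at hn
        have h1 : t ^ n = (d * t * d⁻¹) ^ n := (inv_mul_eq_one.1 hn)
        have h2 : t ^ n ∈ T ⊓ MinNormal.cj d T := ⟨pow_mem ht n, h1 ▸ pow_mem hdt n⟩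
        rw [hbot] at h2
        exact mem_bot.1 h2
      rcases hD.2 _ (hconj t⁻¹ d hd) d hd with h | h
      · exact Or.inl (hpow 2 h)
      · exact Or.inr (hpow 3 h)
    have hTs : Group.IsSolvable T := isSolvable_of_orders (fun t => by
      rcases hord t.1 t.2 with h | h
      · exact Or.inl (Subtype.ext h)
      · exact Or.inr (Subtype.ext h))
    apply hTna
    -- the commutator subgroup of `T` is invariant
    have hlt : ⁅T, T⁆ ≠ T := by
      intro h
      have h1 : ⁅(⊤ : Subgroup T), (⊤ : Subgroup T)⁆ = ⊤ := by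
        apply map_injective T.subtype_injective
        rw [map_commutator, ← MonoidHom.range_eq_map, range_subtype, h]
      have hnt : Nontrivial T := (Subgroup.nontrivial_iff_ne_bot T).2 hT.ne_bot
      exact (Group.IsSolvable.commutator_lt_top_of_nontrivial (G := T)).ne (by rw [_root_.commutator_def]; exact h1)
    have hinv : InvBy N ⁅T, T⁆ := by
      intro n hn x hx
      have hmap : (⁅T, T⁆).map (MulAut.conj n).toMonoidHom ≤ ⁅T, T⁆ := by
        rw [map_commutator]
        have : T.map (MulAut.conj n).toMonoidHom ≤ T := by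
          rintro _ ⟨t, ht, rfl⟩
          exact hT.inv n hn t ht
        exact commutator_mono this this
      exact hmap ⟨x, hx, rfl⟩
    rcases hT.min _ hinv (commutator_le.2 (fun x hx y hy =>
        mul_mem (mul_mem (mul_mem hx hy) (inv_mem hx)) (inv_mem hy))) with h | h
    · intro x hx y hy
      have := commutator_mem_commutator hx hy
      rw [h, mem_bot, commutatorElement_eq_one_iff_mul_comm] at this
      exact this
    · exact absurd h hlt
  -- hence `T = N`
  have hTnorm : T.Normal := by
    have h : closure D ≤ normalizer (T : Set G) := by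
      rw [closure_le]
      intro d hd
      rw [SetLike.mem_coe, mem_normalizer_iff]
      intro x
      have h1 := hdT d hd
      constructor
      · intro hx
        rw [← h1, MinNormal.mem_cj]
        have : d⁻¹ * (d * x * d⁻¹) * d = x := by group
        rw [this]; exact hx
      · intro hx
        rw [← h1, MinNormal.mem_cj] at hx
        have : d⁻¹ * (d * x * d⁻¹) * d = x := by group
        rwa [this] at hx
    rw [hgen, top_le_iff] at h
    exact normalizer_eq_top_iff.1 h
  have hTeq : T = N := by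
    rcases hN.min T (invBy_top_iff.2 hTnorm) hTN with h | h
    · exact absurd h hT.ne_bot
    · exact h
  subst hTeq
  -- no member of `D` centralises `T`
  have hncen : ∀ d ∈ D, ¬ ∀ t ∈ T, t * d = d * t := by
    intro d hd hcen
    apply hTna
    have h : closure D ≤ centralizer (T : Set G) := by
      rw [closure_le]
      intro e he
      obtain ⟨g, hg⟩ := htr d hd e he
      rw [SetLike.mem_coe, mem_centralizer_iff]
      intro t ht
      have h1 : g⁻¹ * t * g ∈ T := by
        have := hNn.conj_mem t ht g⁻¹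
        rwa [inv_inv] at this
      have h2 := hcen _ h1
      rw [← hg]
      calc t * (g * d * g⁻¹) = g * ((g⁻¹ * t * g) * d) * g⁻¹ := by group
        _ = g * (d * (g⁻¹ * t * g)) * g⁻¹ := by rw [h2]
        _ = g * d * g⁻¹ * t := by group
    rw [hgen, top_le_iff] at h
    intro x hx y hy
    have hy' : y ∈ centralizer (T : Set G) := by rw [h]; trivial
    exact (mem_centralizer_iff.1 hy') x hx
  -- width one modulo `T`
  have hw : ∀ d ∈ D, ∀ e ∈ D, (d * e) ^ 2 ∈ T → d * e ∈ T := by
    intro d hd e he h2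
    by_contra hde
    have hcomm : ∀ n ∈ T, ∀ m ∈ T, Commute (n * d * n⁻¹) (m * e * m⁻¹) := by
      intro n hn m hm
      have hx := hconj n d hd
      have hy := hconj m e he
      rcases hD.2 _ hx _ hy with h | h
      · exact commute_of_sq (sq_one hD hx) (sq_one hD hy) h
      · exfalso
        apply hde
        have q1 : (QuotientGroup.mk (n * d * n⁻¹ * (m * e * m⁻¹)) : G ⧸ T) = QuotientGroup.mk (d * e) := by
          have hn' : (QuotientGroup.mk n : G ⧸ T) = 1 := (QuotientGroup.eq_one_iff n).2 hn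
          have hm' : (QuotientGroup.mk m : G ⧸ T) = 1 := (QuotientGroup.eq_one_iff m).2 hm
          simp only [QuotientGroup.mk_mul, QuotientGroup.mk_inv, hn', hm', one_mul, inv_one, mul_one]
        have q2 : (QuotientGroup.mk (d * e) : G ⧸ T) ^ 3 = 1 := by
          rw [← q1, ← QuotientGroup.mk_pow, h]; rfl
        have q3 : (QuotientGroup.mk (d * e) : G ⧸ T) ^ 2 = 1 := by
          rw [← QuotientGroup.mk_pow]; exact (QuotientGroup.eq_one_iff _).2 h2
        rw [pow_succ, q3, one_mul] at q2
        exact (QuotientGroup.eq_one_iff _).1 q2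
    set C : Subgroup G := T ⊓ centralizer {x | ∃ m ∈ T, x = m * e * m⁻¹} with hC
    have hCinv : InvBy T C := by
      intro n hn x hx
      refine mem_inf.2 ⟨mul_mem (mul_mem hn hx.1) (inv_mem hn), ?_⟩
      rw [mem_centralizer_iff]
      rintro _ ⟨m, hm, rfl⟩
      have h1 := (mem_centralizer_iff.1 hx.2) ((n⁻¹ * m) * e * (n⁻¹ * m)⁻¹) ⟨_, mul_mem (inv_mem hn) hm, rfl⟩
      calc m * e * m⁻¹ * (n * x * n⁻¹) = n * (((n⁻¹ * m) * e * (n⁻¹ * m)⁻¹) * x) * n⁻¹ := by group
        _ = n * (x * ((n⁻¹ * m) * e * (n⁻¹ * m)⁻¹)) * n⁻¹ := by rw [h1]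
        _ = n * x * n⁻¹ * (m * e * m⁻¹) := by group
    have hCmem : ∀ n ∈ T, n * d * n⁻¹ * d ∈ C := by
      intro n hn
      refine mem_inf.2 ⟨?_, ?_⟩
      · have := mul_mem hn (hNn.conj_mem _ (inv_mem hn) d)
        have e1 : n * (d * n⁻¹ * d⁻¹) = n * d * n⁻¹ * d := by
          rw [inv_self hD hd]; simp only [mul_assoc]
        rwa [e1] at this
      · rw [mem_centralizer_iff]
        rintro _ ⟨m, hm, rfl⟩
        have h1 := hcomm n hn m hm
        have h2 := hcomm 1 (one_mem T) m hm
        rw [one_mul, inv_one, mul_one] at h2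
        exact ((h1.mul_left h2).eq).symm
    rcases hT.min C hCinv inf_le_left with h | h
    · apply hncen d hd
      intro n hn
      have := hCmem n hn
      rw [h, mem_bot] at this
      have h1 : n * d * n⁻¹ = d := by
        have := eq_inv_of_mul_eq_one_left this
        rwa [inv_self hD hd] at this
      calc n * d = (n * d * n⁻¹) * n := by group
        _ = d * n := by rw [h1]
    · apply hncen e he
      intro t ht
      have : t ∈ C := by rw [h]; exact ht
      have h1 := (mem_centralizer_iff.1 this.2) (1 * e * 1⁻¹) ⟨1, one_mem T, rfl⟩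
      rw [one_mul, inv_one, mul_one] at h1
      exact h1.symm
  -- the quotient
  set Q := G ⧸ T with hQ
  set DQ : Set Q := (QuotientGroup.mk' T) '' D with hDQ
  have hQ2 : ∀ a ∈ DQ, a * a = 1 := by
    rintro _ ⟨a, ha, rfl⟩
    rw [← map_mul, sq_one hD ha, map_one]
  have hQc : ∀ g : Q, ∀ d ∈ DQ, g * d * g⁻¹ ∈ DQ := by
    rintro g _ ⟨d, hd, rfl⟩
    obtain ⟨g, rfl⟩ := QuotientGroup.mk'_surjective T g
    exact ⟨g * d * g⁻¹, hconj g d hd, by simp⟩
  have hQ3 : ∀ a ∈ DQ, ∀ b ∈ DQ, (a * b) ^ 3 = 1 := by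
    rintro _ ⟨a, ha, rfl⟩ _ ⟨b, hb, rfl⟩
    rw [← map_mul]
    rcases hD.2 a ha b hb with h | h
    · have h1 := hw a ha b hb (by rw [h]; exact one_mem T)
      have h2 : (QuotientGroup.mk' T) (a * b) = 1 := (QuotientGroup.eq_one_iff _).2 h1
      rw [h2, one_pow]
    · rw [← map_pow, h, map_one]
  obtain ⟨a, ha⟩ := hne
  have hPn : (pCore 3 Q).Normal := PCoreTools.pCore_normal' 3 Q
  have hQgen : closure DQ = ⊤ := by
    rw [hDQ, ← MonoidHom.map_closure, hgen, ← MonoidHom.range_eq_map, MonoidHom.range_eq_top]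
    exact QuotientGroup.mk'_surjective T
  have haQ : (QuotientGroup.mk' T a) ∈ DQ := ⟨a, ha, rfl⟩
  have hor := WidthOne.mem_or hQgen (hQ2 _ haQ) (pCore 3 Q) (fun d hd => WidthOneHall.mul_mem_pCore hQ2 hQc hQ3 hd haQ)
  have hcle : commutator Q ≤ pCore 3 Q := WidthOne.commutator_le_of_mem_or (pCore 3 Q) hor (hQ2 _ haQ)
  have : Fact (Nat.Prime 3) := ⟨Nat.prime_three⟩
  have hPnil : Group.IsNilpotent (pCore 3 Q) := (PCoreTools.isPGroup_pCore 3).isNilpotent
  have hPs : Group.IsSolvable (pCore 3 Q) := inferInstance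
  -- the image of the commutator subgroup is perfect
  have hH : (commutator G).map (QuotientGroup.mk' T) ≤ pCore 3 Q := by
    refine le_trans ?_ hcle
    rw [_root_.commutator_def, map_commutator]
    exact commutator_mono le_top le_top
  have hHbot : (commutator G).map (QuotientGroup.mk' T) = ⊥ := by
    by_contra hnb
    set H := (commutator G).map (QuotientGroup.mk' T) with hHdef
    have hHp : ⁅H, H⁆ = H := by
      rw [hHdef, ← map_commutator, hperf]
    have hHs : Group.IsSolvable H := by
      have := (PCoreTools.isPGroup_pCore (G := Q) 3).to_le hH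
      have hn : Group.IsNilpotent H := this.isNilpotent
      infer_instance
    have hnt : Nontrivial H := (Subgroup.nontrivial_iff_ne_bot H).2 hnb
    have h1 : ⁅(⊤ : Subgroup H), (⊤ : Subgroup H)⁆ = ⊤ := by
      apply map_injective H.subtype_injective
      rw [map_commutator, ← MonoidHom.range_eq_map, range_subtype, hHp]
    exact (Group.IsSolvable.commutator_lt_top_of_nontrivial (G := H)).ne (by rw [_root_.commutator_def]; exact h1)
  rw [Subgroup.map_eq_bot_iff, QuotientGroup.ker_mk'] at hHbot
  exact hHbot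

theorem class_conj (hD : IsThreeTranspositionClass D) (g : G) {d : G} (hd : d ∈ D) : g * d * g⁻¹ ∈ D := by
  obtain ⟨_, ⟨a, _, ha⟩, _⟩ := hD
  rw [ha] at hd ⊢
  have hd' : IsConj a d := hd
  exact hd'.trans (isConj_iff.2 ⟨g, rfl⟩)

theorem class_trans (hD : IsThreeTranspositionClass D) {a b : G} (ha : a ∈ D) (hb : b ∈ D) :
    ∃ g : G, g * a * g⁻¹ = b := by
  obtain ⟨_, ⟨d, _, hd⟩, _⟩ := hD
  rw [hd] at ha hb
  have ha' : IsConj d a := ha
  have hb' : IsConj d b := hb
  exact isConj_iff.1 (ha'.symm.trans hb')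

/-- Fischer's hypotheses imply primitivity on `D`. -/
theorem primitive [Finite G]
    (hsol : ∀ N : Subgroup G, N.Normal → Group.IsSolvable ↥N → N = ⊥)
    (hperf : ⁅commutator G, commutator G⁆ = commutator G) (hD : IsThreeTranspositionClass D)
    (h2 : ∃ a ∈ D, ∃ b ∈ D, a ≠ b) : IsPrimitiveUnderConj D := by
  have h2' := h2
  obtain ⟨a, ha, _⟩ := h2
  refine FischerPrim.prim_of_minimal hD.1 (fun g d hd => class_conj hD g hd)
    (fun a ha b hb => class_trans hD ha hb) hD.2.2 h2' ?_
  intro K hK k hk _ hk1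
  exact commutator_le_of_normal hsol hperf hD.1 (fun g d hd => class_conj hD g hd)
    (fun a ha b hb => class_trans hD ha hb) hD.2.2 ⟨a, ha⟩ K hK (by
      intro h
      rw [h, mem_bot] at hk
      exact hk1 hk)

/-- S1613. -/
theorem one_class [Finite G]
    (hsol : ∀ N : Subgroup G, N.Normal → Group.IsSolvable ↥N → N = ⊥)
    (hperf : ⁅commutator G, commutator G⁆ = commutator G) (hD : IsThreeTranspositionClass D)
    (x : G) (hx : x ∈ D) : ∀ y ∈ Dd D x, ∀ y' ∈ Dd D x, ∃ g ∈ closure (Dd D x), g * y * g⁻¹ = y' := by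
  intro y hy y' hy'
  exact transitive_on_commuting ⟨hD.1, fun g d hd => class_conj hD g hd, hD.2.2⟩
    (primitive hsol hperf hD ⟨x, hx, y, hy.1, hy.2.1.symm⟩) hx hy hy'

end Cfsg.Agent.Lib.FischerHyp
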