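import Cfsg.Agent.Lib.FrobSys
import Cfsg.Agent.Lib.CITSuz
import Cfsg.Agent.Lib.InvAct

set_option autoImplicit false
set_option linter.all false

/-!
# Groups all of whose noncyclic subgroups are self-centralizing (helper6), part 1
-/

namespace Cfsg.Agent.Lib.SelfCent

open Subgroup SylowRel StrongEmbPt Cfsg.Agent.Lib.CIT

variable {G : Type*} [Group G]

def SC (G : Type*) [Group G] : Prop := ∀ H : Subgroup G, ¬ IsCyclic ↥H → Subgroup.centralizer (H : Set G) ≤ H

theorem SC.equiv {G' : Type*} [Group G'] (h : SC G) (e : G ≃* G') : SC G' := by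
  intro H hH x hx
  have h1 : ¬ IsCyclic ↥(H.comap e.toMonoidHom) := by
    intro hc
    apply hH
    have h2 : (H.comap e.toMonoidHom).map e.toMonoidHom = H := map_comap_eq_self_of_surjective e.surjective H
    rw [← h2]
    exact isCyclic_of_surjective (e.toMonoidHom.subgroupMap _) (e.toMonoidHom.subgroupMap_surjective _)
  have h2 := h _ h1 (x := e.symm x) (by
    rw [mem_centralizer_iff]
    intro y hy
    have hy' : e y ∈ H := hy
    have h3 := mem_centralizer_iff.1 hx (e y) hy'
    apply e.injective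
    rw [map_mul, map_mul, e.apply_symm_apply]; exact h3)
  have h3 : e (e.symm x) ∈ H := h2
  rwa [e.apply_symm_apply] at h3

/-- the four-group of two commuting involutions -/
def V4 (s t : G) (hs : s * s = 1) (ht : t * t = 1) (hst : t * s = s * t) : Subgroup G where
  carrier := {x | x = 1 ∨ x = s ∨ x = t ∨ x = s * t}
  one_mem' := Or.inl rfl
  mul_mem' := by
    have h1 : ∀ x, s * (s * x) = x := fun x => by rw [← mul_assoc, hs, one_mul]
    have h2 : ∀ x, t * (t * x) = x := fun x => by rw [← mul_assoc, ht, one_mul]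
    have h3 : ∀ x, t * (s * x) = s * (t * x) := fun x => by rw [← mul_assoc, hst, mul_assoc]
    rintro a b (rfl | rfl | rfl | rfl) (rfl | rfl | rfl | rfl) <;>
      simp [mul_assoc, hs, ht, h1, h2, h3, hst]
  inv_mem' := by
    have h1 : s⁻¹ = s := inv_eq_of_mul_eq_one_left hs
    have h2 : t⁻¹ = t := inv_eq_of_mul_eq_one_left ht
    rintro a (rfl | rfl | rfl | rfl)
    · simp
    · right; left; exact h1
    · right; right; left; exact h2
    · right; right; right
      rw [mul_inv_rev, h1, h2, hst]

theorem V4_not_cyclic {s t : G} (hs : s * s = 1) (ht : t * t = 1) (hst : t * s = s * t)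
    (hs1 : s ≠ 1) (ht1 : t ≠ 1) (hne : s ≠ t) : ¬ IsCyclic ↥(V4 s t hs ht hst) := by
  intro hc
  obtain ⟨⟨g, hg⟩, hgen⟩ := hc.exists_generator
  have hgg : g * g = 1 := by
    have h1 : s⁻¹ = s := inv_eq_of_mul_eq_one_left hs
    rcases hg with rfl | rfl | rfl | rfl
    · simp
    · exact hs
    · exact ht
    · calc s * t * (s * t) = s * (t * s) * t := by group
        _ = s * s * (t * t) := by rw [hst]; group
        _ = 1 := by rw [hs, ht, one_mul]
  have key : ∀ x ∈ V4 s t hs ht hst, x ≠ 1 → x = g := by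
    intro x hx hx1
    obtain ⟨k, hk⟩ := mem_zpowers_iff.1 (hgen ⟨x, hx⟩)
    have hk' : g ^ k = x := congrArg Subtype.val hk
    rcases Int.even_or_odd' k with ⟨c, rfl | rfl⟩
    · exfalso; apply hx1
      rw [← hk', zpow_mul]
      have : g ^ (2 : ℤ) = 1 := by rw [zpow_two]; exact hgg
      rw [this, one_zpow]
    · rw [← hk', zpow_add, zpow_mul]
      have : g ^ (2 : ℤ) = 1 := by rw [zpow_two]; exact hgg
      rw [this, one_zpow, one_mul, zpow_one]
  apply hne
  rw [key s (Or.inr (Or.inl rfl)) hs1, key t (Or.inr (Or.inr (Or.inl rfl))) ht1]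

theorem SC.four (hP : SC G) {s t : G} (hs : orderOf s = 2) (ht : orderOf t = 2) (hst : t * s = s * t)
    (hne : s ≠ t) {c : G} (h1 : c * s = s * c) (h2 : c * t = t * c) : c = 1 ∨ c = s ∨ c = t ∨ c = s * t := by
  have hs1 : s ≠ 1 := by rintro rfl; rw [orderOf_one] at hs; omega
  have ht1 : t ≠ 1 := by rintro rfl; rw [orderOf_one] at ht; omega
  have := hP _ (V4_not_cyclic (mul_self hs) (mul_self ht) hst hs1 ht1 hne) (x := c) (by
    rw [mem_centralizer_iff]
    rintro x (rfl | rfl | rfl | rfl)
    · rw [one_mul, mul_one]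
    · exact h1.symm
    · exact h2.symm
    · rw [mul_assoc, ← h2, ← mul_assoc, ← h1, mul_assoc])
  exact this

/-- a dihedral type subgroup -/
def Dih (s h : G) (hs : s * s = 1) (hsh : s * h * s = h⁻¹) : Subgroup G where
  carrier := {x | x ∈ zpowers h ∨ s * x ∈ zpowers h}
  one_mem' := Or.inl (one_mem _)
  mul_mem' := by
    have h1 : ∀ x ∈ zpowers h, s * x * s ∈ zpowers h := by
      intro x hx
      obtain ⟨k, rfl⟩ := mem_zpowers_iff.1 hx
      have h2 : s⁻¹ = s := inv_eq_of_mul_eq_one_left hs
      have h3 : s * h ^ k * s = (h⁻¹) ^ k := by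
        have h4 : s * h ^ k * s⁻¹ = (s * h * s⁻¹) ^ k := (conj_zpow).symm
        rw [h2] at h4
        rw [h4, hsh]
      rw [h3]
      exact zpow_mem (inv_mem (mem_zpowers h)) k
    rintro a b (ha | ha) (hb | hb)
    · exact Or.inl (mul_mem ha hb)
    · right
      have : s * (a * b) = (s * a * s) * (s * b) := by
        calc s * (a * b) = s * a * 1 * b := by group
          _ = s * a * (s * s) * b := by rw [hs]
          _ = _ := by group
      rw [this]
      exact mul_mem (h1 a ha) hb
    · right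
      rw [← mul_assoc]
      exact mul_mem ha hb
    · left
      have : a * b = (s * (s * a) * s) * (s * b) := by
        calc a * b = 1 * a * 1 * b := by group
          _ = (s * s) * a * (s * s) * b := by rw [hs]
          _ = _ := by group
      rw [this]
      exact mul_mem (h1 _ ha) hb
  inv_mem' := by
    have h1 : ∀ x ∈ zpowers h, s * x * s ∈ zpowers h := by
      intro x hx
      obtain ⟨k, rfl⟩ := mem_zpowers_iff.1 hx
      have h2 : s⁻¹ = s := inv_eq_of_mul_eq_one_left hs
      have h3 : s * h ^ k * s = (h⁻¹) ^ k := by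
        have h4 : s * h ^ k * s⁻¹ = (s * h * s⁻¹) ^ k := (conj_zpow).symm
        rw [h2] at h4
        rw [h4, hsh]
      rw [h3]
      exact zpow_mem (inv_mem (mem_zpowers h)) k
    have h2 : s⁻¹ = s := inv_eq_of_mul_eq_one_left hs
    rintro a (ha | ha)
    · exact Or.inl (inv_mem ha)
    · right
      have h3 : s * a⁻¹ = s * (s * a)⁻¹ * s := by
        rw [mul_inv_rev, h2]
        calc s * a⁻¹ = s * a⁻¹ * 1 := by group
          _ = s * a⁻¹ * (s * s) := by rw [hs]
          _ = _ := by group
      rw [h3]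
      exact h1 _ (inv_mem ha)

variable [Finite G]

/-- an involution commuting with `t` inverts no element of odd order in `C(t)` -/
theorem SC.no_inv (hP : SC G) {s t h : G} (hs : orderOf s = 2) (ht : orderOf t = 2) (hst : t * s = s * t)
    (hne : s ≠ t) (hht : h * t = t * h) (hodd : Odd (orderOf h)) (hsh : s * h * s⁻¹ = h⁻¹) : h = 1 := by
  by_contra h1
  have hss := mul_self hs
  have hsi := inv_eq_self hs
  rw [hsi] at hsh
  have hnc : ¬ IsCyclic ↥(Dih s h hss hsh) := by
    intro hc
    have hcomm := hc.isMulCommutative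
    have hsD : s ∈ Dih s h hss hsh := Or.inr (by rw [hss]; exact one_mem _)
    have hhD : h ∈ Dih s h hss hsh := Or.inl (mem_zpowers h)
    have h2 := congrArg Subtype.val (hcomm.is_comm.comm (⟨s, hsD⟩ : Dih s h hss hsh) ⟨h, hhD⟩)
    have h3 : s * h = h * s := h2
    rw [h3, mul_assoc, hss, mul_one] at hsh
    apply h1
    have h4 : h ^ 2 = 1 := by
      rw [pow_two]
      nth_rewrite 1 [hsh]
      exact inv_mul_cancel h
    have h5 := orderOf_dvd_of_pow_eq_one h4
    have h6 : orderOf h ≤ 2 := Nat.le_of_dvd (by norm_num) h5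
    obtain ⟨c, hc⟩ := hodd
    exact orderOf_eq_one_iff.1 (by have := orderOf_pos h; omega)
  have htD : t ∈ Dih s h hss hsh := by
    apply hP _ hnc
    rw [mem_centralizer_iff]
    have h2 : ∀ x ∈ zpowers h, x * t = t * x := by
      intro x hx
      obtain ⟨k, rfl⟩ := mem_zpowers_iff.1 hx
      have : Commute h t := hht
      exact (this.zpow_left k).eq
    rintro x (hx | hx)
    · exact h2 x hx
    · have h3 := h2 _ hx
      have h4 : s * (x * t) = s * (t * x) := by
        calc s * (x * t) = (s * x) * t := by group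
          _ = t * (s * x) := h3
          _ = (t * s) * x := by group
          _ = s * t * x := by rw [hst]
          _ = _ := by group
      exact mul_left_cancel h4
  have hodd2 : ∀ x ∈ zpowers h, x * x = 1 → x = 1 := by
    intro x hx hxx
    have h2 : orderOf x ∣ 2 := orderOf_dvd_of_pow_eq_one (by rw [pow_two]; exact hxx)
    have h3 : orderOf x ∣ orderOf h := by
      rw [← Nat.card_zpowers h]
      exact Subgroup.orderOf_dvd_natCard _ hx
    have h4 := hodd.of_dvd_nat h3
    have h6 : orderOf x ≤ 2 := Nat.le_of_dvd (by norm_num) h2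
    obtain ⟨c, hc⟩ := h4
    exact orderOf_eq_one_iff.1 (by have := orderOf_pos x; omega)
  rcases htD with h2 | h2
  · have := hodd2 _ h2 (mul_self ht)
    rw [this, orderOf_one] at ht; omega
  · have h3 : s * t * (s * t) = 1 := by
      calc s * t * (s * t) = s * (t * s) * t := by group
        _ = s * s * (t * t) := by rw [hst]; group
        _ = 1 := by rw [hss, mul_self ht, one_mul]
    have h4 := hodd2 _ h2 h3
    apply hne
    rw [mul_eq_one_iff_eq_inv, inv_eq_self ht] at h4
    exact h4

/-- every involution of `C(t)` lies in `O₂(C(t))` -/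
theorem SC.mem_O2 (hP : SC G) {s t : G} (hs : orderOf s = 2) (ht : orderOf t = 2) (hst : s * t = t * s) :
    s ∈ O2 (centralizer ({t} : Set G)) := by
  haveI : Fact (Nat.Prime 2) := ⟨Nat.prime_two⟩
  have hsC : s ∈ centralizer ({t} : Set G) := mem_cent.2 hst
  have htC : t ∈ centralizer ({t} : Set G) := mem_cent.2 rfl
  by_cases hne : s = t
  · subst hne
    have h1 : zpowers s ≤ O2 (centralizer ({s} : Set G)) := by
      apply le_O2
      · rw [zpowers_le]; exact hsC
      · exact isPGroup_zpowers (k := 1) (by rw [pow_one, ← hs, pow_orderOf_eq_one])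
      · intro g hg
        rw [mem_normalizer_iff]
        intro x
        have key : ∀ g : G, g * s = s * g → ∀ y ∈ zpowers s, g * y * g⁻¹ ∈ zpowers s := by
          intro g hg y hy
          obtain ⟨k, rfl⟩ := mem_zpowers_iff.1 hy
          have : Commute g s := hg
          rw [(this.zpow_right k).eq, mul_assoc, mul_inv_cancel, mul_one]
          exact hy
        rw [mem_cent] at hg
        constructor
        · exact key g hg x
        · intro h
          have h2 : g⁻¹ * s = s * g⁻¹ := by
            rw [inv_mul_eq_iff_eq_mul, ← mul_assoc, eq_mul_inv_iff_mul_eq]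
            exact hg.symm
          have h3 := key g⁻¹ h2 _ h
          have h4 : g⁻¹ * (g * x * g⁻¹) * g⁻¹⁻¹ = x := by group
          rwa [h4] at h3
    exact h1 (mem_zpowers s)
  · by_contra hnot
    have hso : orderOf (⟨s, hsC⟩ : centralizer ({t} : Set G)) = 2 := by rw [Subgroup.orderOf_mk]; exact hs
    obtain ⟨h, h1, hodd, hsh⟩ := BaerSuzuki.exists_inverted_odd (⟨s, hsC⟩ : centralizer ({t} : Set G)) hso (by
      intro N hN hNp hsN
      apply hnot
      exact ⟨⟨s, hsC⟩, Fitting.le_pCore 2 hN hNp hsN, rfl⟩)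
    apply h1
    apply Subtype.ext
    apply hP.no_inv hs ht hst.symm hne (mem_cent.1 h.2)
    · rw [← Subgroup.orderOf_coe] at hodd; exact hodd
    · exact congrArg Subtype.val hsh

/-- the centralizer of an involution is a 2-group -/
theorem SC.cent2 (hP : SC G) {s t : G} (hs : orderOf s = 2) (ht : orderOf t = 2) (hst : s * t = t * s)
    (hne : s ≠ t) : IsPGroup 2 (centralizer ({t} : Set G)) := by
  classical
  haveI : Fact (Nat.Prime 2) := ⟨Nat.prime_two⟩
  set C := centralizer ({t} : Set G) with hC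
  set Q := O2 C with hQ
  have hQC : Q ≤ C := O2_le C
  have hQ2 : IsPGroup 2 Q := O2_isPGroup C
  have hs1 : s ≠ 1 := by rintro rfl; rw [orderOf_one] at hs; omega
  have ht1 : t ≠ 1 := by rintro rfl; rw [orderOf_one] at ht; omega
  have hss := mul_self hs
  have htt := mul_self ht
  have hstC : (C ⊓ centralizer ({s} : Set G) : Subgroup G) = V4 s t hss htt hst.symm := by
    ext c
    constructor
    · rintro ⟨h1, h2⟩
      exact hP.four hs ht hst.symm hne (mem_cent.1 h2) (mem_cent.1 h1)
    · rintro (rfl | rfl | rfl | rfl)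
      · exact one_mem _
      · exact ⟨mem_cent.2 hst, mem_cent.2 rfl⟩
      · exact ⟨mem_cent.2 rfl, mem_cent.2 hst.symm⟩
      · refine mul_mem ?_ ?_
        · exact ⟨mem_cent.2 hst, mem_cent.2 rfl⟩
        · exact ⟨mem_cent.2 rfl, mem_cent.2 hst.symm⟩
  have hV4 : ((V4 s t hss htt hst.symm : Subgroup G) : Set G) = {1, s, t, s * t} := by
    ext x
    show (x = 1 ∨ x = s ∨ x = t ∨ x = s * t) ↔ _
    simp
  have hst1 : s * t ≠ 1 := by
    intro h
    apply hne
    rw [mul_eq_one_iff_eq_inv, inv_eq_self ht] at h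
    exact h
  have hV4c : Nat.card (V4 s t hss htt hst.symm) = 4 := by
    rw [← SetLike.coe_sort_coe, Nat.card_coe_set_eq, hV4]
    rw [Set.ncard_insert_of_notMem, Set.ncard_insert_of_notMem, Set.ncard_insert_of_notMem, Set.ncard_singleton]
    · simp only [Set.mem_singleton_iff]
      intro h
      exact hs1 (mul_eq_right.1 h.symm)
    · simp only [Set.mem_insert_iff, Set.mem_singleton_iff, not_or]
      refine ⟨hne, fun h => ht1 ?_⟩
      exact mul_eq_left.1 h.symm
    · simp only [Set.mem_insert_iff, Set.mem_singleton_iff, not_or]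
      exact ⟨hs1.symm, ht1.symm, hst1.symm⟩
  set Ω := {v : G | ∃ k ∈ C, k * s * k⁻¹ = v} with hΩ
  have horb : Nat.card C = Ω.ncard * 4 := by
    rw [InvAct.card_conj_orbit C s, hstC, hV4c]
  have hΩo : ∀ v ∈ Ω, orderOf v = 2 := by
    rintro v ⟨k, -, rfl⟩
    rw [← hs]
    have := orderOf_injective (MulAut.conj k).toMonoidHom (MulAut.conj k).injective s
    simpa using this
  have hΩt : ∀ v ∈ Ω, v * t = t * v := by
    rintro v ⟨k, hk, rfl⟩
    have h1 := mem_cent.1 hk
    have h2 : k⁻¹ * t = t * k⁻¹ := by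
      rw [inv_mul_eq_iff_eq_mul, ← mul_assoc, eq_mul_inv_iff_mul_eq]
      exact h1.symm
    calc k * s * k⁻¹ * t = k * s * (k⁻¹ * t) := by group
      _ = k * (s * t) * k⁻¹ := by rw [h2]; group
      _ = (k * t) * s * k⁻¹ := by rw [hst]; group
      _ = _ := by rw [h1]; group
  have htΩ : t ∉ Ω := by
    rintro ⟨k, hk, h⟩
    apply hne
    have h1 := mem_cent.1 hk
    rw [mul_inv_eq_iff_eq_mul, ← h1] at h
    exact mul_left_cancel h
  have h1Ω : (1 : G) ∉ Ω := by
    intro h
    have := hΩo _ h
    rw [orderOf_one] at this; omega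
  set J : Set G := insert 1 (insert t Ω) with hJ
  have hJc : J.ncard = Ω.ncard + 2 := by
    rw [hJ, Set.ncard_insert_of_notMem, Set.ncard_insert_of_notMem htΩ]
    simp only [Set.mem_insert_iff, not_or]
    exact ⟨ht1.symm, h1Ω⟩
  have hJQ : J ⊆ (Q : Set G) := by
    rintro x (rfl | rfl | hx)
    · exact one_mem Q
    · exact hP.mem_O2 ht ht rfl
    · exact hP.mem_O2 (hΩo x hx) ht (hΩt x hx)
  have hJ2 : ∀ x ∈ J, x * x = 1 := by
    rintro x (rfl | rfl | hx)
    · exact one_mul 1
    · exact htt
    · exact mul_self (hΩo x hx)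
  have hJt : ∀ x ∈ J, x * t = t * x := by
    rintro x (rfl | rfl | hx)
    · rw [one_mul, mul_one]
    · rfl
    · exact hΩt x hx
  have hQcard : Nat.card Q = (Q : Set G).ncard := by
    rw [← Nat.card_coe_set_eq]; rfl
  have hsQ : s ∈ Q := hP.mem_O2 hs ht hst
  have hle : Ω.ncard + 2 ≤ Nat.card Q := by
    rw [← hJc, hQcard]
    exact Set.ncard_le_ncard hJQ (Set.toFinite _)
  obtain ⟨e, he⟩ := IsPGroup.iff_card.1 hQ2
  have hmul := card_mul_rel hQC
  have hpos : 0 < Nat.card Q := Nat.card_pos
  have hm3 : Q.relIndex C ≤ 3 := by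
    by_contra h
    push Not at h
    have h2 : Nat.card Q * 4 ≤ Nat.card Q * Q.relIndex C := Nat.mul_le_mul_left _ h
    rw [hmul, horb] at h2
    omega
  have hm0 : Q.relIndex C ≠ 0 := by
    intro h
    rw [h, mul_zero] at hmul
    exact Nat.card_pos.ne' hmul.symm
  have hm : Q.relIndex C = 1 ∨ Q.relIndex C = 2 ∨ Q.relIndex C = 3 := by omega
  rcases hm with hm | hm | hm
  · exact IsPGroup.of_card (n := e) (by rw [← hmul, hm, mul_one, he])
  · exact IsPGroup.of_card (n := e + 1) (by rw [← hmul, hm, he, pow_succ])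
  · exfalso
    rw [hm] at hmul
    set J' : Set G := (fun x => s * x) '' J with hJ'
    have hJ'c : J'.ncard = J.ncard := Set.ncard_image_of_injective _ (mul_right_injective s)
    have hsub : J ∪ J' ⊆ (Q : Set G) := by
      rintro x (hx | ⟨y, hy, rfl⟩)
      · exact hJQ hx
      · exact Q.mul_mem hsQ (hJQ hy)
    have hint : J ∩ J' ⊆ ((V4 s t hss htt hst.symm : Subgroup G) : Set G) := by
      rintro x ⟨hx, y, hy, rfl⟩
      have h1 : s * y * (s * y) = 1 := hJ2 _ hx
      have h2 := hJ2 y hy
      have h3 : y * s = s * y := by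
        have hyi : y⁻¹ = y := inv_eq_of_mul_eq_one_left h2
        have hsi := inv_eq_self hs
        have h4 : s * y = (s * y)⁻¹ := eq_inv_of_mul_eq_one_left h1
        rw [h4, mul_inv_rev, hyi, hsi]
      have h4 : y ∈ (C ⊓ centralizer ({s} : Set G) : Subgroup G) := ⟨mem_cent.2 (hJt y hy), mem_cent.2 h3⟩
      rw [hstC] at h4
      have h5 : s ∈ V4 s t hss htt hst.symm := Or.inr (Or.inl rfl)
      exact mul_mem h5 h4
    have h1 := Set.ncard_inter_add_ncard_union J J' (Set.toFinite _) (Set.toFinite _)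
    have h2 := Set.ncard_le_ncard hsub (Set.toFinite _)
    have h3 := Set.ncard_le_ncard hint (Set.toFinite _)
    rw [← hQcard] at h2
    have h4 : ((V4 s t hss htt hst.symm : Subgroup G) : Set G).ncard = 4 := by
      rw [← hV4c, ← Nat.card_coe_set_eq]; rfl
    omega

/-- every involution commutes with another one -/
theorem exists_comm [IsSimpleGroup G] (hna : ¬ ∀ a b : G, a * b = b * a) {t : G} (hto : orderOf t = 2) :
    ∃ s : G, orderOf s = 2 ∧ s * t = t * s ∧ s ≠ t := by
  haveI : Fact (Nat.Prime 2) := ⟨Nat.prime_two⟩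
  by_contra hcon
  push Not at hcon
  have hzp : IsPGroup 2 (zpowers t) := isPGroup_zpowers (k := 1) (by rw [pow_one, ← hto, pow_orderOf_eq_one])
  obtain ⟨T, hT⟩ := hzp.exists_le_sylow
  have ht : t ∈ (T : Subgroup G) := hT (mem_zpowers t)
  -- a central involution of `T` commutes with `t`, so it is `t`
  have hTb : (T : Subgroup G) ≠ ⊥ := by
    intro h
    rw [h, mem_bot] at ht
    rw [ht, orderOf_one] at hto; omega
  obtain ⟨z, hz1, hz2⟩ := exists_mem_ne_one (zeta_ne_bot T.isPGroup' hTb)
  have hzo : orderOf z = 2 := orderOf_two (mem_zeta.1 hz1).2.1 hz2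
  have hzt : z = t := hcon z hzo ((mem_zeta.1 hz1).2.2 t ht)
  have huniq : ∀ s ∈ (T : Subgroup G), orderOf s = 2 → s = t := by
    intro s hs hso
    apply hcon s hso
    have := (mem_zeta.1 hz1).2.2 s hs
    rw [hzt] at this
    exact this.symm
  have hz := ZStarU.inZStar_of_sylow T (x := t) ht (by
    intro g hg
    apply huniq _ hg
    have := orderOf_injective (MulAut.conj g).toMonoidHom (MulAut.conj g).injective t
    rw [← hto, ← this]; simp)
  have hcore : Cfsg.pPrimeCore 2 G = ⊥ := by
    have hn : (Cfsg.pPrimeCore 2 G).Normal := inferInstance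
    rcases hn.eq_bot_or_eq_top with h | h
    · exact h
    · exfalso
      have h1 := Cores.coprime_card_pPrimeCore 2 G
      rw [h, Subgroup.card_top] at h1
      have h2 : Odd (Nat.card G) := Nat.coprime_two_right.1 h1
      exact not_solvable_of_simple hna (Cfsg.Agent.S0205.result h2)
  have hcen : ∀ g : G, g * t * g⁻¹ = t := by
    intro g
    have h3 := hz g
    rw [hcore, mem_bot, mul_inv_eq_one] at h3
    exact h3
  have hzn : (zpowers t).Normal := by
    refine ⟨fun n hn g => ?_⟩
    obtain ⟨k, rfl⟩ := mem_zpowers_iff.1 hn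
    rw [← conj_zpow, hcen g]
    exact zpow_mem (mem_zpowers t) k
  rcases hzn.eq_bot_or_eq_top with h | h
  · rw [zpowers_eq_bot] at h
    rw [h, orderOf_one] at hto
    omega
  · apply hna
    intro a b
    have h1 : ∀ x : G, x ∈ zpowers t := fun x => by rw [h]; exact mem_top x
    obtain ⟨k, rfl⟩ := mem_zpowers_iff.1 (h1 a)
    obtain ⟨l, rfl⟩ := mem_zpowers_iff.1 (h1 b)
    rw [← zpow_add, ← zpow_add, add_comm]

theorem SC.isCIT [IsSimpleGroup G] (hP : SC G) (hna : ¬ ∀ a b : G, a * b = b * a) : IsCIT G := by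
  intro t ht
  obtain ⟨s, hs, hst, hne⟩ := exists_comm hna ht
  exact hP.cent2 hs ht hst hne

end Cfsg.Agent.Lib.SelfCent
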