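import Cfsg.Agent.Lib.CITFive
import Cfsg.Agent.Lib.Gaschutz
import Cfsg.Agent.Lib.SelfCentA

set_option autoImplicit false
set_option linter.all false

/-!
# Affine groups `F² ⋊ SL₂(F)` (helper6)
-/

namespace Cfsg.Agent.Lib.FiveCrit

open Matrix
open scoped MatrixGroups

universe u v

section blk

variable {F : Type u} [Field F]

local notation "SL2" => Matrix.SpecialLinearGroup (Fin 2) F
local notation "SL3" => Matrix.SpecialLinearGroup (Fin 3) F

def blkM (A : SL2) (a : Fin 2 → F) : Matrix (Fin 3) (Fin 3) F :=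
  !![(A : Matrix (Fin 2) (Fin 2) F) 0 0, (A : Matrix (Fin 2) (Fin 2) F) 0 1, a 0;
     (A : Matrix (Fin 2) (Fin 2) F) 1 0, (A : Matrix (Fin 2) (Fin 2) F) 1 1, a 1; 0, 0, 1]

theorem blkM_det (A : SL2) (a : Fin 2 → F) : (blkM A a).det = 1 := by
  have h := A.det_coe
  rw [Matrix.det_fin_two] at h
  rw [Matrix.det_fin_three]
  simp [blkM]
  exact h

def blk (A : SL2) (a : Fin 2 → F) : SL3 := ⟨blkM A a, blkM_det A a⟩

theorem blk_mul (A B : SL2) (a b : Fin 2 → F) :
    blk A a * blk B b = blk (A * B) ((A : Matrix (Fin 2) (Fin 2) F).mulVec b + a) := by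
  apply Subtype.ext
  show blkM A a * blkM B b = blkM (A * B) _
  ext i j
  fin_cases i <;> fin_cases j <;>
    simp [blkM, Matrix.mul_apply, Fin.sum_univ_three, Fin.sum_univ_two, Matrix.mulVec, dotProduct]

theorem blk_inj {A B : SL2} {a b : Fin 2 → F} (h : blk A a = blk B b) : A = B ∧ a = b := by
  have h1 : blkM A a = blkM B b := congrArg Subtype.val h
  have h2 : ∀ i j, blkM A a i j = blkM B b i j := fun i j => by rw [h1]
  constructor
  · apply Subtype.ext
    ext i j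
    fin_cases i <;> fin_cases j
    · exact h2 0 0
    · exact h2 0 1
    · exact h2 1 0
    · exact h2 1 1
  · funext i
    fin_cases i
    · exact h2 0 2
    · exact h2 1 2

theorem blk_one : blk (1 : SL2) (0 : Fin 2 → F) = 1 := by
  apply Subtype.ext
  show blkM 1 0 = 1
  ext i j
  fin_cases i <;> fin_cases j <;> simp [blkM]

theorem exists_blk {M : SL3} (h0 : (M : Matrix (Fin 3) (Fin 3) F) 2 0 = 0)
    (h1 : (M : Matrix (Fin 3) (Fin 3) F) 2 1 = 0) (h2 : (M : Matrix (Fin 3) (Fin 3) F) 2 2 = 1) :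
    ∃ (A : SL2) (a : Fin 2 → F), M = blk A a := by
  have hd := M.det_coe
  rw [Matrix.det_fin_three, h0, h1, h2] at hd
  refine ⟨⟨!![(M : Matrix (Fin 3) (Fin 3) F) 0 0, (M : Matrix (Fin 3) (Fin 3) F) 0 1;
     (M : Matrix (Fin 3) (Fin 3) F) 1 0, (M : Matrix (Fin 3) (Fin 3) F) 1 1], ?_⟩,
     ![(M : Matrix (Fin 3) (Fin 3) F) 0 2, (M : Matrix (Fin 3) (Fin 3) F) 1 2], ?_⟩
  · rw [Matrix.det_fin_two]
    simp
    linear_combination hd
  · apply Subtype.ext
    ext i j
    fin_cases i <;> fin_cases j <;> simp [blk, blkM, h0, h1, h2]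

end blk

/-- the split extension of a natural module by `SL₂(F)` -/
theorem affine_iso {G : Type v} [Group G] {F : Type u} [Field F] (V : Subgroup G) [V.Normal]
    (ρ : G →* Matrix.SpecialLinearGroup (Fin 2) F) (hρ : Function.Surjective ρ) (hker : ∀ g, ρ g = 1 ↔ g ∈ V)
    (ψ : V →* Multiplicative (Fin 2 → F)) (hψ : Function.Bijective ψ)
    (hact : ∀ (g : G) (u : V), ∃ w : V, (w : G) = g * u * g⁻¹ ∧
      Multiplicative.toAdd (ψ w) = (ρ g : Matrix (Fin 2) (Fin 2) F).mulVec (Multiplicative.toAdd (ψ u)))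
    (K : Subgroup G) (hK : Subgroup.IsComplement' V K) :
    Nonempty (G ≃* ↥(Subgroup.closure {M : Matrix.SpecialLinearGroup (Fin 3) F |
          (M : Matrix (Fin 3) (Fin 3) F) 2 0 = 0 ∧ (M : Matrix (Fin 3) (Fin 3) F) 2 1 = 0 ∧ (M : Matrix (Fin 3) (Fin 3) F) 2 2 = 1})) := by
  classical
  have hbij : Function.Bijective (ρ.comp K.subtype) := by
    constructor
    · rw [injective_iff_map_eq_one]
      rintro ⟨k, hk⟩ h
      have h1 : k ∈ V := (hker k).1 h
      have h2 : k ∈ (V ⊓ K : Subgroup G) := ⟨h1, hk⟩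
      rw [hK.isCompl.inf_eq_bot, Subgroup.mem_bot] at h2
      exact Subtype.ext h2
    · intro A
      obtain ⟨g, rfl⟩ := hρ A
      obtain ⟨⟨v, k⟩, hvk⟩ := hK.2 g
      refine ⟨k, ?_⟩
      have h1 : (v : G) * (k : G) = g := hvk
      rw [← h1, map_mul, (hker (v : G)).2 v.2, one_mul]
      rfl
  let eK := MulEquiv.ofBijective _ hbij
  let κ : Matrix.SpecialLinearGroup (Fin 2) F →* G := K.subtype.comp eK.symm.toMonoidHom
  have hκ : ∀ A, ρ (κ A) = A := fun A => eK.apply_symm_apply A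
  have hvm : ∀ g : G, g * (κ (ρ g))⁻¹ ∈ V := by
    intro g
    rw [← hker, map_mul, map_inv, hκ, mul_inv_cancel]
  let vv : G → V := fun g => ⟨g * (κ (ρ g))⁻¹, hvm g⟩
  let f : G → Matrix.SpecialLinearGroup (Fin 3) F := fun g => blk (ρ g) (Multiplicative.toAdd (ψ (vv g)))
  have hvv : ∀ (g h : G) (w : V), (w : G) = g * (vv h : G) * g⁻¹ → vv (g * h) = w * vv g := by
    intro g h w hw
    apply Subtype.ext
    show g * h * (κ (ρ (g * h)))⁻¹ = (w : G) * (g * (κ (ρ g))⁻¹)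
    rw [hw, map_mul, map_mul]
    show _ = g * (h * (κ (ρ h))⁻¹) * g⁻¹ * (g * (κ (ρ g))⁻¹)
    group
  let Φ : G →* Matrix.SpecialLinearGroup (Fin 3) F := MonoidHom.mk' f (by
    intro g h
    show blk _ _ = blk _ _ * blk _ _
    rw [blk_mul]
    obtain ⟨w, hw1, hw2⟩ := hact g (vv h)
    rw [hvv g h w hw1, ← hw2, map_mul ψ, map_mul ρ]
    rfl)
  have hinj : Function.Injective Φ := by
    rw [injective_iff_map_eq_one]
    intro g hg
    have h1 : blk (ρ g) (Multiplicative.toAdd (ψ (vv g))) = blk 1 0 := by rw [blk_one]; exact hg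
    obtain ⟨h2, h3⟩ := blk_inj h1
    have h4 : ψ (vv g) = 1 := h3
    have h5 : vv g = 1 := hψ.1 (by rw [h4, map_one])
    have h6 : g * (κ (ρ g))⁻¹ = 1 := congrArg Subtype.val h5
    rw [h2, map_one, inv_one, mul_one] at h6
    exact h6
  have hrange : Φ.range = Subgroup.closure {M : Matrix.SpecialLinearGroup (Fin 3) F |
          (M : Matrix (Fin 3) (Fin 3) F) 2 0 = 0 ∧ (M : Matrix (Fin 3) (Fin 3) F) 2 1 = 0 ∧ (M : Matrix (Fin 3) (Fin 3) F) 2 2 = 1} := by
    apply le_antisymm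
    · rintro _ ⟨g, rfl⟩
      apply Subgroup.subset_closure
      refine ⟨?_, ?_, ?_⟩
      · show blkM _ _ 2 0 = 0
        simp [blkM]
      · show blkM _ _ 2 1 = 0
        simp [blkM]
      · show blkM _ _ 2 2 = 1
        simp [blkM]
    · rw [Subgroup.closure_le]
      rintro M ⟨h0, h1, h2⟩
      obtain ⟨A, a, rfl⟩ := exists_blk h0 h1 h2
      obtain ⟨v, hv⟩ := hψ.2 (Multiplicative.ofAdd a)
      refine ⟨(v : G) * κ A, ?_⟩
      have h3 : ρ ((v : G) * κ A) = A := by rw [map_mul, hκ, (hker _).2 v.2, one_mul]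
      have h4 : vv ((v : G) * κ A) = v := by
        apply Subtype.ext
        show (v : G) * κ A * (κ (ρ ((v : G) * κ A)))⁻¹ = v
        rw [h3, mul_assoc, mul_inv_cancel, mul_one]
      show blk (ρ ((v : G) * κ A)) (Multiplicative.toAdd (ψ (vv ((v : G) * κ A)))) = blk A a
      rw [h3, h4, hv]
      rfl
  rw [← hrange]
  exact ⟨MonoidHom.ofInjective hinj⟩

end Cfsg.Agent.Lib.FiveCrit
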