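import Cfsg.Agent.Lib.FiveCritA

set_option autoImplicit false
set_option linter.all false

/-!
# Critical groups with element orders 1,2,3,4,5 (helper6): splitting
-/

namespace Cfsg.Agent.Lib.FiveCrit

open Matrix Cfsg.Agent.Lib.CIT Cfsg.Agent.Lib.SelfCent Subgroup
open scoped MatrixGroups

universe u v

section

variable {F : Type u} [Field F]

local notation "SL2" => Matrix.SpecialLinearGroup (Fin 2) F

def um (b : F) : SL2 := ⟨!![1, b; 0, 1], by simp [Matrix.det_fin_two]⟩

theorem um_mul (a b : F) : um a * um b = um (a + b) := by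
  apply Subtype.ext
  show (!![1, a; 0, 1] : Matrix (Fin 2) (Fin 2) F) * !![1, b; 0, 1] = !![1, a + b; 0, 1]
  ext i j
  fin_cases i <;> fin_cases j <;> simp [Matrix.mul_apply, Fin.sum_univ_two, add_comm]

theorem um_mulVec (b : F) (v : Fin 2 → F) : ((um b : SL2) : Matrix (Fin 2) (Fin 2) F).mulVec v = ![v 0 + b * v 1, v 1] := by
  show (!![1, b; 0, 1] : Matrix (Fin 2) (Fin 2) F).mulVec v = _
  funext i
  fin_cases i <;> simp [Matrix.mulVec, dotProduct, Fin.sum_univ_two]

theorem um_zero : um (0 : F) = 1 := by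
  apply Subtype.ext
  ext i j
  fin_cases i <;> fin_cases j <;> simp [um]

theorem um_inj {a b : F} (h : um a = um b) : a = b := by
  have h1 : (!![1, a; 0, 1] : Matrix (Fin 2) (Fin 2) F) = !![1, b; 0, 1] := congrArg Subtype.val h
  have h2 := congrFun (congrFun h1 0) 1
  simpa using h2

def UU (F : Type u) [Field F] : Subgroup (Matrix.SpecialLinearGroup (Fin 2) F) where
  carrier := Set.range um
  one_mem' := ⟨0, um_zero⟩
  mul_mem' := by
    rintro _ _ ⟨a, rfl⟩ ⟨b, rfl⟩
    exact ⟨a + b, (um_mul a b).symm⟩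
  inv_mem' := by
    rintro _ ⟨a, rfl⟩
    refine ⟨-a, ?_⟩
    rw [eq_inv_iff_mul_eq_one, um_mul, neg_add_cancel, um_zero]

theorem card_UU : Nat.card (UU F) = Nat.card F := by
  refine (Nat.card_congr (Equiv.ofBijective (fun a : F => (⟨um a, a, rfl⟩ : UU F)) ⟨?_, ?_⟩)).symm
  · intro a b h
    exact um_inj (congrArg Subtype.val h)
  · rintro ⟨_, a, rfl⟩
    exact ⟨a, rfl⟩

def dm (a b : F) (h : a * b = 1) : SL2 := ⟨!![a, 0; 0, b], by simp [Matrix.det_fin_two, h]⟩

theorem dm_mul (a b : F) (h : a * b = 1) (c d : F) (h' : c * d = 1) :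
    dm a b h * dm c d h' = dm (a * c) (b * d) (by rw [mul_mul_mul_comm, h, h', one_mul]) := by
  apply Subtype.ext
  show (!![a, 0; 0, b] : Matrix (Fin 2) (Fin 2) F) * !![c, 0; 0, d] = !![a * c, 0; 0, b * d]
  ext i j
  fin_cases i <;> fin_cases j <;> simp [Matrix.mul_apply, Fin.sum_univ_two]

theorem dm_um (a b : F) (h : a * b = 1) (x : F) : dm a b h * um x = um (a * a * x) * dm a b h := by
  apply Subtype.ext
  show (!![a, 0; 0, b] : Matrix (Fin 2) (Fin 2) F) * !![1, x; 0, 1] = !![1, a * a * x; 0, 1] * !![a, 0; 0, b]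
  ext i j
  fin_cases i <;> fin_cases j <;> simp [Matrix.mul_apply, Fin.sum_univ_two]
  linear_combination (-(a * x)) * h

theorem dm_one (h : (1 : F) * 1 = 1) : dm (1 : F) 1 h = 1 := by
  apply Subtype.ext
  ext i j
  fin_cases i <;> fin_cases j <;> simp [dm]

end

theorem split {G : Type v} [Group G] [Finite G] (hG : IsCIT G) (h5 : ∀ g : G, orderOf g ≤ 5)
    {F : Type u} [Field F] [Fintype F] [CharP F 2] (hF : Fintype.card F = 4) (V : Subgroup G) [V.Normal]
    (hV2 : IsPGroup 2 V) (hVc : IsMulCommutative V)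
    (ρ : G →* Matrix.SpecialLinearGroup (Fin 2) F) (hρ : Function.Surjective ρ) (hker : ∀ g, ρ g = 1 ↔ g ∈ V)
    (ψ : V →* Multiplicative (Fin 2 → F)) (hψ : Function.Bijective ψ)
    (hact : ∀ (g : G) (u : V), ∃ w : V, (w : G) = g * u * g⁻¹ ∧
      Multiplicative.toAdd (ψ w) = (ρ g : Matrix (Fin 2) (Fin 2) F).mulVec (Multiplicative.toAdd (ψ u))) :
    ∃ K : Subgroup G, Subgroup.IsComplement' V K := by
  classical
  haveI : Fact (Nat.Prime 2) := ⟨Nat.prime_two⟩
  have hcc : ∀ x : F, x + x = 0 := fun x => CharTwo.add_self_eq_zero x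
  -- an element of order 3
  obtain ⟨a, ha0, ha1⟩ : ∃ a : F, a ≠ 0 ∧ a ≠ 1 := by
    by_contra hcon
    push Not at hcon
    have h1 : (Finset.univ : Finset F) ⊆ {0, 1} := by
      intro x _
      by_cases h : x = 0
      · simp [h]
      · simp [hcon x h]
    have h2 := Finset.card_le_card h1
    rw [Finset.card_univ, hF] at h2
    have h3 : ({0, 1} : Finset F).card ≤ 2 := Finset.card_le_two
    omega
  have ha3 : a ^ 3 = 1 := by
    have := FiniteField.pow_card_sub_one_eq_one a ha0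
    rw [hF] at this
    exact this
  have hab : a * a ^ 2 = 1 := by rw [← ha3]; ring
  have hc1 : a * a ≠ 1 := by
    intro h
    have : (a + 1) * (a + 1) = 0 := by linear_combination h + hcc a + hcc 1
    have h2 := mul_self_eq_zero.1 this
    apply ha1
    have h3 : a + 1 + 1 = 0 + 1 := by rw [h2]
    rw [add_assoc, hcc 1, add_zero, zero_add] at h3
    exact h3
  have hc0 : a * a ≠ 0 := mul_ne_zero ha0 ha0
  have hall : ∀ x : F, x = 0 ∨ x = 1 ∨ x = a * a ∨ x = 1 + a * a := by
    have h1 : ({0, 1, a * a, 1 + a * a} : Finset F) = Finset.univ := by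
      rw [← Finset.card_eq_iff_eq_univ, hF]
      rw [Finset.card_insert_of_notMem, Finset.card_insert_of_notMem, Finset.card_insert_of_notMem, Finset.card_singleton]
      · simp only [Finset.mem_singleton]
        intro h
        exact one_ne_zero (add_eq_right.1 h.symm)
      · simp only [Finset.mem_insert, Finset.mem_singleton, not_or]
        refine ⟨hc1.symm, fun h => hc0 (add_eq_left.1 h.symm)⟩
      · simp only [Finset.mem_insert, Finset.mem_singleton, not_or]
        refine ⟨zero_ne_one, hc0.symm, fun h => hc1 ?_⟩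
        have h3 : 1 + (1 + a * a) = 1 + 0 := by rw [← h]
        rw [← add_assoc, hcc 1, zero_add, add_zero] at h3
        exact h3
    intro x
    have h2 : x ∈ ({0, 1, a * a, 1 + a * a} : Finset F) := by rw [h1]; exact Finset.mem_univ x
    simpa using h2
  obtain ⟨g, hg⟩ := hρ (dm a (a ^ 2) hab)
  have hg3 : orderOf g = 3 := by
    have h1 : orderOf (ρ g) = 3 := by
      haveI : Fact (Nat.Prime 3) := ⟨Nat.prime_three⟩
      apply orderOf_eq_prime
      · rw [hg, pow_succ, pow_two, dm_mul, dm_mul]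
        have e1 : a * a * a = 1 := by rw [← ha3]; ring
        have e2 : a ^ 2 * a ^ 2 * a ^ 2 = 1 := by
          have : a ^ 2 * a ^ 2 * a ^ 2 = (a ^ 3) ^ 2 := by ring
          rw [this, ha3, one_pow]
        have : ∀ (x y : F) (h : x * y = 1), x = 1 → y = 1 → dm x y h = 1 := by
          rintro x y h rfl rfl
          exact dm_one h
        exact this _ _ _ e1 e2
      · intro h
        rw [hg] at h
        have h2 : (!![a, 0; 0, a ^ 2] : Matrix (Fin 2) (Fin 2) F) = 1 := congrArg Subtype.val h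
        have h3 := congrFun (congrFun h2 0) 0
        exact ha1 (by simpa using h3)
    have h2 : 3 ∣ orderOf g := by rw [← h1]; exact orderOf_map_dvd ρ g
    have h3 := h5 g
    have h4 := orderOf_pos g
    omega
  -- an involution over `um 1`
  obtain ⟨τ₀, hτ₀⟩ := hρ (um 1)
  have hsqV : τ₀ * τ₀ ∈ V := by
    rw [← hker, map_mul, hτ₀, um_mul, hcc 1, um_zero]
  set w₀ : V := ⟨τ₀ * τ₀, hsqV⟩ with hw₀
  obtain ⟨w, hw1, hw2⟩ := hact τ₀ w₀
  have hww : w = w₀ := by
    apply Subtype.ext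
    rw [hw1]
    show τ₀ * (τ₀ * τ₀) * τ₀⁻¹ = τ₀ * τ₀
    group
  rw [hww, hτ₀] at hw2
  have hw10 : Multiplicative.toAdd (ψ w₀) 1 = 0 := by
    rw [um_mulVec] at hw2
    have h1 := congrFun hw2 0
    simp at h1
    exact h1
  obtain ⟨v, hv⟩ := hψ.2 (Multiplicative.ofAdd ![0, Multiplicative.toAdd (ψ w₀) 0])
  obtain ⟨v', hv1, hv2⟩ := hact τ₀ v
  set τ := (v : G) * τ₀ with hτ
  have hρτ : ρ τ = um 1 := by rw [hτ, map_mul, (hker _).2 v.2, one_mul, hτ₀]
  have hττ : τ * τ = 1 := by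
    have h1 : τ * τ = ((v * v' * w₀ : V) : G) := by
      rw [hτ, Subgroup.coe_mul, Subgroup.coe_mul, hv1]
      show (v : G) * τ₀ * ((v : G) * τ₀) = (v : G) * (τ₀ * v * τ₀⁻¹) * (τ₀ * τ₀)
      group
    have h2 : v * v' * w₀ = 1 := by
      apply hψ.1
      rw [map_one, map_mul, map_mul]
      apply Multiplicative.toAdd.injective
      rw [toAdd_mul, toAdd_mul, hv2, hv, hτ₀, toAdd_one, um_mulVec]
      funext i
      fin_cases i
      · simp
        exact hcc _
      · simp [hw10]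
        exact hcc _
    rw [h1, h2]; rfl
  have hτ1 : τ ≠ 1 := by
    intro h
    rw [h, map_one, ← um_zero] at hρτ
    exact zero_ne_one (um_inj hρτ)
  set T := (UU F).comap ρ with hT
  have hVT : V ≤ T := by
    intro x hx
    show ρ x ∈ UU F
    rw [(hker x).2 hx]; exact one_mem _
  have hT2 : IsPGroup 2 T := by
    have h1 : IsPGroup 2 (UU F) := IsPGroup.of_card (n := 2) (by rw [card_UU, Nat.card_eq_fintype_card, hF]; norm_num)
    apply h1.comap_of_ker_isPGroup
    have h2 : ρ.ker = V := by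
      ext x
      rw [MonoidHom.mem_ker]
      exact hker x
    rw [h2]
    exact hV2
  have hgT : ∀ x ∈ T, g * x * g⁻¹ ∈ T := by
    rintro x ⟨b, hb⟩
    show ρ (g * x * g⁻¹) ∈ UU F
    refine ⟨a * a * b, ?_⟩
    rw [map_mul, map_mul, map_inv, hg, ← hb, dm_um, mul_inv_cancel_right]
  have hτT : τ ∈ T := ⟨1, hρτ.symm⟩
  have hgo : Odd (orderOf g) := by rw [hg3]; decide
  have hg1 : g ≠ 1 := by rintro rfl; rw [orderOf_one] at hg3; omega
  -- the fixed point free action
  have hsurj : Function.Surjective (fun y : T => (⟨(y : G)⁻¹ * (g * y * g⁻¹), T.mul_mem (T.inv_mem y.2) (hgT y y.2)⟩ : T)) := by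
    apply Finite.surjective_of_injective
    intro y z hyz
    have h1 : (y : G)⁻¹ * (g * y * g⁻¹) = (z : G)⁻¹ * (g * z * g⁻¹) := congrArg Subtype.val hyz
    have h2 : g * ((z : G) * (y : G)⁻¹) * g⁻¹ = (z : G) * (y : G)⁻¹ := by
      calc g * ((z : G) * (y : G)⁻¹) * g⁻¹ = z * ((z : G)⁻¹ * (g * z * g⁻¹)) * (g * y * g⁻¹)⁻¹ := by group
        _ = z * ((y : G)⁻¹ * (g * y * g⁻¹)) * (g * y * g⁻¹)⁻¹ := by rw [h1]
        _ = _ := by group
    have h3 := hG.fpf hT2 hgo hg1 (T.mul_mem z.2 (T.inv_mem y.2)) h2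
    exact Subtype.ext (mul_inv_eq_one.1 h3).symm
  set σ := g * τ * g⁻¹ with hσ
  obtain ⟨y, hy⟩ := hsurj ⟨τ, hτT⟩
  have hy' : (y : G)⁻¹ * (g * y * g⁻¹) = τ := congrArg Subtype.val hy
  have hprod : τ * σ * (g * σ * g⁻¹) = 1 := by
    have h1 : τ * σ * (g * σ * g⁻¹) = (y : G)⁻¹ * (g ^ 3 * y * (g ^ 3)⁻¹) := by
      rw [hσ, ← hy', pow_succ, pow_two]
      group
    rw [h1, ← hg3, pow_orderOf_eq_one]
    group
  have hσσ : σ * σ = 1 := by
    calc σ * σ = g * (τ * τ) * g⁻¹ := by rw [hσ]; group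
      _ = 1 := by rw [hττ]; group
  have hστ : σ * τ = τ * σ := by
    have h1 : g * σ * g⁻¹ * (g * σ * g⁻¹) = 1 := by
      calc g * σ * g⁻¹ * (g * σ * g⁻¹) = g * (σ * σ) * g⁻¹ := by group
        _ = 1 := by rw [hσσ]; group
    have h2 : τ * σ = (g * σ * g⁻¹)⁻¹ := eq_inv_of_mul_eq_one_left hprod
    have h3 : (g * σ * g⁻¹)⁻¹ = g * σ * g⁻¹ := inv_eq_of_mul_eq_one_left h1
    have h4 : (τ * σ)⁻¹ = τ * σ := by rw [h2, inv_inv, h3]
    rw [← h4, _root_.mul_inv_rev, inv_eq_of_mul_eq_one_left hττ, inv_eq_of_mul_eq_one_left hσσ]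
  have hρσ : ρ σ = um (a * a) := by
    rw [hσ, map_mul, map_mul, map_inv, hg, hρτ, dm_um, mul_one, mul_assoc, mul_inv_cancel, mul_one]
  set E := V4 τ σ hττ hσσ hστ with hE
  have hEV : E ⊓ V = ⊥ := by
    rw [eq_bot_iff]
    rintro x ⟨hx, hxV⟩
    rw [mem_bot]
    have h0 : ρ x = 1 := (hker x).2 hxV
    rcases hx with rfl | rfl | rfl | rfl
    · rfl
    · exfalso
      rw [hρτ, ← um_zero] at h0
      exact one_ne_zero (um_inj h0)
    · exfalso
      rw [hρσ, ← um_zero] at h0
      exact hc0 (um_inj h0)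
    · exfalso
      rw [map_mul, hρσ, hρτ, um_mul, ← um_zero] at h0
      apply hc1
      have h3 := um_inj h0
      have h4 : 1 + (1 + a * a) = 1 + 0 := by rw [h3]
      rw [← add_assoc, hcc 1, zero_add, add_zero] at h4
      exact h4
  have hVE : V ⊔ E = T := by
    apply le_antisymm
    · refine sup_le hVT ?_
      rintro x (rfl | rfl | rfl | rfl)
      · exact one_mem _
      · exact hτT
      · exact ⟨_, hρσ.symm⟩
      · exact T.mul_mem hτT ⟨_, hρσ.symm⟩
    · rintro x ⟨b, hb⟩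
      have key : ∀ e ∈ E, ρ e = um b → x ∈ V ⊔ E := by
        intro e he hρe
        have h1 : x * e⁻¹ ∈ V := by
          rw [← hker, map_mul, map_inv, hρe, ← hb, mul_inv_cancel]
        have h2 : x = (x * e⁻¹) * e := by group
        rw [h2]
        exact mul_mem (mem_sup_left h1) (mem_sup_right he)
      rcases hall b with h | h | h | h
      · exact key 1 (one_mem _) (by rw [map_one, h, um_zero])
      · exact key τ (Or.inr (Or.inl rfl)) (by rw [hρτ, h])
      · exact key σ (Or.inr (Or.inr (Or.inl rfl))) (by rw [hρσ, h])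
      · exact key (τ * σ) (Or.inr (Or.inr (Or.inr rfl))) (by rw [map_mul, hρτ, hρσ, um_mul, h])
  have hidx : T.index = 15 := by
    rw [hT, Subgroup.index_comap_of_surjective _ hρ]
    have h1 := (UU F).card_mul_index
    rw [card_UU, ClSL2.card_SL2 (F := F) hF, Nat.card_eq_fintype_card, hF] at h1
    omega
  have hcop : (Nat.card V).Coprime T.index := by
    rw [hidx]
    obtain ⟨k, hk⟩ := IsPGroup.iff_card.1 hV2
    rw [hk]
    exact Nat.Coprime.pow_left _ (by norm_num)
  exact Gaschutz.exists_complement V T hVT hcop E hEV hVE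

end Cfsg.Agent.Lib.FiveCrit
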