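import Cfsg.Agent.Lib.FiveCritB

set_option autoImplicit false
set_option linter.all false

/-!
# Critical groups with element orders 1,2,3,4,5 (helper6): the theorem
-/

namespace Cfsg.Agent.Lib.FiveCrit

open Matrix Cfsg.Agent.Lib.CIT Cfsg.Agent.Lib.SelfCent Subgroup
open scoped MatrixGroups

universe u v

variable {G : Type v} [Group G] [Finite G]

/-- the centralizer of a nontrivial normal 2-subgroup of a CIT group lies in `O₂` -/
theorem cent_le (hG : IsCIT G) {V : Subgroup G} (hVn : V.Normal) (hV2 : IsPGroup 2 V) (hVb : V ≠ ⊥) :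
    centralizer (V : Set G) ≤ Cfsg.pCore 2 G := by
  haveI : Fact (Nat.Prime 2) := ⟨Nat.prime_two⟩
  have hn : (centralizer (V : Set G)).Normal := by infer_instance
  apply Fitting.le_pCore 2 hn
  obtain ⟨t, ht, hto⟩ : ∃ t ∈ V, orderOf t = 2 := by
    obtain ⟨k, hk⟩ := IsPGroup.iff_card.1 hV2
    have hk0 : k ≠ 0 := by
      rintro rfl
      rw [pow_zero] at hk
      exact hVb (Subgroup.card_eq_one.1 hk)
    have hd : 2 ∣ Nat.card V := by rw [hk]; exact dvd_pow_self 2 hk0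
    obtain ⟨⟨t, ht⟩, hto⟩ := exists_prime_orderOf_dvd_card' 2 hd
    rw [Subgroup.orderOf_mk] at hto
    exact ⟨t, ht, hto⟩
  exact (hG t hto).to_le (by
    intro x hx
    rw [mem_cent]
    exact (mem_centralizer_iff.1 hx t ht).symm)

theorem crit_step (hG : IsCIT G) (hr : Set.range (orderOf : G → ℕ) = ({1, 2, 3, 4, 5} : Set ℕ))
    {Q : Subgroup G} (hQO : Q = Cfsg.pCore 2 G) (hQn : Q.Normal) (hQsq : ∀ x ∈ Q, x * x = 1)
    {τ : G} (hτ : τ ∉ Q) (hττ : τ * τ ∈ Q)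
    {U V : Subgroup G} (hUn : U.Normal) (hVn : V.Normal) (hUQ : U ≤ Q) (hVQ : V ≤ Q) (hUb : U ≠ ⊥) (hVb : V ≠ ⊥)
    (hUV : U ⊓ V = ⊥) (N : Subgroup ↥(⊤ : Subgroup G)) [N.Normal] (hN : N = V.subgroupOf ⊤) :
    Set.range (orderOf : (↥(⊤ : Subgroup G) ⧸ N) → ℕ) = ({1, 2, 3, 4, 5} : Set ℕ) := by
  haveI : Fact (Nat.Prime 2) := ⟨Nat.prime_two⟩
  have hQ2 : IsPGroup 2 Q := by rw [hQO]; exact Fitting.isPGroup_pCore 2
  have hmem : ∀ g : G, ((⟨g, mem_top g⟩ : ↥(⊤ : Subgroup G)) : ↥(⊤ : Subgroup G) ⧸ N) = 1 ↔ g ∈ V := by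
    intro g
    rw [QuotientGroup.eq_one_iff, hN, mem_subgroupOf]
  have hmk : ∀ (g : G) (n : ℕ), (((⟨g, mem_top g⟩ : ↥(⊤ : Subgroup G)) : ↥(⊤ : Subgroup G) ⧸ N)) ^ n =
      ((⟨g ^ n, mem_top _⟩ : ↥(⊤ : Subgroup G)) : ↥(⊤ : Subgroup G) ⧸ N) := by
    intro g n
    rw [← QuotientGroup.mk_pow]
    rfl
  have hex : ∀ k ∈ ({1, 2, 3, 4, 5} : Set ℕ), ∃ g : G, orderOf g = k := by
    intro k hk
    rw [← hr] at hk
    exact hk
  -- an element of order 4 in the quotient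
  have key4 : ∃ g : G, g * g ∈ Q ∧ g * g ∉ V := by
    by_cases h1 : τ * τ ∈ V
    · have h2 : ¬ ∀ v ∈ U, v * τ = τ * v := by
        intro h
        apply hτ
        rw [hQO]
        apply cent_le hG hUn (hQ2.to_le hUQ) hUb
        rw [mem_centralizer_iff]
        exact h
      push Not at h2
      obtain ⟨v, hv, hne⟩ := h2
      have hvv := hQsq v (hUQ hv)
      have h3 : τ * v * (τ * v) = τ * τ * ((τ⁻¹ * v * τ) * v) := by group
      have h4 : τ⁻¹ * v * τ ∈ U := by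
        have := hUn.conj_mem v hv τ⁻¹
        rwa [inv_inv] at this
      have h5 : (τ⁻¹ * v * τ) * v ∈ U := U.mul_mem h4 hv
      refine ⟨τ * v, ?_, ?_⟩
      · rw [h3]
        exact Q.mul_mem hττ (hUQ h5)
      · rw [h3]
        intro h6
        have h7 : (τ⁻¹ * v * τ) * v ∈ V := (V.mul_mem_cancel_left h1).1 h6
        have h8 : (τ⁻¹ * v * τ) * v ∈ (U ⊓ V : Subgroup G) := ⟨h5, h7⟩
        rw [hUV, mem_bot] at h8
        apply hne
        have h9 : τ⁻¹ * v * τ = v := by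
          rw [mul_eq_one_iff_eq_inv] at h8
          rw [h8]
          exact inv_eq_of_mul_eq_one_left hvv
        calc v * τ = τ * (τ⁻¹ * v * τ) := by group
          _ = τ * v := by rw [h9]
    · exact ⟨τ, hττ, h1⟩
  obtain ⟨g4, hg4Q, hg4V⟩ := key4
  have hy4 : orderOf (((⟨g4, mem_top g4⟩ : ↥(⊤ : Subgroup G)) : ↥(⊤ : Subgroup G) ⧸ N)) = 2 ^ (1 + 1) := by
    apply orderOf_eq_prime_pow
    · rw [hmk, hmem, pow_one, pow_two]; exact hg4V
    · rw [hmk, hmem]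
      have : g4 ^ 2 ^ (1 + 1) = (g4 * g4) * (g4 * g4) := by
        show g4 ^ 4 = _
        simp only [pow_succ, pow_zero, one_mul, mul_assoc]
      rw [this, hQsq _ hg4Q]
      exact one_mem _
  have hodd : ∀ r : ℕ, r.Prime → r ≠ 2 → r ∈ ({1, 2, 3, 4, 5} : Set ℕ) →
      r ∈ Set.range (orderOf : (↥(⊤ : Subgroup G) ⧸ N) → ℕ) := by
    intro r hrp hr2 hr5
    obtain ⟨g, hg⟩ := hex r hr5
    refine ⟨((⟨g, mem_top g⟩ : ↥(⊤ : Subgroup G)) : ↥(⊤ : Subgroup G) ⧸ N), ?_⟩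
    haveI : Fact r.Prime := ⟨hrp⟩
    apply orderOf_eq_prime
    · rw [hmk, hmem, ← hg, pow_orderOf_eq_one]; exact one_mem _
    · rw [Ne, hmem]
      intro h
      obtain ⟨k, hk⟩ := (IsPGroup.iff_orderOf.1 (hQ2.to_le hVQ)) ⟨g, h⟩
      rw [Subgroup.orderOf_mk, hg] at hk
      have h1 : r ∣ 2 ^ k := by rw [← hk]
      have h2 := hrp.dvd_of_dvd_pow h1
      exact hr2 ((Nat.prime_dvd_prime_iff_eq hrp Nat.prime_two).1 h2)
  apply Set.Subset.antisymm
  · rintro _ ⟨x, rfl⟩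
    obtain ⟨⟨g, hg⟩, rfl⟩ := QuotientGroup.mk_surjective x
    have h1 : orderOf (((⟨g, hg⟩ : ↥(⊤ : Subgroup G)) : ↥(⊤ : Subgroup G) ⧸ N)) ∣ orderOf g := by
      apply orderOf_dvd_of_pow_eq_one
      rw [hmk, hmem, pow_orderOf_eq_one]; exact one_mem _
    have h2 : orderOf g ∈ ({1, 2, 3, 4, 5} : Set ℕ) := by rw [← hr]; exact ⟨g, rfl⟩
    have h3 := Nat.le_of_dvd (orderOf_pos g) h1
    have h4 := orderOf_pos (((⟨g, hg⟩ : ↥(⊤ : Subgroup G)) : ↥(⊤ : Subgroup G) ⧸ N))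
    simp only [Set.mem_insert_iff, Set.mem_singleton_iff] at h2 ⊢
    omega
  · intro k hk
    simp only [Set.mem_insert_iff, Set.mem_singleton_iff] at hk
    rcases hk with rfl | rfl | rfl | rfl | rfl
    · exact ⟨1, orderOf_one⟩
    · refine ⟨(((⟨g4, mem_top g4⟩ : ↥(⊤ : Subgroup G)) : ↥(⊤ : Subgroup G) ⧸ N)) ^ 2, ?_⟩
      rw [orderOf_pow, hy4]; rfl
    · exact hodd 3 Nat.prime_three (by norm_num) (by simp)
    · exact ⟨_, hy4⟩
    · exact hodd 5 (by norm_num) (by norm_num) (by simp)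

theorem crit_main
    (hcrit : Set.range (orderOf : G → ℕ) = ({1, 2, 3, 4, 5} : Set ℕ) ∧
      ∀ (H : Subgroup G) (N : Subgroup ↥H) [N.Normal], (H ≠ ⊤ ∨ N ≠ ⊥) → Set.range (orderOf : (↥H ⧸ N) → ℕ) ≠ ({1, 2, 3, 4, 5} : Set ℕ)) :
    Nonempty (G ≃* alternatingGroup (Fin 6)) ∨
      ∃ (F : Type) (_ : Field F) (_ : Fintype F), Fintype.card F = 4 ∧
        Nonempty (G ≃* ↥(Subgroup.closure {M : Matrix.SpecialLinearGroup (Fin 3) F |
          (M : Matrix (Fin 3) (Fin 3) F) 2 0 = 0 ∧ (M : Matrix (Fin 3) (Fin 3) F) 2 1 = 0 ∧ (M : Matrix (Fin 3) (Fin 3) F) 2 2 = 1})) := by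
  classical
  haveI : Fact (Nat.Prime 2) := ⟨Nat.prime_two⟩
  obtain ⟨hr, hcr⟩ := hcrit
  have hr' : Set.range (orderOf : G → ℕ) = {k : ℕ | 1 ≤ k ∧ k ≤ 5} := by
    rw [hr]
    ext k
    simp only [Set.mem_insert_iff, Set.mem_singleton_iff, Set.mem_setOf_eq]
    omega
  have h5 : ∀ g : G, orderOf g ≤ 5 := by
    intro g
    have h1 : orderOf g ∈ Set.range (orderOf : G → ℕ) := ⟨g, rfl⟩
    rw [hr'] at h1
    exact h1.2
  obtain ⟨hG, h | ⟨hO, hOn, F, i1, i2, i3, hF, ⟨e⟩⟩⟩ := five_main hr'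
  · exact Or.inl h
  right
  refine ⟨F, i1, i2, hF, ?_⟩
  set Q := Cfsg.pCore 2 G with hQ
  have hQ2 : IsPGroup 2 Q := Fitting.isPGroup_pCore 2
  obtain ⟨hel, k, V, hV, hind, hsup⟩ := hG.module Q hQ2 hF.ge e
  have hQsq : ∀ x ∈ Q, x * x = 1 := by
    intro x hx
    rw [← pow_two]
    exact hel.2 x hx
  have hVb : ∀ i, V i ≠ ⊥ := by
    intro i h
    obtain ⟨-, -, ρ, ψ, -, hψ, -, -⟩ := (hV i).2.2
    obtain ⟨u, hu⟩ := hψ (Multiplicative.ofAdd (fun _ => 1))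
    have h1 : (u : G) ∈ (⊥ : Subgroup G) := h.le u.2
    rw [mem_bot] at h1
    have h2 : u = 1 := Subtype.ext h1
    rw [h2, map_one] at hu
    have h3 : (fun _ : Fin 2 => (1 : F)) = 0 := congrArg Multiplicative.toAdd hu.symm
    exact one_ne_zero (congrFun h3 0)
  -- an involution of the quotient
  obtain ⟨τ, hτ, hττ⟩ : ∃ τ : G, τ ∉ Q ∧ τ * τ ∈ Q := by
    have h1 : 2 ∣ Nat.card (G ⧸ Q) := by
      rw [Nat.card_congr (e.trans pslSl).toEquiv, ClSL2.card_SL2 (F := F) hF]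
      norm_num
    obtain ⟨x, hx⟩ := exists_prime_orderOf_dvd_card' 2 h1
    obtain ⟨τ, rfl⟩ := QuotientGroup.mk_surjective x
    refine ⟨τ, ?_, ?_⟩
    · intro h
      rw [(QuotientGroup.eq_one_iff τ).2 h, orderOf_one] at hx; omega
    · rw [← QuotientGroup.eq_one_iff, QuotientGroup.mk_mul, ← pow_two, ← hx, pow_orderOf_eq_one]
  have huniq : ∀ i j : Fin k, i = j := by
    intro i j
    by_contra hij
    haveI := (hV j).2.1
    haveI hnn : ((V j).subgroupOf ⊤).Normal := Subgroup.normal_subgroupOf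
    apply hcr ⊤ ((V j).subgroupOf ⊤) (Or.inr ?_)
    · exact crit_step hG hr hQ hOn hQsq hτ hττ (hV i).2.1 (hV j).2.1 (hV i).1 (hV j).1 (hVb i) (hVb j)
        (hind.pairwiseDisjoint hij).eq_bot _ rfl
    · intro h
      rw [subgroupOf_eq_bot, disjoint_iff, inf_top_eq] at h
      exact hVb j h
  have hk : Nonempty (Fin k) := by
    by_contra hne
    rw [not_nonempty_iff] at hne
    apply hO
    rw [← hsup]
    exact iSup_of_empty V
  obtain ⟨i⟩ := hk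
  have hVQ : V i = Q := by
    rw [← hsup]
    apply le_antisymm (le_iSup V i)
    apply iSup_le
    intro j
    rw [huniq j i]
  have hA : Cfsg.ActsAsSL2OnSection F ⊤ ⊤ Q ⊥ := by
    have h1 := (hV i).2.2
    rw [hVQ] at h1
    exact h1
  obtain ⟨-, -, ρ₀, ψ, hρ, hψ, hψ1, hact⟩ := hA
  let ρ : G →* Matrix.SpecialLinearGroup (Fin 2) F := ρ₀.comp Subgroup.topEquiv.symm.toMonoidHom
  have hρs : Function.Surjective ρ := by
    intro A
    have h1 : A ∈ ρ₀.range := by rw [hρ]; exact mem_top A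
    obtain ⟨x, hx⟩ := h1
    exact ⟨x.1, hx⟩
  have hψi : Function.Injective ψ := by
    rw [injective_iff_map_eq_one]
    intro u hu
    exact Subtype.ext ((hψ1 u).1 hu)
  have hact' : ∀ (g : G) (u : Q), ∃ w : Q, (w : G) = g * u * g⁻¹ ∧
      Multiplicative.toAdd (ψ w) = (ρ g : Matrix (Fin 2) (Fin 2) F).mulVec (Multiplicative.toAdd (ψ u)) :=
    fun g u => hact ⟨g, mem_top g⟩ u
  have hQc : ∀ x ∈ Q, ∀ y ∈ Q, x * y = y * x := by
    intro x hx y hy
    have := hel.1.is_comm.comm (⟨x, hx⟩ : Q) ⟨y, hy⟩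
    exact congrArg Subtype.val this
  have hker : ∀ g, ρ g = 1 ↔ g ∈ Q := by
    intro g
    constructor
    · intro h
      apply cent_le hG hOn hQ2 hO
      rw [mem_centralizer_iff]
      intro u hu
      obtain ⟨w, hw1, hw2⟩ := hact' g ⟨u, hu⟩
      rw [h, Matrix.SpecialLinearGroup.coe_one, Matrix.one_mulVec] at hw2
      have h1 : w = ⟨u, hu⟩ := hψi (Multiplicative.toAdd.injective hw2)
      rw [h1] at hw1
      have h2 : u = g * u * g⁻¹ := hw1
      rw [eq_mul_inv_iff_mul_eq] at h2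
      exact h2
    · intro h
      have h1 : ∀ v : Fin 2 → F, (ρ g : Matrix (Fin 2) (Fin 2) F).mulVec v = v := by
        intro v
        obtain ⟨u, hu⟩ := hψ (Multiplicative.ofAdd v)
        obtain ⟨w, hw1, hw2⟩ := hact' g u
        have h2 : w = u := by
          apply Subtype.ext
          rw [hw1, hQc g h u u.2, mul_assoc, mul_inv_cancel, mul_one]
        rw [h2, hu] at hw2
        exact hw2.symm
      apply Subtype.ext
      have h3 : (ρ g : Matrix (Fin 2) (Fin 2) F) = 1 := by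
        apply Matrix.mulVec_injective
        funext v
        rw [h1 v, Matrix.one_mulVec]
      exact h3
  have hQcomm : IsMulCommutative Q := hel.1
  obtain ⟨K, hK⟩ := split hG h5 hF Q hQ2 hQcomm ρ hρs hker ψ ⟨hψi, hψ⟩ hact'
  exact affine_iso Q ρ hρs hker ψ ⟨hψi, hψ⟩ hact' K hK

end Cfsg.Agent.Lib.FiveCrit
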