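import Cfsg.Agent.Lib.HallPi
import Cfsg.Prelude.Def_Local

set_option autoImplicit false

/-!
Basic facts on `p`-soluble groups (`Cfsg.IsPSolvable`):
* `exists_step` : a proper normal subgroup has a larger normal subgroup with `p`- or `p'`-quotient
* `isPSolvable_subgroup`
* `exists_hall`, `exists_le_hall` : Hall `p'`-subgroups exist, and every `p'`-subgroup lies in one.
-/

namespace Cfsg.Agent.Lib.PSolvTools

open Subgroup Cfsg.Agent.Lib.HallPi

variable {G : Type*} [Group G]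

theorem exists_step {p : ℕ} (h : Cfsg.IsPSolvable p G) (N : Subgroup G) [hN : N.Normal]
    (hne : N ≠ ⊤) : ∃ M : Subgroup G, M.Normal ∧ N < M ∧
      ((∃ k, N.relIndex M ∣ p ^ k) ∨ (N.relIndex M).Coprime p) := by
  obtain ⟨n, H, h0, hlast, hmono, hnorm, hstep⟩ := h
  obtain ⟨i, hi1, hi2⟩ : ∃ i : Fin n, H i.castSucc ≤ N ∧ ¬ H i.succ ≤ N := by
    by_contra hcon
    push Not at hcon
    have hall : ∀ i : Fin (n + 1), H i ≤ N := by
      intro i
      induction i using Fin.induction with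
      | zero => rw [h0]; exact bot_le
      | succ i ih => exact hcon i ih
    apply hne
    rw [eq_top_iff, ← hlast]
    exact hall _
  have := hnorm i.succ
  refine ⟨N ⊔ H i.succ, inferInstance, lt_of_le_of_ne le_sup_left ?_, ?_⟩
  · intro he
    apply hi2
    rw [he]; exact le_sup_right
  · have h1 : N.relIndex (N ⊔ H i.succ) ∣ (H i.castSucc).relIndex (H i.succ) := by
      rw [Subgroup.relIndex_sup_left]
      exact Subgroup.relIndex_dvd_of_le_left _ hi1
    rcases hstep i with ⟨m, hm⟩ | hc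
    · left
      exact ⟨m, hm ▸ h1⟩
    · right
      exact Nat.Coprime.coprime_dvd_left h1 hc

theorem isPSolvable_subgroup {p : ℕ} (hp : p.Prime) (h : Cfsg.IsPSolvable p G) (S : Subgroup G) :
    Cfsg.IsPSolvable p S := by
  obtain ⟨n, H, h0, hlast, hmono, hnorm, hstep⟩ := h
  refine ⟨n, fun i => (H i).subgroupOf S, ?_, ?_, ?_, ?_, ?_⟩
  · show (H 0).subgroupOf S = ⊥
    rw [h0, Subgroup.bot_subgroupOf]
  · show (H (Fin.last n)).subgroupOf S = ⊤
    rw [hlast, Subgroup.top_subgroupOf]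
  · intro i j hij
    exact Subgroup.comap_mono (hmono hij)
  · intro i
    have := hnorm i
    exact (inferInstance : ((H i).subgroupOf S).Normal)
  · intro i
    have hn := hnorm i.castSucc
    have h1 : ((H i.castSucc).subgroupOf S).relIndex ((H i.succ).subgroupOf S) ∣
        (H i.castSucc).relIndex (H i.succ) := by
      have h2 : (H i.succ).subgroupOf S = (H i.succ ⊓ S).subgroupOf S := by
        rw [Subgroup.inf_subgroupOf_right]
      rw [h2, Subgroup.relIndex_subgroupOf inf_le_right]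
      have h3 : (H i.castSucc).relIndex (H i.succ ⊓ S) =
          ((H i.castSucc).subgroupOf (H i.succ)).relIndex ((H i.succ ⊓ S).subgroupOf (H i.succ)) := by
        rw [Subgroup.relIndex_subgroupOf inf_le_left]
      rw [h3]
      exact Subgroup.relIndex_dvd_index_of_normal _ _
    rcases hstep i with ⟨m, hm⟩ | hc
    · left
      rw [hm] at h1
      obtain ⟨k, -, hk⟩ := (Nat.dvd_prime_pow hp).1 h1
      exact ⟨k, hk⟩
    · right
      exact Nat.Coprime.coprime_dvd_left h1 hc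

theorem piNum_compl_iff {p n : ℕ} (hp : p.Prime) : PiNum ({p} : Set ℕ)ᶜ n ↔ ¬ p ∣ n := by
  constructor
  · intro h hd
    exact h p hp hd (Set.mem_singleton p)
  · intro h q hq hqn hqp
    rw [Set.mem_singleton_iff] at hqp
    subst hqp
    exact h hqn

theorem piNum_compl_compl {p n k : ℕ} (hp : p.Prime) (h : n ∣ p ^ k) : PiNum (({p} : Set ℕ)ᶜ)ᶜ n := by
  rw [compl_compl]
  exact (piNum_prime_pow hp (Set.mem_singleton p)).of_dvd h

theorem exists_eq_pow {p n : ℕ} (hp : p.Prime) (hn : n ≠ 0) (h : PiNum (({p} : Set ℕ)ᶜ)ᶜ n) : ∃ k, n = p ^ k := by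
  rw [compl_compl] at h
  refine ⟨_, (Nat.eq_prime_pow_of_unique_prime_dvd hn ?_)⟩
  intro q hq hqn
  exact h q hq hqn

theorem isSolvable_of_relIndex [Finite G] {p k : ℕ} (hp : p.Prime) (N M : Subgroup G) [N.Normal]
    (h : N.relIndex M ∣ p ^ k) : Group.IsSolvable (M.map (QuotientGroup.mk' N)) := by
  have := Fact.mk hp
  have h1 : Nat.card (M.map (QuotientGroup.mk' N)) = N.relIndex M := by
    have h2 := Subgroup.relIndex_ker (K := M) (QuotientGroup.mk' N)
    rw [QuotientGroup.ker_mk'] at h2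
    exact h2.symm
  obtain ⟨j, -, hj⟩ := (Nat.dvd_prime_pow hp).1 h
  have h3 : IsPGroup p (M.map (QuotientGroup.mk' N)) := IsPGroup.of_card (n := j) (by rw [h1, hj])
  have h4 := h3.isNilpotent
  infer_instance

theorem sep {p : ℕ} [Finite G] (hp : p.Prime) (h : Cfsg.IsPSolvable p G) (K : Subgroup G) :
    ∀ (N : Subgroup G) [N.Normal], N ≠ ⊤ → ∃ M : Subgroup G, M.Normal ∧ N < M ∧
      (PiNum ({p} : Set ℕ)ᶜ (N.relIndex M) ∨ (PiNum (({p} : Set ℕ)ᶜ)ᶜ (N.relIndex M) ∧ (Group.IsSolvable K ∨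
        Group.IsSolvable (M.map (QuotientGroup.mk' N))))) := by
  intro N hN hne
  obtain ⟨M, hM, hNM, h1⟩ := exists_step h N hne
  refine ⟨M, hM, hNM, ?_⟩
  rcases h1 with ⟨k, hk⟩ | hc
  · right
    exact ⟨piNum_compl_compl hp hk, Or.inr (isSolvable_of_relIndex hp N M hk)⟩
  · left
    rw [piNum_compl_iff hp]
    intro hd
    exact hp.one_lt.ne' (Nat.dvd_one.1 (hc ▸ Nat.dvd_gcd hd dvd_rfl))

/-- Hall `p'`-subgroups of `p`-soluble groups -/
theorem exists_hall {p : ℕ} [Finite G] (hp : p.Prime) (h : Cfsg.IsPSolvable p G) :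
    ∃ Q : Subgroup G, ¬ p ∣ Nat.card Q ∧ ∃ k, Q.index = p ^ k := by
  obtain ⟨Q, hQ⟩ := exists_isPiHall_of_sep (π := ({p} : Set ℕ)ᶜ) (G := G) (by
    intro N hN hne
    obtain ⟨M, hM, hNM, h1⟩ := sep hp h ⊥ N hne
    exact ⟨M, hM, hNM, h1.imp id (fun h => h.1)⟩)
  rw [isPiHall_iff] at hQ
  exact ⟨Q, (piNum_compl_iff hp).1 hQ.1, exists_eq_pow hp Subgroup.index_ne_zero_of_finite hQ.2⟩

/-- every `p'`-subgroup of a `p`-soluble group lies in a Hall `p'`-subgroup -/
theorem exists_le_hall {p : ℕ} [Finite G] (hp : p.Prime) (h : Cfsg.IsPSolvable p G) (K : Subgroup G)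
    (hK : ¬ p ∣ Nat.card K) :
    ∃ Q : Subgroup G, K ≤ Q ∧ ¬ p ∣ Nat.card Q ∧ ∃ k, Q.index = p ^ k := by
  obtain ⟨Q, hQ1, k, hk⟩ := exists_hall hp h
  have hQ : Cfsg.IsPiHall ({p} : Set ℕ)ᶜ Q := by
    rw [isPiHall_iff]
    exact ⟨(piNum_compl_iff hp).2 hQ1, piNum_compl_compl hp (dvd_of_eq hk)⟩
  obtain ⟨g, hg⟩ := exists_conj_le_of_sep Q K hQ ((piNum_compl_iff hp).2 hK) (sep hp h K)
  have h1 := isPiHall_conj_smul g hQ
  rw [isPiHall_iff] at h1
  exact ⟨_, hg, (piNum_compl_iff hp).1 h1.1, exists_eq_pow hp Subgroup.index_ne_zero_of_finite h1.2⟩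

end Cfsg.Agent.Lib.PSolvTools
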