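import Cfsg.Agent.Lib.PStabInvolve
import Cfsg.Agent.Lib.PSolvTools
import Cfsg.Agent.Lib.PConstraint

/-! `p`-solvable groups, `p ≥ 5`, do not involve `SL(2,p)`. -/

set_option autoImplicit false

namespace Cfsg.Agent.Lib.PSolvStable

open Subgroup Cfsg.Agent.Lib.PStabInvolve Cfsg.Agent.Lib.ClSL2 Cfsg.Agent.Lib.ClSL2Syl

universe u v

theorem not_isPSolvable_PSL2 {p : ℕ} [hp : Fact p.Prime] (h5 : 5 ≤ p) :
    ¬ Cfsg.IsPSolvable p (Matrix.ProjectiveSpecialLinearGroup (Fin 2) (ZMod p)) := by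
  intro h
  have hodd : Odd p := hp.out.odd_of_ne_two (by omega)
  have : IsSimpleGroup (Matrix.ProjectiveSpecialLinearGroup (Fin 2) (ZMod p)) :=
    Matrix.ProjectiveSpecialLinearGroup.rank_two_simple (by rw [Nat.card_zmod]; omega)
  obtain ⟨M, hM, hlt, hcase⟩ := PSolvTools.exists_step h ⊥ bot_ne_top
  have hMt : M = ⊤ := hM.eq_bot_or_eq_top.resolve_left hlt.ne'
  rw [hMt, relIndex_bot_left, Subgroup.card_top] at hcase
  have hcard := card_PSL2 (F := ZMod p) (by rw [ZMod.card]; exact hodd)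
  rw [ZMod.card] at hcard
  set N := Nat.card (Matrix.ProjectiveSpecialLinearGroup (Fin 2) (ZMod p)) with hN
  rcases hcase with ⟨k, hk⟩ | hc
  · have h1 : (p ^ 2 - 1) ∣ 2 * p ^ k := by
      refine Dvd.dvd.trans ?_ (Nat.mul_dvd_mul_left 2 hk)
      rw [hcard]
      exact Dvd.intro_left p rfl
    have h2 : Nat.Coprime (p ^ 2 - 1) p := by
      have h3 : 1 ≤ p ^ 2 := Nat.one_le_pow _ _ hp.out.pos
      rw [Nat.coprime_comm]
      apply (Nat.Prime.coprime_iff_not_dvd hp.out).2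
      intro h4
      have h5 : p ∣ p ^ 2 := dvd_pow_self p two_ne_zero
      have h6 : p ∣ 1 := by
        have := (Nat.dvd_sub h5 h4)
        rwa [Nat.sub_sub_self h3] at this
      exact hp.out.one_lt.ne' (Nat.dvd_one.1 h6)
    have h3 : (p ^ 2 - 1) ∣ 2 := (h2.pow_right k).dvd_of_dvd_mul_right h1
    have h4 := Nat.le_of_dvd (by norm_num) h3
    have h6 : 5 ^ 2 ≤ p ^ 2 := Nat.pow_le_pow_left h5 2
    omega
  · have h1 : p ∣ 2 * N := by rw [hcard]; exact Dvd.intro _ rfl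
    have h2 : p ∣ 2 := hc.symm.dvd_of_dvd_mul_right h1
    have := Nat.le_of_dvd (by norm_num) h2
    omega

theorem not_involves_of_isPSolvable {G : Type*} [Group G] [Finite G] {p : ℕ} [hp : Fact p.Prime] (h5 : 5 ≤ p)
    (h : Cfsg.IsPSolvable p G) : ¬ Cfsg.Involves (Matrix.SpecialLinearGroup (Fin 2) (ZMod p)) G := by
  intro hI
  obtain ⟨K, β, hβ⟩ := exists_of_involves hI
  have h1 := PSolvTools.isPSolvable_subgroup hp.out h K
  exact not_isPSolvable_PSL2 h5 (PConstraint.isPSolvable_of_surjective (f := (QuotientGroup.mk' _).comp β) hp.out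
    ((QuotientGroup.mk'_surjective _).comp hβ) h1)

end Cfsg.Agent.Lib.PSolvStable
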