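import Cfsg.Agent.Lib.WNormal
import Cfsg.Agent.Lib.PSolvStable
import Cfsg.Agent.Lib.PSolvTools
import Cfsg.Agent.Lib.PStableQuot

/-! `G = O_{p'}(G) N_G(W(S))` for `p`-solvable groups, `p ≥ 5` (S0627), and the general form. -/

set_option autoImplicit false
set_option linter.unusedSectionVars false

namespace Cfsg.Agent.Lib.WSup

open Subgroup Cfsg.Agent.Lib.ThompsonJ Cfsg.Agent.Lib.RelSylow Cfsg.Agent.Lib.PStab
  Cfsg.Agent.Lib.StableClosure Cfsg.Agent.Lib.FactorizeQuot Cfsg.Agent.Lib.WNormal Cfsg.Agent.Lib.PStabInvolve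

universe u

variable {G : Type u} [Group G] [Finite G] {p : ℕ} [hp : Fact p.Prime]

theorem Ws_map {K : Type u} [Group K] (f : G →* K) (S : Subgroup G) (h : ∀ x ∈ S, f x = 1 → x = 1) :
    (Ws p S).map f = Ws p (S.map f) := by
  have hinj : Function.Injective (f.subgroupMap S) := by
    rw [← MonoidHom.ker_eq_bot_iff, eq_bot_iff]
    intro x hx
    rw [mem_bot]
    apply Subtype.ext
    apply h x x.2
    exact congrArg Subtype.val hx
  let η : S ≃* S.map f := MulEquiv.ofBijective (f.subgroupMap S) ⟨hinj, f.subgroupMap_surjective S⟩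
  unfold Ws
  rw [← snc_map η, Subgroup.map_map, Subgroup.map_map]
  rfl

/-- a `p`-subgroup meets a normal `p'`-subgroup trivially. -/
theorem eq_one_of_mem_pPrimeCore {S : Subgroup G} (hS : IsPGroup p S) {x : G} (hx : x ∈ S)
    (h2 : x ∈ Cfsg.pPrimeCore p G) : x = 1 := by
  have hNd : ¬ p ∣ Nat.card (Cfsg.pPrimeCore p G) := PConstraint.not_dvd_card_pPrimeCore
  have h3 : S ⊓ Cfsg.pPrimeCore p G = ⊥ := by
    have h1 : IsPGroup p (S ⊓ Cfsg.pPrimeCore p G : Subgroup G) := hS.to_le inf_le_left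
    obtain ⟨m, hm⟩ := IsPGroup.iff_card.1 h1
    rw [← card_eq_one, hm]
    rcases Nat.eq_zero_or_pos m with h | h
    · rw [h, pow_zero]
    · exfalso
      apply hNd
      exact ((dvd_pow_self p h.ne').trans (by rw [← hm])).trans
        (card_dvd_of_le (inf_le_right : S ⊓ Cfsg.pPrimeCore p G ≤ Cfsg.pPrimeCore p G))
  have h4 : x ∈ S ⊓ Cfsg.pPrimeCore p G := ⟨hx, h2⟩
  rw [h3] at h4
  exact mem_bot.1 h4

/-- lifting: if `W(S̄)` is normal in `G / O_{p'}(G)` then `G = O_{p'}(G) N_G(W(S))`. -/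
theorem sup_of_quotient {S W : Subgroup G} (hS : IsPGroup p S) (hWS : W ≤ S)
    (h1 : (W.map (QuotientGroup.mk' (Cfsg.pPrimeCore p G))).Normal) :
    Cfsg.pPrimeCore p G ⊔ normalizer (W : Set G) = ⊤ := by
  have h2 := PConstraint.map_normalizer_eq (N := Cfsg.pPrimeCore p G) PConstraint.not_dvd_card_pPrimeCore
    (hS.to_le hWS)
  rw [normalizer_eq_top_iff.2 h1] at h2
  have h3 := congrArg (fun X => Subgroup.comap (QuotientGroup.mk' (Cfsg.pPrimeCore p G)) X) h2
  simp only [comap_map_eq, QuotientGroup.ker_mk', comap_top] at h3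
  rw [sup_comm]; exact h3

/-- `p`-solvable groups are `p`-constrained. -/
theorem isPConstrained_of_isPSolvable (h : Cfsg.IsPSolvable p G) : Cfsg.IsPConstrained p G := by
  obtain ⟨P, hP⟩ := exists_syl (G := G) p (Cfsg.pPrimePCore p G)
  exact PConstraint.isPConstrained_of_centralizer_isPSolvable hP (PSolvTools.isPSolvable_subgroup hp.out h _)

theorem W_sup (hc : Cfsg.IsPConstrained p G)
    (hst : Cfsg.IsActionPStable p (G ⧸ Cfsg.pPrimeCore p G)) (S : Sylow p G) :
    Cfsg.pPrimeCore p G ⊔ normalizer (Ws p (S : Subgroup G) : Set G) = ⊤ := by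
  have hS := isSyl_top_iff S
  have hS' : IsSyl p ((S : Subgroup G).map (QuotientGroup.mk' (Cfsg.pPrimeCore p G))) ⊤ := by
    have := hS.map (QuotientGroup.mk' (Cfsg.pPrimeCore p G))
    rwa [map_top_of_surjective _ (QuotientGroup.mk'_surjective _)] at this
  obtain ⟨Q, hQ⟩ := hS'.toSylow
  apply sup_of_quotient hS.2.1 (Ws_le _)
  rw [Ws_map _ _ (fun x hx h => eq_one_of_mem_pPrimeCore hS.2.1 hx ((QuotientGroup.eq_one_iff x).1 h)), ← hQ]
  exact WNormal.main hst ((PConstraint.isPConstrained_iff p G).1 hc) Q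

theorem s0627 (h5 : 5 ≤ p) (hsep : Cfsg.IsPSolvable p G) (S : Sylow p G) :
    Cfsg.pPrimeCore p G ⊔ normalizer (Ws p (S : Subgroup G) : Set G) = ⊤ := by
  have hp2 : p ≠ 2 := by omega
  apply W_sup (isPConstrained_of_isPSolvable hsep)
  apply isActionPStable hp2 obst_sl2
  apply PSolvStable.not_involves_of_isPSolvable h5
  exact PConstraint.isPSolvable_of_surjective hp.out (QuotientGroup.mk'_surjective _) hsep

end Cfsg.Agent.Lib.WSup
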