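import Cfsg.Agent.Lib.CoreTop
import Cfsg.Agent.Lib.BlockKnorr3
import Cfsg.Agent.Lib.WSup
import Cfsg.Agent.Lib.DefPairs
import Cfsg.Agent.Lib.CharApps

/-!
# Fong: blocks over an invariant character of `O_{p'}(G)` of a `p`-constrained group (helper75)
-/

set_option autoImplicit false
set_option linter.all false

namespace Cfsg.Agent.Lib.FongInv

open scoped Pointwise

open Cfsg Cfsg.Agent.Lib.BlockRing Cfsg.Agent.Lib.BlockGA Cfsg.Agent.Lib.BlockIdem
  Cfsg.Agent.Lib.BlockCover Cfsg.Agent.Lib.BlockAlg Cfsg.Agent.Lib.BrauerPairs Cfsg.Agent.Lib.BlockKnorr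
  Cfsg.Agent.Lib.Clifford
open Cfsg.Agent.Lib.BlkIdem (IsBlk)
open Cfsg.Agent.Lib.BlockSecond (incH coeff_incH_coe coeff_incH_of_not_mem lin_incH locA_incH)

universe u

variable {p : ℕ} [hp : Fact p.Prime] {M : Ideal AlgInt} {G : Type u} [Group G] [Finite G]

theorem stable_singleton {N : Subgroup G} [hN : N.Normal] [Fintype N] (θ : IrrCharacter N)
    (hinv : ∀ (g : G) (n : N), (θ : N → ℂ) ⟨g * n * g⁻¹, hN.conj_mem n n.2 g⟩ = (θ : N → ℂ) n) :
    Stable (G := G) ({θ} : Set (IrrCharacter N)) := by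
  intro g θ' hθ' ψ hψ
  rw [Set.mem_singleton_iff] at hθ' ⊢
  subst hθ'
  apply Subtype.ext
  rw [hψ]
  funext n
  exact hinv g n

theorem cj_bid {N : Subgroup G} [hN : N.Normal] [M.IsMaximal] {θ : IrrCharacter N}
    (hb : IsPBlock M ({θ} : Set (IrrCharacter N)))
    (hinv : ∀ (g : G) (n : N), (θ : N → ℂ) ⟨g * n * g⁻¹, hN.conj_mem n n.2 g⟩ = (θ : N → ℂ) n) (x : G) :
    BrauerMap.cj x (bid M N ({θ} : Set (IrrCharacter N))) = bid M N {θ} := by
  have hx : x ∈ Subgroup.normalizer (N : Set G) := by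
    rw [Subgroup.normalizer_eq_top]; trivial
  rw [← stabilizesBlock_iff hx hb]
  refine ⟨hx, ?_⟩
  intro χ hχ
  rw [Set.mem_singleton_iff] at hχ
  subst hχ
  refine ⟨χ, rfl, ?_⟩
  intro k k' hk
  have h1 := hinv x k
  have h2 : k' = ⟨x * (k : G) * x⁻¹, hN.conj_mem k k.2 x⟩ := Subtype.ext hk
  rw [h2]
  exact h1

/-- membership in a block whose idempotent is the one of the stable set `b` of `N` -/
theorem mem_iff_of_bidG_eq {N : Subgroup G} [hN : N.Normal] [Fintype N] (hM : IsPModular p M) [M.IsMaximal]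
    {b : Set (IrrCharacter N)} (hb : IsPBlock M b) (hst : Stable (G := G) b)
    {B : Set (IrrCharacter G)} (hB : IsPBlock M B) (h : bidG M B = bid M N b) {χ : IrrCharacter G}
    {θ : IrrCharacter N} (hθ : classInner (fun n : N => (χ : G → ℂ) n) (θ : N → ℂ) ≠ 0) :
    χ ∈ B ↔ θ ∈ b := by
  haveI := isPrime hM
  have h1 : redA M (eB B : GA G) = redA M (incH N (eB b)) := by
    rw [← inc_redA]; exact h
  have hl : LocA M (incH N (eB b)) := locA_incH (locA_eB hb)
  have hl' : LocA M (eB B : GA G) := locA_eB hB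
  have h2 : redA M (eB B - incH N (eB b) : GA G) = 0 := by
    rw [redA_sub hl' hl, h1, sub_self]
  have h3 := (redA_eq_zero_iff (locA_sub hl' hl)).1 h2
  have hc : (eB B - incH N (eB b) : GA G) ∈ Subalgebra.center ℂ (GA G) :=
    Subalgebra.sub_mem _ (eB_mem_center B) (incH_eB_mem_center hst)
  have h4 := idl_omega χ.2 hc h3
  rw [omega_sub] at h4
  by_cases h5 : θ ∈ b
  · rw [omega_incH_eB_mem hθ hst h5] at h4
    refine ⟨fun _ => h5, fun _ => ?_⟩
    by_contra h6
    rw [omega_eB_not_mem h6, zero_sub] at h4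
    exact one_not_idl (by simpa using idl_neg h4)
  · rw [omega_incH_eB_not_mem hθ hst h5, sub_zero] at h4
    refine ⟨fun h6 => ?_, fun h6 => absurd h6 h5⟩
    rw [omega_eB_mem h6] at h4
    exact absurd h4 one_not_idl

/-- Fong: the characters over a `G`-invariant character of `O_{p'}(G)` form one block of maximal defect. -/
theorem main (hM : IsPModular p M) (hG : IsPConstrained p G) {N : Subgroup G} [hN : N.Normal] [Fintype N]
    (hNdef : N = pPrimeCore p G) (θ : IrrCharacter N)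
    (hinv : ∀ (g : G) (n : N), (θ : N → ℂ) ⟨g * n * g⁻¹, hN.conj_mem n n.2 g⟩ = (θ : N → ℂ) n) :
    ∃ B : Set (IrrCharacter G), IsPBlock M B ∧
      (∀ χ : IrrCharacter G, χ ∈ B ↔ classInner (fun n : N => (χ : G → ℂ) n) (θ : N → ℂ) ≠ 0) ∧
      (∀ P : Sylow p G, IsDefectGroup p M B (P : Subgroup G)) ∧
      ∀ D : Subgroup G, IsDefectGroup p M B D → ∃ P : Sylow p G, D = (P : Subgroup G) := by
  haveI := isPrime hM
  haveI := isMax hM
  haveI := charP_Kf hM
  subst hNdef
  have hcard : ¬ p ∣ Nat.card (pPrimeCore p G) := PConstraint.not_dvd_card_pPrimeCore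
  have hb : IsPBlock M ({θ} : Set (IrrCharacter (pPrimeCore p G))) := CoreTop.isPBlock_singleton hM hcard θ
  have hst := stable_singleton θ hinv
  obtain ⟨B, hB, hBe⟩ := exists_bidG (CoreTop.isBlk_top_of_constrained hM hG (isBlk_bid hb) (cj_bid hb hinv))
  refine ⟨B, hB, ?_, ?_⟩
  · intro χ
    constructor
    · intro hχ
      obtain ⟨θ', hθ'⟩ := exists_constituent_res (pPrimeCore p G) χ
      have h1 := (mem_iff_of_bidG_eq hM hb hst hB hBe hθ').1 hχ
      rw [Set.mem_singleton_iff] at h1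
      rw [← h1]; exact hθ'
    · intro h
      exact (mem_iff_of_bidG_eq hM hb hst hB hBe h).2 rfl
  · have hne : ∀ P : Subgroup G, BrauerMap.br P (bidG M B) ≠ 0 := by
      intro P h0
      have h1 : (BrauerMap.br P (bidG M B)).coeff 1 = 0 := by rw [h0]; rfl
      rw [BrauerMap.br_coeff_mem (Subgroup.one_mem _), hBe] at h1
      have h2 := bid_coeff_coe (M := M) (pPrimeCore p G) ({θ} : Set (IrrCharacter (pPrimeCore p G))) 1
      rw [Subgroup.coe_one, h1] at h2
      have h3 : MemLocalIdeal M (blockCoeff ({θ} : Set (IrrCharacter (pPrimeCore p G))) 1) :=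
        (red_eq_zero_iff (locA_eB hb 1)).1 h2.symm
      rw [blockCoeff, finsum_mem_singleton] at h3
      obtain ⟨n, hn, hn1⟩ := θ.2.exists_degree
      have h4 : MemLocalIdeal M ((n * n : ℕ) : ℂ) := by
        have h5 := idl_mul_left (loc_natCast (M := M) (Nat.card (pPrimeCore p G))) h3
        have h6 : (Nat.card (pPrimeCore p G) : ℂ) ≠ 0 := by exact_mod_cast Nat.card_pos.ne'
        rw [← mul_assoc, mul_inv_cancel₀ h6, one_mul, hn1, Complex.conj_natCast] at h5
        exact_mod_cast h5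
      rw [idl_natCast_iff hM, hp.out.dvd_mul, or_self] at h4
      exact hcard (h4.trans (CharApps.irr_degree_dvd_card θ.2 hn1))
    have key : ∀ (P : Sylow p G) (D : Subgroup G), IsDefectGroup p M B D →
        ∃ x : G, (P : Subgroup G) = D.map (MulAut.conj x).toMonoidHom := by
      intro P D hD
      have hDG := (BrauerPairs.isDefectGroup_iff hB).1 hD
      obtain ⟨x, -, hx⟩ := hDG.le_conj P.isPGroup' le_top (hne P)
      exact ⟨x, (P.3 (hDG.pg.map _) hx).symm⟩
    obtain ⟨D0, hD0⟩ := BlockDefect.exists_defectGroup hM hB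
    refine ⟨?_, ?_⟩
    · intro P
      obtain ⟨x, hx⟩ := key P D0 hD0
      rw [hx]
      rw [BrauerPairs.isDefectGroup_iff hB] at hD0 ⊢
      exact DefPairs.dg_conj_self hD0 (Subgroup.mem_top x) ((bidG_mem B).2 x (Subgroup.mem_top x))
    · intro D hD
      obtain ⟨x, hx⟩ := key default D hD
      refine ⟨x⁻¹ • (default : Sylow p G), ?_⟩
      rw [Sylow.coe_subgroup_smul, hx]
      have h1 : Subgroup.map (MulAut.conj x).toMonoidHom D = MulAut.conj x • D := rfl
      rw [h1, smul_smul, ← map_mul, inv_mul_cancel, map_one, one_smul]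

end Cfsg.Agent.Lib.FongInv
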