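import Cfsg.Agent.Lib.CliffordCorr
import Cfsg.Agent.Lib.CanonExt
import Cfsg.Agent.Lib.IndStages
import Cfsg.Agent.Lib.PF9Inf

/-!
# Lifting Brauer characters of `p`-solvable groups (Fong-Swan), in terms of ordinary characters (helper74)

`FS p N θ`: there are irreducible characters `χ i` of `G` over `θ` and characters `α i` of `p'`-subgroups
`K i ≥ N` (over the orbit of `θ`) which are dual to each other, and such that on the `p`-regular elements
every irreducible character over `θ` is a linear combination of the `χ i`.  This file: the structure and the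
reductions to the inertia group and to a larger normal subgroup.
-/

set_option autoImplicit false
set_option linter.all false

namespace Cfsg.Agent.Lib.FongSwan

open scoped ComplexConjugate
open Cfsg Cfsg.Agent.Lib.CharBasic Cfsg.Agent.Lib.Clifford Cfsg.Agent.Lib.CliffordCorr
open Cfsg.Agent.Lib.CanonExt Cfsg.Agent.Lib.IndStages

universe u

attribute [local instance 5000] Fintype.ofFinite

variable {G : Type u} [Group G] [Finite G]

structure FS (p : ℕ) (N : Subgroup G) [N.Normal] (θ : N → ℂ) where
  I : Type u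
  fin : Finite I
  χ : I → G → ℂ
  K : I → Subgroup G
  α : ∀ i, K i → ℂ
  irr : ∀ i, IsIrrCharacter G (χ i)
  ov : ∀ i, classInner (fun n : N => χ i n) θ ≠ 0
  NK : ∀ i, N ≤ K i
  Kp : ∀ i, ¬ p ∣ Nat.card (K i)
  αc : ∀ i, IsCharacter (K i) (α i)
  αN : ∀ i (ϑ : N → ℂ), IsIrrCharacter N ϑ → classInner (resTo N (K i) (NK i) (α i)) ϑ ≠ 0 →
    ∃ g : G, ϑ = cj N g θ
  dual_self : ∀ i, classInner (fun k : K i => χ i k) (α i) = 1
  dual_ne : ∀ i j, i ≠ j → classInner (fun k : K i => χ j k) (α i) = 0
  span : ∀ ψ, IsIrrCharacter G ψ → classInner (fun n : N => ψ n) θ ≠ 0 →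
    ∃ c : I → ℂ, ∀ x : G, ¬ p ∣ orderOf x → ψ x = ∑ i, c i * χ i x

attribute [instance] FS.fin

/-- passing to a smaller group: constituents of constituents -/
theorem over_trans {M : Subgroup G} {a ν : G → ℂ} (ha : IsCharacter G a) (hν : IsIrrCharacter G ν)
    (h1 : classInner a ν ≠ 0) {μ : M → ℂ} (hμ : IsIrrCharacter M μ)
    (h2 : classInner (fun m : M => ν m) μ ≠ 0) : classInner (fun m : M => a m) μ ≠ 0 := by
  obtain ⟨b, hb, hb'⟩ := Clifford.degree_le_of_constituent ha hν h1
  obtain ⟨k, hk⟩ := (hν.isCharacter.restrict M).classInner_nat hμ.isCharacter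
  obtain ⟨l, hl⟩ := (hb.restrict M).classInner_nat hμ.isCharacter
  have h3 : (fun m : M => a m) = (fun m : M => ν m) + fun m : M => b m := by
    funext m
    rw [hb']
    rfl
  rw [h3, classInner_add_left, hk, hl]
  rw [hk] at h2
  have h4 : k ≠ 0 := by
    rintro rfl
    exact h2 (by simp)
  exact_mod_cast (by omega : k + l ≠ 0)

theorem classInner_res_ne_zero_comm' {a b : G → ℂ} (h : classInner a b ≠ 0) :
    classInner b a ≠ 0 := by
  rw [← conj_classInner]
  exact (map_ne_zero _).mpr h

/-- an intermediate constituent -/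
theorem exists_mid {M : Subgroup G} {a : G → ℂ} (ha : IsCharacter G a) {Z : Subgroup M} {ζ : Z → ℂ}
    (h : classInner (fun z : Z => a ((z : M) : G)) ζ ≠ 0) :
    ∃ μ : IrrCharacter M, classInner (fun m : M => a m) (μ : M → ℂ) ≠ 0 ∧
      classInner (fun z : Z => (μ : M → ℂ) z) ζ ≠ 0 := by
  by_contra hno
  push Not at hno
  apply h
  have h3 : (fun z : Z => a ((z : M) : G)) = ∑ ψ : IrrCharacter M,
      classInner (fun t : M => a t) (ψ : M → ℂ) • fun z : Z => (ψ : M → ℂ) z := by
    funext n
    have h4 := congrFun (ha.restrict M).isClassFunction.expansion (n : M)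
    simp only [Finset.sum_apply, Pi.smul_apply] at h4 ⊢
    exact h4
  rw [h3, classInner_sum_left]
  apply Finset.sum_eq_zero
  intro ψ _
  rw [classInner_smul_left]
  by_cases h5 : classInner (fun t : M => a t) (ψ : M → ℂ) = 0
  · rw [h5, zero_mul]
  · rw [hno ψ h5, mul_zero]

theorem isCharacter_ne_zero_of_irr {ν : G → ℂ} (hν : IsIrrCharacter G ν) (M : Subgroup G) :
    (fun m : M => ν m) ≠ 0 := by
  intro h
  have := congrFun h 1
  exact hν.one_ne_zero this

/-- a common constituent on the normal subgroup -/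
theorem exists_common_below {M K : Subgroup G} [M.Normal] (hMK : M ≤ K) {ψ : G → ℂ} (hψ : IsCharacter G ψ)
    {a : K → ℂ} (ha : IsCharacter K a) (h : classInner (fun k : K => ψ k) a ≠ 0) :
    ∃ μ : IrrCharacter M, classInner (fun m : M => ψ m) (μ : M → ℂ) ≠ 0 ∧
      classInner (resTo M K hMK a) (μ : M → ℂ) ≠ 0 := by
  obtain ⟨ν, hν1, hν2⟩ := Clifford.exists_common_constituent (hψ.restrict K) h
  -- constituent of `ν` on `M`
  have h1 : IsCharacter M (resTo M K hMK (ν : K → ℂ)) := isCharacter_resTo hMK ν.2.isCharacter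
  have h2 : resTo M K hMK (ν : K → ℂ) ≠ 0 := by
    intro h0
    have := congrFun h0 1
    exact ν.2.one_ne_zero this
  obtain ⟨μ, hμ⟩ := Clifford.exists_constituent h1 h2
  refine ⟨μ, ?_, ?_⟩
  all_goals
    have key : ∀ (b : K → ℂ), IsCharacter K b → classInner b (ν : K → ℂ) ≠ 0 →
        classInner (resTo M K hMK b) (μ : M → ℂ) ≠ 0 := by
      intro b hb hbν
      obtain ⟨c, hc, hc'⟩ := Clifford.degree_le_of_constituent hb ν.2 hbν
      obtain ⟨k, hk⟩ := h1.classInner_nat μ.2.isCharacter
      obtain ⟨l, hl⟩ := (isCharacter_resTo hMK hc).classInner_nat μ.2.isCharacter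
      have h3 : resTo M K hMK b = resTo M K hMK (ν : K → ℂ) + resTo M K hMK c := by
        rw [hc']; rfl
      rw [h3, classInner_add_left, hk, hl]
      have h4 : k ≠ 0 := by
        rintro rfl
        exact hμ (by rw [hk]; simp)
      exact_mod_cast (by omega : k + l ≠ 0)
  · exact key _ (hψ.restrict K) hν1
  · exact key _ ha hν2

section base

/-- the case `N = ⊤` -/
theorem base {p : ℕ} {N : Subgroup G} [N.Normal] (hN : N = ⊤) (hp : ¬ p ∣ Nat.card N) {θ : N → ℂ}
    (hθ : IsIrrCharacter N θ) : Nonempty (FS p N θ) := by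
  have hmem : ∀ g : G, g ∈ N := fun g => by rw [hN]; trivial
  let e : G ≃* N := (Subgroup.topEquiv.symm.trans (MulEquiv.subgroupCongr hN.symm))
  have he : ∀ g : G, ((e g : N) : G) = g := fun g => rfl
  have he' : ∀ n : N, e (n : G) = n := fun n => Subtype.ext (he _)
  have hirr : IsIrrCharacter G (fun g => θ (e g)) := hθ.comp_surjective e.toMonoidHom e.surjective
  have hres : (fun n : N => (fun g => θ (e g)) (n : G)) = θ := by
    funext n
    show θ (e (n : G)) = θ n
    rw [he']
  refine ⟨{ I := PUnit
            fin := inferInstance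
            χ := fun _ g => θ (e g)
            K := fun _ => N
            α := fun _ => θ
            irr := fun _ => hirr
            ov := fun _ => ?_
            NK := fun _ => le_rfl
            Kp := fun _ => hp
            αc := fun _ => hθ.isCharacter
            αN := fun _ ϑ hϑ h => ⟨1, ?_⟩
            dual_self := fun _ => ?_
            dual_ne := fun i j h => absurd (Subsingleton.elim i j) h
            span := fun ψ hψ h => ⟨fun _ => 1, fun x _ => ?_⟩ }⟩
  · rw [hres, hθ.classInner_self]; exact one_ne_zero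
  · rw [cj_one]
    by_contra hne
    exact h (hθ.classInner_eq_zero hϑ (fun h => hne h.symm))
  · rw [hres, hθ.classInner_self]
  · have h1 : IsIrrCharacter N (fun n : N => ψ n) := hψ.comp_surjective (e.symm.toMonoidHom) e.symm.surjective
    have h2 : (fun n : N => ψ n) = θ := by
      by_contra hne
      exact h (h1.classInner_eq_zero hθ hne)
    have h3 := congrFun h2 (e x)
    have h4 : ∑ i : PUnit.{u+1}, (1 : ℂ) * θ (e x) = θ (e x) := by
      rw [one_mul, Finset.sum_const, Finset.card_univ]
      simp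
    rw [h4, ← h3, he]

end base

section orbits

variable {p : ℕ} {Z M : Subgroup G} [hZn : Z.Normal] [hMn : M.Normal]

theorem orbits (hZM : Z ≤ M) (hZ : Z ≤ Subgroup.center G) {lam : Z → ℂ} (hlam : IsIrrCharacter Z lam)
    (h : ∀ θ : IrrCharacter M, classInner (resTo Z M hZM (θ : M → ℂ)) lam ≠ 0 →
      Nonempty (FS p M (θ : M → ℂ))) : Nonempty (FS p Z lam) := by
  let S : Type u := {θ : IrrCharacter M // classInner (resTo Z M hZM (θ : M → ℂ)) lam ≠ 0}
  let s : Setoid S :=
    { r := fun a b => ∃ g : G, ((b : IrrCharacter M) : M → ℂ) = cj M g ((a : IrrCharacter M) : M → ℂ)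
      iseqv :=
        { refl := fun a => ⟨1, (cj_one _).symm⟩
          symm := by
            rintro a b ⟨g, hg⟩
            exact ⟨g⁻¹, by rw [hg, cj_inv_cj]⟩
          trans := by
            rintro a b c ⟨g, hg⟩ ⟨k, hk⟩
            exact ⟨g * k, by rw [hk, hg, cj_cj]⟩ } }
  let D : ∀ q : Quotient s, FS p M ((q.out : S) : IrrCharacter M) := fun q => (h q.out.1 q.out.2).some
  -- the central subgroup acts by `lam`
  have hover : ∀ (q : Quotient s) (ψ : G → ℂ), IsIrrCharacter G ψ →
      classInner (fun m : M => ψ m) (((q.out : S) : IrrCharacter M) : M → ℂ) ≠ 0 →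
      classInner (fun z : Z => ψ z) lam ≠ 0 := by
    intro q ψ hψ h1
    have h2 := q.out.2
    obtain ⟨b, hb, hb'⟩ := Clifford.degree_le_of_constituent (hψ.isCharacter.restrict M) (q.out.1).2 h1
    obtain ⟨k, hk⟩ := (isCharacter_resTo hZM (q.out.1).2.isCharacter).classInner_nat hlam.isCharacter
    obtain ⟨l, hl⟩ := (isCharacter_resTo hZM hb).classInner_nat hlam.isCharacter
    have h3 : (fun z : Z => ψ z) = resTo Z M hZM ((q.out.1 : IrrCharacter M) : M → ℂ) + resTo Z M hZM b := by
      funext z
      exact congrFun hb' ⟨(z : G), hZM z.2⟩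
    rw [h3, classInner_add_left, hk, hl]
    rw [hk] at h2
    have h4 : k ≠ 0 := by
      rintro rfl
      exact h2 (by simp)
    exact_mod_cast (by omega : k + l ≠ 0)
  -- irreducible characters over `lam` on `M` are multiples of `lam` on `Z`
  have hmult : ∀ μ : IrrCharacter M, classInner (resTo Z M hZM (μ : M → ℂ)) lam ≠ 0 →
      ∀ g : G, ∀ ζ : Z → ℂ, IsIrrCharacter Z ζ → classInner (resTo Z M hZM (cj M g (μ : M → ℂ))) ζ ≠ 0 →
      ζ = lam := by
    intro μ hμ g ζ hζ h1
    have h2 : resTo Z M hZM (μ : M → ℂ) = classInner (resTo Z M hZM (μ : M → ℂ)) lam • lam := by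
      apply resTo_eq_smul hZM μ.2 hlam _ hμ
      intro m _
      funext z
      rw [cj_apply]
      congr 1
      apply Subtype.ext
      show m * z * m⁻¹ = z
      have := Subgroup.mem_center_iff.mp (hZ z.2) m
      rw [this, mul_inv_cancel_right]
    have h3 : resTo Z M hZM (cj M g (μ : M → ℂ)) = resTo Z M hZM (μ : M → ℂ) := by
      funext z
      refine congrArg (μ : M → ℂ) (Subtype.ext ?_)
      show g * z * g⁻¹ = z
      have := Subgroup.mem_center_iff.mp (hZ z.2) g
      rw [this, mul_inv_cancel_right]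
    rw [h3, h2, classInner_smul_left] at h1
    by_contra hne
    exact h1 (by rw [hlam.classInner_eq_zero hζ (fun h => hne h.symm), mul_zero])
  refine ⟨{ I := Σ q : Quotient s, (D q).I
            fin := inferInstance
            χ := fun x => (D x.1).χ x.2
            K := fun x => (D x.1).K x.2
            α := fun x => (D x.1).α x.2
            irr := fun x => (D x.1).irr x.2
            ov := fun x => hover x.1 _ ((D x.1).irr x.2) ((D x.1).ov x.2)
            NK := fun x => hZM.trans ((D x.1).NK x.2)
            Kp := fun x => (D x.1).Kp x.2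
            αc := fun x => (D x.1).αc x.2
            αN := ?_
            dual_self := fun x => (D x.1).dual_self x.2
            dual_ne := ?_
            span := ?_ }⟩
  · rintro ⟨q, i⟩ ζ hζ h1
    refine ⟨1, ?_⟩
    rw [cj_one]
    -- intermediate constituent on `M`
    have hKM := (D q).NK i
    have h2 : ∃ μ : IrrCharacter M, classInner (resTo M ((D q).K i) hKM ((D q).α i)) (μ : M → ℂ) ≠ 0 ∧
        classInner (resTo Z M hZM (μ : M → ℂ)) ζ ≠ 0 := by
      by_contra hno
      push Not at hno
      apply h1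
      have h3 : resTo Z ((D q).K i) (hZM.trans hKM) ((D q).α i) = ∑ ψ : IrrCharacter M,
          classInner (resTo M ((D q).K i) hKM ((D q).α i)) (ψ : M → ℂ) • resTo Z M hZM (ψ : M → ℂ) := by
        funext n
        have h4 := congrFun (isCharacter_resTo hKM ((D q).αc i)).isClassFunction.expansion ⟨(n : G), hZM n.2⟩
        simp only [Finset.sum_apply, Pi.smul_apply] at h4 ⊢
        exact h4
      show classInner (resTo Z ((D q).K i) (hZM.trans hKM) ((D q).α i)) ζ = 0
      rw [h3, classInner_sum_left]
      apply Finset.sum_eq_zero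
      intro ψ _
      rw [classInner_smul_left]
      by_cases h5 : classInner (resTo M ((D q).K i) hKM ((D q).α i)) (ψ : M → ℂ) = 0
      · rw [h5, zero_mul]
      · rw [hno ψ h5, mul_zero]
    obtain ⟨μ, hμ1, hμ2⟩ := h2
    obtain ⟨g, hg⟩ := (D q).αN i _ μ.2 hμ1
    rw [hg] at hμ2
    exact hmult _ q.out.2 g ζ hζ hμ2
  · rintro ⟨q, i⟩ ⟨q', j⟩ hij
    by_cases hq : q = q'
    · subst hq
      exact (D q).dual_ne i j (fun h => hij (by rw [h]))
    · by_contra h1
      obtain ⟨μ, hμ1, hμ2⟩ := exists_common_below ((D q).NK i) ((D q').irr j).isCharacter ((D q).αc i) h1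
      obtain ⟨g, hg⟩ := (D q).αN i _ μ.2 hμ2
      obtain ⟨k, hk⟩ := exists_cj_eq ((D q').irr j) (q'.out.1).2 μ.2 ((D q').ov j) hμ1
      apply hq
      have h2 : (q.out : S) ≈ (q'.out : S) := by
        refine ⟨g * k⁻¹, ?_⟩
        have h3 : cj M k⁻¹ (μ : M → ℂ) = ((q'.out : S) : IrrCharacter M) := by
          rw [hk]
          first
            | exact cj_inv_cj _ _
            | exact cj_cj_inv _ _
        rw [← h3, hg, cj_cj]
      rw [← Quotient.out_eq q, ← Quotient.out_eq q']
      exact Quotient.sound h2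
  · intro ψ hψ h1
    obtain ⟨μ, hμ1, hμ2⟩ : ∃ μ : IrrCharacter M, classInner (fun m : M => ψ m) (μ : M → ℂ) ≠ 0 ∧
        classInner (resTo Z M hZM (μ : M → ℂ)) lam ≠ 0 := by
      by_contra hno
      push Not at hno
      apply h1
      have h3 : (fun z : Z => ψ z) = ∑ μ : IrrCharacter M,
          classInner (fun m : M => ψ m) (μ : M → ℂ) • resTo Z M hZM (μ : M → ℂ) := by
        funext n
        have h4 := congrFun (hψ.isCharacter.restrict M).isClassFunction.expansion ⟨(n : G), hZM n.2⟩
        simp only [Finset.sum_apply, Pi.smul_apply] at h4 ⊢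
        exact h4
      rw [h3, classInner_sum_left]
      apply Finset.sum_eq_zero
      intro μ _
      rw [classInner_smul_left]
      by_cases h5 : classInner (fun m : M => ψ m) (μ : M → ℂ) = 0
      · rw [h5, zero_mul]
      · rw [hno μ h5, mul_zero]
    let q : Quotient s := Quotient.mk s ⟨μ, hμ2⟩
    obtain ⟨g, hg⟩ : ∃ g : G, (((q.out : S) : IrrCharacter M) : M → ℂ) = cj M g (μ : M → ℂ) :=
      Setoid.symm (Quotient.exact (Quotient.out_eq q) : (q.out : S) ≈ ⟨μ, hμ2⟩)
    have h2 : classInner (fun m : M => ψ m) (((q.out : S) : IrrCharacter M) : M → ℂ) ≠ 0 := by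
      rw [hg, classInner_cj_res hψ.isClassFunction]
      exact hμ1
    obtain ⟨c, hc⟩ := (D q).span ψ hψ h2
    let f : (D q).I → (Σ q : Quotient s, (D q).I) := fun i => ⟨q, i⟩
    have hinj : Function.Injective f := fun i j h => eq_of_heq (Sigma.mk.inj_iff.1 h).2
    refine ⟨Function.extend f c 0, fun x hx => ?_⟩
    rw [hc x hx]
    symm
    rw [← Finset.sum_subset (Finset.subset_univ (Finset.univ.map ⟨f, hinj⟩))]
    · rw [Finset.sum_map]
      refine Finset.sum_congr rfl fun i _ => ?_
      show Function.extend f c 0 (f i) * _ = _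
      rw [hinj.extend_apply]
      rfl
    · intro y _ hy
      rw [Function.extend_apply' _ _ _ (by
        rintro ⟨i, rfl⟩
        exact hy (Finset.mem_map.2 ⟨i, Finset.mem_univ _, rfl⟩))]
      simp

end orbits

section clifford

variable {p : ℕ} {N : Subgroup G} [hN : N.Normal]

theorem clifford_step {T : Subgroup G} (hNT : N ≤ T) {θ : N → ℂ} (hθ : IsIrrCharacter N θ)
    (hT : ∀ g : G, g ∈ T ↔ cj N g θ = θ)
    (D : FS p (N.subgroupOf T) (fun x => θ (subEquiv N T hNT x))) : Nonempty (FS p N θ) := by
  have hθ' : IsIrrCharacter (N.subgroupOf T) (fun x => θ (subEquiv N T hNT x)) :=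
    (isIrrCharacter_comp_mulEquiv_iff (subEquiv N T hNT)).mpr hθ
  have hover : ∀ ψ : T → ℂ, classInner (fun n : N.subgroupOf T => ψ n) (fun x => θ (subEquiv N T hNT x)) =
      classInner (resTo N T hNT ψ) θ := fun ψ => classInner_resTo T hNT ψ θ
  have hcj : ∀ t : T, cj (N.subgroupOf T) t (fun x => θ (subEquiv N T hNT x)) =
      fun x => θ (subEquiv N T hNT x) := by
    intro t
    funext n
    rw [cj_apply]
    have h3 := congrFun ((hT t).1 t.2) (subEquiv N T hNT n)
    rw [cj_apply] at h3
    rw [← h3]
    rfl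
  have hov : ∀ i, classInner (resTo N T hNT (D.χ i)) θ ≠ 0 := fun i => by
    rw [← hover]; exact D.ov i
  have hci := fun i => corr_irr hNT hθ hT (D.irr i) (hov i)
  -- the projective-like characters of `T`
  let A : D.I → T → ℂ := fun i => indFun (D.K i) (D.α i)
  have hA : ∀ i, IsCharacter T (A i) := fun i => isCharacter_indFun (D.K i) (D.αc i)
  have hAo : ∀ i (ν : T → ℂ), IsIrrCharacter T ν → classInner (A i) ν ≠ 0 →
      classInner (resTo N T hNT ν) θ ≠ 0 := by
    intro i ν hν h
    have h1 : classInner (fun k : D.K i => ν k) (D.α i) ≠ 0 := by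
      rw [← IndFun.frobenius_reciprocity' (D.K i) (D.α i) ν hν.isClassFunction]
      exact classInner_res_ne_zero_comm' h
    obtain ⟨μ, hμ1, hμ2⟩ := exists_common_below (D.NK i) hν.isCharacter (D.αc i) h1
    obtain ⟨t, ht⟩ := D.αN i _ μ.2 hμ2
    rw [hcj] at ht
    rw [ht, hover] at hμ1
    exact hμ1
  -- induction to `G` is an isometry over `θ`
  have hiso : ∀ ψ ν : T → ℂ, IsIrrCharacter T ψ → IsIrrCharacter T ν → classInner (resTo N T hNT ψ) θ ≠ 0 →
      classInner (resTo N T hNT ν) θ ≠ 0 →
      classInner (fun t : T => indFun T ψ t) ν = classInner ψ ν := by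
    intro ψ ν hψ hν h1 h2
    obtain ⟨h3, -⟩ := corr_irr hNT hθ hT hψ h1
    obtain ⟨h4, -⟩ := corr_irr hNT hθ hT hν h2
    rw [← IndFun.frobenius_reciprocity' T ν _ h3.isClassFunction]
    by_cases h5 : ψ = ν
    · rw [h5, h4.classInner_self, hν.classInner_self]
    · rw [hψ.classInner_eq_zero hν h5, h3.classInner_eq_zero h4]
      intro h6
      exact h5 (corr_inj hNT hθ hT hψ hν h1 h2 h6)
  have hisoA : ∀ i (ψ : T → ℂ), IsIrrCharacter T ψ → classInner (resTo N T hNT ψ) θ ≠ 0 →
      classInner (fun t : T => indFun T ψ t) (A i) = classInner ψ (A i) := by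
    intro i ψ hψ h1
    have h2 : A i = ∑ ν : IrrCharacter T, classInner (A i) (ν : T → ℂ) • (ν : T → ℂ) :=
      (hA i).isClassFunction.expansion
    rw [h2, classInner_sum_right, classInner_sum_right]
    refine Finset.sum_congr rfl fun ν _ => ?_
    rw [classInner_smul_right, classInner_smul_right]
    by_cases h3 : classInner (A i) (ν : T → ℂ) = 0
    · rw [h3]; simp
    · rw [hiso ψ ν hψ ν.2 h1 (hAo i ν ν.2 h3)]
  -- inner products on `K i`
  have hK : ∀ (i : D.I) (f : G → ℂ), classInner (fun k : (D.K i).map T.subtype => f k)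
      (fun x => D.α i ((up T (D.K i)).symm x)) = classInner (fun k : D.K i => f ((k : T) : G)) (D.α i) := by
    intro i f
    rw [← classInner_comp_equiv (up T (D.K i))]
    congr 1
    funext k
    rw [MulEquiv.symm_apply_apply]
  have hdual : ∀ i j, classInner (fun k : (D.K i).map T.subtype => indFun T (D.χ j) k)
      (fun x => D.α i ((up T (D.K i)).symm x)) = classInner (fun k : D.K i => D.χ j k) (D.α i) := by
    intro i j
    rw [hK i]
    rw [← IndFun.frobenius_reciprocity' (D.K i) (D.α i) (D.χ j) (D.irr j).isClassFunction]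
    rw [← hisoA i (D.χ j) (D.irr j) (hov j)]
    have h1 : IsClassFunction T (fun t : T => indFun T (D.χ j) t) :=
      ((hci j).1.isCharacter.restrict T).isClassFunction
    exact (IndFun.frobenius_reciprocity' (D.K i) (D.α i) (fun t : T => indFun T (D.χ j) t) h1).symm
  have hle : ∀ i, N ≤ (D.K i).map T.subtype := by
    intro i n hn
    exact ⟨⟨n, hNT hn⟩, D.NK i (Subgroup.mem_subgroupOf.2 hn), rfl⟩
  refine ⟨{ I := D.I
            fin := inferInstance
            χ := fun i => indFun T (D.χ i)
            K := fun i => (D.K i).map T.subtype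
            α := fun i x => D.α i ((up T (D.K i)).symm x)
            irr := fun i => (hci i).1
            ov := fun i => by rw [(hci i).2]; exact hov i
            NK := hle
            Kp := fun i => by
              rw [← Nat.card_congr (up T (D.K i)).toEquiv]
              exact D.Kp i
            αc := fun i => (D.αc i).comp (up T (D.K i)).symm.toMonoidHom
            αN := ?_
            dual_self := fun i => by rw [hdual]; exact D.dual_self i
            dual_ne := fun i j h => by rw [hdual]; exact D.dual_ne i j h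
            span := ?_ }⟩
  · intro i ϑ hϑ h1
    refine ⟨1, ?_⟩
    rw [cj_one]
    have hϑ' : IsIrrCharacter (N.subgroupOf T) (fun x => ϑ (subEquiv N T hNT x)) :=
      (isIrrCharacter_comp_mulEquiv_iff (subEquiv N T hNT)).mpr hϑ
    have h2 : classInner (resTo (N.subgroupOf T) (D.K i) (D.NK i) (D.α i)) (fun x => ϑ (subEquiv N T hNT x)) ≠ 0 := by
      rw [← classInner_comp_equiv (subEquiv N T hNT)] at h1
      convert h1 using 2
      funext x
      refine congrArg (D.α i) (Subtype.ext (Subtype.ext ?_))
      rw [coe_up_symm]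
      rfl
    obtain ⟨t, ht⟩ := D.αN i _ hϑ' h2
    rw [hcj] at ht
    funext n
    have h3 := congrFun ht ((subEquiv N T hNT).symm n)
    simp only [MulEquiv.apply_symm_apply] at h3
    exact h3
  · intro ψ hψ h1
    obtain ⟨ψ0, hψ0, hind, hm⟩ := corr_surj hNT hθ hT hψ h1
    have h2 : classInner (fun n : N.subgroupOf T => ψ0 n) (fun x => θ (subEquiv N T hNT x)) ≠ 0 := by
      rw [hover, hm]; exact h1
    obtain ⟨c, hc⟩ := D.span ψ0 hψ0 h2
    refine ⟨c, fun x hx => ?_⟩
    rw [← hind]
    simp only [IndFun.indFun_apply]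
    have h3 : ∀ y : G, extendByZero T ψ0 (y⁻¹ * x * y) = ∑ i, c i * extendByZero T (D.χ i) (y⁻¹ * x * y) := by
      intro y
      by_cases hy : y⁻¹ * x * y ∈ T
      · simp only [IndFun.extendByZero_mem _ _ hy]
        apply hc
        have h4 : orderOf (⟨y⁻¹ * x * y, hy⟩ : T) = orderOf x := by
          rw [Subgroup.orderOf_mk]
          have := orderOf_injective (MulAut.conj y⁻¹).toMonoidHom (MulAut.conj y⁻¹).injective x
          simpa using this
        rw [h4]; exact hx
      · simp only [IndFun.extendByZero_not_mem _ _ hy]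
        simp
    simp only [h3]
    rw [Finset.sum_comm, Finset.mul_sum]
    refine Finset.sum_congr rfl fun i _ => ?_
    rw [← Finset.mul_sum]
    ring

end clifford

end Cfsg.Agent.Lib.FongSwan
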