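import Cfsg.Agent.Lib.FongSwan
import Cfsg.Agent.Lib.CharTriple
import Cfsg.Agent.Lib.CosetAvg
import Cfsg.Agent.Lib.DegRatio

/-!
# Fong-Swan, part 2: invariant characters and character triples (helper74)
-/

set_option autoImplicit false
set_option linter.all false

namespace Cfsg.Agent.Lib.FongSwan

open scoped ComplexConjugate
open Cfsg Cfsg.Agent.Lib.CharBasic Cfsg.Agent.Lib.Clifford Cfsg.Agent.Lib.CliffordCorr
open Cfsg.Agent.Lib.CanonExt Cfsg.Agent.Lib.IndStages Cfsg.Agent.Lib.CharTriple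

universe u

attribute [local instance 5000] Fintype.ofFinite

theorem char_deflate {X K : Type*} [Group X] [Group K] [Finite X] {f : X →* K} (hf : Function.Surjective f)
    {χ : X → ℂ} (hχ : IsCharacter X χ) (hk : ∀ n ∈ f.ker, χ n = χ 1) :
    ∃ ψ : K → ℂ, IsCharacter K ψ ∧ ∀ g : X, ψ (f g) = χ g := by
  obtain ⟨ψ, hψ, h1⟩ := hχ.deflate f.ker hk
  let e : X ⧸ f.ker ≃* K := QuotientGroup.quotientKerEquivOfSurjective f hf
  refine ⟨fun y => ψ (e.symm y), hψ.comp e.symm.toMonoidHom, ?_⟩
  intro g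
  have h2 : e.symm (f g) = (g : X ⧸ f.ker) := by
    rw [MulEquiv.symm_apply_eq]
    rfl
  show ψ (e.symm (f g)) = χ g
  rw [h2, h1]

/-- multiplication by an extension is an isometry on functions constant on the cosets of `J` -/
theorem gall_iso {X : Type u} [Group X] [Finite X] {J : Subgroup X} [hJ : J.Normal] {ϑ : J → ℂ}
    (hϑ : IsIrrCharacter J ϑ) {ρ : X → ℂ} (hρ : IsIrrCharacter X ρ) (hext : ∀ n : J, ρ n = ϑ n)
    (a b : X → ℂ) (ha : ∀ (n : J) (g : X), a (n * g) = a g) (hb : ∀ (n : J) (g : X), b (n * g) = b g) :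
    classInner (fun x => a x * ρ x) (fun x => b x * ρ x) = classInner a b := by
  have hnorm := (CosetAvg.coset_average hϑ hρ hext hρ).1 1 isIrrCharacter_one (fun _ => rfl)
    (one_mul ρ).symm
  have h1 := CosetAvg.classInner_avg (N := J) (fun x => a x * ρ x * conj (ρ x)) b hb
  have h2 : (fun g => (Nat.card J : ℂ)⁻¹ * ∑ n : J, (a (n * g) * ρ (n * g) * conj (ρ (n * g)))) = a := by
    funext g
    have h3 := hnorm g
    simp only [ha]
    rw [show (∑ n : J, a g * ρ (n * g) * conj (ρ (n * g))) = a g * ∑ n : J, ρ (n * g) * conj (ρ (n * g)) by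
      rw [Finset.mul_sum]; refine Finset.sum_congr rfl fun n _ => by ring]
    rw [mul_left_comm, h3]
    simp
  have h4 : classInner a b = classInner (fun x => a x * ρ x * conj (ρ x)) b := by
    conv_lhs => rw [← h2]
    exact h1
  rw [h4, classInner_def, classInner_def]
  congr 1
  refine Finset.sum_congr rfl fun x _ => ?_
  rw [map_mul]; ring

/-- a character of `Z` with the only constituent `lam` -/
theorem eq_mul_of_unique {Z : Type u} [Group Z] [Finite Z] {f lam : Z → ℂ} (hf : IsCharacter Z f)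
    (hlam1 : lam 1 = 1) (h : ∀ ζ : Z → ℂ, IsIrrCharacter Z ζ → classInner f ζ ≠ 0 → ζ = lam) (z : Z) :
    f z = f 1 * lam z := by
  have h1 : ∀ z, f z = (∑ ζ : IrrCharacter Z, classInner f (ζ : Z → ℂ)) * lam z := by
    intro z
    have h2 := congrFun hf.isClassFunction.expansion z
    simp only [Finset.sum_apply, Pi.smul_apply, smul_eq_mul] at h2
    rw [h2, Finset.sum_mul]
    refine Finset.sum_congr rfl fun ζ _ => ?_
    by_cases h3 : classInner f (ζ : Z → ℂ) = 0
    · rw [h3]; simp
    · rw [h ζ ζ.2 h3]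
  have h2 := h1 1
  rw [hlam1, mul_one] at h2
  rw [h1 z, h2]

variable {G : Type u} [Group G] [Finite G]

section triple

variable {p : ℕ} {N : Subgroup G} [hN : N.Normal] {θ : N → ℂ}

attribute [local instance] Triple.j_norm

def zq (t : Triple N θ) : t.π.ker →* (t.Y ⧸ t.j.range) :=
  (QuotientGroup.mk' t.j.range).comp t.π.ker.subtype

theorem zq_injective (t : Triple N θ) : Function.Injective (zq t) := by
  rw [injective_iff_map_eq_one]
  intro z hz
  have h1 : (z : t.Y) ∈ t.j.range := (QuotientGroup.eq_one_iff _).1 hz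
  obtain ⟨n, hn⟩ := h1
  have h2 : t.π (z : t.Y) = 1 := z.2
  rw [← hn, t.π_j] at h2
  have h3 : n = 1 := Subtype.ext h2
  apply Subtype.ext
  rw [← hn, h3, map_one]
  rfl

noncomputable def eZ (t : Triple N θ) : t.π.ker ≃* (zq t).range := MonoidHom.ofInjective (zq_injective t)

theorem range_le_center (t : Triple N θ) : (zq t).range ≤ Subgroup.center _ := by
  rintro _ ⟨z, rfl⟩
  rw [Subgroup.mem_center_iff]
  intro y
  obtain ⟨y, rfl⟩ := QuotientGroup.mk_surjective y
  have h1 := t.central z z.2 y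
  show ((y * (z : t.Y) : t.Y) : t.Y ⧸ t.j.range) = ((z : t.Y) * y : t.Y)
  rw [h1]

instance normal_range (t : Triple N θ) : (zq t).range.Normal :=
  ⟨fun n hn g => by
    have := Subgroup.mem_center_iff.1 (range_le_center t hn) g
    rw [this, mul_inv_cancel_right]
    exact hn⟩

noncomputable def lamZ (t : Triple N θ) : (zq t).range → ℂ :=
  fun x => (((t.lam ((eZ t).symm x))⁻¹ : ℂˣ) : ℂ)

theorem lamZ_irr (t : Triple N θ) : IsIrrCharacter (zq t).range (lamZ t) := by
  have := isIrrCharacter_of_unitsHom ((t.lam.comp (eZ t).symm.toMonoidHom)⁻¹)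
  exact this

theorem lamZ_one (t : Triple N θ) : lamZ t 1 = 1 := by
  unfold lamZ
  rw [map_one, map_one]
  simp

theorem lamZ_eZ (t : Triple N θ) (z : t.π.ker) : lamZ t (eZ t z) = ((t.lam z : ℂˣ) : ℂ)⁻¹ := by
  unfold lamZ
  rw [MulEquiv.symm_apply_apply]
  simp

theorem triple_step [Fact p.Prime] (hθ : IsIrrCharacter N θ) (t : Triple N θ) (hpN : ¬ p ∣ Nat.card N)
    (hker : ¬ p ∣ Nat.card t.π.ker) (D : FS p (zq t).range (lamZ t)) : Nonempty (FS p N θ) := by
  have hp : p.Prime := Fact.out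
  have hjinj : Function.Injective t.j := by
    intro a b hab
    have := congrArg t.π hab
    rw [t.π_j, t.π_j] at this
    exact Subtype.ext this
  let J : Subgroup t.Y := t.j.range
  have hJn : J.Normal := t.j_norm
  let e : N ≃* J := MonoidHom.ofInjective hjinj
  have he : ∀ n : N, ((e n : J) : t.Y) = t.j n := fun n => rfl
  let ϑ : J → ℂ := fun x => θ (e.symm x)
  have hϑ : IsIrrCharacter J ϑ := hθ.comp_surjective e.symm.toMonoidHom e.symm.surjective
  have hext : ∀ x : J, t.ρ x = ϑ x := by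
    intro x
    obtain ⟨n, rfl⟩ := e.surjective x
    show t.ρ (t.j n) = θ (e.symm (e n))
    rw [MulEquiv.symm_apply_apply, t.ρ_j]
  have hρ : IsIrrCharacter t.Y t.ρ := isIrr_of_ext hϑ t.ρ_char hext
  let q : t.Y →* t.Y ⧸ t.j.range := QuotientGroup.mk' t.j.range
  have hq : Function.Surjective q := QuotientGroup.mk'_surjective _
  have hqj : ∀ n : N, q (t.j n) = 1 := fun n => (QuotientGroup.eq_one_iff _).2 ⟨n, rfl⟩
  -- values on the kernel
  have hχz : ∀ (ψ : t.Y ⧸ t.j.range → ℂ), IsIrrCharacter _ ψ →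
      classInner (fun z : (zq t).range => ψ z) (lamZ t) ≠ 0 → ∀ z : t.π.ker,
      ψ (q z) = ψ 1 * ((t.lam z : ℂˣ) : ℂ)⁻¹ := by
    intro ψ hψ h z
    have h1 := res_eq_smul_of_invariant hψ (lamZ_irr t) (by
      intro g
      funext x
      rw [cj_apply]
      refine congrArg (lamZ t) (Subtype.ext ?_)
      show g * (x : t.Y ⧸ t.j.range) * g⁻¹ = x
      have := Subgroup.mem_center_iff.1 (range_le_center t x.2) g
      rw [this, mul_inv_cancel_right]) h
    have h2 := congrFun h1 (eZ t z)
    have h3 := congrFun h1 1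
    simp only [Pi.smul_apply, smul_eq_mul, lamZ_eZ, lamZ_one, mul_one] at h2 h3
    have h4 : ψ 1 = classInner (fun z : (zq t).range => ψ z) (lamZ t) := h3
    rw [h4]
    exact h2
  have hαz : ∀ i (z : t.π.ker) (hz : q z ∈ D.K i), D.α i ⟨q z, hz⟩ = D.α i 1 * ((t.lam z : ℂˣ) : ℂ)⁻¹ := by
    intro i z hz
    have h1 := eq_mul_of_unique (isCharacter_resTo (D.NK i) (D.αc i)) (lamZ_one t) (by
      intro ζ hζ h2
      obtain ⟨g, hg⟩ := D.αN i ζ hζ h2
      rw [hg]
      funext x
      rw [cj_apply]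
      refine congrArg (lamZ t) (Subtype.ext ?_)
      show g * (x : t.Y ⧸ t.j.range) * g⁻¹ = x
      have := Subgroup.mem_center_iff.1 (range_le_center t x.2) g
      rw [this, mul_inv_cancel_right]) (eZ t z)
    rw [lamZ_eZ] at h1
    exact h1
  have hρz : ∀ z : t.π.ker, t.ρ z = ((t.lam z : ℂˣ) : ℂ) * t.ρ 1 := by
    intro z
    have := t.ρ_mul z 1
    rwa [mul_one] at this
  have hcancel : ∀ (z : t.π.ker) (a b : ℂ), a * ((t.lam z : ℂˣ) : ℂ)⁻¹ * (((t.lam z : ℂˣ) : ℂ) * b) = a * b := by
    intro z a b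
    have h7 : ((t.lam z : ℂˣ) : ℂ) ≠ 0 := Units.ne_zero _
    field_simp
  -- the characters of `G`
  have hχ : ∀ i, ∃ χ : G → ℂ, IsIrrCharacter G χ ∧ ∀ y : t.Y, χ (t.π y) = D.χ i (q y) * t.ρ y := by
    intro i
    have h1 : IsIrrCharacter t.Y ((fun y => D.χ i (q y)) * t.ρ) :=
      ((CanonExt.bijOn hϑ hρ hext).mapsTo ⟨(D.irr i).comp_surjective q hq, by
        intro n
        show D.χ i (q n) = D.χ i (q 1)
        have : q n = 1 := (QuotientGroup.eq_one_iff _).2 n.2
        rw [this, map_one]⟩).1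
    refine irr_deflate t.π_surj h1 ?_
    intro z hz
    show D.χ i (q z) * t.ρ z = D.χ i (q 1) * t.ρ 1
    have h2 := hχz _ (D.irr i) (D.ov i) ⟨z, hz⟩
    have h3 := hρz ⟨z, hz⟩
    simp only at h2 h3
    rw [h2, h3, hcancel, map_one]
  choose χ hχirr hχv using hχ
  -- the subgroups
  let X : D.I → Subgroup t.Y := fun i => (D.K i).comap q
  let K : D.I → Subgroup G := fun i => (X i).map t.π
  let f : ∀ i, X i →* K i := fun i => t.π.subgroupMap (X i)
  have hf : ∀ i, Function.Surjective (f i) := fun i => t.π.subgroupMap_surjective (X i)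
  let g : ∀ i, X i →* D.K i := fun i => q.subgroupComap (D.K i)
  have hg : ∀ i, Function.Surjective (g i) := fun i => q.subgroupComap_surjective_of_surjective (D.K i) hq
  have hα : ∀ i, ∃ α : K i → ℂ, IsCharacter (K i) α ∧ ∀ x : X i, α (f i x) = D.α i (g i x) * t.ρ x := by
    intro i
    have h1 : IsCharacter (X i) ((fun x => D.α i (g i x)) * fun x : X i => t.ρ x) :=
      ((D.αc i).comp (g i)).mul (t.ρ_char.restrict (X i))
    refine char_deflate (hf i) h1 ?_
    intro x hx
    have hx' : (x : t.Y) ∈ t.π.ker := congrArg Subtype.val hx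
    show D.α i (g i x) * t.ρ x = D.α i (g i 1) * t.ρ ((1 : X i) : t.Y)
    have h2 := hαz i ⟨x, hx'⟩ x.2
    have h3 := hρz ⟨x, hx'⟩
    simp only at h2 h3
    have h4 : D.α i (g i x) = D.α i 1 * ((t.lam ⟨x, hx'⟩ : ℂˣ) : ℂ)⁻¹ := h2
    rw [h4, h3, hcancel, map_one]
    rfl
  choose α hαc hαv using hα
  have hJX : ∀ i, J ≤ X i := by
    rintro i _ ⟨n, rfl⟩
    show q (t.j n) ∈ D.K i
    rw [hqj]; exact one_mem _
  have hdual : ∀ i j, classInner (fun k : K i => χ j k) (α i) = classInner (fun k : D.K i => D.χ j k) (D.α i) := by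
    intro i j
    have h1 := PF9.classInner_comp_hom (hf i) (fun k : K i => χ j k) (α i)
    have h2 := PF9.classInner_comp_hom (hg i) (fun k : D.K i => D.χ j k) (D.α i)
    rw [← h1, ← h2]
    have h3 : (fun x : X i => χ j (f i x)) = fun x : X i => D.χ j (g i x) * t.ρ x := by
      funext x
      exact hχv j x
    have h4 : (fun x : X i => α i (f i x)) = fun x : X i => D.α i (g i x) * t.ρ x := by
      funext x
      exact hαv i x
    rw [h3, h4]
    have hϑ' : IsIrrCharacter (J.subgroupOf (X i)) (fun x => ϑ (subEquiv J (X i) (hJX i) x)) :=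
      (isIrrCharacter_comp_mulEquiv_iff (subEquiv J (X i) (hJX i))).mpr hϑ
    have hext' : ∀ x : J.subgroupOf (X i), t.ρ ((x : X i) : t.Y) = ϑ (subEquiv J (X i) (hJX i) x) :=
      fun x => hext (subEquiv J (X i) (hJX i) x)
    refine gall_iso hϑ' (isIrr_of_ext hϑ' (t.ρ_char.restrict (X i)) hext') hext' _ _ ?_ ?_
    · intro n y
      have h5 : q ((n : X i) : t.Y) = 1 := (QuotientGroup.eq_one_iff _).2 (Subgroup.mem_subgroupOf.1 n.2)
      show D.χ j (q ((n : X i) * y : t.Y)) = D.χ j (q y)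
      rw [map_mul, h5, one_mul]
    · intro n y
      have h5 : g i n = 1 := Subtype.ext ((QuotientGroup.eq_one_iff _).2 (Subgroup.mem_subgroupOf.1 n.2))
      show D.α i (g i (n * y)) = D.α i (g i y)
      rw [map_mul, h5, one_mul]
  have hNK : ∀ i, N ≤ K i := by
    intro i n hn
    exact ⟨t.j ⟨n, hn⟩, hJX i ⟨_, rfl⟩, t.π_j _⟩
  have hcardJ : Nat.card J = Nat.card N := (Nat.card_congr e.toEquiv).symm
  refine ⟨{ I := D.I
            fin := inferInstance
            χ := χ
            K := K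
            α := α
            irr := hχirr
            ov := ?_
            NK := hNK
            Kp := ?_
            αc := hαc
            αN := ?_
            dual_self := fun i => by rw [hdual]; exact D.dual_self i
            dual_ne := fun i j h => by rw [hdual]; exact D.dual_ne i j h
            span := ?_ }⟩
  · intro i
    have h1 : (fun n : N => χ i n) = (D.χ i 1) • θ := by
      funext n
      have h2 := hχv i (t.j n)
      rw [t.π_j, hqj, t.ρ_j] at h2
      exact h2
    rw [h1, classInner_smul_left, hθ.classInner_self, mul_one]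
    exact (D.irr i).one_ne_zero
  · intro i hdvd
    have h1 : p ∣ Nat.card (X i) := hdvd.trans (Subgroup.card_map_dvd _ _)
    have h2 : Nat.card (X i) = Nat.card (g i).ker * Nat.card (D.K i) := by
      rw [← Subgroup.card_mul_index (g i).ker, Subgroup.index_ker, (g i).range_eq_top.mpr (hg i),
        Subgroup.card_top]
    rw [h2, hp.dvd_mul] at h1
    rcases h1 with h1 | h1
    · let k : (g i).ker →* J :=
        { toFun := fun x => ⟨((x : X i) : t.Y), (QuotientGroup.eq_one_iff _).1 (congrArg Subtype.val x.2)⟩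
          map_one' := rfl
          map_mul' := fun a b => rfl }
      have hk : Function.Injective k := by
        intro a b hab
        have h9 : ((k a : J) : t.Y) = ((k b : J) : t.Y) := congrArg (fun x : J => (x : t.Y)) hab
        exact Subtype.ext (Subtype.ext h9)
      have h3 := Subgroup.card_dvd_of_injective k hk
      rw [hcardJ] at h3
      exact hpN (h1.trans h3)
    · exact D.Kp i h1
  · intro i ζ hζ h1
    refine ⟨1, ?_⟩
    rw [cj_one]
    have h2 : resTo N (K i) (hNK i) (α i) = (D.α i 1) • θ := by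
      funext n
      have h3 := hαv i ⟨t.j n, hJX i ⟨_, rfl⟩⟩
      have h4 : f i ⟨t.j n, hJX i ⟨_, rfl⟩⟩ = ⟨n, hNK i n.2⟩ := Subtype.ext (t.π_j n)
      have h5 : g i ⟨t.j n, hJX i ⟨_, rfl⟩⟩ = 1 := Subtype.ext (hqj n)
      rw [h4, h5] at h3
      have h6 : t.ρ (t.j n) = θ n := t.ρ_j n
      simp only [h6] at h3
      exact h3
    rw [h2, classInner_smul_left] at h1
    by_contra hne
    exact h1 (by rw [hθ.classInner_eq_zero hζ (fun h => hne h.symm), mul_zero])
  · intro ψ hψ h1
    have hψπ : IsIrrCharacter t.Y (fun y => ψ (t.π y)) := hψ.comp_surjective t.π t.π_surj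
    have h2 : classInner (fun x : J => (fun y => ψ (t.π y)) (x : t.Y)) ϑ ≠ 0 := by
      have h3 : (fun x : J => (fun y => ψ (t.π y)) (x : t.Y)) = fun x : J => (fun n : N => ψ n) (e.symm x) := by
        funext x
        obtain ⟨n, rfl⟩ := e.surjective x
        show ψ (t.π (t.j n)) = ψ ((e.symm (e n) : N) : G)
        rw [MulEquiv.symm_apply_apply, t.π_j]
      rw [h3]
      have h4 := classInner_comp_equiv e.symm (fun n : N => ψ n) θ
      rw [h4]
      exact h1
    obtain ⟨β, hβ, hβc, hβ'⟩ := exists_gallagher hϑ hρ hext hψπ h2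
    obtain ⟨σ, hσ, hσv⟩ := hβ.deflate t.j.range (fun n hn => hβc ⟨n, hn⟩)
    have h3 : ∀ z : t.π.ker, β z = β 1 * ((t.lam z : ℂˣ) : ℂ)⁻¹ := by
      intro z
      have h4 := congrFun hβ' z
      have h5 := congrFun hβ' 1
      simp only [Pi.mul_apply] at h4 h5
      have h6 : t.π (z : t.Y) = 1 := z.2
      rw [h6, hρz] at h4
      rw [map_one] at h5
      rw [h5] at h4
      have h7 : ((t.lam z : ℂˣ) : ℂ) ≠ 0 := Units.ne_zero _
      have h8 : t.ρ 1 ≠ 0 := hρ.one_ne_zero
      have h9 : β 1 = β z * ((t.lam z : ℂˣ) : ℂ) := by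
        apply mul_right_cancel₀ h8
        rw [h4]; ring
      rw [h9]
      field_simp
    have h4 : (fun z : (zq t).range => σ z) = (β 1) • lamZ t := by
      funext x
      obtain ⟨z, rfl⟩ := (eZ t).surjective x
      show σ (q z) = β 1 * lamZ t (eZ t z)
      rw [lamZ_eZ, ← h3]
      exact hσv z
    obtain ⟨c, hc⟩ := D.span σ hσ (by
      rw [h4, classInner_smul_left, (lamZ_irr t).classInner_self, mul_one]
      exact hβ.one_ne_zero)
    refine ⟨c, fun x hx => ?_⟩
    obtain ⟨y, rfl⟩ := t.π_surj x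
    have h5 : ¬ p ∣ orderOf y := by
      intro h6
      have h7 : y ^ orderOf (t.π y) ∈ t.π.ker := by
        rw [MonoidHom.mem_ker, map_pow, pow_orderOf_eq_one]
      have h8 : (y ^ orderOf (t.π y)) ^ Nat.card t.π.ker = 1 := by
        have := pow_card_eq_one' (G := t.π.ker) (x := ⟨_, h7⟩)
        exact congrArg Subtype.val this
      rw [← pow_mul] at h8
      have h9 := h6.trans (orderOf_dvd_of_pow_eq_one h8)
      rw [hp.dvd_mul] at h9
      exact h9.elim hx hker
    have h6 : ¬ p ∣ orderOf (q y) := fun h => h5 (h.trans (orderOf_map_dvd q y))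
    have h7 := congrFun hβ' y
    simp only [Pi.mul_apply] at h7
    have h8 : β y = σ (q y) := (hσv y).symm
    rw [h7, h8, hc _ h6, Finset.sum_mul]
    refine Finset.sum_congr rfl fun i _ => ?_
    rw [hχv]; ring

end triple

end Cfsg.Agent.Lib.FongSwan
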