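import Cfsg.Agent.Lib.ClassPow
import Cfsg.Agent.Lib.H70Basic
import Cfsg.Agent.Lib.BaerSuzuki
import Cfsg.Agent.Lib.Cores

set_option autoImplicit false

/-!
Class sizes and solvability, modulo the solvability of groups of odd order (which is a hypothesis `hFT` here).
-/

namespace Cfsg.Agent.Lib.FourClass

open Subgroup Cfsg.Agent.Lib.ClassPow
open scoped Pointwise

universe u

/-- An element of order at most two acting evenly on a nonempty set of size not divisible by four has a
fixed point. -/
theorem exists_fixed_point {G : Type*} [Group G] {X : Type*} [MulAction G X] [Finite X] [Nonempty X]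
    (hperf : ∀ f : G →* ℤˣ, f = 1) (t : G) (ht : t ^ 2 = 1) (hX : ¬ 4 ∣ Nat.card X) : ∃ x : X, t • x = x := by
  classical
  have := Fintype.ofFinite X
  by_contra hcon
  push Not at hcon
  set σ : Equiv.Perm X := MulAction.toPermHom G X t with hσ
  have h1 : Equiv.Perm.sign σ = 1 := by
    have := hperf (Equiv.Perm.sign.comp (MulAction.toPermHom G X))
    exact DFunLike.congr_fun this t
  have h2 : σ ^ 2 = 1 := by rw [hσ, ← map_pow, ht, map_one]
  have hσ1 : σ ≠ 1 := by
    intro h
    obtain ⟨x⟩ : Nonempty X := inferInstance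
    apply hcon x
    have := DFunLike.congr_fun h x
    exact this
  have h3 : orderOf σ = 2 := orderOf_eq_prime h2 hσ1
  obtain ⟨n, hn⟩ := Equiv.Perm.cycleType_prime_order (σ := σ) (by rw [h3]; exact Nat.prime_two)
  have h4 : σ.support = Finset.univ := by
    ext x
    simp only [Equiv.Perm.mem_support, Finset.mem_univ, iff_true]
    exact hcon x
  have h5 : σ.cycleType.sum = Nat.card X := by
    rw [Equiv.Perm.sum_cycleType, h4, Finset.card_univ, Nat.card_eq_fintype_card]
  rw [hn, h3, Multiset.sum_replicate, smul_eq_mul] at h5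
  have h6 := Equiv.Perm.sign_of_cycleType σ
  rw [h1, hn, h3, Multiset.sum_replicate, Multiset.card_replicate, smul_eq_mul] at h6
  have h7 : Even ((n + 1) * 2 + (n + 1)) := by
    by_contra hodd
    rw [Nat.not_even_iff_odd] at hodd
    rw [hodd.neg_one_pow] at h6
    exact absurd h6 (by decide)
  apply hX
  rw [← h5]
  have h8 : Even (n + 1) := by
    rw [Nat.even_add] at h7
    exact h7.1 ⟨n + 1, by ring⟩
  obtain ⟨k, hk⟩ := h8
  exact ⟨k, by omega⟩

theorem hom_units_trivial {G : Type*} [Group G] [IsSimpleGroup G] (hna : ¬ ∀ a b : G, a * b = b * a)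
    (f : G →* ℤˣ) : f = 1 := by
  rcases (inferInstance : f.ker.Normal).eq_bot_or_eq_top with h | h
  · exfalso
    apply hna
    intro a b
    apply (MonoidHom.ker_eq_bot_iff f).1 h
    rw [map_mul, map_mul, mul_comm]
  · ext x
    have : x ∈ f.ker := by rw [h]; trivial
    rw [MonoidHom.mem_ker] at this
    rw [this]; rfl

/-- No class size divisible by four: solvable. -/
theorem solvable_of_not_four_dvd (hFT : ∀ (G : Type u) [Group G] [Finite G], Odd (Nat.card G) → Group.IsSolvable G)
    (G : Type u) [Group G] [Finite G] (h : ∀ x : G, ¬ 4 ∣ (centralizer ({x} : Set G)).index) :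
    Group.IsSolvable G := by
  refine solvable_induction (fun G _ => ∀ x : G, ¬ 4 ∣ (centralizer ({x} : Set G)).index) ?_ ?_ ?_ (Nat.card G) G rfl h
  · intro G _ _ N _ h x hx
    rw [index_centralizer_subgroup] at hx
    exact h x (hx.trans (relIndex_dvd_index _ N))
  · intro G _ _ N _ h y hy
    obtain ⟨x, rfl⟩ := QuotientGroup.mk_surjective y
    exact h x (hy.trans (index_centralizer_quotient_dvd N x))
  · intro G _ _ _ h
    by_cases hna : ∀ a b : G, a * b = b * a
    · let _ : CommGroup G := { (inferInstance : Group G) with mul_comm := hna }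
      infer_instance
    exfalso
    by_cases hodd : Odd (Nat.card G)
    · have := hFT G hodd
      apply hna
      have h1 := IsSimpleGroup.comm_iff_isSolvable (G := G)
      exact h1.2 this
    rw [Nat.not_odd_iff_even] at hodd
    obtain ⟨t, ht⟩ := exists_prime_orderOf_dvd_card' 2 hodd.two_dvd
    have ht2 : t ^ 2 = 1 := by rw [← ht]; exact pow_orderOf_eq_one t
    have htop : centralizer ({t} : Set G) = ⊤ := by
      apply H70Basic.eq_top_of_forall_conj_mem
      intro g
      have h1 : ∃ x : G ⧸ centralizer ({g} : Set G), t • x = x :=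
        exists_fixed_point (hom_units_trivial hna) t ht2 (h g)
      obtain ⟨x, hx⟩ := h1
      obtain ⟨a, rfl⟩ := QuotientGroup.mk_surjective x
      have h2 : ((t * a : G) : G ⧸ centralizer ({g} : Set G)) = a := hx
      have h3 : a⁻¹ * (t * a) ∈ centralizer ({g} : Set G) := QuotientGroup.eq.1 h2.symm
      rw [mem_centralizer_singleton_iff] at h3
      refine ⟨a, ?_⟩
      rw [mem_centralizer_singleton_iff]
      calc a * g * a⁻¹ * t = a * (g * (a⁻¹ * (t * a))) * a⁻¹ := by group
        _ = a * (a⁻¹ * (t * a) * g) * a⁻¹ := by rw [h3]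
        _ = t * (a * g * a⁻¹) := by group
    have htc : t ∈ center G := by
      rw [mem_center_iff]
      intro g
      have : g ∈ centralizer ({t} : Set G) := by rw [htop]; trivial
      exact mem_centralizer_singleton_iff.1 this
    rcases (inferInstance : (center G).Normal).eq_bot_or_eq_top with hZ | hZ
    · rw [hZ, mem_bot] at htc
      rw [htc, orderOf_one] at ht
      omega
    · apply hna
      intro a b
      have : b ∈ center G := by rw [hZ]; trivial
      exact mem_center_iff.1 this a

/-- No odd order element inverted by a 2-element: solvable. -/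
theorem solvable_of_no_inverted (hFT : ∀ (G : Type u) [Group G] [Finite G], Odd (Nat.card G) → Group.IsSolvable G)
    (G : Type u) [Group G] [Finite G]
    (h : ∀ t x : G, (∃ k, orderOf t = 2 ^ k) → Odd (orderOf x) → t * x * t⁻¹ = x⁻¹ → x = 1) :
    Group.IsSolvable G := by
  classical
  have hF2 : Fact (Nat.Prime 2) := ⟨Nat.prime_two⟩
  set N := Cfsg.pCore 2 G with hN
  have hNn : N.Normal := inferInstance
  have hNp : IsPGroup 2 N := Cores.isPGroup_pCore 2 G
  have hNs : Group.IsSolvable N := by
    have := hNp.isNilpotent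
    infer_instance
  suffices hQ : Group.IsSolvable (G ⧸ N) from Group.isSolvable_of_ker_le_range N.subtype (QuotientGroup.mk' N) (by simp)
  apply hFT
  by_contra hodd
  rw [Nat.not_odd_iff_even] at hodd
  obtain ⟨tb, htb⟩ := exists_prime_orderOf_dvd_card' 2 hodd.two_dvd
  have hnot : ∀ M : Subgroup (G ⧸ N), M.Normal → IsPGroup 2 M → tb ∉ M := by
    intro M hM hMp hmem
    have h1 := Cores.le_pCore hM hMp hmem
    rw [Cores.pCore_quotient_pCore, mem_bot] at h1
    rw [h1, orderOf_one] at htb
    omega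
  obtain ⟨hb, hb1, hbo, hbt⟩ := BaerSuzuki.exists_inverted_odd tb htb hnot
  obtain ⟨x, rfl, hx⟩ := exists_lift_regular N 2 Nat.prime_two hb (Nat.coprime_two_right.2 hbo)
  obtain ⟨t0, rfl⟩ := QuotientGroup.mk_surjective tb
  set y := t0 * x * t0⁻¹ with hy
  have hyx : y * x ∈ N := by
    rw [← QuotientGroup.eq_one_iff, QuotientGroup.mk_mul]
    have : (y : G ⧸ N) = ((x : G ⧸ N))⁻¹ := hbt
    rw [this, inv_mul_cancel]
  have hyo : orderOf y = orderOf x := by
    have := orderOf_injective (MulAut.conj t0).toMonoidHom (MulAut.conj t0).injective x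
    rw [← this]; rfl
  have hsup : N ⊔ zpowers x = N ⊔ zpowers y := by
    apply le_antisymm
    · refine sup_le le_sup_left ?_
      rw [zpowers_le]
      have h1 : x = y⁻¹ * (y * x) := by group
      rw [h1]
      exact mul_mem (inv_mem (mem_sup_right (mem_zpowers y))) (mem_sup_left hyx)
    · refine sup_le le_sup_left ?_
      rw [zpowers_le]
      have h1 : y = (y * x) * x⁻¹ := by group
      rw [h1]
      exact mul_mem (mem_sup_left hyx) (inv_mem (mem_sup_right (mem_zpowers x)))
  have hcard : (Nat.card N).Coprime (orderOf x) := by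
    obtain ⟨k, hk⟩ := IsPGroup.iff_card.1 hNp
    rw [hk]
    exact Nat.Coprime.pow_left k hx.symm
  obtain ⟨a, haN, ha⟩ := SchurZassenhaus.conj_of_solvable_left (N := N) (H := zpowers x) (K := zpowers y)
    le_normalizer_of_normal le_normalizer_of_normal hsup (by rwa [Nat.card_zpowers])
    (by rwa [Nat.card_zpowers, hyo]) hNs
  set t := a⁻¹ * t0 with ht
  have htx : t * x * t⁻¹ ∈ zpowers x := by
    have h1 : y ∈ MulAut.conj a • zpowers x := by rw [ha]; exact mem_zpowers y
    rw [BaerSuzuki.mem_conj_smul_iff] at h1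
    have h2 : t * x * t⁻¹ = a⁻¹ * y * a := by rw [ht, hy]; group
    rw [h2]; exact h1
  have htt : (t : G ⧸ N) = t0 := by
    rw [ht, QuotientGroup.mk_mul]
    have : ((a⁻¹ : G) : G ⧸ N) = 1 := (QuotientGroup.eq_one_iff _).2 (inv_mem haN)
    rw [this, one_mul]
  have hmem : (t * x * t⁻¹) * x = 1 := by
    have h1 : (t * x * t⁻¹) * x ∈ N := by
      rw [← QuotientGroup.eq_one_iff, QuotientGroup.mk_mul, QuotientGroup.mk_mul, QuotientGroup.mk_mul,
        QuotientGroup.mk_inv, htt, hbt, inv_mul_cancel]
    have h2 : (t * x * t⁻¹) * x ∈ zpowers x := mul_mem htx (mem_zpowers x)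
    have h3 : N ⊓ zpowers x = ⊥ := SubgroupTools.inf_eq_bot_of_coprime' (by rwa [Nat.card_zpowers])
    have h4 : (t * x * t⁻¹) * x ∈ N ⊓ zpowers x := ⟨h1, h2⟩
    rwa [h3, mem_bot] at h4
  have h2el : ∃ k, orderOf t = 2 ^ k := by
    have h1 : t ^ 2 ∈ N := by
      rw [← QuotientGroup.eq_one_iff, QuotientGroup.mk_pow, htt, ← htb]
      exact pow_orderOf_eq_one _
    obtain ⟨k, hk⟩ := IsPGroup.iff_orderOf.1 hNp ⟨t ^ 2, h1⟩
    rw [Subgroup.orderOf_mk] at hk
    have h3 : t ^ 2 ^ (k + 1) = 1 := by
      rw [pow_succ', pow_mul, ← hk]; exact pow_orderOf_eq_one _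
    obtain ⟨j, _, hj⟩ := (Nat.dvd_prime_pow Nat.prime_two).1 (orderOf_dvd_of_pow_eq_one h3)
    exact ⟨j, hj⟩
  have hx1 := h t x h2el (Nat.coprime_two_right.1 hx) (eq_inv_of_mul_eq_one_left hmem)
  apply hb1
  rw [hx1]; rfl

/-- Class sizes in `⟨x, t⟩` when the 2-element `t` inverts the odd order element `x`. -/
theorem class_sizes_inverted {G : Type*} [Group G] [Finite G] {t x : G} (ht : ∃ k, orderOf t = 2 ^ k)
    (hx : Odd (orderOf x)) (htx : t * x * t⁻¹ = x⁻¹) (hx1 : x ≠ 1) :
    ∃ (H : Subgroup G) (a b : H), (centralizer ({a} : Set H)).index = 2 ∧ 1 < (centralizer ({b} : Set H)).index ∧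
      Odd (centralizer ({b} : Set H)).index := by
  classical
  have hxx : x⁻¹ ≠ x := by
    intro h
    apply hx1
    have h1 : x ^ 2 = 1 := by
      rw [pow_two]; nth_rewrite 1 [← h]; rw [inv_mul_cancel]
    have h2 := orderOf_dvd_of_pow_eq_one h1
    rw [← orderOf_eq_one_iff]
    exact Nat.eq_one_of_dvd_coprimes (Nat.coprime_two_left.2 hx) h2 dvd_rfl
  set H := zpowers x ⊔ zpowers t with hH
  have hxH : x ∈ H := mem_sup_left (mem_zpowers x)
  have htH : t ∈ H := mem_sup_right (mem_zpowers t)
  -- action on x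
  have hact : ∀ g ∈ H, g * x * g⁻¹ = x ∨ g * x * g⁻¹ = x⁻¹ := by
    let W : Subgroup G :=
      { carrier := {g | g * x * g⁻¹ = x ∨ g * x * g⁻¹ = x⁻¹}
        one_mem' := by left; group
        mul_mem' := by
          intro a b ha hb
          have e1 : a * b * x * (a * b)⁻¹ = a * (b * x * b⁻¹) * a⁻¹ := by group
          have e2 : a * x⁻¹ * a⁻¹ = (a * x * a⁻¹)⁻¹ := by group
          rcases ha with ha | ha <;> rcases hb with hb | hb
          · left; rw [e1, hb, ha]
          · right; rw [e1, hb, e2, ha]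
          · right; rw [e1, hb, ha]
          · left; rw [e1, hb, e2, ha, inv_inv]
        inv_mem' := by
          intro a ha
          rcases ha with ha | ha
          · left
            calc a⁻¹ * x * a⁻¹⁻¹ = a⁻¹ * (a * x * a⁻¹) * a⁻¹⁻¹ := by rw [ha]
              _ = x := by group
          · right
            have : x⁻¹ = a * x * a⁻¹ := ha.symm
            calc a⁻¹ * x * a⁻¹⁻¹ = (a⁻¹ * x⁻¹ * a)⁻¹ := by group
              _ = (a⁻¹ * (a * x * a⁻¹) * a)⁻¹ := by rw [this]
              _ = x⁻¹ := by group }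
    have hle : H ≤ W := by
      rw [hH]
      refine sup_le ?_ ?_
      · rw [zpowers_le]; left; group
      · rw [zpowers_le]; right; exact htx
    exact fun g hg => hle hg
  refine ⟨H, ⟨x, hxH⟩, ⟨t, htH⟩, ?_, ?_, ?_⟩
  · rw [Subgroup.index_eq_two_iff]
    refine ⟨⟨t, htH⟩, ?_⟩
    rintro ⟨b, hb⟩
    have key : ∀ c : H, c ∈ centralizer ({(⟨x, hxH⟩ : H)} : Set H) ↔ (c : G) * x * (c : G)⁻¹ = x := by
      rintro ⟨c, hc⟩
      rw [mem_centralizer_singleton_iff]
      constructor
      · intro h
        have h1 : c * x = x * c := congrArg Subtype.val h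
        show c * x * c⁻¹ = x
        rw [h1]; group
      · intro h
        apply Subtype.ext
        show c * x = x * c
        have h1 : c * x * c⁻¹ = x := h
        nth_rewrite 2 [← h1]
        group
    rw [key, key]
    show Xor (b * t * x * (b * t)⁻¹ = x) (b * x * b⁻¹ = x)
    have e1 : b * t * x * (b * t)⁻¹ = (b * x * b⁻¹)⁻¹ := by
      calc b * t * x * (b * t)⁻¹ = b * (t * x * t⁻¹) * b⁻¹ := by group
        _ = b * x⁻¹ * b⁻¹ := by rw [htx]
        _ = _ := by group
    rw [e1]
    rcases hact b hb with h | h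
    · right
      refine ⟨h, ?_⟩
      rw [h]; exact hxx
    · left
      refine ⟨by rw [h, inv_inv], ?_⟩
      rw [h]; exact hxx
  · have h0 : (centralizer ({(⟨t, htH⟩ : H)} : Set H)).index ≠ 0 := Subgroup.index_ne_zero_of_finite
    have h1 : (centralizer ({(⟨t, htH⟩ : H)} : Set H)).index ≠ 1 := by
      intro h
      rw [Subgroup.index_eq_one] at h
      have h2 : (⟨x, hxH⟩ : H) ∈ centralizer ({(⟨t, htH⟩ : H)} : Set H) := by rw [h]; trivial
      rw [mem_centralizer_singleton_iff] at h2
      have h3 : x * t = t * x := congrArg Subtype.val h2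
      apply hxx
      rw [← htx, ← h3]; group
    omega
  · have hnorm : zpowers t ≤ normalizer (zpowers x : Set G) := by
      rw [zpowers_le, Subgroup.mem_normalizer_iff]
      intro g
      constructor
      · rintro ⟨i, rfl⟩
        refine ⟨-i, ?_⟩
        show x ^ (-i) = t * x ^ i * t⁻¹
        rw [← conj_zpow, htx, inv_zpow, zpow_neg]
      · rintro ⟨i, hi⟩
        refine ⟨-i, ?_⟩
        have hi' : x ^ i = t * g * t⁻¹ := hi
        have e2 : t⁻¹ * x * t = x⁻¹ := by
          have : t⁻¹ * (t * x * t⁻¹)⁻¹ * t = x⁻¹ := by group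
          rw [htx, inv_inv] at this
          exact this
        show x ^ (-i) = g
        calc x ^ (-i) = (t⁻¹ * x * t) ^ i := by rw [e2, inv_zpow, zpow_neg]
          _ = (t⁻¹ * x * t⁻¹⁻¹) ^ i := by rw [inv_inv]
          _ = t⁻¹ * x ^ i * t⁻¹⁻¹ := conj_zpow
          _ = g := by rw [hi']; group
    have hcop : (Nat.card (zpowers x)).Coprime (Nat.card (zpowers t)) := by
      obtain ⟨k, hk⟩ := ht
      rw [Nat.card_zpowers, Nat.card_zpowers, hk]
      exact Nat.Coprime.pow_right k (Nat.coprime_two_right.2 hx)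
    have hcard : Nat.card H = orderOf x * orderOf t := by
      rw [hH, SubgroupTools.card_sup_of_coprime hnorm hcop, Nat.card_zpowers, Nat.card_zpowers]
    have h1 : zpowers (⟨t, htH⟩ : H) ≤ centralizer ({(⟨t, htH⟩ : H)} : Set H) := by
      rw [zpowers_le, mem_centralizer_singleton_iff]
    have h2 := Subgroup.index_dvd_of_le h1
    have h3 : (zpowers (⟨t, htH⟩ : H)).index = orderOf x := by
      have h4 := Subgroup.card_mul_index (zpowers (⟨t, htH⟩ : H))
      rw [Nat.card_zpowers, Subgroup.orderOf_mk, hcard, mul_comm] at h4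
      exact Nat.eq_of_mul_eq_mul_right (orderOf_pos t) h4
    rw [h3] at h2
    exact Odd.of_dvd_nat hx h2

end Cfsg.Agent.Lib.FourClass
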