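import Mathlib
import Cfsg.Prelude.Def_CaseTheorems
import Cfsg.Agent.Lib.SubgroupTools
import Cfsg.Agent.Lib.Supersolvable2
import Cfsg.Agent.Lib.GroupUtil
import Cfsg.Agent.Lib.SylowTools

set_option autoImplicit false

/-!
# Klein four-subgroups, their commuting graph, the 2-generated core

* `four a b`: the subgroup `{1, a, b, ab}` for commuting involutions.
* `exists_four_of_not_pRankLE`, `not_pRankLE_of_four`.
* `isFourConnected_of_normal`: S0502.
* `mem_core_of_inf`: `S ∩ S^y` of 2-rank at least 2 implies `y ∈ Γ_{S,2}(G)`.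
* `not_isFourConnected_iff`: S0520.
-/

namespace Cfsg.Agent.Lib.FourConn

open Subgroup
open scoped Pointwise
open Cfsg.Agent.Lib.SubgroupTools

variable {G : Type*} [Group G]

/-- The subgroup `{1, a, b, ab}` for commuting elements of order dividing 2. -/
def four (a b : G) (ha : a * a = 1) (hb : b * b = 1) (hab : a * b = b * a) : Subgroup G where
  carrier := {1, a, b, a * b}
  one_mem' := by simp
  mul_mem' := by
    intro x y hx hy
    have e1 : a * (a * b) = b := by rw [← mul_assoc, ha, one_mul]
    have e2 : b * (a * b) = a := by rw [hab, ← mul_assoc, hb, one_mul]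
    have e3 : a * b * a = b := by rw [hab, mul_assoc, ha, mul_one]
    have e4 : a * b * b = a := by rw [mul_assoc, hb, mul_one]
    have e5 : a * b * (a * b) = 1 := by rw [mul_assoc, e2, ha]
    simp only [Set.mem_insert_iff, Set.mem_singleton_iff] at hx hy ⊢
    rcases hx with hx | hx | hx | hx <;> rcases hy with hy | hy | hy | hy <;> rw [hx, hy]
    · left; rw [one_mul]
    · right; left; rw [one_mul]
    · right; right; left; rw [one_mul]
    · right; right; right; rw [one_mul]
    · right; left; rw [mul_one]
    · left; exact ha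
    · right; right; right; rfl
    · right; right; left; exact e1
    · right; right; left; rw [mul_one]
    · right; right; right; exact hab.symm
    · left; exact hb
    · right; left; exact e2
    · right; right; right; rw [mul_one]
    · right; right; left; exact e3
    · right; left; exact e4
    · left; exact e5
  inv_mem' := by
    intro x hx
    have ia : a⁻¹ = a := inv_eq_of_mul_eq_one_right ha
    have ib : b⁻¹ = b := inv_eq_of_mul_eq_one_right hb
    simp only [Set.mem_insert_iff, Set.mem_singleton_iff] at hx ⊢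
    rcases hx with hx | hx | hx | hx <;> rw [hx]
    · left; exact inv_one
    · right; left; exact ia
    · right; right; left; exact ib
    · right; right; right; rw [mul_inv_rev, ia, ib, ← hab]

theorem mem_four {a b : G} {ha : a * a = 1} {hb : b * b = 1} {hab : a * b = b * a} {x : G} :
    x ∈ four a b ha hb hab ↔ x = 1 ∨ x = a ∨ x = b ∨ x = a * b := Iff.rfl

theorem isKleinFour_four {a b : G} {ha : a * a = 1} {hb : b * b = 1} {hab : a * b = b * a}
    (ha1 : a ≠ 1) (hb1 : b ≠ 1) (hne : a ≠ b) : IsKleinFour (four a b ha hb hab) := by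
  classical
  have hab1 : a * b ≠ 1 := by
    intro h
    apply hne
    have : a = b⁻¹ := mul_eq_one_iff_eq_inv.mp h
    rw [this]
    exact inv_eq_of_mul_eq_one_right hb
  have haab : a ≠ a * b := fun h => hb1 (by simpa using h)
  have hbab : b ≠ a * b := fun h => ha1 (by simpa using h)
  have hcard : Nat.card (four a b ha hb hab) = 4 := by
    have h1 : ((four a b ha hb hab : Subgroup G) : Set G) = (({1, a, b, a * b} : Finset G) : Set G) := by
      ext x
      simp [mem_four]
    have h2 : Nat.card (four a b ha hb hab) = ((four a b ha hb hab : Subgroup G) : Set G).ncard :=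
      Nat.card_coe_set_eq _
    rw [h2, h1, Set.ncard_coe_finset]
    rw [Finset.card_insert_of_notMem, Finset.card_insert_of_notMem, Finset.card_insert_of_notMem,
      Finset.card_singleton]
    · simpa using hbab
    · simp only [Finset.mem_insert, Finset.mem_singleton, not_or]
      exact ⟨hne, haab⟩
    · simp only [Finset.mem_insert, Finset.mem_singleton, not_or]
      exact ⟨ha1.symm, hb1.symm, hab1.symm⟩
  refine ⟨hcard, ?_⟩
  have hdvd : Monoid.exponent (four a b ha hb hab) ∣ 2 := by
    rw [Monoid.exponent_dvd_iff_forall_pow_eq_one]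
    rintro ⟨x, hx⟩
    refine Subtype.ext ?_
    change x ^ 2 = 1
    rw [mem_four] at hx
    rcases hx with rfl | rfl | rfl | rfl
    · simp
    · rw [pow_two, ha]
    · rw [pow_two, hb]
    · rw [pow_two, mul_assoc, hab, ← mul_assoc b b a, hb, one_mul, ha]
  rcases (Nat.dvd_prime Nat.prime_two).mp hdvd with h | h
  · rw [Monoid.exp_eq_one_iff] at h
    rw [Nat.card_eq_one_iff_unique.mpr ⟨h, ⟨1⟩⟩] at hcard
    omega
  · exact h

theorem four_mul_self {U : Subgroup G} (hU : IsKleinFour U) {a : G} (ha : a ∈ U) : a * a = 1 :=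
  congrArg Subtype.val (IsKleinFour.mul_self (⟨a, ha⟩ : U))

theorem four_comm {U : Subgroup G} (hU : IsKleinFour U) {a b : G} (ha : a ∈ U) (hb : b ∈ U) : a * b = b * a := by
  have : IsMulCommutative U := IsKleinFour.isMulCommutative
  exact congrArg Subtype.val (this.is_comm.comm (⟨a, ha⟩ : U) ⟨b, hb⟩)

theorem isPGroup_four {U : Subgroup G} (hU : IsKleinFour U) : IsPGroup 2 U :=
  IsPGroup.of_card (n := 2) (IsKleinFour.card_four)

theorem isKleinFour_conj {U : Subgroup G} (hU : IsKleinFour U) (g : G) : IsKleinFour (MulAut.conj g • U : Subgroup G) := by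
  let e := Subgroup.equivSMul (MulAut.conj g) U
  refine ⟨by rw [← Nat.card_congr e.toEquiv]; exact IsKleinFour.card_four, ?_⟩
  rw [← Monoid.exponent_eq_of_mulEquiv e]
  exact IsKleinFour.exponent_two

/-- A Klein four-subgroup contains an element different from `1` and a given element. -/
theorem exists_mem_ne {U : Subgroup G} (hU : IsKleinFour U) (z : G) : ∃ t ∈ U, t ≠ 1 ∧ t ≠ z := by
  classical
  by_contra hcon
  push Not at hcon
  have hsub : (U : Set G) ⊆ (({1, z} : Finset G) : Set G) := by
    intro x hx
    by_cases h : x = 1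
    · simp [h]
    · simp [hcon x hx h]
  have h1 := Set.ncard_le_ncard hsub (Finset.finite_toSet _)
  rw [Set.ncard_coe_finset] at h1
  have h2 : (U : Set G).ncard = 4 := by
    rw [← Nat.card_coe_set_eq]
    exact IsKleinFour.card_four
  have h3 : ({1, z} : Finset G).card ≤ 2 := Finset.card_le_two
  omega

theorem exists_four_of_elementary {A : Subgroup G} (hA : IsMulCommutative A) (hA2 : ∀ a ∈ A, a ^ 2 = 1)
    (hcard : 2 < Nat.card A) : ∃ U : Subgroup G, U ≤ A ∧ IsKleinFour U := by
  classical
  have hcomm : ∀ a ∈ A, ∀ b ∈ A, a * b = b * a := fun a ha b hb =>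
    congrArg Subtype.val (hA.is_comm.comm (⟨a, ha⟩ : A) ⟨b, hb⟩)
  have hex : ∀ z : G, ∃ t ∈ A, t ≠ 1 ∧ t ≠ z := by
    intro z
    by_contra hcon
    push Not at hcon
    have hsub : (A : Set G) ⊆ (({1, z} : Finset G) : Set G) := by
      intro x hx
      by_cases h : x = 1
      · simp [h]
      · simp [hcon x hx h]
    have h1 := Set.ncard_le_ncard hsub (Finset.finite_toSet _)
    rw [Set.ncard_coe_finset] at h1
    have h2 : (A : Set G).ncard = Nat.card A := (Nat.card_coe_set_eq _).symm
    have h3 : ({1, z} : Finset G).card ≤ 2 := Finset.card_le_two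
    omega
  obtain ⟨a, ha, ha1, -⟩ := hex 1
  obtain ⟨b, hb, hb1, hba⟩ := hex a
  have haa : a * a = 1 := by rw [← pow_two]; exact hA2 a ha
  have hbb : b * b = 1 := by rw [← pow_two]; exact hA2 b hb
  refine ⟨four a b haa hbb (hcomm a ha b hb), ?_, isKleinFour_four ha1 hb1 hba.symm⟩
  intro x hx
  rcases mem_four.mp hx with rfl | rfl | rfl | rfl
  · exact A.one_mem
  · exact ha
  · exact hb
  · exact A.mul_mem ha hb

theorem exists_four_of_not_pRankLE (h : ¬ PRankLE 2 1 G) : ∃ U : Subgroup G, IsKleinFour U := by
  unfold PRankLE at h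
  push Not at h
  obtain ⟨A, hA, hA2, hc⟩ := h
  obtain ⟨U, -, hU⟩ := exists_four_of_elementary hA hA2 (by simpa using hc)
  exact ⟨U, hU⟩

theorem not_pRankLE_of_four {U : Subgroup G} (hU : IsKleinFour U) : ¬ PRankLE 2 1 G := by
  intro h
  have h1 := h U IsKleinFour.isMulCommutative (fun a ha => by rw [pow_two]; exact four_mul_self hU ha)
  rw [IsKleinFour.card_four] at h1
  omega

theorem isKleinFour_map_of_injective {G' : Type*} [Group G'] {f : G →* G'} (hf : Function.Injective f)
    {U : Subgroup G} (hU : IsKleinFour U) : IsKleinFour (U.map f) := by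
  let e := U.equivMapOfInjective f hf
  refine ⟨by rw [← Nat.card_congr e.toEquiv]; exact IsKleinFour.card_four, ?_⟩
  rw [← Monoid.exponent_eq_of_mulEquiv e]
  exact IsKleinFour.exponent_two

/-- Inside a subgroup `Q`: 2-rank at least 2 iff a Klein four-subgroup below `Q`. -/
theorem not_pRankLE_iff {Q : Subgroup G} : ¬ PRankLE 2 1 Q ↔ ∃ U : Subgroup G, U ≤ Q ∧ IsKleinFour U := by
  constructor
  · intro h
    obtain ⟨U, hU⟩ := exists_four_of_not_pRankLE h
    exact ⟨U.map Q.subtype, map_subtype_le U, isKleinFour_map_of_injective Q.subtype_injective hU⟩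
  · rintro ⟨U, hUQ, hU⟩
    have hU' : IsKleinFour (U.subgroupOf Q) := by
      let e := subgroupOfEquivOfLe hUQ
      refine ⟨by rw [Nat.card_congr e.toEquiv]; exact IsKleinFour.card_four, ?_⟩
      rw [Monoid.exponent_eq_of_mulEquiv e]
      exact IsKleinFour.exponent_two
    exact not_pRankLE_of_four hU'

/-- The relation of the commuting graph. -/
def Adj (A B : Subgroup G) : Prop := IsKleinFour A ∧ IsKleinFour B ∧ ∀ a ∈ A, ∀ b ∈ B, a * b = b * a

theorem Adj.symm {A B : Subgroup G} (h : Adj A B) : Adj B A :=
  ⟨h.2.1, h.1, fun b hb a ha => (h.2.2 a ha b hb).symm⟩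

theorem Adj.conj {A B : Subgroup G} (h : Adj A B) (g : G) : Adj (MulAut.conj g • A) (MulAut.conj g • B) := by
  refine ⟨isKleinFour_conj h.1 g, isKleinFour_conj h.2.1 g, ?_⟩
  rintro _ ⟨a, ha, rfl⟩ _ ⟨b, hb, rfl⟩
  change MulAut.conj g a * MulAut.conj g b = MulAut.conj g b * MulAut.conj g a
  rw [← map_mul, ← map_mul, h.2.2 a ha b hb]

/-- Connectedness of two four-subgroups. -/
def Conn (A B : Subgroup G) : Prop := Relation.ReflTransGen Adj A B

theorem Conn.symm {A B : Subgroup G} (h : Conn A B) : Conn B A :=
  haveI : Std.Symm (Adj (G := G)) := ⟨fun _ _ h => h.symm⟩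
  Relation.ReflTransGen.stdSymm.symm _ _ h

theorem Conn.trans {A B C : Subgroup G} (h : Conn A B) (h' : Conn B C) : Conn A C :=
  Relation.ReflTransGen.trans h h'

theorem Conn.conj {A B : Subgroup G} (h : Conn A B) (g : G) : Conn (MulAut.conj g • A) (MulAut.conj g • B) :=
  Relation.ReflTransGen.lift (fun X => MulAut.conj g • X) (fun _ _ h => Adj.conj h g) _ _ h

theorem isFourConnected_iff : IsFourConnected G ↔ ∀ U V : Subgroup G, IsKleinFour U → IsKleinFour V → Conn U V :=
  Iff.rfl

/-- S0502. -/
theorem isFourConnected_of_normal [Finite G] (hP : IsPGroup 2 G) (E : Subgroup G) [hEn : E.Normal]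
    (hE : IsMulCommutative E) (hE2 : ∀ e ∈ E, e ^ 2 = 1) (hE8 : 8 ≤ Nat.card E) : IsFourConnected G := by
  classical
  have hcomm : ∀ a ∈ E, ∀ b ∈ E, a * b = b * a := fun a ha b hb =>
    congrArg Subtype.val (hE.is_comm.comm (⟨a, ha⟩ : E) ⟨b, hb⟩)
  have hsq : ∀ e ∈ E, e * e = 1 := fun e he => by rw [← pow_two]; exact hE2 e he
  have hE1 : E ≠ ⊥ := by
    rintro rfl
    rw [Subgroup.card_bot] at hE8
    omega
  have hZ := Cfsg.Agent.Lib.Supersolvable.inf_centralizer_ne_bot (P := (⊤ : Subgroup G)) (K := E) (p := 2)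
    (hP.to_subgroup ⊤) le_top Subgroup.le_normalizer_of_normal hE1
  obtain ⟨z, hz, hz1⟩ := (Subgroup.bot_or_exists_ne_one _).resolve_left hZ
  have hzc : ∀ x : G, x * z = z * x := fun x => Subgroup.mem_centralizer_iff.mp hz.2 x (Subgroup.mem_top x)
  have hzE : z ∈ E := hz.1
  -- every four-subgroup is connected to one inside E
  have key : ∀ U : Subgroup G, IsKleinFour U → ∃ F : Subgroup G, F ≤ E ∧ IsKleinFour F ∧ Conn U F := by
    intro U hU
    obtain ⟨t, htU, ht1, htz⟩ := exists_mem_ne hU z
    have htt : t * t = 1 := four_mul_self hU htU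
    -- an element f of C_E(t) different from 1 and z
    have hf : ∃ f ∈ E, f * t = t * f ∧ f ≠ 1 ∧ f ≠ z := by
      by_contra hcon
      push Not at hcon
      let φ : E →* E := MonoidHom.mk' (fun e => ⟨(e : G) * (t * e * t⁻¹), E.mul_mem e.2 (hEn.conj_mem e e.2 t)⟩) (by
        intro a b
        refine Subtype.ext ?_
        change (a : G) * b * (t * (a * b) * t⁻¹) = (a * (t * a * t⁻¹)) * (b * (t * b * t⁻¹))
        have h1 : (b : G) * (t * a * t⁻¹) = (t * a * t⁻¹) * b := hcomm _ b.2 _ (hEn.conj_mem a a.2 t)
        calc (a : G) * b * (t * (a * b) * t⁻¹) = a * (b * (t * a * t⁻¹)) * (t * b * t⁻¹) := by group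
          _ = a * ((t * a * t⁻¹) * b) * (t * b * t⁻¹) := by rw [h1]
          _ = _ := by group)
      have hti : t⁻¹ = t := inv_eq_of_mul_eq_one_right htt
      have hker : ∀ e : E, e ∈ φ.ker → (e : G) * t = t * e := by
        intro e he
        have h1 : (e : G) * (t * e * t⁻¹) = 1 := congrArg Subtype.val (MonoidHom.mem_ker.mp he)
        have h2 : t * (e : G) * t⁻¹ = e := by
          have h3 : (e : G)⁻¹ = t * e * t⁻¹ := inv_eq_of_mul_eq_one_right h1
          rw [← h3]
          exact inv_eq_of_mul_eq_one_right (hsq e e.2)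
        calc (e : G) * t = (t * (e : G) * t⁻¹) * t := by rw [h2]
          _ = t * e := by group
      have hrange : ∀ e : E, e ∈ φ.range → (e : G) * t = t * e := by
        rintro _ ⟨e, rfl⟩
        change (e : G) * (t * e * t⁻¹) * t = t * (e * (t * e * t⁻¹))
        rw [hti]
        have h1 : (e : G) * (t * e * t) = (t * e * t) * e := by
          have := hcomm e e.2 _ (hEn.conj_mem e e.2 t)
          rwa [hti] at this
        calc (e : G) * (t * e * t) * t = e * (t * e) * (t * t) := by group
          _ = e * (t * e) := by rw [htt, mul_one]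
          _ = (t * t) * (e * (t * e)) := by rw [htt, one_mul]
          _ = t * ((t * e * t) * e) := by group
          _ = t * (e * (t * e * t)) := by rw [h1]
      have hsmall : ∀ K : Subgroup E, (∀ e ∈ K, (e : G) * t = t * e) → Nat.card K ≤ 2 := by
        intro K hK
        have hsub : ((K.map E.subtype : Subgroup G) : Set G) ⊆ (({1, z} : Finset G) : Set G) := by
          rintro _ ⟨e, he, rfl⟩
          by_cases h : (e : G) = 1
          · simp [h]
          · have := hcon e e.2 (hK e he) h
            simp [this]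
        have h1 := Set.ncard_le_ncard hsub (Finset.finite_toSet _)
        rw [Set.ncard_coe_finset] at h1
        have h2 : ((K.map E.subtype : Subgroup G) : Set G).ncard = Nat.card K := by
          rw [← Nat.card_coe_set_eq]
          exact Subgroup.card_map_of_injective E.subtype_injective
        have h3 : ({1, z} : Finset G).card ≤ 2 := Finset.card_le_two
        omega
      have h1 := hsmall φ.ker hker
      have h2 := hsmall φ.range hrange
      have h3 : Nat.card φ.range * Nat.card φ.ker = Nat.card E := by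
        rw [← Nat.card_congr (QuotientGroup.quotientKerEquivRange φ).toEquiv]
        exact (Subgroup.card_eq_card_quotient_mul_card_subgroup φ.ker).symm
      have h4 : Nat.card φ.range * Nat.card φ.ker ≤ 2 * 2 := Nat.mul_le_mul h2 h1
      omega
    obtain ⟨f, hfE, hft, hf1, hfz⟩ := hf
    have hzz := hsq z hzE
    have hff := hsq f hfE
    let W : Subgroup G := four t z htt hzz (hzc t)
    let F : Subgroup G := four z f hzz hff (hcomm z hzE f hfE)
    have hW : IsKleinFour W := isKleinFour_four ht1 hz1 htz
    have hF : IsKleinFour F := isKleinFour_four hz1 hf1 hfz.symm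
    refine ⟨F, ?_, hF, ?_⟩
    · intro x hx
      rcases mem_four.mp hx with rfl | rfl | rfl | rfl
      · exact E.one_mem
      · exact hzE
      · exact hfE
      · exact E.mul_mem hzE hfE
    · have hUW : Adj U W := by
        refine ⟨hU, hW, ?_⟩
        intro a ha b hb
        rcases mem_four.mp hb with rfl | rfl | rfl | rfl
        · simp
        · exact four_comm hU ha htU
        · exact hzc a
        · rw [← mul_assoc, four_comm hU ha htU, mul_assoc, hzc a, mul_assoc]
      have hWF : Adj W F := by
        refine ⟨hW, hF, ?_⟩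
        have h1 : ∀ a ∈ W, a * f = f * a := by
          intro a ha
          rcases mem_four.mp ha with rfl | rfl | rfl | rfl
          · simp
          · exact hft.symm
          · exact hcomm _ hzE f hfE
          · rw [mul_assoc, hcomm z hzE f hfE, ← mul_assoc, hft.symm, mul_assoc]
        intro a ha b hb
        rcases mem_four.mp hb with rfl | rfl | rfl | rfl
        · simp
        · exact hzc a
        · exact h1 a ha
        · rw [← mul_assoc, hzc a, mul_assoc, h1 a ha, mul_assoc]
      exact Relation.ReflTransGen.head hUW (Relation.ReflTransGen.single hWF)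
  intro U V hU hV
  obtain ⟨F, hFE, hF, hUF⟩ := key U hU
  obtain ⟨F', hF'E, hF', hVF'⟩ := key V hV
  have hFF' : Conn F F' := Relation.ReflTransGen.single ⟨hF, hF', fun a ha b hb => hcomm a (hFE ha) b (hF'E hb)⟩
  exact (hUF.trans hFF').trans hVF'.symm

/-- The 2-generated core of a subgroup `S`. -/
def core (S : Subgroup G) : Subgroup G :=
  ⨆ Q : {Q : Subgroup G // Q ≤ S ∧ ¬ PRankLE 2 1 Q}, normalizer ((Q : Subgroup G) : Set G)

theorem normalizer_le_core {S Q U : Subgroup G} (hQ : Q ≤ S) (hUQ : U ≤ Q) (hU : IsKleinFour U) :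
    normalizer (Q : Set G) ≤ core S :=
  le_iSup (fun Q : {Q : Subgroup G // Q ≤ S ∧ ¬ PRankLE 2 1 Q} => normalizer ((Q : Subgroup G) : Set G))
    ⟨Q, hQ, not_pRankLE_iff.mpr ⟨U, hUQ, hU⟩⟩

/-- If `S ∩ S^y` contains a Klein four-group then `y` lies in the 2-generated core. -/
theorem mem_core_of_inf [Finite G] (S : Sylow 2 G) (n : ℕ) : ∀ y : G,
    Nat.card G - Nat.card ((S : Subgroup G) ⊓ MulAut.conj y • (S : Subgroup G) : Subgroup G) = n →
    (∃ U : Subgroup G, U ≤ (S : Subgroup G) ⊓ MulAut.conj y • (S : Subgroup G) ∧ IsKleinFour U) →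
    y ∈ core (S : Subgroup G) := by
  induction n using Nat.strong_induction_on with
  | _ n ih =>
    rintro y hn ⟨U, hUD, hU⟩
    set D : Subgroup G := (S : Subgroup G) ⊓ MulAut.conj y • (S : Subgroup G) with hD
    have hUS : U ≤ (S : Subgroup G) := hUD.trans inf_le_left
    have hcardeq : Nat.card (MulAut.conj y • (S : Subgroup G) : Subgroup G) = Nat.card (S : Subgroup G) :=
      card_conj_smul y _
    by_cases hSy : (S : Subgroup G) ≤ MulAut.conj y • (S : Subgroup G)
    · have heq : MulAut.conj y • (S : Subgroup G) = S :=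
        (Subgroup.eq_of_le_of_card_ge hSy hcardeq.le).symm
      exact normalizer_le_core le_rfl hUS hU (mem_normalizer_iff_conj_smul.mpr heq)
    have hDS : D < (S : Subgroup G) := lt_of_le_of_ne inf_le_left (fun h => hSy (inf_eq_left.mp h))
    have hDSy : D < MulAut.conj y • (S : Subgroup G) := by
      refine lt_of_le_of_ne inf_le_right (fun h => ?_)
      have h1 : MulAut.conj y • (S : Subgroup G) ≤ S := inf_eq_right.mp h
      have h2 := Subgroup.eq_of_le_of_card_ge h1 hcardeq.ge
      exact hSy h2.ge
    have hSyp : IsPGroup 2 (MulAut.conj y • (S : Subgroup G) : Subgroup G) :=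
      S.2.of_equiv (Subgroup.equivSMul (MulAut.conj y) (S : Subgroup G))
    have h1 := Cfsg.Agent.Lib.GroupUtil.lt_inf_normalizer_of_isPGroup S.2 hDS
    have h2 := Cfsg.Agent.Lib.GroupUtil.lt_inf_normalizer_of_isPGroup hSyp hDSy
    have hNcore : normalizer (D : Set G) ≤ core (S : Subgroup G) := normalizer_le_core hDS.le hUD hU
    -- a Sylow 2-subgroup of N(D) above N_S(D)
    set A : Subgroup G := (S : Subgroup G) ⊓ normalizer (D : Set G) with hA
    set B : Subgroup G := (MulAut.conj y • (S : Subgroup G)) ⊓ normalizer (D : Set G) with hB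
    have hAp : IsPGroup 2 (A.subgroupOf (normalizer (D : Set G))) := (S.2.to_le inf_le_left).comap_subtype
    obtain ⟨T₀, hT₀⟩ := hAp.exists_le_sylow
    set T : Subgroup G := (T₀ : Subgroup (normalizer (D : Set G))).map (normalizer (D : Set G)).subtype with hT
    have hTN : T ≤ normalizer (D : Set G) := map_subtype_le _
    have hTp : IsPGroup 2 T := T₀.2.map _
    have hAT : A ≤ T := by
      intro x hx
      exact ⟨⟨x, hx.2⟩, hT₀ hx, rfl⟩
    have hTidx : ¬ 2 ∣ T.relIndex (normalizer (D : Set G)) := by
      have : T.subgroupOf (normalizer (D : Set G)) = T₀ :=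
        Subgroup.comap_map_eq_self_of_injective (Subgroup.subtype_injective _) _
      rw [Subgroup.relIndex, this]
      exact T₀.not_dvd_index
    obtain ⟨k, hk, hkB⟩ := Cfsg.Agent.Lib.SylowTools.conj_into_of_sylow_of_subgroup hTN hTp hTidx
      (inf_le_right : B ≤ normalizer (D : Set G)) (hSyp.to_le inf_le_left)
    have hkB' : MulAut.conj k • B ≤ T := by
      rintro _ ⟨b, hb, rfl⟩
      exact hkB b hb
    -- T lies in a conjugate of S
    obtain ⟨w, hw⟩ := Cfsg.Agent.Lib.SylowTools.conj_into_sylow S hTp
    have hTw : T ≤ MulAut.conj w⁻¹ • (S : Subgroup G) := by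
      intro x hx
      rw [mem_conj_smul]
      simpa using hw x hx
    have hUA : U ≤ A := le_inf hUS (hUD.trans Subgroup.le_normalizer)
    have hmono : ∀ X : Subgroup G, D < X → Nat.card D < Nat.card X := fun X h =>
      lt_of_le_of_ne (Subgroup.card_le_of_le h.le) (fun he => h.ne (Subgroup.eq_of_le_of_card_ge h.le he.ge))
    have hcardle : ∀ X : Subgroup G, Nat.card X ≤ Nat.card G := fun X => Subgroup.card_le_card_group X
    -- w⁻¹ ∈ core
    have hA1 : A ≤ (S : Subgroup G) ⊓ MulAut.conj w⁻¹ • (S : Subgroup G) := le_inf inf_le_left (hAT.trans hTw)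
    have hwc : w⁻¹ ∈ core (S : Subgroup G) := by
      refine ih _ ?_ w⁻¹ rfl ⟨U, hUA.trans hA1, hU⟩
      have h3 := hmono _ (h1.trans_le hA1)
      have h4 := hcardle ((S : Subgroup G) ⊓ MulAut.conj w⁻¹ • (S : Subgroup G))
      omega
    -- w * k * y ∈ core
    have hB1 : MulAut.conj w • (MulAut.conj k • B) ≤
        (S : Subgroup G) ⊓ MulAut.conj (w * k * y) • (S : Subgroup G) := by
      refine le_inf ?_ ?_
      · rw [conj_smul_le_iff]
        exact hkB'.trans hTw
      · rw [conj_smul_mul, conj_smul_mul]
        exact conj_smul_mono w (conj_smul_mono k inf_le_left)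
    have hcB : Nat.card (MulAut.conj w • (MulAut.conj k • B) : Subgroup G) = Nat.card B := by
      rw [card_conj_smul, card_conj_smul]
    have hUB : U ≤ B := le_inf (hUD.trans inf_le_right) (hUD.trans Subgroup.le_normalizer)
    have hwky : w * k * y ∈ core (S : Subgroup G) := by
      refine ih _ ?_ (w * k * y) rfl ⟨MulAut.conj w • (MulAut.conj k • U), ?_,
        isKleinFour_conj (isKleinFour_conj hU k) w⟩
      · have h3 := hmono _ h2
        have h4 := Subgroup.card_le_of_le hB1
        rw [hcB] at h4
        have h5 := hcardle ((S : Subgroup G) ⊓ MulAut.conj (w * k * y) • (S : Subgroup G))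
        omega
      · exact (conj_smul_mono w (conj_smul_mono k hUB)).trans hB1
    have hy : y = (w * k)⁻¹ * (w * k * y) := by group
    rw [hy]
    refine Subgroup.mul_mem _ (Subgroup.inv_mem _ (Subgroup.mul_mem _ ?_ (hNcore hk))) hwky
    have := Subgroup.inv_mem _ hwc
    rwa [inv_inv] at this

/-- S0520. -/
theorem not_isFourConnected_iff [Finite G] (h2 : ¬ PRankLE 2 1 G) (S : Sylow 2 G)
    (hS : IsFourConnected (S : Subgroup G)) : ¬ IsFourConnected G ↔ core (S : Subgroup G) ≠ ⊤ := by
  rw [not_iff_comm, not_not]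
  -- a four-subgroup of S
  obtain ⟨U₁, hU₁⟩ := exists_four_of_not_pRankLE h2
  obtain ⟨g₁, hg₁⟩ := Cfsg.Agent.Lib.SylowTools.conj_into_sylow S (isPGroup_four hU₁)
  set U : Subgroup G := MulAut.conj g₁ • U₁ with hUdef
  have hU : IsKleinFour U := isKleinFour_conj hU₁ g₁
  have hUS : U ≤ (S : Subgroup G) := by
    rintro _ ⟨x, hx, rfl⟩
    exact hg₁ x hx
  -- four-subgroups of S are connected in G
  have hSconn : ∀ A B : Subgroup G, A ≤ (S : Subgroup G) → B ≤ (S : Subgroup G) → IsKleinFour A →
      IsKleinFour B → Conn A B := by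
    intro A B hA hB hA4 hB4
    have hmap : ∀ X : Subgroup G, X ≤ (S : Subgroup G) → IsKleinFour X → IsKleinFour (X.subgroupOf (S : Subgroup G)) := by
      intro X hX hX4
      let e := subgroupOfEquivOfLe hX
      refine ⟨by rw [Nat.card_congr e.toEquiv]; exact IsKleinFour.card_four, ?_⟩
      rw [Monoid.exponent_eq_of_mulEquiv e]
      exact IsKleinFour.exponent_two
    have h := hS _ _ (hmap A hA hA4) (hmap B hB hB4)
    have h' : Conn ((A.subgroupOf (S : Subgroup G)).map (S : Subgroup G).subtype)
        ((B.subgroupOf (S : Subgroup G)).map (S : Subgroup G).subtype) := by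
      refine Relation.ReflTransGen.lift (fun X : Subgroup (S : Subgroup G) => X.map (S : Subgroup G).subtype) ?_ _ _ h
      rintro X Y ⟨hX, hY, hXY⟩
      refine ⟨isKleinFour_map_of_injective (Subgroup.subtype_injective _) hX,
        isKleinFour_map_of_injective (Subgroup.subtype_injective _) hY, ?_⟩
      rintro _ ⟨a, ha, rfl⟩ _ ⟨b, hb, rfl⟩
      exact congrArg Subtype.val (hXY a ha b hb)
    rwa [map_subgroupOf_eq_of_le hA, map_subgroupOf_eq_of_le hB] at h'
  constructor
  · -- core = ⊤ implies connected
    intro htop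
    have hstab : ∀ g ∈ core (S : Subgroup G), Conn U (MulAut.conj g • U) := by
      intro g hg
      -- the stabilizer of the component
      let St : Subgroup G :=
        { carrier := {g | Conn U (MulAut.conj g • U)}
          one_mem' := by
            change Conn U (MulAut.conj (1 : G) • U)
            rw [conj_smul_one]
            exact Relation.ReflTransGen.refl
          mul_mem' := by
            intro a b ha hb
            change Conn U (MulAut.conj (a * b) • U)
            rw [conj_smul_mul]
            exact Conn.trans ha (Conn.conj hb a)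
          inv_mem' := by
            intro a ha
            change Conn U (MulAut.conj a⁻¹ • U)
            have := Conn.conj ha a⁻¹
            rw [← conj_smul_mul a⁻¹ a U, inv_mul_cancel, conj_smul_one] at this
            exact this.symm }
      have hle : core (S : Subgroup G) ≤ St := by
        refine iSup_le ?_
        rintro ⟨Q, hQS, hQ⟩ x hx
        obtain ⟨V, hVQ, hV⟩ := not_pRankLE_iff.mp hQ
        have h1 : MulAut.conj x • V ≤ (S : Subgroup G) := by
          have : MulAut.conj x • V ≤ MulAut.conj x • Q := conj_smul_mono x hVQ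
          rw [conj_smul_of_mem_normalizer hx] at this
          exact this.trans hQS
        have h2 : Conn U V := hSconn U V hUS (hVQ.trans hQS) hU hV
        have h3 : Conn U (MulAut.conj x • V) := hSconn _ _ hUS h1 hU (isKleinFour_conj hV x)
        exact h3.trans (Conn.conj h2.symm x)
      exact hle hg
    have hall : ∀ V : Subgroup G, IsKleinFour V → Conn U V := by
      intro V hV
      obtain ⟨g, hg⟩ := Cfsg.Agent.Lib.SylowTools.conj_into_sylow S (isPGroup_four hV)
      have h1 : MulAut.conj g • V ≤ (S : Subgroup G) := by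
        rintro _ ⟨x, hx, rfl⟩
        exact hg x hx
      have h2 : Conn U (MulAut.conj g • V) := hSconn _ _ hUS h1 hU (isKleinFour_conj hV g)
      have h3 := Conn.conj h2 g⁻¹
      rw [← conj_smul_mul g⁻¹ g V, inv_mul_cancel, conj_smul_one] at h3
      exact (hstab g⁻¹ (htop ▸ Subgroup.mem_top _)).trans h3
    intro A B hA hB
    exact (hall A hA).symm.trans (hall B hB)
  · -- connected implies core = ⊤
    intro hconn
    have hScore : (S : Subgroup G) ≤ core (S : Subgroup G) :=
      Subgroup.le_normalizer.trans (normalizer_le_core le_rfl hUS hU)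
    have hgood : ∀ V : Subgroup G, Conn U V → ∃ m ∈ core (S : Subgroup G), MulAut.conj m • V ≤ (S : Subgroup G) := by
      intro V hV
      induction hV with
      | refl => exact ⟨1, Subgroup.one_mem _, by rw [conj_smul_one]; exact hUS⟩
      | @tail W V _ hWV ih =>
        obtain ⟨m, hm, hmW⟩ := ih
        have hadj := Adj.conj hWV m
        have hle : MulAut.conj m • V ≤ core (S : Subgroup G) := by
          refine le_trans ?_ (normalizer_le_core hmW le_rfl hadj.1)
          rw [Subgroup.le_normalizer_iff]
          intro x hx y hy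
          rw [← hadj.2.2 y hy x hx, mul_assoc, mul_inv_cancel, mul_one]
          exact hy
        obtain ⟨k, hk, hkV⟩ := Cfsg.Agent.Lib.SylowTools.conj_into_of_sylow_of_subgroup hScore S.2
          (Cfsg.Agent.Lib.SylowTools.not_dvd_relIndex_of_sylow S hScore) hle (isPGroup_four hadj.2.1)
        refine ⟨k * m, Subgroup.mul_mem _ hk hm, ?_⟩
        rw [conj_smul_mul]
        rintro _ ⟨x, hx, rfl⟩
        exact hkV x hx
    rw [Subgroup.eq_top_iff']
    intro g
    obtain ⟨m, hm, hmU⟩ := hgood _ (hconn U (MulAut.conj g • U) hU (isKleinFour_conj hU g))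
    have h1 : (m * g)⁻¹ ∈ core (S : Subgroup G) := by
      refine mem_core_of_inf S _ _ rfl ⟨U, le_inf hUS ?_, hU⟩
      rw [← conj_smul_mul m g U] at hmU
      rwa [conj_smul_le_iff] at hmU
    have h2 : g = m⁻¹ * ((m * g)⁻¹)⁻¹ := by group
    rw [h2]
    exact Subgroup.mul_mem _ (Subgroup.inv_mem _ hm) (Subgroup.inv_mem _ h1)

end Cfsg.Agent.Lib.FourConn
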