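import Mathlib
import Cfsg.Agent.Lib.ClassTwo67
import Cfsg.Agent.Lib.ExpFour

/-!
(helper67) Fixed-point-free automorphisms of order three: the group has class at most two.
-/

set_option autoImplicit false

namespace Cfsg.Agent.Lib.FpfThree67

open scoped commutatorElement
open Cfsg.Agent.Lib.ClassTwo67

universe u

variable {N : Type u} [Group N]

section
variable [Finite N] {φ : MulAut N} (h3 : ∀ x, φ (φ (φ x)) = x) (hfpf : ∀ x, φ x = x → x = 1)
include hfpf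

theorem exists_eq_inv_mul (x : N) : ∃ c : N, x = c⁻¹ * φ c := by
  have hinj : Function.Injective (fun c : N => c⁻¹ * φ c) := by
    intro a b hab
    have h1 : a⁻¹ * φ a = b⁻¹ * φ b := hab
    have h2 : φ (a * b⁻¹) = a * b⁻¹ := by
      rw [map_mul, map_inv]
      have h4 : φ a = a * (b⁻¹ * φ b) := by rw [← h1]; group
      rw [h4]; group
    have h3 := hfpf _ h2
    exact mul_inv_eq_one.1 h3
  obtain ⟨c, hc⟩ := (Finite.injective_iff_surjective.1 hinj) x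
  exact ⟨c, hc.symm⟩

theorem exists_eq_mul_inv (x : N) : ∃ c : N, x = c * (φ c)⁻¹ := by
  obtain ⟨c, hc⟩ := exists_eq_inv_mul hfpf x
  exact ⟨c⁻¹, by rw [hc, map_inv, inv_inv]⟩

include h3

theorem norm_eq_one (x : N) : x * φ x * φ (φ x) = 1 := by
  obtain ⟨c, rfl⟩ := exists_eq_inv_mul hfpf x
  simp only [map_mul, map_inv, h3]
  group

theorem commute_phi (x : N) : x * φ x = φ x * x := by
  have h1 : ∀ x, x * φ (φ x) * φ x = 1 := by
    intro x
    have hf : ∀ x, (φ * φ) x = x → x = 1 := by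
      intro x hx
      apply hfpf
      have h2 : φ (φ x) = x := hx
      have h4 := h3 x
      rw [h2] at h4
      exact h4
    have hh3 : ∀ x, (φ * φ) ((φ * φ) ((φ * φ) x)) = x := by
      intro x
      simp only [MulAut.mul_apply, h3]
    have h2 := norm_eq_one (φ := φ * φ) hh3 hf x
    simp only [MulAut.mul_apply, h3] at h2
    exact h2
  have h2 := norm_eq_one h3 hfpf (φ (φ x))
  have h4 := h1 (φ (φ x))
  simp only [h3] at h2 h4
  have h5 : φ (φ x) * (x * φ x) = φ (φ x) * (φ x * x) := by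
    rw [← mul_assoc, ← mul_assoc, h2, h4]
  exact mul_left_cancel h5

/-- `x` commutes with the conjugates of `φ x`. -/
theorem commute_conj_phi (x g : N) : Commute x (g * φ x * g⁻¹) := by
  obtain ⟨c, rfl⟩ := exists_eq_mul_inv hfpf g
  have h1 := commute_phi h3 hfpf (c⁻¹ * x * c)
  rw [map_mul, map_mul, map_inv] at h1
  show x * (c * (φ c)⁻¹ * φ x * (c * (φ c)⁻¹)⁻¹) = (c * (φ c)⁻¹ * φ x * (c * (φ c)⁻¹)⁻¹) * x
  calc x * (c * (φ c)⁻¹ * φ x * (c * (φ c)⁻¹)⁻¹)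
      = c * ((c⁻¹ * x * c) * ((φ c)⁻¹ * φ x * φ c)) * c⁻¹ := by group
    _ = c * (((φ c)⁻¹ * φ x * φ c) * (c⁻¹ * x * c)) * c⁻¹ := by rw [h1]
    _ = _ := by group

theorem commute_conj_phi2 (x g : N) : Commute x (g * φ (φ x) * g⁻¹) := by
  have h1 := commute_conj_phi h3 hfpf (φ (φ x)) g⁻¹
  rw [h3] at h1
  have h2 : Commute (φ (φ x)) (g⁻¹ * x * g) := by simpa using h1
  show x * (g * φ (φ x) * g⁻¹) = (g * φ (φ x) * g⁻¹) * x
  calc x * (g * φ (φ x) * g⁻¹) = g * ((g⁻¹ * x * g) * φ (φ x)) * g⁻¹ := by group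
    _ = g * (φ (φ x) * (g⁻¹ * x * g)) * g⁻¹ := by rw [h2.eq]
    _ = _ := by group

theorem commute_conj_self (x g : N) : Commute x (g * x * g⁻¹) := by
  have h1 := (commute_conj_phi h3 hfpf x g).mul_right (commute_conj_phi2 h3 hfpf x g)
  have h2 : (g * φ x * g⁻¹) * (g * φ (φ x) * g⁻¹) = (g * x * g⁻¹)⁻¹ := by
    have h4 : φ x * φ (φ x) = x⁻¹ := by
      have := norm_eq_one h3 hfpf x
      rw [mul_assoc] at this
      exact (inv_eq_of_mul_eq_one_right this).symm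
    calc (g * φ x * g⁻¹) * (g * φ (φ x) * g⁻¹) = g * (φ x * φ (φ x)) * g⁻¹ := by group
      _ = g * x⁻¹ * g⁻¹ := by rw [h4]
      _ = _ := by group
  rw [h2] at h1
  exact (Commute.inv_right_iff).1 h1

/-- The normal closure of the `φ`-orbit of `a` is abelian, `φ`-invariant. -/
theorem exists_abelian_normal (a : N) : ∃ M : Subgroup N, M.Normal ∧ a ∈ M ∧ (∀ x ∈ M, φ x ∈ M) ∧
    ∀ x ∈ M, ∀ y ∈ M, x * y = y * x := by
  set S : Set N := {a, φ a, φ (φ a)} with hS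
  have hSφ : ∀ s ∈ S, φ s ∈ S := by
    intro s hs
    rcases hs with rfl | rfl | rfl
    · simp [hS]
    · simp [hS]
    · rw [h3]; simp [hS]
  have hcomm : ∀ s ∈ S, ∀ t ∈ S, ∀ g : N, Commute s (g * t * g⁻¹) := by
    intro s hs t ht g
    have key : t = s ∨ t = φ s ∨ t = φ (φ s) := by
      rcases hs with rfl | rfl | rfl <;> rcases ht with rfl | rfl | rfl <;> simp [h3]
    rcases key with rfl | rfl | rfl
    · exact commute_conj_self h3 hfpf t g
    · exact commute_conj_phi h3 hfpf s g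
    · exact commute_conj_phi2 h3 hfpf s g
  refine ⟨Subgroup.normalClosure S, inferInstance, Subgroup.subset_normalClosure (by simp [hS]), ?_, ?_⟩
  · have h1 : Subgroup.normalClosure S ≤ (Subgroup.normalClosure S).comap (φ : N →* N) := by
      have hn : ((Subgroup.normalClosure S).comap (φ : N →* N)).Normal := inferInstance
      apply Subgroup.normalClosure_le_normal
      intro s hs
      exact Subgroup.subset_normalClosure (hSφ s hs)
    intro x hx
    exact h1 hx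
  · have h1 : ∀ x ∈ Group.conjugatesOfSet S, ∀ y ∈ Group.conjugatesOfSet S, x * y = y * x := by
      intro x hx y hy
      obtain ⟨s, hs, hsx⟩ := Group.mem_conjugatesOfSet_iff.1 hx
      obtain ⟨t, ht, hty⟩ := Group.mem_conjugatesOfSet_iff.1 hy
      obtain ⟨g, rfl⟩ := isConj_iff.1 hsx
      obtain ⟨k, rfl⟩ := isConj_iff.1 hty
      have h2 := hcomm s hs t ht (g⁻¹ * k)
      have h4 : s * (g⁻¹ * k * t * (g⁻¹ * k)⁻¹) = (g⁻¹ * k * t * (g⁻¹ * k)⁻¹) * s := h2.eq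
      calc g * s * g⁻¹ * (k * t * k⁻¹) = g * (s * (g⁻¹ * k * t * (g⁻¹ * k)⁻¹)) * g⁻¹ := by group
        _ = g * ((g⁻¹ * k * t * (g⁻¹ * k)⁻¹) * s) * g⁻¹ := by rw [h4]
        _ = _ := by group
    have h2 : ∀ x ∈ Group.conjugatesOfSet S, ∀ y ∈ Subgroup.normalClosure S, x * y = y * x := by
      intro x hx
      have h4 : Subgroup.normalClosure S ≤ Subgroup.centralizer {x} := by
        unfold Subgroup.normalClosure
        rw [Subgroup.closure_le]
        intro y hy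
        show y ∈ Subgroup.centralizer {x}
        rw [Subgroup.mem_centralizer_singleton_iff]
        exact h1 y hy x hx
      intro y hy
      exact (Subgroup.mem_centralizer_singleton_iff.1 (h4 hy)).symm
    intro x hx y hy
    have h4 : Subgroup.normalClosure S ≤ Subgroup.centralizer {y} := by
      have h5 : Subgroup.closure (Group.conjugatesOfSet S) ≤ Subgroup.centralizer {y} := by
        rw [Subgroup.closure_le]
        intro z hz
        show z ∈ Subgroup.centralizer {y}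
        rw [Subgroup.mem_centralizer_singleton_iff]
        exact h2 z hz y hy
      exact h5
    exact Subgroup.mem_centralizer_singleton_iff.1 (h4 hx)

/-- **Neumann**: a finite group with a fixed-point-free automorphism of order 3 has class at most 2. -/
theorem class_two (h k a : N) : ⁅h, ⁅k, a⁆⁆ = 1 := by
  obtain ⟨M, hM, haM, hφM, hMc⟩ := exists_abelian_normal h3 hfpf a
  have hK : ∀ g : N, ∀ m ∈ M, ⁅g, m⁆ ∈ M := by
    intro g m hm
    rw [commutatorElement_def]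
    exact M.mul_mem (hM.conj_mem m hm g) (M.inv_mem hm)
  -- `K(h, φ m) = K(φ h, m)`
  have hR0 : ∀ g : N, ∀ m ∈ M, ⁅g⁻¹, φ m⁆ = ⁅(φ g)⁻¹, m⁆ := by
    intro g m hm
    have h1 := commute_phi h3 hfpf (m * g⁻¹)
    rw [map_mul, map_inv] at h1
    have h2 := commute_phi h3 hfpf g
    have hφm := hφM m hm
    have h4 : m * (g⁻¹ * φ m * g) * (g⁻¹ * (φ g)⁻¹) = φ m * ((φ g)⁻¹ * m * φ g) * ((φ g)⁻¹ * g⁻¹) := by
      calc m * (g⁻¹ * φ m * g) * (g⁻¹ * (φ g)⁻¹) = m * g⁻¹ * (φ m * (φ g)⁻¹) := by group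
        _ = φ m * (φ g)⁻¹ * (m * g⁻¹) := h1
        _ = _ := by group
    have h5 : g⁻¹ * (φ g)⁻¹ = (φ g)⁻¹ * g⁻¹ := by
      rw [← mul_inv_rev, ← mul_inv_rev, h2]
    rw [h5] at h4
    have h6 : m * (g⁻¹ * φ m * g) = φ m * ((φ g)⁻¹ * m * φ g) := mul_right_cancel h4
    have hx : g⁻¹ * φ m * g ∈ M := by
      have := hM.conj_mem _ hφm g⁻¹
      simpa using this
    have hy : (φ g)⁻¹ * m * φ g ∈ M := by
      have := hM.conj_mem _ hm (φ g)⁻¹
      simpa using this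
    rw [commutatorElement_def, commutatorElement_def, inv_inv, inv_inv]
    have h8 : g⁻¹ * φ m * g * m = (φ g)⁻¹ * m * φ g * φ m := by
      rw [hMc _ hx _ hm, hMc _ hy _ hφm, h6]
    have h9 : g⁻¹ * φ m * g = (φ g)⁻¹ * m * φ g * φ m * m⁻¹ := by
      rw [← h8]; group
    rw [h9, mul_assoc ((φ g)⁻¹ * m * φ g), hMc _ hφm _ (M.inv_mem hm)]
    group
  have hR : ∀ g : N, ∀ m ∈ M, ⁅φ g, m⁆ = ⁅g, φ m⁆ := by
    intro g m hm
    have := hR0 g⁻¹ m hm
    rw [map_inv, inv_inv, inv_inv] at this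
    exact this.symm
  have hmulK : ∀ g l : N, ∀ m ∈ M, ⁅g * l, m⁆ = ⁅g, ⁅l, m⁆⁆ * ⁅l, m⁆ * ⁅g, m⁆ := by
    intro g l m _
    simp only [commutatorElement_def]
    group
  have hE : ∀ g : N, ∀ m ∈ M, φ ⁅g, m⁆ = ⁅g, φ (φ m)⁆ := by
    intro g m hm
    rw [map_commutatorElement, hR g _ (hφM m hm)]
  have hE1 : ∀ m ∈ M, φ ⁅h, ⁅k, m⁆⁆ = ⁅h, ⁅k, φ m⁆⁆ := by
    intro m hm
    rw [hE _ _ (hK k m hm), hE _ _ hm, hE _ _ (hφM _ (hφM _ hm)), h3]
  have hE2 : ∀ m ∈ M, ⁅h, ⁅k, φ m⁆⁆ = ⁅h, ⁅k, φ (φ m)⁆⁆ := by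
    intro m hm
    have h1 := hE (h * k) m hm
    rw [hmulK h k m hm, hmulK h k _ (hφM _ (hφM _ hm)), map_mul, map_mul, hE1 m hm, hE k m hm, hE h m hm] at h1
    exact mul_right_cancel (mul_right_cancel h1)
  have h1 := hE2 (φ (φ a)) (hφM _ (hφM _ haM))
  rw [h3] at h1
  apply hfpf
  rw [hE1 a haM, ← h1]

theorem comm_mem_center (a b : N) : ⁅a, b⁆ ∈ Subgroup.center N := by
  rw [Subgroup.mem_center_iff]
  intro g
  exact commutatorElement_eq_one_iff_mul_comm.1 (class_two h3 hfpf g a b)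

end

section S3

theorem aux1 {Z : Type*} [Group Z] (hc : ∀ a b : Z, a * b = b * a) (a b c d e f g h i j : Z) :
    a * b * c * (d * e * f) * (g * h * (i * j)) = (a * d * g) * (b * e * j) * (c * f * h * i) := by
  have : Std.Commutative (fun a b : Z => a * b) := ⟨hc⟩
  ac_rfl

theorem aux2 {Z : Type*} [Group Z] (hc : ∀ a b : Z, a * b = b * a) (a b c d : Z) :
    (a * c) * (b * d) = a * b * c * d := by
  have : Std.Commutative (fun a b : Z => a * b) := ⟨hc⟩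
  ac_rfl

variable [Finite N] {φ τ : MulAut N} (h3 : ∀ x, φ (φ (φ x)) = x) (hfpf : ∀ x, φ x = x → x = 1)
  (hτφ : ∀ x, τ (φ x) = φ (φ (τ x))) (h4 : ∀ x : N, x ^ 4 = 1) (ht : ∀ v, (v * τ v) ^ 2 = 1)

include h3 hfpf hτφ h4 ht

/-- The main computation: `v * τ v` is central. -/
theorem mul_tau_mem_center (v : N) : v * τ v ∈ Subgroup.center N := by
  have hc : ∀ a b : N, ⁅a, b⁆ ∈ Subgroup.center N := comm_mem_center h3 hfpf
  have hc2 : ∀ a b : N, ⁅a, b⁆ ^ 2 = 1 := ExpFour.comm_sq hc h4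
  have hsq : ∀ a : N, a ^ 2 ∈ Subgroup.center N := ExpFour.sq_mem_center hc h4
  have hinv : ∀ a b : N, ⁅a, b⁆⁻¹ = ⁅a, b⁆ := by
    intro a b
    rw [inv_eq_iff_mul_eq_one, ← pow_two]; exact hc2 a b
  have hsymm : ∀ a b : N, ⁅a, b⁆ = ⁅b, a⁆ := by
    intro a b
    rw [← commutatorElement_inv, hinv]
  -- `c(v, φ u) = c(φ v, u)`
  have hF1 : ∀ v u : N, ⁅v, φ u⁆ = ⁅φ v, u⁆ := by
    intro v u
    have h1 : ∀ x : N, ⁅x, φ x⁆ = 1 := fun x =>
      commutatorElement_eq_one_iff_mul_comm.2 (commute_phi h3 hfpf x)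
    have h2 := h1 (v * u)
    rw [map_mul, comm_mul_left hc, comm_mul_right hc, comm_mul_right hc, h1, h1, one_mul, mul_one] at h2
    have h5 : ⁅v, φ u⁆ = ⁅u, φ v⁆⁻¹ := eq_inv_of_mul_eq_one_left h2
    rw [h5, commutatorElement_inv]
  -- the action of `φ` on values
  have hP : ∀ a b : N, φ ⁅a, b⁆ = ⁅φ (φ a), b⁆ := by
    intro a b
    rw [map_commutatorElement, hF1]
  have hP2 : ∀ a b : N, ⁅φ a, b⁆ = φ (φ ⁅a, b⁆) := by
    intro a b
    rw [hP, hP, h3]
  have hP3 : ∀ a b : N, ⁅a, φ b⁆ = φ (φ ⁅a, b⁆) := by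
    intro a b
    rw [hF1, hP2]
  -- the identity (1)
  have hF3 : ∀ v : N, v ^ 2 * (τ v) ^ 2 * ⁅τ v, v⁆ = 1 := by
    intro v
    have h1 := mul_pow_formula hc v (τ v) 2
    rw [ht v, comm_inv_inv hc] at h1
    have h2 : (2 * (2 - 1) / 2 : ℕ) = 1 := by norm_num
    rw [h2, pow_one] at h1
    exact h1.symm
  -- commuting in the centre
  have hcc : ∀ z ∈ Subgroup.center N, ∀ g : N, z * g = g * z := fun z hz g => (Subgroup.mem_center_iff.1 hz g).symm
  have hsqmul : ∀ a b : N, (a * b) ^ 2 = a ^ 2 * b ^ 2 * ⁅a, b⁆ := by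
    intro a b
    have h1 := mul_pow_formula hc a b 2
    rw [comm_inv_inv hc] at h1
    have h2 : (2 * (2 - 1) / 2 : ℕ) = 1 := by norm_num
    rw [h2, pow_one, hsymm b a] at h1
    exact h1
  have h1 : ∀ u v : N, ⁅u, v⁆ * τ ⁅u, v⁆ * ⁅τ v, u⁆ * ⁅τ u, v⁆ = 1 := by
    intro u v
    have e := hF3 (v * u)
    rw [map_mul, hsqmul, hsqmul, comm_mul_left hc, comm_mul_right hc, comm_mul_right hc] at e
    have e1 := hF3 v
    have e2 := hF3 u
    -- move to the centre, a commutative group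
    let Z := Subgroup.center N
    have hZc : ∀ a b : Z, a * b = b * a := fun a b => Subtype.ext (Subgroup.mem_center_iff.1 b.2 a)
    let c : N → N → Z := fun a b => ⟨⁅a, b⁆, hc a b⟩
    let s : N → Z := fun a => ⟨a ^ 2, hsq a⟩
    have E : s v * s u * c v u * (s (τ v) * s (τ u) * c (τ v) (τ u)) *
        (c (τ v) v * c (τ v) u * (c (τ u) v * c (τ u) u)) = 1 := Subtype.ext e
    have E1 : s v * s (τ v) * c (τ v) v = 1 := Subtype.ext e1
    have E2 : s u * s (τ u) * c (τ u) u = 1 := Subtype.ext e2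
    have E3 : c v u * c (τ v) (τ u) * c (τ v) u * c (τ u) v = 1 := by
      have : s v * s u * c v u * (s (τ v) * s (τ u) * c (τ v) (τ u)) *
        (c (τ v) v * c (τ v) u * (c (τ u) v * c (τ u) u)) =
        (s v * s (τ v) * c (τ v) v) * (s u * s (τ u) * c (τ u) u) *
        (c v u * c (τ v) (τ u) * c (τ v) u * c (τ u) v) := aux1 hZc _ _ _ _ _ _ _ _ _ _
      rw [this, E1, E2, one_mul, one_mul] at E
      exact E
    have E4 := congrArg Subtype.val E3
    have E5 : ⁅v, u⁆ * ⁅τ v, τ u⁆ * ⁅τ v, u⁆ * ⁅τ u, v⁆ = 1 := E4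
    rw [map_commutatorElement, hsymm u v, hsymm (τ u) (τ v)]
    exact E5
  -- apply (1) with `φ u`, and `φ²` of (1)
  have hY : ∀ u v : N, τ ⁅u, v⁆ * ⁅τ u, v⁆ = 1 := by
    intro u v
    apply hfpf
    have e1 := h1 (φ u) v
    have e2 := congrArg (fun x => φ (φ x)) (h1 u v)
    simp only [map_mul, map_one] at e2
    have r1 : τ ⁅φ u, v⁆ = φ (τ ⁅u, v⁆) := by
      rw [hP2, hτφ, hτφ, h3]
    have r2 : ⁅τ v, φ u⁆ = φ (φ ⁅τ v, u⁆) := hP3 _ _
    have r3 : ⁅τ (φ u), v⁆ = φ ⁅τ u, v⁆ := by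
      rw [hτφ, hP2, hP2, h3]
    rw [r1, r2, r3, hP2 u v] at e1
    let Z := Subgroup.center N
    have hZc : ∀ a b : Z, a * b = b * a := fun a b => Subtype.ext (Subgroup.mem_center_iff.1 b.2 a)
    have hz : ∀ a b : N, φ (φ ⁅a, b⁆) ∈ Z := fun a b => by rw [← hP2]; exact hc _ _
    have hz1 : ∀ a b : N, φ ⁅a, b⁆ ∈ Z := fun a b => by rw [hP]; exact hc _ _
    have hz2 : φ (τ ⁅u, v⁆) ∈ Z := by rw [map_commutatorElement]; exact hz1 _ _
    have hz3 : φ (φ (τ ⁅u, v⁆)) ∈ Z := by rw [map_commutatorElement]; exact hz _ _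
    let A : Z := ⟨φ (φ ⁅u, v⁆), hz u v⟩
    let B : Z := ⟨φ (τ ⁅u, v⁆), hz2⟩
    let B' : Z := ⟨φ (φ (τ ⁅u, v⁆)), hz3⟩
    let C : Z := ⟨φ (φ ⁅τ v, u⁆), hz _ _⟩
    let D : Z := ⟨φ ⁅τ u, v⁆, hz1 _ _⟩
    let D' : Z := ⟨φ (φ ⁅τ u, v⁆), hz _ _⟩
    have E1 : A * B * C * D = 1 := Subtype.ext e1
    have E2 : A * B' * C * D' = 1 := Subtype.ext e2
    have E3 : (A * C) * (B * D) = (A * C) * (B' * D') := by
      calc (A * C) * (B * D) = A * B * C * D := aux2 hZc _ _ _ _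
        _ = A * B' * C * D' := by rw [E1, E2]
        _ = _ := (aux2 hZc _ _ _ _).symm
    have E4 : B * D = B' * D' := mul_left_cancel E3
    have E5 : φ (τ ⁅u, v⁆) * φ ⁅τ u, v⁆ = φ (φ (τ ⁅u, v⁆)) * φ (φ ⁅τ u, v⁆) := congrArg Subtype.val E4
    rw [← map_mul, ← map_mul, ← map_mul] at E5
    exact (φ.injective E5).symm
  -- hence `c(τ u, τ v * v) = 1`
  have hZ : ∀ u : N, ⁅τ u, v * τ v⁆ = 1 := by
    intro u
    rw [comm_mul_right hc, ← map_commutatorElement, hcc _ (hc _ _)]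
    exact hY u v
  rw [Subgroup.mem_center_iff]
  intro g
  obtain ⟨u, rfl⟩ := τ.surjective g
  exact commutatorElement_eq_one_iff_mul_comm.1 (hZ u)

/-- The group is elementary abelian. -/
theorem elementary_of_s3 (ht' : ∀ v, (v * τ (φ v)) ^ 2 = 1) : (∀ a b : N, a * b = b * a) ∧ ∀ a : N, a ^ 2 = 1 := by
  have hA := mul_tau_mem_center h3 hfpf hτφ h4 ht
  have hB : ∀ v, v * (τ * φ) v ∈ Subgroup.center N := by
    refine mul_tau_mem_center (τ := τ * φ) h3 hfpf ?_ h4 ht'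
    intro x
    simp only [MulAut.mul_apply]
    rw [hτφ]
  have hcent : ∀ x : N, x ∈ Subgroup.center N := by
    intro x
    obtain ⟨c, rfl⟩ := exists_eq_inv_mul hfpf x
    -- `c⁻¹ * φ c`; write `c = τ d`
    have h5 : ∀ v : N, (τ v)⁻¹ * τ (φ v) ∈ Subgroup.center N := by
      intro v
      have h6 := (Subgroup.center N).mul_mem ((Subgroup.center N).inv_mem (hA v)) (hB v)
      have h7 : (v * τ v)⁻¹ * (v * (τ * φ) v) = (τ v)⁻¹ * τ (φ v) := by
        simp only [MulAut.mul_apply]; group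
      rwa [h7] at h6
    have h6 : ∀ v : N, τ (v⁻¹ * φ v) ∈ Subgroup.center N := by
      intro v
      rw [map_mul, map_inv]; exact h5 v
    rw [Subgroup.mem_center_iff]
    intro g
    apply τ.injective
    rw [map_mul τ, map_mul τ (c⁻¹ * φ c) g]
    exact Subgroup.mem_center_iff.1 (h6 c) (τ g)
  have hcomm : ∀ a b : N, a * b = b * a := fun a b => Subgroup.mem_center_iff.1 (hcent b) a
  refine ⟨hcomm, ?_⟩
  have hsqinv : ∀ a : N, (a ^ 2)⁻¹ = a ^ 2 := by
    intro a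
    rw [inv_eq_iff_mul_eq_one, ← pow_add]; exact h4 a
  have e1 : ∀ (σ : MulAut N), (∀ v, (v * σ v) ^ 2 = 1) → ∀ v, σ (v ^ 2) = v ^ 2 := by
    intro σ hσ v
    have h5 := hσ v
    have h6 : Commute v (σ v) := hcomm _ _
    rw [h6.mul_pow] at h5
    rw [map_pow, ← hsqinv v]
    exact (inv_eq_of_mul_eq_one_right h5).symm
  intro a
  apply hfpf
  have h5 := e1 τ ht a
  have h6 := e1 (τ * φ) ht' a
  apply τ.injective
  rw [h5]
  exact h6

end S3

end Cfsg.Agent.Lib.FpfThree67
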