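import Cfsg.Agent.Lib.LMinMain
import Cfsg.Agent.Lib.FrakMA

/-!
# `L ∈ 𝔏_G(Y_M)` gives the set-up `LSetup` (helper48)
-/

set_option autoImplicit false
set_option linter.unusedSectionVars false

namespace Cfsg.Agent.Lib.LMin

open Subgroup Cfsg Cfsg.Agent.Lib.LocBase Cfsg.Agent.Lib.PReduced

variable {G : Type*} [Group G] [Finite G] {p : ℕ} [hp : Fact p.Prime] {M L : Subgroup G}

theorem setup_of_frakL (hL : IsInFrakL p M L) : LSetup p ((largestPReducedOf p M).subgroupOf L) := by
  obtain ⟨hYL, hgen, hnorm, hmin, -, ⟨hlt, hmax⟩, -⟩ := hL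
  have hel := elem_iff.mp (pRed_largest p M).elem
  have hN : ∀ x : ↥L, (x : G) ∈ normalizer (largestPReducedOf p M : Set G) ↔
      x ∈ normalizer (((largestPReducedOf p M).subgroupOf L : Subgroup ↥L) : Set ↥L) := by
    intro x
    rw [← subgroupOf_normalizer_eq hYL, mem_subgroupOf]
  constructor
  · exact (FrakMA.Y_isPGroup p M).comap_subtype
  · intro y hy
    exact Subtype.ext (hel.2 y hy)
  · intro y hy
    rw [mem_centralizer_iff]
    intro z hz
    exact Subtype.ext (mem_centralizer_iff.mp (hel.1 hy) z hz)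
  · intro x hx
    rw [← hN]
    apply hnorm
    rw [← pCoreOf_subgroupOf, mem_subgroupOf] at hx
    exact hx
  · intro X hYX hX x hx
    rw [← hN]
    have h1 : X.map L.subtype < L := by
      refine lt_of_le_of_ne (map_subtype_le X) (fun he => hX ?_)
      apply Subgroup.map_injective L.subtype_injective
      rw [he, ← MonoidHom.range_eq_map, Subgroup.range_subtype]
    have h2 : largestPReducedOf p M ≤ X.map L.subtype := by
      have := Subgroup.map_mono (f := L.subtype) hYX
      rwa [map_subgroupOf_eq_of_le hYL] at this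
    exact (hmax _ h2 h1 ⟨x, hx, rfl⟩).2
  · exact hmin.1
  · intro he
    apply hlt.ne
    apply inf_eq_left.mpr
    intro x hx
    have h1 : (⟨x, hx⟩ : ↥L) ∈ normalizer (((largestPReducedOf p M).subgroupOf L : Subgroup ↥L) : Set ↥L) := by
      rw [he]; exact mem_top _
    exact (hN _).mpr h1
  · have h1 : ((largestPReducedOf p M ⊓ pCoreOf p L).subgroupOf L : Subgroup ↥L) =
        (largestPReducedOf p M).subgroupOf L ⊓ pCore p ↥L := by
      rw [← pCoreOf_subgroupOf]
      rfl
    rw [← pCoreOf_subgroupOf]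
    conv_lhs => rw [hgen]
    rw [h1, subgroupOf, Subgroup.comap_map_eq_self_of_injective L.subtype_injective, ← pCoreOf_subgroupOf]

theorem types_of_frakL (hL : IsInFrakL p M L) :
    Types p (((largestPReducedOf p M).subgroupOf L).map (QuotientGroup.mk' (pCore p ↥L))) := by
  obtain ⟨hYL, -, -, -, -, -, ht⟩ := hL
  have hcard : (largestPReducedOf p M ⊓ pCoreOf p L).relIndex (largestPReducedOf p M) =
      Nat.card ↥(((largestPReducedOf p M).subgroupOf L).map (QuotientGroup.mk' (pCore p ↥L))) := by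
    rw [inf_relIndex_left]
    have h1 : (pCoreOf p L).relIndex (largestPReducedOf p M) =
        (pCore p ↥L).relIndex ((largestPReducedOf p M).subgroupOf L) := by
      rw [← pCoreOf_subgroupOf, relIndex_subgroupOf hYL]
    have h2 := relIndex_ker (QuotientGroup.mk' (pCore p ↥L)) (K := (largestPReducedOf p M).subgroupOf L)
    rw [QuotientGroup.ker_mk'] at h2
    rw [h1, h2]
  rcases ht with ⟨F, i1, i2, hF, e⟩ | ⟨h2, F, i1, i2, m, hm, hF, e⟩ | h
  · exact Or.inl ⟨F, i1, i2, by rw [hF, hcard], e⟩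
  · exact Or.inr (Or.inl ⟨h2, F, i1, i2, m, hm, by rw [hF, hcard], e⟩)
  · exact Or.inr (Or.inr h)

end Cfsg.Agent.Lib.LMin
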