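import Cfsg.Agent.Lib.LargeLoc
import Cfsg.Agent.Lib.PReduced
import Cfsg.Agent.Lib.LocTrace
import Cfsg.Agent.Lib.PIrred

/-!
# The basic property `M ∈ 𝔐_G(S)` with a large subgroup (helper48)
-/

set_option autoImplicit false
set_option linter.unusedSectionVars false

namespace Cfsg.Agent.Lib.FrakMH48

open Subgroup Cfsg Cfsg.Agent.Lib.PIrred Cfsg.Agent.Lib.LocBase Cfsg.Agent.Lib.LargeLoc Cfsg.Agent.Lib.PReduced Cfsg.Agent.Lib.LocTrace
open scoped commutatorElement Pointwise

variable {G : Type*} [Group G]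

theorem eq_of_normalizer_inf_le [Finite G] {p : ℕ} [hp : Fact p.Prime] {L L₀ : Subgroup G} (hL : IsPGroup p L)
    (h : L₀ ≤ L) (h2 : L ⊓ normalizer (L₀ : Set G) ≤ L₀) : L₀ = L := by
  by_contra hne
  have hnil : Group.IsNilpotent L := hL.isNilpotent
  have hlt : L₀.subgroupOf L < ⊤ := by
    rw [lt_top_iff_ne_top]
    intro h3
    rw [subgroupOf_eq_top] at h3
    exact hne (le_antisymm h h3)
  have h3 := Group.normalizerCondition_of_isNilpotent (G := L) _ hlt
  rw [← subgroupOf_normalizer_eq h] at h3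
  apply not_le_of_gt h3
  intro x hx
  exact h2 ⟨x.2, hx⟩

theorem not_symmetric {Y : Subgroup G} (h : ¬ IsSymmetricIn Y) (g : G)
    (h1 : ⁅Y, Y.map (MulAut.conj g).toMonoidHom⁆ ≤ Y ⊓ Y.map (MulAut.conj g).toMonoidHom) :
    ⁅Y, Y.map (MulAut.conj g).toMonoidHom⁆ = ⊥ := by
  by_contra h2
  exact h ⟨g, h2, h1⟩

theorem OZ_ne_bot [Finite G] {p : ℕ} [hp : Fact p.Prime] {T : Subgroup G} (hT : IsPGroup p T) (hT1 : T ≠ ⊥) :
    OZ p T ≠ ⊥ := by
  obtain ⟨z, hz, hz1, hz2⟩ := PAct.exists_fixed_orderOf_eq hT hT hT1 le_normalizer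
  intro h
  have h1 : z ∈ OZ p T := by
    rw [mem_OZ]
    exact ⟨hz, mem_centralizer_iff.mpr hz1, by rw [← hz2, pow_orderOf_eq_one]⟩
  rw [h, mem_bot] at h1
  rw [h1, orderOf_one] at hz2
  exact hp.out.one_lt.ne hz2

section Basic

variable [Finite G] {p : ℕ} [hp : Fact p.Prime] {S : Sylow p G} {Q M : Subgroup G}

theorem pCoreOf_ne_bot (hM : IsInFrakM p M) : pCoreOf p M ≠ ⊥ := (pCore_ne_bot_iff p M).mp hM.1.1

theorem centralizer_pCoreOf_le (hM : IsInFrakM p M) : centralizer (pCoreOf p M : Set G) ≤ pCoreOf p M := hM.1.2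

theorem isCharP (hM : IsInFrakM p M) : IsCharP p M := inf_le_right.trans (centralizer_pCoreOf_le hM)

theorem OZ_le_Y (hM : IsInFrakM p M) {T : Subgroup G} (hT : IsSyl p T M) : OZ p T ≤ largestPReducedOf p M := by
  refine le_trans ?_ (pRed_sylowCenterClosure (isCharP hM)).le_largest
  rw [sylowCenterClosure_eq hT]
  exact le_ncl _ _

theorem Y_ne_bot (hM : IsInFrakM p M) : largestPReducedOf p M ≠ ⊥ := by
  obtain ⟨T, hT⟩ := exists_isSyl p M
  have hT1 : T ≠ ⊥ := by
    rintro rfl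
    exact pCoreOf_ne_bot hM (le_bot_iff.mp hT.pCoreOf_le)
  intro h
  exact OZ_ne_bot hT.pgroup hT1 (le_bot_iff.mp (h ▸ OZ_le_Y hM hT))

theorem Y_isPGroup (p : ℕ) [hp : Fact p.Prime] (M : Subgroup G) : IsPGroup p ↥(largestPReducedOf p M) :=
  elem_isPGroup (pRed_largest p M).elem

theorem M_le_normalizer_Y (p : ℕ) [hp : Fact p.Prime] (M : Subgroup G) :
    M ≤ normalizer (largestPReducedOf p M : Set G) := (pRed_largest p M).norm

theorem Y_le_R (p : ℕ) [hp : Fact p.Prime] (M : Subgroup G) : largestPReducedOf p M ≤ pCoreOf p M :=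
  (pRed_largest p M).le_pCoreOf

theorem R_le_centralizer_Y (p : ℕ) [hp : Fact p.Prime] (M : Subgroup G) :
    pCoreOf p M ≤ centralizer (largestPReducedOf p M : Set G) := (pRed_largest p M).pCoreOf_le

/-- `O_p(M)` is a Sylow `p`-subgroup of `C_M(Y_M)`. -/
theorem isSyl_R_CM (hM : IsInFrakM p M) :
    IsSyl p (pCoreOf p M) (M ⊓ centralizer (largestPReducedOf p M : Set G)) := by
  set C := M ⊓ centralizer (largestPReducedOf p M : Set G) with hC
  have h1 : IsSyl p (pCoreOf p C) C := isSyl_pCoreOf_of_isPClosed hM.2.2.2.2.1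
  have hMC : M ≤ normalizer (C : Set G) :=
    le_normalizer_inf le_normalizer (le_normalizer_centralizer (M_le_normalizer_Y p M))
  have h2 : pCoreOf p C ≤ pCoreOf p M :=
    le_pCoreOf ((LocBase.pCoreOf_le C).trans inf_le_left)
      (hMC.trans (normalizer_le_normalizer_pCoreOf p C)) (isPGroup_pCoreOf p C)
  have h3 : pCoreOf p M ≤ C := le_inf (LocBase.pCoreOf_le M) (R_le_centralizer_Y p M)
  have h4 := h1.eq_of_le (isPGroup_pCoreOf p M) h3 h2
  rw [← h4]
  exact h1

theorem inf_centralizer_eq (hM : IsInFrakM p M) {T : Subgroup G} (hT : IsSyl p T M) :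
    T ⊓ centralizer (largestPReducedOf p M : Set G) = pCoreOf p M := by
  have h1 : pCoreOf p M ≤ T ⊓ centralizer (largestPReducedOf p M : Set G) :=
    le_inf hT.pCoreOf_le (R_le_centralizer_Y p M)
  exact ((isSyl_R_CM hM).eq_of_le (hT.pgroup.to_le inf_le_left) (inf_le_inf_right _ hT.le) h1).symm

/-- `O_p(M)` is a Sylow `p`-subgroup of `C_G(Y_M)`. -/
theorem isSyl_R (hSM : (S : Subgroup G) ≤ M) (hM : IsInFrakM p M) :
    IsSyl p (pCoreOf p M) (centralizer (largestPReducedOf p M : Set G)) := by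
  set Y := largestPReducedOf p M with hY
  have h1 : IsSyl p (S : Subgroup G) (M ⊔ centralizer (Y : Set G)) :=
    isSyl_of_sylow_le (hSM.trans le_sup_left)
  have h2 := h1.inf_normal (N := centralizer (Y : Set G)) le_sup_right
    (sup_le (le_normalizer_centralizer (M_le_normalizer_Y p M)) le_normalizer)
  rwa [inf_centralizer_eq hM (isSyl_of_sylow_le hSM)] at h2

/-- a `p`-subgroup containing `O_p(M)` and normalizing... : `C_L(Y_M) = O_p(M)` for every `p`-group `L ≥ O_p(M)`. -/
theorem inf_centralizer_Y_eq (hSM : (S : Subgroup G) ≤ M) (hM : IsInFrakM p M) {L : Subgroup G} (hL : IsPGroup p L)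
    (hRL : pCoreOf p M ≤ L) : L ⊓ centralizer (largestPReducedOf p M : Set G) = pCoreOf p M :=
  ((isSyl_R hSM hM).eq_of_le (hL.to_le inf_le_left) inf_le_right (le_inf hRL (R_le_centralizer_Y p M))).symm

theorem normalizer_Y_eq (hQp : IsPGroup p Q) (hQ : IsLarge Q) (hQM : Q ≤ M) (hM : IsInFrakM p M) :
    normalizer (largestPReducedOf p M : Set G) = M ⊔ centralizer (largestPReducedOf p M : Set G) := by
  apply le_antisymm
  · exact normalizer_le_dagger hQp hQ hQM hM (Y_ne_bot hM) (Y_isPGroup p M) (M_le_normalizer_Y p M)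
  · exact sup_le (M_le_normalizer_Y p M) (centralizer_le_normalizer _)

theorem normalizer_R_le (hQp : IsPGroup p Q) (hQ : IsLarge Q) (hQM : Q ≤ M) (hM : IsInFrakM p M) :
    normalizer (pCoreOf p M : Set G) ≤ M ⊔ centralizer (largestPReducedOf p M : Set G) :=
  normalizer_le_dagger hQp hQ hQM hM (pCoreOf_ne_bot hM) (isPGroup_pCoreOf p M) (le_normalizer_pCoreOf p M)

end Basic

/-! ### the alternating products `M (H M)^n` -/

section Words

/-- `M (H M)^n` -/
def word (M H : Subgroup G) (n : ℕ) : Set G := (M : Set G) * ((H : Set G) * (M : Set G)) ^ n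

theorem mul_word (M H : Subgroup G) (n : ℕ) :
    ((H : Set G) * (M : Set G)) ^ n * (H : Set G) = (H : Set G) * ((M : Set G) * (H : Set G)) ^ n := by
  induction n with
  | zero => simp
  | succ n ih => rw [pow_succ', mul_assoc, ih, pow_succ']; simp only [mul_assoc]

theorem word_inv {M H : Subgroup G} {n : ℕ} {w : G} (hw : w ∈ word M H n) : w⁻¹ ∈ word M H n := by
  have h : (word M H n)⁻¹ = word M H n := by
    unfold word
    rw [mul_inv_rev, ← inv_pow, mul_inv_rev]
    rw [inv_coe_set, inv_coe_set]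
    exact mul_word H M n
  rw [← h]
  exact Set.inv_mem_inv.mpr hw

theorem mem_word_succ {M H : Subgroup G} {n : ℕ} {w : G} :
    w ∈ word M H (n + 1) ↔ ∃ m ∈ M, ∃ h ∈ H, ∃ w' ∈ word M H n, w = m * (h * w') := by
  unfold word
  rw [pow_succ', mul_assoc]
  constructor
  · intro hw
    obtain ⟨m, hm, x, hx, rfl⟩ := Set.mem_mul.mp hw
    obtain ⟨h, hh, w', hw', rfl⟩ := Set.mem_mul.mp hx
    exact ⟨m, hm, h, hh, w', hw', rfl⟩
  · rintro ⟨m, hm, h, hh, w', hw', rfl⟩
    exact Set.mul_mem_mul hm (Set.mul_mem_mul hh hw')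

theorem mem_word_zero {M H : Subgroup G} {w : G} : w ∈ word M H 0 ↔ w ∈ M := by
  unfold word; simp

theorem mul_mem_word {M H : Subgroup G} {n : ℕ} {m w : G} (hm : m ∈ M) (hw : w ∈ word M H n) :
    m * w ∈ word M H n := by
  unfold word at hw ⊢
  obtain ⟨m', hm', x, hx, rfl⟩ := Set.mem_mul.mp hw
  rw [← mul_assoc]
  exact Set.mul_mem_mul (mul_mem hm hm') hx

end Words

/-! ### The asymmetric case -/

section Asym

variable [Finite G] {p : ℕ} [hp : Fact p.Prime] {S : Sylow p G} {Q M : Subgroup G}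

/-- If `L` is a `p`-group with `O_p(M) ≤ L ≤ N_G(Y_M)` then `N_G(L) ≤ M†` (asymmetric case). -/
theorem normalizer_le_of_asym_aux (hQp : IsPGroup p Q) (hQ : IsLarge Q) (hQM : Q ≤ M) (hSM : (S : Subgroup G) ≤ M)
    (hM : IsInFrakM p M) (hasym : ¬ IsSymmetricIn (largestPReducedOf p M)) {L : Subgroup G} (hL : IsPGroup p L)
    (hRL : pCoreOf p M ≤ L) (hLY : L ≤ normalizer (largestPReducedOf p M : Set G)) :
    normalizer (L : Set G) ≤ M ⊔ centralizer (largestPReducedOf p M : Set G) := by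
  set Y := largestPReducedOf p M with hY
  set R := pCoreOf p M with hR
  set H := normalizer (L : Set G) with hH
  have hYR : Y ≤ R := Y_le_R p M
  have hMR : M ≤ normalizer (R : Set G) := le_normalizer_pCoreOf p M
  have hMY : M ≤ normalizer (Y : Set G) := M_le_normalizer_Y p M
  -- the claim
  have key : ∀ n : ℕ, ∀ w ∈ word M H n, Y.map (MulAut.conj w).toMonoidHom ≤ R := by
    intro n
    induction n with
    | zero =>
      intro w hw
      rw [mem_word_zero] at hw
      rw [map_conj_eq_of_mem (hMY hw)]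
      exact hYR
    | succ n ih =>
      -- `Y^w` normalizes `Y`
      have h1 : ∀ w ∈ word M H (n + 1), Y.map (MulAut.conj w).toMonoidHom ≤ normalizer (Y : Set G) := by
        intro w hw
        obtain ⟨m, hm, h, hh, w', hw', rfl⟩ := mem_word_succ.mp hw
        rw [map_conj_mul, map_conj_mul]
        have h2 : (Y.map (MulAut.conj w').toMonoidHom).map (MulAut.conj h).toMonoidHom ≤ L := by
          rw [← map_conj_eq_of_mem hh]
          exact Subgroup.map_mono ((ih w' hw').trans hRL)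
        have h3 := Subgroup.map_mono (f := (MulAut.conj m).toMonoidHom) (h2.trans hLY)
        refine h3.trans ?_
        rw [map_conj_normalizer, map_conj_eq_of_mem (hMY hm)]
      intro w hw
      have hw2 := hw
      obtain ⟨m, hm, h, hh, w', hw', rfl⟩ := mem_word_succ.mp hw
      have hw3 : h * w' ∈ word M H (n + 1) :=
        mem_word_succ.mpr ⟨1, one_mem _, h, hh, w', hw', by rw [one_mul]⟩
      have h4 := h1 _ hw3
      have h5 := h1 _ (word_inv hw3)
      -- `Y` normalizes `Y^(h w')`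
      have h6 : Y ≤ normalizer ((Y.map (MulAut.conj (h * w')).toMonoidHom : Subgroup G) : Set G) := by
        rw [← map_conj_normalizer]
        rw [map_conj_le_iff] at h5
        rwa [inv_inv] at h5
      have h7 : ⁅Y, Y.map (MulAut.conj (h * w')).toMonoidHom⁆ = ⊥ := by
        apply not_symmetric hasym
        apply le_inf
        · exact commutator_le_left_of_le h4
        · exact commutator_le_right_of_le h6
      have h8 : Y.map (MulAut.conj (h * w')).toMonoidHom ≤ L := by
        rw [map_conj_mul, ← map_conj_eq_of_mem hh]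
        exact Subgroup.map_mono ((ih w' hw').trans hRL)
      have h9 : Y.map (MulAut.conj (h * w')).toMonoidHom ≤ R := by
        rw [hR, ← inf_centralizer_Y_eq hSM hM hL hRL]
        apply le_inf h8
        rw [← commutator_eq_bot_iff_le_centralizer, commutator_comm]
        exact h7
      rw [map_conj_mul Y m, ← map_conj_eq_of_mem (hMR hm)]
      exact Subgroup.map_mono h9
  -- the normal subgroup generated
  set I : Subgroup G := ⨆ w : {w : G // ∃ n, w ∈ word M H n}, Y.map (MulAut.conj (w : G)).toMonoidHom with hI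
  have hIR : I ≤ R := iSup_le fun ⟨w, n, hw⟩ => key n w hw
  have hYI : Y ≤ I := by
    have h1 := le_iSup (fun w : {w : G // ∃ n, w ∈ word M H n} => Y.map (MulAut.conj (w : G)).toMonoidHom)
      ⟨1, 0, mem_word_zero.mpr (one_mem _)⟩
    have h2 : Y.map (MulAut.conj ((⟨1, 0, mem_word_zero.mpr (one_mem _)⟩ :
      {w : G // ∃ n, w ∈ word M H n}) : G)).toMonoidHom = Y := map_conj_one Y
    rwa [h2] at h1
  have hI1 : I ≠ ⊥ := fun h => Y_ne_bot hM (le_bot_iff.mp (h ▸ hYI))
  have hIp : IsPGroup p I := (isPGroup_pCoreOf p M).to_le hIR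
  have hMI : M ≤ normalizer (I : Set G) := by
    intro m hm
    apply mem_normalizer_of_map_conj_le
    rw [hI, Subgroup.map_iSup]
    apply iSup_le
    rintro ⟨w, n, hw⟩
    rw [← map_conj_mul]
    exact le_iSup (fun w : {w : G // ∃ n, w ∈ word M H n} => Y.map (MulAut.conj (w : G)).toMonoidHom)
      ⟨m * w, n, mul_mem_word hm hw⟩
  have hHI : H ≤ normalizer (I : Set G) := by
    intro h hh
    apply mem_normalizer_of_map_conj_le
    rw [hI, Subgroup.map_iSup]
    apply iSup_le
    rintro ⟨w, n, hw⟩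
    rw [← map_conj_mul]
    exact le_iSup (fun w : {w : G // ∃ n, w ∈ word M H n} => Y.map (MulAut.conj (w : G)).toMonoidHom)
      ⟨h * w, n + 1, mem_word_succ.mpr ⟨1, one_mem _, h, hh, w, hw, by rw [one_mul]⟩⟩
  exact hHI.trans (normalizer_le_dagger hQp hQ hQM hM hI1 hIp hMI)

/-- (a) `N_G(L) ≤ N_G(O_p(M))` for every `p`-group `L ≥ O_p(M)`. -/
theorem normalizer_le_of_asym (hQp : IsPGroup p Q) (hQ : IsLarge Q) (hQM : Q ≤ M) (hSM : (S : Subgroup G) ≤ M)
    (hM : IsInFrakM p M) (hasym : ¬ IsSymmetricIn (largestPReducedOf p M)) {L : Subgroup G} (hL : IsPGroup p L)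
    (hRL : pCoreOf p M ≤ L) : normalizer (L : Set G) ≤ normalizer (pCoreOf p M : Set G) := by
  have key : ∀ L : Subgroup G, IsPGroup p L → pCoreOf p M ≤ L → L ≤ normalizer (pCoreOf p M : Set G) →
      normalizer (L : Set G) ≤ normalizer (pCoreOf p M : Set G) := by
    intro L hL hRL hLR
    have hMd := normalizer_Y_eq hQp hQ hQM hM
    have h1 : L ≤ normalizer (largestPReducedOf p M : Set G) := by
      rw [hMd]; exact hLR.trans (normalizer_R_le hQp hQ hQM hM)
    have h2 := normalizer_le_of_asym_aux hQp hQ hQM hSM hM hasym hL hRL h1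
    rw [← hMd] at h2
    have h3 := inf_centralizer_Y_eq hSM hM hL hRL
    rw [← h3]
    exact le_normalizer_inf le_rfl (le_normalizer_centralizer h2)
  apply key L hL hRL
  have h1 : L ⊓ normalizer (pCoreOf p M : Set G) = L := by
    apply eq_of_normalizer_inf_le hL inf_le_left
    have h2 := key (L ⊓ normalizer (pCoreOf p M : Set G)) (hL.to_le inf_le_left)
      (le_inf hRL le_normalizer) inf_le_right
    exact inf_le_inf_left _ h2
  rw [← h1]
  exact inf_le_right

/-- `O_p(M)` is weakly closed in every `p`-group containing it. -/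
theorem mem_normalizer_R_of_asym (hQp : IsPGroup p Q) (hQ : IsLarge Q) (hQM : Q ≤ M) (hSM : (S : Subgroup G) ≤ M)
    (hM : IsInFrakM p M) (hasym : ¬ IsSymmetricIn (largestPReducedOf p M)) {L : Subgroup G} (hL : IsPGroup p L)
    (hRL : pCoreOf p M ≤ L) {k : G} (hk : (pCoreOf p M).map (MulAut.conj k).toMonoidHom ≤ L) :
    k ∈ normalizer (pCoreOf p M : Set G) := by
  obtain ⟨T, hT, hLT⟩ := exists_isSyl_ge hL (le_top : L ≤ ⊤)
  have hNT : ∀ T' : Subgroup G, IsPGroup p T' → pCoreOf p M ≤ T' →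
      normalizer (T' : Set G) ≤ normalizer (pCoreOf p M : Set G) := fun T' h1 h2 =>
    normalizer_le_of_asym hQp hQ hQM hSM hM hasym h1 h2
  have h1 : T ≤ normalizer (pCoreOf p M : Set G) := le_normalizer.trans (hNT T hT.pgroup (hRL.trans hLT))
  have hT2 : IsSyl p (T.map (MulAut.conj k⁻¹).toMonoidHom) ⊤ := by
    have := hT.map_conj k⁻¹
    rwa [Subgroup.map_top_of_surjective _ (MulAut.conj k⁻¹).surjective] at this
  have hR2 : pCoreOf p M ≤ T.map (MulAut.conj k⁻¹).toMonoidHom := by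
    rw [← map_conj_le_iff]
    exact hk.trans hLT
  have h2 : T.map (MulAut.conj k⁻¹).toMonoidHom ≤ normalizer (pCoreOf p M : Set G) :=
    le_normalizer.trans (hNT _ hT2.pgroup hR2)
  obtain ⟨h, hh, e⟩ := (hT.of_le h1 le_top).conj (hT2.of_le h2 le_top)
  rw [← map_conj_mul] at e
  have h3 : h * k⁻¹ ∈ normalizer (pCoreOf p M : Set G) :=
    hNT T hT.pgroup (hRL.trans hLT) (mem_normalizer_of_map_conj_eq e)
  have h4 : k⁻¹ ∈ normalizer (pCoreOf p M : Set G) := by
    have := mul_mem (inv_mem hh) h3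
    rwa [inv_mul_cancel_left] at this
  simpa using inv_mem h4

/-- conjugate subgroups of `O_p(M)` in a subgroup `C` are `C`-conjugate. -/
theorem exists_conj_of_asym (hQp : IsPGroup p Q) (hQ : IsLarge Q) (hQM : Q ≤ M) (hSM : (S : Subgroup G) ≤ M)
    (hM : IsInFrakM p M) (hasym : ¬ IsSymmetricIn (largestPReducedOf p M)) {C : Subgroup G}
    (hRC : pCoreOf p M ≤ C) {g : G} (hg : (pCoreOf p M).map (MulAut.conj g).toMonoidHom ≤ C) :
    ∃ c ∈ C, c * g ∈ normalizer (pCoreOf p M : Set G) := by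
  obtain ⟨T₁, hT₁, h1⟩ := exists_isSyl_ge (isPGroup_pCoreOf p M) hRC
  obtain ⟨T₂, hT₂, h2⟩ := exists_isSyl_ge (isPGroup_map_conj (isPGroup_pCoreOf p M) g) hg
  obtain ⟨c, hc, e⟩ := hT₁.conj hT₂
  refine ⟨c, hc, mem_normalizer_R_of_asym hQp hQ hQM hSM hM hasym hT₁.pgroup h1 ?_⟩
  rw [map_conj_mul, ← e]
  exact Subgroup.map_mono h2

end Asym

end Cfsg.Agent.Lib.FrakMH48
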