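import Mathlib
import Cfsg.Prelude.Def_Transfer
import Cfsg.Prelude.Def_Local
import Cfsg.Prelude.Def_PLocal
import Cfsg.Agent.Lib.ElabRep
import Cfsg.Agent.Lib.CoprimeAction2
import Cfsg.Agent.Lib.PCoreTools
import Cfsg.Agent.Lib.Cores
import Cfsg.Agent.Lib.H32PSolv
import Cfsg.Agent.Lib.HBBasic

/-! The action of a group on the Frattini quotient of a normal `p`-subgroup, as a representation (helper63). -/

set_option autoImplicit false
open scoped commutatorElement

namespace Cfsg.Agent.Lib.FratRep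

open Module Cfsg.Agent.Lib.CoprimeAction2 Cfsg.Agent.Lib.HBBasic Cfsg

universe u

/-- A representation on the Frattini quotient of the normal `p`-subgroup `N`. -/
structure Data (p : ℕ) {G : Type u} [Group G] (N : Subgroup G) (V : Type u) [AddCommGroup V] [Module (ZMod p) V] where
  ρ : G →* Module.End (ZMod p) V
  π : N → V
  surj : Function.Surjective π
  map_mul : ∀ a b, π (a * b) = π a + π b
  map_eq_zero : ∀ a, π a = 0 ↔ a ∈ frattini N
  conj_mem : ∀ g : G, ∀ a : N, g * a * g⁻¹ ∈ N
  apply : ∀ (g : G) (a : N), ρ g (π a) = π ⟨g * a * g⁻¹, conj_mem g a⟩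

theorem exists_data {p : ℕ} [hp : Fact p.Prime] {G : Type u} [Group G] [Finite G] (N : Subgroup G)
    (hNn : N.Normal) (hN : IsPGroup p N) :
    ∃ (V : Type u) (_ : AddCommGroup V) (_ : Module (ZMod p) V) (_ : Finite V), Nonempty (Data p N V) := by
  classical
  have hcomm : ∀ a b : N ⧸ frattini N, a * b = b * a := by
    intro a b
    obtain ⟨a, rfl⟩ := QuotientGroup.mk'_surjective _ a
    obtain ⟨b, rfl⟩ := QuotientGroup.mk'_surjective _ b
    rw [← commutatorElement_eq_one_iff_mul_comm, ← map_commutatorElement]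
    apply (QuotientGroup.eq_one_iff _).mpr
    exact commutator_le_frattini hN (Subgroup.commutator_mem_commutator (Subgroup.mem_top _) (Subgroup.mem_top _))
  let cg : CommGroup (N ⧸ frattini N) := { (inferInstance : Group (N ⧸ frattini N)) with mul_comm := hcomm }
  have hE : ∀ x : N ⧸ frattini N, x ^ p = 1 := by
    intro x
    obtain ⟨x, rfl⟩ := QuotientGroup.mk'_surjective _ x
    rw [← map_pow]
    exact (QuotientGroup.eq_one_iff _).mpr (pow_mem_frattini hN x)
  have hconj : ∀ g : G, ∀ a : N, g * a * g⁻¹ ∈ N := fun g a => hNn.conj_mem a a.2 g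
  let cj : G → (N →* N) := fun g =>
    { toFun := fun a => ⟨g * a * g⁻¹, hconj g a⟩
      map_one' := by apply Subtype.ext; simp
      map_mul' := by intro a b; apply Subtype.ext; simp only [Subgroup.coe_mul]; group }
  have hcj : ∀ g (a : N), a ∈ frattini N → cj g a ∈ frattini N := by
    intro g a ha
    have h1 := Cfsg.Agent.Lib.PCoreTools.normalizer_le_of_characteristic (H := N)
      (frattini_characteristic (G := N))
    have h2 : g ∈ Subgroup.normalizer (((frattini N).map N.subtype : Subgroup G) : Set G) := by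
      apply h1
      rw [Subgroup.normalizer_eq_top]; trivial
    obtain ⟨b, hb, hb'⟩ := (Subgroup.mem_normalizer_iff.mp h2 (a : G)).mp ⟨a, ha, rfl⟩
    have : b = cj g a := Subtype.ext hb'
    rw [← this]; exact hb
  let φ : G → (N ⧸ frattini N →* N ⧸ frattini N) := fun g =>
    QuotientGroup.map _ _ (cj g) (fun a ha => hcj g a ha)
  have hφ : ∀ g (a : N), φ g (QuotientGroup.mk' _ a) = QuotientGroup.mk' _ (cj g a) := fun g a => rfl
  have hφ1 : ∀ x, φ 1 x = x := by
    intro x
    obtain ⟨x, rfl⟩ := QuotientGroup.mk'_surjective _ x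
    rw [hφ]
    congr 1
    apply Subtype.ext
    change 1 * (x : G) * 1⁻¹ = x
    group
  have hφm : ∀ g h x, φ (g * h) x = φ g (φ h x) := by
    intro g h x
    obtain ⟨x, rfl⟩ := QuotientGroup.mk'_surjective _ x
    rw [hφ, hφ, hφ]
    congr 1
    apply Subtype.ext
    change g * h * (x : G) * (g * h)⁻¹ = g * (h * x * h⁻¹) * g⁻¹
    group
  let Φ : G →* MulAut (N ⧸ frattini N) :=
    { toFun := fun g =>
        { toFun := φ g
          invFun := φ g⁻¹
          left_inv := by intro x; rw [← hφm, inv_mul_cancel, hφ1]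
          right_inv := by intro x; rw [← hφm, mul_inv_cancel, hφ1]
          map_mul' := (φ g).map_mul' }
      map_one' := by ext x; exact hφ1 x
      map_mul' := by intro g h; ext x; exact hφm g h x }
  let inst : Module (ZMod p) (Additive (N ⧸ frattini N)) := ElabRep.elabModule _ p hE
  have hfin : Finite (N ⧸ frattini N) := inferInstance
  refine ⟨Additive (N ⧸ frattini N), inferInstance, inst, hfin, ⟨?_⟩⟩
  exact
    { ρ := ElabRep.elabRep p hE Φ
      π := fun a => Additive.ofMul (QuotientGroup.mk' _ a)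
      surj := by
        intro x
        obtain ⟨a, ha⟩ := QuotientGroup.mk'_surjective _ x.toMul
        exact ⟨a, congrArg Additive.ofMul ha⟩
      map_mul := by
        intro a b
        rw [_root_.map_mul]
        rfl
      map_eq_zero := by
        intro a
        constructor
        · intro h
          have h1 : QuotientGroup.mk' (frattini N) a = 1 := h
          exact (QuotientGroup.eq_one_iff _).mp h1
        · intro h
          have h1 : QuotientGroup.mk' (frattini N) a = 1 := (QuotientGroup.eq_one_iff _).mpr h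
          exact h1
      conj_mem := hconj
      apply := by
        intro g a
        rfl }

variable {p : ℕ} {G : Type u} [Group G] {N : Subgroup G} {V : Type u} [AddCommGroup V] [Module (ZMod p) V]

theorem Data.map_one (D : Data p N V) : D.π 1 = 0 := by
  rw [D.map_eq_zero]; exact one_mem _

theorem Data.map_inv (D : Data p N V) (a : N) : D.π a⁻¹ = - D.π a := by
  rw [eq_neg_iff_add_eq_zero, ← D.map_mul, inv_mul_cancel, D.map_one]

/-- `ρ g = 1` iff `g` acts trivially modulo the Frattini subgroup. -/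
theorem Data.ρ_eq_one_iff (D : Data p N V) (g : G) :
    D.ρ g = 1 ↔ ∀ a ∈ N, g * a * g⁻¹ * a⁻¹ ∈ (frattini N).map N.subtype := by
  constructor
  · intro h a ha
    have h1 := D.apply g ⟨a, ha⟩
    rw [h] at h1
    have h2 : D.π (⟨g * a * g⁻¹, D.conj_mem g ⟨a, ha⟩⟩ * ⟨a, ha⟩⁻¹) = 0 := by
      rw [D.map_mul, D.map_inv, ← h1]
      simp
    rw [D.map_eq_zero] at h2
    exact ⟨_, h2, rfl⟩
  · intro h
    apply LinearMap.ext
    intro v
    obtain ⟨a, rfl⟩ := D.surj v
    rw [D.apply, Module.End.one_apply]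
    obtain ⟨b, hb, hb'⟩ := h a a.2
    have h1 : b = ⟨g * a * g⁻¹, D.conj_mem g a⟩ * a⁻¹ := Subtype.ext hb'
    have h2 : D.π b = 0 := (D.map_eq_zero b).mpr hb
    rw [h1, D.map_mul, D.map_inv] at h2
    rwa [← sub_eq_add_neg, sub_eq_zero] at h2

/-- the power formula: `(a x)^m x^{-m}` modulo the Frattini subgroup. -/
theorem Data.pow_formula (D : Data p N V) (x : G) (a : N) (m : ℕ) :
    ∃ h : ((a : G) * x) ^ m * (x ^ m)⁻¹ ∈ N,
      D.π ⟨((a : G) * x) ^ m * (x ^ m)⁻¹, h⟩ = (∑ i ∈ Finset.range m, D.ρ x ^ i) (D.π a) := by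
  induction m with
  | zero =>
    refine ⟨by simp, ?_⟩
    have h0 : (⟨((a : G) * x) ^ 0 * (x ^ 0)⁻¹, by simp⟩ : N) = 1 := by apply Subtype.ext; simp
    rw [h0, D.map_one]
    simp
  | succ m ih =>
    obtain ⟨h, ih⟩ := ih
    have e : ((a : G) * x) ^ (m + 1) * (x ^ (m + 1))⁻¹ =
        (((a : G) * x) ^ m * (x ^ m)⁻¹) * (x ^ m * a * (x ^ m)⁻¹) := by
      rw [pow_succ ((a : G) * x), pow_succ x]; group
    have hm := D.conj_mem (x ^ m) a
    refine ⟨by rw [e]; exact mul_mem h hm, ?_⟩
    have h2 : (⟨((a : G) * x) ^ (m + 1) * (x ^ (m + 1))⁻¹, by rw [e]; exact mul_mem h hm⟩ : N) =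
        ⟨((a : G) * x) ^ m * (x ^ m)⁻¹, h⟩ * ⟨x ^ m * a * (x ^ m)⁻¹, hm⟩ := Subtype.ext e
    rw [h2, D.map_mul, ih, ← D.apply, map_pow, Finset.sum_range_succ, LinearMap.add_apply]

theorem Data.sum_eq_zero (D : Data p N V) (x : G) (m : ℕ) (h : ∀ a ∈ N, (a * x) ^ m = 1) :
    ∑ i ∈ Finset.range m, D.ρ x ^ i = 0 := by
  apply LinearMap.ext
  intro v
  obtain ⟨a, rfl⟩ := D.surj v
  obtain ⟨h1, h2⟩ := D.pow_formula x a m
  rw [← h2, LinearMap.zero_apply]
  have h3 : (⟨((a : G) * x) ^ m * (x ^ m)⁻¹, h1⟩ : N) = 1 := by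
    apply Subtype.ext
    change ((a : G) * x) ^ m * (x ^ m)⁻¹ = 1
    have h4 := h 1 (one_mem _)
    rw [one_mul] at h4
    rw [h a a.2, h4, inv_one, mul_one]
  rw [h3, D.map_one]

/-- In a `p`-solvable group with `O_{p'} = 1` the kernel of the action on `O_p/Φ(O_p)` is `O_p`. -/
theorem Data.ρ_eq_one_iff_mem [hp : Fact p.Prime] [Finite G] (hsol : IsPSolvable p G) (hO : pPrimeCore p G = ⊥)
    (D : Data p (pCore p G) V) (g : G) : D.ρ g = 1 ↔ g ∈ pCore p G := by
  have hNp : IsPGroup p (pCore p G) := Cfsg.Agent.Lib.H32Cores.pCore_isPGroup p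
  constructor
  · intro hg
    -- the kernel is a normal p-subgroup
    have hle : D.ρ.toHomUnits.ker ≤ pCore p G := by
      apply Cfsg.Agent.Lib.H32Cores.le_pCore p (MonoidHom.normal_ker _)
      rw [IsPGroup.iff_orderOf]
      rintro ⟨k, hk⟩
      rw [Subgroup.orderOf_mk]
      obtain ⟨a, m, hm, hak⟩ := Nat.exists_eq_pow_mul_and_not_dvd (n := orderOf k) (orderOf_pos k).ne' p hp.out.ne_one
      -- the p'-part is trivial
      refine ⟨a, ?_⟩
      have hz : k ^ (p ^ a) = 1 := by
        have hord : orderOf (k ^ (p ^ a)) = m := by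
          rw [orderOf_pow' _ (pow_ne_zero _ hp.out.ne_zero), hak, Nat.gcd_eq_right (Dvd.intro _ rfl),
            Nat.mul_div_cancel_left _ (pow_pos hp.out.pos a)]
        have h1 : Subgroup.zpowers (k ^ (p ^ a)) ≤ Subgroup.centralizer ((pCore p G : Subgroup G) : Set G) := by
          apply le_centralizer_of_frattini
          · rw [Subgroup.normalizer_eq_top]; exact le_top
          · rw [Nat.card_zpowers, hord]
            obtain ⟨c, hc⟩ := IsPGroup.iff_card.mp (hNp.to_subgroup (frattini (pCore p G)))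
            rw [hc]
            exact Nat.Coprime.pow_right c ((Nat.Prime.coprime_iff_not_dvd hp.out).mpr hm).symm
          · intro b hb a' ha'
            have hbk : b ∈ D.ρ.toHomUnits.ker := by
              have : Subgroup.zpowers (k ^ (p ^ a)) ≤ D.ρ.toHomUnits.ker := by
                rw [Subgroup.zpowers_le]; exact pow_mem hk _
              exact this hb
            have h2 : D.ρ b = 1 := congrArg Units.val hbk
            exact (D.ρ_eq_one_iff b).mp h2 a' ha'
        have h2 := h1.trans (Cfsg.Agent.Lib.H32PSolv.centralizer_pCore_le hsol hO)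
        have h3 := h2 (Subgroup.mem_zpowers _)
        obtain ⟨c, hc⟩ := hNp ⟨_, h3⟩
        have h4 : (k ^ (p ^ a)) ^ (p ^ c) = 1 := congrArg Subtype.val hc
        have h5 := orderOf_dvd_of_pow_eq_one h4
        rw [hord] at h5
        have h6 : m = 1 := by
          have : Nat.Coprime m (p ^ c) := Nat.Coprime.pow_right c ((Nat.Prime.coprime_iff_not_dvd hp.out).mpr hm).symm
          exact Nat.Coprime.eq_one_of_dvd this h5
        rw [h6, orderOf_eq_one_iff] at hord
        exact hord
      have hm1 : m = 1 := by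
        have h1 := orderOf_dvd_of_pow_eq_one hz
        rw [hak] at h1
        have h2 : m ∣ p ^ a := (Dvd.intro_left _ rfl).trans h1
        exact Nat.Coprime.eq_one_of_dvd (Nat.Coprime.pow_right a ((Nat.Prime.coprime_iff_not_dvd hp.out).mpr hm).symm) h2
      rw [hak, hm1, mul_one]
    exact hle (Units.ext hg)
  · intro hg
    rw [D.ρ_eq_one_iff]
    intro a ha
    refine ⟨⁅(⟨g, hg⟩ : pCore p G), (⟨a, ha⟩ : pCore p G)⁆, ?_, rfl⟩
    exact commutator_le_frattini hNp (Subgroup.commutator_mem_commutator (Subgroup.mem_top _) (Subgroup.mem_top _))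

/-- the induced faithful representation of `G/O_p(G)`. -/
theorem Data.exists_quot [hp : Fact p.Prime] [Finite G] (hsol : IsPSolvable p G) (hO : pPrimeCore p G = ⊥)
    (D : Data p (pCore p G) V) : ∃ σ : (G ⧸ pCore p G) →* Module.End (ZMod p) V,
      Function.Injective σ ∧ ∀ g, σ (QuotientGroup.mk' _ g) = D.ρ g := by
  let σ' : (G ⧸ pCore p G) →* (Module.End (ZMod p) V)ˣ := QuotientGroup.lift (pCore p G) D.ρ.toHomUnits (by
    intro g hg
    apply Units.ext
    exact (D.ρ_eq_one_iff_mem hsol hO g).mpr hg)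
  refine ⟨(Units.coeHom _).comp σ', ?_, fun g => rfl⟩
  intro a b hab
  obtain ⟨a, rfl⟩ := QuotientGroup.mk'_surjective _ a
  obtain ⟨b, rfl⟩ := QuotientGroup.mk'_surjective _ b
  have h1 : D.ρ a = D.ρ b := hab
  have h2 : D.ρ (a⁻¹ * b) = 1 := by
    rw [_root_.map_mul, ← h1, ← _root_.map_mul, inv_mul_cancel, _root_.map_one]
  rw [D.ρ_eq_one_iff_mem hsol hO] at h2
  exact QuotientGroup.eq.mpr h2

end Cfsg.Agent.Lib.FratRep
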