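import Mathlib

/-!
# A coherence lemma for integer vectors (S4709, S4721)
-/

set_option autoImplicit false
set_option linter.all false
set_option maxHeartbeats 400000

namespace Cfsg.Agent.Lib.FrobBlk

section

variable {X : Type*} [Fintype X] [DecidableEq X]

/-- An integer vector of norm 2 orthogonal to a positive vector. -/
theorem norm2 (v : X → ℤ) (deg : X → ℤ) (hdeg : ∀ x, 0 < deg x) (h : ∑ x, v x * v x = 2)
    (hd : ∑ x, deg x * v x = 0) :
    ∃ a b : X, a ≠ b ∧ ∀ x, v x = (if x = a then 1 else 0) - (if x = b then 1 else 0) := by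
  have h0 : ∀ x, v x = 0 ∨ v x = 1 ∨ v x = -1 := by
    intro x
    have h1 : v x * v x ≤ 2 := by
      rw [← h]
      exact Finset.single_le_sum (f := fun x => v x * v x) (fun y _ => mul_self_nonneg _) (Finset.mem_univ x)
    have h2 : v x < 2 := by nlinarith
    have h3 : -2 < v x := by nlinarith
    omega
  have h1 : (Finset.univ.filter (fun x => v x ≠ 0)).card = 2 := by
    have h2 : (∑ x, v x * v x) = ((Finset.univ.filter (fun x => v x ≠ 0)).card : ℤ) := by
      rw [Finset.card_filter]
      push_cast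
      refine Finset.sum_congr rfl fun x _ => ?_
      rcases h0 x with h | h | h <;> simp [h]
    rw [h] at h2
    exact_mod_cast h2.symm
  obtain ⟨a, b, hab, habc⟩ := Finset.card_eq_two.1 h1
  have hm : ∀ x, v x ≠ 0 ↔ x = a ∨ x = b := by
    intro x
    have : x ∈ Finset.univ.filter (fun x => v x ≠ 0) ↔ x ∈ ({a, b} : Finset X) := by rw [habc]
    simpa using this
  have hd2 : deg a * v a + deg b * v b = 0 := by
    rw [← hd]
    have : ∑ x, deg x * v x = ∑ x ∈ ({a, b} : Finset X), deg x * v x := by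
      symm
      apply Finset.sum_subset (Finset.subset_univ _)
      intro x _ hx
      have : v x = 0 := by
        by_contra hcon
        apply hx
        rw [← habc]; simp [hcon]
      rw [this, mul_zero]
    rw [this, Finset.sum_pair hab]
  have va := (h0 a).resolve_left ((hm a).2 (Or.inl rfl))
  have vb := (h0 b).resolve_left ((hm b).2 (Or.inr rfl))
  have da := hdeg a
  have db := hdeg b
  have vx : ∀ x, x ≠ a → x ≠ b → v x = 0 := by
    intro x h1 h2
    by_contra hcon
    rcases (hm x).1 hcon with h | h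
    · exact h1 h
    · exact h2 h
  rcases va with va | va <;> rcases vb with vb | vb <;> rw [va, vb] at hd2
  · exfalso; linarith
  · refine ⟨a, b, hab, fun x => ?_⟩
    by_cases h1 : x = a
    · subst h1; rw [va, if_pos rfl, if_neg hab]; norm_num
    · by_cases h2 : x = b
      · subst h2; rw [vb, if_pos rfl, if_neg h1]; norm_num
      · rw [vx x h1 h2, if_neg h1, if_neg h2]; norm_num
  · refine ⟨b, a, hab.symm, fun x => ?_⟩
    by_cases h1 : x = a
    · subst h1; rw [va, if_pos rfl, if_neg hab]; norm_num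
    · by_cases h2 : x = b
      · subst h2; rw [vb, if_pos rfl, if_neg h1]; norm_num
      · rw [vx x h1 h2, if_neg h1, if_neg h2]; norm_num
  · exfalso; linarith

/-- inner product of two differences -/
theorem inner_diff (a b a' b' : X) :
    ∑ x, (((if x = a then 1 else 0) - (if x = b then 1 else 0)) *
      ((if x = a' then 1 else 0) - (if x = b' then 1 else 0)) : ℤ) =
      (if a = a' then 1 else 0) - (if a = b' then 1 else 0) - (if b = a' then 1 else 0) +
        (if b = b' then 1 else 0) := by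
  have h : ∀ c d : X, ∑ x, ((if x = c then 1 else 0) * (if x = d then 1 else 0) : ℤ) =
      if c = d then 1 else 0 := by
    intro c d
    rw [Finset.sum_eq_single c]
    · simp
    · intro x _ hx; simp [hx]
    · intro h; exact absurd (Finset.mem_univ _) h
  simp only [sub_mul, mul_sub, Finset.sum_sub_distrib, h]
  ring

/-- Coherence: integer vectors with Gram matrix `m J + 1` orthogonal to a positive vector. -/
theorem coherent (F : Finset (X → ℤ)) (m : ℤ) (hF : 2 ≤ F.card)
    (h1 : ∀ v ∈ F, ∑ x, v x * v x = m + 1) (h2 : ∀ v ∈ F, ∀ w ∈ F, v ≠ w → ∑ x, v x * w x = m)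
    (deg : X → ℤ) (hdeg : ∀ x, 0 < deg x) (hd : ∀ v ∈ F, ∑ x, deg x * v x = 0) :
    ∃ s : ℤ, (s = 1 ∨ s = -1) ∧ ∃ e : (X → ℤ) → X, Set.InjOn e F ∧
      ∀ v ∈ F, ∀ w ∈ F, ∀ x, v x - w x = s * ((if x = e v then 1 else 0) - (if x = e w then 1 else 0)) := by
  have hdiff : ∀ v ∈ F, ∀ w ∈ F, v ≠ w → ∃ a b : X, a ≠ b ∧
      ∀ x, v x - w x = (if x = a then 1 else 0) - (if x = b then 1 else 0) := by
    intro v hv w hw hne
    apply norm2 (fun x => v x - w x) deg hdeg
    · have : ∀ x, (v x - w x) * (v x - w x) = v x * v x + w x * w x - 2 * (v x * w x) := by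
        intro x; ring
      simp only [this]
      rw [Finset.sum_sub_distrib, Finset.sum_add_distrib, ← Finset.mul_sum, h1 v hv, h1 w hw, h2 v hv w hw hne]
      ring
    · simp only [mul_sub]
      rw [Finset.sum_sub_distrib, hd v hv, hd w hw, sub_zero]
  have hprod : ∀ v ∈ F, ∀ w ∈ F, ∀ u ∈ F, v ≠ w → v ≠ u → w ≠ u →
      ∑ x, (v x - w x) * (v x - u x) = 1 := by
    intro v hv w hw u hu hvw hvu hwu
    have : ∀ x, (v x - w x) * (v x - u x) = v x * v x - v x * u x - w x * v x + w x * u x := by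
      intro x; ring
    simp only [this]
    rw [Finset.sum_add_distrib, Finset.sum_sub_distrib, Finset.sum_sub_distrib, h1 v hv,
      h2 v hv u hu hvu, h2 w hw v hv hvw.symm, h2 w hw u hu hwu]
    ring
  obtain ⟨v₁, hv₁, v₂, hv₂, hne⟩ := Finset.one_lt_card.1 (show 1 < F.card by omega)
  -- the sign and the base point
  have key : ∃ s : ℤ, (s = 1 ∨ s = -1) ∧ ∃ a : X, ∀ w ∈ F, w ≠ v₁ → ∃ b : X, b ≠ a ∧
      ∀ x, v₁ x - w x = s * ((if x = a then 1 else 0) - (if x = b then 1 else 0)) := by
    obtain ⟨a, b, hab, e12⟩ := hdiff v₁ hv₁ v₂ hv₂ hne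
    by_cases h3 : ∃ v₃ ∈ F, v₃ ≠ v₁ ∧ v₃ ≠ v₂
    · obtain ⟨v₃, hv₃, h31, h32⟩ := h3
      obtain ⟨a', b', hab', e13⟩ := hdiff v₁ hv₁ v₃ hv₃ h31.symm
      have e := hprod v₁ hv₁ v₂ hv₂ v₃ hv₃ hne h31.symm h32.symm
      simp only [e12, e13] at e
      rw [inner_diff] at e
      have hne23 : ¬ (a = a' ∧ b = b') := by
        rintro ⟨rfl, rfl⟩
        apply h32
        funext x
        have h4 := e12 x
        have h5 := e13 x
        omega
      have hcase : (a = a' ∧ b ≠ b') ∨ (b = b' ∧ a ≠ a') := by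
        by_cases h4 : a = a'
        · left; exact ⟨h4, fun h5 => hne23 ⟨h4, h5⟩⟩
        · right
          refine ⟨?_, h4⟩
          by_contra h5
          rw [if_neg h4, if_neg h5] at e
          split_ifs at e <;> omega
      rcases hcase with ⟨rfl, hbb⟩ | ⟨rfl, haa⟩
      · -- common `a`
        refine ⟨1, Or.inl rfl, a, fun w hw hw1 => ?_⟩
        by_cases hw2 : w = v₂
        · subst hw2; exact ⟨b, hab.symm, fun x => by rw [e12, one_mul]⟩
        by_cases hw3 : w = v₃
        · subst hw3; exact ⟨b', hab'.symm, fun x => by rw [e13, one_mul]⟩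
        obtain ⟨c, d, hcd, e1w⟩ := hdiff v₁ hv₁ w hw (Ne.symm hw1)
        have ew2 := hprod v₁ hv₁ v₂ hv₂ w hw hne (Ne.symm hw1) (Ne.symm hw2)
        have ew3 := hprod v₁ hv₁ v₃ hv₃ w hw h31.symm (Ne.symm hw1) (Ne.symm hw3)
        simp only [e12, e1w] at ew2
        simp only [e13, e1w] at ew3
        rw [inner_diff] at ew2 ew3
        have hac : a = c := by
          by_contra hac
          rw [if_neg hac] at ew2 ew3
          have hbd : b = d := by
            by_contra h; rw [if_neg h] at ew2; split_ifs at ew2 <;> omega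
          have hbd' : b' = d := by
            by_contra h; rw [if_neg h] at ew3; split_ifs at ew3 <;> omega
          exact hbb (hbd.trans hbd'.symm)
        subst hac
        exact ⟨d, hcd.symm, fun x => by rw [e1w, one_mul]⟩
      · -- common `b`
        refine ⟨-1, Or.inr rfl, b, fun w hw hw1 => ?_⟩
        by_cases hw2 : w = v₂
        · subst hw2; exact ⟨a, hab, fun x => by rw [e12]; ring⟩
        by_cases hw3 : w = v₃
        · subst hw3; exact ⟨a', hab', fun x => by rw [e13]; ring⟩
        obtain ⟨c, d, hcd, e1w⟩ := hdiff v₁ hv₁ w hw (Ne.symm hw1)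
        have ew2 := hprod v₁ hv₁ v₂ hv₂ w hw hne (Ne.symm hw1) (Ne.symm hw2)
        have ew3 := hprod v₁ hv₁ v₃ hv₃ w hw h31.symm (Ne.symm hw1) (Ne.symm hw3)
        simp only [e12, e1w] at ew2
        simp only [e13, e1w] at ew3
        rw [inner_diff] at ew2 ew3
        have hbd : b = d := by
          by_contra hbd
          rw [if_neg hbd] at ew2 ew3
          have hac : a = c := by
            by_contra h; rw [if_neg h] at ew2; split_ifs at ew2 <;> omega
          have hac' : a' = c := by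
            by_contra h; rw [if_neg h] at ew3; split_ifs at ew3 <;> omega
          exact haa (hac.trans hac'.symm)
        subst hbd
        exact ⟨c, hcd, fun x => by rw [e1w]; ring⟩
    · push Not at h3
      refine ⟨1, Or.inl rfl, a, fun w hw hw1 => ⟨b, hab.symm, fun x => ?_⟩⟩
      rw [h3 w hw hw1, e12, one_mul]
  obtain ⟨s, hs, a, hb⟩ := key
  have : Nonempty X := ⟨a⟩
  choose! b hba hbx using hb
  refine ⟨s, hs, fun v => if v = v₁ then a else b v, ?_, ?_⟩
  · intro v hv w hw hvw
    simp only at hvw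
    by_contra hne'
    split_ifs at hvw with h4 h5 h5
    · exact hne' (h4.trans h5.symm)
    · exact hba w hw h5 hvw.symm
    · exact hba v hv h4 hvw
    · apply hne'
      funext x
      have e1 := hbx v hv h4 x
      have e2 := hbx w hw h5 x
      rw [hvw] at e1
      omega
  · intro v hv w hw x
    beta_reduce
    by_cases h4 : v = v₁ <;> by_cases h5 : w = v₁
    · rw [if_pos h4, if_pos h5, h4, h5]; ring
    · rw [if_pos h4, if_neg h5, h4]; exact hbx w hw h5 x
    · rw [if_neg h4, if_pos h5, h5]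
      have e1 := hbx v hv h4 x
      linear_combination -e1
    · rw [if_neg h4, if_neg h5]
      have e1 := hbx v hv h4 x
      have e2 := hbx w hw h5 x
      linear_combination e2 - e1

/-- The values off the diagonal. -/
theorem coherent' (F : Finset (X → ℤ)) (m : ℤ) (hF : 2 ≤ F.card)
    (h1 : ∀ v ∈ F, ∑ x, v x * v x = m + 1) {s : ℤ} (hs : s = 1 ∨ s = -1) {e : (X → ℤ) → X}
    (he : Set.InjOn e F)
    (hx : ∀ v ∈ F, ∀ w ∈ F, ∀ x, v x - w x = s * ((if x = e v then 1 else 0) - (if x = e w then 1 else 0))) :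
    ∃ d : ℤ, (∀ v ∈ F, ∀ w ∈ F, v ≠ w → v (e w) = d) ∧ (∀ v ∈ F, v (e v) = d + s) ∧
      (∀ v ∈ F, ∀ w ∈ F, ∀ x, x ∉ F.image e → v x = w x) ∧
      ∀ v ∈ F, (d + s) ^ 2 + (F.card - 1) * d ^ 2 + ∑ x ∈ Finset.univ.filter (fun x => x ∉ F.image e), v x ^ 2 = m + 1 := by
  have hv1 : ∀ v ∈ F, ∀ w ∈ F, v ≠ w → v (e w) = w (e w) - s := by
    intro v hv w hw hne
    have h3 := hx v hv w hw (e w)
    have h4 : e w ≠ e v := fun h => hne (he hw hv h).symm
    rw [if_neg h4, if_pos rfl] at h3
    linear_combination h3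
  have hout : ∀ v ∈ F, ∀ w ∈ F, ∀ x, x ∉ F.image e → v x = w x := by
    intro v hv w hw x hxF
    have h3 := hx v hv w hw x
    rw [if_neg (fun h => hxF (Finset.mem_image.2 ⟨v, hv, h.symm⟩)),
      if_neg (fun h => hxF (Finset.mem_image.2 ⟨w, hw, h.symm⟩))] at h3
    linear_combination h3
  have hss : s * s = 1 := by rcases hs with rfl | rfl <;> norm_num
  -- the norm
  have hsplit : ∀ v ∈ F, ∀ f : X → ℤ, ∑ x, f x = f (e v) + ∑ w ∈ F.erase v, f (e w) +
      ∑ x ∈ Finset.univ.filter (fun x => x ∉ F.image e), f x := by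
    intro v hv f
    have h5 : Finset.univ.filter (fun x => x ∈ F.image e) = F.image e := by ext; simp
    rw [← Finset.sum_filter_add_sum_filter_not Finset.univ (fun x => x ∈ F.image e) f, h5,
      Finset.sum_image he, ← Finset.add_sum_erase F (fun w => f (e w)) hv]
  have hnorm : ∀ v ∈ F, ∑ w ∈ F, (w (e w) - s) ^ 2 + 2 * s * (v (e v) - s) + 1 +
      ∑ x ∈ Finset.univ.filter (fun x => x ∉ F.image e), v x ^ 2 = m + 1 := by
    intro v hv
    rw [← h1 v hv, hsplit v hv, ← Finset.add_sum_erase F (fun w => (w (e w) - s) ^ 2) hv]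
    have h6 : ∑ w ∈ F.erase v, v (e w) * v (e w) = ∑ w ∈ F.erase v, (w (e w) - s) ^ 2 := by
      refine Finset.sum_congr rfl fun w hw => ?_
      rw [Finset.mem_erase] at hw
      rw [hv1 v hv w hw.2 (Ne.symm hw.1)]; ring
    have h7 : ∑ x ∈ Finset.univ.filter (fun x => x ∉ F.image e), v x * v x =
        ∑ x ∈ Finset.univ.filter (fun x => x ∉ F.image e), v x ^ 2 :=
      Finset.sum_congr rfl fun x _ => by ring
    rw [h6, h7]
    linear_combination (-1 : ℤ) * hss
  obtain ⟨v₀, hv₀⟩ : F.Nonempty := Finset.card_pos.1 (by omega)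
  have hconst : ∀ v ∈ F, v (e v) = v₀ (e v₀) := by
    intro v hv
    have e1 := hnorm v hv
    have e2 := hnorm v₀ hv₀
    have h7 : ∑ x ∈ Finset.univ.filter (fun x => x ∉ F.image e), v x ^ 2 =
        ∑ x ∈ Finset.univ.filter (fun x => x ∉ F.image e), v₀ x ^ 2 := by
      refine Finset.sum_congr rfl fun x hx' => ?_
      rw [Finset.mem_filter] at hx'
      rw [hout v hv v₀ hv₀ x hx'.2]
    rw [h7] at e1
    have h8 : s * (v (e v) - v₀ (e v₀)) = 0 := by linarith
    rcases mul_eq_zero.1 h8 with h | h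
    · rcases hs with rfl | rfl <;> norm_num at h
    · linarith
  refine ⟨v₀ (e v₀) - s, ?_, ?_, hout, ?_⟩
  · intro v hv w hw hne
    rw [hv1 v hv w hw hne, hconst w hw]
  · intro v hv
    rw [hconst v hv]; ring
  · intro v hv
    have e1 := hnorm v hv
    have h9 : ∑ w ∈ F, (w (e w) - s) ^ 2 = F.card * (v₀ (e v₀) - s) ^ 2 := by
      rw [Finset.sum_congr rfl fun w hw => by rw [hconst w hw], Finset.sum_const, nsmul_eq_mul]
    rw [h9, hconst v hv] at e1
    linear_combination e1 + hss

end

end Cfsg.Agent.Lib.FrobBlk
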