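import Mathlib
import Cfsg.Agent.Lib.FrobBlk
import Cfsg.Agent.Lib.BlockHomo3

/-!
# The principal block of a group with abelian Sylow `p`-subgroup and Frobenius automizer (S4709, S4721)
-/

set_option autoImplicit false
set_option linter.all false
set_option maxHeartbeats 400000

namespace Cfsg.Agent.Lib.FrobBlk

open Cfsg Cfsg.Agent.Lib.BlockRing Cfsg.Agent.Lib.BlockGA
open Cfsg.Agent.Lib.BlockIdem Cfsg.Agent.Lib.BlockThird Cfsg.Agent.Lib.BlockSecond
open Cfsg.Agent.Lib.CharBasic Cfsg.Agent.Lib.BlockHomo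
open scoped ComplexConjugate
open MonoidAlgebra (single)

universe u

variable {G : Type u} [Group G] [Finite G]

structure FC (p : ℕ) (M : Ideal AlgInt) (P : Subgroup G) (A : Subgroup (MulAut P)) (k : ℕ) : Prop where
  hM : IsPModular p M
  card : Nat.card P = p ^ k
  syl : (Nat.card G).factorization p = k
  comm : ∀ x y : P, x * y = y * x
  fpf : ∀ a ∈ A, a ≠ 1 → ∀ x : P, a x = x → x = 1
  fus : ∀ x y : P, IsConj (x : G) (y : G) ↔ ∃ a ∈ A, a x = y
  comp : ∀ x : P, x ≠ 1 → ∃ N : Subgroup (Subgroup.centralizer ({(x : G)} : Set G)), N.Normal ∧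
    ¬ p ∣ Nat.card N ∧ N.index = p ^ k

variable {p : ℕ} {M : Ideal AlgInt} {P : Subgroup G} {A : Subgroup (MulAut P)} {k : ℕ}

namespace FC

theorem exists_order (h : FC p M P A k) (x : P) : ∃ j, orderOf (x : G) = p ^ j := by
  have h1 : orderOf x ∣ p ^ k := by
    rw [← h.card]; exact orderOf_dvd_natCard x
  obtain ⟨j, -, hj⟩ := (Nat.dvd_prime_pow h.hM.1).1 h1
  exact ⟨j, by rw [Subgroup.orderOf_coe]; exact hj⟩

theorem not_dvd_one (h : FC p M P A k) {H : Type*} [Group H] : ¬ p ∣ orderOf (1 : H) := by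
  rw [orderOf_one, Nat.dvd_one]; exact h.hM.1.one_lt.ne'

theorem isPPart_self (h : FC p M P A k) (x : P) : IsPPart p (x : G) (x : G) :=
  ⟨1, mul_one _, Commute.one_right _, h.exists_order x, h.not_dvd_one⟩

theorem dvd_order (h : FC p M P A k) {x : P} (hx : x ≠ 1) : p ∣ orderOf (x : G) := by
  obtain ⟨j, hj⟩ := h.exists_order x
  rw [hj]
  apply dvd_pow_self
  rintro rfl
  rw [pow_zero, orderOf_eq_one_iff] at hj
  exact hx (Subtype.ext hj)

theorem sum_conj (h : FC p M P A k) {x y : P} (hx : x ≠ 1) (hxy : IsConj (x : G) (y : G)) :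
    ∑ χ ∈ PB M G, (χ : G → ℂ) x * conj ((χ : G → ℂ) y) = (p : ℂ) ^ k := by
  obtain ⟨N, hN, hN2, hNi⟩ := h.comp x hx
  obtain ⟨j, hj⟩ := h.exists_order x
  have h1 := BlockSection.principal_section_sum h.hM hj (H := Subgroup.centralizer ({(x : G)} : Set G))
    (fun g => by rw [Subgroup.mem_centralizer_singleton_iff]; exact ⟨fun h => h.symm, fun h => h.symm⟩)
    (y := 1) (y' := 1) h.not_dvd_one h.not_dvd_one
  rw [BlockSection.sum_principal_of_normal_complement h.hM hN2 hNi h.not_dvd_one h.not_dvd_one,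
    finsum_PB] at h1
  refine Eq.trans (Finset.sum_congr rfl fun χ _ => ?_) h1
  have h2 : (χ : G → ℂ) y = (χ : G → ℂ) x := χ.2.isClassFunction.conj_eq hxy.symm
  rw [h2]
  simp

theorem sum_not_conj (h : FC p M P A k) {x y : P} (hxy : ¬ IsConj (x : G) (y : G)) :
    ∑ χ ∈ PB M G, (χ : G → ℂ) x * conj ((χ : G → ℂ) y) = 0 := by
  have h1 := BlockOrth.block_orthogonality h.hM (isPBlock_principal (G := G)) (h.isPPart_self x)
    (h.isPPart_self y) hxy
  rw [finsum_PB] at h1
  rw [← h1]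
  refine Finset.sum_congr rfl fun χ _ => ?_
  rw [χ.2.inv]

theorem inj (h : FC p M P A k) {x : P} (hx : x ≠ 1) {a b : MulAut P} (ha : a ∈ A) (hb : b ∈ A)
    (hab : a x = b x) : a = b := by
  by_contra hne
  apply hx
  apply h.fpf (b⁻¹ * a) (A.mul_mem (A.inv_mem hb) ha)
  · intro e
    exact hne (by rw [← one_mul b, ← mul_one a] at *; rw [inv_mul_eq_one] at e; simpa using e.symm)
  · rw [MulAut.mul_apply, hab, MulAut.inv_apply_self]

/-- The twist of a character of `P`. -/
def tw (a : MulAut P) (l : IrrCharacter P) : IrrCharacter P :=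
  ⟨fun x => (l : P → ℂ) (a x), (isIrrCharacter_comp_mulEquiv_iff (a : P ≃* P)).2 l.2⟩

omit [Finite G] in
theorem tw_apply (a : MulAut P) (l : IrrCharacter P) (x : P) :
    (tw a l : P → ℂ) x = (l : P → ℂ) (a x) := rfl

omit [Finite G] in
theorem tw_tw (a b : MulAut P) (l : IrrCharacter P) : tw a (tw b l) = tw (b * a) l := by
  apply Subtype.ext
  funext x
  rw [tw_apply, tw_apply, tw_apply, MulAut.mul_apply]

omit [Finite G] in
theorem tw_one (l : IrrCharacter P) : tw 1 l = l := rfl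

omit [Finite G] in
theorem tw_triv (a : MulAut P) : tw a (triv P) = triv P := rfl

omit [Finite G] in
theorem tw_inj (a : MulAut P) : Function.Injective (tw a : IrrCharacter P → IrrCharacter P) := by
  intro l m hlm
  have := congrArg (tw a⁻¹) hlm
  rwa [tw_tw, tw_tw, mul_inv_cancel, tw_one, tw_one] at this

theorem deg_one (h : FC p M P A k) (l : IrrCharacter P) : (l : P → ℂ) 1 = 1 :=
  l.2.one_eq_one_of_comm fun a b => h.comm a b

theorem lmul (h : FC p M P A k) (l : IrrCharacter P) (a b : P) :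
    (l : P → ℂ) (a * b) = (l : P → ℂ) a * (l : P → ℂ) b :=
  l.2.isCharacter.map_mul_of_linear (h.deg_one l) a b

theorem tw_fpf (h : FC p M P A k) {a : MulAut P} (ha : a ∈ A) (ha1 : a ≠ 1) {l : IrrCharacter P}
    (hl : tw a l = l) : l = triv P := by
  have hinj : Function.Injective (fun x : P => a x * x⁻¹) := by
    intro x y hxy
    simp only at hxy
    have h1 : a (x * y⁻¹) = x * y⁻¹ := by
      have e1 : a x = a y * y⁻¹ * x := by rw [← hxy]; group
      rw [map_mul, map_inv, e1, h.comm x y⁻¹, mul_assoc (a y), h.comm (a y) (y⁻¹ * x)]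
      group
    have h2 := h.fpf a ha ha1 _ h1
    exact mul_inv_eq_one.1 h2
  have hsurj := Finite.surjective_of_injective hinj
  apply Subtype.ext
  funext x
  obtain ⟨y, rfl⟩ := hsurj x
  simp only [coe_triv]
  rw [h.lmul]
  have h1 : (l : P → ℂ) (a y) = (l : P → ℂ) y := by rw [← tw_apply, hl]
  rw [h1, ← h.lmul, mul_inv_cancel, h.deg_one]

theorem tw_ne_triv {a : MulAut P} {l : IrrCharacter P} (hl : l ≠ triv P) : tw a l ≠ triv P :=
  fun e => hl (tw_inj a (e.trans (tw_triv a).symm))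

theorem tw_injective (h : FC p M P A k) {l : IrrCharacter P} (hl : l ≠ triv P) {a b : MulAut P}
    (ha : a ∈ A) (hb : b ∈ A) (hab : tw a l = tw b l) : a = b := by
  by_contra hne
  apply hl
  apply h.tw_fpf (a := a * b⁻¹) (A.mul_mem ha (A.inv_mem hb))
  · intro e
    exact hne (mul_inv_eq_one.1 e)
  · have := congrArg (tw b⁻¹) hab
    rw [tw_tw, tw_tw, mul_inv_cancel, tw_one] at this
    exact this

theorem card_irrP (h : FC p M P A k) : Fintype.card (IrrCharacter P) = p ^ k := by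
  have h2 := sum_degree_sq (G := P)
  simp only [h.deg_one, one_pow, Finset.sum_const, Finset.card_univ, nsmul_eq_mul, mul_one, h.card] at h2
  exact_mod_cast h2

section

variable [Fintype P] [Fintype A]

theorem sum_mul (h : FC p M P A k) {x : P} (hx : x ≠ 1) (f : P → ℂ) :
    ∑ y, f y * ∑ χ ∈ PB M G, (χ : G → ℂ) x * conj ((χ : G → ℂ) y) =
      (p : ℂ) ^ k * ∑ a : A, f ((a : MulAut P) x) := by
  classical
  have h1 : ∀ y, f y * ∑ χ ∈ PB M G, (χ : G → ℂ) x * conj ((χ : G → ℂ) y) =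
      ∑ a : A, (if y = (a : MulAut P) x then (p : ℂ) ^ k * f y else 0) := by
    intro y
    by_cases hc : IsConj (x : G) (y : G)
    · rw [h.sum_conj hx hc]
      obtain ⟨a, ha, hay⟩ := (h.fus x y).1 hc
      rw [Finset.sum_eq_single (⟨a, ha⟩ : A)]
      · rw [if_pos hay.symm, mul_comm]
      · intro b _ hb
        rw [if_neg]
        intro e
        exact hb (Subtype.ext (h.inj hx b.2 ha (e.symm.trans hay.symm)))
      · intro h'; exact absurd (Finset.mem_univ _) h'
    · rw [h.sum_not_conj hc, mul_zero]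
      symm
      apply Finset.sum_eq_zero
      intro a _
      rw [if_neg]
      intro e
      exact hc ((h.fus x y).2 ⟨a, a.2, e.symm⟩)
  rw [Finset.sum_congr rfl fun y _ => h1 y, Finset.sum_comm, Finset.mul_sum]
  refine Finset.sum_congr rfl fun a _ => ?_
  rw [Finset.sum_ite_eq' Finset.univ ((a : MulAut P) x), if_pos (Finset.mem_univ _)]

theorem value (h : FC p M P A k) (χ : IrrCharacter G) {x : P} (hx : x ≠ 1) :
    (χ : G → ℂ) x = ∑ l : IrrCharacter P, (dd χ l : ℂ) * (l : P → ℂ) x := by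
  have h1 := (χ.2.isCharacter.restrict P).isClassFunction.expansion_apply x
  have h2 := sum_degree_mul x hx
  simp only [h.deg_one, one_mul] at h2
  have h3 : ∀ l : IrrCharacter P, (dd χ l : ℂ) * (l : P → ℂ) x =
      classInner (fun x : P => (χ : G → ℂ) x) (l : P → ℂ) * (l : P → ℂ) x -
        (aN χ (triv P) : ℂ) * (l : P → ℂ) x := by
    intro l
    rw [aN_spec, dd]; push_cast; ring
  rw [Finset.sum_congr rfl fun l _ => h3 l, Finset.sum_sub_distrib, ← Finset.mul_sum, h2, mul_zero,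
    sub_zero]
  exact h1

theorem degree (h : FC p M P A k) (χ : IrrCharacter G) :
    (χ : G → ℂ) 1 = ∑ l : IrrCharacter P, (dd χ l : ℂ) + (p : ℂ) ^ k * (aN χ (triv P) : ℂ) := by
  have h1 := (χ.2.isCharacter.restrict P).isClassFunction.expansion_apply 1
  simp only [h.deg_one, mul_one] at h1
  have h3 : ∀ l : IrrCharacter P, (dd χ l : ℂ) =
      classInner (fun x : P => (χ : G → ℂ) x) (l : P → ℂ) - (aN χ (triv P) : ℂ) := by
    intro l
    rw [aN_spec, dd]; push_cast; ring
  rw [Finset.sum_congr rfl fun l _ => h3 l, Finset.sum_sub_distrib, Finset.sum_const, Finset.card_univ,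
    h.card_irrP, nsmul_eq_mul]
  push_cast
  rw [sub_add_cancel]
  exact h1

theorem dd_one (h : FC p M P A k) {l : IrrCharacter P} (hl : l ≠ triv P) : dd (triv G) l = -1 := by
  classical
  have h1 := aN_spec (triv G) l
  have h2 := aN_spec (triv G) (triv P)
  have e : (fun x : P => ((triv G : IrrCharacter G) : G → ℂ) x) = (triv P : P → ℂ) := rfl
  rw [e, irr_orthonormal, if_neg hl.symm] at h1
  rw [e, irr_orthonormal, if_pos rfl] at h2
  have h1' : aN (triv G) l = 0 := by exact_mod_cast h1.symm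
  have h2' : aN (triv G) (triv P) = 1 := by exact_mod_cast h2.symm
  rw [dd, h1', h2']
  norm_num

/-- Relation on `p`-regular elements. -/
theorem sum_reg_dd (h : FC p M P A k) (l : IrrCharacter P) {g : G} (hg : ¬ p ∣ orderOf g) :
    ∑ χ ∈ PB M G, (χ : G → ℂ) g * (dd χ l : ℂ) = 0 := by
  have h1 : ∀ χ : IrrCharacter G, (χ : G → ℂ) g * (dd χ l : ℂ) =
      (Nat.card P : ℂ)⁻¹ * ∑ x : P, ((l : P → ℂ) x - 1) * ((χ : G → ℂ) g * conj ((χ : G → ℂ) x)) := by
    intro χ
    rw [← conj_dd, dd_eq, map_mul, map_inv₀, map_natCast, map_sum, mul_left_comm]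
    congr 1
    rw [Finset.mul_sum]
    refine Finset.sum_congr rfl fun x _ => ?_
    rw [map_mul, Complex.conj_conj]
    ring
  rw [Finset.sum_congr rfl fun χ _ => h1 χ, ← Finset.mul_sum, Finset.sum_comm]
  have h2 : ∀ x : P, ∑ χ ∈ PB M G, ((l : P → ℂ) x - 1) * ((χ : G → ℂ) g * conj ((χ : G → ℂ) x)) = 0 := by
    intro x
    rw [← Finset.mul_sum]
    by_cases hx : x = 1
    · rw [hx, h.deg_one, sub_self, zero_mul]
    · have := isPrime h.hM
      have h3 := BlockOsima.weak_orthogonality h.hM (isPBlock_principal (G := G)) hg (h.dvd_order hx)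
      rw [finsum_PB] at h3
      rw [h3, mul_zero]
  rw [Finset.sum_congr rfl fun x _ => h2 x, Finset.sum_const_zero, mul_zero]

open scoped Classical in
theorem inner_sub_one (h : FC p M P A k) {l l' : IrrCharacter P} (hl : l ≠ triv P) (hl' : l' ≠ triv P) :
    (Nat.card P : ℂ)⁻¹ * ∑ x : P, conj ((l : P → ℂ) x - 1) * ((l' : P → ℂ) x - 1) =
      (if l' = l then 1 else 0) + 1 := by
  have h1 : classInner ((l' : P → ℂ) - (triv P : P → ℂ)) ((l : P → ℂ) - (triv P : P → ℂ)) =
      (if l' = l then 1 else 0) + 1 := by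
    rw [classInner_sub_left, classInner_sub_right, classInner_sub_right, irr_orthonormal,
      irr_orthonormal, irr_orthonormal, irr_orthonormal, if_neg hl', if_neg hl.symm, if_pos rfl]
    ring
  rw [← h1, classInner_def]
  congr 1
  refine Finset.sum_congr rfl fun x _ => ?_
  simp [coe_triv]
  ring

open scoped Classical in
theorem gram (h : FC p M P A k) {l l' : IrrCharacter P} (hl : l ≠ triv P) (hl' : l' ≠ triv P) :
    ∑ χ ∈ PB M G, dd χ l * dd χ l' =
      (Fintype.card A : ℤ) + ∑ a : A, (if tw (a : MulAut P) l' = l then 1 else 0 : ℤ) := by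
  have hq : (Nat.card P : ℂ) ≠ 0 := by exact_mod_cast Nat.card_pos.ne'
  have key : ∑ χ ∈ PB M G, (dd χ l : ℂ) * (dd χ l' : ℂ) =
      (Fintype.card A : ℂ) + ∑ a : A, (if tw (a : MulAut P) l' = l then 1 else 0 : ℂ) := by
    have h1 : ∀ χ : IrrCharacter G, (dd χ l : ℂ) * (dd χ l' : ℂ) =
        (Nat.card P : ℂ)⁻¹ * ((Nat.card P : ℂ)⁻¹ * ∑ x : P, ∑ y : P, conj ((l : P → ℂ) x - 1) *
          (((l' : P → ℂ) y - 1) * ((χ : G → ℂ) x * conj ((χ : G → ℂ) y)))) := by
      intro χ
      rw [← conj_dd χ l', dd_eq, dd_eq, map_mul, map_inv₀, map_natCast, map_sum]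
      rw [mul_mul_mul_comm, mul_assoc, Finset.sum_mul_sum]
      congr 2
      refine Finset.sum_congr rfl fun x _ => Finset.sum_congr rfl fun y _ => ?_
      rw [map_mul, Complex.conj_conj]
      ring
    rw [Finset.sum_congr rfl fun χ _ => h1 χ, ← Finset.mul_sum, ← Finset.mul_sum, Finset.sum_comm]
    have h2 : ∀ x : P, ∑ χ ∈ PB M G, ∑ y : P, conj ((l : P → ℂ) x - 1) *
          (((l' : P → ℂ) y - 1) * ((χ : G → ℂ) x * conj ((χ : G → ℂ) y))) =
        (Nat.card P : ℂ) * ∑ a : A, conj ((l : P → ℂ) x - 1) * ((tw (a : MulAut P) l' : P → ℂ) x - 1) := by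
      intro x
      rw [Finset.sum_comm]
      by_cases hx : x = 1
      · simp [hx, h.deg_one]
      · have h3 := h.sum_mul hx (fun y => (l' : P → ℂ) y - 1)
        have h4 : (Nat.card P : ℂ) = (p : ℂ) ^ k := by rw [h.card]; norm_num
        rw [← h4] at h3
        have h5 : ∑ y : P, ∑ χ ∈ PB M G, conj ((l : P → ℂ) x - 1) *
          (((l' : P → ℂ) y - 1) * ((χ : G → ℂ) x * conj ((χ : G → ℂ) y))) =
          conj ((l : P → ℂ) x - 1) * ∑ y, ((l' : P → ℂ) y - 1) *
            ∑ χ ∈ PB M G, (χ : G → ℂ) x * conj ((χ : G → ℂ) y) := by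
          rw [Finset.mul_sum]
          refine Finset.sum_congr rfl fun y _ => ?_
          rw [Finset.mul_sum, Finset.mul_sum]
        rw [h5, h3, mul_left_comm, ← Finset.mul_sum]
        rfl
    rw [Finset.sum_congr rfl fun x _ => h2 x, ← Finset.mul_sum, inv_mul_cancel_left₀ hq,
      Finset.sum_comm, Finset.mul_sum, Finset.sum_congr rfl fun a _ => h.inner_sub_one hl (tw_ne_triv hl'),
      Finset.sum_add_distrib]
    simp only [Finset.sum_const, Finset.card_univ, nsmul_eq_mul, mul_one]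
    ring
  have h6 : ((∑ χ ∈ PB M G, dd χ l * dd χ l' : ℤ) : ℂ) = (((Fintype.card A : ℤ) +
      ∑ a : A, (if tw (a : MulAut P) l' = l then 1 else 0 : ℤ) : ℤ) : ℂ) := by
    push_cast
    exact key
  exact_mod_cast h6

end

section

variable [Fintype P]

/-- the vectors -/
noncomputable def Phi (M : Ideal AlgInt) (l : IrrCharacter P) : IrrCharacter G → ℤ := by
  classical exact fun χ => if χ ∈ PB M G then -dd χ l else 0

theorem Phi_apply (l : IrrCharacter P) {χ : IrrCharacter G} (hχ : χ ∈ PB M G) :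
    Phi M l χ = -dd χ l := by
  rw [Phi, if_pos hχ]

theorem Phi_not (l : IrrCharacter P) {χ : IrrCharacter G} (hχ : χ ∉ PB M G) :
    Phi M l χ = 0 := by
  rw [Phi, if_neg hχ]

theorem triv_mem_PB (h : FC p M P A k) : triv G ∈ PB M G := by
  have := isPrime h.hM
  exact mem_PB.2 triv_mem

theorem Phi_triv [Fintype A] (h : FC p M P A k) {l : IrrCharacter P} (hl : l ≠ triv P) :
    Phi M l (triv G) = 1 := by
  rw [Phi_apply l h.triv_mem_PB, h.dd_one hl]; norm_num

variable [Fintype A]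

open scoped Classical in
theorem Phi_gram (h : FC p M P A k) {l l' : IrrCharacter P} (hl : l ≠ triv P) (hl' : l' ≠ triv P) :
    ∑ χ, Phi M l χ * Phi M l' χ =
      (Fintype.card A : ℤ) + if ∃ a ∈ A, tw a l' = l then 1 else 0 := by
  have h2 : ∑ χ, Phi M l χ * Phi M l' χ = ∑ χ ∈ PB M G, dd χ l * dd χ l' := by
    have : ∑ χ ∈ PB M G, dd χ l * dd χ l' = ∑ χ ∈ PB M G, Phi M l χ * Phi M l' χ := by
      refine Finset.sum_congr rfl fun χ hχ => ?_
      rw [Phi_apply l hχ, Phi_apply l' hχ]; ring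
    rw [this]
    symm
    apply Finset.sum_subset (Finset.subset_univ _)
    intro χ _ hχ
    rw [Phi_not l hχ, zero_mul]
  rw [h2, h.gram hl hl']
  congr 1
  split_ifs with hex
  · obtain ⟨a, ha, hal⟩ := hex
    rw [Finset.sum_eq_single (⟨a, ha⟩ : A)]
    · rw [if_pos hal]
    · intro b _ hb
      rw [if_neg]
      intro e
      exact hb (Subtype.ext (h.tw_injective hl' b.2 ha (e.trans hal.symm)))
    · intro h'; exact absurd (Finset.mem_univ _) h'
  · apply Finset.sum_eq_zero
    intro a _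
    rw [if_neg]
    intro e
    exact hex ⟨a, a.2, e⟩

theorem Phi_norm (h : FC p M P A k) {l : IrrCharacter P} (hl : l ≠ triv P) :
    ∑ χ, Phi M l χ * Phi M l χ = (Fintype.card A : ℤ) + 1 := by
  classical
  rw [h.Phi_gram hl hl, if_pos ⟨1, A.one_mem, tw_one l⟩]

theorem Phi_eq_iff (h : FC p M P A k) {l l' : IrrCharacter P} (hl : l ≠ triv P) (hl' : l' ≠ triv P) :
    Phi M l = Phi M l' ↔ ∃ a ∈ A, tw a l' = l := by
  classical
  have hg := h.Phi_gram hl hl'
  constructor
  · intro e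
    by_contra hcon
    rw [if_neg hcon, ← e, h.Phi_norm hl] at hg
    omega
  · intro e
    rw [if_pos e] at hg
    have h4 : ∑ χ, (Phi M l χ - Phi M l' χ) * (Phi M l χ - Phi M l' χ) = 0 := by
      have : ∀ χ, (Phi M l χ - Phi M l' χ) * (Phi M l χ - Phi M l' χ) =
          Phi M l χ * Phi M l χ + Phi M l' χ * Phi M l' χ - 2 * (Phi M l χ * Phi M l' χ) := by
        intro χ; ring
      simp only [this]
      rw [Finset.sum_sub_distrib, Finset.sum_add_distrib, ← Finset.mul_sum, h.Phi_norm hl,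
        h.Phi_norm hl', hg]
      ring
    funext χ
    have h5 := (Finset.sum_eq_zero_iff_of_nonneg (fun χ _ => mul_self_nonneg _)).1 h4 χ (Finset.mem_univ _)
    have := mul_self_eq_zero.1 h5
    omega

theorem Phi_gram_ne (h : FC p M P A k) {l l' : IrrCharacter P} (hl : l ≠ triv P) (hl' : l' ≠ triv P)
    (hne : Phi M l ≠ Phi M l') : ∑ χ, Phi M l χ * Phi M l' χ = (Fintype.card A : ℤ) := by
  classical
  rw [Ne, h.Phi_eq_iff hl hl'] at hne
  rw [h.Phi_gram hl hl', if_neg hne, add_zero]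

theorem Phi_reg (h : FC p M P A k) (l : IrrCharacter P) {g : G} (hg : ¬ p ∣ orderOf g) :
    ∑ χ, (Phi M l χ : ℂ) * (χ : G → ℂ) g = 0 := by
  have h1 := h.sum_reg_dd l hg
  have h2 : ∑ χ, (Phi M l χ : ℂ) * (χ : G → ℂ) g = ∑ χ ∈ PB M G, (Phi M l χ : ℂ) * (χ : G → ℂ) g := by
    symm
    apply Finset.sum_subset (Finset.subset_univ _)
    intro χ _ hχ
    rw [Phi_not l hχ]; simp
  rw [h2]
  have h3 : ∑ χ ∈ PB M G, (Phi M l χ : ℂ) * (χ : G → ℂ) g = -∑ χ ∈ PB M G, (χ : G → ℂ) g * (dd χ l : ℂ) := by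
    rw [← Finset.sum_neg_distrib]
    refine Finset.sum_congr rfl fun χ hχ => ?_
    rw [Phi_apply l hχ]; push_cast; ring
  rw [h3, h1, neg_zero]

/-- The family of vectors. -/
noncomputable def FF (M : Ideal AlgInt) (P : Subgroup G) [Fintype P] : Finset (IrrCharacter G → ℤ) := by
  classical exact (Finset.univ.erase (triv P)).image (Phi M)

theorem mem_FF {v : IrrCharacter G → ℤ} : v ∈ FF M P ↔ ∃ l : IrrCharacter P, l ≠ triv P ∧ Phi M l = v := by
  simp [FF]

theorem card_fiber (h : FC p M P A k) {l : IrrCharacter P} (hl : l ≠ triv P) [DecidableEq (IrrCharacter G → ℤ)]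
    [DecidableEq (IrrCharacter P)] :
    ((Finset.univ.erase (triv P)).filter (fun x => Phi M x = Phi M l)).card = Fintype.card A := by
  have h1 : (Finset.univ.erase (triv P)).filter (fun x => Phi M x = Phi M l) =
      (Finset.univ : Finset A).image (fun a : A => tw (a : MulAut P) l) := by
    ext m
    simp only [Finset.mem_filter, Finset.mem_erase, Finset.mem_univ, and_true, Finset.mem_image, true_and]
    constructor
    · rintro ⟨hm, hml⟩
      obtain ⟨a, ha, e⟩ := (h.Phi_eq_iff hm hl).1 hml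
      exact ⟨⟨a, ha⟩, e⟩
    · rintro ⟨a, rfl⟩
      exact ⟨tw_ne_triv hl, (h.Phi_eq_iff (tw_ne_triv hl) hl).2 ⟨a, a.2, rfl⟩⟩
  rw [h1, Finset.card_image_of_injective, Finset.card_univ]
  intro a b hab
  exact Subtype.ext (h.tw_injective hl a.2 b.2 hab)

theorem card_FF (h : FC p M P A k) : (FF M P).card * Fintype.card A = p ^ k - 1 := by
  classical
  have h1 := Finset.card_eq_sum_card_image (Phi M) (Finset.univ.erase (triv P))
  rw [Finset.card_erase_of_mem (Finset.mem_univ _), Finset.card_univ, h.card_irrP] at h1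
  have h2 : ∀ v ∈ (Finset.univ.erase (triv P)).image (Phi M),
      ((Finset.univ.erase (triv P)).filter (fun x => Phi M x = v)).card = Fintype.card A := by
    intro v hv
    obtain ⟨l, hl, rfl⟩ := Finset.mem_image.1 hv
    rw [Finset.mem_erase] at hl
    exact h.card_fiber hl.1
  rw [Finset.sum_congr rfl h2, Finset.sum_const, smul_eq_mul] at h1
  rw [h1, FF]

end

end FC

end Cfsg.Agent.Lib.FrobBlk
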