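import Mathlib
import Cfsg.Agent.Lib.FrobBlk2
import Cfsg.Agent.Lib.BlockDefZero
import Cfsg.Agent.Lib.BlockDeg

/-!
# The principal block of a group with abelian Sylow `p`-subgroup and Frobenius automizer, II
-/

set_option autoImplicit false
set_option linter.all false
set_option maxHeartbeats 400000

namespace Cfsg.Agent.Lib.FrobBlk

open Cfsg Cfsg.Agent.Lib.BlockRing Cfsg.Agent.Lib.BlockGA
open Cfsg.Agent.Lib.BlockIdem Cfsg.Agent.Lib.BlockThird Cfsg.Agent.Lib.BlockSecond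
open Cfsg.Agent.Lib.CharBasic Cfsg.Agent.Lib.BlockHomo
open scoped ComplexConjugate
open MonoidAlgebra (single)

universe u

variable {G : Type u} [Group G] [Finite G]
variable {p : ℕ} {M : Ideal AlgInt} {P : Subgroup G} {A : Subgroup (MulAut P)} {k : ℕ}

namespace FC

/-- The value on a section. -/
theorem section_value (h : FC p M P A k) {χ : IrrCharacter G} (hχ : χ ∈ PB M G) {z : G} {y : P}
    (hy : y ≠ 1) (hz : IsPPart p z (y : G)) : (χ : G → ℂ) z = (χ : G → ℂ) y := by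
  have hcomp := h.comp y hy
  obtain ⟨j, hj⟩ := h.exists_order y
  set H := Subgroup.centralizer ({(y : G)} : Set G) with hH
  obtain ⟨N, hN, hN2, hNi⟩ := hcomp
  have hmem : ∀ g, g ∈ H ↔ Commute (y : G) g :=
    fun g => by rw [hH, Subgroup.mem_centralizer_singleton_iff]; exact ⟨fun h => h.symm, fun h => h.symm⟩
  obtain ⟨v, hv, hcv, -, hvr⟩ := hz
  have hvH : v ∈ H := (hmem v).2 hcv
  have hvN : (⟨v, hvH⟩ : H) ∈ N := by
    apply BlockCore.mem_of_regular h.hM.1 hNi
    rwa [Subgroup.orderOf_mk]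
  have h1 := BlockSection.eq_of_mem_core h.hM hj hmem hN2 hvN (mem_PB.1 hχ)
  rw [← hv]
  exact h1

variable [Fintype P]

/-- The value of a character of the principal block in terms of the vectors. -/
theorem value' (h : FC p M P A k) [Fintype A] {χ : IrrCharacter G} (hχ : χ ∈ PB M G) {x : P}
    (hx : x ≠ 1) :
    (χ : G → ℂ) x = -∑ l ∈ (Finset.univ : Finset (IrrCharacter P)).filter (fun l => l ≠ triv P),
      (Phi M l χ : ℂ) * (l : P → ℂ) x := by
  classical
  rw [h.value χ hx, ← Finset.sum_neg_distrib, Finset.sum_filter]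
  refine Finset.sum_congr rfl fun l _ => ?_
  split_ifs with hl
  · rw [Phi_apply l hχ]; push_cast; ring
  · push Not at hl
    rw [hl, dd_triv]; simp

theorem sum_ne_triv (h : FC p M P A k) {x : P} (hx : x ≠ 1) :
    ∑ l ∈ (Finset.univ : Finset (IrrCharacter P)).filter (fun l => l ≠ triv P), (l : P → ℂ) x = -1 := by
  classical
  have h2 := sum_degree_mul x hx
  simp only [h.deg_one, one_mul] at h2
  have h3 : (Finset.univ : Finset (IrrCharacter P)).filter (fun l => l ≠ triv P) = Finset.univ.erase (triv P) := by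
    ext; simp
  rw [h3, ← Finset.add_sum_erase _ _ (Finset.mem_univ (triv P))] at *
  rw [coe_triv] at h2
  linear_combination h2

/-- A character of the principal block has a nonzero vector. -/
theorem Phi_ne_zero (h : FC p M P A k) [Fintype A] (hk : k ≠ 0) {χ : IrrCharacter G} (hχ : χ ∈ PB M G)
    (h0 : ∀ l : IrrCharacter P, l ≠ triv P → Phi M l χ = 0) : False := by
  classical
  have : Fact p.Prime := ⟨h.hM.1⟩
  have hMp := isPrime h.hM
  have h1 : ∀ l : IrrCharacter P, dd χ l = 0 := by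
    intro l
    by_cases hl : l = triv P
    · rw [hl, dd_triv]
    · have := h0 l hl
      rw [Phi_apply l hχ] at this
      omega
  have h2 := h.degree χ
  simp only [h1, Int.cast_zero, Finset.sum_const_zero, zero_add] at h2
  have h3 : p ^ k ∣ charDegree (χ : G → ℂ) := by
    refine ⟨aN χ (triv P), ?_⟩
    have h4 : ((charDegree (χ : G → ℂ) : ℕ) : ℂ) = ((p ^ k * aN χ (triv P) : ℕ) : ℂ) := by
      rw [BlockDeg.charDegree_cast_irr, h2]; push_cast; ring
    exact_mod_cast h4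
  have h5 : (charDegree (χ : G → ℂ)).factorization p = (Nat.card G).factorization p := by
    apply le_antisymm (BlockDefZero.factorization_charDegree_le p χ.2)
    rw [h.syl]
    exact (h.hM.1.pow_dvd_iff_le_factorization (BlockDeg.charDegree_pos χ.2).ne').1 h3
  have h6 := BlockDefZero.blockOf_eq_singleton h.hM χ h5
  have h7 : principalBlock M G = blockOf M (χ : G → ℂ) :=
    eq_blockOf isPBlock_principal (mem_PB.1 hχ)
  have h8 : triv G ∈ blockOf M (χ : G → ℂ) := h7 ▸ triv_mem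
  rw [h6, Set.mem_singleton_iff] at h8
  rw [← h8] at h3
  have h9 : charDegree ((triv G : IrrCharacter G) : G → ℂ) = 1 := by
    have : ((charDegree ((triv G : IrrCharacter G) : G → ℂ) : ℕ) : ℂ) = 1 := by
      rw [BlockDeg.charDegree_cast_irr, coe_triv]
    exact_mod_cast this
  rw [h9, Nat.dvd_one] at h3
  exact h.hM.1.one_lt.ne' ((Nat.pow_eq_one.1 h3).resolve_right hk)

/-- the degree as an integer -/
noncomputable def D (χ : IrrCharacter G) : ℤ := charDegree (χ : G → ℂ)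

theorem D_pos (χ : IrrCharacter G) : 0 < D χ := by
  rw [D]; exact_mod_cast BlockDeg.charDegree_pos χ.2

theorem D_cast (χ : IrrCharacter G) : (D χ : ℂ) = (χ : G → ℂ) 1 := by
  rw [D]; push_cast; exact BlockDeg.charDegree_cast_irr χ

/-- The data produced by the coherence lemma. -/
structure Coh (M : Ideal AlgInt) (P : Subgroup G) [Fintype P] (m : ℤ) (e : (IrrCharacter G → ℤ) → IrrCharacter G) (d s : ℤ) : Prop where
  hs : s = 1 ∨ s = -1
  inj : Set.InjOn e (FF M P)
  diff : ∀ v ∈ FF M P, ∀ w ∈ FF M P, ∀ x : IrrCharacter G, (x ≠ e v → x ≠ e w → v x = w x)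
  off : ∀ v ∈ FF M P, ∀ w ∈ FF M P, v ≠ w → v (e w) = d
  diag : ∀ v ∈ FF M P, v (e v) = d + s

theorem exists_coh (h : FC p M P A k) [Fintype A] (hr : 2 ≤ (FF M P).card) :
    ∃ e d s, Coh M P (Fintype.card A : ℤ) e d s := by
  classical
  have h1 : ∀ v ∈ FF M P, ∑ x, v x * v x = (Fintype.card A : ℤ) + 1 := by
    intro v hv
    obtain ⟨l, hl, rfl⟩ := mem_FF.1 hv
    exact h.Phi_norm hl
  have h2 : ∀ v ∈ FF M P, ∀ w ∈ FF M P, v ≠ w → ∑ x, v x * w x = (Fintype.card A : ℤ) := by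
    intro v hv w hw hne
    obtain ⟨l, hl, rfl⟩ := mem_FF.1 hv
    obtain ⟨l', hl', rfl⟩ := mem_FF.1 hw
    exact h.Phi_gram_ne hl hl' hne
  have h3 : ∀ v ∈ FF M P, ∑ x, D x * v x = 0 := by
    intro v hv
    obtain ⟨l, hl, rfl⟩ := mem_FF.1 hv
    have h4 := h.Phi_reg l (g := 1) h.not_dvd_one
    have h5 : ((∑ x, D x * Phi M l x : ℤ) : ℂ) = 0 := by
      push_cast
      rw [← h4]
      refine Finset.sum_congr rfl fun χ _ => ?_
      rw [D_cast]; ring
    exact_mod_cast h5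
  obtain ⟨s, hs, e, he, hx⟩ := coherent (FF M P) (Fintype.card A) hr h1 h2 D D_pos h3
  obtain ⟨d, hd1, hd2, hd3, hd4⟩ := coherent' (FF M P) (Fintype.card A) hr h1 hs he hx
  refine ⟨e, d, s, hs, he, ?_, hd1, hd2⟩
  intro v hv w hw x hxv hxw
  have := hx v hv w hw x
  rw [if_neg hxv, if_neg hxw] at this
  linarith

namespace Coh

variable {m : ℤ} {e : (IrrCharacter G → ℤ) → IrrCharacter G} {d s : ℤ}

theorem out (c : Coh M P m e d s) [DecidableEq (IrrCharacter G)] {v w : IrrCharacter G → ℤ} (hv : v ∈ FF M P) (hw : w ∈ FF M P)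
    {x : IrrCharacter G} (hx : x ∉ (FF M P).image e) : v x = w x :=
  c.diff v hv w hw x (fun h => hx (Finset.mem_image.2 ⟨v, hv, h.symm⟩))
    (fun h => hx (Finset.mem_image.2 ⟨w, hw, h.symm⟩))

theorem mem_PB (c : Coh M P m e d s) (hr : 2 ≤ (FF M P).card) {v : IrrCharacter G → ℤ}
    (hv : v ∈ FF M P) : e v ∈ PB M G := by
  classical
  by_contra hcon
  have hz : ∀ w ∈ FF M P, w (e v) = 0 := by
    intro w hw
    obtain ⟨l, hl, rfl⟩ := mem_FF.1 hw
    exact Phi_not l hcon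
  obtain ⟨w, hw, hne⟩ := Finset.exists_mem_ne (show 1 < (FF M P).card by omega) v
  have h1 := c.off w hw v hv hne
  have h2 := c.diag v hv
  rw [hz w hw] at h1
  rw [hz v hv] at h2
  rcases c.hs with h | h <;> omega

theorem ne_triv (c : Coh M P m e d s) (h : FC p M P A k) [Fintype A] (hr : 2 ≤ (FF M P).card)
    {v : IrrCharacter G → ℤ} (hv : v ∈ FF M P) : e v ≠ triv G := by
  classical
  intro hcon
  have hz : ∀ w ∈ FF M P, w (e v) = 1 := by
    intro w hw
    obtain ⟨l, hl, rfl⟩ := mem_FF.1 hw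
    rw [hcon]
    exact h.Phi_triv hl
  obtain ⟨w, hw, hne⟩ := Finset.exists_mem_ne (show 1 < (FF M P).card by omega) v
  have h1 := c.off w hw v hv hne
  have h2 := c.diag v hv
  rw [hz w hw] at h1
  rw [hz v hv] at h2
  rcases c.hs with h | h <;> omega

open scoped Classical in
/-- The non-exceptional characters. -/
noncomputable def XX (M : Ideal AlgInt) (P : Subgroup G) [Fintype P] (e : (IrrCharacter G → ℤ) → IrrCharacter G) :
    Finset (IrrCharacter G) := PB M G \ (FF M P).image e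

open scoped Classical in
noncomputable def YY (M : Ideal AlgInt) (P : Subgroup G) [Fintype P] (e : (IrrCharacter G → ℤ) → IrrCharacter G) :
    Finset (IrrCharacter G) := (FF M P).image e

theorem mem_YY {x : IrrCharacter G} : x ∈ YY M P e ↔ ∃ v ∈ FF M P, e v = x := by
  classical
  rw [YY, Finset.mem_image]

theorem mem_XX {x : IrrCharacter G} : x ∈ XX M P e ↔ x ∈ PB M G ∧ x ∉ YY M P e := by
  classical
  rw [XX, YY, Finset.mem_sdiff]

theorem card_YY (c : Coh M P m e d s) : (YY M P e).card = (FF M P).card := by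
  classical
  rw [YY]
  exact Finset.card_image_of_injOn c.inj

theorem sum_YY (c : Coh M P m e d s) {B : Type*} [AddCommMonoid B] (f : IrrCharacter G → B) :
    ∑ x ∈ YY M P e, f x = ∑ v ∈ FF M P, f (e v) := by
  classical
  rw [YY]
  exact Finset.sum_image c.inj

theorem sum_PB (c : Coh M P m e d s) (hr : 2 ≤ (FF M P).card) {B : Type*} [AddCommMonoid B]
    (f : IrrCharacter G → B) :
    ∑ x ∈ PB M G, f x = ∑ x ∈ XX M P e, f x + ∑ v ∈ FF M P, f (e v) := by
  classical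
  rw [← c.sum_YY f, XX, YY]
  symm
  apply Finset.sum_sdiff
  intro x hx
  obtain ⟨v, hv, rfl⟩ := Finset.mem_image.1 hx
  exact c.mem_PB hr hv

theorem triv_mem_XX (c : Coh M P m e d s) (h : FC p M P A k) [Fintype A] (hr : 2 ≤ (FF M P).card) :
    triv G ∈ XX M P e := by
  rw [mem_XX]
  refine ⟨h.triv_mem_PB, fun hcon => ?_⟩
  obtain ⟨v, hv, h1⟩ := mem_YY.1 hcon
  exact c.ne_triv h hr hv h1

/-- sum over `PB` weighted by a vector -/
theorem sum_vec (c : Coh M P m e d s) (hr : 2 ≤ (FF M P).card) {v : IrrCharacter G → ℤ} (hv : v ∈ FF M P)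
    (g : G) : ∑ χ, (v χ : ℂ) * (χ : G → ℂ) g = ∑ χ ∈ XX M P e, (v χ : ℂ) * (χ : G → ℂ) g +
      (d : ℂ) * ∑ w ∈ FF M P, ((e w : IrrCharacter G) : G → ℂ) g + (s : ℂ) * ((e v : IrrCharacter G) : G → ℂ) g := by
  classical
  have h2 : ∑ χ, (v χ : ℂ) * (χ : G → ℂ) g = ∑ χ ∈ PB M G, (v χ : ℂ) * (χ : G → ℂ) g := by
    symm
    apply Finset.sum_subset (Finset.subset_univ _)
    intro χ _ hχ
    obtain ⟨l, hl, rfl⟩ := mem_FF.1 hv
    rw [Phi_not l hχ]; simp
  rw [h2, c.sum_PB hr, add_assoc]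
  congr 1
  rw [← Finset.add_sum_erase (FF M P) (fun w => (v (e w) : ℂ) * ((e w : IrrCharacter G) : G → ℂ) g) hv,
    ← Finset.add_sum_erase (FF M P) (fun w => ((e w : IrrCharacter G) : G → ℂ) g) hv]
  have h3 : ∑ w ∈ (FF M P).erase v, (v (e w) : ℂ) * ((e w : IrrCharacter G) : G → ℂ) g =
      (d : ℂ) * ∑ w ∈ (FF M P).erase v, ((e w : IrrCharacter G) : G → ℂ) g := by
    rw [Finset.mul_sum]
    refine Finset.sum_congr rfl fun w hw => ?_
    rw [Finset.mem_erase] at hw
    rw [c.off v hv w hw.2 (Ne.symm hw.1)]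
  rw [h3, c.diag v hv]
  push_cast
  ring

theorem reg_eq (c : Coh M P m e d s) (h : FC p M P A k) [Fintype A] (hr : 2 ≤ (FF M P).card)
    {v w : IrrCharacter G → ℤ} (hv : v ∈ FF M P) (hw : w ∈ FF M P) {g : G} (hg : ¬ p ∣ orderOf g) :
    ((e v : IrrCharacter G) : G → ℂ) g = ((e w : IrrCharacter G) : G → ℂ) g := by
  classical
  have e1 := c.sum_vec hr hv g
  have e2 := c.sum_vec hr hw g
  have z1 : ∑ χ, (v χ : ℂ) * (χ : G → ℂ) g = 0 := by
    obtain ⟨l, hl, rfl⟩ := mem_FF.1 hv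
    exact h.Phi_reg l hg
  have z2 : ∑ χ, (w χ : ℂ) * (χ : G → ℂ) g = 0 := by
    obtain ⟨l, hl, rfl⟩ := mem_FF.1 hw
    exact h.Phi_reg l hg
  have e3 : ∑ χ ∈ XX M P e, (v χ : ℂ) * (χ : G → ℂ) g = ∑ χ ∈ XX M P e, (w χ : ℂ) * (χ : G → ℂ) g := by
    refine Finset.sum_congr rfl fun χ hχ => ?_
    rw [c.out hv hw (mem_XX.1 hχ).2]
  rw [z1, e3] at e1
  rw [z2] at e2
  have e4 : (s : ℂ) * (((e v : IrrCharacter G) : G → ℂ) g - ((e w : IrrCharacter G) : G → ℂ) g) = 0 := by
    linear_combination e2 - e1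
  rcases mul_eq_zero.1 e4 with h0 | h0
  · exfalso
    rcases c.hs with h' | h' <;> rw [h'] at h0 <;> norm_num at h0
  · exact sub_eq_zero.1 h0

theorem reg_rel (c : Coh M P m e d s) (h : FC p M P A k) [Fintype A] (hr : 2 ≤ (FF M P).card)
    {v w : IrrCharacter G → ℤ} (hv : v ∈ FF M P) (hw : w ∈ FF M P) {g : G} (hg : ¬ p ∣ orderOf g) :
    (((FF M P).card : ℂ) * d + s) * ((e w : IrrCharacter G) : G → ℂ) g +
      ∑ χ ∈ XX M P e, (v χ : ℂ) * (χ : G → ℂ) g = 0 := by
  classical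
  have e1 := c.sum_vec hr hv g
  have z1 : ∑ χ, (v χ : ℂ) * (χ : G → ℂ) g = 0 := by
    obtain ⟨l, hl, rfl⟩ := mem_FF.1 hv
    exact h.Phi_reg l hg
  have e2 : ∑ u ∈ FF M P, ((e u : IrrCharacter G) : G → ℂ) g =
      ((FF M P).card : ℂ) * ((e w : IrrCharacter G) : G → ℂ) g := by
    rw [Finset.sum_congr rfl fun u hu => c.reg_eq h hr hu hw hg, Finset.sum_const, nsmul_eq_mul]
  rw [z1, e2, c.reg_eq h hr hv hw hg] at e1
  linear_combination -e1

/-- the norm equation -/
theorem norm_eq (c : Coh M P m e d s) (h : FC p M P A k) [Fintype A] (hr : 2 ≤ (FF M P).card)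
    {v : IrrCharacter G → ℤ} (hv : v ∈ FF M P) :
    (d + s) ^ 2 + ((FF M P).card - 1) * d ^ 2 + ∑ χ ∈ XX M P e, v χ ^ 2 = (Fintype.card A : ℤ) + 1 := by
  classical
  have h1 : ∑ x, v x * v x = (Fintype.card A : ℤ) + 1 := by
    obtain ⟨l, hl, rfl⟩ := mem_FF.1 hv
    exact h.Phi_norm hl
  rw [← h1]
  have h2 : ∑ χ, v χ * v χ = ∑ χ ∈ PB M G, v χ * v χ := by
    symm
    apply Finset.sum_subset (Finset.subset_univ _)
    intro χ _ hχ
    obtain ⟨l, hl, rfl⟩ := mem_FF.1 hv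
    rw [Phi_not l hχ]; simp
  rw [h2, c.sum_PB hr, ← Finset.add_sum_erase (FF M P) (fun w => v (e w) * v (e w)) hv, c.diag v hv]
  have h3 : ∑ w ∈ (FF M P).erase v, v (e w) * v (e w) = ((FF M P).card - 1) * d ^ 2 := by
    rw [Finset.sum_congr rfl (g := fun _ => d ^ 2) fun w hw => by
      rw [Finset.mem_erase] at hw
      rw [c.off v hv w hw.2 (Ne.symm hw.1)]; ring, Finset.sum_const, Finset.card_erase_of_mem hv,
      nsmul_eq_mul, Nat.cast_sub (by omega)]
    push_cast; ring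
  rw [h3]
  have h4 : ∑ χ ∈ XX M P e, v χ ^ 2 = ∑ χ ∈ XX M P e, v χ * v χ :=
    Finset.sum_congr rfl fun χ _ => by ring
  rw [h4]
  ring

theorem ne_zero (c : Coh M P m e d s) (h : FC p M P A k) [Fintype A] (hk : k ≠ 0)
    {v : IrrCharacter G → ℤ} (hv : v ∈ FF M P) {χ : IrrCharacter G} (hχ : χ ∈ XX M P e) : v χ ≠ 0 := by
  classical
  intro h0
  apply h.Phi_ne_zero hk (mem_XX.1 hχ).1
  intro l hl
  rw [c.out (mem_FF.2 ⟨l, hl, rfl⟩) hv (mem_XX.1 hχ).2, h0]

/-- values of the nonexceptional characters -/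
theorem value_XX (c : Coh M P m e d s) (h : FC p M P A k) [Fintype A]
    {v : IrrCharacter G → ℤ} (hv : v ∈ FF M P) {χ : IrrCharacter G} (hχ : χ ∈ XX M P e) {y : P}
    (hy : y ≠ 1) : (χ : G → ℂ) y = v χ := by
  classical
  rw [h.value' (mem_XX.1 hχ).1 hy]
  rw [Finset.sum_congr rfl (g := fun l : IrrCharacter P => (v χ : ℂ) * (l : P → ℂ) y) fun l hl => by
    rw [Finset.mem_filter] at hl
    rw [c.out (mem_FF.2 ⟨l, hl.2, rfl⟩) hv (mem_XX.1 hχ).2], ← Finset.mul_sum, h.sum_ne_triv hy]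
  ring

open scoped Classical in
/-- values of the exceptional characters -/
theorem value_YY (c : Coh M P m e d s) (h : FC p M P A k) [Fintype A] (hr : 2 ≤ (FF M P).card)
    {v : IrrCharacter G → ℤ} (hv : v ∈ FF M P) {y : P} (hy : y ≠ 1) :
    ((e v : IrrCharacter G) : G → ℂ) y = d - s * ∑ l ∈ (Finset.univ : Finset (IrrCharacter P)).filter
      (fun l => l ≠ triv P ∧ Phi M l = v), (l : P → ℂ) y := by
  classical
  rw [h.value' (c.mem_PB hr hv) hy]
  have h1 : ∀ l ∈ (Finset.univ : Finset (IrrCharacter P)).filter (fun l => l ≠ triv P),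
      (Phi M l (e v) : ℂ) * (l : P → ℂ) y = (d : ℂ) * (l : P → ℂ) y +
        (if Phi M l = v then (s : ℂ) * (l : P → ℂ) y else 0) := by
    intro l hl
    rw [Finset.mem_filter] at hl
    have hlF : Phi M l ∈ FF M P := mem_FF.2 ⟨l, hl.2, rfl⟩
    split_ifs with hlv
    · have := c.diag v hv
      rw [← hlv] at this ⊢
      rw [this]; push_cast; ring
    · rw [c.off _ hlF v hv hlv]; ring
  rw [Finset.sum_congr rfl h1, Finset.sum_add_distrib, ← Finset.mul_sum, h.sum_ne_triv hy,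
    ← Finset.sum_filter, Finset.filter_filter, ← Finset.mul_sum]
  ring

end Coh

end FC

end Cfsg.Agent.Lib.FrobBlk
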