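import Mathlib
import Cfsg.Agent.Lib.FrobBlk3
import Cfsg.Agent.Lib.FusionControl

/-!
# The principal block of a group with abelian Sylow `p`-subgroup and Frobenius automizer, III
-/

set_option autoImplicit false
set_option linter.all false
set_option maxHeartbeats 400000

namespace Cfsg.Agent.Lib.FrobBlk

open Cfsg Cfsg.Agent.Lib.BlockRing Cfsg.Agent.Lib.BlockGA
open Cfsg.Agent.Lib.BlockIdem Cfsg.Agent.Lib.BlockThird Cfsg.Agent.Lib.BlockSecond
open Cfsg.Agent.Lib.CharBasic Cfsg.Agent.Lib.BlockHomo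
open scoped ComplexConjugate

universe u

variable {G : Type u} [Group G] [Finite G]
variable {p : ℕ} {M : Ideal AlgInt}

/-- The automizer of `P` as a group of automorphisms. -/
def AA (P : Subgroup G) : Subgroup (MulAut P) := P.normalizerMonoidHom.range

omit [Finite G] in
theorem mem_AA {P : Subgroup G} {a : MulAut P} : a ∈ AA P ↔
    ∃ n ∈ Subgroup.normalizer (P : Set G), ∀ x : P, (a x : G) = n * x * n⁻¹ := by
  constructor
  · rintro ⟨n, rfl⟩
    exact ⟨n, n.2, fun x => rfl⟩
  · rintro ⟨n, hn, h⟩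
    refine ⟨⟨n, hn⟩, ?_⟩
    ext x
    exact (h x).symm

omit [Finite G] in
theorem card_AA (P : Subgroup G) : Nat.card (AA P) =
    (Subgroup.centralizer (P : Set G)).relIndex (Subgroup.normalizer (P : Set G)) := by
  rw [AA, ← Subgroup.index_ker, Subgroup.normalizerMonoidHom_ker]
  rfl

theorem exists_FC [hp : Fact p.Prime] (hM : IsPModular p M) (P : Sylow p G)
    (hab : IsMulCommutative (P : Subgroup G))
    (hfrob : ∀ y : G, y ∈ (P : Subgroup G) → y ≠ 1 → Subgroup.centralizer ({y} : Set G) ⊓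
      Subgroup.normalizer ((P : Subgroup G) : Set G) = Subgroup.centralizer ((P : Subgroup G) : Set G)) :
    FC p M (P : Subgroup G) (AA (P : Subgroup G)) ((Nat.card G).factorization p) := by
  have hcomm : ∀ x y : (P : Subgroup G), x * y = y * x := fun x y => hab.1.1 x y
  have hcard : Nat.card (P : Subgroup G) = p ^ ((Nat.card G).factorization p) := P.card_eq_multiplicity
  refine ⟨hM, hcard, rfl, hcomm, ?_, ?_, ?_⟩
  · intro a ha ha1 x hx
    by_contra hx1
    apply ha1
    obtain ⟨n, hn, hna⟩ := mem_AA.1 ha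
    have hnC : n ∈ Subgroup.centralizer ((P : Subgroup G) : Set G) := by
      rw [← hfrob x x.2 (fun h => hx1 (Subtype.ext h))]
      refine ⟨?_, hn⟩
      change n ∈ Subgroup.centralizer ({(x : G)} : Set G)
      rw [Subgroup.mem_centralizer_singleton_iff]
      have h1 := hna x
      rw [hx, eq_mul_inv_iff_mul_eq] at h1
      exact h1.symm
    ext y
    rw [hna, MulAut.one_apply]
    rw [Subgroup.mem_centralizer_iff] at hnC
    rw [← hnC y y.2]; group
  · intro x y
    constructor
    · intro hxy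
      obtain ⟨g, hg⟩ := isConj_iff.1 hxy
      obtain ⟨n, hn, h1⟩ := FusionControl.abelian_controls P hab (x : G) x.2 g (by rw [hg]; exact y.2)
      refine ⟨(P : Subgroup G).normalizerMonoidHom ⟨n, hn⟩, ⟨_, rfl⟩, ?_⟩
      apply Subtype.ext
      rw [← hg]
      exact h1
    · rintro ⟨a, ha, rfl⟩
      obtain ⟨n, hn, hna⟩ := mem_AA.1 ha
      exact isConj_iff.2 ⟨n, (hna x).symm⟩
  · intro x hx
    set H := Subgroup.centralizer ({(x : G)} : Set G) with hH
    have hPH : (P : Subgroup G) ≤ H := by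
      intro y hy
      rw [hH, Subgroup.mem_centralizer_singleton_iff]
      exact congrArg Subtype.val (hcomm ⟨y, hy⟩ x)
    have hle : Subgroup.normalizer ((P.subtype hPH : Subgroup H) : Set H) ≤
        Subgroup.centralizer ((P.subtype hPH : Subgroup H) : Set H) := by
      intro y hy
      have hyN : (y : G) ∈ Subgroup.normalizer ((P : Subgroup G) : Set G) := by
        rw [Subgroup.mem_normalizer_iff] at hy ⊢
        intro g
        constructor
        · intro hg
          have := (hy ⟨g, hPH hg⟩).1 (by rw [Sylow.coe_subtype]; exact Subgroup.mem_subgroupOf.2 hg)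
          rw [Sylow.coe_subtype] at this
          exact Subgroup.mem_subgroupOf.1 this
        · intro hg
          have hgH : g ∈ H := by
            have : g = (y : G)⁻¹ * (y * g * (y : G)⁻¹) * y := by group
            rw [this]
            exact H.mul_mem (H.mul_mem (H.inv_mem y.2) (hPH hg)) y.2
          have := (hy ⟨g, hgH⟩).2 (by rw [Sylow.coe_subtype]; exact Subgroup.mem_subgroupOf.2 hg)
          rw [Sylow.coe_subtype] at this
          exact Subgroup.mem_subgroupOf.1 this
      have hyC : (y : G) ∈ Subgroup.centralizer ((P : Subgroup G) : Set G) := by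
        rw [← hfrob x x.2 (fun h => hx (Subtype.ext h))]
        exact ⟨y.2, hyN⟩
      rw [Subgroup.mem_centralizer_iff] at hyC ⊢
      intro g hg
      have hg' : (g : G) ∈ (P : Subgroup G) := by
        have : g ∈ ((P.subtype hPH : Sylow p H) : Subgroup H) := hg
        rw [Sylow.coe_subtype] at this
        exact Subgroup.mem_subgroupOf.1 this
      exact Subtype.ext (hyC g hg')
    refine ⟨(MonoidHom.transferSylow (P.subtype hPH) hle).ker, inferInstance,
      MonoidHom.not_dvd_card_ker_transferSylow (P.subtype hPH) hle, ?_⟩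
    rw [(MonoidHom.ker_transferSylow_isComplement' (P.subtype hPH) hle).symm.index_eq_card, ← hcard,
      Sylow.coe_subtype]
    exact Nat.card_congr (Subgroup.subgroupOfEquivOfLe hPH).toEquiv

section

variable {P : Subgroup G}

/-- A linear character as an irreducible character. -/
def toIrr (ψ : P →* ℂˣ) : IrrCharacter P := ⟨fun g => (ψ g : ℂ), isIrrCharacter_of_unitsHom ψ⟩

omit [Finite G] in
theorem toIrr_apply (ψ : P →* ℂˣ) (x : P) : (toIrr ψ : P → ℂ) x = (ψ x : ℂ) := rfl

omit [Finite G] in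
theorem toIrr_injective : Function.Injective (toIrr : (P →* ℂˣ) → IrrCharacter P) := by
  intro ψ ψ' h
  ext x
  have := congrArg (fun l : IrrCharacter P => (l : P → ℂ) x) h
  exact this

omit [Finite G] in
theorem toIrr_one : toIrr (1 : P →* ℂˣ) = triv P := by
  apply Subtype.ext
  funext x
  show (((1 : P →* ℂˣ) x : ℂˣ) : ℂ) = 1
  simp

omit [Finite G] in
theorem toIrr_ne_triv {ψ : P →* ℂˣ} (h : ψ ≠ 1) : toIrr ψ ≠ triv P :=
  fun e => h (toIrr_injective (e.trans toIrr_one.symm))

theorem toIrr_surjective {A : Subgroup (MulAut P)} {k : ℕ} (h : FC p M P A k) :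
    Function.Surjective (toIrr : (P →* ℂˣ) → IrrCharacter P) := by
  intro l
  obtain ⟨f, hf⟩ := l.2.isCharacter.exists_hom (h.deg_one l)
  refine ⟨f, Subtype.ext ?_⟩
  funext x
  exact (hf x).symm

omit [Finite G] in
/-- The orbit relation on linear characters. -/
theorem orbit_iff {ψ ψ' : P →* ℂˣ} :
    (∃ n : G, n ∈ Subgroup.normalizer (P : Set G) ∧ ∀ w w' : P, (w' : G) = n * w * n⁻¹ → ψ' w' = ψ w) ↔
      ∃ a ∈ AA P, FC.tw a (toIrr ψ') = toIrr ψ := by
  constructor
  · rintro ⟨n, hn, h⟩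
    refine ⟨P.normalizerMonoidHom ⟨n, hn⟩, ⟨_, rfl⟩, ?_⟩
    apply Subtype.ext
    funext x
    rw [FC.tw_apply, toIrr_apply, toIrr_apply]
    exact congrArg Units.val (h x _ rfl)
  · rintro ⟨a, ha, h⟩
    obtain ⟨n, hn, hna⟩ := mem_AA.1 ha
    refine ⟨n, hn, fun w w' hw => ?_⟩
    have h1 : w' = a w := Subtype.ext (hw.trans (hna w).symm)
    have h2 := congrArg (fun l : IrrCharacter P => (l : P → ℂ) w) h
    simp only [FC.tw_apply, toIrr_apply] at h2
    rw [h1]
    exact Units.ext h2

open scoped Classical in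
theorem orbit_sum {k : ℕ} [Fintype P] [Fintype (AA P)] (h : FC p M P (AA P) k) {ψ : P →* ℂˣ} (hψ : ψ ≠ 1) (y : P) :
    ∑ᶠ ψ' ∈ {ψ' : P →* ℂˣ | ∃ n : G, n ∈ Subgroup.normalizer (P : Set G) ∧
      ∀ w w' : P, (w' : G) = n * w * n⁻¹ → ψ' w' = ψ w}, ((ψ' y : ℂˣ) : ℂ) =
    ∑ l ∈ (Finset.univ : Finset (IrrCharacter P)).filter
      (fun l => l ≠ triv P ∧ FC.Phi M l = FC.Phi M (toIrr ψ)), (l : P → ℂ) y := by
  rw [← finsum_mem_coe_finset]
  refine finsum_mem_eq_of_bijOn (toIrr : (P →* ℂˣ) → IrrCharacter P) ⟨?_, toIrr_injective.injOn, ?_⟩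
    (fun ψ' _ => rfl)
  · intro ψ' hψ'
    rw [Set.mem_setOf_eq, orbit_iff] at hψ'
    rw [Finset.mem_coe, Finset.mem_filter]
    have h1 : toIrr ψ' ≠ triv P := by
      intro e
      obtain ⟨a, ha, e2⟩ := hψ'
      rw [e, FC.tw_triv] at e2
      exact toIrr_ne_triv hψ e2.symm
    exact ⟨Finset.mem_univ _, h1, ((h.Phi_eq_iff (toIrr_ne_triv hψ) h1).2 hψ').symm⟩
  · intro l hl
    rw [Finset.mem_coe, Finset.mem_filter] at hl
    obtain ⟨ψ', rfl⟩ := toIrr_surjective h l
    refine ⟨ψ', ?_, rfl⟩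
    rw [Set.mem_setOf_eq, orbit_iff]
    exact (h.Phi_eq_iff (toIrr_ne_triv hψ) hl.2.1).1 hl.2.2.symm

end

end Cfsg.Agent.Lib.FrobBlk
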