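import Mathlib
import Cfsg.Agent.Lib.FrobBlk4

/-!
# The principal block of a group with abelian Sylow `p`-subgroup and Frobenius automizer (S4709)
-/

set_option autoImplicit false
set_option linter.all false
set_option maxHeartbeats 400000

namespace Cfsg.Agent.Lib.FrobBlk

open Cfsg Cfsg.Agent.Lib.BlockRing Cfsg.Agent.Lib.BlockGA
open Cfsg.Agent.Lib.BlockIdem Cfsg.Agent.Lib.BlockThird Cfsg.Agent.Lib.BlockSecond
open Cfsg.Agent.Lib.CharBasic Cfsg.Agent.Lib.BlockHomo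
open scoped ComplexConjugate

universe u

variable {G : Type u} [Group G] [Finite G]
variable {p : ℕ} {M : Ideal AlgInt}

theorem main4709 [hp : Fact p.Prime] (hM : IsPModular p M) (P : Sylow p G)
    (hab : IsMulCommutative (P : Subgroup G)) (hP1 : Nat.card (P : Subgroup G) ≠ 1) (m : ℕ) (hm1 : 1 < m)
    (hm2 : m + 1 < Nat.card (P : Subgroup G))
    (hCN : (Subgroup.centralizer ((P : Subgroup G) : Set G)).relIndex
      (Subgroup.normalizer ((P : Subgroup G) : Set G)) = m)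
    (hfrob : ∀ y : G, y ∈ (P : Subgroup G) → y ≠ 1 → Subgroup.centralizer ({y} : Set G) ⊓
      Subgroup.normalizer ((P : Subgroup G) : Set G) = Subgroup.centralizer ((P : Subgroup G) : Set G)) :
    ∃ (s : ℕ) (X Y : Set (IrrCharacter G)), s ≤ m ∧ principalBlock M G = X ∪ Y ∧ Disjoint X Y ∧
      Nat.card X = s ∧ Nat.card Y = (Nat.card (P : Subgroup G) - 1) / m ∧
      (∃ χ₁ ∈ X, (χ₁ : G → ℂ) = fun _ => 1) ∧
      ∃ (a : IrrCharacter G → ℤ) (d δ : ℤ) (ζ : (↥(P : Subgroup G) →* ℂˣ) → IrrCharacter G),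
        (δ = 1 ∨ δ = -1) ∧ (∀ χ ∈ X, a χ ≠ 0 ∧ ∀ z y : G, IsPPart p z y → y ∈ (P : Subgroup G) → y ≠ 1 →
          (χ : G → ℂ) z = (a χ : ℂ)) ∧
        (∀ ψ : ↥(P : Subgroup G) →* ℂˣ, ψ ≠ 1 → ζ ψ ∈ Y) ∧
        (∀ η ∈ Y, ∃ ψ : ↥(P : Subgroup G) →* ℂˣ, ψ ≠ 1 ∧ ζ ψ = η) ∧
        (∀ ψ ψ' : ↥(P : Subgroup G) →* ℂˣ, ψ ≠ 1 →
          (∃ n : G, n ∈ Subgroup.normalizer ((P : Subgroup G) : Set G) ∧
            ∀ w w' : ↥(P : Subgroup G), (w' : G) = n * w * n⁻¹ → ψ' w' = ψ w) → ζ ψ' = ζ ψ) ∧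
        (∀ ψ : ↥(P : Subgroup G) →* ℂˣ, ψ ≠ 1 → ∀ (z : G) (y : ↥(P : Subgroup G)),
          IsPPart p z (y : G) → (y : G) ≠ 1 → (ζ ψ : G → ℂ) z = (d : ℂ) + (δ : ℂ) *
            ∑ᶠ ψ' ∈ {ψ' : ↥(P : Subgroup G) →* ℂˣ | ∃ n : G,
              n ∈ Subgroup.normalizer ((P : Subgroup G) : Set G) ∧
              ∀ w w' : ↥(P : Subgroup G), (w' : G) = n * w * n⁻¹ → ψ' w' = ψ w}, ((ψ' y : ℂˣ) : ℂ)) ∧
        ((d - δ) ^ 2 + ((Nat.card (P : Subgroup G) - 1) / m - 1 : ℤ) * d ^ 2 + ∑ᶠ χ ∈ X, a χ ^ 2 = (m : ℤ) + 1) ∧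
        (∀ η ∈ Y, ∀ η' ∈ Y, ∀ g : G, ¬ p ∣ orderOf g → (η : G → ℂ) g = (η' : G → ℂ) g) ∧
        (∀ η ∈ Y, ∀ g : G, ¬ p ∣ orderOf g →
          ((((Nat.card (P : Subgroup G) - 1) / m : ℕ) : ℂ) * d - δ) * (η : G → ℂ) g +
            ∑ᶠ χ ∈ X, (a χ : ℂ) * (χ : G → ℂ) g = 0) := by
  classical
  set P' := (P : Subgroup G) with hP'
  have h := exists_FC hM P hab hfrob
  set k := (Nat.card G).factorization p with hk
  have fP : Fintype P' := Fintype.ofFinite _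
  have fA : Fintype (AA P') := Fintype.ofFinite _
  have hA : Fintype.card (AA P') = m := by rw [← Nat.card_eq_fintype_card, card_AA, hCN]
  have hq := h.card
  have hk0 : k ≠ 0 := by
    rintro e
    rw [e, pow_zero] at hq
    exact hP1 hq
  set r := (FC.FF M P').card with hrdef
  have hcF : r * m = Nat.card P' - 1 := by
    have := h.card_FF
    rw [hA, ← hq] at this
    exact this
  have hr : 2 ≤ r := by
    by_contra hcon
    have hr' : r = 0 ∨ r = 1 := by omega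
    rcases hr' with e | e
    · rw [e, zero_mul] at hcF; omega
    · rw [e, one_mul] at hcF; omega
  have hdivN : (Nat.card P' - 1) / m = r := by
    rw [← hcF]
    exact Nat.mul_div_cancel _ (by omega)
  have hdivZ : ((Nat.card P' : ℤ) - 1) / (m : ℤ) = r := by
    have e : ((Nat.card P' : ℤ) - 1) = (r : ℤ) * m := by
      have : 1 ≤ Nat.card P' := by omega
      rw [← Nat.cast_one, ← Nat.cast_sub this, ← hcF]
      push_cast; ring
    rw [e]
    exact Int.mul_ediv_cancel _ (by omega)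
  obtain ⟨e, d, s, c⟩ := h.exists_coh hr
  obtain ⟨v₀, hv₀⟩ : (FC.FF M P').Nonempty := Finset.card_pos.1 (by omega)
  refine ⟨(FC.Coh.XX M P' e).card, (FC.Coh.XX M P' e : Set (IrrCharacter G)),
    (FC.Coh.YY M P' e : Set (IrrCharacter G)), ?_, ?_, ?_, ?_, ?_, ?_, v₀, d, -s,
    fun ψ => e (FC.Phi M (toIrr ψ)), ?_, ?_, ?_, ?_, ?_, ?_, ?_, ?_, ?_⟩
  · -- the number of nonexceptional characters
    have e1 := c.norm_eq h hr hv₀
    have e2 : ((FC.Coh.XX M P' e).card : ℤ) ≤ ∑ χ ∈ FC.Coh.XX M P' e, v₀ χ ^ 2 := by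
      rw [Finset.card_eq_sum_ones]
      push_cast
      refine Finset.sum_le_sum fun χ hχ => ?_
      have := c.ne_zero h hk0 hv₀ hχ
      have h1 : 0 < v₀ χ ^ 2 := by positivity
      omega
    have e3 : 1 ≤ (d + s) ^ 2 + ((FC.FF M P').card - 1) * d ^ 2 := by
      have hr' : (1 : ℤ) ≤ ((FC.FF M P').card : ℤ) - 1 := by
        have : (2 : ℤ) ≤ r := by exact_mod_cast hr
        omega
      by_cases hd : d = 0
      · rw [hd]
        rcases c.hs with h' | h' <;> rw [h'] <;> norm_num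
      · have h1 : 0 < d ^ 2 := by positivity
        nlinarith [sq_nonneg (d + s)]
    rw [hA] at e1
    have : ((FC.Coh.XX M P' e).card : ℤ) ≤ m := by linarith
    exact_mod_cast this
  · ext χ
    rw [Set.mem_union, Finset.mem_coe, Finset.mem_coe, FC.Coh.mem_XX, ← mem_PB]
    constructor
    · intro hχ
      by_cases hY : χ ∈ FC.Coh.YY M P' e
      · exact Or.inr hY
      · exact Or.inl ⟨hχ, hY⟩
    · rintro (hχ | hχ)
      · exact hχ.1
      · obtain ⟨v, hv, rfl⟩ := FC.Coh.mem_YY.1 hχ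
        exact c.mem_PB hr hv
  · rw [Set.disjoint_left]
    intro χ h1 h2
    exact (FC.Coh.mem_XX.1 (Finset.mem_coe.1 h1)).2 (Finset.mem_coe.1 h2)
  · rw [Nat.card_coe_set_eq, Set.ncard_coe_finset]
  · rw [Nat.card_coe_set_eq, Set.ncard_coe_finset, c.card_YY, hdivN]
  · exact ⟨triv G, Finset.mem_coe.2 (c.triv_mem_XX h hr), rfl⟩
  · rcases c.hs with h' | h' <;> rw [h'] <;> norm_num
  · intro χ hχ
    rw [Finset.mem_coe] at hχ
    refine ⟨c.ne_zero h hk0 hv₀ hχ, fun z y hz hy hy1 => ?_⟩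
    have hy1' : (⟨y, hy⟩ : P') ≠ 1 := fun e => hy1 (congrArg Subtype.val e)
    rw [h.section_value (FC.Coh.mem_XX.1 hχ).1 hy1' hz, c.value_XX h hv₀ hχ hy1']
  · intro ψ hψ
    rw [Finset.mem_coe, FC.Coh.mem_YY]
    exact ⟨_, FC.mem_FF.2 ⟨_, toIrr_ne_triv hψ, rfl⟩, rfl⟩
  · intro η hη
    rw [Finset.mem_coe, FC.Coh.mem_YY] at hη
    obtain ⟨v, hv, rfl⟩ := hη
    obtain ⟨l, hl, rfl⟩ := FC.mem_FF.1 hv
    obtain ⟨ψ, rfl⟩ := toIrr_surjective h l
    exact ⟨ψ, fun e => hl (by rw [e, toIrr_one]), rfl⟩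
  · intro ψ ψ' hψ hex
    rw [orbit_iff] at hex
    have h1 : toIrr ψ' ≠ triv P' := by
      intro e
      obtain ⟨a, ha, e2⟩ := hex
      rw [e, FC.tw_triv] at e2
      exact toIrr_ne_triv hψ e2.symm
    show e (FC.Phi M (toIrr ψ')) = e (FC.Phi M (toIrr ψ))
    rw [(h.Phi_eq_iff (toIrr_ne_triv hψ) h1).2 hex]
  · intro ψ hψ z y hz hy
    have hv : FC.Phi M (toIrr ψ) ∈ FC.FF M P' := FC.mem_FF.2 ⟨_, toIrr_ne_triv hψ, rfl⟩
    have hy' : y ≠ 1 := fun e => hy (congrArg Subtype.val e)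
    show ((e (FC.Phi M (toIrr ψ)) : IrrCharacter G) : G → ℂ) z = _
    rw [h.section_value (c.mem_PB hr hv) hy' hz, c.value_YY h hr hv hy', orbit_sum h hψ]
    push_cast
    ring
  · have e1 := c.norm_eq h hr hv₀
    rw [hA] at e1
    rw [hdivZ, finsum_mem_coe_finset]
    rw [← e1]
    ring
  · intro η hη η' hη' g hg
    rw [Finset.mem_coe, FC.Coh.mem_YY] at hη hη'
    obtain ⟨v, hv, rfl⟩ := hη
    obtain ⟨w, hw, rfl⟩ := hη'
    exact c.reg_eq h hr hv hw hg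
  · intro η hη g hg
    rw [Finset.mem_coe, FC.Coh.mem_YY] at hη
    obtain ⟨v, hv, rfl⟩ := hη
    rw [finsum_mem_coe_finset, hdivN, ← c.reg_rel h hr hv₀ hv hg]
    push_cast
    ring

end Cfsg.Agent.Lib.FrobBlk
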