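import Mathlib

/-!
Groups of the same order type, and normal Hall subgroups detected by counting elements (helper66).
-/

set_option autoImplicit false
set_option linter.style.haveILetI false

namespace Cfsg.Agent.Lib.OrderType

universe u v

theorem card_pred_le {G : Type u} {H : Type v} [Group G] [Finite G] [Group H] [Finite H]
    (hT : ∀ m : ℕ, Nat.card {g : G // orderOf g = m} = Nat.card {h : H // orderOf h = m})
    (P : ℕ → Prop) :
    Nat.card {g : G // P (orderOf g)} ≤ Nat.card {h : H // P (orderOf h)} := by
  classical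
  have hE : ∀ m : ℕ, Nonempty ({g : G // orderOf g = m} ≃ {h : H // orderOf h = m}) := by
    intro m
    haveI : Fintype {g : G // orderOf g = m} := Fintype.ofFinite _
    haveI : Fintype {h : H // orderOf h = m} := Fintype.ofFinite _
    have := hT m
    rw [Nat.card_eq_fintype_card, Nat.card_eq_fintype_card] at this
    exact ⟨Fintype.equivOfCardEq this⟩
  let e := fun m => (hE m).some
  let f : G → H := fun g => (e (orderOf g) ⟨g, rfl⟩).1
  have hf : ∀ g m (h : orderOf g = m), f g = (e m ⟨g, h⟩).1 := by
    intro g m h
    subst h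
    rfl
  have hford : ∀ g, orderOf (f g) = orderOf g := fun g => (e (orderOf g) ⟨g, rfl⟩).2
  have hfinj : Function.Injective f := by
    intro a b hab
    have h1 : orderOf b = orderOf a := by rw [← hford a, ← hford b, hab]
    rw [hf a _ rfl, hf b _ h1] at hab
    have := (e (orderOf a)).injective (Subtype.ext hab)
    exact congrArg (fun x => x.1) this
  refine Nat.card_le_card_of_injective (fun g => ⟨f g.1, by rw [hford]; exact g.2⟩) ?_
  intro a b hab
  exact Subtype.ext (hfinj (congrArg (fun x => x.1) hab))

/-- same order type gives equal counts for every condition on the element order -/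
theorem card_pred {G : Type u} {H : Type v} [Group G] [Finite G] [Group H] [Finite H]
    (hT : ∀ m : ℕ, Nat.card {g : G // orderOf g = m} = Nat.card {h : H // orderOf h = m})
    (P : ℕ → Prop) :
    Nat.card {g : G // P (orderOf g)} = Nat.card {h : H // P (orderOf h)} :=
  le_antisymm (card_pred_le hT P) (card_pred_le (fun m => (hT m).symm) P)

theorem card_eq {G : Type u} {H : Type v} [Group G] [Finite G] [Group H] [Finite H]
    (hT : ∀ m : ℕ, Nat.card {g : G // orderOf g = m} = Nat.card {h : H // orderOf h = m}) :
    Nat.card G = Nat.card H := by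
  have h := card_pred hT (fun _ => True)
  have h1 : Nat.card {g : G // True} = Nat.card G := Nat.card_congr (Equiv.subtypeUnivEquiv (fun _ => trivial))
  have h2 : Nat.card {g : H // True} = Nat.card H := Nat.card_congr (Equiv.subtypeUnivEquiv (fun _ => trivial))
  rw [← h1, ← h2]; exact h

/-- elements of a normal subgroup `N` with `orderOf g` coprime to the index -/
theorem mem_of_coprime_index {G : Type u} [Group G] {N : Subgroup G} [N.Normal] {g : G}
    (h : (orderOf g).Coprime N.index) : g ∈ N := by
  have h1 : orderOf (QuotientGroup.mk' N g) ∣ orderOf g := orderOf_map_dvd _ _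
  have h2 : orderOf (QuotientGroup.mk' N g) ∣ N.index := by
    rw [Subgroup.index_eq_card]; exact orderOf_dvd_natCard _
  have h3 : orderOf (QuotientGroup.mk' N g) = 1 := Nat.eq_one_of_dvd_coprimes h h1 h2
  rw [orderOf_eq_one_iff] at h3
  exact (QuotientGroup.eq_one_iff g).1 h3

/-- For a predicate `P` on natural numbers such that membership in a normal subgroup `N` is the
same as `P (orderOf g)`, the number of such elements is `Nat.card N`. -/
theorem card_pred_eq_card {G : Type u} [Group G] {N : Subgroup G} {P : ℕ → Prop}
    (h : ∀ g : G, g ∈ N ↔ P (orderOf g)) : Nat.card {g : G // P (orderOf g)} = Nat.card N :=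
  Nat.card_congr (Equiv.subtypeEquivRight (fun g => (h g).symm))

/-- If a subgroup `K` consists of elements with `P (orderOf g)` and has at least as many elements as
there are such elements in `G`, then `K` is exactly the set of such elements. -/
theorem mem_iff_of_card_le {G : Type u} [Group G] [Finite G] {K : Subgroup G} {P : ℕ → Prop}
    (hK : ∀ g ∈ K, P (orderOf g)) (hc : Nat.card {g : G // P (orderOf g)} ≤ Nat.card K) :
    ∀ g : G, g ∈ K ↔ P (orderOf g) := by
  classical
  intro g
  refine ⟨hK g, fun hg => ?_⟩
  have hinj : Function.Injective (fun k : K => (⟨k.1, hK k.1 k.2⟩ : {g : G // P (orderOf g)})) := by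
    intro a b hab
    exact Subtype.ext (congrArg (fun x => x.1) hab)
  have hbij : Function.Bijective (fun k : K => (⟨k.1, hK k.1 k.2⟩ : {g : G // P (orderOf g)})) := by
    haveI : Fintype K := Fintype.ofFinite _
    haveI : Fintype {g : G // P (orderOf g)} := Fintype.ofFinite _
    rw [Fintype.bijective_iff_injective_and_card]
    refine ⟨hinj, ?_⟩
    rw [← Nat.card_eq_fintype_card, ← Nat.card_eq_fintype_card]
    exact le_antisymm (Nat.card_le_card_of_injective _ hinj) hc
  obtain ⟨k, hk⟩ := hbij.2 ⟨g, hg⟩
  have : k.1 = g := congrArg (fun x => x.1) hk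
  rw [← this]; exact k.2

/-- A subgroup defined by a condition on the element order is normal. -/
theorem normal_of_mem_iff {G : Type u} [Group G] {K : Subgroup G} {P : ℕ → Prop}
    (hK : ∀ g : G, g ∈ K ↔ P (orderOf g)) : K.Normal := by
  constructor
  intro n hn g
  rw [hK] at hn ⊢
  have : orderOf (g * n * g⁻¹) = orderOf n := by
    have := orderOf_injective (MulAut.conj g).toMonoidHom (MulAut.conj g).injective n
    simpa [MulAut.conj_apply] using this
  rwa [this]

/-- all prime divisors are at least `k` -/
def GeNum (k n : ℕ) : Prop := ∀ q : ℕ, q.Prime → q ∣ n → k ≤ q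
/-- all prime divisors are less than `k` -/
def LtNum (k n : ℕ) : Prop := ∀ q : ℕ, q.Prime → q ∣ n → q < k

theorem coprime_of {k a b : ℕ} (ha : GeNum k a) (hb : LtNum k b) : a.Coprime b := by
  rw [Nat.coprime_iff_gcd_eq_one]
  by_contra h
  obtain ⟨q, hq, hqd⟩ := Nat.exists_prime_and_dvd h
  have h1 := ha q hq (hqd.trans (Nat.gcd_dvd_left _ _))
  have h2 := hb q hq (hqd.trans (Nat.gcd_dvd_right _ _))
  omega

theorem GeNum.mul {k a b : ℕ} (ha : GeNum k a) (hb : GeNum k b) : GeNum k (a * b) := by
  intro q hq hd
  rcases (Nat.Prime.dvd_mul hq).1 hd with h | h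
  · exact ha q hq h
  · exact hb q hq h

theorem GeNum.dvd {k a b : ℕ} (ha : GeNum k a) (hb : b ∣ a) : GeNum k b :=
  fun q hq hd => ha q hq (hd.trans hb)

/-- `N` is a normal Hall subgroup for the primes `≥ k`. -/
structure IsGeHall {G : Type u} [Group G] (k : ℕ) (N : Subgroup G) : Prop where
  normal : N.Normal
  ge : GeNum k (Nat.card N)
  lt : LtNum k N.index

theorem IsGeHall.mem_iff {G : Type u} [Group G] [Finite G] {k : ℕ} {N : Subgroup G} (h : IsGeHall k N) (g : G) :
    g ∈ N ↔ GeNum k (orderOf g) := by
  haveI := h.normal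
  constructor
  · intro hg
    apply h.ge.dvd
    have := orderOf_dvd_natCard (⟨g, hg⟩ : N)
    rwa [Subgroup.orderOf_mk] at this
  · intro hg
    exact mem_of_coprime_index (coprime_of hg h.lt)

theorem IsGeHall.card_eq {G : Type u} {H : Type v} [Group G] [Finite G] [Group H] [Finite H] {k : ℕ}
    {N : Subgroup G} (h : IsGeHall k N) (hT : ∀ m : ℕ, Nat.card {g : G // orderOf g = m} = Nat.card {h : H // orderOf h = m}) :
    Nat.card {h : H // GeNum k (orderOf h)} = Nat.card N := by
  rw [← card_pred hT (GeNum k)]
  exact card_pred_eq_card h.mem_iff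

/-- The key step: in a group `H` of the same order type as a group with normal Hall subgroups for the
primes `≥ k` and `≥ k+1`: from the one for `k+1` in `H` get that for `k`. -/
theorem step {G : Type u} {H : Type v} [Group G] [Finite G] [Group H] [Finite H] {k : ℕ}
    {N : Subgroup G} (h : IsGeHall k N)
    (hT : ∀ m : ℕ, Nat.card {g : G // orderOf g = m} = Nat.card {h : H // orderOf h = m})
    {M : Subgroup H} (hM : IsGeHall (k+1) M) [hMs : Group.IsSolvable M] :
    ∃ L : Subgroup H, IsGeHall k L ∧ Group.IsSolvable L := by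
  classical
  haveI := hM.normal
  haveI := h.normal
  by_cases hk : k.Prime
  · haveI : Fact k.Prime := ⟨hk⟩
    obtain ⟨P⟩ : Nonempty (Sylow k H) := inferInstance
    set L : Subgroup H := M ⊔ (P : Subgroup H) with hL
    have hPcard : Nat.card (P : Subgroup H) = k ^ (Nat.card H).factorization k := P.card_eq_multiplicity
    -- coprimality of M and P
    have hkM : ¬ k ∣ Nat.card M := by
      intro hd
      have := hM.ge k hk hd
      omega
    have hcop : (Nat.card M).Coprime (Nat.card (P : Subgroup H)) := by
      rw [hPcard]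
      exact Nat.Coprime.pow_right _ (((Nat.Prime.coprime_iff_not_dvd hk).2 hkM).symm)
    have hdisj : Disjoint M (P : Subgroup H) := by
      rw [disjoint_iff]
      exact Subgroup.inf_eq_bot_of_coprime hcop
    have hLcard : Nat.card L = Nat.card M * Nat.card (P : Subgroup H) := by
      have h1 := Subgroup.card_mul_index (M.subgroupOf L)
      have h2 : Nat.card (M.subgroupOf L) = Nat.card M :=
        Nat.card_congr (Subgroup.subgroupOfEquivOfLe (le_sup_left : M ≤ L)).toEquiv
      have h3 : (M.subgroupOf L).index = Nat.card (P : Subgroup H) := by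
        have : (M.subgroupOf L).index = M.relIndex L := rfl
        rw [this, hL, sup_comm, Subgroup.relIndex_sup_right, ← Subgroup.inf_relIndex_right,
          hdisj.eq_bot, Subgroup.relIndex_bot_left]
      rw [← h1, h2, h3]
    have hgeL : GeNum k (Nat.card L) := by
      rw [hLcard]
      apply GeNum.mul
      · intro q hq hd
        have := hM.ge q hq hd
        omega
      · intro q hq hd
        rw [hPcard] at hd
        have := (Nat.prime_dvd_prime_iff_eq hq hk).1 (hq.dvd_of_dvd_pow hd)
        omega
    have hLidx : LtNum k L.index := by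
      intro q hq hd
      have h1 : L.index ∣ M.index := Subgroup.index_dvd_of_le le_sup_left
      have h2 := hM.lt q hq (hd.trans h1)
      have h3 : q ≠ k := by
        rintro rfl
        have h4 : (P : Subgroup H).index ≠ 0 := Subgroup.index_ne_zero_of_finite
        have h5 : ¬ q ∣ (P : Subgroup H).index := P.not_dvd_index
        exact h5 (hd.trans (Subgroup.index_dvd_of_le le_sup_right))
      omega
    have hcardN : Nat.card N = Nat.card L := by
      -- both are the (≥ k)-part of |G| = |H|
      have hGH : Nat.card G = Nat.card H := OrderType.card_eq hT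
      have e1 := Subgroup.card_mul_index N
      have e2 := Subgroup.card_mul_index L
      have c1 : (Nat.card N).Coprime L.index := coprime_of h.ge hLidx
      have c2 : (Nat.card L).Coprime N.index := coprime_of hgeL h.lt
      have d1 : Nat.card N ∣ Nat.card L := by
        apply c1.dvd_of_dvd_mul_right
        rw [e2, ← hGH, ← e1]; exact Dvd.intro _ rfl
      have d2 : Nat.card L ∣ Nat.card N := by
        apply c2.dvd_of_dvd_mul_right
        rw [e1, hGH, ← e2]; exact Dvd.intro _ rfl
      exact Nat.dvd_antisymm d1 d2
    have hmem : ∀ g : H, g ∈ L ↔ GeNum k (orderOf g) := by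
      apply mem_iff_of_card_le
      · intro g hg
        apply hgeL.dvd
        have := orderOf_dvd_natCard (⟨g, hg⟩ : L)
        rwa [Subgroup.orderOf_mk] at this
      · rw [h.card_eq hT, hcardN]
    have hLn : L.Normal := normal_of_mem_iff hmem
    refine ⟨L, ⟨hLn, hgeL, hLidx⟩, ?_⟩
    -- solvable
    let g : L →* H ⧸ M := (QuotientGroup.mk' M).comp L.subtype
    have hrange : g.range = (P : Subgroup H).map (QuotientGroup.mk' M) := by
      rw [MonoidHom.range_comp, Subgroup.range_subtype, hL, Subgroup.map_sup]
      have : M.map (QuotientGroup.mk' M) = ⊥ := by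
        rw [Subgroup.map_eq_bot_iff, QuotientGroup.ker_mk']
      rw [this, bot_sup_eq]
    have hpg : IsPGroup k g.range := by
      rw [hrange]
      exact P.isPGroup'.map _
    haveI : Group.IsNilpotent g.range := hpg.isNilpotent
    haveI : Group.IsSolvable g.range := inferInstance
    refine Group.isSolvable_of_ker_le_range (Subgroup.inclusion (le_sup_left : M ≤ L)) g.rangeRestrict ?_
    intro x hx
    rw [MonoidHom.mem_ker] at hx
    have hx' : QuotientGroup.mk' M (x : H) = 1 := congrArg Subtype.val hx
    have : (x : H) ∈ M := (QuotientGroup.eq_one_iff (x : H)).1 hx'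
    exact ⟨⟨x, this⟩, by ext; rfl⟩
  · refine ⟨M, ⟨hM.normal, ?_, ?_⟩, hMs⟩
    · intro q hq hd
      have := hM.ge q hq hd
      omega
    · intro q hq hd
      have h1 := hM.lt q hq hd
      have : q ≠ k := by rintro rfl; exact hk hq
      omega

/-- A finite group of the same order type as one having normal Hall subgroups for the primes `≥ k`,
for all `k ≥ k₀`, has a solvable normal Hall subgroup for the primes `≥ k₀`. -/
theorem exists_geHall {G : Type u} {H : Type v} [Group G] [Finite G] [Group H] [Finite H] (k₀ : ℕ)
    (h : ∀ k, k₀ ≤ k → ∃ N : Subgroup G, IsGeHall k N)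
    (hT : ∀ m : ℕ, Nat.card {g : G // orderOf g = m} = Nat.card {h : H // orderOf h = m}) :
    ∀ k, k₀ ≤ k → ∃ L : Subgroup H, IsGeHall k L ∧ Group.IsSolvable L := by
  have key : ∀ d k, k₀ ≤ k → Nat.card H + 1 ≤ k + d → ∃ L : Subgroup H, IsGeHall k L ∧ Group.IsSolvable L := by
    intro d
    induction d with
    | zero =>
      intro k _ hk'
      refine ⟨⊥, ⟨inferInstance, ?_, ?_⟩, inferInstance⟩
      · intro q hq hd
        simp only [Subgroup.card_bot, Nat.dvd_one] at hd
        exact absurd hd hq.one_lt.ne'
      · intro q hq hd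
        rw [Subgroup.index_bot] at hd
        have := Nat.le_of_dvd Nat.card_pos hd
        omega
    | succ d ih =>
      intro k hk hk'
      obtain ⟨M, hM, hMs⟩ := ih (k+1) (by omega) (by omega)
      obtain ⟨N, hN⟩ := h k hk
      exact step hN hT hM
  intro k hk
  exact key (Nat.card H + 1) k hk (by omega)

/-- elements of `p`-power order are exactly the elements of a normal Sylow subgroup -/
theorem mem_sylow_iff {G : Type u} [Group G] [Finite G] {p : ℕ} [Fact p.Prime] (Q : Sylow p G)
    (hQ : (Q : Subgroup G).Normal) (g : G) : g ∈ (Q : Subgroup G) ↔ ∃ k : ℕ, orderOf g = p ^ k := by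
  constructor
  · intro hg
    obtain ⟨k, hk⟩ := (IsPGroup.iff_orderOf.1 Q.isPGroup') ⟨g, hg⟩
    exact ⟨k, by rwa [Subgroup.orderOf_mk] at hk⟩
  · rintro ⟨k, hk⟩
    apply mem_of_coprime_index
    rw [hk]
    exact Nat.Coprime.pow_left _ (((Fact.out : p.Prime).coprime_iff_not_dvd).2 Q.not_dvd_index)

/-- If `G` has a normal Sylow `p`-subgroup and `H` has the same order type then every Sylow
`p`-subgroup of `H` is normal. -/
theorem sylow_normal {G : Type u} {H : Type v} [Group G] [Finite G] [Group H] [Finite H]
    (hT : ∀ m : ℕ, Nat.card {g : G // orderOf g = m} = Nat.card {h : H // orderOf h = m})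
    {p : ℕ} [Fact p.Prime] (Q : Sylow p G) (hQ : (Q : Subgroup G).Normal) (P : Sylow p H) :
    (P : Subgroup H).Normal := by
  apply normal_of_mem_iff (P := fun m => ∃ k : ℕ, m = p ^ k)
  apply mem_iff_of_card_le (P := fun m => ∃ k : ℕ, m = p ^ k)
  · intro g hg
    obtain ⟨k, hk⟩ := (IsPGroup.iff_orderOf.1 P.isPGroup') ⟨g, hg⟩
    exact ⟨k, by rwa [Subgroup.orderOf_mk] at hk⟩
  · rw [← card_pred hT (fun m => ∃ k : ℕ, m = p ^ k),
      card_pred_eq_card (P := fun m => ∃ k : ℕ, m = p ^ k) (mem_sylow_iff Q hQ), Q.card_eq_multiplicity,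
      P.card_eq_multiplicity, card_eq hT]

end Cfsg.Agent.Lib.OrderType
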