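import Cfsg.Agent.Lib.RankComp2
import Cfsg.Agent.Lib.OrderType
import Cfsg.Agent.Lib.Fitting
import Cfsg.Agent.Lib.Burnside
import Cfsg.Agent.Lib.FrobAction

set_option autoImplicit false

/-!
Groups whose `p`-subgroups are cyclic (`p` odd) or have two generators (`p = 2`):
solvable ones have normal Hall subgroups for the primes `≥ k`, for all `k ≥ 5`.
-/

namespace Cfsg.Agent.Lib.FrobCType

open Subgroup Cfsg Cfsg.Agent.Lib.OrderType

universe u v

/-- bound for the number of generators -/
def dnum (r : ℕ) : ℕ := if r = 2 then 2 else 1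

/-- every `r`-subgroup has at most `dnum r` generators -/
def SmallRank (C : Type u) [Group C] [Finite C] : Prop :=
  ∀ r : ℕ, r.Prime → ∀ Q : Subgroup C, IsPGroup r Q → Group.rank Q ≤ dnum r

theorem centralizes_of_not_dvd {G : Type u} [Group G] [Finite G] {r : ℕ} [hr : Fact r.Prime] {Q : Subgroup G}
    (hQ : IsPGroup r Q) {d : ℕ} (hd : Group.rank Q ≤ d) {p : ℕ} (hp : p.Prime) (hpr : p ≠ r)
    (hcop : ∀ i, 1 ≤ i → i ≤ d → ¬ p ∣ r ^ i - 1)
    {g : G} (hg : g ∈ normalizer (Q : Set G)) {k : ℕ} (hgo : orderOf g = p ^ k) : g ∈ centralizer (Q : Set G) := by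
  obtain ⟨s, hs, hsi⟩ := RankComp.index_frattini_le hQ hd
  obtain ⟨n, hn⟩ := IsPGroup.iff_card.1 hQ
  have h1 := Cfsg.Agent.S4208.result (P := Q) hn hsi
  have h2 : Q.normalizerMonoidHom ⟨g, hg⟩ = 1 := by
    by_contra hne
    have h3 : orderOf (Q.normalizerMonoidHom ⟨g, hg⟩) ≠ 1 := by rwa [Ne, orderOf_eq_one_iff]
    obtain ⟨q, hq, hqo⟩ := Nat.exists_prime_and_dvd h3
    have h4 : q ∣ orderOf g := by
      have := orderOf_map_dvd Q.normalizerMonoidHom (⟨g, hg⟩ : normalizer (Q : Set G))
      rw [Subgroup.orderOf_mk] at this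
      exact hqo.trans this
    have h5 : q = p := by
      rw [hgo] at h4
      exact (Nat.prime_dvd_prime_iff_eq hq hp).1 (hq.dvd_of_dvd_pow h4)
    subst h5
    have h7 := (hqo.trans (orderOf_dvd_natCard _)).trans h1
    rcases (Nat.Prime.dvd_mul hq).1 h7 with h8 | h8
    · exact hpr ((Nat.prime_dvd_prime_iff_eq hq hr.1).1 (hq.dvd_of_dvd_pow h8))
    · rw [Prime.dvd_finset_prod_iff hq.prime] at h8
      obtain ⟨i, hi, h9⟩ := h8
      rw [Finset.mem_range] at hi
      have h10 : r ^ s - r ^ i = r ^ i * (r ^ (s - i) - 1) := by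
        rw [Nat.mul_sub, mul_one, ← pow_add]
        congr 2
        omega
      rw [h10] at h9
      rcases (Nat.Prime.dvd_mul hq).1 h9 with h11 | h11
      · exact hpr ((Nat.prime_dvd_prime_iff_eq hq hr.1).1 (hq.dvd_of_dvd_pow h11))
      · exact hcop (s - i) (by omega) (by omega) h11
  have h3 : (⟨g, hg⟩ : normalizer (Q : Set G)) ∈ Q.normalizerMonoidHom.ker := h2
  rw [Subgroup.normalizerMonoidHom_ker] at h3
  exact h3

theorem isCyclic_of_rank_le_one {G : Type u} [Group G] [Group.FG G] (h : Group.rank G ≤ 1) : IsCyclic G := by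
  classical
  obtain ⟨S, hS, hS2⟩ := Group.rank_spec G
  have h1 : S.card ≤ 1 := by omega
  rw [Finset.card_le_one_iff_subset_singleton] at h1
  obtain ⟨x, hx⟩ := h1
  refine ⟨x, fun y => ?_⟩
  have h2 : (⊤ : Subgroup G) ≤ zpowers x := by
    rw [← hS2, closure_le]
    intro z hz
    have := hx hz
    rw [Finset.mem_singleton] at this
    rw [this]
    exact mem_zpowers x
  exact h2 (mem_top y)

/-- the Sylow subgroup for the largest prime `p ≥ 5` is normal -/
theorem sylow_normal_of_largest {C : Type u} [Group C] [Finite C] [Group.IsSolvable C] (hS : SmallRank C) {p : ℕ}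
    [hp : Fact p.Prime] (hp5 : 5 ≤ p) (hmax : ∀ q : ℕ, q.Prime → q ∣ Nat.card C → q ≤ p) (P : Sylow p C) :
    (P : Subgroup C).Normal := by
  have hPF : (P : Subgroup C) ≤ fittingSubgroup C := by
    refine le_trans ?_ (Cfsg.Agent.Lib.Fitting.centralizer_fittingSubgroup_le (G := C))
    rw [Cfsg.Agent.Lib.Fitting.fittingSubgroup_eq_iSup_pCore]
    rw [Subgroup.le_centralizer_iff, iSup_le_iff]
    rintro ⟨r, hr⟩
    have hr' : Fact r.Prime := ⟨hr⟩
    have hcore : IsPGroup r (pCore r C) := Cfsg.Agent.Lib.Fitting.isPGroup_pCore r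
    have hcn : (pCore r C).Normal := Cfsg.Agent.Lib.Fitting.normal_pCore r
    show pCore r C ≤ centralizer ((P : Subgroup C) : Set C)
    rw [Subgroup.le_centralizer_iff]
    by_cases hrp : r = p
    · subst hrp
      have h1 : pCore r C ≤ (P : Subgroup C) := Cfsg.Agent.Lib.Fitting.pCore_le_sylow _ P
      have h2 : Group.rank (P : Subgroup C) ≤ 1 := by
        have := hS r hr (P : Subgroup C) P.2
        unfold dnum at this
        rwa [if_neg (by omega)] at this
      have h3 : IsCyclic (P : Subgroup C) := isCyclic_of_rank_le_one h2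
      intro x hx
      rw [mem_centralizer_iff]
      intro y hy
      have h4 := (IsCyclic.commutative (α := (P : Subgroup C))).is_comm.comm ⟨y, h1 hy⟩ ⟨x, hx⟩
      exact congrArg Subtype.val h4
    · intro x hx
      obtain ⟨k, hk⟩ := (IsPGroup.iff_orderOf.1 P.2) ⟨x, hx⟩
      rw [Subgroup.orderOf_mk] at hk
      have hxn : x ∈ normalizer ((pCore r C : Subgroup C) : Set C) := by
        rw [normalizer_eq_top]; trivial
      by_cases hrC : r ∣ Nat.card C
      · have hrle := hmax r hr hrC
        refine centralizes_of_not_dvd hcore (hS r hr _ hcore) hp.1 (fun h => hrp h.symm) ?_ hxn hk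
        intro i hi1 hi2 hd
        unfold dnum at hi2
        split_ifs at hi2 with h2
        · subst h2
          have : i = 1 ∨ i = 2 := by omega
          rcases this with rfl | rfl
          · have := Nat.le_of_dvd (by norm_num) hd; omega
          · have := Nat.le_of_dvd (by norm_num) hd; omega
        · have : i = 1 := by omega
          subst this
          rw [pow_one] at hd
          have h3 := hr.two_le
          have := Nat.le_of_dvd (by omega) hd
          omega
      · -- trivial core
        have h1 : pCore r C = ⊥ := by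
          rw [← Subgroup.card_eq_one]
          obtain ⟨n, hn⟩ := IsPGroup.iff_card.1 hcore
          rcases Nat.eq_zero_or_pos n with h0 | h0
          · rw [hn, h0, pow_zero]
          · exfalso
            apply hrC
            refine (dvd_pow_self r h0.ne').trans ?_
            rw [← hn]; exact Subgroup.card_subgroup_dvd_card _
        rw [h1]
        rw [mem_centralizer_iff]
        intro y hy
        have hy' : y = 1 := hy
        rw [hy', one_mul, mul_one]
  have hFn : (fittingSubgroup C).Normal := Cfsg.Agent.Lib.Fitting.normal_fittingSubgroup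
  have hFnil : Group.IsNilpotent (fittingSubgroup C) := Cfsg.Agent.Lib.Fitting.isNilpotent_fittingSubgroup
  have hPn : ((P.subtype hPF : Sylow p (fittingSubgroup C)) : Subgroup (fittingSubgroup C)).Normal :=
    Sylow.normal_of_normalizerCondition Group.normalizerCondition_of_isNilpotent _
  have hPc := (P.subtype hPF : Sylow p (fittingSubgroup C)).characteristic_of_normal hPn
  have h1 : (((P.subtype hPF : Sylow p (fittingSubgroup C)) : Subgroup (fittingSubgroup C)).map
      (fittingSubgroup C).subtype).Normal := by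
    have := hPc
    exact ConjAct.normal_of_characteristic_of_normal
  have h2 : (((P.subtype hPF : Sylow p (fittingSubgroup C)) : Subgroup (fittingSubgroup C)).map
      (fittingSubgroup C).subtype) = (P : Subgroup C) := by
    rw [Sylow.coe_subtype, Subgroup.map_subgroupOf_eq_of_le hPF]
  rwa [h2] at h1

theorem SmallRank.of_surjective {C : Type u} {D : Type v} [Group C] [Finite C] [Group D] [Finite D]
    (hS : SmallRank C) (f : C →* D) (hf : Function.Surjective f) : SmallRank D := by
  intro r hr Q hQ
  have := Fact.mk hr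
  -- a Sylow subgroup of the preimage maps onto `Q`
  obtain ⟨T⟩ : Nonempty (Sylow r (Q.comap f)) := inferInstance
  let φ : (Q.comap f) →* Q := f.subgroupComap Q
  have hφ : Function.Surjective φ := MonoidHom.subgroupComap_surjective_of_surjective f Q hf
  have h1 : (T : Subgroup (Q.comap f)).map φ = ⊤ := by
    have h2 : (T.mapSurjective hφ : Subgroup Q) = ⊤ := by
      have h3 : IsPGroup r (⊤ : Subgroup Q) := hQ.of_equiv Subgroup.topEquiv.symm
      exact ((T.mapSurjective hφ).3 h3 le_top).symm
    exact h2
  have h2 : Group.rank Q ≤ Group.rank (T : Subgroup (Q.comap f)) := by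
    refine Group.rank_le_of_surjective (φ.comp (T : Subgroup (Q.comap f)).subtype) ?_
    rw [← MonoidHom.range_eq_top, MonoidHom.range_comp, Subgroup.range_subtype, h1]
  have h3 : Group.rank (T : Subgroup (Q.comap f)) ≤ dnum r := by
    have e := (T : Subgroup (Q.comap f)).equivMapOfInjective (Q.comap f).subtype (Q.comap f).subtype_injective
    rw [Group.rank_congr e]
    exact hS r hr _ (T.2.map _)
  exact h2.trans h3

theorem lift_geHall_normal {G : Type u} [Group G] [Finite G] {k : ℕ} (Z : Subgroup G) [Z.Normal]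
    (hZ : GeNum k (Nat.card Z)) {N : Subgroup (G ⧸ Z)} (hN : IsGeHall k N) :
    ∃ L : Subgroup G, IsGeHall k L := by
  have := hN.normal
  refine ⟨N.comap (QuotientGroup.mk' Z), inferInstance, ?_, ?_⟩
  · have h1 : Nat.card (N.comap (QuotientGroup.mk' Z)) = Nat.card Z * Nat.card N := by
      have h1 := Subgroup.card_mul_index (N.comap (QuotientGroup.mk' Z))
      have h2 := Subgroup.card_mul_index N
      have h3 : N.index ≠ 0 := Subgroup.index_ne_zero_of_finite
      rw [Subgroup.index_comap_of_surjective N (QuotientGroup.mk'_surjective Z)] at h1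
      have h4 : Nat.card G = Nat.card Z * Nat.card (G ⧸ Z) := by
        rw [← Subgroup.index_eq_card, Subgroup.card_mul_index]
      rw [h4, ← h2, ← mul_assoc] at h1
      exact Nat.eq_of_mul_eq_mul_right (Nat.pos_of_ne_zero h3) h1
    rw [h1]
    exact hZ.mul hN.ge
  · rw [Subgroup.index_comap_of_surjective N (QuotientGroup.mk'_surjective Z)]
    exact hN.lt

theorem exists_geHall_of_solvable {k : ℕ} (hk : 5 ≤ k) : ∀ (n : ℕ) (C : Type u) [Group C] [Finite C],
    Nat.card C = n → Group.IsSolvable C → SmallRank C → ∃ N : Subgroup C, IsGeHall k N := by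
  intro n
  induction n using Nat.strong_induction_on with
  | _ n ih =>
    intro C _ _ hn hs hS
    by_cases hex : ∃ q : ℕ, q.Prime ∧ q ∣ Nat.card C ∧ k ≤ q
    · -- the largest prime
      obtain ⟨p, ⟨hp, hpC, hkp⟩, hmax⟩ : ∃ p : ℕ, (p.Prime ∧ p ∣ Nat.card C ∧ k ≤ p) ∧
          ∀ q : ℕ, q.Prime → q ∣ Nat.card C → q ≤ p := by
        classical
        obtain ⟨q, hq, hqC, hkq⟩ := hex
        have hne : (Nat.card C).primeFactors.Nonempty :=
          ⟨q, Nat.mem_primeFactors.2 ⟨hq, hqC, Nat.card_pos.ne'⟩⟩
        refine ⟨(Nat.card C).primeFactors.max' hne, ?_, ?_⟩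
        · have h1 := Finset.max'_mem _ hne
          rw [Nat.mem_primeFactors] at h1
          refine ⟨h1.1, h1.2.1, hkq.trans ?_⟩
          exact Finset.le_max' _ _ (Nat.mem_primeFactors.2 ⟨hq, hqC, Nat.card_pos.ne'⟩)
        · intro r hr hrC
          exact Finset.le_max' _ _ (Nat.mem_primeFactors.2 ⟨hr, hrC, Nat.card_pos.ne'⟩)
      have := Fact.mk hp
      obtain ⟨P⟩ : Nonempty (Sylow p C) := inferInstance
      have hPn := sylow_normal_of_largest hS (hk.trans hkp) hmax P
      obtain ⟨m, hm⟩ := IsPGroup.iff_card.1 P.2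
      have hPd : p ∣ Nat.card (P : Subgroup C) := P.dvd_card_of_dvd_card hpC
      have hlt : Nat.card (C ⧸ (P : Subgroup C)) < n := by
        rw [← hn, Subgroup.card_eq_card_quotient_mul_card_subgroup (P : Subgroup C)]
        have h1 := Nat.le_of_dvd Nat.card_pos hPd
        have h2 : 0 < Nat.card (C ⧸ (P : Subgroup C)) := Nat.card_pos
        have := hp.two_le
        nlinarith
      obtain ⟨N, hN⟩ := ih _ hlt (C ⧸ (P : Subgroup C)) rfl inferInstance
        (hS.of_surjective (QuotientGroup.mk' _) (QuotientGroup.mk'_surjective _))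
      refine lift_geHall_normal (P : Subgroup C) ?_ hN
      intro q hq hqd
      rw [hm] at hqd
      rw [(Nat.prime_dvd_prime_iff_eq hq hp).1 (hq.dvd_of_dvd_pow hqd)]
      exact hkp
    · push Not at hex
      refine ⟨⊥, inferInstance, ?_, ?_⟩
      · intro q hq hd
        rw [Subgroup.card_bot, Nat.dvd_one] at hd
        exact absurd hd hq.one_lt.ne'
      · intro q hq hd
        rw [Subgroup.index_bot] at hd
        exact hex q hq hd

/-- same order type: solvability transfers -/
theorem isSolvable_of_orderType {C : Type u} {D : Type v} [Group C] [Finite C] [Group D] [Finite D]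
    (hs : Group.IsSolvable C) (hS : SmallRank C)
    (hT : ∀ m : ℕ, Nat.card {g : C // orderOf g = m} = Nat.card {h : D // orderOf h = m}) :
    Group.IsSolvable D := by
  obtain ⟨L, hL, hLs⟩ := exists_geHall (G := C) (H := D) 5
    (fun k hk => exists_geHall_of_solvable hk _ C rfl hs hS) hT 5 le_rfl
  have := hL.normal
  refine (Group.isSolvable_iff_subgroup_quotient L).2 ⟨hLs, ?_⟩
  have hcard : ∃ a b : ℕ, Nat.card (D ⧸ L) = 2 ^ a * 3 ^ b := by
    have hlt : LtNum 5 (Nat.card (D ⧸ L)) := by rw [← Subgroup.index_eq_card]; exact hL.lt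
    have hpos : Nat.card (D ⧸ L) ≠ 0 := Nat.card_pos.ne'
    refine ⟨(Nat.card (D ⧸ L)).factorization 2, (Nat.card (D ⧸ L)).factorization 3, ?_⟩
    conv_lhs => rw [← Nat.prod_factorization_pow_eq_self hpos]
    rw [Finsupp.prod]
    have hsub : (Nat.card (D ⧸ L)).factorization.support ⊆ ({2, 3} : Finset ℕ) := by
      intro q hq
      rw [Nat.support_factorization, Nat.mem_primeFactors] at hq
      have h1 := hlt q hq.1 hq.2.1
      have h2 := hq.1.two_le
      have h3 : q ≠ 4 := by rintro rfl; exact absurd hq.1 (by norm_num)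
      simp only [Finset.mem_insert, Finset.mem_singleton]
      omega
    rw [Finset.prod_subset hsub, Finset.prod_pair (by norm_num)]
    intro q _ hq
    rw [Finsupp.notMem_support_iff] at hq
    rw [hq, pow_zero]
  obtain ⟨a, b, hab⟩ := hcard
  exact Cfsg.Agent.Lib.Burnside.isSolvable_of_card_eq _ 2 3 a b Nat.prime_two Nat.prime_three hab rfl

/-- Frobenius complements have small rank -/
theorem smallRank_of_fpf {A V : Type u} [Group A] [Finite A] [CommGroup V] [Finite V] [Nontrivial V]
    {act : A →* MulAut V} (hf : Cfsg.Agent.Lib.FrobAction.IsFPF act) : SmallRank A := by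
  intro r hr Q hQ
  have := Fact.mk hr
  have h1 : Cfsg.Agent.Lib.FrobAction.IsFPF (act.comp Q.subtype) := hf.comp _ Q.subtype_injective
  have hcyc : ∀ (B : Type u) [Group B] [Finite B], IsCyclic B → Group.rank B ≤ 1 := by
    intro B _ _ hB
    obtain ⟨g, hg⟩ := hB.exists_generator
    have h3 : closure (({g} : Finset B) : Set B) = ⊤ := by
      rw [Finset.coe_singleton, ← zpowers_eq_closure, eq_top_iff]
      intro x _; exact hg x
    exact (Group.rank_le h3).trans (by simp)
  rcases Cfsg.Agent.Lib.FrobAction.pgroup_cyclic_or_quaternion h1 hQ with h2 | ⟨h2, n, hn, ⟨e⟩⟩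
  · refine (hcyc Q h2).trans ?_
    unfold dnum; split_ifs <;> omega
  · subst h2
    have h3 : dnum 2 = 2 := rfl
    rw [h3, Group.rank_congr e]
    classical
    have h4 : closure (({QuaternionGroup.a 1, QuaternionGroup.xa 0} : Finset (QuaternionGroup (2 ^ n))) :
        Set (QuaternionGroup (2 ^ n))) = ⊤ := by
      rw [eq_top_iff]
      have ha : ∀ i : ZMod (2 * 2 ^ n), QuaternionGroup.a i ∈ closure
          (({QuaternionGroup.a 1, QuaternionGroup.xa 0} : Finset (QuaternionGroup (2 ^ n))) :
          Set (QuaternionGroup (2 ^ n))) := by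
        intro i
        have h5 : (QuaternionGroup.a 1 : QuaternionGroup (2 ^ n)) ^ i.val = QuaternionGroup.a i := by
          rw [QuaternionGroup.a_one_pow, ZMod.natCast_zmod_val]
        rw [← h5]
        exact pow_mem (subset_closure (by simp)) _
      rintro (i | i) _
      · exact ha i
      · have h5 : (QuaternionGroup.xa i : QuaternionGroup (2 ^ n)) = QuaternionGroup.xa 0 * QuaternionGroup.a i := by
          rw [QuaternionGroup.xa_mul_a, zero_add]
        rw [h5]
        exact mul_mem (subset_closure (by simp)) (ha i)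
    exact (Group.rank_le h4).trans Finset.card_le_two

end Cfsg.Agent.Lib.FrobCType
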