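import Cfsg.Agent.Lib.FrobLattice

/-!
# Changing the characteristic of a fixed-point-free action

`charChange`: if `A` occurs as a Frobenius complement then for every prime `ℓ ∤ |A|` the group `A` acts
fixed-point-freely on a nontrivial finite `ZMod ℓ`-module.
-/

set_option autoImplicit false
open Cfsg

namespace Cfsg.Agent.Lib.FrobCharChange

open FrobExist FrobAction FrobLattice

universe u v

section Ring

variable {R : Type u} [Ring R]

theorem cast_dvd_mul_left (m : ℕ) {x : R} (y : R) (h : (m : R) ∣ x) : (m : R) ∣ y * x := by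
  obtain ⟨c, rfl⟩ := h
  exact ⟨y * c, by rw [← mul_assoc, ← mul_assoc, (Nat.cast_commute m y).eq]⟩

theorem exists_lift_idem (p : ℕ) (F : R) (h : (p : R) ∣ F * F - F) (k : ℕ) :
    ∃ G : R, ((p ^ (k + 1) : ℕ) : R) ∣ G * G - G ∧ (p : R) ∣ G - F := by
  induction k with
  | zero => exact ⟨F, by simpa using h, by simp⟩
  | succ k ih =>
    obtain ⟨G, h1, h2⟩ := ih
    refine ⟨3 * G * G - 2 * G * G * G, ?_, ?_⟩
    · have e : (3 * G * G - 2 * G * G * G) * (3 * G * G - 2 * G * G * G) - (3 * G * G - 2 * G * G * G)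
          = (G * G - G) * (G * G - G) * (4 * G * G - 4 * G - 3) := by noncomm_ring
      rw [e]
      apply Dvd.dvd.mul_right
      obtain ⟨c, hc⟩ := h1
      rw [hc]
      refine ⟨((p ^ k : ℕ) : R) * (c * c), ?_⟩
      have h3 : c * ((p ^ (k + 1) : ℕ) : R) = ((p ^ (k + 1) : ℕ) : R) * c := (Nat.cast_commute _ c).eq.symm
      have h4 : ((p ^ (k + 1) : ℕ) : R) * ((p ^ (k + 1) : ℕ) : R)
          = ((p ^ (k + 1 + 1) : ℕ) : R) * ((p ^ k : ℕ) : R) := by
        rw [← Nat.cast_mul, ← Nat.cast_mul]
        congr 1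
        ring
      calc ((p ^ (k + 1) : ℕ) : R) * c * (((p ^ (k + 1) : ℕ) : R) * c)
          = ((p ^ (k + 1) : ℕ) : R) * (c * ((p ^ (k + 1) : ℕ) : R)) * c := by simp only [mul_assoc]
        _ = (((p ^ (k + 1) : ℕ) : R) * ((p ^ (k + 1) : ℕ) : R)) * (c * c) := by
            rw [h3]; simp only [mul_assoc]
        _ = _ := by rw [h4, mul_assoc]
    · have e : 3 * G * G - 2 * G * G * G - F = - ((2 * G - 1) * (G * G - G)) + (G - F) := by noncomm_ring
      rw [e]
      apply dvd_add _ h2
      rw [dvd_neg]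
      apply cast_dvd_mul_left
      refine dvd_trans ?_ h1
      rw [pow_succ', Nat.cast_mul]
      exact Dvd.intro _ rfl

theorem cast_coprime_dvd {p n : ℕ} (hc : Nat.Coprime p n) {k : ℕ} {x : R}
    (h : ((p ^ k : ℕ) : R) ∣ n * x) : ((p ^ k : ℕ) : R) ∣ x := by
  have h1 : IsCoprime ((p ^ k : ℕ) : ℤ) (n : ℤ) := Nat.isCoprime_iff_coprime.2 (hc.pow_left k)
  obtain ⟨a, b, hab⟩ := h1
  have h2 : x = (a * ((p ^ k : ℕ) : ℤ) + b * (n : ℤ) : ℤ) * x := by
    rw [hab]; simp
  rw [h2]
  push_cast
  rw [add_mul]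
  apply dvd_add
  · refine ⟨a * x, ?_⟩
    rw [← mul_assoc, (Int.cast_commute a _).eq]
  · rw [mul_assoc]
    have := cast_dvd_mul_left (p ^ k) (b : R) h
    push_cast at this
    exact this

theorem dvd_norm_mul {p n : ℕ} (hc : Nat.Coprime p n) {N F G : R} {k : ℕ}
    (hNN : N * N = n * N) (hF : ∀ b : R, (p : R) ∣ N * b * F) (hGF : (p : R) ∣ G - F)
    (hGG : ((p ^ k : ℕ) : R) ∣ G * G - G) (j : ℕ) (hj : j ≤ k) (b : R) :
    ((p ^ j : ℕ) : R) ∣ N * b * G := by
  have hG : ∀ b : R, (p : R) ∣ N * b * G := by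
    intro b
    have : N * b * G = N * b * F + N * b * (G - F) := by noncomm_ring
    rw [this]
    exact dvd_add (hF b) (cast_dvd_mul_left _ _ hGF)
  induction j generalizing b with
  | zero => simp
  | succ j ih =>
    apply cast_coprime_dvd hc
    have h1 : (n : R) * (N * b * G) = N * (N * b * G) * G - N * N * b * (G * G - G) := by
      rw [hNN]
      have : N * (N * b * G) = n * N * b * G := by
        rw [← hNN]; noncomm_ring
      rw [this]
      noncomm_ring
    rw [h1]
    apply dvd_sub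
    · obtain ⟨c, hc'⟩ := ih (by omega) b
      rw [hc']
      have : N * (((p ^ j : ℕ) : R) * c) * G = ((p ^ j : ℕ) : R) * (N * c * G) := by
        rw [← mul_assoc, ← (Nat.cast_commute _ N).eq]
        simp only [mul_assoc]
      rw [this, pow_succ, Nat.cast_mul]
      exact mul_dvd_mul_left _ (hG c)
    · apply cast_dvd_mul_left
      exact (Nat.cast_dvd_cast (pow_dvd_pow p hj)).trans hGG

end Ring

section Group

variable {A : Type u} [Group A]

theorem coeff_natCast_mul {R : Type v} [CommRing R] (p : ℕ) (y : MonoidAlgebra R A) (g : A) :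
    ((p : MonoidAlgebra R A) * y).coeff g = p * y.coeff g := by
  rw [← nsmul_eq_mul, MonoidAlgebra.coeff_smul, Finsupp.smul_apply, nsmul_eq_mul]

theorem red_eq_zero_iff (p : ℕ) (x : MonoidAlgebra ℤ A) :
   MonoidAlgebra.mapRingHom A (Int.castRingHom (ZMod p)) x = 0 ↔ ((p:ℕ) : MonoidAlgebra ℤ A) ∣ x := by
  constructor
  · intro h
    refine ⟨MonoidAlgebra.ofCoeff (x.coeff.mapRange (fun z => z / (p:ℤ)) (by simp)), ?_⟩
    ext g
    rw [coeff_natCast_mul]
    have : ((x.coeff g : ℤ) : ZMod p) = 0 := by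
      have := congrArg (fun y => y.coeff g) h
      simpa using this
    rw [ZMod.intCast_zmod_eq_zero_iff_dvd] at this
    simp [Int.mul_ediv_cancel' this]
  · rintro ⟨y, rfl⟩
    ext g
    rw [MonoidAlgebra.coeff_mapRingHom, coeff_natCast_mul]
    simp

theorem red_surjective (p : ℕ) [NeZero p] :
   Function.Surjective (MonoidAlgebra.mapRingHom A (Int.castRingHom (ZMod p))) := by
  intro y
  refine ⟨MonoidAlgebra.ofCoeff (y.coeff.mapRange (fun z => (z.val : ℤ)) (by simp)), ?_⟩
  ext g
  simp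

/-- norm elements -/
noncomputable def nm (R : Type v) [CommRing R] (a : A) : MonoidAlgebra R A :=
  ∑ i ∈ Finset.range (orderOf a), (MonoidAlgebra.of R A a) ^ i

theorem of_mul_nm (R : Type v) [CommRing R] (a : A) : MonoidAlgebra.of R A a * nm R a = nm R a := by
  have h := mul_geom_sum (MonoidAlgebra.of R A a) (orderOf a)
  rw [← map_pow, pow_orderOf_eq_one, map_one, sub_self, sub_mul, one_mul, sub_eq_zero] at h
  exact h

theorem nm_mul_nm (R : Type v) [CommRing R] (a : A) : nm R a * nm R a = (orderOf a : ℕ) * nm R a := by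
  have h : ∀ i : ℕ, (MonoidAlgebra.of R A a) ^ i * nm R a = nm R a := by
    intro i
    induction i with
    | zero => simp
    | succ i ih => rw [pow_succ, mul_assoc, of_mul_nm, ih]
  have h2 : nm R a * nm R a = ∑ i ∈ Finset.range (orderOf a), (MonoidAlgebra.of R A a) ^ i * nm R a := by
    rw [← Finset.sum_mul]; rfl
  rw [h2, Finset.sum_congr rfl (fun i _ => h i), Finset.sum_const, Finset.card_range, nsmul_eq_mul]

theorem exists_prime_of_occurs (h : Occurs A) :
    ∃ p : ℕ, p.Prime ∧ ¬ p ∣ Nat.card A ∧ OccursP p A := by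
  have hfin := h.finite
  obtain ⟨V, _, _, _, act, hact⟩ := to_action h
  obtain ⟨p, hp, hpV⟩ := Nat.exists_prime_and_dvd (Finite.one_lt_card (α := V)).ne'
  have := Fact.mk hp
  refine ⟨p, hp, ?_, ?_⟩
  · intro hdvd
    obtain ⟨a, ha⟩ := exists_prime_orderOf_dvd_card' p hdvd
    exact not_dvd_card hact ha hpV
  · let S : Subgroup V := (powMonoidHom p : V →* V).ker
    have hmem : ∀ v : V, v ∈ S ↔ v ^ p = 1 := fun v => Iff.rfl
    have hS : ∀ a : A, ∀ v ∈ S, act a v ∈ S := by
      intro a v hv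
      rw [hmem] at hv ⊢
      rw [← map_pow, hv, map_one]
    obtain ⟨v0, hv0⟩ := exists_prime_orderOf_dvd_card' p hpV
    have hv0S : v0 ∈ S := by rw [hmem, ← hv0]; exact pow_orderOf_eq_one v0
    have : Nontrivial S := by
      refine ⟨⟨⟨v0, hv0S⟩, 1, fun h => ?_⟩⟩
      have : v0 = 1 := congrArg Subtype.val h
      rw [this, orderOf_one] at hv0
      exact hp.one_lt.ne hv0
    let f : A →* AddMonoid.End (Additive S) :=
      { toFun := fun a => MonoidHom.toAdditive
          (((act a).toMonoidHom.comp S.subtype).codRestrict S (fun v => hS a v v.2))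
        map_one' := by
          refine AddMonoidHom.ext fun v => ?_
          apply Additive.toMul.injective
          apply Subtype.ext
          change act 1 (v.toMul : V) = (v.toMul : V)
          rw [map_one]; rfl
        map_mul' := by
          intro a b
          refine AddMonoidHom.ext fun v => ?_
          apply Additive.toMul.injective
          apply Subtype.ext
          change act (a * b) (v.toMul : V) = act a (act b (v.toMul : V))
          rw [map_mul]; rfl }
    refine of_addAction p (V := Additive S) ?_ f ?_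
    · intro v
      apply Additive.toMul.injective
      apply Subtype.ext
      exact v.toMul.2
    · intro a ha v hv
      have h1 : act a (v.toMul : V) = (v.toMul : V) := congrArg (fun w : Additive S => (w.toMul : V)) hv
      have := hact a ha _ h1
      apply Additive.toMul.injective
      exact Subtype.ext this

theorem exists_idem [Finite A] {p : ℕ} [hpp : Fact p.Prime] (hp : ¬ p ∣ Nat.card A) (h : OccursP p A) :
    ∃ F : MonoidAlgebra ℤ A, ¬ (p : MonoidAlgebra ℤ A) ∣ F ∧ (p : MonoidAlgebra ℤ A) ∣ F * F - F ∧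
      ∀ a : A, a ≠ 1 → ∀ b, (p : MonoidAlgebra ℤ A) ∣ nm ℤ a * b * F := by
  obtain ⟨V, _, _, _, _, ρ, hρ⟩ := h
  let B := MonoidAlgebra (ZMod p) A
  let ψ : B →ₐ[ZMod p] Module.End (ZMod p) V := MonoidAlgebra.lift (ZMod p) _ A ρ
  let W : Submodule B B := RingHom.ker ψ
  have hW : ∀ x : B, x ∈ W ↔ ψ x = 0 := fun x => Iff.rfl
  have : NeZero (Nat.card A : ZMod p) := ⟨by rwa [Ne, ZMod.natCast_eq_zero_iff]⟩
  obtain ⟨W', hWW'⟩ := exists_isCompl W
  have h1 : (1 : B) ∈ W ⊔ W' := by rw [hWW'.sup_eq_top]; trivial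
  obtain ⟨w, hw, f, hf, hwf⟩ := Submodule.mem_sup.1 h1
  have hxf : ∀ x ∈ W, x * f = 0 := by
    intro x hx
    have h2 : x * f ∈ W := by
      rw [hW] at hx ⊢
      rw [map_mul, hx, zero_mul]
    have h3 : x * f ∈ W' := W'.smul_mem x hf
    have h4 : x * f ∈ W ⊓ W' := ⟨h2, h3⟩
    rwa [hWW'.inf_eq_bot, Submodule.mem_bot] at h4
  have hff : f * f = f := by
    have : w * f + f * f = f := by rw [← add_mul, hwf, one_mul]
    rw [hxf w hw, zero_add] at this
    exact this
  have hf0 : f ≠ 0 := by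
    rintro rfl
    rw [add_zero] at hwf
    rw [hwf, hW, map_one] at hw
    obtain ⟨v, hv⟩ := exists_ne (0 : V)
    apply hv
    have := congrArg (fun g : Module.End (ZMod p) V => g v) hw
    simpa using this
  have hnmW : ∀ a : A, a ≠ 1 → nm (ZMod p) a ∈ W := by
    intro a ha
    rw [hW]
    apply LinearMap.ext
    intro v
    apply hρ a ha
    have : ρ a = ψ (MonoidAlgebra.of (ZMod p) A a) := (MonoidAlgebra.lift_of ρ a).symm
    rw [this, ← Module.End.mul_apply, ← map_mul, of_mul_nm]
  obtain ⟨F, hF⟩ := red_surjective (A := A) p f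
  refine ⟨F, ?_, ?_, ?_⟩
  · rw [← red_eq_zero_iff, hF]; exact hf0
  · rw [← red_eq_zero_iff, map_sub, map_mul, hF, hff, sub_self]
  · intro a ha b
    rw [← red_eq_zero_iff, map_mul, hF]
    apply hxf
    have : MonoidAlgebra.mapRingHom A (Int.castRingHom (ZMod p)) (nm ℤ a) = nm (ZMod p) a := by
      rw [nm, nm, map_sum]
      refine Finset.sum_congr rfl fun i _ => ?_
      rw [map_pow]
      congr 1
      simp
    rw [map_mul, this]
    have h5 := hnmW a ha
    rw [hW] at h5 ⊢
    rw [map_mul, h5, zero_mul]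

/-- **Change of characteristic** for fixed-point-free actions. -/
theorem charChange (h : Occurs A) (ℓ : ℕ) [hℓp : Fact ℓ.Prime] (hℓ : ¬ ℓ ∣ Nat.card A) : OccursP ℓ A := by
  have hfin := h.finite
  obtain ⟨p, hp, hpA, hP⟩ := exists_prime_of_occurs h
  have := Fact.mk hp
  obtain ⟨F, hF0, hFF, hF⟩ := exists_idem hpA hP
  let Λ := MonoidAlgebra ℤ A
  let I : Ideal Λ := Ideal.span {z | ∃ a : A, a ≠ 1 ∧ ∃ b, z = nm ℤ a * b}
  have hI : I.IsTwoSided := by
    refine ⟨fun {x} y hx => ?_⟩
    induction hx using Submodule.span_induction with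
    | mem x h =>
      obtain ⟨a, ha, b, rfl⟩ := h
      exact Ideal.subset_span ⟨a, ha, b * y, by rw [mul_assoc]⟩
    | zero => rw [zero_mul]; exact zero_mem _
    | add u v _ _ hu hv => rw [add_mul]; exact add_mem hu hv
    | smul c u _ hu =>
      rw [smul_eq_mul, mul_assoc]; exact I.mul_mem_left c hu
  have hfinM : Module.Finite ℤ (Λ ⧸ I) := Module.Finite.quotient ℤ I
  -- the key fact: multiples in `I`
  have key : ∀ n : ℕ, (n : Λ) ∈ I → n = 0 := by
    intro n hn
    by_contra hn0
    -- all powers of `p` divide `n`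
    have hall : ∀ k : ℕ, p ^ (k + 1) ∣ n := by
      intro k
      obtain ⟨G, hGG, hGF⟩ := exists_lift_idem p F hFF k
      have h1 : ∀ z ∈ I, ((p ^ (k + 1) : ℕ) : Λ) ∣ z * G := by
        intro z hz
        induction hz using Submodule.span_induction with
        | mem x h =>
          obtain ⟨a, ha, b, rfl⟩ := h
          have hcop : Nat.Coprime p (orderOf a) :=
            (Nat.Prime.coprime_iff_not_dvd hp).2 (fun h => hpA (h.trans (orderOf_dvd_natCard a)))
          exact dvd_norm_mul hcop (nm_mul_nm ℤ a) (hF a ha) hGF hGG (k + 1) le_rfl b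
        | zero => rw [zero_mul]; exact dvd_zero _
        | add u v _ _ hu hv => rw [add_mul]; exact dvd_add hu hv
        | smul c u _ hu =>
          rw [smul_eq_mul, mul_assoc]; exact cast_dvd_mul_left _ _ hu
      have h2 := h1 _ hn
      -- a coefficient of `G` prime to `p`
      have h3 : ∃ g : A, ¬ (p : ℤ) ∣ G.coeff g := by
        by_contra hcon
        push Not at hcon
        apply hF0
        have h4 : (p : Λ) ∣ G := by
          rw [← red_eq_zero_iff]
          ext g
          rw [MonoidAlgebra.coeff_mapRingHom]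
          simpa using (ZMod.intCast_zmod_eq_zero_iff_dvd _ _).2 (hcon g)
        have : F = G - (G - F) := by noncomm_ring
        rw [this]
        exact dvd_sub h4 hGF
      obtain ⟨g, hg⟩ := h3
      obtain ⟨c, hc⟩ := h2
      have h5 := congrArg (fun y : Λ => y.coeff g) hc
      rw [coeff_natCast_mul, coeff_natCast_mul] at h5
      have h6 : ((p ^ (k + 1) : ℕ) : ℤ) ∣ n * G.coeff g := ⟨_, h5⟩
      have hco : IsCoprime ((p ^ (k + 1) : ℕ) : ℤ) (G.coeff g) := by
        push_cast
        apply IsCoprime.pow_left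
        rw [Prime.coprime_iff_not_dvd (Nat.prime_iff_prime_int.1 hp)]
        exact hg
      have h7 := hco.dvd_of_dvd_mul_right h6
      exact_mod_cast h7
    have h8 := Nat.le_of_dvd (Nat.pos_of_ne_zero hn0) (hall n)
    have h9 : n + 1 < p ^ (n + 1) := Nat.lt_pow_self hp.one_lt
    omega
  have hchar : CharZero (Λ ⧸ I) := by
    refine charZero_of_inj_zero fun n hn => key n ?_
    rw [← Ideal.Quotient.eq_zero_iff_mem]
    exact_mod_cast hn
  refine of_ring (M := Λ ⧸ I) (((Ideal.Quotient.mk I : Λ →* Λ ⧸ I).comp (MonoidAlgebra.of ℤ A)).toHomUnits) ℓ ?_ ?_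
    (not_isUnit_of_charZero ℓ)
  · intro a ha
    exact hℓ (ha.trans (orderOf_dvd_natCard a))
  · intro a ha
    have : ∑ i ∈ Finset.range (orderOf a), (Ideal.Quotient.mk I (MonoidAlgebra.of ℤ A a)) ^ i
        = Ideal.Quotient.mk I (nm ℤ a) := by
      rw [nm, map_sum]
      exact Finset.sum_congr rfl fun i _ => (map_pow _ _ _).symm
    refine this.trans ?_
    rw [Ideal.Quotient.eq_zero_iff_mem]
    exact Ideal.subset_span ⟨a, ha, 1, (mul_one _).symm⟩

end Group

end Cfsg.Agent.Lib.FrobCharChange
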