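import Mathlib

set_option autoImplicit false

/-!
Frobenius' theorem on the number of solutions of `x ^ m = 1` (proof of Isaacs and Robinson type).

* `frobenius_dvd` : `m ∣ |G| → m ∣ #{x : x ^ m = 1}`
* `gcd_dvd_card` : `gcd m |G| ∣ #{x : x ^ m = 1}`
-/

namespace Cfsg.Agent.Lib.FrobDvd

open Subgroup

universe u

theorem dvd_card_of_fibers {α β : Type*} [Finite α] [Finite β] (f : α → β) (d : ℕ)
    (h : ∀ b : β, d ∣ Nat.card {a : α // f a = b}) : d ∣ Nat.card α := by
  classical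
  have := Fintype.ofFinite β
  rw [Nat.card_congr (Equiv.sigmaFiberEquiv f).symm, Nat.card_sigma]
  exact Finset.dvd_sum fun b _ => h b

theorem card_eq_mul_of_fibers {α β : Type*} [Finite α] [Finite β] (f : α → β) (d : ℕ)
    (h : ∀ b : β, Nat.card {a : α // f a = b} = d) : Nat.card α = Nat.card β * d := by
  classical
  have := Fintype.ofFinite β
  rw [Nat.card_congr (Equiv.sigmaFiberEquiv f).symm, Nat.card_sigma, Finset.sum_congr rfl (fun b _ => h b),
    Finset.sum_const, Finset.card_univ, smul_eq_mul, Nat.card_eq_fintype_card]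

theorem pow_eq_one_iff_gcd {G : Type*} [Group G] [Finite G] (m : ℕ) (x : G) :
    x ^ m = 1 ↔ x ^ (Nat.gcd m (Nat.card G)) = 1 := by
  rw [← orderOf_dvd_iff_pow_eq_one, ← orderOf_dvd_iff_pow_eq_one, Nat.dvd_gcd_iff]
  exact ⟨fun h => ⟨h, orderOf_dvd_natCard x⟩, fun h => h.1⟩

/-- class size = index of the centraliser -/
theorem card_class {G : Type*} [Group G] (u : G) :
    Nat.card (ConjClasses.mk u).carrier = (centralizer ({u} : Set G)).index := by
  symm
  let f : G ⧸ centralizer ({u} : Set G) → (ConjClasses.mk u).carrier :=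
    fun q => Quotient.liftOn' q (fun g => ⟨g * u * g⁻¹, by
      rw [ConjClasses.mem_carrier_iff_mk_eq, ConjClasses.mk_eq_mk_iff_isConj]
      exact (isConj_iff.2 ⟨g, rfl⟩).symm⟩) (by
      intro g h hgh
      rw [QuotientGroup.leftRel_apply, mem_centralizer_singleton_iff] at hgh
      apply Subtype.ext
      show g * u * g⁻¹ = h * u * h⁻¹
      calc g * u * g⁻¹ = g * (u * (g⁻¹ * h)) * h⁻¹ := by group
        _ = g * (g⁻¹ * h * u) * h⁻¹ := by rw [hgh]
        _ = h * u * h⁻¹ := by group)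
  refine Nat.card_congr (Equiv.ofBijective f ⟨?_, ?_⟩)
  · intro q₁ q₂
    refine Quotient.inductionOn₂' q₁ q₂ ?_
    intro g h hgh
    have h' : g * u * g⁻¹ = h * u * h⁻¹ := congrArg Subtype.val hgh
    apply Quotient.sound'
    rw [QuotientGroup.leftRel_apply, mem_centralizer_singleton_iff]
    calc g⁻¹ * h * u = g⁻¹ * (h * u * h⁻¹) * h := by group
      _ = g⁻¹ * (g * u * g⁻¹) * h := by rw [h']
      _ = u * (g⁻¹ * h) := by group
  · rintro ⟨w, hw⟩
    rw [ConjClasses.mem_carrier_iff_mk_eq, ConjClasses.mk_eq_mk_iff_isConj] at hw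
    obtain ⟨g, hg⟩ := isConj_iff.1 hw.symm
    exact ⟨Quotient.mk'' g, Subtype.ext hg⟩

/-- the number of generators of a cyclic group, in terms of `zpowers` -/
theorem card_zpowers_eq {G : Type*} [Group G] [Finite G] (x₀ : G) :
    Nat.card {x : G // zpowers x = zpowers x₀} = Nat.totient (orderOf x₀) := by
  classical
  have := Fintype.ofFinite G
  have := Fintype.ofFinite (zpowers x₀)
  have hc : Fintype.card (zpowers x₀) = orderOf x₀ := by
    rw [← Nat.card_eq_fintype_card, Nat.card_zpowers]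
  have h1 := IsCyclic.card_orderOf_eq_totient (α := zpowers x₀) (d := orderOf x₀) (by rw [hc])
  rw [← h1, ← Fintype.card_subtype, ← Nat.card_eq_fintype_card]
  refine Nat.card_congr
    { toFun := fun x => ⟨⟨x.1, (le_of_eq x.2) (mem_zpowers x.1)⟩, ?_⟩
      invFun := fun y => ⟨y.1.1, ?_⟩
      left_inv := fun x => rfl
      right_inv := fun y => rfl }
  · rw [Subgroup.orderOf_mk, ← Nat.card_zpowers, x.2, Nat.card_zpowers]
  · apply Subgroup.eq_of_le_of_card_ge (zpowers_le.2 y.1.2)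
    rw [Nat.card_zpowers, Nat.card_zpowers, Subgroup.orderOf_coe, y.2]

/-- the first divisibility -/
theorem dvd_one {G : Type*} [Group G] [Finite G] {p : ℕ} (hp : p.Prime) (a s : ℕ) :
    p ^ a ∣ Nat.card {x : G // x ^ (p ^ (a + 1) * s) = 1 ∧ x ^ (p ^ a * s) ≠ 1} := by
  classical
  by_cases hs : s = 0
  · subst hs
    have : IsEmpty {x : G // x ^ (p ^ (a + 1) * 0) = 1 ∧ x ^ (p ^ a * 0) ≠ 1} := by
      exact ⟨fun x => x.2.2 (by simp)⟩
    rw [Nat.card_of_isEmpty]
    exact dvd_zero _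
  refine dvd_card_of_fibers (fun x => zpowers x.1) _ ?_
  intro C
  by_cases hne : IsEmpty {a_1 : {x : G // x ^ (p ^ (a + 1) * s) = 1 ∧ x ^ (p ^ a * s) ≠ 1} // zpowers a_1.1 = C}
  · rw [Nat.card_of_isEmpty]; exact dvd_zero _
  rw [not_isEmpty_iff] at hne
  obtain ⟨⟨⟨x₀, h1, h2⟩, rfl⟩⟩ := hne
  have hiff : ∀ x : G, zpowers x = zpowers x₀ → (x ^ (p ^ (a + 1) * s) = 1 ∧ x ^ (p ^ a * s) ≠ 1) := by
    intro x hx
    have ho : orderOf x = orderOf x₀ := by rw [← Nat.card_zpowers, hx, Nat.card_zpowers]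
    rw [← orderOf_dvd_iff_pow_eq_one, Ne, ← orderOf_dvd_iff_pow_eq_one, ho, orderOf_dvd_iff_pow_eq_one,
      orderOf_dvd_iff_pow_eq_one]
    exact ⟨h1, h2⟩
  have e : {a_1 : {x : G // x ^ (p ^ (a + 1) * s) = 1 ∧ x ^ (p ^ a * s) ≠ 1} // zpowers a_1.1 = zpowers x₀} ≃
      {x : G // zpowers x = zpowers x₀} :=
    { toFun := fun x => ⟨x.1.1, x.2⟩
      invFun := fun x => ⟨⟨x.1, hiff x.1 x.2⟩, x.2⟩
      left_inv := fun x => rfl
      right_inv := fun x => rfl }
  have hcard : Nat.card {a_1 : {x : G // x ^ (p ^ (a + 1) * s) = 1 ∧ x ^ (p ^ a * s) ≠ 1} // zpowers a_1.1 = zpowers x₀} =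
      Nat.totient (orderOf x₀) := by
    rw [Nat.card_congr e, card_zpowers_eq]
  have hdvd : p ^ (a + 1) ∣ orderOf x₀ := by
    rw [← orderOf_dvd_iff_pow_eq_one] at h1
    rw [Ne, ← orderOf_dvd_iff_pow_eq_one] at h2
    by_contra hcon
    apply h2
    -- p-part of the order is at most a
    obtain ⟨k, m, hm, hk⟩ := Nat.exists_eq_pow_mul_and_not_dvd (n := orderOf x₀) (orderOf_pos x₀).ne' p hp.one_lt.ne'
    have hka : k ≤ a := by
      by_contra hlt
      apply hcon
      rw [hk]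
      exact Dvd.dvd.mul_right (pow_dvd_pow p (by omega)) m
    rw [hk] at h1 ⊢
    have h3 : m ∣ s := by
      have h4 : m ∣ p ^ (a + 1) * s := (dvd_mul_left m _).trans h1
      exact (Nat.Coprime.pow_right (a + 1) ((Nat.Prime.coprime_iff_not_dvd hp).2 hm).symm).dvd_of_dvd_mul_left h4
    exact mul_dvd_mul (pow_dvd_pow p hka) h3
  have h3 : p ^ a ∣ Nat.totient (p ^ (a + 1)) := by
    rw [Nat.totient_prime_pow_succ hp]
    exact dvd_mul_right _ _
  have h4 := h3.trans (Nat.totient_dvd_of_dvd hdvd)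
  rw [← hcard] at h4
  exact h4

/-- number of solutions of `v ^ s = 1` modulo a central subgroup of order coprime to `s` -/
theorem card_quotient {C : Type*} [Group C] [Finite C] (Z : Subgroup C) [Z.Normal] (hZ : Z ≤ center C) (s : ℕ)
    (hcop : (Nat.card Z).Coprime s) :
    Nat.card {v : C // v ^ s = 1} = Nat.card {q : C ⧸ Z // q ^ s = 1} := by
  let f : {v : C // v ^ s = 1} → {q : C ⧸ Z // q ^ s = 1} := fun v =>
    ⟨QuotientGroup.mk v.1, by rw [← QuotientGroup.mk_pow, v.2, QuotientGroup.mk_one]⟩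
  refine Nat.card_congr (Equiv.ofBijective f ⟨?_, ?_⟩)
  · rintro ⟨v, hv⟩ ⟨w, hw⟩ h
    have h1 : (QuotientGroup.mk v : C ⧸ Z) = QuotientGroup.mk w := congrArg Subtype.val h
    rw [QuotientGroup.eq] at h1
    have hc : Commute v (v⁻¹ * w) := Subgroup.mem_center_iff.1 (hZ h1) v
    have h2 : (v⁻¹ * w) ^ s = 1 := by
      have h3 : (v * (v⁻¹ * w)) ^ s = v ^ s * (v⁻¹ * w) ^ s := hc.mul_pow s
      rw [mul_inv_cancel_left, hw, hv, one_mul] at h3
      exact h3.symm
    have h4 : orderOf (v⁻¹ * w) ∣ 1 := by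
      rw [← hcop.gcd_eq_one]
      refine Nat.dvd_gcd ?_ (orderOf_dvd_of_pow_eq_one h2)
      have := orderOf_dvd_natCard (⟨_, h1⟩ : Z)
      rwa [Subgroup.orderOf_mk] at this
    have h5 := orderOf_eq_one_iff.1 (Nat.dvd_one.1 h4)
    exact Subtype.ext (inv_mul_eq_one.1 h5)
  · rintro ⟨q, hq⟩
    obtain ⟨v, rfl⟩ := QuotientGroup.mk_surjective q
    have h1 : v ^ s ∈ Z := by
      rw [← QuotientGroup.eq_one_iff, QuotientGroup.mk_pow]; exact hq
    obtain ⟨y, hy⟩ := (powCoprime hcop).surjective ⟨v ^ s, h1⟩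
    have hy' : (y : C) ^ s = v ^ s := by
      have := congrArg Subtype.val hy
      simpa using this
    have hc : Commute v ((y : C)⁻¹) := (show Commute v (y : C) from Subgroup.mem_center_iff.1 (hZ y.2) v).inv_right
    refine ⟨⟨v * (y : C)⁻¹, ?_⟩, ?_⟩
    · rw [hc.mul_pow, inv_pow, hy', mul_inv_cancel]
    · apply Subtype.ext
      show (QuotientGroup.mk (v * (y : C)⁻¹) : C ⧸ Z) = QuotientGroup.mk v
      rw [QuotientGroup.eq]
      have : (v * (y : C)⁻¹)⁻¹ * v = y := by group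
      rw [this]; exact y.2

/-- the second divisibility, by induction -/
theorem dvd_two {G : Type u} [Group G] [Finite G] {p : ℕ} (hp : p.Prime) (a s : ℕ) (hps : ¬ p ∣ s)
    (hs : s ∣ Nat.card G)
    (IH : ∀ (Q : Type u) [Group Q] [Finite Q], Nat.card Q < Nat.card G → ∀ m, m ∣ Nat.card Q →
      m ∣ Nat.card {x : Q // x ^ m = 1}) :
    s ∣ Nat.card {x : G // x ^ (p ^ (a + 1) * s) = 1 ∧ x ^ (p ^ a * s) ≠ 1} := by
  classical
  have hs0 : s ≠ 0 := by rintro rfl; exact hps (dvd_zero p)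
  have hcop : (p ^ (a + 1)).Coprime s := Nat.Coprime.pow_left _ ((Nat.Prime.coprime_iff_not_dvd hp).2 hps)
  obtain ⟨e, he1, he2⟩ := Nat.chineseRemainder hcop 1 0
  have hse : s ∣ e := (Nat.modEq_zero_iff_dvd).1 he2
  -- the class of the p-part
  have hmap : ∀ x : {x : G // x ^ (p ^ (a + 1) * s) = 1 ∧ x ^ (p ^ a * s) ≠ 1}, orderOf (x.1 ^ e) = p ^ (a + 1) := by
    rintro ⟨x, hx1, hx2⟩
    show orderOf (x ^ e) = _
    have h1 : (x ^ e) ^ p ^ (a + 1) = 1 := by
      obtain ⟨e', rfl⟩ := hse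
      rw [← pow_mul]
      have : s * e' * p ^ (a + 1) = (p ^ (a + 1) * s) * e' := by ring
      rw [this, pow_mul, hx1, one_pow]
    have h2 : ¬ (x ^ e) ^ p ^ a = 1 := by
      intro h
      apply hx2
      have h3 : p ^ a * s ≡ (e * p ^ a) * s [MOD p ^ (a + 1) * s] := by
        apply Nat.ModEq.mul_right'
        have := (he1.symm.mul_right (p ^ a))
        rw [one_mul] at this
        exact this
      have h4 : x ^ (p ^ a * s) = x ^ ((e * p ^ a) * s) :=
        pow_eq_pow_iff_modEq.2 (h3.of_dvd (orderOf_dvd_of_pow_eq_one hx1))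
      rw [h4, pow_mul, pow_mul, h, one_pow]
    have := Fact.mk hp
    exact orderOf_eq_prime_pow h2 h1
  refine dvd_card_of_fibers (fun x => ConjClasses.mk (x.1 ^ e)) _ ?_
  intro c
  obtain ⟨u, rfl⟩ := ConjClasses.exists_rep c
  by_cases hu : orderOf u = p ^ (a + 1)
  swap
  · have : IsEmpty {x : {x : G // x ^ (p ^ (a + 1) * s) = 1 ∧ x ^ (p ^ a * s) ≠ 1} //
        ConjClasses.mk (x.1 ^ e) = ConjClasses.mk u} := by
      refine ⟨fun x => hu ?_⟩
      have h1 := ConjClasses.mk_eq_mk_iff_isConj.1 x.2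
      obtain ⟨g, hg⟩ := isConj_iff.1 h1
      rw [← hg]
      exact (MulEquiv.orderOf_eq (MulAut.conj g) (x.1.1 ^ e)).trans (hmap x.1)
    rw [Nat.card_of_isEmpty]; exact dvd_zero _
  -- fibres over the elements of the class of u
  have hord : ∀ w : G, w ∈ (ConjClasses.mk u).carrier → orderOf w = p ^ (a + 1) := by
    intro w hw
    rw [ConjClasses.mem_carrier_iff_mk_eq] at hw
    obtain ⟨g, hg⟩ := isConj_iff.1 (ConjClasses.mk_eq_mk_iff_isConj.1 hw)
    rw [← hu, ← hg]
    exact (MulEquiv.orderOf_eq (MulAut.conj g) w).symm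
  let F : ℕ := Nat.card {v : centralizer ({u} : Set G) // v ^ s = 1}
  have hfib : ∀ w : (ConjClasses.mk u).carrier,
      Nat.card {x : {x : {x : G // x ^ (p ^ (a + 1) * s) = 1 ∧ x ^ (p ^ a * s) ≠ 1} //
        ConjClasses.mk (x.1 ^ e) = ConjClasses.mk u} //
        (⟨x.1.1 ^ e, by rw [ConjClasses.mem_carrier_iff_mk_eq]; exact x.2⟩ : (ConjClasses.mk u).carrier) = w} = F := by
    rintro ⟨w, hw⟩
    have hwo := hord w hw
    have hw' := hw
    rw [ConjClasses.mem_carrier_iff_mk_eq] at hw'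
    obtain ⟨g, hg⟩ := isConj_iff.1 (ConjClasses.mk_eq_mk_iff_isConj.1 hw')
    -- g w g⁻¹ = u
    have hwe : w ^ e = w := by
      have h3 : e ≡ 1 [MOD orderOf w] := by rw [hwo]; exact he1
      have := pow_eq_pow_iff_modEq.2 h3
      rwa [pow_one] at this
    refine Nat.card_congr
      { toFun := fun x => ⟨⟨g * (w⁻¹ * x.1.1.1) * g⁻¹, ?_⟩, ?_⟩
        invFun := fun v => ⟨⟨⟨w * (g⁻¹ * v.1.1 * g), ?_, ?_⟩, ?_⟩, ?_⟩
        left_inv := ?_
        right_inv := ?_ }
    · obtain ⟨⟨⟨x, hx1, hx2⟩, hx3⟩, hx4⟩ := x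
      have hx5 : x ^ e = w := congrArg Subtype.val hx4
      have hc : Commute x w := by rw [← hx5]; exact (Commute.refl x).pow_right e
      have hc' : w⁻¹ * x * w = x := by
        rw [mul_assoc, hc.eq]; group
      have h : g * (w⁻¹ * x) * g⁻¹ * (g * w * g⁻¹) = g * w * g⁻¹ * (g * (w⁻¹ * x) * g⁻¹) := by
        calc g * (w⁻¹ * x) * g⁻¹ * (g * w * g⁻¹) = g * (w⁻¹ * x * w) * g⁻¹ := by group
          _ = g * x * g⁻¹ := by rw [hc']
          _ = _ := by group
      rw [hg] at h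
      exact mem_centralizer_singleton_iff.2 h
    · obtain ⟨⟨⟨x, hx1, hx2⟩, hx3⟩, hx4⟩ := x
      have hx5 : x ^ e = w := congrArg Subtype.val hx4
      have hc : Commute x w := by rw [← hx5]; exact (Commute.refl x).pow_right e
      apply Subtype.ext
      show (g * (w⁻¹ * x) * g⁻¹) ^ s = 1
      rw [conj_pow]
      have h1 : (w⁻¹ * x) ^ s = 1 := by
        rw [(hc.symm.inv_left).mul_pow, inv_pow, inv_mul_eq_one, ← hx5, ← pow_mul]
        have h3 : e * s ≡ s [MOD p ^ (a + 1) * s] := by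
          have := Nat.ModEq.mul_right' s he1
          rwa [one_mul] at this
        exact pow_eq_pow_iff_modEq.2 (h3.of_dvd (orderOf_dvd_of_pow_eq_one hx1))
      rw [h1]; group
    · -- (w v')^(..)=1
      obtain ⟨⟨v, hv⟩, hvs⟩ := v
      have hvs' : v ^ s = 1 := congrArg Subtype.val hvs
      rw [mem_centralizer_singleton_iff, ← hg] at hv
      have hc : Commute w (g⁻¹ * v * g) := by
        have h1 : g⁻¹ * (v * (g * w * g⁻¹)) * g = g⁻¹ * (g * w * g⁻¹ * v) * g := by rw [hv]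
        show w * (g⁻¹ * v * g) = g⁻¹ * v * g * w
        calc w * (g⁻¹ * v * g) = g⁻¹ * (g * w * g⁻¹ * v) * g := by group
          _ = g⁻¹ * (v * (g * w * g⁻¹)) * g := by rw [hv]
          _ = _ := by group
      have h1 : (g⁻¹ * v * g) ^ s = 1 := by
        have := conj_pow (i := s) (a := g⁻¹) (b := v)
        rw [inv_inv] at this
        rw [this, hvs']; group
      show (w * (g⁻¹ * v * g)) ^ (p ^ (a + 1) * s) = 1
      rw [hc.mul_pow, pow_mul w, ← hwo, pow_orderOf_eq_one, one_pow, one_mul, mul_comm _ s, pow_mul, h1, one_pow]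
    · obtain ⟨⟨v, hv⟩, hvs⟩ := v
      have hvs' : v ^ s = 1 := congrArg Subtype.val hvs
      rw [mem_centralizer_singleton_iff, ← hg] at hv
      have hc : Commute w (g⁻¹ * v * g) := by
        show w * (g⁻¹ * v * g) = g⁻¹ * v * g * w
        calc w * (g⁻¹ * v * g) = g⁻¹ * (g * w * g⁻¹ * v) * g := by group
          _ = g⁻¹ * (v * (g * w * g⁻¹)) * g := by rw [hv]
          _ = _ := by group
      have h1 : (g⁻¹ * v * g) ^ s = 1 := by
        have := conj_pow (i := s) (a := g⁻¹) (b := v)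
        rw [inv_inv] at this
        rw [this, hvs']; group
      show (w * (g⁻¹ * v * g)) ^ (p ^ a * s) ≠ 1
      rw [hc.mul_pow, mul_comm (p ^ a) s, pow_mul (g⁻¹ * v * g), h1, one_pow, mul_one, Ne,
        ← orderOf_dvd_iff_pow_eq_one, hwo]
      intro hd
      have h2 : p ^ (a + 1) ∣ p ^ a := hcop.dvd_of_dvd_mul_left hd
      exact absurd (Nat.le_of_dvd (pow_pos hp.pos a) h2) (not_le_of_gt (Nat.pow_lt_pow_right hp.one_lt (Nat.lt_succ_self a)))
    · obtain ⟨⟨v, hv⟩, hvs⟩ := v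
      have hvs' : v ^ s = 1 := congrArg Subtype.val hvs
      rw [mem_centralizer_singleton_iff, ← hg] at hv
      have hc : Commute w (g⁻¹ * v * g) := by
        show w * (g⁻¹ * v * g) = g⁻¹ * v * g * w
        calc w * (g⁻¹ * v * g) = g⁻¹ * (g * w * g⁻¹ * v) * g := by group
          _ = g⁻¹ * (v * (g * w * g⁻¹)) * g := by rw [hv]
          _ = _ := by group
      have h1 : (g⁻¹ * v * g) ^ s = 1 := by
        have := conj_pow (i := s) (a := g⁻¹) (b := v)
        rw [inv_inv] at this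
        rw [this, hvs']; group
      show ConjClasses.mk ((w * (g⁻¹ * v * g)) ^ e) = ConjClasses.mk u
      obtain ⟨e', rfl⟩ := hse
      rw [hc.mul_pow, hwe, pow_mul (g⁻¹ * v * g), h1, one_pow, mul_one]
      exact hw'
    · obtain ⟨⟨v, hv⟩, hvs⟩ := v
      have hvs' : v ^ s = 1 := congrArg Subtype.val hvs
      rw [mem_centralizer_singleton_iff, ← hg] at hv
      have hc : Commute w (g⁻¹ * v * g) := by
        show w * (g⁻¹ * v * g) = g⁻¹ * v * g * w
        calc w * (g⁻¹ * v * g) = g⁻¹ * (g * w * g⁻¹ * v) * g := by group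
          _ = g⁻¹ * (v * (g * w * g⁻¹)) * g := by rw [hv]
          _ = _ := by group
      have h1 : (g⁻¹ * v * g) ^ s = 1 := by
        have := conj_pow (i := s) (a := g⁻¹) (b := v)
        rw [inv_inv] at this
        rw [this, hvs']; group
      apply Subtype.ext
      show (w * (g⁻¹ * v * g)) ^ e = w
      obtain ⟨e', rfl⟩ := hse
      rw [hc.mul_pow, hwe, pow_mul (g⁻¹ * v * g), h1, one_pow, mul_one]
    · intro x
      apply Subtype.ext
      apply Subtype.ext
      apply Subtype.ext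
      show w * (g⁻¹ * (g * (w⁻¹ * x.1.1.1) * g⁻¹) * g) = x.1.1.1
      group
    · intro v
      apply Subtype.ext
      apply Subtype.ext
      show g * (w⁻¹ * (w * (g⁻¹ * v.1.1 * g))) * g⁻¹ = v.1.1
      group
  have hcard := card_eq_mul_of_fibers (fun x : {x : {x : G // x ^ (p ^ (a + 1) * s) = 1 ∧ x ^ (p ^ a * s) ≠ 1} //
        ConjClasses.mk (x.1 ^ e) = ConjClasses.mk u} =>
        (⟨x.1.1 ^ e, by rw [ConjClasses.mem_carrier_iff_mk_eq]; exact x.2⟩ : (ConjClasses.mk u).carrier)) F hfib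
  rw [hcard]
  -- the class size
  have hclass : Nat.card (ConjClasses.mk u).carrier = (centralizer ({u} : Set G)).index := card_class u
  -- F is divisible by gcd(s, |C|)
  set C := centralizer ({u} : Set G) with hC
  have huC : u ∈ C := by rw [hC, mem_centralizer_singleton_iff]
  let u' : C := ⟨u, huC⟩
  have hZc : zpowers u' ≤ center C := by
    rw [zpowers_le, Subgroup.mem_center_iff]
    intro g
    apply Subtype.ext
    exact mem_centralizer_singleton_iff.1 g.2
  have hZn : (zpowers u').Normal := by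
    refine ⟨fun n hn g => ?_⟩
    have h1 := Subgroup.mem_center_iff.1 (hZc hn) g
    have h2 : g * n * g⁻¹ = n := by rw [h1]; group
    rw [h2]; exact hn
  have hZcard : Nat.card (zpowers u') = p ^ (a + 1) := by
    rw [Nat.card_zpowers, ← hu]; exact Subgroup.orderOf_mk u huC
  have hF : F = Nat.card {q : C ⧸ zpowers u' // q ^ s = 1} :=
    card_quotient (zpowers u') hZc s (by rw [hZcard]; exact hcop)
  have hCQ : Nat.card C = Nat.card (C ⧸ zpowers u') * p ^ (a + 1) := by
    rw [← hZcard]; exact Subgroup.card_eq_card_quotient_mul_card_subgroup _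
  have hlt : Nat.card (C ⧸ zpowers u') < Nat.card G := by
    have h1 : Nat.card C ≤ Nat.card G := Subgroup.card_le_card_group C
    have h2 : 0 < Nat.card (C ⧸ zpowers u') := Nat.card_pos
    have h3 : 1 < p ^ (a + 1) := Nat.one_lt_pow (Nat.succ_ne_zero a) hp.one_lt
    calc Nat.card (C ⧸ zpowers u') < Nat.card (C ⧸ zpowers u') * p ^ (a + 1) := lt_mul_of_one_lt_right h2 h3
      _ = Nat.card C := hCQ.symm
      _ ≤ Nat.card G := h1
  have h1 : Nat.gcd s (Nat.card (C ⧸ zpowers u')) ∣ F := by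
    rw [hF]
    have h2 := IH (C ⧸ zpowers u') hlt (Nat.gcd s (Nat.card (C ⧸ zpowers u'))) (Nat.gcd_dvd_right _ _)
    have h3 : Nat.card {q : C ⧸ zpowers u' // q ^ s = 1} =
        Nat.card {q : C ⧸ zpowers u' // q ^ Nat.gcd s (Nat.card (C ⧸ zpowers u')) = 1} :=
      Nat.card_congr (Equiv.subtypeEquivRight fun q => pow_eq_one_iff_gcd s q)
    rw [h3]; exact h2
  have h2 : Nat.gcd s (Nat.card C) ∣ Nat.gcd s (Nat.card (C ⧸ zpowers u')) := by
    apply Nat.dvd_gcd (Nat.gcd_dvd_left _ _)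
    have h3 : Nat.gcd s (Nat.card C) ∣ Nat.card (C ⧸ zpowers u') * p ^ (a + 1) := by
      rw [← hCQ]; exact Nat.gcd_dvd_right _ _
    exact (Nat.Coprime.coprime_dvd_left (Nat.gcd_dvd_left _ _) hcop.symm).dvd_of_dvd_mul_right h3
  have h3 : s ∣ C.index * Nat.gcd s (Nat.card C) := by
    rw [← Nat.gcd_mul_left]
    apply Nat.dvd_gcd (dvd_mul_left _ _)
    rw [Subgroup.index_mul_card]
    exact hs
  rw [hclass]
  exact h3.trans (mul_dvd_mul_left _ (h2.trans h1))

/-- splitting the solutions of `x ^ (m p) = 1` -/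
theorem card_split {G : Type*} [Group G] [Finite G] (m p : ℕ) :
    Nat.card {x : G // x ^ (m * p) = 1} =
      Nat.card {x : G // x ^ m = 1} + Nat.card {x : G // x ^ (m * p) = 1 ∧ x ^ m ≠ 1} := by
  classical
  have := Fintype.ofFinite G
  simp only [Nat.card_eq_fintype_card, Fintype.card_subtype]
  rw [← Finset.card_filter_add_card_filter_not (s := Finset.univ.filter fun x : G => x ^ (m * p) = 1)
    (fun x => x ^ m = 1), Finset.filter_filter, Finset.filter_filter]
  congr 2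
  ext x
  simp only [Finset.mem_filter, Finset.mem_univ, true_and]
  exact ⟨fun h => h.2, fun h => ⟨by rw [pow_mul, h, one_pow], h⟩⟩

/-- **Frobenius' theorem**. -/
theorem frobenius_dvd_aux (N : ℕ) : ∀ (G : Type u) [Group G] [Finite G], Nat.card G = N →
    ∀ m, m ∣ Nat.card G → m ∣ Nat.card {x : G // x ^ m = 1} := by
  induction N using Nat.strong_induction_on with
  | _ N IH =>
  intro G _ _ hG
  have IH' : ∀ (Q : Type u) [Group Q] [Finite Q], Nat.card Q < Nat.card G → ∀ m, m ∣ Nat.card Q →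
      m ∣ Nat.card {x : Q // x ^ m = 1} := by
    intro Q _ _ hQ m hm
    exact IH (Nat.card Q) (hG ▸ hQ) Q rfl m hm
  have inner : ∀ k m : ℕ, m * k = Nat.card G → m ∣ Nat.card {x : G // x ^ m = 1} := by
    intro k
    induction k using Nat.strong_induction_on with
    | _ k ihk =>
    intro m hmk
    by_cases hk : k = 1
    · subst hk
      rw [mul_one] at hmk
      have : Nat.card {x : G // x ^ m = 1} = Nat.card G :=
        Nat.card_congr (Equiv.subtypeUnivEquiv fun x => by rw [hmk]; exact pow_card_eq_one')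
      rw [this, hmk]
    obtain ⟨p, hp, k', rfl⟩ := Nat.exists_prime_and_dvd hk
    have hk'0 : 0 < k' := by
      rcases Nat.eq_zero_or_pos k' with h | h
      · rw [h, mul_zero, mul_zero] at hmk
        exact absurd hmk.symm Nat.card_pos.ne'
      · exact h
    have h1 := ihk k' (by
      calc k' < p * k' := lt_mul_of_one_lt_left hk'0 hp.one_lt
        _ = p * k' := rfl) (m * p) (by rw [mul_assoc]; exact hmk)
    have hm0 : m ≠ 0 := by
      rintro rfl
      rw [zero_mul] at hmk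
      exact absurd hmk.symm Nat.card_pos.ne'
    -- m = p^a s
    obtain ⟨a, s, hs, hms⟩ := Nat.exists_eq_pow_mul_and_not_dvd (n := m) hm0 p hp.one_lt.ne'
    have hmp : m * p = p ^ (a + 1) * s := by rw [hms, pow_succ]; ring
    have h2 : p ^ a ∣ Nat.card {x : G // x ^ (m * p) = 1 ∧ x ^ m ≠ 1} := by
      rw [hmp, hms]; exact dvd_one hp a s
    have h3 : s ∣ Nat.card {x : G // x ^ (m * p) = 1 ∧ x ^ m ≠ 1} := by
      rw [hmp]
      rw [hms]
      refine dvd_two hp a s hs ?_ IH'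
      rw [← hmk, hms]
      exact (dvd_mul_left s _).trans (dvd_mul_right _ _)
    have h4 : m ∣ Nat.card {x : G // x ^ (m * p) = 1 ∧ x ^ m ≠ 1} := by
      have hc : (p ^ a).Coprime s := Nat.Coprime.pow_left _ ((Nat.Prime.coprime_iff_not_dvd hp).2 hs)
      have := hc.mul_dvd_of_dvd_of_dvd h2 h3
      rw [← hms] at this
      exact this
    rw [card_split] at h1
    exact (Nat.dvd_add_left h4).1 ((dvd_mul_right m p).trans h1)
  intro m hm
  obtain ⟨k, hk⟩ := hm
  exact inner k m hk.symm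

theorem frobenius_dvd {G : Type*} [Group G] [Finite G] (m : ℕ) (hm : m ∣ Nat.card G) :
    m ∣ Nat.card {x : G // x ^ m = 1} :=
  frobenius_dvd_aux (Nat.card G) G rfl m hm

theorem gcd_dvd_card {G : Type*} [Group G] [Finite G] (m : ℕ) :
    Nat.gcd m (Nat.card G) ∣ Nat.card {x : G // x ^ m = 1} := by
  have h1 := frobenius_dvd (G := G) (Nat.gcd m (Nat.card G)) (Nat.gcd_dvd_right _ _)
  rw [Nat.card_congr (Equiv.subtypeEquivRight fun x : G => pow_eq_one_iff_gcd m x)]
  exact h1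

end Cfsg.Agent.Lib.FrobDvd
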