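import Cfsg.Agent.Lib.FrobAction2
import Cfsg.Agent.Lib.FrobThm
import Cfsg.Agent.Lib.FrobBasic

/-!
# Groups occurring as Frobenius complements

`Occurs A` says that `A` is isomorphic to a Frobenius complement of a finite group (in `Type`).
It is equivalent to the existence of a fixed-point-free action on a nontrivial finite abelian group.
-/

set_option autoImplicit false
open Cfsg

namespace Cfsg.Agent.Lib.FrobExist

open FrobAction

universe u v

/-- transport of Frobenius complements -/
theorem map_equiv {G G' : Type*} [Group G] [Group G'] (e : G ≃* G') (H : Subgroup G)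
    (hH : IsFrobeniusComplement H) : IsFrobeniusComplement (H.map e.toMonoidHom) := by
  rw [FrobBasic.isFrobeniusComplement_iff] at hH ⊢
  obtain ⟨h1, h2, h3⟩ := hH
  refine ⟨?_, ?_, ?_⟩
  · intro h
    exact h1 ((Subgroup.map_eq_bot_iff_of_injective H e.injective).1 h)
  · intro h
    apply h2
    rw [eq_top_iff]
    intro x _
    have : e x ∈ H.map e.toMonoidHom := by rw [h]; trivial
    obtain ⟨y, hy, hxy⟩ := this
    have : y = x := e.injective hxy
    rwa [← this]
  · intro g hg h hh hgh
    obtain ⟨x, hx, rfl⟩ := hh
    obtain ⟨y, rfl⟩ := e.surjective g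
    obtain ⟨z, hz, hxyz⟩ := hgh
    have hz' : z = y⁻¹ * x * y := by
      apply e.injective
      rw [map_mul, map_mul, map_inv]
      exact hxyz
    have hy : y ∉ H := fun h => hg ⟨y, h, rfl⟩
    have := h3 y hy x hx (hz' ▸ hz)
    rw [this]
    exact map_one e

/-- `A` is isomorphic to a Frobenius complement of a finite group. -/
def Occurs (A : Type*) [Group A] : Prop :=
  ∃ (L : Type) (_ : Group L) (_ : Finite L) (H : Subgroup L),
    IsFrobeniusComplement H ∧ Nonempty (A ≃* H)

theorem Occurs.of_equiv {A B : Type*} [Group A] [Group B] (e : A ≃* B) (h : Occurs B) : Occurs A := by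
  obtain ⟨L, _, _, H, hH, ⟨f⟩⟩ := h
  exact ⟨L, _, inferInstance, H, hH, ⟨e.trans f⟩⟩

theorem occurs_of_isFrobeniusComplement {G : Type u} [Group G] [Finite G] (H : Subgroup G)
    (hH : IsFrobeniusComplement H) : Occurs H := by
  have e : G ≃* Shrink.{0} G := (Shrink.mulEquiv.{0}).symm
  refine ⟨Shrink.{0} G, inferInstance, Finite.of_equiv G e.toEquiv, H.map e.toMonoidHom,
    map_equiv e H hH, ⟨H.equivMapOfInjective _ e.injective⟩⟩

theorem of_action {A : Type u} {V : Type v} [Group A] [Group V] [Finite A] [Finite V]
    [Nontrivial A] [Nontrivial V] (act : A →* MulAut V)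
    (hf : ∀ a : A, a ≠ 1 → ∀ v : V, act a v = v → v = 1) : Occurs A := by
  let L := SemidirectProduct V A act
  have hfin : Finite L := Finite.of_equiv (V × A) SemidirectProduct.equivProd.symm
  let K : Subgroup L := (SemidirectProduct.inl : V →* L).range
  let H : Subgroup L := (SemidirectProduct.inr : A →* L).range
  have hHF : IsFrobeniusComplement H := by
    rw [FrobBasic.isFrobeniusComplement_iff]
    refine ⟨?_, ?_, ?_⟩
    · intro h
      obtain ⟨a, ha⟩ := exists_ne (1 : A)
      have : (SemidirectProduct.inr a : L) ∈ H := ⟨a, rfl⟩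
      rw [h, Subgroup.mem_bot] at this
      apply ha
      exact SemidirectProduct.inr_injective (this.trans (map_one _).symm)
    · intro h
      obtain ⟨v, hv⟩ := exists_ne (1 : V)
      have : (SemidirectProduct.inl v : L) ∈ H := by rw [h]; trivial
      obtain ⟨a, ha⟩ := this
      apply hv
      have := congrArg SemidirectProduct.left ha
      simpa using this.symm
    · rintro g hg _ ⟨a, rfl⟩ ⟨b, hb⟩
      by_contra ha
      have ha1 : a ≠ 1 := by
        rintro rfl; exact ha (map_one _)
      -- inr a * g = g * inr b
      have h1 : (SemidirectProduct.inr a : L) * g = g * SemidirectProduct.inr b := by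
        rw [hb]; group
      have hl := congrArg SemidirectProduct.left h1
      have hl' : act a g.left = g.left := by
        rw [SemidirectProduct.mul_left, SemidirectProduct.mul_left, SemidirectProduct.left_inr,
          SemidirectProduct.left_inr, SemidirectProduct.right_inr, one_mul, map_one, mul_one] at hl
        exact hl
      have := hf a ha1 _ hl'
      apply hg
      refine ⟨g.right, ?_⟩
      ext
      · simp [this]
      · simp
  have h1 := occurs_of_isFrobeniusComplement H hHF
  exact h1.of_equiv (MonoidHom.ofInjective SemidirectProduct.inr_injective)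

theorem to_action {A : Type u} [Group A] (h : Occurs A) :
    ∃ (V : Type) (_ : CommGroup V) (_ : Finite V) (_ : Nontrivial V) (act : A →* MulAut V), IsFPF act := by
  obtain ⟨L, _, _, H, hH, ⟨e⟩⟩ := h
  obtain ⟨K, hK, hKn, hc⟩ := FrobThm.exists_kernel hH
  have hKb : K ≠ ⊥ := by
    rintro rfl
    apply hH.2.1
    have := hc.sup_eq_top
    rwa [bot_sup_eq] at this
  have hfpf := (FrobGroup.isFrobeniusComplement_iff hc hKb hH.1).1 hH
  obtain ⟨V, act, -, hV1, hVc, hact⟩ := FrobAction2.exists_fpf_action hc hKb hfpf
  have : CommGroup V := { (inferInstance : Group V) with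
    mul_comm := fun a b => Subtype.ext (hVc a a.2 b b.2) }
  refine ⟨V, { (inferInstance : Group V) with
    mul_comm := fun a b => Subtype.ext (hVc a a.2 b b.2) }, inferInstance,
    (Subgroup.nontrivial_iff_ne_bot V).2 hV1, act.comp e.toMonoidHom, ?_⟩
  intro a ha v hv
  exact hact (e a) (fun h => ha (e.injective (h.trans (map_one e).symm))) v hv

/-- the action on `Multiplicative V` -/
def toMulAut' (A : Type u) (V : Type v) [Group A] [AddGroup V] [DistribMulAction A V] :
    A →* MulAut (Multiplicative V) where
  toFun a :=
    { toFun := fun v => Multiplicative.ofAdd (a • v.toAdd)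
      invFun := fun v => Multiplicative.ofAdd (a⁻¹ • v.toAdd)
      left_inv := fun v => by simp
      right_inv := fun v => by simp
      map_mul' := fun v w => by
        change Multiplicative.ofAdd (a • (v.toAdd + w.toAdd)) = _
        rw [smul_add]; rfl }
  map_one' := by
    ext v
    simp
  map_mul' a b := by
    ext v
    simp [mul_smul]

theorem of_distribMulAction (A : Type u) (V : Type v) [Group A] [AddGroup V] [DistribMulAction A V]
    [Finite A] [Finite V] [Nontrivial A] [Nontrivial V]
    (hf : ∀ a : A, a ≠ 1 → ∀ v : V, a • v = v → v = 0) : Occurs A := by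
  apply of_action (V := Multiplicative V)
    (toMulAut' A V)
  intro a ha v hv
  exact hf a ha v.toAdd hv

/-- Existence from a homomorphism to a group acting additively on `V`. -/
theorem of_hom {A : Type u} {V : Type v} {U : Type*} [Group A] [AddGroup V] [Group U]
    [DistribMulAction U V] [Finite A] [Finite V] [Nontrivial A] [Nontrivial V] (f : A →* U)
    (hf : ∀ a : A, a ≠ 1 → ∀ v : V, f a • v = v → v = 0) : Occurs A := by
  apply of_action (V := Multiplicative V) ((toMulAut' U V).comp f)
  intro a ha v hv
  exact hf a ha v.toAdd hv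

theorem Occurs.nontrivial {A : Type u} [Group A] (h : Occurs A) : Nontrivial A := by
  obtain ⟨L, _, _, H, hH, ⟨e⟩⟩ := h
  have := (Subgroup.nontrivial_iff_ne_bot H).2 hH.1
  exact e.toEquiv.nontrivial

theorem Occurs.finite {A : Type u} [Group A] (h : Occurs A) : Finite A := by
  obtain ⟨L, _, _, H, hH, ⟨e⟩⟩ := h
  exact Finite.of_equiv H e.symm.toEquiv

/-- nontrivial subgroups (up to injective homomorphisms) -/
theorem Occurs.of_injective {A : Type u} {B : Type v} [Group A] [Group B] [Nontrivial A]
    (h : Occurs B) (f : A →* B) (hf : Function.Injective f) : Occurs A := by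
  have := h.finite
  have : Finite A := Finite.of_injective f hf
  obtain ⟨V, _, _, _, act, hact⟩ := to_action h
  exact of_action (act.comp f) (fun a ha v hv => hact (f a) (fun h => ha (hf (h.trans (map_one f).symm))) v hv)

end Cfsg.Agent.Lib.FrobExist
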