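import Cfsg.Agent.Lib.FrobStruct2

/-!
# Structure of non-solvable Frobenius complements
-/

set_option autoImplicit false
set_option linter.unusedSimpArgs false
open Cfsg Subgroup

namespace Cfsg.Agent.Lib.FrobFinal

open FrobExist FrobAction FrobAction3 ZasGroup FrobSolv ZasQuat FrobStruct

/-- **Zassenhaus' structure theorem** for non-solvable Frobenius complements. -/
theorem structure_thm {G : Type*} [Group G] (h : Occurs G) (hns : ¬ Group.IsSolvable G) :
    Nonempty (N3 G ≃* Matrix.SpecialLinearGroup (Fin 2) (ZMod 5)) ∧ Nat.card (N3 G) = 120 ∧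
      ((N3 G ⊔ K0 G).index = 1 ∨ (N3 G ⊔ K0 G).index = 2) ∧
      ∃ M : Subgroup G, M.Normal ∧ M ≤ K0 G ∧ N3 G ⊔ M = N3 G ⊔ K0 G ∧ N3 G ⊓ M = ⊥ ∧ IsZGroup M ∧
      (Nat.card M).Coprime 30 ∧ ∀ x ∈ K0 G, ¬ 2 ∣ orderOf x → x ∈ M := by
  have hfin := h.finite
  obtain ⟨V, _, _, _, act, hf⟩ := to_action h
  obtain ⟨S, _, _, ρ, hZ⟩ := FrobZas.exists_zcfg h
  by_cases hno : ∀ a c : G, orderOf a = 3 → orderOf c = 3 → tt ρ a c * tt ρ a c ≠ 5
  · exact absurd (solvable_of_no_pair hf hZ hno) hns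
  · push Not at hno
    obtain ⟨a, c, ha, hc, hac⟩ := hno
    obtain ⟨h1, h2⟩ := hZ.main_pair ha hc hac
    exact ⟨h1, h2, FrobStruct.index_le_two hZ ha hc hac, FrobStruct.structure_thm hZ hf ha hc hac⟩

/-- perfect Frobenius complements -/
theorem perfect {G : Type*} [Group G] (h : Occurs G) (hp : commutator G = ⊤) :
    Nonempty (G ≃* Matrix.SpecialLinearGroup (Fin 2) (ZMod 5)) := by
  have hfin := h.finite
  have hnt := h.nontrivial
  have hq : ∀ (Q : Type _) [Group Q] [Finite Q] (f : G →* Q), Function.Surjective f → Group.IsSolvable Q →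
      ∀ x : Q, x = 1 := by
    intro Q _ _ f hf hs
    by_contra hcon
    push Not at hcon
    obtain ⟨x, hx⟩ := hcon
    have hQnt : Nontrivial Q := ⟨⟨x, 1, hx⟩⟩
    have h1 : commutator Q = ⊤ := by
      rw [commutator_def, ← Subgroup.map_top_of_surjective f hf, ← Subgroup.map_commutator, ← commutator_def, hp]
    have h2 : ∀ n, derivedSeries Q n = ⊤ := by
      intro n
      induction n with
      | zero => rfl
      | succ n ih => rw [derivedSeries_succ, ih]; exact h1
    obtain ⟨n, hn⟩ := hs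
    rw [h2 n] at hn
    exact top_ne_bot hn
  have hns : ¬ Group.IsSolvable G := by
    intro hs
    obtain ⟨x, hx⟩ := exists_ne (1 : G)
    exact hx (hq G (MonoidHom.id G) Function.surjective_id hs x)
  obtain ⟨⟨e⟩, -, hidx, M, hMn, hMK, hsup, hinf, hZ, -, -⟩ := structure_thm h hns
  -- the index is one
  have hnorm : (N3 G ⊔ M).Normal := inferInstance
  have htop : N3 G ⊔ M = ⊤ := by
    rw [← hsup] at hidx
    rcases hidx with h1 | h2
    · exact index_eq_one.1 h1
    · rw [eq_top_iff]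
      intro x _
      have hs : Group.IsSolvable (G ⧸ (N3 G ⊔ M)) := by
        have : Fact (Nat.Prime 2) := ⟨Nat.prime_two⟩
        have hcyc : IsCyclic (G ⧸ (N3 G ⊔ M)) := isCyclic_of_prime_card (p := 2) h2
        exact Group.isSolvable_of_comm (fun a b => hcyc.commGroup.mul_comm a b)
      exact (QuotientGroup.eq_one_iff x).1 (hq _ (QuotientGroup.mk' (N3 G ⊔ M)) (QuotientGroup.mk'_surjective _) hs x)
  have hN : N3 G = ⊤ := by
    rw [eq_top_iff]
    intro x _
    have hs : Group.IsSolvable (G ⧸ N3 G) := by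
      have hM : Group.IsSolvable M := inferInstance
      refine Group.isSolvable_of_surjective (f := (QuotientGroup.mk' (N3 G)).comp M.subtype) ?_
      intro y
      obtain ⟨y, rfl⟩ := QuotientGroup.mk'_surjective (N3 G) y
      have hy : y ∈ N3 G ⊔ M := by rw [htop]; trivial
      obtain ⟨n, hn, m, hm, rfl⟩ := (Subgroup.mem_sup_of_normal_left).mp hy
      refine ⟨⟨m, hm⟩, ?_⟩
      change QuotientGroup.mk' (N3 G) m = _
      rw [map_mul, (QuotientGroup.eq_one_iff n).2 hn |> fun h => (show QuotientGroup.mk' (N3 G) n = 1 from h), one_mul]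
    exact (QuotientGroup.eq_one_iff x).1 (hq _ (QuotientGroup.mk' (N3 G)) (QuotientGroup.mk'_surjective _) hs x)
  have e1 : G ≃* (⊤ : Subgroup G) := topEquiv.symm
  have e2 : (⊤ : Subgroup G) ≃* N3 G := MulEquiv.subgroupCongr hN.symm
  exact ⟨(e1.trans e2).trans e⟩

end Cfsg.Agent.Lib.FrobFinal
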