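import Cfsg.Agent.Lib.FrobExist

/-!
# Fixed-point-free actions on elementary abelian groups of prescribed characteristic

`OccursP q A`: the group `A` acts fixed-point-freely on a nontrivial finite `ZMod q`-module.
`of_ring`: criterion from a homomorphism `A →* Mˣ`, `M` a ring finitely generated over `ℤ`.
`charChange`: if `A` occurs as a Frobenius complement then `OccursP ℓ A` for every prime `ℓ ∤ |A|`.
-/

set_option autoImplicit false
open Cfsg

namespace Cfsg.Agent.Lib.FrobLattice

open FrobExist FrobAction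

universe u v

/-- `A` acts fixed-point-freely on a nontrivial finite `ZMod q`-module. -/
def OccursP (q : ℕ) (A : Type u) [Group A] : Prop :=
  ∃ (V : Type) (_ : AddCommGroup V) (_ : Module (ZMod q) V) (_ : Finite V) (_ : Nontrivial V)
    (ρ : A →* (V →ₗ[ZMod q] V)), ∀ a : A, a ≠ 1 → ∀ v : V, ρ a v = v → v = 0

theorem OccursP.occurs {q : ℕ} {A : Type u} [Group A] [Finite A] [Nontrivial A] (h : OccursP q A) :
    Occurs A := by
  obtain ⟨V, _, _, _, _, ρ, h⟩ := h
  exact of_hom (U := (V →ₗ[ZMod q] V)ˣ) ρ.toHomUnits (fun a ha v hv => h a ha v hv)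

/-- from an action on an abelian group of exponent `q` -/
theorem of_addAction {A : Type u} [Group A] {V : Type v} [AddCommGroup V] [Finite V] [Nontrivial V]
    (q : ℕ) (hqV : ∀ v : V, q • v = 0) (f : A →* AddMonoid.End V)
    (key : ∀ a : A, a ≠ 1 → ∀ v : V, f a v = v → v = 0) : OccursP q A := by
  obtain ⟨W, iW, ⟨e⟩⟩ : ∃ (W : Type) (_ : AddCommGroup W), Nonempty (V ≃+ W) :=
    ⟨Shrink.{0} V, inferInstance, ⟨(Shrink.addEquiv.{0} (α := V)).symm⟩⟩
  have hqS : ∀ v : W, q • v = 0 := by
    intro v
    obtain ⟨w, rfl⟩ := e.surjective v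
    rw [← map_nsmul, hqV, map_zero]
  obtain ⟨mS⟩ : Nonempty (Module (ZMod q) W) := ⟨AddCommGroup.zmodModule hqS⟩
  let φ : A →* Module.End (ZMod q) W :=
    { toFun := fun a => AddMonoidHom.toZModLinearMap q
        ((e.toAddMonoidHom.comp (f a)).comp e.symm.toAddMonoidHom)
      map_one' := by
        refine LinearMap.ext fun v => ?_
        rw [Module.End.one_apply, AddMonoidHom.coe_toZModLinearMap]
        change e (f 1 (e.symm v)) = v
        rw [map_one, AddMonoid.End.coe_one, id, AddEquiv.apply_symm_apply]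
      map_mul' := by
        intro a b
        refine LinearMap.ext fun v => ?_
        rw [Module.End.mul_apply, AddMonoidHom.coe_toZModLinearMap, AddMonoidHom.coe_toZModLinearMap,
          AddMonoidHom.coe_toZModLinearMap]
        change e (f (a * b) (e.symm v)) = e (f a (e.symm (e (f b (e.symm v)))))
        rw [map_mul, AddMonoid.End.coe_mul, Function.comp_apply, AddEquiv.symm_apply_apply] }
  refine ⟨W, inferInstance, mS, Finite.of_equiv V e.toEquiv, e.symm.toEquiv.nontrivial, φ, ?_⟩
  intro a ha v hv
  have hv' : e (f a (e.symm v)) = v := hv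
  have : e.symm v = 0 := key a ha _ (e.injective (by rw [hv', e.apply_symm_apply]))
  rwa [map_eq_zero_iff _ e.symm.injective] at this

/-- The criterion with rings finitely generated over `ℤ`. -/
theorem of_ring {A : Type u} [Group A] {M : Type v} [Ring M] [Module.Finite ℤ M]
    (f : A →* Mˣ) (q : ℕ) [hqp : Fact q.Prime] (hq : ∀ a : A, ¬ q ∣ orderOf a)
    (hN : ∀ a : A, a ≠ 1 → ∑ i ∈ Finset.range (orderOf a), ((f a : M)) ^ i = 0)
    (hu : ¬ IsUnit (q : M)) : OccursP q A := by
  -- the quotient module
  let I : Ideal M := Ideal.span {(q : M)}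
  let V := M ⧸ I
  have hqV : ∀ v : V, q • v = 0 := by
    intro v
    obtain ⟨m, rfl⟩ := Submodule.Quotient.mk_surjective I v
    rw [← Submodule.Quotient.mk_smul, Submodule.Quotient.mk_eq_zero, nsmul_eq_mul,
      (Nat.cast_commute q m).eq]
    exact Ideal.mul_mem_left _ _ (Ideal.subset_span rfl)
  have : Module (ZMod q) V := AddCommGroup.zmodModule hqV
  have hfinV : Finite V := by
    have : Module.Finite ℤ V := Module.Finite.quotient ℤ I
    have : Module.Finite (ZMod q) V := by
      obtain ⟨s, hs⟩ := this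
      refine ⟨s, ?_⟩
      rw [eq_top_iff]
      intro x _
      have hx : x ∈ Submodule.span ℤ (s : Set V) := by rw [hs]; trivial
      induction hx using Submodule.span_induction with
      | mem x h => exact Submodule.subset_span h
      | zero => exact zero_mem _
      | add x y _ _ hx hy => exact add_mem (hx trivial) (hy trivial)
      | smul a x _ hx => exact zsmul_mem (hx trivial) _
    exact Module.finite_of_finite (ZMod q)
  have hnt : Nontrivial V := by
    rw [Submodule.Quotient.nontrivial_iff]
    intro h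
    have h1 : (1 : M) ∈ I := by rw [h]; trivial
    obtain ⟨m, hm⟩ := Ideal.mem_span_singleton'.1 h1
    apply hu
    exact ⟨⟨q, m, by rw [(Nat.cast_commute q m).eq]; exact hm, hm⟩, rfl⟩
  have key : ∀ a : A, a ≠ 1 → ∀ v : V, (f a : M) • v = v → v = 0 := by
    intro a ha v hv
    have h1 : ∀ i : ℕ, ((f a : M)) ^ i • v = v := by
      intro i
      induction i with
      | zero => simp
      | succ i ih => rw [pow_succ, mul_smul, hv, ih]
    have h2 : (orderOf a) • v = 0 := by
      have : (∑ i ∈ Finset.range (orderOf a), ((f a : M)) ^ i) • v = 0 := by rw [hN a ha, zero_smul]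
      rw [Finset.sum_smul, Finset.sum_congr rfl (fun i _ => h1 i), Finset.sum_const, Finset.card_range] at this
      exact this
    have hc : Nat.Coprime (orderOf a) q := (Nat.Prime.coprime_iff_not_dvd hqp.out).2 (hq a) |>.symm
    have h3 : addOrderOf v ∣ Nat.gcd (orderOf a) q :=
      Nat.dvd_gcd (addOrderOf_dvd_of_nsmul_eq_zero h2) (addOrderOf_dvd_of_nsmul_eq_zero (hqV v))
    rw [hc] at h3
    rwa [Nat.dvd_one, AddMonoid.addOrderOf_eq_one_iff] at h3
  exact of_addAction q hqV ((Module.toAddMonoidEnd M V).toMonoidHom.comp ((Units.coeHom M).comp f)) key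
/-- A prime `q` is not invertible in a ring which is finitely generated over `ℤ` and of characteristic zero. -/
theorem not_isUnit_of_charZero {M : Type v} [Ring M] [Module.Finite ℤ M] [CharZero M]
    (q : ℕ) [hqp : Fact q.Prime] : ¬ IsUnit (q : M) := by
  intro hu
  have h1 : (⊤ : Submodule ℤ M) ≤ (Ideal.span {(q : ℤ)} : Ideal ℤ) • (⊤ : Submodule ℤ M) := by
    intro x _
    obtain ⟨u, hu⟩ := hu
    have : x = (q : ℤ) • ((↑u⁻¹ : M) * x) := by
      rw [zsmul_eq_mul, ← mul_assoc, Int.cast_natCast, ← hu, Units.mul_inv, one_mul]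
    rw [this]
    exact Submodule.smul_mem_smul (Ideal.subset_span rfl) trivial
  obtain ⟨r, hr1, hr2⟩ := Submodule.exists_sub_one_mem_and_smul_eq_zero_of_fg_of_le_smul _ _
    (Module.Finite.fg_top (R := ℤ) (M := M)) h1
  have h2 := hr2 1 trivial
  rw [zsmul_eq_mul, mul_one, Int.cast_eq_zero] at h2
  subst h2
  rw [Ideal.mem_span_singleton] at hr1
  have : (q : ℤ) ∣ 1 := by simpa using hr1
  have := Int.isUnit_iff.1 (isUnit_of_dvd_one this)
  have := hqp.out.two_le
  omega

end Cfsg.Agent.Lib.FrobLattice
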