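import Cfsg.Agent.Lib.FrobSolv

/-!
# Non-solvable groups acting fixed-point-freely contain a pair with inner product of square 5
-/

set_option autoImplicit false
set_option linter.unusedSimpArgs false
open Cfsg Subgroup

namespace Cfsg.Agent.Lib.FrobSolv

open FrobExist FrobAction FrobAction3 ZasGroup

section pair

variable {G V : Type*} [Group G] [CommGroup V] [Finite G] [Finite V] [Nontrivial V] {act : G →* MulAut V}
  {R : Type*} [Ring R] [Nontrivial R] {ρ : G →* R}

theorem three_dvd_exists (K : Subgroup G) (h : 3 ∣ Nat.card K) : ∃ e ∈ K, orderOf e = 3 := by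
  have : Fact (Nat.Prime 3) := ⟨Nat.prime_three⟩
  obtain ⟨e, he⟩ := exists_prime_orderOf_dvd_card' 3 h
  exact ⟨e, e.2, by rw [← he]; exact (Subgroup.orderOf_coe e)⟩

/-- solvable if there is no pair -/
theorem solvable_of_no_pair (hf : IsFPF act) (h : ZCfg ρ)
    (hno : ∀ a c : G, orderOf a = 3 → orderOf c = 3 → tt ρ a c * tt ρ a c ≠ 5) : Group.IsSolvable G := by
  classical
  have hch : CharZero R := h.tf.charZero
  have f3 : Fact (Nat.Prime 3) := ⟨Nat.prime_three⟩
  by_cases h3 : 3 ∣ Nat.card G
  swap
  · exact solvable_of_not_three_dvd hf h3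
  obtain ⟨a, ha⟩ := exists_prime_orderOf_dvd_card' (G := G) 3 h3
  by_cases hone : ∀ e : G, orderOf e = 3 → e = a ∨ e = a⁻¹
  · -- only one subgroup of order three
    have hK1 : K1 G = ⊤ := by
      rw [eq_top_iff]
      intro g _ e he
      rcases hone e he with h1 | h1 <;> rcases hone (g * e * g⁻¹) (order_conj he g) with h2 | h2
      · left; rw [h2, ← h1]
      · right; rw [h2, ← h1]
      · right; rw [h2, h1, inv_inv]
      · left; rw [h2, ← h1]
    have haK : a ∈ K0 G := by
      rw [mem_K0]
      intro e he
      rcases hone e he with h1 | h1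
      · rw [h1]
      · rw [h1]; simp
    have s0 : Group.IsSolvable (K0 G) := by
      apply solvable_of_central_three (hf.comp (K0 G).subtype (K0 G).subtype_injective) (a := (⟨a, haK⟩ : K0 G))
      · rw [← ha]; exact (Subgroup.orderOf_coe (⟨a, haK⟩ : K0 G)).symm
      · rw [mem_center_iff]
        intro g
        apply Subtype.ext
        exact mem_K0.1 g.2 a ha
    have s1 := solvable_K1 s0
    rw [hK1] at s1
    exact Group.isSolvable_of_isSolvable_injective (f := (topEquiv (G := G)).symm.toMonoidHom)
      (topEquiv (G := G)).symm.injective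
  · push Not at hone
    obtain ⟨b, hb, hb1, hb2⟩ := hone
    -- a pair with inner product -1
    obtain ⟨c, hc, hac⟩ : ∃ c : G, orderOf c = 3 ∧ tt ρ a c = -1 := by
      rcases (h.rel ha hb).2 with h1 | h1 | h1 | h1 | h1
      · exact absurd (h.hat_inj h1).symm hb1
      · rw [← h.hat_inv hb] at h1
        exact absurd (by rw [h.hat_inj h1, inv_inv]) hb2
      · exact ⟨b⁻¹, order_inv hb, by rw [h.tt_inv_right ha hb, h1]⟩
      · exact ⟨b, hb, h1⟩
      · exact absurd h1 (hno a b ha hb)
    have s0 : Group.IsSolvable (K0 G) := by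
      apply solvable_of_not_three_dvd (hf.comp (K0 G).subtype (K0 G).subtype_injective)
      intro h3
      obtain ⟨e, heK, he⟩ := three_dvd_exists (K0 G) h3
      rw [mem_K0] at heK
      have e1 := eq_or_inv_of_zpowers ha he (mem_zpowers_of_commute hf (show Commute a e from (heK a ha).symm) ha he)
      have e2 := eq_or_inv_of_zpowers hc he (mem_zpowers_of_commute hf (show Commute c e from (heK c hc).symm) hc he)
      have hs := h.tt_self he
      rcases e1 with e1 | e1 <;> rcases e2 with e2 | e2
      · rw [e1, e2, hs] at hac; norm_num at hac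
      · rw [e1, e2, h.tt_inv_right he he, hs] at hac; norm_num at hac
      · rw [e1, e2, h.tt_inv_left he he, hs] at hac; norm_num at hac
      · rw [e1, e2, h.tt_inv_left he (order_inv he), h.tt_inv_right he he, hs] at hac; norm_num at hac
    apply solvable_of_four (solvable_K1 s0)
      ({zpowers a, zpowers c, zpowers (a⁻¹ * c * a), zpowers (a * c * a⁻¹)} : Finset (Subgroup G))
    · exact Finset.card_le_four
    · intro b hb
      obtain ⟨e, he, hbe⟩ := h.list_of_no_pair hno ha hc hb hac
      have : zpowers b = zpowers e := by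
        rcases hbe with h1 | h1
        · rw [h1]
        · rw [h1, zpowers_inv]
      rw [this]
      simp only [Finset.mem_insert, Finset.mem_singleton]
      rcases he with h1 | h1 | h1 | h1
      · left; rw [h1]
      · right; left; rw [h1]
      · right; right; left; rw [h1]
      · right; right; right; rw [h1]

end pair

/-- **A non-solvable Frobenius complement contains a characteristic `SL(2,5)`.** -/
theorem main {G : Type*} [Group G] (h : Occurs G) (hns : ¬ Group.IsSolvable G) :
    Nonempty ((Subgroup.closure {g : G | orderOf g = 3} : Subgroup G) ≃* Matrix.SpecialLinearGroup (Fin 2) (ZMod 5)) ∧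
      Nat.card (Subgroup.closure {g : G | orderOf g = 3} : Subgroup G) = 120 := by
  have hfin := h.finite
  obtain ⟨V, _, _, _, act, hf⟩ := to_action h
  obtain ⟨S, _, _, ρ, hZ⟩ := FrobZas.exists_zcfg h
  by_cases hno : ∀ a c : G, orderOf a = 3 → orderOf c = 3 → tt ρ a c * tt ρ a c ≠ 5
  · exact absurd (solvable_of_no_pair hf hZ hno) hns
  · push Not at hno
    obtain ⟨a, c, ha, hc, hac⟩ := hno
    exact hZ.main_pair ha hc hac

end Cfsg.Agent.Lib.FrobSolv
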