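import Mathlib

/-!
# Quaternion units in a ring

`Quat i j`: `i² = j² = -1`, `ji = -ij`.  `mk i j a b c d = a + b i + c j + d (i j)`, multiplication rule and
independence for coefficients commuting with `i` and `j` in a torsion-free ring.
-/

set_option autoImplicit false
set_option linter.unusedSimpArgs false

namespace Cfsg.Agent.Lib.ZasQuat

variable {R : Type*} [Ring R]

/-- torsion-free nontrivial ring -/
def TF (R : Type*) [Ring R] : Prop := ∀ n : ℕ, n ≠ 0 → ∀ x : R, n • x = 0 → x = 0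

theorem TF.two (h : TF R) {x : R} (hx : x + x = 0) : x = 0 :=
  h 2 (by norm_num) x (by rw [two_nsmul]; exact hx)

theorem TF.four (h : TF R) {x : R} (hx : 4 * x = 0) : x = 0 :=
  h 4 (by norm_num) x (by rw [nsmul_eq_mul]; exact_mod_cast hx)

theorem TF.nat (h : TF R) {n : ℕ} (hn : n ≠ 0) {x : R} (hx : (n : R) * x = 0) : x = 0 :=
  h n hn x (by rw [nsmul_eq_mul]; exact hx)

theorem TF.charZero [Nontrivial R] (h : TF R) : CharZero R :=
  charZero_of_inj_zero fun n hn => by
    by_contra h0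
    exact one_ne_zero (h n h0 (1 : R) (by rw [nsmul_one]; exact hn))

theorem TF.cancel (h : TF R) {n : ℕ} (hn : n ≠ 0) {x y : R} (hx : (n : R) * x = (n : R) * y) : x = y :=
  sub_eq_zero.1 (h.nat hn (by rw [mul_sub, hx, sub_self]))

/-- quaternion units -/
structure Quat (i j : R) : Prop where
  ii : i * i = -1
  jj : j * j = -1
  ji : j * i = -(i * j)

/-- commuting with `i` and `j` -/
def Cen (i j x : R) : Prop := i * x = x * i ∧ j * x = x * j

/-- `a + b i + c j + d k` -/
def mk (i j a b c d : R) : R := a + b * i + c * j + d * (i * j)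

theorem Cen.add {i j x y : R} (hx : Cen i j x) (hy : Cen i j y) : Cen i j (x + y) :=
  ⟨by rw [mul_add, add_mul, hx.1, hy.1], by rw [mul_add, add_mul, hx.2, hy.2]⟩

theorem Cen.neg {i j x : R} (hx : Cen i j x) : Cen i j (-x) :=
  ⟨by rw [mul_neg, neg_mul, hx.1], by rw [mul_neg, neg_mul, hx.2]⟩

theorem Cen.sub {i j x y : R} (hx : Cen i j x) (hy : Cen i j y) : Cen i j (x - y) :=
  ⟨by rw [mul_sub, sub_mul, hx.1, hy.1], by rw [mul_sub, sub_mul, hx.2, hy.2]⟩

theorem Cen.mul {i j x y : R} (hx : Cen i j x) (hy : Cen i j y) : Cen i j (x * y) :=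
  ⟨by rw [← mul_assoc, hx.1, mul_assoc, hy.1, mul_assoc], by rw [← mul_assoc, hx.2, mul_assoc, hy.2, mul_assoc]⟩

theorem Cen.zero {i j : R} : Cen i j 0 := ⟨by simp, by simp⟩

theorem Cen.one {i j : R} : Cen i j 1 := ⟨by simp, by simp⟩

theorem Cen.nat {i j : R} (n : ℕ) : Cen i j (n : R) :=
  ⟨(Nat.cast_commute n i).eq.symm, (Nat.cast_commute n j).eq.symm⟩

theorem Cen.ofNat {i j : R} (n : ℕ) [n.AtLeastTwo] : Cen i j (OfNat.ofNat n : R) := by
  have := Cen.nat (i := i) (j := j) n
  exact this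

theorem Cen.of_nat_mul (h : TF R) {i j x : R} {n : ℕ} (hn : n ≠ 0) (hx : Cen i j ((n : R) * x)) : Cen i j x := by
  constructor
  · apply h.cancel hn
    have := hx.1
    rw [← mul_assoc, ← (Nat.cast_commute n i).eq, mul_assoc, mul_assoc] at this
    exact this
  · apply h.cancel hn
    have := hx.2
    rw [← mul_assoc, ← (Nat.cast_commute n j).eq, mul_assoc, mul_assoc] at this
    exact this

section

variable {i j : R} (h : Quat i j)
include h

theorem Quat.ii' (x : R) : i * (i * x) = -x := by rw [← mul_assoc, h.ii, neg_one_mul]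
theorem Quat.jj' (x : R) : j * (j * x) = -x := by rw [← mul_assoc, h.jj, neg_one_mul]
theorem Quat.ji' (x : R) : j * (i * x) = -(i * (j * x)) := by rw [← mul_assoc, h.ji, neg_mul, mul_assoc]

theorem mk_mul {a b c d a' b' c' d' : R} (ha : Cen i j a') (hb : Cen i j b') (hc : Cen i j c') (hd : Cen i j d') :
    mk i j a b c d * mk i j a' b' c' d' =
      mk i j (a * a' - b * b' - c * c' - d * d') (a * b' + b * a' + c * d' - d * c')
        (a * c' - b * d' + c * a' + d * b') (a * d' + b * c' - c * b' + d * a') := by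
  have e1 : ∀ {x : R}, Cen i j x → ∀ y, i * (x * y) = x * (i * y) := fun hx y => by
    rw [← mul_assoc, hx.1, mul_assoc]
  have e2 : ∀ {x : R}, Cen i j x → ∀ y, j * (x * y) = x * (j * y) := fun hx y => by
    rw [← mul_assoc, hx.2, mul_assoc]
  simp only [mk, mul_add, add_mul, sub_mul, mul_assoc, ha.1, ha.2, hb.1, hb.2, hc.1, hc.2, hd.1, hd.2,
    e1 ha, e1 hb, e1 hc, e1 hd, e2 ha, e2 hb, e2 hc, e2 hd, h.ii, h.jj, h.ji, h.ii', h.jj', h.ji',
    mul_neg, mul_one, neg_neg]
  abel

theorem decomp (D : R) : ∃ a b c d : R, Cen i j a ∧ Cen i j b ∧ Cen i j c ∧ Cen i j d ∧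
    4 * D = mk i j a b c d := by
  have e4 : (4 : R) = 1 + 1 + 1 + 1 := by norm_num
  refine ⟨D - i * D * i - j * D * j - (i * j) * D * (i * j),
    j * D * (i * j) - (i * j) * D * j - D * i - i * D,
    (i * j) * D * i - i * D * (i * j) - D * j - j * D,
    i * D * j - j * D * i - D * (i * j) - (i * j) * D, ?_, ?_, ?_, ?_, ?_⟩
  · constructor
    · simp only [mul_sub, sub_mul, mul_assoc, h.ii, h.jj, h.ji, h.ii', h.jj', h.ji', mul_neg, mul_one, neg_neg]
      abel
    · simp only [mul_sub, sub_mul, mul_assoc, h.ii, h.jj, h.ji, h.ii', h.jj', h.ji', mul_neg, mul_one, neg_neg]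
      abel
  · constructor
    · simp only [mul_sub, sub_mul, mul_assoc, h.ii, h.jj, h.ji, h.ii', h.jj', h.ji', mul_neg, mul_one, neg_neg]
      abel
    · simp only [mul_sub, sub_mul, mul_assoc, h.ii, h.jj, h.ji, h.ii', h.jj', h.ji', mul_neg, mul_one, neg_neg]
      abel
  · constructor
    · simp only [mul_sub, sub_mul, mul_assoc, h.ii, h.jj, h.ji, h.ii', h.jj', h.ji', mul_neg, mul_one, neg_neg]
      abel
    · simp only [mul_sub, sub_mul, mul_assoc, h.ii, h.jj, h.ji, h.ii', h.jj', h.ji', mul_neg, mul_one, neg_neg]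
      abel
  · constructor
    · simp only [mul_sub, sub_mul, mul_assoc, h.ii, h.jj, h.ji, h.ii', h.jj', h.ji', mul_neg, mul_one, neg_neg]
      abel
    · simp only [mul_sub, sub_mul, mul_assoc, h.ii, h.jj, h.ji, h.ii', h.jj', h.ji', mul_neg, mul_one, neg_neg]
      abel
  · rw [e4]
    simp only [mk, mul_sub, sub_mul, add_mul, mul_assoc, h.ii, h.jj, h.ji, h.ii', h.jj', h.ji', mul_neg, mul_one,
      neg_neg, one_mul]
    abel

theorem mk_eq_zero (ht : TF R) {a b c d : R} (ha : Cen i j a) (hb : Cen i j b) (hc : Cen i j c) (hd : Cen i j d)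
    (h0 : mk i j a b c d = 0) : a = 0 ∧ b = 0 ∧ c = 0 ∧ d = 0 := by
  have e1 : ∀ {x : R}, Cen i j x → ∀ y, i * (x * y) = x * (i * y) := fun hx y => by
    rw [← mul_assoc, hx.1, mul_assoc]
  have e2 : ∀ {x : R}, Cen i j x → ∀ y, j * (x * y) = x * (j * y) := fun hx y => by
    rw [← mul_assoc, hx.2, mul_assoc]
  have e4 : (4 : R) = 1 + 1 + 1 + 1 := by norm_num
  have key : ∀ {a b c d : R}, Cen i j a → Cen i j b → Cen i j c → Cen i j d → mk i j a b c d = 0 → a = 0 := by
    intro a b c d ha hb hc hd h0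
    apply ht.four
    have : 4 * a = mk i j a b c d - i * mk i j a b c d * i - j * mk i j a b c d * j
        - (i * j) * mk i j a b c d * (i * j) := by
      rw [e4]
      simp only [mk, mul_add, add_mul, mul_assoc, ha.1, ha.2, hb.1, hb.2, hc.1, hc.2, hd.1, hd.2,
        e1 ha, e1 hb, e1 hc, e1 hd, e2 ha, e2 hb, e2 hc, e2 hd, h.ii, h.jj, h.ji, h.ii', h.jj', h.ji',
        mul_neg, neg_mul, mul_one, neg_neg, one_mul]
      abel
    rw [this, h0]
    simp
  have h1 : mk i j (-b) a (-d) c = 0 := by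
    have : mk i j (-b) a (-d) c = i * mk i j a b c d := by
      simp only [mk, mul_add, mul_assoc, ha.1, e1 hb, e1 hc, e1 hd, h.ii, h.ii', mul_neg, mul_one, neg_mul]
      abel
    rw [this, h0, mul_zero]
  have h2 : mk i j (-c) d a (-b) = 0 := by
    have : mk i j (-c) d a (-b) = j * mk i j a b c d := by
      simp only [mk, mul_add, mul_assoc, ha.2, e2 hb, e2 hc, e2 hd, h.jj, h.ji, h.jj', h.ji', mul_neg, mul_one, neg_mul,
        neg_neg]
      abel
    rw [this, h0, mul_zero]
  have h3 : mk i j (-d) (-c) b a = 0 := by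
    have : mk i j (-d) (-c) b a = (i * j) * mk i j a b c d := by
      simp only [mk, mul_add, mul_assoc, ha.1, ha.2, hb.1, hb.2, hc.1, hc.2, hd.1, hd.2, e1 ha, e2 ha, e1 hb, e1 hc, e1 hd, e2 hb, e2 hc, e2 hd, h.ii, h.ii', h.jj, h.ji, h.jj', h.ji',
        mul_neg, mul_one, neg_mul, neg_neg]
      abel
    rw [this, h0, mul_zero]
  refine ⟨key ha hb hc hd h0, ?_, ?_, ?_⟩
  · exact neg_eq_zero.1 (key hb.neg ha hd.neg hc h1)
  · exact neg_eq_zero.1 (key hc.neg hd ha hb.neg h2)
  · exact neg_eq_zero.1 (key hd.neg hc.neg hb ha h3)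

theorem mk_inj (ht : TF R) {a b c d a' b' c' d' : R} (ha : Cen i j a) (hb : Cen i j b) (hc : Cen i j c)
    (hd : Cen i j d) (ha' : Cen i j a') (hb' : Cen i j b') (hc' : Cen i j c') (hd' : Cen i j d')
    (h0 : mk i j a b c d = mk i j a' b' c' d') : a = a' ∧ b = b' ∧ c = c' ∧ d = d' := by
  have : mk i j (a - a') (b - b') (c - c') (d - d') = 0 := by
    have : mk i j (a - a') (b - b') (c - c') (d - d') = mk i j a b c d - mk i j a' b' c' d' := by
      simp only [mk, sub_mul]; abel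
    rw [this, h0, sub_self]
  obtain ⟨h1, h2, h3, h4⟩ := mk_eq_zero h ht (ha.sub ha') (hb.sub hb') (hc.sub hc') (hd.sub hd') this
  exact ⟨sub_eq_zero.1 h1, sub_eq_zero.1 h2, sub_eq_zero.1 h3, sub_eq_zero.1 h4⟩

end

theorem mk_add {i j a b c d a' b' c' d' : R} :
    mk i j a b c d + mk i j a' b' c' d' = mk i j (a + a') (b + b') (c + c') (d + d') := by
  simp only [mk, add_mul]; abel

theorem mk_sub {i j a b c d a' b' c' d' : R} :
    mk i j a b c d - mk i j a' b' c' d' = mk i j (a - a') (b - b') (c - c') (d - d') := by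
  simp only [mk, sub_mul]; abel

theorem mk_neg {i j a b c d : R} : -mk i j a b c d = mk i j (-a) (-b) (-c) (-d) := by
  simp only [mk, neg_mul]; abel

theorem mk_left {i j x a b c d : R} : x * mk i j a b c d = mk i j (x * a) (x * b) (x * c) (x * d) := by
  simp only [mk, mul_add, mul_assoc]

end Cfsg.Agent.Lib.ZasQuat
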