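import Cfsg.Agent.Lib.FrobCharChange
import Cfsg.Agent.Lib.ZasQuat

/-!
# An integral fixed-point-free representation of a Frobenius complement

`rational`: if `A` occurs as a Frobenius complement then there is a homomorphism `ρ` from `A` to a nontrivial
torsion-free ring, finitely generated over `ℤ`, in which all norm elements `∑ ρ a ^ i` (`a ≠ 1`) vanish.
-/

set_option autoImplicit false
open Cfsg

namespace Cfsg.Agent.Lib.FrobRat

open FrobExist FrobAction FrobLattice FrobCharChange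

universe u v

variable {A : Type u} [Group A]

/-- the two-sided ideal generated by the norm elements -/
noncomputable def nrmIdeal (A : Type u) [Group A] : Ideal (MonoidAlgebra ℤ A) :=
  Ideal.span {z | ∃ a : A, a ≠ 1 ∧ ∃ b, z = nm ℤ a * b}

theorem nrmIdeal_mul_right {x : MonoidAlgebra ℤ A} (y : MonoidAlgebra ℤ A) (hx : x ∈ nrmIdeal A) :
    x * y ∈ nrmIdeal A := by
  induction hx using Submodule.span_induction with
  | mem x h =>
    obtain ⟨a, ha, b, rfl⟩ := h
    exact Ideal.subset_span ⟨a, ha, b * y, by rw [mul_assoc]⟩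
  | zero => rw [zero_mul]; exact zero_mem _
  | add u v _ _ hu hv => rw [add_mul]; exact add_mem hu hv
  | smul c u _ hu =>
    rw [smul_eq_mul, mul_assoc]; exact (nrmIdeal A).mul_mem_left c hu

theorem natCast_notMem (h : Occurs A) : ∀ n : ℕ, (n : MonoidAlgebra ℤ A) ∈ nrmIdeal A → n = 0 := by
  have hfin := h.finite
  obtain ⟨p, hp, hpA, hP⟩ := exists_prime_of_occurs h
  have := Fact.mk hp
  obtain ⟨F, hF0, hFF, hF⟩ := exists_idem hpA hP
  intro n hn
  by_contra hn0
  have hall : ∀ k : ℕ, p ^ (k + 1) ∣ n := by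
    intro k
    obtain ⟨G, hGG, hGF⟩ := exists_lift_idem p F hFF k
    have h1 : ∀ z ∈ nrmIdeal A, ((p ^ (k + 1) : ℕ) : MonoidAlgebra ℤ A) ∣ z * G := by
      intro z hz
      induction hz using Submodule.span_induction with
      | mem x h =>
        obtain ⟨a, ha, b, rfl⟩ := h
        have hcop : Nat.Coprime p (orderOf a) :=
          (Nat.Prime.coprime_iff_not_dvd hp).2 (fun h => hpA (h.trans (orderOf_dvd_natCard a)))
        exact dvd_norm_mul hcop (nm_mul_nm ℤ a) (hF a ha) hGF hGG (k + 1) le_rfl b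
      | zero => rw [zero_mul]; exact dvd_zero _
      | add u v _ _ hu hv => rw [add_mul]; exact dvd_add hu hv
      | smul c u _ hu =>
        rw [smul_eq_mul, mul_assoc]; exact cast_dvd_mul_left _ _ hu
    have h2 := h1 _ hn
    have h3 : ∃ g : A, ¬ (p : ℤ) ∣ G.coeff g := by
      by_contra hcon
      push Not at hcon
      apply hF0
      have h4 : (p : MonoidAlgebra ℤ A) ∣ G := by
        rw [← red_eq_zero_iff]
        ext g
        rw [MonoidAlgebra.coeff_mapRingHom]
        simpa using (ZMod.intCast_zmod_eq_zero_iff_dvd _ _).2 (hcon g)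
      have : F = G - (G - F) := by noncomm_ring
      rw [this]
      exact dvd_sub h4 hGF
    obtain ⟨g, hg⟩ := h3
    obtain ⟨c, hc⟩ := h2
    have h5 := congrArg (fun y : MonoidAlgebra ℤ A => y.coeff g) hc
    rw [coeff_natCast_mul, coeff_natCast_mul] at h5
    have h6 : ((p ^ (k + 1) : ℕ) : ℤ) ∣ n * G.coeff g := ⟨_, h5⟩
    have hco : IsCoprime ((p ^ (k + 1) : ℕ) : ℤ) (G.coeff g) := by
      push_cast
      apply IsCoprime.pow_left
      rw [Prime.coprime_iff_not_dvd (Nat.prime_iff_prime_int.1 hp)]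
      exact hg
    have h7 := hco.dvd_of_dvd_mul_right h6
    exact_mod_cast h7
  have h8 := Nat.le_of_dvd (Nat.pos_of_ne_zero hn0) (hall n)
  have h9 : n + 1 < p ^ (n + 1) := Nat.lt_pow_self hp.one_lt
  omega

/-- its saturation -/
noncomputable def satIdeal (A : Type u) [Group A] : Ideal (MonoidAlgebra ℤ A) where
  carrier := {x | ∃ n : ℕ, n ≠ 0 ∧ (n : MonoidAlgebra ℤ A) * x ∈ nrmIdeal A}
  zero_mem' := ⟨1, one_ne_zero, by rw [mul_zero]; exact zero_mem _⟩
  add_mem' := by
    rintro x y ⟨n, hn, hx⟩ ⟨m, hm, hy⟩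
    refine ⟨n * m, mul_ne_zero hn hm, ?_⟩
    rw [mul_add, Nat.cast_mul]
    refine add_mem ?_ ?_
    · rw [(Nat.cast_commute n (m : MonoidAlgebra ℤ A)).eq, mul_assoc]
      exact (nrmIdeal A).mul_mem_left _ hx
    · rw [mul_assoc]
      exact (nrmIdeal A).mul_mem_left _ hy
  smul_mem' := by
    rintro c x ⟨n, hn, hx⟩
    refine ⟨n, hn, ?_⟩
    rw [smul_eq_mul, ← mul_assoc, (Nat.cast_commute n c).eq, mul_assoc]
    exact (nrmIdeal A).mul_mem_left _ hx

theorem mem_satIdeal {x : MonoidAlgebra ℤ A} :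
    x ∈ satIdeal A ↔ ∃ n : ℕ, n ≠ 0 ∧ (n : MonoidAlgebra ℤ A) * x ∈ nrmIdeal A := Iff.rfl

instance satIdeal_twoSided : (satIdeal A).IsTwoSided := by
  refine ⟨fun {x} y hx => ?_⟩
  obtain ⟨n, hn, hx⟩ := hx
  exact ⟨n, hn, by rw [← mul_assoc]; exact nrmIdeal_mul_right y hx⟩

/-- **Integral representation** of a Frobenius complement. -/
theorem rational (h : Occurs A) : ∃ (S : Type u) (_ : Ring S) (_ : Module.Finite ℤ S) (_ : Nontrivial S)
    (ρ : A →* S), ZasQuat.TF S ∧ ∀ a : A, a ≠ 1 → ∑ i ∈ Finset.range (orderOf a), ρ a ^ i = 0 := by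
  have hfin := h.finite
  have hfinM : Module.Finite ℤ (MonoidAlgebra ℤ A ⧸ satIdeal A) := Module.Finite.quotient ℤ (satIdeal A)
  refine ⟨MonoidAlgebra ℤ A ⧸ satIdeal A, inferInstance, hfinM, ?_,
    (Ideal.Quotient.mk (satIdeal A) : MonoidAlgebra ℤ A →* MonoidAlgebra ℤ A ⧸ satIdeal A).comp (MonoidAlgebra.of ℤ A),
    ?_, ?_⟩
  · refine Ideal.Quotient.nontrivial_iff.2 ?_
    rw [Ideal.ne_top_iff_one]
    rintro ⟨n, hn, h1⟩
    rw [mul_one] at h1
    exact hn (natCast_notMem h n h1)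
  · intro n hn x hx
    obtain ⟨y, rfl⟩ := Ideal.Quotient.mk_surjective x
    rw [← map_nsmul, Ideal.Quotient.eq_zero_iff_mem] at hx
    rw [Ideal.Quotient.eq_zero_iff_mem]
    obtain ⟨m, hm, h1⟩ := hx
    refine ⟨m * n, mul_ne_zero hm hn, ?_⟩
    rw [Nat.cast_mul, mul_assoc, ← nsmul_eq_mul n y]
    exact h1
  · intro a ha
    have : ∑ i ∈ Finset.range (orderOf a), (Ideal.Quotient.mk (satIdeal A) (MonoidAlgebra.of ℤ A a)) ^ i
        = Ideal.Quotient.mk (satIdeal A) (nm ℤ a) := by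
      rw [nm, map_sum]
      exact Finset.sum_congr rfl fun i _ => (map_pow _ _ _).symm
    refine this.trans ?_
    rw [Ideal.Quotient.eq_zero_iff_mem]
    refine ⟨1, one_ne_zero, ?_⟩
    rw [Nat.cast_one, one_mul]
    exact Ideal.subset_span ⟨a, ha, 1, (mul_one _).symm⟩

end Cfsg.Agent.Lib.FrobRat
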