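import Cfsg.Agent.Lib.FrobSchur
import Cfsg.Agent.Lib.CharBasic2
import Cfsg.Agent.Lib.CharCentral

set_option autoImplicit false

/-!
# Frobenius–Schur: dual representation, odd degree, real structure (helper78)
-/

namespace Cfsg.Agent.Lib.FrobSchur2

open scoped ComplexConjugate
open Cfsg Cfsg.Agent.Lib.CharBasic Cfsg.Agent.Lib.FrobSchur

universe u v

variable {G : Type u} [Group G] {n : ℕ}

/-- The representation attached to a matrix homomorphism. -/
noncomputable def repOf (X : G →* Matrix (Fin n) (Fin n) ℂ) : Representation ℂ G (Fin n → ℂ) :=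
  (Matrix.toLinAlgEquiv' : Matrix (Fin n) (Fin n) ℂ ≃ₐ[ℂ] _).toAlgHom.toMonoidHom.comp X

theorem repOf_apply (X : G →* Matrix (Fin n) (Fin n) ℂ) (g : G) :
    repOf X g = Matrix.toLin' (X g) := rfl

theorem matRep_repOf (X : G →* Matrix (Fin n) (Fin n) ℂ) : matRep (repOf X) = X := by
  ext g : 1
  rw [matRep_apply, repOf_apply, LinearMap.toMatrix'_toLin']

theorem repOf_character (X : G →* Matrix (Fin n) (Fin n) ℂ) (g : G) :
    (repOf X).character g = (X g).trace := by
  rw [← trace_matRep, matRep_repOf]

/-- The dual matrix representation. -/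
noncomputable def dualMat (X : G →* Matrix (Fin n) (Fin n) ℂ) :
    G →* Matrix (Fin n) (Fin n) ℂ where
  toFun g := (X g⁻¹).transpose
  map_one' := by simp
  map_mul' a b := by
    rw [mul_inv_rev, map_mul, Matrix.transpose_mul]

theorem dualMat_apply (X : G →* Matrix (Fin n) (Fin n) ℂ) (g : G) :
    dualMat X g = (X g⁻¹).transpose := rfl

theorem dual_char [Finite G] (ρ : Representation ℂ G (Fin n → ℂ)) (g : G) :
    (repOf (dualMat (matRep ρ))).character g = conj (ρ.character g) := by
  rw [repOf_character, dualMat_apply, Matrix.trace_transpose, trace_matRep,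
    (isCharacter_of_rep ρ).inv]

theorem exists_form [Fintype G] (ρ : Representation ℂ G (Fin n → ℂ))
    (hirr : ρ.IsIrreducible) (hreal : ∀ g : G, (ρ.character g).im = 0) :
    ∃ ε : ℂ, (ε = 1 ∨ ε = -1) ∧ fsInd ρ.character = ε ∧
      ∃ M : Matrix (Fin n) (Fin n) ℂ, M ≠ 0 ∧
        (∀ g, (matRep ρ g).transpose * M * matRep ρ g = M) ∧ M.transpose = ε • M ∧
        ∀ A : Matrix (Fin n) (Fin n) ℂ, (∀ g, (matRep ρ g).transpose * A * matRep ρ g = A) →
          ∃ c : ℂ, A = c • M := by
  set ρ' := repOf (dualMat (matRep ρ)) with hρ'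
  have hchar : ρ'.character = ρ.character := by
    funext g
    rw [dual_char]
    exact Complex.conj_eq_iff_im.mpr (hreal g)
  have hirr' : ρ'.IsIrreducible := isIrreducible_of_isIrrCharacter ρ' (by
    rw [hchar]; exact isIrrCharacter_of_rep ρ hirr)
  rcases trichotomy ρ' hirr' with ⟨_, g, hg⟩ | ⟨ε, hε, h0, _, B, hB0, hB, hBT, hBu⟩
  · rw [hchar] at hg
    exact absurd (hreal g) hg
  · have key : ∀ A : Matrix (Fin n) (Fin n) ℂ,
        (∀ g, (matRep ρ g).transpose * A * matRep ρ g = A) ↔
          (∀ g, matRep ρ' g * A * (matRep ρ' g).transpose = A) := by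
      intro A
      rw [hρ', matRep_repOf]
      constructor
      · intro h g
        have := h g⁻¹
        rw [dualMat_apply, Matrix.transpose_transpose]
        exact this
      · intro h g
        have := h g⁻¹
        rw [dualMat_apply, Matrix.transpose_transpose, inv_inv] at this
        exact this
    rw [hchar] at h0
    exact ⟨ε, hε, h0, B, hB0, (key B).mpr hB, hBT, fun A hA => hBu A ((key A).mp hA)⟩

/-- A nonzero invariant form is non-degenerate. -/
theorem det_ne_zero_of_invariant (ρ : Representation ℂ G (Fin n → ℂ))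
    (hirr : ρ.IsIrreducible) {M : Matrix (Fin n) (Fin n) ℂ} (hM : M ≠ 0)
    (hinv : ∀ g, (matRep ρ g).transpose * M * matRep ρ g = M) : M.det ≠ 0 := by
  -- the kernel of `M` is invariant
  let S : Subrepresentation ρ :=
    { toSubmodule := LinearMap.ker (Matrix.toLin' M)
      apply_mem_toSubmodule := by
        intro g v hv
        rw [LinearMap.mem_ker, Matrix.toLin'_apply] at hv ⊢
        have h1 : ρ g v = (matRep ρ g).mulVec v := by
          rw [matRep_apply, LinearMap.toMatrix'_mulVec]
        have h2 : M * matRep ρ g = (matRep ρ g⁻¹).transpose * M := by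
          conv_rhs => rw [← hinv g]
          rw [← mul_assoc, ← mul_assoc, ← Matrix.transpose_mul, ← map_mul, mul_inv_cancel, map_one,
            Matrix.transpose_one, one_mul]
        rw [h1, Matrix.mulVec_mulVec, h2, ← Matrix.mulVec_mulVec, hv, Matrix.mulVec_zero] }
  have hS : S = ⊥ := by
    rcases eq_bot_or_eq_top S with h | h
    · exact h
    · exfalso
      apply hM
      have h1 : LinearMap.ker (Matrix.toLin' M) = ⊤ := congrArg Subrepresentation.toSubmodule h
      rw [LinearMap.ker_eq_top] at h1
      simpa using h1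
  have hker : LinearMap.ker (Matrix.toLin' M) = ⊥ := congrArg Subrepresentation.toSubmodule hS
  intro hdet
  obtain ⟨v, hv, hv0⟩ := Matrix.exists_mulVec_eq_zero_iff.mpr hdet
  have : v ∈ LinearMap.ker (Matrix.toLin' M) := by
    rw [LinearMap.mem_ker, Matrix.toLin'_apply]; exact hv0
  rw [hker] at this
  exact hv ((Submodule.mem_bot ℂ).mp this)

/-- A real irreducible character of odd degree has indicator `1`. -/
theorem fsInd_eq_one_of_odd [Fintype G] {χ : G → ℂ} (hχ : IsIrrCharacter G χ)
    (hreal : ∀ g : G, (χ g).im = 0) {d : ℕ} (hd : χ 1 = d) (hodd : Odd d) : fsInd χ = 1 := by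
  obtain ⟨n, ρ, hρ, rfl⟩ := hχ
  have hn : n = d := by
    rw [Representation.char_one] at hd
    simpa using hd
  subst hn
  obtain ⟨ε, hε, h0, M, hM0, hM, hMT, _⟩ := exists_form ρ hρ hreal
  rcases hε with h | h
  · rw [h0, h]
  · exfalso
    have hdet := det_ne_zero_of_invariant ρ hρ hM0 hM
    have h1 := congrArg Matrix.det hMT
    rw [Matrix.det_transpose, h, Matrix.det_smul, Fintype.card_fin, hodd.neg_one_pow] at h1
    have h2 : (2 : ℂ) * M.det = 0 := by linear_combination h1
    rcases mul_eq_zero.mp h2 with h3 | h3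
    · norm_num at h3
    · exact hdet h3

end Cfsg.Agent.Lib.FrobSchur2
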