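import Cfsg.Agent.Lib.FrobZas
import Cfsg.Agent.Lib.FrobAction3
import Cfsg.Agent.Lib.QuatSylow
import Cfsg.Agent.Lib.CyclicSylow
import Cfsg.Agent.Lib.Transfer
import Cfsg.Agent.Lib.PNilp
import Cfsg.Agent.Lib.Burnside

/-!
# Solvability criteria for groups acting fixed-point-freely
-/

set_option autoImplicit false
set_option linter.unusedSimpArgs false
open Cfsg Subgroup

namespace Cfsg.Agent.Lib.FrobSolv

open FrobExist FrobAction FrobAction3 ZasGroup

section act

variable {A V : Type*} [Group A] [CommGroup V] [Finite A] [Finite V] [Nontrivial V] {act : A →* MulAut V}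

theorem solvable_of_complement (hf : IsFPF act) {p : ℕ} [hp : Fact p.Prime] (h : HasNormalPComplement p A)
    (hs : ∀ K : Subgroup A, K.Normal → ¬ p ∣ Nat.card K → Group.IsSolvable K) : Group.IsSolvable A := by
  obtain ⟨K, hK, hKp, m, hm⟩ := PNilp.hasNormalPComplement_iff.mp h
  have := hs K hK hKp
  have h2 : IsPGroup p (A ⧸ K) := IsPGroup.of_card (n := m) hm
  have h3 : Group.IsNilpotent (A ⧸ K) := h2.isNilpotent
  have h4 : Group.IsSolvable (A ⧸ K) := inferInstance
  exact Group.isSolvable_of_ker_le_range K.subtype (QuotientGroup.mk' K) (by simp)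

/-- groups of order prime to 3 acting fixed-point-freely are solvable -/
theorem solvable_of_not_three_dvd (hf : IsFPF act) (h3 : ¬ 3 ∣ Nat.card A) : Group.IsSolvable A := by
  have f2 : Fact (Nat.Prime 2) := ⟨Nat.prime_two⟩
  apply solvable_of_complement hf (p := 2)
  · apply Transfer.hasNormalPComplement_of_local
    intro D hD hDb g hg hgo
    by_contra hgC
    obtain ⟨x, hx, y, hy, hx4, hsq, hconj, hgx, hgy, -⟩ := QuatSylow.quaternion_action hD (by
      intro u _ v _ hu hv
      have e : ∀ w : A, orderOf w = 2 → w * w = 1 ∧ w ≠ 1 := by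
        intro w hw
        refine ⟨by rw [← pow_two, ← hw]; exact pow_orderOf_eq_one w, ?_⟩
        rintro rfl
        rw [orderOf_one] at hw; omega
      exact invol_unique hf (e u hu).1 (e u hu).2 (e v hv).1 (e v hv).2) hgo hg hgC
    have hgw : g * (x * y) * g⁻¹ = x := by
      calc g * (x * y) * g⁻¹ = (g * x * g⁻¹) * (g * y * g⁻¹) := by group
        _ = y * (x * y) := by rw [hgx, hgy]
        _ = (y * x * y⁻¹) * y ^ 2 := by rw [pow_two]; group
        _ = x := by rw [hconj, hsq, pow_two]; group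
    have hc3x : g ^ 3 * x * (g ^ 3)⁻¹ = x := by
      calc g ^ 3 * x * (g ^ 3)⁻¹ = g * (g * (g * x * g⁻¹) * g⁻¹) * g⁻¹ := by
            rw [pow_succ, pow_two]; group
        _ = x := by rw [hgx, hgy, hgw]
    have hcomm : Commute (g ^ 3) x := by
      rw [mul_inv_eq_iff_eq_mul] at hc3x
      exact hc3x
    have hcop : Nat.Coprime 3 (orderOf g) := by
      rw [Nat.Prime.coprime_iff_not_dvd Nat.prime_three]
      intro h
      exact h3 (h.trans (orderOf_dvd_natCard g))
    obtain ⟨k, hk⟩ := exists_pow_eq_self_of_coprime hcop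
    have hcg : Commute g x := by
      rw [← hk]; exact hcomm.pow_left k
    have hyx : y = x := by
      rw [← hgx, hcg.eq, mul_inv_cancel_right]
    rw [hyx, mul_inv_cancel_right] at hconj
    have hx2 : x ^ 2 = 1 := by rw [pow_two]; nth_rw 1 [hconj]; exact inv_mul_cancel x
    have := orderOf_dvd_of_pow_eq_one hx2
    rw [hx4] at this
    omega
  · intro K hK hK2
    have := isZGroup_of_odd (hf.comp K.subtype K.subtype_injective) hK2
    infer_instance

/-- a central element of order 3 -/
theorem solvable_of_central_three (hf : IsFPF act) {a : A} (ha : orderOf a = 3) (hc : a ∈ center A) :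
    Group.IsSolvable A := by
  have f3 : Fact (Nat.Prime 3) := ⟨Nat.prime_three⟩
  apply solvable_of_complement hf (p := 3)
  · have hp : IsPGroup 3 (zpowers a) := IsPGroup.of_card (n := 1) (by rw [Nat.card_zpowers, ha, pow_one])
    obtain ⟨P, hP⟩ := hp.exists_le_sylow
    have hcyc : IsCyclic P := by
      rcases pgroup_cyclic_or_quaternion (hf.comp (P : Subgroup A).subtype (Subgroup.subtype_injective _)) P.2
        with h | ⟨h, -⟩
      · exact h
      · omega
    exact CyclicSylow.hasNormalPComplement_of_central P a hc (hP (mem_zpowers a)) (ne_one_of_order ha)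
  · intro K hK hK3
    exact solvable_of_not_three_dvd (hf.comp K.subtype K.subtype_injective) hK3

end act

section main

variable {G : Type*} [Group G]

/-- centralizer of the elements of order three -/
def K0 (G : Type*) [Group G] : Subgroup G := centralizer {e : G | orderOf e = 3}

theorem mem_K0 {g : G} : g ∈ K0 G ↔ ∀ e : G, orderOf e = 3 → g * e = e * g := by
  unfold K0
  rw [mem_centralizer_iff]
  exact ⟨fun h e he => (h e he).symm, fun h e he => (h e he).symm⟩

/-- normalizer of the subgroups of order three -/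
def K1 (G : Type*) [Group G] : Subgroup G where
  carrier := {g | ∀ e : G, orderOf e = 3 → g * e * g⁻¹ = e ∨ g * e * g⁻¹ = e⁻¹}
  one_mem' := fun e _ => Or.inl (by simp)
  mul_mem' := by
    intro a b ha hb e he
    have e1 : a * b * e * (a * b)⁻¹ = a * (b * e * b⁻¹) * a⁻¹ := by group
    rw [e1]
    rcases hb e he with h | h
    · rw [h]; exact ha e he
    · rw [h]
      have e2 : a * e⁻¹ * a⁻¹ = (a * e * a⁻¹)⁻¹ := by group
      rw [e2]
      rcases ha e he with h | h
      · right; rw [h]
      · left; rw [h, inv_inv]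
  inv_mem' := by
    intro a ha e he
    rcases ha e he with h | h
    · left
      rw [inv_inv]
      calc a⁻¹ * e * a = a⁻¹ * (a * e * a⁻¹) * a := by rw [h]
        _ = e := by group
    · right
      rw [inv_inv]
      calc a⁻¹ * e * a = a⁻¹ * (e⁻¹)⁻¹ * a := by rw [inv_inv]
        _ = a⁻¹ * (a * e * a⁻¹)⁻¹ * a := by rw [h]
        _ = e⁻¹ := by group

theorem mem_K1 {g : G} : g ∈ K1 G ↔ ∀ e : G, orderOf e = 3 → g * e * g⁻¹ = e ∨ g * e * g⁻¹ = e⁻¹ := Iff.rfl

theorem commutator_mem_K0 {g h : G} (hg : g ∈ K1 G) (hh : h ∈ K1 G) : g * h * g⁻¹ * h⁻¹ ∈ K0 G := by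
  have h1 : ∀ e : G, orderOf e = 3 → (g * h) * e * (g * h)⁻¹ = (h * g) * e * (h * g)⁻¹ := by
    intro e he
    have e1 : (g * h) * e * (g * h)⁻¹ = g * (h * e * h⁻¹) * g⁻¹ := by group
    have e2 : (h * g) * e * (h * g)⁻¹ = h * (g * e * g⁻¹) * h⁻¹ := by group
    have e3 : ∀ x : G, x * e⁻¹ * x⁻¹ = (x * e * x⁻¹)⁻¹ := fun x => by group
    rw [e1, e2]
    rcases hg e he with h1 | h1 <;> rcases hh e he with h2 | h2 <;>
      simp only [h1, h2, e3, inv_inv]
  rw [mem_K0]
  intro e he
  have h2 : g * h * g⁻¹ * h⁻¹ = (g * h) * (h * g)⁻¹ := by group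
  rw [h2, ← mul_inv_eq_iff_eq_mul]
  calc g * h * (h * g)⁻¹ * e * (g * h * (h * g)⁻¹)⁻¹
      = (g * h) * ((h * g)⁻¹ * e * (h * g)) * (g * h)⁻¹ := by group
    _ = (h * g) * ((h * g)⁻¹ * e * (h * g)) * (h * g)⁻¹ := h1 _ (order_conj' he _)
    _ = e := by group

theorem K0_le_K1 : K0 G ≤ K1 G := by
  intro g hg e he
  left
  rw [mul_inv_eq_iff_eq_mul]
  exact mem_K0.1 hg e he

theorem conj_mem_K0 {k : G} (hk : k ∈ K0 G) (g : G) : g * k * g⁻¹ ∈ K0 G := by
  rw [mem_K0] at hk ⊢
  intro e he
  have h1 := hk _ (order_conj' he g)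
  calc g * k * g⁻¹ * e = g * (k * (g⁻¹ * e * g)) * g⁻¹ := by group
    _ = g * ((g⁻¹ * e * g) * k) * g⁻¹ := by rw [h1]
    _ = e * (g * k * g⁻¹) := by group

theorem solvable_K1 (h : Group.IsSolvable (K0 G)) : Group.IsSolvable (K1 G) := by
  let N : Subgroup (K1 G) := (K0 G).subgroupOf (K1 G)
  have hN : N.Normal := ⟨fun n hn g => by
    rw [mem_subgroupOf] at hn ⊢
    exact conj_mem_K0 hn g⟩
  have s1 : Group.IsSolvable N :=
    Group.isSolvable_of_isSolvable_injective (f := (subgroupOfEquivOfLe (K0_le_K1 (G := G))).toMonoidHom)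
      (subgroupOfEquivOfLe (K0_le_K1 (G := G))).injective
  have s2 : Group.IsSolvable (K1 G ⧸ N) := by
    apply Group.isSolvable_of_comm
    intro a b
    obtain ⟨a, rfl⟩ := QuotientGroup.mk_surjective a
    obtain ⟨b, rfl⟩ := QuotientGroup.mk_surjective b
    rw [← QuotientGroup.mk_mul, ← QuotientGroup.mk_mul, QuotientGroup.eq, mem_subgroupOf]
    have := commutator_mem_K0 (inv_mem b.2) (inv_mem a.2)
    have e : ((((a * b)⁻¹ * (b * a) : K1 G)) : G) = (b : G)⁻¹ * (a : G)⁻¹ * ((b : G)⁻¹)⁻¹ * ((a : G)⁻¹)⁻¹ := by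
      push_cast; group
    rw [e]; exact this
  exact Group.isSolvable_of_ker_le_range N.subtype (QuotientGroup.mk' N) (by simp)

theorem eq_or_inv_of_zpowers {a e : G} (ha : orderOf a = 3) (he : orderOf e = 3) (h : a ∈ zpowers e) :
    a = e ∨ a = e⁻¹ := by
  obtain ⟨k, hk⟩ := h
  simp only at hk
  have h3 : e ^ (3 : ℤ) = 1 := by
    have := pow_orderOf_eq_one e
    rw [he] at this
    exact_mod_cast this
  have hk' : e ^ (k % 3) = a := by
    rw [← hk]
    conv_rhs => rw [← Int.emod_add_mul_ediv k 3, zpow_add, zpow_mul, h3, one_zpow, mul_one]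
  have h4 : k % 3 = 0 ∨ k % 3 = 1 ∨ k % 3 = 2 := by omega
  rcases h4 with h4 | h4 | h4
  · rw [h4, zpow_zero] at hk'
    exact absurd hk'.symm (ne_one_of_order ha)
  · left; rw [← hk', h4, zpow_one]
  · right
    rw [← hk', h4, eq_inv_iff_mul_eq_one]
    rw [← h3]
    group

/-- conjugation action on the subgroups of order three -/
theorem solvable_of_four (h1 : Group.IsSolvable (K1 G)) (X : Finset (Subgroup G)) (hX : X.card ≤ 4)
    (hmem : ∀ e : G, orderOf e = 3 → zpowers e ∈ X) : Group.IsSolvable G := by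
  classical
  let Y : Set (Subgroup G) := {H | ∃ e : G, orderOf e = 3 ∧ H = zpowers e}
  have hYX : Y ⊆ X := by
    rintro H ⟨e, he, rfl⟩
    exact hmem e he
  have hYf : Finite Y := Set.Finite.subset (Finset.finite_toSet X) hYX
  have hYc : Nat.card Y ≤ 4 := by
    have := Set.ncard_le_ncard hYX (Finset.finite_toSet X)
    rw [Set.ncard_coe_finset] at this
    exact this.trans hX
  let act : G → Y → Y := fun g H => ⟨(H : Subgroup G).map (MulAut.conj g).toMonoidHom, by
    obtain ⟨e, he, h⟩ := H.2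
    refine ⟨g * e * g⁻¹, order_conj he g, ?_⟩
    rw [h, MonoidHom.map_zpowers]
    rfl⟩
  let f : G →* Equiv.Perm Y := MonoidHom.toHomPerm
    { toFun := fun g => (act g : Function.End Y)
      map_one' := by
        funext H
        apply Subtype.ext
        change (H : Subgroup G).map (MulAut.conj 1).toMonoidHom = H
        rw [map_one]
        exact Subgroup.map_id _
      map_mul' := by
        intro a b
        funext H
        apply Subtype.ext
        change (H : Subgroup G).map (MulAut.conj (a * b)).toMonoidHom =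
          ((H : Subgroup G).map (MulAut.conj b).toMonoidHom).map (MulAut.conj a).toMonoidHom
        rw [Subgroup.map_map, map_mul]
        rfl }
  have hker : f.ker ≤ (K1 G).subtype.range := by
    rw [range_subtype]
    intro g hg e he
    have h2 : f g = 1 := hg
    have h3 : (f g ⟨zpowers e, e, he, rfl⟩ : Y) = ⟨zpowers e, e, he, rfl⟩ := by rw [h2]; rfl
    have h4 : (zpowers e).map (MulAut.conj g).toMonoidHom = zpowers e := congrArg Subtype.val h3
    have h5 : g * e * g⁻¹ ∈ zpowers e := by
      rw [← h4]; exact ⟨e, mem_zpowers e, rfl⟩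
    exact eq_or_inv_of_zpowers (order_conj he g) he h5
  have hS : Group.IsSolvable (Equiv.Perm Y) := by
    have hc : Nat.card (Equiv.Perm Y) ∣ 24 := by
      have : Fintype Y := Fintype.ofFinite Y
      rw [Nat.card_eq_fintype_card, Fintype.card_perm, ← Nat.card_eq_fintype_card]
      exact Nat.factorial_dvd_factorial hYc
    have hne : Nat.card (Equiv.Perm Y) ∣ 2 ^ 3 * 3 ^ 1 := hc
    obtain ⟨x, y, hx, hy, hxy⟩ := exists_dvd_and_dvd_of_dvd_mul hne
    obtain ⟨i, -, rfl⟩ := (Nat.dvd_prime_pow Nat.prime_two).1 hx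
    obtain ⟨j, -, rfl⟩ := (Nat.dvd_prime_pow Nat.prime_three).1 hy
    exact Burnside.isSolvable_of_card_eq _ 2 3 i j Nat.prime_two Nat.prime_three hxy rfl
  exact Group.isSolvable_of_ker_le_range (K1 G).subtype f hker

end main

end Cfsg.Agent.Lib.FrobSolv
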