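import Cfsg.Agent.Lib.FrobPair

/-!
# Structure of non-solvable groups acting fixed-point-freely
-/

set_option autoImplicit false
set_option linter.unusedSimpArgs false
open Cfsg Subgroup

namespace Cfsg.Agent.Lib.FrobStruct

open FrobExist FrobAction FrobAction3 ZasGroup FrobSolv ZasQuat

variable {G : Type*} [Group G] {R : Type*} [Ring R] {ρ : G →* R}

/-- the subgroup generated by the elements of order three -/
def N3 (G : Type*) [Group G] : Subgroup G := closure {g : G | orderOf g = 3}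

theorem mem_N3 {g : G} (hg : orderOf g = 3) : g ∈ N3 G := subset_closure hg

instance : (N3 G).Normal := by
  refine ⟨fun n hn g => ?_⟩
  induction hn using closure_induction with
  | mem x hx => exact mem_N3 (order_conj hx g)
  | one => simp
  | mul x y _ _ hx hy =>
    have : g * (x * y) * g⁻¹ = (g * x * g⁻¹) * (g * y * g⁻¹) := by group
    rw [this]; exact mul_mem hx hy
  | inv x _ hx =>
    have : g * x⁻¹ * g⁻¹ = (g * x * g⁻¹)⁻¹ := by group
    rw [this]; exact inv_mem hx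

/-- conjugate by an element of `N3` -/
def Cj (a b : G) : Prop := ∃ n ∈ N3 G, n * a * n⁻¹ = b

theorem Cj.refl (a : G) : Cj a a := ⟨1, one_mem _, by simp⟩

theorem Cj.symm {a b : G} (h : Cj a b) : Cj b a := by
  obtain ⟨n, hn, rfl⟩ := h
  exact ⟨n⁻¹, inv_mem hn, by group⟩

theorem Cj.trans {a b c : G} (h : Cj a b) (h' : Cj b c) : Cj a c := by
  obtain ⟨n, hn, rfl⟩ := h
  obtain ⟨m, hm, rfl⟩ := h'
  exact ⟨m * n, mul_mem hm hn, by group⟩

theorem Cj.inv {a b : G} (h : Cj a b) : Cj a⁻¹ b⁻¹ := by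
  obtain ⟨n, hn, rfl⟩ := h
  exact ⟨n, hn, by group⟩

section

variable (h : ZCfg ρ)
include h

theorem cj_of_nbr {a b : G} (ha : orderOf a = 3) (hb : orderOf b = 3) (ht : tt ρ a b = -1) : Cj a b :=
  ⟨a * b * a, mul_mem (mul_mem (mem_N3 ha) (mem_N3 hb)) (mem_N3 ha), h.nbr_conj_eq ha hb ht⟩

theorem cj_of_sq {a b : G} (ha : orderOf a = 3) (hb : orderOf b = 3) (ht : tt ρ a b * tt ρ a b = 5) : Cj a b := by
  obtain ⟨h1, h2⟩ := h.step0 ha hb ht
  have hu : orderOf ((a * b) * a⁻¹ * (a * b)⁻¹) = 3 := order_conj (order_inv ha) _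
  exact (cj_of_nbr h hu ha h1).symm.trans (cj_of_nbr h hu hb h2)

/-- all elements of order three are conjugate -/
theorem cj_all {v w : G} (hv : orderOf v = 3) (hw : orderOf w = 3) (ht : tt ρ v w * tt ρ v w = 5) {a b : G}
    (ha : orderOf a = 3) (hb : orderOf b = 3) : Cj a b := by
  have hww : Cj w w⁻¹ := by
    refine (cj_of_sq h hv hw ht).symm.trans (cj_of_sq h hv (order_inv hw) ?_)
    rw [h.tt_inv_right hv hw, neg_mul_neg]; exact ht
  have key : ∀ {b : G}, orderOf b = 3 → Cj w b := by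
    intro b hb
    rcases (h.rel hw hb).2 with h1 | h1 | h1 | h1 | h1
    · rw [h.hat_inj h1]; exact Cj.refl _
    · rw [← h.hat_inv hb] at h1
      have : b = w⁻¹ := by rw [h.hat_inj h1, inv_inv]
      rw [this]; exact hww
    · have := (cj_of_nbr h hw (order_inv hb) (by rw [h.tt_inv_right hw hb, h1])).inv
      rw [inv_inv] at this
      exact hww.trans this
    · exact cj_of_nbr h hw hb h1
    · exact cj_of_sq h hw hb h1
  exact (key ha).symm.trans (key hb)

variable [Nontrivial R]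

/-- a `-1` pair with a standard element -/
theorem exists_std {v w : G} (hv : orderOf v = 3) (hw : orderOf w = 3) (ht : tt ρ v w * tt ρ v w = 5) :
    ∃ (a c d : G) (f : R), orderOf a = 3 ∧ orderOf c = 3 ∧ orderOf d = 3 ∧ tt ρ a c = -1 ∧ Std ρ a c d f := by
  have hch : CharZero R := h.tf.charZero
  obtain ⟨h1, h2⟩ := h.step0 hv hw ht
  have hu : orderOf ((v * w) * v⁻¹ * (v * w)⁻¹) = 3 := order_conj (order_inv hv) _
  generalize (v * w) * v⁻¹ * (v * w)⁻¹ = u at *
  have hvv : ∀ n : ℤ, n * n ≠ 5 → tt ρ w v ≠ n := by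
    intro n hn h3
    rw [h.tt_comm hv hw, h3] at ht
    exact ne_five hn ht
  obtain ⟨h5, h6⟩ := h.tt_conj_neighbour hu hw h2
  rcases h.line hu hw hv h2 h1 with h3 | h3 | h3 | ⟨f, h3 | h3 | h3⟩
  · exfalso
    rw [h3] at hvv
    exact hvv 3 (by norm_num) (by rw [h.tt_self hw]; norm_num)
  · exfalso
    rw [h3] at hvv
    exact hvv (-1) (by norm_num) (by rw [h5]; norm_num)
  · exfalso
    rw [h3] at hvv
    exact hvv (-1) (by norm_num) (by rw [h6]; norm_num)
  · exact ⟨u, w, v, f, hu, hw, hv, h2, h3⟩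
  · exact ⟨u, w, _, f, hu, hw, order_conj' hv u, h2, h3⟩
  · exact ⟨u, w, _, f, hu, hw, order_conj hv u, h2, h3⟩

omit h [Nontrivial R] in
theorem commute_map {g x : G} (hx : g * x = x * g) : ρ g * ρ x = ρ x * ρ g := by
  rw [← map_mul, hx, map_mul]

/-- an element commuting with `a` and `c` centralizes all elements of order three -/
theorem mem_K0_of_commute {a c d g : G} {f : R} (ha : orderOf a = 3) (hc : orderOf c = 3) (hd : orderOf d = 3)
    (hac : tt ρ a c = -1) (hs : Std ρ a c d f) (hga : g * a = a * g) (hgc : g * c = c * g) : g ∈ K0 G := by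
  have hgi : g * (a * c * a) = (a * c * a) * g := by
    calc g * (a * c * a) = (g * a) * c * a := by group
      _ = a * (g * c) * a := by rw [hga]; group
      _ = a * c * (g * a) := by rw [hgc]; group
      _ = _ := by rw [hga]; group
  have hgai : g * a⁻¹ = a⁻¹ * g := (show Commute g a from hga).inv_right.eq
  have hgj : g * (c * a⁻¹) = (c * a⁻¹) * g := by
    rw [← mul_assoc, hgc, mul_assoc, hgai, mul_assoc]
  have e1 := map_mul_inv (ρ := ρ) g
  have e2 := map_inv_mul (ρ := ρ) g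
  obtain ⟨hf, cf, hD⟩ := hs
  have hs' : Std ρ a c (g * d * g⁻¹) (ρ g * f * ρ g⁻¹) := by
    have ci := commute_map (ρ := ρ) hgi
    have cj := commute_map (ρ := ρ) hgj
    have ci' : ρ g⁻¹ * ρ (a * c * a) = ρ (a * c * a) * ρ g⁻¹ :=
      commute_map (ρ := ρ) (show Commute g (a * c * a) from hgi).inv_left.eq
    have cj' : ρ g⁻¹ * ρ (c * a⁻¹) = ρ (c * a⁻¹) * ρ g⁻¹ :=
      commute_map (ρ := ρ) (show Commute g (c * a⁻¹) from hgj).inv_left.eq
    refine ⟨?_, ⟨?_, ?_⟩, ?_⟩
    · calc ρ g * f * ρ g⁻¹ * (ρ g * f * ρ g⁻¹) = ρ g * f * (ρ g⁻¹ * ρ g) * f * ρ g⁻¹ := by simp only [mul_assoc]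
        _ = ρ g * (f * f) * ρ g⁻¹ := by rw [e2, mul_one, mul_assoc (ρ g) f f]
        _ = 5 := by
          rw [hf]
          have := (Nat.cast_commute 5 (ρ g)).eq
          push_cast at this
          rw [← this, mul_assoc, e1, mul_one]
    · calc ρ (a * c * a) * (ρ g * f * ρ g⁻¹) = (ρ (a * c * a) * ρ g) * f * ρ g⁻¹ := by simp only [mul_assoc]
        _ = ρ g * (ρ (a * c * a) * f) * ρ g⁻¹ := by rw [← ci]; simp only [mul_assoc]
        _ = ρ g * f * (ρ (a * c * a) * ρ g⁻¹) := by rw [cf.1]; simp only [mul_assoc]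
        _ = _ := by rw [← ci']; simp only [mul_assoc]
    · calc ρ (c * a⁻¹) * (ρ g * f * ρ g⁻¹) = (ρ (c * a⁻¹) * ρ g) * f * ρ g⁻¹ := by simp only [mul_assoc]
        _ = ρ g * (ρ (c * a⁻¹) * f) * ρ g⁻¹ := by rw [← cj]; simp only [mul_assoc]
        _ = ρ g * f * (ρ (c * a⁻¹) * ρ g⁻¹) := by rw [cf.2]; simp only [mul_assoc]
        _ = _ := by rw [← cj']; simp only [mul_assoc]
    · rw [hat_conj, two_mul_conj, hD]
      generalize ρ (a * c * a) = i at *
      generalize ρ (c * a⁻¹) = j at *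
      simp only [ZasQuat.mk, zero_mul, zero_add, add_zero]
      calc ρ g * ((f - 1) * j + (-f - 1) * (i * j)) * ρ g⁻¹
          = ρ g * (f - 1) * (j * ρ g⁻¹) + ρ g * (-f - 1) * i * (j * ρ g⁻¹) := by noncomm_ring
        _ = ρ g * (f - 1) * (ρ g⁻¹ * j) + ρ g * (-f - 1) * (i * ρ g⁻¹) * j := by rw [← cj']; noncomm_ring
        _ = ρ g * (f - 1) * ρ g⁻¹ * j + ρ g * (-f - 1) * ρ g⁻¹ * (i * j) := by rw [← ci']; noncomm_ring
        _ = (ρ g * f * ρ g⁻¹ - ρ g * ρ g⁻¹) * j + (-(ρ g * f * ρ g⁻¹) - ρ g * ρ g⁻¹) * (i * j) := by noncomm_ring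
        _ = _ := by rw [e1]
  have hgd := h.std_uniq ha hc hac (order_conj hd g) hd hs' ⟨hf, cf, hD⟩
  have hgd' : g * d = d * g := mul_inv_eq_iff_eq_mul.1 hgd
  have htt := h.tt_std ha hc hd hac ⟨hf, cf, hD⟩
  rw [mem_K0]
  intro e he
  have h5 : e ∈ closure {d, a⁻¹ * c * a} :=
    h.mem_of_pair hd (order_conj' hc a) he (by rw [htt]; exact hf) (subset_closure (Or.inl rfl))
      (subset_closure (Or.inr rfl))
  have h6 : closure {d, a⁻¹ * c * a} ≤ centralizer {g} := by
    rw [closure_le]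
    rintro s (rfl | rfl)
    · exact mem_centralizer_singleton_iff.2 hgd'.symm
    · apply mem_centralizer_singleton_iff.2
      calc a⁻¹ * c * a * g = a⁻¹ * c * (a * g) := by group
        _ = a⁻¹ * (c * g) * a := by rw [← hga]; group
        _ = (a⁻¹ * g) * c * a := by rw [← hgc]; group
        _ = g * (a⁻¹ * c * a) := by rw [← hgai]; group
  exact (mem_centralizer_singleton_iff.1 (h6 h5)).symm

/-- the two types of elements -/
theorem two_types {a c d g : G} {f : R} (ha : orderOf a = 3) (hc : orderOf c = 3) (hd : orderOf d = 3)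
    (hac : tt ρ a c = -1) (hs : Std ρ a c d f) :
    ∃ n ∈ N3 G, (n * g) * a = a * (n * g) ∧
      ((n * g) * c * (n * g)⁻¹ = c ∨ (n * g) * c * (n * g)⁻¹ = d) := by
  have htt := h.tt_std ha hc hd hac hs
  have hall := cj_all h hd (order_conj' hc a) (by rw [htt]; exact hs.1) (order_conj ha g) ha
  obtain ⟨n, hn, hna⟩ := hall
  have hna' : (n * g) * a * (n * g)⁻¹ = a := by
    calc (n * g) * a * (n * g)⁻¹ = n * (g * a * g⁻¹) * n⁻¹ := by group
      _ = a := hna
  have hnb : tt ρ a ((n * g) * c * (n * g)⁻¹) = -1 := by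
    have : tt ρ ((n * g) * a * (n * g)⁻¹) ((n * g) * c * (n * g)⁻¹) = ((-1 : ℤ) : R) := by
      rw [tt_conj_eq, hac]; norm_num
    rw [hna'] at this
    rw [this]; norm_num
  have haN := mem_N3 ha
  have hcom : (n * g) * a = a * (n * g) := mul_inv_eq_iff_eq_mul.1 hna'
  rcases h.line ha hc (order_conj hc (n * g)) hac hnb with h1 | h1 | h1 | ⟨f', h1 | h1 | h1⟩
  · exact ⟨n, hn, hcom, Or.inl h1⟩
  · refine ⟨a * n, mul_mem haN hn, ?_, Or.inl ?_⟩
    · calc a * n * g * a = a * ((n * g) * a) := by group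
        _ = _ := by rw [hcom]; group
    · calc a * n * g * c * (a * n * g)⁻¹ = a * ((n * g) * c * (n * g)⁻¹) * a⁻¹ := by group
        _ = c := by rw [h1]; group
  · refine ⟨a⁻¹ * n, mul_mem (inv_mem haN) hn, ?_, Or.inl ?_⟩
    · calc a⁻¹ * n * g * a = a⁻¹ * ((n * g) * a) := by group
        _ = _ := by rw [hcom]; group
    · calc a⁻¹ * n * g * c * (a⁻¹ * n * g)⁻¹ = a⁻¹ * ((n * g) * c * (n * g)⁻¹) * a := by group
        _ = c := by rw [h1]; group
  · exact ⟨n, hn, hcom, Or.inr (h.std_uniq ha hc hac (order_conj hc _) hd h1 hs)⟩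
  · have h2 := h.std_uniq ha hc hac (order_conj' (order_conj hc _) a) hd h1 hs
    refine ⟨a⁻¹ * n, mul_mem (inv_mem haN) hn, ?_, Or.inr ?_⟩
    · calc a⁻¹ * n * g * a = a⁻¹ * ((n * g) * a) := by group
        _ = _ := by rw [hcom]; group
    · calc a⁻¹ * n * g * c * (a⁻¹ * n * g)⁻¹ = a⁻¹ * ((n * g) * c * (n * g)⁻¹) * a := by group
        _ = d := h2
  · have h2 := h.std_uniq ha hc hac (order_conj (order_conj hc _) a) hd h1 hs
    refine ⟨a * n, mul_mem haN hn, ?_, Or.inr ?_⟩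
    · calc a * n * g * a = a * ((n * g) * a) := by group
        _ = _ := by rw [hcom]; group
    · calc a * n * g * c * (a * n * g)⁻¹ = a * ((n * g) * c * (n * g)⁻¹) * a⁻¹ := by group
        _ = d := h2

theorem index_le_two {v w : G} (hv : orderOf v = 3) (hw : orderOf w = 3) (ht : tt ρ v w * tt ρ v w = 5) :
    (N3 G ⊔ K0 G).index = 1 ∨ (N3 G ⊔ K0 G).index = 2 := by
  obtain ⟨a, c, d, f, ha, hc, hd, hac, hs⟩ := exists_std h hv hw ht
  have hNle : N3 G ≤ N3 G ⊔ K0 G := le_sup_left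
  have hCle : K0 G ≤ N3 G ⊔ K0 G := le_sup_right
  by_cases htop : N3 G ⊔ K0 G = ⊤
  · left; rw [htop, index_top]
  · right
    -- elements outside
    have key : ∀ g : G, g ∉ N3 G ⊔ K0 G → ∃ n ∈ N3 G, (n * g) * a = a * (n * g) ∧ (n * g) * c * (n * g)⁻¹ = d := by
      intro g hg
      obtain ⟨n, hn, h1, h2 | h2⟩ := two_types h (g := g) ha hc hd hac hs
      · exfalso
        apply hg
        have h3 := mem_K0_of_commute h ha hc hd hac hs h1 (mul_inv_eq_iff_eq_mul.1 h2)
        have : g = n⁻¹ * (n * g) := by group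
        rw [this]
        exact mul_mem (hNle (inv_mem hn)) (hCle h3)
      · exact ⟨n, hn, h1, h2⟩
    have key2 : ∀ g g' : G, g ∉ N3 G ⊔ K0 G → g' ∉ N3 G ⊔ K0 G → g⁻¹ * g' ∈ N3 G ⊔ K0 G := by
      intro g g' hg hg'
      obtain ⟨n, hn, h1, h2⟩ := key g hg
      obtain ⟨n', hn', h1', h2'⟩ := key g' hg'
      have h3 : (n * g)⁻¹ * (n' * g') ∈ K0 G := by
        apply mem_K0_of_commute h ha hc hd hac hs
        · exact ((show Commute (n * g) a from h1).inv_left.mul_left (show Commute (n' * g') a from h1')).eq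
        · have e1 : (n' * g') * c = d * (n' * g') := mul_inv_eq_iff_eq_mul.1 h2'
          have e2 : (n * g)⁻¹ * d = c * (n * g)⁻¹ := by
            have e3 : (n * g) * c = d * (n * g) := mul_inv_eq_iff_eq_mul.1 h2
            rw [inv_mul_eq_iff_eq_mul, ← mul_assoc, e3, mul_inv_cancel_right]
          rw [mul_assoc, e1, ← mul_assoc, e2, mul_assoc]
      have h4 : g⁻¹ * g' = (g⁻¹ * (n'⁻¹ * n) * g) * ((n * g)⁻¹ * (n' * g')) := by group
      rw [h4]
      refine mul_mem (hNle ?_) (hCle h3)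
      have := (inferInstance : (N3 G).Normal).conj_mem (n'⁻¹ * n) (mul_mem (inv_mem hn') hn) g⁻¹
      rwa [inv_inv] at this
    obtain ⟨g, -, hg⟩ := SetLike.exists_of_lt (lt_top_iff_ne_top.2 htop)
    rw [index_eq_two_iff]
    refine ⟨g⁻¹, fun b => ?_⟩
    by_cases hb : b ∈ N3 G ⊔ K0 G
    · right
      refine ⟨hb, fun h0 => hg ?_⟩
      have := mul_mem (inv_mem hb) h0
      rw [inv_mul_cancel_left] at this
      exact (inv_mem_iff).1 this
    · left
      refine ⟨?_, hb⟩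
      have := key2 b⁻¹ g⁻¹ (fun h0 => hb (inv_mem_iff.1 h0)) (fun h0 => hg (inv_mem_iff.1 h0))
      rwa [inv_inv] at this

end

end Cfsg.Agent.Lib.FrobStruct
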