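import Cfsg.Agent.Lib.FrobStruct

/-!
# Structure of non-solvable groups acting fixed-point-freely: the centralizer
-/

set_option autoImplicit false
set_option linter.unusedSimpArgs false
open Cfsg Subgroup

namespace Cfsg.Agent.Lib.FrobStruct

open FrobExist FrobAction FrobAction3 ZasGroup FrobSolv ZasQuat

variable {G : Type*} [Group G] {R : Type*} [Ring R] {ρ : G →* R}

theorem commute_of_mem {s x : G} (hs : s ∈ N3 G) (hx : x ∈ K0 G) : s * x = x * s := by
  have : N3 G ≤ centralizer {x} := by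
    unfold N3
    rw [closure_le]
    intro e he
    exact mem_centralizer_singleton_iff.2 (mem_K0.1 hx e he).symm
  exact mem_centralizer_singleton_iff.1 (this hs)

theorem card_coprime_of_not_dvd {m : ℕ} (h2 : ¬ 2 ∣ m) (h3 : ¬ 3 ∣ m) (h5 : ¬ 5 ∣ m) : m.Coprime 30 := by
  have e : (30 : ℕ) = 2 * 3 * 5 := by norm_num
  rw [e]
  apply Nat.Coprime.mul_right
  · apply Nat.Coprime.mul_right
    · exact ((Nat.Prime.coprime_iff_not_dvd Nat.prime_two).2 h2).symm
    · exact ((Nat.Prime.coprime_iff_not_dvd Nat.prime_three).2 h3).symm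
  · exact ((Nat.Prime.coprime_iff_not_dvd Nat.prime_five).2 h5).symm

section

variable (h : ZCfg ρ) [Nontrivial R] [Finite G]
include h

/-- elements of 2-power order in the centralizer -/
theorem two_element {v w z t : G} (hv : orderOf v = 3) (hw : orderOf w = 3) (hvw : tt ρ v w * tt ρ v w = 5)
    (hz : ρ z = -1) (ht : t ∈ K0 G) {k : ℕ} (hk : orderOf t = 2 ^ k) : t = 1 ∨ t = z := by
  have hch : CharZero R := h.tf.charZero
  have hz' : ∀ t : G, ρ t = -1 → t = z := fun t ht => h.inj (by rw [ht, hz])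
  rcases (by omega : k = 0 ∨ k = 1 ∨ 2 ≤ k) with h0 | h1 | h2
  · left; rw [h0, pow_zero] at hk; exact orderOf_eq_one_iff.1 hk
  · right
    rw [h1, pow_one] at hk
    apply hz'
    apply h.neg1 t
    · rw [← pow_two, ← hk]; exact pow_orderOf_eq_one t
    · rintro rfl; rw [orderOf_one] at hk; omega
  · exfalso
    -- an element of order four
    have h4 : orderOf (t ^ 2 ^ (k - 2)) = 4 := by
      have e : 2 ^ k = 2 ^ (k - 2) * 4 := by
        conv_lhs => rw [show k = (k - 2) + 2 by omega, pow_add]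
        norm_num
      rw [orderOf_pow_of_dvd (by positivity) (by rw [hk, e]; exact Dvd.intro _ rfl), hk, e]
      exact Nat.mul_div_cancel_left _ (by positivity)
    have hsK : t ^ 2 ^ (k - 2) ∈ K0 G := pow_mem ht _
    generalize t ^ 2 ^ (k - 2) = s at *
    have hs2 : ρ (s * s) = -1 := by
      have hp := pow_orderOf_eq_one s
      rw [h4] at hp
      apply h.neg1
      · rw [← hp]; simp only [pow_succ, pow_zero, one_mul, mul_assoc]
      · intro h0
        rw [← pow_two] at h0
        have := orderOf_dvd_of_pow_eq_one h0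
        rw [h4] at this; omega
    obtain ⟨-, s2⟩ := h.step0 hv hw hvw
    have hu : orderOf ((v * w) * v⁻¹ * (v * w)⁻¹) = 3 := order_conj (order_inv hv) _
    generalize (v * w) * v⁻¹ * (v * w)⁻¹ = u at *
    obtain ⟨hq, -⟩ := h.quat hu hw s2
    have hu' := commute_of_mem (mem_N3 hu) hsK
    have hiN : u * w * u ∈ N3 G := mul_mem (mul_mem (mem_N3 hu) (mem_N3 hw)) (mem_N3 hu)
    have hjN : w * u⁻¹ ∈ N3 G := mul_mem (mem_N3 hw) (inv_mem (mem_N3 hu))
    have hi := commute_of_mem hiN hsK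
    have hj := commute_of_mem hjN hsK
    have i1 := hq.ii
    have j1 := hq.jj
    have k1 := hq.ji
    generalize u * w * u = i at *
    generalize w * u⁻¹ = j at *
    have hsi : ρ (s * i) = 1 ∨ ρ (s * i) = -1 := by
      by_cases h1 : s * i = 1
      · left; rw [h1, map_one]
      · right
        apply h.neg1 _ _ h1
        apply h.inj
        have e1 : s * i * (s * i) = (s * s) * (i * i) := by
          calc s * i * (s * i) = s * (i * s) * i := by group
            _ = _ := by rw [hi]; group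
        rw [e1, map_mul, hs2, map_mul, i1, map_one]; norm_num
    have hcomm : ρ i * ρ j = ρ j * ρ i := by
      have e1 : ρ (s * i) * ρ j = ρ j * ρ (s * i) := by
        rcases hsi with h1 | h1 <;> rw [h1] <;> simp
      have e3 : ρ (s⁻¹) * ρ j = ρ j * ρ s⁻¹ := by
        rw [← map_mul, ← map_mul, (show Commute s j from hj.symm).inv_left.eq]
      have e4 : ρ s⁻¹ * ρ (s * i) = ρ i := by rw [← map_mul, inv_mul_cancel_left]
      calc ρ i * ρ j = ρ s⁻¹ * ρ (s * i) * ρ j := by rw [e4]
        _ = ρ s⁻¹ * (ρ j * ρ (s * i)) := by rw [mul_assoc, e1]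
        _ = ρ j * (ρ s⁻¹ * ρ (s * i)) := by rw [← mul_assoc, e3, mul_assoc]
        _ = ρ j * ρ i := by rw [e4]
    rw [k1] at hcomm
    have h0 : (4 : R) = 0 := by
      have e1 : (2 : R) * (ρ i * ρ j) = 0 := by
        linear_combination (norm := (noncomm_ring; try norm_num)) hcomm
      have e2 : (2 : R) * (ρ i * ρ j) * ρ j * ρ i = 0 := by rw [e1]; simp
      have e3 : (2 : R) * (ρ i * ρ j) * ρ j * ρ i = 2 := by
        calc (2 : R) * (ρ i * ρ j) * ρ j * ρ i = 2 * (ρ i * (ρ j * ρ j) * ρ i) := by simp only [mul_assoc]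
          _ = 2 := by rw [j1, mul_neg, mul_one, neg_mul, i1]; norm_num
      rw [e3] at e2
      have : (4 : R) = 2 * 2 := by norm_num
      rw [this, e2]; simp
    norm_num at h0

/-- no elements of order three in the centralizer -/
theorem not_three_dvd {V : Type*} [CommGroup V] [Finite V] [Nontrivial V] {act : G →* MulAut V} (hf : IsFPF act)
    {v w : G} (hv : orderOf v = 3) (hw : orderOf w = 3) (hvw : tt ρ v w * tt ρ v w = 5) :
    ¬ 3 ∣ Nat.card (K0 G) := by
  have hch : CharZero R := h.tf.charZero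
  have f3 : Fact (Nat.Prime 3) := ⟨Nat.prime_three⟩
  intro h3
  obtain ⟨e, heK, he⟩ := three_dvd_exists (K0 G) h3
  rw [mem_K0] at heK
  have e1 := eq_or_inv_of_zpowers hv he (mem_zpowers_of_commute hf (show Commute v e from (heK v hv).symm) hv he)
  have e2 := eq_or_inv_of_zpowers hw he (mem_zpowers_of_commute hf (show Commute w e from (heK w hw).symm) hw he)
  have hs := h.tt_self he
  rcases e1 with e1 | e1 <;> rcases e2 with e2 | e2
  · rw [e1, e2, hs] at hvw; norm_num at hvw
  · rw [e1, e2, h.tt_inv_right he he, hs] at hvw; norm_num at hvw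
  · rw [e1, e2, h.tt_inv_left he he, hs] at hvw; norm_num at hvw
  · rw [e1, e2, h.tt_inv_left he (order_inv he), h.tt_inv_right he he, hs] at hvw; norm_num at hvw

theorem not_five_dvd {V : Type*} [CommGroup V] [Finite V] [Nontrivial V] {act : G →* MulAut V} (hf : IsFPF act)
    {v w : G} (hv : orderOf v = 3) (hw : orderOf w = 3) (hvw : tt ρ v w * tt ρ v w = 5) :
    ¬ 5 ∣ Nat.card (K0 G) := by
  have hch : CharZero R := h.tf.charZero
  have f5 : Fact (Nat.Prime 5) := ⟨Nat.prime_five⟩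
  intro h5
  obtain ⟨e, he⟩ := exists_prime_orderOf_dvd_card' (G := K0 G) 5 h5
  obtain ⟨r5, r2, r1⟩ := h.rel5 hv hw hvw
  have hs5 : orderOf ((v * w) ^ 2) = 5 := by
    apply orderOf_eq_prime _ r1
    apply h.inj
    rw [← pow_mul, mul_comm, pow_mul, map_pow, r5, map_one]; norm_num
  have hsN : (v * w) ^ 2 ∈ N3 G := pow_mem (mul_mem (mem_N3 hv) (mem_N3 hw)) 2
  have he' : orderOf (e : G) = 5 := by rw [← he]; exact (Subgroup.orderOf_coe e)
  have hmem := mem_zpowers_of_commute hf (show Commute _ _ from commute_of_mem hsN e.2) hs5 he'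
  have hsK : (v * w) ^ 2 ∈ K0 G := (zpowers_le.2 e.2) hmem
  have hc := mem_K0.1 hsK v hv
  generalize (v * w) ^ 2 = s at *
  -- `(v s)^4 = 1`
  have h4 : (v * s) ^ 4 = 1 := by
    apply h.inj
    rw [show 4 = 2 * 2 from rfl, pow_mul, map_pow, r2, map_one]; norm_num
  rw [(show Commute v s from hc.symm).mul_pow] at h4
  have hv3 := pow_orderOf_eq_one v
  rw [hv] at hv3
  have h6 : s ^ 12 = 1 := by
    have : (v ^ 4 * s ^ 4) ^ 3 = 1 := by rw [h4, one_pow]
    rw [((show Commute v s from hc.symm).pow_pow 4 4).mul_pow, ← pow_mul, ← pow_mul, show 4 * 3 = 3 * 4 from rfl,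
      pow_mul v, hv3, one_pow, one_mul] at this
    exact this
  have := orderOf_dvd_of_pow_eq_one h6
  rw [hs5] at this
  omega

/-- **Structure theorem** -/
theorem structure_thm {V : Type*} [CommGroup V] [Finite V] [Nontrivial V] {act : G →* MulAut V} (hf : IsFPF act)
    {v w : G} (hv : orderOf v = 3) (hw : orderOf w = 3) (hvw : tt ρ v w * tt ρ v w = 5) :
    ∃ M : Subgroup G, M.Normal ∧ M ≤ K0 G ∧ N3 G ⊔ M = N3 G ⊔ K0 G ∧ N3 G ⊓ M = ⊥ ∧ IsZGroup M ∧
      (Nat.card M).Coprime 30 ∧ ∀ x ∈ K0 G, ¬ 2 ∣ orderOf x → x ∈ M := by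
  have f2 : Fact (Nat.Prime 2) := ⟨Nat.prime_two⟩
  obtain ⟨r5, -, -⟩ := h.rel5 hv hw hvw
  have hzN : (v * w) ^ 5 ∈ N3 G := pow_mem (mul_mem (mem_N3 hv) (mem_N3 hw)) 5
  have hcard : Nat.card (N3 G) = 120 := (h.main_pair hv hw hvw).2
  generalize (v * w) ^ 5 = z at *
  have hzc : ∀ g : G, g * z = z * g := h.central r5
  have hzK : z ∈ K0 G := by
    rw [mem_K0]; intro e _; exact (hzc e).symm
  have hz1 : z ≠ 1 := h.sq_ne r5
  have htwo : ∀ t ∈ K0 G, ∀ k : ℕ, orderOf t = 2 ^ k → t = 1 ∨ t = z := fun t ht k hk =>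
    two_element h hv hw hvw r5 ht hk
  obtain ⟨P⟩ : Nonempty (Sylow 2 (K0 G)) := inferInstance
  have hP : ∀ t ∈ P, (t : G) = 1 ∨ (t : G) = z := by
    intro t ht
    obtain ⟨k, hk⟩ := (IsPGroup.iff_orderOf.mp P.2) ⟨t, ht⟩
    have hk' : orderOf t = 2 ^ k := by rw [← hk]; exact Subgroup.orderOf_coe (⟨t, ht⟩ : P)
    exact htwo t t.2 k (by rw [← hk']; exact Subgroup.orderOf_coe t)
  have hcyc : IsCyclic P := by
    rcases pgroup_cyclic_or_quaternion (hf.comp ((K0 G).subtype.comp (P : Subgroup (K0 G)).subtype)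
      ((K0 G).subtype_injective.comp (Subgroup.subtype_injective _))) P.2 with h1 | ⟨-, n, hn, ⟨e⟩⟩
    · exact h1
    · exfalso
      -- the quaternion group has an element which is not of order 2
      have h2 : ∀ t : P, t * t = 1 := by
        intro t
        apply Subtype.ext
        apply Subtype.ext
        have hzz : z * z = 1 := by
          apply h.inj; rw [map_mul, r5, map_one]; norm_num
        rcases hP t t.2 with h1 | h1
        · change ((t : K0 G) : G) * ((t : K0 G) : G) = 1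
          rw [h1, mul_one]
        · change ((t : K0 G) : G) * ((t : K0 G) : G) = 1
          rw [h1, hzz]
      have h3 := h2 (e.symm (QuaternionGroup.xa 0))
      rw [← map_mul, MulEquiv.map_eq_one_iff, QuaternionGroup.xa_mul_xa] at h3
      have h4 := orderOf_dvd_of_pow_eq_one (x := (QuaternionGroup.xa 0 : QuaternionGroup (2 ^ n))) (n := 2) (by
        rw [pow_two, QuaternionGroup.xa_mul_xa]; exact h3)
      have : NeZero (2 ^ n) := ⟨by positivity⟩
      rw [QuaternionGroup.orderOf_xa] at h4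
      omega
  have hzc' : (⟨z, hzK⟩ : K0 G) ∈ center (K0 G) := by
    rw [mem_center_iff]; intro g; exact Subtype.ext (hzc g)
  have hzP : (⟨z, hzK⟩ : K0 G) ∈ (P : Subgroup (K0 G)) := by
    have h1 : IsPGroup 2 (zpowers (⟨z, hzK⟩ : K0 G)) := by
      apply IsPGroup.of_card (n := 1)
      rw [Nat.card_zpowers, pow_one]
      apply orderOf_eq_prime
      · apply Subtype.ext
        apply h.inj
        change ρ (z ^ 2) = ρ 1
        rw [map_pow, r5, map_one]; norm_num
      · intro h0; exact hz1 (congrArg Subtype.val h0)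
    obtain ⟨Q, hQ⟩ := h1.exists_le_sylow
    obtain ⟨g, hg⟩ := MulAction.exists_smul_eq (K0 G) Q P
    have h2 : (⟨z, hzK⟩ : K0 G) ∈ (Q : Subgroup (K0 G)) := hQ (mem_zpowers _)
    have h3 : g * ⟨z, hzK⟩ * g⁻¹ = (⟨z, hzK⟩ : K0 G) := by
      rw [(mem_center_iff.1 hzc' g), mul_inv_cancel_right]
    have h4 : g * ⟨z, hzK⟩ * g⁻¹ ∈ ((g • Q : Sylow 2 (K0 G)) : Subgroup (K0 G)) := by
      rw [Sylow.coe_subgroup_smul]
      exact ⟨_, h2, rfl⟩
    rw [h3, hg] at h4
    exact h4
  have hcompl := CyclicSylow.hasNormalPComplement_of_central P _ hzc' hzP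
    (fun h0 => hz1 (congrArg Subtype.val h0))
  obtain ⟨N, hN, hNc⟩ := (PNilp.hasNormalPComplement_iff_sylow P).1 hcompl
  obtain ⟨hN2, m, hm⟩ := (PNilp.isComplement'_sylow_iff P N).mp hNc
  have hodd : ∀ x : K0 G, ¬ 2 ∣ orderOf x → x ∈ N := by
    intro x hx
    have h1 : (x : K0 G ⧸ N) ^ (2 ^ m) = 1 := by
      rw [← hm]; exact pow_card_eq_one'
    have h2 : orderOf (x : K0 G ⧸ N) ∣ 2 ^ m := orderOf_dvd_of_pow_eq_one h1
    have h3 : orderOf (x : K0 G ⧸ N) ∣ orderOf x := orderOf_map_dvd (QuotientGroup.mk' N) x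
    obtain ⟨j, -, hj⟩ := (Nat.dvd_prime_pow Nat.prime_two).1 h2
    rcases j with _ | j
    · rw [pow_zero] at hj
      exact (QuotientGroup.eq_one_iff x).1 (orderOf_eq_one_iff.1 hj)
    · exfalso
      rw [hj, pow_succ] at h3
      exact hx ((Dvd.intro_left _ rfl).trans h3)
  let M := N.map (K0 G).subtype
  have hMK : M ≤ K0 G := by
    rintro _ ⟨x, -, rfl⟩
    exact x.2
  have hMo : ∀ x ∈ K0 G, ¬ 2 ∣ orderOf x → x ∈ M := by
    intro x hx h2
    exact ⟨⟨x, hx⟩, hodd _ (by rwa [← Subgroup.orderOf_coe]), rfl⟩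
  have hMcard : Nat.card M = Nat.card N := Nat.card_congr (N.equivMapOfInjective _ (K0 G).subtype_injective).symm.toEquiv
  have hMo' : ∀ x ∈ M, ¬ 2 ∣ orderOf x := by
    intro x hx h2
    apply hN2
    rw [← hMcard]
    have := orderOf_dvd_natCard (⟨x, hx⟩ : M)
    rw [← Subgroup.orderOf_coe] at this
    exact h2.trans this
  have hMn : M.Normal := by
    refine ⟨fun x hx g => ?_⟩
    apply hMo _ (conj_mem_K0 (hMK hx) g)
    have : orderOf (g * x * g⁻¹) = orderOf x := by
      have : orderOf (MulAut.conj g x) = orderOf x :=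
        orderOf_injective (MulAut.conj g).toMonoidHom (MulAut.conj g).injective x
      rw [← this]; rfl
    rw [this]
    exact hMo' x hx
  have hdvdK : Nat.card M ∣ Nat.card (K0 G) := Subgroup.card_dvd_of_le hMK
  have h30 : (Nat.card M).Coprime 30 := by
    apply card_coprime_of_not_dvd
    · rw [hMcard]; exact hN2
    · intro h3; exact not_three_dvd h hf hv hw hvw (h3.trans hdvdK)
    · intro h5; exact not_five_dvd h hf hv hw hvw (h5.trans hdvdK)
  refine ⟨M, hMn, hMK, ?_, ?_, ?_, h30, hMo⟩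
  · apply le_antisymm
    · exact sup_le_sup_left hMK _
    · refine sup_le le_sup_left ?_
      intro x hx
      obtain ⟨⟨n, p⟩, hnp⟩ := (hNc.existsUnique (⟨x, hx⟩ : K0 G)).exists
      have hx' : x = ((n : K0 G) : G) * ((p : K0 G) : G) := by
        have := congrArg Subtype.val hnp
        exact this.symm
      rw [hx']
      refine mul_mem ((le_sup_right : M ≤ N3 G ⊔ M) ⟨n, n.2, rfl⟩) ((le_sup_left : N3 G ≤ N3 G ⊔ M) ?_)
      rcases hP p p.2 with h1 | h1
      · rw [h1]; exact one_mem _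
      · rw [h1]; exact hzN
  · apply Subgroup.inf_eq_bot_of_coprime
    rw [hcard]
    have e : (120 : ℕ) = 2 * 2 * 30 := by norm_num
    rw [e]
    have h2 : (Nat.card M).Coprime 2 := h30.coprime_dvd_right (by norm_num)
    exact ((h2.mul_right h2).mul_right h30).symm
  · exact isZGroup_of_odd (hf.comp M.subtype M.subtype_injective) (by rw [hMcard]; exact hN2)

end

end Cfsg.Agent.Lib.FrobStruct
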