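import Cfsg.Agent.Lib.NTISimple
import Cfsg.Agent.Lib.FrobNil
import Cfsg.Agent.Lib.MinNormSolv
import Cfsg.Agent.Lib.Cores3
import Cfsg.Agent.Lib.ZStarU
import Cfsg.Agent.Lib.CITMod

set_option autoImplicit false
set_option linter.all false

/-!
# Frobenius systems (helper6)
-/

namespace Cfsg.Agent.Lib.FrobSys

open Subgroup SylowRel StrongEmbPt Cfsg.Agent.Lib.CIT

variable {G : Type*} [Group G] [Finite G]

/-- maximal solvable -/
def MS (M : Subgroup G) : Prop := Group.IsSolvable M ∧ ∀ M' : Subgroup G, M < M' → ¬ Group.IsSolvable M'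

theorem exists_MS {X : Subgroup G} (hX : Group.IsSolvable X) : ∃ M : Subgroup G, MS M ∧ X ≤ M := by
  have hfin : ({K : Subgroup G | Group.IsSolvable K ∧ X ≤ K}).Finite := Set.toFinite _
  obtain ⟨M, hM1, hM2⟩ := hfin.exists_maximal ⟨X, hX, le_rfl⟩
  exact ⟨M, ⟨hM1.1, fun M' hlt hs => hlt.not_ge (hM2 ⟨hs, hM1.2.trans hlt.le⟩ hlt.le)⟩, hM1.2⟩

theorem MS.eq_of_le {M K : Subgroup G} (h : MS M) (hK : Group.IsSolvable K) (hle : M ≤ K) : M = K := by
  by_contra hne
  exact h.2 K (lt_of_le_of_ne hle hne) hK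

/-- the data at `M` -/
structure Dat (M K : Subgroup G) : Prop where
  le : K ≤ M
  nor : M ≤ normalizer (K : Set G)
  fpf : ∀ a ∈ M, a ∉ K → ∀ x ∈ K, x * a = a * x → x = 1
  ti : ∀ g : G, g ∉ M → K ⊓ cj g K = ⊥

theorem Dat.cent {M K : Subgroup G} (h : Dat M K) {x : G} (hx : x ∈ K) (hx1 : x ≠ 1) :
    centralizer ({x} : Set G) ≤ K := by
  intro y hy
  rw [mem_cent] at hy
  have hyM : y ∈ M := by
    by_contra hyM
    have h1 : x ∈ (K ⊓ cj y K : Subgroup G) := by
      refine ⟨hx, mem_cj.2 ?_⟩
      have : y⁻¹ * x * y = x := by rw [mul_assoc, ← hy, ← mul_assoc, inv_mul_cancel, one_mul]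
      rw [this]; exact hx
    rw [h.ti y hyM, mem_bot] at h1
    exact hx1 h1
  by_contra hyK
  exact hx1 (h.fpf y hyM hyK x hx hy.symm)

theorem Dat.hall {M K : Subgroup G} (h : Dat M K) {p : ℕ} [hp : Fact p.Prime] (hd : p ∣ Nat.card K) :
    ∃ P : Sylow p G, (P : Subgroup G) ≤ K := by
  obtain ⟨⟨x, hxK⟩, hx⟩ := exists_prime_orderOf_dvd_card' p hd
  rw [Subgroup.orderOf_mk] at hx
  have hx1 : x ≠ 1 := by rintro rfl; rw [orderOf_one] at hx; exact hp.out.one_lt.ne hx
  have hzp : IsPGroup p (zpowers x) := IsPGroup.of_card (n := 1) (by rw [Nat.card_zpowers, hx, pow_one])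
  obtain ⟨S, hS⟩ := hzp.exists_le_sylow
  have hxS : x ∈ (S : Subgroup G) := hS (mem_zpowers x)
  haveI : Nontrivial S := ⟨⟨⟨x, hxS⟩, 1, fun h => hx1 (congrArg Subtype.val h)⟩⟩
  haveI hc : Nontrivial (center S) := S.isPGroup'.center_nontrivial
  obtain ⟨⟨w, hw⟩, hw1⟩ := exists_ne (1 : center S)
  have hw1' : (w : G) ≠ 1 := by
    intro h1; apply hw1
    apply Subtype.ext; apply Subtype.ext; exact h1
  have hcw : ∀ s ∈ (S : Subgroup G), s * w = w * s := by
    intro s hs
    exact congrArg Subtype.val (mem_center_iff.1 hw ⟨s, hs⟩)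
  have hwK : (w : G) ∈ K := h.cent hxK hx1 (mem_cent.2 (hcw x hxS).symm)
  exact ⟨S, fun s hs => h.cent hwK hw1' (mem_cent.2 (hcw s hs))⟩

/-- `K` has index prime to `p` if `p` divides its order -/
theorem Dat.not_dvd {M K : Subgroup G} (h : Dat M K) {p : ℕ} [hp : Fact p.Prime] (hd : p ∣ Nat.card K) :
    ¬ p ∣ K.relIndex M := by
  obtain ⟨P, hP⟩ := h.hall hd
  intro h1
  exact P.not_dvd_index ((h1.trans (relIndex_dvd_index_of_le h.le)).trans (index_dvd_of_le hP))

theorem solvable_of_two_quot {N : Subgroup G} [N.Normal] (hodd : Odd (Nat.card N)) (hq : IsPGroup 2 (G ⧸ N)) :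
    Group.IsSolvable G := by
  haveI : Fact (Nat.Prime 2) := ⟨Nat.prime_two⟩
  have h1 : Group.IsSolvable N := Cfsg.Agent.S0205.result hodd
  haveI := hq.isNilpotent
  have h2 : Group.IsSolvable (G ⧸ N) := inferInstance
  exact solvable_of_quot h1 h2

/-- an abelian maximal solvable subgroup containing a Sylow 2-subgroup -/
theorem solvable_of_abelian {M : Subgroup G} (hM : MS M) (hc : IsMulCommutative M) (T : Sylow 2 G)
    (hT : (T : Subgroup G) ≤ M) : Group.IsSolvable G := by
  classical
  haveI : Fact (Nat.Prime 2) := ⟨Nat.prime_two⟩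
  have hcomm : ∀ a ∈ M, ∀ b ∈ M, a * b = b * a := by
    intro a ha b hb
    have := hc.is_comm.comm (⟨a, ha⟩ : M) ⟨b, hb⟩
    exact congrArg Subtype.val this
  set N := normalizer ((T : Subgroup G) : Set G) with hN
  have hMN : M ≤ N := by
    intro a ha
    rw [hN, mem_normalizer_iff]
    intro x
    constructor
    · intro hx
      rw [hcomm a ha x (hT hx), mul_assoc, mul_inv_cancel, mul_one]; exact hx
    · intro hx
      have h1 : x = a⁻¹ * (a * x * a⁻¹) * a := by group
      have h2 : a⁻¹ * (a * x * a⁻¹) * a = a * x * a⁻¹ := by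
        rw [hcomm a⁻¹ (M.inv_mem ha) _ (hT hx), mul_assoc, inv_mul_cancel, mul_one]
      rw [h1, h2]; exact hx
  have hNs : Group.IsSolvable N := by
    have hTN : (T : Subgroup G) ≤ N := le_normalizer
    haveI hn : ((T : Subgroup G).subgroupOf N).Normal := (normal_subgroupOf_iff_le_normalizer hTN).2 le_rfl
    have h1 : Group.IsSolvable ((T : Subgroup G).subgroupOf N) := by
      have hp : IsPGroup 2 ((T : Subgroup G).subgroupOf N) := T.isPGroup'.of_equiv (subgroupOfEquivOfLe hTN).symm
      haveI := hp.isNilpotent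
      infer_instance
    have h2 : Group.IsSolvable (N ⧸ (T : Subgroup G).subgroupOf N) := by
      apply Cfsg.Agent.S0205.result
      rw [← Nat.not_even_iff_odd, even_iff_two_dvd]
      intro h
      have h3 : (T : Subgroup G).relIndex N ∣ (T : Subgroup G).index := relIndex_dvd_index_of_le hTN
      exact T.not_dvd_index (h.trans h3)
    exact solvable_of_quot h1 h2
  have hMeq : M = N := hM.eq_of_le hNs hMN
  have hle : normalizer ((T : Subgroup G) : Set G) ≤ centralizer ((T : Subgroup G) : Set G) := by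
    intro x hx
    rw [mem_centralizer_iff]
    intro y hy
    have hx' : x ∈ M := by rw [hMeq]; exact hx
    exact hcomm y (hT hy) x hx'
  have hcomp := MonoidHom.ker_transferSylow_isComplement' T hle
  set K := (MonoidHom.transferSylow T hle).ker with hK
  haveI hKn : K.Normal := by rw [hK]; infer_instance
  have hidx : K.index = Nat.card T := by
    have h1 := hcomp.card_mul
    have h2 := K.card_mul_index
    rw [← h2] at h1
    exact (Nat.eq_of_mul_eq_mul_left Nat.card_pos h1).symm
  have hidx2 : (T : Subgroup G).index = Nat.card K := by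
    have h1 := hcomp.card_mul
    have h2 := (T : Subgroup G).card_mul_index
    rw [← h2, mul_comm (Nat.card K)] at h1
    exact (Nat.eq_of_mul_eq_mul_left Nat.card_pos h1).symm
  apply solvable_of_two_quot (N := K)
  · rw [← hidx2, ← Nat.not_even_iff_odd, even_iff_two_dvd]
    exact T.not_dvd_index
  · obtain ⟨k, hk⟩ := IsPGroup.iff_card.1 T.isPGroup'
    apply IsPGroup.of_card (n := k)
    rw [← hk, ← hidx]
    rfl

open Pointwise in
theorem conj_smul_eq (g : G) (K : Subgroup G) : (MulAut.conj g • K : Subgroup G) = cj g K := rfl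

section sys

variable (F : Subgroup G → Subgroup G)
  (h : ∀ M : Subgroup G, MS M → Dat M (F M) ∧ (F M ≠ ⊥ ∨ IsMulCommutative M))

include h

/-- no solvable normal subgroups -/
theorem no_normal (hns : ¬ Group.IsSolvable G) (N : Subgroup G) (hN : N.Normal) (hNs : Group.IsSolvable N) :
    N = ⊥ := by
  haveI : Fact (Nat.Prime 2) := ⟨Nat.prime_two⟩
  by_contra hNb
  obtain ⟨A, hA, hAb, hAN, hmin⟩ := Cfsg.Agent.Lib.Cores.exists_minNormal_le hN hNb
  haveI hAs : Group.IsSolvable A := by
    have : Group.IsSolvable (A.subgroupOf N) := inferInstance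
    exact Group.isSolvable_of_isSolvable_injective (f := (subgroupOfEquivOfLe hAN).symm.toMonoidHom)
      (subgroupOfEquivOfLe hAN).symm.injective
  obtain ⟨p, hp, hAc, -⟩ := MinNormSolv.elementary_of_minimal hAb hmin
  have hcomm : ∀ a ∈ A, ∀ b ∈ A, a * b = b * a := by
    intro a ha b hb
    have := hAc.is_comm.comm (⟨a, ha⟩ : A) ⟨b, hb⟩
    exact congrArg Subtype.val this
  let T : Sylow 2 G := default
  have hTs : Group.IsSolvable (T : Subgroup G) := by
    haveI := T.isPGroup'.isNilpotent
    infer_instance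
  obtain ⟨M, hM, hTM⟩ := exists_MS hTs
  have hAM : A ≤ M := by
    have h1 : Group.IsSolvable (M ⊔ A : Subgroup G) := by
      haveI hn : (A.subgroupOf (M ⊔ A)).Normal := hA.subgroupOf _
      haveI := hM.1
      have h2 : Group.IsSolvable (A.subgroupOf (M ⊔ A)) :=
        Group.isSolvable_of_isSolvable_injective (f := (subgroupOfEquivOfLe (le_sup_right : A ≤ M ⊔ A)).toMonoidHom)
          (subgroupOfEquivOfLe (le_sup_right : A ≤ M ⊔ A)).injective
      have h3 : Group.IsSolvable ((M ⊔ A : Subgroup G) ⧸ A.subgroupOf (M ⊔ A)) :=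
        Group.isSolvable_of_surjective (f := (QuotientGroup.quotientInfEquivProdNormalQuotient M A).toMonoidHom.comp
          (QuotientGroup.mk' _)) (by
            rw [MonoidHom.coe_comp]
            exact (QuotientGroup.quotientInfEquivProdNormalQuotient M A).surjective.comp (QuotientGroup.mk'_surjective _))
      exact solvable_of_quot h2 h3
    have h4 := hM.eq_of_le h1 le_sup_left
    rw [h4]; exact le_sup_right
  obtain ⟨hd, hor⟩ := h M hM
  rcases hor with hF | hc
  swap
  · exact hns (solvable_of_abelian hM hc T hTM)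
  have h1 : A ⊓ F M ≠ ⊥ := by
    intro h1
    obtain ⟨x, hx, hx1⟩ := exists_mem_ne_one hF
    apply hAb
    rw [eq_bot_iff]
    intro a ha
    have h2 : a * x * a⁻¹ * x⁻¹ ∈ (A ⊓ F M : Subgroup G) := by
      refine ⟨?_, ?_⟩
      · have : a * x * a⁻¹ * x⁻¹ = a * (x * a⁻¹ * x⁻¹) := by group
        rw [this]; exact A.mul_mem ha (hA.conj_mem _ (A.inv_mem ha) x)
      · exact (F M).mul_mem ((mem_normalizer_iff.1 (hd.nor (hAM ha)) x).1 hx) ((F M).inv_mem hx)
    rw [h1, mem_bot] at h2
    have h3 : a * x = x * a := by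
      rw [mul_inv_eq_one, mul_inv_eq_iff_eq_mul] at h2; exact h2
    have h4 : a ∈ F M := hd.cent hx hx1 (mem_cent.2 h3)
    have h5 : a ∈ (A ⊓ F M : Subgroup G) := ⟨ha, h4⟩
    rwa [h1] at h5
  obtain ⟨x, hx, hx1⟩ := exists_mem_ne_one h1
  have hAF : A ≤ F M := fun a ha => hd.cent hx.2 hx1 (mem_cent.2 (hcomm a ha x hx.1))
  have hMtop : M = ⊤ := by
    by_contra hM1
    obtain ⟨g, hg⟩ : ∃ g, g ∉ M := by
      by_contra hcon
      push Not at hcon
      exact hM1 (eq_top_iff.2 fun g _ => hcon g)
    apply hAb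
    rw [eq_bot_iff, ← hd.ti g hg]
    refine le_inf hAF ?_
    have := cj_mono (g := g) hAF
    rwa [cj_eq_of_normal hA] at this
  apply hns
  have h5 := hM.1
  rw [hMtop] at h5
  exact Group.isSolvable_of_surjective (f := (topEquiv (G := G)).toMonoidHom) (topEquiv (G := G)).surjective

/-- **the main step** -/
theorem exists_nti (hns : ¬ Group.IsSolvable G) : ∃ M H : Subgroup G, NTI M H ∧ Group.IsNilpotent H := by
  classical
  haveI : Fact (Nat.Prime 2) := ⟨Nat.prime_two⟩
  have hnn := no_normal F h hns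
  let T : Sylow 2 G := default
  have hTs : Group.IsSolvable (T : Subgroup G) := by
    haveI := T.isPGroup'.isNilpotent
    infer_instance
  obtain ⟨M, hM, hTM⟩ := exists_MS hTs
  obtain ⟨hd, hor⟩ := h M hM
  rcases hor with hF | hc
  swap
  · exact (hns (solvable_of_abelian hM hc T hTM)).elim
  have hMtop : M ≠ ⊤ := by
    intro hMtop
    apply hns
    have h5 := hM.1
    rw [hMtop] at h5
    exact Group.isSolvable_of_surjective (f := (topEquiv (G := G)).toMonoidHom) (topEquiv (G := G)).surjective
  have hevG : Even (Nat.card G) := by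
    by_contra h1
    exact hns (Cfsg.Agent.S0205.result (Nat.not_even_iff_odd.1 h1))
  by_cases h2 : 2 ∣ Nat.card (F M)
  · refine ⟨M, F M, ⟨hd.le, hd.nor, hd.ti, fun x hx hx1 => hd.cent hx hx1, ?_, even_iff_two_dvd.2 h2, hMtop⟩, ?_⟩
    · rw [← Nat.not_even_iff_odd, even_iff_two_dvd]
      exact hd.not_dvd h2
    · -- nilpotent
      set K := (F M).subgroupOf M with hK
      haveI hKn : K.Normal := (normal_subgroupOf_iff_le_normalizer hd.le).2 hd.nor
      have hKb : K ≠ ⊥ := by
        intro h3
        apply hF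
        rw [hK, subgroupOf_eq_bot] at h3
        exact disjoint_self.1 (h3.mono_right hd.le)
      have hC : ∀ k ∈ K, k ≠ 1 → Subgroup.centralizer ({k} : Set M) ≤ K := by
        intro k hk hk1 y hy
        rw [mem_subgroupOf] at hk ⊢
        apply hd.cent hk (fun h => hk1 (Subtype.ext h))
        rw [mem_cent] at hy ⊢
        exact congrArg Subtype.val hy
      have hKtop : K ≠ ⊤ := by
        intro h3
        have hle : M ≤ F M := by
          intro x hx
          have : (⟨x, hx⟩ : M) ∈ K := by rw [h3]; exact mem_top _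
          exact this
        have hMF : F M = M := le_antisymm hd.le hle
        have hfc : Cfsg.IsFrobeniusComplement M := by
          refine ⟨?_, hMtop, ?_⟩
          · intro h4; rw [hMF, h4] at hF; exact hF rfl
          · intro g hg
            have := hd.ti g hg
            rw [hMF] at this
            exact this
        obtain ⟨N, -, hN, hc⟩ := FrobThm.exists_kernel hfc
        have hcN : Nat.card N = M.index := by
          have h1 := hc.card_mul
          have h2 := M.card_mul_index
          rw [← h2, mul_comm (Nat.card M)] at h1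
          exact Nat.eq_of_mul_eq_mul_right Nat.card_pos h1
        have hNs : Group.IsSolvable N := Cfsg.Agent.S0205.result (by
          rw [hcN, ← Nat.not_even_iff_odd, even_iff_two_dvd]
          intro h4
          exact T.not_dvd_index (h4.trans (index_dvd_of_le hTM)))
        have hNb := hnn N hN hNs
        rw [hNb, Subgroup.card_bot] at hcN
        exact hMtop (Subgroup.index_eq_one.1 hcN.symm)
      have h4 := FrobNil.kernel_nilpotent K hKb hKtop hC
      exact Group.nilpotent_of_mulEquiv (subgroupOfEquivOfLe hd.le)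
  · exfalso
    -- unique involution
    have hTb : (T : Subgroup G) ≠ ⊥ := T.ne_bot_of_dvd_card (even_iff_two_dvd.1 hevG)
    have hTe : Even (Nat.card (T : Subgroup G)) := by
      obtain ⟨k, hk⟩ := IsPGroup.iff_card.1 T.isPGroup'
      rw [hk]
      refine (Nat.even_pow' ?_).2 even_two
      rintro rfl
      rw [pow_zero] at hk
      exact hTb (Subgroup.card_eq_one.1 hk)
    obtain ⟨t, ht, hto⟩ := exists_involution hTe
    have hoddF : Odd (Nat.card (F M)) := by
      rw [← Nat.not_even_iff_odd, even_iff_two_dvd]; exact h2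
    have hnotF : ∀ s : G, orderOf s = 2 → s ∉ F M := by
      intro s hs hsF
      have := odd_orderOf hoddF hsF
      rw [hs] at this
      exact absurd this (by decide)
    have hinv : ∀ s ∈ M, orderOf s = 2 → ∀ y ∈ F M, s * y * s⁻¹ = y⁻¹ := by
      intro s hsM hs
      have hsH : ∀ x ∈ F M, s * x * s⁻¹ ∈ F M := fun x hx => (mem_normalizer_iff.1 (hd.nor hsM) x).1 hx
      have hss := mul_self hs
      have hsi := inv_eq_self hs
      have hinj : Function.Injective (fun x : F M => (⟨(x : G)⁻¹ * (s * x * s⁻¹), (F M).mul_mem ((F M).inv_mem x.2) (hsH x x.2)⟩ : F M)) := by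
        intro a b hab
        have h1 : (a : G)⁻¹ * (s * a * s⁻¹) = (b : G)⁻¹ * (s * b * s⁻¹) := congrArg Subtype.val hab
        have h2 : s * ((a : G) * (b : G)⁻¹) * s⁻¹ = (a : G) * (b : G)⁻¹ := by
          calc s * ((a : G) * (b : G)⁻¹) * s⁻¹ = a * ((a : G)⁻¹ * (s * a * s⁻¹)) * (s * b * s⁻¹)⁻¹ := by group
            _ = a * ((b : G)⁻¹ * (s * b * s⁻¹)) * (s * b * s⁻¹)⁻¹ := by rw [h1]
            _ = _ := by group
        have h3 := hd.fpf s hsM (hnotF s hs) _ ((F M).mul_mem a.2 ((F M).inv_mem b.2)) (by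
          rw [mul_inv_eq_iff_eq_mul] at h2; exact h2.symm)
        exact Subtype.ext (mul_inv_eq_one.1 h3)
      have hsurj := Finite.surjective_of_injective hinj
      intro y hy
      obtain ⟨x, hx⟩ := hsurj ⟨y, hy⟩
      have h1 : (x : G)⁻¹ * (s * x * s⁻¹) = y := congrArg Subtype.val hx
      rw [← h1, hsi]
      calc s * ((x : G)⁻¹ * (s * x * s)) * s = s * (x : G)⁻¹ * s * x * (s * s) := by group
        _ = s * (x : G)⁻¹ * s * x := by rw [hss, mul_one]
        _ = s * (x : G)⁻¹ * s⁻¹ * x := by rw [hsi]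
        _ = ((x : G)⁻¹ * (s * x * s⁻¹))⁻¹ := by group
        _ = _ := by rw [hsi]
    have huniq : ∀ s ∈ (T : Subgroup G), orderOf s = 2 → s = t := by
      intro s hs hso
      have h3 : s * t ∈ F M := by
        by_contra h4
        obtain ⟨x, hx, hx1⟩ := exists_mem_ne_one hF
        apply hx1
        apply hd.fpf (s * t) (M.mul_mem (hTM hs) (hTM ht)) h4 x hx
        have h5 : s * t * x * (s * t)⁻¹ = x := by
          calc s * t * x * (s * t)⁻¹ = s * (t * x * t⁻¹) * s⁻¹ := by group
            _ = (s * x * s⁻¹)⁻¹ := by rw [hinv t (hTM ht) hto x hx]; group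
            _ = x := by rw [hinv s (hTM hs) hso x hx, inv_inv]
        rw [mul_inv_eq_iff_eq_mul] at h5
        exact h5.symm
      have h6 : s * t ∈ (T : Subgroup G) := T.mul_mem hs ht
      have h7 : s * t = 1 := by
        obtain ⟨k, hk⟩ := (IsPGroup.iff_orderOf.1 T.isPGroup') ⟨s * t, h6⟩
        rw [Subgroup.orderOf_mk] at hk
        have h8 := odd_orderOf hoddF h3
        rw [hk] at h8
        have hk0 : k = 0 := by
          by_contra h0
          exact (Nat.not_odd_iff_even.2 ((Nat.even_pow' h0).2 even_two)) h8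
        rw [hk0, pow_zero] at hk
        exact orderOf_eq_one_iff.1 hk
      rw [mul_eq_one_iff_eq_inv, inv_eq_self hto] at h7
      exact h7
    have hz := ZStarU.inZStar_of_sylow T (x := t) ht (by
      intro g hg
      apply huniq _ hg
      have := orderOf_injective (MulAut.conj g).toMonoidHom (MulAut.conj g).injective t
      rw [← hto, ← this]; simp)
    have hcore : Cfsg.pPrimeCore 2 G = ⊥ := by
      apply hnn
      · infer_instance
      · apply Cfsg.Agent.S0205.result
        exact Nat.coprime_two_right.1 (Cores.coprime_card_pPrimeCore 2 G)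
    have hcen : ∀ g : G, g * t * g⁻¹ = t := by
      intro g
      have h3 := hz g
      rw [hcore, mem_bot, mul_inv_eq_one] at h3
      exact h3
    have hzn : (zpowers t).Normal := by
      refine ⟨fun n hn g => ?_⟩
      obtain ⟨k, rfl⟩ := mem_zpowers_iff.1 hn
      rw [← conj_zpow, hcen g]
      exact zpow_mem (mem_zpowers t) k
    have h5 := hnn _ hzn (by infer_instance)
    rw [zpowers_eq_bot] at h5
    rw [h5, orderOf_one] at hto
    omega

end sys

end Cfsg.Agent.Lib.FrobSys
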