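import Mathlib.GroupTheory.SpecificGroups.Quaternion
import Mathlib.Data.ZMod.Basic

/-!
# Homomorphisms out of the generalized quaternion (dicyclic) groups
-/

set_option autoImplicit false

namespace Cfsg.Agent.Lib.QuatLift

variable {G : Type*} [Group G] (n : ℕ) (α χ : G)

/-- the powers of `α`, indexed by `ZMod (2 * n)` -/
def pw (h1 : α ^ (2 * n) = 1) : ZMod (2 * n) →+ Additive G :=
  ZMod.lift (2 * n) ⟨zmultiplesHom (Additive G) (Additive.ofMul α), by
    rw [zmultiplesHom_apply]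
    change Additive.ofMul (α ^ ((2 * n : ℕ) : ℤ)) = 0
    rw [zpow_natCast, h1]; rfl⟩

theorem pw_intCast (h1 : α ^ (2 * n) = 1) (k : ℤ) :
    (pw n α h1 (k : ZMod (2 * n))).toMul = α ^ k := by
  unfold pw
  rw [ZMod.lift_coe]
  rfl

theorem pw_natCast (h1 : α ^ (2 * n) = 1) (k : ℕ) :
    (pw n α h1 (k : ZMod (2 * n))).toMul = α ^ k := by
  have := pw_intCast n α h1 (k : ℤ)
  rw [Int.cast_natCast, zpow_natCast] at this
  exact this

theorem pw_semiconj (h1 : α ^ (2 * n) = 1) (h3 : α * χ = χ * α⁻¹) (i : ZMod (2 * n)) :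
    (pw n α h1 i).toMul * χ = χ * ((pw n α h1 i).toMul)⁻¹ := by
  obtain ⟨k, rfl⟩ := ZMod.intCast_surjective i
  rw [pw_intCast]
  have h : SemiconjBy χ α⁻¹ α := h3.symm
  have h4 := h.zpow_right k
  rw [inv_zpow] at h4
  exact h4.eq.symm

theorem pw_add (h1 : α ^ (2 * n) = 1) (i j : ZMod (2 * n)) :
    (pw n α h1 (i + j)).toMul = (pw n α h1 i).toMul * (pw n α h1 j).toMul := by
  rw [map_add]; rfl

theorem pw_sub (h1 : α ^ (2 * n) = 1) (i j : ZMod (2 * n)) :
    (pw n α h1 (i - j)).toMul = (pw n α h1 i).toMul * ((pw n α h1 j).toMul)⁻¹ := by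
  rw [map_sub, toMul_sub, div_eq_mul_inv]

theorem pw_comm (h1 : α ^ (2 * n) = 1) (i j : ZMod (2 * n)) :
    (pw n α h1 i).toMul * (pw n α h1 j).toMul = (pw n α h1 j).toMul * (pw n α h1 i).toMul := by
  rw [← pw_add, ← pw_add, add_comm]

/-- the underlying function of the lift -/
def liftFun (h1 : α ^ (2 * n) = 1) : QuaternionGroup n → G
  | QuaternionGroup.a i => (pw n α h1 i).toMul
  | QuaternionGroup.xa i => χ * (pw n α h1 i).toMul

/-- The homomorphism `a ↦ α`, `x ↦ χ`. -/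
def lift (h1 : α ^ (2 * n) = 1) (h2 : χ * χ = α ^ n) (h3 : α * χ = χ * α⁻¹) :
    QuaternionGroup n →* G where
  toFun := liftFun n α χ h1
  map_one' := by
    rw [QuaternionGroup.one_def]
    change (pw n α h1 0).toMul = 1
    rw [map_zero]; rfl
  map_mul' := by
    rintro (i | i) (j | j)
    · rw [QuaternionGroup.a_mul_a]
      exact pw_add n α h1 i j
    · rw [QuaternionGroup.a_mul_xa]
      change χ * (pw n α h1 (j - i)).toMul = (pw n α h1 i).toMul * (χ * (pw n α h1 j).toMul)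
      rw [← mul_assoc, pw_semiconj n α χ h1 h3, pw_sub, mul_assoc]
      congr 1
      have := pw_comm n α h1 i j
      rw [eq_inv_mul_iff_mul_eq, ← mul_assoc, this, mul_inv_cancel_right]
    · rw [QuaternionGroup.xa_mul_a]
      change χ * (pw n α h1 (i + j)).toMul = (χ * (pw n α h1 i).toMul) * (pw n α h1 j).toMul
      rw [pw_add, mul_assoc]
    · rw [QuaternionGroup.xa_mul_xa]
      change (pw n α h1 ((n : ZMod (2 * n)) + j - i)).toMul =
        (χ * (pw n α h1 i).toMul) * (χ * (pw n α h1 j).toMul)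
      have e1 : (χ * (pw n α h1 i).toMul) * (χ * (pw n α h1 j).toMul) =
          (χ * χ) * (((pw n α h1 i).toMul)⁻¹ * (pw n α h1 j).toMul) := by
        have := pw_semiconj n α χ h1 h3 i
        calc (χ * (pw n α h1 i).toMul) * (χ * (pw n α h1 j).toMul)
            = χ * ((pw n α h1 i).toMul * χ) * (pw n α h1 j).toMul := by group
          _ = χ * (χ * ((pw n α h1 i).toMul)⁻¹) * (pw n α h1 j).toMul := by rw [this]
          _ = _ := by group
      rw [e1, h2, pw_sub, pw_add, pw_natCast, mul_assoc]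
      congr 1
      have := pw_comm n α h1 i j
      rw [eq_inv_mul_iff_mul_eq, ← mul_assoc, this, mul_inv_cancel_right]

@[simp] theorem lift_a (h1 : α ^ (2 * n) = 1) (h2 : χ * χ = α ^ n) (h3 : α * χ = χ * α⁻¹)
    (i : ZMod (2 * n)) : lift n α χ h1 h2 h3 (QuaternionGroup.a i) = (pw n α h1 i).toMul := rfl

@[simp] theorem lift_xa (h1 : α ^ (2 * n) = 1) (h2 : χ * χ = α ^ n) (h3 : α * χ = χ * α⁻¹)
    (i : ZMod (2 * n)) : lift n α χ h1 h2 h3 (QuaternionGroup.xa i) = χ * (pw n α h1 i).toMul := rfl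

theorem pw_eq_pow_val [NeZero n] (h1 : α ^ (2 * n) = 1) (i : ZMod (2 * n)) :
    (pw n α h1 i).toMul = α ^ i.val := by
  have := pw_natCast n α h1 i.val
  rwa [ZMod.natCast_zmod_val] at this

end Cfsg.Agent.Lib.QuatLift
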