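import Cfsg.Agent.Lib.ZasGroup4
import Cfsg.Agent.Lib.SL25
import Cfsg.Agent.Lib.QuatLift

/-!
# Groups with a restricted representation: a pair with inner product of square 5 generates `SL(2,5)`
-/

set_option autoImplicit false
set_option linter.unusedSimpArgs false
set_option linter.unusedVariables false

namespace Cfsg.Agent.Lib.ZasGroup

open ZasQuat ZasLine

variable {G : Type*} {R : Type*} [Group G] [Ring R] {ρ : G →* R}

theorem q8_involution (z : QuaternionGroup 2) (hz : z * z = 1) (hz1 : z ≠ 1) : z = QuaternionGroup.a 2 := by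
  revert z; decide

/-- relations of `Q₈` with nontrivial square give order divisible by 8 -/
theorem eight_dvd {G : Type*} [Group G] [Finite G] {i j : G} (h1 : i * i = j * j) (h2 : i * j = j * i⁻¹)
    (h3 : i * i * i * i = 1) (h4 : i * i ≠ 1) : 8 ∣ Nat.card G := by
  have e1 : i ^ (2 * 2) = 1 := by
    rw [← h3]; simp only [pow_succ, pow_zero, one_mul, mul_assoc]
  have e2 : j * j = i ^ 2 := by rw [pow_two, h1]
  let f := QuatLift.lift 2 i j e1 e2 h2
  have hf : Function.Injective f := by
    rw [injective_iff_map_eq_one]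
    intro g hg
    by_contra hne
    -- some power of `g` is the involution
    have hker : g ∈ f.ker := hg
    have h5 : QuaternionGroup.a 2 ∈ f.ker := by
      by_cases hgg : g * g = 1
      · rw [← q8_involution g hgg hne]; exact hker
      · have h6 : (g * g) * (g * g) = 1 := by
          have : ∀ g : QuaternionGroup 2, (g * g) * (g * g) = 1 := by decide
          exact this g
        rw [← q8_involution (g * g) h6 hgg]; exact mul_mem hker hker
    have h7 : f (QuaternionGroup.a 2) = 1 := h5
    have h8 : f (QuaternionGroup.a 2) = i ^ 2 := by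
      change (QuatLift.pw 2 i e1 (2 : ZMod (2 * 2))).toMul = i ^ 2
      have := QuatLift.pw_natCast 2 i e1 2
      exact this
    rw [h8, pow_two] at h7
    exact h4 h7
  have h9 : Nat.card (QuaternionGroup 2) ∣ Nat.card G := Subgroup.card_dvd_of_injective f hf
  have h10 : Nat.card (QuaternionGroup 2) = 8 := by
    rw [Nat.card_eq_fintype_card, QuaternionGroup.card]
  rwa [h10] at h9

theorem ZCfg.restrict (h : ZCfg ρ) (L : Subgroup G) : ZCfg (ρ.comp L.subtype) where
  tf := h.tf
  inj := h.inj.comp L.subtype_injective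
  quad := fun g hg => h.quad g (by rw [← hg]; exact Subgroup.orderOf_coe g)
  neg1 := fun g hg hg1 => h.neg1 g (by exact_mod_cast congrArg Subtype.val hg) (fun h0 => hg1 (Subtype.ext h0))
  tri := fun a c ha hc => by
    have := h.tri a c (by rw [← ha]; exact Subgroup.orderOf_coe a) (by rw [← hc]; exact Subgroup.orderOf_coe c)
    rcases this with h1 | h1 | h1
    · exact Or.inl (Subtype.ext h1)
    · exact Or.inr (Or.inl (Subtype.ext h1))
    · exact Or.inr (Or.inr h1)

section

variable (h : ZCfg ρ)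
include h

theorem ZCfg.rel5 [Nontrivial R] {a c : G} (ha : orderOf a = 3) (hc : orderOf c = 3) (ht : tt ρ a c * tt ρ a c = 5) :
    ρ ((a * c) ^ 5) = -1 ∧ ρ ((a * (a * c) ^ 2) ^ 2) = -1 ∧ (a * c) ^ 2 ≠ 1 := by
  have hch : CharZero R := h.tf.charZero
  have hdd := h.dd_of_tt ht
  have hd := h.dd_eq ha hc
  refine ⟨?_, ?_, ?_⟩
  · unfold dd at hdd
    have e1 := map_mul_inv (ρ := ρ) (a * c)
    have e2 := map_inv_mul (ρ := ρ) (a * c)
    rw [map_pow]
    generalize ρ (a * c) = W at *
    generalize ρ (a * c)⁻¹ = W' at *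
    have e3 : W ^ 4 - W ^ 3 + W ^ 2 - W + 1 = 0 := by
      have e4 : W * W * ((W + W') * (W + W')) = W * W * (W + W' + 1) := by rw [hdd]
      have e5 : W * W * ((W + W') * (W + W')) = W * W * W * W + W * W * (W * W') + W * W * (W' * W)
        + W * (W * W') * W' := by noncomm_ring
      have e6 : W * W * (W + W' + 1) = W * W * W + W * (W * W') + W * W := by noncomm_ring
      rw [e5, e6, e1, e2, mul_one, mul_one, e1] at e4
      linear_combination (norm := (noncomm_ring; try norm_num)) e4
    have : W ^ 5 = (W + 1) * (W ^ 4 - W ^ 3 + W ^ 2 - W + 1) - 1 := by noncomm_ring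
    rw [this, e3]; simp
  · generalize dd ρ a c = δ at hdd hd
    have haa := h.quad a ha
    have hcc := h.quad c hc
    have hca : ρ c * ρ a = δ - 1 - ρ a - ρ c - ρ a * ρ c := by
      linear_combination (norm := (noncomm_ring; try norm_num)) -hd
    have hda : ρ a * δ = δ * ρ a := by
      rw [hd]
      linear_combination (norm := (noncomm_ring; try norm_num)) haa * ρ c - ρ c * haa
    have hdc : ρ c * δ = δ * ρ c := by
      rw [hd]
      linear_combination (norm := (noncomm_ring; try norm_num)) hcc * ρ a - ρ a * hcc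
    have haa' : ∀ x, ρ a * (ρ a * x) = -(ρ a * x) - x := fun x => by
      rw [← mul_assoc, haa]; noncomm_ring
    have hcc' : ∀ x, ρ c * (ρ c * x) = -(ρ c * x) - x := fun x => by
      rw [← mul_assoc, hcc]; noncomm_ring
    have hca' : ∀ x, ρ c * (ρ a * x) = δ * x - x - ρ a * x - ρ c * x - ρ a * (ρ c * x) := fun x => by
      rw [← mul_assoc, hca]; noncomm_ring
    have hda' : ∀ x, ρ a * (δ * x) = δ * (ρ a * x) := fun x => by
      rw [← mul_assoc, hda, mul_assoc]
    have hdc' : ∀ x, ρ c * (δ * x) = δ * (ρ c * x) := fun x => by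
      rw [← mul_assoc, hdc, mul_assoc]
    have hdd' : ∀ x, δ * (δ * x) = δ * x + x := fun x => by
      rw [← mul_assoc, hdd]; noncomm_ring
    simp only [pow_two, map_mul, mul_add, add_mul, mul_sub, sub_mul, mul_neg, neg_mul, mul_one,
      one_mul, neg_neg, mul_assoc, haa, hcc, hca, haa', hcc', hca', hda, hdc, hda', hdc', hdd, hdd']
    abel
  · intro h1
    unfold dd at hdd
    have e1 : ρ (a * c) * ρ (a * c) = 1 := by rw [← map_mul, ← pow_two, h1, map_one]
    have e2 : (a * c)⁻¹ = a * c := inv_eq_of_mul_eq_one_left (by rw [← pow_two, h1])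
    rw [e2] at hdd
    generalize ρ (a * c) = W at *
    have e3 : 2 * W = 3 := by
      linear_combination (norm := (noncomm_ring; try norm_num)) -hdd + 4 * e1
    have e4 : (2 * W) * (2 * W) = 4 * (W * W) := by
      have := (Nat.cast_commute 2 W).eq
      push_cast at this
      rw [mul_assoc, ← mul_assoc W, ← this, mul_assoc 2 W, ← mul_assoc]
      norm_num
    rw [e3, e1] at e4
    norm_num at e4

theorem ZCfg.central {z : G} (hz : ρ z = -1) (g : G) : g * z = z * g := by
  apply h.inj
  rw [map_mul, map_mul, hz]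
  simp

theorem ZCfg.sq_ne {z : G} [Nontrivial R] (hz : ρ z = -1) : z ≠ 1 := by
  have hch : CharZero R := h.tf.charZero
  rintro rfl
  rw [map_one] at hz
  have : (2 : R) = 0 := by linear_combination (norm := (noncomm_ring; try norm_num)) hz
  norm_num at this

/-- **Recognition of `SL(2,5)`** -/
theorem ZCfg.equiv_SL25 [Nontrivial R] {a c : G} (ha : orderOf a = 3) (hc : orderOf c = 3)
    (ht : tt ρ a c * tt ρ a c = 5) (hgen : Subgroup.closure {a, c} = ⊤) :
    Nonempty (G ≃* Matrix.SpecialLinearGroup (Fin 2) (ZMod 5)) ∧ Nat.card G = 120 := by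
  have hch : CharZero R := h.tf.charZero
  obtain ⟨h5, h2, h1⟩ := h.rel5 ha hc ht
  have hz : ∀ z z' : G, ρ z = -1 → ρ z' = -1 → z = z' := fun z z' h1 h2 => h.inj (by rw [h1, h2])
  have hz1 : (a * c) ^ 5 ≠ 1 := h.sq_ne h5
  have hz2 : ((a * c) ^ 5) ^ 2 = 1 := by
    apply h.inj
    rw [map_pow, h5, map_one]; norm_num
  have hrel : SL25.Rel a ((a * c) ^ 2) ((a * c) ^ 5) :=
    { hx := by rw [← ha]; exact pow_orderOf_eq_one a
      hy := by rw [← pow_mul]; rw [← pow_mul] at hz2; exact hz2
      hz := hz2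
      hzx := h.central h5 a
      hzy := h.central h5 _
      hxy := hz _ _ h2 h5 }
  have hcl : Subgroup.closure {a, (a * c) ^ 2, (a * c) ^ 5} = ⊤ := by
    rw [eq_top_iff, ← hgen, Subgroup.closure_le]
    have m1 : a ∈ Subgroup.closure {a, (a * c) ^ 2, (a * c) ^ 5} := Subgroup.subset_closure (Or.inl rfl)
    have m2 : (a * c) ^ 2 ∈ Subgroup.closure {a, (a * c) ^ 2, (a * c) ^ 5} :=
      Subgroup.subset_closure (Or.inr (Or.inl rfl))
    have m3 : (a * c) ^ 5 ∈ Subgroup.closure {a, (a * c) ^ 2, (a * c) ^ 5} :=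
      Subgroup.subset_closure (Or.inr (Or.inr rfl))
    rintro s (rfl | rfl)
    · exact m1
    · have : s = a⁻¹ * ((a * s) ^ 5 * (((a * s) ^ 2) ^ 2)⁻¹) := by
        rw [← pow_mul, show 5 = 1 + 2 * 2 from rfl, pow_add, mul_inv_cancel_right, pow_one, inv_mul_cancel_left]
      have h6 : a⁻¹ * ((a * s) ^ 5 * (((a * s) ^ 2) ^ 2)⁻¹) ∈ Subgroup.closure {a, (a * s) ^ 2, (a * s) ^ 5} :=
        mul_mem (inv_mem m1) (mul_mem m3 (inv_mem (pow_mem m2 2)))
      rwa [← this] at h6
  obtain ⟨hfin, hle⟩ := hrel.card_le hcl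
  -- the order
  have d3 : 3 ∣ Nat.card G := by rw [← ha]; exact orderOf_dvd_natCard a
  have d5 : 5 ∣ Nat.card G := by
    have : Fact (Nat.Prime 5) := ⟨by norm_num⟩
    have : orderOf ((a * c) ^ 2) = 5 := orderOf_eq_prime hrel.hy h1
    rw [← this]; exact orderOf_dvd_natCard _
  have d8 : 8 ∣ Nat.card G := by
    obtain ⟨-, s2⟩ := h.step0 ha hc ht
    have hu : orderOf ((a * c) * a⁻¹ * (a * c)⁻¹) = 3 := order_conj (order_inv ha) _
    generalize (a * c) * a⁻¹ * (a * c)⁻¹ = u at *
    obtain ⟨hq, -⟩ := h.quat hu hc s2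
    have i1 := hq.ii
    have j1 := hq.jj
    have k1 := hq.ji
    rw [← map_mul] at i1 j1
    generalize u * c * u = i at *
    generalize c * u⁻¹ = j at *
    have ii : ρ (i * i) = -1 := i1
    refine eight_dvd (i := i) (j := j) (hz _ _ i1 j1) ?_ ?_ (h.sq_ne ii)
    · apply h.inj
      have hinv : ρ i⁻¹ = -ρ i := by
        have e3 := map_inv_mul (ρ := ρ) i
        rw [map_mul] at i1
        calc ρ i⁻¹ = -(ρ i⁻¹ * (ρ i * ρ i)) := by rw [i1]; simp
          _ = -ρ i := by rw [← mul_assoc, e3, one_mul]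
      rw [map_mul, map_mul, hinv, mul_neg, k1, neg_neg]
    · apply h.inj
      rw [mul_assoc, map_mul, i1, map_one]; norm_num
  have h120 : Nat.card G = 120 := by
    apply le_antisymm hle
    apply Nat.le_of_dvd Nat.card_pos
    have : Nat.Coprime 3 5 := by norm_num
    have d15 : 3 * 5 ∣ Nat.card G := this.mul_dvd_of_dvd_of_dvd d3 d5
    have h8 : Nat.Coprime 8 (3 * 5) := by norm_num
    exact h8.mul_dvd_of_dvd_of_dvd d8 d15
  refine ⟨?_, h120⟩
  obtain ⟨e1⟩ := hrel.equiv hcl h120
  obtain ⟨e2⟩ := SL25.presEquiv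
  exact ⟨e1.symm.trans e2⟩

/-- **Main theorem**: if there is a pair with inner product of square 5, the elements of order three generate a
characteristic subgroup isomorphic to `SL(2,5)`. -/
theorem ZCfg.main_pair [Nontrivial R] {a c : G} (ha : orderOf a = 3) (hc : orderOf c = 3)
    (ht : tt ρ a c * tt ρ a c = 5) :
    Nonempty ((Subgroup.closure {g : G | orderOf g = 3} : Subgroup G) ≃* Matrix.SpecialLinearGroup (Fin 2) (ZMod 5)) ∧
      Nat.card (Subgroup.closure {g : G | orderOf g = 3} : Subgroup G) = 120 := by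
  have hL : Subgroup.closure {g : G | orderOf g = 3} = Subgroup.closure {a, c} := by
    apply le_antisymm
    · rw [Subgroup.closure_le]
      intro b hb
      exact h.mem_of_pair ha hc hb ht (Subgroup.subset_closure (Or.inl rfl)) (Subgroup.subset_closure (Or.inr rfl))
    · rw [Subgroup.closure_le]
      rintro s (rfl | rfl)
      · exact Subgroup.subset_closure ha
      · exact Subgroup.subset_closure hc
  rw [hL]
  let L := Subgroup.closure {a, c}
  have haL : a ∈ L := Subgroup.subset_closure (Or.inl rfl)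
  have hcL : c ∈ L := Subgroup.subset_closure (Or.inr rfl)
  apply (h.restrict L).equiv_SL25 (a := ⟨a, haL⟩) (c := ⟨c, hcL⟩)
  · rw [← ha]; exact (Subgroup.orderOf_coe (⟨a, haL⟩ : L)).symm
  · rw [← hc]; exact (Subgroup.orderOf_coe (⟨c, hcL⟩ : L)).symm
  · exact ht
  · have : Subgroup.map L.subtype (Subgroup.closure {(⟨a, haL⟩ : L), ⟨c, hcL⟩}) = Subgroup.map L.subtype ⊤ := by
      rw [MonoidHom.map_closure, Set.image_pair, ← MonoidHom.range_eq_map, Subgroup.range_subtype]
      rfl
    exact Subgroup.map_injective L.subtype_injective this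

end

end Cfsg.Agent.Lib.ZasGroup
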