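import Cfsg.Agent.Lib.FrobRat
import Cfsg.Agent.Lib.ZasSL25

/-!
# Products of two elements of order three in a group with an integral fixed-point-free representation
-/

set_option autoImplicit false
set_option linter.unusedSimpArgs false
open Cfsg

namespace Cfsg.Agent.Lib.FrobTri

open Matrix Polynomial

variable {G : Type*} [Group G]

section form

variable [Fintype G] {m : Type*} [Fintype m] [DecidableEq m] (P : G →* Matrix m m ℂ)

/-- invariant form -/
noncomputable def B (u v : m → ℂ) : ℂ := ∑ g : G, star (P g *ᵥ u) ⬝ᵥ (P g *ᵥ v)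

theorem B_add_left (u u' v : m → ℂ) : B P (u + u') v = B P u v + B P u' v := by
  unfold B
  rw [← Finset.sum_add_distrib]
  refine Finset.sum_congr rfl fun g _ => ?_
  rw [mulVec_add, star_add, add_dotProduct]

theorem B_add_right (u v v' : m → ℂ) : B P u (v + v') = B P u v + B P u v' := by
  unfold B
  rw [← Finset.sum_add_distrib]
  refine Finset.sum_congr rfl fun g _ => ?_
  rw [mulVec_add, dotProduct_add]

theorem B_neg_right (u v : m → ℂ) : B P u (-v) = -B P u v := by
  unfold B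
  rw [← Finset.sum_neg_distrib]
  refine Finset.sum_congr rfl fun g _ => ?_
  rw [mulVec_neg, dotProduct_neg]

theorem B_neg_left (u v : m → ℂ) : B P (-u) v = -B P u v := by
  unfold B
  rw [← Finset.sum_neg_distrib]
  refine Finset.sum_congr rfl fun g _ => ?_
  rw [mulVec_neg, star_neg, neg_dotProduct]

theorem B_smul_right (u v : m → ℂ) (c : ℂ) : B P u (c • v) = c * B P u v := by
  unfold B
  rw [Finset.mul_sum]
  refine Finset.sum_congr rfl fun g _ => ?_
  rw [mulVec_smul, dotProduct_smul, smul_eq_mul]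

theorem B_inv (h : G) (u v : m → ℂ) : B P (P h *ᵥ u) (P h *ᵥ v) = B P u v := by
  unfold B
  refine (Equiv.sum_comp (Equiv.mulRight h) (fun g => star (P g *ᵥ u) ⬝ᵥ (P g *ᵥ v))).symm.trans ?_ |>.symm
  refine Finset.sum_congr rfl fun g _ => ?_
  rw [Equiv.coe_mulRight, map_mul, mulVec_mulVec, mulVec_mulVec]

theorem B_pos {v : m → ℂ} (hv : v ≠ 0) : ∃ r : ℝ, 0 < r ∧ B P v v = r := by
  have h1 : ∀ x : m → ℂ, star x ⬝ᵥ x = ((∑ i, Complex.normSq (x i) : ℝ) : ℂ) := by
    intro x
    rw [dotProduct, Complex.ofReal_sum]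
    refine Finset.sum_congr rfl fun i _ => ?_
    rw [Pi.star_apply, Complex.normSq_eq_conj_mul_self]
    rfl
  refine ⟨∑ g : G, ∑ i, Complex.normSq ((P g *ᵥ v) i), ?_, ?_⟩
  · apply Finset.sum_pos'
    · intro g _
      exact Finset.sum_nonneg fun i _ => Complex.normSq_nonneg _
    · refine ⟨1, Finset.mem_univ _, ?_⟩
      rw [map_one, one_mulVec]
      obtain ⟨i, hi⟩ := Function.ne_iff.1 hv
      exact Finset.sum_pos' (fun i _ => Complex.normSq_nonneg _) ⟨i, Finset.mem_univ _, Complex.normSq_pos.2 hi⟩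
  · unfold B
    rw [Complex.ofReal_sum]
    exact Finset.sum_congr rfl fun g _ => h1 _

/-- the key inequality -/
theorem key {a c : G} (ha : P a * P a = -P a - 1) (ha' : P a⁻¹ = -P a - 1) (hc : P c * P c = -P c - 1)
    (hc' : P c⁻¹ = -P c - 1) {v : m → ℂ} {z z' : ℂ} (hv : v ≠ 0) (hz : P (a * c) *ᵥ v = z • v)
    (hz' : P (a * c)⁻¹ *ᵥ v = z' • v) (hne : P a *ᵥ v ≠ P c *ᵥ v) : ∃ r : ℝ, 0 < r ∧ 1 + z + z' = r := by
  -- skew adjointness
  have hskew : ∀ (x : G), P x⁻¹ = -P x - 1 → ∀ u v, B P (P x *ᵥ u) v = - B P u v - B P u (P x *ᵥ v) := by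
    intro x hx u v
    have h1 : v = P x *ᵥ (P x⁻¹ *ᵥ v) := by
      rw [mulVec_mulVec, ← map_mul, mul_inv_cancel, map_one, one_mulVec]
    conv_lhs => rw [h1]
    rw [B_inv, hx, sub_mulVec, neg_mulVec, one_mulVec, sub_eq_add_neg, B_add_right, B_neg_right, B_neg_right]
    ring
  let S : Matrix m m ℂ := P a - P c
  have hSv : S *ᵥ v ≠ 0 := by
    intro h0
    rw [sub_mulVec, sub_eq_zero] at h0
    exact hne h0
  have h1 : ∀ u w, B P (S *ᵥ u) w = -B P u (S *ᵥ w) := by
    intro u w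
    simp only [S]
    rw [sub_mulVec, sub_mulVec, sub_eq_add_neg, sub_eq_add_neg, B_add_left, B_add_right, B_neg_left, B_neg_right,
      hskew a ha', hskew c hc']
    ring
  have hSS : S * S = -(1 + P (a * c) + P (a * c)⁻¹) := by
    rw [_root_.mul_inv_rev, map_mul, map_mul, ha', hc']
    simp only [S]
    linear_combination (norm := noncomm_ring) ha + hc
  have h2 : S *ᵥ (S *ᵥ v) = -((1 + z + z') • v) := by
    rw [mulVec_mulVec, hSS, neg_mulVec, add_mulVec, add_mulVec, hz, hz', one_mulVec, add_smul, add_smul, one_smul]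
  obtain ⟨r1, hr1, e1⟩ := B_pos P hSv
  obtain ⟨r2, hr2, e2⟩ := B_pos P hv
  rw [h1, h2, B_neg_right, neg_neg, B_smul_right, e2] at e1
  refine ⟨r1 / r2, div_pos hr1 hr2, ?_⟩
  rw [Complex.ofReal_div, eq_div_iff (by exact_mod_cast hr2.ne')]
  exact e1

end form

section eigen

theorem exists_eigenvector {m : Type*} [Fintype m] [DecidableEq m] (M : Matrix m m ℂ) {μ : ℂ}
    (hμ : M.charpoly.IsRoot μ) : ∃ v : m → ℂ, v ≠ 0 ∧ M *ᵥ v = μ • v := by
  rw [IsRoot, Matrix.eval_charpoly] at hμ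
  obtain ⟨v, hv, h⟩ := Matrix.exists_mulVec_eq_zero_iff.2 hμ
  refine ⟨v, hv, ?_⟩
  rw [sub_mulVec, sub_eq_zero] at h
  rw [← h]
  simp

variable [Finite G] {m : Type*} [Fintype m] [DecidableEq m] (P : G →* Matrix m m ℂ)

/-- no fixed vectors -/
theorem fix_zero (hN : ∀ a : G, a ≠ 1 → ∑ i ∈ Finset.range (orderOf a), P a ^ i = 0) (g : G) (hg : g ≠ 1)
    (v : m → ℂ) (hv : P g *ᵥ v = v) : v = 0 := by
  have h1 : (∑ i ∈ Finset.range (orderOf g), P g ^ i) *ᵥ v = (orderOf g : ℂ) • v := by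
    have h2 : ∀ i : ℕ, (P g ^ i) *ᵥ v = v := by
      intro i
      induction i with
      | zero => simp
      | succ i ih => rw [pow_succ, ← mulVec_mulVec, hv, ih]
    rw [Matrix.sum_mulVec]
    rw [Finset.sum_congr rfl (fun i _ => h2 i), Finset.sum_const, Finset.card_range]
    rw [Nat.cast_smul_eq_nsmul]
  rw [hN g hg, zero_mulVec] at h1
  exact (smul_eq_zero.1 h1.symm).resolve_left (by exact_mod_cast (orderOf_pos g).ne')

theorem eigen_prim (hN : ∀ a : G, a ≠ 1 → ∑ i ∈ Finset.range (orderOf a), P a ^ i = 0) (w : G) {μ : ℂ}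
    {v : m → ℂ} (hv : v ≠ 0) (h : P w *ᵥ v = μ • v) : IsPrimitiveRoot μ (orderOf w) := by
  have hpow : ∀ k : ℕ, P (w ^ k) *ᵥ v = μ ^ k • v := by
    intro k
    induction k with
    | zero => simp
    | succ k ih =>
      rw [pow_succ, map_mul, ← mulVec_mulVec, h, mulVec_smul, ih, smul_smul, pow_succ']
  have hval : ∀ k : ℕ, P (w ^ k) *ᵥ v = v → μ ^ k = 1 := by
    intro k hk
    rw [hpow] at hk
    have : (μ ^ k - 1) • v = 0 := by rw [sub_smul, hk, one_smul, sub_self]
    exact sub_eq_zero.1 ((smul_eq_zero.1 this).resolve_right hv)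
  refine IsPrimitiveRoot.mk_of_lt _ (orderOf_pos w) ?_ ?_
  · apply hval
    rw [pow_orderOf_eq_one]; simp
  · intro l hl0 hl h1
    have hne : w ^ l ≠ 1 := by
      intro h0
      exact absurd (Nat.le_of_dvd hl0 (orderOf_dvd_of_pow_eq_one h0)) (by omega)
    apply hv
    apply fix_zero P hN _ hne
    rw [hpow, h1, one_smul]

theorem eigen [Nonempty m] (hN : ∀ a : G, a ≠ 1 → ∑ i ∈ Finset.range (orderOf a), P a ^ i = 0) (w : G)
    (N : Matrix m m ℤ) (hNc : P w = N.map (Int.castRingHom ℂ)) {ζ : ℂ} (hζ : IsPrimitiveRoot ζ (orderOf w)) :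
    ∃ v : m → ℂ, v ≠ 0 ∧ P w *ᵥ v = ζ • v := by
  have hn : 0 < orderOf w := orderOf_pos w
  have hcp : (P w).charpoly = N.charpoly.map (Int.castRingHom ℂ) := by
    rw [hNc]; exact Matrix.charpoly_map _ _
  obtain ⟨μ, hμ⟩ := IsAlgClosed.exists_root (P w).charpoly (by
    rw [Matrix.charpoly_degree_eq_dim]
    exact_mod_cast Fintype.card_ne_zero)
  obtain ⟨v, hv, h⟩ := exists_eigenvector _ hμ
  have hμp := eigen_prim P hN w hv h
  have hdvd : cyclotomic (orderOf w) ℤ ∣ N.charpoly := by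
    rw [cyclotomic_eq_minpoly hμp hn]
    apply minpoly.isIntegrallyClosed_dvd (hμp.isIntegral hn)
    rw [hcp, IsRoot, eval_map] at hμ
    rw [aeval_def]
    exact hμ
  apply exists_eigenvector
  obtain ⟨q, hq⟩ := hdvd
  rw [hcp, hq, Polynomial.map_mul, IsRoot, eval_mul, map_cyclotomic]
  have hne : NeZero ((orderOf w : ℕ) : ℂ) := ⟨by exact_mod_cast hn.ne'⟩
  have : (cyclotomic (orderOf w) ℂ).eval ζ = 0 := isRoot_cyclotomic_iff.2 hζ
  rw [this, zero_mul]

end eigen

theorem cos_bound {ε : ℝ} (h0 : 0 ≤ ε) (h1 : ε ≤ Real.pi / 3) : Real.cos (Real.pi - ε) ≤ -(1 / 2) := by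
  rw [Real.cos_pi_sub]
  have := Real.cos_le_cos_of_nonneg_of_le_pi h0 (by linarith [Real.pi_pos]) h1
  rw [Real.cos_pi_div_three] at this
  linarith

/-- the possible orders -/
theorem trig {n : ℕ} (hn : 0 < n) (h : ∀ k : ℕ, k.Coprime n → -(1 / 2) < Real.cos (2 * Real.pi * k / n)) :
    n = 1 ∨ n = 4 ∨ n = 6 ∨ n = 10 := by
  have hpi := Real.pi_pos
  have hn0 : (n : ℝ) ≠ 0 := by exact_mod_cast hn.ne'
  have key : ∀ k d : ℕ, k.Coprime n → 2 * k + d = n → 3 * d ≤ n → False := by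
    intro k d hk hd h3
    have h1 := h k hk
    have e : 2 * Real.pi * k / n = Real.pi - Real.pi * d / n := by
      field_simp
      have : (n : ℝ) = 2 * k + d := by exact_mod_cast hd.symm
      rw [this]; ring
    rw [e] at h1
    have h2 := cos_bound (ε := Real.pi * d / n) (by positivity) (by
      rw [div_le_div_iff₀ (by exact_mod_cast hn) (by norm_num)]
      have : (d : ℝ) * 3 ≤ n := by exact_mod_cast (by omega : d * 3 ≤ n)
      nlinarith)
    linarith
  rcases Nat.even_or_odd' n with ⟨t, ht | ht⟩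
  · rcases Nat.even_or_odd' t with ⟨s, hs | hs⟩
    · -- n = 4 s
      rcases (by omega : s = 0 ∨ s = 1 ∨ 2 ≤ s) with h1 | h1 | h1
      · omega
      · omega
      · exfalso
        refine key (2 * s - 1) 2 ?_ (by omega) (by omega)
        rw [ht, hs]
        have e : 2 * (2 * s) = (2 * s - 1) * 2 + 2 := by omega
        rw [e, Nat.coprime_mul_left_add_right]
        rw [Nat.coprime_comm, Nat.coprime_two_left]
        exact ⟨s - 1, by omega⟩
    · -- n = 4 s + 2
      rcases (by omega : s = 0 ∨ s = 1 ∨ s = 2 ∨ 3 ≤ s) with h1 | h1 | h1 | h1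
      · exfalso
        have hn2 : n = 2 := by omega
        subst hn2
        have := h 1 (by norm_num)
        have e : 2 * Real.pi * ((1 : ℕ) : ℝ) / ((2 : ℕ) : ℝ) = Real.pi := by push_cast; ring
        rw [e, Real.cos_pi] at this
        linarith
      · omega
      · omega
      · exfalso
        refine key (2 * s - 1) 4 ?_ (by omega) (by omega)
        rw [ht, hs]
        have e : 2 * (2 * s + 1) = (2 * s - 1) * 2 + 2 ^ 2 := by omega
        rw [e, Nat.coprime_mul_left_add_right]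
        apply Nat.Coprime.pow_right
        rw [Nat.coprime_comm, Nat.coprime_two_left]
        exact ⟨s - 1, by omega⟩
  · rcases (by omega : t = 0 ∨ 1 ≤ t) with h1 | h1
    · omega
    · exfalso
      refine key t 1 ?_ (by omega) (by omega)
      rw [ht, mul_comm, Nat.coprime_mul_left_add_right]
      exact Nat.coprime_one_right t

end Cfsg.Agent.Lib.FrobTri
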