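import Cfsg.Agent.Lib.FrobTri

/-!
# Frobenius complements satisfy the configuration `ZCfg`
-/

set_option autoImplicit false
set_option linter.unusedSimpArgs false
open Cfsg

namespace Cfsg.Agent.Lib.FrobZas

open Matrix FrobTri ZasGroup

universe u

variable {G : Type*} [Group G]

section

variable {S : Type*} [Ring S] [Nontrivial S] (ρ : G →* S) (htf : ZasQuat.TF S)
  (hN : ∀ a : G, a ≠ 1 → ∑ i ∈ Finset.range (orderOf a), ρ a ^ i = 0)

include htf hN

theorem inj_of [Finite G] : Function.Injective ρ := by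
  rw [injective_iff_map_eq_one]
  intro g hg
  by_contra hne
  have := hN g hne
  rw [hg] at this
  simp only [one_pow, Finset.sum_const, Finset.card_range, nsmul_eq_mul, mul_one] at this
  exact one_ne_zero (htf (orderOf g) (orderOf_pos g).ne' (1 : S) (by rw [nsmul_one]; exact this))

omit htf [Nontrivial S] in
theorem quad_of {g : G} (hg : orderOf g = 3) : ρ g * ρ g = -ρ g - 1 := by
  have := hN g (ne_one_of_order hg)
  rw [hg, Finset.sum_range_succ, Finset.sum_range_succ, Finset.sum_range_one, pow_zero, pow_one, pow_two] at this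
  linear_combination (norm := noncomm_ring) this

omit htf [Nontrivial S] in
theorem neg1_of {g : G} (hg : g * g = 1) (hg1 : g ≠ 1) : ρ g = -1 := by
  have h2 : orderOf g = 2 := orderOf_eq_prime (by rw [pow_two, hg]) hg1
  have := hN g hg1
  rw [h2, Finset.sum_range_succ, Finset.sum_range_one, pow_zero, pow_one] at this
  linear_combination (norm := noncomm_ring) this

omit htf [Nontrivial S] in
/-- values of `w + w⁻¹` for the possible orders -/
theorem dd_of {a c : G} (h : orderOf (a * c) = 1 ∨ orderOf (a * c) = 4 ∨ orderOf (a * c) = 6 ∨ orderOf (a * c) = 10) :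
    a * c = 1 ∨ dd ρ a c = 0 ∨ dd ρ a c = 1 ∨ dd ρ a c * dd ρ a c = dd ρ a c + 1 := by
  unfold dd
  generalize a * c = w at *
  have hw := pow_orderOf_eq_one w
  rcases h with h | h | h | h
  · left; exact orderOf_eq_one_iff.1 h
  · right; left
    rw [h] at hw
    have h2 : w ^ 2 ≠ 1 := by
      intro h0
      have := orderOf_dvd_of_pow_eq_one h0
      rw [h] at this; norm_num at this
    have e1 : ρ (w ^ 2) = -1 := neg1_of ρ hN (by rw [← pow_add, hw]) h2
    have e2 : w⁻¹ = w ^ 2 * w := by
      rw [← pow_succ]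
      exact inv_eq_of_mul_eq_one_left (by rw [← pow_succ, hw])
    rw [e2, map_mul, e1]; simp
  · right; right; left
    rw [h] at hw
    have h3 : w ^ 3 ≠ 1 := by
      intro h0
      have := orderOf_dvd_of_pow_eq_one h0
      rw [h] at this; norm_num at this
    have h2 : orderOf (w ^ 2) = 3 := by
      have := orderOf_pow_of_dvd (x := w) (n := 2) (by norm_num) (by rw [h]; norm_num)
      rw [this, h]
    have e1 : ρ (w ^ 3) = -1 := neg1_of ρ hN (by rw [← pow_add, hw]) h3
    have e3 := quad_of ρ hN h2
    have e2 : w⁻¹ = w ^ 3 * w ^ 2 := by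
      rw [← pow_add]
      exact inv_eq_of_mul_eq_one_left (by rw [← pow_succ, hw])
    rw [e2, map_mul, e1]
    rw [map_pow] at e1 e3 ⊢
    generalize ρ w = W at *
    have e4 : W ^ 2 * W ^ 2 = W ^ 3 * W := by noncomm_ring
    rw [e4, e1] at e3
    linear_combination (norm := (noncomm_ring; try norm_num)) -e3
  · right; right; right
    rw [h] at hw
    have h5 : w ^ 5 ≠ 1 := by
      intro h0
      have := orderOf_dvd_of_pow_eq_one h0
      rw [h] at this; norm_num at this
    have h2 : orderOf (w ^ 2) = 5 := by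
      have := orderOf_pow_of_dvd (x := w) (n := 2) (by norm_num) (by rw [h]; norm_num)
      rw [this, h]
    have hne : w ^ 2 ≠ 1 := by
      intro h0
      rw [h0, orderOf_one] at h2; omega
    have e1 : ρ (w ^ 5) = -1 := neg1_of ρ hN (by rw [← pow_add, hw]) h5
    have e3 := hN (w ^ 2) hne
    rw [h2] at e3
    simp only [Finset.sum_range_succ, Finset.sum_range_zero, pow_zero, zero_add, pow_one] at e3
    have e2 : w⁻¹ = w ^ 5 * w ^ 4 := by
      rw [← pow_add]
      exact inv_eq_of_mul_eq_one_left (by rw [← pow_succ, hw])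
    rw [e2, map_mul, e1]
    simp only [map_pow] at e1 e3 ⊢
    generalize ρ w = W at *
    linear_combination (norm := (noncomm_ring; try norm_num)) e3 - 2 * e1 - W * e1

theorem zcfg [Finite G] [Module.Finite ℤ S] : ZCfg ρ where
  tf := htf
  inj := inj_of ρ htf hN
  quad := fun g hg => quad_of ρ hN hg
  neg1 := fun g hg hg1 => neg1_of ρ hN hg hg1
  tri := by
    classical
    intro a c ha hc
    by_cases hac : a = c
    · exact Or.inl hac
    right
    apply dd_of ρ hN
    have : Fintype G := Fintype.ofFinite G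
    have : IsAddTorsionFree S := by
      refine ⟨fun n hn x y hxy => ?_⟩
      have h0 : n • (x - y) = 0 := by rw [nsmul_sub]; exact sub_eq_zero.2 hxy
      exact sub_eq_zero.1 (htf n hn _ h0)
    have : Module.Free ℤ S := inferInstance
    let b := Module.Free.chooseBasis ℤ S
    have hm : Nonempty (Module.Free.ChooseBasisIndex ℤ S) := by
      by_contra hcon
      rw [not_nonempty_iff] at hcon
      have := b.repr.injective.subsingleton
      exact not_subsingleton S this
    let F : S →+* Matrix (Module.Free.ChooseBasisIndex ℤ S) (Module.Free.ChooseBasisIndex ℤ S) ℂ :=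
      (RingHom.mapMatrix (Int.castRingHom ℂ)).comp (Algebra.leftMulMatrix b).toRingHom
    let P : G →* Matrix (Module.Free.ChooseBasisIndex ℤ S) (Module.Free.ChooseBasisIndex ℤ S) ℂ :=
      (F : S →* _).comp ρ
    have hP : ∀ g, P g = F (ρ g) := fun g => rfl
    have hPN : ∀ a : G, a ≠ 1 → ∑ i ∈ Finset.range (orderOf a), P a ^ i = 0 := by
      intro a ha
      have := congrArg F (hN a ha)
      rw [map_sum, map_zero] at this
      rw [← this]
      refine Finset.sum_congr rfl fun i _ => ?_
      rw [map_pow, hP]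
    have hq : ∀ g : G, orderOf g = 3 → P g * P g = -P g - 1 := fun g hg => quad_of P hPN hg
    have hinv : ∀ g : G, orderOf g = 3 → P g⁻¹ = -P g - 1 := by
      intro g hg
      rw [inv_eq_of_order hg, map_mul]; exact hq g hg
    apply trig (orderOf_pos (a * c))
    intro k hk
    have hn0 : (orderOf (a * c)) ≠ 0 := (orderOf_pos (a * c)).ne'
    have hζ := Complex.isPrimitiveRoot_exp_of_coprime k (orderOf (a * c)) hn0 hk
    obtain ⟨v, hv, hwv⟩ := eigen P hPN (a * c) (Algebra.leftMulMatrix b (ρ (a * c))) rfl hζ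
    have hζ0 : Complex.exp (2 * Real.pi * Complex.I * (k / (orderOf (a * c) : ℕ))) ≠ 0 := Complex.exp_ne_zero _
    have hwv' : P (a * c)⁻¹ *ᵥ v = (Complex.exp (2 * Real.pi * Complex.I * (k / (orderOf (a * c) : ℕ))))⁻¹ • v := by
      have h1 : P (a * c)⁻¹ *ᵥ (P (a * c) *ᵥ v) = v := by
        rw [mulVec_mulVec, ← map_mul, inv_mul_cancel, map_one, one_mulVec]
      rw [hwv, mulVec_smul] at h1
      conv_rhs => rw [← h1]
      rw [smul_smul, inv_mul_cancel₀ hζ0, one_smul]
    obtain ⟨r, hr, hre⟩ := FrobTri.key P (hq a ha) (hinv a ha) (hq c hc) (hinv c hc) hv hwv hwv' (by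
      intro h0
      apply hv
      apply fix_zero P hPN (a⁻¹ * c)
      · intro h1
        exact hac (inv_mul_eq_one.1 h1)
      · rw [map_mul, ← mulVec_mulVec, ← h0, mulVec_mulVec, ← map_mul, inv_mul_cancel, map_one, one_mulVec])
    rw [← Complex.exp_neg] at hre
    have e1 : (2 * Real.pi * Complex.I * (k / (orderOf (a * c) : ℕ)) : ℂ) =
        ((2 * Real.pi * k / (orderOf (a * c) : ℕ) : ℝ) : ℂ) * Complex.I := by
      push_cast; ring
    rw [e1, ← neg_mul, add_assoc, ← Complex.two_cos, ← Complex.ofReal_cos] at hre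
    have e2 : 1 + 2 * Real.cos (2 * Real.pi * k / (orderOf (a * c) : ℕ)) = r := by exact_mod_cast hre
    linarith

end

/-- **A Frobenius complement has a configuration.** -/
theorem exists_zcfg {G : Type u} [Group G] (h : FrobExist.Occurs G) :
    ∃ (S : Type u) (_ : Ring S) (_ : Nontrivial S) (ρ : G →* S), ZCfg ρ := by
  have := h.finite
  obtain ⟨S, _, _, _, ρ, htf, hN⟩ := FrobRat.rational h
  exact ⟨S, _, inferInstance, ρ, zcfg ρ htf hN⟩

end Cfsg.Agent.Lib.FrobZas
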