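import Cfsg.Agent.Lib.NCCoreB
import Cfsg.Agent.Lib.SrgTriFree
import Cfsg.Agent.Lib.SymPres
import Cfsg.Agent.Lib.FiCount
import Cfsg.Agent.Lib.FiMu

/-!
helper27: 3-transposition groups in which the odd core of `⟨D_x⟩` is not central (part C): the parameters are
those of the Petersen graph, and the group is `S₅`.
-/

set_option autoImplicit false

namespace Cfsg.Agent.Lib.NCCore

open Cfsg Cfsg.Agent.Lib.ThreeRank3 Subgroup

variable {G : Type*} [Group G] {D : Set G}

/-- a set of pairwise non-commuting 3-transpositions closed under its own conjugations has 3-power size -/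
theorem ncard_pow [Finite G] (hD : IsThreeTranspositionSet D) {E : Set G} (hE : E ⊆ D) (hne : E.Nonempty)
    (hnc : ∀ a ∈ E, ∀ b ∈ E, a ≠ b → ¬ Commute a b) (hcl : ∀ a ∈ E, ∀ b ∈ E, a * b * a⁻¹ ∈ E) :
    ∃ n : ℕ, E.ncard = 3 ^ n := by
  obtain ⟨d, hd⟩ := hne
  obtain ⟨N, hN1, hN2, hN3, hN4⟩ := WidthOneHall.exists_three_group (G := G) (D := E)
    (fun a ha => sq_one hD (hE ha)) hcl (fun a ha b hb => by
      by_cases hab : a = b
      · rw [hab, sq_one hD (hE hb), one_pow]
      · rcases hD.2 a (hE ha) b (hE hb) with h | h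
        · exact absurd (commute_of_sq (sq_one hD (hE ha)) (sq_one hD (hE hb)) h) (hnc a ha b hb hab)
        · exact h)
  let f : N → G := fun p => p.1 * d * p.1⁻¹
  have hf : ∀ a b : N, f a = f b ↔ a⁻¹ * b ∈ (centralizer {d}).subgroupOf N := by
    intro a b
    rw [mem_subgroupOf]
    exact FiMu.conj_eq_iff
  have hr : Set.range f = E := by
    apply Set.Subset.antisymm
    · rintro _ ⟨p, rfl⟩
      exact WidthOneHall.conj_mem_of_self hcl (hN1 p.2) hd
    · intro e he
      by_cases hde : d = e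
      · exact ⟨1, by simp [f, hde]⟩
      · have hb := braid hD (hE hd) (hE he) (hnc d hd e he hde)
        have hdd := sq_one hD (hE hd)
        have hee := sq_one hD (hE he)
        have hm : d * e * d * d ∈ N := by
          have := hN4 (d * e * d⁻¹) (hcl d hd e he) d hd
          rwa [inv_self hD (hE hd)] at this
        refine ⟨⟨_, hm⟩, ?_⟩
        show d * e * d * d * d * (d * e * d * d)⁻¹ = e
        have e1 : (d * e * d * d)⁻¹ = e * d := by
          rw [mul_assoc (d * e) d d, hdd, mul_one, mul_inv_rev, inv_self hD (hE hd), inv_self hD (hE he)]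
        rw [e1]
        calc d * e * d * d * d * (e * d) = d * e * (d * d) * (d * e * d) := by group
          _ = d * e * (e * d * e) := by rw [hdd, hb]; group
          _ = d * (e * e) * d * e := by group
          _ = (d * d) * e := by rw [hee]; group
          _ = e := by rw [hdd, one_mul]
  have hc := FiMu.card_range_mul f _ hf
  rw [hr] at hc
  obtain ⟨n, hn⟩ := IsPGroup.iff_card.1 hN3
  have hdvd : E.ncard ∣ 3 ^ n := by rw [← hn, hc]; exact dvd_mul_right _ _
  obtain ⟨m, _, hm⟩ := (Nat.dvd_prime_pow Nat.prime_three).1 hdvd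
  exact ⟨m, hm⟩

/-- hypotheses collected: no commuting triples, and `D_x` has at least two members -/
structure Tri (D : Set G) : Prop where
  grp : IsThreeTranspositionGroup D
  prim : IsPrimitiveUnderConj D
  no3 : ∀ e ∈ D, ∀ x ∈ Dd D e, ∀ c ∈ Dd D e, c ∈ Dd D x → False
  two : ∃ x ∈ D, ∃ c ∈ Dd D x, ∃ d ∈ Dd D x, c ≠ d

theorem Tri.nc (T : Tri D) {e x c : G} (he : e ∈ D) (hx : x ∈ Dd D e) (hc : c ∈ Dd D e) (hxc : x ≠ c) :
    ¬ Commute x c := fun h => T.no3 e he x hx c hc ⟨hc.1, hxc.symm, h⟩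

theorem Tri.k (T : Tri D) [Finite G] : ∃ m : ℕ, 0 < m ∧ ∀ x ∈ D, (Dd D x).ncard = 3 ^ m := by
  obtain ⟨x, hx, c, hc, d, hd, hcd⟩ := T.two
  obtain ⟨m, hm⟩ := ncard_pow T.grp.1 (E := Dd D x) Dd_subset ⟨c, hc⟩
    (fun a ha b hb hab => T.nc hx ha hb hab) (fun a ha b hb => by
      have := Dd_conj T.grp.2.1 (g := a) hb
      have e : a * x * a⁻¹ = x := by rw [← ha.2.2.eq]; group
      rwa [e] at this)
  refine ⟨m, ?_, fun y hy => by rw [← hm]; exact Dd_card T.grp T.prim hy hx⟩
  rcases Nat.eq_zero_or_pos m with h0 | h0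
  · exfalso
    rw [h0, pow_zero, Set.ncard_eq_one] at hm
    obtain ⟨a, ha⟩ := hm
    apply hcd
    rw [ha] at hc hd
    rw [Set.mem_singleton_iff.1 hc, Set.mem_singleton_iff.1 hd]
  · exact h0

theorem Tri.mu_trans (T : Tri D) [Finite G] {a b a' b' : G} (ha : a ∈ D) (hb : b ∈ D) (hab : ¬ Commute a b)
    (ha' : a' ∈ D) (hb' : b' ∈ D) (hab' : ¬ Commute a' b') :
    (Dd D a ∩ Dd D b).ncard = (Dd D a' ∩ Dd D b').ncard := by
  obtain ⟨x, hx, c, hc, _⟩ := T.two
  obtain ⟨g, hg⟩ := T.prim.1 a ha a' ha'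
  have h1 : ¬ Commute a' (g * b * g⁻¹) := by
    rw [← hg, commute_conj_iff]; exact hab
  obtain ⟨t, ht, htb⟩ := transitive_on_noncommuting T.grp T.prim ⟨x, hx, c, hc.1, hc.2.1.symm, hc.2.2⟩ ha'
    (T.grp.2.1 g b hb) hb' h1 hab'
  have hc : Commute a' t := commute_of_mem_closure (fun z hz => hz.2) ht
  have h2 : (t * g) * a * (t * g)⁻¹ = a' := by
    calc t * g * a * (t * g)⁻¹ = t * (g * a * g⁻¹) * t⁻¹ := by group
      _ = a' := by rw [hg, ← hc.eq]; group
  have h3 : (t * g) * b * (t * g)⁻¹ = b' := by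
    rw [← htb]; group
  rw [← h2, ← h3, FiMu.inter_conj T.grp.2.1, ncard_cj]

theorem Tri.mu (T : Tri D) [Finite G] : ∃ j : ℕ, ∀ a ∈ D, ∀ b ∈ D, ¬ Commute a b →
    (Dd D a ∩ Dd D b).ncard = 3 ^ j := by
  obtain ⟨x, hx, c, hc, d, hd, hcd⟩ := T.two
  have hcd' := T.nc hx hc hd hcd
  obtain ⟨j, hj⟩ := ncard_pow T.grp.1 (E := Dd D c ∩ Dd D d) (fun z hz => hz.1.1)
    ⟨x, Dd_symm hx hc, Dd_symm hx hd⟩
    (fun a ha b hb hab => T.nc hc.1 ha.1 hb.1 hab) (fun a ha b hb => by
      constructor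
      · have := Dd_conj T.grp.2.1 (g := a) hb.1
        have e : a * c * a⁻¹ = c := by rw [← ha.1.2.2.eq]; group
        rwa [e] at this
      · have := Dd_conj T.grp.2.1 (g := a) hb.2
        have e : a * d * a⁻¹ = d := by rw [← ha.2.2.2.eq]; group
        rwa [e] at this)
  exact ⟨j, fun a ha b hb hab => by rw [← hj]; exact T.mu_trans ha hb hab hc.1 hd.1 hcd'⟩

/-- the parameters -/
theorem Tri.params (T : Tri D) [Finite G] : (∀ x ∈ D, (Dd D x).ncard = 3) ∧
    (∀ a ∈ D, ∀ b ∈ D, ¬ Commute a b → (Dd D a ∩ Dd D b).ncard = 1) ∧ D.ncard = 10 := by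
  classical
  obtain ⟨m, hm, hk⟩ := T.k
  obtain ⟨j, hμ⟩ := T.mu
  obtain ⟨x, hx, c, hc, d, hd, hcd⟩ := T.two
  have hcd' := T.nc hx hc hd hcd
  have hD1 := T.grp.1
  -- `j < m`
  have hjm : j < m := by
    have hle : (Dd D c ∩ Dd D d).ncard ≤ (Dd D c).ncard := Set.ncard_le_ncard Set.inter_subset_left (Set.toFinite _)
    rw [hμ c hc.1 d hd.1 hcd', hk c hc.1] at hle
    have hle' : j ≤ m := (Nat.pow_le_pow_iff_right (by norm_num)).1 hle
    rcases hle'.lt_or_eq with h | h
    · exact h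
    · exfalso
      apply hcd
      apply Dd_inj T.grp T.prim hx hc hc.1 hd.1
      have h1 : Dd D c ∩ Dd D d = Dd D c := Set.eq_of_subset_of_ncard_le Set.inter_subset_left
        (by rw [hμ c hc.1 d hd.1 hcd', hk c hc.1, h]) (Set.toFinite _)
      have h2 : Dd D c ∩ Dd D d = Dd D d := Set.eq_of_subset_of_ncard_le Set.inter_subset_right
        (by rw [hμ c hc.1 d hd.1 hcd', hk d hd.1, h]) (Set.toFinite _)
      rw [← h1, h2]
  -- the count
  have hsplit : D.ncard = 1 + 3 ^ m + (FiMu.Ad D x).ncard := by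
    rw [FiMu.ncard_split hx, hk x hx]
  have hl : (FiMu.Ad D x).ncard * 3 ^ j = 3 ^ m * (3 ^ m - 1) := by
    have h1 := FiComp.dcount (FiMu.Ad D x) (Dd D x) (fun a b => a ∈ Dd D b) (3 ^ j) (3 ^ m - 1) (by
      intro a ha
      rw [← hμ x hx a ha.1 ha.2]
      congr 1
      ext b
      constructor
      · rintro ⟨h1, h2⟩; exact ⟨h1, Dd_symm h1.1 h2⟩
      · rintro ⟨h1, h2⟩; exact ⟨h1, Dd_symm ha.1 h2⟩) (by
      intro b hb
      have hxb : x ∈ Dd D b := Dd_symm hx hb
      have h2 : {a | a ∈ FiMu.Ad D x ∧ a ∈ Dd D b} = Dd D b \ {x} := by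
        ext a
        constructor
        · rintro ⟨h1, h2⟩
          refine ⟨h2, ?_⟩
          intro h
          rw [Set.mem_singleton_iff] at h
          exact h1.2 (by rw [h])
        · rintro ⟨h1, h2⟩
          rw [Set.mem_singleton_iff] at h2
          exact ⟨⟨h1.1, T.nc hb.1 hxb h1 (Ne.symm h2)⟩, h1⟩
      rw [h2, Set.ncard_sdiff_singleton_of_mem hxb, hk b hb.1])
    rw [h1, hk x hx]
  -- the matrix
  have : Fintype D := Fintype.ofFinite D
  have : Nonempty D := ⟨⟨x, hx⟩⟩
  have hcardV : Fintype.card D = D.ncard := by rw [← Nat.card_eq_fintype_card, Nat.card_coe_set_eq]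
  have hcount : ∀ S : Set G, S ⊆ D → (Finset.univ.filter (fun z : D => z.1 ∈ S)).card = S.ncard := by
    intro S hS
    rw [← Set.ncard_coe_finset, ← Set.ncard_image_of_injective _ Subtype.val_injective]
    congr 1
    ext z
    simp only [Finset.coe_filter, Finset.mem_univ, true_and, Set.mem_image]
    constructor
    · rintro ⟨w, hw, rfl⟩; exact hw
    · intro hz; exact ⟨⟨z, hS hz⟩, hz, rfl⟩
  let A : Matrix D D ℝ := Matrix.of fun a b => if b.1 ∈ Dd D a.1 then 1 else 0
  have hAval : ∀ a b, A a b = if b.1 ∈ Dd D a.1 then 1 else 0 := fun a b => rfl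
  have hsum1 : ∀ a : D, ∑ z : D, (if z.1 ∈ Dd D a.1 then (1 : ℝ) else 0) = ((3 ^ m : ℕ) : ℝ) := by
    intro a
    rw [Finset.sum_boole, hcount _ Dd_subset, hk a.1 a.2]
  have hsymm : ∀ a b : D, a.1 ∈ Dd D b.1 ↔ b.1 ∈ Dd D a.1 := fun a b => ⟨Dd_symm b.2, Dd_symm a.2⟩
  obtain ⟨hj0, hm1⟩ := SrgTriFree.params (j := j) (m := m) (v := D.ncard) (l := (FiMu.Ad D x).ncard) hm hjm hl hsplit (by
    have := SrgTriFree.exists_sq A ((3 ^ m : ℕ) : ℝ) ((3 ^ j : ℕ) : ℝ) (by positivity)
      (by exact_mod_cast Nat.pow_le_pow_right (by norm_num) hjm.le) (by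
        ext a b
        rw [Matrix.mul_apply]
        simp only [Matrix.add_apply, Matrix.smul_apply, Matrix.sub_apply, smul_eq_mul]
        have h1 : ∑ z : D, A a z * A z b = ((Dd D a.1 ∩ Dd D b.1).ncard : ℝ) := by
          rw [← hcount _ (fun z hz => hz.1.1), ← Finset.sum_boole]
          apply Finset.sum_congr rfl
          intro z _
          rw [hAval, hAval]
          by_cases h1 : z.1 ∈ Dd D a.1
          · by_cases h2 : z.1 ∈ Dd D b.1
            · rw [if_pos h1, if_pos ((hsymm z b).1 h2), if_pos ⟨h1, h2⟩, one_mul]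
            · rw [if_pos h1, if_neg (fun h => h2 ((hsymm z b).2 h)), if_neg (fun h => h2 h.2), mul_zero]
          · rw [if_neg h1, zero_mul, if_neg (fun h => h1 h.1)]
        rw [h1, hAval]
        have hJ : SrgTriFree.JJ D a b = 1 := rfl
        rw [hJ]
        by_cases hab : a = b
        · subst hab
          rw [Set.inter_self, hk a.1 a.2, Matrix.one_apply_eq, if_neg (fun h => h.2.1 rfl)]
          ring
        · rw [Matrix.one_apply_ne hab]
          by_cases hcom : b.1 ∈ Dd D a.1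
          · rw [if_pos hcom]
            have : Dd D a.1 ∩ Dd D b.1 = ∅ := by
              rw [Set.eq_empty_iff_forall_notMem]
              intro z hz
              exact T.no3 a.1 a.2 b.1 hcom z hz.1 hz.2
            rw [this, Set.ncard_empty]
            push_cast; ring
          · rw [if_neg hcom]
            have hnc : ¬ Commute a.1 b.1 := fun h => hcom ⟨b.2, fun h => hab (Subtype.ext h.symm), h⟩
            rw [hμ a.1 a.2 b.1 b.2 hnc]
            ring) (by
        ext a b
        rw [Matrix.mul_apply, Matrix.smul_apply, smul_eq_mul]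
        show ∑ z : D, A a z * 1 = _ * 1
        rw [mul_one, ← hsum1 a]
        apply Finset.sum_congr rfl
        intro z _
        rw [mul_one, hAval]) (by
        ext a b
        rw [Matrix.mul_apply, Matrix.smul_apply, smul_eq_mul]
        show ∑ z : D, 1 * A z b = _ * 1
        rw [mul_one, ← hsum1 b]
        apply Finset.sum_congr rfl
        intro z _
        rw [one_mul, hAval]
        simp only [hsymm z b]) (by
        rw [Matrix.trace]
        apply Finset.sum_eq_zero
        intro z _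
        rw [Matrix.diag_apply, hAval, if_neg (fun h => h.2.1 rfl)])
    rwa [hcardV] at this)
  subst hj0 hm1
  refine ⟨fun x hx => by rw [hk x hx]; norm_num, fun a ha b hb h => by rw [hμ a ha b hb h]; norm_num, ?_⟩
  have : (FiMu.Ad D x).ncard = 6 := by
    simpa using hl
  rw [hsplit, this]
  norm_num

def swaps : Finset (Equiv.Perm (Fin 5)) :=
  ((Finset.univ : Finset (Fin 5 × Fin 5)).filter (fun p => p.1 < p.2)).image (fun p => Equiv.swap p.1 p.2)

theorem swap_set_card : (swaps : Set (Equiv.Perm (Fin 5))).ncard = 10 := by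
  rw [Set.ncard_coe_finset]
  decide +kernel

/-- the group is `S₅` -/
theorem Tri.iso (T : Tri D) [Finite G] : Nonempty (G ≃* Equiv.Perm (Fin 5)) := by
  classical
  obtain ⟨hk, hμ, hv⟩ := T.params
  obtain ⟨x0, hx0, c0, hc0, d0, hd0, hcd0⟩ := T.two
  -- `x`, `y` not commuting with common neighbour `c`
  set y := d0 with hy
  have hD1 := T.grp.1
  have hxy : ¬ Commute c0 y := T.nc hx0 hc0 hd0 hcd0
  -- rename: x := c0, y := d0, c := x0
  have hc_x : x0 ∈ Dd D c0 := Dd_symm hx0 hc0
  have hc_y : x0 ∈ Dd D y := Dd_symm hx0 hd0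
  obtain ⟨d, hd, hdne⟩ : ∃ d ∈ Dd D c0, d ≠ x0 := by
    by_contra hcon
    push Not at hcon
    have : Dd D c0 ⊆ {x0} := fun z hz => hcon z hz
    have := Set.ncard_le_ncard this (Set.toFinite _)
    rw [hk c0 hc0.1, Set.ncard_singleton] at this
    omega
  have hdx : ¬ Commute x0 d := T.nc hc0.1 hc_x hd (Ne.symm hdne)
  have hdy : ¬ Commute d y := by
    intro h
    have h1 : d ≠ y := fun h => hxy (h ▸ hd.2.2)
    have h2 : d ∈ Dd D y := ⟨hd.1, h1, h.symm⟩
    have h3 := hμ c0 hc0.1 y hd0.1 hxy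
    rw [Set.ncard_eq_one] at h3
    obtain ⟨a, ha⟩ := h3
    have h4 : x0 ∈ Dd D c0 ∩ Dd D y := ⟨hc_x, hc_y⟩
    have h5 : d ∈ Dd D c0 ∩ Dd D y := ⟨hd, h2⟩
    rw [ha] at h4 h5
    exact hdne ((Set.mem_singleton_iff.1 h5).trans (Set.mem_singleton_iff.1 h4).symm)
  -- the Coxeter relations
  let s : ℕ → G := fun i => if i = 0 then x0 else if i = 1 then d else if i = 2 then y else c0
  have hs : SymPres.CoxA 4 s := by
    constructor
    · intro i hi
      interval_cases i
      · exact sq_one hD1 hx0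
      · exact sq_one hD1 hd.1
      · exact sq_one hD1 hd0.1
      · exact sq_one hD1 hc0.1
    · intro i hi
      have hi' : i < 3 := by omega
      interval_cases i
      · exact braid hD1 hx0 hd.1 hdx
      · exact braid hD1 hd.1 hd0.1 hdy
      · exact braid hD1 hd0.1 hc0.1 (fun h => hxy h.symm)
    · intro i j hij hj
      have hi' : i < 2 := by omega
      interval_cases i
      · interval_cases j
        · exact hd0.2.2.eq
        · exact hc0.2.2.eq
      · interval_cases j
        exact hd.2.2.symm.eq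
  obtain ⟨φ, hφ⟩ := SymPres.exists_hom hs
  have h01 : φ (Equiv.swap 0 1) = x0 := hφ 0
  have h12 : φ (Equiv.swap 1 2) = d := hφ 1
  have h23 : φ (Equiv.swap 2 3) = y := hφ 2
  have h34 : φ (Equiv.swap 3 4) = c0 := hφ 3
  have hinj : Function.Injective φ := by
    refine SymPres.injective_of_swaps φ ?_ ?_ ?_
    · intro a b c hab hac hbc h
      obtain ⟨τ, h1, h2, h3⟩ := SymPres.exists_perm_three (x' := (0 : Fin 5)) (y' := 1) (z' := 2) hab hac hbc
        (by decide) (by decide) (by decide)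
      have := SymPres.conj_swap_eq φ τ h
      rw [h1, h2, h3, h01, h12] at this
      exact hdne this.symm
    · intro a b c e hab hac hae hbc hbe hce h
      obtain ⟨τ, h1, h2, h3, h4⟩ := SymPres.exists_perm_four (x' := (0 : Fin 5)) (y' := 1) (z' := 2) (w' := 3)
        hab hac hae hbc hbe hce (by decide) (by decide) (by decide) (by decide) (by decide) (by decide)
      have := SymPres.conj_swap_eq φ τ h
      rw [h1, h2, h3, h4, h01, h23] at this
      exact hd0.2.1 this.symm
    · decide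
  -- the image of the transpositions is `D`
  have himg : φ '' (swaps : Set (Equiv.Perm (Fin 5))) ⊆ D := by
    rintro _ ⟨σ, hσ, rfl⟩
    rw [Finset.mem_coe, swaps, Finset.mem_image] at hσ
    obtain ⟨⟨a, b⟩, hab, rfl⟩ := hσ
    replace hab : a ≠ b := ne_of_lt (Finset.mem_filter.1 hab).2
    simp only
    obtain ⟨z, hz1, hz2⟩ : ∃ z : Fin 5, z ≠ a ∧ z ≠ b := by
      revert a b; decide
    obtain ⟨τ, h1, h2, h3⟩ := SymPres.exists_perm_three (x := (0 : Fin 5)) (y := 1) (z := 2) (x' := a) (y' := b)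
      (z' := z) (by decide) (by decide) (by decide) hab hz1.symm hz2.symm
    rw [← h1, ← h2, Equiv.swap_apply_apply, map_mul, map_mul, map_inv, h01]
    exact T.grp.2.1 _ _ hx0
  have heq : φ '' (swaps : Set (Equiv.Perm (Fin 5))) = D := by
    apply Set.eq_of_subset_of_ncard_le himg _ (Set.toFinite _)
    rw [hv, Set.ncard_image_of_injective _ hinj, swap_set_card]
  have hsurj : Function.Surjective φ := by
    rw [← MonoidHom.range_eq_top, eq_top_iff, ← T.grp.2.2, closure_le]
    intro z hz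
    rw [← heq] at hz
    obtain ⟨σ, _, rfl⟩ := hz
    exact ⟨σ, rfl⟩
  exact ⟨(MulEquiv.ofBijective φ ⟨hinj, hsurj⟩).symm⟩

/-- **S1615.** -/
theorem main [Finite G]
    (hsol : ∀ N : Subgroup G, N.Normal → Group.IsSolvable ↥N → N = ⊥)
    (hperf : ⁅commutator G, commutator G⁆ = commutator G) (hD : IsThreeTranspositionClass D)
    (x : G) (hx : x ∈ D) (h : ¬ oddCore ↥(closure (Dd D x)) ≤ center ↥(closure (Dd D x))) :
    Nonempty (G ≃* Equiv.Perm (Fin 5)) := by
  have hgrp : IsThreeTranspositionGroup D := ⟨hD.1, fun g d hd => FischerHyp.class_conj hD g hd, hD.2.2⟩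
  obtain ⟨c, hc, d, hd, hne⟩ := exists_W hgrp hx h
  have hprim := FischerHyp.primitive hsol hperf hD ⟨x, hx, c, hc.1, hc.2.1.symm⟩
  have hN1 := N1_of hgrp hprim hx h
  exact Tri.iso ⟨hgrp, hprim, fun e he y hy z hz hyz => no_triple hgrp hprim hN1 he hy hz hyz,
    ⟨x, hx, c, hc, d, hd.1, hne.symm⟩⟩

end Cfsg.Agent.Lib.NCCore
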