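import Cfsg.Agent.Lib.FisEndSp
import Cfsg.Agent.Lib.FisEndU
import Cfsg.Agent.Lib.NCCoreC
import Cfsg.Agent.Lib.SymPres
import Cfsg.Agent.Lib.BenderMax
import Cfsg.Agent.S0247
import Cfsg.Agent.S0044
import Cfsg.Agent.S5346

/-!
# Fischer: the case `⟨D_x⟩` solvable (helper96)
-/

set_option autoImplicit false

namespace Cfsg.Agent.Lib.Fs14

open Subgroup Cfsg Matrix Cfsg.Agent.Lib.ThreeRank3 Cfsg.Agent.Lib.FisEnd

universe u

variable {G : Type u} [Group G] {D : Set G}

/-- an `A₄` path in a solvable group is impossible -/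
theorem not_solvable_of_path (hD : IsThreeTranspositionSet D) {a b c d : G} (ha : a ∈ D) (hb : b ∈ D) (hc : c ∈ D)
    (hd : d ∈ D) (hab : ¬ Commute a b) (hbc : ¬ Commute b c) (hcd : ¬ Commute c d) (hac : Commute a c)
    (had : Commute a d) (hbd : Commute b d) {H : Subgroup G} (haH : a ∈ H) (hbH : b ∈ H) (hcH : c ∈ H)
    (hdH : d ∈ H) : ¬ Group.IsSolvable H := by
  intro hs
  let s : ℕ → H := fun i => if i = 0 then ⟨a, haH⟩ else if i = 1 then ⟨b, hbH⟩ else if i = 2 then ⟨c, hcH⟩ else ⟨d, hdH⟩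
  have hs : SymPres.CoxA 4 s := by
    constructor
    · intro i hi
      interval_cases i
      · exact Subtype.ext (sq_one hD ha)
      · exact Subtype.ext (sq_one hD hb)
      · exact Subtype.ext (sq_one hD hc)
      · exact Subtype.ext (sq_one hD hd)
    · intro i hi
      have hi' : i < 3 := by omega
      interval_cases i
      · exact Subtype.ext (braid hD ha hb hab)
      · exact Subtype.ext (braid hD hb hc hbc)
      · exact Subtype.ext (braid hD hc hd hcd)
    · intro i j hij hj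
      have hi' : i < 2 := by omega
      interval_cases i
      · interval_cases j
        · exact Subtype.ext hac.eq
        · exact Subtype.ext had.eq
      · interval_cases j
        exact Subtype.ext hbd.eq
  obtain ⟨φ, hφ⟩ := SymPres.exists_hom hs
  have h01 : φ (Equiv.swap 0 1) = ⟨a, haH⟩ := hφ 0
  have h12 : φ (Equiv.swap 1 2) = ⟨b, hbH⟩ := hφ 1
  have h23 : φ (Equiv.swap 2 3) = ⟨c, hcH⟩ := hφ 2
  have h34 : φ (Equiv.swap 3 4) = ⟨d, hdH⟩ := hφ 3
  have hinj : Function.Injective φ := by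
    refine SymPres.injective_of_swaps φ ?_ ?_ ?_
    · intro x y z hab' hac' hbc' h
      obtain ⟨τ, h1, h2, h3⟩ := SymPres.exists_perm_three (x' := (0 : Fin 5)) (y' := 1) (z' := 2) hab' hac' hbc'
        (by decide) (by decide) (by decide)
      have := SymPres.conj_swap_eq φ τ h
      rw [h1, h2, h3, h01, h12] at this
      have h5 : a = b := congrArg Subtype.val this
      exact hab (h5 ▸ Commute.refl a)
    · intro x y z w hab' hac' hae' hbc' hbe' hce' h
      obtain ⟨τ, h1, h2, h3, h4⟩ := SymPres.exists_perm_four (x' := (0 : Fin 5)) (y' := 1) (z' := 3) (w' := 4)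
        hab' hac' hae' hbc' hbe' hce' (by decide) (by decide) (by decide) (by decide) (by decide) (by decide)
      have := SymPres.conj_swap_eq φ τ h
      rw [h1, h2, h3, h4, h01, h34] at this
      have h5 : a = d := congrArg Subtype.val this
      exact hab (h5 ▸ hbd.symm)
    · decide
  exact Equiv.Perm.not_isSolvable_fin_5 (Group.isSolvable_of_isSolvable_injective hinj)

/-- the symplectic case -/
theorem sp_case [Finite G] (h : SpHyp D) {x c : G} (hx : x ∈ D) (hc : c ∈ Dd D x)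
    (hs : ∀ x' ∈ D, Group.IsSolvable (closure (Dd D x'))) : Nonempty (G ≃* Equiv.Perm (Fin 6)) := by
  obtain ⟨n, ⟨e⟩, Ψ, hsur, hne, hinj, hcomm⟩ := sp_end_data h
  rcases Nat.lt_or_ge n 3 with hn | hn
  · interval_cases n
    · exact absurd (Subsingleton.elim _ _) (hne x hx)
    · exfalso
      have h1 := (hcomm x hx c hc.1).1 hc.2.2
      have h2 : Ψ x ≠ Ψ c := fun h => hc.2.1 (hinj x hx c hc.1 h).symm
      have h3 := hne x hx
      have h4 := hne c hc.1
      rw [SympMat.sympForm_apply, Fin.sum_univ_one] at h1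
      have key : ∀ a b c d : ZMod 2, b * c - a * d = 0 → (a = 0 ∧ b = 0) ∨ (c = 0 ∧ d = 0) ∨ (a = c ∧ b = d) := by
        decide
      have hext : ∀ u v : Fin 1 ⊕ Fin 1 → ZMod 2, u (Sum.inl 0) = v (Sum.inl 0) → u (Sum.inr 0) = v (Sum.inr 0) → u = v := by
        intro u v hu hv
        funext i
        rcases i with i | i
        · rw [Subsingleton.elim i 0]; exact hu
        · rw [Subsingleton.elim i 0]; exact hv
      rcases key _ _ _ _ h1 with ⟨h5, h6⟩ | ⟨h5, h6⟩ | ⟨h5, h6⟩
      · exact h3 (hext _ _ h5 h6)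
      · exact h4 (hext _ _ h5 h6)
      · exact h2 (hext _ _ h5 h6)
    · obtain ⟨e'⟩ := Cfsg.Agent.S0247.result (F := ZMod 2) (ZMod.card 2)
      exact ⟨e.trans e'⟩
  · exfalso
    let i0 : Fin n := ⟨0, by omega⟩
    let i1 : Fin n := ⟨1, by omega⟩
    let i2 : Fin n := ⟨2, by omega⟩
    have h01 : i0 ≠ i1 := by simp [i0, i1]
    have h02 : i0 ≠ i2 := by simp [i0, i2]
    have h12 : i1 ≠ i2 := by simp [i1, i2]
    have hfl : ∀ (u : Fin n ⊕ Fin n → ZMod 2) (i : Fin n), sympForm n (ZMod 2) u (Pi.single (Sum.inl i) 1) = u (Sum.inr i) := by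
      intro u i
      rw [SympMat.sympForm_apply, Finset.sum_eq_single i]
      · simp
      · intro j _ hj
        rw [Pi.single_eq_of_ne (by simpa using hj), Pi.single_eq_of_ne (by simp)]
        simp
      · simp
    have hfr : ∀ (u : Fin n ⊕ Fin n → ZMod 2) (i : Fin n), sympForm n (ZMod 2) u (Pi.single (Sum.inr i) 1) = u (Sum.inl i) := by
      intro u i
      rw [SympMat.sympForm_apply, Finset.sum_eq_single i]
      · simp
      · intro j _ hj
        rw [Pi.single_eq_of_ne (by simp), Pi.single_eq_of_ne (by simpa using hj)]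
        simp
      · simp
    have hadd : ∀ u v w : Fin n ⊕ Fin n → ZMod 2, sympForm n (ZMod 2) u (v + w) =
        sympForm n (ZMod 2) u v + sympForm n (ZMod 2) u w := by
      intro u v w
      rw [SympMat.sympForm_apply, SympMat.sympForm_apply, SympMat.sympForm_apply, ← Finset.sum_add_distrib]
      refine Finset.sum_congr rfl fun i _ => ?_
      simp only [Pi.add_apply]
      ring
    have hz : ∀ i : Fin n, (Pi.single (Sum.inl i) 1 : Fin n ⊕ Fin n → ZMod 2) ≠ 0 := by
      intro i h0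
      have := congrFun h0 (Sum.inl i)
      simp at this
    have hz' : ∀ i : Fin n, (Pi.single (Sum.inr i) 1 : Fin n ⊕ Fin n → ZMod 2) ≠ 0 := by
      intro i h0
      have := congrFun h0 (Sum.inr i)
      simp at this
    obtain ⟨y, hy, hyv⟩ := hsur _ (hz i0)
    obtain ⟨p1, hp1, hv1⟩ := hsur _ (hz i1)
    obtain ⟨p2, hp2, hv2⟩ := hsur _ (hz' i1)
    have hz3 : (Pi.single (Sum.inl i1) 1 + Pi.single (Sum.inl i2) 1 : Fin n ⊕ Fin n → ZMod 2) ≠ 0 := by
      intro h0
      have := congrFun h0 (Sum.inl i1)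
      rw [Pi.add_apply, Pi.single_eq_same, Pi.single_eq_of_ne (by simpa using h12)] at this
      simp at this
    obtain ⟨p3, hp3, hv3⟩ := hsur _ hz3
    obtain ⟨p4, hp4, hv4⟩ := hsur _ (hz' i2)
    have hmem : ∀ p ∈ D, sympForm n (ZMod 2) (Ψ y) (Ψ p) = 0 → Ψ p ≠ Ψ y → p ∈ closure (Dd D y) := by
      intro p hp h1 h2
      exact Subgroup.subset_closure ⟨hp, fun h3 => h2 (h3 ▸ rfl), (hcomm y hy p hp).2 h1⟩
    have e1 : ∀ i j : Fin n, (Pi.single (Sum.inl i) 1 : Fin n ⊕ Fin n → ZMod 2) (Sum.inr j) = 0 := by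
      intro i j; exact Pi.single_eq_of_ne (by simp) _
    have e2 : ∀ i j : Fin n, (Pi.single (Sum.inr i) 1 : Fin n ⊕ Fin n → ZMod 2) (Sum.inl j) = 0 := by
      intro i j; exact Pi.single_eq_of_ne (by simp) _
    have e3 : ∀ i j : Fin n, i ≠ j → (Pi.single (Sum.inl i) 1 : Fin n ⊕ Fin n → ZMod 2) (Sum.inl j) = 0 := by
      intro i j hij; exact Pi.single_eq_of_ne (by simpa using hij.symm) _
    have e4 : ∀ i j : Fin n, i ≠ j → (Pi.single (Sum.inr i) 1 : Fin n ⊕ Fin n → ZMod 2) (Sum.inr j) = 0 := by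
      intro i j hij; exact Pi.single_eq_of_ne (by simpa using hij.symm) _
    have e5 : ∀ i : Fin n, (Pi.single (Sum.inl i) 1 : Fin n ⊕ Fin n → ZMod 2) (Sum.inl i) = 1 := by
      intro i; exact Pi.single_eq_same _ _
    have e6 : ∀ i : Fin n, (Pi.single (Sum.inr i) 1 : Fin n ⊕ Fin n → ZMod 2) (Sum.inr i) = 1 := by
      intro i; exact Pi.single_eq_same _ _
    refine not_solvable_of_path h.hD.1 hp1 hp2 hp3 hp4 ?_ ?_ ?_ ?_ ?_ ?_ (H := closure (Dd D y)) ?_ ?_ ?_ ?_ (hs y hy)
    · rw [hcomm p1 hp1 p2 hp2, hv1, hv2, hfr, e5]; exact one_ne_zero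
    · rw [hcomm p2 hp2 p3 hp3, hv2, hv3, hadd, hfl, hfl, e6, e4 _ _ h12, add_zero]; exact one_ne_zero
    · rw [hcomm p3 hp3 p4 hp4, hv3, hv4, hfr, Pi.add_apply, e5, e3 _ _ h12, zero_add]; exact one_ne_zero
    · rw [hcomm p1 hp1 p3 hp3, hv1, hv3, hadd, hfl, hfl, e1, e1, add_zero]
    · rw [hcomm p1 hp1 p4 hp4, hv1, hv4, hfr, e3 _ _ h12]
    · rw [hcomm p2 hp2 p4 hp4, hv2, hv4, hfr, e2]
    · apply hmem p1 hp1
      · rw [hyv, hv1, hfl, e1]
      · rw [hyv, hv1]
        intro h0
        have := congrFun h0 (Sum.inl i1)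
        rw [e5, e3 _ _ h01] at this
        exact one_ne_zero this
    · apply hmem p2 hp2
      · rw [hyv, hv2, hfr, e3 _ _ h01]
      · rw [hyv, hv2]
        intro h0
        have := congrFun h0 (Sum.inr i1)
        rw [e6, e1] at this
        exact one_ne_zero this
    · apply hmem p3 hp3
      · rw [hyv, hv3, hadd, hfl, hfl, e1, e1, add_zero]
      · rw [hyv, hv3]
        intro h0
        have := congrFun h0 (Sum.inl i1)
        rw [Pi.add_apply, e5, e3 _ _ h01, e3 _ _ h12.symm, add_zero] at this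
        exact one_ne_zero this
    · apply hmem p4 hp4
      · rw [hyv, hv4, hfr, e3 _ _ h02]
      · rw [hyv, hv4]
        intro h0
        have := congrFun h0 (Sum.inr i2)
        rw [e6, e1] at this
        exact one_ne_zero this

section unitary

open Cfsg.Agent.Lib.HermMat Cfsg.Agent.Lib.ClThreeTransU

variable {F : Type} [Field F] [Fintype F] {n : ℕ} {Φ : G → (Fin n → F)}

theorem u_pair (h : UHyp D Φ) {v : Fin n → F} (hv0 : v ≠ 0) (hv : hermForm n F 2 v v = 0) :
    ∃ x ∈ D, ∃ a : F, a ≠ 0 ∧ v = a • Φ x := by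
  obtain ⟨x, hx, a, ha⟩ := h.hsur v hv0 hv
  refine ⟨x, hx, a, ?_, ha⟩
  rintro rfl
  rw [zero_smul] at ha
  exact hv0 ha

theorem u_comm (h : UHyp D Φ) {x y : G} (hx : x ∈ D) (hy : y ∈ D) {a b : F} (ha : a ≠ 0) (hb : b ≠ 0) :
    Commute x y ↔ hermForm n F 2 (a • Φ x) (b • Φ y) = 0 := by
  rw [h.hp x hx y hy, hermForm_smul_left, hermForm_smul_right, mul_eq_zero, mul_eq_zero]
  constructor
  · intro h1; exact Or.inr (Or.inr h1)
  · rintro (h1 | h1 | h1)
    · exact absurd h1 ha
    · exact absurd h1 (pow_ne_zero _ hb)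
    · exact h1

/-- the unitary case: the dimension is at most five -/
theorem u_case (h : UHyp D Φ) (hs : ∀ x' ∈ D, Group.IsSolvable (closure (Dd D x'))) : n ≤ 5 := by
  by_contra hn
  push Not at hn
  have hF2 := hF22 h.hF
  have hch := char2' h.hF
  obtain ⟨ω, hω0, hω1⟩ := exists_omega h.hF
  have hω3 := cube' h.hF hω0
  have hω2 : 1 + ω ≠ 0 := by
    intro h0
    apply hω1
    have : ω = 1 := by
      have h2 : ω = -1 := by linear_combination h0
      rw [h2, CharTwo.neg_eq]
    exact this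
  have hωs : 1 + ω + ω ^ 2 = 0 := by
    have h2 : (1 + ω) * (1 + ω + ω ^ 2) = 0 := by
      have h3 : (1 + ω) * (1 + ω + ω ^ 2) = 1 + ω ^ 3 + 2 * (ω + ω ^ 2) := by ring
      rw [h3, hω3, CharTwo.two_eq_zero, zero_mul, add_zero]
      exact CharTwo.add_self_eq_zero 1
    exact (mul_eq_zero.1 h2).resolve_left hω2
  -- the vectors
  let v : (Fin 6 → F) → (Fin n → F) := fun c => ∑ i : Fin 6, c i • (Pi.single (Fin.castLE hn i) 1 : Fin n → F)
  have hv : ∀ c d : Fin 6 → F, hermForm n F 2 (v c) (v d) = ∑ i, c i * d i ^ 2 := by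
    intro c d
    have hl : ∀ w : Fin n → F, hermForm n F 2 (v c) w = ∑ i : Fin 6, c i * (w (Fin.castLE hn i)) ^ 2 := by
      intro w
      let L : (Fin n → F) →ₗ[F] F :=
        { toFun := fun x => hermForm n F 2 x w
          map_add' := fun x y => hermForm_add_left x y w
          map_smul' := fun a x => hermForm_smul_left a x w }
      show L (v c) = _
      rw [map_sum]
      refine Finset.sum_congr rfl fun i _ => ?_
      rw [map_smul, smul_eq_mul]
      congr 1
      exact hermForm_single_left w _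
    rw [hl]
    refine Finset.sum_congr rfl fun i _ => ?_
    congr 2
    show (∑ j : Fin 6, d j • (Pi.single (Fin.castLE hn j) 1 : Fin n → F)) (Fin.castLE hn i) = d i
    rw [Finset.sum_apply, Finset.sum_eq_single i]
    · simp
    · intro j _ hj
      rw [Pi.smul_apply, Pi.single_eq_of_ne, smul_zero]
      intro h0
      exact hj (Fin.castLE_injective hn h0).symm
    · simp
  have hvi : ∀ (c : Fin 6 → F) (i : Fin 6), v c (Fin.castLE hn i) = c i := by
    intro c i
    show (∑ j : Fin 6, c j • (Pi.single (Fin.castLE hn j) 1 : Fin n → F)) (Fin.castLE hn i) = c i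
    rw [Finset.sum_apply, Finset.sum_eq_single i]
    · simp
    · intro j _ hj
      rw [Pi.smul_apply, Pi.single_eq_of_ne, smul_zero]
      intro h0
      exact hj (Fin.castLE_injective hn h0).symm
    · simp
  have hne : ∀ c : Fin 6 → F, (∃ i, c i ≠ 0) → v c ≠ 0 := by
    rintro c ⟨i, hi⟩ h0
    apply hi
    rw [← hvi c i, h0]; rfl
  have h11 : (1 : F) + 1 = 0 := CharTwo.add_self_eq_zero 1
  obtain ⟨y, hy, a, ha, hya⟩ := u_pair h (v := v ![1, 1, 0, 0, 0, 0]) (hne _ ⟨0, by simp⟩) (by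
    rw [hv, Fin.sum_univ_six]; simp [h11])
  obtain ⟨p1, hp1, a1, ha1, hy1⟩ := u_pair h (v := v ![0, 0, 1, 1, 0, 0]) (hne _ ⟨2, by simp⟩) (by
    rw [hv, Fin.sum_univ_six]; simp [h11])
  obtain ⟨p2, hp2, a2, ha2, hy2⟩ := u_pair h (v := v ![0, 0, 1, ω, 0, 0]) (hne _ ⟨2, by simp⟩) (by
    rw [hv, Fin.sum_univ_six]; simp [← pow_succ', hω3, h11])
  obtain ⟨p3, hp3, a3, ha3, hy3⟩ := u_pair h (v := v ![0, 0, 1, 1, 1, ω]) (hne _ ⟨2, by simp⟩) (by
    rw [hv, Fin.sum_univ_six]; simp [← pow_succ', hω3, h11])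
  obtain ⟨p4, hp4, a4, ha4, hy4⟩ := u_pair h (v := v ![0, 0, 0, 0, 1, 1]) (hne _ ⟨4, by simp⟩) (by
    rw [hv, Fin.sum_univ_six]; simp [h11])
  have hω4 : 1 + ω ^ 2 ≠ 0 := by
    have h2 : 1 + ω ^ 2 = -ω := by linear_combination hωs
    rw [h2]; exact neg_ne_zero.2 hω0
  have hmem : ∀ p ∈ D, ∀ b : F, b ≠ 0 → ∀ c : Fin 6 → F, v c = b • Φ p → c 0 = 0 → c 1 = 0 → p ∈ closure (Dd D y) := by
    intro p hp b hb c hc h0 h1
    apply Subgroup.subset_closure
    refine ⟨hp, ?_, ?_⟩
    · rintro rfl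
      have h2 : v c = (b * a⁻¹) • v ![1, 1, 0, 0, 0, 0] := by
        rw [hya, smul_smul, mul_assoc, inv_mul_cancel₀ ha, mul_one, hc]
      have h3 := congrFun h2 (Fin.castLE hn 0)
      rw [hvi, Pi.smul_apply, hvi, h0] at h3
      simp [ha, hb] at h3
    · rw [u_comm h hy hp ha hb, ← hya, ← hc, hv, Fin.sum_univ_six]
      simp [h0, h1]
  refine not_solvable_of_path h.hD.1 hp1 hp2 hp3 hp4 ?_ ?_ ?_ ?_ ?_ ?_ (H := closure (Dd D y)) ?_ ?_ ?_ ?_ (hs y hy)
  · rw [u_comm h hp1 hp2 ha1 ha2, ← hy1, ← hy2, hv, Fin.sum_univ_six]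
    simpa using hω4
  · rw [u_comm h hp2 hp3 ha2 ha3, ← hy2, ← hy3, hv, Fin.sum_univ_six]
    simpa using hω2
  · rw [u_comm h hp3 hp4 ha3 ha4, ← hy3, ← hy4, hv, Fin.sum_univ_six]
    simpa using hω2
  · rw [u_comm h hp1 hp3 ha1 ha3, ← hy1, ← hy3, hv, Fin.sum_univ_six]
    simpa using h11
  · rw [u_comm h hp1 hp4 ha1 ha4, ← hy1, ← hy4, hv, Fin.sum_univ_six]
    simp
  · rw [u_comm h hp2 hp4 ha2 ha4, ← hy2, ← hy4, hv, Fin.sum_univ_six]
    simp
  · exact hmem p1 hp1 a1 ha1 _ hy1 (by simp) (by simp)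
  · exact hmem p2 hp2 a2 ha2 _ hy2 (by simp) (by simp)
  · exact hmem p3 hp3 a3 ha3 _ hy3 (by simp) (by simp)
  · exact hmem p4 hp4 a4 ha4 _ hy4 (by simp) (by simp)

end unitary

/-- both cores central is impossible -/
theorem central_case [Finite G] (hsol : ∀ N : Subgroup G, N.Normal → Group.IsSolvable ↥N → N = ⊥)
    (hperf : ⁅commutator G, commutator G⁆ = commutator G) (hD : IsThreeTranspositionClass D) {x : G} (hx : x ∈ D)
    (hs : Group.IsSolvable ↥(closure (Dd D x)))
    (h1 : pPrimeCore 2 ↥(closure (Dd D x)) ≤ center ↥(closure (Dd D x)))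
    (h2 : pCore 2 ↥(closure (Dd D x)) ≤ center ↥(closure (Dd D x))) : False := by
  have hgrp : IsThreeTranspositionGroup D := ⟨hD.1, fun g d hd => FischerHyp.class_conj hD g hd, hD.2.2⟩
  have hF : fittingSubgroup ↥(closure (Dd D x)) ≤ center ↥(closure (Dd D x)) :=
    (BenderMax.fitting_le_sup 2).trans (sup_le h2 (inf_le_right.trans h1))
  have hab : center ↥(closure (Dd D x)) = ⊤ := by
    rw [eq_top_iff]
    refine le_trans ?_ ((Cfsg.Agent.S0044.result (G := ↥(closure (Dd D x)))).trans hF)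
    intro g _
    rw [mem_centralizer_iff]
    intro f hf
    exact (mem_center_iff.1 (hF hf) g).symm
  by_cases hne : (Dd D x).Nonempty
  · obtain ⟨y, hy⟩ := hne
    have hprim := FischerHyp.primitive hsol hperf hD ⟨x, hx, y, hy.1, hy.2.1.symm⟩
    have h3 : ∀ y' ∈ Dd D x, y' = y := by
      intro y' hy'
      obtain ⟨g, hg, hgy⟩ := FischerHyp.one_class hsol hperf hD x hx y hy y' hy'
      have h4 : (⟨g, hg⟩ : closure (Dd D x)) ∈ center ↥(closure (Dd D x)) := by rw [hab]; exact mem_top _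
      have h5 := congrArg Subtype.val (mem_center_iff.1 h4 ⟨y, Subgroup.subset_closure hy⟩)
      have h6 : y * g = g * y := h5
      rw [← hgy, ← h6, mul_inv_cancel_right]
    have h4 : Dd D x = {y} := Set.eq_singleton_iff_unique_mem.2 ⟨hy, h3⟩
    have h5 := NCCore.Dd_card hgrp hprim hx hy.1
    rw [h4, Set.ncard_singleton] at h5
    have h6 : x ∈ Dd D y := NCCore.Dd_symm hx hy
    obtain ⟨z, hz⟩ := Set.ncard_eq_one.1 h5.symm
    rw [hz] at h6
    rw [← Set.mem_singleton_iff.1 h6] at hz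
    apply hy.2.1.symm
    apply V_trivial hgrp hprim hx hy.1
    intro w hw
    constructor
    · intro hc
      by_cases hwx : w = x
      · rw [hwx]; exact hy.2.2.symm
      · have : w ∈ Dd D x := ⟨hw, hwx, hc⟩
        rw [h3 w this]
    · intro hc
      by_cases hwy : w = y
      · rw [hwy]; exact hy.2.2
      · have : w ∈ Dd D y := ⟨hw, hwy, hc⟩
        rw [hz] at this
        rw [Set.mem_singleton_iff.1 this]
  · rw [Set.not_nonempty_iff_eq_empty] at hne
    have hall : ∀ d ∈ D, Dd D d = ∅ := by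
      intro d hd
      obtain ⟨g, rfl⟩ := FischerHyp.class_trans hD hx hd
      rw [NCCore.Dd_cj hgrp.2.1, hne]
      exact Set.image_empty _
    have hE : ∀ E : Set G, E ⊆ D → E.Finite → (∀ a ∈ E, ∀ b ∈ E, Commute a b) → E.ncard ≤ 1 := by
      intro E hE hfin hc
      rw [Set.ncard_le_one hfin]
      intro a ha b hb
      by_contra hab'
      have : b ∈ Dd D a := ⟨hE hb, fun h => hab' h.symm, hc a ha b hb⟩
      rw [hall a (hE ha)] at this
      exact this
    have hw : commutingWidth D = 1 := by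
      apply le_antisymm
      · refine csSup_le ⟨0, ∅, Set.empty_subset _, Set.finite_empty, by simp, by simp⟩ ?_
        rintro n ⟨E, h1, h2, h3, rfl⟩
        exact hE E h1 h2 h3
      · apply le_csSup
        · refine ⟨1, ?_⟩
          rintro n ⟨E, h1, h2, h3, rfl⟩
          exact hE E h1 h2 h3
        · refine ⟨{x}, Set.singleton_subset_iff.2 hx, Set.finite_singleton x, ?_, Set.ncard_singleton x⟩
          rintro a rfl b rfl
          exact Commute.refl _
    have h3 := (Cfsg.Agent.S5346.result hgrp hx).1 hw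
    have h4 : pCore 3 G = ⊥ := by
      apply hsol _ (pCore_normal 3 G)
      haveI : Fact (Nat.Prime 3) := ⟨Nat.prime_three⟩
      haveI := (Cores.isPGroup_pCore 3 G).isNilpotent
      infer_instance
    rw [h4, sup_bot_eq] at h3
    have h5 : (⊤ : Subgroup G) = ⊥ := by
      apply hsol _ inferInstance
      rw [← h3]
      infer_instance
    have h6 : x ∈ (⊤ : Subgroup G) := mem_top x
    rw [h5, mem_bot] at h6
    have := hD.1.1 x hx
    rw [h6, orderOf_one] at this
    omega

/-- the output of the core theorem -/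
def CoreOut (D : Set G) : Prop :=
  SpHyp D ∨ ∃ (F : Type) (_ : Field F) (_ : Fintype F) (n : ℕ) (Φ : G → (Fin n → F)), UHyp D Φ

theorem main14 [Finite G] (hsol : ∀ N : Subgroup G, N.Normal → Group.IsSolvable ↥N → N = ⊥)
    (hperf : ⁅commutator G, commutator G⁆ = commutator G) (hD : IsThreeTranspositionClass D) {x : G} (hx : x ∈ D)
    (hs : Group.IsSolvable ↥(closure (Dd D x)))
    (core : ¬ pCore 2 ↥(closure (Dd D x)) ≤ center ↥(closure (Dd D x)) → CoreOut D) :
    Nonempty (G ≃* Equiv.Perm (Fin 5)) ∨ Nonempty (G ≃* Equiv.Perm (Fin 6)) ∨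
      ∃ (F : Type) (_ : Field F) (_ : Fintype F), Fintype.card F = 4 ∧
        (Nonempty (G ≃* Cfsg.PSU 4 F 2) ∨ Nonempty (G ≃* Cfsg.PSU 5 F 2)) := by
  have hgrp : IsThreeTranspositionGroup D := ⟨hD.1, fun g d hd => FischerHyp.class_conj hD g hd, hD.2.2⟩
  by_cases h1 : pPrimeCore 2 ↥(closure (Dd D x)) ≤ center ↥(closure (Dd D x))
  · by_cases h2 : pCore 2 ↥(closure (Dd D x)) ≤ center ↥(closure (Dd D x))
    · exact (central_case hsol hperf hD hx hs h1 h2).elim
    · right
      have hall : ∀ x' ∈ D, Group.IsSolvable ↥(closure (Dd D x')) := by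
        intro x' hx'
        obtain ⟨g, rfl⟩ := FischerHyp.class_trans hD hx hx'
        have h3 : closure (Dd D (g * x * g⁻¹)) = (closure (Dd D x)).map (MulAut.conj g).toMonoidHom := by
          rw [MonoidHom.map_closure, NCCore.Dd_cj hgrp.2.1]
          rfl
        rw [h3]
        exact Group.isSolvable_of_surjective ((MulAut.conj g).toMonoidHom.subgroupMap_surjective _)
      rcases core h2 with h | ⟨F, _, _, n, Φ, h⟩
      · left
        have hne : (Dd D x).Nonempty := by
          by_contra hne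
          rw [Set.not_nonempty_iff_eq_empty] at hne
          apply h2
          intro g _
          have hg : g = 1 := by
            have h3 : closure (Dd D x) = ⊥ := by rw [hne, Subgroup.closure_empty]
            apply Subtype.ext
            have h4 : (g : G) ∈ (⊥ : Subgroup G) := h3 ▸ g.2
            exact mem_bot.1 h4
          rw [hg]; exact one_mem _
        obtain ⟨c, hc⟩ := hne
        exact sp_case h hx hc hall
      · right
        have hn := u_case h hall
        have hn4 := h.hn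
        refine ⟨F, inferInstance, inferInstance, h.hF, ?_⟩
        obtain hn | hn : n = 4 ∨ n = 5 := by omega
        · subst hn; exact Or.inl h.main
        · subst hn; exact Or.inr h.main
  · exact Or.inl (NCCore.main hsol hperf hD x hx h1)

end Cfsg.Agent.Lib.Fs14
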