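import Cfsg.Agent.Lib.NCCoreA
import Cfsg.Agent.Lib.FiOrd
import Cfsg.Prelude.Def_CaseTheorems

/-!
helper27: 3-transposition groups in which the odd core of `⟨D_x⟩` is not central (part B): there are no
commuting triples.
-/

set_option autoImplicit false

namespace Cfsg.Agent.Lib.NCCore

open Cfsg Cfsg.Agent.Lib.ThreeRank3 Subgroup

variable {G : Type*} [Group G] {D : Set G}

theorem trans_pairs [Finite G] (hD : IsThreeTranspositionGroup D) (hprim : IsPrimitiveUnderConj D) {x y d e : G}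
    (hx : x ∈ D) (hy : y ∈ D) (hd : d ∈ Dd D x) (he : e ∈ Dd D y) :
    ∃ g : G, g * x * g⁻¹ = y ∧ g * d * g⁻¹ = e := by
  obtain ⟨g, hg⟩ := hprim.1 x hx y hy
  have h1 : g * d * g⁻¹ ∈ Dd D y := by rw [← hg]; exact Dd_conj hD.2.1 hd
  obtain ⟨h, hh, hhe⟩ := transitive_on_commuting hD hprim hy h1 he
  have hc : Commute y h := commute_of_mem_closure (fun z hz => hz.2.2) hh
  refine ⟨h * g, ?_, ?_⟩
  · calc h * g * x * (h * g)⁻¹ = h * (g * x * g⁻¹) * h⁻¹ := by group
      _ = y := by rw [hg, ← hc.eq]; group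
  · calc h * g * d * (h * g)⁻¹ = h * (g * d * g⁻¹) * h⁻¹ := by group
      _ = e := hhe

theorem W_card [Finite G] (hD : IsThreeTranspositionGroup D) (hprim : IsPrimitiveUnderConj D) {x y d e : G}
    (hx : x ∈ D) (hy : y ∈ D) (hd : d ∈ Dd D x) (he : e ∈ Dd D y) : (W D x d).ncard = (W D y e).ncard := by
  obtain ⟨g, h1, h2⟩ := trans_pairs hD hprim hx hy hd he
  rw [← h1, ← h2, W_cj hD.2.1, ncard_cj]

theorem Dd_card (hD : IsThreeTranspositionGroup D) (hprim : IsPrimitiveUnderConj D) {x y : G}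
    (hx : x ∈ D) (hy : y ∈ D) : (Dd D x).ncard = (Dd D y).ncard := by
  obtain ⟨g, h1⟩ := hprim.1 x hx y hy
  rw [← h1, Dd_cj hD.2.1, ncard_cj]

/-- two different members never have the same commuting members -/
theorem Dd_inj (hD : IsThreeTranspositionGroup D) (hprim : IsPrimitiveUnderConj D) {x c : G}
    (hx : x ∈ D) (hc : c ∈ Dd D x) {a b : G} (ha : a ∈ D) (hb : b ∈ D) (h : Dd D a = Dd D b) : a = b := by
  have hblock : ∀ g : G, (fun x => g * x * g⁻¹) '' {z | z ∈ D ∧ Dd D z = Dd D a} = {z | z ∈ D ∧ Dd D z = Dd D a} ∨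
      Disjoint ((fun x => g * x * g⁻¹) '' {z | z ∈ D ∧ Dd D z = Dd D a}) {z | z ∈ D ∧ Dd D z = Dd D a} := by
    intro g
    show cj g {z | z ∈ D ∧ Dd D z = Dd D a} = {z | z ∈ D ∧ Dd D z = Dd D a} ∨
      Disjoint (cj g {z | z ∈ D ∧ Dd D z = Dd D a}) {z | z ∈ D ∧ Dd D z = Dd D a}
    by_cases hdis : Disjoint (cj g {z | z ∈ D ∧ Dd D z = Dd D a}) {z | z ∈ D ∧ Dd D z = Dd D a}
    · exact Or.inr hdis
    · left
      rw [Set.not_disjoint_iff] at hdis
      obtain ⟨w, hw1, hw2⟩ := hdis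
      rw [mem_cj] at hw1
      have hgw : cj g (Dd D a) = Dd D a := by
        rw [← hw1.2, ← Dd_cj hD.2.1]
        have e : g * (g⁻¹ * w * g) * g⁻¹ = w := by group
        rw [e, hw2.2, hw1.2]
      ext z
      rw [mem_cj]
      have e : g * (g⁻¹ * z * g) * g⁻¹ = z := by group
      constructor
      · intro hz
        refine ⟨?_, ?_⟩
        · have := hD.2.1 g _ hz.1
          rwa [e] at this
        · have := Dd_cj hD.2.1 g (g⁻¹ * z * g)
          rw [e, hz.2, hgw] at this
          exact this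
      · intro hz
        refine ⟨?_, ?_⟩
        · have := hD.2.1 g⁻¹ _ hz.1
          rwa [inv_inv] at this
        · apply cj_injective g
          rw [← Dd_cj hD.2.1, e, hz.2, hgw]
  rcases hprim.2.2 {z | z ∈ D ∧ Dd D z = Dd D a} (fun z hz => hz.1) hblock with h1 | h1
  · exact h1 ⟨ha, rfl⟩ ⟨hb, h.symm⟩
  · exfalso
    have h2 : x ∈ {z | z ∈ D ∧ Dd D z = Dd D a} := by rw [h1]; exact hx
    have h3 : c ∈ {z | z ∈ D ∧ Dd D z = Dd D a} := by rw [h1]; exact hc.1
    have h4 : c ∈ Dd D c := by rw [h3.2, ← h2.2]; exact hc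
    exact h4.2.1 rfl

/-- a block never contains a commuting pair -/
theorem no_comm_block [Finite G] (hD : IsThreeTranspositionGroup D) (hprim : IsPrimitiveUnderConj D)
    (N1 : ∀ y ∈ D, ∀ d ∈ Dd D y, ∃ d' ∈ W D y d, d' ≠ d) {e y z : G} (he : e ∈ D) (hy : y ∈ Dd D e)
    (hz : z ∈ Dd D e) (hyz : z ∈ Dd D y) : W D y e ≠ W D z e := by
  intro hW
  have hey : e ∈ Dd D y := Dd_symm he hy
  have hez : e ∈ Dd D z := Dd_symm he hz
  -- members outside the block commute with the block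
  have hout : ∀ u ∈ Dd D e, W D u e ≠ W D y e → ∀ b ∈ Dd D e, W D b e = W D y e → Commute u b := by
    intro u hu hub b hb hbW
    by_contra hcon
    have h1 : ∀ v ∈ Dd D e, W D v e = W D y e → ¬ Commute u v := by
      intro v hv hvW h
      apply hcon
      exact W_vi hD.1 hD.2.1 he hv hb (by rw [hbW, hvW]) hu (by rw [hvW]; exact hub) h
    apply hub
    exact W_D5' hD.1 hD.2.1 he hy.1 hz.1 hey hez hyz hu (h1 y hy rfl) (h1 z hz hW.symm)
  -- the block is invariant
  have hinv : ∀ h ∈ closure (Dd D e), ∀ v : G, (v ∈ Dd D e ∧ W D v e = W D y e) ↔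
      (h * v * h⁻¹ ∈ Dd D e ∧ W D (h * v * h⁻¹) e = W D y e) := by
    intro h hh
    induction hh using closure_induction with
    | mem h hh =>
      have haux : ∀ v : G, (v ∈ Dd D e ∧ W D v e = W D y e) →
          (h * v * h⁻¹ ∈ Dd D e ∧ W D (h * v * h⁻¹) e = W D y e) := by
        rintro v ⟨hv, hvW⟩
        have hhe : h * e * h⁻¹ = e := by rw [← hh.2.2.eq]; group
        by_cases hhW : W D h e = W D y e
        · refine ⟨?_, ?_⟩
          · have := Dd_conj hD.2.1 (g := h) hv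
            rwa [hhe] at this
          · have h1 := W_cj hD.2.1 h v e
            have h2 := W_cj hD.2.1 h h e
            have h3 : h * h * h⁻¹ = h := by group
            rw [hhe] at h1 h2
            rw [h3] at h2
            rw [h1, hvW, ← hhW, ← h2]
        · have h1 := hout h hh hhW v hv hvW
          have h2 : h * v * h⁻¹ = v := by rw [h1.eq]; group
          rw [h2]
          exact ⟨hv, hvW⟩
      intro v
      refine ⟨haux v, fun hv => ?_⟩
      have := haux _ hv
      have h2 : h * (h * v * h⁻¹) * h⁻¹ = v := by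
        rw [inv_self hD.1 hh.1]
        calc h * (h * v * h) * h = (h * h) * v * (h * h) := by group
          _ = v := by rw [sq_one hD.1 hh.1]; group
      rwa [h2] at this
    | one => intro v; simp
    | mul a b _ _ iha ihb =>
      intro v
      rw [ihb v, iha (b * v * b⁻¹)]
      have : a * (b * v * b⁻¹) * a⁻¹ = a * b * v * (a * b)⁻¹ := by group
      rw [this]
    | inv a _ iha =>
      intro v
      rw [iha (a⁻¹ * v * a⁻¹⁻¹)]
      have : a * (a⁻¹ * v * a⁻¹⁻¹) * a⁻¹ = v := by group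
      rw [this]
  have hall : ∀ f ∈ Dd D e, W D f e = W D y e := by
    intro f hf
    obtain ⟨h, hh, hhf⟩ := transitive_on_commuting hD hprim he hy hf
    have := ((hinv h hh y).1 ⟨hy, rfl⟩).2
    rwa [hhf] at this
  obtain ⟨e', he', hne⟩ := N1 y hy.1 e hey
  have hsub : Dd D e ⊆ Dd D e' := by
    intro f hf
    rw [← hall f hf] at he'
    exact Dd_symm hf.1 he'.1
  have heq : Dd D e = Dd D e' :=
    Set.eq_of_subset_of_ncard_le hsub (Dd_card hD hprim he'.1.1 he).le (Set.toFinite _)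
  exact hne (Dd_inj hD hprim he hy he'.1.1 he heq.symm)

/-- there are no commuting triples -/
theorem no_triple [Finite G] (hD : IsThreeTranspositionGroup D) (hprim : IsPrimitiveUnderConj D)
    (N1 : ∀ y ∈ D, ∀ d ∈ Dd D y, ∃ d' ∈ W D y d, d' ≠ d) {e x c : G} (he : e ∈ D) (hx : x ∈ Dd D e)
    (hc : c ∈ Dd D e) (hcx : c ∈ Dd D x) : False := by
  have hex : e ∈ Dd D x := Dd_symm he hx
  have hec : e ∈ Dd D c := Dd_symm he hc
  have hxc : x ∈ Dd D c := Dd_symm hx.1 hcx
  have h1 := no_comm_block hD hprim N1 he hx hc hcx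
  have h2 := W_vii hD.1 hD.2.1 hx.1 hc.1 he hcx hex hec h1
  have h3 : W D c x = W D e x := Set.eq_of_subset_of_ncard_le h2
    (W_card hD hprim he hc.1 hx hxc).le (Set.toFinite _)
  exact no_comm_block hD hprim N1 hx.1 hcx hex hec h3

/-- noncentral odd core gives nontrivial `W`. -/
theorem exists_W [Finite G] (hD : IsThreeTranspositionGroup D) {x : G} (hx : x ∈ D)
    (h : ¬ oddCore ↥(closure (Dd D x)) ≤ center ↥(closure (Dd D x))) :
    ∃ d ∈ Dd D x, ∃ d' ∈ W D x d, d' ≠ d := by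
  set H := closure (Dd D x) with hH
  have hNn : (oddCore H).Normal := PCoreTools.pPrimeCore_normal' 2 H
  have hodd : Odd (Nat.card (oddCore H)) := by
    have := PCoreTools.coprime_card_pPrimeCore (G := H) 2
    rwa [Nat.coprime_two_right] at this
  rw [SetLike.not_le_iff_exists] at h
  obtain ⟨n, hn, hnc⟩ := h
  -- some generator does not commute with `n`
  obtain ⟨d, hd, hdn⟩ : ∃ d ∈ Dd D x, ¬ Commute n.1 d := by
    by_contra hcon
    push Not at hcon
    apply hnc
    rw [mem_center_iff]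
    intro g
    apply Subtype.ext
    exact ((commute_of_mem_closure (S := Dd D x) hcon g.2).eq).symm
  have hxn : Commute x n.1 := commute_of_mem_closure (fun z hz => hz.2.2) n.2
  have hxn' : n.1 * x * n.1⁻¹ = x := by rw [← hxn.eq]; group
  have hd' : n.1 * d * n.1⁻¹ ∈ Dd D x := by
    have := Dd_conj hD.2.1 (g := n.1) hd
    rwa [hxn'] at this
  have hne : n.1 * d * n.1⁻¹ ≠ d := by
    intro h
    apply hdn
    show n.1 * d = d * n.1
    calc n.1 * d = (n.1 * d * n.1⁻¹) * n.1 := by group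
      _ = d * n.1 := by rw [h]
  -- elements of the core of order dividing two are trivial
  have htriv : ∀ t : H, t ∈ oddCore H → t ^ 2 = 1 → t = 1 := by
    intro t ht h2
    have h3 : orderOf t ∣ 2 := orderOf_dvd_of_pow_eq_one h2
    have h4 : orderOf t ∣ Nat.card (oddCore H) := by
      have := orderOf_dvd_natCard (⟨t, ht⟩ : oddCore H)
      rwa [Subgroup.orderOf_mk] at this
    have h5 : orderOf t ∣ 1 := by
      have hco : Nat.Coprime 2 (Nat.card (oddCore H)) := (Nat.coprime_two_left).2 hodd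
      rw [← hco]
      exact Nat.dvd_gcd h3 h4
    exact orderOf_eq_one_iff.1 (Nat.dvd_one.1 h5)
  -- the key: `Dd ∩ Dd d ⊆ Dd (n d n⁻¹)`
  have key : ∀ n : H, n ∈ oddCore H → ∀ d ∈ Dd D x, Dd D x ∩ Dd D d ⊆ Dd D x ∩ Dd D (n.1 * d * n.1⁻¹) := by
    rintro n hn d hd z ⟨hzx, hzd⟩
    have hxn : Commute x n.1 := commute_of_mem_closure (fun z hz => hz.2.2) n.2
    have hxn' : n.1 * x * n.1⁻¹ = x := by rw [← hxn.eq]; group
    have hd' : n.1 * d * n.1⁻¹ ∈ Dd D x := by
      have := Dd_conj hD.2.1 (g := n.1) hd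
      rwa [hxn'] at this
    let z' : H := ⟨z, subset_closure hzx⟩
    let d1 : H := ⟨d, subset_closure hd⟩
    have hzz : z' * z' = 1 := Subtype.ext (sq_one hD.1 hzx.1)
    have hdd : d1 * d1 = 1 := Subtype.ext (sq_one hD.1 hd.1)
    have hzd1 : z' * d1 = d1 * z' := Subtype.ext hzd.2.2.symm.eq
    have hq : ∀ a b : H, a⁻¹ * b ∈ oddCore H ↔ (QuotientGroup.mk a : H ⧸ oddCore H) = QuotientGroup.mk b := by
      intro a b; exact QuotientGroup.eq.symm
    have hn1 : (QuotientGroup.mk n : H ⧸ oddCore H) = 1 := (QuotientGroup.eq_one_iff n).2 hn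
    have hqd : (QuotientGroup.mk (n * d1 * n⁻¹) : H ⧸ oddCore H) = QuotientGroup.mk d1 := by
      rw [QuotientGroup.mk_mul, QuotientGroup.mk_mul, QuotientGroup.mk_inv, hn1]; group
    have hzd2 : (z' * d1) ^ 2 = 1 := by
      rw [pow_two]
      calc z' * d1 * (z' * d1) = z' * (d1 * z') * d1 := by group
        _ = z' * (z' * d1) * d1 := by rw [hzd1]
        _ = (z' * z') * (d1 * d1) := by group
        _ = 1 := by rw [hzz, hdd, one_mul]
    have hmem : (z' * (n * d1 * n⁻¹)) ^ 2 ∈ oddCore H := by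
      rw [← QuotientGroup.eq_one_iff, QuotientGroup.mk_pow, QuotientGroup.mk_mul, hqd, ← QuotientGroup.mk_mul,
        ← QuotientGroup.mk_pow, hzd2, QuotientGroup.mk_one]
    -- `z ≠ n d n⁻¹` modulo the core
    have hzdn : ¬ (z' * d1 ∈ oddCore H) := by
      intro h
      have := htriv _ h hzd2
      apply hzd.2.1
      have h1 : z * d = 1 := congrArg Subtype.val this
      have := eq_inv_of_mul_eq_one_left h1
      rwa [inv_self hD.1 hd.1] at this
    have hnot : ¬ (z' * (n * d1 * n⁻¹) ∈ oddCore H) := by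
      intro h
      apply hzdn
      rw [← QuotientGroup.eq_one_iff, QuotientGroup.mk_mul, ← hqd, ← QuotientGroup.mk_mul, QuotientGroup.eq_one_iff]
      exact h
    refine ⟨hzx, hzx.1, ?_, ?_⟩
    · intro heq
      apply hnot
      have : z' * (n * d1 * n⁻¹) = 1 := by
        have h1 : z' = n * d1 * n⁻¹ := Subtype.ext heq
        rw [← h1, hzz]
      rw [this]; exact one_mem _
    · rcases hD.1.2 z hzx.1 _ hd'.1 with h2 | h3
      · exact (commute_of_sq (sq_one hD.1 hzx.1) (sq_one hD.1 hd'.1) h2).symm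
      · exfalso
        apply hnot
        have h3' : (z' * (n * d1 * n⁻¹)) ^ 3 = 1 := Subtype.ext h3
        have : z' * (n * d1 * n⁻¹) = ((z' * (n * d1 * n⁻¹)) ^ 2)⁻¹ := by
          rw [eq_inv_iff_mul_eq_one, ← pow_succ', h3']
        rw [this]
        exact inv_mem hmem
  refine ⟨d, hd, n.1 * d * n.1⁻¹, ⟨hd', ?_⟩, hne⟩
  apply Set.Subset.antisymm
  · have := key n⁻¹ (inv_mem hn) _ hd'
    have e : ((n⁻¹ : H) : G) * (n.1 * d * n.1⁻¹) * ((n⁻¹ : H) : G)⁻¹ = d := by
      rw [Subgroup.coe_inv]; group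
    rwa [e] at this
  · exact key n hn d hd

theorem N1_of [Finite G] (hD : IsThreeTranspositionGroup D) (hprim : IsPrimitiveUnderConj D) {x : G} (hx : x ∈ D)
    (h : ¬ oddCore ↥(closure (Dd D x)) ≤ center ↥(closure (Dd D x))) :
    ∀ y ∈ D, ∀ d ∈ Dd D y, ∃ d' ∈ W D y d, d' ≠ d := by
  obtain ⟨d0, hd0, d1, hd1, hne⟩ := exists_W hD hx h
  intro y hy d hd
  obtain ⟨g, h1, h2⟩ := trans_pairs hD hprim hx hy hd0 hd
  refine ⟨g * d1 * g⁻¹, ?_, ?_⟩
  · rw [← h1, ← h2, W_cj hD.2.1]
    exact conj_mem_cj hd1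
  · rw [← h2]
    intro h
    exact hne (mul_left_cancel (mul_right_cancel h))

end Cfsg.Agent.Lib.NCCore
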