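import Cfsg.Agent.Lib.FsPolC42
import Cfsg.Agent.Lib.NCCoreB
import Cfsg.Agent.Lib.ThreeRank3
import Cfsg.Agent.Lib.Cores

/-!
# From a 3-transposition group to the abstract Fischer space with polar lines (helper73 for helper42)
-/

set_option autoImplicit false
set_option linter.all false

namespace Cfsg.Agent.Lib.FsPol

open Cfsg Cfsg.Agent.Lib.ThreeRank3 Cfsg.Agent.Lib.NCCore Subgroup

variable {G : Type*} [Group G] {D : Set G}

def cD (D : Set G) (hc : ∀ g : G, ∀ d ∈ D, g * d * g⁻¹ ∈ D) : ↥D → ↥D → ↥D := fun a x => ⟨a.1 * x.1 * a.1⁻¹, hc a.1 x.1 x.2⟩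

/-- conjugation by a group element -/
def sg (hc : ∀ g : G, ∀ d ∈ D, g * d * g⁻¹ ∈ D) (g : G) (x : ↥D) : ↥D := ⟨g * x.1 * g⁻¹, hc g x.1 x.2⟩

theorem C_iff (hc : ∀ g : G, ∀ d ∈ D, g * d * g⁻¹ ∈ D) (a b : ↥D) : C (cD D hc) a b ↔ Commute a.1 b.1 := by
  unfold C cD
  rw [Subtype.ext_iff]
  show a.1 * b.1 * a.1⁻¹ = b.1 ↔ a.1 * b.1 = b.1 * a.1
  rw [mul_inv_eq_iff_eq_mul]

theorem sg_C (hc : ∀ g : G, ∀ d ∈ D, g * d * g⁻¹ ∈ D) (g : G) (a b : ↥D) :
    C (cD D hc) (sg hc g a) (sg hc g b) ↔ C (cD D hc) a b := by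
  rw [C_iff, C_iff]
  exact commute_conj_iff

theorem sg_surj (hc : ∀ g : G, ∀ d ∈ D, g * d * g⁻¹ ∈ D) (g : G) (a : ↥D) : sg hc g (sg hc g⁻¹ a) = a := by
  apply Subtype.ext
  show g * (g⁻¹ * a.1 * g⁻¹⁻¹) * g⁻¹ = a.1
  group

theorem sg_inj (hc : ∀ g : G, ∀ d ∈ D, g * d * g⁻¹ ∈ D) (g : G) : Function.Injective (sg hc g) := by
  intro a b hab
  have h : g * a.1 * g⁻¹ = g * b.1 * g⁻¹ := congrArg Subtype.val hab
  exact Subtype.ext (mul_left_cancel (mul_right_cancel h))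

theorem set1 (hc : ∀ g : G, ∀ d ∈ D, g * d * g⁻¹ ∈ D) (g : G) (a : ↥D) :
    {z | C (cD D hc) (sg hc g a) z} = sg hc g '' {z | C (cD D hc) a z} := by
  ext z
  constructor
  · intro hz
    refine ⟨sg hc g⁻¹ z, ?_, sg_surj hc g z⟩
    rw [← sg_surj hc g z] at hz
    exact (sg_C hc g _ _).1 hz
  · rintro ⟨w, hw, rfl⟩
    exact (sg_C hc g _ _).2 hw

theorem set2 (hc : ∀ g : G, ∀ d ∈ D, g * d * g⁻¹ ∈ D) (g : G) (a b : ↥D) :
    {z | C (cD D hc) (sg hc g a) z ∧ C (cD D hc) (sg hc g b) z} =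
      sg hc g '' {z | C (cD D hc) a z ∧ C (cD D hc) b z} := by
  ext z
  constructor
  · rintro ⟨hz, hz'⟩
    refine ⟨sg hc g⁻¹ z, ⟨?_, ?_⟩, sg_surj hc g z⟩
    · rw [← sg_surj hc g z] at hz
      exact (sg_C hc g _ _).1 hz
    · rw [← sg_surj hc g z] at hz'
      exact (sg_C hc g _ _).1 hz'
  · rintro ⟨w, hw, rfl⟩
    exact ⟨(sg_C hc g _ _).2 hw.1, (sg_C hc g _ _).2 hw.2⟩

theorem mem_L_sg (hc : ∀ g : G, ∀ d ∈ D, g * d * g⁻¹ ∈ D) (g : G) (a b w : ↥D) :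
    sg hc g w ∈ L (cD D hc) (sg hc g a) (sg hc g b) ↔ w ∈ L (cD D hc) a b := by
  constructor
  · intro h z ha hb
    exact (sg_C hc g _ _).1 (h (sg hc g z) ((sg_C hc g _ _).2 ha) ((sg_C hc g _ _).2 hb))
  · intro h z ha hb
    rw [← sg_surj hc g z] at ha hb ⊢
    exact (sg_C hc g _ _).2 (h _ ((sg_C hc g _ _).1 ha) ((sg_C hc g _ _).1 hb))

theorem L_sg (hc : ∀ g : G, ∀ d ∈ D, g * d * g⁻¹ ∈ D) (g : G) (a b : ↥D) :
    L (cD D hc) (sg hc g a) (sg hc g b) = sg hc g '' L (cD D hc) a b := by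
  ext z
  constructor
  · intro hz
    refine ⟨sg hc g⁻¹ z, ?_, sg_surj hc g z⟩
    rw [← sg_surj hc g z] at hz
    exact (mem_L_sg hc g _ _ _).1 hz
  · rintro ⟨w, hw, rfl⟩
    exact (mem_L_sg hc g _ _ _).2 hw

theorem pairs_sg [Finite G] (hD : IsThreeTranspositionGroup D) (hprim : IsPrimitiveUnderConj D) {a b a' b' : ↥D}
    (hab : a ≠ b) (h : C (cD D hD.2.1) a b) (hab' : a' ≠ b') (h' : C (cD D hD.2.1) a' b') :
    ∃ g, sg hD.2.1 g a = a' ∧ sg hD.2.1 g b = b' := by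
  obtain ⟨g, h1, h2⟩ := trans_pairs hD hprim a.2 a'.2 (d := b.1) (e := b'.1)
    ⟨b.2, fun e => hab (Subtype.ext e.symm), (C_iff _ _ _).1 h⟩ ⟨b'.2, fun e => hab' (Subtype.ext e.symm), (C_iff _ _ _).1 h'⟩
  exact ⟨g, Subtype.ext h1, Subtype.ext h2⟩

/-- the twin of a member of `D_x` -/
theorem exists_twin [Finite G] (hD : IsThreeTranspositionGroup D) {x : G} (hx : x ∈ D)
    (h : ¬ pCore 2 ↥(Subgroup.closure (Dd D x)) ≤ Subgroup.center ↥(Subgroup.closure (Dd D x))) :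
    ∃ y ∈ Dd D x, ∃ y' ∈ Dd D x, y' ≠ y ∧ ∀ z ∈ D, Commute x z → Commute y z → Commute y' z := by
  obtain ⟨t, ht, htc⟩ := SetLike.not_le_iff_exists.1 h
  have hex : ∃ y ∈ Dd D x, ¬ Commute (t : G) y := by
    by_contra hcon
    push Not at hcon
    apply htc
    rw [Subgroup.mem_center_iff]
    intro g
    apply Subtype.ext
    show (g : G) * (t : G) = t * g
    exact (commute_of_mem_closure hcon g.2).eq.symm
  obtain ⟨y, hy, hty⟩ := hex
  have hyx : (t : G) * x * (t : G)⁻¹ = x := by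
    have : Commute x (t : G) := commute_of_mem_closure (fun z hz => hz.2.2) t.2
    rw [← this.eq]; group
  have hy' : (t : G) * y * (t : G)⁻¹ ∈ Dd D x := by
    have := Dd_conj hD.2.1 (g := (t : G)) hy
    rwa [hyx] at this
  refine ⟨y, hy, _, hy', ?_, ?_⟩
  · intro e
    apply hty
    exact mul_inv_eq_iff_eq_mul.1 e
  · intro z hz hxz hyz
    by_cases hzx : z = x
    · rw [hzx]; exact hy'.2.2.symm
    by_contra hcon
    have hzD : z ∈ Dd D x := ⟨hz, hzx, hxz⟩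
    let Z : ↥(Subgroup.closure (Dd D x)) := ⟨z, Subgroup.subset_closure hzD⟩
    let Y : ↥(Subgroup.closure (Dd D x)) := ⟨y, Subgroup.subset_closure hy⟩
    have hZ : Z * Z = 1 := Subtype.ext (sq_one hD.1 hz)
    have hY : Y * Y = 1 := Subtype.ext (sq_one hD.1 hy.1)
    have hYZ : Y * Z = Z * Y := Subtype.ext hyz.eq
    have hq : (Z * (t * Y * t⁻¹)) ^ 2 ∈ pCore 2 ↥(Subgroup.closure (Dd D x)) := by
      rw [← QuotientGroup.eq_one_iff]
      have h1 : (t : ↥(Subgroup.closure (Dd D x)) ⧸ pCore 2 ↥(Subgroup.closure (Dd D x))) = 1 :=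
        (QuotientGroup.eq_one_iff t).2 ht
      have h2 : ((Z * (t * Y * t⁻¹)) ^ 2 : ↥(Subgroup.closure (Dd D x))) = Z * (t * Y * t⁻¹) * (Z * (t * Y * t⁻¹)) := sq _
      rw [h2]
      rw [QuotientGroup.mk_mul, QuotientGroup.mk_mul, QuotientGroup.mk_mul, QuotientGroup.mk_mul, QuotientGroup.mk_inv, h1]
      rw [one_mul, inv_one, mul_one, ← QuotientGroup.mk_mul, ← QuotientGroup.mk_mul]
      have h3 : Z * Y * (Z * Y) = 1 := by
        calc Z * Y * (Z * Y) = Z * (Y * Z) * Y := by group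
          _ = (Z * Z) * (Y * Y) := by rw [hYZ]; group
          _ = 1 := by rw [hZ, hY, one_mul]
      rw [h3, QuotientGroup.mk_one]
    have h3 : (z * ((t : G) * y * (t : G)⁻¹)) ^ 3 = 1 := by
      have hb := braid hD.1 hz hy'.1 (fun e => hcon e.symm)
      have hz2 := sq_one hD.1 hz
      have hy2 := sq_one hD.1 hy'.1
      set w := (t : G) * y * (t : G)⁻¹ with hw
      calc (z * w) ^ 3 = (z * w * z) * (w * z * w) := by simp only [pow_succ, pow_zero, one_mul, mul_assoc]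
        _ = (w * z * w) * (w * z * w) := by rw [hb]
        _ = w * z * (w * w) * z * w := by group
        _ = w * (z * z) * w := by rw [hy2]; group
        _ = w * w := by rw [hz2]; group
        _ = 1 := hy2
    obtain ⟨k, hk⟩ := Cores.isPGroup_pCore 2 ↥(Subgroup.closure (Dd D x)) ⟨_, hq⟩
    have hk' : ((z * ((t : G) * y * (t : G)⁻¹)) ^ 2) ^ (2 ^ k) = 1 := by
      have := congrArg (fun w => ((w : ↥(Subgroup.closure (Dd D x))) : G)) (congrArg Subtype.val hk)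
      exact this
    have h5 : ((z * ((t : G) * y * (t : G)⁻¹)) ^ 2) ^ 3 = 1 := by rw [← pow_mul, mul_comm 2 3, pow_mul, h3, one_pow]
    have h6 : (z * ((t : G) * y * (t : G)⁻¹)) ^ 2 = 1 := by
      have := pow_gcd_eq_one.2 ⟨hk', h5⟩
      have hg : Nat.gcd (2 ^ k) 3 = 1 := Nat.Coprime.pow_left k (by norm_num)
      rwa [hg, pow_one] at this
    exact hcon (commute_of_sq (sq_one hD.1 hz) (sq_one hD.1 hy'.1) h6).symm

theorem bridge [Finite G] (hD : IsThreeTranspositionGroup D) (hprim : IsPrimitiveUnderConj D) {x : G} (hx : x ∈ D)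
    (h : ¬ pCore 2 ↥(Subgroup.closure (Dd D x)) ≤ Subgroup.center ↥(Subgroup.closure (Dd D x))) :
    Pol (cD D hD.2.1) ∧ (∃ a b, a ≠ b ∧ C (cD D hD.2.1) a b) ∧
    (∀ a b a' b', a ≠ b → C (cD D hD.2.1) a b → a' ≠ b' → C (cD D hD.2.1) a' b' →
      (L (cD D hD.2.1) a b).ncard = (L (cD D hD.2.1) a' b').ncard) ∧
    (∀ x z s, ¬ C (cD D hD.2.1) x z → ¬ C (cD D hD.2.1) x s → ∀ S : Set ↥D, z ∈ S →
      (∀ y, C (cD D hD.2.1) x y → ∀ u ∈ S, cD D hD.2.1 y u ∈ S) → s ∈ S) := by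
  obtain ⟨y, hy, y', hy', hyy, hall⟩ := exists_twin hD hx h
  have hpair : ∃ x ∈ D, ∃ y ∈ D, x ≠ y ∧ Commute x y := ⟨x, hx, y, hy.1, hy.2.1.symm, hy.2.2⟩
  have hsq : ∀ a : ↥D, a.1 * a.1 = 1 := fun a => sq_one hD.1 a.2
  have hinv : ∀ a : ↥D, a.1⁻¹ = a.1 := fun a => inv_self hD.1 a.2
  refine ⟨?_, ⟨⟨x, hx⟩, ⟨y, hy.1⟩, fun e => hy.2.1 (congrArg Subtype.val e).symm, (C_iff _ _ _).2 hy.2.2⟩, ?_, ?_⟩
  · refine { inv := ?_, dist := ?_, self := ?_, symm := ?_, nc := ?_, card1 := ?_, card2 := ?_, sep := ?_, twin := ?_, gen := ?_ }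
    · intro a z
      apply Subtype.ext
      show a.1 * (a.1 * z.1 * a.1⁻¹) * a.1⁻¹ = z.1
      rw [hinv]
      calc a.1 * (a.1 * z.1 * a.1) * a.1 = (a.1 * a.1) * z.1 * (a.1 * a.1) := by group
        _ = z.1 := by rw [hsq]; group
    · intro a b z
      apply Subtype.ext
      show a.1 * (b.1 * z.1 * b.1⁻¹) * a.1⁻¹ = a.1 * b.1 * a.1⁻¹ * (a.1 * z.1 * a.1⁻¹) * (a.1 * b.1 * a.1⁻¹)⁻¹
      group
    · intro a
      apply Subtype.ext
      show a.1 * a.1 * a.1⁻¹ = a.1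
      group
    · intro a b hab
      have := (C_iff hD.2.1 a b).1 hab
      exact (C_iff hD.2.1 b a).2 this.symm
    · intro a b hab
      apply Subtype.ext
      show a.1 * b.1 * a.1⁻¹ = b.1 * a.1 * b.1⁻¹
      have h1 : ¬ Commute a.1 b.1 := fun e => hab ((C_iff hD.2.1 a b).2 e)
      have := braid hD.1 a.2 b.2 h1
      rw [hinv, hinv]
      exact this
    · intro a b
      obtain ⟨g, hg⟩ := hprim.1 a.1 a.2 b.1 b.2
      have hb : b = sg hD.2.1 g a := Subtype.ext hg.symm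
      rw [hb, set1, Set.ncard_image_of_injective _ (sg_inj _ g)]
    · intro a b a' b' hab h1 hab' h2
      obtain ⟨g, ha, hb⟩ := pairs_sg hD hprim hab h1 hab' h2
      rw [← ha, ← hb, set2, Set.ncard_image_of_injective _ (sg_inj _ g)]
    · intro a b hall
      apply Subtype.ext
      apply V_trivial hD hprim a.2 b.2
      intro z hz
      have := hall ⟨z, hz⟩
      rwa [C_iff, C_iff] at this
    · intro a b hab h1
      obtain ⟨g, ha, hb⟩ := pairs_sg hD hprim (a := ⟨x, hx⟩) (b := ⟨y, hy.1⟩)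
        (fun e => hy.2.1 (congrArg Subtype.val e).symm) ((C_iff _ _ _).2 hy.2.2) hab h1
      refine ⟨sg hD.2.1 g ⟨y', hy'.1⟩, ?_, ?_, ?_⟩
      · rw [← ha]
        intro e
        exact hy'.2.1 (congrArg Subtype.val (sg_inj _ g e))
      · rw [← hb]
        intro e
        exact hyy (congrArg Subtype.val (sg_inj _ g e))
      · rw [← ha, ← hb, mem_L_sg]
        intro z hxz hyz
        rw [C_iff] at hxz hyz ⊢
        exact hall z.1 z.2 hxz hyz
    · intro a z haz S hS h1 h2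
      have haz' : ¬ Commute a.1 z.1 := fun e => haz ((C_iff hD.2.1 a z).2 e)
      have hSD : (Subtype.val '' S) = D := by
        refine stable_eq hD hprim hpair a.2 z.2 haz' ?_ (hS.image _) ?_ ?_
        · rintro _ ⟨w, _, rfl⟩; exact w.2
        · rintro w hw haw _ ⟨f, hf, rfl⟩
          exact ⟨_, h1 ⟨w, hw⟩ ((C_iff _ _ _).2 haw) f hf, rfl⟩
        · rintro _ ⟨f, hf, rfl⟩
          exact ⟨_, h2 f hf, rfl⟩
      ext w
      simp only [Set.mem_univ, iff_true]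
      have hw : w.1 ∈ Subtype.val '' S := by rw [hSD]; exact w.2
      obtain ⟨v, hv, hvw⟩ := hw
      rwa [← Subtype.ext hvw]
  · intro a b a' b' hab h1 hab' h2
    obtain ⟨g, ha, hb⟩ := pairs_sg hD hprim hab h1 hab' h2
    rw [← ha, ← hb, L_sg, Set.ncard_image_of_injective _ (sg_inj _ g)]
  · intro a z s haz has S hz h1
    have haz' : ¬ Commute a.1 z.1 := fun e => haz ((C_iff hD.2.1 a z).2 e)
    have has' : ¬ Commute a.1 s.1 := fun e => has ((C_iff hD.2.1 a s).2 e)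
    obtain ⟨t, ht, hts⟩ := transitive_on_noncommuting hD hprim hpair a.2 z.2 s.2 haz' has'
    have key : ∀ t ∈ Subgroup.closure {w | w ∈ D ∧ Commute a.1 w}, (∀ u ∈ S, sg hD.2.1 t u ∈ S) ∧ (∀ u ∈ S, sg hD.2.1 t⁻¹ u ∈ S) := by
      intro t ht
      induction ht using Subgroup.closure_induction with
      | mem w hw =>
        have h3 : ∀ u ∈ S, sg hD.2.1 w u ∈ S := fun u hu => h1 ⟨w, hw.1⟩ ((C_iff _ _ _).2 hw.2) u hu
        refine ⟨h3, ?_⟩
        rw [inv_self hD.1 hw.1]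
        exact h3
      | one =>
        have h3 : ∀ u : ↥D, sg hD.2.1 (1 : G) u = u := fun u => Subtype.ext (by show 1 * u.1 * 1⁻¹ = u.1; group)
        refine ⟨fun u hu => by rw [h3]; exact hu, fun u hu => by rw [inv_one, h3]; exact hu⟩
      | mul p q _ _ ihp ihq =>
        refine ⟨fun u hu => ?_, fun u hu => ?_⟩
        · have : sg hD.2.1 (p * q) u = sg hD.2.1 p (sg hD.2.1 q u) :=
            Subtype.ext (by show p * q * u.1 * (p * q)⁻¹ = p * (q * u.1 * q⁻¹) * p⁻¹; group)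
          rw [this]; exact ihp.1 _ (ihq.1 _ hu)
        · have : sg hD.2.1 (p * q)⁻¹ u = sg hD.2.1 q⁻¹ (sg hD.2.1 p⁻¹ u) :=
            Subtype.ext (by show (p * q)⁻¹ * u.1 * (p * q)⁻¹⁻¹ = q⁻¹ * (p⁻¹ * u.1 * p⁻¹⁻¹) * q⁻¹⁻¹; group)
          rw [this]; exact ihq.2 _ (ihp.2 _ hu)
      | inv p _ ihp =>
        refine ⟨ihp.2, ?_⟩
        rw [inv_inv]; exact ihp.1
    have : sg hD.2.1 t z = s := Subtype.ext hts
    rw [← this]
    exact (key t ht).1 z hz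

end Cfsg.Agent.Lib.FsPol
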