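import Cfsg.Agent.Lib.FsCoreAux42
import Cfsg.Agent.Lib.FsBridge
import Cfsg.Agent.Lib.FischerHyp
import Cfsg.Agent.Lib.FisEndSp
import Cfsg.Agent.Lib.FisEndU

/-!
# S1616: the core (helper42)
-/

set_option autoImplicit false
set_option linter.all false

namespace Cfsg.Agent.Lib.FsPol

open Cfsg Cfsg.Agent.Lib.ThreeRank3

universe u

theorem core {G : Type u} [Group G] [Finite G] {D : Set G} (hD : IsThreeTranspositionGroup D)
    (hprim : IsPrimitiveUnderConj D) {x : G} (hx : x ∈ D)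
    (h : ¬ pCore 2 ↥(Subgroup.closure (Dd D x)) ≤ Subgroup.center ↥(Subgroup.closure (Dd D x))) :
    ((∀ x ∈ D, ∀ y ∈ D, x ≠ y → Commute x y → ∃ w ∈ D, ∀ e ∈ D, (Commute w e ↔ (Commute x e ↔ Commute y e))) ∧
      (∀ x ∈ D, ∀ y ∈ D, ¬ Commute x y → ∀ e ∈ D, (Commute (x * y * x) e ↔ (Commute x e ↔ Commute y e))) ∧
      (∀ x ∈ D, ∀ y ∈ D, (∀ e ∈ D, Commute x e ↔ Commute y e) → x = y)) ∨
    (∃ (F : Type) (_ : Field F) (_ : Fintype F) (V : Type u) (_ : AddCommGroup V) (_ : Module F V) (_ : Finite V)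
      (H : V → V → F) (Φ : G → V), Fintype.card F = 4 ∧ (∀ p q r, H (p + q) r = H p r + H q r) ∧
      (∀ (a : F) p q, H (a • p) q = a * H p q) ∧ (∀ p q, H q p = (H p q) ^ 2) ∧
      (∀ p, (∀ q, H p q = 0) → p = 0) ∧ 4 ≤ Module.finrank F V ∧
      (∀ x ∈ D, Φ x ≠ 0) ∧ (∀ x ∈ D, H (Φ x) (Φ x) = 0) ∧
      (∀ x ∈ D, ∀ y ∈ D, ∀ a : F, Φ y = a • Φ x → y = x) ∧
      (∀ v, v ≠ 0 → H v v = 0 → ∃ x ∈ D, ∃ a : F, v = a • Φ x) ∧
      (∀ x ∈ D, ∀ y ∈ D, (Commute x y ↔ H (Φ x) (Φ y) = 0))) := by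
  obtain ⟨hP, h2, hL, htr⟩ := bridge hD hprim hx h
  exact core_aux (fun a ha => inv_self hD.1 ha) (cD D hD.2.1) (fun a b => rfl) (C_iff hD.2.1) hP h2 hL htr

/-- the final alternative -/
theorem final {G : Type u} [Group G] [Finite G] {D : Set G} (hD : IsThreeTranspositionGroup D)
    (hprim : IsPrimitiveUnderConj D) (hZ : Subgroup.center G = ⊥) {x : G} (hx : x ∈ D)
    (h : ¬ pCore 2 ↥(Subgroup.closure (Dd D x)) ≤ Subgroup.center ↥(Subgroup.closure (Dd D x))) :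
    (∃ n : ℕ, Nonempty (G ≃* Matrix.symplecticGroup (Fin n) (ZMod 2))) ∨
      ∃ (F : Type) (_ : Field F) (_ : Fintype F) (n : ℕ), Fintype.card F = 4 ∧ Nonempty (G ≃* Cfsg.PSU n F 2) := by
  rcases core hD hprim hx h with ⟨h1, h2, h3⟩ | ⟨F, i1, i2, V, i3, i4, i5, H, Φ, k0, k1, k2, k3, k4, k5, k6, k7, k8, k9, k10⟩
  · left
    exact FisEnd.sp_of_rows hD hZ h1 h2 h3
  · right
    exact ⟨F, i1, i2, Module.finrank F V, k0, FisEnd.psu_of_points hD hZ k0 H k1 k2 k3 k4 k5 Φ k6 k7 k8 k9 k10⟩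

end Cfsg.Agent.Lib.FsPol
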