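import Cfsg.Agent.Lib.FsUniF42

/-!
# S1616: the alternative (helper42)
-/

set_option autoImplicit false
set_option linter.all false

namespace Cfsg.Agent.Lib.FsPol

open Cfsg.Agent.Lib.K4 (K4)

universe u

theorem core_aux {G : Type u} [Group G] [Finite G] {D : Set G} (hDi : ∀ a ∈ D, a⁻¹ = a) (c : ↥D → ↥D → ↥D)
    (hcv : ∀ a b, (c a b).1 = a.1 * b.1 * a.1⁻¹) (hcC : ∀ a b, C c a b ↔ Commute a.1 b.1) (h : Pol c)
    (h2 : ∃ a b, a ≠ b ∧ C c a b)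
    (hL : ∀ a b a' b', a ≠ b → C c a b → a' ≠ b' → C c a' b' → (L c a b).ncard = (L c a' b').ncard)
    (htr : ∀ x z s, ¬ C c x z → ¬ C c x s → ∀ S : Set ↥D, z ∈ S → (∀ y, C c x y → ∀ u ∈ S, c y u ∈ S) → s ∈ S) :
    ((∀ x ∈ D, ∀ y ∈ D, x ≠ y → Commute x y → ∃ w ∈ D, ∀ e ∈ D, (Commute w e ↔ (Commute x e ↔ Commute y e))) ∧
      (∀ x ∈ D, ∀ y ∈ D, ¬ Commute x y → ∀ e ∈ D, (Commute (x * y * x) e ↔ (Commute x e ↔ Commute y e))) ∧
      (∀ x ∈ D, ∀ y ∈ D, (∀ e ∈ D, Commute x e ↔ Commute y e) → x = y)) ∨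
    (∃ (F : Type) (_ : Field F) (_ : Fintype F) (V : Type u) (_ : AddCommGroup V) (_ : Module F V) (_ : Finite V)
      (H : V → V → F) (Φ : G → V), Fintype.card F = 4 ∧ (∀ p q r, H (p + q) r = H p r + H q r) ∧
      (∀ (a : F) p q, H (a • p) q = a * H p q) ∧ (∀ p q, H q p = (H p q) ^ 2) ∧
      (∀ p, (∀ q, H p q = 0) → p = 0) ∧ 4 ≤ Module.finrank F V ∧
      (∀ x ∈ D, Φ x ≠ 0) ∧ (∀ x ∈ D, H (Φ x) (Φ x) = 0) ∧
      (∀ x ∈ D, ∀ y ∈ D, ∀ a : F, Φ y = a • Φ x → y = x) ∧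
      (∀ v, v ≠ 0 → H v v = 0 → ∃ x ∈ D, ∃ a : F, v = a • Φ x) ∧
      (∀ x ∈ D, ∀ y ∈ D, (Commute x y ↔ H (Φ x) (Φ y) = 0))) := by
  classical
  obtain ⟨a0, b0, hab0, hC0⟩ := h2
  have h2 : ∃ a b, a ≠ b ∧ C c a b := ⟨a0, b0, hab0, hC0⟩
  rcases h.card35 hC0 hab0 with h3 | h5
  · left
    have h3' : ∀ x y, x ≠ y → C c x y → (L c x y).ncard = 3 := by
      intro x y hxy hC
      rw [hL x y a0 b0 hxy hC hab0 hC0, h3]
    refine ⟨?_, ?_, ?_⟩
    · intro x hx y hy hxy hC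
      have hne : (⟨x, hx⟩ : ↥D) ≠ ⟨y, hy⟩ := fun e => hxy (congrArg Subtype.val e)
      obtain ⟨w, hw⟩ := h.row1 h3' hne ((hcC ⟨x, hx⟩ ⟨y, hy⟩).2 hC)
      refine ⟨w.1, w.2, fun e he => ?_⟩
      have := hw ⟨e, he⟩
      rwa [hcC, hcC, hcC] at this
    · intro x hx y hy hxy e he
      have hn : ¬ C c (⟨x, hx⟩ : ↥D) ⟨y, hy⟩ := fun q => hxy ((hcC ⟨x, hx⟩ ⟨y, hy⟩).1 q)
      have := h.row2 h2 h3' hn ⟨e, he⟩
      rw [hcC, hcC, hcC, hcv] at this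
      have e1 : x * y * x⁻¹ = x * y * x := by rw [hDi x hx]
      rw [← e1]
      exact this
    · intro x hx y hy hxy
      have : (⟨x, hx⟩ : ↥D) = ⟨y, hy⟩ := by
        apply h.sep
        intro e
        rw [hcC, hcC]
        exact hxy e.1 e.2
      exact congrArg Subtype.val this
  · right
    have h5' : ∀ x y, x ≠ y → C c x y → (L c x y).ncard = 5 := by
      intro x y hxy hC
      rw [hL x y a0 b0 hxy hC hab0 hC0, h5]
    -- a non-commuting pair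
    have hnc : ∃ x z, ¬ C c x z := by
      obtain ⟨t, _, ht⟩ := h.ncd hab0
      exact ⟨b0, t, ht⟩
    obtain ⟨x, z, hxz⟩ := hnc
    haveI : Fintype ↥D := Fintype.ofFinite _
    have hU : Uni c x z := { h with five := h5', two := h2, xz := hxz, tr := fun s hs S hz hS => htr x z s hxz hs S hz hS }
    obtain ⟨V, i1, i2, i3, H, Φ, k1, k2, k3, k4, k5, k6, k7, k8, k9, k10⟩ := hU.uni_main
    refine ⟨K4, inferInstance, inferInstance, V, i1, i2, i3, H, fun g => if hg : g ∈ D then Φ ⟨g, hg⟩ else 0,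
      K4.card_K4, k1, k2, k3, k4, k5, ?_, ?_, ?_, ?_, ?_⟩
    · intro x hx
      simp only [dif_pos hx]
      exact k6 _
    · intro x hx
      simp only [dif_pos hx]
      exact k7 _
    · intro x hx y hy a hxy
      simp only [dif_pos hx, dif_pos hy] at hxy
      exact congrArg Subtype.val (k8 _ _ a hxy)
    · intro v hv0 hv
      obtain ⟨s, a, hs⟩ := k9 v hv0 hv
      refine ⟨s.1, s.2, a, ?_⟩
      simp only [dif_pos s.2]
      exact hs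
    · intro x hx y hy
      simp only [dif_pos hx, dif_pos hy]
      rw [← k10, hcC]

end Cfsg.Agent.Lib.FsPol
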