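import Mathlib

/-!
# Abstract Fischer spaces with polar lines, part A (helper42)

`c a x` is the conjugate of `x` by `a`.  `C c a b` : `a` and `b` commute.
-/

set_option autoImplicit false
set_option linter.all false

namespace Cfsg.Agent.Lib.FsPol

variable {X : Type*} {c : X → X → X}

/-- `a` and `b` commute -/
def C (c : X → X → X) (a b : X) : Prop := c a b = b

structure Fis (c : X → X → X) : Prop where
  inv : ∀ a x, c a (c a x) = x
  dist : ∀ a b x, c a (c b x) = c (c a b) (c a x)
  self : ∀ a, c a a = a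
  symm : ∀ a b, c a b = b → c b a = a
  nc : ∀ a b, c a b ≠ b → c a b = c b a

namespace Fis

variable (h : Fis c)
include h

theorem C_symm {a b : X} (hab : C c a b) : C c b a := h.symm a b hab

theorem C_comm {a b : X} : C c a b ↔ C c b a := ⟨h.symm a b, h.symm b a⟩

theorem C_self (a : X) : C c a a := h.self a

theorem inj {a x y : X} (hxy : c a x = c a y) : x = y := by
  rw [← h.inv a x, hxy, h.inv]

theorem C_conj (g a b : X) : C c (c g a) (c g b) ↔ C c a b := by
  unfold C
  rw [← h.dist]
  exact ⟨fun e => h.inj e, fun e => by rw [e]⟩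

theorem C_conj' (g a b : X) : C c (c g a) b ↔ C c a (c g b) := by
  rw [← h.C_conj g, h.inv]

theorem C_conj'' (g a b : X) : C c a (c g b) ↔ C c (c g a) b := (h.C_conj' g a b).symm

/-- commuting elements act alike -/
theorem swap {a b : X} (hab : C c a b) (x : X) : c a (c b x) = c b (c a x) := by
  rw [h.dist a b x, show c a b = b from hab]

theorem third1 {a b : X} (hab : ¬ C c a b) : c (c a b) a = b := by
  have h1 : c (c a b) (c a a) = c a (c b a) := (h.dist a b a).symm
  rw [h.self, ← h.nc a b hab, h.inv] at h1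
  exact h1

theorem third2 {a b : X} (hab : ¬ C c a b) : c (c a b) b = a := by
  have hba : ¬ C c b a := fun e => hab (h.C_symm e)
  rw [h.nc a b hab]
  exact h.third1 hba

theorem nc_third {a b : X} (hab : ¬ C c a b) : ¬ C c a (c a b) := by
  intro e
  have e1 : c a (c a b) = c a b := e
  rw [h.inv] at e1
  exact hab e1.symm

/-- an element commuting with two points of a hyperbolic line commutes with the third -/
theorem C_third {a b z : X} (ha : C c z a) (hb : C c z b) : C c z (c a b) := by
  show c z (c a b) = c a b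
  rw [h.dist, show c z a = a from ha, show c z b = b from hb]

theorem nc_of_third {a b z : X} (ha : C c z a) (hb : ¬ C c z b) : ¬ C c z (c a b) := by
  intro e
  apply hb
  have := h.C_third ha e
  rwa [h.inv] at this

/-- `a`, `b` commute, `z` commutes with neither: `z` commutes with `z^{ab}` -/
theorem S4a {a b z : X} (hab : C c a b) (haz : ¬ C c a z) (hbz : ¬ C c b z) : C c z (c a (c b z)) := by
  have hza : ¬ C c z a := fun e => haz (h.C_symm e)
  have hzb : ¬ C c z b := fun e => hbz (h.C_symm e)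
  show c z (c a (c b z)) = c a (c b z)
  rw [h.dist z a, ← h.nc z b hzb, h.inv, h.nc z a hza]
  have h1 : c (c a z) (c a b) = c a (c z b) := (h.dist a z b).symm
  rw [show c a b = b from hab] at h1
  rw [h1]

/-- `a`, `b` commute, `z` commutes with neither: the elements `z^a`, `z^b` commute -/
theorem S4b {a b z : X} (hab : C c a b) (haz : ¬ C c a z) (hbz : ¬ C c b z) : C c (c a z) (c b z) := by
  rw [h.C_conj']
  have := h.S4a hab haz hbz
  exact this

/-- `g = z (ab) z` interchanges `a` and `b` -/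
theorem S4c {a b z : X} (hab : C c a b) (haz : ¬ C c a z) (hbz : ¬ C c b z) :
    c z (c a (c b (c z a))) = b := by
  have hza : ¬ C c z a := fun e => haz (h.C_symm e)
  have hzb : ¬ C c z b := fun e => hbz (h.C_symm e)
  have h1 : c a (c z a) = z := by
    have : c a (c z a) = c (c a z) (c a a) := h.dist a z a
    rw [h.self, h.third1 haz] at this
    exact this
  rw [h.swap hab, h1, ← h.nc z b hzb, h.inv]

/-- if `p` commutes with neither of two commuting `a`, `b`, `a ≠ b`, then `p^a ≠ p^b` -/
theorem conj_ne {a b p : X} (hap : ¬ C c a p) (hbp : ¬ C c b p) (hne : a ≠ b) : c a p ≠ c b p := by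
  intro e
  apply hne
  have h1 := h.third2 hap
  have h2 := h.third2 hbp
  rw [e, h2] at h1
  exact h1.symm

end Fis

/-- the line through `a` and `b` -/
def L (c : X → X → X) (a b : X) : Set X := {w | ∀ z, C c a z → C c b z → C c w z}

/-- the polar axioms -/
structure Pol (c : X → X → X) extends Fis c where
  card1 : ∀ a b, {z | C c a z}.ncard = {z | C c b z}.ncard
  card2 : ∀ a b a' b', a ≠ b → C c a b → a' ≠ b' → C c a' b' →
    {z | C c a z ∧ C c b z}.ncard = {z | C c a' z ∧ C c b' z}.ncard
  sep : ∀ a b, (∀ z, C c a z ↔ C c b z) → a = b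
  twin : ∀ a b, a ≠ b → C c a b → ∃ w, w ≠ a ∧ w ≠ b ∧ w ∈ L c a b
  gen : ∀ x z, ¬ C c x z → ∀ S : Set X, S.Nonempty → (∀ y, C c x y → ∀ u ∈ S, c y u ∈ S) →
    (∀ u ∈ S, c z u ∈ S) → S = Set.univ

namespace Pol

variable [Finite X] (h : Pol c)
include h

omit [Finite X] in
theorem mem_left (a b : X) : a ∈ L c a b := fun z hz _ => hz
omit [Finite X] in
theorem mem_right (a b : X) : b ∈ L c a b := fun z _ hz => hz

theorem ncd {a b : X} (hne : a ≠ b) : ∃ t, C c a t ∧ ¬ C c b t := by
  by_contra hcon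
  push Not at hcon
  apply hne
  apply h.sep
  have h1 : {z | C c a z} ⊆ {z | C c b z} := fun z hz => hcon z hz
  have h2 : {z | C c a z} = {z | C c b z} := Set.eq_of_subset_of_ncard_le h1 (h.card1 b a).le
  intro z
  exact Set.ext_iff.1 h2 z

omit [Finite X] in
theorem L_comm_base {a b w : X} (hab : C c a b) (hw : w ∈ L c a b) : C c a w ∧ C c b w :=
  ⟨h.C_symm (hw a (h.C_self a) (h.C_symm hab)), h.C_symm (hw b hab (h.C_self b))⟩

omit [Finite X] in
theorem L_comm {a b p q : X} (hab : C c a b) (hp : p ∈ L c a b) (hq : q ∈ L c a b) : C c p q := by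
  obtain ⟨h1, h2⟩ := h.L_comm_base hab hq
  exact hp q h1 h2

theorem perp_eq {a b p q : X} (hab : C c a b) (hne : a ≠ b) (hp : p ∈ L c a b) (hq : q ∈ L c a b) (hpq : p ≠ q)
    (z : X) : (C c p z ∧ C c q z) ↔ (C c a z ∧ C c b z) := by
  have h1 : {z | C c a z ∧ C c b z} ⊆ {z | C c p z ∧ C c q z} := fun z hz =>
    ⟨hp z hz.1 hz.2, hq z hz.1 hz.2⟩
  have h2 := Set.eq_of_subset_of_ncard_le h1 (h.card2 p q a b hpq (h.L_comm hab hp hq) hne hab).le
  exact (Set.ext_iff.1 h2 z).symm

theorem L_eq {a b p q : X} (hab : C c a b) (hne : a ≠ b) (hp : p ∈ L c a b) (hq : q ∈ L c a b) (hpq : p ≠ q) :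
    L c p q = L c a b := by
  ext w
  constructor
  · intro hw z h1 h2
    obtain ⟨h3, h4⟩ := (h.perp_eq hab hne hp hq hpq z).2 ⟨h1, h2⟩
    exact hw z h3 h4
  · intro hw z h1 h2
    obtain ⟨h3, h4⟩ := (h.perp_eq hab hne hp hq hpq z).1 ⟨h1, h2⟩
    exact hw z h3 h4

omit [Finite X] in
theorem L_symm (a b : X) : L c a b = L c b a := by
  ext w
  exact ⟨fun hw z h1 h2 => hw z h2 h1, fun hw z h1 h2 => hw z h2 h1⟩

omit [Finite X] in
theorem L_conj (g a b w : X) : c g w ∈ L c (c g a) (c g b) ↔ w ∈ L c a b := by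
  constructor
  · intro hw z h1 h2
    rw [← h.C_conj g]
    exact hw _ ((h.C_conj g a z).2 h1) ((h.C_conj g b z).2 h2)
  · intro hw z h1 h2
    rw [h.C_conj']
    exact hw _ ((h.C_conj' g a z).1 h1) ((h.C_conj' g b z).1 h2)

/-- at most one point of a line commutes with `z`, unless all do -/
theorem all_of_two {a b p q z : X} (hab : C c a b) (hne : a ≠ b) (hp : p ∈ L c a b) (hq : q ∈ L c a b) (hpq : p ≠ q)
    (h1 : C c p z) (h2 : C c q z) : ∀ w ∈ L c a b, C c w z := by
  intro w hw
  obtain ⟨h3, h4⟩ := (h.perp_eq hab hne hp hq hpq z).1 ⟨h1, h2⟩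
  exact hw z h3 h4

theorem uniq {a b p q r z : X} (hab : C c a b) (hne : a ≠ b) (hp : p ∈ L c a b) (hq : q ∈ L c a b)
    (hr : r ∈ L c a b) (hrz : ¬ C c r z) (h1 : C c p z) (h2 : C c q z) : p = q := by
  by_contra hpq
  exact hrz (h.all_of_two hab hne hp hq hpq h1 h2 r hr)

/-- `a₁`, `a₂` on a line through `p`: twins in `p^⊥` -/
theorem twins {a b p a₁ a₂ : X} (hab : C c a b) (hne : a ≠ b) (hp : p ∈ L c a b) (h1 : a₁ ∈ L c a b) (h2 : a₂ ∈ L c a b)
    (hp1 : p ≠ a₁) (hp2 : p ≠ a₂) {u : X} (hu : C c p u) : C c a₁ u ↔ C c a₂ u := by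
  constructor
  · intro h3
    exact h.all_of_two hab hne hp h1 hp1 hu h3 a₂ h2
  · intro h3
    exact h.all_of_two hab hne hp h2 hp2 hu h3 a₁ h1

/-- the key lemma: the product of two points of a line through `p` moves `z ∈ p^⊥` along the line `pz` -/
theorem E_lemma {a b p a₁ a₂ z : X} (hab : C c a b) (hne : a ≠ b) (hp : p ∈ L c a b) (h1 : a₁ ∈ L c a b)
    (h2 : a₂ ∈ L c a b) (hp1 : p ≠ a₁) (hp2 : p ≠ a₂) (hz : C c p z) : c a₁ (c a₂ z) ∈ L c p z := by
  intro d hd1 hd2
  -- d commutes with p and z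
  apply h.C_symm
  have hpa1 : C c p a₁ := h.L_comm hab hp h1
  have hpa2 : C c p a₂ := h.L_comm hab hp h2
  by_cases h3 : C c a₁ d
  · have h4 : C c a₂ d := (h.twins hab hne hp h1 h2 hp1 hp2 hd1).1 h3
    rw [h.C_conj'', show c a₁ d = d from h3, h.C_conj'', show c a₂ d = d from h4]
    exact h.C_symm hd2
  · have h4 : ¬ C c a₂ d := fun e => h3 ((h.twins hab hne hp h1 h2 hp1 hp2 hd1).2 e)
    rw [h.C_conj'', h.nc a₁ d h3]
    -- C (c d a₁) (c a₂ z)
    have hu : C c p (c d (c a₂ z)) := by
      have e1 : C c p (c a₂ z) := h.C_third hpa2 hz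
      exact h.C_third hd1 e1
    rw [h.C_conj', h.twins hab hne hp h1 h2 hp1 hp2 hu, ← h.C_conj', ← h.nc a₂ d h4, h.C_conj]
    exact h.C_symm hd2

end Pol

/-- a fixed-point-free involution makes the size even -/
theorem even_of_involution {S : Set X} [Finite X] (f : X → X) (hf : ∀ x ∈ S, f x ∈ S) (hff : ∀ x ∈ S, f (f x) = x)
    (hfix : ∀ x ∈ S, f x ≠ x) : Even S.ncard := by
  classical
  haveI : Fintype X := Fintype.ofFinite X
  let g : Function.End S := fun x => ⟨f x, hf x x.2⟩
  have he : g ^ 2 ^ 1 = 1 := by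
    rw [pow_one, pow_two]
    funext x
    exact Subtype.ext (hff x x.2)
  have h1 := Equiv.Perm.card_fixedPoints_modEq (p := 2) (n := 1) he
  have h2 : Fintype.card (Function.fixedPoints g) = 0 := by
    rw [Fintype.card_eq_zero_iff]
    refine ⟨fun x => ?_⟩
    have h3 : g x.1 = x.1 := x.2
    exact hfix x.1.1 x.1.2 (congrArg Subtype.val h3)
  rw [h2] at h1
  rw [← Nat.card_coe_set_eq, Nat.card_eq_fintype_card]
  exact (Nat.even_iff.2 h1)

namespace Pol

variable [Finite X] (h : Pol c)
include h

/-- the number of points of a line other than `x` is even -/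
theorem even_line {x y : X} (hxy : C c x y) (hne : x ≠ y) : Even (L c x y \ {x}).ncard := by
  obtain ⟨t, ht1, ht2⟩ := h.ncd hne
  obtain ⟨w, hwx, hwy, hw⟩ := h.twin x y hne hxy
  have hwt : ¬ C c w t := fun e => ht2 ((h.twins hxy hne (mem_left h x y) (mem_right h x y) hw hne hwx.symm ht1).2 e)
  have hxt : x ≠ t := by
    rintro rfl
    exact ht2 (h.C_symm hxy)
  have hyw : C c y w := h.L_comm hxy (mem_right h x y) hw
  -- t' = t^{yw}
  set t' := c y (c w t) with ht'
  have ht'L : t' ∈ L c x t := h.E_lemma hxy hne (mem_left h x y) (mem_right h x y) hw hne hwx.symm ht1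
  have htt' : C c t t' := h.S4a hyw ht2 hwt
  have hne' : t ≠ t' := by
    intro e
    have e1 : c y t = c w t := by
      have : c y t = c y (c y (c w t)) := by rw [← ht', ← e]
      rw [h.inv] at this
      exact this
    exact h.conj_ne ht2 hwt hwy.symm e1
  have hxt' : x ≠ t' := by
    intro e
    rw [ht'] at e
    have e1 : C c x y := hxy
    have : c w (c y x) = t := by rw [e, h.inv, h.inv]
    rw [show c y x = x from h.C_symm hxy, show c w x = x from h.C_symm (h.L_comm_base hxy hw).1] at this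
    exact hxt this
  have hnct : ∀ u ∈ L c x y \ {x}, ¬ C c t u ∧ ¬ C c t' u := by
    rintro u ⟨hu, hux⟩
    have hux' : x ≠ u := fun e => hux e.symm
    have h1 : ¬ C c u t := fun e =>
      ht2 ((h.twins hxy hne (mem_left h x y) (mem_right h x y) hu hne hux' ht1).2 e)
    have h2 : ¬ C c t u := fun e => h1 (h.C_symm e)
    refine ⟨h2, fun e => h2 ?_⟩
    exact (h.twins ht1 hxt (mem_left h x t) (mem_right h x t) ht'L hxt hxt' (h.L_comm_base hxy hu).1).2 e
  refine even_of_involution (fun u => c t (c t' u)) ?_ ?_ ?_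
  · rintro u hu
    have hxu : x ≠ u := fun e => hu.2 e.symm
    have h1 : c t (c t' u) ∈ L c x u := h.E_lemma ht1 hxt (mem_left h x t) (mem_right h x t) ht'L hxt hxt'
      (h.L_comm_base hxy hu.1).1
    rw [h.L_eq hxy hne (mem_left h x y) hu.1 hxu] at h1
    refine ⟨h1, ?_⟩
    intro e
    have e1 : c t (c t' u) = x := e
    have e2 : u = c t' (c t x) := by rw [← e1, h.inv, h.inv]
    rw [show c t x = x from h.C_symm ht1, show c t' x = x from h.C_symm (h.L_comm_base ht1 ht'L).1] at e2
    exact hxu e2.symm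
  · intro u hu
    show c t (c t' (c t (c t' u))) = u
    rw [h.swap htt' (c t (c t' u)), h.inv t, h.inv t']
  · intro u hu e
    have e' : c t (c t' u) = u := e
    obtain ⟨h1, h2⟩ := hnct u hu
    have e1 : c t' u = c t u := by rw [← h.inv t (c t' u), e']
    exact h.conj_ne h1 h2 hne' e1.symm

/-- polarity: every `z` commutes with one or all points of a line -/
theorem polar {x y : X} (hxy : C c x y) (hne : x ≠ y) (z : X) : ∃ p ∈ L c x y, C c p z := by
  by_contra hcon
  push Not at hcon
  have hx := hcon x (mem_left h x y)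
  have hy := hcon y (mem_right h x y)
  have h1 := h.even_line hxy hne
  have hg : ∀ u v, C c (c z (c x (c y (c z u)))) (c z (c x (c y (c z v)))) ↔ C c u v := by
    intro u v
    rw [h.C_conj, h.C_conj, h.C_conj, h.C_conj]
  have hgx : c z (c x (c y (c z x))) = y := h.S4c hxy hx hy
  have hgy : c z (c x (c y (c z y))) = x := by
    rw [h.swap hxy]
    exact h.S4c (h.C_symm hxy) hy hx
  have hgg : ∀ u, c z (c x (c y (c z (c z (c x (c y (c z u))))))) = u := by
    intro u
    rw [h.inv z, h.swap hxy (c x (c y (c z u))), h.inv x, h.inv y, h.inv z]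
  have h2 : Even (L c x y \ {x, y}).ncard := by
    refine even_of_involution (fun u => c z (c x (c y (c z u)))) ?_ ?_ ?_
    · rintro u ⟨hu, hu'⟩
      refine ⟨?_, ?_⟩
      · have e := (h.L_conj z _ _ _).2 ((h.L_conj x _ _ _).2 ((h.L_conj y _ _ _).2 ((h.L_conj z x y u).2 hu)))
        rw [hgx, hgy, L_symm h] at e
        exact e
      · intro e
        apply hu'
        rcases e with e | e
        · right
          have e' : c z (c x (c y (c z u))) = x := e
          have : c z (c x (c y (c z (c z (c x (c y (c z u))))))) = y := by rw [e', hgx]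
          rw [hgg] at this
          exact this
        · left
          have e' : c z (c x (c y (c z u))) = y := e
          have : c z (c x (c y (c z (c z (c x (c y (c z u))))))) = x := by rw [e', hgy]
          rw [hgg] at this
          exact this
    · intro u hu
      exact hgg u
    · rintro u ⟨hu, hu'⟩ e
      have e' : c z (c x (c y (c z u))) = u := e
      have hxu : C c x u := (h.L_comm_base hxy hu).1
      have hyu : C c y u := (h.L_comm_base hxy hu).2
      have huz := hcon u hu
      -- p = c z u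
      have e1 : c x (c y (c z u)) = c z u := by rw [← h.inv z (c x (c y (c z u))), e']
      have e2 : c y (c z u) = c x (c z u) := by rw [← h.inv x (c y (c z u)), e1]
      have hp1 : ¬ C c x (c z u) := by
        rw [h.nc z u (fun e => huz (h.C_symm e))]
        exact h.nc_of_third hxu hx
      have hp2 : ¬ C c y (c z u) := by
        rw [h.nc z u (fun e => huz (h.C_symm e))]
        exact h.nc_of_third hyu hy
      exact h.conj_ne hp1 hp2 hne e2.symm
  have h3 : L c x y \ {x} = insert y (L c x y \ {x, y}) := by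
    ext u
    simp only [Set.mem_diff, Set.mem_singleton_iff, Set.mem_insert_iff, not_or]
    constructor
    · rintro ⟨h4, h5⟩
      by_cases h6 : u = y
      · exact Or.inl h6
      · exact Or.inr ⟨h4, h5, h6⟩
    · rintro (rfl | ⟨h4, h5, h6⟩)
      · exact ⟨mem_right h x u, hne.symm⟩
      · exact ⟨h4, h5⟩
  rw [h3, Set.ncard_insert_of_notMem (by simp) (Set.toFinite _)] at h1
  exact (Nat.even_add_one.1 h1) h2

end Pol

end Cfsg.Agent.Lib.FsPol
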