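import Cfsg.Agent.Lib.FsPolA42

/-!
# Abstract Fischer spaces with polar lines, part B (helper42): lines have 3 or 5 points
-/

set_option autoImplicit false
set_option linter.all false

namespace Cfsg.Agent.Lib.FsPol

variable {X : Type*} {c : X → X → X}

namespace Fis

variable (h : Fis c)
include h

theorem S4d {a b e z : X} (hab : C c a b) (hae : C c a e) (hbe : C c b e) (haz : ¬ C c a z) (hbz : ¬ C c b z)
    (hez : ¬ C c e z) :
    ¬ C c (c z (c a (c b (c z e)))) z ∧ c e (c (c z (c a (c b (c z e)))) z) = c a (c b z) := by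
  have hze : ¬ C c z e := fun x => hez (h.C_symm x)
  set d := c z (c a (c b (c z e))) with hd
  set w := c a (c b z) with hw
  have hzw : C c z w := h.S4a hab haz hbz
  have hew : ¬ C c e w := by
    rw [hw, h.C_conj'', show c a e = e from hae, h.C_conj'', show c b e = e from hbe]
    exact hez
  have h1 : c z d = c e w := by
    rw [hd, h.inv, h.nc z e hze, ← h.swap (h.C_symm hbe), ← h.swap (h.C_symm hae)]
  have h2 : ¬ C c z d := by
    intro x
    have x' : C c z d := x
    rw [hd, h.C_conj'', h.self, h.C_conj'', h.C_conj'', h.C_conj''] at x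
    have e1 : c z (c b (c a z)) = w := by
      rw [← h.swap hab, ← hw]
      exact hzw
    rw [e1] at x
    exact hew (h.C_symm x)
  refine ⟨fun x => h2 (h.C_symm x), ?_⟩
  rw [← h.nc z d h2, h1, h.inv]

end Fis

namespace Pol

variable [Finite X] (h : Pol c)
include h

theorem quad {x y z p b e : X} (hxy : C c x y) (hne : x ≠ y) (hxz : C c x z) (hyz : ¬ C c y z)
    (hp : p ∈ L c x y) (hb : b ∈ L c x y) (he : e ∈ L c x y) (hpx : p ≠ x) (hbx : b ≠ x) (hex : e ≠ x)
    (hpb : p ≠ b) (hpe : p ≠ e) (hbe : b ≠ e) :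
    ∃ d ∈ L c x y, d ≠ x ∧ d ≠ p ∧ d ≠ b ∧ d ≠ e ∧ c p (c b (c e (c d z))) = z := by
  have nz : ∀ u ∈ L c x y, u ≠ x → ¬ C c u z := by
    intro u hu hux hc
    exact hyz (h.all_of_two hxy hne (mem_left h x y) hu hux.symm hxz hc y (mem_right h x y))
  have hpz := nz p hp hpx
  have hbz := nz b hb hbx
  have hez := nz e he hex
  have hpbC := h.L_comm hxy hp hb
  have hpeC := h.L_comm hxy hp he
  have hbeC := h.L_comm hxy hb he
  have hxp := (h.L_comm_base hxy hp).1
  have hxb := (h.L_comm_base hxy hb).1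
  obtain ⟨h1, h2⟩ := h.S4d hpbC hpeC hbeC hpz hbz hez
  set d := c z (c p (c b (c z e))) with hd
  have hgp : c z (c p (c b (c z p))) = b := h.S4c hpbC hpz hbz
  have hgb : c z (c p (c b (c z b))) = p := by
    rw [h.swap hpbC]
    exact h.S4c (h.C_symm hpbC) hbz hpz
  have hgx : c z (c p (c b (c z x))) = x := by
    rw [show c z x = x from h.C_symm hxz, show c b x = x from h.C_symm hxb, show c p x = x from h.C_symm hxp]
    exact h.C_symm hxz
  have hgg : ∀ u, c z (c p (c b (c z (c z (c p (c b (c z u))))))) = u := by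
    intro u
    rw [h.inv z, h.swap hpbC (c p (c b (c z u))), h.inv p, h.inv b, h.inv z]
  have hdL : d ∈ L c x y := by
    have e1 := (h.L_conj z _ _ _).2 ((h.L_conj p _ _ _).2 ((h.L_conj b _ _ _).2 ((h.L_conj z p b e).2
      (by rw [h.L_eq hxy hne hp hb hpb]; exact he))))
    rw [hgp, hgb, h.L_eq hxy hne hb hp hpb.symm] at e1
    exact e1
  refine ⟨d, hdL, ?_, ?_, ?_, ?_, ?_⟩
  · intro e1
    have := hgg e
    rw [← hd, e1, hgx] at this
    exact hex this.symm
  · intro e1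
    have := hgg e
    rw [← hd, e1, hgp] at this
    exact hbe this
  · intro e1
    have := hgg e
    rw [← hd, e1, hgb] at this
    exact hpe this
  · intro e1
    rw [e1] at h2
    rw [h.inv] at h2
    have h3 : c p z = c b z := by
      have : c p (c p (c b z)) = c p z := by rw [← h2]
      rw [h.inv] at this
      exact this.symm
    exact h.conj_ne hpz hbz hpb h3
  · rw [h2, h.swap (h.C_symm hpbC) (c b z), h.inv, h.inv]

theorem E_ne {a b p a₁ a₂ z : X} (hab : C c a b) (hne : a ≠ b) (hp : p ∈ L c a b) (h1 : a₁ ∈ L c a b)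
    (h2 : a₂ ∈ L c a b) (hz : p ≠ z) : p ≠ c a₁ (c a₂ z) := by
  intro e
  apply hz
  have h3 : C c a₁ p := h.L_comm hab h1 hp
  have h4 : C c a₂ p := h.L_comm hab h2 hp
  have : c a₂ (c a₁ p) = z := by rw [e, h.inv, h.inv]
  rw [show c a₁ p = p from h3, show c a₂ p = p from h4] at this
  exact this

theorem E4 {a b p a₁ a₂ a₃ a₄ z : X} (hab : C c a b) (hne : a ≠ b) (hp : p ∈ L c a b) (h1 : a₁ ∈ L c a b)
    (h2 : a₂ ∈ L c a b) (h3 : a₃ ∈ L c a b) (h4 : a₄ ∈ L c a b)
    (hp1 : p ≠ a₁) (hp2 : p ≠ a₂) (hp3 : p ≠ a₃) (hp4 : p ≠ a₄) (hz : C c p z) (hpz : p ≠ z) :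
    c a₁ (c a₂ (c a₃ (c a₄ z))) ∈ L c p z := by
  have e1 := h.E_lemma hab hne hp h3 h4 hp3 hp4 hz
  have e2 := h.E_ne hab hne hp h3 h4 hpz
  have e3 := (h.L_comm_base hz e1).1
  have e4 := h.E_lemma hab hne hp h1 h2 hp1 hp2 e3
  rw [h.L_eq hz hpz (mem_left h p z) e1 e2] at e4
  exact e4

omit h [Finite X] in
theorem pair_le (a b : X) : ({a, b} : Set X).ncard ≤ 2 :=
  (Set.ncard_insert_le _ _).trans (by rw [Set.ncard_singleton])

theorem card_le {x y : X} (hxy : C c x y) (hne : x ≠ y) : (L c x y).ncard ≤ 5 := by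
  by_contra hcon
  push Not at hcon
  obtain ⟨z, hxz, hyz⟩ := h.ncd hne
  -- choose points
  have key : ∀ S : Set X, S.ncard ≤ 5 → ∃ q ∈ L c x y, q ∉ S := by
    intro S hS
    by_contra hc
    push Not at hc
    have := Set.ncard_le_ncard (show L c x y ⊆ S from fun q hq => hc q hq) (Set.toFinite _)
    omega
  obtain ⟨b, hb, hb'⟩ := key {x, y} ((pair_le x y).trans (by norm_num))
  obtain ⟨e, he, he'⟩ := key {x, y, b} ((Set.ncard_insert_le _ _).trans (by
    have := pair_le y b; omega))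
  simp only [Set.mem_insert_iff, Set.mem_singleton_iff, not_or] at hb' he'
  obtain ⟨hbx, hby⟩ := hb'
  obtain ⟨hex, hey, heb⟩ := he'
  have hp := mem_right h x y
  obtain ⟨d, hd, hdx, hdy, hdb, hde, hr⟩ := h.quad hxy hne hxz hyz hp hb he hne.symm hbx hex (fun e => hby e.symm)
    (fun e => hey e.symm) (fun e => heb e.symm)
  obtain ⟨q, hq, hq'⟩ := key {x, y, b, e, d} (by
    refine (Set.ncard_insert_le _ _).trans ?_
    have h1 := Set.ncard_insert_le y ({b, e, d} : Set X)
    have h2 := Set.ncard_insert_le b ({e, d} : Set X)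
    have h3 := pair_le e d
    omega)
  simp only [Set.mem_insert_iff, Set.mem_singleton_iff, not_or] at hq'
  obtain ⟨hqx, hqy, hqb, hqe, hqd⟩ := hq'
  have hx := mem_left h x y
  -- u = x, p = y
  have nz : ∀ u ∈ L c x y, u ≠ x → ¬ C c u z := by
    intro u hu hux hc
    exact hyz (h.all_of_two hxy hne hx hu hux.symm hxz hc y hp)
  have hqz := nz q hq hqx
  obtain ⟨v, hyv, hxv⟩ := h.ncd hne.symm
  have hyv' : y ≠ v := by
    rintro rfl
    exact hxv hxy
  obtain ⟨z₂, hz₂, hz₂z⟩ := h.polar hyv hyv' z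
  have hz₂y : y ≠ z₂ := by
    rintro rfl
    exact hyz hz₂z
  have hyz₂ : C c y z₂ := (h.L_comm_base hyv hz₂).1
  have hxz₂ : ¬ C c x z₂ := by
    intro hc
    exact hxv (h.C_symm (h.all_of_two hyv hyv' (mem_left h y v) hz₂ hz₂y (h.C_symm hxy) (h.C_symm hc) v
      (mem_right h y v)))
  have hzz₂ : z ≠ z₂ := by
    rintro rfl
    exact hyz hyz₂
  have hzz₂C : C c z z₂ := h.C_symm hz₂z
  obtain ⟨z₃, hz₃, hz₃q⟩ := h.polar hzz₂C hzz₂ q
  have hqz₂ : ¬ C c q z₂ := by
    intro hc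
    exact hxz₂ (h.all_of_two hxy hne hp hq (fun e => hqy e.symm) hyz₂ hc x hx)
  have hz₃z : z₃ ≠ z := by
    rintro rfl
    exact hqz (h.C_symm hz₃q)
  have hz₃z₂ : z₃ ≠ z₂ := by
    rintro rfl
    exact hqz₂ (h.C_symm hz₃q)
  have hxz₃ : ¬ C c x z₃ := by
    intro hc
    exact hxz₂ (h.C_symm (h.all_of_two hzz₂C hzz₂ (mem_left h z z₂) hz₃ hz₃z.symm (h.C_symm hxz) (h.C_symm hc) z₂
      (mem_right h z z₂)))
  have hzz₃ : C c z z₃ := (h.L_comm_base hzz₂C hz₃).1
  have hz₂z₃ : C c z₂ z₃ := (h.L_comm_base hzz₂C hz₃).2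
  -- commutations on the line
  have cm : ∀ u ∈ L c x y, ∀ w ∈ L c x y, ∀ s, c u (c w s) = c w (c u s) := fun u hu w hw s =>
    h.swap (h.L_comm hxy hu hw) s
  -- b e d z = y z
  have hA : c b (c e (c d z)) = c y z := by
    have : c y (c y (c b (c e (c d z)))) = c y z := by rw [hr]
    rw [h.inv] at this
    exact this
  -- step 1
  have s1 : c x (c b (c e (c d z₂))) = z₂ := by
    have m1 := h.E4 hxy hne hp hx hb he hd hne.symm (fun e => hby e.symm) (fun e => hey e.symm) (fun e => hdy e.symm)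
      hyz₂ hz₂y
    have m2 : C c (c x (c y (c b (c e (c d z))))) (c x (c y (c b (c e (c d z₂))))) := by
      rw [h.C_conj, h.C_conj, h.C_conj, h.C_conj, h.C_conj]
      exact hzz₂C
    rw [hr, show c x z = z from hxz, cm y hp b hb, cm y hp e he, cm y hp d hd, show c y z₂ = z₂ from hyz₂] at m2
    exact h.uniq hyz₂ hz₂y m1 (mem_right h y z₂) (mem_left h y z₂) hyz (h.C_symm m2) hz₂z
  -- step 2
  have s2 : c x (c b (c e (c d z₃))) = z₃ := by
    have hqz₃' : q ≠ z₃ := by
      intro e1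
      rw [← e1] at hxz₃
      exact hxz₃ (h.L_comm_base hxy hq).1
    have m1 := h.E4 hxy hne hq hx hb he hd hqx hqb hqe hqd (h.C_symm hz₃q) hqz₃'
    have m2 : C c (c x (c b (c e (c d z₂)))) (c x (c b (c e (c d z₃)))) := by
      rw [h.C_conj, h.C_conj, h.C_conj, h.C_conj]
      exact hz₂z₃
    rw [s1] at m2
    exact h.uniq (h.C_symm hz₃q) hqz₃' m1 (mem_right h q z₃) (mem_left h q z₃) hqz₂ (h.C_symm m2) (h.C_symm hz₂z₃)
  -- step 3
  have s3 : c q (c y z) = z := by
    have hxz' : x ≠ z := by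
      rintro rfl
      exact hyz (h.C_symm hxy)
    have m1 := h.E_lemma hxy hne hx hq hp (fun e => hqx e.symm) hne hxz
    have m2 : C c (c q (c x (c b (c e (c d z))))) (c q (c x (c b (c e (c d z₃))))) := by
      rw [h.C_conj, h.C_conj, h.C_conj, h.C_conj, h.C_conj]
      exact hzz₃
    rw [s2, show c q z₃ = z₃ from h.C_symm hz₃q, hA, cm x hx y hp, show c x z = z from hxz] at m2
    exact h.uniq hxz hxz' m1 (mem_right h x z) (mem_left h x z) hxz₃ m2 hzz₃
  have s4 : c q z = c y z := by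
    have : c q (c q (c y z)) = c q z := by rw [s3]
    rw [h.inv] at this
    exact this.symm
  exact h.conj_ne hqz hyz hqy s4

theorem card_ge {x y : X} (hxy : C c x y) (hne : x ≠ y) : 3 ≤ (L c x y).ncard := by
  obtain ⟨w, hwx, hwy, hw⟩ := h.twin x y hne hxy
  have h1 : ({x, y, w} : Set X) ⊆ L c x y := by
    rintro u (rfl | rfl | rfl)
    · exact mem_left h _ _
    · exact mem_right h _ _
    · exact hw
  have h2 : ({x, y, w} : Set X).ncard = 3 := Set.ncard_eq_three.2 ⟨x, y, w, hne, hwx.symm, hwy.symm, rfl⟩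
  rw [← h2]
  exact Set.ncard_le_ncard h1 (Set.toFinite _)

theorem card35 {x y : X} (hxy : C c x y) (hne : x ≠ y) : (L c x y).ncard = 3 ∨ (L c x y).ncard = 5 := by
  have h1 := h.card_le hxy hne
  have h2 := h.card_ge hxy hne
  have h3 := h.even_line hxy hne
  have h4 : (L c x y \ {x}).ncard + 1 = (L c x y).ncard :=
    Set.ncard_diff_singleton_add_one (mem_left h x y) (Set.toFinite _)
  obtain ⟨k, hk⟩ := h3
  omega

end Pol

end Cfsg.Agent.Lib.FsPol
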