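import Cfsg.Agent.Lib.FsPolB42

/-!
# Abstract Fischer spaces with polar lines, part C (helper42): lines with 3 points
-/

set_option autoImplicit false
set_option linter.all false

namespace Cfsg.Agent.Lib.FsPol

variable {X : Type*} {c : X → X → X}

namespace Pol

variable [Finite X] (h : Pol c)
include h

theorem third_pt (h3 : ∀ x y, x ≠ y → C c x y → (L c x y).ncard = 3) {x y : X} (hne : x ≠ y) (hxy : C c x y) :
    ∃ w, w ≠ x ∧ w ≠ y ∧ w ∈ L c x y ∧ ∀ u ∈ L c x y, u = x ∨ u = y ∨ u = w := by
  obtain ⟨w, hwx, hwy, hw⟩ := h.twin x y hne hxy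
  refine ⟨w, hwx, hwy, hw, ?_⟩
  have h1 : ({x, y, w} : Set X) ⊆ L c x y := by
    rintro u (rfl | rfl | rfl)
    · exact mem_left h _ _
    · exact mem_right h _ _
    · exact hw
  have h2 : ({x, y, w} : Set X).ncard = 3 := Set.ncard_eq_three.2 ⟨x, y, w, hne, hwx.symm, hwy.symm, rfl⟩
  have h4 : ({x, y, w} : Set X) = L c x y := Set.eq_of_subset_of_ncard_le h1 (by rw [h2, h3 x y hne hxy])
  intro u hu
  rw [← h4] at hu
  exact hu

theorem row1 (h3 : ∀ x y, x ≠ y → C c x y → (L c x y).ncard = 3) {x y : X} (hne : x ≠ y) (hxy : C c x y) :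
    ∃ w, ∀ e, (C c w e ↔ (C c x e ↔ C c y e)) := by
  obtain ⟨w, hwx, hwy, hw, hall⟩ := h.third_pt h3 hne hxy
  refine ⟨w, fun e => ?_⟩
  constructor
  · intro hwe
    constructor
    · intro hxe
      exact h.all_of_two hxy hne hw (mem_left h x y) hwx hwe hxe y (mem_right h x y)
    · intro hye
      exact h.all_of_two hxy hne hw (mem_right h x y) hwy hwe hye x (mem_left h x y)
  · intro hiff
    by_cases hx : C c x e
    · exact hw e hx (hiff.1 hx)
    · have hy : ¬ C c y e := fun hy => hx (hiff.2 hy)
      obtain ⟨p, hp, hpe⟩ := h.polar hxy hne e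
      rcases hall p hp with rfl | rfl | rfl
      · exact absurd hpe hx
      · exact absurd hpe hy
      · exact hpe

omit [Finite X] in
theorem exists_comm (hx0 : ∃ a b, a ≠ b ∧ C c a b) (h1 : ∀ a b, {z | C c a z}.ncard = {z | C c b z}.ncard) [Finite X]
    (x : X) : ∃ u, u ≠ x ∧ C c x u := by
  obtain ⟨a, b, hab, hC⟩ := hx0
  by_contra hcon
  push Not at hcon
  have e1 : {z | C c x z} = {x} := by
    ext z
    simp only [Set.mem_setOf_eq, Set.mem_singleton_iff]
    constructor
    · intro hz
      by_contra hne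
      exact hcon z hne hz
    · rintro rfl
      exact h.C_self _
  have e2 : ({a, b} : Set X) ⊆ {z | C c a z} := by
    rintro u (rfl | rfl)
    · exact h.C_self _
    · exact hC
  have e3 := Set.ncard_le_ncard e2 (Set.toFinite _)
  rw [h1 a x, e1, Set.ncard_singleton, Set.ncard_pair hab] at e3
  omega

theorem exists_perp2 (hx0 : ∃ a b, a ≠ b ∧ C c a b) {x y : X} (hxy : ¬ C c x y) :
    ∃ p, C c p x ∧ C c p y := by
  obtain ⟨u, hu, hxu⟩ := h.exists_comm hx0 h.card1 x
  obtain ⟨p, hp, hpy⟩ := h.polar hxu hu.symm y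
  exact ⟨p, h.C_symm (h.L_comm_base hxu hp).1, hpy⟩

theorem row2 (hx0 : ∃ a b, a ≠ b ∧ C c a b) (h3 : ∀ x y, x ≠ y → C c x y → (L c x y).ncard = 3) {x y : X}
    (hxy : ¬ C c x y) (e : X) : (C c (c x y) e ↔ (C c x e ↔ C c y e)) := by
  -- the main case
  suffices key : ¬ C c x e → ¬ C c y e → C c (c x y) e by
    by_cases hx : C c x e
    · by_cases hy : C c y e
      · have := h.C_symm (h.C_third (h.C_symm hx) (h.C_symm hy))
        tauto
      · have : ¬ C c (c x y) e := fun q => h.nc_of_third (h.C_symm hx) (fun q => hy (h.C_symm q)) (h.C_symm q)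
        tauto
    · by_cases hy : C c y e
      · have : ¬ C c (c x y) e := fun q => by
          rw [h.nc x y hxy] at q
          exact h.nc_of_third (h.C_symm hy) (fun q => hx (h.C_symm q)) (h.C_symm q)
        tauto
      · have := key hx hy
        tauto
  intro hxe hye
  obtain ⟨p, hpx, hpy⟩ := h.exists_perp2 hx0 hxy
  have hpx' : p ≠ x := by
    rintro rfl
    exact hxy hpy
  have hpy' : p ≠ y := by
    rintro rfl
    exact hxy (h.C_symm hpx)
  obtain ⟨x', hx'p, hx'x, hx', hLx⟩ := h.third_pt h3 hpx' hpx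
  obtain ⟨y', hy'p, hy'y, hy', hLy⟩ := h.third_pt h3 hpy' hpy
  have hmp := mem_left h p x
  have hmx := mem_right h p x
  have tw : ∀ {u}, C c p u → (C c x u ↔ C c x' u) := fun hu => h.twins hpx hpx' hmp hmx hx' hpx' hx'p.symm hu
  have twy : ∀ {u}, C c p u → (C c y u ↔ C c y' u) := fun hu =>
    h.twins hpy hpy' (mem_left h p y) (mem_right h p y) hy' hpy' hy'p.symm hu
  have hpy'' : C c p y' := (h.L_comm_base hpy hy').1
  have hpx'' : C c p x' := (h.L_comm_base hpx hx').1
  have hxx' : C c x x' := (h.L_comm_base hpx hx').2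
  -- a general fact : x x' moves u to the third point of pu, if x, u do not commute
  have mv : ∀ {u}, C c p u → ¬ C c x u → c x (c x' u) ∈ L c p u ∧ c x (c x' u) ≠ p ∧ c x (c x' u) ≠ u := by
    intro u hu hxu
    have hpu : p ≠ u := by
      rintro rfl
      exact hxu (h.C_symm hpx)
    refine ⟨h.E_lemma hpx hpx' hmp hmx hx' hpx' hx'p.symm hu, (h.E_ne hpx hpx' hmp hmx hx' hpu).symm, ?_⟩
    intro q
    have q' : c x' u = c x u := by rw [← h.inv x (c x' u), q]
    exact h.conj_ne (fun z => hxu ((tw hu).2 z)) hxu hx'x q'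
  have hx'y' : c x (c x' y') = y := by
    obtain ⟨m1, m2, m3⟩ := mv hpy'' (fun q => hxy (h.C_symm ((twy hpx).2 (h.C_symm q))))
    rw [h.L_eq hpy hpy' (mem_left h p y) hy' hy'p.symm] at m1
    rcases hLy _ m1 with q | q | q
    · exact absurd q m2
    · exact q
    · exact absurd q m3
  have hs : c x' y' = c x y := by
    rw [← h.inv x (c x' y'), hx'y']
  by_cases hpe : C c p e
  · -- e in p^perp
    by_contra hse
    have hpe' : p ≠ e := by
      rintro rfl
      exact hxe (h.C_symm hpx)
    obtain ⟨e', he'p, he'e, he', hLe⟩ := h.third_pt h3 hpe' hpe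
    have hpe'' : C c p e' := (h.L_comm_base hpe he').1
    have twe : ∀ {u}, C c p u → (C c e u ↔ C c e' u) := fun hu =>
      h.twins hpe hpe' (mem_left h p e) (mem_right h p e) he' hpe' he'p.symm hu
    have q1 : c x (c x' e) = e' := by
      obtain ⟨m1, m2, m3⟩ := mv hpe hxe
      rcases hLe _ m1 with q | q | q
      · exact absurd q m2
      · exact absurd q m3
      · exact q
    have q2 : c x (c x' y) = y' := by
      obtain ⟨m1, m2, m3⟩ := mv hpy hxy
      rcases hLy _ m1 with q | q | q
      · exact absurd q m2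
      · exact absurd q m3
      · exact q
    -- y (x x' (y (x x' e)))
    have q3 : c y (c x (c x' (c y (c x (c x' e))))) = c y (c y' e) := by
      rw [h.dist x' y, h.dist x (c x' y), q2]
      rw [h.swap hxx' (c x (c x' e)), h.inv x, h.inv x']
    have q4 : c y (c x (c x' (c y (c x (c x' e))))) = c (c y x) (c (c y x') e') := by
      rw [q1, h.dist y x, h.dist y x', h.inv]
    have hps : C c p (c y x) := h.C_third hpy hpx
    have hps' : C c p (c y x') := h.C_third hpy hpx''
    have hpsne : p ≠ c y x := by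
      intro q
      have : c y p = x := by rw [q, h.inv]
      rw [show c y p = p from h.C_symm hpy] at this
      exact hpx' this
    have hs'L : c y x' ∈ L c p (c y x) := by
      have := (h.L_conj y p x x').2 hx'
      rwa [show c y p = p from h.C_symm hpy] at this
    have hs'p : p ≠ c y x' := by
      intro q
      have : c y p = x' := by rw [q, h.inv]
      rw [show c y p = p from h.C_symm hpy] at this
      exact hx'p this.symm
    have hyx : c y x = c x y := (h.nc x y hxy).symm
    have hse1 : ¬ C c (c y x) e := by rw [hyx]; exact hse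
    have hse2 : ¬ C c (c y x) e' := fun q => hse1 (h.C_symm ((twe hps).2 (h.C_symm q)))
    have hse3 : ¬ C c (c y x') e' := fun q =>
      hse2 ((h.twins hps hpsne (mem_left h _ _) (mem_right h _ _) hs'L hpsne hs'p hpe'').2 q)
    have q5 : c (c y x) (c (c y x') e') = e := by
      have m1 := h.E_lemma hps hpsne (mem_left h _ _) (mem_right h _ _) hs'L hpsne hs'p hpe''
      have m2 := h.E_ne hps hpsne (mem_left h _ _) (mem_right h _ _) hs'L he'p.symm
      rw [h.L_eq hpe hpe' (mem_left h p e) he' he'p.symm] at m1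
      rcases hLe _ m1 with q | q | q
      · exact absurd q m2.symm
      · exact q
      · exfalso
        have q' : c (c y x') e' = c (c y x) e' := by rw [← h.inv (c y x) (c (c y x') e'), q]
        refine h.conj_ne hse3 hse2 ?_ q'
        intro r
        exact hx'x (h.inj r)
    have q6 : c y (c y' e) = e := by rw [← q3, q4, q5]
    have hy'e : ¬ C c y' e := fun q => hye ((twy hpe).2 q)
    have q7 : c y' e = c y e := by rw [← h.inv y (c y' e), q6]
    exact h.conj_ne hy'e hye hy'y q7
  · -- e not in p^perp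
    have k1 : C c x' e := by
      obtain ⟨u, hu, hue⟩ := h.polar hpx hpx' e
      rcases hLx u hu with rfl | rfl | rfl
      · exact absurd hue hpe
      · exact absurd hue hxe
      · exact hue
    have k2 : C c y' e := by
      obtain ⟨u, hu, hue⟩ := h.polar hpy hpy' e
      rcases hLy u hu with rfl | rfl | rfl
      · exact absurd hue hpe
      · exact absurd hue hye
      · exact hue
    rw [← hs]
    exact h.C_symm (h.C_third (h.C_symm k1) (h.C_symm k2))

end Pol

end Cfsg.Agent.Lib.FsPol
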