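import Cfsg.Agent.Lib.FsPolC42
import Cfsg.Agent.Lib.K4

/-!
# Abstract Fischer spaces with polar lines, unitary part A (helper42): labels and orientation
-/

set_option autoImplicit false
set_option linter.all false

namespace Cfsg.Agent.Lib.FsPol

open Cfsg.Agent.Lib.K4 (K4)

/-! ### finite facts on the field with four elements -/

theorem k_add_self : ∀ a : K4, a + a = 0 := by decide +kernel
theorem k_cube : ∀ a : K4, a ≠ 0 → a * a * a = 1 := by decide +kernel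
theorem k_sq_add : ∀ a b : K4, (a + b) * (a + b) = a * a + b * b := by decide +kernel
theorem k_sq_sq : ∀ a : K4, (a * a) * (a * a) = a := by decide +kernel
theorem k_perm : ∀ f : K4 → K4, (∀ a b, f a = f b → a = b) → f 0 = 0 →
    (∀ a, f a = f 1 * a) ∨ (∀ a, f a = f 1 * (a * a)) := by decide +kernel
theorem k_trans : ∀ f : K4 → K4, (∀ a, f (f a) = a) → (∀ a, f a ≠ a) → ∀ a, f a = a + f 0 := by decide +kernel
theorem k_ne : ∃ a : K4, a * a ≠ a := by decide +kernel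

/-! ### a group lemma -/

theorem aff_group {Q : Type*} [Group Q] (A B : Q) (hA : A * A * A = 1) (hB : B * B * B = 1)
    (hAB : (A * B) * (A * B) * (A * B) = 1)
    (hc : B * A * B⁻¹ * A⁻¹ = B⁻¹ * A⁻¹ * B * A) :
    (B * A * B⁻¹ * A⁻¹) * (B * A * B⁻¹ * A⁻¹) * (B * A * B⁻¹ * A⁻¹) = 1 := by
  have hA2 : A * A = A⁻¹ := by
    rw [eq_inv_iff_mul_eq_one]; exact hA
  have hB2 : B * B = B⁻¹ := by
    rw [eq_inv_iff_mul_eq_one]; exact hB
  set b₁ := A⁻¹ * B * A with hb₁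
  set b₂ := A * B * A⁻¹ with hb₂
  have e1 : b₁ * b₂ * B = 1 := by
    have h1 : B⁻¹ * b₁ = B * b₂⁻¹ := by
      rw [hb₁, hb₂]
      calc B⁻¹ * (A⁻¹ * B * A) = B⁻¹ * A⁻¹ * B * A := by group
        _ = B * A * B⁻¹ * A⁻¹ := hc.symm
        _ = B * (A * B * A⁻¹)⁻¹ := by group
    have h2 : b₁ = B * B * b₂⁻¹ := by
      calc b₁ = B * (B⁻¹ * b₁) := by group
        _ = B * (B * b₂⁻¹) := by rw [h1]
        _ = B * B * b₂⁻¹ := by group
    rw [h2, hB2]
    group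
  have h3 : A⁻¹ * A⁻¹ = A := by
    calc A⁻¹ * A⁻¹ = A * A * A⁻¹ := by rw [hA2]
      _ = A := by group
  have e2 : b₂ * b₁ * B = 1 := by
    rw [hb₁, hb₂, ← hA2, ← hAB]
    calc A * B * (A * A) * (A * A * B * A) * B = A * B * A * (A * A * A) * B * A * B := by group
      _ = A * B * (A * B) * (A * B) := by rw [hA]; group
  have e3 : b₁ * b₂ = b₂ * b₁ := by
    have : b₁ * b₂ * B = b₂ * b₁ * B := by rw [e1, e2]
    exact mul_right_cancel this
  have e4 : B = b₂⁻¹ * b₁⁻¹ := by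
    have := eq_inv_of_mul_eq_one_right e1
    rw [this]; group
  have hb₁3 : b₁ * b₁ * b₁ = 1 := by
    have : b₁ * b₁ * b₁ = A⁻¹ * (B * B * B) * A := by rw [hb₁]; group
    rw [this, hB]; group
  have hb₂3 : b₂ * b₂ * b₂ = 1 := by
    have : b₂ * b₂ * b₂ = A * (B * B * B) * A⁻¹ := by rw [hb₂]; group
    rw [this, hB]; group
  have h6 : b₁⁻¹ * b₂⁻¹ = b₂⁻¹ * b₁⁻¹ := by
    rw [← mul_inv_rev, ← mul_inv_rev, e3]
  have e5 : B * A * B⁻¹ * A⁻¹ = b₁⁻¹ * (b₂⁻¹ * b₂⁻¹) := by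
    have : B * A * B⁻¹ * A⁻¹ = B * b₂⁻¹ := by rw [hb₂]; group
    rw [this, e4]
    calc b₂⁻¹ * b₁⁻¹ * b₂⁻¹ = b₁⁻¹ * b₂⁻¹ * b₂⁻¹ := by rw [h6]
      _ = _ := by group
  have h7 : Commute b₁⁻¹ (b₂⁻¹ * b₂⁻¹) := (show Commute b₁⁻¹ b₂⁻¹ from h6).mul_right h6
  have e6 : b₁⁻¹ * b₁⁻¹ * b₁⁻¹ = 1 := by
    have : b₁⁻¹ * b₁⁻¹ * b₁⁻¹ = (b₁ * b₁ * b₁)⁻¹ := by group
    rw [this, hb₁3, inv_one]
  have e7 : b₂⁻¹ * b₂⁻¹ * b₂⁻¹ = 1 := by
    have : b₂⁻¹ * b₂⁻¹ * b₂⁻¹ = (b₂ * b₂ * b₂)⁻¹ := by group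
    rw [this, hb₂3, inv_one]
  rw [e5]
  set p := b₁⁻¹
  set q := b₂⁻¹ * b₂⁻¹ with hq
  have e8 : q * q * q = 1 := by
    calc q * q * q = (b₂⁻¹ * b₂⁻¹ * b₂⁻¹) * (b₂⁻¹ * b₂⁻¹ * b₂⁻¹) := by rw [hq]; group
      _ = 1 := by rw [e7, one_mul]
  calc p * q * (p * q) * (p * q) = p * (q * p) * q * p * q := by group
    _ = p * (p * q) * q * p * q := by rw [h7.eq]
    _ = p * p * q * (q * p) * q := by group
    _ = p * p * q * (p * q) * q := by rw [h7.eq]
    _ = p * p * (q * p) * q * q := by group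
    _ = p * p * (p * q) * q * q := by rw [h7.eq]
    _ = (p * p * p) * (q * q * q) := by group
    _ = 1 := by rw [e6, e8, one_mul]

theorem aff2 {Q : Type*} [Group Q] (Y V S : Q) (hY : Y * Y = 1) (hV : V * V = 1) (hS : S * S = 1)
    (b1 : Y * V * Y = V * Y * V) (b2 : Y * S * Y = S * Y * S) (b3 : V * S * V = S * V * S)
    (b4 : Y * (V * S * V) * Y = (V * S * V) * Y * (V * S * V))
    (hgY : (S * Y * S) * (V * S * V) * (Y * V * Y) * Y = Y * ((S * Y * S) * (V * S * V) * (Y * V * Y))) :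
    (S * Y * S) * (V * S * V) * (Y * V * Y) * ((S * Y * S) * (V * S * V) * (Y * V * Y)) *
      ((S * Y * S) * (V * S * V) * (Y * V * Y)) = Y := by
  have cub : ∀ P Q' : Q, P * P = 1 → Q' * Q' = 1 → P * Q' * P = Q' * P * Q' → (P * Q') * (P * Q') * (P * Q') = 1 := by
    intro P Q' hP hQ hb
    calc (P * Q') * (P * Q') * (P * Q') = (P * Q' * P) * (Q' * P * Q') := by group
      _ = (Q' * P * Q') * (Q' * P * Q') := by rw [hb]
      _ = Q' * P * (Q' * Q') * P * Q' := by group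
      _ = Q' * (P * P) * Q' := by rw [hQ]; group
      _ = Q' * Q' := by rw [hP]; group
      _ = 1 := hQ
  have hYi : Y⁻¹ = Y := inv_eq_of_mul_eq_one_right hY
  have hVi : V⁻¹ = V := inv_eq_of_mul_eq_one_right hV
  have hSi : S⁻¹ = S := inv_eq_of_mul_eq_one_right hS
  have hA := cub Y V hY hV b1
  have hB := cub Y S hY hS b2
  have hVSV : (V * S * V) * (V * S * V) = 1 := by
    calc (V * S * V) * (V * S * V) = V * S * (V * V) * S * V := by group
      _ = V * (S * S) * V := by rw [hV]; group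
      _ = V * V := by rw [hS]; group
      _ = 1 := hV
  have hAB1 := cub Y (V * S * V) hY hVSV b4
  have hAA : (Y * V) * (Y * V) = (Y * V)⁻¹ := by
    rw [eq_inv_iff_mul_eq_one]; exact hA
  have hAB : ((Y * V) * (Y * S)) * ((Y * V) * (Y * S)) * ((Y * V) * (Y * S)) = 1 := by
    have e1 : Y * (V * S * V) = (Y * V) * (Y * S)⁻¹ * (Y * V) := by
      rw [mul_inv_rev, hYi, hSi]
      calc Y * (V * S * V) = Y * V * S * 1 * V := by group
        _ = Y * V * S * (Y * Y) * V := by rw [hY]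
        _ = _ := by group
    rw [e1] at hAB1
    have e3 : ((Y * S)⁻¹ * ((Y * V) * (Y * V))) * ((Y * S)⁻¹ * ((Y * V) * (Y * V))) * ((Y * S)⁻¹ * ((Y * V) * (Y * V))) =
        1 := by
      calc ((Y * S)⁻¹ * ((Y * V) * (Y * V))) * ((Y * S)⁻¹ * ((Y * V) * (Y * V))) * ((Y * S)⁻¹ * ((Y * V) * (Y * V))) =
          (Y * V)⁻¹ * (((Y * V) * (Y * S)⁻¹ * (Y * V)) * ((Y * V) * (Y * S)⁻¹ * (Y * V)) *
            ((Y * V) * (Y * S)⁻¹ * (Y * V))) * (Y * V) := by group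
        _ = 1 := by rw [hAB1]; group
    rw [hAA] at e3
    have e2 : ((Y * V) * (Y * S)) * ((Y * V) * (Y * S)) * ((Y * V) * (Y * S)) =
        (((Y * S)⁻¹ * (Y * V)⁻¹) * ((Y * S)⁻¹ * (Y * V)⁻¹) * ((Y * S)⁻¹ * (Y * V)⁻¹))⁻¹ := by group
    rw [e2, e3, inv_one]
  set g := (S * Y * S) * (V * S * V) * (Y * V * Y) with hg
  have hg1 : g = (Y * S) * (Y * V) * (Y * S)⁻¹ * (Y * V)⁻¹ * Y := by
    rw [hg, ← b2]
    calc Y * S * Y * (V * S * V) * (Y * V * Y) = Y * S * Y * V * S * (V * Y * V) * Y := by group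
      _ = Y * S * Y * V * S * (Y * V * Y) * Y := by rw [b1]
      _ = Y * S * (Y * V) * S * Y * V * (Y * Y) := by group
      _ = Y * S * (Y * V) * (S * Y) * V := by rw [hY]; group
      _ = Y * S * (Y * V) * (S * Y) * V * 1 := by group
      _ = Y * S * (Y * V) * (S * Y) * V * (Y * Y) := by rw [hY]
      _ = (Y * S) * (Y * V) * (Y * S)⁻¹ * (Y * V)⁻¹ * Y := by
          rw [mul_inv_rev, mul_inv_rev, hYi, hSi, hVi]; group
  set c0 := (Y * S) * (Y * V) * (Y * S)⁻¹ * (Y * V)⁻¹ with hc0d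
  have e2 : c0 = g * Y := by rw [hg1, mul_assoc, hY, mul_one]
  have hc0Y : Y * c0 = c0 * Y := by
    rw [e2, ← mul_assoc, ← hgY]
  have hc0 : c0 = (Y * S)⁻¹ * (Y * V)⁻¹ * (Y * S) * (Y * V) := by
    have e1 : Y * c0 * Y = c0 := by
      rw [hc0Y, mul_assoc, hY, mul_one]
    have e3 : Y * c0 * Y = (Y * S)⁻¹ * (Y * V)⁻¹ * (Y * S) * (Y * V) := by
      rw [hc0d]
      simp only [mul_inv_rev, hYi, hSi, hVi]
      calc Y * (Y * S * (Y * V) * (S * Y) * (V * Y)) * Y = (Y * Y) * (S * Y * V * S * Y * V) * (Y * Y) := by group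
        _ = S * Y * V * S * Y * V := by rw [hY]; group
        _ = S * Y * V * 1 * S * Y * V := by group
        _ = S * Y * V * (Y * Y) * S * Y * V := by rw [hY]
        _ = _ := by group
    rw [← e1, e3]
  have hc3 := aff_group (Y * V) (Y * S) hA hB hAB hc0
  rw [← hc0d] at hc3
  have e5 : g = c0 * Y := hg1
  rw [e5]
  calc c0 * Y * (c0 * Y) * (c0 * Y) = c0 * (Y * c0) * (Y * c0) * Y := by group
    _ = c0 * (c0 * Y) * (c0 * Y) * Y := by rw [hc0Y]
    _ = c0 * c0 * (Y * c0) * Y * Y := by group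
    _ = c0 * c0 * (c0 * Y) * Y * Y := by rw [hc0Y]
    _ = (c0 * c0 * c0) * (Y * Y) * Y := by group
    _ = Y := by rw [hc3, hY]; group

variable {X : Type*} {c : X → X → X}

theorem _root_.Cfsg.Agent.Lib.FsPol.aps {X : Type*} (g : Equiv.Perm X) (x : X) : g (g⁻¹ x) = x := Equiv.apply_symm_apply g x

/-- the permutation of `X` given by `a` -/
def tp (h : Fis c) (a : X) : Equiv.Perm X := ⟨c a, c a, h.inv a, h.inv a⟩

@[simp] theorem tp_apply (h : Fis c) (a x : X) : tp h a x = c a x := rfl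

theorem tp_sq (h : Fis c) (a : X) : tp h a * tp h a = 1 := by
  ext x
  exact h.inv a x

theorem tp_inv (h : Fis c) (a : X) : (tp h a)⁻¹ = tp h a := inv_eq_of_mul_eq_one_right (tp_sq h a)

/-- automorphisms -/
def IsAut (c : X → X → X) (g : Equiv.Perm X) : Prop := ∀ a b, g (c a b) = c (g a) (g b)

theorem IsAut.one : IsAut c 1 := fun _ _ => rfl

theorem IsAut.mul {g g' : Equiv.Perm X} (h1 : IsAut c g) (h2 : IsAut c g') : IsAut c (g * g') := by
  intro a b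
  show g (g' (c a b)) = c (g (g' a)) (g (g' b))
  rw [h2, h1]

theorem IsAut.inv {g : Equiv.Perm X} (h1 : IsAut c g) : IsAut c g⁻¹ := by
  intro a b
  apply g.injective
  rw [aps, h1, aps, aps]

theorem IsAut.tp (h : Fis c) (a : X) : IsAut c (tp h a) := fun x y => h.dist a x y

theorem IsAut.C {g : Equiv.Perm X} (h1 : IsAut c g) {a b : X} : FsPol.C c (g a) (g b) ↔ FsPol.C c a b := by
  unfold FsPol.C
  rw [← h1]
  exact ⟨fun e => g.injective e, fun e => by rw [e]⟩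

theorem IsAut.conj (h : Fis c) {g : Equiv.Perm X} (h1 : IsAut c g) (a : X) :
    g * FsPol.tp h a * g⁻¹ = FsPol.tp h (g a) := by
  ext x
  show g (c a (g⁻¹ x)) = c (g a) x
  rw [h1, aps]

theorem IsAut.L {g : Equiv.Perm X} (h1 : IsAut c g) {a b w : X} : g w ∈ FsPol.L c (g a) (g b) ↔ w ∈ FsPol.L c a b := by
  constructor
  · intro hw z h2 h3
    exact h1.C.1 (hw (g z) (h1.C.2 h2) (h1.C.2 h3))
  · intro hw z h2 h3
    have e : z = g (g⁻¹ z) := (aps g z).symm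
    rw [e] at h2 h3 ⊢
    exact h1.C.2 (hw _ (h1.C.1 h2) (h1.C.1 h3))

/-- the setting: lines have five points, `x`, `z` do not commute -/
structure Uni (c : X → X → X) (x z : X) extends Pol c where
  five : ∀ a b, a ≠ b → C c a b → (L c a b).ncard = 5
  two : ∃ a b, a ≠ b ∧ C c a b
  xz : ¬ C c x z
  tr : ∀ s, ¬ C c x s → ∀ S : Set X, z ∈ S → (∀ y, C c x y → ∀ u ∈ S, c y u ∈ S) → s ∈ S

namespace Uni

variable [Finite X] {x z : X} (h : Uni c x z)
include h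

/-- the common perp of `x` and `z` -/
def E (_ : Uni c x z) : Set X := {y | C c x y ∧ C c z y}

omit [Finite X] in
theorem E_ne_x {y : X} (hy : y ∈ h.E) : x ≠ y := by
  rintro rfl
  exact h.xz (h.C_symm hy.2)

omit [Finite X] in
theorem E_closed {y v : X} (hy : y ∈ h.E) (hv : v ∈ h.E) : c y v ∈ h.E :=
  ⟨h.C_third hy.1 hv.1, h.C_third hy.2 hv.2⟩

/-- the point of the line `xt` commuting with `z` -/
theorem rho {t : X} (hxt : C c x t) (hne : x ≠ t) : ∃ y ∈ h.E, y ∈ L c x t ∧ ∀ u, C c x u → (C c y u ↔ C c t u) := by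
  obtain ⟨y, hy, hyz⟩ := h.polar hxt hne z
  have hxy : x ≠ y := by
    rintro rfl
    exact h.xz hyz
  exact ⟨y, ⟨(h.L_comm_base hxt hy).1, h.C_symm hyz⟩, hy, fun u hu =>
    h.twins hxt hne (Pol.mem_left h.toPol x t) hy (Pol.mem_right h.toPol x t) hxy hne hu⟩

theorem E_nonempty : ∃ y, y ∈ h.E := by
  obtain ⟨p, h1, h2⟩ := h.exists_perp2 h.two h.xz
  exact ⟨p, h.C_symm h1, h.C_symm h2⟩

theorem E_nc {y : X} (hy : y ∈ h.E) : ∃ t ∈ h.E, ¬ C c y t := by
  obtain ⟨t, ht1, ht2⟩ := h.ncd (h.E_ne_x hy)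
  have hxt : x ≠ t := by
    rintro rfl
    exact ht2 (h.C_symm hy.1)
  obtain ⟨u, hu, _, hu2⟩ := h.rho ht1 hxt
  refine ⟨u, hu, fun e => ht2 ?_⟩
  exact h.C_symm ((hu2 y hy.1).1 (h.C_symm e))

/-- two commuting members of `E` have a common non-commuting neighbour in `E` -/
theorem E_common {y v : X} (hy : y ∈ h.E) (hv : v ∈ h.E) (hne : y ≠ v) (hyv : C c y v) :
    ∃ t ∈ h.E, ¬ C c y t ∧ ¬ C c v t := by
  obtain ⟨m, hmy, hmv, hm⟩ := h.twin y v hne hyv
  have hxm : C c x m := h.C_symm (hm x (h.C_symm hy.1) (h.C_symm hv.1))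
  have hxm' : x ≠ m := by
    rintro rfl
    exact h.xz (hm z (h.C_symm hy.2) (h.C_symm hv.2))
  have hzm : C c z m := h.C_symm (hm z (h.C_symm hy.2) (h.C_symm hv.2))
  -- y not in L x m
  have h1 : y ∉ L c x m := by
    intro hy1
    exact hmy (h.uniq hxm hxm' (Pol.mem_right h.toPol x m) hy1 (Pol.mem_left h.toPol x m) h.xz (h.C_symm hzm) (h.C_symm hy.2))
  have h2 : ∃ t, C c x t ∧ C c m t ∧ ¬ C c y t := by
    by_contra hcon
    push Not at hcon
    exact h1 (fun t h3 h4 => hcon t h3 h4)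
  obtain ⟨t, ht1, ht2, ht3⟩ := h2
  have ht4 : ¬ C c v t := by
    intro e
    exact ht3 (h.all_of_two hyv hne hm (Pol.mem_right h.toPol y v) hmv ht2 e y (Pol.mem_left h.toPol y v))
  have hxt : x ≠ t := by
    rintro rfl
    exact ht3 (h.C_symm hy.1)
  obtain ⟨u, hu, _, hu2⟩ := h.rho ht1 hxt
  exact ⟨u, hu, fun e => ht3 (h.C_symm ((hu2 y hy.1).1 (h.C_symm e))),
    fun e => ht4 (h.C_symm ((hu2 v hv.1).1 (h.C_symm e)))⟩

/-- a labelling of the lines `xy`, `y ∈ E` -/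
structure Lab (ℓ : X → K4 → X) : Prop where
  zero : ∀ y ∈ h.E, ℓ y 0 = y
  inj : ∀ y ∈ h.E, ∀ a b, ℓ y a = ℓ y b → a = b
  mem : ∀ y ∈ h.E, ∀ a, ℓ y a ∈ L c x y
  ne : ∀ y ∈ h.E, ∀ a, ℓ y a ≠ x
  surj : ∀ y ∈ h.E, ∀ u ∈ L c x y, u ≠ x → ∃ a, u = ℓ y a

theorem exists_lab : ∃ ℓ : X → K4 → X, h.Lab ℓ := by
  classical
  have key : ∀ y : X, ∃ f : K4 → X, y ∈ h.E → f 0 = y ∧ (∀ a b, f a = f b → a = b) ∧ (∀ a, f a ∈ L c x y) ∧
      (∀ a, f a ≠ x) ∧ ∀ u ∈ L c x y, u ≠ x → ∃ a, u = f a := by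
    intro y
    by_cases hy : y ∈ h.E
    swap
    · exact ⟨fun _ => y, fun e => absurd e hy⟩
    have h1 : (L c x y \ {x}).ncard + 1 = 5 := by
      rw [Set.ncard_diff_singleton_add_one (Pol.mem_left h.toPol x y) (Set.toFinite _)]
      exact h.five x y (h.E_ne_x hy) hy.1
    have h2 : Nat.card (L c x y \ {x} : Set X) = Nat.card K4 := by
      rw [Nat.card_coe_set_eq, Nat.card_eq_fintype_card, K4.card_K4]
      omega
    haveI : Finite (L c x y \ {x} : Set X) := Set.toFinite _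
    obtain ⟨e⟩ := Finite.card_eq.1 h2
    have hym : y ∈ L c x y \ {x} := ⟨Pol.mem_right h.toPol x y, (h.E_ne_x hy).symm⟩
    let s : Equiv.Perm K4 := Equiv.swap 0 (e ⟨y, hym⟩)
    refine ⟨fun a => (e.symm (s a) : X), fun _ => ⟨?_, ?_, ?_, ?_, ?_⟩⟩
    · show ((e.symm (s 0) : (L c x y \ {x} : Set X)) : X) = y
      have : s 0 = e ⟨y, hym⟩ := Equiv.swap_apply_left _ _
      rw [this, Equiv.symm_apply_apply]
    · intro a b hab
      exact s.injective (e.symm.injective (Subtype.ext hab))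
    · intro a
      exact (e.symm (s a)).2.1
    · intro a
      exact (e.symm (s a)).2.2
    · intro u hu hux
      refine ⟨s.symm (e ⟨u, hu, hux⟩), ?_⟩
      show u = ((e.symm (s (s.symm (e ⟨u, hu, hux⟩))) : (L c x y \ {x} : Set X)) : X)
      rw [Equiv.apply_symm_apply, Equiv.symm_apply_apply]
  choose ℓ hℓ using key
  exact ⟨ℓ, ⟨fun y hy => (hℓ y hy).1, fun y hy => (hℓ y hy).2.1, fun y hy => (hℓ y hy).2.2.1,
    fun y hy => (hℓ y hy).2.2.2.1, fun y hy => (hℓ y hy).2.2.2.2⟩⟩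

namespace Lab

variable {h}
variable {ℓ : X → K4 → X} (hℓ : h.Lab ℓ)
include hℓ

theorem cx {y : X} (hy : y ∈ h.E) (a : K4) : C c x (ℓ y a) := (h.L_comm_base hy.1 (hℓ.mem y hy a)).1

theorem cy {y : X} (hy : y ∈ h.E) (a : K4) : C c y (ℓ y a) := (h.L_comm_base hy.1 (hℓ.mem y hy a)).2

theorem cc {y : X} (hy : y ∈ h.E) (a b : K4) : C c (ℓ y a) (ℓ y b) :=
  h.L_comm hy.1 (hℓ.mem y hy a) (hℓ.mem y hy b)

/-- the commuting relation in `x^⊥` -/
theorem tw {y : X} (hy : y ∈ h.E) (a : K4) {u : X} (hu : C c x u) : C c (ℓ y a) u ↔ C c y u :=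
  h.twins hy.1 (h.E_ne_x hy) (Pol.mem_left h.toPol x y) (hℓ.mem y hy a) (Pol.mem_right h.toPol x y) (hℓ.ne y hy a).symm
    (h.E_ne_x hy) hu

theorem tw2 {y v : X} (hy : y ∈ h.E) (hv : v ∈ h.E) (a b : K4) : C c (ℓ y a) (ℓ v b) ↔ C c y v := by
  rw [hℓ.tw hy a (hℓ.cx hv b), h.C_comm, hℓ.tw hv b hy.1, h.C_comm]

omit hℓ in
theorem trans_map {ℓ : X → K4 → X} (hℓ : h.Lab ℓ) {y v : X} (hy : y ∈ h.E) (hv : v ∈ h.E) {g : Equiv.Perm X}
    (hg : IsAut c g) (hgx : g x = x) (hgy : g y = v) :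
    ∃ τ : K4 → K4, (∀ a b, τ a = τ b → a = b) ∧ τ 0 = 0 ∧ ∀ a, g (ℓ y a) = ℓ v (τ a) := by
  have key : ∀ a, ∃ b, g (ℓ y a) = ℓ v b := by
    intro a
    refine hℓ.surj v hv _ ?_ ?_
    · have := (hg.L (a := x) (b := y) (w := ℓ y a)).2 (hℓ.mem y hy a)
      rwa [hgx, hgy] at this
    · intro e
      apply hℓ.ne y hy a
      apply g.injective
      rw [e, hgx]
  choose τ hτ using key
  refine ⟨τ, ?_, ?_, hτ⟩
  · intro a b hab
    apply hℓ.inj y hy
    apply g.injective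
    rw [hτ, hτ, hab]
  · apply hℓ.inj v hv
    rw [← hτ, hℓ.zero y hy, hℓ.zero v hv, hgy]

end Lab

/-- the holonomy around a triangle of pairwise non-commuting members of `E` is not odd -/
theorem triangle {ℓ : X → K4 → X} (hℓ : h.Lab ℓ) {y v s : X} (hy : y ∈ h.E) (hv : v ∈ h.E) (hs : s ∈ h.E)
    (hyv : ¬ C c y v) (hvs : ¬ C c v s) (hys : ¬ C c y s) {σ : K4 → K4}
    (hσ : ∀ a, c (c s y) (c (c v s) (c (c y v) (ℓ y a))) = ℓ y (σ a)) :
    ∀ γ : K4, γ ≠ 0 → ¬ (∀ a, σ a = γ * (a * a)) := by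
  intro γ hγ hodd
  have hsy : ¬ C c s y := fun e => hys (h.C_symm e)
  have hsv : ¬ C c s v := fun e => hvs (h.C_symm e)
  have hvy : ¬ C c v y := fun e => hyv (h.C_symm e)
  obtain ⟨a0, ha0⟩ := k_ne
  by_cases hcase : C c y (c v s)
  · -- the holonomy is the identity
    have e1 : c s y = c (c v s) (c y v) := by
      rw [h.dist (c v s) y v, show c (c v s) y = y from h.C_symm hcase, h.third1 hvs, h.nc s y hsy]
    have hid : ∀ a, σ a = a := by
      intro a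
      apply hℓ.inj y hy
      rw [← hσ a, e1]
      have e2 : c (c (c v s) (c y v)) (c (c v s) (c (c y v) (ℓ y a))) = c (c v s) (c (c y v) (c (c y v) (ℓ y a))) :=
        (h.dist (c v s) (c y v) (c (c y v) (ℓ y a))).symm
      rw [e2, h.inv]
      -- c v s commutes with x and y
      have e3 : C c x (c v s) := h.C_third hv.1 hs.1
      exact h.C_symm ((hℓ.tw hy a e3).2 hcase)
    have e1' := hid 1
    rw [hodd 1] at e1'
    have hγ1 : γ = 1 := by rw [mul_one, mul_one] at e1'; exact e1'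
    have e2' := hid a0
    rw [hodd a0, hγ1, one_mul] at e2'
    exact ha0 e2'
  · -- the affine case
    set Y := tp h.toFis y
    set V := tp h.toFis v
    set S := tp h.toFis s
    have hY : Y * Y = 1 := tp_sq _ _
    have hV : V * V = 1 := tp_sq _ _
    have hS : S * S = 1 := tp_sq _ _
    have br : ∀ a b : X, ¬ C c a b → tp h.toFis a * tp h.toFis b * tp h.toFis a =
        tp h.toFis b * tp h.toFis a * tp h.toFis b := by
      intro a b hab
      have e1 : tp h.toFis a * tp h.toFis b * (tp h.toFis a)⁻¹ = tp h.toFis (c a b) :=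
        IsAut.conj h.toFis (IsAut.tp h.toFis a) b
      have e2 : tp h.toFis b * tp h.toFis a * (tp h.toFis b)⁻¹ = tp h.toFis (c b a) :=
        IsAut.conj h.toFis (IsAut.tp h.toFis b) a
      rw [tp_inv] at e1 e2
      rw [e1, e2, h.nc a b hab]
    have hYi : Y⁻¹ = Y := tp_inv _ _
    have hVi : V⁻¹ = V := tp_inv _ _
    have hSi : S⁻¹ = S := tp_inv _ _
    have hT : tp h.toFis (c v s) = V * S * V := by
      have e1 : V * S * V⁻¹ = tp h.toFis (c v s) := IsAut.conj h.toFis (IsAut.tp h.toFis v) s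
      rw [hVi] at e1
      exact e1.symm
    have hT2 : tp h.toFis (c s y) = S * Y * S := by
      have e1 : S * Y * S⁻¹ = tp h.toFis (c s y) := IsAut.conj h.toFis (IsAut.tp h.toFis s) y
      rw [hSi] at e1
      exact e1.symm
    have hT3 : tp h.toFis (c y v) = Y * V * Y := by
      have e1 : Y * V * Y⁻¹ = tp h.toFis (c y v) := IsAut.conj h.toFis (IsAut.tp h.toFis y) v
      rw [hYi] at e1
      exact e1.symm
    set g := tp h.toFis (c s y) * tp h.toFis (c v s) * tp h.toFis (c y v) with hg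
    have hgaut : IsAut c g := ((IsAut.tp h.toFis _).mul (IsAut.tp h.toFis _)).mul (IsAut.tp h.toFis _)
    have hgy : g y = y := by
      show c (c s y) (c (c v s) (c (c y v) y)) = y
      rw [h.third1 hyv, h.third1 hvs, h.third1 hsy]
    have hgY : g * Y = Y * g := by
      have e1 := IsAut.conj h.toFis hgaut y
      rw [hgy] at e1
      calc g * Y = (g * Y * g⁻¹) * g := by group
        _ = Y * g := by rw [e1]
    have hg3 : g * g * g = Y := by
      have e1 := br y (c v s) hcase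
      rw [hT] at e1
      rw [hg, hT, hT2, hT3] at hgY
      rw [hg, hT, hT2, hT3]
      exact aff2 Y V S hY hV hS (br y v hyv) (br y s hys) (br v s hvs) e1 hgY
    have hgσ : ∀ a, g (ℓ y a) = ℓ y (σ a) := hσ
    have hσ3 : ∀ a, σ (σ (σ a)) = a := by
      intro a
      apply hℓ.inj y hy
      rw [← hgσ, ← hgσ, ← hgσ]
      have e1 : g (g (g (ℓ y a))) = (g * g * g) (ℓ y a) := rfl
      rw [e1, hg3]
      exact hℓ.cy hy a
    have e1 := hσ3 1
    have e2 := hσ3 a0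
    rw [hodd, hodd, hodd] at e1 e2
    have kk : ∀ γ a : K4, γ ≠ 0 → a * a ≠ a → γ * ((γ * ((γ * (1 * 1)) * (γ * (1 * 1)))) * (γ * ((γ * (1 * 1)) * (γ * (1 * 1))))) = 1 →
        γ * ((γ * ((γ * (a * a)) * (γ * (a * a)))) * (γ * ((γ * (a * a)) * (γ * (a * a))))) = a → False := by
      decide +kernel
    exact kk γ a0 hγ ha0 e1 e2

end Uni

end Cfsg.Agent.Lib.FsPol
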