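import Cfsg.Agent.Lib.FsUniA42

/-!
# Abstract Fischer spaces with polar lines, unitary part B (helper42): an orientable cover is trivial
-/

set_option autoImplicit false
set_option linter.all false

namespace Cfsg.Agent.Lib.FsPol

open Cfsg.Agent.Lib.K4 (K4)

theorem kk1 : ∀ γ γ' : K4, γ' ≠ 0 → (∀ a, γ * a = γ' * (a * a)) → False := by decide +kernel
theorem kk2 : ∀ γ γ' : K4, γ ≠ 0 → γ' ≠ 0 → (∀ a, γ' * ((γ * a) * (γ * a)) = a) → False := by decide +kernel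
theorem kk3 : ∀ γ γ' : K4, γ ≠ 0 → γ' ≠ 0 → (∀ a, γ' * (γ * (a * a)) = a) → False := by decide +kernel
theorem kk4 : ∀ γ a : K4, γ * (a * a) = γ * γ * a * (γ * γ * a) := by decide +kernel
theorem kk5 : ∀ γ a : K4, γ * (a * a * (a * a)) = γ * a := by decide +kernel
theorem kk6 : ∀ p q : K4, p ≠ 0 → 1 = q * (p * 1) → q = p * p := by decide +kernel

variable {X : Type*} {c : X → X → X}

namespace Uni

variable [Finite X] {x z : X} (h : Uni c x z)
include h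

theorem H1 (s : X → X → ZMod 2) (hsym : ∀ y ∈ h.E, ∀ v ∈ h.E, ¬ C c y v → s y v = s v y)
    (htri : ∀ y ∈ h.E, ∀ v ∈ h.E, ∀ w ∈ h.E, ¬ C c y v → ¬ C c v w → ¬ C c y w → s y v + s v w + s y w = 0) :
    ∃ f : X → ZMod 2, ∀ y ∈ h.E, ∀ v ∈ h.E, ¬ C c y v → s y v = f y + f v := by
  classical
  obtain ⟨y0, hy0⟩ := h.E_nonempty
  have sy : ∀ {a b}, ¬ C c a b → ¬ C c b a := fun h1 h2 => h1 (h.C_symm h2)
  -- independence
  have WD1 : ∀ v ∈ h.E, ∀ t ∈ h.E, ∀ t' ∈ h.E, ¬ C c y0 t → ¬ C c v t → ¬ C c y0 t' → ¬ C c v t' → ¬ C c t t' →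
      s y0 t + s v t = s y0 t' + s v t' := by
    intro v hv t ht t' ht' h1 h2 h3 h4 h5
    have e1 := htri y0 hy0 t ht t' ht' h1 h5 h3
    have e2 := htri v hv t ht t' ht' h2 h5 h4
    generalize s y0 t = a at *
    generalize s v t = b at *
    generalize s y0 t' = d at *
    generalize s v t' = e at *
    generalize s t t' = f at *
    revert a b d e f
    decide
  have WD : ∀ v ∈ h.E, C c y0 v → ∀ t ∈ h.E, ∀ t' ∈ h.E, ¬ C c y0 t → ¬ C c v t → ¬ C c y0 t' → ¬ C c v t' →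
      s y0 t + s v t = s y0 t' + s v t' := by
    intro v hv hyv t ht t' ht' h1 h2 h3 h4
    by_cases h5 : C c t t'
    · have m1 : c t y0 ∈ h.E := h.E_closed ht hy0
      have m2 : ¬ C c t (c t y0) := h.nc_third (sy h1)
      have m3 : ¬ C c y0 (c t y0) := by
        rw [h.nc t y0 (sy h1)]
        exact h.nc_third h1
      have m4 : ¬ C c t' (c t y0) := h.nc_of_third (h.C_symm h5) (sy h3)
      have m5 : ¬ C c v (c t y0) := by
        rw [h.nc t y0 (sy h1)]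
        exact h.nc_of_third (h.C_symm hyv) h2
      rw [WD1 v hv t ht _ m1 h1 h2 m3 m5 m2, WD1 v hv t' ht' _ m1 h3 h4 m3 m5 m4]
    · exact WD1 v hv t ht t' ht' h1 h2 h3 h4 h5
  have hex : ∀ v : X, ∃ r : ZMod 2, (v ∈ h.E → v ≠ y0 → C c y0 v → ∀ t ∈ h.E, ¬ C c y0 t → ¬ C c v t →
      r = s y0 t + s v t) := by
    intro v
    by_cases hv : v ∈ h.E ∧ v ≠ y0 ∧ C c y0 v
    · obtain ⟨hv1, hv2, hv3⟩ := hv
      obtain ⟨t, ht, h1, h2⟩ := h.E_common hy0 hv1 hv2.symm hv3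
      refine ⟨s y0 t + s v t, fun _ _ _ t' ht' h3 h4 => ?_⟩
      exact WD v hv1 hv3 t ht t' ht' h1 h2 h3 h4
    · refine ⟨0, fun h1 h2 h3 => ?_⟩
      exact absurd ⟨h1, h2, h3⟩ hv
  choose r hr using hex
  refine ⟨fun v => if v = y0 then 0 else if C c y0 v then r v else s y0 v, ?_⟩
  intro a ha b hb hab
  by_cases ha0 : a = y0
  · subst ha0
    have hb0 : b ≠ a := by
      rintro rfl
      exact hab (h.C_self _)
    simp only [if_true, if_neg hb0, if_neg hab, zero_add]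
  by_cases hb0 : b = y0
  · subst hb0
    simp only [if_true, if_neg ha0, if_neg (sy hab), add_zero]
    exact hsym a ha b hb hab
  simp only [if_neg ha0, if_neg hb0]
  by_cases hac : C c y0 a
  · by_cases hbc : C c y0 b
    · -- both commute with y0
      rw [if_pos hac, if_pos hbc]
      have hex : ∃ t ∈ h.E, ¬ C c y0 t ∧ ¬ C c a t ∧ ¬ C c b t := by
        obtain ⟨t0, ht0, h1, h2⟩ := h.E_common hy0 ha (Ne.symm ha0) hac
        by_cases h3 : C c b t0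
        · refine ⟨c t0 a, h.E_closed ht0 ha, ?_, ?_, ?_⟩
          · rw [h.nc t0 a (sy h2)]
            exact h.nc_of_third hac h1
          · rw [h.nc t0 a (sy h2)]
            exact h.nc_third h2
          · exact h.nc_of_third h3 (sy hab)
        · exact ⟨t0, ht0, h1, h2, h3⟩
      obtain ⟨t, ht, h1, h2, h3⟩ := hex
      rw [hr a ha ha0 hac t ht h1 h2, hr b hb hb0 hbc t ht h1 h3]
      have e1 := htri a ha b hb t ht hab h3 h2
      generalize s y0 t = p at *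
      generalize s a t = q at *
      generalize s b t = u at *
      generalize s a b = v at *
      revert p q u v
      decide
    · rw [if_pos hac, if_neg hbc, hr a ha ha0 hac b hb hbc hab]
      generalize s y0 b = p at *
      generalize s a b = q at *
      revert p q
      decide
  · by_cases hbc : C c y0 b
    · rw [if_neg hac, if_pos hbc, hr b hb hb0 hbc a ha hac (sy hab), hsym a ha b hb hab]
      generalize s y0 a = p at *
      generalize s b a = q at *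
      revert p q
      decide
    · rw [if_neg hac, if_neg hbc]
      have e1 := htri y0 hy0 a ha b hb hac hab hbc
      generalize s y0 a = p at *
      generalize s a b = q at *
      generalize s y0 b = u at *
      revert p q u
      decide

/-- an oriented labelling -/
structure OLab (ℓ : X → K4 → X) (Γ : X → X → K4) : Prop extends h.Lab ℓ where
  ne0 : ∀ y ∈ h.E, ∀ v ∈ h.E, ¬ C c y v → Γ v y ≠ 0
  map : ∀ y ∈ h.E, ∀ v ∈ h.E, ¬ C c y v → ∀ a, c (c y v) (ℓ y a) = ℓ v (Γ v y * a)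
  herm : ∀ y v, Γ y v = Γ v y * Γ v y
  comm : ∀ y v, (¬ (y ∈ h.E ∧ v ∈ h.E ∧ ¬ C c y v)) → Γ v y = 0

theorem exists_olab : ∃ (ℓ : X → K4 → X) (Γ : X → X → K4), h.OLab ℓ Γ := by
  classical
  obtain ⟨ℓ, hℓ⟩ := h.exists_lab
  have sy : ∀ {a b}, ¬ C c a b → ¬ C c b a := fun h1 h2 => h1 (h.C_symm h2)
  have hmap : ∀ y ∈ h.E, ∀ v ∈ h.E, ¬ C c y v → ∃ γ : K4, γ ≠ 0 ∧
      ((∀ a, c (c y v) (ℓ y a) = ℓ v (γ * a)) ∨ (∀ a, c (c y v) (ℓ y a) = ℓ v (γ * (a * a)))) := by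
    intro y hy v hv hyv
    obtain ⟨τ, hτ1, hτ2, hτ3⟩ := Lab.trans_map hℓ hy hv (IsAut.tp h.toFis (c y v))
      (h.C_symm (h.C_third hy.1 hv.1)) (h.third1 hyv)
    have hτ0 : τ 1 ≠ 0 := by
      intro e
      have : (1 : K4) = 0 := hτ1 _ _ (by rw [e, hτ2])
      exact absurd this (by decide)
    refine ⟨τ 1, hτ0, ?_⟩
    rcases k_perm τ hτ1 hτ2 with e | e
    · left
      intro a
      rw [← e a]
      exact hτ3 a
    · right
      intro a
      rw [← e a]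
      exact hτ3 a
  -- exclusive
  have hexcl : ∀ y ∈ h.E, ∀ v ∈ h.E, ∀ γ γ' : K4, γ' ≠ 0 → (∀ a, c (c y v) (ℓ y a) = ℓ v (γ * a)) →
      (∀ a, c (c y v) (ℓ y a) = ℓ v (γ' * (a * a))) → False := by
    intro y hy v hv γ γ' hγ' h1 h2
    have h3 : ∀ a, γ * a = γ' * (a * a) := by
      intro a
      apply hℓ.inj v hv
      rw [← h1, h2]
    exact kk1 γ γ' hγ' h3
  let s : X → X → ZMod 2 := fun y v => if (∃ γ : K4, ∀ a, c (c y v) (ℓ y a) = ℓ v (γ * a)) then 0 else 1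
  have hs0 : ∀ y v, (∃ γ : K4, ∀ a, c (c y v) (ℓ y a) = ℓ v (γ * a)) → s y v = 0 := fun y v h1 => if_pos h1
  have hs1 : ∀ y ∈ h.E, ∀ v ∈ h.E, ∀ γ : K4, γ ≠ 0 → (∀ a, c (c y v) (ℓ y a) = ℓ v (γ * (a * a))) → s y v = 1 := by
    intro y hy v hv γ hγ h1
    refine if_neg ?_
    rintro ⟨γ', h2⟩
    exact hexcl y hy v hv γ' γ hγ h2 h1
  -- inverse
  have hinv : ∀ y v : X, ¬ C c y v → ∀ a, c (c v y) (c (c y v) (ℓ y a)) = ℓ y a := by
    intro y v hyv a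
    rw [← h.nc y v hyv, h.inv]
  have hsym : ∀ y ∈ h.E, ∀ v ∈ h.E, ¬ C c y v → s y v = s v y := by
    intro y hy v hv hyv
    obtain ⟨γ, hγ, h1⟩ := hmap y hy v hv hyv
    obtain ⟨γ', hγ', h2⟩ := hmap v hv y hy (sy hyv)
    have key := hinv y v hyv
    rcases h1 with h1 | h1 <;> rcases h2 with h2 | h2
    · rw [hs0 y v ⟨γ, h1⟩, hs0 v y ⟨γ', h2⟩]
    · exfalso
      have h3 : ∀ a, γ' * ((γ * a) * (γ * a)) = a := by
        intro a
        apply hℓ.inj y hy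
        rw [← h2, ← h1, key]
      exact kk2 γ γ' hγ hγ' h3
    · exfalso
      have h3 : ∀ a, γ' * (γ * (a * a)) = a := by
        intro a
        apply hℓ.inj y hy
        rw [← h2, ← h1, key]
      exact kk3 γ γ' hγ hγ' h3
    · rw [hs1 y hy v hv γ hγ h1, hs1 v hv y hy γ' hγ' h2]
  have htri : ∀ y ∈ h.E, ∀ v ∈ h.E, ∀ w ∈ h.E, ¬ C c y v → ¬ C c v w → ¬ C c y w → s y v + s v w + s y w = 0 := by
    intro y hy v hv w hw hyv hvw hyw
    rw [hsym y hy w hw hyw]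
    obtain ⟨γ1, hγ1, h1⟩ := hmap y hy v hv hyv
    obtain ⟨γ2, hγ2, h2⟩ := hmap v hv w hw hvw
    obtain ⟨γ3, hγ3, h3⟩ := hmap w hw y hy (sy hyw)
    have T := fun σ hσ => h.triangle hℓ hy hv hw hyv hvw hyw (σ := σ) hσ
    rcases h1 with h1 | h1 <;> rcases h2 with h2 | h2 <;> rcases h3 with h3 | h3
    · rw [hs0 y v ⟨γ1, h1⟩, hs0 v w ⟨γ2, h2⟩, hs0 w y ⟨γ3, h3⟩]; decide
    · exfalso
      refine T (fun a => γ3 * ((γ2 * (γ1 * a)) * (γ2 * (γ1 * a)))) (fun a => by rw [h1, h2, h3])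
        (γ3 * ((γ2 * γ1) * (γ2 * γ1))) ?_ (fun a => by ring)
      exact mul_ne_zero hγ3 (mul_ne_zero (mul_ne_zero hγ2 hγ1) (mul_ne_zero hγ2 hγ1))
    · exfalso
      refine T (fun a => γ3 * (γ2 * ((γ1 * a) * (γ1 * a)))) (fun a => by rw [h1, h2, h3])
        (γ3 * (γ2 * (γ1 * γ1))) ?_ (fun a => by ring)
      exact mul_ne_zero hγ3 (mul_ne_zero hγ2 (mul_ne_zero hγ1 hγ1))
    · rw [hs0 y v ⟨γ1, h1⟩, hs1 v hv w hw γ2 hγ2 h2, hs1 w hw y hy γ3 hγ3 h3]; decide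
    · exfalso
      refine T (fun a => γ3 * (γ2 * (γ1 * (a * a)))) (fun a => by rw [h1, h2, h3])
        (γ3 * (γ2 * γ1)) ?_ (fun a => by ring)
      exact mul_ne_zero hγ3 (mul_ne_zero hγ2 hγ1)
    · rw [hs1 y hy v hv γ1 hγ1 h1, hs0 v w ⟨γ2, h2⟩, hs1 w hw y hy γ3 hγ3 h3]; decide
    · rw [hs1 y hy v hv γ1 hγ1 h1, hs1 v hv w hw γ2 hγ2 h2, hs0 w y ⟨γ3, h3⟩]; decide
    · exfalso
      have kk : ∀ g3 g2 g1 a : K4, g3 * ((g2 * ((g1 * (a * a)) * (g1 * (a * a)))) * (g2 * ((g1 * (a * a)) * (g1 * (a * a))))) =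
          (g3 * ((g2 * (g1 * g1)) * (g2 * (g1 * g1)))) * (a * a) := by decide +kernel
      refine T (fun a => γ3 * ((γ2 * ((γ1 * (a * a)) * (γ1 * (a * a)))) * (γ2 * ((γ1 * (a * a)) * (γ1 * (a * a))))))
        (fun a => by rw [h1, h2, h3])
        (γ3 * ((γ2 * (γ1 * γ1)) * (γ2 * (γ1 * γ1)))) ?_ (fun a => kk _ _ _ _)
      exact mul_ne_zero hγ3 (mul_ne_zero (mul_ne_zero hγ2 (mul_ne_zero hγ1 hγ1)) (mul_ne_zero hγ2 (mul_ne_zero hγ1 hγ1)))
  obtain ⟨f, hf⟩ := h.H1 s hsym htri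
  -- the new labelling
  let m : X → K4 → X := fun y a => if f y = 0 then ℓ y a else ℓ y (a * a)
  have hm0 : ∀ y, f y = 0 → ∀ a, m y a = ℓ y a := fun y hy a => if_pos hy
  have hm1 : ∀ y, f y ≠ 0 → ∀ a, m y a = ℓ y (a * a) := fun y hy a => if_neg hy
  have hm : h.Lab m := by
    refine ⟨?_, ?_, ?_, ?_, ?_⟩
    · intro y hy
      by_cases h0 : f y = 0
      · rw [hm0 y h0, hℓ.zero y hy]
      · rw [hm1 y h0, mul_zero, hℓ.zero y hy]
    · intro y hy a b hab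
      by_cases h0 : f y = 0
      · rw [hm0 y h0, hm0 y h0] at hab
        exact hℓ.inj y hy _ _ hab
      · rw [hm1 y h0, hm1 y h0] at hab
        have := hℓ.inj y hy _ _ hab
        rw [← k_sq_sq a, this, k_sq_sq]
    · intro y hy a
      by_cases h0 : f y = 0
      · rw [hm0 y h0]; exact hℓ.mem y hy _
      · rw [hm1 y h0]; exact hℓ.mem y hy _
    · intro y hy a
      by_cases h0 : f y = 0
      · rw [hm0 y h0]; exact hℓ.ne y hy _
      · rw [hm1 y h0]; exact hℓ.ne y hy _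
    · intro y hy u hu hux
      obtain ⟨a, ha⟩ := hℓ.surj y hy u hu hux
      by_cases h0 : f y = 0
      · exact ⟨a, by rw [hm0 y h0, ha]⟩
      · exact ⟨a * a, by rw [hm1 y h0, k_sq_sq, ha]⟩
  have hmlin : ∀ y ∈ h.E, ∀ v ∈ h.E, ¬ C c y v → ∃ γ : K4, γ ≠ 0 ∧ ∀ a, c (c y v) (m y a) = m v (γ * a) := by
    intro y hy v hv hyv
    obtain ⟨γ, hγ, h1⟩ := hmap y hy v hv hyv
    have h2 := hf y hy v hv hyv
    have one : ∀ w, f w ≠ 0 → f w = 1 := by
      intro w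
      generalize f w = q
      revert q
      decide
    rcases h1 with h1 | h1
    · rw [hs0 y v ⟨γ, h1⟩] at h2
      by_cases hy0 : f y = 0
      · have hv0 : f v = 0 := by rw [hy0, zero_add] at h2; exact h2.symm
        refine ⟨γ, hγ, fun a => ?_⟩
        rw [hm0 y hy0, hm0 v hv0, h1]
      · have hv0 : f v ≠ 0 := by
          intro e
          rw [e, add_zero] at h2
          exact hy0 h2.symm
        refine ⟨γ * γ, mul_ne_zero hγ hγ, fun a => ?_⟩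
        rw [hm1 y hy0, hm1 v hv0, h1, kk4]
    · rw [hs1 y hy v hv γ hγ h1] at h2
      by_cases hy0 : f y = 0
      · have hv0 : f v ≠ 0 := by
          intro e
          rw [hy0, e] at h2
          exact absurd h2 (by decide)
        refine ⟨γ * γ, mul_ne_zero hγ hγ, fun a => ?_⟩
        rw [hm0 y hy0, hm1 v hv0, h1, kk4]
      · have hv0 : f v = 0 := by
          by_contra e
          rw [one y hy0, one v e] at h2
          exact absurd h2 (by decide)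
        refine ⟨γ, hγ, fun a => ?_⟩
        rw [hm1 y hy0, hm0 v hv0, h1, kk5]
  have hG : ∀ v y : X, ∃ γ : K4, ((y ∈ h.E ∧ v ∈ h.E ∧ ¬ C c y v) → γ ≠ 0 ∧ ∀ a, c (c y v) (m y a) = m v (γ * a)) ∧
      ((¬ (y ∈ h.E ∧ v ∈ h.E ∧ ¬ C c y v)) → γ = 0) := by
    intro v y
    by_cases hh : y ∈ h.E ∧ v ∈ h.E ∧ ¬ C c y v
    · obtain ⟨γ, h1, h2⟩ := hmlin y hh.1 v hh.2.1 hh.2.2
      exact ⟨γ, fun _ => ⟨h1, h2⟩, fun h3 => absurd hh h3⟩
    · exact ⟨0, fun h3 => absurd h3 hh, fun _ => rfl⟩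
  choose Γ hΓ1 hΓ2 using hG
  refine ⟨m, Γ, ⟨hm, ?_, ?_, ?_, ?_⟩⟩
  · intro y hy v hv hyv
    exact (hΓ1 v y ⟨hy, hv, hyv⟩).1
  · intro y hy v hv hyv
    exact (hΓ1 v y ⟨hy, hv, hyv⟩).2
  · intro y v
    by_cases hh : y ∈ h.E ∧ v ∈ h.E ∧ ¬ C c y v
    · obtain ⟨hy, hv, hyv⟩ := hh
      have h1 := (hΓ1 v y ⟨hy, hv, hyv⟩).2 1
      have h2 := (hΓ1 y v ⟨hv, hy, sy hyv⟩).2 (Γ v y * 1)
      rw [← h1, ← h.nc y v hyv, h.inv] at h2
      have h3 := hm.inj y hy _ _ h2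
      have h4 := (hΓ1 v y ⟨hy, hv, hyv⟩).1
      exact kk6 _ _ h4 h3
    · have hh' : ¬ (v ∈ h.E ∧ y ∈ h.E ∧ ¬ C c v y) := fun e => hh ⟨e.2.1, e.1, sy e.2.2⟩
      rw [hΓ2 v y hh, hΓ2 y v hh', mul_zero]
  · intro y v hh
    exact hΓ2 v y hh

end Uni

end Cfsg.Agent.Lib.FsPol
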