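import Cfsg.Agent.Lib.FsUniB42

/-!
# Abstract Fischer spaces with polar lines, unitary part C (helper42): the group W
-/

set_option autoImplicit false
set_option linter.all false

namespace Cfsg.Agent.Lib.FsPol

open Cfsg.Agent.Lib.K4 (K4)

theorem k_four : ∀ e₁ e₂ e₃ e₄ : K4, e₁ ≠ e₂ → e₁ ≠ e₃ → e₁ ≠ e₄ → e₂ ≠ e₃ → e₂ ≠ e₄ → e₃ ≠ e₄ → ∀ a, a = e₁ ∨ a = e₂ ∨ a = e₃ ∨ a = e₄ := by
  decide +kernel

variable {X : Type*} {c : X → X → X}

namespace Uni

variable [Finite X] {x z : X} (h : Uni c x z)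
include h

/-- the product of the four points of a line other than `r` fixes everything commuting with `r` -/
theorem four {a b r p q e d u : X} (hab : C c a b) (hne : a ≠ b) (hr : r ∈ L c a b) (hp : p ∈ L c a b)
    (hq : q ∈ L c a b) (he : e ∈ L c a b) (hd : d ∈ L c a b) (hrp : r ≠ p) (hrq : r ≠ q) (hre : r ≠ e) (hrd : r ≠ d)
    (hpq : p ≠ q) (hpe : p ≠ e) (hpd : p ≠ d) (hqe : q ≠ e) (hqd : q ≠ d) (hed : e ≠ d) (hru : C c r u) :
    c p (c q (c e (c d u))) = u := by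
  by_cases hpu : C c p u
  · have hall := h.all_of_two hab hne hr hp hrp hru hpu
    rw [show c d u = u from hall d hd, show c e u = u from hall e he, show c q u = u from hall q hq]
    exact hpu
  · have hrpC := h.L_comm hab hr hp
    have hL := h.L_eq hab hne hr hp hrp
    obtain ⟨d', hd', h1, h2, h3, h4, h5⟩ := h.quad (x := r) (y := p) (z := u) (p := p) (b := q) (e := e) hrpC hrp hru
      hpu (by rw [hL]; exact hp) (by rw [hL]; exact hq) (by rw [hL]; exact he) hrp.symm hrq.symm hre.symm hpq hpe hqe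
    have h6 : d' = d := by
      by_contra hdd
      have s : ({r, p, q, e, d, d'} : Set X) ⊆ L c a b := by
        rintro w (rfl | rfl | rfl | rfl | rfl | rfl)
        · exact hr
        · exact hp
        · exact hq
        · exact he
        · exact hd
        · rw [← hL]; exact hd'
      have s2 := Set.ncard_le_ncard s (Set.toFinite _)
      rw [h.five a b hne hab] at s2
      have s3 : ({r, p, q, e, d, d'} : Set X).ncard = 6 := by
        rw [Set.ncard_insert_of_notMem (by simp [hrp, hrq, hre, hrd, h1.symm]) (Set.toFinite _),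
          Set.ncard_insert_of_notMem (by simp [hpq, hpe, hpd, h2.symm]) (Set.toFinite _),
          Set.ncard_insert_of_notMem (by simp [hqe, hqd, h3.symm]) (Set.toFinite _),
          Set.ncard_insert_of_notMem (by simp [hed, h4.symm]) (Set.toFinite _),
          Set.ncard_insert_of_notMem (by simp [Ne.symm hdd]) (Set.toFinite _), Set.ncard_singleton]
      omega
    rw [h6] at h5
    exact h5

variable {ℓ : X → K4 → X} {Γ : X → X → K4} (hℓ : h.OLab ℓ Γ)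
include hℓ

/-- the product of the four points of `xv` other than `x` is `x` -/
theorem prod4 {v : X} (hv : v ∈ h.E) {e₁ e₂ e₃ e₄ : K4} (h12 : e₁ ≠ e₂) (h13 : e₁ ≠ e₃) (h14 : e₁ ≠ e₄)
    (h23 : e₂ ≠ e₃) (h24 : e₂ ≠ e₄) (h34 : e₃ ≠ e₄) (u : X) :
    c (ℓ v e₁) (c (ℓ v e₂) (c (ℓ v e₃) (c (ℓ v e₄) u))) = c x u := by
  have hL := hℓ.toLab
  have m : ∀ e, ℓ v e ∈ L c x v := fun e => hL.mem v hv e
  have n : ∀ e, x ≠ ℓ v e := fun e => (hL.ne v hv e).symm
  have i : ∀ {e e' : K4}, e ≠ e' → ℓ v e ≠ ℓ v e' := fun hh e' => hh (hL.inj v hv _ _ e')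
  have hxv : C c x v := hv.1
  have hne := h.E_ne_x hv
  have sw : ∀ (e e' : K4) (u : X), c (ℓ v e) (c (ℓ v e') u) = c (ℓ v e') (c (ℓ v e) u) := fun e e' u =>
    h.swap (hL.cc hv e e') u
  have swx : ∀ (e : K4) (u : X), c x (c (ℓ v e) u) = c (ℓ v e) (c x u) := fun e u => h.swap (hL.cx hv e) u
  by_cases hxu : C c x u
  · rw [h.four hxv hne (Pol.mem_left h.toPol x v) (m e₁) (m e₂) (m e₃) (m e₄) (n _) (n _) (n _) (n _) (i h12) (i h13)
      (i h14) (i h23) (i h24) (i h34) hxu]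
    exact hxu.symm
  · obtain ⟨r, hr, hru⟩ := h.polar hxv hne u
    have hrx : r ≠ x := by
      rintro rfl
      exact hxu hru
    obtain ⟨e, he⟩ := hL.surj v hv r hr hrx
    rw [he] at hru
    have hru' : c (ℓ v e) u = u := hru
    have key : ∀ {f₁ f₂ f₃ : K4}, e ≠ f₁ → e ≠ f₂ → e ≠ f₃ → f₁ ≠ f₂ → f₁ ≠ f₃ → f₂ ≠ f₃ →
        c (ℓ v f₁) (c (ℓ v f₂) (c (ℓ v f₃) u)) = c x u := by
      intro f₁ f₂ f₃ g1 g2 g3 g4 g5 g6
      have := h.four hxv hne (m e) (Pol.mem_left h.toPol x v) (m f₁) (m f₂) (m f₃) (n e).symm (i g1) (i g2) (i g3)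
        (n _) (n _) (n _) (i g4) (i g5) (i g6) hru
      rw [← h.inv x (c (ℓ v f₁) (c (ℓ v f₂) (c (ℓ v f₃) u))), this]
    rcases k_four e₁ e₂ e₃ e₄ h12 h13 h14 h23 h24 h34 e with rfl | rfl | rfl | rfl
    · rw [sw e e₂, sw e e₃, sw e e₄, hru']
      exact key h12 h13 h14 h23 h24 h34
    · rw [sw e e₃, sw e e₄, hru']
      exact key h12.symm h23 h24 h13 h14 h34
    · rw [sw e e₄, hru']
      exact key h13.symm h23.symm h34 h12 h14 h24
    · rw [hru']
      exact key h14.symm h24.symm h34.symm h12 h13 h23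

omit [Finite X] hℓ in
/-- the involution `v · ℓ v a` -/
def pp (h : Uni c x z) (ℓ : X → K4 → X) (v : X) (a : K4) : Equiv.Perm X := tp h.toFis (ℓ v 0) * tp h.toFis (ℓ v a)

omit [Finite X] hℓ in
/-- the group `W` -/
def W (h : Uni c x z) (ℓ : X → K4 → X) : Subgroup (Equiv.Perm X) :=
  Subgroup.closure {g | ∃ v ∈ h.E, ∃ a : K4, g = h.pp ℓ v a}

omit [Finite X] hℓ in
theorem pp_mem {v : X} (hv : v ∈ h.E) (a : K4) : h.pp ℓ v a ∈ h.W ℓ := Subgroup.subset_closure ⟨v, hv, a, rfl⟩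

theorem pp_inv {v : X} (hv : v ∈ h.E) (a : K4) : (h.pp ℓ v a)⁻¹ = h.pp ℓ v a := by
  apply inv_eq_of_mul_eq_one_right
  ext u
  show c (ℓ v 0) (c (ℓ v a) (c (ℓ v 0) (c (ℓ v a) u))) = u
  rw [h.swap (hℓ.toLab.cc hv a 0), h.inv, h.inv]

omit [Finite X] hℓ in
theorem pp_zero (v : X) : h.pp ℓ v 0 = 1 := tp_sq _ _

theorem W_aut {w : Equiv.Perm X} (hw : w ∈ h.W ℓ) : IsAut c w ∧ w x = x := by
  induction hw using Subgroup.closure_induction with
  | mem g hg =>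
    obtain ⟨v, hv, a, rfl⟩ := hg
    refine ⟨(IsAut.tp h.toFis _).mul (IsAut.tp h.toFis _), ?_⟩
    show c (ℓ v 0) (c (ℓ v a) x) = x
    rw [show c (ℓ v a) x = x from h.C_symm (hℓ.toLab.cx hv a)]
    exact h.C_symm (hℓ.toLab.cx hv 0)
  | one => exact ⟨IsAut.one, rfl⟩
  | mul g g' _ _ h1 h2 =>
    refine ⟨h1.1.mul h2.1, ?_⟩
    show g (g' x) = x
    rw [h2.2, h1.2]
  | inv g _ h1 =>
    refine ⟨h1.1.inv, ?_⟩
    have : g⁻¹ (g x) = x := Equiv.symm_apply_apply g x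
    rw [h1.2] at this
    exact this

theorem pp_trans {v : X} (hv : v ∈ h.E) (b : K4) {y : X} (hy : y ∈ h.E) :
    ∀ a, h.pp ℓ v b (ℓ y a) = ℓ y (a + Γ y v * b) := by
  have hL := hℓ.toLab
  intro a
  by_cases hvy : C c v y
  · rw [hℓ.comm v y (fun e => e.2.2 hvy), zero_mul, add_zero]
    show c (ℓ v 0) (c (ℓ v b) (ℓ y a)) = ℓ y a
    rw [show c (ℓ v b) (ℓ y a) = ℓ y a from (hL.tw2 hv hy b a).2 hvy]
    exact (hL.tw2 hv hy 0 a).2 hvy
  · by_cases hb : b = 0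
    · subst hb
      rw [mul_zero, add_zero, pp_zero]
      rfl
    · have key : ∀ e, ∃ e', h.pp ℓ v b (ℓ y e) = ℓ y e' := by
        intro e
        have m1 := h.E_lemma hv.1 (h.E_ne_x hv) (Pol.mem_left h.toPol x v) (hL.mem v hv 0) (hL.mem v hv b)
          (hL.ne v hv 0).symm (hL.ne v hv b).symm (hL.cx hy e)
        rw [h.L_eq hy.1 (h.E_ne_x hy) (Pol.mem_left h.toPol x y) (hL.mem y hy e) (hL.ne y hy e).symm] at m1
        have m2 := h.E_ne hv.1 (h.E_ne_x hv) (Pol.mem_left h.toPol x v) (hL.mem v hv 0) (hL.mem v hv b)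
          (hL.ne y hy e).symm
        exact hL.surj y hy _ m1 m2.symm
      choose f hf using key
      have hff : ∀ e, f (f e) = e := by
        intro e
        apply hL.inj y hy
        rw [← hf, ← hf]
        have := h.pp_inv hℓ hv b
        have h2 : h.pp ℓ v b * h.pp ℓ v b = 1 := by
          have h3 := mul_inv_cancel (h.pp ℓ v b)
          rwa [this] at h3
        exact congrArg (fun g : Equiv.Perm X => g (ℓ y e)) h2
      have hfne : ∀ e, f e ≠ e := by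
        intro e he
        have h1 := hf e
        rw [he] at h1
        have h1' : c (ℓ v 0) (c (ℓ v b) (ℓ y e)) = ℓ y e := h1
        have h2 : c (ℓ v b) (ℓ y e) = c (ℓ v 0) (ℓ y e) := by rw [← h.inv (ℓ v 0) (c (ℓ v b) (ℓ y e)), h1']
        refine h.conj_ne (fun q => hvy ((hL.tw2 hv hy b e).1 q)) (fun q => hvy ((hL.tw2 hv hy 0 e).1 q)) ?_ h2
        intro q
        exact hb (hL.inj v hv _ _ q)
      have h3 := k_trans f hff hfne a
      have h4 : f 0 = Γ y v * b := by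
        apply hL.inj y hy
        rw [← hf, hL.zero y hy]
        show c (ℓ v 0) (c (ℓ v b) y) = ℓ y (Γ y v * b)
        have hnc : ¬ C c (ℓ v b) y := fun q => hvy ((hL.tw hv b hy.1).1 q)
        rw [h.nc _ _ hnc, hL.zero v hv, h.dist v y, show c v (ℓ v b) = ℓ v b from hL.cy hv b]
        exact hℓ.map v hv y hy hvy b
      rw [hf, h3, h4]

/-- the translation part -/
theorem W_trans {w : Equiv.Perm X} (hw : w ∈ h.W ℓ) : ∃ δ : X → K4, (∀ y, y ∉ h.E → δ y = 0) ∧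
    ∀ y ∈ h.E, ∀ a, w (ℓ y a) = ℓ y (a + δ y) := by
  classical
  induction hw using Subgroup.closure_induction with
  | mem g hg =>
    obtain ⟨v, hv, b, rfl⟩ := hg
    refine ⟨fun y => Γ y v * b, ?_, fun y hy a => h.pp_trans hℓ hv b hy a⟩
    intro y hy
    show Γ y v * b = 0
    rw [hℓ.comm v y (fun e => hy e.2.1), zero_mul]
  | one => exact ⟨0, fun _ _ => rfl, fun y hy a => by simp⟩
  | mul g g' _ _ h1 h2 =>
    obtain ⟨d1, h10, h11⟩ := h1
    obtain ⟨d2, h20, h21⟩ := h2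
    refine ⟨d1 + d2, fun y hy => by simp [h10 y hy, h20 y hy], fun y hy a => ?_⟩
    show g (g' (ℓ y a)) = ℓ y (a + (d1 y + d2 y))
    rw [h21 y hy, h11 y hy]
    congr 1
    ring
  | inv g _ h1 =>
    obtain ⟨d1, h10, h11⟩ := h1
    refine ⟨d1, h10, fun y hy a => ?_⟩
    apply g.injective
    rw [aps, h11 y hy, add_assoc, k_add_self, add_zero]

omit [Finite X] hℓ in
open Classical in
/-- the translation function -/
noncomputable def dl (h : Uni c x z) (ℓ : X → K4 → X) (w : Equiv.Perm X) (y : X) : K4 :=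
  if y ∈ h.E then Function.invFun (ℓ y) (w y) else 0

omit [Finite X] in
theorem dl_of {w : Equiv.Perm X} {δ : X → K4} (h0 : ∀ y, y ∉ h.E → δ y = 0)
    (h1 : ∀ y ∈ h.E, w (ℓ y 0) = ℓ y (δ y)) : h.dl ℓ w = δ := by
  classical
  funext y
  unfold dl
  by_cases hy : y ∈ h.E
  · rw [if_pos hy]
    have h2 := h1 y hy
    rw [hℓ.zero y hy] at h2
    rw [h2]
    exact Function.leftInverse_invFun (fun a b hab => hℓ.inj y hy a b hab) (δ y)
  · rw [if_neg hy, h0 y hy]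

theorem dl_spec {w : Equiv.Perm X} (hw : w ∈ h.W ℓ) {y : X} (hy : y ∈ h.E) (a : K4) :
    w (ℓ y a) = ℓ y (a + h.dl ℓ w y) := by
  obtain ⟨δ, h0, h1⟩ := h.W_trans hℓ hw
  rw [h.dl_of hℓ h0 (fun y hy => by rw [h1 y hy, zero_add])]
  exact h1 y hy a

theorem dl_mul {w w' : Equiv.Perm X} (hw : w ∈ h.W ℓ) (hw' : w' ∈ h.W ℓ) :
    h.dl ℓ (w * w') = h.dl ℓ w + h.dl ℓ w' := by
  obtain ⟨d1, h10, h11⟩ := h.W_trans hℓ hw
  obtain ⟨d2, h20, h21⟩ := h.W_trans hℓ hw'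
  have e1 : h.dl ℓ w = d1 := h.dl_of hℓ h10 (fun y hy => by rw [h11 y hy, zero_add])
  have e2 : h.dl ℓ w' = d2 := h.dl_of hℓ h20 (fun y hy => by rw [h21 y hy, zero_add])
  rw [e1, e2]
  apply h.dl_of hℓ
  · intro y hy
    simp [h10 y hy, h20 y hy]
  · intro y hy
    show w (w' (ℓ y 0)) = ℓ y (d1 y + d2 y)
    rw [h21 y hy, h11 y hy]
    congr 1
    ring

theorem dl_inv {w : Equiv.Perm X} (hw : w ∈ h.W ℓ) : h.dl ℓ w⁻¹ = h.dl ℓ w := by
  have h1 := h.dl_mul hℓ hw ((h.W ℓ).inv_mem hw)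
  rw [mul_inv_cancel] at h1
  have h2 : h.dl ℓ 1 = 0 := h.dl_of hℓ (fun _ _ => rfl) (fun y hy => rfl)
  rw [h2] at h1
  funext y
  have h3 := congrFun h1 y
  have h4 : h.dl ℓ w y + h.dl ℓ w⁻¹ y = 0 := h3.symm
  calc h.dl ℓ w⁻¹ y = h.dl ℓ w y + (h.dl ℓ w y + h.dl ℓ w⁻¹ y) := by
        rw [← add_assoc, k_add_self, zero_add]
    _ = h.dl ℓ w y := by rw [h4, add_zero]

theorem dl_one : h.dl ℓ 1 = 0 := h.dl_of hℓ (fun _ _ => rfl) (fun y hy => rfl)

theorem dl_pp {v : X} (hv : v ∈ h.E) (b : K4) : h.dl ℓ (h.pp ℓ v b) = fun y => Γ y v * b := by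
  apply h.dl_of hℓ
  · intro y hy
    show Γ y v * b = 0
    rw [hℓ.comm v y (fun e => hy e.2.1), zero_mul]
  · intro y hy
    rw [h.pp_trans hℓ hv b hy, zero_add]

/-- every point of `x^⊥` other than `x` is `ℓ y a` with `y ∈ E` -/
theorem perp_form {u : X} (hxu : C c x u) (hne : u ≠ x) : ∃ y ∈ h.E, ∃ a, u = ℓ y a := by
  obtain ⟨y, hy, hy1, _⟩ := h.rho hxu hne.symm
  have h1 := h.L_eq hxu hne.symm (Pol.mem_left h.toPol x u) hy1 (h.E_ne_x hy)
  have h2 : u ∈ L c x y := by rw [h1]; exact Pol.mem_right h.toPol x u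
  obtain ⟨a, ha⟩ := hℓ.toLab.surj y hy u h2 hne
  exact ⟨y, hy, a, ha⟩

omit [Finite X] hℓ in
theorem aut_eq_one {g : Equiv.Perm X} (hg : IsAut c g) {s : X} (hs : ¬ C c x s) (h1 : ∀ y, C c x y → g y = y)
    (h2 : g s = s) : g = 1 := by
  have h3 := h.gen x s hs {u | g u = u} ⟨s, h2⟩ (fun y hy u hu => by
      show g (c y u) = c y u
      rw [hg, h1 y hy, show g u = u from hu])
    (fun u hu => by
      show g (c s u) = c s u
      rw [hg, h2, show g u = u from hu])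
  ext u
  have : u ∈ {u | g u = u} := by rw [h3]; trivial
  exact this

theorem fix_perp {w : Equiv.Perm X} (hw : w ∈ h.W ℓ) (h0 : h.dl ℓ w = 0) : ∀ y, C c x y → w y = y := by
  intro u hu
  by_cases hux : u = x
  · rw [hux]; exact (h.W_aut hℓ hw).2
  · obtain ⟨y, hy, a, rfl⟩ := h.perp_form hℓ hu hux
    rw [h.dl_spec hℓ hw hy, h0]
    simp

/-- `W` is semiregular on the points not commuting with `x` -/
theorem semireg {w : Equiv.Perm X} (hw : w ∈ h.W ℓ) {s : X} (hs : ¬ C c x s) (h1 : w s = s) : w = 1 := by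
  have haut := h.W_aut hℓ hw
  have h0 : h.dl ℓ w = 0 := by
    funext y
    by_cases hy : y ∈ h.E
    · obtain ⟨p, hp, hps⟩ := h.polar hy.1 (h.E_ne_x hy) s
      have hpx : p ≠ x := by
        rintro rfl
        exact hs hps
      obtain ⟨a, rfl⟩ := hℓ.toLab.surj y hy p hp hpx
      have h2 : C c (w (ℓ y a)) s := by
        have := haut.1.C.2 hps
        rwa [h1] at this
      rw [h.dl_spec hℓ hw hy] at h2
      have h3 := h.uniq hy.1 (h.E_ne_x hy) (hℓ.toLab.mem y hy _) (hℓ.toLab.mem y hy _) (Pol.mem_left h.toPol x y)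
        hs h2 hps
      have h4 := hℓ.toLab.inj y hy _ _ h3
      exact add_eq_left.1 h4
    · obtain ⟨δ, hd0, hd1⟩ := h.W_trans hℓ hw
      have e1 : h.dl ℓ w = δ := h.dl_of hℓ hd0 (fun y hy => by rw [hd1 y hy, zero_add])
      rw [e1]
      exact hd0 y hy
  exact h.aut_eq_one haut.1 hs (h.fix_perp hℓ hw h0) h1

/-- `x` as an element of `W` -/
theorem tpx_eq {v : X} (hv : v ∈ h.E) {a b : K4} (ha : a ≠ 0) (hb : b ≠ 0) (hab : a ≠ b) :
    tp h.toFis x = h.pp ℓ v a * (tp h.toFis (ℓ v b) * tp h.toFis (ℓ v (a + b))) := by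
  ext u
  have kk : ∀ a b : K4, a ≠ 0 → b ≠ 0 → a ≠ b → (0 : K4) ≠ a + b ∧ a ≠ a + b ∧ b ≠ a + b := by decide +kernel
  obtain ⟨k1, k2, k3⟩ := kk a b ha hb hab
  exact (h.prod4 hℓ hv ha.symm hb.symm k1 hab k2 k3 u).symm

theorem tp_mul_tp {v : X} (hv : v ∈ h.E) (a b : K4) :
    tp h.toFis (ℓ v a) * tp h.toFis (ℓ v b) = h.pp ℓ v a * h.pp ℓ v b := by
  ext u
  show c (ℓ v a) (c (ℓ v b) u) = c (ℓ v 0) (c (ℓ v a) (c (ℓ v 0) (c (ℓ v b) u)))
  rw [h.swap (hℓ.toLab.cc hv a 0) (c (ℓ v b) u), h.inv]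

theorem tpx_mem : tp h.toFis x ∈ h.W ℓ := by
  obtain ⟨v, hv⟩ := h.E_nonempty
  have kk : ∃ a b : K4, a ≠ 0 ∧ b ≠ 0 ∧ a ≠ b := by decide +kernel
  obtain ⟨a, b, ha, hb, hab⟩ := kk
  rw [h.tpx_eq hℓ hv ha hb hab, h.tp_mul_tp hℓ hv]
  exact (h.W ℓ).mul_mem (h.pp_mem hv _) ((h.W ℓ).mul_mem (h.pp_mem hv _) (h.pp_mem hv _))

theorem dl_tpx : h.dl ℓ (tp h.toFis x) = 0 := by
  apply h.dl_of hℓ (fun _ _ => rfl)
  intro y hy
  exact hℓ.toLab.cx hy 0

theorem tpx_ne : tp h.toFis x ≠ 1 := by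
  intro e
  apply h.xz
  have : tp h.toFis x z = (1 : Equiv.Perm X) z := by rw [e]
  exact this

/-- `tp x` commutes with `W` -/
theorem tpx_comm {w : Equiv.Perm X} (hw : w ∈ h.W ℓ) : w * tp h.toFis x = tp h.toFis x * w := by
  obtain ⟨h1, h2⟩ := h.W_aut hℓ hw
  have e1 := IsAut.conj h.toFis h1 x
  rw [h2] at e1
  calc w * tp h.toFis x = (w * tp h.toFis x * w⁻¹) * w := by group
    _ = _ := by rw [e1]

/-- transitivity -/
theorem W_transitive {s : X} (hs : ¬ C c x s) : ∃ w ∈ h.W ℓ, w z = s := by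
  refine h.tr s hs {u | ∃ w ∈ h.W ℓ, w z = u} ⟨1, (h.W ℓ).one_mem, rfl⟩ ?_
  rintro y hy u ⟨w, hw, rfl⟩
  obtain ⟨h1, h2⟩ := h.W_aut hℓ hw
  -- c y (w z) = w (c (w⁻¹ y) z)
  have hw' : w⁻¹ ∈ h.W ℓ := (h.W ℓ).inv_mem hw
  obtain ⟨h1', h2'⟩ := h.W_aut hℓ hw'
  have e1 : c y (w z) = w (c (w⁻¹ y) z) := by rw [h1, aps]
  have hxy' : C c x (w⁻¹ y) := by
    have := h1'.C.2 hy
    rwa [h2'] at this
  by_cases hyx : w⁻¹ y = x
  · refine ⟨w * tp h.toFis x, (h.W ℓ).mul_mem hw (h.tpx_mem hℓ), ?_⟩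
    rw [e1, hyx]
    rfl
  · obtain ⟨v, hv, a, hva⟩ := h.perp_form hℓ hxy' hyx
    refine ⟨w * h.pp ℓ v a, (h.W ℓ).mul_mem hw (h.pp_mem hv a), ?_⟩
    rw [e1, hva]
    show w (c (ℓ v 0) (c (ℓ v a) z)) = w (c (ℓ v a) z)
    congr 1
    rw [h.swap (hℓ.toLab.cc hv 0 a), hℓ.toLab.zero v hv, show c v z = z from h.C_symm hv.2]

/-- the isotropic elements -/
theorem comm_form {w : Equiv.Perm X} (hw : w ∈ h.W ℓ) (hw1 : w ≠ 1) (hC : C c z (w z)) :
    ∃ y ∈ h.E, ∃ a : K4, a ≠ 0 ∧ w = h.pp ℓ y a * tp h.toFis x := by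
  classical
  have hzz : z ≠ w z := fun e => hw1 (h.semireg hℓ hw h.xz e.symm)
  obtain ⟨h1, h2⟩ := h.W_aut hℓ hw
  have hxwz : ¬ C c x (w z) := by
    intro e
    apply h.xz
    have : C c (w x) (w z) := by rw [h2]; exact e
    exact h1.C.1 this
  obtain ⟨y, hy, hyx⟩ := h.polar hC hzz x
  have hyE : y ∈ h.E := ⟨h.C_symm hyx, (h.L_comm_base hC hy).1⟩
  have hyz : y ≠ z := by
    rintro rfl
    exact h.xz (h.C_symm hyx)
  have hywz : y ≠ w z := by
    intro e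
    rw [e] at hyx
    exact hxwz (h.C_symm hyx)
  have hzy : C c z y := hyE.2
  have hL : L c y z = L c z (w z) := h.L_eq hC hzz hy (Pol.mem_left h.toPol z (w z)) hyz
  -- the map a ↦ (pp y a * tp x) z
  have hm : ∀ a : K4, a ≠ 0 → (h.pp ℓ y a * tp h.toFis x) z ∈ L c y z \ {y, z} := by
    intro a ha
    have e1 : (h.pp ℓ y a * tp h.toFis x) z = c (ℓ y a) (c x z) := by
      show c (ℓ y 0) (c (ℓ y a) (c x z)) = _
      rw [h.swap (hℓ.toLab.cc hyE 0 a), h.swap (h.C_symm (hℓ.toLab.cx hyE 0)), hℓ.toLab.zero y hyE,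
        show c y z = z from h.C_symm hzy]
    rw [e1]
    have hya : y ≠ ℓ y a := by
      intro e
      apply ha
      apply hℓ.toLab.inj y hyE
      rw [← e, hℓ.toLab.zero y hyE]
    have n1 : ¬ C c (ℓ y a) z := by
      intro e
      exact hya (h.uniq hyE.1 (h.E_ne_x hyE) (Pol.mem_right h.toPol x y) (hℓ.toLab.mem y hyE a)
        (Pol.mem_left h.toPol x y) h.xz (h.C_symm hzy) e)
    refine ⟨?_, ?_⟩
    · exact h.E_lemma hyE.1 (h.E_ne_x hyE) (Pol.mem_right h.toPol x y) (hℓ.toLab.mem y hyE a)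
        (Pol.mem_left h.toPol x y) hya (h.E_ne_x hyE).symm (h.C_symm hzy)
    · rintro (e | e)
      · exact h.E_ne hyE.1 (h.E_ne_x hyE) (Pol.mem_right h.toPol x y) (hℓ.toLab.mem y hyE a)
          (Pol.mem_left h.toPol x y) hyz e.symm
      · have e' : c (ℓ y a) (c x z) = z := e
        have e2 : c x z = c (ℓ y a) z := by rw [← h.inv (ℓ y a) (c x z), e']
        exact h.conj_ne h.xz n1 (hℓ.toLab.ne y hyE a).symm e2
  -- surjectivity by counting
  have hcard : (L c y z \ {y, z}).ncard = 3 := by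
    have h5 := h.five y z hyz (h.C_symm hzy)
    have h6 := Set.ncard_diff_add_ncard_of_subset (s := {y, z}) (t := L c y z) (by
      rintro u (rfl | rfl)
      · exact Pol.mem_left h.toPol _ _
      · exact Pol.mem_right h.toPol _ _) (Set.toFinite _)
    rw [Set.ncard_pair hyz] at h6
    omega
  let F : {a : K4 // a ≠ 0} → (L c y z \ {y, z} : Set X) := fun a => ⟨(h.pp ℓ y a * tp h.toFis x) z, hm a a.2⟩
  have hFinj : Function.Injective F := by
    intro a b hab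
    have h3 : (h.pp ℓ y a * tp h.toFis x) z = (h.pp ℓ y b * tp h.toFis x) z := congrArg Subtype.val hab
    have h4 : (h.pp ℓ y b * tp h.toFis x)⁻¹ * (h.pp ℓ y a * tp h.toFis x) = 1 := by
      refine h.semireg hℓ ?_ h.xz ?_
      · exact (h.W ℓ).mul_mem ((h.W ℓ).inv_mem ((h.W ℓ).mul_mem (h.pp_mem hyE _) (h.tpx_mem hℓ)))
          ((h.W ℓ).mul_mem (h.pp_mem hyE _) (h.tpx_mem hℓ))
      · show (h.pp ℓ y b * tp h.toFis x)⁻¹ ((h.pp ℓ y a * tp h.toFis x) z) = z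
        rw [h3]
        exact Equiv.symm_apply_apply _ _
    have h5 : h.pp ℓ y a = h.pp ℓ y b := by
      have := (inv_mul_eq_one.1 h4)
      exact (mul_right_cancel this).symm
    obtain ⟨t, ht, hyt⟩ := h.E_nc hyE
    have h6 := congrFun (congrArg (h.dl ℓ) h5) t
    rw [h.dl_pp hℓ hyE, h.dl_pp hℓ hyE] at h6
    exact Subtype.ext (mul_left_cancel₀ (hℓ.ne0 y hyE t ht hyt) h6)
  haveI : Finite (L c y z \ {y, z} : Set X) := Set.toFinite _
  have hFsurj : Function.Surjective F := by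
    haveI : Fintype (L c y z \ {y, z} : Set X) := Fintype.ofFinite _
    have hc : Fintype.card {a : K4 // a ≠ 0} = Fintype.card (L c y z \ {y, z} : Set X) := by
      rw [← Nat.card_eq_fintype_card (α := (L c y z \ {y, z} : Set X)), Nat.card_coe_set_eq, hcard]
      decide +kernel
    exact ((Fintype.bijective_iff_injective_and_card F).2 ⟨hFinj, hc⟩).2
  have hwz : w z ∈ L c y z \ {y, z} := by
    refine ⟨?_, ?_⟩
    · rw [hL]; exact Pol.mem_right h.toPol z (w z)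
    · rintro (e | e)
      · exact hywz e.symm
      · exact hzz (Eq.symm e)
  obtain ⟨⟨a, ha⟩, hFa⟩ := hFsurj ⟨w z, hwz⟩
  refine ⟨y, hyE, a, ha, ?_⟩
  have h3 : (h.pp ℓ y a * tp h.toFis x) z = w z := congrArg Subtype.val hFa
  have h4 : (h.pp ℓ y a * tp h.toFis x)⁻¹ * w = 1 := by
    refine h.semireg hℓ ?_ h.xz ?_
    · exact (h.W ℓ).mul_mem ((h.W ℓ).inv_mem ((h.W ℓ).mul_mem (h.pp_mem hyE _) (h.tpx_mem hℓ))) hw
    · show (h.pp ℓ y a * tp h.toFis x)⁻¹ (w z) = z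
      rw [← h3]
      exact Equiv.symm_apply_apply _ _
  exact (inv_mul_eq_one.1 h4).symm

end Uni

end Cfsg.Agent.Lib.FsPol
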