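import Cfsg.Agent.Lib.FsUniC42

/-!
# Abstract Fischer spaces with polar lines, unitary part D (helper42): the form
-/

set_option autoImplicit false
set_option linter.all false

namespace Cfsg.Agent.Lib.FsPol

open Cfsg.Agent.Lib.K4 (K4)
open scoped BigOperators

theorem k_tr : ∀ b : K4, b + b * b = 0 ∨ b + b * b = 1 := by decide +kernel

section form

variable {X : Type*} [Fintype X] (Γ : X → X → K4)

theorem k_sq_sum {ι : Type*} (s : Finset ι) (f : ι → K4) : (∑ i ∈ s, f i) * (∑ i ∈ s, f i) = ∑ i ∈ s, f i * f i := by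
  classical
  induction s using Finset.induction_on with
  | empty => simp
  | insert a s ha ih => rw [Finset.sum_insert ha, Finset.sum_insert ha, k_sq_add, ih]

/-- the linear map given by `Γ` -/
def Mg : (X → K4) →ₗ[K4] (X → K4) where
  toFun f := fun y => ∑ v, Γ y v * f v
  map_add' f g := by
    funext y
    simp only [Pi.add_apply, mul_add, Finset.sum_add_distrib]
  map_smul' a f := by
    funext y
    simp only [Pi.smul_apply, smul_eq_mul, RingHom.id_apply, Finset.mul_sum]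
    refine Finset.sum_congr rfl fun v _ => ?_
    ring

theorem Mg_apply (f : X → K4) (y : X) : Mg Γ f y = ∑ v, Γ y v * f v := rfl

theorem Mg_single [DecidableEq X] (v : X) (b : K4) : Mg Γ (Pi.single v b) = fun y => Γ y v * b := by
  funext y
  rw [Mg_apply, Finset.sum_eq_single v]
  · rw [Pi.single_eq_same]
  · intro u _ hu
    rw [Pi.single_eq_of_ne hu, mul_zero]
  · intro hv
    exact absurd (Finset.mem_univ v) hv

/-- the column space -/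
abbrev Vs : Submodule K4 (X → K4) := LinearMap.range (Mg Γ)

/-- the form -/
noncomputable def hV (u w : Vs Γ) : K4 := ∑ y, u.1 y * (Classical.choose w.2 y * Classical.choose w.2 y)

variable {Γ} (hG : ∀ y v, Γ y v = Γ v y * Γ v y)

theorem hV_add (u v w : Vs Γ) : hV Γ (u + v) w = hV Γ u w + hV Γ v w := by
  unfold hV
  rw [← Finset.sum_add_distrib]
  refine Finset.sum_congr rfl fun y _ => ?_
  show (u.1 y + v.1 y) * _ = _
  ring

theorem hV_smul (a : K4) (u w : Vs Γ) : hV Γ (a • u) w = a * hV Γ u w := by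
  unfold hV
  rw [Finset.mul_sum]
  refine Finset.sum_congr rfl fun y _ => ?_
  show (a * u.1 y) * _ = _
  ring

include hG

theorem hV_eq (u w : Vs Γ) (f : X → K4) (hf : Mg Γ f = u.1) : hV Γ u w = ∑ v, f v * (w.1 v * w.1 v) := by
  have hg : Mg Γ (Classical.choose w.2) = w.1 := Classical.choose_spec w.2
  unfold hV
  generalize Classical.choose w.2 = g at hg ⊢
  rw [← hf, ← hg]
  simp only [Mg_apply, k_sq_sum]
  simp only [Finset.sum_mul, Finset.mul_sum]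
  rw [Finset.sum_comm]
  refine Finset.sum_congr rfl fun v _ => Finset.sum_congr rfl fun y _ => ?_
  rw [hG y v]
  ring

theorem hV_herm (u w : Vs Γ) : hV Γ w u = hV Γ u w * hV Γ u w := by
  have hf : Mg Γ (Classical.choose u.2) = u.1 := Classical.choose_spec u.2
  rw [hV_eq hG u w _ hf, k_sq_sum]
  unfold hV
  refine Finset.sum_congr rfl fun y _ => ?_
  have := k_sq_sq (w.1 y)
  calc w.1 y * (Classical.choose u.2 y * Classical.choose u.2 y) =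
      ((w.1 y * w.1 y) * (w.1 y * w.1 y)) * (Classical.choose u.2 y * Classical.choose u.2 y) := by rw [this]
    _ = _ := by ring

theorem hV_col_left (v : X) (b : K4) (w u : Vs Γ) (hw : w.1 = fun y => Γ y v * b) : hV Γ w u = b * (u.1 v * u.1 v) := by
  classical
  rw [hV_eq hG w u (Pi.single v b) (by rw [Mg_single, hw]), Finset.sum_eq_single v]
  · rw [Pi.single_eq_same]
  · intro u _ hu
    rw [Pi.single_eq_of_ne hu, zero_mul]
  · intro hv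
    exact absurd (Finset.mem_univ v) hv

theorem hV_col_right (v : X) (b : K4) (w u : Vs Γ) (hw : w.1 = fun y => Γ y v * b) : hV Γ u w = u.1 v * (b * b) := by
  rw [hV_herm hG w u, hV_col_left hG v b w u hw]
  have := k_sq_sq (u.1 v)
  calc b * (u.1 v * u.1 v) * (b * (u.1 v * u.1 v)) = ((u.1 v * u.1 v) * (u.1 v * u.1 v)) * (b * b) := by ring
    _ = _ := by rw [this]

theorem hV_add_right (u v w : Vs Γ) : hV Γ u (v + w) = hV Γ u v + hV Γ u w := by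
  rw [hV_herm hG (v + w) u, hV_add, k_sq_add, ← hV_herm hG v u, ← hV_herm hG w u]

theorem hV_nondeg (u : Vs Γ) (hu : ∀ w, hV Γ u w = 0) : u = 0 := by
  classical
  apply Subtype.ext
  funext v
  have h1 := hu ⟨Mg Γ (Pi.single v 1), LinearMap.mem_range_self _ _⟩
  rw [hV_col_right hG v 1 _ u (Mg_single Γ v 1)] at h1
  simpa using h1

end form

variable {X : Type*} {c : X → X → X}

namespace Uni

variable {x z : X}

/-- exponents -/
def xp [Finite X] (h : Uni c x z) (e : K4) : Equiv.Perm X := if e = 0 then 1 else tp h.toFis x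

section
variable [Finite X] (h : Uni c x z)
include h

theorem xp_zero : h.xp 0 = 1 := if_pos rfl

theorem xp_one : h.xp 1 = tp h.toFis x := if_neg one_ne_zero

theorem xp_add {e e' : K4} (he : e = 0 ∨ e = 1) (he' : e' = 0 ∨ e' = 1) : h.xp (e + e') = h.xp e * h.xp e' := by
  rcases he with rfl | rfl <;> rcases he' with rfl | rfl
  · rw [add_zero, xp_zero, one_mul]
  · rw [zero_add, xp_zero, one_mul]
  · rw [add_zero, xp_zero, mul_one]
  · rw [k_add_self, xp_zero, xp_one, tp_sq]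

variable {ℓ : X → K4 → X} {Γ : X → X → K4} (hℓ : h.OLab ℓ Γ)
include hℓ

theorem xp_mem (e : K4) : h.xp e ∈ h.W ℓ := by
  unfold xp
  split_ifs
  · exact (h.W ℓ).one_mem
  · exact h.tpx_mem hℓ

theorem xp_comm {w : Equiv.Perm X} (hw : w ∈ h.W ℓ) (e : K4) : w * h.xp e = h.xp e * w := by
  unfold xp
  split_ifs
  · rw [mul_one, one_mul]
  · exact h.tpx_comm hℓ hw

theorem pp_sq {v : X} (hv : v ∈ h.E) (a : K4) : h.pp ℓ v a * h.pp ℓ v a = 1 := by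
  have h3 := mul_inv_cancel (h.pp ℓ v a)
  rwa [h.pp_inv hℓ hv a] at h3

/-- two of the points other than `x` -/
theorem tp_pair {v : X} (hv : v ∈ h.E) {a b : K4} (ha : a ≠ 0) (hb : b ≠ 0) (hab : a ≠ b) :
    tp h.toFis (ℓ v b) * tp h.toFis (ℓ v (a + b)) = h.pp ℓ v a * tp h.toFis x := by
  rw [h.tpx_eq hℓ hv ha hb hab, ← mul_assoc, h.pp_sq hℓ hv, one_mul]

theorem W_conj {w : Equiv.Perm X} (hw : w ∈ h.W ℓ) {v : X} (hv : v ∈ h.E) (a : K4) :
    w * h.pp ℓ v a * w⁻¹ = h.pp ℓ v a *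
      h.xp (h.dl ℓ w v * (a * a) + (h.dl ℓ w v * (a * a)) * (h.dl ℓ w v * (a * a))) := by
  by_cases ha : a = 0
  · subst ha
    rw [pp_zero, mul_zero, mul_zero, mul_zero, add_zero, xp_zero, mul_one, mul_one, mul_inv_cancel]
  have e1 : w * h.pp ℓ v a * w⁻¹ = tp h.toFis (ℓ v (0 + h.dl ℓ w v)) * tp h.toFis (ℓ v (a + h.dl ℓ w v)) := by
    rw [← h.dl_spec hℓ hw hv, ← h.dl_spec hℓ hw hv, ← IsAut.conj h.toFis (h.W_aut hℓ hw).1,
      ← IsAut.conj h.toFis (h.W_aut hℓ hw).1]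
    unfold pp
    group
  rw [e1, zero_add]
  generalize h.dl ℓ w v = δ
  by_cases hδ : δ = 0
  · subst hδ
    rw [add_zero, zero_mul, zero_mul, add_zero, xp_zero, mul_one]
    rfl
  by_cases hδa : δ = a
  · subst hδa
    have k1 : ∀ δ : K4, δ * (δ * δ) + (δ * (δ * δ)) * (δ * (δ * δ)) = 0 := by decide +kernel
    rw [k1, k_add_self, xp_zero, mul_one]
    ext u
    exact h.swap (hℓ.toLab.cc hv δ 0) u
  · have k1 : ∀ δ a : K4, a ≠ 0 → δ ≠ 0 → δ ≠ a → δ * (a * a) + (δ * (a * a)) * (δ * (a * a)) = 1 := by decide +kernel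
    rw [k1 δ a ha hδ hδa, xp_one]
    exact h.tp_pair hℓ hv ha hδ (Ne.symm hδa)

/-- if `w² = 1`, then `w` is one of the obvious elements -/
theorem iso_form {w : Equiv.Perm X} (hw : w ∈ h.W ℓ) (hw1 : w ≠ 1) (hwx : w ≠ tp h.toFis x) (hww : w * w = 1) :
    ∃ y ∈ h.E, ∃ a : K4, a ≠ 0 ∧ (w = h.pp ℓ y a * tp h.toFis x ∨ w = h.pp ℓ y a) := by
  by_cases hC : C c z (w z)
  · obtain ⟨y, hy, a, ha, h1⟩ := h.comm_form hℓ hw hw1 hC
    exact ⟨y, hy, a, ha, Or.inl h1⟩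
  obtain ⟨haut, hxw⟩ := h.W_aut hℓ hw
  have hwwz : w (w z) = z := congrArg (fun g : Equiv.Perm X => g z) hww
  have hs : w (c z (w z)) = c z (w z) := by
    rw [haut, hwwz, h.nc z (w z) hC]
  have hxs : C c x (c z (w z)) := by
    by_contra hcon
    exact hw1 (h.semireg hℓ hw hcon hs)
  by_cases hsx : c z (w z) = x
  · exfalso
    apply hwx
    have e1 : w z = c x z := by
      rw [← hsx]
      exact (h.third1 hC).symm
    have e2 : w * tp h.toFis x = 1 := by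
      refine h.semireg hℓ ((h.W ℓ).mul_mem hw (h.tpx_mem hℓ)) h.xz ?_
      show w (c x z) = z
      rw [← e1, hwwz]
    calc w = w * tp h.toFis x * tp h.toFis x := by rw [mul_assoc, tp_sq, mul_one]
      _ = tp h.toFis x := by rw [e2, one_mul]
  have n1 : ¬ C c (c z (w z)) z := fun e => h.nc_third hC (h.C_symm e)
  have h2 := h.S4b hxs h.xz n1
  rw [h.third1 hC] at h2
  -- C (c x z) (w z)
  have h3 : C c z ((w * tp h.toFis x) z) := by
    show C c z (w (c x z))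
    rw [haut, hxw, h.C_conj'']
    exact h2
  have hne : w * tp h.toFis x ≠ 1 := by
    intro e
    apply hwx
    calc w = w * tp h.toFis x * tp h.toFis x := by rw [mul_assoc, tp_sq, mul_one]
      _ = tp h.toFis x := by rw [e, one_mul]
  obtain ⟨y, hy, a, ha, h4⟩ := h.comm_form hℓ ((h.W ℓ).mul_mem hw (h.tpx_mem hℓ)) hne h3
  refine ⟨y, hy, a, ha, Or.inr ?_⟩
  exact mul_right_cancel h4

omit hℓ in
/-- the points `ℓ y a`, `a ≠ 0`, do not commute with `z` -/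
theorem nc_z {ℓ : X → K4 → X} (hℓ : h.Lab ℓ) {y : X} (hy : y ∈ h.E) {a : K4} (ha : a ≠ 0) : ¬ C c (ℓ y a) z := by
  intro e
  have hya : y ≠ ℓ y a := by
    intro e
    apply ha
    apply hℓ.inj y hy
    rw [← e, hℓ.zero y hy]
  exact hya (h.uniq hy.1 (h.E_ne_x hy) (Pol.mem_right h.toPol x y) (hℓ.mem y hy a)
    (Pol.mem_left h.toPol x y) h.xz (h.C_symm hy.2) e)

theorem pp_z {y : X} (hy : y ∈ h.E) (a : K4) (u : X) (hu : C c y u) : h.pp ℓ y a u = c (ℓ y a) u := by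
  show c (ℓ y 0) (c (ℓ y a) u) = _
  rw [h.swap (hℓ.toLab.cc hy 0 a), hℓ.toLab.zero y hy, show c y u = u from hu]

theorem gg_z {y : X} (hy : y ∈ h.E) {a : K4} (ha : a ≠ 0) : C c z ((h.pp ℓ y a * tp h.toFis x) z) := by
  show C c z (h.pp ℓ y a (c x z))
  rw [h.pp_z hℓ hy a _ (h.C_third (h.C_symm hy.1) (h.C_symm hy.2))]
  exact h.S4a (h.C_symm (hℓ.toLab.cx hy a)) (h.nc_z hℓ.toLab hy ha) h.xz

/-- same line -/
theorem rel_same {y : X} (hy : y ∈ h.E) {a b : K4} (ha : a ≠ 0) (hb : b ≠ 0) :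
    C c z ((h.pp ℓ y a * h.pp ℓ y b) z) := by
  by_cases hab : a = b
  · subst hab
    rw [h.pp_sq hℓ hy]
    exact h.C_self z
  · rw [← h.tp_mul_tp hℓ hy]
    have kk : ∀ a b : K4, a ≠ b → a + b ≠ 0 := by decide +kernel
    have kk2 : ∀ a b : K4, b ≠ 0 → a + b ≠ a := by decide +kernel
    have kk3 : ∀ a b : K4, a + b + a = b := by decide +kernel
    have h1 := h.tp_pair hℓ hy (kk a b hab) ha (kk2 a b hb)
    rw [kk3] at h1
    rw [h1]
    exact h.gg_z hℓ hy (kk a b hab)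

/-- commuting lines -/
theorem rel_comm {y t : X} (hy : y ∈ h.E) (ht : t ∈ h.E) (hyt : C c y t) {a b : K4} (ha : a ≠ 0) (hb : b ≠ 0) :
    C c z ((h.pp ℓ y a * h.pp ℓ t b) z) := by
  show C c z (h.pp ℓ y a (h.pp ℓ t b z))
  rw [h.pp_z hℓ ht b z (h.C_symm ht.2)]
  have h1 : C c y (c (ℓ t b) z) := by
    refine h.C_third ?_ (h.C_symm hy.2)
    have h2 := (hℓ.toLab.tw2 hy ht 0 b).2 hyt
    rwa [hℓ.toLab.zero y hy] at h2
  rw [h.pp_z hℓ hy a _ h1]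
  exact h.S4a ((hℓ.toLab.tw2 hy ht a b).2 hyt) (h.nc_z hℓ.toLab hy ha) (h.nc_z hℓ.toLab ht hb)

/-- non-commuting lines -/
theorem rel_nc {y t : X} (hy : y ∈ h.E) (ht : t ∈ h.E) (hyt : ¬ C c y t) {a b : K4} (ha : a ≠ 0)
    (hb : Γ t y * a = b) : C c z ((h.pp ℓ y a * h.pp ℓ t b * tp h.toFis x) z) := by
  have hty : ¬ C c t y := fun e => hyt (h.C_symm e)
  have hP := h.W_aut hℓ (h.pp_mem hy a)
  -- P t P⁻¹ = ℓ t b
  have h1 : h.pp ℓ y a * tp h.toFis (ℓ t b) * (h.pp ℓ y a)⁻¹ = tp h.toFis (ℓ t 0) := by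
    rw [IsAut.conj h.toFis hP.1, h.pp_trans hℓ hy a ht, hb, k_add_self]
  have h2 : h.pp ℓ y a * h.pp ℓ t b = tp h.toFis t * h.pp ℓ y a * (tp h.toFis t)⁻¹ := by
    have e1 : h.pp ℓ y a * tp h.toFis (ℓ t b) = tp h.toFis (ℓ t 0) * h.pp ℓ y a := by
      rw [← h1]; group
    have e2 : h.pp ℓ t b = tp h.toFis (ℓ t b) * tp h.toFis (ℓ t 0) := by
      ext u
      exact h.swap (hℓ.toLab.cc ht 0 b) u
    rw [e2, ← mul_assoc, e1, hℓ.toLab.zero t ht, tp_inv]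
  have h3 : c t y ∈ h.E := h.E_closed ht hy
  have h4 : c t (ℓ y a) ∈ L c x (c t y) := by
    have := (h.L_conj t x y (ℓ y a)).2 (hℓ.toLab.mem y hy a)
    rwa [show c t x = x from h.C_symm ht.1] at this
  have h5 : c t (ℓ y a) ≠ x := by
    intro e
    apply hℓ.toLab.ne y hy a
    rw [← h.inv t (ℓ y a), e]
    exact h.C_symm ht.1
  obtain ⟨b', hb'⟩ := hℓ.toLab.surj _ h3 _ h4 h5
  have hb'0 : b' ≠ 0 := by
    rintro rfl
    rw [hℓ.toLab.zero _ h3] at hb'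
    have e1 := h.inj hb'
    exact ha (hℓ.toLab.inj y hy _ _ (by rw [e1, hℓ.toLab.zero y hy]))
  have h6 : tp h.toFis t * h.pp ℓ y a * (tp h.toFis t)⁻¹ = h.pp ℓ (c t y) b' := by
    have e1 : tp h.toFis t * h.pp ℓ y a * (tp h.toFis t)⁻¹ =
        (tp h.toFis t * tp h.toFis (ℓ y 0) * (tp h.toFis t)⁻¹) * (tp h.toFis t * tp h.toFis (ℓ y a) * (tp h.toFis t)⁻¹) := by
      unfold pp
      group
    rw [e1, IsAut.conj h.toFis (IsAut.tp h.toFis t), IsAut.conj h.toFis (IsAut.tp h.toFis t)]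
    show tp h.toFis (c t (ℓ y 0)) * tp h.toFis (c t (ℓ y a)) = _
    rw [hb', hℓ.toLab.zero y hy]
    show _ = tp h.toFis (ℓ (c t y) 0) * tp h.toFis (ℓ (c t y) b')
    rw [hℓ.toLab.zero _ h3]
  rw [h2, h6]
  exact h.gg_z hℓ h3 hb'0

end

section
variable [Fintype X] (h : Uni c x z) {ℓ : X → K4 → X} {Γ : X → X → K4} (hℓ : h.OLab ℓ Γ)
include h hℓ

theorem dl_mem {w : Equiv.Perm X} (hw : w ∈ h.W ℓ) : h.dl ℓ w ∈ Vs Γ := by
  classical
  induction hw using Subgroup.closure_induction with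
  | mem g hg =>
    obtain ⟨v, hv, b, rfl⟩ := hg
    rw [h.dl_pp hℓ hv, ← Mg_single]
    exact LinearMap.mem_range_self _ _
  | one =>
    rw [h.dl_one hℓ]
    exact (Vs Γ).zero_mem
  | mul g g' hg hg' h1 h2 =>
    rw [h.dl_mul hℓ hg hg']
    exact (Vs Γ).add_mem h1 h2
  | inv g hg h1 =>
    rw [h.dl_inv hℓ hg]
    exact h1

theorem dl_surj (u : X → K4) (hu : u ∈ Vs Γ) : ∃ w ∈ h.W ℓ, h.dl ℓ w = u := by
  classical
  obtain ⟨f, rfl⟩ := hu
  have h1 : Mg Γ f = ∑ v, (fun y => Γ y v * f v) := by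
    funext y
    rw [Mg_apply, Finset.sum_apply]
  rw [h1]
  refine Finset.sum_induction _ (fun u => ∃ w ∈ h.W ℓ, h.dl ℓ w = u) ?_ ⟨1, (h.W ℓ).one_mem, h.dl_one hℓ⟩ ?_
  · rintro u u' ⟨w, hw, rfl⟩ ⟨w', hw', rfl⟩
    exact ⟨w * w', (h.W ℓ).mul_mem hw hw', h.dl_mul hℓ hw hw'⟩
  · intro v _
    by_cases hv : v ∈ h.E
    · exact ⟨h.pp ℓ v (f v), h.pp_mem hv _, h.dl_pp hℓ hv _⟩
    · refine ⟨1, (h.W ℓ).one_mem, ?_⟩
      rw [h.dl_one hℓ]
      funext y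
      show 0 = Γ y v * f v
      rw [hℓ.comm v y (fun e => hv e.1), zero_mul]

/-- the translation part as a member of the column space -/
noncomputable def dV (h : Uni c x z) (hℓ : h.OLab ℓ Γ) (w : h.W ℓ) : Vs Γ := ⟨h.dl ℓ w.1, h.dl_mem hℓ w.2⟩

theorem dV_mul (w w' : h.W ℓ) : h.dV hℓ (w * w') = h.dV hℓ w + h.dV hℓ w' :=
  Subtype.ext (h.dl_mul hℓ w.2 w'.2)

theorem dV_one : h.dV hℓ 1 = 0 := Subtype.ext (h.dl_one hℓ)

theorem dV_tpx : h.dV hℓ ⟨tp h.toFis x, h.tpx_mem hℓ⟩ = 0 := Subtype.ext (h.dl_tpx hℓ)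

theorem dV_inv (w : h.W ℓ) : h.dV hℓ w⁻¹ = h.dV hℓ w := Subtype.ext (h.dl_inv hℓ w.2)

theorem dV_surj (u : Vs Γ) : ∃ w : h.W ℓ, h.dV hℓ w = u := by
  obtain ⟨w, hw, h1⟩ := h.dl_surj hℓ u.1 u.2
  exact ⟨⟨w, hw⟩, Subtype.ext h1⟩

theorem hV_self (u : Vs Γ) : hV Γ u u = 0 ∨ hV Γ u u = 1 := by
  have h1 := hV_herm hℓ.herm u u
  have kk : ∀ a : K4, a = a * a → a = 0 ∨ a = 1 := by decide +kernel
  exact kk _ h1

theorem sq_step {w : Equiv.Perm X} (hw : w ∈ h.W ℓ) {v : X} (hv : v ∈ h.E) (a : K4)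
    (ih : w * w = h.xp (hV Γ (h.dV hℓ ⟨w, hw⟩) (h.dV hℓ ⟨w, hw⟩)))
    (hwp : w * h.pp ℓ v a ∈ h.W ℓ) :
    (w * h.pp ℓ v a) * (w * h.pp ℓ v a) =
      h.xp (hV Γ (h.dV hℓ ⟨w * h.pp ℓ v a, hwp⟩) (h.dV hℓ ⟨w * h.pp ℓ v a, hwp⟩)) := by
  have hp := h.pp_mem (ℓ := ℓ) hv a
  have e1 : h.dV hℓ ⟨w * h.pp ℓ v a, hwp⟩ = h.dV hℓ ⟨w, hw⟩ + h.dV hℓ ⟨_, hp⟩ := h.dV_mul hℓ ⟨w, hw⟩ ⟨_, hp⟩
  have e2 : (h.dV hℓ ⟨_, hp⟩).1 = fun y => Γ y v * a := h.dl_pp hℓ hv a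
  have hvv : Γ v v = 0 := hℓ.comm v v (fun e => e.2.2 (h.C_self v))
  rw [e1, hV_add, hV_add_right hℓ.herm, hV_add_right hℓ.herm, hV_col_left hℓ.herm v a _ _ e2,
    hV_col_left hℓ.herm v a _ _ e2, hV_col_right hℓ.herm v a _ _ e2]
  have e3 : (h.dV hℓ ⟨_, hp⟩).1 v = 0 := by rw [e2]; simp [hvv]
  have e4 : (h.dV hℓ ⟨w, hw⟩).1 v = h.dl ℓ w v := rfl
  rw [e3, e4, mul_zero, mul_zero, add_zero]
  have e5 : hV Γ (h.dV hℓ ⟨w, hw⟩) (h.dV hℓ ⟨w, hw⟩) + h.dl ℓ w v * (a * a) + a * (h.dl ℓ w v * h.dl ℓ w v) =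
      (h.dl ℓ w v * (a * a) + (h.dl ℓ w v * (a * a)) * (h.dl ℓ w v * (a * a))) +
        hV Γ (h.dV hℓ ⟨w, hw⟩) (h.dV hℓ ⟨w, hw⟩) := by
    have kk : ∀ d a : K4, a * (d * d) = (d * (a * a)) * (d * (a * a)) := by decide +kernel
    rw [kk (h.dl ℓ w v) a]
    ring
  rw [e5, h.xp_add (k_tr (h.dl ℓ w v * (a * a))) (h.hV_self hℓ _), ← ih]
  have e6 := h.W_conj hℓ hw hv a
  set t := h.dl ℓ w v * (a * a) + (h.dl ℓ w v * (a * a)) * (h.dl ℓ w v * (a * a)) with ht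
  have c1 : (w * w) * h.pp ℓ v a = h.pp ℓ v a * (w * w) := by rw [ih]; exact (h.xp_comm hℓ hp _).symm
  have c2 : h.xp t * h.pp ℓ v a = h.pp ℓ v a * h.xp t := (h.xp_comm hℓ hp t).symm
  calc (w * h.pp ℓ v a) * (w * h.pp ℓ v a) = (w * h.pp ℓ v a * w⁻¹) * ((w * w) * h.pp ℓ v a) := by group
    _ = h.pp ℓ v a * h.xp t * (h.pp ℓ v a * (w * w)) := by rw [e6, c1]
    _ = h.pp ℓ v a * (h.xp t * h.pp ℓ v a) * (w * w) := by simp only [mul_assoc]
    _ = h.pp ℓ v a * h.pp ℓ v a * h.xp t * (w * w) := by rw [c2]; simp only [mul_assoc]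
    _ = h.xp t * (w * w) := by rw [h.pp_sq hℓ hv, one_mul]

theorem W_sq {w : Equiv.Perm X} (hw : w ∈ h.W ℓ) :
    w * w = h.xp (hV Γ (h.dV hℓ ⟨w, hw⟩) (h.dV hℓ ⟨w, hw⟩)) := by
  induction hw using Subgroup.closure_induction_right with
  | one =>
    have e1 : h.dV hℓ ⟨1, (h.W ℓ).one_mem⟩ = 0 := h.dV_one hℓ
    have e2 : hV Γ (h.dV hℓ ⟨1, (h.W ℓ).one_mem⟩) (h.dV hℓ ⟨1, (h.W ℓ).one_mem⟩) = 0 := by
      rw [e1]
      have := hV_smul (0 : K4) (0 : Vs Γ) (0 : Vs Γ)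
      rwa [zero_smul, zero_mul] at this
    show (1 : Equiv.Perm X) * 1 = _
    rw [mul_one]
    exact (by rw [e2, xp_zero])
  | mul_right w hw p hp ih =>
    obtain ⟨v, hv, a, rfl⟩ := hp
    exact h.sq_step hℓ hw hv a ih _
  | mul_inv_cancel w hw p hp ih =>
    obtain ⟨v, hv, a, rfl⟩ := hp
    have key := h.sq_step hℓ hw hv a ih ((h.W ℓ).mul_mem hw (h.pp_mem hv a))
    have e : w * (h.pp ℓ v a)⁻¹ = w * h.pp ℓ v a := by rw [h.pp_inv hℓ hv]
    have e' : (⟨w * (h.pp ℓ v a)⁻¹, (h.W ℓ).mul_mem hw ((h.W ℓ).inv_mem (h.pp_mem hv a))⟩ : h.W ℓ) =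
        ⟨w * h.pp ℓ v a, (h.W ℓ).mul_mem hw (h.pp_mem hv a)⟩ := Subtype.ext e
    have goal' : w * (h.pp ℓ v a)⁻¹ * (w * (h.pp ℓ v a)⁻¹) =
        h.xp (hV Γ (h.dV hℓ ⟨w * (h.pp ℓ v a)⁻¹, (h.W ℓ).mul_mem hw ((h.W ℓ).inv_mem (h.pp_mem hv a))⟩)
          (h.dV hℓ ⟨w * (h.pp ℓ v a)⁻¹, (h.W ℓ).mul_mem hw ((h.W ℓ).inv_mem (h.pp_mem hv a))⟩)) := by
      rw [e', e]
      exact key
    exact goal'

end

end Uni

end Cfsg.Agent.Lib.FsPol
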