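import Cfsg.Agent.Lib.FsUniD42
import Cfsg.Agent.Lib.FisLam
import Cfsg.Agent.Lib.FisLemU

/-!
# Abstract Fischer spaces with polar lines, unitary part E (helper42): the quadratic function on `W`
-/

set_option autoImplicit false
set_option linter.all false

namespace Cfsg.Agent.Lib.FsPol

open Cfsg.Agent.Lib.K4 (K4)
open scoped BigOperators

/-- from `K4` to `ZMod 2` -/
def ph (a : K4) : ZMod 2 := if a = 0 then 0 else 1
/-- from `ZMod 2` to `K4` -/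
def ps (e : ZMod 2) : K4 := if e = 0 then 0 else 1

theorem ph_add : ∀ a b : K4, (a = 0 ∨ a = 1) → (b = 0 ∨ b = 1) → ph (a + b) = ph a + ph b := by
  rintro a b (rfl | rfl) (rfl | rfl)
  · rw [add_zero]; decide
  · rw [zero_add]; decide
  · rw [add_zero]; decide
  · rw [k_add_self]; decide

theorem ps_add : ∀ e e' : ZMod 2, ps (e + e') = ps e + ps e' := by
  intro e e'
  unfold ps
  have h2 : ∀ e : ZMod 2, e = 0 ∨ e = 1 := by decide
  rcases h2 e with rfl | rfl <;> rcases h2 e' with rfl | rfl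
  · simp
  · simp
  · simp
  · have : (1 : ZMod 2) + 1 = 0 := by decide
    rw [this, if_pos rfl, if_neg one_ne_zero, k_add_self]

theorem ps_ph {a : K4} (ha : a = 0 ∨ a = 1) : ps (ph a) = a := by
  rcases ha with rfl | rfl
  · unfold ps ph; simp
  · unfold ps ph; simp

theorem ps_tr (e : ZMod 2) : ps e + ps e * ps e = 0 := by
  unfold ps
  split_ifs
  · simp
  · rw [mul_one, k_add_self]

theorem k_tr01 : ∀ a : K4, a + a * a = 0 → a = 0 ∨ a = 1 := by decide +kernel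

variable {X : Type*} {c : X → X → X}

section form2
variable {X : Type*} [Fintype X] {Γ : X → X → K4} (hG : ∀ y v, Γ y v = Γ v y * Γ v y)

theorem hV_zero (w : Vs Γ) : hV Γ 0 w = 0 := by
  have := hV_smul (0 : K4) (0 : Vs Γ) w
  rwa [zero_smul, zero_mul] at this

include hG
theorem hV_zero' (w : Vs Γ) : hV Γ w 0 = 0 := by
  rw [hV_herm hG 0 w, hV_zero, mul_zero]

end form2

namespace Uni

variable {x z : X} [Fintype X] (h : Uni c x z) {ℓ : X → K4 → X} {Γ : X → X → K4} (hℓ : h.OLab ℓ Γ)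
include h hℓ

theorem col_ne {y : X} (hy : y ∈ h.E) {a : K4} (ha : a ≠ 0) : h.dl ℓ (h.pp ℓ y a) ≠ 0 := by
  intro e
  obtain ⟨t, ht, hyt⟩ := h.E_nc hy
  rw [h.dl_pp hℓ hy] at e
  exact mul_ne_zero (hℓ.ne0 y hy t ht hyt) ha (congrFun e t)

theorem dl_pp_tpx {y : X} (hy : y ∈ h.E) (a : K4) :
    h.dl ℓ (h.pp ℓ y a * tp h.toFis x) = h.dl ℓ (h.pp ℓ y a) := by
  rw [h.dl_mul hℓ (h.pp_mem hy a) (h.tpx_mem hℓ), h.dl_tpx hℓ, add_zero]

theorem ker_dV (w : h.W ℓ) (hw : h.dV hℓ w = 0) : w = 1 ∨ w = ⟨tp h.toFis x, h.tpx_mem hℓ⟩ := by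
  by_contra hcon
  push Not at hcon
  obtain ⟨h1, h2⟩ := hcon
  have h1' : w.1 ≠ 1 := fun e => h1 (Subtype.ext e)
  have h2' : w.1 ≠ tp h.toFis x := fun e => h2 (Subtype.ext e)
  have h3 : w.1 * w.1 = 1 := by
    have := h.W_sq hℓ w.2
    have e : h.dV hℓ ⟨w.1, w.2⟩ = 0 := hw
    rwa [e, hV_zero, xp_zero] at this
  have h4 : h.dl ℓ w.1 = 0 := congrArg Subtype.val hw
  obtain ⟨y, hy, a, ha, h5 | h5⟩ := h.iso_form hℓ w.2 h1' h2' h3
  · rw [h5, h.dl_pp_tpx hℓ hy] at h4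
    exact h.col_ne hℓ hy ha h4
  · rw [h5] at h4
    exact h.col_ne hℓ hy ha h4

/-- the distinguished lifts -/
theorem S_form {w : Equiv.Perm X} (hw : w ∈ h.W ℓ) (hC : C c z (w z)) :
    w = 1 ∨ ∃ y ∈ h.E, ∃ a : K4, a ≠ 0 ∧ w = h.pp ℓ y a * tp h.toFis x := by
  by_cases h1 : w = 1
  · exact Or.inl h1
  · exact Or.inr (h.comm_form hℓ hw h1 hC)

theorem S_sq {w : Equiv.Perm X} (hw : w ∈ h.W ℓ) (hC : C c z (w z)) : w * w = 1 := by
  rcases h.S_form hℓ hw hC with rfl | ⟨y, hy, a, ha, rfl⟩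
  · rw [mul_one]
  · calc h.pp ℓ y a * tp h.toFis x * (h.pp ℓ y a * tp h.toFis x) =
        h.pp ℓ y a * (tp h.toFis x * h.pp ℓ y a) * tp h.toFis x := by group
      _ = h.pp ℓ y a * (h.pp ℓ y a * tp h.toFis x) * tp h.toFis x := by rw [h.tpx_comm hℓ (h.pp_mem hy a)]
      _ = (h.pp ℓ y a * h.pp ℓ y a) * (tp h.toFis x * tp h.toFis x) := by group
      _ = 1 := by rw [h.pp_sq hℓ hy, tp_sq, mul_one]

theorem xp_eq_one {e : K4} (he : h.xp e = 1) : e = 0 := by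
  by_contra hcon
  unfold xp at he
  rw [if_neg hcon] at he
  exact h.tpx_ne hℓ he

theorem S_iso (w : h.W ℓ) (hC : C c z (w.1 z)) : hV Γ (h.dV hℓ w) (h.dV hℓ w) = 0 := by
  apply h.xp_eq_one hℓ
  have := h.W_sq hℓ w.2
  rw [h.S_sq hℓ w.2 hC] at this
  exact this.symm

theorem S_not {w : Equiv.Perm X} (hw : w ∈ h.W ℓ) (hC : C c z (w z)) : ¬ C c z ((w * tp h.toFis x) z) := by
  rcases h.S_form hℓ hw hC with rfl | ⟨y, hy, a, ha, rfl⟩
  · intro e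
    have e' : C c z (c x z) := e
    rw [h.nc x z h.xz] at e'
    exact h.nc_third (fun q => h.xz (h.C_symm q)) e'
  · intro e
    rw [mul_assoc, tp_sq, mul_one, h.pp_z hℓ hy a z (h.C_symm hy.2)] at e
    have n1 := h.nc_z hℓ.toLab hy ha
    rw [h.nc _ _ n1] at e
    exact h.nc_third (fun q => n1 (h.C_symm q)) e

theorem dV_eq {w w' : h.W ℓ} (hww : h.dV hℓ w = h.dV hℓ w') : w' = w ∨ w' = w * ⟨tp h.toFis x, h.tpx_mem hℓ⟩ := by
  have h1 : h.dV hℓ (w⁻¹ * w') = 0 := by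
    rw [h.dV_mul hℓ, h.dV_inv hℓ, hww]
    apply Subtype.ext
    funext y
    exact k_add_self _
  rcases h.ker_dV hℓ _ h1 with h2 | h2
  · left
    exact (inv_mul_eq_one.1 h2).symm
  · right
    rw [← h2]
    group

theorem S_uniq {w w' : h.W ℓ} (hww : h.dV hℓ w = h.dV hℓ w') (hC : C c z (w.1 z)) (hC' : C c z (w'.1 z)) : w' = w := by
  rcases h.dV_eq hℓ hww with h1 | h1
  · exact h1
  · exfalso
    rw [h1] at hC'
    exact h.S_not hℓ w.2 hC hC'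

theorem S_lift (u : Vs Γ) (hu : hV Γ u u = 0) : ∃ w : h.W ℓ, h.dV hℓ w = u ∧ C c z (w.1 z) := by
  obtain ⟨w, hw⟩ := h.dV_surj hℓ u
  by_cases h1 : w = 1
  · exact ⟨w, hw, by rw [h1]; exact h.C_self z⟩
  by_cases h2 : w = ⟨tp h.toFis x, h.tpx_mem hℓ⟩
  · refine ⟨1, ?_, h.C_self z⟩
    rw [← hw, h2, h.dV_one, h.dV_tpx]
  have h1' : w.1 ≠ 1 := fun e => h1 (Subtype.ext e)
  have h2' : w.1 ≠ tp h.toFis x := fun e => h2 (Subtype.ext e)
  have h3 : w.1 * w.1 = 1 := by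
    have := h.W_sq hℓ w.2
    have e : h.dV hℓ ⟨w.1, w.2⟩ = u := hw
    rwa [e, hu, xp_zero] at this
  obtain ⟨y, hy, a, ha, h5⟩ := h.iso_form hℓ w.2 h1' h2' h3
  refine ⟨⟨h.pp ℓ y a * tp h.toFis x, (h.W ℓ).mul_mem (h.pp_mem hy a) (h.tpx_mem hℓ)⟩, ?_, h.gg_z hℓ hy ha⟩
  rw [← hw]
  apply Subtype.ext
  show h.dl ℓ (h.pp ℓ y a * tp h.toFis x) = h.dl ℓ w.1
  rcases h5 with h5 | h5
  · rw [h5]
  · rw [h5, h.dl_pp_tpx hℓ hy]

theorem rel (w w' : h.W ℓ) (hC : C c z (w.1 z)) (hC' : C c z (w'.1 z)) :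
    (hV Γ (h.dV hℓ w) (h.dV hℓ w') = 0 → C c z ((w * w').1 z)) ∧
    (hV Γ (h.dV hℓ w) (h.dV hℓ w') = 1 → C c z ((w * w' * ⟨tp h.toFis x, h.tpx_mem hℓ⟩).1 z)) := by
  by_cases h1 : w = 1
  · subst h1
    refine ⟨fun _ => by rw [one_mul]; exact hC', fun e => ?_⟩
    rw [h.dV_one hℓ, hV_zero] at e
    exact absurd e.symm one_ne_zero
  by_cases h2 : w' = 1
  · subst h2
    refine ⟨fun _ => by rw [mul_one]; exact hC, fun e => ?_⟩
    rw [h.dV_one hℓ, hV_zero' hℓ.herm] at e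
    exact absurd e.symm one_ne_zero
  obtain ⟨y, hy, a, ha, h3⟩ := h.comm_form hℓ w.2 (fun e => h1 (Subtype.ext e)) hC
  obtain ⟨t, ht, b, hb, h4⟩ := h.comm_form hℓ w'.2 (fun e => h2 (Subtype.ext e)) hC'
  have e1 : (w * w').1 = h.pp ℓ y a * h.pp ℓ t b := by
    show w.1 * w'.1 = _
    rw [h3, h4]
    calc h.pp ℓ y a * tp h.toFis x * (h.pp ℓ t b * tp h.toFis x) =
        h.pp ℓ y a * (tp h.toFis x * h.pp ℓ t b) * tp h.toFis x := by group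
      _ = h.pp ℓ y a * (h.pp ℓ t b * tp h.toFis x) * tp h.toFis x := by rw [h.tpx_comm hℓ (h.pp_mem ht b)]
      _ = h.pp ℓ y a * h.pp ℓ t b * (tp h.toFis x * tp h.toFis x) := by group
      _ = _ := by rw [tp_sq, mul_one]
  have e2 : (h.dV hℓ w').1 = fun v => Γ v t * b := by
    show h.dl ℓ w'.1 = _
    rw [h4, h.dl_pp_tpx hℓ ht, h.dl_pp hℓ ht]
  have e3 : (h.dV hℓ w).1 = fun v => Γ v y * a := by
    show h.dl ℓ w.1 = _
    rw [h3, h.dl_pp_tpx hℓ hy, h.dl_pp hℓ hy]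
  have e4 : hV Γ (h.dV hℓ w) (h.dV hℓ w') = Γ t y * a * (b * b) := by
    rw [hV_col_right hℓ.herm t b _ _ e2, e3]
  have e5 : (w * w' * ⟨tp h.toFis x, h.tpx_mem hℓ⟩).1 = h.pp ℓ y a * h.pp ℓ t b * tp h.toFis x := by
    rw [← e1]; rfl
  rw [e4, e5, e1]
  by_cases hyt : C c y t
  · have e6 : Γ t y = 0 := hℓ.comm y t (fun e => e.2.2 hyt)
    rw [e6, zero_mul, zero_mul]
    refine ⟨fun _ => ?_, fun e => absurd e.symm one_ne_zero⟩
    by_cases heq : y = t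
    · subst heq
      exact h.rel_same hℓ hy ha hb
    · exact h.rel_comm hℓ hy ht hyt ha hb
  · have n0 := hℓ.ne0 y hy t ht hyt
    refine ⟨fun e => ?_, fun e => ?_⟩
    · exact absurd e (mul_ne_zero (mul_ne_zero n0 ha) (mul_ne_zero hb hb))
    · refine h.rel_nc hℓ hy ht hyt ha ?_
      have kk : ∀ p b : K4, b ≠ 0 → p * (b * b) = 1 → p = b := by decide +kernel
      exact kk _ _ hb e

theorem exists_lam2 : ∃ lam : h.W ℓ → K4,
    (∀ w w', lam (w * w') = lam w + lam w' + hV Γ (h.dV hℓ w) (h.dV hℓ w')) ∧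
    lam ⟨tp h.toFis x, h.tpx_mem hℓ⟩ = 1 ∧ (∀ w, lam w + lam w * lam w = hV Γ (h.dV hℓ w) (h.dV hℓ w)) ∧
    ∀ w, lam w = 0 ↔ C c z (w.1 z) := by
  classical
  set t : h.W ℓ := ⟨tp h.toFis x, h.tpx_mem hℓ⟩ with ht
  have ht1 : t ≠ 1 := fun e => h.tpx_ne hℓ (congrArg Subtype.val e)
  have htt : t * t = 1 := Subtype.ext (tp_sq h.toFis x)
  have hsq : ∀ w : h.W ℓ, w * w = if hV Γ (h.dV hℓ w) (h.dV hℓ w) = 0 then 1 else t := by
    intro w
    have h1 := h.W_sq hℓ w.2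
    apply Subtype.ext
    rw [show (w * w).1 = w.1 * w.1 from rfl, h1]
    unfold xp
    split_ifs <;> rfl
  obtain ⟨l0, a1, a2, a3⟩ := FisLam.exists_lam t ht1 htt (h.dV hℓ) (h.dV_mul hℓ) (h.dV_tpx hℓ) (h.ker_dV hℓ) (hV Γ)
    hV_add (hV_herm hℓ.herm) hsq
  choose lf hlf1 hlf2 using h.S_lift hℓ
  let eps : Vs Γ → ZMod 2 := fun u => if hu : hV Γ u u = 0 then ph (l0 (lf u hu)) else 0
  have l01 : ∀ w : h.W ℓ, C c z (w.1 z) → l0 w = 0 ∨ l0 w = 1 := by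
    intro w hw
    apply k_tr01
    rw [a3, h.S_iso hℓ w hw]
  have heps : ∀ w : h.W ℓ, C c z (w.1 z) → eps (h.dV hℓ w) = ph (l0 w) := by
    intro w hw
    have h1 := h.S_iso hℓ w hw
    have h2 : lf (h.dV hℓ w) h1 = w := h.S_uniq hℓ (hlf1 _ h1).symm hw (hlf2 _ h1)
    show (if hu : hV Γ (h.dV hℓ w) (h.dV hℓ w) = 0 then ph (l0 (lf (h.dV hℓ w) hu)) else 0) = _
    rw [dif_pos h1, h2]
  have l0one : l0 1 = 0 := by
    have := a1 1 1
    rw [mul_one, h.dV_one hℓ, hV_zero, add_zero] at this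
    have e : ∀ a : K4, a = a + a → a = 0 := by decide +kernel
    exact e _ this
  -- hyperbolic pair
  obtain ⟨y, hy⟩ := h.E_nonempty
  obtain ⟨s, hs, hys⟩ := h.E_nc hy
  have n0 := hℓ.ne0 y hy s hs hys
  have hvv : ∀ v, Γ v v = 0 := fun v => hℓ.comm v v (fun e => e.2.2 (h.C_self v))
  let e1 : Vs Γ := ⟨Mg Γ (Pi.single y 1), LinearMap.mem_range_self _ _⟩
  let f1 : Vs Γ := ⟨Mg Γ (Pi.single s (Γ s y)), LinearMap.mem_range_self _ _⟩
  have he1 : e1.1 = fun v => Γ v y * 1 := Mg_single Γ y 1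
  have hf1 : f1.1 = fun v => Γ v s * Γ s y := Mg_single Γ s (Γ s y)
  have hee : hV Γ e1 e1 = 0 := by
    rw [hV_col_right hℓ.herm y 1 _ _ he1, he1]
    simp [hvv]
  have hff : hV Γ f1 f1 = 0 := by
    rw [hV_col_right hℓ.herm s (Γ s y) _ _ hf1, hf1]
    simp [hvv]
  have hef : hV Γ e1 f1 = 1 := by
    rw [hV_col_right hℓ.herm s (Γ s y) _ _ hf1, he1]
    have := k_cube _ n0
    calc Γ s y * 1 * (Γ s y * Γ s y) = Γ s y * Γ s y * Γ s y := by ring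
      _ = 1 := this
  have hK : Fintype.card K4 = 4 := K4.card_K4
  obtain ⟨l, hl⟩ := FisLemU.exists_linear hK (hV Γ) hV_add hV_smul
    (fun u v => by rw [hV_herm hℓ.herm u v]; ring) e1 f1 hee hff hef eps (by
      have h1 := heps 1 (h.C_self z)
      rw [h.dV_one hℓ, l0one] at h1
      rw [h1]; unfold ph; simp) (by
      intro b d hb hd hbd
      obtain ⟨w, rfl, hw⟩ := h.S_lift hℓ b hb
      obtain ⟨w', rfl, hw'⟩ := h.S_lift hℓ d hd
      obtain ⟨r0, r1⟩ := h.rel hℓ w w' hw hw'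
      have h1 : hV Γ (h.dV hℓ w) (h.dV hℓ w') = 0 ∨ hV Γ (h.dV hℓ w) (h.dV hℓ w') = 1 := by
        rw [hV_add, hV_add_right hℓ.herm, hV_add_right hℓ.herm, hb, hd, zero_add, add_zero,
          hV_herm hℓ.herm (h.dV hℓ w) (h.dV hℓ w')] at hbd
        exact k_tr01 _ hbd
      rcases h1 with h1 | h1
      · have h2 := r0 h1
        rw [← h.dV_mul hℓ, heps _ h2, heps w hw, heps w' hw', a1, h1, add_zero]
        exact ph_add _ _ (l01 w hw) (l01 w' hw')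
      · have h2 := r1 h1
        have h3 : h.dV hℓ w + h.dV hℓ w' = h.dV hℓ (w * w' * t) := by
          rw [h.dV_mul hℓ, h.dV_mul hℓ, h.dV_tpx hℓ, add_zero]
        rw [h3, heps _ h2, heps w hw, heps w' hw', a1, a1, a2, h1, h.dV_tpx hℓ, hV_zero' hℓ.herm, add_zero]
        have h4 : l0 w + l0 w' + 1 + 1 = l0 w + l0 w' := by
          rw [add_assoc, k_add_self, add_zero]
        rw [h4]
        exact ph_add _ _ (l01 w hw) (l01 w' hw'))
  have m1 : ∀ w w' : h.W ℓ, l0 (w * w') + ps (l (h.dV hℓ (w * w'))) = (l0 w + ps (l (h.dV hℓ w))) +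
      (l0 w' + ps (l (h.dV hℓ w'))) + hV Γ (h.dV hℓ w) (h.dV hℓ w') := by
    intro w w'
    rw [a1, h.dV_mul hℓ, map_add, ps_add]
    ring
  have m2 : l0 t + ps (l (h.dV hℓ t)) = 1 := by
    rw [a2, h.dV_tpx hℓ, map_zero]
    unfold ps; simp
  have m3 : ∀ w : h.W ℓ, (l0 w + ps (l (h.dV hℓ w))) + (l0 w + ps (l (h.dV hℓ w))) * (l0 w + ps (l (h.dV hℓ w))) =
      hV Γ (h.dV hℓ w) (h.dV hℓ w) := by
    intro w
    rw [k_sq_add, ← a3 w]
    calc l0 w + ps (l (h.dV hℓ w)) + (l0 w * l0 w + ps (l (h.dV hℓ w)) * ps (l (h.dV hℓ w))) =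
        l0 w + l0 w * l0 w + (ps (l (h.dV hℓ w)) + ps (l (h.dV hℓ w)) * ps (l (h.dV hℓ w))) := by ring
      _ = _ := by rw [ps_tr, add_zero]
  have m4 : ∀ w : h.W ℓ, C c z (w.1 z) → l0 w + ps (l (h.dV hℓ w)) = 0 := by
    intro w hw
    rw [hl _ (h.S_iso hℓ w hw), heps w hw, ps_ph (l01 w hw), k_add_self]
  refine ⟨fun w => l0 w + ps (l (h.dV hℓ w)), m1, m2, m3, fun w => ⟨fun hw => ?_, m4 w⟩⟩
  have hw' : l0 w + ps (l (h.dV hℓ w)) = 0 := hw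
  have h1 : hV Γ (h.dV hℓ w) (h.dV hℓ w) = 0 := by
    rw [← m3 w, hw', mul_zero, add_zero]
  obtain ⟨w1, h2, h3⟩ := h.S_lift hℓ _ h1
  rcases h.dV_eq hℓ h2 with h4 | h4
  · rw [h4]; exact h3
  · exfalso
    have h5 := m1 w1 t
    rw [← h4, hw', m4 w1 h3, m2, h.dV_tpx hℓ, hV_zero' hℓ.herm, zero_add, add_zero] at h5
    exact absurd h5.symm one_ne_zero

end Uni

end Cfsg.Agent.Lib.FsPol
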