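import Cfsg.Agent.Lib.FsUniE42

/-!
# Abstract Fischer spaces with polar lines, unitary part F (helper42): the embedding
-/

set_option autoImplicit false
set_option linter.all false

namespace Cfsg.Agent.Lib.FsPol

open Cfsg.Agent.Lib.K4 (K4)
open scoped BigOperators

universe u

section
variable {X : Type*} [Fintype X] {Γ : X → X → K4} (hG : ∀ y v, Γ y v = Γ v y * Γ v y)

/-- the big form -/
noncomputable def HH (Γ : X → X → K4) (p q : K4 × Vs Γ × K4) : K4 :=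
  p.1 * (q.2.2 * q.2.2) + p.2.2 * (q.1 * q.1) + hV Γ p.2.1 q.2.1

theorem HH_add (p q r : K4 × Vs Γ × K4) : HH Γ (p + q) r = HH Γ p r + HH Γ q r := by
  show (p.1 + q.1) * (r.2.2 * r.2.2) + (p.2.2 + q.2.2) * (r.1 * r.1) + hV Γ (p.2.1 + q.2.1) r.2.1 = _
  rw [hV_add]
  unfold HH
  ring

theorem HH_smul (a : K4) (p q : K4 × Vs Γ × K4) : HH Γ (a • p) q = a * HH Γ p q := by
  show (a * p.1) * (q.2.2 * q.2.2) + (a * p.2.2) * (q.1 * q.1) + hV Γ (a • p.2.1) q.2.1 = _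
  rw [hV_smul]
  unfold HH
  ring

include hG

theorem HH_herm (p q : K4 × Vs Γ × K4) : HH Γ q p = HH Γ p q ^ 2 := by
  unfold HH
  rw [pow_two, k_sq_add, k_sq_add, hV_herm hG p.2.1 q.2.1]
  have k1 : ∀ a b : K4, a * (b * b) * (a * (b * b)) = b * (a * a) := by decide +kernel
  rw [k1, k1]
  ring

theorem HH_nondeg (p : K4 × Vs Γ × K4) (hp : ∀ q, HH Γ p q = 0) : p = 0 := by
  have h1 := hp (0, 0, 1)
  have h2 := hp (1, 0, 0)
  have h3 : ∀ u, hV Γ p.2.1 u = 0 := by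
    intro u
    have := hp (0, u, 0)
    unfold HH at this
    simpa using this
  unfold HH at h1 h2
  simp only [mul_one, mul_zero, add_zero, zero_add, hV_zero' hG] at h1 h2
  have h4 := hV_nondeg hG _ h3
  exact Prod.ext h1 (Prod.ext h4 h2)

end

variable {X : Type u} {c : X → X → X}

namespace Uni

variable {x z : X} [Fintype X] (h : Uni c x z) {ℓ : X → K4 → X} {Γ : X → X → K4} (hℓ : h.OLab ℓ Γ)

open Classical in
/-- columns -/
noncomputable def col (Γ : X → X → K4) (y : X) : Vs Γ := ⟨Mg Γ (Pi.single y 1), LinearMap.mem_range_self _ _⟩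

theorem col_val (Γ : X → X → K4) (y : X) : (col Γ y).1 = fun v => Γ v y * 1 := by
  classical
  exact Mg_single Γ y 1

include h hℓ

/-- the relation defining the embedding -/
def PP (lam : h.W ℓ → K4) (s : X) (v : K4 × Vs Γ × K4) : Prop :=
  (s = x ∧ v = (1, 0, 0)) ∨ (∃ y ∈ h.E, ∃ a : K4, s = ℓ y a ∧ v = (a * a, col Γ y, 0)) ∨
    (∃ w : h.W ℓ, s = w.1 z ∧ v = (lam w * lam w, h.dV hℓ w, 1))

theorem PP_exists (lam : h.W ℓ → K4) (s : X) : ∃ v, h.PP hℓ lam s v := by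
  by_cases h1 : s = x
  · exact ⟨_, Or.inl ⟨h1, rfl⟩⟩
  by_cases h2 : C c x s
  · obtain ⟨y, hy, a, ha⟩ := h.perp_form hℓ h2 h1
    exact ⟨_, Or.inr (Or.inl ⟨y, hy, a, ha, rfl⟩)⟩
  · obtain ⟨w, hw, h3⟩ := h.W_transitive hℓ h2
    exact ⟨_, Or.inr (Or.inr ⟨⟨w, hw⟩, h3.symm, rfl⟩)⟩

theorem nc_w (w : h.W ℓ) : ¬ C c x (w.1 z) := by
  obtain ⟨h1, h2⟩ := h.W_aut hℓ w.2
  intro e
  apply h.xz
  have : C c (w.1 x) (w.1 z) := by rw [h2]; exact e
  exact h1.C.1 this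

theorem C_yy {y v : X} (hy : y ∈ h.E) (hv : v ∈ h.E) : C c y v ↔ Γ v y = 0 := by
  constructor
  · intro e
    exact hℓ.comm y v (fun q => q.2.2 e)
  · intro e
    by_contra hcon
    exact hℓ.ne0 y hy v hv hcon e

theorem C_yw {y : X} (hy : y ∈ h.E) (a : K4) (w : h.W ℓ) : C c (ℓ y a) (w.1 z) ↔ a + h.dl ℓ w.1 y = 0 := by
  have h1 : w.1 (ℓ y (a + h.dl ℓ w.1 y)) = ℓ y a := by
    rw [h.dl_spec hℓ w.2 hy, add_assoc, k_add_self, add_zero]
  rw [← h1, (h.W_aut hℓ w.2).1.C]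
  constructor
  · intro e
    by_contra hcon
    exact h.nc_z hℓ.toLab hy hcon e
  · intro e
    rw [e, hℓ.toLab.zero y hy]
    exact h.C_symm hy.2

theorem C_ww {lam : h.W ℓ → K4}
    (l1 : ∀ w w', lam (w * w') = lam w + lam w' + hV Γ (h.dV hℓ w) (h.dV hℓ w'))
    (l3 : ∀ w, lam w + lam w * lam w = hV Γ (h.dV hℓ w) (h.dV hℓ w))
    (l4 : ∀ w, lam w = 0 ↔ C c z (w.1 z)) (w w' : h.W ℓ) :
    C c (w.1 z) (w'.1 z) ↔ lam w * lam w + lam w' + hV Γ (h.dV hℓ w) (h.dV hℓ w') = 0 := by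
  have h1 : lam 1 = 0 := (l4 1).2 (h.C_self z)
  have h2 : lam w⁻¹ = lam w * lam w := by
    have := l1 w w⁻¹
    rw [mul_inv_cancel, h1, h.dV_inv hℓ, ← l3 w] at this
    have kk : ∀ a b : K4, 0 = a + b + (a + a * a) → b = a * a := by decide +kernel
    exact kk _ _ this
  have h3 : C c (w.1 z) (w'.1 z) ↔ C c z ((w⁻¹ * w').1 z) := by
    have e1 : w'.1 z = w.1 ((w⁻¹ * w').1 z) := by
      show w'.1 z = w.1 ((w.1)⁻¹ (w'.1 z))
      rw [aps]
    rw [e1, (h.W_aut hℓ w.2).1.C]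
  rw [h3, ← l4, l1, h2, h.dV_inv hℓ]

theorem PP_orth {lam : h.W ℓ → K4}
    (l1 : ∀ w w', lam (w * w') = lam w + lam w' + hV Γ (h.dV hℓ w) (h.dV hℓ w'))
    (l3 : ∀ w, lam w + lam w * lam w = hV Γ (h.dV hℓ w) (h.dV hℓ w))
    (l4 : ∀ w, lam w = 0 ↔ C c z (w.1 z)) {s s' : X} {v v' : K4 × Vs Γ × K4} (hs : h.PP hℓ lam s v)
    (hs' : h.PP hℓ lam s' v') : C c s s' ↔ HH Γ v v' = 0 := by
  have hG := hℓ.herm
  have sym : ∀ p q : K4 × Vs Γ × K4, HH Γ q p = 0 ↔ HH Γ p q = 0 := by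
    intro p q
    rw [HH_herm hG p q]
    exact pow_eq_zero_iff two_ne_zero
  have c0 : ∀ u : X, C c x u ↔ C c u x := fun u => h.C_comm
  have o01 : ∀ y ∈ h.E, ∀ a : K4, C c x (ℓ y a) ↔ HH Γ (1, 0, 0) (a * a, col Γ y, 0) = 0 := by
    intro y hy a
    refine ⟨fun _ => ?_, fun _ => hℓ.toLab.cx hy a⟩
    unfold HH
    simp [hV_zero]
  have o02 : ∀ w : h.W ℓ, C c x (w.1 z) ↔ HH Γ (1, 0, 0) (lam w * lam w, h.dV hℓ w, 1) = 0 := by
    intro w
    refine ⟨fun e => absurd e (h.nc_w hℓ w), fun e => ?_⟩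
    unfold HH at e
    simp [hV_zero] at e
  have o12 : ∀ y ∈ h.E, ∀ (a : K4) (w : h.W ℓ), C c (ℓ y a) (w.1 z) ↔
      HH Γ (a * a, col Γ y, 0) (lam w * lam w, h.dV hℓ w, 1) = 0 := by
    intro y hy a w
    rw [h.C_yw hℓ hy]
    unfold HH
    simp only [mul_one, zero_mul, add_zero]
    rw [hV_col_left hG y 1 _ _ (col_val Γ y), one_mul, ← k_sq_add]
    show _ ↔ (a + h.dl ℓ w.1 y) * (a + h.dl ℓ w.1 y) = 0
    rw [mul_self_eq_zero]
  rcases hs with ⟨rfl, rfl⟩ | ⟨y, hy, a, rfl, rfl⟩ | ⟨w, rfl, rfl⟩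
  · rcases hs' with ⟨h1, rfl⟩ | ⟨y', hy', a', rfl, rfl⟩ | ⟨w', rfl, rfl⟩
    · rw [h1]
      refine ⟨fun _ => ?_, fun _ => h.C_self _⟩
      unfold HH
      simp [hV_zero]
    · exact o01 y' hy' a'
    · exact o02 w'
  · rcases hs' with ⟨rfl, rfl⟩ | ⟨y', hy', a', rfl, rfl⟩ | ⟨w', rfl, rfl⟩
    · rw [← c0, sym]
      exact o01 y hy a
    · rw [hℓ.toLab.tw2 hy hy', h.C_yy hℓ hy hy']
      unfold HH
      simp only [mul_zero, zero_mul, zero_add]
      rw [hV_col_right hG y' 1 _ _ (col_val Γ y'), col_val]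
      simp
    · exact o12 y hy a w'
  · rcases hs' with ⟨rfl, rfl⟩ | ⟨y', hy', a', rfl, rfl⟩ | ⟨w', rfl, rfl⟩
    · rw [← c0, sym]
      exact o02 w
    · rw [h.C_comm, sym]
      exact o12 y' hy' a' w
    · rw [h.C_ww hℓ l1 l3 l4]
      unfold HH
      simp only [mul_one, one_mul]
      rw [k_sq_sq]

theorem PP_ne {lam : h.W ℓ → K4} {s : X} {v : K4 × Vs Γ × K4} (hs : h.PP hℓ lam s v) : v ≠ 0 := by
  intro e
  rcases hs with ⟨rfl, rfl⟩ | ⟨y, hy, a, rfl, rfl⟩ | ⟨w, rfl, rfl⟩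
  · exact one_ne_zero (congrArg Prod.fst e)
  · have h1 : col Γ y = 0 := congrArg (fun p => p.2.1) e
    obtain ⟨t, ht, hyt⟩ := h.E_nc hy
    have h2 := congrFun (congrArg Subtype.val h1) t
    rw [col_val] at h2
    exact mul_ne_zero (hℓ.ne0 y hy t ht hyt) one_ne_zero h2
  · exact one_ne_zero (congrArg (fun p => p.2.2) e)

theorem PP_w {lam : h.W ℓ → K4} (w : h.W ℓ) {v : K4 × Vs Γ × K4} (hs : h.PP hℓ lam (w.1 z) v) :
    v = (lam w * lam w, h.dV hℓ w, 1) := by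
  rcases hs with ⟨h1, rfl⟩ | ⟨y, hy, a, h1, rfl⟩ | ⟨w', h1, rfl⟩
  · exact absurd (by rw [h1]; exact h.C_self x) (h.nc_w hℓ w)
  · exact absurd (by rw [h1]; exact hℓ.toLab.cx hy a) (h.nc_w hℓ w)
  · have e1 : (w⁻¹ * w').1 = 1 := by
      refine h.semireg hℓ (w⁻¹ * w').2 h.xz ?_
      show (w.1)⁻¹ (w'.1 z) = z
      rw [← h1]
      exact Equiv.symm_apply_apply _ _
    have e2 : w⁻¹ * w' = 1 := Subtype.ext e1
    have e3 : w = w' := inv_mul_eq_one.1 e2
    rw [e3]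

theorem PP_y {lam : h.W ℓ → K4} {y : X} (hy : y ∈ h.E) (a : K4) {v : K4 × Vs Γ × K4}
    (hs : h.PP hℓ lam (ℓ y a) v) : v = (a * a, col Γ y, 0) := by
  rcases hs with ⟨h1, rfl⟩ | ⟨y', hy', a', h1, rfl⟩ | ⟨w', h1, rfl⟩
  · exact absurd h1 (hℓ.toLab.ne y hy a)
  · have e1 := h.L_eq hy.1 (h.E_ne_x hy) (Pol.mem_left h.toPol x y) (hℓ.toLab.mem y hy a) (hℓ.toLab.ne y hy a).symm
    have e2 := h.L_eq hy'.1 (h.E_ne_x hy') (Pol.mem_left h.toPol x y') (hℓ.toLab.mem y' hy' a')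
      (hℓ.toLab.ne y' hy' a').symm
    rw [h1] at e1
    have e3 : y' ∈ L c x y := by rw [← e1, e2]; exact Pol.mem_right h.toPol x y'
    have e4 : y = y' := h.uniq hy.1 (h.E_ne_x hy) (Pol.mem_right h.toPol x y) e3 (Pol.mem_left h.toPol x y) h.xz
      (h.C_symm hy.2) (h.C_symm hy'.2)
    subst e4
    rw [hℓ.toLab.inj y hy a a' h1]
  · exfalso
    have := hℓ.toLab.cx hy a
    rw [h1] at this
    exact h.nc_w hℓ w' this

theorem finrank_Vs : 2 ≤ Module.finrank K4 (Vs Γ) := by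
  classical
  obtain ⟨y, hy⟩ := h.E_nonempty
  obtain ⟨s, hs, hys⟩ := h.E_nc hy
  have n0 := hℓ.ne0 y hy s hs hys
  have n1 := hℓ.ne0 s hs y hy (fun e => hys (h.C_symm e))
  have hvv : ∀ v, Γ v v = 0 := fun v => hℓ.comm v v (fun e => e.2.2 (h.C_self v))
  have hli : LinearIndependent K4 ![col Γ y, col Γ s] := by
    rw [LinearIndependent.pair_iff]
    intro a b hab
    have h1 : ∀ v, a * (Γ v y * 1) + b * (Γ v s * 1) = 0 := by
      intro v
      have := congrFun (congrArg Subtype.val hab) v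
      simp only [Submodule.coe_add, Submodule.coe_smul, col_val] at this
      exact this
    have h2 := h1 y
    have h3 := h1 s
    rw [hvv, zero_mul, mul_zero, zero_add, mul_one] at h2
    rw [hvv, zero_mul, mul_zero, add_zero, mul_one] at h3
    exact ⟨(mul_eq_zero.1 h3).resolve_right n0, (mul_eq_zero.1 h2).resolve_right n1⟩
  have := hli.fintype_card_le_finrank
  simpa using this

omit hℓ in
theorem uni_main : ∃ (V : Type u) (_ : AddCommGroup V) (_ : Module K4 V) (_ : Finite V) (H : V → V → K4)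
    (Φ : X → V), (∀ p q r, H (p + q) r = H p r + H q r) ∧ (∀ (a : K4) p q, H (a • p) q = a * H p q) ∧
    (∀ p q, H q p = H p q ^ 2) ∧ (∀ p, (∀ q, H p q = 0) → p = 0) ∧ 4 ≤ Module.finrank K4 V ∧
    (∀ s, Φ s ≠ 0) ∧ (∀ s, H (Φ s) (Φ s) = 0) ∧ (∀ s t, ∀ a : K4, Φ t = a • Φ s → t = s) ∧
    (∀ v, v ≠ 0 → H v v = 0 → ∃ s, ∃ a : K4, v = a • Φ s) ∧ (∀ s t, (C c s t ↔ H (Φ s) (Φ t) = 0)) := by
  classical
  obtain ⟨ℓ, Γ, hℓ⟩ := h.exists_olab
  obtain ⟨lam, l1, l2, l3, l4⟩ := h.exists_lam2 hℓ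
  choose Φ hΦ using h.PP_exists hℓ lam
  have hG := hℓ.herm
  have hp : ∀ s t, (C c s t ↔ HH Γ (Φ s) (Φ t) = 0) := fun s t => h.PP_orth hℓ l1 l3 l4 (hΦ s) (hΦ t)
  have hne : ∀ s, Φ s ≠ 0 := fun s => h.PP_ne hℓ (hΦ s)
  refine ⟨K4 × Vs Γ × K4, inferInstance, inferInstance, inferInstance, HH Γ, Φ, HH_add, HH_smul, HH_herm hG,
    HH_nondeg hG, ?_, hne, fun s => (hp s s).1 (h.C_self s), ?_, ?_, hp⟩
  · have h1 := h.finrank_Vs hℓ
    rw [Module.finrank_prod, Module.finrank_prod, Module.finrank_self]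
    omega
  · intro s t a hst
    have ha : a ≠ 0 := by
      rintro rfl
      rw [zero_smul] at hst
      exact hne t hst
    apply h.sep
    intro r
    rw [hp, hp, hst, HH_smul]
    rw [mul_eq_zero]
    exact ⟨fun q => q.resolve_left ha, Or.inr⟩
  · rintro ⟨α, u, β⟩ hv0 hv
    have hv' : α * (β * β) + β * (α * α) + hV Γ u u = 0 := hv
    by_cases hβ : β = 0
    · subst hβ
      rw [mul_zero, mul_zero, zero_mul, add_zero, zero_add] at hv'
      by_cases hu : u = 0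
      · subst hu
        refine ⟨x, α, ?_⟩
        have h1 : Φ x = (1, 0, 0) := by
          rcases hΦ x with ⟨_, h1⟩ | ⟨y, hy, a, h1, _⟩ | ⟨w, h1, _⟩
          · exact h1
          · exact absurd h1.symm (hℓ.toLab.ne y hy a)
          · exfalso
            exact h.nc_w hℓ w (by rw [← h1]; exact h.C_self x)
        rw [h1]
        refine Prod.ext ?_ (Prod.ext ?_ ?_)
        · show α = α * 1
          rw [mul_one]
        · show (0 : Vs Γ) = α • 0
          rw [smul_zero]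
        · show (0 : K4) = α * 0
          rw [mul_zero]
      · obtain ⟨w, hw, hC⟩ := h.S_lift hℓ u hv'
        rcases h.S_form hℓ w.2 hC with h1 | ⟨y, hy, a, ha, h1⟩
        · exfalso
          apply hu
          rw [← hw]
          have : w = 1 := Subtype.ext h1
          rw [this, h.dV_one]
        · have h2 : u = a • col Γ y := by
            rw [← hw]
            apply Subtype.ext
            show h.dl ℓ w.1 = _
            rw [h1, h.dl_pp_tpx hℓ hy, h.dl_pp hℓ hy]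
            funext v
            show Γ v y * a = a * (col Γ y).1 v
            rw [col_val]
            ring
          refine ⟨ℓ y ((α * (a * a)) * (α * (a * a))), a, ?_⟩
          rw [h.PP_y hℓ hy _ (hΦ _)]
          refine Prod.ext ?_ (Prod.ext ?_ ?_)
          · show α = a * (((α * (a * a)) * (α * (a * a))) * ((α * (a * a)) * (α * (a * a))))
            rw [k_sq_sq]
            have kk : ∀ a α : K4, a ≠ 0 → α = a * (α * (a * a)) := by decide +kernel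
            exact kk a α ha
          · exact h2
          · show (0 : K4) = a * 0
            rw [mul_zero]
    · -- scale
      set u' : Vs Γ := β⁻¹ • u with hu'
      set α' : K4 := β⁻¹ * α with hα'
      have h1 : α' + α' * α' = hV Γ u' u' := by
        have e1 : hV Γ u' u' = hV Γ u u * (β⁻¹ * (β⁻¹ * β⁻¹)) := by
          rw [hu', hV_smul, hV_herm hG (β⁻¹ • u) u, hV_smul]
          rcases h.hV_self hℓ u with e | e <;> rw [e] <;> ring
        have e2 : hV Γ u u = α * (β * β) + β * (α * α) := by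
          have kk : ∀ a b : K4, a + b = 0 → b = a := by decide +kernel
          exact kk _ _ hv'
        rw [e1, e2, hα']
        field_simp
      obtain ⟨w, hw⟩ := h.dV_surj hℓ u'
      have h2 : lam w + lam w * lam w = α' + α' * α' := by rw [l3, hw, h1]
      have kk : ∀ a b : K4, a + a * a = b + b * b → b = a * a ∨ b = (a + 1) * (a + 1) := by decide +kernel
      have h3 : ∃ w' : h.W ℓ, h.dV hℓ w' = u' ∧ α' = lam w' * lam w' := by
        rcases kk _ _ h2 with e | e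
        · exact ⟨w, hw, e⟩
        · refine ⟨w * ⟨tp h.toFis x, h.tpx_mem hℓ⟩, ?_, ?_⟩
          · rw [h.dV_mul hℓ, h.dV_tpx hℓ, add_zero, hw]
          · rw [l1, l2, h.dV_tpx hℓ, hV_zero' hG, add_zero]
            exact e
      obtain ⟨w', hw1, hw2⟩ := h3
      refine ⟨w'.1 z, β, ?_⟩
      rw [h.PP_w hℓ w' (hΦ _), hw1, ← hw2]
      refine Prod.ext ?_ (Prod.ext ?_ ?_)
      · show α = β * (β⁻¹ * α)
        rw [← mul_assoc, mul_inv_cancel₀ hβ, one_mul]
      · show u = β • (β⁻¹ • u)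
        rw [smul_smul, mul_inv_cancel₀ hβ, one_smul]
      · show β = β * 1
        rw [mul_one]

end Uni

end Cfsg.Agent.Lib.FsPol
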