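import Cfsg.Agent.Lib.FusionSub
import Cfsg.Agent.Lib.FusionJoin
import Cfsg.Agent.Lib.FusionFocal
import Cfsg.Agent.Lib.CoprimeNorm

/-!
The centre of a fusion system through the automorphism group of a normal subgroup; abelian `S`.
-/

set_option autoImplicit false
set_option maxHeartbeats 400000

namespace Cfsg.Agent.Lib.FusionAbel

open Cfsg Cfsg.FusionSystem Cfsg.Agent.Lib.FusionBasic Cfsg.Agent.Lib.FusionSat Cfsg.Agent.Lib.FusionAlperin
  Cfsg.Agent.Lib.FusionNormal Cfsg.Agent.Lib.FusionSub Cfsg.Agent.Lib.FusionFocal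

variable {Ω : Type*} [Group Ω] {S : Subgroup Ω} {F : FusionSystem S} {P Q R : Subgroup Ω} {f g : Ω → Ω} {p : ℕ}

theorem fix_of_mem_center [Finite S] {x : Ω} (hx : x ∈ F.center) {f : Ω → Ω} (hf : FMap F P f) (hxP : x ∈ P) : f x = x :=
  fix_of_isCentral (Cfsg.Agent.Lib.FusionJoin.isCentral_center F) hf hxP hx

theorem center_le [Finite S] : F.center ≤ S := (Cfsg.Agent.Lib.FusionJoin.isCentral_center F).1

/-- For `Q` normal in `F`: an element of `Q` fixed by `Aut_F(Q)` is central. -/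
theorem mem_center_of_fix [Finite S] (hQ : F.IsNormal Q) {x : Ω} (hx : x ∈ Q)
    (h : ∀ α : F.autGroup Q, (((α : MulAut Q) ⟨x, hx⟩ : Q) : Ω) = x) : x ∈ F.center := by
  have h1 : F.IsCentral (Subgroup.zpowers x) := by
    rw [isCentral_iff]
    have hxQ : Subgroup.zpowers x ≤ Q := by rwa [Subgroup.zpowers_le]
    refine ⟨hxQ.trans hQ.1, fun P f hf => ?_⟩
    obtain ⟨g, hg, hg2, hg3⟩ := ((isNormal_iff F).1 hQ).2 P f hf
    have hle : P ⊔ Subgroup.zpowers x ≤ P ⊔ Q := sup_le_sup_left hxQ P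
    have hgx : g x = x := h ⟨hg3.equiv, hg3.equiv_mem_autGroup⟩
    refine ⟨g, hg.restrict hle, hg2, ?_⟩
    rintro y ⟨n, rfl⟩
    show g (x ^ n) = x ^ n
    rw [hg3.map.map_zpow hx, hgx]
  exact (le_sSup h1 : Subgroup.zpowers x ≤ F.center) (Subgroup.mem_zpowers x)

theorem fix_aut_of_mem_center [Finite S] (hQ : Q ≤ S) {x : Ω} (hx : x ∈ Q) (hc : x ∈ F.center) (α : F.autGroup Q) :
    (((α : MulAut Q) ⟨x, hx⟩ : Q) : Ω) = x := by
  have h1 := fmap_of_autGroup hQ α.2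
  have h2 := fix_of_mem_center hc h1 hx
  rwa [autFun_of_mem _ hx] at h2

theorem stronglyClosed_top (F : FusionSystem S) : F.StronglyClosed S := by
  rw [stronglyClosed_iff]
  exact ⟨le_rfl, fun P f _ hf x hx => hf.map_mem hx⟩

end Cfsg.Agent.Lib.FusionAbel
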