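import Cfsg.Agent.Lib.FusionJ
import Cfsg.Agent.Lib.FusionSmall

/-! A saturated fusion system is generated by the maps fixing `℧¹(Z(S))` and those normalizing `J(S)` (helper87). -/

set_option autoImplicit false
open scoped commutatorElement
open Cfsg Cfsg.FusionSystem Cfsg.Agent.Lib.FusionBasic Cfsg.Agent.Lib.FusionSat Cfsg.Agent.Lib
  Cfsg.Agent.Lib.FusionNormal Cfsg.Agent.Lib.FusionNormSat Cfsg.Agent.Lib.FusionAgemo Cfsg.Agent.Lib.FusionRad
  Cfsg.Agent.Lib.FusionJ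

universe u

namespace Cfsg.Agent.Lib.FusionAgemoJ

variable {Ω : Type u} [Group Ω] {S P Q R N A₀ : Subgroup Ω} {F : FusionSystem S} {f g : Ω → Ω} {p : ℕ}

/-! ### powers -/

theorem pc_le (H : Subgroup Ω) : powerClosure p 1 H ≤ H := by
  unfold powerClosure
  rw [Subgroup.closure_le]
  rintro _ ⟨x, hx, rfl⟩
  exact H.pow_mem hx _

theorem pc_mono {H K : Subgroup Ω} (h : H ≤ K) : powerClosure p 1 H ≤ powerClosure p 1 K := by
  unfold powerClosure
  rw [Subgroup.closure_le]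
  rintro _ ⟨x, hx, rfl⟩
  exact Subgroup.subset_closure ⟨x, h hx, rfl⟩

theorem pc_mem {H : Subgroup Ω} {x : Ω} (hx : x ∈ H) : x ^ p ∈ powerClosure p 1 H :=
  Subgroup.subset_closure ⟨x, hx, by rw [pow_one]⟩

theorem pc_conj_fixed {H : Subgroup Ω} {t : Ω} (h : ∀ v ∈ H, t * v ^ p * t⁻¹ = v ^ p) {x : Ω}
    (hx : x ∈ powerClosure p 1 H) : t * x * t⁻¹ = x := by
  unfold powerClosure at hx
  refine Subgroup.closure_induction (p := fun x _ => t * x * t⁻¹ = x) ?_ ?_ ?_ ?_ hx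
  · rintro _ ⟨v, hv, rfl⟩
    rw [pow_one]; exact h v hv
  · group
  · intro a b _ _ ha hb
    calc t * (a * b) * t⁻¹ = (t * a * t⁻¹) * (t * b * t⁻¹) := by group
      _ = a * b := by rw [ha, hb]
  · intro a _ ha
    calc t * a⁻¹ * t⁻¹ = (t * a * t⁻¹)⁻¹ := by group
      _ = a⁻¹ := by rw [ha]

theorem pc_map (hf : FMap F P f) (hfQ : ∀ x ∈ P, f x ∈ Q) {x : Ω} (hx : x ∈ powerClosure p 1 P) :
    f x ∈ powerClosure p 1 Q := by
  unfold powerClosure at hx
  have h3 : f x ∈ powerClosure p 1 Q ∧ x ∈ P := by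
    refine Subgroup.closure_induction (p := fun x _ => f x ∈ powerClosure p 1 Q ∧ x ∈ P) ?_ ?_ ?_ ?_ hx
    · rintro _ ⟨z, hz, rfl⟩
      refine ⟨?_, P.pow_mem hz _⟩
      rw [hf.map_pow hz, pow_one]
      exact pc_mem (hfQ z hz)
    · exact ⟨by rw [hf.map_one]; exact Subgroup.one_mem _, P.one_mem⟩
    · rintro a b _ _ ⟨ha, ha'⟩ ⟨hb, hb'⟩
      exact ⟨by rw [hf.map_mul ha' hb']; exact Subgroup.mul_mem _ ha hb, P.mul_mem ha' hb'⟩
    · rintro a _ ⟨ha, ha'⟩
      exact ⟨by rw [hf.map_inv ha']; exact Subgroup.inv_mem _ ha, P.inv_mem ha'⟩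
  exact h3.1

theorem fiso_sub {P' Q' : Subgroup Ω} (h : FIso F P Q f) (hP : P' ≤ P) (hQ : Q' ≤ Q)
    (h1 : ∀ x ∈ P, (x ∈ P' ↔ f x ∈ Q')) : FIso F P' Q' f := by
  refine ⟨h.1.restrict hP, fun y => ?_⟩
  constructor
  · intro hy
    obtain ⟨x, hx, rfl⟩ := (h.2 y).1 (hQ hy)
    exact ⟨x, (h1 x hx).2 hy, rfl⟩
  · rintro ⟨x, hx, rfl⟩
    exact (h1 x (hP hx)).1 hx

theorem fiso_J (h : FIso F P Q f) : FIso F (thompsonSubgroupAOf P) (thompsonSubgroupAOf Q) f :=
  fiso_sub h (J_le P) (J_le Q) (fun _ hx => mem_J_iff h hx)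

theorem fiso_pc (h : FIso F P Q f) : FIso F (powerClosure p 1 P) (powerClosure p 1 Q) f := by
  refine fiso_sub h (pc_le P) (pc_le Q) (fun x hx => ⟨pc_map h.1 (fun x hx => h.mem hx), fun h1 => ?_⟩)
  obtain ⟨g, hg, hg1, -⟩ := h.symm
  have := pc_map hg.1 (fun x hx => hg.mem hx) h1
  rwa [hg1 x hx] at this

theorem fiso_center (h : FIso F P Q f) : FIso F (centralizerIn P P) (centralizerIn Q Q) f := by
  refine fiso_sub h (centralizerIn_le P P) (centralizerIn_le Q Q) (fun x hx => ?_)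
  rw [mem_center_iff, mem_center_iff]
  constructor
  · rintro ⟨h1, h2⟩
    refine ⟨h.mem h1, fun y hy => ?_⟩
    obtain ⟨z, hz, rfl⟩ := (h.2 y).1 hy
    rw [← h.1.map_inv h1, ← h.1.map_mul h1 hz, ← h.1.map_mul (P.mul_mem h1 hz) (P.inv_mem h1), h2 z hz]
  · rintro ⟨h1, h2⟩
    refine ⟨hx, fun z hz => ?_⟩
    have h3 := h2 (f z) (h.mem hz)
    rw [← h.1.map_inv hx, ← h.1.map_mul hx hz, ← h.1.map_mul (P.mul_mem hx hz) (P.inv_mem hx)] at h3
    exact h.1.inj (P.mul_mem (P.mul_mem hx hz) (P.inv_mem hx)) hz h3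

theorem fullyNormalized_of_normalizes [Finite S] (F : FusionSystem S) (hQS : Q ≤ S)
    (h : S ≤ Subgroup.normalizer (Q : Set Ω)) : F.IsFullyNormalized Q := by
  refine ⟨hQS, fun R hR => ?_⟩
  have h1 : normalizerIn S Q = S := inf_eq_left.2 h
  rw [h1]
  exact Nat.card_le_card_of_injective _ (Subgroup.inclusion_injective (normalizerIn_le S R))

/-! ### the induction -/

/-- Frattini step: `A₀ ≤ P` preserved by `Aut_F(P)` and centralized by an element of `N_S(P)` outside `P`. -/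
theorem step_fix [Finite S] [Fact p.Prime] (hS : IsPGroup p S) (hF : F.IsSaturated p) {A : Subgroup Ω → (Ω → Ω) → Prop}
    (hcongr : ∀ P f g, FMap F P f → (∀ x ∈ P, f x = g x) → A P f → A P g)
    (hrestr : ∀ P Q f, FMap F Q f → P ≤ Q → A Q f → A P f)
    (hcomp : ∀ P Q f g, FIso F P Q f → FMap F Q g → A P f → A Q g → A P (fun x => g (f x)))
    (hP : F.IsFullyNormalized P)
    (ha : ∀ f, FMap F P f → (∀ x ∈ A₀, f x = x) → A P f)
    (big : ∀ (Q : Subgroup Ω) (g : Ω → Ω), Nat.card P < Nat.card Q → FMap F Q g → A Q g)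
    (hA₀ : A₀ ≤ P) (hpres : ∀ a, FIso F P P a → ∀ x ∈ A₀, a x ∈ A₀) {t : Ω} (ht : t ∈ normalizerIn S P) (htP : t ∉ P)
    (htA : ∀ x ∈ A₀, t * x * t⁻¹ = x) (hf : FIso F P P f) : A P f := by
  have hPS := hP.1
  let K : Subgroup (MulAut P) :=
    { carrier := {α | α ∈ F.autGroup P ∧ ∀ x : P, (x : Ω) ∈ A₀ → α x = x}
      one_mem' := ⟨Subgroup.one_mem _, fun x _ => rfl⟩
      mul_mem' := by
        rintro α β ⟨h1, h2⟩ ⟨k1, k2⟩
        refine ⟨Subgroup.mul_mem _ h1 k1, fun x hx => ?_⟩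
        rw [MulAut.mul_apply, k2 x hx, h2 x hx]
      inv_mem' := by
        rintro α ⟨h1, h2⟩
        refine ⟨Subgroup.inv_mem _ h1, fun x hx => ?_⟩
        conv_lhs => rw [← h2 x hx]
        rw [MulAut.inv_apply_self] }
  have hKmem : ∀ α, α ∈ K ↔ α ∈ F.autGroup P ∧ ∀ x : P, (x : Ω) ∈ A₀ → α x = x := fun α => Iff.rfl
  have hKn : ∀ α ∈ F.autGroup P, ∀ κ ∈ K, α * κ * α⁻¹ ∈ K := by
    intro α hα κ hκ
    refine (hKmem _).2 ⟨Subgroup.mul_mem _ (Subgroup.mul_mem _ hα hκ.1) (Subgroup.inv_mem _ hα), fun x hx => ?_⟩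
    have h0 := hpres _ ((fiso_autFun_iff hPS).2 (Subgroup.inv_mem _ hα)) x hx
    rw [autFun_coe] at h0
    have h1 := hκ.2 (α⁻¹ x) h0
    rw [MulAut.mul_apply, MulAut.mul_apply, h1, MulAut.apply_inv_self]
  have htK : ∀ m ∈ Subgroup.zpowers t, ∃ h : m ∈ Subgroup.normalizer (P : Set Ω), conjAut P m h ∈ K := by
    intro m hm
    have h1 : m ∈ Subgroup.normalizer (P : Set Ω) := (Subgroup.zpowers_le.2 ht.2) hm
    have h2 : m ∈ S := (Subgroup.zpowers_le.2 ht.1) hm
    refine ⟨h1, (hKmem _).2 ⟨conjAut_mem_autGroup hPS h1 h2, fun x hx => ?_⟩⟩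
    apply Subtype.ext
    rw [conjAut_apply]
    have h3 : t ∈ Subgroup.centralizer ({(x : Ω)} : Set Ω) := by
      rw [Subgroup.mem_centralizer_singleton_iff]
      exact mul_inv_eq_iff_eq_mul.1 (htA x hx)
    have h4 := (Subgroup.zpowers_le.2 h3) hm
    rw [Subgroup.mem_centralizer_singleton_iff] at h4
    exact mul_inv_eq_iff_eq_mul.2 h4
  obtain ⟨g, hg, hgi, κ, hκ', hκg⟩ := frattini_ext (K := K) hS hF hP (fun α hα => ((hKmem α).1 hα).1) hKn hf
    (Subgroup.zpowers_le.2 ht.1) htK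
  have hκ := (hKmem κ).1 hκ'
  have hlt : P < P ⊔ Subgroup.zpowers t := lt_of_le_of_ne le_sup_left fun h => htP (by
    rw [h]; exact Subgroup.mem_sup_right (Subgroup.mem_zpowers t))
  have h1 := big _ _ (FusionStrong.card_lt_of_lt hlt (sup_le hPS (Subgroup.zpowers_le.2 ht.1))) hg
  have h2 : A P g := hrestr _ _ _ hg le_sup_left h1
  have h3 : A P (autFun κ) := ha _ (fmap_of_autGroup hPS hκ.1) (fun x hx => by
    have := hκ.2 ⟨x, hA₀ hx⟩ hx
    rw [autFun_of_mem κ (hA₀ hx), this])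
  have h4 := hcomp P P g (autFun κ) hgi (fmap_of_autGroup hPS hκ.1) h2 h3
  exact hcongr _ _ _ (hgi.1.comp (fmap_of_autGroup hPS hκ.1) (fun x hx => hgi.mem hx)) (fun x hx => (hκg x hx).symm) h4

/-- Frattini step for nonradical `P`. -/
theorem step_radical [Finite S] [Fact p.Prime] (hS : IsPGroup p S) (hF : F.IsSaturated p) {A : Subgroup Ω → (Ω → Ω) → Prop}
    (hcongr : ∀ P f g, FMap F P f → (∀ x ∈ P, f x = g x) → A P f → A P g)
    (hrestr : ∀ P Q f, FMap F Q f → P ≤ Q → A Q f → A P f)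
    (hcomp : ∀ P Q f g, FIso F P Q f → FMap F Q g → A P f → A Q g → A P (fun x => g (f x)))
    (hP : F.IsFullyNormalized P) (hinner : ∀ s ∈ S, A S (fun x => s * x * s⁻¹))
    (big : ∀ (Q : Subgroup Ω) (g : Ω → Ω), Nat.card P < Nat.card Q → FMap F Q g → A Q g)
    (hr : ¬ F.IsRadical p P) (hf : FIso F P P f) : A P f := by
  have hPS := hP.1
  have hPfin : Finite P := finite_of_le hPS
  rw [isRadical_iff hS hPS] at hr
  obtain ⟨β, hβ', hβI⟩ := SetLike.not_le_iff_exists.1 hr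
  obtain ⟨K, hKF, hKn, hKp, hβ⟩ := FusionStable.mem_opMap_iff.1 hβ'
  have hKS : K ≤ autInducedBy S P := by
    obtain ⟨hauto, -⟩ := automized_receptive_of_fullyNormalized hS hF hP
    have hsyl : RelSylow.IsSyl p (autInducedBy S P) (F.autGroup P) :=
      ⟨autInducedBy_le_autGroup hPS le_rfl, isPGroup_autInducedBy hS le_rfl, ((isFullyAutomized_iff hS).1 hauto).2⟩
    obtain ⟨χ, hχ, hle⟩ := hsyl.exists_conj_le hKp hKF
    intro κ hκ
    obtain ⟨π, hπ, h1⟩ := hle (hKn χ hχ κ hκ)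
    have h2 : χ * π * χ⁻¹ = χ * κ * χ⁻¹ := h1
    have h3 : π = κ := by
      have := congrArg (fun z => χ⁻¹ * z * χ) h2
      simpa [mul_assoc] using this
    rwa [← h3]
  obtain ⟨s, hs, hsβ⟩ := mem_autInducedBy_iff.1 (hKS hβ)
  have hsn : s ∈ Subgroup.normalizer (P : Set Ω) := mem_normalizer_of_aut hsβ
  have hsP : s ∉ P := fun h => hβI (mem_inn_iff.2 ⟨s, h, hsβ⟩)
  obtain ⟨M, hM⟩ : ∃ M, M = FusionTools.kNorm S P K := ⟨_, rfl⟩
  have hsM : s ∈ M := by
    rw [hM]
    exact ⟨hs, β, hβ, fun x hx => by rw [autFun_of_mem β hx, hsβ]⟩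
  have hMS : M ≤ S := by rw [hM]; exact (FusionTools.kNorm_le_normalizerIn S K).trans (normalizerIn_le S P)
  obtain ⟨g, hg, hgi, κ, hκ, hκg⟩ := frattini_ext (K := K) hS hF hP hKF hKn hf hMS (by
    intro m hm
    rw [hM] at hm
    have h1 : m ∈ Subgroup.normalizer (P : Set Ω) := (FusionTools.kNorm_le_normalizerIn S K hm).2
    exact ⟨h1, FusionTools.conjAut_mem_of_kNorm hm h1⟩)
  have hlt : P < P ⊔ M := lt_of_le_of_ne le_sup_left fun h => hsP (by
    rw [h]; exact Subgroup.mem_sup_right hsM)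
  have h1 := big _ _ (FusionStrong.card_lt_of_lt hlt (sup_le hPS hMS)) hg
  have h2 : A P g := hrestr _ _ _ hg le_sup_left h1
  obtain ⟨r, hr, hrκ⟩ := mem_autInducedBy_iff.1 (hKS hκ)
  have h3 : A P (fun x => r * x * r⁻¹) := hrestr _ _ _ (fmap_conj F le_rfl hr) hPS (hinner r hr)
  have h4 := hcomp P P g _ hgi (fmap_conj F hPS hr) h2 h3
  refine hcongr _ _ _ (hgi.1.comp (fmap_conj F hPS hr) (fun x hx => hgi.mem hx)) (fun x hx => ?_) h4
  rw [hκg x hx, autFun_of_mem κ (hgi.mem hx), hrκ]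

theorem exists_max_normal [Finite S] {C : Subgroup Ω → Prop} (hC : ∀ Q, C Q → Q ≤ S) (hex : ∃ Q, C Q) :
    ∃ Q, C Q ∧ ∀ R, C R → Nat.card R ≤ Nat.card Q := by
  classical
  have h1 : ∃ m, ∃ Q, C Q ∧ Nat.card S - Nat.card Q = m := by
    obtain ⟨Q, hQ⟩ := hex
    exact ⟨_, Q, hQ, rfl⟩
  obtain ⟨Q, hQ, hQm⟩ := Nat.find_spec h1
  refine ⟨Q, hQ, fun R hR => ?_⟩
  have h2 := Nat.find_min' h1 ⟨R, hR, rfl⟩
  rw [← hQm] at h2
  have h3 := Nat.card_le_card_of_injective _ (Subgroup.inclusion_injective (hC R hR))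
  have h4 := Nat.card_le_card_of_injective _ (Subgroup.inclusion_injective (hC Q hQ))
  omega

theorem main [Fact p.Prime] : ∀ (n : ℕ) (S : Subgroup Ω) (_ : Finite S), IsPGroup p S → ∀ F : FusionSystem S,
    F.IsSaturated p → (FusionSmall.graphs F).ncard = n → ∀ A : Subgroup Ω → (Ω → Ω) → Prop,
    (∀ P f g, FMap F P f → (∀ x ∈ P, f x = g x) → A P f → A P g) →
    (∀ P Q f, FMap F Q f → P ≤ Q → A Q f → A P f) →
    (∀ P Q f g, FIso F P Q f → FMap F Q g → A P f → A Q g → A P (fun x => g (f x))) →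
    (∀ P Q f g, FIso F P Q f → FIso F Q P g → (∀ x ∈ P, g (f x) = x) → A P f → A Q g) →
    (∀ P f, FMap F P f → powerClosure p 1 (centralizerIn S S) ≤ P →
      (∀ x ∈ powerClosure p 1 (centralizerIn S S), f x = x) → A P f) →
    (∀ P f, FMap F P f → thompsonSubgroupAOf S ≤ P →
      FIso F (thompsonSubgroupAOf S) (thompsonSubgroupAOf S) f → A P f) →
    ∀ P f, FMap F P f → A P f := by
  intro n
  induction n using Nat.strong_induction_on with
  | _ n ih =>
  intro S hfin hS F hF hn A hcongr hrestr hcomp hinv ha hb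
  -- normalizer systems of nonnormal subgroups
  have lemA : ∀ U : Subgroup Ω, F.IsFullyNormalized U → ¬ F.IsNormal U →
      (∀ P f, FMap F P f → thompsonSubgroupAOf (normalizerIn S U) ≤ P → P ≤ normalizerIn S U →
        FIso F (thompsonSubgroupAOf (normalizerIn S U)) (thompsonSubgroupAOf (normalizerIn S U)) f → A P f) →
      ∀ P f, FMap F P f → U ≤ P → P ≤ normalizerIn S U → FIso F U U f → A P f := by
    intro U hU hUn hJ P f hf hUP hPN hfU
    have hUS := hU.1
    obtain ⟨G, hG⟩ := Cfsg.Agent.S5096.result F U hUS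
    have hGi := isNormalizerSystem_iff.1 hG
    have hGs : G.IsSaturated p := normalizerSystem_saturated hS hF hU hG
    have hTS := normalizerIn_le S U
    have hGF : ∀ P f, FMap G P f → FMap F P f := by
      intro P f hf
      obtain ⟨-, -, g, hg, hgf, -⟩ := (hGi P f).1 hf
      exact (hg.restrict le_sup_left).congr hgf
    have hGFi : ∀ P Q f, FIso G P Q f → FIso F P Q f := fun P Q f h => ⟨hGF P f h.1, h.2⟩
    have hlt : (FusionSmall.graphs G).ncard < n := by
      rw [← hn]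
      refine Set.ncard_lt_ncard ⟨FusionSmall.graphs_mono hGF, fun hle => hUn ?_⟩ (FusionSmall.graphs_finite F)
      rw [isNormal_iff]
      refine ⟨hUS, fun P f hf => ?_⟩
      obtain ⟨-, -, g, hg, hgf, hgB⟩ := (hGi P f).1 (FusionSmall.fmap_of_graphs hle hf)
      exact ⟨g, hg, hgf, hgB⟩
    refine ih _ hlt (normalizerIn S U) (finite_of_le hTS) (hS.to_le hTS) G hGs rfl A
      (fun P f g h => hcongr P f g (hGF _ _ h)) (fun P Q f h => hrestr P Q f (hGF _ _ h))
      (fun P Q f g h1 h2 => hcomp P Q f g (hGFi _ _ _ h1) (hGF _ _ h2))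
      (fun P Q f g h1 h2 => hinv P Q f g (hGFi _ _ _ h1) (hGFi _ _ _ h2)) ?_ ?_ P f ?_
    · intro P f hf hP h1
      have h2 : powerClosure p 1 (centralizerIn S S) ≤
          powerClosure p 1 (centralizerIn (normalizerIn S U) (normalizerIn S U)) := by
        refine pc_mono fun z hz => ?_
        obtain ⟨h3, h4⟩ := mem_center_iff.1 hz
        refine mem_center_iff.2 ⟨mem_normalizerIn.2 ⟨h3, ?_⟩, fun x hx => h4 x (hTS hx)⟩
        exact centralizer_le_normalizer' U (mem_centralizer_iff'.2 fun x hx => h4 x (hUS hx))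
      exact ha P f (hGF _ _ hf) (h2.trans hP) (fun x hx => h1 x (h2 hx))
    · intro P f hf hP h1
      exact hJ P f (hGF _ _ hf) hP hf.le (hGFi _ _ _ h1)
    · refine (hGi P f).2 ⟨hPN, fun x hx => ⟨hf.map_mem hx, hfU.map_normalizer hf hUP hx (hPN hx).2⟩, f, ?_,
        fun _ _ => rfl, hfU⟩
      rw [sup_eq_left.2 hUP]; exact hf
  -- the constrained case
  have claim1 : (∃ Q, F.IsNormal Q ∧ centralizerIn S Q ≤ Q) → ∀ P f, FMap F P f → A P f := by
    intro hex
    obtain ⟨Q, ⟨hQn, hQC⟩, hmax⟩ := exists_max_normal (C := fun Q => F.IsNormal Q ∧ centralizerIn S Q ≤ Q)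
      (fun Q hQ => (isNormal_stronglyClosed hQ.1).1) hex
    have hQS : Q ≤ S := (isNormal_stronglyClosed hQn).1
    have hQn' := ((isNormal_iff F).1 hQn).2
    have hSQ := normalizes_of_stronglyClosed (isNormal_stronglyClosed hQn)
    have hQfin : Finite Q := finite_of_le hQS
    by_cases hJQ : thompsonSubgroupAOf S ≤ Q
    · intro P f hf
      obtain ⟨g, hg, hgf, hgQ⟩ := hQn' P f hf
      have h1 := J_eq_of_le hQS hJQ
      have h2 : A (P ⊔ Q) g := hb _ _ hg (hJQ.trans le_sup_right) (by rw [← h1]; exact fiso_J hgQ)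
      exact hcongr _ _ _ (hg.restrict le_sup_left) hgf (hrestr _ _ _ hg le_sup_left h2)
    · obtain ⟨t, htS, htQ, htv⟩ := exists_quad hS hQS hSQ hJQ
      obtain ⟨A₀, hA₀⟩ : ∃ A₀, A₀ = powerClosure p 1 (centralizerIn Q Q) := ⟨_, rfl⟩
      have hA₀Z : A₀ ≤ centralizerIn Q Q := by rw [hA₀]; exact pc_le _
      have hA₀Q : A₀ ≤ Q := hA₀Z.trans (centralizerIn_le Q Q)
      have htA : ∀ x ∈ A₀, t * x * t⁻¹ = x := by
        intro x hx
        rw [hA₀] at hx
        exact pc_conj_fixed htv hx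
      have hVA : powerClosure p 1 (centralizerIn S S) ≤ A₀ := by
        rw [hA₀]
        refine pc_mono fun z hz => ?_
        obtain ⟨h3, h4⟩ := mem_center_iff.1 hz
        refine mem_center_iff.2 ⟨hQC (mem_centralizerIn.2 ⟨h3, mem_centralizer_iff'.2 fun x hx => h4 x (hQS hx)⟩),
          fun x hx => h4 x (hQS hx)⟩
      -- maps extend to `Q` and preserve `A₀`
      have hext : ∀ P f, FMap F P f → ∃ g, FMap F (P ⊔ Q) g ∧ (∀ x ∈ P, g x = f x) ∧ FIso F Q Q g ∧ FIso F A₀ A₀ g := by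
        intro P f hf
        obtain ⟨g, hg, hgf, hgQ⟩ := hQn' P f hf
        refine ⟨g, hg, hgf, hgQ, ?_⟩
        rw [hA₀]
        exact fiso_pc (fiso_center hgQ)
      have hSA : S ≤ Subgroup.normalizer (A₀ : Set Ω) := by
        intro s hs
        have hA₀fin : Finite A₀ := finite_of_le (hA₀Q.trans hQS)
        refine FusionGrp.mem_normalizer_of_conj_mem (T := A₀) fun x hx => ?_
        obtain ⟨g, -, hgf, -, hgA⟩ := hext S _ (fmap_conj F le_rfl hs)
        have := hgA.mem hx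
        rwa [hgf x (hQS (hA₀Q hx))] at this
      obtain ⟨Q₁, hQ₁⟩ : ∃ Q₁, Q₁ = centralizerIn S A₀ := ⟨_, rfl⟩
      have hQ₁S : Q₁ ≤ S := by rw [hQ₁]; exact centralizerIn_le S A₀
      have hmemQ₁ : ∀ x, x ∈ Q₁ ↔ x ∈ S ∧ ∀ a ∈ A₀, x * a * x⁻¹ = a := by
        intro x
        rw [hQ₁, mem_centralizerIn, mem_centralizer_iff']
      have hQQ₁ : Q ≤ Q₁ := by
        intro x hx
        rw [hmemQ₁]
        refine ⟨hQS hx, fun a ha => ?_⟩
        have h1 := mul_inv_eq_iff_eq_mul.1 ((mem_center_iff.1 (hA₀Z ha)).2 x hx)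
        rw [← h1]; group
      have htQ₁ : t ∈ Q₁ := (hmemQ₁ t).2 ⟨htS, htA⟩
      have hSQ₁ : S ≤ Subgroup.normalizer (Q₁ : Set Ω) := by
        have key : ∀ s ∈ S, ∀ x ∈ Q₁, s * x * s⁻¹ ∈ Q₁ := by
          intro s hs x hx
          rw [hmemQ₁] at hx ⊢
          refine ⟨S.mul_mem (S.mul_mem hs hx.1) (S.inv_mem hs), fun a ha => ?_⟩
          have h1 : s⁻¹ * a * s ∈ A₀ := by
            have := (Subgroup.mem_normalizer_iff.1 (hSA (S.inv_mem hs)) a).1 ha
            rwa [inv_inv] at this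
          calc s * x * s⁻¹ * a * (s * x * s⁻¹)⁻¹ = s * (x * (s⁻¹ * a * s) * x⁻¹) * s⁻¹ := by group
            _ = a := by rw [hx.2 _ h1]; group
        intro s hs
        rw [Subgroup.mem_normalizer_iff]
        intro x
        refine ⟨key s hs x, fun hx => ?_⟩
        have := key s⁻¹ (S.inv_mem hs) _ hx
        have h2 : s⁻¹ * (s * x * s⁻¹) * s⁻¹⁻¹ = x := by group
        rwa [h2] at this
      have hQ₁F := fullyNormalized_of_normalizes F hQ₁S hSQ₁
      have hNQ₁ : normalizerIn S Q₁ = S := inf_eq_left.2 hSQ₁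
      have hQ₁n : ¬ F.IsNormal Q₁ := by
        intro h
        have h1 := hmax Q₁ ⟨h, ((show centralizerIn S Q₁ ≤ centralizerIn S Q from
          inf_le_inf_left S (Subgroup.centralizer_le hQQ₁)).trans hQC).trans hQQ₁⟩
        have h2 := FusionStrong.card_lt_of_lt (lt_of_le_of_ne hQQ₁ fun h => htQ (h ▸ htQ₁)) hQ₁S
        omega
      refine FusionStrong.strong_induction hS hF A hcongr hrestr hcomp hinv ?_
      intro P f hPn hf big
      have hPS := hPn.1
      by_cases hQP : Q ≤ P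
      · by_cases hM : ∃ t ∈ normalizerIn S P, t ∉ P ∧ ∀ x ∈ A₀, t * x * t⁻¹ = x
        · obtain ⟨t, ht, htP, htA⟩ := hM
          refine step_fix (A₀ := A₀) hS hF hcongr hrestr hcomp hPn (fun f hf h1 => ?_) big (hA₀Q.trans hQP) ?_ ht htP htA hf
          · exact ha P f hf (hVA.trans (hA₀Q.trans hQP)) (fun x hx => h1 x (hVA hx))
          · intro a ha' x hx
            obtain ⟨g, -, hgf, -, hgA⟩ := hext P a ha'.1
            rw [← hgf x (hQP (hA₀Q hx))]
            exact hgA.mem hx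
        · push Not at hM
          have hQ₁P : Q₁ ≤ P := by
            refine le_of_normalizerIn_le hS hPS hQ₁S hSQ₁ fun q hq hqn => ?_
            by_contra hqP
            obtain ⟨x, hx, hne⟩ := hM q ⟨hQ₁S hq, hqn⟩ hqP
            exact hne (((hmemQ₁ q).1 hq).2 x hx)
          have hfQ₁ : FIso F Q₁ Q₁ f := by
            refine (hf.1.restrict hQ₁P).fiso_of_card hQ₁S (fun x hx => ?_) le_rfl
            obtain ⟨g, hg, hgf, -, hgA⟩ := hext P f hf.1
            rw [hmemQ₁]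
            refine ⟨hf.1.map_mem (hQ₁P hx), fun a ha => ?_⟩
            obtain ⟨b, hb, rfl⟩ := (hgA.2 a).1 ha
            have hbP := hQP (hA₀Q hb)
            rw [hgf b hbP, ← hf.1.map_inv (hQ₁P hx), ← hf.1.map_mul (hQ₁P hx) hbP,
              ← hf.1.map_mul (P.mul_mem (hQ₁P hx) hbP) (P.inv_mem (hQ₁P hx)), ((hmemQ₁ x).1 hx).2 b hb]
          refine lemA Q₁ hQ₁F hQ₁n ?_ P f hf.1 hQ₁P (by rw [hNQ₁]; exact hPS) hfQ₁
          rw [hNQ₁]
          intro P f hf h1 _ h2
          exact hb P f hf h1 h2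
      · obtain ⟨g, hg, hgf, -⟩ := hext P f hf.1
        have hlt : P < P ⊔ Q := lt_of_le_of_ne le_sup_left fun h => hQP (by rw [h]; exact le_sup_right)
        have h1 := big _ _ (FusionStrong.card_lt_of_lt hlt (sup_le hPS hQS)) hg
        exact hcongr _ _ _ (hg.restrict le_sup_left) hgf (hrestr _ _ _ hg le_sup_left h1)
  -- the main induction
  refine FusionStrong.strong_induction hS hF A hcongr hrestr hcomp hinv ?_
  intro P f hPn hf big
  have hPS := hPn.1
  have hPfin : Finite P := finite_of_le hPS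
  by_cases hPS' : P = S
  · subst hPS'
    exact hb P f hf.1 (J_le P) (fiso_J hf)
  by_cases hCP : centralizerIn S P ≤ P
  swap
  · obtain ⟨g, hg, hgf⟩ := extend_centralizer hS hF hPn hf
    have hlt : P < P ⊔ centralizerIn S P := lt_of_le_of_ne le_sup_left fun h => hCP (le_sup_right.trans h.ge)
    have h1 := big _ _ (FusionStrong.card_lt_of_lt hlt (sup_le hPS (centralizerIn_le S P))) hg
    exact hcongr _ _ _ (hg.restrict le_sup_left) hgf (hrestr _ _ _ hg le_sup_left h1)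
  have hZP : centralizerIn S S ≤ centralizerIn P P := by
    intro z hz
    obtain ⟨h3, h4⟩ := mem_center_iff.1 hz
    refine mem_center_iff.2 ⟨hCP (mem_centralizerIn.2 ⟨h3, mem_centralizer_iff'.2 fun x hx => h4 x (hPS hx)⟩),
      fun x hx => h4 x (hPS hx)⟩
  by_cases hr : F.IsRadical p P
  swap
  · refine step_radical hS hF hcongr hrestr hcomp hPn (fun s hs => ?_) big hr hf
    exact hb S _ (fmap_conj F le_rfl hs) (J_le S) (fiso_J (fiso_of_fmap_top (fmap_conj F le_rfl hs)))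
  have hcen : F.IsCentric P := (isCentric_iff_of_fullyCentralized (fullyCentralized_of_fullyNormalized hS hF hPn)).2 hCP
  obtain ⟨N, hN⟩ : ∃ N, N = normalizerIn S P := ⟨_, rfl⟩
  have hNS : N ≤ S := by rw [hN]; exact normalizerIn_le S P
  have hPN : P ≤ N := by rw [hN]; exact le_normalizerIn hPS
  have hPltN : P < N := by rw [hN]; exact lt_normalizerIn hS le_rfl (lt_of_le_of_ne hPS hPS')
  have hNfin : Finite N := finite_of_le hNS
  by_cases hJN : thompsonSubgroupAOf N ≤ P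
  swap
  · obtain ⟨t, htN, htP, htv⟩ := exists_quad (hS.to_le hNS) hPN (by rw [hN]; exact inf_le_right) hJN
    have hAP : powerClosure p 1 (centralizerIn P P) ≤ P := (pc_le _).trans (centralizerIn_le P P)
    have hVA := pc_mono (p := p) hZP
    refine step_fix (A₀ := powerClosure p 1 (centralizerIn P P)) hS hF hcongr hrestr hcomp hPn (fun f hf h1 => ?_) big hAP
      ?_ (by rw [← hN]; exact htN) htP (fun x hx => pc_conj_fixed htv hx) hf
    · exact ha P f hf (hVA.trans hAP) (fun x hx => h1 x (hVA hx))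
    · intro a ha' x hx
      exact (fiso_pc (fiso_center ha')).mem hx
  have claimB : ∀ (m : ℕ) (R : Subgroup Ω), R ≤ S → Nat.card S - Nat.card R = m → Nat.card P < Nat.card R →
      (∃ P' ≤ R, F.IsConj P P') → ∀ P₁ f₁, FMap F P₁ f₁ → thompsonSubgroupAOf R ≤ P₁ →
      P₁ ≤ normalizerIn S (thompsonSubgroupAOf R) → FIso F (thompsonSubgroupAOf R) (thompsonSubgroupAOf R) f₁ →
      A P₁ f₁ := by
    intro m
    induction m using Nat.strong_induction_on with
    | _ m ihm =>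
    intro R hRS hRm hPR hconj P₁ f₁ hf₁ hJP₁ hP₁N hf₁J
    by_cases hRS' : R = S
    · subst hRS'
      exact hb P₁ f₁ hf₁ hJP₁ hf₁J
    obtain ⟨P', hP'R, hPP'⟩ := hconj
    have hRfin : Finite R := finite_of_le hRS
    obtain ⟨U, hU⟩ : ∃ U, U = thompsonSubgroupAOf R := ⟨_, rfl⟩
    rw [← hU] at hJP₁ hP₁N hf₁J
    have hUR : U ≤ R := by rw [hU]; exact J_le R
    have hUS := hUR.trans hRS
    have hRlt : R < normalizerIn S R := lt_normalizerIn hS le_rfl (lt_of_le_of_ne hRS hRS')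
    have hNN : normalizerIn S R ≤ normalizerIn S U := by
      refine inf_le_inf_left S ?_
      rw [hU]
      exact normalizer_le R
    have hRN : R ≤ normalizerIn S U := hRlt.le.trans hNN
    have hc1 : Nat.card R < Nat.card (normalizerIn S U) :=
      FusionStrong.card_lt_of_lt (lt_of_lt_of_le hRlt hNN) (normalizerIn_le S U)
    obtain ⟨U', ρ, hU'n, hρ, hρN, hρm⟩ := exists_fullyNormalized_map hS hF hUS
    have hU'S := hU'n.1
    have hAρ : A (normalizerIn S U) ρ := big _ _ (hPR.trans hc1) hρN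
    obtain ⟨R', hR'⟩ := (hρN.restrict hRN).exists_iso
    have hJR' : thompsonSubgroupAOf R' = U' := by
      have h1 := fiso_J hR'
      rw [← hU] at h1
      ext y
      rw [h1.2, hρ.2]
    have hR'S : R' ≤ S := hR'.le_right
    have hR'N : R' ≤ normalizerIn S U' := by
      intro y hy
      obtain ⟨x, hx, rfl⟩ := (hR'.2 y).1 hy
      exact hρm x (hRN hx)
    have hR'fin : Finite R' := finite_of_le hR'S
    obtain ⟨P'', hP''⟩ := (hρN.restrict (hP'R.trans hRN)).exists_iso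
    have hP''R' : P'' ≤ R' := by
      intro y hy
      obtain ⟨x, hx, rfl⟩ := (hP''.2 y).1 hy
      exact hR'.mem (hP'R hx)
    have hPP'' : F.IsConj P P'' := isConj_trans hPP' hP''.isConj
    have hP''S : P'' ≤ S := hP''R'.trans hR'S
    have hP''fin : Finite P'' := finite_of_le hP''S
    have key : ∀ P₂ f₂, FMap F P₂ f₂ → U' ≤ P₂ → P₂ ≤ normalizerIn S U' → FIso F U' U' f₂ → A P₂ f₂ := by
      intro P₂ f₂ hf₂ hUP₂ hP₂N hf₂U
      by_cases hUn : F.IsNormal U'
      · refine claim1 ⟨U', hUn, ?_⟩ P₂ f₂ hf₂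
        have hUn' := ((isNormal_iff F).1 hUn).2
        have hcen' : F.IsCentric P'' := isCentric_of_isConj hcen hPP''
        have hr' : F.IsRadical p P'' := by
          obtain ⟨k, hk⟩ := isConj_iff_fiso.1 hPP''
          exact isRadical_of_fiso hS hk hr
        have hU'P'' : U' ≤ P'' := le_of_isNormal hS hUn hcen' hr'
        have hJP'' : thompsonSubgroupAOf P'' = U' := by
          rw [J_eq_of_le hP''R' (by rw [hJR']; exact hU'P''), hJR']
        have hSU := normalizes_of_stronglyClosed (isNormal_stronglyClosed hUn)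
        obtain ⟨T, hTdef⟩ : ∃ T, T = centralizerIn S U' ⊔ U' := ⟨_, rfl⟩
        have hTmem : ∀ x, x ∈ T ↔ ∃ c ∈ centralizerIn S U', ∃ u ∈ U', c * u = x := by
          intro x
          rw [hTdef]
          exact mem_sup_of_normalizes ((centralizerIn_le S U').trans hSU)
        have hTS : T ≤ S := by rw [hTdef]; exact sup_le (centralizerIn_le S U') hU'S
        have hT : F.StronglyClosed T := by
          rw [stronglyClosed_iff]
          refine ⟨hTS, fun P f hPT hf x hx => ?_⟩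
          obtain ⟨g, hg, hgf, hgU⟩ := hUn' P f hf
          obtain ⟨c, hc, u, hu, hcu⟩ := (hTmem x).1 (hPT hx)
          have hc' : c ∈ P ⊔ U' := by
            have h1 : c = x * u⁻¹ := by rw [← hcu]; group
            rw [h1]
            exact Subgroup.mul_mem _ (Subgroup.mem_sup_left hx) (Subgroup.mem_sup_right (U'.inv_mem hu))
          rw [← hgf x hx, ← hcu, hg.map_mul hc' (Subgroup.mem_sup_right hu)]
          rw [hTmem]
          exact ⟨g c, mem_centralizerIn.2 ⟨hg.map_mem hc', hgU.map_centralizer hg le_sup_right hc' hc.2⟩, g u,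
            hgU.mem hu, rfl⟩
        have hPT : P'' ⊓ T = U' := by
          apply le_antisymm
          · rintro x ⟨hx1, hx2⟩
            obtain ⟨c, hc, u, hu, hcu⟩ := (hTmem x).1 hx2
            have hc' : c ∈ P'' := by
              have h1 : c = x * u⁻¹ := by rw [← hcu]; group
              rw [h1]
              exact P''.mul_mem hx1 (P''.inv_mem (hU'P'' hu))
            have h2 : c ∈ centralizerIn P'' (thompsonSubgroupAOf P'') := by
              rw [hJP'']; exact mem_centralizerIn.2 ⟨hc', hc.2⟩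
            have h3 := centralizer_le P'' h2
            rw [hJP''] at h3
            rw [← hcu]
            exact U'.mul_mem h3 hu
          · exact le_inf hU'P'' (by rw [hTdef]; exact le_sup_right)
        have h1 := FusionSmall.centralizer_le_of_radical hS hF hT hcen' hr' (isConj_refl F (inf_le_left.trans hP''S))
        rw [hPT] at h1
        intro c hc
        exact h1 (mem_centralizerIn.2 ⟨by rw [hTdef]; exact Subgroup.mem_sup_left hc, hc.2⟩)
      · refine lemA U' hU'n hUn ?_ P₂ f₂ hf₂ hUP₂ hP₂N hf₂U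
        intro P₃ f₃ hf₃ hJ₃ hP₃ hf₃J
        have hcle : Nat.card (normalizerIn S U) ≤ Nat.card (normalizerIn S U') :=
          hρN.card_image_le (fun x hx => hρm x hx) (normalizerIn_le S U')
        have hcS : Nat.card (normalizerIn S U') ≤ Nat.card S :=
          Nat.card_le_card_of_injective _ (Subgroup.inclusion_injective (normalizerIn_le S U'))
        refine ihm (Nat.card S - Nat.card (normalizerIn S U')) (by omega) (normalizerIn S U') (normalizerIn_le S U') rfl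
          (by omega) ⟨P'', hP''R'.trans hR'N, hPP''⟩ P₃ f₃ hf₃ hJ₃ ?_ hf₃J
        refine le_inf (hP₃.trans (normalizerIn_le S U')) (hP₃.trans ?_)
        exact Subgroup.le_normalizer.trans (normalizer_le _)
    -- transport by ρ
    obtain ⟨P₁', hP₁'⟩ := hf₁.exists_iso
    have hP₁'N : P₁' ≤ normalizerIn S U := by
      intro y hy
      obtain ⟨x, hx, rfl⟩ := (hP₁'.2 y).1 hy
      exact mem_normalizerIn.2 ⟨hf₁.map_mem hx, hf₁J.map_normalizer hf₁ hJP₁ hx (hP₁N hx).2⟩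
    obtain ⟨X, hX⟩ := (hρN.restrict hP₁N).exists_iso
    obtain ⟨ρ₁, hρ₁, hρ₁1, hρ₁2⟩ := hX.symm
    obtain ⟨Y, hY⟩ := (hρN.restrict hP₁'N).exists_iso
    obtain ⟨ρ₂, hρ₂, hρ₂1, hρ₂2⟩ := hY.symm
    have hAX : A P₁ ρ := hrestr _ _ _ hρN hP₁N hAρ
    have hAY : A P₁' ρ := hrestr _ _ _ hρN hP₁'N hAρ
    have hAY' : A Y ρ₂ := hinv _ _ _ _ hY hρ₂ hρ₂1 hAY
    have hθ : FIso F X Y (fun x => ρ (f₁ (ρ₁ x))) := (hρ₁.trans hP₁').trans hY
    have hUX : U' ≤ X := by
      intro y hy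
      obtain ⟨x, hx, rfl⟩ := (hρ.2 y).1 hy
      exact hX.mem (hJP₁ hx)
    have hXN : X ≤ normalizerIn S U' := by
      intro y hy
      obtain ⟨x, hx, rfl⟩ := (hX.2 y).1 hy
      exact hρm x (hP₁N hx)
    have hθU : FIso F U' U' (fun x => ρ (f₁ (ρ₁ x))) := by
      refine (hθ.1.restrict hUX).fiso_of_card hU'S (fun y hy => ?_) le_rfl
      obtain ⟨x, hx, rfl⟩ := (hρ.2 y).1 hy
      show ρ (f₁ (ρ₁ (ρ x))) ∈ U'
      rw [hρ₁1 x (hJP₁ hx)]
      exact hρ.mem (hf₁J.mem hx)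
    have hAθ := key X _ hθ.1 hUX hXN hθU
    have h1 : A P₁ (fun x => ρ (f₁ (ρ₁ (ρ x)))) := hcomp P₁ X ρ (fun x => ρ (f₁ (ρ₁ x))) hX hθ.1 hAX hAθ
    have h2 : A P₁ (fun x => ρ₂ (ρ (f₁ (ρ₁ (ρ x))))) :=
      hcomp P₁ Y (fun x => ρ (f₁ (ρ₁ (ρ x)))) ρ₂ (hX.trans hθ) hρ₂.1 h1 hAY'
    refine hcongr _ _ _ (((hX.trans hθ).trans hρ₂).1) (fun x hx => ?_) h2
    rw [hρ₁1 x hx, hρ₂1 _ (hP₁'.mem hx)]
  -- conclusion
  have hJ : thompsonSubgroupAOf P = thompsonSubgroupAOf N := J_eq_of_le hPN hJN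
  refine claimB _ N hNS rfl (FusionStrong.card_lt_of_lt hPltN hNS) ⟨P, hPN, isConj_refl F hPS⟩ P f hf.1 hJN ?_ ?_
  · exact le_inf hPS (hPN.trans (Subgroup.le_normalizer.trans (normalizer_le N)))
  · rw [← hJ]
    exact fiso_J hf

end Cfsg.Agent.Lib.FusionAgemoJ
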