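import Mathlib
import Cfsg.Agent.Lib.FusionInvar
import Cfsg.Agent.Lib.FusionNormal
import Cfsg.Agent.Lib.FusionInner

/-!
The inner system of a subgroup normal in `F` is a normal subsystem of `F`.
-/

set_option autoImplicit false
open Cfsg Cfsg.FusionSystem Cfsg.Agent.Lib.FusionBasic Cfsg.Agent.Lib.FusionSat Cfsg.Agent.Lib.FusionNormal
  Cfsg.Agent.Lib.FusionInvar

namespace Cfsg.Agent.Lib.FusionInnerN

variable {Ω : Type*} [Group Ω] {S T U : Subgroup Ω} {F : FusionSystem S} {E : FusionSystem T} {P Q R M X Y Z : Subgroup Ω}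
  {a b f g : Ω → Ω} {p : ℕ}

theorem inner_inv (hQ : F.IsNormal Q) : Inv (innerFusionSystem Q) F := by
  have hQS := hQ.1
  refine ⟨?_, isNormal_stronglyClosed hQ, ?_, ?_⟩
  · rw [isSubsystemOf_iff]
    intro P f hf
    obtain ⟨hP, g, hg, h⟩ := fmap_inner_iff.1 hf
    exact (fmap_conj F (hP.trans hQS) (hQS hg)).congr fun x hx => (h x hx).symm
  · intro P P' a f ha hf hP'
    obtain ⟨hP, g, hg, h⟩ := fmap_inner_iff.1 hf
    refine ⟨fun x => a g * x * (a g)⁻¹, fmap_inner_iff.2 ⟨fun y hy => ?_, a g, ha.mem hg, fun _ _ => rfl⟩, fun x hx => ?_⟩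
    · obtain ⟨x, hx, rfl⟩ := (hP' y).1 hy
      exact ha.mem (hP hx)
    · show a g * a x * (a g)⁻¹ = a (f x)
      rw [h x hx, ha.1.map_conj hg (hP hx)]
  · intro P f hP hf
    obtain ⟨-, h⟩ := (isNormal_iff F).1 hQ
    obtain ⟨g, hg, h1, h2⟩ := h P f hf
    refine ⟨g, fun x => x, h2, fmap_inner_iff.2 ⟨hP, 1, Subgroup.one_mem _, fun x _ => by group⟩, fun x hx => (h1 x hx).symm⟩

theorem inner_ext [Finite S] (hQS : Q ≤ S) : Ext (innerFusionSystem Q) F := by
  intro a ha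
  obtain ⟨-, q, hq, h⟩ := fmap_inner_iff.1 ha.1
  have hle : Q ⊔ centralizerIn S Q ≤ S := sup_le hQS (centralizerIn_le S Q)
  refine ⟨fun x => q * x * q⁻¹, (fmap_conj F hle (hQS hq)).fiso_of_card hle (fun x hx => ?_) le_rfl, fun x hx => (h x hx).symm,
    fun c hc => ?_⟩
  · have hq' : q ∈ Q ⊔ centralizerIn S Q := Subgroup.mem_sup_left hq
    exact Subgroup.mul_mem _ (Subgroup.mul_mem _ hq' hx) (Subgroup.inv_mem _ hq')
  · have h1 : c⁻¹ * (q * c * q⁻¹) = 1 := by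
      rw [Subgroup.mem_centralizer_iff.1 hc.2 q hq]; group
    show c⁻¹ * (q * c * q⁻¹) ∈ Q ∧ c⁻¹ * (q * c * q⁻¹) ∈ Subgroup.centralizer (Q : Set Ω)
    rw [h1]
    exact ⟨Subgroup.one_mem _, Subgroup.one_mem _⟩

theorem inner_isNormalIn [Finite S] [Fact p.Prime] (hS : IsPGroup p S) (hF : F.IsSaturated p) (hQ : F.IsNormal Q) :
    (innerFusionSystem Q).IsNormalIn F p := by
  have hfin : Finite Q := finite_of_le hQ.1
  rw [isNormalIn_iff]
  exact ⟨Cfsg.Agent.Lib.FusionInner.inner_isSaturated (isPGroup_of_le hS hQ.1), hF, inner_inv hQ, inner_ext hQ.1⟩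

/-- A simple system has no normal subgroup, unless it is the inner system of its group. -/
theorem core_eq_bot_of_simple [Finite S] [Fact p.Prime] (hS : IsPGroup p S) (hF : F.IsSimple p)
    (hne : F.hyperfocalSubgroup p ≠ ⊥) (hQ : F.IsNormal Q) : Q = ⊥ := by
  rcases hF.2.2 Q _ (inner_isNormalIn hS hF.1 hQ) with h | ⟨rfl, h⟩
  · exact h
  · exfalso
    apply hne
    have h1 : innerFusionSystem Q = F := fusion_ext h
    rw [← h1]
    exact Cfsg.Agent.Lib.FusionInner.inner_hyp hS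

end Cfsg.Agent.Lib.FusionInnerN
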