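import Mathlib
import Cfsg.Agent.Lib.FusionDich
import Cfsg.Agent.Lib.FusionInnerN

/-!
The layer of a saturated fusion system.
-/

set_option autoImplicit false
open Cfsg Cfsg.FusionSystem Cfsg.Agent.Lib.FusionBasic Cfsg.Agent.Lib.FusionSat Cfsg.Agent.Lib.FusionNormal
  Cfsg.Agent.Lib.FusionInvar Cfsg.Agent.Lib.FusionTools Cfsg.Agent.Lib.FusionPP Cfsg.Agent.Lib.FusionStrong
  Cfsg.Agent.Lib.FusionSys Cfsg.Agent.Lib.FusionFrat Cfsg.Agent.Lib.FusionPrime Cfsg.Agent.Lib.FusionTC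
  Cfsg.Agent.Lib.FusionClosed Cfsg.Agent.Lib.FusionStab Cfsg.Agent.Lib.FusionZeta Cfsg.Agent.Lib.FusionDich
open Cfsg.Agent.Lib.FusionPPower (Same hyperfocal_mono)

namespace Cfsg.Agent.Lib.FusionLayer

variable {Ω : Type*} [Group Ω] {S T V K U W : Subgroup Ω} {F : FusionSystem S} {E : FusionSystem T} {C : FusionSystem K}
  {D : FusionSystem U} {P Q R M X Y Z N : Subgroup Ω} {a b f g k σ : Ω → Ω} {p : ℕ}

theorem inv_self [Finite S] : Inv F F where
  sub := sub_refl F
  closed := stronglyClosed_top F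
  conj := by
    intro P Q a f ha hf hQ
    obtain ⟨a', ha', e1, e2⟩ := ha.symm
    have hQS : Q ≤ S := fun y hy => by
      obtain ⟨x, hx, rfl⟩ := (hQ y).1 hy
      exact ha.mem (hf.le hx)
    refine ⟨fun y => a (f (a' y)), ((ha'.1.restrict hQS).comp hf fun y hy => ?_).comp ha.1 fun y hy => ?_, fun x hx => ?_⟩
    · obtain ⟨x, hx, rfl⟩ := (hQ y).1 hy
      rw [e1 x (hf.le hx)]; exact hx
    · obtain ⟨x, hx, rfl⟩ := (hQ y).1 hy
      rw [e1 x (hf.le hx)]
      exact hf.map_mem hx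
    · show a (f (a' (a x))) = _
      rw [e1 x (hf.le hx)]
  frattini := by
    intro P f hP hf
    exact ⟨fun x => x, f, FIso.refl F le_rfl, hf, fun _ _ => rfl⟩

theorem isNormalIn_self [Finite S] (hF : F.IsSaturated p) : F.IsNormalIn F p := by
  refine isNormalIn_iff.2 ⟨hF, hF, inv_self, fun a ha => ?_⟩
  have h1 : S ⊔ centralizerIn S S = S := sup_eq_left.2 (centralizerIn_le S S)
  rw [h1]
  refine ⟨a, ha, fun _ _ => rfl, fun c hc => ⟨S.mul_mem (S.inv_mem hc.1) (ha.mem hc.1), mem_centralizer_iff'.2 fun t ht => ?_⟩⟩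
  obtain ⟨t', ht', rfl⟩ := ha.mem_iff.1 ht
  have h2 := mem_centralizer_iff'.1 hc.2 t' ht'
  have h3 := mem_centralizer_iff'.1 hc.2 (a t') ht
  have h4 : a c * a t' * (a c)⁻¹ = a t' := by rw [← ha.1.map_conj hc.1 ht', h2]
  calc c⁻¹ * a c * a t' * (c⁻¹ * a c)⁻¹ = c⁻¹ * (a c * a t' * (a c)⁻¹) * c := by group
    _ = c⁻¹ * (c * a t' * c⁻¹) * c := by rw [h4, h3]
    _ = a t' := by group

/-- a component commuting with `E` cannot lie in `E`'s group -/
theorem not_perp [Finite S] [Fact p.Prime] (hS : IsPGroup p S) (hC : C.IsComponentIn F p) (hP : Perp F C E) : ¬ K ≤ T := by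
  intro hK
  have hKS : K ≤ S := sub_le (subnormal_sub hC.1)
  have hKfin : Finite K := finite_of_le hKS
  refine not_self_cent (isPGroup_of_le hS hKS) hC.2 fun x hx y hy => ?_
  exact mem_centralizer_iff'.1 (hP.2.1 hx).2 y (hK hy)

/-- The components commuting with `E` are components of the centralizer of `E`. -/
theorem comp_in_cent [Finite S] [Fact p.Prime] (hS : IsPGroup p S) (hC : C.IsComponentIn F p)
    (hP : Perp F C E) {G : FusionSystem (cenS F E)} (hG : G.IsNormalIn F p) : C.IsComponentIn G p := by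
  rcases dichotomy _ hS F (isNormalIn_iff.1 hG).2.1 rfl G C hG hC with h | h
  · exact h
  · exact absurd (le_cenS hP.2) (not_perp hS hC h)

theorem comp_in_meet [Finite S] [Fact p.Prime] (hS : IsPGroup p S) (hC : C.IsComponentIn F p)
    (hE : E.IsNormalIn F p) (hK : K ≤ T) : C.IsComponentIn E p := by
  rcases dichotomy _ hS F (isNormalIn_iff.1 hE).2.1 rfl E C hE hC with h | h
  · exact h
  · exact absurd hK (not_perp hS hC h)

theorem exists_layer [Finite S] [Fact p.Prime] (hS : IsPGroup p S) (hF : F.IsSaturated p) :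
    ∃ (T : Subgroup Ω) (E : FusionSystem T), E.IsLayerOf F p := by
  classical
  have hex : ∃ n : ℕ, ∃ (T : Subgroup Ω) (E : FusionSystem T), E.IsNormalIn F p ∧
      (∀ (U : Subgroup Ω) (C : FusionSystem U), C.IsComponentIn F p → C.IsSubsystemOf E) ∧ mu E = n :=
    ⟨mu F, S, F, isNormalIn_self hF, fun U C hC => subnormal_sub hC.1, rfl⟩
  obtain ⟨T, E, hE, hc, hn⟩ := Nat.find_spec hex
  refine ⟨T, E, hE, hc, fun R D hD hDc => ?_⟩
  obtain ⟨M, ⟨hMF, hME, hMD⟩, -⟩ := Cfsg.Agent.S5129.result p hS F hF E D hE hD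
  have hTfin : Finite T := finite_of_le (isNormalIn_iff.1 hE).2.2.1.closed.1
  have hMc : ∀ (U : Subgroup Ω) (C : FusionSystem U), C.IsComponentIn F p → C.IsSubsystemOf M := fun U C hC =>
    subnormal_sub (comp_in_meet hS hC hMF (le_inf (sub_le (hc U C hC)) (sub_le (hDc U C hC)))).1
  by_cases hs : Same M E
  · have h1 : E.IsSubsystemOf M := fun P => by rw [hs.2 P]
    exact sub_trans h1 (isNormalIn_iff.1 hMD).2.2.1.sub
  · exfalso
    have h1 := mu_lt (isNormalIn_iff.1 hME).2.2.1.sub hs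
    rw [hn] at h1
    exact Nat.find_min hex h1 ⟨_, M, hMF, hMc, rfl⟩

theorem perp_core [Finite S] [Fact p.Prime] (hS : IsPGroup p S) (hF : F.IsSaturated p) (hC : C.IsComponentIn F p)
    (hQ : F.IsNormal Q) : Perp F C (innerFusionSystem Q) := by
  rcases dichotomy _ hS F hF rfl _ C (Cfsg.Agent.Lib.FusionInnerN.inner_isNormalIn hS hF hQ) hC with h | h
  · exfalso
    have hs := subnormal_sub h.1
    have hQS : Q ≤ S := hQ.1
    have hQfin : Finite Q := finite_of_le hQS
    have hKfin : Finite K := finite_of_le ((sub_le hs).trans hQS)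
    have h1 := hyperfocal_mono (p := p) hs
    rw [component_hyp hC.2, Cfsg.Agent.Lib.FusionInner.inner_hyp (isPGroup_of_le hS hQS)] at h1
    refine not_self_cent (isPGroup_of_le hS ((sub_le hs).trans hQS)) hC.2 fun x hx y hy => ?_
    rw [Subgroup.mem_bot.1 (h1 hx), Subgroup.mem_bot.1 (h1 hy)]
    group
  · exact h

/-- The layer centralizes every normal subgroup. -/
theorem layer_cen [Finite S] [Fact p.Prime] (hS : IsPGroup p S) (hF : F.IsSaturated p) (hE : E.IsLayerOf F p)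
    (hQ : F.IsNormal Q) : Cen F E Q := by
  obtain ⟨G, hG, hGc⟩ := exists_cent hS (Cfsg.Agent.Lib.FusionInnerN.inner_isNormalIn hS hF hQ)
  have h1 := hE.2.2 _ G hG fun U C hC => subnormal_sub (comp_in_cent hS hC (perp_core hS hF hC hQ) hG).1
  exact cen_anti h1 hGc

end Cfsg.Agent.Lib.FusionLayer
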