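import Mathlib
import Cfsg.Agent.Lib.FusionNormal
import Cfsg.Agent.Lib.FusionInvar
import Cfsg.Agent.Lib.FusionTools
import Cfsg.Agent.Lib.FusionClosed
import Cfsg.Agent.Lib.FusionPPower

/-!
Automorphisms of order prime to `p` in fusion systems, untyped forms.
-/

set_option autoImplicit false
open Cfsg Cfsg.FusionSystem Cfsg.Agent.Lib.FusionBasic Cfsg.Agent.Lib.FusionSat Cfsg.Agent.Lib.FusionNormal
  Cfsg.Agent.Lib.FusionInvar Cfsg.Agent.Lib.FusionTools

namespace Cfsg.Agent.Lib.FusionPP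

variable {Ω : Type*} [Group Ω] {S T : Subgroup Ω} {F : FusionSystem S} {E : FusionSystem T} {P Q R M X Y Z : Subgroup Ω}
  {a b f g : Ω → Ω} {p : ℕ}

theorem iter_mem (h : FIso F M M a) {x : Ω} (hx : x ∈ M) : ∀ k : ℕ, a^[k] x ∈ M
  | 0 => hx
  | k + 1 => by rw [Function.iterate_succ_apply']; exact h.mem (iter_mem h hx k)

theorem iter_mem' (h : ∀ x ∈ X, a x ∈ X) {x : Ω} (hx : x ∈ X) : ∀ k : ℕ, a^[k] x ∈ X
  | 0 => hx
  | k + 1 => by rw [Function.iterate_succ_apply']; exact h _ (iter_mem' h hx k)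

theorem fiso_iter (h : FIso F M M a) : ∀ k : ℕ, FIso F M M (a^[k])
  | 0 => FIso.refl F h.le_left
  | k + 1 => by
    have := (fiso_iter h k).trans h
    exact this.congr fun x _ => (Function.iterate_succ_apply' a k x).symm

theorem equiv_pow_apply (h : FIso F M M a) (k : ℕ) (x : M) : (((h.equiv : MulAut M) ^ k) x : Ω) = a^[k] x := by
  induction k with
  | zero => rfl
  | succ k ih =>
    rw [pow_succ', MulAut.mul_apply, Function.iterate_succ_apply', ← ih]
    rfl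

omit [Group Ω] in
theorem iter_fix_mul {n : ℕ} {x : Ω} (h : a^[n] x = x) (q : ℕ) : a^[n * q] x = x := by
  rw [Function.iterate_mul]
  exact Function.iterate_fixed h q

/-- An `F`-automorphism of `M` of order prime to `p`. -/
def PP (F : FusionSystem S) (p : ℕ) (M : Subgroup Ω) (a : Ω → Ω) : Prop :=
  FIso F M M a ∧ ∃ n : ℕ, ¬ p ∣ n ∧ ∀ x ∈ M, a^[n] x = x

theorem PP.iso (h : PP F p M a) : FIso F M M a := h.1

theorem PP.map (h : PP F p M a) : FMap F M a := h.1.1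

theorem PP.mem (h : PP F p M a) {x : Ω} (hx : x ∈ M) : a x ∈ M := h.1.mem hx

theorem PP.le (h : PP F p M a) : M ≤ S := h.1.le_left

theorem iter_congr (hab : ∀ x ∈ M, a x = b x) (ha : ∀ x ∈ M, a x ∈ M) {x : Ω} (hx : x ∈ M) :
    ∀ k : ℕ, a^[k] x = b^[k] x
  | 0 => rfl
  | k + 1 => by
    rw [Function.iterate_succ_apply', Function.iterate_succ_apply', ← iter_congr hab ha hx k]
    exact hab _ (iter_mem' ha hx k)

theorem PP.congr (h : PP F p M a) (hab : ∀ x ∈ M, a x = b x) : PP F p M b := by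
  obtain ⟨h1, n, hn, h2⟩ := h
  exact ⟨h1.congr hab, n, hn, fun x hx => by rw [← iter_congr hab (fun y hy => h1.mem hy) hx n]; exact h2 x hx⟩

theorem fiso_restrict [Finite S] (h : FMap F M a) (hX : X ≤ M) (hXa : ∀ x ∈ X, a x ∈ X) : FIso F X X a :=
  (h.restrict hX).fiso_of_card (hX.trans h.le) hXa le_rfl

theorem PP.restrict [Finite S] (h : PP F p M a) (hX : X ≤ M) (hXa : ∀ x ∈ X, a x ∈ X) : PP F p X a := by
  obtain ⟨h1, n, hn, h2⟩ := h
  exact ⟨fiso_restrict h1.1 hX hXa, n, hn, fun x hx => h2 x (hX hx)⟩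

theorem PP.iter (h : PP F p M a) (k : ℕ) : PP F p M (a^[k]) := by
  obtain ⟨h1, n, hn, h2⟩ := h
  refine ⟨fiso_iter h1 k, n, hn, fun x hx => ?_⟩
  rw [← Function.iterate_mul, mul_comm, Function.iterate_mul]
  exact Function.iterate_fixed (h2 x hx) k

theorem PP.id (hM : M ≤ S) [Fact p.Prime] : PP F p M (fun x => x) :=
  ⟨FIso.refl F hM, 1, fun h => (Fact.out : p.Prime).one_lt.ne' (Nat.dvd_one.1 h), fun _ _ => rfl⟩

theorem pp_of_aut [Fact p.Prime] (hP : P ≤ S) {α : MulAut P} (hα : α ∈ F.autGroup P) (ho : (orderOf α).Coprime p) :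
    PP F p P (autFun α) := by
  refine ⟨(fiso_autFun_iff hP).2 hα, orderOf α, fun h => ?_, fun x hx => ?_⟩
  · have := Nat.Coprime.eq_one_of_dvd (Nat.Coprime.symm ho) h
    exact (Fact.out : p.Prime).one_lt.ne' this
  · have : ∀ (k : ℕ), (autFun α)^[k] x = autFun (α ^ k) x := by
      intro k
      induction k with
      | zero => exact (autFun_one hx).symm
      | succ k ih => rw [Function.iterate_succ_apply', ih, pow_succ', autFun_mul _ _ hx]
    rw [this, pow_orderOf_eq_one, autFun_one hx]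

theorem PP.order [Fact p.Prime] (h : PP F p P a) : (orderOf (h.1.equiv : MulAut P)).Coprime p := by
  obtain ⟨h1, n, hn, h2⟩ := h
  have h3 : (h1.equiv : MulAut P) ^ n = 1 := by
    ext x
    rw [equiv_pow_apply]
    exact h2 x x.2
  exact Nat.Coprime.coprime_dvd_left (orderOf_dvd_of_pow_eq_one h3)
    (((Fact.out : p.Prime).coprime_iff_not_dvd.2 hn).symm)

theorem PP.aut_mem (h : PP F p P a) : (h.1.equiv : MulAut P) ∈ F.autGroup P := h.1.equiv_mem_autGroup

theorem pp_sub (hs : E.IsSubsystemOf F) (h : PP E p M a) : PP F p M a := ⟨sub_fiso hs h.1, h.2⟩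

/-- transport of a `p'`-automorphism -/
theorem PP.transport (h : PP F p M a) (hf : FIso F M Q f) (hg : FIso F Q M g) (hgf : ∀ x ∈ M, g (f x) = x)
    (hfg : ∀ y ∈ Q, f (g y) = y) : PP F p Q (fun y => f (a (g y))) := by
  obtain ⟨h1, n, hn, h2⟩ := h
  refine ⟨(hg.trans h1).trans hf, n, hn, fun y hy => ?_⟩
  have : ∀ k : ℕ, (fun y => f (a (g y)))^[k] y = f (a^[k] (g y)) := by
    intro k
    induction k with
    | zero => exact (hfg y hy).symm
    | succ k ih =>
      rw [Function.iterate_succ_apply', ih, Function.iterate_succ_apply']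
      show f (a (g (f (a^[k] (g y))))) = _
      rw [hgf _ (iter_mem h1 (hg.mem hy) k)]
  rw [this, h2 _ (hg.mem hy), hfg y hy]

/-- The inverse of a `p'`-automorphism is one. -/
theorem PP.inv (h : PP F p M a) : ∃ b, PP F p M b ∧ (∀ x ∈ M, b (a x) = x) ∧ ∀ x ∈ M, a (b x) = x := by
  obtain ⟨h1, n, hn, h2⟩ := h
  obtain ⟨b, hb, h3, h4⟩ := h1.symm
  refine ⟨b, ⟨hb, n, hn, fun x hx => ?_⟩, h3, h4⟩
  have : ∀ k : ℕ, ∀ x ∈ M, b^[k] (a^[k] x) = x := by
    intro k
    induction k with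
    | zero => intro x _; rfl
    | succ k ih =>
      intro x hx
      rw [Function.iterate_succ_apply, Function.iterate_succ_apply', h3 _ (iter_mem h1 hx k)]
      exact ih x hx
  have h5 := this n x hx
  rwa [h2 x hx] at h5

theorem exists_order [Finite S] (h : FIso F M M a) : ∃ N : ℕ, N ≠ 0 ∧ ∀ x ∈ M, a^[N] x = x := by
  have : Finite M := finite_of_le h.le_left
  refine ⟨orderOf (h.equiv : MulAut M), (orderOf_pos _).ne', fun x hx => ?_⟩
  have h1 := equiv_pow_apply h (orderOf (h.equiv : MulAut M)) ⟨x, hx⟩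
  rw [pow_orderOf_eq_one] at h1
  exact h1.symm

/-- An automorphism acting with order prime to `p` on `X` has a power of order prime to `p` that agrees with it on
`X`. -/
theorem exists_pp_power [Finite S] [Fact p.Prime] (h : FIso F M M a) {n : ℕ} (hn : ¬ p ∣ n)
    (hfix : ∀ x ∈ X, a^[n] x = x) : ∃ k : ℕ, PP F p M (a^[k]) ∧ ∀ x ∈ X, a^[k] x = a x := by
  obtain ⟨N, hN, h1⟩ := exists_order h
  obtain ⟨e, m, hm, hNe⟩ := Nat.exists_eq_pow_mul_and_not_dvd hN p (Fact.out : p.Prime).ne_one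
  have hcop : (p ^ e).Coprime n := Nat.Coprime.pow_left e ((Fact.out : p.Prime).coprime_iff_not_dvd.2 hn)
  obtain ⟨k, hk0, hk1⟩ := Nat.chineseRemainder hcop 0 1
  -- k ≡ 0 mod p^e; k ≡ 1 mod n
  have hk0' : p ^ e ∣ k := (Nat.modEq_zero_iff_dvd).1 hk0
  refine ⟨k + p ^ e * n, ⟨fiso_iter h _, m, hm, fun x hx => ?_⟩, fun x hx => ?_⟩
  · obtain ⟨c, rfl⟩ := hk0'
    rw [← Function.iterate_mul]
    have : (p ^ e * c + p ^ e * n) * m = N * (c + n) := by rw [hNe]; ring
    rw [this]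
    exact iter_fix_mul (h1 x hx) _
  · have h2 : 1 ≤ k + p ^ e * n ∨ k + p ^ e * n = 0 := by omega
    rcases h2 with h2 | h2
    · have h3 : n ∣ k + p ^ e * n - 1 := by
        have h4 : 1 ≡ k + p ^ e * n [MOD n] := by
          have := (hk1.symm).add_right (p ^ e * n)
          refine Nat.ModEq.trans ?_ this
          have h5 : p ^ e * n ≡ 0 [MOD n] := (Nat.modEq_zero_iff_dvd).2 (Dvd.intro_left _ rfl)
          simpa using (h5.add_left 1).symm
        exact (Nat.modEq_iff_dvd' h2).1 h4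
      obtain ⟨q, hq⟩ := h3
      have h4 : k + p ^ e * n = n * q + 1 := by omega
      rw [h4, Function.iterate_succ_apply', iter_fix_mul (hfix x hx)]
    · have hpe : p ^ e ≠ 0 := (Nat.pow_pos (Fact.out : p.Prime).pos).ne'
      have hn0 : n = 0 := by
        have : p ^ e * n = 0 := by omega
        rcases Nat.mul_eq_zero.1 this with h3 | h3
        · exact absurd h3 hpe
        · exact h3
      exact absurd (hn0 ▸ dvd_zero p) hn

theorem mul_pow_mod {y z : Ω} (hz : z ∈ Z) (hn : ∀ w ∈ Z, y⁻¹ * w * y ∈ Z) : ∀ k : ℕ, (y ^ k)⁻¹ * (y * z) ^ k ∈ Z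
  | 0 => by simp
  | k + 1 => by
    have h1 := mul_pow_mod hz hn k
    have h2 : (y ^ (k + 1))⁻¹ * (y * z) ^ (k + 1) = y⁻¹ * ((y ^ k)⁻¹ * (y * z) ^ k) * y * z := by
      rw [pow_succ, pow_succ]; group
    rw [h2]
    exact Subgroup.mul_mem _ (hn _ h1) hz

/-- The coprime step: if `a` moves `x` by an element `y` of `Y` and acts trivially on `Y` modulo `Z`, then
`y ∈ Z`. -/
theorem PP.step [Fact p.Prime] (hS : IsPGroup p S) (h : PP F p M a) (hYM : Y ≤ M) (hZY : Z ≤ Y)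
    (hn : ∀ y ∈ Y, ∀ z ∈ Z, y⁻¹ * z * y ∈ Z) {x : Ω} (hx : x ∈ M) (h1 : x⁻¹ * a x ∈ Y)
    (h2 : ∀ y ∈ Y, y⁻¹ * a y ∈ Z) : x⁻¹ * a x ∈ Z := by
  obtain ⟨ha, n, hpn, hfix⟩ := h
  have haZ : ∀ z ∈ Z, a z ∈ Z := fun z hz => by
    have := Subgroup.mul_mem _ hz (h2 z (hZY hz))
    rwa [mul_inv_cancel_left] at this
  set y := x⁻¹ * a x with hy
  have hyM : y ∈ M := hYM h1
  have key : ∀ k : ℕ, (x * y ^ k)⁻¹ * a^[k] x ∈ Z := by
    intro k
    induction k with
    | zero => simp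
    | succ k ih =>
      rw [Function.iterate_succ_apply']
      obtain ⟨z, hz⟩ : ∃ z, z = (x * y ^ k)⁻¹ * a^[k] x := ⟨_, rfl⟩
      have hzZ : z ∈ Z := hz ▸ ih
      have hzM : z ∈ M := hYM (hZY hzZ)
      have h3 : a^[k] x = x * y ^ k * z := by rw [hz]; group
      have hxy : x * y ^ k ∈ M := Subgroup.mul_mem _ hx (Subgroup.pow_mem _ hyM k)
      have hay : a y = y * (y⁻¹ * a y) := by group
      have hax : a x = x * y := by rw [hy]; group
      rw [h3, ha.1.map_mul hxy hzM, ha.1.map_mul hx (Subgroup.pow_mem _ hyM k), ha.1.map_pow hyM, hay, hax]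
      have h4 : (x * y ^ (k + 1))⁻¹ * (x * y * (y * (y⁻¹ * a y)) ^ k * a z) =
          ((y ^ k)⁻¹ * (y * (y⁻¹ * a y)) ^ k) * a z := by
        rw [pow_succ']; group
      rw [h4]
      exact Subgroup.mul_mem _ (mul_pow_mod (h2 y h1) (fun w hw => hn y h1 w hw) k) (haZ z hzZ)
  have h5 := key n
  rw [hfix x hx] at h5
  have h6 : (y ^ n)⁻¹ ∈ Z := by
    have : (x * y ^ n)⁻¹ * x = (y ^ n)⁻¹ := by group
    rwa [this] at h5
  have h7 : y ^ n ∈ Z := inv_mem_iff.1 h6
  have hyS : y ∈ S := ha.le_left hyM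
  obtain ⟨e, he⟩ := hS ⟨y, hyS⟩
  have he' : y ^ p ^ e = 1 := congrArg Subtype.val he
  have hcop : Nat.Coprime n (p ^ e) := Nat.Coprime.pow_right e ((Fact.out : p.Prime).coprime_iff_not_dvd.2 hpn).symm
  have h8 : (y ^ n) ^ (Nat.gcdA n (p ^ e)) = y := by
    have h9 := Nat.gcd_eq_gcd_ab n (p ^ e)
    rw [hcop] at h9
    have h10 : y ^ ((n : ℤ) * Nat.gcdA n (p ^ e) + ((p ^ e : ℕ) : ℤ) * Nat.gcdB n (p ^ e)) = y := by
      rw [← h9]; simp
    rw [zpow_add, zpow_mul, zpow_mul, zpow_natCast, zpow_natCast, he', one_zpow, mul_one] at h10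
    exact h10
  rw [← h8]
  exact Subgroup.zpow_mem _ h7 _

/-- the coprime step with trivial `Z` -/
theorem PP.fix [Fact p.Prime] (hS : IsPGroup p S) (h : PP F p M a) (hYM : Y ≤ M) {x : Ω} (hx : x ∈ M)
    (h1 : x⁻¹ * a x ∈ Y) (h2 : ∀ y ∈ Y, a y = y) : a x = x := by
  have := h.step hS hYM (Z := ⊥) bot_le (fun y _ z hz => by
    rw [Subgroup.mem_bot] at hz ⊢; rw [hz]; group) hx h1 (fun y hy => by
    rw [h2 y hy, inv_mul_cancel]; exact Subgroup.one_mem _)
  rw [Subgroup.mem_bot, inv_mul_eq_one] at this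
  exact this.symm

/-- A `p'`-automorphism acting on `M` trivially modulo a normal subgroup `Y` has fixed points in every coset. -/
theorem PP.exists_fixed [Finite S] [Fact p.Prime] (hS : IsPGroup p S) (h : PP F p M a)
    (hn : ∀ m ∈ M, ∀ y ∈ Y, m * y * m⁻¹ ∈ Y) (h1 : ∀ x ∈ M, x⁻¹ * a x ∈ Y) {x : Ω} (hx : x ∈ M) :
    ∃ u ∈ Y, ∃ c ∈ M, a c = c ∧ u * c = x := by
  have : Finite M := finite_of_le h.le
  have hN : (Y.subgroupOf M).Normal := ⟨fun y hy m => by
    rw [Subgroup.mem_subgroupOf] at hy ⊢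
    exact hn m m.2 y hy⟩
  obtain ⟨u, hu, c, hc, huc⟩ := Cfsg.Agent.Lib.FusionPPower.exists_fixed_mul (isPGroup_of_le hS h.le)
    (h.1.equiv : MulAut M) h.order (Y.subgroupOf M) (fun y => by
      rw [Subgroup.mem_subgroupOf]; exact h1 y y.2) ⟨x, hx⟩
  refine ⟨u, hu, c, c.2, congrArg Subtype.val hc, congrArg Subtype.val huc⟩

/-- Generation of automorphism groups of fully automized subgroups by inner maps and `p'`-maps. -/
theorem fiso_induction [Finite S] [Fact p.Prime] (hP : F.IsFullyAutomized p P) (C : (Ω → Ω) → Prop)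
    (hcongr : ∀ f g, C f → (∀ x ∈ P, f x = g x) → C g)
    (hconj : ∀ s ∈ normalizerIn S P, C (fun x => s * x * s⁻¹))
    (hcomp : ∀ f g, FIso F P P f → FIso F P P g → C f → C g → C (fun x => g (f x)))
    (hinv : ∀ f g, FIso F P P f → FIso F P P g → C f → (∀ x ∈ P, g (f x) = x) → (∀ x ∈ P, f (g x) = x) → C g)
    (hpp : ∀ f, PP F p P f → C f) : ∀ f, FIso F P P f → C f := by
  have hPS : P ≤ S := hP.1
  let A : Subgroup (MulAut P) :=
    { carrier := {α | α ∈ F.autGroup P ∧ C (autFun α)}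
      one_mem' := ⟨Subgroup.one_mem _, hcongr _ _ (hpp _ (PP.id hPS)) fun x hx => (autFun_one hx).symm⟩
      mul_mem' := by
        rintro α β ⟨h1, h2⟩ ⟨h3, h4⟩
        refine ⟨Subgroup.mul_mem _ h1 h3, ?_⟩
        exact hcongr _ _ (hcomp _ _ ((fiso_autFun_iff hPS).2 h3) ((fiso_autFun_iff hPS).2 h1) h4 h2)
          fun x hx => (autFun_mul α β hx).symm
      inv_mem' := by
        rintro α ⟨h1, h2⟩
        exact ⟨Subgroup.inv_mem _ h1, hinv _ _ ((fiso_autFun_iff hPS).2 h1)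
          ((fiso_autFun_iff hPS).2 (Subgroup.inv_mem _ h1)) h2 (fun x hx => autFun_inv_apply α hx)
          (fun x hx => autFun_apply_inv α hx)⟩ }
  have hA : F.autGroup P ≤ A := by
    refine Cfsg.Agent.Lib.FusionPPower.autGroup_le_of_pprime hP ?_ ?_
    · intro α hα
      obtain ⟨g, hg, h1⟩ := mem_autInducedBy_iff.1 hα
      have hgn := mem_normalizer_of_aut h1
      exact ⟨autInducedBy_le_autGroup hPS le_rfl hα, hcongr _ _ (hconj g ⟨hg, hgn⟩) fun x hx => by
        rw [autFun_of_mem α hx, h1]⟩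
    · intro α hα ho
      exact ⟨hα, hpp _ (pp_of_aut hPS hα ho)⟩
  intro f hf
  have := (hA hf.equiv_mem_autGroup).2
  exact hcongr _ _ this fun x hx => by rw [autFun_of_mem _ hx]; rfl

/-- Normal `p`-subgroups of `Aut_F(P)` are induced by `S` when `P` is fully automized. -/
theorem le_autInducedBy_of_normal [Finite S] [Fact p.Prime] (hP : F.IsFullyAutomized p P) {K : Subgroup (MulAut P)}
    (hK : K ≤ F.autGroup P) (hKp : IsPGroup p K) (hn : ∀ α ∈ F.autGroup P, ∀ κ ∈ K, α * κ * α⁻¹ ∈ K) :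
    K ≤ autInducedBy S P := by
  obtain ⟨χ, hχ, h1⟩ := exists_conj_le_autInducedBy hP K hK hKp
  intro κ hκ
  have h2 := hn _ (Subgroup.inv_mem _ hχ) κ hκ
  have h3 := h1 _ h2
  have h4 : χ * (χ⁻¹ * κ * χ⁻¹⁻¹) * χ⁻¹ = κ := by group
  rwa [h4] at h3

/-- A normal subgroup of `Aut_F(P)` without `p'`-elements is induced by `S`, when `P` is fully automized. -/
theorem le_autInducedBy_of_pp [Finite S] [Fact p.Prime] (hP : F.IsFullyAutomized p P) {K : Subgroup (MulAut P)}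
    (hK : K ≤ F.autGroup P) (hn : ∀ α ∈ F.autGroup P, ∀ κ ∈ K, α * κ * α⁻¹ ∈ K)
    (h : ∀ κ ∈ K, PP F p P (autFun κ) → κ = 1) : K ≤ autInducedBy S P := by
  have hPS : P ≤ S := hP.1
  have : Finite P := finite_of_le hPS
  refine le_autInducedBy_of_normal hP hK (Cfsg.Agent.Lib.FusionClosed.isPGroup_of_coprime_trivial fun g hg => ?_) hn
  exact Subtype.ext (h g g.2 (pp_of_aut hPS (hK g.2) (by rw [Subgroup.orderOf_coe]; exact hg)))

theorem eq_one_of_autFun {α : MulAut P} (h : ∀ x ∈ P, autFun α x = x) : α = 1 := by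
  ext x
  rw [← autFun_coe]
  exact h x x.2

end Cfsg.Agent.Lib.FusionPP
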