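import Mathlib
import Cfsg.Agent.Lib.FusionPP
import Cfsg.Agent.Lib.FusionSys
import Cfsg.Agent.Lib.FusionStrong
import Cfsg.Agent.Lib.FusionGroup

/-!
The Frattini condition for subsystems over strongly closed subgroups.
-/

set_option autoImplicit false
open Cfsg Cfsg.FusionSystem Cfsg.Agent.Lib.FusionBasic Cfsg.Agent.Lib.FusionSat Cfsg.Agent.Lib.FusionNormal
  Cfsg.Agent.Lib.FusionInvar Cfsg.Agent.Lib.FusionTools Cfsg.Agent.Lib.FusionPP Cfsg.Agent.Lib.FusionStrong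

namespace Cfsg.Agent.Lib.FusionFrat

variable {Ω : Type*} [Group Ω] {S T : Subgroup Ω} {F : FusionSystem S} {E : FusionSystem T} {P Q R M X Y Z : Subgroup Ω}
  {a b f g : Ω → Ω} {p : ℕ}

theorem card_lt (h : P < Q) [Finite Q] : Nat.card P < Nat.card Q :=
  Set.Finite.card_lt_card (Set.toFinite (Q : Set Ω)) h |> fun h => by simpa using h

theorem le_of_fiso (hT : F.StronglyClosed T) (hP : P ≤ T) (hf : FIso F P Q f) : Q ≤ T := by
  intro y hy
  obtain ⟨x, hx, rfl⟩ := hf.mem_iff.1 hy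
  exact StronglyClosed.map_mem F hT hf.1 hx (hP hx)

/-- A strongly closed subgroup is fully normalized. -/
theorem fullyNormalized_of_stronglyClosed [Finite S] (hT : F.StronglyClosed T) : F.IsFullyNormalized T := by
  refine ⟨hT.1, fun Q hQ => ?_⟩
  obtain ⟨f, hf⟩ := isConj_iff_fiso.1 hQ
  have hfin := finite_of_le hT.1
  rw [Subgroup.eq_of_le_of_card_ge (le_of_fiso hT le_rfl hf) (isConj_card_eq hQ).le]

theorem lt_inf_normalizerIn [Finite S] [Fact p.Prime] (hS : IsPGroup p S) (hTS : T ≤ S) (h : P < T) :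
    P < T ⊓ normalizerIn S P := by
  have h1 := lt_normalizerIn hS hTS h
  refine lt_of_lt_of_le h1 (fun x hx => ⟨hx.1, hTS hx.1, hx.2⟩)

/-- The induction principle of `FusionStrong` relative to a strongly closed subgroup. -/
theorem rel_induction [Finite S] [Fact p.Prime] (hS : IsPGroup p S) (hF : F.IsSaturated p) (hT : F.StronglyClosed T)
    (A : Subgroup Ω → (Ω → Ω) → Prop)
    (hcongr : ∀ P f g, P ≤ T → FMap F P f → (∀ x ∈ P, f x = g x) → A P f → A P g)
    (hrestr : ∀ P Q f, Q ≤ T → FMap F Q f → P ≤ Q → A Q f → A P f)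
    (hcomp : ∀ P Q f g, P ≤ T → Q ≤ T → FIso F P Q f → FMap F Q g → A P f → A Q g → A P (fun x => g (f x)))
    (hinv : ∀ P Q f g, P ≤ T → Q ≤ T → FIso F P Q f → FIso F Q P g → (∀ x ∈ P, g (f x) = x) → A P f → A Q g)
    (haut : ∀ P f, P ≤ T → F.IsFullyNormalized P → FIso F P P f →
      (∀ (Q : Subgroup Ω) (g : Ω → Ω), Q ≤ T → Nat.card P < Nat.card Q → FMap F Q g → A Q g) → A P f) :
    ∀ P f, P ≤ T → FMap F P f → A P f := by
  have hTS := hT.1
  have hTfin : Finite T := finite_of_le hTS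
  have main : ∀ (n : ℕ) (P : Subgroup Ω), Nat.card T - Nat.card P = n → ∀ f : Ω → Ω, P ≤ T → FMap F P f → A P f := by
    intro n
    induction n using Nat.strong_induction_on with
    | _ n ih =>
      intro P hn f hPT hf
      have cardle : ∀ {R : Subgroup Ω}, R ≤ T → Nat.card R ≤ Nat.card T := fun hR =>
        Nat.card_le_card_of_injective _ (Subgroup.inclusion_injective hR)
      have big : ∀ (Q : Subgroup Ω) (g : Ω → Ω), Q ≤ T → Nat.card P < Nat.card Q → FMap F Q g → A Q g := by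
        intro Q g hQ hc hg
        have := cardle hQ
        exact ih (Nat.card T - Nat.card Q) (by omega) Q rfl g hQ hg
      by_cases hPe : P = T
      · subst hPe
        refine haut _ f le_rfl (fullyNormalized_of_stronglyClosed hT) ?_ big
        exact hf.fiso_of_card hTS (fun x hx => StronglyClosed.map_mem F hT hf hx hx) le_rfl
      · have hlt : P < T := lt_of_le_of_ne hPT hPe
        obtain ⟨Q, n1, hQ, hn1, hn1N, -⟩ := exists_fullyNormalized_map hS hF (hPT.trans hTS)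
        obtain ⟨P', hP'⟩ := hf.exists_iso
        have hP'T : P' ≤ T := le_of_fiso hT hPT hP'
        have hQT : Q ≤ T := le_of_fiso hT hPT hn1
        have hP'Q : F.IsConj P' Q := isConj_trans (isConj_symm hP'.isConj) hn1.isConj
        obtain ⟨n2, hn2, hn2N, -⟩ := exists_map_to_fullyNormalized hS hF hQ hP'Q
        have cQ : Nat.card Q = Nat.card P := hn1.card_eq.symm
        have cP' : Nat.card P' = Nat.card P := hP'.card_eq.symm
        have hltP' : P' < T := lt_of_le_of_ne hP'T (by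
          rintro rfl
          exact hPe (Subgroup.eq_of_le_of_card_ge hPT cP'.le))
        have up : ∀ {R : Subgroup Ω} {k : Ω → Ω}, R < T → FMap F (normalizerIn S R) k → Nat.card R = Nat.card P →
            A R k := by
          intro R k hR hk hcR
          have h1 := lt_inf_normalizerIn hS hTS hR
          have h2 : Finite ↥(T ⊓ normalizerIn S R) := finite_of_le (inf_le_left.trans hTS)
          exact hrestr _ _ _ inf_le_left (hk.restrict inf_le_right) h1.le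
            (big _ _ inf_le_left (by rw [← hcR]; exact card_lt h1) (hk.restrict inf_le_right))
        have e1 : A P n1 := up hlt hn1N rfl
        have e2 : A P' n2 := up hltP' hn2N cP'
        obtain ⟨m1, hm1, hm1a, hm1b⟩ := hn1.symm
        obtain ⟨m2, hm2, hm2a, hm2b⟩ := hn2.symm
        have hα : FIso F Q Q (fun x => n2 (f (m1 x))) := (hm1.trans hP').trans hn2
        have e3 : A Q (fun x => n2 (f (m1 x))) := haut Q _ hQT hQ hα (by rw [cQ]; exact big)
        have e4 : A Q m2 := hinv _ _ _ _ hP'T hQT hn2 hm2 hm2a e2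
        have e5 := hcomp _ _ _ _ hPT hQT hn1 hα.1 e1 e3
        have e6 := hcomp _ _ _ _ hPT hQT (hn1.trans hα) hm2.1 e5 e4
        refine hcongr _ _ _ hPT ((hn1.trans hα).trans hm2).1 ?_ e6
        intro x hx
        show m2 (n2 (f (m1 (n1 x)))) = f x
        rw [hm1a x hx, hm2a _ (hP'.mem hx)]
  intro P f hP hf
  exact main _ P rfl f hP hf

/-- `f` is an `F`-automorphism of `T` composed with a map of `E`. -/
def Frat (F : FusionSystem S) (E : FusionSystem T) (P : Subgroup Ω) (f : Ω → Ω) : Prop :=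
  ∃ a f₀ : Ω → Ω, FIso F T T a ∧ FMap E P f₀ ∧ ∀ x ∈ P, f x = a (f₀ x)

/-- invariance of `E` under `Aut_F(T)` -/
def ConjInv (F : FusionSystem S) (E : FusionSystem T) : Prop :=
  ∀ (P Q : Subgroup Ω) (a f : Ω → Ω), FIso F T T a → FMap E P f → (∀ y, y ∈ Q ↔ ∃ x ∈ P, a x = y) →
    ∃ g, FMap E Q g ∧ ∀ x ∈ P, g (a x) = a (f x)

theorem frat_restrict (hPQ : P ≤ Q) (h : Frat F E Q f) : Frat F E P f := by
  obtain ⟨a, f₀, h1, h2, h3⟩ := h
  exact ⟨a, f₀, h1, h2.restrict hPQ, fun x hx => h3 x (hPQ hx)⟩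

theorem frat_comp (hc : ConjInv F E) (h : Frat F E P f) (hQ : ∀ x ∈ P, f x ∈ Q) (hQT : Q ≤ T)
    (h' : Frat F E Q g) : Frat F E P (fun x => g (f x)) := by
  obtain ⟨a, f₀, h1, h2, h3⟩ := h
  obtain ⟨b, g₀, k1, k2, k3⟩ := h'
  obtain ⟨a', ha', h4, h5⟩ := h1.symm
  -- conjugate g₀ by a'
  obtain ⟨Q', hQ'⟩ := (ha'.1.restrict hQT).exists_iso
  obtain ⟨g₁, hg₁, h6⟩ := hc Q Q' a' g₀ ha' k2 (fun y => hQ'.2 y)
  refine ⟨fun x => b (a x), fun x => g₁ (f₀ x), h1.trans k1, h2.comp hg₁ fun x hx => ?_, fun x hx => ?_⟩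
  · refine (hQ'.2 _).2 ⟨f x, hQ x hx, ?_⟩
    rw [h3 x hx, h4 _ (h2.map_mem hx)]
  · show g (f x) = b (a (g₁ (f₀ x)))
    have h7 : f₀ x = a' (f x) := by rw [h3 x hx, h4 _ (h2.map_mem hx)]
    rw [h7, h6 _ (hQ x hx), h5 _ (k2.map_mem (hQ x hx)), k3 _ (hQ x hx)]

theorem frat_inv (hc : ConjInv F E) (hf : FIso F P Q f) (hfg : ∀ x ∈ P, g (f x) = x)
    (h : Frat F E P f) : Frat F E Q g := by
  obtain ⟨a, f₀, h1, h2, h3⟩ := h
  obtain ⟨a', ha', h4, h5⟩ := h1.symm
  obtain ⟨R, hR⟩ := h2.exists_iso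
  obtain ⟨k, hk, k1, k2⟩ := hR.symm
  have hRQ : ∀ y, y ∈ Q ↔ ∃ x ∈ R, a x = y := by
    intro y
    rw [hf.mem_iff]
    constructor
    · rintro ⟨x, hx, rfl⟩
      exact ⟨f₀ x, hR.mem hx, (h3 x hx).symm⟩
    · rintro ⟨z, hz, rfl⟩
      obtain ⟨x, hx, rfl⟩ := hR.mem_iff.1 hz
      exact ⟨x, hx, h3 x hx⟩
  obtain ⟨l, hl, h6⟩ := hc R Q a k h1 hk.1 hRQ
  refine ⟨a', l, ha', hl, fun y hy => ?_⟩
  obtain ⟨x, hx, rfl⟩ := hf.mem_iff.1 hy
  rw [hfg x hx, h3 x hx, h6 _ (hR.mem hx), k1 x hx, h4 x (h2.le hx)]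

/-- The Frattini condition from its restriction to automorphisms of fully normalized subgroups. -/
theorem frattini_of [Finite S] [Fact p.Prime] (hS : IsPGroup p S) (hF : F.IsSaturated p) (hT : F.StronglyClosed T)
    (hc : ConjInv F E)
    (h : ∀ P f, P < T → F.IsFullyNormalized P → FIso F P P f →
      (∀ (Q : Subgroup Ω) (g : Ω → Ω), Q ≤ T → P < Q → FMap F Q g → Frat F E P g) → Frat F E P f) :
    ∀ P f, P ≤ T → FMap F P f → Frat F E P f := by
  refine rel_induction hS hF hT (Frat F E) ?_ ?_ ?_ ?_ ?_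
  · rintro P f g - hf hfg ⟨a, f₀, h1, h2, h3⟩
    exact ⟨a, f₀, h1, h2, fun x hx => by rw [← hfg x hx, h3 x hx]⟩
  · intro P Q f _ _ hPQ h
    exact frat_restrict hPQ h
  · intro P Q f g _ hQT hf hg h1 h2
    exact frat_comp hc h1 (fun x hx => hf.mem hx) hQT h2
  · intro P Q f g _ _ hf hg hfg h1
    exact frat_inv hc hf hfg h1
  · intro P f hPT hP hf hbig
    by_cases hPe : P = T
    · subst hPe
      exact ⟨f, fun x => x, hf, fmap_id E le_rfl, fun _ _ => rfl⟩
    · refine h P f (lt_of_le_of_ne hPT hPe) hP hf fun Q g hQT hPQ hg => ?_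
      have : Finite Q := finite_of_le (hQT.trans hT.1)
      exact frat_restrict hPQ.le (hbig Q g hQT (card_lt hPQ) hg)

/-- The Frattini argument in `Aut_F(P)`: modulo a normal subgroup `N` containing `Aut_M(P)` every automorphism extends
to `M`. -/
theorem exists_frattini_ext [Finite S] [Fact p.Prime] (hS : IsPGroup p S) (hP : F.IsFullyAutomized p P)
    (hr : F.IsReceptive P) (N : Subgroup (MulAut P)) (hN : N ≤ F.autGroup P)
    (hnorm : ∀ α ∈ F.autGroup P, ∀ n ∈ N, α * n * α⁻¹ ∈ N) (hPM : P ≤ M)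
    (hM : M ≤ normalizerIn S P) (hMN : autInducedBy M P ≤ N) (hf : FIso F P P f) :
    ∃ (g : Ω → Ω) (α : MulAut P), α ∈ N ∧ FMap F M g ∧ FIso F P P g ∧ ∀ x ∈ P, f x = g (autFun α x) := by
  obtain ⟨hPS, R, hR⟩ := hP
  have hfinP : Finite P := finite_of_le hPS
  let C : Subgroup (F.autGroup P) := N.subgroupOf (F.autGroup P)
  have hC : C.Normal := ⟨fun n hn g => by
    rw [Subgroup.mem_subgroupOf] at hn ⊢
    exact hnorm g g.2 n hn⟩
  have hMS : M ≤ S := hM.trans (normalizerIn_le S P)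
  -- the group f Aut_M(P) f⁻¹
  let φ : MulAut P := hf.equiv
  have hφ : φ ∈ F.autGroup P := hf.equiv_mem_autGroup
  let X : Subgroup (F.autGroup P) := (((autInducedBy M P).subgroupOf (F.autGroup P)).map
    (MulAut.conj (⟨φ, hφ⟩ : F.autGroup P)).toMonoidHom)
  have hXp : IsPGroup p X := by
    refine IsPGroup.map ?_ _
    refine IsPGroup.comap_of_injective ?_ _ (Subgroup.subtype_injective _)
    exact isPGroup_autInducedBy hS hMS
  have hXC : X ≤ (R : Subgroup (F.autGroup P)) ⊔ C := by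
    refine le_trans ?_ le_sup_right
    rintro _ ⟨x, hx, rfl⟩
    exact hnorm φ hφ x (hMN hx)
  obtain ⟨c, hc, h1⟩ := Cfsg.Agent.Lib.FusionGroup.exists_conj_le_sylow C R X hXp hXC
  -- ν = c φ extends to M
  have hcN : (c : MulAut P) ∈ N := hc
  have hν : FIso F P P (autFun ((c : MulAut P) * φ)) := (fiso_autFun_iff hPS).2 (Subgroup.mul_mem _ c.2 hφ)
  obtain ⟨g, hg, hgν⟩ := (isReceptive_iff.1 hr).2 P _ hν M hPM hMS (fun t ht => by
    refine ⟨(hM ht).2, ?_⟩
    have h2 : conjAut P t (hM ht).2 ∈ autInducedBy M P := conjAut_mem_autInducedBy _ ht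
    have h3 : conjAut P t (hM ht).2 ∈ F.autGroup P := hN (hMN h2)
    have h4 := h1 _ ⟨⟨_, h3⟩, h2, rfl⟩
    rw [hR, Subgroup.mem_subgroupOf] at h4
    obtain ⟨s, hs, h5⟩ := mem_autInducedBy_iff.1 h4
    refine ⟨s, hs, fun x hx => ?_⟩
    have h6 := h5 ((((c : MulAut P) * φ) ⟨x, hx⟩))
    rw [autFun_of_mem _ hx, ← h6]
    have h7 : t * x * t⁻¹ ∈ P := (Subgroup.mem_normalizer_iff.1 (hM ht).2 x).1 hx
    rw [autFun_of_mem _ h7]
    congr 1
    show ((c : MulAut P) * φ) ⟨t * x * t⁻¹, h7⟩ = (c * (φ * conjAut P t (hM ht).2 * φ⁻¹) * (c : MulAut P)⁻¹) (((c : MulAut P) * φ) ⟨x, hx⟩)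
    have h8 : (c * (φ * conjAut P t (hM ht).2 * φ⁻¹) * (c : MulAut P)⁻¹) * ((c : MulAut P) * φ) =
      (c : MulAut P) * φ * conjAut P t (hM ht).2 := by group
    rw [← MulAut.mul_apply, h8]
    rfl)
  have hg' : FIso F P P g := hν.congr fun x hx => (hgν x hx).symm
  refine ⟨g, ((c : MulAut P) * φ)⁻¹ * φ, ?_, hg, hg', fun x hx => ?_⟩
  · have h2 : ((c : MulAut P) * φ)⁻¹ * φ = φ⁻¹ * (c : MulAut P)⁻¹ * φ⁻¹⁻¹ := by group
    rw [h2]
    exact hnorm _ (Subgroup.inv_mem _ hφ) _ (Subgroup.inv_mem _ hcN)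
  · rw [hgν _ (autFun_mem _ hx), ← autFun_mul _ _ hx]
    have h2 : (c : MulAut P) * φ * (((c : MulAut P) * φ)⁻¹ * φ) = φ := by group
    rw [h2, autFun_of_mem _ hx]
    rfl

/-! ### Strong invariance -/

/-- The strong invariance condition, untyped. -/
def StrongInv (F : FusionSystem S) (E : FusionSystem T) : Prop :=
  ∀ (P Q R : Subgroup Ω) (f g : Ω → Ω), P ≤ Q → Q ≤ T → FMap E P f → (∀ x ∈ P, f x ∈ Q) → FMap F Q g →
    (∀ y, y ∈ R ↔ ∃ x ∈ P, g x = y) → ∃ k, FMap E R k ∧ ∀ x ∈ P, k (g x) = g (f x)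

theorem Inv.strong (hE : Inv E F) : StrongInv F E := by
  intro P Q R f g hPQ hQT hf hfQ hg hR
  obtain ⟨a, g₀, h1, h2, h3⟩ := hE.frattini hQT hg
  -- g₀ f g₀⁻¹ on g₀(P)
  obtain ⟨P₁, hP₁⟩ := (h2.restrict hPQ).exists_iso
  obtain ⟨k₁, hk₁, k1, k2⟩ := hP₁.symm
  have hmap : FMap E P₁ (fun y => g₀ (f (k₁ y))) :=
    (hk₁.1.comp hf (fun y hy => hk₁.mem hy)).comp h2 (fun y hy => hfQ _ (hk₁.mem hy))
  obtain ⟨k, hk, h4⟩ := hE.conj (Q := R) h1 hmap (by
    intro y
    rw [hR y]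
    constructor
    · rintro ⟨x, hx, rfl⟩
      exact ⟨g₀ x, hP₁.mem hx, (h3 x (hPQ hx)).symm⟩
    · rintro ⟨z, hz, rfl⟩
      obtain ⟨x, hx, rfl⟩ := hP₁.mem_iff.1 hz
      exact ⟨x, hx, h3 x (hPQ hx)⟩)
  refine ⟨k, hk, fun x hx => ?_⟩
  rw [h3 x (hPQ hx), h4 _ (hP₁.mem hx), h3 _ (hfQ x hx)]
  show a (g₀ (f (k₁ (g₀ x)))) = _
  rw [k1 x hx]

theorem StrongInv.conjInv (h : StrongInv F E) : ConjInv F E := by
  intro P Q a f ha hf hQ
  exact h P T Q f a hf.le le_rfl hf (fun x hx => hf.map_mem hx) ha.1 hQ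

theorem Inv.conjInv (hE : Inv E F) : ConjInv F E := fun _ _ _ _ h1 h2 h3 => hE.conj h1 h2 h3

/-- `E`-automorphisms transport along `F`-isomorphisms. -/
theorem StrongInv.transport (h : StrongInv F E) (hPT : P ≤ T) (hf : FIso F P Q f)
    (hgf : ∀ x ∈ P, g (f x) = x) (ha : FIso E P P a) :
    FMap E Q (fun y => f (a (g y))) := by
  obtain ⟨k, hk, h1⟩ := h P P Q a f le_rfl hPT ha.1 (fun x hx => ha.mem hx) hf.1 (fun y => hf.mem_iff)
  refine hk.congr fun y hy => ?_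
  obtain ⟨x, hx, rfl⟩ := hf.mem_iff.1 hy
  rw [h1 x hx, hgf x hx]

theorem StrongInv.autGroup_normal (h : StrongInv F E) (hTS : T ≤ S) (hPT : P ≤ T) :
    ∀ α ∈ F.autGroup P, ∀ n ∈ E.autGroup P, α * n * α⁻¹ ∈ E.autGroup P := by
  intro α hα n hn
  have h1 := h.transport hPT ((fiso_autFun_iff (hPT.trans hTS)).2 hα) (fun x hx => autFun_inv_apply α hx)
    ((fiso_autFun_iff hPT).2 hn)
  refine mem_autGroup_of_fmap h1 fun x => ?_
  rw [← autFun_mul _ _ (autFun_mem _ x.2), ← autFun_mul _ _ x.2, autFun_coe, mul_assoc]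

/-- Strong invariance implies the Frattini condition. -/
theorem StrongInv.frattini [Finite S] [Fact p.Prime] (hS : IsPGroup p S) (hF : F.IsSaturated p)
    (hT : F.StronglyClosed T) (hsub : E.IsSubsystemOf F) (h : StrongInv F E) :
    ∀ P f, P ≤ T → FMap F P f → Frat F E P f := by
  refine frattini_of hS hF hT h.conjInv fun P f hPT hP hf hbig => ?_
  have hM := lt_inf_normalizerIn hS hT.1 hPT
  obtain ⟨g, α, hα, hg, hgP, h1⟩ := exists_frattini_ext hS (fullyAutomized_of_fullyNormalized hS hF hP)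
    (receptive_of_fullyNormalized hS hF hP) (E.autGroup P) (sub_autGroup hsub hPT.le) (h.autGroup_normal hT.1 hPT.le)
    hM.le inf_le_right (autInducedBy_le_autGroup hPT.le inf_le_left) hf
  have hα' := fmap_of_autGroup hPT.le hα
  obtain ⟨c, f₀, h2, h3, h4⟩ := frat_comp h.conjInv (f := autFun α) (g := g)
    ⟨fun x => x, autFun α, FIso.refl F hT.1, hα', fun _ _ => rfl⟩ (fun x hx => autFun_mem α hx) hPT.le
    (hbig _ g inf_le_left hM hg)
  exact ⟨c, f₀, h2, h3, fun x hx => (h1 x hx).trans (h4 x hx)⟩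

theorem StrongInv.inv [Finite S] [Fact p.Prime] (hS : IsPGroup p S) (hF : F.IsSaturated p)
    (hT : F.StronglyClosed T) (hsub : E.IsSubsystemOf F) (h : StrongInv F E) : Inv E F where
  sub := hsub
  closed := hT
  conj := fun h1 h2 h3 => h.conjInv _ _ _ _ h1 h2 h3
  frattini := fun hP hf => h.frattini hS hF hT hsub _ _ hP hf

end Cfsg.Agent.Lib.FusionFrat
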