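import Mathlib
import Cfsg.Agent.Lib.FusionFrat
import Cfsg.Agent.S5136

/-!
Direct products of fusion systems.
-/

set_option autoImplicit false
open Cfsg Cfsg.FusionSystem Cfsg.Agent.Lib.FusionBasic Cfsg.Agent.Lib.FusionSat Cfsg.Agent.Lib.FusionNormal
  Cfsg.Agent.Lib.FusionInvar Cfsg.Agent.Lib.FusionTools Cfsg.Agent.Lib.FusionPP Cfsg.Agent.Lib.FusionStrong
  Cfsg.Agent.Lib.FusionSys Cfsg.Agent.Lib.FusionFrat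

namespace Cfsg.Agent.Lib.FusionProd

section Gen

variable {Ω : Type*} [Group Ω] {S : Subgroup Ω} {F : FusionSystem S} {P Q : Subgroup Ω} {f : Ω → Ω} {p : ℕ}

theorem fullyAutomized_of_sylow [Finite S] [Fact p.Prime] (hS : IsPGroup p S) (hf : FIso F P Q f)
    (R : Sylow p (F.autGroup P)) (h : ∀ (α : F.autGroup P), α ∈ R → hf.autEquiv α ∈ autInducedBy S Q) :
    F.IsFullyAutomized p Q := by
  rw [isFullyAutomized_iff hS]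
  refine ⟨hf.le_right, fun hd => ?_⟩
  have hfin : Finite P := finite_of_le hf.le_left
  let K : Subgroup (MulAut P) := (R : Subgroup (F.autGroup P)).map (F.autGroup P).subtype
  have hK : K.map hf.autEquiv.toMonoidHom ≤ autInducedBy S Q := by
    rintro _ ⟨_, ⟨α, hα, rfl⟩, rfl⟩
    exact h α hα
  have h1 := Subgroup.relIndex_dvd_of_le_left (F.autGroup Q) hK
  have h2 : (K.map hf.autEquiv.toMonoidHom).relIndex (F.autGroup Q) = (R : Subgroup (F.autGroup P)).index := by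
    rw [← hf.map_autGroup]
    have h3 : (K.map hf.autEquiv.toMonoidHom).relIndex ((F.autGroup P).map hf.autEquiv.toMonoidHom) =
        K.relIndex (F.autGroup P) := by
      rw [Subgroup.relIndex_map_map_of_injective _ _ hf.autEquiv.injective]
    have h4 : K.subgroupOf (F.autGroup P) = (R : Subgroup (F.autGroup P)) :=
      Subgroup.comap_map_eq_self_of_injective (F.autGroup P).subtype_injective _
    rw [h3, Subgroup.relIndex, h4]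
  have h4 := R.not_dvd_index
  rw [h2] at h1
  exact h4 (hd.trans h1)

end Gen

section Prod

variable {Ω₁ Ω₂ : Type*} [Group Ω₁] [Group Ω₂] {S₁ : Subgroup Ω₁} {S₂ : Subgroup Ω₂} {F₁ : FusionSystem S₁}
  {F₂ : FusionSystem S₂} {E : FusionSystem (S₁.prod S₂)} {P Q R : Subgroup (Ω₁ × Ω₂)} {f g : Ω₁ × Ω₂ → Ω₁ × Ω₂}
  {p : ℕ}

/-- The two projections of a subgroup. -/
def pr1 (P : Subgroup (Ω₁ × Ω₂)) : Subgroup Ω₁ := P.map (MonoidHom.fst Ω₁ Ω₂)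
def pr2 (P : Subgroup (Ω₁ × Ω₂)) : Subgroup Ω₂ := P.map (MonoidHom.snd Ω₁ Ω₂)

theorem mem_pr1 {x : Ω₁} : x ∈ pr1 P ↔ ∃ y ∈ P, y.1 = x := Iff.rfl
theorem mem_pr2 {x : Ω₂} : x ∈ pr2 P ↔ ∃ y ∈ P, y.2 = x := Iff.rfl
theorem fst_mem {x : Ω₁ × Ω₂} (hx : x ∈ P) : x.1 ∈ pr1 P := ⟨x, hx, rfl⟩
theorem snd_mem {x : Ω₁ × Ω₂} (hx : x ∈ P) : x.2 ∈ pr2 P := ⟨x, hx, rfl⟩
theorem le_prod : P ≤ (pr1 P).prod (pr2 P) := fun x hx => ⟨⟨x, hx, rfl⟩, ⟨x, hx, rfl⟩⟩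

theorem fmap_prod (hE : IsProductSystem F₁ F₂ E) : FMap E P f ↔ P ≤ S₁.prod S₂ ∧ ∃ f₁ f₂, FMap F₁ (pr1 P) f₁ ∧
    FMap F₂ (pr2 P) f₂ ∧ ∀ x ∈ P, f x = (f₁ x.1, f₂ x.2) := by
  constructor
  · rintro ⟨φ, hφ, h⟩
    obtain ⟨hP, φ₁, h1, φ₂, h2, h3⟩ := (hE P φ).1 hφ
    refine ⟨hP, toFun φ₁, toFun φ₂, fmap_toFun.2 h1, fmap_toFun.2 h2, fun x hx => ?_⟩
    rw [← h ⟨x, hx⟩, h3 ⟨x, hx⟩ (fst_mem hx) (snd_mem hx), toFun_of_mem φ₁ (fst_mem hx), toFun_of_mem φ₂ (snd_mem hx)]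
  · rintro ⟨hP, f₁, f₂, ⟨φ₁, h1, h1'⟩, ⟨φ₂, h2, h2'⟩, h3⟩
    let φ : P →* Ω₁ × Ω₂ :=
      { toFun := fun x => (φ₁ ⟨(x : Ω₁ × Ω₂).1, fst_mem x.2⟩, φ₂ ⟨(x : Ω₁ × Ω₂).2, snd_mem x.2⟩)
        map_one' := by
          refine Prod.ext ?_ ?_
          · exact map_one φ₁
          · exact map_one φ₂
        map_mul' := fun x y => by
          refine Prod.ext ?_ ?_
          · exact map_mul φ₁ ⟨(x : Ω₁ × Ω₂).1, fst_mem x.2⟩ ⟨(y : Ω₁ × Ω₂).1, fst_mem y.2⟩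
          · exact map_mul φ₂ ⟨(x : Ω₁ × Ω₂).2, snd_mem x.2⟩ ⟨(y : Ω₁ × Ω₂).2, snd_mem y.2⟩ }
    refine ⟨φ, (hE P φ).2 ⟨hP, φ₁, h1, φ₂, h2, fun x _ _ => rfl⟩, fun x => ?_⟩
    rw [h3 x x.2]
    show (φ₁ _, φ₂ _) = _
    rw [h1' ⟨_, fst_mem x.2⟩, h2' ⟨_, snd_mem x.2⟩]

theorem pr1_le (hP : P ≤ S₁.prod S₂) : pr1 P ≤ S₁ := by
  rintro _ ⟨x, hx, rfl⟩
  exact (hP hx).1

theorem pr2_le (hP : P ≤ S₁.prod S₂) : pr2 P ≤ S₂ := by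
  rintro _ ⟨x, hx, rfl⟩
  exact (hP hx).2

theorem pr1_iso {f₁ : Ω₁ → Ω₁} {f₂ : Ω₂ → Ω₂} (hf : FIso E P Q f) (h1 : FMap F₁ (pr1 P) f₁)
    (h3 : ∀ x ∈ P, f x = (f₁ x.1, f₂ x.2)) : FIso F₁ (pr1 P) (pr1 Q) f₁ := by
  refine ⟨h1, fun y => ⟨?_, ?_⟩⟩
  · rintro ⟨y', hy', rfl⟩
    obtain ⟨x, hx, rfl⟩ := hf.mem_iff.1 hy'
    exact ⟨x.1, fst_mem hx, by show _ = (f x).1; rw [h3 x hx]⟩
  · rintro ⟨_, ⟨x, hx, rfl⟩, rfl⟩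
    exact ⟨f x, hf.mem hx, by show (f x).1 = _; rw [h3 x hx]; rfl⟩

theorem pr2_iso {f₁ : Ω₁ → Ω₁} {f₂ : Ω₂ → Ω₂} (hf : FIso E P Q f) (h2 : FMap F₂ (pr2 P) f₂)
    (h3 : ∀ x ∈ P, f x = (f₁ x.1, f₂ x.2)) : FIso F₂ (pr2 P) (pr2 Q) f₂ := by
  refine ⟨h2, fun y => ⟨?_, ?_⟩⟩
  · rintro ⟨y', hy', rfl⟩
    obtain ⟨x, hx, rfl⟩ := hf.mem_iff.1 hy'
    exact ⟨x.2, snd_mem hx, by show _ = (f x).2; rw [h3 x hx]⟩
  · rintro ⟨_, ⟨x, hx, rfl⟩, rfl⟩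
    exact ⟨f x, hf.mem hx, by show (f x).2 = _; rw [h3 x hx]; rfl⟩

/-- A pair of isomorphisms of the projections gives an isomorphism onto the image. -/
theorem exists_image (hE : IsProductSystem F₁ F₂ E) (hP : P ≤ S₁.prod S₂) {Q₁ : Subgroup Ω₁} {Q₂ : Subgroup Ω₂}
    {f₁ : Ω₁ → Ω₁} {f₂ : Ω₂ → Ω₂} (h1 : FIso F₁ (pr1 P) Q₁ f₁) (h2 : FIso F₂ (pr2 P) Q₂ f₂) :
    ∃ Q, FIso E P Q (fun x => (f₁ x.1, f₂ x.2)) ∧ pr1 Q = Q₁ ∧ pr2 Q = Q₂ := by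
  have hf : FMap E P (fun x => (f₁ x.1, f₂ x.2)) := (fmap_prod hE).2 ⟨hP, f₁, f₂, h1.1, h2.1, fun _ _ => rfl⟩
  obtain ⟨Q, hQ⟩ := hf.exists_iso
  refine ⟨Q, hQ, ?_, ?_⟩
  · have := pr1_iso hQ h1.1 (fun _ _ => rfl)
    ext y
    rw [this.mem_iff, h1.mem_iff]
  · have := pr2_iso hQ h2.1 (fun _ _ => rfl)
    ext y
    rw [this.mem_iff, h2.mem_iff]

theorem receptive_of_pr (hE : IsProductSystem F₁ F₂ E) (hQ : Q ≤ S₁.prod S₂) (h1 : F₁.IsReceptive (pr1 Q))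
    (h2 : F₂.IsReceptive (pr2 Q)) : E.IsReceptive Q := by
  rw [isReceptive_iff]
  refine ⟨hQ, fun P f hf T hPT hT hTn => ?_⟩
  obtain ⟨hP, f₁, f₂, hf1, hf2, hf3⟩ := (fmap_prod hE).1 hf.1
  have i1 := pr1_iso hf hf1 hf3
  have i2 := pr2_iso hf hf2 hf3
  have hn : ∀ t ∈ T, (∀ x ∈ P, t * x * t⁻¹ ∈ P) ∧ ∀ x ∈ P, t⁻¹ * x * t ∈ P := fun t ht =>
    ⟨fun x hx => (Subgroup.mem_normalizer_iff.1 (hTn t ht).1 x).1 hx, fun x hx => by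
      have := (Subgroup.mem_normalizer_iff.1 (Subgroup.inv_mem _ (hTn t ht).1) x).1 hx
      rwa [inv_inv] at this⟩
  obtain ⟨g₁, hg1, hg1'⟩ := (isReceptive_iff.1 h1).2 (pr1 P) f₁ i1 (pr1 T) (Subgroup.map_mono hPT) (pr1_le hT) (by
    rintro _ ⟨t, ht, rfl⟩
    obtain ⟨ha, hb⟩ := hn t ht
    refine ⟨Subgroup.mem_normalizer_iff.2 fun y => ⟨?_, ?_⟩, ?_⟩
    · rintro ⟨x, hx, rfl⟩
      exact ⟨_, ha x hx, rfl⟩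
    · rintro ⟨x, hx, hxy⟩
      refine ⟨_, hb x hx, ?_⟩
      show t.1⁻¹ * x.1 * t.1 = y
      have hxy' : x.1 = t.1 * y * t.1⁻¹ := hxy
      rw [hxy']; group
    · obtain ⟨h, hh, h4⟩ := (hTn t ht).2
      refine ⟨h.1, hh.1, ?_⟩
      rintro _ ⟨x, hx, rfl⟩
      have h5 := congrArg Prod.fst (h4 x hx)
      rw [hf3 _ (ha x hx), hf3 x hx] at h5
      exact h5)
  obtain ⟨g₂, hg2, hg2'⟩ := (isReceptive_iff.1 h2).2 (pr2 P) f₂ i2 (pr2 T) (Subgroup.map_mono hPT) (pr2_le hT) (by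
    rintro _ ⟨t, ht, rfl⟩
    obtain ⟨ha, hb⟩ := hn t ht
    refine ⟨Subgroup.mem_normalizer_iff.2 fun y => ⟨?_, ?_⟩, ?_⟩
    · rintro ⟨x, hx, rfl⟩
      exact ⟨_, ha x hx, rfl⟩
    · rintro ⟨x, hx, hxy⟩
      refine ⟨_, hb x hx, ?_⟩
      show t.2⁻¹ * x.2 * t.2 = y
      have hxy' : x.2 = t.2 * y * t.2⁻¹ := hxy
      rw [hxy']; group
    · obtain ⟨h, hh, h4⟩ := (hTn t ht).2
      refine ⟨h.2, hh.2, ?_⟩
      rintro _ ⟨x, hx, rfl⟩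
      have h5 := congrArg Prod.snd (h4 x hx)
      rw [hf3 _ (ha x hx), hf3 x hx] at h5
      exact h5)
  refine ⟨fun x => (g₁ x.1, g₂ x.2), (fmap_prod hE).2 ⟨hT, g₁, g₂, hg1, hg2, fun _ _ => rfl⟩, fun x hx => ?_⟩
  show (g₁ x.1, g₂ x.2) = _
  rw [hf3 x hx, hg1' _ (fst_mem hx), hg2' _ (snd_mem hx)]

/-- The first components of the elements of a group of automorphisms. -/
def comp1 (R : Subgroup (MulAut P)) : Subgroup (MulAut (pr1 P)) where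
  carrier := {α₁ | ∃ α ∈ R, ∀ x : P, ((α x : P) : Ω₁ × Ω₂).1 = α₁ ⟨(x : Ω₁ × Ω₂).1, fst_mem x.2⟩}
  one_mem' := ⟨1, R.one_mem, fun _ => rfl⟩
  mul_mem' := by
    rintro α₁ β₁ ⟨α, hα, h1⟩ ⟨β, hβ, h2⟩
    refine ⟨α * β, R.mul_mem hα hβ, fun x => ?_⟩
    show ((α (β x) : P) : Ω₁ × Ω₂).1 = α₁ (β₁ _)
    rw [h1]
    congr 2
    exact Subtype.ext (h2 x)
  inv_mem' := by
    rintro α₁ ⟨α, hα, h1⟩
    refine ⟨α⁻¹, R.inv_mem hα, fun x => ?_⟩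
    have h2 := h1 (α⁻¹ x)
    have h3 : α (α⁻¹ x) = x := MulAut.apply_inv_self P α x
    rw [h3] at h2
    have h4 : (⟨(x : Ω₁ × Ω₂).1, fst_mem x.2⟩ : pr1 P) = α₁ ⟨((α⁻¹ x : P) : Ω₁ × Ω₂).1, fst_mem (α⁻¹ x).2⟩ :=
      Subtype.ext h2
    rw [h4, MulAut.inv_apply_self]

def comp2 (R : Subgroup (MulAut P)) : Subgroup (MulAut (pr2 P)) where
  carrier := {α₁ | ∃ α ∈ R, ∀ x : P, ((α x : P) : Ω₁ × Ω₂).2 = α₁ ⟨(x : Ω₁ × Ω₂).2, snd_mem x.2⟩}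
  one_mem' := ⟨1, R.one_mem, fun _ => rfl⟩
  mul_mem' := by
    rintro α₁ β₁ ⟨α, hα, h1⟩ ⟨β, hβ, h2⟩
    refine ⟨α * β, R.mul_mem hα hβ, fun x => ?_⟩
    show ((α (β x) : P) : Ω₁ × Ω₂).2 = α₁ (β₁ _)
    rw [h1]
    congr 2
    exact Subtype.ext (h2 x)
  inv_mem' := by
    rintro α₁ ⟨α, hα, h1⟩
    refine ⟨α⁻¹, R.inv_mem hα, fun x => ?_⟩
    have h2 := h1 (α⁻¹ x)
    have h3 : α (α⁻¹ x) = x := MulAut.apply_inv_self P α x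
    rw [h3] at h2
    have h4 : (⟨(x : Ω₁ × Ω₂).2, snd_mem x.2⟩ : pr2 P) = α₁ ⟨((α⁻¹ x : P) : Ω₁ × Ω₂).2, snd_mem (α⁻¹ x).2⟩ :=
      Subtype.ext h2
    rw [h4, MulAut.inv_apply_self]

theorem comp1_pow {α : MulAut P} {α₁ : MulAut (pr1 P)}
    (h : ∀ x : P, ((α x : P) : Ω₁ × Ω₂).1 = α₁ ⟨(x : Ω₁ × Ω₂).1, fst_mem x.2⟩) (n : ℕ) :
    ∀ x : P, (((α ^ n) x : P) : Ω₁ × Ω₂).1 = (α₁ ^ n) ⟨(x : Ω₁ × Ω₂).1, fst_mem x.2⟩ := by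
  induction n with
  | zero => exact fun _ => rfl
  | succ n ih =>
    intro x
    rw [pow_succ, pow_succ, MulAut.mul_apply, MulAut.mul_apply, ih]
    congr 2
    exact Subtype.ext (h x)

theorem comp2_pow {α : MulAut P} {α₁ : MulAut (pr2 P)}
    (h : ∀ x : P, ((α x : P) : Ω₁ × Ω₂).2 = α₁ ⟨(x : Ω₁ × Ω₂).2, snd_mem x.2⟩) (n : ℕ) :
    ∀ x : P, (((α ^ n) x : P) : Ω₁ × Ω₂).2 = (α₁ ^ n) ⟨(x : Ω₁ × Ω₂).2, snd_mem x.2⟩ := by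
  induction n with
  | zero => exact fun _ => rfl
  | succ n ih =>
    intro x
    rw [pow_succ, pow_succ, MulAut.mul_apply, MulAut.mul_apply, ih]
    congr 2
    exact Subtype.ext (h x)

theorem comp1_isPGroup {R : Subgroup (MulAut P)} (hR : IsPGroup p R) : IsPGroup p (comp1 R) := by
  rintro ⟨α₁, α, hα, h⟩
  obtain ⟨k, hk⟩ := hR ⟨α, hα⟩
  have hk' : α ^ p ^ k = 1 := congrArg Subtype.val hk
  refine ⟨k, Subtype.ext ?_⟩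
  show α₁ ^ p ^ k = 1
  ext ⟨_, ⟨x, hx, rfl⟩⟩
  have := comp1_pow h (p ^ k) ⟨x, hx⟩
  rw [hk'] at this
  exact this.symm

theorem comp2_isPGroup {R : Subgroup (MulAut P)} (hR : IsPGroup p R) : IsPGroup p (comp2 R) := by
  rintro ⟨α₁, α, hα, h⟩
  obtain ⟨k, hk⟩ := hR ⟨α, hα⟩
  have hk' : α ^ p ^ k = 1 := congrArg Subtype.val hk
  refine ⟨k, Subtype.ext ?_⟩
  show α₁ ^ p ^ k = 1
  ext ⟨_, ⟨x, hx, rfl⟩⟩
  have := comp2_pow h (p ^ k) ⟨x, hx⟩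
  rw [hk'] at this
  exact this.symm

/-- The components of an automorphism of the product system. -/
theorem exists_comp [Finite S₁] [Finite S₂] (hE : IsProductSystem F₁ F₂ E) (hP : P ≤ S₁.prod S₂) {α : MulAut P}
    (hα : α ∈ E.autGroup P) : ∃ α₁ ∈ F₁.autGroup (pr1 P), ∃ α₂ ∈ F₂.autGroup (pr2 P),
      (∀ x : P, ((α x : P) : Ω₁ × Ω₂).1 = α₁ ⟨(x : Ω₁ × Ω₂).1, fst_mem x.2⟩) ∧
      (∀ x : P, ((α x : P) : Ω₁ × Ω₂).2 = α₂ ⟨(x : Ω₁ × Ω₂).2, snd_mem x.2⟩) := by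
  have hi := (fiso_autFun_iff hP).2 hα
  obtain ⟨-, f₁, f₂, hf1, hf2, hf3⟩ := (fmap_prod hE).1 hi.1
  have i1 := pr1_iso hi hf1 hf3
  have i2 := pr2_iso hi hf2 hf3
  obtain ⟨α₁, hα₁, h1⟩ := exists_aut_of_fmap i1.1 (fun x hx => i1.mem hx)
  obtain ⟨α₂, hα₂, h2⟩ := exists_aut_of_fmap i2.1 (fun x hx => i2.mem hx)
  refine ⟨α₁, hα₁, α₂, hα₂, fun x => ?_, fun x => ?_⟩
  · rw [h1, ← autFun_coe, hf3 x x.2]
  · rw [h2, ← autFun_coe, hf3 x x.2]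

/-- The direct product of saturated fusion systems is saturated. -/
theorem prod_saturated [Finite S₁] [Finite S₂] [Fact p.Prime] (h₁ : IsPGroup p S₁) (h₂ : IsPGroup p S₂)
    (hF₁ : F₁.IsSaturated p) (hF₂ : F₂.IsSaturated p) (hE : IsProductSystem F₁ F₂ E) : E.IsSaturated p := by
  intro P₀ hP₀
  have hfin : Finite ↥(S₁.prod S₂) := Finite.of_equiv _ (Subgroup.prodEquiv S₁ S₂).symm.toEquiv
  have hSp : IsPGroup p ↥(S₁.prod S₂) := by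
    have : IsPGroup p (S₁ × S₂) := by
      rintro ⟨x, y⟩
      obtain ⟨k, hk⟩ := h₁ x
      obtain ⟨l, hl⟩ := h₂ y
      refine ⟨k + l, Prod.ext ?_ ?_⟩
      · show x ^ p ^ (k + l) = 1
        rw [pow_add, pow_mul, hk, one_pow]
      · show y ^ p ^ (k + l) = 1
        rw [pow_add, mul_comm, pow_mul, hl, one_pow]
    exact this.of_equiv (Subgroup.prodEquiv S₁ S₂).symm
  obtain ⟨Q₁, g₁, hQ₁, hg₁, -⟩ := exists_fullyNormalized_map h₁ hF₁ (pr1_le hP₀)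
  obtain ⟨Q₂, g₂, hQ₂, hg₂, -⟩ := exists_fullyNormalized_map h₂ hF₂ (pr2_le hP₀)
  obtain ⟨P, hP, e1, e2⟩ := exists_image hE hP₀ hg₁ hg₂
  subst e1 e2
  have hPS := hP.le_right
  have hPfin : Finite P := finite_of_le hPS
  obtain ⟨R⟩ : Nonempty (Sylow p (E.autGroup P)) := inferInstance
  let R' : Subgroup (MulAut P) := (R : Subgroup (E.autGroup P)).map (E.autGroup P).subtype
  have hR' : IsPGroup p R' := R.isPGroup'.map _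
  obtain ⟨χ₁, hχ₁, hc₁⟩ := exists_conj_le_autInducedBy (fullyAutomized_of_fullyNormalized h₁ hF₁ hQ₁)
    (comp1 R' ⊓ F₁.autGroup (pr1 P)) inf_le_right ((comp1_isPGroup hR').to_le inf_le_left)
  obtain ⟨χ₂, hχ₂, hc₂⟩ := exists_conj_le_autInducedBy (fullyAutomized_of_fullyNormalized h₂ hF₂ hQ₂)
    (comp2 R' ⊓ F₂.autGroup (pr2 P)) inf_le_right ((comp2_isPGroup hR').to_le inf_le_left)
  have j1 := (fiso_autFun_iff hQ₁.1).2 hχ₁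
  have j2 := (fiso_autFun_iff hQ₂.1).2 hχ₂
  obtain ⟨Q, hQ, e1, e2⟩ := exists_image hE hPS j1 j2
  refine ⟨Q, (hP.trans hQ).isConj, ?_, receptive_of_pr hE hQ.le_right (e1 ▸ receptive_of_fullyNormalized h₁ hF₁ hQ₁)
    (e2 ▸ receptive_of_fullyNormalized h₂ hF₂ hQ₂)⟩
  refine fullyAutomized_of_sylow hSp hQ R fun α hα => ?_
  obtain ⟨α₁, hα₁, α₂, hα₂, k1, k2⟩ := exists_comp hE hPS α.2
  have hαR : (α : MulAut P) ∈ R' := ⟨α, hα, rfl⟩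
  obtain ⟨s₁, hs₁, hs₁'⟩ := mem_autInducedBy_iff.1 (hc₁ α₁ ⟨⟨α, hαR, k1⟩, hα₁⟩)
  obtain ⟨s₂, hs₂, hs₂'⟩ := mem_autInducedBy_iff.1 (hc₂ α₂ ⟨⟨α, hαR, k2⟩, hα₂⟩)
  refine mem_autInducedBy_iff.2 ⟨(s₁, s₂), ⟨hs₁, hs₂⟩, fun y => ?_⟩
  obtain ⟨x, rfl⟩ := hQ.equiv.surjective y
  rw [FIso.autEquiv_apply_apply, FIso.equiv_apply, FIso.equiv_apply]
  refine Prod.ext ?_ ?_
  · show autFun χ₁ (((α : MulAut P) x : P) : Ω₁ × Ω₂).1 = s₁ * autFun χ₁ (x : Ω₁ × Ω₂).1 * s₁⁻¹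
    rw [k1, autFun_coe, autFun_of_mem χ₁ (fst_mem x.2)]
    have := hs₁' (χ₁ ⟨(x : Ω₁ × Ω₂).1, fst_mem x.2⟩)
    rwa [MulAut.mul_apply, MulAut.mul_apply, MulAut.inv_apply_self] at this
  · show autFun χ₂ (((α : MulAut P) x : P) : Ω₁ × Ω₂).2 = s₂ * autFun χ₂ (x : Ω₁ × Ω₂).2 * s₂⁻¹
    rw [k2, autFun_coe, autFun_of_mem χ₂ (snd_mem x.2)]
    have := hs₂' (χ₂ ⟨(x : Ω₁ × Ω₂).2, snd_mem x.2⟩)
    rwa [MulAut.mul_apply, MulAut.mul_apply, MulAut.inv_apply_self] at this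

end Prod

end Cfsg.Agent.Lib.FusionProd
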