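import Mathlib
import Cfsg.Agent.Lib.FusionLayer
import Cfsg.Agent.Lib.FusionProd
import Cfsg.Agent.S5136
import Cfsg.Agent.S5128

/-!
Central products of fusion systems, in elementary form.
-/

set_option autoImplicit false
open Cfsg Cfsg.FusionSystem Cfsg.Agent.Lib.FusionBasic Cfsg.Agent.Lib.FusionSat Cfsg.Agent.Lib.FusionNormal
  Cfsg.Agent.Lib.FusionInvar Cfsg.Agent.Lib.FusionTools Cfsg.Agent.Lib.FusionPP Cfsg.Agent.Lib.FusionStrong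
  Cfsg.Agent.Lib.FusionSys Cfsg.Agent.Lib.FusionFrat Cfsg.Agent.Lib.FusionPrime Cfsg.Agent.Lib.FusionTC
  Cfsg.Agent.Lib.FusionClosed Cfsg.Agent.Lib.FusionStab Cfsg.Agent.Lib.FusionZeta Cfsg.Agent.Lib.FusionDich
open Cfsg.Agent.Lib.FusionProd (pr1 pr2 mem_pr1 mem_pr2 fmap_prod prod_saturated)
open Cfsg.Agent.Lib.FusionQuot
open Cfsg.Agent.Lib.FusionFocal (fix_of_isCentral)

namespace Cfsg.Agent.Lib.FusionCP

variable {Ω : Type*} [Group Ω] {S T T₁ T₂ K U W : Subgroup Ω} {F : FusionSystem S} {E₁ : FusionSystem T₁} {E₂ : FusionSystem T₂}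
  {D : FusionSystem T} {C : FusionSystem K} {P Q R M X Y Z N : Subgroup Ω} {a b f g k σ f₁ f₂ : Ω → Ω} {p : ℕ}

/-- the projection of `P ≤ T₁T₂` to `T₁` -/
def q1 (T₁ T₂ P : Subgroup Ω) : Subgroup Ω := T₁ ⊓ (P ⊔ T₂)

/-- elementwise commutation -/
def Comm (T₁ T₂ : Subgroup Ω) : Prop := ∀ x ∈ T₁, ∀ y ∈ T₂, x * y = y * x

theorem Comm.symm (h : Comm T₁ T₂) : Comm T₂ T₁ := fun x hx y hy => (h y hy x hx).symm

theorem mem_sup_comm (hc : Comm T₁ T₂) {x : Ω} : x ∈ T₁ ⊔ T₂ ↔ ∃ y ∈ T₁, ∃ z ∈ T₂, y * z = x := by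
  refine mem_sup_of_normalizes fun x hx => Subgroup.mem_normalizer_iff.2 fun y => ?_
  constructor
  · intro hy
    have : x * y * x⁻¹ = y := by rw [hc x hx y hy]; group
    rwa [this]
  · intro hy
    have h1 := hc x hx _ hy
    have : y = x * y * x⁻¹ := by
      have h2 : x * (x * y * x⁻¹) = x * y := by rw [h1]; group
      exact (mul_left_cancel h2).symm
    rwa [this]

theorem norm_of_le (hc : Comm T₁ T₂) (hP : P ≤ T₁ ⊔ T₂) : P ≤ Subgroup.normalizer (T₂ : Set Ω) := by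
  intro x hx
  obtain ⟨y, hy, z, hz, rfl⟩ := (mem_sup_comm hc).1 (hP hx)
  refine mul_mem ?_ (Subgroup.le_normalizer hz)
  refine Subgroup.mem_normalizer_iff.2 fun w => ?_
  constructor
  · intro hw
    have : y * w * y⁻¹ = w := by rw [hc y hy w hw]; group
    rwa [this]
  · intro hw
    have h1 := hc y hy _ hw
    have : w = y * w * y⁻¹ := by
      have h2 : y * (y * w * y⁻¹) = y * w := by rw [h1]; group
      exact (mul_left_cancel h2).symm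
    rwa [this]

theorem mem_q1 (hc : Comm T₁ T₂) (hP : P ≤ T₁ ⊔ T₂) {x : Ω} : x ∈ q1 T₁ T₂ P ↔ x ∈ T₁ ∧ ∃ y ∈ T₂, x * y ∈ P := by
  constructor
  · rintro ⟨h1, h2⟩
    refine ⟨h1, ?_⟩
    obtain ⟨y, hy, z, hz, h3⟩ := (mem_sup_of_normalizes (norm_of_le hc hP)).1 h2
    refine ⟨z⁻¹, inv_mem hz, ?_⟩
    rw [← h3, mul_inv_cancel_right]
    exact hy
  · rintro ⟨h1, y, hy, h2⟩
    refine ⟨h1, ?_⟩
    have : x = (x * y) * y⁻¹ := by group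
    rw [this]
    exact mul_mem (Subgroup.mem_sup_left h2) (Subgroup.mem_sup_right (inv_mem hy))

theorem q1_le : q1 T₁ T₂ P ≤ T₁ := inf_le_left

theorem inter_le_q1 : T₁ ⊓ T₂ ≤ q1 T₁ T₂ P := fun _ hx => ⟨hx.1, Subgroup.mem_sup_right hx.2⟩

theorem le_q1 (h : P ≤ T₁) : P ≤ q1 T₁ T₂ P := le_inf h le_sup_left

theorem q1_mono (h : P ≤ Q) : q1 T₁ T₂ P ≤ q1 T₁ T₂ Q := inf_le_inf_left _ (sup_le_sup_right h _)

/-- `D` is the central product of `E₁` and `E₂`. -/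
structure CP (E₁ : FusionSystem T₁) (E₂ : FusionSystem T₂) (D : FusionSystem T) : Prop where
  comm : Comm T₁ T₂
  cen1 : E₁.IsCentral (T₁ ⊓ T₂)
  cen2 : E₂.IsCentral (T₁ ⊓ T₂)
  top : T = T₁ ⊔ T₂
  map : ∀ P f, FMap D P f ↔ P ≤ T ∧ ∃ f₁ f₂, FMap E₁ (q1 T₁ T₂ P) f₁ ∧ FMap E₂ (q1 T₂ T₁ P) f₂ ∧
    ∀ x ∈ T₁, ∀ y ∈ T₂, x * y ∈ P → f (x * y) = f₁ x * f₂ y

theorem CP.symm (h : CP E₁ E₂ D) : CP E₂ E₁ D where
  comm := h.comm.symm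
  cen1 := inf_comm T₁ T₂ ▸ h.cen2
  cen2 := inf_comm T₁ T₂ ▸ h.cen1
  top := by rw [h.top, sup_comm]
  map := by
    intro P f
    rw [h.map P f]
    have key : ∀ f₁ f₂ : Ω → Ω, P ≤ T → FMap E₁ (q1 T₁ T₂ P) f₁ → FMap E₂ (q1 T₂ T₁ P) f₂ →
        ((∀ x ∈ T₁, ∀ y ∈ T₂, x * y ∈ P → f (x * y) = f₁ x * f₂ y) ↔
        (∀ y ∈ T₂, ∀ x ∈ T₁, y * x ∈ P → f (y * x) = f₂ y * f₁ x)) := by
      intro f₁ f₂ hP h1 h2
      have hP' : P ≤ T₁ ⊔ T₂ := h.top ▸ hP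
      have hP'' : P ≤ T₂ ⊔ T₁ := by rw [sup_comm]; exact hP'
      have h3 : ∀ x ∈ T₁, ∀ y ∈ T₂, x * y ∈ P → f₁ x * f₂ y = f₂ y * f₁ x := by
        intro x hx y hy hxy
        refine h.comm _ (h1.map_mem ((mem_q1 h.comm hP').2 ⟨hx, y, hy, hxy⟩)) _
          (h2.map_mem ((mem_q1 h.comm.symm hP'').2 ⟨hy, x, hx, ?_⟩))
        rw [← h.comm x hx y hy]; exact hxy
      constructor
      · intro h4 y hy x hx hyx
        rw [← h.comm x hx y hy] at hyx ⊢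
        rw [h4 x hx y hy hyx, h3 x hx y hy hyx]
      · intro h4 x hx y hy hxy
        rw [h3 x hx y hy hxy, h.comm x hx y hy]
        rw [h.comm x hx y hy] at hxy
        exact h4 y hy x hx hxy
    constructor
    · rintro ⟨hP, f₁, f₂, h1, h2, h3⟩
      exact ⟨hP, f₂, f₁, h2, h1, (key f₁ f₂ hP h1 h2).1 h3⟩
    · rintro ⟨hP, f₂, f₁, h2, h1, h3⟩
      exact ⟨hP, f₁, f₂, h1, h2, (key f₁ f₂ hP h1 h2).2 h3⟩

theorem CP.le1 (h : CP E₁ E₂ D) : T₁ ≤ T := h.top ▸ le_sup_left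

theorem CP.le2 (h : CP E₁ E₂ D) : T₂ ≤ T := h.top ▸ le_sup_right

theorem CP.unique {D' : FusionSystem T} (h : CP E₁ E₂ D) (h' : CP E₁ E₂ D') : D = D' := by
  refine fusion_ext fun P => ?_
  ext φ
  rw [← fmap_toFun, ← fmap_toFun, h.map, h'.map]

theorem theta_eq (θ : ↥(T₁.prod T₂) →* Ω) (h1 : ∀ (x : Ω) (hx : ((x, 1) : Ω × Ω) ∈ T₁.prod T₂), θ ⟨(x, 1), hx⟩ = x)
    (h2 : ∀ (y : Ω) (hy : ((1, y) : Ω × Ω) ∈ T₁.prod T₂), θ ⟨(1, y), hy⟩ = y) {x y : Ω} (hx : x ∈ T₁) (hy : y ∈ T₂) :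
    ev θ (x, y) = x * y := by
  have hxy : ((x, y) : Ω × Ω) ∈ T₁.prod T₂ := ⟨hx, hy⟩
  have hx' : ((x, 1) : Ω × Ω) ∈ T₁.prod T₂ := ⟨hx, one_mem _⟩
  have hy' : ((1, y) : Ω × Ω) ∈ T₁.prod T₂ := ⟨one_mem _, hy⟩
  rw [ev_of_mem hxy]
  have h3 : (⟨(x, y), hxy⟩ : ↥(T₁.prod T₂)) = ⟨(x, 1), hx'⟩ * ⟨(1, y), hy'⟩ := by
    apply Subtype.ext
    show ((x, y) : Ω × Ω) = (x, 1) * (1, y)
    rw [Prod.mk_mul_mk, mul_one, one_mul]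
  rw [h3, map_mul, h1, h2]

theorem theta_comm (θ : ↥(T₁.prod T₂) →* Ω) (h1 : ∀ (x : Ω) (hx : ((x, 1) : Ω × Ω) ∈ T₁.prod T₂), θ ⟨(x, 1), hx⟩ = x)
    (h2 : ∀ (y : Ω) (hy : ((1, y) : Ω × Ω) ∈ T₁.prod T₂), θ ⟨(1, y), hy⟩ = y) : Comm T₁ T₂ := by
  intro x hx y hy
  have hx' : ((x, 1) : Ω × Ω) ∈ T₁.prod T₂ := ⟨hx, one_mem _⟩
  have hy' : ((1, y) : Ω × Ω) ∈ T₁.prod T₂ := ⟨one_mem _, hy⟩
  have h3 : (⟨(x, 1), hx'⟩ * ⟨(1, y), hy'⟩ : ↥(T₁.prod T₂)) = ⟨(1, y), hy'⟩ * ⟨(x, 1), hx'⟩ := by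
    apply Subtype.ext
    show ((x, 1) : Ω × Ω) * (1, y) = (1, y) * (x, 1)
    rw [Prod.mk_mul_mk, Prod.mk_mul_mk, mul_one, one_mul, mul_one, one_mul]
  have h4 := congrArg θ h3
  rwa [map_mul, map_mul, h1, h2] at h4

theorem pr1_pre (θ : ↥(T₁.prod T₂) →* Ω) (h1 : ∀ (x : Ω) (hx : ((x, 1) : Ω × Ω) ∈ T₁.prod T₂), θ ⟨(x, 1), hx⟩ = x)
    (h2 : ∀ (y : Ω) (hy : ((1, y) : Ω × Ω) ∈ T₁.prod T₂), θ ⟨(1, y), hy⟩ = y) (hP : P ≤ T₁ ⊔ T₂) :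
    pr1 (preimageAlong θ P) = q1 T₁ T₂ P := by
  have hc := theta_comm θ h1 h2
  ext x
  rw [mem_q1 hc hP, mem_pr1]
  constructor
  · rintro ⟨⟨x', y⟩, hxy, rfl⟩
    rw [mem_pre] at hxy
    refine ⟨hxy.1.1, y, hxy.1.2, ?_⟩
    have := hxy.2
    rwa [theta_eq θ h1 h2 hxy.1.1 hxy.1.2] at this
  · rintro ⟨hx, y, hy, hxy⟩
    refine ⟨(x, y), mem_pre.2 ⟨⟨hx, hy⟩, ?_⟩, rfl⟩
    rwa [theta_eq θ h1 h2 hx hy]

theorem pr2_pre (θ : ↥(T₁.prod T₂) →* Ω) (h1 : ∀ (x : Ω) (hx : ((x, 1) : Ω × Ω) ∈ T₁.prod T₂), θ ⟨(x, 1), hx⟩ = x)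
    (h2 : ∀ (y : Ω) (hy : ((1, y) : Ω × Ω) ∈ T₁.prod T₂), θ ⟨(1, y), hy⟩ = y) (hP : P ≤ T₁ ⊔ T₂) :
    pr2 (preimageAlong θ P) = q1 T₂ T₁ P := by
  have hc := theta_comm θ h1 h2
  have hP' : P ≤ T₂ ⊔ T₁ := by rwa [sup_comm]
  ext y
  rw [mem_q1 hc.symm hP', mem_pr2]
  constructor
  · rintro ⟨⟨x, y'⟩, hxy, rfl⟩
    rw [mem_pre] at hxy
    refine ⟨hxy.1.2, x, hxy.1.1, ?_⟩
    have := hxy.2
    rw [theta_eq θ h1 h2 hxy.1.1 hxy.1.2, hc x hxy.1.1 _ hxy.1.2] at this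
    exact this
  · rintro ⟨hy, x, hx, hxy⟩
    refine ⟨(x, y), mem_pre.2 ⟨⟨hx, hy⟩, ?_⟩, rfl⟩
    rwa [theta_eq θ h1 h2 hx hy, hc x hx y hy]

theorem cp_of [Finite T₁] [Finite T₂] (h : IsCentralProductOf E₁ E₂ D) : CP E₁ E₂ D := by
  obtain ⟨D₀, hD₀, Z, θ, hZc, hZ1, hZ2, h1, h2, hfac⟩ := h
  have hc := theta_comm θ h1 h2
  have hfin : Finite ↥(T₁.prod T₂) := Finite.of_equiv _ (Subgroup.prodEquiv T₁ T₂).symm.toEquiv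
  have hcen : D₀.IsCentral D₀.center := Cfsg.Agent.Lib.FusionJoin.isCentral_center D₀
  have hzz : ∀ z ∈ T₁ ⊓ T₂, ((z, z⁻¹) : Ω × Ω) ∈ D₀.center := by
    intro z hz
    refine hZc ?_
    have hm : ((z, z⁻¹) : Ω × Ω) ∈ T₁.prod T₂ := ⟨hz.1, T₂.inv_mem hz.2⟩
    refine (hfac.2.1 ⟨_, hm⟩).1 ?_
    rw [← ev_of_mem hm, theta_eq θ h1 h2 hz.1 (T₂.inv_mem hz.2), mul_inv_cancel]
  have htop : T = T₁ ⊔ T₂ := by
    rw [← hfac.2.2.1]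
    ext x
    rw [mem_sup_comm hc]
    constructor
    · rintro ⟨⟨⟨y, z⟩, hyz⟩, rfl⟩
      refine ⟨y, hyz.1, z, hyz.2, ?_⟩
      rw [← ev_of_mem hyz, theta_eq θ h1 h2 hyz.1 hyz.2]
    · rintro ⟨y, hy, z, hz, rfl⟩
      have hm : ((y, z) : Ω × Ω) ∈ T₁.prod T₂ := ⟨hy, hz⟩
      refine ⟨⟨(y, z), hm⟩, ?_⟩
      rw [← ev_of_mem hm, theta_eq θ h1 h2 hy hz]
  refine ⟨hc, ?_, ?_, htop, fun P f => ?_⟩
  · rw [isCentral_iff]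
    refine ⟨inf_le_left, fun P f hf => ?_⟩
    have hf' : FMap D₀ (P.prod ⊥) (fun x => (f x.1, x.2)) := by
      rw [fmap_prod hD₀]
      refine ⟨fun x hx => ⟨hf.le hx.1, ?_⟩, f, fun x => x, hf.restrict ?_, fmap_id E₂ ?_, fun x hx => rfl⟩
      · rw [Subgroup.mem_bot.1 hx.2]; exact one_mem _
      · rintro x ⟨y, hy, rfl⟩; exact hy.1
      · rintro x ⟨y, hy, rfl⟩
        have : y.2 = 1 := Subgroup.mem_bot.1 hy.2
        show y.2 ∈ T₂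
        rw [this]; exact one_mem _
    obtain ⟨g, hg, g1, g2⟩ := ((isCentral_iff D₀).1 hcen).2 _ _ hf'
    obtain ⟨-, g₁, g₂, hg₁, -, hg3⟩ := (fmap_prod hD₀).1 hg
    refine ⟨g₁, hg₁.restrict (sup_le (fun x hx => ⟨(x, 1), Subgroup.mem_sup_left ⟨hx, one_mem _⟩, rfl⟩) fun z hz =>
      ⟨(z, z⁻¹), Subgroup.mem_sup_right (hzz z hz), rfl⟩), fun x hx => ?_, fun z hz => ?_⟩
    · have hx' : ((x, 1) : Ω × Ω) ∈ P.prod ⊥ := ⟨hx, one_mem _⟩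
      have h3 := hg3 _ (Subgroup.mem_sup_left hx')
      rw [g1 _ hx'] at h3
      exact (congrArg Prod.fst h3).symm
    · have h3 := hg3 _ (Subgroup.mem_sup_right (hzz z hz))
      rw [g2 _ (hzz z hz)] at h3
      exact (congrArg Prod.fst h3).symm
  · rw [isCentral_iff]
    refine ⟨inf_le_right, fun P f hf => ?_⟩
    have hf' : FMap D₀ ((⊥ : Subgroup Ω).prod P) (fun x => (x.1, f x.2)) := by
      rw [fmap_prod hD₀]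
      refine ⟨fun x hx => ⟨?_, hf.le hx.2⟩, fun x => x, f, fmap_id E₁ ?_, hf.restrict ?_, fun x hx => rfl⟩
      · rw [Subgroup.mem_bot.1 hx.1]; exact one_mem _
      · rintro x ⟨y, hy, rfl⟩
        have : y.1 = 1 := Subgroup.mem_bot.1 hy.1
        show y.1 ∈ T₁
        rw [this]; exact one_mem _
      · rintro x ⟨y, hy, rfl⟩; exact hy.2
    obtain ⟨g, hg, g1, g2⟩ := ((isCentral_iff D₀).1 hcen).2 _ _ hf'
    obtain ⟨-, g₁, g₂, -, hg₂, hg3⟩ := (fmap_prod hD₀).1 hg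
    have hzz' : ∀ z ∈ T₁ ⊓ T₂, ((z⁻¹, z) : Ω × Ω) ∈ D₀.center := fun z hz => by
      have := hzz z⁻¹ (Subgroup.inv_mem _ hz)
      rwa [inv_inv] at this
    refine ⟨g₂, hg₂.restrict (sup_le (fun x hx => ⟨(1, x), Subgroup.mem_sup_left ⟨one_mem _, hx⟩, rfl⟩) fun z hz =>
      ⟨(z⁻¹, z), Subgroup.mem_sup_right (hzz' z hz), rfl⟩), fun x hx => ?_, fun z hz => ?_⟩
    · have hx' : ((1, x) : Ω × Ω) ∈ (⊥ : Subgroup Ω).prod P := ⟨one_mem _, hx⟩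
      have h3 := hg3 _ (Subgroup.mem_sup_left hx')
      rw [g1 _ hx'] at h3
      exact (congrArg Prod.snd h3).symm
    · have h3 := hg3 _ (Subgroup.mem_sup_right (hzz' z hz))
      rw [g2 _ (hzz' z hz)] at h3
      exact (congrArg Prod.snd h3).symm
  · rw [fmap_factor_iff hfac]
    constructor
    · rintro ⟨hP, g, hg, h3⟩
      have hP' : P ≤ T₁ ⊔ T₂ := htop ▸ hP
      obtain ⟨-, f₁, f₂, hf₁, hf₂, h4⟩ := (fmap_prod hD₀).1 hg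
      rw [pr1_pre θ h1 h2 hP'] at hf₁
      rw [pr2_pre θ h1 h2 hP'] at hf₂
      refine ⟨hP, f₁, f₂, hf₁, hf₂, fun x hx y hy hxy => ?_⟩
      have hm : ((x, y) : Ω × Ω) ∈ preimageAlong θ P := mem_pre.2 ⟨⟨hx, hy⟩, by rwa [theta_eq θ h1 h2 hx hy]⟩
      have h5 := h3 _ hm
      have hx' := hf₁.map_mem ((mem_q1 hc hP').2 ⟨hx, y, hy, hxy⟩)
      have hy' := hf₂.map_mem ((mem_q1 hc.symm (by rwa [sup_comm])).2 ⟨hy, x, hx, by rwa [← hc x hx y hy]⟩)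
      rw [h4 _ hm, theta_eq θ h1 h2 hx hy, theta_eq θ h1 h2 hx' hy'] at h5
      exact h5
    · rintro ⟨hP, f₁, f₂, hf₁, hf₂, h3⟩
      have hP' : P ≤ T₁ ⊔ T₂ := htop ▸ hP
      refine ⟨hP, fun x => (f₁ x.1, f₂ x.2), (fmap_prod hD₀).2 ⟨pre_le, f₁, f₂, ?_, ?_, fun _ _ => rfl⟩, ?_⟩
      · rwa [pr1_pre θ h1 h2 hP']
      · rwa [pr2_pre θ h1 h2 hP']
      · rintro ⟨x, y⟩ hxy
        rw [mem_pre] at hxy
        have hx := hxy.1.1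
        have hy := hxy.1.2
        have h5 := hxy.2
        rw [theta_eq θ h1 h2 hx hy] at h5 ⊢
        have hx' := hf₁.map_mem ((mem_q1 hc hP').2 ⟨hx, y, hy, h5⟩)
        have hy' := hf₂.map_mem ((mem_q1 hc.symm (by rwa [sup_comm])).2 ⟨hy, x, hx, by rwa [← hc x hx y hy]⟩)
        rw [theta_eq θ h1 h2 hx' hy']
        exact h3 x hx y hy h5

theorem closed_of_le_center [Finite S] (hZ : Z ≤ F.center) : F.StronglyClosed Z := by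
  have h1 : F.IsCentral F.center := Cfsg.Agent.Lib.FusionJoin.isCentral_center F
  rw [stronglyClosed_iff]
  refine ⟨hZ.trans h1.1, fun P f hP hf x hx => ?_⟩
  rw [fix_of_isCentral h1 hf hx (hZ (hP hx))]
  exact hP hx

theorem prod_pgroup [Fact p.Prime] (h₁ : IsPGroup p T₁) (h₂ : IsPGroup p T₂) : IsPGroup p ↥(T₁.prod T₂) := by
  intro x
  obtain ⟨m, hm⟩ := h₁ ⟨(x : Ω × Ω).1, x.2.1⟩
  obtain ⟨n, hn⟩ := h₂ ⟨(x : Ω × Ω).2, x.2.2⟩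
  refine ⟨m + n, Subtype.ext (Prod.ext ?_ ?_)⟩
  · have h1 := congrArg Subtype.val hm
    show (x : Ω × Ω).1 ^ p ^ (m + n) = 1
    have h2 : (x : Ω × Ω).1 ^ p ^ m = 1 := h1
    rw [pow_add, pow_mul, h2, one_pow]
  · have h1 := congrArg Subtype.val hn
    show (x : Ω × Ω).2 ^ p ^ (m + n) = 1
    have h2 : (x : Ω × Ω).2 ^ p ^ n = 1 := h1
    rw [add_comm, pow_add, pow_mul, h2, one_pow]

theorem cp_sat [Finite T₁] [Finite T₂] [Fact p.Prime] (h₁ : IsPGroup p T₁) (h₂ : IsPGroup p T₂) (hE₁ : E₁.IsSaturated p)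
    (hE₂ : E₂.IsSaturated p) (h : IsCentralProductOf E₁ E₂ D) : D.IsSaturated p := by
  obtain ⟨D₀, hD₀, Z, θ, hZc, -, -, -, -, hfac⟩ := h
  have hfin : Finite ↥(T₁.prod T₂) := Finite.of_equiv _ (Subgroup.prodEquiv T₁ T₂).symm.toEquiv
  exact isSaturated_factor (prod_pgroup h₁ h₂) (prod_saturated h₁ h₂ hE₁ hE₂ hD₀) (closed_of_le_center hZc) hfac

/-- the antidiagonal -/
def zz (T₁ T₂ : Subgroup Ω) (hc : Comm T₁ T₂) : Subgroup (Ω × Ω) where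
  carrier := {w | w.1 ∈ T₁ ⊓ T₂ ∧ w.2 = w.1⁻¹}
  one_mem' := ⟨one_mem _, by simp⟩
  mul_mem' := by
    rintro ⟨z, z'⟩ ⟨w, w'⟩ ⟨h1, h2⟩ ⟨k1, k2⟩
    refine ⟨mul_mem h1 k1, ?_⟩
    have h2' : z' = z⁻¹ := h2
    have k2' : w' = w⁻¹ := k2
    show z' * w' = (z * w)⁻¹
    rw [h2', k2', hc z h1.1 w k1.2, mul_inv_rev]
  inv_mem' := by
    rintro ⟨z, z'⟩ ⟨h1, h2⟩
    have h2' : z' = z⁻¹ := h2
    exact ⟨Subgroup.inv_mem _ h1, by show z'⁻¹ = z⁻¹⁻¹; rw [h2']⟩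

/-- the multiplication map -/
def mulHom (T₁ T₂ : Subgroup Ω) (hc : Comm T₁ T₂) : ↥(T₁.prod T₂) →* Ω where
  toFun w := (w : Ω × Ω).1 * (w : Ω × Ω).2
  map_one' := by simp
  map_mul' := by
    rintro ⟨⟨x, y⟩, hx, hy⟩ ⟨⟨x', y'⟩, hx', hy'⟩
    show x * x' * (y * y') = x * y * (x' * y')
    have h1 : x' * y = y * x' := hc x' hx' y hy
    calc x * x' * (y * y') = x * (x' * y) * y' := by group
      _ = x * (y * x') * y' := by rw [h1]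
      _ = x * y * (x' * y') := by group

theorem exists_cp [Finite T₁] [Finite T₂] [Fact p.Prime] (h₁ : IsPGroup p T₁) (h₂ : IsPGroup p T₂) (E₁ : FusionSystem T₁)
    (E₂ : FusionSystem T₂) (hc : Comm T₁ T₂) (c₁ : E₁.IsCentral (T₁ ⊓ T₂)) (c₂ : E₂.IsCentral (T₁ ⊓ T₂)) :
    ∃ D : FusionSystem (T₁ ⊔ T₂), IsCentralProductOf E₁ E₂ D := by
  obtain ⟨D₀, hD₀⟩ := Cfsg.Agent.S5136.result p h₁ h₂ E₁ E₂
  have hfin : Finite ↥(T₁.prod T₂) := Finite.of_equiv _ (Subgroup.prodEquiv T₁ T₂).symm.toEquiv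
  have hZ : D₀.IsCentral (zz T₁ T₂ hc) := by
    rw [isCentral_iff]
    refine ⟨fun w hw => ⟨hw.1.1, by rw [hw.2]; exact T₂.inv_mem hw.1.2⟩, fun P f hf => ?_⟩
    obtain ⟨hP, f₁, f₂, hf₁, hf₂, h3⟩ := (fmap_prod hD₀).1 hf
    obtain ⟨g₁, hg₁, a1, a2⟩ := ((isCentral_iff E₁).1 c₁).2 _ _ hf₁
    obtain ⟨g₂, hg₂, b1, b2⟩ := ((isCentral_iff E₂).1 c₂).2 _ _ hf₂
    have hP1 : pr1 (P ⊔ zz T₁ T₂ hc) ≤ pr1 P ⊔ (T₁ ⊓ T₂) := by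
      rw [pr1, Subgroup.map_sup]
      refine sup_le_sup le_rfl ?_
      rintro _ ⟨w, hw, rfl⟩
      exact hw.1
    have hP2 : pr2 (P ⊔ zz T₁ T₂ hc) ≤ pr2 P ⊔ (T₁ ⊓ T₂) := by
      rw [pr2, Subgroup.map_sup]
      refine sup_le_sup le_rfl ?_
      rintro _ ⟨w, hw, rfl⟩
      show w.2 ∈ T₁ ⊓ T₂
      rw [hw.2]
      exact Subgroup.inv_mem _ hw.1
    refine ⟨fun x => (g₁ x.1, g₂ x.2), (fmap_prod hD₀).2 ⟨sup_le hP fun w hw => ⟨hw.1.1, by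
      rw [hw.2]; exact T₂.inv_mem hw.1.2⟩, g₁, g₂, hg₁.restrict hP1, hg₂.restrict hP2, fun _ _ => rfl⟩, fun x hx => ?_,
      fun w hw => ?_⟩
    · rw [h3 x hx]
      show (g₁ x.1, g₂ x.2) = _
      rw [a1 x.1 ⟨x, hx, rfl⟩, b1 x.2 ⟨x, hx, rfl⟩]
    · show (g₁ w.1, g₂ w.2) = w
      have h4 : w.2 ∈ T₁ ⊓ T₂ := by rw [hw.2]; exact Subgroup.inv_mem _ hw.1
      rw [a2 _ hw.1, b2 _ h4]
  have hZc : zz T₁ T₂ hc ≤ D₀.center := le_sSup hZ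
  have hker : ∀ s : ↥(T₁.prod T₂), mulHom T₁ T₂ hc s = 1 ↔ (s : Ω × Ω) ∈ zz T₁ T₂ hc := by
    rintro ⟨⟨x, y⟩, hx, hy⟩
    show x * y = 1 ↔ x ∈ T₁ ⊓ T₂ ∧ y = x⁻¹
    constructor
    · intro h
      have h1 : y = x⁻¹ := (inv_eq_of_mul_eq_one_right h).symm
      refine ⟨⟨hx, ?_⟩, h1⟩
      have : x = y⁻¹ := by rw [h1, inv_inv]
      rw [this]
      exact T₂.inv_mem hy
    · rintro ⟨-, h⟩
      rw [h, mul_inv_cancel]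
  have hrange : (mulHom T₁ T₂ hc).range = T₁ ⊔ T₂ := by
    ext x
    rw [mem_sup_comm hc]
    constructor
    · rintro ⟨⟨⟨y, z⟩, hyz⟩, rfl⟩
      exact ⟨y, hyz.1, z, hyz.2, rfl⟩
    · rintro ⟨y, hy, z, hz, rfl⟩
      exact ⟨⟨(y, z), ⟨hy, hz⟩⟩, rfl⟩
  obtain ⟨D, hD⟩ := Cfsg.Agent.Lib.FusionFactor.exists_factorSystem D₀ (zz T₁ T₂ hc) (closed_of_le_center hZc)
    (mulHom T₁ T₂ hc) hker hrange
  refine ⟨D, D₀, hD₀, zz T₁ T₂ hc, mulHom T₁ T₂ hc, hZc, ?_, ?_, fun x hx => ?_, fun y hy => ?_, hD⟩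
  · rw [eq_bot_iff]
    rintro ⟨x, y⟩ ⟨⟨h1, h2⟩, h3⟩
    have h4 : y = 1 := Subgroup.mem_bot.1 h3.2
    have h5 : y = x⁻¹ := h2
    rw [h4] at h5
    rw [Subgroup.mem_bot]
    exact Prod.ext (by simpa using h5) h4
  · rw [eq_bot_iff]
    rintro ⟨x, y⟩ ⟨⟨h1, h2⟩, h3⟩
    have h4 : x = 1 := Subgroup.mem_bot.1 h3.1
    have h5 : y = x⁻¹ := h2
    rw [h4] at h5
    rw [Subgroup.mem_bot]
    exact Prod.ext h4 (by simpa using h5)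
  · show x * 1 = x
    rw [mul_one]
  · show 1 * y = y
    rw [one_mul]

/-- the unique factorization of a `D`-map on `P ≤ T₁` -/
theorem CP.fmap1 [Finite T₁] (h : CP E₁ E₂ D) (hP : P ≤ T₁) : FMap D P f ↔ FMap E₁ P f := by
  have hPT : P ≤ T := hP.trans h.le1
  have hPT' : P ≤ T₁ ⊔ T₂ := h.top ▸ hPT
  rw [h.map]
  constructor
  · rintro ⟨-, f₁, f₂, hf₁, hf₂, h1⟩
    have h2 : f₂ 1 = 1 := hf₂.map_one
    refine (hf₁.restrict (le_q1 hP)).congr fun x hx => ?_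
    have := h1 x (hP hx) 1 (one_mem _) (by rwa [mul_one])
    rw [mul_one, h2, mul_one] at this
    exact this.symm
  · intro hf
    obtain ⟨g, hg, g1, g2⟩ := ((isCentral_iff E₁).1 h.cen1).2 P f hf
    have hle : q1 T₁ T₂ P ≤ P ⊔ (T₁ ⊓ T₂) := by
      intro x hx
      obtain ⟨hx1, y, hy, hxy⟩ := (mem_q1 h.comm hPT').1 hx
      have hy1 : y ∈ T₁ := by
        have h1 := T₁.mul_mem (T₁.inv_mem hx1) (hP hxy)
        rwa [inv_mul_cancel_left] at h1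
      have : x = (x * y) * y⁻¹ := by group
      rw [this]
      exact mul_mem (Subgroup.mem_sup_left hxy) (Subgroup.mem_sup_right (Subgroup.inv_mem _ ⟨hy1, hy⟩))
    refine ⟨hPT, g, fun x => x, hg.restrict hle, fmap_id E₂ q1_le, fun x hx y hy hxy => ?_⟩
    have hy1 : y ∈ T₁ := by
      have h1 := T₁.mul_mem (T₁.inv_mem hx) (hP hxy)
      rwa [inv_mul_cancel_left] at h1
    have hx' : x ∈ P ⊔ (T₁ ⊓ T₂) := hle ((mem_q1 h.comm hPT').2 ⟨hx, y, hy, hxy⟩)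
    have hyi : y ∈ T₁ ⊓ T₂ := ⟨hy1, hy⟩
    have h2 := g1 _ hxy
    rw [hg.map_mul hx' (Subgroup.mem_sup_right hyi), g2 y hyi] at h2
    exact h2.symm

end Cfsg.Agent.Lib.FusionCP
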