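import Cfsg.Agent.Lib.FusionCriterion2

/-! The saturation criterion of Broto-Castellana-Grodal-Levi-Oliver, main statement. -/

set_option autoImplicit false
open Cfsg Cfsg.FusionSystem Cfsg.Agent.Lib.FusionBasic Cfsg.Agent.Lib.FusionSat Cfsg.Agent.Lib.FusionTools
open Cfsg.Agent.Lib.FusionCriterion Cfsg.Agent.Lib.FusionCriterion2

namespace Cfsg.Agent.Lib.FusionCriterion3

variable {Ω : Type*} [Group Ω] {S : Subgroup Ω} {F : FusionSystem S} {P Q Q' R R' M : Subgroup Ω} {e f g : Ω → Ω} {p : ℕ}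

/-- a `p`-subgroup of `A` normalized by `A` lies in `O_p(A)` -/
theorem le_pCore_map {G : Type*} [Group G] {A K : Subgroup G} (hKA : K ≤ A) (hK : IsPGroup p K)
    (hn : ∀ a ∈ A, ∀ k ∈ K, a * k * a⁻¹ ∈ K) : K ≤ (pCore p A).map A.subtype := by
  have h1 : (K.subgroupOf A).Normal := ⟨fun k hk a => hn a a.2 k hk⟩
  have h2 : IsPGroup p (K.subgroupOf A) := hK.comap_of_injective A.subtype A.subtype_injective
  have h3 : K.subgroupOf A ≤ pCore p A := Cfsg.Agent.Lib.LocBase.le_pCore h1 h2
  intro k hk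
  exact ⟨⟨k, hKA hk⟩, h3 (Subgroup.mem_subgroupOf.2 hk), rfl⟩

theorem pCore_map_normal {G : Type*} [Group G] {A : Subgroup G} {a k : G} (ha : a ∈ A)
    (hk : k ∈ (pCore p A).map A.subtype) : a * k * a⁻¹ ∈ (pCore p A).map A.subtype := by
  obtain ⟨x, hx, rfl⟩ := hk
  have h1 : (pCore p A).Normal := by
    have := Cfsg.Agent.Lib.LocBase.pCore_characteristic p A
    infer_instance
  exact ⟨⟨a, ha⟩ * x * ⟨a, ha⟩⁻¹, h1.conj_mem x hx _, rfl⟩

theorem pCore_map_le {G : Type*} [Group G] (A : Subgroup G) : (pCore p A).map A.subtype ≤ A := Subgroup.map_subtype_le _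

theorem isPGroup_pCore_map {G : Type*} [Group G] [Finite G] [Fact p.Prime] (A : Subgroup G) :
    IsPGroup p ((pCore p A).map A.subtype) :=
  (Cfsg.Agent.Lib.LocBase.isPGroup_pCore p A).map _

/-- `O_p(Aut_F(P))` is carried to `O_p(Aut_F(Q))` by an isomorphism of the system. -/
theorem map_pCore_autGroup [Finite S] [Fact p.Prime] (h : FIso F P Q f) {κ : MulAut P}
    (hκ : κ ∈ (pCore p (F.autGroup P)).map (F.autGroup P).subtype) :
    h.autEquiv κ ∈ (pCore p (F.autGroup Q)).map (F.autGroup Q).subtype := by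
  have hfinP := finite_of_le h.le_left
  have h1 : ((pCore p (F.autGroup P)).map (F.autGroup P).subtype).map h.autEquiv.toMonoidHom ≤
      (pCore p (F.autGroup Q)).map (F.autGroup Q).subtype := by
    apply le_pCore_map
    · rw [← h.map_autGroup]
      exact Subgroup.map_mono (pCore_map_le _)
    · exact (isPGroup_pCore_map _).map _
    · rintro a ha _ ⟨k, hk, rfl⟩
      rw [← h.map_autGroup] at ha
      obtain ⟨b, hb, rfl⟩ := ha
      refine ⟨b * k * b⁻¹, pCore_map_normal hb hk, ?_⟩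
      rw [map_mul, map_mul, map_inv]
  exact h1 ⟨κ, hκ, rfl⟩

/-- Generation of the system by its maps on a family `ℋ` of subgroups: maps on a subgroup outside `ℋ` are composites of
restrictions of maps from larger subgroups. -/
theorem comp_of_generated [Finite S] (ℋ : Set (Subgroup Ω)) (hℋconj : ∀ P ∈ ℋ, ∀ Q, F.IsConj P Q → Q ∈ ℋ)
    (hgen : ∀ E : FusionSystem S, (∀ P ∈ ℋ, F.Hom P ⊆ E.Hom P) → F ≤ E) (hSℋ : S ∈ ℋ) {P : Subgroup Ω} (hP : P ∉ ℋ)
    {Q Q' : Subgroup Ω} {f : Ω → Ω} (hPQ : F.IsConj P Q) (hf : FIso F Q Q' f) : Comp F Q Q' f := by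
  have hneq : ∀ R, F.IsConj P R → R ∉ ℋ := fun R hR hRℋ => hP (hℋconj R hRℋ P (isConj_symm hR))
  have hlt : ∀ R, F.IsConj P R → R < S := by
    intro R hR
    refine lt_of_le_of_ne (isConj_le hR).2 (fun h => hneq R hR (h ▸ hSℋ))
  let E : FusionSystem S :=
    { Hom := fun R => {φ | φ ∈ F.Hom R ∧ (F.IsConj P R → Comp F R φ.range (toFun φ))}
      le_of_mem := fun h => F.le_of_mem h.1
      injective_of_mem := fun h => F.injective_of_mem h.1
      conj_mem := by
        intro R g hR hg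
        refine ⟨F.conj_mem hR hg, fun hPR => ?_⟩
        have h1 : FMap F S (fun x => g * x * g⁻¹) := fmap_conj F le_rfl hg
        have h2 : FIso F R (conjHom R g).range (fun x => g * x * g⁻¹) := fiso_range (F.conj_mem hR hg) (fun x => rfl)
        refine (Comp.step (hlt R hPR) h1 h2).congr (fun x hx => ?_)
        rw [toFun_of_mem _ hx]
        rfl
      comp_mem := by
        rintro R T φ ψ ⟨hφ, hφc⟩ ⟨hψ, hψc⟩ h
        refine ⟨F.comp_mem hφ hψ h, fun hPR => ?_⟩
        have h1 := hφc hPR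
        have hrT : φ.range ≤ T := by
          rintro _ ⟨x, rfl⟩
          exact h x
        have hψT : FMap F T (toFun ψ) := fmap_toFun.2 hψ
        have hval : ∀ x : R, (ψ.comp (φ.codRestrict T h)) x = toFun ψ (toFun φ (x : Ω)) := by
          intro x
          rw [toFun_coe, toFun_of_mem ψ (h x)]
          rfl
        have h3 : FIso F φ.range (ψ.comp (φ.codRestrict T h)).range (toFun ψ) := by
          refine ⟨hψT.restrict hrT, fun y => ?_⟩
          constructor
          · rintro ⟨x, rfl⟩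
            exact ⟨φ x, ⟨x, rfl⟩, by rw [hval, toFun_coe]⟩
          · rintro ⟨_, ⟨x, rfl⟩, rfl⟩
            exact ⟨x, by rw [hval, toFun_coe]⟩
        have h4 : Comp F φ.range (ψ.comp (φ.codRestrict T h)).range (toFun ψ) := by
          rcases hrT.lt_or_eq with hlt' | heq
          · exact Comp.step hlt' hψT h3
          · have hPT : F.IsConj P T := heq ▸ isConj_trans hPR h1.fiso.isConj
            have h5 := hψc hPT
            have h6 : ψ.range = (ψ.comp (φ.codRestrict T h)).range := by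
              ext y
              rw [h5.fiso.2 y, h3.2 y, heq]
            rw [← h6, heq]
            exact h5
        refine (h1.trans h4).congr (fun x hx => ?_)
        show toFun ψ (toFun φ x) = toFun (ψ.comp (φ.codRestrict T h)) x
        rw [toFun_of_mem (ψ.comp (φ.codRestrict T h)) hx]
        exact (hval ⟨x, hx⟩).symm
      inv_mem := by
        rintro R φ ⟨hφ, hφc⟩
        obtain ⟨ψ, hψ, h1⟩ := F.inv_mem hφ
        refine ⟨ψ, ⟨hψ, fun hPR => ?_⟩, h1⟩
        have h2 : F.IsConj R φ.range := ⟨φ, hφ, rfl⟩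
        have h3 := hφc (isConj_trans hPR (isConj_symm h2))
        obtain ⟨g, hg, hg1⟩ := h3.symm
        have h4 : ψ.range = R := by
          ext y
          constructor
          · rintro ⟨⟨_, x, rfl⟩, rfl⟩
            rw [h1]
            exact x.2
          · intro hy
            exact ⟨⟨φ ⟨y, hy⟩, ⟨_, rfl⟩⟩, h1 _⟩
        rw [h4]
        refine hg.congr (fun y hy => ?_)
        obtain ⟨x, rfl⟩ := hy
        rw [toFun_of_mem ψ ⟨x, rfl⟩, h1 x]
        have h5 := hg1 x x.2
        rw [toFun_coe] at h5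
        exact h5 }
  have hFE : F ≤ E := by
    apply hgen
    intro R hR φ hφ
    exact ⟨hφ, fun hPR => absurd hR (hneq R hPR)⟩
  obtain ⟨⟨φ, hφ, hφf⟩, h2⟩ := hf
  have h1 := (hFE Q hφ).2 hPQ
  have h3 : φ.range = Q' := by
    ext y
    rw [h2 y]
    constructor
    · rintro ⟨x, rfl⟩
      exact ⟨x, x.2, (hφf x).symm⟩
    · rintro ⟨x, hx, rfl⟩
      exact ⟨⟨x, hx⟩, hφf _⟩
  rw [h3] at h1
  exact h1.congr (fun x hx => by rw [toFun_of_mem φ hx]; exact hφf ⟨x, hx⟩)

/-- **Saturation criterion** (Broto, Castellana, Grodal, Levi, Oliver). -/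
theorem saturated_of_criterion [Fact p.Prime] [Finite S] (hS : IsPGroup p S) (F : FusionSystem S)
    (ℋ : Set (Subgroup Ω)) (hℋconj : ∀ P ∈ ℋ, ∀ Q, F.IsConj P Q → Q ∈ ℋ)
    (hsat : ∀ P ∈ ℋ, ∃ Q, F.IsConj P Q ∧ F.IsFullyAutomized p Q ∧ F.IsReceptive Q)
    (hgen : ∀ E : FusionSystem S, (∀ P ∈ ℋ, F.Hom P ⊆ E.Hom P) → F ≤ E)
    (hstar : ∀ P : Subgroup Ω, F.IsCentric P → P ∉ ℋ → ∃ Q, F.IsConj P Q ∧
      ¬ (autInducedBy S Q ⊓ (pCore p ↥(F.autGroup Q)).map (F.autGroup Q).subtype ≤ Inn Q)) : F.IsSaturated p := by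
  have hSℋ : S ∈ ℋ := by
    by_contra hSℋ
    obtain ⟨Q, hQ, h⟩ := hstar S (isCentric_top F) hSℋ
    have hQS : Q = S := by
      obtain ⟨f, hf⟩ := isConj_iff_fiso.1 hQ
      exact Subgroup.eq_of_le_of_card_ge hf.le_right (by rw [hf.card_eq])
    apply h
    rw [hQS, ← inn_eq_autInducedBy]
    exact inf_le_left
  have claim : ∀ (n : ℕ) (P : Subgroup Ω), P ≤ S → n = Nat.card S - Nat.card P →
      ∃ Q, F.IsConj P Q ∧ F.IsFullyAutomized p Q ∧ F.IsReceptive Q := by
    intro n
    induction n using Nat.strong_induction_on with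
    | _ n ih =>
      intro P₀ hP₀S hn
      by_cases hP₀ℋ : P₀ ∈ ℋ
      · exact hsat P₀ hP₀ℋ
      obtain ⟨P, hP₀P, hP⟩ := exists_fullyNormalized_conj F hP₀S
      have hPℋ : P ∉ ℋ := fun h => hP₀ℋ (hℋconj P h P₀ (isConj_symm hP₀P))
      have hPS := hP.1
      have hfinP := finite_of_le hPS
      have hcard : Nat.card P₀ = Nat.card P := isConj_card_eq hP₀P
      have hbig : Big F p P := by
        intro R hRS hcR
        have h1 : Nat.card R ≤ Nat.card S := Subgroup.card_le_of_le hRS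
        exact ih (Nat.card S - Nat.card R) (by omega) R hRS rfl
      have hcomp : ∀ {Q Q' : Subgroup Ω} {f : Ω → Ω}, F.IsConj P Q → FIso F Q Q' f → Comp F Q Q' f :=
        fun h1 h2 => comp_of_generated ℋ hℋconj hgen hSℋ hPℋ h1 h2
      have hX : ∀ Q, F.IsConj P Q → InX F P Q := by
        intro Q hPQ
        obtain ⟨f, hf⟩ := isConj_iff_fiso.1 hPQ
        exact inX_of_comp hS hP hbig (hcomp (isConj_refl F hPS) hf) (inX_self hPS)
      set O : Subgroup (MulAut P) := (pCore p (F.autGroup P)).map (F.autGroup P).subtype with hO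
      have hOp : IsPGroup p O := isPGroup_pCore_map _
      have hOn : ∀ χ ∈ F.autGroup P, ∀ o ∈ O, χ * o * χ⁻¹ ∈ O := fun χ hχ o ho => pCore_map_normal hχ ho
      have hInn : Inn P ≤ O := by
        apply le_pCore_map (inn_le_autGroup hPS)
        · exact ((isPGroup_of_le hS hPS).of_surjective _ (MonoidHom.rangeRestrict_surjective _))
        · rintro a - _ ⟨x, rfl⟩
          refine ⟨a x, ?_⟩
          apply MulEquiv.ext
          intro y
          show a x * y * (a x)⁻¹ = a (x * (a⁻¹ y) * x⁻¹)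
          rw [map_mul, map_mul, map_inv, MulAut.apply_inv_self]
      have hPR₀ : P ≤ kNorm S P O := by
        intro g hg
        refine kNorm_of_conjAut (hPS hg) (Subgroup.le_normalizer hg) (hInn ⟨⟨g, hg⟩, ?_⟩)
        apply MulEquiv.ext
        intro y
        apply Subtype.ext
        rw [conjAut_apply]
        rfl
      have hlt : P < kNorm S P O := by
        refine lt_of_le_of_ne hPR₀ (fun heq => ?_)
        by_cases hc : F.IsCentric P
        · obtain ⟨Q, hPQ, hnot⟩ := hstar P hc hPℋ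
          apply hnot
          rintro κ ⟨hκ1, hκ2⟩
          obtain ⟨ψ, hψ, hψQ⟩ := hX Q hPQ
          have hQS := hψQ.le_left
          obtain ⟨g, hg, hκg⟩ := mem_autInducedBy_iff.1 hκ1
          have hgn := mem_normalizer_of_aut hκg
          have hgN : g ∈ normalizerIn S Q := mem_normalizerIn.2 ⟨hg, hgn⟩
          have h1 : hψQ.autEquiv κ ∈ O := map_pCore_autGroup hψQ hκ2
          have h2 : ψ g ∈ kNorm S P O := by
            refine ⟨hψ.map_mem hgN, _, h1, fun y hy => ?_⟩
            obtain ⟨x, hx, rfl⟩ := (hψQ.2 y).1 hy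
            rw [autFun_of_mem _ hy]
            have h3 := hψQ.autEquiv_coe κ ⟨x, hx⟩
            rw [h3, hκg, hψ.map_conj hgN (le_normalizerIn hQS hx)]
          rw [← heq] at h2
          have hgQ : g ∈ Q := hψQ.mem_of_map_mem hψ (le_normalizerIn hQS) hgN h2
          refine ⟨⟨g, hgQ⟩, ?_⟩
          apply MulEquiv.ext
          intro y
          apply Subtype.ext
          rw [hκg]
          rfl
        · apply hc
          refine ⟨hPS, fun Q hPQ c hcQ => ?_⟩
          obtain ⟨ψ, hψ, hψQ⟩ := hX Q hPQ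
          have hQS := hψQ.le_left
          have hcN : c ∈ normalizerIn S Q := centralizerIn_le_normalizerIn S Q hcQ
          have hcc := mem_centralizer_iff'.1 hcQ.2
          have h2 : ψ c ∈ kNorm S P O := by
            refine ⟨hψ.map_mem hcN, 1, O.one_mem, fun y hy => ?_⟩
            obtain ⟨x, hx, rfl⟩ := (hψQ.2 y).1 hy
            rw [autFun_one hy, ← hψ.map_conj hcN (le_normalizerIn hQS hx), hcc x hx]
          rw [← heq] at h2
          exact hψQ.mem_of_map_mem hψ (le_normalizerIn hQS) hcN h2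
      refine ⟨P, hP₀P, good_of_ext hS hP hbig hX O hOn hlt (fun h hh => ?_)⟩
      obtain ⟨k, hk, -, hkh⟩ := ext_all hS hP hbig hX O hOp hOn hPR₀ (hcomp (isConj_refl F hPS) hh) (isConj_refl F hPS)
        (fun x => x) (fun x => x) (fmap_id F (normalizerIn_le S P)) (FIso.refl F hPS) (fmap_id F (normalizerIn_le S P))
        (FIso.refl F hPS)
      exact ⟨k, hk, hkh⟩
  intro P hP
  exact claim _ P hP rfl

end Cfsg.Agent.Lib.FusionCriterion3
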