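import Mathlib
import Cfsg.Agent.Lib.FusionFrat
import Cfsg.Agent.Lib.FusionSub
import Cfsg.Agent.Lib.FusionCriterion3

/-!
Subsystems of index prime to `p`.
-/

set_option autoImplicit false
open Cfsg Cfsg.FusionSystem Cfsg.Agent.Lib.FusionBasic Cfsg.Agent.Lib.FusionSat Cfsg.Agent.Lib.FusionNormal
  Cfsg.Agent.Lib.FusionInvar Cfsg.Agent.Lib.FusionTools Cfsg.Agent.Lib.FusionPP Cfsg.Agent.Lib.FusionStrong
  Cfsg.Agent.Lib.FusionSys Cfsg.Agent.Lib.FusionFrat Cfsg.Agent.Lib.FusionSub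

namespace Cfsg.Agent.Lib.FusionPrime

variable {Ω : Type*} [Group Ω] {S T : Subgroup Ω} {F : FusionSystem S} {E : FusionSystem T} {P Q R M X Y Z : Subgroup Ω}
  {a b f g : Ω → Ω} {p : ℕ}

/-! ### Generated systems from equivariant data -/

theorem genSys_conjInv {hTS : T ≤ S} {A : Subgroup Ω → (Ω → Ω) → Prop}
    (hA : ∀ P f, A P f → FMap F P f ∧ P ≤ T ∧ ∀ x ∈ P, f x ∈ T)
    (hAinv : ∀ P Q a f, FIso F T T a → A P f → (∀ y, y ∈ Q ↔ ∃ x ∈ P, a x = y) →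
      ∃ g, A Q g ∧ ∀ x ∈ P, g (a x) = a (f x)) : ConjInv F (genSys F T hTS A) := by
  intro P Q a f ha hf hQ
  refine genSys_induction hA (fun P f => ∀ (Q : Subgroup Ω) (a : Ω → Ω), FIso F T T a → (∀ y, y ∈ Q ↔ ∃ x ∈ P, a x = y) →
    ∃ g, FMap (genSys F T hTS A) Q g ∧ ∀ x ∈ P, g (a x) = a (f x)) ?_ ?_ ?_ ?_ ?_ P f hf Q a ha hQ
  · intro P f hf Q a ha hQ
    obtain ⟨g, hg, h⟩ := hAinv P Q a f ha hf hQ
    exact ⟨g, fmap_genSys_base hA hg, h⟩
  · intro P s hP hs Q a ha hQ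
    have hQT : Q ≤ T := fun y hy => by
      obtain ⟨x, hx, rfl⟩ := (hQ y).1 hy
      exact ha.mem (hP hx)
    exact ⟨_, fmap_conj _ hQT (ha.mem hs), fun x hx => (ha.1.map_conj hs (hP hx)).symm⟩
  · intro P R f g hf ih1 hg ih2 hfR Q a ha hQ
    obtain ⟨R', hR'⟩ := (ha.1.restrict hg.le).exists_iso
    obtain ⟨f', hf', h1⟩ := ih1 Q a ha hQ
    obtain ⟨g', hg', h2⟩ := ih2 R' a ha (fun y => hR'.2 y)
    refine ⟨fun x => g' (f' x), hf'.comp hg' fun y hy => ?_, fun x hx => ?_⟩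
    · obtain ⟨x, hx, rfl⟩ := (hQ y).1 hy
      rw [h1 x hx]
      exact hR'.mem (hfR x hx)
    · show g' (f' (a x)) = a (g (f x))
      rw [h1 x hx, h2 _ (hfR x hx)]
  · intro P R f g hf ih hg hgf hfg Q a ha hQ
    obtain ⟨P', hP'⟩ := (ha.1.restrict hf.le_left).exists_iso
    obtain ⟨f', hf', h1⟩ := ih P' a ha (fun y => hP'.2 y)
    have hf'' : FIso (genSys F T hTS A) P' Q f' := by
      refine ⟨hf', fun y => ?_⟩
      rw [hQ y]
      constructor
      · rintro ⟨z, hz, rfl⟩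
        exact ⟨a (g z), hP'.mem (hg.mem hz), by rw [h1 _ (hg.mem hz), hfg z hz]⟩
      · rintro ⟨z, hz, rfl⟩
        obtain ⟨x, hx, rfl⟩ := hP'.mem_iff.1 hz
        exact ⟨f x, hf.mem hx, (h1 x hx).symm⟩
    obtain ⟨g', hg', h2, h3⟩ := hf''.symm
    refine ⟨g', hg'.1, fun x hx => ?_⟩
    have h4 := h2 (a (g x)) (hP'.mem (hg.mem hx))
    rw [h1 _ (hg.mem hx), hfg x hx] at h4
    exact h4
  · intro P f g hf ih hfg Q a ha hQ
    obtain ⟨k, hk, h⟩ := ih Q a ha hQ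
    exact ⟨k, hk, fun x hx => by rw [h x hx, hfg x hx]⟩

theorem genSys_le {hTS : T ≤ S} {A : Subgroup Ω → (Ω → Ω) → Prop}
    (hA : ∀ P f, A P f → FMap F P f ∧ P ≤ T ∧ ∀ x ∈ P, f x ∈ T) {U : Subgroup Ω} (hTU : T ≤ U) {D : FusionSystem U}
    (h : ∀ P f, A P f → FMap D P f) (hf : FMap (genSys F T hTS A) P f) : FMap D P f := by
  refine genSys_induction hA (fun P f => FMap D P f) h ?_ ?_ ?_ ?_ P f hf
  · intro P s hP hs
    exact fmap_conj D (hP.trans hTU) (hTU hs)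
  · intro P Q f g _ h1 _ h2 h3
    exact h1.comp h2 h3
  · intro P Q f g hf h1 hg h2 h3
    have h4 : FIso D P Q f := ⟨h1, hf.2⟩
    obtain ⟨k, hk, k1, k2⟩ := h4.symm
    refine hk.1.congr fun y hy => ?_
    have h5 : f (k y) = f (g y) := by rw [k2 y hy, h3 y hy]
    exact h1.inj (hk.mem hy) (hg.mem hy) h5
  · intro P f g _ h1 h2
    exact h1.congr h2

/-! ### `O^{p'}(Aut_F(P))` -/

/-- the subgroup of `Aut_F(P)` generated by the elements of `p`-power order -/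
def OP (F : FusionSystem S) (p : ℕ) (P : Subgroup Ω) : Subgroup (MulAut P) :=
  (Subgroup.closure {α : ↥(F.autGroup P) | ∃ k : ℕ, orderOf α = p ^ k}).map (F.autGroup P).subtype

theorem op_le : OP F p P ≤ F.autGroup P := Subgroup.map_subtype_le _

theorem op_le_iff {A : Subgroup (MulAut P)} : OP F p P ≤ A ↔ ∀ α ∈ F.autGroup P, (∃ k, orderOf α = p ^ k) → α ∈ A := by
  unfold OP
  rw [Subgroup.map_le_iff_le_comap, Subgroup.closure_le]
  constructor
  · rintro h α hα ⟨k, hk⟩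
    exact h (a := (⟨α, hα⟩ : F.autGroup P)) ⟨k, by rw [Subgroup.orderOf_mk]; exact hk⟩
  · rintro h ⟨α, hα⟩ ⟨k, hk⟩
    rw [Subgroup.orderOf_mk] at hk
    exact h α hα ⟨k, hk⟩

theorem mem_op {α : MulAut P} (hα : α ∈ F.autGroup P) {k : ℕ} (h : orderOf α = p ^ k) : α ∈ OP F p P :=
  op_le_iff.1 le_rfl α hα ⟨k, h⟩

theorem mem_op_of_isPGroup [Fact p.Prime] {K : Subgroup (MulAut P)} (hK : IsPGroup p K) (hKF : K ≤ F.autGroup P) :
    K ≤ OP F p P := by
  intro α hα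
  obtain ⟨k, hk⟩ := IsPGroup.iff_orderOf.1 hK ⟨α, hα⟩
  rw [Subgroup.orderOf_mk] at hk
  exact mem_op (hKF hα) hk

theorem autInducedBy_le_op [Fact p.Prime] (hS : IsPGroup p S) (hP : P ≤ S) : autInducedBy S P ≤ OP F p P :=
  mem_op_of_isPGroup (isPGroup_autInducedBy hS le_rfl) (autInducedBy_le_autGroup hP le_rfl)

theorem op_transport (h : FIso F P Q f) {κ : MulAut P} (hκ : κ ∈ OP F p P) : h.autEquiv κ ∈ OP F p Q := by
  have h1 : OP F p P ≤ (OP F p Q).comap h.autEquiv.toMonoidHom := by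
    rw [op_le_iff]
    rintro α hα ⟨k, hk⟩
    refine mem_op (k := k) ((conj_autGroup h α).1 hα) ?_
    rw [← hk]
    exact MulEquiv.orderOf_eq h.autEquiv α
  exact h1 hκ

theorem op_normal : ∀ α ∈ F.autGroup P, ∀ n ∈ OP F p P, α * n * α⁻¹ ∈ OP F p P := by
  intro α hα n hn
  have h1 : OP F p P ≤ (OP F p P).comap (MulAut.conj α).toMonoidHom := by
    rw [op_le_iff]
    rintro β hβ ⟨k, hk⟩
    refine mem_op (k := k) (Subgroup.mul_mem _ (Subgroup.mul_mem _ hα hβ) (Subgroup.inv_mem _ hα)) ?_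
    rw [← hk]
    exact MulEquiv.orderOf_eq (MulAut.conj α) β
  exact h1 hn

/-! ### The system generated by `O^{p'}(Aut_F(P))`, `P` centric -/

/-- generating maps -/
def A0 (F : FusionSystem S) (p : ℕ) (P : Subgroup Ω) (f : Ω → Ω) : Prop :=
  F.IsCentric P ∧ ∃ α ∈ OP F p P, ∀ x ∈ P, f x = autFun α x

theorem a0_data : ∀ P f, A0 F p P f → FMap F P f ∧ P ≤ S ∧ ∀ x ∈ P, f x ∈ S := by
  rintro P f ⟨hP, α, hα, h⟩
  have h1 : FMap F P f := (fmap_of_autGroup hP.1 (op_le hα)).congr fun x hx => (h x hx).symm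
  exact ⟨h1, hP.1, fun x hx => h1.map_mem hx⟩

/-- `⟨O^{p'}(Aut_F(P)) : P centric⟩` -/
noncomputable def gen0 (F : FusionSystem S) (p : ℕ) : FusionSystem S := genSys F S le_rfl (A0 F p)

theorem gen0_sub : (gen0 F p).IsSubsystemOf F := genSys_sub

theorem gen0_base (hP : F.IsCentric P) {α : MulAut P} (hα : α ∈ OP F p P) : FMap (gen0 F p) P (autFun α) :=
  fmap_genSys_base a0_data ⟨hP, α, hα, fun _ _ => rfl⟩

theorem gen0_le {D : FusionSystem S} (h : ∀ P, F.IsCentric P → OP F p P ≤ D.autGroup P) (hf : FMap (gen0 F p) P f) :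
    FMap D P f := by
  refine genSys_le a0_data le_rfl ?_ hf
  rintro P f ⟨hP, α, hα, h1⟩
  exact (fmap_of_autGroup hP.1 (h P hP hα)).congr fun x hx => (h1 x hx).symm

theorem gen0_conjInv : ConjInv F (gen0 F p) := by
  refine genSys_conjInv a0_data ?_
  rintro P Q a f ha ⟨hP, α, hα, h⟩ hQ
  have hPQ : FIso F P Q a := ⟨ha.1.restrict hP.1, hQ⟩
  refine ⟨autFun (hPQ.autEquiv α), ⟨isCentric_of_isConj hP hPQ.isConj, _, op_transport hPQ hα, fun _ _ => rfl⟩,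
    fun x hx => ?_⟩
  rw [autFun_of_mem _ (hPQ.mem hx)]
  have h1 := hPQ.autEquiv_coe α ⟨x, hx⟩
  rw [h1, h x hx, autFun_of_mem _ hx]

theorem stronglyClosed_top (F : FusionSystem S) : F.StronglyClosed S :=
  (stronglyClosed_iff F).2 ⟨le_rfl, fun _ _ _ hf _ hx => hf.map_mem hx⟩

theorem gen0_frat [Finite S] [Fact p.Prime] (hS : IsPGroup p S) (hF : F.IsSaturated p) :
    ∀ P f, FMap F P f → Frat F (gen0 F p) P f := by
  intro P f hf
  refine frattini_of hS hF (stronglyClosed_top F) gen0_conjInv (fun P f hPT hP hf hbig => ?_) P f hf.le hf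
  have hPa := fullyAutomized_of_fullyNormalized hS hF hP
  have hPr := receptive_of_fullyNormalized hS hF hP
  by_cases hc : F.IsCentric P
  · have hM := lt_normalizerIn hS le_rfl hPT
    obtain ⟨g, α, hα, hg, hgP, h1⟩ := exists_frattini_ext hS hPa hPr (OP F p P) op_le op_normal hM.le le_rfl
      ((autInducedBy_mono (normalizerIn_le S P)).trans (autInducedBy_le_op hS hPT.le)) hf
    obtain ⟨c, f₀, h2, h3, h4⟩ := frat_comp gen0_conjInv (f := autFun α) (g := g)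
      ⟨fun x => x, autFun α, FIso.refl F le_rfl, gen0_base hc hα, fun _ _ => rfl⟩ (fun x hx => autFun_mem α hx) hPT.le
      (hbig _ g (normalizerIn_le S P) hM hg)
    exact ⟨c, f₀, h2, h3, fun x hx => (h1 x hx).trans (h4 x hx)⟩
  · obtain ⟨g, hg, h1, -⟩ := exists_extension_centralizer hPr hf
    have hlt : P < P ⊔ centralizerIn S P := by
      refine lt_of_le_of_ne le_sup_left fun h => hc ?_
      refine (isCentric_iff_of_fullyCentralized (fullyCentralized_of_fullyNormalized hS hF hP)).2 ?_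
      calc centralizerIn S P ≤ P ⊔ centralizerIn S P := le_sup_right
        _ = P := h.symm
    obtain ⟨c, f₀, h2, h3, h4⟩ := hbig _ g (sup_le hPT.le (centralizerIn_le S P)) hlt hg
    exact ⟨c, f₀, h2, h3, fun x hx => by rw [← h1 x hx]; exact h4 x hx⟩

/-! ### S5114 -/

section

variable {D : FusionSystem S}

theorem frat_of [Finite S] [Fact p.Prime] (hS : IsPGroup p S) (hF : F.IsSaturated p)
    (h : ∀ P : Subgroup Ω, F.IsCentric P → OP F p P ≤ D.autGroup P) (hf : FMap F P f) : Frat F D P f := by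
  obtain ⟨a, f₀, h1, h2, h3⟩ := gen0_frat hS hF P f hf
  exact ⟨a, f₀, h1, gen0_le h h2, h3⟩

/-- an `F`-automorphism of `S` maps normalizers to normalizers -/
theorem fullyNormalized_of_aut [Finite S] (ha : FIso F S S a) (hPQ : FIso F P Q a) (hQ : F.IsFullyNormalized Q) :
    F.IsFullyNormalized P := by
  refine ⟨hPQ.le_left, fun R hR => ?_⟩
  refine (hQ.2 R (isConj_trans (isConj_symm hPQ.isConj) hR)).trans ?_
  obtain ⟨b, hb, h1, h2⟩ := ha.symm
  have hQP : FIso F Q P b := by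
    refine ⟨hb.1.restrict hPQ.le_right, fun y => ?_⟩
    constructor
    · intro hy
      exact ⟨a y, hPQ.mem hy, h1 y (hPQ.le_left hy)⟩
    · rintro ⟨x, hx, rfl⟩
      obtain ⟨z, hz, rfl⟩ := hPQ.mem_iff.1 hx
      rw [h1 z (hPQ.le_left hz)]
      exact hz
  have h3 : FMap F (normalizerIn S Q) b := hb.1.restrict (normalizerIn_le S Q)
  exact h3.card_image_le (fun x hx => ⟨h3.map_mem hx, hQP.map_normalizer h3 (le_normalizerIn hPQ.le_right) hx hx.2⟩)
    (normalizerIn_le S P)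

theorem centric_of_centric [Finite S] [Fact p.Prime] (hS : IsPGroup p S) (hF : F.IsSaturated p)
    (h : ∀ P : Subgroup Ω, F.IsCentric P → OP F p P ≤ D.autGroup P) (hP : D.IsCentric P) : F.IsCentric P := by
  refine ⟨hP.1, fun Q hQ => ?_⟩
  obtain ⟨f, hf⟩ := isConj_iff_fiso.1 hQ
  obtain ⟨a, f₀, ha, hf₀, h1⟩ := frat_of hS hF h hf.1
  obtain ⟨R, hR⟩ := hf₀.exists_iso
  have hRc := hP.2 R hR.isConj
  have hRQ : FIso F R Q a := by
    refine ⟨ha.1.restrict hR.le_right, fun y => ?_⟩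
    rw [hf.mem_iff]
    constructor
    · rintro ⟨x, hx, rfl⟩
      exact ⟨f₀ x, hR.mem hx, (h1 x hx).symm⟩
    · rintro ⟨z, hz, rfl⟩
      obtain ⟨x, hx, rfl⟩ := hR.mem_iff.1 hz
      exact ⟨x, hx, h1 x hx⟩
  intro c hc
  obtain ⟨d, hd, rfl⟩ := ha.mem_iff.1 hc.1
  exact hRQ.mem (hRc ⟨hd, (hRQ.map_centralizer_iff ha.1 hR.le_right hd).1 hc.2⟩)

theorem op_le_autGroup [Finite S] [Fact p.Prime] (hS : IsPGroup p S) (hF : F.IsSaturated p)
    (h : ∀ P : Subgroup Ω, F.IsCentric P → OP F p P ≤ D.autGroup P) (hP : P ≤ S) : OP F p P ≤ D.autGroup P := by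
  rw [op_le_iff]
  rintro α hα ⟨k, hk⟩
  obtain ⟨Q, n, hQ, hn, -, -⟩ := exists_fullyNormalized_map hS hF hP
  have hQa := fullyAutomized_of_fullyNormalized hS hF hQ
  have hQS := hQ.1
  have hα' := (conj_autGroup hn α).1 hα
  have hp' : IsPGroup p (Subgroup.zpowers (hn.autEquiv α)) := by
    rw [IsPGroup.iff_orderOf]
    rintro ⟨x, hx⟩
    rw [Subgroup.orderOf_mk]
    have h1 : orderOf x ∣ p ^ k := by
      have h2 : orderOf (hn.autEquiv α) = p ^ k := (MulEquiv.orderOf_eq hn.autEquiv α).trans hk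
      rw [← h2]
      exact orderOf_dvd_of_mem_zpowers hx
    obtain ⟨j, -, hj⟩ := (Nat.dvd_prime_pow Fact.out).1 h1
    exact ⟨j, hj⟩
  obtain ⟨χ, hχ, h1⟩ := exists_conj_le_autInducedBy hQa (Subgroup.zpowers (hn.autEquiv α))
    (by rw [Subgroup.zpowers_le]; exact hα') hp'
  obtain ⟨s, hs, h2⟩ := mem_autInducedBy_iff.1 (h1 _ (Subgroup.mem_zpowers _))
  have hχi := (fiso_autFun_iff hQS).2 hχ
  -- m = χ n
  have hm := hn.trans hχi
  have hms : ∀ x ∈ P, autFun χ (n (autFun α x)) = s * autFun χ (n x) * s⁻¹ := by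
    intro x hx
    have h3 := h2 (χ (hn.equiv ⟨x, hx⟩))
    have h4 : (χ * hn.autEquiv α * χ⁻¹) (χ (hn.equiv ⟨x, hx⟩)) = χ (hn.equiv (α ⟨x, hx⟩)) := by
      rw [← hn.autEquiv_apply_apply, ← MulAut.mul_apply, ← MulAut.mul_apply]
      congr 1
      group
    rw [h4] at h3
    have h5 : autFun χ (n x) = (χ (hn.equiv ⟨x, hx⟩) : Q) := autFun_of_mem χ (hn.mem hx)
    have h6 : autFun χ (n (autFun α x)) = (χ (hn.equiv (α ⟨x, hx⟩)) : Q) := by
      rw [autFun_of_mem α hx]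
      exact autFun_of_mem χ (hn.mem (α ⟨x, hx⟩).2)
    rw [h5, h6]
    exact h3
  obtain ⟨c, ψ, hc, hψ, h3'⟩ := frat_of hS hF h hm.1
  have h3 : ∀ x ∈ P, autFun χ (n x) = c (ψ x) := h3'
  obtain ⟨c', hc', c1, c2⟩ := hc.symm
  have key : ∀ x ∈ P, ψ (autFun α x) = c' s * ψ x * (c' s)⁻¹ := by
    intro x hx
    have hx' := autFun_mem α hx
    have h4 : ψ (autFun α x) = c' (autFun χ (n (autFun α x))) := by
      rw [h3 _ hx', c1 _ (hψ.map_mem hx')]
    rw [h4, hms x hx, hc'.1.map_conj hs (hm.le_right (hm.mem hx))]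
    congr 2
    show c' (autFun χ (n x)) = ψ x
    rw [h3 x hx, c1 _ (hψ.map_mem hx)]
  obtain ⟨R, hR⟩ := hψ.exists_iso
  obtain ⟨ψ', hψ', q1, q2⟩ := hR.symm
  have hs' : c' s ∈ S := hc'.mem hs
  have hmap : FMap D P (fun x => ψ' (c' s * ψ x * (c' s)⁻¹)) := by
    have h5 := (hψ.comp (fmap_conj D hR.le_right hs') (fun x hx => hR.mem hx))
    refine h5.comp hψ'.1 fun x hx => ?_
    show c' s * ψ x * (c' s)⁻¹ ∈ R
    rw [← key x hx]
    exact hR.mem (autFun_mem α hx)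
  refine mem_autGroup_of_fmap hmap fun x => ?_
  rw [← key x x.2, q1 _ (autFun_mem α x.2), autFun_coe]

end

/-! ### The `p'`-residual subsystem -/

/-- the `F`-automorphisms of `S` generated by those that restrict to a map of `gen0` on some centric subgroup -/
def W0 (F : FusionSystem S) (p : ℕ) : Subgroup (MulAut S) :=
  Subgroup.closure {β | β ∈ F.autGroup S ∧ ∃ P, F.IsCentric P ∧ FMap (gen0 F p) P (autFun β)}

theorem w0_le : W0 F p ≤ F.autGroup S := by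
  unfold W0
  rw [Subgroup.closure_le]
  exact fun β hβ => hβ.1

theorem mem_w0 {β : MulAut S} (hβ : β ∈ F.autGroup S) (hP : F.IsCentric P) (h : FMap (gen0 F p) P (autFun β)) :
    β ∈ W0 F p := Subgroup.subset_closure ⟨hβ, P, hP, h⟩

/-- the maps `a ∘ f₀` with `a` in `W0` and `f₀` in `gen0` -/
def ResMap (F : FusionSystem S) (p : ℕ) (P : Subgroup Ω) (f : Ω → Ω) : Prop :=
  ∃ α ∈ W0 F p, ∃ f₀ : Ω → Ω, FMap (gen0 F p) P f₀ ∧ ∀ x ∈ P, f x = autFun α (f₀ x)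

theorem resMap_comp (h : ResMap F p P f) (hfQ : ∀ x ∈ P, f x ∈ Q) (hQS : Q ≤ S) (h' : ResMap F p Q g) :
    ResMap F p P (fun x => g (f x)) := by
  obtain ⟨α, hα, f₀, h2, h3⟩ := h
  obtain ⟨β, hβ, g₀, k2, k3⟩ := h'
  have hα' := (fiso_autFun_iff (F := F) le_rfl).2 (Subgroup.inv_mem _ (w0_le hα))
  obtain ⟨Q', hQ'⟩ := (hα'.1.restrict hQS).exists_iso
  obtain ⟨g₁, hg₁, h6⟩ := gen0_conjInv Q Q' _ g₀ hα' k2 (fun y => hQ'.2 y)
  have h7 : ∀ x ∈ P, f₀ x = autFun α⁻¹ (f x) := fun x hx => by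
    rw [h3 x hx, autFun_inv_apply _ (h2.map_mem hx)]
  refine ⟨β * α, Subgroup.mul_mem _ hβ hα, fun x => g₁ (f₀ x), h2.comp hg₁ fun x hx => ?_, fun x hx => ?_⟩
  · exact (hQ'.2 _).2 ⟨f x, hfQ x hx, (h7 x hx).symm⟩
  · show g (f x) = autFun (β * α) (g₁ (f₀ x))
    rw [h7 x hx, h6 _ (hfQ x hx), autFun_mul _ _ (autFun_mem _ (k2.map_mem (hfQ x hx))),
      autFun_apply_inv _ (k2.map_mem (hfQ x hx)), k3 _ (hfQ x hx)]

theorem resMap_inv (hf : FIso F P Q f) (hfg : ∀ x ∈ P, g (f x) = x) (h : ResMap F p P f) : ResMap F p Q g := by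
  obtain ⟨α, hα, f₀, h2, h3⟩ := h
  have h1 := (fiso_autFun_iff (F := F) le_rfl).2 (w0_le hα)
  obtain ⟨R, hR⟩ := h2.exists_iso
  obtain ⟨k, hk, k1, k2⟩ := hR.symm
  have hRQ : ∀ y, y ∈ Q ↔ ∃ x ∈ R, autFun α x = y := by
    intro y
    rw [hf.mem_iff]
    constructor
    · rintro ⟨x, hx, rfl⟩
      exact ⟨f₀ x, hR.mem hx, (h3 x hx).symm⟩
    · rintro ⟨z, hz, rfl⟩
      obtain ⟨x, hx, rfl⟩ := hR.mem_iff.1 hz
      exact ⟨x, hx, h3 x hx⟩
  obtain ⟨l, hl, h6⟩ := gen0_conjInv R Q _ k h1 hk.1 hRQ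
  refine ⟨α⁻¹, Subgroup.inv_mem _ hα, l, hl, fun y hy => ?_⟩
  obtain ⟨x, hx, rfl⟩ := hf.mem_iff.1 hy
  rw [hfg x hx, h3 x hx, h6 _ (hR.mem hx), k1 x hx, autFun_inv_apply _ (h2.le hx)]

theorem resMap_conj {s : Ω} (hP : P ≤ S) (hs : s ∈ S) : ResMap F p P (fun x => s * x * s⁻¹) :=
  ⟨1, Subgroup.one_mem _, _, fmap_conj _ hP hs,
    fun _ hx => (autFun_one (S.mul_mem (S.mul_mem hs (hP hx)) (S.inv_mem hs))).symm⟩

theorem resMap_congr (h : ResMap F p P f) (hfg : ∀ x ∈ P, f x = g x) : ResMap F p P g := by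
  obtain ⟨α, hα, f₀, h2, h3⟩ := h
  exact ⟨α, hα, f₀, h2, fun x hx => by rw [← hfg x hx, h3 x hx]⟩

/-- The candidate for the `p'`-residual subsystem. -/
noncomputable def res (F : FusionSystem S) (p : ℕ) : FusionSystem S :=
  sysOf F S le_rfl (ResMap F p)
    (fun _ _ _ _ h1 h2 => resMap_congr h1 h2)
    (fun _ _ hP hs => resMap_conj hP hs)
    (fun _ _ _ _ _ hQ _ h1 _ h2 hfQ => resMap_comp h1 hfQ hQ h2)
    (fun _ _ _ _ _ _ hf h1 _ h2 _ => resMap_inv hf h2 h1)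

theorem resMap_fmap (h : ResMap F p P f) : FMap F P f := by
  obtain ⟨α, hα, f₀, h2, h3⟩ := h
  have h1 := (fiso_autFun_iff (F := F) le_rfl).2 (w0_le hα)
  exact ((sub_fmap gen0_sub h2).comp h1.1 (fun x hx => h2.map_mem hx)).congr fun x hx => (h3 x hx).symm

theorem fmap_res : FMap (res F p) P f ↔ ResMap F p P f := by
  unfold res
  rw [fmap_sysOf]
  exact ⟨fun h => h.2.2.2, fun h => ⟨resMap_fmap h, (resMap_fmap h).le, fun x hx => (resMap_fmap h).map_mem hx, h⟩⟩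

theorem res_sub : (res F p).IsSubsystemOf F := isSubsystemOf_iff.2 fun _ _ h => resMap_fmap (fmap_res.1 h)

theorem gen0_sub_res (h : FMap (gen0 F p) P f) : FMap (res F p) P f :=
  fmap_res.2 ⟨1, Subgroup.one_mem _, f, h, fun x hx => (autFun_one (h.map_mem hx)).symm⟩

theorem w0_res {β : MulAut S} (h : β ∈ W0 F p) : FMap (res F p) S (autFun β) :=
  fmap_res.2 ⟨β, h, fun x => x, fmap_id _ le_rfl, fun _ _ => rfl⟩

theorem op_res (hP : F.IsCentric P) : OP F p P ≤ (res F p).autGroup P := by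
  intro α hα
  exact (FMap_autFun_iff hP.1).1 (gen0_sub_res (gen0_base hP hα))

theorem frat_iff_aut {a : Ω → Ω} (ha : FIso F S S a) : ∃ β ∈ F.autGroup S, ∀ x ∈ S, a x = autFun β x :=
  ⟨ha.equiv, ha.equiv_mem_autGroup, fun x hx => by rw [autFun_of_mem _ hx]; rfl⟩

/-- on centric subgroups the `Aut_F(S)`-component is well defined modulo `W0` -/
theorem mem_w0_of_agree {α β : MulAut S} (hα : α ∈ W0 F p) (hβ : β ∈ F.autGroup S) (hP : F.IsCentric P)
    {f₀ g₀ : Ω → Ω} (hf : FMap (gen0 F p) P f₀) (hg : FMap (gen0 F p) P g₀)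
    (h : ∀ x ∈ P, autFun α (f₀ x) = autFun β (g₀ x)) : β ∈ W0 F p := by
  obtain ⟨R, hR⟩ := hg.exists_iso
  obtain ⟨k, hk, k1, k2⟩ := hR.symm
  have hRc : F.IsCentric R := isCentric_of_isConj hP (sub_fiso gen0_sub hR).isConj
  have h1 : α⁻¹ * β ∈ W0 F p := by
    refine mem_w0 (P := R) (Subgroup.mul_mem _ (Subgroup.inv_mem _ (w0_le hα)) hβ) hRc ?_
    refine (hk.1.comp hf (fun x hx => hk.mem hx)).congr fun y hy => ?_
    obtain ⟨x, hx, rfl⟩ := hR.mem_iff.1 hy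
    show f₀ (k (g₀ x)) = autFun (α⁻¹ * β) (g₀ x)
    rw [k1 x hx, autFun_mul _ _ (hg.map_mem hx), ← h x hx, autFun_inv_apply _ (hf.map_mem hx)]
  have h2 := Subgroup.mul_mem _ hα h1
  rwa [mul_inv_cancel_left] at h2

theorem res_saturated [Finite S] [Fact p.Prime] (hS : IsPGroup p S) (hF : F.IsSaturated p) :
    (res F p).IsSaturated p := by
  have hop : ∀ P : Subgroup Ω, F.IsCentric P → OP F p P ≤ (res F p).autGroup P := fun P hP => op_res hP
  refine Cfsg.Agent.Lib.FusionCriterion3.saturated_of_criterion hS (res F p) {P | F.IsCentric P} ?_ ?_ ?_ ?_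
  · intro P hP Q hQ
    exact isCentric_of_isConj hP (sub_isConj res_sub hQ)
  · intro P hP
    have hPc : F.IsCentric P := hP
    obtain ⟨Q', n, hQ', hn, -, -⟩ := exists_fullyNormalized_map hS hF hPc.1
    obtain ⟨a, ψ, ha, hψ, h3⟩ := gen0_frat hS hF P n hn.1
    obtain ⟨Q, hQ⟩ := hψ.exists_iso
    have hQQ' : FIso F Q Q' a := by
      refine ⟨ha.1.restrict hQ.le_right, fun y => ?_⟩
      rw [hn.mem_iff]
      constructor
      · rintro ⟨x, hx, rfl⟩
        exact ⟨ψ x, hQ.mem hx, (h3 x hx).symm⟩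
      · rintro ⟨z, hz, rfl⟩
        obtain ⟨x, hx, rfl⟩ := hQ.mem_iff.1 hz
        exact ⟨x, hx, h3 x hx⟩
    have hQn : F.IsFullyNormalized Q := fullyNormalized_of_aut ha hQQ' hQ'
    have hQc : F.IsCentric Q := isCentric_of_isConj hPc (sub_fiso gen0_sub hQ).isConj
    have hQS := hQc.1
    refine ⟨Q, isConj_iff_fiso.2 ⟨ψ, gen0_sub_res hQ.1, hQ.2⟩, ?_, ?_⟩
    · have h1 := fullyAutomized_of_fullyNormalized hS hF hQn
      rw [isFullyAutomized_iff hS] at h1 ⊢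
      refine ⟨hQS, fun h => h1.2 (h.trans ?_)⟩
      have h2 : autInducedBy S Q ≤ (res F p).autGroup Q := (autInducedBy_le_op hS hQS).trans (op_res hQc)
      exact ⟨_, (Subgroup.relIndex_mul_relIndex _ _ _ h2 (sub_autGroup res_sub hQS)).symm⟩
    · rw [isReceptive_iff]
      refine ⟨hQS, fun R f hf V hRV hVS hV => ?_⟩
      have hf' := sub_fiso res_sub hf
      obtain ⟨g, hg, hgf⟩ := (isReceptive_iff.1 (receptive_of_fullyNormalized hS hF hQn)).2 R f hf' V hRV hVS hV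
      refine ⟨g, ?_, hgf⟩
      obtain ⟨b, g₀, hb, hg₀, h4⟩ := gen0_frat hS hF V g hg
      obtain ⟨β, hβ, h5⟩ := frat_iff_aut hb
      obtain ⟨α, hα, f₀, hf₀, h6⟩ := fmap_res.1 hf.1
      have hRc : F.IsCentric R := isCentric_of_isConj hQc (isConj_symm hf'.isConj)
      have hβW : β ∈ W0 F p := by
        refine mem_w0_of_agree hα hβ hRc hf₀ (hg₀.restrict hRV) fun x hx => ?_
        rw [← h6 x hx, ← h5 _ (hg₀.map_mem (hRV hx)), ← h4 x (hRV hx), hgf x hx]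
      exact fmap_res.2 ⟨β, hβW, g₀, hg₀, fun x hx => by rw [h4 x hx, h5 _ (hg₀.map_mem hx)]⟩
  · intro D hD
    have hD' : ∀ P f, F.IsCentric P → FMap (res F p) P f → FMap D P f := fun P f hP hf =>
      hom_subset_iff_fmap.1 (hD P hP) f hf
    rw [le_iff_fmap]
    intro P f hf
    obtain ⟨α, hα, f₀, h2, h3⟩ := fmap_res.1 hf
    have h4 : FMap D P f₀ := gen0_le (fun Q hQ β hβ =>
      (FMap_autFun_iff hQ.1).1 (hD' Q _ hQ (gen0_sub_res (gen0_base hQ hβ)))) h2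
    have h5 : FMap D S (autFun α) := hD' S _ (isCentric_top F) (w0_res hα)
    exact (h4.comp h5 (fun x hx => h4.map_mem hx)).congr fun x hx => (h3 x hx).symm
  · intro P hP hP'
    exact absurd (centric_of_centric hS hF hop hP) hP'

theorem res_primeIndex [Finite S] [Fact p.Prime] (hS : IsPGroup p S) (hF : F.IsSaturated p) :
    (res F p).HasPrimeToPIndexIn F p :=
  ⟨res_sub, fun _ hP => op_le_autGroup hS hF (fun _ hQ => op_res hQ) hP⟩

theorem res_isResidual [Finite S] [Fact p.Prime] (hS : IsPGroup p S) (hF : F.IsSaturated p) :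
    F.IsPPrimeResidual p (res F p) := by
  refine ⟨res_saturated hS hF, res_primeIndex hS hF, fun D hD hDi => ?_⟩
  rw [isSubsystemOf_iff]
  intro P f hf
  have h0 : ∀ {P f}, FMap (gen0 F p) P f → FMap D P f := fun h => gen0_le (fun Q hQ => hDi.2 Q hQ.1) h
  have hle : D ≤ F := le_iff_fmap.2 fun P f h => sub_fmap hDi.1 h
  have hW : W0 F p ≤ D.autGroup S := by
    unfold W0
    rw [Subgroup.closure_le]
    rintro β ⟨hβ, Q, hQ, h1⟩
    rw [SetLike.mem_coe, ← FMap_autFun_iff le_rfl]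
    exact fmap_of_restrict_centric hS hF hD hle hQ hQ.1 ((FMap_autFun_iff le_rfl).2 hβ) (h0 h1)
  obtain ⟨α, hα, f₀, h2, h3⟩ := fmap_res.1 hf
  have h5 : FMap D S (autFun α) := (FMap_autFun_iff le_rfl).2 (hW hα)
  exact ((h0 h2).comp h5 (fun x hx => h2.map_mem hx)).congr fun x hx => (h3 x hx).symm

/-- the `p'`-residual subsystem is unique -/
theorem eq_res [Finite S] [Fact p.Prime] (hS : IsPGroup p S) (hF : F.IsSaturated p) {D : FusionSystem S}
    (hD : F.IsPPrimeResidual p D) : D = res F p := by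
  have h := res_isResidual hS hF
  rw [fusion_eq_iff_fmap]
  intro P f
  exact ⟨fun h1 => sub_fmap (hD.2.2 _ h.1 h.2.1) h1, fun h1 => sub_fmap (h.2.2 _ hD.1 hD.2.1) h1⟩

end Cfsg.Agent.Lib.FusionPrime
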