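import Mathlib
import Cfsg.Agent.Lib.FusionFrat
import Cfsg.Agent.Lib.FusionPrime

/-!
Subgroups centric relative to a strongly closed subgroup; extension of `p'`-automorphisms.
-/

set_option autoImplicit false
open Cfsg Cfsg.FusionSystem Cfsg.Agent.Lib.FusionBasic Cfsg.Agent.Lib.FusionSat Cfsg.Agent.Lib.FusionNormal
  Cfsg.Agent.Lib.FusionInvar Cfsg.Agent.Lib.FusionTools Cfsg.Agent.Lib.FusionPP Cfsg.Agent.Lib.FusionStrong
  Cfsg.Agent.Lib.FusionSys Cfsg.Agent.Lib.FusionFrat Cfsg.Agent.Lib.FusionPrime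

namespace Cfsg.Agent.Lib.FusionTC

variable {Ω : Type*} [Group Ω] {S T : Subgroup Ω} {F : FusionSystem S} {E : FusionSystem T} {P Q R M X Y Z : Subgroup Ω}
  {a b f g : Ω → Ω} {p : ℕ}

/-! ### Extensions -/

/-- the elements of the normalizer of `Q` whose action on `Q` is transported by `a` to the action of an element of `M` -/
def actSub (ha : FIso F Q Q a) (M : Subgroup Ω) : Subgroup Ω where
  carrier := {m | m ∈ Subgroup.normalizer (Q : Set Ω) ∧ ∃ m' ∈ M, ∀ x ∈ Q, a (m * x * m⁻¹) = m' * a x * m'⁻¹}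
  one_mem' := ⟨Subgroup.one_mem _, 1, M.one_mem, fun x _ => by simp⟩
  mul_mem' := by
    rintro m₁ m₂ ⟨h1, m₁', h2, h3⟩ ⟨k1, m₂', k2, k3⟩
    refine ⟨Subgroup.mul_mem _ h1 k1, m₁' * m₂', M.mul_mem h2 k2, fun x hx => ?_⟩
    have h4 : m₁ * m₂ * x * (m₁ * m₂)⁻¹ = m₁ * (m₂ * x * m₂⁻¹) * m₁⁻¹ := by group
    rw [h4, h3 _ ((Subgroup.mem_normalizer_iff.1 k1 x).1 hx), k3 x hx]
    group
  inv_mem' := by
    rintro m ⟨h1, m', h2, h3⟩
    refine ⟨Subgroup.inv_mem _ h1, m'⁻¹, M.inv_mem h2, fun x hx => ?_⟩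
    have hy : m⁻¹ * x * m⁻¹⁻¹ ∈ Q := (Subgroup.mem_normalizer_iff.1 (Subgroup.inv_mem _ h1) x).1 hx
    have h4 := h3 _ hy
    have h5 : m * (m⁻¹ * x * m⁻¹⁻¹) * m⁻¹ = x := by group
    rw [h5] at h4
    rw [h4]
    group

theorem mem_actSub {ha : FIso F Q Q a} {m : Ω} : m ∈ actSub ha M ↔ m ∈ Subgroup.normalizer (Q : Set Ω) ∧
    ∃ m' ∈ M, ∀ x ∈ Q, a (m * x * m⁻¹) = m' * a x * m'⁻¹ := Iff.rfl

/-- Extension of an automorphism to a subgroup of the normalizer. -/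
theorem ext_grp (hr : F.IsReceptive Q) (ha : FIso F Q Q a) (hM : M ≤ S) (hC : centralizerIn S Q ≤ M)
    (h : M ≤ actSub ha M) :
    ∃ σ, FMap F (Q ⊔ M) σ ∧ (∀ x ∈ Q, σ x = a x) ∧ ∀ m ∈ M, σ m ∈ M := by
  obtain ⟨σ, hσ, h1⟩ := extend_sup hr ha (M := M) (fun m hm => ⟨hM hm, (h hm).1⟩) (fun t ht => by
    obtain ⟨-, m', hm', h2⟩ := h ht
    exact ⟨m', hM hm', h2⟩)
  refine ⟨σ, hσ, h1, fun m hm => ?_⟩
  obtain ⟨hn, m', hm', h2⟩ := h hm
  have hmQ : m ∈ Q ⊔ M := Subgroup.mem_sup_right hm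
  have hσm := hσ.map_mem hmQ
  have h3 : m'⁻¹ * σ m ∈ centralizerIn S Q := by
    refine ⟨S.mul_mem (S.inv_mem (hM hm')) hσm, mem_centralizer_iff'.2 fun y hy => ?_⟩
    obtain ⟨x, hx, rfl⟩ := ha.mem_iff.1 hy
    have h4 : σ m * a x * (σ m)⁻¹ = m' * a x * m'⁻¹ := by
      rw [← h2 x hx, ← h1 x hx, ← hσ.map_conj hmQ (Subgroup.mem_sup_left hx)]
      exact h1 _ ((Subgroup.mem_normalizer_iff.1 hn x).1 hx)
    calc m'⁻¹ * σ m * a x * (m'⁻¹ * σ m)⁻¹ = m'⁻¹ * (σ m * a x * (σ m)⁻¹) * m' := by group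
      _ = a x := by rw [h4]; group
  have h4 := M.mul_mem hm' (hC h3)
  rwa [mul_inv_cancel_left] at h4

theorem ext_grp_pp [Finite S] [Fact p.Prime] (hr : F.IsReceptive Q) (ha : PP F p Q a) (hM : M ≤ S)
    (hC : centralizerIn S Q ≤ M) (h : M ≤ actSub ha.1 M) :
    ∃ σ, PP F p (Q ⊔ M) σ ∧ (∀ x ∈ Q, σ x = a x) ∧ ∀ m ∈ M, σ m ∈ M := by
  obtain ⟨σ, hσ, h1, h2⟩ := ext_grp hr ha.1 hM hC h
  have hQ : ∀ x ∈ Q, σ x ∈ Q := fun x hx => by rw [h1 x hx]; exact ha.mem hx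
  have hiso : FIso F (Q ⊔ M) (Q ⊔ M) σ := hσ.fiso_of_card hσ.le (map_sup_mem hσ
    (fun x hx => Subgroup.mem_sup_left (hQ x hx)) (fun x hx => Subgroup.mem_sup_right (h2 x hx))) le_rfl
  obtain ⟨-, n, hn, h3⟩ := ha
  obtain ⟨k, hk, h4⟩ := exists_pp_power hiso (X := Q) hn (fun x hx => by
    rw [iter_congr h1 hQ hx]; exact h3 x hx)
  exact ⟨σ^[k], hk, fun x hx => by rw [h4 x hx, h1 x hx], fun m hm => iter_mem' h2 hm k⟩

/-! ### `T`-centric subgroups -/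

/-- `P` is centric relative to the strongly closed subgroup `T`. -/
def TC (F : FusionSystem S) (T P : Subgroup Ω) : Prop :=
  P ≤ T ∧ ∀ Q : Subgroup Ω, F.IsConj P Q → centralizerIn T Q ≤ Q

theorem TC.le (h : TC F T P) : P ≤ T := h.1

theorem TC.cent (hT : F.StronglyClosed T) (h : TC F T P) : centralizerIn T P ≤ P :=
  h.2 P (isConj_refl F (h.1.trans hT.1))

theorem TC.conj (hT : F.StronglyClosed T) (h : TC F T P) (hPQ : F.IsConj P Q) : TC F T Q := by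
  obtain ⟨f, hf⟩ := isConj_iff_fiso.1 hPQ
  exact ⟨le_of_fiso hT h.1 hf, fun R hR => h.2 R (isConj_trans hPQ hR)⟩

theorem TC.mono (hT : F.StronglyClosed T) (h : TC F T P) (hPQ : P ≤ Q) (hQ : Q ≤ T) : TC F T Q := by
  refine ⟨hQ, fun R hR => ?_⟩
  obtain ⟨f, hf⟩ := isConj_iff_fiso.1 hR
  obtain ⟨P', hP'⟩ := (hf.1.restrict hPQ).exists_iso
  have hP'R : P' ≤ R := fun y hy => by
    obtain ⟨x, hx, rfl⟩ := hP'.mem_iff.1 hy
    exact hf.mem (hPQ hx)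
  have h1 := h.2 P' hP'.isConj
  intro c hc
  exact hP'R (h1 ⟨hc.1, Subgroup.centralizer_le hP'R hc.2⟩)

theorem TC.of_centric (hT : F.StronglyClosed T) (hE : Inv E F) (h : E.IsCentric P) : TC F T P := by
  refine ⟨h.1, fun Q hQ => ?_⟩
  obtain ⟨f, hf⟩ := isConj_iff_fiso.1 hQ
  obtain ⟨a, f₀, ha, hf₀, h1⟩ := hE.frattini h.1 hf.1
  obtain ⟨R, hR⟩ := hf₀.exists_iso
  have hRQ : FIso F R Q a := by
    refine ⟨ha.1.restrict hR.le_right, fun y => ?_⟩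
    rw [hf.mem_iff]
    constructor
    · rintro ⟨x, hx, rfl⟩
      exact ⟨f₀ x, hR.mem hx, (h1 x hx).symm⟩
    · rintro ⟨z, hz, rfl⟩
      obtain ⟨x, hx, rfl⟩ := hR.mem_iff.1 hz
      exact ⟨x, hx, h1 x hx⟩
  intro c hc
  obtain ⟨d, hd, rfl⟩ := ha.mem_iff.1 hc.1
  exact hRQ.mem (h.2 R hR.isConj ⟨hd, (hRQ.map_centralizer_iff ha.1 hR.le_right hd).1 hc.2⟩)

theorem TC.centric (hE : E.IsSubsystemOf F) (h : TC F T P) : E.IsCentric P :=
  ⟨h.1, fun Q hQ => h.2 Q (sub_isConj hE hQ)⟩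

theorem centric_iff_tc (hE : Inv E F) : E.IsCentric P ↔ TC F T P :=
  ⟨TC.of_centric hE.closed hE, TC.centric hE.sub⟩

/-! ### Fully normalized subgroups of `T` -/

theorem map_normalizer_inf (hT : F.StronglyClosed T) (hf : FMap F (normalizerIn S P) f)
    (h : ∀ x ∈ normalizerIn S P, f x ∈ normalizerIn S Q) : ∀ x ∈ normalizerIn T P, f x ∈ normalizerIn T Q := by
  intro x hx
  have hx' : x ∈ normalizerIn S P := ⟨hT.1 hx.1, hx.2⟩
  exact ⟨StronglyClosed.map_mem F hT hf hx' hx.1, (h x hx').2⟩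

/-- An `F`-fully normalized subgroup of `T` is fully normalized in every subsystem over `T`. -/
theorem fullyNormalized_sub [Finite S] [Fact p.Prime] (hS : IsPGroup p S) (hF : F.IsSaturated p)
    (hT : F.StronglyClosed T) (hE : E.IsSubsystemOf F) (hPT : P ≤ T) (hP : F.IsFullyNormalized P) :
    E.IsFullyNormalized P := by
  refine ⟨hPT, fun Q hQ => ?_⟩
  obtain ⟨f, hf, hfN, h⟩ := exists_map_to_fullyNormalized hS hF hP (isConj_symm (sub_isConj hE hQ))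
  have hle : normalizerIn T Q ≤ normalizerIn S Q := fun x hx => ⟨hT.1 hx.1, hx.2⟩
  exact (hfN.restrict hle).card_image_le (map_normalizer_inf hT hfN h) ((normalizerIn_le T P).trans hT.1)

/-! ### Extension of `p'`-automorphisms trivial on `Q ∩ T` -/

/-- automorphisms of `Q` trivial on `Q ∩ T` and on `Q / (Q ∩ T)` -/
def stabT (F : FusionSystem S) (T Q : Subgroup Ω) : Subgroup (MulAut Q) where
  carrier := {κ | κ ∈ F.autGroup Q ∧ (∀ x ∈ Q, x ∈ T → autFun κ x = x) ∧ ∀ x ∈ Q, x⁻¹ * autFun κ x ∈ T}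
  one_mem' := ⟨Subgroup.one_mem _, fun x hx _ => autFun_one hx, fun x hx => by
    rw [autFun_one hx, inv_mul_cancel]; exact T.one_mem⟩
  mul_mem' := by
    rintro α β ⟨h1, h2, h3⟩ ⟨k1, k2, k3⟩
    refine ⟨Subgroup.mul_mem _ h1 k1, fun x hx hxT => ?_, fun x hx => ?_⟩
    · rw [autFun_mul _ _ hx, k2 x hx hxT, h2 x hx hxT]
    · have h4 : x⁻¹ * autFun (α * β) x = (x⁻¹ * autFun β x) * ((autFun β x)⁻¹ * autFun α (autFun β x)) := by
        rw [autFun_mul _ _ hx]; group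
      rw [h4]
      exact T.mul_mem (k3 x hx) (h3 _ (autFun_mem β hx))
  inv_mem' := by
    rintro α ⟨h1, h2, h3⟩
    refine ⟨Subgroup.inv_mem _ h1, fun x hx hxT => ?_, fun x hx => ?_⟩
    · have h4 := autFun_inv_apply α hx
      rwa [h2 x hx hxT] at h4
    · have h4 := h3 _ (autFun_mem α⁻¹ hx)
      rw [autFun_apply_inv α hx] at h4
      have h5 := T.inv_mem h4
      rwa [mul_inv_rev, inv_inv] at h5

theorem mem_stabT {κ : MulAut Q} : κ ∈ stabT F T Q ↔ κ ∈ F.autGroup Q ∧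
    (∀ x ∈ Q, x ∈ T → autFun κ x = x) ∧ ∀ x ∈ Q, x⁻¹ * autFun κ x ∈ T := Iff.rfl

theorem stabT_normal (hT : F.StronglyClosed T) (hQ : Q ≤ S) :
    ∀ α ∈ F.autGroup Q, ∀ κ ∈ stabT F T Q, α * κ * α⁻¹ ∈ stabT F T Q := by
  rintro α hα κ ⟨h1, h2, h3⟩
  have hαf := fmap_of_autGroup hQ hα
  have hαi := fmap_of_autGroup hQ (Subgroup.inv_mem _ hα)
  refine ⟨Subgroup.mul_mem _ (Subgroup.mul_mem _ hα h1) (Subgroup.inv_mem _ hα), fun x hx hxT => ?_, fun x hx => ?_⟩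
  · rw [autFun_mul _ _ hx, autFun_mul _ _ (autFun_mem _ hx), h2 _ (autFun_mem _ hx)
      (StronglyClosed.map_mem F hT hαi hx hxT), autFun_apply_inv _ hx]
  · rw [autFun_mul _ _ hx, autFun_mul _ _ (autFun_mem _ hx)]
    have hy := autFun_mem α⁻¹ hx
    have h4 := h3 _ hy
    have hyκ := autFun_mem κ hy
    have h5 := StronglyClosed.map_mem F hT hαf (Subgroup.mul_mem _ (Subgroup.inv_mem _ hy) hyκ) h4
    rwa [hαf.map_mul (Subgroup.inv_mem _ hy) hyκ, hαf.map_inv hy, autFun_apply_inv _ hx] at h5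

theorem stabT_le [Finite S] [Fact p.Prime] (hS : IsPGroup p S) (hT : F.StronglyClosed T)
    (hQa : F.IsFullyAutomized p Q) : stabT F T Q ≤ autInducedBy S Q := by
  refine le_autInducedBy_of_pp hQa (fun κ h => h.1) (stabT_normal hT hQa.1) ?_
  rintro κ ⟨h1, h2, h3⟩ hpp
  refine eq_one_of_autFun fun x hx => ?_
  exact hpp.fix hS (Y := Q ⊓ T) inf_le_left hx ⟨Subgroup.mul_mem _ (Subgroup.inv_mem _ hx) (autFun_mem κ hx), h3 x hx⟩
    (fun y hy => h2 y hy.1 hy.2)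

/-- the elements of `N_S(Q)` acting on `Q` as elements of `stabT` -/
def stabS (S T Q : Subgroup Ω) : Subgroup Ω where
  carrier := {s | s ∈ normalizerIn S Q ∧ (∀ x ∈ Q, x ∈ T → s * x * s⁻¹ = x) ∧ ∀ x ∈ Q, x⁻¹ * (s * x * s⁻¹) ∈ T}
  one_mem' := ⟨Subgroup.one_mem _, fun x _ _ => by group, fun x _ => by simp⟩
  mul_mem' := by
    rintro s t ⟨h1, h2, h3⟩ ⟨k1, k2, k3⟩
    refine ⟨Subgroup.mul_mem _ h1 k1, fun x hx hxT => ?_, fun x hx => ?_⟩
    · have : s * t * x * (s * t)⁻¹ = s * (t * x * t⁻¹) * s⁻¹ := by group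
      rw [this, k2 x hx hxT, h2 x hx hxT]
    · have : x⁻¹ * (s * t * x * (s * t)⁻¹) = (x⁻¹ * (t * x * t⁻¹)) * ((t * x * t⁻¹)⁻¹ * (s * (t * x * t⁻¹) * s⁻¹)) := by
        group
      rw [this]
      exact T.mul_mem (k3 x hx) (h3 _ ((Subgroup.mem_normalizer_iff.1 k1.2 x).1 hx))
  inv_mem' := by
    rintro s ⟨h1, h2, h3⟩
    refine ⟨Subgroup.inv_mem _ h1, fun x hx hxT => ?_, fun x hx => ?_⟩
    · have h4 := h2 x hx hxT
      calc s⁻¹ * x * s⁻¹⁻¹ = s⁻¹ * (s * x * s⁻¹) * s := by rw [h4]; group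
        _ = x := by group
    · have hy : s⁻¹ * x * s⁻¹⁻¹ ∈ Q := (Subgroup.mem_normalizer_iff.1 (Subgroup.inv_mem _ h1.2) x).1 hx
      have h4 := T.inv_mem (h3 _ hy)
      have h5 : ((s⁻¹ * x * s⁻¹⁻¹)⁻¹ * (s * (s⁻¹ * x * s⁻¹⁻¹) * s⁻¹))⁻¹ = x⁻¹ * (s⁻¹ * x * s⁻¹⁻¹) := by group
      rwa [h5] at h4

theorem mem_stabS {s : Ω} : s ∈ stabS S T Q ↔ s ∈ normalizerIn S Q ∧ (∀ x ∈ Q, x ∈ T → s * x * s⁻¹ = x) ∧
    ∀ x ∈ Q, x⁻¹ * (s * x * s⁻¹) ∈ T := Iff.rfl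

/-- A `stabT` element of a fully automized subgroup is conjugation by an element of `stabS`. -/
theorem exists_stabS [Finite S] [Fact p.Prime] (hS : IsPGroup p S) (hT : F.StronglyClosed T)
    (hQa : F.IsFullyAutomized p Q) {κ : MulAut Q} (hκ : κ ∈ stabT F T Q) :
    ∃ s ∈ stabS S T Q, ∀ x ∈ Q, autFun κ x = s * x * s⁻¹ := by
  obtain ⟨s, hs, h⟩ := mem_autInducedBy_iff.1 (stabT_le hS hT hQa hκ)
  have h' : ∀ x ∈ Q, autFun κ x = s * x * s⁻¹ := fun x hx => by rw [autFun_of_mem κ hx]; exact h ⟨x, hx⟩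
  refine ⟨s, ⟨⟨hs, mem_normalizer_of_aut h⟩, fun x hx hxT => ?_, fun x hx => ?_⟩, h'⟩
  · rw [← h' x hx]; exact hκ.2.1 x hx hxT
  · rw [← h' x hx]; exact hκ.2.2 x hx

/-- One step of the extension. -/
theorem extend_trivial_step [Finite S] [Fact p.Prime] (hS : IsPGroup p S) (hF : F.IsSaturated p)
    (hT : F.StronglyClosed T) (hTC : TC F T (Q ⊓ T)) (ha : PP F p Q a) (ha1 : ∀ x ∈ Q, x ∈ T → a x = x) :
    ∃ a₁, PP F p (Q ⊔ normalizerIn T Q) a₁ ∧ (∀ x ∈ Q, a₁ x = a x) ∧ ∀ x ∈ normalizerIn T Q, a₁ x = x := by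
  have hQS := ha.le
  have hnT := normalizes_of_stronglyClosed hT
  obtain ⟨Q', ψ, hQ', hψ, hψN, hψm⟩ := exists_fullyNormalized_map hS hF hQS
  obtain ⟨φ, hφ, hφ1, hφ2⟩ := hψ.symm
  have hQ'S := hQ'.1
  have hQ'a := fullyAutomized_of_fullyNormalized hS hF hQ'
  have hQ'r := receptive_of_fullyNormalized hS hF hQ'
  have hmemT : ∀ {x : Ω}, x ∈ normalizerIn S Q → (x ∈ T ↔ ψ x ∈ T) := fun hx => strong_mem_iff hT hψN hx
  have hQN : Q ≤ normalizerIn S Q := le_normalizerIn hQS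
  obtain ⟨a', ha'e⟩ : ∃ a' : Ω → Ω, a' = fun y => ψ (a (φ y)) := ⟨_, rfl⟩
  have ha' : PP F p Q' a' := by rw [ha'e]; exact ha.transport hψ hφ hφ1 hφ2
  have ha'ψ : ∀ x ∈ Q, a' (ψ x) = ψ (a x) := fun x hx => by
    rw [ha'e]; show ψ (a (φ (ψ x))) = _; rw [hφ1 x hx]
  have ha'1 : ∀ y ∈ Q', y ∈ T → a' y = y := by
    intro y hy hyT
    obtain ⟨x, hx, rfl⟩ := hψ.mem_iff.1 hy
    rw [ha'ψ x hx, ha1 x hx ((hmemT (hQN hx)).2 hyT)]
  -- the transported element of K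
  have hTC' : TC F T (Q' ⊓ T) := by
    refine hTC.conj hT (FIso.isConj (f := ψ) ⟨hψ.1.restrict inf_le_left, fun y => ?_⟩)
    constructor
    · rintro ⟨hy, hyT⟩
      obtain ⟨x, hx, rfl⟩ := hψ.mem_iff.1 hy
      exact ⟨x, ⟨hx, (hmemT (hQN hx)).2 hyT⟩, rfl⟩
    · rintro ⟨x, ⟨hx, hxT⟩, rfl⟩
      exact ⟨hψ.mem hx, (hmemT (hQN hx)).1 hxT⟩
  let M₁ := normalizerIn T Q'
  let L := stabS S T Q'
  let M := M₁ ⊔ L
  have hM₁S : M₁ ≤ S := (normalizerIn_le T Q').trans hT.1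
  have hLS : L ≤ S := fun s hs => hs.1.1
  have hMS : M ≤ S := sup_le hM₁S hLS
  obtain ⟨b, hb, hb1, hb2⟩ := ha'.inv
  let α : MulAut Q' := ha'.1.equiv
  have hα : α ∈ F.autGroup Q' := ha'.aut_mem
  have hαf : ∀ x ∈ Q', autFun α x = a' x := fun x hx => by rw [autFun_of_mem _ hx]; rfl
  have hαinv : ∀ x ∈ Q', autFun α⁻¹ x = b x := fun x hx => by
    have h1 := autFun_inv_apply α (hb.mem hx)
    rwa [hαf _ (hb.mem hx), hb2 x hx] at h1
  have hCL : centralizerIn S Q' ≤ M := by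
    refine le_trans (fun s hs => ?_) le_sup_right
    have h1 := mem_centralizer_iff'.1 hs.2
    refine ⟨centralizerIn_le_normalizerIn S Q' hs, fun x hx _ => h1 x hx, fun x hx => ?_⟩
    rw [h1 x hx, inv_mul_cancel]
    exact T.one_mem
  have hact : M ≤ actSub ha'.1 M := by
    refine sup_le (fun t ht => ?_) (fun s hs => ?_)
    · have htS := hM₁S ht
      -- κ = α c_t α⁻¹ c_t⁻¹
      let γ : MulAut Q' := conjAut Q' t ht.2
      have hγ : γ ∈ F.autGroup Q' := conjAut_mem_autGroup hQ'S ht.2 htS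
      have hγf : ∀ x ∈ Q', autFun γ x = t * x * t⁻¹ := fun x hx => by rw [autFun_of_mem _ hx]; rfl
      have htn : ∀ x ∈ Q', t * x * t⁻¹ ∈ Q' := fun x hx => (Subgroup.mem_normalizer_iff.1 ht.2 x).1 hx
      have htn' : ∀ x ∈ Q', t⁻¹ * x * t ∈ Q' := fun x hx => by
        have := (Subgroup.mem_normalizer_iff.1 (Subgroup.inv_mem _ ht.2) x).1 hx
        rwa [inv_inv] at this
      have hκ : α * γ * α⁻¹ * γ⁻¹ ∈ stabT F T Q' := by
        have hmem := Subgroup.mul_mem _ (Subgroup.mul_mem _ (Subgroup.mul_mem _ hα hγ) (Subgroup.inv_mem _ hα))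
          (Subgroup.inv_mem _ hγ)
        -- γ⁻¹ x ∈ x T and γ x ∈ x T
        have hγi : ∀ x ∈ Q', autFun γ⁻¹ x = t⁻¹ * x * t := fun x hx => by
          have h1 := autFun_inv_apply γ (htn' x hx)
          rw [hγf _ (htn' x hx)] at h1
          have h2 : t * (t⁻¹ * x * t) * t⁻¹ = x := by group
          rwa [h2] at h1
        refine ⟨hmem, fun x hx hxT => ?_, fun x hx => ?_⟩
        · have h1 : t⁻¹ * x * t ∈ T := T.mul_mem (T.mul_mem (T.inv_mem ht.1) hxT) ht.1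
          rw [autFun_mul _ _ hx, autFun_mul _ _ (autFun_mem _ hx), autFun_mul _ _ (autFun_mem _ (autFun_mem _ hx)),
            hγi x hx, hαinv _ (htn' x hx)]
          have h2 : b (t⁻¹ * x * t) = t⁻¹ * x * t := by
            have := hb1 _ (htn' x hx)
            rwa [ha'1 _ (htn' x hx) h1] at this
          rw [h2, hγf _ (htn' x hx)]
          have h3 : t * (t⁻¹ * x * t) * t⁻¹ = x := by group
          rw [h3, hαf x hx, ha'1 x hx hxT]
        · -- modulo T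
          have hmod : ∀ y ∈ Q', y⁻¹ * (t * y * t⁻¹) ∈ T := fun y hy => by
            have h1 := (Subgroup.mem_normalizer_iff.1 (Subgroup.inv_mem _ (hnT (hQ'S hy))) t).1 ht.1
            rw [inv_inv] at h1
            have h2 : y⁻¹ * (t * y * t⁻¹) = (y⁻¹ * t * y) * t⁻¹ := by group
            rw [h2]
            exact T.mul_mem h1 (T.inv_mem ht.1)
          set y := autFun γ⁻¹ x with hy
          have hyQ : y ∈ Q' := autFun_mem _ hx
          have hxy : x = t * y * t⁻¹ := by rw [hy, hγi x hx]; group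
          have h1 : y⁻¹ * x ∈ T := by rw [hxy]; exact hmod y hyQ
          set z := autFun α⁻¹ y with hz
          have hzQ : z ∈ Q' := autFun_mem _ hyQ
          have hαz : autFun α z = y := by rw [hz]; exact autFun_apply_inv α hyQ
          have h2 : z⁻¹ * autFun γ z ∈ T := by rw [hγf z hzQ]; exact hmod z hzQ
          have hαmap := fmap_of_autGroup hQ'S hα
          have h3 := StronglyClosed.map_mem F hT hαmap (Subgroup.mul_mem _ (Subgroup.inv_mem _ hzQ) (autFun_mem γ hzQ)) h2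
          rw [hαmap.map_mul (Subgroup.inv_mem _ hzQ) (autFun_mem γ hzQ), hαmap.map_inv hzQ, hαz] at h3
          rw [autFun_mul _ _ hx, autFun_mul _ _ (autFun_mem _ hx), autFun_mul _ _ (autFun_mem _ (autFun_mem _ hx))]
          show x⁻¹ * autFun α (autFun γ z) ∈ T
          have h4 : x⁻¹ * autFun α (autFun γ z) = (y⁻¹ * x)⁻¹ * (y⁻¹ * autFun α (autFun γ z)) := by group
          rw [h4]
          exact T.mul_mem (T.inv_mem h1) h3
      obtain ⟨l, hl, hl1⟩ := exists_stabS hS hT hQ'a hκ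
      refine mem_actSub.2 ⟨ht.2, l * t, M.mul_mem (Subgroup.mem_sup_right hl) (Subgroup.mem_sup_left ht), fun x hx => ?_⟩
      have hxa := ha'.mem hx
      have h1 := hl1 (t * a' x * t⁻¹) (htn _ hxa)
      have h2 : l * t * a' x * (l * t)⁻¹ = l * (t * a' x * t⁻¹) * l⁻¹ := by group
      rw [h2, ← h1]
      have h3 : t * a' x * t⁻¹ = autFun γ (autFun α x) := by rw [hαf x hx, hγf _ hxa]
      have h4 : (α * γ * α⁻¹ * γ⁻¹) * (γ * α) = α * γ := by group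
      rw [h3, ← autFun_mul _ _ hx, ← autFun_mul _ _ hx, h4, autFun_mul _ _ hx, hγf x hx, hαf _ (htn x hx)]
    · -- s ∈ L
      have hs1 := hs.1
      let γ : MulAut Q' := conjAut Q' s hs1.2
      have hγf : ∀ x ∈ Q', autFun γ x = s * x * s⁻¹ := fun x hx => by rw [autFun_of_mem _ hx]; rfl
      have hγ : γ ∈ stabT F T Q' := ⟨conjAut_mem_autGroup hQ'S hs1.2 hs1.1, fun x hx hxT => by
        rw [hγf x hx]; exact hs.2.1 x hx hxT, fun x hx => by rw [hγf x hx]; exact hs.2.2 x hx⟩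
      obtain ⟨l, hl, hl1⟩ := exists_stabS hS hT hQ'a (stabT_normal hT hQ'S α hα γ hγ)
      refine mem_actSub.2 ⟨hs1.2, l, Subgroup.mem_sup_right hl, fun x hx => ?_⟩
      have hxa := ha'.mem hx
      rw [← hl1 _ hxa, ← hαf x hx, ← autFun_mul _ _ hx]
      have h4 : (α * γ * α⁻¹) * α = α * γ := by group
      rw [h4, autFun_mul _ _ hx, hγf x hx, hαf _ ((Subgroup.mem_normalizer_iff.1 hs1.2 x).1 hx)]
  obtain ⟨σ, hσ, hσ1, hσ2⟩ := ext_grp_pp hQ'r ha' hMS hCL hact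
  -- σ is trivial on M₁
  have hσM₁ : ∀ t ∈ M₁, σ t = t := by
    intro t ht
    have htM : t ∈ Q' ⊔ M := Subgroup.mem_sup_right (Subgroup.mem_sup_left ht)
    have hσt : σ t ∈ T := StronglyClosed.map_mem F hT hσ.map htM ht.1
    have h1 : t⁻¹ * σ t ∈ Q' ⊓ T := by
      refine hTC'.cent hT ⟨T.mul_mem (T.inv_mem ht.1) hσt, mem_centralizer_iff'.2 fun y hy => ?_⟩
      have hyQ : y ∈ Q' ⊔ M := Subgroup.mem_sup_left hy.1
      have h2 : σ y = y := by rw [hσ1 y hy.1, ha'1 y hy.1 hy.2]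
      have h3 : t * y * t⁻¹ ∈ Q' := (Subgroup.mem_normalizer_iff.1 ht.2 y).1 hy.1
      have h4 : t * y * t⁻¹ ∈ T := T.mul_mem (T.mul_mem ht.1 hy.2) (T.inv_mem ht.1)
      have h5 : σ t * y * (σ t)⁻¹ = t * y * t⁻¹ := by
        have h6 := hσ.map.map_conj htM hyQ
        rw [h2, hσ1 _ h3, ha'1 _ h3 h4] at h6
        exact h6.symm
      calc t⁻¹ * σ t * y * (t⁻¹ * σ t)⁻¹ = t⁻¹ * (σ t * y * (σ t)⁻¹) * t := by group
        _ = y := by rw [h5]; group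
    exact hσ.fix hS (Y := Q' ⊓ T) (inf_le_left.trans le_sup_left) htM h1 (fun y hy => by
      rw [hσ1 y hy.1, ha'1 y hy.1 hy.2])
  -- transport back
  have hNle : normalizerIn T Q ≤ normalizerIn S Q := fun x hx => ⟨hT.1 hx.1, hx.2⟩
  have hψN' : ∀ x ∈ normalizerIn T Q, ψ x ∈ M₁ := map_normalizer_inf hT hψN hψm
  have hQ₁N : Q ⊔ normalizerIn T Q ≤ normalizerIn S Q := sup_le hQN hNle
  obtain ⟨R, hR⟩ := (hψN.restrict hQ₁N).exists_iso
  obtain ⟨χ, hχ, hχ1, hχ2⟩ := hR.symm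
  have hRle : R ≤ Q' ⊔ M := by
    intro y hy
    obtain ⟨x, hx, rfl⟩ := hR.mem_iff.1 hy
    exact map_sup_mem hR.1 (fun x hx => Subgroup.mem_sup_left (hψ.mem hx))
      (fun x hx => Subgroup.mem_sup_right (Subgroup.mem_sup_left (hψN' x hx))) x hx
  have hRσ : ∀ x ∈ Q ⊔ normalizerIn T Q, σ (ψ x) ∈ R := by
    have h1 : FMap F (Q ⊔ normalizerIn T Q) (fun x => σ (ψ x)) := hR.1.comp hσ.map (fun x hx => hRle (hR.mem hx))
    refine map_sup_mem h1 (fun x hx => ?_) (fun x hx => ?_)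
    · show σ (ψ x) ∈ R
      rw [hσ1 _ (hψ.mem hx), ha'ψ x hx]
      exact hR.mem (Subgroup.mem_sup_left (ha.mem hx))
    · show σ (ψ x) ∈ R
      rw [hσM₁ _ (hψN' x hx)]
      exact hR.mem (Subgroup.mem_sup_right hx)
  have hσR : PP F p R σ := hσ.restrict hRle (fun y hy => by
    obtain ⟨x, hx, rfl⟩ := hR.mem_iff.1 hy
    exact hRσ x hx)
  refine ⟨fun x => χ (σ (ψ x)), hσR.transport hχ hR hχ2 hχ1, fun x hx => ?_, fun x hx => ?_⟩
  · show χ (σ (ψ x)) = a x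
    rw [hσ1 _ (hψ.mem hx), ha'ψ x hx, hχ1 _ (Subgroup.mem_sup_left (ha.mem hx))]
  · show χ (σ (ψ x)) = x
    rw [hσM₁ _ (hψN' x hx), hχ1 _ (Subgroup.mem_sup_right hx)]

/-- A `p'`-automorphism of `Q` trivial on the `T`-centric subgroup `Q ∩ T` extends to `QT` so as to be trivial on `T`. -/
theorem extend_trivial [Finite S] [Fact p.Prime] (hS : IsPGroup p S) (hF : F.IsSaturated p)
    (hT : F.StronglyClosed T) (hTC : TC F T (Q ⊓ T)) (ha : PP F p Q a) (ha1 : ∀ x ∈ Q, x ∈ T → a x = x) :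
    ∃ a₁, PP F p (Q ⊔ T) a₁ ∧ (∀ x ∈ Q, a₁ x = a x) ∧ ∀ x ∈ T, a₁ x = x := by
  have hnT := normalizes_of_stronglyClosed hT
  have main : ∀ (n : ℕ) (Q : Subgroup Ω) (a : Ω → Ω), Nat.card S - Nat.card Q = n → TC F T (Q ⊓ T) → PP F p Q a →
      (∀ x ∈ Q, x ∈ T → a x = x) → ∃ a₁, PP F p (Q ⊔ T) a₁ ∧ (∀ x ∈ Q, a₁ x = a x) ∧ ∀ x ∈ T, a₁ x = x := by
    intro n
    induction n using Nat.strong_induction_on with
    | _ n ih =>
      intro Q a hn hTC ha ha1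
      by_cases hle : T ≤ Q
      · rw [sup_eq_left.2 hle]
        exact ⟨a, ha, fun _ _ => rfl, fun x hx => ha1 x (hle hx) hx⟩
      · obtain ⟨a₁, h1, h2, h3⟩ := extend_trivial_step hS hF hT hTC ha ha1
        have hQS := ha.le
        have hlt : Q < Q ⊔ normalizerIn T Q := lt_sup_normalizerIn hS hQS hT.1 (fun r hr g hg =>
          (Subgroup.mem_normalizer_iff.1 (hnT (hQS hr)) g).1 hg) hle
        have hQ₁S := h1.le
        have hc := card_lt_of_lt hlt hQ₁S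
        have hc2 : Nat.card ↥(Q ⊔ normalizerIn T Q) ≤ Nat.card S :=
          Nat.card_le_card_of_injective _ (Subgroup.inclusion_injective hQ₁S)
        have hinf : ∀ x ∈ Q ⊔ normalizerIn T Q, x ∈ T → x ∈ normalizerIn T Q := by
          intro x hx hxT
          have hxc : x ∈ normalizerIn T Q ⊔ Q := by rwa [sup_comm]
          obtain ⟨y, hy, z, hz, rfl⟩ := (mem_sup_of_normalizes (Q := Q) (P := normalizerIn T Q)
            (fun x hx => hx.2)).1 hxc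
          have hzT : z ∈ T := by
            have := T.mul_mem (T.inv_mem hy.1) hxT
            rwa [inv_mul_cancel_left] at this
          exact Subgroup.mul_mem _ hy ⟨hzT, Subgroup.le_normalizer hz⟩
        obtain ⟨a₂, k1, k2, k3⟩ := ih _ (by omega) (Q ⊔ normalizerIn T Q) a₁ rfl
          (hTC.mono hT (inf_le_inf_right T hlt.le) inf_le_right) h1 (fun x hx hxT => h3 x (hinf x hx hxT))
        have hsup : Q ⊔ normalizerIn T Q ⊔ T = Q ⊔ T := by
          rw [sup_assoc, sup_eq_right.2 (normalizerIn_le T Q)]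
        rw [hsup] at k1
        exact ⟨a₂, k1, fun x hx => by rw [k2 x (Subgroup.mem_sup_left hx), h2 x hx], k3⟩
  exact main _ Q a rfl hTC ha ha1

end Cfsg.Agent.Lib.FusionTC
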