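import Mathlib
import Cfsg.Agent.Lib.FusionTC

/-!
The `p'`-residual subsystem of a weakly normal subsystem is normal.
-/

set_option autoImplicit false
open Cfsg Cfsg.FusionSystem Cfsg.Agent.Lib.FusionBasic Cfsg.Agent.Lib.FusionSat Cfsg.Agent.Lib.FusionNormal
  Cfsg.Agent.Lib.FusionInvar Cfsg.Agent.Lib.FusionTools Cfsg.Agent.Lib.FusionPP Cfsg.Agent.Lib.FusionStrong
  Cfsg.Agent.Lib.FusionSys Cfsg.Agent.Lib.FusionFrat Cfsg.Agent.Lib.FusionPrime Cfsg.Agent.Lib.FusionTC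

namespace Cfsg.Agent.Lib.FusionRes

variable {Ω : Type*} [Group Ω] {S T : Subgroup Ω} {F : FusionSystem S} {E : FusionSystem T} {P Q R M X Y Z : Subgroup Ω}
  {a b f g : Ω → Ω} {p : ℕ}

/-- Two-system version of `genSys_conjInv`. -/
theorem genSys_conjInv' {U V : Subgroup Ω} {D : FusionSystem V} {hUV : U ≤ V} {A : Subgroup Ω → (Ω → Ω) → Prop}
    (hA : ∀ P f, A P f → FMap D P f ∧ P ≤ U ∧ ∀ x ∈ P, f x ∈ U)
    (hAinv : ∀ P Q a f, FIso F U U a → A P f → (∀ y, y ∈ Q ↔ ∃ x ∈ P, a x = y) →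
      ∃ g, A Q g ∧ ∀ x ∈ P, g (a x) = a (f x)) : ConjInv F (genSys D U hUV A) := by
  intro P Q a f ha hf hQ
  refine genSys_induction hA (fun P f => ∀ (Q : Subgroup Ω) (a : Ω → Ω), FIso F U U a → (∀ y, y ∈ Q ↔ ∃ x ∈ P, a x = y) →
    ∃ g, FMap (genSys D U hUV A) Q g ∧ ∀ x ∈ P, g (a x) = a (f x)) ?_ ?_ ?_ ?_ ?_ P f hf Q a ha hQ
  · intro P f hf Q a ha hQ
    obtain ⟨g, hg, h⟩ := hAinv P Q a f ha hf hQ
    exact ⟨g, fmap_genSys_base hA hg, h⟩
  · intro P s hP hs Q a ha hQ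
    have hQT : Q ≤ U := fun y hy => by
      obtain ⟨x, hx, rfl⟩ := (hQ y).1 hy
      exact ha.mem (hP hx)
    exact ⟨_, fmap_conj _ hQT (ha.mem hs), fun x hx => (ha.1.map_conj hs (hP hx)).symm⟩
  · intro P R f g hf ih1 hg ih2 hfR Q a ha hQ
    obtain ⟨R', hR'⟩ := (ha.1.restrict hg.le).exists_iso
    obtain ⟨f', hf', h1⟩ := ih1 Q a ha hQ
    obtain ⟨g', hg', h2⟩ := ih2 R' a ha (fun y => hR'.2 y)
    refine ⟨fun x => g' (f' x), hf'.comp hg' fun y hy => ?_, fun x hx => ?_⟩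
    · obtain ⟨x, hx, rfl⟩ := (hQ y).1 hy
      rw [h1 x hx]
      exact hR'.mem (hfR x hx)
    · show g' (f' (a x)) = a (g (f x))
      rw [h1 x hx, h2 _ (hfR x hx)]
  · intro P R f g hf ih hg hgf hfg Q a ha hQ
    obtain ⟨P', hP'⟩ := (ha.1.restrict hf.le_left).exists_iso
    obtain ⟨f', hf', h1⟩ := ih P' a ha (fun y => hP'.2 y)
    have hf'' : FIso (genSys D U hUV A) P' Q f' := by
      refine ⟨hf', fun y => ?_⟩
      rw [hQ y]
      constructor
      · rintro ⟨z, hz, rfl⟩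
        exact ⟨a (g z), hP'.mem (hg.mem hz), by rw [h1 _ (hg.mem hz), hfg z hz]⟩
      · rintro ⟨z, hz, rfl⟩
        obtain ⟨x, hx, rfl⟩ := hP'.mem_iff.1 hz
        exact ⟨f x, hf.mem hx, (h1 x hx).symm⟩
    obtain ⟨g', hg', h2, h3⟩ := hf''.symm
    refine ⟨g', hg'.1, fun x hx => ?_⟩
    have h4 := h2 (a (g x)) (hP'.mem (hg.mem hx))
    rw [h1 _ (hg.mem hx), hfg x hx] at h4
    exact h4
  · intro P f g hf ih hfg Q a ha hQ
    obtain ⟨k, hk, h⟩ := ih Q a ha hQ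
    exact ⟨k, hk, fun x hx => by rw [h x hx, hfg x hx]⟩

/-- transport of `E`-automorphisms under `Aut_F(T)` -/
theorem autEquiv_mem (hc : ConjInv F E) (ha : FIso F T T a) (hPT : P ≤ T) (hPQ : FIso F P Q a) {α : MulAut P}
    (hα : α ∈ E.autGroup P) : hPQ.autEquiv α ∈ E.autGroup Q := by
  obtain ⟨g, hg, h⟩ := hc P Q a _ ha (fmap_of_autGroup hPT hα) hPQ.2
  refine mem_autGroup_of_fmap hg fun y => ?_
  obtain ⟨x, hx, hxy⟩ := hPQ.mem_iff.1 y.2
  have h1 := hPQ.autEquiv_coe α ⟨x, hx⟩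
  have h2 : y = ⟨a x, hPQ.mem hx⟩ := Subtype.ext hxy.symm
  rw [h2, h1]
  show a (α ⟨x, hx⟩ : P) = g (a x)
  rw [h x hx, autFun_of_mem _ hx]

theorem op_autEquiv (hc : ConjInv F E) (ha : FIso F T T a) (hPT : P ≤ T) (hPQ : FIso F P Q a) {κ : MulAut P}
    (hκ : κ ∈ OP E p P) : hPQ.autEquiv κ ∈ OP E p Q := by
  have h1 : OP E p P ≤ (OP E p Q).comap hPQ.autEquiv.toMonoidHom := by
    rw [op_le_iff]
    rintro α hα ⟨k, hk⟩
    refine mem_op (k := k) (autEquiv_mem hc ha hPT hPQ hα) ?_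
    rw [← hk]
    exact MulEquiv.orderOf_eq hPQ.autEquiv α
  exact h1 hκ

theorem gen0_conjInv' (hE : Inv E F) : ConjInv F (gen0 E p) := by
  refine genSys_conjInv' a0_data ?_
  rintro P Q a f ha ⟨hP, α, hα, h⟩ hQ
  have hPQ : FIso F P Q a := ⟨ha.1.restrict hP.1, hQ⟩
  refine ⟨autFun (hPQ.autEquiv α), ⟨(centric_iff_tc hE).2 (((centric_iff_tc hE).1 hP).conj hE.closed hPQ.isConj), _,
    op_autEquiv (Inv.conjInv hE) ha hP.1 hPQ hα, fun _ _ => rfl⟩, fun x hx => ?_⟩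
  rw [autFun_of_mem _ (hPQ.mem hx)]
  have h1 := hPQ.autEquiv_coe α ⟨x, hx⟩
  rw [h1, h x hx, autFun_of_mem _ hx]

theorem w0_conj (hE : Inv E F) {α : MulAut T} (hα : α ∈ F.autGroup T) {β : MulAut T} (hβ : β ∈ W0 E p) :
    α * β * α⁻¹ ∈ W0 E p := by
  have hT := hE.closed
  have h1 : W0 E p ≤ (W0 E p).comap (MulAut.conj α).toMonoidHom := by
    rw [W0, Subgroup.closure_le]
    rintro γ ⟨hγ, P, hP, h2⟩
    show α * γ * α⁻¹ ∈ W0 E p
    have hαf := (fiso_autFun_iff hT.1).2 hα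
    obtain ⟨Q, hQ⟩ := (hαf.1.restrict hP.1).exists_iso
    obtain ⟨g, hg, h3⟩ := gen0_conjInv' hE P Q _ _ hαf h2 hQ.2
    refine mem_w0 (P := Q) ?_ ((centric_iff_tc hE).2 (((centric_iff_tc hE).1 hP).conj hT hQ.isConj)) ?_
    · exact (Inv.strong hE).autGroup_normal hT.1 le_rfl α hα γ hγ
    · refine hg.congr fun y hy => ?_
      obtain ⟨x, hx, rfl⟩ := hQ.mem_iff.1 hy
      have hxT := hP.1 hx
      rw [h3 x hx, autFun_mul _ _ (autFun_mem _ hxT), autFun_inv_apply _ hxT, autFun_mul _ _ hxT]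
  exact h1 hβ

theorem res_conjInv (hE : Inv E F) : ConjInv F (res E p) := by
  intro P Q a f ha hf hQ
  obtain ⟨α, hα, f₀, h2, h3⟩ := fmap_res.1 hf
  have hPT := hf.le
  obtain ⟨g₀, hg₀, h4⟩ := gen0_conjInv' hE P Q a f₀ ha h2 hQ
  let A : MulAut T := ha.equiv
  have hA : ∀ x ∈ T, autFun A x = a x := fun x hx => by rw [autFun_of_mem _ hx]; rfl
  refine ⟨fun x => autFun (A * α * A⁻¹) (g₀ x), fmap_res.2 ⟨_, w0_conj hE ha.equiv_mem_autGroup hα, g₀, hg₀,
    fun _ _ => rfl⟩, fun x hx => ?_⟩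
  have hf₀ := h2.map_mem hx
  show autFun (A * α * A⁻¹) (g₀ (a x)) = a (f x)
  rw [h4 x hx, h3 x hx, ← hA _ hf₀, autFun_mul _ _ (autFun_mem _ hf₀), autFun_inv_apply _ hf₀, autFun_mul _ _ hf₀,
    hA _ (autFun_mem _ hf₀)]

theorem res_inv [Finite S] [Fact p.Prime] (hS : IsPGroup p S) (hEs : E.IsSaturated p) (hE : Inv E F) :
    Inv (res E p) F where
  sub := sub_trans res_sub hE.sub
  closed := hE.closed
  conj := fun h1 h2 h3 => res_conjInv hE _ _ _ _ h1 h2 h3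
  frattini := by
    intro P f hPT hf
    have hTfin : Finite T := finite_of_le hE.closed.1
    obtain ⟨a, f₁, ha, hf₁, h1⟩ := hE.frattini hPT hf
    obtain ⟨b, f₀, hb, hf₀, h2⟩ := gen0_frat (isPGroup_of_le hS hE.closed.1) hEs P f₁ hf₁
    exact ⟨fun x => a (b x), f₀, (sub_fiso hE.sub hb).trans ha, gen0_sub_res hf₀, fun x hx => by rw [h1 x hx, h2 x hx]⟩

/-! ### The extension property -/

/-- The map extends to `P C_S(T)` with trivial action on `C_S(T)` modulo `T`. -/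
def Lam (F : FusionSystem S) (T P : Subgroup Ω) (f : Ω → Ω) : Prop :=
  ∃ g, FMap F (P ⊔ centralizerIn S T) g ∧ (∀ x ∈ P, g x = f x) ∧ ∀ c ∈ centralizerIn S T, c⁻¹ * g c ∈ T

theorem lam_congr (h : Lam F T P f) (hfg : ∀ x ∈ P, f x = g x) : Lam F T P g := by
  obtain ⟨k, h1, h2, h3⟩ := h
  exact ⟨k, h1, fun x hx => by rw [h2 x hx, hfg x hx], h3⟩

/-- the image of `c` differs from `c` by an element of the image of `P` -/
theorem lam_mem (hT : F.StronglyClosed T) (hTC : TC F T P) (hf : FIso F P Q f)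
    (hg : FMap F (P ⊔ centralizerIn S T) g) (h1 : ∀ x ∈ P, g x = f x)
    (h2 : ∀ c ∈ centralizerIn S T, c⁻¹ * g c ∈ T) {c : Ω} (hc : c ∈ centralizerIn S T) : c⁻¹ * g c ∈ Q := by
  have hQ := hTC.conj hT hf.isConj
  refine hQ.cent hT ⟨h2 c hc, mem_centralizer_iff'.2 fun y hy => ?_⟩
  obtain ⟨x, hx, rfl⟩ := hf.mem_iff.1 hy
  have hxT := hTC.1 hx
  have hfT : f x ∈ T := StronglyClosed.map_mem F hT hf.1 hx hxT
  have h3 : c * x * c⁻¹ = x := mem_centralizer_iff'.1 hc.2 x hxT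
  have h4 : c * f x * c⁻¹ = f x := mem_centralizer_iff'.1 hc.2 _ hfT
  have h5 : g c * f x * (g c)⁻¹ = f x := by
    rw [← h1 x hx, ← hg.map_conj (Subgroup.mem_sup_right hc) (Subgroup.mem_sup_left hx), h3]
  calc c⁻¹ * g c * f x * (c⁻¹ * g c)⁻¹ = c⁻¹ * (g c * f x * (g c)⁻¹) * c := by group
    _ = c⁻¹ * (c * f x * c⁻¹) * c := by rw [h5, h4]
    _ = f x := by group

theorem lam_comp (hT : F.StronglyClosed T) (hTC : TC F T P) (hf : FIso F P Q f) (hg : FMap F Q g) (h1 : Lam F T P f)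
    (h2 : Lam F T Q g) : Lam F T P (fun x => g (f x)) := by
  obtain ⟨k, hk, k1, k2⟩ := h1
  obtain ⟨l, hl, l1, l2⟩ := h2
  have hkm : ∀ x ∈ P ⊔ centralizerIn S T, k x ∈ Q ⊔ centralizerIn S T := by
    refine map_sup_mem hk (fun x hx => by rw [k1 x hx]; exact Subgroup.mem_sup_left (hf.mem hx)) (fun c hc => ?_)
    have h3 := lam_mem hT hTC hf hk k1 k2 hc
    have h4 := Subgroup.mul_mem _ (Subgroup.mem_sup_right (S := Q) hc) (Subgroup.mem_sup_left (T := centralizerIn S T) h3)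
    rwa [mul_inv_cancel_left] at h4
  refine ⟨fun x => l (k x), hk.comp hl hkm, fun x hx => ?_, fun c hc => ?_⟩
  · show l (k x) = g (f x)
    rw [k1 x hx, l1 _ (hf.mem hx)]
  · show c⁻¹ * l (k c) ∈ T
    have h3 := lam_mem hT hTC hf hk k1 k2 hc
    have h4 : k c = c * (c⁻¹ * k c) := by group
    rw [h4, hl.map_mul (Subgroup.mem_sup_right hc) (Subgroup.mem_sup_left h3), ← mul_assoc]
    refine T.mul_mem (l2 c hc) ?_
    exact StronglyClosed.map_mem F hT hl (Subgroup.mem_sup_left h3) (k2 c hc)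

theorem lam_inv (hT : F.StronglyClosed T) (hTC : TC F T P) (hf : FIso F P Q f) (hg : FIso F Q P g)
    (hgf : ∀ x ∈ P, g (f x) = x) (h1 : Lam F T P f) : Lam F T Q g := by
  obtain ⟨k, hk, k1, k2⟩ := h1
  obtain ⟨R, hR⟩ := hk.exists_iso
  obtain ⟨l, hl, l1, l2⟩ := hR.symm
  have hle : Q ⊔ centralizerIn S T ≤ R := by
    have hQR : Q ≤ R := fun y hy => by
      obtain ⟨x, hx, rfl⟩ := hf.mem_iff.1 hy
      rw [← k1 x hx]
      exact hR.mem (Subgroup.mem_sup_left hx)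
    refine sup_le hQR fun c hc => ?_
    have h3 := lam_mem hT hTC hf hk k1 k2 hc
    have h4 := R.mul_mem (hR.mem (Subgroup.mem_sup_right hc)) (R.inv_mem (hQR h3))
    have h5 : k c * (c⁻¹ * k c)⁻¹ = c := by group
    rwa [h5] at h4
  refine ⟨l, hl.1.restrict hle, fun y hy => ?_, fun c hc => ?_⟩
  · obtain ⟨x, hx, rfl⟩ := hf.mem_iff.1 hy
    rw [hgf x hx, ← k1 x hx, l1 x (Subgroup.mem_sup_left hx)]
  · have h3 := lam_mem hT hTC hf hk k1 k2 hc
    have h3R : c⁻¹ * k c ∈ R := hle (Subgroup.mem_sup_left h3)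
    have h5 : c = k c * (c⁻¹ * k c)⁻¹ := by group
    have h6 : l c = c * (l (c⁻¹ * k c))⁻¹ := by
      have h7 := congrArg l h5
      rw [hl.1.map_mul (hR.mem (Subgroup.mem_sup_right hc)) (R.inv_mem h3R), l1 c (Subgroup.mem_sup_right hc),
        hl.1.map_inv h3R] at h7
      exact h7
    rw [h6, inv_mul_cancel_left]
    exact T.inv_mem (StronglyClosed.map_mem F hT hl.1 h3R (k2 c hc))

/-- `p`-elements of `Aut_E(R)` extend. -/
theorem lam_pElement [Finite S] [Fact p.Prime] (hS : IsPGroup p S) (hF : F.IsSaturated p) (hEs : E.IsSaturated p)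
    (hE : Inv E F) (hR : TC F T R) {α : MulAut R} (hα : α ∈ E.autGroup R) {k : ℕ} (hk : orderOf α = p ^ k) :
    Lam F T R (autFun α) := by
  have hT := hE.closed
  have hTfin : Finite T := finite_of_le hT.1
  have hTp := isPGroup_of_le hS hT.1
  have hRS := hR.1.trans hT.1
  obtain ⟨Q, ψ, hQ, hψ, hψN, hψm⟩ := exists_fullyNormalized_map hS hF hRS
  have hQT : Q ≤ T := le_of_fiso hT hR.1 hψ
  have hQn := fullyNormalized_sub hS hF hT hE.sub hQT hQ
  have hQTC := hR.conj hT hψ.isConj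
  -- transport α
  have hα' : hψ.autEquiv α ∈ E.autGroup Q := by
    obtain ⟨φ, hφ, hφ1, hφ2⟩ := hψ.symm
    have h1 := (Inv.strong hE).transport hR.1 hψ hφ1 ((fiso_autFun_iff hR.1).2 hα)
    refine mem_autGroup_of_fmap h1 fun y => ?_
    obtain ⟨x, hx, hxy⟩ := hψ.mem_iff.1 y.2
    have h2 := hψ.autEquiv_coe α ⟨x, hx⟩
    have h3 : y = ⟨ψ x, hψ.mem hx⟩ := Subtype.ext hxy.symm
    rw [h3, h2]
    show ψ (α ⟨x, hx⟩ : R) = ψ (autFun α (φ (ψ x)))
    rw [hφ1 x hx, autFun_of_mem _ hx]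
  have hp' : IsPGroup p (Subgroup.zpowers (hψ.autEquiv α)) := by
    rw [IsPGroup.iff_orderOf]
    rintro ⟨x, hx⟩
    rw [Subgroup.orderOf_mk]
    have h1 : orderOf x ∣ p ^ k := by
      have h2 : orderOf (hψ.autEquiv α) = p ^ k := (MulEquiv.orderOf_eq hψ.autEquiv α).trans hk
      rw [← h2]
      exact orderOf_dvd_of_mem_zpowers hx
    obtain ⟨j, -, hj⟩ := (Nat.dvd_prime_pow Fact.out).1 h1
    exact ⟨j, hj⟩
  obtain ⟨χ, hχ, h1⟩ := exists_conj_le_autInducedBy (fullyAutomized_of_fullyNormalized hTp hEs hQn)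
    (Subgroup.zpowers (hψ.autEquiv α)) (by rw [Subgroup.zpowers_le]; exact hα') hp'
  obtain ⟨t, ht, h2⟩ := mem_autInducedBy_iff.1 (h1 _ (Subgroup.mem_zpowers _))
  have htn := mem_normalizer_of_aut h2
  have hχi := (fiso_autFun_iff (hQT.trans hT.1)).2 (sub_autGroup hE.sub hQT hχ)
  obtain ⟨μ, hμ, μ1, μ2⟩ := exists_extension_centralizer (receptive_of_fullyNormalized hS hF hQ) hχi
  set C := centralizerIn S Q with hC
  have hQC : Q ⊔ C ≤ S := hμ.le
  have hμi : FIso F (Q ⊔ C) (Q ⊔ C) μ := hμ.fiso_of_card hQC (map_sup_mem hμ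
    (fun x hx => by rw [μ1 x hx]; exact Subgroup.mem_sup_left (autFun_mem _ hx))
    (fun x hx => Subgroup.mem_sup_right (μ2 x hx))) le_rfl
  obtain ⟨ν, hν, ν1, ν2⟩ := hμi.symm
  have hνQ : ∀ x ∈ Q, ν x = autFun χ⁻¹ x := by
    intro x hx
    have h3 := ν1 _ (Subgroup.mem_sup_left (T := C) (autFun_mem χ⁻¹ hx))
    rwa [μ1 _ (autFun_mem χ⁻¹ hx), autFun_apply_inv _ hx] at h3
  have htS : t ∈ S := hT.1 ht
  have htC : ∀ x ∈ Q ⊔ C, t * x * t⁻¹ ∈ Q ⊔ C := by
    refine map_sup_mem (fmap_conj F hQC htS) (fun x hx => ?_) (fun x hx => ?_)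
    · exact Subgroup.mem_sup_left ((Subgroup.mem_normalizer_iff.1 htn x).1 hx)
    · refine Subgroup.mem_sup_right ⟨S.mul_mem (S.mul_mem htS hx.1) (S.inv_mem htS), mem_centralizer_iff'.2 fun y hy => ?_⟩
      have hy' : t⁻¹ * y * t ∈ Q := by
        have := (Subgroup.mem_normalizer_iff.1 (Subgroup.inv_mem _ htn) y).1 hy
        rwa [inv_inv] at this
      have h4 := mem_centralizer_iff'.1 hx.2 _ hy'
      calc t * x * t⁻¹ * y * (t * x * t⁻¹)⁻¹ = t * (x * (t⁻¹ * y * t) * x⁻¹) * t⁻¹ := by group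
        _ = y := by rw [h4]; group
  -- the extension on Q
  have hβ : FMap F (Q ⊔ C) (fun x => ν (t * μ x * t⁻¹)) :=
    (hμ.comp (fmap_conj F hQC htS) (fun x hx => hμi.mem hx)).comp hν.1 (fun x hx => htC _ (hμi.mem hx))
  have hβQ : ∀ x ∈ Q, ν (t * μ x * t⁻¹) = autFun (hψ.autEquiv α) x := by
    intro x hx
    have hχx : autFun χ x ∈ Q := autFun_mem χ hx
    have h3 := h2 ⟨autFun χ x, hχx⟩
    have h4 : t * autFun χ x * t⁻¹ ∈ Q := (Subgroup.mem_normalizer_iff.1 htn _).1 hχx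
    rw [μ1 x hx, hνQ _ h4]
    have h5 : t * autFun χ x * t⁻¹ = autFun (χ * hψ.autEquiv α * χ⁻¹) (autFun χ x) := by
      rw [autFun_of_mem (χ * hψ.autEquiv α * χ⁻¹) hχx]
      exact h3.symm
    rw [h5, ← autFun_mul _ _ hχx, ← autFun_mul _ _ hx]
    congr 2
    group
  have hβC : ∀ c ∈ C, c⁻¹ * ν (t * μ c * t⁻¹) ∈ Q := by
    intro c hc
    have hd := μ2 c hc
    have hz : (μ c)⁻¹ * (t * μ c * t⁻¹) ∈ Q := by
      refine hQTC.cent hT ⟨?_, ?_⟩
      · have h3 := (Subgroup.mem_normalizer_iff.1 (Subgroup.inv_mem _ (normalizes_of_stronglyClosed hT hd.1)) t).1 ht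
        rw [inv_inv] at h3
        have h4 : (μ c)⁻¹ * (t * μ c * t⁻¹) = ((μ c)⁻¹ * t * μ c) * t⁻¹ := by group
        rw [h4]
        exact T.mul_mem h3 (T.inv_mem ht)
      · refine Subgroup.mul_mem _ (Subgroup.inv_mem _ hd.2) (mem_centralizer_iff'.2 fun y hy => ?_)
        have hy' : t⁻¹ * y * t ∈ Q := by
          have := (Subgroup.mem_normalizer_iff.1 (Subgroup.inv_mem _ htn) y).1 hy
          rwa [inv_inv] at this
        have h4 := mem_centralizer_iff'.1 hd.2 _ hy'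
        calc t * μ c * t⁻¹ * y * (t * μ c * t⁻¹)⁻¹ = t * (μ c * (t⁻¹ * y * t) * (μ c)⁻¹) * t⁻¹ := by group
          _ = y := by rw [h4]; group
    have h3 : t * μ c * t⁻¹ = μ c * ((μ c)⁻¹ * (t * μ c * t⁻¹)) := by group
    rw [h3, hν.1.map_mul (Subgroup.mem_sup_right hd) (Subgroup.mem_sup_left hz), ν1 c (Subgroup.mem_sup_right hc),
      inv_mul_cancel_left, hνQ _ hz]
    exact autFun_mem _ hz
  -- transport back to R
  have hRC : R ⊔ centralizerIn S R ≤ normalizerIn S R := le_centralizer_of_sup hRS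
  have hCT : centralizerIn S T ≤ centralizerIn S R := fun c hc => ⟨hc.1, Subgroup.centralizer_le hR.1 hc.2⟩
  have hle : R ⊔ centralizerIn S T ≤ normalizerIn S R := (sup_le_sup_left hCT R).trans hRC
  obtain ⟨V, hV⟩ := hψN.exists_iso
  obtain ⟨φ, hφ, φ1, φ2⟩ := hV.symm
  have hψC : ∀ c ∈ centralizerIn S T, ψ c ∈ C := fun c hc =>
    ⟨hψN.map_mem (hle (Subgroup.mem_sup_right hc)), hψ.map_centralizer hψN (le_normalizerIn hRS)
      (hle (Subgroup.mem_sup_right hc)) (hCT hc).2⟩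
  have hm1 : ∀ x ∈ R ⊔ centralizerIn S T, ψ x ∈ Q ⊔ C :=
    map_sup_mem (hψN.restrict hle) (fun x hx => Subgroup.mem_sup_left (hψ.mem hx))
      (fun c hc => Subgroup.mem_sup_right (hψC c hc))
  have hcomp : FMap F (R ⊔ centralizerIn S T) (fun x => ν (t * μ (ψ x) * t⁻¹)) := (hψN.restrict hle).comp hβ hm1
  have hQV : Q ≤ V := fun y hy => by
    obtain ⟨x, hx, rfl⟩ := hψ.mem_iff.1 hy
    exact hV.mem (le_normalizerIn hRS hx)
  have hV' : ∀ x ∈ R ⊔ centralizerIn S T, ν (t * μ (ψ x) * t⁻¹) ∈ V := by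
    refine map_sup_mem hcomp (fun x hx => ?_) (fun c hc => ?_)
    · show ν (t * μ (ψ x) * t⁻¹) ∈ V
      rw [hβQ _ (hψ.mem hx)]
      exact hQV (autFun_mem _ (hψ.mem hx))
    · show ν (t * μ (ψ c) * t⁻¹) ∈ V
      have h3 := V.mul_mem (hV.mem (hle (Subgroup.mem_sup_right hc))) (hQV (hβC _ (hψC c hc)))
      rwa [mul_inv_cancel_left] at h3
  refine ⟨fun x => φ (ν (t * μ (ψ x) * t⁻¹)), hcomp.comp hφ.1 hV', fun x hx => ?_, fun c hc => ?_⟩
  · show φ (ν (t * μ (ψ x) * t⁻¹)) = autFun α x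
    rw [hβQ _ (hψ.mem hx)]
    have h3 := hψ.autEquiv_coe α ⟨x, hx⟩
    rw [autFun_of_mem _ (hψ.mem hx), h3, φ1 _ (le_normalizerIn hRS (α ⟨x, hx⟩).2), autFun_of_mem _ hx]
  · show c⁻¹ * φ (ν (t * μ (ψ c) * t⁻¹)) ∈ T
    have h3 := hβC _ (hψC c hc)
    have h4 : ν (t * μ (ψ c) * t⁻¹) = ψ c * ((ψ c)⁻¹ * ν (t * μ (ψ c) * t⁻¹)) := by group
    have hcV : ψ c ∈ V := hV.mem (hle (Subgroup.mem_sup_right hc))
    rw [h4, hφ.1.map_mul hcV (hQV h3), φ1 c (hle (Subgroup.mem_sup_right hc)), inv_mul_cancel_left]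
    exact StronglyClosed.map_mem F hT hφ.1 (hQV h3) (hQT h3)

theorem lam_op [Finite S] [Fact p.Prime] (hS : IsPGroup p S) (hF : F.IsSaturated p) (hEs : E.IsSaturated p)
    (hE : Inv E F) (hR : TC F T R) {α : MulAut R} (hα : α ∈ OP E p R) : Lam F T R (autFun α) := by
  have hT := hE.closed
  have hRS := hR.1.trans hT.1
  let A : Subgroup (MulAut R) :=
    { carrier := {α | α ∈ F.autGroup R ∧ Lam F T R (autFun α)}
      one_mem' := ⟨Subgroup.one_mem _, fun x => x, fmap_id F (sup_le hRS (centralizerIn_le S T)), fun x hx =>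
        (autFun_one hx).symm, fun c _ => by rw [inv_mul_cancel]; exact T.one_mem⟩
      mul_mem' := by
        rintro α β ⟨h1, h2⟩ ⟨h3, h4⟩
        refine ⟨Subgroup.mul_mem _ h1 h3, ?_⟩
        exact lam_congr (lam_comp hT hR ((fiso_autFun_iff hRS).2 h3) ((fiso_autFun_iff hRS).2 h1).1 h4 h2)
          fun x hx => (autFun_mul α β hx).symm
      inv_mem' := by
        rintro α ⟨h1, h2⟩
        exact ⟨Subgroup.inv_mem _ h1, lam_inv hT hR ((fiso_autFun_iff hRS).2 h1)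
          ((fiso_autFun_iff hRS).2 (Subgroup.inv_mem _ h1)) (fun x hx => autFun_inv_apply α hx) h2⟩ }
  have h1 : OP E p R ≤ A := by
    rw [op_le_iff]
    rintro β hβ ⟨k, hk⟩
    exact ⟨sub_autGroup hE.sub hR.1 hβ, lam_pElement hS hF hEs hE hR hβ hk⟩
  exact (h1 hα).2

theorem lam_gen0 [Finite S] [Fact p.Prime] (hS : IsPGroup p S) (hF : F.IsSaturated p) (hEs : E.IsSaturated p)
    (hE : Inv E F) (hf : FMap (gen0 E p) P f) (hP : TC F T P) : Lam F T P f := by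
  have hT := hE.closed
  have hsub : (gen0 E p).IsSubsystemOf F := sub_trans gen0_sub hE.sub
  refine genSys_induction a0_data (fun P f => TC F T P → Lam F T P f) ?_ ?_ ?_ ?_ ?_ P f hf hP
  · rintro P f ⟨-, α, hα, h⟩ hP
    exact lam_congr (lam_op hS hF hEs hE hP hα) fun x hx => (h x hx).symm
  · intro P s hP hs hTC
    refine ⟨_, fmap_conj F (sup_le (hP.trans hT.1) (centralizerIn_le S T)) (hT.1 hs), fun _ _ => rfl, fun c hc => ?_⟩
    have h1 := mem_centralizer_iff'.1 hc.2 s hs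
    have h2 : c⁻¹ * (s * c * s⁻¹) = 1 := by
      calc c⁻¹ * (s * c * s⁻¹) = c⁻¹ * ((c * s * c⁻¹) * c * s⁻¹) := by rw [h1]
        _ = 1 := by group
    rw [h2]
    exact T.one_mem
  · intro P Q f g hf ih1 hg ih2 hfQ hTC
    obtain ⟨R, hR⟩ := hf.exists_iso
    have hRQ : R ≤ Q := fun y hy => by
      obtain ⟨x, hx, rfl⟩ := hR.mem_iff.1 hy
      exact hfQ x hx
    have hRi := sub_fiso hsub hR
    have hRTC := hTC.conj hT hRi.isConj
    have hQTC := hRTC.mono hT hRQ hg.le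
    obtain ⟨k, hk, k1, k2⟩ := ih2 hQTC
    exact lam_comp hT hTC hRi (sub_fmap hsub (hg.restrict hRQ)) (ih1 hTC)
      ⟨k, hk.restrict (sup_le_sup_right hRQ _), fun x hx => k1 x (hRQ hx), k2⟩
  · intro P Q f g hf ih hg hgf hfg hTC
    have hfi := sub_fiso hsub hf
    have hP : TC F T P := hTC.conj hT (sub_fiso hsub hg).isConj
    exact lam_inv hT hP hfi (sub_fiso hsub hg) hgf (ih hP)
  · intro P f g hf ih hfg hTC
    exact lam_congr (ih hTC) hfg

theorem autFun_pow_apply (β : MulAut P) (k : ℕ) {x : Ω} (hx : x ∈ P) : autFun (β ^ k) x = (autFun β)^[k] x := by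
  induction k with
  | zero => exact autFun_one hx
  | succ k ih => rw [pow_succ', autFun_mul _ _ hx, ih, Function.iterate_succ_apply']

/-- An `E`-automorphism of `T` that restricts to a map with property `Lam` on a centric subgroup has property `Lam`. -/
theorem lam_of_restrict [Finite S] [Fact p.Prime] (hS : IsPGroup p S) (hF : F.IsSaturated p) (hEs : E.IsSaturated p)
    (hE : Inv E F) (hP : TC F T P) {β : MulAut T} (hβ : β ∈ E.autGroup T) (hl : Lam F T P (autFun β)) :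
    Lam F T T (autFun β) := by
  have hT := hE.closed
  have hTfin : Finite T := finite_of_le hT.1
  have hTTC : TC F T T := hP.mono hT hP.1 le_rfl
  have hβF := sub_autGroup hE.sub le_rfl hβ
  have hβi := (fiso_autFun_iff hT.1).2 hβF
  obtain ⟨k, hk, k1, k2⟩ := hl
  set C := centralizerIn S T with hC
  have hTn := fullyNormalized_of_stronglyClosed hT
  obtain ⟨b, hb, b1, b2⟩ := exists_extension_centralizer (receptive_of_fullyNormalized hS hF hTn) hβi
  have hTC : T ⊔ C ≤ S := hb.le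
  have hbi : FIso F (T ⊔ C) (T ⊔ C) b := hb.fiso_of_card hTC (map_sup_mem hb
    (fun x hx => by rw [b1 x hx]; exact Subgroup.mem_sup_left (autFun_mem _ hx))
    (fun x hx => Subgroup.mem_sup_right (b2 x hx))) le_rfl
  obtain ⟨b', hb', b'1, b'2⟩ := hbi.symm
  have hb'T : ∀ x ∈ T, b' x ∈ T := fun x hx => StronglyClosed.map_mem F hT hb'.1 (Subgroup.mem_sup_left hx) hx
  have hb'Ti : FIso F T T b' := fiso_restrict hb'.1 le_sup_left hb'T
  have hb'C : ∀ c ∈ C, b' c ∈ C := fun c hc => ⟨hb'.1.map_mem (Subgroup.mem_sup_right hc),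
    hb'Ti.map_centralizer hb'.1 le_sup_left (Subgroup.mem_sup_right hc) hc.2⟩
  have hPT := hP.1
  have hPi := hβi.1.restrict hPT
  obtain ⟨Q, hQ⟩ := hPi.exists_iso
  have hkm : ∀ x ∈ P ⊔ C, k x ∈ T ⊔ C := map_sup_mem hk
    (fun x hx => by rw [k1 x hx]; exact Subgroup.mem_sup_left (autFun_mem _ (hPT hx)))
    (fun c hc => by
      have h3 := Subgroup.mul_mem _ (Subgroup.mem_sup_right (S := T) hc) (Subgroup.mem_sup_left (T := C) (k2 c hc))
      rwa [mul_inv_cancel_left] at h3)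
  obtain ⟨ρ, hρe⟩ : ∃ ρ : Ω → Ω, ρ = fun x => b' (k x) := ⟨_, rfl⟩
  have hρ : FMap F (P ⊔ C) ρ := by rw [hρe]; exact hk.comp hb'.1 hkm
  have hρP : ∀ x ∈ P, ρ x = x := by
    intro x hx
    rw [hρe]
    show b' (k x) = x
    rw [k1 x hx, ← b1 x (hPT hx), b'1 x (Subgroup.mem_sup_left (hPT hx))]
  have hρC : ∀ c ∈ C, (b' c)⁻¹ * ρ c ∈ P := by
    intro c hc
    have h3 := lam_mem hT hP hQ hk k1 k2 hc
    obtain ⟨x, hx, hxe⟩ := hQ.mem_iff.1 h3
    have h4 : k c = c * autFun β x := by rw [hxe]; group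
    rw [hρe]
    show (b' c)⁻¹ * b' (k c) ∈ P
    rw [h4, hb'.1.map_mul (Subgroup.mem_sup_right hc) (Subgroup.mem_sup_left (autFun_mem _ (hPT hx))),
      inv_mul_cancel_left, ← b1 x (hPT hx), b'1 x (Subgroup.mem_sup_left (hPT hx))]
    exact hx
  have hPC : P ⊔ C ≤ S := hρ.le
  have hρm : ∀ x ∈ P ⊔ C, ρ x ∈ P ⊔ C := map_sup_mem hρ
    (fun x hx => by rw [hρP x hx]; exact Subgroup.mem_sup_left hx)
    (fun c hc => by
      have h3 := Subgroup.mul_mem _ (Subgroup.mem_sup_right (S := P) (hb'C c hc))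
        (Subgroup.mem_sup_left (T := C) (hρC c hc))
      rwa [mul_inv_cancel_left] at h3)
  have hρi : FIso F (P ⊔ C) (P ⊔ C) ρ := hρ.fiso_of_card hPC hρm le_rfl
  obtain ⟨N₁, hN₁, hN₁'⟩ := exists_order hρi
  obtain ⟨N₂, hN₂, hN₂'⟩ := exists_order hbi
  have hN : N₁ * N₂ ≠ 0 := Nat.mul_ne_zero hN₁ hN₂
  obtain ⟨e, m, hm, hNe⟩ := Nat.exists_eq_pow_mul_and_not_dvd hN p (Fact.out : p.Prime).ne_one
  have hcop : (p ^ e).Coprime m := Nat.Coprime.pow_left e ((Fact.out : p.Prime).coprime_iff_not_dvd.2 hm)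
  obtain ⟨k₀, hk0, hk1⟩ := Nat.chineseRemainder hcop 0 1
  obtain ⟨K, hK⟩ : ∃ K, K = k₀ + N₁ * N₂ := ⟨_, rfl⟩
  have hKpos : 1 ≤ K := by omega
  have hKp : p ^ e ∣ K := by
    rw [hK]
    exact Nat.dvd_add ((Nat.modEq_zero_iff_dvd).1 hk0) (hNe ▸ Dvd.intro _ rfl)
  have hKm : m ∣ K - 1 := by
    have h4 : 1 ≡ K [MOD m] := by
      rw [hK]
      have h5 : N₁ * N₂ ≡ 0 [MOD m] := (Nat.modEq_zero_iff_dvd).2 (hNe ▸ Dvd.intro_left _ rfl)
      have h6 := (hk1.symm).add h5.symm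
      simpa using h6
    exact (Nat.modEq_iff_dvd' hKpos).1 h4
  -- the p'-part of ρ
  have hr : PP F p (P ⊔ C) (ρ^[K]) := by
    refine ⟨fiso_iter hρi K, m, hm, fun x hx => ?_⟩
    rw [← Function.iterate_mul]
    obtain ⟨c, hc⟩ := hKp
    have h3 : K * m = N₁ * (N₂ * c) := by
      rw [hc]
      calc p ^ e * c * m = (p ^ e * m) * c := by ring
        _ = N₁ * (N₂ * c) := by rw [← hNe]; ring
    rw [h3]
    exact iter_fix_mul (hN₁' x hx) _
  have hρKP : ∀ x ∈ P, ρ^[K] x = x := fun x hx => Function.iterate_fixed (hρP x hx) K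
  have hinf : ∀ x ∈ P ⊔ C, x ∈ T → x ∈ P := by
    intro x hx hxT
    obtain ⟨y, hy, z, hz, rfl⟩ := (mem_sup_of_normalizes (P := C) (Q := P) (fun c hc =>
      centralizer_le_normalizer' P (Subgroup.centralizer_le hPT hc.2))).1 (by rwa [sup_comm] at hx : x ∈ C ⊔ P)
    have hyT : y ∈ T := by
      have := T.mul_mem hxT (T.inv_mem (hPT hz))
      rwa [mul_inv_cancel_right] at this
    exact P.mul_mem (hP.cent hT ⟨hyT, Subgroup.centralizer_le hPT hy.2⟩) hz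
  obtain ⟨r, hr1, hr2, hr3⟩ := extend_trivial hS hF hT (Q := P ⊔ C)
    (hP.mono hT (le_inf le_sup_left hPT) inf_le_right) hr (fun x hx hxT => hρKP x (hinf x hx hxT))
  have hsup : P ⊔ C ⊔ T = T ⊔ C := by
    rw [sup_right_comm, sup_eq_right.2 hPT]
  rw [hsup] at hr1
  -- comparison of iterates
  have hb'iC : ∀ (c : Ω) (_ : c ∈ C) (j : ℕ), b'^[j] c ∈ C := fun c hc j => iter_mem' hb'C hc j
  have hiter : ∀ c ∈ C, ∀ j : ℕ, (b'^[j] c)⁻¹ * ρ^[j] c ∈ P := by
    intro c hc j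
    induction j with
    | zero => simp
    | succ j ih =>
      rw [Function.iterate_succ_apply', Function.iterate_succ_apply']
      have h3 : ρ^[j] c = b'^[j] c * ((b'^[j] c)⁻¹ * ρ^[j] c) := by group
      have h4 := hb'iC c hc j
      rw [h3, hρ.map_mul (Subgroup.mem_sup_right h4) (Subgroup.mem_sup_left ih), hρP _ ih, ← mul_assoc]
      exact P.mul_mem (hρC _ h4) ih
  have hbb' : ∀ (j : ℕ), ∀ x ∈ T ⊔ C, b^[j] (b'^[j] x) = x := by
    intro j
    induction j with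
    | zero => intro x _; rfl
    | succ j ih =>
      intro x hx
      rw [Function.iterate_succ_apply, Function.iterate_succ_apply', b'2 _ (iter_mem hb' hx j)]
      exact ih x hx
  have hbKi := fiso_iter hbi K
  have hbT : ∀ x ∈ T, b x ∈ T := fun x hx => by rw [b1 x hx]; exact autFun_mem _ hx
  have hbK : Lam F T T (autFun (β ^ K)) := by
    refine ⟨fun x => b^[K] (r x), hr1.map.comp hbKi.1 (fun x hx => hr1.mem hx), fun x hx => ?_, fun c hc => ?_⟩
    · show b^[K] (r x) = _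
      rw [hr3 x hx, autFun_pow_apply _ _ hx]
      exact iter_congr b1 hbT hx K
    · show c⁻¹ * b^[K] (r c) ∈ T
      rw [hr2 c (Subgroup.mem_sup_right hc)]
      have h3 := hiter c hc K
      have h4 : ρ^[K] c = b'^[K] c * ((b'^[K] c)⁻¹ * ρ^[K] c) := by group
      rw [h4, hbKi.1.map_mul (Subgroup.mem_sup_right (hb'iC c hc K)) (Subgroup.mem_sup_left (hPT h3)),
        hbb' K c (Subgroup.mem_sup_right hc), inv_mul_cancel_left]
      exact iter_mem' hbT (hPT h3) K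
  -- the p-part
  have hγ : (β ^ (K - 1))⁻¹ ∈ E.autGroup T := Subgroup.inv_mem _ (Subgroup.pow_mem _ hβ _)
  have hβN : β ^ (N₁ * N₂) = 1 := by
    refine eq_one_of_autFun fun x hx => ?_
    rw [autFun_pow_apply _ _ hx, ← iter_congr b1 hbT hx, mul_comm]
    exact iter_fix_mul (hN₂' x (Subgroup.mem_sup_left hx)) _
  have hγo : ∃ j, orderOf (β ^ (K - 1))⁻¹ = p ^ j := by
    have h3 : orderOf (β ^ (K - 1))⁻¹ ∣ p ^ e := by
      rw [orderOf_inv]
      refine orderOf_dvd_of_pow_eq_one ?_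
      obtain ⟨c, hc⟩ := hKm
      rw [← pow_mul, hc]
      have h4 : m * c * p ^ e = (N₁ * N₂) * c := by rw [hNe]; ring
      rw [h4, pow_mul, hβN, one_pow]
    obtain ⟨j, -, hj⟩ := (Nat.dvd_prime_pow Fact.out).1 h3
    exact ⟨j, hj⟩
  obtain ⟨j, hj⟩ := hγo
  have hlγ := lam_pElement hS hF hEs hE hTTC hγ hj
  have hγF := sub_autGroup hE.sub le_rfl hγ
  have hβKF := Subgroup.pow_mem _ hβF K
  refine lam_congr (lam_comp hT hTTC ((fiso_autFun_iff hT.1).2 hγF) ((fiso_autFun_iff hT.1).2 hβKF).1 hlγ hbK)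
    fun x hx => ?_
  rw [← autFun_mul _ _ hx]
  congr 2
  have h3 : β ^ K = β * β ^ (K - 1) := by rw [← pow_succ']; congr 1; omega
  rw [h3, mul_assoc, mul_inv_cancel, mul_one]

/-- the residual automorphisms of `T` have property `Lam` -/
theorem lam_w0 [Finite S] [Fact p.Prime] (hS : IsPGroup p S) (hF : F.IsSaturated p) (hEs : E.IsSaturated p)
    (hE : Inv E F) {β : MulAut T} (hβ : β ∈ W0 E p) : Lam F T T (autFun β) := by
  have hT := hE.closed
  have hTfin : Finite T := finite_of_le hT.1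
  have hTTC : TC F T T := TC.of_centric hT hE (isCentric_top E)
  let A : Subgroup (MulAut T) :=
    { carrier := {α | α ∈ F.autGroup T ∧ Lam F T T (autFun α)}
      one_mem' := ⟨Subgroup.one_mem _, fun x => x, fmap_id F (sup_le hT.1 (centralizerIn_le S T)), fun x hx =>
        (autFun_one hx).symm, fun c _ => by rw [inv_mul_cancel]; exact T.one_mem⟩
      mul_mem' := by
        rintro α β ⟨h1, h2⟩ ⟨h3, h4⟩
        refine ⟨Subgroup.mul_mem _ h1 h3, ?_⟩
        exact lam_congr (lam_comp hT hTTC ((fiso_autFun_iff hT.1).2 h3) ((fiso_autFun_iff hT.1).2 h1).1 h4 h2)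
          fun x hx => (autFun_mul α β hx).symm
      inv_mem' := by
        rintro α ⟨h1, h2⟩
        exact ⟨Subgroup.inv_mem _ h1, lam_inv hT hTTC ((fiso_autFun_iff hT.1).2 h1)
          ((fiso_autFun_iff hT.1).2 (Subgroup.inv_mem _ h1)) (fun x hx => autFun_inv_apply α hx) h2⟩ }
  have h1 : W0 E p ≤ A := by
    rw [W0, Subgroup.closure_le]
    rintro γ ⟨hγ, P, hP, h2⟩
    have hPTC := (centric_iff_tc hE).1 hP
    exact ⟨sub_autGroup hE.sub le_rfl hγ, lam_of_restrict hS hF hEs hE hPTC hγ (lam_gen0 hS hF hEs hE h2 hPTC)⟩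
  exact (h1 hβ).2

/-- The extension condition from property `Lam`. -/
theorem ext_of_lam [Finite S] (hT : F.StronglyClosed T) {D : FusionSystem T} (hD : D.IsSubsystemOf F)
    (h : ∀ a, FIso D T T a → Lam F T T a) : Ext D F := by
  intro a ha
  obtain ⟨k, hk, k1, k2⟩ := h a ha
  have haT : ∀ x ∈ T, k x ∈ T := fun x hx => by rw [k1 x hx]; exact ha.mem hx
  refine ⟨k, hk.fiso_of_card hk.le (map_sup_mem hk (fun x hx => Subgroup.mem_sup_left (haT x hx)) (fun c hc => ?_)) le_rfl,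
    k1, fun c hc => ⟨k2 c hc, ?_⟩⟩
  · have h3 := Subgroup.mul_mem _ (Subgroup.mem_sup_right (S := T) hc)
      (Subgroup.mem_sup_left (T := centralizerIn S T) (k2 c hc))
    rwa [mul_inv_cancel_left] at h3
  · have hi : FIso F T T k := fiso_restrict hk le_sup_left haT
    exact Subgroup.mul_mem _ (Subgroup.inv_mem _ hc.2) (hi.map_centralizer hk le_sup_left (Subgroup.mem_sup_right hc) hc.2)

theorem res_ext [Finite S] [Fact p.Prime] (hS : IsPGroup p S) (hF : F.IsSaturated p) (hEs : E.IsSaturated p)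
    (hE : Inv E F) : Ext (res E p) F := by
  have hT := hE.closed
  refine ext_of_lam hT (sub_trans res_sub hE.sub) fun a ha => ?_
  obtain ⟨α, hα, f₀, h2, h3⟩ := fmap_res.1 ha.1
  have hTfin : Finite T := finite_of_le hT.1
  have hf₀ : FIso (gen0 E p) T T f₀ := fiso_of_fmap_top h2
  have hβ : hf₀.equiv ∈ W0 E p := by
    refine mem_w0 (P := T) (sub_autGroup gen0_sub le_rfl hf₀.equiv_mem_autGroup) (isCentric_top E) ?_
    exact h2.congr fun x hx => by rw [autFun_of_mem _ hx]; rfl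
  refine lam_congr (lam_w0 hS hF hEs hE (Subgroup.mul_mem _ hα hβ)) fun x hx => ?_
  rw [autFun_mul _ _ hx, h3 x hx, autFun_of_mem _ hx]
  rfl

/-- The `p'`-residual subsystem of a weakly normal subsystem is normal. -/
theorem res_isNormalIn [Finite S] [Fact p.Prime] (hS : IsPGroup p S) (hE : E.IsWeaklyNormalIn F p) :
    (res E p).IsNormalIn F p := by
  obtain ⟨hEs, hF, hi⟩ := isWeaklyNormalIn_iff.1 hE
  have hTfin : Finite T := finite_of_le hi.closed.1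
  exact isNormalIn_iff.2 ⟨res_saturated (isPGroup_of_le hS hi.closed.1) hEs, hF, res_inv hS hEs hi,
    res_ext hS hF hEs hi⟩

end Cfsg.Agent.Lib.FusionRes
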