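import Mathlib
import Cfsg.Agent.Lib.FusionTC
import Cfsg.Agent.Lib.FusionRes
import Cfsg.Agent.Lib.FusionNormalSubgroup

/-!
Chain stabilizers, induction over normal subgroups of `Aut_F(P)`, and the extension theorem for the automorphisms of
centric subgroups of a normal subsystem.
-/

set_option autoImplicit false
open Cfsg Cfsg.FusionSystem Cfsg.Agent.Lib.FusionBasic Cfsg.Agent.Lib.FusionSat Cfsg.Agent.Lib.FusionNormal
  Cfsg.Agent.Lib.FusionInvar Cfsg.Agent.Lib.FusionTools Cfsg.Agent.Lib.FusionPP Cfsg.Agent.Lib.FusionStrong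
  Cfsg.Agent.Lib.FusionSys Cfsg.Agent.Lib.FusionFrat Cfsg.Agent.Lib.FusionPrime Cfsg.Agent.Lib.FusionTC
  Cfsg.Agent.Lib.FusionClosed

namespace Cfsg.Agent.Lib.FusionStab

variable {Ω : Type*} [Group Ω] {S T : Subgroup Ω} {F : FusionSystem S} {E : FusionSystem T} {P Q R M X Y Z : Subgroup Ω}
  {a b f g : Ω → Ω} {p : ℕ}

/-- An automorphism of the fully automized `M` stabilizing a chain `M ≥ P₁ ≥ P ≥ 1` of invariant subgroups is induced by
`S`. -/
theorem chain3 [Finite S] [Fact p.Prime] (hS : IsPGroup p S) (hMa : F.IsFullyAutomized p M) {P P₁ : Subgroup Ω}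
    (h01 : P ≤ P₁) (h12 : P₁ ≤ M) (hiP : ∀ f, FIso F M M f → ∀ x ∈ P, f x ∈ P)
    (hiP₁ : ∀ f, FIso F M M f → ∀ x ∈ P₁, f x ∈ P₁) (hf : FIso F M M f) (h0 : ∀ x ∈ P, f x = x)
    (h1 : ∀ x ∈ P₁, x⁻¹ * f x ∈ P) (h2 : ∀ x ∈ M, x⁻¹ * f x ∈ P₁) :
    ∃ s ∈ normalizerIn S M, ∀ x ∈ M, f x = s * x * s⁻¹ := by
  have hMS := hMa.1
  let L : Fin 3 → Subgroup Ω := ![P, P₁, M]
  let K : Fin 3 → Subgroup Ω := ![⊥, P, P₁]
  have hiL : ∀ j, ∀ α ∈ F.autGroup M, ∀ x : M, (x : Ω) ∈ L j → ((α x : M) : Ω) ∈ L j := by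
    intro j α hα x hx
    have hi := (fiso_autFun_iff hMS).2 hα
    rw [← autFun_coe]
    fin_cases j
    · exact hiP _ hi _ hx
    · exact hiP₁ _ hi _ hx
    · exact hi.mem hx
  have hiK : ∀ j, ∀ α ∈ F.autGroup M, ∀ x : M, (x : Ω) ∈ K j → ((α x : M) : Ω) ∈ K j := by
    intro j α hα x hx
    have hi := (fiso_autFun_iff hMS).2 hα
    rw [← autFun_coe]
    fin_cases j
    · have hx1 : (x : Ω) = 1 := hx
      show autFun α (x : Ω) ∈ (⊥ : Subgroup Ω)
      rw [hx1, hi.1.map_one]; exact Subgroup.one_mem _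
    · exact hiP _ hi _ hx
    · exact hiP₁ _ hi _ hx
  have hle : famStab F M L K hiL ≤ autInducedBy S M := by
    refine le_autInducedBy_of_pp hMa (fun α hα => hα.1) ?_ ?_
    · rintro γ hγ α ⟨h1, h2⟩
      have hγ' := Subgroup.inv_mem _ hγ
      refine ⟨Subgroup.mul_mem _ (Subgroup.mul_mem _ hγ h1) hγ', fun j x hx => ?_⟩
      have h3 := h2 j (γ⁻¹ x) (hiL j _ hγ' x hx)
      have h4 : (((γ⁻¹ x)⁻¹ * α (γ⁻¹ x) : M) : Ω) ∈ K j := h3
      have h5 := hiK j γ hγ _ h4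
      have h6 : γ ((γ⁻¹ x)⁻¹ * α (γ⁻¹ x)) = x⁻¹ * (γ * α * γ⁻¹) x := by
        rw [map_mul, map_inv, MulAut.apply_inv_self]; rfl
      rw [h6] at h5
      exact h5
    · rintro κ ⟨-, hk⟩ hpp
      have k0 : ∀ x ∈ P, autFun κ x = x := by
        intro x hx
        have h4 := hk 0 ⟨x, h12 (h01 hx)⟩ hx
        rw [← autFun_coe] at h4
        have h5 : x⁻¹ * autFun κ x = 1 := h4
        exact (inv_mul_eq_one.1 h5).symm
      have k1 : ∀ x ∈ P₁, autFun κ x = x := by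
        intro x hx
        have h4 := hk 1 ⟨x, h12 hx⟩ hx
        rw [← autFun_coe] at h4
        exact hpp.fix hS (h01.trans h12) (h12 hx) h4 k0
      refine eq_one_of_autFun fun x hx => ?_
      have h4 := hk 2 ⟨x, hx⟩ hx
      rw [← autFun_coe] at h4
      exact hpp.fix hS h12 hx h4 k1
  have hcoe : ∀ x : M, (((hf.equiv : MulAut M) x : M) : Ω) = f x := fun x => rfl
  have hmem : (hf.equiv : MulAut M) ∈ famStab F M L K hiL := by
    refine ⟨hf.equiv_mem_autGroup, fun j x hx => ?_⟩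
    rw [hcoe]
    fin_cases j
    · show (x : Ω)⁻¹ * f x ∈ (⊥ : Subgroup Ω)
      rw [h0 x hx, inv_mul_cancel]; exact Subgroup.one_mem _
    · exact h1 x hx
    · exact h2 x hx
  obtain ⟨s, hs, h3⟩ := mem_autInducedBy_iff.1 (hle hmem)
  exact ⟨s, ⟨hs, mem_normalizer_of_aut h3⟩, fun x hx => h3 ⟨x, hx⟩⟩

/-- A normal subgroup of `Aut_F(P)` is generated by its `p'`-elements and its intersection with `Aut_S(P)`. -/
theorem normal_induction [Finite S] [Fact p.Prime] (hP : F.IsFullyAutomized p P) {N H : Subgroup (MulAut P)}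
    (hN : N ≤ F.autGroup P) (hn : ∀ α ∈ F.autGroup P, ∀ κ ∈ N, α * κ * α⁻¹ ∈ N) (h1 : N ⊓ autInducedBy S P ≤ H)
    (h2 : ∀ κ ∈ N, PP F p P (autFun κ) → κ ∈ H) : N ≤ H := by
  obtain ⟨hPS, R, hR⟩ := hP
  have hfin := finite_of_le hPS
  have hnorm : (N.subgroupOf (F.autGroup P)).Normal := ⟨fun n hn' g => by
    rw [Subgroup.mem_subgroupOf] at hn' ⊢
    exact hn g g.2 n hn'⟩
  obtain ⟨R₁, hR₁⟩ := Cfsg.Agent.Lib.FusionNormalSubgroup.exists_sylow_inf R (N.subgroupOf (F.autGroup P))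
  have h3 := Cfsg.Agent.Lib.PNilp.sylow_sup_pResidual R₁
  have h4 : (⊤ : Subgroup (N.subgroupOf (F.autGroup P))) ≤
      (H.subgroupOf (F.autGroup P)).subgroupOf (N.subgroupOf (F.autGroup P)) := by
    rw [← h3]
    refine sup_le ?_ ?_
    · rw [hR₁]
      rintro x ⟨hx1, hx2⟩
      rw [hR] at hx1
      exact h1 ⟨hx2, hx1⟩
    · unfold pResidual
      rw [Subgroup.closure_le]
      intro x hx
      have hx' : Nat.Coprime (orderOf x) p := hx
      refine h2 x x.2 (pp_of_aut hPS x.1.2 ?_)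
      rw [Subgroup.orderOf_coe, Subgroup.orderOf_coe]
      exact hx'
  intro α hα
  exact h4 (Subgroup.mem_top (⟨⟨α, hN hα⟩, hα⟩ : N.subgroupOf (F.autGroup P)))

/-- An element of finite order lies in a subgroup containing its `p`- and `p'`-parts. -/
theorem mem_of_parts {G : Type*} [Group G] [Fact p.Prime] {α : G} (hfin : IsOfFinOrder α) (H : Subgroup G)
    (h1 : ∀ n : ℕ, (∃ k, orderOf (α ^ n) = p ^ k) → α ^ n ∈ H)
    (h2 : ∀ n : ℕ, (orderOf (α ^ n)).Coprime p → α ^ n ∈ H) : α ∈ H := by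
  have hpos : orderOf α ≠ 0 := (orderOf_pos_iff.2 hfin).ne'
  obtain ⟨k, m, hm, hkm⟩ := Nat.exists_eq_pow_mul_and_not_dvd hpos p (Fact.out : p.Prime).ne_one
  have hmpos : m ≠ 0 := by rintro rfl; exact hpos (by rw [hkm, mul_zero])
  have hppos : p ^ k ≠ 0 := pow_ne_zero _ (Fact.out : p.Prime).ne_zero
  have hco : Nat.Coprime (p ^ k) m := Nat.Coprime.pow_left k ((Nat.Prime.coprime_iff_not_dvd Fact.out).2 hm)
  have h3 : α ^ m ∈ H := h1 m ⟨k, by
    rw [orderOf_pow_of_dvd hmpos (by rw [hkm]; exact dvd_mul_left _ _), hkm, Nat.mul_div_cancel _ (Nat.pos_of_ne_zero hmpos)]⟩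
  have h4 : α ^ (p ^ k) ∈ H := h2 (p ^ k) (by
    rw [orderOf_pow_of_dvd hppos (by rw [hkm]; exact dvd_mul_right _ _), hkm,
      Nat.mul_div_cancel_left _ (Nat.pos_of_ne_zero hppos)]
    exact ((Nat.Prime.coprime_iff_not_dvd Fact.out).2 hm).symm)
  have h5 : α = (α ^ (p ^ k)) ^ (Nat.gcdA (p ^ k) m) * (α ^ m) ^ (Nat.gcdB (p ^ k) m) := by
    have h6 := Nat.gcd_eq_gcd_ab (p ^ k) m
    rw [hco] at h6
    rw [← zpow_natCast α (p ^ k), ← zpow_natCast α m, ← zpow_mul, ← zpow_mul, ← zpow_add, ← h6]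
    simp
  rw [h5]
  exact H.mul_mem (H.zpow_mem h4 _) (H.zpow_mem h3 _)

/-- A `p`-element of `Aut_F(P)` normalizing `Aut_S(P)` lies in it, for fully automized `P`. -/
theorem mem_autInducedBy_of_normalizes [Finite S] [Fact p.Prime] (hS : IsPGroup p S) (hP : F.IsFullyAutomized p P)
    {α : MulAut P} (hα : α ∈ F.autGroup P) (ho : ∃ k, orderOf α = p ^ k)
    (hn : ∀ κ ∈ autInducedBy S P, α * κ * α⁻¹ ∈ autInducedBy S P) : α ∈ autInducedBy S P := by
  obtain ⟨hPS, R, hR⟩ := hP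
  have hfin := finite_of_le hPS
  have hcount : Finite (MulAut P) := inferInstance
  let a : F.autGroup P := ⟨α, hα⟩
  have hK : IsPGroup p (Subgroup.zpowers a) := by
    obtain ⟨k, hk⟩ := ho
    refine IsPGroup.of_card (n := k) ?_
    rw [Nat.card_zpowers, ← hk]
    exact (Subgroup.orderOf_coe a).symm
  have hle : Subgroup.zpowers a ≤ Subgroup.normalizer ((R : Subgroup (F.autGroup P)) : Set (F.autGroup P)) := by
    have hα1 : ∀ κ ∈ (R : Subgroup (F.autGroup P)), a * κ * a⁻¹ ∈ (R : Subgroup (F.autGroup P)) := by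
      intro κ hκ
      rw [hR] at hκ ⊢
      exact hn κ hκ
    rw [Subgroup.zpowers_le]
    refine Subgroup.mem_normalizer_iff.2 fun κ => ⟨hα1 κ, fun h => ?_⟩
    -- finiteness
    have hfinA : Finite (F.autGroup P) := inferInstance
    have hmap : (R : Subgroup (F.autGroup P)).map (MulAut.conj a).toMonoidHom = R := by
      refine Subgroup.eq_of_le_of_card_ge ?_ ?_
      · rintro _ ⟨x, hx, rfl⟩
        exact hα1 x hx
      · rw [Subgroup.card_map_of_injective (MulAut.conj a).injective]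
    have h' : a * κ * a⁻¹ ∈ (R : Subgroup (F.autGroup P)).map (MulAut.conj a).toMonoidHom := by rw [hmap]; exact h
    obtain ⟨x, hx, hxe⟩ := h'
    have hxe' : a * x * a⁻¹ = a * κ * a⁻¹ := hxe
    have : x = κ := by
      have h7 := congrArg (fun z => a⁻¹ * z * a) hxe'
      simpa [mul_assoc] using h7
    rw [← this]; exact hx
  have hsup : IsPGroup p ↥((R : Subgroup (F.autGroup P)) ⊔ Subgroup.zpowers a) :=
    IsPGroup.to_sup_of_normal_left' R.isPGroup' hK hle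
  have h5 := R.3 hsup le_sup_left
  have h6 : a ∈ (R : Subgroup (F.autGroup P)) := by
    rw [← h5]; exact Subgroup.mem_sup_right (Subgroup.mem_zpowers a)
  rw [hR] at h6
  exact h6

theorem autFun_pow_apply' (β : MulAut P) (k : ℕ) {x : Ω} (hx : x ∈ P) : autFun (β ^ k) x = (autFun β)^[k] x :=
  Cfsg.Agent.Lib.FusionRes.autFun_pow_apply β k hx

/-! ### The extension theorem -/

/-- `f` extends to `P C_S(P)`, moving the elements of `C_S(P)` by elements of `P`. -/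
def ExtZ (F : FusionSystem S) (P : Subgroup Ω) (f : Ω → Ω) : Prop :=
  ∃ g, FMap F (P ⊔ centralizerIn S P) g ∧ (∀ x ∈ P, g x = f x) ∧ ∀ c ∈ centralizerIn S P, c⁻¹ * g c ∈ P

theorem extZ_congr (h : ExtZ F P f) (hfg : ∀ x ∈ P, f x = g x) : ExtZ F P g := by
  obtain ⟨k, h1, h2, h3⟩ := h
  exact ⟨k, h1, fun x hx => by rw [h2 x hx, hfg x hx], h3⟩

/-- the extension is an automorphism of `P C_S(P)` -/
theorem extZ_fiso [Finite S] (hf : ∀ x ∈ P, f x ∈ P) (hk : FMap F (P ⊔ centralizerIn S P) g)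
    (h1 : ∀ x ∈ P, g x = f x) (h2 : ∀ c ∈ centralizerIn S P, c⁻¹ * g c ∈ P) :
    FIso F (P ⊔ centralizerIn S P) (P ⊔ centralizerIn S P) g := by
  refine hk.fiso_of_card hk.le (map_sup_mem hk (fun x hx => Subgroup.mem_sup_left (by rw [h1 x hx]; exact hf x hx))
    (fun c hc => ?_)) le_rfl
  have h3 : c * (c⁻¹ * g c) ∈ P ⊔ centralizerIn S P :=
    Subgroup.mul_mem _ (Subgroup.mem_sup_right hc) (Subgroup.mem_sup_left (h2 c hc))
  rwa [mul_inv_cancel_left] at h3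

theorem extZ_comp (hf : ∀ x ∈ P, f x ∈ P) (hg : ∀ x ∈ P, g x ∈ P) (h : ExtZ F P f) (h' : ExtZ F P g) :
    ExtZ F P (fun x => g (f x)) := by
  obtain ⟨k, h1, h2, h3⟩ := h
  obtain ⟨k', h1', h2', h3'⟩ := h'
  have hm : ∀ x ∈ P ⊔ centralizerIn S P, k x ∈ P ⊔ centralizerIn S P :=
    map_sup_mem h1 (fun x hx => Subgroup.mem_sup_left (by rw [h2 x hx]; exact hf x hx)) (fun c hc => by
      have h4 : c * (c⁻¹ * k c) ∈ P ⊔ centralizerIn S P :=
        Subgroup.mul_mem _ (Subgroup.mem_sup_right hc) (Subgroup.mem_sup_left (h3 c hc))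
      rwa [mul_inv_cancel_left] at h4)
  refine ⟨fun x => k' (k x), h1.comp h1' hm, fun x hx => ?_, fun c hc => ?_⟩
  · show k' (k x) = g (f x)
    rw [h2 x hx, h2' _ (hf x hx)]
  · have h4 : k' (c⁻¹ * k c) ∈ P := by rw [h2' _ (h3 c hc)]; exact hg _ (h3 c hc)
    have hcm : c ∈ P ⊔ centralizerIn S P := Subgroup.mem_sup_right hc
    rw [h1'.map_mul (Subgroup.inv_mem _ hcm) (hm c hcm), h1'.map_inv hcm] at h4
    have h5 := P.mul_mem (h3' c hc) h4
    have h6 : c⁻¹ * k' c * ((k' c)⁻¹ * k' (k c)) = c⁻¹ * k' (k c) := by group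
    rw [h6] at h5
    exact h5

theorem extZ_inv [Finite S] (hf : FIso F P P f) (hg : FIso F P P g) (hgf : ∀ x ∈ P, g (f x) = x) (h : ExtZ F P f) :
    ExtZ F P g := by
  obtain ⟨k, h1, h2, h3⟩ := h
  have hi := extZ_fiso (fun x hx => hf.mem hx) h1 h2 h3
  obtain ⟨k', hk', h4, h5⟩ := hi.symm
  have h6 : ∀ x ∈ P, k' x = g x := by
    intro x hx
    obtain ⟨y, hy, rfl⟩ := hf.mem_iff.1 hx
    rw [hgf y hy, ← h2 y hy, h4 y (Subgroup.mem_sup_left hy)]
  refine ⟨k', hk'.1, h6, fun c hc => ?_⟩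
  have hcm : c ∈ P ⊔ centralizerIn S P := Subgroup.mem_sup_right hc
  have h7 : k' (c⁻¹ * k c) ∈ P := by rw [h6 _ (h3 c hc)]; exact hg.mem (h3 c hc)
  rw [hk'.1.map_mul (Subgroup.inv_mem _ hcm) (hi.mem hcm), hk'.1.map_inv hcm, h4 c hcm] at h7
  have h8 := P.inv_mem h7
  rwa [mul_inv_rev, inv_inv] at h8

/-- Pulling back along an isomorphism defined on `P C_S(P)`. -/
theorem extZ_pull (hPQ : FIso F P Q f) (hf : FMap F (P ⊔ centralizerIn S P) f) (hb : ExtZ F Q b)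
    (hbQ : ∀ y ∈ Q, b y ∈ Q) (ha : ∀ x ∈ P, a x ∈ P ∧ f (a x) = b (f x)) : ExtZ F P a := by
  obtain ⟨k, h1, h2, h3⟩ := hb
  obtain ⟨M', hM'⟩ := hf.exists_iso
  obtain ⟨f', hf', h4, h5⟩ := hM'.symm
  have hQM : Q ≤ M' := fun y hy => by
    obtain ⟨x, hx, rfl⟩ := hPQ.mem_iff.1 hy
    exact hM'.mem (Subgroup.mem_sup_left hx)
  have hcen : ∀ c ∈ centralizerIn S P, f c ∈ centralizerIn S Q := fun c hc =>
    ⟨hf.map_mem (Subgroup.mem_sup_right hc), hPQ.map_centralizer hf le_sup_left (Subgroup.mem_sup_right hc) hc.2⟩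
  have hle : M' ≤ Q ⊔ centralizerIn S Q := fun y hy => by
    obtain ⟨x, hx, rfl⟩ := hM'.mem_iff.1 hy
    exact map_sup_mem hf (fun x hx => Subgroup.mem_sup_left (hPQ.mem hx)) (fun c hc => Subgroup.mem_sup_right (hcen c hc))
      x hx
  have hkc : ∀ c ∈ centralizerIn S P, (f c)⁻¹ * k (f c) ∈ Q := fun c hc => h3 _ (hcen c hc)
  have hkM : ∀ x ∈ P ⊔ centralizerIn S P, k (f x) ∈ M' := by
    have hcomp : FMap F (P ⊔ centralizerIn S P) (fun x => k (f x)) :=
      hf.comp h1 (fun x hx => hle (hM'.mem hx))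
    refine map_sup_mem hcomp (fun x hx => ?_) (fun c hc => ?_)
    · rw [h2 _ (hPQ.mem hx)]; exact hQM (hbQ _ (hPQ.mem hx))
    · have h6 := M'.mul_mem (hM'.mem (Subgroup.mem_sup_right hc)) (hQM (hkc c hc))
      rwa [mul_inv_cancel_left] at h6
  refine ⟨fun x => f' (k (f x)), (hf.comp h1 (fun x hx => hle (hM'.mem hx))).comp hf'.1 hkM, fun x hx => ?_,
    fun c hc => ?_⟩
  · show f' (k (f x)) = a x
    rw [h2 _ (hPQ.mem hx), ← (ha x hx).2, h4 _ (Subgroup.mem_sup_left (ha x hx).1)]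
  · have hcm : c ∈ P ⊔ centralizerIn S P := Subgroup.mem_sup_right hc
    obtain ⟨z, hz, hze⟩ := hPQ.mem_iff.1 (hkc c hc)
    have h6 : k (f c) = f (c * z) := by
      rw [hf.map_mul hcm (Subgroup.mem_sup_left hz), hze, mul_inv_cancel_left]
    show c⁻¹ * f' (k (f c)) ∈ P
    rw [h6, h4 _ (Subgroup.mul_mem _ hcm (Subgroup.mem_sup_left hz)), inv_mul_cancel_left]
    exact hz

/-- conjugations by elements of `N_T(P)` -/
theorem extZ_conj (hT : F.StronglyClosed T) (hTC : TC F T P) {t : Ω} (ht : t ∈ normalizerIn T P) :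
    ExtZ F P (fun x => t * x * t⁻¹) := by
  have hPS := hTC.1.trans hT.1
  refine ⟨fun x => t * x * t⁻¹, fmap_conj F (sup_le hPS (centralizerIn_le S P)) (hT.1 ht.1), fun _ _ => rfl,
    fun c hc => ?_⟩
  refine hTC.cent hT ⟨?_, ?_⟩
  · have h1 := (Subgroup.mem_normalizer_iff.1 (Subgroup.inv_mem _ (normalizes_of_stronglyClosed hT hc.1)) t).1 ht.1
    rw [inv_inv] at h1
    have h2 : c⁻¹ * (t * c * t⁻¹) = (c⁻¹ * t * c) * t⁻¹ := by group
    show c⁻¹ * (t * c * t⁻¹) ∈ T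
    rw [h2]
    exact T.mul_mem h1 (T.inv_mem ht.1)
  · refine Subgroup.mul_mem _ (Subgroup.inv_mem _ hc.2) (mem_centralizer_iff'.2 fun x hx => ?_)
    have h1 := (Subgroup.mem_normalizer_iff.1 (Subgroup.inv_mem _ ht.2) x).1 hx
    rw [inv_inv] at h1
    have h2 := mem_centralizer_iff'.1 hc.2 _ h1
    calc t * c * t⁻¹ * x * (t * c * t⁻¹)⁻¹ = t * (c * (t⁻¹ * x * t) * c⁻¹) * t⁻¹ := by group
      _ = x := by rw [h2]; group

/-- `M` is fully normalized if it is normalized by `S`. -/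
theorem fullyNormalized_of_normalizes [Finite S] (hM : M ≤ S) (h : S ≤ Subgroup.normalizer (M : Set Ω)) :
    F.IsFullyNormalized M := by
  refine ⟨hM, fun Q _ => ?_⟩
  have h1 : normalizerIn S M = S := inf_eq_left.2 h
  rw [h1]
  exact Nat.card_le_card_of_injective _ (Subgroup.inclusion_injective (normalizerIn_le S Q))

/-- The key step of the extension theorem: `p'`-automorphisms of `N_T(P)` in a normal subsystem. -/
theorem ext_step [Finite S] [Fact p.Prime] (hS : IsPGroup p S) (hF : F.IsSaturated p) (hEs : E.IsSaturated p)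
    (hE : Inv E F) (hTC : TC F T P) (hP : F.IsFullyNormalized P) (hγ : PP E p (normalizerIn T P) f)
    (hγP : ∀ x ∈ P, f x ∈ P) (hext : ExtZ F (normalizerIn T P) f) : ExtZ F P f := by
  have hT := hE.closed
  have hPT := hTC.1
  have hPS := hPT.trans hT.1
  have hTp := isPGroup_of_le hS hT.1
  have hTfin : Finite T := finite_of_le hT.1
  obtain ⟨P₁, hP₁e⟩ : ∃ P₁, P₁ = normalizerIn T P := ⟨_, rfl⟩
  rw [← hP₁e] at hγ hext
  have hP₁T : P₁ ≤ T := hP₁e ▸ normalizerIn_le T P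
  have hPP₁ : P ≤ P₁ := hP₁e ▸ le_normalizerIn hPT
  have hP₁S := hP₁T.trans hT.1
  have hTC₁ : TC F T P₁ := hTC.mono hT hPP₁ hP₁T
  have hTn := normalizes_of_stronglyClosed hT
  let NS := normalizerIn S P
  let V := centralizerIn S P
  let C₁ := centralizerIn S P₁
  have hVNS : V ≤ NS := centralizerIn_le_normalizerIn S P
  have hC₁V : C₁ ≤ V := inf_le_inf_left _ (Subgroup.centralizer_le hPP₁)
  have hP₁NS : P₁ ≤ NS := by rw [hP₁e]; exact inf_le_inf_right _ hT.1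
  -- normality in N_S(P)
  have hnP₁ : ∀ n ∈ NS, ∀ x ∈ P₁, n * x * n⁻¹ ∈ P₁ := by
    intro n hn x hx
    rw [hP₁e] at hx ⊢
    exact ⟨(Subgroup.mem_normalizer_iff.1 (hTn hn.1) x).1 hx.1, Subgroup.mul_mem _ (Subgroup.mul_mem _ hn.2 hx.2)
      (Subgroup.inv_mem _ hn.2)⟩
  have hnC : ∀ {Q : Subgroup Ω}, (∀ n ∈ NS, ∀ x ∈ Q, n * x * n⁻¹ ∈ Q) → ∀ n ∈ NS, ∀ c ∈ centralizerIn S Q,
      n * c * n⁻¹ ∈ centralizerIn S Q := by
    intro Q hQ n hn c hc
    refine ⟨S.mul_mem (S.mul_mem hn.1 hc.1) (S.inv_mem hn.1), mem_centralizer_iff'.2 fun x hx => ?_⟩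
    have h1 := hQ _ (NS.inv_mem hn) x hx
    rw [inv_inv] at h1
    have h2 := mem_centralizer_iff'.1 hc.2 _ h1
    calc n * c * n⁻¹ * x * (n * c * n⁻¹)⁻¹ = n * (c * (n⁻¹ * x * n) * c⁻¹) * n⁻¹ := by group
      _ = x := by rw [h2]; group
  have hnC₁ : ∀ n ∈ NS, ∀ c ∈ C₁, n * c * n⁻¹ ∈ C₁ := hnC hnP₁
  have hnP : ∀ n ∈ NS, ∀ x ∈ P, n * x * n⁻¹ ∈ P := fun n hn x hx => (Subgroup.mem_normalizer_iff.1 hn.2 x).1 hx
  have hnV : ∀ n ∈ NS, ∀ c ∈ V, n * c * n⁻¹ ∈ V := hnC hnP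
  let M := P₁ ⊔ C₁
  have hMNS : M ≤ NS := sup_le hP₁NS (hC₁V.trans hVNS)
  have hnM : ∀ n ∈ NS, ∀ x ∈ M, n * x * n⁻¹ ∈ M := by
    intro n hn x hx
    have h1 : M ≤ M.comap (MulAut.conj n).toMonoidHom := sup_le
      (fun y hy => Subgroup.mem_sup_left (hnP₁ n hn y hy)) (fun y hy => Subgroup.mem_sup_right (hnC₁ n hn y hy))
    exact h1 hx
  have hVT : ∀ v ∈ V, v ∈ T → v ∈ P := fun v hv hvT => hTC.cent hT ⟨hvT, hv.2⟩
  -- the extension to M
  obtain ⟨k, hk1, hk2, hk3⟩ := hext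
  have hki := extZ_fiso (fun x hx => hγ.mem hx) hk1 hk2 hk3
  obtain ⟨-, n, hn, hfix⟩ := id hγ
  obtain ⟨m, hm, hm'⟩ := exists_pp_power hki (X := P₁) hn (fun x hx => by
    rw [iter_congr hk2 (fun y hy => by rw [hk2 y hy]; exact hγ.mem hy) hx]; exact hfix x hx)
  obtain ⟨g, hge⟩ : ∃ g, g = k^[m] := ⟨_, rfl⟩
  rw [← hge] at hm hm'
  have hgP₁ : ∀ x ∈ P₁, g x = f x := fun x hx => by rw [hm' x hx, hk2 x hx]
  have hgC₁ : ∀ c ∈ C₁, c⁻¹ * g c ∈ P₁ := by
    intro c hc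
    have hkP₁ : ∀ x ∈ P₁, k x ∈ P₁ := fun x hx => by rw [hk2 x hx]; exact hγ.mem hx
    have h1 : ∀ j : ℕ, c⁻¹ * k^[j] c ∈ P₁ := by
      intro j
      induction j with
      | zero => simp
      | succ j ih =>
        rw [Function.iterate_succ_apply']
        have hcm : c ∈ P₁ ⊔ centralizerIn S P₁ := Subgroup.mem_sup_right hc
        have hjm : k^[j] c ∈ P₁ ⊔ centralizerIn S P₁ := iter_mem hki hcm j
        have h2 := hkP₁ _ ih
        rw [hk1.map_mul (Subgroup.inv_mem _ hcm) hjm, hk1.map_inv hcm] at h2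
        have h3 := P₁.mul_mem (hk3 c hc) h2
        have h4 : c⁻¹ * k c * ((k c)⁻¹ * k (k^[j] c)) = c⁻¹ * k (k^[j] c) := by group
        rwa [h4] at h3
    rw [hge]; exact h1 m
  have hgM : PP F p M g := hm
  have hgP : ∀ x ∈ P, g x ∈ P := fun x hx => by rw [hgP₁ x (hPP₁ hx)]; exact hγP x hx
  have hPM : P ≤ M := hPP₁.trans le_sup_left
  have hP₁M : P₁ ≤ M := le_sup_left
  -- the normalizer system
  let N := normSys F P hPS
  have hNsat : N.IsSaturated p := normSys_saturated hS hF hP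
  have hNSp : IsPGroup p NS := isPGroup_of_le hS (normalizerIn_le S P)
  have hNSfin : Finite NS := finite_of_le (normalizerIn_le S P)
  have hNmap : ∀ {f : Ω → Ω}, FIso F M M f → (∀ x ∈ P, f x ∈ P) → FIso N M M f := by
    intro f hf hfP
    refine ⟨fmap_normSys.2 ⟨hMNS, fun x hx => hMNS (hf.mem hx), f, ?_, fun _ _ => rfl, ?_⟩, hf.2⟩
    · rw [sup_eq_left.2 hPM]; exact hf.1
    · exact fiso_restrict hf.1 hPM hfP
  have hNinvP : ∀ f, FIso N M M f → ∀ x ∈ P, f x ∈ P := by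
    intro f hf x hx
    obtain ⟨-, -, g', hg', h1, h2⟩ := fmap_normSys.1 hf.1
    rw [← h1 x (hPM hx)]
    exact h2.mem hx
  have hNT : ∀ f, FIso N M M f → ∀ x ∈ P₁, f x ∈ P₁ := by
    intro f hf x hx
    have h1 := sub_fmap (normSys_sub (F := F) (hX := hPS)) hf.1
    have h2 : f x ∈ T := StronglyClosed.map_mem F hT h1 (hP₁M hx) (hP₁T hx)
    have h3 : f x ∈ NS := hMNS (hf.mem (hP₁M hx))
    rw [hP₁e]
    exact ⟨h2, h3.2⟩
  have hgN : PP N p M g := ⟨hNmap hgM.1 hgP, hgM.2⟩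
  have hNSM : NS ≤ Subgroup.normalizer (M : Set Ω) := fun n hn => Subgroup.mem_normalizer_iff.2 fun x =>
    ⟨fun hx => hnM n hn x hx, fun hx => by
      have := hnM _ (NS.inv_mem hn) _ hx
      rwa [inv_inv, show n⁻¹ * (n * x * n⁻¹) * n = x by group] at this⟩
  have hMfn : N.IsFullyNormalized M := fullyNormalized_of_normalizes hMNS hNSM
  have hMar := automized_receptive_of_fullyNormalized hNSp hNsat hMfn
  obtain ⟨g', hg', hgg', hg'g⟩ := hgN.1.symm
  have hg'F := sub_fiso (normSys_sub (F := F) (hX := hPS)) hg'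
  have hg'P : ∀ x ∈ P, g' x ∈ P := hNinvP g' hg'
  have hg'P₁ : ∀ x ∈ P₁, g' x ∈ P₁ := hNT g' hg'
  have hg'C₁ : ∀ c ∈ C₁, c⁻¹ * g' c ∈ P₁ := by
    intro c hc
    have hcm : c ∈ M := Subgroup.mem_sup_right hc
    have h7 := hg'P₁ _ (hgC₁ c hc)
    rw [hg'.1.map_mul (Subgroup.inv_mem _ hcm) (hgN.mem hcm), hg'.1.map_inv hcm, hgg' c hcm] at h7
    have h8 := P₁.inv_mem h7
    rwa [mul_inv_rev, inv_inv] at h8
  -- V acts
  have hact : ∀ v ∈ V, ∃ w ∈ V, ∀ x ∈ M, g (v * x * v⁻¹) = w * g x * w⁻¹ := by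
    intro v hv
    have hvN := hVNS hv
    have hv' := NS.inv_mem hvN
    have hvM : ∀ x ∈ M, v⁻¹ * x * v ∈ M := fun x hx => by have := hnM _ hv' x hx; rwa [inv_inv] at this
    -- κ = g c_v g⁻¹ c_v⁻¹
    have hc1 : FIso N M M (fun x => v⁻¹ * x * v⁻¹⁻¹) :=
      fiso_conj_of_normalizer N hMNS hv' (hNSM hv')
    have hc2 : FIso N M M (fun x => v * x * v⁻¹) := fiso_conj_of_normalizer N hMNS hvN (hNSM hvN)
    have hκ : FIso N M M (fun x => g (v * g' (v⁻¹ * x * v⁻¹⁻¹) * v⁻¹)) :=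
      ((hc1.trans hg').trans hc2).trans hgN.1
    have hvx : ∀ x ∈ P, v⁻¹ * x * v⁻¹⁻¹ = x := fun x hx => mem_centralizer_iff'.1 (Subgroup.inv_mem _ hv.2) x hx
    have hvx' : ∀ x ∈ P, v * x * v⁻¹ = x := fun x hx => mem_centralizer_iff'.1 hv.2 x hx
    have hcomm : ∀ x ∈ P₁, ∀ v ∈ V, x⁻¹ * (v * x * v⁻¹) ∈ P := by
      intro x hx v hv
      refine hVT _ ?_ (T.mul_mem (T.inv_mem (hP₁T hx)) (hP₁T (hnP₁ v (hVNS hv) x hx)))
      have h1 := hnV _ (NS.inv_mem (hP₁NS hx)) v hv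
      rw [inv_inv] at h1
      have h2 : x⁻¹ * (v * x * v⁻¹) = (x⁻¹ * v * x) * v⁻¹ := by group
      rw [h2]
      exact V.mul_mem h1 (V.inv_mem hv)
    obtain ⟨s, hs, hs'⟩ := chain3 (F := N) hNSp hMar.1 hPP₁ hP₁M hNinvP hNT hκ (fun x hx => by
      show g (v * g' (v⁻¹ * x * v⁻¹⁻¹) * v⁻¹) = x
      rw [hvx x hx, hvx' _ (hg'P x hx), hg'g x (hPM hx)]) (fun x hx => by
      show x⁻¹ * g (v * g' (v⁻¹ * x * v⁻¹⁻¹) * v⁻¹) ∈ P
      obtain ⟨z, hz⟩ : ∃ z, z = x⁻¹ * (v⁻¹ * x * v⁻¹⁻¹) := ⟨_, rfl⟩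
      have hzP : z ∈ P := hz ▸ hcomm x hx _ (V.inv_mem hv)
      have hxz : v⁻¹ * x * v⁻¹⁻¹ = x * z := by rw [hz]; group
      have hxM := hP₁M hx
      have hg'x : g' x ∈ P₁ := hg'P₁ x hx
      obtain ⟨w, hw⟩ : ∃ w, w = (g' x)⁻¹ * (v * g' x * v⁻¹) := ⟨_, rfl⟩
      have hwP : w ∈ P := hw ▸ hcomm _ hg'x _ hv
      have h1 : v * g' (x * z) * v⁻¹ = g' x * (w * g' z) := by
        rw [hg'.1.map_mul hxM (hPM hzP)]
        have h2 := hvx' _ (hg'P z hzP)
        calc v * (g' x * g' z) * v⁻¹ = (v * g' x * v⁻¹) * (v * g' z * v⁻¹) := by group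
          _ = g' x * (w * g' z) := by rw [h2, hw]; group
      have h3 : w * g' z ∈ P := P.mul_mem hwP (hg'P z hzP)
      rw [hxz, h1, hgN.map.map_mul (hg'.mem hxM) (hPM h3), hg'g x hxM, inv_mul_cancel_left]
      exact hgP _ h3) (fun x hx => by
      show x⁻¹ * g (v * g' (v⁻¹ * x * v⁻¹⁻¹) * v⁻¹) ∈ P₁
      let K : Subgroup Ω :=
        { carrier := {x | x ∈ M ∧ x⁻¹ * g (v * g' (v⁻¹ * x * v⁻¹⁻¹) * v⁻¹) ∈ P₁}
          one_mem' := ⟨M.one_mem, by
            have := hκ.1.map_one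
            show (1 : Ω)⁻¹ * g (v * g' (v⁻¹ * 1 * v⁻¹⁻¹) * v⁻¹) ∈ P₁
            rw [this]; simp⟩
          mul_mem' := by
            rintro x y ⟨hx, hx'⟩ ⟨hy, hy'⟩
            refine ⟨M.mul_mem hx hy, ?_⟩
            have h1 := hκ.1.map_mul hx hy
            have h1' : g (v * g' (v⁻¹ * (x * y) * v⁻¹⁻¹) * v⁻¹) = g (v * g' (v⁻¹ * x * v⁻¹⁻¹) * v⁻¹) *
              g (v * g' (v⁻¹ * y * v⁻¹⁻¹) * v⁻¹) := h1
            rw [h1']
            have h2 := hnP₁ _ (NS.inv_mem (hMNS hy)) _ hx'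
            have h3 := P₁.mul_mem h2 hy'
            have h4 : y⁻¹ * (x⁻¹ * g (v * g' (v⁻¹ * x * v⁻¹⁻¹) * v⁻¹)) * y⁻¹⁻¹ * (y⁻¹ * g (v * g' (v⁻¹ * y * v⁻¹⁻¹) * v⁻¹)) =
              (x * y)⁻¹ * (g (v * g' (v⁻¹ * x * v⁻¹⁻¹) * v⁻¹) * g (v * g' (v⁻¹ * y * v⁻¹⁻¹) * v⁻¹)) := by group
            rwa [h4] at h3
          inv_mem' := by
            rintro x ⟨hx, hx'⟩
            refine ⟨M.inv_mem hx, ?_⟩
            have h1 : g (v * g' (v⁻¹ * x⁻¹ * v⁻¹⁻¹) * v⁻¹) = (g (v * g' (v⁻¹ * x * v⁻¹⁻¹) * v⁻¹))⁻¹ := hκ.1.map_inv hx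
            rw [h1]
            have h2 := hnP₁ _ (hMNS hx) _ (P₁.inv_mem hx')
            have h3 : x * (x⁻¹ * g (v * g' (v⁻¹ * x * v⁻¹⁻¹) * v⁻¹))⁻¹ * x⁻¹ =
              x⁻¹⁻¹ * (g (v * g' (v⁻¹ * x * v⁻¹⁻¹) * v⁻¹))⁻¹ := by group
            rwa [h3] at h2 }
      have hK : M ≤ K := by
        refine sup_le (fun y hy => ⟨hP₁M hy, P₁.mul_mem (P₁.inv_mem hy) ?_⟩) (fun c hc => ⟨Subgroup.mem_sup_right hc, ?_⟩)
        · exact hNT _ hκ y hy
        · obtain ⟨c', hc'⟩ : ∃ c', c' = v⁻¹ * c * v⁻¹⁻¹ := ⟨_, rfl⟩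
          have hc'C : c' ∈ C₁ := hc' ▸ hnC₁ _ hv' c hc
          have hc'M : c' ∈ M := Subgroup.mem_sup_right hc'C
          obtain ⟨w, hw⟩ : ∃ w, w = c'⁻¹ * g' c' := ⟨_, rfl⟩
          have hwP : w ∈ P₁ := hw ▸ hg'C₁ c' hc'C
          have hcM : c ∈ M := Subgroup.mem_sup_right hc
          have h1 : v * g' c' * v⁻¹ = c * (v * w * v⁻¹) := by
            rw [hw, hc']; group
          have h2 : v * w * v⁻¹ ∈ P₁ := hnP₁ v hvN w hwP
          rw [← hc', h1, hgN.map.map_mul hcM (hP₁M h2), ← mul_assoc]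
          exact P₁.mul_mem (hgC₁ c hc) (by rw [hgP₁ _ h2]; exact hγ.mem h2)
      exact (hK hx).2)
    have hsV : s ∈ V := ⟨hs.1.1, mem_centralizer_iff'.2 fun x hx => by
      have h1 := hs' x (hPM hx)
      rw [← h1]
      show g (v * g' (v⁻¹ * x * v⁻¹⁻¹) * v⁻¹) = x
      rw [hvx x hx, hvx' _ (hg'P x hx), hg'g x (hPM hx)]⟩
    refine ⟨s * v, V.mul_mem hsV hv, fun x hx => ?_⟩
    have hgx := hgN.mem hx
    have h1 := hs' (v * g x * v⁻¹) (hnM v hvN _ hgx)
    have h2 : g (v * g' (v⁻¹ * (v * g x * v⁻¹) * v⁻¹⁻¹) * v⁻¹) = s * (v * g x * v⁻¹) * s⁻¹ := h1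
    have h3 : v⁻¹ * (v * g x * v⁻¹) * v⁻¹⁻¹ = g x := by group
    rw [h3, hgg' x hx] at h2
    rw [h2]; group
  obtain ⟨σ, hσ, hσ1, hσ2⟩ := ext_grp_pp hMar.2 hgN hVNS (fun x hx => ⟨hx.1.1, Subgroup.centralizer_le hPM hx.2⟩)
    (fun v hv => ⟨hNSM (hVNS hv), hact v hv⟩)
  -- commutators
  have hσF : PP F p (M ⊔ V) σ := pp_sub (normSys_sub (F := F) (hX := hPS)) hσ
  have hMV : M ≤ M ⊔ V := le_sup_left
  have hVM : V ≤ M ⊔ V := le_sup_right
  have hEc : E.IsCentric P := (centric_iff_tc hE).2 hTC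
  have hstr := FusionFrat.Inv.strong hE
  have hσP : ∀ x ∈ P, σ x = f x := fun x hx => by rw [hσ1 x (hPM hx), hgP₁ x (hPP₁ hx)]
  have hσP₁ : ∀ x ∈ P₁, σ x = f x := fun x hx => by rw [hσ1 x (hP₁M hx), hgP₁ x hx]
  have hv1 : ∀ v ∈ V, v⁻¹ * σ v ∈ P ⊔ C₁ := by
    intro v hv
    have hvN := hVNS hv
    have hv' := NS.inv_mem hvN
    have hcv : FIso F P₁ P₁ (fun x => v * x * v⁻¹) := by
      refine fiso_conj_of_normalizer F hP₁S hv.1 (Subgroup.mem_normalizer_iff.2 fun x =>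
        ⟨fun hx => hnP₁ v hvN x hx, fun hx => ?_⟩)
      have := hnP₁ _ hv' _ hx
      rwa [inv_inv, show v⁻¹ * (v * x * v⁻¹) * v = x by group] at this
    have h1 : FMap E P₁ (fun y => v * f (v⁻¹ * y * v) * v⁻¹) :=
      hstr.transport hP₁T hcv (g := fun y => v⁻¹ * y * v) (fun x _ => by group) hγ.1
    obtain ⟨z, hz, hzc, h2⟩ := agree_centric hTp hEs hEc hPP₁ hγ.map h1 (fun x hx => by
      have h3 : v⁻¹ * x * v = x := by
        have := mem_centralizer_iff'.1 (Subgroup.inv_mem _ hv.2) x hx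
        rwa [inv_inv] at this
      rw [h3, mem_centralizer_iff'.1 hv.2 _ (hγP x hx)])
    have hzv : z * v ∈ M ⊔ V := Subgroup.mul_mem _ (hMV (hPM hz)) (hVM hv)
    have hσz : σ z ∈ P := by rw [hσP z hz]; exact hγP z hz
    have hσv : σ v ∈ V := hσ2 v hv
    have h3 : v⁻¹ * (σ z * σ v) ∈ C₁ := by
      refine ⟨S.mul_mem (S.inv_mem hv.1) (S.mul_mem (hPS hσz) hσv.1), mem_centralizer_iff'.2 fun w hw => ?_⟩
      obtain ⟨y, hy, rfl⟩ := hγ.1.mem_iff.1 hw
      have hvy : v * y * v⁻¹ ∈ P₁ := hnP₁ v hvN y hy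
      have h4 : v * f y * v⁻¹ = f (z * (v * y * v⁻¹) * z⁻¹) := by
        rw [← h2 _ hvy, show v⁻¹ * (v * y * v⁻¹) * v = y by group]
      have hzy : z * (v * y * v⁻¹) * z⁻¹ ∈ P₁ :=
        P₁.mul_mem (P₁.mul_mem (hPP₁ hz) hvy) (P₁.inv_mem (hPP₁ hz))
      have h5 : f (z * (v * y * v⁻¹) * z⁻¹) = σ z * σ v * f y * (σ z * σ v)⁻¹ := by
        rw [← hσP₁ _ hzy, ← hσP₁ y hy, show z * (v * y * v⁻¹) * z⁻¹ = (z * v) * y * (z * v)⁻¹ by group,
          hσF.map.map_conj hzv (hMV (hP₁M hy)), hσF.map.map_mul (hMV (hPM hz)) (hVM hv)]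
      calc v⁻¹ * (σ z * σ v) * f y * (v⁻¹ * (σ z * σ v))⁻¹
          = v⁻¹ * (σ z * σ v * f y * (σ z * σ v)⁻¹) * v := by group
        _ = f y := by rw [← h5, ← h4]; group
    have h4 : v⁻¹ * (σ z * σ v) = σ z * (v⁻¹ * σ v) := by
      have h5 := mem_centralizer_iff'.1 (Subgroup.inv_mem _ hv.2) _ hσz
      rw [inv_inv] at h5
      calc v⁻¹ * (σ z * σ v) = (v⁻¹ * σ z * v) * (v⁻¹ * σ v) := by group
        _ = _ := by rw [h5]
    rw [h4] at h3
    have h5 : v⁻¹ * σ v = (σ z)⁻¹ * (σ z * (v⁻¹ * σ v)) := by group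
    rw [h5]
    exact Subgroup.mul_mem _ (Subgroup.mem_sup_left (P.inv_mem hσz)) (Subgroup.mem_sup_right h3)
  have hC₁2 : ∀ c ∈ C₁, c⁻¹ * σ c ∈ P := by
    intro c hc
    have hcM : c ∈ M := Subgroup.mem_sup_right hc
    have h1 := hgC₁ c hc
    rw [hσ1 c hcM]
    refine hVT _ ?_ (hP₁T h1)
    refine V.mul_mem (V.inv_mem (hC₁V hc)) ?_
    have := hσ2 c (hC₁V hc)
    rwa [hσ1 c hcM] at this
  have hYM : P ⊔ C₁ ≤ M ⊔ V := sup_le (hPM.trans hMV) (hC₁V.trans hVM)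
  have hYNS : P ⊔ C₁ ≤ NS := sup_le (hPM.trans hMNS) (hC₁V.trans hVNS)
  have hY2 : ∀ y ∈ P ⊔ C₁, y⁻¹ * σ y ∈ P := by
    let K : Subgroup Ω :=
      { carrier := {y | y ∈ P ⊔ C₁ ∧ y⁻¹ * σ y ∈ P}
        one_mem' := ⟨Subgroup.one_mem _, by rw [hσF.map.map_one]; simp⟩
        mul_mem' := by
          rintro x y ⟨hx, hx'⟩ ⟨hy, hy'⟩
          refine ⟨Subgroup.mul_mem _ hx hy, ?_⟩
          rw [hσF.map.map_mul (hYM hx) (hYM hy)]
          have h2 := hnP _ (NS.inv_mem (hYNS hy)) _ hx'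
          rw [inv_inv] at h2
          have h3 := P.mul_mem h2 hy'
          have h4 : y⁻¹ * (x⁻¹ * σ x) * y * (y⁻¹ * σ y) = (x * y)⁻¹ * (σ x * σ y) := by group
          rwa [h4] at h3
        inv_mem' := by
          rintro x ⟨hx, hx'⟩
          refine ⟨Subgroup.inv_mem _ hx, ?_⟩
          rw [hσF.map.map_inv (hYM hx)]
          have h2 := hnP _ (hYNS hx) _ (P.inv_mem hx')
          have h3 : x * (x⁻¹ * σ x)⁻¹ * x⁻¹ = x⁻¹⁻¹ * (σ x)⁻¹ := by group
          rwa [h3] at h2 }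
    have hK : P ⊔ C₁ ≤ K := sup_le (fun x hx => ⟨Subgroup.mem_sup_left hx, P.mul_mem (P.inv_mem hx) (by
      rw [hσP x hx]; exact hγP x hx)⟩) (fun c hc => ⟨Subgroup.mem_sup_right hc, hC₁2 c hc⟩)
    exact fun y hy => (hK hy).2
  refine ⟨σ, hσF.map.restrict (sup_le (hPM.trans hMV) hVM), hσP, fun v hv => ?_⟩
  refine hσF.step hS hYM le_sup_left (fun y hy z hz => ?_) (hVM hv) (hv1 v hv) hY2
  have := hnP _ (NS.inv_mem (hYNS hy)) z hz
  rwa [inv_inv] at this

/-- **Extension theorem.** In a normal subsystem the automorphisms of centric subgroups extend to `P C_S(P)`. -/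
theorem extZ_all [Finite S] [Fact p.Prime] (hS : IsPGroup p S) (hF : F.IsSaturated p) (hEs : E.IsSaturated p)
    (hE : Inv E F) (hx : Ext E F) : ∀ (P : Subgroup Ω) (f : Ω → Ω), TC F T P → FIso E P P f → ExtZ F P f := by
  have hT := hE.closed
  have hTS := hT.1
  have hTp := isPGroup_of_le hS hT.1
  have hTfin : Finite T := finite_of_le hT.1
  have hstr := FusionFrat.Inv.strong hE
  have main : ∀ (n : ℕ) (P : Subgroup Ω), Nat.card T - Nat.card P = n → ∀ f : Ω → Ω, TC F T P → FIso E P P f →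
      ExtZ F P f := by
    intro n
    induction n using Nat.strong_induction_on with
    | _ n ih =>
      intro P hn f hTC hf
      have cardle : ∀ {R : Subgroup Ω}, R ≤ T → Nat.card R ≤ Nat.card T := fun hR =>
        Nat.card_le_card_of_injective _ (Subgroup.inclusion_injective hR)
      have big : ∀ (Q : Subgroup Ω) (g : Ω → Ω), TC F T Q → Nat.card P < Nat.card Q → FIso E Q Q g → ExtZ F Q g := by
        intro Q g hQ hc hg
        have := cardle hQ.1
        exact ih (Nat.card T - Nat.card Q) (by omega) Q rfl g hQ hg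
      by_cases hPe : P = T
      · subst hPe
        obtain ⟨b, hb, h1, h2⟩ := hx f hf
        exact ⟨b, hb.1, h1, fun c hc => (h2 c hc).1⟩
      · obtain ⟨Q, k, hQ, hk, hkN, hkN'⟩ := exists_fullyNormalized_map hS hF (hTC.1.trans hTS)
        have hTCQ : TC F T Q := hTC.conj hT hk.isConj
        have hcard : Nat.card P = Nat.card Q := hk.card_eq
        obtain ⟨k', hk', h1, h2⟩ := hk.symm
        have hmap := hstr.transport hTC.1 hk h1 hf
        have hQQ : FIso E Q Q (fun y => k (f (k' y))) :=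
          hmap.fiso_of_card hTCQ.1 (fun y hy => hk.mem (hf.mem (hk'.mem hy))) le_rfl
        have hlt : Q < T := lt_of_le_of_ne hTCQ.1 (by
          rintro rfl
          exact hPe (Subgroup.eq_of_le_of_card_ge hTC.1 hcard.ge))
        have hTCN : TC F T (normalizerIn T Q) := hTCQ.mono hT (le_normalizerIn hTCQ.1) (normalizerIn_le T Q)
        have hQN : Q < normalizerIn T Q := lt_normalizerIn hTp le_rfl hlt
        have hbigN : Nat.card P < Nat.card (normalizerIn T Q) := by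
          have : Finite (normalizerIn T Q) := finite_of_le (normalizerIn_le T Q)
          rw [hcard]; exact card_lt hQN
        -- it suffices to treat Q
        suffices hall : ∀ g, FIso E Q Q g → ExtZ F Q g by
          refine extZ_pull hk (hkN.restrict (le_centralizer_of_sup (hTC.1.trans hTS))) (hall _ hQQ) (fun y hy => hQQ.mem hy)
            fun x hx => ⟨hf.mem hx, ?_⟩
          show k (f x) = k (f (k' (k x)))
          rw [h1 x hx]
        have hQE : E.IsFullyNormalized Q := fullyNormalized_sub hS hF hT hE.sub hTCQ.1 hQ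
        have hQa := automized_receptive_of_fullyNormalized hTp hEs hQE
        -- automorphisms of N_T(Q) leaving Q invariant
        let H : Subgroup (MulAut ↥(normalizerIn T Q)) :=
          { carrier := {α | α ∈ E.autGroup (normalizerIn T Q) ∧ (∀ x ∈ Q, autFun α x ∈ Q) ∧ ExtZ F Q (autFun α)}
            one_mem' := ⟨Subgroup.one_mem _, fun x hx => by
                rw [autFun_one (le_normalizerIn hTCQ.1 hx)]; exact hx,
              extZ_congr (extZ_conj hT hTCQ (one_mem _)) fun x hx => by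
                rw [autFun_one (le_normalizerIn hTCQ.1 hx)]; simp⟩
            mul_mem' := by
              rintro α β ⟨h1, h2, h3⟩ ⟨k1, k2, k3⟩
              refine ⟨Subgroup.mul_mem _ h1 k1, fun x hx => ?_, extZ_congr (extZ_comp k2 h2 k3 h3) fun x hx => ?_⟩
              · rw [autFun_mul _ _ (le_normalizerIn hTCQ.1 hx)]; exact h2 _ (k2 x hx)
              · rw [autFun_mul _ _ (le_normalizerIn hTCQ.1 hx)]
            inv_mem' := by
              rintro α ⟨h1, h2, h3⟩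
              have hN := le_normalizerIn hTCQ.1
              have hi := (fiso_autFun_iff (normalizerIn_le T Q)).2 h1
              have hi' := (fiso_autFun_iff (normalizerIn_le T Q)).2 (Subgroup.inv_mem _ h1)
              have hQi : FIso E Q Q (autFun α) := fiso_restrict hi.1 hN h2
              have h4 : ∀ x ∈ Q, autFun α⁻¹ x ∈ Q := by
                intro x hx
                obtain ⟨y, hy, rfl⟩ := hQi.mem_iff.1 hx
                rw [autFun_inv_apply α (hN hy)]; exact hy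
              have hQi' : FIso E Q Q (autFun α⁻¹) := fiso_restrict hi'.1 hN h4
              exact ⟨Subgroup.inv_mem _ h1, h4, extZ_inv (sub_fiso hE.sub hQi) (sub_fiso hE.sub hQi')
                (fun x hx => autFun_inv_apply α (hN hx)) h3⟩ }
        have hH : ∀ α ∈ E.autGroup (normalizerIn T Q), (∀ x ∈ Q, autFun α x ∈ Q) → α ∈ H := by
          intro α hα hαQ
          have hN := le_normalizerIn hTCQ.1
          have hfinN : Finite (normalizerIn T Q) := finite_of_le (normalizerIn_le T Q)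
          have hpow : ∀ n : ℕ, ∀ x ∈ Q, autFun (α ^ n) x ∈ Q := by
            intro n
            induction n with
            | zero => intro x hx; rw [pow_zero, autFun_one (hN hx)]; exact hx
            | succ n ih => intro x hx; rw [pow_succ, autFun_mul _ _ (hN hx)]; exact ih _ (hαQ x hx)
          refine mem_of_parts (p := p) (isOfFinOrder_of_finite α) H (fun n hn => ?_) (fun n hn => ?_)
          · have hα' : α ^ n ∈ E.autGroup (normalizerIn T Q) := Subgroup.pow_mem _ hα n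
            have hi := (fiso_autFun_iff (normalizerIn_le T Q)).2 hα'
            have hQi : FIso E Q Q (autFun (α ^ n)) := fiso_restrict hi.1 hN (hpow n)
            refine ⟨hα', hpow n, ?_⟩
            -- restriction to Q is a p-element normalizing Aut_T(Q)
            have hmem : (hQi.equiv : MulAut Q) ∈ autInducedBy T Q := by
              refine mem_autInducedBy_of_normalizes hTp hQa.1 hQi.equiv_mem_autGroup ?_ ?_
              · obtain ⟨k, hk⟩ := hn
                have h5 : (hQi.equiv : MulAut Q) ^ p ^ k = 1 := by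
                  ext x
                  rw [equiv_pow_apply, ← autFun_pow_apply' _ _ (hN x.2), ← hk, pow_orderOf_eq_one, autFun_one (hN x.2)]
                  rfl
                obtain ⟨j, -, hj⟩ := (Nat.dvd_prime_pow (Fact.out : p.Prime)).1 (orderOf_dvd_of_pow_eq_one h5)
                exact ⟨j, hj⟩
              · intro κ hκ
                obtain ⟨t, ht, ht'⟩ := mem_autInducedBy_iff.1 hκ
                have htN : t ∈ normalizerIn T Q := ⟨ht, mem_normalizer_of_aut ht'⟩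
                refine mem_autInducedBy_iff.2 ⟨autFun (α ^ n) t, hi.1.map_mem htN, fun x => ?_⟩
                obtain ⟨y, hy⟩ := (hQi.equiv : MulAut Q).surjective x
                rw [← hy, MulAut.mul_apply, MulAut.mul_apply]
                have h6 : (hQi.equiv : MulAut Q)⁻¹ ((hQi.equiv : MulAut Q) y) = y := MulAut.inv_apply_self _ _ _
                rw [h6]
                show autFun (α ^ n) (κ y : Q) = autFun (α ^ n) t * autFun (α ^ n) (y : Ω) * (autFun (α ^ n) t)⁻¹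
                rw [ht', hi.1.map_conj htN (hN y.2)]
            obtain ⟨t, ht, ht'⟩ := mem_autInducedBy_iff.1 hmem
            refine extZ_congr (extZ_conj hT hTCQ (t := t) ⟨ht, mem_normalizer_of_aut ht'⟩) fun x hx => ?_
            exact (ht' ⟨x, hx⟩).symm
          · have hα' : α ^ n ∈ E.autGroup (normalizerIn T Q) := Subgroup.pow_mem _ hα n
            have hpp := pp_of_aut (normalizerIn_le T Q) hα' hn
            exact ⟨hα', hpow n, ext_step hS hF hEs hE hTCQ hQ hpp (hpow n) (big _ _ hTCN hbigN hpp.1)⟩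
        -- the group of extendable automorphisms
        let A : Subgroup (MulAut Q) :=
          { carrier := {α | α ∈ E.autGroup Q ∧ ExtZ F Q (autFun α)}
            one_mem' := ⟨Subgroup.one_mem _, extZ_congr (extZ_conj hT hTCQ (one_mem _)) fun x hx => by
              rw [autFun_one hx]; simp⟩
            mul_mem' := by
              rintro α β ⟨h1, h3⟩ ⟨k1, k3⟩
              refine ⟨Subgroup.mul_mem _ h1 k1, extZ_congr (extZ_comp (fun x hx => autFun_mem β hx)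
                (fun x hx => autFun_mem α hx) k3 h3) fun x hx => ?_⟩
              rw [autFun_mul _ _ hx]
            inv_mem' := by
              rintro α ⟨h1, h3⟩
              exact ⟨Subgroup.inv_mem _ h1, extZ_inv (sub_fiso hE.sub ((fiso_autFun_iff hTCQ.1).2 h1))
                (sub_fiso hE.sub ((fiso_autFun_iff hTCQ.1).2 (Subgroup.inv_mem _ h1)))
                (fun x hx => autFun_inv_apply α hx) h3⟩ }
        have hrF := receptive_of_fullyNormalized hS hF hQ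
        have hAn : ∀ α ∈ E.autGroup Q, ∀ n ∈ A, α * n * α⁻¹ ∈ A := by
          rintro α hα n ⟨hn, hn'⟩
          refine ⟨Subgroup.mul_mem _ (Subgroup.mul_mem _ hα hn) (Subgroup.inv_mem _ hα), ?_⟩
          have hα'E := Subgroup.inv_mem _ hα
          have hi' := sub_fiso hE.sub ((fiso_autFun_iff hTCQ.1).2 hα'E)
          obtain ⟨r, hr, hr1, -⟩ := exists_extension_centralizer hrF hi'
          have hrQ : FIso F Q Q r := hi'.congr fun x hx => (hr1 x hx).symm
          refine extZ_pull hrQ hr hn' (fun y hy => autFun_mem n hy) fun x hx => ⟨autFun_mem _ hx, ?_⟩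
          rw [hr1 _ (autFun_mem _ hx), hr1 x hx, ← autFun_mul _ _ hx, ← autFun_mul _ _ hx]
          congr 1
          group
        have hMN : autInducedBy (normalizerIn T Q) Q ≤ A := by
          intro α hα
          obtain ⟨t, ht, ht'⟩ := mem_autInducedBy_iff.1 hα
          refine ⟨autInducedBy_le_autGroup hTCQ.1 (normalizerIn_le T Q) hα, extZ_congr (extZ_conj hT hTCQ ht) fun x hx => ?_⟩
          rw [autFun_of_mem α hx]; exact (ht' ⟨x, hx⟩).symm
        intro g hg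
        obtain ⟨r, α, hα, hr, hrQ, h5⟩ := exists_frattini_ext hTp hQa.1 hQa.2 A (fun α h => h.1) hAn
          (le_normalizerIn hTCQ.1) le_rfl hMN hg
        have hrN : FIso E (normalizerIn T Q) (normalizerIn T Q) r :=
          hr.fiso_of_card (normalizerIn_le T Q) (fun x hx => ⟨hr.map_mem hx,
            hrQ.map_normalizer hr (le_normalizerIn hTCQ.1) hx hx.2⟩) le_rfl
        have hN := le_normalizerIn hTCQ.1
        have hrα : ∀ x ∈ normalizerIn T Q, autFun (hrN.equiv : MulAut ↥(normalizerIn T Q)) x = r x := fun x hx => by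
          rw [autFun_of_mem _ hx]; rfl
        have h6 := (hH _ hrN.equiv_mem_autGroup (fun x hx => by rw [hrα x (hN hx)]; exact hrQ.mem hx)).2.2
        refine extZ_congr (extZ_comp (f := autFun α) (g := r) (fun x hx => autFun_mem α hx) (fun x hx => hrQ.mem hx) hα.2
          (extZ_congr h6 fun x hx => hrα x (hN hx))) fun x hx => (h5 x hx).symm
  exact fun P f hTC hf => main _ P rfl f hTC hf

end Cfsg.Agent.Lib.FusionStab
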