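import Mathlib
import Cfsg.Agent.Lib.FusionStab
import Cfsg.Agent.Lib.FusionFocal

/-!
The centralizer in `S` of a normal subsystem.
-/

set_option autoImplicit false
open Cfsg Cfsg.FusionSystem Cfsg.Agent.Lib.FusionBasic Cfsg.Agent.Lib.FusionSat Cfsg.Agent.Lib.FusionNormal
  Cfsg.Agent.Lib.FusionInvar Cfsg.Agent.Lib.FusionTools Cfsg.Agent.Lib.FusionPP Cfsg.Agent.Lib.FusionStrong
  Cfsg.Agent.Lib.FusionSys Cfsg.Agent.Lib.FusionFrat Cfsg.Agent.Lib.FusionPrime Cfsg.Agent.Lib.FusionTC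
  Cfsg.Agent.Lib.FusionClosed Cfsg.Agent.Lib.FusionStab

namespace Cfsg.Agent.Lib.FusionZeta

variable {Ω : Type*} [Group Ω] {S T : Subgroup Ω} {F : FusionSystem S} {E : FusionSystem T} {P Q R U M X Y Z : Subgroup Ω}
  {a b f g : Ω → Ω} {p : ℕ}

/-! ### Generalities -/

/-- Maps fixing `X` fix `Y ≤ X` -/
theorem cent_fmap_mono {hXS : X ≤ S} {hYS : Y ≤ S} (hYX : Y ≤ X) (hf : FMap (centSys F X hXS) P f) :
    FMap (centSys F Y hYS) P f := by
  obtain ⟨h1, h2, g, hg, h3, h4⟩ := fmap_centSys.1 hf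
  have hle : centralizerIn S X ≤ centralizerIn S Y := inf_le_inf_left _ (Subgroup.centralizer_le hYX)
  exact fmap_centSys.2 ⟨h1.trans hle, fun x hx => hle (h2 x hx), g, hg.restrict (sup_le_sup_left hYX _), h3,
    fun x hx => h4 x (hYX hx)⟩

theorem eq_on_sup (hf : FMap F (P ⊔ Q) f) (hg : FMap F (P ⊔ Q) g) (h1 : ∀ x ∈ P, f x = g x) (h2 : ∀ x ∈ Q, f x = g x) :
    ∀ x ∈ P ⊔ Q, f x = g x := by
  let K : Subgroup Ω :=
    { carrier := {x | x ∈ P ⊔ Q ∧ f x = g x}
      one_mem' := ⟨Subgroup.one_mem _, by rw [hf.map_one, hg.map_one]⟩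
      mul_mem' := by
        rintro x y ⟨hx, hx'⟩ ⟨hy, hy'⟩
        exact ⟨Subgroup.mul_mem _ hx hy, by rw [hf.map_mul hx hy, hg.map_mul hx hy, hx', hy']⟩
      inv_mem' := by
        rintro x ⟨hx, hx'⟩
        exact ⟨Subgroup.inv_mem _ hx, by rw [hf.map_inv hx, hg.map_inv hx, hx']⟩ }
  have hK : P ⊔ Q ≤ K := sup_le (fun x hx => ⟨Subgroup.mem_sup_left hx, h1 x hx⟩)
    (fun x hx => ⟨Subgroup.mem_sup_right hx, h2 x hx⟩)
  exact fun x hx => (hK hx).2

/-- extension of a `p'`-automorphism by the identity is a `p'`-automorphism -/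
theorem pp_sup_id [Finite S] (ha : PP F p P f) (hg : FMap F (P ⊔ Q) g) (h1 : ∀ x ∈ P, g x = f x) (h2 : ∀ x ∈ Q, g x = x) :
    PP F p (P ⊔ Q) g := by
  have hi : FIso F (P ⊔ Q) (P ⊔ Q) g := hg.fiso_of_card hg.le (map_sup_mem hg
    (fun x hx => Subgroup.mem_sup_left (by rw [h1 x hx]; exact ha.mem hx))
    (fun x hx => Subgroup.mem_sup_right (by rw [h2 x hx]; exact hx))) le_rfl
  obtain ⟨-, n, hn, h3⟩ := id ha
  refine ⟨hi, n, hn, ?_⟩
  refine eq_on_sup (fiso_iter hi n).1 (fmap_id F hg.le) (fun x hx => ?_) (fun x hx => ?_)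
  · rw [iter_congr h1 (fun y hy => by rw [h1 y hy]; exact ha.mem hy) hx]; exact h3 x hx
  · have : ∀ k : ℕ, g^[k] x = x := by
      intro k
      induction k with
      | zero => rfl
      | succ k ih => rw [Function.iterate_succ_apply', ih, h2 x hx]
    exact this n

/-- the action of `a` on `V`, where `a` moves `V` by elements of `P` commuting with `V` -/
theorem zeta_mul (hV : ∀ v ∈ M, ∀ x ∈ P, v * x * v⁻¹ = x) (ha : FMap F M a) (h : ∀ c ∈ M, c⁻¹ * a c ∈ P) {c d : Ω}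
    (hc : c ∈ M) (hd : d ∈ M) : (c * d)⁻¹ * a (c * d) = (c⁻¹ * a c) * (d⁻¹ * a d) := by
  rw [ha.map_mul hc hd]
  have h1 := hV _ (M.inv_mem hd) _ (h c hc)
  rw [inv_inv] at h1
  calc (c * d)⁻¹ * (a c * a d) = (d⁻¹ * (c⁻¹ * a c) * d) * (d⁻¹ * a d) := by group
    _ = _ := by rw [h1]

theorem zeta_inv (hV : ∀ v ∈ M, ∀ x ∈ P, v * x * v⁻¹ = x) (ha : FMap F M a) (h : ∀ c ∈ M, c⁻¹ * a c ∈ P) {c : Ω}
    (hc : c ∈ M) : (c⁻¹)⁻¹ * a c⁻¹ = (c⁻¹ * a c)⁻¹ := by
  have h1 := zeta_mul hV ha h (M.inv_mem hc) hc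
  rw [inv_mul_cancel, ha.map_one] at h1
  rw [eq_inv_iff_mul_eq_one, ← h1]
  simp

/-- **Key lemma.** Let `a` be a `p'`-automorphism of `P C_S(P)` moving `C_S(P)` by elements of `P`. Then `c⁻¹ a(c)` is
constant on the conjugacy classes of `C_F(P)`. -/
theorem zeta_const [Finite S] [Fact p.Prime] (hS : IsPGroup p S) (hF : F.IsSaturated p)
    (hP : F.IsFullyCentralized P) (ha : PP F p (P ⊔ centralizerIn S P) a) (haP : ∀ x ∈ P, a x ∈ P)
    (hc : ∀ c ∈ centralizerIn S P, c⁻¹ * a c ∈ P) :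
    ∀ (X : Subgroup Ω) (f : Ω → Ω), FMap (centSys F P hP.1) X f → ∀ x ∈ X, (f x)⁻¹ * a (f x) = x⁻¹ * a x := by
  have hPS := hP.1
  have hVS : centralizerIn S P ≤ S := centralizerIn_le S P
  have hVp : IsPGroup p ↥(centralizerIn S P) := isPGroup_of_le hS hVS
  have hVfin : Finite ↥(centralizerIn S P) := finite_of_le hVS
  have hK := centSys_saturated hS hF hP
  have hVM : centralizerIn S P ≤ P ⊔ centralizerIn S P := le_sup_right
  have hPM : P ≤ P ⊔ centralizerIn S P := le_sup_left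
  have hVP : ∀ v ∈ centralizerIn S P, ∀ x ∈ P, v * x * v⁻¹ = x := fun v hv x hx => mem_centralizer_iff'.1 hv.2 x hx
  have haPi : FIso F P P a := fiso_restrict ha.map hPM haP
  have haV : ∀ c ∈ centralizerIn S P, a c ∈ centralizerIn S P := by
    intro c hc
    refine ⟨ha.map.map_mem (hVM hc), mem_centralizer_iff'.2 fun y hy => ?_⟩
    obtain ⟨x, hx, rfl⟩ := haPi.mem_iff.1 hy
    rw [← ha.map.map_conj (hVM hc) (hPM hx), hVP c hc x hx]
  have hζ : ∀ c ∈ centralizerIn S P, c⁻¹ * a c ∈ centralizerIn S P := fun c hcV =>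
    Subgroup.mul_mem _ (Subgroup.inv_mem _ hcV) (haV c hcV)
  have haVm : FMap F (centralizerIn S P) a := ha.map.restrict hVM
  have hmul : ∀ c ∈ centralizerIn S P, ∀ d ∈ centralizerIn S P,
      (c * d)⁻¹ * a (c * d) = (c⁻¹ * a c) * (d⁻¹ * a d) := fun c hc1 d hd => zeta_mul hVP haVm hc hc1 hd
  have hinv : ∀ c ∈ centralizerIn S P, (c⁻¹)⁻¹ * a c⁻¹ = (c⁻¹ * a c)⁻¹ := fun c hc1 => zeta_inv hVP haVm hc hc1
  have hcomm : ∀ c ∈ centralizerIn S P, ∀ d ∈ centralizerIn S P,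
      (c⁻¹ * a c) * (d⁻¹ * a d) * (c⁻¹ * a c)⁻¹ = d⁻¹ * a d := fun c hc1 d hd => hVP _ (hζ c hc1) _ (hc d hd)
  refine alperin_induction_cr hVp hK (fun X f => ∀ x ∈ X, (f x)⁻¹ * a (f x) = x⁻¹ * a x) ?_ ?_ ?_ ?_ ?_
  · intro X f g _ h1 h2 x hx
    rw [← h2 x hx]; exact h1 x hx
  · intro X s hX hs x hx
    have hxV := hX hx
    show (s * x * s⁻¹)⁻¹ * a (s * x * s⁻¹) = x⁻¹ * a x
    rw [hmul _ (Subgroup.mul_mem _ hs hxV) _ (Subgroup.inv_mem _ hs), hmul _ hs _ hxV, hinv _ hs, hcomm s hs x hxV]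
  · intro X Y f g hf h1 hg h2 h3 x hx
    rw [h2 _ (h3 x hx), h1 x hx]
  · intro X Y f g hf h1 hg h2 h3 y hy
    have h4 := h1 _ (hg.mem hy)
    rw [h3 y hy] at h4
    exact h4.symm
  · intro X φ hXn hXc hXr hφ w hw
    have hXV : X ≤ centralizerIn S P := hXn.1
    obtain ⟨-, -, ψ, hψ, hψ1, hψ2⟩ := fmap_centSys.1 hφ.1
    have hzX : ∀ x ∈ X, x⁻¹ * a x ∈ X := fun x hx => hXc.2 X (isConj_refl _ hXV) ⟨hζ x (hXV hx),
      mem_centralizer_iff'.2 fun y hy => by
        have h1 := hVP _ (hXV hy) _ (hc x (hXV hx))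
        have h2 : x⁻¹ * a x * y * (x⁻¹ * a x)⁻¹ = (x⁻¹ * a x) * (y * (x⁻¹ * a x) * y⁻¹)⁻¹ * y := by group
        rw [h2, h1, mul_inv_cancel, one_mul]⟩
    have haX : ∀ x ∈ X, a x ∈ X := fun x hx => by
      have := X.mul_mem hx (hzX x hx)
      rwa [mul_inv_cancel_left] at this
    have hWM : X ⊔ P ≤ P ⊔ centralizerIn S P := sup_le (hXV.trans hVM) hPM
    have haW : FIso F (X ⊔ P) (X ⊔ P) a := fiso_restrict ha.map hWM (map_sup_mem (ha.map.restrict hWM)
      (fun x hx => Subgroup.mem_sup_left (haX x hx)) (fun x hx => Subgroup.mem_sup_right (haP x hx)))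
    have hψW : FIso F (X ⊔ P) (X ⊔ P) ψ := hψ.fiso_of_card hψ.le (map_sup_mem hψ
      (fun x hx => Subgroup.mem_sup_left (by rw [hψ1 x hx]; exact hφ.mem hx))
      (fun x hx => Subgroup.mem_sup_right (by rw [hψ2 x hx]; exact hx))) le_rfl
    obtain ⟨a', ha', ha1, ha2⟩ := haW.symm
    obtain ⟨ψ', hψ', hp1, hp2⟩ := hψW.symm
    have hXW : X ≤ X ⊔ P := le_sup_left
    have hPW : P ≤ X ⊔ P := le_sup_right
    have ha'P : ∀ x ∈ P, a' x ∈ P := by
      intro x hx
      obtain ⟨y, hy, rfl⟩ := haPi.mem_iff.1 hx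
      rw [ha1 y (hPW hy)]; exact hy
    have hψ'P : ∀ x ∈ P, ψ' x = x := by
      intro x hx
      have := hp1 x (hPW hx)
      rwa [hψ2 x hx] at this
    have hκ : FIso F (X ⊔ P) (X ⊔ P) (fun y => a (ψ (a' (ψ' y)))) := ((hψ'.trans ha').trans hψW).trans haW
    have hκP : ∀ y ∈ P, a (ψ (a' (ψ' y))) = y := fun y hy => by
      rw [hψ'P y hy, hψ2 _ (ha'P y hy), ha2 y (hPW hy)]
    have hκX' : ∀ x ∈ X, a (ψ (a' (ψ' (φ x * (x⁻¹ * a x))))) = φ x * ((φ x)⁻¹ * a (φ x)) := by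
      intro x hx
      have h1 : φ x * (x⁻¹ * a x) = ψ (a x) := by
        have h2 : a x = x * (x⁻¹ * a x) := by group
        rw [h2, hψ.map_mul (hXW hx) (hPW (hc x (hXV hx))), hψ1 x hx, hψ2 _ (hc x (hXV hx))]
        group
      rw [h1, hp1 _ (hXW (haX x hx)), ha1 _ (hXW hx), hψ1 x hx]
      group
    have hsurj : ∀ y ∈ X, ∃ x ∈ X, y = φ x * (x⁻¹ * a x) := by
      intro y hy
      obtain ⟨x', hx', rfl⟩ := hφ.mem_iff.1 hy
      obtain ⟨x, hx, rfl⟩ := (fiso_restrict haW.1 hXW haX).mem_iff.1 hx'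
      refine ⟨x, hx, ?_⟩
      rw [← hψ1 _ (haX x hx)]
      have h2 : a x = x * (x⁻¹ * a x) := by group
      conv_lhs => rw [h2]
      rw [hψ.map_mul (hXW hx) (hPW (hc x (hXV hx))), hψ1 x hx, hψ2 _ (hc x (hXV hx))]
    have hκX : ∀ y ∈ X, a (ψ (a' (ψ' y))) ∈ X := by
      intro y hy
      obtain ⟨x, hx, rfl⟩ := hsurj y hy
      rw [hκX' x hx]
      exact X.mul_mem (hφ.mem hx) (hzX _ (hφ.mem hx))
    have hκm : FMap (centSys F P hPS) X (fun y => a (ψ (a' (ψ' y)))) :=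
      fmap_centSys.2 ⟨hXV, fun y hy => hXV (hκX y hy), _, hκ.1, fun _ _ => rfl, hκP⟩
    obtain ⟨κ, hκK, hκ1⟩ := exists_aut_of_fmap hκm hκX
    have hfixK : ∀ α ∈ (centSys F P hPS).autGroup X, ∀ x : X, (x : Ω) ∈ P → ((α x : X) : Ω) = x := by
      intro α hα x hx
      obtain ⟨-, -, g, hg, g1, g2⟩ := fmap_centSys.1 (fmap_of_autGroup hXV hα)
      rw [← autFun_coe, ← g1 x x.2, g2 _ hx]
    let L : ℕ → Subgroup Ω := fun j => match j with
      | 0 => X
      | 1 => P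
      | _ => ⊥
    have hin : κ ∈ Inn X := by
      refine mem_inn_of_stabilizes_chain hVp hXr L 2 le_rfl le_rfl ?_ hκK ?_
      · intro j α hα x hx
        match j with
        | 0 => exact (α x).2
        | 1 => exact (hfixK α hα x hx).symm ▸ hx
        | (j + 2) =>
          have hx1 : x = 1 := Subtype.ext hx
          show ((α x : X) : Ω) ∈ (⊥ : Subgroup Ω)
          rw [hx1, map_one]; exact Subgroup.one_mem _
      · intro j hj x hx
        match j with
        | 0 =>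
          show (x : Ω)⁻¹ * (κ x : X) ∈ P
          rw [hκ1]
          obtain ⟨w, hw, hxw⟩ := hsurj x x.2
          show (x : Ω)⁻¹ * a (ψ (a' (ψ' x))) ∈ P
          rw [hxw, hκX' w hw]
          have h1 : (φ w * (w⁻¹ * a w))⁻¹ * (φ w * ((φ w)⁻¹ * a (φ w))) = (w⁻¹ * a w)⁻¹ * ((φ w)⁻¹ * a (φ w)) := by group
          rw [h1]
          exact P.mul_mem (P.inv_mem (hc w (hXV hw))) (hc _ (hXV (hφ.mem hw)))
        | 1 =>
          show (x : Ω)⁻¹ * (κ x : X) ∈ (⊥ : Subgroup Ω)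
          rw [hfixK κ hκK x hx, inv_mul_cancel]; exact Subgroup.one_mem _
    rw [inn_eq_autInducedBy] at hin
    obtain ⟨u, hu, hu'⟩ := mem_autInducedBy_iff.1 hin
    -- δ
    have huV := hXV hu
    have hφw := hφ.mem hw
    have hφV := hXV hφw
    have hwV := hXV hw
    have hyX : φ w * (w⁻¹ * a w) ∈ X := X.mul_mem hφw (hzX w hw)
    have e1 := hκ1 ⟨_, hyX⟩
    rw [hu' ⟨_, hyX⟩] at e1
    have e2 : u * (φ w * (w⁻¹ * a w)) * u⁻¹ = φ w * ((φ w)⁻¹ * a (φ w)) := by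
      rw [← hκX' w hw]; exact e1
    have e3 : u * (w⁻¹ * a w) * u⁻¹ = w⁻¹ * a w := hVP u huV _ (hc w hwV)
    have e4 : (φ w)⁻¹ * a (φ w) * (w⁻¹ * a w)⁻¹ = (φ w)⁻¹ * (u * φ w * u⁻¹) := by
      have h1 : u * (φ w * (w⁻¹ * a w)) * u⁻¹ = (u * φ w * u⁻¹) * (u * (w⁻¹ * a w) * u⁻¹) := by group
      rw [h1, e3] at e2
      rw [mul_inv_eq_iff_eq_mul, mul_assoc, e2, inv_mul_cancel_left]
    have hcV : ∀ {c}, c ∈ centralizerIn S P → c⁻¹ ∈ centralizerIn S P := fun h => Subgroup.inv_mem _ h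
    have hdV : φ w * w⁻¹ ∈ centralizerIn S P := Subgroup.mul_mem _ hφV (hcV hwV)
    have e5 : (φ w * w⁻¹)⁻¹ * a (φ w * w⁻¹) = (φ w)⁻¹ * (u * φ w * u⁻¹) := by
      rw [hmul _ hφV _ (hcV hwV), hinv _ hwV, e4]
    obtain ⟨δ, hδ⟩ : ∃ δ, δ = (φ w)⁻¹ * (u * φ w * u⁻¹) := ⟨_, rfl⟩
    have huw : u * φ w * u⁻¹ ∈ centralizerIn S P := Subgroup.mul_mem _ (Subgroup.mul_mem _ huV hφV) (hcV huV)
    have hδV : δ ∈ centralizerIn S P := hδ ▸ Subgroup.mul_mem _ (hcV hφV) huw
    have hδ1 : a δ = δ := by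
      have h1 : δ⁻¹ * a δ = 1 := by
        rw [hδ, hmul _ (hcV hφV) _ huw, hinv _ hφV, hmul _ (Subgroup.mul_mem _ huV hφV) _ (hcV huV), hmul _ huV _ hφV,
          hinv _ huV, hcomm u huV _ hφV, inv_mul_cancel]
      exact (inv_mul_eq_one.1 h1).symm
    have e6 : a (φ w * w⁻¹) = φ w * w⁻¹ := by
      refine ha.fix hS (Y := Subgroup.zpowers δ) (by rw [Subgroup.zpowers_le]; exact hVM hδV) (hVM hdV)
        (by rw [e5, ← hδ]; exact Subgroup.mem_zpowers δ) ?_
      intro y hy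
      obtain ⟨k, rfl⟩ := Subgroup.mem_zpowers_iff.1 hy
      rw [ha.map.map_zpow (hVM hδV), hδ1]
    rw [e6, inv_mul_cancel] at e5
    rw [← e5] at e4
    exact mul_inv_eq_one.1 e4


/-! ### Induction with one good representative per class -/

theorem rep_induction [Finite S] [Fact p.Prime] (hS : IsPGroup p S) (hF : F.IsSaturated p)
    (A : Subgroup Ω → (Ω → Ω) → Prop)
    (hcongr : ∀ P f g, FMap F P f → (∀ x ∈ P, f x = g x) → A P f → A P g)
    (hrestr : ∀ P Q f, FMap F Q f → P ≤ Q → A Q f → A P f)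
    (hcomp : ∀ P Q f g, FIso F P Q f → FMap F Q g → A P f → A Q g → A P (fun x => g (f x)))
    (hinv : ∀ P Q f g, FIso F P Q f → FIso F Q P g → (∀ x ∈ P, g (f x) = x) → A P f → A Q g)
    (haut : ∀ P, P ≤ S → ∃ Q, F.IsConj P Q ∧ F.IsFullyNormalized Q ∧ ∀ f, FIso F Q Q f →
      (∀ (R : Subgroup Ω) (g : Ω → Ω), Nat.card Q < Nat.card R → FMap F R g → A R g) → A Q f) :
    ∀ P f, FMap F P f → A P f := by
  have main : ∀ (n : ℕ) (P : Subgroup Ω), Nat.card S - Nat.card P = n → ∀ f : Ω → Ω, FMap F P f → A P f := by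
    intro n
    induction n using Nat.strong_induction_on with
    | _ n ih =>
      intro P hn f hf
      have hP := hf.le
      have cardle : ∀ {R : Subgroup Ω}, R ≤ S → Nat.card R ≤ Nat.card S := fun hR =>
        Nat.card_le_card_of_injective _ (Subgroup.inclusion_injective hR)
      have big : ∀ (Q : Subgroup Ω) (g : Ω → Ω), Nat.card P < Nat.card Q → FMap F Q g → A Q g := by
        intro Q g hc hg
        have := cardle hg.le
        exact ih (Nat.card S - Nat.card Q) (by omega) Q rfl g hg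
      obtain ⟨Q, hPQ, hQ, hQA⟩ := haut P hP
      have hcPQ := isConj_card_eq hPQ
      have hQA' : ∀ f, FIso F Q Q f → A Q f := fun f hf => hQA f hf fun R g hc hg => big R g (by rw [hcPQ]; exact hc) hg
      obtain ⟨P', hP'⟩ := hf.exists_iso
      by_cases hPS : P = S
      · have hQS : Q = S := Subgroup.eq_of_le_of_card_ge hQ.1 (by rw [← hcPQ, hPS])
        subst hPS
        subst hQS
        exact hQA' f (fiso_of_fmap_top hf)
      · have key : ∀ R : Subgroup Ω, F.IsConj R Q → ∃ k, FIso F R Q k ∧ A R k := by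
          intro R hR
          have hRS := (isConj_le hR).1
          obtain ⟨k, hk, hkN, -⟩ := exists_map_to_fullyNormalized hS hF hQ hR
          have hRne : R ≠ S := fun h => hPS (Subgroup.eq_of_le_of_card_ge hP (by
            rw [hcPQ, ← isConj_card_eq hR, h]))
          have hlt : R < normalizerIn S R := lt_normalizerIn hS le_rfl (lt_of_le_of_ne hRS hRne)
          have : Finite (normalizerIn S R) := finite_of_le (normalizerIn_le S R)
          exact ⟨k, hk, hrestr R _ k hkN hlt.le (big _ k (by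
            rw [hcPQ, ← isConj_card_eq hR]; exact card_lt hlt) hkN)⟩
        obtain ⟨k, hk, hAk⟩ := key P hPQ
        obtain ⟨k₁, hk₁, hAk₁⟩ := key P' (isConj_trans (isConj_symm hP'.isConj) hPQ)
        obtain ⟨k', hk', h1, h2⟩ := hk.symm
        obtain ⟨k₁', hk₁', h3, h4⟩ := hk₁.symm
        have hmid : FIso F Q Q (fun x => k₁ (f (k' x))) := (hk'.trans hP').trans hk₁
        have hA1 := hcomp P Q k _ hk hmid.1 hAk (hQA' _ hmid)
        have hA2 := hinv P' Q k₁ k₁' hk₁ hk₁' h3 hAk₁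
        have hA3 := hcomp P Q _ k₁' (hk.trans hmid) hk₁'.1 hA1 hA2
        refine hcongr P _ f ((hk.trans hmid).trans hk₁').1 (fun x hx => ?_) hA3
        show k₁' (k₁ (f (k' (k x)))) = f x
        rw [h1 x hx, h3 _ (hP'.mem hx)]
  exact fun P f hf => main _ P rfl f hf

/-! ### Subgroups centralizing a subsystem -/

/-- `f` extends to a map fixing `Y` elementwise. -/
def Fix (F : FusionSystem S) (Y P : Subgroup Ω) (f : Ω → Ω) : Prop :=
  ∃ g, FMap F (P ⊔ Y) g ∧ (∀ x ∈ P, g x = f x) ∧ ∀ y ∈ Y, g y = y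

theorem fix_congr (h : Fix F Y P f) (hfg : ∀ x ∈ P, f x = g x) : Fix F Y P g := by
  obtain ⟨k, h1, h2, h3⟩ := h
  exact ⟨k, h1, fun x hx => by rw [h2 x hx, hfg x hx], h3⟩

theorem fix_restr (h : Fix F Y Q f) (hPQ : P ≤ Q) : Fix F Y P f := by
  obtain ⟨k, h1, h2, h3⟩ := h
  exact ⟨k, h1.restrict (sup_le_sup_right hPQ _), fun x hx => h2 x (hPQ hx), h3⟩

theorem fix_comp (hf : ∀ x ∈ P, f x ∈ Q) (h : Fix F Y P f) (h' : Fix F Y Q g) : Fix F Y P (fun x => g (f x)) := by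
  obtain ⟨k, h1, h2, h3⟩ := h
  obtain ⟨k', h1', h2', h3'⟩ := h'
  refine ⟨fun x => k' (k x), h1.comp h1' (map_sup_mem h1 (fun x hx => Subgroup.mem_sup_left (by
    rw [h2 x hx]; exact hf x hx)) (fun y hy => Subgroup.mem_sup_right (by rw [h3 y hy]; exact hy))), fun x hx => ?_,
    fun y hy => ?_⟩
  · show k' (k x) = g (f x)
    rw [h2 x hx, h2' _ (hf x hx)]
  · show k' (k y) = y
    rw [h3 y hy, h3' y hy]

theorem fix_inv (hf : ∀ y ∈ Q, ∃ x ∈ P, f x = y) (hgf : ∀ x ∈ P, g (f x) = x) (h : Fix F Y P f) : Fix F Y Q g := by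
  obtain ⟨k, h1, h2, h3⟩ := h
  obtain ⟨M, hM⟩ := h1.exists_iso
  obtain ⟨k', hk', h4, h5⟩ := hM.symm
  have hQM : Q ≤ M := fun y hy => by
    obtain ⟨x, hx, rfl⟩ := hf y hy
    rw [← h2 x hx]; exact hM.mem (Subgroup.mem_sup_left hx)
  have hYM : Y ≤ M := fun y hy => by rw [← h3 y hy]; exact hM.mem (Subgroup.mem_sup_right hy)
  refine ⟨k', hk'.1.restrict (sup_le hQM hYM), fun y hy => ?_, fun y hy => ?_⟩
  · obtain ⟨x, hx, rfl⟩ := hf y hy
    rw [hgf x hx, ← h2 x hx, h4 x (Subgroup.mem_sup_left hx)]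
  · have := h4 y (Subgroup.mem_sup_right hy)
    rwa [h3 y hy] at this

/-- `Y` centralizes `E`: every map of `E` extends to a map of `F` fixing `Y`. -/
def Cen (F : FusionSystem S) (E : FusionSystem T) (Y : Subgroup Ω) : Prop :=
  Y ≤ centralizerIn S T ∧ ∀ P f, FMap E P f → Fix F Y P f

theorem cen_iff (hT : T ≤ S) : Cen F E Y ↔ Y ≤ centralizerIn S T ∧ ∀ P : Subgroup Ω, E.Hom P ⊆ F.centralizerHom Y P := by
  constructor
  · rintro ⟨h1, h2⟩
    refine ⟨h1, fun P => ?_⟩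
    have hY : Y ≤ S := h1.trans (centralizerIn_le S T)
    have hc : F.IsCentralizerSystem Y (centSys F Y hY) := isCentralizerSystem_centSys
    rw [← hc P, hom_subset_iff_fmap]
    intro f hf
    have hTY : T ≤ centralizerIn S Y := fun t ht => ⟨hT ht, fun y hy => ((h1 hy).2 t ht).symm⟩
    exact fmap_centSys.2 ⟨hf.le.trans hTY, fun x hx => hTY (hf.map_mem hx), h2 P f hf⟩
  · rintro ⟨h1, h2⟩
    refine ⟨h1, fun P f hf => ?_⟩
    have hY : Y ≤ S := h1.trans (centralizerIn_le S T)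
    have hc : F.IsCentralizerSystem Y (centSys F Y hY) := isCentralizerSystem_centSys
    have h3 := h2 P
    rw [← hc P, hom_subset_iff_fmap] at h3
    exact (fmap_centSys.1 (h3 f hf)).2.2

/-- Maps of a system centralized by `Y` whose `p'`-extension `a` is given: `a` fixes `Y`. -/
theorem fixed_of_fix [Finite S] [Fact p.Prime] (hS : IsPGroup p S) (hF : F.IsSaturated p)
    (hP : F.IsFullyCentralized P) (ha : PP F p (P ⊔ centralizerIn S P) a) (haP : ∀ x ∈ P, a x ∈ P)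
    (hc : ∀ c ∈ centralizerIn S P, c⁻¹ * a c ∈ P) (hY : Y ≤ centralizerIn S P) (hf : Fix F Y P a) :
    ∀ y ∈ Y, a y = y := by
  obtain ⟨h, h1, h2, h3⟩ := hf
  intro y hy
  have hyV := hY hy
  have hVM : centralizerIn S P ≤ P ⊔ centralizerIn S P := le_sup_right
  have hPM : P ≤ P ⊔ centralizerIn S P := le_sup_left
  have haPi : FIso F P P a := fiso_restrict ha.map hPM haP
  have hVP : ∀ v ∈ centralizerIn S P, ∀ x ∈ P, v * x * v⁻¹ = x := fun v hv x hx => mem_centralizer_iff'.1 hv.2 x hx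
  obtain ⟨a', ha', ha1, ha2⟩ := ha.1.symm
  have ha'P : ∀ x ∈ P, a' x ∈ P := by
    intro x hx
    obtain ⟨y, hy, rfl⟩ := haPi.mem_iff.1 hx
    rw [ha1 y (hPM hy)]; exact hy
  have haV : ∀ c ∈ centralizerIn S P, a c ∈ centralizerIn S P := by
    intro c hc
    refine ⟨ha.map.map_mem (hVM hc), mem_centralizer_iff'.2 fun y hy => ?_⟩
    obtain ⟨x, hx, rfl⟩ := haPi.mem_iff.1 hy
    rw [← ha.map.map_conj (hVM hc) (hPM hx), hVP c hc x hx]
  have hayV := haV y hyV
  have hzle : Subgroup.zpowers (a y) ≤ centralizerIn S P := by rw [Subgroup.zpowers_le]; exact hayV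
  have hm : FMap F (Subgroup.zpowers (a y) ⊔ P) (fun x => h (a' x)) := by
    refine (ha'.1.restrict (sup_le (hzle.trans hVM) hPM)).comp h1 (map_sup_mem (ha'.1.restrict
      (sup_le (hzle.trans hVM) hPM)) (fun x hx => ?_) (fun x hx => Subgroup.mem_sup_left (ha'P x hx)))
    obtain ⟨k, rfl⟩ := Subgroup.mem_zpowers_iff.1 hx
    rw [ha'.1.map_zpow (hVM hayV), ha1 y (hVM hyV)]
    exact Subgroup.mem_sup_right (Y.zpow_mem hy k)
  have hhy : h (a' (a y)) = y := by rw [ha1 y (hVM hyV), h3 y hy]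
  have hm' : FMap (centSys F P hP.1) (Subgroup.zpowers (a y)) (fun x => h (a' x)) := by
    refine fmap_centSys.2 ⟨hzle, fun x hx => ?_, _, hm, fun _ _ => rfl, fun x hx => ?_⟩
    · obtain ⟨k, rfl⟩ := Subgroup.mem_zpowers_iff.1 hx
      have e : h (a' (a y ^ k)) = y ^ k := by
        have := hm.map_zpow (Subgroup.mem_sup_left (Subgroup.mem_zpowers (a y))) k
        rw [this, hhy]
      show h (a' (a y ^ k)) ∈ _
      rw [e]; exact Subgroup.zpow_mem _ hyV k
    · show h (a' x) = x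
      rw [h2 _ (ha'P x hx), ha2 x (hPM hx)]
  have h4 := zeta_const hS hF hP ha haP hc _ _ hm' (a y) (Subgroup.mem_zpowers _)
  have h5 : y⁻¹ * a y = (a y)⁻¹ * a (a y) := by
    have h6 : (h (a' (a y)))⁻¹ * a (h (a' (a y))) = (a y)⁻¹ * a (a y) := h4
    rwa [hhy] at h6
  -- δ = y⁻¹ a y is fixed
  obtain ⟨δ, hδ⟩ : ∃ δ, δ = y⁻¹ * a y := ⟨_, rfl⟩
  have hδV : δ ∈ centralizerIn S P := hδ ▸ Subgroup.mul_mem _ (Subgroup.inv_mem _ hyV) hayV
  have hδ1 : a δ = δ := by
    rw [hδ, ha.map.map_mul (hVM (Subgroup.inv_mem _ hyV)) (hVM hayV), ha.map.map_inv (hVM hyV), ← h5]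
  refine ha.fix hS (Y := Subgroup.zpowers δ) (by rw [Subgroup.zpowers_le]; exact hVM hδV) (hVM hyV)
    (by rw [← hδ]; exact Subgroup.mem_zpowers δ) ?_
  intro z hz
  obtain ⟨k, rfl⟩ := Subgroup.mem_zpowers_iff.1 hz
  rw [ha.map.map_zpow (hVM hδV), hδ1]

/-- the `p'`-extension of a `p'`-automorphism -/
theorem exists_pp_ext [Finite S] [Fact p.Prime] (hf : PP F p P f) (h : ExtZ F P f) :
    ∃ a, PP F p (P ⊔ centralizerIn S P) a ∧ (∀ x ∈ P, a x = f x) ∧ ∀ c ∈ centralizerIn S P, c⁻¹ * a c ∈ P := by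
  obtain ⟨k, h1, h2, h3⟩ := h
  have hi := extZ_fiso (fun x hx => hf.mem hx) h1 h2 h3
  obtain ⟨-, n, hn, hfix⟩ := id hf
  obtain ⟨m, hm, hm'⟩ := exists_pp_power hi (X := P) hn (fun x hx => by
    rw [iter_congr h2 (fun y hy => by rw [h2 y hy]; exact hf.mem hy) hx]; exact hfix x hx)
  refine ⟨k^[m], hm, fun x hx => by rw [hm' x hx, h2 x hx], fun c hc => ?_⟩
  have hkP : ∀ x ∈ P, k x ∈ P := fun x hx => by rw [h2 x hx]; exact hf.mem hx
  have hj : ∀ j : ℕ, c⁻¹ * k^[j] c ∈ P := by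
    intro j
    induction j with
    | zero => simp
    | succ j ih =>
      rw [Function.iterate_succ_apply']
      have hcm : c ∈ P ⊔ centralizerIn S P := Subgroup.mem_sup_right hc
      have hjm : k^[j] c ∈ P ⊔ centralizerIn S P := iter_mem hi hcm j
      have h4 := hkP _ ih
      rw [h1.map_mul (Subgroup.inv_mem _ hcm) hjm, h1.map_inv hcm] at h4
      have h5 := P.mul_mem (h3 c hc) h4
      have h6 : c⁻¹ * k c * ((k c)⁻¹ * k (k^[j] c)) = c⁻¹ * k (k^[j] c) := by group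
      rwa [h6] at h5
  exact hj m

/-- the automorphisms of `T` extend to `T C_S(T)` -/
theorem exists_aut_ext [Finite S] [Fact p.Prime] (hS : IsPGroup p S) (hF : F.IsSaturated p) (hT : F.StronglyClosed T)
    (ha : FIso F T T a) : ∃ b, FIso F (T ⊔ centralizerIn S T) (T ⊔ centralizerIn S T) b ∧ (∀ x ∈ T, b x = a x) ∧
      ∀ c ∈ centralizerIn S T, b c ∈ centralizerIn S T := by
  have hr := receptive_of_fullyNormalized hS hF (fullyNormalized_of_stronglyClosed hT)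
  obtain ⟨b, hb, h1, h2⟩ := exists_extension_centralizer hr ha
  refine ⟨b, hb.fiso_of_card hb.le (map_sup_mem hb (fun x hx => Subgroup.mem_sup_left (by
    rw [h1 x hx]; exact ha.mem hx)) (fun c hc => Subgroup.mem_sup_right (h2 c hc))) le_rfl, h1, h2⟩

/-- invariance under `Aut_F(T C_S(T))` -/
def Tinv (F : FusionSystem S) (T Y : Subgroup Ω) : Prop :=
  ∀ b, FIso F (T ⊔ centralizerIn S T) (T ⊔ centralizerIn S T) b → ∀ y ∈ Y, b y ∈ Y

/-- **Criterion** for a subgroup of `C_S(T)` to centralize the normal subsystem `E`. -/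
theorem cen_of_fixed [Finite S] [Fact p.Prime] (hS : IsPGroup p S) (hF : F.IsSaturated p) (hEs : E.IsSaturated p)
    (hE : Inv E F) (hx : Ext E F) (hY : Y ≤ centralizerIn S T) (hYinv : Tinv F T Y)
    (hfix : ∀ P a, TC F T P → F.IsFullyNormalized P → FMap E P a → PP F p (P ⊔ centralizerIn S P) a →
      (∀ x ∈ P, a x ∈ P) → (∀ c ∈ centralizerIn S P, c⁻¹ * a c ∈ P) → ∀ y ∈ Y, a y = y) : Cen F E Y := by
  have hT := hE.closed
  have hTS := hT.1
  have hTp := isPGroup_of_le hS hTS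
  have hTfin : Finite T := finite_of_le hTS
  have hstr := FusionFrat.Inv.strong hE
  have hYS : Y ≤ S := hY.trans (centralizerIn_le S T)
  have hYT : ∀ t ∈ T, ∀ y ∈ Y, t * y * t⁻¹ = y := fun t ht y hy => by
    have := (hY hy).2 t ht
    rw [this, mul_inv_cancel_right]
  refine ⟨hY, rep_induction hTp hEs (fun P f => Fix F Y P f) ?_ ?_ ?_ ?_ ?_⟩
  · exact fun P f g _ hfg h => fix_congr h hfg
  · exact fun P Q f _ hPQ h => fix_restr h hPQ
  · exact fun P Q f g hf _ h1 h2 => fix_comp (fun x hx => hf.mem hx) h1 h2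
  · exact fun P Q f g hf _ hgf h1 => fix_inv (fun y hy => hf.mem_iff.1 hy) hgf h1
  · intro P hPT
    by_cases hTC : TC F T P
    · -- a fully normalized representative
      obtain ⟨P₁, k, hP₁, hk, -, -⟩ := exists_fullyNormalized_map hS hF (hPT.trans hTS)
      obtain ⟨α, f₀, hα, hf₀, h1⟩ := hE.frattini hPT hk.1
      obtain ⟨Q, hQ⟩ := hf₀.exists_iso
      have hQT : Q ≤ T := hQ.le_right
      have hQP₁ : FIso F Q P₁ α := by
        refine ⟨hα.1.restrict hQT, fun y => ⟨fun hy => ?_, ?_⟩⟩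
        · obtain ⟨x, hx, rfl⟩ := hk.mem_iff.1 hy
          exact ⟨f₀ x, hQ.mem hx, (h1 x hx).symm⟩
        · rintro ⟨z, hz, rfl⟩
          obtain ⟨x, hx, rfl⟩ := hQ.mem_iff.1 hz
          rw [← h1 x hx]; exact hk.mem hx
      have hP₁T : P₁ ≤ T := le_of_fiso hT hQT hQP₁
      have hP₁E : E.IsFullyNormalized P₁ := fullyNormalized_sub hS hF hT hE.sub hP₁T hP₁
      -- Q is fully normalized in E
      have hQE : E.IsFullyNormalized Q := by
        refine ⟨hQT, fun R hR => ?_⟩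
        have hRF : F.IsConj R P₁ := isConj_trans (isConj_symm (sub_isConj hE.sub hR)) hQP₁.isConj
        obtain ⟨m, hm, hmN, hmN'⟩ := exists_map_to_fullyNormalized hS hF hP₁ hRF
        have h2 := map_normalizer_inf hT hmN hmN'
        have h3 : Nat.card (normalizerIn T R) ≤ Nat.card (normalizerIn T P₁) :=
          (hmN.restrict (inf_le_inf_right _ hTS)).card_image_le h2 ((normalizerIn_le T P₁).trans hTS)
        refine h3.trans ?_
        obtain ⟨α', hα', e1, e2⟩ := hα.symm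
        refine (hα'.1.restrict (normalizerIn_le T P₁)).card_image_le (T := normalizerIn T Q) (fun x hx => ?_)
          ((normalizerIn_le T Q).trans hTS)
        refine ⟨hα'.mem hx.1, ?_⟩
        have hP₁Q : FIso F P₁ Q α' := by
          refine ⟨hα'.1.restrict hP₁T, fun y => ⟨fun hy => ⟨α y, hQP₁.mem hy, e1 y (hQT hy)⟩, ?_⟩⟩
          rintro ⟨z, hz, rfl⟩
          obtain ⟨w, hw, rfl⟩ := hQP₁.mem_iff.1 hz
          rw [e1 w (hQT hw)]; exact hw
        exact hP₁Q.map_normalizer hα'.1 hP₁T hx.1 hx.2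
      refine ⟨Q, hQ.isConj, hQE, fun g hg _ => ?_⟩
      have hQa := fullyAutomized_of_fullyNormalized hTp hEs hQE
      refine fiso_induction hQa (fun f => Fix F Y Q f) (fun f g h hfg => fix_congr h hfg) ?_
        (fun f g hf _ h1 h2 => fix_comp (fun x hx => hf.mem hx) h1 h2)
        (fun f g hf _ h1 hgf _ => fix_inv (fun y hy => hf.mem_iff.1 hy) hgf h1) ?_ g hg
      · intro t ht
        exact ⟨fun x => t * x * t⁻¹, fmap_conj F (sup_le (hQT.trans hTS) hYS) (hTS ht.1), fun _ _ => rfl,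
          fun y hy => hYT t ht.1 y hy⟩
      · intro φ hφ
        obtain ⟨α', hα', e1, e2⟩ := hα.symm
        have hP₁Q : FIso F P₁ Q α' := by
          refine ⟨hα'.1.restrict hP₁T, fun y => ⟨fun hy => ⟨α y, hQP₁.mem hy, e1 y (hQT hy)⟩, ?_⟩⟩
          rintro ⟨z, hz, rfl⟩
          obtain ⟨w, hw, rfl⟩ := hQP₁.mem_iff.1 hz
          rw [e1 w (hQT hw)]; exact hw
        have e2' : ∀ y ∈ P₁, α (α' y) = y := fun y hy => e2 y (hP₁T hy)
        have hTC₁ : TC F T P₁ := hTC.conj hT hk.isConj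
        -- transported automorphism
        have hφF := pp_sub hE.sub hφ
        have hψ : PP F p P₁ (fun y => α (φ (α' y))) :=
          hφF.transport hQP₁ hP₁Q (fun x hx => e1 x (hQT hx)) e2'
        have hψE : FMap E P₁ (fun y => α (φ (α' y))) :=
          hstr.transport hQT hQP₁ (fun x hx => e1 x (hQT hx)) hφ.1
        have hψEi : FIso E P₁ P₁ (fun y => α (φ (α' y))) := ⟨hψE, hψ.1.2⟩
        obtain ⟨c, hc, hc1, hc2⟩ := exists_pp_ext hψ (extZ_all hS hF hEs hE hx P₁ _ hTC₁ hψEi)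
        have hcY := hfix P₁ c hTC₁ hP₁ (hψE.congr fun x hx => (hc1 x hx).symm) hc
          (fun x hx => by rw [hc1 x hx]; exact hψ.mem hx) hc2
        -- extend α
        obtain ⟨β, hβ, hβ1, hβ2⟩ := exists_aut_ext hS hF hT hα
        obtain ⟨β', hβ', b1, b2⟩ := hβ.symm
        have hTle : T ≤ T ⊔ centralizerIn S T := le_sup_left
        have hYle : Y ≤ T ⊔ centralizerIn S T := hY.trans le_sup_right
        have hβ'T : ∀ x ∈ T, β' x = α' x := by
          intro x hx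
          obtain ⟨y, hy, rfl⟩ := hα.mem_iff.1 hx
          rw [e1 y hy, ← hβ1 y hy, b1 y (hTle hy)]
        have hYP₁ : Y ≤ P₁ ⊔ centralizerIn S P₁ :=
          (hY.trans (inf_le_inf_left _ (Subgroup.centralizer_le hP₁T))).trans le_sup_right
        have hP₁le : P₁ ≤ P₁ ⊔ centralizerIn S P₁ := le_sup_left
        have s1 : FMap F (Q ⊔ Y) β := hβ.1.restrict (sup_le (hQT.trans hTle) hYle)
        have s1m : ∀ x ∈ Q ⊔ Y, β x ∈ P₁ ⊔ Y := map_sup_mem s1 (fun x hx => Subgroup.mem_sup_left (by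
          rw [hβ1 x (hQT hx)]; exact hQP₁.mem hx)) (fun y hy => Subgroup.mem_sup_right (hYinv β hβ y hy))
        have s2 : FMap F (P₁ ⊔ Y) c := hc.map.restrict (sup_le hP₁le hYP₁)
        have s2m : ∀ x ∈ P₁ ⊔ Y, c x ∈ P₁ ⊔ Y := map_sup_mem s2 (fun x hx => Subgroup.mem_sup_left (by
          rw [hc1 x hx]; exact hψ.mem hx)) (fun y hy => Subgroup.mem_sup_right (by rw [hcY y hy]; exact hy))
        have s3 : FMap F (P₁ ⊔ Y) β' := hβ'.1.restrict (sup_le (hP₁T.trans hTle) hYle)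
        refine ⟨fun x => β' (c (β x)), (s1.comp s2 s1m).comp s3 (fun x hx => s2m _ (s1m x hx)), fun x hx => ?_,
          fun y hy => ?_⟩
        · show β' (c (β x)) = φ x
          have hxP : α x ∈ P₁ := hQP₁.mem hx
          rw [hβ1 x (hQT hx), hc1 _ hxP, e1 x (hQT hx), hβ'T _ (hP₁T (hQP₁.mem (hφ.mem hx))), e1 _ (hQT (hφ.mem hx))]
        · show β' (c (β y)) = y
          rw [hcY _ (hYinv β hβ y hy), b1 y (hYle hy)]
    · obtain ⟨Q, hPQ, hQ⟩ := exists_fullyNormalized_conj E hPT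
      refine ⟨Q, hPQ, hQ, fun f hf hbig => ?_⟩
      have hQr := receptive_of_fullyNormalized hTp hEs hQ
      have hQfc := fullyCentralized_of_fullyNormalized hTp hEs hQ
      have hnc : ¬ centralizerIn T Q ≤ Q := fun h => by
        have h1 := (isCentric_iff_of_fullyCentralized hQfc).2 h
        exact hTC (((centric_iff_tc hE).1 h1).conj hT (sub_isConj hE.sub (isConj_symm hPQ)))
      obtain ⟨g, hg, hg1, -⟩ := exists_extension_centralizer hQr hf
      have hlt : Q < Q ⊔ centralizerIn T Q := lt_of_le_of_ne le_sup_left fun h => hnc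
        ((le_sup_right : centralizerIn T Q ≤ Q ⊔ centralizerIn T Q).trans h.ge)
      have : Finite ↥(Q ⊔ centralizerIn T Q) := finite_of_le hg.le
      exact fix_congr (fix_restr (hbig _ g (card_lt hlt) hg) le_sup_left) hg1


/-! ### The focal subgroup of `C_F(T)` -/

/-- the focal subgroup of `C_F(T)` -/
noncomputable def focT (F : FusionSystem S) (T : Subgroup Ω) (hT : T ≤ S) : Subgroup Ω := (centSys F T hT).focalSubgroup

theorem focT_le {hT : T ≤ S} : focT F T hT ≤ centralizerIn S T := Cfsg.Agent.Lib.FusionFocal.focal_le _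

theorem focT_tinv [Finite S] (hT : F.StronglyClosed T) : Tinv F T (focT F T hT.1) := by
  intro b hb y hy
  have hbT : ∀ x ∈ T, b x ∈ T := fun x hx => StronglyClosed.map_mem F hT hb.1 (Subgroup.mem_sup_left hx) hx
  have hbTi : FIso F T T b := fiso_restrict hb.1 le_sup_left hbT
  have hbC : ∀ c ∈ centralizerIn S T, b c ∈ centralizerIn S T := fun c hc =>
    ⟨hb.1.map_mem (Subgroup.mem_sup_right hc), hbTi.map_centralizer hb.1 le_sup_left (Subgroup.mem_sup_right hc) hc.2⟩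
  have hle : (centSys F T hT.1).focalSubgroup ≤ T ⊔ centralizerIn S T := (focT_le (hT := hT.1)).trans le_sup_right
  have hmain : ∀ y ∈ (centSys F T hT.1).focalSubgroup, b y ∈ (centSys F T hT.1).focalSubgroup := by
    intro y hy
    let K : Subgroup Ω :=
      { carrier := {y | y ∈ T ⊔ centralizerIn S T ∧ b y ∈ (centSys F T hT.1).focalSubgroup}
        one_mem' := ⟨Subgroup.one_mem _, by rw [hb.1.map_one]; exact Subgroup.one_mem _⟩
        mul_mem' := by
          rintro x y ⟨hx, hx'⟩ ⟨hy, hy'⟩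
          exact ⟨Subgroup.mul_mem _ hx hy, by rw [hb.1.map_mul hx hy]; exact Subgroup.mul_mem _ hx' hy'⟩
        inv_mem' := by
          rintro x ⟨hx, hx'⟩
          exact ⟨Subgroup.inv_mem _ hx, by rw [hb.1.map_inv hx]; exact Subgroup.inv_mem _ hx'⟩ }
    have hK : (centSys F T hT.1).focalSubgroup ≤ K := by
      rw [Cfsg.Agent.Lib.FusionFocal.focalSubgroup_eq, Subgroup.closure_le]
      rintro _ ⟨P, f, hf, x, hx, rfl⟩
      obtain ⟨hP, hfP, g, hg, hg1, hg2⟩ := fmap_centSys.1 hf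
      have hxC := hP hx
      have hfxC := hfP x hx
      have hm1 : x ∈ T ⊔ centralizerIn S T := Subgroup.mem_sup_right hxC
      have hm2 : f x ∈ T ⊔ centralizerIn S T := Subgroup.mem_sup_right hfxC
      refine ⟨Subgroup.mul_mem _ (Subgroup.inv_mem _ hm1) hm2, ?_⟩
      rw [hb.1.map_mul (Subgroup.inv_mem _ hm1) hm2, hb.1.map_inv hm1]
      -- the conjugated map
      obtain ⟨b', hb', b1, b2⟩ := hb.symm
      have hb'T : ∀ x ∈ T, b' x ∈ T := fun x hx => StronglyClosed.map_mem F hT hb'.1 (Subgroup.mem_sup_left hx) hx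
      have hzle : Subgroup.zpowers (b x) ≤ centralizerIn S T := by rw [Subgroup.zpowers_le]; exact hbC x hxC
      have hPle : Subgroup.zpowers (b x) ⊔ T ≤ T ⊔ centralizerIn S T := sup_le (hzle.trans le_sup_right) le_sup_left
      have hle2 : P ⊔ T ≤ T ⊔ centralizerIn S T := sup_le (hP.trans le_sup_right) le_sup_left
      have hpow : ∀ k : ℤ, b' ((b x) ^ k) = x ^ k := fun k => by
        rw [hb'.1.map_zpow (hb.mem hm1), b1 x hm1]
      have m1 : ∀ y ∈ Subgroup.zpowers (b x) ⊔ T, b' y ∈ P ⊔ T := map_sup_mem (hb'.1.restrict hPle) (fun y hy => by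
        obtain ⟨k, rfl⟩ := Subgroup.mem_zpowers_iff.1 hy
        rw [hpow]; exact Subgroup.mem_sup_left (P.zpow_mem hx k)) (fun y hy => Subgroup.mem_sup_right (hb'T y hy))
      have m2 : ∀ y ∈ P ⊔ T, g y ∈ T ⊔ centralizerIn S T := map_sup_mem hg (fun y hy => by
        rw [hg1 y hy]; exact Subgroup.mem_sup_right (hfP y hy)) (fun y hy => by
        rw [hg2 y hy]; exact Subgroup.mem_sup_left hy)
      have hcomp : FMap F (Subgroup.zpowers (b x) ⊔ T) (fun y => b (g (b' y))) :=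
        ((hb'.1.restrict hPle).comp hg m1).comp hb.1 (fun y hy => m2 _ (m1 y hy))
      have hval : b (g (b' (b x))) = b (f x) := by rw [b1 x hm1, hg1 x hx]
      have hcent : FMap (centSys F T hT.1) (Subgroup.zpowers (b x)) (fun y => b (g (b' y))) := by
        refine fmap_centSys.2 ⟨hzle, fun y hy => ?_, _, hcomp, fun _ _ => rfl, fun y hy => ?_⟩
        · obtain ⟨k, rfl⟩ := Subgroup.mem_zpowers_iff.1 hy
          show b (g (b' ((b x) ^ k))) ∈ _
          rw [hpow, hg1 _ (P.zpow_mem hx k)]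
          exact hbC _ (hfP _ (P.zpow_mem hx k))
        · show b (g (b' y)) = y
          rw [hg2 _ (hb'T y hy), b2 y (Subgroup.mem_sup_left hy)]
      have := Cfsg.Agent.Lib.FusionFocal.mem_focal hcent (Subgroup.mem_zpowers (b x))
      have h9 : (b x)⁻¹ * b (g (b' (b x))) ∈ (centSys F T hT.1).focalSubgroup := this
      rwa [hval] at h9
    exact (hK hy).2
  exact hmain y hy

/-- The focal subgroup of `C_F(T)` centralizes `E`. -/
theorem focT_cen [Finite S] [Fact p.Prime] (hS : IsPGroup p S) (hF : F.IsSaturated p) (hEs : E.IsSaturated p)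
    (hE : Inv E F) (hx : Ext E F) : Cen F E (focT F T hE.closed.1) := by
  refine cen_of_fixed hS hF hEs hE hx focT_le (focT_tinv hE.closed) ?_
  intro P a hTC hP haE ha haP hc y hy
  have hPS := hP.1
  have hPc := fullyCentralized_of_fullyNormalized hS hF hP
  have hVM : centralizerIn S P ≤ P ⊔ centralizerIn S P := le_sup_right
  have hCT : centralizerIn S T ≤ centralizerIn S P := inf_le_inf_left _ (Subgroup.centralizer_le hTC.1)
  have hle : (centSys F T hE.closed.1).focalSubgroup ≤ P ⊔ centralizerIn S P :=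
    ((focT_le (hT := hE.closed.1)).trans hCT).trans hVM
  let K : Subgroup Ω :=
    { carrier := {y | y ∈ P ⊔ centralizerIn S P ∧ a y = y}
      one_mem' := ⟨Subgroup.one_mem _, ha.map.map_one⟩
      mul_mem' := by
        rintro x y ⟨hx, hx'⟩ ⟨hy, hy'⟩
        exact ⟨Subgroup.mul_mem _ hx hy, by rw [ha.map.map_mul hx hy, hx', hy']⟩
      inv_mem' := by
        rintro x ⟨hx, hx'⟩
        exact ⟨Subgroup.inv_mem _ hx, by rw [ha.map.map_inv hx, hx']⟩ }
  have hK : (centSys F T hE.closed.1).focalSubgroup ≤ K := by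
    rw [Cfsg.Agent.Lib.FusionFocal.focalSubgroup_eq, Subgroup.closure_le]
    rintro _ ⟨X, f, hf, x, hx, rfl⟩
    have hf' : FMap (centSys F P hPS) X f := cent_fmap_mono hTC.1 hf
    obtain ⟨hX, hfX, -⟩ := fmap_centSys.1 hf'
    have h1 := zeta_const hS hF hPc ha haP hc X f hf' x hx
    have hxm := hVM (hX hx)
    have hfm := hVM (hfX x hx)
    have hinvm : x⁻¹ ∈ P ⊔ centralizerIn S P := Subgroup.inv_mem _ hxm
    refine ⟨Subgroup.mul_mem _ hinvm hfm, ?_⟩
    rw [ha.map.map_mul hinvm hfm, ha.map.map_inv hxm]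
    -- (a x)⁻¹ * a (f x) = x⁻¹ * f x
    obtain ⟨z, hz⟩ : ∃ z, z = x⁻¹ * a x := ⟨_, rfl⟩
    have hzP : z ∈ P := hz ▸ hc x (hX hx)
    have e1 : a x = x * z := by rw [hz]; group
    have e2 : a (f x) = f x * z := by rw [hz, ← h1]; group
    have e3 := mem_centralizer_iff'.1 (Subgroup.mul_mem _ (Subgroup.inv_mem _ (hX hx).2) (hfX x hx).2) z hzP
    rw [e1, e2]
    calc (x * z)⁻¹ * (f x * z) = z⁻¹ * ((x⁻¹ * f x) * z * (x⁻¹ * f x)⁻¹) * (x⁻¹ * f x) := by group
      _ = x⁻¹ * f x := by rw [e3]; group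
  exact (hK hy).2

/-! ### Existence of the largest centralizing subgroup -/

/-- the members of the family are permuted by `Aut_F(T C_S(T))` -/
theorem cen_image [Finite S] (hE : Inv E F) {b : Ω → Ω}
    (hb : FIso F (T ⊔ centralizerIn S T) (T ⊔ centralizerIn S T) b) (hY : Cen F E Y)
    (hZ : ∀ z, z ∈ Z ↔ ∃ y ∈ Y, b y = z) : Cen F E Z := by
  have hT := hE.closed
  have hTle : T ≤ T ⊔ centralizerIn S T := le_sup_left
  have hCle : centralizerIn S T ≤ T ⊔ centralizerIn S T := le_sup_right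
  have hbT : ∀ x ∈ T, b x ∈ T := fun x hx => StronglyClosed.map_mem F hT hb.1 (hTle hx) hx
  have hbTi : FIso F T T b := fiso_restrict hb.1 hTle hbT
  have hbC : ∀ c ∈ centralizerIn S T, b c ∈ centralizerIn S T := fun c hc =>
    ⟨hb.1.map_mem (hCle hc), hbTi.map_centralizer hb.1 hTle (hCle hc) hc.2⟩
  obtain ⟨b', hb', b1, b2⟩ := hb.symm
  have hb'T : ∀ x ∈ T, b' x ∈ T := fun x hx => StronglyClosed.map_mem F hT hb'.1 (hTle hx) hx
  have hb'Ti : FIso F T T b' := fiso_restrict hb'.1 hTle hb'T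
  have hb'Z : ∀ z ∈ Z, b' z ∈ Y := by
    intro z hz
    obtain ⟨y, hy, rfl⟩ := (hZ z).1 hz
    rw [b1 y (hCle (hY.1 hy))]; exact hy
  refine ⟨fun z hz => ?_, fun P f hf => ?_⟩
  · obtain ⟨y, hy, rfl⟩ := (hZ z).1 hz
    exact hbC y (hY.1 hy)
  · -- transport f by b'
    obtain ⟨P', hP'⟩ := (hb'Ti.1.restrict hf.le).exists_iso
    obtain ⟨g, hg, hg1⟩ := hE.conj hb'Ti hf (fun y => hP'.mem_iff)
    obtain ⟨h, hh, hh1, hh2⟩ := hY.2 P' g hg
    have hZle : Z ≤ T ⊔ centralizerIn S T := fun z hz => by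
      obtain ⟨y, hy, rfl⟩ := (hZ z).1 hz
      exact hCle (hbC y (hY.1 hy))
    have hPZ : P ⊔ Z ≤ T ⊔ centralizerIn S T := sup_le (hf.le.trans hTle) hZle
    have m1 : ∀ x ∈ P ⊔ Z, b' x ∈ P' ⊔ Y := map_sup_mem (hb'.1.restrict hPZ)
      (fun x hx => Subgroup.mem_sup_left (hP'.mem hx)) (fun z hz => Subgroup.mem_sup_right (hb'Z z hz))
    have m2 : ∀ x ∈ P' ⊔ Y, h x ∈ T ⊔ centralizerIn S T := map_sup_mem hh (fun x hx => by
      rw [hh1 x hx]; exact hTle (hg.map_mem hx)) (fun y hy => by rw [hh2 y hy]; exact hCle (hY.1 hy))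
    refine ⟨fun x => b (h (b' x)), ((hb'.1.restrict hPZ).comp hh m1).comp hb.1 (fun x hx => m2 _ (m1 x hx)),
      fun x hx => ?_, fun z hz => ?_⟩
    · show b (h (b' x)) = f x
      rw [hh1 _ (hP'.mem hx), hg1 x hx, b2 _ (hTle (hf.map_mem hx))]
    · show b (h (b' z)) = z
      rw [hh2 _ (hb'Z z hz), b2 z (hZle hz)]

/-- The join of the centralizing subgroups. -/
def cenS (F : FusionSystem S) (E : FusionSystem T) : Subgroup Ω := sSup {Y : Subgroup Ω | Cen F E Y}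

theorem le_cenS (h : Cen F E Y) : Y ≤ cenS F E := le_sSup h

theorem cenS_le : cenS F E ≤ centralizerIn S T := sSup_le fun _ h => h.1

theorem cenS_tinv [Finite S] (hE : Inv E F) : Tinv F T (cenS F E) := by
  intro b hb y hy
  have hCle : centralizerIn S T ≤ T ⊔ centralizerIn S T := le_sup_right
  let K : Subgroup Ω :=
    { carrier := {y | y ∈ T ⊔ centralizerIn S T ∧ b y ∈ cenS F E}
      one_mem' := ⟨Subgroup.one_mem _, by rw [hb.1.map_one]; exact Subgroup.one_mem _⟩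
      mul_mem' := by
        rintro x y ⟨hx, hx'⟩ ⟨hy, hy'⟩
        exact ⟨Subgroup.mul_mem _ hx hy, by rw [hb.1.map_mul hx hy]; exact Subgroup.mul_mem _ hx' hy'⟩
      inv_mem' := by
        rintro x ⟨hx, hx'⟩
        exact ⟨Subgroup.inv_mem _ hx, by rw [hb.1.map_inv hx]; exact Subgroup.inv_mem _ hx'⟩ }
  have hK : cenS F E ≤ K := by
    refine sSup_le fun Y hY y hy => ?_
    obtain ⟨Z, hZ⟩ := (hb.1.restrict (hY.1.trans hCle)).exists_iso
    exact ⟨hCle (hY.1 hy), le_cenS (cen_image hE hb hY fun z => hZ.mem_iff) (hZ.mem hy)⟩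
  exact (hK hy).2

theorem cenS_cen [Finite S] [Fact p.Prime] (hS : IsPGroup p S) (hF : F.IsSaturated p) (hEs : E.IsSaturated p)
    (hE : Inv E F) (hx : Ext E F) : Cen F E (cenS F E) := by
  refine cen_of_fixed hS hF hEs hE hx cenS_le (cenS_tinv hE) ?_
  intro P a hTC hP haE ha haP hc y hy
  have hPc := fullyCentralized_of_fullyNormalized hS hF hP
  have hVM : centralizerIn S P ≤ P ⊔ centralizerIn S P := le_sup_right
  have hCT : centralizerIn S T ≤ centralizerIn S P := inf_le_inf_left _ (Subgroup.centralizer_le hTC.1)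
  let K : Subgroup Ω :=
    { carrier := {y | y ∈ P ⊔ centralizerIn S P ∧ a y = y}
      one_mem' := ⟨Subgroup.one_mem _, ha.map.map_one⟩
      mul_mem' := by
        rintro x y ⟨hx, hx'⟩ ⟨hy, hy'⟩
        exact ⟨Subgroup.mul_mem _ hx hy, by rw [ha.map.map_mul hx hy, hx', hy']⟩
      inv_mem' := by
        rintro x ⟨hx, hx'⟩
        exact ⟨Subgroup.inv_mem _ hx, by rw [ha.map.map_inv hx, hx']⟩ }
  have hK : cenS F E ≤ K := sSup_le fun Y hY y hy =>
    ⟨hVM (hCT (hY.1 hy)), fixed_of_fix hS hF hPc ha haP hc (hY.1.trans hCT) (hY.2 P a haE) y hy⟩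
  exact (hK hy).2

end Cfsg.Agent.Lib.FusionZeta
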