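import Mathlib
import Cfsg.Agent.Lib.FusionZeta

/-!
The centralizer in `S` of a normal subsystem is strongly closed.
-/

set_option autoImplicit false
open Cfsg Cfsg.FusionSystem Cfsg.Agent.Lib.FusionBasic Cfsg.Agent.Lib.FusionSat Cfsg.Agent.Lib.FusionNormal
  Cfsg.Agent.Lib.FusionInvar Cfsg.Agent.Lib.FusionTools Cfsg.Agent.Lib.FusionPP Cfsg.Agent.Lib.FusionStrong
  Cfsg.Agent.Lib.FusionSys Cfsg.Agent.Lib.FusionFrat Cfsg.Agent.Lib.FusionPrime Cfsg.Agent.Lib.FusionTC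
  Cfsg.Agent.Lib.FusionClosed Cfsg.Agent.Lib.FusionStab Cfsg.Agent.Lib.FusionZeta

namespace Cfsg.Agent.Lib.FusionCenClosed

variable {Ω : Type*} [Group Ω] {S T : Subgroup Ω} {F : FusionSystem S} {E : FusionSystem T} {P Q R U M X Y Z : Subgroup Ω}
  {a b f g : Ω → Ω} {p : ℕ}

/-! ### Centric radical subgroups meet `T` in `T`-centric subgroups -/

/-- automorphisms of `Q` stabilizing `Q ≥ Q ∩ T ≥ 1` are inner -/
def RT (F : FusionSystem S) (T Q : Subgroup Ω) : Prop :=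
  ∀ f, FIso F Q Q f → (∀ x ∈ Q, x ∈ T → f x = x) → (∀ x ∈ Q, x⁻¹ * f x ∈ T) → ∃ q ∈ Q, ∀ x ∈ Q, f x = q * x * q⁻¹

theorem rt_of_radical [Finite S] [Fact p.Prime] (hS : IsPGroup p S) (hT : F.StronglyClosed T) (hr : F.IsRadical p Q) :
    RT F T Q := by
  have hQS : Q ≤ S := hr.1
  have : Finite Q := finite_of_le hQS
  have hle : stabT F T Q ≤ Inn Q := by
    refine le_inn_of_radical hr (fun κ hκ => hκ.1) ?_ (stabT_normal hT hQS)
    refine isPGroup_of_coprime_trivial fun g hg => ?_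
    obtain ⟨⟨κ, hκ⟩, hκe⟩ : ∃ κ : stabT F T Q, κ = g := ⟨g, rfl⟩
    rw [← hκe] at hg ⊢
    obtain ⟨h1, h2, h3⟩ := mem_stabT.1 hκ
    have hpp : PP F p Q (autFun κ) := pp_of_aut hQS h1 (by rw [← Subgroup.orderOf_coe] at hg; exact hg)
    refine Subtype.ext (eq_one_of_autFun fun x hx => ?_)
    exact hpp.fix hS (Y := Q ⊓ T) inf_le_left hx ⟨Q.mul_mem (Q.inv_mem hx) (hpp.mem hx), h3 x hx⟩
      (fun y hy => h2 y hy.1 hy.2)
  intro f hf h1 h2
  have hcoe : ∀ x ∈ Q, autFun (hf.equiv : MulAut Q) x = f x := fun x hx => by rw [autFun_of_mem _ hx]; rfl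
  have hmem : (hf.equiv : MulAut Q) ∈ stabT F T Q := mem_stabT.2 ⟨hf.equiv_mem_autGroup,
    fun x hx hxT => by rw [hcoe x hx]; exact h1 x hx hxT, fun x hx => by rw [hcoe x hx]; exact h2 x hx⟩
  have h3 := hle hmem
  rw [inn_eq_autInducedBy] at h3
  obtain ⟨q, hq, h4⟩ := mem_autInducedBy_iff.1 h3
  exact ⟨q, hq, fun x hx => h4 ⟨x, hx⟩⟩

theorem RT.conj [Finite S] (hT : F.StronglyClosed T) (h : RT F T Q) (hk : FIso F Q R g) : RT F T R := by
  intro f hf h1 h2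
  obtain ⟨k', hk', e1, e2⟩ := hk.symm
  obtain ⟨q, hq, h3⟩ := h (fun x => k' (f (g x))) ((hk.trans hf).trans hk') (fun x hx hxT => by
    show k' (f (g x)) = x
    rw [h1 _ (hk.mem hx) (StronglyClosed.map_mem F hT hk.1 hx hxT), e1 x hx]) (fun x hx => by
    show x⁻¹ * k' (f (g x)) ∈ T
    have h4 := h2 _ (hk.mem hx)
    have hfm := hf.mem (hk.mem hx)
    have h5 := StronglyClosed.map_mem F hT hk'.1 (R.mul_mem (R.inv_mem (hk.mem hx)) hfm) h4
    rw [hk'.1.map_mul (R.inv_mem (hk.mem hx)) hfm, hk'.1.map_inv (hk.mem hx), e1 x hx] at h5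
    exact h5)
  refine ⟨g q, hk.mem hq, fun y hy => ?_⟩
  obtain ⟨x, hx, rfl⟩ := hk.mem_iff.1 hy
  have h4 : k' (f (g x)) = q * x * q⁻¹ := h3 x hx
  rw [← hk.1.map_conj hq hx, ← h4, e2 _ (hf.mem (hk.mem hx))]

theorem cent_inf_le [Finite S] [Fact p.Prime] (hS : IsPGroup p S) (hT : F.StronglyClosed T) (hQ : F.IsCentric Q)
    (h : RT F T Q) : centralizerIn T (Q ⊓ T) ≤ Q ⊓ T := by
  have hQS := hQ.1
  have hTn := normalizes_of_stronglyClosed hT
  have hnorm : ∀ r ∈ Q, ∀ x ∈ Q ⊓ T, r * x * r⁻¹ ∈ Q ⊓ T := fun r hr x hx =>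
    ⟨Q.mul_mem (Q.mul_mem hr hx.1) (Q.inv_mem hr), (Subgroup.mem_normalizer_iff.1 (hTn (hQS hr)) x).1 hx.2⟩
  have hD : centralizerIn T (Q ⊓ T) ≤ Q := by
    by_contra hcon
    have hlt := lt_sup_normalizerIn (R := Q) (R₀ := centralizerIn T (Q ⊓ T)) hS hQS
      ((centralizerIn_le T _).trans hT.1) (fun r hr d hd => by
        refine ⟨(Subgroup.mem_normalizer_iff.1 (hTn (hQS hr)) d).1 hd.1, mem_centralizer_iff'.2 fun x hx => ?_⟩
        have h1 := hnorm _ (Q.inv_mem hr) x hx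
        rw [inv_inv] at h1
        have h2 := mem_centralizer_iff'.1 hd.2 _ h1
        calc r * d * r⁻¹ * x * (r * d * r⁻¹)⁻¹ = r * (d * (r⁻¹ * x * r) * d⁻¹) * r⁻¹ := by group
          _ = x := by rw [h2]; group) hcon
    refine hlt.not_ge (sup_le le_rfl fun d hd => ?_)
    obtain ⟨hd1, hd2⟩ := hd
    have hdS := hT.1 hd1.1
    obtain ⟨q, hq, h1⟩ := h (fun x => d * x * d⁻¹) (fiso_conj_of_normalizer F hQS hdS hd2)
      (fun x hx hxT => mem_centralizer_iff'.1 hd1.2 x ⟨hx, hxT⟩) (fun x hx => by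
        have h2 := (Subgroup.mem_normalizer_iff.1 (Subgroup.inv_mem _ (hTn (hQS hx))) d).1 hd1.1
        rw [inv_inv] at h2
        have h3 : x⁻¹ * (d * x * d⁻¹) = (x⁻¹ * d * x) * d⁻¹ := by group
        show x⁻¹ * (d * x * d⁻¹) ∈ T
        rw [h3]
        exact T.mul_mem h2 (T.inv_mem hd1.1))
    have h2 : q⁻¹ * d ∈ Q := hQ.2 Q (isConj_refl F hQS) ⟨S.mul_mem (S.inv_mem (hQS hq)) hdS,
      mem_centralizer_iff'.2 fun x hx => by
        have h3 := h1 x hx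
        calc q⁻¹ * d * x * (q⁻¹ * d)⁻¹ = q⁻¹ * (d * x * d⁻¹) * q := by group
          _ = x := by rw [h3]; group⟩
    have h3 := Q.mul_mem hq h2
    rwa [mul_inv_cancel_left] at h3
  exact fun x hx => ⟨hD hx, hx.1⟩

theorem tc_inf [Finite S] [Fact p.Prime] (hS : IsPGroup p S) (hF : F.IsSaturated p) (hT : F.StronglyClosed T)
    (hQ : F.IsCentric Q) (hr : F.IsRadical p Q) : TC F T (Q ⊓ T) := by
  have hQS := hQ.1
  have hTn := normalizes_of_stronglyClosed hT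
  have hRS : Q ⊓ T ≤ S := inf_le_left.trans hQS
  refine ⟨inf_le_right, fun R' hR' => ?_⟩
  obtain ⟨R₁, k, hR₁, hk, hkN, hkN'⟩ := exists_fullyNormalized_map hS hF hRS
  have hQN : Q ≤ normalizerIn S (Q ⊓ T) := fun r hr => ⟨hQS hr, Subgroup.mem_normalizer_iff.2 fun x => ⟨fun hx =>
    ⟨Q.mul_mem (Q.mul_mem hr hx.1) (Q.inv_mem hr), (Subgroup.mem_normalizer_iff.1 (hTn (hQS hr)) x).1 hx.2⟩, fun hx =>
      ⟨by
        have := Q.mul_mem (Q.mul_mem (Q.inv_mem hr) hx.1) hr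
        rwa [show r⁻¹ * (r * x * r⁻¹) * r = x by group] at this,
        (Subgroup.mem_normalizer_iff.1 (hTn (hQS hr)) x).2 hx.2⟩⟩⟩
  obtain ⟨Q₁, hQ₁⟩ := (hkN.restrict hQN).exists_iso
  have hRT := (rt_of_radical (p := p) hS hT hr).conj hT hQ₁
  have hc := cent_inf_le hS hT (isCentric_of_isConj hQ hQ₁.isConj) hRT
  have heq : Q₁ ⊓ T = R₁ := by
    ext y
    constructor
    · rintro ⟨hy, hyT⟩
      obtain ⟨x, hx, rfl⟩ := hQ₁.mem_iff.1 hy
      exact hk.mem ⟨hx, (strong_mem_iff hT hQ₁.1 hx).2 hyT⟩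
    · intro hy
      obtain ⟨x, hx, rfl⟩ := hk.mem_iff.1 hy
      exact ⟨hQ₁.mem hx.1, StronglyClosed.map_mem F hT hQ₁.1 hx.1 hx.2⟩
  rw [heq] at hc
  obtain ⟨m, hm, hmN, hmN'⟩ := exists_map_to_fullyNormalized hS hF hR₁ (isConj_trans (isConj_symm hR') hk.isConj)
  intro c hcT
  have hcS : c ∈ centralizerIn S R' := ⟨hT.1 hcT.1, hcT.2⟩
  have hcN := centralizerIn_le_normalizerIn S R' hcS
  have h1 : m c ∈ centralizerIn T R₁ := ⟨StronglyClosed.map_mem F hT hmN hcN hcT.1,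
    hm.map_centralizer hmN (le_normalizerIn hm.le_left) hcN hcT.2⟩
  exact hm.mem_of_map_mem hmN (le_normalizerIn hm.le_left) hcN (hc h1)

/-! ### The action of `T` -/

theorem zetaT_const [Finite S] [Fact p.Prime] (hS : IsPGroup p S) (hF : F.IsSaturated p) (hT : F.StronglyClosed T)
    (hTC : TC F T U) (hU : F.IsFullyCentralized U) {t : Ω} (ht : t ∈ normalizerIn T U) :
    ∀ (X : Subgroup Ω) (f : Ω → Ω), FMap (centSys F U hU.1) X f → ∀ x ∈ X,
      (f x)⁻¹ * (t * f x * t⁻¹) = x⁻¹ * (t * x * t⁻¹) := by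
  have hVS : centralizerIn S U ≤ S := centralizerIn_le S U
  have hVp : IsPGroup p ↥(centralizerIn S U) := isPGroup_of_le hS hVS
  have hVfin : Finite ↥(centralizerIn S U) := finite_of_le hVS
  have hK := centSys_saturated hS hF hU
  have hTn := normalizes_of_stronglyClosed hT
  have htS := hT.1 ht.1
  -- ζ_t takes values in U
  have hVconj : ∀ c ∈ centralizerIn S U, t * c * t⁻¹ ∈ centralizerIn S U := by
    intro c hc
    refine ⟨S.mul_mem (S.mul_mem htS hc.1) (S.inv_mem htS), mem_centralizer_iff'.2 fun x hx => ?_⟩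
    have h1 := (Subgroup.mem_normalizer_iff.1 (Subgroup.inv_mem _ ht.2) x).1 hx
    rw [inv_inv] at h1
    have h2 := mem_centralizer_iff'.1 hc.2 _ h1
    calc t * c * t⁻¹ * x * (t * c * t⁻¹)⁻¹ = t * (c * (t⁻¹ * x * t) * c⁻¹) * t⁻¹ := by group
      _ = x := by rw [h2]; group
  have hzT : ∀ c ∈ S, c⁻¹ * (t * c * t⁻¹) ∈ T := fun c hc => by
    have h1 := (Subgroup.mem_normalizer_iff.1 (Subgroup.inv_mem _ (hTn hc)) t).1 ht.1
    rw [inv_inv] at h1
    have h2 : c⁻¹ * (t * c * t⁻¹) = (c⁻¹ * t * c) * t⁻¹ := by group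
    rw [h2]; exact T.mul_mem h1 (T.inv_mem ht.1)
  have hzU : ∀ c ∈ centralizerIn S U, c⁻¹ * (t * c * t⁻¹) ∈ U := fun c hc => hTC.cent hT
    ⟨hzT c hc.1, Subgroup.mul_mem _ (Subgroup.inv_mem _ hc.2) (hVconj c hc).2⟩
  have hVU : ∀ v ∈ centralizerIn S U, ∀ x ∈ U, v * x * v⁻¹ = x := fun v hv x hx => mem_centralizer_iff'.1 hv.2 x hx
  have hcm : FMap F (centralizerIn S U) (fun x => t * x * t⁻¹) := fmap_conj F hVS htS
  have hmul : ∀ c ∈ centralizerIn S U, ∀ d ∈ centralizerIn S U,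
      (c * d)⁻¹ * (t * (c * d) * t⁻¹) = (c⁻¹ * (t * c * t⁻¹)) * (d⁻¹ * (t * d * t⁻¹)) :=
    fun c hc d hd => zeta_mul hVU hcm hzU hc hd
  have hinv : ∀ c ∈ centralizerIn S U, (c⁻¹)⁻¹ * (t * c⁻¹ * t⁻¹) = (c⁻¹ * (t * c * t⁻¹))⁻¹ :=
    fun c hc => zeta_inv hVU hcm hzU hc
  have hcomm : ∀ c ∈ centralizerIn S U, ∀ d ∈ centralizerIn S U,
      (c⁻¹ * (t * c * t⁻¹)) * (d⁻¹ * (t * d * t⁻¹)) * (c⁻¹ * (t * c * t⁻¹))⁻¹ = d⁻¹ * (t * d * t⁻¹) :=
    fun c hc d hd => hVU _ (Subgroup.mul_mem _ (Subgroup.inv_mem _ hc) (hVconj c hc)) _ (hzU d hd)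
  refine alperin_induction_cr hVp hK (fun X f => ∀ x ∈ X, (f x)⁻¹ * (t * f x * t⁻¹) = x⁻¹ * (t * x * t⁻¹)) ?_ ?_ ?_ ?_ ?_
  · intro X f g _ h1 h2 x hx
    rw [← h2 x hx]; exact h1 x hx
  · intro X s hX hs x hx
    have hxV := hX hx
    show (s * x * s⁻¹)⁻¹ * (t * (s * x * s⁻¹) * t⁻¹) = x⁻¹ * (t * x * t⁻¹)
    rw [hmul _ (Subgroup.mul_mem _ hs hxV) _ (Subgroup.inv_mem _ hs), hmul _ hs _ hxV, hinv _ hs, hcomm s hs x hxV]
  · intro X Y f g hf h1 hg h2 h3 x hx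
    rw [h2 _ (h3 x hx), h1 x hx]
  · intro X Y f g hf h1 hg h2 h3 y hy
    have h4 := h1 _ (hg.mem hy)
    rw [h3 y hy] at h4
    exact h4.symm
  · intro X φ hXn hXc hXr hφ
    have hXV : X ≤ centralizerIn S U := hXn.1
    refine fiso_induction (fullyAutomized_of_fullyNormalized hVp hK hXn)
      (fun φ => ∀ x ∈ X, (φ x)⁻¹ * (t * φ x * t⁻¹) = x⁻¹ * (t * x * t⁻¹)) ?_ ?_ ?_ ?_ ?_ φ hφ
    · intro f g h1 h2 x hx
      rw [← h2 x hx]; exact h1 x hx
    · intro s hs x hx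
      have hxV := hXV hx
      have hs' := hs.1
      show (s * x * s⁻¹)⁻¹ * (t * (s * x * s⁻¹) * t⁻¹) = x⁻¹ * (t * x * t⁻¹)
      rw [hmul _ (Subgroup.mul_mem _ hs' hxV) _ (Subgroup.inv_mem _ hs'), hmul _ hs' _ hxV, hinv _ hs', hcomm s hs' x hxV]
    · intro f g hf _ h1 h2 x hx
      rw [h2 _ (hf.mem hx), h1 x hx]
    · intro f g _ hg h1 _ h3 y hy
      have h4 := h1 _ (hg.mem hy)
      rw [h3 y hy] at h4
      exact h4.symm
    · intro β hβ x hx
      obtain ⟨-, -, g, hg, hg1, hg2⟩ := fmap_centSys.1 hβ.map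
      have hβF := pp_sub (centSys_sub (F := F) (hX := hU.1)) hβ
      have hpp := pp_sup_id hβF hg hg1 hg2
      have hinf : (X ⊔ U) ⊓ T = U := by
        refine le_antisymm ?_ (le_inf le_sup_right hTC.1)
        rintro y ⟨hy, hyT⟩
        have hn : X ≤ Subgroup.normalizer (U : Set Ω) := fun x hx => centralizer_le_normalizer' U (hXV hx).2
        obtain ⟨x, hx, u, hu, rfl⟩ := (mem_sup_of_normalizes hn).1 hy
        have hxT : x ∈ T := by
          have := T.mul_mem hyT (T.inv_mem (hTC.1 hu))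
          rwa [mul_inv_cancel_right] at this
        exact U.mul_mem (hTC.cent hT ⟨hxT, (hXV hx).2⟩) hu
      obtain ⟨c, hc, hc1, hc2⟩ := extend_trivial hS hF hT (by rw [hinf]; exact hTC) hpp (fun y hy hyT => by
        have : y ∈ U := hinf ▸ (⟨hy, hyT⟩ : y ∈ (X ⊔ U) ⊓ T)
        exact hg2 y this)
      have hxm : x ∈ X ⊔ U ⊔ T := Subgroup.mem_sup_left (Subgroup.mem_sup_left hx)
      have htm : t ∈ X ⊔ U ⊔ T := Subgroup.mem_sup_right ht.1
      have hcx : c x = β x := by rw [hc1 x (Subgroup.mem_sup_left hx), hg1 x hx]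
      have h1 := hc2 _ (hzT x (hXV hx).1)
      rw [hc.map.map_mul (Subgroup.inv_mem _ hxm) (Subgroup.mul_mem _ (Subgroup.mul_mem _ htm hxm) (Subgroup.inv_mem _ htm)),
        hc.map.map_inv hxm, hc.map.map_conj htm hxm, hcx, hc2 t ht.1] at h1
      exact h1

/-! ### Strong closure -/

theorem mem_focT {hTS : T ≤ S} {x : Ω} (hx : x ∈ centralizerIn S T) (hf : FMap F (T ⊔ Subgroup.zpowers x) f)
    (h1 : ∀ t ∈ T, f t = t) (h2 : f x ∈ centralizerIn S T) : x⁻¹ * f x ∈ focT F T hTS := by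
  have hle : Subgroup.zpowers x ≤ centralizerIn S T := by rw [Subgroup.zpowers_le]; exact hx
  have hxm : x ∈ T ⊔ Subgroup.zpowers x := Subgroup.mem_sup_right (Subgroup.mem_zpowers x)
  refine Cfsg.Agent.Lib.FusionFocal.mem_focal (P := Subgroup.zpowers x) (fmap_centSys.2 ⟨hle, fun y hy => ?_, f, ?_,
    fun _ _ => rfl, h1⟩) (Subgroup.mem_zpowers x)
  · obtain ⟨k, rfl⟩ := Subgroup.mem_zpowers_iff.1 hy
    rw [hf.map_zpow hxm]
    exact Subgroup.zpow_mem _ h2 k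
  · rw [sup_comm]; exact hf

/-- The step of the strong closure. -/
theorem closed_step [Finite S] [Fact p.Prime] (hS : IsPGroup p S) (hF : F.IsSaturated p) (hE : Inv E F)
    {C : Subgroup Ω} (hCinv : Tinv F T C) (hCcen : Cen F E C) (hfoc : focT F T hE.closed.1 ≤ C)
    (hTC : TC F T (Q ⊓ T)) (hφ : FIso F Q Q f) {x : Ω} (hx : x ∈ Q) (hxC : x ∈ C) : f x ∈ C := by
  have hT := hE.closed
  have hTS := hT.1
  have hTp := isPGroup_of_le hS hTS
  have hTfin : Finite T := finite_of_le hTS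
  have hTle : T ≤ T ⊔ centralizerIn S T := le_sup_left
  have hCle : centralizerIn S T ≤ T ⊔ centralizerIn S T := le_sup_right
  have hxS := hφ.le_left hx
  obtain ⟨y, hy⟩ : ∃ y, y = f x := ⟨_, rfl⟩
  have hyS : y ∈ S := hy ▸ hφ.1.map_mem hx
  rw [← hy]
  have hxT : x ∈ centralizerIn S T := hCcen.1 hxC
  obtain ⟨U, hU⟩ : ∃ U, U = centralizerIn T (Subgroup.zpowers y) := ⟨_, rfl⟩
  have hUT : U ≤ T := hU ▸ centralizerIn_le T _
  have hmemU : ∀ t, t ∈ U ↔ t ∈ T ∧ y * t = t * y := by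
    intro t
    rw [hU]
    constructor
    · rintro ⟨h1, h2⟩
      exact ⟨h1, h2 y (Subgroup.mem_zpowers y)⟩
    · rintro ⟨h1, h2⟩
      refine ⟨h1, fun z hz => ?_⟩
      obtain ⟨k, rfl⟩ := Subgroup.mem_zpowers_iff.1 hz
      exact ((show Commute y t from h2).zpow_left k).eq
  -- Q ∩ T ≤ U
  have hQTi : FIso F (Q ⊓ T) (Q ⊓ T) f := by
    have : Finite ↥(Q ⊓ T) := finite_of_le (inf_le_right.trans hTS)
    exact fiso_restrict hφ.1 inf_le_left fun z hz => ⟨hφ.mem hz.1, StronglyClosed.map_mem F hT hφ.1 hz.1 hz.2⟩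
  have hQU : Q ⊓ T ≤ U := by
    intro u hu
    obtain ⟨v, hv, rfl⟩ := hQTi.mem_iff.1 hu
    refine (hmemU _).2 ⟨hu.2, ?_⟩
    have h1 : x * v = v * x := (hxT.2 v hv.2).symm
    rw [hy, ← hφ.1.map_mul hx hv.1, ← hφ.1.map_mul hv.1 hx, h1]
  have hTCU : TC F T U := hTC.mono hT hQU hUT
  -- a fully centralized conjugate
  have hzx : Subgroup.zpowers x ≤ S := by rw [Subgroup.zpowers_le]; exact hxS
  have hzy : Subgroup.zpowers y ≤ S := by rw [Subgroup.zpowers_le]; exact hyS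
  obtain ⟨Z', hZ', hZ'c⟩ := exists_fullyCentralized_conj F hzx
  obtain ⟨e, he⟩ := isConj_iff_fiso.1 hZ'
  have hZr := receptive_of_fullyCentralized hS hF hZ'c
  obtain ⟨κ, hκ, hκ1, hκ2⟩ := exists_extension_centralizer hZr he
  have hzxyi : FIso F (Subgroup.zpowers x) (Subgroup.zpowers y) f := by
    refine ⟨hφ.1.restrict (by rw [Subgroup.zpowers_le]; exact hx), fun w => ⟨fun hw => ?_, ?_⟩⟩
    · obtain ⟨k, rfl⟩ := Subgroup.mem_zpowers_iff.1 hw
      exact ⟨x ^ k, Subgroup.zpow_mem _ (Subgroup.mem_zpowers x) k, by rw [hφ.1.map_zpow hx, hy]⟩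
    · rintro ⟨w, hw, rfl⟩
      obtain ⟨k, rfl⟩ := Subgroup.mem_zpowers_iff.1 hw
      rw [hφ.1.map_zpow hx, ← hy]
      exact Subgroup.zpow_mem _ (Subgroup.mem_zpowers y) k
  obtain ⟨f', hf', f1, f2⟩ := hzxyi.symm
  obtain ⟨μ, hμ, hμ1, hμ2⟩ := exists_extension_centralizer hZr (hf'.trans he)
  have hxz : x ∈ Subgroup.zpowers x := Subgroup.mem_zpowers x
  have hyz : y ∈ Subgroup.zpowers y := Subgroup.mem_zpowers y
  obtain ⟨z, hz⟩ : ∃ z, z = e x := ⟨_, rfl⟩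
  have hκx : κ x = z := by rw [hκ1 x hxz, hz]
  have hμy : μ y = z := by
    rw [hμ1 y hyz, hz]
    show e (f' y) = e x
    rw [hy, f1 x hxz]
  -- κ on T
  have hTCx : T ≤ centralizerIn S (Subgroup.zpowers x) := fun t ht => ⟨hTS ht, fun w hw => by
    obtain ⟨k, rfl⟩ := Subgroup.mem_zpowers_iff.1 hw
    exact ((show Commute x t from (hxT.2 t ht).symm).zpow_left k).eq⟩
  have hTm : T ≤ Subgroup.zpowers x ⊔ centralizerIn S (Subgroup.zpowers x) := hTCx.trans le_sup_right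
  have hκT : FIso F T T κ := fiso_restrict hκ hTm fun t ht => StronglyClosed.map_mem F hT hκ (hTm ht) ht
  obtain ⟨b, hb, hb1, hb2⟩ := exists_aut_ext hS hF hT hκT
  obtain ⟨b', hb', b1, b2⟩ := hb.symm
  have hzC : z ∈ centralizerIn S T := by
    refine ⟨by rw [← hκx]; exact hκ.map_mem (Subgroup.mem_sup_left hxz), fun t ht => ?_⟩
    obtain ⟨s, hs, rfl⟩ := hκT.mem_iff.1 ht
    have h1 : s * x = x * s := hxT.2 s hs
    rw [← hκx, ← hκ.map_mul (hTm hs) (Subgroup.mem_sup_left hxz), ← hκ.map_mul (Subgroup.mem_sup_left hxz) (hTm hs), h1]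
  have hb'T : ∀ t ∈ T, b' t ∈ T := fun t ht => StronglyClosed.map_mem F hT hb'.1 (hTle ht) ht
  have hb'Ti : FIso F T T b' := fiso_restrict hb'.1 hTle hb'T
  have hb'C : ∀ c ∈ centralizerIn S T, b' c ∈ centralizerIn S T := fun c hc =>
    ⟨hb'.1.map_mem (hCle hc), hb'Ti.map_centralizer hb'.1 hTle (hCle hc) hc.2⟩
  have hmx : T ⊔ Subgroup.zpowers x ≤ Subgroup.zpowers x ⊔ centralizerIn S (Subgroup.zpowers x) :=
    sup_le hTm le_sup_left
  have hzCm : z ∈ C := by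
    have m1 : ∀ w ∈ T ⊔ Subgroup.zpowers x, κ w ∈ T ⊔ centralizerIn S T := map_sup_mem (hκ.restrict hmx)
      (fun t ht => hTle (hκT.mem ht)) (fun w hw => by
        obtain ⟨k, rfl⟩ := Subgroup.mem_zpowers_iff.1 hw
        rw [hκ.map_zpow (Subgroup.mem_sup_left hxz), hκx]
        exact Subgroup.zpow_mem _ (hCle hzC) k)
    have hcomp : FMap F (T ⊔ Subgroup.zpowers x) (fun w => b' (κ w)) := (hκ.restrict hmx).comp hb'.1 m1
    have h1 := mem_focT (hTS := hTS) hxT hcomp (fun t ht => by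
      show b' (κ t) = t
      rw [← hb1 t ht, b1 t (hTle ht)]) (by
      show b' (κ x) ∈ _
      rw [hκx]; exact hb'C z hzC)
    have h2 : x⁻¹ * b' z ∈ C := hfoc (by
      have : x⁻¹ * b' (κ x) ∈ focT F T hTS := h1
      rwa [hκx] at this)
    have h3 := C.mul_mem hxC h2
    rw [mul_inv_cancel_left] at h3
    have h4 := hCinv b hb _ h3
    rwa [b2 z (hCle hzC)] at h4
  -- μ on U
  have hUc : U ≤ centralizerIn S (Subgroup.zpowers y) := by
    rw [hU]; exact inf_le_inf_right _ hTS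
  have hUm : U ≤ Subgroup.zpowers y ⊔ centralizerIn S (Subgroup.zpowers y) := hUc.trans le_sup_right
  have hmy : U ⊔ Subgroup.zpowers y ≤ Subgroup.zpowers y ⊔ centralizerIn S (Subgroup.zpowers y) :=
    sup_le hUm le_sup_left
  have hμU : ∀ u ∈ U, μ u ∈ T := fun u hu => StronglyClosed.map_mem F hT hμ (hUm hu) (hUT hu)
  obtain ⟨a, f₀, ha, hf₀, hfr⟩ := hE.frattini hUT (hμ.restrict hUm)
  obtain ⟨c, hc, hc1, hc2⟩ := exists_aut_ext hS hF hT ha
  obtain ⟨c', hc', c1, c2⟩ := hc.symm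
  obtain ⟨U₁, hU₁⟩ := hf₀.exists_iso
  obtain ⟨g₀, hg₀, g1, g2⟩ := hU₁.symm
  obtain ⟨g, hg, hgU, hgC⟩ := hCcen.2 U₁ g₀ hg₀.1
  have hz'C : c' z ∈ C := hCinv c' hc' z hzCm
  have hc'μ : ∀ u ∈ U, c' (μ u) = f₀ u := fun u hu => by
    rw [hfr u hu, ← hc1 _ (hf₀.map_mem hu), c1 _ (hTle (hf₀.map_mem hu))]
  have n1 : ∀ w ∈ U ⊔ Subgroup.zpowers y, μ w ∈ T ⊔ centralizerIn S T := map_sup_mem (hμ.restrict hmy)
    (fun u hu => hTle (hμU u hu)) (fun w hw => by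
      obtain ⟨k, rfl⟩ := Subgroup.mem_zpowers_iff.1 hw
      rw [hμ.map_zpow (Subgroup.mem_sup_left hyz), hμy]
      exact Subgroup.zpow_mem _ (hCle hzC) k)
  have hcomp1 : FMap F (U ⊔ Subgroup.zpowers y) (fun w => c' (μ w)) := (hμ.restrict hmy).comp hc'.1 n1
  have n2 : ∀ w ∈ U ⊔ Subgroup.zpowers y, c' (μ w) ∈ U₁ ⊔ C := map_sup_mem hcomp1 (fun u hu => by
      show c' (μ u) ∈ _
      rw [hc'μ u hu]; exact Subgroup.mem_sup_left (hU₁.mem hu)) (fun w hw => by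
      obtain ⟨k, rfl⟩ := Subgroup.mem_zpowers_iff.1 hw
      have e1 : c' (μ (y ^ k)) = (c' z) ^ k := by
        rw [hμ.map_zpow (Subgroup.mem_sup_left hyz), hμy, hc'.1.map_zpow (hCle hzC)]
      show c' (μ (y ^ k)) ∈ _
      rw [e1]
      exact Subgroup.mem_sup_right (C.zpow_mem hz'C k))
  obtain ⟨τ, hτe⟩ : ∃ τ : Ω → Ω, τ = fun w => g (c' (μ w)) := ⟨_, rfl⟩
  have hτ : FMap F (U ⊔ Subgroup.zpowers y) τ := hτe ▸ hcomp1.comp hg n2
  have hτU : ∀ u ∈ U, τ u = u := fun u hu => by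
    rw [hτe]
    show g (c' (μ u)) = u
    rw [hc'μ u hu, hgU _ (hU₁.mem hu), g1 u hu]
  obtain ⟨z', hz'⟩ : ∃ z', z' = c' z := ⟨_, rfl⟩
  rw [← hz'] at hz'C
  have hτy : τ y = z' := by
    rw [hτe]
    show g (c' (μ y)) = z'
    rw [hμy, ← hz', hgC _ hz'C]
  have hz'T : z' ∈ centralizerIn S T := hCcen.1 hz'C
  have hyU : y ∈ centralizerIn S U := ⟨hyS, fun u hu => ((hmemU u).1 hu).2.symm⟩
  have hz'U : z' ∈ centralizerIn S U := ⟨hz'T.1, fun u hu => hz'T.2 u (hUT hu)⟩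
  -- N_T(U) = U
  have hUe : U = T := by
    by_contra hne
    have hlt := lt_normalizerIn hTp le_rfl (lt_of_le_of_ne hUT hne)
    refine hlt.not_ge fun t ht => (hmemU t).2 ⟨ht.1, ?_⟩
    have htS := hTS ht.1
    have htNS : t ∈ normalizerIn S U := ⟨htS, ht.2⟩
    obtain ⟨U₂, k, hU₂, hk, hkN, hkN'⟩ := exists_fullyNormalized_map hS hF (hUT.trans hTS)
    have hU₂c := fullyCentralized_of_fullyNormalized hS hF hU₂
    have hTC₂ : TC F T U₂ := hTCU.conj hT hk.isConj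
    have hyN := centralizerIn_le_normalizerIn S U hyU
    have hz'N := centralizerIn_le_normalizerIn S U hz'U
    have hUN := le_normalizerIn (S := S) (hUT.trans hTS)
    have hkt : k t ∈ normalizerIn T U₂ := map_normalizer_inf hT hkN hkN' t ht
    have hcentk : ∀ w ∈ centralizerIn S U, k w ∈ centralizerIn S U₂ := fun w hw =>
      ⟨hkN.map_mem (centralizerIn_le_normalizerIn S U hw), hk.map_centralizer hkN hUN
        (centralizerIn_le_normalizerIn S U hw) hw.2⟩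
    have hUyN : U ⊔ Subgroup.zpowers y ≤ normalizerIn S U := sup_le hUN (by rw [Subgroup.zpowers_le]; exact hyN)
    obtain ⟨M, hM⟩ := (hkN.restrict hUyN).exists_iso
    obtain ⟨k', hk', k1, k2⟩ := hM.symm
    have hyM : y ∈ U ⊔ Subgroup.zpowers y := Subgroup.mem_sup_right (Subgroup.mem_zpowers y)
    have hle2 : Subgroup.zpowers (k y) ⊔ U₂ ≤ M := sup_le (by rw [Subgroup.zpowers_le]; exact hM.mem hyM) (fun w hw => by
      obtain ⟨u, hu, rfl⟩ := hk.mem_iff.1 hw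
      exact hM.mem (Subgroup.mem_sup_left hu))
    have hτN : ∀ w ∈ U ⊔ Subgroup.zpowers y, τ w ∈ normalizerIn S U := map_sup_mem hτ (fun u hu => by
      rw [hτU u hu]; exact hUN hu) (fun w hw => by
      obtain ⟨j, rfl⟩ := Subgroup.mem_zpowers_iff.1 hw
      rw [hτ.map_zpow hyM, hτy]
      exact Subgroup.zpow_mem _ hz'N j)
    have hcomp2 : FMap F (Subgroup.zpowers (k y) ⊔ U₂) (fun w => k (τ (k' w))) :=
      ((hk'.1.restrict hle2).comp hτ (fun w hw => hk'.mem (hle2 hw))).comp hkN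
        (fun w hw => hτN _ (hk'.mem (hle2 hw)))
    have hkτ : k (τ (k' (k y))) = k z' := by rw [k1 y hyM, hτy]
    have hcent : FMap (centSys F U₂ hU₂c.1) (Subgroup.zpowers (k y)) (fun w => k (τ (k' w))) := by
      refine fmap_centSys.2 ⟨by rw [Subgroup.zpowers_le]; exact hcentk y hyU, fun w hw => ?_, _, hcomp2, fun _ _ => rfl,
        fun w hw => ?_⟩
      · obtain ⟨j, rfl⟩ := Subgroup.mem_zpowers_iff.1 hw
        have e1 : k (τ (k' (k y ^ j))) = (k z') ^ j := by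
          have := hcomp2.map_zpow (Subgroup.mem_sup_left (Subgroup.mem_zpowers (k y))) j
          rw [this, hkτ]
        show k (τ (k' (k y ^ j))) ∈ _
        rw [e1]
        exact Subgroup.zpow_mem _ (hcentk z' hz'U) j
      · obtain ⟨u, hu, rfl⟩ := hk.mem_iff.1 hw
        show k (τ (k' (k u))) = k u
        rw [k1 u (Subgroup.mem_sup_left hu), hτU u hu]
    have h1 := zetaT_const hS hF hT hTC₂ hU₂c hkt _ _ hcent (k y) (Subgroup.mem_zpowers _)
    have h2 : (k z')⁻¹ * (k t * k z' * (k t)⁻¹) = (k y)⁻¹ * (k t * k y * (k t)⁻¹) := by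
      have h3 : (k (τ (k' (k y))))⁻¹ * (k t * k (τ (k' (k y))) * (k t)⁻¹) = (k y)⁻¹ * (k t * k y * (k t)⁻¹) := h1
      rwa [hkτ] at h3
    have h3 : ∀ w ∈ normalizerIn S U, (k w)⁻¹ * (k t * k w * (k t)⁻¹) = k (w⁻¹ * (t * w * t⁻¹)) := by
      intro w hw
      have hm1 : t * w * t⁻¹ ∈ normalizerIn S U := Subgroup.mul_mem _ (Subgroup.mul_mem _ htNS hw) (Subgroup.inv_mem _ htNS)
      rw [hkN.map_mul (Subgroup.inv_mem _ hw) hm1, hkN.map_inv hw, hkN.map_conj htNS hw]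
    rw [h3 z' hz'N, h3 y hyN] at h2
    have h4 : z'⁻¹ * (t * z' * t⁻¹) = 1 := by
      have : t * z' = z' * t := hz'T.2 t ht.1
      rw [this]; group
    rw [h4, hkN.map_one] at h2
    have hm2 : y⁻¹ * (t * y * t⁻¹) ∈ normalizerIn S U := Subgroup.mul_mem _ (Subgroup.inv_mem _ hyN)
      (Subgroup.mul_mem _ (Subgroup.mul_mem _ htNS hyN) (Subgroup.inv_mem _ htNS))
    have h5 := hkN.eq_one hm2 h2.symm
    rw [inv_mul_eq_one] at h5
    -- y = t y t⁻¹
    calc y * t = (t * y * t⁻¹) * t := by rw [← h5]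
      _ = t * y := by group
  rw [hUe] at hτ hτU hyU
  have h1 := hfoc (mem_focT (hTS := hTS) hyU hτ hτU (by rw [hτy]; exact hz'T))
  rw [hτy] at h1
  have h2 := C.mul_mem hz'C (C.inv_mem h1)
  rwa [mul_inv_rev, inv_inv, mul_inv_cancel_left] at h2

/-- **The centralizer of a normal subsystem is strongly closed.** -/
theorem cenS_closed [Finite S] [Fact p.Prime] (hS : IsPGroup p S) (hF : F.IsSaturated p) (hEs : E.IsSaturated p)
    (hE : Inv E F) (hx : Ext E F) : F.StronglyClosed (cenS F E) := by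
  have hT := hE.closed
  have hTS := hT.1
  have hTn := normalizes_of_stronglyClosed hT
  have hCinv : Tinv F T (cenS F E) := cenS_tinv hE
  have hCcen := cenS_cen hS hF hEs hE hx
  have hfoc := le_cenS (focT_cen hS hF hEs hE hx)
  have hconjS : ∀ s ∈ S, ∀ x ∈ cenS F E, s * x * s⁻¹ ∈ cenS F E := by
    intro s hs x hxC
    have hle : T ⊔ centralizerIn S T ≤ S := sup_le hTS (centralizerIn_le S T)
    have hm : FMap F (T ⊔ centralizerIn S T) (fun x => s * x * s⁻¹) := fmap_conj F hle hs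
    have hTi : ∀ t ∈ T, s * t * s⁻¹ ∈ T := fun t ht => (Subgroup.mem_normalizer_iff.1 (hTn hs) t).1 ht
    have hTi' : FIso F T T (fun x => s * x * s⁻¹) := fiso_restrict hm le_sup_left hTi
    refine hCinv (fun x => s * x * s⁻¹) (hm.fiso_of_card hle (map_sup_mem hm (fun t ht => Subgroup.mem_sup_left (hTi t ht))
      (fun c hc => Subgroup.mem_sup_right ⟨hm.map_mem (Subgroup.mem_sup_right hc),
        hTi'.map_centralizer hm le_sup_left (Subgroup.mem_sup_right hc) hc.2⟩)) le_rfl) x hxC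
  have key : ∀ (P : Subgroup Ω) (f : Ω → Ω), FMap F P f → ∀ x ∈ P, (x ∈ cenS F E ↔ f x ∈ cenS F E) := by
    refine alperin_induction_cr hS hF (fun P f => ∀ x ∈ P, (x ∈ cenS F E ↔ f x ∈ cenS F E)) ?_ ?_ ?_ ?_ ?_
    · intro P f g _ h1 h2 x hx
      rw [← h2 x hx]; exact h1 x hx
    · intro P s hP hs x hx
      refine ⟨hconjS s hs x, fun h => ?_⟩
      have := hconjS _ (S.inv_mem hs) _ h
      rwa [inv_inv, show s⁻¹ * (s * x * s⁻¹) * s = x by group] at this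
    · intro P Q f g _ h1 _ h2 h3 x hx
      exact (h1 x hx).trans (h2 _ (h3 x hx))
    · intro P Q f g hf h1 hg h2 h3 y hy
      have := h1 _ (hg.mem hy)
      rw [h3 y hy] at this
      exact this.symm
    · intro Q φ hQn hQc hQr hφ x hx
      have hTC := tc_inf hS hF hT hQc hQr
      refine ⟨closed_step hS hF hE hCinv hCcen hfoc hTC hφ hx, fun h => ?_⟩
      obtain ⟨φ', hφ', p1, p2⟩ := hφ.symm
      have := closed_step hS hF hE hCinv hCcen hfoc hTC hφ' (hφ.mem hx) h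
      rwa [p1 x hx] at this
  rw [stronglyClosed_iff]
  exact ⟨cenS_le.trans (centralizerIn_le S T), fun P f hP hf x hx => (key P f hf x hx).1 (hP hx)⟩

end Cfsg.Agent.Lib.FusionCenClosed
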