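import Mathlib
import Cfsg.Agent.Lib.FusionCenClosed
import Cfsg.Agent.Lib.FusionCriterion3

/-!
Construction of weakly normal subsystems from invariant families of automorphism groups.
-/

set_option autoImplicit false
open Cfsg Cfsg.FusionSystem Cfsg.Agent.Lib.FusionBasic Cfsg.Agent.Lib.FusionSat Cfsg.Agent.Lib.FusionNormal
  Cfsg.Agent.Lib.FusionInvar Cfsg.Agent.Lib.FusionTools Cfsg.Agent.Lib.FusionPP Cfsg.Agent.Lib.FusionStrong
  Cfsg.Agent.Lib.FusionSys Cfsg.Agent.Lib.FusionFrat Cfsg.Agent.Lib.FusionPrime Cfsg.Agent.Lib.FusionTC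
  Cfsg.Agent.Lib.FusionClosed Cfsg.Agent.Lib.FusionStab Cfsg.Agent.Lib.FusionZeta Cfsg.Agent.Lib.FusionCenClosed

namespace Cfsg.Agent.Lib.FusionThmA

variable {Ω : Type*} [Group Ω] {S T : Subgroup Ω} {F : FusionSystem S} {E : FusionSystem T}
  {P Q R U M X Y Z G G₁ G₂ P₀ R₁ : Subgroup Ω} {a b f g θ κ ψ : Ω → Ω} {p : ℕ} {A : ∀ P : Subgroup Ω, Subgroup (MulAut P)}

/-- `f` agrees on `P` with an element of `A P`. -/
def InA (A : ∀ P : Subgroup Ω, Subgroup (MulAut P)) (P : Subgroup Ω) (f : Ω → Ω) : Prop :=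
  ∃ α ∈ A P, ∀ x ∈ P, f x = autFun α x

theorem InA.congr (h : InA A P f) (hfg : ∀ x ∈ P, f x = g x) : InA A P g := by
  obtain ⟨α, hα, h1⟩ := h
  exact ⟨α, hα, fun x hx => by rw [← hfg x hx, h1 x hx]⟩

theorem InA.mem (h : InA A P f) {x : Ω} (hx : x ∈ P) : f x ∈ P := by
  obtain ⟨α, hα, h1⟩ := h
  rw [h1 x hx]; exact autFun_mem α hx

theorem inA_id : InA A P (fun x => x) := ⟨1, one_mem _, fun _ hx => (autFun_one hx).symm⟩

theorem InA.comp (h : InA A P f) (h' : InA A P g) : InA A P (fun x => g (f x)) := by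
  obtain ⟨α, hα, h1⟩ := h
  obtain ⟨β, hβ, h2⟩ := h'
  refine ⟨β * α, mul_mem hβ hα, fun x hx => ?_⟩
  show g (f x) = _
  rw [autFun_mul _ _ hx, h1 x hx, h2 _ (autFun_mem α hx)]

theorem InA.inv (h : InA A P f) (hgf : ∀ x ∈ P, g (f x) = x) : InA A P g := by
  obtain ⟨α, hα, h1⟩ := h
  refine ⟨α⁻¹, inv_mem hα, fun x hx => ?_⟩
  have h2 := hgf (autFun α⁻¹ x) (autFun_mem _ hx)
  rw [h1 _ (autFun_mem _ hx), autFun_apply_inv α hx] at h2
  exact h2

theorem inA_aut {α : MulAut P} : InA A P (autFun α) ↔ α ∈ A P := by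
  constructor
  · rintro ⟨β, hβ, h⟩
    have : α = β := by
      ext x
      rw [← autFun_coe, h x x.2, autFun_coe]
    rwa [this]
  · exact fun h => ⟨α, h, fun _ _ => rfl⟩

theorem InA.exists_right_inv (h : InA A P f) : ∃ g, InA A P g ∧ (∀ x ∈ P, g (f x) = x) ∧ ∀ x ∈ P, f (g x) = x := by
  obtain ⟨α, hα, h1⟩ := h
  refine ⟨autFun α⁻¹, inA_aut.2 (inv_mem hα), fun x hx => ?_, fun x hx => ?_⟩
  · rw [h1 x hx, autFun_inv_apply α hx]
  · rw [h1 _ (autFun_mem _ hx), autFun_apply_inv α hx]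

/-- The hypotheses on an invariant family. -/
structure Fam (F : FusionSystem S) (T : Subgroup Ω) (p : ℕ) (A : ∀ P : Subgroup Ω, Subgroup (MulAut P)) : Prop where
  le : ∀ P, TC F T P → A P ≤ F.autGroup P
  equiv : ∀ (P Q : Subgroup Ω) (f g a : Ω → Ω), TC F T P → FIso F P Q f → (∀ x ∈ P, g (f x) = x) → InA A P a → InA A Q (fun y => f (a (g y)))
  ind : ∀ P, TC F T P → F.IsFullyNormalized P → autInducedBy T P ≤ A P
  syl : ∀ P, TC F T P → F.IsFullyNormalized P → A P ⊓ autInducedBy S P ≤ autInducedBy T P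
  res : ∀ (P Q : Subgroup Ω) (a : Ω → Ω), TC F T P → P ≤ Q → Q ≤ T → (∀ q ∈ Q, q ∈ Subgroup.normalizer (P : Set Ω)) → PP F p Q a → InA A Q a →
    (∀ x ∈ P, a x ∈ P) → InA A P a
  ext : ∀ (P Q : Subgroup Ω) (a : Ω → Ω), TC F T P → F.IsFullyNormalized P → P ≤ Q → Q ≤ normalizerIn T P → PP F p Q a → (∀ x ∈ P, a x ∈ P) →
    InA A P a → InA A Q a

theorem InA.fiso (hA : Fam F T p A) (hP : TC F T P) (hT : T ≤ S) (h : InA A P f) : FIso F P P f := by
  obtain ⟨α, hα, h1⟩ := h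
  exact ((fiso_autFun_iff (hP.1.trans hT)).2 (hA.le P hP hα)).congr fun x hx => (h1 x hx).symm

theorem Fam.normal (hA : Fam F T p A) (hP : TC F T P) (hT : T ≤ S) :
    ∀ α ∈ F.autGroup P, ∀ n ∈ A P, α * n * α⁻¹ ∈ A P := by
  intro α hα n hn
  have h1 := hA.equiv P P (autFun α) (autFun α⁻¹) (autFun n) hP ((fiso_autFun_iff (hP.1.trans hT)).2 hα)
    (fun x hx => autFun_inv_apply α hx) (inA_aut.2 hn)
  refine inA_aut.1 (h1.congr fun x hx => ?_)
  rw [← autFun_mul _ _ (autFun_mem _ hx), ← autFun_mul _ _ hx, mul_assoc]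

/-- The condition defining the generators. -/
def Gn (F : FusionSystem S) (T : Subgroup Ω) (A : ∀ P : Subgroup Ω, Subgroup (MulAut P)) (P : Subgroup Ω) (f : Ω → Ω) :
    Prop := TC F T P ∧ InA A P f

theorem gn_data (hA : Fam F T p A) (hT : T ≤ S) : ∀ P f, Gn F T A P f → FMap F P f ∧ P ≤ T ∧ ∀ x ∈ P, f x ∈ T := by
  rintro P f ⟨h1, h2⟩
  exact ⟨(h2.fiso hA h1 hT).1, h1.1, fun x hx => h1.1 (h2.mem hx)⟩

/-- The system generated by the family. -/
noncomputable def sysA (F : FusionSystem S) (T : Subgroup Ω) (A : ∀ P : Subgroup Ω, Subgroup (MulAut P)) (hT : T ≤ S) :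
    FusionSystem T := genSys F T hT (Gn F T A)

theorem sysA_sub {hT : T ≤ S} : (sysA F T A hT).IsSubsystemOf F := genSys_sub

theorem sysA_base (hA : Fam F T p A) {hT : T ≤ S} (hP : TC F T P) (h : InA A P f) : FMap (sysA F T A hT) P f :=
  fmap_genSys_base (gn_data hA hT) ⟨hP, h⟩

theorem sysA_fiso (hA : Fam F T p A) {hT : T ≤ S} (hP : TC F T P) (h : InA A P f) : FIso (sysA F T A hT) P P f :=
  ⟨sysA_base hA hP h, (h.fiso hA hP hT).2⟩

theorem sysA_conjInv (hA : Fam F T p A) {hT : T ≤ S} : ConjInv F (sysA F T A hT) := by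
  refine genSys_conjInv (gn_data hA hT) ?_
  rintro P Q a f ha ⟨hP, hf⟩ hQ
  have hPQ : FIso F P Q a := ⟨ha.1.restrict hP.1, hQ⟩
  obtain ⟨a', ha', e1, e2⟩ := hPQ.symm
  have hQT : Q ≤ T := fun y hy => by
    obtain ⟨x, hx, rfl⟩ := (hQ y).1 hy
    exact ha.mem (hP.1 hx)
  refine ⟨_, ⟨?_, hA.equiv P Q a a' f hP hPQ e1 hf⟩, fun x hx => ?_⟩
  · refine ⟨hQT, fun R hR => hP.2 R (isConj_trans hPQ.isConj hR)⟩
  · show a (f (a' (a x))) = a (f x)
    rw [e1 x hx]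

/-- a fully normalized subgroup of `T` containing its centralizer in `T` is `T`-centric -/
theorem tc_of_fullyNormalized [Finite S] [Fact p.Prime] (hS : IsPGroup p S) (hF : F.IsSaturated p)
    (hT : F.StronglyClosed T) (hPT : P ≤ T) (hP : F.IsFullyNormalized P) (hc : centralizerIn T P ≤ P) : TC F T P := by
  refine ⟨hPT, fun R' hR' => ?_⟩
  obtain ⟨m, hm, hmN, hmN'⟩ := exists_map_to_fullyNormalized hS hF hP (isConj_symm hR')
  intro c hcT
  have hcS : c ∈ centralizerIn S R' := ⟨hT.1 hcT.1, hcT.2⟩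
  have hcN := centralizerIn_le_normalizerIn S R' hcS
  have h1 : m c ∈ centralizerIn T P := ⟨StronglyClosed.map_mem F hT hmN hcN hcT.1,
    hm.map_centralizer hmN (le_normalizerIn hm.le_left) hcN hcT.2⟩
  exact hm.mem_of_map_mem hmN (le_normalizerIn hm.le_left) hcN (hc h1)

theorem sysA_frat [Finite S] [Fact p.Prime] (hS : IsPGroup p S) (hF : F.IsSaturated p) (hT : F.StronglyClosed T)
    (hA : Fam F T p A) : ∀ P f, P ≤ T → FMap F P f → Frat F (sysA F T A hT.1) P f := by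
  refine frattini_of hS hF hT (sysA_conjInv hA) fun P f hPT hP hf hbig => ?_
  have hP' := automized_receptive_of_fullyNormalized hS hF hP
  by_cases hc : centralizerIn T P ≤ P
  · have hTC := tc_of_fullyNormalized hS hF hT hPT.le hP hc
    have hlt : P < normalizerIn T P := lt_normalizerIn hS hT.1 hPT
    obtain ⟨g, α, hα, hg, hgP, h1⟩ := exists_frattini_ext hS hP'.1 hP'.2 (A P) (hA.le P hTC) (hA.normal hTC hT.1) hlt.le
      (inf_le_inf_right _ hT.1) (fun β hβ => hA.ind P hTC hP (autInducedBy_mono (normalizerIn_le T P) hβ)) hf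
    have h2 := hbig _ g (normalizerIn_le T P) hlt hg
    have h3 : Frat F (sysA F T A hT.1) P (autFun α) :=
      ⟨fun x => x, autFun α, FIso.refl F hT.1, sysA_base hA hTC (inA_aut.2 hα), fun _ _ => rfl⟩
    obtain ⟨a, f₀, h4, h5, h6⟩ := frat_comp (sysA_conjInv hA) h3 (fun x hx => autFun_mem α hx) hPT.le h2
    exact ⟨a, f₀, h4, h5, fun x hx => by rw [h1 x hx]; exact h6 x hx⟩
  · obtain ⟨g, hg, hg1, -⟩ := exists_extension_centralizer hP'.2 hf
    have hle : P ⊔ centralizerIn T P ≤ P ⊔ centralizerIn S P := sup_le_sup_left (inf_le_inf_right _ hT.1) _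
    have hlt : P < P ⊔ centralizerIn T P := lt_of_le_of_ne le_sup_left fun h => hc
      ((le_sup_right : centralizerIn T P ≤ P ⊔ centralizerIn T P).trans h.ge)
    obtain ⟨a, f₀, h4, h5, h6⟩ := hbig _ g (sup_le hPT.le (centralizerIn_le T P)) hlt (hg.restrict hle)
    exact ⟨a, f₀, h4, h5, fun x hx => by rw [← hg1 x hx]; exact h6 x hx⟩

theorem sysA_inv [Finite S] [Fact p.Prime] (hS : IsPGroup p S) (hF : F.IsSaturated p) (hT : F.StronglyClosed T)
    (hA : Fam F T p A) : FusionInvar.Inv (sysA F T A hT.1) F where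
  sub := sysA_sub
  closed := hT
  conj := fun h1 h2 h3 => sysA_conjInv hA _ _ _ _ h1 h2 h3
  frattini := fun hP hf => sysA_frat hS hF hT hA _ _ hP hf

/-- conjugation by elements of `N_T(P)` lies in `A P` -/
theorem inA_conj [Finite S] [Fact p.Prime] (hS : IsPGroup p S) (hF : F.IsSaturated p) (hT : F.StronglyClosed T)
    (hA : Fam F T p A) (hP : TC F T P) {t : Ω} (ht : t ∈ normalizerIn T P) : InA A P (fun x => t * x * t⁻¹) := by
  have hPS := hP.1.trans hT.1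
  obtain ⟨P₀, k, hP₀, hk, hkN, hkN'⟩ := exists_fullyNormalized_map hS hF hPS
  obtain ⟨k', hk', e1, e2⟩ := hk.symm
  have hTC₀ := hP.conj hT hk.isConj
  have hkt := map_normalizer_inf hT hkN hkN' t ht
  have h1 : InA A P₀ (fun x => k t * x * (k t)⁻¹) := by
    refine ⟨conjAut P₀ (k t) hkt.2, hA.ind P₀ hTC₀ hP₀ (conjAut_mem_autInducedBy hkt.2 hkt.1), fun x hx => ?_⟩
    rw [autFun_of_mem _ hx, conjAut_apply]
  refine (hA.equiv P₀ P k' k _ hTC₀ hk' e2 h1).congr fun x hx => ?_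
  have htN : t ∈ normalizerIn S P := ⟨hT.1 ht.1, ht.2⟩
  rw [← hkN.map_conj htN (le_normalizerIn hPS hx), e1 _ ((Subgroup.mem_normalizer_iff.1 ht.2 x).1 hx)]

/-- A `p`-element of a normal subgroup `N` of `Aut_F(P)` normalizing `N ∩ Aut_S(P)` lies in `Aut_S(P)`. -/
theorem mem_of_normalizes [Finite S] [Fact p.Prime] (hP : F.IsFullyAutomized p P) {N : Subgroup (MulAut P)}
    (hN : N ≤ F.autGroup P) (hn : ∀ α ∈ F.autGroup P, ∀ κ ∈ N, α * κ * α⁻¹ ∈ N) {α : MulAut P} (hα : α ∈ N)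
    (ho : ∃ k, orderOf α = p ^ k) (hnorm : ∀ κ ∈ N ⊓ autInducedBy S P, α * κ * α⁻¹ ∈ autInducedBy S P) :
    α ∈ autInducedBy S P := by
  obtain ⟨hPS, R, hR⟩ := hP
  have hfin := finite_of_le hPS
  have hNn : (N.subgroupOf (F.autGroup P)).Normal := ⟨fun n hn' g => by
    rw [Subgroup.mem_subgroupOf] at hn' ⊢
    exact hn g g.2 n hn'⟩
  obtain ⟨R₁, hR₁⟩ := Cfsg.Agent.Lib.FusionNormalSubgroup.exists_sylow_inf R (N.subgroupOf (F.autGroup P))
  have hmemR : ∀ x : N.subgroupOf (F.autGroup P), x ∈ (R₁ : Subgroup (N.subgroupOf (F.autGroup P))) ↔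
      ((x : F.autGroup P) : MulAut P) ∈ autInducedBy S P := by
    intro x
    rw [hR₁, hR]
    constructor
    · rintro ⟨hx1, -⟩
      exact hx1
    · intro h
      exact ⟨h, x.2⟩
  let a : N.subgroupOf (F.autGroup P) := ⟨⟨α, hN hα⟩, hα⟩
  have hK : IsPGroup p (Subgroup.zpowers a) := by
    obtain ⟨k, hk⟩ := ho
    refine IsPGroup.of_card (n := k) ?_
    rw [Nat.card_zpowers, ← hk]
    exact ((Subgroup.orderOf_coe (⟨α, hN hα⟩ : F.autGroup P)).trans (Subgroup.orderOf_coe a)).symm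
  have hα1 : ∀ κ ∈ (R₁ : Subgroup (N.subgroupOf (F.autGroup P))), a * κ * a⁻¹ ∈
      (R₁ : Subgroup (N.subgroupOf (F.autGroup P))) := by
    intro κ hκ
    rw [hmemR] at hκ ⊢
    exact hnorm _ ⟨κ.2, hκ⟩
  have hle : Subgroup.zpowers a ≤ Subgroup.normalizer
      ((R₁ : Subgroup (N.subgroupOf (F.autGroup P))) : Set (N.subgroupOf (F.autGroup P))) := by
    rw [Subgroup.zpowers_le]
    refine Subgroup.mem_normalizer_iff.2 fun κ => ⟨hα1 κ, fun h => ?_⟩
    have hmap : (R₁ : Subgroup (N.subgroupOf (F.autGroup P))).map (MulAut.conj a).toMonoidHom = R₁ := by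
      refine Subgroup.eq_of_le_of_card_ge ?_ ?_
      · rintro _ ⟨x, hx, rfl⟩
        exact hα1 x hx
      · rw [Subgroup.card_map_of_injective (MulAut.conj a).injective]
    have h' : a * κ * a⁻¹ ∈ (R₁ : Subgroup (N.subgroupOf (F.autGroup P))).map (MulAut.conj a).toMonoidHom := by
      rw [hmap]; exact h
    obtain ⟨x, hx, hxe⟩ := h'
    have hxe' : a * x * a⁻¹ = a * κ * a⁻¹ := hxe
    have : x = κ := by
      have h7 := congrArg (fun z => a⁻¹ * z * a) hxe'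
      simpa [mul_assoc] using h7
    rw [← this]; exact hx
  have hsup : IsPGroup p ↥((R₁ : Subgroup (N.subgroupOf (F.autGroup P))) ⊔ Subgroup.zpowers a) :=
    IsPGroup.to_sup_of_normal_left' R₁.isPGroup' hK hle
  have h5 := R₁.3 hsup le_sup_left
  have h6 : a ∈ (R₁ : Subgroup (N.subgroupOf (F.autGroup P))) := by
    rw [← h5]; exact Subgroup.mem_sup_right (Subgroup.mem_zpowers a)
  exact (hmemR a).1 h6

/-! ### Restriction -/

/-- the restriction of an automorphism to an invariant subgroup -/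
theorem pow_mapsTo {α : MulAut Q} (hPQ : P ≤ Q) (h : ∀ x ∈ P, autFun α x ∈ P) : ∀ n : ℕ, ∀ x ∈ P, autFun (α ^ n) x ∈ P := by
  intro n
  induction n with
  | zero => intro x hx; rw [pow_zero, autFun_one (hPQ hx)]; exact hx
  | succ n ih => intro x hx; rw [pow_succ, autFun_mul _ _ (hPQ hx)]; exact ih _ (h x hx)

theorem inv_mapsTo [Finite S] {α : MulAut Q} (hPQ : P ≤ Q) (hQ : Q ≤ S) (hα : α ∈ F.autGroup Q)
    (h : ∀ x ∈ P, autFun α x ∈ P) : ∀ x ∈ P, autFun α⁻¹ x ∈ P := by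
  intro x hx
  have hi : FIso F P P (autFun α) := fiso_restrict ((fiso_autFun_iff hQ).2 hα).1 hPQ h
  obtain ⟨y, hy, rfl⟩ := hi.mem_iff.1 hx
  rw [autFun_inv_apply α (hPQ hy)]; exact hy

theorem res_all [Finite S] [Fact p.Prime] (hS : IsPGroup p S) (hF : F.IsSaturated p) (hT : F.StronglyClosed T)
    (hA : Fam F T p A) (hP : TC F T P) (hPQ : P ≤ Q) (hQT : Q ≤ T) (hQn : ∀ q ∈ Q, q ∈ Subgroup.normalizer (P : Set Ω))
    (h : InA A Q f) (hfP : ∀ x ∈ P, f x ∈ P) : InA A P f := by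
  have hTCQ : TC F T Q := hP.mono hT hPQ hQT
  have hQS := hQT.trans hT.1
  obtain ⟨α, hα, h1⟩ := h
  have hfin : Finite Q := finite_of_le hQS
  have hαP : ∀ x ∈ P, autFun α x ∈ P := fun x hx => by rw [← h1 x (hPQ hx)]; exact hfP x hx
  let H : Subgroup (MulAut Q) :=
    { carrier := {β | β ∈ A Q ∧ (∀ x ∈ P, autFun β x ∈ P) ∧ InA A P (autFun β)}
      one_mem' := ⟨one_mem _, fun x hx => by rw [autFun_one (hPQ hx)]; exact hx,
        inA_id.congr fun x hx => (autFun_one (hPQ hx)).symm⟩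
      mul_mem' := by
        rintro β γ ⟨h1, h2, h3⟩ ⟨k1, k2, k3⟩
        exact ⟨mul_mem h1 k1, fun x hx => by rw [autFun_mul _ _ (hPQ hx)]; exact h2 _ (k2 x hx),
          (k3.comp h3).congr fun x hx => (autFun_mul _ _ (hPQ hx)).symm⟩
      inv_mem' := by
        rintro β ⟨h1, h2, h3⟩
        exact ⟨inv_mem h1, inv_mapsTo hPQ hQS (hA.le Q hTCQ h1) h2, h3.inv fun x hx => autFun_inv_apply β (hPQ hx)⟩ }
  have hH : α ∈ H := by
    refine mem_of_parts (p := p) (isOfFinOrder_of_finite α) H (fun n hn => ?_) (fun n hn => ?_)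
    · have hαn : α ^ n ∈ A Q := pow_mem hα n
      refine ⟨hαn, pow_mapsTo hPQ hαP n, ?_⟩
      -- transport to a fully normalized conjugate
      obtain ⟨Q₀, k, hQ₀, hk, -, -⟩ := exists_fullyNormalized_map hS hF hQS
      have hTC₀ := hTCQ.conj hT hk.isConj
      obtain ⟨k', hk', e1, e2⟩ := hk.symm
      have hβ := hA.equiv Q Q₀ k k' _ hTCQ hk e1 (inA_aut.2 hαn)
      obtain ⟨β, hβA, hβ1'⟩ := hβ
      have hβ1 : ∀ x ∈ Q₀, k (autFun (α ^ n) (k' x)) = autFun β x := hβ1'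
      have hβF := hA.le Q₀ hTC₀ hβA
      -- β is a p-element
      have hβe : β = hk.autEquiv (α ^ n) := by
        ext y
        obtain ⟨x, rfl⟩ := hk.equiv.surjective y
        rw [FIso.autEquiv_apply_apply, FIso.equiv_apply, ← autFun_coe, ← hβ1 _ (hk.equiv x).2, FIso.equiv_apply,
          e1 x x.2, autFun_coe]
      have hβp : ∃ j, orderOf β = p ^ j := by
        obtain ⟨j, hj⟩ := hn
        exact ⟨j, by rw [hβe, MulEquiv.orderOf_eq, hj]⟩
      have hK : IsPGroup p (Subgroup.zpowers β) := by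
        obtain ⟨j, hj⟩ := hβp
        exact IsPGroup.of_card (n := j) (by rw [Nat.card_zpowers, hj])
      obtain ⟨χ, hχ, h5⟩ := exists_conj_le_autInducedBy (fullyAutomized_of_fullyNormalized hS hF hQ₀)
        (Subgroup.zpowers β) (by rw [Subgroup.zpowers_le]; exact hβF) hK
      have h6 := h5 β (Subgroup.mem_zpowers β)
      have h7 := hA.syl Q₀ hTC₀ hQ₀ ⟨hA.normal hTC₀ hT.1 χ hχ β hβA, h6⟩
      obtain ⟨t, ht, h8⟩ := mem_autInducedBy_iff.1 h7
      -- m = χ k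
      have hm : FIso F Q Q₀ (fun x => autFun χ (k x)) := hk.trans ((fiso_autFun_iff hQ₀.1).2 hχ)
      obtain ⟨P₁, hP₁⟩ := (hm.1.restrict hPQ).exists_iso
      obtain ⟨m', hm', m1, m2⟩ := hP₁.symm
      have hP₁TC := hP.conj hT hP₁.isConj
      have hact : ∀ x ∈ Q, t * autFun χ (k x) * t⁻¹ = autFun χ (k (autFun (α ^ n) x)) := by
        intro x hx
        have hkx := hk.mem hx
        have h9 := h8 ⟨autFun χ (k x), autFun_mem χ hkx⟩
        rw [← autFun_coe] at h9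
        have h10 : t * autFun χ (k x) * t⁻¹ = autFun (χ * β * χ⁻¹) (autFun χ (k x)) := h9.symm
        rw [h10, ← autFun_mul _ _ hkx, show χ * β * χ⁻¹ * χ = χ * β by group, autFun_mul _ _ hkx, ← hβ1 _ hkx, e1 x hx]
      have htP₁ : t ∈ normalizerIn T P₁ := by
        refine ⟨ht, ?_⟩
        have hfinP : Finite P₁ := finite_of_le hP₁.le_right
        have hmaps : ∀ y ∈ P₁, t * y * t⁻¹ ∈ P₁ := by
          intro y hy
          obtain ⟨x, hx, rfl⟩ := hP₁.mem_iff.1 hy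
          rw [hact x (hPQ hx)]
          exact hP₁.mem (pow_mapsTo hPQ hαP n x hx)
        have hi : FIso F P₁ P₁ (fun y => t * y * t⁻¹) := (fmap_conj F hP₁.le_right (hT.1 ht)).fiso_of_card hP₁.le_right
          hmaps le_rfl
        refine Subgroup.mem_normalizer_iff.2 fun y => ⟨hmaps y, fun hy => ?_⟩
        obtain ⟨z, hz, hze⟩ := hi.mem_iff.1 hy
        have hze' : t * z * t⁻¹ = t * y * t⁻¹ := hze
        have : z = y := by
          have h7 := congrArg (fun z => t⁻¹ * z * t) hze'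
          simpa [mul_assoc] using h7
        rwa [← this]
      refine (hA.equiv P₁ P m' (fun x => autFun χ (k x)) _ hP₁TC hm' m2 (inA_conj hS hF hT hA hP₁TC htP₁)).congr
        fun x hx => ?_
      show m' (t * autFun χ (k x) * t⁻¹) = autFun (α ^ n) x
      rw [hact x (hPQ hx)]
      exact m1 _ (pow_mapsTo hPQ hαP n x hx)
    · have hαn : α ^ n ∈ A Q := pow_mem hα n
      have hpp := pp_of_aut hQS (hA.le Q hTCQ hαn) hn
      exact ⟨hαn, pow_mapsTo hPQ hαP n, hA.res P Q _ hP hPQ hQT hQn hpp (inA_aut.2 hαn) (pow_mapsTo hPQ hαP n)⟩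
  exact hH.2.2.congr fun x hx => (h1 x (hPQ hx)).symm

/-! ### The decomposition lemma -/

theorem dl_aut [Finite S] [Fact p.Prime] (hS : IsPGroup p S) (hF : F.IsSaturated p) (hT : F.StronglyClosed T)
    (hA : Fam F T p A) (hP : TC F T P) (hPn : F.IsFullyNormalized P)
    (hθ : FIso F (normalizerIn T P) (normalizerIn T P) θ) (hθP : ∀ x ∈ P, θ x ∈ P) (hθA : InA A P θ) :
    ∃ c k, FIso F (normalizerIn T P) (normalizerIn T P) c ∧ (∀ x ∈ P, c x = x) ∧
      FIso (sysA F T A hT.1) (normalizerIn T P) (normalizerIn T P) k ∧ InA A P k ∧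
      ∀ x ∈ normalizerIn T P, θ x = k (c x) := by
  obtain ⟨N, hN⟩ : ∃ N, N = normalizerIn T P := ⟨_, rfl⟩
  rw [← hN] at hθ ⊢
  have hPN : P ≤ N := hN ▸ le_normalizerIn hP.1
  have hNT : N ≤ T := hN ▸ normalizerIn_le T P
  have hNS := hNT.trans hT.1
  have hNn : ∀ n ∈ N, n ∈ normalizerIn T P := fun n hn => hN ▸ hn
  have hTCN := hP.mono hT hPN hNT
  have hfin : Finite N := finite_of_le hNS
  have hinv := sysA_inv hS hF hT hA
  have hstr := FusionFrat.Inv.strong hinv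
  let E' : Subgroup (MulAut N) :=
    { carrier := {β | β ∈ (sysA F T A hT.1).autGroup N ∧ (∀ x ∈ P, autFun β x ∈ P) ∧ InA A P (autFun β)}
      one_mem' := ⟨one_mem _, fun x hx => by rw [autFun_one (hPN hx)]; exact hx,
        inA_id.congr fun x hx => (autFun_one (hPN hx)).symm⟩
      mul_mem' := by
        rintro β γ ⟨h1, h2, h3⟩ ⟨k1, k2, k3⟩
        exact ⟨mul_mem h1 k1, fun x hx => by rw [autFun_mul _ _ (hPN hx)]; exact h2 _ (k2 x hx),
          (k3.comp h3).congr fun x hx => (autFun_mul _ _ (hPN hx)).symm⟩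
      inv_mem' := by
        rintro β ⟨h1, h2, h3⟩
        exact ⟨inv_mem h1, inv_mapsTo hPN hNS (sub_autGroup hinv.sub hNT h1) h2,
          h3.inv fun x hx => autFun_inv_apply β (hPN hx)⟩ }
  let K : Subgroup (MulAut N) :=
    { carrier := {β | β ∈ F.autGroup N ∧ ∀ x ∈ P, autFun β x = x}
      one_mem' := ⟨one_mem _, fun x hx => autFun_one (hPN hx)⟩
      mul_mem' := by
        rintro β γ ⟨h1, h2⟩ ⟨k1, k2⟩
        exact ⟨mul_mem h1 k1, fun x hx => by rw [autFun_mul _ _ (hPN hx), k2 x hx, h2 x hx]⟩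
      inv_mem' := by
        rintro β ⟨h1, h2⟩
        refine ⟨inv_mem h1, fun x hx => ?_⟩
        have := autFun_inv_apply β (hPN hx)
        rwa [h2 x hx] at this }
  have hnorm : E' ≤ Subgroup.normalizer (K : Set (MulAut N)) := by
    have h1 : ∀ β ∈ E', ∀ γ ∈ K, β * γ * β⁻¹ ∈ K := by
      rintro β ⟨b1, b2, b3⟩ γ ⟨c1, c2⟩
      have b1' := sub_autGroup hinv.sub hNT b1
      refine ⟨mul_mem (mul_mem b1' c1) (inv_mem b1'), fun x hx => ?_⟩
      have hx' := inv_mapsTo hPN hNS b1' b2 x hx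
      rw [autFun_mul _ _ (hPN hx), autFun_mul _ _ (hPN hx'), c2 _ hx', autFun_apply_inv β (hPN hx)]
    intro β hβ
    refine Subgroup.mem_normalizer_iff.2 fun γ => ⟨h1 β hβ γ, fun h => ?_⟩
    have := h1 _ (inv_mem hβ) _ h
    rwa [inv_inv, show β⁻¹ * (β * γ * β⁻¹) * β = γ by group] at this
  -- θ as an automorphism
  obtain ⟨α, hα⟩ : ∃ α : MulAut N, α = hθ.equiv := ⟨_, rfl⟩
  have hαF : α ∈ F.autGroup N := hα ▸ hθ.equiv_mem_autGroup
  have hαθ : ∀ x ∈ N, autFun α x = θ x := fun x hx => by rw [autFun_of_mem α hx, hα]; rfl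
  have hαP : ∀ x ∈ P, autFun α x ∈ P := fun x hx => by rw [hαθ x (hPN hx)]; exact hθP x hx
  have hαA : InA A P (autFun α) := hθA.congr fun x hx => (hαθ x (hPN hx)).symm
  have hpowA : ∀ n : ℕ, InA A P (autFun (α ^ n)) := by
    intro n
    induction n with
    | zero => exact inA_id.congr fun x hx => by rw [pow_zero, autFun_one (hPN hx)]
    | succ n ih => exact (hαA.comp ih).congr fun x hx => by rw [pow_succ, autFun_mul _ _ (hPN hx)]
  have hαsup : α ∈ E' ⊔ K := by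
    refine mem_of_parts (p := p) (isOfFinOrder_of_finite α) (E' ⊔ K) (fun n hn => ?_) (fun n hn => ?_)
    · have hαn : α ^ n ∈ F.autGroup N := pow_mem hαF n
      have hi := (fiso_autFun_iff hNS).2 hαn
      have hPi : FIso F P P (autFun (α ^ n)) := fiso_restrict hi.1 hPN (pow_mapsTo hPN hαP n)
      have hmem : (hPi.equiv : MulAut P) ∈ A P := by
        refine inA_aut.1 ((hpowA n).congr fun x hx => ?_)
        rw [autFun_of_mem _ hx]; rfl
      have hmem2 : (hPi.equiv : MulAut P) ∈ autInducedBy S P := by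
        refine mem_of_normalizes (fullyAutomized_of_fullyNormalized hS hF hPn) (hA.le P hP) (hA.normal hP hT.1) hmem ?_ ?_
        · obtain ⟨k, hk⟩ := hn
          have h5 : (hPi.equiv : MulAut P) ^ p ^ k = 1 := by
            ext x
            rw [equiv_pow_apply, ← autFun_pow_apply' _ _ (hPN x.2), ← hk, pow_orderOf_eq_one, autFun_one (hPN x.2)]
            rfl
          obtain ⟨j, -, hj⟩ := (Nat.dvd_prime_pow (Fact.out : p.Prime)).1 (orderOf_dvd_of_pow_eq_one h5)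
          exact ⟨j, hj⟩
        · intro κ hκ
          obtain ⟨t, ht, ht'⟩ := mem_autInducedBy_iff.1 (hA.syl P hP hPn hκ)
          have htN : t ∈ N := hN ▸ ⟨ht, mem_normalizer_of_aut ht'⟩
          refine mem_autInducedBy_iff.2 ⟨autFun (α ^ n) t, hi.1.map_mem htN, fun x => ?_⟩
          obtain ⟨y, hy⟩ := (hPi.equiv : MulAut P).surjective x
          rw [← hy, MulAut.mul_apply, MulAut.mul_apply]
          have h6 : (hPi.equiv : MulAut P)⁻¹ ((hPi.equiv : MulAut P) y) = y := MulAut.inv_apply_self _ _ _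
          rw [h6]
          show autFun (α ^ n) (κ y : P) = autFun (α ^ n) t * autFun (α ^ n) (y : Ω) * (autFun (α ^ n) t)⁻¹
          rw [ht', hi.1.map_conj htN (hPN y.2)]
      obtain ⟨t, ht, ht'⟩ := mem_autInducedBy_iff.1 (hA.syl P hP hPn ⟨hmem, hmem2⟩)
      have htN : t ∈ N := hN ▸ ⟨ht, mem_normalizer_of_aut ht'⟩
      have htn : t ∈ Subgroup.normalizer (N : Set Ω) := Subgroup.le_normalizer htN
      have hc1 : conjAut N t htn ∈ E' := by
        refine ⟨autInducedBy_le_autGroup hNT le_rfl (conjAut_mem_autInducedBy htn ht), fun x hx => ?_, ?_⟩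
        · rw [autFun_of_mem _ (hPN hx), conjAut_apply]
          exact (Subgroup.mem_normalizer_iff.1 (hNn t htN).2 x).1 hx
        · refine (inA_conj hS hF hT hA hP (hNn t htN)).congr fun x hx => ?_
          rw [autFun_of_mem _ (hPN hx), conjAut_apply]
      have hc2 : (conjAut N t htn)⁻¹ * α ^ n ∈ K := by
        have hcF : conjAut N t htn ∈ F.autGroup N := conjAut_mem_autGroup hNS htn (hT.1 ht)
        refine ⟨mul_mem (inv_mem hcF) hαn, fun x hx => ?_⟩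
        have h6 : autFun (α ^ n) x = autFun (conjAut N t htn) x := by
          rw [autFun_of_mem (conjAut N t htn) (hPN hx), conjAut_apply]
          exact ht' ⟨x, hx⟩
        rw [autFun_mul _ _ (hPN hx), h6, autFun_inv_apply _ (hPN hx)]
      have h7 : α ^ n = conjAut N t htn * ((conjAut N t htn)⁻¹ * α ^ n) := by group
      rw [h7]
      exact Subgroup.mul_mem_sup hc1 hc2
    · have hαn : α ^ n ∈ F.autGroup N := pow_mem hαF n
      have hpp := pp_of_aut hNS hαn hn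
      have h8 := hA.ext P N _ hP hPn hPN (hN.le) hpp (pow_mapsTo hPN hαP n) (hpowA n)
      refine Subgroup.mem_sup_left ⟨?_, pow_mapsTo hPN hαP n, hpowA n⟩
      exact (FMap_autFun_iff hNT).1 (sysA_base hA hTCN h8)
  obtain ⟨β, ⟨hβ1, hβ2, hβ3⟩, γ, ⟨hγ1, hγ2⟩, hβγ⟩ := (mem_sup_of_normalizes hnorm).1 hαsup
  refine ⟨autFun γ, autFun β, (fiso_autFun_iff hNS).2 hγ1, hγ2, (fiso_autFun_iff hNT).2 hβ1, hβ3, fun x hx => ?_⟩
  rw [← autFun_mul _ _ hx, hβγ, hαθ x hx]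

/-- a map trivial on `P` moves the normalizer of the `T`-centric `P` by elements of `P` -/
theorem trivial_move (hT : F.StronglyClosed T) (hP : TC F T P) (hPR : P ≤ R) (hRT : R ≤ T)
    (hRn : ∀ r ∈ R, r ∈ Subgroup.normalizer (P : Set Ω)) (hc : FMap F R f) (h1 : ∀ x ∈ P, f x = x) {x : Ω} (hx : x ∈ R) :
    x⁻¹ * f x ∈ P := by
  have hfx : f x ∈ T := StronglyClosed.map_mem F hT hc hx (hRT hx)
  refine hP.cent hT ⟨T.mul_mem (T.inv_mem (hRT hx)) hfx, mem_centralizer_iff'.2 fun y hy => ?_⟩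
  have h2 : x * y * x⁻¹ ∈ P := (Subgroup.mem_normalizer_iff.1 (hRn x hx) y).1 hy
  have h3 := hc.map_conj hx (hPR hy)
  rw [h1 _ h2, h1 y hy] at h3
  calc x⁻¹ * f x * y * (x⁻¹ * f x)⁻¹ = x⁻¹ * (f x * y * (f x)⁻¹) * x := by group
    _ = y := by rw [← h3]; group

theorem trivial_fiso [Finite S] (hT : F.StronglyClosed T) (hP : TC F T P) (hPR : P ≤ R) (hRT : R ≤ T)
    (hRn : ∀ r ∈ R, r ∈ Subgroup.normalizer (P : Set Ω)) (hc : FMap F R f) (h1 : ∀ x ∈ P, f x = x) : FIso F R R f := by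
  refine hc.fiso_of_card hc.le (fun x hx => ?_) le_rfl
  have h2 := R.mul_mem hx (hPR (trivial_move hT hP hPR hRT hRn hc h1 hx))
  rwa [mul_inv_cancel_left] at h2

/-- **Decomposition lemma.** -/
theorem dl [Finite S] [Fact p.Prime] (hS : IsPGroup p S) (hF : F.IsSaturated p) (hT : F.StronglyClosed T)
    (hA : Fam F T p A) (hP : TC F T P) (hPn : F.IsFullyNormalized P) (hPR : P ≤ R) (hRN : R ≤ normalizerIn T P)
    (hκ : FMap F R κ) (hκN : ∀ x ∈ R, κ x ∈ normalizerIn T P) (hκP : ∀ x ∈ P, κ x ∈ P) (hκA : InA A P κ) :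
    ∃ c k, FIso F (normalizerIn T P) (normalizerIn T P) c ∧ (∀ x ∈ P, c x = x) ∧
      FMap (sysA F T A hT.1) R k ∧ InA A P k ∧ FIso F R R c ∧ ∀ x ∈ R, κ x = k (c x) := by
  have hPS := hPn.1
  have hTn := normalizes_of_stronglyClosed hT
  have hinv := sysA_inv hS hF hT hA
  have hstr := FusionFrat.Inv.strong hinv
  obtain ⟨N, hN⟩ : ∃ N, N = normalizerIn T P := ⟨_, rfl⟩
  rw [← hN] at hRN hκN ⊢
  have hPN : P ≤ N := hN ▸ le_normalizerIn hP.1
  have hNT : N ≤ T := hN ▸ normalizerIn_le T P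
  have hNNS : N ≤ normalizerIn S P := hN ▸ inf_le_inf_right _ hT.1
  have hNn : ∀ n ∈ N, n ∈ normalizerIn T P := fun n hn => hN ▸ hn
  let NS := normSys F P hPS
  have hNSsub : NS.IsSubsystemOf F := normSys_sub
  have hNSsat : NS.IsSaturated p := normSys_saturated hS hF hPn
  have hNSp : IsPGroup p ↥(normalizerIn S P) := isPGroup_of_le hS (normalizerIn_le S P)
  have hNSfin : Finite ↥(normalizerIn S P) := finite_of_le (normalizerIn_le S P)
  have hPNS : P ≤ normalizerIn S P := hPN.trans hNNS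
  -- maps of the normalizer system
  have hmk : ∀ {Q : Subgroup Ω} {f : Ω → Ω}, P ≤ Q → Q ≤ normalizerIn S P → FMap F Q f →
      (∀ x ∈ Q, f x ∈ normalizerIn S P) → (∀ x ∈ P, f x ∈ P) → FMap NS Q f := by
    intro Q f hPQ hQ hf hfQ hfP
    refine fmap_normSys.2 ⟨hQ, hfQ, f, ?_, fun _ _ => rfl, fiso_restrict hf hPQ hfP⟩
    rw [sup_eq_left.2 hPQ]; exact hf
  have hPinv : ∀ {Q : Subgroup Ω} {f : Ω → Ω}, P ≤ Q → FMap NS Q f → FIso F P P f := by
    intro Q f hPQ hf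
    obtain ⟨-, -, g, hg, g1, g2⟩ := fmap_normSys.1 hf
    exact g2.congr fun x hx => g1 x (hPQ hx)
  have hNcl : NS.StronglyClosed N := by
    rw [stronglyClosed_iff]
    refine ⟨hNNS, fun Q f hQ hf x hx => ?_⟩
    have h1 : f x ∈ normalizerIn S P := hf.map_mem hx
    have h2 := StronglyClosed.map_mem F hT (sub_fmap hNSsub hf) hx (hNT (hQ hx))
    rw [hN]; exact ⟨h2, h1.2⟩
  -- the generated subsystem
  let B : Subgroup Ω → (Ω → Ω) → Prop := fun Q f => P ≤ Q ∧ Q ≤ N ∧ PP F p Q f ∧ (∀ x ∈ P, f x ∈ P) ∧ InA A P f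
  have hB : ∀ Q f, B Q f → FMap NS Q f ∧ Q ≤ N ∧ ∀ x ∈ Q, f x ∈ N := by
    rintro Q f ⟨h1, h2, h3, h4, h5⟩
    exact ⟨hmk h1 (h2.trans hNNS) h3.map (fun x hx => hNNS (h2 (h3.mem hx))) h4, h2, fun x hx => h2 (h3.mem hx)⟩
  obtain ⟨D, hD⟩ : ∃ D, D = genSys NS N hNNS B := ⟨_, rfl⟩
  have hDE : ∀ {Q : Subgroup Ω} {f : Ω → Ω}, FMap D Q f → FMap (sysA F T A hT.1) Q f := by
    intro Q f hf
    rw [hD] at hf
    refine genSys_le hB hNT ?_ hf
    rintro Q f ⟨h1, h2, h3, h4, h5⟩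
    exact sysA_base hA (hP.mono hT h1 (h2.trans hNT)) (hA.ext P Q f hP hPn h1 (h2.trans hN.le) h3 h4 h5)
  have hDNS : D.IsSubsystemOf NS := by rw [hD]; exact genSys_sub
  have hcA : ∀ n ∈ N, InA A P (fun x => n * x * n⁻¹) := fun n hn => inA_conj hS hF hT hA hP (hNn n hn)
  have hDA : ∀ Q f, FMap D Q f → P ≤ Q → InA A P f := by
    intro Q f hf
    rw [hD] at hf
    refine genSys_induction hB (fun Q f => P ≤ Q → InA A P f) ?_ ?_ ?_ ?_ ?_ Q f hf
    · rintro Q f ⟨h1, h2, h3, h4, h5⟩ -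
      exact h5
    · intro Q s _ hs _
      exact hcA s hs
    · intro Q Q' f g hf h1 hg h2 h3 hPQ
      have h4 := h1 hPQ
      have h5 := h4.fiso hA hP hT.1
      have hPQ' : P ≤ Q' := fun y hy => by
        obtain ⟨x, hx, rfl⟩ := h5.mem_iff.1 hy
        exact h3 x (hPQ hx)
      exact h4.comp (h2 hPQ')
    · intro Q Q' f g hf h1 hg hgf hfg hPQ'
      have h5 := hPinv hPQ' (sub_fmap (by exact genSys_sub) hg.1)
      have hPQ : P ≤ Q := fun y hy => by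
        obtain ⟨x, hx, rfl⟩ := h5.mem_iff.1 hy
        exact hg.mem (hPQ' hx)
      exact (h1 hPQ).inv fun x hx => hgf x (hPQ hx)
    · intro Q f g _ h1 h2 hPQ
      exact (h1 hPQ).congr fun x hx => h2 x (hPQ hx)
  have hDc : ConjInv NS D := by
    rw [hD]
    refine genSys_conjInv hB ?_
    rintro Q Q' a f ha ⟨h1, h2, h3, h4, h5⟩ hQ'
    have haQ : FIso NS Q Q' a := ⟨ha.1.restrict h2, hQ'⟩
    have haQF := sub_fiso hNSsub haQ
    obtain ⟨a', ha', e1, e2⟩ := haQF.symm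
    have haP := hPinv h1 haQ.1
    have hPQ' : P ≤ Q' := fun y hy => by
      obtain ⟨x, hx, rfl⟩ := haP.mem_iff.1 hy
      exact haQ.mem (h1 hx)
    have ha'P : ∀ y ∈ P, a' y ∈ P := fun y hy => by
      obtain ⟨x, hx, rfl⟩ := haP.mem_iff.1 hy
      rw [e1 x (h1 hx)]; exact hx
    refine ⟨fun y => a (f (a' y)), ⟨hPQ', fun y hy => ?_, h3.transport haQF ha' e1 e2, fun y hy => ?_, ?_⟩, fun x hx => ?_⟩
    · obtain ⟨x, hx, rfl⟩ := haQ.mem_iff.1 hy
      exact ha.mem (h2 hx)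
    · exact haP.mem (h4 _ (ha'P y hy))
    · exact hA.equiv P P a a' f hP haP (fun x hx => e1 x (h1 hx)) h5
    · show a (f (a' (a x))) = a (f x)
      rw [e1 x hx]
  have hfrat : ∀ Q f, Q ≤ N → FMap NS Q f → Frat NS D Q f := by
    refine frattini_of hNSp hNSsat hNcl hDc fun Q f hQN hQ hf hbig => ?_
    by_cases hPQ : P ≤ Q
    · have hQ' := automized_receptive_of_fullyNormalized hNSp hNSsat hQ
      have hlt : Q < normalizerIn N Q := lt_normalizerIn hNSp hNNS hQN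
      have hfinQ : Finite Q := finite_of_le hQ.1
      let N' : Subgroup (MulAut Q) :=
        { carrier := {β | β ∈ NS.autGroup Q ∧ InA A P (autFun β)}
          one_mem' := ⟨one_mem _, inA_id.congr fun x hx => (autFun_one (hPQ hx)).symm⟩
          mul_mem' := by
            rintro β γ ⟨h1, h3⟩ ⟨k1, k3⟩
            exact ⟨mul_mem h1 k1, (k3.comp h3).congr fun x hx => (autFun_mul _ _ (hPQ hx)).symm⟩
          inv_mem' := by
            rintro β ⟨h1, h3⟩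
            exact ⟨inv_mem h1, h3.inv fun x hx => autFun_inv_apply β (hPQ hx)⟩ }
      have hN'n : ∀ α ∈ NS.autGroup Q, ∀ n ∈ N', α * n * α⁻¹ ∈ N' := by
        rintro α hα n ⟨h1, h2⟩
        refine ⟨mul_mem (mul_mem hα h1) (inv_mem hα), ?_⟩
        have hαi := (fiso_autFun_iff hQ.1).2 hα
        have hαP := hPinv hPQ hαi.1
        have hαi' := (fiso_autFun_iff hQ.1).2 (inv_mem hα : α⁻¹ ∈ NS.autGroup Q)
        have hα'P := hPinv hPQ hαi'.1
        refine (hA.equiv P P (autFun α) (autFun α⁻¹) _ hP hαP (fun x hx => autFun_inv_apply α (hPQ hx)) h2).congr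
          fun x hx => ?_
        rw [← autFun_mul _ _ (hPQ (hα'P.mem hx)), ← autFun_mul _ _ (hPQ hx)]
      let H : Subgroup (MulAut Q) :=
        { carrier := {β | β ∈ NS.autGroup Q ∧ Frat NS D Q (autFun β)}
          one_mem' := ⟨one_mem _, ⟨fun x => x, fun x => x, FIso.refl NS hNNS, fmap_id D hQN.le,
            fun x hx => autFun_one hx⟩⟩
          mul_mem' := by
            rintro β γ ⟨h1, h3⟩ ⟨k1, k3⟩
            refine ⟨mul_mem h1 k1, ?_⟩
            obtain ⟨a, f₀, h4, h5, h6⟩ := frat_comp hDc k3 (fun x hx => autFun_mem γ hx) hQN.le h3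
            exact ⟨a, f₀, h4, h5, fun x hx => by rw [autFun_mul _ _ hx]; exact h6 x hx⟩
          inv_mem' := by
            rintro β ⟨h1, h3⟩
            exact ⟨inv_mem h1, frat_inv hDc ((fiso_autFun_iff hQ.1).2 h1) (fun x hx => autFun_inv_apply β hx) h3⟩ }
      have hN'H : N' ≤ H := by
        refine normal_induction hQ'.1 (fun β hβ => hβ.1) hN'n ?_ ?_
        · rintro β ⟨hβ, hβ'⟩
          refine ⟨hβ.1, ?_⟩
          obtain ⟨s, hs, h1⟩ := mem_autInducedBy_iff.1 hβ'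
          have hsN : s ∈ Subgroup.normalizer (N : Set Ω) := normalizes_of_stronglyClosed hNcl hs
          refine ⟨fun x => s * x * s⁻¹, fun x => x, fiso_conj_of_normalizer NS hNNS hs hsN, fmap_id D hQN.le,
            fun x hx => ?_⟩
          rw [autFun_of_mem β hx]; exact h1 ⟨x, hx⟩
        · rintro κ ⟨hκ, hκ'⟩ hpp
          refine ⟨hκ, ⟨fun x => x, autFun κ, FIso.refl NS hNNS, ?_, fun _ _ => rfl⟩⟩
          rw [hD]
          exact fmap_genSys_base hB ⟨hPQ, hQN.le, pp_sub hNSsub hpp, fun x hx => (hPinv hPQ hpp.map).mem hx, hκ'⟩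
      have hMN : autInducedBy (normalizerIn N Q) Q ≤ N' := by
        intro β hβ
        obtain ⟨t, ht, h1⟩ := mem_autInducedBy_iff.1 hβ
        have htN : t ∈ N := ht.1
        refine ⟨autInducedBy_le_autGroup hQ.1 ((normalizerIn_le N Q).trans hNNS) hβ, (hcA t htN).congr fun x hx => ?_⟩
        rw [autFun_of_mem β (hPQ hx)]; exact (h1 ⟨x, hPQ hx⟩).symm
      obtain ⟨g, α, hα, hg, hgP, h1⟩ := exists_frattini_ext hNSp hQ'.1 hQ'.2 N' (fun β hβ => hβ.1) hN'n hlt.le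
        (inf_le_inf_right _ hNNS) hMN hf
      have h2 := hbig _ g (normalizerIn_le N Q) hlt hg
      obtain ⟨a, f₀, h4, h5, h6⟩ := frat_comp hDc (hN'H hα).2 (fun x hx => autFun_mem α hx) hQN.le h2
      exact ⟨a, f₀, h4, h5, fun x hx => by rw [h1 x hx]; exact h6 x hx⟩
    · obtain ⟨-, -, g, hg, g1, g2⟩ := fmap_normSys.1 hf.1
      have hlt : Q < Q ⊔ P := lt_of_le_of_ne le_sup_left fun h => hPQ (le_sup_right.trans h.ge)
      have hQNS : Q ⊔ P ≤ normalizerIn S P := sup_le hQ.1 hPNS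
      have hg' : FMap NS (Q ⊔ P) g := hmk le_sup_right hQNS hg (map_sup_mem hg (fun x hx => by
        rw [g1 x hx]; exact hf.1.map_mem hx) (fun x hx => hPNS (g2.mem hx))) (fun x hx => g2.mem hx)
      obtain ⟨a, f₀, h4, h5, h6⟩ := hbig _ g (sup_le hQN.le hPN) hlt hg'
      exact ⟨a, f₀, h4, h5, fun x hx => by rw [← g1 x hx]; exact h6 x hx⟩
  -- the decomposition
  have hκNS : FMap NS R κ := hmk hPR (hRN.trans hNNS) hκ (fun x hx => hNNS (hκN x hx)) hκP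
  obtain ⟨θ, f₀, hθ, hf₀, h1⟩ := hfrat R κ hRN hκNS
  have hf₀A := hDA R f₀ hf₀ hPR
  have hθF := sub_fiso hNSsub hθ
  have hθP := hPinv hPN hθ.1
  have hθA : InA A P θ := by
    obtain ⟨f₁, hf₁, e1, e2⟩ := hf₀A.exists_right_inv
    refine (hf₁.comp hκA).congr fun x hx => ?_
    show κ (f₁ x) = θ x
    rw [h1 _ (hPR (hf₁.mem hx)), e2 x hx]
  have hθF' : FIso F (normalizerIn T P) (normalizerIn T P) θ := hN ▸ hθF
  obtain ⟨c, k₁, hc, hcP, hk₁, hk₁A, h2⟩ := dl_aut hS hF hT hA hP hPn hθF' (fun x hx => hθP.mem hx) hθA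
  rw [← hN] at hc hk₁ h2
  have hcNS : FIso NS N N c := ⟨hmk hPN hNNS hc.1 (fun x hx => hNNS (hc.mem hx)) (fun x hx => by
    rw [hcP x hx]; exact hx), hc.2⟩
  have hRT := hRN.trans hNT
  have hRn : ∀ r ∈ R, r ∈ Subgroup.normalizer (P : Set Ω) := fun r hr => (hNn r (hRN hr)).2
  have hcR : FIso F R R c := trivial_fiso hT hP hPR hRT hRn (hc.1.restrict hRN) hcP
  obtain ⟨g, hg, h3⟩ := hDc R R c f₀ hcNS hf₀ hcR.2
  have hgE := hDE hg
  refine ⟨c, fun x => k₁ (g x), hc, hcP, hgE.comp hk₁.1 (fun x hx => ?_), ?_, hcR, fun x hx => ?_⟩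
  · exact hg.map_mem hx
  · exact (hDA R g hg hPR).comp hk₁A
  · show κ x = k₁ (g (c x))
    rw [h1 x hx, h2 _ (hf₀.map_mem hx), h3 x hx]

/-! ### The main induction -/

def GoodTo (F : FusionSystem S) (T P₀ G : Subgroup Ω) : Prop := ∃ a, FIso F T T a ∧ FIso F G P₀ a

def I1 (E : FusionSystem T) (A : ∀ P : Subgroup Ω, Subgroup (MulAut P)) (X : Subgroup Ω) : Prop :=
  ∀ f, FIso E X X f → InA A X f

def I2 (F : FusionSystem S) (E : FusionSystem T) (X : Subgroup Ω) : Prop :=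
  ∀ P₀ G', F.IsFullyNormalized P₀ → GoodTo F T P₀ X → GoodTo F T P₀ G' → E.IsConj X G' →
    ∃ h, FMap E (normalizerIn T X) h ∧ FIso E X G' h

theorem aut_norm (ha : FIso F T T a) (h : FIso F G P₀ a) (hG : G ≤ T) :
    FIso F (normalizerIn T G) (normalizerIn T P₀) a := by
  refine ⟨ha.1.restrict (normalizerIn_le T G), fun y => ⟨fun hy => ?_, ?_⟩⟩
  · obtain ⟨x, hx, rfl⟩ := ha.mem_iff.1 hy.1
    exact ⟨x, ⟨hx, (h.map_normalizer_iff ha.1 hG hx).1 hy.2⟩, rfl⟩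
  · rintro ⟨x, hx, rfl⟩
    exact ⟨ha.mem hx.1, (h.map_normalizer_iff ha.1 hG hx.1).2 hx.2⟩

theorem map_norm (h : FIso E X Y f) (hf : FMap E R f) (hXR : X ≤ R) {x : Ω} (hx : x ∈ R)
    (hn : x ∈ Subgroup.normalizer (X : Set Ω)) : f x ∈ normalizerIn T Y :=
  ⟨hf.map_mem hx, h.map_normalizer hf hXR hx hn⟩

theorem norm_fiso [Finite S] (hTS : T ≤ S) (hG : GoodTo F T P₀ G₁) (hG' : GoodTo F T P₀ G₂) (hG₁ : G₁ ≤ T)
    (hG₂ : G₂ ≤ T) (h1 : FMap E (normalizerIn T G₁) f) (h2 : FIso E G₁ G₂ f) :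
    FIso E (normalizerIn T G₁) (normalizerIn T G₂) f := by
  have hTfin : Finite T := finite_of_le hTS
  obtain ⟨a, ha, haG⟩ := hG
  obtain ⟨b, hb, hbG⟩ := hG'
  have hc : Nat.card (normalizerIn T G₁) = Nat.card (normalizerIn T G₂) :=
    (aut_norm ha haG hG₁).card_eq.trans (aut_norm hb hbG hG₂).card_eq.symm
  exact h1.fiso_of_card (normalizerIn_le T G₂) (fun x hx => map_norm h2 h1 (le_normalizerIn hG₁) hx hx.2) hc.ge

theorem exists_e [Finite S] [Fact p.Prime] (hS : IsPGroup p S) (hF : F.IsSaturated p) (hinv : FusionInvar.Inv E F)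
    (hP₀ : F.IsFullyNormalized P₀) (hXT : X ≤ T) (hX : F.IsConj X P₀) :
    ∃ l a e G, FIso F X P₀ l ∧ FMap F (normalizerIn S X) l ∧ (∀ x ∈ normalizerIn S X, l x ∈ normalizerIn S P₀) ∧
      FIso F T T a ∧ FMap E (normalizerIn T X) e ∧ FIso E X G e ∧ FIso F G P₀ a ∧
      ∀ x ∈ normalizerIn T X, l x = a (e x) := by
  have hT := hinv.closed
  obtain ⟨l, hl, hlN, hlN'⟩ := exists_map_to_fullyNormalized hS hF hP₀ hX
  have hle : normalizerIn T X ≤ normalizerIn S X := inf_le_inf_right _ hT.1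
  obtain ⟨a, e, ha, he, hae⟩ := hinv.frattini (normalizerIn_le T X) (hlN.restrict hle)
  obtain ⟨G, hG⟩ := (he.restrict (le_normalizerIn hXT)).exists_iso
  refine ⟨l, a, e, G, hl, hlN, hlN', ha, he, hG, ⟨ha.1.restrict hG.le_right, fun y => ⟨fun hy => ?_, ?_⟩⟩, hae⟩
  · obtain ⟨x, hx, rfl⟩ := hl.mem_iff.1 hy
    exact ⟨e x, hG.mem hx, (hae x (le_normalizerIn hXT hx)).symm⟩
  · rintro ⟨z, hz, rfl⟩
    obtain ⟨x, hx, rfl⟩ := hG.mem_iff.1 hz
    rw [← hae x (le_normalizerIn hXT hx)]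
    exact hl.mem hx

theorem mstep [Finite S] [Fact p.Prime] (hS : IsPGroup p S) (hF : F.IsSaturated p) (hT : F.StronglyClosed T)
    (hA : Fam F T p A) (hE : E = sysA F T A hT.1)
    (hI : ∀ X, TC F T X → Nat.card X = Nat.card R → I1 E A X ∧ I2 F E X) (hR : TC F T R) (hRR₁ : R ≤ R₁) (hR₁T : R₁ ≤ T)
    (hn : ∀ r ∈ R₁, r ∈ Subgroup.normalizer (R : Set Ω)) (hθ : FMap F R₁ θ) (hθE : FMap E R θ) :
    ∃ κ, FIso F R₁ R₁ κ ∧ (∀ x ∈ R, κ x = x) ∧ FMap E R₁ (fun x => θ (κ x)) := by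
  have hinv : FusionInvar.Inv E F := hE ▸ sysA_inv hS hF hT hA
  have hTfin : Finite T := finite_of_le hT.1
  have hRS := hR.1.trans hT.1
  obtain ⟨R', hR'⟩ := hθE.exists_iso
  have hR'F := sub_fiso hinv.sub hR'
  have hR'T : R' ≤ T := hR'.le_right
  obtain ⟨P₀, l₀, hP₀, hl₀, -, -⟩ := exists_fullyNormalized_map hS hF hRS
  have hTC₀ := hR.conj hT hl₀.isConj
  obtain ⟨l, a, e, G, hl, hlN, hlN', ha, he, heG, haG, hae⟩ := exists_e hS hF hinv hP₀ hR.1 hl₀.isConj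
  obtain ⟨m, a', e', G', hm, hmN, hmN', ha', he', he'G, ha'G, hae'⟩ := exists_e hS hF hinv hP₀ hR'T
    (isConj_trans (isConj_symm hR'F.isConj) hl₀.isConj)
  have hTCG : TC F T G := hR.conj hT (sub_isConj hinv.sub heG.isConj)
  have hTCR' : TC F T R' := hR.conj hT hR'F.isConj
  have hTCG' : TC F T G' := hTCR'.conj hT (sub_isConj hinv.sub he'G.isConj)
  have hcG : Nat.card G = Nat.card R := heG.card_eq.symm
  obtain ⟨h, hh, hhG⟩ := (hI G hTCG hcG).2 P₀ G' hP₀ ⟨a, ha, haG⟩ ⟨a', ha', ha'G⟩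
    (isConj_trans (isConj_symm heG.isConj) (isConj_trans hR'.isConj he'G.isConj))
  have hNN := norm_fiso hT.1 ⟨a, ha, haG⟩ ⟨a', ha', ha'G⟩ hTCG.1 hTCG'.1 hh hhG
  obtain ⟨h', hh', h1, h2⟩ := hNN.symm
  have hR₁N : R₁ ≤ normalizerIn T R := fun x hx => ⟨hR₁T hx, hn x hx⟩
  have hR₁NS : R₁ ≤ normalizerIn S R := hR₁N.trans (inf_le_inf_right _ hT.1)
  have hRN := le_normalizerIn hR.1
  obtain ⟨Q₁, hQ₁⟩ := (he.restrict hR₁N).exists_iso
  obtain ⟨W, hW⟩ := (hlN.restrict hR₁NS).exists_iso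
  obtain ⟨l₁, hl₁, l1, l2⟩ := hW.symm
  obtain ⟨a₁, ha₁, a1, a2⟩ := ha.symm
  -- membership facts
  have m1 : ∀ x ∈ R₁, θ x ∈ normalizerIn T R' := fun x hx =>
    ⟨StronglyClosed.map_mem F hT hθ hx (hR₁T hx), hR'F.map_normalizer hθ hRR₁ hx (hn x hx)⟩
  have m2 : ∀ x ∈ normalizerIn T R', e' x ∈ normalizerIn T G' := fun x hx =>
    map_norm he'G he' (le_normalizerIn hR'T) hx hx.2
  have m3 : ∀ x ∈ normalizerIn T G, a x ∈ normalizerIn T P₀ := fun x hx => (aut_norm ha haG hTCG.1).mem hx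
  have hGN := le_normalizerIn hTCG.1
  -- the map κ₀
  have hκ₀ : FMap F W (fun y => a (h' (e' (θ (l₁ y))))) := by
    refine (((hl₁.1.comp hθ fun y hy => hl₁.mem hy).comp (sub_fmap hinv.sub he') fun y hy =>
      m1 _ (hl₁.mem hy)).comp (sub_fmap hinv.sub hh'.1) fun y hy => m2 _ (m1 _ (hl₁.mem hy))).comp
      (ha.1.restrict (normalizerIn_le T G)) fun y hy => hh'.mem (m2 _ (m1 _ (hl₁.mem hy)))
  have hκ₀N : ∀ y ∈ W, a (h' (e' (θ (l₁ y)))) ∈ normalizerIn T P₀ := fun y hy =>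
    m3 _ (hh'.mem (m2 _ (m1 _ (hl₁.mem hy))))
  have hP₀W : P₀ ≤ W := fun y hy => by
    obtain ⟨x, hx, rfl⟩ := hl.mem_iff.1 hy
    exact hW.mem (hRR₁ hx)
  have hWN : W ≤ normalizerIn T P₀ := fun y hy => by
    obtain ⟨x, hx, rfl⟩ := hW.mem_iff.1 hy
    exact ⟨StronglyClosed.map_mem F hT hlN (hR₁NS hx) (hR₁T hx), (hlN' x (hR₁NS hx)).2⟩
  -- on G
  obtain ⟨e₁, he₁, e1, e2⟩ := heG.symm
  obtain ⟨e'₀, he'₀, e'1, e'2⟩ := he'G.symm
  have hh'G : FIso E G' G h' := by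
    refine ⟨hh'.1.restrict (le_normalizerIn hTCG'.1), fun y => ⟨fun hy => ⟨h y, hhG.mem hy, h1 y (hGN hy)⟩, ?_⟩⟩
    rintro ⟨z, hz, rfl⟩
    obtain ⟨w, hw, rfl⟩ := hhG.mem_iff.1 hz
    rw [h1 w (hGN hw)]; exact hw
  have hmG : FIso E G G (fun y => h' (e' (θ (e₁ y)))) := ((he₁.trans hR').trans he'G).trans hh'G
  have hmA := (hI G hTCG hcG).1 _ hmG
  have hκ₀A : InA A P₀ (fun y => a (h' (e' (θ (l₁ y))))) := by
    refine (hA.equiv G P₀ a a₁ _ hTCG haG (fun x hx => a1 x (hTCG.1 hx)) hmA).congr fun y hy => ?_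
    obtain ⟨x, hx, rfl⟩ := hl.mem_iff.1 hy
    show a (h' (e' (θ (e₁ (a₁ (l x)))))) = a (h' (e' (θ (l₁ (l x)))))
    rw [l1 x (hRR₁ hx), hae x (hRN hx), a1 _ (he.map_mem (hRN hx)), e1 x hx]
  obtain ⟨c, k, hc, hcP, hk, hkA, hcW, hck⟩ := dl hS hF hT hA hTC₀ hP₀ hP₀W hWN hκ₀ hκ₀N
    (fun x hx => hκ₀A.mem hx) hκ₀A
  rw [← hE] at hk
  obtain ⟨c', hc', c1, c2⟩ := hcW.symm
  refine ⟨fun x => l₁ (c' (l x)), (hW.trans hc').trans hl₁, fun x hx => ?_, ?_⟩
  · show l₁ (c' (l x)) = x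
    have h3 : c' (l x) = l x := by
      have := c1 (l x) (hW.mem (hRR₁ hx))
      rwa [hcP _ (hl.mem hx)] at this
    rw [h3, l1 x (hRR₁ hx)]
  · obtain ⟨g, hg, hg1⟩ := hinv.conj (Q := Q₁) ha₁ hk (fun y => by
      rw [hQ₁.mem_iff]
      constructor
      · rintro ⟨x, hx, rfl⟩
        exact ⟨l x, hW.mem hx, by rw [hae x (hR₁N hx), a1 _ (he.map_mem (hR₁N hx))]⟩
      · rintro ⟨w, hw, rfl⟩
        obtain ⟨x, hx, rfl⟩ := hW.mem_iff.1 hw
        exact ⟨x, hx, by rw [hae x (hR₁N hx), a1 _ (he.map_mem (hR₁N hx))]⟩)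
    obtain ⟨V', hV'⟩ := he'.exists_iso
    obtain ⟨e'₁, he'₁, e'3, e'4⟩ := hV'.symm
    have hκm : ∀ x ∈ R₁, l₁ (c' (l x)) ∈ R₁ := fun x hx => hl₁.mem (hc'.mem (hW.mem hx))
    have key1 : ∀ x ∈ R₁, g (e x) = h' (e' (θ (l₁ (c' (l x))))) := by
      intro x hx
      have hlx := hW.mem hx
      have hcx := hc'.mem hlx
      have h3 : a (h' (e' (θ (l₁ (c' (l x)))))) = k (l x) := by
        have := hck _ hcx
        rw [c2 _ hlx] at this
        exact this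
      have h4 : e x = a₁ (l x) := by rw [hae x (hR₁N hx), a1 _ (he.map_mem (hR₁N hx))]
      rw [h4, hg1 _ hlx, ← h3, a1 _ (hh'.1.map_mem (m2 _ (m1 _ (hκm x hx))))]
    have key2 : ∀ x ∈ R₁, h (g (e x)) = e' (θ (l₁ (c' (l x)))) := fun x hx => by
      rw [key1 x hx, h2 _ (m2 _ (m1 _ (hκm x hx)))]
    have hcomp : FMap E R₁ (fun x => e'₁ (h (g (e x)))) := by
      refine (((he.restrict hR₁N).comp hg fun x hx => hQ₁.mem hx).comp hh fun x hx => ?_).comp he'₁.1 fun x hx => ?_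
      · show g (e x) ∈ _
        rw [key1 x hx]
        exact hh'.mem (m2 _ (m1 _ (hκm x hx)))
      · show h (g (e x)) ∈ V'
        rw [key2 x hx]
        exact hV'.mem (m1 _ (hκm x hx))
    refine hcomp.congr fun x hx => ?_
    show e'₁ (h (g (e x))) = θ (l₁ (c' (l x)))
    rw [key2 x hx, e'3 _ (m1 _ (hκm x hx))]

theorem lstep [Finite S] [Fact p.Prime] (hS : IsPGroup p S) (hF : F.IsSaturated p) (hT : F.StronglyClosed T)
    (hA : Fam F T p A) (hE : E = sysA F T A hT.1) (hP₀ : F.IsFullyNormalized P₀) (hTC₀ : TC F T P₀)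
    (hI : ∀ X, TC F T X → Nat.card P₀ < Nat.card X → I1 E A X ∧ I2 F E X) (hG₁ : GoodTo F T P₀ G₁)
    (hG₂ : GoodTo F T P₀ G₂) : ∀ (n : ℕ) (R : Subgroup Ω) (ψ : Ω → Ω), Nat.card (normalizerIn T G₁) - Nat.card R = n →
      G₁ < R → R ≤ normalizerIn T G₁ → FMap E R ψ → FIso E G₁ G₂ ψ →
      ∃ b h, InA A G₂ b ∧ FMap E (normalizerIn T G₁) h ∧ FIso E G₁ G₂ h ∧ ∀ x ∈ G₁, h x = b (ψ x) := by
  have hinv : FusionInvar.Inv E F := hE ▸ sysA_inv hS hF hT hA
  have hTfin : Finite T := finite_of_le hT.1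
  obtain ⟨a₁, ha₁, haG₁⟩ := id hG₁
  obtain ⟨a₂, ha₂, haG₂⟩ := id hG₂
  have hG₁T : G₁ ≤ T := by
    obtain ⟨a', ha', -, -⟩ := haG₁.symm
    exact le_of_fiso hT hTC₀.1 ha'
  have hG₂T : G₂ ≤ T := by
    obtain ⟨a', ha', -, -⟩ := haG₂.symm
    exact le_of_fiso hT hTC₀.1 ha'
  have hTC₁ : TC F T G₁ := hTC₀.conj hT (isConj_symm haG₁.isConj)
  have hTC₂ : TC F T G₂ := hTC₀.conj hT (isConj_symm haG₂.isConj)
  have hN₁ := aut_norm ha₁ haG₁ hG₁T
  have hN₂ := aut_norm ha₂ haG₂ hG₂T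
  obtain ⟨a₁', ha₁', p1, p2⟩ := ha₁.symm
  obtain ⟨a₂', ha₂', q1, q2⟩ := ha₂.symm
  have hG₁N := le_normalizerIn hG₁T
  have hG₂N := le_normalizerIn hG₂T
  have hP₀N := le_normalizerIn hTC₀.1
  have hP₀T := hTC₀.1
  -- inverses restricted
  have haG₁' : FIso F P₀ G₁ a₁' := by
    refine ⟨ha₁'.1.restrict hP₀T, fun y => ⟨fun hy => ⟨a₁ y, haG₁.mem hy, p1 y (hG₁T hy)⟩, ?_⟩⟩
    rintro ⟨z, hz, rfl⟩
    obtain ⟨w, hw, rfl⟩ := haG₁.mem_iff.1 hz
    rw [p1 w (hG₁T hw)]; exact hw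
  have haG₂' : FIso F P₀ G₂ a₂' := by
    refine ⟨ha₂'.1.restrict hP₀T, fun y => ⟨fun hy => ⟨a₂ y, haG₂.mem hy, q1 y (hG₂T hy)⟩, ?_⟩⟩
    rintro ⟨z, hz, rfl⟩
    obtain ⟨w, hw, rfl⟩ := haG₂.mem_iff.1 hz
    rw [q1 w (hG₂T hw)]; exact hw
  have hN₂' := aut_norm ha₂' haG₂' hP₀T
  have hN₁' := aut_norm ha₁' haG₁' hP₀T
  have hP₀' := automized_receptive_of_fullyNormalized hS hF hP₀
  intro n
  induction n using Nat.strong_induction_on with
  | _ n ih =>
    intro R ψ hn hlt hRN hψ hψG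
    have hRT : R ≤ T := hRN.trans (normalizerIn_le T G₁)
    by_cases hRe : R = normalizerIn T G₁
    · subst hRe
      exact ⟨fun x => x, ψ, inA_id, hψ, hψG, fun _ _ => rfl⟩
    · have hRlt : R < normalizerIn T G₁ := lt_of_le_of_ne hRN hRe
      have hR₁lt : R < normalizerIn (normalizerIn T G₁) R :=
        lt_normalizerIn hS ((normalizerIn_le T G₁).trans hT.1) hRlt
      have hψF := sub_fmap hinv.sub hψ
      have hψGF := sub_fiso hinv.sub hψG
      have hψm : ∀ x ∈ R, ψ x ∈ normalizerIn T G₂ := fun x hx => map_norm hψG hψ hlt.le hx (hRN hx).2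
      -- δ on P₀
      have hδ : FIso F P₀ P₀ (fun y => a₂ (ψ (a₁' y))) := (haG₁'.trans hψGF).trans haG₂
      obtain ⟨g, α, hα, hg, hgP, hδg⟩ := exists_frattini_ext hS hP₀'.1 hP₀'.2 (A P₀) (hA.le P₀ hTC₀)
        (hA.normal hTC₀ hT.1) hP₀N (inf_le_inf_right _ hT.1)
        (fun β hβ => hA.ind P₀ hTC₀ hP₀ (autInducedBy_mono (normalizerIn_le T P₀) hβ)) hδ
      have hgN : FIso F (normalizerIn T P₀) (normalizerIn T P₀) g :=
        hg.fiso_of_card ((normalizerIn_le T P₀).trans hT.1) (fun x hx =>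
          ⟨StronglyClosed.map_mem F hT hg hx hx.1, hgP.map_normalizer hg hP₀N hx hx.2⟩) le_rfl
      obtain ⟨g', hg', g1, g2⟩ := hgN.symm
      have hg'P : ∀ y ∈ P₀, g' y ∈ P₀ := fun y hy => by
        obtain ⟨x, hx, rfl⟩ := hgP.mem_iff.1 hy
        rw [g1 x (hP₀N hx)]; exact hx
      -- W
      obtain ⟨W, hW⟩ := ((hN₁.trans hgN).1.restrict hRN).exists_iso
      have hWv : ∀ y, y ∈ W ↔ ∃ x ∈ R, g (a₁ x) = y := fun y => hW.mem_iff
      have hWN : W ≤ normalizerIn T P₀ := fun y hy => by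
        obtain ⟨x, hx, rfl⟩ := (hWv y).1 hy
        exact hgN.mem (hN₁.mem (hRN hx))
      have hP₀W : P₀ ≤ W := fun y hy => by
        obtain ⟨z, hz, rfl⟩ := hgP.mem_iff.1 hy
        obtain ⟨x, hx, rfl⟩ := haG₁.mem_iff.1 hz
        exact (hWv _).2 ⟨x, hlt.le hx, rfl⟩
      have hWb : ∀ y ∈ W, a₁' (g' y) ∈ R := fun y hy => by
        obtain ⟨x, hx, rfl⟩ := (hWv y).1 hy
        rw [g1 _ (hN₁.mem (hRN hx)), p1 x (hRT hx)]; exact hx
      have hκ : FMap F W (fun y => a₂ (ψ (a₁' (g' y)))) := by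
        refine (((hg'.1.restrict hWN).comp (ha₁'.1) fun y hy => (hg'.mem (hWN hy)).1).comp hψF fun y hy =>
          hWb y hy).comp ha₂.1 fun y hy => (hψm _ (hWb y hy)).1
      have hκN : ∀ y ∈ W, a₂ (ψ (a₁' (g' y))) ∈ normalizerIn T P₀ := fun y hy => hN₂.mem (hψm _ (hWb y hy))
      have hκA : InA A P₀ (fun y => a₂ (ψ (a₁' (g' y)))) := by
        refine (hA.equiv P₀ P₀ g g' _ hTC₀ hgP (fun x hx => g1 x (hP₀N hx)) (inA_aut.2 hα)).congr fun y hy => ?_
        exact (hδg _ (hg'P y hy)).symm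
      obtain ⟨c, k, hc, hcP, hk, hkA, hcW, hck⟩ := dl hS hF hT hA hTC₀ hP₀ hP₀W hWN hκ hκN (fun x hx => hκA.mem hx) hκA
      rw [← hE] at hk
      -- θ
      have hθ : FIso F (normalizerIn T G₁) (normalizerIn T G₂) (fun x => a₂' (c (g (a₁ x)))) :=
        ((hN₁.trans hgN).trans hc).trans hN₂'
      -- k₂ = a₂' k a₂
      obtain ⟨W₂, hW₂⟩ := ((ha₂'.1.restrict (hWN.trans (normalizerIn_le T P₀)))).exists_iso
      obtain ⟨k₂, hk₂, hk₂1⟩ := hinv.conj ha₂' hk (fun y => hW₂.mem_iff)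
      obtain ⟨W₃, hW₃⟩ := hk₂.exists_iso
      obtain ⟨k₂', hk₂', r1, r2⟩ := hW₃.symm
      have hθW : ∀ x ∈ R, a₂' (c (g (a₁ x))) ∈ W₂ := fun x hx => hW₂.mem (hcW.mem ((hWv _).2 ⟨x, hx, rfl⟩))
      have hψk : ∀ x ∈ R, ψ x = k₂ (a₂' (c (g (a₁ x)))) := by
        intro x hx
        have hw : g (a₁ x) ∈ W := (hWv _).2 ⟨x, hx, rfl⟩
        have h3 := hck _ hw
        have h4 : a₂ (ψ (a₁' (g' (g (a₁ x))))) = k (c (g (a₁ x))) := h3
        rw [g1 _ (hN₁.mem (hRN hx)), p1 x (hRT hx)] at h4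
        rw [hk₂1 _ (hcW.mem hw), ← h4, q1 _ (hψm x hx).1]
      have hθk : ∀ x ∈ R, a₂' (c (g (a₁ x))) = k₂' (ψ x) := fun x hx => by
        rw [hψk x hx, r1 _ (hθW x hx)]
      have hθE : FMap E R (fun x => a₂' (c (g (a₁ x)))) := by
        refine (hψ.comp hk₂'.1 fun x hx => ?_).congr fun x hx => (hθk x hx).symm
        rw [hψk x hx]; exact hW₃.mem (hθW x hx)
      -- k₂ on G₂
      have hk₂A : InA A G₂ k₂ := by
        refine (hA.equiv P₀ G₂ a₂' a₂ k hTC₀ haG₂' (fun x hx => q2 x (hP₀T hx)) hkA).congr fun y hy => ?_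
        have hay := haG₂.mem hy
        show a₂' (k (a₂ y)) = k₂ y
        rw [← hk₂1 _ (hP₀W hay), q1 y (hG₂T hy)]
      have hG₂W₂ : G₂ ≤ W₂ := fun y hy => by
        have := hW₂.mem (hP₀W (haG₂.mem hy))
        rwa [q1 y (hG₂T hy)] at this
      have hk₂'A : InA A G₂ k₂' := hk₂A.inv fun x hx => r1 x (hG₂W₂ hx)
      -- mstep
      have hTCR : TC F T R := hTC₁.mono hT hlt.le hRT
      have hfinR : Finite R := finite_of_le hRT
      have hcR : Nat.card P₀ < Nat.card R := by rw [← haG₁.card_eq]; exact card_lt hlt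
      have hR₁T : normalizerIn (normalizerIn T G₁) R ≤ T := (normalizerIn_le _ R).trans (normalizerIn_le T G₁)
      obtain ⟨κ', hκ', hκ'1, hκ'2⟩ := mstep hS hF hT hA hE (fun X hX hXc => hI X hX (by rw [hXc]; exact hcR)) hTCR
        hR₁lt.le hR₁T (fun r hr => hr.2) (hθ.1.restrict (normalizerIn_le _ R)) hθE
      have hψ'G : FIso E G₁ G₂ (fun x => a₂' (c (g (a₁ (κ' x))))) := by
        have h5 : FIso F G₁ G₂ (fun x => a₂' (c (g (a₁ x)))) := by
          have hcP₀ : FIso F P₀ P₀ c := fiso_restrict hc.1 hP₀N fun x hx => by rw [hcP x hx]; exact hx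
          exact ((haG₁.trans hgP).trans hcP₀).trans haG₂'
        have h6 : FIso E G₁ G₂ (fun x => a₂' (c (g (a₁ x)))) := ⟨hθE.restrict hlt.le, h5.2⟩
        exact h6.congr fun x hx => by rw [hκ'1 x (hlt.le hx)]
      have hfinN : Finite (normalizerIn T G₁) := finite_of_le (normalizerIn_le T G₁)
      have hfinN' : Finite (normalizerIn (normalizerIn T G₁) R) := finite_of_le hR₁T
      have hc1 := card_lt hR₁lt
      have hc2 : Nat.card (normalizerIn (normalizerIn T G₁) R) ≤ Nat.card (normalizerIn T G₁) :=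
        Nat.card_le_card_of_injective _ (Subgroup.inclusion_injective (normalizerIn_le _ R))
      obtain ⟨b, h, hb, hh, hhG, hbh⟩ := ih _ (by omega) (normalizerIn (normalizerIn T G₁) R) _ rfl
        (hlt.trans hR₁lt) (normalizerIn_le _ R) hκ'2 hψ'G
      refine ⟨fun x => b (k₂' x), h, hk₂'A.comp hb, hh, hhG, fun x hx => ?_⟩
      show h x = b (k₂' (ψ x))
      rw [hbh x hx, ← hθk x (hlt.le hx), hκ'1 x (hlt.le hx)]

end Cfsg.Agent.Lib.FusionThmA
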