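import Mathlib
import Cfsg.Agent.Lib.FusionThmA

/-!
Construction of weakly normal subsystems from invariant families of automorphism groups: the main induction and saturation.
-/

set_option autoImplicit false
open Cfsg Cfsg.FusionSystem Cfsg.Agent.Lib.FusionBasic Cfsg.Agent.Lib.FusionSat Cfsg.Agent.Lib.FusionNormal
  Cfsg.Agent.Lib.FusionInvar Cfsg.Agent.Lib.FusionTools Cfsg.Agent.Lib.FusionPP Cfsg.Agent.Lib.FusionStrong
  Cfsg.Agent.Lib.FusionSys Cfsg.Agent.Lib.FusionFrat Cfsg.Agent.Lib.FusionPrime Cfsg.Agent.Lib.FusionTC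
  Cfsg.Agent.Lib.FusionClosed Cfsg.Agent.Lib.FusionStab Cfsg.Agent.Lib.FusionZeta Cfsg.Agent.Lib.FusionCenClosed
  Cfsg.Agent.Lib.FusionThmA

namespace Cfsg.Agent.Lib.FusionThmA2

variable {Ω : Type*} [Group Ω] {S T : Subgroup Ω} {F : FusionSystem S} {E : FusionSystem T}
  {P Q R U M X Y Z G G₁ G₂ P₀ R₁ : Subgroup Ω} {a b f g θ κ ψ : Ω → Ω} {p : ℕ} {A : ∀ P : Subgroup Ω, Subgroup (MulAut P)}

def Lift (F : FusionSystem S) (E : FusionSystem T) (A : ∀ P : Subgroup Ω, Subgroup (MulAut P)) (P₀ X Y : Subgroup Ω)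
    (f : Ω → Ω) : Prop :=
  ∀ e e' G G', FMap E (normalizerIn T X) e → FIso E X G e → GoodTo F T P₀ G → FMap E (normalizerIn T Y) e' →
    FIso E Y G' e' → GoodTo F T P₀ G' →
    ∃ b h, InA A G' b ∧ FMap E (normalizerIn T G) h ∧ FIso E G G' h ∧ ∀ x ∈ X, e' (f x) = b (h (e x))

theorem Lift.congr (h : Lift F E A P₀ X Y f) (hfg : ∀ x ∈ X, f x = g x) : Lift F E A P₀ X Y g := by
  intro e e' G G' h1 h2 h3 h4 h5 h6
  obtain ⟨b, k, k1, k2, k3, k4⟩ := h e e' G G' h1 h2 h3 h4 h5 h6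
  exact ⟨b, k, k1, k2, k3, fun x hx => by rw [← hfg x hx]; exact k4 x hx⟩

theorem goodTo_le (hT : F.StronglyClosed T) (hP₀ : P₀ ≤ T) (h : GoodTo F T P₀ G) : G ≤ T := by
  obtain ⟨a, ha, haG⟩ := h
  obtain ⟨a', ha', -, -⟩ := haG.symm
  exact le_of_fiso hT hP₀ ha'

theorem lift_of_ext [Finite S] [Fact p.Prime] (hS : IsPGroup p S) (hF : F.IsSaturated p) (hT : F.StronglyClosed T)
    (hA : Fam F T p A) (hE : E = sysA F T A hT.1) (hP₀ : F.IsFullyNormalized P₀) (hTC₀ : TC F T P₀)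
    (hI : ∀ X, TC F T X → Nat.card P₀ < Nat.card X → I1 E A X ∧ I2 F E X)
    (hXR : X < R) (hRN : R ≤ normalizerIn T X) (hf : FMap E R f) (hfX : FIso E X Y f) : Lift F E A P₀ X Y f := by
  have hinv : FusionInvar.Inv E F := hE ▸ sysA_inv hS hF hT hA
  intro e e' G G' he heG hG he' he'G hG'
  have hXT : X ≤ T := heG.le_left
  have hYT : Y ≤ T := he'G.le_left
  obtain ⟨W, hW⟩ := (he.restrict hRN).exists_iso
  obtain ⟨w, hw, w1, w2⟩ := hW.symm
  have hGT := goodTo_le hT hTC₀.1 hG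
  have hGT' := goodTo_le hT hTC₀.1 hG'
  have hTC : TC F T G := by
    obtain ⟨a, ha, haG⟩ := hG
    exact hTC₀.conj hT (isConj_symm haG.isConj)
  have hfY : ∀ x ∈ R, f x ∈ normalizerIn T Y := fun x hx => map_norm hfX hf hXR.le hx (hRN hx).2
  have hψ : FMap E W (fun y => e' (f (w y))) := (hw.1.comp hf fun y hy => hw.mem hy).comp he' fun y hy => hfY _ (hw.mem hy)
  have hGW : G < W := by
    refine lt_of_le_of_ne (fun y hy => ?_) fun h => ?_
    · obtain ⟨x, hx, rfl⟩ := heG.mem_iff.1 hy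
      exact hW.mem (hXR.le hx)
    · have hfin : Finite R := finite_of_le (hRN.trans ((normalizerIn_le T X).trans hT.1))
      have h1 := hW.card_eq
      have h2 := heG.card_eq
      rw [h] at h2
      have h3 := card_lt hXR
      omega
  have hWN : W ≤ normalizerIn T G := fun y hy => by
    obtain ⟨x, hx, rfl⟩ := hW.mem_iff.1 hy
    exact map_norm heG he (le_normalizerIn hXT) (hRN hx) (hRN hx).2
  have hψG : FIso E G G' (fun y => e' (f (w y))) := by
    refine ⟨hψ.restrict hGW.le, fun y => ⟨fun hy => ?_, ?_⟩⟩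
    · obtain ⟨x, hx, rfl⟩ := he'G.mem_iff.1 hy
      obtain ⟨z, hz, rfl⟩ := hfX.mem_iff.1 hx
      exact ⟨e z, heG.mem hz, by show e' (f (w (e z))) = _; rw [w1 z (hXR.le hz)]⟩
    · rintro ⟨z, hz, rfl⟩
      obtain ⟨x, hx, rfl⟩ := heG.mem_iff.1 hz
      show e' (f (w (e x))) ∈ G'
      rw [w1 x (hXR.le hx)]
      exact he'G.mem (hfX.mem hx)
  obtain ⟨b, h, hb, hh, hhG, h1⟩ := lstep hS hF hT hA hE hP₀ hTC₀ hI hG hG' _ W _ rfl hGW hWN hψ hψG
  obtain ⟨b', hb', b1, b2⟩ := hb.exists_right_inv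
  refine ⟨b', h, hb', hh, hhG, fun x hx => ?_⟩
  rw [h1 _ (heG.mem hx), w1 x (hXR.le hx), b1 _ (he'G.mem (hfX.mem hx))]

theorem lift_comp [Finite S] [Fact p.Prime] (hS : IsPGroup p S) (hF : F.IsSaturated p) (hT : F.StronglyClosed T)
    (hA : Fam F T p A) (hE : E = sysA F T A hT.1) (hP₀ : F.IsFullyNormalized P₀) (hTC₀ : TC F T P₀)
    (hY : F.IsConj Y P₀) (hYT : Y ≤ T) (hfX : FIso E X Y f)
    (h : Lift F E A P₀ X Y f) (h' : Lift F E A P₀ Y Z g) : Lift F E A P₀ X Z (fun x => g (f x)) := by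
  have hinv : FusionInvar.Inv E F := hE ▸ sysA_inv hS hF hT hA
  intro e e' G G' he heG hG he' he'G hG'
  obtain ⟨l, a, e'', G'', -, -, -, ha, he'', he''G, haG, -⟩ := exists_e hS hF hinv hP₀ hYT hY
  have hG'' : GoodTo F T P₀ G'' := ⟨a, ha, haG⟩
  obtain ⟨b₁, h₁, hb₁, hh₁, hh₁G, k1⟩ := h e e'' G G'' he heG hG he'' he''G hG''
  obtain ⟨b₂, h₂, hb₂, hh₂, hh₂G, k2⟩ := h' e'' e' G'' G' he'' he''G hG'' he' he'G hG'
  have hGT := goodTo_le hT hTC₀.1 hG
  have hGT' := goodTo_le hT hTC₀.1 hG'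
  have hGT'' := goodTo_le hT hTC₀.1 hG''
  have hTC'' : TC F T G'' := hTC₀.conj hT (isConj_symm haG.isConj)
  have hN₁ := norm_fiso hT.1 hG hG'' hGT hGT'' hh₁ hh₁G
  have hh₂F := sub_fiso hinv.sub hh₂G
  obtain ⟨h₂', hh₂', q1, q2⟩ := hh₂G.symm
  have hb₁' := hA.equiv G'' G' h₂ h₂' b₁ hTC'' hh₂F q1 hb₁
  refine ⟨_, fun x => h₂ (h₁ x), hb₁'.comp hb₂, hN₁.1.comp hh₂ fun x hx => hN₁.mem hx, hh₁G.trans hh₂G, fun x hx => ?_⟩
  show e' (g (f x)) = b₂ (h₂ (b₁ (h₂' (h₂ (h₁ (e x))))))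
  rw [k2 _ (hfX.mem hx), k1 x hx, q1 _ (hh₁G.mem (heG.mem hx))]

theorem lift_inv [Finite S] [Fact p.Prime] (hS : IsPGroup p S) (hF : F.IsSaturated p) (hT : F.StronglyClosed T)
    (hA : Fam F T p A) (hE : E = sysA F T A hT.1) (hTC₀ : TC F T P₀)
    (hfX : FIso E X Y f) (hgf : ∀ x ∈ X, g (f x) = x)
    (h : Lift F E A P₀ X Y f) : Lift F E A P₀ Y X g := by
  have hinv : FusionInvar.Inv E F := hE ▸ sysA_inv hS hF hT hA
  intro e e' G G' he heG hG he' he'G hG'
  obtain ⟨b, k, hb, hk, hkG, k1⟩ := h e' e G' G he' he'G hG' he heG hG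
  have hGT := goodTo_le hT hTC₀.1 hG
  have hGT' := goodTo_le hT hTC₀.1 hG'
  have hTC : TC F T G := by
    obtain ⟨a, ha, haG⟩ := hG
    exact hTC₀.conj hT (isConj_symm haG.isConj)
  have hN := norm_fiso hT.1 hG' hG hGT' hGT hk hkG
  obtain ⟨k', hk', q1, q2⟩ := hN.symm
  have hGN' := le_normalizerIn hGT'
  have hGN := le_normalizerIn hGT
  have hk'G : FIso E G G' k' := by
    refine ⟨hk'.1.restrict hGN, fun y => ⟨fun hy => ⟨k y, hkG.mem hy, q1 y (hGN' hy)⟩, ?_⟩⟩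
    rintro ⟨z, hz, rfl⟩
    obtain ⟨x, hx, rfl⟩ := hkG.mem_iff.1 hz
    rw [q1 x (hGN' hx)]; exact hx
  obtain ⟨b', hb', b1, b2⟩ := hb.exists_right_inv
  have hb'' := hA.equiv G G' k' k b' hTC (sub_fiso hinv.sub hk'G) (fun x hx => q2 x (hGN hx)) hb'
  refine ⟨_, k', hb'', hk'.1, hk'G, fun y hy => ?_⟩
  obtain ⟨x, hx, rfl⟩ := hfX.mem_iff.1 hy
  show e' (g (f x)) = k' (b' (k (k' (e (f x)))))
  rw [hgf x hx, q2 _ (hGN (heG.mem hy)), k1 x hx, b1 _ (hkG.mem (he'G.mem hx)), q1 _ (hGN' (he'G.mem hx))]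

theorem lift_A [Finite S] [Fact p.Prime] (hS : IsPGroup p S) (hF : F.IsSaturated p) (hT : F.StronglyClosed T)
    (hA : Fam F T p A) (hE : E = sysA F T A hT.1) (hP₀ : F.IsFullyNormalized P₀) (hTC₀ : TC F T P₀)
    (hI : ∀ X, TC F T X → Nat.card P₀ < Nat.card X → I1 E A X ∧ I2 F E X)
    (hXT : X < T) (hXc : F.IsConj X P₀) (hf : InA A X f) : Lift F E A P₀ X X f := by
  have hinv : FusionInvar.Inv E F := hE ▸ sysA_inv hS hF hT hA
  have hTC : TC F T X := hTC₀.conj hT (isConj_symm hXc)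
  have hlt : X < normalizerIn T X := lt_normalizerIn hS hT.1 hXT
  have hid : Lift F E A P₀ X X (fun x => x) := lift_of_ext hS hF hT hA hE hP₀ hTC₀ hI hlt le_rfl
    (fmap_id E (normalizerIn_le T X)) (FIso.refl E hXT.le)
  intro e e' G G' he heG hG he' he'G hG'
  obtain ⟨b, k, hb, hk, hkG, k1⟩ := hid e e' G G' he heG hG he' he'G hG'
  obtain ⟨e₁, he₁, q1, q2⟩ := he'G.symm
  have hf' := hA.equiv X G' e' e₁ f hTC (sub_fiso hinv.sub he'G) q1 hf
  refine ⟨_, k, hb.comp hf', hk, hkG, fun x hx => ?_⟩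
  show e' (f x) = e' (f (e₁ (b (k (e x)))))
  rw [← k1 x hx, q1 x hx]

theorem lift_all [Finite S] [Fact p.Prime] (hS : IsPGroup p S) (hF : F.IsSaturated p) (hT : F.StronglyClosed T)
    (hA : Fam F T p A) (hE : E = sysA F T A hT.1) (hP₀ : F.IsFullyNormalized P₀) (hTC₀ : TC F T P₀)
    (hI : ∀ X, TC F T X → Nat.card P₀ < Nat.card X → I1 E A X ∧ I2 F E X) (hlt : Nat.card P₀ < Nat.card T) :
    ∀ P f, FMap E P f → ∀ X Y, X ≤ P → FIso E X Y f → F.IsConj X P₀ → Lift F E A P₀ X Y f := by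
  have hinv : FusionInvar.Inv E F := hE ▸ sysA_inv hS hF hT hA
  have hTfin : Finite T := finite_of_le hT.1
  have hXT : ∀ X, X ≤ T → F.IsConj X P₀ → X < T := by
    intro X hX hXc
    refine lt_of_le_of_ne hX fun h => ?_
    obtain ⟨l, hl⟩ := isConj_iff_fiso.1 hXc
    have := hl.card_eq
    rw [h] at this
    omega
  intro P f hf
  rw [hE] at hf
  refine genSys_induction (gn_data hA hT.1) (fun P f => ∀ X Y, X ≤ P → FIso E X Y f → F.IsConj X P₀ →
    Lift F E A P₀ X Y f) ?_ ?_ ?_ ?_ ?_ P f hf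
  · rintro P f ⟨h1, h2⟩ X Y hXP hXY hXc
    have hfE : FMap E P f := hE ▸ sysA_base hA h1 h2
    rcases eq_or_lt_of_le hXP with h | h
    · subst h
      have hY : Y = X := by
        ext y
        rw [hXY.mem_iff]
        obtain ⟨f', hf', e1, e2⟩ := h2.exists_right_inv
        exact ⟨fun ⟨x, hx, hxy⟩ => hxy ▸ h2.mem hx, fun hy => ⟨f' y, hf'.mem hy, e2 y hy⟩⟩
      subst hY
      exact lift_A hS hF hT hA hE hP₀ hTC₀ hI (hXT _ hXY.le_left hXc) hXc h2
    · have hlt' : X < normalizerIn P X := lt_normalizerIn hS (h1.1.trans hT.1) h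
      exact lift_of_ext hS hF hT hA hE hP₀ hTC₀ hI hlt' (inf_le_inf_right _ h1.1) (hfE.restrict (normalizerIn_le P X)) hXY
  · intro P s hP hs X Y hXP hXY hXc
    have hXT' := hXT _ hXY.le_left hXc
    exact lift_of_ext hS hF hT hA hE hP₀ hTC₀ hI (lt_normalizerIn hS hT.1 hXT') le_rfl
      (fmap_conj E (normalizerIn_le T X) hs) hXY
  · intro P Q f g hf h1 hg h2 h3 X Z hXP hXZ hXc
    have hf' : FMap E X f := (hE ▸ hf : FMap E P f).restrict hXP
    obtain ⟨Y, hXY⟩ := hf'.exists_iso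
    have hYQ : Y ≤ Q := fun y hy => by
      obtain ⟨x, hx, rfl⟩ := hXY.mem_iff.1 hy
      exact h3 x (hXP hx)
    have hYZ : FIso E Y Z g := by
      refine ⟨(hE ▸ hg : FMap E Q g).restrict hYQ, fun z => ?_⟩
      rw [hXZ.mem_iff]
      constructor
      · rintro ⟨x, hx, rfl⟩
        exact ⟨f x, hXY.mem hx, rfl⟩
      · rintro ⟨y, hy, rfl⟩
        obtain ⟨x, hx, rfl⟩ := hXY.mem_iff.1 hy
        exact ⟨x, hx, rfl⟩
    have hYc : F.IsConj Y P₀ := isConj_trans (isConj_symm (sub_isConj hinv.sub hXY.isConj)) hXc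
    exact lift_comp hS hF hT hA hE hP₀ hTC₀ hYc hXY.le_right hXY (h1 X Y hXP hXY hXc) (h2 Y Z hYQ hYZ hYc)
  · intro P Q f g hf h1 hg hgf hfg X Y hXQ hXY hXc
    have hfE : FIso E P Q f := hE ▸ hf
    have hYP : Y ≤ P := fun y hy => by
      obtain ⟨x, hx, rfl⟩ := hXY.mem_iff.1 hy
      have hgE : FIso E Q P g := hE ▸ hg
      exact hgE.mem (hXQ hx)
    have hYX : FIso E Y X f := by
      refine ⟨hfE.1.restrict hYP, fun x => ⟨fun hx => ⟨g x, hXY.mem hx, hfg x (hXQ hx)⟩, ?_⟩⟩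
      rintro ⟨y, hy, rfl⟩
      obtain ⟨z, hz, rfl⟩ := hXY.mem_iff.1 hy
      rw [hfg z (hXQ hz)]; exact hz
    have hYc : F.IsConj Y P₀ := isConj_trans (isConj_symm (sub_isConj hinv.sub hXY.isConj)) hXc
    exact lift_inv hS hF hT hA hE hTC₀ hYX (fun x hx => hgf x (hYP hx)) (h1 Y X hYP hYX hYc)
  · intro P f g hf h1 h2 X Y hXP hXY hXc
    exact (h1 X Y hXP (hXY.congr fun x hx => (h2 x (hXP hx)).symm) hXc).congr fun x hx => h2 x (hXP hx)

theorem main [Finite S] [Fact p.Prime] (hS : IsPGroup p S) (hF : F.IsSaturated p) (hT : F.StronglyClosed T)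
    (hA : Fam F T p A) (hE : E = sysA F T A hT.1) : ∀ X, TC F T X → I1 E A X ∧ I2 F E X := by
  have hinv : FusionInvar.Inv E F := hE ▸ sysA_inv hS hF hT hA
  have hTfin : Finite T := finite_of_le hT.1
  suffices H : ∀ (n : ℕ) (X : Subgroup Ω), TC F T X → Nat.card T - Nat.card X = n → I1 E A X ∧ I2 F E X from
    fun X hX => H _ X hX rfl
  intro n
  induction n using Nat.strong_induction_on with
  | _ n ih =>
    intro X hX hn
    rcases eq_or_lt_of_le hX.1 with h | h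
    · subst h
      refine ⟨fun f hf => ?_, fun P₀ G' hP₀ hG hG' _ => ?_⟩
      · have hf' : FMap (sysA F X A hT.1) X f := hE ▸ hf.1
        refine genSys_induction (gn_data hA hT.1) (fun P f => P = X → InA A X f) ?_ ?_ ?_ ?_ ?_ X f hf' rfl
        · rintro P f ⟨h1, h2⟩ rfl
          exact h2
        · rintro P s - hs rfl
          exact inA_conj hS hF hT hA hX ⟨hs, Subgroup.le_normalizer hs⟩
        · rintro P Q f g hf h1 hg h2 h3 rfl
          have hQ : Q = P := by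
            refine le_antisymm hg.le fun x hx => ?_
            obtain ⟨f', hf', e1, e2⟩ := (h1 rfl).exists_right_inv
            rw [← e2 x hx]; exact h3 _ (hf'.mem hx)
          exact (h1 rfl).comp (h2 hQ)
        · rintro P Q f g hf h1 hg hgf hfg rfl
          have hP : P = Q := Subgroup.eq_of_le_of_card_ge hf.le_left hf.card_eq.ge
          exact (h1 hP).inv fun x hx => hgf x (hP ▸ hx)
        · rintro P f g hf h1 h2 rfl
          exact (h1 rfl).congr h2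
      · obtain ⟨a, ha, haG⟩ := hG
        obtain ⟨a', ha', haG'⟩ := hG'
        have hP₀X : P₀ = X := by
          ext y
          rw [haG.mem_iff, ha.mem_iff]
        subst hP₀X
        have hG'T : G' ≤ P₀ := goodTo_le hT le_rfl ⟨a', ha', haG'⟩
        have : G' = P₀ := Subgroup.eq_of_le_of_card_ge hG'T haG'.card_eq.ge
        subst this
        exact ⟨fun x => x, fmap_id E (normalizerIn_le G' G'), FIso.refl E le_rfl⟩
    · have hXfin : Finite X := finite_of_le (hX.1.trans hT.1)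
      have hcard := card_lt h
      have key : ∀ P₀, F.IsFullyNormalized P₀ → F.IsConj X P₀ → ∀ P f, FMap E P f → ∀ X Y, X ≤ P → FIso E X Y f →
          F.IsConj X P₀ → Lift F E A P₀ X Y f := by
        intro P₀ hP₀ hc
        obtain ⟨l, hl⟩ := isConj_iff_fiso.1 hc
        have hce := hl.card_eq
        have hTC₀ := hX.conj hT hc
        refine lift_all hS hF hT hA hE hP₀ hTC₀ (fun Z hZ hZc => ?_) (by omega)
        have hZle : Nat.card Z ≤ Nat.card T := Nat.card_le_card_of_injective _ (Subgroup.inclusion_injective hZ.1)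
        exact ih _ (by omega) Z hZ rfl
      refine ⟨fun f hf => ?_, fun P₀ G' hP₀ hG hG' hc => ?_⟩
      · obtain ⟨P₀, k, hP₀, hk, -, -⟩ := exists_fullyNormalized_map hS hF (hX.1.trans hT.1)
        obtain ⟨l, a, e, G, -, -, -, ha, he, heG, haG, -⟩ := exists_e hS hF hinv hP₀ hX.1 hk.isConj
        have hG : GoodTo F T P₀ G := ⟨a, ha, haG⟩
        have hTC₀ := hX.conj hT hk.isConj
        obtain ⟨b, j, hb, hj, hjG, h1⟩ := key P₀ hP₀ hk.isConj X f hf.1 X X le_rfl hf hk.isConj e e G G he heG hG he heG hG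
        have hGT := goodTo_le hT hTC₀.1 hG
        have hTCG : TC F T G := hTC₀.conj hT (isConj_symm haG.isConj)
        have hGN := le_normalizerIn hGT
        have hN := norm_fiso hT.1 hG hG hGT hGT hj hjG
        have hTCN : TC F T (normalizerIn T G) := hTCG.mono hT hGN (normalizerIn_le T G)
        have hGlt : G < T := by
          refine lt_of_le_of_ne hGT fun h' => ?_
          have := heG.card_eq
          rw [h'] at this
          omega
        have hltN : G < normalizerIn T G := lt_normalizerIn hS hT.1 hGlt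
        have hNfin : Finite (normalizerIn T G) := finite_of_le (normalizerIn_le T G)
        have hcN := card_lt hltN
        have hcG := heG.card_eq
        have hcNT : Nat.card (normalizerIn T G) ≤ Nat.card T :=
          Nat.card_le_card_of_injective _ (Subgroup.inclusion_injective (normalizerIn_le T G))
        have hjA := (ih _ (by omega) (normalizerIn T G) hTCN rfl).1 j hN
        have hjA' := res_all hS hF hT hA hTCG hGN (normalizerIn_le T G) (fun q hq => hq.2) hjA (fun x hx => hjG.mem hx)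
        obtain ⟨e₁, he₁, q1, q2⟩ := heG.symm
        refine (hA.equiv G X e₁ e _ hTCG (sub_fiso hinv.sub he₁) q2 (hjA'.comp hb)).congr fun x hx => ?_
        show e₁ (b (j (e x))) = f x
        rw [← h1 x hx, q1 _ (hf.mem hx)]
      · have hXc : F.IsConj X P₀ := by
          obtain ⟨a, ha, haG⟩ := hG
          exact haG.isConj
        obtain ⟨f, hf⟩ := isConj_iff_fiso.1 hc
        obtain ⟨b, j, hb, hj, hjG, h1⟩ := key P₀ hP₀ hXc X f hf.1 X G' le_rfl hf hXc (fun x => x) (fun x => x) X G'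
          (fmap_id E (normalizerIn_le T X)) (FIso.refl E hX.1) hG (fmap_id E (normalizerIn_le T G'))
          (FIso.refl E hf.le_right) hG'
        exact ⟨j, hj, hjG⟩

theorem autGroup_sysA [Finite S] [Fact p.Prime] (hS : IsPGroup p S) (hF : F.IsSaturated p) (hT : F.StronglyClosed T)
    (hA : Fam F T p A) (hX : TC F T X) : (sysA F T A hT.1).autGroup X = A X := by
  ext α
  constructor
  · intro h
    exact inA_aut.1 ((main hS hF hT hA rfl X hX).1 _ ((fiso_autFun_iff hX.1).2 h))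
  · intro h
    exact (FMap_autFun_iff hX.1).1 (sysA_base hA hX (inA_aut.2 h))

theorem inA_iff [Finite S] [Fact p.Prime] (hS : IsPGroup p S) (hF : F.IsSaturated p) (hT : F.StronglyClosed T)
    (hA : Fam F T p A) (hX : TC F T X) : InA A X f ↔ FIso (sysA F T A hT.1) X X f :=
  ⟨sysA_fiso hA hX, (main hS hF hT hA rfl X hX).1 f⟩

/-! ### Saturation -/

theorem not_dvd_relIndex {M : Type*} [Group M] [Finite M] [Fact p.Prime] {A B : Subgroup M} (hBA : B ≤ A)
    (hB : IsPGroup p B) (h : ∀ K ≤ A, IsPGroup p K → ∃ j : M → M, Function.Injective j ∧ ∀ κ ∈ K, j κ ∈ B) :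
    ¬ p ∣ B.relIndex A := by
  intro hd
  obtain ⟨b, hb⟩ := IsPGroup.iff_card.1 hB
  have h1 : Nat.card (B.subgroupOf A) * B.relIndex A = Nat.card A := by
    rw [Subgroup.relIndex]; exact Subgroup.card_mul_index _
  have h2 : Nat.card (B.subgroupOf A) = p ^ b := by
    rw [← hb]; exact Nat.card_congr (Subgroup.subgroupOfEquivOfLe hBA).toEquiv
  have h3 : p ^ (b + 1) ∣ Nat.card A := by
    rw [← h1, h2, pow_succ]
    exact Nat.mul_dvd_mul_left _ hd
  obtain ⟨K, hK⟩ := Sylow.exists_subgroup_card_pow_prime p h3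
  have hc : Nat.card (K.map A.subtype) = p ^ (b + 1) := by
    rw [Subgroup.card_map_of_injective A.subtype_injective, hK]
  obtain ⟨j, hj, h4⟩ := h (K.map A.subtype) (Subgroup.map_subtype_le K) (IsPGroup.of_card hc)
  have h5 : Nat.card (K.map A.subtype) ≤ Nat.card B :=
    Nat.card_le_card_of_injective (fun κ : K.map A.subtype => (⟨j κ, h4 κ κ.2⟩ : B)) fun x y hxy =>
      Subtype.ext (hj (congrArg Subtype.val hxy))
  rw [hc, hb, pow_succ] at h5
  have h6 := (Fact.out : p.Prime).two_le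
  have h7 : 0 < p ^ b := pow_pos (Fact.out : p.Prime).pos b
  nlinarith

theorem good_automized [Finite S] [Fact p.Prime] (hS : IsPGroup p S) (hF : F.IsSaturated p) (hT : F.StronglyClosed T)
    (hA : Fam F T p A) (hP₀ : F.IsFullyNormalized P₀) (hTC₀ : TC F T P₀) (ha : FIso F T T a) (haG : FIso F G P₀ a) :
    (sysA F T A hT.1).IsFullyAutomized p G := by
  have hGT := goodTo_le hT hTC₀.1 ⟨a, ha, haG⟩
  have hTCG : TC F T G := hTC₀.conj hT (isConj_symm haG.isConj)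
  have hTp := isPGroup_of_le hS hT.1
  have hTfin : Finite T := finite_of_le hT.1
  have hGfin : Finite G := finite_of_le hGT
  rw [isFullyAutomized_iff hTp]
  refine ⟨hGT, ?_⟩
  rw [autGroup_sysA hS hF hT hA hTCG]
  obtain ⟨a', ha', q1, q2⟩ := ha.symm
  have hind : autInducedBy T G ≤ A G := by
    rw [← autGroup_sysA hS hF hT hA hTCG]
    exact autInducedBy_le_autGroup hGT le_rfl
  have hpg : IsPGroup p (autInducedBy T G) := isPGroup_autInducedBy hTp le_rfl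
  refine not_dvd_relIndex hind hpg fun K hK hKp => ?_
  have hK₀ : IsPGroup p (K.map haG.autEquiv.toMonoidHom) := hKp.map _
  have hK₀A : K.map haG.autEquiv.toMonoidHom ≤ A P₀ := by
    rintro _ ⟨κ, hκ, rfl⟩
    obtain ⟨a₁, ha₁, e1, e2⟩ := haG.symm
    have h1 := hA.equiv G P₀ a a₁ _ hTCG haG e1 (inA_aut.2 (hK hκ))
    refine inA_aut.1 (h1.congr fun y hy => ?_)
    obtain ⟨x, hx, rfl⟩ := haG.mem_iff.1 hy
    rw [e1 x hx]
    have h2 := haG.autEquiv_coe κ ⟨x, hx⟩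
    rw [autFun_of_mem κ hx, ← h2, autFun_of_mem _ (haG.mem hx)]
    rfl
  obtain ⟨χ, hχ, h1⟩ := exists_conj_le_autInducedBy (fullyAutomized_of_fullyNormalized hS hF hP₀)
    (K.map haG.autEquiv.toMonoidHom) (hK₀A.trans (hA.le P₀ hTC₀)) hK₀
  refine ⟨fun κ => haG.autEquiv.symm (χ * haG.autEquiv κ * χ⁻¹), fun κ κ' h => ?_, fun κ hκ => ?_⟩
  · have h2 := haG.autEquiv.symm.injective h
    have h3 : haG.autEquiv κ = haG.autEquiv κ' := by simpa using h2
    exact haG.autEquiv.injective h3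
  · have h2 : haG.autEquiv κ ∈ K.map haG.autEquiv.toMonoidHom := ⟨κ, hκ, rfl⟩
    have h3 := hA.syl P₀ hTC₀ hP₀ ⟨hA.normal hTC₀ hT.1 χ hχ _ (hK₀A h2), h1 _ h2⟩
    obtain ⟨t, ht, h4⟩ := mem_autInducedBy_iff.1 h3
    refine mem_autInducedBy_iff.2 ⟨a' t, ha'.mem ht, fun x => ?_⟩
    obtain ⟨γ, hγ⟩ : ∃ γ, γ = haG.autEquiv.symm (χ * haG.autEquiv κ * χ⁻¹) := ⟨_, rfl⟩
    have h5 : haG.autEquiv γ = χ * haG.autEquiv κ * χ⁻¹ := by rw [hγ, MulEquiv.apply_symm_apply]
    show ((haG.autEquiv.symm (χ * haG.autEquiv κ * χ⁻¹) x : G) : Ω) = _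
    rw [← hγ]
    have h6 := haG.autEquiv_coe γ x
    rw [h5, h4] at h6
    have h7 : (γ x : Ω) = a' (a (γ x)) := (q1 _ (hGT (γ x).2)).symm
    rw [h7, ← h6]
    show a' (t * a x * t⁻¹) = a' t * x * (a' t)⁻¹
    rw [ha'.1.map_conj ht (ha.mem (hGT x.2)), q1 _ (hGT x.2)]

theorem sysA_saturated [Finite S] [Fact p.Prime] (hS : IsPGroup p S) (hF : F.IsSaturated p) (hT : F.StronglyClosed T)
    (hA : Fam F T p A) : (sysA F T A hT.1).IsSaturated p := by
  have hinv : FusionInvar.Inv (sysA F T A hT.1) F := sysA_inv hS hF hT hA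
  have hTp := isPGroup_of_le hS hT.1
  have hTfin : Finite T := finite_of_le hT.1
  obtain ⟨E, hE⟩ : ∃ E, E = sysA F T A hT.1 := ⟨_, rfl⟩
  rw [← hE] at hinv ⊢
  refine Cfsg.Agent.Lib.FusionCriterion3.saturated_of_criterion hTp E {P | TC F T P} ?_ ?_ ?_ ?_
  · intro P hP Q hQ
    exact TC.conj hT hP (sub_isConj hinv.sub hQ)
  · intro P hP
    have hPTC : TC F T P := hP
    obtain ⟨P₀, k, hP₀, hk, -, -⟩ := exists_fullyNormalized_map hS hF (hPTC.1.trans hT.1)
    have hTC₀ := hPTC.conj hT hk.isConj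
    obtain ⟨l, a, e, G, -, -, -, ha, he, heG, haG, -⟩ := exists_e hS hF hinv hP₀ hPTC.1 hk.isConj
    have hG : GoodTo F T P₀ G := ⟨a, ha, haG⟩
    have hGT := goodTo_le hT hTC₀.1 hG
    have hTCG : TC F T G := hTC₀.conj hT (isConj_symm haG.isConj)
    refine ⟨G, heG.isConj, hE ▸ good_automized hS hF hT hA hP₀ hTC₀ ha haG, ?_⟩
    rw [isReceptive_iff]
    refine ⟨hGT, fun X f hf V hXV hVT hV => ?_⟩
    have hfF := sub_fiso hinv.sub hf
    have hXT := hf.le_left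
    have hXc : F.IsConj X P₀ := isConj_trans hfF.isConj haG.isConj
    obtain ⟨l', a₁, e', G', -, -, -, ha₁, he', he'G, ha₁G, -⟩ := exists_e hS hF hinv hP₀ hXT hXc
    have hG' : GoodTo F T P₀ G' := ⟨a₁, ha₁, ha₁G⟩
    have hTC' : TC F T G' := hTC₀.conj hT (isConj_symm ha₁G.isConj)
    obtain ⟨h, hh, hhG⟩ := (main hS hF hT hA hE G' hTC').2 P₀ G hP₀ hG' hG
      (isConj_trans (isConj_symm he'G.isConj) hf.isConj)
    have hXN := le_normalizerIn hXT
    have hVN : V ≤ normalizerIn T X := fun v hv => ⟨hVT hv, (hV v hv).1⟩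
    have he'm : ∀ x ∈ normalizerIn T X, e' x ∈ normalizerIn T G' := fun x hx => map_norm he'G he' hXN hx hx.2
    have hm : FMap E (normalizerIn T X) (fun x => h (e' x)) := he'.comp hh he'm
    have hmG : FIso E X G (fun x => h (e' x)) := he'G.trans hhG
    have hmN : ∀ x ∈ normalizerIn T X, h (e' x) ∈ normalizerIn T G := fun x hx => map_norm hmG hm hXN hx hx.2
    obtain ⟨m', hm', m1, m2⟩ := hmG.symm
    -- the automorphism `f m⁻¹` of `G`
    have hα := (main hS hF hT hA hE G hTCG).1 _ (hm'.trans hf)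
    obtain ⟨a', ha', q1, q2⟩ := ha.symm
    have hα₀ := hA.equiv G P₀ a a' _ hTCG haG (fun x hx => q1 x (hGT hx)) hα
    have hN := aut_norm ha haG hGT
    have ha'P : FIso F P₀ G a' := by
      refine ⟨ha'.1.restrict hTC₀.1, fun y => ⟨fun hy => ⟨a y, haG.mem hy, q1 y (hGT hy)⟩, ?_⟩⟩
      rintro ⟨z, hz, rfl⟩
      obtain ⟨w, hw, rfl⟩ := haG.mem_iff.1 hz
      rw [q1 w (hGT hw)]; exact hw
    -- the subgroup
    obtain ⟨V', hV'⟩ := (hm.restrict hVN).exists_iso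
    obtain ⟨W, hW⟩ := ((sub_fmap hinv.sub hV'.1).comp ha.1 fun x hx => hm.map_mem (hVN hx)).exists_iso
    have hWv : ∀ y, y ∈ W ↔ ∃ x ∈ V, a (h (e' x)) = y := fun y => hW.mem_iff
    have hWN : W ≤ normalizerIn T P₀ := fun y hy => by
      obtain ⟨x, hx, rfl⟩ := (hWv y).1 hy
      exact hN.mem (hmN x (hVN hx))
    have hP₀W : P₀ ≤ W := fun y hy => by
      obtain ⟨z, hz, rfl⟩ := haG.mem_iff.1 hy
      obtain ⟨x, hx, rfl⟩ := hmG.mem_iff.1 hz
      exact (hWv _).2 ⟨x, hXV hx, rfl⟩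
    have hδ := hα₀.fiso hA hTC₀ hT.1
    obtain ⟨g, hg, hg1⟩ := (isReceptive_iff.1 (receptive_of_fullyNormalized hS hF hP₀)).2 P₀ _ hδ W hP₀W
      (hWN.trans ((normalizerIn_le T P₀).trans hT.1)) (fun y hy => by
        refine ⟨(hWN hy).2, ?_⟩
        obtain ⟨v, hv, rfl⟩ := (hWv y).1 hy
        obtain ⟨hvn, s, hs, hs1⟩ := hV v hv
        refine ⟨a s, hT.1 (ha.mem hs), fun z hz => ?_⟩
        obtain ⟨w, hw, rfl⟩ := haG.mem_iff.1 hz
        obtain ⟨x, hx, rfl⟩ := hmG.mem_iff.1 hw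
        show a (f (m' (a' (a (h (e' v)) * a (h (e' x)) * (a (h (e' v)))⁻¹)))) =
          a s * a (f (m' (a' (a (h (e' x)))))) * (a s)⁻¹
        have hvx : v * x * v⁻¹ ∈ X := (Subgroup.mem_normalizer_iff.1 hvn x).1 hx
        have h1 : a (h (e' v)) * a (h (e' x)) * (a (h (e' v)))⁻¹ = a (h (e' (v * x * v⁻¹))) := by
          have h2 : h (e' (v * x * v⁻¹)) = h (e' v) * h (e' x) * (h (e' v))⁻¹ := hm.map_conj (hVN hv) (hXN hx)
          rw [h2, ha.1.map_conj (hm.map_mem (hVN hv)) (hGT (hmG.mem hx))]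
        rw [h1, q1 _ (hGT (hmG.mem hvx)), q1 _ (hGT (hmG.mem hx)), m1 _ hvx, m1 _ hx, hs1 x hx,
          ha.1.map_conj hs (hGT (hf.mem hx))])
    have hgA : InA A P₀ g := hα₀.congr fun x hx => (hg1 x hx).symm
    have hgP : FIso F P₀ P₀ g := hgA.fiso hA hTC₀ hT.1
    have hgN : ∀ x ∈ W, g x ∈ normalizerIn T P₀ := fun x hx =>
      ⟨StronglyClosed.map_mem F hT hg hx (hWN hx).1, hgP.map_normalizer hg hP₀W hx (hWN hx).2⟩
    obtain ⟨c, k, hc, hcP, hk, hkA, hcW, hck⟩ := dl hS hF hT hA hTC₀ hP₀ hP₀W hWN hg hgN (fun x hx => hgA.mem hx) hgA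
    rw [← hE] at hk
    obtain ⟨W₂, hW₂⟩ := ((ha'.1.restrict (hWN.trans (normalizerIn_le T P₀)))).exists_iso
    obtain ⟨k₂, hk₂, hk₂1⟩ := hinv.conj ha' hk (fun y => hW₂.mem_iff)
    have hmW₂ : ∀ x ∈ V, h (e' x) ∈ W₂ := fun x hx => by
      have := hW₂.mem ((hWv _).2 ⟨x, hx, rfl⟩)
      rwa [q1 _ (hm.map_mem (hVN hx))] at this
    refine ⟨fun x => k₂ (h (e' x)), (hm.restrict hVN).comp hk₂ hmW₂, fun x hx => ?_⟩
    have hy := haG.mem (hmG.mem hx)
    have h1 : k₂ (h (e' x)) = a' (k (a (h (e' x)))) := by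
      have := hk₂1 _ (hP₀W hy)
      rwa [q1 _ (hGT (hmG.mem hx))] at this
    have h2 : g (a (h (e' x))) = k (a (h (e' x))) := by
      have := hck _ (hP₀W hy)
      rwa [hcP _ hy] at this
    have h3 : g (a (h (e' x))) = a (f (m' (a' (a (h (e' x)))))) := hg1 _ hy
    show k₂ (h (e' x)) = f x
    rw [h1, ← h2, h3, q1 _ (hGT (hmG.mem hx)), m1 _ hx, q1 _ (hGT (hf.mem hx))]
  · intro D hD
    rw [le_iff_fmap]
    intro P f hf
    rw [hE] at hf
    refine genSys_le (gn_data hA hT.1) le_rfl (fun Q g hg => ?_) hf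
    have h1 : FMap E Q g := hE ▸ sysA_base hA hg.1 hg.2
    exact hom_subset_iff_fmap.1 (hD Q hg.1) g h1
  · intro P hP hP'
    exact absurd ((centric_iff_tc hinv).1 hP) hP'

/-- **Theorem A**: an invariant family defines a weakly normal subsystem. -/
theorem sysA_weaklyNormal [Finite S] [Fact p.Prime] (hS : IsPGroup p S) (hF : F.IsSaturated p) (hT : F.StronglyClosed T)
    (hA : Fam F T p A) : (sysA F T A hT.1).IsWeaklyNormalIn F p :=
  isWeaklyNormalIn_iff.2 ⟨sysA_saturated hS hF hT hA, hF, sysA_inv hS hF hT hA⟩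

end Cfsg.Agent.Lib.FusionThmA2
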