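import Mathlib
import Cfsg.Agent.Lib.FusionThmB

/-!
Tools for the construction of normal subsystems: elements of order prime to `p`, the extension lemma from `N_T(P)`,
induced automorphisms of subgroups of `N_T(P)`.
-/

set_option autoImplicit false
open Cfsg Cfsg.FusionSystem Cfsg.Agent.Lib.FusionBasic Cfsg.Agent.Lib.FusionSat Cfsg.Agent.Lib.FusionNormal
  Cfsg.Agent.Lib.FusionInvar Cfsg.Agent.Lib.FusionTools Cfsg.Agent.Lib.FusionPP Cfsg.Agent.Lib.FusionStrong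
  Cfsg.Agent.Lib.FusionSys Cfsg.Agent.Lib.FusionFrat Cfsg.Agent.Lib.FusionPrime Cfsg.Agent.Lib.FusionTC
  Cfsg.Agent.Lib.FusionClosed Cfsg.Agent.Lib.FusionStab Cfsg.Agent.Lib.FusionZeta Cfsg.Agent.Lib.FusionCenClosed
open Cfsg.Agent.Lib.FusionThmA (InA inA_id inA_aut Gn sysA sysA_sub tc_of_fullyNormalized mem_of_normalizes pow_mapsTo
  inv_mapsTo trivial_move trivial_fiso GoodTo I1 I2 aut_norm map_norm norm_fiso exists_e)

namespace Cfsg.Agent.Lib.FusionLemD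

variable {Ω : Type*} [Group Ω] {S T : Subgroup Ω} {F : FusionSystem S} {E : FusionSystem T}
  {P Q R U M X Y Z P₁ : Subgroup Ω} {a b f g θ κ ψ : Ω → Ω} {p : ℕ}

/-- an element of order prime to `p` that is a product of an element of a normal subgroup and an element of `p`-power
order lies in the normal subgroup -/
theorem mem_of_pprime {G : Type*} [Group G] [Fact p.Prime] {N : Subgroup G} {x y δ : G}
    (hn : ∀ n ∈ N, x * n * x⁻¹ ∈ N) (hy : y ∈ N) (he : x = y * δ) (hx : (orderOf x).Coprime p)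
    (hδ : ∃ k, δ ^ p ^ k = 1) : x ∈ N := by
  have h1 : ∀ n : ℕ, x ^ n * (δ ^ n)⁻¹ ∈ N := by
    intro n
    induction n with
    | zero => simp
    | succ n ih =>
      have h2 : x ^ (n + 1) * (δ ^ (n + 1))⁻¹ = (x * (x ^ n * (δ ^ n)⁻¹) * x⁻¹) * (x * δ⁻¹) := by
        rw [pow_succ' x, pow_succ' δ, mul_inv_rev]
        simp only [mul_assoc, inv_mul_cancel_left]
      rw [h2]
      refine N.mul_mem (hn _ ih) ?_
      rw [he, mul_inv_cancel_right]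
      exact hy
  obtain ⟨k, hk⟩ := hδ
  have h2 := h1 (p ^ k)
  rw [hk, inv_one, mul_one] at h2
  have h3 : (orderOf x).Coprime (p ^ k) := hx.pow_right k
  obtain ⟨m, hm⟩ := exists_pow_eq_self_of_coprime h3.symm
  rw [← hm]
  exact N.pow_mem h2 m

/-- automorphisms stabilizing `1 ≤ P ≤ Q` have `p`-power order -/
theorem stab_pow [Finite S] [Fact p.Prime] (hS : IsPGroup p S) (hQ : Q ≤ S) (hPQ : P ≤ Q) {δ : MulAut Q}
    (h1 : ∀ x ∈ P, autFun δ x = x) (h2 : ∀ x ∈ Q, x⁻¹ * autFun δ x ∈ P) : ∃ k, δ ^ p ^ k = 1 := by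
  obtain ⟨k, hk⟩ := IsPGroup.iff_card.1 hS
  have hQfin : Finite Q := finite_of_le hQ
  refine ⟨k, ?_⟩
  have h3 : ∀ (n : ℕ) (x : Ω), x ∈ Q → autFun (δ ^ n) x = x * (x⁻¹ * autFun δ x) ^ n := by
    intro n
    induction n with
    | zero => intro x hx; rw [pow_zero, autFun_one hx]; simp
    | succ n ih =>
      intro x hx
      have hz := h2 x hx
      obtain ⟨z, hze⟩ : ∃ z, z = x⁻¹ * autFun δ x := ⟨_, rfl⟩
      rw [← hze] at hz
      have h5 : autFun δ x = x * z := by rw [hze]; group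
      have h6 : autFun (δ ^ n) z = z := by
        rw [ih z (hPQ hz), h1 z hz]; simp
      rw [pow_succ, autFun_mul _ _ hx, ← hze, h5]
      have h7 : autFun (δ ^ n) (x * z) = autFun (δ ^ n) x * autFun (δ ^ n) z := by
        rw [autFun_of_mem _ (Q.mul_mem hx (hPQ hz)), autFun_of_mem _ hx, autFun_of_mem _ (hPQ hz), ← Subgroup.coe_mul,
          ← map_mul]
        rfl
      rw [h7, h6, ih x hx, ← hze, pow_succ, mul_assoc]
  refine eq_one_of_autFun fun x hx => ?_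
  rw [h3 _ x hx]
  have h8 : x⁻¹ * autFun δ x ∈ S := hQ (hPQ (h2 x hx))
  have h9 : (⟨_, h8⟩ : S) ^ p ^ k = 1 := by rw [← hk]; exact pow_card_eq_one'
  have h10 : (x⁻¹ * autFun δ x) ^ p ^ k = 1 := congrArg Subtype.val h9
  rw [h10, mul_one]

/-- **Lemma D**: a `p'`-automorphism in `F` of `Q`, restricting to an `E`-automorphism of the centric normal subgroup
`P`, lies in `E`. -/
theorem lemmaD [Finite S] [Fact p.Prime] (hS : IsPGroup p S) (hEs : E.IsSaturated p) (hE : Inv E F) (hP : TC F T P)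
    (hPQ : P ≤ Q) (hQT : Q ≤ T) (hQn : ∀ q ∈ Q, q ∈ Subgroup.normalizer (P : Set Ω)) (ha : PP F p Q a)
    (haP : ∀ x ∈ P, a x ∈ P) (haE : FMap E P a) : PP E p Q a := by
  have hT := hE.closed
  have hTp := isPGroup_of_le hS hT.1
  have hTfin : Finite T := finite_of_le hT.1
  have hQS := hQT.trans hT.1
  have haPi : FIso F P P a := fiso_restrict ha.map hPQ haP
  have haEi : FIso E P P a := ⟨haE, haPi.2⟩
  have hr : E.IsReceptive P := receptive_of_centric hTp hEs (hP.centric hE.sub)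
  obtain ⟨σ, hσ, hσ1⟩ := extend_sup hr haEi (M := Q) (fun q hq => ⟨hQT hq, hQn q hq⟩) (fun q hq =>
    ⟨a q, hQT (ha.mem hq), fun x hx => ha.map.map_conj hq (hPQ hx)⟩)
  rw [sup_eq_right.2 hPQ] at hσ
  have hσF := sub_fmap hE.sub hσ
  -- `σ q ∈ a q P`
  have h1 : ∀ q ∈ Q, (a q)⁻¹ * σ q ∈ P := by
    intro q hq
    refine hP.cent hT ⟨T.mul_mem (T.inv_mem (hQT (ha.mem hq))) (hσ.map_mem hq), mem_centralizer_iff'.2 fun y hy => ?_⟩
    obtain ⟨x, hx, rfl⟩ := haPi.mem_iff.1 hy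
    have h2 : q * x * q⁻¹ ∈ P := (Subgroup.mem_normalizer_iff.1 (hQn q hq) x).1 hx
    have h3 := ha.map.map_conj hq (hPQ hx)
    have h4 := hσ.map_conj hq (hPQ hx)
    rw [hσ1 _ h2, hσ1 x hx, h3] at h4
    calc (a q)⁻¹ * σ q * a x * ((a q)⁻¹ * σ q)⁻¹ = (a q)⁻¹ * (σ q * a x * (σ q)⁻¹) * a q := by group
      _ = a x := by rw [← h4]; group
  have hσQ : ∀ q ∈ Q, σ q ∈ Q := fun q hq => by
    have := Q.mul_mem (ha.mem hq) (hPQ (h1 q hq))
    rwa [mul_inv_cancel_left] at this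
  have hσi : FIso E Q Q σ := hσ.fiso_of_card hQT hσQ le_rfl
  have hσiF := sub_fiso hE.sub hσi
  obtain ⟨σ', hσ', e1, e2⟩ := hσiF.symm
  obtain ⟨α, hα⟩ : ∃ α : MulAut Q, α = ha.1.equiv := ⟨_, rfl⟩
  obtain ⟨β, hβ⟩ : ∃ β : MulAut Q, β = hσiF.equiv := ⟨_, rfl⟩
  have hα1 : ∀ x ∈ Q, autFun α x = a x := fun x hx => by rw [autFun_of_mem _ hx, hα]; rfl
  have hβ1 : ∀ x ∈ Q, autFun β x = σ x := fun x hx => by rw [autFun_of_mem _ hx, hβ]; rfl
  have hβE : β ∈ E.autGroup Q := (fiso_autFun_iff hQT).1 (hσi.congr fun x hx => (hβ1 x hx).symm)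
  have hαF : α ∈ F.autGroup Q := hα ▸ ha.aut_mem
  have hσP : FIso F P P σ := haPi.congr fun x hx => (hσ1 x hx).symm
  have hδ : ∃ k, (β⁻¹ * α) ^ p ^ k = 1 := by
    refine stab_pow hS hQS hPQ (fun x hx => ?_) (fun x hx => ?_)
    · rw [autFun_mul _ _ (hPQ hx), hα1 x (hPQ hx), ← hσ1 x hx, ← hβ1 x (hPQ hx), autFun_inv_apply β (hPQ hx)]
    · rw [autFun_mul _ _ hx, hα1 x hx]
      obtain ⟨y, hy⟩ : ∃ y, y = autFun β⁻¹ (a x) := ⟨_, rfl⟩
      have hyQ : y ∈ Q := hy ▸ autFun_mem _ (ha.mem hx)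
      have h2 : σ y = a x := by rw [← hβ1 y hyQ, hy, autFun_apply_inv β (ha.mem hx)]
      rw [← hy]
      have h3 : σ (x⁻¹ * y) ∈ P := by
        rw [hσ.map_mul (Q.inv_mem hx) hyQ, hσ.map_inv hx, h2]
        have := P.inv_mem (h1 x hx)
        rwa [mul_inv_rev, inv_inv] at this
      obtain ⟨w, hw, hwe⟩ := hσP.mem_iff.1 h3
      have h4 : w = x⁻¹ * y := hσ.inj (hPQ hw) (Q.mul_mem (Q.inv_mem hx) hyQ) hwe
      rw [← h4]; exact hw
  have hstr := FusionFrat.Inv.strong hE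
  have hαE : α ∈ E.autGroup Q := by
    refine mem_of_pprime (y := β) (δ := β⁻¹ * α) (fun n hn => ?_) hβE (by group) ?_ hδ
    · exact hstr.autGroup_normal hT.1 hQT α hαF n hn
    · rw [hα]; exact ha.order
  refine ⟨?_, ha.2⟩
  exact ((fiso_autFun_iff hQT).2 hαE).congr hα1

/-- a `p`-subgroup of `Aut_F(M)` normalized by `Aut_S(M)` is induced by `S`, when `M` is fully automized -/
theorem le_of_normalized [Finite S] [Fact p.Prime] (hM : F.IsFullyAutomized p M) {K : Subgroup (MulAut M)}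
    (hK : K ≤ F.autGroup M) (hKp : IsPGroup p K)
    (hn : ∀ α ∈ autInducedBy S M, ∀ κ ∈ K, α * κ * α⁻¹ ∈ K) : K ≤ autInducedBy S M := by
  obtain ⟨hMS, R, hR⟩ := hM
  have hfin : Finite M := finite_of_le hMS
  have hK' : IsPGroup p (K.subgroupOf (F.autGroup M)) := by
    intro x
    obtain ⟨k, hk⟩ := hKp ⟨x.1.1, x.2⟩
    have hk' : (x.1.1 : MulAut M) ^ p ^ k = 1 := congrArg Subtype.val hk
    exact ⟨k, Subtype.ext (Subtype.ext hk')⟩
  have hmemR : ∀ x : F.autGroup M, x ∈ (R : Subgroup (F.autGroup M)) ↔ (x : MulAut M) ∈ autInducedBy S M := by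
    intro x; rw [hR, Subgroup.mem_subgroupOf]
  have hle : (R : Subgroup (F.autGroup M)) ≤ Subgroup.normalizer ((K.subgroupOf (F.autGroup M)) : Set (F.autGroup M)) := by
    have h1 : ∀ x ∈ (R : Subgroup (F.autGroup M)), ∀ y ∈ K.subgroupOf (F.autGroup M),
        x * y * x⁻¹ ∈ K.subgroupOf (F.autGroup M) := by
      intro x hx y hy
      rw [Subgroup.mem_subgroupOf] at hy ⊢
      exact hn _ ((hmemR x).1 hx) _ hy
    intro x hx
    refine Subgroup.mem_normalizer_iff.2 fun y => ⟨h1 x hx y, fun h => ?_⟩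
    have := h1 _ (Subgroup.inv_mem _ hx) _ h
    rwa [inv_inv, show x⁻¹ * (x * y * x⁻¹) * x = y by group] at this
  have hsup : IsPGroup p ↥(K.subgroupOf (F.autGroup M) ⊔ (R : Subgroup (F.autGroup M))) :=
    IsPGroup.to_sup_of_normal_left' hK' R.isPGroup' hle
  have h5 := R.3 hsup le_sup_right
  intro κ hκ
  have h6 : (⟨κ, hK hκ⟩ : F.autGroup M) ∈ (R : Subgroup (F.autGroup M)) := by
    rw [← h5]
    exact Subgroup.mem_sup_left (Subgroup.mem_subgroupOf.2 hκ)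
  exact (hmemR _).1 h6

/-- **Lemma W**: for fully normalized `P` and `P ≤ R ≤ N_T(P)` normalized by `N_S(P)`, the elements of `N_S(P)` inducing
`E`-automorphisms on `R` act on `R` as elements of `N_T(P)`. -/
theorem lemmaW [Finite S] [Fact p.Prime] (hS : IsPGroup p S) (hF : F.IsSaturated p) (hEs : E.IsSaturated p)
    (hE : Inv E F) (hPT : P ≤ T) (hP : F.IsFullyNormalized P) (hPR : P ≤ R) (hR : R ≤ normalizerIn T P)
    (hRn : ∀ s ∈ normalizerIn S P, ∀ x ∈ R, s * x * s⁻¹ ∈ R) {w : Ω} (hw : w ∈ normalizerIn S P)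
    (hwE : FMap E R (fun x => w * x * w⁻¹)) : ∃ t ∈ normalizerIn T P, ∀ x ∈ R, w * x * w⁻¹ = t * x * t⁻¹ := by
  have hT := hE.closed
  have hTp := isPGroup_of_le hS hT.1
  have hTfin : Finite T := finite_of_le hT.1
  have hPE : E.IsFullyNormalized P := fullyNormalized_sub hS hF hT hE.sub hPT hP
  have hNsat : (normSys E P hPE.1).IsSaturated p := normSys_saturated hTp hEs hPE
  have hNp : IsPGroup p ↥(normalizerIn T P) := isPGroup_of_le hTp (normalizerIn_le T P)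
  have hNfin : Finite ↥(normalizerIn T P) := finite_of_le (normalizerIn_le T P)
  have hRT : R ≤ T := hR.trans (normalizerIn_le T P)
  have hRS : R ≤ S := hRT.trans hT.1
  have hRfin : Finite R := finite_of_le hRS
  have hnorm : ∀ s ∈ normalizerIn S P, s ∈ Subgroup.normalizer (R : Set Ω) := fun s hs =>
    Subgroup.mem_normalizer_iff.2 fun x => ⟨hRn s hs x, fun h => by
      have := hRn _ ((normalizerIn S P).inv_mem hs) _ h
      rwa [inv_inv, show s⁻¹ * (s * x * s⁻¹) * s = x by group] at this⟩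
  have hTN : normalizerIn T P ≤ normalizerIn S P := inf_le_inf_right _ hT.1
  have hRfn : (normSys E P hPE.1).IsFullyNormalized R := fullyNormalized_of_normalizes hR fun s hs => hnorm s (hTN hs)
  have hRa := fullyAutomized_of_fullyNormalized hNp hNsat hRfn
  -- automorphisms induced by `N_S(P)` lying in `E`
  let K : Subgroup (MulAut R) := autInducedBy (normalizerIn S P) R ⊓ E.autGroup R
  have hKle : K ≤ (normSys E P hPE.1).autGroup R := by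
    rintro κ ⟨hκ1, hκ2⟩
    obtain ⟨s, hs, h1⟩ := mem_autInducedBy_iff.1 hκ1
    have h2 : FMap E R (autFun κ) := ((fiso_autFun_iff hRT).2 hκ2).1
    have h3 : FIso E P P (autFun κ) := fiso_restrict h2 hPR fun x hx => by
      rw [autFun_of_mem κ (hPR hx), h1]
      exact (Subgroup.mem_normalizer_iff.1 hs.2 x).1 hx
    refine (FMap_autFun_iff hR).1 (fmap_normSys.2 ⟨hR, fun x hx => hR (autFun_mem κ hx), autFun κ, ?_, fun _ _ => rfl, h3⟩)
    rw [sup_eq_left.2 hPR]; exact h2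
  have hKp : IsPGroup p K := by
    have h1 : IsPGroup p (autInducedBy (normalizerIn S P) R) := isPGroup_autInducedBy hS (normalizerIn_le S P)
    exact IsPGroup.to_le h1 inf_le_left
  have hKn : ∀ α ∈ autInducedBy (normalizerIn T P) R, ∀ κ ∈ K, α * κ * α⁻¹ ∈ K := by
    rintro α hα κ ⟨hκ1, hκ2⟩
    have h1 := autInducedBy_mono hTN hα
    have h2 : α ∈ E.autGroup R := autInducedBy_le_autGroup hRT (normalizerIn_le T P) hα
    exact ⟨Subgroup.mul_mem _ (Subgroup.mul_mem _ h1 hκ1) (Subgroup.inv_mem _ h1),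
      Subgroup.mul_mem _ (Subgroup.mul_mem _ h2 hκ2) (Subgroup.inv_mem _ h2)⟩
  have h4 := le_of_normalized hRa hKle hKp hKn
  have hwn := hnorm w hw
  have h5 : conjAut R w hwn ∈ K := by
    refine ⟨conjAut_mem_autInducedBy hwn hw, (FMap_autFun_iff hRT).1 (hwE.congr fun x hx => ?_)⟩
    rw [autFun_of_mem _ hx, conjAut_apply]
  obtain ⟨t, ht, h6⟩ := mem_autInducedBy_iff.1 (h4 h5)
  refine ⟨t, ht, fun x hx => ?_⟩
  have := h6 ⟨x, hx⟩
  rwa [conjAut_apply] at this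

/-- **Extension step**: a `p'`-automorphism of `N_T(P) C_S(N_T(P))` invariant on `P` extends to `C_S(P)`. -/
theorem step_ext [Finite S] [Fact p.Prime] (hS : IsPGroup p S) (hF : F.IsSaturated p) (hT : F.StronglyClosed T)
    (hTC : TC F T P) (hP : F.IsFullyNormalized P) (hP₁e : P₁ = normalizerIn T P)
    (hgM : PP F p (P₁ ⊔ centralizerIn S P₁) g) (hgP : ∀ x ∈ P, g x ∈ P)
    (hgC₁ : ∀ c ∈ centralizerIn S P₁, c⁻¹ * g c ∈ P₁) :
    ∃ σ, PP F p ((P₁ ⊔ centralizerIn S P₁) ⊔ centralizerIn S P) σ ∧ (∀ x ∈ P₁ ⊔ centralizerIn S P₁, σ x = g x) ∧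
      ∀ v ∈ centralizerIn S P, σ v ∈ centralizerIn S P := by
  have hPT := hTC.1
  have hPS := hPT.trans hT.1
  have hTp := isPGroup_of_le hS hT.1
  have hTfin : Finite T := finite_of_le hT.1
  have hP₁T : P₁ ≤ T := hP₁e ▸ normalizerIn_le T P
  have hPP₁ : P ≤ P₁ := hP₁e ▸ le_normalizerIn hPT
  have hP₁S := hP₁T.trans hT.1
  have hTC₁ : TC F T P₁ := hTC.mono hT hPP₁ hP₁T
  have hTn := normalizes_of_stronglyClosed hT
  let NS := normalizerIn S P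
  let V := centralizerIn S P
  let C₁ := centralizerIn S P₁
  have hVNS : V ≤ NS := centralizerIn_le_normalizerIn S P
  have hC₁V : C₁ ≤ V := inf_le_inf_left _ (Subgroup.centralizer_le hPP₁)
  have hP₁NS : P₁ ≤ NS := by rw [hP₁e]; exact inf_le_inf_right _ hT.1
  -- normality in N_S(P)
  have hnP₁ : ∀ n ∈ NS, ∀ x ∈ P₁, n * x * n⁻¹ ∈ P₁ := by
    intro n hn x hx
    rw [hP₁e] at hx ⊢
    exact ⟨(Subgroup.mem_normalizer_iff.1 (hTn hn.1) x).1 hx.1, Subgroup.mul_mem _ (Subgroup.mul_mem _ hn.2 hx.2)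
      (Subgroup.inv_mem _ hn.2)⟩
  have hnC : ∀ {Q : Subgroup Ω}, (∀ n ∈ NS, ∀ x ∈ Q, n * x * n⁻¹ ∈ Q) → ∀ n ∈ NS, ∀ c ∈ centralizerIn S Q,
      n * c * n⁻¹ ∈ centralizerIn S Q := by
    intro Q hQ n hn c hc
    refine ⟨S.mul_mem (S.mul_mem hn.1 hc.1) (S.inv_mem hn.1), mem_centralizer_iff'.2 fun x hx => ?_⟩
    have h1 := hQ _ (NS.inv_mem hn) x hx
    rw [inv_inv] at h1
    have h2 := mem_centralizer_iff'.1 hc.2 _ h1
    calc n * c * n⁻¹ * x * (n * c * n⁻¹)⁻¹ = n * (c * (n⁻¹ * x * n) * c⁻¹) * n⁻¹ := by group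
      _ = x := by rw [h2]; group
  have hnC₁ : ∀ n ∈ NS, ∀ c ∈ C₁, n * c * n⁻¹ ∈ C₁ := hnC hnP₁
  have hnP : ∀ n ∈ NS, ∀ x ∈ P, n * x * n⁻¹ ∈ P := fun n hn x hx => (Subgroup.mem_normalizer_iff.1 hn.2 x).1 hx
  have hnV : ∀ n ∈ NS, ∀ c ∈ V, n * c * n⁻¹ ∈ V := hnC hnP
  let M := P₁ ⊔ C₁
  have hMNS : M ≤ NS := sup_le hP₁NS (hC₁V.trans hVNS)
  have hnM : ∀ n ∈ NS, ∀ x ∈ M, n * x * n⁻¹ ∈ M := by
    intro n hn x hx
    have h1 : M ≤ M.comap (MulAut.conj n).toMonoidHom := sup_le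
      (fun y hy => Subgroup.mem_sup_left (hnP₁ n hn y hy)) (fun y hy => Subgroup.mem_sup_right (hnC₁ n hn y hy))
    exact h1 hx
  have hVT : ∀ v ∈ V, v ∈ T → v ∈ P := fun v hv hvT => hTC.cent hT ⟨hvT, hv.2⟩
  have hPM : P ≤ M := hPP₁.trans le_sup_left
  have hP₁M : P₁ ≤ M := le_sup_left
  -- the normalizer system
  let N := normSys F P hPS
  have hNsat : N.IsSaturated p := normSys_saturated hS hF hP
  have hNSp : IsPGroup p NS := isPGroup_of_le hS (normalizerIn_le S P)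
  have hNSfin : Finite NS := finite_of_le (normalizerIn_le S P)
  have hNmap : ∀ {f : Ω → Ω}, FIso F M M f → (∀ x ∈ P, f x ∈ P) → FIso N M M f := by
    intro f hf hfP
    refine ⟨fmap_normSys.2 ⟨hMNS, fun x hx => hMNS (hf.mem hx), f, ?_, fun _ _ => rfl, ?_⟩, hf.2⟩
    · rw [sup_eq_left.2 hPM]; exact hf.1
    · exact fiso_restrict hf.1 hPM hfP
  have hNinvP : ∀ f, FIso N M M f → ∀ x ∈ P, f x ∈ P := by
    intro f hf x hx
    obtain ⟨-, -, g', hg', h1, h2⟩ := fmap_normSys.1 hf.1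
    rw [← h1 x (hPM hx)]
    exact h2.mem hx
  have hNT : ∀ f, FIso N M M f → ∀ x ∈ P₁, f x ∈ P₁ := by
    intro f hf x hx
    have h1 := sub_fmap (normSys_sub (F := F) (hX := hPS)) hf.1
    have h2 : f x ∈ T := StronglyClosed.map_mem F hT h1 (hP₁M hx) (hP₁T hx)
    have h3 : f x ∈ NS := hMNS (hf.mem (hP₁M hx))
    rw [hP₁e]
    exact ⟨h2, h3.2⟩
  have hgN : PP N p M g := ⟨hNmap hgM.1 hgP, hgM.2⟩
  have hgP₁' : ∀ x ∈ P₁, g x ∈ P₁ := hNT g hgN.1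
  have hNSM : NS ≤ Subgroup.normalizer (M : Set Ω) := fun n hn => Subgroup.mem_normalizer_iff.2 fun x =>
    ⟨fun hx => hnM n hn x hx, fun hx => by
      have := hnM _ (NS.inv_mem hn) _ hx
      rwa [inv_inv, show n⁻¹ * (n * x * n⁻¹) * n = x by group] at this⟩
  have hMfn : N.IsFullyNormalized M := fullyNormalized_of_normalizes hMNS hNSM
  have hMar := automized_receptive_of_fullyNormalized hNSp hNsat hMfn
  obtain ⟨g', hg', hgg', hg'g⟩ := hgN.1.symm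
  have hg'F := sub_fiso (normSys_sub (F := F) (hX := hPS)) hg'
  have hg'P : ∀ x ∈ P, g' x ∈ P := hNinvP g' hg'
  have hg'P₁ : ∀ x ∈ P₁, g' x ∈ P₁ := hNT g' hg'
  have hg'C₁ : ∀ c ∈ C₁, c⁻¹ * g' c ∈ P₁ := by
    intro c hc
    have hcm : c ∈ M := Subgroup.mem_sup_right hc
    have h7 := hg'P₁ _ (hgC₁ c hc)
    rw [hg'.1.map_mul (Subgroup.inv_mem _ hcm) (hgN.mem hcm), hg'.1.map_inv hcm, hgg' c hcm] at h7
    have h8 := P₁.inv_mem h7
    rwa [mul_inv_rev, inv_inv] at h8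
  -- V acts
  have hact : ∀ v ∈ V, ∃ w ∈ V, ∀ x ∈ M, g (v * x * v⁻¹) = w * g x * w⁻¹ := by
    intro v hv
    have hvN := hVNS hv
    have hv' := NS.inv_mem hvN
    have hvM : ∀ x ∈ M, v⁻¹ * x * v ∈ M := fun x hx => by have := hnM _ hv' x hx; rwa [inv_inv] at this
    -- κ = g c_v g⁻¹ c_v⁻¹
    have hc1 : FIso N M M (fun x => v⁻¹ * x * v⁻¹⁻¹) :=
      fiso_conj_of_normalizer N hMNS hv' (hNSM hv')
    have hc2 : FIso N M M (fun x => v * x * v⁻¹) := fiso_conj_of_normalizer N hMNS hvN (hNSM hvN)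
    have hκ : FIso N M M (fun x => g (v * g' (v⁻¹ * x * v⁻¹⁻¹) * v⁻¹)) :=
      ((hc1.trans hg').trans hc2).trans hgN.1
    have hvx : ∀ x ∈ P, v⁻¹ * x * v⁻¹⁻¹ = x := fun x hx => mem_centralizer_iff'.1 (Subgroup.inv_mem _ hv.2) x hx
    have hvx' : ∀ x ∈ P, v * x * v⁻¹ = x := fun x hx => mem_centralizer_iff'.1 hv.2 x hx
    have hcomm : ∀ x ∈ P₁, ∀ v ∈ V, x⁻¹ * (v * x * v⁻¹) ∈ P := by
      intro x hx v hv
      refine hVT _ ?_ (T.mul_mem (T.inv_mem (hP₁T hx)) (hP₁T (hnP₁ v (hVNS hv) x hx)))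
      have h1 := hnV _ (NS.inv_mem (hP₁NS hx)) v hv
      rw [inv_inv] at h1
      have h2 : x⁻¹ * (v * x * v⁻¹) = (x⁻¹ * v * x) * v⁻¹ := by group
      rw [h2]
      exact V.mul_mem h1 (V.inv_mem hv)
    obtain ⟨s, hs, hs'⟩ := chain3 (F := N) hNSp hMar.1 hPP₁ hP₁M hNinvP hNT hκ (fun x hx => by
      show g (v * g' (v⁻¹ * x * v⁻¹⁻¹) * v⁻¹) = x
      rw [hvx x hx, hvx' _ (hg'P x hx), hg'g x (hPM hx)]) (fun x hx => by
      show x⁻¹ * g (v * g' (v⁻¹ * x * v⁻¹⁻¹) * v⁻¹) ∈ P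
      obtain ⟨z, hz⟩ : ∃ z, z = x⁻¹ * (v⁻¹ * x * v⁻¹⁻¹) := ⟨_, rfl⟩
      have hzP : z ∈ P := hz ▸ hcomm x hx _ (V.inv_mem hv)
      have hxz : v⁻¹ * x * v⁻¹⁻¹ = x * z := by rw [hz]; group
      have hxM := hP₁M hx
      have hg'x : g' x ∈ P₁ := hg'P₁ x hx
      obtain ⟨w, hw⟩ : ∃ w, w = (g' x)⁻¹ * (v * g' x * v⁻¹) := ⟨_, rfl⟩
      have hwP : w ∈ P := hw ▸ hcomm _ hg'x _ hv
      have h1 : v * g' (x * z) * v⁻¹ = g' x * (w * g' z) := by
        rw [hg'.1.map_mul hxM (hPM hzP)]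
        have h2 := hvx' _ (hg'P z hzP)
        calc v * (g' x * g' z) * v⁻¹ = (v * g' x * v⁻¹) * (v * g' z * v⁻¹) := by group
          _ = g' x * (w * g' z) := by rw [h2, hw]; group
      have h3 : w * g' z ∈ P := P.mul_mem hwP (hg'P z hzP)
      rw [hxz, h1, hgN.map.map_mul (hg'.mem hxM) (hPM h3), hg'g x hxM, inv_mul_cancel_left]
      exact hgP _ h3) (fun x hx => by
      show x⁻¹ * g (v * g' (v⁻¹ * x * v⁻¹⁻¹) * v⁻¹) ∈ P₁
      let K : Subgroup Ω :=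
        { carrier := {x | x ∈ M ∧ x⁻¹ * g (v * g' (v⁻¹ * x * v⁻¹⁻¹) * v⁻¹) ∈ P₁}
          one_mem' := ⟨M.one_mem, by
            have := hκ.1.map_one
            show (1 : Ω)⁻¹ * g (v * g' (v⁻¹ * 1 * v⁻¹⁻¹) * v⁻¹) ∈ P₁
            rw [this]; simp⟩
          mul_mem' := by
            rintro x y ⟨hx, hx'⟩ ⟨hy, hy'⟩
            refine ⟨M.mul_mem hx hy, ?_⟩
            have h1 := hκ.1.map_mul hx hy
            have h1' : g (v * g' (v⁻¹ * (x * y) * v⁻¹⁻¹) * v⁻¹) = g (v * g' (v⁻¹ * x * v⁻¹⁻¹) * v⁻¹) *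
              g (v * g' (v⁻¹ * y * v⁻¹⁻¹) * v⁻¹) := h1
            rw [h1']
            have h2 := hnP₁ _ (NS.inv_mem (hMNS hy)) _ hx'
            have h3 := P₁.mul_mem h2 hy'
            have h4 : y⁻¹ * (x⁻¹ * g (v * g' (v⁻¹ * x * v⁻¹⁻¹) * v⁻¹)) * y⁻¹⁻¹ * (y⁻¹ * g (v * g' (v⁻¹ * y * v⁻¹⁻¹) * v⁻¹)) =
              (x * y)⁻¹ * (g (v * g' (v⁻¹ * x * v⁻¹⁻¹) * v⁻¹) * g (v * g' (v⁻¹ * y * v⁻¹⁻¹) * v⁻¹)) := by group
            rwa [h4] at h3
          inv_mem' := by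
            rintro x ⟨hx, hx'⟩
            refine ⟨M.inv_mem hx, ?_⟩
            have h1 : g (v * g' (v⁻¹ * x⁻¹ * v⁻¹⁻¹) * v⁻¹) = (g (v * g' (v⁻¹ * x * v⁻¹⁻¹) * v⁻¹))⁻¹ := hκ.1.map_inv hx
            rw [h1]
            have h2 := hnP₁ _ (hMNS hx) _ (P₁.inv_mem hx')
            have h3 : x * (x⁻¹ * g (v * g' (v⁻¹ * x * v⁻¹⁻¹) * v⁻¹))⁻¹ * x⁻¹ =
              x⁻¹⁻¹ * (g (v * g' (v⁻¹ * x * v⁻¹⁻¹) * v⁻¹))⁻¹ := by group
            rwa [h3] at h2 }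
      have hK : M ≤ K := by
        refine sup_le (fun y hy => ⟨hP₁M hy, P₁.mul_mem (P₁.inv_mem hy) ?_⟩) (fun c hc => ⟨Subgroup.mem_sup_right hc, ?_⟩)
        · exact hNT _ hκ y hy
        · obtain ⟨c', hc'⟩ : ∃ c', c' = v⁻¹ * c * v⁻¹⁻¹ := ⟨_, rfl⟩
          have hc'C : c' ∈ C₁ := hc' ▸ hnC₁ _ hv' c hc
          have hc'M : c' ∈ M := Subgroup.mem_sup_right hc'C
          obtain ⟨w, hw⟩ : ∃ w, w = c'⁻¹ * g' c' := ⟨_, rfl⟩
          have hwP : w ∈ P₁ := hw ▸ hg'C₁ c' hc'C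
          have hcM : c ∈ M := Subgroup.mem_sup_right hc
          have h1 : v * g' c' * v⁻¹ = c * (v * w * v⁻¹) := by
            rw [hw, hc']; group
          have h2 : v * w * v⁻¹ ∈ P₁ := hnP₁ v hvN w hwP
          rw [← hc', h1, hgN.map.map_mul hcM (hP₁M h2), ← mul_assoc]
          exact P₁.mul_mem (hgC₁ c hc) (hgP₁' _ h2)
      exact (hK hx).2)
    have hsV : s ∈ V := ⟨hs.1.1, mem_centralizer_iff'.2 fun x hx => by
      have h1 := hs' x (hPM hx)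
      rw [← h1]
      show g (v * g' (v⁻¹ * x * v⁻¹⁻¹) * v⁻¹) = x
      rw [hvx x hx, hvx' _ (hg'P x hx), hg'g x (hPM hx)]⟩
    refine ⟨s * v, V.mul_mem hsV hv, fun x hx => ?_⟩
    have hgx := hgN.mem hx
    have h1 := hs' (v * g x * v⁻¹) (hnM v hvN _ hgx)
    have h2 : g (v * g' (v⁻¹ * (v * g x * v⁻¹) * v⁻¹⁻¹) * v⁻¹) = s * (v * g x * v⁻¹) * s⁻¹ := h1
    have h3 : v⁻¹ * (v * g x * v⁻¹) * v⁻¹⁻¹ = g x := by group
    rw [h3, hgg' x hx] at h2
    rw [h2]; group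
  obtain ⟨σ, hσ, hσ1, hσ2⟩ := ext_grp_pp hMar.2 hgN hVNS (fun x hx => ⟨hx.1.1, Subgroup.centralizer_le hPM hx.2⟩)
    (fun v hv => ⟨hNSM (hVNS hv), hact v hv⟩)
  exact ⟨σ, pp_sub (normSys_sub (F := F) (hX := hPS)) hσ, hσ1, hσ2⟩

end Cfsg.Agent.Lib.FusionLemD
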