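import Mathlib
import Cfsg.Agent.Lib.FusionThmA2
import Cfsg.Agent.Lib.FusionQuotHyp
import Cfsg.Agent.Lib.FusionGrp
import Cfsg.Agent.S5093

/-!
Subsystems of `p`-power index: existence, uniqueness and normality.
-/

set_option autoImplicit false
open Cfsg Cfsg.FusionSystem Cfsg.Agent.Lib.FusionBasic Cfsg.Agent.Lib.FusionSat Cfsg.Agent.Lib.FusionNormal
  Cfsg.Agent.Lib.FusionInvar Cfsg.Agent.Lib.FusionTools Cfsg.Agent.Lib.FusionPP Cfsg.Agent.Lib.FusionStrong
  Cfsg.Agent.Lib.FusionSys Cfsg.Agent.Lib.FusionFrat Cfsg.Agent.Lib.FusionPrime Cfsg.Agent.Lib.FusionTC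
  Cfsg.Agent.Lib.FusionClosed Cfsg.Agent.Lib.FusionStab Cfsg.Agent.Lib.FusionZeta Cfsg.Agent.Lib.FusionCenClosed
  Cfsg.Agent.Lib.FusionThmA Cfsg.Agent.Lib.FusionThmA2

namespace Cfsg.Agent.Lib.FusionPIdx

variable {Ω : Type*} [Group Ω] {S T : Subgroup Ω} {F : FusionSystem S} {E : FusionSystem T}
  {P Q R U M X Y Z G G₁ G₂ P₀ R₁ : Subgroup Ω} {a b f g θ κ ψ : Ω → Ω} {p : ℕ}

theorem pp_comm_mem_hyp [Finite S] [Fact p.Prime] (h : PP F p M f) {x : Ω} (hx : x ∈ M) :
    x⁻¹ * f x ∈ F.hyperfocalSubgroup p :=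
  Cfsg.Agent.Lib.FusionPPower.hyperfocal_le_iff.1 le_rfl M h.le _ h.aut_mem h.order ⟨x, hx⟩

/-- the automorphisms in `O^p(Aut_F(P))` induced by `S` are induced by the hyperfocal subgroup -/
theorem hyper_aut [Finite S] [Fact p.Prime] (hP : F.IsFullyAutomized p P) (hr : F.IsReceptive P)
    (hT : F.hyperfocalSubgroup p ≤ T) {α : F.autGroup P} (hα : α ∈ pResidual p (F.autGroup P))
    (hα' : (α : MulAut P) ∈ autInducedBy S P) : (α : MulAut P) ∈ autInducedBy T P := by
  obtain ⟨hPS, R, hR⟩ := hP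
  have hfin : Finite P := finite_of_le hPS
  have hmemR : ∀ β : F.autGroup P, β ∈ (R : Subgroup (F.autGroup P)) ↔ (β : MulAut P) ∈ autInducedBy S P := by
    intro β
    rw [hR, Subgroup.mem_subgroupOf]
  have h1 : α ∈ (groupFusionSystem (R : Subgroup (F.autGroup P))).hyperfocalSubgroup p := by
    rw [Cfsg.Agent.S5093.result p R]; exact ⟨(hmemR α).2 hα', hα⟩
  rw [Cfsg.Agent.Lib.FusionHyper.hyp_eq] at h1
  have h2 : Subgroup.closure {y : F.autGroup P | ∃ (Q : Subgroup (F.autGroup P)) (β : MulAut Q), Q ≤ (R : Subgroup _) ∧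
      β ∈ (groupFusionSystem (R : Subgroup (F.autGroup P))).autGroup Q ∧ (orderOf β).Coprime p ∧
      ∃ x : Q, y = (x : F.autGroup P)⁻¹ * (β x : Q)} ≤ (autInducedBy T P).subgroupOf (F.autGroup P) := by
    rw [Subgroup.closure_le]
    rintro y ⟨Q, β, hQ, hβ, ho, x, hy⟩
    have h3 := fmap_of_autGroup hQ hβ
    obtain ⟨-, -, g, hg⟩ := fmap_group_iff.1 h3
    have hg' : ∀ y : Q, g * (y : F.autGroup P) * g⁻¹ = (β y : Q) := by
      intro y
      rw [← hg y y.2, autFun_coe]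
    have hgn : g ∈ Subgroup.normalizer (Q : Set (F.autGroup P)) := by
      refine Cfsg.Agent.Lib.FusionGrp.mem_normalizer_of_conj_mem (fun y hy => ?_)
      rw [hg' ⟨y, hy⟩]
      exact (β ⟨y, hy⟩).2
    have hπ : Q.normalizerMonoidHom ⟨g, hgn⟩ = β := by
      refine MulEquiv.ext fun y => Subtype.ext ?_
      exact hg' y
    obtain ⟨r, hr1, hr2⟩ := Cfsg.Agent.Lib.FusionQuotHyp.exists_coprime_lift (p := p) Q.normalizerMonoidHom ⟨g, hgn⟩
      (by rw [hπ]; exact ho)
    obtain ⟨γ, hγ⟩ : ∃ γ : F.autGroup P, γ = g ^ r := ⟨_, rfl⟩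
    have hγo : (orderOf (γ : MulAut P)).Coprime p := by
      rw [Subgroup.orderOf_coe, hγ]
      rw [← Subgroup.orderOf_coe] at hr1
      exact hr1
    have hγβ : ∀ y : Q, ((β y : Q) : F.autGroup P) = γ * (y : F.autGroup P) * γ⁻¹ := by
      intro y
      have h4 := congrArg (fun β : MulAut Q => ((β y : Q) : F.autGroup P)) (hr2.trans hπ)
      rw [hγ]
      exact h4.symm
    have hpp := pp_of_aut hPS γ.2 hγo
    let M : Subgroup Ω :=
      { carrier := {m | m ∈ normalizerIn S P ∧ ∃ κ ∈ Q, ∀ x : P, (((κ : MulAut P) x : P) : Ω) = m * (x : Ω) * m⁻¹}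
        one_mem' := ⟨one_mem _, 1, one_mem _, fun x => by simp⟩
        mul_mem' := by
          rintro m n ⟨hm, κ, hκ, h1⟩ ⟨hn, ν, hν, h2⟩
          refine ⟨mul_mem hm hn, κ * ν, mul_mem hκ hν, fun x => ?_⟩
          show (((κ : MulAut P) ((ν : MulAut P) x) : P) : Ω) = _
          rw [h1, h2]
          group
        inv_mem' := by
          rintro m ⟨hm, κ, hκ, h1⟩
          refine ⟨inv_mem hm, κ⁻¹, inv_mem hκ, fun x => ?_⟩
          have h2 := h1 ((κ : MulAut P)⁻¹ x)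
          have h3 : (κ : MulAut P) ((κ : MulAut P)⁻¹ x) = x := MulAut.apply_inv_self _ _ _
          rw [h3] at h2
          show ((((κ⁻¹ : F.autGroup P) : MulAut P) x : P) : Ω) = _
          rw [h2, InvMemClass.coe_inv]
          group }
    have hMN : M ≤ normalizerIn S P := fun m hm => hm.1
    have hC : centralizerIn S P ≤ M := fun c hc => by
      refine ⟨centralizerIn_le_normalizerIn S P hc, 1, one_mem _, fun x => ?_⟩
      rw [mem_centralizer_iff'.1 hc.2 x x.2]
      rfl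
    have hact : M ≤ actSub hpp.1 M := by
      rintro m ⟨hm, κ, hκ, h1⟩
      refine mem_actSub.2 ⟨hm.2, ?_⟩
      have h2 : γ * κ * γ⁻¹ ∈ Q := by
        have := (β ⟨κ, hκ⟩).2
        rwa [hγβ] at this
      obtain ⟨m', hm', h3⟩ := mem_autInducedBy_iff.1 ((hmemR _).1 (hQ h2))
      refine ⟨m', ⟨⟨hm', mem_normalizer_of_aut h3⟩, _, h2, h3⟩, fun x hx => ?_⟩
      have h4 := h3 ((γ : MulAut P) ⟨x, hx⟩)
      have h5 : (((γ * κ * γ⁻¹ : F.autGroup P) : MulAut P) ((γ : MulAut P) ⟨x, hx⟩)) = (γ : MulAut P) ((κ : MulAut P) ⟨x, hx⟩) := by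
        show (γ : MulAut P) ((κ : MulAut P) ((γ : MulAut P)⁻¹ ((γ : MulAut P) ⟨x, hx⟩))) = _
        rw [MulAut.inv_apply_self]
      rw [h5] at h4
      have h6 : m * x * m⁻¹ = (((κ : MulAut P) ⟨x, hx⟩ : P) : Ω) := (h1 ⟨x, hx⟩).symm
      rw [h6, autFun_coe, autFun_of_mem _ hx, h4]
    obtain ⟨σ, hσ, hσ1, hσM⟩ := ext_grp_pp hr hpp (hMN.trans (normalizerIn_le S P)) hC hact
    have hx0 : (((x : F.autGroup P)) : MulAut P) ∈ autInducedBy S P := (hmemR _).1 (hQ x.2)
    obtain ⟨m, hm, hm1⟩ := mem_autInducedBy_iff.1 hx0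
    have hmM : m ∈ M := ⟨⟨hm, mem_normalizer_of_aut hm1⟩, x, x.2, hm1⟩
    have hmT : m⁻¹ * σ m ∈ T := hT (pp_comm_mem_hyp hσ (Subgroup.mem_sup_right hmM))
    rw [SetLike.mem_coe, Subgroup.mem_subgroupOf, hy, hγβ]
    refine mem_autInducedBy_iff.2 ⟨_, hmT, fun z => ?_⟩
    obtain ⟨w, hw⟩ := (γ : MulAut P).surjective z
    rw [← hw]
    show ((((x : F.autGroup P) : MulAut P)⁻¹ ((γ : MulAut P) (((x : F.autGroup P) : MulAut P) ((γ : MulAut P)⁻¹
      ((γ : MulAut P) w)))) : P) : Ω) = _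
    rw [MulAut.inv_apply_self]
    obtain ⟨v, hv⟩ : ∃ v, v = (γ : MulAut P) (((x : F.autGroup P) : MulAut P) w) := ⟨_, rfl⟩
    rw [← hv]
    have h4 : (v : Ω) = σ m * ((γ : MulAut P) w : P) * (σ m)⁻¹ := by
      rw [hv, ← autFun_coe, ← hσ1 _ (Subtype.coe_prop _), hm1, hσ.map.map_conj (Subgroup.mem_sup_right hmM)
        (Subgroup.mem_sup_left w.2), hσ1 _ w.2, autFun_coe]
    have h5 := hm1 (((x : F.autGroup P) : MulAut P)⁻¹ v)
    rw [MulAut.apply_inv_self] at h5
    have h6 : ((((x : F.autGroup P) : MulAut P)⁻¹ v : P) : Ω) = m⁻¹ * v * m := by rw [h5]; group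
    rw [h6, h4]
    group
  exact h2 h1

theorem map_resid_conj {M : Type*} [Group M] {H : Subgroup M} {α κ : M} (hα : α ∈ H)
    (hκ : κ ∈ (pResidual p H).map H.subtype) : α * κ * α⁻¹ ∈ (pResidual p H).map H.subtype := by
  have hn : (pResidual p H).Normal := by
    have := PNilp.pResidual_characteristic (G := H) p
    infer_instance
  obtain ⟨κ', hκ', rfl⟩ := hκ
  exact ⟨_, hn.conj_mem κ' hκ' ⟨α, hα⟩, by simp⟩

theorem mem_map_resid {M : Type*} [Group M] {H : Subgroup M} {α : M} (hα : α ∈ H) (ho : (orderOf α).Coprime p) :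
    α ∈ (pResidual p H).map H.subtype := by
  refine ⟨⟨α, hα⟩, PNilp.mem_pResidual_of_coprime ?_, rfl⟩
  rw [← Subgroup.orderOf_coe]; exact ho

theorem le_normalizer_of_conj {M : Type*} [Group M] {H K : Subgroup M} (h : ∀ α ∈ H, ∀ κ ∈ K, α * κ * α⁻¹ ∈ K) :
    H ≤ Subgroup.normalizer (K : Set M) := by
  intro α hα
  refine Subgroup.mem_normalizer_iff.2 fun κ => ⟨h α hα κ, fun h' => ?_⟩
  have := h _ (inv_mem hα) _ h'
  rwa [inv_inv, show α⁻¹ * (α * κ * α⁻¹) * α = κ by group] at this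

/-- The family of the subsystem of `p`-power index over `T`. -/
def AP (F : FusionSystem S) (T : Subgroup Ω) (p : ℕ) (P : Subgroup Ω) : Subgroup (MulAut P) :=
  Subgroup.closure {α | (α ∈ F.autGroup P ∧ (orderOf α).Coprime p) ∨
    ∃ (Q : Subgroup Ω) (k : Ω → Ω) (t : Ω), FIso F P Q k ∧ t ∈ normalizerIn T Q ∧ ∀ x : P, k (α x) = t * k x * t⁻¹}

theorem ap_le (hT : T ≤ S) (hP : P ≤ S) : AP F T p P ≤ F.autGroup P := by
  unfold AP
  rw [Subgroup.closure_le]
  rintro α (⟨h, -⟩ | ⟨Q, k, t, hk, ht, h⟩)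
  · exact h
  · obtain ⟨k', hk', e1, e2⟩ := hk.symm
    have htS : t ∈ S := hT ht.1
    have h1 : FIso F Q Q (fun y => t * y * t⁻¹) := by
      refine ⟨fmap_conj F hk.le_right htS, fun y => ⟨fun hy => ⟨t⁻¹ * y * t, ?_, by group⟩, ?_⟩⟩
      · exact ((Subgroup.mem_normalizer_iff''.1 ht.2) y).1 hy
      · rintro ⟨z, hz, rfl⟩
        exact (Subgroup.mem_normalizer_iff.1 ht.2 z).1 hz
    have h2 : FIso F P P (fun x => k' (t * k x * t⁻¹)) := (hk.trans h1).trans hk'
    have h3 : FIso F P P (autFun α) := h2.congr fun x hx => by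
      show k' (t * k x * t⁻¹) = _
      rw [← h ⟨x, hx⟩, e1 _ (α ⟨x, hx⟩).2, autFun_of_mem α hx]
    exact (fiso_autFun_iff hP).1 h3

theorem ap_pp [Fact p.Prime] (h : PP F p P f) : InA (AP F T p) P f :=
  ⟨h.1.equiv, Subgroup.subset_closure (Or.inl ⟨h.aut_mem, h.order⟩), fun x hx => by
    rw [autFun_of_mem _ hx]; rfl⟩

theorem ap_transport (hf : FIso F P Q f) {α : MulAut P} (hα : α ∈ AP F T p P) : hf.autEquiv α ∈ AP F T p Q := by
  have h1 : (AP F T p P).map hf.autEquiv.toMonoidHom ≤ AP F T p Q := by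
    unfold AP
    rw [MonoidHom.map_closure, Subgroup.closure_le]
    rintro _ ⟨α, (⟨h, ho⟩ | ⟨R, k, t, hk, ht, h⟩), rfl⟩
    · refine Subgroup.subset_closure (Or.inl ⟨?_, ?_⟩)
      · rw [← hf.map_autGroup]; exact ⟨α, h, rfl⟩
      · show (orderOf (hf.autEquiv α)).Coprime p
        rw [MulEquiv.orderOf_eq]; exact ho
    · obtain ⟨f', hf', e1, e2⟩ := hf.symm
      refine Subgroup.subset_closure (Or.inr ⟨R, fun x => k (f' x), t, hf'.trans hk, ht, fun y => ?_⟩)
      obtain ⟨x, rfl⟩ := hf.equiv.surjective y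
      show k (f' (hf.autEquiv α (hf.equiv x) : Q)) = t * k (f' (hf.equiv x : Q)) * t⁻¹
      rw [FIso.autEquiv_apply_apply, FIso.equiv_apply, FIso.equiv_apply, e1 _ (α x).2, e1 _ x.2, h]
  exact h1 ⟨α, hα, rfl⟩

theorem inA_transport (hA : ∀ {P Q : Subgroup Ω} {f : Ω → Ω} (hf : FIso F P Q f) {α : MulAut P}, α ∈ AP F T p P →
    hf.autEquiv α ∈ AP F T p Q) (hf : FIso F P Q f) (hg : ∀ x ∈ P, g (f x) = x) (ha : InA (AP F T p) P a) :
    InA (AP F T p) Q (fun y => f (a (g y))) := by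
  obtain ⟨α, hα, h1⟩ := ha
  refine ⟨hf.autEquiv α, hA hf hα, fun y hy => ?_⟩
  obtain ⟨x, hx, rfl⟩ := hf.mem_iff.1 hy
  show f (a (g (f x))) = _
  rw [hg x hx, h1 x hx, autFun_of_mem _ hy, autFun_of_mem _ hx]
  exact (hf.autEquiv_coe α ⟨x, hx⟩).symm

theorem le_normalizer_sup {M : Type*} [Group M] {O B K : Subgroup M} (hO : K ≤ Subgroup.normalizer (O : Set M))
    (hB : K ≤ Subgroup.normalizer (B : Set M)) : K ≤ Subgroup.normalizer ((O ⊔ B : Subgroup M) : Set M) := by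
  intro k hk
  refine Subgroup.mem_normalizer_iff.2 fun x => ?_
  have key : ∀ k ∈ K, ∀ x ∈ O ⊔ B, k * x * k⁻¹ ∈ O ⊔ B := by
    intro k hk x hx
    have h1 : O ⊔ B ≤ (O ⊔ B).comap (MulAut.conj k).toMonoidHom := by
      refine sup_le (fun y hy => ?_) (fun y hy => ?_)
      · exact Subgroup.mem_sup_left ((Subgroup.mem_normalizer_iff.1 (hO hk) y).1 hy)
      · exact Subgroup.mem_sup_right ((Subgroup.mem_normalizer_iff.1 (hB hk) y).1 hy)
    exact h1 hx
  refine ⟨key k hk x, fun h => ?_⟩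
  have := key k⁻¹ (inv_mem hk) _ h
  rwa [inv_inv, show k⁻¹ * (k * x * k⁻¹) * k = x by group] at this

/-- for a fully normalized subgroup the family is `O^p(Aut_F(P)) Aut_T(P)` -/
theorem ap_le_of_fullyNormalized [Finite S] [Fact p.Prime] (hS : IsPGroup p S) (hF : F.IsSaturated p)
    (hT : F.StronglyClosed T) (hP : F.IsFullyNormalized P) :
    AP F T p P ≤ (pResidual p (F.autGroup P)).map (F.autGroup P).subtype ⊔ autInducedBy T P := by
  have hPS := hP.1
  obtain ⟨O, hO⟩ : ∃ O, O = (pResidual p (F.autGroup P)).map (F.autGroup P).subtype := ⟨_, rfl⟩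
  rw [← hO]
  have hOpp : ∀ α ∈ F.autGroup P, (orderOf α).Coprime p → α ∈ O := fun α hα ho => hO ▸ mem_map_resid hα ho
  have hOn : F.autGroup P ≤ Subgroup.normalizer (O : Set (MulAut P)) :=
    le_normalizer_of_conj fun α hα κ hκ => by rw [hO] at hκ ⊢; exact map_resid_conj hα hκ
  have hSn : autInducedBy S P ≤ Subgroup.normalizer ((autInducedBy T P : Subgroup (MulAut P)) : Set (MulAut P)) := by
    have key : ∀ α ∈ autInducedBy S P, ∀ κ ∈ autInducedBy T P, α * κ * α⁻¹ ∈ autInducedBy T P := by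
      intro α hα κ hκ
      obtain ⟨s, hs, h1⟩ := mem_autInducedBy_iff.1 hα
      obtain ⟨t, ht, h2⟩ := mem_autInducedBy_iff.1 hκ
      refine mem_autInducedBy_iff.2 ⟨s * t * s⁻¹, (Subgroup.mem_normalizer_iff.1 (normalizes_of_stronglyClosed hT hs) t).1 ht,
        fun x => ?_⟩
      show ((α (κ (α⁻¹ x)) : P) : Ω) = _
      have h3 := h1 (α⁻¹ x)
      rw [MulAut.apply_inv_self] at h3
      have h4 : ((α⁻¹ x : P) : Ω) = s⁻¹ * x * s := by rw [h3]; group
      rw [h1, h2, h4]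
      group
    exact le_normalizer_of_conj key
  have hfull := fullyAutomized_of_fullyNormalized hS hF hP
  have hn : F.autGroup P ≤ Subgroup.normalizer ((O ⊔ autInducedBy T P : Subgroup (MulAut P)) : Set (MulAut P)) := by
    refine Cfsg.Agent.Lib.FusionPPower.autGroup_le_of_pprime hfull ?_ ?_
    · exact le_normalizer_sup ((autInducedBy_le_autGroup hPS le_rfl).trans hOn) hSn
    · intro α hα ho
      exact Subgroup.le_normalizer (Subgroup.mem_sup_left (hOpp α hα ho))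
  unfold AP
  rw [Subgroup.closure_le]
  rintro β (⟨h, ho⟩ | ⟨Q, k, t, hk, ht, h⟩)
  · exact Subgroup.mem_sup_left (hOpp β h ho)
  · obtain ⟨l, hl, hlN, hlN'⟩ := exists_map_to_fullyNormalized hS hF hP (isConj_symm hk.isConj)
    have hlk := hk.trans hl
    have htN : t ∈ normalizerIn S Q := ⟨hT.1 ht.1, ht.2⟩
    have hlt := hlN' t htN
    have hltT : l t ∈ T := StronglyClosed.map_mem F hT hlN htN ht.1
    obtain ⟨γ, hγ⟩ : ∃ γ : MulAut P, γ = hlk.equiv := ⟨_, rfl⟩
    have hγF : γ ∈ F.autGroup P := hγ ▸ hlk.equiv_mem_autGroup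
    have hγ1 : ∀ x : P, ((γ x : P) : Ω) = l (k x) := fun x => by rw [hγ]; rfl
    have h1 : γ * β * γ⁻¹ ∈ autInducedBy T P := by
      refine mem_autInducedBy_iff.2 ⟨l t, hltT, fun x => ?_⟩
      obtain ⟨w, rfl⟩ := γ.surjective x
      show ((γ (β (γ⁻¹ (γ w))) : P) : Ω) = _
      rw [MulAut.inv_apply_self, hγ1, hγ1, h w, hlN.map_conj htN (le_normalizerIn hk.le_right (hk.mem w.2))]
    have h2 := (Subgroup.mem_normalizer_iff.1 (hn (inv_mem hγF)) _).1 (Subgroup.mem_sup_right h1)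
    rwa [inv_inv, show γ⁻¹ * (γ * β * γ⁻¹) * γ = β by group] at h2

theorem fam_ap [Finite S] [Fact p.Prime] (hS : IsPGroup p S) (hF : F.IsSaturated p) (hT : F.StronglyClosed T)
    (hhyp : F.hyperfocalSubgroup p ≤ T) : Fam F T p (AP F T p) where
  le := fun P hP => ap_le hT.1 (hP.1.trans hT.1)
  equiv := fun P Q f g a _ hf hg ha => inA_transport (fun hf _ hα => ap_transport hf hα) hf hg ha
  ind := fun P hP _ => by
    intro β hβ
    obtain ⟨t, ht, h1⟩ := mem_autInducedBy_iff.1 hβ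
    exact Subgroup.subset_closure (Or.inr ⟨P, fun x => x, t, FIso.refl F (hP.1.trans hT.1), ⟨ht, mem_normalizer_of_aut h1⟩, h1⟩)
  syl := fun P hP hPn => by
    rintro β ⟨hβ, hβ'⟩
    have hfull := automized_receptive_of_fullyNormalized hS hF hPn
    have hOn : autInducedBy T P ≤ Subgroup.normalizer
        (((pResidual p (F.autGroup P)).map (F.autGroup P).subtype : Subgroup (MulAut P)) : Set (MulAut P)) :=
      le_normalizer_of_conj fun α hα κ hκ => map_resid_conj (autInducedBy_le_autGroup (F := F) (hP.1.trans hT.1) hT.1 hα) hκ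
    have h1 := ap_le_of_fullyNormalized hS hF hT hPn hβ
    rw [sup_comm] at h1
    obtain ⟨τ, hτ, o, ho, h2⟩ := (mem_sup_of_normalizes hOn).1 h1
    obtain ⟨o', ho', rfl⟩ := ho
    have h3 : ((F.autGroup P).subtype o' : MulAut P) ∈ autInducedBy S P := by
      have h4 : (F.autGroup P).subtype o' = τ⁻¹ * β := by rw [← h2]; group
      rw [h4]
      exact mul_mem (inv_mem (autInducedBy_mono hT.1 hτ)) hβ'
    have h5 := hyper_aut hfull.1 hfull.2 hhyp ho' h3
    rw [← h2]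
    exact mul_mem hτ h5
  res := fun P Q a _ _ _ _ ha _ haP => ap_pp (ha.restrict (by assumption) haP)
  ext := fun P Q a _ _ _ _ ha _ _ => ap_pp ha

/-- `p'`-automorphisms of subgroups of `T` belong to the subsystem -/
theorem pp_sysAP [Finite S] [Fact p.Prime] (hS : IsPGroup p S) (hF : F.IsSaturated p) (hT : F.StronglyClosed T)
    (hhyp : F.hyperfocalSubgroup p ≤ T) : ∀ (n : ℕ) (P : Subgroup Ω) (f : Ω → Ω), Nat.card T - Nat.card P = n → P ≤ T →
      PP F p P f → FMap (sysA F T (AP F T p) hT.1) P f := by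
  have hA := fam_ap hS hF hT hhyp
  have hinv := sysA_inv hS hF hT hA
  have hTfin : Finite T := finite_of_le hT.1
  intro n
  induction n using Nat.strong_induction_on with
  | _ n ih =>
    intro P f hn hPT hf
    by_cases hTC : TC F T P
    · exact sysA_base hA hTC (ap_pp hf)
    · obtain ⟨P₀, k, hP₀, hk, -, -⟩ := exists_fullyNormalized_map hS hF (hPT.trans hT.1)
      have hP₀T : P₀ ≤ T := le_of_fiso hT hPT hk
      have hc : ¬ centralizerIn T P₀ ≤ P₀ := fun h => hTC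
        ((tc_of_fullyNormalized hS hF hT hP₀T hP₀ h).conj hT (isConj_symm hk.isConj))
      obtain ⟨k', hk', e1, e2⟩ := hk.symm
      have hf₀ := hf.transport hk hk' e1 e2
      obtain ⟨g, hg, hg1, -⟩ := exists_extension_centralizer (receptive_of_fullyNormalized hS hF hP₀) hf₀.1
      have hle : P₀ ⊔ centralizerIn T P₀ ≤ P₀ ⊔ centralizerIn S P₀ := sup_le_sup_left (inf_le_inf_right _ hT.1) _
      have hlt : P₀ < P₀ ⊔ centralizerIn T P₀ := lt_of_le_of_ne le_sup_left fun h => hc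
        ((le_sup_right : centralizerIn T P₀ ≤ P₀ ⊔ centralizerIn T P₀).trans h.ge)
      have hMT : P₀ ⊔ centralizerIn T P₀ ≤ T := sup_le hP₀T (centralizerIn_le T P₀)
      have hg' := hg.restrict hle
      have hgP : ∀ x ∈ P₀, g x ∈ P₀ := fun x hx => by rw [hg1 x hx]; exact hf₀.mem hx
      have hgi : FIso F P₀ P₀ g := hf₀.1.congr fun x hx => (hg1 x hx).symm
      have hgM : ∀ x ∈ P₀ ⊔ centralizerIn T P₀, g x ∈ P₀ ⊔ centralizerIn T P₀ := by
        refine map_sup_mem hg' (fun x hx => Subgroup.mem_sup_left (hgP x hx)) (fun x hx => Subgroup.mem_sup_right ?_)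
        have hxM : x ∈ P₀ ⊔ centralizerIn T P₀ := Subgroup.mem_sup_right hx
        refine ⟨StronglyClosed.map_mem F hT hg' hxM hx.1, hgi.map_centralizer hg' le_sup_left hxM hx.2⟩
      have hgiso : FIso F (P₀ ⊔ centralizerIn T P₀) (P₀ ⊔ centralizerIn T P₀) g :=
        hg'.fiso_of_card hg'.le hgM le_rfl
      obtain ⟨r, hr⟩ := exists_order hf₀.1
      -- a power of `g` of order prime to `p` agreeing with `g` on `P₀`
      obtain ⟨m, hm, hm'⟩ := hf₀.2
      obtain ⟨j, hj, hj1⟩ := exists_pp_power (X := P₀) hgiso hm fun x hx => by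
        rw [← iter_congr (b := g) (fun x hx => (hg1 x hx).symm) (fun x hx => hf₀.mem hx) hx]
        exact hm' x hx
      have hMfin : Finite ↥(P₀ ⊔ centralizerIn T P₀) := finite_of_le hMT
      have hc1 := card_lt hlt
      have hc2 := hk.card_eq
      have hc3 : Nat.card ↥(P₀ ⊔ centralizerIn T P₀) ≤ Nat.card T :=
        Nat.card_le_card_of_injective _ (Subgroup.inclusion_injective hMT)
      have h1 := ih _ (by omega) (P₀ ⊔ centralizerIn T P₀) _ rfl hMT hj
      have h2 : FMap (sysA F T (AP F T p) hT.1) P₀ (fun x => k (f (k' x))) :=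
        (h1.restrict le_sup_left).congr fun x hx => by rw [hj1 x hx, hg1 x hx]
      have h3 := (FusionFrat.Inv.strong hinv).transport hP₀T hk' e2 (⟨h2, hf₀.1.2⟩)
      refine h3.congr fun x hx => ?_
      show k' (k (f (k' (k x)))) = f x
      rw [e1 x hx, e1 _ (hf.mem hx)]

theorem sysAP_index [Finite S] [Fact p.Prime] (hS : IsPGroup p S) (hF : F.IsSaturated p) (hT : F.StronglyClosed T)
    (hhyp : F.hyperfocalSubgroup p ≤ T) : (sysA F T (AP F T p) hT.1).HasPPowerIndexIn F p := by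
  refine ⟨sysA_sub, hhyp, fun P hP => ?_⟩
  rintro _ ⟨α, hα, rfl⟩
  have h1 : pResidual p (F.autGroup P) ≤ ((sysA F T (AP F T p) hT.1).autGroup P).subgroupOf (F.autGroup P) := by
    unfold pResidual
    rw [Subgroup.closure_le]
    intro β hβ
    have ho : (orderOf (β : MulAut P)).Coprime p := by rw [Subgroup.orderOf_coe]; exact hβ
    rw [SetLike.mem_coe, Subgroup.mem_subgroupOf]
    exact (FMap_autFun_iff hP).1 (pp_sysAP hS hF hT hhyp _ P _ rfl hP (pp_of_aut (hP.trans hT.1) β.2 ho))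
  exact h1 hα

theorem stronglyClosed_of_hyp_le [Finite S] [Fact p.Prime] (hS : IsPGroup p S) (hF : F.IsSaturated p)
    (hTS : T ≤ S) (hn : (T.subgroupOf S).Normal) (hhyp : F.hyperfocalSubgroup p ≤ T) : F.StronglyClosed T := by
  rw [stronglyClosed_iff]
  refine ⟨hTS, fun P f hP hf x hx => ?_⟩
  obtain ⟨s, hs, h1⟩ := Cfsg.Agent.Lib.FusionHyper.exists_conj_mod_hyp hS hF P f hf
  have h2 := hhyp (h1 x hx)
  have h3 : s * x * s⁻¹ ∈ T := by
    have := hn.conj_mem ⟨x, hTS (hP hx)⟩ (hP hx) ⟨s, hs⟩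
    exact this
  have h4 := T.mul_mem h3 h2
  rwa [mul_inv_cancel_left] at h4

theorem exists_index [Fact p.Prime] : ∀ (n : ℕ) {S T : Subgroup Ω} [Finite S] (_ : IsPGroup p S) (F : FusionSystem S)
    (_ : F.IsSaturated p), T ≤ S → F.hyperfocalSubgroup p ≤ T → Nat.card S = n →
    ∃ E : FusionSystem T, E.IsSaturated p ∧ E.HasPPowerIndexIn F p := by
  intro n
  induction n using Nat.strong_induction_on with
  | _ n ih =>
    intro S T _ hS F hF hTS hhyp hn
    rcases eq_or_lt_of_le hTS with h | h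
    · subst h
      exact ⟨F, hF, Cfsg.Agent.Lib.FusionPPower.index_self F⟩
    · have hnil : Group.IsNilpotent S := hS.isNilpotent
      have hT' : T.subgroupOf S ≠ ⊤ := by
        intro h'
        exact h.not_ge (Subgroup.subgroupOf_eq_top.1 h')
      obtain ⟨M', hM', hM'T⟩ := (eq_top_or_exists_le_coatom (T.subgroupOf S)).resolve_left hT'
      have hMn : M'.Normal := Subgroup.NormalizerCondition.normal_of_coatom M' Group.normalizerCondition_of_isNilpotent hM'
      obtain ⟨M, hM⟩ : ∃ M, M = M'.map S.subtype := ⟨_, rfl⟩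
      have hMS : M ≤ S := hM ▸ Subgroup.map_subtype_le M'
      have hMsub : M.subgroupOf S = M' := by
        rw [hM]; exact Subgroup.comap_map_eq_self_of_injective S.subtype_injective _
      have hTM : T ≤ M := by
        intro t ht
        have : (⟨t, hTS ht⟩ : S) ∈ M' := hM'T ht
        rw [← hMsub] at this
        exact this
      have hMn' : (M.subgroupOf S).Normal := by rw [hMsub]; exact hMn
      have hcl := stronglyClosed_of_hyp_le hS hF hMS hMn' (hhyp.trans hTM)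
      have hA := fam_ap hS hF hcl (hhyp.trans hTM)
      have hidx := sysAP_index hS hF hcl (hhyp.trans hTM)
      have hsat := sysA_saturated hS hF hcl hA
      have hMfin : Finite M := finite_of_le hMS
      have hlt : M < S := by
        refine lt_of_le_of_ne hMS fun h' => hM'.1 ?_
        rw [← hMsub, h', Subgroup.subgroupOf_self]
      obtain ⟨E, hE, hEi⟩ := ih (Nat.card M) (hn ▸ card_lt hlt) (isPGroup_of_le hS hMS)
        (sysA F M (AP F M p) hcl.1) hsat hTM (by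
          rw [Cfsg.Agent.Lib.FusionPPower.hyperfocal_eq_of_index hS hidx]; exact hhyp) rfl
      exact ⟨E, hE, Cfsg.Agent.Lib.FusionPPower.index_trans hS hidx hEi⟩

theorem sysAP_normal [Finite S] [Fact p.Prime] (hS : IsPGroup p S) (hF : F.IsSaturated p) (hT : F.StronglyClosed T)
    (hhyp : F.hyperfocalSubgroup p ≤ T) : (sysA F T (AP F T p) hT.1).IsNormalIn F p := by
  have hA := fam_ap hS hF hT hhyp
  have hinv := sysA_inv hS hF hT hA
  refine isNormalIn_iff.2 ⟨sysA_saturated hS hF hT hA, hF, hinv, fun a ha => ?_⟩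
  have hTn := fullyNormalized_of_stronglyClosed (F := F) hT
  have hTC : TC F T T := ⟨le_rfl, fun R hR => by
    obtain ⟨k, hk⟩ := isConj_iff_fiso.1 hR
    have hRT : R ≤ T := le_of_fiso hT le_rfl hk
    have hTfin : Finite T := finite_of_le hT.1
    have : R = T := Subgroup.eq_of_le_of_card_ge hRT hk.card_eq.le
    rw [this]; exact centralizerIn_le T T⟩
  have hextZ : ∀ α ∈ AP F T p T, ExtZ F T (autFun α) := by
    have hext1 : ∀ β γ : MulAut T, ExtZ F T (autFun β) → ExtZ F T (autFun γ) → ExtZ F T (autFun (β * γ)) := by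
      intro β γ h1 h2
      exact extZ_congr (extZ_comp (fun x hx => autFun_mem γ hx) (fun x hx => autFun_mem β hx) h2 h1)
        fun x hx => (autFun_mul β γ hx).symm
    have hle : AP F T p T ≤ F.autGroup T := ap_le hT.1 hT.1
    intro α hα
    have : α ∈ F.autGroup T ∧ ExtZ F T (autFun α) := by
      unfold AP at hα
      refine Subgroup.closure_induction (p := fun α _ => α ∈ F.autGroup T ∧ ExtZ F T (autFun α)) ?_ ?_ ?_ ?_ hα
      · rintro β (⟨h, ho⟩ | ⟨Q, k, t, hk, ht, h⟩)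
        · refine ⟨h, ?_⟩
          have hpp := pp_of_aut hT.1 h ho
          obtain ⟨b, hb, hb1, hb2⟩ := exists_aut_ext hS hF hT hpp.1
          obtain ⟨m, hm, hm'⟩ := hpp.2
          obtain ⟨j, hj, hj1⟩ := exists_pp_power (X := T) hb hm fun x hx => by
            rw [← iter_congr (b := b) (fun x hx => (hb1 x hx).symm) (fun x hx => hpp.mem hx) hx]
            exact hm' x hx
          refine ⟨_, hj.map, fun x hx => by rw [hj1 x hx, hb1 x hx], fun c hc => ?_⟩
          exact hhyp (pp_comm_mem_hyp hj (Subgroup.mem_sup_right hc))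
        · have hQT : Q ≤ T := le_of_fiso hT le_rfl hk
          have hTfin : Finite T := finite_of_le hT.1
          have hQ : Q = T := Subgroup.eq_of_le_of_card_ge hQT hk.card_eq.le
          rw [hQ] at hk ht
          obtain ⟨k', hk', e1, e2⟩ := hk.symm
          have h1 : ∀ x ∈ T, autFun β x = k' t * x * (k' t)⁻¹ := by
            intro x hx
            rw [autFun_of_mem β hx, ← e1 _ (β ⟨x, hx⟩).2, h ⟨x, hx⟩, hk'.1.map_conj ht.1 (hk.mem hx), e1 x hx]
          refine ⟨?_, extZ_congr (extZ_conj hT hTC ⟨hk'.mem ht.1, Subgroup.le_normalizer (hk'.mem ht.1)⟩)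
            fun x hx => (h1 x hx).symm⟩
          exact hle (Subgroup.subset_closure (Or.inr ⟨T, k, t, hk, ht, h⟩))
      · exact ⟨one_mem _, extZ_congr (f := fun x => x) ⟨fun x => x, fmap_id F (sup_le hT.1 (centralizerIn_le S T)),
          fun _ _ => rfl, fun c _ => by simp [T.one_mem]⟩ fun x hx => (autFun_one hx).symm⟩
      · rintro β γ _ _ ⟨h1, h2⟩ ⟨h3, h4⟩
        exact ⟨mul_mem h1 h3, hext1 β γ h2 h4⟩
      · rintro β _ ⟨h1, h2⟩
        exact ⟨inv_mem h1, extZ_inv ((fiso_autFun_iff hT.1).2 h1) ((fiso_autFun_iff hT.1).2 (inv_mem h1))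
          (fun x hx => autFun_inv_apply β hx) h2⟩
    exact this.2
  obtain ⟨α, hα, h1⟩ := (inA_iff hS hF hT hA hTC).2 ha
  obtain ⟨b, hb, hb1, hb2⟩ := extZ_congr (hextZ α hα) fun x hx => (h1 x hx).symm
  have haF := sub_fiso hinv.sub ha
  refine ⟨b, extZ_fiso (fun x hx => haF.mem hx) hb hb1 hb2, hb1, fun c hc => ⟨hb2 c hc, ?_⟩⟩
  have h2 : b c ∈ Subgroup.centralizer (T : Set Ω) := by
    have h3 : FIso F T T b := haF.congr fun x hx => (hb1 x hx).symm
    exact h3.map_centralizer hb le_sup_left (Subgroup.mem_sup_right hc) hc.2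
  exact mul_mem (inv_mem hc.2) h2

end Cfsg.Agent.Lib.FusionPIdx
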