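import Mathlib
import Cfsg.Agent.Lib.FusionLemD
import Cfsg.Agent.Lib.FusionPIdx
import Cfsg.Agent.Lib.FusionCenNormal

/-!
The meet of (weakly) normal subsystems.
-/

set_option autoImplicit false
open Cfsg Cfsg.FusionSystem Cfsg.Agent.Lib.FusionBasic Cfsg.Agent.Lib.FusionSat Cfsg.Agent.Lib.FusionNormal
  Cfsg.Agent.Lib.FusionInvar Cfsg.Agent.Lib.FusionTools Cfsg.Agent.Lib.FusionPP Cfsg.Agent.Lib.FusionStrong
  Cfsg.Agent.Lib.FusionSys Cfsg.Agent.Lib.FusionFrat Cfsg.Agent.Lib.FusionPrime Cfsg.Agent.Lib.FusionTC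
  Cfsg.Agent.Lib.FusionClosed Cfsg.Agent.Lib.FusionStab Cfsg.Agent.Lib.FusionZeta Cfsg.Agent.Lib.FusionCenClosed
  Cfsg.Agent.Lib.FusionLemD
open Cfsg.Agent.Lib.FusionThmA (InA inA_id inA_aut Gn sysA sysA_sub tc_of_fullyNormalized mem_of_normalizes pow_mapsTo
  inv_mapsTo trivial_move trivial_fiso GoodTo I1 I2 aut_norm map_norm norm_fiso exists_e)
open Cfsg.Agent.Lib.FusionPIdx (le_normalizer_sup le_normalizer_of_conj map_resid_conj mem_map_resid)

namespace Cfsg.Agent.Lib.FusionMeet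

variable {Ω : Type*} [Group Ω] {S T : Subgroup Ω} {F : FusionSystem S} {E : FusionSystem T}
  {P Q R U M X Y Z P₁ : Subgroup Ω} {a b f g k θ κ ψ : Ω → Ω} {p : ℕ}
  {ι : Type*} {T' : ι → Subgroup Ω} {E' : ∀ i, FusionSystem (T' i)}

/-- `b₀` extends to `P C_S(P)` with commutators in `P`, and the restrictions to `P C_{T_i}(P)` lie in `E_i`. -/
def Gx (F : FusionSystem S) (E' : ∀ i, FusionSystem (T' i)) (P : Subgroup Ω) (b₀ : Ω → Ω) : Prop :=
  ∃ b, FMap F (P ⊔ centralizerIn S P) b ∧ (∀ x ∈ P, b x = b₀ x) ∧ (∀ c ∈ centralizerIn S P, c⁻¹ * b c ∈ P) ∧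
    ∀ i, FMap (E' i) (P ⊔ centralizerIn (T' i) P) b

theorem Gx.congr (h : Gx F E' P f) (hfg : ∀ x ∈ P, f x = g x) : Gx F E' P g := by
  obtain ⟨b, h1, h2, h3, h4⟩ := h
  exact ⟨b, h1, fun x hx => by rw [h2 x hx, hfg x hx], h3, h4⟩

theorem cent_le (i : ι) (hT' : ∀ i, T' i ≤ S) : P ⊔ centralizerIn (T' i) P ≤ P ⊔ centralizerIn S P :=
  sup_le_sup_left (inf_le_inf_right _ (hT' i)) P

/-- mapping properties of a good extension -/
theorem gx_data [Finite S] (hE : ∀ i, Inv (E' i) F) (hPT : ∀ i, P ≤ T' i) (hf : ∀ x ∈ P, f x ∈ P)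
    (h1 : FMap F (P ⊔ centralizerIn S P) b) (h2 : ∀ x ∈ P, b x = f x) (h3 : ∀ c ∈ centralizerIn S P, c⁻¹ * b c ∈ P)
    (h4 : ∀ i, FMap (E' i) (P ⊔ centralizerIn (T' i) P) b) :
    FIso F (P ⊔ centralizerIn S P) (P ⊔ centralizerIn S P) b ∧ FIso F P P b ∧
      FIso F (centralizerIn S P) (centralizerIn S P) b ∧
      ∀ i, FIso (E' i) (P ⊔ centralizerIn (T' i) P) (P ⊔ centralizerIn (T' i) P) b := by
  have hP : FIso F P P b := fiso_restrict h1 le_sup_left fun x hx => by rw [h2 x hx]; exact hf x hx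
  have hC : FIso F (centralizerIn S P) (centralizerIn S P) b := fiso_restrict h1 le_sup_right fun c hc =>
    ⟨h1.map_mem (Subgroup.mem_sup_right hc), hP.map_centralizer h1 le_sup_left (Subgroup.mem_sup_right hc) hc.2⟩
  refine ⟨extZ_fiso hf h1 h2 h3, hP, hC, fun i => ?_⟩
  have hTi := (hE i).closed
  have hTfin : Finite (T' i) := finite_of_le hTi.1
  refine (h4 i).fiso_of_card (h4 i).le (map_sup_mem (h4 i) (fun x hx => Subgroup.mem_sup_left (hP.mem hx)) (fun c hc =>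
    Subgroup.mem_sup_right ⟨(h4 i).map_mem (Subgroup.mem_sup_right hc), (hC.mem ⟨hTi.1 hc.1, hc.2⟩).2⟩)) le_rfl

theorem gx_comp [Finite S] (hE : ∀ i, Inv (E' i) F) (hPT : ∀ i, P ≤ T' i) (hf : ∀ x ∈ P, f x ∈ P) (hg : ∀ x ∈ P, g x ∈ P)
    (h : Gx F E' P f) (h' : Gx F E' P g) : Gx F E' P (fun x => g (f x)) := by
  obtain ⟨b, h1, h2, h3, h4⟩ := h
  obtain ⟨c, k1, k2, k3, k4⟩ := h'
  obtain ⟨hb, hbP, hbC, hbE⟩ := gx_data hE hPT hf h1 h2 h3 h4
  refine ⟨fun x => c (b x), h1.comp k1 fun x hx => hb.mem hx, fun x hx => ?_, fun x hx => ?_, fun i =>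
    (h4 i).comp (k4 i) fun x hx => (hbE i).mem hx⟩
  · show c (b x) = g (f x)
    rw [h2 x hx, k2 _ (hf x hx)]
  · have e : x⁻¹ * c (b x) = (x⁻¹ * b x) * ((b x)⁻¹ * c (b x)) := by group
    show x⁻¹ * c (b x) ∈ P
    rw [e]
    exact P.mul_mem (h3 x hx) (k3 _ (hbC.mem hx))

theorem gx_inv [Finite S] (hE : ∀ i, Inv (E' i) F) (hPT : ∀ i, P ≤ T' i) (hf : FIso F P P f)
    (hgf : ∀ x ∈ P, g (f x) = x) (h : Gx F E' P f) : Gx F E' P g := by
  obtain ⟨b, h1, h2, h3, h4⟩ := h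
  obtain ⟨hb, hbP, hbC, hbE⟩ := gx_data hE hPT (fun x hx => hf.mem hx) h1 h2 h3 h4
  obtain ⟨b', hb', e1, e2⟩ := hb.symm
  refine ⟨b', hb'.1, fun x hx => ?_, fun c hc => ?_, fun i => ?_⟩
  · obtain ⟨y, hy, rfl⟩ := hf.mem_iff.1 hx
    rw [hgf y hy, ← h2 y hy, e1 y (Subgroup.mem_sup_left hy)]
  · obtain ⟨d, hd, rfl⟩ := hbC.mem_iff.1 hc
    rw [e1 d (Subgroup.mem_sup_right hd)]
    have := P.inv_mem (h3 d hd)
    rwa [mul_inv_rev, inv_inv] at this
  · obtain ⟨c, hc, c1, c2⟩ := (hbE i).symm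
    refine hc.1.congr fun y hy => ?_
    obtain ⟨x, hx, rfl⟩ := (hbE i).mem_iff.1 hy
    rw [c1 x hx, e1 x (cent_le i (fun i => (hE i).closed.1) hx)]

/-- transport along an isomorphism of `P C_S(P)` onto `Q C_S(Q)` -/
theorem gx_transport [Finite S] (hE : ∀ i, Inv (E' i) F) (hPT : ∀ i, P ≤ T' i) (hf : ∀ x ∈ P, f x ∈ P)
    (hk : FIso F P Q k) (hkM : FIso F (P ⊔ centralizerIn S P) (Q ⊔ centralizerIn S Q) k)
    (hgk : ∀ x ∈ P, g (k x) = x) (h : Gx F E' P f) : Gx F E' Q (fun y => k (f (g y))) := by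
  obtain ⟨b, h1, h2, h3, h4⟩ := h
  obtain ⟨hb, hbP, hbC, hbE⟩ := gx_data hE hPT hf h1 h2 h3 h4
  obtain ⟨k', hk', e1, e2⟩ := hkM.symm
  have hk'Q : FIso F Q P k' := by
    refine ⟨hk'.1.restrict le_sup_left, fun y => ⟨fun hy => ⟨k y, hk.mem hy, e1 y (Subgroup.mem_sup_left hy)⟩, ?_⟩⟩
    rintro ⟨z, hz, rfl⟩
    obtain ⟨x, hx, rfl⟩ := hk.mem_iff.1 hz
    rw [e1 x (Subgroup.mem_sup_left hx)]; exact hx
  have hkC : ∀ c ∈ centralizerIn S P, k c ∈ centralizerIn S Q := fun c hc =>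
    ⟨hkM.1.map_mem (Subgroup.mem_sup_right hc), hk.map_centralizer hkM.1 le_sup_left (Subgroup.mem_sup_right hc) hc.2⟩
  have hk'C : ∀ c ∈ centralizerIn S Q, k' c ∈ centralizerIn S P := fun c hc =>
    ⟨hk'.1.map_mem (Subgroup.mem_sup_right hc), hk'Q.map_centralizer hk'.1 le_sup_left (Subgroup.mem_sup_right hc) hc.2⟩
  refine ⟨fun y => k (b (k' y)), (hk'.1.comp h1 fun y hy => hk'.mem hy).comp hkM.1 fun y hy => hb.mem (hk'.mem hy),
    fun y hy => ?_, fun c hc => ?_, fun i => ?_⟩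
  · obtain ⟨x, hx, rfl⟩ := hk.mem_iff.1 hy
    show k (b (k' (k x))) = k (f (g (k x)))
    rw [e1 x (Subgroup.mem_sup_left hx), hgk x hx, h2 x hx]
  · show c⁻¹ * k (b (k' c)) ∈ Q
    have hc' := hk'C c hc
    have hm : k' c ∈ P ⊔ centralizerIn S P := Subgroup.mem_sup_right hc'
    have h5 : k ((k' c)⁻¹ * b (k' c)) = c⁻¹ * k (b (k' c)) := by
      rw [hkM.1.map_mul (Subgroup.inv_mem _ hm) (hb.mem hm), hkM.1.map_inv hm, e2 c (Subgroup.mem_sup_right hc)]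
    rw [← h5]
    exact hk.mem (h3 _ hc')
  · have hTi := (hE i).closed
    have hle : P ⊔ centralizerIn (T' i) P ≤ P ⊔ centralizerIn S P := cent_le i fun i => (hE i).closed.1
    have hPi := hPT i
    have hMT : P ⊔ centralizerIn (T' i) P ≤ T' i := sup_le hPi (centralizerIn_le _ P)
    have hQT : Q ≤ T' i := le_of_fiso hTi hPi hk
    have hleQ : Q ⊔ centralizerIn (T' i) Q ≤ Q ⊔ centralizerIn S Q := cent_le i fun i => (hE i).closed.1
    have hMi : FIso F (P ⊔ centralizerIn (T' i) P) (Q ⊔ centralizerIn (T' i) Q) k := by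
      refine ⟨hkM.1.restrict hle, fun y => ⟨fun hy => ?_, ?_⟩⟩
      · have hm : k' y ∈ P ⊔ centralizerIn (T' i) P := map_sup_mem (hk'.1.restrict hleQ)
          (fun x hx => Subgroup.mem_sup_left (hk'Q.mem hx)) (fun c hc => by
            have hcS : c ∈ centralizerIn S Q := ⟨hTi.1 hc.1, hc.2⟩
            exact Subgroup.mem_sup_right ⟨StronglyClosed.map_mem F hTi hk'.1 (Subgroup.mem_sup_right hcS) hc.1,
              (hk'C c hcS).2⟩) y hy
        exact ⟨k' y, hm, e2 y (hleQ hy)⟩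
      · rintro ⟨x, hx, rfl⟩
        refine map_sup_mem (hkM.1.restrict hle) (fun x hx => Subgroup.mem_sup_left (hk.mem hx)) (fun c hc => ?_) x hx
        have hcS : c ∈ centralizerIn S P := ⟨hTi.1 hc.1, hc.2⟩
        exact Subgroup.mem_sup_right ⟨StronglyClosed.map_mem F hTi hkM.1 (Subgroup.mem_sup_right hcS) hc.1, (hkC c hcS).2⟩
    exact (FusionFrat.Inv.strong (hE i)).transport hMT hMi (fun x hx => e1 x (hle hx)) (hbE i)

/-- isomorphisms between fully centralized subgroups extend -/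
theorem fc_ext [Finite S] [Fact p.Prime] (hS : IsPGroup p S) (hF : F.IsSaturated p) (hP : F.IsFullyCentralized P)
    (hQ : F.IsFullyCentralized Q) (hf : FIso F P Q f) :
    ∃ k, FIso F (P ⊔ centralizerIn S P) (Q ⊔ centralizerIn S Q) k ∧ FIso F P Q k ∧ ∀ x ∈ P, k x = f x := by
  obtain ⟨k, hk, h1, h2⟩ := exists_extension_centralizer (receptive_of_fullyCentralized hS hF hQ) hf
  have hkPQ : FIso F P Q k := hf.congr fun x hx => (h1 x hx).symm
  have hCfin : Finite (centralizerIn S Q) := finite_of_le (centralizerIn_le S Q)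
  have hkC : FIso F (centralizerIn S P) (centralizerIn S Q) k :=
    (hk.restrict le_sup_right).fiso_of_card (centralizerIn_le S Q) (fun c hc => h2 c hc) (hP.2 Q hf.isConj)
  refine ⟨k, ⟨hk, fun y => ⟨fun hy => ?_, ?_⟩⟩, hkPQ, h1⟩
  · obtain ⟨W, hW⟩ := hk.exists_iso
    have hle : Q ⊔ centralizerIn S Q ≤ W := sup_le (fun y hy => by
      obtain ⟨x, hx, rfl⟩ := hkPQ.mem_iff.1 hy
      exact hW.mem (Subgroup.mem_sup_left hx)) (fun y hy => by
      obtain ⟨x, hx, rfl⟩ := hkC.mem_iff.1 hy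
      exact hW.mem (Subgroup.mem_sup_right hx))
    exact hW.mem_iff.1 (hle hy)
  · rintro ⟨x, hx, rfl⟩
    exact map_sup_mem hk (fun x hx => Subgroup.mem_sup_left (hkPQ.mem hx)) (fun c hc => Subgroup.mem_sup_right
      (hkC.mem hc)) x hx

/-- The family of the meet. -/
def AM (F : FusionSystem S) (E' : ∀ i, FusionSystem (T' i)) (T : Subgroup Ω) (p : ℕ) (P : Subgroup Ω) :
    Subgroup (MulAut P) :=
  Subgroup.closure {α | (α ∈ F.autGroup P ∧ (orderOf α).Coprime p ∧ ∃ (Q : Subgroup Ω) (k b : Ω → Ω),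
      F.IsFullyCentralized Q ∧ FIso F P Q k ∧ Gx F E' Q b ∧ ∀ x : P, b (k x) = k (α x)) ∨
    ∃ (Q : Subgroup Ω) (k : Ω → Ω) (t : Ω), FIso F P Q k ∧ t ∈ normalizerIn T Q ∧ ∀ x : P, k (α x) = t * k x * t⁻¹}

theorem am_le (hT : T ≤ S) (hP : P ≤ S) : AM F E' T p P ≤ F.autGroup P := by
  unfold AM
  rw [Subgroup.closure_le]
  rintro α (⟨h, -⟩ | ⟨Q, k, t, hk, ht, h⟩)
  · exact h
  · exact Cfsg.Agent.Lib.FusionPIdx.ap_le (F := F) (p := p) hT hP (Subgroup.subset_closure (Or.inr ⟨Q, k, t, hk, ht, h⟩))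

theorem am_transport (hf : FIso F P Q f) {α : MulAut P} (hα : α ∈ AM F E' T p P) : hf.autEquiv α ∈ AM F E' T p Q := by
  have h1 : (AM F E' T p P).map hf.autEquiv.toMonoidHom ≤ AM F E' T p Q := by
    unfold AM
    rw [MonoidHom.map_closure, Subgroup.closure_le]
    obtain ⟨f', hf', e1, e2⟩ := hf.symm
    rintro _ ⟨α, (⟨h, ho, R, k, b, hR, hk, hb, h⟩ | ⟨R, k, t, hk, ht, h⟩), rfl⟩
    · refine Subgroup.subset_closure (Or.inl ⟨?_, ?_, R, fun x => k (f' x), b, hR, hf'.trans hk, hb, fun y => ?_⟩)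
      · rw [← hf.map_autGroup]; exact ⟨α, by assumption, rfl⟩
      · show (orderOf (hf.autEquiv α)).Coprime p
        rw [MulEquiv.orderOf_eq]; exact ho
      · obtain ⟨x, rfl⟩ := hf.equiv.surjective y
        show b (k (f' (hf.equiv x : Q))) = k (f' (hf.autEquiv α (hf.equiv x) : Q))
        rw [FIso.autEquiv_apply_apply, FIso.equiv_apply, FIso.equiv_apply, e1 _ (α x).2, e1 _ x.2, h]
    · refine Subgroup.subset_closure (Or.inr ⟨R, fun x => k (f' x), t, hf'.trans hk, ht, fun y => ?_⟩)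
      obtain ⟨x, rfl⟩ := hf.equiv.surjective y
      show k (f' (hf.autEquiv α (hf.equiv x) : Q)) = t * k (f' (hf.equiv x : Q)) * t⁻¹
      rw [FIso.autEquiv_apply_apply, FIso.equiv_apply, FIso.equiv_apply, e1 _ (α x).2, e1 _ x.2, h]
  exact h1 ⟨α, hα, rfl⟩

theorem inA_transport {A : ∀ P : Subgroup Ω, Subgroup (MulAut P)} (hA : ∀ {P Q : Subgroup Ω} {f : Ω → Ω}
    (hf : FIso F P Q f) {α : MulAut P}, α ∈ A P → hf.autEquiv α ∈ A Q) (hf : FIso F P Q f)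
    (hg : ∀ x ∈ P, g (f x) = x) (ha : InA A P a) : InA A Q (fun y => f (a (g y))) := by
  obtain ⟨α, hα, h1⟩ := ha
  refine ⟨hf.autEquiv α, hA hf hα, fun y hy => ?_⟩
  obtain ⟨x, hx, rfl⟩ := hf.mem_iff.1 hy
  show f (a (g (f x))) = _
  rw [hg x hx, h1 x hx, autFun_of_mem _ hy, autFun_of_mem _ hx]
  exact (hf.autEquiv_coe α ⟨x, hx⟩).symm

/-! ### Residuals -/

theorem map_resid_eq {M : Type*} [Group M] (X : Subgroup M) :
    (pResidual p X).map X.subtype = Subgroup.closure {κ | κ ∈ X ∧ (orderOf κ).Coprime p} := by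
  unfold pResidual
  rw [MonoidHom.map_closure]
  congr 1
  ext κ
  constructor
  · rintro ⟨κ', h, rfl⟩
    exact ⟨κ'.2, by
      show (orderOf ((κ' : X) : M)).Coprime p
      rw [Subgroup.orderOf_coe]; exact h⟩
  · rintro ⟨h1, h2⟩
    refine ⟨⟨κ, h1⟩, ?_, rfl⟩
    show (orderOf (⟨κ, h1⟩ : X)).Coprime p
    rw [← Subgroup.orderOf_coe]; exact h2

theorem resid_conj {M : Type*} [Group M] {X : Subgroup M} {α : M} (h : ∀ κ ∈ X, α * κ * α⁻¹ ∈ X) {κ : M}
    (hκ : κ ∈ (pResidual p X).map X.subtype) : α * κ * α⁻¹ ∈ (pResidual p X).map X.subtype := by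
  rw [map_resid_eq] at hκ ⊢
  have h1 : Subgroup.closure {κ | κ ∈ X ∧ (orderOf κ).Coprime p} ≤
      (Subgroup.closure {κ | κ ∈ X ∧ (orderOf κ).Coprime p}).comap (MulAut.conj α).toMonoidHom := by
    rw [Subgroup.closure_le]
    rintro κ ⟨h1, h2⟩
    refine Subgroup.subset_closure ⟨h κ h1, ?_⟩
    have h3 : orderOf (MulAut.conj α κ) = orderOf κ := MulEquiv.orderOf_eq (MulAut.conj α) κ
    rw [← h3] at h2
    exact h2
  exact h1 hκ

theorem autS_norm_T (hT : F.StronglyClosed T) : autInducedBy S P ≤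
    Subgroup.normalizer ((autInducedBy T P : Subgroup (MulAut P)) : Set (MulAut P)) := by
  refine le_normalizer_of_conj fun α hα κ hκ => ?_
  obtain ⟨s, hs, h1⟩ := mem_autInducedBy_iff.1 hα
  obtain ⟨t, ht, h2⟩ := mem_autInducedBy_iff.1 hκ
  refine mem_autInducedBy_iff.2 ⟨s * t * s⁻¹, (Subgroup.mem_normalizer_iff.1 (normalizes_of_stronglyClosed hT hs) t).1 ht,
    fun x => ?_⟩
  show ((α (κ (α⁻¹ x)) : P) : Ω) = _
  have h3 := h1 (α⁻¹ x)
  rw [MulAut.apply_inv_self] at h3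
  have h4 : ((α⁻¹ x : P) : Ω) = s⁻¹ * x * s := by rw [h3]; group
  rw [h1, h2, h4]
  group

theorem resid_sup_normal [Finite S] [Fact p.Prime] (hS : IsPGroup p S) (hF : F.IsSaturated p) (hT : F.StronglyClosed T)
    (hPT : P ≤ T) (hP : F.IsFullyNormalized P) {X : Subgroup (MulAut P)} (hX : X ≤ F.autGroup P)
    (hXn : ∀ α ∈ F.autGroup P, ∀ κ ∈ X, α * κ * α⁻¹ ∈ X) (hTX : autInducedBy T P ≤ X) :
    F.autGroup P ≤ Subgroup.normalizer (((pResidual p X).map X.subtype ⊔ autInducedBy T P : Subgroup (MulAut P)) :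
      Set (MulAut P)) := by
  have hPa := automized_receptive_of_fullyNormalized hS hF hP
  obtain ⟨B, hB⟩ : ∃ B, B = (pResidual p X).map X.subtype ⊔ autInducedBy T P := ⟨_, rfl⟩
  rw [← hB]
  have hSB : autInducedBy S P ≤ Subgroup.normalizer (B : Set (MulAut P)) := by
    rw [hB]
    refine le_normalizer_sup (le_normalizer_of_conj fun α hα κ hκ => resid_conj (hXn α ?_) hκ) (autS_norm_T hT)
    exact autInducedBy_le_autGroup hP.1 le_rfl hα
  have hXB : X ≤ Subgroup.normalizer (B : Set (MulAut P)) := by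
    refine normal_induction hPa.1 hX hXn (inf_le_right.trans hSB) fun κ hκ hpp => ?_
    refine Subgroup.le_normalizer ?_
    rw [hB]
    refine Subgroup.mem_sup_left (mem_map_resid hκ ?_)
    have h1 : (hpp.1.equiv : MulAut P) = κ := by
      ext x
      show autFun κ x = κ x
      rw [autFun_coe]
    rw [← h1]; exact hpp.order
  intro φ hφ
  have hφi := (fiso_autFun_iff hP.1).2 hφ
  obtain ⟨g, α, hα, hg, hgP, h1⟩ := exists_frattini_ext hS hPa.1 hPa.2 X hX hXn (le_normalizerIn hPT)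
    (inf_le_inf_right _ hT.1) (fun β hβ => hTX (autInducedBy_mono (normalizerIn_le T P) hβ)) hφi
  obtain ⟨γ, hγ⟩ : ∃ γ : MulAut P, γ = hgP.equiv := ⟨_, rfl⟩
  have hγF : γ ∈ F.autGroup P := hγ ▸ hgP.equiv_mem_autGroup
  have hγ1 : ∀ x ∈ P, autFun γ x = g x := fun x hx => by rw [autFun_of_mem _ hx, hγ]; rfl
  have he : φ = γ * α := by
    ext x
    rw [← autFun_coe, ← autFun_coe, autFun_mul _ _ x.2, h1 x x.2, hγ1 _ (autFun_mem α x.2)]
  rw [he]
  refine Subgroup.mul_mem _ ?_ (hXB hα)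
  -- `γ` normalizes `B`
  have hγB : ∀ δ ∈ ({γ, γ⁻¹} : Set (MulAut P)), ∀ κ ∈ B, δ * κ * δ⁻¹ ∈ B := by
    have hTT : ∀ δ ∈ ({γ, γ⁻¹} : Set (MulAut P)), ∀ κ ∈ autInducedBy T P, δ * κ * δ⁻¹ ∈ autInducedBy T P := by
      have hgN : FIso F (normalizerIn T P) (normalizerIn T P) g :=
        hg.fiso_of_card ((normalizerIn_le T P).trans hT.1) (fun x hx =>
          ⟨StronglyClosed.map_mem F hT hg hx hx.1, hgP.map_normalizer hg (le_normalizerIn hPT) hx hx.2⟩) le_rfl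
      obtain ⟨g', hg', e1, e2⟩ := hgN.symm
      have hPN := le_normalizerIn (S := T) hPT
      rintro δ (rfl | rfl) κ hκ
      · obtain ⟨t, ht, h2⟩ := mem_autInducedBy_iff.1 hκ
        have htN : t ∈ normalizerIn T P := ⟨ht, mem_normalizer_of_aut h2⟩
        refine mem_autInducedBy_iff.2 ⟨g t, (hgN.mem htN).1, fun x => ?_⟩
        obtain ⟨y, rfl⟩ := δ.surjective x
        show ((δ (κ (δ⁻¹ (δ y))) : P) : Ω) = _
        have hγx : ∀ z : P, ((δ z : P) : Ω) = g z := fun z => by rw [← autFun_coe, hγ1 _ z.2]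
        rw [MulAut.inv_apply_self, hγx, hγx, h2, hg.map_conj htN (hPN y.2)]
      · obtain ⟨t, ht, h2⟩ := mem_autInducedBy_iff.1 hκ
        have htN : t ∈ normalizerIn T P := ⟨ht, mem_normalizer_of_aut h2⟩
        refine mem_autInducedBy_iff.2 ⟨g' t, (hg'.mem htN).1, fun x => ?_⟩
        have hγx : ∀ z : P, ((γ z : P) : Ω) = g z := fun z => by rw [← autFun_coe, hγ1 _ z.2]
        show ((γ⁻¹ (κ (γ⁻¹⁻¹ x)) : P) : Ω) = _
        rw [inv_inv]
        have h3 : g ((γ⁻¹ (κ (γ x)) : P) : Ω) = ((κ (γ x) : P) : Ω) := by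
          rw [← hγx, MulAut.apply_inv_self]
        have h4 : ((γ⁻¹ (κ (γ x)) : P) : Ω) = g' ((κ (γ x) : P) : Ω) := by
          rw [← h3, e1 _ (hPN (γ⁻¹ (κ (γ x))).2)]
        rw [h4, h2, hg'.1.map_conj htN (hPN (γ x).2), hγx, e1 _ (hPN x.2)]
    intro δ hδ κ hκ
    have hδF : δ ∈ F.autGroup P := by
      rcases hδ with rfl | rfl
      · exact hγF
      · exact Subgroup.inv_mem _ hγF
    rw [hB] at hκ ⊢
    have h2 : (pResidual p X).map X.subtype ⊔ autInducedBy T P ≤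
        ((pResidual p X).map X.subtype ⊔ autInducedBy T P).comap (MulAut.conj δ).toMonoidHom := by
      refine sup_le (fun y hy => ?_) (fun y hy => ?_)
      · exact Subgroup.mem_sup_left (resid_conj (hXn δ hδF) hy)
      · exact Subgroup.mem_sup_right (hTT δ hδ y hy)
    exact h2 hκ
  refine Subgroup.mem_normalizer_iff.2 fun κ => ⟨hγB γ (Or.inl rfl) κ, fun h => ?_⟩
  have := hγB γ⁻¹ (Or.inr rfl) _ h
  rwa [inv_inv, show γ⁻¹ * (γ * κ * γ⁻¹) * γ = κ by group] at this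

/-- the residual of a normal subgroup of `Aut_F(P)` meets `Aut_S(P)` in a subgroup generated by commutators -/
theorem hyper_gen [Finite S] [Fact p.Prime] (hS : IsPGroup p S) (hP : F.IsFullyAutomized p P) {X B : Subgroup (MulAut P)}
    (hX : X ≤ F.autGroup P) (hXn : ∀ α ∈ F.autGroup P, ∀ κ ∈ X, α * κ * α⁻¹ ∈ X)
    (h0 : ∀ (Q : Subgroup (MulAut P)) (γ κ : MulAut P), Q ≤ X → Q ≤ autInducedBy S P → γ ∈ X → (orderOf γ).Coprime p →
      (∀ ν ∈ Q, γ * ν * γ⁻¹ ∈ Q) → κ ∈ Q → κ⁻¹ * (γ * κ * γ⁻¹) ∈ B) {α : MulAut P}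
    (hα : α ∈ (pResidual p X).map X.subtype) (hα' : α ∈ autInducedBy S P) : α ∈ B := by
  have hPS := hP.1
  have hfin : Finite P := finite_of_le hPS
  have hSp : IsPGroup p (autInducedBy S P) := isPGroup_autInducedBy hS le_rfl
  have hidx : ¬ p ∣ (autInducedBy S P ⊓ X).relIndex X := by
    refine Cfsg.Agent.Lib.FusionThmA2.not_dvd_relIndex inf_le_right (hSp.to_le inf_le_left) fun K hK hKp => ?_
    obtain ⟨χ, hχ, h1⟩ := exists_conj_le_autInducedBy hP K (hK.trans hX) hKp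
    exact ⟨fun κ => χ * κ * χ⁻¹, fun x y hxy => by simpa using hxy, fun κ hκ => ⟨h1 κ hκ, hXn χ hχ κ (hK hκ)⟩⟩
  have hRp : IsPGroup p ((autInducedBy S P).subgroupOf X) := by
    intro x
    obtain ⟨k, hk⟩ := hSp ⟨x.1.1, x.2⟩
    have hk' : (x.1.1 : MulAut P) ^ p ^ k = 1 := congrArg Subtype.val hk
    exact ⟨k, Subtype.ext (Subtype.ext hk')⟩
  have hRi : ¬ p ∣ ((autInducedBy S P).subgroupOf X).index := by
    rw [Subgroup.inf_relIndex_right] at hidx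
    exact hidx
  let R : Sylow p X := hRp.toSylow hRi
  have hR : (R : Subgroup X) = (autInducedBy S P).subgroupOf X := rfl
  obtain ⟨α', hα1, rfl⟩ := hα
  have hmemR : ∀ β : X, β ∈ (R : Subgroup X) ↔ (β : MulAut P) ∈ autInducedBy S P := by
    intro β
    rw [hR, Subgroup.mem_subgroupOf]
  have h1 : α' ∈ (groupFusionSystem (R : Subgroup X)).hyperfocalSubgroup p := by
    rw [Cfsg.Agent.S5093.result p R]; exact ⟨(hmemR α').2 hα', hα1⟩
  rw [Cfsg.Agent.Lib.FusionHyper.hyp_eq] at h1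
  have h2 : Subgroup.closure {y : X | ∃ (Q : Subgroup X) (β : MulAut Q), Q ≤ (R : Subgroup _) ∧
      β ∈ (groupFusionSystem (R : Subgroup X)).autGroup Q ∧ (orderOf β).Coprime p ∧
      ∃ x : Q, y = (x : X)⁻¹ * (β x : Q)} ≤ B.subgroupOf X := by
    rw [Subgroup.closure_le]
    rintro y ⟨Q, β, hQ, hβ, ho, x, hy⟩
    have h3 := fmap_of_autGroup hQ hβ
    obtain ⟨-, -, g, hg⟩ := fmap_group_iff.1 h3
    have hg' : ∀ y : Q, g * (y : X) * g⁻¹ = (β y : Q) := by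
      intro y
      rw [← hg y y.2, autFun_coe]
    have hgn : g ∈ Subgroup.normalizer (Q : Set X) := by
      refine Cfsg.Agent.Lib.FusionGrp.mem_normalizer_of_conj_mem (fun y hy => ?_)
      rw [hg' ⟨y, hy⟩]
      exact (β ⟨y, hy⟩).2
    have hπ : Q.normalizerMonoidHom ⟨g, hgn⟩ = β := by
      refine MulEquiv.ext fun y => Subtype.ext ?_
      exact hg' y
    obtain ⟨r, hr1, hr2⟩ := Cfsg.Agent.Lib.FusionQuotHyp.exists_coprime_lift (p := p) Q.normalizerMonoidHom ⟨g, hgn⟩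
      (by rw [hπ]; exact ho)
    obtain ⟨γ, hγ⟩ : ∃ γ : X, γ = g ^ r := ⟨_, rfl⟩
    have hγo : (orderOf (γ : MulAut P)).Coprime p := by
      rw [Subgroup.orderOf_coe, hγ]
      rw [← Subgroup.orderOf_coe] at hr1
      exact hr1
    have hγβ : ∀ y : Q, ((β y : Q) : X) = γ * (y : X) * γ⁻¹ := by
      intro y
      have h4 := congrArg (fun β : MulAut Q => ((β y : Q) : X)) (hr2.trans hπ)
      rw [hγ]
      exact h4.symm
    rw [SetLike.mem_coe, Subgroup.mem_subgroupOf, hy, hγβ]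
    refine h0 (Q.map X.subtype) γ x (Subgroup.map_subtype_le Q) ?_ γ.2 hγo ?_ ⟨x, x.2, rfl⟩
    · rintro _ ⟨ν, hν, rfl⟩
      exact (hmemR ν).1 (hQ hν)
    · rintro _ ⟨ν, hν, rfl⟩
      refine ⟨γ * ν * γ⁻¹, ?_, rfl⟩
      have := (β ⟨ν, hν⟩).2
      rwa [hγβ] at this
  exact h2 h1

end Cfsg.Agent.Lib.FusionMeet
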